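import Mathlib
import Groth.Agent.Lib.FunFldHypDiff_helper2
import Groth.Agent.Lib.FunFldLocResB_helper2

/-! Differentials of an Artin–Schreier double cover of the line through Laurent expansions
(helper2). -/

open Polynomial IntermediateField WithZero Module

namespace FunFld

universe u v w

section Wronski

variable {k : Type*} [Field k]

theorem coeff_derivative_mul_top {g h : k[X]} {n : ℕ} (hn : n + 1 = g.natDegree + h.natDegree) :
    (derivative g * h).coeff n = (g.natDegree : k) * (g.leadingCoeff * h.leadingCoeff) := by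
  rcases Nat.eq_zero_or_pos g.natDegree with ha | ha
  · rw [derivative_of_natDegree_zero ha, zero_mul, coeff_zero, ha, Nat.cast_zero, zero_mul]
  · obtain ⟨a', ha'⟩ : ∃ a', g.natDegree = a' + 1 := ⟨g.natDegree - 1, by omega⟩
    have hn' : n = a' + h.natDegree := by omega
    have h1 : (derivative g).natDegree ≤ a' := by
      have := natDegree_derivative_le g
      omega
    rw [hn', coeff_mul_add_eq_of_natDegree_le h1 le_rfl, coeff_derivative]
    show _ = (g.natDegree : k) * (g.coeff g.natDegree * h.coeff h.natDegree)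
    rw [ha']
    push_cast
    ring

theorem coeff_mul_derivative_top {g h : k[X]} {n : ℕ} (hn : n + 1 = g.natDegree + h.natDegree) :
    (g * derivative h).coeff n = (h.natDegree : k) * (g.leadingCoeff * h.leadingCoeff) := by
  rw [mul_comm g, coeff_derivative_mul_top (g := h) (h := g) (by omega), mul_comm h.leadingCoeff]

theorem natDegree_wronski {g h : k[X]} (hg : g ≠ 0) (hh : h ≠ 0)
    (hne : ((g.natDegree : k) - (h.natDegree : k)) ≠ 0) :
    derivative g * h - g * derivative h ≠ 0 ∧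
      (derivative g * h - g * derivative h).natDegree + 1 = g.natDegree + h.natDegree := by
  have hpos : 1 ≤ g.natDegree + h.natDegree := by
    by_contra hlt
    have h1 : g.natDegree = 0 := by omega
    have h2 : h.natDegree = 0 := by omega
    rw [h1, h2, sub_self] at hne
    exact hne rfl
  obtain ⟨n, hn⟩ : ∃ n, n + 1 = g.natDegree + h.natDegree :=
    ⟨g.natDegree + h.natDegree - 1, by omega⟩
  have hcoeff : (derivative g * h - g * derivative h).coeff n =
      ((g.natDegree : k) - h.natDegree) * (g.leadingCoeff * h.leadingCoeff) := by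
    rw [coeff_sub, coeff_derivative_mul_top hn, coeff_mul_derivative_top hn]
    ring
  have hc0 : (derivative g * h - g * derivative h).coeff n ≠ 0 := by
    rw [hcoeff]
    exact mul_ne_zero hne (mul_ne_zero (leadingCoeff_ne_zero.mpr hg) (leadingCoeff_ne_zero.mpr hh))
  have hle : (derivative g * h - g * derivative h).natDegree ≤ n := by
    refine (natDegree_sub_le _ _).trans (max_le ?_ ?_)
    · rcases Nat.eq_zero_or_pos g.natDegree with ha | ha
      · rw [derivative_of_natDegree_zero ha, zero_mul, natDegree_zero]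
        exact Nat.zero_le _
      · refine natDegree_mul_le.trans ?_
        have := natDegree_derivative_le g
        omega
    · rcases Nat.eq_zero_or_pos h.natDegree with hb | hb
      · rw [derivative_of_natDegree_zero hb, mul_zero, natDegree_zero]
        exact Nat.zero_le _
      · refine natDegree_mul_le.trans ?_
        have := natDegree_derivative_le h
        omega
  have hge : n ≤ (derivative g * h - g * derivative h).natDegree := le_natDegree_of_ne_zero hc0
  refine ⟨fun h0 => hc0 (by rw [h0, coeff_zero]), ?_⟩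
  omega

theorem eq_exp_sub_of_exp_eq_mul {w : WithZero (Multiplicative ℤ)} {a b : ℤ}
    (h : exp a = exp b * w) : w = exp (a - b) := by
  rw [exp_sub, eq_div_iff exp_ne_zero, mul_comm, h]

end Wronski

section ExtVal

variable {k : Type*} {K : Type*} {K' : Type*} [Field k] [Field K] [Field K'] [Algebra k K]
  [Algebra K K'] [Algebra k K']

theorem IsOverWith.val_eq_exp {Q : Place k K'} {P : Place k K} {e : ℕ} (he : IsOverWith Q P e)
    {r : K} (hr : r ≠ 0) : Q.1 (algebraMap K K' r) = exp (-((e : ℤ) * P.ord r)) := by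
  rw [he r, P.val_eq_exp_neg_ord hr, ← exp_nsmul]
  congr 1
  rw [nsmul_eq_mul, mul_neg]

end ExtVal

section RatD

variable {k : Type u} {K : Type v} [Field k] [Field K] [Algebra k K] [Algebra (RatFunc k) K]
  [IsScalarTower k (RatFunc k) K] {F : Type w} [Field F] [Algebra k F]

theorem D_exp_ratFunc_mul (ψ : K →ₐ[k] LaurentSeries F) {r : RatFunc k} {g h : k[X]}
    (hr : r * algebraMap k[X] (RatFunc k) h = algebraMap k[X] (RatFunc k) g) :
    LocRes.D F (ψ (algebraMap (RatFunc k) K r)) *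
        ψ (algebraMap (RatFunc k) K (algebraMap k[X] (RatFunc k) h)) =
      ψ (algebraMap (RatFunc k) K (algebraMap k[X] (RatFunc k) (derivative g) -
        r * algebraMap k[X] (RatFunc k) (derivative h))) *
        LocRes.D F (ψ (algebraMap (RatFunc k) K RatFunc.X)) := by
  have h1 := congrArg (fun t => LocRes.D F (ψ (algebraMap (RatFunc k) K t))) hr
  simp only [map_mul] at h1
  rw [Derivation.leibniz, algebraMap_poly_eq_aeval, algebraMap_poly_eq_aeval, D_exp_poly,
    D_exp_poly] at h1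
  rw [map_sub, map_sub, map_mul, map_mul, algebraMap_poly_eq_aeval, algebraMap_poly_eq_aeval,
    algebraMap_poly_eq_aeval]
  simp only [smul_eq_mul] at h1
  linear_combination h1

omit [Field K] [Algebra k K] [Algebra (RatFunc k) K] [IsScalarTower k (RatFunc k) K] in
theorem Place.ratFunc_val_denom_eq_one (p : Place k (RatFunc k))
    (hX : p.1 (RatFunc.X : RatFunc k) ≤ 1) {u : RatFunc k} (hu : p.1 u ≤ 1) :
    p.1 (algebraMap k[X] (RatFunc k) u.denom) = 1 := by
  have hd0 := RatFunc.denom_ne_zero u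
  have hd0' : algebraMap k[X] (RatFunc k) u.denom ≠ 0 := RatFunc.algebraMap_ne_zero hd0
  by_contra hne
  have hlt : p.1 (algebraMap k[X] (RatFunc k) u.denom) < 1 :=
    lt_of_le_of_ne (p.ratFunc_val_poly_le_one hX _) hne
  obtain ⟨π, hπ, hπd, hπv⟩ := p.ratFunc_exists_irreducible hX hd0 hlt
  have hπn : ¬ π ∣ u.num := fun h =>
    hπ.not_isUnit ((RatFunc.isCoprime_num_denom u).isUnit_of_dvd' h hπd)
  have hnum := p.ratFunc_val_eq_one_of_not_dvd hπ hπv hπn
  have h1 : algebraMap k[X] (RatFunc k) u.num = u * algebraMap k[X] (RatFunc k) u.denom :=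
    (div_eq_iff hd0').mp (RatFunc.num_div_denom u)
  have h2 : p.1 (algebraMap k[X] (RatFunc k) u.num) < 1 := by
    rw [h1, map_mul]
    calc p.1 u * p.1 (algebraMap k[X] (RatFunc k) u.denom)
        ≤ 1 * p.1 (algebraMap k[X] (RatFunc k) u.denom) := mul_le_mul' hu le_rfl
      _ = p.1 (algebraMap k[X] (RatFunc k) u.denom) := one_mul _
      _ < 1 := hlt
  rw [hnum] at h2
  exact lt_irrefl _ h2

theorem exists_D_exp_integral (p : Place k (RatFunc k))
    (hX : p.1 (RatFunc.X : RatFunc k) ≤ 1) {u : RatFunc k} (hu : p.1 u ≤ 1) :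
    ∃ c : RatFunc k, p.1 c ≤ 1 ∧
      ∀ (F' : Type w) [Field F'] [Algebra k F'] (ψ : K →ₐ[k] LaurentSeries F'),
        LocRes.D F' (ψ (algebraMap (RatFunc k) K u)) =
          ψ (algebraMap (RatFunc k) K c) *
            LocRes.D F' (ψ (algebraMap (RatFunc k) K RatFunc.X)) := by
  have hden := p.ratFunc_val_denom_eq_one hX hu
  have hd0' : algebraMap k[X] (RatFunc k) u.denom ≠ 0 :=
    RatFunc.algebraMap_ne_zero (RatFunc.denom_ne_zero u)
  have h1 : u * algebraMap k[X] (RatFunc k) u.denom = algebraMap k[X] (RatFunc k) u.num :=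
    ((div_eq_iff hd0').mp (RatFunc.num_div_denom u)).symm
  refine ⟨(algebraMap k[X] (RatFunc k) (derivative u.num) -
    u * algebraMap k[X] (RatFunc k) (derivative u.denom)) /
      algebraMap k[X] (RatFunc k) u.denom, ?_, ?_⟩
  · rw [map_div₀, hden, div_one]
    refine (Valuation.map_sub _ _ _).trans (max_le (p.ratFunc_val_poly_le_one hX _) ?_)
    rw [map_mul]
    calc p.1 u * p.1 (algebraMap k[X] (RatFunc k) (derivative u.denom))
        ≤ 1 * 1 := mul_le_mul' hu (p.ratFunc_val_poly_le_one hX _)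
      _ = 1 := one_mul 1
  · intro F' _ _ ψ
    have h2 := D_exp_ratFunc_mul (K := K) ψ h1
    have h3 : ψ (algebraMap (RatFunc k) K (algebraMap k[X] (RatFunc k) u.denom)) ≠ 0 := by
      rw [Ne, map_eq_zero, map_eq_zero]
      exact hd0'
    rw [map_div₀, map_div₀, div_mul_eq_mul_div, eq_div_iff h3]
    exact h2

omit [Algebra (RatFunc k) K] [IsScalarTower k (RatFunc k) K] in
theorem D_exp_pow_of_odd (h2 : (2 : k) = 0) (ψ : K →ₐ[k] LaurentSeries F) (a : K) (n : ℕ) :
    LocRes.D F (ψ (a ^ (2 * n + 1))) = ψ (a ^ (2 * n)) * LocRes.D F (ψ a) := by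
  have h2L : (2 : LaurentSeries F) = 0 := by
    have := congrArg (algebraMap k (LaurentSeries F)) h2
    rwa [map_ofNat, map_zero] at this
  rw [map_pow ψ, map_pow ψ, Derivation.leibniz_pow, Nat.add_sub_cancel, nsmul_eq_mul, smul_eq_mul]
  push_cast
  rw [h2L]
  ring

end RatD

section AS

variable {k : Type u} {K : Type v} [Field k] [Field K] [Algebra k K] [Algebra (RatFunc k) K]
  [IsScalarTower k (RatFunc k) K] {F : Type w} [Field F] [Algebra k F]

theorem as_val_D_f (h2 : (2 : k) = 0) {y : K} {f : RatFunc k}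
    (heq : y ^ 2 + y = algebraMap (RatFunc k) K f) {Q : Place k K} {p : Place k (RatFunc k)}
    (he : IsOverWith Q p 2) {d : ℤ} (hord : p.ord f = 1 - 2 * d) (hd : 1 ≤ d)
    {φ : K →ₐ[k] LaurentSeries F} (hφ : LocRes.IsExpansionAt Q.1 φ) :
    Valued.v (LocRes.D F (φ (algebraMap (RatFunc k) K f))) = exp (2 * d) := by
  have hneg : p.ord f < 0 := by omega
  obtain ⟨hy0, hoy⟩ := as_ord_y heq he hneg
  have hof := he.ord_eq f
  have hoy' : Q.ord y = 1 - 2 * d := by
    rw [hof, hord] at hoy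
    push_cast at hoy
    omega
  have h2L : (2 : LaurentSeries F) = 0 := by
    have := congrArg (algebraMap k (LaurentSeries F)) h2
    rwa [map_ofNat, map_zero] at this
  have hDy : LocRes.D F (φ (algebraMap (RatFunc k) K f)) = LocRes.D F (φ y) := by
    rw [← heq, map_add, map_pow, map_add, pow_two, Derivation.leibniz]
    have h3 : φ y • LocRes.D F (φ y) + φ y • LocRes.D F (φ y) = 0 := by
      rw [← two_smul (LaurentSeries F) (φ y • LocRes.D F (φ y)), h2L, zero_smul]
    rw [h3, zero_add]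
  rw [hDy]
  have h1 := laurent_val_D_eq (φ y) (1 - 2 * d)
    (by rw [hφ.1, Q.val_eq_exp_neg_ord hy0, hoy']) (cast_odd_ne_zero h2 ⟨-d, by ring⟩)
  rw [h1]
  congr 1
  ring

theorem as_val_D_exp_X_of_finite_pole [PerfectField k] (h2 : (2 : k) = 0) {y : K}
    {f : RatFunc k} (heq : y ^ 2 + y = algebraMap (RatFunc k) K f) {Q : Place k K}
    {p : Place k (RatFunc k)} (he : IsOverWith Q p 2) (hX : p.1 (RatFunc.X : RatFunc k) ≤ 1)
    {d : ℕ} (hd : 1 ≤ d) (hord : p.ord f = 1 - 2 * (d : ℤ))
    {φ : K →ₐ[k] LaurentSeries F} (hφ : LocRes.IsExpansionAt Q.1 φ) :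
    Valued.v (LocRes.D F (φ (algebraMap (RatFunc k) K RatFunc.X))) = exp (-(2 * (d : ℤ))) := by
  classical
  obtain ⟨d', rfl⟩ : ∃ d', d = d' + 1 := ⟨d - 1, by omega⟩
  have hvDf := as_val_D_f h2 heq he (d := ((d' + 1 : ℕ) : ℤ)) hord (by push_cast; omega) hφ
  have hf0 : f ≠ 0 := by
    rintro rfl
    rw [p.ord_zero] at hord
    push_cast at hord
    omega
  obtain ⟨π, hπ, hπv⟩ := p.ratFunc_exists_irreducible_of_finite hX
  have hπo := p.ratFunc_ord_irreducible hπ hπv
  have hπ'v : p.1 (algebraMap k[X] (RatFunc k) (derivative π)) = 1 := by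
    apply p.ratFunc_val_eq_one_of_not_dvd hπ hπv
    intro hdvd
    have hsep : IsCoprime π (derivative π) := PerfectField.separable_of_irreducible hπ
    exact hπ.not_isUnit (hsep.isUnit_of_dvd' (dvd_refl π) hdvd)
  obtain ⟨P, hP⟩ : ∃ P : RatFunc k, P = algebraMap k[X] (RatFunc k) π := ⟨_, rfl⟩
  obtain ⟨P', hP'⟩ : ∃ P' : RatFunc k, P' = algebraMap k[X] (RatFunc k) (derivative π) :=
    ⟨_, rfl⟩
  rw [← hP] at hπo
  rw [← hP'] at hπ'v
  have hP0 : P ≠ 0 := by
    rw [hP]
    exact RatFunc.algebraMap_ne_zero hπ.ne_zero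
  have hP'0 : P' ≠ 0 := by
    intro h
    rw [h, map_zero] at hπ'v
    exact zero_ne_one hπ'v
  have hP'o : p.ord P' = 0 := (p.ord_eq_zero_iff hP'0).mpr hπ'v
  obtain ⟨u, hu⟩ : ∃ u : RatFunc k, u = f * P ^ (2 * d' + 1) := ⟨_, rfl⟩
  have hu0 : u ≠ 0 := by
    rw [hu]
    exact mul_ne_zero hf0 (pow_ne_zero _ hP0)
  have huo : p.ord u = 0 := by
    rw [hu, p.ord_mul hf0 (pow_ne_zero _ hP0), p.ord_pow, hπo, hord]
    push_cast
    ring
  have hu1 : p.1 u ≤ 1 := ((p.ord_eq_zero_iff hu0).mp huo).le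
  obtain ⟨c, hc1, hcD⟩ := exists_D_exp_integral (K := K) p hX hu1
  have hD0 := hcD F φ
  obtain ⟨W, hW⟩ : ∃ W, W = LocRes.D F (φ (algebraMap (RatFunc k) K RatFunc.X)) := ⟨_, rfl⟩
  rw [← hW] at hD0 ⊢
  have hDP : LocRes.D F (φ (algebraMap (RatFunc k) K P)) =
      φ (algebraMap (RatFunc k) K P') * W := by
    rw [hP, hP', algebraMap_poly_eq_aeval, algebraMap_poly_eq_aeval, D_exp_poly, hW]
  have hDPm : LocRes.D F (φ (algebraMap (RatFunc k) K (P ^ (2 * d' + 1)))) =
      φ (algebraMap (RatFunc k) K (P ^ (2 * d') * P')) * W := by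
    rw [map_pow (algebraMap (RatFunc k) K), D_exp_pow_of_odd h2, hDP]
    simp only [map_mul, map_pow]
    ring
  -- the main identity
  obtain ⟨t, ht⟩ : ∃ t : RatFunc k, t = f * (P ^ (2 * d') * P') := ⟨_, rfl⟩
  have hid : φ (algebraMap (RatFunc k) K (P ^ (2 * d' + 1))) *
      LocRes.D F (φ (algebraMap (RatFunc k) K f)) =
      φ (algebraMap (RatFunc k) K (c - t)) * W := by
    have h1 := hD0
    rw [hu, map_mul, map_mul, Derivation.leibniz, hDPm, smul_eq_mul, smul_eq_mul] at h1
    rw [map_sub, map_sub, ht, map_mul, map_mul]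
    linear_combination h1
  have ht0 : t ≠ 0 := by
    rw [ht]
    exact mul_ne_zero hf0 (mul_ne_zero (pow_ne_zero _ hP0) hP'0)
  have hto : p.ord t = -1 := by
    rw [ht, p.ord_mul hf0 (mul_ne_zero (pow_ne_zero _ hP0) hP'0),
      p.ord_mul (pow_ne_zero _ hP0) hP'0, p.ord_pow, hπo, hP'o, hord]
    push_cast
    ring
  have htv : p.1 t = exp (1 : ℤ) := by
    rw [p.val_eq_exp_neg_ord ht0, hto, neg_neg]
  have hctv : p.1 (c - t) = exp (1 : ℤ) := by
    rw [Valuation.map_sub_eq_of_lt_right, htv]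
    rw [htv]
    refine lt_of_le_of_lt hc1 ?_
    rw [← exp_zero (M := ℤ), exp_lt_exp]
    norm_num
  have hct0 : c - t ≠ 0 := by
    intro h
    rw [h, map_zero] at hctv
    exact exp_ne_zero hctv.symm
  have hcto : p.ord (c - t) = -1 := by
    unfold Place.ord
    rw [hctv, log_exp]
  have hval := congrArg (fun z : LaurentSeries F => Valued.v z) hid
  simp only [map_mul] at hval
  rw [hφ.1, hφ.1, hvDf, he.val_eq_exp (pow_ne_zero _ hP0), he.val_eq_exp hct0, p.ord_pow, hπo,
    hcto, ← exp_add] at hval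
  rw [eq_exp_sub_of_exp_eq_mul hval]
  congr 1
  push_cast
  ring

theorem as_val_D_exp_X_of_inf_pole (h2 : (2 : k) = 0) {y : K}
    {f : RatFunc k} (heq : y ^ 2 + y = algebraMap (RatFunc k) K f) {Q : Place k K}
    {p : Place k (RatFunc k)} (he : IsOverWith Q p 2)
    (hinf : p.ord (RatFunc.X : RatFunc k) < 0)
    {d : ℕ} (hd : 1 ≤ d) (hord : p.ord f = 1 - 2 * (d : ℤ))
    {φ : K →ₐ[k] LaurentSeries F} (hφ : LocRes.IsExpansionAt Q.1 φ) :
    Valued.v (LocRes.D F (φ (algebraMap (RatFunc k) K RatFunc.X))) = exp (4 - 2 * (d : ℤ)) := by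
  classical
  have hvDf := as_val_D_f h2 heq he (d := (d : ℤ)) hord (by exact_mod_cast hd) hφ
  have hf0 : f ≠ 0 := by
    rintro rfl
    rw [p.ord_zero] at hord
    omega
  have hg0 : f.num ≠ 0 := RatFunc.num_ne_zero hf0
  have hh0 : f.denom ≠ 0 := RatFunc.denom_ne_zero f
  have hG0 : algebraMap k[X] (RatFunc k) f.num ≠ 0 := RatFunc.algebraMap_ne_zero hg0
  have hH0 : algebraMap k[X] (RatFunc k) f.denom ≠ 0 := RatFunc.algebraMap_ne_zero hh0
  have hfgh : f * algebraMap k[X] (RatFunc k) f.denom = algebraMap k[X] (RatFunc k) f.num :=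
    ((div_eq_iff hH0).mp (RatFunc.num_div_denom f)).symm
  have hog := p.ratFunc_ord_poly_of_inf hinf hg0
  have hoh := p.ratFunc_ord_poly_of_inf hinf hh0
  have hab : (f.num.natDegree : ℤ) = f.denom.natDegree + 2 * d - 1 := by
    have h1 : p.ord f + p.ord (algebraMap k[X] (RatFunc k) f.denom) =
        p.ord (algebraMap k[X] (RatFunc k) f.num) := by
      rw [← p.ord_mul hf0 hH0, hfgh]
    rw [hog, hoh, hord] at h1
    omega
  have hne : ((f.num.natDegree : k) - (f.denom.natDegree : k)) ≠ 0 := by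
    have h3 : ((f.num.natDegree + 1 : ℕ) : k) = ((f.denom.natDegree + 2 * d : ℕ) : k) := by
      congr 1
      omega
    push_cast at h3
    rw [h2, zero_mul, add_zero] at h3
    rw [← h3]
    ring_nf
    exact neg_ne_zero.mpr one_ne_zero
  obtain ⟨hwr0, hwr⟩ := natDegree_wronski hg0 hh0 hne
  obtain ⟨wr, hwrdef⟩ : ∃ wr : k[X],
      wr = derivative f.num * f.denom - f.num * derivative f.denom := ⟨_, rfl⟩
  rw [← hwrdef] at hwr hwr0
  have hid := D_exp_ratFunc_mul (K := K) φ hfgh
  obtain ⟨t, ht⟩ : ∃ t : RatFunc k, t = algebraMap k[X] (RatFunc k) (derivative f.num) -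
      f * algebraMap k[X] (RatFunc k) (derivative f.denom) := ⟨_, rfl⟩
  rw [← ht] at hid
  have htw : t * algebraMap k[X] (RatFunc k) f.denom = algebraMap k[X] (RatFunc k) wr := by
    rw [ht, hwrdef, map_sub, map_mul, map_mul, ← hfgh]
    ring
  have hW0 : algebraMap k[X] (RatFunc k) wr ≠ 0 := RatFunc.algebraMap_ne_zero hwr0
  have ht0 : t ≠ 0 := by
    rintro rfl
    rw [zero_mul] at htw
    exact hW0 htw.symm
  have hto : p.ord t = 1 - (f.num.natDegree : ℤ) := by
    have h1 : p.ord t + p.ord (algebraMap k[X] (RatFunc k) f.denom) =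
        p.ord (algebraMap k[X] (RatFunc k) wr) := by
      rw [← p.ord_mul ht0 hH0, htw]
    rw [hoh, p.ratFunc_ord_poly_of_inf hinf hwr0] at h1
    omega
  have hval := congrArg (fun z : LaurentSeries F => Valued.v z) hid
  simp only [map_mul] at hval
  rw [hφ.1, hφ.1, hvDf, he.val_eq_exp hH0, he.val_eq_exp ht0, hoh, hto, ← exp_add] at hval
  rw [eq_exp_sub_of_exp_eq_mul hval]
  congr 1
  push_cast
  omega

end AS

section ASMain

variable {k : Type u} {K : Type v} [Field k] [Field K] [Algebra k K] [Algebra (RatFunc k) K]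
  [IsScalarTower k (RatFunc k) K] {F : Type w} [Field F] [Algebra k F]

theorem mul_exp_le_one_iff (w : WithZero (Multiplicative ℤ)) (a c : ℤ) (h : a + c = 0) :
    w * exp a ≤ 1 ↔ w ≤ exp c := by
  rw [← exp_zero (M := ℤ), mul_exp_le_iff]
  have h1 : (0 : ℤ) - a = c := by omega
  rw [h1]

theorem as_idx_eq_one_of_val_le_one (h2 : (2 : k) = 0) (hdeg : Module.finrank (RatFunc k) K = 2)
    {y : K} (hyr : y ∉ (algebraMap (RatFunc k) K).range) {f : RatFunc k}
    (heq : y ^ 2 + y = algebraMap (RatFunc k) K f) {Q : Place k K} {p : Place k (RatFunc k)}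
    {e : ℕ} (he : IsOverWith Q p e) (hreg : p.1 f ≤ 1) : e = 1 := by
  have hKr := isFunctionField_ratFunc (k := k)
  haveI : FiniteDimensional (RatFunc k) K := Module.finite_of_finrank_pos (by omega)
  have h2F : (2 : RatFunc k) = 0 := by
    rw [← map_ofNat (algebraMap k (RatFunc k)) 2, h2, map_zero]
  obtain ⟨σ, hσ⟩ := exists_algEquiv_add_one h2F hdeg hyr heq
  have hle := he.le_finrank hKr
  rw [hdeg] at hle
  have hpos := he.pos
  by_contra hne
  have he2 : e = 2 := by omega
  have hy1 := as_val_y_le_one heq he hreg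
  have h1 := he.val_conj_sub_lt_one hKr (he2.trans hdeg.symm) σ hy1
  rw [hσ, add_sub_cancel_left, map_one] at h1
  exact lt_irrefl _ h1

theorem as_vDiff_le_one_iff [PerfectField k] (h2 : (2 : k) = 0)
    (hdeg : Module.finrank (RatFunc k) K = 2)
    {y : K} (hyr : y ∉ (algebraMap (RatFunc k) K).range) {f : RatFunc k}
    (heq : y ^ 2 + y = algebraMap (RatFunc k) K f) (A : Divisor k (RatFunc k))
    (hA : ∀ p : Place k (RatFunc k), p.ord f < 0 → p.ord f = 1 - 2 * A p ∧ 1 ≤ A p)
    (hA0 : ∀ p : Place k (RatFunc k), 0 ≤ p.ord f → A p = 0)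
    (Pinf : Place k (RatFunc k)) (hinf : Pinf.ord (RatFunc.X : RatFunc k) < 0)
    (Q : Place k K) {φ : K →ₐ[k] LaurentSeries F} (hφ : LocRes.IsExpansionAt Q.1 φ) (z : K) :
    LocRes.vDiff φ z (algebraMap (RatFunc k) K RatFunc.X) ≤ 1 ↔
      Q.1 z ≤ exp ((conorm K (A - Finsupp.single Pinf 2 : Divisor k (RatFunc k))) Q) := by
  classical
  have hKr := isFunctionField_ratFunc (k := k)
  haveI : FiniteDimensional (RatFunc k) K := Module.finite_of_finrank_pos (by omega)
  obtain ⟨p, e, he⟩ := exists_isOverWith hKr Q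
  rw [conorm_apply_isOverWith hKr _ he, Finsupp.sub_apply]
  unfold LocRes.vDiff
  rw [map_mul, hφ.1]
  by_cases hneg : p.ord f < 0
  · obtain ⟨hd1, hd2⟩ := hA p hneg
    have he2 : IsOverWith Q p 2 := isOverWith_two_of_odd hKr hdeg ⟨e, he⟩
      (as_ord_y heq he hneg).2 ⟨-A p, by rw [hd1]; ring⟩
    have hee : e = 2 := he.unique_idx he2
    obtain ⟨n, hn⟩ : ∃ n : ℕ, A p = n := ⟨(A p).toNat, by omega⟩
    have hn1 : 1 ≤ n := by omega
    rw [hn] at hd1
    by_cases hp : p = Pinf
    · have hinf' : p.ord (RatFunc.X : RatFunc k) < 0 := hp ▸ hinf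
      have hs : (Finsupp.single Pinf (2 : ℤ) : Divisor k (RatFunc k)) p = 2 := by
        rw [hp, Finsupp.single_eq_same]
      rw [as_val_D_exp_X_of_inf_pole h2 heq he2 hinf' hn1 hd1 hφ, hs]
      refine mul_exp_le_one_iff _ _ _ ?_
      rw [hee, hn]
      push_cast
      ring
    · have hX := p.ratFunc_val_X_le_one_of_ne Pinf hinf hp
      have hs : (Finsupp.single Pinf (2 : ℤ) : Divisor k (RatFunc k)) p = 0 := by
        rw [Finsupp.single_apply, if_neg (Ne.symm hp)]
      rw [as_val_D_exp_X_of_finite_pole h2 heq he2 hX hn1 hd1 hφ, hs]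
      refine mul_exp_le_one_iff _ _ _ ?_
      rw [hee, hn]
      push_cast
      ring
  · push Not at hneg
    have hreg : p.1 f ≤ 1 := by
      by_cases hf0 : f = 0
      · rw [hf0, map_zero]
        exact zero_le
      · exact (p.ord_nonneg_iff hf0).mp hneg
    have he1 : e = 1 := as_idx_eq_one_of_val_le_one h2 hdeg hyr heq he hreg
    have heF : ((e : ℕ) : F) ≠ 0 := by
      rw [he1, Nat.cast_one]
      exact one_ne_zero
    rw [hA0 p hneg]
    by_cases hp : p = Pinf
    · have hinf' : p.ord (RatFunc.X : RatFunc k) < 0 := hp ▸ hinf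
      have hs : (Finsupp.single Pinf (2 : ℤ) : Divisor k (RatFunc k)) p = 2 := by
        rw [hp, Finsupp.single_eq_same]
      rw [val_D_exp_X_of_inf he hinf' hφ heF, hs]
      refine mul_exp_le_one_iff _ _ _ ?_
      rw [he1]
      norm_num
    · have hX := p.ratFunc_val_X_le_one_of_ne Pinf hinf hp
      have hs : (Finsupp.single Pinf (2 : ℤ) : Divisor k (RatFunc k)) p = 0 := by
        rw [Finsupp.single_apply, if_neg (Ne.symm hp)]
      rw [val_D_exp_X_of_finite he hX hφ heF, hs]
      refine mul_exp_le_one_iff _ _ _ ?_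
      rw [he1]
      norm_num

theorem as_regular_differentials [PerfectField k] (hK : IsFunctionField k K)
    (hdeg : Module.finrank (RatFunc k) K = 2) (h2 : (2 : k) = 0)
    {y : K} (hyr : y ∉ (algebraMap (RatFunc k) K).range) {f : RatFunc k}
    (heq : y ^ 2 + y = algebraMap (RatFunc k) K f)
    (hodd : ∀ p : Place k (RatFunc k), 1 < p.1 f → Odd (p.ord f))
    (q : k[X]) (hq0 : q ≠ 0)
    (hq : ∀ p : Place k (RatFunc k), p.1 (RatFunc.X : RatFunc k) ≤ 1 →
      (1 < p.1 f → p.ord (algebraMap k[X] (RatFunc k) q) = (1 - p.ord f) / 2) ∧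
      (¬ 1 < p.1 f → p.ord (algebraMap k[X] (RatFunc k) q) = 0))
    (F : Place k K → Type w) [∀ P, Field (F P)] [∀ P, Algebra k (F P)]
    (φ : ∀ P, K →ₐ[k] LaurentSeries (F P)) (hφ : ∀ P, LocRes.IsExpansionAt P.1 (φ P)) :
    (∀ i : ℕ, i < genus k K → ∀ P,
      LocRes.vDiff (φ P)
        (algebraMap (RatFunc k) K (RatFunc.X ^ i / algebraMap k[X] (RatFunc k) q))
        (algebraMap (RatFunc k) K RatFunc.X) ≤ 1) ∧
    ∀ z : K, (∀ P, LocRes.vDiff (φ P) z (algebraMap (RatFunc k) K RatFunc.X) ≤ 1) →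
      ∃ a : k[X], a.degree < (genus k K : WithBot ℕ) ∧
        z = algebraMap (RatFunc k) K
          (algebraMap k[X] (RatFunc k) a / algebraMap k[X] (RatFunc k) q) := by
  classical
  have hKr := isFunctionField_ratFunc (k := k)
  haveI : FiniteDimensional (RatFunc k) K := Module.finite_of_finrank_pos (by omega)
  have hgen := adjoin_eq_top_of_notMem_range hdeg hyr
  obtain ⟨Pinf, hPdeg, hPord, hPall⟩ := ratFunc_exists_inf (k := k)
  have hinf : Pinf.ord (RatFunc.X : RatFunc k) < 0 := by omega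
  have hq0' : algebraMap k[X] (RatFunc k) q ≠ 0 := RatFunc.algebraMap_ne_zero hq0
  have hpole : ∀ p : Place k (RatFunc k), p.ord f < 0 ↔ 1 < p.1 f := by
    intro p
    by_cases hf0 : f = 0
    · rw [hf0, p.ord_zero, map_zero]
      simp
    · exact p.ord_neg_iff hf0
  obtain ⟨dinf, hdinf⟩ : ∃ dinf : ℤ,
      dinf = if Pinf.ord f < 0 then (1 - Pinf.ord f) / 2 else 0 := ⟨_, rfl⟩
  obtain ⟨A, hAdef⟩ : ∃ A : Divisor k (RatFunc k),
      A = div k (algebraMap k[X] (RatFunc k) q) +
        Finsupp.single Pinf ((q.natDegree : ℤ) + dinf) := ⟨_, rfl⟩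
  have hqinf : Pinf.ord (algebraMap k[X] (RatFunc k) q) = -(q.natDegree : ℤ) :=
    Pinf.ratFunc_ord_poly_of_inf hinf hq0
  have hAinf : A Pinf = dinf := by
    rw [hAdef, Finsupp.add_apply, div_apply hKr, Finsupp.single_eq_same, hqinf]
    ring
  have hAfin : ∀ p, p ≠ Pinf → A p = p.ord (algebraMap k[X] (RatFunc k) q) := by
    intro p hp
    rw [hAdef, Finsupp.add_apply, div_apply hKr, Finsupp.single_apply, if_neg (Ne.symm hp),
      add_zero]
  have hA : ∀ p : Place k (RatFunc k), p.ord f < 0 → p.ord f = 1 - 2 * A p ∧ 1 ≤ A p := by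
    intro p hneg
    have hodd' := hodd p ((hpole p).mp hneg)
    obtain ⟨m, hm⟩ := hodd'
    by_cases hp : p = Pinf
    · rw [hp] at hneg hm ⊢
      rw [hAinf, hdinf, if_pos hneg]
      constructor <;> omega
    · have hX := p.ratFunc_val_X_le_one_of_ne Pinf hinf hp
      rw [hAfin p hp, (hq p hX).1 ((hpole p).mp hneg)]
      constructor <;> omega
  have hA0 : ∀ p : Place k (RatFunc k), 0 ≤ p.ord f → A p = 0 := by
    intro p hnn
    by_cases hp : p = Pinf
    · rw [hp] at hnn ⊢
      rw [hAinf, hdinf, if_neg (not_lt.mpr hnn)]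
    · have hX := p.ratFunc_val_X_le_one_of_ne Pinf hinf hp
      rw [hAfin p hp]
      exact (hq p hX).2 (fun h => absurd ((hpole p).mpr h) (not_lt.mpr hnn))
  have hg := as_genus h2 hK hdeg hyr heq A hA hA0
  have hdegA : Divisor.deg A = (q.natDegree : ℤ) + dinf := by
    rw [hAdef, deg_add, deg_div_eq_zero hKr, deg_single, hPdeg]
    push_cast
    ring
  rw [hdegA] at hg
  have key : ∀ (Q : Place k K) (z : K),
      LocRes.vDiff (φ Q) z (algebraMap (RatFunc k) K RatFunc.X) ≤ 1 ↔
      Q.1 z ≤ exp ((conorm K (A - Finsupp.single Pinf 2 : Divisor k (RatFunc k))) Q) :=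
    fun Q z => as_vDiff_le_one_iff h2 hdeg hyr heq A hA hA0 Pinf hinf Q (hφ Q) z
  constructor
  · intro i hi P
    rw [key]
    have hXi0 : (RatFunc.X : RatFunc k) ^ i ≠ 0 := pow_ne_zero i RatFunc.X_ne_zero
    have hr0 : (RatFunc.X : RatFunc k) ^ i / algebraMap k[X] (RatFunc k) q ≠ 0 :=
      div_ne_zero hXi0 hq0'
    have h1 : (RatFunc.X : RatFunc k) ^ i / algebraMap k[X] (RatFunc k) q ∈
        L (A - Finsupp.single Pinf 2 : Divisor k (RatFunc k)) := by
      rw [mem_L]
      intro p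
      rw [p.val_le_exp_iff hr0, Finsupp.sub_apply, div_eq_mul_inv,
        p.ord_mul hXi0 (inv_ne_zero hq0'), p.ord_inv, p.ord_pow]
      by_cases hp : p = Pinf
      · rw [hp, Finsupp.single_eq_same, hAinf, hqinf, hPord]
        have : (i : ℤ) < genus k K := by exact_mod_cast hi
        omega
      · rw [Finsupp.single_apply, if_neg (Ne.symm hp), sub_zero, hAfin p hp]
        have hX := p.ratFunc_val_X_le_one_of_ne Pinf hinf hp
        have h3 : 0 ≤ p.ord (RatFunc.X : RatFunc k) :=
          (p.ord_nonneg_iff RatFunc.X_ne_zero).mpr hX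
        have h4 : 0 ≤ (i : ℤ) * p.ord (RatFunc.X : RatFunc k) :=
          mul_nonneg (Int.natCast_nonneg i) h3
        linarith
    exact (mem_L.mp ((algebraMap_mem_L_conorm_iff (K' := K) hKr _ _).mpr h1)) P
  · intro z hz
    have hzL : z ∈ L (conorm K (A - Finsupp.single Pinf 2 : Divisor k (RatFunc k))) := by
      rw [mem_L]
      intro Q
      exact (key Q z).mp (hz Q)
    have hq0e : aeval y (X ^ 2 + (X - C f) : (RatFunc k)[X]) = 0 := by
      rw [map_add, map_sub, map_pow, aeval_X, aeval_C]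
      linear_combination heq
    have hqm : (X ^ 2 + (X - C f) : (RatFunc k)[X]).Monic :=
      monic_X_pow_add (by rw [degree_X_sub_C]; norm_num)
    have hq2 : (X ^ 2 + (X - C f) : (RatFunc k)[X]).natDegree = 2 := by
      have hdeg1 : (X - C f : (RatFunc k)[X]).natDegree = 1 := natDegree_X_sub_C f
      rw [natDegree_add_eq_left_of_natDegree_lt (by rw [hdeg1, natDegree_X_pow]; norm_num),
        natDegree_X_pow]
    obtain ⟨a', b', hab⟩ := exists_eq_mul_add_of_quadratic hqm hq2 hq0e hgen z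
    rw [hab] at hzL
    obtain ⟨ha', hb'⟩ := (as_mem_L_iff h2 hdeg hyr heq A hA hA0 _ a' b').mp hzL
    have ha0 : a' = 0 := by
      have hneg : Divisor.deg (A - Finsupp.single Pinf 2 - A : Divisor k (RatFunc k)) < 0 := by
        rw [deg_sub, deg_sub, deg_single, hPdeg]
        push_cast
        omega
      rw [L_eq_bot_of_deg_neg hKr _ hneg] at ha'
      exact (Submodule.mem_bot _).mp ha'
    have hbq : b' * algebraMap k[X] (RatFunc k) q ∈
        L (Finsupp.single Pinf (dinf - 2 + (q.natDegree : ℤ)) : Divisor k (RatFunc k)) := by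
      rw [mem_L]
      intro p
      have hbp := (mem_L.mp hb') p
      rw [Finsupp.sub_apply] at hbp
      rw [map_mul, p.val_eq_exp_neg_ord hq0']
      by_cases hp : p = Pinf
      · rw [hp] at hbp ⊢
        rw [Finsupp.single_eq_same, hAinf] at hbp
        rw [Finsupp.single_eq_same, hqinf, neg_neg, exp_add]
        exact mul_le_mul' hbp le_rfl
      · rw [Finsupp.single_apply, if_neg (Ne.symm hp), sub_zero, hAfin p hp] at hbp
        rw [Finsupp.single_apply, if_neg (Ne.symm hp), exp_zero]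
        calc p.1 b' * exp (-p.ord (algebraMap k[X] (RatFunc k) q))
            ≤ exp (p.ord (algebraMap k[X] (RatFunc k) q)) *
              exp (-p.ord (algebraMap k[X] (RatFunc k) q)) := mul_le_mul' hbp le_rfl
          _ = 1 := by rw [← exp_add, add_neg_cancel, exp_zero]
    obtain ⟨a, hba, hadeg⟩ := ratFunc_mem_L_single_inf Pinf hinf _ hbq
    refine ⟨a, ?_, ?_⟩
    · by_cases ha : a = 0
      · rw [ha, degree_zero]
        exact WithBot.bot_lt_coe _
      · have := hadeg ha
        rw [← natDegree_lt_iff_degree_lt ha]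
        have h5 : (a.natDegree : ℤ) < genus k K := by omega
        exact_mod_cast h5
    · rw [hab, ha0, map_zero, zero_mul, zero_add, ← hba, mul_div_cancel_right₀ _ hq0']

end ASMain

end FunFld
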