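import Mathlib
import Groth.Agent.Lib.FunFldASDiff_helper2
import Groth.Agent.Lib.FunFldH_helper2

/-! Artin–Schreier covers of the line in characteristic two with poles at a finite set `B ⊆ k`:
orders of `y (x - α)^j`, and the Frobenius on repartition classes (helper2). -/

open Polynomial IntermediateField WithZero Module

namespace FunFld

universe u v

section RatPlaces

variable {k : Type*} [Field k]

theorem ratFunc_X_sub_C_eq (α : k) : (RatFunc.X : RatFunc k) - RatFunc.C α =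
    algebraMap k[X] (RatFunc k) (Polynomial.X - Polynomial.C α) := by
  rw [map_sub, RatFunc.algebraMap_X, RatFunc.algebraMap_C]

theorem Place.ratFunc_ord_X_sub_C (p : Place k (RatFunc k)) (α : k)
    (h : p.1 ((RatFunc.X : RatFunc k) - RatFunc.C α) < 1) :
    p.ord ((RatFunc.X : RatFunc k) - RatFunc.C α) = 1 := by
  rw [ratFunc_X_sub_C_eq] at h ⊢
  exact p.ratFunc_ord_irreducible (Polynomial.irreducible_X_sub_C α) h

theorem Place.ratFunc_val_C (p : Place k (RatFunc k)) {c : k} (hc : c ≠ 0) :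
    p.1 (RatFunc.C c) = 1 := by
  rw [← RatFunc.algebraMap_eq_C]
  exact p.val_algebraMap hc

theorem Place.ratFunc_val_C_le (p : Place k (RatFunc k)) (c : k) :
    p.1 (RatFunc.C c) ≤ 1 := by
  rw [← RatFunc.algebraMap_eq_C]
  exact p.2.1 c

theorem Place.ratFunc_val_X_sub_C_of_ne (p : Place k (RatFunc k)) {α β : k} (hne : α ≠ β)
    (h : p.1 ((RatFunc.X : RatFunc k) - RatFunc.C β) < 1) :
    p.1 ((RatFunc.X : RatFunc k) - RatFunc.C α) = 1 := by
  have h1 : (RatFunc.X : RatFunc k) - RatFunc.C α =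
      ((RatFunc.X : RatFunc k) - RatFunc.C β) + RatFunc.C (β - α) := by
    rw [map_sub]
    ring
  have hC : p.1 (RatFunc.C (β - α)) = 1 := p.ratFunc_val_C (sub_ne_zero.mpr hne.symm)
  rw [h1, Valuation.map_add_eq_of_lt_right _ (by rw [hC]; exact h), hC]

theorem Place.ratFunc_val_X_sub_C_of_inf (p : Place k (RatFunc k))
    (h : 1 < p.1 (RatFunc.X : RatFunc k)) (α : k) :
    p.1 ((RatFunc.X : RatFunc k) - RatFunc.C α) = p.1 (RatFunc.X : RatFunc k) := by
  rw [sub_eq_add_neg, Valuation.map_add_eq_of_lt_left]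
  rw [Valuation.map_neg]
  exact lt_of_le_of_lt (p.ratFunc_val_C_le α) h

theorem ratFunc_adele_le : adele k (RatFunc k) ≤
    AD (0 : Divisor k (RatFunc k)) ⊔ LinearMap.range (diag k (RatFunc k)) := by
  have hKr := isFunctionField_ratFunc (k := k)
  obtain ⟨hfd, hrank⟩ := finrank_adele_quot hKr (0 : Divisor k (RatFunc k))
  rw [ratFunc_genus, deg_zero, ell_zero hKr] at hrank
  have h0 : Module.finrank k (↥(adele k (RatFunc k)) ⧸ ADK (0 : Divisor k (RatFunc k))) = 0 := by
    push_cast at hrank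
    omega
  haveI := hfd
  have hsub : Subsingleton (↥(adele k (RatFunc k)) ⧸ ADK (0 : Divisor k (RatFunc k))) :=
    Module.finrank_zero_iff.mp h0
  have htop : ADK (0 : Divisor k (RatFunc k)) = ⊤ := Submodule.Quotient.subsingleton_iff.mp hsub
  intro a ha
  have h1 : (⟨a, ha⟩ : adele k (RatFunc k)) ∈ ADK (0 : Divisor k (RatFunc k)) := by
    rw [htop]
    trivial
  exact h1

theorem pi_single_mem_adele {K : Type*} [Field K] [Algebra k K] [DecidableEq (Place k K)]
    (P : Place k K) (z : K) : (Pi.single P z : Place k K → K) ∈ adele k K := by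
  show ∀ᶠ Q : Place k K in Filter.cofinite, Q.1 ((Pi.single P z : Place k K → K) Q) ≤ 1
  rw [Filter.eventually_cofinite]
  refine (Set.finite_singleton P).subset ?_
  intro Q hQ
  by_contra hne
  apply hQ
  rw [Pi.single_eq_of_ne hne, map_zero]
  exact zero_le

end RatPlaces

section Main

variable {k : Type u} {K : Type v} [Field k] [Field K] [Algebra k K] [Algebra (RatFunc k) K]
  [IsScalarTower k (RatFunc k) K]

theorem algebraMap_X_sub_C (α : k) :
    algebraMap (RatFunc k) K ((RatFunc.X : RatFunc k) - RatFunc.C α) =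
      algebraMap (RatFunc k) K RatFunc.X - algebraMap k K α := by
  rw [map_sub, ← RatFunc.algebraMap_eq_C, ← IsScalarTower.algebraMap_apply]

theorem as_B_place (h2 : (2 : k) = 0) (hdeg : Module.finrank (RatFunc k) K = 2) {y : K}
    {f : RatFunc k} (heq : y ^ 2 + y = algebraMap (RatFunc k) K f) (B : Finset k) (d : k → ℕ)
    (hd : ∀ β ∈ B, Odd (d β))
    (hpole : ∀ (p : Place k (RatFunc k)) (β : k), β ∈ B →
      p.1 ((RatFunc.X : RatFunc k) - RatFunc.C β) < 1 → p.ord f = -(d β : ℤ))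
    {P : Place k K} {β : k} (hβ : β ∈ B)
    (hP : P.1 (algebraMap (RatFunc k) K RatFunc.X - algebraMap k K β) < 1) :
    ∃ p : Place k (RatFunc k), IsOverWith P p 2 ∧
      p.1 ((RatFunc.X : RatFunc k) - RatFunc.C β) < 1 ∧ p.ord f = -(d β : ℤ) ∧
      P.ord y = -(d β : ℤ) ∧ y ≠ 0 ∧
      P.ord (algebraMap (RatFunc k) K RatFunc.X - algebraMap k K β) = 2 := by
  have hKr := isFunctionField_ratFunc (k := k)
  haveI : FiniteDimensional (RatFunc k) K := Module.finite_of_finrank_pos (by omega)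
  obtain ⟨p, e, he⟩ := exists_isOverWith hKr P
  rw [← algebraMap_X_sub_C, he] at hP
  have hp : p.1 ((RatFunc.X : RatFunc k) - RatFunc.C β) < 1 := by
    by_contra hge
    push Not at hge
    exact absurd hP (not_lt.mpr (one_le_pow₀ hge))
  have hof := hpole p β hβ hp
  obtain ⟨m, hm⟩ := hd β hβ
  have hneg : p.ord f < 0 := by
    rw [hof]
    omega
  obtain ⟨hy0, hoy⟩ := as_ord_y heq he hneg
  have he2 : IsOverWith P p 2 := isOverWith_two_of_odd hKr hdeg ⟨e, he⟩ hoy
    ⟨-(m : ℤ) - 1, by rw [hof, hm]; push_cast; ring⟩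
  have hoy' : P.ord y = -(d β : ℤ) := by
    rw [he2.ord_eq, hof] at hoy
    push_cast at hoy
    omega
  refine ⟨p, he2, hp, hof, hoy', hy0, ?_⟩
  rw [← algebraMap_X_sub_C, he2.ord_eq, p.ratFunc_ord_X_sub_C β hp]
  norm_num

theorem as_B_inf (h2 : (2 : k) = 0) (hdeg : Module.finrank (RatFunc k) K = 2) {y : K}
    (hyr : y ∉ (algebraMap (RatFunc k) K).range)
    {f : RatFunc k} (heq : y ^ 2 + y = algebraMap (RatFunc k) K f) (B : Finset k)
    (hint : ∀ p : Place k (RatFunc k),
      (∀ β ∈ B, 1 ≤ p.1 ((RatFunc.X : RatFunc k) - RatFunc.C β)) → p.1 f ≤ 1)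
    {P : Place k K} (hP : 1 < P.1 (algebraMap (RatFunc k) K RatFunc.X)) :
    ∃ p : Place k (RatFunc k), IsOverWith P p 1 ∧ 1 < p.1 (RatFunc.X : RatFunc k) ∧
      P.1 y ≤ 1 ∧ P.ord (algebraMap (RatFunc k) K RatFunc.X) = -1 := by
  have hKr := isFunctionField_ratFunc (k := k)
  haveI : FiniteDimensional (RatFunc k) K := Module.finite_of_finrank_pos (by omega)
  obtain ⟨p, e, he⟩ := exists_isOverWith hKr P
  rw [he] at hP
  have hp : 1 < p.1 (RatFunc.X : RatFunc k) := by
    by_contra hle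
    push Not at hle
    exact absurd hP (not_lt.mpr (pow_le_one₀ zero_le hle))
  have hreg : p.1 f ≤ 1 := hint p (fun β _ => by
    rw [p.ratFunc_val_X_sub_C_of_inf hp β]
    exact hp.le)
  have he1 : e = 1 := as_idx_eq_one_of_val_le_one h2 hdeg hyr heq he hreg
  rw [he1] at he
  refine ⟨p, he, hp, as_val_y_le_one heq he hreg, ?_⟩
  rw [he.ord_eq, (p.ratFunc_inf ((p.ord_neg_iff RatFunc.X_ne_zero).mpr hp)).1]
  norm_num

theorem as_B_generic {y : K} {f : RatFunc k} (heq : y ^ 2 + y = algebraMap (RatFunc k) K f)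
    (hdeg : Module.finrank (RatFunc k) K = 2) (B : Finset k)
    (hint : ∀ p : Place k (RatFunc k),
      (∀ β ∈ B, 1 ≤ p.1 ((RatFunc.X : RatFunc k) - RatFunc.C β)) → p.1 f ≤ 1)
    {P : Place k K}
    (hP : ∀ β ∈ B, 1 ≤ P.1 (algebraMap (RatFunc k) K RatFunc.X - algebraMap k K β)) :
    P.1 y ≤ 1 := by
  have hKr := isFunctionField_ratFunc (k := k)
  haveI : FiniteDimensional (RatFunc k) K := Module.finite_of_finrank_pos (by omega)
  obtain ⟨p, e, he⟩ := exists_isOverWith hKr P
  have hreg : p.1 f ≤ 1 := hint p (fun β hβ => by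
    have h1 := hP β hβ
    rw [← algebraMap_X_sub_C, he] at h1
    by_contra hlt
    push Not at hlt
    exact absurd h1 (not_le.mpr (pow_lt_one₀ zero_le hlt he.pos.ne')))
  exact as_val_y_le_one heq he hreg

/-- S19045. -/
theorem as_B_orders (h2 : (2 : k) = 0) (hdeg : Module.finrank (RatFunc k) K = 2) {y : K}
    (hyr : y ∉ (algebraMap (RatFunc k) K).range)
    {f : RatFunc k} (heq : y ^ 2 + y = algebraMap (RatFunc k) K f) (B : Finset k) (d : k → ℕ)
    (hd : ∀ β ∈ B, Odd (d β))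
    (hpole : ∀ (p : Place k (RatFunc k)) (β : k), β ∈ B →
      p.1 ((RatFunc.X : RatFunc k) - RatFunc.C β) < 1 → p.ord f = -(d β : ℤ))
    (hint : ∀ p : Place k (RatFunc k),
      (∀ β ∈ B, 1 ≤ p.1 ((RatFunc.X : RatFunc k) - RatFunc.C β)) → p.1 f ≤ 1) :
    (∀ P : Place k K, 1 < P.1 (algebraMap (RatFunc k) K RatFunc.X) → 0 ≤ P.ord y) ∧
    (∃ P : Place k K, 1 < P.1 (algebraMap (RatFunc k) K RatFunc.X) ∧ P.ord y = 0) ∧
    ∀ (α : k), α ∈ B → ∀ (j : ℤ) (P : Place k K),
      (P.1 ((algebraMap (RatFunc k) K RatFunc.X) - (algebraMap k K α)) < 1 →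
        max (-(P.ord (y * ((algebraMap (RatFunc k) K RatFunc.X) - (algebraMap k K α)) ^ j))) 0 =
          max ((d α : ℤ) - 2 * j) 0) ∧
      (∀ β : k, β ∈ B → β ≠ α →
        P.1 ((algebraMap (RatFunc k) K RatFunc.X) - (algebraMap k K β)) < 1 →
        P.ord (y * ((algebraMap (RatFunc k) K RatFunc.X) - (algebraMap k K α)) ^ j) =
          -(d β : ℤ)) ∧
      (1 < P.1 (algebraMap (RatFunc k) K RatFunc.X) →
        max (-(P.ord (y * ((algebraMap (RatFunc k) K RatFunc.X) - (algebraMap k K α)) ^ j))) 0 =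
          max (j - P.ord y) 0) ∧
      (P.1 (algebraMap (RatFunc k) K RatFunc.X) ≤ 1 →
        (∀ β : k, β ∈ B →
          1 ≤ P.1 ((algebraMap (RatFunc k) K RatFunc.X) - (algebraMap k K β))) →
        0 ≤ P.ord (y * ((algebraMap (RatFunc k) K RatFunc.X) - (algebraMap k K α)) ^ j)) := by
  classical
  have hKr := isFunctionField_ratFunc (k := k)
  haveI : FiniteDimensional (RatFunc k) K := Module.finite_of_finrank_pos (by omega)
  have h2F : (2 : RatFunc k) = 0 := by
    rw [← map_ofNat (algebraMap k (RatFunc k)) 2, h2, map_zero]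
  have hy0 : y ≠ 0 := by
    rintro rfl
    exact hyr ⟨0, map_zero _⟩
  have hxα : ∀ α : k, algebraMap (RatFunc k) K RatFunc.X - algebraMap k K α ≠ 0 := by
    intro α h
    rw [← algebraMap_X_sub_C, map_eq_zero, ratFunc_X_sub_C_eq] at h
    exact Polynomial.X_sub_C_ne_zero α ((map_eq_zero_iff _ (IsFractionRing.injective k[X] (RatFunc k))).mp h)
  refine ⟨?_, ?_, ?_⟩
  · intro P hP
    obtain ⟨p, -, -, hy1, -⟩ := as_B_inf h2 hdeg hyr heq B hint hP
    exact (P.ord_nonneg_iff hy0).mpr hy1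
  · obtain ⟨Pinf, hPdeg, hPord, -⟩ := ratFunc_exists_inf (k := k)
    obtain ⟨P, e, he⟩ := exists_isOver_above (K' := K) hKr Pinf
    have hPx : 1 < P.1 (algebraMap (RatFunc k) K RatFunc.X) := by
      rw [he]
      exact one_lt_pow₀ ((Pinf.ord_neg_iff RatFunc.X_ne_zero).mp (by omega)) he.pos.ne'
    obtain ⟨p, -, -, hy1, -⟩ := as_B_inf h2 hdeg hyr heq B hint hPx
    by_cases hy : P.1 y = 1
    · exact ⟨P, hPx, (P.ord_eq_zero_iff hy0).mpr hy⟩
    · have hlt : P.1 y < 1 := lt_of_le_of_ne hy1 hy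
      obtain ⟨σ, hσ⟩ := exists_algEquiv_add_one h2F hdeg hyr heq
      refine ⟨P.comapAlgEquiv σ, ?_, ?_⟩
      · rw [Place.comapAlgEquiv_apply, σ.commutes]
        exact hPx
      · rw [(Place.ord_eq_zero_iff _ hy0), Place.comapAlgEquiv_apply, hσ,
          Valuation.map_add_eq_of_lt_right _ (by rw [map_one]; exact hlt), map_one]
  · intro α hα j P
    have hw : ∀ (a : ℤ), P.ord (algebraMap (RatFunc k) K RatFunc.X - algebraMap k K α) = a →
        P.ord (y * (algebraMap (RatFunc k) K RatFunc.X - algebraMap k K α) ^ j) =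
          P.ord y + j * a := by
      intro a ha
      rw [P.ord_mul hy0 (zpow_ne_zero j (hxα α)), P.ord_zpow, ha]
    refine ⟨?_, ?_, ?_, ?_⟩
    · intro hP
      obtain ⟨p, -, -, -, hoy, -, hox⟩ := as_B_place h2 hdeg heq B d hd hpole hα hP
      rw [hw 2 hox, hoy]
      congr 1
      ring
    · intro β hβ hne hP
      obtain ⟨p, he2, hp, -, hoy, -, -⟩ := as_B_place h2 hdeg heq B d hd hpole hβ hP
      have h1 : P.1 (algebraMap (RatFunc k) K RatFunc.X - algebraMap k K α) = 1 := by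
        rw [← algebraMap_X_sub_C, he2, p.ratFunc_val_X_sub_C_of_ne hne.symm hp, one_pow]
      rw [hw 0 ((P.ord_eq_zero_iff (hxα α)).mpr h1), hoy]
      ring
    · intro hP
      obtain ⟨p, he1, hp, -, hox⟩ := as_B_inf h2 hdeg hyr heq B hint hP
      have h1 : P.ord (algebraMap (RatFunc k) K RatFunc.X - algebraMap k K α) = -1 := by
        rw [← algebraMap_X_sub_C, he1.ord_eq]
        have h3 : p.ord ((RatFunc.X : RatFunc k) - RatFunc.C α) = p.ord (RatFunc.X : RatFunc k) := by
          unfold Place.ord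
          rw [p.ratFunc_val_X_sub_C_of_inf hp α]
        rw [h3, (p.ratFunc_inf ((p.ord_neg_iff RatFunc.X_ne_zero).mpr hp)).1]
        norm_num
      rw [hw (-1) h1]
      congr 1
      ring
    · intro hPx hPB
      have hy1 := as_B_generic heq hdeg B hint hPB
      have h1 : P.1 (algebraMap (RatFunc k) K RatFunc.X - algebraMap k K α) = 1 := by
        apply le_antisymm _ (hPB α hα)
        exact (Valuation.map_sub _ _ _).trans (max_le hPx (P.2.1 α))
      rw [hw 0 ((P.ord_eq_zero_iff (hxα α)).mpr h1), mul_zero, add_zero]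
      exact (P.ord_nonneg_iff hy0).mpr hy1

end Main

end FunFld
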