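import Mathlib
import Groth.Agent.Lib.FunFldASB_helper2

/-! Frobenius on repartition classes of an Artin–Schreier cover of the line (helper2). -/

open Polynomial IntermediateField WithZero Module

namespace FunFld

universe u v

section Main

variable {k : Type u} {K : Type v} [Field k] [Field K] [Algebra k K] [Algebra (RatFunc k) K]
  [IsScalarTower k (RatFunc k) K]

/-- A repartition of `K` supported at the unique place over `p`, with value from `k(x)`, lies in
`A(0) + K`. -/
theorem pi_single_algebraMap_mem (hdeg : Module.finrank (RatFunc k) K = 2)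
    [DecidableEq (Place k K)] {P : Place k K} {p : Place k (RatFunc k)} (he : IsOverWith P p 2)
    (r : RatFunc k) :
    (Pi.single P (algebraMap (RatFunc k) K r) : Place k K → K) ∈
      AD (0 : Divisor k K) ⊔ LinearMap.range (diag k K) := by
  classical
  have hKr := isFunctionField_ratFunc (k := k)
  haveI : FiniteDimensional (RatFunc k) K := Module.finite_of_finrank_pos (by omega)
  obtain ⟨huniq, -⟩ := he.unique_of_eq_finrank hKr hdeg.symm
  have hmem := ratFunc_adele_le (pi_single_mem_adele p r)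
  obtain ⟨a₀, ha₀, b, ⟨h, rfl⟩, hsum⟩ := Submodule.mem_sup.mp hmem
  have hp : p.1 (r - h) ≤ 1 := by
    have h1 := congrFun hsum p
    rw [Pi.add_apply, Pi.single_eq_same] at h1
    have h3 : a₀ p = r - h := by
      rw [← h1]
      show a₀ p = a₀ p + h - h
      ring
    rw [← h3]
    have := ha₀ p
    rwa [Finsupp.coe_zero, Pi.zero_apply, exp_zero] at this
  have hp' : ∀ p' : Place k (RatFunc k), p' ≠ p → p'.1 h ≤ 1 := by
    intro p' hne
    have h1 := congrFun hsum p'
    rw [Pi.add_apply, Pi.single_eq_of_ne hne] at h1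
    have h3 : a₀ p' = -h := by
      have h4 : a₀ p' + h = 0 := h1
      exact eq_neg_of_add_eq_zero_left h4
    have := ha₀ p'
    rwa [Finsupp.coe_zero, Pi.zero_apply, exp_zero, h3, Valuation.map_neg] at this
  rw [Submodule.mem_sup]
  refine ⟨Pi.single P (algebraMap (RatFunc k) K r) - diag k K (algebraMap (RatFunc k) K h), ?_,
    diag k K (algebraMap (RatFunc k) K h), ⟨_, rfl⟩, by rw [sub_add_cancel]⟩
  intro Q
  rw [Finsupp.coe_zero, Pi.zero_apply, exp_zero, Pi.sub_apply]
  have hdiag : diag k K (algebraMap (RatFunc k) K h) Q = algebraMap (RatFunc k) K h := rfl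
  rw [hdiag]
  by_cases hQ : Q = P
  · rw [hQ, Pi.single_eq_same, ← map_sub, he]
    exact pow_le_one₀ zero_le hp
  · rw [Pi.single_eq_of_ne hQ, zero_sub, Valuation.map_neg]
    obtain ⟨p', e', he'⟩ := exists_isOverWith hKr Q
    have hne : p' ≠ p := by
      rintro rfl
      exact hQ (huniq Q ⟨e', he'⟩)
    rw [he']
    exact pow_le_one₀ zero_le (hp' p' hne)

/-- S19047. -/
theorem as_H1_frobenius [DecidableEq (Place k K)] (h2 : (2 : k) = 0)
    (hdeg : Module.finrank (RatFunc k) K = 2) {y : K}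
    {f : RatFunc k} (heq : y ^ 2 + y = algebraMap (RatFunc k) K f) (B : Finset k) (d : k → ℕ)
    (hd : ∀ β ∈ B, Odd (d β))
    (hpole : ∀ (p : Place k (RatFunc k)) (β : k), β ∈ B →
      p.1 ((RatFunc.X : RatFunc k) - RatFunc.C β) < 1 → p.ord f = -(d β : ℤ))
    (Pl : k → Place k K)
    (hPl : ∀ β ∈ B, (Pl β).1 ((algebraMap (RatFunc k) K RatFunc.X) - (algebraMap k K β)) < 1)
    (α : k) (hα : α ∈ B) (j : ℕ) :
    (4 * j + 1 ≤ d α →
      (Pi.single (Pl α)
        ((y * ((algebraMap (RatFunc k) K RatFunc.X) - (algebraMap k K α)) ^ j) ^ 2) :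
          Place k K → K) -
      (Pi.single (Pl α)
        (y * ((algebraMap (RatFunc k) K RatFunc.X) - (algebraMap k K α)) ^ (2 * j)) :
          Place k K → K) ∈
      (AD (0 : Divisor k K) ⊔ LinearMap.range (diag k K))) ∧
    (d α < 4 * j + 1 →
      (Pi.single (Pl α)
        ((y * ((algebraMap (RatFunc k) K RatFunc.X) - (algebraMap k K α)) ^ j) ^ 2) :
          Place k K → K) ∈
      (AD (0 : Divisor k K) ⊔ LinearMap.range (diag k K))) := by
  obtain ⟨p, he2, hp, hof, hoy, hy0, hox⟩ :=
    as_B_place h2 hdeg heq B d hd hpole hα (hPl α hα)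
  have h2K : (2 : K) = 0 := by
    rw [← map_ofNat (algebraMap k K) 2, h2, map_zero]
  obtain ⟨t, ht⟩ : ∃ t : K, t = algebraMap (RatFunc k) K RatFunc.X - algebraMap k K α :=
    ⟨_, rfl⟩
  rw [← ht] at hox ⊢
  have hsq : (y * t ^ j) ^ 2 = y * t ^ (2 * j) +
      algebraMap (RatFunc k) K (f * ((RatFunc.X : RatFunc k) - RatFunc.C α) ^ (2 * j)) := by
    rw [map_mul, map_pow, algebraMap_X_sub_C, ← heq, ← ht]
    linear_combination (-(y * t ^ (2 * j))) * h2K
  have hr := pi_single_algebraMap_mem hdeg he2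
    (f * ((RatFunc.X : RatFunc k) - RatFunc.C α) ^ (2 * j))
  have ht0 : t ≠ 0 := by
    rintro rfl
    rw [(Pl α).ord_zero] at hox
    norm_num at hox
  constructor
  · intro _
    rw [hsq, Pi.single_add, add_sub_cancel_left]
    exact hr
  · intro hlt
    rw [hsq, Pi.single_add]
    refine Submodule.add_mem _ (Submodule.mem_sup_left ?_) hr
    intro Q
    rw [Finsupp.coe_zero, Pi.zero_apply, exp_zero]
    by_cases hQ : Q = Pl α
    · rw [hQ, Pi.single_eq_same]
      apply ((Pl α).ord_nonneg_iff (mul_ne_zero hy0 (pow_ne_zero _ ht0))).mp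
      rw [(Pl α).ord_mul hy0 (pow_ne_zero _ ht0), (Pl α).ord_pow, hoy, hox]
      push_cast
      omega
    · rw [Pi.single_eq_of_ne hQ, map_zero]
      exact zero_le

end Main

end FunFld
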