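import Mathlib
import Groth.Agent.Lib.FunFldASC_helper2

/-! The Artin–Schreier cover with poles at a finite set `B ⊆ k`, `k` algebraically closed of
characteristic two: the divisor `A`, regular differentials (helper2). -/

open Polynomial IntermediateField WithZero Module

namespace FunFld

universe u v w

section RatAC

variable {k : Type*} [Field k]

theorem Place.ratFunc_exists_root_of_finite [IsAlgClosed k] (p : Place k (RatFunc k))
    (hX : p.1 (RatFunc.X : RatFunc k) ≤ 1) :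
    ∃ γ : k, p.1 ((RatFunc.X : RatFunc k) - RatFunc.C γ) < 1 := by
  obtain ⟨π, hπ, hπv⟩ := p.ratFunc_exists_irreducible_of_finite hX
  have hdeg := IsAlgClosed.degree_eq_one_of_irreducible k hπ
  have hπeq := eq_X_add_C_of_degree_eq_one hdeg
  have hlc : π.leadingCoeff ≠ 0 := leadingCoeff_ne_zero.mpr hπ.ne_zero
  refine ⟨-(π.coeff 0 / π.leadingCoeff), ?_⟩
  have h1 : algebraMap k[X] (RatFunc k) π = RatFunc.C π.leadingCoeff *
      ((RatFunc.X : RatFunc k) - RatFunc.C (-(π.coeff 0 / π.leadingCoeff))) := by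
    conv_lhs => rw [hπeq]
    rw [map_add, map_mul, RatFunc.algebraMap_C, RatFunc.algebraMap_C, RatFunc.algebraMap_X,
      map_neg, map_div₀]
    have : RatFunc.C (π.leadingCoeff) ≠ (0 : RatFunc k) := by
      rw [Ne, map_eq_zero]
      exact hlc
    field_simp
    ring
  rw [h1, map_mul, p.ratFunc_val_C hlc, one_mul] at hπv
  exact hπv

theorem Place.ratFunc_val_X_sub_C_le (p : Place k (RatFunc k))
    (hX : p.1 (RatFunc.X : RatFunc k) ≤ 1) (β : k) :
    p.1 ((RatFunc.X : RatFunc k) - RatFunc.C β) ≤ 1 :=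
  (Valuation.map_sub _ _ _).trans (max_le hX (p.ratFunc_val_C_le β))

theorem Place.ratFunc_val_X_le_one_of_root (p : Place k (RatFunc k)) {γ : k}
    (h : p.1 ((RatFunc.X : RatFunc k) - RatFunc.C γ) < 1) :
    p.1 (RatFunc.X : RatFunc k) ≤ 1 := by
  have h1 : (RatFunc.X : RatFunc k) = ((RatFunc.X : RatFunc k) - RatFunc.C γ) + RatFunc.C γ := by
    ring
  rw [h1]
  exact (p.1.map_add _ _).trans (max_le h.le (p.ratFunc_val_C_le γ))

/-- The value of `∏ (X - β)^{c β}` at the place `X = γ`. -/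
theorem Place.ratFunc_ord_prod_X_sub_C [DecidableEq k] (p : Place k (RatFunc k)) {γ : k}
    (h : p.1 ((RatFunc.X : RatFunc k) - RatFunc.C γ) < 1) (B : Finset k) (c : k → ℕ) :
    p.ord (∏ β ∈ B, ((RatFunc.X : RatFunc k) - RatFunc.C β) ^ c β) =
      if γ ∈ B then (c γ : ℤ) else 0 := by
  have hne : ∀ β : k, (RatFunc.X : RatFunc k) - RatFunc.C β ≠ 0 := by
    intro β hβ
    rw [ratFunc_X_sub_C_eq] at hβ
    exact Polynomial.X_sub_C_ne_zero β
      ((map_eq_zero_iff _ (IsFractionRing.injective k[X] (RatFunc k))).mp hβ)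
  have hval : p.1 (∏ β ∈ B, ((RatFunc.X : RatFunc k) - RatFunc.C β) ^ c β) =
      if γ ∈ B then exp (-(c γ : ℤ)) else 1 := by
    rw [map_prod]
    split_ifs with hγ
    · rw [Finset.prod_eq_single_of_mem γ hγ]
      · rw [map_pow, p.val_eq_exp_neg_ord (hne γ), p.ratFunc_ord_X_sub_C γ h, ← exp_nsmul]
        congr 1
        simp
      · intro β _ hβγ
        rw [map_pow, p.ratFunc_val_X_sub_C_of_ne hβγ h, one_pow]
    · apply Finset.prod_eq_one
      intro β hβ
      have hβγ : β ≠ γ := fun h' => hγ (h' ▸ hβ)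
      rw [map_pow, p.ratFunc_val_X_sub_C_of_ne hβγ h, one_pow]
  unfold Place.ord
  rw [hval]
  split_ifs
  · rw [log_exp, neg_neg]
  · rw [log_one, neg_zero]

end RatAC

section ASB

variable {k : Type u} {K : Type v} [Field k] [Field K] [Algebra k K] [Algebra (RatFunc k) K]
  [IsScalarTower k (RatFunc k) K]

/-- The divisor `A = ∑ c_β p_β` of an Artin–Schreier cover with poles at `B`. -/
theorem as_B_exists_A [IsAlgClosed k] [DecidableEq k] {f : RatFunc k} (B : Finset k) (d : k → ℕ)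
    (hd : ∀ β ∈ B, Odd (d β))
    (hpole : ∀ (p : Place k (RatFunc k)) (β : k), β ∈ B →
      p.1 ((RatFunc.X : RatFunc k) - RatFunc.C β) < 1 → p.ord f = -(d β : ℤ))
    (hint : ∀ p : Place k (RatFunc k),
      (∀ β ∈ B, 1 ≤ p.1 ((RatFunc.X : RatFunc k) - RatFunc.C β)) → p.1 f ≤ 1) :
    ∃ (A : Divisor k (RatFunc k)) (Pinf : Place k (RatFunc k)),
      Pinf.deg = 1 ∧ Pinf.ord (RatFunc.X : RatFunc k) = -1 ∧
      (∀ p : Place k (RatFunc k), p.ord f < 0 → p.ord f = 1 - 2 * A p ∧ 1 ≤ A p) ∧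
      (∀ p : Place k (RatFunc k), 0 ≤ p.ord f → A p = 0) ∧
      A Pinf = 0 ∧
      (∀ (p : Place k (RatFunc k)) (γ : k), p.1 ((RatFunc.X : RatFunc k) - RatFunc.C γ) < 1 →
        A p = if γ ∈ B then (((d γ + 1) / 2 : ℕ) : ℤ) else 0) ∧
      Divisor.deg A = ∑ β ∈ B, (((d β + 1) / 2 : ℕ) : ℤ) := by
  classical
  have hKr := isFunctionField_ratFunc (k := k)
  obtain ⟨Pinf, hPdeg, hPord, hPall⟩ := ratFunc_exists_inf (k := k)
  have hinf : Pinf.ord (RatFunc.X : RatFunc k) < 0 := by omega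
  have hXinf : 1 < Pinf.1 (RatFunc.X : RatFunc k) := (Pinf.ord_neg_iff RatFunc.X_ne_zero).mp hinf
  obtain ⟨c, hc⟩ : ∃ c : k → ℕ, c = fun β => (d β + 1) / 2 := ⟨_, rfl⟩
  obtain ⟨q, hq⟩ : ∃ q : k[X], q = ∏ β ∈ B, (Polynomial.X - Polynomial.C β) ^ c β := ⟨_, rfl⟩
  have hqm : q.Monic := by
    rw [hq]
    exact monic_prod_of_monic _ _ (fun β _ => (monic_X_sub_C β).pow _)
  have hq0 : q ≠ 0 := hqm.ne_zero
  have hqdeg : q.natDegree = ∑ β ∈ B, c β := by
    rw [hq, natDegree_prod_of_monic _ _ (fun β _ => (monic_X_sub_C β).pow _)]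
    refine Finset.sum_congr rfl (fun β _ => ?_)
    rw [(monic_X_sub_C β).natDegree_pow, natDegree_X_sub_C, mul_one]
  have hqalg : algebraMap k[X] (RatFunc k) q =
      ∏ β ∈ B, ((RatFunc.X : RatFunc k) - RatFunc.C β) ^ c β := by
    rw [hq, map_prod]
    refine Finset.prod_congr rfl (fun β _ => ?_)
    rw [map_pow, ← ratFunc_X_sub_C_eq]
  obtain ⟨A, hAdef⟩ : ∃ A : Divisor k (RatFunc k),
      A = div k (algebraMap k[X] (RatFunc k) q) +
        Finsupp.single Pinf (q.natDegree : ℤ) := ⟨_, rfl⟩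
  have hqinf : Pinf.ord (algebraMap k[X] (RatFunc k) q) = -(q.natDegree : ℤ) :=
    Pinf.ratFunc_ord_poly_of_inf hinf hq0
  have hAinf : A Pinf = 0 := by
    rw [hAdef, Finsupp.add_apply, div_apply hKr, Finsupp.single_eq_same, hqinf]
    ring
  have hAfin : ∀ (p : Place k (RatFunc k)) (γ : k),
      p.1 ((RatFunc.X : RatFunc k) - RatFunc.C γ) < 1 →
      A p = if γ ∈ B then (c γ : ℤ) else 0 := by
    intro p γ hp
    have hne : p ≠ Pinf := by
      rintro rfl
      have := p.ratFunc_val_X_le_one_of_root hp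
      exact absurd hXinf (not_lt.mpr this)
    rw [hAdef, Finsupp.add_apply, div_apply hKr, Finsupp.single_apply, if_neg (Ne.symm hne),
      add_zero, hqalg]
    exact p.ratFunc_ord_prod_X_sub_C hp B c
  have hfinf : Pinf.1 f ≤ 1 := hint Pinf (fun β _ => by
    rw [Pinf.ratFunc_val_X_sub_C_of_inf hXinf β]
    exact hXinf.le)
  have hpoleiff : ∀ p : Place k (RatFunc k), p.ord f < 0 → 1 < p.1 f := by
    intro p hp
    by_cases hf0 : f = 0
    · rw [hf0, p.ord_zero] at hp
      exact absurd hp (lt_irrefl _)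
    · exact (p.ord_neg_iff hf0).mp hp
  -- classification of a place
  have hcls : ∀ p : Place k (RatFunc k), p = Pinf ∨
      ∃ γ : k, p.1 ((RatFunc.X : RatFunc k) - RatFunc.C γ) < 1 := by
    intro p
    by_cases hp : p = Pinf
    · exact Or.inl hp
    · exact Or.inr (p.ratFunc_exists_root_of_finite (p.ratFunc_val_X_le_one_of_ne Pinf hinf hp))
  refine ⟨A, Pinf, hPdeg, hPord, ?_, ?_, hAinf, ?_, ?_⟩
  · intro p hneg
    rcases hcls p with rfl | ⟨γ, hγ⟩
    · exact absurd (hpoleiff p hneg) (not_lt.mpr hfinf)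
    · by_cases hγB : γ ∈ B
      · rw [hAfin p γ hγ, if_pos hγB, hpole p γ hγB hγ, hc]
        obtain ⟨m, hm⟩ := hd γ hγB
        constructor
        · push_cast
          omega
        · have : 1 ≤ (d γ + 1) / 2 := by omega
          exact_mod_cast this
      · exfalso
        have hreg : p.1 f ≤ 1 := hint p (fun β hβ => by
          have hβγ : β ≠ γ := fun h' => hγB (h' ▸ hβ)
          rw [p.ratFunc_val_X_sub_C_of_ne hβγ hγ])
        exact absurd (hpoleiff p hneg) (not_lt.mpr hreg)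
  · intro p hnn
    rcases hcls p with rfl | ⟨γ, hγ⟩
    · exact hAinf
    · by_cases hγB : γ ∈ B
      · exfalso
        have := hpole p γ hγB hγ
        obtain ⟨m, hm⟩ := hd γ hγB
        omega
      · rw [hAfin p γ hγ, if_neg hγB]
  · intro p γ hγ
    rw [hAfin p γ hγ, hc]
  · rw [hAdef, deg_add, deg_div_eq_zero hKr, deg_single, hPdeg, hqdeg, hc]
    push_cast
    ring

end ASB

end FunFld
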