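import Mathlib
import Groth.Agent.Lib.FunFldASE_helper2

/-! Partial-fraction basis of the regular differentials of an Artin–Schreier cover (helper2). -/

open Polynomial IntermediateField WithZero Module

namespace FunFld

universe u v w

section Abstract

theorem eq_zero_of_sum_eq_zero_of_distinct_vals {R : Type*} [CommRing R] {ι : Type*}
    [DecidableEq ι]
    (v : Valuation R (WithZero (Multiplicative ℤ))) (s : Finset ι) (t : ι → R)
    (hsum : ∑ i ∈ s, t i = 0) (S : Finset ι) (hS : S ⊆ s) (c : WithZero (Multiplicative ℤ))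
    (hout : ∀ i ∈ s, i ∉ S → v (t i) ≤ c) (hin : ∀ i ∈ S, t i ≠ 0 → c < v (t i))
    (hdist : ∀ i ∈ S, ∀ j ∈ S, t i ≠ 0 → t j ≠ 0 → v (t i) = v (t j) → i = j) :
    ∀ i ∈ S, t i = 0 := by
  classical
  by_contra hcon
  push Not at hcon
  obtain ⟨i₁, hi₁S, hi₁⟩ := hcon
  have hTne : (S.filter fun i => t i ≠ 0).Nonempty := ⟨i₁, Finset.mem_filter.mpr ⟨hi₁S, hi₁⟩⟩
  obtain ⟨i₀, hi₀T, hmax⟩ := Finset.exists_max_image _ (fun i => v (t i)) hTne
  obtain ⟨hi₀S, hi₀⟩ := Finset.mem_filter.mp hi₀T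
  have hc0 : c < v (t i₀) := hin i₀ hi₀S hi₀
  have hv0 : v (t i₀) ≠ 0 := fun h => by
    rw [h] at hc0
    exact absurd hc0 (not_lt.mpr zero_le)
  have hkey : v (∑ i ∈ s, t i) = v (t i₀) := by
    apply Valuation.map_sum_eq_of_lt _ (hS hi₀S)
    intro i hi
    rw [Finset.mem_sdiff, Finset.mem_singleton] at hi
    obtain ⟨his, hne⟩ := hi
    by_cases hiS : i ∈ S
    · by_cases hti : t i = 0
      · rw [hti, map_zero]
        exact lt_of_le_of_ne zero_le (Ne.symm hv0)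
      · have hle := hmax i (Finset.mem_filter.mpr ⟨hiS, hti⟩)
        refine lt_of_le_of_ne hle (fun heq => hne ?_)
        exact hdist i hiS i₀ hi₀S hti hi₀ heq
    · exact lt_of_le_of_lt (hout i his hiS) hc0
  rw [hsum, map_zero] at hkey
  exact hv0 hkey.symm

end Abstract

section Idx

variable {k : Type u} [Field k]

/-- The index type of the partial-fraction basis. -/
abbrev PFIdx (B : Finset k) (d : k → ℕ) : Type u :=
  {a : ↥B × ℕ // 1 ≤ a.2 ∧ 2 * a.2 + 1 ≤ d (a.1 : k)} ⊕ {b : ↥B // (b : k) ≠ 0}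

def pfLoc {B : Finset k} {d : k → ℕ} : PFIdx B d → k
  | Sum.inl a => (a.1.1 : k)
  | Sum.inr b => (b.1 : k)

def pfOrd {B : Finset k} {d : k → ℕ} : PFIdx B d → ℕ
  | Sum.inl a => a.1.2 + 1
  | Sum.inr _ => 1

theorem pfLoc_mem {B : Finset k} {d : k → ℕ} (i : PFIdx B d) : pfLoc i ∈ B := by
  rcases i with a | b
  · exact a.1.1.2
  · exact b.1.2

theorem pfOrd_pos {B : Finset k} {d : k → ℕ} (i : PFIdx B d) : 1 ≤ pfOrd i := by
  rcases i with a | b
  · exact Nat.le_add_left 1 _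
  · exact le_rfl

theorem pf_injective {B : Finset k} {d : k → ℕ} {i j : PFIdx B d} (h1 : pfLoc i = pfLoc j)
    (h2 : pfOrd i = pfOrd j) : i = j := by
  rcases i with ⟨⟨⟨α, hα⟩, m⟩, hm⟩ | ⟨⟨β, hβ⟩, hβ0⟩ <;>
    rcases j with ⟨⟨⟨α', hα'⟩, m'⟩, hm'⟩ | ⟨⟨β', hβ'⟩, hβ0'⟩
  · simp only [pfLoc, pfOrd] at h1 h2
    subst h1
    have : m = m' := by omega
    subst this
    rfl
  · simp only [pfLoc, pfOrd] at h1 h2
    simp only at hm
    omega
  · simp only [pfLoc, pfOrd] at h1 h2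
    simp only at hm'
    omega
  · simp only [pfLoc, pfOrd] at h1 h2
    subst h1
    rfl

theorem pfOrd_le {B : Finset k} {d : k → ℕ} (hd : ∀ β ∈ B, Odd (d β)) (i : PFIdx B d) :
    pfOrd i ≤ (d (pfLoc i) + 1) / 2 := by
  rcases i with ⟨⟨⟨α, hα⟩, m⟩, hm⟩ | ⟨⟨β, hβ⟩, hβ0⟩
  · simp only [pfLoc, pfOrd]
    simp only at hm
    omega
  · simp only [pfLoc, pfOrd]
    obtain ⟨r, hr⟩ := hd β hβ
    omega

theorem pf_card {B : Finset k} {d : k → ℕ} (h0 : (0 : k) ∈ B) (hd : ∀ β ∈ B, Odd (d β)) :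
    Finite (PFIdx B d) ∧ Nat.card (PFIdx B d) + 1 = ∑ β ∈ B, (d β + 1) / 2 := by
  classical
  obtain ⟨S, hS⟩ : ∃ S : Finset (Σ _ : k, ℕ),
      S = (B.sigma fun β => Finset.Icc 1 ((d β + 1) / 2)).erase ⟨0, 1⟩ := ⟨_, rfl⟩
  have hmemS : ∀ i : PFIdx B d, (⟨pfLoc i, pfOrd i⟩ : Σ _ : k, ℕ) ∈ S := by
    intro i
    rw [hS, Finset.mem_erase, Finset.mem_sigma, Finset.mem_Icc]
    refine ⟨?_, pfLoc_mem i, pfOrd_pos i, pfOrd_le hd i⟩
    rcases i with ⟨⟨⟨α, hα⟩, m⟩, hm⟩ | ⟨⟨β, hβ⟩, hβ0⟩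
    · intro h
      simp only [pfLoc, pfOrd, Sigma.mk.injEq, heq_eq_eq] at h
      simp only at hm
      omega
    · intro h
      simp only [pfLoc, pfOrd, Sigma.mk.injEq, heq_eq_eq] at h
      exact hβ0 h.1
  let Φ : PFIdx B d → ↥S := fun i => ⟨⟨pfLoc i, pfOrd i⟩, hmemS i⟩
  have hinj : Function.Injective Φ := by
    intro i j hij
    have h1 := congrArg (fun x : ↥S => x.1.1) hij
    have h2 := congrArg (fun x : ↥S => x.1.2) hij
    exact pf_injective h1 h2
  have hsurj : Function.Surjective Φ := by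
    rintro ⟨⟨β, m⟩, hmem⟩
    have hmem' := hmem
    rw [hS, Finset.mem_erase, Finset.mem_sigma, Finset.mem_Icc] at hmem'
    obtain ⟨hne, hβ, hm1, hm2⟩ := hmem'
    simp only at hm1 hm2 hβ
    by_cases hm : m = 1
    · subst hm
      have hβ0 : β ≠ 0 := fun h => hne (by rw [h])
      exact ⟨Sum.inr ⟨⟨β, hβ⟩, hβ0⟩, rfl⟩
    · obtain ⟨m', rfl⟩ : ∃ m', m = m' + 1 := ⟨m - 1, by omega⟩
      obtain ⟨r, hr⟩ := hd β hβ
      exact ⟨Sum.inl ⟨(⟨β, hβ⟩, m'), ⟨by omega, by simp only; omega⟩⟩, rfl⟩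
  have hfin : Finite (PFIdx B d) := Finite.of_injective Φ hinj
  refine ⟨hfin, ?_⟩
  have h01 : (⟨0, 1⟩ : Σ _ : k, ℕ) ∈ B.sigma fun β => Finset.Icc 1 ((d β + 1) / 2) := by
    rw [Finset.mem_sigma, Finset.mem_Icc]
    obtain ⟨r, hr⟩ := hd 0 h0
    exact ⟨h0, le_rfl, by simp only; omega⟩
  have hpos : 1 ≤ ∑ β ∈ B, (d β + 1) / 2 := by
    have h1 := Finset.single_le_sum (f := fun β => (d β + 1) / 2) (fun _ _ => Nat.zero_le _) h0
    obtain ⟨r, hr⟩ := hd 0 h0
    omega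
  rw [Nat.card_congr (Equiv.ofBijective Φ ⟨hinj, hsurj⟩), Nat.card_eq_fintype_card,
    Fintype.card_coe, hS, Finset.card_erase_of_mem h01, Finset.card_sigma]
  simp only [Nat.card_Icc, Nat.add_sub_cancel]
  omega

/-- The partial-fraction family in `k(x)`. -/
noncomputable def pfFun {B : Finset k} {d : k → ℕ} : PFIdx B d → RatFunc k
  | Sum.inl a => ((RatFunc.X : RatFunc k) - RatFunc.C (a.1.1 : k))⁻¹ ^ (a.1.2 + 1)
  | Sum.inr b => RatFunc.C (b.1 : k) /
      ((RatFunc.X : RatFunc k) * ((RatFunc.X : RatFunc k) - RatFunc.C (b.1 : k)))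

theorem ratFunc_X_sub_C_ne_zero (β : k) : (RatFunc.X : RatFunc k) - RatFunc.C β ≠ 0 := by
  intro hβ
  rw [ratFunc_X_sub_C_eq] at hβ
  exact Polynomial.X_sub_C_ne_zero β
    ((map_eq_zero_iff _ (IsFractionRing.injective k[X] (RatFunc k))).mp hβ)

theorem pfFun_ne_zero {B : Finset k} {d : k → ℕ} (i : PFIdx B d) : pfFun i ≠ 0 := by
  rcases i with a | b
  · exact pow_ne_zero _ (inv_ne_zero (ratFunc_X_sub_C_ne_zero _))
  · refine div_ne_zero ?_ (mul_ne_zero RatFunc.X_ne_zero (ratFunc_X_sub_C_ne_zero _))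
    rw [Ne, map_eq_zero]
    exact b.2

theorem Place.ratFunc_ord_X_sub_C_at [DecidableEq k] (p : Place k (RatFunc k)) {γ : k}
    (h : p.1 ((RatFunc.X : RatFunc k) - RatFunc.C γ) < 1) (β : k) :
    p.ord ((RatFunc.X : RatFunc k) - RatFunc.C β) = if β = γ then 1 else 0 := by
  split_ifs with hβ
  · rw [hβ]
    exact p.ratFunc_ord_X_sub_C γ h
  · exact (p.ord_eq_zero_iff (ratFunc_X_sub_C_ne_zero β)).mpr (p.ratFunc_val_X_sub_C_of_ne hβ h)

theorem Place.ratFunc_ord_X_at [DecidableEq k] (p : Place k (RatFunc k)) {γ : k}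
    (h : p.1 ((RatFunc.X : RatFunc k) - RatFunc.C γ) < 1) :
    p.ord (RatFunc.X : RatFunc k) = if (0 : k) = γ then 1 else 0 := by
  have := p.ratFunc_ord_X_sub_C_at h 0
  rwa [map_zero, sub_zero] at this

theorem ord_pfFun_inl [DecidableEq k] {B : Finset k} {d : k → ℕ} (p : Place k (RatFunc k))
    {γ : k} (h : p.1 ((RatFunc.X : RatFunc k) - RatFunc.C γ) < 1)
    (a : {a : ↥B × ℕ // 1 ≤ a.2 ∧ 2 * a.2 + 1 ≤ d (a.1 : k)}) :
    p.ord (pfFun (Sum.inl a : PFIdx B d)) =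
      if (a.1.1 : k) = γ then -((a.1.2 : ℤ) + 1) else 0 := by
  show p.ord (((RatFunc.X : RatFunc k) - RatFunc.C (a.1.1 : k))⁻¹ ^ (a.1.2 + 1)) = _
  rw [p.ord_pow, p.ord_inv, p.ratFunc_ord_X_sub_C_at h]
  split_ifs
  · push_cast
    ring
  · ring

theorem ord_pfFun_inr [DecidableEq k] {B : Finset k} {d : k → ℕ} (p : Place k (RatFunc k))
    {γ : k} (h : p.1 ((RatFunc.X : RatFunc k) - RatFunc.C γ) < 1)
    (b : {b : ↥B // (b : k) ≠ 0}) :
    p.ord (pfFun (Sum.inr b : PFIdx B d)) =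
      -((if (0 : k) = γ then 1 else 0) + (if (b.1 : k) = γ then 1 else 0)) := by
  show p.ord (RatFunc.C (b.1 : k) /
      ((RatFunc.X : RatFunc k) * ((RatFunc.X : RatFunc k) - RatFunc.C (b.1 : k)))) = _
  have hC0 : RatFunc.C (b.1 : k) ≠ (0 : RatFunc k) := by
    rw [Ne, map_eq_zero]
    exact b.2
  have hCo : p.ord (RatFunc.C (b.1 : k) : RatFunc k) = 0 :=
    (p.ord_eq_zero_iff hC0).mpr (p.ratFunc_val_C b.2)
  rw [div_eq_mul_inv, p.ord_mul hC0 (inv_ne_zero (mul_ne_zero RatFunc.X_ne_zero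
    (ratFunc_X_sub_C_ne_zero _))), p.ord_inv,
    p.ord_mul RatFunc.X_ne_zero (ratFunc_X_sub_C_ne_zero _), hCo, p.ratFunc_ord_X_at h,
    p.ratFunc_ord_X_sub_C_at h]
  ring

theorem ord_pfFun_inf {B : Finset k} {d : k → ℕ} (p : Place k (RatFunc k))
    (h : p.ord (RatFunc.X : RatFunc k) < 0) (i : PFIdx B d) : 2 ≤ p.ord (pfFun i) := by
  have hX : 1 < p.1 (RatFunc.X : RatFunc k) := (p.ord_neg_iff RatFunc.X_ne_zero).mp h
  have hXo := (p.ratFunc_inf h).1
  have hsub : ∀ β : k, p.ord ((RatFunc.X : RatFunc k) - RatFunc.C β) = -1 := by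
    intro β
    rw [← hXo]
    unfold Place.ord
    rw [p.ratFunc_val_X_sub_C_of_inf hX β]
  rcases i with a | b
  · show 2 ≤ p.ord (((RatFunc.X : RatFunc k) - RatFunc.C (a.1.1 : k))⁻¹ ^ (a.1.2 + 1))
    rw [p.ord_pow, p.ord_inv, hsub]
    have := a.2.1
    push_cast
    omega
  · show 2 ≤ p.ord (RatFunc.C (b.1 : k) /
      ((RatFunc.X : RatFunc k) * ((RatFunc.X : RatFunc k) - RatFunc.C (b.1 : k))))
    have hC0 : RatFunc.C (b.1 : k) ≠ (0 : RatFunc k) := by
      rw [Ne, map_eq_zero]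
      exact b.2
    have hCo : p.ord (RatFunc.C (b.1 : k) : RatFunc k) = 0 :=
      (p.ord_eq_zero_iff hC0).mpr (p.ratFunc_val_C b.2)
    rw [div_eq_mul_inv, p.ord_mul hC0 (inv_ne_zero (mul_ne_zero RatFunc.X_ne_zero
      (ratFunc_X_sub_C_ne_zero _))), p.ord_inv,
      p.ord_mul RatFunc.X_ne_zero (ratFunc_X_sub_C_ne_zero _), hCo, hXo, hsub]
    norm_num

end Idx

section PF

variable {k : Type u} [Field k]

theorem val_smul_pfFun_of_loc [DecidableEq k] {B : Finset k} {d : k → ℕ}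
    (p : Place k (RatFunc k)) {γ : k}
    (hp : p.1 ((RatFunc.X : RatFunc k) - RatFunc.C γ) < 1) {i : PFIdx B d}
    (hloc : pfLoc i = γ) {g : k} (hg : g ≠ 0) :
    p.1 (g • pfFun i) = exp (pfOrd i : ℤ) := by
  rw [Algebra.smul_def, map_mul, p.val_algebraMap hg, one_mul,
    p.val_eq_exp_neg_ord (pfFun_ne_zero i)]
  congr 1
  rcases i with a | b
  · have hloc' : (a.1.1 : k) = γ := hloc
    rw [ord_pfFun_inl p hp a, if_pos hloc']
    simp only [pfOrd]
    push_cast
    ring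
  · have hb : (b.1 : k) = γ := hloc
    have h0γ : (0 : k) ≠ γ := fun h => b.2 (hb.trans h.symm)
    rw [ord_pfFun_inr p hp b, if_pos hb, if_neg h0γ]
    simp only [pfOrd]
    norm_num

theorem pfFun_linearIndependent {B : Finset k} {d : k → ℕ} :
    LinearIndependent k (pfFun : PFIdx B d → RatFunc k) := by
  classical
  rw [linearIndependent_iff']
  intro s g hsum
  have hclaim : ∀ γ : k, γ ∈ B →
      (∀ i ∈ s, pfLoc i ≠ γ → γ = 0 → (∃ b, i = Sum.inr b) → g i = 0) →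
      ∀ i ∈ s, pfLoc i = γ → g i = 0 := by
    intro γ _ hprev
    obtain ⟨p, hp⟩ := ratFunc_exists_place_of_irreducible (Polynomial.irreducible_X_sub_C γ)
    rw [← ratFunc_X_sub_C_eq] at hp
    have key := eq_zero_of_sum_eq_zero_of_distinct_vals p.1 s (fun i => g i • pfFun i) hsum
      (s.filter fun i => pfLoc i = γ) (Finset.filter_subset _ _) 1 ?_ ?_ ?_
    · intro i hi hloc
      have := key i (Finset.mem_filter.mpr ⟨hi, hloc⟩)
      exact (smul_eq_zero.mp this).resolve_right (pfFun_ne_zero i)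
    · intro i hi hnS
      have hloc : pfLoc i ≠ γ := fun h => hnS (Finset.mem_filter.mpr ⟨hi, h⟩)
      show p.1 (g i • pfFun i) ≤ 1
      rw [Algebra.smul_def, map_mul]
      by_cases hg : g i = 0
      · rw [hg, map_zero, map_zero, zero_mul]
        exact zero_le
      refine (mul_le_mul' (p.2.1 (g i)) ?_).trans_eq (one_mul 1)
      rw [← p.ord_nonneg_iff (pfFun_ne_zero i)]
      rcases i with a | b
      · have hloc' : (a.1.1 : k) ≠ γ := hloc
        rw [ord_pfFun_inl p hp a, if_neg hloc']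
      · rw [ord_pfFun_inr p hp b]
        have hb : (b.1 : k) ≠ γ := hloc
        rw [if_neg hb]
        by_cases h0γ : (0 : k) = γ
        · exfalso
          exact hg (hprev _ hi hloc h0γ.symm ⟨b, rfl⟩)
        · rw [if_neg h0γ]
          norm_num
    · intro i hi hti
      obtain ⟨his, hloc⟩ := Finset.mem_filter.mp hi
      have hg : g i ≠ 0 := fun h => hti (by
        show g i • pfFun i = 0
        rw [h, zero_smul])
      show 1 < p.1 (g i • pfFun i)
      rw [val_smul_pfFun_of_loc p hp hloc hg, ← exp_zero (M := ℤ), exp_lt_exp]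
      exact_mod_cast pfOrd_pos i
    · intro i hi j hj hti htj hv
      obtain ⟨_, hloci⟩ := Finset.mem_filter.mp hi
      obtain ⟨_, hlocj⟩ := Finset.mem_filter.mp hj
      have hgi : g i ≠ 0 := fun h => hti (by
        show g i • pfFun i = 0
        rw [h, zero_smul])
      have hgj : g j ≠ 0 := fun h => htj (by
        show g j • pfFun j = 0
        rw [h, zero_smul])
      have hv' : p.1 (g i • pfFun i) = p.1 (g j • pfFun j) := hv
      rw [val_smul_pfFun_of_loc p hp hloci hgi, val_smul_pfFun_of_loc p hp hlocj hgj] at hv'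
      have h3 := exp_injective hv'
      exact pf_injective (hloci.trans hlocj.symm) (by exact_mod_cast h3)
  have h1 : ∀ γ ∈ B, γ ≠ 0 → ∀ i ∈ s, pfLoc i = γ → g i = 0 := fun γ hγ hγ0 =>
    hclaim γ hγ (fun i _ _ h0 _ => absurd h0 hγ0)
  intro i hi
  by_cases hloc0 : pfLoc i = 0
  · refine hclaim 0 (hloc0 ▸ pfLoc_mem i) ?_ i hi hloc0
    intro j hj hlocj _ _
    exact h1 (pfLoc j) (pfLoc_mem j) hlocj j hj rfl
  · exact h1 (pfLoc i) (pfLoc_mem i) hloc0 i hi rfl

theorem pfFun_mem_L [DecidableEq k] [IsAlgClosed k] {B : Finset k} {d : k → ℕ}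
    (h0 : (0 : k) ∈ B) (hd : ∀ β ∈ B, Odd (d β))
    (A : Divisor k (RatFunc k)) (Pinf : Place k (RatFunc k))
    (hPord : Pinf.ord (RatFunc.X : RatFunc k) = -1) (hAinf : A Pinf = 0)
    (hAfin : ∀ (p : Place k (RatFunc k)) (γ : k),
      p.1 ((RatFunc.X : RatFunc k) - RatFunc.C γ) < 1 →
      A p = if γ ∈ B then (((d γ + 1) / 2 : ℕ) : ℤ) else 0)
    (i : PFIdx B d) : pfFun i ∈ L (A - Finsupp.single Pinf 2 : Divisor k (RatFunc k)) := by
  classical
  rw [mem_L]
  intro p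
  rw [p.val_le_exp_iff (pfFun_ne_zero i), Finsupp.sub_apply]
  have hinf : Pinf.ord (RatFunc.X : RatFunc k) < 0 := by omega
  by_cases hp : p = Pinf
  · rw [hp, Finsupp.single_eq_same, hAinf]
    have := ord_pfFun_inf Pinf hinf i
    omega
  · rw [Finsupp.single_apply, if_neg (Ne.symm hp), sub_zero]
    have hX := p.ratFunc_val_X_le_one_of_ne Pinf hinf hp
    obtain ⟨γ, hγ⟩ := p.ratFunc_exists_root_of_finite hX
    rw [hAfin p γ hγ]
    have hnn : (0 : ℤ) ≤ if γ ∈ B then (((d γ + 1) / 2 : ℕ) : ℤ) else 0 := by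
      split_ifs
      · exact Int.natCast_nonneg _
      · exact le_rfl
    have hpos : γ ∈ B → (1 : ℤ) ≤ if γ ∈ B then (((d γ + 1) / 2 : ℕ) : ℤ) else 0 := by
      intro hγB
      rw [if_pos hγB]
      obtain ⟨r, hr⟩ := hd γ hγB
      have : 1 ≤ (d γ + 1) / 2 := by omega
      exact_mod_cast this
    rcases i with a | b
    · rw [ord_pfFun_inl p hγ a]
      by_cases h1 : (a.1.1 : k) = γ
      · have hγB : γ ∈ B := h1 ▸ a.1.1.2
        rw [if_pos h1, if_pos hγB]
        have h3 := a.2.2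
        rw [h1] at h3
        have h4 : a.1.2 + 1 ≤ (d γ + 1) / 2 := by omega
        have h5 : ((a.1.2 : ℤ) + 1) ≤ (((d γ + 1) / 2 : ℕ) : ℤ) := by exact_mod_cast h4
        linarith
      · rw [if_neg h1]
        linarith
    · rw [ord_pfFun_inr p hγ b]
      by_cases h1 : (0 : k) = γ
      · have hb : (b.1 : k) ≠ γ := fun h => b.2 (h.trans h1.symm)
        rw [if_pos h1, if_neg hb]
        have := hpos (h1 ▸ h0)
        linarith
      · rw [if_neg h1]
        by_cases h2 : (b.1 : k) = γ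
        · rw [if_pos h2]
          have := hpos (h2 ▸ b.1.2)
          linarith
        · rw [if_neg h2]
          linarith

theorem pfFun_span [DecidableEq k] [IsAlgClosed k] {B : Finset k} {d : k → ℕ}
    (h0 : (0 : k) ∈ B) (hd : ∀ β ∈ B, Odd (d β))
    (A : Divisor k (RatFunc k)) (Pinf : Place k (RatFunc k)) (hPdeg : Pinf.deg = 1)
    (hPord : Pinf.ord (RatFunc.X : RatFunc k) = -1) (hAinf : A Pinf = 0)
    (hAfin : ∀ (p : Place k (RatFunc k)) (γ : k),
      p.1 ((RatFunc.X : RatFunc k) - RatFunc.C γ) < 1 →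
      A p = if γ ∈ B then (((d γ + 1) / 2 : ℕ) : ℤ) else 0)
    (hdegA : Divisor.deg A = ∑ β ∈ B, (((d β + 1) / 2 : ℕ) : ℤ)) :
    L (A - Finsupp.single Pinf 2 : Divisor k (RatFunc k)) ≤
      Submodule.span k (Set.range (pfFun : PFIdx B d → RatFunc k)) := by
  classical
  have hKr := isFunctionField_ratFunc (k := k)
  obtain ⟨hfin, hcard⟩ := pf_card (B := B) (d := d) h0 hd
  haveI := hfin
  haveI : Fintype (PFIdx B d) := Fintype.ofFinite _
  haveI : FiniteDimensional k (L (A - Finsupp.single Pinf 2 : Divisor k (RatFunc k))) :=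
    finiteDimensional_L hKr _
  have h3 : ((∑ β ∈ B, (d β + 1) / 2 : ℕ) : ℤ) = ∑ β ∈ B, (((d β + 1) / 2 : ℕ) : ℤ) :=
    Nat.cast_sum _ _
  have hdegD : Divisor.deg (A - Finsupp.single Pinf 2 : Divisor k (RatFunc k)) =
      (Nat.card (PFIdx B d) : ℤ) - 1 := by
    rw [deg_sub, deg_single, hPdeg, hdegA, ← h3, ← hcard]
    push_cast
    ring
  have hell : (Module.finrank k (L (A - Finsupp.single Pinf 2 : Divisor k (RatFunc k))) : ℤ) =
      Nat.card (PFIdx B d) := by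
    have := ell_eq_of_deg_ge hKr (A - Finsupp.single Pinf 2 : Divisor k (RatFunc k)) (by
      rw [ratFunc_genus, hdegD]
      push_cast
      have : (0 : ℤ) ≤ Nat.card (PFIdx B d) := Int.natCast_nonneg _
      linarith)
    unfold ell at this
    rw [this, ratFunc_genus, hdegD]
    push_cast
    ring
  let u' : PFIdx B d → L (A - Finsupp.single Pinf 2 : Divisor k (RatFunc k)) :=
    fun i => ⟨pfFun i, pfFun_mem_L h0 hd A Pinf hPord hAinf hAfin i⟩
  have hli' : LinearIndependent k u' := by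
    apply LinearIndependent.of_comp
      (L (A - Finsupp.single Pinf 2 : Divisor k (RatFunc k))).subtype
    exact pfFun_linearIndependent
  have hcard' : Fintype.card (PFIdx B d) =
      Module.finrank k (L (A - Finsupp.single Pinf 2 : Divisor k (RatFunc k))) := by
    rw [← Nat.card_eq_fintype_card]
    exact_mod_cast hell.symm
  have hspan := hli'.span_eq_top_of_card_eq_finrank' hcard'
  intro b hb
  have h1 : (⟨b, hb⟩ : L (A - Finsupp.single Pinf 2 : Divisor k (RatFunc k))) ∈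
      Submodule.span k (Set.range u') := by
    rw [hspan]
    trivial
  have h2 := Submodule.mem_map_of_mem
    (f := (L (A - Finsupp.single Pinf 2 : Divisor k (RatFunc k))).subtype) h1
  rw [Submodule.map_span, ← Set.range_comp] at h2
  exact h2

end PF

section Assembly

variable {k : Type u} {K : Type v} [Field k] [Field K] [Algebra k K] [Algebra (RatFunc k) K]
  [IsScalarTower k (RatFunc k) K]

theorem as_regular_iff [PerfectField k] (h2 : (2 : k) = 0)
    (hdeg : Module.finrank (RatFunc k) K = 2)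
    {y : K} (hyr : y ∉ (algebraMap (RatFunc k) K).range) {f : RatFunc k}
    (heq : y ^ 2 + y = algebraMap (RatFunc k) K f) (A : Divisor k (RatFunc k))
    (hA : ∀ p : Place k (RatFunc k), p.ord f < 0 → p.ord f = 1 - 2 * A p ∧ 1 ≤ A p)
    (hA0 : ∀ p : Place k (RatFunc k), 0 ≤ p.ord f → A p = 0)
    (Pinf : Place k (RatFunc k)) (hinf : Pinf.ord (RatFunc.X : RatFunc k) < 0)
    (hPdeg : Pinf.deg = 1)
    (F : Place k K → Type w) [∀ P, Field (F P)] [∀ P, Algebra k (F P)]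
    (φ : ∀ P, K →ₐ[k] LaurentSeries (F P)) (hφ : ∀ P, LocRes.IsExpansionAt P.1 (φ P)) (z : K) :
    (∀ P, LocRes.vDiff (φ P) z (algebraMap (RatFunc k) K RatFunc.X) ≤ 1) ↔
      ∃ b ∈ L (A - Finsupp.single Pinf 2 : Divisor k (RatFunc k)),
        z = algebraMap (RatFunc k) K b := by
  classical
  have hKr := isFunctionField_ratFunc (k := k)
  haveI : FiniteDimensional (RatFunc k) K := Module.finite_of_finrank_pos (by omega)
  have hgen := adjoin_eq_top_of_notMem_range hdeg hyr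
  have key : ∀ (Q : Place k K) (z : K),
      LocRes.vDiff (φ Q) z (algebraMap (RatFunc k) K RatFunc.X) ≤ 1 ↔
      Q.1 z ≤ exp ((conorm K (A - Finsupp.single Pinf 2 : Divisor k (RatFunc k))) Q) :=
    fun Q z => as_vDiff_le_one_iff h2 hdeg hyr heq A hA hA0 Pinf hinf Q (hφ Q) z
  constructor
  · intro hz
    have hzL : z ∈ L (conorm K (A - Finsupp.single Pinf 2 : Divisor k (RatFunc k))) := by
      rw [mem_L]
      intro Q
      exact (key Q z).mp (hz Q)
    have hq0e : aeval y (X ^ 2 + (X - C f) : (RatFunc k)[X]) = 0 := by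
      rw [map_add, map_sub, map_pow, aeval_X, aeval_C]
      linear_combination heq
    have hqm : (X ^ 2 + (X - C f) : (RatFunc k)[X]).Monic :=
      monic_X_pow_add (by rw [degree_X_sub_C]; norm_num)
    have hq2 : (X ^ 2 + (X - C f) : (RatFunc k)[X]).natDegree = 2 := by
      have hdeg1 : (X - C f : (RatFunc k)[X]).natDegree = 1 := natDegree_X_sub_C f
      rw [natDegree_add_eq_left_of_natDegree_lt (by rw [hdeg1, natDegree_X_pow]; norm_num),
        natDegree_X_pow]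
    obtain ⟨a', b', hab⟩ := exists_eq_mul_add_of_quadratic hqm hq2 hq0e hgen z
    rw [hab] at hzL
    obtain ⟨ha', hb'⟩ := (as_mem_L_iff h2 hdeg hyr heq A hA hA0 _ a' b').mp hzL
    have ha0 : a' = 0 := by
      have hneg : Divisor.deg (A - Finsupp.single Pinf 2 - A : Divisor k (RatFunc k)) < 0 := by
        rw [deg_sub, deg_sub, deg_single, hPdeg]
        push_cast
        omega
      rw [L_eq_bot_of_deg_neg hKr _ hneg] at ha'
      exact (Submodule.mem_bot _).mp ha'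
    exact ⟨b', hb', by rw [hab, ha0, map_zero, zero_mul, zero_add]⟩
  · rintro ⟨b, hb, rfl⟩ P
    rw [key]
    exact (mem_L.mp ((algebraMap_mem_L_conorm_iff (K' := K) hKr _ _).mpr hb)) P

/-- S19044. -/
theorem as_B_regular_differentials [IsAlgClosed k] (hK : IsFunctionField k K)
    (hdeg : Module.finrank (RatFunc k) K = 2) (h2 : (2 : k) = 0)
    {y : K} (hyr : y ∉ (algebraMap (RatFunc k) K).range) {f : RatFunc k}
    (heq : y ^ 2 + y = algebraMap (RatFunc k) K f)
    (B : Finset k) (h0 : (0 : k) ∈ B) (d : k → ℕ) (hd : ∀ α ∈ B, Odd (d α))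
    (hpole : ∀ (p : Place k (RatFunc k)) (α : k), α ∈ B →
      p.1 ((RatFunc.X : RatFunc k) - RatFunc.C α) < 1 → p.ord f = -(d α : ℤ))
    (hint : ∀ p : Place k (RatFunc k),
      (∀ α ∈ B, 1 ≤ p.1 ((RatFunc.X : RatFunc k) - RatFunc.C α)) → p.1 f ≤ 1)
    (F : Place k K → Type w) [∀ P, Field (F P)] [∀ P, Algebra k (F P)]
    (φ : ∀ P, K →ₐ[k] LaurentSeries (F P)) (hφ : ∀ P, LocRes.IsExpansionAt P.1 (φ P)) :
    (∀ (i : PFIdx B d) P, LocRes.vDiff (φ P) (algebraMap (RatFunc k) K (pfFun i))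
      (algebraMap (RatFunc k) K RatFunc.X) ≤ 1) ∧
    LinearIndependent k (fun i : PFIdx B d => algebraMap (RatFunc k) K (pfFun i)) ∧
    ∀ z : K, (∀ P, LocRes.vDiff (φ P) z (algebraMap (RatFunc k) K RatFunc.X) ≤ 1) →
      z ∈ Submodule.span k (Set.range
        (fun i : PFIdx B d => algebraMap (RatFunc k) K (pfFun i))) := by
  classical
  obtain ⟨A, Pinf, hPdeg, hPord, hA, hA0, hAinf, hAfin, hdegA⟩ :=
    as_B_exists_A B d hd hpole hint
  have hinf : Pinf.ord (RatFunc.X : RatFunc k) < 0 := by omega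
  have hreg := fun z => as_regular_iff h2 hdeg hyr heq A hA hA0 Pinf hinf hPdeg F φ hφ z
  refine ⟨?_, ?_, ?_⟩
  · intro i P
    exact ((hreg _).mpr ⟨pfFun i, pfFun_mem_L h0 hd A Pinf hPord hAinf hAfin i, rfl⟩) P
  · have hli := pfFun_linearIndependent (B := B) (d := d)
    exact hli.map' (IsScalarTower.toAlgHom k (RatFunc k) K).toLinearMap
      (LinearMap.ker_eq_bot.mpr (algebraMap (RatFunc k) K).injective)
  · intro z hz
    obtain ⟨b, hb, rfl⟩ := (hreg z).mp hz
    have h1 := pfFun_span h0 hd A Pinf hPdeg hPord hAinf hAfin hdegA hb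
    have h2' := Submodule.mem_map_of_mem
      (f := (IsScalarTower.toAlgHom k (RatFunc k) K).toLinearMap) h1
    rw [Submodule.map_span, ← Set.range_comp] at h2'
    exact h2'

end Assembly

end FunFld
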