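import Mathlib
import Groth.Agent.Lib.FunFldASF_helper2

/-! A basis of the repartition classes (`H¹`) of an Artin–Schreier cover (helper2). -/

open Polynomial IntermediateField WithZero Module

namespace FunFld

universe u v

section Abstract

theorem eq_zero_of_val_sum_le_of_distinct_vals {R : Type*} [CommRing R] {ι : Type*}
    [DecidableEq ι]
    (v : Valuation R (WithZero (Multiplicative ℤ))) (S : Finset ι) (t : ι → R)
    (c : WithZero (Multiplicative ℤ)) (hsum : v (∑ i ∈ S, t i) ≤ c)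
    (hin : ∀ i ∈ S, t i ≠ 0 → c < v (t i))
    (hdist : ∀ i ∈ S, ∀ j ∈ S, t i ≠ 0 → t j ≠ 0 → v (t i) = v (t j) → i = j) :
    ∀ i ∈ S, t i = 0 := by
  classical
  by_contra hcon
  push Not at hcon
  obtain ⟨i₁, hi₁S, hi₁⟩ := hcon
  have hTne : (S.filter fun i => t i ≠ 0).Nonempty := ⟨i₁, Finset.mem_filter.mpr ⟨hi₁S, hi₁⟩⟩
  obtain ⟨i₀, hi₀T, hmax⟩ := Finset.exists_max_image _ (fun i => v (t i)) hTne
  obtain ⟨hi₀S, hi₀⟩ := Finset.mem_filter.mp hi₀T
  have hc0 : c < v (t i₀) := hin i₀ hi₀S hi₀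
  have hv0 : v (t i₀) ≠ 0 := fun h => by
    rw [h] at hc0
    exact absurd hc0 (not_lt.mpr zero_le)
  have hkey : v (∑ i ∈ S, t i) = v (t i₀) := by
    apply Valuation.map_sum_eq_of_lt _ hi₀S
    intro i hi
    rw [Finset.mem_sdiff, Finset.mem_singleton] at hi
    obtain ⟨hiS, hne⟩ := hi
    by_cases hti : t i = 0
    · rw [hti, map_zero]
      exact lt_of_le_of_ne zero_le (Ne.symm hv0)
    · have hle := hmax i (Finset.mem_filter.mpr ⟨hiS, hti⟩)
      refine lt_of_le_of_ne hle (fun heq => hne ?_)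
      exact hdist i hiS i₀ hi₀S hti hi₀ heq
  rw [hkey] at hsum
  exact absurd hc0 (not_lt.mpr hsum)

end Abstract

section Poly

variable {k : Type*} [Field k]

/-- A polynomial in `X - β` of degree `< N` vanishing to order `N` at `β` is zero. -/
theorem coeffs_eq_zero_of_val_le {ι : Type*} [DecidableEq ι] (p : Place k (RatFunc k)) {β : k}
    (hp : p.1 ((RatFunc.X : RatFunc k) - RatFunc.C β) < 1) (S : Finset ι) (g : ι → k)
    (e : ι → ℕ) (N : ℕ) (hN : 1 ≤ N) (he : ∀ i ∈ S, e i < N)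
    (hinj : ∀ i ∈ S, ∀ j ∈ S, e i = e j → i = j) (c₀ : k)
    (hval : p.1 (∑ i ∈ S, g i • ((RatFunc.X : RatFunc k) - RatFunc.C β) ^ (e i) -
      RatFunc.C c₀) ≤ exp (-(N : ℤ))) :
    (∀ i ∈ S, 1 ≤ e i → g i = 0) ∧ ∑ i ∈ S.filter (fun i => e i = 0), g i = c₀ := by
  classical
  obtain ⟨T, hT⟩ : ∃ T : RatFunc k, T = (RatFunc.X : RatFunc k) - RatFunc.C β := ⟨_, rfl⟩
  rw [← hT] at hval hp
  have hT0 : T ≠ 0 := by
    rw [hT]
    exact ratFunc_X_sub_C_ne_zero β
  have hTv : p.1 T = exp (-(1 : ℤ)) := by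
    rw [p.val_eq_exp_neg_ord hT0, hT, p.ratFunc_ord_X_sub_C β (hT ▸ hp)]
  have hterm : ∀ i, g i ≠ 0 → p.1 (g i • T ^ e i) = exp (-(e i : ℤ)) := by
    intro i hg
    rw [Algebra.smul_def, map_mul, p.val_algebraMap hg, one_mul, map_pow, hTv, ← exp_nsmul]
    congr 1
    simp
  have hterm_le : ∀ i, p.1 (g i • T ^ e i) ≤ exp (-(e i : ℤ)) := by
    intro i
    by_cases hg : g i = 0
    · rw [hg, zero_smul, map_zero]
      exact zero_le
    · exact (hterm i hg).le
  have hsplit : ∑ i ∈ S, g i • T ^ e i =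
      RatFunc.C (∑ i ∈ S.filter (fun i => e i = 0), g i) +
        ∑ i ∈ S.filter (fun i => ¬ e i = 0), g i • T ^ e i := by
    rw [← Finset.sum_filter_add_sum_filter_not S (fun i => e i = 0), map_sum]
    congr 1
    refine Finset.sum_congr rfl (fun i hi => ?_)
    rw [(Finset.mem_filter.mp hi).2, pow_zero, Algebra.smul_def, mul_one,
      RatFunc.algebraMap_eq_C]
  obtain ⟨Rp, hRp⟩ : ∃ Rp : RatFunc k,
      Rp = ∑ i ∈ S.filter (fun i => ¬ e i = 0), g i • T ^ e i := ⟨_, rfl⟩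
  have hRpv : p.1 Rp ≤ exp (-(1 : ℤ)) := by
    rw [hRp]
    apply Valuation.map_sum_le
    intro i hi
    refine (hterm_le i).trans (exp_le_exp.mpr ?_)
    have := (Finset.mem_filter.mp hi).2
    have h1 : 1 ≤ e i := Nat.one_le_iff_ne_zero.mpr this
    have : (1 : ℤ) ≤ e i := by exact_mod_cast h1
    omega
  have hNlt : exp (-(N : ℤ)) < 1 := by
    rw [← exp_zero (M := ℤ), exp_lt_exp]
    have : (1 : ℤ) ≤ N := by exact_mod_cast hN
    omega
  have hR : ∑ i ∈ S, g i • T ^ e i - RatFunc.C c₀ =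
      RatFunc.C (∑ i ∈ S.filter (fun i => e i = 0), g i - c₀) + Rp := by
    rw [hsplit, ← hRp, map_sub]
    ring
  have hκ : ∑ i ∈ S.filter (fun i => e i = 0), g i - c₀ = 0 := by
    by_contra hne
    have h1 : p.1 (RatFunc.C (∑ i ∈ S.filter (fun i => e i = 0), g i - c₀)) = 1 :=
      p.ratFunc_val_C hne
    have h2 : p.1 (∑ i ∈ S, g i • T ^ e i - RatFunc.C c₀) = 1 := by
      rw [hR, Valuation.map_add_eq_of_lt_left _ (by
        rw [h1]
        refine lt_of_le_of_lt hRpv ?_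
        rw [← exp_zero (M := ℤ), exp_lt_exp]
        norm_num), h1]
    rw [h2] at hval
    exact absurd hNlt (not_lt.mpr hval)
  refine ⟨?_, sub_eq_zero.mp hκ⟩
  rw [hR, hκ, map_zero, zero_add, hRp] at hval
  have key := eq_zero_of_val_sum_le_of_distinct_vals p.1 (S.filter (fun i => ¬ e i = 0))
    (fun i => g i • T ^ e i) (exp (-(N : ℤ))) hval ?_ ?_
  · intro i hi h1
    have := key i (Finset.mem_filter.mpr ⟨hi, by omega⟩)
    exact (smul_eq_zero.mp this).resolve_right (pow_ne_zero _ hT0)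
  · intro i hi hti
    have hg : g i ≠ 0 := fun h => hti (by
      show g i • T ^ e i = 0
      rw [h, zero_smul])
    show exp (-(N : ℤ)) < p.1 (g i • T ^ e i)
    rw [hterm i hg, exp_lt_exp]
    have := he i (Finset.mem_filter.mp hi).1
    have : (e i : ℤ) < N := by exact_mod_cast this
    omega
  · intro i hi j hj hti htj hv
    have hgi : g i ≠ 0 := fun h => hti (by
      show g i • T ^ e i = 0
      rw [h, zero_smul])
    have hgj : g j ≠ 0 := fun h => htj (by
      show g j • T ^ e j = 0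
      rw [h, zero_smul])
    have hv' : p.1 (g i • T ^ e i) = p.1 (g j • T ^ e j) := hv
    rw [hterm i hgi, hterm j hgj] at hv'
    have h3 := exp_injective hv'
    exact hinj i (Finset.mem_filter.mp hi).1 j (Finset.mem_filter.mp hj).1 (by
      have : (e i : ℤ) = e j := by omega
      exact_mod_cast this)

end Poly

section H1

variable {k : Type u} {K : Type v} [Field k] [Field K] [Algebra k K] [Algebra (RatFunc k) K]
  [IsScalarTower k (RatFunc k) K]

def pfExp {B : Finset k} {d : k → ℕ} : PFIdx B d → ℕ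
  | Sum.inl a => a.1.2
  | Sum.inr _ => 0

theorem pfOrd_eq {B : Finset k} {d : k → ℕ} (i : PFIdx B d) : pfOrd i = pfExp i + 1 := by
  rcases i with a | b <;> rfl

/-- The repartition supported at `Pl (pfLoc i)` with value `y (x - α)^j`. -/
noncomputable def pfAdele {B : Finset k} {d : k → ℕ} [DecidableEq (Place k K)]
    (Pl : k → Place k K) (y : K) (i : PFIdx B d) : Place k K → K :=
  Pi.single (Pl (pfLoc i))
    (y * (algebraMap (RatFunc k) K RatFunc.X - algebraMap k K (pfLoc i)) ^ pfExp i)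

theorem algebraMap_smul' (c : k) (r : RatFunc k) :
    algebraMap (RatFunc k) K (c • r) = c • algebraMap (RatFunc k) K r := by
  rw [Algebra.smul_def, Algebra.smul_def, map_mul, ← IsScalarTower.algebraMap_apply]

theorem as_B_classes_independent [IsAlgClosed k] [DecidableEq (Place k K)]
    (hdeg : Module.finrank (RatFunc k) K = 2) (h2 : (2 : k) = 0)
    {y : K} (hyr : y ∉ (algebraMap (RatFunc k) K).range) {f : RatFunc k}
    (heq : y ^ 2 + y = algebraMap (RatFunc k) K f)
    (B : Finset k) (h0 : (0 : k) ∈ B) (d : k → ℕ) (hd : ∀ α ∈ B, Odd (d α))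
    (hpole : ∀ (p : Place k (RatFunc k)) (α : k), α ∈ B →
      p.1 ((RatFunc.X : RatFunc k) - RatFunc.C α) < 1 → p.ord f = -(d α : ℤ))
    (hint : ∀ p : Place k (RatFunc k),
      (∀ α ∈ B, 1 ≤ p.1 ((RatFunc.X : RatFunc k) - RatFunc.C α)) → p.1 f ≤ 1)
    (Pl : k → Place k K)
    (hPl : ∀ β ∈ B, (Pl β).1 ((algebraMap (RatFunc k) K RatFunc.X) - (algebraMap k K β)) < 1)
    (s : Finset (PFIdx B d)) (g : PFIdx B d → k)
    (hmem : ∑ i ∈ s, g i • pfAdele Pl y i ∈
      AD (0 : Divisor k K) ⊔ LinearMap.range (diag k K)) : ∀ i ∈ s, g i = 0 := by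
  classical
  have hKr := isFunctionField_ratFunc (k := k)
  haveI : FiniteDimensional (RatFunc k) K := Module.finite_of_finrank_pos (by omega)
  have hgen := adjoin_eq_top_of_notMem_range hdeg hyr
  obtain ⟨A, Pinf, hPdeg, hPord, hA, hA0, hAinf, hAfin, hdegA⟩ :=
    as_B_exists_A B d hd hpole hint
  have hAnn : ∀ p, 0 ≤ A p := by
    intro p
    by_cases h : p.ord f < 0
    · have := (hA p h).2
      omega
    · rw [hA0 p (not_lt.mp h)]
  obtain ⟨a₀, ha₀, b₀, ⟨h, rfl⟩, hsum⟩ := Submodule.mem_sup.mp hmem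
  have hcomp : ∀ Q : Place k K, Q.1 ((∑ i ∈ s, g i • pfAdele Pl y i) Q - h) ≤ 1 := by
    intro Q
    have h1 := congrFun hsum Q
    have h2' : (∑ i ∈ s, g i • pfAdele Pl y i) Q - h = a₀ Q := by
      rw [← h1]
      show a₀ Q + h - h = a₀ Q
      ring
    rw [h2']
    have := ha₀ Q
    rwa [Finsupp.coe_zero, Pi.zero_apply, exp_zero] at this
  have hplace := fun β (hβ : β ∈ B) => as_B_place h2 hdeg heq B d hd hpole hβ (hPl β hβ)
  have hPlinj : ∀ β ∈ B, ∀ β' ∈ B, Pl β = Pl β' → β = β' := by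
    intro β hβ β' hβ' hEq
    by_contra hne
    obtain ⟨p, he2, hp, -⟩ := hplace β hβ
    have h1 := hPl β' hβ'
    rw [← hEq, ← algebraMap_X_sub_C, he2, p.ratFunc_val_X_sub_C_of_ne (Ne.symm hne) hp,
      one_pow] at h1
    exact lt_irrefl _ h1
  obtain ⟨r, hr⟩ : ∃ r : k → RatFunc k, r = fun β =>
      ∑ i ∈ s.filter (fun i => pfLoc i = β),
        g i • ((RatFunc.X : RatFunc k) - RatFunc.C β) ^ pfExp i := ⟨_, rfl⟩
  have hcompβ : ∀ β ∈ B, (∑ i ∈ s, g i • pfAdele Pl y i) (Pl β) =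
      algebraMap (RatFunc k) K (r β) * y := by
    intro β hβ
    rw [Finset.sum_apply, hr, map_sum, Finset.sum_mul, Finset.sum_filter]
    refine Finset.sum_congr rfl (fun i hi => ?_)
    rw [Pi.smul_apply]
    unfold pfAdele
    by_cases hloc : pfLoc i = β
    · rw [if_pos hloc, hloc, Pi.single_eq_same, algebraMap_smul', map_pow, algebraMap_X_sub_C,
        smul_mul_assoc, mul_comm]
    · rw [if_neg hloc, Pi.single_eq_of_ne, smul_zero]
      intro hEq
      exact hloc (hPlinj _ (pfLoc_mem i) _ hβ hEq.symm)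
  have hcomp0 : ∀ Q, (∀ β ∈ B, Q ≠ Pl β) → (∑ i ∈ s, g i • pfAdele Pl y i) Q = 0 := by
    intro Q hQ
    rw [Finset.sum_apply]
    refine Finset.sum_eq_zero (fun i _ => ?_)
    rw [Pi.smul_apply]
    unfold pfAdele
    rw [Pi.single_eq_of_ne (hQ _ (pfLoc_mem i)), smul_zero]
  have hrint : ∀ β (p : Place k (RatFunc k)), p.1 (RatFunc.X : RatFunc k) ≤ 1 →
      p.1 (r β) ≤ 1 := by
    intro β p hX
    rw [hr]
    apply Valuation.map_sum_le
    intro i _
    rw [Algebra.smul_def, map_mul, map_pow]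
    exact (mul_le_mul' (p.2.1 _)
      (pow_le_one₀ zero_le (p.ratFunc_val_X_sub_C_le hX β))).trans_eq (one_mul 1)
  have hhL : h ∈ L (conorm K A) := by
    rw [mem_L]
    intro Q
    by_cases hQ : ∃ β ∈ B, Q = Pl β
    · obtain ⟨β, hβ, rfl⟩ := hQ
      obtain ⟨p, he2, hp, hof, hoy, hy0, hox⟩ := hplace β hβ
      rw [conorm_apply_isOverWith hKr A he2, hAfin p β hp, if_pos hβ]
      have h1 := hcomp (Pl β)
      rw [hcompβ β hβ] at h1
      have h2' : h = algebraMap (RatFunc k) K (r β) * y -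
          (algebraMap (RatFunc k) K (r β) * y - h) := by ring
      obtain ⟨m, hm⟩ := hd β hβ
      rw [h2']
      refine (Valuation.map_sub _ _ _).trans (max_le ?_ (h1.trans ?_))
      · rw [map_mul, he2, (Pl β).val_eq_exp_neg_ord hy0, hoy, neg_neg]
        calc p.1 (r β) ^ 2 * exp (d β : ℤ) ≤ 1 * exp (d β : ℤ) :=
              mul_le_mul' (pow_le_one₀ zero_le
                (hrint β p (p.ratFunc_val_X_le_one_of_root hp))) le_rfl
          _ = exp (d β : ℤ) := one_mul _
          _ ≤ _ := exp_le_exp.mpr (by push_cast; omega)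
      · rw [← exp_zero (M := ℤ), exp_le_exp]
        push_cast
        omega
    · push Not at hQ
      have h1 := hcomp Q
      rw [hcomp0 Q (fun β hβ => hQ β hβ), zero_sub, Valuation.map_neg] at h1
      obtain ⟨p, e, he⟩ := exists_isOverWith hKr Q
      rw [conorm_apply_isOverWith hKr A he]
      refine h1.trans ?_
      rw [← exp_zero (M := ℤ), exp_le_exp]
      exact mul_nonneg (Int.natCast_nonneg e) (hAnn p)
  have hq0e : aeval y (X ^ 2 + (X - C f) : (RatFunc k)[X]) = 0 := by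
    rw [map_add, map_sub, map_pow, aeval_X, aeval_C]
    linear_combination heq
  have hqm : (X ^ 2 + (X - C f) : (RatFunc k)[X]).Monic :=
    monic_X_pow_add (by rw [degree_X_sub_C]; norm_num)
  have hq2 : (X ^ 2 + (X - C f) : (RatFunc k)[X]).natDegree = 2 := by
    have hdeg1 : (X - C f : (RatFunc k)[X]).natDegree = 1 := natDegree_X_sub_C f
    rw [natDegree_add_eq_left_of_natDegree_lt (by rw [hdeg1, natDegree_X_pow]; norm_num),
      natDegree_X_pow]
  obtain ⟨a', b', hab⟩ := exists_eq_mul_add_of_quadratic hqm hq2 hq0e hgen h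
  rw [hab] at hhL
  obtain ⟨ha', hb'⟩ := (as_mem_L_iff h2 hdeg hyr heq A hA hA0 A a' b').mp hhL
  rw [sub_self, L_zero_eq_one hKr, Submodule.mem_one] at ha'
  obtain ⟨c₀, hc₀⟩ := ha'
  have hlocal : ∀ β ∈ B, ∃ p : Place k (RatFunc k),
      p.1 ((RatFunc.X : RatFunc k) - RatFunc.C β) < 1 ∧
      p.1 (r β - RatFunc.C c₀) ≤ exp (-(((d β + 1) / 2 : ℕ) : ℤ)) := by
    intro β hβ
    obtain ⟨p, he2, hp, hof, hoy, hy0, hox⟩ := hplace β hβ
    refine ⟨p, hp, ?_⟩
    obtain ⟨m, hm⟩ := hd β hβ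
    have h1 := hcomp (Pl β)
    rw [hcompβ β hβ, hab, ← hc₀, RatFunc.algebraMap_eq_C] at h1
    have h2' : algebraMap (RatFunc k) K (r β) * y -
        (algebraMap (RatFunc k) K (RatFunc.C c₀) * y + algebraMap (RatFunc k) K b') =
        algebraMap (RatFunc k) K (r β - RatFunc.C c₀) * y +
          algebraMap (RatFunc k) K (-b') := by
      rw [map_sub, map_neg]
      ring
    rw [h2'] at h1
    have hord' : p.ord f = 1 - 2 * (((d β + 1) / 2 : ℕ) : ℤ) := by
      rw [hof]
      push_cast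
      omega
    have hc1 : (1 : ℤ) ≤ (((d β + 1) / 2 : ℕ) : ℤ) := by
      push_cast
      omega
    have h3 := (as_local_pole heq he2 hc1 hord' (r β - RatFunc.C c₀) (-b') 0).mp (by
      rw [mul_zero, exp_zero]
      exact h1)
    rw [zero_sub] at h3
    exact h3.1
  have hmain : ∀ β ∈ B, (∀ i ∈ s, pfLoc i = β → 1 ≤ pfExp i → g i = 0) ∧
      ∑ i ∈ (s.filter (fun i => pfLoc i = β)).filter (fun i => pfExp i = 0), g i = c₀ := by
    intro β hβ
    obtain ⟨p, hp, hv⟩ := hlocal β hβ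
    obtain ⟨m, hm⟩ := hd β hβ
    have hN : 1 ≤ (d β + 1) / 2 := by omega
    have key := coeffs_eq_zero_of_val_le p hp (s.filter (fun i => pfLoc i = β)) g pfExp
      ((d β + 1) / 2) hN ?_ ?_ c₀ ?_
    · exact ⟨fun i hi hloc h1 => key.1 i (Finset.mem_filter.mpr ⟨hi, hloc⟩) h1, key.2⟩
    · intro i hi
      have hloc := (Finset.mem_filter.mp hi).2
      have := pfOrd_le hd i
      rw [hloc, pfOrd_eq] at this
      omega
    · intro i hi j hj hij
      have hi' := (Finset.mem_filter.mp hi).2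
      have hj' := (Finset.mem_filter.mp hj).2
      exact pf_injective (hi'.trans hj'.symm) (by rw [pfOrd_eq, pfOrd_eq, hij])
    · have hrβ : r β = ∑ i ∈ s.filter (fun i => pfLoc i = β),
          g i • ((RatFunc.X : RatFunc k) - RatFunc.C β) ^ pfExp i := by rw [hr]
      rw [← hrβ]
      exact hv
  have hc₀0 : c₀ = 0 := by
    rw [← (hmain 0 h0).2]
    refine Finset.sum_eq_zero (fun i hi => ?_)
    exfalso
    rw [Finset.mem_filter, Finset.mem_filter] at hi
    obtain ⟨⟨_, hloc⟩, hexp⟩ := hi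
    rcases i with a | b
    · have h1 : a.1.2 = 0 := hexp
      have := a.2.1
      omega
    · exact b.2 hloc
  intro i hi
  rcases i with a | b
  · exact (hmain _ (pfLoc_mem (Sum.inl a : PFIdx B d))).1 (Sum.inl a) hi rfl a.2.1
  · have h1 := (hmain _ (pfLoc_mem (Sum.inr b : PFIdx B d))).2
    rw [hc₀0] at h1
    have hset : (s.filter (fun i => pfLoc i = pfLoc (Sum.inr b : PFIdx B d))).filter
        (fun i => pfExp i = 0) = {Sum.inr b} := by
      ext j
      rw [Finset.mem_filter, Finset.mem_filter, Finset.mem_singleton]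
      constructor
      · rintro ⟨⟨_, hloc⟩, hexp⟩
        exact pf_injective hloc (by
          rw [pfOrd_eq, pfOrd_eq, hexp]
          rfl)
      · rintro rfl
        exact ⟨⟨hi, rfl⟩, rfl⟩
    rw [hset, Finset.sum_singleton] at h1
    exact h1

/-- The classes of the repartitions `pfAdele` form a basis of `adele / (A(0) + K)`. -/
theorem as_B_H1_basis [IsAlgClosed k] [DecidableEq (Place k K)]
    (hK : IsFunctionField k K)
    (hdeg : Module.finrank (RatFunc k) K = 2) (h2 : (2 : k) = 0)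
    {y : K} (hyr : y ∉ (algebraMap (RatFunc k) K).range) {f : RatFunc k}
    (heq : y ^ 2 + y = algebraMap (RatFunc k) K f)
    (B : Finset k) (h0 : (0 : k) ∈ B) (d : k → ℕ) (hd : ∀ α ∈ B, Odd (d α))
    (hpole : ∀ (p : Place k (RatFunc k)) (α : k), α ∈ B →
      p.1 ((RatFunc.X : RatFunc k) - RatFunc.C α) < 1 → p.ord f = -(d α : ℤ))
    (hint : ∀ p : Place k (RatFunc k),
      (∀ α ∈ B, 1 ≤ p.1 ((RatFunc.X : RatFunc k) - RatFunc.C α)) → p.1 f ≤ 1)
    (Pl : k → Place k K)
    (hPl : ∀ β ∈ B, (Pl β).1 ((algebraMap (RatFunc k) K RatFunc.X) - (algebraMap k K β)) < 1) :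
    (∀ i : PFIdx B d, pfAdele Pl y i ∈ adele k K) ∧
    LinearIndependent k (fun i : PFIdx B d =>
      Submodule.mkQ (AD (0 : Divisor k K) ⊔ LinearMap.range (diag k K)) (pfAdele Pl y i)) ∧
    ∀ a : Place k K → K, a ∈ adele k K →
      a ∈ (AD (0 : Divisor k K) ⊔ LinearMap.range (diag k K)) ⊔
        Submodule.span k (Set.range (pfAdele (B := B) (d := d) Pl y)) := by
  classical
  have hKr := isFunctionField_ratFunc (k := k)
  have hw : ∀ i : PFIdx B d, pfAdele Pl y i ∈ adele k K := fun i => pi_single_mem_adele _ _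
  have hind : ∀ (s : Finset (PFIdx B d)) (g : PFIdx B d → k),
      ∑ i ∈ s, g i • pfAdele Pl y i ∈ AD (0 : Divisor k K) ⊔ LinearMap.range (diag k K) →
      ∀ i ∈ s, g i = 0 :=
    fun s g hmem => as_B_classes_independent hdeg h2 hyr heq B h0 d hd hpole hint Pl hPl s g hmem
  refine ⟨hw, ?_, ?_⟩
  · rw [linearIndependent_iff']
    intro s g hsum i hi
    refine hind s g ?_ i hi
    rw [← Submodule.Quotient.mk_eq_zero, ← Submodule.mkQ_apply, map_sum]
    simp only [map_smul]
    exact hsum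
  · obtain ⟨hfin, hcard⟩ := pf_card (d := d) h0 hd
    haveI := hfin
    letI : Fintype (PFIdx B d) := Fintype.ofFinite _
    obtain ⟨hfd, hrank⟩ := finrank_adele_quot hK (0 : Divisor k K)
    haveI := hfd
    obtain ⟨A, Pinf, hPdeg, hPord, hA, hA0, hAinf, hAfin, hdegA⟩ :=
      as_B_exists_A B d hd hpole hint
    have hgen := as_genus h2 hK hdeg hyr heq A hA hA0
    rw [deg_zero, ell_zero hK, hgen, hdegA, Nat.cast_one] at hrank
    have hcardZ : ((Nat.card (PFIdx B d) : ℕ) : ℤ) + 1 =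
        ∑ β ∈ B, (((d β + 1) / 2 : ℕ) : ℤ) := by
      exact_mod_cast hcard
    have hcard' : Fintype.card (PFIdx B d) =
        Module.finrank k (↥(adele k K) ⧸ ADK (0 : Divisor k K)) := by
      rw [← Nat.card_eq_fintype_card]
      have h3 : ((Nat.card (PFIdx B d) : ℕ) : ℤ) =
          (Module.finrank k (↥(adele k K) ⧸ ADK (0 : Divisor k K)) : ℤ) := by
        rw [hrank]
        linarith
      exact_mod_cast h3
    obtain ⟨w', hw'⟩ : ∃ w' : PFIdx B d → ↥(adele k K),
        w' = fun i => ⟨pfAdele Pl y i, hw i⟩ := ⟨_, rfl⟩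
    have hw'coe : ∀ i, ((w' i : ↥(adele k K)) : Place k K → K) = pfAdele Pl y i := by
      intro i
      rw [hw']
    have hlin : LinearIndependent k (fun i => (ADK (0 : Divisor k K)).mkQ (w' i)) := by
      rw [linearIndependent_iff']
      intro s g hsum i hi
      refine hind s g ?_ i hi
      have h1 : ∑ i ∈ s, g i • w' i ∈ ADK (0 : Divisor k K) := by
        rw [← Submodule.Quotient.mk_eq_zero, ← Submodule.mkQ_apply, map_sum]
        simp only [map_smul]
        exact hsum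
      have h2' : (adele k K).subtype (∑ i ∈ s, g i • w' i) ∈
          AD (0 : Divisor k K) ⊔ LinearMap.range (diag k K) := h1
      rw [map_sum] at h2'
      simp only [map_smul, Submodule.subtype_apply, hw'coe] at h2'
      exact h2'
    have htop := hlin.span_eq_top_of_card_eq_finrank' hcard'
    intro a ha
    have hmem : (ADK (0 : Divisor k K)).mkQ ⟨a, ha⟩ ∈
        Submodule.span k (Set.range fun i => (ADK (0 : Divisor k K)).mkQ (w' i)) := by
      rw [htop]
      exact Submodule.mem_top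
    obtain ⟨c, hc⟩ := (Submodule.mem_span_range_iff_exists_fun k).mp hmem
    have h1 : (⟨a, ha⟩ : ↥(adele k K)) - ∑ i, c i • w' i ∈ ADK (0 : Divisor k K) := by
      rw [← Submodule.Quotient.mk_eq_zero, ← Submodule.mkQ_apply, map_sub, map_sum]
      simp only [map_smul]
      rw [hc, sub_self]
    have h2' : (adele k K).subtype ((⟨a, ha⟩ : ↥(adele k K)) - ∑ i, c i • w' i) ∈
        AD (0 : Divisor k K) ⊔ LinearMap.range (diag k K) := h1
    rw [map_sub, map_sum] at h2'
    simp only [map_smul, Submodule.subtype_apply, hw'coe] at h2'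
    rw [← sub_add_cancel a (∑ i, c i • pfAdele Pl y i)]
    refine Submodule.add_mem _ (Submodule.mem_sup_left h2') (Submodule.mem_sup_right ?_)
    exact Submodule.sum_mem _ (fun i _ =>
      Submodule.smul_mem _ _ (Submodule.subset_span ⟨i, rfl⟩))

/-- S19046, with the family written out as in the statement. -/
theorem as_B_H1_basis' [IsAlgClosed k] [DecidableEq (Place k K)]
    (hK : IsFunctionField k K)
    (hdeg : Module.finrank (RatFunc k) K = 2) (h2 : (2 : k) = 0)
    {y : K} (hyr : y ∉ (algebraMap (RatFunc k) K).range) {f : RatFunc k}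
    (heq : y ^ 2 + y = algebraMap (RatFunc k) K f)
    (B : Finset k) (h0 : (0 : k) ∈ B) (d : k → ℕ) (hd : ∀ α ∈ B, Odd (d α))
    (hpole : ∀ (p : Place k (RatFunc k)) (α : k), α ∈ B →
      p.1 ((RatFunc.X : RatFunc k) - RatFunc.C α) < 1 → p.ord f = -(d α : ℤ))
    (hint : ∀ p : Place k (RatFunc k),
      (∀ α ∈ B, 1 ≤ p.1 ((RatFunc.X : RatFunc k) - RatFunc.C α)) → p.1 f ≤ 1)
    (Pl : k → Place k K)
    (hPl : ∀ β ∈ B, (Pl β).1 ((algebraMap (RatFunc k) K RatFunc.X) - (algebraMap k K β)) < 1) :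
    (∀ i, (Sum.elim
        (fun a : {a : ↥B × ℕ // 1 ≤ a.2 ∧ 2 * a.2 + 1 ≤ d (a.1 : k)} =>
          (Pi.single (Pl (a.1.1 : k)) (y * ((algebraMap (RatFunc k) K RatFunc.X) - (algebraMap k K (a.1.1 : k))) ^ a.1.2) : FunFld.Place k K → K))
        (fun b : {b : ↥B // (b : k) ≠ 0} => (Pi.single (Pl (b.1 : k)) y : FunFld.Place k K → K))) i ∈ FunFld.adele k K) ∧
    LinearIndependent k (fun i => Submodule.mkQ (FunFld.AD (0 : FunFld.Divisor k K) ⊔ LinearMap.range (FunFld.diag k K)) ((Sum.elim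
        (fun a : {a : ↥B × ℕ // 1 ≤ a.2 ∧ 2 * a.2 + 1 ≤ d (a.1 : k)} =>
          (Pi.single (Pl (a.1.1 : k)) (y * ((algebraMap (RatFunc k) K RatFunc.X) - (algebraMap k K (a.1.1 : k))) ^ a.1.2) : FunFld.Place k K → K))
        (fun b : {b : ↥B // (b : k) ≠ 0} => (Pi.single (Pl (b.1 : k)) y : FunFld.Place k K → K))) i)) ∧
    ∀ a : FunFld.Place k K → K, a ∈ FunFld.adele k K →
      a ∈ (FunFld.AD (0 : FunFld.Divisor k K) ⊔ LinearMap.range (FunFld.diag k K)) ⊔ Submodule.span k (Set.range (Sum.elim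
        (fun a : {a : ↥B × ℕ // 1 ≤ a.2 ∧ 2 * a.2 + 1 ≤ d (a.1 : k)} =>
          (Pi.single (Pl (a.1.1 : k)) (y * ((algebraMap (RatFunc k) K RatFunc.X) - (algebraMap k K (a.1.1 : k))) ^ a.1.2) : FunFld.Place k K → K))
        (fun b : {b : ↥B // (b : k) ≠ 0} => (Pi.single (Pl (b.1 : k)) y : FunFld.Place k K → K)))) := by
  have hfam : (Sum.elim
        (fun a : {a : ↥B × ℕ // 1 ≤ a.2 ∧ 2 * a.2 + 1 ≤ d (a.1 : k)} =>
          (Pi.single (Pl (a.1.1 : k)) (y * ((algebraMap (RatFunc k) K RatFunc.X) - (algebraMap k K (a.1.1 : k))) ^ a.1.2) : FunFld.Place k K → K))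
        (fun b : {b : ↥B // (b : k) ≠ 0} => (Pi.single (Pl (b.1 : k)) y : FunFld.Place k K → K))) =
      pfAdele (B := B) (d := d) Pl y := by
    funext i
    rcases i with a | b
    · rfl
    · show (Pi.single (Pl (b.1 : k)) y : Place k K → K) =
        Pi.single (Pl (b.1 : k)) (y * ((algebraMap (RatFunc k) K RatFunc.X) -
          (algebraMap k K (b.1 : k))) ^ 0)
      rw [pow_zero, mul_one]
  rw [hfam]
  exact as_B_H1_basis hK hdeg h2 hyr heq B h0 d hd hpole hint Pl hPl

end H1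

end FunFld
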