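import Mathlib
import Groth.Prelude.Def_W4bk4goldsch23FF

/-!
# Geometric function fields of one variable and absolutely irreducible plane relations (helper1)

`K/k` is a geometric function field of one variable iff `K = k(x, y)` with relation ideal
generated by an absolutely irreducible polynomial.
-/

set_option autoImplicit false
set_option maxHeartbeats 1000000

open TensorProduct

universe u v

namespace Groth.Agent.Lib.FunFldAbsIrrH1

section Tensor

variable {k : Type u} [Field k] {K : Type v} [Field K] [Algebra k K]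
variable (k' : Type u) [Field k'] [Algebra k k']
variable {σ : Type*} (a : σ → K)

/-- evaluation at `1 ⊗ a` -/
noncomputable def evT : MvPolynomial σ k' →ₐ[k'] k' ⊗[k] K :=
  MvPolynomial.aeval (fun i => (1 : k') ⊗ₜ[k] a i)

theorem evT_map (p : MvPolynomial σ k) :
    evT k' a (MvPolynomial.map (algebraMap k k') p) = (1 : k') ⊗ₜ[k] MvPolynomial.aeval a p := by
  unfold evT
  rw [MvPolynomial.aeval_map_algebraMap]
  have h : (Algebra.TensorProduct.includeRight : K →ₐ[k] k' ⊗[k] K).comp (MvPolynomial.aeval a)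
      = MvPolynomial.aeval (fun i => (1 : k') ⊗ₜ[k] a i) := by
    apply MvPolynomial.algHom_ext
    intro i
    simp
  have h2 := AlgHom.congr_fun h p
  rw [← h2]
  rfl

theorem evT_equiv (z : k' ⊗[k] MvPolynomial σ k) :
    evT k' a (MvPolynomial.algebraTensorAlgEquiv k k' z) =
      ((MvPolynomial.aeval a : MvPolynomial σ k →ₐ[k] K).toLinearMap).lTensor k' z := by
  induction z using TensorProduct.induction_on with
  | zero => simp
  | tmul c p =>
    rw [MvPolynomial.algebraTensorAlgEquiv_tmul, map_smul, evT_map, LinearMap.lTensor_tmul,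
      TensorProduct.smul_tmul', smul_eq_mul, mul_one]
    rfl
  | add z w hz hw => simp only [map_add, hz, hw]

theorem equiv_mulLeft (f : MvPolynomial σ k) (w : k' ⊗[k] MvPolynomial σ k) :
    MvPolynomial.algebraTensorAlgEquiv k k' ((LinearMap.mulLeft k f).lTensor k' w) =
      MvPolynomial.map (algebraMap k k') f * MvPolynomial.algebraTensorAlgEquiv k k' w := by
  induction w using TensorProduct.induction_on with
  | zero => simp
  | tmul c p =>
    rw [LinearMap.lTensor_tmul, MvPolynomial.algebraTensorAlgEquiv_tmul,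
      MvPolynomial.algebraTensorAlgEquiv_tmul, LinearMap.mulLeft_apply, map_mul, mul_smul_comm]
  | add z w hz hw => simp only [map_add, hz, hw, mul_add]

theorem ker_evT (f : MvPolynomial σ k)
    (hker : RingHom.ker (MvPolynomial.aeval a : MvPolynomial σ k →ₐ[k] K) = Ideal.span {f}) :
    RingHom.ker (evT (k := k) k' a) = Ideal.span {MvPolynomial.map (algebraMap k k') f} := by
  classical
  have hf0 : MvPolynomial.aeval a f = 0 := by
    have : f ∈ RingHom.ker (MvPolynomial.aeval a : MvPolynomial σ k →ₐ[k] K) := by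
      rw [hker]; exact Ideal.mem_span_singleton_self f
    exact this
  apply le_antisymm
  · intro g hg
    rw [RingHom.mem_ker] at hg
    have hex : Function.Exact (LinearMap.mulLeft k f)
        ((MvPolynomial.aeval a : MvPolynomial σ k →ₐ[k] K).toLinearMap) := by
      intro p
      constructor
      · intro hp
        have hp' : p ∈ RingHom.ker (MvPolynomial.aeval a : MvPolynomial σ k →ₐ[k] K) := by
          rw [RingHom.mem_ker]; exact hp
        rw [hker, Ideal.mem_span_singleton] at hp'
        obtain ⟨q, rfl⟩ := hp'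
        exact ⟨q, rfl⟩
      · rintro ⟨q, rfl⟩
        show MvPolynomial.aeval a (f * q) = 0
        rw [map_mul, hf0, zero_mul]
    have hex' := Module.Flat.lTensor_exact k' hex
    have h0 : ((MvPolynomial.aeval a : MvPolynomial σ k →ₐ[k] K).toLinearMap).lTensor k'
        ((MvPolynomial.algebraTensorAlgEquiv k k').symm g) = 0 := by
      rw [← evT_equiv, AlgEquiv.apply_symm_apply]; exact hg
    obtain ⟨w, hw⟩ := (hex' ((MvPolynomial.algebraTensorAlgEquiv k k').symm g)).mp h0
    rw [Ideal.mem_span_singleton]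
    refine ⟨MvPolynomial.algebraTensorAlgEquiv k k' w, ?_⟩
    rw [← equiv_mulLeft, hw, AlgEquiv.apply_symm_apply]
  · rw [Ideal.span_singleton_le_iff_mem, RingHom.mem_ker, evT_map, hf0, TensorProduct.tmul_zero]

theorem irreducible_map_of_isField (hfld : IsField (k' ⊗[k] K)) (f : MvPolynomial σ k) (hf : f ≠ 0)
    (hker : RingHom.ker (MvPolynomial.aeval a : MvPolynomial σ k →ₐ[k] K) = Ideal.span {f}) :
    Irreducible (MvPolynomial.map (algebraMap k k') f) := by
  haveI : IsDomain (k' ⊗[k] K) := hfld.isDomain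
  have hne : MvPolynomial.map (algebraMap k k') f ≠ 0 := by
    intro h
    apply hf
    apply MvPolynomial.map_injective _ (algebraMap k k').injective
    rw [h, map_zero]
  have hprime : (RingHom.ker (evT (k := k) k' a)).IsPrime := RingHom.ker_isPrime _
  rw [ker_evT k' a f hker, Ideal.span_singleton_prime hne] at hprime
  exact hprime.irreducible

theorem tmul_unit (c : K) (hc : c ≠ 0) (z : k' ⊗[k] K) (hz : ((1 : k') ⊗ₜ[k] c) * z = 0) :
    z = 0 := by
  have : ((1 : k') ⊗ₜ[k] c⁻¹) * (((1 : k') ⊗ₜ[k] c) * z) = z := by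
    rw [← mul_assoc, Algebra.TensorProduct.tmul_mul_tmul, mul_one, inv_mul_cancel₀ hc,
      ← Algebra.TensorProduct.one_def, one_mul]
  rw [← this, hz, mul_zero]

theorem exists_denom (hgen : IntermediateField.adjoin k (Set.range a) = ⊤) (z : k' ⊗[k] K) :
    ∃ s : MvPolynomial σ k, MvPolynomial.aeval a s ≠ 0 ∧ ∃ g : MvPolynomial σ k',
      ((1 : k') ⊗ₜ[k] MvPolynomial.aeval a s) * z = evT k' a g := by
  induction z using TensorProduct.induction_on with
  | zero => exact ⟨1, by simp, 0, by simp⟩
  | tmul c κ =>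
    have hκ : κ ∈ IntermediateField.adjoin k (Set.range a) := by rw [hgen]; trivial
    rw [IntermediateField.mem_adjoin_range_iff] at hκ
    obtain ⟨r, s, hrs⟩ := hκ
    by_cases hs : MvPolynomial.aeval a s = 0
    · refine ⟨1, by simp, 0, ?_⟩
      rw [hrs, hs, div_zero, TensorProduct.tmul_zero, mul_zero, map_zero]
    · refine ⟨s, hs, c • MvPolynomial.map (algebraMap k k') r, ?_⟩
      have h1 : MvPolynomial.aeval a s * κ = MvPolynomial.aeval a r := by
        rw [hrs]; field_simp
      rw [map_smul, evT_map, Algebra.TensorProduct.tmul_mul_tmul, one_mul, h1,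
        TensorProduct.smul_tmul', smul_eq_mul, mul_one]
  | add z w hz hw =>
    obtain ⟨s, hs, g, hg⟩ := hz
    obtain ⟨s', hs', g', hg'⟩ := hw
    refine ⟨s * s', by rw [map_mul]; exact mul_ne_zero hs hs',
      MvPolynomial.map (algebraMap k k') s' * g + MvPolynomial.map (algebraMap k k') s * g', ?_⟩
    have e1 : evT k' a (MvPolynomial.map (algebraMap k k') s' * g +
        MvPolynomial.map (algebraMap k k') s * g') =
        ((1 : k') ⊗ₜ[k] MvPolynomial.aeval a s') * (((1 : k') ⊗ₜ[k] MvPolynomial.aeval a s) * z) +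
        ((1 : k') ⊗ₜ[k] MvPolynomial.aeval a s) * (((1 : k') ⊗ₜ[k] MvPolynomial.aeval a s') * w) := by
      rw [map_add, map_mul, map_mul, evT_map, evT_map, ← hg, ← hg']
    have e2 : ((1 : k') ⊗ₜ[k] (MvPolynomial.aeval a s * MvPolynomial.aeval a s')) =
        ((1 : k') ⊗ₜ[k] MvPolynomial.aeval a s) * ((1 : k') ⊗ₜ[k] MvPolynomial.aeval a s') := by
      rw [Algebra.TensorProduct.tmul_mul_tmul, one_mul]
    rw [e1, map_mul, e2]
    ring

theorem tensor_noZeroDivisors (hgen : IntermediateField.adjoin k (Set.range a) = ⊤)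
    (f : MvPolynomial σ k) (hirr : Irreducible (MvPolynomial.map (algebraMap k k') f))
    (hker : RingHom.ker (MvPolynomial.aeval a : MvPolynomial σ k →ₐ[k] K) = Ideal.span {f}) :
    NoZeroDivisors (k' ⊗[k] K) := by
  have hprime : (RingHom.ker (evT (k := k) k' a)).IsPrime := by
    rw [ker_evT k' a f hker, Ideal.span_singleton_prime hirr.ne_zero]
    exact UniqueFactorizationMonoid.irreducible_iff_prime.mp hirr
  refine ⟨fun {z w} hzw => ?_⟩
  obtain ⟨s, hs, g, hg⟩ := exists_denom k' a hgen z
  obtain ⟨s', hs', g', hg'⟩ := exists_denom k' a hgen w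
  have h0 : evT (k := k) k' a (g * g') = 0 := by
    rw [map_mul, ← hg, ← hg']
    calc ((1 : k') ⊗ₜ[k] MvPolynomial.aeval a s) * z *
          (((1 : k') ⊗ₜ[k] MvPolynomial.aeval a s') * w)
        = ((1 : k') ⊗ₜ[k] MvPolynomial.aeval a s) * ((1 : k') ⊗ₜ[k] MvPolynomial.aeval a s') *
          (z * w) := by ring
      _ = 0 := by rw [hzw, mul_zero]
  rcases hprime.mem_or_mem (show g * g' ∈ RingHom.ker (evT (k := k) k' a) from h0) with h | h
  · left
    apply tmul_unit k' (MvPolynomial.aeval a s) hs
    rw [hg]; exact h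
  · right
    apply tmul_unit k' (MvPolynomial.aeval a s') hs'
    rw [hg']; exact h

theorem isField_tensor [FiniteDimensional k k']
    (hgen : IntermediateField.adjoin k (Set.range a) = ⊤)
    (f : MvPolynomial σ k) (hirr : Irreducible (MvPolynomial.map (algebraMap k k') f))
    (hker : RingHom.ker (MvPolynomial.aeval a : MvPolynomial σ k →ₐ[k] K) = Ideal.span {f}) :
    IsField (k' ⊗[k] K) := by
  haveI := tensor_noZeroDivisors k' a hgen f hirr hker
  haveI : Nontrivial (k' ⊗[k] K) :=
    Algebra.TensorProduct.nontrivial_of_algebraMap_injective_of_flat_left k k' K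
      (algebraMap k K).injective
  haveI : IsDomain (k' ⊗[k] K) := NoZeroDivisors.to_isDomain _
  letI alg : Algebra K (k' ⊗[k] K) :=
    (Algebra.TensorProduct.includeRight : K →ₐ[k] k' ⊗[k] K).toRingHom.toAlgebra
  haveI : IsScalarTower k K (k' ⊗[k] K) := IsScalarTower.of_algebraMap_eq (fun r => by
    show algebraMap k (k' ⊗[k] K) r =
      (Algebra.TensorProduct.includeRight : K →ₐ[k] k' ⊗[k] K) (algebraMap k K r)
    rw [AlgHom.commutes])
  haveI : Algebra.IsIntegral K (k' ⊗[k] K) := ⟨fun z => by
    induction z using TensorProduct.induction_on with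
    | zero => exact isIntegral_zero
    | tmul c κ =>
      have h1 : IsIntegral k ((Algebra.TensorProduct.includeLeft : k' →ₐ[k] k' ⊗[k] K) c) :=
        (Algebra.IsIntegral.isIntegral c).map _
      have h2 : IsIntegral K (c ⊗ₜ[k] (1 : K)) := h1.tower_top
      have h3 : IsIntegral K (algebraMap K (k' ⊗[k] K) κ) := isIntegral_algebraMap
      have h4 : c ⊗ₜ[k] κ = (c ⊗ₜ[k] (1 : K)) * algebraMap K (k' ⊗[k] K) κ := by
        show _ = (c ⊗ₜ[k] (1 : K)) * ((1 : k') ⊗ₜ[k] κ)
        rw [Algebra.TensorProduct.tmul_mul_tmul, mul_one, one_mul]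
      rw [h4]; exact h2.mul h3
    | add z w hz hw => exact hz.add hw⟩
  exact isField_of_isIntegral_of_isField' (Field.toIsField K)

theorem eq_base_of_tensor_field (hfld : IsField (k' ⊗[k] K))
    (ι : k' →ₐ[k] K) (r : k') : r ∈ Set.range (algebraMap k k') := by
  classical
  let μ : k' ⊗[k] K →ₐ[k] K := Algebra.TensorProduct.productMap ι (AlgHom.id k K)
  have hμz : μ (r ⊗ₜ[k] (1 : K) - (1 : k') ⊗ₜ[k] ι r) = 0 := by
    simp [μ, Algebra.TensorProduct.productMap_apply_tmul]
  have hz0 : r ⊗ₜ[k] (1 : K) - (1 : k') ⊗ₜ[k] ι r = 0 := by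
    by_contra hne
    obtain ⟨w, hw⟩ := hfld.mul_inv_cancel hne
    have h1 : μ ((r ⊗ₜ[k] (1 : K) - (1 : k') ⊗ₜ[k] ι r) * w) = 1 := by rw [hw, map_one]
    rw [map_mul, hμz, zero_mul] at h1
    exact zero_ne_one h1
  by_contra hr
  have hrp : r ∉ LinearMap.range (Algebra.linearMap k k') := by
    rintro ⟨c, hc⟩
    exact hr ⟨c, hc⟩
  obtain ⟨ℓ, hℓr, hℓp⟩ := Submodule.exists_dual_map_eq_bot_of_notMem hrp inferInstance
  have hℓ1 : ℓ 1 = 0 := by
    have h1 : ℓ 1 ∈ (LinearMap.range (Algebra.linearMap k k')).map ℓ :=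
      Submodule.mem_map_of_mem ⟨1, by simp⟩
    rw [hℓp] at h1
    exact (Submodule.mem_bot k).mp h1
  let T : k' ⊗[k] K →ₗ[k] K := (TensorProduct.lid k K).toLinearMap ∘ₗ (ℓ.rTensor K)
  have hT : T (r ⊗ₜ[k] (1 : K) - (1 : k') ⊗ₜ[k] ι r) = ℓ r • (1 : K) := by
    simp [T, hℓ1]
  rw [hz0, map_zero] at hT
  apply hℓr
  have h2 := hT.symm
  rwa [smul_eq_zero, or_iff_left one_ne_zero] at h2

end Tensor

section Main

variable {k : Type u} [Field k] {K : Type v} [Field K] [Algebra k K]

theorem algebraic_mem_range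
    (hgeo : FunFld.IsGeometric k K)
    (α : K) (hα : IsAlgebraic k α) : α ∈ Set.range (algebraMap k K) := by
  have hint : IsIntegral k α := hα.isIntegral
  haveI : Fact (Irreducible (minpoly k α)) := ⟨minpoly.irreducible hint⟩
  haveI : FiniteDimensional k (AdjoinRoot (minpoly k α)) := (minpoly.monic hint).finite_adjoinRoot
  have hfld := hgeo (AdjoinRoot (minpoly k α)) inferInstance
  let ι : AdjoinRoot (minpoly k α) →ₐ[k] K :=
    AdjoinRoot.liftAlgHom (minpoly k α) (Algebra.ofId k K) α (by
      have := minpoly.aeval k α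
      rwa [Polynomial.aeval_def] at this)
  obtain ⟨c, hc⟩ := eq_base_of_tensor_field (AdjoinRoot (minpoly k α)) hfld ι
    (AdjoinRoot.root (minpoly k α))
  refine ⟨c, ?_⟩
  have h1 : ι (AdjoinRoot.root (minpoly k α)) = α := AdjoinRoot.liftAlgHom_root _ _ _ _
  rw [← h1, ← hc, AlgHom.commutes]

theorem algInd_iff (x y : K) :
    AlgebraicIndependent k ![x, y] ↔
      Transcendental k x ∧ ¬ IsAlgebraic (IntermediateField.adjoin k ({x} : Set K)) y := by
  have himg : (![x, y] '' ({1}ᶜ : Set (Fin 2))) = {x} := by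
    ext t
    simp only [Set.mem_image, Set.mem_compl_iff, Set.mem_singleton_iff]
    constructor
    · rintro ⟨i, hi, rfl⟩
      fin_cases i
      · rfl
      · exact absurd rfl hi
    · rintro rfl
      exact ⟨0, by decide, rfl⟩
  letI : Unique {j : Fin 2 // j ≠ 1} :=
    { default := ⟨0, by decide⟩
      uniq := by
        rintro ⟨j, hj⟩
        fin_cases j
        · rfl
        · exact absurd rfl hj }
  rw [AlgebraicIndependent.iff_transcendental_adjoin_image (1 : Fin 2),
    algebraicIndependent_unique_type_iff, IntermediateField.isAlgebraic_adjoin_iff]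
  have key : ∀ S T : Set K, S = T →
      (Transcendental (Algebra.adjoin k S) y ↔ ¬ IsAlgebraic (Algebra.adjoin k T) y) := by
    rintro S T rfl; rfl
  exact and_congr Iff.rfl (key _ _ himg)

theorem finite_of_top {F : Type*} [Field F] {E : Type*} [Field E] [Algebra F E]
    (L : IntermediateField F E) (hL : L = ⊤) [FiniteDimensional F L] : FiniteDimensional F E :=
  Module.Finite.equiv ((IntermediateField.equivOfEq hL).trans IntermediateField.topEquiv).toLinearEquiv

theorem finite_of_adjoin_pair (t s : K) (hgen : IntermediateField.adjoin k ({t, s} : Set K) = ⊤)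
    (hs : IsAlgebraic (IntermediateField.adjoin k ({t} : Set K)) s) :
    FiniteDimensional (IntermediateField.adjoin k ({t} : Set K)) K := by
  have h1 : IntermediateField.adjoin (IntermediateField.adjoin k ({t} : Set K)) ({s} : Set K) = ⊤ := by
    apply IntermediateField.restrictScalars_injective k
    rw [IntermediateField.adjoin_adjoin_left, IntermediateField.restrictScalars_top,
      Set.singleton_union, hgen]
  haveI := IntermediateField.adjoin.finiteDimensional hs.isIntegral
  exact finite_of_top _ h1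

theorem not_dvd_both (f : MvPolynomial (Fin 2) k) (hu : ¬ IsUnit f) (hf0 : f ≠ 0) (c d : k)
    (h0 : f ∣ MvPolynomial.X 0 - MvPolynomial.C c) (h1 : f ∣ MvPolynomial.X 1 - MvPolynomial.C d) :
    False := by
  classical
  have key : ∀ (i j : Fin 2) (e : k), i ≠ j → f ∣ MvPolynomial.X j - MvPolynomial.C e →
      MvPolynomial.degreeOf i f = 0 := by
    rintro i j e hij ⟨g, hg⟩
    have hne : (MvPolynomial.X j - MvPolynomial.C e : MvPolynomial (Fin 2) k) ≠ 0 := by
      intro h
      have h2 := congrArg MvPolynomial.totalDegree (sub_eq_zero.mp h)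
      simp at h2
    have hg0 : g ≠ 0 := by
      rintro rfl
      rw [mul_zero] at hg
      exact hne hg
    have hdeg : MvPolynomial.degreeOf i
        (MvPolynomial.X j - MvPolynomial.C e : MvPolynomial (Fin 2) k) = 0 := by
      rw [sub_eq_add_neg, ← MvPolynomial.C_neg]
      apply Nat.eq_zero_of_le_zero
      refine (MvPolynomial.degreeOf_add_le _ _ _).trans ?_
      rw [MvPolynomial.degreeOf_X_of_ne hij, MvPolynomial.degreeOf_C]
      simp
    rw [hg, MvPolynomial.degreeOf_mul_eq hf0 hg0] at hdeg
    omega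
  have d0 := key 0 1 d (by decide) h1
  have d1 := key 1 0 c (by decide) h0
  have hsupp : ∀ m ∈ f.support, m = 0 := by
    intro m hm
    have h0' : m 0 < 1 :=
      (MvPolynomial.degreeOf_lt_iff (by norm_num)).mp (by rw [d0]; norm_num) m hm
    have h1' : m 1 < 1 :=
      (MvPolynomial.degreeOf_lt_iff (by norm_num)).mp (by rw [d1]; norm_num) m hm
    ext i
    fin_cases i
    · simpa using Nat.lt_one_iff.mp h0'
    · simpa using Nat.lt_one_iff.mp h1'
  have hfC : f = MvPolynomial.C (MvPolynomial.coeff 0 f) := by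
    ext m
    by_cases hm : m = 0
    · subst hm; simp
    · rw [MvPolynomial.coeff_C, if_neg (Ne.symm hm)]
      by_contra hne
      exact hm (hsupp m (MvPolynomial.mem_support_iff.mpr hne))
  apply hu
  rw [hfC]
  apply IsUnit.map
  apply IsUnit.mk0
  intro h
  apply hf0
  rw [hfC, h, map_zero]

theorem ker_principal (x y : K) (hx : Transcendental k x)
    (hy : IsAlgebraic (IntermediateField.adjoin k ({x} : Set K)) y) :
    ∃ f : MvPolynomial (Fin 2) k, f ≠ 0 ∧
      RingHom.ker (MvPolynomial.aeval ![x, y] : MvPolynomial (Fin 2) k →ₐ[k] K) =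
        Ideal.span {f} := by
  classical
  haveI hPprime : (RingHom.ker
      (MvPolynomial.aeval ![x, y] : MvPolynomial (Fin 2) k →ₐ[k] K)).IsPrime :=
    RingHom.ker_isPrime _
  have hPne : RingHom.ker
      (MvPolynomial.aeval ![x, y] : MvPolynomial (Fin 2) k →ₐ[k] K) ≠ ⊥ := by
    intro hbot
    have hinj : Function.Injective
        (MvPolynomial.aeval ![x, y] : MvPolynomial (Fin 2) k →ₐ[k] K) :=
      (RingHom.injective_iff_ker_eq_bot _).mpr hbot
    have hai : AlgebraicIndependent k ![x, y] := hinj
    exact ((algInd_iff x y).mp hai).2 hy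
  obtain ⟨f, hfP, hfprime⟩ := Ideal.IsPrime.exists_mem_prime_of_ne_bot hPprime hPne
  refine ⟨f, hfprime.ne_zero, ?_⟩
  have hnotmax : ¬ (RingHom.ker
      (MvPolynomial.aeval ![x, y] : MvPolynomial (Fin 2) k →ₐ[k] K)).IsMaximal := by
    intro hmax
    letI : Field (MvPolynomial (Fin 2) k ⧸ RingHom.ker
      (MvPolynomial.aeval ![x, y] : MvPolynomial (Fin 2) k →ₐ[k] K)) := Ideal.Quotient.field _
    haveI : Module.Finite k (MvPolynomial (Fin 2) k ⧸ RingHom.ker
        (MvPolynomial.aeval ![x, y] : MvPolynomial (Fin 2) k →ₐ[k] K)) :=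
      finite_of_finite_type_of_isJacobsonRing k _
    have hint : IsIntegral k (Ideal.Quotient.mk (RingHom.ker
        (MvPolynomial.aeval ![x, y] : MvPolynomial (Fin 2) k →ₐ[k] K)) (MvPolynomial.X 0)) :=
      Algebra.IsIntegral.isIntegral _
    have h2 := hint.map (Ideal.kerLiftAlg
      (MvPolynomial.aeval ![x, y] : MvPolynomial (Fin 2) k →ₐ[k] K))
    rw [Ideal.kerLiftAlg_mk] at h2
    have hx' : IsIntegral k x := by simpa using h2
    exact hx hx'.isAlgebraic
  obtain ⟨M, hM, hPM⟩ := Ideal.exists_le_maximal _ hPprime.ne_top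
  have hlt : RingHom.ker
      (MvPolynomial.aeval ![x, y] : MvPolynomial (Fin 2) k →ₐ[k] K) < M :=
    lt_of_le_of_ne hPM (fun h => hnotmax (h ▸ hM))
  haveI := hM.isPrime
  have h1 := Ideal.height_add_one_le_of_lt_of_isPrime hlt
  have h2 : (M.height : WithBot ℕ∞) ≤ ringKrullDim (MvPolynomial (Fin 2) k) :=
    Ideal.height_le_ringKrullDim_of_isPrime
  have h3 : ringKrullDim (MvPolynomial (Fin 2) k) = 2 := by
    rw [MvPolynomial.ringKrullDim_of_isNoetherianRing, ringKrullDim_eq_zero_of_field]
    simp
  have h4 : M.height ≤ 2 := by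
    rw [h3] at h2
    have h2' : (M.height : WithBot ℕ∞) ≤ ((2 : ℕ∞) : WithBot ℕ∞) := h2
    exact WithBot.coe_le_coe.mp h2'
  have hne_top : (RingHom.ker
      (MvPolynomial.aeval ![x, y] : MvPolynomial (Fin 2) k →ₐ[k] K)).height ≠ ⊤ := by
    intro h
    rw [h] at h1
    have := h1.trans h4
    simp at this
  obtain ⟨n, hn⟩ := ENat.ne_top_iff_exists.mp hne_top
  have h5 : n ≤ 1 := by
    rw [← hn] at h1
    have h6 : ((n + 1 : ℕ) : ℕ∞) ≤ 2 := by push_cast; exact h1.trans h4
    have h7 : n + 1 ≤ 2 := by exact_mod_cast h6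
    omega
  have h8 : n ≠ 0 := by
    rintro rfl
    have : (RingHom.ker
      (MvPolynomial.aeval ![x, y] : MvPolynomial (Fin 2) k →ₐ[k] K)).height = 0 := by
      rw [← hn]; rfl
    rw [Ideal.height_eq_zero_iff_eq_bot] at this
    exact hPne this
  have h9 : (RingHom.ker
      (MvPolynomial.aeval ![x, y] : MvPolynomial (Fin 2) k →ₐ[k] K)).height = 1 := by
    rw [← hn]
    have : n = 1 := by omega
    rw [this]; rfl
  exact Ideal.eq_span_singleton_of_height_eq_one h9 hfP hfprime

theorem linIndep_pow (hG : FunFld.IsGeometric k K) (p : ℕ) [hp : Fact p.Prime] [CharP k p]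
    (s : Finset K) (hs : LinearIndepOn k id (s : Set K)) :
    LinearIndepOn k (· ^ p) (s : Set K) := by
  classical
  unfold LinearIndepOn at hs ⊢
  rw [Fintype.linearIndependent_iff]
  intro g hg
  have hGmonic : (∏ j : ((s : Set K) : Type v),
      (Polynomial.X ^ p - Polynomial.C (g j) : Polynomial k)).Monic :=
    Polynomial.monic_prod_of_monic _ _
      (fun j _ => Polynomial.monic_X_pow_sub_C _ hp.out.ne_zero)
  generalize hGdef : (∏ j : ((s : Set K) : Type v),
      (Polynomial.X ^ p - Polynomial.C (g j) : Polynomial k)) = G at hGmonic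
  have hfld : IsField (G.SplittingField ⊗[k] K) := hG G.SplittingField inferInstance
  haveI : IsDomain (G.SplittingField ⊗[k] K) := hfld.isDomain
  haveI : CharP (G.SplittingField ⊗[k] K) p :=
    charP_of_injective_algebraMap (algebraMap k (G.SplittingField ⊗[k] K)).injective p
  haveI : ExpChar (G.SplittingField ⊗[k] K) p := ExpChar.prime hp.out
  have hroot : ∀ j : ((s : Set K) : Type v),
      ∃ d : G.SplittingField, d ^ p = algebraMap k G.SplittingField (g j) := by
    intro j
    have hsplit : (G.map (algebraMap k G.SplittingField)).Splits :=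
      Polynomial.SplittingField.splits G
    have hdvd : (Polynomial.X ^ p - Polynomial.C (g j) : Polynomial k).map
        (algebraMap k G.SplittingField) ∣ G.map (algebraMap k G.SplittingField) := by
      apply Polynomial.map_dvd
      rw [← hGdef]
      exact Finset.dvd_prod_of_mem _ (Finset.mem_univ j)
    have hG0 : G.map (algebraMap k G.SplittingField) ≠ 0 := (hGmonic.map _).ne_zero
    have hsp := hsplit.of_dvd hG0 hdvd
    have hdeg : ((Polynomial.X ^ p - Polynomial.C (g j) : Polynomial k).map
        (algebraMap k G.SplittingField)).degree ≠ 0 := by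
      rw [Polynomial.degree_map, Polynomial.degree_X_pow_sub_C hp.out.pos]
      exact_mod_cast hp.out.ne_zero
    obtain ⟨d, hd⟩ := hsp.exists_eval_eq_zero hdeg
    refine ⟨d, ?_⟩
    simpa [sub_eq_zero] using hd
  choose d hd using hroot
  have hz : (∑ j, d j ⊗ₜ[k] (j : K) : G.SplittingField ⊗[k] K) = 0 := by
    have hzp : (∑ j, d j ⊗ₜ[k] (j : K) : G.SplittingField ⊗[k] K) ^ p = 0 := by
      rw [sum_pow_char p]
      have hterm : ∀ j ∈ (Finset.univ : Finset ((s : Set K) : Type v)),
          (d j ⊗ₜ[k] (j : K) : G.SplittingField ⊗[k] K) ^ p =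
            (1 : G.SplittingField) ⊗ₜ[k] (g j • (j : K) ^ p) := by
        intro j _
        rw [Algebra.TensorProduct.tmul_pow, hd j, Algebra.algebraMap_eq_smul_one,
          TensorProduct.smul_tmul]
      rw [Finset.sum_congr rfl hterm, ← TensorProduct.tmul_sum]
      have hg' : ∑ j, g j • (j : K) ^ p = 0 := hg
      rw [hg', TensorProduct.tmul_zero]
    exact (pow_eq_zero_iff hp.out.ne_zero).mp hzp
  have hli := Module.Flat.linearIndependent_one_tmul (S := G.SplittingField) hs
  rw [Fintype.linearIndependent_iff] at hli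
  have hd0 : ∀ j, d j = 0 := by
    apply hli d
    refine Eq.trans ?_ hz
    apply Finset.sum_congr rfl
    intro j _
    show d j • ((1 : G.SplittingField) ⊗ₜ[k] (j : K)) = d j ⊗ₜ[k] (j : K)
    rw [TensorProduct.smul_tmul', smul_eq_mul, mul_one]
  intro j
  have h1 := hd j
  rw [hd0 j, zero_pow hp.out.ne_zero] at h1
  exact (map_eq_zero (algebraMap k G.SplittingField)).mp h1.symm

theorem exists_sep_gen (hF : FunFld.IsFunctionField k K) (hG : FunFld.IsGeometric k K) :
    ∃ x : K, Transcendental k x ∧
      FiniteDimensional (IntermediateField.adjoin k ({x} : Set K)) K ∧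
      Algebra.IsSeparable (IntermediateField.adjoin k ({x} : Set K)) K := by
  classical
  obtain ⟨⟨x₀, hx₀, hfin⟩, -⟩ := hF
  haveI := hfin
  obtain hc | ⟨p, hp, hpk⟩ := CharP.exists' k
  · refine ⟨x₀, hx₀, hfin, ?_⟩
    haveI : CharZero (IntermediateField.adjoin k ({x₀} : Set K)) :=
      charZero_of_injective_algebraMap
        (algebraMap k (IntermediateField.adjoin k ({x₀} : Set K))).injective
    infer_instance
  · haveI := hp
    haveI := hpk
    haveI e1 : Algebra.EssFiniteType k (IntermediateField.adjoin k ({x₀} : Set K)) := by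
      rw [IntermediateField.essFiniteType_iff]
      exact ⟨{x₀}, by simp⟩
    haveI e3 : Algebra.EssFiniteType k K :=
      Algebra.EssFiniteType.comp k (IntermediateField.adjoin k ({x₀} : Set K)) K
    obtain ⟨s, hs, hsep⟩ :=
      exists_isTranscendenceBasis_and_isSeparable_of_linearIndepOn_pow_of_essFiniteType p hp.out
        (fun s hs => linIndep_pow hG p s hs)
    have h₀ : IsTranscendenceBasis k ((↑) : ↥({x₀} : Set K) → K) := by
      have hind : AlgebraicIndependent k ((↑) : ↥({x₀} : Set K) → K) := by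
        rw [algebraicIndependent_unique_type_iff]; exact hx₀
      refine hind.isTranscendenceBasis_iff_isAlgebraic.mpr ?_
      have key : ∀ S : Set K, S = {x₀} → Algebra.IsAlgebraic (Algebra.adjoin k S) K := by
        rintro S rfl
        exact IntermediateField.isAlgebraic_adjoin_iff_top.mp inferInstance
      exact key _ Subtype.range_coe
    have hcard : s.card = 1 := by
      have h := hs.cardinalMk_eq h₀
      rw [Cardinal.mk_coe_finset, Cardinal.mk_singleton] at h
      exact_mod_cast h
    obtain ⟨x, rfl⟩ := Finset.card_eq_one.mp hcard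
    have hxtr : Transcendental k x := hs.1.transcendental ⟨x, Finset.mem_singleton_self x⟩
    have key : ∀ S T : Set K, S = T →
        Algebra.IsSeparable (IntermediateField.adjoin k S) K →
        Algebra.IsSeparable (IntermediateField.adjoin k T) K := by
      rintro S T rfl h; exact h
    have hsep' : Algebra.IsSeparable (IntermediateField.adjoin k ({x} : Set K)) K :=
      key _ _ (Finset.coe_singleton x) hsep
    refine ⟨x, hxtr, ?_, hsep'⟩
    haveI := hsep'
    haveI : Algebra.IsAlgebraic (IntermediateField.adjoin k ({x} : Set K)) K :=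
      Algebra.IsSeparable.isAlgebraic _ _
    obtain ⟨T, hT⟩ := IntermediateField.fg_top k K
    have h1 : IntermediateField.adjoin (IntermediateField.adjoin k ({x} : Set K)) (T : Set K) = ⊤ := by
      apply IntermediateField.restrictScalars_injective k
      rw [IntermediateField.adjoin_adjoin_left, IntermediateField.restrictScalars_top]
      apply top_le_iff.mp
      rw [← hT]
      exact IntermediateField.adjoin.mono _ _ _ Set.subset_union_right
    haveI : FiniteDimensional (IntermediateField.adjoin k ({x} : Set K))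
        (IntermediateField.adjoin (IntermediateField.adjoin k ({x} : Set K)) (T : Set K)) :=
      IntermediateField.finiteDimensional_adjoin
        (fun t _ => (Algebra.IsAlgebraic.isAlgebraic t).isIntegral)
    exact finite_of_top _ h1

theorem forward (hF : FunFld.IsFunctionField k K) (hG : FunFld.IsGeometric k K) :
    ∃ (x y : K) (f : MvPolynomial (Fin 2) k),
      IntermediateField.adjoin k ({x, y} : Set K) = ⊤ ∧
      (∀ (k' : Type u) [Field k'] [Algebra k k'], FiniteDimensional k k' →
        Irreducible (MvPolynomial.map (algebraMap k k') f)) ∧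
      RingHom.ker (MvPolynomial.aeval ![x, y] : MvPolynomial (Fin 2) k →ₐ[k] K) =
        Ideal.span {f} := by
  obtain ⟨x, hx, hfin, hsep⟩ := exists_sep_gen hF hG
  haveI := hfin
  haveI := hsep
  obtain ⟨y, hy⟩ := Field.exists_primitive_element (IntermediateField.adjoin k ({x} : Set K)) K
  have hgen : IntermediateField.adjoin k ({x, y} : Set K) = ⊤ := by
    have h := IntermediateField.adjoin_adjoin_left k ({x} : Set K) ({y} : Set K)
    rw [hy, IntermediateField.restrictScalars_top, Set.singleton_union] at h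
    exact h.symm
  have hyalg : IsAlgebraic (IntermediateField.adjoin k ({x} : Set K)) y :=
    Algebra.IsAlgebraic.isAlgebraic y
  obtain ⟨f, hf0, hker⟩ := ker_principal x y hx hyalg
  refine ⟨x, y, f, hgen, ?_, hker⟩
  intro k' _ _ hfd
  exact irreducible_map_of_isField k' ![x, y] (hG k' hfd) f hf0 hker

theorem backward (x y : K) (f : MvPolynomial (Fin 2) k)
    (hgen : IntermediateField.adjoin k ({x, y} : Set K) = ⊤)
    (hirr : ∀ (k' : Type u) [Field k'] [Algebra k k'], FiniteDimensional k k' →
        Irreducible (MvPolynomial.map (algebraMap k k') f))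
    (hker : RingHom.ker (MvPolynomial.aeval ![x, y] : MvPolynomial (Fin 2) k →ₐ[k] K) =
      Ideal.span {f}) :
    FunFld.IsFunctionField k K ∧ FunFld.IsGeometric k K := by
  have hrange : Set.range ![x, y] = ({x, y} : Set K) := by
    ext t
    constructor
    · rintro ⟨i, rfl⟩
      fin_cases i
      · simp
      · simp
    · rintro (rfl | rfl)
      · exact ⟨0, rfl⟩
      · exact ⟨1, rfl⟩
  have hgen' : IntermediateField.adjoin k (Set.range ![x, y]) = ⊤ := by rw [hrange]; exact hgen
  have hG : FunFld.IsGeometric k K := by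
    intro k' _ _ hfd
    exact isField_tensor k' ![x, y] hgen' f (hirr k' hfd) hker
  have hb : ∀ α : K, IsAlgebraic k α → α ∈ Set.range (algebraMap k K) :=
    fun α hα => algebraic_mem_range hG α hα
  have hfirr : Irreducible f := by
    have h := hirr k inferInstance
    rwa [Algebra.algebraMap_self, MvPolynomial.map_id] at h
  have hfmem : ∀ g : MvPolynomial (Fin 2) k, MvPolynomial.aeval ![x, y] g = 0 → f ∣ g := by
    intro g hg
    have : g ∈ RingHom.ker (MvPolynomial.aeval ![x, y] : MvPolynomial (Fin 2) k →ₐ[k] K) := hg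
    rw [hker, Ideal.mem_span_singleton] at this
    exact this
  refine ⟨⟨?_, hb⟩, hG⟩
  by_cases hx : IsAlgebraic k x
  · obtain ⟨c, hc⟩ := hb x hx
    have hy : Transcendental k y := by
      intro hy
      obtain ⟨d, hd⟩ := hb y hy
      refine not_dvd_both f hfirr.not_isUnit hfirr.ne_zero c d (hfmem _ ?_) (hfmem _ ?_)
      · simp [hc]
      · simp [hd]
    refine ⟨y, hy, ?_⟩
    apply finite_of_adjoin_pair y x (by rw [Set.pair_comm]; exact hgen)
    exact hx.tower_top (L := IntermediateField.adjoin k ({y} : Set K))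
  · refine ⟨x, hx, finite_of_adjoin_pair x y hgen ?_⟩
    by_contra hy
    have hai : AlgebraicIndependent k ![x, y] := (algInd_iff x y).mpr ⟨hx, hy⟩
    have hinj : Function.Injective
        (MvPolynomial.aeval ![x, y] : MvPolynomial (Fin 2) k →ₐ[k] K) := hai
    have hf0 : f = 0 := by
      apply hinj
      rw [map_zero]
      have : f ∈ RingHom.ker (MvPolynomial.aeval ![x, y] : MvPolynomial (Fin 2) k →ₐ[k] K) := by
        rw [hker]; exact Ideal.mem_span_singleton_self f
      exact this
    exact hfirr.ne_zero hf0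

theorem main11008 (k : Type u) (K : Type v) [Field k] [Field K] [Algebra k K] :
    (FunFld.IsFunctionField k K ∧ FunFld.IsGeometric k K) ↔
      ∃ (x y : K) (f : MvPolynomial (Fin 2) k),
        IntermediateField.adjoin k ({x, y} : Set K) = ⊤ ∧
        (∀ (k' : Type u) [Field k'] [Algebra k k'], FiniteDimensional k k' →
          Irreducible (MvPolynomial.map (algebraMap k k') f)) ∧
        RingHom.ker (MvPolynomial.aeval ![x, y] : MvPolynomial (Fin 2) k →ₐ[k] K) =
          Ideal.span {f} := by
  constructor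
  · rintro ⟨hF, hG⟩
    exact forward hF hG
  · rintro ⟨x, y, f, hgen, hirr, hker⟩
    exact backward x y f hgen hirr hker

end Main

end Groth.Agent.Lib.FunFldAbsIrrH1
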