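import Mathlib
import Groth.Agent.Lib.FunFldPlane_helper2
import Groth.Agent.Lib.FunFldU_helper2
import Groth.Agent.Lib.FunFldHasseJ_helper2

/-! Plane models (helper2), part 1: general lemmas on local rings of projective maps,
integrality from regularity, and generic linear projections. -/

open Module WithZero IntermediateField

namespace FunFld

variable {k K : Type*} [Field k] [Field K] [Algebra k K]

section LocSub

theorem locSub_mono {A B : Subalgebra k K} (h : A ≤ B) (P : Place k K) :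
    locSub A P ≤ locSub B P := by
  rintro z ⟨u, hu, w, hw, hw1, e⟩
  exact ⟨u, h hu, w, h hw, hw1, e⟩

theorem div_mem_locSub {A : Subalgebra k K} {P : Place k K} {z u w : K}
    (hu : u ∈ locSub A P) (hw : w ∈ locSub A P) (hw1 : P.1 w = 1) (h : z * w = u) :
    z ∈ locSub A P := by
  have hw0 : w ≠ 0 := fun h0 => by rw [h0, map_zero] at hw1; exact zero_ne_one hw1
  have e : z = u * w⁻¹ := by rw [← h, mul_assoc, mul_inv_cancel₀ hw0, mul_one]
  rw [e]
  exact mul_mem hu (inv_mem_locSub hw hw1)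

theorem locSub_le_of_le_locSub {A B : Subalgebra k K} {P : Place k K} (h : A ≤ locSub B P) :
    locSub A P ≤ locSub B P := by
  rintro z ⟨u, hu, w, hw, hw1, e⟩
  exact div_mem_locSub (h hu) (h hw) hw1 e

/-- The local ring of a projective map only depends on the span of its entries. -/
theorem inLocRing_of_span_eq {ι ι' : Type*} [Fintype ι'] (φ : ι → K) (ψ : ι' → K)
    (hspan : Submodule.span k (Set.range φ) = Submodule.span k (Set.range ψ)) (P : Place k K)
    {z : K} (hz : InLocRing φ P z) : InLocRing ψ P z := by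
  classical
  obtain ⟨j, hj0, hjP, u, hu, w, hw, hw1, e⟩ := hz
  have hφmem : ∀ i, φ i ∈ Submodule.span k (Set.range ψ) := fun i =>
    hspan ▸ Submodule.subset_span ⟨i, rfl⟩
  have hψmem : ∀ i, ψ i ∈ Submodule.span k (Set.range φ) := fun i =>
    hspan.symm ▸ Submodule.subset_span ⟨i, rfl⟩
  haveI : Nonempty ι' := by
    by_contra hne
    rw [not_nonempty_iff] at hne
    have h1 := hφmem j
    rw [Set.range_eq_empty ψ, Submodule.span_empty] at h1
    exact hj0 ((Submodule.mem_bot k).mp h1)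
  obtain ⟨j', -, hj'max⟩ :=
    Finset.exists_max_image Finset.univ (fun i => P.1 (ψ i)) Finset.univ_nonempty
  have hj'P : ∀ i, P.1 (ψ i) ≤ P.1 (ψ j') := fun i => hj'max i (Finset.mem_univ i)
  have hle1 : P.1 (φ j) ≤ P.1 (ψ j') := by
    apply val_le_of_mem_span P (s := Set.range ψ) ?_ (hφmem j)
    rintro _ ⟨i, rfl⟩
    exact hj'P i
  have hj'0 : ψ j' ≠ 0 := by
    intro h0
    rw [h0, map_zero] at hle1
    exact hj0 ((P.1.zero_iff).mp (le_antisymm hle1 zero_le))
  have hle2 : P.1 (ψ j') ≤ P.1 (φ j) := by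
    apply val_le_of_mem_span P (s := Set.range φ) ?_ (hψmem j')
    rintro _ ⟨i, rfl⟩
    exact hjP i
  have hveq : P.1 (φ j) = P.1 (ψ j') := le_antisymm hle1 hle2
  obtain ⟨A, hA⟩ : ∃ A : Subalgebra k K, A = Algebra.adjoin k (Set.range fun i => ψ i / ψ j') :=
    ⟨_, rfl⟩
  have hq : φ j / ψ j' ∈ A := hA ▸ div_mem_adjoin_of_mem_span ψ j' (hφmem j)
  have hq1 : P.1 (φ j / ψ j') = 1 := by
    rw [map_div₀, hveq]
    exact div_self ((P.1.ne_zero_iff).mpr hj'0)
  have hqinv : (φ j / ψ j')⁻¹ ∈ locSub A P := inv_mem_locSub (le_locSub A P hq) hq1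
  have hgen : Algebra.adjoin k (Set.range fun i => φ i / φ j) ≤ locSub A P := by
    apply Algebra.adjoin_le
    rintro _ ⟨i, rfl⟩
    have hi : φ i / ψ j' ∈ A := hA ▸ div_mem_adjoin_of_mem_span ψ j' (hφmem i)
    have e1 : φ i / φ j = φ i / ψ j' * (φ j / ψ j')⁻¹ := by
      field_simp
    show φ i / φ j ∈ locSub A P
    rw [e1]
    exact mul_mem (le_locSub A P hi) hqinv
  have hzA : z ∈ locSub A P := div_mem_locSub (hgen hu) (hgen hw) hw1 e
  rw [hA] at hzA
  exact (inLocRing_iff ψ P j' hj'0 hj'P z).mpr hzA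

theorem isNonsingularAt_of_span_eq {ι ι' : Type*} [Fintype ι'] (φ : ι → K) (ψ : ι' → K)
    (hspan : Submodule.span k (Set.range φ) = Submodule.span k (Set.range ψ)) (P : Place k K)
    (h : IsNonsingularAt φ P) : IsNonsingularAt ψ P := fun z hz =>
  inLocRing_of_span_eq φ ψ hspan P (h z hz)

theorem mapDiv_eq_of_span_eq (hK : IsFunctionField k K) {ι ι' : Type*} [Fintype ι] [Nonempty ι]
    [Fintype ι'] [Nonempty ι'] (φ : ι → K) (ψ : ι' → K) (h1φ : ∃ i, φ i = 1)
    (h1ψ : ∃ i, ψ i = 1)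
    (hspan : Submodule.span k (Set.range φ) = Submodule.span k (Set.range ψ)) :
    mapDiv k φ = mapDiv k ψ := by
  ext Q
  rw [mapDiv_apply hK, mapDiv_apply hK]
  congr 1
  apply le_antisymm
  · rw [le_minOrd_iff_of_one_mem Q ψ h1ψ]
    intro i
    have hmem : ψ i ∈ Submodule.span k (Set.range φ) :=
      hspan.symm ▸ Submodule.subset_span ⟨i, rfl⟩
    apply val_le_of_mem_span Q (s := Set.range φ) ?_ hmem
    rintro _ ⟨j, rfl⟩
    exact (le_minOrd_iff_of_one_mem Q φ h1φ _).mp le_rfl j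
  · rw [le_minOrd_iff_of_one_mem Q φ h1φ]
    intro i
    have hmem : φ i ∈ Submodule.span k (Set.range ψ) :=
      hspan ▸ Submodule.subset_span ⟨i, rfl⟩
    apply val_le_of_mem_span Q (s := Set.range ψ) ?_ hmem
    rintro _ ⟨j, rfl⟩
    exact (le_minOrd_iff_of_one_mem Q ψ h1ψ _).mp le_rfl j

theorem not_mem_nonunits_of_inv_mem {B : ValuationSubring K} {w : K} (hw0 : w ≠ 0)
    (hinv : w⁻¹ ∈ B) : w ∉ B.nonunits := by
  intro h
  rw [ValuationSubring.mem_nonunits_iff_or] at h
  rcases h with h | h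
  · exact hw0 h
  · exact h hinv

/-- If the local ring of `A` is the whole valuation ring at each place where `A` is integral,
then every function integral at these places lies in `A`. -/
theorem mem_of_forall_locSub (hK : IsFunctionField k K) (A : Subalgebra k K)
    (hfrac : ∀ z : K, ∃ w ∈ A, w ≠ 0 ∧ z * w ∈ A)
    (hns : ∀ Q : Place k K, (∀ a ∈ A, Q.1 a ≤ 1) → ∀ z : K, Q.1 z ≤ 1 → z ∈ locSub A Q)
    {z : K} (hz : ∀ Q : Place k K, (∀ a ∈ A, Q.1 a ≤ 1) → Q.1 z ≤ 1) : z ∈ A := by
  classical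
  by_contra hzA
  let A' : Subring K := A.toSubring
  let I : Ideal A' :=
    { carrier := {a | z * (a : K) ∈ A}
      add_mem' := fun {a b} ha hb => by
        show z * ((a + b : A') : K) ∈ A
        rw [Subring.coe_add, mul_add]
        exact add_mem ha hb
      zero_mem' := by
        show z * ((0 : A') : K) ∈ A
        rw [Subring.coe_zero, mul_zero]
        exact zero_mem _
      smul_mem' := fun c a ha => by
        show z * ((c • a : A') : K) ∈ A
        rw [smul_eq_mul, Subring.coe_mul, mul_left_comm]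
        exact mul_mem c.2 ha }
  have hI : I ≠ ⊤ := by
    intro h
    have h1 : (1 : A') ∈ I := by rw [h]; trivial
    have h2 : z * ((1 : A') : K) ∈ A := h1
    rw [Subring.coe_one, mul_one] at h2
    exact hzA h2
  obtain ⟨B, hAB, hIB⟩ := Ideal.image_subset_nonunits_valuationSubring I hI
  have hAB' : ∀ a ∈ A, a ∈ B := fun a ha => hAB (show a ∈ A' from ha)
  obtain ⟨w, hwA, hw0, hzw⟩ := hfrac z
  have hwI : (⟨w, hwA⟩ : A') ∈ I := hzw
  have hwB : w ∈ B.nonunits := hIB ⟨⟨w, hwA⟩, hwI, rfl⟩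
  have hkB : ∀ c : k, algebraMap k K c ∈ B := fun c => hAB' _ (A.algebraMap_mem c)
  have hBtop : B ≠ ⊤ := by
    intro h
    exact not_mem_nonunits_of_inv_mem hw0 (h ▸ ValuationSubring.mem_top _) hwB
  obtain ⟨Q, hQ⟩ := exists_place_of_valuationSubring hK B hkB hBtop
  have hQA : ∀ a ∈ A, Q.1 a ≤ 1 := fun a ha => (hQ a).mpr (hAB' a ha)
  have hzQ : Q.1 z ≤ 1 := hz Q hQA
  obtain ⟨u, hu, w', hw', hw'1, e⟩ := hns Q hQA z hzQ
  have hw'I : (⟨w', hw'⟩ : A') ∈ I := by
    show z * w' ∈ A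
    rw [e]; exact hu
  have hw'B : w' ∈ B.nonunits := hIB ⟨⟨w', hw'⟩, hw'I, rfl⟩
  have hw'0 : w' ≠ 0 := fun h0 => by rw [h0, map_zero] at hw'1; exact zero_ne_one hw'1
  have hinv : w'⁻¹ ∈ B := (hQ _).mp (by rw [map_inv₀, hw'1, inv_one])
  exact not_mem_nonunits_of_inv_mem hw'0 hinv hw'B

/-- A function integral at every place where the subalgebra `A` is integral is integral
over `A`. -/
theorem isIntegral_of_forall_place (hK : IsFunctionField k K) (A : Subalgebra k K) {z : K}
    (hz : ∀ Q : Place k K, (∀ a ∈ A, Q.1 a ≤ 1) → Q.1 z ≤ 1) : IsIntegral A z := by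
  by_contra hzi
  let R : Subring K := (integralClosure A K).toSubring
  haveI : IsIntegrallyClosedIn R K :=
    inferInstanceAs (IsIntegrallyClosedIn (integralClosure A K) K)
  have hzR : z ∉ R := hzi
  obtain ⟨V, hRV, hzV⟩ := Subring.exists_le_valuationSubring_of_isIntegrallyClosedIn hzR
  have hAV : ∀ a ∈ A, a ∈ V := fun a ha => hRV (show a ∈ integralClosure A K from
    (isIntegral_algebraMap (R := A) (A := K) (x := ⟨a, ha⟩)))
  have hkV : ∀ c : k, algebraMap k K c ∈ V := fun c => hAV _ (A.algebraMap_mem c)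
  have hne : V ≠ ⊤ := fun htop => hzV (htop ▸ ValuationSubring.mem_top z)
  obtain ⟨Q, hQ⟩ := exists_place_of_valuationSubring hK V hkV hne
  exact hzV ((hQ z).mp (hz Q (fun a ha => (hQ a).mpr (hAV a ha))))

theorem exists_frac_of_adjoin_eq_top {S : Set K} (hS : IntermediateField.adjoin k S = ⊤) (z : K) :
    ∃ w ∈ Algebra.adjoin k S, w ≠ 0 ∧ z * w ∈ Algebra.adjoin k S := by
  have hz : z ∈ IntermediateField.adjoin k S := hS ▸ IntermediateField.mem_top
  obtain ⟨r, hr, s, hs, e⟩ := IntermediateField.mem_adjoin_iff_div.mp hz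
  by_cases hs0 : s = 0
  · refine ⟨1, one_mem _, one_ne_zero, ?_⟩
    rw [e, hs0, div_zero, zero_mul]
    exact zero_mem _
  · refine ⟨s, hs, hs0, ?_⟩
    rw [e, div_mul_cancel₀ _ hs0]
    exact hr

end LocSub

section Div

theorem val_le_exp_mapDiv (hK : IsFunctionField k K) {ι : Type*} [Fintype ι] [Nonempty ι]
    (φ : ι → K) (i : ι) (Q : Place k K) : Q.1 (φ i) ≤ exp (mapDiv k φ Q) := by
  by_cases h0 : φ i = 0
  · rw [h0, map_zero]; exact zero_le
  · rw [Q.val_le_exp_iff h0, mapDiv_apply hK, neg_neg]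
    unfold minOrd
    exact Finset.inf'_le _ (Finset.mem_univ i)

theorem exp_poleDiv (hK : IsFunctionField k K) {x : K} (hx : x ≠ 0) (Q : Place k K) :
    exp (poleDiv k x Q) = max 1 (Q.1 x) := by
  rw [poleDiv_apply hK, Q.val_eq_exp_neg_ord hx]
  rcases le_total (-(Q.ord x)) 0 with h | h
  · rw [max_eq_right h, max_eq_left (by rw [← exp_zero, exp_le_exp]; exact h), exp_zero]
  · rw [max_eq_left h, max_eq_right (by rw [← exp_zero, exp_le_exp]; exact h)]

end Div

section Generic

variable [IsAlgClosed k]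

theorem exists_generic_aux (hK : IsFunctionField k K) (x y : K) (hx0 : x ≠ 0) (hy0 : y ≠ 0)
    (hxy : IntermediateField.adjoin k ({x, y} : Set K) = ⊤) :
    ∃ c : Fin 3 → k, Transcendental k (c 0 • (1 : K) + c 1 • x + c 2 • y) ∧
      poleDiv k (c 0 • (1 : K) + c 1 • x + c 2 • y) = mapDiv k ![(1 : K), x, y] := by
  classical
  obtain ⟨φ, hφdef⟩ : ∃ φ : Fin 3 → K, φ = ![(1 : K), x, y] := ⟨_, rfl⟩
  rw [← hφdef]
  have hφ0 : ∀ i, φ i ≠ 0 := by
    intro i
    rw [hφdef]
    fin_cases i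
    · exact one_ne_zero
    · exact hx0
    · exact hy0
  have hφ00 : φ 0 = 1 := by rw [hφdef]; rfl
  have hφ1 : φ 1 = x := by rw [hφdef]; rfl
  have hφ2 : φ 2 = y := by rw [hφdef]; rfl
  obtain ⟨D, hD⟩ : ∃ D : Divisor k K, D = mapDiv k φ := ⟨_, rfl⟩
  rw [← hD]
  have hDnn : 0 ≤ D := hD ▸ mapDiv_nonneg_of_one hK φ 0 hφ00
  have hspanL : ∀ f ∈ Submodule.span k (Set.range φ), f ∈ L D := fun f hf =>
    hD ▸ mem_L_mapDiv_of_mem_span hK φ hφ0 hf
  have hxL : x ∈ L D := hspanL x (hφ1 ▸ Submodule.subset_span ⟨1, rfl⟩)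
  have hyL : y ∈ L D := hspanL y (hφ2 ▸ Submodule.subset_span ⟨2, rfl⟩)
  have hpole : ∃ Q : Place k K, 1 ≤ D Q := by
    have hex : ∃ z ∈ ({x, y} : Set K), Transcendental k z := by
      by_contra hno
      push Not at hno
      have hle : IntermediateField.adjoin k ({x, y} : Set K) ≤ ⊥ := by
        rw [IntermediateField.adjoin_le_iff]
        intro z hz
        have halg : IsAlgebraic k z := by
          by_contra h
          exact hno z hz h
        obtain ⟨c, rfl⟩ := hK.2 z halg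
        exact IntermediateField.algebraMap_mem _ c
      rw [hxy] at hle
      obtain ⟨t, ht, -⟩ := hK.1
      have htbot : t ∈ (⊥ : IntermediateField k K) := hle (IntermediateField.mem_top)
      rw [IntermediateField.mem_bot] at htbot
      obtain ⟨c, rfl⟩ := htbot
      exact ht (isAlgebraic_algebraMap c)
    obtain ⟨z, hz, hztr⟩ := hex
    have hzL : z ∈ L D := by
      rcases hz with rfl | hz
      · exact hxL
      · rw [Set.mem_singleton_iff] at hz; rw [hz]; exact hyL
    have hz0 : z ≠ 0 := fun h => hztr (h ▸ isAlgebraic_zero)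
    obtain ⟨Q, hQ⟩ := exists_place_val_lt_one hK (transcendental_inv hK hztr)
    refine ⟨Q, ?_⟩
    have h1 : 1 < Q.1 z := by
      rw [map_inv₀] at hQ
      have hpos : 0 < Q.1 z := zero_lt_iff.mpr ((Q.1.ne_zero_iff).mpr hz0)
      exact (inv_lt_one₀ hpos).mp hQ
    have h2 := (mem_L.mp hzL) Q
    have h3 := lt_of_lt_of_le h1 h2
    rw [← exp_zero, exp_lt_exp] at h3
    omega
  obtain ⟨Q₁, hQ₁⟩ := hpole
  obtain ⟨ℓ, hℓspan, hℓ0, hℓord⟩ := exists_mem_span_ord_eq_minOrd hK φ hφ0 D.support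
  have hDapp : ∀ Q : Place k K, D Q = -minOrd Q φ := fun Q => by rw [hD, mapDiv_apply hK]
  have hQ₁supp : Q₁ ∈ D.support := Finsupp.mem_support_iff.mpr (by omega)
  have hℓtr : Transcendental k ℓ := by
    apply transcendental_of_ord_ne_zero hK (P := Q₁)
    rw [hℓord Q₁ hQ₁supp]
    have := hDapp Q₁
    omega
  have hℓL : ℓ ∈ L D := hspanL ℓ hℓspan
  have hpoleDiv : poleDiv k ℓ = D := by
    ext Q
    rw [poleDiv_apply hK]
    by_cases hQ : Q ∈ D.support
    · rw [hℓord Q hQ]
      have h1 := hDapp Q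
      have h2 : 0 ≤ D Q := hDnn Q
      rw [max_eq_left (by omega)]
      omega
    · have h0 : D Q = 0 := Finsupp.notMem_support_iff.mp hQ
      have h1 := (mem_L.mp hℓL) Q
      rw [h0, exp_zero] at h1
      have h2 := (Q.ord_nonneg_iff hℓ0).mpr h1
      rw [h0, max_eq_right (by omega)]
  obtain ⟨c, hc⟩ := (Submodule.mem_span_range_iff_exists_fun k).mp hℓspan
  rw [Fin.sum_univ_three, hφ00, hφ1, hφ2] at hc
  refine ⟨c, ?_, ?_⟩
  · rw [hc]; exact hℓtr
  · rw [hc]; exact hpoleDiv

/-- A generic linear form `ℓ = c₀ + c₁ x + c₂ y` has pole divisor the divisor of the map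
`(1 : x : y)`. -/
theorem exists_generic (hK : IsFunctionField k K) (x y : K)
    (hxy : IntermediateField.adjoin k ({x, y} : Set K) = ⊤) :
    ∃ c₀ c₁ c₂ : k, Transcendental k (c₀ • (1 : K) + c₁ • x + c₂ • y) ∧
      poleDiv k (c₀ • (1 : K) + c₁ • x + c₂ • y) = mapDiv k ![(1 : K), x, y] := by
  classical
  obtain ⟨x', hx'⟩ : ∃ x' : K, x' = if x = 0 then 1 else x := ⟨_, rfl⟩
  obtain ⟨y', hy'⟩ : ∃ y' : K, y' = if y = 0 then 1 else y := ⟨_, rfl⟩
  have hx'0 : x' ≠ 0 := by
    rw [hx']; split_ifs with h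
    · exact one_ne_zero
    · exact h
  have hy'0 : y' ≠ 0 := by
    rw [hy']; split_ifs with h
    · exact one_ne_zero
    · exact h
  have hordx : ∀ Q : Place k K, Q.ord x = Q.ord x' := fun Q => by
    rw [hx']; split_ifs with h
    · rw [h, Q.ord_zero, ord_one]
    · rfl
  have hordy : ∀ Q : Place k K, Q.ord y = Q.ord y' := fun Q => by
    rw [hy']; split_ifs with h
    · rw [h, Q.ord_zero, ord_one]
    · rfl
  have hmap : mapDiv k ![(1 : K), x, y] = mapDiv k ![(1 : K), x', y'] := by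
    apply mapDiv_congr_ord hK
    intro Q i
    fin_cases i
    · rfl
    · exact hordx Q
    · exact hordy Q
  have hxy' : IntermediateField.adjoin k ({x', y'} : Set K) = ⊤ := by
    rw [eq_top_iff, ← hxy, IntermediateField.adjoin_le_iff]
    intro z hz
    rcases hz with rfl | hz
    · by_cases h : z = 0
      · rw [h]; exact zero_mem _
      · have : x' = z := by rw [hx', if_neg h]
        rw [← this]
        exact IntermediateField.subset_adjoin k _ (Set.mem_insert _ _)
    · rw [Set.mem_singleton_iff] at hz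
      subst hz
      by_cases h : z = 0
      · rw [h]; exact zero_mem _
      · have : y' = z := by rw [hy', if_neg h]
        rw [← this]
        exact IntermediateField.subset_adjoin k _ (Set.mem_insert_of_mem _ rfl)
  obtain ⟨c, hctr, hcdiv⟩ := exists_generic_aux hK x' y' hx'0 hy'0 hxy'
  have key : c 0 • (1 : K) + c 1 • x' + c 2 • y' =
      (c 0 + (if x = 0 then c 1 else 0) + (if y = 0 then c 2 else 0)) • (1 : K) +
        c 1 • x + c 2 • y := by
    rw [hx', hy']
    by_cases h1 : x = 0 <;> by_cases h2 : y = 0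
    · simp only [h1, h2, if_true, add_smul, smul_zero, add_zero]
    · simp only [h1, h2, if_true, if_false, add_smul, smul_zero, add_zero]
      try abel
    · simp only [h1, h2, if_true, if_false, add_smul, smul_zero, add_zero]
      try abel
    · simp only [h1, h2, if_false, add_zero]
  refine ⟨(c 0 + (if x = 0 then c 1 else 0) + (if y = 0 then c 2 else 0)), c 1, c 2, ?_, ?_⟩
  · rw [← key]; exact hctr
  · rw [← key, hmap]; exact hcdiv

end Generic

end FunFld
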