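import Mathlib
import Groth.Agent.Lib.FunFldPM1_helper2
import Groth.Agent.Lib.FunFldM_helper2

/-! The Jacobian criterion for affine charts of curves (helper2): the local ring of
`k[u₁, …, uₙ]` at a place is the valuation ring iff the Jacobian matrix of generators of the
relation ideal has corank one at the centre. -/

open Module WithZero MvPolynomial

namespace FunFld

variable {k K : Type*} [Field k] [Field K] [Algebra k K]

section PointDer

variable {n : ℕ} (a w : Fin n → k)

/-- The point derivation `p ↦ ∑ w_l ∂_l p(a)`. -/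
noncomputable def ptDer (p : MvPolynomial (Fin n) k) : k := ∑ l, w l * eval a (pderiv l p)

theorem ptDer_add (p q : MvPolynomial (Fin n) k) :
    ptDer a w (p + q) = ptDer a w p + ptDer a w q := by
  unfold ptDer
  simp only [map_add, mul_add, Finset.sum_add_distrib]

theorem ptDer_sub (p q : MvPolynomial (Fin n) k) :
    ptDer a w (p - q) = ptDer a w p - ptDer a w q := by
  unfold ptDer
  simp only [map_sub, mul_sub, Finset.sum_sub_distrib]

theorem ptDer_zero : ptDer a w (0 : MvPolynomial (Fin n) k) = 0 := by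
  unfold ptDer
  simp only [map_zero, mul_zero, Finset.sum_const_zero]

theorem ptDer_mul (p q : MvPolynomial (Fin n) k) :
    ptDer a w (p * q) = eval a p * ptDer a w q + eval a q * ptDer a w p := by
  unfold ptDer
  rw [Finset.mul_sum, Finset.mul_sum, ← Finset.sum_add_distrib]
  apply Finset.sum_congr rfl
  intro l _
  rw [pderiv_mul, map_add, map_mul, map_mul]
  ring

theorem ptDer_C (c : k) : ptDer a w (C c : MvPolynomial (Fin n) k) = 0 := by
  unfold ptDer
  simp only [pderiv_C, map_zero, mul_zero, Finset.sum_const_zero]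

theorem ptDer_X (l : Fin n) : ptDer a w (X l : MvPolynomial (Fin n) k) = w l := by
  classical
  unfold ptDer
  rw [Finset.sum_eq_single l]
  · rw [pderiv_X_self, map_one, mul_one]
  · intro l' _ hne
    rw [pderiv_X_of_ne (Ne.symm hne), map_zero, mul_zero]
  · intro h
    exact absurd (Finset.mem_univ l) h

end PointDer

section Chart

variable {n : ℕ} {P : Place k K} {u : Fin n → K} {a : Fin n → k}

theorem val_le_one_of_mem_adjoin_chart (hlt : ∀ l, P.1 (u l - algebraMap k K (a l)) < 1) {x : K}
    (hx : x ∈ Algebra.adjoin k (Set.range u)) : P.1 x ≤ 1 := by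
  induction hx using Algebra.adjoin_induction with
  | mem x hx =>
    obtain ⟨l, rfl⟩ := hx
    have e : u l = (u l - algebraMap k K (a l)) + algebraMap k K (a l) := by ring
    rw [e]
    exact (P.1.map_add _ _).trans (max_le (hlt l).le (P.2.1 _))
  | algebraMap c => exact P.2.1 c
  | add x y _ _ hx hy => exact (P.1.map_add _ _).trans (max_le hx hy)
  | mul x y _ _ hx hy =>
    rw [map_mul]
    exact mul_le_one' hx hy

theorem val_le_one_of_mem_locSub_chart (hlt : ∀ l, P.1 (u l - algebraMap k K (a l)) < 1) {x : K}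
    (hx : x ∈ locSub (Algebra.adjoin k (Set.range u)) P) : P.1 x ≤ 1 :=
  val_le_one_of_mem_locSub (fun _ h => val_le_one_of_mem_adjoin_chart hlt h) hx

theorem eq_zero_of_val_algebraMap_lt_one {c : k} (h : P.1 (algebraMap k K c) < 1) : c = 0 := by
  by_contra hc
  rw [P.val_algebraMap hc] at h
  exact lt_irrefl _ h

end Chart

section Ideal

variable {n : ℕ} (P : Place k K) (u : Fin n → K) (a : Fin n → k)

/-- The coordinates as elements of the local ring. -/
def uR (l : Fin n) : locSub (Algebra.adjoin k (Set.range u)) P :=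
  ⟨u l, le_locSub _ _ (Algebra.subset_adjoin ⟨l, rfl⟩)⟩

/-- The local parameters `u_l - a_l` as elements of the local ring. -/
noncomputable def piR (l : Fin n) : locSub (Algebra.adjoin k (Set.range u)) P :=
  uR P u l - algebraMap k _ (a l)

/-- The ideal of the local ring generated by the `u_l - a_l`. -/
noncomputable def mR : Ideal (locSub (Algebra.adjoin k (Set.range u)) P) :=
  Ideal.span (Set.range (piR P u a))

/-- Evaluation into the local ring. -/
noncomputable def evR : MvPolynomial (Fin n) k →ₐ[k] locSub (Algebra.adjoin k (Set.range u)) P :=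
  aeval (uR P u)

theorem coe_evR (p : MvPolynomial (Fin n) k) : ((evR P u p : locSub _ P) : K) = aeval u p := by
  have h := comp_aeval_apply (f := uR P u) (locSub (Algebra.adjoin k (Set.range u)) P).val p
  exact h

theorem coe_piR (l : Fin n) : ((piR P u a l : locSub _ P) : K) = u l - algebraMap k K (a l) := rfl

theorem piR_mem (l : Fin n) : piR P u a l ∈ mR P u a := Ideal.subset_span ⟨l, rfl⟩

theorem uR_eq (l : Fin n) : uR P u l = algebraMap k _ (a l) + piR P u a l := by
  unfold piR
  ring

/-- First-order Taylor expansion: `p(u) - p(a) ∈ 𝔪`. -/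
theorem evR_sub_mem (p : MvPolynomial (Fin n) k) :
    evR P u p - algebraMap k _ (eval a p) ∈ mR P u a := by
  induction p using MvPolynomial.induction_on with
  | C c =>
    have e : evR P u (C c) - algebraMap k _ (eval a (C c)) = 0 := by
      unfold evR
      rw [aeval_C, eval_C, sub_self]
    rw [e]
    exact zero_mem _
  | add p q hp hq =>
    have e : evR P u (p + q) - algebraMap k _ (eval a (p + q)) =
        (evR P u p - algebraMap k _ (eval a p)) + (evR P u q - algebraMap k _ (eval a q)) := by
      rw [map_add, map_add, map_add]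
      ring
    rw [e]
    exact add_mem hp hq
  | mul_X p i hp =>
    have e : evR P u (p * X i) - algebraMap k _ (eval a (p * X i)) =
        (evR P u p - algebraMap k _ (eval a p)) * uR P u i +
          algebraMap k _ (eval a p) * piR P u a i := by
      rw [map_mul, map_mul, eval_X, map_mul]
      have e1 : evR P u (X i) = uR P u i := by
        unfold evR
        rw [aeval_X]
      rw [e1]
      unfold piR
      ring
    rw [e]
    exact add_mem (Ideal.mul_mem_right _ _ hp) (Ideal.mul_mem_left _ _ (piR_mem P u a i))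

/-- Second-order Taylor expansion: `p(u) - p(a) - ∑ ∂_l p(a) (u_l - a_l) ∈ 𝔪²`. -/
theorem evR_taylor_mem (p : MvPolynomial (Fin n) k) :
    evR P u p - algebraMap k _ (eval a p) -
        ∑ l, algebraMap k _ (eval a (pderiv l p)) * piR P u a l ∈ mR P u a * mR P u a := by
  classical
  induction p using MvPolynomial.induction_on with
  | C c =>
    have e : evR P u (C c) - algebraMap k _ (eval a (C c)) -
        ∑ l, algebraMap k _ (eval a (pderiv l (C c))) * piR P u a l = 0 := by
      unfold evR
      rw [aeval_C, eval_C, sub_self, zero_sub, neg_eq_zero]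
      apply Finset.sum_eq_zero
      intro l _
      rw [pderiv_C, map_zero, map_zero, zero_mul]
    rw [e]
    exact zero_mem _
  | add p q hp hq =>
    have e : evR P u (p + q) - algebraMap k _ (eval a (p + q)) -
        ∑ l, algebraMap k _ (eval a (pderiv l (p + q))) * piR P u a l =
        (evR P u p - algebraMap k _ (eval a p) -
          ∑ l, algebraMap k _ (eval a (pderiv l p)) * piR P u a l) +
        (evR P u q - algebraMap k _ (eval a q) -
          ∑ l, algebraMap k _ (eval a (pderiv l q)) * piR P u a l) := by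
      simp only [map_add, add_mul, Finset.sum_add_distrib]
      ring
    rw [e]
    exact add_mem hp hq
  | mul_X p i hp =>
    have hder : ∀ l, algebraMap k (locSub (Algebra.adjoin k (Set.range u)) P)
        (eval a (pderiv l (p * X i))) =
        algebraMap k _ (eval a (pderiv l p)) * algebraMap k _ (a i) +
          (if l = i then algebraMap k _ (eval a p) else 0) := by
      intro l
      rw [pderiv_mul, map_add, map_mul, map_mul, eval_X, map_add, map_mul]
      congr 1
      by_cases hl : l = i
      · rw [if_pos hl, hl, pderiv_X_self, map_one, mul_one]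
      · rw [if_neg hl, pderiv_X_of_ne (Ne.symm hl), map_zero, mul_zero, map_zero]
    have e1 : evR P u (X i) = uR P u i := by
      unfold evR
      rw [aeval_X]
    have e : evR P u (p * X i) - algebraMap k _ (eval a (p * X i)) -
        ∑ l, algebraMap k _ (eval a (pderiv l (p * X i))) * piR P u a l =
        algebraMap k _ (a i) * (evR P u p - algebraMap k _ (eval a p) -
          ∑ l, algebraMap k _ (eval a (pderiv l p)) * piR P u a l) +
        piR P u a i * (evR P u p - algebraMap k _ (eval a p)) := by
      simp only [hder, add_mul, Finset.sum_add_distrib, ite_mul, zero_mul, Finset.sum_ite_eq',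
        Finset.mem_univ, if_true]
      rw [map_mul, map_mul, eval_X, map_mul, e1, uR_eq P u a i]
      have e2 : ∀ l, algebraMap k (locSub (Algebra.adjoin k (Set.range u)) P)
          (eval a (pderiv l p)) * algebraMap k _ (a i) * piR P u a l =
          algebraMap k _ (a i) * (algebraMap k _ (eval a (pderiv l p)) * piR P u a l) :=
        fun l => by ring
      rw [Finset.sum_congr rfl (fun l _ => e2 l), ← Finset.mul_sum]
      ring
    rw [e]
    exact add_mem (Ideal.mul_mem_left _ _ hp)
      (Ideal.mul_mem_mul (piR_mem P u a i) (evR_sub_mem P u a p))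

variable {P u a}

theorem val_lt_one_of_mem_mR (hlt : ∀ l, P.1 (u l - algebraMap k K (a l)) < 1)
    {x : locSub (Algebra.adjoin k (Set.range u)) P} (hx : x ∈ mR P u a) : P.1 (x : K) < 1 := by
  unfold mR at hx
  induction hx using Submodule.span_induction with
  | mem x hx =>
    obtain ⟨l, rfl⟩ := hx
    exact hlt l
  | zero =>
    show P.1 (0 : K) < 1
    rw [map_zero]
    exact zero_lt_one
  | add x y _ _ hx hy => exact lt_of_le_of_lt (P.1.map_add _ _) (max_lt hx hy)
  | smul r x _ hx =>
    show P.1 ((r : K) * (x : K)) < 1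
    rw [map_mul]
    have hr : P.1 (r : K) ≤ 1 := val_le_one_of_mem_locSub_chart hlt r.2
    calc P.1 (r : K) * P.1 (x : K) ≤ 1 * P.1 (x : K) := mul_le_mul' hr le_rfl
      _ = P.1 (x : K) := one_mul _
      _ < 1 := hx

theorem val_le_of_mem_mR_sq (hlt : ∀ l, P.1 (u l - algebraMap k K (a l)) < 1)
    {x : locSub (Algebra.adjoin k (Set.range u)) P} (hx : x ∈ mR P u a * mR P u a) :
    P.1 (x : K) ≤ exp (-2 : ℤ) := by
  refine Submodule.mul_induction_on hx (fun m hm m' hm' => ?_) (fun x y hx hy => ?_)
  · have h1 := (lt_one_iff_le_exp_neg_one _).mp (val_lt_one_of_mem_mR hlt hm)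
    have h2 := (lt_one_iff_le_exp_neg_one _).mp (val_lt_one_of_mem_mR hlt hm')
    show P.1 ((m : K) * (m' : K)) ≤ _
    rw [map_mul]
    calc P.1 (m : K) * P.1 (m' : K) ≤ exp (-1 : ℤ) * exp (-1 : ℤ) := mul_le_mul' h1 h2
      _ = exp (-2 : ℤ) := by rw [← exp_add]; norm_num
  · exact (P.1.map_add _ _).trans (max_le hx hy)

theorem val_aeval_sub_eval_lt_one (hlt : ∀ l, P.1 (u l - algebraMap k K (a l)) < 1)
    (p : MvPolynomial (Fin n) k) : P.1 (aeval u p - algebraMap k K (eval a p)) < 1 := by
  have h := val_lt_one_of_mem_mR hlt (evR_sub_mem P u a p)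
  rw [Subalgebra.coe_sub, coe_evR] at h
  exact h

theorem eval_eq_zero_of_val_lt_one (hlt : ∀ l, P.1 (u l - algebraMap k K (a l)) < 1)
    {p : MvPolynomial (Fin n) k} (hp : P.1 (aeval u p) < 1) : eval a p = 0 := by
  apply eq_zero_of_val_algebraMap_lt_one (P := P)
  have h := val_aeval_sub_eval_lt_one hlt p
  have e : algebraMap k K (eval a p) = aeval u p - (aeval u p - algebraMap k K (eval a p)) := by
    ring
  rw [e]
  exact lt_of_le_of_lt (P.1.map_sub _ _) (max_lt hp h)

theorem eval_ne_zero_of_val_eq_one (hlt : ∀ l, P.1 (u l - algebraMap k K (a l)) < 1)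
    {p : MvPolynomial (Fin n) k} (hp : P.1 (aeval u p) = 1) : eval a p ≠ 0 := by
  intro h0
  have h := val_aeval_sub_eval_lt_one hlt p
  rw [h0, map_zero, sub_zero, hp] at h
  exact lt_irrefl _ h

/-- Elements of the local ring of positive order lie in `𝔪`. -/
theorem mem_mR_of_val_lt_one (hlt : ∀ l, P.1 (u l - algebraMap k K (a l)) < 1)
    {x : locSub (Algebra.adjoin k (Set.range u)) P} (hx : P.1 (x : K) < 1) : x ∈ mR P u a := by
  obtain ⟨y, hy, s, hs, hs1, e⟩ := x.2
  rw [Algebra.adjoin_range_eq_range_aeval] at hy hs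
  obtain ⟨p, hp⟩ := hy
  obtain ⟨q, hq⟩ := hs
  have hyv : P.1 y < 1 := by
    rw [← e, map_mul, hs1, mul_one]
    exact hx
  have hp0 : eval a p = 0 := eval_eq_zero_of_val_lt_one hlt (by rw [show aeval u p = y from hp]; exact hyv)
  have h1 := evR_sub_mem P u a p
  rw [hp0, map_zero, sub_zero] at h1
  -- `x = evR p * s⁻¹`
  have hsR : s ∈ locSub (Algebra.adjoin k (Set.range u)) P := by
    rw [← show aeval u q = s from hq, ← coe_evR P u q]
    exact (evR P u q).2
  have hsinv : s⁻¹ ∈ locSub (Algebra.adjoin k (Set.range u)) P := inv_mem_locSub hsR hs1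
  have hs0 : s ≠ 0 := fun h0 => by rw [h0, map_zero] at hs1; exact zero_ne_one hs1
  have hx' : x = evR P u p * ⟨s⁻¹, hsinv⟩ := by
    apply Subtype.ext
    rw [Subalgebra.coe_mul, coe_evR, show aeval u p = y from hp, ← e, mul_assoc,
      mul_inv_cancel₀ hs0, mul_one]
  rw [hx']
  exact Ideal.mul_mem_right _ _ h1

end Ideal

section Criterion

variable [IsAlgClosed k] {n : ℕ} {P : Place k K} {u : Fin n → K} {a : Fin n → k} {r : ℕ}

omit [IsAlgClosed k] in
theorem mR_le_jacobson (hlt : ∀ l, P.1 (u l - algebraMap k K (a l)) < 1) :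
    mR P u a ≤ Ideal.jacobson ⊥ := by
  intro x hx
  rw [Ideal.mem_jacobson_bot]
  intro y
  have hxv := val_lt_one_of_mem_mR hlt hx
  have hyv : P.1 (y : K) ≤ 1 := val_le_one_of_mem_locSub_chart hlt y.2
  have hv : P.1 ((x * y + 1 : locSub (Algebra.adjoin k (Set.range u)) P) : K) = 1 := by
    rw [Subalgebra.coe_add, Subalgebra.coe_mul, Subalgebra.coe_one]
    have h1 : P.1 ((x : K) * (y : K)) < 1 := by
      rw [map_mul]
      calc P.1 (x : K) * P.1 (y : K) ≤ P.1 (x : K) * 1 := mul_le_mul' le_rfl hyv
        _ = P.1 (x : K) := mul_one _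
        _ < 1 := hxv
    rw [add_comm]
    have h2 := Valuation.map_add_eq_of_lt_left P.1 (x := (1 : K)) (y := (x : K) * (y : K))
      (by rw [map_one]; exact h1)
    rw [h2, map_one]
  have hinv := inv_mem_locSub (x * y + 1).2 hv
  have h0 : ((x * y + 1 : locSub (Algebra.adjoin k (Set.range u)) P) : K) ≠ 0 := fun h0 => by
    rw [h0, map_zero] at hv; exact zero_ne_one hv
  rw [isUnit_iff_exists_inv]
  refine ⟨⟨_, hinv⟩, ?_⟩
  apply Subtype.ext
  rw [Subalgebra.coe_mul, Subalgebra.coe_one]
  exact mul_inv_cancel₀ h0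

/-- Jacobian criterion, first half: if the Jacobian at the centre has a complement spanned by
one coordinate, the local ring is the valuation ring. -/
theorem mem_locSub_of_jacobian (hK : IsFunctionField k K)
    (hgen : IntermediateField.adjoin k (Set.range u) = ⊤)
    (hlt : ∀ l, P.1 (u l - algebraMap k K (a l)) < 1)
    (g : Fin r → MvPolynomial (Fin n) k) (hg : ∀ i, aeval u (g i) = 0)
    (l₀ : Fin n)
    (hrow : ∀ l, ∃ (c : k) (μ : Fin r → k), ∀ l', (if l' = l then (1 : k) else 0) =
      c * (if l' = l₀ then 1 else 0) + ∑ i, μ i * eval a (pderiv l' (g i)))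
    {z : K} (hz : P.1 z ≤ 1) : z ∈ locSub (Algebra.adjoin k (Set.range u)) P := by
  classical
  obtain ⟨R, hR⟩ : ∃ R : Subalgebra k K, R = locSub (Algebra.adjoin k (Set.range u)) P :=
    ⟨_, rfl⟩
  -- each relation gives an element of `𝔪²`
  have hrel : ∀ i, ∑ l, algebraMap k _ (eval a (pderiv l (g i))) * piR P u a l ∈
      mR P u a * mR P u a := by
    intro i
    have h1 := evR_taylor_mem P u a (g i)
    have h2 : evR P u (g i) = 0 := by
      apply Subtype.ext
      rw [coe_evR, hg i]
      rfl
    have h3 : eval a (g i) = 0 := eval_eq_zero_of_val_lt_one hlt (by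
      rw [hg i, map_zero]; exact zero_lt_one)
    rw [h2, h3, map_zero, sub_zero, zero_sub] at h1
    exact (Ideal.neg_mem_iff _).mp h1
  -- Nakayama
  have hle : mR P u a ≤ Ideal.span {piR P u a l₀} := by
    apply Submodule.le_of_le_smul_of_le_jacobson_bot (I := mR P u a)
    · exact ⟨Finset.univ.image (piR P u a), by
        rw [Finset.coe_image, Finset.coe_univ, Set.image_univ]; rfl⟩
    · exact mR_le_jacobson hlt
    · unfold mR
      rw [Ideal.span_le]
      rintro _ ⟨l, rfl⟩
      obtain ⟨c, μ, hcμ⟩ := hrow l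
      have e : piR P u a l = algebraMap k _ c * piR P u a l₀ +
          ∑ i, algebraMap k _ (μ i) *
            ∑ l', algebraMap k _ (eval a (pderiv l' (g i))) * piR P u a l' := by
        have e1 : piR P u a l = ∑ l', algebraMap k _ (if l' = l then (1 : k) else 0) *
            piR P u a l' := by
          rw [Finset.sum_eq_single l]
          · rw [if_pos rfl, map_one, one_mul]
          · intro l' _ hne
            rw [if_neg hne, map_zero, zero_mul]
          · intro h
            exact absurd (Finset.mem_univ l) h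
        have e2 : algebraMap k (locSub (Algebra.adjoin k (Set.range u)) P) c * piR P u a l₀ =
            ∑ l', algebraMap k _ (c * (if l' = l₀ then (1 : k) else 0)) * piR P u a l' := by
          rw [Finset.sum_eq_single l₀]
          · rw [if_pos rfl, mul_one]
          · intro l' _ hne
            rw [if_neg hne, mul_zero, map_zero, zero_mul]
          · intro h
            exact absurd (Finset.mem_univ l₀) h
        rw [e1, e2]
        simp only [Finset.mul_sum]
        rw [Finset.sum_comm, ← Finset.sum_add_distrib]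
        apply Finset.sum_congr rfl
        intro l' _
        rw [hcμ l', map_add, add_mul, map_sum, Finset.sum_mul]
        congr 1
        apply Finset.sum_congr rfl
        intro i _
        rw [map_mul]
        ring
      show piR P u a l ∈ _
      rw [e]
      refine Submodule.add_mem_sup ?_ ?_
      · exact Ideal.mul_mem_left _ _ (Ideal.subset_span rfl)
      · rw [smul_eq_mul]
        exact Ideal.sum_mem _ fun i _ => Ideal.mul_mem_left _ _ (hrel i)
  obtain ⟨π, hπ⟩ : ∃ π : locSub (Algebra.adjoin k (Set.range u)) P, π = piR P u a l₀ := ⟨_, rfl⟩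
  rw [← hπ] at hle
  have hπv : P.1 (π : K) < 1 := by rw [hπ]; exact hlt l₀
  -- every element is a constant plus a multiple of `π`
  have hdecomp : ∀ x : locSub (Algebra.adjoin k (Set.range u)) P,
      ∃ (c : k) (x₁ : locSub (Algebra.adjoin k (Set.range u)) P),
        x = algebraMap k _ c + π * x₁ := by
    intro x
    have hxv : P.1 (x : K) ≤ 1 := val_le_one_of_mem_locSub_chart hlt x.2
    obtain ⟨c, hc⟩ := exists_sub_algebraMap_lt_one hK P hxv
    have hmem : x - algebraMap k _ c ∈ mR P u a := mem_mR_of_val_lt_one hlt hc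
    obtain ⟨x₁, hx₁⟩ := Ideal.mem_span_singleton'.mp (hle hmem)
    refine ⟨c, x₁, ?_⟩
    rw [mul_comm, hx₁]
    ring
  -- every nonzero element is a power of `π` times a unit
  have hpow : ∀ (m : ℕ) (x : locSub (Algebra.adjoin k (Set.range u)) P), (x : K) ≠ 0 →
      P.ord (x : K) ≤ m → ∃ (j : ℕ) (ε : locSub (Algebra.adjoin k (Set.range u)) P),
        P.1 (ε : K) = 1 ∧ x = π ^ j * ε := by
    intro m
    induction m with
    | zero =>
      intro x hx0 hord
      have hxv : P.1 (x : K) ≤ 1 := val_le_one_of_mem_locSub_chart hlt x.2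
      have h1 := (P.ord_nonneg_iff hx0).mpr hxv
      have h2 : P.ord (x : K) = 0 := by
        have : P.ord (x : K) ≤ 0 := by exact_mod_cast hord
        omega
      refine ⟨0, x, (P.ord_eq_zero_iff hx0).mp h2, ?_⟩
      rw [pow_zero, one_mul]
    | succ m ih =>
      intro x hx0 hord
      obtain ⟨c, x₁, hx⟩ := hdecomp x
      by_cases hc : c = 0
      · rw [hc, map_zero, zero_add] at hx
        have hx₁0 : (x₁ : K) ≠ 0 := by
          intro h0
          apply hx0
          rw [hx, Subalgebra.coe_mul, h0, mul_zero]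
        have hπ0 : (π : K) ≠ 0 := by
          intro h0
          apply hx0
          rw [hx, Subalgebra.coe_mul, h0, zero_mul]
        have hordπ : 0 < P.ord (π : K) := (P.ord_pos_iff hπ0).mpr hπv
        have hord₁ : P.ord (x₁ : K) ≤ m := by
          have h1 : P.ord (x : K) = P.ord (π : K) + P.ord (x₁ : K) := by
            rw [hx, Subalgebra.coe_mul, P.ord_mul hπ0 hx₁0]
          have h2 : P.ord (x : K) ≤ (m : ℤ) + 1 := by exact_mod_cast hord
          omega
        obtain ⟨j, ε, hε, hxε⟩ := ih x₁ hx₁0 hord₁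
        refine ⟨j + 1, ε, hε, ?_⟩
        rw [hx, hxε, pow_succ]
        ring
      · refine ⟨0, x, ?_, by rw [pow_zero, one_mul]⟩
        have h1 : P.1 ((π * x₁ : locSub (Algebra.adjoin k (Set.range u)) P) : K) < 1 := by
          rw [Subalgebra.coe_mul, map_mul]
          have hx₁v : P.1 (x₁ : K) ≤ 1 := val_le_one_of_mem_locSub_chart hlt x₁.2
          calc P.1 (π : K) * P.1 (x₁ : K) ≤ P.1 (π : K) * 1 := mul_le_mul' le_rfl hx₁v
            _ = P.1 (π : K) := mul_one _
            _ < 1 := hπv
        rw [hx, Subalgebra.coe_add, Subalgebra.coe_algebraMap]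
        have h2 := Valuation.map_add_eq_of_lt_left P.1 (x := algebraMap k K c)
          (y := ((π * x₁ : locSub (Algebra.adjoin k (Set.range u)) P) : K))
          (by rw [P.val_algebraMap hc]; exact h1)
        rw [h2, P.val_algebraMap hc]
  have hpow' : ∀ x : locSub (Algebra.adjoin k (Set.range u)) P, (x : K) ≠ 0 →
      ∃ (j : ℕ) (ε : locSub (Algebra.adjoin k (Set.range u)) P),
        P.1 (ε : K) = 1 ∧ x = π ^ j * ε := by
    intro x hx0
    have hxv : P.1 (x : K) ≤ 1 := val_le_one_of_mem_locSub_chart hlt x.2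
    have h1 := (P.ord_nonneg_iff hx0).mpr hxv
    exact hpow (P.ord (x : K)).toNat x hx0 (Int.self_le_toNat _)
  -- conclusion
  by_cases hz0 : z = 0
  · rw [hz0]; exact zero_mem _
  obtain ⟨w, hwA, hw0, hzw⟩ := exists_frac_of_adjoin_eq_top hgen z
  have hwR : w ∈ locSub (Algebra.adjoin k (Set.range u)) P := le_locSub _ _ hwA
  have hzwR : z * w ∈ locSub (Algebra.adjoin k (Set.range u)) P := le_locSub _ _ hzw
  obtain ⟨j₁, ε₁, hε₁, e₁⟩ := hpow' ⟨z * w, hzwR⟩ (mul_ne_zero hz0 hw0)
  obtain ⟨j₂, ε₂, hε₂, e₂⟩ := hpow' ⟨w, hwR⟩ hw0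
  have e₁' : z * w = (π : K) ^ j₁ * (ε₁ : K) := by
    have := congrArg Subtype.val e₁
    rwa [Subalgebra.coe_mul, Subalgebra.coe_pow] at this
  have e₂' : w = (π : K) ^ j₂ * (ε₂ : K) := by
    have := congrArg Subtype.val e₂
    rwa [Subalgebra.coe_mul, Subalgebra.coe_pow] at this
  have hπ0 : (π : K) ≠ 0 := by
    intro h0
    by_cases hj : j₂ = 0
    · -- then also π = 0 contradicts nothing directly; use `w ≠ 0` only if j₂ > 0
      rw [hj, pow_zero, one_mul] at e₂'
      -- π = 0 means 𝔪 ≤ (0): fine, but then z*w and w are units; handle below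
      exact absurd h0 (by
        intro h0'
        -- `π = 0` is impossible only if used; we derive a contradiction from transcendence
        have hπK : u l₀ = algebraMap k K (a l₀) := by
          have := h0'
          rw [hπ, coe_piR] at this
          exact sub_eq_zero.mp this
        -- all coordinates are then constants modulo `π = 0`: every element of `R` is a constant
        have hconst : ∀ x : locSub (Algebra.adjoin k (Set.range u)) P, ∃ c : k,
            (x : K) = algebraMap k K c := by
          intro x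
          obtain ⟨c, x₁, hx⟩ := hdecomp x
          refine ⟨c, ?_⟩
          rw [hx, Subalgebra.coe_add, Subalgebra.coe_mul, h0', zero_mul, add_zero,
            Subalgebra.coe_algebraMap]
        -- so `K = k`, contradicting the existence of a transcendental element
        obtain ⟨t, ht, -⟩ := hK.1
        obtain ⟨w', hw'A, hw'0, htw'⟩ := exists_frac_of_adjoin_eq_top hgen t
        obtain ⟨c₁, hc₁⟩ := hconst ⟨w', le_locSub _ _ hw'A⟩
        obtain ⟨c₂, hc₂⟩ := hconst ⟨t * w', le_locSub _ _ htw'⟩
        have hc₁' : w' = algebraMap k K c₁ := hc₁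
        have hc₂' : t * w' = algebraMap k K c₂ := hc₂
        apply ht
        have ht' : t = algebraMap k K (c₂ / c₁) := by
          rw [map_div₀, ← hc₁', ← hc₂', mul_div_assoc, div_self hw'0, mul_one]
        rw [ht']
        exact isAlgebraic_algebraMap _)
    · rw [h0, zero_pow hj, zero_mul] at e₂'
      exact hw0 e₂'
  have hε₂0 : (ε₂ : K) ≠ 0 := fun h0 => by rw [h0, map_zero] at hε₂; exact zero_ne_one hε₂
  have hε₂inv : (ε₂ : K)⁻¹ ∈ locSub (Algebra.adjoin k (Set.range u)) P :=
    inv_mem_locSub ε₂.2 hε₂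
  -- `z = π^(j₁ - j₂) ε₁ ε₂⁻¹`
  have hj : j₂ ≤ j₁ := by
    by_contra hlt'
    push Not at hlt'
    have e3 : z * (π : K) ^ (j₂ - j₁) = (ε₁ : K) * (ε₂ : K)⁻¹ := by
      have h4 : z * ((π : K) ^ j₂ * (ε₂ : K)) = (π : K) ^ j₁ * (ε₁ : K) := by rw [← e₂']; exact e₁'
      have h5 : (π : K) ^ j₂ = (π : K) ^ j₁ * (π : K) ^ (j₂ - j₁) := by
        rw [← pow_add]; congr 1; omega
      rw [h5] at h4
      have h6 : (π : K) ^ j₁ ≠ 0 := pow_ne_zero _ hπ0
      field_simp
      field_simp at h4
      linear_combination h4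
    have h7 := congrArg P.1 e3
    rw [map_mul, map_mul, map_inv₀, hε₁, hε₂, inv_one, mul_one, map_pow] at h7
    have h8 : P.1 (π : K) ^ (j₂ - j₁) < 1 := pow_lt_one₀ zero_le hπv (by omega)
    have h9 : P.1 z * P.1 (π : K) ^ (j₂ - j₁) < 1 := by
      calc P.1 z * P.1 (π : K) ^ (j₂ - j₁) ≤ 1 * P.1 (π : K) ^ (j₂ - j₁) := mul_le_mul' hz le_rfl
        _ = P.1 (π : K) ^ (j₂ - j₁) := one_mul _
        _ < 1 := h8
    rw [h7] at h9
    exact lt_irrefl _ h9
  have e4 : z = (π : K) ^ (j₁ - j₂) * (ε₁ : K) * (ε₂ : K)⁻¹ := by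
    have h4 : z * ((π : K) ^ j₂ * (ε₂ : K)) = (π : K) ^ j₁ * (ε₁ : K) := by rw [← e₂']; exact e₁'
    have h5 : (π : K) ^ j₁ = (π : K) ^ j₂ * (π : K) ^ (j₁ - j₂) := by
      rw [← pow_add]; congr 1; omega
    rw [h5] at h4
    have h6 : (π : K) ^ j₂ ≠ 0 := pow_ne_zero _ hπ0
    field_simp
    field_simp at h4
    linear_combination h4
  rw [e4]
  exact mul_mem (mul_mem (pow_mem π.2 _) ε₁.2) hε₂inv

end Criterion

end FunFld
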