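import Mathlib
import Groth.Agent.Lib.FunFldJac1_helper2

/-! The Jacobian criterion for affine charts of curves (helper2), second half: at a nonsingular
place the Jacobian matrix of generators of the relation ideal has a one-dimensional kernel. -/

open Module WithZero MvPolynomial

namespace FunFld

variable {k K : Type*} [Field k] [Field K] [Algebra k K]

section Criterion

variable [IsAlgClosed k] {n : ℕ} {P : Place k K} {u : Fin n → K} {a : Fin n → k} {r : ℕ}

/-- Jacobian criterion, second half. -/
theorem jacobian_ker_of_locSub (hK : IsFunctionField k K)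
    (hlt : ∀ l, P.1 (u l - algebraMap k K (a l)) < 1)
    (g : Fin r → MvPolynomial (Fin n) k)
    (hker : Ideal.span (Set.range g) =
      RingHom.ker (aeval u : MvPolynomial (Fin n) k →ₐ[k] K))
    (hns : ∀ z : K, P.1 z ≤ 1 → z ∈ locSub (Algebra.adjoin k (Set.range u)) P) :
    ∃ (b : Fin n) (v : Fin n → k), v b = 1 ∧
      (∀ i, ∑ l, eval a (pderiv l (g i)) * v l = 0) ∧
      ∀ w : Fin n → k, (∀ i, ∑ l, eval a (pderiv l (g i)) * w l = 0) →
        ∀ l, w l = w b * v l := by
  classical
  have hg0 : ∀ i, aeval u (g i) = 0 := by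
    intro i
    have h1 : g i ∈ Ideal.span (Set.range g) := Ideal.subset_span ⟨i, rfl⟩
    rw [hker] at h1
    exact h1
  have hga : ∀ i, eval a (g i) = 0 := fun i =>
    eval_eq_zero_of_val_lt_one hlt (by rw [hg0 i, map_zero]; exact zero_lt_one)
  obtain ⟨π, hπ⟩ : ∃ π : Fin n → K, π = fun l => u l - algebraMap k K (a l) := ⟨_, rfl⟩
  have hπlt : ∀ l, P.1 (π l) < 1 := fun l => by rw [hπ]; exact hlt l
  have hπle : ∀ l, P.1 (π l) ≤ exp (-1 : ℤ) := fun l =>
    (lt_one_iff_le_exp_neg_one _).mp (hπlt l)
  -- Step 1: some `π_b` is a local parameter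
  have hexb : ∃ b, P.1 (π b) = exp (-1 : ℤ) := by
    by_contra hno
    push Not at hno
    obtain ⟨ϖ, hϖ⟩ := P.exists_uniformizer
    have hϖle : P.1 ϖ ≤ 1 := by rw [hϖ]; exact exp_neg_one_lt_one.le
    have hϖR := hns ϖ hϖle
    have hϖm : (⟨ϖ, hϖR⟩ : locSub (Algebra.adjoin k (Set.range u)) P) ∈ mR P u a :=
      mem_mR_of_val_lt_one hlt (by show P.1 ϖ < 1; rw [hϖ]; exact exp_neg_one_lt_one)
    unfold mR at hϖm
    obtain ⟨c, hc⟩ := (Ideal.mem_span_range_iff_exists_fun).mp hϖm
    have hc' : ϖ = ∑ l, (c l : K) * π l := by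
      have h1 : ((∑ i, c i * piR P u a i : locSub (Algebra.adjoin k (Set.range u)) P) : K) = ϖ :=
        congrArg Subtype.val hc
      rw [← h1, AddSubmonoidClass.coe_finsetSum]
      apply Finset.sum_congr rfl
      intro l _
      rw [hπ]
      rfl
    have hlt' : P.1 ϖ < exp (-1 : ℤ) := by
      rw [hc']
      apply Valuation.map_sum_lt P.1 exp_ne_zero
      intro l _
      rw [map_mul]
      have h1 : P.1 (c l : K) ≤ 1 := val_le_one_of_mem_locSub_chart hlt (c l).2
      have h2 : P.1 (π l) < exp (-1 : ℤ) := lt_of_le_of_ne (hπle l) (hno l)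
      calc P.1 (c l : K) * P.1 (π l) ≤ 1 * P.1 (π l) := mul_le_mul' h1 le_rfl
        _ = P.1 (π l) := one_mul _
        _ < exp (-1 : ℤ) := h2
    rw [hϖ] at hlt'
    exact lt_irrefl _ hlt'
  obtain ⟨b, hb⟩ := hexb
  have hπb0 : π b ≠ 0 := by
    intro h0
    rw [h0, map_zero] at hb
    exact exp_ne_zero hb.symm
  -- Step 2: the tangent vector
  have hratio : ∀ l, P.1 (π l / π b) ≤ 1 := by
    intro l
    rw [map_div₀, hb]
    exact (div_le_one₀ (zero_lt_iff.mpr exp_ne_zero)).mpr (hπle l)
  choose v hv using fun l => exists_sub_algebraMap_lt_one hK P (hratio l)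
  have hvb : v b = 1 := by
    have h1 := hv b
    rw [div_self hπb0] at h1
    have h2 : (1 : K) - algebraMap k K (v b) = algebraMap k K (1 - v b) := by
      rw [map_sub, map_one]
    rw [h2] at h1
    have h3 := eq_zero_of_val_algebraMap_lt_one h1
    exact (sub_eq_zero.mp h3).symm
  have hdiff : ∀ l, P.1 (π l - algebraMap k K (v l) * π b) ≤ exp (-2 : ℤ) := by
    intro l
    have e : π l - algebraMap k K (v l) * π b = π b * (π l / π b - algebraMap k K (v l)) := by
      field_simp
    rw [e, map_mul, hb]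
    have h1 := (lt_one_iff_le_exp_neg_one _).mp (hv l)
    calc exp (-1 : ℤ) * P.1 (π l / π b - algebraMap k K (v l)) ≤ exp (-1 : ℤ) * exp (-1 : ℤ) :=
          mul_le_mul' le_rfl h1
      _ = exp (-2 : ℤ) := by rw [← exp_add]; norm_num
  refine ⟨b, v, hvb, ?_, ?_⟩
  · -- Step 3: the tangent vector is in the kernel
    intro i
    have h1 := val_le_of_mem_mR_sq hlt (evR_taylor_mem P u a (g i))
    have h2 : ((evR P u (g i) - algebraMap k _ (eval a (g i)) -
        ∑ l, algebraMap k _ (eval a (pderiv l (g i))) * piR P u a l :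
          locSub (Algebra.adjoin k (Set.range u)) P) : K) =
        -∑ l, algebraMap k K (eval a (pderiv l (g i))) * π l := by
      rw [Subalgebra.coe_sub, Subalgebra.coe_sub, coe_evR, hg0 i, hga i, map_zero,
        Subalgebra.coe_zero, sub_zero, zero_sub, AddSubmonoidClass.coe_finsetSum]
      congr 1
      apply Finset.sum_congr rfl
      intro l _
      rw [hπ]
      rfl
    rw [h2, Valuation.map_neg] at h1
    have h3 : ∑ l, algebraMap k K (eval a (pderiv l (g i))) * π l =
        algebraMap k K (∑ l, eval a (pderiv l (g i)) * v l) * π b +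
          ∑ l, algebraMap k K (eval a (pderiv l (g i))) *
            (π l - algebraMap k K (v l) * π b) := by
      rw [map_sum, Finset.sum_mul, ← Finset.sum_add_distrib]
      apply Finset.sum_congr rfl
      intro l _
      rw [map_mul]
      ring
    have h4 : P.1 (∑ l, algebraMap k K (eval a (pderiv l (g i))) *
        (π l - algebraMap k K (v l) * π b)) ≤ exp (-2 : ℤ) := by
      apply Valuation.map_sum_le
      intro l _
      rw [map_mul]
      calc P.1 (algebraMap k K (eval a (pderiv l (g i)))) *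
            P.1 (π l - algebraMap k K (v l) * π b) ≤ 1 * exp (-2 : ℤ) :=
            mul_le_mul' (P.2.1 _) (hdiff l)
        _ = exp (-2 : ℤ) := one_mul _
    have h5 : P.1 (algebraMap k K (∑ l, eval a (pderiv l (g i)) * v l) * π b) ≤
        exp (-2 : ℤ) := by
      have e : algebraMap k K (∑ l, eval a (pderiv l (g i)) * v l) * π b =
          ∑ l, algebraMap k K (eval a (pderiv l (g i))) * π l -
            ∑ l, algebraMap k K (eval a (pderiv l (g i))) *
              (π l - algebraMap k K (v l) * π b) := by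
        rw [h3]; ring
      rw [e]
      exact (P.1.map_sub _ _).trans (max_le h1 h4)
    by_contra hne
    rw [map_mul, P.val_algebraMap hne, one_mul, hb, exp_le_exp] at h5
    omega
  · -- Step 4: the kernel is spanned by the tangent vector
    intro w hw l
    have hD : ∀ H ∈ RingHom.ker (aeval u : MvPolynomial (Fin n) k →ₐ[k] K),
        eval a H = 0 ∧ ptDer a w H = 0 := by
      intro H hH
      rw [← hker] at hH
      induction hH using Submodule.span_induction with
      | mem x hx =>
        obtain ⟨i, rfl⟩ := hx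
        refine ⟨hga i, ?_⟩
        unfold ptDer
        rw [← hw i]
        exact Finset.sum_congr rfl fun l _ => mul_comm _ _
      | zero => exact ⟨map_zero _, ptDer_zero a w⟩
      | add x y _ _ hx hy =>
        exact ⟨by rw [map_add, hx.1, hy.1, add_zero], by rw [ptDer_add, hx.2, hy.2, add_zero]⟩
      | smul q x _ hx =>
        rw [smul_eq_mul]
        exact ⟨by rw [map_mul, hx.1, mul_zero],
          by rw [ptDer_mul, hx.1, hx.2, mul_zero, zero_mul, add_zero]⟩
    -- the element `ρ = (π_l - v_l π_b) / π_b²`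
    have hρ : P.1 ((π l - algebraMap k K (v l) * π b) / π b ^ 2) ≤ 1 := by
      rw [map_div₀, map_pow, hb]
      have e : exp (-1 : ℤ) ^ 2 = exp (-2 : ℤ) := by rw [← exp_nsmul]; norm_num
      rw [e]
      exact (div_le_one₀ (zero_lt_iff.mpr exp_ne_zero)).mpr (hdiff l)
    obtain ⟨y, hy, s, hs, hs1, e⟩ := hns _ hρ
    rw [Algebra.adjoin_range_eq_range_aeval] at hy hs
    obtain ⟨Pl, hPl⟩ := hy
    obtain ⟨Sl, hSl⟩ := hs
    have hPl' : aeval u Pl = y := hPl
    have hSl' : aeval u Sl = s := hSl
    have hSa : eval a Sl ≠ 0 := eval_ne_zero_of_val_eq_one hlt (by rw [hSl']; exact hs1)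
    obtain ⟨B, hB⟩ : ∃ B : MvPolynomial (Fin n) k, B = X b - C (a b) := ⟨_, rfl⟩
    obtain ⟨L, hL⟩ : ∃ L : MvPolynomial (Fin n) k, L = X l - C (a l) - C (v l) * B := ⟨_, rfl⟩
    have hBa : eval a B = 0 := by rw [hB, map_sub, eval_X, eval_C, sub_self]
    have hLa : eval a L = 0 := by
      rw [hL, map_sub, map_sub, map_mul, eval_X, eval_C, hBa, mul_zero, sub_self, sub_zero]
    have hBu : aeval u B = π b := by rw [hB, hπ, map_sub, aeval_X, aeval_C]
    have hLu : aeval u L = π l - algebraMap k K (v l) * π b := by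
      rw [hL, map_sub, map_sub, map_mul, aeval_X, aeval_C, aeval_C, hBu, hπ]
    have hBD : ptDer a w B = w b := by rw [hB, ptDer_sub, ptDer_X, ptDer_C, sub_zero]
    have hLD : ptDer a w L = w l - v l * w b := by
      rw [hL, ptDer_sub, ptDer_sub, ptDer_X, ptDer_C, sub_zero, ptDer_mul, eval_C, hBD, hBa,
        zero_mul, add_zero]
    have hH : Sl * L - Pl * B ^ 2 ∈ RingHom.ker (aeval u : MvPolynomial (Fin n) k →ₐ[k] K) := by
      rw [RingHom.mem_ker, map_sub, map_mul, map_mul, map_pow, hSl', hLu, hPl', hBu, ← e]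
      field_simp
      ring
    have h1 := (hD _ hH).2
    rw [ptDer_sub, ptDer_mul, ptDer_mul, hLa, hLD, pow_two, ptDer_mul, map_mul, hBa] at h1
    have h2 : eval a Sl * (w l - v l * w b) = 0 := by
      linear_combination h1
    rcases mul_eq_zero.mp h2 with h3 | h3
    · exact absurd h3 hSa
    · rw [mul_comm]
      exact sub_eq_zero.mp h3

end Criterion

section LinAlg

variable {F : Type*} [Field F] {n r : ℕ}

/-- If an `r × n` matrix has rank `n - 1`, some coordinate functional complements its row
space. -/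
theorem exists_complement_of_rank (hn : 1 ≤ n) (A : Matrix (Fin r) (Fin n) F)
    (hA : A.rank = n - 1) :
    ∃ l₀ : Fin n, ∀ l, ∃ (c : F) (μ : Fin r → F), ∀ l', (if l' = l then (1 : F) else 0) =
      c * (if l' = l₀ then 1 else 0) + ∑ i, μ i * A i l' := by
  classical
  obtain ⟨W, hW⟩ : ∃ W : Submodule F (Fin n → F), W = Submodule.span F (Set.range A.row) :=
    ⟨_, rfl⟩
  have hWr : Module.finrank F W = n - 1 := by
    rw [hW, ← Matrix.rank_eq_finrank_span_row, hA]
  -- some basis vector is not in `W`
  have hex : ∃ l₀ : Fin n, (Pi.single l₀ (1 : F) : Fin n → F) ∉ W := by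
    by_contra hno
    push Not at hno
    have htop : W = ⊤ := by
      rw [eq_top_iff]
      intro x _
      rw [← (Pi.basisFun F (Fin n)).sum_repr x]
      refine Submodule.sum_mem _ fun l _ => Submodule.smul_mem _ _ ?_
      rw [Pi.basisFun_apply]
      exact hno l
    rw [htop, finrank_top, Module.finrank_fin_fun] at hWr
    omega
  obtain ⟨l₀, hl₀⟩ := hex
  refine ⟨l₀, ?_⟩
  -- `W ⊔ span {e_{l₀}} = ⊤`
  have hsup : W ⊔ Submodule.span F {(Pi.single l₀ (1 : F) : Fin n → F)} = ⊤ := by
    apply Submodule.eq_top_of_finrank_eq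
    rw [Module.finrank_fin_fun]
    have hdisj : W ⊓ Submodule.span F {(Pi.single l₀ (1 : F) : Fin n → F)} = ⊥ := by
      rw [eq_bot_iff]
      rintro x ⟨hxW, hxs⟩
      obtain ⟨c, rfl⟩ := Submodule.mem_span_singleton.mp hxs
      by_cases hc : c = 0
      · rw [hc, zero_smul]; exact Submodule.zero_mem _
      · exfalso
        apply hl₀
        have := Submodule.smul_mem W c⁻¹ hxW
        rwa [inv_smul_smul₀ hc] at this
    have h1 := Submodule.finrank_sup_add_finrank_inf_eq W
      (Submodule.span F {(Pi.single l₀ (1 : F) : Fin n → F)})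
    rw [hdisj, finrank_bot, add_zero, hWr, finrank_span_singleton] at h1
    · omega
    · intro h0
      have := congrFun h0 l₀
      rw [Pi.single_eq_same, Pi.zero_apply] at this
      exact one_ne_zero this
  intro l
  have hmem : (Pi.single l (1 : F) : Fin n → F) ∈
      W ⊔ Submodule.span F {(Pi.single l₀ (1 : F) : Fin n → F)} := by
    rw [hsup]; trivial
  obtain ⟨x, hxW, y, hys, hxy⟩ := Submodule.mem_sup.mp hmem
  obtain ⟨c, rfl⟩ := Submodule.mem_span_singleton.mp hys
  rw [hW] at hxW
  obtain ⟨μ, hμ⟩ := (Submodule.mem_span_range_iff_exists_fun F).mp hxW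
  refine ⟨c, μ, fun l' => ?_⟩
  have h1 := congrFun hxy l'
  rw [Pi.add_apply, Pi.smul_apply, ← hμ, Finset.sum_apply] at h1
  rw [Pi.single_apply, Pi.single_apply, smul_eq_mul] at h1
  rw [← h1, add_comm]
  congr 1

/-- If the kernel of an `r × n` matrix is a line, its rank is `n - 1`. -/
theorem rank_eq_of_ker_line (A : Matrix (Fin r) (Fin n) F) (b : Fin n) (v : Fin n → F)
    (hvb : v b = 1) (hv : ∀ i, ∑ l, A i l * v l = 0)
    (hker : ∀ w : Fin n → F, (∀ i, ∑ l, A i l * w l = 0) → ∀ l, w l = w b * v l) :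
    A.rank = n - 1 := by
  classical
  have hkerspan : LinearMap.ker A.mulVecLin = Submodule.span F {v} := by
    apply le_antisymm
    · intro w hw
      rw [LinearMap.mem_ker] at hw
      have hw' : ∀ i, ∑ l, A i l * w l = 0 := fun i => by
        have := congrFun hw i
        rw [Matrix.mulVecLin_apply, Matrix.mulVec] at this
        exact this
      rw [Submodule.mem_span_singleton]
      refine ⟨w b, ?_⟩
      funext l
      rw [Pi.smul_apply, smul_eq_mul, hker w hw' l]
    · rw [Submodule.span_le]
      rintro _ rfl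
      rw [SetLike.mem_coe, LinearMap.mem_ker]
      funext i
      rw [Matrix.mulVecLin_apply, Matrix.mulVec]
      exact hv i
  have hv0 : v ≠ 0 := by
    intro h0
    have := congrFun h0 b
    rw [hvb, Pi.zero_apply] at this
    exact one_ne_zero this
  have h1 := LinearMap.finrank_range_add_finrank_ker A.mulVecLin
  rw [hkerspan, finrank_span_singleton hv0, Module.finrank_fin_fun] at h1
  unfold Matrix.rank
  omega

end LinAlg

end FunFld
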