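import Mathlib
import Groth.Agent.Lib.FunFldJac2_helper2
import Groth.Agent.Lib.FunFldLoc_helper2

/-! The Jacobian criterion for projective maps of curves (helper2): homogenization and
dehomogenization, and the projective form of the criterion. -/

open Module WithZero MvPolynomial

namespace FunFld

variable {k K : Type*} [Field k] [Field K] [Algebra k K]

section Homog

/-- Scaling the point of evaluation of a homogeneous polynomial. -/
theorem aeval_scale_of_isHomogeneous {σ B : Type*} [CommRing B] [Algebra k B] (x : σ → B) (t : B)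
    {F : MvPolynomial σ k} {d : ℕ} (hF : F.IsHomogeneous d) :
    aeval (fun i => t * x i) F = t ^ d * aeval x F := by
  have e1 : aeval (fun i => t * x i) F =
      ∑ s ∈ F.support, aeval (fun i => t * x i) (monomial s (coeff s F)) := by
    rw [← map_sum, support_sum_monomial_coeff]
  have e2 : aeval x F = ∑ s ∈ F.support, aeval x (monomial s (coeff s F)) := by
    rw [← map_sum, support_sum_monomial_coeff]
  rw [e1, e2, Finset.mul_sum]
  apply Finset.sum_congr rfl
  intro s hs
  rw [aeval_monomial, aeval_monomial, hF.degree_eq_sum_deg_support hs]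
  unfold Finsupp.prod
  simp only [mul_pow]
  rw [Finset.prod_mul_distrib, Finset.prod_pow_eq_pow_sum]
  ring

theorem aeval_C_mul_X_of_isHomogeneous {σ : Type*} (φ : σ → K) {F : MvPolynomial σ k} {d : ℕ}
    (hF : F.IsHomogeneous d) :
    aeval (fun i => Polynomial.C (φ i) * Polynomial.X) F =
      Polynomial.C (aeval φ F) * Polynomial.X ^ d := by
  have e : (fun i => Polynomial.C (φ i) * (Polynomial.X : Polynomial K)) =
      fun i => Polynomial.X * Polynomial.C (φ i) := by
    funext i; rw [mul_comm]
  rw [e, aeval_scale_of_isHomogeneous _ _ hF, mul_comm]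
  congr 1
  exact (comp_aeval_apply φ (Polynomial.CAlgHom (R := k) (A := K)) F).symm

/-- A homogeneous polynomial is a relation of `φ` iff it is a relation of the ratios
`φ i / φ j`. -/
theorem aeval_C_mul_X_eq_zero_iff {σ : Type*} (φ : σ → K) (j : σ) (hj : φ j ≠ 0)
    {F : MvPolynomial σ k} {d : ℕ} (hF : F.IsHomogeneous d) :
    aeval (fun i => Polynomial.C (φ i) * Polynomial.X) F = 0 ↔
      aeval (fun i => φ i / φ j) F = 0 := by
  rw [aeval_C_mul_X_of_isHomogeneous φ hF]
  have e : φ = fun i => φ j * (φ i / φ j) := by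
    funext i; field_simp
  have h1 : aeval φ F = φ j ^ d * aeval (fun i => φ i / φ j) F := by
    conv_lhs => rw [e]
    exact aeval_scale_of_isHomogeneous _ _ hF
  constructor
  · intro h
    rcases mul_eq_zero.mp h with h2 | h2
    · rw [Polynomial.C_eq_zero, h1] at h2
      rcases mul_eq_zero.mp h2 with h3 | h3
      · exact absurd h3 (pow_ne_zero _ hj)
      · exact h3
    · exact absurd h2 (pow_ne_zero _ Polynomial.X_ne_zero)
  · intro h
    rw [h1, h, mul_zero, map_zero, zero_mul]

variable {n : ℕ}

/-- The variables of the dehomogenization `X₀ ↦ 1`, `X_{l+1} ↦ X_l`. -/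
noncomputable def dehomVar (k : Type*) [Field k] (n : ℕ) :
    Fin (n + 1) → MvPolynomial (Fin n) k :=
  @Fin.cases n (fun _ => MvPolynomial (Fin n) k) 1 X

@[simp] theorem dehomVar_zero : dehomVar k n 0 = 1 := rfl

@[simp] theorem dehomVar_succ (l : Fin n) : dehomVar k n l.succ = X l := rfl

/-- Dehomogenization with respect to `X₀`. -/
noncomputable def dehom (k : Type*) [Field k] (n : ℕ) :
    MvPolynomial (Fin (n + 1)) k →ₐ[k] MvPolynomial (Fin n) k :=
  aeval (dehomVar k n)

theorem dehom_X (i : Fin (n + 1)) : dehom k n (X i) = dehomVar k n i := by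
  unfold dehom
  rw [aeval_X]

theorem dehom_C (c : k) : dehom k n (C c) = C c := by
  unfold dehom
  rw [algHom_C, algebraMap_eq]

theorem aeval_dehom {B : Type*} [CommRing B] [Algebra k B] (u : Fin n → B)
    (F : MvPolynomial (Fin (n + 1)) k) :
    aeval u (dehom k n F) = aeval (@Fin.cases n (fun _ => B) 1 u) F := by
  unfold dehom
  rw [comp_aeval_apply]
  have e : (fun i => aeval u (dehomVar k n i)) = @Fin.cases n (fun _ => B) 1 u := by
    funext i
    refine Fin.cases ?_ (fun l => ?_) i
    · rw [dehomVar_zero, map_one]; rfl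
    · rw [dehomVar_succ, aeval_X]; rfl
  rw [e]

theorem eval_dehom (a : Fin n → k) (F : MvPolynomial (Fin (n + 1)) k) :
    eval a (dehom k n F) = eval (@Fin.cases n (fun _ => k) 1 a) F := by
  have h := aeval_dehom (B := k) a F
  rw [← coe_aeval_eq_eval, ← coe_aeval_eq_eval]
  exact h

theorem dehom_rename_succ (p : MvPolynomial (Fin n) k) :
    dehom k n (rename Fin.succ p) = p := by
  unfold dehom
  rw [aeval_rename]
  have e : dehomVar k n ∘ Fin.succ = X := by
    funext l
    rfl
  rw [e, aeval_X_left_apply]

theorem pderiv_dehom (l : Fin n) (F : MvPolynomial (Fin (n + 1)) k) :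
    pderiv l (dehom k n F) = dehom k n (pderiv l.succ F) := by
  classical
  have key : ∀ i : Fin (n + 1), pderiv l (dehom k n (X i)) = dehom k n (pderiv l.succ (X i)) := by
    intro i
    refine Fin.cases ?_ (fun j => ?_) i
    · rw [dehom_X, dehomVar_zero, pderiv_one, pderiv_X_of_ne (Fin.succ_ne_zero l).symm, map_zero]
    · rw [dehom_X, dehomVar_succ]
      by_cases h : j = l
      · subst h
        rw [pderiv_X_self, pderiv_X_self, map_one]
      · rw [pderiv_X_of_ne h, pderiv_X_of_ne (fun h' => h (Fin.succ_injective _ h')), map_zero]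
  induction F using MvPolynomial.induction_on with
  | C c => rw [dehom_C, pderiv_C, pderiv_C, map_zero]
  | add p q hp hq => rw [map_add, map_add, map_add, map_add, hp, hq]
  | mul_X p i hp =>
    rw [map_mul, pderiv_mul, pderiv_mul, map_add, map_mul, map_mul, hp, key i]

/-- Homogenization with respect to `X₀`, in degree `totalDegree`. -/
noncomputable def homog (G : MvPolynomial (Fin n) k) : MvPolynomial (Fin (n + 1)) k :=
  ∑ e ∈ Finset.range (G.totalDegree + 1),
    X 0 ^ (G.totalDegree - e) * rename Fin.succ (homogeneousComponent e G)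

theorem homog_isHomogeneous (G : MvPolynomial (Fin n) k) :
    (homog G).IsHomogeneous G.totalDegree := by
  unfold homog
  apply IsHomogeneous.sum
  intro e he
  have he' : e ≤ G.totalDegree := by
    have := Finset.mem_range.mp he
    omega
  have h1 : (X 0 ^ (G.totalDegree - e) : MvPolynomial (Fin (n + 1)) k).IsHomogeneous
      (G.totalDegree - e) := isHomogeneous_X_pow 0 _
  have h2 : (rename Fin.succ (homogeneousComponent e G) :
      MvPolynomial (Fin (n + 1)) k).IsHomogeneous e :=
    (homogeneousComponent_isHomogeneous e G).rename_isHomogeneous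
  have h3 := h1.mul h2
  rwa [Nat.sub_add_cancel he'] at h3

theorem dehom_homog (G : MvPolynomial (Fin n) k) : dehom k n (homog G) = G := by
  unfold homog
  rw [map_sum]
  refine Eq.trans ?_ (sum_homogeneousComponent G)
  apply Finset.sum_congr rfl
  intro e _
  rw [map_mul, map_pow, dehom_X, dehomVar_zero, one_pow, one_mul, dehom_rename_succ]

end Homog

section Residue

variable [IsAlgClosed k]

/-- The residue field of a place over an algebraically closed field is the constant field. -/
theorem residue_algebraMap_bijective (hK : IsFunctionField k K) (P : Place k K) :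
    Function.Bijective ((IsLocalRing.residue P.O).comp (algebraMap k P.O)) := by
  constructor
  · exact RingHom.injective _
  · intro y
    obtain ⟨x, rfl⟩ := IsLocalRing.residue_surjective y
    obtain ⟨c, hc⟩ := exists_sub_algebraMap_lt_one hK P (x := (x : K)) x.2
    refine ⟨c, ?_⟩
    have h1 : IsLocalRing.residue P.O (x - algebraMap k P.O c) = 0 := by
      rw [P.residue_eq_zero_iff]
      exact hc
    rw [map_sub, sub_eq_zero] at h1
    exact h1.symm

end Residue

section Main

variable [IsAlgClosed k]

/-- The Jacobian criterion for a birational projective map. -/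
theorem jacobian_criterion_proj (hK : IsFunctionField k K) {n : ℕ} (hn : 1 ≤ n)
    (φ : Fin (n + 1) → K) (hφ : LinearIndependent k φ)
    (hbir : IntermediateField.adjoin k (Set.range fun i => φ i / φ 0) = ⊤)
    (P : Place k K) (hP : ∀ i, P.1 (φ i) ≤ P.1 (φ 0)) {r : ℕ}
    (f : Fin r → MvPolynomial (Fin (n + 1)) k)
    (hhom : ∀ i, (f i).IsHomogeneous (f i).totalDegree)
    (hgen : Ideal.span (Set.range f) =
      RingHom.ker (MvPolynomial.aeval fun i => Polynomial.C (φ i) * Polynomial.X))
    (M : Matrix (Fin r) (Fin n) P.O)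
    (hM : ∀ i j, ((M i j : P.O) : K) =
      MvPolynomial.aeval (fun l => φ l / φ 0) (MvPolynomial.pderiv j.succ (f i))) :
    IsNonsingularAt φ P ↔ (M.map (IsLocalRing.residue P.O)).rank = n - 1 := by
  classical
  have hφ0 : φ 0 ≠ 0 := hφ.ne_zero 0
  have hpos : 0 < P.1 (φ 0) := zero_lt_iff.mpr ((P.1.ne_zero_iff).mpr hφ0)
  obtain ⟨u, hu⟩ : ∃ u : Fin n → K, u = fun l => φ l.succ / φ 0 := ⟨_, rfl⟩
  have hψ : (fun l => φ l / φ 0) = @Fin.cases n (fun _ => K) 1 u := by
    funext i
    refine Fin.cases ?_ (fun l => ?_) i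
    · show φ 0 / φ 0 = 1
      exact div_self hφ0
    · show φ l.succ / φ 0 = u l
      rw [hu]
  have hu1 : ∀ l, P.1 (u l) ≤ 1 := by
    intro l
    rw [hu, map_div₀]
    exact (div_le_one₀ hpos).mpr (hP l.succ)
  choose a hlt using fun l => exists_sub_algebraMap_lt_one hK P (hu1 l)
  -- the adjoin equalities
  have hA : Algebra.adjoin k (Set.range fun i => φ i / φ 0) = Algebra.adjoin k (Set.range u) := by
    apply le_antisymm
    · apply Algebra.adjoin_le
      rintro _ ⟨i, rfl⟩
      refine Fin.cases ?_ (fun l => ?_) i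
      · show φ 0 / φ 0 ∈ _
        rw [div_self hφ0]
        exact one_mem _
      · apply Algebra.subset_adjoin
        exact ⟨l, by rw [hu]⟩
    · apply Algebra.adjoin_mono
      rintro _ ⟨l, rfl⟩
      exact ⟨l.succ, by rw [hu]⟩
  have hF : IntermediateField.adjoin k (Set.range u) = ⊤ := by
    rw [eq_top_iff, ← hbir]
    apply IntermediateField.adjoin_le_iff.mpr
    rintro _ ⟨i, rfl⟩
    refine Fin.cases ?_ (fun l => ?_) i
    · show φ 0 / φ 0 ∈ _
      rw [div_self hφ0]
      exact one_mem _
    · apply IntermediateField.subset_adjoin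
      exact ⟨l, by rw [hu]⟩
  have hloc : ∀ z : K, InLocRing φ P z ↔ z ∈ locSub (Algebra.adjoin k (Set.range u)) P := by
    intro z
    rw [inLocRing_iff φ P 0 hφ0 hP, hA]
  -- the dehomogenized relations
  obtain ⟨g, hg_def⟩ : ∃ g : Fin r → MvPolynomial (Fin n) k, g = fun i => dehom k n (f i) :=
    ⟨_, rfl⟩
  have haev : ∀ F : MvPolynomial (Fin (n + 1)) k,
      aeval u (dehom k n F) = aeval (fun l => φ l / φ 0) F := by
    intro F
    rw [aeval_dehom, hψ]
  have hg : ∀ i, aeval u (g i) = 0 := by
    intro i
    rw [hg_def, haev, ← aeval_C_mul_X_eq_zero_iff φ 0 hφ0 (hhom i)]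
    have h1 : f i ∈ Ideal.span (Set.range f) := Ideal.subset_span ⟨i, rfl⟩
    rw [hgen] at h1
    exact h1
  have hker : Ideal.span (Set.range g) =
      RingHom.ker (aeval u : MvPolynomial (Fin n) k →ₐ[k] K) := by
    apply le_antisymm
    · rw [Ideal.span_le]
      rintro _ ⟨i, rfl⟩
      exact hg i
    · intro G hG
      have hH : homog G ∈ Ideal.span (Set.range f) := by
        rw [hgen, RingHom.mem_ker, aeval_C_mul_X_eq_zero_iff φ 0 hφ0 (homog_isHomogeneous G),
          ← haev, dehom_homog]
        exact hG
      have h1 := Ideal.mem_map_of_mem (dehom k n) hH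
      rw [Ideal.map_span, dehom_homog, ← Set.range_comp] at h1
      rw [hg_def]
      exact h1
  -- the Jacobian matrix over `k`
  obtain ⟨ι, hι⟩ : ∃ ι : k →+* IsLocalRing.ResidueField P.O,
      ι = (IsLocalRing.residue P.O).comp (algebraMap k P.O) := ⟨_, rfl⟩
  have hιbij : Function.Bijective ι := by
    rw [hι]
    exact residue_algebraMap_bijective hK P
  have hMA : ∀ i j, IsLocalRing.residue P.O (M i j) = ι (eval a (pderiv j (g i))) := by
    intro i j
    have h1 : IsLocalRing.residue P.O (M i j - algebraMap k P.O (eval a (pderiv j (g i)))) = 0 := by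
      rw [P.residue_eq_zero_iff]
      have h2 : ((M i j - algebraMap k P.O (eval a (pderiv j (g i))) : P.O) : K) =
          aeval u (pderiv j (g i)) - algebraMap k K (eval a (pderiv j (g i))) := by
        rw [hg_def, pderiv_dehom, haev, ← hM i j]
        rfl
      rw [h2]
      exact val_aeval_sub_eval_lt_one hlt _
    rw [map_sub, sub_eq_zero] at h1
    rw [h1, hι]
    rfl
  constructor
  · -- nonsingular ⟹ rank
    intro hns
    have hns' : ∀ z : K, P.1 z ≤ 1 → z ∈ locSub (Algebra.adjoin k (Set.range u)) P :=
      fun z hz => (hloc z).mp (hns z hz)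
    obtain ⟨b, v, hvb, hv, hkerA⟩ := jacobian_ker_of_locSub hK hlt g hker hns'
    refine rank_eq_of_ker_line (M.map (IsLocalRing.residue P.O)) b (fun l => ι (v l)) ?_ ?_ ?_
    · show ι (v b) = 1
      rw [hvb, map_one]
    · intro i
      have h1 := congrArg ι (hv i)
      rw [map_sum, map_zero] at h1
      rw [← h1]
      apply Finset.sum_congr rfl
      intro l _
      rw [Matrix.map_apply, hMA, map_mul]
    · intro w' hw' l
      choose w hw using fun l => hιbij.2 (w' l)
      have h1 : ∀ i, ∑ l, eval a (pderiv l (g i)) * w l = 0 := by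
        intro i
        apply hιbij.1
        rw [map_sum, map_zero, ← hw' i]
        apply Finset.sum_congr rfl
        intro l _
        rw [Matrix.map_apply, hMA, map_mul, hw]
      have h2 := hkerA w h1 l
      rw [← hw l, ← hw b, h2, map_mul]
  · -- rank ⟹ nonsingular
    intro hrank
    obtain ⟨l₀, hrow'⟩ := exists_complement_of_rank hn (M.map (IsLocalRing.residue P.O)) hrank
    have hrow : ∀ l, ∃ (c : k) (μ : Fin r → k), ∀ l', (if l' = l then (1 : k) else 0) =
        c * (if l' = l₀ then 1 else 0) + ∑ i, μ i * eval a (pderiv l' (g i)) := by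
      intro l
      obtain ⟨c', μ', h⟩ := hrow' l
      obtain ⟨c, hc⟩ := hιbij.2 c'
      choose μ hμ using fun i => hιbij.2 (μ' i)
      refine ⟨c, μ, fun l' => ?_⟩
      apply hιbij.1
      have h1 := h l'
      rw [map_add, map_mul, map_sum, apply_ite ι, apply_ite ι, map_one, map_zero, hc]
      rw [h1]
      congr 1
      apply Finset.sum_congr rfl
      intro i _
      rw [Matrix.map_apply, hMA, map_mul, hμ]
    intro z hz
    rw [hloc z]
    exact mem_locSub_of_jacobian hK hF hlt g hg l₀ hrow hz

end Main

end FunFld
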