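import Mathlib
import Groth.Agent.Lib.FunFldPM1_helper2

/-! Plane models (helper2), part 2: the integral relation of a generic projection, with degree
bounds, and the filtration of `k[ℓ, t]` by total degree. -/

open Module WithZero IntermediateField Polynomial

namespace FunFld

variable {k K : Type*} [Field k] [Field K] [Algebra k K]

/-- A plane model in general position: `ℓ` is transcendental, `K = k(ℓ, t)` and `t` lies in
`L((ℓ)_∞)`. -/
structure IsPM (k : Type*) {K : Type*} [Field k] [Field K] [Algebra k K] (ℓ t : K) : Prop where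
  tr : Transcendental k ℓ
  gen : IntermediateField.adjoin k ({ℓ, t} : Set K) = ⊤
  le : ∀ Q : Place k K, Q.1 t ≤ max 1 (Q.1 ℓ)

namespace IsPM

variable {ℓ t : K}

theorem ne_zero (h : IsPM k ℓ t) : ℓ ≠ 0 := fun h0 => h.tr (h0 ▸ isAlgebraic_zero)

theorem adjoin_top (h : IsPM k ℓ t) : k⟮ℓ⟯⟮t⟯ = ⊤ := by
  rw [← IntermediateField.restrictScalars_eq_top_iff (K := k),
    IntermediateField.adjoin_adjoin_left, ← h.gen]
  congr 1

theorem inv (hK : IsFunctionField k K) (h : IsPM k ℓ t) : IsPM k ℓ⁻¹ (t * ℓ⁻¹) where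
  tr := transcendental_inv hK h.tr
  gen := by
    have hℓ0 := h.ne_zero
    rw [eq_top_iff, ← h.gen, IntermediateField.adjoin_le_iff]
    have h1 : ℓ⁻¹ ∈ IntermediateField.adjoin k ({ℓ⁻¹, t * ℓ⁻¹} : Set K) :=
      IntermediateField.subset_adjoin k _ (Set.mem_insert _ _)
    have h2 : t * ℓ⁻¹ ∈ IntermediateField.adjoin k ({ℓ⁻¹, t * ℓ⁻¹} : Set K) :=
      IntermediateField.subset_adjoin k _ (Set.mem_insert_of_mem _ rfl)
    intro z hz
    rcases hz with hz | hz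
    · rw [hz]
      have := inv_mem h1
      rwa [inv_inv] at this
    · rw [Set.mem_singleton_iff] at hz
      rw [hz]
      have e : t = t * ℓ⁻¹ * (ℓ⁻¹)⁻¹ := by
        rw [inv_inv, mul_assoc, inv_mul_cancel₀ hℓ0, mul_one]
      show t ∈ IntermediateField.adjoin k ({ℓ⁻¹, t * ℓ⁻¹} : Set K)
      have h3 := mul_mem h2 (inv_mem h1)
      rw [← e] at h3
      exact h3
  le := by
    intro Q
    have hℓ0 := h.ne_zero
    rw [map_mul, map_inv₀]
    have hpos : 0 < Q.1 ℓ := zero_lt_iff.mpr ((Q.1.ne_zero_iff).mpr hℓ0)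
    rcases le_or_gt (Q.1 ℓ) 1 with h1 | h1
    · have ht : Q.1 t ≤ 1 := (h.le Q).trans (by rw [max_eq_left h1])
      calc Q.1 t * (Q.1 ℓ)⁻¹ ≤ 1 * (Q.1 ℓ)⁻¹ := mul_le_mul' ht le_rfl
        _ = (Q.1 ℓ)⁻¹ := one_mul _
        _ ≤ max 1 (Q.1 ℓ)⁻¹ := le_max_right _ _
    · have ht : Q.1 t ≤ Q.1 ℓ := (h.le Q).trans (by rw [max_eq_right h1.le])
      calc Q.1 t * (Q.1 ℓ)⁻¹ ≤ Q.1 ℓ * (Q.1 ℓ)⁻¹ := mul_le_mul' ht le_rfl
        _ = 1 := mul_inv_cancel₀ hpos.ne'
        _ ≤ max 1 (Q.1 ℓ)⁻¹ := le_max_left _ _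

theorem finrank_pos (hK : IsFunctionField k K) (h : IsPM k ℓ t) :
    0 < Module.finrank k⟮ℓ⟯ K := by
  haveI := finiteDimensional_of_transcendental hK h.tr
  exact Module.finrank_pos

theorem mem_L (hK : IsFunctionField k K) (h : IsPM k ℓ t) : t ∈ L (poleDiv k ℓ) := by
  rw [FunFld.mem_L]
  intro Q
  rw [exp_poleDiv hK h.ne_zero]
  exact h.le Q

end IsPM

section Rel

open IntermediateField.algebraAdjoinAdjoin in
/-- A monic relation for `t` over `k[ℓ]`, when `t` is integral wherever `ℓ` is. -/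
theorem exists_monic_rel (hK : IsFunctionField k K) {ℓ t : K} (hℓ : Transcendental k ℓ)
    (hgen : IntermediateField.adjoin k ({ℓ, t} : Set K) = ⊤)
    (hle : ∀ Q : Place k K, Q.1 ℓ ≤ 1 → Q.1 t ≤ 1) {n : ℕ}
    (hn : Module.finrank k⟮ℓ⟯ K = n) :
    ∃ q : ℕ → k[X], t ^ n = ∑ j ∈ Finset.range n, aeval ℓ (q j) * t ^ j := by
  classical
  haveI hfd : FiniteDimensional k⟮ℓ⟯ K := finiteDimensional_of_transcendental hK hℓ
  haveI : IsIntegrallyClosed (Algebra.adjoin k ({ℓ} : Set K)) :=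
    IsIntegrallyClosed.of_equiv (Polynomial.algEquivOfTranscendental k ℓ hℓ).toRingEquiv
  have hint : IsIntegral (Algebra.adjoin k ({ℓ} : Set K)) t := by
    apply isIntegral_of_forall_place hK
    intro Q hQ
    exact hle Q (hQ ℓ (Algebra.subset_adjoin (Set.mem_singleton ℓ)))
  have hmin : minpoly k⟮ℓ⟯ t =
      (minpoly (Algebra.adjoin k ({ℓ} : Set K)) t).map (algebraMap _ k⟮ℓ⟯) :=
    minpoly.isIntegrallyClosed_eq_field_fractions' k⟮ℓ⟯ hint
  have htop : k⟮ℓ⟯⟮t⟯ = ⊤ := by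
    rw [← IntermediateField.restrictScalars_eq_top_iff (K := k),
      IntermediateField.adjoin_adjoin_left, ← hgen]
    congr 1
  have htint : IsIntegral k⟮ℓ⟯ t := IsIntegral.of_finite _ _
  have hnat : (minpoly k⟮ℓ⟯ t).natDegree = n := by
    rw [← IntermediateField.adjoin.finrank htint, htop, IntermediateField.finrank_top', hn]
  obtain ⟨p, hp⟩ : ∃ p, p = minpoly (Algebra.adjoin k ({ℓ} : Set K)) t := ⟨_, rfl⟩
  have hpm : p.Monic := hp ▸ minpoly.monic hint
  have hpn : p.natDegree = n := by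
    rw [← hnat, hmin, ← hp, hpm.natDegree_map]
  have hp0 : aeval t p = 0 := hp ▸ minpoly.aeval _ t
  have hcoef : ∀ i, ∃ q : k[X],
      aeval ℓ q = -((p.coeff i : Algebra.adjoin k ({ℓ} : Set K)) : K) := by
    intro i
    have h1 : ((p.coeff i : Algebra.adjoin k ({ℓ} : Set K)) : K) ∈
        (aeval ℓ : k[X] →ₐ[k] K).range := by
      rw [← Algebra.adjoin_singleton_eq_range_aeval]
      exact (p.coeff i).2
    obtain ⟨q, hq⟩ := h1
    exact ⟨-q, by rw [map_neg]; exact congrArg Neg.neg hq⟩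
  choose q hq using hcoef
  refine ⟨q, ?_⟩
  have h2 : aeval t (X ^ p.natDegree +
      ∑ i ∈ Finset.range p.natDegree, C (p.coeff i) * X ^ i) = 0 := by
    rw [← hpm.as_sum]; exact hp0
  rw [hpn, map_add, map_pow, aeval_X, map_sum] at h2
  have h3 : ∀ i ∈ Finset.range n,
      aeval t (C (p.coeff i) * X ^ i) = -(aeval ℓ (q i) * t ^ i) := by
    intro i _
    rw [map_mul, aeval_C, map_pow, aeval_X, hq i, neg_mul, neg_neg]
    rfl
  rw [Finset.sum_congr rfl h3, Finset.sum_neg_distrib] at h2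
  exact eq_of_sub_eq_zero (by rw [sub_eq_add_neg]; exact h2)

/-- Linear independence of the powers of a generator, in elementwise form. -/
theorem eq_zero_of_sum_pow_eq_zero {F : IntermediateField k K} [FiniteDimensional F K] {t : K}
    (htop : F⟮t⟯ = ⊤) {n : ℕ} (hn : Module.finrank F K = n) {d : ℕ → K} (hd : ∀ j, d j ∈ F)
    (hsum : ∑ j ∈ Finset.range n, d j * t ^ j = 0) : ∀ j < n, d j = 0 := by
  have htint : IsIntegral F t := IsIntegral.of_finite _ _
  have hnat : (minpoly F t).natDegree = n := by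
    rw [← IntermediateField.adjoin.finrank htint, htop, IntermediateField.finrank_top', hn]
  have hli : LinearIndependent F fun i : Fin n => t ^ (i : ℕ) :=
    (linearIndependent_pow t).comp (Fin.cast hnat.symm) (Fin.cast_injective _)
  rw [Fintype.linearIndependent_iff] at hli
  intro j hj
  have h1 := hli (fun i => ⟨d i, hd i⟩) ?_ ⟨j, hj⟩
  · exact congrArg Subtype.val h1
  · rw [← hsum, Finset.sum_range]
    rfl

/-- The integral relation of `t` over `k[ℓ]` with degree bounds: `t^n = ∑ q_j(ℓ) t^j` with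
`deg q_j + j ≤ n`. -/
theorem exists_rel (hK : IsFunctionField k K) {ℓ t : K} (h : IsPM k ℓ t) {n : ℕ}
    (hn : Module.finrank k⟮ℓ⟯ K = n) :
    ∃ q : ℕ → k[X], (∀ j < n, (q j).natDegree + j ≤ n) ∧
      t ^ n = ∑ j ∈ Finset.range n, aeval ℓ (q j) * t ^ j := by
  classical
  have hℓ0 := h.ne_zero
  haveI hfd : FiniteDimensional k⟮ℓ⟯ K := finiteDimensional_of_transcendental hK h.tr
  obtain ⟨q, hq⟩ := exists_monic_rel hK h.tr h.gen
    (fun Q hQ => (h.le Q).trans (by rw [max_eq_left hQ])) hn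
  have h' := h.inv hK
  have hn' : Module.finrank k⟮ℓ⁻¹⟯ K = n := by rw [finrank_adjoin_inv]; exact hn
  obtain ⟨q', hq'⟩ := exists_monic_rel hK h'.tr h'.gen
    (fun Q hQ => (h'.le Q).trans (by rw [max_eq_left hQ])) hn'
  have hq'' : t ^ n = ∑ j ∈ Finset.range n, (aeval ℓ⁻¹ (q' j) * ℓ ^ (n - j)) * t ^ j := by
    have h1 : (t * ℓ⁻¹) ^ n * ℓ ^ n =
        (∑ j ∈ Finset.range n, aeval ℓ⁻¹ (q' j) * (t * ℓ⁻¹) ^ j) * ℓ ^ n := by
      rw [← hq']
    rw [mul_pow, mul_assoc, inv_pow, inv_mul_cancel₀ (pow_ne_zero n hℓ0), mul_one,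
      Finset.sum_mul] at h1
    rw [h1]
    apply Finset.sum_congr rfl
    intro j hj
    rw [Finset.mem_range] at hj
    have e : ℓ ^ n = ℓ ^ (n - j) * ℓ ^ j := by rw [← pow_add, Nat.sub_add_cancel hj.le]
    rw [e, mul_pow, inv_pow]
    field_simp
  have hdiff : ∑ j ∈ Finset.range n,
      (aeval ℓ (q j) - aeval ℓ⁻¹ (q' j) * ℓ ^ (n - j)) * t ^ j = 0 := by
    simp only [sub_mul, Finset.sum_sub_distrib]
    rw [← hq, ← hq'', sub_self]
  have hℓmem : ℓ ∈ k⟮ℓ⟯ := mem_adjoin_simple_self k ℓ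
  have hmemF : ∀ j, aeval ℓ (q j) - aeval ℓ⁻¹ (q' j) * ℓ ^ (n - j) ∈ k⟮ℓ⟯ := by
    intro j
    refine sub_mem ?_ (mul_mem ?_ (pow_mem hℓmem _))
    · exact IntermediateField.algebra_adjoin_le_adjoin k _
        (Polynomial.aeval_mem_adjoin_singleton k ℓ)
    · rw [← adjoin_inv ℓ]
      exact IntermediateField.algebra_adjoin_le_adjoin k _
        (Polynomial.aeval_mem_adjoin_singleton k ℓ⁻¹)
  have heq := eq_zero_of_sum_pow_eq_zero h.adjoin_top hn hmemF hdiff
  obtain ⟨Q, hQ⟩ := exists_place_val_lt_one hK h'.tr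
  have hQℓ : 1 < Q.1 ℓ := by
    rw [map_inv₀] at hQ
    have hpos : 0 < Q.1 ℓ := zero_lt_iff.mpr ((Q.1.ne_zero_iff).mpr hℓ0)
    exact (inv_lt_one₀ hpos).mp hQ
  refine ⟨q, fun j hj => ?_, hq⟩
  by_cases hq0 : q j = 0
  · rw [hq0, natDegree_zero, zero_add]; exact hj.le
  have e1 : aeval ℓ (q j) = aeval ℓ⁻¹ (q' j) * ℓ ^ (n - j) := sub_eq_zero.mp (heq j hj)
  have e2 := congrArg Q.1 e1
  rw [val_aeval_of_one_lt Q hQℓ hq0, map_mul, map_pow] at e2
  have e3 : Q.1 ℓ ^ (q j).natDegree ≤ Q.1 ℓ ^ (n - j) := by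
    rw [e2]
    calc Q.1 (aeval ℓ⁻¹ (q' j)) * Q.1 ℓ ^ (n - j) ≤ 1 * Q.1 ℓ ^ (n - j) :=
          mul_le_mul' (val_aeval_le_one Q.1 Q.2.1 hQ.le (q' j)) le_rfl
      _ = Q.1 ℓ ^ (n - j) := one_mul _
  have e4 := (pow_le_pow_iff_right₀ hQℓ).mp e3
  omega

end Rel

section Filtration

/-- The monomials `ℓ^a t^b`, `b < n`. -/
def monoFam (ℓ t : K) (n : ℕ) : ℕ × Fin n → K := fun p => ℓ ^ p.1 * t ^ (p.2 : ℕ)

/-- The span of the monomials `ℓ^a t^b` with `b < n` and `a + b ≤ m`. -/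
def Wsp (k : Type*) {K : Type*} [Field k] [Field K] [Algebra k K] (ℓ t : K) (n m : ℕ) :
    Submodule k K :=
  Submodule.span k (monoFam ℓ t n '' {p | p.1 + (p.2 : ℕ) ≤ m})

variable {ℓ t : K} {n : ℕ}

theorem mono_mem_Wsp {m a b : ℕ} (hb : b < n) (hab : a + b ≤ m) :
    ℓ ^ a * t ^ b ∈ Wsp k ℓ t n m :=
  Submodule.subset_span ⟨(a, ⟨b, hb⟩), hab, rfl⟩

theorem Wsp_mono {m m' : ℕ} (h : m ≤ m') : Wsp k ℓ t n m ≤ Wsp k ℓ t n m' :=
  Submodule.span_mono (Set.image_mono fun _ hp => le_trans hp h)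

theorem Wsp_le_span_range (m : ℕ) :
    Wsp k ℓ t n m ≤ Submodule.span k (Set.range (monoFam ℓ t n)) :=
  Submodule.span_mono (Set.image_subset_range _ _)

theorem ell_mul_mem_Wsp {m : ℕ} {z : K} (hz : z ∈ Wsp k ℓ t n m) :
    ℓ * z ∈ Wsp k ℓ t n (m + 1) := by
  induction hz using Submodule.span_induction with
  | mem x hx =>
    obtain ⟨⟨a, b⟩, hab, rfl⟩ := hx
    have hab' : a + (b : ℕ) ≤ m := hab
    have e : ℓ * monoFam ℓ t n (a, b) = ℓ ^ (a + 1) * t ^ (b : ℕ) := by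
      unfold monoFam
      rw [pow_succ]
      ring
    rw [e]
    exact mono_mem_Wsp b.2 (by omega)
  | zero => rw [mul_zero]; exact zero_mem _
  | add x y _ _ hx hy => rw [mul_add]; exact add_mem hx hy
  | smul c x _ hx => rw [mul_smul_comm]; exact Submodule.smul_mem _ c hx

theorem pow_mul_aeval_mul_pow_mem {m a j : ℕ} (q : k[X]) (hj : j < n)
    (h : a + q.natDegree + j ≤ m) : ℓ ^ a * aeval ℓ q * t ^ j ∈ Wsp k ℓ t n m := by
  rw [aeval_eq_sum_range, Finset.mul_sum, Finset.sum_mul]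
  refine Submodule.sum_mem _ fun i hi => ?_
  rw [Finset.mem_range] at hi
  have e : ℓ ^ a * (q.coeff i • ℓ ^ i) * t ^ j = q.coeff i • (ℓ ^ (a + i) * t ^ j) := by
    rw [pow_add, mul_smul_comm, smul_mul_assoc]
  rw [e]
  exact Submodule.smul_mem _ _ (mono_mem_Wsp hj (by omega))

theorem t_mul_mem_Wsp {m : ℕ} {q : ℕ → k[X]} (hqd : ∀ j < n, (q j).natDegree + j ≤ n)
    (hq : t ^ n = ∑ j ∈ Finset.range n, aeval ℓ (q j) * t ^ j) {z : K}
    (hz : z ∈ Wsp k ℓ t n m) : t * z ∈ Wsp k ℓ t n (m + 1) := by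
  induction hz using Submodule.span_induction with
  | mem x hx =>
    obtain ⟨⟨a, b⟩, hab, rfl⟩ := hx
    have hab' : a + (b : ℕ) ≤ m := hab
    by_cases hb : (b : ℕ) + 1 < n
    · have e : t * monoFam ℓ t n (a, b) = ℓ ^ a * t ^ ((b : ℕ) + 1) := by
        unfold monoFam
        rw [pow_succ]
        ring
      rw [e]
      exact mono_mem_Wsp hb (by omega)
    · have hbn : (b : ℕ) + 1 = n := by have := b.2; omega
      have e0 : t ^ n = t ^ ((b : ℕ) + 1) := by rw [hbn]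
      have e : t * monoFam ℓ t n (a, b) =
          ∑ j ∈ Finset.range n, ℓ ^ a * aeval ℓ (q j) * t ^ j := by
        unfold monoFam
        have e1 : t * (ℓ ^ a * t ^ (b : ℕ)) = ℓ ^ a * t ^ n := by
          rw [e0, pow_succ]; ring
        show t * (ℓ ^ a * t ^ (b : ℕ)) = _
        rw [e1, hq, Finset.mul_sum]
        exact Finset.sum_congr rfl fun j _ => by ring
      rw [e]
      refine Submodule.sum_mem _ fun j hj => ?_
      rw [Finset.mem_range] at hj
      exact pow_mul_aeval_mul_pow_mem (q j) hj (by have := hqd j hj; omega)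
  | zero => rw [mul_zero]; exact zero_mem _
  | add x y _ _ hx hy => rw [mul_add]; exact add_mem hx hy
  | smul c x _ hx => rw [mul_smul_comm]; exact Submodule.smul_mem _ c hx

/-- Every element of `k[ℓ, t]` lies in some step of the filtration. -/
theorem exists_mem_Wsp_of_mem_adjoin (hn0 : 0 < n) {q : ℕ → k[X]}
    (hqd : ∀ j < n, (q j).natDegree + j ≤ n)
    (hq : t ^ n = ∑ j ∈ Finset.range n, aeval ℓ (q j) * t ^ j) {z : K}
    (hz : z ∈ Algebra.adjoin k ({ℓ, t} : Set K)) : ∃ m, z ∈ Wsp k ℓ t n m := by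
  have hrange : ({ℓ, t} : Set K) = Set.range ![ℓ, t] := by
    ext u
    constructor
    · rintro (rfl | hu)
      · exact ⟨0, rfl⟩
      · rw [Set.mem_singleton_iff] at hu
        exact ⟨1, hu.symm ▸ rfl⟩
    · rintro ⟨i, rfl⟩
      fin_cases i
      · exact Set.mem_insert _ _
      · exact Set.mem_insert_of_mem _ rfl
  rw [hrange, Algebra.adjoin_range_eq_range_aeval] at hz
  obtain ⟨p, rfl⟩ := hz
  induction p using MvPolynomial.induction_on with
  | C c =>
    refine ⟨0, ?_⟩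
    have e : (MvPolynomial.aeval ![ℓ, t]) (MvPolynomial.C c) = c • (ℓ ^ 0 * t ^ 0) := by
      rw [MvPolynomial.aeval_C, Algebra.algebraMap_eq_smul_one, pow_zero, pow_zero, mul_one]
    show (MvPolynomial.aeval ![ℓ, t]) (MvPolynomial.C c) ∈ _
    rw [e]
    exact Submodule.smul_mem _ _ (mono_mem_Wsp hn0 (le_refl _))
  | add p p' hp hp' =>
    obtain ⟨m, hm⟩ := hp
    obtain ⟨m', hm'⟩ := hp'
    refine ⟨max m m', ?_⟩
    show (MvPolynomial.aeval ![ℓ, t]) (p + p') ∈ _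
    rw [map_add]
    exact add_mem (Wsp_mono (le_max_left _ _) hm) (Wsp_mono (le_max_right _ _) hm')
  | mul_X p i hp =>
    obtain ⟨m, hm⟩ := hp
    refine ⟨m + 1, ?_⟩
    show (MvPolynomial.aeval ![ℓ, t]) (p * MvPolynomial.X i) ∈ _
    rw [map_mul, MvPolynomial.aeval_X, mul_comm]
    fin_cases i
    · exact ell_mul_mem_Wsp hm
    · exact t_mul_mem_Wsp hqd hq hm

theorem Wsp_le_L (hK : IsFunctionField k K) (h : IsPM k ℓ t) (n m : ℕ) :
    Wsp k ℓ t n m ≤ L (m • poleDiv k ℓ) := by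
  have hD : (0 : Divisor k K) ≤ poleDiv k ℓ := poleDiv_nonneg ℓ
  have hℓL : ℓ ∈ L (poleDiv k ℓ) := mem_L_poleDiv hK ℓ
  have htL : t ∈ L (poleDiv k ℓ) := h.mem_L hK
  apply Submodule.span_le.mpr
  rintro _ ⟨⟨a, b⟩, hab, rfl⟩
  have hab' : a + (b : ℕ) ≤ m := hab
  have h1 := mul_mem_L (pow_mem_L_nsmul hD hℓL a) (pow_mem_L_nsmul hD htL (b : ℕ))
  rw [← add_nsmul] at h1
  exact L_mono (nsmul_le_nsmul_left hD hab') h1

theorem linearIndependent_monoFam (hK : IsFunctionField k K) (h : IsPM k ℓ t)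
    (hn : Module.finrank k⟮ℓ⟯ K = n) : LinearIndependent k (monoFam ℓ t n) := by
  classical
  haveI hfd : FiniteDimensional k⟮ℓ⟯ K := finiteDimensional_of_transcendental hK h.tr
  have htop := h.adjoin_top
  have htint : IsIntegral k⟮ℓ⟯ t := IsIntegral.of_finite _ _
  have hnat : (minpoly k⟮ℓ⟯ t).natDegree = n := by
    rw [← IntermediateField.adjoin.finrank htint, htop, IntermediateField.finrank_top', hn]
  have hc : LinearIndependent k⟮ℓ⟯ fun i : Fin n => t ^ (i : ℕ) :=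
    (linearIndependent_pow t).comp (Fin.cast hnat.symm) (Fin.cast_injective _)
  have hgentr : Transcendental k (AdjoinSimple.gen k ℓ) := by
    intro halg
    apply h.tr
    have := halg.algebraMap (A := K)
    rwa [AdjoinSimple.algebraMap_gen] at this
  have hb : LinearIndependent k fun a : ℕ => (AdjoinSimple.gen k ℓ) ^ a := by
    have h1 := (Polynomial.basisMonomials k).linearIndependent.map'
      (Polynomial.aeval (AdjoinSimple.gen k ℓ)).toLinearMap
      (LinearMap.ker_eq_bot.mpr (transcendental_iff_injective.mp hgentr))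
    have e : (fun a : ℕ => (AdjoinSimple.gen k ℓ) ^ a) =
        (Polynomial.aeval (AdjoinSimple.gen k ℓ)).toLinearMap ∘ (Polynomial.basisMonomials k) := by
      funext a
      simp [Polynomial.coe_basisMonomials]
    rw [e]; exact h1
  have hprod := linearIndependent_smul hb hc
  have e : monoFam ℓ t n =
      fun p : ℕ × Fin n => (AdjoinSimple.gen k ℓ) ^ p.1 • t ^ (p.2 : ℕ) := by
    funext p
    rw [Algebra.smul_def, map_pow, AdjoinSimple.algebraMap_gen]
    rfl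
  rw [e]
  exact hprod

theorem two_mul_finrank_Wsp (hli : LinearIndependent k (monoFam ℓ t n)) {m : ℕ}
    (hnm : n ≤ m + 1) :
    2 * (Module.finrank k (Wsp k ℓ t n m) : ℤ) = 2 * (n : ℤ) * (m + 1) - n * (n - 1) := by
  classical
  let ι := Σ b : Fin n, Fin (m + 1 - (b : ℕ))
  let emb : ι → ℕ × Fin n := fun p => ((p.2 : ℕ), p.1)
  have hemb : Function.Injective emb := by
    rintro ⟨b, a⟩ ⟨b', a'⟩ h
    have h1 : b = b' := (Prod.ext_iff.mp h).2
    subst h1
    have h2 : (a : ℕ) = (a' : ℕ) := (Prod.ext_iff.mp h).1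
    rw [Fin.ext h2]
  have hset : monoFam ℓ t n '' {p | p.1 + (p.2 : ℕ) ≤ m} = Set.range (monoFam ℓ t n ∘ emb) := by
    ext z
    constructor
    · rintro ⟨⟨a, b⟩, hab, rfl⟩
      have hab' : a + (b : ℕ) ≤ m := hab
      exact ⟨⟨b, ⟨a, by omega⟩⟩, rfl⟩
    · rintro ⟨⟨b, a⟩, rfl⟩
      refine ⟨((a : ℕ), b), ?_, rfl⟩
      show (a : ℕ) + (b : ℕ) ≤ m
      have := a.2
      omega
  have hfr : Module.finrank k (Wsp k ℓ t n m) = Fintype.card ι := by
    unfold Wsp
    rw [hset]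
    exact finrank_span_eq_card (hli.comp emb hemb)
  have hcardι : Fintype.card ι = ∑ b : Fin n, (m + 1 - (b : ℕ)) := by
    rw [Fintype.card_sigma]
    exact Finset.sum_congr rfl (fun b _ => Fintype.card_fin _)
  rw [hfr, hcardι, Fin.sum_univ_eq_sum_range (fun i => m + 1 - i) n]
  push_cast [Nat.cast_sum]
  exact two_mul_sum_range_sub_int m n hnm

/-- Comparison: if `z` is a combination of the monomials and `z ℓ^s` has filtration degree
`≤ m + s`, then `z` has filtration degree `≤ m`. -/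
theorem mem_Wsp_of_mul_pow_mem (hli : LinearIndependent k (monoFam ℓ t n)) {z : K} {m s : ℕ}
    (hz : z ∈ Submodule.span k (Set.range (monoFam ℓ t n)))
    (hzs : z * ℓ ^ s ∈ Wsp k ℓ t n (m + s)) : z ∈ Wsp k ℓ t n m := by
  classical
  rw [← Set.image_univ, Finsupp.mem_span_image_iff_linearCombination] at hz
  obtain ⟨g, -, rfl⟩ := hz
  let shift : ℕ × Fin n → ℕ × Fin n := fun p => (p.1 + s, p.2)
  have hshift : Function.Injective shift := by
    rintro ⟨a, b⟩ ⟨a', b'⟩ h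
    have h1 : a + s = a' + s := (Prod.ext_iff.mp h).1
    have h2 : b = b' := (Prod.ext_iff.mp h).2
    rw [Prod.mk.injEq]
    exact ⟨by omega, h2⟩
  have hcomp : monoFam ℓ t n ∘ shift = fun p => monoFam ℓ t n p * ℓ ^ s := by
    funext p
    show ℓ ^ (p.1 + s) * t ^ (p.2 : ℕ) = ℓ ^ p.1 * t ^ (p.2 : ℕ) * ℓ ^ s
    rw [pow_add]; ring
  have hlc : Finsupp.linearCombination k (monoFam ℓ t n) (Finsupp.mapDomain shift g) =
      Finsupp.linearCombination k (monoFam ℓ t n) g * ℓ ^ s := by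
    rw [Finsupp.linearCombination_mapDomain, hcomp, Finsupp.linearCombination_apply,
      Finsupp.linearCombination_apply, Finsupp.sum, Finsupp.sum, Finset.sum_mul]
    exact Finset.sum_congr rfl fun p _ => by rw [smul_mul_assoc]
  unfold Wsp at hzs ⊢
  rw [Finsupp.mem_span_image_iff_linearCombination] at hzs ⊢
  obtain ⟨g', hg', hg'z⟩ := hzs
  rw [← hlc] at hg'z
  have hgg : g' = Finsupp.mapDomain shift g :=
    (linearIndependent_iff_injective_finsuppLinearCombination.mp hli) hg'z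
  refine ⟨g, ?_, rfl⟩
  rw [Finsupp.mem_supported] at hg' ⊢
  intro p hp
  have hp' : shift p ∈ (g'.support : Set _) := by
    rw [hgg]
    rw [Finset.mem_coe, Finsupp.mem_support_iff, Finsupp.mapDomain_apply hshift]
    exact Finsupp.mem_support_iff.mp hp
  have h1 := hg' hp'
  have h2 : p.1 + s + (p.2 : ℕ) ≤ m + s := h1
  show p.1 + (p.2 : ℕ) ≤ m
  omega

/-- From the chart at infinity back to the affine chart. -/
theorem mul_pow_mem_Wsp_of_inv (hℓ0 : ℓ ≠ 0) {N M : ℕ} (hNM : N ≤ M) {z : K}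
    (hz : z ∈ Wsp k ℓ⁻¹ (t * ℓ⁻¹) n N) : z * ℓ ^ M ∈ Wsp k ℓ t n M := by
  induction hz using Submodule.span_induction with
  | mem x hx =>
    obtain ⟨⟨a, b⟩, hab, rfl⟩ := hx
    have hab' : a + (b : ℕ) ≤ N := hab
    obtain ⟨c, hc⟩ : ∃ c, M = c + a + (b : ℕ) := ⟨M - a - (b : ℕ), by omega⟩
    have e : monoFam ℓ⁻¹ (t * ℓ⁻¹) n (a, b) * ℓ ^ M = ℓ ^ c * t ^ (b : ℕ) := by
      show ℓ⁻¹ ^ a * (t * ℓ⁻¹) ^ (b : ℕ) * ℓ ^ M = ℓ ^ c * t ^ (b : ℕ)
      rw [hc, pow_add, pow_add, mul_pow, inv_pow, inv_pow]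
      field_simp
    rw [e]
    exact mono_mem_Wsp b.2 (by omega)
  | zero => rw [zero_mul]; exact zero_mem _
  | add x y _ _ hx hy => rw [add_mul]; exact add_mem hx hy
  | smul c x _ hx => rw [smul_mul_assoc]; exact Submodule.smul_mem _ c hx

/-- Elements of filtration degree `≤ m`, divided by the `m`-th power of an entry of
`(1, ℓ, t)`, are polynomials in the ratios. -/
theorem div_pow_mem_adjoin_of_mem_Wsp {m : ℕ} (j : Fin 3) (hj : ![(1 : K), ℓ, t] j ≠ 0) {v : K}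
    (hv : v ∈ Wsp k ℓ t n m) :
    v / ![(1 : K), ℓ, t] j ^ m ∈
      Algebra.adjoin k (Set.range fun i => ![(1 : K), ℓ, t] i / ![(1 : K), ℓ, t] j) := by
  obtain ⟨φ, hφ⟩ : ∃ φ : Fin 3 → K, φ = ![(1 : K), ℓ, t] := ⟨_, rfl⟩
  rw [← hφ] at hj ⊢
  have h0 : φ 0 = 1 := by rw [hφ]; rfl
  have h1 : φ 1 = ℓ := by rw [hφ]; rfl
  have h2 : φ 2 = t := by rw [hφ]; rfl
  have hmem : ∀ i, φ i / φ j ∈ Algebra.adjoin k (Set.range fun i => φ i / φ j) := fun i =>
    Algebra.subset_adjoin ⟨i, rfl⟩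
  induction hv using Submodule.span_induction with
  | mem x hx =>
    obtain ⟨⟨a, b⟩, hab, rfl⟩ := hx
    have hab' : a + (b : ℕ) ≤ m := hab
    obtain ⟨c, hc⟩ : ∃ c, m = c + a + (b : ℕ) := ⟨m - a - (b : ℕ), by omega⟩
    have e : monoFam ℓ t n (a, b) / φ j ^ m =
        (φ 0 / φ j) ^ c * (φ 1 / φ j) ^ a * (φ 2 / φ j) ^ (b : ℕ) := by
      show ℓ ^ a * t ^ (b : ℕ) / φ j ^ m = _
      rw [h0, h1, h2, hc, pow_add, pow_add, div_pow, div_pow, div_pow, one_pow]
      field_simp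
    rw [e]
    exact mul_mem (mul_mem (pow_mem (hmem 0) c) (pow_mem (hmem 1) a)) (pow_mem (hmem 2) _)
  | zero => rw [zero_div]; exact zero_mem _
  | add x y _ _ hx hy => rw [add_div]; exact add_mem hx hy
  | smul c x _ hx => rw [smul_div_assoc]; exact Subalgebra.smul_mem _ hx c

end Filtration

end FunFld
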