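import Mathlib
import Groth.Agent.Lib.FunFldPM2_helper2

/-! Plane models (helper2), part 3: the genus formula `2g = (d-1)(d-2)` holds exactly for
nonsingular plane models. -/

open Module WithZero IntermediateField Polynomial

namespace FunFld

variable {k K : Type*} [Field k] [Field K] [Algebra k K]

section Main

variable {ℓ t : K} {n : ℕ}

theorem val_le_pow_of_mem_L (hK : IsFunctionField k K) (hℓ0 : ℓ ≠ 0) {m : ℕ} {z : K}
    (hz : z ∈ L (m • poleDiv k ℓ)) (Q : Place k K) : Q.1 z ≤ (max 1 (Q.1 ℓ)) ^ m := by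
  have h1 := (mem_L.mp hz) Q
  rw [Finsupp.smul_apply, exp_nsmul, exp_poleDiv hK hℓ0] at h1
  exact h1

/-- For a nonsingular plane model in general position, `L(mD)` consists of the polynomials of
degree at most `m` in `ℓ, t`. -/
theorem L_le_Wsp_of_nonsingular (hK : IsFunctionField k K) (h : IsPM k ℓ t)
    (hn : Module.finrank k⟮ℓ⟯ K = n)
    (hns : ∀ P : Place k K, IsNonsingularAt ![(1 : K), ℓ, t] P) (m : ℕ) :
    L (m • poleDiv k ℓ) ≤ Wsp k ℓ t n m := by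
  intro z hz
  have hℓ0 := h.ne_zero
  have hn0 : 0 < n := hn ▸ h.finrank_pos hK
  have h' := h.inv hK
  have hn' : Module.finrank k⟮ℓ⁻¹⟯ K = n := by rw [finrank_adjoin_inv]; exact hn
  obtain ⟨q, hqd, hq⟩ := exists_rel hK h hn
  obtain ⟨q', hqd', hq'⟩ := exists_rel hK h' hn'
  obtain ⟨φ, hφ⟩ : ∃ φ : Fin 3 → K, φ = ![(1 : K), ℓ, t] := ⟨_, rfl⟩
  have h0 : φ 0 = 1 := by rw [hφ]; rfl
  have h1 : φ 1 = ℓ := by rw [hφ]; rfl
  have h2 : φ 2 = t := by rw [hφ]; rfl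
  have hposv : ∀ Q : Place k K, 0 < Q.1 ℓ := fun Q =>
    zero_lt_iff.mpr ((Q.1.ne_zero_iff).mpr hℓ0)
  -- Step 1: `z ∈ k[ℓ, t]`
  have hzA : z ∈ Algebra.adjoin k ({ℓ, t} : Set K) := by
    apply mem_of_forall_locSub hK _ (exists_frac_of_adjoin_eq_top h.gen)
    · intro Q hQ z₁ hz₁
      have hQℓ : Q.1 ℓ ≤ 1 := hQ ℓ (Algebra.subset_adjoin (Set.mem_insert _ _))
      have hQt : Q.1 t ≤ 1 := hQ t (Algebra.subset_adjoin (Set.mem_insert_of_mem _ rfl))
      have hloc := hns Q z₁ hz₁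
      rw [← hφ] at hloc
      have hj : ∀ i, Q.1 (φ i) ≤ Q.1 (φ 0) := by
        intro i
        rw [h0, map_one]
        fin_cases i
        · show Q.1 (φ 0) ≤ 1
          rw [h0, map_one]
        · show Q.1 (φ 1) ≤ 1
          rw [h1]; exact hQℓ
        · show Q.1 (φ 2) ≤ 1
          rw [h2]; exact hQt
      have h3 := (inLocRing_iff φ Q 0 (by rw [h0]; exact one_ne_zero) hj z₁).mp hloc
      refine locSub_mono (Algebra.adjoin_le ?_) Q h3
      rintro _ ⟨i, rfl⟩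
      show φ i / φ 0 ∈ Algebra.adjoin k ({ℓ, t} : Set K)
      rw [h0, div_one]
      fin_cases i
      · show φ 0 ∈ _
        rw [h0]; exact one_mem _
      · show φ 1 ∈ _
        rw [h1]; exact Algebra.subset_adjoin (Set.mem_insert _ _)
      · show φ 2 ∈ _
        rw [h2]; exact Algebra.subset_adjoin (Set.mem_insert_of_mem _ rfl)
    · intro Q hQ
      have hQℓ : Q.1 ℓ ≤ 1 := hQ ℓ (Algebra.subset_adjoin (Set.mem_insert _ _))
      have h4 := val_le_pow_of_mem_L hK hℓ0 hz Q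
      rwa [max_eq_left hQℓ, one_pow] at h4
  -- Step 2: `z / ℓ^m ∈ k[1/ℓ, t/ℓ]`
  have hz'A : z * ℓ⁻¹ ^ m ∈ Algebra.adjoin k ({ℓ⁻¹, t * ℓ⁻¹} : Set K) := by
    apply mem_of_forall_locSub hK _ (exists_frac_of_adjoin_eq_top h'.gen)
    · intro Q hQ z₁ hz₁
      have hQu : Q.1 ℓ⁻¹ ≤ 1 := hQ _ (Algebra.subset_adjoin (Set.mem_insert _ _))
      have hQℓ : 1 ≤ Q.1 ℓ := by
        rw [map_inv₀] at hQu
        exact (inv_le_one₀ (hposv Q)).mp hQu
      have hQt : Q.1 t ≤ Q.1 ℓ := (h.le Q).trans (by rw [max_eq_right hQℓ])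
      have hloc := hns Q z₁ hz₁
      rw [← hφ] at hloc
      have hj : ∀ i, Q.1 (φ i) ≤ Q.1 (φ 1) := by
        intro i
        rw [h1]
        fin_cases i
        · show Q.1 (φ 0) ≤ _
          rw [h0, map_one]; exact hQℓ
        · show Q.1 (φ 1) ≤ _
          rw [h1]
        · show Q.1 (φ 2) ≤ _
          rw [h2]; exact hQt
      have h3 := (inLocRing_iff φ Q 1 (by rw [h1]; exact hℓ0) hj z₁).mp hloc
      refine locSub_mono (Algebra.adjoin_le ?_) Q h3
      rintro _ ⟨i, rfl⟩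
      show φ i / φ 1 ∈ Algebra.adjoin k ({ℓ⁻¹, t * ℓ⁻¹} : Set K)
      rw [h1]
      fin_cases i
      · show φ 0 / ℓ ∈ _
        rw [h0, one_div]; exact Algebra.subset_adjoin (Set.mem_insert _ _)
      · show φ 1 / ℓ ∈ _
        rw [h1, div_self hℓ0]; exact one_mem _
      · show φ 2 / ℓ ∈ _
        rw [h2, div_eq_mul_inv]; exact Algebra.subset_adjoin (Set.mem_insert_of_mem _ rfl)
    · intro Q hQ
      have hQu : Q.1 ℓ⁻¹ ≤ 1 := hQ _ (Algebra.subset_adjoin (Set.mem_insert _ _))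
      have hQℓ : 1 ≤ Q.1 ℓ := by
        rw [map_inv₀] at hQu
        exact (inv_le_one₀ (hposv Q)).mp hQu
      have h4 := val_le_pow_of_mem_L hK hℓ0 hz Q
      rw [max_eq_right hQℓ] at h4
      rw [map_mul, map_pow, map_inv₀, inv_pow]
      calc Q.1 z * (Q.1 ℓ ^ m)⁻¹ ≤ Q.1 ℓ ^ m * (Q.1 ℓ ^ m)⁻¹ := mul_le_mul' h4 le_rfl
        _ = 1 := mul_inv_cancel₀ (pow_ne_zero m (hposv Q).ne')
  -- Step 3
  obtain ⟨N, hN⟩ := exists_mem_Wsp_of_mem_adjoin hn0 hqd hq hzA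
  obtain ⟨N', hN'⟩ := exists_mem_Wsp_of_mem_adjoin hn0 hqd' hq' hz'A
  -- Step 4
  have h5 := mul_pow_mem_Wsp_of_inv hℓ0 (Nat.le_add_right N' m) hN'
  have e : z * ℓ⁻¹ ^ m * ℓ ^ (N' + m) = z * ℓ ^ N' := by
    rw [pow_add, inv_pow]
    field_simp
  rw [e, add_comm N' m] at h5
  exact mem_Wsp_of_mul_pow_mem (linearIndependent_monoFam hK h hn) (Wsp_le_span_range N hN) h5

/-- If `L(mD)` consists of polynomials of degree at most `m` in `ℓ, t` for all large `m`, the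
plane model is nonsingular. -/
theorem nonsingular_of_L_le_Wsp [IsAlgClosed k] (hK : IsFunctionField k K) (h : IsPM k ℓ t)
    (hn : Module.finrank k⟮ℓ⟯ K = n) {m₀ : ℕ}
    (hLW : ∀ m, m₀ ≤ m → L (m • poleDiv k ℓ) ≤ Wsp k ℓ t n m) (P : Place k K) :
    IsNonsingularAt ![(1 : K), ℓ, t] P := by
  classical
  intro z hz
  have hℓ0 := h.ne_zero
  have hn0 : 0 < n := hn ▸ h.finrank_pos hK
  obtain ⟨D, hD⟩ : ∃ D : Divisor k K, D = poleDiv k ℓ := ⟨_, rfl⟩
  obtain ⟨E, hE⟩ : ∃ E : Divisor k K, E = poleDiv k z := ⟨_, rfl⟩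
  have hDdeg : Divisor.deg D = n := by rw [hD, deg_poleDiv_eq hK h.tr, hn]
  have hEnn : 0 ≤ E := hE ▸ poleDiv_nonneg z
  have hEP : E P = 0 := by
    rw [hE, poleDiv_apply hK]
    by_cases hz0 : z = 0
    · rw [hz0, P.ord_zero]; simp
    · have := (P.ord_nonneg_iff hz0).mpr hz
      rw [max_eq_right (by omega)]
  obtain ⟨m, hm⟩ : ∃ m : ℕ, m = m₀ + (2 * (genus k K : ℤ) + Divisor.deg E).toNat := ⟨_, rfl⟩
  have hm₀ : m₀ ≤ m := by omega
  obtain ⟨F, hF⟩ : ∃ F : Divisor k K, F = m • D - E := ⟨_, rfl⟩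
  have hFdeg : 2 * (genus k K : ℤ) ≤ Divisor.deg F := by
    rw [hF, deg_sub, deg_nsmul, hDdeg]
    have h1 : (2 * (genus k K : ℤ) + Divisor.deg E) ≤
        ((2 * (genus k K : ℤ) + Divisor.deg E).toNat : ℤ) := Int.self_le_toNat _
    have h2 : (1 : ℤ) ≤ n := by exact_mod_cast hn0
    have h3 : ((m : ℕ) : ℤ) = m₀ + ((2 * (genus k K : ℤ) + Divisor.deg E).toNat : ℤ) := by
      rw [hm]; push_cast; ring
    have h4 : (0 : ℤ) ≤ m₀ := Int.natCast_nonneg _
    have h5 : (0 : ℤ) ≤ ((2 * (genus k K : ℤ) + Divisor.deg E).toNat : ℤ) :=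
      Int.natCast_nonneg _
    nlinarith
  obtain ⟨s, hsF, hs0, hsord⟩ := exists_mem_L_ord_eq hK hFdeg {P}
  have hsP : P.ord s = -(m * D P) := by
    rw [hsord P (Finset.mem_singleton_self P), hF, Finsupp.sub_apply, Finsupp.smul_apply, hEP,
      nsmul_eq_mul, sub_zero]
  have hsL : s ∈ L (m • D) := L_mono (by rw [hF]; exact sub_le_self _ hEnn) hsF
  have hszL : s * z ∈ L (m • D) := by
    have h1 := mul_mem_L hsF (hE ▸ mem_L_poleDiv hK z)
    rwa [hF, sub_add_cancel] at h1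
  rw [hD] at hsL hszL
  have hsW := hLW m hm₀ hsL
  have hszW := hLW m hm₀ hszL
  obtain ⟨φ, hφ⟩ : ∃ φ : Fin 3 → K, φ = ![(1 : K), ℓ, t] := ⟨_, rfl⟩
  have h0 : φ 0 = 1 := by rw [hφ]; rfl
  have h1 : φ 1 = ℓ := by rw [hφ]; rfl
  have h2 : φ 2 = t := by rw [hφ]; rfl
  have hexj : ∃ j, φ j ≠ 0 ∧ (∀ i, P.1 (φ i) ≤ P.1 (φ j)) ∧ P.1 (φ j) = max 1 (P.1 ℓ) := by
    rcases le_or_gt (P.1 ℓ) 1 with hle | hgt
    · refine ⟨0, by rw [h0]; exact one_ne_zero, ?_, by rw [h0, map_one, max_eq_left hle]⟩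
      intro i
      rw [h0, map_one]
      fin_cases i
      · show P.1 (φ 0) ≤ 1
        rw [h0, map_one]
      · show P.1 (φ 1) ≤ 1
        rw [h1]; exact hle
      · show P.1 (φ 2) ≤ 1
        rw [h2]; exact (h.le P).trans (by rw [max_eq_left hle])
    · refine ⟨1, by rw [h1]; exact hℓ0, ?_, by rw [h1, max_eq_right hgt.le]⟩
      intro i
      rw [h1]
      fin_cases i
      · show P.1 (φ 0) ≤ _
        rw [h0, map_one]; exact hgt.le
      · show P.1 (φ 1) ≤ _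
        rw [h1]
      · show P.1 (φ 2) ≤ _
        rw [h2]; exact (h.le P).trans (by rw [max_eq_right hgt.le])
  obtain ⟨j, hj0, hjP, hjv⟩ := hexj
  have hv1 := div_pow_mem_adjoin_of_mem_Wsp j (hφ ▸ hj0) hsW
  have hv2 := div_pow_mem_adjoin_of_mem_Wsp j (hφ ▸ hj0) hszW
  rw [← hφ] at hv1 hv2 ⊢
  refine ⟨j, hj0, hjP, s * z / φ j ^ m, hv2, s / φ j ^ m, hv1, ?_, by ring⟩
  rw [map_div₀, map_pow, hjv, ← exp_poleDiv hK hℓ0, ← hD, P.val_eq_exp_neg_ord hs0, hsP, neg_neg,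
    ← exp_nsmul, nsmul_eq_mul]
  exact div_self exp_ne_zero

theorem genus_formula_aux (hK : IsFunctionField k K) (h : IsPM k ℓ t)
    (hn : Module.finrank k⟮ℓ⟯ K = n) {m : ℕ} (hm1 : n ≤ m + 1)
    (hm2 : 2 * (genus k K : ℤ) - 1 ≤ m * n) :
    2 * ((ell (m • poleDiv k ℓ) : ℤ) - Module.finrank k (Wsp k ℓ t n m)) =
      ((n : ℤ) - 1) * (n - 2) - 2 * genus k K := by
  have hli := linearIndependent_monoFam hK h hn
  have h1 := two_mul_finrank_Wsp hli hm1
  have hdeg : Divisor.deg (m • poleDiv k ℓ) = m * n := by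
    rw [deg_nsmul, deg_poleDiv_eq hK h.tr, hn]
  have h2 := ell_eq_of_deg_ge hK (m • poleDiv k ℓ) (by rw [hdeg]; exact hm2)
  rw [hdeg] at h2
  rw [h2]
  linear_combination (-1 : ℤ) * h1

/-- The genus formula for a plane model in general position. -/
theorem genus_formula_iff_nonsingular [IsAlgClosed k] (hK : IsFunctionField k K)
    (h : IsPM k ℓ t) (hn : Module.finrank k⟮ℓ⟯ K = n) :
    2 * (genus k K : ℤ) = ((n : ℤ) - 1) * (n - 2) ↔
      ∀ P : Place k K, IsNonsingularAt ![(1 : K), ℓ, t] P := by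
  have hn0 : 0 < n := hn ▸ h.finrank_pos hK
  obtain ⟨g, hg⟩ : ∃ g : ℕ, g = genus k K := ⟨_, rfl⟩
  have hmbound : ∀ m : ℕ, 2 * g + n ≤ m →
      n ≤ m + 1 ∧ 2 * (genus k K : ℤ) - 1 ≤ m * n := by
    intro m hm
    refine ⟨by omega, ?_⟩
    rw [← hg]
    have h1 : (1 : ℤ) ≤ n := by exact_mod_cast hn0
    have h2 : (2 * g + n : ℤ) ≤ m := by exact_mod_cast hm
    have h3 : (0 : ℤ) ≤ g := Int.natCast_nonneg _
    nlinarith
  constructor
  · intro hgen P
    apply nonsingular_of_L_le_Wsp hK h hn (m₀ := 2 * g + n) _ P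
    intro m hm
    obtain ⟨hm1, hm2⟩ := hmbound m hm
    have h1 := genus_formula_aux hK h hn hm1 hm2
    rw [← hgen, sub_self] at h1
    have h2 : (ell (m • poleDiv k ℓ) : ℤ) = Module.finrank k (Wsp k ℓ t n m) := by linarith
    haveI := finiteDimensional_L hK (m • poleDiv k ℓ)
    have hle := Wsp_le_L hK h n m
    have heq : Wsp k ℓ t n m = L (m • poleDiv k ℓ) :=
      Submodule.eq_of_le_of_finrank_eq hle (by unfold ell at h2; exact_mod_cast h2.symm)
    rw [heq]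
  · intro hns
    obtain ⟨hm1, hm2⟩ := hmbound (2 * g + n) le_rfl
    have h1 := genus_formula_aux hK h hn hm1 hm2
    have hle := Wsp_le_L hK h n (2 * g + n)
    have hge := L_le_Wsp_of_nonsingular hK h hn hns (2 * g + n)
    have heq : Wsp k ℓ t n (2 * g + n) = L ((2 * g + n) • poleDiv k ℓ) := le_antisymm hle hge
    have h2 : (ell ((2 * g + n) • poleDiv k ℓ) : ℤ) =
        Module.finrank k (Wsp k ℓ t n (2 * g + n)) := by
      unfold ell; rw [heq]
    rw [h2, sub_self, mul_zero] at h1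
    linarith

end Main

section Plane

theorem span_triple_eq {x y ℓ : K} (c₀ c₁ c₂ : k)
    (hℓ : ℓ = c₀ • (1 : K) + c₁ • x + c₂ • y) (hc₂ : c₂ ≠ 0) :
    Submodule.span k (Set.range ![(1 : K), ℓ, x]) =
      Submodule.span k (Set.range ![(1 : K), x, y]) := by
  have m0 : (1 : K) ∈ Submodule.span k (Set.range ![(1 : K), x, y]) :=
    Submodule.subset_span ⟨0, rfl⟩
  have m1 : x ∈ Submodule.span k (Set.range ![(1 : K), x, y]) :=
    Submodule.subset_span ⟨1, rfl⟩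
  have m2 : y ∈ Submodule.span k (Set.range ![(1 : K), x, y]) :=
    Submodule.subset_span ⟨2, rfl⟩
  have n0 : (1 : K) ∈ Submodule.span k (Set.range ![(1 : K), ℓ, x]) :=
    Submodule.subset_span ⟨0, rfl⟩
  have n1 : ℓ ∈ Submodule.span k (Set.range ![(1 : K), ℓ, x]) :=
    Submodule.subset_span ⟨1, rfl⟩
  have n2 : x ∈ Submodule.span k (Set.range ![(1 : K), ℓ, x]) :=
    Submodule.subset_span ⟨2, rfl⟩
  apply le_antisymm
  · apply Submodule.span_le.mpr
    rintro _ ⟨i, rfl⟩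
    fin_cases i
    · exact m0
    · show ℓ ∈ _
      rw [hℓ]
      exact add_mem (add_mem (Submodule.smul_mem _ _ m0) (Submodule.smul_mem _ _ m1))
        (Submodule.smul_mem _ _ m2)
    · exact m1
  · apply Submodule.span_le.mpr
    rintro _ ⟨i, rfl⟩
    fin_cases i
    · exact n0
    · exact n2
    · show y ∈ _
      have e : y = c₂⁻¹ • (ℓ - c₀ • (1 : K) - c₁ • x) := by
        rw [hℓ]
        have : c₀ • (1 : K) + c₁ • x + c₂ • y - c₀ • (1 : K) - c₁ • x = c₂ • y := by abel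
        rw [this, inv_smul_smul₀ hc₂]
      rw [e]
      exact Submodule.smul_mem _ _ (sub_mem (sub_mem n1 (Submodule.smul_mem _ _ n0))
        (Submodule.smul_mem _ _ n2))

theorem span_swap (x y : K) :
    Submodule.span k (Set.range ![(1 : K), y, x]) =
      Submodule.span k (Set.range ![(1 : K), x, y]) := by
  apply le_antisymm
  · apply Submodule.span_le.mpr
    rintro _ ⟨i, rfl⟩
    fin_cases i
    · exact Submodule.subset_span ⟨0, rfl⟩
    · exact Submodule.subset_span ⟨2, rfl⟩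
    · exact Submodule.subset_span ⟨1, rfl⟩
  · apply Submodule.span_le.mpr
    rintro _ ⟨i, rfl⟩
    fin_cases i
    · exact Submodule.subset_span ⟨0, rfl⟩
    · exact Submodule.subset_span ⟨2, rfl⟩
    · exact Submodule.subset_span ⟨1, rfl⟩

variable [IsAlgClosed k]

omit [IsAlgClosed k] in
theorem isPM_of_generic (hK : IsFunctionField k K) (x y : K)
    (hxy : IntermediateField.adjoin k ({x, y} : Set K) = ⊤) (c₀ c₁ c₂ : k) (hc₂ : c₂ ≠ 0)
    (htr : Transcendental k (c₀ • (1 : K) + c₁ • x + c₂ • y))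
    (hdiv : poleDiv k (c₀ • (1 : K) + c₁ • x + c₂ • y) = mapDiv k ![(1 : K), x, y]) :
    IsPM k (c₀ • (1 : K) + c₁ • x + c₂ • y) x where
  tr := htr
  gen := adjoin_pair_eq_top_of_linear hxy c₀ c₁ c₂ rfl hc₂
  le := by
    intro Q
    have hℓ0 : c₀ • (1 : K) + c₁ • x + c₂ • y ≠ 0 := fun h0 => htr (h0 ▸ isAlgebraic_zero)
    have h1 := val_le_exp_mapDiv hK ![(1 : K), x, y] 1 Q
    rw [← hdiv, exp_poleDiv hK hℓ0] at h1
    exact h1

theorem plane_main_aux (hK : IsFunctionField k K) (x y : K)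
    (hxy : IntermediateField.adjoin k ({x, y} : Set K) = ⊤) (c₀ c₁ c₂ : k) (hc₂ : c₂ ≠ 0)
    (htr : Transcendental k (c₀ • (1 : K) + c₁ • x + c₂ • y))
    (hdiv : poleDiv k (c₀ • (1 : K) + c₁ • x + c₂ • y) = mapDiv k ![(1 : K), x, y]) :
    2 * (genus k K : ℤ) =
        (Divisor.deg (mapDiv k ![(1 : K), x, y]) - 1) *
          (Divisor.deg (mapDiv k ![(1 : K), x, y]) - 2) ↔
      ∀ P : Place k K, IsNonsingularAt ![(1 : K), x, y] P := by
  have hPM := isPM_of_generic hK x y hxy c₀ c₁ c₂ hc₂ htr hdiv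
  obtain ⟨ℓ, hℓ⟩ : ∃ ℓ : K, ℓ = c₀ • (1 : K) + c₁ • x + c₂ • y := ⟨_, rfl⟩
  rw [← hℓ] at hPM htr hdiv
  have hdeg : Divisor.deg (mapDiv k ![(1 : K), x, y]) = (Module.finrank k⟮ℓ⟯ K : ℤ) := by
    rw [← hdiv]; exact deg_poleDiv_eq hK htr
  rw [hdeg, genus_formula_iff_nonsingular hK hPM rfl]
  have hspan := span_triple_eq (k := k) c₀ c₁ c₂ hℓ hc₂
  constructor
  · intro h P
    exact isNonsingularAt_of_span_eq _ _ hspan P (h P)
  · intro h P
    exact isNonsingularAt_of_span_eq _ _ hspan.symm P (h P)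

/-- S11059: the genus formula `2g = (d-1)(d-2)` holds iff the plane model is nonsingular. -/
theorem plane_main (hK : IsFunctionField k K) (x y : K)
    (hxy : IntermediateField.adjoin k ({x, y} : Set K) = ⊤) :
    2 * (genus k K : ℤ) =
        (Divisor.deg (mapDiv k ![(1 : K), x, y]) - 1) *
          (Divisor.deg (mapDiv k ![(1 : K), x, y]) - 2) ↔
      ∀ P : Place k K, IsNonsingularAt ![(1 : K), x, y] P := by
  obtain ⟨c₀, c₁, c₂, htr, hdiv⟩ := exists_generic hK x y hxy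
  by_cases hc₂ : c₂ = 0
  · have hc₁ : c₁ ≠ 0 := by
      intro hc₁
      apply htr
      rw [hc₁, hc₂, zero_smul, zero_smul, add_zero, add_zero, ← Algebra.algebraMap_eq_smul_one]
      exact isAlgebraic_algebraMap _
    have e : c₀ • (1 : K) + c₁ • x + c₂ • y = c₀ • (1 : K) + (0 : k) • y + c₁ • x := by
      rw [hc₂, zero_smul, add_zero, add_zero]
    rw [e] at htr hdiv
    have hyx : IntermediateField.adjoin k ({y, x} : Set K) = ⊤ := by
      rw [Set.pair_comm]; exact hxy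
    have hmap : mapDiv k ![(1 : K), y, x] = mapDiv k ![(1 : K), x, y] :=
      mapDiv_eq_of_span_eq hK _ _ ⟨0, rfl⟩ ⟨0, rfl⟩ (span_swap x y)
    rw [← hmap] at hdiv ⊢
    rw [plane_main_aux hK y x hyx c₀ 0 c₁ hc₁ htr hdiv]
    constructor
    · intro h P
      exact isNonsingularAt_of_span_eq _ _ (span_swap x y) P (h P)
    · intro h P
      exact isNonsingularAt_of_span_eq _ _ (span_swap x y).symm P (h P)
  · exact plane_main_aux hK x y hxy c₀ c₁ c₂ hc₂ htr hdiv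

omit [IsAlgClosed k] in
theorem one_le_deg_mapDiv_plane [IsAlgClosed k] (hK : IsFunctionField k K) (x y : K)
    (hxy : IntermediateField.adjoin k ({x, y} : Set K) = ⊤) :
    ∃ d : ℕ, 0 < d ∧ Divisor.deg (mapDiv k ![(1 : K), x, y]) = d := by
  obtain ⟨c₀, c₁, c₂, htr, hdiv⟩ := exists_generic hK x y hxy
  haveI := finiteDimensional_of_transcendental hK htr
  refine ⟨Module.finrank k⟮c₀ • (1 : K) + c₁ • x + c₂ • y⟯ K, Module.finrank_pos, ?_⟩
  rw [← hdiv]
  exact deg_poleDiv_eq hK htr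

/-- S11060: the genus of a function field with a nonsingular plane model is a triangular
number. -/
theorem plane_triangular (hK : IsFunctionField k K)
    (h : ∃ x y : K, IntermediateField.adjoin k ({x, y} : Set K) = ⊤ ∧
      ∀ P : Place k K, IsNonsingularAt ![(1 : K), x, y] P) :
    ∃ m : ℕ, 2 * genus k K = m * (m + 1) := by
  obtain ⟨x, y, hxy, hns⟩ := h
  have h1 := (plane_main hK x y hxy).mpr hns
  obtain ⟨d, hd0, hd⟩ := one_le_deg_mapDiv_plane hK x y hxy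
  rw [hd] at h1
  by_cases hd1 : d = 1
  · refine ⟨0, ?_⟩
    rw [hd1] at h1
    have : (2 * (genus k K : ℤ)) = 0 := by rw [h1]; norm_num
    have h2 : genus k K = 0 := by omega
    rw [h2]
  · obtain ⟨m, hm⟩ : ∃ m : ℕ, d = m + 2 := ⟨d - 2, by omega⟩
    refine ⟨m, ?_⟩
    rw [hm] at h1
    have h2 : (2 * (genus k K : ℤ)) = (m : ℤ) * (m + 1) := by
      rw [h1]; push_cast; ring
    exact_mod_cast h2

end Plane

end FunFld
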