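import Mathlib
import Groth.Agent.Lib.FunFldPM3_helper2

/-! Plane models (helper2), part 4: the degree of a plane model is the total degree of its
equation. -/

open Module WithZero IntermediateField

namespace FunFld

variable {k K : Type*} [Field k] [Field K] [Algebra k K]

section Poly

open MvPolynomial

theorem totalDegree_aeval_le {σ τ : Type*} (g : σ → MvPolynomial τ k)
    (hg : ∀ i, (g i).totalDegree ≤ 1) (p : MvPolynomial σ k) :
    (aeval g p).totalDegree ≤ p.totalDegree := by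
  classical
  rw [aeval_def, eval₂_eq]
  apply totalDegree_finsetSum_le
  intro d hd
  refine (totalDegree_mul _ _).trans ?_
  have h1 : (algebraMap k (MvPolynomial τ k) (coeff d p)).totalDegree = 0 := by
    rw [MvPolynomial.algebraMap_eq]; exact totalDegree_C _
  rw [h1, zero_add]
  refine (totalDegree_finsetProd _ _).trans ?_
  have h2 : ∀ i ∈ d.support, ((g i) ^ d i).totalDegree ≤ d i := fun i _ =>
    (totalDegree_pow _ _).trans
      ((Nat.mul_le_mul_left (d i) (hg i)).trans_eq (mul_one _))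
  refine (Finset.sum_le_sum h2).trans ?_
  exact le_totalDegree hd

theorem totalDegree_eq_zero_of_isUnit {σ : Type*} {u : MvPolynomial σ k} (hu : IsUnit u) :
    u.totalDegree = 0 := by
  obtain ⟨v, hv⟩ := hu.exists_right_inv
  have hu0 : u ≠ 0 := hu.ne_zero
  have hv0 : v ≠ 0 := by
    rintro rfl
    rw [mul_zero] at hv
    exact zero_ne_one hv
  have h1 := totalDegree_mul_of_isDomain hu0 hv0
  rw [hv, totalDegree_one] at h1
  omega

theorem totalDegree_polynomial_aeval_X_le {σ : Type*} (i : σ) (p : Polynomial k) :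
    (Polynomial.aeval (X i : MvPolynomial σ k) p).totalDegree ≤ p.natDegree := by
  rw [Polynomial.aeval_eq_sum_range]
  apply totalDegree_finsetSum_le
  intro j hj
  rw [Finset.mem_range] at hj
  refine (totalDegree_smul_le _ _).trans ?_
  rw [totalDegree_X_pow]
  omega

/-- The affine substitution `X₀ ↦ X₀`, `X₁ ↦ a + b X₀ + c X₁`. -/
noncomputable def affMap (a b c : k) : MvPolynomial (Fin 2) k →ₐ[k] MvPolynomial (Fin 2) k :=
  aeval ![X 0, C a + C b * X 0 + C c * X 1]

theorem affMap_X0 (a b c : k) : affMap a b c (X 0) = X 0 := by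
  unfold affMap
  rw [aeval_X]
  rfl

theorem affMap_X1 (a b c : k) : affMap a b c (X 1) = C a + C b * X 0 + C c * X 1 := by
  unfold affMap
  rw [aeval_X]
  rfl

theorem affMap_comp (a b c a' b' c' : k) (h1 : a' + c' * a = 0) (h2 : b' + c' * b = 0)
    (h3 : c' * c = 1) : (affMap a b c).comp (affMap a' b' c') = AlgHom.id k _ := by
  apply MvPolynomial.algHom_ext
  intro i
  fin_cases i
  · show affMap a b c (affMap a' b' c' (X 0)) = X 0
    rw [affMap_X0, affMap_X0]
  · show affMap a b c (affMap a' b' c' (X 1)) = X 1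
    rw [affMap_X1, map_add, map_add, map_mul, map_mul, algHom_C, algHom_C, algHom_C, affMap_X0,
      affMap_X1, MvPolynomial.algebraMap_eq]
    have e1 : (C a' : MvPolynomial (Fin 2) k) + C c' * C a = 0 := by
      rw [← C_mul, ← C_add, h1, C_0]
    have e2 : (C b' : MvPolynomial (Fin 2) k) + C c' * C b = 0 := by
      rw [← C_mul, ← C_add, h2, C_0]
    have e3 : (C c' : MvPolynomial (Fin 2) k) * C c = 1 := by
      rw [← C_mul, h3, C_1]
    linear_combination e1 + (X 0) * e2 + (X 1) * e3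

theorem totalDegree_affMap_le (a b c : k) (p : MvPolynomial (Fin 2) k) :
    (affMap a b c p).totalDegree ≤ p.totalDegree := by
  unfold affMap
  apply totalDegree_aeval_le
  intro i
  fin_cases i
  · show (X 0 : MvPolynomial (Fin 2) k).totalDegree ≤ 1
    rw [totalDegree_X]
  · show (C a + C b * X 0 + C c * X 1 : MvPolynomial (Fin 2) k).totalDegree ≤ 1
    refine (totalDegree_add _ _).trans (max_le ((totalDegree_add _ _).trans (max_le ?_ ?_)) ?_)
    · rw [totalDegree_C]; exact zero_le_one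
    · refine (totalDegree_mul _ _).trans ?_
      rw [totalDegree_C, totalDegree_X]
    · refine (totalDegree_mul _ _).trans ?_
      rw [totalDegree_C, totalDegree_X]

theorem aeval_affMap (u v : K) (a b c : k) (p : MvPolynomial (Fin 2) k) :
    aeval ![u, v] (affMap a b c p) =
      aeval ![u, algebraMap k K a + algebraMap k K b * u + algebraMap k K c * v] p := by
  have h : (aeval ![u, v]).comp (affMap a b c) =
      aeval ![u, algebraMap k K a + algebraMap k K b * u + algebraMap k K c * v] := by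
    apply MvPolynomial.algHom_ext
    intro i
    fin_cases i
    · show aeval ![u, v] (affMap a b c (X 0)) = aeval ![u, _] (X 0)
      rw [affMap_X0, aeval_X, aeval_X]
      rfl
    · show aeval ![u, v] (affMap a b c (X 1)) = aeval ![u, _] (X 1)
      rw [affMap_X1, map_add, map_add, map_mul, map_mul, aeval_C, aeval_C, aeval_C, aeval_X,
        aeval_X, aeval_X]
      rfl
  exact DFunLike.congr_fun h p

/-- Evaluation of polynomials in `T` over `k[L]` at `(ℓ, t)`. -/
noncomputable def evT (ℓ t : K) : Polynomial (MvPolynomial (Fin 1) k) →ₐ[k] K :=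
  Polynomial.eval₂AlgHom (MvPolynomial.aeval fun _ : Fin 1 => ℓ) t (fun _ => Commute.all _ _)

theorem evT_apply (ℓ t : K) (p : Polynomial (MvPolynomial (Fin 1) k)) :
    evT ℓ t p = Polynomial.eval₂
      ((MvPolynomial.aeval fun _ : Fin 1 => ℓ : MvPolynomial (Fin 1) k →ₐ[k] K) :
        MvPolynomial (Fin 1) k →+* K) t p := rfl

theorem evT_finSuccEquiv (ℓ t : K) (G : MvPolynomial (Fin 2) k) :
    evT ℓ t (finSuccEquiv k 1 G) = aeval ![t, ℓ] G := by
  have h : (evT (k := k) ℓ t).comp (finSuccEquiv k 1).toAlgHom = aeval ![t, ℓ] := by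
    apply MvPolynomial.algHom_ext
    intro i
    fin_cases i
    · show evT ℓ t (finSuccEquiv k 1 (X 0)) = aeval ![t, ℓ] (X 0)
      rw [finSuccEquiv_X_zero, aeval_X, evT_apply, Polynomial.eval₂_X]
      rfl
    · show evT ℓ t (finSuccEquiv k 1 (X (Fin.succ 0))) = aeval ![t, ℓ] (X 1)
      rw [finSuccEquiv_X_succ, aeval_X, evT_apply, Polynomial.eval₂_C]
      show aeval (fun _ : Fin 1 => ℓ) (X 0) = _
      rw [aeval_X]
      rfl
  exact DFunLike.congr_fun h G

end Poly

section Kernel

open MvPolynomial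

variable {ℓ t : K} {n : ℕ}

/-- The kernel of evaluation at a plane model in general position is generated by a polynomial
of total degree `n = [K : k(ℓ)]`. -/
theorem exists_kernel_generator (hK : IsFunctionField k K) (h : IsPM k ℓ t)
    (hn : Module.finrank k⟮ℓ⟯ K = n) :
    ∃ M : MvPolynomial (Fin 2) k, M.totalDegree = n ∧ aeval ![t, ℓ] M = 0 ∧
      ∀ G : MvPolynomial (Fin 2) k, aeval ![t, ℓ] G = 0 → M ∣ G := by
  classical
  have hn0 : 0 < n := hn ▸ h.finrank_pos hK
  haveI hfd : FiniteDimensional k⟮ℓ⟯ K := finiteDimensional_of_transcendental hK h.tr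
  obtain ⟨q, hqd, hq⟩ := exists_rel hK h hn
  obtain ⟨M, hM⟩ : ∃ M : MvPolynomial (Fin 2) k,
      M = X 0 ^ n - ∑ j ∈ Finset.range n, Polynomial.aeval (X 1) (q j) * X 0 ^ j := ⟨_, rfl⟩
  -- the image in `k[L][T]`
  obtain ⟨S, hS⟩ : ∃ S : Polynomial (MvPolynomial (Fin 1) k),
      S = ∑ j ∈ Finset.range n,
        Polynomial.C (Polynomial.aeval (X 0 : MvPolynomial (Fin 1) k) (q j)) * Polynomial.X ^ j :=
    ⟨_, rfl⟩
  have hΦM : finSuccEquiv k 1 M = Polynomial.X ^ n + -S := by
    rw [hM, hS, map_sub, map_pow, finSuccEquiv_X_zero, map_sum, sub_eq_add_neg]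
    congr 2
    apply Finset.sum_congr rfl
    intro j _
    rw [map_mul, map_pow, finSuccEquiv_X_zero]
    congr 1
    have e1 : finSuccEquiv k 1 (Polynomial.aeval (X 1) (q j)) =
        Polynomial.aeval (finSuccEquiv k 1 (X 1)) (q j) :=
      (Polynomial.aeval_algHom_apply (finSuccEquiv k 1).toAlgHom (X 1) (q j)).symm
    have e2 : finSuccEquiv k 1 (X 1 : MvPolynomial (Fin 2) k) = Polynomial.C (X 0) :=
      finSuccEquiv_X_succ (j := (0 : Fin 1))
    rw [e1, e2]
    exact Polynomial.aeval_algHom_apply (Polynomial.CAlgHom (R := k)) (X 0) (q j)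
  have hSdeg : S.degree < n := by
    rw [hS]
    refine lt_of_le_of_lt (Polynomial.degree_sum_le _ _) ?_
    refine (Finset.sup_lt_iff (WithBot.bot_lt_coe n)).mpr ?_
    intro j hj
    rw [Finset.mem_range] at hj
    refine lt_of_le_of_lt (Polynomial.degree_C_mul_X_pow_le _ _) ?_
    exact WithBot.coe_lt_coe.mpr hj
  have hSdeg' : (-S).degree < n := by rw [Polynomial.degree_neg]; exact hSdeg
  have hmon : (finSuccEquiv k 1 M).Monic := by
    rw [hΦM]; exact Polynomial.monic_X_pow_add hSdeg'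
  have hnat : (finSuccEquiv k 1 M).natDegree = n := by
    rw [hΦM, Polynomial.natDegree_add_eq_left_of_degree_lt (by rw [Polynomial.degree_X_pow]; exact hSdeg'),
      Polynomial.natDegree_X_pow]
  -- total degree
  have hMle : M.totalDegree ≤ n := by
    rw [hM]
    refine (totalDegree_sub _ _).trans (max_le ?_ ?_)
    · rw [totalDegree_X_pow]
    · apply totalDegree_finsetSum_le
      intro j hj
      rw [Finset.mem_range] at hj
      refine (totalDegree_mul _ _).trans ?_
      rw [totalDegree_X_pow]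
      have h1 := totalDegree_polynomial_aeval_X_le (σ := Fin 2) (k := k) 1 (q j)
      have h2 := hqd j hj
      omega
  have hMge : n ≤ M.totalDegree := by
    rw [← hnat, natDegree_finSuccEquiv]
    exact degreeOf_le_totalDegree M 0
  -- vanishing
  have hM0 : aeval ![t, ℓ] M = 0 := by
    rw [hM, map_sub, map_pow, aeval_X, map_sum]
    have h3 : ∀ j ∈ Finset.range n,
        aeval ![t, ℓ] (Polynomial.aeval (X 1 : MvPolynomial (Fin 2) k) (q j) * X 0 ^ j) =
          Polynomial.aeval ℓ (q j) * t ^ j := by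
      intro j _
      rw [map_mul, map_pow, aeval_X,
        ← Polynomial.aeval_algHom_apply (aeval ![t, ℓ] : MvPolynomial (Fin 2) k →ₐ[k] K) (X 1) (q j),
        aeval_X]
      rfl
    rw [Finset.sum_congr rfl h3, ← hq]
    exact sub_self _
  refine ⟨M, le_antisymm hMle hMge, hM0, ?_⟩
  -- division
  intro G hG
  obtain ⟨r, hr⟩ : ∃ r, r = (finSuccEquiv k 1 G) %ₘ (finSuccEquiv k 1 M) := ⟨_, rfl⟩
  have hne1 : finSuccEquiv k 1 M ≠ 1 := by
    intro h1
    rw [h1, Polynomial.natDegree_one] at hnat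
    omega
  have hrdeg : r.natDegree < n := by
    rw [hr, ← hnat]
    exact Polynomial.natDegree_modByMonic_lt _ hmon hne1
  have hr0 : evT ℓ t r = 0 := by
    have h1 := Polynomial.modByMonic_add_div (finSuccEquiv k 1 G) (finSuccEquiv k 1 M)
    have h2 := congrArg (evT ℓ t) h1
    rw [map_add, map_mul, evT_finSuccEquiv, evT_finSuccEquiv, hM0, hG, zero_mul, add_zero,
      ← hr] at h2
    exact h2
  rw [evT_apply, Polynomial.eval₂_eq_sum_range' _ hrdeg] at hr0
  have hd : ∀ j, (aeval (fun _ : Fin 1 => ℓ) (r.coeff j) : K) ∈ k⟮ℓ⟯ := by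
    intro j
    have h1 : aeval (fun _ : Fin 1 => ℓ) (r.coeff j) ∈
        Algebra.adjoin k (Set.range fun _ : Fin 1 => ℓ) := by
      rw [Algebra.adjoin_range_eq_range_aeval]
      exact ⟨r.coeff j, rfl⟩
    rw [Set.range_const] at h1
    exact IntermediateField.algebra_adjoin_le_adjoin k _ h1
  have hcoef := eq_zero_of_sum_pow_eq_zero h.adjoin_top hn hd hr0
  have hinj : Function.Injective (aeval (fun _ : Fin 1 => ℓ) : MvPolynomial (Fin 1) k →ₐ[k] K) :=
    (algebraicIndependent_unique_type_iff (ι := Fin 1) (x := fun _ => ℓ)).mpr h.tr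
  have hrz : r = 0 := by
    ext j : 1
    rw [Polynomial.coeff_zero]
    by_cases hj : j < n
    · apply hinj
      rw [map_zero]
      exact hcoef j hj
    · exact Polynomial.coeff_eq_zero_of_natDegree_lt (by omega)
  rw [hr] at hrz
  obtain ⟨c, hc⟩ := (Polynomial.modByMonic_eq_zero_iff_dvd hmon).mp hrz
  refine ⟨(finSuccEquiv k 1).symm c, ?_⟩
  apply (finSuccEquiv k 1).injective
  rw [map_mul, AlgEquiv.apply_symm_apply]
  exact hc

theorem totalDegree_eq_of_isPM (hK : IsFunctionField k K) (h : IsPM k ℓ t)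
    (hn : Module.finrank k⟮ℓ⟯ K = n) (G : MvPolynomial (Fin 2) k) (hG : Irreducible G)
    (hG0 : aeval ![t, ℓ] G = 0) : G.totalDegree = n := by
  obtain ⟨M, hMd, hM0, hMdiv⟩ := exists_kernel_generator hK h hn
  obtain ⟨u, hu⟩ := hMdiv G hG0
  have hMu : ¬ IsUnit M := fun hunit => (hunit.map (aeval ![t, ℓ])).ne_zero hM0
  rcases hG.isUnit_or_isUnit hu with h1 | h1
  · exact absurd h1 hMu
  · have hG0' : G ≠ 0 := hG.ne_zero
    have hM0' : M ≠ 0 := by
      rintro rfl
      rw [zero_mul] at hu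
      exact hG0' hu
    rw [hu, totalDegree_mul_of_isDomain hM0' h1.ne_zero, hMd, totalDegree_eq_zero_of_isUnit h1,
      add_zero]

end Kernel

section Plane

open MvPolynomial

variable [IsAlgClosed k]

theorem deg_mapDiv_eq_totalDegree_aux (hK : IsFunctionField k K) (x y : K)
    (hxy : IntermediateField.adjoin k ({x, y} : Set K) = ⊤) (c₀ c₁ c₂ : k) (hc₂ : c₂ ≠ 0)
    (htr : Transcendental k (c₀ • (1 : K) + c₁ • x + c₂ • y))
    (hdiv : poleDiv k (c₀ • (1 : K) + c₁ • x + c₂ • y) = mapDiv k ![(1 : K), x, y])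
    (f : MvPolynomial (Fin 2) k) (hf : Irreducible f) (hfxy : aeval ![x, y] f = 0) :
    Divisor.deg (mapDiv k ![(1 : K), x, y]) = f.totalDegree := by
  have hPM := isPM_of_generic hK x y hxy c₀ c₁ c₂ hc₂ htr hdiv
  obtain ⟨ℓ, hℓ⟩ : ∃ ℓ : K, ℓ = c₀ • (1 : K) + c₁ • x + c₂ • y := ⟨_, rfl⟩
  rw [← hℓ] at hPM htr hdiv
  have hdeg : Divisor.deg (mapDiv k ![(1 : K), x, y]) = (Module.finrank k⟮ℓ⟯ K : ℤ) := by
    rw [← hdiv]; exact deg_poleDiv_eq hK htr
  rw [hdeg]
  -- the coordinate change
  have hστ : (affMap (-(c₂⁻¹ * c₀)) (-(c₂⁻¹ * c₁)) c₂⁻¹).comp (affMap c₀ c₁ c₂) =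
      AlgHom.id k _ := by
    apply affMap_comp
    · field_simp
      ring
    · field_simp
      ring
    · exact mul_inv_cancel₀ hc₂
  have hτσ : (affMap c₀ c₁ c₂).comp (affMap (-(c₂⁻¹ * c₀)) (-(c₂⁻¹ * c₁)) c₂⁻¹) =
      AlgHom.id k _ := by
    apply affMap_comp
    · ring
    · ring
    · exact inv_mul_cancel₀ hc₂
  obtain ⟨G, hG⟩ : ∃ G, G = affMap (-(c₂⁻¹ * c₀)) (-(c₂⁻¹ * c₁)) c₂⁻¹ f := ⟨_, rfl⟩
  have hfG : f = affMap c₀ c₁ c₂ G := by
    rw [hG]
    exact (DFunLike.congr_fun hτσ f).symm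
  have hGirr : Irreducible G := by
    have e := (MulEquiv.irreducible_iff (AlgEquiv.ofAlgHom _ _ hστ hτσ) (x := f)).mpr hf
    rw [hG]
    exact e
  have hc₂' : algebraMap k K c₂ ≠ 0 := fun h0 =>
    hc₂ ((map_eq_zero_iff _ (algebraMap k K).injective).mp h0)
  have hG0 : aeval ![x, ℓ] G = 0 := by
    rw [hG, aeval_affMap]
    have e : algebraMap k K (-(c₂⁻¹ * c₀)) + algebraMap k K (-(c₂⁻¹ * c₁)) * x +
        algebraMap k K c₂⁻¹ * ℓ = y := by
      rw [hℓ, Algebra.smul_def, Algebra.smul_def, Algebra.smul_def, map_neg, map_neg, map_mul,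
        map_mul, map_inv₀]
      field_simp
      ring
    rw [e]
    exact hfxy
  have h1 := totalDegree_eq_of_isPM hK hPM rfl G hGirr hG0
  have h2 : G.totalDegree ≤ f.totalDegree := hG ▸ totalDegree_affMap_le _ _ _ f
  have h3 : f.totalDegree ≤ G.totalDegree := hfG ▸ totalDegree_affMap_le _ _ _ G
  rw [← h1]
  exact_mod_cast le_antisymm h2 h3

/-- S11070: the degree of the plane model `(1 : x : y)` is the total degree of its
irreducible equation. -/
theorem deg_mapDiv_eq_totalDegree (hK : IsFunctionField k K) (x y : K)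
    (hxy : IntermediateField.adjoin k ({x, y} : Set K) = ⊤) (f : MvPolynomial (Fin 2) k)
    (hf : Irreducible f) (hfxy : aeval ![x, y] f = 0) :
    Divisor.deg (mapDiv k ![(1 : K), x, y]) = f.totalDegree := by
  obtain ⟨c₀, c₁, c₂, htr, hdiv⟩ := exists_generic hK x y hxy
  by_cases hc₂ : c₂ = 0
  · have hc₁ : c₁ ≠ 0 := by
      intro hc₁
      apply htr
      rw [hc₁, hc₂, zero_smul, zero_smul, add_zero, add_zero, ← Algebra.algebraMap_eq_smul_one]
      exact isAlgebraic_algebraMap _
    have e : c₀ • (1 : K) + c₁ • x + c₂ • y = c₀ • (1 : K) + (0 : k) • y + c₁ • x := by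
      rw [hc₂, zero_smul, add_zero, add_zero]
    rw [e] at htr hdiv
    have hyx : IntermediateField.adjoin k ({y, x} : Set K) = ⊤ := by
      rw [Set.pair_comm]; exact hxy
    have hmap : mapDiv k ![(1 : K), y, x] = mapDiv k ![(1 : K), x, y] :=
      mapDiv_eq_of_span_eq hK _ _ ⟨0, rfl⟩ ⟨0, rfl⟩ (span_swap x y)
    rw [← hmap] at hdiv ⊢
    obtain ⟨f', hf'⟩ : ∃ f', f' = renameEquiv k (Equiv.swap (0 : Fin 2) 1) f := ⟨_, rfl⟩
    have hf'irr : Irreducible f' := by
      rw [hf']
      exact (MulEquiv.irreducible_iff (renameEquiv k (Equiv.swap (0 : Fin 2) 1))).mpr hf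
    have hf'0 : aeval ![y, x] f' = 0 := by
      rw [hf', renameEquiv_apply, aeval_rename]
      have e2 : (![y, x] ∘ ⇑(Equiv.swap (0 : Fin 2) 1)) = ![x, y] := by
        funext i
        fin_cases i
        · show ![y, x] (Equiv.swap (0 : Fin 2) 1 0) = x
          rw [Equiv.swap_apply_left]; rfl
        · show ![y, x] (Equiv.swap (0 : Fin 2) 1 1) = y
          rw [Equiv.swap_apply_right]; rfl
      rw [e2]
      exact hfxy
    have h1 := deg_mapDiv_eq_totalDegree_aux hK y x hyx c₀ 0 c₁ hc₁ htr hdiv f' hf'irr hf'0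
    rw [h1, hf', totalDegree_renameEquiv]
  · exact deg_mapDiv_eq_totalDegree_aux hK x y hxy c₀ c₁ c₂ hc₂ htr hdiv f hf hfxy

end Plane

end FunFld
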