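import Mathlib
import Groth.Agent.Lib.FunFldJac3_helper2
import Groth.Agent.Lib.FunFldPM4_helper2

/-! Homogeneous ideals of plane curves (helper2): the ideal of a projective plane curve is
principal with an irreducible homogeneous generator. -/

open Module WithZero MvPolynomial

namespace FunFld

variable {k K : Type*} [Field k] [Field K] [Algebra k K]

section HomogD

variable {n : ℕ}

/-- Homogenization with respect to `X₀` in degree `d`. -/
noncomputable def homogD (d : ℕ) (G : MvPolynomial (Fin n) k) : MvPolynomial (Fin (n + 1)) k :=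
  ∑ e ∈ Finset.range (d + 1), X 0 ^ (d - e) * rename Fin.succ (homogeneousComponent e G)

theorem homogD_isHomogeneous (d : ℕ) (G : MvPolynomial (Fin n) k) :
    (homogD d G).IsHomogeneous d := by
  unfold homogD
  apply IsHomogeneous.sum
  intro e he
  have he' : e ≤ d := by
    have := Finset.mem_range.mp he
    omega
  have h1 : (X 0 ^ (d - e) : MvPolynomial (Fin (n + 1)) k).IsHomogeneous (d - e) :=
    isHomogeneous_X_pow 0 _
  have h2 : (rename Fin.succ (homogeneousComponent e G) :
      MvPolynomial (Fin (n + 1)) k).IsHomogeneous e :=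
    (homogeneousComponent_isHomogeneous e G).rename_isHomogeneous
  have h3 := h1.mul h2
  rwa [Nat.sub_add_cancel he'] at h3

theorem dehom_homogD {d : ℕ} {G : MvPolynomial (Fin n) k} (h : G.totalDegree ≤ d) :
    dehom k n (homogD d G) = G := by
  unfold homogD
  rw [map_sum]
  have e1 : ∑ e ∈ Finset.range (d + 1),
      dehom k n (X 0 ^ (d - e) * rename Fin.succ (homogeneousComponent e G)) =
      ∑ e ∈ Finset.range (d + 1), homogeneousComponent e G := by
    apply Finset.sum_congr rfl
    intro e _
    rw [map_mul, map_pow, dehom_X, dehomVar_zero, one_pow, one_mul, dehom_rename_succ]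
  rw [e1]
  have e2 : ∑ e ∈ Finset.range (G.totalDegree + 1), homogeneousComponent e G =
      ∑ e ∈ Finset.range (d + 1), homogeneousComponent e G := by
    apply Finset.sum_subset (Finset.range_mono (by omega))
    intro e _ he
    apply homogeneousComponent_eq_zero
    rw [Finset.mem_range] at he
    omega
  rw [← e2]
  exact sum_homogeneousComponent G

theorem totalDegree_dehom_le (F : MvPolynomial (Fin (n + 1)) k) :
    (dehom k n F).totalDegree ≤ F.totalDegree := by
  unfold dehom
  apply totalDegree_aeval_le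
  intro i
  refine Fin.cases ?_ (fun l => ?_) i
  · rw [dehomVar_zero, totalDegree_one]; exact zero_le_one
  · rw [dehomVar_succ, totalDegree_X]

theorem eq_zero_of_dehom_eq_zero [Infinite k] {F : MvPolynomial (Fin (n + 1)) k} {d : ℕ}
    (hF : F.IsHomogeneous d) (h : dehom k n F = 0) : F = 0 := by
  have h1 : X 0 * F = 0 := by
    apply MvPolynomial.funext
    intro p
    rw [map_mul, eval_X, map_zero]
    by_cases hp : p 0 = 0
    · rw [hp, zero_mul]
    · have e : p = fun i => p 0 * (p i / p 0) := by
        funext i; field_simp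
      have h2 : eval p F = p 0 ^ d * eval (fun i => p i / p 0) F := by
        conv_lhs => rw [e]
        have := aeval_scale_of_isHomogeneous (B := k) (fun i => p i / p 0) (p 0) hF
        rw [← coe_aeval_eq_eval, ← coe_aeval_eq_eval]
        exact this
      have e3 : (fun i => p i / p 0) =
          @Fin.cases n (fun _ => k) 1 (fun l => p l.succ / p 0) := by
        funext i
        refine Fin.cases ?_ (fun l => ?_) i
        · show p 0 / p 0 = 1
          exact div_self hp
        · rfl
      rw [h2, e3, ← eval_dehom, h, map_zero, mul_zero, mul_zero]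
  rcases mul_eq_zero.mp h1 with h2 | h2
  · exact absurd h2 (X_ne_zero 0)
  · exact h2

theorem eq_of_dehom_eq [Infinite k] {F G : MvPolynomial (Fin (n + 1)) k} {d : ℕ}
    (hF : F.IsHomogeneous d) (hG : G.IsHomogeneous d) (h : dehom k n F = dehom k n G) :
    F = G := by
  have h1 : dehom k n (F - G) = 0 := by rw [map_sub, h, sub_self]
  exact sub_eq_zero.mp (eq_zero_of_dehom_eq_zero (hF.sub hG) h1)

/-- The kernel of `Xᵢ ↦ φᵢ T` is a homogeneous ideal. -/
theorem homogeneousComponent_mem_ker {σ : Type*} (φ : σ → K) {F : MvPolynomial σ k}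
    (hF : aeval (fun i => Polynomial.C (φ i) * Polynomial.X) F = 0) (d : ℕ) :
    aeval (fun i => Polynomial.C (φ i) * Polynomial.X) (homogeneousComponent d F) = 0 := by
  by_cases hd : F.totalDegree < d
  · rw [homogeneousComponent_eq_zero _ _ hd, map_zero]
  · have h1 : ∑ e ∈ Finset.range (F.totalDegree + 1),
        Polynomial.C (aeval φ (homogeneousComponent e F)) * Polynomial.X ^ e = 0 := by
      refine Eq.trans ?_ hF
      have h0 := congrArg (aeval (fun i => Polynomial.C (φ i) * (Polynomial.X : Polynomial K)))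
        (sum_homogeneousComponent F)
      rw [map_sum] at h0
      rw [← h0]
      apply Finset.sum_congr rfl
      intro e _
      exact (aeval_C_mul_X_of_isHomogeneous φ (homogeneousComponent_isHomogeneous e F)).symm
    have h2 := congrArg (fun p => Polynomial.coeff p d) h1
    simp only [Polynomial.coeff_zero, Polynomial.finsetSum_coeff,
      Polynomial.coeff_C_mul_X_pow] at h2
    rw [Finset.sum_ite_eq, if_pos (Finset.mem_range.mpr (by omega))] at h2
    rw [aeval_C_mul_X_of_isHomogeneous φ (homogeneousComponent_isHomogeneous d F), h2, map_zero,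
      zero_mul]

end HomogD

section AffineGen

variable [IsAlgClosed k]

theorem exists_affine_generator_aux (hK : IsFunctionField k K) (x y : K)
    (hxy : IntermediateField.adjoin k ({x, y} : Set K) = ⊤) (c₀ c₁ c₂ : k) (hc₂ : c₂ ≠ 0)
    (htr : Transcendental k (c₀ • (1 : K) + c₁ • x + c₂ • y))
    (hdiv : poleDiv k (c₀ • (1 : K) + c₁ • x + c₂ • y) = mapDiv k ![(1 : K), x, y]) :
    ∃ h : MvPolynomial (Fin 2) k, h ≠ 0 ∧ ∀ G, aeval ![x, y] G = 0 ↔ h ∣ G := by
  have hPM := isPM_of_generic hK x y hxy c₀ c₁ c₂ hc₂ htr hdiv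
  obtain ⟨ℓ, hℓ⟩ : ∃ ℓ : K, ℓ = c₀ • (1 : K) + c₁ • x + c₂ • y := ⟨_, rfl⟩
  rw [← hℓ] at hPM
  obtain ⟨M, hMd, hM0, hMdiv⟩ := exists_kernel_generator hK hPM rfl
  have hMne : M ≠ 0 := by
    rintro rfl
    rw [totalDegree_zero] at hMd
    have := hPM.finrank_pos hK
    omega
  have hστ : (affMap (-(c₂⁻¹ * c₀)) (-(c₂⁻¹ * c₁)) c₂⁻¹).comp (affMap c₀ c₁ c₂) =
      AlgHom.id k _ := by
    apply affMap_comp
    · field_simp
      ring
    · field_simp
      ring
    · exact mul_inv_cancel₀ hc₂
  have hτσ : (affMap c₀ c₁ c₂).comp (affMap (-(c₂⁻¹ * c₀)) (-(c₂⁻¹ * c₁)) c₂⁻¹) =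
      AlgHom.id k _ := by
    apply affMap_comp
    · ring
    · ring
    · exact inv_mul_cancel₀ hc₂
  have hev : ∀ p, aeval ![x, y] (affMap c₀ c₁ c₂ p) = aeval ![x, ℓ] p := by
    intro p
    rw [aeval_affMap]
    have e : algebraMap k K c₀ + algebraMap k K c₁ * x + algebraMap k K c₂ * y = ℓ := by
      rw [hℓ, Algebra.smul_def, Algebra.smul_def, Algebra.smul_def, mul_one]
    rw [e]
  refine ⟨affMap c₀ c₁ c₂ M, ?_, ?_⟩
  · intro h0
    apply hMne
    have := DFunLike.congr_fun hστ M
    rw [AlgHom.comp_apply, h0, map_zero] at this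
    exact this.symm
  · intro G
    have hG : G = affMap c₀ c₁ c₂ (affMap (-(c₂⁻¹ * c₀)) (-(c₂⁻¹ * c₁)) c₂⁻¹ G) :=
      (DFunLike.congr_fun hτσ G).symm
    constructor
    · intro h
      rw [hG, hev] at h
      have h1 := hMdiv _ h
      rw [hG]
      exact map_dvd _ h1
    · rintro ⟨q, rfl⟩
      rw [map_mul, hev, hM0, zero_mul]

/-- The ideal of relations of a generating pair `x, y` is principal with irreducible
generator. -/
theorem exists_affine_generator (hK : IsFunctionField k K) (x y : K)
    (hxy : IntermediateField.adjoin k ({x, y} : Set K) = ⊤) :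
    ∃ h : MvPolynomial (Fin 2) k, Irreducible h ∧ ∀ G, aeval ![x, y] G = 0 ↔ h ∣ G := by
  have key : ∃ h : MvPolynomial (Fin 2) k, h ≠ 0 ∧ ∀ G, aeval ![x, y] G = 0 ↔ h ∣ G := by
    obtain ⟨c₀, c₁, c₂, htr, hdiv⟩ := exists_generic hK x y hxy
    by_cases hc₂ : c₂ = 0
    · have hc₁ : c₁ ≠ 0 := by
        intro hc₁
        apply htr
        rw [hc₁, hc₂, zero_smul, zero_smul, add_zero, add_zero, ← Algebra.algebraMap_eq_smul_one]
        exact isAlgebraic_algebraMap _
      have e : c₀ • (1 : K) + c₁ • x + c₂ • y = c₀ • (1 : K) + (0 : k) • y + c₁ • x := by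
        rw [hc₂, zero_smul, add_zero, add_zero]
      rw [e] at htr hdiv
      have hyx : IntermediateField.adjoin k ({y, x} : Set K) = ⊤ := by
        rw [Set.pair_comm]; exact hxy
      have hmap : mapDiv k ![(1 : K), y, x] = mapDiv k ![(1 : K), x, y] :=
        mapDiv_eq_of_span_eq hK _ _ ⟨0, rfl⟩ ⟨0, rfl⟩ (span_swap x y)
      rw [← hmap] at hdiv
      obtain ⟨h', hh'0, hh'⟩ := exists_affine_generator_aux hK y x hyx c₀ 0 c₁ hc₁ htr hdiv
      have e2 : (![y, x] ∘ ⇑(Equiv.swap (0 : Fin 2) 1)) = ![x, y] := by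
        funext i
        fin_cases i
        · show ![y, x] (Equiv.swap (0 : Fin 2) 1 0) = x
          rw [Equiv.swap_apply_left]; rfl
        · show ![y, x] (Equiv.swap (0 : Fin 2) 1 1) = y
          rw [Equiv.swap_apply_right]; rfl
      have hrr : ∀ G : MvPolynomial (Fin 2) k, rename (Equiv.swap (0 : Fin 2) 1)
          (rename (Equiv.swap (0 : Fin 2) 1) G) = G := by
        intro G
        rw [rename_rename]
        have e3 : (⇑(Equiv.swap (0 : Fin 2) 1) ∘ ⇑(Equiv.swap (0 : Fin 2) 1)) = id := by
          funext i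
          exact Equiv.swap_apply_self _ _ i
        rw [e3, rename_id_apply]
      refine ⟨rename (Equiv.swap (0 : Fin 2) 1) h', ?_, ?_⟩
      · intro h0
        apply hh'0
        have := congrArg (rename (Equiv.swap (0 : Fin 2) 1)) h0
        rw [hrr, map_zero] at this
        exact this
      · intro G
        have h1 : aeval ![x, y] G = aeval ![y, x] (rename (Equiv.swap (0 : Fin 2) 1) G) := by
          rw [aeval_rename, e2]
        rw [h1, hh']
        constructor
        · intro hd
          have := map_dvd (rename (Equiv.swap (0 : Fin 2) 1)) hd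
          rwa [hrr] at this
        · intro hd
          have := map_dvd (rename (Equiv.swap (0 : Fin 2) 1)) hd
          rwa [hrr] at this
    · exact exists_affine_generator_aux hK x y hxy c₀ c₁ c₂ hc₂ htr hdiv
  obtain ⟨h, hne, hh⟩ := key
  refine ⟨h, ?_, hh⟩
  have hspan : Ideal.span {h} =
      RingHom.ker (aeval ![x, y] : MvPolynomial (Fin 2) k →ₐ[k] K) := by
    ext G
    rw [Ideal.mem_span_singleton, RingHom.mem_ker, hh]
  have hprime : (Ideal.span {h}).IsPrime := by
    rw [hspan]; exact RingHom.ker_isPrime _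
  exact ((Ideal.span_singleton_prime hne).mp hprime).irreducible

end AffineGen

section ProjGen

variable [IsAlgClosed k]

/-- The ideal of homogeneous relations of a birational projective plane map is principal
with an irreducible homogeneous generator. -/
theorem exists_proj_generator (hK : IsFunctionField k K) (φ : Fin 3 → K) (hφ0 : φ 0 ≠ 0)
    (hbir : IntermediateField.adjoin k (Set.range fun i => φ i / φ 0) = ⊤) :
    ∃ f : MvPolynomial (Fin 3) k, Irreducible f ∧ f.IsHomogeneous f.totalDegree ∧
      RingHom.ker (aeval fun i => Polynomial.C (φ i) * Polynomial.X) = Ideal.span {f} := by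
  obtain ⟨x, hx⟩ : ∃ x : K, x = φ 1 / φ 0 := ⟨_, rfl⟩
  obtain ⟨y, hy⟩ : ∃ y : K, y = φ 2 / φ 0 := ⟨_, rfl⟩
  have hψ : (fun i => φ i / φ 0) = @Fin.cases 2 (fun _ => K) 1 ![x, y] := by
    funext i
    fin_cases i
    · show φ 0 / φ 0 = 1
      exact div_self hφ0
    · show φ 1 / φ 0 = x
      rw [hx]
    · show φ 2 / φ 0 = y
      rw [hy]
  have hxy : IntermediateField.adjoin k ({x, y} : Set K) = ⊤ := by
    rw [eq_top_iff, ← hbir]
    apply IntermediateField.adjoin_le_iff.mpr
    rintro _ ⟨i, rfl⟩
    fin_cases i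
    · show φ 0 / φ 0 ∈ _
      rw [div_self hφ0]
      exact one_mem _
    · apply IntermediateField.subset_adjoin
      left
      exact hx.symm
    · apply IntermediateField.subset_adjoin
      right
      exact hy.symm
  obtain ⟨h, hirr, hh⟩ := exists_affine_generator hK x y hxy
  have haev : ∀ F : MvPolynomial (Fin 3) k,
      aeval ![x, y] (dehom k 2 F) = aeval (fun l => φ l / φ 0) F := by
    intro F
    rw [aeval_dehom, hψ]
  obtain ⟨f, hf⟩ : ∃ f, f = homogD h.totalDegree h := ⟨_, rfl⟩
  have hfhom : f.IsHomogeneous h.totalDegree := hf ▸ homogD_isHomogeneous _ _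
  have hfde : dehom k 2 f = h := by
    rw [hf]
    exact dehom_homogD le_rfl
  have hfne : f ≠ 0 := by
    intro h0
    rw [h0, map_zero] at hfde
    exact hirr.ne_zero hfde.symm
  have hfdeg : f.totalDegree = h.totalDegree := hfhom.totalDegree hfne
  have hfker : aeval (fun i => Polynomial.C (φ i) * Polynomial.X) f = 0 := by
    rw [aeval_C_mul_X_eq_zero_iff φ 0 hφ0 hfhom, ← haev, hfde, hh]
  -- homogeneous elements of the kernel are multiples of `f`
  have hdvd_hom : ∀ (d : ℕ) (F : MvPolynomial (Fin 3) k), F.IsHomogeneous d →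
      aeval (fun i => Polynomial.C (φ i) * Polynomial.X) F = 0 → f ∣ F := by
    intro d F hFhom hF0
    by_cases hFne : F = 0
    · rw [hFne]
      exact dvd_zero _
    have h1 : aeval ![x, y] (dehom k 2 F) = 0 := by
      rw [haev, ← aeval_C_mul_X_eq_zero_iff φ 0 hφ0 hFhom]
      exact hF0
    obtain ⟨q, hq⟩ := (hh _).mp h1
    have hdF : dehom k 2 F ≠ 0 := fun h0 => hFne (eq_zero_of_dehom_eq_zero hFhom h0)
    have hq0 : q ≠ 0 := by
      rintro rfl
      rw [mul_zero] at hq
      exact hdF hq
    have hdeg : h.totalDegree + q.totalDegree ≤ d := by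
      have h2 := totalDegree_mul_of_isDomain hirr.ne_zero hq0
      rw [← hq] at h2
      have h3 := totalDegree_dehom_le F
      have h4 := hFhom.totalDegree_le
      omega
    obtain ⟨F', hF'⟩ : ∃ F', F' = f * homogD (d - h.totalDegree) q := ⟨_, rfl⟩
    have hF'hom : F'.IsHomogeneous d := by
      have h5 := hfhom.mul (homogD_isHomogeneous (d - h.totalDegree) q)
      rw [Nat.add_sub_cancel' (by omega)] at h5
      rw [hF']
      exact h5
    have hF'de : dehom k 2 F' = dehom k 2 F := by
      rw [hF', map_mul, hfde, dehom_homogD (by omega), hq]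
    have hFF' : F = F' := eq_of_dehom_eq hFhom hF'hom hF'de.symm
    rw [hFF', hF']
    exact dvd_mul_right _ _
  have hker : RingHom.ker (aeval fun i => Polynomial.C (φ i) * Polynomial.X) =
      Ideal.span {f} := by
    ext F
    rw [RingHom.mem_ker, Ideal.mem_span_singleton]
    constructor
    · intro hF
      rw [← sum_homogeneousComponent F]
      apply Finset.dvd_sum
      intro e _
      exact hdvd_hom e _ (homogeneousComponent_isHomogeneous e F)
        (homogeneousComponent_mem_ker φ hF e)
    · rintro ⟨q, rfl⟩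
      rw [map_mul, hfker, zero_mul]
  refine ⟨f, ?_, by rw [hfdeg]; exact hfhom, hker⟩
  have hprime : (Ideal.span {f}).IsPrime := by
    rw [← hker]
    exact RingHom.ker_isPrime _
  exact ((Ideal.span_singleton_prime hfne).mp hprime).irreducible

/-- An irreducible homogeneous relation generates the ideal of homogeneous relations. -/
theorem span_eq_ker_of_irreducible (hK : IsFunctionField k K) (φ : Fin 3 → K) (hφ0 : φ 0 ≠ 0)
    (hbir : IntermediateField.adjoin k (Set.range fun i => φ i / φ 0) = ⊤)
    (f : MvPolynomial (Fin 3) k) (hf : Irreducible f) {d : ℕ} (hhom : f.IsHomogeneous d)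
    (hfφ : aeval φ f = 0) :
    Ideal.span {f} = RingHom.ker (aeval fun i => Polynomial.C (φ i) * Polynomial.X) := by
  obtain ⟨f₀, hf₀, -, hker⟩ := exists_proj_generator hK φ hφ0 hbir
  have h1 : f ∈ RingHom.ker (aeval fun i => Polynomial.C (φ i) * Polynomial.X) := by
    rw [RingHom.mem_ker, aeval_C_mul_X_of_isHomogeneous φ hhom, hfφ, map_zero, zero_mul]
  rw [hker, Ideal.mem_span_singleton] at h1
  obtain ⟨u, hu⟩ := h1
  rcases hf.isUnit_or_isUnit hu with h2 | h2
  · exact absurd h2 hf₀.not_isUnit
  · rw [hker, hu, Ideal.span_singleton_mul_right_unit h2]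

/-- S11073. -/
theorem proj_plane_ideal_principal (hK : IsFunctionField k K) (x y : K)
    (hxy : IntermediateField.adjoin k ({x, y} : Set K) = ⊤) :
    ∃ f : MvPolynomial (Fin 3) k, Irreducible f ∧ f.IsHomogeneous f.totalDegree ∧
      RingHom.ker (MvPolynomial.aeval fun i =>
        Polynomial.C (![(1 : K), x, y] i) * Polynomial.X) = Ideal.span {f} := by
  apply exists_proj_generator hK ![(1 : K), x, y] (by show (1 : K) ≠ 0; exact one_ne_zero)
  rw [eq_top_iff, ← hxy]
  apply IntermediateField.adjoin_le_iff.mpr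
  rintro z (rfl | hz)
  · apply IntermediateField.subset_adjoin
    exact ⟨1, by show z / 1 = z; rw [div_one]⟩
  · rw [Set.mem_singleton_iff] at hz
    subst hz
    apply IntermediateField.subset_adjoin
    exact ⟨2, by show z / 1 = z; rw [div_one]⟩

end ProjGen

end FunFld
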