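import Mathlib
import Groth.Agent.Lib.FunFldJac4_helper2

/-! The Jacobian criterion for plane curves (helper2): a point of a projective plane curve is
singular iff all three partial derivatives vanish there. -/

open Module WithZero MvPolynomial

namespace FunFld

variable {k K : Type*} [Field k] [Field K] [Algebra k K]

section Aux

theorem coe_aeval_O {σ : Type*} (P : Place k K) (a : σ → P.O) (p : MvPolynomial σ k) :
    ((aeval a p : P.O) : K) = aeval (fun i => ((a i : P.O) : K)) p := by
  induction p using MvPolynomial.induction_on with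
  | C c => rw [aeval_C, aeval_C]; rfl
  | add p q hp hq => rw [map_add, map_add, ← hp, ← hq]; rfl
  | mul_X p i hp => rw [map_mul, map_mul, aeval_X, aeval_X, ← hp]; rfl

theorem residue_aeval_O {σ : Type*} (P : Place k K) (a : σ → P.O) (p : MvPolynomial σ k) :
    IsLocalRing.residue P.O (aeval a p) =
      aeval (fun i => IsLocalRing.residue P.O (a i)) p := by
  induction p using MvPolynomial.induction_on with
  | C c => rw [aeval_C, aeval_C]; rfl
  | add p q hp hq => rw [map_add, map_add, map_add, hp, hq]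
  | mul_X p i hp => rw [map_mul, map_mul, map_mul, aeval_X, aeval_X, hp]

theorem rank_one_by_two {F : Type*} [Field F] (N : Matrix (Fin 1) (Fin 2) F) :
    N.rank = 1 ↔ ¬ (N 0 0 = 0 ∧ N 0 1 = 0) := by
  constructor
  · rintro h ⟨h0, h1⟩
    have hN : N = 0 := by
      ext i l
      obtain rfl : i = 0 := Subsingleton.elim _ _
      fin_cases l
      · exact h0
      · exact h1
    rw [hN, Matrix.rank_zero] at h
    exact zero_ne_one h
  · intro h
    by_cases hp : N 0 0 = 0
    · have hq : N 0 1 ≠ 0 := fun hq => h ⟨hp, hq⟩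
      have h2 : N.rank = 2 - 1 := by
        refine rank_eq_of_ker_line N 0 ![1, 0] rfl ?_ ?_
        · intro i
          obtain rfl : i = 0 := Subsingleton.elim _ _
          rw [Fin.sum_univ_two, hp]
          simp
        · intro w hw l
          have h1 := hw 0
          rw [Fin.sum_univ_two, hp, zero_mul, zero_add] at h1
          have hw1 : w 1 = 0 := (mul_eq_zero.mp h1).resolve_left hq
          fin_cases l
          · simp
          · simp [hw1]
      exact h2
    · have h2 : N.rank = 2 - 1 := by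
        refine rank_eq_of_ker_line N 1 ![-(N 0 1 / N 0 0), 1] rfl ?_ ?_
        · intro i
          obtain rfl : i = 0 := Subsingleton.elim _ _
          rw [Fin.sum_univ_two]
          simp only [Matrix.cons_val_zero, Matrix.cons_val_one]
          field_simp
          ring
        · intro w hw l
          have h1 := hw 0
          rw [Fin.sum_univ_two] at h1
          have hw0 : w 0 = w 1 * -(N 0 1 / N 0 0) := by
            field_simp
            linear_combination h1
          fin_cases l
          · simpa using hw0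
          · simp
      exact h2

end Aux

section Main

variable [IsAlgClosed k]

theorem plane_singular_iff_zero (hK : IsFunctionField k K) (φ : Fin 3 → K)
    (hφ : LinearIndependent k φ)
    (hbir : IntermediateField.adjoin k (Set.range fun i => φ i / φ 0) = ⊤)
    (f : MvPolynomial (Fin 3) k) (hf : Irreducible f) {d : ℕ} (hhom : f.IsHomogeneous d)
    (hfφ : aeval φ f = 0) (P : Place k K)
    (hj : ∀ i, P.1 (φ i) ≤ P.1 (φ 0)) (a : Fin 3 → P.O)
    (ha : ∀ i, ((a i : P.O) : K) = φ i / φ 0) :
    ¬ IsNonsingularAt φ P ↔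
      ∀ l : Fin 3, aeval (fun i => IsLocalRing.residue P.O (a i)) (pderiv l f) = 0 := by
  have hφ0 : φ 0 ≠ 0 := hφ.ne_zero 0
  have hd : f.totalDegree = d := hhom.totalDegree hf.ne_zero
  have hgen : Ideal.span (Set.range fun _ : Fin 1 => f) =
      RingHom.ker (aeval fun i => Polynomial.C (φ i) * Polynomial.X) := by
    rw [Set.range_const]
    exact span_eq_ker_of_irreducible hK φ hφ0 hbir f hf hhom hfφ
  have haK : (fun i => ((a i : P.O) : K)) = fun l => φ l / φ 0 := funext ha
  obtain ⟨M, hMdef⟩ : ∃ M : Matrix (Fin 1) (Fin 2) P.O,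
      M = fun _ l => aeval a (pderiv l.succ f) := ⟨_, rfl⟩
  have hM : ∀ i l, ((M i l : P.O) : K) =
      aeval (fun l => φ l / φ 0) (pderiv l.succ ((fun _ : Fin 1 => f) i)) := by
    intro i l
    rw [hMdef, coe_aeval_O, haK]
  have hcrit := jacobian_criterion_proj hK (n := 2) (by norm_num) φ hφ hbir P hj
    (fun _ : Fin 1 => f) (fun _ => by rw [hd]; exact hhom) hgen M hM
  rw [hcrit, rank_one_by_two, not_not]
  obtain ⟨ā, hā⟩ : ∃ ā : Fin 3 → IsLocalRing.ResidueField P.O,
      ā = fun i => IsLocalRing.residue P.O (a i) := ⟨_, rfl⟩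
  rw [← hā]
  have hent : ∀ l : Fin 2, (M.map (IsLocalRing.residue P.O)) 0 l =
      aeval ā (pderiv l.succ f) := by
    intro l
    rw [Matrix.map_apply, hMdef, residue_aeval_O, hā]
  rw [hent 0, hent 1]
  have ha0 : ā 0 = 1 := by
    have h1 : a 0 = 1 := by
      apply Subtype.ext
      rw [ha 0, div_self hφ0]
      rfl
    rw [hā]
    show IsLocalRing.residue P.O (a 0) = 1
    rw [h1, map_one]
  have hfa : aeval a f = 0 := by
    apply Subtype.ext
    rw [coe_aeval_O, haK]
    have h1 : aeval (fun i => Polynomial.C (φ i) * Polynomial.X) f = 0 := by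
      rw [aeval_C_mul_X_of_isHomogeneous φ hhom, hfφ, map_zero, zero_mul]
    rw [(aeval_C_mul_X_eq_zero_iff φ 0 hφ0 hhom).mp h1]
    rfl
  have heuler : aeval ā (pderiv 0 f) + ā 1 * aeval ā (pderiv 1 f) +
      ā 2 * aeval ā (pderiv 2 f) = 0 := by
    have h1 := congrArg (aeval ā) hhom.sum_X_mul_pderiv
    have h2 : aeval ā f = 0 := by
      rw [hā, ← residue_aeval_O P a f, hfa, map_zero]
    rw [map_nsmul, h2, smul_zero, map_sum, Fin.sum_univ_three] at h1
    simp only [map_mul, aeval_X] at h1
    rw [ha0, one_mul] at h1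
    exact h1
  constructor
  · rintro ⟨h1, h2⟩ l
    have h1' : aeval ā (pderiv 1 f) = 0 := h1
    have h2' : aeval ā (pderiv 2 f) = 0 := h2
    fin_cases l
    · show aeval ā (pderiv 0 f) = 0
      rw [h1', h2', mul_zero, mul_zero, add_zero, add_zero] at heuler
      exact heuler
    · exact h1'
    · exact h2'
  · intro h
    exact ⟨h 1, h 2⟩

/-- S11072. -/
theorem plane_singular_iff (hK : IsFunctionField k K) (φ : Fin 3 → K)
    (hφ : LinearIndependent k φ)
    (hbir : IntermediateField.adjoin k (Set.range fun i => φ i / φ 0) = ⊤)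
    (f : MvPolynomial (Fin 3) k) (hf : Irreducible f) (hhom : f.IsHomogeneous f.totalDegree)
    (hfφ : aeval φ f = 0) (P : Place k K) (j : Fin 3)
    (hj : ∀ i, P.1 (φ i) ≤ P.1 (φ j)) (a : Fin 3 → P.O)
    (ha : ∀ i, ((a i : P.O) : K) = φ i / φ j) :
    ¬ IsNonsingularAt φ P ↔
      ∀ l : Fin 3, aeval (fun i => IsLocalRing.residue P.O (a i)) (pderiv l f) = 0 := by
  obtain ⟨σ, hσ⟩ : ∃ σ : Equiv.Perm (Fin 3), σ = Equiv.swap 0 j := ⟨_, rfl⟩
  have hσσ : ∀ i, σ (σ i) = i := fun i => by rw [hσ]; exact Equiv.swap_apply_self _ _ i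
  have hσ0 : σ 0 = j := by rw [hσ]; exact Equiv.swap_apply_left _ _
  have hφj : φ j ≠ 0 := hφ.ne_zero j
  have hφ0 : φ 0 ≠ 0 := hφ.ne_zero 0
  have hφ' : LinearIndependent k (φ ∘ σ) := hφ.comp σ σ.injective
  have hbir' : IntermediateField.adjoin k (Set.range fun i => (φ ∘ σ) i / (φ ∘ σ) 0) = ⊤ := by
    rw [eq_top_iff, ← hbir]
    apply IntermediateField.adjoin_le_iff.mpr
    rintro _ ⟨i, rfl⟩
    have h1 : ∀ i, φ i / φ j ∈
        IntermediateField.adjoin k (Set.range fun i => (φ ∘ σ) i / (φ ∘ σ) 0) := by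
      intro i
      apply IntermediateField.subset_adjoin
      refine ⟨σ i, ?_⟩
      show φ (σ (σ i)) / φ (σ 0) = φ i / φ j
      rw [hσσ, hσ0]
    have e : φ i / φ 0 = (φ i / φ j) / (φ 0 / φ j) := by
      field_simp
    show φ i / φ 0 ∈ _
    rw [e]
    exact div_mem (h1 i) (h1 0)
  have hf' : Irreducible (rename σ f) := by
    have h1 := (MulEquiv.irreducible_iff (renameEquiv k σ) (x := f)).mpr hf
    rwa [renameEquiv_apply] at h1
  have hhom' : (rename σ f).IsHomogeneous f.totalDegree := hhom.rename_isHomogeneous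
  have hfφ' : aeval (φ ∘ σ) (rename σ f) = 0 := by
    rw [aeval_rename]
    have e : (φ ∘ σ) ∘ σ = φ := by
      funext i
      show φ (σ (σ i)) = φ i
      rw [hσσ]
    rw [e]
    exact hfφ
  have hj' : ∀ i, P.1 ((φ ∘ σ) i) ≤ P.1 ((φ ∘ σ) 0) := by
    intro i
    show P.1 (φ (σ i)) ≤ P.1 (φ (σ 0))
    rw [hσ0]
    exact hj _
  have ha' : ∀ i, (((a ∘ σ) i : P.O) : K) = (φ ∘ σ) i / (φ ∘ σ) 0 := by
    intro i
    show ((a (σ i) : P.O) : K) = φ (σ i) / φ (σ 0)
    rw [hσ0]
    exact ha _
  have hmain := plane_singular_iff_zero hK (φ ∘ σ) hφ' hbir' (rename σ f) hf' hhom' hfφ' P hj'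
    (a ∘ σ) ha'
  have hrange : Set.range (φ ∘ σ) = Set.range φ := σ.surjective.range_comp φ
  have hns : IsNonsingularAt (φ ∘ σ) P ↔ IsNonsingularAt φ P :=
    ⟨isNonsingularAt_of_span_eq _ _ (by rw [hrange]) P,
      isNonsingularAt_of_span_eq _ _ (by rw [hrange]) P⟩
  rw [← hns, hmain]
  have hkey : ∀ x : Fin 3,
      aeval (fun i => IsLocalRing.residue P.O ((a ∘ σ) i)) (pderiv (σ x) (rename σ f)) =
        aeval (fun i => IsLocalRing.residue P.O (a i)) (pderiv x f) := by
    intro x
    rw [pderiv_rename σ.injective, aeval_rename]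
    have e : (fun i => IsLocalRing.residue P.O ((a ∘ σ) i)) ∘ σ =
        fun i => IsLocalRing.residue P.O (a i) := by
      funext i
      show IsLocalRing.residue P.O (a (σ (σ i))) = _
      rw [hσσ]
    rw [e]
  constructor
  · intro h x
    rw [← hkey x]
    exact h (σ x)
  · intro h l
    have h1 := hkey (σ l)
    rw [hσσ] at h1
    rw [h1]
    exact h (σ l)

end Main

end FunFld
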