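import Mathlib
import Groth.Agent.Lib.FunFldJac5_helper2
import Groth.Agent.Lib.FunFldLocD_helper2

/-! Intersection multiplicities on plane curves (helper2), part 1: linear algebra of relative
quotients and semilocal spaces `L_S(D)`. -/

open Module WithZero

namespace FunFld

variable {k K : Type*} [Field k] [Field K] [Algebra k K]

section RelQ

variable {V : Type*} [AddCommGroup V] [Module k V]

theorem relQ_finite_of_le (A B C : Submodule k V) (hBC : B ≤ C) (hAB : A ≤ B)
    [FiniteDimensional k (relQ A C)] :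
    FiniteDimensional k (relQ A B) ∧ FiniteDimensional k (relQ B C) := by
  constructor
  · let g : ↥B →ₗ[k] relQ A C :=
      (Submodule.comap C.subtype A).mkQ.comp (Submodule.inclusion hBC)
    have hker : LinearMap.ker g = Submodule.comap B.subtype A := by
      ext b
      rw [LinearMap.mem_ker, Submodule.mem_comap]
      show (Submodule.comap C.subtype A).mkQ (Submodule.inclusion hBC b) = 0 ↔ _
      rw [Submodule.mkQ_apply, Submodule.Quotient.mk_eq_zero]
      rfl
    have e : relQ A B ≃ₗ[k] LinearMap.range g :=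
      (Submodule.quotEquivOfEq _ _ hker.symm).trans g.quotKerEquivRange
    exact Module.Finite.equiv e.symm
  · have hq : Submodule.comap C.subtype A ≤ Submodule.comap C.subtype B :=
      Submodule.comap_mono hAB
    exact Module.Finite.of_surjective (Submodule.factor hq) (Submodule.factor_surjective hq)

theorem relQ_map_equiv (m : V →ₗ[k] V) (hm : Function.Injective m) (A B : Submodule k V) :
    Nonempty (relQ A B ≃ₗ[k] relQ (A.map m) (B.map m)) := by
  let f : ↥B →ₗ[k] relQ (A.map m) (B.map m) :=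
    (Submodule.comap (B.map m).subtype (A.map m)).mkQ.comp
      (LinearMap.codRestrict (B.map m) (m.comp B.subtype)
        (fun b => Submodule.mem_map_of_mem b.2))
  have hf : Function.Surjective f := by
    intro y
    obtain ⟨⟨c, hc⟩, rfl⟩ := Submodule.mkQ_surjective _ y
    obtain ⟨b, hb, hbc⟩ := hc
    refine ⟨⟨b, hb⟩, ?_⟩
    show (Submodule.comap (B.map m).subtype (A.map m)).mkQ _ =
      (Submodule.comap (B.map m).subtype (A.map m)).mkQ _
    congr 1
    exact Subtype.ext hbc
  have hker : LinearMap.ker f = Submodule.comap B.subtype A := by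
    ext b
    rw [LinearMap.mem_ker, Submodule.mem_comap]
    show (Submodule.comap (B.map m).subtype (A.map m)).mkQ _ = 0 ↔ _
    rw [Submodule.mkQ_apply, Submodule.Quotient.mk_eq_zero, Submodule.mem_comap]
    show m (b : V) ∈ A.map m ↔ (b : V) ∈ A
    constructor
    · rintro ⟨a, ha, hab⟩
      rw [← hm hab]
      exact ha
    · intro h
      exact Submodule.mem_map_of_mem h
  exact ⟨relQEquivOfSurjective A B f hf hker⟩

/-- The key dimension count: if `C ≤ B ≤ R`, all stable under an injective endomorphism `m`,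
and `R / m C` is finite-dimensional, then `dim B / m B = dim R / m R`. -/
theorem finrank_relQ_mul_eq (m : V →ₗ[k] V) (hm : Function.Injective m)
    (Cc B Rt zC zR : Submodule k V) (hzC : Cc.map m = zC) (hzR : Rt.map m = zR)
    (hCB : Cc ≤ B) (hBR : B ≤ Rt) (hzBB : B.map m ≤ B) (hzRR : zR ≤ Rt)
    [FiniteDimensional k (relQ zC Rt)] :
    Module.finrank k (relQ (B.map m) B) = Module.finrank k (relQ zR Rt) := by
  subst hzC hzR
  have hzCzB : Cc.map m ≤ B.map m := Submodule.map_mono hCB
  have hzBzR : B.map m ≤ Rt.map m := Submodule.map_mono hBR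
  have hzBR : B.map m ≤ Rt := hzBB.trans hBR
  obtain ⟨-, h2⟩ := relQ_finite_of_le (Cc.map m) (B.map m) Rt hzBR hzCzB
  haveI := h2
  obtain ⟨h3, h4⟩ := relQ_finite_of_le (B.map m) B Rt hBR hzBB
  haveI := h3
  haveI := h4
  obtain ⟨h5, h6⟩ := relQ_finite_of_le (B.map m) (Rt.map m) Rt hzRR hzBzR
  haveI := h5
  haveI := h6
  obtain ⟨-, t1⟩ := relQ_tower (B.map m) B Rt hzBB hBR
  obtain ⟨-, t2⟩ := relQ_tower (B.map m) (Rt.map m) Rt hzBzR hzRR
  obtain ⟨e⟩ := relQ_map_equiv m hm B Rt
  have t3 := e.finrank_eq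
  omega

end RelQ

section LSlemmas

theorem LS_map_mul (S : Finset (Place k K)) (D : Divisor k K) {z : K} (hz : z ≠ 0)
    (E : Divisor k K) (hE : ∀ Q ∈ S, E Q = Q.ord z) :
    (LS S D).map (LinearMap.mulLeft k z) = LS S (D - E) := by
  ext u
  rw [Submodule.mem_map]
  constructor
  · rintro ⟨v, hv, rfl⟩ Q hQ
    show Q.1 (z * v) ≤ exp ((D - E) Q)
    rw [map_mul, Finsupp.sub_apply, hE Q hQ, Q.val_eq_exp_neg_ord hz, sub_eq_add_neg, exp_add,
      mul_comm]
    exact mul_le_mul' (hv Q hQ) le_rfl
  · intro hu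
    refine ⟨z⁻¹ * u, fun Q hQ => ?_, ?_⟩
    · have h1 := hu Q hQ
      rw [Finsupp.sub_apply, hE Q hQ] at h1
      have e : (Q.1 z)⁻¹ = exp (Q.ord z) := by
        rw [Q.val_eq_exp_neg_ord hz, exp_neg, inv_inv]
      rw [map_mul, map_inv₀, e]
      calc exp (Q.ord z) * Q.1 u ≤ exp (Q.ord z) * exp (D Q - Q.ord z) :=
            mul_le_mul' le_rfl h1
        _ = exp (D Q) := by
            rw [← exp_add]
            congr 1
            ring
    · show z * (z⁻¹ * u) = u
      field_simp

/-- The divisor `∑_{Q ∈ S} ord_Q(z) Q`. -/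
noncomputable def ordDivOn (S : Finset (Place k K)) (z : K) : Divisor k K :=
  ∑ Q ∈ S, Finsupp.single Q (Q.ord z)

open scoped Classical in
theorem ordDivOn_apply (S : Finset (Place k K)) (z : K) (Q : Place k K) :
    ordDivOn S z Q = if Q ∈ S then Q.ord z else 0 := by
  classical
  unfold ordDivOn
  rw [Finsupp.finsetSum_apply]
  simp only [Finsupp.single_apply]
  rw [Finset.sum_ite_eq' S Q]

theorem deg_ordDivOn [IsAlgClosed k] (hK : IsFunctionField k K) (S : Finset (Place k K))
    (z : K) : Divisor.deg (ordDivOn S z) = ∑ Q ∈ S, Q.ord z := by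
  unfold ordDivOn
  rw [deg_eq_degAddHomH, map_sum]
  apply Finset.sum_congr rfl
  intro Q _
  rw [← deg_eq_degAddHomH, deg_single, Place.deg_eq_one hK Q]
  norm_num

theorem relQ_LS (hK : IsFunctionField k K) (S : Finset (Place k K)) (D E : Divisor k K)
    (hE : 0 ≤ E) (hsupp : ∀ Q, E Q ≠ 0 → Q ∈ S) :
    LS S D ≤ LS S (D + E) ∧ FiniteDimensional k (relQ (LS S D) (LS S (D + E))) ∧
      (Module.finrank k (relQ (LS S D) (LS S (D + E))) : ℤ) = Divisor.deg E :=
  relQ_chain (LS S) (↑S) (fun D P hP => LS_step hK S D P (Finset.mem_coe.mp hP)) E hE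
    (fun P hP => Finset.mem_coe.mpr (hsupp P hP)) D

end LSlemmas

end FunFld
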