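import Mathlib
import Groth.Agent.Lib.FunFldIM1_helper2

/-! Intersection multiplicities on plane curves (helper2), part 2: the places over a finite
point of a plane curve, and the conductor of its local ring. -/

open Module WithZero

namespace FunFld

variable {k K : Type*} [Field k] [Field K] [Algebra k K]

section Centered

theorem commonRes_of_mem_adjoin_centered {P Q : Place k K} {n : ℕ} {u : Fin n → K}
    {c : Fin n → k} (hP : ∀ i, P.1 (u i - algebraMap k K (c i)) < 1)
    (hQ : ∀ i, Q.1 (u i - algebraMap k K (c i)) < 1)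
    {a : K} (ha : a ∈ Algebra.adjoin k (Set.range u)) : CommonRes P Q a :=
  commonRes_of_mem_adjoin (by rintro _ ⟨i, rfl⟩; exact ⟨c i, hP i, hQ i⟩) ha

theorem val_of_mem_locSub_centered {P Q : Place k K} {n : ℕ} {u : Fin n → K}
    {c : Fin n → k} (hP : ∀ i, P.1 (u i - algebraMap k K (c i)) < 1)
    (hQ : ∀ i, Q.1 (u i - algebraMap k K (c i)) < 1)
    {b : K} (hb : b ∈ locSub (Algebra.adjoin k (Set.range u)) P) :
    Q.1 b ≤ 1 ∧ (Q.1 b < 1 ↔ P.1 b < 1) := by
  obtain ⟨a, ha, w, hw, hw1, hbw⟩ := hb
  have ha' := commonRes_of_mem_adjoin_centered hP hQ ha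
  have hw' := commonRes_of_mem_adjoin_centered hP hQ hw
  have hwQ : Q.1 w = 1 := commonRes_val_eq_one hw' hw1
  have hbP : P.1 b = P.1 a := by rw [← hbw, map_mul, hw1, mul_one]
  have hbQ : Q.1 b = Q.1 a := by rw [← hbw, map_mul, hwQ, mul_one]
  rw [hbP, hbQ]
  exact ⟨commonRes_val_le_one ha', commonRes_val_lt_one_iff ha'⟩

theorem sameImage_plane_iff (P Q : Place k K) (x y : K) (c : Fin 2 → k)
    (hc : ∀ i, P.1 (![x, y] i - algebraMap k K (c i)) < 1) :
    SameImage ![(1 : K), x, y] P Q ↔ ∀ i, Q.1 (![x, y] i - algebraMap k K (c i)) < 1 := by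
  have hP1 : ∀ i, P.1 (![(1 : K), x, y] i) ≤ 1 := by
    intro i
    fin_cases i
    · show P.1 (1 : K) ≤ 1
      rw [map_one]
    · exact val_le_one_of_sub_lt P (hc 0)
    · exact val_le_one_of_sub_lt P (hc 1)
  constructor
  · rintro ⟨j, hj0, hjP, hjQ, hcr⟩
    have hφj1 : P.1 (![(1 : K), x, y] j) = 1 := by
      apply le_antisymm (hP1 j)
      have h1 := hjP 0
      rwa [show ![(1 : K), x, y] 0 = 1 from rfl, map_one] at h1
    have h0 : CommonRes P Q (![(1 : K), x, y] 0 / ![(1 : K), x, y] j) := hcr 0
    have h0v : P.1 (![(1 : K), x, y] 0 / ![(1 : K), x, y] j) = 1 := by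
      rw [map_div₀, hφj1, div_one]
      show P.1 (1 : K) = 1
      exact map_one _
    have hinv := commonRes_inv h0 h0v
    have hall : ∀ i, CommonRes P Q (![(1 : K), x, y] i) := by
      intro i
      have e : ![(1 : K), x, y] i = (![(1 : K), x, y] i / ![(1 : K), x, y] j) *
          (![(1 : K), x, y] 0 / ![(1 : K), x, y] j)⁻¹ := by
        show _ = _ * ((1 : K) / _)⁻¹
        field_simp
      rw [e]
      exact commonRes_mul (hcr i) hinv
    intro i
    have hi : CommonRes P Q (![x, y] i) := hall i.succ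
    obtain ⟨c', hP', hQ'⟩ := hi
    have hcc : c i = c' := by
      have h1 : P.1 (algebraMap k K (c' - c i)) < 1 := by
        have e : algebraMap k K (c' - c i) = (![x, y] i - algebraMap k K (c i)) -
            (![x, y] i - algebraMap k K c') := by
          rw [map_sub]
          ring
        rw [e]
        exact lt_of_le_of_lt (P.1.map_sub _ _) (max_lt (hc i) hP')
      have h2 := eq_zero_of_val_algebraMap_lt_one h1
      exact (sub_eq_zero.mp h2).symm
    rw [hcc]
    exact hQ'
  · intro hQ
    have hQ1 : ∀ i, Q.1 (![(1 : K), x, y] i) ≤ 1 := by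
      intro i
      fin_cases i
      · show Q.1 (1 : K) ≤ 1
        rw [map_one]
      · exact val_le_one_of_sub_lt Q (hQ 0)
      · exact val_le_one_of_sub_lt Q (hQ 1)
    refine ⟨0, by show (1 : K) ≠ 0; exact one_ne_zero, fun i => ?_, fun i => ?_, fun i => ?_⟩
    · show P.1 _ ≤ P.1 (1 : K)
      rw [map_one]
      exact hP1 i
    · show Q.1 _ ≤ Q.1 (1 : K)
      rw [map_one]
      exact hQ1 i
    · fin_cases i
      · refine ⟨1, ?_, ?_⟩
        · show P.1 ((1 : K) / 1 - algebraMap k K 1) < 1
          rw [div_one, map_one, sub_self, map_zero]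
          exact zero_lt_one
        · show Q.1 ((1 : K) / 1 - algebraMap k K 1) < 1
          rw [div_one, map_one, sub_self, map_zero]
          exact zero_lt_one
      · refine ⟨c 0, ?_, ?_⟩
        · show P.1 (x / 1 - algebraMap k K (c 0)) < 1
          rw [div_one]
          exact hc 0
        · show Q.1 (x / 1 - algebraMap k K (c 0)) < 1
          rw [div_one]
          exact hQ 0
      · refine ⟨c 1, ?_, ?_⟩
        · show P.1 (y / 1 - algebraMap k K (c 1)) < 1
          rw [div_one]
          exact hc 1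
        · show Q.1 (y / 1 - algebraMap k K (c 1)) < 1
          rw [div_one]
          exact hQ 1

theorem not_both_const (hK : IsFunctionField k K) (x y : K)
    (hxy : IntermediateField.adjoin k ({x, y} : Set K) = ⊤)
    (hx : x ∈ Set.range (algebraMap k K)) (hy : y ∈ Set.range (algebraMap k K)) : False := by
  obtain ⟨a, ha⟩ := hx
  obtain ⟨b, hb⟩ := hy
  obtain ⟨t, ht, -⟩ := hK.1
  have h1 : t ∈ IntermediateField.adjoin k ({x, y} : Set K) := by
    rw [hxy]
    trivial
  have h2 : IntermediateField.adjoin k ({x, y} : Set K) ≤ ⊥ := by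
    apply IntermediateField.adjoin_le_iff.mpr
    intro z hz
    rcases hz with hz | hz
    · rw [hz, ← ha]
      exact IntermediateField.algebraMap_mem _ _
    · rw [Set.mem_singleton_iff] at hz
      rw [hz, ← hb]
      exact IntermediateField.algebraMap_mem _ _
  have h3 := h2 h1
  rw [IntermediateField.mem_bot] at h3
  obtain ⟨a', rfl⟩ := h3
  exact ht (isAlgebraic_algebraMap a')

theorem finite_centered (hK : IsFunctionField k K) (x y : K)
    (hxy : IntermediateField.adjoin k ({x, y} : Set K) = ⊤) (c : Fin 2 → k) :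
    {Q : Place k K | ∀ i, Q.1 (![x, y] i - algebraMap k K (c i)) < 1}.Finite := by
  by_cases hx : x - algebraMap k K (c 0) = 0
  · by_cases hy : y - algebraMap k K (c 1) = 0
    · exfalso
      exact not_both_const hK x y hxy ⟨c 0, (sub_eq_zero.mp hx).symm⟩
        ⟨c 1, (sub_eq_zero.mp hy).symm⟩
    · exact (finite_zeros' hK hy).subset (fun Q hQ => hQ 1)
  · exact (finite_zeros' hK hx).subset (fun Q hQ => hQ 0)

theorem inLocRing_plane_iff (P : Place k K) (x y : K) (hx : P.1 x ≤ 1) (hy : P.1 y ≤ 1)
    (b : K) :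
    InLocRing ![(1 : K), x, y] P b ↔ b ∈ locSub (Algebra.adjoin k (Set.range ![x, y])) P := by
  have hjP : ∀ i, P.1 (![(1 : K), x, y] i) ≤ P.1 (![(1 : K), x, y] 0) := by
    intro i
    show _ ≤ P.1 (1 : K)
    rw [map_one]
    fin_cases i
    · show P.1 (1 : K) ≤ 1
      rw [map_one]
    · exact hx
    · exact hy
  rw [inLocRing_iff ![(1 : K), x, y] P 0 (by show (1 : K) ≠ 0; exact one_ne_zero) hjP]
  have hA : Algebra.adjoin k (Set.range fun i => ![(1 : K), x, y] i / ![(1 : K), x, y] 0) =
      Algebra.adjoin k (Set.range ![x, y]) := by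
    apply le_antisymm
    · apply Algebra.adjoin_le
      rintro _ ⟨i, rfl⟩
      fin_cases i
      · show (1 : K) / 1 ∈ _
        rw [div_one]
        exact one_mem _
      · show x / 1 ∈ _
        rw [div_one]
        exact Algebra.subset_adjoin ⟨0, rfl⟩
      · show y / 1 ∈ _
        rw [div_one]
        exact Algebra.subset_adjoin ⟨1, rfl⟩
    · apply Algebra.adjoin_mono
      rintro _ ⟨i, rfl⟩
      fin_cases i
      · exact ⟨1, by show x / 1 = x; rw [div_one]⟩
      · exact ⟨2, by show y / 1 = y; rw [div_one]⟩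
  rw [hA]

end Centered

section Conductor

variable [IsAlgClosed k]

/-- The conductor of the local ring of a plane curve at a finite point. -/
theorem exists_conductor_plane (hK : IsFunctionField k K) (x y : K)
    (hxy : IntermediateField.adjoin k ({x, y} : Set K) = ⊤) (P : Place k K) (c : Fin 2 → k)
    (hc : ∀ i, P.1 (![x, y] i - algebraMap k K (c i)) < 1) :
    ∃ N : ℕ, ∀ b : K,
      (∀ Q : Place k K, (∀ i, Q.1 (![x, y] i - algebraMap k K (c i)) < 1) →
        Q.1 b ≤ exp (-(N : ℤ))) →
      b ∈ locSub (Algebra.adjoin k (Set.range ![x, y])) P := by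
  classical
  obtain ⟨φ, hφdef⟩ : ∃ φ : Fin 3 → K, φ = ![(1 : K), x, y] := ⟨_, rfl⟩
  obtain ⟨W, hW⟩ : ∃ W : Submodule k K, W = Submodule.span k (Set.range φ) := ⟨_, rfl⟩
  haveI : FiniteDimensional k W := by
    rw [hW]
    exact Module.Finite.span_of_finite k (Set.finite_range φ)
  have h1W : (1 : K) ∈ W := by
    rw [hW]
    exact Submodule.subset_span ⟨0, by rw [hφdef]; rfl⟩
  have hxW : x ∈ W := by
    rw [hW]
    exact Submodule.subset_span ⟨1, by rw [hφdef]; rfl⟩
  have hyW : y ∈ W := by
    rw [hW]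
    exact Submodule.subset_span ⟨2, by rw [hφdef]; rfl⟩
  have hnc : ∃ t ∈ W, t ∉ Set.range (algebraMap k K) := by
    by_contra hno
    push Not at hno
    exact not_both_const hK x y hxy (hno x hxW) (hno y hyW)
  obtain ⟨t, htW, htk⟩ := hnc
  have hfr : 2 ≤ Module.finrank k W := by
    have hli : LinearIndependent k ![(⟨1, h1W⟩ : W), ⟨t, htW⟩] := by
      rw [LinearIndependent.pair_iff]
      intro a b hab
      have hab' : a • (1 : K) + b • t = 0 := congrArg Subtype.val hab
      rw [Algebra.smul_def, Algebra.smul_def, mul_one] at hab'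
      by_cases hb : b = 0
      · rw [hb, map_zero, zero_mul, add_zero] at hab'
        exact ⟨(map_eq_zero_iff _ (algebraMap k K).injective).mp hab', hb⟩
      · exfalso
        apply htk
        have hb' : algebraMap k K b ≠ 0 := (_root_.map_ne_zero _).mpr hb
        refine ⟨-(b⁻¹ * a), ?_⟩
        rw [map_neg, map_mul, map_inv₀]
        field_simp
        linear_combination -hab'
    have h1 := hli.fintype_card_le_finrank
    simpa using h1
  obtain ⟨n, hn⟩ : ∃ n : ℕ, Module.finrank k W = n + 1 := ⟨Module.finrank k W - 1, by omega⟩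
  have hn1 : 1 ≤ n := by omega
  obtain ⟨bW⟩ : Nonempty (Basis (Fin (n + 1)) k W) :=
    ⟨(Module.finBasis k W).reindex (finCongr hn)⟩
  obtain ⟨φ', hφ'def⟩ : ∃ φ' : Fin (n + 1) → K, φ' = fun i => ((bW i : W) : K) := ⟨_, rfl⟩
  have hφ'li : LinearIndependent k φ' := by
    rw [hφ'def]
    exact bW.linearIndependent.map' W.subtype (Submodule.ker_subtype W)
  have hspan' : Submodule.span k (Set.range φ') = W := by
    have e : Set.range φ' = W.subtype '' Set.range bW := by
      rw [hφ'def, ← Set.range_comp]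
      rfl
    rw [e, Submodule.span_image, bW.span_eq, Submodule.map_subtype_top]
  have hspan : Submodule.span k (Set.range φ) = Submodule.span k (Set.range φ') := by
    rw [hspan', hW]
  have hφ'0 : φ' 0 ≠ 0 := hφ'li.ne_zero 0
  have hbir' : IntermediateField.adjoin k (Set.range fun i => φ' i / φ' 0) = ⊤ := by
    obtain ⟨F, hF⟩ : ∃ F : IntermediateField k K,
        F = IntermediateField.adjoin k (Set.range fun i => φ' i / φ' 0) := ⟨_, rfl⟩
    rw [← hF]
    have hmem : ∀ w ∈ Submodule.span k (Set.range φ'), w / φ' 0 ∈ F := by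
      intro w hw
      induction hw using Submodule.span_induction with
      | mem w hw =>
        obtain ⟨i, rfl⟩ := hw
        rw [hF]
        exact IntermediateField.subset_adjoin k _ ⟨i, rfl⟩
      | zero =>
        rw [zero_div]
        exact zero_mem _
      | add w w' _ _ hw hw' =>
        rw [add_div]
        exact add_mem hw hw'
      | smul a w _ hw =>
        rw [smul_div_assoc, Algebra.smul_def]
        exact mul_mem (F.algebraMap_mem a) hw
    rw [hspan'] at hmem
    have h1 := hmem 1 h1W
    have hx' := hmem x hxW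
    have hy' := hmem y hyW
    have hxF : x ∈ F := by
      have e : x = (x / φ' 0) / (1 / φ' 0) := by
        field_simp
      rw [e]
      exact div_mem hx' h1
    have hyF : y ∈ F := by
      have e : y = (y / φ' 0) / (1 / φ' 0) := by
        field_simp
      rw [e]
      exact div_mem hy' h1
    rw [eq_top_iff, ← hxy]
    apply IntermediateField.adjoin_le_iff.mpr
    intro z hz
    rcases hz with hz | hz
    · rw [hz]
      exact hxF
    · rw [Set.mem_singleton_iff] at hz
      rw [hz]
      exact hyF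
  obtain ⟨N, hN⟩ := exists_bound_inLocRing hK hn1 φ' hφ'li hbir' P
  refine ⟨N, fun b hb => ?_⟩
  have hx1 : P.1 x ≤ 1 := val_le_one_of_sub_lt P (hc 0)
  have hy1 : P.1 y ≤ 1 := val_le_one_of_sub_lt P (hc 1)
  rw [← inLocRing_plane_iff P x y hx1 hy1, ← hφdef]
  apply inLocRing_of_span_eq φ' φ hspan.symm P
  apply hN
  intro Q hQ
  apply hb
  intro i
  have hloc : InLocRing φ' P (![x, y] i - algebraMap k K (c i)) := by
    apply inLocRing_of_span_eq φ φ' hspan P
    rw [hφdef, inLocRing_plane_iff P x y hx1 hy1]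
    apply le_locSub
    exact sub_mem (Algebra.subset_adjoin ⟨i, rfl⟩) (Subalgebra.algebraMap_mem _ _)
  exact ((sameImage_iff hK φ' hφ'li P Q).mp hQ _ hloc).2.mpr (hc i)

end Conductor

end FunFld
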