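import Mathlib

/-! Chain rule for derivations on values of multivariate polynomials, and a determinant identity
for cross products (helper2). -/

namespace MvDerivH2

open MvPolynomial

theorem derivation_aeval {R B M σ : Type*} [CommRing R] [CommRing B] [Algebra R B]
    [AddCommGroup M] [Module R M] [Module B M] [IsScalarTower R B M] [Fintype σ]
    (d : Derivation R B M) (v : σ → B) (p : MvPolynomial σ R) :
    d (aeval v p) = ∑ i, aeval v (pderiv i p) • d (v i) := by
  classical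
  induction p using MvPolynomial.induction_on with
  | C a =>
    rw [aeval_C, Derivation.map_algebraMap]
    simp [pderiv_C]
  | add p q hp hq =>
    rw [map_add, map_add, hp, hq, ← Finset.sum_add_distrib]
    apply Finset.sum_congr rfl
    intro i _
    rw [map_add, map_add, add_smul]
  | mul_X p j hp =>
    have h1 : ∀ i, aeval v (pderiv i (p * X j)) =
        (if i = j then aeval v p else 0) + v j * aeval v (pderiv i p) := by
      intro i
      rw [Derivation.leibniz, pderiv_X, smul_eq_mul, smul_eq_mul, map_add, map_mul, map_mul,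
        aeval_X, Pi.single_apply]
      by_cases h : j = i
      · rw [if_pos h, if_pos h.symm, map_one, mul_one]
      · rw [if_neg h, if_neg (fun h' => h h'.symm), map_zero, mul_zero]
    rw [map_mul, aeval_X, Derivation.leibniz, hp]
    simp_rw [h1, add_smul, Finset.sum_add_distrib, ite_smul, zero_smul]
    rw [Finset.sum_ite_eq', if_pos (Finset.mem_univ j), Finset.smul_sum]
    congr 1
    apply Finset.sum_congr rfl
    intro i _
    rw [mul_smul]

theorem aeval_mul_of_isHomogeneous {R B ι : Type*} [CommRing R] [CommRing B] [Algebra R B]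
    {g : MvPolynomial ι R} {d : ℕ} (hg : g.IsHomogeneous d) (c : B) (f : ι → B) :
    aeval (fun i => c * f i) g = c ^ d * aeval f g := by
  rw [aeval_def, aeval_def, eval₂_eq, eval₂_eq, Finset.mul_sum]
  apply Finset.sum_congr rfl
  intro m hm
  have hdeg := hg.degree_eq_sum_deg_support hm
  simp only [mul_pow, Finset.prod_mul_distrib, Finset.prod_pow_eq_pow_sum, ← hdeg]
  ring

theorem cross_identity {R M : Type*} [CommRing R] [AddCommGroup M] [Module R M]
    (a : Fin 3 → Fin 3 → R) (u : Fin 3 → R) (m : Fin 3 → M) :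
    a 0 2 • ((a 1 0 * u 0 + a 1 1 * u 1 + a 1 2 * u 2) • (a 2 0 • m 0 + a 2 1 • m 1 + a 2 2 • m 2) -
        (a 2 0 * u 0 + a 2 1 * u 1 + a 2 2 * u 2) • (a 1 0 • m 0 + a 1 1 • m 1 + a 1 2 • m 2)) +
      a 1 2 • ((a 2 0 * u 0 + a 2 1 * u 1 + a 2 2 * u 2) • (a 0 0 • m 0 + a 0 1 • m 1 + a 0 2 • m 2) -
        (a 0 0 * u 0 + a 0 1 * u 1 + a 0 2 * u 2) • (a 2 0 • m 0 + a 2 1 • m 1 + a 2 2 • m 2)) +
      a 2 2 • ((a 0 0 * u 0 + a 0 1 * u 1 + a 0 2 * u 2) • (a 1 0 • m 0 + a 1 1 • m 1 + a 1 2 • m 2) -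
        (a 1 0 * u 0 + a 1 1 * u 1 + a 1 2 * u 2) • (a 0 0 • m 0 + a 0 1 • m 1 + a 0 2 • m 2)) =
    (a 0 0 * a 1 1 * a 2 2 - a 0 0 * a 1 2 * a 2 1 - a 0 1 * a 1 0 * a 2 2 + a 0 1 * a 1 2 * a 2 0 +
      a 0 2 * a 1 0 * a 2 1 - a 0 2 * a 1 1 * a 2 0) • (u 0 • m 1 - u 1 • m 0) := by
  module

end MvDerivH2
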