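import Mathlib
import Groth.Agent.Lib.MvDeriv_helper2
import Groth.Agent.Lib.FunFldHasseJ_helper2
import Groth.Agent.Lib.FunFldPM3_helper2
import Groth.Agent.Lib.FunFldIM2_helper2

/-! Adjoint divisor of a plane model (helper2), part A: nonvanishing of the transformed partial
derivative under a change of projective coordinates, scaling invariance of nonsingularity, and the
choice of a chart in general position in which a given place is finite. -/

open Module WithZero IntermediateField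

namespace FunFld

variable {k K : Type*} [Field k] [Field K] [Algebra k K]

section CoordChange

/-- Under a change of projective coordinates the transformed equation vanishes at the new chart
and, if the new base coordinate is separating, the new partial derivative does not vanish. -/
theorem pderiv_coord_change (f : MvPolynomial (Fin 3) k) (e : ℕ) (hf : f.IsHomogeneous e)
    (x y : K) (hfxy : MvPolynomial.aeval ![(1 : K), x, y] f = 0)
    (A : Matrix (Fin 3) (Fin 3) k) (hA : A.det ≠ 0)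
    (u : Fin 3 → K) (hu : ∀ i, ∑ j, algebraMap k K (A i j) * u j = ![(1 : K), x, y] i)
    (hu0 : u 0 ≠ 0)
    (hfy : MvPolynomial.aeval ![(1 : K), x, y] (MvPolynomial.pderiv 2 f) ≠ 0)
    (hdx' : KaehlerDifferential.D k K (u 1 / u 0) ≠ 0) :
    MvPolynomial.aeval ![(1 : K), u 1 / u 0, u 2 / u 0]
        (MvPolynomial.aeval (fun i : Fin 3 => ∑ j, MvPolynomial.C (A i j) * MvPolynomial.X j) f) = 0 ∧
    MvPolynomial.aeval ![(1 : K), u 1 / u 0, u 2 / u 0]
      (MvPolynomial.pderiv 2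
        (MvPolynomial.aeval (fun i : Fin 3 => ∑ j, MvPolynomial.C (A i j) * MvPolynomial.X j) f)) ≠ 0 := by
  classical
  obtain ⟨d, hd⟩ : ∃ d : Derivation k K (KaehlerDifferential k K), d = KaehlerDifferential.D k K :=
    ⟨_, rfl⟩
  rw [← hd] at hdx'
  obtain ⟨v, hvdef⟩ : ∃ v : Fin 3 → K, v = ![(1 : K), x, y] := ⟨_, rfl⟩
  rw [← hvdef] at hfxy hfy hu
  have hv0 : v 0 = 1 := by rw [hvdef]; rfl
  have hv1 : v 1 = x := by rw [hvdef]; rfl
  have hv2 : v 2 = y := by rw [hvdef]; rfl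
  obtain ⟨g, hgdef⟩ : ∃ g : Fin 3 → K,
      g = fun i => MvPolynomial.aeval v (MvPolynomial.pderiv i f) := ⟨_, rfl⟩
  have hg : ∀ i, g i = MvPolynomial.aeval v (MvPolynomial.pderiv i f) := fun i => by rw [hgdef]
  rw [← hg 2] at hfy
  have hE : g 0 + x * g 1 + y * g 2 = 0 := by
    have h1 := congrArg (MvPolynomial.aeval v) hf.sum_X_mul_pderiv
    rw [map_sum, Fin.sum_univ_three] at h1
    simp only [map_mul, MvPolynomial.aeval_X, map_nsmul, hfxy, smul_zero, ← hg, hv0, hv1, hv2,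
      one_mul] at h1
    exact h1
  have hT : g 1 • d x + g 2 • d y = 0 := by
    have h1 := MvDerivH2.derivation_aeval d v f
    rw [hfxy, map_zero, Fin.sum_univ_three, ← hg, ← hg, ← hg, hv0, hv1, hv2,
      Derivation.map_one_eq_zero, smul_zero, zero_add] at h1
    exact h1.symm
  obtain ⟨a, hadef⟩ : ∃ a : Fin 3 → Fin 3 → K, a = fun i j => algebraMap k K (A i j) :=
    ⟨_, rfl⟩
  have ha : ∀ i j, algebraMap k K (A i j) = a i j := fun i j => by rw [hadef]
  have hda : ∀ i j, d (a i j) = 0 := fun i j => by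
    rw [← ha]
    exact Derivation.map_algebraMap d _
  have hR : ∀ i, a i 0 * u 0 + a i 1 * u 1 + a i 2 * u 2 = v i := by
    intro i
    have h1 := hu i
    rw [Fin.sum_univ_three] at h1
    simp only [ha] at h1
    exact h1
  have hdR : ∀ i, a i 0 • d (u 0) + a i 1 • d (u 1) + a i 2 • d (u 2) = d (v i) := by
    intro i
    rw [← hR i]
    simp only [map_add, Derivation.leibniz, hda, smul_zero, add_zero]
  have hdetA : algebraMap k K A.det = a 0 0 * a 1 1 * a 2 2 - a 0 0 * a 1 2 * a 2 1 -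
      a 0 1 * a 1 0 * a 2 2 + a 0 1 * a 1 2 * a 2 0 + a 0 2 * a 1 0 * a 2 1 -
      a 0 2 * a 1 1 * a 2 0 := by
    rw [Matrix.det_fin_three]
    simp only [map_sub, map_add, map_mul, ha]
  have hI' : a 0 2 • (x • d y - y • d x) - a 1 2 • d y + a 2 2 • d x =
      (algebraMap k K A.det) • (u 0 • d (u 1) - u 1 • d (u 0)) := by
    have h := MvDerivH2.cross_identity a u (fun j => d (u j))
    simp only [hR, hdR] at h
    rw [hv0, hv1, hv2, Derivation.map_one_eq_zero] at h
    rw [hdetA]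
    linear_combination (norm := module) h
  obtain ⟨h2, hh2def⟩ : ∃ h2 : K, h2 = a 0 2 * g 0 + a 1 2 * g 1 + a 2 2 * g 2 := ⟨_, rfl⟩
  have hF6 : h2 • d x =
      (algebraMap k K A.det * g 2) • (u 0 • d (u 1) - u 1 • d (u 0)) := by
    rw [hh2def]
    linear_combination (norm := module)
      g 2 • hI' + (a 1 2 - a 0 2 * x) • hT + (a 0 2 * hE) • d x
  have he : 1 ≤ e := by
    by_contra h
    have he0 : e = 0 := by omega
    subst he0
    have h3 : MvPolynomial.pderiv 2 f = 0 := by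
      have h1 := ((MvPolynomial.totalDegree_zero_iff_isHomogeneous (p := f)).2 hf)
      rw [MvPolynomial.totalDegree_eq_zero_iff_eq_C] at h1
      rw [h1, MvPolynomial.pderiv_C]
    apply hfy
    rw [hg, h3, map_zero]
  obtain ⟨e', rfl⟩ : ∃ e', e = e' + 1 := ⟨e - 1, by omega⟩
  have hv' : ∀ j, ![(1 : K), u 1 / u 0, u 2 / u 0] j = (u 0)⁻¹ * u j := by
    intro j
    fin_cases j
    · show (1 : K) = (u 0)⁻¹ * u 0
      rw [inv_mul_cancel₀ hu0]
    · show u 1 / u 0 = (u 0)⁻¹ * u 1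
      rw [div_eq_inv_mul]
    · show u 2 / u 0 = (u 0)⁻¹ * u 2
      rw [div_eq_inv_mul]
  obtain ⟨σ, hσdef⟩ : ∃ σ : Fin 3 → MvPolynomial (Fin 3) k,
      σ = fun i : Fin 3 => ∑ j, MvPolynomial.C (A i j) * MvPolynomial.X j := ⟨_, rfl⟩
  have hσi : ∀ i, σ i = ∑ j, MvPolynomial.C (A i j) * MvPolynomial.X j := fun i => by rw [hσdef]
  rw [← hσdef]
  have hpd : MvPolynomial.pderiv 2 (MvPolynomial.aeval σ f) =
      ∑ i, MvPolynomial.aeval σ (MvPolynomial.pderiv i f) * MvPolynomial.C (A i 2) := by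
    rw [MvDerivH2.derivation_aeval (MvPolynomial.pderiv 2) σ f]
    apply Finset.sum_congr rfl
    intro i _
    rw [smul_eq_mul]
    congr 1
    rw [hσi, map_sum, Fin.sum_univ_three, MvPolynomial.pderiv_C_mul, MvPolynomial.pderiv_C_mul,
      MvPolynomial.pderiv_C_mul, MvPolynomial.pderiv_X_of_ne (by decide),
      MvPolynomial.pderiv_X_of_ne (by decide), MvPolynomial.pderiv_X_self, mul_zero, mul_zero,
      zero_add, zero_add, mul_one]
  have hσv : (fun i => MvPolynomial.aeval ![(1 : K), u 1 / u 0, u 2 / u 0] (σ i)) =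
      fun i => (u 0)⁻¹ * v i := by
    funext i
    rw [hσi, map_sum, Fin.sum_univ_three]
    simp only [map_mul, MvPolynomial.aeval_C, MvPolynomial.aeval_X, hv', ha]
    rw [← hR i]
    ring
  have hg'2 : MvPolynomial.aeval ![(1 : K), u 1 / u 0, u 2 / u 0]
      (MvPolynomial.pderiv 2 (MvPolynomial.aeval σ f)) = (u 0)⁻¹ ^ e' * h2 := by
    rw [hpd, map_sum, Fin.sum_univ_three]
    simp only [map_mul, MvPolynomial.aeval_C, MvPolynomial.comp_aeval_apply]
    rw [hσv]
    have hhom : ∀ i, MvPolynomial.aeval (fun i => (u 0)⁻¹ * v i) (MvPolynomial.pderiv i f) =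
        (u 0)⁻¹ ^ e' * g i := by
      intro i
      have h1 := MvDerivH2.aeval_mul_of_isHomogeneous (hf.pderiv (i := i)) (u 0)⁻¹ v
      rw [Nat.add_sub_cancel] at h1
      rw [h1, hg]
    rw [hhom, hhom, hhom, hh2def]
    simp only [ha]
    ring
  have hh2 : h2 ≠ 0 := by
    intro h0
    rw [h0, zero_smul] at hF6
    have h3 : u 0 • d (u 1) - u 1 • d (u 0) = 0 := by
      rcases smul_eq_zero.mp hF6.symm with h4 | h4
      · exact absurd h4 (mul_ne_zero ((map_ne_zero _).2 hA) hfy)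
      · exact h4
    apply hdx'
    rw [Derivation.leibniz_div, h3, smul_zero]
  constructor
  · rw [MvPolynomial.comp_aeval_apply, hσv,
      MvDerivH2.aeval_mul_of_isHomogeneous hf (u 0)⁻¹ v, hfxy, mul_zero]
  · rw [hg'2]
    exact mul_ne_zero (pow_ne_zero _ (inv_ne_zero hu0)) hh2

end CoordChange

section Scaling

theorem inLocRing_mul_left {ι : Type*} (φ : ι → K) (P : Place k K) {c : K} (hc : c ≠ 0) {z : K}
    (h : InLocRing φ P z) : InLocRing (fun i => c * φ i) P z := by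
  obtain ⟨j, hj0, hjP, a, ha, w, hw, hw1, hzw⟩ := h
  have hr : (fun i => (c * φ i) / (c * φ j)) = fun i => φ i / φ j := by
    funext i
    exact mul_div_mul_left _ _ hc
  refine ⟨j, mul_ne_zero hc hj0, fun i => ?_, a, ?_, w, ?_, hw1, hzw⟩
  · rw [map_mul, map_mul]
    exact mul_le_mul' le_rfl (hjP i)
  · show a ∈ Algebra.adjoin k (Set.range fun i => (c * φ i) / (c * φ j))
    rw [hr]
    exact ha
  · show w ∈ Algebra.adjoin k (Set.range fun i => (c * φ i) / (c * φ j))
    rw [hr]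
    exact hw

theorem isNonsingularAt_mul_left_iff {ι : Type*} (φ : ι → K) (P : Place k K) {c : K}
    (hc : c ≠ 0) : IsNonsingularAt (fun i => c * φ i) P ↔ IsNonsingularAt φ P := by
  constructor
  · intro h z hz
    have h1 := inLocRing_mul_left (fun i => c * φ i) P (inv_ne_zero hc) (h z hz)
    have e : (fun i => c⁻¹ * (c * φ i)) = φ := by
      funext i
      rw [← mul_assoc, inv_mul_cancel₀ hc, one_mul]
    rwa [e] at h1
  · intro h z hz
    exact inLocRing_mul_left φ P hc (h z hz)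

end Scaling

section GoodChart

/-- The largest value of the entries of `(1, x, y)` at a place is attained at a nonzero entry. -/
theorem exists_val_eq_exp_mapDiv (hK : IsFunctionField k K) (x y : K) (Q : Place k K) :
    ∃ j : Fin 3, ![(1 : K), x, y] j ≠ 0 ∧
      Q.1 (![(1 : K), x, y] j) = exp (mapDiv k ![(1 : K), x, y] Q) := by
  obtain ⟨i, -, hi⟩ := Finset.exists_mem_eq_inf' Finset.univ_nonempty
    (fun i => Q.ord (![(1 : K), x, y] i))
  have hm : mapDiv k ![(1 : K), x, y] Q = -minOrd Q ![(1 : K), x, y] := mapDiv_apply hK _ Q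
  by_cases h0 : ![(1 : K), x, y] i = 0
  · refine ⟨0, one_ne_zero, ?_⟩
    show Q.1 (1 : K) = _
    have h1 : minOrd Q ![(1 : K), x, y] = 0 := by
      unfold minOrd
      rw [hi, h0, Q.ord_zero]
    rw [map_one, hm, h1, neg_zero, exp_zero]
  · refine ⟨i, h0, ?_⟩
    rw [Q.val_eq_exp_neg_ord h0, hm]
    unfold minOrd
    rw [hi]

theorem IsPM.poleDiv_eq_mapDiv (hK : IsFunctionField k K) {ℓ t : K} (h : IsPM k ℓ t) :
    poleDiv k ℓ = mapDiv k ![(1 : K), ℓ, t] := by
  ext Q'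
  apply exp_injective
  rw [exp_poleDiv hK h.ne_zero Q']
  obtain ⟨m, hm⟩ : ∃ m : ℤᵐ⁰, m = exp (mapDiv k ![(1 : K), ℓ, t] Q') := ⟨_, rfl⟩
  rw [← hm]
  have h0 : 1 ≤ m := by
    have := val_le_exp_mapDiv hK ![(1 : K), ℓ, t] 0 Q'
    rw [← hm] at this
    have e : Q'.1 (![(1 : K), ℓ, t] 0) = 1 := map_one _
    rwa [e] at this
  have h1 : Q'.1 ℓ ≤ m := by
    have := val_le_exp_mapDiv hK ![(1 : K), ℓ, t] 1 Q'
    rw [← hm] at this
    exact this
  obtain ⟨j, -, hj⟩ := exists_val_eq_exp_mapDiv hK ℓ t Q'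
  rw [← hm] at hj
  have h2 : m ≤ max 1 (Q'.1 ℓ) := by
    rw [← hj]
    fin_cases j
    · show Q'.1 (1 : K) ≤ _
      rw [map_one]
      exact le_max_left _ _
    · exact le_max_right _ _
    · exact h.le Q'
  exact le_antisymm (max_le h0 h1) h2

variable [IsAlgClosed k]

/-- A change of projective coordinates after which the given place is finite and the affine
chart is in general position with separating base coordinate. -/
theorem exists_good_chart (hK : IsFunctionField k K) (x y : K)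
    (hxy : IntermediateField.adjoin k ({x, y} : Set K) = ⊤)
    (hdx : KaehlerDifferential.D k K x ≠ 0) (Q : Place k K) :
    ∃ (A : Matrix (Fin 3) (Fin 3) k) (u : Fin 3 → K), A.det ≠ 0 ∧
      (∀ i, ∑ j, algebraMap k K (A i j) * u j = ![(1 : K), x, y] i) ∧
      u 0 ≠ 0 ∧ (∀ i, Q.1 (u i) ≤ Q.1 (u 0)) ∧
      KaehlerDifferential.D k K (u 1 / u 0) ≠ 0 ∧ IsPM k (u 1 / u 0) (u 2 / u 0) := by
  classical
  obtain ⟨p, hp⟩ : ∃ p : Fin 3 → K, p = ![(1 : K), x, y] := ⟨_, rfl⟩
  obtain ⟨d, hd⟩ : ∃ d : Derivation k K (Ω[K⁄k]), d = KaehlerDifferential.D k K := ⟨_, rfl⟩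
  rw [← hp, ← hd]
  rw [← hd] at hdx
  have hp0 : p 0 = 1 := by rw [hp]; rfl
  have hp1 : p 1 = x := by rw [hp]; rfl
  have hp2 : p 2 = y := by rw [hp]; rfl
  obtain ⟨π, hπ⟩ : ∃ π : (Fin 3 → k) → K, π = fun c => ∑ j, algebraMap k K (c j) * p j :=
    ⟨_, rfl⟩
  have hπapp : ∀ c, π c = ∑ j, algebraMap k K (c j) * p j := fun c => by rw [hπ]
  have hπadd : ∀ c c', π (c + c') = π c + π c' := by
    intro c c'
    simp only [hπapp, Pi.add_apply, map_add, add_mul, Finset.sum_add_distrib]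
  have hπsmul : ∀ (a : k) c, π (a • c) = algebraMap k K a * π c := by
    intro a c
    simp only [hπapp, Pi.smul_apply, smul_eq_mul, map_mul, Finset.mul_sum, mul_assoc]
  have hπzero : π 0 = 0 := by
    simp only [hπapp, Pi.zero_apply, map_zero, zero_mul, Finset.sum_const_zero]
  have hπsingle : ∀ j, π (Pi.single j 1) = p j := by
    intro j
    rw [hπapp, Finset.sum_eq_single j]
    · rw [Pi.single_eq_same, map_one, one_mul]
    · intro b _ hb
      rw [Pi.single_eq_of_ne hb, map_zero, zero_mul]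
    · intro h
      exact absurd (Finset.mem_univ j) h
  obtain ⟨M, hM⟩ : ∃ M : Place k K → ℤᵐ⁰, M = fun Q' => exp (mapDiv k p Q') := ⟨_, rfl⟩
  have hMapp : ∀ Q', M Q' = exp (mapDiv k p Q') := fun Q' => by rw [hM]
  have hMpos : ∀ Q', 0 < M Q' := by
    intro Q'
    rw [hMapp]
    exact exp_pos
  have hπle : ∀ Q' c, (Q' : Place k K).1 (π c) ≤ M Q' := by
    intro Q' c
    rw [hπapp]
    apply Q'.1.map_sum_le
    intro j _
    rw [map_mul]
    calc Q'.1 (algebraMap k K (c j)) * Q'.1 (p j) ≤ 1 * Q'.1 (p j) :=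
          mul_le_mul' (Q'.2.1 _) le_rfl
      _ = Q'.1 (p j) := one_mul _
      _ ≤ M Q' := by rw [hMapp]; exact val_le_exp_mapDiv hK p j Q'
  have hattain : ∀ Q' : Place k K, ∃ j, p j ≠ 0 ∧ Q'.1 (p j) = M Q' := by
    intro Q'
    rw [hMapp, hp]
    exact exists_val_eq_exp_mapDiv hK x y Q'
  obtain ⟨j₀, hj₀0, hj₀⟩ := hattain Q
  obtain ⟨ℓ₀, hℓ₀⟩ : ∃ ℓ₀ : K, ℓ₀ = p j₀ := ⟨_, rfl⟩
  rw [← hℓ₀] at hj₀0 hj₀
  obtain ⟨Z, hZ⟩ : ∃ Z : Finset (Place k K), ∀ Q', Q' ∉ Z → Q'.1 ℓ₀ = M Q' := by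
    refine ⟨(mapDiv k p).support ∪ (finite_support_ord hK ℓ₀).toFinset, fun Q' hQ' => ?_⟩
    rw [Finset.mem_union, not_or] at hQ'
    obtain ⟨h1, h2⟩ := hQ'
    have h3 : mapDiv k p Q' = 0 := Finsupp.notMem_support_iff.mp h1
    have h4 : Q'.ord ℓ₀ = 0 := by
      rw [Set.Finite.mem_toFinset, Function.mem_support, not_not] at h2
      exact h2
    rw [hMapp, h3, exp_zero]
    exact (Q'.ord_eq_zero_iff hj₀0).mp h4
  let S : Place k K → Submodule k (Fin 3 → k) := fun Q' =>
    { carrier := {c | Q'.1 (π c) < M Q'}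
      add_mem' := by
        intro a b ha hb
        show Q'.1 (π (a + b)) < M Q'
        rw [hπadd]
        exact lt_of_le_of_lt (Q'.1.map_add _ _) (max_lt ha hb)
      zero_mem' := by
        show Q'.1 (π 0) < M Q'
        rw [hπzero, map_zero]
        exact hMpos Q'
      smul_mem' := by
        intro a c hc
        show Q'.1 (π (a • c)) < M Q'
        rw [hπsmul, map_mul]
        calc Q'.1 (algebraMap k K a) * Q'.1 (π c) ≤ 1 * Q'.1 (π c) :=
              mul_le_mul' (Q'.2.1 a) le_rfl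
          _ = Q'.1 (π c) := one_mul _
          _ < M Q' := hc }
  let Sd : Submodule k (Fin 3 → k) :=
    { carrier := {c | ℓ₀ • d (π c) = π c • d ℓ₀}
      add_mem' := by
        intro a b ha hb
        have ha' : ℓ₀ • d (π a) = π a • d ℓ₀ := ha
        have hb' : ℓ₀ • d (π b) = π b • d ℓ₀ := hb
        show ℓ₀ • d (π (a + b)) = π (a + b) • d ℓ₀
        rw [hπadd, map_add, smul_add, add_smul, ha', hb']
      zero_mem' := by
        show ℓ₀ • d (π 0) = π 0 • d ℓ₀
        rw [hπzero, map_zero, smul_zero, zero_smul]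
      smul_mem' := by
        intro a c hc
        have hc' : ℓ₀ • d (π c) = π c • d ℓ₀ := hc
        show ℓ₀ • d (π (a • c)) = π (a • c) • d ℓ₀
        rw [hπsmul, Derivation.leibniz, Derivation.map_algebraMap, smul_zero, add_zero,
          smul_comm, hc', smul_smul] }
  have hSne : ∀ Q', S Q' ≠ ⊤ := by
    intro Q' htop
    obtain ⟨j, -, hj⟩ := hattain Q'
    have h1 : Pi.single j (1 : k) ∈ S Q' := by rw [htop]; trivial
    have h2 : Q'.1 (π (Pi.single j 1)) < M Q' := h1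
    rw [hπsingle, hj] at h2
    exact lt_irrefl _ h2
  have hSdne : Sd ≠ ⊤ := by
    intro htop
    have h0 : (Pi.single 0 (1 : k) : Fin 3 → k) ∈ Sd := by rw [htop]; trivial
    have h1 : (Pi.single 1 (1 : k) : Fin 3 → k) ∈ Sd := by rw [htop]; trivial
    have h0' : ℓ₀ • d (π (Pi.single 0 1)) = π (Pi.single 0 1) • d ℓ₀ := h0
    have h1' : ℓ₀ • d (π (Pi.single 1 1)) = π (Pi.single 1 1) • d ℓ₀ := h1
    rw [hπsingle, hp0, Derivation.map_one_eq_zero, smul_zero, one_smul] at h0'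
    rw [hπsingle, hp1, ← h0', smul_zero] at h1'
    exact hdx ((smul_eq_zero.mp h1').resolve_left hj₀0)
  obtain ⟨c, hc⟩ := Submodule.exists_forall_notMem_of_forall_ne_top
    (fun i : Option Z => Option.elim i Sd (fun Q' => S Q'.1)) (by
      intro i
      cases i with
      | none => exact hSdne
      | some Q' => exact hSne Q'.1)
  have hcd : c ∉ Sd := hc none
  have hcS : ∀ Q' ∈ Z, c ∉ S Q' := fun Q' hQ' => hc (some ⟨Q', hQ'⟩)
  obtain ⟨ℓ₁, hℓ₁⟩ : ∃ ℓ₁ : K, ℓ₁ = π c := ⟨_, rfl⟩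
  have hW : ℓ₀ • d ℓ₁ - ℓ₁ • d ℓ₀ ≠ 0 := by
    rw [hℓ₁]
    intro h
    exact hcd (sub_eq_zero.mp h)
  have hdx' : d (ℓ₁ / ℓ₀) ≠ 0 := by
    rw [Derivation.leibniz_div]
    intro h
    rcases smul_eq_zero.mp h with h1 | h1
    · exact hj₀0 (inv_eq_zero.mp ((pow_eq_zero_iff two_ne_zero).mp h1))
    · exact hW h1
  have hℓ₁val : ∀ Q' ∈ Z, Q'.1 ℓ₁ = M Q' := by
    intro Q' hQ'
    have h1 : ¬ Q'.1 (π c) < M Q' := hcS Q' hQ'
    rw [hℓ₁]
    exact le_antisymm (hπle Q' c) (not_lt.mp h1)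
  have hli : LinearIndependent k ![(Pi.single j₀ (1 : k) : Fin 3 → k), c] := by
    rw [LinearIndependent.pair_iff]
    intro s t hst
    have h1 := congrArg π hst
    rw [hπadd, hπsmul, hπsmul, hπsingle, hπzero, ← hℓ₀, ← hℓ₁] at h1
    have ht : t = 0 := by
      by_contra ht
      apply hdx'
      have ht' : algebraMap k K t ≠ 0 := (map_ne_zero _).2 ht
      have e : ℓ₁ / ℓ₀ = algebraMap k K (-(s / t)) := by
        rw [div_eq_iff hj₀0, map_neg, map_div₀]
        field_simp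
        linear_combination h1
      rw [e, Derivation.map_algebraMap]
    subst ht
    rw [zero_smul, add_zero] at hst
    have hs : s = 0 := by
      have h2 := congrFun hst j₀
      simpa using h2
    exact ⟨hs, rfl⟩
  have hfr : (2 : ℕ) < Module.finrank k (Fin 3 → k) := by
    rw [Module.finrank_fin_fun]
    norm_num
  obtain ⟨r₂, hr₂⟩ := exists_linearIndependent_snoc_of_lt_finrank hli hfr
  obtain ⟨B, hB⟩ : ∃ B : Matrix (Fin 3) (Fin 3) k,
      B = Matrix.of (Fin.snoc ![(Pi.single j₀ (1 : k) : Fin 3 → k), c] r₂) := ⟨_, rfl⟩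
  have hB0 : B 0 = Pi.single j₀ 1 := by rw [hB]; rfl
  have hB1 : B 1 = c := by rw [hB]; rfl
  have hBdet : B.det ≠ 0 := by
    have h1 : LinearIndependent k B.row := by rw [hB]; exact hr₂
    have h2 := Matrix.linearIndependent_rows_iff_isUnit.mp h1
    exact ((Matrix.isUnit_iff_isUnit_det B).mp h2).ne_zero
  have hBinv : B * B⁻¹ = 1 := Matrix.mul_nonsing_inv B (isUnit_iff_ne_zero.2 hBdet)
  have hAdet : (B⁻¹).det ≠ 0 := Matrix.det_ne_zero_of_left_inverse hBinv
  have hA := inv_coord B hBdet p (fun i => π (B i)) (fun i => (hπapp (B i)).symm)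
  have hu0 : π (B 0) = ℓ₀ := by rw [hB0, hπsingle, ← hℓ₀]
  have hu1 : π (B 1) = ℓ₁ := by rw [hB1, ← hℓ₁]
  obtain ⟨ℓ₂, hℓ₂⟩ : ∃ ℓ₂ : K, ℓ₂ = π (B 2) := ⟨_, rfl⟩
  refine ⟨B⁻¹, fun i => π (B i), hAdet, hA, ?_, ?_, ?_, ?_⟩
  · show π (B 0) ≠ 0
    rw [hu0]
    exact hj₀0
  · intro i
    show Q.1 (π (B i)) ≤ Q.1 (π (B 0))
    rw [hu0, hj₀]
    exact hπle Q _
  · show d (π (B 1) / π (B 0)) ≠ 0
    rw [hu0, hu1]
    exact hdx'
  · show IsPM k (π (B 1) / π (B 0)) (π (B 2) / π (B 0))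
    rw [hu0, hu1, ← hℓ₂]
    refine ⟨?_, ?_, ?_⟩
    · intro halg
      obtain ⟨a, ha⟩ := hK.2 _ halg
      apply hdx'
      rw [← ha, Derivation.map_algebraMap]
    · obtain ⟨E, hE⟩ : ∃ E : IntermediateField k K,
          E = IntermediateField.adjoin k ({ℓ₁ / ℓ₀, ℓ₂ / ℓ₀} : Set K) := ⟨_, rfl⟩
      rw [← hE]
      have hm1 : ℓ₁ / ℓ₀ ∈ E := by
        rw [hE]
        exact IntermediateField.subset_adjoin k _ (Set.mem_insert _ _)
      have hm2 : ℓ₂ / ℓ₀ ∈ E := by
        rw [hE]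
        exact IntermediateField.subset_adjoin k _ (Set.mem_insert_of_mem _ rfl)
      have hmi : ∀ i, π (B i) / ℓ₀ ∈ E := by
        intro i
        fin_cases i
        · show π (B 0) / ℓ₀ ∈ E
          rw [hu0, div_self hj₀0]
          exact one_mem _
        · show π (B 1) / ℓ₀ ∈ E
          rw [hu1]
          exact hm1
        · show π (B 2) / ℓ₀ ∈ E
          rw [← hℓ₂]
          exact hm2
      have hpl : ∀ l, p l / ℓ₀ ∈ E := by
        intro l
        rw [← hA l, Finset.sum_div]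
        refine sum_mem fun i _ => ?_
        rw [mul_div_assoc]
        exact mul_mem (E.algebraMap_mem _) (hmi i)
      have hℓ₀E : ℓ₀ ∈ E := by
        have h1 := hpl 0
        rw [hp0, one_div] at h1
        have h2 := inv_mem h1
        rwa [inv_inv] at h2
      have hplE : ∀ l, p l ∈ E := by
        intro l
        have h1 := mul_mem (hpl l) hℓ₀E
        rwa [div_mul_cancel₀ _ hj₀0] at h1
      rw [eq_top_iff, ← hxy, IntermediateField.adjoin_le_iff]
      intro z hz
      rcases hz with rfl | hz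
      · have := hplE 1
        rwa [hp1] at this
      · rw [Set.mem_singleton_iff] at hz
        rw [hz]
        have := hplE 2
        rwa [hp2] at this
    · intro Q'
      have hpos : 0 < Q'.1 ℓ₀ := zero_lt_iff.mpr ((Q'.1.ne_zero_iff).mpr hj₀0)
      rw [map_div₀, map_div₀]
      have hℓ₂le : Q'.1 ℓ₂ ≤ M Q' := by rw [hℓ₂]; exact hπle Q' _
      by_cases hQ' : Q' ∈ Z
      · apply le_max_of_le_right
        rw [hℓ₁val Q' hQ', div_eq_mul_inv, div_eq_mul_inv]
        exact mul_le_mul' hℓ₂le le_rfl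
      · apply le_max_of_le_left
        rw [hZ Q' hQ']
        exact (div_le_one₀ (hMpos Q')).mpr hℓ₂le

end GoodChart

end FunFld
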