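import Mathlib
import Groth.Agent.Lib.FunFldExtC_helper2

/-! Integral closure of a valuation ring of a function field in a finite extension (helper2). -/

open Polynomial IntermediateField WithZero Module

namespace FunFld

section LSgen

variable {k K : Type*} [Field k] [Field K] [Algebra k K]

/-- `LS_step` with the finiteness of the residue field as a hypothesis. -/
theorem LS_step' (S : Finset (Place k K)) (D : Divisor k K)
    (P : Place k K) (hP : P ∈ S) (hfd : FiniteDimensional k (IsLocalRing.ResidueField P.O)) :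
    LS S D ≤ LS S (D + Finsupp.single P 1) ∧
    FiniteDimensional k (relQ (LS S D) (LS S (D + Finsupp.single P 1))) ∧
    Module.finrank k (relQ (LS S D) (LS S (D + Finsupp.single P 1))) = P.deg := by
  classical
  obtain ⟨t, ht⟩ := P.exists_uniformizer
  obtain ⟨D', hD'⟩ : ∃ D' : Divisor k K, D' = D + Finsupp.single P 1 := ⟨_, rfl⟩
  rw [← hD']
  have hD'P : D' P = D P + 1 := by rw [hD', Finsupp.add_apply, Finsupp.single_eq_same]
  have hD'Q : ∀ Q, Q ≠ P → D' Q = D Q := fun Q hQ => by
    rw [hD', Finsupp.add_apply, Finsupp.single_apply, if_neg (fun h => hQ h.symm), add_zero]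
  have hDD' : D ≤ D' := by
    rw [hD']
    exact le_add_of_nonneg_right (Finsupp.single_nonneg.mpr zero_le_one)
  have hle : LS S D ≤ LS S D' := fun x hx Q hQ => (hx Q hQ).trans (exp_le_exp.mpr (hDD' Q))
  have hball : LS S D' ≤ ball P (D' P) := fun x hx => hx P hP
  let f : LS S D' →ₗ[k] IsLocalRing.ResidueField P.O :=
    (resMap P ht (D' P)).comp (Submodule.inclusion hball)
  have hker : LinearMap.ker f = Submodule.comap (LS S D').subtype (LS S D) := by
    ext x
    rw [LinearMap.mem_ker, Submodule.mem_comap]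
    show resMap P ht (D' P) (Submodule.inclusion hball x) = 0 ↔ (x : K) ∈ LS S D
    rw [resMap_eq_zero_iff]
    show P.1 (x : K) ≤ exp (D' P - 1) ↔ _
    rw [hD'P, add_sub_cancel_right]
    constructor
    · intro h Q hQS
      by_cases hQ : Q = P
      · rw [hQ]
        exact h
      · have h3 := (mem_LS.mp x.2) Q hQS
        rw [hD'Q Q hQ] at h3
        exact h3
    · intro h
      exact h P hP
  have hsurj : Function.Surjective f := by
    intro ξ
    obtain ⟨y₀, hy₀⟩ := resMap_surjective P ht (D' P) ξ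
    obtain ⟨N, hN⟩ : ∃ N : ℤ, ∀ Q ∈ S, -N ≤ D Q := by
      obtain ⟨M, hM⟩ := Finset.exists_le (S.image (fun Q => -D Q))
      refine ⟨M, fun Q hQ => ?_⟩
      have := hM _ (Finset.mem_image_of_mem _ hQ)
      linarith
    obtain ⟨z, hz⟩ := exists_approx (fun Q : S => (Q : Place k K)) Subtype.val_injective
      (fun Q : S => if (Q : Place k K) = P then (y₀ : K) else 0) N
    have hzP : P.1 (z - (y₀ : K)) ≤ exp (D P) := by
      have h1 : P.1 (z - if P = P then (y₀ : K) else 0) ≤ exp (-N) := hz ⟨P, hP⟩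
      rw [if_pos rfl] at h1
      exact h1.trans (exp_le_exp.mpr (hN P hP))
    have hzQ : ∀ Q ∈ S, Q ≠ P → Q.1 z ≤ exp (D Q) := by
      intro Q hQS hQ
      have h1 : Q.1 (z - if Q = P then (y₀ : K) else 0) ≤ exp (-N) := hz ⟨Q, hQS⟩
      rw [if_neg hQ, sub_zero] at h1
      exact h1.trans (exp_le_exp.mpr (hN Q hQS))
    have hdiff_mem : z - (y₀ : K) ∈ ball P (D' P) := by
      show P.1 (z - (y₀ : K)) ≤ exp (D' P)
      exact hzP.trans (exp_le_exp.mpr (hDD' P))
    have hz_ball : z ∈ ball P (D' P) := by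
      have h1 : z = (y₀ : K) + (z - (y₀ : K)) := by ring
      rw [h1]
      exact (ball P (D' P)).add_mem y₀.2 hdiff_mem
    have hzmem : z ∈ LS S D' := by
      intro Q hQS
      by_cases hQ : Q = P
      · rw [hQ]
        exact hz_ball
      · rw [hD'Q Q hQ]
        exact hzQ Q hQS hQ
    refine ⟨⟨z, hzmem⟩, ?_⟩
    show resMap P ht (D' P) (Submodule.inclusion hball ⟨z, hzmem⟩) = ξ
    have hsplit : Submodule.inclusion hball ⟨z, hzmem⟩ = y₀ + ⟨z - (y₀ : K), hdiff_mem⟩ := by
      apply Subtype.ext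
      show z = (y₀ : K) + (z - (y₀ : K))
      ring
    rw [hsplit, map_add, hy₀]
    have h0 : resMap P ht (D' P) ⟨z - (y₀ : K), hdiff_mem⟩ = 0 := by
      rw [resMap_eq_zero_iff]
      show P.1 (z - (y₀ : K)) ≤ exp (D' P - 1)
      have hDP1 : D' P - 1 = D P := by rw [hD'P]; ring
      rw [hDP1]
      exact hzP
    rw [h0, add_zero]
  haveI := hfd
  let e := relQEquivOfSurjective (LS S D) (LS S D') f hsurj hker
  exact ⟨hle, Module.Finite.equiv e.symm, e.finrank_eq⟩

end LSgen

section Ext

variable {k K K' : Type*} [Field k] [Field K] [Field K'] [Algebra k K] [Algebra K K']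
    [Algebra k K'] [IsScalarTower k K K']

section Basic

theorem val_alg_of_isOver {Q : Place k K'} {P : Place k K} (hQ : IsOver Q P) (c : K) :
    Q.1 (algebraMap K K' c) = P.1 c ^ ramIdx Q P := hQ.isOverWith_ramIdx c

variable (K') in
/-- Elements integral at all places over `P`. -/
def RO (P : Place k K) : Submodule k K' where
  carrier := {z | ∀ Q : Place k K', IsOver Q P → Q.1 z ≤ 1}
  add_mem' {x y} hx hy Q hQ := (Q.1.map_add x y).trans (max_le (hx Q hQ) (hy Q hQ))
  zero_mem' Q _ := by rw [map_zero]; exact zero_le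
  smul_mem' c x hx Q hQ := by
    rw [Algebra.smul_def, map_mul]
    exact (mul_le_mul' (Q.2.1 c) (hx Q hQ)).trans_eq (one_mul _)

variable (K') in
/-- `t · RO` for a uniformizer `t` of `P`. -/
def TO (P : Place k K) : Submodule k K' where
  carrier := {z | ∀ Q : Place k K', IsOver Q P → Q.1 z ≤ exp (-(ramIdx Q P : ℤ))}
  add_mem' {x y} hx hy Q hQ := (Q.1.map_add x y).trans (max_le (hx Q hQ) (hy Q hQ))
  zero_mem' Q _ := by rw [map_zero]; exact zero_le
  smul_mem' c x hx Q hQ := by
    rw [Algebra.smul_def, map_mul]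
    exact (mul_le_mul' (Q.2.1 c) (hx Q hQ)).trans_eq (one_mul _)

omit [IsScalarTower k K K'] in
theorem mem_RO {P : Place k K} {z : K'} :
    z ∈ RO K' P ↔ ∀ Q : Place k K', IsOver Q P → Q.1 z ≤ 1 := Iff.rfl

omit [IsScalarTower k K K'] in
theorem mem_TO {P : Place k K} {z : K'} :
    z ∈ TO K' P ↔ ∀ Q : Place k K', IsOver Q P → Q.1 z ≤ exp (-(ramIdx Q P : ℤ)) := Iff.rfl

theorem alg_mul_mem_RO (P : Place k K) {c : K} (hc : P.1 c ≤ 1) {r : K'} (hr : r ∈ RO K' P) :
    algebraMap K K' c * r ∈ RO K' P := by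
  intro Q hQ
  rw [map_mul, val_alg_of_isOver hQ]
  exact (mul_le_mul' (pow_le_one₀ zero_le hc) (hr Q hQ)).trans_eq (one_mul _)

theorem alg_mul_mem_TO (P : Place k K) {c : K} (hc : P.1 c < 1) {r : K'} (hr : r ∈ RO K' P) :
    algebraMap K K' c * r ∈ TO K' P := by
  intro Q hQ
  rw [map_mul, val_alg_of_isOver hQ]
  have h1 : P.1 c ≤ exp (-1 : ℤ) := (lt_one_iff_le_exp_neg_one _).mp hc
  calc P.1 c ^ ramIdx Q P * Q.1 r ≤ exp (-1 : ℤ) ^ ramIdx Q P * 1 :=
        mul_le_mul' (pow_le_pow_left₀ zero_le h1 _) (hr Q hQ)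
    _ = exp (-(ramIdx Q P : ℤ)) := by
        rw [mul_one, ← exp_nsmul]
        congr 1
        simp

theorem alg_mul_mem_TO' (P : Place k K) {c : K} (hc : P.1 c ≤ 1) {r : K'} (hr : r ∈ TO K' P) :
    algebraMap K K' c * r ∈ TO K' P := by
  intro Q hQ
  rw [map_mul, val_alg_of_isOver hQ]
  exact (mul_le_mul' (pow_le_one₀ zero_le hc) (hr Q hQ)).trans_eq (one_mul _)

end Basic

variable [FiniteDimensional K K']

theorem finiteDimensional_algebraicClosure_ext (hK : IsFunctionField k K) :
    FiniteDimensional k (algebraicClosure k K') := by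
  obtain ⟨⟨x, hx, hfin⟩, -⟩ := id hK
  haveI := hfin
  have hyt : Transcendental k (algebraMap K K' x) := fun h =>
    hx ((isAlgebraic_algebraMap_iff (algebraMap K K').injective).mp h)
  have hfr := finrank_adjoin_algebraMap (k := k) (K' := K') x
  have hpos : 0 < Module.finrank k⟮algebraMap K K' x⟯ K' := by
    rw [hfr]
    exact Nat.mul_pos Module.finrank_pos Module.finrank_pos
  haveI : FiniteDimensional k⟮algebraMap K K' x⟯ K' := Module.finite_of_finrank_pos hpos
  exact finiteDimensional_algebraicClosure_of_transcendental hyt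

theorem finiteDimensional_residueField_ext (hK : IsFunctionField k K) (Q : Place k K') :
    FiniteDimensional k (IsLocalRing.ResidueField Q.O) := by
  haveI : Algebra.IsAlgebraic k (algebraicClosure k K') := algebraicClosure.isAlgebraic k K'
  have hK₁ := isFunctionField_algebraicClosure (K' := K') hK
  haveI h2 := finiteDimensional_algebraicClosure_ext (K' := K') hK
  letI a0 : Algebra k (IsLocalRing.ResidueField Q.O) := Place.algRes Q
  letI a1 : Algebra (algebraicClosure k K') (IsLocalRing.ResidueField Q.O) :=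
    Place.algRes (Q.extendConst (algebraicClosure k K'))
  haveI t0 : IsScalarTower k (algebraicClosure k K') (IsLocalRing.ResidueField Q.O) :=
    IsScalarTower.of_algebraMap_eq (fun c => rfl)
  haveI h1 : FiniteDimensional (algebraicClosure k K') (IsLocalRing.ResidueField Q.O) :=
    finiteDimensional_residueField hK₁ (Q.extendConst _)
  exact @Module.Finite.trans k (algebraicClosure k K') (IsLocalRing.ResidueField Q.O)
    _ _ _ _ _ _ t0 h2 h1

/-- Integral over `O_P` iff integral at all places over `P`. -/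
theorem isIntegral_iff_forall_isOver (hK : IsFunctionField k K) (P : Place k K)
    [Algebra P.O K'] [IsScalarTower P.O K K'] (z : K') :
    IsIntegral P.O z ↔ ∀ Q : Place k K', IsOver Q P → Q.1 z ≤ 1 := by
  have hmap : ∀ a : P.O, algebraMap P.O K' a = algebraMap K K' (a : K) := fun a =>
    IsScalarTower.algebraMap_apply P.O K K' a
  constructor
  · rintro hz Q ⟨e, he⟩
    refine val_le_one_of_isIntegral Q.1 (fun a => ?_) hz
    rw [hmap, he]
    exact pow_le_one₀ zero_le a.2
  · intro h
    by_contra hz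
    let R : Subring K' := (integralClosure P.O K').toSubring
    haveI : IsIntegrallyClosedIn R K' :=
      inferInstanceAs (IsIntegrallyClosedIn (integralClosure P.O K') K')
    have hzR : z ∉ R := hz
    obtain ⟨V, hRV, hzV⟩ := Subring.exists_le_valuationSubring_of_isIntegrallyClosedIn hzR
    haveI : Algebra.IsAlgebraic k (algebraicClosure k K') := algebraicClosure.isAlgebraic k K'
    have hK₁ := isFunctionField_algebraicClosure (K' := K') hK
    have hPV : ∀ a : K, P.1 a ≤ 1 → algebraMap K K' a ∈ V := by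
      intro a ha
      apply hRV
      show IsIntegral P.O (algebraMap K K' a)
      have := isIntegral_algebraMap (R := P.O) (A := K')
        (x := ⟨a, (Valuation.mem_valuationSubring_iff _ _).mpr ha⟩)
      rwa [hmap] at this
    have hk₁V : ∀ c : algebraicClosure k K', algebraMap (algebraicClosure k K') K' c ∈ V := by
      intro c
      have hc : IsIntegral k (c : K') := (mem_algebraicClosure_iff.mp c.2).isIntegral
      have := val_le_one_of_isIntegral (R := k) V.valuation (fun r => ?_) hc
      · exact (V.valuation_le_one_iff _).mp this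
      · rw [V.valuation_le_one_iff, IsScalarTower.algebraMap_apply k K K']
        exact hPV _ (P.2.1 r)
    have hne : V ≠ ⊤ := fun htop => hzV (htop ▸ ValuationSubring.mem_top z)
    obtain ⟨Q₁, hQ₁⟩ := exists_place_of_valuationSubring hK₁ V hk₁V hne
    obtain ⟨Q, hQdef⟩ : ∃ Q : Place k K', Q = Q₁.restrictConst (algebraicClosure k K') :=
      ⟨_, rfl⟩
    have hQval : ∀ x : K', Q.1 x ≤ 1 ↔ x ∈ V := fun x => by
      rw [hQdef]
      exact hQ₁ x
    obtain ⟨P₀, e, he⟩ := exists_isOverWith hK Q
    have hP0 : P = P₀ := by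
      apply Place.eq_of_forall_le_one
      intro a ha
      have h1 : Q.1 (algebraMap K K' a) ≤ 1 := (hQval _).mpr (hPV a ha)
      rw [he] at h1
      by_contra hlt
      push Not at hlt
      exact absurd h1 (not_le.mpr (one_lt_pow₀ hlt he.pos.ne'))
    subst hP0
    exact hzV ((hQval z).mp (h Q ⟨e, he⟩))

/-- `dim_k RO / TO = [K' : K] deg P`. -/
theorem finrank_relQ_TO_RO (hK : IsFunctionField k K) (P : Place k K) :
    TO K' P ≤ RO K' P ∧ FiniteDimensional k (relQ (TO K' P) (RO K' P)) ∧
      Module.finrank k (relQ (TO K' P) (RO K' P)) = Module.finrank K K' * P.deg := by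
  classical
  have hfin := finite_isOver (K' := K') hK P
  obtain ⟨S, hS⟩ : ∃ S : Finset (Place k K'), S = hfin.toFinset := ⟨_, rfl⟩
  obtain ⟨E, hE⟩ : ∃ E : Divisor k K', E = conormP hfin := ⟨_, rfl⟩
  have hSmem : ∀ Q, Q ∈ S ↔ IsOver Q P := fun Q => by
    rw [hS]
    exact hfin.mem_toFinset
  have hEQ : ∀ Q, E Q = ramIdx Q P := fun Q => by rw [hE, conormP_apply]
  have hRO : RO K' P = LS S 0 := by
    ext z
    constructor
    · intro hz Q hQ
      rw [Finsupp.coe_zero, Pi.zero_apply, exp_zero]
      exact hz Q ((hSmem Q).mp hQ)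
    · intro hz Q hQ
      have := hz Q ((hSmem Q).mpr hQ)
      rwa [Finsupp.coe_zero, Pi.zero_apply, exp_zero] at this
  have hTO : TO K' P = LS S (-E) := by
    ext z
    constructor
    · intro hz Q hQ
      rw [Finsupp.neg_apply, hEQ]
      exact hz Q ((hSmem Q).mp hQ)
    · intro hz Q hQ
      have := hz Q ((hSmem Q).mpr hQ)
      rwa [Finsupp.neg_apply, hEQ] at this
  have hEnn : (0 : Divisor k K') ≤ E := fun Q => by
    rw [Finsupp.coe_zero, Pi.zero_apply, hEQ]
    exact Int.natCast_nonneg _
  have hchain := relQ_chain (LS S) (↑S : Set (Place k K'))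
    (fun D Q hQ => LS_step' S D Q (Finset.mem_coe.mp hQ)
      (finiteDimensional_residueField_ext hK Q)) E hEnn
    (fun Q hQ => by
      rw [Finset.mem_coe, hSmem]
      by_contra hno
      apply hQ
      rw [hEQ, ramIdx_eq_zero hno, Nat.cast_zero]) (-E)
  rw [neg_add_cancel] at hchain
  obtain ⟨h1, h2, h3⟩ := hchain
  rw [hRO, hTO]
  refine ⟨h1, h2, ?_⟩
  have hdeg : Divisor.deg E = (Module.finrank K K' : ℤ) * P.deg := by
    rw [hE]
    exact deg_conormP hK P
  rw [hdeg] at h3
  exact_mod_cast h3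

/-- A family in `RO` which is `O_P`-independent modulo `TO`. -/
def Indep (P : Place k K) (m : ℕ) (z : Fin m → K') : Prop :=
  (∀ i, z i ∈ RO K' P) ∧ ∀ c : Fin m → K, (∀ i, P.1 (c i) ≤ 1) →
    ∑ i, algebraMap K K' (c i) * z i ∈ TO K' P → ∀ i, P.1 (c i) < 1

omit [FiniteDimensional K K'] [IsScalarTower k K K'] in
theorem Indep.linearIndependent {P : Place k K} {m : ℕ} {z : Fin m → K'} (h : Indep P m z) :
    LinearIndependent K z := by
  classical
  rw [Fintype.linearIndependent_iff]
  intro c hsum
  by_contra hne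
  push Not at hne
  obtain ⟨i₁, hi₁⟩ := hne
  obtain ⟨i₀, -, hmax⟩ := Finset.exists_max_image Finset.univ (fun i => P.1 (c i))
    ⟨i₁, Finset.mem_univ _⟩
  have hc0 : c i₀ ≠ 0 := by
    intro h0
    have := hmax i₁ (Finset.mem_univ _)
    rw [h0, map_zero] at this
    exact hi₁ ((map_eq_zero _).mp (le_antisymm this zero_le))
  have hv0 : P.1 (c i₀) ≠ 0 := (_root_.map_ne_zero _).mpr hc0
  have key := h.2 (fun i => c i / c i₀) (fun i => ?_) ?_ i₀
  · rw [div_self hc0, map_one] at key
    exact lt_irrefl _ key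
  · rw [map_div₀]
    exact (div_le_one₀ (zero_lt_iff.mpr hv0)).mpr (hmax i (Finset.mem_univ i))
  · have : ∑ i, algebraMap K K' (c i / c i₀) * z i =
        algebraMap K K' (c i₀)⁻¹ * ∑ i, c i • z i := by
      rw [Finset.mul_sum]
      refine Finset.sum_congr rfl (fun i _ => ?_)
      rw [Algebra.smul_def, div_eq_mul_inv, map_mul]
      ring
    rw [this, hsum, mul_zero]
    exact (TO K' P).zero_mem

theorem Indep.exists_coeffs {P : Place k K} {z : Fin (Module.finrank K K') → K'}
    (h : Indep P _ z) {r : K'} (hr : r ∈ RO K' P) :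
    ∃ c : Fin (Module.finrank K K') → K, (∀ i, P.1 (c i) ≤ 1) ∧
      r = ∑ i, algebraMap K K' (c i) * z i := by
  classical
  have hli := h.linearIndependent
  have hspan := hli.span_eq_top_of_card_eq_finrank' (by simp)
  have hr' : r ∈ Submodule.span K (Set.range z) := by
    rw [hspan]
    trivial
  obtain ⟨c, hc⟩ := (Submodule.mem_span_range_iff_exists_fun K).mp hr'
  refine ⟨c, ?_, by
    rw [← hc]
    exact Finset.sum_congr rfl (fun i _ => Algebra.smul_def _ _)⟩
  by_contra hbad
  push Not at hbad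
  obtain ⟨i₁, hi₁⟩ := hbad
  obtain ⟨i₀, -, hmax⟩ := Finset.exists_max_image Finset.univ (fun i => P.1 (c i))
    ⟨i₁, Finset.mem_univ _⟩
  have h1 : 1 < P.1 (c i₀) := lt_of_lt_of_le hi₁ (hmax i₁ (Finset.mem_univ _))
  have hc0 : c i₀ ≠ 0 := by
    rintro h0
    rw [h0, map_zero] at h1
    exact absurd h1 (not_lt.mpr zero_le)
  have hv0 : P.1 (c i₀) ≠ 0 := (_root_.map_ne_zero _).mpr hc0
  have key := h.2 (fun i => c i / c i₀) (fun i => ?_) ?_ i₀
  · rw [div_self hc0, map_one] at key
    exact lt_irrefl _ key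
  · rw [map_div₀]
    exact (div_le_one₀ (zero_lt_iff.mpr hv0)).mpr (hmax i (Finset.mem_univ i))
  · have : ∑ i, algebraMap K K' (c i / c i₀) * z i = algebraMap K K' (c i₀)⁻¹ * r := by
      rw [← hc, Finset.mul_sum]
      refine Finset.sum_congr rfl (fun i _ => ?_)
      rw [Algebra.smul_def, div_eq_mul_inv, map_mul]
      ring
    rw [this]
    refine alg_mul_mem_TO P ?_ hr
    rw [map_inv₀]
    exact inv_lt_one_of_one_lt₀ h1

omit [Field K'] [Algebra K K'] [Algebra k K'] [IsScalarTower k K K'] [FiniteDimensional K K'] in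
/-- Lifts of a `k`-basis of the residue field. -/
theorem exists_residue_lifts (hK : IsFunctionField k K) (P : Place k K) :
    ∃ w : Fin P.deg → K, (∀ j, P.1 (w j) ≤ 1) ∧
      ∀ c : K, P.1 c ≤ 1 → ∃ a : Fin P.deg → k, P.1 (c - ∑ j, a j • w j) < 1 := by
  classical
  haveI := finiteDimensional_residueField hK P
  let b : Module.Basis (Fin P.deg) k (IsLocalRing.ResidueField P.O) :=
    Module.finBasis k (IsLocalRing.ResidueField P.O)
  choose u hu using fun j => IsLocalRing.residue_surjective (b j)
  refine ⟨fun j => (u j : K), fun j => (u j).2, ?_⟩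
  intro c hc
  obtain ⟨cO, hcO⟩ : ∃ cO : P.O, (cO : K) = c :=
    ⟨⟨c, (Valuation.mem_valuationSubring_iff _ _).mpr hc⟩, rfl⟩
  refine ⟨fun j => b.repr (IsLocalRing.residue P.O cO) j, ?_⟩
  have hres : ∀ (a : k) (v : P.O), IsLocalRing.residue P.O (a • v) =
      a • IsLocalRing.residue P.O v := by
    intro a v
    rw [Algebra.smul_def, Algebra.smul_def, map_mul]
    rfl
  have h0 : IsLocalRing.residue P.O
      (cO - ∑ j, (b.repr (IsLocalRing.residue P.O cO) j) • u j) = 0 := by
    rw [map_sub, map_sum]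
    simp only [hres, hu]
    have h1 : ∑ x, (b.repr (IsLocalRing.residue P.O cO)) x • b x = IsLocalRing.residue P.O cO :=
      b.sum_repr _
    rw [h1, sub_self]
  rw [P.residue_eq_zero_iff] at h0
  have hcoe : ((cO - ∑ j, (b.repr (IsLocalRing.residue P.O cO) j) • u j : P.O) : K) =
      c - ∑ j, (b.repr (IsLocalRing.residue P.O cO) j) • (u j : K) := by
    rw [← hcO]
    push_cast
    congr 1
    refine Finset.sum_congr rfl (fun j _ => ?_)
    rw [Algebra.smul_def, Algebra.smul_def]
    rfl
  rw [hcoe] at h0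
  exact h0

theorem Indep.exists_snoc (hK : IsFunctionField k K) {P : Place k K} {m : ℕ} {z : Fin m → K'}
    (h : Indep P m z) (hm : m < Module.finrank K K') :
    ∃ r : K', Indep P (m + 1) (Fin.snoc z r : Fin (m + 1) → K') := by
  classical
  by_contra hno
  push Not at hno
  obtain ⟨hle, hfd, hrank⟩ := finrank_relQ_TO_RO (K' := K') hK P
  obtain ⟨w, hw1, hw2⟩ := exists_residue_lifts hK P
  let v : Fin m × Fin P.deg → K' := fun p => algebraMap K K' (w p.2) * z p.1
  have hv : ∀ p, v p ∈ RO K' P := fun p => alg_mul_mem_RO P (hw1 p.2) (h.1 p.1)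
  let Φ : (Fin m × Fin P.deg → k) →ₗ[k] K' := Fintype.linearCombination k v
  have hΦ : ∀ a, Φ a ∈ RO K' P := fun a => by
    show Fintype.linearCombination k v a ∈ RO K' P
    rw [Fintype.linearCombination_apply]
    exact Submodule.sum_mem _ (fun p _ => Submodule.smul_mem _ _ (hv p))
  let Ψ : (Fin m × Fin P.deg → k) →ₗ[k] relQ (TO K' P) (RO K' P) :=
    (Submodule.comap (RO K' P).subtype (TO K' P)).mkQ ∘ₗ (Φ.codRestrict (RO K' P) hΦ)
  have hsurj : Function.Surjective Ψ := by
    intro ξ
    obtain ⟨⟨r, hr⟩, rfl⟩ := Submodule.mkQ_surjective _ ξ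
    have hmemall : ∀ i, (Fin.snoc z r : Fin (m + 1) → K') i ∈ RO K' P := by
      intro i
      refine Fin.lastCases ?_ (fun j => ?_) i
      · rw [Fin.snoc_last]
        exact hr
      · rw [Fin.snoc_castSucc]
        exact h.1 j
    have hnot : ¬ ∀ c : Fin (m + 1) → K, (∀ i, P.1 (c i) ≤ 1) →
        ∑ i, algebraMap K K' (c i) * (Fin.snoc z r : Fin (m + 1) → K') i ∈ TO K' P →
        ∀ i, P.1 (c i) < 1 := fun hall => hno r ⟨hmemall, hall⟩
    push Not at hnot
    obtain ⟨c, hc1, hcsum, i₁, hi₁⟩ := hnot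
    rw [Fin.sum_univ_castSucc] at hcsum
    simp only [Fin.snoc_castSucc, Fin.snoc_last] at hcsum
    have hlast : P.1 (c (Fin.last m)) = 1 := by
      by_contra hne
      have hlt : P.1 (c (Fin.last m)) < 1 := lt_of_le_of_ne (hc1 _) hne
      have h1 : algebraMap K K' (c (Fin.last m)) * r ∈ TO K' P := alg_mul_mem_TO P hlt hr
      have h2 : ∑ i : Fin m, algebraMap K K' (c i.castSucc) * z i ∈ TO K' P := by
        have := (TO K' P).sub_mem hcsum h1
        rwa [add_sub_cancel_right] at this
      have h3 := h.2 (fun i => c i.castSucc) (fun i => hc1 _) h2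
      have : P.1 (c i₁) < 1 :=
        Fin.lastCases (motive := fun i => P.1 (c i) < 1) hlt (fun j => h3 j) i₁
      exact absurd this (not_lt.mpr hi₁)
    obtain ⟨u, hu⟩ : ∃ u : K, u = c (Fin.last m) := ⟨_, rfl⟩
    rw [← hu] at hlast hcsum
    have hu0 : u ≠ 0 := by
      rintro h0
      rw [h0, map_zero] at hlast
      exact zero_ne_one hlast
    have hinv : P.1 u⁻¹ = 1 := by rw [map_inv₀, hlast, inv_one]
    have h4 : r + ∑ i : Fin m, algebraMap K K' (c i.castSucc / u) * z i ∈ TO K' P := by
      have := alg_mul_mem_TO' P hinv.le hcsum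
      have heq : algebraMap K K' u⁻¹ * (∑ i : Fin m, algebraMap K K' (c i.castSucc) * z i +
          algebraMap K K' u * r) = r + ∑ i : Fin m, algebraMap K K' (c i.castSucc / u) * z i := by
        rw [mul_add, Finset.mul_sum, ← mul_assoc, ← map_mul, inv_mul_cancel₀ hu0, map_one,
          one_mul, add_comm]
        congr 1
        refine Finset.sum_congr rfl (fun i _ => ?_)
        rw [div_eq_mul_inv, map_mul]
        ring
      rwa [heq] at this
    have hdec : ∀ i : Fin m, ∃ a : Fin P.deg → k,
        P.1 (-(c i.castSucc / u) - ∑ j, a j • w j) < 1 := fun i =>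
      hw2 _ (by
        rw [Valuation.map_neg, map_div₀, hlast, div_one]
        exact hc1 _)
    choose a ha using hdec
    refine ⟨fun p => a p.1 p.2, ?_⟩
    symm
    show (Submodule.comap (RO K' P).subtype (TO K' P)).mkQ ⟨r, hr⟩ =
      (Submodule.comap (RO K' P).subtype (TO K' P)).mkQ
        (Φ.codRestrict (RO K' P) hΦ (fun p => a p.1 p.2))
    rw [← sub_eq_zero, ← map_sub, Submodule.mkQ_apply, Submodule.Quotient.mk_eq_zero,
      Submodule.mem_comap]
    show r - Φ (fun p => a p.1 p.2) ∈ TO K' P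
    have hΦa : Φ (fun p => a p.1 p.2) =
        ∑ i : Fin m, algebraMap K K' (∑ j, a i j • w j) * z i := by
      show Fintype.linearCombination k v _ = _
      rw [Fintype.linearCombination_apply, Fintype.sum_prod_type]
      refine Finset.sum_congr rfl (fun i _ => ?_)
      rw [map_sum, Finset.sum_mul]
      refine Finset.sum_congr rfl (fun j _ => ?_)
      show a i j • (algebraMap K K' (w j) * z i) = algebraMap K K' (a i j • w j) * z i
      rw [Algebra.smul_def (a i j) (w j), map_mul, ← IsScalarTower.algebraMap_apply,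
        Algebra.smul_def, mul_assoc]
    have hsplit : r - Φ (fun p => a p.1 p.2) =
        (r + ∑ i : Fin m, algebraMap K K' (c i.castSucc / u) * z i) +
          ∑ i : Fin m, algebraMap K K' (-(c i.castSucc / u) - ∑ j, a i j • w j) * z i := by
      rw [hΦa]
      simp only [map_sub, map_neg, sub_mul, neg_mul, Finset.sum_sub_distrib,
        Finset.sum_neg_distrib]
      ring
    rw [hsplit]
    exact (TO K' P).add_mem h4
      (Submodule.sum_mem _ (fun i _ => alg_mul_mem_TO P (ha i) (h.1 i)))
  haveI := hfd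
  have h5 : Module.finrank k (relQ (TO K' P) (RO K' P)) ≤ m * P.deg := by
    have := LinearMap.finrank_range_le Ψ
    rw [LinearMap.range_eq_top.mpr hsurj, finrank_top] at this
    calc _ ≤ Module.finrank k (Fin m × Fin P.deg → k) := this
      _ = m * P.deg := by
          rw [Module.finrank_fintype_fun_eq_card, Fintype.card_prod, Fintype.card_fin,
            Fintype.card_fin]
  rw [hrank] at h5
  have hdpos : 0 < P.deg := P.deg_pos hK
  have := Nat.le_of_mul_le_mul_right h5 hdpos
  omega

theorem exists_indep (hK : IsFunctionField k K) (P : Place k K) :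
    ∀ m, m ≤ Module.finrank K K' → ∃ z : Fin m → K', Indep P m z := by
  intro m
  induction m with
  | zero =>
    intro _
    exact ⟨Fin.elim0, fun i => i.elim0, fun c _ _ i => i.elim0⟩
  | succ m ih =>
    intro hm
    obtain ⟨z, hz⟩ := ih (by omega)
    obtain ⟨r, hr⟩ := hz.exists_snoc hK (by omega)
    exact ⟨_, hr⟩

/-- An integral basis at `P`: a `K`-basis of `K'` generating, over `O_P`, the ring of elements
integral at all places over `P`. -/
theorem exists_integral_basis (hK : IsFunctionField k K) (P : Place k K) :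
    ∃ z : Fin (Module.finrank K K') → K', LinearIndependent K z ∧ (∀ i, z i ∈ RO K' P) ∧
      (∀ c : Fin (Module.finrank K K') → K, (∀ i, P.1 (c i) ≤ 1) →
        ∑ i, algebraMap K K' (c i) * z i ∈ TO K' P → ∀ i, P.1 (c i) < 1) ∧
      ∀ r ∈ RO K' P, ∃ c : Fin (Module.finrank K K') → K, (∀ i, P.1 (c i) ≤ 1) ∧
        r = ∑ i, algebraMap K K' (c i) * z i := by
  obtain ⟨z, hz⟩ := exists_indep (K' := K') hK P _ le_rfl
  exact ⟨z, hz.linearIndependent, hz.1, hz.2, fun r hr => hz.exists_coeffs hr⟩

/-- S10981. -/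
theorem integralClosure_finite (hK : IsFunctionField k K) (P : Place k K)
    [Algebra P.O K'] [IsScalarTower P.O K K'] :
    Module.Finite P.O (integralClosure P.O K') := by
  obtain ⟨z, -, hz1, -, hz2⟩ := exists_integral_basis (K' := K') hK P
  have hmap : ∀ a : P.O, algebraMap P.O K' a = algebraMap K K' (a : K) := fun a =>
    IsScalarTower.algebraMap_apply P.O K K' a
  have hmem : ∀ r : K', r ∈ integralClosure P.O K' ↔ r ∈ RO K' P := fun r =>
    isIntegral_iff_forall_isOver hK P r
  have heq : Subalgebra.toSubmodule (integralClosure P.O K') =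
      Submodule.span P.O (Set.range z) := by
    apply le_antisymm
    · intro r hr
      obtain ⟨c, hc, rfl⟩ := hz2 r ((hmem r).mp hr)
      refine Submodule.sum_mem _ (fun i _ => ?_)
      have : algebraMap K K' (c i) * z i =
          (⟨c i, (Valuation.mem_valuationSubring_iff _ _).mpr (hc i)⟩ : P.O) • z i := by
        rw [Algebra.smul_def, hmap]
      rw [this]
      exact Submodule.smul_mem _ _ (Submodule.subset_span ⟨i, rfl⟩)
    · rw [Submodule.span_le]
      rintro _ ⟨i, rfl⟩
      exact (hmem _).mpr (hz1 i)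
  have hfg : (Subalgebra.toSubmodule (integralClosure P.O K')).FG := by
    rw [heq]
    exact Submodule.fg_span (Set.finite_range z)
  exact Module.Finite.iff_fg.mpr hfg

end Ext

end FunFld
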