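import Mathlib
import Groth.Agent.Lib.FunFldIntCl_helper2

/-! Norm formula `deg P · v_P(N x) = ∑_{Q|P} deg Q · v_Q(x)` (helper2). -/

open Polynomial IntermediateField WithZero Module

namespace FunFld

section Abstract

variable {R S ι : Type*} [CommRing R] [IsDomain R] [IsPrincipalIdealRing R] [CommRing S]
  [IsDomain S] [Algebra R S] [Fintype ι]

/-- The product of the Smith coefficients of a principal ideal is associated to the norm of
its generator. -/
theorem associated_prod_smithCoeffs_norm (b : Basis ι R S) (x : S)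
    (hI : Ideal.span ({x} : Set S) ≠ ⊥) :
    Associated (∏ i, (Ideal.span ({x} : Set S)).smithCoeffs b hI i) (Algebra.norm R x) := by
  classical
  obtain ⟨I, hIdef⟩ : ∃ I : Ideal S, I = Ideal.span ({x} : Set S) := ⟨_, rfl⟩
  have hx0 : x ≠ 0 := fun h => hI (by rw [h]; exact Ideal.span_singleton_eq_bot.mpr rfl)
  subst hIdef
  set I := Ideal.span ({x} : Set S) with hIdef
  let a := I.smithCoeffs b hI
  let b' := I.ringBasis b hI
  let ab := I.selfBasis b hI
  have ab_eq := I.selfBasis_def b hI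
  let e' : S ≃ₗ[R] I := b'.equiv ab (Equiv.refl _)
  let f : S →ₗ[R] S := (I.subtype.restrictScalars R).comp (e' : S →ₗ[R] I)
  have ha : ∀ i, f (b' i) = a i • b' i := by
    intro i
    change ((b'.equiv ab (Equiv.refl _) (b' i) : I) : S) = _
    rw [b'.equiv_apply, Equiv.refl_apply, ab_eq]
  have hdet : LinearMap.det f = ∏ i, a i := by
    rw [← LinearMap.det_toMatrix b']
    have : LinearMap.toMatrix b' b' f = Matrix.diagonal a := by
      ext i j
      rw [LinearMap.toMatrix_apply, ha, LinearEquiv.map_smul, Basis.repr_self, Finsupp.smul_apply,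
        smul_eq_mul]
      by_cases h : i = j
      · rw [h, Matrix.diagonal_apply_eq, Finsupp.single_eq_same, mul_one]
      · rw [Matrix.diagonal_apply_ne _ h, Finsupp.single_apply, if_neg (Ne.symm h), mul_zero]
    rw [this, Matrix.det_diagonal]
  let g : S →ₗ[R] I :=
    { toFun := fun s => ⟨x * s, Ideal.mul_mem_right _ _ (Ideal.mem_span_singleton_self x)⟩
      map_add' := fun s t => Subtype.ext (mul_add x s t)
      map_smul' := fun r s => Subtype.ext (mul_smul_comm r x s) }
  have hg : Function.Bijective g := by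
    constructor
    · intro s t hst
      have : x * s = x * t := congrArg Subtype.val hst
      exact mul_left_cancel₀ hx0 this
    · rintro ⟨y, hy⟩
      obtain ⟨c, hc⟩ := Ideal.mem_span_singleton'.mp hy
      exact ⟨c, Subtype.ext (by change x * c = y; rw [mul_comm, hc])⟩
  let e : S ≃ₗ[R] I := LinearEquiv.ofBijective g hg
  have hnorm : Algebra.norm R x =
      LinearMap.det ((I.subtype.restrictScalars R).comp (e : S →ₗ[R] I)) := by
    rw [Algebra.norm_apply]
    congr 1
  rw [hnorm, ← hdet]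
  exact LinearMap.associated_det_comp_equiv _ _ _

end Abstract

section PO

variable {k K : Type*} [Field k] [Field K] [Algebra k K]

instance Place.isScalarTower_k_O_K (P : Place k K) : IsScalarTower k P.O K :=
  IsScalarTower.of_algebraMap_eq (fun _ => rfl)

theorem Place.coe_ne_zero (P : Place k K) {a : P.O} (ha : a ≠ 0) : (a : K) ≠ 0 := fun h =>
  ha (Subtype.ext h)

theorem Place.ord_coe_nonneg (P : Place k K) (a : P.O) : 0 ≤ P.ord (a : K) := by
  by_cases ha : (a : K) = 0
  · rw [ha, Place.ord_zero]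
  · exact (P.ord_nonneg_iff ha).mpr ((Valuation.mem_valuationSubring_iff _ _).mp a.2)

theorem Place.isPrincipalIdealRing_O (P : Place k K) : IsPrincipalIdealRing P.O := by
  classical
  refine ⟨fun I => ?_⟩
  by_cases hI : I = ⊥
  · rw [hI]; exact bot_isPrincipal
  have hex : ∃ n : ℕ, ∃ a ∈ I, a ≠ 0 ∧ P.ord (a : K) = n := by
    obtain ⟨a, haI, ha0⟩ := Submodule.exists_mem_ne_zero_of_ne_bot hI
    exact ⟨(P.ord (a:K)).toNat, a, haI, ha0, (Int.toNat_of_nonneg (P.ord_coe_nonneg a)).symm⟩
  obtain ⟨a, haI, ha0, han⟩ := Nat.find_spec hex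
  refine ⟨⟨a, ?_⟩⟩
  apply le_antisymm
  · intro b hb
    rw [Submodule.mem_span_singleton]
    by_cases hb0 : b = 0
    · exact ⟨0, by rw [zero_smul, hb0]⟩
    have hbK : (b : K) ≠ 0 := P.coe_ne_zero hb0
    have haK : (a : K) ≠ 0 := P.coe_ne_zero ha0
    have hbn : 0 ≤ P.ord (b : K) := P.ord_coe_nonneg b
    have hmin := Nat.find_min' hex ⟨b, hb, hb0, (Int.toNat_of_nonneg hbn).symm⟩
    have hle : P.ord (a : K) ≤ P.ord (b : K) := by omega
    refine ⟨⟨(b : K) / a, ?_⟩, Subtype.ext ?_⟩
    · rw [Valuation.mem_valuationSubring_iff, map_div₀, P.val_eq_exp_neg_ord hbK,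
        P.val_eq_exp_neg_ord haK, ← exp_sub, ← exp_zero, exp_le_exp]
      omega
    · change (b : K) / a * a = b
      rw [div_mul_cancel₀ _ haK]
  · rw [Submodule.span_le]
    intro c hc
    rw [Set.mem_singleton_iff.mp hc]
    exact haI

/-- `dim_k O_P / (a) = deg P · v_P(a)`. -/
theorem finrank_quot_span_singleton (hK : IsFunctionField k K) (P : Place k K) (a : P.O)
    (ha : a ≠ 0) :
    Module.Finite k (P.O ⧸ Ideal.span ({a} : Set P.O)) ∧
      (Module.finrank k (P.O ⧸ Ideal.span ({a} : Set P.O)) : ℤ) = P.deg * P.ord (a : K) := by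
  classical
  have haK : (a : K) ≠ 0 := P.coe_ne_zero ha
  have hord : 0 ≤ P.ord (a : K) := P.ord_coe_nonneg a
  obtain ⟨m, hm⟩ : ∃ m : ℕ, P.ord (a:K) = m := ⟨_, (Int.toNat_of_nonneg hord).symm⟩
  obtain ⟨E, hE⟩ : ∃ E : Divisor k K, E = Finsupp.single P (m : ℤ) := ⟨_, rfl⟩
  have hE0 : 0 ≤ E := by
    rw [hE]
    exact Finsupp.single_nonneg.mpr (Int.natCast_nonneg m)
  have hchain := relQ_chain (LS ({P} : Finset (Place k K)))
    (↑({P} : Finset (Place k K)) : Set (Place k K))
    (fun D Q hQ => LS_step hK {P} D Q (Finset.mem_coe.mp hQ)) E hE0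
    (fun Q hQ => by
      rw [Finset.mem_coe, Finset.mem_singleton]
      by_contra hno
      apply hQ
      rw [hE, Finsupp.single_apply, if_neg (fun h => hno h.symm)]) (-E)
  rw [neg_add_cancel] at hchain
  obtain ⟨h1, h2, h3⟩ := hchain
  have hmem0 : ∀ r : K, r ∈ LS ({P} : Finset (Place k K)) 0 ↔ P.1 r ≤ 1 := fun r => by
    rw [mem_LS]
    simp only [Finset.mem_singleton, forall_eq, Finsupp.coe_zero, Pi.zero_apply, exp_zero]
  have hmemE : ∀ r : K, r ∈ LS ({P} : Finset (Place k K)) (-E) ↔ P.1 r ≤ P.1 (a : K) := fun r => by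
    rw [mem_LS]
    simp only [Finset.mem_singleton, forall_eq, Finsupp.neg_apply, hE, Finsupp.single_eq_same]
    rw [P.val_eq_exp_neg_ord haK, hm]
  let f : ↥(LS ({P} : Finset (Place k K)) 0) →ₗ[k] (P.O ⧸ Ideal.span ({a} : Set P.O)) :=
    { toFun := fun r => Ideal.Quotient.mk _
        ⟨r.1, (Valuation.mem_valuationSubring_iff _ _).mpr ((hmem0 r.1).mp r.2)⟩
      map_add' := fun r s => by
        rw [← map_add]
        rfl
      map_smul' := fun c r => by
        rw [RingHom.id_apply, Algebra.smul_def]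
        change _ = Ideal.Quotient.mk _ (algebraMap k P.O c) * _
        rw [← map_mul]
        congr 1
        apply Subtype.ext
        change c • (r.1) = algebraMap k K c * r.1
        rw [Algebra.smul_def] }
  have hf : Function.Surjective f := by
    intro y
    obtain ⟨s, rfl⟩ := Ideal.Quotient.mk_surjective y
    exact ⟨⟨s.1, (hmem0 _).mpr ((Valuation.mem_valuationSubring_iff _ _).mp s.2)⟩, rfl⟩
  have hker : LinearMap.ker f = Submodule.comap (LS ({P} : Finset (Place k K)) 0).subtype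
      (LS ({P} : Finset (Place k K)) (-E)) := by
    ext r
    rw [LinearMap.mem_ker, Submodule.mem_comap, Submodule.subtype_apply, hmemE]
    change Ideal.Quotient.mk _ _ = 0 ↔ _
    rw [Ideal.Quotient.eq_zero_iff_mem, Ideal.mem_span_singleton']
    constructor
    · rintro ⟨c, hc⟩
      have hc' : (c : K) * a = r.1 := congrArg Subtype.val hc
      rw [← hc', map_mul]
      exact (mul_le_mul' ((Valuation.mem_valuationSubring_iff _ _).mp c.2) le_rfl).trans_eq
        (one_mul _)
    · intro hle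
      refine ⟨⟨r.1 / a, ?_⟩, Subtype.ext ?_⟩
      · rw [Valuation.mem_valuationSubring_iff, map_div₀]
        exact (div_le_one₀ (zero_lt_iff.mpr ((_root_.map_ne_zero _).mpr haK))).mpr hle
      · change r.1 / a * a = r.1
        rw [div_mul_cancel₀ _ haK]
  have e := relQEquivOfSurjective (LS ({P} : Finset (Place k K)) (-E))
    (LS ({P} : Finset (Place k K)) 0) f hf hker
  refine ⟨Module.Finite.equiv e, ?_⟩
  rw [← e.finrank_eq, h3, hE, deg_single, hm]
  ring

theorem Place.ord_prod (P : Place k K) {ι : Type*} (s : Finset ι) (f : ι → K)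
    (hf : ∀ i ∈ s, f i ≠ 0) : P.ord (∏ i ∈ s, f i) = ∑ i ∈ s, P.ord (f i) := by
  classical
  induction s using Finset.induction_on with
  | empty =>
    rw [Finset.prod_empty, Finset.sum_empty]
    exact (P.ord_eq_zero_iff one_ne_zero).mpr (map_one _)
  | insert a s ha ih =>
    rw [Finset.prod_insert ha, Finset.sum_insert ha,
      P.ord_mul (hf a (Finset.mem_insert_self a s))
        (Finset.prod_ne_zero_iff.mpr (fun i hi => hf i (Finset.mem_insert_of_mem hi))),
      ih (fun i hi => hf i (Finset.mem_insert_of_mem hi))]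

theorem Place.ord_unit (P : Place k K) (u : P.Oˣ) : P.ord ((u : P.O) : K) = 0 := by
  have h1 : P.1 ((u : P.O) : K) ≤ 1 := (Valuation.mem_valuationSubring_iff _ _).mp (u : P.O).2
  have h2 : P.1 (((u⁻¹ : P.Oˣ) : P.O) : K) ≤ 1 :=
    (Valuation.mem_valuationSubring_iff _ _).mp ((u⁻¹ : P.Oˣ) : P.O).2
  have h3 : ((u : P.O) : K) * (((u⁻¹ : P.Oˣ) : P.O) : K) = 1 := by
    have := congrArg (Subtype.val) (u.mul_inv)
    exact this
  have hu0 : ((u : P.O) : K) ≠ 0 := left_ne_zero_of_mul_eq_one h3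
  rw [P.ord_eq_zero_iff hu0]
  apply le_antisymm h1
  have h4 : P.1 ((u : P.O) : K) * P.1 (((u⁻¹ : P.Oˣ) : P.O) : K) = 1 := by
    rw [← map_mul, h3, map_one]
  calc (1 : ℤᵐ⁰) = P.1 ((u : P.O) : K) * P.1 (((u⁻¹ : P.Oˣ) : P.O) : K) := h4.symm
    _ ≤ P.1 ((u : P.O) : K) * 1 := mul_le_mul' le_rfl h2
    _ = _ := mul_one _

end PO

section Ext

variable {k K K' : Type*} [Field k] [Field K] [Field K'] [Algebra k K] [Algebra K K']
    [Algebra k K'] [IsScalarTower k K K'] [FiniteDimensional K K']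

theorem deg_mul_ord_norm_of_mem_RO (hK : IsFunctionField k K) (P : Place k K)
    [Algebra P.O K'] [IsScalarTower P.O K K'] {x : K'} (hx : x ∈ RO K' P) (hx0 : x ≠ 0)
    (Qs : Finset (Place k K')) (hQs : ∀ Q, Q ∈ Qs ↔ IsOver Q P) :
    (P.deg : ℤ) * P.ord (Algebra.norm K x) = ∑ Q ∈ Qs, (Q.deg : ℤ) * Q.ord x := by
  classical
  haveI : IsPrincipalIdealRing P.O := P.isPrincipalIdealRing_O
  have hmap : ∀ a : P.O, algebraMap P.O K' a = algebraMap K K' (a : K) := fun a =>
    IsScalarTower.algebraMap_apply P.O K K' a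
  haveI : IsScalarTower k P.O K' := IsScalarTower.of_algebraMap_eq (fun c => by
    rw [hmap, IsScalarTower.algebraMap_apply k K K']; rfl)
  have hmem : ∀ r : K', r ∈ integralClosure P.O K' ↔ r ∈ RO K' P := fun r =>
    isIntegral_iff_forall_isOver hK P r
  obtain ⟨z, hzli, hz1, -, hz2⟩ := exists_integral_basis (K' := K') hK P
  let v : Fin (finrank K K') → integralClosure P.O K' := fun i => ⟨z i, (hmem _).mpr (hz1 i)⟩
  have hvli : LinearIndependent P.O v := by
    have h1 : LinearIndependent P.O z := hzli.restrict_scalars' P.O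
    exact LinearIndependent.of_comp (integralClosure P.O K').val.toLinearMap h1
  have hvsp : ⊤ ≤ Submodule.span P.O (Set.range v) := by
    rintro s -
    obtain ⟨c, hc, hs⟩ := hz2 s.1 ((hmem _).mp s.2)
    have : s = ∑ i, (⟨c i, (Valuation.mem_valuationSubring_iff _ _).mpr (hc i)⟩ : P.O) • v i := by
      apply Subtype.ext
      rw [hs, AddSubmonoidClass.coe_finsetSum]
      refine Finset.sum_congr rfl (fun i _ => ?_)
      change _ = (⟨c i, _⟩ : P.O) • (z i)
      rw [Algebra.smul_def, hmap]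
    rw [this]
    exact Submodule.sum_mem _ (fun i _ => Submodule.smul_mem _ _ (Submodule.subset_span ⟨i, rfl⟩))
  let b : Basis (Fin (finrank K K')) P.O (integralClosure P.O K') := Basis.mk hvli hvsp
  let x' : integralClosure P.O K' := ⟨x, (hmem x).mpr hx⟩
  have hx'0 : x' ≠ 0 := fun h => hx0 (congrArg Subtype.val h)
  have hI : Ideal.span ({x'} : Set (integralClosure P.O K')) ≠ ⊥ := by
    rwa [Ne, Ideal.span_singleton_eq_bot]
  have hassoc := associated_prod_smithCoeffs_norm b x' hI
  haveI : Module.Free P.O (integralClosure P.O K') := Module.Free.of_basis b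
  haveI : Module.Finite P.O (integralClosure P.O K') := Module.Finite.of_basis b
  haveI : IsLocalization (Algebra.algebraMapSubmonoid (integralClosure P.O K')
      (nonZeroDivisors P.O)) K' :=
    IsIntegralClosure.isLocalization P.O K K' (integralClosure P.O K')
  have hnormloc : Algebra.norm K x = algebraMap P.O K (Algebra.norm P.O x') :=
    Algebra.norm_localization P.O (nonZeroDivisors P.O) x'
  have hane : ∀ i, (Ideal.span ({x'} : Set (integralClosure P.O K'))).smithCoeffs b hI i ≠ 0 :=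
    fun i => Ideal.smithCoeffs_ne_zero b _ hI i
  have hordnorm : P.ord (Algebra.norm K x) =
      ∑ i, P.ord (((Ideal.span ({x'} : Set (integralClosure P.O K'))).smithCoeffs b hI i : P.O) : K) := by
    obtain ⟨u, hu⟩ := hassoc
    rw [hnormloc, ← hu]
    change P.ord (((∏ i, (Ideal.span ({x'} : Set (integralClosure P.O K'))).smithCoeffs b hI i : P.O) : K)
      * ((u : P.O) : K)) = _
    have hprod : ((∏ i, (Ideal.span ({x'} : Set (integralClosure P.O K'))).smithCoeffs b hI i : P.O) : K)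
        = ∏ i, (((Ideal.span ({x'} : Set (integralClosure P.O K'))).smithCoeffs b hI i : P.O) : K) :=
      map_prod P.O.subtype _ _
    have hne : ∀ i ∈ (Finset.univ : Finset (Fin (finrank K K'))),
        (((Ideal.span ({x'} : Set (integralClosure P.O K'))).smithCoeffs b hI i : P.O) : K) ≠ 0 :=
      fun i _ => P.coe_ne_zero (hane i)
    have hu0 : ((u : P.O) : K) ≠ 0 := P.coe_ne_zero u.ne_zero
    rw [hprod, P.ord_mul (Finset.prod_ne_zero_iff.mpr hne) hu0, P.ord_unit, add_zero,
      P.ord_prod _ _ hne]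
  haveI : ∀ i, Module.Finite k (P.O ⧸ Ideal.span
      ({(Ideal.span ({x'} : Set (integralClosure P.O K'))).smithCoeffs b hI i} : Set P.O)) := fun i =>
    (finrank_quot_span_singleton hK P _ (hane i)).1
  have hsum := Ideal.finrank_quotient_eq_sum k hI b
  have hsum' : (Module.finrank k (integralClosure P.O K' ⧸
      Ideal.span ({x'} : Set (integralClosure P.O K'))) : ℤ) =
      P.deg * P.ord (Algebra.norm K x) := by
    rw [hsum, hordnorm, Nat.cast_sum, Finset.mul_sum]
    exact Finset.sum_congr rfl (fun i _ => (finrank_quot_span_singleton hK P _ (hane i)).2)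
  rw [← hsum']
  -- the other computation
  have hordnn : ∀ Q ∈ Qs, 0 ≤ Q.ord x := fun Q hQ =>
    (Q.ord_nonneg_iff hx0).mpr (hx Q ((hQs Q).mp hQ))
  obtain ⟨D, hD⟩ : ∃ D : Divisor k K', D = ∑ Q ∈ Qs, Finsupp.single Q (Q.ord x) := ⟨_, rfl⟩
  have hDapp : ∀ Q, D Q = if Q ∈ Qs then Q.ord x else 0 := fun Q => by
    rw [hD, Finsupp.finsetSum_apply]
    simp only [Finsupp.single_apply]
    rw [Finset.sum_ite_eq']
  have hD0 : 0 ≤ D := fun Q => by
    rw [hDapp, Finsupp.coe_zero, Pi.zero_apply]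
    split_ifs with h
    · exact hordnn Q h
    · exact le_rfl
  have hDdeg : Divisor.deg D = ∑ Q ∈ Qs, (Q.deg : ℤ) * Q.ord x := by
    rw [hD, deg_eq_degAddHomH, map_sum]
    refine Finset.sum_congr rfl (fun Q _ => ?_)
    rw [← deg_eq_degAddHomH, deg_single, mul_comm]
  have hchain := relQ_chain (LS Qs) (↑Qs : Set (Place k K'))
    (fun D Q hQ => LS_step' Qs D Q (Finset.mem_coe.mp hQ)
      (finiteDimensional_residueField_ext hK Q)) D hD0
    (fun Q hQ => by
      rw [Finset.mem_coe]
      by_contra hno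
      apply hQ
      rw [hDapp, if_neg hno]) (-D)
  rw [neg_add_cancel] at hchain
  obtain ⟨h1, h2, h3⟩ := hchain
  have hmem0 : ∀ r : K', r ∈ LS Qs 0 ↔ r ∈ RO K' P := fun r => by
    rw [mem_LS, mem_RO]
    constructor
    · intro h Q hQ
      have := h Q ((hQs Q).mpr hQ)
      rwa [Finsupp.coe_zero, Pi.zero_apply, exp_zero] at this
    · intro h Q hQ
      rw [Finsupp.coe_zero, Pi.zero_apply, exp_zero]
      exact h Q ((hQs Q).mp hQ)
  have hmemD : ∀ r : K', r ∈ LS Qs (-D) ↔ ∀ Q ∈ Qs, Q.1 r ≤ Q.1 x := fun r => by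
    rw [mem_LS]
    refine forall_congr' (fun Q => forall_congr' (fun hQ => ?_))
    rw [Finsupp.neg_apply, hDapp, if_pos hQ, Q.val_eq_exp_neg_ord hx0]
  let f : ↥(LS Qs (0 : Divisor k K')) →ₗ[k] (integralClosure P.O K' ⧸
      Ideal.span ({x'} : Set (integralClosure P.O K'))) :=
    { toFun := fun r => Ideal.Quotient.mk _ ⟨r.1, (hmem _).mpr ((hmem0 r.1).mp r.2)⟩
      map_add' := fun r s => by
        rw [← map_add]
        rfl
      map_smul' := fun c r => by
        rw [RingHom.id_apply]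
        rfl }
  have hf : Function.Surjective f := by
    intro y
    obtain ⟨s, rfl⟩ := Ideal.Quotient.mk_surjective y
    exact ⟨⟨s.1, (hmem0 _).mpr ((hmem _).mp s.2)⟩, rfl⟩
  have hker : LinearMap.ker f = Submodule.comap (LS Qs 0).subtype (LS Qs (-D)) := by
    ext r
    rw [LinearMap.mem_ker, Submodule.mem_comap, Submodule.subtype_apply, hmemD]
    change Ideal.Quotient.mk _ _ = 0 ↔ _
    rw [Ideal.Quotient.eq_zero_iff_mem, Ideal.mem_span_singleton']
    constructor
    · rintro ⟨c, hc⟩ Q hQ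
      have hc' : (c : K') * x = r.1 := congrArg Subtype.val hc
      rw [← hc', map_mul]
      exact (mul_le_mul' ((hmem _).mp c.2 Q ((hQs Q).mp hQ)) le_rfl).trans_eq (one_mul _)
    · intro hle
      refine ⟨⟨r.1 / x, (hmem _).mpr (fun Q hQ => ?_)⟩, Subtype.ext ?_⟩
      · rw [map_div₀]
        exact (div_le_one₀ (zero_lt_iff.mpr ((_root_.map_ne_zero _).mpr hx0))).mpr
          (hle Q ((hQs Q).mpr hQ))
      · change r.1 / x * x = r.1
        rw [div_mul_cancel₀ _ hx0]
  have e := relQEquivOfSurjective (LS Qs (-D)) (LS Qs 0) f hf hker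
  rw [← e.finrank_eq, h3, hDdeg]

/-- S11033: `deg P · v_P(N x) = ∑_{Q | P} deg Q · v_Q(x)`. -/
theorem deg_mul_ord_norm (hK : IsFunctionField k K) (P : Place k K) (x : K')
    (Qs : Finset (Place k K')) (hQs : ∀ Q, Q ∈ Qs ↔ IsOver Q P) :
    (P.deg : ℤ) * P.ord (Algebra.norm K x) = ∑ Q ∈ Qs, (Q.deg : ℤ) * Q.ord x := by
  classical
  letI : Algebra P.O K' := ((algebraMap K K').comp (algebraMap P.O K)).toAlgebra
  haveI : IsScalarTower P.O K K' := IsScalarTower.of_algebraMap_eq (fun _ => rfl)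
  by_cases hx0 : x = 0
  · subst hx0
    rw [Algebra.norm_zero, Place.ord_zero, mul_zero]
    symm
    apply Finset.sum_eq_zero
    intro Q _
    rw [Place.ord_zero, mul_zero]
  have halg : IsAlgebraic P.O x :=
    (IsFractionRing.isAlgebraic_iff P.O K K').mpr (Algebra.IsAlgebraic.isAlgebraic x)
  obtain ⟨y, hy0, hint⟩ := halg.exists_integral_multiple
  have hyK : (y : K) ≠ 0 := P.coe_ne_zero hy0
  have hc'0 : algebraMap K K' (y : K) ≠ 0 := (_root_.map_ne_zero _).mpr hyK
  have hyx : y • x = algebraMap K K' (y : K) * x := by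
    rw [Algebra.smul_def]
    rfl
  rw [hyx] at hint
  have hcx : algebraMap K K' (y : K) * x ∈ RO K' P :=
    (isIntegral_iff_forall_isOver hK P _).mp hint
  have hc' : algebraMap K K' (y : K) ∈ RO K' P := by
    apply (isIntegral_iff_forall_isOver hK P _).mp
    have : algebraMap K K' (y : K) = algebraMap P.O K' y := rfl
    rw [this]
    exact isIntegral_algebraMap
  have h1 := deg_mul_ord_norm_of_mem_RO hK P hcx (mul_ne_zero hc'0 hx0) Qs hQs
  have h2 := deg_mul_ord_norm_of_mem_RO hK P hc' hc'0 Qs hQs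
  have hn1 : Algebra.norm K (algebraMap K K' (y : K)) ≠ 0 := Algebra.norm_ne_zero_iff.mpr hc'0
  have hn2 : Algebra.norm K x ≠ 0 := Algebra.norm_ne_zero_iff.mpr hx0
  rw [map_mul, P.ord_mul hn1 hn2] at h1
  have h3 : ∑ Q ∈ Qs, (Q.deg : ℤ) * Q.ord (algebraMap K K' (y : K) * x) =
      ∑ Q ∈ Qs, (Q.deg : ℤ) * Q.ord (algebraMap K K' (y : K)) + ∑ Q ∈ Qs, (Q.deg : ℤ) * Q.ord x := by
    rw [← Finset.sum_add_distrib]
    refine Finset.sum_congr rfl (fun Q _ => ?_)
    rw [Q.ord_mul hc'0 hx0, mul_add]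
  rw [h3] at h1
  linarith

end Ext

end FunFld
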