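import Mathlib
import Groth.Agent.Lib.FunFldLocResC_helper2
import Groth.Agent.Lib.FunFldNorm_helper2

/-! The different exponent at a place of residue degree one via a uniformizer that is a unit at
the other places over `P` (helper2). -/

open Polynomial IntermediateField WithZero Module

namespace FunFld

universe u v w v' w'

section Main

variable {k : Type u} {K : Type v} {K' : Type v'} [Field k] [Field K] [Field K'] [Algebra k K]
  [Algebra K K'] [Algebra k K'] [IsScalarTower k K K'] [FiniteDimensional K K']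
  {F : Type w} {F' : Type w'} [Field F] [Algebra k F] [Field F'] [Algebra k F']

/-- The computation of `v_Q(f'(s))` for any polynomial `f` killing the uniformizer `s` with
`P`-integral coefficients and constant coefficient a uniformizer at `P`. -/
theorem ord_derivative_eq_diffExp_of_eisenstein (hK : IsFunctionField k K) (hg : IsGeometric k K)
    {P : Place k K} {Q : Place k K'} {e : ℕ} (he : IsOverWith Q P e)
    {φ : K →ₐ[k] LaurentSeries F} (hφ : LocRes.IsExpansionAt P.1 φ)
    {ψ : K' →ₐ[k] LaurentSeries F'} (hψ : LocRes.IsExpansionAt Q.1 ψ)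
    {x : K} (hx : LocRes.vDiff φ 1 x ≠ 0) (hx' : LocRes.vDiff ψ 1 (algebraMap K K' x) ≠ 0)
    {s : K'} (hs : Q.1 s = exp (-1 : ℤ)) {f : K[X]} (hfs : aeval s f = 0)
    (hc0 : P.1 (f.coeff 0) = exp (-1 : ℤ)) (hcall : ∀ i, P.1 (f.coeff i) ≤ 1) :
    Q.ord (aeval s (derivative f)) = LocRes.diffExp φ ψ e x := by
  classical
  obtain ⟨t, ht⟩ := P.exists_uniformizer
  obtain ⟨hvφt, hvψt0, hd⟩ := diffExp_via_uniformizer hK hg he hφ hψ hx hx' ht
  rw [hd]
  -- d/dt of coefficients
  have hvφt0 : LocRes.vDiff φ 1 t ≠ 0 := by rw [hvφt]; exact one_ne_zero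
  have hKt := kaehler_D_ne_zero_of_exp φ (D_exp_ne_zero_of_vDiff hvφt0)
  choose u hu using fun i : ℕ => exists_kaehler_D_eq_smul hK hg hKt (f.coeff i)
  have hDφt : Valued.v (LocRes.D F (φ t)) = 1 := by rw [← vDiff_one_left]; exact hvφt
  have huval : ∀ i, P.1 (u i) = Valued.v (LocRes.D F (φ (f.coeff i))) := by
    intro i
    rw [D_exp_of_kaehler φ (hu i), map_mul, hφ.1, hDφt, mul_one]
  have hule : ∀ i, P.1 (u i) ≤ 1 := by
    intro i
    rw [huval]
    have h1 : Valued.v (φ (f.coeff i)) ≤ exp (-(0 : ℤ)) := by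
      rw [hφ.1, neg_zero, exp_zero]; exact hcall i
    have h2 := laurent_val_D_le_of_cast_eq_zero _ 0 h1 (by simp)
    rwa [neg_zero, exp_zero] at h2
  have hu0 : P.1 (u 0) = 1 := by
    rw [huval]
    have h1 : Valued.v (φ (f.coeff 0)) = exp (-(1 : ℤ)) := by rw [hφ.1, hc0]
    have h2 := laurent_val_D_eq _ 1 h1 (by simp)
    rw [h2]; simp
  -- the main identity
  have hmain := D_exp_aeval ψ f s
  rw [hfs, map_zero, map_zero] at hmain
  have hterm : ∀ i, LocRes.D F' (ψ (algebraMap K K' (f.coeff i))) =
      ψ (algebraMap K K' (u i)) * LocRes.D F' (ψ (algebraMap K K' t)) := fun i =>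
    D_exp_of_kaehler (ψ.comp (IsScalarTower.toAlgHom k K K')) (hu i)
  set g : K' := ∑ i ∈ Finset.range (f.natDegree + 1), algebraMap K K' (u i) * s ^ i with hg'
  have hsum : ∑ i ∈ Finset.range (f.natDegree + 1),
      (ψ s) ^ i * LocRes.D F' (ψ (algebraMap K K' (f.coeff i))) =
      ψ g * LocRes.D F' (ψ (algebraMap K K' t)) := by
    rw [hg', map_sum, Finset.sum_mul]
    refine Finset.sum_congr rfl fun i _ => ?_
    rw [hterm, map_mul, map_pow]
    ring
  rw [hsum] at hmain
  -- valuation of g
  have hgval : Q.1 g = 1 := by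
    rw [hg', Finset.sum_range_succ']
    have h0 : Q.1 (algebraMap K K' (u 0) * s ^ 0) = 1 := by
      rw [pow_zero, mul_one, he (u 0), hu0, one_pow]
    have hsmall : Q.1 (∑ i ∈ Finset.range f.natDegree,
        algebraMap K K' (u (i + 1)) * s ^ (i + 1)) < 1 := by
      apply Valuation.map_sum_lt _ one_ne_zero
      intro i _
      rw [map_mul, he, val_unif_pow_nat Q hs]
      calc P.1 (u (i + 1)) ^ e * exp (-((i + 1 : ℕ) : ℤ))
          ≤ 1 * exp (-((i + 1 : ℕ) : ℤ)) :=
            mul_le_mul' (pow_le_one₀ zero_le (hule _)) le_rfl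
        _ = exp (-((i + 1 : ℕ) : ℤ)) := one_mul _
        _ < 1 := by
            rw [← exp_zero (M := ℤ), exp_lt_exp]
            push_cast
            omega
    rw [Valuation.map_add_eq_of_lt_right _ (by rw [h0]; exact hsmall), h0]
  -- compare valuations
  have hDs : Valued.v (LocRes.D F' (ψ s)) = 1 := by
    have h1 : Valued.v (ψ s) = exp (-(1 : ℤ)) := by rw [hψ.1, hs]
    have h2 := laurent_val_D_eq _ 1 h1 (by simp)
    rw [h2]; simp
  have heq : ψ (aeval s (derivative f)) * LocRes.D F' (ψ s) =
      -(ψ g * LocRes.D F' (ψ (algebraMap K K' t))) := eq_neg_of_add_eq_zero_left hmain.symm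
  have hval := congrArg (fun z : LaurentSeries F' => Valued.v z) heq
  simp only [map_mul, Valuation.map_neg, hψ.1, hDs, mul_one, hgval, one_mul] at hval
  rw [vDiff_one_left, ← hval]
  rfl

/-- Residue degree one: the degrees of the places agree. -/
theorem deg_eq_of_residue_surjective {P : Place k K} {Q : Place k K'} [P.1.HasExtension Q.1]
    (hf : Function.Surjective
      (algebraMap (IsLocalRing.ResidueField P.O) (IsLocalRing.ResidueField Q.O))) :
    Q.deg = P.deg := by
  have hbij : Function.Bijective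
      (algebraMap (IsLocalRing.ResidueField P.O) (IsLocalRing.ResidueField Q.O)) :=
    ⟨RingHom.injective
      (algebraMap (IsLocalRing.ResidueField P.O) (IsLocalRing.ResidueField Q.O)), hf⟩
  let g : IsLocalRing.ResidueField P.O →ₗ[k] IsLocalRing.ResidueField Q.O :=
    { toFun := algebraMap _ _
      map_add' := map_add _
      map_smul' := fun c z => by
        have h1 : c • z = algebraMap k (IsLocalRing.ResidueField P.O) c * z :=
          Algebra.smul_def c z
        have h2 : ∀ y : IsLocalRing.ResidueField Q.O,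
            c • y = algebraMap k (IsLocalRing.ResidueField Q.O) c * y := fun y =>
          Algebra.smul_def c y
        have h3 : algebraMap (IsLocalRing.ResidueField P.O) (IsLocalRing.ResidueField Q.O)
            (algebraMap k (IsLocalRing.ResidueField P.O) c) =
            algebraMap k (IsLocalRing.ResidueField Q.O) c := by
          show algebraMap _ _ (IsLocalRing.residue P.O (algebraMap k P.O c)) =
            IsLocalRing.residue Q.O (algebraMap k Q.O c)
          rw [Valuation.HasExtension.algebraMap_residue_eq_residue_algebraMap]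
          congr 1
          apply Subtype.ext
          show algebraMap K K' (algebraMap k K c) = algebraMap k K' c
          exact (IsScalarTower.algebraMap_apply k K K' c).symm
        simp only [RingHom.id_apply]
        calc algebraMap (IsLocalRing.ResidueField P.O) (IsLocalRing.ResidueField Q.O) (c • z)
            = algebraMap (IsLocalRing.ResidueField P.O) (IsLocalRing.ResidueField Q.O)
                (algebraMap k (IsLocalRing.ResidueField P.O) c * z) := congrArg _ h1
          _ = algebraMap k (IsLocalRing.ResidueField Q.O) c *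
                algebraMap (IsLocalRing.ResidueField P.O) (IsLocalRing.ResidueField Q.O) z := by
              rw [map_mul, h3]
          _ = c • algebraMap (IsLocalRing.ResidueField P.O) (IsLocalRing.ResidueField Q.O) z :=
              (h2 _).symm }
  unfold Place.deg
  exact (LinearEquiv.ofBijective g hbij).finrank_eq.symm

/-- If `s` is a uniformizer at `Q` (of residue degree one over `P`) and a unit at the other places
over `P`, then `s` generates `K'/K` and its minimal polynomial is Eisenstein at `P`. -/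
theorem adjoin_eq_top_and_eisenstein (hK : IsFunctionField k K) [Algebra.IsSeparable K K']
    {P : Place k K} {Q : Place k K'} {e : ℕ} (he : IsOverWith Q P e) [P.1.HasExtension Q.1]
    (hf : Function.Surjective
      (algebraMap (IsLocalRing.ResidueField P.O) (IsLocalRing.ResidueField Q.O)))
    {s : K'} (hs : Q.1 s = exp (-1 : ℤ))
    (hs' : ∀ Q' : Place k K', IsOver Q' P → Q' ≠ Q → Q'.1 s = 1) :
    IntermediateField.adjoin K ({s} : Set K') = ⊤ ∧
      P.1 ((minpoly K s).coeff 0) = exp (-1 : ℤ) ∧ ∀ i, P.1 ((minpoly K s).coeff i) ≤ 1 := by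
  classical
  letI : Algebra P.O K' := ((algebraMap K K').comp (algebraMap P.O K)).toAlgebra
  haveI : IsScalarTower P.O K K' := IsScalarTower.of_algebraMap_eq (fun _ => rfl)
  have hQP : IsOver Q P := ⟨e, he⟩
  have hsRO : ∀ Q' : Place k K', IsOver Q' P → Q'.1 s ≤ 1 := by
    intro Q' hQ'
    by_cases h : Q' = Q
    · rw [h, hs]
      calc exp (-1 : ℤ) ≤ exp (0 : ℤ) := exp_le_exp.mpr (by norm_num)
        _ = 1 := exp_zero
    · exact (hs' Q' hQ' h).le
  have hint : IsIntegral P.O s := (isIntegral_iff_forall_isOver hK P s).mpr hsRO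
  have hmp : minpoly K s = (minpoly P.O s).map (algebraMap P.O K) :=
    minpoly.isIntegrallyClosed_eq_field_fractions' K hint
  have hcall : ∀ i, P.1 ((minpoly K s).coeff i) ≤ 1 := by
    intro i
    rw [hmp, coeff_map]
    exact (Valuation.mem_valuationSubring_iff _ _).mp ((minpoly P.O s).coeff i).2
  have hdeg : Q.deg = P.deg := deg_eq_of_residue_surjective hf
  have hfin := finite_isOver (K' := K') hK P
  obtain ⟨Qs, hQs⟩ : ∃ Qs : Finset (Place k K'), ∀ Q', Q' ∈ Qs ↔ IsOver Q' P :=
    ⟨hfin.toFinset, fun Q' => by rw [Set.Finite.mem_toFinset]; rfl⟩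
  have hnorm := deg_mul_ord_norm hK P s Qs hQs
  have hsum : ∑ Q' ∈ Qs, (Q'.deg : ℤ) * Q'.ord s = (Q.deg : ℤ) := by
    rw [Finset.sum_eq_single_of_mem Q ((hQs Q).mpr hQP)]
    · unfold Place.ord
      rw [hs, log_exp]
      ring
    · intro Q' hQ' hne
      unfold Place.ord
      rw [hs' Q' ((hQs Q').mp hQ') hne, log_one, neg_zero, mul_zero]
  have hPpos : 0 < P.deg := Place.deg_pos hK P
  have hordN : P.ord (Algebra.norm K s) = 1 := by
    rw [hsum, hdeg] at hnorm
    have h0 : (P.deg : ℤ) * (P.ord (Algebra.norm K s) - 1) = 0 := by linarith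
    rcases mul_eq_zero.mp h0 with h | h
    · exact absurd (by exact_mod_cast h) hPpos.ne'
    · linarith
  have hintK : IsIntegral K s := Algebra.IsIntegral.isIntegral s
  have hs0 : s ≠ 0 := uniformizer_ne_zero Q hs
  have ha0 : (minpoly K s).coeff 0 ≠ 0 := minpoly.coeff_zero_ne_zero hintK hs0
  set m := finrank K⟮s⟯ K' with hm
  have hN : Algebra.norm K s =
      ((-1) ^ (minpoly K s).natDegree * (minpoly K s).coeff 0) ^ m := by
    rw [Algebra.norm_eq_norm_adjoin K s]
    congr 1
    have h1 := Algebra.PowerBasis.norm_gen_eq_coeff_zero_minpoly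
      (IntermediateField.adjoin.powerBasis hintK)
    rw [IntermediateField.adjoin.powerBasis_gen, IntermediateField.minpoly_gen,
      IntermediateField.adjoin.powerBasis_dim] at h1
    exact h1
  have hNs0 : Algebra.norm K s ≠ 0 := Algebra.norm_ne_zero_iff.mpr hs0
  have hvalN : P.1 (Algebra.norm K s) = exp (-(1 : ℤ)) := by
    rw [P.val_eq_exp_neg_ord hNs0, hordN]
  have hvalN' : P.1 (Algebra.norm K s) = exp (-((m : ℤ) * P.ord ((minpoly K s).coeff 0))) := by
    rw [hN, map_pow, map_mul, map_pow, Valuation.map_neg, map_one, one_pow, one_mul,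
      P.val_eq_exp_neg_ord ha0, ← exp_nsmul]
    congr 1
    simp only [nsmul_eq_mul]
    ring
  have hprod : (m : ℤ) * P.ord ((minpoly K s).coeff 0) = 1 := by
    rw [hvalN', exp_inj] at hvalN
    linarith
  have hm1 : (m : ℤ) = 1 := by
    rcases Int.isUnit_iff.mp (IsUnit.of_mul_eq_one _ hprod) with h | h
    · exact h
    · omega
  have hm1' : m = 1 := by exact_mod_cast hm1
  refine ⟨IntermediateField.finrank_eq_one_iff_eq_top.mp hm1', ?_, hcall⟩
  rw [hm1, one_mul] at hprod
  rw [P.val_eq_exp_neg_ord ha0, hprod]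

/-- S12572. -/
theorem adjoin_eq_top_and_ord_derivative_eq_diffExp (hK : IsFunctionField k K)
    (hg : IsGeometric k K) [Algebra.IsSeparable K K']
    {P : Place k K} {Q : Place k K'} {e : ℕ} (he : IsOverWith Q P e)
    {φ : K →ₐ[k] LaurentSeries F} (hφ : LocRes.IsExpansionAt P.1 φ)
    {ψ : K' →ₐ[k] LaurentSeries F'} (hψ : LocRes.IsExpansionAt Q.1 ψ)
    {x : K} (hx : LocRes.vDiff φ 1 x ≠ 0) (hx' : LocRes.vDiff ψ 1 (algebraMap K K' x) ≠ 0)
    [P.1.HasExtension Q.1]
    (hf : Function.Surjective
      (algebraMap (IsLocalRing.ResidueField P.O) (IsLocalRing.ResidueField Q.O)))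
    {s : K'} (hs : Q.1 s = exp (-1 : ℤ))
    (hs' : ∀ Q' : Place k K', IsOver Q' P → Q' ≠ Q → Q'.1 s = 1) :
    IntermediateField.adjoin K ({s} : Set K') = ⊤ ∧
      Q.ord (aeval s (derivative (minpoly K s))) = LocRes.diffExp φ ψ e x := by
  obtain ⟨h1, h2, h3⟩ := adjoin_eq_top_and_eisenstein hK he hf hs hs'
  exact ⟨h1, ord_derivative_eq_diffExp_of_eisenstein hK hg he hφ hψ hx hx' hs
    (minpoly.aeval K s) h2 h3⟩

end Main

end FunFld
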