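import Mathlib
import Groth.Agent.Lib.FunFldDiffA_helper2

/-! Trace dual of the integral closure and the different exponent (helper2). -/

open Polynomial IntermediateField WithZero Module

namespace FunFld

universe u v w v' w'

section Adjoin

variable {k : Type*} {K : Type*} {K' : Type*} [Field k] [Field K] [Field K'] [Algebra k K]
  [Algebra K K'] [Algebra k K'] [IsScalarTower k K K']

theorem algebraMap_mem_of_val_le_one {P : Place k K} [Algebra P.O K'] [IsScalarTower P.O K K']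
    (S : Subalgebra P.O K') {c : K} (hc : P.1 c ≤ 1) : algebraMap K K' c ∈ S := by
  have hmem : c ∈ P.O := (Valuation.mem_valuationSubring_iff _ _).mpr hc
  have h : algebraMap K K' c = algebraMap P.O K' ⟨c, hmem⟩ :=
    (IsScalarTower.algebraMap_apply P.O K K' ⟨c, hmem⟩).symm
  rw [h]
  exact S.algebraMap_mem _

theorem aeval_mem_adjoin_of_coeff_le_one {P : Place k K} [Algebra P.O K']
    [IsScalarTower P.O K K'] (s : K') (q : K[X]) (hq : ∀ i, P.1 (q.coeff i) ≤ 1) :
    aeval s q ∈ Algebra.adjoin P.O ({s} : Set K') := by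
  rw [aeval_eq_sum_range]
  refine Subalgebra.sum_mem _ fun i _ => ?_
  rw [Algebra.smul_def]
  exact Subalgebra.mul_mem _ (algebraMap_mem_of_val_le_one _ (hq i))
    (Subalgebra.pow_mem _ (Algebra.self_mem_adjoin_singleton _ s) i)

theorem exists_pow_mul_mem_adjoin {P : Place k K} [Algebra P.O K'] [IsScalarTower P.O K K']
    {t : K} (ht : P.1 t = exp (-1 : ℤ)) {s : K'}
    (hs : Algebra.adjoin K ({s} : Set K') = ⊤) (z : K') :
    ∃ N : ℕ, algebraMap K K' t ^ N * z ∈ Algebra.adjoin P.O ({s} : Set K') := by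
  have ht1 : P.1 t ≤ 1 := by rw [ht]; exact exp_neg_one_lt_one.le
  have htA : ∀ N : ℕ, algebraMap K K' t ^ N ∈ Algebra.adjoin P.O ({s} : Set K') := fun N =>
    Subalgebra.pow_mem _ (algebraMap_mem_of_val_le_one _ ht1) N
  have hz : z ∈ Algebra.adjoin K ({s} : Set K') := hs ▸ Algebra.mem_top
  induction hz using Algebra.adjoin_induction with
  | mem x hx =>
    rw [Set.mem_singleton_iff] at hx
    refine ⟨0, ?_⟩
    rw [pow_zero, one_mul, hx]
    exact Algebra.self_mem_adjoin_singleton _ _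
  | algebraMap c =>
    by_cases hc : c = 0
    · exact ⟨0, by rw [hc, map_zero, mul_zero]; exact Subalgebra.zero_mem _⟩
    · have hN := Int.self_le_toNat (-(P.ord c))
      generalize (-(P.ord c)).toNat = N at hN
      refine ⟨N, ?_⟩
      rw [← map_pow, ← map_mul]
      apply algebraMap_mem_of_val_le_one
      rw [map_mul, map_pow, ht, P.val_eq_exp_neg_ord hc, ← exp_nsmul, ← exp_add,
        ← exp_zero (M := ℤ), exp_le_exp]
      simp only [nsmul_eq_mul]
      omega
  | add x y _ _ hx hy =>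
    obtain ⟨N1, h1⟩ := hx
    obtain ⟨N2, h2⟩ := hy
    refine ⟨N1 + N2, ?_⟩
    have : algebraMap K K' t ^ (N1 + N2) * (x + y) =
        algebraMap K K' t ^ N2 * (algebraMap K K' t ^ N1 * x) +
          algebraMap K K' t ^ N1 * (algebraMap K K' t ^ N2 * y) := by
      rw [pow_add]; ring
    rw [this]
    exact Subalgebra.add_mem _ (Subalgebra.mul_mem _ (htA _) h1)
      (Subalgebra.mul_mem _ (htA _) h2)
  | mul x y _ _ hx hy =>
    obtain ⟨N1, h1⟩ := hx
    obtain ⟨N2, h2⟩ := hy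
    refine ⟨N1 + N2, ?_⟩
    have : algebraMap K K' t ^ (N1 + N2) * (x * y) =
        (algebraMap K K' t ^ N1 * x) * (algebraMap K K' t ^ N2 * y) := by
      rw [pow_add]; ring
    rw [this]
    exact Subalgebra.mul_mem _ h1 h2

theorem val_le_one_of_mem_adjoin_O {P : Place k K} {Q : Place k K'} {e : ℕ}
    (he : IsOverWith Q P e) [Algebra P.O K'] [IsScalarTower P.O K K'] {s : K'}
    (hs : Q.1 s ≤ 1) {a : K'} (ha : a ∈ Algebra.adjoin P.O ({s} : Set K')) : Q.1 a ≤ 1 := by
  induction ha using Algebra.adjoin_induction with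
  | mem x hx =>
    rw [Set.mem_singleton_iff] at hx
    rw [hx]
    exact hs
  | algebraMap r =>
    rw [IsScalarTower.algebraMap_apply P.O K K' r, he]
    exact pow_le_one₀ zero_le ((Valuation.mem_valuationSubring_iff _ _).mp r.2)
  | add x y _ _ hx hy => exact (Q.1.map_add x y).trans (max_le hx hy)
  | mul x y _ _ hx hy =>
    rw [map_mul]
    exact mul_le_one' hx hy

theorem exists_eq_add_mul_of_mem_adjoin {P : Place k K} [Algebra P.O K']
    [IsScalarTower P.O K K'] {s a : K'} (ha : a ∈ Algebra.adjoin P.O ({s} : Set K')) :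
    ∃ c : K, P.1 c ≤ 1 ∧ ∃ a' ∈ Algebra.adjoin P.O ({s} : Set K'),
      a = algebraMap K K' c + s * a' := by
  have hsA : s ∈ Algebra.adjoin P.O ({s} : Set K') := Algebra.self_mem_adjoin_singleton _ _
  induction ha using Algebra.adjoin_induction with
  | mem x hx =>
    rw [Set.mem_singleton_iff] at hx
    exact ⟨0, by rw [map_zero]; exact zero_le, 1, Subalgebra.one_mem _,
      by rw [hx, map_zero, zero_add, mul_one]⟩
  | algebraMap r =>
    exact ⟨r.1, (Valuation.mem_valuationSubring_iff _ _).mp r.2, 0, Subalgebra.zero_mem _,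
      by rw [mul_zero, add_zero]; exact IsScalarTower.algebraMap_apply P.O K K' r⟩
  | add x y _ _ hx hy =>
    obtain ⟨c1, hc1, a1, ha1, rfl⟩ := hx
    obtain ⟨c2, hc2, a2, ha2, rfl⟩ := hy
    exact ⟨c1 + c2, (P.1.map_add c1 c2).trans (max_le hc1 hc2), a1 + a2,
      Subalgebra.add_mem _ ha1 ha2, by rw [map_add]; ring⟩
  | mul x y _ _ hx hy =>
    obtain ⟨c1, hc1, a1, ha1, rfl⟩ := hx
    obtain ⟨c2, hc2, a2, ha2, rfl⟩ := hy
    refine ⟨c1 * c2, by rw [map_mul]; exact mul_le_one' hc1 hc2,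
      algebraMap K K' c1 * a2 + algebraMap K K' c2 * a1 + s * (a1 * a2), ?_,
      by rw [map_mul]; ring⟩
    exact Subalgebra.add_mem _ (Subalgebra.add_mem _
      (Subalgebra.mul_mem _ (algebraMap_mem_of_val_le_one _ hc1) ha2)
      (Subalgebra.mul_mem _ (algebraMap_mem_of_val_le_one _ hc2) ha1))
      (Subalgebra.mul_mem _ hsA (Subalgebra.mul_mem _ ha1 ha2))

theorem exists_eq_pow_mul_of_mem_adjoin {P : Place k K} {Q : Place k K'} {e : ℕ}
    (he : IsOverWith Q P e) [Algebra P.O K'] [IsScalarTower P.O K K'] {s : K'}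
    (hs : Q.1 s = exp (-1 : ℤ)) {t : K} (ht : P.1 t = exp (-1 : ℤ)) {w₀ : K'}
    (hw₀ : w₀ ∈ Algebra.adjoin P.O ({s} : Set K')) (htw : algebraMap K K' t = s * w₀) :
    ∀ (n : ℕ) (a : K'), a ∈ Algebra.adjoin P.O ({s} : Set K') → Q.1 a = exp (-(n : ℤ)) →
      ∃ a' ∈ Algebra.adjoin P.O ({s} : Set K'), Q.1 a' = 1 ∧ a = s ^ n * a' := by
  have hs1 : Q.1 s ≤ 1 := by rw [hs]; exact exp_neg_one_lt_one.le
  have ht0 : t ≠ 0 := uniformizer_ne_zero P ht
  intro n
  induction n with
  | zero =>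
    intro a ha hval
    exact ⟨a, ha, by rw [hval]; simp, by rw [pow_zero, one_mul]⟩
  | succ n ih =>
    intro a ha hval
    obtain ⟨c, hc, a₁, ha₁, rfl⟩ := exists_eq_add_mul_of_mem_adjoin ha
    have ha₁v : Q.1 a₁ ≤ 1 := val_le_one_of_mem_adjoin_O he hs1 ha₁
    have h1 : Q.1 (algebraMap K K' c + s * a₁) < 1 := by
      rw [hval, ← exp_zero (M := ℤ), exp_lt_exp]
      push_cast
      omega
    have h2 : Q.1 (s * a₁) < 1 := by
      rw [map_mul, hs]
      calc exp (-1 : ℤ) * Q.1 a₁ ≤ exp (-1 : ℤ) * 1 := mul_le_mul' le_rfl ha₁v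
        _ = exp (-1 : ℤ) := mul_one _
        _ < 1 := exp_neg_one_lt_one
    have h3 : Q.1 (algebraMap K K' c) < 1 := by
      have : algebraMap K K' c = (algebraMap K K' c + s * a₁) - s * a₁ := by ring
      rw [this]
      exact lt_of_le_of_lt (Q.1.map_sub _ _) (max_lt h1 h2)
    rw [he] at h3
    have h4 : P.1 c < 1 := (pow_lt_one_iff_of_nonneg zero_le he.pos.ne').mp h3
    have h5 : P.1 c ≤ exp (-1 : ℤ) := (lt_one_iff_le_exp_neg_one _).mp h4
    have hc' : P.1 (c / t) ≤ 1 := by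
      rw [map_div₀, ht]
      exact (div_le_one₀ exp_pos).mpr h5
    have htc : t * (c / t) = c := by field_simp
    have hceq : algebraMap K K' c = s * (w₀ * algebraMap K K' (c / t)) := by
      rw [← mul_assoc, ← htw, ← map_mul, htc]
    have ha₂A : w₀ * algebraMap K K' (c / t) + a₁ ∈ Algebra.adjoin P.O ({s} : Set K') :=
      Subalgebra.add_mem _ (Subalgebra.mul_mem _ hw₀ (algebraMap_mem_of_val_le_one _ hc')) ha₁
    have haeq : algebraMap K K' c + s * a₁ = s * (w₀ * algebraMap K K' (c / t) + a₁) := by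
      rw [hceq]; ring
    have ha₂v : Q.1 (w₀ * algebraMap K K' (c / t) + a₁) = exp (-(n : ℤ)) := by
      have h6 : Q.1 (s * (w₀ * algebraMap K K' (c / t) + a₁)) = exp (-((n + 1 : ℕ) : ℤ)) := by
        rw [← haeq]; exact hval
      rw [map_mul, hs] at h6
      have h7 : Q.1 (w₀ * algebraMap K K' (c / t) + a₁) =
          exp (1 : ℤ) * (exp (-1 : ℤ) * Q.1 (w₀ * algebraMap K K' (c / t) + a₁)) := by
        rw [← mul_assoc, ← exp_add]; simp
      rw [h7, h6, ← exp_add]
      congr 1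
      push_cast
      ring
    obtain ⟨a', ha', ha'v, ha'eq⟩ := ih _ ha₂A ha₂v
    exact ⟨a', ha', ha'v, by rw [haeq, ha'eq, pow_succ]; ring⟩

theorem exists_frac_of_val_le_one {P : Place k K} {Q : Place k K'} {e : ℕ}
    (he : IsOverWith Q P e) [Algebra P.O K'] [IsScalarTower P.O K K'] {s : K'}
    (hs : Q.1 s = exp (-1 : ℤ)) {t : K} (ht : P.1 t = exp (-1 : ℤ)) {w₀ : K'}
    (hw₀ : w₀ ∈ Algebra.adjoin P.O ({s} : Set K')) (htw : algebraMap K K' t = s * w₀)
    (hadj : Algebra.adjoin K ({s} : Set K') = ⊤) (z : K') (hz : Q.1 z ≤ 1) :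
    ∃ a ∈ Algebra.adjoin P.O ({s} : Set K'), ∃ b ∈ Algebra.adjoin P.O ({s} : Set K'),
      Q.1 b = 1 ∧ z * b = a := by
  by_cases hz0 : z = 0
  · exact ⟨0, Subalgebra.zero_mem _, 1, Subalgebra.one_mem _, map_one _, by rw [hz0, zero_mul]⟩
  have hs0 : s ≠ 0 := uniformizer_ne_zero Q hs
  have ht1 : P.1 t ≤ 1 := by rw [ht]; exact exp_neg_one_lt_one.le
  obtain ⟨N, hN⟩ := exists_pow_mul_mem_adjoin ht hadj z
  have hTA : algebraMap K K' t ^ N ∈ Algebra.adjoin P.O ({s} : Set K') :=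
    Subalgebra.pow_mem _ (algebraMap_mem_of_val_le_one _ ht1) N
  have hTv : Q.1 (algebraMap K K' t ^ N) = exp (-((e * N : ℕ) : ℤ)) := by
    rw [map_pow, he, ht, ← pow_mul, ← exp_nsmul]
    congr 1
    simp
  obtain ⟨m, hm⟩ : ∃ m : ℕ, Q.1 z = exp (-(m : ℤ)) := by
    have h1 : 0 ≤ Q.ord z := (Q.ord_nonneg_iff hz0).mpr hz
    refine ⟨(Q.ord z).toNat, ?_⟩
    rw [Q.val_eq_exp_neg_ord hz0, Int.toNat_of_nonneg h1]
  obtain ⟨w', hw'A, hw'v, hw'eq⟩ :=
    exists_eq_pow_mul_of_mem_adjoin he hs ht hw₀ htw (e * N) _ hTA hTv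
  have hav : Q.1 (algebraMap K K' t ^ N * z) = exp (-((e * N + m : ℕ) : ℤ)) := by
    rw [map_mul, hTv, hm, ← exp_add]
    congr 1
    push_cast
    ring
  obtain ⟨a', ha'A, ha'v, ha'eq⟩ :=
    exists_eq_pow_mul_of_mem_adjoin he hs ht hw₀ htw (e * N + m) _ hN hav
  refine ⟨s ^ m * a', Subalgebra.mul_mem _
    (Subalgebra.pow_mem _ (Algebra.self_mem_adjoin_singleton _ _) m) ha'A, w', hw'A, hw'v, ?_⟩
  have hsN : s ^ (e * N) ≠ 0 := pow_ne_zero _ hs0
  apply mul_left_cancel₀ hsN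
  calc s ^ (e * N) * (z * w') = (s ^ (e * N) * w') * z := by ring
    _ = algebraMap K K' t ^ N * z := by rw [← hw'eq]
    _ = s ^ (e * N + m) * a' := ha'eq
    _ = s ^ (e * N) * (s ^ m * a') := by rw [pow_add]; ring

end Adjoin

section Approx

variable {k : Type*} {K : Type*} {K' : Type*} [Field k] [Field K] [Field K'] [Algebra k K]
  [Algebra K K'] [Algebra k K'] [IsScalarTower k K K'] [FiniteDimensional K K']

theorem exists_unif_unit_elsewhere (hK : IsFunctionField k K) (P : Place k K)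
    (Q : Place k K') :
    ∃ s : K', Q.1 s = exp (-1 : ℤ) ∧
      ∀ Q' : Place k K', IsOver Q' P → Q' ≠ Q → Q'.1 s = 1 := by
  classical
  have hfin := finite_isOver (K' := K') hK P
  obtain ⟨s, hs⟩ := weak_approximation (fun i : ↥(insert Q hfin.toFinset) => i.1)
    Subtype.val_injective (fun _ => 0) (fun i => if i.1 = Q then 1 else 0)
  refine ⟨s, ?_, ?_⟩
  · have h : Q.1 (s - 0) = exp (-(if Q = Q then (1 : ℤ) else 0)) :=
      hs ⟨Q, Finset.mem_insert_self _ _⟩
    rw [sub_zero, if_pos rfl] at h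
    exact h
  · intro Q' hQ' hne
    have h : Q'.1 (s - 0) = exp (-(if Q' = Q then (1 : ℤ) else 0)) :=
      hs ⟨Q', Finset.mem_insert_of_mem (hfin.mem_toFinset.mpr hQ')⟩
    rw [sub_zero, if_neg hne, neg_zero, exp_zero] at h
    exact h

theorem exists_unit_mul_integral (hK : IsFunctionField k K) (P : Place k K)
    (Q : Place k K') (z : K') :
    ∃ b : K', Q.1 b = 1 ∧
      ∀ Q' : Place k K', IsOver Q' P → Q' ≠ Q → Q'.1 b ≤ 1 ∧ Q'.1 (b * z) ≤ 1 := by
  classical
  have hfin := finite_isOver (K' := K') hK P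
  obtain ⟨b, hb⟩ := weak_approximation (fun i : ↥(insert Q hfin.toFinset) => i.1)
    Subtype.val_injective (fun _ => 0) (fun i => if i.1 = Q then 0 else |i.1.ord z|)
  refine ⟨b, ?_, ?_⟩
  · have h : Q.1 (b - 0) = exp (-(if Q = Q then (0 : ℤ) else |Q.ord z|)) :=
      hb ⟨Q, Finset.mem_insert_self _ _⟩
    rw [sub_zero, if_pos rfl, neg_zero, exp_zero] at h
    exact h
  · intro Q' hQ' hne
    have h : Q'.1 (b - 0) = exp (-(if Q' = Q then (0 : ℤ) else |Q'.ord z|)) :=
      hb ⟨Q', Finset.mem_insert_of_mem (hfin.mem_toFinset.mpr hQ')⟩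
    rw [sub_zero, if_neg hne] at h
    constructor
    · rw [h, ← exp_zero (M := ℤ), exp_le_exp]
      exact neg_nonpos.mpr (abs_nonneg _)
    · by_cases hz0 : z = 0
      · rw [hz0, mul_zero, map_zero]; exact zero_le
      · rw [map_mul, h, Q'.val_eq_exp_neg_ord hz0, ← exp_add, ← exp_zero (M := ℤ), exp_le_exp]
        have := neg_abs_le (Q'.ord z)
        linarith

theorem exists_conductor_of_frac (hK : IsFunctionField k K) {P : Place k K} {Q : Place k K'}
    (hQP : IsOver Q P) [Algebra P.O K'] [IsScalarTower P.O K K'] (A : Subalgebra P.O K')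
    (hfrac : ∀ z : K', Q.1 z ≤ 1 → ∃ a ∈ A, ∃ b ∈ A, Q.1 b = 1 ∧ z * b = a) :
    ∃ c ∈ A, Q.1 c = 1 ∧ ∀ z : K', IsIntegral P.O z → c * z ∈ A := by
  classical
  obtain ⟨ζ, -, hζ1, -, hζ2⟩ := exists_integral_basis (K' := K') hK P
  have hζQ : ∀ i, Q.1 (ζ i) ≤ 1 := fun i => (mem_RO.mp (hζ1 i)) Q hQP
  choose a ha b hb hbv hab using fun i => hfrac (ζ i) (hζQ i)
  refine ⟨∏ i, b i, Subalgebra.prod_mem _ (fun i _ => hb i),
    by rw [map_prod]; exact Finset.prod_eq_one (fun i _ => hbv i), ?_⟩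
  intro z hz
  have hzRO : z ∈ RO K' P := (isIntegral_iff_forall_isOver hK P z).mp hz
  obtain ⟨c, hc, rfl⟩ := hζ2 z hzRO
  rw [Finset.mul_sum]
  refine Subalgebra.sum_mem _ fun i _ => ?_
  have h1 : (∏ j, b j) * (algebraMap K K' (c i) * ζ i) =
      algebraMap K K' (c i) * ((∏ j ∈ Finset.univ.erase i, b j) * a i) := by
    rw [← hab i, ← Finset.mul_prod_erase Finset.univ b (Finset.mem_univ i)]
    ring
  rw [h1]
  exact Subalgebra.mul_mem _ (algebraMap_mem_of_val_le_one _ (hc i))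
    (Subalgebra.mul_mem _ (Subalgebra.prod_mem _ (fun j _ => hb j)) (ha i))

end Approx

section Dual

variable {k : Type*} {K : Type*} {K' : Type*} [Field k] [Field K] [Field K'] [Algebra k K]
  [Algebra K K'] [Algebra k K'] [FiniteDimensional K K'] [Algebra.IsSeparable K K']

theorem deriv_mul_mem_adjoin_of_dual {P : Place k K} [Algebra P.O K'] [IsScalarTower P.O K K']
    {y : K'} (hadj : Algebra.adjoin K ({y} : Set K') = ⊤) (hyi : IsIntegral P.O y) {w : K'}
    (hw : ∀ a ∈ Algebra.adjoin P.O ({y} : Set K'), P.1 (Algebra.trace K K' (w * a)) ≤ 1) :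
    aeval y (derivative (minpoly K y)) * w ∈ Algebra.adjoin P.O ({y} : Set K') := by
  have hδ0 : aeval y (derivative (minpoly K y)) ≠ 0 :=
    (Algebra.IsSeparable.isSeparable K y).aeval_derivative_ne_zero (minpoly.aeval K y)
  have hdual := traceForm_dualSubmodule_adjoin P.O K hadj hyi
  have hmem : w ∈ (Algebra.traceForm K K').dualSubmodule
      (Subalgebra.toSubmodule (Algebra.adjoin P.O ({y} : Set K'))) := by
    rw [LinearMap.BilinForm.mem_dualSubmodule]
    intro a ha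
    rw [Algebra.traceForm_apply, Submodule.mem_one]
    exact ⟨⟨_, (Valuation.mem_valuationSubring_iff _ _).mpr
      (hw a ((Subalgebra.mem_toSubmodule _).mp ha))⟩, rfl⟩
  rw [hdual, Submodule.mem_smul_iff_inv_mul_mem (inv_ne_zero hδ0), inv_inv] at hmem
  exact hmem

theorem trace_inv_deriv_mul_le_one {P : Place k K} [Algebra P.O K'] [IsScalarTower P.O K K']
    {y : K'} (hadj : Algebra.adjoin K ({y} : Set K') = ⊤) (hyi : IsIntegral P.O y) {a : K'}
    (ha : a ∈ Algebra.adjoin P.O ({y} : Set K')) :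
    P.1 (Algebra.trace K K' ((aeval y (derivative (minpoly K y)))⁻¹ * a)) ≤ 1 := by
  have hδ0 : aeval y (derivative (minpoly K y)) ≠ 0 :=
    (Algebra.IsSeparable.isSeparable K y).aeval_derivative_ne_zero (minpoly.aeval K y)
  have hdual := traceForm_dualSubmodule_adjoin P.O K hadj hyi
  have hmem : (aeval y (derivative (minpoly K y)))⁻¹ * a ∈
      (Algebra.traceForm K K').dualSubmodule
        (Subalgebra.toSubmodule (Algebra.adjoin P.O ({y} : Set K'))) := by
    rw [hdual, Submodule.mem_smul_iff_inv_mul_mem (inv_ne_zero hδ0), inv_inv, ← mul_assoc,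
      mul_inv_cancel₀ hδ0, one_mul]
    exact ha
  rw [LinearMap.BilinForm.mem_dualSubmodule] at hmem
  have h2 := hmem 1 ((Subalgebra.mem_toSubmodule _).mpr (Subalgebra.one_mem _))
  rw [Algebra.traceForm_apply, mul_one, Submodule.mem_one] at h2
  obtain ⟨r, hr⟩ := h2
  rw [← hr]
  exact (Valuation.mem_valuationSubring_iff _ _).mp r.2

end Dual

section Main

variable {k : Type u} {K : Type v} {K' : Type v'} [Field k] [Field K] [Field K'] [Algebra k K]
  [Algebra K K'] [Algebra k K'] [IsScalarTower k K K'] [FiniteDimensional K K']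
  [Algebra.IsSeparable K K']
  {F : Type w} {F' : Type w'} [Field F] [Algebra k F] [Field F'] [Algebra k F']

theorem exists_local_generator (hK : IsFunctionField k K) (hg : IsGeometric k K)
    {P : Place k K} {Q : Place k K'} {e : ℕ} (he : IsOverWith Q P e)
    {φ : K →ₐ[k] LaurentSeries F} (hφ : LocRes.IsExpansionAt P.1 φ)
    {ψ : K' →ₐ[k] LaurentSeries F'} (hψ : LocRes.IsExpansionAt Q.1 ψ)
    {x : K} (hx : LocRes.vDiff φ 1 x ≠ 0) (hx' : LocRes.vDiff ψ 1 (algebraMap K K' x) ≠ 0)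
    [P.1.HasExtension Q.1]
    (hf : Function.Surjective
      (algebraMap (IsLocalRing.ResidueField P.O) (IsLocalRing.ResidueField Q.O)))
    [Algebra P.O K'] [IsScalarTower P.O K K'] :
    ∃ s : K', Algebra.adjoin K ({s} : Set K') = ⊤ ∧ IsIntegral P.O s ∧
      Q.1 (aeval s (derivative (minpoly K s))) = exp (-(LocRes.diffExp φ ψ e x)) ∧
      ∀ z : K', Q.1 z ≤ 1 → ∃ a ∈ Algebra.adjoin P.O ({s} : Set K'),
        ∃ b ∈ Algebra.adjoin P.O ({s} : Set K'), Q.1 b = 1 ∧ z * b = a := by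
  classical
  obtain ⟨s, hs, hs'⟩ := exists_unif_unit_elsewhere hK P Q
  obtain ⟨htop, hc0, hcall⟩ := adjoin_eq_top_and_eisenstein hK he hf hs hs'
  have hord := ord_derivative_eq_diffExp_of_eisenstein hK hg he hφ hψ hx hx' hs
    (minpoly.aeval K s) hc0 hcall
  have hintK : IsIntegral K s := Algebra.IsIntegral.isIntegral s
  have hδ0 : aeval s (derivative (minpoly K s)) ≠ 0 :=
    (Algebra.IsSeparable.isSeparable K s).aeval_derivative_ne_zero (minpoly.aeval K s)
  have hadj : Algebra.adjoin K ({s} : Set K') = ⊤ :=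
    Algebra.adjoin_eq_top_of_primitive_element hintK.isAlgebraic htop
  have hsint : IsIntegral P.O s := by
    apply (isIntegral_iff_forall_isOver hK P s).mpr
    intro Q' hQ'
    by_cases h : Q' = Q
    · rw [h, hs]; exact exp_neg_one_lt_one.le
    · exact (hs' Q' hQ' h).le
  refine ⟨s, hadj, hsint, by rw [Q.val_eq_exp_neg_ord hδ0, hord], ?_⟩
  have hw₀ : -aeval s (divX (minpoly K s)) ∈ Algebra.adjoin P.O ({s} : Set K') :=
    Subalgebra.neg_mem _ (aeval_mem_adjoin_of_coeff_le_one s _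
      (fun i => by rw [coeff_divX]; exact hcall _))
  have htw : algebraMap K K' ((minpoly K s).coeff 0) = s * -aeval s (divX (minpoly K s)) := by
    have h1 : aeval s (divX (minpoly K s) * X + C ((minpoly K s).coeff 0)) = 0 := by
      rw [divX_mul_X_add]; exact minpoly.aeval K s
    rw [map_add, map_mul, aeval_X, aeval_C] at h1
    linear_combination h1
  exact exists_frac_of_val_le_one he hs hc0 hw₀ htw hadj

/-- S12574. -/
theorem traceDual_min_val (hK : IsFunctionField k K) (hg : IsGeometric k K)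
    {P : Place k K} {Q : Place k K'} {e : ℕ} (he : IsOverWith Q P e)
    {φ : K →ₐ[k] LaurentSeries F} (hφ : LocRes.IsExpansionAt P.1 φ)
    {ψ : K' →ₐ[k] LaurentSeries F'} (hψ : LocRes.IsExpansionAt Q.1 ψ)
    {x : K} (hx : LocRes.vDiff φ 1 x ≠ 0) (hx' : LocRes.vDiff ψ 1 (algebraMap K K' x) ≠ 0)
    [P.1.HasExtension Q.1]
    (hf : Function.Surjective
      (algebraMap (IsLocalRing.ResidueField P.O) (IsLocalRing.ResidueField Q.O)))
    [Algebra P.O K'] [IsScalarTower P.O K K'] :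
    (∀ y : K', (∀ z : K', IsIntegral P.O z → P.1 (Algebra.trace K K' (y * z)) ≤ 1) →
      Q.1 y ≤ exp (LocRes.diffExp φ ψ e x)) ∧
    ∃ y : K', (∀ z : K', IsIntegral P.O z → P.1 (Algebra.trace K K' (y * z)) ≤ 1) ∧
      Q.1 y = exp (LocRes.diffExp φ ψ e x) := by
  classical
  have hQP : IsOver Q P := ⟨e, he⟩
  obtain ⟨s, hadj, hsint, hδval, hfrac⟩ := exists_local_generator hK hg he hφ hψ hx hx' hf
  have hAint : ∀ a ∈ Algebra.adjoin P.O ({s} : Set K'), IsIntegral P.O a := fun a ha =>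
    (Algebra.adjoin_le (S := integralClosure P.O K') (Set.singleton_subset_iff.mpr hsint)) ha
  have hAQ : ∀ a ∈ Algebra.adjoin P.O ({s} : Set K'), Q.1 a ≤ 1 := fun a ha =>
    (isIntegral_iff_forall_isOver hK P a).mp (hAint a ha) Q hQP
  constructor
  · intro y hy
    have h1 := deriv_mul_mem_adjoin_of_dual hadj hsint (fun a ha => hy a (hAint a ha))
    have h2 := hAQ _ h1
    rw [map_mul, hδval] at h2
    calc Q.1 y = exp (LocRes.diffExp φ ψ e x) * (exp (-(LocRes.diffExp φ ψ e x)) * Q.1 y) := by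
          rw [← mul_assoc, ← exp_add, add_neg_cancel, exp_zero, one_mul]
      _ ≤ exp (LocRes.diffExp φ ψ e x) * 1 := mul_le_mul' le_rfl h2
      _ = exp (LocRes.diffExp φ ψ e x) := mul_one _
  · obtain ⟨c, hcA, hcv, hcR⟩ :=
      exists_conductor_of_frac hK hQP (Algebra.adjoin P.O ({s} : Set K')) hfrac
    refine ⟨(aeval s (derivative (minpoly K s)))⁻¹ * c, ?_, ?_⟩
    · intro z hz
      rw [mul_assoc]
      exact trace_inv_deriv_mul_le_one hadj hsint (hcR z hz)
    · rw [map_mul, map_inv₀, hδval, hcv, mul_one, ← exp_neg, neg_neg]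

/-- S12575. -/
theorem le_ord_derivative_and_localization (hK : IsFunctionField k K) (hg : IsGeometric k K)
    {P : Place k K} {Q : Place k K'} {e : ℕ} (he : IsOverWith Q P e)
    {φ : K →ₐ[k] LaurentSeries F} (hφ : LocRes.IsExpansionAt P.1 φ)
    {ψ : K' →ₐ[k] LaurentSeries F'} (hψ : LocRes.IsExpansionAt Q.1 ψ)
    {x : K} (hx : LocRes.vDiff φ 1 x ≠ 0) (hx' : LocRes.vDiff ψ 1 (algebraMap K K' x) ≠ 0)
    [P.1.HasExtension Q.1]
    (hf : Function.Surjective
      (algebraMap (IsLocalRing.ResidueField P.O) (IsLocalRing.ResidueField Q.O)))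
    [Algebra P.O K'] [IsScalarTower P.O K K']
    (y : K') (hy : IntermediateField.adjoin K ({y} : Set K') = ⊤) (hyi : IsIntegral P.O y) :
    LocRes.diffExp φ ψ e x ≤ Q.ord (aeval y (derivative (minpoly K y))) ∧
    (Q.ord (aeval y (derivative (minpoly K y))) = LocRes.diffExp φ ψ e x →
      ∀ z : K', Q.1 z ≤ 1 → ∃ a ∈ Algebra.adjoin P.O ({y} : Set K'),
        ∃ b ∈ Algebra.adjoin P.O ({y} : Set K'), Q.1 b = 1 ∧ z * b = a) := by
  classical
  have hQP : IsOver Q P := ⟨e, he⟩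
  obtain ⟨-, y₀, hy₀, hy₀v⟩ := traceDual_min_val hK hg he hφ hψ hx hx' hf
  have hintK : IsIntegral K y := Algebra.IsIntegral.isIntegral y
  have hadj : Algebra.adjoin K ({y} : Set K') = ⊤ :=
    Algebra.adjoin_eq_top_of_primitive_element hintK.isAlgebraic hy
  have hAint : ∀ a ∈ Algebra.adjoin P.O ({y} : Set K'), IsIntegral P.O a := fun a ha =>
    (Algebra.adjoin_le (S := integralClosure P.O K') (Set.singleton_subset_iff.mpr hyi)) ha
  have hAQ : ∀ a ∈ Algebra.adjoin P.O ({y} : Set K'), Q.1 a ≤ 1 := fun a ha =>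
    (isIntegral_iff_forall_isOver hK P a).mp (hAint a ha) Q hQP
  have hγ0 : aeval y (derivative (minpoly K y)) ≠ 0 :=
    (Algebra.IsSeparable.isSeparable K y).aeval_derivative_ne_zero (minpoly.aeval K y)
  have hkey : ∀ r : K', IsIntegral P.O r →
      aeval y (derivative (minpoly K y)) * (y₀ * r) ∈ Algebra.adjoin P.O ({y} : Set K') := by
    intro r hr
    apply deriv_mul_mem_adjoin_of_dual hadj hyi
    intro a ha
    rw [mul_assoc]
    exact hy₀ (r * a) (hr.mul (hAint a ha))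
  have hc := hkey 1 isIntegral_one
  rw [mul_one] at hc
  have hcv : Q.1 (aeval y (derivative (minpoly K y)) * y₀) =
      exp (LocRes.diffExp φ ψ e x - Q.ord (aeval y (derivative (minpoly K y)))) := by
    rw [map_mul, hy₀v, Q.val_eq_exp_neg_ord hγ0, ← exp_add]
    congr 1
    ring
  have hle : LocRes.diffExp φ ψ e x ≤ Q.ord (aeval y (derivative (minpoly K y))) := by
    have h1 := hAQ _ hc
    rw [hcv, ← exp_zero (M := ℤ), exp_le_exp] at h1
    linarith
  refine ⟨hle, fun heq z hz => ?_⟩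
  have hcv1 : Q.1 (aeval y (derivative (minpoly K y)) * y₀) = 1 := by
    rw [hcv, heq, sub_self, exp_zero]
  obtain ⟨b₁, hb₁v, hb₁⟩ := exists_unit_mul_integral hK P Q z
  have hb₁int : IsIntegral P.O b₁ := by
    apply (isIntegral_iff_forall_isOver hK P b₁).mpr
    intro Q' hQ'
    by_cases h : Q' = Q
    · rw [h, hb₁v]
    · exact (hb₁ Q' hQ' h).1
  have hb₁zint : IsIntegral P.O (b₁ * z) := by
    apply (isIntegral_iff_forall_isOver hK P _).mpr
    intro Q' hQ'
    by_cases h : Q' = Q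
    · rw [h, map_mul, hb₁v, one_mul]; exact hz
    · exact (hb₁ Q' hQ' h).2
  refine ⟨aeval y (derivative (minpoly K y)) * (y₀ * (b₁ * z)), hkey _ hb₁zint,
    aeval y (derivative (minpoly K y)) * (y₀ * b₁), hkey _ hb₁int, ?_, by ring⟩
  rw [← mul_assoc, map_mul, hcv1, hb₁v, one_mul]

end Main

end FunFld
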