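import Mathlib
import Groth.Agent.Lib.FunFldIntCl_helper2

/-! Almost all places are unramified in a finite separable extension (helper2). -/

open Polynomial IntermediateField WithZero Module

namespace FunFld

section Unram

variable {k K K' : Type*} [Field k] [Field K] [Field K'] [Algebra k K] [Algebra K K']
    [Algebra k K'] [IsScalarTower k K K']

/-- Local criterion: if `K' = K(y)` with `y` a root of a monic `f₀ ∈ O_P[T]` which is coprime to
its derivative in `O_P[T]`, then every place over `P` is unramified. -/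
theorem eq_one_of_isOverWith_of_coprime {P : Place k K} {Q : Place k K'} {e : ℕ}
    (he : IsOverWith Q P e) (y : K') (hy : K⟮y⟯ = ⊤) (f₀ a₀ b₀ : P.O[X]) (hmonic : f₀.Monic)
    (hroot : eval₂ ((algebraMap K K').comp P.O.subtype) y f₀ = 0)
    (hcop : a₀ * f₀ + b₀ * derivative f₀ = 1) : e = 1 := by
  classical
  have he0 : 0 < e := he.pos
  obtain ⟨φ, hφ⟩ : ∃ φ : P.O →+* K', φ = (algebraMap K K').comp P.O.subtype := ⟨_, rfl⟩
  rw [← hφ] at hroot
  have hφa : ∀ a : P.O, φ a = algebraMap K K' (a : K) := fun a => by rw [hφ]; rfl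
  have hφQ : ∀ a : P.O, Q.1 (φ a) ≤ 1 := fun a => by
    rw [hφa, he]
    exact pow_le_one₀ zero_le ((Valuation.mem_valuationSubring_iff _ _).mp a.2)
  letI : Algebra P.O K' := φ.toAlgebra
  haveI : IsScalarTower P.O K K' := IsScalarTower.of_algebraMap_eq (fun a => hφa a)
  have hyQ : Q.1 y ≤ 1 := val_le_one_of_isIntegral Q.1 hφQ ⟨f₀, hmonic, hroot⟩
  let φ₀ : P.O →+* Q.O := φ.codRestrict Q.O
    (fun a => (Valuation.mem_valuationSubring_iff _ _).mpr (hφQ a))
  let y' : Q.O := ⟨y, (Valuation.mem_valuationSubring_iff _ _).mpr hyQ⟩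
  have hEV : ∀ g : P.O[X], ((eval₂ φ₀ y' g : Q.O) : K') = eval₂ φ y g := fun g => by
    have := Polynomial.hom_eval₂ g φ₀ Q.O.subtype y'
    exact this
  have hEVle : ∀ g : P.O[X], Q.1 (eval₂ φ y g) ≤ 1 := fun g => by
    rw [← hEV]
    exact (Valuation.mem_valuationSubring_iff _ _).mp (eval₂ φ₀ y' g).2
  obtain ⟨ψ, hψdef⟩ : ∃ ψ : P.O →+* IsLocalRing.ResidueField Q.O,
      ψ = (IsLocalRing.residue Q.O).comp φ₀ := ⟨_, rfl⟩
  have hψ : ∀ a : P.O, ψ a = 0 ↔ P.1 (a : K) < 1 := fun a => by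
    rw [hψdef]
    change IsLocalRing.residue Q.O (φ₀ a) = 0 ↔ _
    rw [Q.residue_eq_zero_iff]
    change Q.1 (φ a) < 1 ↔ _
    rw [hφa, he]
    exact pow_lt_one_iff_of_nonneg zero_le he0.ne'
  let ι : IsLocalRing.ResidueField P.O →+* IsLocalRing.ResidueField Q.O :=
    Ideal.Quotient.lift (IsLocalRing.maximalIdeal P.O) ψ (fun a ha => by
      rw [hψ, ← P.residue_eq_zero_iff]
      exact (IsLocalRing.residue_eq_zero_iff a).mpr ha)
  have hι : ∀ a : P.O, ι (IsLocalRing.residue P.O a) = ψ a := fun a => rfl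
  obtain ⟨ρ, hρ⟩ : ∃ ρ : P.O →+* IsLocalRing.ResidueField P.O, ρ = IsLocalRing.residue P.O :=
    ⟨_, rfl⟩
  obtain ⟨yb, hyb⟩ : ∃ yb : IsLocalRing.ResidueField Q.O, yb = IsLocalRing.residue Q.O y' :=
    ⟨_, rfl⟩
  have hRES : ∀ g : P.O[X], IsLocalRing.residue Q.O (eval₂ φ₀ y' g) = eval₂ ι yb (g.map ρ) := by
    intro g
    rw [Polynomial.hom_eval₂, Polynomial.eval₂_map, hyb]
    congr 1
    ext a
    rw [RingHom.comp_apply, RingHom.comp_apply, hρ, hι, hψdef]
    rfl
  obtain ⟨t, ht⟩ := P.exists_uniformizer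
  have ht0 : t ≠ 0 := uniformizer_ne_zero P ht
  have htO : P.1 t ≤ 1 := by
    rw [ht, ← exp_zero, exp_le_exp]
    omega
  let t' : P.O := ⟨t, (Valuation.mem_valuationSubring_iff _ _).mpr htO⟩
  have hPt : P.ord t = 1 := by
    have h1 := P.val_eq_exp_neg_ord ht0
    rw [ht, exp_inj] at h1
    omega
  have hstep : ∀ g : P.O[X], eval₂ φ y g ≠ 0 → Q.1 (eval₂ φ y g) < 1 →
      ∃ h : P.O[X], eval₂ φ y h ≠ 0 ∧ Q.ord (eval₂ φ y g) = e + Q.ord (eval₂ φ y h) := by
    intro g hg0 hg1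
    obtain ⟨gb, hgbdef⟩ : ∃ gb, gb = g.map ρ := ⟨_, rfl⟩
    obtain ⟨fb, hfbdef⟩ : ∃ fb, fb = f₀.map ρ := ⟨_, rfl⟩
    have hgb : eval₂ ι yb gb = 0 := by
      rw [hgbdef, ← hRES, Q.residue_eq_zero_iff, hEV]
      exact hg1
    have hfb : eval₂ ι yb fb = 0 := by
      rw [hfbdef, ← hRES]
      have : eval₂ φ₀ y' f₀ = 0 := Subtype.ext (by rw [hEV]; exact hroot)
      rw [this, map_zero]
    have hcopb : a₀.map ρ * fb + b₀.map ρ * derivative fb = 1 := by
      have := congrArg (Polynomial.map ρ) hcop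
      rw [Polynomial.map_add, Polynomial.map_mul, Polynomial.map_mul, Polynomial.map_one,
        ← Polynomial.derivative_map] at this
      rw [hfbdef]
      exact this
    have hfb' : eval₂ ι yb (derivative fb) ≠ 0 := by
      intro h0
      have := congrArg (eval₂ ι yb) hcopb
      rw [eval₂_add, eval₂_mul, eval₂_mul, hfb, h0, mul_zero, mul_zero, add_zero, eval₂_one] at this
      exact zero_ne_one this
    obtain ⟨p, hpdef⟩ : ∃ p, p = EuclideanDomain.gcd gb fb := ⟨_, rfl⟩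
    obtain ⟨c, hc⟩ : p ∣ gb := hpdef ▸ EuclideanDomain.gcd_dvd_left gb fb
    obtain ⟨q, hq⟩ : p ∣ fb := hpdef ▸ EuclideanDomain.gcd_dvd_right gb fb
    have hp0 : eval₂ ι yb p = 0 := by
      rw [hpdef, EuclideanDomain.gcd_eq_gcd_ab gb fb, eval₂_add, eval₂_mul, eval₂_mul, hgb, hfb,
        zero_mul, zero_mul, add_zero]
    have hq0 : eval₂ ι yb q ≠ 0 := by
      intro h0
      apply hfb'
      rw [hq, derivative_mul, eval₂_add, eval₂_mul, eval₂_mul, hp0, h0, mul_zero, zero_mul,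
        add_zero]
    have hrel : gb * q = c * fb := by
      rw [hc, hq]
      ring
    have hρsurj : Function.Surjective ρ := hρ ▸ IsLocalRing.residue_surjective
    obtain ⟨q₁, hq₁⟩ := Polynomial.map_surjective ρ hρsurj q
    obtain ⟨c₁, hc₁⟩ := Polynomial.map_surjective ρ hρsurj c
    have hker : (g * q₁ - c₁ * f₀).map ρ = 0 := by
      rw [Polynomial.map_sub, Polynomial.map_mul, Polynomial.map_mul, hq₁, hc₁, ← hgbdef,
        ← hfbdef]
      exact sub_eq_zero.mpr hrel
    obtain ⟨h, hh⟩ : C t' ∣ g * q₁ - c₁ * f₀ := by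
      rw [Polynomial.C_dvd_iff_dvd_coeff]
      intro i
      have hi : ρ ((g * q₁ - c₁ * f₀).coeff i) = 0 := by
        rw [← Polynomial.coeff_map, hker, coeff_zero]
      rw [hρ, P.residue_eq_zero_iff] at hi
      refine ⟨⟨(((g * q₁ - c₁ * f₀).coeff i : P.O) : K) / t, ?_⟩, Subtype.ext ?_⟩
      · rw [Valuation.mem_valuationSubring_iff, map_div₀, ht]
        rw [lt_one_iff_le_exp_neg_one] at hi
        exact (div_le_one₀ (zero_lt_iff.mpr exp_ne_zero)).mpr hi
      · change _ = t * (_ / t)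
        rw [mul_div_cancel₀ _ ht0]
    have hev : eval₂ φ y g * eval₂ φ y q₁ = algebraMap K K' t * eval₂ φ y h := by
      have := congrArg (eval₂ φ y) hh
      rw [eval₂_sub, eval₂_mul, eval₂_mul, hroot, mul_zero, sub_zero, eval₂_mul, eval₂_C] at this
      rw [this, hφa]
    have hq₁unit : Q.1 (eval₂ φ y q₁) = 1 := by
      have h1 : IsLocalRing.residue Q.O (eval₂ φ₀ y' q₁) ≠ 0 := by
        rw [hRES, hq₁]
        exact hq0
      rw [Ne, Q.residue_eq_zero_iff, hEV, not_lt] at h1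
      exact le_antisymm (hEVle q₁) h1
    have hq₁0 : eval₂ φ y q₁ ≠ 0 := by
      intro h0
      rw [h0, map_zero] at hq₁unit
      exact zero_ne_one hq₁unit
    have ht'0 : algebraMap K K' t ≠ 0 := (_root_.map_ne_zero _).mpr ht0
    have hh0 : eval₂ φ y h ≠ 0 := by
      intro h0
      rw [h0, mul_zero] at hev
      exact mul_ne_zero hg0 hq₁0 hev
    refine ⟨h, hh0, ?_⟩
    have h1 := congrArg Q.ord hev
    rw [Q.ord_mul hg0 hq₁0, Q.ord_mul ht'0 hh0, (Q.ord_eq_zero_iff hq₁0).mpr hq₁unit, add_zero,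
      he.ord_eq, hPt, mul_one] at h1
    exact h1
  have hind : ∀ n : ℕ, ∀ g : P.O[X], eval₂ φ y g ≠ 0 → Q.ord (eval₂ φ y g) = n →
      (e : ℤ) ∣ n := by
    intro n
    induction n using Nat.strong_induction_on with
    | _ n ih =>
      intro g hg0 hgn
      rcases Nat.eq_zero_or_pos n with rfl | hn
      · exact dvd_zero _
      · have hg1 : Q.1 (eval₂ φ y g) < 1 := by
          rw [← Q.ord_pos_iff hg0, hgn]
          exact_mod_cast hn
        obtain ⟨h, hh0, hh⟩ := hstep g hg0 hg1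
        have hhnn : 0 ≤ Q.ord (eval₂ φ y h) := (Q.ord_nonneg_iff hh0).mpr (hEVle h)
        obtain ⟨m, hm⟩ : ∃ m : ℕ, Q.ord (eval₂ φ y h) = m :=
          ⟨_, (Int.toNat_of_nonneg hhnn).symm⟩
        have hmn : m < n := by
          have : (n : ℤ) = e + m := by rw [← hgn, hh, hm]
          omega
        have := ih m hmn h hh0 hm
        have h2 : (n : ℤ) = e + m := by rw [← hgn, hh, hm]
        rw [h2]
        exact dvd_add (dvd_refl _) this
  -- every element of `K'` is a polynomial in `y` with a denominator from `O_P`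
  have halg : IsAlgebraic K y := by
    refine ⟨f₀.map (algebraMap P.O K), (hmonic.map _).ne_zero, ?_⟩
    rw [aeval_def, eval₂_map]
    have := hroot
    rw [hφ] at this
    exact this
  have hrange : ∀ s : K', ∃ G : K[X], aeval y G = s := by
    intro s
    have h1 : s ∈ K⟮y⟯ := hy ▸ IntermediateField.mem_top
    rw [← IntermediateField.mem_toSubalgebra,
      IntermediateField.adjoin_simple_toSubalgebra_of_isAlgebraic halg,
      Algebra.adjoin_singleton_eq_range_aeval] at h1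
    exact h1
  have hall : ∀ s : K', s ≠ 0 → (e : ℤ) ∣ Q.ord s := by
    intro s hs0
    obtain ⟨G, hG⟩ := hrange s
    obtain ⟨b, hbM, hb⟩ := IsLocalization.integerNormalization_spec (nonZeroDivisors P.O) G
    obtain ⟨g₁, hg₁⟩ : ∃ g₁ : P.O[X], g₁ = IsLocalization.integerNormalization
      (nonZeroDivisors P.O) G := ⟨_, rfl⟩
    rw [← hg₁] at hb
    have hbK : ((b : P.O) : K) ≠ 0 := fun h => nonZeroDivisors.ne_zero hbM (Subtype.ext h)
    have hb'0 : algebraMap K K' ((b : P.O) : K) ≠ 0 := (_root_.map_ne_zero _).mpr hbK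
    have hev : eval₂ φ y g₁ = algebraMap K K' ((b : P.O) : K) * s := by
      have h1 : eval₂ φ y g₁ = aeval y (g₁.map (algebraMap P.O K)) := by
        rw [aeval_def, eval₂_map, hφ]
        rfl
      rw [h1, hb, ← hG, Algebra.smul_def, map_mul, Polynomial.algebraMap_apply, aeval_C]
      rfl
    have hg₁0 : eval₂ φ y g₁ ≠ 0 := by
      rw [hev]
      exact mul_ne_zero hb'0 hs0
    have hnn : 0 ≤ Q.ord (eval₂ φ y g₁) := (Q.ord_nonneg_iff hg₁0).mpr (hEVle g₁)
    have hd1 := hind _ g₁ hg₁0 (Int.toNat_of_nonneg hnn).symm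
    rw [Int.toNat_of_nonneg hnn, hev, Q.ord_mul hb'0 hs0, he.ord_eq] at hd1
    exact (dvd_add_right (dvd_mul_right _ _)).mp hd1
  obtain ⟨s, hs⟩ := Q.exists_uniformizer
  have hs0 : s ≠ 0 := uniformizer_ne_zero Q hs
  have hQs : Q.ord s = 1 := by
    have h1 := Q.val_eq_exp_neg_ord hs0
    rw [hs, exp_inj] at h1
    omega
  have h1 := hall s hs0
  rw [hQs] at h1
  have h2 : e ∣ 1 := by exact_mod_cast h1
  exact Nat.dvd_one.mp h2

omit [Field K'] [Algebra K K'] [Algebra k K'] [IsScalarTower k K K'] in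
theorem exists_lift_of_coeffs_le (P : Place k K) (g : K[X]) (hg : ∀ c ∈ g.coeffs, P.1 c ≤ 1) :
    g ∈ Polynomial.lifts (algebraMap P.O K) := by
  rw [Polynomial.lifts_iff_coeff_lifts]
  intro n
  by_cases h0 : g.coeff n = 0
  · exact ⟨0, by rw [map_zero, h0]⟩
  · exact ⟨⟨g.coeff n, (Valuation.mem_valuationSubring_iff _ _).mpr
      (hg _ (Polynomial.coeff_mem_coeffs h0))⟩, rfl⟩

/-- S11020: almost all places are unramified in a finite separable extension. -/
theorem finite_ramified (hK : IsFunctionField k K) [FiniteDimensional K K']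
    [Algebra.IsSeparable K K'] :
    {Q : Place k K' | ¬ Function.Surjective (Q.1.comap (algebraMap K K'))}.Finite := by
  classical
  obtain ⟨y, hy⟩ := Field.exists_primitive_element K K'
  obtain ⟨f, hf⟩ : ∃ f, f = minpoly K y := ⟨_, rfl⟩
  have hsep : f.Separable := hf ▸ Algebra.IsSeparable.isSeparable K y
  obtain ⟨a, b, hab⟩ := hsep
  obtain ⟨Cs, hCs⟩ : ∃ Cs : Finset K, Cs = f.coeffs ∪ a.coeffs ∪ b.coeffs := ⟨_, rfl⟩
  obtain ⟨Bad, hBaddef⟩ : ∃ Bad : Set (Place k K), Bad = {P | ∃ c ∈ Cs, 1 < P.1 c} := ⟨_, rfl⟩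
  have hBad : Bad.Finite := by
    have hsub : Bad ⊆ ⋃ c ∈ Cs, Function.support (fun P : Place k K => P.ord c) := by
      intro P hP
      rw [hBaddef] at hP
      obtain ⟨c, hc, hPc⟩ := hP
      rw [Set.mem_iUnion₂]
      refine ⟨c, hc, ?_⟩
      rw [Function.mem_support]
      have hc0 : c ≠ 0 := by
        rintro rfl
        rw [map_zero] at hPc
        exact absurd hPc (not_lt.mpr zero_le)
      have := (P.ord_neg_iff hc0).mpr hPc
      omega
    exact (Set.Finite.biUnion Cs.finite_toSet (fun c _ => finite_support_ord hK c)).subset hsub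
  have hfinQ : (⋃ P ∈ Bad, {Q : Place k K' | IsOver Q P}).Finite :=
    Set.Finite.biUnion hBad (fun P _ => finite_isOver hK P)
  refine hfinQ.subset ?_
  intro Q hQ
  obtain ⟨P, e, he⟩ := exists_isOverWith hK Q
  rw [Set.mem_iUnion₂]
  refine ⟨P, ?_, ⟨e, he⟩⟩
  by_contra hgood
  apply hQ
  have hgood' : ∀ c ∈ Cs, P.1 c ≤ 1 := fun c hc => not_lt.mp (fun h => hgood (by
    rw [hBaddef]
    exact ⟨c, hc, h⟩))
  have hfl : f ∈ Polynomial.lifts (algebraMap P.O K) := exists_lift_of_coeffs_le P f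
    (fun c hc => hgood' c (by rw [hCs]; exact Finset.mem_union_left _ (Finset.mem_union_left _ hc)))
  have hal : a ∈ Polynomial.lifts (algebraMap P.O K) := exists_lift_of_coeffs_le P a
    (fun c hc => hgood' c (by rw [hCs]; exact Finset.mem_union_left _ (Finset.mem_union_right _ hc)))
  have hbl : b ∈ Polynomial.lifts (algebraMap P.O K) := exists_lift_of_coeffs_le P b
    (fun c hc => hgood' c (by rw [hCs]; exact Finset.mem_union_right _ hc))
  have hfmonic : f.Monic := hf ▸ minpoly.monic (Algebra.IsIntegral.isIntegral y)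
  obtain ⟨f₀, hf₀, -, hf₀m⟩ := Polynomial.lifts_and_degree_eq_and_monic hfl hfmonic
  obtain ⟨a₀, ha₀⟩ := (Polynomial.mem_lifts _).mp hal
  obtain ⟨b₀, hb₀⟩ := (Polynomial.mem_lifts _).mp hbl
  have hinj : Function.Injective (algebraMap P.O K) := Subtype.val_injective
  have hcop : a₀ * f₀ + b₀ * derivative f₀ = 1 := by
    apply Polynomial.map_injective _ hinj
    rw [Polynomial.map_add, Polynomial.map_mul, Polynomial.map_mul, Polynomial.map_one,
      ← Polynomial.derivative_map, hf₀, ha₀, hb₀]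
    exact hab
  have hroot : eval₂ ((algebraMap K K').comp P.O.subtype) y f₀ = 0 := by
    have h1 : eval₂ ((algebraMap K K').comp (algebraMap P.O K)) y f₀ =
        aeval y (f₀.map (algebraMap P.O K)) := by
      rw [aeval_def, eval₂_map]
    have h2 : aeval y (f₀.map (algebraMap P.O K)) = 0 := by
      rw [hf₀, hf]
      exact minpoly.aeval K y
    rw [← h2, ← h1]
    rfl
  have he1 : e = 1 := eq_one_of_isOverWith_of_coprime he y hy f₀ a₀ b₀ hf₀m hroot hcop
  subst he1
  intro γ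
  obtain ⟨x, hx⟩ := P.2.2 γ
  exact ⟨x, by rw [Valuation.comap_apply, he, pow_one, hx]⟩

end Unram

end FunFld
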