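import Mathlib
import Groth.Agent.Lib.FunFldScalar_helper2
import Groth.Agent.Lib.FunFldUnram_helper2
import Groth.Agent.Lib.FunFldNorm_helper2

/-! Constant field extensions `K' = k' ⊗_k K`: integral closures of valuation rings (helper2). -/

open Polynomial IntermediateField WithZero Module TensorProduct

namespace FunFld

universe u u' v v'

section ConstExt

variable {k : Type u} {k' : Type u'} {K : Type v} {K' : Type v'} [Field k] [Field k'] [Field K] [Field K']
    [Algebra k k'] [Algebra k K] [Algebra K K'] [Algebra k' K'] [Algebra k K']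
    [IsScalarTower k k' K'] [IsScalarTower k K K']

variable (k k' K K') in
/-- The `K`-algebra version of the product map. -/
noncomputable def prodRight : K ⊗[k] k' →ₐ[K] K' :=
  Algebra.TensorProduct.productLeftAlgHom (Algebra.ofId K K') (IsScalarTower.toAlgHom k k' K')

theorem prodRight_tmul (x : K) (a : k') :
    prodRight k k' K K' (x ⊗ₜ a) = algebraMap K K' x * algebraMap k' K' a := rfl

theorem prodRight_bijective (h : Function.Bijective (Algebra.TensorProduct.productMap
      (IsScalarTower.toAlgHom k k' K') (IsScalarTower.toAlgHom k K K'))) :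
    Function.Bijective (prodRight k k' K K') := by
  have e : ⇑(prodRight k k' K K') = ⇑(Algebra.TensorProduct.productMap
      (IsScalarTower.toAlgHom k k' K') (IsScalarTower.toAlgHom k K K')) ∘
      ⇑(Algebra.TensorProduct.comm k K k') := by
    funext τ
    induction τ using TensorProduct.induction_on with
    | zero => simp
    | tmul x a =>
      rw [Function.comp_apply, Algebra.TensorProduct.comm_tmul,
        Algebra.TensorProduct.productMap_apply_tmul, prodRight_tmul, mul_comm]
      rfl
    | add a b ha hb =>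
      rw [map_add, ha, hb, Function.comp_apply, Function.comp_apply, Function.comp_apply,
        map_add, map_add]
  rw [e]
  exact h.comp (Algebra.TensorProduct.comm k K k').bijective

/-- A `k`-basis of `k'` gives a `K`-basis of `K'`. -/
noncomputable def constBasis (h : Function.Bijective (Algebra.TensorProduct.productMap
      (IsScalarTower.toAlgHom k k' K') (IsScalarTower.toAlgHom k K K')))
    {ι : Type*} (β : Basis ι k k') : Basis ι K K' :=
  (Algebra.TensorProduct.basis K β).map
    (LinearEquiv.ofBijective (prodRight k k' K K').toLinearMap (prodRight_bijective h))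

theorem constBasis_apply (h : Function.Bijective (Algebra.TensorProduct.productMap
      (IsScalarTower.toAlgHom k k' K') (IsScalarTower.toAlgHom k K K')))
    {ι : Type*} (β : Basis ι k k') (i : ι) :
    constBasis h β i = algebraMap k' K' (β i) := by
  unfold constBasis
  rw [Basis.map_apply, Algebra.TensorProduct.basis_apply]
  change prodRight k k' K K' (1 ⊗ₜ β i) = _
  rw [prodRight_tmul, map_one, one_mul]

theorem finiteDimensional_constExt (h : Function.Bijective (Algebra.TensorProduct.productMap
      (IsScalarTower.toAlgHom k k' K') (IsScalarTower.toAlgHom k K K')))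
    [FiniteDimensional k k'] : FiniteDimensional K K' :=
  Module.Finite.of_basis (constBasis h (Module.finBasis k k'))

theorem finrank_constExt (h : Function.Bijective (Algebra.TensorProduct.productMap
      (IsScalarTower.toAlgHom k k' K') (IsScalarTower.toAlgHom k K K')))
    [FiniteDimensional k k'] : Module.finrank K K' = Module.finrank k k' := by
  rw [Module.finrank_eq_card_basis (constBasis h (Module.finBasis k k')),
    Module.finrank_eq_card_basis (Module.finBasis k k')]
  simp

/-- Membership in `O_P[k']` in terms of coordinates. -/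
theorem mem_adjoin_iff_repr (h : Function.Bijective (Algebra.TensorProduct.productMap
      (IsScalarTower.toAlgHom k k' K') (IsScalarTower.toAlgHom k K K')))
    {ι : Type*} [Fintype ι] (β : Basis ι k k') (P : Place k K)
    [Algebra P.O K'] [IsScalarTower P.O K K'] (s : K') :
    s ∈ Algebra.adjoin P.O (Set.range (algebraMap k' K')) ↔
      ∀ i, P.1 ((constBasis h β).repr s i) ≤ 1 := by
  classical
  have hmap : ∀ a : P.O, algebraMap P.O K' a = algebraMap K K' (a : K) := fun a =>
    IsScalarTower.algebraMap_apply P.O K K' a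
  obtain ⟨B, hB⟩ : ∃ B : Basis ι K K', B = constBasis h β := ⟨_, rfl⟩
  have hBi : ∀ i, B i = algebraMap k' K' (β i) := fun i => by rw [hB, constBasis_apply]
  rw [← hB]
  constructor
  · intro hs
    obtain ⟨M, hM⟩ : ∃ M : Submodule P.O K', M = Submodule.span P.O (Set.range B) := ⟨_, rfl⟩
    have hk : ∀ r : k, algebraMap k K' r = algebraMap P.O K' (algebraMap k P.O r) := fun r => by
      rw [hmap, IsScalarTower.algebraMap_apply k K K']
      rfl
    have h1 : ∀ a : k', algebraMap k' K' a ∈ M := by
      intro a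
      have ha : a = ∑ i, β.repr a i • β i := (β.sum_repr a).symm
      rw [ha, map_sum]
      refine Submodule.sum_mem _ (fun i _ => ?_)
      rw [Algebra.smul_def, map_mul, ← IsScalarTower.algebraMap_apply k k' K', hk, ← hBi,
        ← Algebra.smul_def, hM]
      exact Submodule.smul_mem _ _ (Submodule.subset_span ⟨i, rfl⟩)
    have h2 : M * M ≤ M := by
      rw [hM, Submodule.span_mul_span, Submodule.span_le]
      rintro _ ⟨_, ⟨i, rfl⟩, _, ⟨j, rfl⟩, rfl⟩
      rw [← hM]
      change B i * B j ∈ M
      rw [hBi, hBi, ← map_mul]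
      exact h1 _
    have h3 : s ∈ M := by
      induction hs using Algebra.adjoin_induction with
      | mem x hx =>
        obtain ⟨a, rfl⟩ := hx
        exact h1 a
      | algebraMap r =>
        have : algebraMap P.O K' r = r • algebraMap k' K' 1 := by
          rw [map_one, Algebra.smul_def, mul_one]
        rw [this]
        exact Submodule.smul_mem _ _ (h1 1)
      | add x y _ _ hx hy => exact Submodule.add_mem _ hx hy
      | mul x y _ _ hx hy => exact h2 (Submodule.mul_mem_mul hx hy)
    rw [hM] at h3
    clear hs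
    induction h3 using Submodule.span_induction with
    | mem x hx =>
      obtain ⟨j, rfl⟩ := hx
      intro i
      rw [Basis.repr_self, Finsupp.single_apply]
      split_ifs
      · rw [map_one]
      · rw [map_zero]; exact zero_le
    | zero =>
      intro i
      rw [map_zero, Finsupp.coe_zero, Pi.zero_apply, map_zero]
      exact zero_le
    | add x y _ _ hx hy =>
      intro i
      rw [map_add, Finsupp.add_apply]
      exact (P.1.map_add _ _).trans (max_le (hx i) (hy i))
    | smul r x _ hx =>
      intro i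
      have : r • x = (r : K) • x := by
        rw [Algebra.smul_def, Algebra.smul_def, hmap]
      rw [this, map_smul, Finsupp.smul_apply, smul_eq_mul, map_mul]
      exact (mul_le_mul' ((Valuation.mem_valuationSubring_iff _ _).mp r.2) (hx i)).trans_eq
        (one_mul _)
  · intro hs
    have hsum : s = ∑ i, B.repr s i • B i := (B.sum_repr s).symm
    rw [hsum]
    refine Subalgebra.sum_mem _ (fun i _ => ?_)
    rw [Algebra.smul_def, hBi]
    refine Subalgebra.mul_mem _ ?_ (Algebra.subset_adjoin ⟨β i, rfl⟩)
    have : algebraMap K K' (B.repr s i) = algebraMap P.O K'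
        ⟨B.repr s i, (Valuation.mem_valuationSubring_iff _ _).mpr (hs i)⟩ := by
      rw [hmap]
    rw [this]
    exact Subalgebra.algebraMap_mem _ _

end ConstExt

section Reduced

variable {k K K' : Type*} [Field k] [Field K] [Field K'] [Algebra k K] [Algebra K K']
    [Algebra k K'] [IsScalarTower k K K']

omit [IsScalarTower k K K'] in
theorem RO_mul_mem {P : Place k K} {a b : K'} (ha : a ∈ RO K' P) (hb : b ∈ RO K' P) :
    a * b ∈ RO K' P := fun Q hQ => by
  rw [map_mul]
  exact (mul_le_mul' (ha Q hQ) (hb Q hQ)).trans_eq (one_mul _)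

omit [IsScalarTower k K K'] in
theorem RO_pow_mem {P : Place k K} {a : K'} (ha : a ∈ RO K' P) (n : ℕ) :
    a ^ n ∈ RO K' P := fun Q hQ => by
  rw [map_pow]
  exact pow_le_one₀ zero_le (ha Q hQ)

theorem algebraMap_mem_RO {P : Place k K} {c : K} (hc : P.1 c ≤ 1) :
    algebraMap K K' c ∈ RO K' P := fun Q hQ => by
  rw [val_alg_of_isOver hQ]
  exact pow_le_one₀ zero_le hc

variable [FiniteDimensional K K']

/-- If `R' ⊆ K'` is an `O_P`-subalgebra spanning `K'` then some `t^m` multiplies the integral
closure of `O_P` into `R'`. -/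
theorem exists_pow_mul_mem (hK : IsFunctionField k K) (P : Place k K)
    [Algebra P.O K'] [IsScalarTower P.O K K'] (R' : Subalgebra P.O K')
    (h3 : ∀ s : K', ∃ c : K, c ≠ 0 ∧ algebraMap K K' c * s ∈ R')
    {t : K} (ht : P.1 t = exp (-1 : ℤ)) :
    ∃ m : ℕ, ∀ z ∈ RO K' P, algebraMap K K' (t ^ m) * z ∈ R' := by
  classical
  have hmap : ∀ a : P.O, algebraMap P.O K' a = algebraMap K K' (a : K) := fun a =>
    IsScalarTower.algebraMap_apply P.O K K' a
  have hmulmem : ∀ d : K, P.1 d ≤ 1 → ∀ r ∈ R', algebraMap K K' d * r ∈ R' := by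
    intro d hd r hr
    have : algebraMap K K' d =
        algebraMap P.O K' ⟨d, (Valuation.mem_valuationSubring_iff _ _).mpr hd⟩ := by rw [hmap]
    rw [this]
    exact R'.mul_mem (R'.algebraMap_mem _) hr
  have ht0 : t ≠ 0 := uniformizer_ne_zero P ht
  obtain ⟨z, -, hz1, -, hz2⟩ := exists_integral_basis (K' := K') hK P
  choose c hc0 hcz using fun i => h3 (z i)
  obtain ⟨m, hm⟩ : ∃ m : ℕ, m = ∑ i, (P.ord (c i)).natAbs := ⟨_, rfl⟩
  refine ⟨m, ?_⟩
  have hzi : ∀ i, algebraMap K K' (t ^ m) * z i ∈ R' := by
    intro i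
    have hd : P.1 (t ^ m / c i) ≤ 1 := by
      rw [map_div₀, map_pow, ht, P.val_eq_exp_neg_ord (hc0 i), ← exp_nsmul, ← exp_sub,
        ← exp_zero, exp_le_exp]
      have h1 : (P.ord (c i)).natAbs ≤ m := by
        rw [hm]
        exact Finset.single_le_sum (f := fun i => (P.ord (c i)).natAbs)
          (fun _ _ => Nat.zero_le _) (Finset.mem_univ i)
      have h2 : P.ord (c i) ≤ (P.ord (c i)).natAbs := Int.le_natAbs
      simp only [nsmul_eq_mul]
      omega
    have := hmulmem _ hd _ (hcz i)
    have e : algebraMap K K' (t ^ m / c i) * (algebraMap K K' (c i) * z i) =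
        algebraMap K K' (t ^ m) * z i := by
      rw [← mul_assoc, ← map_mul, div_mul_cancel₀ _ (hc0 i)]
    rwa [e] at this
  intro r hr
  obtain ⟨a, ha, rfl⟩ := hz2 r hr
  rw [Finset.mul_sum]
  refine Subalgebra.sum_mem _ (fun i _ => ?_)
  have e : algebraMap K K' (t ^ m) * (algebraMap K K' (a i) * z i) =
      algebraMap K K' (a i) * (algebraMap K K' (t ^ m) * z i) := by ring
  rw [e]
  exact hmulmem _ (ha i) _ (hzi i)

/-- If moreover `R'/tR'` is reduced, then `R'` contains the integral closure of `O_P`. -/
theorem mem_of_mem_RO_of_reduced (hK : IsFunctionField k K) (P : Place k K)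
    [Algebra P.O K'] [IsScalarTower P.O K K'] (R' : Subalgebra P.O K')
    (h3 : ∀ s : K', ∃ c : K, c ≠ 0 ∧ algebraMap K K' c * s ∈ R')
    {t : K} (ht : P.1 t = exp (-1 : ℤ))
    (h4 : ∀ w ∈ R', ∀ N : ℕ, (∃ r ∈ R', w ^ N = algebraMap K K' t * r) →
      ∃ r ∈ R', w = algebraMap K K' t * r) :
    ∀ z ∈ RO K' P, z ∈ R' := by
  obtain ⟨m, hm⟩ := exists_pow_mul_mem hK P R' h3 ht
  have ht0 : t ≠ 0 := uniformizer_ne_zero P ht
  have ht'0 : algebraMap K K' t ≠ 0 := (_root_.map_ne_zero _).mpr ht0
  have htO : P.1 t ≤ 1 := by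
    rw [ht, ← exp_zero, exp_le_exp]
    omega
  have htRO : ∀ j : ℕ, algebraMap K K' (t ^ j) ∈ RO K' P := fun j =>
    algebraMap_mem_RO (by rw [map_pow]; exact pow_le_one₀ zero_le htO)
  have key : ∀ j : ℕ, ∀ z ∈ RO K' P, algebraMap K K' (t ^ j) * z ∈ R' → z ∈ R' := by
    intro j
    induction j with
    | zero =>
      intro z _ hz
      rwa [pow_zero, map_one, one_mul] at hz
    | succ j ih =>
      intro z hz hw
      have hpow : (algebraMap K K' (t ^ (j + 1)) * z) ^ (m + 1) = algebraMap K K' t *
          (algebraMap K K' (t ^ m) * (algebraMap K K' (t ^ (j * (m + 1))) * z ^ (m + 1))) := by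
        simp only [map_pow]
        ring
      obtain ⟨r, hr, hwr⟩ := h4 _ hw (m + 1)
        ⟨_, hm _ (RO_mul_mem (htRO _) (RO_pow_mem hz _)), hpow⟩
      have hjz : algebraMap K K' (t ^ j) * z = r := by
        apply mul_left_cancel₀ ht'0
        rw [← hwr, pow_succ, map_mul]
        ring
      exact ih z hz (hjz ▸ hr)
  intro z hz
  exact key m z hz (hm z hz)

end Reduced

section NS

variable {k : Type u} {k' : Type u'} {K : Type v} {K' : Type v'} [Field k] [Field k'] [Field K] [Field K']
    [Algebra k k'] [Algebra k K] [Algebra K K'] [Algebra k' K'] [Algebra k K']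
    [IsScalarTower k k' K'] [IsScalarTower k K K']

theorem exists_mul_mem_adjoin (h : Function.Bijective (Algebra.TensorProduct.productMap
      (IsScalarTower.toAlgHom k k' K') (IsScalarTower.toAlgHom k K K')))
    [FiniteDimensional k k'] (P : Place k K) [Algebra P.O K'] [IsScalarTower P.O K K'] (s : K') :
    ∃ c : K, c ≠ 0 ∧ algebraMap K K' c * s ∈
      Algebra.adjoin P.O (Set.range (algebraMap k' K')) := by
  classical
  obtain ⟨t, ht⟩ := P.exists_uniformizer
  have ht0 : t ≠ 0 := uniformizer_ne_zero P ht
  obtain ⟨B, hB⟩ : ∃ B, B = constBasis h (Module.finBasis k k') := ⟨_, rfl⟩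
  obtain ⟨m, hm⟩ : ∃ m : ℕ, m = ∑ i, (P.ord (B.repr s i)).natAbs := ⟨_, rfl⟩
  refine ⟨t ^ m, pow_ne_zero _ ht0, ?_⟩
  rw [mem_adjoin_iff_repr h (Module.finBasis k k') P, ← hB]
  intro i
  rw [← Algebra.smul_def, map_smul, Finsupp.smul_apply, smul_eq_mul, map_mul, map_pow, ht]
  by_cases hx : B.repr s i = 0
  · rw [hx, map_zero, mul_zero]
    exact zero_le
  · rw [P.val_eq_exp_neg_ord hx, ← exp_nsmul, ← exp_add, ← exp_zero, exp_le_exp]
    have h1 : (P.ord (B.repr s i)).natAbs ≤ m := by
      rw [hm]
      exact Finset.single_le_sum (f := fun i => (P.ord (B.repr s i)).natAbs)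
        (fun _ _ => Nat.zero_le _) (Finset.mem_univ i)
    have h2 : -P.ord (B.repr s i) ≤ (P.ord (B.repr s i)).natAbs := by
      rw [← Int.natAbs_neg]
      exact Int.le_natAbs
    simp only [nsmul_eq_mul]
    omega

theorem isIntegral_algebraMap_const [FiniteDimensional k k'] (P : Place k K)
    [Algebra P.O K'] [IsScalarTower P.O K K'] (a : k') : IsIntegral P.O (algebraMap k' K' a) := by
  have hmap : ∀ a : P.O, algebraMap P.O K' a = algebraMap K K' (a : K) := fun a =>
    IsScalarTower.algebraMap_apply P.O K K' a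
  haveI : IsScalarTower k P.O K' := IsScalarTower.of_algebraMap_eq (fun c => by
    rw [hmap, IsScalarTower.algebraMap_apply k K K']; rfl)
  have h1 : IsIntegral k (algebraMap k' K' a) :=
    (Algebra.IsIntegral.isIntegral (R := k) a).map (IsScalarTower.toAlgHom k k' K')
  exact h1.tower_top

/-- If `k' ⊗_k F_P` is reduced then `P` is nonsingular with respect to `k'`. -/
theorem integralClosure_eq_adjoin_of_isReduced
    (h : Function.Bijective (Algebra.TensorProduct.productMap
      (IsScalarTower.toAlgHom k k' K') (IsScalarTower.toAlgHom k K K')))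
    [FiniteDimensional k k'] (hK : IsFunctionField k K) (P : Place k K)
    [Algebra P.O K'] [IsScalarTower P.O K K']
    {F : Type*} [CommRing F] [Algebra k F] (resA : P.O →ₐ[k] F)
    (hressurj : Function.Surjective resA) (hres : ∀ a : P.O, resA a = 0 ↔ P.1 (a : K) < 1)
    (hred : IsReduced (k' ⊗[k] F)) :
    (integralClosure P.O K').toSubring =
      (Algebra.adjoin P.O (Set.range (algebraMap k' K'))).toSubring := by
  classical
  haveI : FiniteDimensional K K' := finiteDimensional_constExt h
  have hmap : ∀ a : P.O, algebraMap P.O K' a = algebraMap K K' (a : K) := fun a =>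
    IsScalarTower.algebraMap_apply P.O K K' a
  obtain ⟨t, ht⟩ := P.exists_uniformizer
  have ht0 : t ≠ 0 := uniformizer_ne_zero P ht
  have htO : P.1 t ≤ 1 := by
    rw [ht, ← exp_zero, exp_le_exp]
    omega
  let t' : P.O := ⟨t, (Valuation.mem_valuationSubring_iff _ _).mpr htO⟩
  ext z
  rw [Subalgebra.mem_toSubring, Subalgebra.mem_toSubring]
  constructor
  · intro hz
    have hzRO : z ∈ RO K' P := (isIntegral_iff_forall_isOver hK P z).mp hz
    refine mem_of_mem_RO_of_reduced hK P _ (exists_mul_mem_adjoin h P) ht ?_ z hzRO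
    -- reducedness of `R̃ / t R̃`
    let j : P.O →ₐ[k] K := IsScalarTower.toAlgHom k P.O K
    let Ψ : k' ⊗[k] P.O →ₐ[k] K' := Algebra.TensorProduct.productMap
      (IsScalarTower.toAlgHom k k' K') ((IsScalarTower.toAlgHom k K K').comp j)
    let π : k' ⊗[k] P.O →ₐ[k] k' ⊗[k] F :=
      Algebra.TensorProduct.map (AlgHom.id k k') resA
    have hΨtmul : ∀ (a : k') (r : P.O), Ψ (a ⊗ₜ r) = algebraMap k' K' a * algebraMap P.O K' r :=
      fun a r => by
        rw [hmap]
        rfl
    have hΨcomp : Ψ = (Algebra.TensorProduct.productMap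
        (IsScalarTower.toAlgHom k k' K') (IsScalarTower.toAlgHom k K K')).comp
        (Algebra.TensorProduct.map (AlgHom.id k k') j) := by
      apply Algebra.TensorProduct.ext'
      intro a r
      rfl
    have hΨinj : Function.Injective Ψ := by
      rw [hΨcomp]
      exact h.1.comp (Module.Flat.lTensor_preserves_injective_linearMap j.toLinearMap
        Subtype.val_injective)
    have hΨmem : ∀ ω, Ψ ω ∈ Algebra.adjoin P.O (Set.range (algebraMap k' K')) := by
      intro ω
      induction ω using TensorProduct.induction_on with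
      | zero => rw [map_zero]; exact Subalgebra.zero_mem _
      | tmul a r =>
        rw [hΨtmul]
        exact Subalgebra.mul_mem _ (Algebra.subset_adjoin ⟨a, rfl⟩) (Subalgebra.algebraMap_mem _ r)
      | add x y hx hy => rw [map_add]; exact Subalgebra.add_mem _ hx hy
    have hΨsurj : ∀ s ∈ Algebra.adjoin P.O (Set.range (algebraMap k' K')), ∃ ω, Ψ ω = s := by
      intro s hs
      induction hs using Algebra.adjoin_induction with
      | mem x hx =>
        obtain ⟨a, rfl⟩ := hx
        exact ⟨a ⊗ₜ 1, by rw [hΨtmul, map_one, mul_one]⟩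
      | algebraMap r => exact ⟨1 ⊗ₜ r, by rw [hΨtmul, map_one, one_mul]⟩
      | add x y _ _ hx hy =>
        obtain ⟨ω₁, h₁⟩ := hx
        obtain ⟨ω₂, h₂⟩ := hy
        exact ⟨ω₁ + ω₂, by rw [map_add, h₁, h₂]⟩
      | mul x y _ _ hx hy =>
        obtain ⟨ω₁, h₁⟩ := hx
        obtain ⟨ω₂, h₂⟩ := hy
        exact ⟨ω₁ * ω₂, by rw [map_mul, h₁, h₂]⟩
    have hΨt : Ψ (1 ⊗ₜ t') = algebraMap K K' t := by
      rw [hΨtmul, map_one, one_mul, hmap]
    have hπt : π (1 ⊗ₜ t') = 0 := by
      change (1 : k') ⊗ₜ[k] resA t' = 0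
      have : resA t' = 0 := by
        rw [hres]
        change P.1 t < 1
        rw [ht, ← exp_zero, exp_lt_exp]
        omega
      rw [this, TensorProduct.tmul_zero]
    have hker : RingHom.ker resA = Ideal.span {t'} := by
      ext a
      rw [RingHom.mem_ker, hres, Ideal.mem_span_singleton']
      constructor
      · intro ha
        refine ⟨⟨(a : K) / t, ?_⟩, Subtype.ext ?_⟩
        · rw [Valuation.mem_valuationSubring_iff, map_div₀, ht]
          rw [lt_one_iff_le_exp_neg_one] at ha
          exact (div_le_one₀ (zero_lt_iff.mpr exp_ne_zero)).mpr ha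
        · change (a : K) / t * t = a
          rw [div_mul_cancel₀ _ ht0]
      · rintro ⟨c, hc⟩
        have hc' : (c : K) * t = a := congrArg Subtype.val hc
        rw [← hc', map_mul, ht]
        calc P.1 (c : K) * exp (-1 : ℤ) ≤ 1 * exp (-1 : ℤ) :=
              mul_le_mul' ((Valuation.mem_valuationSubring_iff _ _).mp c.2) le_rfl
          _ < 1 := by
              rw [one_mul, ← exp_zero, exp_lt_exp]
              omega
    intro w hw N ⟨r, hr, hwr⟩
    obtain ⟨ω, hω⟩ := hΨsurj w hw
    obtain ⟨ρ, hρ⟩ := hΨsurj r hr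
    have e1 : ω ^ N = (1 ⊗ₜ t') * ρ := by
      apply hΨinj
      rw [map_pow, map_mul, hω, hρ, hΨt, hwr]
    have e2 : π ω ^ N = 0 := by
      rw [← map_pow, e1, map_mul, hπt, zero_mul]
    have e3 : π ω = 0 := IsNilpotent.eq_zero ⟨N, e2⟩
    have e4 : ω ∈ RingHom.ker π := e3
    rw [Algebra.TensorProduct.lTensor_ker resA hressurj, hker, Ideal.map_span,
      Set.image_singleton, Ideal.mem_span_singleton'] at e4
    obtain ⟨ρ', hρ'⟩ := e4
    refine ⟨Ψ ρ', hΨmem ρ', ?_⟩
    rw [← hω, ← hρ', map_mul, mul_comm]
    congr 1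
  · intro hz
    have hle : Algebra.adjoin P.O (Set.range (algebraMap k' K')) ≤ integralClosure P.O K' := by
      apply Algebra.adjoin_le
      rintro _ ⟨a, rfl⟩
      exact isIntegral_algebraMap_const P a
    exact hle hz

end NS

end FunFld
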