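import Mathlib
import Groth.Agent.Lib.FunFldConstExt_helper2

/-! Constant field extensions, part B: nonsingular places (helper2). -/

open Polynomial IntermediateField WithZero Module TensorProduct

namespace FunFld

universe u u' v v'

section ResF

variable {k : Type*} {K : Type*} [Field k] [Field K] [Algebra k K]

/-- The residue field of a place, carrying only the `k`-algebra structure of the Prelude. -/
def ResF (P : Place k K) : Type _ := IsLocalRing.ResidueField P.O

noncomputable instance (P : Place k K) : Field (ResF P) :=
  inferInstanceAs (Field (IsLocalRing.ResidueField P.O))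

noncomputable instance (P : Place k K) : Algebra k (ResF P) := Place.algRes P

/-- The residue map as a `k`-algebra homomorphism. -/
noncomputable def resF (P : Place k K) : P.O →ₐ[k] ResF P :=
  { IsLocalRing.residue P.O with commutes' := fun _ => rfl }

theorem resF_surjective (P : Place k K) : Function.Surjective (resF P) :=
  IsLocalRing.residue_surjective

theorem resF_eq_zero_iff (P : Place k K) (a : P.O) : resF P a = 0 ↔ P.1 (a : K) < 1 :=
  P.residue_eq_zero_iff a

/-- The identity, as a linear equivalence between the two module structures. -/
noncomputable def resFEquiv (P : Place k K) : IsLocalRing.ResidueField P.O ≃ₗ[k] ResF P where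
  toFun := id
  invFun := id
  map_add' _ _ := rfl
  map_smul' c x := by
    obtain ⟨a, rfl⟩ := IsLocalRing.residue_surjective x
    have h1 : (c • IsLocalRing.residue P.O a : IsLocalRing.ResidueField P.O) =
        IsLocalRing.residue P.O (c • a) := rfl
    have h2 : (c • (resF P a) : ResF P) = resF P (c • a) := (map_smul (resF P) c a).symm
    exact h1.trans h2.symm
  left_inv _ := rfl
  right_inv _ := rfl

theorem finiteDimensional_resF (hK : IsFunctionField k K) (P : Place k K) :
    FiniteDimensional k (ResF P) := by
  haveI := finiteDimensional_residueField hK P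
  exact Module.Finite.equiv (resFEquiv P)

end ResF

section AbstractReduced

theorem isReduced_tensor_of_isSeparable_right (k k' F : Type*) [Field k] [Field k'] [Field F]
    [Algebra k k'] [Algebra k F] [FiniteDimensional k F] [Algebra.IsSeparable k F] :
    IsReduced (k' ⊗[k] F) := by
  haveI : Algebra.FormallyUnramified k F := Algebra.FormallyUnramified.of_isSeparable k F
  exact Algebra.FormallyUnramified.isReduced_of_field k' (k' ⊗[k] F)

theorem isReduced_tensor_of_isSeparable_left (k k' F : Type*) [Field k] [Field k'] [Field F]
    [Algebra k k'] [Algebra k F] [FiniteDimensional k k'] [Algebra.IsSeparable k k'] :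
    IsReduced (k' ⊗[k] F) := by
  haveI : IsReduced (F ⊗[k] k') := isReduced_tensor_of_isSeparable_right k F k'
  exact isReduced_of_injective (Algebra.TensorProduct.comm k k' F)
    (Algebra.TensorProduct.comm k k' F).injective

end AbstractReduced

section Main

variable {k : Type u} {k' : Type u'} {K : Type v} {K' : Type v'} [Field k] [Field k'] [Field K] [Field K']
    [Algebra k k'] [Algebra k K] [Algebra K K'] [Algebra k' K'] [Algebra k K']
    [IsScalarTower k k' K'] [IsScalarTower k K K']

/-- S11018. -/
theorem integralClosure_eq_adjoin_of_isSeparable_residueField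
    (h : Function.Bijective (Algebra.TensorProduct.productMap
      (IsScalarTower.toAlgHom k k' K') (IsScalarTower.toAlgHom k K K')))
    [FiniteDimensional k k'] (hK : IsFunctionField k K) (P : Place k K)
    [hsep : Algebra.IsSeparable k (IsLocalRing.ResidueField P.O)]
    [Algebra P.O K'] [IsScalarTower P.O K K'] :
    (integralClosure P.O K').toSubring =
      (Algebra.adjoin P.O (Set.range (algebraMap k' K'))).toSubring := by
  haveI : FiniteDimensional k (ResF P) := finiteDimensional_resF hK P
  haveI : Algebra.IsSeparable k (ResF P) := hsep
  exact integralClosure_eq_adjoin_of_isReduced h hK P (resF P) (resF_surjective P)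
    (resF_eq_zero_iff P) (isReduced_tensor_of_isSeparable_right k k' (ResF P))

theorem algebraMap_mem_adjoin_const (α : k') {a : k'} (ha : a ∈ k⟮α⟯) :
    algebraMap k' K' a ∈ K⟮algebraMap k' K' α⟯ := by
  induction ha using IntermediateField.adjoin_induction with
  | mem y hy =>
    rw [Set.mem_singleton_iff] at hy
    rw [hy]
    exact mem_adjoin_simple_self _ _
  | algebraMap c =>
    rw [← IsScalarTower.algebraMap_apply k k' K', IsScalarTower.algebraMap_apply k K K']
    exact IntermediateField.algebraMap_mem _ _
  | add y z _ _ hy hz => rw [map_add]; exact add_mem hy hz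
  | inv y _ hy => rw [map_inv₀]; exact inv_mem hy
  | mul y z _ _ hy hz => rw [map_mul]; exact mul_mem hy hz

/-- S11012. -/
theorem integralClosure_eq_adjoin_and_unramified_of_isSeparable
    (h : Function.Bijective (Algebra.TensorProduct.productMap
      (IsScalarTower.toAlgHom k k' K') (IsScalarTower.toAlgHom k K K')))
    [FiniteDimensional k k'] [Algebra.IsSeparable k k'] (hK : IsFunctionField k K) (P : Place k K)
    [Algebra P.O K'] [IsScalarTower P.O K K'] (Q : Place k K') (hQ : IsOver Q P) :
    (integralClosure P.O K').toSubring =
      (Algebra.adjoin P.O (Set.range (algebraMap k' K'))).toSubring ∧ IsOverWith Q P 1 := by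
  classical
  refine ⟨integralClosure_eq_adjoin_of_isReduced h hK P (resF P) (resF_surjective P)
    (resF_eq_zero_iff P) (isReduced_tensor_of_isSeparable_left k k' (ResF P)), ?_⟩
  obtain ⟨α, hα⟩ := Field.exists_primitive_element k k'
  obtain ⟨f, hf⟩ : ∃ f, f = minpoly k α := ⟨_, rfl⟩
  have hsep : f.Separable := hf ▸ Algebra.IsSeparable.isSeparable k α
  obtain ⟨a, b, hab⟩ := hsep
  have hfmonic : f.Monic := hf ▸ minpoly.monic (Algebra.IsIntegral.isIntegral α)
  -- `K' = K(α')`
  have htop : K⟮algebraMap k' K' α⟯ = ⊤ := by
    rw [eq_top_iff]
    rintro s -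
    obtain ⟨B, hB⟩ : ∃ B, B = constBasis h (Module.finBasis k k') := ⟨_, rfl⟩
    have hsum : s = ∑ i, B.repr s i • B i := (B.sum_repr s).symm
    rw [hsum]
    refine sum_mem (fun i _ => ?_)
    rw [Algebra.smul_def, hB, constBasis_apply]
    refine mul_mem (IntermediateField.algebraMap_mem _ _) (algebraMap_mem_adjoin_const (k := k) (K := K) α ?_)
    rw [hα]
    exact IntermediateField.mem_top
  obtain ⟨e, he⟩ := hQ
  have hroot : eval₂ ((algebraMap K K').comp P.O.subtype) (algebraMap k' K' α)
      (f.map (algebraMap k P.O)) = 0 := by
    rw [eval₂_map]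
    have h1 : ((algebraMap K K').comp P.O.subtype).comp (algebraMap k P.O) =
        (algebraMap k' K').comp (algebraMap k k') := by
      ext c
      change algebraMap K K' (algebraMap k K c) = algebraMap k' K' (algebraMap k k' c)
      rw [← IsScalarTower.algebraMap_apply k K K', ← IsScalarTower.algebraMap_apply k k' K']
    rw [h1, ← Polynomial.hom_eval₂, ← aeval_def, hf, minpoly.aeval, map_zero]
  have hcop : a.map (algebraMap k P.O) * f.map (algebraMap k P.O) +
      b.map (algebraMap k P.O) * derivative (f.map (algebraMap k P.O)) = 1 := by
    rw [Polynomial.derivative_map, ← Polynomial.map_mul, ← Polynomial.map_mul,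
      ← Polynomial.map_add, hab, Polynomial.map_one]
  have he1 : e = 1 := eq_one_of_isOverWith_of_coprime he (algebraMap k' K' α) htop _ _ _
    (hfmonic.map _) hroot hcop
  subst he1
  exact he

end Main

end FunFld
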