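import Mathlib
import Groth.Agent.Lib.FunFldConstExtB_helper2

/-! Constant field extensions, part C: conductor and residue fields (helper2). -/

open Polynomial IntermediateField WithZero Module TensorProduct

namespace FunFld

universe u u' v v'

section Gen

variable {k K K' : Type*} [Field k] [Field K] [Field K'] [Algebra k K] [Algebra K K']
    [Algebra k K'] [IsScalarTower k K K'] [FiniteDimensional K K']

/-- `RO / t^m RO` is finite-dimensional: there is a finite-dimensional `V` with
`RO ⊆ V + t^m RO`. -/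
theorem exists_finiteDimensional_compl (hK : IsFunctionField k K) (P : Place k K) (m : ℕ) :
    ∃ V : Submodule k K', FiniteDimensional k V ∧ ∀ r ∈ RO K' P, ∃ s : K',
      (∀ Q : Place k K', IsOver Q P → Q.1 s ≤ exp (-((m * ramIdx Q P : ℕ) : ℤ))) ∧ r - s ∈ V := by
  classical
  have hfin := finite_isOver (K' := K') hK P
  obtain ⟨S, hS⟩ : ∃ S : Finset (Place k K'), S = hfin.toFinset := ⟨_, rfl⟩
  obtain ⟨E, hE⟩ : ∃ E : Divisor k K', E = m • conormP hfin := ⟨_, rfl⟩
  have hSmem : ∀ Q, Q ∈ S ↔ IsOver Q P := fun Q => by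
    rw [hS]
    exact hfin.mem_toFinset
  have hEQ : ∀ Q, E Q = ((m * ramIdx Q P : ℕ) : ℤ) := fun Q => by
    rw [hE, Finsupp.smul_apply, conormP_apply]
    push_cast
    rw [nsmul_eq_mul]
  have hRO : RO K' P = LS S 0 := by
    ext z
    constructor
    · intro hz Q hQ
      rw [Finsupp.coe_zero, Pi.zero_apply, exp_zero]
      exact hz Q ((hSmem Q).mp hQ)
    · intro hz Q hQ
      have := hz Q ((hSmem Q).mpr hQ)
      rwa [Finsupp.coe_zero, Pi.zero_apply, exp_zero] at this
  have hEnn : (0 : Divisor k K') ≤ E := fun Q => by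
    rw [Finsupp.coe_zero, Pi.zero_apply, hEQ]
    exact Int.natCast_nonneg _
  have hchain := relQ_chain (LS S) (↑S : Set (Place k K'))
    (fun D Q hQ => LS_step' S D Q (Finset.mem_coe.mp hQ)
      (finiteDimensional_residueField_ext hK Q)) E hEnn
    (fun Q hQ => by
      rw [Finset.mem_coe, hSmem]
      by_contra hno
      apply hQ
      rw [hEQ, ramIdx_eq_zero hno, Nat.mul_zero, Nat.cast_zero]) (-E)
  rw [neg_add_cancel] at hchain
  obtain ⟨h1, h2, -⟩ := hchain
  obtain ⟨V', hV'⟩ := (Submodule.comap (LS S 0).subtype (LS S (-E))).exists_isCompl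
  haveI : FiniteDimensional k V' :=
    Module.Finite.equiv (Submodule.quotientEquivOfIsCompl _ V' hV')
  refine ⟨V'.map (LS S 0).subtype, inferInstance, ?_⟩
  intro r hr
  have hr' : r ∈ LS S 0 := hRO ▸ hr
  have htop : (⟨r, hr'⟩ : ↥(LS S 0)) ∈ Submodule.comap (LS S 0).subtype (LS S (-E)) ⊔ V' := by
    rw [hV'.sup_eq_top]
    exact Submodule.mem_top
  obtain ⟨a, ha, v, hv, hav⟩ := Submodule.mem_sup.mp htop
  refine ⟨a.1, ?_, ?_⟩
  · intro Q hQ
    have := ha Q ((hSmem Q).mpr hQ)
    rwa [Finsupp.neg_apply, hEQ] at this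
  · have : r - a.1 = v.1 := by
      have := congrArg Subtype.val hav
      change a.1 + v.1 = r at this
      rw [← this]
      ring
    rw [this]
    exact Submodule.mem_map.mpr ⟨v, hv, rfl⟩

end Gen

section Main

variable {k : Type u} {k' : Type u'} {K : Type v} {K' : Type v'} [Field k] [Field k'] [Field K] [Field K']
    [Algebra k k'] [Algebra k K] [Algebra K K'] [Algebra k' K'] [Algebra k K']
    [IsScalarTower k k' K'] [IsScalarTower k K K']

/-- S12526. -/
theorem integralClosure_mod_adjoin_finite_and_conductor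
    (h : Function.Bijective (Algebra.TensorProduct.productMap
      (IsScalarTower.toAlgHom k k' K') (IsScalarTower.toAlgHom k K K')))
    [FiniteDimensional k k'] (hK : IsFunctionField k K) (P : Place k K)
    [Algebra P.O K'] [IsScalarTower P.O K K'] :
    (∃ V : Submodule k K', FiniteDimensional k V ∧ ∀ r ∈ integralClosure P.O K',
        ∃ s ∈ Algebra.adjoin P.O (Set.range (algebraMap k' K')), r - s ∈ V) ∧
    (∃ c ∈ integralClosure P.O K', c ≠ 0 ∧ ∀ r ∈ integralClosure P.O K',
        c * r ∈ Algebra.adjoin P.O (Set.range (algebraMap k' K'))) := by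
  classical
  haveI : FiniteDimensional K K' := finiteDimensional_constExt h
  obtain ⟨t, ht⟩ := P.exists_uniformizer
  have ht0 : t ≠ 0 := uniformizer_ne_zero P ht
  have htO : P.1 t ≤ 1 := by
    rw [ht, ← exp_zero, exp_le_exp]
    omega
  obtain ⟨m, hm⟩ := exists_pow_mul_mem hK P (Algebra.adjoin P.O (Set.range (algebraMap k' K')))
    (exists_mul_mem_adjoin h P) ht
  have hmem : ∀ r : K', r ∈ integralClosure P.O K' ↔ r ∈ RO K' P := fun r =>
    isIntegral_iff_forall_isOver hK P r
  have hc0 : algebraMap K K' (t ^ m) ≠ 0 := (_root_.map_ne_zero _).mpr (pow_ne_zero _ ht0)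
  constructor
  · obtain ⟨V, hVfd, hV⟩ := exists_finiteDimensional_compl (K' := K') hK P m
    refine ⟨V, hVfd, fun r hr => ?_⟩
    obtain ⟨s, hs, hrs⟩ := hV r ((hmem r).mp hr)
    refine ⟨s, ?_, hrs⟩
    have hsc : s / algebraMap K K' (t ^ m) ∈ RO K' P := by
      intro Q hQ
      rw [map_div₀, val_alg_of_isOver hQ, map_pow, ht, ← exp_nsmul, ← exp_nsmul]
      have := hs Q hQ
      refine (div_le_one₀ (zero_lt_iff.mpr exp_ne_zero)).mpr (this.trans_eq ?_)
      congr 1
      simp only [nsmul_eq_mul, Nat.cast_mul]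
      ring
    have := hm _ hsc
    rwa [mul_div_cancel₀ _ hc0] at this
  · refine ⟨algebraMap K K' (t ^ m), (hmem _).mpr (algebraMap_mem_RO (by
      rw [map_pow]; exact pow_le_one₀ zero_le htO)), hc0, fun r hr => hm r ((hmem r).mp hr)⟩

/-- S12589. -/
theorem residueField_eq_adjoin_of_nonsingular
    (h : Function.Bijective (Algebra.TensorProduct.productMap
      (IsScalarTower.toAlgHom k k' K') (IsScalarTower.toAlgHom k K K')))
    [FiniteDimensional k k'] (hK : IsFunctionField k K) (P : Place k K)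
    [Algebra P.O K'] [IsScalarTower P.O K K']
    (hns : (integralClosure P.O K').toSubring =
      (Algebra.adjoin P.O (Set.range (algebraMap k' K'))).toSubring)
    (Q : Place k K') [P.1.HasExtension Q.1] (hk' : ∀ c : k', Q.1 (algebraMap k' K' c) ≤ 1) :
    Algebra.adjoin (IsLocalRing.ResidueField P.O)
      (Set.range fun c : k' => IsLocalRing.residue Q.O ⟨algebraMap k' K' c, hk' c⟩) = ⊤ := by
  classical
  haveI : FiniteDimensional K K' := finiteDimensional_constExt h
  have hmap : ∀ a : P.O, algebraMap P.O K' a = algebraMap K K' (a : K) := fun a =>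
    IsScalarTower.algebraMap_apply P.O K K' a
  have hext : ∀ x : K, Q.1 (algebraMap K K' x) ≤ 1 ↔ P.1 x ≤ 1 := fun x =>
    Valuation.HasExtension.val_map_le_one_iff P.1 Q.1 x
  have hQP : IsOver Q P := by
    obtain ⟨P', e, he⟩ := exists_isOverWith hK Q
    have : P = P' := Place.eq_of_forall_le_one (fun a ha => by
      have h1 := (hext a).mpr ha
      rw [he] at h1
      exact (pow_le_one_iff_of_nonneg zero_le he.pos.ne').mp h1)
    exact this ▸ ⟨e, he⟩
  obtain ⟨A, hA⟩ : ∃ A : Subalgebra (IsLocalRing.ResidueField P.O) (IsLocalRing.ResidueField Q.O),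
      A = Algebra.adjoin (IsLocalRing.ResidueField P.O)
      (Set.range fun c : k' => IsLocalRing.residue Q.O ⟨algebraMap k' K' c, hk' c⟩) := ⟨_, rfl⟩
  rw [← hA]
  have key : ∀ s ∈ Algebra.adjoin P.O (Set.range (algebraMap k' K')), ∃ hs : Q.1 s ≤ 1,
      IsLocalRing.residue Q.O ⟨s, (Valuation.mem_valuationSubring_iff _ _).mpr hs⟩ ∈ A := by
    intro s hs
    induction hs using Algebra.adjoin_induction with
    | mem x hx =>
      obtain ⟨c, rfl⟩ := hx
      exact ⟨hk' c, hA ▸ Algebra.subset_adjoin ⟨c, rfl⟩⟩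
    | algebraMap r =>
      have hr1 : Q.1 (algebraMap P.O K' r) ≤ 1 := by
        rw [hmap, hext]
        exact (Valuation.mem_valuationSubring_iff _ _).mp r.2
      refine ⟨hr1, ?_⟩
      have : IsLocalRing.residue Q.O ⟨algebraMap P.O K' r,
          (Valuation.mem_valuationSubring_iff _ _).mpr hr1⟩ =
          algebraMap (IsLocalRing.ResidueField P.O) (IsLocalRing.ResidueField Q.O)
            (IsLocalRing.residue P.O r) := by
        rw [Valuation.HasExtension.algebraMap_residue_eq_residue_algebraMap]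
        congr 1
        exact Subtype.ext (hmap r)
      rw [this]
      exact Subalgebra.algebraMap_mem _ _
    | add x y _ _ hx hy =>
      obtain ⟨hx1, hx2⟩ := hx
      obtain ⟨hy1, hy2⟩ := hy
      refine ⟨(Q.1.map_add x y).trans (max_le hx1 hy1), ?_⟩
      have := A.add_mem hx2 hy2
      rw [← map_add] at this
      exact this
    | mul x y _ _ hx hy =>
      obtain ⟨hx1, hx2⟩ := hx
      obtain ⟨hy1, hy2⟩ := hy
      refine ⟨by rw [map_mul]; exact (mul_le_mul' hx1 hy1).trans_eq (one_mul _), ?_⟩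
      have := A.mul_mem hx2 hy2
      rw [← map_mul] at this
      exact this
  rw [eq_top_iff]
  rintro ξ -
  obtain ⟨z, rfl⟩ := IsLocalRing.residue_surjective ξ
  have hfin := finite_isOver (K' := K') hK P
  obtain ⟨S, hS⟩ : ∃ S : Finset (Place k K'), S = hfin.toFinset := ⟨_, rfl⟩
  have hSmem : ∀ Q', Q' ∈ S ↔ IsOver Q' P := fun Q' => by
    rw [hS]
    exact hfin.mem_toFinset
  have hQS : Q ∈ S := (hSmem Q).mpr hQP
  obtain ⟨r, hr⟩ := exists_approx (fun i : S => (i : Place k K')) Subtype.val_injective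
    (fun i => if (i : Place k K') = Q then (z : K') else 0) 1
  have hexp : exp (-1 : ℤ) ≤ (1 : ℤᵐ⁰) := exp_neg_one_lt_one.le
  have hzQ : Q.1 (z : K') ≤ 1 := (Valuation.mem_valuationSubring_iff _ _).mp z.2
  have hrQ : Q.1 (r - z) ≤ exp (-1 : ℤ) := by
    have := hr ⟨Q, hQS⟩
    simp only [if_true] at this
    exact this
  have hrRO : r ∈ RO K' P := by
    intro Q' hQ'
    have := hr ⟨Q', (hSmem Q').mpr hQ'⟩
    by_cases hQQ : Q' = Q
    · subst hQQ
      have h2 : r = (r - z) + z := by ring
      rw [h2]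
      exact (Q'.1.map_add _ _).trans (max_le (hrQ.trans hexp) hzQ)
    · simp only [if_neg hQQ, sub_zero] at this
      exact this.trans hexp
  have hrad : r ∈ Algebra.adjoin P.O (Set.range (algebraMap k' K')) := by
    have h1 : r ∈ (integralClosure P.O K').toSubring :=
      Subalgebra.mem_toSubring.mpr ((isIntegral_iff_forall_isOver hK P r).mpr hrRO)
    rw [hns] at h1
    exact Subalgebra.mem_toSubring.mp h1
  obtain ⟨hr1, hr2⟩ := key r hrad
  have : IsLocalRing.residue Q.O z =
      IsLocalRing.residue Q.O ⟨r, (Valuation.mem_valuationSubring_iff _ _).mpr hr1⟩ := by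
    rw [← sub_eq_zero, ← map_sub, Q.residue_eq_zero_iff]
    change Q.1 ((z : K') - r) < 1
    rw [← neg_sub, Valuation.map_neg]
    exact lt_of_le_of_lt hrQ exp_neg_one_lt_one
  rw [this]
  exact hr2

end Main

end FunFld
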