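import Mathlib
import Groth.Agent.Lib.FunFldW_helper2
import Groth.Prelude.Def_W4bk4goldsch45

/-! Zeta function of a function field over a finite field, part A (helper2): finiteness of places of
bounded degree, of effective divisors of given degree, the class group, and the counting formula. -/

open WithZero Module Polynomial

namespace FunFld

variable {k K : Type*} [Field k] [Field K] [Algebra k K]

section Basic

theorem degHom_apply (D : Divisor k K) : degHom k K D = D.deg := by
  rw [deg_eq_degAddHomH]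
  rfl

theorem div_one (hK : IsFunctionField k K) : div k (1 : K) = 0 := by
  have := div_algebraMap hK (1 : k)
  rwa [map_one] at this

theorem div_zero' (hK : IsFunctionField k K) : div k (0 : K) = 0 := by
  have := div_algebraMap hK (0 : k)
  rwa [map_zero] at this

theorem mem_prinDivs_iff (hK : IsFunctionField k K) (D : Divisor k K) :
    D ∈ prinDivs k K ↔ ∃ x : K, x ≠ 0 ∧ div k x = D := by
  constructor
  · intro h
    unfold prinDivs at h
    induction h using AddSubgroup.closure_induction with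
    | mem D hD =>
      obtain ⟨x, rfl⟩ := hD
      by_cases hx : x = 0
      · refine ⟨1, one_ne_zero, ?_⟩
        rw [hx, div_one hK, div_zero' hK]
      · exact ⟨x, hx, rfl⟩
    | zero => exact ⟨1, one_ne_zero, div_one hK⟩
    | add D E _ _ hD hE =>
      obtain ⟨x, hx, rfl⟩ := hD
      obtain ⟨y, hy, rfl⟩ := hE
      exact ⟨x * y, mul_ne_zero hx hy, div_mul hK hx hy⟩
    | neg D _ hD =>
      obtain ⟨x, hx, rfl⟩ := hD
      exact ⟨x⁻¹, inv_ne_zero hx, div_inv hK x⟩
  · rintro ⟨x, -, rfl⟩
    exact AddSubgroup.subset_closure ⟨x, rfl⟩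

theorem deg_of_mem_prinDivs (hK : IsFunctionField k K) {D : Divisor k K}
    (h : D ∈ prinDivs k K) : D.deg = 0 := by
  obtain ⟨x, -, rfl⟩ := (mem_prinDivs_iff hK D).mp h
  exact deg_div_eq_zero hK x

theorem div_smul (hK : IsFunctionField k K) {c : k} (hc : c ≠ 0) {x : K} (hx : x ≠ 0) :
    div k (c • x) = div k x := by
  rw [Algebra.smul_def, div_mul hK ((_root_.map_ne_zero (algebraMap k K)).mpr hc) hx,
    div_algebraMap hK, zero_add]

theorem coeff_mul_deg_le {D : Divisor k K} (hD : 0 ≤ D) (P : Place k K) :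
    D P * (P.deg : ℤ) ≤ D.deg := by
  have h1 : (Finsupp.single P (D P) : Divisor k K) ≤ D := by
    intro Q
    by_cases h : P = Q
    · subst h
      rw [single_apply_self]
    · rw [single_apply_ne h]
      exact hD Q
  have := deg_mono h1
  rwa [deg_single] at this

/-- The degree-zero class group. -/
abbrev Cl0 (k K : Type*) [Field k] [Field K] [Algebra k K] : Type _ :=
  (degHom k K).ker ⧸ (prinDivs k K).addSubgroupOf (degHom k K).ker

/-- The class of a degree-zero divisor. -/
noncomputable def clsOf (D : Divisor k K) (h : D.deg = 0) : Cl0 k K :=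
  QuotientAddGroup.mk ⟨D, by rw [AddMonoidHom.mem_ker, degHom_apply]; exact h⟩

theorem clsOf_eq_iff {D D' : Divisor k K} (h : D.deg = 0) (h' : D'.deg = 0) :
    clsOf D h = clsOf D' h' ↔ D' - D ∈ prinDivs k K := by
  unfold clsOf
  rw [QuotientAddGroup.eq, AddSubgroup.mem_addSubgroupOf]
  have : (((-(⟨D, by rw [AddMonoidHom.mem_ker, degHom_apply]; exact h⟩ : (degHom k K).ker) +
      (⟨D', by rw [AddMonoidHom.mem_ker, degHom_apply]; exact h'⟩ : (degHom k K).ker) :
      (degHom k K).ker)) : Divisor k K) = D' - D := by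
    push_cast
    abel
  rw [this]

theorem deg_out (c : Cl0 k K) : ((Quotient.out c : (degHom k K).ker) : Divisor k K).deg = 0 := by
  have := (Quotient.out c : (degHom k K).ker).2
  rwa [AddMonoidHom.mem_ker, degHom_apply] at this

theorem clsOf_out (c : Cl0 k K) :
    clsOf ((Quotient.out c : (degHom k K).ker) : Divisor k K) (deg_out c) = c := by
  unfold clsOf
  exact QuotientAddGroup.out_eq' c

theorem exists_clsOf (c : Cl0 k K) : ∃ (C : Divisor k K) (h : C.deg = 0), clsOf C h = c :=
  ⟨_, deg_out c, clsOf_out c⟩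

theorem ell_add_of_clsOf_eq (hK : IsFunctionField k K) (D : Divisor k K) {C C' : Divisor k K}
    (hC : C.deg = 0) (hC' : C'.deg = 0) (h : clsOf C hC = clsOf C' hC') :
    ell (D + C) = ell (D + C') := by
  rw [clsOf_eq_iff] at h
  obtain ⟨z, hz, hdiv⟩ := (mem_prinDivs_iff hK _).mp h
  have : D + C' = (D + C) + div k z := by
    rw [hdiv]
    abel
  rw [this, ell_add_div hK _ hz]

theorem exists_effective_of_ell_pos (hK : IsFunctionField k K) {A : Divisor k K} (h : 0 < ell A) :
    ∃ D : Divisor k K, 0 ≤ D ∧ D - A ∈ prinDivs k K := by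
  obtain ⟨z, hzL, hz0⟩ := exists_ne_zero_mem_L_of_ell_pos hK h
  refine ⟨div k z + A, (mem_L_iff_div hK hz0 A).mp hzL, ?_⟩
  rw [add_sub_cancel_right]
  exact (mem_prinDivs_iff hK _).mpr ⟨z, hz0, rfl⟩

end Basic

section Finite

variable [Finite k]

theorem finite_residueField (hK : IsFunctionField k K) (P : Place k K) :
    Finite (IsLocalRing.ResidueField P.O) := by
  haveI := finiteDimensional_residueField hK P
  exact Module.finite_of_finite k

theorem natCard_residueField (hK : IsFunctionField k K) (P : Place k K) :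
    Nat.card (IsLocalRing.ResidueField P.O) = Nat.card k ^ P.deg := by
  haveI := finiteDimensional_residueField hK P
  unfold Place.deg
  exact Module.natCard_eq_pow_finrank

theorem val_pow_card_sub_lt (hK : IsFunctionField k K) (P : Place k K) {x : K} (hx : P.1 x ≤ 1) :
    P.1 (x ^ (Nat.card k ^ P.deg) - x) < 1 := by
  haveI := finite_residueField hK P
  haveI := Fintype.ofFinite (IsLocalRing.ResidueField P.O)
  have h1 : (IsLocalRing.residue P.O ⟨x, hx⟩) ^ (Nat.card k ^ P.deg) =
      IsLocalRing.residue P.O ⟨x, hx⟩ := by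
    rw [← natCard_residueField hK P, Nat.card_eq_fintype_card]
    exact FiniteField.pow_card _
  have h2 : IsLocalRing.residue P.O ((⟨x, hx⟩ : P.O) ^ (Nat.card k ^ P.deg) - ⟨x, hx⟩) = 0 := by
    rw [map_sub, map_pow, h1, sub_self]
  exact (P.residue_eq_zero_iff _).mp h2

theorem pow_sub_self_ne_zero {x : K} (hx : Transcendental k x) {N : ℕ} (hN : 1 < N) :
    x ^ N - x ≠ 0 := by
  intro h
  apply hx
  refine ⟨X ^ N - X, FiniteField.X_pow_card_sub_X_ne_zero k hN, ?_⟩
  simpa using h

theorem finite_places_deg_le (hK : IsFunctionField k K) (n : ℕ) :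
    {P : Place k K | P.deg ≤ n}.Finite := by
  obtain ⟨x, hx, -⟩ := hK.1
  have hq : 1 < Nat.card k := Finite.one_lt_card
  have hx0 : x ≠ 0 := fun h => hx (h ▸ isAlgebraic_zero)
  have hsub : {P : Place k K | P.deg ≤ n} ⊆
      ⋃ d ∈ Finset.range (n + 1),
        ((Function.support fun P : Place k K => P.ord (x ^ (Nat.card k ^ d) - x)) ∪
          (Function.support fun P : Place k K => P.ord x)) := by
    intro P hP
    rw [Set.mem_iUnion₂]
    refine ⟨P.deg, Finset.mem_range.mpr (Nat.lt_succ_of_le hP), ?_⟩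
    by_cases hle : P.1 x ≤ 1
    · left
      have hlt := val_pow_card_sub_lt hK P hle
      have hne : x ^ (Nat.card k ^ P.deg) - x ≠ 0 :=
        pow_sub_self_ne_zero hx (Nat.one_lt_pow (Place.deg_pos hK P).ne' hq)
      rw [Function.mem_support]
      have := (P.ord_pos_iff hne).mpr hlt
      omega
    · right
      rw [Function.mem_support]
      have := (P.ord_neg_iff hx0).mpr (not_le.mp hle)
      omega
  refine Set.Finite.subset (Set.Finite.biUnion (Finset.finite_toSet _) fun d _ => ?_) hsub
  exact (finite_support_ord hK _).union (finite_support_ord hK _)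

theorem finite_effective_deg (hK : IsFunctionField k K) (n : ℕ) :
    {D : Divisor k K | 0 ≤ D ∧ D.deg = n}.Finite := by
  classical
  have hS := finite_places_deg_le hK n
  let E : Divisor k K := Finsupp.onFinset hS.toFinset
    (fun P => if P.deg ≤ n then (n : ℤ) else 0) (fun P h => by
      rw [Set.Finite.mem_toFinset]
      by_contra hc
      exact h (if_neg hc))
  have hE : ∀ P, E P = if P.deg ≤ n then (n : ℤ) else 0 := fun P => Finsupp.onFinset_apply
  refine (Set.finite_Icc (0 : Divisor k K) E).subset ?_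
  rintro D ⟨hD, hdeg⟩
  refine ⟨hD, fun P => ?_⟩
  have h1 := coeff_mul_deg_le hD P
  have hpos := Place.deg_pos hK P
  have h0 : 0 ≤ D P := hD P
  rw [hdeg] at h1
  rw [hE P]
  split_ifs with hP
  · nlinarith
  · push Not at hP
    by_contra hne
    push Not at hne
    have h2 : (n : ℤ) < P.deg := by exact_mod_cast hP
    nlinarith

theorem finite_effective_deg' (hK : IsFunctionField k K) (n : ℕ) :
    Finite {D : Divisor k K // 0 ≤ D ∧ D.deg = n} :=
  (finite_effective_deg hK n).to_subtype

theorem effDivCount_zero (hK : IsFunctionField k K) : effDivCount k K 0 = 1 := by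
  unfold effDivCount
  rw [Nat.card_eq_one_iff_unique]
  refine ⟨⟨fun a b => Subtype.ext ?_⟩, ⟨⟨0, le_rfl, by rw [deg_zero]; rfl⟩⟩⟩
  rw [eq_zero_of_nonneg_of_deg_le_zero hK a.2.1 (by rw [a.2.2]; rfl),
    eq_zero_of_nonneg_of_deg_le_zero hK b.2.1 (by rw [b.2.2]; rfl)]

theorem effDivCount_eq_zero_of_not_exists {n : ℕ} (h : ¬ ∃ D : Divisor k K, D.deg = n) :
    effDivCount k K n = 0 := by
  unfold effDivCount
  haveI : IsEmpty {D : Divisor k K // 0 ≤ D ∧ D.deg = n} := ⟨fun D => h ⟨D.1, D.2.2⟩⟩
  exact Nat.card_of_isEmpty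

/-- Counting effective divisors in a class. -/
theorem card_effClass (hK : IsFunctionField k K) (A : Divisor k K) :
    Nat.card {D : Divisor k K // 0 ≤ D ∧ D - A ∈ prinDivs k K} * (Nat.card k - 1) =
      Nat.card k ^ ell A - 1 := by
  classical
  haveI := finiteDimensional_L hK A
  have hx : ∀ D : {D : Divisor k K // 0 ≤ D ∧ D - A ∈ prinDivs k K},
      ∃ x : K, x ≠ 0 ∧ div k x = D.1 - A := fun D => (mem_prinDivs_iff hK _).mp D.2.2
  choose xD hxD0 hxD using hx
  have hmemL : ∀ D, xD D ∈ L A := fun D => by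
    rw [mem_L_iff_div hK (hxD0 D), hxD D, sub_add_cancel]
    exact D.2.1
  let φ : {D : Divisor k K // 0 ≤ D ∧ D - A ∈ prinDivs k K} × kˣ → {x : L A // x ≠ 0} :=
    fun p => ⟨⟨(p.2 : k) • xD p.1, (L A).smul_mem _ (hmemL p.1)⟩, fun h => by
      have h1 : (p.2 : k) • xD p.1 = 0 := congrArg Subtype.val h
      rw [smul_eq_zero] at h1
      rcases h1 with h1 | h1
      · exact p.2.ne_zero h1
      · exact hxD0 _ h1⟩
  have hφval : ∀ p, ((φ p : L A) : K) = (p.2 : k) • xD p.1 := fun p => rfl
  have hφ : Function.Bijective φ := by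
    constructor
    · rintro ⟨D, c⟩ ⟨D', c'⟩ h
      have h1 : (c : k) • xD D = (c' : k) • xD D' := by
        have := congrArg (fun y : {x : L A // x ≠ 0} => ((y : L A) : K)) h
        exact this
      have h2 : div k ((c : k) • xD D) = div k ((c' : k) • xD D') := by rw [h1]
      rw [div_smul hK c.ne_zero (hxD0 D), div_smul hK c'.ne_zero (hxD0 D'), hxD, hxD] at h2
      have h3 : D = D' := Subtype.ext (sub_left_injective h2)
      subst h3
      have h4 : (c : k) = c' := by
        by_contra hne
        have h5 : ((c : k) - c') • xD D = 0 := by rw [sub_smul, h1, sub_self]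
        rcases smul_eq_zero.mp h5 with h5 | h5
        · exact hne (sub_eq_zero.mp h5)
        · exact hxD0 D h5
      exact Prod.ext rfl (Units.ext h4)
    · rintro ⟨⟨x, hxL⟩, hx0⟩
      have hx0' : x ≠ 0 := fun h => hx0 (Subtype.ext h)
      have hD : 0 ≤ div k x + A := (mem_L_iff_div hK hx0' A).mp hxL
      obtain ⟨D, hDdef⟩ : ∃ D : {D : Divisor k K // 0 ≤ D ∧ D - A ∈ prinDivs k K},
          D.1 = div k x + A := ⟨⟨div k x + A, hD, by
        rw [add_sub_cancel_right]
        exact (mem_prinDivs_iff hK _).mpr ⟨x, hx0', rfl⟩⟩, rfl⟩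
      have hdiv : div k x = div k (xD D) := by
        rw [hxD D, hDdef, add_sub_cancel_right]
      obtain ⟨c, hc⟩ := exists_eq_smul_of_ord_eq hK x (xD D) hx0' (hxD0 D) (fun P => by
        rw [← div_apply hK, ← div_apply hK, hdiv])
      have hc0 : c ≠ 0 := by
        rintro rfl
        rw [zero_smul] at hc
        exact hx0' hc
      refine ⟨(D, Units.mk0 c hc0), ?_⟩
      apply Subtype.ext
      apply Subtype.ext
      exact hc.symm
  have hcard := Nat.card_congr (Equiv.ofBijective φ hφ)
  rw [Nat.card_prod, Nat.card_units] at hcard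
  rw [hcard]
  haveI : Finite (L A) := Module.finite_of_finite k
  have h1 : Nat.card (L A) = Nat.card k ^ ell A := Module.natCard_eq_pow_finrank
  rw [← h1]
  haveI := Fintype.ofFinite (L A)
  rw [Nat.card_eq_fintype_card, Nat.card_eq_fintype_card]
  simp

/-- The map from effective divisors of degree `n` to the class group, relative to a base divisor. -/
noncomputable def effCls (n : ℕ) (D₀ : Divisor k K) (hD₀ : D₀.deg = n)
    (D : {D : Divisor k K // 0 ≤ D ∧ D.deg = n}) : Cl0 k K :=
  clsOf (D.1 - D₀) (by rw [deg_sub, D.2.2, hD₀, sub_self])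

theorem effCls_eq_iff (n : ℕ) (D₀ : Divisor k K) (hD₀ : D₀.deg = n)
    (D : {D : Divisor k K // 0 ≤ D ∧ D.deg = n}) (c : Cl0 k K) :
    effCls n D₀ hD₀ D = c ↔
      D.1 - (D₀ + ((Quotient.out c : (degHom k K).ker) : Divisor k K)) ∈ prinDivs k K := by
  unfold effCls
  conv_lhs => rw [← clsOf_out c]
  rw [clsOf_eq_iff, ← neg_mem_iff]
  have : -(((Quotient.out c : (degHom k K).ker) : Divisor k K) - (D.1 - D₀)) =
      D.1 - (D₀ + ((Quotient.out c : (degHom k K).ker) : Divisor k K)) := by abel
  rw [this]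

theorem effDivCount_mul_eq_sum (hK : IsFunctionField k K) [Fintype (Cl0 k K)] (n : ℕ)
    (D₀ : Divisor k K) (hD₀ : D₀.deg = n) :
    effDivCount k K n * (Nat.card k - 1) =
      ∑ c : Cl0 k K,
        (Nat.card k ^ ell (D₀ + ((Quotient.out c : (degHom k K).ker) : Divisor k K)) - 1) := by
  classical
  haveI := finite_effective_deg' hK n
  unfold effDivCount
  rw [Nat.card_congr (Equiv.sigmaFiberEquiv (effCls n D₀ hD₀)).symm, Nat.card_sigma,
    Finset.sum_mul]
  refine Finset.sum_congr rfl (fun c _ => ?_)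
  rw [← card_effClass hK]
  congr 1
  refine Nat.card_congr ⟨fun D => ⟨D.1.1, D.1.2.1, (effCls_eq_iff n D₀ hD₀ D.1 c).mp D.2⟩,
    fun D => ⟨⟨D.1, D.2.1, ?_⟩, ?_⟩, fun D => rfl, fun D => rfl⟩
  · have h1 := deg_of_mem_prinDivs hK D.2.2
    rw [deg_sub, deg_add, deg_out, add_zero, hD₀] at h1
    linarith
  · exact (effCls_eq_iff n D₀ hD₀ _ c).mpr D.2.2

theorem effCls_surjective (hK : IsFunctionField k K) (n : ℕ) (hn : 2 * genus k K ≤ n + 1)
    (D₀ : Divisor k K) (hD₀ : D₀.deg = n) : Function.Surjective (effCls n D₀ hD₀) := by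
  intro c
  have hdeg : (D₀ + ((Quotient.out c : (degHom k K).ker) : Divisor k K)).deg = n := by
    rw [deg_add, deg_out, add_zero, hD₀]
  have hell := ell_eq_of_deg_ge hK (D₀ + ((Quotient.out c : (degHom k K).ker) : Divisor k K))
    (by rw [hdeg]; omega)
  rw [hdeg] at hell
  obtain ⟨D, hD0, hDp⟩ := exists_effective_of_ell_pos hK
    (A := D₀ + ((Quotient.out c : (degHom k K).ker) : Divisor k K)) (by omega)
  have hDdeg : D.deg = n := by
    have h1 := deg_of_mem_prinDivs hK hDp
    rw [deg_sub, hdeg] at h1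
    linarith
  exact ⟨⟨D, hD0, hDdeg⟩, (effCls_eq_iff n D₀ hD₀ _ c).mpr hDp⟩

theorem finite_Cl0 (hK : IsFunctionField k K) : Finite (Cl0 k K) := by
  obtain ⟨P⟩ := exists_place hK
  have hpos := Place.deg_pos hK P
  have hdeg : Divisor.deg (Finsupp.single P (2 * genus k K : ℤ) : Divisor k K) =
      ((2 * genus k K * P.deg : ℕ) : ℤ) := by
    rw [deg_single]
    push_cast
    ring
  haveI := finite_effective_deg' hK (2 * genus k K * P.deg)
  exact Finite.of_surjective _ (effCls_surjective hK (2 * genus k K * P.deg) (by nlinarith) _ hdeg)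

theorem classNum_pos (hK : IsFunctionField k K) : 0 < classNum k K := by
  haveI := finite_Cl0 hK
  unfold classNum
  exact Nat.card_pos

/-- S11037. -/
theorem finite_classGroup_and_effDivCount_eq (hK : IsFunctionField k K) :
    Finite ((degHom k K).ker ⧸ (prinDivs k K).addSubgroupOf (degHom k K).ker) ∧
    ∀ n : ℕ, 2 * genus k K ≤ n + 1 →
      ((∃ D : Divisor k K, D.deg = n) →
        ((Nat.card k : ℤ) - 1) * (effDivCount k K n : ℤ) =
          (classNum k K : ℤ) * ((Nat.card k : ℤ) ^ (n + 1 - genus k K) - 1)) ∧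
      ((¬ ∃ D : Divisor k K, D.deg = n) → effDivCount k K n = 0) := by
  classical
  have hfin := finite_Cl0 hK
  refine ⟨hfin, fun n hn => ⟨?_, effDivCount_eq_zero_of_not_exists⟩⟩
  rintro ⟨D₀, hD₀⟩
  haveI := Fintype.ofFinite (Cl0 k K)
  have hq : 1 ≤ Nat.card k := Nat.card_pos
  have h1 := effDivCount_mul_eq_sum hK n D₀ hD₀
  have h2 : ∀ c : Cl0 k K,
      ell (D₀ + ((Quotient.out c : (degHom k K).ker) : Divisor k K)) = n + 1 - genus k K := by
    intro c
    have hdeg : (D₀ + ((Quotient.out c : (degHom k K).ker) : Divisor k K)).deg = n := by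
      rw [deg_add, deg_out, add_zero, hD₀]
    have hell := ell_eq_of_deg_ge hK (D₀ + ((Quotient.out c : (degHom k K).ker) : Divisor k K))
      (by rw [hdeg]; omega)
    rw [hdeg] at hell
    omega
  simp only [h2, Finset.sum_const, Finset.card_univ, smul_eq_mul] at h1
  have h3 : classNum k K = Fintype.card (Cl0 k K) := by
    unfold classNum
    exact Nat.card_eq_fintype_card
  rw [h3]
  have hpow : 1 ≤ Nat.card k ^ (n + 1 - genus k K) := Nat.one_le_pow _ _ hq
  have h4 : ((effDivCount k K n * (Nat.card k - 1) : ℕ) : ℤ) =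
      ((Fintype.card (Cl0 k K) * (Nat.card k ^ (n + 1 - genus k K) - 1) : ℕ) : ℤ) := by
    rw [h1]
  push_cast [Nat.cast_sub hq, Nat.cast_sub hpow] at h4
  linarith

end Finite

end FunFld
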