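import Mathlib
import Groth.Agent.Lib.FunFldConstExtC_helper2
import Groth.Agent.Lib.FunFldZetaA_helper2
import Groth.Agent.Lib.FunFldGeomC_helper2

/-! Zeta function, part C (helper2): constant field extensions over finite fields: transfer of
places, splitting of places. -/

open WithZero Module Polynomial TensorProduct

namespace FunFld

universe u u' v v'

section Transfer

variable {k k' K' : Type*} [Field k] [Field k'] [Field K'] [Algebra k k'] [Algebra k' K']
    [Algebra k K'] [IsScalarTower k k' K']

/-- Restrict the constant field of a place. -/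
def Place.restrictScalars (k : Type*) {k' K' : Type*} [Field k] [Field k'] [Field K']
    [Algebra k k'] [Algebra k' K'] [Algebra k K'] [IsScalarTower k k' K'] (Q : Place k' K') :
    Place k K' :=
  ⟨Q.1, fun c => by rw [IsScalarTower.algebraMap_apply k k' K']; exact Q.2.1 _, Q.2.2⟩

/-- Extend the constant field of a place along an algebraic extension. -/
def Place.extendScalars {k : Type*} (k' : Type*) {K' : Type*} [Field k] [Field k'] [Field K']
    [Algebra k k'] [Algebra k' K'] [Algebra k K'] [IsScalarTower k k' K']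
    [Algebra.IsAlgebraic k k'] (Q : Place k K') : Place k' K' :=
  ⟨Q.1, fun c => val_le_one_of_isIntegral Q.1 Q.2.1
    ((Algebra.IsIntegral.isIntegral (R := k) c).algebraMap), Q.2.2⟩

@[simp] theorem Place.restrictScalars_val (Q : Place k' K') : (Q.restrictScalars k).1 = Q.1 := rfl

@[simp] theorem Place.extendScalars_val [Algebra.IsAlgebraic k k'] (Q : Place k K') :
    (Q.extendScalars k').1 = Q.1 := rfl

theorem Place.extendScalars_restrictScalars [Algebra.IsAlgebraic k k'] (Q : Place k' K') :
    (Q.restrictScalars k).extendScalars k' = Q := Subtype.ext rfl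

theorem Place.restrictScalars_extendScalars [Algebra.IsAlgebraic k k'] (Q : Place k K') :
    (Q.extendScalars k').restrictScalars k = Q := Subtype.ext rfl

theorem Place.restrictScalars_injective :
    Function.Injective (Place.restrictScalars k : Place k' K' → Place k K') := by
  intro Q Q' h
  exact Subtype.ext (congrArg (fun R : Place k K' => R.1) h)

theorem Place.deg_restrictScalars (Q : Place k' K') :
    (Q.restrictScalars k).deg = Module.finrank k k' * Q.deg := by
  unfold Place.deg
  letI a0 : Algebra k (IsLocalRing.ResidueField Q.O) := Place.algRes (Q.restrictScalars k)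
  letI a1 : Algebra k' (IsLocalRing.ResidueField Q.O) := Place.algRes Q
  have t0 : IsScalarTower k k' (IsLocalRing.ResidueField Q.O) :=
    IsScalarTower.of_algebraMap_eq (fun c => by
      show IsLocalRing.residue Q.O _ = IsLocalRing.residue Q.O _
      congr 1
      exact Subtype.ext (IsScalarTower.algebraMap_apply k k' K' c))
  exact (@Module.finrank_mul_finrank k k' (IsLocalRing.ResidueField Q.O) _ _ _ _ _ _ t0
    _ _ _ _).symm

end Transfer

section FiniteFieldFacts

theorem pow_card_pow_eq_self_of_dvd {F : Type*} [Field F] [Finite F] {q r : ℕ}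
    (hF : Nat.card F = q ^ r) {L : ℕ} (hL : r ∣ L) (a : F) : a ^ (q ^ L) = a := by
  obtain ⟨j, rfl⟩ := hL
  haveI := Fintype.ofFinite F
  rw [pow_mul, ← hF, Nat.card_eq_fintype_card]
  exact FiniteField.pow_card_pow j a

theorem natCard_le_of_forall_pow_eq {F : Type*} [Field F] [Finite F] {N : ℕ} (hN : 1 < N)
    (h : ∀ a : F, a ^ N = a) : Nat.card F ≤ N := by
  classical
  haveI := Fintype.ofFinite F
  have hne : (X ^ N - X : F[X]) ≠ 0 := FiniteField.X_pow_card_sub_X_ne_zero F hN
  have h1 : (Finset.univ : Finset F).val ⊆ (X ^ N - X : F[X]).roots := by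
    intro a _
    rw [mem_roots hne, IsRoot.def, eval_sub, eval_pow, eval_X, h a, sub_self]
  have h2 := Polynomial.card_le_degree_of_subset_roots h1
  rw [FiniteField.X_pow_card_sub_X_natDegree_eq F hN, Finset.card_univ] at h2
  rwa [Nat.card_eq_fintype_card]

end FiniteFieldFacts

section Split

variable {k : Type u} {k' : Type u'} {K : Type v} {K' : Type v'} [Field k] [Field k'] [Field K]
    [Field K'] [Algebra k k'] [Algebra k K] [Algebra K K'] [Algebra k' K'] [Algebra k K']
    [IsScalarTower k k' K'] [IsScalarTower k K K'] [Finite k] [FiniteDimensional k k']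

theorem isOverWith_one_of_isOver
    (h : Function.Bijective (Algebra.TensorProduct.productMap
      (IsScalarTower.toAlgHom k k' K') (IsScalarTower.toAlgHom k K K')))
    (hK : IsFunctionField k K) {P : Place k K} {Q : Place k K'} (hQ : IsOver Q P) :
    IsOverWith Q P 1 := by
  letI : Algebra P.O K' := ((algebraMap K K').comp (algebraMap P.O K)).toAlgebra
  haveI : IsScalarTower P.O K K' := IsScalarTower.of_algebraMap_eq (fun _ => rfl)
  exact (integralClosure_eq_adjoin_and_unramified_of_isSeparable h hK P Q hQ).2

theorem residue_facts_of_isOver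
    (h : Function.Bijective (Algebra.TensorProduct.productMap
      (IsScalarTower.toAlgHom k k' K') (IsScalarTower.toAlgHom k K K')))
    (hK : IsFunctionField k K) {P : Place k K} {Q : Place k K'} (hQ : IsOver Q P) :
    (P.deg ∣ Q.deg) ∧ ∀ L : ℕ, P.deg ∣ L → Module.finrank k k' ∣ L →
      ∀ ξ : IsLocalRing.ResidueField Q.O, ξ ^ (Nat.card k ^ L) = ξ := by
  classical
  haveI : FiniteDimensional K K' := finiteDimensional_constExt h
  have hq : 1 < Nat.card k := Finite.one_lt_card
  letI : Algebra P.O K' := ((algebraMap K K').comp (algebraMap P.O K)).toAlgebra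
  haveI : IsScalarTower P.O K K' := IsScalarTower.of_algebraMap_eq (fun _ => rfl)
  have hns := (integralClosure_eq_adjoin_and_unramified_of_isSeparable h hK P Q hQ).1
  obtain ⟨e, he⟩ := hQ
  haveI : P.1.HasExtension Q.1 := ⟨by
    intro x y
    show P.1 x ≤ P.1 y ↔ Q.1 (algebraMap K K' x) ≤ Q.1 (algebraMap K K' y)
    rw [he x, he y]
    exact (pow_le_pow_iff_left₀ zero_le zero_le he.pos.ne').symm⟩
  have hk' : ∀ c : k', Q.1 (algebraMap k' K' c) ≤ 1 := fun c =>
    val_le_one_of_isIntegral Q.1 Q.2.1 ((Algebra.IsIntegral.isIntegral (R := k) c).algebraMap)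
  have htop := residueField_eq_adjoin_of_nonsingular h hK P hns Q hk'
  haveI hfdQ := finiteDimensional_residueField_ext hK Q
  haveI hfinQ : Finite (IsLocalRing.ResidueField Q.O) := Module.finite_of_finite k
  haveI hfinP : Finite (IsLocalRing.ResidueField P.O) := finite_residueField hK P
  haveI hfink' : Finite k' := Module.finite_of_finite k
  have hcardQ : Nat.card (IsLocalRing.ResidueField Q.O) = Nat.card k ^ Q.deg := by
    unfold Place.deg
    exact Module.natCard_eq_pow_finrank
  have hcardP := natCard_residueField hK P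
  have hcardk' : Nat.card k' = Nat.card k ^ Module.finrank k k' := Module.natCard_eq_pow_finrank
  constructor
  · have h1 : Nat.card (IsLocalRing.ResidueField Q.O) =
        Nat.card (IsLocalRing.ResidueField P.O) ^
          Module.finrank (IsLocalRing.ResidueField P.O) (IsLocalRing.ResidueField Q.O) :=
      Module.natCard_eq_pow_finrank
    rw [hcardQ, hcardP, ← pow_mul] at h1
    exact ⟨_, Nat.pow_right_injective hq h1⟩
  · intro L hdL hnL ξ
    haveI := Fintype.ofFinite k
    obtain ⟨φ, hφ⟩ : ∃ φ : IsLocalRing.ResidueField Q.O →ₐ[k] IsLocalRing.ResidueField Q.O,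
        ∀ z, φ z = z ^ (Nat.card k ^ L) := by
      refine ⟨(FiniteField.frobeniusAlgHom k (IsLocalRing.ResidueField Q.O)) ^ L, fun z => ?_⟩
      rw [AlgHom.coe_pow, FiniteField.coe_frobeniusAlgHom, pow_iterate, Nat.card_eq_fintype_card]
    have hmem : ξ ∈ (⊤ : Subalgebra (IsLocalRing.ResidueField P.O) (IsLocalRing.ResidueField Q.O)) :=
      Algebra.mem_top
    rw [← htop] at hmem
    induction hmem using Algebra.adjoin_induction with
    | mem x hx =>
      obtain ⟨c, rfl⟩ := hx
      have hc := pow_card_pow_eq_self_of_dvd hcardk' hnL c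
      rw [← map_pow]
      congr 1
      apply Subtype.ext
      show (algebraMap k' K' c) ^ (Nat.card k ^ L) = algebraMap k' K' c
      rw [← map_pow, hc]
    | algebraMap y =>
      rw [← map_pow, pow_card_pow_eq_self_of_dvd hcardP hdL]
    | add x y _ _ hx hy =>
      rw [← hφ, map_add, hφ, hφ, hx, hy]
    | mul x y _ _ hx hy =>
      rw [mul_pow, hx, hy]

theorem deg_eq_lcm_of_isOver
    (h : Function.Bijective (Algebra.TensorProduct.productMap
      (IsScalarTower.toAlgHom k k' K') (IsScalarTower.toAlgHom k K K')))
    (hK : IsFunctionField k K) {P : Place k K} {Q : Place k K'} (hQ : IsOver Q P) :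
    Q.deg = Nat.lcm P.deg (Module.finrank k k') := by
  classical
  haveI : FiniteDimensional K K' := finiteDimensional_constExt h
  have hq : 1 < Nat.card k := Finite.one_lt_card
  haveI hfdQ := finiteDimensional_residueField_ext hK Q
  haveI : Finite (IsLocalRing.ResidueField Q.O) := Module.finite_of_finite k
  have hcardQ : Nat.card (IsLocalRing.ResidueField Q.O) = Nat.card k ^ Q.deg := by
    unfold Place.deg
    exact Module.natCard_eq_pow_finrank
  obtain ⟨L, hL⟩ : ∃ L, L = Nat.lcm P.deg (Module.finrank k k') := ⟨_, rfl⟩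
  rw [← hL]
  have hLpos : 0 < L := hL ▸ Nat.lcm_pos (Place.deg_pos hK P) Module.finrank_pos
  obtain ⟨hd1, hpow⟩ := residue_facts_of_isOver h hK hQ
  have hle : Nat.card (IsLocalRing.ResidueField Q.O) ≤ Nat.card k ^ L :=
    natCard_le_of_forall_pow_eq (Nat.one_lt_pow hLpos.ne' hq)
      (hpow L (hL ▸ Nat.dvd_lcm_left _ _) (hL ▸ Nat.dvd_lcm_right _ _))
  rw [hcardQ] at hle
  have hle' : Q.deg ≤ L := (Nat.pow_le_pow_iff_right hq).mp hle
  have hd2 : Module.finrank k k' ∣ Q.deg := by
    haveI : Algebra.IsAlgebraic k k' := Algebra.IsAlgebraic.of_finite k k'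
    have := Place.deg_restrictScalars (k := k) (Q.extendScalars k')
    rw [Place.restrictScalars_extendScalars] at this
    exact ⟨_, this⟩
  have hd : L ∣ Q.deg := hL ▸ Nat.lcm_dvd hd1 hd2
  have hQpos : 0 < Q.deg := by
    unfold Place.deg
    exact Module.finrank_pos
  exact Nat.le_antisymm hle' (Nat.le_of_dvd hQpos hd)

theorem card_isOver
    (h : Function.Bijective (Algebra.TensorProduct.productMap
      (IsScalarTower.toAlgHom k k' K') (IsScalarTower.toAlgHom k K K')))
    (hK : IsFunctionField k K) (P : Place k K) (Qs : Finset (Place k K'))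
    (hQs : ∀ Q, Q ∈ Qs ↔ IsOver Q P) :
    Qs.card = Nat.gcd P.deg (Module.finrank k k') := by
  haveI : FiniteDimensional K K' := finiteDimensional_constExt h
  have hsum := sum_ramIdx_mul_deg hK P Qs hQs
  have h1 : ∀ Q ∈ Qs, ramIdx Q P * Q.deg = Nat.lcm P.deg (Module.finrank k k') := fun Q hQ => by
    rw [ramIdx_eq (isOverWith_one_of_isOver h hK ((hQs Q).mp hQ)), one_mul,
      deg_eq_lcm_of_isOver h hK ((hQs Q).mp hQ)]
  rw [Finset.sum_congr rfl h1, Finset.sum_const, smul_eq_mul, finrank_constExt h] at hsum
  have h2 := Nat.gcd_mul_lcm P.deg (Module.finrank k k')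
  have hl : 0 < Nat.lcm P.deg (Module.finrank k k') :=
    Nat.lcm_pos (Place.deg_pos hK P) Module.finrank_pos
  apply Nat.eq_of_mul_eq_mul_right hl
  rw [hsum, h2, mul_comm]

end Split

section Exists

/-- Existence of the constant field extension as an abstract field. -/
theorem exists_constExt {k : Type u} {K : Type v} [Field k] [Field K] [Algebra k K]
    (hg : IsGeometric k K) (k' : Type u) [Field k'] [Algebra k k'] [FiniteDimensional k k'] :
    ∃ (K' : Type (max u v)) (_ : Field K') (_ : Algebra K K') (_ : Algebra k' K')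
      (_ : Algebra k K') (_ : IsScalarTower k k' K') (_ : IsScalarTower k K K'),
      Function.Bijective (Algebra.TensorProduct.productMap
        (IsScalarTower.toAlgHom k k' K') (IsScalarTower.toAlgHom k K K')) := by
  letI : Field (k' ⊗[k] K) := (hg k' inferInstance).toField
  refine ⟨k' ⊗[k] K, inferInstance, Algebra.TensorProduct.rightAlgebra,
    Algebra.TensorProduct.leftAlgebra, Algebra.TensorProduct.leftAlgebra,
    TensorProduct.isScalarTower_left, Algebra.TensorProduct.right_isScalarTower, ?_⟩
  have hid : ∀ τ : k' ⊗[k] K, Algebra.TensorProduct.productMap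
      (@IsScalarTower.toAlgHom k k' (k' ⊗[k] K) _ _ _ _ Algebra.TensorProduct.leftAlgebra
        Algebra.TensorProduct.leftAlgebra TensorProduct.isScalarTower_left)
      (@IsScalarTower.toAlgHom k K (k' ⊗[k] K) _ _ _ _ Algebra.TensorProduct.rightAlgebra
        Algebra.TensorProduct.leftAlgebra Algebra.TensorProduct.right_isScalarTower) τ = τ := by
    intro τ
    induction τ using TensorProduct.induction_on with
    | zero => rw [map_zero]
    | tmul a b =>
      rw [Algebra.TensorProduct.productMap_apply_tmul]
      show (a ⊗ₜ[k] (1 : K)) * ((1 : k') ⊗ₜ[k] b) = a ⊗ₜ[k] b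
      rw [Algebra.TensorProduct.tmul_mul_tmul, mul_one, one_mul]
    | add x y hx hy => rw [map_add, hx, hy]
  exact ⟨fun x y hxy => by rw [← hid x, ← hid y]; exact hxy, fun y => ⟨y, hid y⟩⟩

end Exists

end FunFld
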