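import Mathlib

/-! Tate-style abstract residues: traces of commutators of Toeplitz operators (helper2).

For a `k`-vector space `V`, an idempotent `P` (with range `A`) and commuting endomorphisms `f, g`
with `f A ⊆ A + (finite-dimensional)`, the commutator `[P f P, P g P]` has finite rank and
`tres P f g` is its trace. -/

namespace TateRes

open LinearMap Module

variable {k : Type*} [Field k]
variable {V : Type*} [AddCommGroup V] [Module k V]
variable {W : Type*} [AddCommGroup W] [Module k W]
variable {U : Type*} [AddCommGroup U] [Module k U]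

/-! ### Finite rank maps -/

/-- Finite rank. -/
def FR (T : V →ₗ[k] W) : Prop := FiniteDimensional k (LinearMap.range T)

theorem FR.of_range_le {T : V →ₗ[k] W} (p : Submodule k W) [FiniteDimensional k p]
    (h : LinearMap.range T ≤ p) : FR T :=
  Submodule.finiteDimensional_of_le h

theorem FR.zero : FR (0 : V →ₗ[k] W) := by
  unfold FR
  rw [LinearMap.range_zero]
  infer_instance

theorem FR.comp_left {T : V →ₗ[k] W} (hT : FR T) (S : W →ₗ[k] U) : FR (S ∘ₗ T) := by
  haveI : FiniteDimensional k (LinearMap.range T) := hT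
  unfold FR
  rw [LinearMap.range_comp]
  infer_instance

theorem FR.comp_right {T : W →ₗ[k] U} (hT : FR T) (S : V →ₗ[k] W) : FR (T ∘ₗ S) := by
  haveI : FiniteDimensional k (LinearMap.range T) := hT
  exact Submodule.finiteDimensional_of_le (LinearMap.range_comp_le_range S T)

theorem FR.add {S T : V →ₗ[k] W} (hS : FR S) (hT : FR T) : FR (S + T) := by
  haveI : FiniteDimensional k (LinearMap.range S) := hS
  haveI : FiniteDimensional k (LinearMap.range T) := hT
  refine FR.of_range_le (LinearMap.range S ⊔ LinearMap.range T) ?_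
  rintro _ ⟨v, rfl⟩
  exact Submodule.add_mem_sup ⟨v, rfl⟩ ⟨v, rfl⟩

theorem FR.smul (c : k) {T : V →ₗ[k] W} (hT : FR T) : FR (c • T) := by
  haveI : FiniteDimensional k (LinearMap.range T) := hT
  refine FR.of_range_le (LinearMap.range T) ?_
  rintro _ ⟨v, rfl⟩
  exact ⟨c • v, by rw [map_smul, LinearMap.smul_apply]⟩

theorem FR.neg {T : V →ₗ[k] W} (hT : FR T) : FR (-T) := by
  have h := hT.smul (-1 : k)
  rwa [neg_one_smul] at h

theorem FR.sub {S T : V →ₗ[k] W} (hS : FR S) (hT : FR T) : FR (S - T) := by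
  rw [sub_eq_add_neg]
  exact hS.add hT.neg

theorem FR.sum {ι : Type*} (s : Finset ι) (T : ι → V →ₗ[k] W) (h : ∀ i ∈ s, FR (T i)) :
    FR (∑ i ∈ s, T i) := by
  classical
  induction s using Finset.induction_on with
  | empty =>
    rw [Finset.sum_empty]
    exact FR.zero
  | insert a s ha ih =>
    rw [Finset.sum_insert ha]
    exact (h a (Finset.mem_insert_self a s)).add
      (ih fun i hi => h i (Finset.mem_insert_of_mem hi))

theorem FR.of_finite_dom [FiniteDimensional k V] (T : V →ₗ[k] W) : FR T := by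
  unfold FR
  infer_instance

theorem FR.of_finite_cod [FiniteDimensional k W] (T : V →ₗ[k] W) : FR T := by
  unfold FR
  infer_instance

theorem FR.mul_left {T : Module.End k V} (hT : FR T) (S : Module.End k V) : FR (S * T) :=
  hT.comp_left S

theorem FR.mul_right {T : Module.End k V} (hT : FR T) (S : Module.End k V) : FR (T * S) :=
  hT.comp_right S

theorem FR.of_comp_injective {S : V →ₗ[k] W} {j : W →ₗ[k] U} (hj : Function.Injective j)
    (h : FR (j ∘ₗ S)) : FR S := by
  unfold FR at h ⊢
  rw [LinearMap.range_comp] at h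
  haveI := h
  exact Module.Finite.equiv (Submodule.equivMapOfInjective j hj (LinearMap.range S)).symm

/-! ### The trace of a finite rank endomorphism -/

/-- The trace of a finite-rank endomorphism (junk value `0` if the rank is infinite). -/
noncomputable def frTrace (T : V →ₗ[k] V) : k :=
  LinearMap.trace k (LinearMap.range T)
    (T.restrict (p := LinearMap.range T) (q := LinearMap.range T) fun x _ => ⟨x, rfl⟩)

theorem frTrace_eq (T : V →ₗ[k] V) (p : Submodule k V) [FiniteDimensional k p]
    (h : LinearMap.range T ≤ p) :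
    frTrace T = LinearMap.trace k p (T.restrict (p := p) (q := p) fun x _ => h ⟨x, rfl⟩) := by
  haveI : FiniteDimensional k (LinearMap.range T) := Submodule.finiteDimensional_of_le h
  let i : LinearMap.range T →ₗ[k] p := Submodule.inclusion h
  let T' : p →ₗ[k] LinearMap.range T :=
    (T.domRestrict p).codRestrict (LinearMap.range T) fun x => ⟨(x : V), rfl⟩
  have h1 : T.restrict (p := p) (q := p) (fun x _ => h ⟨x, rfl⟩) = i ∘ₗ T' := by
    ext x
    rfl
  have h2 : T.restrict (p := LinearMap.range T) (q := LinearMap.range T)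
      (fun x _ => ⟨x, rfl⟩) = T' ∘ₗ i := by
    ext x
    rfl
  rw [frTrace, h1, h2]
  exact LinearMap.trace_comp_comm' i T'

theorem frTrace_comp_comm (S : V →ₗ[k] W) (T : W →ₗ[k] V) (hS : FR S) :
    frTrace (T ∘ₗ S) = frTrace (S ∘ₗ T) := by
  haveI : FiniteDimensional k (LinearMap.range S) := hS
  obtain ⟨pW, hpW⟩ : ∃ pW : Submodule k W, pW = LinearMap.range S := ⟨_, rfl⟩
  haveI : FiniteDimensional k pW := by rw [hpW]; infer_instance
  obtain ⟨pV, hpV⟩ : ∃ pV : Submodule k V, pV = pW.map T := ⟨_, rfl⟩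
  haveI : FiniteDimensional k pV := by rw [hpV]; infer_instance
  have hV : LinearMap.range (T ∘ₗ S) ≤ pV := by
    rw [LinearMap.range_comp, hpV, hpW]
  have hW : LinearMap.range (S ∘ₗ T) ≤ pW := by
    rw [hpW]
    exact LinearMap.range_comp_le_range T S
  rw [frTrace_eq (T ∘ₗ S) pV hV, frTrace_eq (S ∘ₗ T) pW hW]
  let S' : pV →ₗ[k] pW :=
    (S.domRestrict pV).codRestrict pW fun x => by rw [hpW]; exact ⟨(x : V), rfl⟩
  let T' : pW →ₗ[k] pV :=
    (T.domRestrict pW).codRestrict pV fun x => by rw [hpV]; exact ⟨(x : W), x.2, rfl⟩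
  have h1 : (T ∘ₗ S).restrict (p := pV) (q := pV) (fun x _ => hV ⟨x, rfl⟩) = T' ∘ₗ S' := by
    ext x
    rfl
  have h2 : (S ∘ₗ T).restrict (p := pW) (q := pW) (fun x _ => hW ⟨x, rfl⟩) = S' ∘ₗ T' := by
    ext x
    rfl
  rw [h1, h2]
  exact LinearMap.trace_comp_comm' S' T'

theorem frTrace_add {S T : V →ₗ[k] V} (hS : FR S) (hT : FR T) :
    frTrace (S + T) = frTrace S + frTrace T := by
  haveI : FiniteDimensional k (LinearMap.range S) := hS
  haveI : FiniteDimensional k (LinearMap.range T) := hT
  obtain ⟨p, hp⟩ : ∃ p : Submodule k V, p = LinearMap.range S ⊔ LinearMap.range T := ⟨_, rfl⟩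
  haveI : FiniteDimensional k p := by rw [hp]; infer_instance
  have h1 : LinearMap.range S ≤ p := by rw [hp]; exact le_sup_left
  have h2 : LinearMap.range T ≤ p := by rw [hp]; exact le_sup_right
  have h3 : LinearMap.range (S + T) ≤ p := by
    rintro _ ⟨v, rfl⟩
    rw [hp]
    exact Submodule.add_mem_sup ⟨v, rfl⟩ ⟨v, rfl⟩
  rw [frTrace_eq S p h1, frTrace_eq T p h2, frTrace_eq (S + T) p h3, ← map_add]
  congr 1

theorem frTrace_smul (c : k) {T : V →ₗ[k] V} (hT : FR T) :
    frTrace (c • T) = c * frTrace T := by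
  haveI : FiniteDimensional k (LinearMap.range T) := hT
  have h3 : LinearMap.range (c • T) ≤ LinearMap.range T := by
    rintro _ ⟨v, rfl⟩
    exact ⟨c • v, by rw [map_smul, LinearMap.smul_apply]⟩
  rw [frTrace_eq (c • T) _ h3, frTrace_eq T _ le_rfl, ← smul_eq_mul, ← map_smul]
  congr 1

theorem frTrace_zero : frTrace (0 : V →ₗ[k] V) = 0 := by
  have h := frTrace_smul (0 : k) (FR.zero (k := k) (V := V) (W := V))
  rwa [zero_smul, zero_mul] at h

theorem frTrace_neg {T : V →ₗ[k] V} (hT : FR T) : frTrace (-T) = -frTrace T := by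
  have h := frTrace_smul (-1 : k) hT
  rwa [neg_one_smul, neg_one_mul] at h

theorem frTrace_sub {S T : V →ₗ[k] V} (hS : FR S) (hT : FR T) :
    frTrace (S - T) = frTrace S - frTrace T := by
  rw [sub_eq_add_neg, frTrace_add hS hT.neg, frTrace_neg hT, sub_eq_add_neg]

theorem frTrace_sum {ι : Type*} (s : Finset ι) (T : ι → V →ₗ[k] V) (h : ∀ i ∈ s, FR (T i)) :
    frTrace (∑ i ∈ s, T i) = ∑ i ∈ s, frTrace (T i) := by
  classical
  induction s using Finset.induction_on with
  | empty =>
    rw [Finset.sum_empty, Finset.sum_empty]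
    exact frTrace_zero
  | insert a s ha ih =>
    rw [Finset.sum_insert ha, Finset.sum_insert ha,
      frTrace_add (h a (Finset.mem_insert_self a s))
        (FR.sum s T fun i hi => h i (Finset.mem_insert_of_mem hi)),
      ih fun i hi => h i (Finset.mem_insert_of_mem hi)]

theorem frTrace_eq_trace [FiniteDimensional k V] (T : V →ₗ[k] V) :
    frTrace T = LinearMap.trace k V T := by
  rw [frTrace_eq T ⊤ le_top]
  let jt : (⊤ : Submodule k V) →ₗ[k] V := (⊤ : Submodule k V).subtype
  let T'' : V →ₗ[k] (⊤ : Submodule k V) := T.codRestrict ⊤ fun _ => trivial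
  have h1 : T.restrict (p := (⊤ : Submodule k V)) (q := (⊤ : Submodule k V))
      (fun x _ => le_top (a := LinearMap.range T) ⟨x, rfl⟩) = T'' ∘ₗ jt := by
    ext x
    rfl
  have h2 : T = jt ∘ₗ T'' := by
    ext x
    rfl
  rw [h1]
  conv_rhs => rw [h2]
  exact LinearMap.trace_comp_comm' jt T''

theorem frTrace_mul_comm {S T : Module.End k V} (h : FR S ∨ FR T) :
    frTrace (S * T) = frTrace (T * S) := by
  rcases h with h | h
  · exact (frTrace_comp_comm S T h).symm
  · exact frTrace_comp_comm T S h

theorem frTrace_commutator {d : Module.End k V} (hd : FR d) (a : Module.End k V) :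
    frTrace (d * a - a * d) = 0 := by
  rw [frTrace_sub (hd.mul_right a) (hd.mul_left a), frTrace_mul_comm (Or.inl hd), sub_self]

theorem frTrace_commutator' {d : Module.End k V} (hd : FR d) (a : Module.End k V) :
    frTrace (a * d - d * a) = 0 := by
  rw [frTrace_sub (hd.mul_left a) (hd.mul_right a), frTrace_mul_comm (Or.inr hd), sub_self]

theorem FR_comm_add_right {a b d : Module.End k V} (hab : FR (a * b - b * a)) (hd : FR d) :
    FR (a * (b + d) - (b + d) * a) := by
  have e : a * (b + d) - (b + d) * a = (a * b - b * a) + (a * d - d * a) := by noncomm_ring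
  rw [e]
  exact hab.add ((hd.mul_left a).sub (hd.mul_right a))

theorem frTrace_comm_add_right {a b d : Module.End k V} (hab : FR (a * b - b * a)) (hd : FR d) :
    frTrace (a * (b + d) - (b + d) * a) = frTrace (a * b - b * a) := by
  have e : a * (b + d) - (b + d) * a = (a * b - b * a) + (a * d - d * a) := by noncomm_ring
  rw [e, frTrace_add hab ((hd.mul_left a).sub (hd.mul_right a)), frTrace_commutator' hd,
    add_zero]

theorem frTrace_comm_add_left {a b d : Module.End k V} (hab : FR (a * b - b * a)) (hd : FR d) :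
    frTrace ((a + d) * b - b * (a + d)) = frTrace (a * b - b * a) := by
  have e : (a + d) * b - b * (a + d) = (a * b - b * a) + (d * b - b * d) := by noncomm_ring
  rw [e, frTrace_add hab ((hd.mul_right b).sub (hd.mul_left b)), frTrace_commutator hd,
    add_zero]

theorem FR_comm_mul_right {a b c : Module.End k V} (hab : FR (a * b - b * a))
    (hac : FR (a * c - c * a)) : FR (a * (b * c) - b * c * a) := by
  have e1 : a * (b * c) - b * c * a = (a * b - b * a) * c + b * (a * c - c * a) := by
    noncomm_ring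
  rw [e1]
  exact (hab.mul_right c).add (hac.mul_left b)

theorem FR_comm_mul_left {a b c : Module.End k V} (hac : FR (a * c - c * a))
    (hbc : FR (b * c - c * b)) : FR (a * b * c - c * (a * b)) := by
  have e2 : a * b * c - c * (a * b) = a * (b * c - c * b) + (a * c - c * a) * b := by
    noncomm_ring
  rw [e2]
  exact (hbc.mul_left a).add (hac.mul_right b)

theorem frTrace_comm_mul {a b c : Module.End k V} (hab : FR (a * b - b * a))
    (hac : FR (a * c - c * a)) (hbc : FR (b * c - c * b)) :
    frTrace (a * (b * c) - b * c * a) =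
      frTrace (a * b * c - c * (a * b)) + frTrace (a * c * b - b * (a * c)) := by
  have e1 : a * (b * c) - b * c * a = (a * b - b * a) * c + b * (a * c - c * a) := by
    noncomm_ring
  have e2 : a * b * c - c * (a * b) = a * (b * c - c * b) + (a * c - c * a) * b := by
    noncomm_ring
  have e3 : a * c * b - b * (a * c) = (a * b - b * a) * c - a * (b * c - c * b) := by
    noncomm_ring
  rw [e1, e2, e3, frTrace_add (hab.mul_right c) (hac.mul_left b),
    frTrace_add (hbc.mul_left a) (hac.mul_right b),
    frTrace_sub (hab.mul_right c) (hbc.mul_left a),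
    frTrace_mul_comm (S := b) (T := a * c - c * a) (Or.inr hac)]
  ring

/-! ### Toeplitz operators and the abstract residue -/

section Res

/-- The Toeplitz operator `P f P`. -/
def toep (P f : Module.End k V) : Module.End k V := P * f * P

/-- `f` nearly stabilises the range of `P`. -/
def NS (P f : Module.End k V) : Prop := FR ((1 - P) * f * P)

/-- `P f (1 - P) g P`. -/
def defect (P f g : Module.End k V) : Module.End k V := P * f * (1 - P) * g * P

/-- The commutator of the Toeplitz operators. -/
def comm2 (P f g : Module.End k V) : Module.End k V :=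
  toep P f * toep P g - toep P g * toep P f

/-- The abstract residue. -/
noncomputable def tres (P f g : Module.End k V) : k := frTrace (comm2 P f g)

variable {P P' f g h : Module.End k V}

theorem toep_mul (hP : P * P = P) :
    toep P f * toep P g = toep P (f * g) - defect P f g := by
  have h1 : toep P f * toep P g = P * f * (P * P) * g * P := by
    simp only [toep, mul_assoc]
  rw [h1, hP]
  simp only [toep, defect]
  noncomm_ring

theorem FR_defect (hg : NS P g) : FR (defect P f g) := by
  have h1 : defect P f g = (P * f) * ((1 - P) * g * P) := by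
    simp only [defect, mul_assoc]
  rw [h1]
  exact hg.mul_left _

theorem comm2_eq (hP : P * P = P) (hfg : f * g = g * f) :
    comm2 P f g = defect P g f - defect P f g := by
  rw [comm2, toep_mul hP, toep_mul hP, hfg]
  abel

theorem FR_comm2 (hP : P * P = P) (hfg : f * g = g * f) (hf : NS P f) (hg : NS P g) :
    FR (comm2 P f g) := by
  rw [comm2_eq hP hfg]
  exact (FR_defect hf).sub (FR_defect hg)

theorem comm2_swap : comm2 P g f = -comm2 P f g := by
  simp only [comm2]
  abel

theorem tres_swap (hP : P * P = P) (hfg : f * g = g * f) (hf : NS P f) (hg : NS P g) :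
    tres P g f = -tres P f g := by
  rw [tres, comm2_swap, frTrace_neg (FR_comm2 hP hfg hf hg)]
  rfl

theorem comm2_eq_zero_of_stable (hP : P * P = P) (hfg : f * g = g * f)
    (hf : (1 - P) * f * P = 0) (hg : (1 - P) * g * P = 0) : comm2 P f g = 0 := by
  rw [comm2_eq hP hfg]
  have h1 : defect P g f = (P * g) * ((1 - P) * f * P) := by simp only [defect, mul_assoc]
  have h2 : defect P f g = (P * f) * ((1 - P) * g * P) := by simp only [defect, mul_assoc]
  rw [h1, h2, hf, hg, mul_zero, mul_zero, sub_zero]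

theorem comm2_eq_zero_of_ker_stable (hP : P * P = P) (hfg : f * g = g * f)
    (hf : P * f * (1 - P) = 0) (hg : P * g * (1 - P) = 0) : comm2 P f g = 0 := by
  rw [comm2_eq hP hfg]
  have h1 : defect P g f = (P * g * (1 - P)) * (f * P) := by simp only [defect, mul_assoc]
  have h2 : defect P f g = (P * f * (1 - P)) * (g * P) := by simp only [defect, mul_assoc]
  rw [h1, h2, hf, hg, zero_mul, zero_mul, sub_zero]

theorem comm2_eq_zero_of_commute (hP : P * P = P) (hfg : f * g = g * f)
    (hgP : g * P = P * g) : comm2 P f g = 0 := by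
  rw [comm2_eq hP hfg]
  have h1 : defect P g f = 0 := by
    have e : defect P g f = (P * g) * (1 - P) * (f * P) := by simp only [defect, mul_assoc]
    rw [e, ← hgP]
    have e2 : g * P * (1 - P) = g * (P - P * P) := by noncomm_ring
    rw [e2, hP, sub_self, mul_zero, zero_mul]
  have h2 : defect P f g = 0 := by
    have e : defect P f g = P * f * ((1 - P) * (g * P)) := by simp only [defect, mul_assoc]
    rw [e, hgP]
    have e2 : (1 - P) * (P * g) = (P - P * P) * g := by noncomm_ring
    rw [e2, hP, sub_self, zero_mul, mul_zero]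
  rw [h1, h2, sub_zero]

theorem NS_mul (hf : NS P f) (hg : NS P g) : NS P (f * g) := by
  unfold NS at *
  have e : (1 - P) * (f * g) * P =
      ((1 - P) * f * P) * (g * P) + ((1 - P) * f) * ((1 - P) * g * P) := by noncomm_ring
  rw [e]
  exact (hf.mul_right _).add (hg.mul_left _)

theorem tres_leibniz (hP : P * P = P) (hfg : f * g = g * f) (hfh : f * h = h * f)
    (hgh : g * h = h * g) (hf : NS P f) (hg : NS P g) (hh : NS P h) :
    tres P f (g * h) = tres P (f * g) h + tres P (f * h) g := by
  have cfg := FR_comm2 hP hfg hf hg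
  have cfh := FR_comm2 hP hfh hf hh
  have cgh := FR_comm2 hP hgh hg hh
  unfold comm2 at cfg cfh cgh
  have chg : FR (toep P h * toep P g - toep P g * toep P h) := by
    have h1 := cgh.neg
    rwa [neg_sub] at h1
  have d1 : toep P (g * h) = toep P g * toep P h + defect P g h := by
    rw [toep_mul hP]; abel
  have d2 : toep P (f * g) = toep P f * toep P g + defect P f g := by
    rw [toep_mul hP]; abel
  have d3 : toep P (f * h) = toep P f * toep P h + defect P f h := by
    rw [toep_mul hP]; abel
  have A1 : FR (toep P f * (toep P g * toep P h) - toep P g * toep P h * toep P f) :=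
    FR_comm_mul_right cfg cfh
  have A2 : FR (toep P f * toep P g * toep P h - toep P h * (toep P f * toep P g)) :=
    FR_comm_mul_left cfh cgh
  have A3 : FR (toep P f * toep P h * toep P g - toep P g * (toep P f * toep P h)) :=
    FR_comm_mul_left cfg chg
  unfold tres comm2
  rw [d1, d2, d3, frTrace_comm_add_right A1 (FR_defect hh),
    frTrace_comm_add_left A2 (FR_defect hg), frTrace_comm_add_left A3 (FR_defect hh)]
  exact frTrace_comm_mul cfg cfh cgh

/-! ### Change of the idempotent -/

theorem NS_of_range_eq (hPP' : P' * P = P) (hP'P : P * P' = P') (hf : NS P f) : NS P' f := by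
  have e1 : (1 - P') * (1 - P) = 1 - P' := by
    have e : (1 - P') * (1 - P) = 1 - P - P' + P' * P := by noncomm_ring
    rw [e, hPP']
    abel
  have e : (1 - P') * f * P' = (1 - P') * ((1 - P) * f * P) * P' := by
    calc (1 - P') * f * P' = (1 - P') * f * (P * P') := by rw [hP'P]
      _ = ((1 - P') * (1 - P)) * f * P * P' := by rw [e1]; simp only [mul_assoc]
      _ = (1 - P') * ((1 - P) * f * P) * P' := by simp only [mul_assoc]
  unfold NS at *
  rw [e]
  exact (hf.mul_left _).mul_right _

theorem tres_eq_of_range_eq (hP : P * P = P) (hP' : P' * P' = P') (hPP' : P' * P = P)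
    (hP'P : P * P' = P') (hfg : f * g = g * f) (hf : NS P f) (hg : NS P g) :
    tres P' f g = tres P f g := by
  have hf' := NS_of_range_eq hPP' hP'P hf
  have hg' := NS_of_range_eq hPP' hP'P hg
  have hδ : (P' - P) * (1 - P) = P' - P := by
    have e : (P' - P) * (1 - P) = P' - P - P' * P + P * P := by noncomm_ring
    rw [e, hPP', hP]
    abel
  have hFx : ∀ x : Module.End k V, NS P x → FR ((P' - P) * x * P) := by
    intro x hx
    have e : (P' - P) * x * P = (P' - P) * ((1 - P) * x * P) := by
      calc (P' - P) * x * P = ((P' - P) * (1 - P)) * x * P := by rw [hδ]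
        _ = (P' - P) * ((1 - P) * x * P) := by simp only [mul_assoc]
    rw [e]
    exact hx.mul_left _
  have hT : ∀ x : Module.End k V, toep P' x * P = toep P x + (P' - P) * x * P := by
    intro x
    calc toep P' x * P = P' * x * (P' * P) := by simp only [toep, mul_assoc]
      _ = P' * x * P := by rw [hPP']
      _ = toep P x + (P' - P) * x * P := by simp only [toep]; noncomm_ring
  have hPT : ∀ x : Module.End k V,
      P * (toep P x + (P' - P) * x * P) = toep P x + (P' - P) * x * P := by
    intro x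
    have h1 : P * toep P x = toep P x := by simp only [toep, ← mul_assoc, hP]
    have h2 : P * (P' - P) = P' - P := by rw [mul_sub, hP'P, hP]
    rw [mul_add, h1, ← mul_assoc, ← mul_assoc, h2]
  have hC : comm2 P' f g * P =
      (toep P f + (P' - P) * f * P) * (toep P g + (P' - P) * g * P) -
        (toep P g + (P' - P) * g * P) * (toep P f + (P' - P) * f * P) := by
    calc comm2 P' f g * P
        = toep P' f * (toep P' g * P) - toep P' g * (toep P' f * P) := by
          simp only [comm2, sub_mul, mul_assoc]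
      _ = toep P' f * (P * (toep P g + (P' - P) * g * P)) -
            toep P' g * (P * (toep P f + (P' - P) * f * P)) := by
          rw [hT g, hT f, hPT g, hPT f]
      _ = (toep P' f * P) * (toep P g + (P' - P) * g * P) -
            (toep P' g * P) * (toep P f + (P' - P) * f * P) := by
          simp only [mul_assoc]
      _ = _ := by rw [hT f, hT g]
  have hPC : P * comm2 P' f g = comm2 P' f g := by
    have h1 : ∀ x : Module.End k V, P * toep P' x = toep P' x := fun x => by
      simp only [toep, ← mul_assoc, hP'P]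
    simp only [comm2, mul_sub, ← mul_assoc, h1]
  have hFC' := FR_comm2 hP' hfg hf' hg'
  have hc : FR (toep P f * toep P g - toep P g * toep P f) := FR_comm2 hP hfg hf hg
  calc tres P' f g = frTrace (P * comm2 P' f g) := by rw [hPC]; rfl
    _ = frTrace (comm2 P' f g * P) := frTrace_mul_comm (Or.inr hFC')
    _ = frTrace ((toep P f + (P' - P) * f * P) * (toep P g + (P' - P) * g * P) -
          (toep P g + (P' - P) * g * P) * (toep P f + (P' - P) * f * P)) := by rw [hC]
    _ = frTrace (toep P f * (toep P g + (P' - P) * g * P) -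
          (toep P g + (P' - P) * g * P) * toep P f) :=
        frTrace_comm_add_left (FR_comm_add_right hc (hFx g hg)) (hFx f hf)
    _ = frTrace (toep P f * toep P g - toep P g * toep P f) :=
        frTrace_comm_add_right hc (hFx g hg)
    _ = tres P f g := rfl

theorem NS_of_FR_sub (hδ : FR (P' - P)) (hf : NS P f) : NS P' f := by
  have e : (1 - P') * f * P' =
      (1 - P) * f * P + ((1 - P) * f * (P' - P) - (P' - P) * (f * P')) := by noncomm_ring
  unfold NS at *
  rw [e]
  exact hf.add ((hδ.mul_left _).sub (hδ.mul_right _))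

theorem tres_eq_of_FR_sub (hP : P * P = P) (hδ : FR (P' - P)) (hfg : f * g = g * f)
    (hf : NS P f) (hg : NS P g) : tres P' f g = tres P f g := by
  have hFx : ∀ x : Module.End k V, FR (toep P' x - toep P x) := by
    intro x
    have e : toep P' x - toep P x = (P' - P) * (x * P') + P * x * (P' - P) := by
      simp only [toep]; noncomm_ring
    rw [e]
    exact (hδ.mul_right _).add (hδ.mul_left _)
  have e1 : ∀ x : Module.End k V, toep P' x = toep P x + (toep P' x - toep P x) := by
    intro x; abel
  have hc : FR (toep P f * toep P g - toep P g * toep P f) := FR_comm2 hP hfg hf hg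
  unfold tres comm2
  rw [e1 f, e1 g, frTrace_comm_add_left (FR_comm_add_right hc (hFx g)) (hFx f),
    frTrace_comm_add_right hc (hFx g)]

section Le

variable (hP : P * P = P) (hP' : P' * P' = P') (hle : P' * P = P) (hfr : FR ((1 - P) * P'))
include hP hle hfr

theorem NS_up (hf : NS P f) : NS P' f := by
  have h1 : (P * P') * P = P := by rw [mul_assoc, hle, hP]
  have h2 : P * (P * P') = P * P' := by rw [← mul_assoc, hP]
  have hR : NS (P * P') f := NS_of_range_eq h1 h2 hf
  have hδ : FR (P' - P * P') := by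
    have e : P' - P * P' = (1 - P) * P' := by noncomm_ring
    rw [e]; exact hfr
  exact NS_of_FR_sub hδ hR

theorem NS_down (hf : NS P' f) : NS P f := by
  have h1 : (P * P') * P = P := by rw [mul_assoc, hle, hP]
  have h2 : P * (P * P') = P * P' := by rw [← mul_assoc, hP]
  have hδ : FR (P * P' - P') := by
    have e : P * P' - P' = -((1 - P) * P') := by noncomm_ring
    rw [e]; exact hfr.neg
  have hR : NS (P * P') f := NS_of_FR_sub hδ hf
  exact NS_of_range_eq h2 h1 hR

theorem tres_eq_of_le (hfg : f * g = g * f) (hf : NS P f) (hg : NS P g) :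
    tres P' f g = tres P f g := by
  have h1 : (P * P') * P = P := by rw [mul_assoc, hle, hP]
  have h2 : P * (P * P') = P * P' := by rw [← mul_assoc, hP]
  have hR : (P * P') * (P * P') = P * P' := by
    calc (P * P') * (P * P') = P * (P' * P) * P' := by simp only [mul_assoc]
      _ = P * P' := by rw [hle, hP]
  have hRf : NS (P * P') f := NS_of_range_eq h1 h2 hf
  have hRg : NS (P * P') g := NS_of_range_eq h1 h2 hg
  have hδ : FR (P' - P * P') := by
    have e : P' - P * P' = (1 - P) * P' := by noncomm_ring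
    rw [e]; exact hfr
  rw [tres_eq_of_FR_sub hR hδ hfg hRf hRg]
  exact tres_eq_of_range_eq hP hR h1 h2 hfg hf hg

end Le

/-! ### The abstract residue theorem -/

theorem tres_eq_zero_of_stable_compl (hP : P * P = P) (hfg : f * g = g * f)
    (hf : NS P f) (hg : NS P g) (B : Submodule k V) (hfB : ∀ v ∈ B, f v ∈ B)
    (hgB : ∀ v ∈ B, g v ∈ B)
    (h1 : FiniteDimensional k ↥(LinearMap.range P ⊓ B))
    (h2 : FiniteDimensional k (V ⧸ (LinearMap.range P ⊔ B))) : tres P f g = 0 := by
  classical
  obtain ⟨A, hA⟩ : ∃ A : Submodule k V, A = LinearMap.range P := ⟨_, rfl⟩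
  rw [← hA] at h1 h2
  have hPA : ∀ v, P v ∈ A := fun v => by rw [hA]; exact ⟨v, rfl⟩
  have hPfix : ∀ v ∈ A, P v = v := by
    intro v hv
    rw [hA] at hv
    obtain ⟨w, rfl⟩ := hv
    rw [← Module.End.mul_apply, hP]
  -- a complement `A₂` of `A ⊓ B` inside `A`
  obtain ⟨A₀, hA₀⟩ := Submodule.exists_isCompl (A ⊓ B)
  obtain ⟨A₂, hA₂def⟩ : ∃ A₂ : Submodule k V, A₂ = A₀ ⊓ A := ⟨_, rfl⟩
  have hA₂le : A₂ ≤ A := by rw [hA₂def]; exact inf_le_right
  have hA₂B : A₂ ⊓ B = ⊥ := by
    rw [hA₂def, inf_assoc, inf_comm]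
    exact hA₀.inf_eq_bot
  have hA₂sup : A₂ ⊔ (A ⊓ B) = A := by
    rw [hA₂def, sup_comm, ← sup_inf_assoc_of_le A₀ (inf_le_left : A ⊓ B ≤ A), hA₀.sup_eq_top,
      top_inf_eq]
  -- a complement `H` of `A ⊔ B`
  obtain ⟨H, hH⟩ := Submodule.exists_isCompl (A ⊔ B)
  haveI : FiniteDimensional k H :=
    Module.Finite.equiv (Submodule.quotientEquivOfIsCompl (A ⊔ B) H hH)
  have hc : IsCompl (A₂ ⊔ H) B := by
    refine IsCompl.of_eq ?_ ?_
    · rw [Submodule.eq_bot_iff]
      rintro x ⟨hx1, hx2⟩
      obtain ⟨a, ha, y, hy, rfl⟩ := Submodule.mem_sup.mp hx1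
      have hy0 : y = 0 := by
        have hy' : y ∈ (A ⊔ B) ⊓ H := by
          refine ⟨?_, hy⟩
          have e : y = (a + y) - a := by abel
          rw [e]
          exact Submodule.sub_mem _ (Submodule.mem_sup_right hx2)
            (Submodule.mem_sup_left (hA₂le ha))
        rw [hH.inf_eq_bot] at hy'
        exact (Submodule.mem_bot k).mp hy'
      rw [hy0, add_zero] at hx2 ⊢
      have ha' : a ∈ A₂ ⊓ B := ⟨ha, hx2⟩
      rw [hA₂B] at ha'
      exact (Submodule.mem_bot k).mp ha'
    · rw [eq_top_iff, ← hH.sup_eq_top]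
      refine sup_le (sup_le ?_ le_sup_right) (le_sup_of_le_left le_sup_right)
      rw [← hA₂sup]
      exact sup_le (le_sup_of_le_left le_sup_left) (inf_le_right.trans le_sup_right)
  obtain ⟨C₃, hC₃⟩ := Submodule.exists_isCompl A₂
  obtain ⟨P₃, hP₃def⟩ : ∃ P₃ : Module.End k V, P₃ = A₂.projection C₃ hC₃ := ⟨_, rfl⟩
  obtain ⟨P₂, hP₂def⟩ : ∃ P₂ : Module.End k V, P₂ = (A₂ ⊔ H).projection B hc := ⟨_, rfl⟩
  have hP₃ : P₃ * P₃ = P₃ := by
    rw [hP₃def]; exact (Submodule.isIdempotentElem_projection hC₃).eq
  have hP₂ : P₂ * P₂ = P₂ := by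
    rw [hP₂def]; exact (Submodule.isIdempotentElem_projection hc).eq
  have hP₃mem : ∀ v, P₃ v ∈ A₂ := fun v => by
    rw [hP₃def]; exact Submodule.projection_apply_mem hC₃ v
  have hP₃fix : ∀ v ∈ A₂, P₃ v = v := fun v hv => by
    rw [hP₃def]; exact Submodule.projection_apply_of_mem_left hC₃ hv
  have hP₂mem : ∀ v, P₂ v ∈ A₂ ⊔ H := fun v => by
    rw [hP₂def]; exact Submodule.projection_apply_mem hc v
  have hP₂fix : ∀ v ∈ A₂ ⊔ H, P₂ v = v := fun v hv => by
    rw [hP₂def]; exact Submodule.projection_apply_of_mem_left hc hv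
  have hP₂ker : ∀ v ∈ B, P₂ v = 0 := fun v hv => by
    rw [hP₂def]; exact Submodule.projection_apply_of_mem_right hc hv
  have hP₂sub : ∀ v, v - P₂ v ∈ B := fun v => by
    rw [hP₂def]; exact Submodule.sub_projection_mem hc v
  -- `P₃ ≤ P`
  have e1 : P * P₃ = P₃ := by
    ext v
    exact hPfix _ (hA₂le (hP₃mem v))
  have f1 : FR ((1 - P₃) * P) := by
    refine FR.of_range_le ((A ⊓ B).map (1 - P₃)) ?_
    rintro _ ⟨v, rfl⟩
    have hPv : P v ∈ A₂ ⊔ (A ⊓ B) := by rw [hA₂sup]; exact hPA v
    obtain ⟨a₂, ha₂, c, hc', hac⟩ := Submodule.mem_sup.mp hPv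
    refine ⟨c, hc', ?_⟩
    rw [Module.End.mul_apply, ← hac, map_add]
    have h0 : (1 - P₃) a₂ = 0 := by
      rw [LinearMap.sub_apply, Module.End.one_apply, hP₃fix a₂ ha₂, sub_self]
    rw [h0, zero_add]
  -- `P₃ ≤ P₂`
  have e2 : P₂ * P₃ = P₃ := by
    ext v
    exact hP₂fix _ (Submodule.mem_sup_left (hP₃mem v))
  have f2 : FR ((1 - P₃) * P₂) := by
    refine FR.of_range_le (H.map (1 - P₃)) ?_
    rintro _ ⟨v, rfl⟩
    obtain ⟨a₂, ha₂, c, hc', hac⟩ := Submodule.mem_sup.mp (hP₂mem v)
    refine ⟨c, hc', ?_⟩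
    rw [Module.End.mul_apply, ← hac, map_add]
    have h0 : (1 - P₃) a₂ = 0 := by
      rw [LinearMap.sub_apply, Module.End.one_apply, hP₃fix a₂ ha₂, sub_self]
    rw [h0, zero_add]
  have hf₃ : NS P₃ f := NS_down hP₃ e1 f1 hf
  have hg₃ : NS P₃ g := NS_down hP₃ e1 f1 hg
  have t1 : tres P f g = tres P₃ f g := tres_eq_of_le hP₃ e1 f1 hfg hf₃ hg₃
  have t2 : tres P₂ f g = tres P₃ f g := tres_eq_of_le hP₃ e2 f2 hfg hf₃ hg₃
  have hker : ∀ x : Module.End k V, (∀ v ∈ B, x v ∈ B) → P₂ * x * (1 - P₂) = 0 := by
    intro x hx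
    ext v
    rw [Module.End.mul_apply, Module.End.mul_apply, LinearMap.sub_apply, Module.End.one_apply,
      LinearMap.zero_apply]
    exact hP₂ker _ (hx _ (hP₂sub v))
  rw [t1, ← t2, tres, comm2_eq_zero_of_ker_stable hP₂ hfg (hker f hfB) (hker g hgB)]
  exact frTrace_zero

/-! ### Dense embeddings -/

theorem tres_eq_of_dense {V' : Type*} [AddCommGroup V'] [Module k V'] (j : V →ₗ[k] V')
    (hj : Function.Injective j) {P f g : Module.End k V} {P' f' g' : Module.End k V'}
    (hjP : ∀ v, j (P v) = P' (j v)) (hjf : ∀ v, j (f v) = f' (j v))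
    (hjg : ∀ v, j (g v) = g' (j v)) (hf'g' : f' * g' = g' * f')
    (hdense : ∀ w : V', ∃ v : V, P' (w - j v) = w - j v)
    (hFR : FR (comm2 P' f' g')) : tres P f g = tres P' f' g' := by
  obtain ⟨J, hJ⟩ : ∃ J : Submodule k V', J = LinearMap.range j := ⟨_, rfl⟩
  have hjJ : ∀ v, j v ∈ J := fun v => by rw [hJ]; exact ⟨v, rfl⟩
  have D1 : ∀ w, P' w - w ∈ J := by
    intro w
    obtain ⟨v, hv⟩ := hdense w
    have e : P' w - w = j (P v - v) := by
      have e1 : P' w = P' (w - j v) + P' (j v) := by rw [← map_add, sub_add_cancel]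
      rw [e1, hv, ← hjP, map_sub]
      abel
    rw [e]
    exact hjJ _
  have SJf : ∀ w ∈ J, f' w ∈ J := by
    intro w hw
    rw [hJ] at hw
    obtain ⟨v, rfl⟩ := hw
    rw [← hjf]
    exact hjJ _
  have SJg : ∀ w ∈ J, g' w ∈ J := by
    intro w hw
    rw [hJ] at hw
    obtain ⟨v, rfl⟩ := hw
    rw [← hjg]
    exact hjJ _
  have E2 : ∀ (x' : Module.End k V'), (∀ w ∈ J, x' w ∈ J) → ∀ w, toep P' x' w - x' w ∈ J := by
    intro x' hx w
    have e : toep P' x' w - x' w = (P' (x' (P' w)) - x' (P' w)) + x' (P' w - w) := by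
      simp only [toep, Module.End.mul_apply, map_sub]
      abel
    rw [e]
    exact J.add_mem (D1 _) (hx _ (D1 w))
  have E3 : ∀ w, comm2 P' f' g' w ∈ J := by
    intro w
    have e : comm2 P' f' g' w =
        ((toep P' f' (toep P' g' w) - f' (toep P' g' w)) + f' (toep P' g' w - g' w)) -
          ((toep P' g' (toep P' f' w) - g' (toep P' f' w)) + g' (toep P' f' w - f' w)) +
          (f' * g' - g' * f') w := by
      simp only [comm2, LinearMap.sub_apply, Module.End.mul_apply, map_sub]
      abel
    rw [e, hf'g', sub_self, LinearMap.zero_apply, add_zero]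
    exact J.sub_mem (J.add_mem (E2 f' SJf _) (SJf _ (E2 g' SJg w)))
      (J.add_mem (E2 g' SJg _) (SJg _ (E2 f' SJf w)))
  have hjC : ∀ v, j (comm2 P f g v) = comm2 P' f' g' (j v) := by
    intro v
    simp only [comm2, toep, LinearMap.sub_apply, Module.End.mul_apply, map_sub, hjP, hjf, hjg]
  have E3' : ∀ w, comm2 P' f' g' w ∈ LinearMap.range j := fun w => hJ ▸ E3 w
  let e := LinearEquiv.ofInjective j hj
  let C'' : V' →ₗ[k] V :=
    e.symm.toLinearMap ∘ₗ (comm2 P' f' g').codRestrict (LinearMap.range j) E3'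
  have h1 : j ∘ₗ C'' = comm2 P' f' g' := by
    ext w
    have h := e.apply_symm_apply ⟨comm2 P' f' g' w, E3' w⟩
    exact congrArg Subtype.val h
  have h2 : C'' ∘ₗ j = comm2 P f g := by
    ext v
    apply hj
    have h3 : j (C'' (j v)) = (j ∘ₗ C'') (j v) := rfl
    rw [LinearMap.comp_apply, h3, h1, hjC]
  have hFR'' : FR C'' := FR.of_comp_injective hj (by rw [h1]; exact hFR)
  calc tres P f g = frTrace (C'' ∘ₗ j) := by rw [h2]; rfl
    _ = frTrace (j ∘ₗ C'') := (frTrace_comp_comm C'' j hFR'').symm
    _ = tres P' f' g' := by rw [h1]; rfl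

end Res

/-! ### Residues for a commutative algebra of operators -/

section Alg

variable {R : Type*} [CommRing R]

/-- The residue pairing on a commutative `k`-algebra acting on `V`. -/
noncomputable def res (μ : R →+* Module.End k V) (P : Module.End k V) (u g : R) : k :=
  tres P (μ u) (μ g)

variable {μ : R →+* Module.End k V} {P : Module.End k V}

theorem mu_comm (μ : R →+* Module.End k V) (a b : R) : μ a * μ b = μ b * μ a := by
  rw [← map_mul, ← map_mul, mul_comm]

theorem res_add_right (hP : P * P = P) (hNS : ∀ r, NS P (μ r)) (u g₁ g₂ : R) :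
    res μ P u (g₁ + g₂) = res μ P u g₁ + res μ P u g₂ := by
  unfold res tres
  have e : comm2 P (μ u) (μ (g₁ + g₂)) = comm2 P (μ u) (μ g₁) + comm2 P (μ u) (μ g₂) := by
    rw [map_add]
    simp only [comm2, toep]
    noncomm_ring
  rw [e, frTrace_add (FR_comm2 hP (mu_comm μ _ _) (hNS _) (hNS _))
    (FR_comm2 hP (mu_comm μ _ _) (hNS _) (hNS _))]

theorem res_swap (hP : P * P = P) (hNS : ∀ r, NS P (μ r)) (u g : R) :
    res μ P g u = -res μ P u g :=
  tres_swap hP (mu_comm μ _ _) (hNS _) (hNS _)

theorem res_add_left (hP : P * P = P) (hNS : ∀ r, NS P (μ r)) (u₁ u₂ g : R) :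
    res μ P (u₁ + u₂) g = res μ P u₁ g + res μ P u₂ g := by
  rw [res_swap hP hNS g (u₁ + u₂), res_add_right hP hNS, res_swap hP hNS g u₁,
    res_swap hP hNS g u₂]
  ring

theorem res_zero_right (hP : P * P = P) (hNS : ∀ r, NS P (μ r)) (u : R) :
    res μ P u 0 = 0 := by
  have h := res_add_right hP hNS u 0 0
  rw [add_zero] at h
  exact left_eq_add.mp h

theorem res_sub_right (hP : P * P = P) (hNS : ∀ r, NS P (μ r)) (u g₁ g₂ : R) :
    res μ P u (g₁ - g₂) = res μ P u g₁ - res μ P u g₂ := by
  have h := res_add_right hP hNS u (g₁ - g₂) g₂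
  rw [sub_add_cancel] at h
  rw [h]
  ring

theorem res_leibniz (hP : P * P = P) (hNS : ∀ r, NS P (μ r)) (u g h : R) :
    res μ P u (g * h) = res μ P (u * g) h + res μ P (u * h) g := by
  unfold res
  rw [map_mul, map_mul, map_mul]
  exact tres_leibniz hP (mu_comm μ _ _) (mu_comm μ _ _) (mu_comm μ _ _) (hNS _) (hNS _) (hNS _)

theorem res_one_right (hP : P * P = P) (hNS : ∀ r, NS P (μ r)) (u : R) :
    res μ P u 1 = 0 := by
  have h := res_leibniz hP hNS u 1 1
  rw [mul_one, mul_one] at h
  exact left_eq_add.mp h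

theorem res_pow_succ (hP : P * P = P) (hNS : ∀ r, NS P (μ r)) (y : R) (n : ℕ) :
    ∀ u : R, res μ P u (y ^ (n + 1)) = ((n + 1 : ℕ) : k) * res μ P (u * y ^ n) y := by
  induction n with
  | zero =>
    intro u
    rw [zero_add, pow_one, pow_zero, mul_one, Nat.cast_one, one_mul]
  | succ n ih =>
    intro u
    rw [pow_succ y (n + 1), res_leibniz hP hNS, ih (u * y)]
    have e : u * y * y ^ n = u * y ^ (n + 1) := by ring
    rw [e]
    push_cast
    ring

theorem res_inv (hP : P * P = P) (hNS : ∀ r, NS P (μ r)) (y y' : R) (hy : y * y' = 1)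
    (u : R) : res μ P u y' = -res μ P (u * y' * y') y := by
  have h := res_leibniz hP hNS (u * y') y y'
  rw [hy, res_one_right hP hNS] at h
  have e : u * y' * y = u := by rw [mul_assoc, mul_comm y' y, hy, mul_one]
  rw [e] at h
  exact eq_neg_of_add_eq_zero_left h.symm

theorem res_eq_zero_of_stable (hP : P * P = P) (u g : R)
    (hu : (1 - P) * μ u * P = 0) (hg : (1 - P) * μ g * P = 0) : res μ P u g = 0 := by
  unfold res tres
  rw [comm2_eq_zero_of_stable hP (mu_comm μ _ _) hu hg]
  exact frTrace_zero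

theorem res_eq_zero_of_commute (hP : P * P = P) (u g : R) (hg : μ g * P = P * μ g) :
    res μ P u g = 0 := by
  unfold res tres
  rw [comm2_eq_zero_of_commute hP (mu_comm μ _ _) hg]
  exact frTrace_zero

end Alg

end TateRes
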