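import Mathlib
import Groth.Prelude.Def_LocRes
import Groth.Agent.Lib.TateRes_helper2

/-! The Tate residue on Laurent series is the trace of the coefficient of `X⁻¹` (helper2). -/

namespace TateRes

open HahnSeries WithZero

variable {k : Type*} [Field k] {F : Type*} [Field F] [Algebra k F]

/-- Vanishing of the coefficients below `M`. -/
def Ord (M : ℤ) (u : LaurentSeries F) : Prop := ∀ i < M, u.coeff i = 0

theorem ord_iff {M : ℤ} {u : LaurentSeries F} : Ord M u ↔ Valued.v u ≤ exp (-M) :=
  (LaurentSeries.valuation_le_iff_coeff_lt_eq_zero F).symm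

theorem Ord.mul {M N : ℤ} {u g : LaurentSeries F} (hu : Ord M u) (hg : Ord N g) :
    Ord (M + N) (u * g) := by
  rw [ord_iff] at *
  rw [map_mul, neg_add, exp_add]
  exact mul_le_mul' hu hg

theorem Ord.mono {M N : ℤ} {u : LaurentSeries F} (h : N ≤ M) (hu : Ord M u) : Ord N u :=
  fun i hi => hu i (lt_of_lt_of_le hi h)

theorem Ord.sub {M : ℤ} {u g : LaurentSeries F} (hu : Ord M u) (hg : Ord M g) :
    Ord M (u - g) := fun i hi => by
  rw [HahnSeries.coeff_sub, hu i hi, hg i hi, sub_zero]

theorem ord_single (j : ℤ) (b : F) : Ord j (single j b : LaurentSeries F) :=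
  fun _ hi => coeff_single_of_ne (ne_of_lt hi)

theorem exists_ord (u : LaurentSeries F) : ∃ M : ℤ, Ord M u :=
  ⟨u.order, fun _ hi => coeff_eq_zero_of_lt_order hi⟩

theorem exists_ord_neg (u : LaurentSeries F) : ∃ m : ℕ, Ord (-(m : ℤ)) u := by
  obtain ⟨M, hM⟩ := exists_ord u
  refine ⟨(-M).toNat, hM.mono ?_⟩
  have := Int.self_le_toNat (-M)
  omega

variable (k F)

/-- The polar part. -/
noncomputable def Qpol : Module.End k (LaurentSeries F) :=
  HahnSeries.truncLTLinearMap k (0 : ℤ)

/-- The regular part. -/
noncomputable def Preg : Module.End k (LaurentSeries F) := 1 - Qpol k F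

variable {k F} in
theorem smul_eq_C_mul (c : k) (w : LaurentSeries F) :
    c • w = HahnSeries.C (algebraMap k F c) * w := by
  rw [HahnSeries.C_mul_eq_smul, algebraMap_smul]

/-- Multiplication operators. -/
noncomputable def mulL : LaurentSeries F →+* Module.End k (LaurentSeries F) where
  toFun u :=
    { toFun := fun w => u * w
      map_add' := mul_add u
      map_smul' := fun c w => by
        rw [RingHom.id_apply, smul_eq_C_mul, smul_eq_C_mul]
        ring }
  map_one' := by ext w : 1; exact one_mul w
  map_mul' u v := by ext w : 1; exact mul_assoc u v w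
  map_zero' := by ext w : 1; exact zero_mul w
  map_add' u v := by ext w : 1; exact add_mul u v w

/-- `single` as a `k`-linear map. -/
noncomputable def sgl (j : ℤ) : F →ₗ[k] LaurentSeries F := HahnSeries.single.linearMap j

/-- `coeff` as a `k`-linear map. -/
noncomputable def cf (j : ℤ) : LaurentSeries F →ₗ[k] F := HahnSeries.coeff.linearMap j

variable {k F}

theorem mulL_apply (u w : LaurentSeries F) : mulL k F u w = u * w := rfl

theorem sgl_apply (j : ℤ) (b : F) : sgl k F j b = single j b := rfl

theorem cf_apply (j : ℤ) (w : LaurentSeries F) : cf k F j w = w.coeff j := rfl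

theorem Qpol_coeff (u : LaurentSeries F) (i : ℤ) :
    (Qpol k F u).coeff i = if i < 0 then u.coeff i else 0 := rfl

theorem Preg_coeff (u : LaurentSeries F) (i : ℤ) :
    (Preg k F u).coeff i = if i < 0 then 0 else u.coeff i := by
  rw [Preg, LinearMap.sub_apply, Module.End.one_apply, HahnSeries.coeff_sub, Qpol_coeff]
  split_ifs
  · rw [sub_self]
  · rw [sub_zero]

theorem one_sub_Preg : 1 - Preg k F = Qpol k F := by
  rw [Preg, sub_sub_cancel]

theorem Qpol_eq_zero_of_ord {u : LaurentSeries F} (h : Ord 0 u) : Qpol k F u = 0 := by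
  ext i
  rw [Qpol_coeff, HahnSeries.coeff_zero]
  split_ifs with hi
  · exact h i hi
  · rfl

theorem ord_Preg (u : LaurentSeries F) : Ord 0 (Preg k F u) := fun i hi => by
  rw [Preg_coeff, if_pos hi]

theorem Preg_of_ord {u : LaurentSeries F} (h : Ord 0 u) : Preg k F u = u := by
  ext i
  rw [Preg_coeff]
  split_ifs with hi
  · exact (h i hi).symm
  · rfl

theorem Preg_idem : Preg k F * Preg k F = Preg k F := by
  ext u : 1
  rw [Module.End.mul_apply]
  exact Preg_of_ord (ord_Preg u)

theorem stable_of_ord {x : LaurentSeries F} (hx : Ord 0 x) :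
    (1 - Preg k F) * mulL k F x * Preg k F = 0 := by
  rw [one_sub_Preg]
  ext w : 1
  rw [Module.End.mul_apply, Module.End.mul_apply, mulL_apply, LinearMap.zero_apply]
  have h := hx.mul (ord_Preg (k := k) w)
  rw [add_zero] at h
  exact Qpol_eq_zero_of_ord h

section FD

variable [FiniteDimensional k F]

theorem FR_band (n : ℕ) :
    FR (Qpol k F - HahnSeries.truncLTLinearMap k (-(n : ℤ))) := by
  induction n with
  | zero =>
    have e : Qpol k F - HahnSeries.truncLTLinearMap k (-((0 : ℕ) : ℤ)) = 0 := by
      rw [Nat.cast_zero, neg_zero]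
      exact sub_self _
    rw [e]
    exact FR.zero
  | succ n ih =>
    have e : Qpol k F - HahnSeries.truncLTLinearMap k (-((n + 1 : ℕ) : ℤ)) =
        (Qpol k F - HahnSeries.truncLTLinearMap k (-(n : ℤ))) +
          (sgl k F (-((n + 1 : ℕ) : ℤ))) ∘ₗ (cf k F (-((n + 1 : ℕ) : ℤ))) := by
      ext w i
      simp only [LinearMap.sub_apply, LinearMap.add_apply, LinearMap.comp_apply,
        HahnSeries.coeff_sub, HahnSeries.coeff_add, Qpol_coeff,
        HahnSeries.coe_truncLTLinearMap, HahnSeries.coeff_truncLT, sgl_apply, cf_apply,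
        HahnSeries.coeff_single]
      push_cast
      rcases lt_trichotomy i (-(n : ℤ) - 1) with hi | hi | hi
      · rw [if_pos (by omega : i < 0), if_pos (by omega : i < -((n : ℤ) + 1)),
          if_pos (by omega : i < -(n : ℤ)), if_neg (by omega : ¬ i = -((n : ℤ) + 1))]
        ring
      · rw [if_pos (by omega : i < 0), if_neg (by omega : ¬ i < -((n : ℤ) + 1)),
          if_pos (by omega : i < -(n : ℤ)), if_pos (by omega : i = -((n : ℤ) + 1))]
        rw [show -((n : ℤ) + 1) = i by omega]
        ring
      · rw [if_neg (by omega : ¬ i < -((n : ℤ) + 1)), if_neg (by omega : ¬ i = -((n : ℤ) + 1))]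
        by_cases h0 : i < 0
        · by_cases h1 : i < -(n : ℤ)
          · omega
          · rw [if_pos h0, if_neg h1]
            ring
        · rw [if_neg h0, if_neg (by omega : ¬ i < -(n : ℤ))]
          ring
    rw [e]
    exact ih.add ((FR.of_finite_dom _).comp_right _)

theorem NS_Preg (u : LaurentSeries F) : NS (Preg k F) (mulL k F u) := by
  obtain ⟨n, hn⟩ := exists_ord_neg u
  have e : (1 - Preg k F) * mulL k F u * Preg k F =
      (Qpol k F - HahnSeries.truncLTLinearMap k (-(n : ℤ))) * (mulL k F u * Preg k F) := by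
    rw [one_sub_Preg]
    ext w : 1
    rw [Module.End.mul_apply, Module.End.mul_apply, Module.End.mul_apply, Module.End.mul_apply,
      LinearMap.sub_apply, mulL_apply]
    have h := hn.mul (ord_Preg (k := k) w)
    rw [add_zero] at h
    have h0 : HahnSeries.truncLTLinearMap k (-(n : ℤ)) (u * Preg k F w) = 0 := by
      ext i
      rw [HahnSeries.coe_truncLTLinearMap, HahnSeries.coeff_truncLT, HahnSeries.coeff_zero]
      split_ifs with hi
      · exact h i hi
      · rfl
    rw [h0, sub_zero]
  unfold NS
  rw [e]
  exact (FR_band n).mul_right _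

theorem NS_Preg_all : ∀ r : LaurentSeries F, NS (Preg k F) (mulL k F r) := NS_Preg

/-- `Res(u dX) = Tr(u₋₁)`. -/
theorem res_X (u : LaurentSeries F) :
    res (mulL k F) (Preg k F) u (single 1 1) = Algebra.trace k F (u.coeff (-1)) := by
  have e : comm2 (Preg k F) (mulL k F u) (mulL k F (single 1 1)) =
      (sgl k F 0) ∘ₗ ((cf k F (-1)) ∘ₗ (mulL k F u * Preg k F)) := by
    ext w i
    have e1 : Preg k F ((single 1 (1 : F) : LaurentSeries F) * Preg k F w) =
        (single 1 (1 : F) : LaurentSeries F) * Preg k F w := by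
      apply Preg_of_ord
      have h := (ord_single 1 (1 : F)).mul (ord_Preg (k := k) w)
      exact h.mono (by norm_num)
    have e2 : Preg k F (Preg k F (u * Preg k F w)) = Preg k F (u * Preg k F w) :=
      Preg_of_ord (ord_Preg _)
    have e3 : Preg k F ((single 1 (1 : F) : LaurentSeries F) * Preg k F (u * Preg k F w)) =
        (single 1 (1 : F) : LaurentSeries F) * Preg k F (u * Preg k F w) := by
      apply Preg_of_ord
      have h := (ord_single 1 (1 : F)).mul (ord_Preg (k := k) (u * Preg k F w))
      exact h.mono (by norm_num)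
    simp only [comm2, toep, LinearMap.sub_apply, Module.End.mul_apply, mulL_apply,
      LinearMap.comp_apply, sgl_apply, cf_apply]
    rw [e1, e1, e2, e3, HahnSeries.coeff_sub, Preg_coeff,
      HahnSeries.coeff_single_mul, one_mul, Preg_coeff, HahnSeries.coeff_single]
    have e4 : u * ((single 1 (1 : F) : LaurentSeries F) * Preg k F w) =
        (single 1 (1 : F) : LaurentSeries F) * (u * Preg k F w) := by ring
    rw [e4, HahnSeries.coeff_single_mul, one_mul]
    rcases lt_trichotomy i 0 with hi | hi | hi
    · rw [if_pos hi, if_pos (by omega : i - 1 < 0), if_neg (by omega : ¬ i = 0), sub_zero]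
    · subst hi
      rw [if_neg (lt_irrefl 0), if_pos (by norm_num : (0 : ℤ) - 1 < 0), if_pos rfl, sub_zero]
      norm_num
    · rw [if_neg (by omega : ¬ i < 0), if_neg (by omega : ¬ i - 1 < 0),
        if_neg (by omega : ¬ i = 0), sub_self]
  unfold res tres
  rw [e, frTrace_comp_comm _ _ (FR.of_finite_cod _), frTrace_eq_trace, Algebra.trace_apply]
  congr 1
  ext b
  simp only [LinearMap.comp_apply, Module.End.mul_apply, mulL_apply, sgl_apply, cf_apply]
  rw [Preg_of_ord ((ord_single 0 b).mono le_rfl), HahnSeries.coeff_mul_single, sub_zero]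
  rfl

theorem mulL_C_comm (b : F) :
    mulL k F (single 0 b) * Preg k F = Preg k F * mulL k F (single 0 b) := by
  ext w i
  rw [Module.End.mul_apply, Module.End.mul_apply, mulL_apply, mulL_apply,
    HahnSeries.coeff_single_mul, Preg_coeff, Preg_coeff, HahnSeries.coeff_single_mul, sub_zero]
  split_ifs
  · rw [mul_zero]
  · rfl

theorem res_C (w : LaurentSeries F) (b : F) :
    res (mulL k F) (Preg k F) w (single 0 b) = 0 :=
  res_eq_zero_of_commute Preg_idem w _ (mulL_C_comm b)

theorem res_single_one (w : LaurentSeries F) (N : ℤ) :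
    res (mulL k F) (Preg k F) w (single N 1) =
      (N : k) * Algebra.trace k F (w.coeff (-N)) := by
  have hXY : (single 1 (1 : F) : LaurentSeries F) * single (-1) 1 = 1 := by
    rw [HahnSeries.single_mul_single, mul_one]
    rfl
  obtain ⟨n, rfl | rfl⟩ := N.eq_nat_or_neg
  · cases n with
    | zero =>
      have e : (single ((0 : ℕ) : ℤ) (1 : F) : LaurentSeries F) = 1 := rfl
      rw [e, res_one_right Preg_idem NS_Preg_all, Nat.cast_zero, Int.cast_zero, zero_mul]
    | succ m =>
      have e : (single ((m + 1 : ℕ) : ℤ) (1 : F) : LaurentSeries F) =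
          (single 1 (1 : F) : LaurentSeries F) ^ (m + 1) := by
        rw [HahnSeries.single_pow, one_pow, nsmul_one]
      have e2 : (single 1 (1 : F) : LaurentSeries F) ^ m = single (m : ℤ) 1 := by
        rw [HahnSeries.single_pow, one_pow, nsmul_one]
      rw [e, res_pow_succ Preg_idem NS_Preg_all, res_X, e2, HahnSeries.coeff_mul_single,
        mul_one, Int.cast_natCast]
      congr 3
      push_cast
      ring
  · cases n with
    | zero =>
      have e : (single (-((0 : ℕ) : ℤ)) (1 : F) : LaurentSeries F) = 1 := by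
        rw [Nat.cast_zero, neg_zero]
        rfl
      rw [e, res_one_right Preg_idem NS_Preg_all, Nat.cast_zero, neg_zero, Int.cast_zero,
        zero_mul]
    | succ m =>
      have e : (single (-((m + 1 : ℕ) : ℤ)) (1 : F) : LaurentSeries F) =
          (single (-1) (1 : F) : LaurentSeries F) ^ (m + 1) := by
        rw [HahnSeries.single_pow, one_pow]
        congr 1
        simp
      have e2 : (single (-1) (1 : F) : LaurentSeries F) ^ m = single (-(m : ℤ)) 1 := by
        rw [HahnSeries.single_pow, one_pow]
        congr 1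
        simp
      rw [e, res_pow_succ Preg_idem NS_Preg_all,
        res_inv Preg_idem NS_Preg_all (single 1 1) (single (-1) 1) hXY, res_X, e2]
      have e3 : w * (single (-(m : ℤ)) (1 : F) : LaurentSeries F) * single (-1) 1 *
          single (-1) 1 = w * single (-(m : ℤ) + -1 + -1) 1 := by
        rw [mul_assoc, mul_assoc, HahnSeries.single_mul_single, HahnSeries.single_mul_single,
          mul_one, mul_one, add_assoc]
      rw [e3, HahnSeries.coeff_mul_single, mul_one]
      have e4 : (-1 : ℤ) - (-(m : ℤ) + -1 + -1) = - -((m + 1 : ℕ) : ℤ) := by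
        push_cast; ring
      rw [e4]
      push_cast
      ring

/-- Continuity: the residue vanishes when the orders add up to at least `1`. -/
theorem res_eq_zero_of_ord {M N : ℤ} {u g : LaurentSeries F} (hu : Ord M u) (hg : Ord N g)
    (hMN : 1 ≤ M + N) : res (mulL k F) (Preg k F) u g = 0 := by
  obtain ⟨g₀, hg₀⟩ : ∃ g₀ : LaurentSeries F, g₀ = single (-N) 1 * g := ⟨_, rfl⟩
  have hg₀ord : Ord 0 g₀ := by
    have h := (ord_single (-N) (1 : F)).mul hg
    rw [neg_add_cancel] at h
    rw [hg₀]
    exact h
  have hgg₀ : g = single N 1 * g₀ := by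
    rw [hg₀, ← mul_assoc, HahnSeries.single_mul_single, add_neg_cancel, mul_one]
    exact (one_mul g).symm
  rw [hgg₀, res_leibniz Preg_idem NS_Preg_all]
  have h1 : res (mulL k F) (Preg k F) (u * single N 1) g₀ = 0 := by
    apply res_eq_zero_of_stable Preg_idem
    · exact stable_of_ord ((hu.mul (ord_single N (1 : F))).mono (by omega))
    · exact stable_of_ord hg₀ord
  have h2 : res (mulL k F) (Preg k F) (u * g₀) (single N 1) = 0 := by
    rw [res_single_one]
    have h := hu.mul hg₀ord
    rw [h (-N) (by omega), map_zero, mul_zero]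
  rw [h1, h2, add_zero]

theorem D_single (j : ℤ) (b : F) :
    LocRes.D F (single j b : LaurentSeries F) = single (j - 1) (j • b) := by
  ext n
  rw [LocRes.D_coeff, HahnSeries.coeff_single, HahnSeries.coeff_single]
  by_cases h : n + 1 = j
  · rw [if_pos h, if_pos (by omega : n = j - 1), h]
  · rw [if_neg h, if_neg (by omega : ¬ n = j - 1), smul_zero]

theorem res_monomial (u : LaurentSeries F) (j : ℤ) (b : F) :
    res (mulL k F) (Preg k F) u (single j b) =
      Algebra.trace k F ((u * LocRes.D F (single j b : LaurentSeries F)).coeff (-1)) := by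
  have e : (single j b : LaurentSeries F) = single 0 b * single j 1 := by
    rw [HahnSeries.single_mul_single, zero_add, mul_one]
  rw [D_single, HahnSeries.coeff_mul_single]
  rw [e, res_leibniz Preg_idem NS_Preg_all, res_C, add_zero, res_single_one,
    HahnSeries.coeff_mul_single, sub_zero]
  have e2 : (-1 : ℤ) - (j - 1) = -j := by ring
  rw [e2, mul_smul_comm, map_zsmul, zsmul_eq_mul]

/-- The Tate residue of `u dg` on Laurent series is the trace of the coefficient of `X⁻¹` in
`u g'`. -/
theorem res_laurent (u g : LaurentSeries F) :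
    res (mulL k F) (Preg k F) u g =
      Algebra.trace k F ((u * LocRes.D F g).coeff (-1)) := by
  obtain ⟨M, hM⟩ := exists_ord u
  obtain ⟨N₀, hN₀⟩ := exists_ord g
  have key : ∀ n : ℕ, ∀ g : LaurentSeries F, Ord (1 - M - n) g →
      res (mulL k F) (Preg k F) u g = Algebra.trace k F ((u * LocRes.D F g).coeff (-1)) := by
    intro n
    induction n with
    | zero =>
      intro g hg
      rw [Nat.cast_zero, sub_zero] at hg
      rw [res_eq_zero_of_ord hM hg (by omega)]
      have hD : Ord (1 - M - 1) (LocRes.D F g) := by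
        intro i hi
        rw [LocRes.D_coeff, hg (i + 1) (by omega), smul_zero]
      have h := hM.mul hD
      rw [h (-1) (by omega), map_zero]
    | succ n ih =>
      intro g hg
      obtain ⟨j, hj⟩ : ∃ j : ℤ, j = 1 - M - ((n + 1 : ℕ) : ℤ) := ⟨_, rfl⟩
      rw [← hj] at hg
      have hg' : Ord (1 - M - n) (g - single j (g.coeff j)) := by
        intro i hi
        rw [HahnSeries.coeff_sub, HahnSeries.coeff_single]
        by_cases hij : i = j
        · rw [if_pos hij, hij, sub_self]
        · rw [if_neg hij, sub_zero]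
          apply hg
          push_cast at hj
          omega
      have e : g = (g - single j (g.coeff j)) + single j (g.coeff j) := by abel
      rw [e, res_add_right Preg_idem NS_Preg_all, ih _ hg', res_monomial, map_add, mul_add,
        HahnSeries.coeff_add, map_add]
  obtain ⟨n, hn⟩ : ∃ n : ℕ, 1 - M - (n : ℤ) ≤ N₀ := by
    refine ⟨(1 - M - N₀).toNat, ?_⟩
    have := Int.self_le_toNat (1 - M - N₀)
    omega
  exact key n g (hN₀.mono hn)

end FD

end TateRes
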