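import Mathlib
import Groth.Prelude.Def_LocRes
import Groth.Agent.Lib.TateLaurent_helper2
import Groth.Agent.Lib.FunFldI_helper2
import Groth.Agent.Lib.FunFldLocRes_helper2

/-! The residue theorem for function fields of one variable, by Tate's method (helper2). -/

open HahnSeries WithZero

namespace TateRes

section Local

variable {k : Type*} [Field k] {K : Type*} [Field K] [Algebra k K]
  {F : Type*} [Field F] [Algebra k F]

/-- An expansion as a `k`-linear map for the coefficientwise scalar action. -/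
noncomputable def expLin (φ : K →ₐ[k] LaurentSeries F) : K →ₗ[k] LaurentSeries F where
  toFun := φ
  map_add' := map_add φ
  map_smul' c x := by
    rw [RingHom.id_apply, Algebra.smul_def, map_mul, LocRes.map_algebraMap, smul_eq_C_mul]

theorem expLin_apply (φ : K →ₐ[k] LaurentSeries F) (x : K) : expLin φ x = φ x := rfl

variable (k K) in
/-- Multiplication operators on `K`. -/
noncomputable def mulK : K →+* Module.End k K := (Algebra.lmul k K).toRingHom

theorem mulK_apply (u x : K) : mulK k K u x = u * x := rfl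

variable {w : Valuation K (WithZero (Multiplicative ℤ))} {φ : K →ₐ[k] LaurentSeries F}

theorem ord_exp_iff (hφ : LocRes.IsExpansionAt w φ) (x : K) (M : ℤ) :
    Ord M (φ x) ↔ w x ≤ exp (-M) := by
  rw [ord_iff, hφ.1]

theorem ord_zero_exp_iff (hφ : LocRes.IsExpansionAt w φ) (x : K) :
    Ord 0 (φ x) ↔ w x ≤ 1 := by
  rw [ord_exp_iff hφ, neg_zero, exp_zero]

theorem exists_sub_ord (hφ : LocRes.IsExpansionAt w φ) :
    ∀ (m : ℕ) (x : LaurentSeries F), Ord (-(m : ℤ)) x → ∃ y : K, Ord 0 (x - φ y) := by
  obtain ⟨t, ht⟩ := hφ.2.2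
  have ht0 : t ≠ 0 := by
    rintro rfl
    rw [map_zero] at ht
    exact exp_ne_zero ht.symm
  intro m
  induction m with
  | zero =>
    intro x hx
    refine ⟨0, ?_⟩
    rw [map_zero, sub_zero]
    rwa [Nat.cast_zero, neg_zero] at hx
  | succ m ih =>
    intro x hx
    have hz : Ord ((m : ℤ) + 1) (φ (t ^ (m + 1))) := by
      rw [ord_exp_iff hφ, map_pow, ht, ← exp_nsmul]
      apply le_of_eq
      congr 1
      rw [smul_neg, nsmul_one]
      push_cast
      ring
    have hz' : Ord (-((m : ℤ) + 1)) (φ (t⁻¹ ^ (m + 1))) := by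
      rw [ord_exp_iff hφ, map_pow, map_inv₀, ht, ← exp_neg, ← exp_nsmul]
      apply le_of_eq
      congr 1
      rw [neg_neg, nsmul_one]
      push_cast
      ring
    have hx' : Ord 0 (x * φ (t ^ (m + 1))) := by
      have h := hx.mul hz
      refine h.mono ?_
      push_cast
      omega
    obtain ⟨f₀, hf₀1, hf₀2⟩ := hφ.2.1 ((x * φ (t ^ (m + 1))).coeff 0)
    have hφf₀ : Ord 0 (φ f₀) := (ord_zero_exp_iff hφ f₀).mpr hf₀1
    have h1 : Ord 1 (x * φ (t ^ (m + 1)) - φ f₀) := by
      intro i hi
      rcases lt_or_eq_of_le (show i ≤ 0 by omega) with h | h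
      · rw [HahnSeries.coeff_sub, hx' i h, hφf₀ i h, sub_zero]
      · rw [h, HahnSeries.coeff_sub, hf₀2, sub_self]
    have h2 : Ord (-(m : ℤ)) (x - φ (f₀ * t⁻¹ ^ (m + 1))) := by
      have e : x - φ (f₀ * t⁻¹ ^ (m + 1)) =
          (x * φ (t ^ (m + 1)) - φ f₀) * φ (t⁻¹ ^ (m + 1)) := by
        have e0 : φ (t ^ (m + 1)) * φ (t⁻¹ ^ (m + 1)) = 1 := by
          rw [← map_mul, ← mul_pow, mul_inv_cancel₀ ht0, one_pow, map_one]
        rw [sub_mul, mul_assoc, e0, mul_one, map_mul]
      rw [e]
      have h := h1.mul hz'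
      exact h.mono (by omega)
    obtain ⟨y₂, hy₂⟩ := ih _ h2
    refine ⟨f₀ * t⁻¹ ^ (m + 1) + y₂, ?_⟩
    rw [map_add, ← sub_sub]
    exact hy₂

theorem exists_sub_ord' (hφ : LocRes.IsExpansionAt w φ) (x : LaurentSeries F) :
    ∃ y : K, Ord 0 (x - φ y) := by
  obtain ⟨m, hm⟩ := exists_ord_neg x
  exact exists_sub_ord hφ m x hm

variable [FiniteDimensional k F]

theorem exists_lift_proj (hφ : LocRes.IsExpansionAt w φ) (p : Module.End k K)
    (hp : p * p = p) (hp1 : ∀ x, w (p x) ≤ 1) (hp2 : ∀ x, w x ≤ 1 → p x = x) :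
    ∃ P' : Module.End k (LaurentSeries F), P' * P' = P' ∧ P' * Preg k F = Preg k F ∧
      Preg k F * P' = P' ∧ (∀ v, expLin φ (p v) = P' (expLin φ v)) ∧
      ∀ x, ∃ v, P' (x - expLin φ v) = x - expLin φ v := by
  obtain ⟨A', hA'⟩ : ∃ A' : Submodule k (LaurentSeries F), A' = LinearMap.range (Preg k F) :=
    ⟨_, rfl⟩
  obtain ⟨C', hC'⟩ : ∃ C' : Submodule k (LaurentSeries F),
      C' = (LinearMap.ker p).map (expLin φ) := ⟨_, rfl⟩
  have hmemA : ∀ x : LaurentSeries F, x ∈ A' ↔ Ord 0 x := by
    intro x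
    rw [hA']
    constructor
    · rintro ⟨y, rfl⟩
      exact ord_Preg y
    · intro hx
      exact ⟨x, Preg_of_ord hx⟩
  have hpp : ∀ v, p (p v) = p v := fun v => by
    rw [← Module.End.mul_apply, hp]
  have hc : IsCompl A' C' := by
    refine ⟨Submodule.disjoint_def.mpr ?_, codisjoint_iff.mpr (eq_top_iff.mpr ?_)⟩
    · intro x hxA hxC
      rw [hC'] at hxC
      obtain ⟨c, hc, rfl⟩ := hxC
      have hc' : p c = 0 := hc
      have h1 : w c ≤ 1 := (ord_zero_exp_iff hφ c).mp ((hmemA _).mp hxA)
      rw [hp2 c h1] at hc'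
      rw [hc', map_zero]
    · intro x _
      obtain ⟨y, hy⟩ := exists_sub_ord' hφ x
      have e : x = (x - φ y + φ (p y)) + expLin φ (y - p y) := by
        rw [expLin_apply, map_sub]
        abel
      rw [e]
      refine Submodule.add_mem_sup ?_ ?_
      · rw [hmemA]
        intro i hi
        rw [HahnSeries.coeff_add, hy i hi, (ord_zero_exp_iff hφ (p y)).mpr (hp1 y) i hi,
          add_zero]
      · rw [hC']
        refine ⟨y - p y, ?_, rfl⟩
        show p (y - p y) = 0
        rw [map_sub, hpp, sub_self]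
  refine ⟨A'.projection C' hc, (Submodule.isIdempotentElem_projection hc).eq, ?_, ?_, ?_, ?_⟩
  · ext v : 1
    rw [Module.End.mul_apply]
    exact Submodule.projection_apply_of_mem_left hc ((hmemA _).mpr (ord_Preg v))
  · ext v : 1
    rw [Module.End.mul_apply]
    exact Preg_of_ord ((hmemA _).mp (Submodule.projection_apply_mem hc v))
  · intro v
    have e : expLin φ v = expLin φ (p v) + expLin φ (v - p v) := by
      rw [← map_add]
      congr 1
      abel
    rw [e, map_add, Submodule.projection_apply_of_mem_left hc, Submodule.projection_apply_of_mem_right hc,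
      add_zero]
    · rw [hC']
      refine ⟨v - p v, ?_, rfl⟩
      show p (v - p v) = 0
      rw [map_sub, hpp, sub_self]
    · rw [hmemA, expLin_apply]
      exact (ord_zero_exp_iff hφ (p v)).mpr (hp1 v)
  · intro x
    obtain ⟨y, hy⟩ := exists_sub_ord' hφ x
    exact ⟨y, Submodule.projection_apply_of_mem_left hc ((hmemA _).mpr hy)⟩

/-- The local Tate residue is the local residue read through the expansion. -/
theorem local_main (hφ : LocRes.IsExpansionAt w φ) (p : Module.End k K)
    (hp : p * p = p) (hp1 : ∀ x, w (p x) ≤ 1) (hp2 : ∀ x, w x ≤ 1 → p x = x) :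
    (∀ u : K, NS p (mulK k K u)) ∧
      ∀ u g : K, tres p (mulK k K u) (mulK k K g) = LocRes.locRes φ u g := by
  obtain ⟨P', hP', hPP', hP'P, hjP, hdense⟩ := exists_lift_proj hφ p hp hp1 hp2
  have hj : Function.Injective (expLin φ) := (φ : K →+* LaurentSeries F).injective
  have hjm : ∀ u v : K, expLin φ (mulK k K u v) = mulL k F (φ u) (expLin φ v) := by
    intro u v
    rw [mulK_apply, mulL_apply, expLin_apply, expLin_apply, map_mul]
  have hNS' : ∀ r : LaurentSeries F, NS P' (mulL k F r) := fun r =>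
    NS_of_range_eq hPP' hP'P (NS_Preg r)
  constructor
  · intro u
    have e : (expLin φ) ∘ₗ ((1 - p) * mulK k K u * p) =
        ((1 - P') * mulL k F (φ u) * P') ∘ₗ (expLin φ) := by
      ext v
      simp only [LinearMap.comp_apply, Module.End.mul_apply, LinearMap.sub_apply,
        Module.End.one_apply, map_sub, hjm, hjP]
    refine FR.of_comp_injective hj ?_
    rw [e]
    exact (hNS' (φ u)).comp_right _
  · intro u g
    have hFR : FR (comm2 P' (mulL k F (φ u)) (mulL k F (φ g))) :=
      FR_comm2 hP' (mu_comm _ _ _) (hNS' _) (hNS' _)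
    rw [tres_eq_of_dense (expLin φ) hj hjP (hjm u) (hjm g) (mu_comm _ _ _) hdense hFR,
      tres_eq_of_range_eq Preg_idem hP' hPP' hP'P (mu_comm _ _ _) (NS_Preg _) (NS_Preg _)]
    exact res_laurent (φ u) (φ g)

end Local

end TateRes

namespace FunFld

open TateRes

universe u v w

variable {k : Type u} {K : Type v} [Field k] [Field K] [Algebra k K]

/-- The valuation ring as a `k`-subspace. -/
def OSub (Q : Place k K) : Submodule k K where
  carrier := {x | Q.1 x ≤ 1}
  add_mem' := fun {x y} hx hy => (Q.1.map_add x y).trans (max_le hx hy)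
  zero_mem' := by simp
  smul_mem' := fun c x hx => by
    show Q.1 (c • x) ≤ 1
    rw [Algebra.smul_def, map_mul]
    exact (mul_le_mul' (Q.2.1 c) hx).trans_eq (one_mul _)

theorem exists_locProj (Q : Place k K) : ∃ p : Module.End k K, p * p = p ∧
    (∀ x, Q.1 (p x) ≤ 1) ∧ (∀ x, Q.1 x ≤ 1 → p x = x) := by
  obtain ⟨C, hC⟩ := Submodule.exists_isCompl (OSub Q)
  exact ⟨(OSub Q).projection C hC, (Submodule.isIdempotentElem_projection hC).eq,
    fun x => Submodule.projection_apply_mem hC x,
    fun x hx => Submodule.projection_apply_of_mem_left hC hx⟩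

/-- A `k`-linear projection of `K` onto the valuation ring of `Q`. -/
noncomputable def locProj (Q : Place k K) : Module.End k K := Classical.choose (exists_locProj Q)

theorem locProj_idem (Q : Place k K) : locProj Q * locProj Q = locProj Q :=
  (Classical.choose_spec (exists_locProj Q)).1

theorem locProj_le (Q : Place k K) (x : K) : Q.1 (locProj Q x) ≤ 1 :=
  (Classical.choose_spec (exists_locProj Q)).2.1 x

theorem locProj_fix (Q : Place k K) (x : K) (hx : Q.1 x ≤ 1) : locProj Q x = x :=
  (Classical.choose_spec (exists_locProj Q)).2.2 x hx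

/-- Multiplication by `x` on the adele space. -/
noncomputable def mulA (hK : IsFunctionField k K) (x : K) : Module.End k (adele k K) where
  toFun a := ⟨x • a.1, smul_mem_adele hK x a.1 a.2⟩
  map_add' a b := Subtype.ext (smul_add x a.1 b.1)
  map_smul' c a := Subtype.ext (smul_comm x c a.1)

/-- The componentwise projection onto the integral adeles. -/
noncomputable def projA : Module.End k (adele k K) where
  toFun a := ⟨fun Q => locProj Q (a.1 Q),
    show ∀ᶠ Q : Place k K in Filter.cofinite, Q.1 (locProj Q (a.1 Q)) ≤ 1 from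
      Filter.Eventually.of_forall fun Q => locProj_le Q _⟩
  map_add' a b := Subtype.ext (funext fun Q => map_add (locProj Q) _ _)
  map_smul' c a := Subtype.ext (funext fun Q => map_smul (locProj Q) c _)

/-- Evaluation at a place. -/
noncomputable def evA (Q : Place k K) : adele k K →ₗ[k] K :=
  (LinearMap.proj Q) ∘ₗ (adele k K).subtype

open scoped Classical in
theorem pi_single_mem_adele (Q : Place k K) (z : K) :
    (Pi.single Q z : Place k K → K) ∈ adele k K := by
  show ∀ᶠ P : Place k K in Filter.cofinite, P.1 ((Pi.single Q z : Place k K → K) P) ≤ 1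
  rw [Filter.eventually_cofinite]
  refine (Set.finite_singleton Q).subset ?_
  intro P hP
  by_contra hne
  apply hP
  rw [Pi.single_eq_of_ne hne, map_zero]
  exact zero_le

open scoped Classical in
/-- The adele supported at one place. -/
noncomputable def sgA (Q : Place k K) : K →ₗ[k] adele k K where
  toFun z := ⟨Pi.single Q z, pi_single_mem_adele Q z⟩
  map_add' a b := Subtype.ext (by
    show (Pi.single Q (a + b) : Place k K → K) = Pi.single Q a + Pi.single Q b
    exact Pi.single_add (f := fun _ : Place k K => K) Q a b)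
  map_smul' c a := Subtype.ext (by
    show (Pi.single Q (c • a) : Place k K → K) = c • (Pi.single Q a : Place k K → K)
    exact Pi.single_smul (f := fun _ : Place k K => K) Q c a)

/-- The diagonal embedding into the adele space. -/
noncomputable def diagA (hK : IsFunctionField k K) : K →ₗ[k] adele k K :=
  (diag k K).codRestrict (adele k K) (diag_mem_adele hK)

/-- A componentwise operator. -/
def CW (T : Module.End k (adele k K)) (t : Place k K → Module.End k K) : Prop :=
  ∀ (a : adele k K) (Q : Place k K), (T a).1 Q = t Q (a.1 Q)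

theorem CW.mul {T T' : Module.End k (adele k K)} {t t' : Place k K → Module.End k K}
    (h : CW T t) (h' : CW T' t') : CW (T * T') (fun Q => t Q * t' Q) := fun a Q => by
  rw [Module.End.mul_apply, h, h', Module.End.mul_apply]

theorem CW.sub {T T' : Module.End k (adele k K)} {t t' : Place k K → Module.End k K}
    (h : CW T t) (h' : CW T' t') : CW (T - T') (fun Q => t Q - t' Q) := fun a Q => by
  rw [LinearMap.sub_apply, LinearMap.sub_apply, ← h, ← h']
  rfl

theorem CW.one : CW (1 : Module.End k (adele k K)) (fun _ => 1) := fun _ _ => rfl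

theorem CW_mulA (hK : IsFunctionField k K) (x : K) : CW (mulA hK x) (fun _ => mulK k K x) :=
  fun _ _ => rfl

theorem CW_projA : CW (projA (k := k) (K := K)) (fun Q => locProj Q) := fun _ _ => rfl

open scoped Classical in
theorem CW.eq_sum {T : Module.End k (adele k K)} {t : Place k K → Module.End k K}
    (h : CW T t) (S : Finset (Place k K)) (hS : ∀ Q ∉ S, t Q = 0) :
    T = ∑ Q ∈ S, (sgA Q) ∘ₗ ((t Q) ∘ₗ (evA Q)) := by
  ext a : 1
  apply Subtype.ext
  funext Q'
  rw [h a Q', LinearMap.sum_apply, Submodule.coe_sum, Finset.sum_apply]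
  have e : ∀ Q ∈ S, (((sgA Q) ∘ₗ ((t Q) ∘ₗ (evA Q))) a).1 Q' =
      (Pi.single Q (t Q (a.1 Q)) : Place k K → K) Q' := fun Q _ => by
    rw [LinearMap.comp_apply, LinearMap.comp_apply]
    rfl
  rw [Finset.sum_congr rfl e, Finset.sum_pi_single]
  split_ifs with hQ'
  · rfl
  · rw [hS Q' hQ', LinearMap.zero_apply]

open scoped Classical in
theorem frTrace_sgA_comp (Q : Place k K) {t : Module.End k K} (ht : FR t) :
    frTrace ((sgA Q) ∘ₗ (t ∘ₗ (evA Q))) = frTrace t := by
  rw [frTrace_comp_comm (t ∘ₗ evA Q) (sgA Q) (ht.comp_right _)]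
  congr 1
  ext x
  rw [LinearMap.comp_apply, LinearMap.comp_apply]
  show t ((Pi.single Q x : Place k K → K) Q) = t x
  rw [Pi.single_eq_same]

theorem locProj_stable (Q : Place k K) {x : K} (hx : Q.1 x ≤ 1) :
    (1 - locProj Q) * mulK k K x * locProj Q = 0 := by
  ext y
  rw [Module.End.mul_apply, Module.End.mul_apply, LinearMap.sub_apply, Module.End.one_apply,
    mulK_apply, LinearMap.zero_apply, sub_eq_zero]
  symm
  apply locProj_fix
  rw [map_mul]
  exact mul_le_one' hx (locProj_le Q y)

theorem projA_idem : projA (k := k) (K := K) * projA = projA := by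
  ext a : 1
  apply Subtype.ext
  funext Q
  show locProj Q (locProj Q (a.1 Q)) = locProj Q (a.1 Q)
  rw [← Module.End.mul_apply, locProj_idem]

theorem mulA_comm (hK : IsFunctionField k K) (x y : K) :
    mulA hK x * mulA hK y = mulA hK y * mulA hK x := by
  ext a : 1
  apply Subtype.ext
  funext Q
  show x * (y * a.1 Q) = y * (x * a.1 Q)
  ring

theorem NS_projA (hK : IsFunctionField k K) (x : K)
    (hNS : ∀ Q : Place k K, NS (locProj Q) (mulK k K x)) : NS projA (mulA hK x) := by
  classical
  have hfin : {Q : Place k K | ¬ Q.1 x ≤ 1}.Finite := by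
    have h := diag_mem_adele hK x
    exact Filter.eventually_cofinite.mp h
  have hcw : CW ((1 - projA) * mulA hK x * projA)
      (fun Q => (1 - locProj Q) * mulK k K x * locProj Q) :=
    ((CW.one.sub CW_projA).mul (CW_mulA hK x)).mul CW_projA
  unfold NS
  rw [hcw.eq_sum hfin.toFinset (fun Q hQ => by
    apply locProj_stable
    by_contra h
    exact hQ (hfin.mem_toFinset.mpr h))]
  exact FR.sum _ _ fun Q _ => ((hNS Q).comp_right _).comp_left _

/-- The global Tate residue on the adele space vanishes. -/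
theorem tres_projA_eq_zero (hK : IsFunctionField k K) (x y : K)
    (hNSx : ∀ Q : Place k K, NS (locProj Q) (mulK k K x))
    (hNSy : ∀ Q : Place k K, NS (locProj Q) (mulK k K y)) :
    tres projA (mulA hK x) (mulA hK y) = 0 := by
  refine tres_eq_zero_of_stable_compl projA_idem (mulA_comm hK x y) (NS_projA hK x hNSx)
    (NS_projA hK y hNSy) (LinearMap.range (diagA hK)) ?_ ?_ ?_ ?_
  · rintro _ ⟨z, rfl⟩
    exact ⟨x * z, rfl⟩
  · rintro _ ⟨z, rfl⟩
    exact ⟨y * z, rfl⟩
  · haveI := finiteDimensional_L hK (0 : Divisor k K)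
    refine Submodule.finiteDimensional_of_le
      (S₂ := (L (0 : Divisor k K)).map (diagA hK)) ?_
    rintro a ⟨⟨b, hb⟩, ⟨z, rfl⟩⟩
    refine ⟨z, ?_, rfl⟩
    intro Q
    rw [Finsupp.zero_apply, exp_zero]
    have h := congrFun (congrArg Subtype.val hb) Q
    have h2 : Q.1 ((projA b).1 Q) ≤ 1 := locProj_le Q _
    rw [h] at h2
    exact h2
  · obtain ⟨hfd, -⟩ := finrank_adele_quot hK (0 : Divisor k K)
    haveI := hfd
    have hle : ADK (0 : Divisor k K) ≤ LinearMap.range (projA (k := k) (K := K)) ⊔
        LinearMap.range (diagA hK) := by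
      intro a ha
      have ha' : a.1 ∈ AD (0 : Divisor k K) ⊔ LinearMap.range (diag k K) := ha
      obtain ⟨b, hb, _, ⟨z, rfl⟩, hbz⟩ := Submodule.mem_sup.mp ha'
      have e : a = ⟨b, AD_le_adele 0 hb⟩ + diagA hK z := Subtype.ext hbz.symm
      rw [e]
      refine Submodule.add_mem_sup ⟨⟨b, AD_le_adele 0 hb⟩, ?_⟩ ⟨z, rfl⟩
      apply Subtype.ext
      funext Q
      apply locProj_fix
      have h := hb Q
      rwa [Finsupp.zero_apply, exp_zero] at h
    exact Module.Finite.of_surjective (Submodule.factor hle) (Submodule.factor_surjective hle)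

/-- The sum of the local Tate residues vanishes. -/
theorem sum_tres_eq_zero (hK : IsFunctionField k K) (x y : K)
    (hNS : ∀ (Q : Place k K) (r : K), NS (locProj Q) (mulK k K r))
    (S : Finset (Place k K)) (hS : ∀ Q ∉ S, Q.1 x ≤ 1 ∧ Q.1 y ≤ 1) :
    ∑ Q ∈ S, tres (locProj Q) (mulK k K x) (mulK k K y) = 0 := by
  classical
  have h0 := tres_projA_eq_zero hK x y (fun Q => hNS Q x) (fun Q => hNS Q y)
  have hcw : CW (comm2 projA (mulA hK x) (mulA hK y))
      (fun Q => comm2 (locProj Q) (mulK k K x) (mulK k K y)) := by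
    unfold comm2 toep
    exact (((CW_projA.mul (CW_mulA hK x)).mul CW_projA).mul
      ((CW_projA.mul (CW_mulA hK y)).mul CW_projA)).sub
      (((CW_projA.mul (CW_mulA hK y)).mul CW_projA).mul
      ((CW_projA.mul (CW_mulA hK x)).mul CW_projA))
  have hmc : ∀ a b : K, mulK k K a * mulK k K b = mulK k K b * mulK k K a :=
    fun a b => mu_comm (mulK k K) a b
  unfold tres at h0
  rw [hcw.eq_sum S (fun Q hQ => comm2_eq_zero_of_stable (locProj_idem Q) (hmc x y)
    (locProj_stable Q (hS Q hQ).1) (locProj_stable Q (hS Q hQ).2)),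
    frTrace_sum _ _ (fun Q _ => ((FR_comm2 (locProj_idem Q) (hmc x y) (hNS Q x)
      (hNS Q y)).comp_right _).comp_left _)] at h0
  rw [← h0]
  refine Finset.sum_congr rfl fun Q _ => ?_
  rw [frTrace_sgA_comp Q (FR_comm2 (locProj_idem Q) (hmc x y) (hNS Q x) (hNS Q y))]
  rfl

/-- The residue theorem. -/
theorem sum_locRes_eq_zero (hK : IsFunctionField k K)
    (F : Place k K → Type w) [∀ P, Field (F P)] [∀ P, Algebra k (F P)]
    [∀ P, FiniteDimensional k (F P)]
    (φ : ∀ P, K →ₐ[k] LaurentSeries (F P)) (hφ : ∀ P, LocRes.IsExpansionAt P.1 (φ P))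
    (x y : K) :
    (Function.support fun P => LocRes.locRes (φ P) x y).Finite ∧
      ∑ᶠ P, LocRes.locRes (φ P) x y = 0 := by
  classical
  have hloc := fun Q : Place k K =>
    local_main (hφ Q) (locProj Q) (locProj_idem Q) (locProj_le Q) (locProj_fix Q)
  have hfin : {Q : Place k K | ¬ (Q.1 x ≤ 1 ∧ Q.1 y ≤ 1)}.Finite := by
    have h1 : ∀ᶠ Q : Place k K in Filter.cofinite, Q.1 x ≤ 1 := diag_mem_adele hK x
    have h2 : ∀ᶠ Q : Place k K in Filter.cofinite, Q.1 y ≤ 1 := diag_mem_adele hK y
    exact Filter.eventually_cofinite.mp (h1.and h2)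
  have hsub : (Function.support fun P => LocRes.locRes (φ P) x y) ⊆ ↑hfin.toFinset := by
    intro Q hQ
    rw [Finset.mem_coe, hfin.mem_toFinset]
    intro h
    apply hQ
    show LocRes.locRes (φ Q) x y = 0
    unfold LocRes.locRes
    rw [resExp_eq_zero_of_le_one (hφ Q) h.1 h.2, map_zero]
  refine ⟨hfin.toFinset.finite_toSet.subset hsub, ?_⟩
  rw [finsum_eq_sum_of_support_subset _ hsub]
  have h0 := sum_tres_eq_zero hK x y (fun Q r => (hloc Q).1 r) hfin.toFinset
    (fun Q hQ => by
      by_contra h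
      exact hQ (hfin.mem_toFinset.mpr h))
  rw [← h0]
  exact Finset.sum_congr rfl fun Q _ => ((hloc Q).2 x y).symm

end FunFld
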