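import Mathlib
import Groth.Prelude.Def_LocRes
import Groth.Agent.Lib.TateFunFld_helper2
import Groth.Agent.Lib.FunFldZetaC_helper2
import Groth.Agent.Lib.FunFldExtD_helper2

/-! A place of a geometric function field carrying a Laurent expansion over `k` is separable
(helper2). -/

open WithZero Polynomial TensorProduct

namespace FunFld

open TateRes

universe u u' v v' w

section Deg

variable {k : Type*} {K : Type*} [Field k] [Field K] [Algebra k K]

theorem Place.deg_eq_finrank_range {V : Type*} [AddCommGroup V] [Module k V] (P : Place k K)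
    (g : P.O →ₗ[k] V) (hg : ∀ a : P.O, g a = 0 ↔ P.1 (a : K) < 1) :
    P.deg = Module.finrank k (LinearMap.range g) := by
  have h1 : P.deg = Module.finrank k (ResF P) := (resFEquiv P).finrank_eq
  have hker : LinearMap.ker (resF P).toLinearMap = LinearMap.ker g := by
    ext a
    rw [LinearMap.mem_ker, LinearMap.mem_ker, hg a]
    exact resF_eq_zero_iff P a
  let e1 := (resF P).toLinearMap.quotKerEquivOfSurjective (resF_surjective P)
  let e2 := g.quotKerEquivRange
  let e3 := Submodule.quotEquivOfEq _ _ hker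
  rw [h1, ← e1.finrank_eq, e3.finrank_eq, e2.finrank_eq]

theorem le_exp_neg_one_of_lt_one {x : WithZero (Multiplicative ℤ)} (h : x < 1) :
    x ≤ exp (-1) := by
  rcases eq_or_ne x 0 with rfl | hx
  · exact zero_le
  · obtain ⟨n, rfl⟩ : ∃ n, x = exp n := ⟨log x, (exp_log hx).symm⟩
    rw [← exp_zero, exp_lt_exp] at h
    rw [exp_le_exp]
    omega

variable {F : Type*} [Field F] [Algebra k F]

/-- The constant coefficient of the expansion, as a linear map on the valuation ring. -/
noncomputable def coeffO (P : Place k K) (φ : K →ₐ[k] LaurentSeries F) : P.O →ₗ[k] F where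
  toFun a := (φ (a : K)).coeff 0
  map_add' a b := by
    show (φ ((a : K) + (b : K))).coeff 0 = _
    rw [map_add, HahnSeries.coeff_add]
  map_smul' c a := by
    have h1 : ((c • a : P.O) : K) = algebraMap k K c * (a : K) := by
      rw [Algebra.smul_def]; rfl
    show (φ ((c • a : P.O) : K)).coeff 0 = c • (φ (a : K)).coeff 0
    rw [h1, map_mul, LocRes.map_algebraMap, HahnSeries.C_mul_eq_smul, HahnSeries.coeff_smul,
      smul_eq_mul, Algebra.smul_def]

theorem coeffO_apply (P : Place k K) (φ : K →ₐ[k] LaurentSeries F) (a : P.O) :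
    coeffO P φ a = (φ (a : K)).coeff 0 := rfl

theorem coeffO_eq_zero_iff {P : Place k K} {φ : K →ₐ[k] LaurentSeries F}
    (hφ : LocRes.IsExpansionAt P.1 φ) (a : P.O) : coeffO P φ a = 0 ↔ P.1 (a : K) < 1 := by
  have ha : P.1 (a : K) ≤ 1 := (Valuation.mem_valuationSubring_iff _ _).mp a.2
  have h0 : Ord 0 (φ (a : K)) := (ord_zero_exp_iff hφ _).mpr ha
  rw [coeffO_apply]
  constructor
  · intro h
    have h1 : Ord 1 (φ (a : K)) := by
      intro i hi
      rcases lt_or_eq_of_le (show i ≤ 0 by omega) with h2 | h2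
      · exact h0 i h2
      · rw [h2]; exact h
    have h2 := (ord_exp_iff hφ _ 1).mp h1
    refine lt_of_le_of_lt h2 ?_
    rw [← exp_zero, exp_lt_exp]
    norm_num
  · intro h
    have h1 := le_exp_neg_one_of_lt_one h
    exact (ord_exp_iff hφ _ 1).mpr h1 0 (by norm_num)

theorem Place.deg_eq_of_isExpansionAt (P : Place k K) (φ : K →ₐ[k] LaurentSeries F)
    (hφ : LocRes.IsExpansionAt P.1 φ) : P.deg = Module.finrank k F := by
  rw [Place.deg_eq_finrank_range P (coeffO P φ) (coeffO_eq_zero_iff hφ)]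
  have : LinearMap.range (coeffO P φ) = ⊤ := LinearMap.range_eq_top.mpr (fun b => by
    obtain ⟨f, hf, hb⟩ := hφ.2.1 b
    exact ⟨⟨f, (Valuation.mem_valuationSubring_iff _ _).mpr hf⟩, hb⟩)
  rw [this, finrank_top]

variable (k F) in
/-- Constants, as a `k`-algebra homomorphism. -/
noncomputable def CAlg : F →ₐ[k] LaurentSeries F :=
  { (HahnSeries.C : F →+* LaurentSeries F) with
    commutes' := fun c => by
      show HahnSeries.C (algebraMap k F c) = algebraMap k (LaurentSeries F) c
      rw [HahnSeries.algebraMap_apply', PowerSeries.algebraMap_apply,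
        HahnSeries.ofPowerSeries_C] }

theorem CAlg_apply (b : F) : CAlg k F b = HahnSeries.C b := rfl

theorem algebraMap_laurent (c : k) :
    algebraMap k (LaurentSeries F) c = HahnSeries.C (algebraMap k F c) :=
  ((CAlg k F).commutes c).symm

theorem val_C_le_one (b : F) : Valued.v (HahnSeries.C b : LaurentSeries F) ≤ 1 := by
  have h : Ord 0 (HahnSeries.C b : LaurentSeries F) := fun i hi => by
    rw [HahnSeries.C_apply]; exact HahnSeries.coeff_single_of_ne (ne_of_lt hi)
  rw [ord_iff, neg_zero, exp_zero] at h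
  exact h

/-- The valuation induced by a homomorphism into Laurent series. -/
noncomputable def valOf {K' : Type*} [Field K'] (ψ : K' →+* LaurentSeries F) :
    Valuation K' (WithZero (Multiplicative ℤ)) :=
  (Valued.v : Valuation (LaurentSeries F) _).comap ψ

theorem valOf_apply {K' : Type*} [Field K'] (ψ : K' →+* LaurentSeries F) (y : K') :
    valOf ψ y = Valued.v (ψ y) := rfl

end Deg

section Ext

variable {k : Type u} {k' : Type u'} {K : Type v} {K' : Type v'} [Field k] [Field k'] [Field K]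
    [Field K'] [Algebra k k'] [Algebra k K] [Algebra K K'] [Algebra k' K'] [Algebra k K']
    [IsScalarTower k k' K'] [IsScalarTower k K K'] {F : Type w} [Field F] [Algebra k F]

theorem exists_ext_hom
    (h : Function.Bijective (Algebra.TensorProduct.productMap
      (IsScalarTower.toAlgHom k k' K') (IsScalarTower.toAlgHom k K K')))
    (φ : K →ₐ[k] LaurentSeries F) (j : k' →ₐ[k] F) :
    ∃ ψ : K' →ₐ[k] LaurentSeries F, (∀ x, ψ (algebraMap K K' x) = φ x) ∧
      ∀ c, ψ (algebraMap k' K' c) = HahnSeries.C (j c) := by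
  let e : (k' ⊗[k] K) ≃ₐ[k] K' := AlgEquiv.ofBijective _ h
  let ψ₀ : k' ⊗[k] K →ₐ[k] LaurentSeries F :=
    Algebra.TensorProduct.productMap ((CAlg k F).comp j) φ
  have he1 : ∀ x : K, e.symm (algebraMap K K' x) = (1 : k') ⊗ₜ[k] x := fun x => by
    rw [AlgEquiv.symm_apply_eq]
    show algebraMap K K' x = Algebra.TensorProduct.productMap (IsScalarTower.toAlgHom k k' K')
      (IsScalarTower.toAlgHom k K K') ((1 : k') ⊗ₜ[k] x)
    rw [Algebra.TensorProduct.productMap_apply_tmul, map_one, one_mul]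
    rfl
  have he2 : ∀ c : k', e.symm (algebraMap k' K' c) = c ⊗ₜ[k] (1 : K) := fun c => by
    rw [AlgEquiv.symm_apply_eq]
    show algebraMap k' K' c = Algebra.TensorProduct.productMap (IsScalarTower.toAlgHom k k' K')
      (IsScalarTower.toAlgHom k K K') (c ⊗ₜ[k] (1 : K))
    rw [Algebra.TensorProduct.productMap_apply_tmul, map_one, mul_one]
    rfl
  refine ⟨ψ₀.comp (e.symm : K' →ₐ[k] k' ⊗[k] K), fun x => ?_, fun c => ?_⟩
  · show ψ₀ (e.symm (algebraMap K K' x)) = φ x
    rw [he1, Algebra.TensorProduct.productMap_apply_tmul, map_one, one_mul]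
  · show ψ₀ (e.symm (algebraMap k' K' c)) = HahnSeries.C (j c)
    rw [he2, Algebra.TensorProduct.productMap_apply_tmul, map_one, mul_one]
    rfl

end Ext

section StepA

variable {k : Type u} {K : Type v} [Field k] [Field K] [Algebra k K]
  {F : Type w} [Field F] [Algebra k F]

theorem exists_algebraMap_eq_of_pow_char (hK : IsFunctionField k K) (hg : IsGeometric k K)
    [FiniteDimensional k F] (P : Place k K) (φ : K →ₐ[k] LaurentSeries F)
    (hφ : LocRes.IsExpansionAt P.1 φ) (p : ℕ) [hp : Fact p.Prime] [CharP k p]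
    (α : F) (a : k) (hα : α ^ p = algebraMap k F a) : ∃ c : k, algebraMap k F c = α := by
  classical
  by_contra hne
  push Not at hne
  haveI : CharP F p := charP_of_injective_algebraMap (algebraMap k F).injective p
  haveI : CharP K p := charP_of_injective_algebraMap (algebraMap k K).injective p
  have h1 : ∀ b : k, b ^ p ≠ a := by
    intro b hb
    apply hne b
    apply frobenius_inj F p
    show (algebraMap k F b) ^ p = α ^ p
    rw [hα, ← map_pow, hb]
  have hirr : Irreducible (X ^ p - C a : k[X]) := X_pow_sub_C_irreducible_of_prime hp.out h1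
  haveI : Fact (Irreducible (X ^ p - C a : k[X])) := ⟨hirr⟩
  have hne0 : (X ^ p - C a : k[X]) ≠ 0 := hirr.ne_zero
  let k' := AdjoinRoot (X ^ p - C a : k[X])
  haveI : FiniteDimensional k k' := (AdjoinRoot.powerBasis hne0).finite
  have hrank : Module.finrank k k' = p := by
    rw [(AdjoinRoot.powerBasis hne0).finrank, AdjoinRoot.powerBasis_dim, natDegree_X_pow_sub_C]
  have hev : (X ^ p - C a : k[X]).eval₂ ((Algebra.ofId k F : k →ₐ[k] F) : k →+* F) α = 0 := by
    rw [eval₂_sub, eval₂_pow, eval₂_X, eval₂_C, hα]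
    exact sub_self _
  let j : k' →ₐ[k] F := AdjoinRoot.liftAlgHom _ (Algebra.ofId k F) α hev
  haveI : CharP k' p := charP_of_injective_algebraMap (algebraMap k k').injective p
  have hroot : (AdjoinRoot.root (X ^ p - C a : k[X])) ^ p = algebraMap k k' a := by
    have := AdjoinRoot.eval₂_root (X ^ p - C a : k[X])
    rw [eval₂_sub, eval₂_pow, eval₂_X, eval₂_C, sub_eq_zero] at this
    rw [AdjoinRoot.algebraMap_eq]
    exact this
  let S : Subalgebra k k' :=
    { carrier := {c | ∃ d : k, c ^ p = algebraMap k k' d}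
      mul_mem' := by
        rintro x y ⟨d, hd⟩ ⟨d', hd'⟩
        exact ⟨d * d', by rw [mul_pow, hd, hd', map_mul]⟩
      add_mem' := by
        rintro x y ⟨d, hd⟩ ⟨d', hd'⟩
        exact ⟨d + d', by rw [add_pow_char x y p, hd, hd', map_add]⟩
      algebraMap_mem' := fun d => ⟨d ^ p, by rw [← map_pow]⟩ }
  have hS : S = ⊤ := by
    rw [eq_top_iff, ← AdjoinRoot.adjoinRoot_eq_top]
    exact Algebra.adjoin_le (by rintro _ rfl; exact ⟨a, hroot⟩)
  have hk'p : ∀ c : k', ∃ d : k, c ^ p = algebraMap k k' d := fun c => by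
    have : c ∈ S := by rw [hS]; exact Algebra.mem_top
    exact this
  obtain ⟨K', iF, iA, iA', iA'', iT, iT', h⟩ := exists_constExt hg k'
  haveI : FiniteDimensional K K' := finiteDimensional_constExt h
  have hrank' : Module.finrank K K' = p := by rw [finrank_constExt h, hrank]
  obtain ⟨ψ, hψK, hψk'⟩ := exists_ext_hom h φ j
  haveI : CharP K' p := charP_of_injective_algebraMap (algebraMap k K').injective p
  have hpow : ∀ y : K', ∃ z : K, y ^ p = algebraMap K K' z := by
    intro y
    obtain ⟨τ, rfl⟩ := h.2 y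
    induction τ using TensorProduct.induction_on with
    | zero => exact ⟨0, by rw [map_zero, map_zero, zero_pow hp.out.ne_zero]⟩
    | tmul c x =>
      obtain ⟨d, hd⟩ := hk'p c
      refine ⟨algebraMap k K d * x ^ p, ?_⟩
      rw [Algebra.TensorProduct.productMap_apply_tmul, mul_pow]
      show (algebraMap k' K' c) ^ p * (algebraMap K K' x) ^ p = _
      rw [← map_pow, hd, ← map_pow, map_mul, ← IsScalarTower.algebraMap_apply k k' K',
        ← IsScalarTower.algebraMap_apply k K K']
    | add τ₁ τ₂ h₁ h₂ =>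
      obtain ⟨z₁, hz₁⟩ := h₁
      obtain ⟨z₂, hz₂⟩ := h₂
      exact ⟨z₁ + z₂, by rw [map_add, add_pow_char _ _ p, hz₁, hz₂, map_add]⟩
  have hvK : ∀ x : K, valOf (ψ : K' →+* LaurentSeries F) (algebraMap K K' x) = P.1 x :=
    fun x => by
      rw [valOf_apply]
      show Valued.v (ψ (algebraMap K K' x)) = _
      rw [hψK, hφ.1]
  let Q : Place k K' := ⟨valOf (ψ : K' →+* LaurentSeries F), fun c => by
      rw [IsScalarTower.algebraMap_apply k K K', hvK]; exact P.2.1 c,
    fun γ => by obtain ⟨x, hx⟩ := P.2.2 γ; exact ⟨algebraMap K K' x, by rw [hvK, hx]⟩⟩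
  have hQP : IsOverWith Q P 1 := fun x => by rw [pow_one]; exact hvK x
  have huniq : ∀ Q' : Place k K', IsOver Q' P → Q' = Q := by
    rintro Q' ⟨e, he⟩
    have he0 : 0 < e := he.pos
    apply Place.eq_of_forall_le_one
    intro y hy
    obtain ⟨z, hz⟩ := hpow y
    have h1 : Q'.1 (y ^ p) ≤ 1 := by rw [map_pow]; exact pow_le_one' hy p
    rw [hz, he z] at h1
    have h2 : P.1 z ≤ 1 := (pow_le_one_iff he0.ne').mp h1
    have h3 : Q.1 (y ^ p) ≤ 1 := by
      rw [hz]
      show valOf _ _ ≤ 1
      rw [hvK]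
      exact h2
    rw [map_pow] at h3
    exact (pow_le_one_iff hp.out.ne_zero).mp h3
  have hψexp : LocRes.IsExpansionAt Q.1 ψ := by
    refine ⟨fun y => rfl, fun b => ?_, ?_⟩
    · obtain ⟨f, hf, hb⟩ := hφ.2.1 b
      refine ⟨algebraMap K K' f, ?_, ?_⟩
      · show valOf _ _ ≤ 1
        rw [hvK]; exact hf
      · rw [hψK]; exact hb
    · obtain ⟨t, ht⟩ := hφ.2.2
      exact ⟨algebraMap K K' t, by show valOf _ _ = _; rw [hvK]; exact ht⟩
  have hdegP : P.deg = Module.finrank k F := Place.deg_eq_of_isExpansionAt P φ hφ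
  have hdegQ : Q.deg = Module.finrank k F := Place.deg_eq_of_isExpansionAt Q ψ hψexp
  have hsum := sum_ramIdx_mul_deg hK P {Q} (fun Q' => by
    rw [Finset.mem_singleton]
    exact ⟨fun h => h ▸ ⟨1, hQP⟩, huniq Q'⟩)
  rw [Finset.sum_singleton, ramIdx_eq hQP, one_mul, hrank', hdegQ, hdegP] at hsum
  have hpos : 0 < Module.finrank k F := Module.finrank_pos
  have := hp.out.two_le
  nlinarith

end StepA

section StepB

variable {k : Type u} {K : Type v} [Field k] [Field K] [Algebra k K]
  {F : Type w} [Field F] [Algebra k F]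

theorem isSeparable_of_isExpansionAt (hK : IsFunctionField k K) (hg : IsGeometric k K)
    [FiniteDimensional k F] (P : Place k K) (φ : K →ₐ[k] LaurentSeries F)
    (hφ : LocRes.IsExpansionAt P.1 φ) : Algebra.IsSeparable k F := by
  classical
  obtain ⟨p, hchar⟩ := CharP.exists k
  rcases CharP.char_is_prime_or_zero k p with hp | hp0
  swap
  · subst hp0
    haveI : CharZero k := CharP.charP_to_charZero k
    exact Algebra.IsSeparable.of_integral k F
  haveI : Fact p.Prime := ⟨hp⟩
  by_contra hns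
  rw [Algebra.isSeparable_def] at hns
  push Not at hns
  obtain ⟨α, hα⟩ := hns
  have hint : IsIntegral k α := Algebra.IsIntegral.isIntegral α
  have hirr : Irreducible (minpoly k α) := minpoly.irreducible hint
  obtain hsep | ⟨-, g, hgirr, hgm⟩ := Polynomial.separable_or p hirr
  · exact hα hsep
  haveI : Fact (Irreducible g) := ⟨hgirr⟩
  have hg0 : g ≠ 0 := hgirr.ne_zero
  let k₁ := AdjoinRoot g
  haveI : FiniteDimensional k k₁ := (AdjoinRoot.powerBasis hg0).finite
  have hrank : Module.finrank k k₁ = g.natDegree := by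
    rw [(AdjoinRoot.powerBasis hg0).finrank, AdjoinRoot.powerBasis_dim]
  have hdeg : (minpoly k α).natDegree = g.natDegree * p := by
    rw [← hgm, natDegree_expand]
  have hev : g.eval₂ ((Algebra.ofId k F : k →ₐ[k] F) : k →+* F) (α ^ p) = 0 := by
    have h1 := minpoly.aeval k α
    rw [← hgm, expand_aeval] at h1
    exact h1
  let j : k₁ →ₐ[k] F := AdjoinRoot.liftAlgHom _ (Algebra.ofId k F) (α ^ p) hev
  letI : Algebra k₁ F := j.toRingHom.toAlgebra
  haveI : IsScalarTower k k₁ F := IsScalarTower.of_algebraMap_eq (fun c => (j.commutes c).symm)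
  haveI : FiniteDimensional k₁ F := FiniteDimensional.right k k₁ F
  haveI : CharP k₁ p := charP_of_injective_algebraMap (algebraMap k k₁).injective p
  obtain ⟨K₁, iF, iA, iA', iA'', iT, iT', h⟩ := exists_constExt hg k₁
  have hK₁ : IsFunctionField k₁ K₁ := isFunctionField_scalar_ext h hK hg
  have hg₁ : IsGeometric k₁ K₁ := isGeometric_scalar_ext h hg
  obtain ⟨ψ, hψK, hψk'⟩ := exists_ext_hom h φ j
  let ψ₁ : K₁ →ₐ[k₁] LaurentSeries F :=
    { (ψ : K₁ →+* LaurentSeries F) with
      commutes' := fun c => (hψk' c).trans (algebraMap_laurent (k := k₁) (F := F) c).symm }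
  have hvK : ∀ x : K, valOf (ψ : K₁ →+* LaurentSeries F) (algebraMap K K₁ x) = P.1 x :=
    fun x => by
      rw [valOf_apply]
      show Valued.v (ψ (algebraMap K K₁ x)) = _
      rw [hψK, hφ.1]
  let Q : Place k₁ K₁ := ⟨valOf (ψ : K₁ →+* LaurentSeries F), fun c => by
      rw [valOf_apply]
      show Valued.v (ψ (algebraMap k₁ K₁ c)) ≤ 1
      rw [hψk']; exact val_C_le_one _,
    fun γ => by obtain ⟨x, hx⟩ := P.2.2 γ; exact ⟨algebraMap K K₁ x, by rw [hvK, hx]⟩⟩
  have hψexp : LocRes.IsExpansionAt Q.1 ψ₁ := by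
    refine ⟨fun y => rfl, fun b => ?_, ?_⟩
    · obtain ⟨f, hf, hb⟩ := hφ.2.1 b
      refine ⟨algebraMap K K₁ f, ?_, ?_⟩
      · show valOf _ _ ≤ 1
        rw [hvK]; exact hf
      · show (ψ (algebraMap K K₁ f)).coeff 0 = b
        rw [hψK]; exact hb
    · obtain ⟨t, ht⟩ := hφ.2.2
      exact ⟨algebraMap K K₁ t, by show valOf _ _ = _; rw [hvK]; exact ht⟩
  have hαp : α ^ p = algebraMap k₁ F (AdjoinRoot.root g) :=
    (AdjoinRoot.liftAlgHom_root g (Algebra.ofId k F) (α ^ p) hev).symm
  obtain ⟨c, hc⟩ := exists_algebraMap_eq_of_pow_char hK₁ hg₁ Q ψ₁ hψexp p α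
    (AdjoinRoot.root g) hαp
  have hc' : j c = α := hc
  have h1 : minpoly k (j c) = minpoly k c := minpoly.algHom_eq j j.injective c
  have h2 : (minpoly k c).natDegree ≤ Module.finrank k k₁ := minpoly.natDegree_le c
  rw [← h1, hc', hdeg, hrank] at h2
  have h3 : 0 < g.natDegree := hgirr.natDegree_pos
  have := hp.two_le
  nlinarith

theorem exists_trace_ne_zero_of_isExpansionAt (hK : IsFunctionField k K) (hg : IsGeometric k K)
    [FiniteDimensional k F] (P : Place k K) (φ : K →ₐ[k] LaurentSeries F)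
    (hφ : LocRes.IsExpansionAt P.1 φ) : ∃ c : F, Algebra.trace k F c ≠ 0 := by
  haveI := isSeparable_of_isExpansionAt hK hg P φ hφ
  obtain ⟨c, hc⟩ := Algebra.trace_surjective k F 1
  exact ⟨c, by rw [hc]; exact one_ne_zero⟩

end StepB

end FunFld
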