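import Mathlib
import Groth.Agent.Lib.FunFldHasseH_helper2
import Groth.Agent.Lib.TateSep_helper2

/-! Existence of Laurent expansions at the places of a function field over an algebraically closed
field, by Taylor expansion with Hasse derivatives (helper2). -/

open WithZero

namespace FunFld

open TateRes

section Expansion

variable {k K : Type*} [Field k] [IsAlgClosed k] [Field K] [Algebra k K]

/-- The residue field of a place is the constant field. -/
noncomputable def reskEquiv (hK : IsFunctionField k K) (P : Place k K) :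
    k ≃+* IsLocalRing.ResidueField P.O :=
  RingEquiv.ofBijective (resk P) ⟨resk_injective P, resk_surjective P hK⟩

theorem reskEquiv_apply (hK : IsFunctionField k K) (P : Place k K) (c : k) :
    reskEquiv hK P c = resk P c := rfl

/-- Taylor expansion on the valuation ring. -/
noncomputable def taylorO (hK : IsFunctionField k K) (P : Place k K) {t : K}
    (ht : P.1 t = exp (-1 : ℤ)) {Ht : K →ₐ[k] PowerSeries K}
    (hHt : LocRes.IsHasseFamily t Ht) : P.O →+* PowerSeries k where
  toFun f := PowerSeries.mk fun j =>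
    (reskEquiv hK P).symm (evalP P (LocRes.hasseD Ht j (f : K)))
  map_one' := by
    ext j
    rw [PowerSeries.coeff_mk, PowerSeries.coeff_one]
    have h1 : ((1 : P.O) : K) = algebraMap k K 1 := by rw [map_one]; rfl
    rw [h1, hasseD_algebraMap, map_one]
    split_ifs with hj
    · rw [evalP_one, map_one]
    · rw [evalP_zero, map_zero]
  map_mul' f g := by
    ext n
    rw [PowerSeries.coeff_mk, PowerSeries.coeff_mul]
    simp only [PowerSeries.coeff_mk]
    have hf : P.1 (f : K) ≤ 1 := (mem_O_iff P _).mp f.2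
    have hg : P.1 (g : K) ≤ 1 := (mem_O_iff P _).mp g.2
    have h1 : ((f * g : P.O) : K) = (f : K) * (g : K) := rfl
    rw [h1, hasseD_mul, (evalP_sum P _ _ (fun p _ => by
      rw [map_mul]
      exact mul_le_one' (val_hasseD_le_one hK P ht hHt _ _ hf)
        (val_hasseD_le_one hK P ht hHt _ _ hg))).2, map_sum]
    refine Finset.sum_congr rfl (fun p _ => ?_)
    rw [evalP_mul P (val_hasseD_le_one hK P ht hHt _ _ hf)
      (val_hasseD_le_one hK P ht hHt _ _ hg), map_mul]
  map_zero' := by
    ext j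
    rw [PowerSeries.coeff_mk, map_zero]
    have h1 : ((0 : P.O) : K) = algebraMap k K 0 := by rw [map_zero]; rfl
    rw [h1, hasseD_algebraMap, map_zero, ite_self, evalP_zero, map_zero]
  map_add' f g := by
    ext j
    rw [PowerSeries.coeff_mk, map_add, PowerSeries.coeff_mk, PowerSeries.coeff_mk]
    have hf : P.1 (f : K) ≤ 1 := (mem_O_iff P _).mp f.2
    have hg : P.1 (g : K) ≤ 1 := (mem_O_iff P _).mp g.2
    have h1 : ((f + g : P.O) : K) = (f : K) + (g : K) := rfl
    rw [h1, hasseD_add, evalP_add P (val_hasseD_le_one hK P ht hHt _ _ hf)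
      (val_hasseD_le_one hK P ht hHt _ _ hg), map_add]

variable (hK : IsFunctionField k K) (P : Place k K) {t : K} (ht : P.1 t = exp (-1 : ℤ))
  {Ht : K →ₐ[k] PowerSeries K} (hHt : LocRes.IsHasseFamily t Ht)

theorem coeff_taylorO (f : P.O) (j : ℕ) :
    PowerSeries.coeff j (taylorO hK P ht hHt f) =
      (reskEquiv hK P).symm (evalP P (LocRes.hasseD Ht j (f : K))) := by
  simp only [taylorO, RingHom.coe_mk, MonoidHom.coe_mk, OneHom.coe_mk, PowerSeries.coeff_mk]

theorem taylorO_algebraMap (c : k) :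
    taylorO hK P ht hHt (algebraMap k P.O c) = PowerSeries.C c := by
  ext j
  rw [coeff_taylorO, PowerSeries.coeff_C]
  have h1 : ((algebraMap k P.O c : P.O) : K) = algebraMap k K c := rfl
  rw [h1, hasseD_algebraMap]
  split_ifs with hj
  · rw [← resk_apply, ← reskEquiv_apply hK, RingEquiv.symm_apply_apply]
  · rw [evalP_zero, map_zero]

theorem taylorO_uniformizer :
    taylorO hK P ht hHt ⟨t, (mem_O_iff P _).mpr (by rw [ht, ← exp_zero, exp_le_exp]; norm_num)⟩ =
      PowerSeries.X := by
  ext j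
  rw [coeff_taylorO, PowerSeries.coeff_X]
  show (reskEquiv hK P).symm (evalP P (LocRes.hasseD Ht j t)) = _
  have h2 : LocRes.hasseD Ht j t = if j = 0 then t else if j = 1 then 1 else 0 := by
    rw [LocRes.hasseD_apply, hHt.1, map_add, PowerSeries.coeff_C, PowerSeries.coeff_X]
    by_cases h0 : j = 0
    · rw [if_pos h0, if_pos h0, if_neg (by omega), add_zero]
    · rw [if_neg h0, if_neg h0, zero_add]
  rw [h2]
  by_cases h0 : j = 0
  · rw [if_pos h0, if_neg (by omega)]
    have hlt : P.1 t < 1 := by rw [ht, ← exp_zero, exp_lt_exp]; norm_num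
    rw [(evalP_eq_zero_iff P hlt.le).mpr hlt, map_zero]
  · rw [if_neg h0]
    by_cases h1 : j = 1
    · rw [if_pos h1, if_pos h1, evalP_one, map_one]
    · rw [if_neg h1, if_neg h1, evalP_zero, map_zero]

theorem constantCoeff_taylorO_ne_zero (f : P.O) (hf : P.1 (f : K) = 1) :
    PowerSeries.constantCoeff (taylorO hK P ht hHt f) ≠ 0 := by
  rw [← PowerSeries.coeff_zero_eq_constantCoeff_apply, coeff_taylorO, hasseD_zero_apply hHt]
  intro h0
  have h1 : evalP P (f : K) = 0 := by
    have := congrArg (reskEquiv hK P) h0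
    rwa [RingEquiv.apply_symm_apply, map_zero] at this
  exact (evalP_ne_zero_iff P hf.le).mpr hf h1

omit [IsAlgClosed k] [Field K] [Algebra k K] in
theorem val_coe_eq_one (p : PowerSeries k) (h : PowerSeries.constantCoeff p ≠ 0) :
    Valued.v ((p : PowerSeries k) : LaurentSeries k) = 1 := by
  have h0 : Ord 0 ((p : PowerSeries k) : LaurentSeries k) := fun i hi => by
    rw [PowerSeries.coeff_coe, if_pos hi]
  have h1 : ¬ Ord 1 ((p : PowerSeries k) : LaurentSeries k) := by
    intro h1
    have h2 := h1 0 (by norm_num)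
    rw [PowerSeries.coeff_coe, if_neg (by norm_num)] at h2
    exact h (by rw [← PowerSeries.coeff_zero_eq_constantCoeff_apply]; exact h2)
  rw [ord_iff, neg_zero, exp_zero] at h0
  rw [ord_iff] at h1
  rcases lt_or_eq_of_le h0 with hlt | heq
  · exact absurd (le_exp_neg_one_of_lt_one hlt) h1
  · exact heq

/-- The Taylor expansion into Laurent series, on the valuation ring. -/
noncomputable def taylorL : P.O →+* LaurentSeries k :=
  (HahnSeries.ofPowerSeries ℤ k).comp (taylorO hK P ht hHt)

theorem val_taylorL (f : P.O) : Valued.v (taylorL hK P ht hHt f) = P.1 (f : K) := by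
  by_cases hf0 : f = 0
  · rw [hf0, map_zero, map_zero]
    show (0 : ℤᵐ⁰) = P.1 (0 : K)
    rw [map_zero]
  have hfK : (f : K) ≠ 0 := fun h => hf0 (Subtype.ext h)
  have hf1 : P.1 (f : K) ≤ 1 := (mem_O_iff P _).mp f.2
  have ht0 : t ≠ 0 := uniformizer_ne_zero P ht
  have hord : 0 ≤ P.ord (f : K) := by
    have := (P.val_le_exp_iff hfK 0).mp (by rw [exp_zero]; exact hf1)
    omega
  obtain ⟨m, hm⟩ : ∃ m : ℕ, (m : ℤ) = P.ord (f : K) := ⟨(P.ord (f : K)).toNat, Int.toNat_of_nonneg hord⟩
  have hvf : P.1 (f : K) = exp (-(m : ℤ)) := by rw [P.val_eq_exp_neg_ord hfK, hm]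
  have hvt : P.1 (t ^ m) = exp (-(m : ℤ)) := by
    rw [map_pow, ht, ← exp_nsmul, nsmul_eq_mul, mul_neg, mul_one]
  let tO : P.O := ⟨t, (mem_O_iff P _).mpr (by rw [ht, ← exp_zero, exp_le_exp]; norm_num)⟩
  have hu1 : P.1 ((f : K) * (t ^ m)⁻¹) = 1 := by
    rw [map_mul, map_inv₀, hvf, hvt]
    exact mul_inv_cancel₀ exp_ne_zero
  let u : P.O := ⟨(f : K) * (t ^ m)⁻¹, (mem_O_iff P _).mpr hu1.le⟩
  have hfu : f = tO ^ m * u := by
    apply Subtype.ext
    show (f : K) = t ^ m * ((f : K) * (t ^ m)⁻¹)
    field_simp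
  have hX : taylorL hK P ht hHt tO = ((PowerSeries.X : PowerSeries k) : LaurentSeries k) := by
    show HahnSeries.ofPowerSeries ℤ k (taylorO hK P ht hHt tO) = _
    rw [taylorO_uniformizer hK P ht hHt]
  have hU : Valued.v (taylorL hK P ht hHt u) = 1 :=
    val_coe_eq_one _ (constantCoeff_taylorO_ne_zero hK P ht hHt u hu1)
  rw [hfu, map_mul, map_pow, map_mul, hX, hU, mul_one, LaurentSeries.valuation_X_pow]
  show _ = P.1 (t ^ m * ((f : K) * (t ^ m)⁻¹))
  rw [map_mul, hu1, mul_one, hvt]

theorem taylorL_injective : Function.Injective (taylorL hK P ht hHt) := by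
  rw [injective_iff_map_eq_zero]
  intro f hf
  have h1 := val_taylorL hK P ht hHt f
  rw [hf, map_zero] at h1
  apply Subtype.ext
  exact (P.1.zero_iff).mp h1.symm

/-- The Laurent expansion at `P` in the local parameter `t`. -/
noncomputable def expandAt : K →ₐ[k] LaurentSeries k :=
  { IsFractionRing.lift (taylorL_injective hK P ht hHt) with
    commutes' := fun c => by
      have h1 : algebraMap k K c = algebraMap P.O K (algebraMap k P.O c) := rfl
      show IsFractionRing.lift (taylorL_injective hK P ht hHt) (algebraMap k K c) = _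
      rw [h1, IsFractionRing.lift_algebraMap]
      show HahnSeries.ofPowerSeries ℤ k (taylorO hK P ht hHt (algebraMap k P.O c)) = _
      rw [taylorO_algebraMap, HahnSeries.ofPowerSeries_C, algebraMap_laurent]
      rfl }

theorem expandAt_coe (f : P.O) : expandAt hK P ht hHt (f : K) = taylorL hK P ht hHt f :=
  IsFractionRing.lift_algebraMap (taylorL_injective hK P ht hHt) f

theorem val_expandAt (z : K) : Valued.v (expandAt hK P ht hHt z) = P.1 z := by
  by_cases hz : P.1 z ≤ 1
  · have := expandAt_coe hK P ht hHt ⟨z, (mem_O_iff P _).mpr hz⟩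
    rw [show ((⟨z, (mem_O_iff P _).mpr hz⟩ : P.O) : K) = z from rfl] at this
    rw [this, val_taylorL]
  · have hz0 : z ≠ 0 := by
      rintro rfl
      exact hz (by rw [map_zero]; exact zero_le)
    have hz' : P.1 z⁻¹ ≤ 1 := by
      rw [map_inv₀]
      exact inv_le_one_of_one_le₀ (le_of_lt (not_le.mp hz))
    have := expandAt_coe hK P ht hHt ⟨z⁻¹, (mem_O_iff P _).mpr hz'⟩
    rw [show ((⟨z⁻¹, (mem_O_iff P _).mpr hz'⟩ : P.O) : K) = z⁻¹ from rfl] at this
    have h2 : Valued.v (expandAt hK P ht hHt z⁻¹) = P.1 z⁻¹ := by rw [this, val_taylorL]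
    rw [map_inv₀, map_inv₀, map_inv₀] at h2
    exact inv_injective h2

theorem isExpansionAt_expandAt : LocRes.IsExpansionAt P.1 (expandAt hK P ht hHt) := by
  refine ⟨val_expandAt hK P ht hHt, fun a => ⟨algebraMap k K a, P.2.1 a, ?_⟩, ⟨t, ht⟩⟩
  rw [AlgHom.commutes, algebraMap_laurent]
  show (HahnSeries.C (algebraMap k k a)).coeff 0 = a
  rw [HahnSeries.C_apply, HahnSeries.coeff_single_same]
  rfl

include hK in
theorem exists_expansion {s : K} {H : K →ₐ[k] PowerSeries K} (hH : LocRes.IsHasseFamily s H)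
    (P : Place k K) : ∃ Φ : K →ₐ[k] LaurentSeries k, LocRes.IsExpansionAt P.1 Φ := by
  obtain ⟨t, ht⟩ := P.exists_uniformizer
  have hb := hasseD_one_uniformizer_ne_zero hK hH P ht
  obtain ⟨Ht, hHt⟩ := exists_hasseFamily hH hb
  exact ⟨expandAt hK P ht hHt, isExpansionAt_expandAt hK P ht hHt⟩

end Expansion

end FunFld
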