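import Mathlib
import Groth.Prelude.Def_LocRes
import Groth.Agent.Lib.FunFldGeomC_helper2

set_option autoImplicit false

namespace FunFld

open IntermediateField

section HasseEx

variable {k K : Type*} [Field k] [Field K] [Algebra k K]

/-- The `k`-algebra map `k[X] → K⟦T⟧`, `X ↦ s + T`. -/
noncomputable def hasseBase₀ (s : K) : Polynomial k →ₐ[k] PowerSeries K :=
  Polynomial.aeval (PowerSeries.C s + PowerSeries.X)

theorem constantCoeff_hasseBase₀ (s : K) (p : Polynomial k) :
    PowerSeries.constantCoeff (hasseBase₀ (k := k) s p) = Polynomial.aeval s p := by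
  unfold hasseBase₀
  rw [Polynomial.aeval_def, Polynomial.aeval_def, Polynomial.hom_eval₂]
  have h1 : (PowerSeries.constantCoeff (R := K)).comp (algebraMap k (PowerSeries K)) =
      algebraMap k K := by
    refine RingHom.ext fun c => ?_
    simp [PowerSeries.algebraMap_apply]
  have h2 : PowerSeries.constantCoeff (PowerSeries.C s + PowerSeries.X : PowerSeries K) = s := by
    simp
  rw [h1, h2]

theorem isUnit_hasseBase₀ (s : K) (hs : Transcendental k s)
    (y : nonZeroDivisors (Polynomial k)) :
    IsUnit ((hasseBase₀ (k := k) s).toRingHom y) := by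
  show IsUnit (hasseBase₀ (k := k) s y)
  rw [PowerSeries.isUnit_iff_constantCoeff, constantCoeff_hasseBase₀, isUnit_iff_ne_zero]
  intro h0
  exact hs ⟨y, nonZeroDivisors.coe_ne_zero y, h0⟩

/-- The extension to `k(X)`. -/
noncomputable def hasseBase₁ (s : K) (hs : Transcendental k s) : RatFunc k →+* PowerSeries K :=
  IsLocalization.lift (M := nonZeroDivisors (Polynomial k))
    (g := (hasseBase₀ (k := k) s).toRingHom) (isUnit_hasseBase₀ s hs)

theorem hasseBase₁_algebraMap (s : K) (hs : Transcendental k s) (p : Polynomial k) :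
    hasseBase₁ s hs (algebraMap (Polynomial k) (RatFunc k) p) = hasseBase₀ s p :=
  IsLocalization.lift_eq _ p

theorem constantCoeff_hasseBase₁ (s : K) (hs : Transcendental k s) (u : RatFunc k) :
    PowerSeries.constantCoeff (hasseBase₁ s hs u) =
      ((RatFunc.algEquivOfTranscendental s hs u : k⟮s⟯) : K) := by
  have h : (PowerSeries.constantCoeff.comp (hasseBase₁ s hs) : RatFunc k →+* K) =
      ((algebraMap k⟮s⟯ K).comp
        (RatFunc.algEquivOfTranscendental s hs).toAlgHom.toRingHom) := by
    apply IsLocalization.ringHom_ext (nonZeroDivisors (Polynomial k))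
    refine RingHom.ext fun p => ?_
    show PowerSeries.constantCoeff (hasseBase₁ s hs (algebraMap _ _ p)) =
      algebraMap k⟮s⟯ K (RatFunc.algEquivOfTranscendental s hs (algebraMap _ _ p))
    rw [hasseBase₁_algebraMap, constantCoeff_hasseBase₀,
      RatFunc.algEquivOfTranscendental_algebraMap,
      ← Polynomial.aeval_algebraMap_apply, AdjoinSimple.algebraMap_gen]
  exact RingHom.congr_fun h u

/-- A synonym of `K⟦X⟧` carrying no algebra structures. -/
def PS (K : Type*) [Field K] : Type _ := PowerSeries K

noncomputable instance instCommRingPS : CommRing (PS K) :=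
  inferInstanceAs (CommRing (PowerSeries K))

/-- identity into the synonym -/
noncomputable def toPS : PowerSeries K →+* PS K := RingHom.id _

/-- identity out of the synonym -/
noncomputable def ofPS : PS K →+* PowerSeries K := RingHom.id _

@[simp] theorem ofPS_toPS (x : PowerSeries K) : ofPS (toPS x) = x := rfl

@[simp] theorem toPS_ofPS (x : PS K) : toPS (ofPS x) = x := rfl

instance instAdicPS :
    IsAdicComplete (Ideal.span {toPS (PowerSeries.X : PowerSeries K)}) (PS K) :=
  inferInstanceAs
    (IsAdicComplete (Ideal.span {(PowerSeries.X : PowerSeries K)}) (PowerSeries K))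

/-- **Existence of the total Hasse derivative** with respect to a separating element. -/
theorem exists_hasseFamily_of_isSeparable (s : K) (hs : Transcendental k s)
    [Algebra.IsSeparable k⟮s⟯ K] :
    ∃ H : K →ₐ[k] PowerSeries K, LocRes.IsHasseFamily s H := by
  classical
  let e := RatFunc.algEquivOfTranscendental s hs
  let h₀ : k⟮s⟯ →+* PowerSeries K := (hasseBase₁ s hs).comp e.symm.toAlgHom.toRingHom
  have hcc : ∀ z : k⟮s⟯, PowerSeries.constantCoeff (h₀ z) = (z : K) := by
    intro z
    show PowerSeries.constantCoeff (hasseBase₁ s hs (e.symm z)) = _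
    rw [constantCoeff_hasseBase₁]
    show ((e (e.symm z) : k⟮s⟯) : K) = z
    rw [AlgEquiv.apply_symm_apply]
  have hgen : h₀ (AdjoinSimple.gen k s) = PowerSeries.C s + PowerSeries.X := by
    show hasseBase₁ s hs (e.symm (AdjoinSimple.gen k s)) = _
    rw [RatFunc.algEquivOfTranscendental_symm_gen, ← RatFunc.algebraMap_X, hasseBase₁_algebraMap]
    simp [hasseBase₀]
  have hk : ∀ c : k, h₀ (algebraMap k k⟮s⟯ c) = PowerSeries.C (algebraMap k K c) := by
    intro c
    show hasseBase₁ s hs (e.symm (algebraMap k k⟮s⟯ c)) = _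
    rw [AlgEquiv.commutes, IsScalarTower.algebraMap_apply k (Polynomial k) (RatFunc k) c,
      hasseBase₁_algebraMap, AlgHom.commutes, PowerSeries.algebraMap_apply]
  let h₀' : k⟮s⟯ →+* PS K := toPS.comp h₀
  letI : Algebra k⟮s⟯ (PS K) := h₀'.toAlgebra
  haveI : Algebra.FormallyEtale k⟮s⟯ K := Algebra.FormallyEtale.of_isSeparable k⟮s⟯ K
  let I : Ideal (PS K) := Ideal.span {toPS (PowerSeries.X : PowerSeries K)}
  haveI : IsAdicComplete I (PS K) := instAdicPS
  let f : K →ₐ[k⟮s⟯] PS K ⧸ I :=
    { toRingHom := (Ideal.Quotient.mk I).comp (toPS.comp (PowerSeries.C : K →+* PowerSeries K))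
      commutes' := by
        intro z
        show Ideal.Quotient.mk I (toPS (PowerSeries.C (z : K))) = Ideal.Quotient.mk I (h₀' z)
        rw [Ideal.Quotient.eq, Ideal.mem_span_singleton]
        have h1 : (PowerSeries.X : PowerSeries K) ∣ PowerSeries.C (z : K) - h₀ z := by
          rw [PowerSeries.X_dvd_iff, map_sub, hcc]
          simp
        have h2 := map_dvd (toPS (K := K)) h1
        rw [map_sub] at h2
        exact h2 }
  obtain ⟨g, hg⟩ := Algebra.FormallySmooth.exists_mkₐ_comp_eq_of_isAdicComplete (I := I) f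
  have hgc : ∀ y : K, PowerSeries.constantCoeff (ofPS (g y)) = y := by
    intro y
    have h1 : Ideal.Quotient.mk I (g y) = Ideal.Quotient.mk I (toPS (PowerSeries.C y)) :=
      AlgHom.congr_fun hg y
    rw [Ideal.Quotient.eq, Ideal.mem_span_singleton] at h1
    have h2 := map_dvd (ofPS (K := K)) h1
    rw [map_sub, ofPS_toPS, ofPS_toPS, PowerSeries.X_dvd_iff, map_sub,
      PowerSeries.constantCoeff_C, sub_eq_zero] at h2
    exact h2
  have hgE : ∀ z : k⟮s⟯, g (z : K) = h₀' z := fun z => g.commutes z
  refine ⟨{ toRingHom := ofPS.comp g.toRingHom, commutes' := fun c => ?_ }, ?_, ?_⟩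
  · show ofPS (g (algebraMap k K c)) = algebraMap k (PowerSeries K) c
    have h3 : g (algebraMap k K c) = h₀' (algebraMap k k⟮s⟯ c) := hgE (algebraMap k k⟮s⟯ c)
    rw [h3]
    show ofPS (toPS (h₀ _)) = _
    rw [ofPS_toPS, hk, PowerSeries.algebraMap_apply]
  · show ofPS (g s) = _
    have h3 : g s = h₀' (AdjoinSimple.gen k s) := hgE (AdjoinSimple.gen k s)
    rw [h3]
    show ofPS (toPS (h₀ _)) = _
    rw [ofPS_toPS, hgen]
  · intro y
    exact hgc y

/-- Existence of a total Hasse derivative for a function field over a perfect field. -/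
theorem exists_hasseFamily_of_isFunctionField [PerfectField k] (hK : IsFunctionField k K) :
    ∃ (s : K) (H : K →ₐ[k] PowerSeries K), Transcendental k s ∧
      Algebra.IsSeparable k⟮s⟯ K ∧ LocRes.IsHasseFamily s H := by
  obtain ⟨s, hs, hsep⟩ := exists_separating hK (isGeometric_of_perfectField hK)
  haveI := hsep
  obtain ⟨H, hH⟩ := exists_hasseFamily_of_isSeparable s hs
  exact ⟨s, H, hs, hsep, hH⟩

end HasseEx

end FunFld
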