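import Mathlib
import Groth.Agent.Lib.FunFldZetaC_helper2

/-! Zeta function, part D (helper2): F. K. Schmidt's theorem — over a finite constant field the
degree map on divisors is surjective. -/

open WithZero Module Polynomial TensorProduct

namespace FunFld

universe u u' v v'

section Tools

theorem exists_finite_ext (k : Type u) [Field k] [Finite k] (n : ℕ) (hn : 0 < n) :
    ∃ (k' : Type u) (_ : Field k') (_ : Algebra k k') (_ : FiniteDimensional k k'),
      Module.finrank k k' = n := by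
  obtain ⟨p, hp⟩ := CharP.exists k
  haveI := hp
  haveI : Fact p.Prime := ⟨CharP.char_is_prime k p⟩
  haveI : NeZero n := ⟨hn.ne'⟩
  refine ⟨ULift.{u} (FiniteField.Extension k p n), inferInstance, inferInstance, ?_, ?_⟩
  · exact Module.Finite.equiv (ULift.moduleEquiv (R := k) (M := FiniteField.Extension k p n)).symm
  · rw [LinearEquiv.finrank_eq (ULift.moduleEquiv (R := k) (M := FiniteField.Extension k p n)),
      FiniteField.finrank_extension]

variable {k K : Type*} [Field k] [Field K] [Algebra k K]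

theorem deg_zsmul (n : ℤ) (D : Divisor k K) : Divisor.deg (n • D) = n * Divisor.deg D := by
  simp only [deg_eq_degAddHomH, map_zsmul, smul_eq_mul]

theorem exists_min_deg (hK : IsFunctionField k K) :
    ∃ δ : ℕ, 0 < δ ∧ (∃ D : Divisor k K, D.deg = δ) ∧ ∀ D : Divisor k K, (δ : ℤ) ∣ D.deg := by
  classical
  obtain ⟨P⟩ := exists_place hK
  have hex : ∃ n : ℕ, 0 < n ∧ ∃ D : Divisor k K, D.deg = n :=
    ⟨P.deg, Place.deg_pos hK P, Finsupp.single P 1, by rw [deg_single, one_mul]⟩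
  obtain ⟨hpos, D₀, hD₀⟩ := Nat.find_spec hex
  refine ⟨Nat.find hex, hpos, ⟨D₀, hD₀⟩, fun D => ?_⟩
  obtain ⟨δ, hδ⟩ : ∃ δ, δ = Nat.find hex := ⟨_, rfl⟩
  rw [← hδ] at hpos hD₀ ⊢
  by_contra hnd
  have hδ0 : (δ : ℤ) ≠ 0 := by exact_mod_cast hpos.ne'
  have hr : 0 < D.deg % (δ : ℤ) := by
    rcases (Int.emod_nonneg D.deg hδ0).eq_or_lt with h | h
    · exact absurd (Int.dvd_of_emod_eq_zero h.symm) hnd
    · exact h
  have hlt : D.deg % (δ : ℤ) < δ := Int.emod_lt_of_pos _ (by exact_mod_cast hpos)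
  have hmem : 0 < (D.deg % (δ : ℤ)).toNat ∧
      ∃ D' : Divisor k K, D'.deg = ((D.deg % (δ : ℤ)).toNat : ℤ) := by
    refine ⟨by omega, D - (D.deg / δ) • D₀, ?_⟩
    rw [deg_sub, deg_zsmul, hD₀, Int.toNat_of_nonneg hr.le, Int.emod_def]
    ring
  have hmin : (D.deg % (δ : ℤ)).toNat < Nat.find hex := by
    rw [← hδ]
    omega
  exact Nat.find_min hex hmin hmem

end Tools

section Bounds

variable {k K : Type*} [Field k] [Field K] [Algebra k K] [Finite k]

theorem pow_le_effDivCount (hK : IsFunctionField k K) {m : ℕ} (hm1 : 2 * genus k K ≤ m + 1)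
    (hmg : genus k K ≤ m) (hex : ∃ D : Divisor k K, D.deg = m) :
    Nat.card k ^ (m - genus k K) ≤ effDivCount k K m := by
  have h := ((finite_classGroup_and_effDivCount_eq hK).2 m hm1).1 hex
  have hh : (1 : ℤ) ≤ classNum k K := by exact_mod_cast classNum_pos hK
  have hq : (2 : ℤ) ≤ Nat.card k := by exact_mod_cast (Finite.one_lt_card : 1 < Nat.card k)
  have he : m + 1 - genus k K = (m - genus k K) + 1 := by omega
  rw [he, pow_succ] at h
  have hB : (1 : ℤ) ≤ (Nat.card k : ℤ) ^ (m - genus k K) := one_le_pow₀ (by linarith)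
  have hBq : (0 : ℤ) ≤ (Nat.card k : ℤ) ^ (m - genus k K) * (Nat.card k : ℤ) - 1 := by nlinarith
  have h1 : (Nat.card k : ℤ) ^ (m - genus k K) * (Nat.card k : ℤ) - 1 ≤
      (classNum k K : ℤ) * ((Nat.card k : ℤ) ^ (m - genus k K) * (Nat.card k : ℤ) - 1) :=
    le_mul_of_one_le_left hBq hh
  have hgoal : ((Nat.card k ^ (m - genus k K) : ℕ) : ℤ) ≤ (effDivCount k K m : ℤ) := by
    push_cast
    by_contra hlt
    push Not at hlt
    have h2 : ((Nat.card k : ℤ) - 1) * (effDivCount k K m : ℤ) ≤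
        ((Nat.card k : ℤ) - 1) * ((Nat.card k : ℤ) ^ (m - genus k K) - 1) :=
      mul_le_mul_of_nonneg_left (by linarith) (by linarith)
    nlinarith
  exact_mod_cast hgoal

theorem effDivCount_le (hK : IsFunctionField k K) {N : ℕ} (hN : 2 * genus k K ≤ N + 1) :
    effDivCount k K N ≤ classNum k K * Nat.card k ^ (N + 1) := by
  by_cases hex : ∃ D : Divisor k K, D.deg = N
  · have h := ((finite_classGroup_and_effDivCount_eq hK).2 N hN).1 hex
    have hh : (1 : ℤ) ≤ classNum k K := by exact_mod_cast classNum_pos hK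
    have hq : (2 : ℤ) ≤ Nat.card k := by exact_mod_cast (Finite.one_lt_card : 1 < Nat.card k)
    have hpow : (Nat.card k : ℤ) ^ (N + 1 - genus k K) ≤ (Nat.card k : ℤ) ^ (N + 1) :=
      pow_le_pow_right₀ (by linarith) (by omega)
    have ha : (0 : ℤ) ≤ effDivCount k K N := Int.natCast_nonneg _
    have hgoal : (effDivCount k K N : ℤ) ≤ ((classNum k K * Nat.card k ^ (N + 1) : ℕ) : ℤ) := by
      push_cast
      nlinarith
    exact_mod_cast hgoal
  · rw [((finite_classGroup_and_effDivCount_eq hK).2 N hN).2 hex]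
    exact Nat.zero_le _

end Bounds

section Inject

variable {k K k' K' : Type*} [Field k] [Field K] [Algebra k K] [Finite k]
    [Field k'] [Field K'] [Algebra k' K'] [Finite k']

theorem mapDomain_nonneg {f : Place k K → Place k' K'} (hf : Function.Injective f)
    {D : Divisor k K} (hD : 0 ≤ D) : (0 : Divisor k' K') ≤ Finsupp.mapDomain f D := by
  intro b
  by_cases hb : b ∈ Set.range f
  · obtain ⟨a, rfl⟩ := hb
    rw [Finsupp.mapDomain_apply hf]
    exact hD a
  · rw [Finsupp.mapDomain_of_notMem_range _ _ hb]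
    exact le_rfl

theorem deg_mapDomain {δ : ℕ} {f : Place k K → Place k' K'}
    (hd : ∀ P, δ * (f P).deg = P.deg) (D : Divisor k K) :
    (δ : ℤ) * Divisor.deg (Finsupp.mapDomain f D) = Divisor.deg D := by
  unfold Divisor.deg
  rw [Finsupp.sum_mapDomain_index (fun _ => zero_mul _) (fun _ _ _ => add_mul _ _ _),
    Finsupp.mul_sum]
  refine Finsupp.sum_congr (fun P _ => ?_)
  rw [← hd P]
  push_cast
  ring

theorem sum_mul_le_effDivCount (hK : IsFunctionField k K) (hK' : IsFunctionField k' K')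
    {δ : ℕ} (hδ : 0 < δ) (Q₁ Q₂ : Place k K → Place k' K') (hinj₁ : Function.Injective Q₁)
    (hinj₂ : Function.Injective Q₂) (hdisj : ∀ P P', Q₁ P ≠ Q₂ P')
    (hd₁ : ∀ P, δ * (Q₁ P).deg = P.deg) (hd₂ : ∀ P, δ * (Q₂ P).deg = P.deg) (N : ℕ) :
    ∑ j ∈ Finset.range (N + 1), effDivCount k K (δ * j) * effDivCount k K (δ * (N - j)) ≤
      effDivCount k' K' N := by
  classical
  haveI := finite_effective_deg' hK' N
  haveI : ∀ m : ℕ, Finite {D : Divisor k K // 0 ≤ D ∧ D.deg = (m : ℤ)} :=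
    fun m => finite_effective_deg' hK m
  have hδ0 : (δ : ℤ) ≠ 0 := by exact_mod_cast hδ.ne'
  have hnot₁ : ∀ P, Q₁ P ∉ Set.range Q₂ := fun P ⟨P', hP'⟩ => hdisj P P' hP'.symm
  have hnot₂ : ∀ P, Q₂ P ∉ Set.range Q₁ := fun P ⟨P', hP'⟩ => hdisj P' P hP'
  have hleft : ∀ (D₁ D₂ : Divisor k K) (P : Place k K),
      (Finsupp.mapDomain Q₁ D₁ + Finsupp.mapDomain Q₂ D₂ : Divisor k' K') (Q₁ P) = D₁ P := by
    intro D₁ D₂ P
    rw [Finsupp.add_apply, Finsupp.mapDomain_apply hinj₁, Finsupp.mapDomain_of_notMem_range _ _ (hnot₁ P),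
      add_zero]
  have hright : ∀ (D₁ D₂ : Divisor k K) (P : Place k K),
      (Finsupp.mapDomain Q₁ D₁ + Finsupp.mapDomain Q₂ D₂ : Divisor k' K') (Q₂ P) = D₂ P := by
    intro D₁ D₂ P
    rw [Finsupp.add_apply, Finsupp.mapDomain_apply hinj₂, Finsupp.mapDomain_of_notMem_range _ _ (hnot₂ P),
      zero_add]
  let Ψ : (Σ j : Fin (N + 1), {D : Divisor k K // 0 ≤ D ∧ D.deg = ((δ * (j : ℕ) : ℕ) : ℤ)} ×
      {D : Divisor k K // 0 ≤ D ∧ D.deg = ((δ * (N - (j : ℕ)) : ℕ) : ℤ)}) →
      {D : Divisor k' K' // 0 ≤ D ∧ D.deg = (N : ℤ)} := fun x =>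
    ⟨Finsupp.mapDomain Q₁ x.2.1.1 + Finsupp.mapDomain Q₂ x.2.2.1,
      add_nonneg (mapDomain_nonneg hinj₁ x.2.1.2.1) (mapDomain_nonneg hinj₂ x.2.2.2.1), by
      apply mul_left_cancel₀ hδ0
      rw [deg_add, mul_add, deg_mapDomain hd₁, deg_mapDomain hd₂, x.2.1.2.2, x.2.2.2.2]
      have := x.1.2
      push_cast [Nat.cast_sub (Nat.lt_succ_iff.mp this)]
      ring⟩
  have hΨ : Function.Injective Ψ := by
    rintro ⟨j, D₁, D₂⟩ ⟨j', D₁', D₂'⟩ hxy
    have hval : (Finsupp.mapDomain Q₁ D₁.1 + Finsupp.mapDomain Q₂ D₂.1 : Divisor k' K') =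
        Finsupp.mapDomain Q₁ D₁'.1 + Finsupp.mapDomain Q₂ D₂'.1 := congrArg Subtype.val hxy
    have h1 : D₁.1 = D₁'.1 := Finsupp.ext (fun P => by
      rw [← hleft D₁.1 D₂.1 P, hval, hleft])
    have h2 : D₂.1 = D₂'.1 := Finsupp.ext (fun P => by
      rw [← hright D₁.1 D₂.1 P, hval, hright])
    have hj : j = j' := by
      have e1 := D₁.2.2
      have e2 := D₁'.2.2
      rw [h1, e2] at e1
      have e3 : δ * (j' : ℕ) = δ * (j : ℕ) := by exact_mod_cast e1
      exact Fin.ext (Nat.eq_of_mul_eq_mul_left hδ e3).symm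
    subst hj
    rw [Sigma.mk.inj_iff]
    exact ⟨rfl, heq_of_eq (Prod.ext (Subtype.ext h1) (Subtype.ext h2))⟩
  have hle := Nat.card_le_card_of_injective Ψ hΨ
  rw [Nat.card_sigma] at hle
  simp only [Nat.card_prod] at hle
  rw [Fin.sum_univ_eq_sum_range (fun j => Nat.card {D : Divisor k K // 0 ≤ D ∧ D.deg = ((δ * j : ℕ) : ℤ)} *
    Nat.card {D : Divisor k K // 0 ≤ D ∧ D.deg = ((δ * (N - j) : ℕ) : ℤ)}) (N + 1)] at hle
  exact hle

end Inject

section Main

/-- S11035: F. K. Schmidt's theorem. -/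
theorem deg_surjective_of_finite {k : Type u} {K : Type v} [Field k] [Finite k] [Field K]
    [Algebra k K] (hK : IsFunctionField k K) :
    Function.Surjective (Divisor.deg : Divisor k K → ℤ) := by
  classical
  obtain ⟨δ, hδpos, ⟨D₀, hD₀⟩, hdvd⟩ := exists_min_deg hK
  rcases Nat.lt_or_ge δ 2 with hδ | hδ2
  · have hδ1 : δ = 1 := by omega
    intro m
    refine ⟨m • D₀, ?_⟩
    rw [deg_zsmul, hD₀, hδ1]
    simp
  exfalso
  obtain ⟨k', _, _, _, hn⟩ := exists_finite_ext k δ hδpos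
  have hg : IsGeometric k K := isGeometric_of_perfectField hK
  obtain ⟨K', _, _, _, _, _, _, h⟩ := exists_constExt hg k'
  have hK' : IsFunctionField k' K' := isFunctionField_scalar_ext h hK hg
  haveI : Finite k' := Module.finite_of_finite k
  haveI : Algebra.IsAlgebraic k k' := Algebra.IsAlgebraic.of_finite k k'
  haveI : FiniteDimensional K K' := finiteDimensional_constExt h
  have hcardk' : Nat.card k' = Nat.card k ^ δ := by
    rw [← hn]
    exact Module.natCard_eq_pow_finrank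
  -- two places above each place
  have htwo : ∀ P : Place k K, ∃ Q₁ Q₂ : Place k' K', Q₁ ≠ Q₂ ∧
      IsOver (Q₁.restrictScalars k) P ∧ IsOver (Q₂.restrictScalars k) P ∧
      δ * Q₁.deg = P.deg ∧ δ * Q₂.deg = P.deg := by
    intro P
    have hdP : δ ∣ P.deg := by
      have := hdvd (Finsupp.single P 1)
      rw [deg_single, one_mul] at this
      exact_mod_cast this
    have hfin := finite_isOver (K' := K') hK P
    have hcard := card_isOver h hK P hfin.toFinset (fun Q => hfin.mem_toFinset)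
    rw [hn, Nat.gcd_eq_right hdP] at hcard
    obtain ⟨a, ha, b, hb, hab⟩ := Finset.one_lt_card.mp (by omega : 1 < hfin.toFinset.card)
    rw [hfin.mem_toFinset] at ha hb
    have hdeg : ∀ Q : Place k K', IsOver Q P → δ * (Q.extendScalars k').deg = P.deg := by
      intro Q hQ
      have h1 := Place.deg_restrictScalars (k := k) (Q.extendScalars k')
      rw [Place.restrictScalars_extendScalars, hn, deg_eq_lcm_of_isOver h hK hQ, hn,
        Nat.lcm_eq_left hdP] at h1
      exact h1.symm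
    refine ⟨a.extendScalars k', b.extendScalars k', ?_, ?_, ?_, hdeg a ha, hdeg b hb⟩
    · intro hc
      apply hab
      have := congrArg (Place.restrictScalars k) hc
      rwa [Place.restrictScalars_extendScalars, Place.restrictScalars_extendScalars] at this
    · rw [Place.restrictScalars_extendScalars]
      exact ha
    · rw [Place.restrictScalars_extendScalars]
      exact hb
  choose Q₁ Q₂ hne hov₁ hov₂ hd₁ hd₂ using htwo
  have hinj₁ : Function.Injective Q₁ := fun P P' hPP => by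
    have := hov₁ P
    rw [hPP] at this
    exact IsOver.unique_below this (hov₁ P')
  have hinj₂ : Function.Injective Q₂ := fun P P' hPP => by
    have := hov₂ P
    rw [hPP] at this
    exact IsOver.unique_below this (hov₂ P')
  have hdisj : ∀ P P', Q₁ P ≠ Q₂ P' := fun P P' hPP => by
    have := hov₁ P
    rw [hPP] at this
    have hP : P = P' := IsOver.unique_below this (hov₂ P')
    subst hP
    exact hne P hPP
  -- the numbers
  obtain ⟨q, hq⟩ : ∃ q, q = Nat.card k := ⟨_, rfl⟩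
  obtain ⟨g, hg'⟩ : ∃ g, g = genus k K := ⟨_, rfl⟩
  obtain ⟨g', hg''⟩ : ∃ g', g' = genus k' K' := ⟨_, rfl⟩
  obtain ⟨h', hh'⟩ : ∃ h', h' = classNum k' K' := ⟨_, rfl⟩
  have hq2 : 2 ≤ q := hq ▸ (Finite.one_lt_card : 1 < Nat.card k)
  obtain ⟨N, hNdef⟩ : ∃ N, N = 4 * g + h' * q ^ (2 * g + δ) + 2 * g' := ⟨_, rfl⟩
  have hmain := sum_mul_le_effDivCount hK hK' hδpos Q₁ Q₂ hinj₁ hinj₂ hdisj hd₁ hd₂ N
  have hupper := effDivCount_le hK' (N := N) (by rw [← hg'']; omega)
  rw [hcardk', ← hq, ← hh', ← pow_mul] at hupper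
  -- lower bound on the terms
  have hterm : ∀ j ∈ Finset.Icc (2 * g) (N - 2 * g),
      q ^ (δ * N - 2 * g) ≤ effDivCount k K (δ * j) * effDivCount k K (δ * (N - j)) := by
    intro j hj
    rw [Finset.mem_Icc] at hj
    have hjN : j ≤ N := by omega
    have h2j : 2 * j ≤ δ * j := Nat.mul_le_mul_right j hδ2
    have h2j' : 2 * (N - j) ≤ δ * (N - j) := Nat.mul_le_mul_right (N - j) hδ2
    have e1 := pow_le_effDivCount hK (m := δ * j) (by rw [← hg']; omega) (by rw [← hg']; omega)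
      ⟨j • D₀, by rw [deg_nsmul, hD₀]; push_cast; ring⟩
    have e2 := pow_le_effDivCount hK (m := δ * (N - j)) (by rw [← hg']; omega)
      (by rw [← hg']; omega) ⟨(N - j) • D₀, by rw [deg_nsmul, hD₀]; push_cast; ring⟩
    rw [← hq, ← hg'] at e1 e2
    have e3 : δ * N - 2 * g = (δ * j - g) + (δ * (N - j) - g) := by
      have : δ * N = δ * j + δ * (N - j) := by rw [← Nat.mul_add]; congr 1; omega
      omega
    rw [e3, pow_add]
    exact Nat.mul_le_mul e1 e2
  have hsub : Finset.Icc (2 * g) (N - 2 * g) ⊆ Finset.range (N + 1) := fun j hj => by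
    rw [Finset.mem_Icc] at hj
    rw [Finset.mem_range]
    omega
  have hlow : (N - 2 * g + 1 - 2 * g) * q ^ (δ * N - 2 * g) ≤
      ∑ j ∈ Finset.range (N + 1), effDivCount k K (δ * j) * effDivCount k K (δ * (N - j)) := by
    refine le_trans ?_ (Finset.sum_le_sum_of_subset hsub)
    have := Finset.card_nsmul_le_sum (Finset.Icc (2 * g) (N - 2 * g))
      (fun j => effDivCount k K (δ * j) * effDivCount k K (δ * (N - j))) _ hterm
    rwa [Nat.card_Icc, smul_eq_mul] at this
  have hall := hlow.trans (hmain.trans hupper)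
  -- contradiction
  have hNN : 2 * g ≤ δ * N := by
    have : 2 * N ≤ δ * N := Nat.mul_le_mul_right N hδ2
    omega
  have e4 : δ * (N + 1) = (δ * N - 2 * g) + (2 * g + δ) := by
    rw [Nat.mul_succ]
    omega
  rw [e4, pow_add] at hall
  have hBpos : 0 < q ^ (δ * N - 2 * g) := Nat.pos_of_ne_zero (pow_ne_zero _ (by omega))
  have hall' : (N - 2 * g + 1 - 2 * g) * q ^ (δ * N - 2 * g) ≤
      (h' * q ^ (2 * g + δ)) * q ^ (δ * N - 2 * g) := by
    calc (N - 2 * g + 1 - 2 * g) * q ^ (δ * N - 2 * g)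
        ≤ h' * (q ^ (δ * N - 2 * g) * q ^ (2 * g + δ)) := hall
      _ = (h' * q ^ (2 * g + δ)) * q ^ (δ * N - 2 * g) := by ring
  have hfin' := Nat.le_of_mul_le_mul_right hall' hBpos
  omega

end Main

end FunFld
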