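import Mathlib
import Groth.Agent.Lib.FunFldZetaA_helper2

/-! Zeta function, part E (helper2): logarithmic derivative calculus for power series and the
recursion `n a(n) = ∑ N_m a(n-m)` (the Euler product in disguise). -/

open PowerSeries

namespace FunFld

section Theta

variable {R : Type*} [CommRing R]

/-- The Euler operator `t d/dt` on power series. -/
noncomputable def theta (f : R⟦X⟧) : R⟦X⟧ := PowerSeries.mk fun n => (n : R) * coeff n f

theorem coeff_theta (n : ℕ) (f : R⟦X⟧) : coeff n (theta f) = (n : R) * coeff n f :=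
  coeff_mk _ _

theorem theta_sub (f g : R⟦X⟧) : theta (f - g) = theta f - theta g := by
  ext n
  rw [map_sub, coeff_theta, coeff_theta, coeff_theta, map_sub, mul_sub]

theorem theta_one : theta (1 : R⟦X⟧) = 0 := by
  ext n
  rw [coeff_theta, coeff_one, map_zero]
  split_ifs with h
  · rw [h, Nat.cast_zero, zero_mul]
  · rw [mul_zero]

theorem theta_mul (f g : R⟦X⟧) : theta (f * g) = theta f * g + f * theta g := by
  ext n
  rw [coeff_theta, map_add, coeff_mul, coeff_mul, coeff_mul, Finset.mul_sum,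
    ← Finset.sum_add_distrib]
  refine Finset.sum_congr rfl (fun p hp => ?_)
  rw [coeff_theta, coeff_theta]
  have h : (n : R) = p.1 + p.2 := by
    rw [← Finset.HasAntidiagonal.mem_antidiagonal.mp hp]
    push_cast
    ring
  rw [h]
  ring

theorem theta_map {S : Type*} [CommRing S] (φ : R →+* S) (f : R⟦X⟧) :
    theta (PowerSeries.map φ f) = PowerSeries.map φ (theta f) := by
  ext n
  rw [coeff_theta, coeff_map, coeff_map, coeff_theta, map_mul, map_natCast]

/-- `N` is the logarithmic derivative `t f'/f` of `f`. -/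
def LD (f N : R⟦X⟧) : Prop := theta f = f * N

theorem LD.mul {f g M N : R⟦X⟧} (hf : LD f M) (hg : LD g N) : LD (f * g) (M + N) := by
  unfold LD at *
  rw [theta_mul, hf, hg]
  ring

theorem LD.sub {f f' N : R⟦X⟧} (hf : LD f N) (hf' : LD f' N) : LD (f - f') N := by
  unfold LD at *
  rw [theta_sub, hf, hf']
  ring

theorem LD_one : LD (1 : R⟦X⟧) 0 := by
  unfold LD
  rw [theta_one, mul_zero]

theorem LD.of_mul [IsDomain R] {f g M N : R⟦X⟧} (hfg : LD (f * g) M) (hg : LD g N)
    (hg0 : g ≠ 0) : LD f (M - N) := by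
  unfold LD at *
  rw [theta_mul, hg] at hfg
  apply mul_right_cancel₀ hg0
  linear_combination hfg

theorem LD.cancel [IsDomain R] {f N N' : R⟦X⟧} (h1 : LD f N) (h2 : LD f N') (hf : f ≠ 0) :
    N = N' :=
  mul_left_cancel₀ hf (h1.symm.trans h2)

/-- `∑_{m ≥ 1} β^m t^m`. -/
noncomputable def Gser (β : R) : R⟦X⟧ := PowerSeries.mk fun m => if m = 0 then 0 else β ^ m

theorem coeff_Gser (β : R) (m : ℕ) : coeff m (Gser β) = if m = 0 then 0 else β ^ m :=
  coeff_mk _ _

theorem one_sub_mul_Gser (β : R) : (1 - C β * X) * Gser β = C β * X := by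
  ext n
  rw [sub_mul, one_mul, map_sub, mul_assoc, coeff_C_mul, coeff_C_mul, coeff_Gser]
  cases n with
  | zero => simp
  | succ m =>
    rw [coeff_succ_X_mul, coeff_Gser, coeff_X, if_neg (Nat.succ_ne_zero m)]
    by_cases hm : m = 0
    · subst hm
      simp
    · rw [if_neg hm, if_neg (by omega), pow_succ]
      ring

theorem theta_one_sub (β : R) : theta (1 - C β * X : R⟦X⟧) = -(C β * X) := by
  ext n
  rw [coeff_theta, map_sub, map_neg, coeff_one, coeff_C_mul, coeff_X]
  by_cases h0 : n = 0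
  · subst h0
    simp
  · rw [if_neg h0]
    by_cases h1 : n = 1
    · subst h1
      simp
    · rw [if_neg h1]
      simp

theorem LD_one_sub (β : R) : LD (1 - C β * X : R⟦X⟧) (-Gser β) := by
  unfold LD
  rw [theta_one_sub, mul_neg, one_sub_mul_Gser]

theorem LD_prod {ι : Type*} (s : Finset ι) (β : ι → R) :
    LD (∏ i ∈ s, (1 - C (β i) * X : R⟦X⟧)) (-∑ i ∈ s, Gser (β i)) := by
  classical
  induction s using Finset.induction_on with
  | empty =>
    rw [Finset.prod_empty, Finset.sum_empty, neg_zero]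
    exact LD_one
  | insert a s ha ih =>
    rw [Finset.prod_insert ha, Finset.sum_insert ha, neg_add]
    exact (LD_one_sub (β a)).mul ih

theorem LD.eq_zero {g N : ℂ⟦X⟧} (h : LD g N) (hN : coeff 0 N = 0) (hg : coeff 0 g = 0) :
    g = 0 := by
  ext n
  induction n using Nat.strong_induction_on with
  | _ n ih =>
    rcases Nat.eq_zero_or_pos n with rfl | hn
    · rw [hg, map_zero]
    · have h1 := congrArg (coeff n) h
      rw [coeff_theta, coeff_mul] at h1
      have h2 : ∑ p ∈ Finset.HasAntidiagonal.antidiagonal n, coeff p.1 g * coeff p.2 N = 0 := by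
        refine Finset.sum_eq_zero (fun p hp => ?_)
        rw [Finset.HasAntidiagonal.mem_antidiagonal] at hp
        by_cases hp1 : p.1 < n
        · rw [ih p.1 hp1, map_zero, zero_mul]
        · have : p.2 = 0 := by omega
          rw [this, hN, mul_zero]
      rw [h2] at h1
      have hn0 : (n : ℂ) ≠ 0 := by exact_mod_cast hn.ne'
      rw [map_zero]
      exact (mul_eq_zero.mp h1).resolve_left hn0

theorem LD.unique {f f' N : ℂ⟦X⟧} (h1 : LD f N) (h2 : LD f' N) (hN : coeff 0 N = 0)
    (h0 : coeff 0 f = coeff 0 f') : f = f' :=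
  sub_eq_zero.mp (LD.eq_zero (h1.sub h2) hN (by rw [map_sub, h0, sub_self]))

end Theta

section Recursion

variable {k K : Type*} [Field k] [Field K] [Algebra k K] [Finite k]

/-- The finset of effective divisors of degree `n`. -/
noncomputable def effFinset (hK : IsFunctionField k K) (n : ℕ) : Finset (Divisor k K) :=
  (finite_effective_deg hK n).toFinset

theorem mem_effFinset (hK : IsFunctionField k K) {n : ℕ} {D : Divisor k K} :
    D ∈ effFinset hK n ↔ 0 ≤ D ∧ D.deg = n :=
  Set.Finite.mem_toFinset _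

theorem card_effFinset (hK : IsFunctionField k K) (n : ℕ) :
    (effFinset hK n).card = effDivCount k K n := by
  unfold effDivCount effFinset
  rw [← Set.ncard_eq_toFinset_card _ (finite_effective_deg hK n), ← Nat.card_coe_set_eq]
  rfl

/-- The finset of places of degree at most `n`. -/
noncomputable def placesLE (hK : IsFunctionField k K) (n : ℕ) : Finset (Place k K) :=
  (finite_places_deg_le hK n).toFinset

theorem mem_placesLE (hK : IsFunctionField k K) {n : ℕ} {P : Place k K} :
    P ∈ placesLE hK n ↔ P.deg ≤ n :=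
  Set.Finite.mem_toFinset _

theorem deg_le_of_coeff_ne_zero (hK : IsFunctionField k K) {n : ℕ} {D : Divisor k K}
    (hD : D ∈ effFinset hK n) {P : Place k K} (hP : D P ≠ 0) : P.deg ≤ n := by
  rw [mem_effFinset] at hD
  have h0 : 0 ≤ D P := hD.1 P
  have h1 := coeff_mul_deg_le hD.1 P
  rw [hD.2] at h1
  have h2 : (1 : ℤ) ≤ D P := by omega
  have h3 : (P.deg : ℤ) ≤ D P * P.deg := by nlinarith
  have h4 : (P.deg : ℤ) ≤ n := le_trans h3 h1
  exact_mod_cast h4

/-- `c_P(n) = ∑_{D ≥ 0, deg D = n} D(P)`. -/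
noncomputable def cP (hK : IsFunctionField k K) (P : Place k K) (n : ℕ) : ℤ :=
  ∑ D ∈ effFinset hK n, D P

theorem cP_of_lt (hK : IsFunctionField k K) (P : Place k K) {n : ℕ} (h : n < P.deg) :
    cP hK P n = 0 := by
  unfold cP
  refine Finset.sum_eq_zero (fun D hD => ?_)
  by_contra hne
  have := deg_le_of_coeff_ne_zero hK hD hne
  omega

theorem cP_of_le (hK : IsFunctionField k K) (P : Place k K) {n : ℕ} (h : P.deg ≤ n) :
    cP hK P n = effDivCount k K (n - P.deg) + cP hK P (n - P.deg) := by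
  classical
  unfold cP
  rw [← card_effFinset hK, ← Finset.sum_filter_of_ne (p := fun D : Divisor k K => 1 ≤ D P)
    (fun D hD hne => by
      have h0 : 0 ≤ D P := ((mem_effFinset hK).mp hD).1 P
      omega)]
  have hcast : ((n - P.deg : ℕ) : ℤ) = (n : ℤ) - P.deg := by
    rw [Nat.cast_sub h]
  rw [Finset.sum_nbij' (t := effFinset hK (n - P.deg)) (g := fun D' => D' P + 1)
    (fun D => D - Finsupp.single P 1) (fun D' => D' + Finsupp.single P 1)]
  · rw [Finset.sum_add_distrib, Finset.sum_const, nsmul_eq_mul, mul_one, add_comm]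
  · intro D hD
    rw [Finset.mem_filter, mem_effFinset] at hD
    rw [mem_effFinset]
    refine ⟨fun Q => ?_, ?_⟩
    · rw [Finsupp.coe_zero, Pi.zero_apply, Finsupp.sub_apply]
      by_cases hQ : P = Q
      · subst hQ
        rw [single_apply_self]
        have := hD.2
        omega
      · rw [single_apply_ne hQ, sub_zero]
        exact hD.1.1 Q
    · rw [deg_sub, deg_single, hD.1.2, hcast, one_mul]
  · intro D' hD'
    rw [mem_effFinset] at hD'
    rw [Finset.mem_filter, mem_effFinset]
    refine ⟨⟨add_nonneg hD'.1 (fun Q => single_apply_nonneg zero_le_one P Q), ?_⟩, ?_⟩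
    · rw [deg_add, deg_single, hD'.2, hcast, one_mul]
      ring
    · rw [Finsupp.add_apply, single_apply_self]
      have := hD'.1 P
      simp only [Finsupp.coe_zero, Pi.zero_apply] at this
      omega
  · intro D _
    exact sub_add_cancel _ _
  · intro D' _
    exact add_sub_cancel_right _ _
  · intro D _
    rw [Finsupp.sub_apply, single_apply_self]
    ring

theorem mul_effDivCount_eq_sum (hK : IsFunctionField k K) (n : ℕ) :
    (n : ℤ) * effDivCount k K n = ∑ P ∈ placesLE hK n, (P.deg : ℤ) * cP hK P n := by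
  classical
  unfold cP
  have h1 : ∑ D ∈ effFinset hK n, D.deg = (n : ℤ) * effDivCount k K n := by
    rw [Finset.sum_congr rfl (fun D hD => ((mem_effFinset hK).mp hD).2), Finset.sum_const,
      card_effFinset, nsmul_eq_mul, mul_comm]
  rw [← h1]
  have h2 : ∀ D ∈ effFinset hK n, D.deg = ∑ P ∈ placesLE hK n, D P * (P.deg : ℤ) := by
    intro D hD
    unfold Divisor.deg
    apply Finsupp.sum_of_support_subset
    · intro P hP
      rw [Finsupp.mem_support_iff] at hP
      rw [mem_placesLE]
      exact deg_le_of_coeff_ne_zero hK hD hP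
    · intro P _
      exact zero_mul _
  rw [Finset.sum_congr rfl h2, Finset.sum_comm]
  refine Finset.sum_congr rfl (fun P _ => ?_)
  rw [Finset.mul_sum]
  exact Finset.sum_congr rfl (fun D _ => mul_comm _ _)

/-- The generating series of `c_P`. -/
noncomputable def Cser (hK : IsFunctionField k K) (P : Place k K) : ℤ⟦X⟧ :=
  PowerSeries.mk fun n => cP hK P n

/-- `∑_{m ≥ 1, d ∣ m} t^m`. -/
noncomputable def Tser (d : ℕ) : ℤ⟦X⟧ :=
  PowerSeries.mk fun m => if 1 ≤ m ∧ d ∣ m then 1 else 0

theorem coeff_zetaZ' (n : ℕ) : coeff n (zetaZ k K) = (effDivCount k K n : ℤ) := by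
  unfold zetaZ
  rw [coeff_mk]

theorem Cser_mul (hK : IsFunctionField k K) (P : Place k K) :
    Cser hK P * (1 - X ^ P.deg) = X ^ P.deg * zetaZ k K := by
  ext n
  rw [mul_sub, mul_one, map_sub, mul_comm (Cser hK P), coeff_X_pow_mul', coeff_X_pow_mul']
  unfold Cser
  rw [coeff_mk, coeff_zetaZ']
  split_ifs with h
  · rw [coeff_mk, cP_of_le hK P h]
    ring
  · rw [cP_of_lt hK P (by omega), sub_zero]

theorem Tser_mul {d : ℕ} (hd : 0 < d) : Tser d * (1 - X ^ d) = X ^ d := by
  ext m
  rw [mul_sub, mul_one, map_sub, mul_comm (Tser d), coeff_X_pow_mul', coeff_X_pow]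
  unfold Tser
  rw [coeff_mk]
  rcases lt_trichotomy m d with h | h | h
  · rw [if_neg (by omega : ¬ d ≤ m), if_neg (by omega : ¬ m = d), sub_zero, if_neg]
    rintro ⟨h1, h2⟩
    have := Nat.le_of_dvd (by omega) h2
    omega
  · subst h
    rw [if_pos le_rfl, if_pos rfl, coeff_mk, Nat.sub_self, if_pos ⟨hd, dvd_rfl⟩,
      if_neg (by omega), sub_zero]
  · rw [if_pos h.le, if_neg (by omega : ¬ m = d), coeff_mk]
    have hiff : (1 ≤ m ∧ d ∣ m) ↔ (1 ≤ m - d ∧ d ∣ m - d) := by
      constructor
      · rintro ⟨_, ⟨c, hc⟩⟩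
        exact ⟨by omega, ⟨c - 1, by rw [Nat.mul_sub, mul_one, ← hc]⟩⟩
      · rintro ⟨_, ⟨c, hc⟩⟩
        exact ⟨by omega, ⟨c + 1, by rw [Nat.mul_succ, ← hc]; omega⟩⟩
    by_cases hc : 1 ≤ m ∧ d ∣ m
    · rw [if_pos hc, if_pos (hiff.mp hc), sub_self]
    · rw [if_neg hc, if_neg (fun h' => hc (hiff.mpr h')), sub_self]

theorem Cser_eq (hK : IsFunctionField k K) (P : Place k K) :
    Cser hK P = zetaZ k K * Tser P.deg := by
  have hd := Place.deg_pos hK P
  have hne : (1 - X ^ P.deg : ℤ⟦X⟧) ≠ 0 := by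
    intro h0
    have := congrArg (coeff 0) h0
    rw [map_sub, coeff_one, coeff_X_pow, if_pos rfl, if_neg (by omega), map_zero] at this
    omega
  apply mul_right_cancel₀ hne
  rw [Cser_mul, mul_assoc, Tser_mul hd, mul_comm]

/-- `N_m = ∑_{deg P ∣ m} deg P`. -/
noncomputable def Ncount (hK : IsFunctionField k K) (m : ℕ) : ℕ :=
  ∑ P ∈ (placesLE hK m).filter (fun P => P.deg ∣ m), P.deg

/-- The generating series of the `N_m`. -/
noncomputable def Nser (hK : IsFunctionField k K) : ℤ⟦X⟧ :=
  PowerSeries.mk fun m => (Ncount hK m : ℤ)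

theorem coeff_Nser_zero (hK : IsFunctionField k K) : coeff 0 (Nser hK) = 0 := by
  unfold Nser Ncount
  rw [coeff_mk]
  have : placesLE hK 0 = ∅ := by
    ext P
    rw [mem_placesLE]
    have := Place.deg_pos hK P
    simp only [Finset.notMem_empty, iff_false]
    omega
  rw [this]
  simp

theorem Ncount_eq (hK : IsFunctionField k K) {j n : ℕ} (hj : j ≤ n) :
    (Ncount hK j : ℤ) = ∑ P ∈ placesLE hK n, (P.deg : ℤ) * coeff j (Tser P.deg) := by
  classical
  unfold Ncount Tser
  simp only [coeff_mk]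
  have h1 : ∀ P ∈ placesLE hK n, (P.deg : ℤ) * (if 1 ≤ j ∧ P.deg ∣ j then (1 : ℤ) else 0) =
      if 1 ≤ j ∧ P.deg ∣ j then (P.deg : ℤ) else 0 := fun P _ => by
    split_ifs <;> simp
  rw [Finset.sum_congr rfl h1, ← Finset.sum_filter]
  push_cast
  refine Finset.sum_congr ?_ (fun _ _ => rfl)
  ext P
  simp only [Finset.mem_filter, mem_placesLE]
  constructor
  · rintro ⟨h2, h3⟩
    have hpos := Place.deg_pos hK P
    have hj1 : 1 ≤ j := by
      rcases Nat.eq_zero_or_pos j with rfl | h
      · omega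
      · exact h
    exact ⟨by omega, hj1, h3⟩
  · rintro ⟨_, h2, h3⟩
    exact ⟨Nat.le_of_dvd (by omega) h3, h3⟩

/-- The Euler product in logarithmic-derivative form. -/
theorem LD_zetaZ (hK : IsFunctionField k K) : LD (zetaZ k K) (Nser hK) := by
  unfold LD
  ext n
  rw [coeff_theta, coeff_zetaZ', coeff_mul]
  have h1 : ∀ p ∈ Finset.HasAntidiagonal.antidiagonal n, coeff p.1 (zetaZ k K) * coeff p.2 (Nser hK) =
      ∑ P ∈ placesLE hK n, (P.deg : ℤ) * (coeff p.1 (zetaZ k K) * coeff p.2 (Tser P.deg)) := by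
    intro p hp
    rw [Finset.HasAntidiagonal.mem_antidiagonal] at hp
    have : coeff p.2 (Nser hK) = (Ncount hK p.2 : ℤ) := coeff_mk _ _
    rw [this, Ncount_eq hK (by omega : p.2 ≤ n), Finset.mul_sum]
    exact Finset.sum_congr rfl (fun P _ => by ring)
  rw [Finset.sum_congr rfl h1, Finset.sum_comm]
  have h2 : ∀ P ∈ placesLE hK n, ∑ p ∈ Finset.HasAntidiagonal.antidiagonal n,
      (P.deg : ℤ) * (coeff p.1 (zetaZ k K) * coeff p.2 (Tser P.deg)) =
      (P.deg : ℤ) * cP hK P n := by
    intro P _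
    rw [← Finset.mul_sum, ← coeff_mul, ← Cser_eq hK P]
    unfold Cser
    rw [coeff_mk]
  rw [Finset.sum_congr rfl h2]
  exact mul_effDivCount_eq_sum hK n

end Recursion

end FunFld
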