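import Mathlib
import Groth.Agent.Lib.FunFldZetaE_helper2
import Groth.Agent.Lib.FunFldZetaD_helper2

/-! Zeta function, part G (helper2): the numerator of the zeta function under constant field
extension, and the number of rational places. -/

open PowerSeries Module TensorProduct

namespace FunFld

universe u u' v v'

section Formula

variable {k K : Type*} [Field k] [Field K] [Algebra k K] [Finite k]

theorem Ncount_zero (hK : IsFunctionField k K) : Ncount hK 0 = 0 := by
  have h := coeff_Nser_zero hK
  unfold Nser at h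
  rw [coeff_mk] at h
  exact_mod_cast h

theorem coe_prod_one_sub {ι : Type*} (s : Finset ι) (β : ι → ℂ) :
    ((∏ i ∈ s, (1 - Polynomial.C (β i) * Polynomial.X) : Polynomial ℂ) : PowerSeries ℂ) =
      ∏ i ∈ s, (1 - C (β i) * X : ℂ⟦X⟧) := by
  rw [← Polynomial.coeToPowerSeries.ringHom_apply, map_prod]
  refine Finset.prod_congr rfl (fun i _ => ?_)
  rw [Polynomial.coeToPowerSeries.ringHom_apply, Polynomial.coe_sub, Polynomial.coe_one,
    Polynomial.coe_mul, Polynomial.coe_C, Polynomial.coe_X]

theorem coeff_zero_prod_one_sub {ι : Type*} (s : Finset ι) (β : ι → ℂ) :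
    coeff 0 (∏ i ∈ s, (1 - C (β i) * X : ℂ⟦X⟧)) = 1 := by
  rw [coeff_zero_eq_constantCoeff_apply, map_prod]
  refine Finset.prod_eq_one (fun i _ => ?_)
  simp

theorem map_numerZ : PowerSeries.map (Int.castRingHom ℂ) (numerZ k K) =
    ((1 - C (1 : ℂ) * X) * (1 - C (Nat.card k : ℂ) * X)) *
      PowerSeries.map (Int.castRingHom ℂ) (zetaZ k K) := by
  unfold numerZ
  rw [map_mul, map_mul, map_sub, map_sub, map_one, map_mul, PowerSeries.map_X, PowerSeries.map_C,
    map_one, one_mul]
  simp

theorem LD_map_zetaZ (hK : IsFunctionField k K) :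
    LD (PowerSeries.map (Int.castRingHom ℂ) (zetaZ k K))
      (PowerSeries.map (Int.castRingHom ℂ) (Nser hK)) := by
  have h := LD_zetaZ hK
  unfold LD at h ⊢
  rw [theta_map, h, map_mul]

theorem LD_denominator (q : ℂ) :
    LD ((1 - C (1 : ℂ) * X) * (1 - C q * X) : ℂ⟦X⟧) (-Gser 1 + -Gser q) :=
  (LD_one_sub 1).mul (LD_one_sub q)

theorem denominator_ne_zero (q : ℂ) : ((1 - C (1 : ℂ) * X) * (1 - C q * X) : ℂ⟦X⟧) ≠ 0 := by
  intro h
  have := congrArg (coeff 0) h
  rw [coeff_zero_eq_constantCoeff_apply, map_mul] at this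
  simp at this

theorem coeff_zero_map_zetaZ (hK : IsFunctionField k K) :
    coeff 0 (PowerSeries.map (Int.castRingHom ℂ) (zetaZ k K)) = 1 := by
  rw [coeff_map, coeff_zetaZ', effDivCount_zero hK]
  simp

/-- `N_m = 1 + q^m - ∑ αᵢ^m`. -/
theorem Ncount_formula (hK : IsFunctionField k K) {ι : Type*} [Fintype ι] (α : ι → ℂ)
    (hα : PowerSeries.map (Int.castRingHom ℂ) (numerZ k K) =
      ((∏ i, (1 - Polynomial.C (α i) * Polynomial.X) : Polynomial ℂ) : PowerSeries ℂ))
    {m : ℕ} (hm : 1 ≤ m) :
    (Ncount hK m : ℂ) = 1 + (Nat.card k : ℂ) ^ m - ∑ i, α i ^ m := by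
  have hLD := LD_map_zetaZ hK
  rw [map_numerZ, coe_prod_one_sub] at hα
  have h1 : LD (PowerSeries.map (Int.castRingHom ℂ) (zetaZ k K) *
      ((1 - C (1 : ℂ) * X) * (1 - C (Nat.card k : ℂ) * X))) (-∑ i, Gser (α i)) := by
    rw [mul_comm, hα]
    exact LD_prod Finset.univ α
  have h2 := h1.of_mul (LD_denominator (Nat.card k : ℂ)) (denominator_ne_zero _)
  have hZ0 : PowerSeries.map (Int.castRingHom ℂ) (zetaZ k K) ≠ 0 := by
    intro h
    have := congrArg (coeff 0) h
    rw [coeff_zero_map_zetaZ hK, map_zero] at this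
    exact one_ne_zero this
  have h3 := hLD.cancel h2 hZ0
  have h4 := congrArg (coeff m) h3
  have hm0 : m ≠ 0 := by omega
  rw [coeff_map] at h4
  unfold Nser at h4
  rw [coeff_mk] at h4
  simp only [map_sub, map_neg, map_add, map_sum, coeff_Gser, if_neg hm0, one_pow] at h4
  rw [show ((Int.castRingHom ℂ) (Ncount hK m : ℤ)) = (Ncount hK m : ℂ) by simp] at h4
  rw [h4]
  ring

end Formula

section Bij

variable {k : Type u} {k' : Type u'} {K : Type v} {K' : Type v'} [Field k] [Field k'] [Field K]
    [Field K'] [Algebra k k'] [Algebra k K] [Algebra K K'] [Algebra k' K'] [Algebra k K']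
    [IsScalarTower k k' K'] [IsScalarTower k K K']

theorem bijective_of_isConstExt [FiniteDimensional k k'] (hce : IsConstExt k K k' K') :
    Function.Bijective (Algebra.TensorProduct.productMap
      (IsScalarTower.toAlgHom k k' K') (IsScalarTower.toAlgHom k K K')) := by
  have hpos : 0 < finrank K K' := by
    rw [hce.2.2]
    exact finrank_pos
  haveI : FiniteDimensional K K' := Module.finite_of_finrank_pos hpos
  have hsurj : Function.Surjective (prodRight k k' K K') := by
    intro y
    have hy : y ∈ Algebra.adjoin K (Set.range (algebraMap k' K')) := by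
      rw [hce.2.1]
      exact Algebra.mem_top
    induction hy using Algebra.adjoin_induction with
    | mem x hx =>
      obtain ⟨c, rfl⟩ := hx
      exact ⟨1 ⊗ₜ c, by rw [prodRight_tmul, map_one, one_mul]⟩
    | algebraMap x => exact ⟨x ⊗ₜ 1, by rw [prodRight_tmul, map_one, mul_one]⟩
    | add x y _ _ hx hy =>
      obtain ⟨a, rfl⟩ := hx
      obtain ⟨b, rfl⟩ := hy
      exact ⟨a + b, map_add _ _ _⟩
    | mul x y _ _ hx hy =>
      obtain ⟨a, rfl⟩ := hx
      obtain ⟨b, rfl⟩ := hy
      exact ⟨a * b, map_mul _ _ _⟩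
  have hdim : finrank K (K ⊗[k] k') = finrank K K' := by
    rw [Module.finrank_baseChange, hce.2.2]
  have hinj : Function.Injective (prodRight k k' K K') :=
    (LinearMap.injective_iff_surjective_of_finrank_eq_finrank hdim
      (f := (prodRight k k' K K').toLinearMap)).mpr hsurj
  have e : ∀ τ : k' ⊗[k] K, Algebra.TensorProduct.productMap
      (IsScalarTower.toAlgHom k k' K') (IsScalarTower.toAlgHom k K K') τ =
      prodRight k k' K K' (Algebra.TensorProduct.comm k k' K τ) := by
    intro τ
    induction τ using TensorProduct.induction_on with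
    | zero => simp
    | tmul a x =>
      rw [Algebra.TensorProduct.productMap_apply_tmul, Algebra.TensorProduct.comm_tmul,
        prodRight_tmul, mul_comm]
      rfl
    | add a b ha hb => rw [map_add, ha, hb, map_add, map_add]
  constructor
  · intro x y hxy
    rw [e, e] at hxy
    exact (Algebra.TensorProduct.comm k k' K).injective (hinj hxy)
  · intro y
    obtain ⟨τ, rfl⟩ := hsurj y
    exact ⟨(Algebra.TensorProduct.comm k k' K).symm τ, by rw [e, AlgEquiv.apply_symm_apply]⟩

variable [Finite k] [Finite k'] [FiniteDimensional k k']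

/-- Splitting of places in a constant field extension, in terms of the counts `N_m`. -/
theorem Ncount_constExt
    (h : Function.Bijective (Algebra.TensorProduct.productMap
      (IsScalarTower.toAlgHom k k' K') (IsScalarTower.toAlgHom k K K')))
    (hK : IsFunctionField k K) (hK' : IsFunctionField k' K') (m : ℕ) :
    Ncount hK' m = Ncount hK (m * finrank k k') := by
  classical
  rcases Nat.eq_zero_or_pos m with rfl | hm
  · rw [zero_mul, Ncount_zero, Ncount_zero]
  haveI : FiniteDimensional K K' := finiteDimensional_constExt h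
  haveI : Algebra.IsAlgebraic k k' := Algebra.IsAlgebraic.of_finite k k'
  haveI : Algebra.IsAlgebraic K K' := Algebra.IsAlgebraic.of_finite K K'
  obtain ⟨n, hn⟩ : ∃ n, n = finrank k k' := ⟨_, rfl⟩
  have hnpos : 0 < n := hn ▸ finrank_pos
  rw [← hn]
  have hbelow : ∀ Q' : Place k' K', ∃ P : Place k K, IsOver (Q'.restrictScalars k) P :=
    fun Q' => by
      obtain ⟨P, e, he⟩ := exists_isOverWith hK (Q'.restrictScalars k)
      exact ⟨P, e, he⟩
  choose below hbel using hbelow
  have hbelow_eq : ∀ Q' P, IsOver (Place.restrictScalars k Q') P → below Q' = P :=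
    fun Q' P hP => IsOver.unique_below (hbel Q') hP
  -- degrees: `gcd(d, n) * deg Q' = d`
  have hdeg : ∀ (Q' : Place k' K') (P : Place k K), IsOver (Place.restrictScalars k Q') P →
      Nat.gcd P.deg n * Q'.deg = P.deg := by
    intro Q' P hP
    have h1 := Place.deg_restrictScalars (k := k) Q'
    rw [deg_eq_lcm_of_isOver h hK hP, ← hn] at h1
    have h2 := Nat.gcd_mul_lcm P.deg n
    rw [h1] at h2
    have h3 : Nat.gcd P.deg n * Q'.deg * n = P.deg * n := by
      rw [← h2]
      ring
    exact Nat.eq_of_mul_eq_mul_right hnpos h3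
  have hdvd_iff : ∀ (Q' : Place k' K') (P : Place k K), IsOver (Place.restrictScalars k Q') P →
      (Q'.deg ∣ m ↔ P.deg ∣ m * n) := by
    intro Q' P hP
    have hgd := hdeg Q' P hP
    have hdpos := Place.deg_pos hK P
    have hgpos : 0 < Nat.gcd P.deg n := Nat.gcd_pos_of_pos_left _ hdpos
    constructor
    · intro hf
      rw [← hgd, mul_comm m n]
      exact Nat.mul_dvd_mul (Nat.gcd_dvd_right P.deg n) hf
    · intro hd
      have hcop := Nat.coprime_div_gcd_div_gcd hgpos (m := P.deg) (n := n)
      have hf : Q'.deg = P.deg / Nat.gcd P.deg n :=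
        (Nat.div_eq_of_eq_mul_right hgpos hgd.symm).symm
      rw [← hf] at hcop
      apply hcop.dvd_of_dvd_mul_right
      -- Q'.deg ∣ m * (n / g)
      have hn1 : n = Nat.gcd P.deg n * (n / Nat.gcd P.deg n) :=
        (Nat.mul_div_cancel' (Nat.gcd_dvd_right P.deg n)).symm
      rw [← hgd] at hd
      have h5 : Nat.gcd P.deg n * Q'.deg ∣ Nat.gcd P.deg n * (m * (n / Nat.gcd P.deg n)) := by
        have : m * n = Nat.gcd P.deg n * (m * (n / Nat.gcd P.deg n)) := by
          conv_lhs => rw [hn1]
          ring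
        rwa [this] at hd
      exact Nat.dvd_of_mul_dvd_mul_left hgpos h5
  -- fibres
  have hext_inj : Function.Injective (Place.extendScalars k' : Place k K' → Place k' K') :=
    Function.LeftInverse.injective (g := Place.restrictScalars k)
      (fun Q => Place.restrictScalars_extendScalars Q)
  obtain ⟨Over, hOver⟩ : ∃ Over : Place k K → Finset (Place k' K'),
      ∀ P, Over P = ((finite_isOver (K' := K') hK P).toFinset).image (Place.extendScalars k') :=
    ⟨_, fun _ => rfl⟩
  have hmemOver : ∀ P Q', Q' ∈ Over P ↔ IsOver (Place.restrictScalars k Q') P := by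
    intro P Q'
    rw [hOver, Finset.mem_image]
    constructor
    · rintro ⟨Q, hQ, rfl⟩
      rw [Set.Finite.mem_toFinset] at hQ
      rw [Place.restrictScalars_extendScalars]
      exact hQ
    · intro hQ'
      exact ⟨Place.restrictScalars k Q', (Set.Finite.mem_toFinset _).mpr hQ',
        Place.extendScalars_restrictScalars Q'⟩
  have hcardOver : ∀ P, (Over P).card = Nat.gcd P.deg n := by
    intro P
    rw [hOver, Finset.card_image_of_injective _ hext_inj, hn]
    exact card_isOver h hK P _ (fun Q => Set.Finite.mem_toFinset _)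
  unfold Ncount
  have hmaps : ∀ Q' ∈ (placesLE hK' m).filter (fun Q' => Q'.deg ∣ m),
      below Q' ∈ (placesLE hK (m * n)).filter (fun P => P.deg ∣ m * n) := by
    intro Q' hQ'
    rw [Finset.mem_filter] at hQ' ⊢
    have hd := (hdvd_iff Q' (below Q') (hbel Q')).mp hQ'.2
    refine ⟨(mem_placesLE hK).mpr (Nat.le_of_dvd (Nat.mul_pos hm hnpos) hd), hd⟩
  rw [← Finset.sum_fiberwise_of_maps_to hmaps (fun Q' => Q'.deg)]
  refine Finset.sum_congr rfl (fun P hP => ?_)
  rw [Finset.mem_filter] at hP
  have hfib : ((placesLE hK' m).filter (fun Q' => Q'.deg ∣ m)).filter (fun Q' => below Q' = P) =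
      Over P := by
    ext Q'
    rw [Finset.mem_filter, Finset.mem_filter, hmemOver, mem_placesLE]
    constructor
    · rintro ⟨_, rfl⟩
      exact hbel Q'
    · intro hQ'
      have hf := (hdvd_iff Q' P hQ').mpr hP.2
      exact ⟨⟨Nat.le_of_dvd hm hf, hf⟩, hbelow_eq Q' P hQ'⟩
  rw [hfib, Finset.sum_const_nat (m := P.deg / Nat.gcd P.deg n), hcardOver]
  · exact Nat.mul_div_cancel' (Nat.gcd_dvd_left P.deg n)
  · intro Q' hQ'
    have hgd := hdeg Q' P ((hmemOver P Q').mp hQ')
    have hgpos : 0 < Nat.gcd P.deg n := Nat.gcd_pos_of_pos_left _ (Place.deg_pos hK P)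
    exact (Nat.div_eq_of_eq_mul_right hgpos hgd.symm).symm

end Bij

section Final

variable {k K k' K' : Type*} [Field k] [Finite k] [Field K] [Algebra k K] [Field k'] [Finite k']
    [Field K'] [Algebra k k'] [Algebra K K'] [Algebra k' K']

theorem Ncount_constExt' (hK : IsFunctionField k K) (hK' : IsFunctionField k' K')
    (hce : IsConstExt k K k' K') (m : ℕ) :
    Ncount hK' m = Ncount hK (m * finrank k k') := by
  letI : Algebra k K' := ((algebraMap K K').comp (algebraMap k K)).toAlgebra
  haveI : IsScalarTower k K K' := IsScalarTower.of_algebraMap_eq (fun _ => rfl)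
  haveI : IsScalarTower k k' K' := IsScalarTower.of_algebraMap_eq (fun c => hce.1 c)
  haveI : FiniteDimensional k k' := Module.Finite.of_finite
  exact Ncount_constExt (bijective_of_isConstExt hce) hK hK' m

/-- S11062. -/
theorem card_places_deg_one_constExt (hK : IsFunctionField k K) (hK' : IsFunctionField k' K')
    (hce : IsConstExt k K k' K') {ι : Type*} [Fintype ι] (α : ι → ℂ)
    (hα : PowerSeries.map (Int.castRingHom ℂ) (numerZ k K) =
      ((∏ i, (1 - Polynomial.C (α i) * Polynomial.X) : Polynomial ℂ) : PowerSeries ℂ)) :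
    (Nat.card {P : Place k' K' // P.deg = 1} : ℂ) =
      1 + (Nat.card k : ℂ) ^ finrank k k' - ∑ i, α i ^ finrank k k' := by
  classical
  haveI : FiniteDimensional k k' := Module.Finite.of_finite
  have hnpos : 1 ≤ finrank k k' := finrank_pos
  rw [← Ncount_formula hK α hα hnpos]
  have h1 := Ncount_constExt' hK hK' hce 1
  rw [one_mul] at h1
  rw [← h1]
  congr 1
  unfold Ncount
  have hfin : {P : Place k' K' | P.deg = 1}.Finite :=
    (finite_places_deg_le hK' 1).subset (fun P hP => le_of_eq hP)
  have h2 : (placesLE hK' 1).filter (fun P => P.deg ∣ 1) = hfin.toFinset := by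
    ext P
    rw [Finset.mem_filter, mem_placesLE, Set.Finite.mem_toFinset, Set.mem_ofPred_eq, Nat.dvd_one]
    constructor
    · exact fun h => h.2
    · exact fun h => ⟨le_of_eq h, h⟩
  rw [h2, Finset.sum_congr rfl (fun P hP => (Set.Finite.mem_toFinset hfin).mp hP), Finset.sum_const,
    smul_eq_mul, mul_one, ← Set.ncard_eq_toFinset_card _ hfin, ← Nat.card_coe_set_eq]
  rfl

/-- S11061. -/
theorem numerZ_constExt (hK : IsFunctionField k K) (hK' : IsFunctionField k' K')
    (hce : IsConstExt k K k' K') {ι : Type*} [Fintype ι] (α : ι → ℂ)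
    (hα : PowerSeries.map (Int.castRingHom ℂ) (numerZ k K) =
      ((∏ i, (1 - Polynomial.C (α i) * Polynomial.X) : Polynomial ℂ) : PowerSeries ℂ)) :
    PowerSeries.map (Int.castRingHom ℂ) (numerZ k' K') =
      ((∏ i, (1 - Polynomial.C (α i ^ finrank k k') * Polynomial.X) : Polynomial ℂ) :
        PowerSeries ℂ) := by
  classical
  haveI : FiniteDimensional k k' := Module.Finite.of_finite
  obtain ⟨n, hn⟩ : ∃ n, n = finrank k k' := ⟨_, rfl⟩
  have hnpos : 1 ≤ n := hn ▸ finrank_pos
  rw [← hn]
  have hcardk' : (Nat.card k' : ℂ) = (Nat.card k : ℂ) ^ n := by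
    have : Nat.card k' = Nat.card k ^ n := by
      rw [hn]
      exact Module.natCard_eq_pow_finrank
    rw [this]
    push_cast
    rfl
  rw [map_numerZ, coe_prod_one_sub, hcardk']
  have hLD := LD_map_zetaZ hK'
  -- identify the logarithmic derivative
  have hN : PowerSeries.map (Int.castRingHom ℂ) (Nser hK') =
      Gser 1 + Gser ((Nat.card k : ℂ) ^ n) - ∑ i, Gser (α i ^ n) := by
    ext m
    rw [coeff_map]
    unfold Nser
    rw [coeff_mk]
    simp only [map_sub, map_add, map_sum, coeff_Gser]
    rcases Nat.eq_zero_or_pos m with rfl | hm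
    · rw [Ncount_zero]
      simp
    · have hm0 : m ≠ 0 := by omega
      simp only [if_neg hm0, one_pow]
      rw [show ((Int.castRingHom ℂ) (Ncount hK' m : ℤ)) = (Ncount hK' m : ℂ) by simp,
        Ncount_constExt' hK hK' hce m, ← hn,
        Ncount_formula hK α hα (Nat.mul_pos hm hnpos)]
      simp only [pow_mul']
  rw [hN] at hLD
  have h1 := hLD.mul (LD_denominator ((Nat.card k : ℂ) ^ n))
  have hsimp : Gser 1 + Gser ((Nat.card k : ℂ) ^ n) - ∑ i, Gser (α i ^ n) +
      (-Gser 1 + -Gser ((Nat.card k : ℂ) ^ n)) = -∑ i, Gser (α i ^ n) := by ring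
  rw [hsimp] at h1
  have h2 := LD_prod Finset.univ (fun i => α i ^ n)
  rw [mul_comm]
  refine h1.unique h2 ?_ ?_
  · simp only [map_neg, map_sum, coeff_Gser, if_true, Finset.sum_const_zero, neg_zero]
  · rw [coeff_zero_prod_one_sub, coeff_zero_eq_constantCoeff_apply, map_mul,
      ← coeff_zero_eq_constantCoeff_apply, coeff_zero_map_zetaZ hK']
    simp

end Final

end FunFld
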