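import Mathlib
import Groth.Agent.Lib.FunFldZetaG_helper2

/-! Riemann hypothesis for function fields, part A (helper2): the (twisted) Bombieri–Stepanov
upper bound for the number of rational places fixed by a Frobenius-semilinear automorphism. -/

open WithZero Module Polynomial

namespace FunFld

section DegOne

variable {k K : Type*} [Field k] [Field K] [Algebra k K]

theorem exists_sub_algebraMap_lt_one_of_deg_one (P : Place k K) (hP : P.deg = 1)
    {x : K} (hx : P.1 x ≤ 1) : ∃ c : k, P.1 (x - algebraMap k K c) < 1 := by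
  have hP' : Module.finrank k (IsLocalRing.ResidueField P.O) = 1 := hP
  have hbt : (⊥ : Subalgebra k (IsLocalRing.ResidueField P.O)) = ⊤ :=
    Subalgebra.bot_eq_top_of_finrank_eq_one hP'
  have hxO : x ∈ P.O := (Valuation.mem_valuationSubring_iff _ _).mpr hx
  have hmem : IsLocalRing.residue P.O ⟨x, hxO⟩ ∈
      (⊥ : Subalgebra k (IsLocalRing.ResidueField P.O)) := by
    rw [hbt]; exact Algebra.mem_top
  obtain ⟨c, hc⟩ := Algebra.mem_bot.mp hmem
  refine ⟨c, ?_⟩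
  have h1 : IsLocalRing.residue P.O (⟨x, hxO⟩ - algebraMap k P.O c) = 0 := by
    rw [map_sub, sub_eq_zero]
    exact hc.symm
  exact (P.residue_eq_zero_iff _).mp h1

/-- Transport of a place along a ring automorphism stabilizing the constants. -/
def Place.comapRingEquiv (P : Place k K) (τ : K ≃+* K)
    (hτ : ∀ c : k, ∃ c' : k, τ (algebraMap k K c) = algebraMap k K c') : Place k K :=
  ⟨P.1.comap (τ : K →+* K), fun c => by
      obtain ⟨c', hc'⟩ := hτ c
      show P.1 (τ (algebraMap k K c)) ≤ 1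
      rw [hc']; exact P.2.1 c',
    fun γ => by
      obtain ⟨z, hz⟩ := P.2.2 γ
      refine ⟨τ.symm z, ?_⟩
      show P.1 (τ (τ.symm z)) = γ
      rw [τ.apply_symm_apply]; exact hz⟩

theorem Place.comapRingEquiv_apply (P : Place k K) (τ : K ≃+* K)
    (hτ : ∀ c : k, ∃ c' : k, τ (algebraMap k K c) = algebraMap k K c') (y : K) :
    (P.comapRingEquiv τ hτ).1 y = P.1 (τ y) := rfl

theorem mem_L_single_iff' (Q₀ : Place k K) (N : ℤ) (x : K) :
    x ∈ L (Finsupp.single Q₀ N : Divisor k K) ↔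
      Q₀.1 x ≤ exp N ∧ ∀ P : Place k K, P ≠ Q₀ → P.1 x ≤ 1 := by
  rw [mem_L]
  constructor
  · intro h
    refine ⟨?_, fun P hP => ?_⟩
    · have := h Q₀
      rwa [single_apply_self] at this
    · have := h P
      rwa [single_apply_ne (Ne.symm hP), exp_zero] at this
  · rintro ⟨h1, h2⟩ P
    by_cases hP : P = Q₀
    · subst hP
      rwa [single_apply_self]
    · rw [single_apply_ne (Ne.symm hP), exp_zero]
      exact h2 P hP

theorem deg_sum_single_of_deg_one (F : Finset (Place k K)) (hF : ∀ P ∈ F, P.deg = 1) :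
    Divisor.deg (∑ R ∈ F, (Finsupp.single R 1 : Divisor k K)) = F.card := by
  classical
  rw [deg_eq_degAddHomH, map_sum]
  have : ∀ R ∈ F, degAddHomH (Finsupp.single R 1 : Divisor k K) = 1 := by
    intro R hR
    rw [← deg_eq_degAddHomH, deg_single, hF R hR]
    simp
  rw [Finset.sum_congr rfl this]
  simp

end DegOne

section Bombieri

variable {k E : Type*} [Field k] [Finite k] [Field E] [Algebra k E]

theorem twisted_bombieri_key (hE : IsFunctionField k E) (p : ℕ) [hp : Fact p.Prime] [CharP k p]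
    (a : ℕ) (τ : E ≃+* E)
    (hτ : ∀ c : k, τ (algebraMap k E c) = algebraMap k E (c ^ ((p ^ a) ^ 2)))
    (hg : (genus k E + 1) ^ 2 < p ^ a)
    (Q₀ : Place k E) (hQ₀deg : Q₀.deg = 1) (hQ₀fix : ∀ y, Q₀.1 (τ y) = Q₀.1 y)
    (F : Finset (Place k E))
    (hF : ∀ P ∈ F, (P.deg = 1 ∧ ∀ y, P.1 (τ y) = P.1 y) ∧ P ≠ Q₀) :
    F.card ≤ (p ^ a) ^ 2 + (2 * genus k E + 1) * p ^ a - 1 := by
  classical
  obtain ⟨q₀, hq₀⟩ : ∃ q₀, q₀ = p ^ a := ⟨_, rfl⟩
  obtain ⟨g, hgdef⟩ : ∃ g, g = genus k E := ⟨_, rfl⟩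
  rw [← hq₀] at hτ hg ⊢
  rw [← hgdef] at hg ⊢
  have hq₀pos : 0 < q₀ := hq₀ ▸ pow_pos hp.out.pos a
  have hgq : g < q₀ := by nlinarith
  obtain ⟨m, hm⟩ : ∃ m, m = q₀ - 1 := ⟨_, rfl⟩
  obtain ⟨n, hn⟩ : ∃ n, n = 2 * g + q₀ := ⟨_, rfl⟩
  obtain ⟨N, hN⟩ : ∃ N, N = q₀ * m + n := ⟨_, rfl⟩
  have hm1 : m + 1 = q₀ := by omega
  have hmZ : (m : ℤ) = (q₀ : ℤ) - 1 := by
    have : ((m + 1 : ℕ) : ℤ) = (q₀ : ℤ) := by rw [hm1]
    push_cast at this
    linarith
  have hnZ : (n : ℤ) = 2 * (g : ℤ) + q₀ := by rw [hn]; push_cast; ring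
  have hNZ : (N : ℤ) = (q₀ : ℤ) * m + n := by rw [hN]; push_cast; ring
  have hτc : ∀ c : k, ∃ c' : k, τ (algebraMap k E c) = algebraMap k E c' := fun c => ⟨_, hτ c⟩
  -- `τ` preserves regularity away from `Q₀`
  have hreg : ∀ (P : Place k E), P ≠ Q₀ → ∀ w : E,
      (∀ P' : Place k E, P' ≠ Q₀ → P'.1 w ≤ 1) → P.1 (τ w) ≤ 1 := by
    intro P hP w hw
    have hne : P.comapRingEquiv τ hτc ≠ Q₀ := by
      intro h
      apply hP
      apply Subtype.ext
      apply Valuation.ext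
      intro y
      have h1 : (P.comapRingEquiv τ hτc).1 (τ.symm y) = Q₀.1 (τ.symm y) := by rw [h]
      rw [Place.comapRingEquiv_apply, τ.apply_symm_apply] at h1
      rw [h1, ← hQ₀fix (τ.symm y), τ.apply_symm_apply]
    exact hw _ hne
  -- pole numbers
  obtain ⟨T, hT⟩ : ∃ T : Finset ℕ, T = (Finset.range (m + 1)).filter (fun j => ¬ IsGapAt Q₀ j) :=
    ⟨_, rfl⟩
  have hTmem : ∀ j, j ∈ T ↔ j < m + 1 ∧ ¬ IsGapAt Q₀ j := by
    intro j
    rw [hT, Finset.mem_filter, Finset.mem_range]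
  have h0ng : ¬ IsGapAt Q₀ 0 := by
    intro h
    unfold IsGapAt at h
    have h1 : (1 : E) ∈ L (Finsupp.single Q₀ ((0 : ℕ) : ℤ) : Divisor k E) := by
      rw [Nat.cast_zero, Finsupp.single_zero]; exact one_mem_L le_rfl
    rw [h] at h1
    have h2 := h1 Q₀
    rw [map_one, single_apply_self] at h2
    have h3 : ((0 : ℕ) : ℤ) - 1 = -1 := by norm_num
    rw [h3] at h2
    exact (not_le.mpr exp_neg_one_lt_one) h2
  have hTcard : T.card = ell (Finsupp.single Q₀ (m : ℤ) : Divisor k E) := by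
    have h1 := ell_add_card_gaps hE hQ₀deg m
    have h2 : (gapsUpTo Q₀ m) = (Finset.range (m + 1)).filter (fun j => IsGapAt Q₀ j) := by
      ext j
      rw [mem_gapsUpTo, Finset.mem_filter, Finset.mem_range]
      constructor
      · rintro ⟨⟨_, h2⟩, h3⟩; exact ⟨by omega, h3⟩
      · rintro ⟨h2, h3⟩
        refine ⟨⟨?_, by omega⟩, h3⟩
        rcases Nat.eq_zero_or_pos j with rfl | hj
        · exact absurd h3 h0ng
        · exact hj
    have h3 := Finset.card_filter_add_card_filter_not (s := Finset.range (m + 1))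
      (fun j => IsGapAt Q₀ j)
    rw [Finset.card_range, ← h2, ← hT] at h3
    omega
  have hdegs : ∀ j : ℕ, Divisor.deg (Finsupp.single Q₀ (j : ℤ) : Divisor k E) = j := by
    intro j
    rw [deg_single, hQ₀deg]; simp
  have hTge : (q₀ : ℤ) - g ≤ T.card := by
    have h1 := (riemann hE).1 (Finsupp.single Q₀ (m : ℤ))
    rw [hdegs, ← hTcard, ← hgdef] at h1
    omega
  have helln : (ell (Finsupp.single Q₀ (n : ℤ) : Divisor k E) : ℤ) = n + 1 - g := by
    have h1 := ell_eq_of_deg_ge hE (Finsupp.single Q₀ (n : ℤ))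
      (by rw [hdegs, ← hgdef]; omega)
    rw [hdegs, ← hgdef] at h1
    exact h1
  have hellN : (ell (Finsupp.single Q₀ (N : ℤ) : Divisor k E) : ℤ) = N + 1 - g := by
    have h1 := ell_eq_of_deg_ge hE (Finsupp.single Q₀ (N : ℤ))
      (by
        rw [hdegs, ← hgdef]
        have : (0 : ℤ) ≤ (q₀ : ℤ) * m := by positivity
        omega)
    rw [hdegs, ← hgdef] at h1
    exact h1
  -- functions with prescribed pole orders
  have hex : ∀ j : ℕ, ∃ w : E, j ∈ T →
      (w ∈ L (Finsupp.single Q₀ (j : ℤ) : Divisor k E) ∧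
        w ∉ L (Finsupp.single Q₀ ((j : ℤ) - 1) : Divisor k E)) := by
    intro j
    by_cases hj : j ∈ T
    · obtain ⟨w, hw1, hw2⟩ := exists_mem_of_nongap ((hTmem j).mp hj).2
      exact ⟨w, fun _ => ⟨hw1, hw2⟩⟩
    · exact ⟨0, fun h => absurd h hj⟩
  choose w hw using hex
  have hwfacts : ∀ j ∈ T, w j ≠ 0 ∧ Q₀.ord (w j) = -(j : ℤ) ∧
      ∀ Q : Place k E, Q ≠ Q₀ → 0 ≤ Q.ord (w j) := by
    intro j hj
    exact ord_of_mem_L_single hE (n := (j : ℤ)) (n' := (j : ℤ) - 1) (by ring)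
      (hw j hj).1 (hw j hj).2
  have hwreg : ∀ j ∈ T, ∀ P : Place k E, P ≠ Q₀ → P.1 (w j) ≤ 1 := by
    intro j hj P hP
    exact (Place.ord_nonneg_iff P (hwfacts j hj).1).mp ((hwfacts j hj).2.2 P hP)
  have hwQ₀ : ∀ j ∈ T, Q₀.1 (w j) ≤ exp (m : ℤ) := by
    intro j hj
    have h1 := ((mem_L_single_iff' Q₀ j (w j)).mp (hw j hj).1).1
    refine h1.trans (exp_le_exp.mpr ?_)
    have := ((hTmem j).mp hj).1
    omega
  -- the linear map
  obtain ⟨V, hV⟩ : ∃ V : Submodule k E, V = L (Finsupp.single Q₀ (n : ℤ) : Divisor k E) :=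
    ⟨_, rfl⟩
  obtain ⟨W, hW⟩ : ∃ W : Submodule k E, W = L (Finsupp.single Q₀ (N : ℤ) : Divisor k E) :=
    ⟨_, rfl⟩
  have hVmem : ∀ z : V, Q₀.1 (z : E) ≤ exp (n : ℤ) ∧ ∀ P : Place k E, P ≠ Q₀ → P.1 (z : E) ≤ 1 :=
    fun z => (mem_L_single_iff' Q₀ n _).mp (hV ▸ z.2)
  have hmemW : ∀ (j : T) (z : V), (w j) ^ q₀ * (z : E) ∈ W := by
    intro j z
    rw [hW, mem_L_single_iff']
    constructor
    · rw [map_mul, map_pow, hNZ, exp_add, ← nsmul_eq_mul, exp_nsmul]
      exact mul_le_mul' (pow_le_pow_left₀ zero_le (hwQ₀ j j.2) q₀) (hVmem z).1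
    · intro P hP
      rw [map_mul, map_pow]
      exact mul_le_one' (pow_le_one₀ zero_le (hwreg j j.2 P hP)) ((hVmem z).2 P hP)
  let μ₀ : (T → V) →ₗ[k] E := ∑ j : T,
    (LinearMap.mulLeft k ((w j) ^ q₀)).comp (V.subtype.comp (LinearMap.proj j))
  have hμ₀ : ∀ z : T → V, μ₀ z = ∑ j : T, (w j) ^ q₀ * (z j : E) := by
    intro z
    simp only [μ₀, LinearMap.sum_apply, LinearMap.comp_apply, LinearMap.proj_apply,
      Submodule.subtype_apply, LinearMap.mulLeft_apply]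
  let μ : (T → V) →ₗ[k] W := μ₀.codRestrict W (fun z => by
    rw [hμ₀]; exact Submodule.sum_mem _ (fun j _ => hmemW j (z j)))
  haveI : FiniteDimensional k V := hV ▸ finiteDimensional_L hE _
  haveI : FiniteDimensional k W := hW ▸ finiteDimensional_L hE _
  have hdimV : (finrank k V : ℤ) = n + 1 - g := by
    rw [← helln, hV]; rfl
  have hdimW : (finrank k W : ℤ) = N + 1 - g := by
    rw [← hellN, hW]; rfl
  have hdimsrc : finrank k (T → V) = T.card * finrank k V := by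
    rw [Module.finrank_pi_fintype, Finset.sum_const, Finset.card_univ, Fintype.card_coe,
      smul_eq_mul]
  have hlt : finrank k W < finrank k (T → V) := by
    rw [hdimsrc]
    have h1 : ((finrank k W : ℕ) : ℤ) < ((T.card * finrank k V : ℕ) : ℤ) := by
      push_cast
      rw [hdimV, hdimW, hNZ, hnZ, hmZ]
      have hg' : ((g : ℤ) + 1) ^ 2 < q₀ := by exact_mod_cast hg
      have h2 : ((q₀ : ℤ) - g) * (2 * (g : ℤ) + q₀ + 1 - g) ≤
          (T.card : ℤ) * (2 * (g : ℤ) + q₀ + 1 - g) := by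
        apply mul_le_mul_of_nonneg_right hTge
        have : (0 : ℤ) ≤ g := Int.natCast_nonneg g
        have : (0 : ℤ) ≤ q₀ := Int.natCast_nonneg q₀
        linarith
      nlinarith
    exact_mod_cast h1
  obtain ⟨z, hzker, hz0⟩ := Submodule.exists_mem_ne_zero_of_ne_bot
    (LinearMap.ker_ne_bot_of_finrank_lt (f := μ) hlt)
  have hker : ∑ j : T, (w j) ^ q₀ * (z j : E) = 0 := by
    have h1 : μ z = 0 := hzker
    have h2 : ((μ z : W) : E) = 0 := by rw [h1]; rfl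
    rw [← hμ₀]
    exact h2
  obtain ⟨x, hx⟩ : ∃ x : E, x = ∑ j : T, τ (w j) * (z j : E) ^ q₀ := ⟨_, rfl⟩
  -- `x ≠ 0`
  have hτfix_ord : ∀ y : E, Q₀.ord (τ y) = Q₀.ord y := by
    intro y
    unfold Place.ord
    rw [hQ₀fix]
  have hx0 : x ≠ 0 := by
    intro hx0
    rw [hx] at hx0
    have hall := eq_zero_of_sum_eq_zero_of_val Q₀.1 Finset.univ
      (fun j : T => τ (w j) * (z j : E) ^ q₀) hx0 ?_
    · apply hz0
      funext j
      have h1 := hall j (Finset.mem_univ j)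
      have hwj := (hwfacts j j.2).1
      have hτw : τ (w j) ≠ 0 := (map_ne_zero_iff τ τ.injective).mpr hwj
      rcases mul_eq_zero.mp h1 with h | h
      · exact absurd h hτw
      · exact Subtype.ext (pow_eq_zero_iff hq₀pos.ne' |>.mp h)
    · intro i _ j _ hi hj hv
      have hwi := (hwfacts i i.2)
      have hwj := (hwfacts j j.2)
      have hτwi : τ (w i) ≠ 0 := (map_ne_zero_iff τ τ.injective).mpr hwi.1
      have hτwj : τ (w j) ≠ 0 := (map_ne_zero_iff τ τ.injective).mpr hwj.1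
      have hzi : ((z i : E)) ^ q₀ ≠ 0 := fun h => hi (by rw [h, mul_zero])
      have hzj : ((z j : E)) ^ q₀ ≠ 0 := fun h => hj (by rw [h, mul_zero])
      have hord : Q₀.ord (τ (w i) * (z i : E) ^ q₀) = Q₀.ord (τ (w j) * (z j : E) ^ q₀) := by
        unfold Place.ord
        rw [hv]
      rw [Place.ord_mul Q₀ hτwi hzi, Place.ord_mul Q₀ hτwj hzj, hτfix_ord, hτfix_ord, hwi.2.1,
        hwj.2.1, Place.ord_pow, Place.ord_pow] at hord
      have hi' := ((hTmem i).mp i.2).1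
      have hj' := ((hTmem j).mp j.2).1
      have hdvd : (q₀ : ℤ) ∣ ((i : ℕ) : ℤ) - ((j : ℕ) : ℤ) :=
        ⟨Q₀.ord (z i : E) - Q₀.ord (z j : E), by linarith⟩
      have habs : |((i : ℕ) : ℤ) - ((j : ℕ) : ℤ)| < (q₀ : ℤ) := by
        rw [abs_lt]
        constructor <;> omega
      have h0 := Int.eq_zero_of_abs_lt_dvd hdvd habs
      apply Subtype.ext
      omega
  -- bounds on `x`
  obtain ⟨r', hr'⟩ : ∃ r' : ℕ, r' = m + q₀ * n := ⟨_, rfl⟩
  have hxQ₀ : Q₀.1 x ≤ exp (r' : ℤ) := by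
    rw [hx]
    apply Q₀.1.map_sum_le
    intro j _
    rw [map_mul, map_pow, hQ₀fix, hr']
    push_cast
    rw [exp_add, ← nsmul_eq_mul, exp_nsmul]
    exact mul_le_mul' (hwQ₀ j j.2) (pow_le_pow_left₀ zero_le (hVmem (z j)).1 q₀)
  have hxreg : ∀ P : Place k E, P ≠ Q₀ → P.1 x ≤ 1 := by
    intro P hP
    rw [hx]
    apply P.1.map_sum_le
    intro j _
    rw [map_mul, map_pow]
    exact mul_le_one' (hreg P hP (w j) (hwreg j j.2)) (pow_le_one₀ zero_le ((hVmem (z j)).2 P hP))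
  -- vanishing
  have hvan : ∀ P ∈ F, P.1 x < 1 := by
    intro P hPF
    obtain ⟨⟨hPdeg, hPfix⟩, hPne⟩ := hF P hPF
    choose aa haa using fun j : T =>
      exists_sub_algebraMap_lt_one_of_deg_one P hPdeg (hwreg j j.2 P hPne)
    choose bb hbb using fun j : T =>
      exists_sub_algebraMap_lt_one_of_deg_one P hPdeg ((hVmem (z j)).2 P hPne)
    have h1 : ∀ j : T, P.1 (τ (w j) - algebraMap k E (aa j ^ (q₀ ^ 2))) < 1 := by
      intro j
      rw [← hτ, ← map_sub, hPfix]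
      exact haa j
    have h2 : ∀ j : T, P.1 ((z j : E) ^ q₀ - algebraMap k E (bb j ^ q₀)) < 1 :=
      fun j => val_pow_sub_lt P (hbb j) q₀
    have h3 : P.1 (x - algebraMap k E (∑ j : T, aa j ^ (q₀ ^ 2) * bb j ^ q₀)) < 1 := by
      rw [hx]
      exact val_sum_sub_lt P Finset.univ _ _ (fun j _ => val_mul_sub_lt P (h1 j) (h2 j))
    have h4 : P.1 ((∑ j : T, (w j) ^ q₀ * (z j : E)) -
        algebraMap k E (∑ j : T, aa j ^ q₀ * bb j)) < 1 :=
      val_sum_sub_lt P Finset.univ _ _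
        (fun j _ => val_mul_sub_lt P (val_pow_sub_lt P (haa j) q₀) (hbb j))
    rw [hker, zero_sub, Valuation.map_neg] at h4
    have hc0 : ∑ j : T, aa j ^ q₀ * bb j = 0 := by
      by_contra hc
      rw [P.val_algebraMap hc] at h4
      exact lt_irrefl _ h4
    have hc1 : ∑ j : T, aa j ^ (q₀ ^ 2) * bb j ^ q₀ = 0 := by
      have h5 : (∑ j : T, aa j ^ q₀ * bb j) ^ q₀ = ∑ j : T, aa j ^ (q₀ ^ 2) * bb j ^ q₀ := by
        rw [hq₀, sum_pow_char_pow]
        refine Finset.sum_congr rfl (fun j _ => ?_)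
        rw [mul_pow, ← pow_mul, sq]
      rw [← h5, hc0, zero_pow hq₀pos.ne']
    rw [hc1, map_zero, sub_zero] at h3
    exact h3
  -- divisor argument
  have hQ₀F : Q₀ ∉ F := fun h => (hF Q₀ h).2 rfl
  by_contra hcard
  push Not at hcard
  have hr'lt : r' < F.card := by
    have h1 : r' + 1 = q₀ ^ 2 + (2 * g + 1) * q₀ := by
      calc r' + 1 = (m + 1) + q₀ * n := by rw [hr']; ring
        _ = q₀ + q₀ * (2 * g + q₀) := by rw [hm1, hn]
        _ = q₀ ^ 2 + (2 * g + 1) * q₀ := by ring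
    omega
  obtain ⟨D, hD⟩ : ∃ D : Divisor k E, D = Finsupp.single Q₀ (r' : ℤ) -
      ∑ R ∈ F, (Finsupp.single R 1 : Divisor k E) := ⟨_, rfl⟩
  have hxD : x ∈ L D := by
    rw [mem_L]
    intro P
    rw [hD, Finsupp.sub_apply, sum_single_apply]
    by_cases hPF : P ∈ F
    · have hPne : P ≠ Q₀ := (hF P hPF).2
      rw [if_pos hPF, single_apply_ne (Ne.symm hPne), zero_sub]
      exact (lt_one_iff_le_exp_neg_one _).mp (hvan P hPF)
    · rw [if_neg hPF, sub_zero]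
      by_cases hP : P = Q₀
      · subst hP
        rw [single_apply_self]
        exact hxQ₀
      · rw [single_apply_ne (Ne.symm hP), exp_zero]
        exact hxreg P hP
  have hdegD : Divisor.deg D < 0 := by
    rw [hD, deg_sub, hdegs, deg_sum_single_of_deg_one F (fun P hP => (hF P hP).1.1)]
    omega
  have hbot := L_eq_bot_of_deg_neg hE D hdegD
  rw [hbot, Submodule.mem_bot] at hxD
  exact hx0 hxD

/-- The twisted Bombieri–Stepanov bound. -/
theorem twisted_bombieri (hE : IsFunctionField k E) (p : ℕ) [hp : Fact p.Prime] [CharP k p]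
    (a : ℕ) (τ : E ≃+* E)
    (hτ : ∀ c : k, τ (algebraMap k E c) = algebraMap k E (c ^ ((p ^ a) ^ 2)))
    (hg : (genus k E + 1) ^ 2 < p ^ a) :
    Nat.card {Q : Place k E // Q.deg = 1 ∧ ∀ y, Q.1 (τ y) = Q.1 y} ≤
      (p ^ a) ^ 2 + (2 * genus k E + 1) * p ^ a := by
  classical
  obtain ⟨S, hS⟩ : ∃ S : Set (Place k E), S = {Q | Q.deg = 1 ∧ ∀ y, Q.1 (τ y) = Q.1 y} :=
    ⟨_, rfl⟩
  have hSfin : S.Finite := (finite_places_deg_le hE 1).subset (fun Q hQ => by
    rw [hS] at hQ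
    exact le_of_eq hQ.1)
  have hcard : Nat.card {Q : Place k E // Q.deg = 1 ∧ ∀ y, Q.1 (τ y) = Q.1 y} =
      hSfin.toFinset.card := by
    rw [← Set.ncard_eq_toFinset_card S hSfin, hS]
    exact Nat.card_coe_set_eq _
  rw [hcard]
  have hq₀pos : 0 < p ^ a := pow_pos hp.out.pos a
  by_cases hne : hSfin.toFinset = ∅
  · rw [hne, Finset.card_empty]; exact Nat.zero_le _
  obtain ⟨Q₀, hQ₀mem⟩ := Finset.nonempty_iff_ne_empty.mpr hne
  have hQ₀ : Q₀ ∈ S := hSfin.mem_toFinset.mp hQ₀mem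
  rw [hS] at hQ₀
  obtain ⟨hQ₀deg, hQ₀fix⟩ := hQ₀
  have h1 := twisted_bombieri_key hE p a τ hτ hg Q₀ hQ₀deg hQ₀fix (hSfin.toFinset.erase Q₀)
    (fun P hP => by
      rw [Finset.mem_erase] at hP
      have := hSfin.mem_toFinset.mp hP.2
      rw [hS] at this
      exact ⟨this, hP.1⟩)
  rw [Finset.card_erase_of_mem hQ₀mem] at h1
  have : 1 ≤ (p ^ a) ^ 2 + (2 * genus k E + 1) * p ^ a := by nlinarith
  omega

end Bombieri

end FunFld
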