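import Mathlib
import Groth.Agent.Lib.FunFldRamC_helper2

/-! Total ramification over the inertia field (helper2). -/

open Polynomial IntermediateField WithZero Module
open scoped Pointwise

namespace FunFld

variable {k K K' : Type*} [Field k] [Field K] [Field K'] [Algebra k K] [Algebra K K']
    [Algebra k K'] [IsScalarTower k K K'] [FiniteDimensional K K'] [IsGalois K K']

theorem exists_isOverWith_card_ram (hK : IsFunctionField k K) (Q : Place k K')
    [Algebra.IsSeparable k (IsLocalRing.ResidueField Q.O)] :
    ∃ (P : Place k K) (e : ℕ), IsOverWith Q P e ∧ Nat.card (ramGroup K Q 1 zero_le_one) = e := by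
  haveI : Algebra.IsAlgebraic K K' := Algebra.IsAlgebraic.of_finite K K'
  obtain ⟨P, e, he⟩ := exists_isOverWith hK Q
  refine ⟨P, e, he, ?_⟩
  rw [← inertia_map_eq_ramGroup, Subgroup.card_subtype]
  exact card_inertia hK he

theorem exists_isOverWith_intermediate (hK : IsFunctionField k K) (Q : Place k K')
    [Algebra.IsSeparable k (IsLocalRing.ResidueField Q.O)] (E : IntermediateField K K') :
    ∃ (P_E : Place k E) (e : ℕ), IsOverWith Q P_E e ∧
      Nat.card {τ : K' ≃ₐ[E] K' //
        ∀ x : K', Q.1 x ≤ 1 → Q.1 (τ x - x) ≤ exp (-(1 : ℤ))} = e := by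
  haveI : Algebra.IsAlgebraic k (algebraicClosure k E) := algebraicClosure.isAlgebraic k E
  have hE : IsFunctionField (algebraicClosure k E) E := isFunctionField_algebraicClosure hK
  haveI t2 : IsScalarTower k (algebraicClosure k E) K' :=
    IsScalarTower.of_algebraMap_eq (fun c => rfl)
  let Q₁ : Place (algebraicClosure k E) K' :=
    ⟨Q.1, fun c => val_le_one_of_isIntegral Q.1 Q.2.1
      ((Algebra.IsIntegral.isIntegral (R := k) c).map
        (IsScalarTower.toAlgHom k (algebraicClosure k E) K')), Q.2.2⟩
  haveI : Algebra.IsSeparable (algebraicClosure k E) (IsLocalRing.ResidueField Q₁.O) := by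
    letI a0 : Algebra k (IsLocalRing.ResidueField Q₁.O) := Place.algRes Q
    haveI t3 : IsScalarTower k (algebraicClosure k E) (IsLocalRing.ResidueField Q₁.O) :=
      IsScalarTower.of_algebraMap_eq (fun c => rfl)
    haveI : Algebra.IsSeparable k (IsLocalRing.ResidueField Q₁.O) :=
      ‹Algebra.IsSeparable k (IsLocalRing.ResidueField Q.O)›
    exact Algebra.isSeparable_tower_top_of_isSeparable k _ _
  obtain ⟨P₁, e, he, hc⟩ := exists_isOverWith_card_ram hE Q₁
  refine ⟨⟨P₁.1, fun c => ?_, P₁.2.2⟩, e, he, hc⟩
  have h1 := P₁.2.1 (algebraMap k (algebraicClosure k E) c)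
  rwa [← IsScalarTower.algebraMap_apply] at h1

theorem totallyRamified_over_inertiaField (hK : IsFunctionField k K) (Q : Place k K')
    [Algebra.IsSeparable k (IsLocalRing.ResidueField Q.O)] :
    ∃ Q₁ : Place k (IntermediateField.fixedField
        ((Q.O.inertiaSubgroup K).map (Q.O.decompositionSubgroup K).subtype)),
      IsOverWith Q Q₁ (Module.finrank (IntermediateField.fixedField
        ((Q.O.inertiaSubgroup K).map (Q.O.decompositionSubgroup K).subtype)) K') := by
  obtain ⟨P_E, e, he, hc⟩ := exists_isOverWith_intermediate hK Q (IntermediateField.fixedField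
        ((Q.O.inertiaSubgroup K).map (Q.O.decompositionSubgroup K).subtype))
  refine ⟨P_E, ?_⟩
  have hall : ∀ τ : K' ≃ₐ[(IntermediateField.fixedField
        ((Q.O.inertiaSubgroup K).map (Q.O.decompositionSubgroup K).subtype))] K',
      ∀ x : K', Q.1 x ≤ 1 → Q.1 (τ x - x) ≤ exp (-(1 : ℤ)) := by
    intro τ
    have h1 : τ.restrictScalars K ∈ (IntermediateField.fixedField
        ((Q.O.inertiaSubgroup K).map (Q.O.decompositionSubgroup K).subtype)).fixingSubgroup := by
      rw [IntermediateField.mem_fixingSubgroup_iff]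
      intro y hy
      exact τ.commutes ⟨y, hy⟩
    rw [IntermediateField.fixingSubgroup_fixedField] at h1
    have h3 : ∀ σ : K' ≃ₐ[K] K',
        σ ∈ (Q.O.inertiaSubgroup K).map (Q.O.decompositionSubgroup K).subtype →
        InRam Q σ 1 := by
      intro σ hσ
      rw [inertia_map_eq_ramGroup] at hσ
      exact hσ
    exact h3 _ h1
  have h2 : e = Module.finrank (IntermediateField.fixedField
        ((Q.O.inertiaSubgroup K).map (Q.O.decompositionSubgroup K).subtype)) K' := by
    rw [← hc, ← IsGalois.card_aut_eq_finrank]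
    exact Nat.card_congr (Equiv.subtypeUnivEquiv hall)
  rw [← h2]
  exact he

end FunFld
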