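import Mathlib
import Groth.Agent.Lib.FunFldIntCl_helper2

/-! Towers of function fields: transitivity of ramification and conorm (helper2). -/

open WithZero

namespace FunFld

section Tower

variable {k K K' K'' : Type*} [Field k] [Field K] [Field K'] [Field K'']
    [Algebra k K] [Algebra k K'] [Algebra k K''] [Algebra K K'] [Algebra K' K''] [Algebra K K'']
    [IsScalarTower k K K'] [IsScalarTower k K' K''] [IsScalarTower k K K'']
    [IsScalarTower K K' K'']

omit [IsScalarTower k K K'] [IsScalarTower k K' K''] [IsScalarTower k K K''] in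
theorem IsOverWith.trans {R : Place k K''} {Q : Place k K'} {P : Place k K} {e₁ e₂ : ℕ}
    (h₂ : IsOverWith R Q e₂) (h₁ : IsOverWith Q P e₁) : IsOverWith R P (e₁ * e₂) := by
  intro x
  rw [IsScalarTower.algebraMap_apply K K' K'', h₂, h₁, pow_mul]

/-- Every place of the top field of a tower restricts to a place of the middle field (which
need not have `k` as its full constant field). -/
theorem exists_isOverWith_tower (hK : IsFunctionField k K) [FiniteDimensional K K']
    [Algebra.IsAlgebraic K' K''] (R : Place k K'') :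
    ∃ (Q : Place k K') (e : ℕ), IsOverWith R Q e := by
  classical
  haveI : Algebra.IsAlgebraic k (algebraicClosure k K') := algebraicClosure.isAlgebraic k K'
  have hK₁ := isFunctionField_algebraicClosure (K' := K') hK
  let R₁ : Place (algebraicClosure k K') K'' :=
    ⟨R.1, fun c => val_le_one_of_isIntegral R.1 R.2.1
      ((Algebra.IsIntegral.isIntegral (R := k) c).map
        (IsScalarTower.toAlgHom k (algebraicClosure k K') K'')), R.2.2⟩
  obtain ⟨Q₁, e, he⟩ := exists_isOverWith hK₁ R₁
  exact ⟨Q₁.restrictConst _, e, he⟩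

/-- S12514: conorms compose. -/
theorem conorm_conorm (hK : IsFunctionField k K) [FiniteDimensional K K']
    [FiniteDimensional K' K''] (D : Divisor k K) :
    conorm K'' (conorm K' D) = conorm K'' D := by
  classical
  haveI : FiniteDimensional K K'' := FiniteDimensional.trans K K' K''
  have hfin₁ : ∀ P : Place k K, {Q : Place k K' | IsOver Q P}.Finite :=
    fun P => finite_isOver hK P
  have hfin₃ : ∀ P : Place k K, {R : Place k K'' | IsOver R P}.Finite :=
    fun P => finite_isOver hK P
  have hfin₂ : ∀ Q : Place k K', {R : Place k K'' | IsOver R Q}.Finite := by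
    intro Q
    obtain ⟨P, e₁, h₁⟩ := exists_isOverWith hK Q
    refine (hfin₃ P).subset ?_
    rintro R ⟨e₂, h₂⟩
    exact ⟨_, h₂.trans h₁⟩
  ext R
  obtain ⟨Q, e₂, h₂⟩ := exists_isOverWith_tower (K' := K') hK R
  obtain ⟨P, e₁, h₁⟩ := exists_isOverWith hK Q
  have h₃ := h₂.trans h₁
  rw [conorm_apply hfin₂ _ R ⟨e₂, h₂⟩, conorm_apply hfin₁ D Q ⟨e₁, h₁⟩,
    conorm_apply hfin₃ D R ⟨_, h₃⟩, ramIdx_eq h₂, ramIdx_eq h₁, ramIdx_eq h₃]
  push_cast
  ring

end Tower

end FunFld
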