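import Mathlib
import Groth.Agent.Lib.FunFldRHA_helper2
import Groth.Agent.Lib.FunFldRamD_helper2
import Groth.Agent.Lib.FunFldTower_helper2

/-! Riemann hypothesis for function fields, part B (helper2): Galois coverings, constant field
extensions and counting of places fixed by twisted Frobenius automorphisms. -/

open WithZero Module Polynomial TensorProduct
open scoped Pointwise

namespace FunFld

universe u u' w v v'

section Gen

variable {k : Type u} {k' : Type u'} {E : Type v} {E' : Type v'} [Field k] [Field k'] [Field E]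
    [Field E'] [Algebra k k'] [Algebra k E] [Algebra E E'] [Algebra k' E'] [Algebra k E']
    [IsScalarTower k k' E'] [IsScalarTower k E E']

theorem constExt_induction
    (h : Function.Bijective (Algebra.TensorProduct.productMap
      (IsScalarTower.toAlgHom k k' E') (IsScalarTower.toAlgHom k E E')))
    {motive : E' → Prop} (h0 : motive 0)
    (hmul : ∀ (c : k') (e : E), motive (algebraMap k' E' c * algebraMap E E' e))
    (hadd : ∀ x y, motive x → motive y → motive (x + y)) (y : E') : motive y := by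
  obtain ⟨t, rfl⟩ := h.2 y
  induction t using TensorProduct.induction_on with
  | zero => rw [map_zero]; exact h0
  | tmul c e =>
    rw [Algebra.TensorProduct.productMap_apply_tmul]
    exact hmul c e
  | add x y hx hy => rw [map_add]; exact hadd _ _ hx hy

theorem ringHom_ext_constExt
    (h : Function.Bijective (Algebra.TensorProduct.productMap
      (IsScalarTower.toAlgHom k k' E') (IsScalarTower.toAlgHom k E E')))
    {R : Type*} [Semiring R] (f g : E' →+* R)
    (hE : ∀ e : E, f (algebraMap E E' e) = g (algebraMap E E' e))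
    (hk : ∀ c : k', f (algebraMap k' E' c) = g (algebraMap k' E' c)) : f = g := by
  refine RingHom.ext (fun y => constExt_induction h (motive := fun y => f y = g y) ?_ ?_ ?_ y)
  · rw [map_zero, map_zero]
  · intro c e
    rw [map_mul, map_mul, hE, hk]
  · intro x y hx hy
    rw [map_add, map_add, hx, hy]

end Gen

section Helpers

theorem natCard_subtype_eq_card {α : Type*} (p : α → Prop) (s : Finset α)
    (H : ∀ x, x ∈ s ↔ p x) : Nat.card {x // p x} = s.card := by
  classical
  haveI : Fintype {x // p x} := Fintype.subtype s H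
  rw [Nat.card_eq_fintype_card, Fintype.card_of_subtype s H]

theorem finrank_dvd_of_forall_pow_eq {F L : Type*} [Field F] [Finite F] [Field L] [Finite L]
    [Algebra F L] {m : ℕ} (h : ∀ a : L, a ^ (Nat.card F ^ m) = a) : finrank F L ∣ m := by
  haveI := Fintype.ofFinite F
  rw [← FiniteField.orderOf_frobeniusAlgHom F L]
  apply orderOf_dvd_of_pow_eq_one
  ext a
  rw [AlgHom.coe_pow, FiniteField.coe_frobeniusAlgHom, pow_iterate, ← Nat.card_eq_fintype_card]
  exact h a

variable {k K : Type*} [Field k] [Field K] [Algebra k K]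

theorem deg_dvd_of_forall_val_pow_sub_lt [Finite k] (hK : IsFunctionField k K) (P : Place k K)
    (m : ℕ) (h : ∀ u : K, P.1 u ≤ 1 → P.1 (u ^ (Nat.card k ^ m) - u) < 1) : P.deg ∣ m := by
  haveI := finite_residueField hK P
  unfold Place.deg
  apply finrank_dvd_of_forall_pow_eq
  intro ā
  obtain ⟨a, rfl⟩ := IsLocalRing.residue_surjective ā
  rw [← map_pow, ← sub_eq_zero, ← map_sub, P.residue_eq_zero_iff]
  exact h (a : K) ((Valuation.mem_valuationSubring_iff _ _).mp a.2)

variable {K' : Type*} [Field K'] [Algebra K K'] [Algebra k K'] [IsScalarTower k K K']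

theorem IsOverWith.val_lt_one_iff {Q : Place k K'} {P : Place k K} {e : ℕ}
    (he : IsOverWith Q P e) (x : K) : Q.1 (algebraMap K K' x) < 1 ↔ P.1 x < 1 := by
  rw [he x]; exact pow_lt_one_iff he.pos.ne'

theorem IsOverWith.val_le_one_iff {Q : Place k K'} {P : Place k K} {e : ℕ}
    (he : IsOverWith Q P e) (x : K) : Q.1 (algebraMap K K' x) ≤ 1 ↔ P.1 x ≤ 1 := by
  rw [he x]; exact pow_le_one_iff he.pos.ne'

theorem card_ramGroup_one [FiniteDimensional K K'] [IsGalois K K'] (hK : IsFunctionField k K)
    {Q : Place k K'} {P : Place k K} {e : ℕ} (he : IsOverWith Q P e)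
    [Algebra.IsSeparable k (IsLocalRing.ResidueField Q.O)] :
    Nat.card (ramGroup K Q 1 zero_le_one) = e := by
  rw [← inertia_map_eq_ramGroup Q,
    Subgroup.card_map_of_injective (Subgroup.subtype_injective _)]
  exact card_inertia hK he

theorem eq_one_of_surjective_comap {Q : Place k K'} {P : Place k K} {e : ℕ}
    (he : IsOverWith Q P e) (hs : Function.Surjective (Q.1.comap (algebraMap K K'))) : e = 1 := by
  obtain ⟨x, hx⟩ := hs (exp (-1 : ℤ))
  have hx' : Q.1 (algebraMap K K' x) = exp (-1 : ℤ) := hx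
  rw [he x] at hx'
  have h1 : (exp (-1 : ℤ) : ℤᵐ⁰) ^ 1 ∈ Set.range (fun γ : ℤᵐ⁰ => γ ^ e) := ⟨P.1 x, by
    show P.1 x ^ e = _
    rw [hx', pow_one]⟩
  exact Nat.dvd_one.mp (dvd_of_exp_pow_mem_range he.pos h1)

end Helpers

section Fiber

variable {k : Type u} {k' : Type u'} {E : Type v} {E' : Type v'} [Field k] [Field k'] [Field E]
    [Field E'] [Algebra k k'] [Algebra k E] [Algebra E E'] [Algebra k' E'] [Algebra k E']
    [IsScalarTower k k' E'] [IsScalarTower k E E'] [Finite k] [FiniteDimensional k k']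

theorem gcd_mul_deg_eq
    (h : Function.Bijective (Algebra.TensorProduct.productMap
      (IsScalarTower.toAlgHom k k' E') (IsScalarTower.toAlgHom k E E')))
    (hE : IsFunctionField k E) (Q : Place k' E') (R : Place k E)
    (hQR : IsOver (Q.restrictScalars k) R) :
    Nat.gcd R.deg (finrank k k') * Q.deg = R.deg := by
  have hnpos : 0 < finrank k k' := finrank_pos
  have h1 := Place.deg_restrictScalars (k := k) Q
  rw [deg_eq_lcm_of_isOver h hE hQR] at h1
  have h2 := Nat.gcd_mul_lcm R.deg (finrank k k')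
  rw [h1] at h2
  have h3 : Nat.gcd R.deg (finrank k k') * Q.deg * finrank k k' = R.deg * finrank k k' := by
    rw [← h2]
    ring
  exact Nat.eq_of_mul_eq_mul_right hnpos h3

theorem card_fiber_constExt
    (h : Function.Bijective (Algebra.TensorProduct.productMap
      (IsScalarTower.toAlgHom k k' E') (IsScalarTower.toAlgHom k E E')))
    (hE : IsFunctionField k E) (R : Place k E) (Qs : Finset (Place k' E'))
    (hQs : ∀ Q, Q ∈ Qs ↔ IsOver (Q.restrictScalars k) R) :
    Qs.card = Nat.gcd R.deg (finrank k k') := by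
  classical
  haveI : FiniteDimensional E E' := finiteDimensional_constExt h
  haveI : Algebra.IsAlgebraic k k' := Algebra.IsAlgebraic.of_finite k k'
  have hext_inj : Function.Injective (Place.extendScalars k' : Place k E' → Place k' E') :=
    Function.LeftInverse.injective (g := Place.restrictScalars k)
      (fun Q => Place.restrictScalars_extendScalars Q)
  have hfin := finite_isOver (K' := E') hE R
  have hQs' : Qs = hfin.toFinset.image (Place.extendScalars k') := by
    ext Q
    rw [hQs, Finset.mem_image]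
    constructor
    · intro hQ
      exact ⟨Q.restrictScalars k, hfin.mem_toFinset.mpr hQ, Place.extendScalars_restrictScalars Q⟩
    · rintro ⟨Q₀, hQ₀, rfl⟩
      rw [Place.restrictScalars_extendScalars]
      exact hfin.mem_toFinset.mp hQ₀
  rw [hQs', Finset.card_image_of_injective _ hext_inj]
  exact card_isOver h hE R _ (fun Q => hfin.mem_toFinset)

end Fiber

section Galois

variable {k : Type u} {k' : Type u'} {F : Type w} {E : Type v} {E' : Type v'}
    [Field k] [Finite k] [Field k'] [Field F] [Field E] [Field E']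
    [Algebra k k'] [FiniteDimensional k k'] [Algebra k F] [Algebra k E] [Algebra F E]
    [IsScalarTower k F E] [FiniteDimensional F E] [IsGalois F E]
    [Algebra E E'] [Algebra k' E'] [Algebra k E'] [IsScalarTower k k' E'] [IsScalarTower k E E']
    [Algebra F E'] [IsScalarTower F E E'] [IsScalarTower k F E']

theorem adjoin_eq_top_constExt
    (h : Function.Bijective (Algebra.TensorProduct.productMap
      (IsScalarTower.toAlgHom k k' E') (IsScalarTower.toAlgHom k E E'))) :
    IntermediateField.adjoin F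
      (Set.range (algebraMap E E') ∪ Set.range (algebraMap k' E')) = ⊤ := by
  rw [eq_top_iff]
  intro y _
  refine constExt_induction h
    (motive := fun y => y ∈ IntermediateField.adjoin F
      (Set.range (algebraMap E E') ∪ Set.range (algebraMap k' E'))) (zero_mem _) ?_
    (fun x y hx hy => add_mem hx hy) y
  intro c e
  exact mul_mem (IntermediateField.subset_adjoin F _ (Or.inr ⟨c, rfl⟩))
    (IntermediateField.subset_adjoin F _ (Or.inl ⟨e, rfl⟩))

theorem finiteDimensional_constExt_base
    (h : Function.Bijective (Algebra.TensorProduct.productMap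
      (IsScalarTower.toAlgHom k k' E') (IsScalarTower.toAlgHom k E E'))) :
    FiniteDimensional F E' := by
  haveI : FiniteDimensional E E' := finiteDimensional_constExt h
  exact FiniteDimensional.trans F E E'

theorem isGalois_constExt
    (h : Function.Bijective (Algebra.TensorProduct.productMap
      (IsScalarTower.toAlgHom k k' E') (IsScalarTower.toAlgHom k E E'))) :
    IsGalois F E' := by
  haveI : Finite k' := Module.finite_of_finite k
  haveI : FiniteDimensional F E' := finiteDimensional_constExt_base h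
  have hgen := adjoin_eq_top_constExt (F := F) h
  have hS : ∀ x ∈ Set.range (algebraMap E E') ∪ Set.range (algebraMap k' E'),
      IsIntegral F x ∧ ((minpoly F x).map (algebraMap F E')).Splits ∧ IsSeparable F x := by
    rintro x (⟨e, rfl⟩ | ⟨c, rfl⟩)
    · have hint : IsIntegral F e := Algebra.IsIntegral.isIntegral e
      refine ⟨hint.algebraMap, ?_, ?_⟩
      · rw [minpoly.algebraMap_eq (algebraMap E E').injective, IsScalarTower.algebraMap_eq F E E',
          ← Polynomial.map_map]
        exact (Normal.splits inferInstance e).map _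
      · show (minpoly F (algebraMap E E' e)).Separable
        rw [minpoly.algebraMap_eq (algebraMap E E').injective]
        exact Algebra.IsSeparable.isSeparable F e
    · have hintk : IsIntegral k c := Algebra.IsIntegral.isIntegral c
      have hdvd := minpoly.dvd_map_of_isScalarTower' k F E' c
      have hint : IsIntegral F (algebraMap k' E' c) := by
        have h1 : IsIntegral k (algebraMap k' E' c) := hintk.algebraMap
        exact h1.tower_top
      refine ⟨hint, ?_, ?_⟩
      · have h1 : ((minpoly k c).map (algebraMap k k')).Splits := Normal.splits inferInstance c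
        have h2 : (((minpoly k c).map (algebraMap k F)).map (algebraMap F E')).Splits := by
          rw [Polynomial.map_map, ← IsScalarTower.algebraMap_eq k F E',
            IsScalarTower.algebraMap_eq k k' E', ← Polynomial.map_map]
          exact h1.map _
        refine h2.of_dvd ?_ (Polynomial.map_dvd _ hdvd)
        exact (Polynomial.map_ne_zero_iff (algebraMap F E').injective).mpr
          ((Polynomial.map_ne_zero_iff (algebraMap k F).injective).mpr (minpoly.ne_zero hintk))
      · show (minpoly F (algebraMap k' E' c)).Separable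
        exact (Polynomial.Separable.map
          (Algebra.IsSeparable.isSeparable k c : (minpoly k c).Separable)).of_dvd hdvd
  have hnormal : Normal F E' := by
    rw [normal_iff]
    intro x
    have hx : x ∈ IntermediateField.adjoin F
        (Set.range (algebraMap E E') ∪ Set.range (algebraMap k' E')) := by
      rw [hgen]; trivial
    exact ⟨Algebra.IsIntegral.isIntegral x,
      IntermediateField.splits_of_mem_adjoin F E' (fun s hs => ⟨(hS s hs).1, (hS s hs).2.1⟩) hx⟩
  have hsep : Algebra.IsSeparable F E' := by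
    rw [← IntermediateField.isSeparable_top, ← hgen,
      IntermediateField.isSeparable_adjoin_iff_isSeparable]
    exact fun s hs => (hS s hs).2.2
  exact isGalois_iff.mpr ⟨hsep, hnormal⟩

/-- The number of rational places fixed by a map. -/
noncomputable def nFix (k' : Type*) {E' : Type*} [Field k'] [Field E'] [Algebra k' E']
    (f : E' → E') : ℕ :=
  Nat.card {Q : Place k' E' // Q.deg = 1 ∧ ∀ y, Q.1 (f y) = Q.1 y}

theorem deg_below_dvd
    (hF : IsFunctionField k F) {m : ℕ} (Q : Place k' E') (hQ1 : Q.deg = 1) (R : Place k E)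
    (hQR : IsOver (Q.restrictScalars k) R) (P : Place k F) (hRP : IsOver R P)
    (τ : E' ≃ₐ[F] E')
    (hτ : ∀ c : k', τ (algebraMap k' E' c) = algebraMap k' E' (c ^ (Nat.card k ^ m)))
    (hfix : ∀ y, Q.1 (τ y) = Q.1 y) : P.deg ∣ m := by
  apply deg_dvd_of_forall_val_pow_sub_lt hF P m
  intro u hu
  obtain ⟨e₁, he₁⟩ := hRP
  obtain ⟨e₂, he₂⟩ := hQR
  have hval : ∀ x : F, Q.1 (algebraMap F E' x) = P.1 x ^ (e₁ * e₂) := by
    intro x
    rw [IsScalarTower.algebraMap_apply F E E' x]
    have h1 : Q.1 (algebraMap E E' (algebraMap F E x)) = R.1 (algebraMap F E x) ^ e₂ :=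
      he₂ (algebraMap F E x)
    rw [h1, he₁ x, pow_mul]
  have hpos : e₁ * e₂ ≠ 0 := (Nat.mul_pos he₁.pos he₂.pos).ne'
  obtain ⟨U, hU⟩ : ∃ U : E', U = algebraMap F E' u := ⟨_, rfl⟩
  have hQU : Q.1 U ≤ 1 := by rw [hU, hval]; exact pow_le_one' hu _
  obtain ⟨c, hc⟩ := exists_sub_algebraMap_lt_one_of_deg_one Q hQ1 hQU
  have h1 : Q.1 (U - algebraMap k' E' (c ^ (Nat.card k ^ m))) < 1 := by
    have e : U - algebraMap k' E' (c ^ (Nat.card k ^ m)) = τ (U - algebraMap k' E' c) := by
      rw [map_sub, hτ, hU, τ.commutes]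
    rw [e, hfix]; exact hc
  have h2 : Q.1 (U ^ (Nat.card k ^ m) - algebraMap k' E' (c ^ (Nat.card k ^ m))) < 1 :=
    val_pow_sub_lt Q hc _
  have h3 : Q.1 (U ^ (Nat.card k ^ m) - U) < 1 := by
    have e : U ^ (Nat.card k ^ m) - U =
        (U ^ (Nat.card k ^ m) - algebraMap k' E' (c ^ (Nat.card k ^ m))) -
          (U - algebraMap k' E' (c ^ (Nat.card k ^ m))) := by ring
    rw [e]
    exact (Q.1.map_sub _ _).trans_lt (max_lt h2 h1)
  have h4 : U ^ (Nat.card k ^ m) - U = algebraMap F E' (u ^ (Nat.card k ^ m) - u) := by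
    rw [hU, map_sub, map_pow]
  rw [h4, hval] at h3
  exact (pow_lt_one_iff hpos).mp h3

theorem card_fixing_le_ramIdx
    (h : Function.Bijective (Algebra.TensorProduct.productMap
      (IsScalarTower.toAlgHom k k' E') (IsScalarTower.toAlgHom k E E')))
    (hF : IsFunctionField k F) {m : ℕ} (Q : Place k' E') (hQ1 : Q.deg = 1) (R : Place k E)
    (hQR : IsOver (Q.restrictScalars k) R) (P : Place k F) (hRP : IsOver R P)
    (𝒯 : Finset (E' ≃ₐ[F] E'))
    (h𝒯 : ∀ τ ∈ 𝒯, (∀ c : k', τ (algebraMap k' E' c) = algebraMap k' E' (c ^ (Nat.card k ^ m))) ∧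
      ∀ y, Q.1 (τ y) = Q.1 y) :
    𝒯.card ≤ ramIdx R P := by
  classical
  rcases 𝒯.eq_empty_or_nonempty with rfl | ⟨τ₁, hτ₁⟩
  · simp
  have hfd : FiniteDimensional k (IsLocalRing.ResidueField R.O) := by
    haveI : Algebra.IsAlgebraic F E := Algebra.IsAlgebraic.of_finite F E
    exact finiteDimensional_residueField_ext hF R
  haveI : Algebra.IsAlgebraic k (IsLocalRing.ResidueField R.O) :=
    @Algebra.IsAlgebraic.of_finite k _ _ _ _ _ hfd
  haveI : Algebra.IsSeparable k (IsLocalRing.ResidueField R.O) :=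
    Algebra.IsAlgebraic.isSeparable_of_perfectField
  have hcard := card_ramGroup_one hF hRP.isOverWith_ramIdx
  haveI : FiniteDimensional F E' := finiteDimensional_constExt_base h
  let res := AlgEquiv.restrictNormalHom (F := F) (K₁ := E') E
  have hres : ∀ (γ : E' ≃ₐ[F] E') (x : E), algebraMap E E' (res γ x) = γ (algebraMap E E' x) :=
    fun γ x => AlgEquiv.restrictNormal_commutes γ E x
  obtain ⟨e₂, he₂⟩ := hQR
  have hmem : ∀ τ ∈ 𝒯, res (τ₁⁻¹ * τ) ∈ ramGroup F R 1 zero_le_one := by
    intro τ hτ
    rw [mem_ramGroup]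
    intro x hx
    have hQX : Q.1 (algebraMap E E' x) ≤ 1 := by
      have h1 : Q.1 (algebraMap E E' x) = R.1 x ^ e₂ := he₂ x
      rw [h1]; exact pow_le_one' hx _
    obtain ⟨c, hc⟩ := exists_sub_algebraMap_lt_one_of_deg_one Q hQ1 hQX
    obtain ⟨γ, hγ⟩ : ∃ γ : E' ≃ₐ[F] E', γ = τ₁⁻¹ * τ := ⟨_, rfl⟩
    rw [← hγ]
    have hγc : γ (algebraMap k' E' c) = algebraMap k' E' c := by
      rw [hγ, AlgEquiv.mul_apply, (h𝒯 τ hτ).1, ← (h𝒯 τ₁ hτ₁).1]
      exact τ₁.symm_apply_apply _
    have hγfix : ∀ y, Q.1 (γ y) = Q.1 y := by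
      intro y
      rw [hγ, AlgEquiv.mul_apply, ← (h𝒯 τ₁ hτ₁).2 (τ₁⁻¹ (τ y))]
      rw [show τ₁ (τ₁⁻¹ (τ y)) = τ y from τ₁.apply_symm_apply _]
      exact (h𝒯 τ hτ).2 y
    have h1 : Q.1 (γ (algebraMap E E' x) - algebraMap k' E' c) < 1 := by
      rw [← hγc, ← map_sub, hγfix]; exact hc
    have h2 : Q.1 (γ (algebraMap E E' x) - algebraMap E E' x) < 1 := by
      have e : γ (algebraMap E E' x) - algebraMap E E' x =
          (γ (algebraMap E E' x) - algebraMap k' E' c) -
            (algebraMap E E' x - algebraMap k' E' c) := by ring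
      rw [e]; exact (Q.1.map_sub _ _).trans_lt (max_lt h1 hc)
    rw [← hres, ← map_sub] at h2
    have h3 : Q.1 (algebraMap E E' (res γ x - x)) = R.1 (res γ x - x) ^ e₂ := he₂ _
    rw [h3] at h2
    exact (lt_one_iff_le_exp_neg_one _).mp ((pow_lt_one_iff he₂.pos.ne').mp h2)
  let f : {τ // τ ∈ 𝒯} → ramGroup F R 1 zero_le_one :=
    fun τ => ⟨res (τ₁⁻¹ * τ.1), hmem τ.1 τ.2⟩
  have hinj : Function.Injective f := by
    intro τ τ' hff
    have h1 : res (τ₁⁻¹ * τ.1) = res (τ₁⁻¹ * τ'.1) := congrArg Subtype.val hff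
    rw [map_mul, map_mul] at h1
    have h2 : res τ.1 = res τ'.1 := mul_left_cancel h1
    apply Subtype.ext
    have h3 : (τ.1.toAlgHom.toRingHom : E' →+* E') = τ'.1.toAlgHom.toRingHom := by
      apply ringHom_ext_constExt h
      · intro e
        show τ.1 (algebraMap E E' e) = τ'.1 (algebraMap E E' e)
        rw [← hres, ← hres, h2]
      · intro c
        show τ.1 (algebraMap k' E' c) = τ'.1 (algebraMap k' E' c)
        rw [(h𝒯 τ.1 τ.2).1, (h𝒯 τ'.1 τ'.2).1]
    exact AlgEquiv.ext (fun y => RingHom.congr_fun h3 y)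
  have hle := Nat.card_le_card_of_injective f hinj
  rw [hcard, Nat.card_eq_fintype_card, Fintype.card_coe] at hle
  exact hle

theorem exists_fixing
    (h : Function.Bijective (Algebra.TensorProduct.productMap
      (IsScalarTower.toAlgHom k k' E') (IsScalarTower.toAlgHom k E E')))
    (hF : IsFunctionField k F) (hE : IsFunctionField k E) {m : ℕ}
    (Q : Place k' E') (hQ1 : Q.deg = 1) (R : Place k E)
    (hQR : IsOver (Q.restrictScalars k) R) (P : Place k F) (hRP : IsOverWith R P 1)
    (hPm : P.deg ∣ m) :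
    ∃ τ : E' ≃ₐ[F] E',
      (∀ c : k', τ (algebraMap k' E' c) = algebraMap k' E' (c ^ (Nat.card k ^ m))) ∧
      ∀ y, Q.1 (τ y) = Q.1 y := by
  classical
  haveI : Finite k' := Module.finite_of_finite k
  haveI := Fintype.ofFinite k
  haveI : FiniteDimensional E E' := finiteDimensional_constExt h
  haveI : FiniteDimensional F E' := finiteDimensional_constExt_base h
  haveI : IsGalois F E' := isGalois_constExt h
  obtain ⟨Qk, hQk⟩ : ∃ Qk : Place k E', Qk = Q.restrictScalars k := ⟨_, rfl⟩
  have hQkval : ∀ y, Qk.1 y = Q.1 y := fun y => by rw [hQk]; rfl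
  rw [← hQk] at hQR
  have hQkR : IsOverWith Qk R 1 := isOverWith_one_of_isOver h hE hQR
  have hQkP : IsOverWith Qk P 1 := by
    have h1 := hQkR.trans hRP
    simpa using h1
  have hfd : FiniteDimensional k (IsLocalRing.ResidueField Qk.O) := by
    haveI : Algebra.IsAlgebraic F E' := Algebra.IsAlgebraic.of_finite F E'
    exact finiteDimensional_residueField_ext hF Qk
  haveI : Algebra.IsAlgebraic k (IsLocalRing.ResidueField Qk.O) :=
    @Algebra.IsAlgebraic.of_finite k _ _ _ _ _ hfd
  haveI : Algebra.IsSeparable k (IsLocalRing.ResidueField Qk.O) :=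
    Algebra.IsAlgebraic.isSeparable_of_perfectField
  have hD := card_decomposition_mul_deg hF hQkP
  have hQkdeg : Qk.deg = finrank k k' := by
    rw [hQk, Place.deg_restrictScalars, hQ1, mul_one]
  rw [one_mul, hQkdeg] at hD
  let ρ : (E' ≃ₐ[F] E') →* (k' ≃ₐ[k] k') :=
    (AlgEquiv.restrictNormalHom (F := k) (K₁ := E') k').comp (AlgEquiv.restrictScalarsHom k)
  have hρ : ∀ (γ : E' ≃ₐ[F] E') (c : k'), algebraMap k' E' (ρ γ c) = γ (algebraMap k' E' c) :=
    fun γ c => AlgEquiv.restrictNormal_commutes (γ.restrictScalars k) k' c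
  obtain ⟨D, hDdef⟩ : ∃ D : Subgroup (E' ≃ₐ[F] E'), D = Qk.O.decompositionSubgroup F :=
    ⟨_, rfl⟩
  rw [← hDdef] at hD
  have hDfix : ∀ δ ∈ D, ∀ y, Q.1 (δ y) = Q.1 y := by
    intro δ hδ y
    rw [hDdef] at hδ
    have h1 := (mem_decomposition_iff Qk δ).mp hδ
    have h2 : (Qk.comapAlgEquiv δ).1 y = Qk.1 y := by rw [h1]
    rw [Place.comapAlgEquiv_apply, hQkval, hQkval] at h2
    exact h2
  have hinj : ∀ δ ∈ D, ρ δ = 1 → δ = 1 := by
    intro δ hδ h1
    have hmem : δ ∈ ramGroup F Qk 1 zero_le_one := by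
      rw [mem_ramGroup]
      intro y hy
      rw [hQkval] at hy ⊢
      obtain ⟨c, hc⟩ := exists_sub_algebraMap_lt_one_of_deg_one Q hQ1 hy
      have hδc : δ (algebraMap k' E' c) = algebraMap k' E' c := by
        rw [← hρ, h1]; rfl
      have h2 : Q.1 (δ y - algebraMap k' E' c) < 1 := by
        rw [← hδc, ← map_sub, hDfix δ hδ]; exact hc
      have e : δ y - y = (δ y - algebraMap k' E' c) - (y - algebraMap k' E' c) := by ring
      rw [e]
      exact (lt_one_iff_le_exp_neg_one _).mp ((Q.1.map_sub _ _).trans_lt (max_lt h2 hc))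
    have hcard := card_ramGroup_one hF hQkP
    have hbot : ramGroup F Qk 1 zero_le_one = ⊥ := Subgroup.eq_bot_of_card_eq _ hcard
    rw [hbot, Subgroup.mem_bot] at hmem
    exact hmem
  let ρD : D →* (k' ≃ₐ[k] k') := ρ.comp D.subtype
  have hρDinj : Function.Injective ρD := by
    rw [injective_iff_map_eq_one]
    intro δ hδ
    exact Subtype.ext (hinj δ.1 δ.2 hδ)
  have hcardrange : Nat.card ρD.range = Nat.card D :=
    (Nat.card_congr (MonoidHom.ofInjective hρDinj).toEquiv).symm
  have hidx : ρD.range.index * Nat.card ρD.range = finrank k k' := by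
    rw [mul_comm, Subgroup.card_mul_index, IsGalois.card_aut_eq_finrank]
  have hidx' : ρD.range.index = P.deg := by
    rw [hcardrange] at hidx
    have hpos : 0 < Nat.card D := Nat.card_pos
    apply Nat.eq_of_mul_eq_mul_right hpos
    rw [hidx, mul_comm, hD]
  haveI : ρD.range.Normal := ⟨fun x hx g => by
    obtain ⟨g₀, hg₀⟩ := IsCyclic.exists_generator (α := k' ≃ₐ[k] k')
    obtain ⟨a, rfl⟩ := hg₀ x
    obtain ⟨b, rfl⟩ := hg₀ g
    have hc : g₀ ^ b * g₀ ^ a * (g₀ ^ b)⁻¹ = g₀ ^ a := by
      rw [zpow_mul_comm g₀ b a, mul_assoc, mul_inv_cancel, mul_one]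
    rw [hc]
    exact hx⟩
  let frob := FiniteField.frobeniusAlgEquivOfAlgebraic k k'
  have hfrob : frob ^ P.deg ∈ ρD.range := hidx' ▸ Subgroup.pow_index_mem ρD.range frob
  obtain ⟨j, hj⟩ := hPm
  have hfrobm : frob ^ m ∈ ρD.range := by
    rw [hj, pow_mul]; exact Subgroup.pow_mem _ hfrob j
  obtain ⟨δ, hδ⟩ := hfrobm
  refine ⟨δ.1, ?_, hDfix δ.1 δ.2⟩
  intro c
  have h1 : ρ δ.1 = frob ^ m := hδ
  rw [← hρ, h1]
  congr 1
  show (frob ^ m) c = c ^ (Nat.card k ^ m)
  rw [AlgEquiv.coe_pow, FiniteField.coe_frobeniusAlgEquivOfAlgebraic_iterate,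
    Nat.card_eq_fintype_card]

end Galois

end FunFld
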