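import Mathlib
import Groth.Agent.Lib.FunFldRHB_helper2

/-! Riemann hypothesis for function fields, part C (helper2): the two counting inequalities for
places fixed by twisted Frobenius automorphisms. -/

open WithZero Module Polynomial TensorProduct
open scoped Pointwise

namespace FunFld

universe u u' w v v'

section Fiber

variable {k : Type u} {k' : Type u'} {E : Type v} {E' : Type v'} [Field k] [Field k'] [Field E]
    [Field E'] [Algebra k k'] [Algebra k E] [Algebra E E'] [Algebra k' E'] [Algebra k E']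
    [IsScalarTower k k' E'] [IsScalarTower k E E'] [Finite k] [FiniteDimensional k k']

theorem exists_fiber_finset
    (h : Function.Bijective (Algebra.TensorProduct.productMap
      (IsScalarTower.toAlgHom k k' E') (IsScalarTower.toAlgHom k E E')))
    (hE : IsFunctionField k E) (R : Place k E) :
    ∃ Qs : Finset (Place k' E'), (∀ Q, Q ∈ Qs ↔ IsOver (Q.restrictScalars k) R) ∧
      Qs.card = Nat.gcd R.deg (finrank k k') := by
  classical
  haveI : FiniteDimensional E E' := finiteDimensional_constExt h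
  haveI : Algebra.IsAlgebraic k k' := Algebra.IsAlgebraic.of_finite k k'
  have hfin := finite_isOver (K' := E') hE R
  have hmem : ∀ Q, Q ∈ hfin.toFinset.image (Place.extendScalars k') ↔
      IsOver (Q.restrictScalars k) R := by
    intro Q
    rw [Finset.mem_image]
    constructor
    · rintro ⟨Q₀, hQ₀, rfl⟩
      rw [Place.restrictScalars_extendScalars]
      exact hfin.mem_toFinset.mp hQ₀
    · intro hQ
      exact ⟨Q.restrictScalars k, hfin.mem_toFinset.mpr hQ, Place.extendScalars_restrictScalars Q⟩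
  exact ⟨_, hmem, card_fiber_constExt h hE R _ hmem⟩

end Fiber

section Count

variable {k : Type u} {k' : Type u'} {F : Type w} {E : Type v} {E' : Type v'}
    [Field k] [Finite k] [Field k'] [Field F] [Field E] [Field E']
    [Algebra k k'] [FiniteDimensional k k'] [Algebra k F] [Algebra k E] [Algebra F E]
    [IsScalarTower k F E] [FiniteDimensional F E] [IsGalois F E]
    [Algebra E E'] [Algebra k' E'] [Algebra k E'] [IsScalarTower k k' E'] [IsScalarTower k E E']
    [Algebra F E'] [IsScalarTower F E E'] [IsScalarTower k F E']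

open scoped Classical in
theorem nFix_eq_card_filter [Finite k'] (hE' : IsFunctionField k' E') (f : E' → E') :
    nFix k' f = ((placesLE hE' 1).filter
      (fun Q => Q.deg = 1 ∧ ∀ y, Q.1 (f y) = Q.1 y)).card := by
  classical
  unfold nFix
  apply natCard_subtype_eq_card
  intro Q
  rw [Finset.mem_filter, mem_placesLE]
  exact ⟨fun h => h.2, fun h => ⟨h.1.le, h⟩⟩

open scoped Classical in
theorem sum_nFix_eq [Finite k'] (hE' : IsFunctionField k' E') (𝒯 : Finset (E' ≃ₐ[F] E')) :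
    ∑ τ ∈ 𝒯, nFix k' ⇑τ = ∑ Q ∈ (placesLE hE' 1).filter (fun Q => Q.deg = 1),
      (𝒯.filter (fun τ : E' ≃ₐ[F] E' => ∀ y, Q.1 (τ y) = Q.1 y)).card := by
  classical
  have h1 : ∀ τ ∈ 𝒯, nFix k' ⇑τ = ∑ Q ∈ (placesLE hE' 1).filter (fun Q => Q.deg = 1),
      if (∀ y, Q.1 (τ y) = Q.1 y) then 1 else 0 := by
    intro τ _
    rw [nFix_eq_card_filter hE', ← Finset.card_filter, Finset.filter_filter]
  rw [Finset.sum_congr rfl h1, Finset.sum_comm]
  refine Finset.sum_congr rfl (fun Q _ => ?_)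
  rw [Finset.card_filter]

theorem sum_nFix_le
    (h : Function.Bijective (Algebra.TensorProduct.productMap
      (IsScalarTower.toAlgHom k k' E') (IsScalarTower.toAlgHom k E E')))
    (hF : IsFunctionField k F) (hE : IsFunctionField k E) (hE' : IsFunctionField k' E')
    {m : ℕ} (hm : 0 < m) (𝒯 : Finset (E' ≃ₐ[F] E'))
    (h𝒯 : ∀ τ ∈ 𝒯, ∀ c : k', τ (algebraMap k' E' c) = algebraMap k' E' (c ^ (Nat.card k ^ m))) :
    ∑ τ ∈ 𝒯, nFix k' ⇑τ ≤ finrank F E * Ncount hF m := by
  classical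
  haveI : Finite k' := Module.finite_of_finite k
  haveI : FiniteDimensional E E' := finiteDimensional_constExt h
  haveI : Algebra.IsAlgebraic E E' := Algebra.IsAlgebraic.of_finite E E'
  haveI : Algebra.IsAlgebraic F E := Algebra.IsAlgebraic.of_finite F E
  rw [sum_nFix_eq hE']
  obtain ⟨X', hX'⟩ : ∃ X' : Finset (Place k' E'),
      X' = (placesLE hE' 1).filter (fun Q => Q.deg = 1) := ⟨_, rfl⟩
  rw [← hX']
  have hX'mem : ∀ Q, Q ∈ X' → Q.deg = 1 := fun Q hQ => by
    rw [hX', Finset.mem_filter] at hQ; exact hQ.2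
  choose bE hbE using fun Q : Place k' E' => exists_isOver hE (Q.restrictScalars k)
  choose bF hbF using fun R : Place k E => exists_isOver hF R
  obtain ⟨cQ, hcQ⟩ : ∃ cQ : Place k' E' → ℕ,
      ∀ Q, cQ Q = (𝒯.filter (fun τ : E' ≃ₐ[F] E' => ∀ y, Q.1 (τ y) = Q.1 y)).card := ⟨_, fun _ => rfl⟩
  simp only [← hcQ]
  have hA : ∀ Q ∈ X', cQ Q ≤ ramIdx (bE Q) (bF (bE Q)) := by
    intro Q hQ
    rw [hcQ]
    exact card_fixing_le_ramIdx h hF Q (hX'mem Q hQ) (bE Q) (hbE Q) (bF (bE Q)) (hbF _) _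
      (fun τ hτ => by
        rw [Finset.mem_filter] at hτ
        exact ⟨h𝒯 τ hτ.1, hτ.2⟩)
  have hB : ∀ Q ∈ X', 0 < cQ Q → (bF (bE Q)).deg ∣ m := by
    intro Q hQ hpos
    rw [hcQ, Finset.card_pos] at hpos
    obtain ⟨τ, hτ⟩ := hpos
    rw [Finset.mem_filter] at hτ
    exact deg_below_dvd hF Q (hX'mem Q hQ) (bE Q) (hbE Q) _ (hbF _) τ (h𝒯 τ hτ.1) hτ.2
  obtain ⟨PF, hPF⟩ : ∃ PF : Finset (Place k F),
      PF = (placesLE hF m).filter (fun P => P.deg ∣ m) := ⟨_, rfl⟩
  have hNc : Ncount hF m = ∑ P ∈ PF, P.deg := by rw [hPF]; rfl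
  have h1 : ∑ Q ∈ X', cQ Q ≤
      ∑ Q ∈ X'.filter (fun Q => bF (bE Q) ∈ PF), ramIdx (bE Q) (bF (bE Q)) := by
    rw [Finset.sum_filter]
    apply Finset.sum_le_sum
    intro Q hQ
    split_ifs with hmem
    · exact hA Q hQ
    · by_contra hne
      push Not at hne
      apply hmem
      have hd := hB Q hQ hne
      rw [hPF, Finset.mem_filter, mem_placesLE]
      exact ⟨Nat.le_of_dvd hm hd, hd⟩
  have h2 : ∑ Q ∈ X'.filter (fun Q => bF (bE Q) ∈ PF), ramIdx (bE Q) (bF (bE Q)) =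
      ∑ P ∈ PF, ∑ Q ∈ (X'.filter (fun Q => bF (bE Q) ∈ PF)).filter (fun Q => bF (bE Q) = P),
        ramIdx (bE Q) (bF (bE Q)) :=
    (Finset.sum_fiberwise_of_maps_to (fun Q hQ => (Finset.mem_filter.mp hQ).2) _).symm
  have h3 : ∀ P ∈ PF,
      ∑ Q ∈ (X'.filter (fun Q => bF (bE Q) ∈ PF)).filter (fun Q => bF (bE Q) = P),
        ramIdx (bE Q) (bF (bE Q)) ≤ finrank F E * P.deg := by
    intro P _
    have hfinR := finite_isOver (K' := E) hF P
    obtain ⟨Rs, hRs⟩ : ∃ Rs : Finset (Place k E), Rs = hfinR.toFinset := ⟨_, rfl⟩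
    have hRsmem : ∀ R, R ∈ Rs ↔ IsOver R P := fun R => by rw [hRs]; exact hfinR.mem_toFinset
    obtain ⟨A, hAdef⟩ : ∃ A : Finset (Place k' E'),
        A = (X'.filter (fun Q => bF (bE Q) ∈ PF)).filter (fun Q => bF (bE Q) = P) := ⟨_, rfl⟩
    rw [← hAdef]
    have hAmem : ∀ Q ∈ A, bF (bE Q) = P := fun Q hQ => by
      rw [hAdef, Finset.mem_filter] at hQ; exact hQ.2
    have hmaps : ∀ Q ∈ A, bE Q ∈ Rs := fun Q hQ => by
      rw [hRsmem, ← hAmem Q hQ]; exact hbF _
    rw [← Finset.sum_fiberwise_of_maps_to hmaps]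
    calc ∑ R ∈ Rs, ∑ Q ∈ A.filter (fun Q => bE Q = R), ramIdx (bE Q) (bF (bE Q))
        ≤ ∑ R ∈ Rs, ramIdx R P * R.deg := by
          apply Finset.sum_le_sum
          intro R _
          have hconst : ∀ Q ∈ A.filter (fun Q => bE Q = R),
              ramIdx (bE Q) (bF (bE Q)) = ramIdx R P := by
            intro Q hQ
            rw [Finset.mem_filter] at hQ
            rw [hAmem Q hQ.1, hQ.2]
          rw [Finset.sum_congr rfl hconst, Finset.sum_const, smul_eq_mul, mul_comm]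
          apply Nat.mul_le_mul_left
          obtain ⟨Qs, hQs, hQscard⟩ := exists_fiber_finset h hE R
          have hsub : A.filter (fun Q => bE Q = R) ⊆ Qs := by
            intro Q hQ
            rw [Finset.mem_filter] at hQ
            rw [hQs, ← hQ.2]
            exact hbE Q
          calc (A.filter (fun Q => bE Q = R)).card ≤ Qs.card := Finset.card_le_card hsub
            _ = Nat.gcd R.deg (finrank k k') := hQscard
            _ ≤ R.deg := Nat.gcd_le_left _ (Place.deg_pos hE R)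
      _ = finrank F E * P.deg := sum_ramIdx_mul_deg hF P Rs hRsmem
  calc ∑ Q ∈ X', cQ Q
      ≤ ∑ Q ∈ X'.filter (fun Q => bF (bE Q) ∈ PF), ramIdx (bE Q) (bF (bE Q)) := h1
    _ = _ := h2
    _ ≤ ∑ P ∈ PF, finrank F E * P.deg := Finset.sum_le_sum h3
    _ = finrank F E * Ncount hF m := by rw [hNc, Finset.mul_sum]

theorem le_sum_nFix
    (h : Function.Bijective (Algebra.TensorProduct.productMap
      (IsScalarTower.toAlgHom k k' E') (IsScalarTower.toAlgHom k E E')))
    (hF : IsFunctionField k F) (hE : IsFunctionField k E) (hE' : IsFunctionField k' E')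
    {m d : ℕ} (hm : 0 < m) (hd : finrank F E ∣ d) (hn : finrank k k' = m * d)
    (Bad : Finset (Place k F))
    (hBad : ∀ P : Place k F, P ∉ Bad → ∀ R : Place k E, IsOver R P → IsOverWith R P 1)
    (𝒯 : Finset (E' ≃ₐ[F] E'))
    (h𝒯 : ∀ τ : E' ≃ₐ[F] E',
      (∀ c : k', τ (algebraMap k' E' c) = algebraMap k' E' (c ^ (Nat.card k ^ m))) → τ ∈ 𝒯) :
    finrank F E * Ncount hF m ≤
      ∑ τ ∈ 𝒯, nFix k' ⇑τ + finrank F E * ∑ P ∈ Bad, P.deg := by
  classical
  haveI : Finite k' := Module.finite_of_finite k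
  haveI : FiniteDimensional E E' := finiteDimensional_constExt h
  haveI : Algebra.IsAlgebraic E E' := Algebra.IsAlgebraic.of_finite E E'
  haveI : Algebra.IsAlgebraic F E := Algebra.IsAlgebraic.of_finite F E
  rw [sum_nFix_eq hE']
  obtain ⟨X', hX'⟩ : ∃ X' : Finset (Place k' E'),
      X' = (placesLE hE' 1).filter (fun Q => Q.deg = 1) := ⟨_, rfl⟩
  rw [← hX']
  have hX'mem : ∀ Q, Q ∈ X' ↔ Q.deg = 1 := fun Q => by
    rw [hX', Finset.mem_filter, mem_placesLE]
    exact ⟨fun h => h.2, fun h => ⟨h.le, h⟩⟩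
  choose bE hbE using fun Q : Place k' E' => exists_isOver hE (Q.restrictScalars k)
  choose bF hbF using fun R : Place k E => exists_isOver hF R
  have hbE_eq : ∀ Q R, IsOver (Place.restrictScalars k Q) R → bE Q = R :=
    fun Q R hR => IsOver.unique_below (hbE Q) hR
  have hbF_eq : ∀ R P, IsOver R P → bF R = P := fun R P hP => IsOver.unique_below (hbF R) hP
  obtain ⟨cQ, hcQ⟩ : ∃ cQ : Place k' E' → ℕ,
      ∀ Q, cQ Q = (𝒯.filter (fun τ : E' ≃ₐ[F] E' => ∀ y, Q.1 (τ y) = Q.1 y)).card := ⟨_, fun _ => rfl⟩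
  simp only [← hcQ]
  obtain ⟨PF, hPF⟩ : ∃ PF : Finset (Place k F),
      PF = (placesLE hF m).filter (fun P => P.deg ∣ m) := ⟨_, rfl⟩
  have hNc : Ncount hF m = ∑ P ∈ PF, P.deg := by rw [hPF]; rfl
  obtain ⟨Good, hGood⟩ : ∃ Good : Finset (Place k F), Good = PF.filter (fun P => P ∉ Bad) :=
    ⟨_, rfl⟩
  have hsplit : ∑ P ∈ PF, P.deg ≤ ∑ P ∈ Good, P.deg + ∑ P ∈ Bad, P.deg := by
    rw [hGood, ← Finset.sum_filter_add_sum_filter_not PF (fun P => P ∈ Bad), add_comm]
    apply Nat.add_le_add_left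
    exact Finset.sum_le_sum_of_subset (fun P hP => (Finset.mem_filter.mp hP).2)
  choose Qs hQs hQscard using fun R : Place k E => exists_fiber_finset (k' := k') (E' := E') h hE R
  obtain ⟨S, hS⟩ : ∃ S : Finset (Place k' E'), S = X'.filter (fun Q => bF (bE Q) ∈ Good) :=
    ⟨_, rfl⟩
  -- the fibre bound
  have hfib : ∀ P ∈ Good, finrank F E * P.deg ≤
      ∑ Q ∈ S.filter (fun Q => bF (bE Q) = P), cQ Q := by
    intro P hP
    have hP' := hP
    rw [hGood, Finset.mem_filter, hPF, Finset.mem_filter] at hP'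
    obtain ⟨⟨_, hPm⟩, hPbad⟩ := hP'
    have hfinR := finite_isOver (K' := E) hF P
    obtain ⟨Rs, hRs⟩ : ∃ Rs : Finset (Place k E), Rs = hfinR.toFinset := ⟨_, rfl⟩
    have hRsmem : ∀ R, R ∈ Rs ↔ IsOver R P := fun R => by rw [hRs]; exact hfinR.mem_toFinset
    -- facts about the places over a good place
    have hfacts : ∀ R ∈ Rs, ∀ Q ∈ Qs R, Q.deg = 1 ∧ bF (bE Q) = P ∧ 1 ≤ cQ Q := by
      intro R hR Q hQ
      have hRP : IsOver R P := (hRsmem R).mp hR
      have he : IsOverWith R P 1 := hBad P hPbad R hRP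
      have hQR : IsOver (Q.restrictScalars k) R := (hQs R Q).mp hQ
      have hD := card_decomposition_mul_deg hF he
      rw [one_mul] at hD
      have hdvd1 : Nat.card (R.O.decompositionSubgroup F) ∣ finrank F E := by
        rw [← IsGalois.card_aut_eq_finrank F E]
        exact Subgroup.card_subgroup_dvd_card _
      have hdvd : R.deg ∣ finrank k k' := by
        rw [← hD, hn, mul_comm m d]
        exact Nat.mul_dvd_mul (hdvd1.trans hd) hPm
      have hgcd : Nat.gcd R.deg (finrank k k') = R.deg := Nat.gcd_eq_left hdvd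
      have hQ1 : Q.deg = 1 := by
        have h1 := gcd_mul_deg_eq h hE Q R hQR
        rw [hgcd] at h1
        exact Nat.eq_of_mul_eq_mul_left (Place.deg_pos hE R) (by rw [h1, mul_one])
      refine ⟨hQ1, ?_, ?_⟩
      · rw [hbE_eq Q R hQR]; exact hbF_eq R P hRP
      · obtain ⟨τ, hτ1, hτ2⟩ := exists_fixing h hF hE Q hQ1 R hQR P he hPm
        rw [hcQ]
        exact Finset.card_pos.mpr ⟨τ, Finset.mem_filter.mpr ⟨h𝒯 τ hτ1, hτ2⟩⟩
    have hdisj : ∀ R ∈ Rs, ∀ R' ∈ Rs, R ≠ R' → Disjoint (Qs R) (Qs R') := by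
      intro R _ R' _ hne
      rw [Finset.disjoint_left]
      intro Q hQ hQ'
      exact hne (IsOver.unique_below ((hQs R Q).mp hQ) ((hQs R' Q).mp hQ'))
    have hsub : Rs.biUnion Qs ⊆ S.filter (fun Q => bF (bE Q) = P) := by
      intro Q hQ
      rw [Finset.mem_biUnion] at hQ
      obtain ⟨R, hR, hQR⟩ := hQ
      obtain ⟨h1, h2, -⟩ := hfacts R hR Q hQR
      rw [Finset.mem_filter, hS, Finset.mem_filter, hX'mem, h2]
      exact ⟨⟨h1, hP⟩, rfl⟩
    have hcardB : (Rs.biUnion Qs).card = finrank F E * P.deg := by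
      rw [Finset.card_biUnion hdisj, ← sum_ramIdx_mul_deg hF P Rs hRsmem]
      refine Finset.sum_congr rfl (fun R hR => ?_)
      have hRP : IsOver R P := (hRsmem R).mp hR
      have he : IsOverWith R P 1 := hBad P hPbad R hRP
      have hD := card_decomposition_mul_deg hF he
      rw [one_mul] at hD
      have hdvd1 : Nat.card (R.O.decompositionSubgroup F) ∣ finrank F E := by
        rw [← IsGalois.card_aut_eq_finrank F E]
        exact Subgroup.card_subgroup_dvd_card _
      have hdvd : R.deg ∣ finrank k k' := by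
        rw [← hD, hn, mul_comm m d]
        exact Nat.mul_dvd_mul (hdvd1.trans hd) hPm
      rw [hQscard, Nat.gcd_eq_left hdvd, ramIdx_eq he, one_mul]
    calc finrank F E * P.deg = (Rs.biUnion Qs).card := hcardB.symm
      _ = ∑ Q ∈ Rs.biUnion Qs, 1 := by simp
      _ ≤ ∑ Q ∈ Rs.biUnion Qs, cQ Q := by
          apply Finset.sum_le_sum
          intro Q hQ
          rw [Finset.mem_biUnion] at hQ
          obtain ⟨R, hR, hQR⟩ := hQ
          exact (hfacts R hR Q hQR).2.2
      _ ≤ ∑ Q ∈ S.filter (fun Q => bF (bE Q) = P), cQ Q :=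
          Finset.sum_le_sum_of_subset hsub
  have hSsum : ∑ P ∈ Good, ∑ Q ∈ S.filter (fun Q => bF (bE Q) = P), cQ Q = ∑ Q ∈ S, cQ Q :=
    Finset.sum_fiberwise_of_maps_to (fun Q hQ => by
      rw [hS, Finset.mem_filter] at hQ; exact hQ.2) _
  have hSle : ∑ Q ∈ S, cQ Q ≤ ∑ Q ∈ X', cQ Q :=
    Finset.sum_le_sum_of_subset (by rw [hS]; exact Finset.filter_subset _ _)
  calc finrank F E * Ncount hF m = finrank F E * ∑ P ∈ PF, P.deg := by rw [hNc]
    _ ≤ finrank F E * (∑ P ∈ Good, P.deg + ∑ P ∈ Bad, P.deg) := Nat.mul_le_mul_left _ hsplit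
    _ = ∑ P ∈ Good, finrank F E * P.deg + finrank F E * ∑ P ∈ Bad, P.deg := by
        rw [mul_add, Finset.mul_sum]
    _ ≤ ∑ P ∈ Good, ∑ Q ∈ S.filter (fun Q => bF (bE Q) = P), cQ Q +
          finrank F E * ∑ P ∈ Bad, P.deg := Nat.add_le_add_right (Finset.sum_le_sum hfib) _
    _ = ∑ Q ∈ S, cQ Q + finrank F E * ∑ P ∈ Bad, P.deg := by rw [hSsum]
    _ ≤ ∑ Q ∈ X', cQ Q + finrank F E * ∑ P ∈ Bad, P.deg := Nat.add_le_add_right hSle _

end Count

end FunFld
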