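import Mathlib
import Groth.Agent.Lib.FunFldZetaD_helper2

/-! Zeta function, part B (helper2): the numerator `L_K(t)`: polynomiality, `L(1) = h`, the
functional equation. -/

open WithZero Module Polynomial

namespace FunFld

variable {k K : Type*} [Field k] [Field K] [Algebra k K]

section Coeff

theorem coeff_zetaZ (n : ℕ) : PowerSeries.coeff n (zetaZ k K) = (effDivCount k K n : ℤ) := by
  unfold zetaZ
  rw [PowerSeries.coeff_mk]

theorem numerZ_eq : numerZ k K = zetaZ k K -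
    PowerSeries.C ((Nat.card k : ℤ) + 1) * (PowerSeries.X ^ 1 * zetaZ k K) +
    PowerSeries.C (Nat.card k : ℤ) * (PowerSeries.X ^ 2 * zetaZ k K) := by
  unfold numerZ
  rw [map_add, map_one]
  ring

theorem coeff_numerZ (n : ℕ) : PowerSeries.coeff n (numerZ k K) =
    (effDivCount k K n : ℤ) -
      ((Nat.card k : ℤ) + 1) * (if 1 ≤ n then (effDivCount k K (n - 1) : ℤ) else 0) +
      (Nat.card k : ℤ) * (if 2 ≤ n then (effDivCount k K (n - 2) : ℤ) else 0) := by
  rw [numerZ_eq, map_add, map_sub, PowerSeries.coeff_C_mul, PowerSeries.coeff_C_mul,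
    PowerSeries.coeff_X_pow_mul', PowerSeries.coeff_X_pow_mul', coeff_zetaZ]
  simp only [coeff_zetaZ]

theorem coeff_numerZ_zero : PowerSeries.coeff 0 (numerZ k K) = (effDivCount k K 0 : ℤ) := by
  rw [coeff_numerZ]
  simp

theorem coeff_numerZ_one : PowerSeries.coeff 1 (numerZ k K) =
    (effDivCount k K 1 : ℤ) - ((Nat.card k : ℤ) + 1) * (effDivCount k K 0 : ℤ) := by
  rw [coeff_numerZ]
  simp

theorem coeff_numerZ_add_two (n : ℕ) : PowerSeries.coeff (n + 2) (numerZ k K) =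
    (effDivCount k K (n + 2) : ℤ) - ((Nat.card k : ℤ) + 1) * (effDivCount k K (n + 1) : ℤ) +
      (Nat.card k : ℤ) * (effDivCount k K n : ℤ) := by
  rw [coeff_numerZ]
  simp

theorem sum_coeff_numerZ (M : ℕ) :
    ∑ i ∈ Finset.range (M + 2), PowerSeries.coeff i (numerZ k K) =
      (effDivCount k K (M + 1) : ℤ) - (Nat.card k : ℤ) * (effDivCount k K M : ℤ) := by
  induction M with
  | zero =>
    rw [Finset.sum_range_succ, Finset.sum_range_one, coeff_numerZ_zero, coeff_numerZ_one]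
    ring
  | succ M ih =>
    rw [Finset.sum_range_succ, ih, coeff_numerZ_add_two]
    ring

/-- The number of effective divisors of integer degree `n`. -/
noncomputable def aZ (k K : Type*) [Field k] [Field K] [Algebra k K] (n : ℤ) : ℤ :=
  if 0 ≤ n then (effDivCount k K n.toNat : ℤ) else 0

theorem aZ_sub (i d : ℕ) : aZ k K ((i : ℤ) - d) =
    if d ≤ i then (effDivCount k K (i - d) : ℤ) else 0 := by
  unfold aZ
  by_cases h : d ≤ i
  · rw [if_pos h, if_pos (by omega), Int.toNat_sub]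
  · rw [if_neg h, if_neg (by omega)]

theorem coeff_numerZ_aZ (i : ℕ) : PowerSeries.coeff i (numerZ k K) =
    aZ k K i - ((Nat.card k : ℤ) + 1) * aZ k K ((i : ℤ) - 1) +
      (Nat.card k : ℤ) * aZ k K ((i : ℤ) - 2) := by
  have h0 := aZ_sub (k := k) (K := K) i 0
  have h1 := aZ_sub (k := k) (K := K) i 1
  have h2 := aZ_sub (k := k) (K := K) i 2
  simp only [Nat.cast_zero, sub_zero, Nat.zero_le, if_true, Nat.cast_one, Nat.cast_ofNat,
    Nat.sub_zero] at h0 h1 h2
  rw [h0, h1, h2, coeff_numerZ]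

end Coeff

section Finite

variable [Finite k]

/-- `S(n) = ∑_c q^{ℓ(n D₁ + c)}`. -/
noncomputable def Ssum [Fintype (Cl0 k K)] (D₁ : Divisor k K) (n : ℤ) : ℚ :=
  ∑ c : Cl0 k K,
    (Nat.card k : ℚ) ^ ell (n • D₁ + ((Quotient.out c : (degHom k K).ker) : Divisor k K))

theorem classNum_eq_card [Fintype (Cl0 k K)] : classNum k K = Fintype.card (Cl0 k K) := by
  unfold classNum
  exact Nat.card_eq_fintype_card

theorem aZ_formula (hK : IsFunctionField k K) [Fintype (Cl0 k K)] (D₁ : Divisor k K)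
    (hD₁ : D₁.deg = 1) (n : ℤ) :
    ((Nat.card k : ℚ) - 1) * (aZ k K n : ℚ) = Ssum D₁ n - (classNum k K : ℚ) := by
  have hq : 1 ≤ Nat.card k := Nat.card_pos
  unfold aZ Ssum
  by_cases hn : 0 ≤ n
  · rw [if_pos hn]
    obtain ⟨m, rfl⟩ := Int.eq_ofNat_of_zero_le hn
    rw [Int.toNat_natCast]
    have hdeg : ((m : ℤ) • D₁).deg = (m : ℤ) := by rw [deg_zsmul, hD₁, mul_one]
    have h1 := effDivCount_mul_eq_sum hK m ((m : ℤ) • D₁) hdeg
    have h2 : ((effDivCount k K m * (Nat.card k - 1) : ℕ) : ℚ) =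
        ((∑ c : Cl0 k K, (Nat.card k ^ ell ((m : ℤ) • D₁ +
          ((Quotient.out c : (degHom k K).ker) : Divisor k K)) - 1) : ℕ) : ℚ) := by rw [h1]
    rw [Nat.cast_mul, Nat.cast_sub hq, Nat.cast_sum] at h2
    have h3 : ∀ c : Cl0 k K, ((Nat.card k ^ ell ((m : ℤ) • D₁ +
        ((Quotient.out c : (degHom k K).ker) : Divisor k K)) - 1 : ℕ) : ℚ) =
        (Nat.card k : ℚ) ^ ell ((m : ℤ) • D₁ +
          ((Quotient.out c : (degHom k K).ker) : Divisor k K)) - 1 := fun c => by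
      rw [Nat.cast_sub (Nat.one_le_pow _ _ hq)]
      push_cast
      ring
    simp only [h3, Finset.sum_sub_distrib, Finset.sum_const, Finset.card_univ, nsmul_eq_mul,
      mul_one] at h2
    rw [classNum_eq_card]
    push_cast at h2 ⊢
    linarith
  · rw [if_neg hn]
    push Not at hn
    have h3 : ∀ c : Cl0 k K, ell (n • D₁ +
        ((Quotient.out c : (degHom k K).ker) : Divisor k K)) = 0 := fun c =>
      ell_eq_zero_of_deg_neg hK _ (by rw [deg_add, deg_zsmul, hD₁, deg_out]; linarith)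
    simp only [h3, pow_zero, Finset.sum_const, Finset.card_univ, nsmul_eq_mul, mul_one]
    rw [classNum_eq_card]
    push_cast
    ring

theorem exists_dual_class (hK : IsFunctionField k K) (D₁ : Divisor k K) (hD₁ : D₁.deg = 1) :
    ∃ w : Cl0 k K, ∀ (n : ℤ) (c : Cl0 k K),
      (ell (n • D₁ + ((Quotient.out c : (degHom k K).ker) : Divisor k K)) : ℤ) =
        n + 1 - genus k K +
          ell ((2 * (genus k K : ℤ) - 2 - n) • D₁ +
            ((Quotient.out (w - c) : (degHom k K).ker) : Divisor k K)) := by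
  obtain ⟨W, hW⟩ := exists_isCanonical hK
  have hdW := deg_of_isCanonical hK hW
  have hw0 : (W - (2 * (genus k K : ℤ) - 2) • D₁).deg = 0 := by
    rw [deg_sub, deg_zsmul, hD₁, hdW]
    ring
  refine ⟨clsOf _ hw0, fun n c => ?_⟩
  have hrr := riemann_roch hK W hW
    (n • D₁ + ((Quotient.out c : (degHom k K).ker) : Divisor k K))
  rw [deg_add, deg_zsmul, hD₁, deg_out] at hrr
  have hC' : (W - (2 * (genus k K : ℤ) - 2) • D₁ -
      ((Quotient.out c : (degHom k K).ker) : Divisor k K)).deg = 0 := by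
    rw [deg_sub, hw0, deg_out, sub_zero]
  have hcls : clsOf _ hC' = clsOf _ (deg_out (clsOf _ hw0 - c)) := by
    rw [clsOf_out]
    conv_rhs => rw [← clsOf_out c]
    rfl
  have hell := ell_add_of_clsOf_eq hK ((2 * (genus k K : ℤ) - 2 - n) • D₁) hC'
    (deg_out (clsOf _ hw0 - c)) hcls
  have hrew : W - (n • D₁ + ((Quotient.out c : (degHom k K).ker) : Divisor k K)) =
      (2 * (genus k K : ℤ) - 2 - n) • D₁ + (W - (2 * (genus k K : ℤ) - 2) • D₁ -
        ((Quotient.out c : (degHom k K).ker) : Divisor k K)) := by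
    module
  rw [hrew, hell] at hrr
  rw [hrr]
  ring

theorem Ssum_symm (hK : IsFunctionField k K) [Fintype (Cl0 k K)] (D₁ : Divisor k K)
    (hD₁ : D₁.deg = 1) (n : ℤ) :
    Ssum D₁ n = (Nat.card k : ℚ) ^ (n + 1 - (genus k K : ℤ)) *
      Ssum D₁ (2 * (genus k K : ℤ) - 2 - n) := by
  obtain ⟨w, hw⟩ := exists_dual_class hK D₁ hD₁
  have hq0 : (Nat.card k : ℚ) ≠ 0 := by
    have : 0 < Nat.card k := Nat.card_pos
    positivity
  unfold Ssum
  rw [Finset.mul_sum, ← (Equiv.subLeft w).sum_comp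
    (fun c => (Nat.card k : ℚ) ^ (n + 1 - (genus k K : ℤ)) * (Nat.card k : ℚ) ^
      ell ((2 * (genus k K : ℤ) - 2 - n) • D₁ +
        ((Quotient.out c : (degHom k K).ker) : Divisor k K)))]
  refine Finset.sum_congr rfl (fun c _ => ?_)
  rw [Equiv.subLeft_apply, ← zpow_natCast, ← zpow_natCast, ← zpow_add₀ hq0, hw n c]

/-- `T(i) = S(i) - (q+1) S(i-1) + q S(i-2)`. -/
noncomputable def Tsum [Fintype (Cl0 k K)] (D₁ : Divisor k K) (i : ℤ) : ℚ :=
  Ssum D₁ i - ((Nat.card k : ℚ) + 1) * Ssum D₁ (i - 1) + (Nat.card k : ℚ) * Ssum D₁ (i - 2)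

theorem coeff_numerZ_eq_Tsum (hK : IsFunctionField k K) [Fintype (Cl0 k K)] (D₁ : Divisor k K)
    (hD₁ : D₁.deg = 1) (i : ℕ) :
    ((Nat.card k : ℚ) - 1) * ((PowerSeries.coeff i (numerZ k K) : ℤ) : ℚ) = Tsum D₁ i := by
  rw [coeff_numerZ_aZ]
  unfold Tsum
  have h0 := aZ_formula hK D₁ hD₁ i
  have h1 := aZ_formula hK D₁ hD₁ ((i : ℤ) - 1)
  have h2 := aZ_formula hK D₁ hD₁ ((i : ℤ) - 2)
  push_cast
  linear_combination h0 - ((Nat.card k : ℚ) + 1) * h1 + (Nat.card k : ℚ) * h2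

theorem Tsum_symm (hK : IsFunctionField k K) [Fintype (Cl0 k K)] (D₁ : Divisor k K)
    (hD₁ : D₁.deg = 1) (i : ℤ) :
    Tsum D₁ (2 * (genus k K : ℤ) - i) =
      (Nat.card k : ℚ) ^ ((genus k K : ℤ) - i) * Tsum D₁ i := by
  have hq0 : (Nat.card k : ℚ) ≠ 0 := by
    have : 0 < Nat.card k := Nat.card_pos
    positivity
  unfold Tsum
  have e0 := Ssum_symm hK D₁ hD₁ (2 * (genus k K : ℤ) - i)
  have e1 := Ssum_symm hK D₁ hD₁ (2 * (genus k K : ℤ) - i - 1)
  have e2 := Ssum_symm hK D₁ hD₁ (2 * (genus k K : ℤ) - i - 2)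
  have a0 : 2 * (genus k K : ℤ) - 2 - (2 * (genus k K : ℤ) - i) = i - 2 := by ring
  have a1 : 2 * (genus k K : ℤ) - 2 - (2 * (genus k K : ℤ) - i - 1) = i - 1 := by ring
  have a2 : 2 * (genus k K : ℤ) - 2 - (2 * (genus k K : ℤ) - i - 2) = i := by ring
  have b0 : 2 * (genus k K : ℤ) - i + 1 - (genus k K : ℤ) = ((genus k K : ℤ) - i) + 1 := by ring
  have b1 : 2 * (genus k K : ℤ) - i - 1 + 1 - (genus k K : ℤ) = (genus k K : ℤ) - i := by ring
  have b2 : 2 * (genus k K : ℤ) - i - 2 + 1 - (genus k K : ℤ) = ((genus k K : ℤ) - i) - 1 := by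
    ring
  rw [a0, b0, zpow_add₀ hq0, zpow_one] at e0
  rw [a1, b1] at e1
  rw [a2, b2, zpow_sub₀ hq0, zpow_one] at e2
  rw [e0, e1, e2]
  field_simp
  ring

theorem Tsum_neg (hK : IsFunctionField k K) [Fintype (Cl0 k K)] (D₁ : Divisor k K)
    (hD₁ : D₁.deg = 1) {j : ℤ} (hj : j < 0) : Tsum D₁ j = 0 := by
  have hS : ∀ n : ℤ, n < 0 → Ssum D₁ n = (classNum k K : ℚ) := by
    intro n hn
    have h := aZ_formula hK D₁ hD₁ n
    unfold aZ at h
    rw [if_neg (by omega)] at h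
    push_cast at h
    linarith
  unfold Tsum
  rw [hS j hj, hS (j - 1) (by omega), hS (j - 2) (by omega)]
  ring

/-- The functional equation and degree of `L_K`, assuming a divisor of degree one. -/
theorem numerZ_functional_equation_aux (hK : IsFunctionField k K) :
    (∀ n : ℕ, 2 * genus k K < n → PowerSeries.coeff n (numerZ k K) = 0) ∧
    PowerSeries.coeff (2 * genus k K) (numerZ k K) ≠ 0 ∧
    ∀ i : ℕ, i ≤ 2 * genus k K →
      (((PowerSeries.coeff (2 * genus k K - i) (numerZ k K) : ℤ)) : ℚ) =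
        (Nat.card k : ℚ) ^ ((genus k K : ℤ) - i) *
          (((PowerSeries.coeff i (numerZ k K) : ℤ)) : ℚ) := by
  classical
  haveI := finite_Cl0 hK
  haveI := Fintype.ofFinite (Cl0 k K)
  obtain ⟨D₁, hD₁⟩ := deg_surjective_of_finite hK 1
  have hq : (1 : ℚ) < Nat.card k := by exact_mod_cast (Finite.one_lt_card : 1 < Nat.card k)
  have hq1 : (Nat.card k : ℚ) - 1 ≠ 0 := by linarith
  have hq0 : (Nat.card k : ℚ) ≠ 0 := by linarith
  have hsymm : ∀ i : ℕ, i ≤ 2 * genus k K →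
      (((PowerSeries.coeff (2 * genus k K - i) (numerZ k K) : ℤ)) : ℚ) =
        (Nat.card k : ℚ) ^ ((genus k K : ℤ) - i) *
          (((PowerSeries.coeff i (numerZ k K) : ℤ)) : ℚ) := by
    intro i hi
    apply mul_left_cancel₀ hq1
    have h1 := coeff_numerZ_eq_Tsum hK D₁ hD₁ (2 * genus k K - i)
    have h2 := coeff_numerZ_eq_Tsum hK D₁ hD₁ i
    have h3 := Tsum_symm hK D₁ hD₁ (i : ℤ)
    have e : ((2 * genus k K - i : ℕ) : ℤ) = 2 * (genus k K : ℤ) - i := by
      rw [Nat.cast_sub hi]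
      push_cast
      ring
    rw [e] at h1
    rw [h1, h3, ← h2]
    ring
  refine ⟨fun n hn => ?_, ?_, hsymm⟩
  · have h1 := coeff_numerZ_eq_Tsum hK D₁ hD₁ n
    have h3 := Tsum_symm hK D₁ hD₁ (2 * (genus k K : ℤ) - n)
    have e : 2 * (genus k K : ℤ) - (2 * (genus k K : ℤ) - n) = (n : ℤ) := by ring
    rw [e, Tsum_neg hK D₁ hD₁ (by omega : 2 * (genus k K : ℤ) - n < 0), mul_zero] at h3
    rw [h3] at h1
    have h4 := (mul_eq_zero.mp h1).resolve_left hq1
    exact_mod_cast h4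
  · have h := hsymm 0 (Nat.zero_le _)
    rw [Nat.sub_zero, coeff_numerZ_zero, effDivCount_zero hK] at h
    intro h0
    rw [h0] at h
    simp only [Int.cast_zero, Nat.cast_zero, sub_zero, Nat.cast_one, Int.cast_one, mul_one] at h
    exact zpow_ne_zero _ hq0 h.symm

/-- S11036. -/
theorem exists_polynomial_coe_eq_numerZ (hK : IsFunctionField k K) :
    ∃ p : Polynomial ℤ, (p : PowerSeries ℤ) = numerZ k K := by
  refine ⟨PowerSeries.trunc (2 * genus k K + 1) (numerZ k K), ?_⟩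
  ext n
  rw [Polynomial.coeff_coe, PowerSeries.coeff_trunc]
  split_ifs with h
  · rfl
  · exact ((numerZ_functional_equation_aux hK).1 n (by omega)).symm

/-- S11038. -/
theorem numerZ_eval_one_eq_classNum (hK : IsFunctionField k K) (p : Polynomial ℤ)
    (hp : (p : PowerSeries ℤ) = numerZ k K) : p.eval 1 = (classNum k K : ℤ) := by
  have hcoeff : ∀ i, p.coeff i = PowerSeries.coeff i (numerZ k K) := fun i => by
    rw [← hp, Polynomial.coeff_coe]
  obtain ⟨M, hM⟩ : ∃ M, M = max p.natDegree (2 * genus k K) := ⟨_, rfl⟩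
  have hM1 : p.natDegree ≤ M := hM ▸ le_max_left _ _
  have hM2 : 2 * genus k K ≤ M := hM ▸ le_max_right _ _
  have h1 : p.eval 1 = ∑ i ∈ Finset.range (M + 2), p.coeff i := by
    rw [Polynomial.eval_eq_sum_range' (Nat.lt_of_le_of_lt hM1 (by omega : M < M + 2))]
    simp
  rw [h1]
  simp only [hcoeff]
  rw [sum_coeff_numerZ]
  obtain ⟨D₁, hD₁⟩ := deg_surjective_of_finite hK 1
  have e1 := ((finite_classGroup_and_effDivCount_eq hK).2 (M + 1) (by omega)).1
    ⟨(M + 1) • D₁, by rw [deg_nsmul, hD₁, mul_one]⟩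
  have e2 := ((finite_classGroup_and_effDivCount_eq hK).2 M (by omega)).1
    ⟨M • D₁, by rw [deg_nsmul, hD₁, mul_one]⟩
  have hq : (1 : ℤ) < Nat.card k := by exact_mod_cast (Finite.one_lt_card : 1 < Nat.card k)
  have e3 : M + 1 + 1 - genus k K = (M + 1 - genus k K) + 1 := by omega
  rw [e3, pow_succ] at e1
  have hq1 : (Nat.card k : ℤ) - 1 ≠ 0 := by linarith
  apply mul_left_cancel₀ hq1
  linear_combination e1 - (Nat.card k : ℤ) * e2

end Finite

end FunFld
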