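import Mathlib
import Groth.Agent.Lib.FunFldZetaB_helper2

/-! Zeta function, part F (helper2): factorization of the numerator into reciprocal roots paired
by `α ↦ q / α`. -/

open Polynomial

namespace FunFld

section Pairing

theorem reverse_X_sub_C' (a : ℂ) : (X - C a : ℂ[X]).reverse = 1 - C a * X := by
  unfold reverse
  rw [natDegree_X_sub_C, reflect_sub, reflect_C, pow_one]
  have h1 : reflect 1 (X : ℂ[X]) = 1 := by
    have h2 := reflect_monomial (R := ℂ) 1 1
    rw [pow_one] at h2
    rw [h2, revAt_le le_rfl, Nat.sub_self, pow_zero]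
  rw [h1]

theorem pair_comp (q a b : ℂ) (hab : a * b = q) :
    ((X - C a) * (X - C b)).comp (C q * X) = C q * ((X - C a) * (X - C b)).reverse := by
  rw [reverse_mul_of_domain, reverse_X_sub_C', reverse_X_sub_C', mul_comp, sub_comp, sub_comp,
    X_comp, C_comp, C_comp, ← hab, C_mul]
  ring

theorem eval_inv_reverse (R : ℂ[X]) {a : ℂ} (ha : a ≠ 0) :
    R.reverse.eval a⁻¹ * a ^ R.natDegree = R.eval a := by
  letI := invertibleOfNonzero ha
  have h := eval₂_reverse_mul_pow (RingHom.id ℂ) a R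
  rwa [invOf_eq_inv, eval₂_id, eval₂_id] at h

theorem eval_comp_mul_X (R : ℂ[X]) (q t : ℂ) : (R.comp (C q * X)).eval t = R.eval (q * t) := by
  rw [eval_comp, eval_mul, eval_C, eval_X]

theorem exists_pairing (q : ℂ) (hq : q ≠ 0) : ∀ (m : ℕ) (P : ℂ[X]), P.Monic →
    P.natDegree = 2 * m → P.comp (C q * X) = C (q ^ m) * P.reverse →
    ∃ γ : Fin m → ℂ, (∀ j, γ j ≠ 0) ∧ P = ∏ j, ((X - C (γ j)) * (X - C (q / γ j))) := by
  intro m
  induction m with
  | zero =>
    intro P hP hdeg _
    refine ⟨Fin.elim0, fun j => j.elim0, ?_⟩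
    rw [Finset.univ_eq_empty, Finset.prod_empty]
    exact eq_one_of_monic_natDegree_zero hP hdeg
  | succ m ih =>
    intro P hP hdeg hFE
    have hP0 : P.eval 0 ≠ 0 := by
      have h1 := congrArg (eval 0) hFE
      rw [eval_comp_mul_X, mul_zero, eval_mul, eval_C, ← coeff_zero_eq_eval_zero P.reverse,
        coeff_zero_reverse, hP.leadingCoeff, mul_one] at h1
      rw [h1]
      exact pow_ne_zero _ hq
    have hdegpos : 0 < P.degree := by
      rw [degree_eq_natDegree hP.ne_zero, hdeg]
      exact_mod_cast (by omega : 0 < 2 * (m + 1))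
    obtain ⟨a, ha⟩ := Complex.exists_root hdegpos
    have ha' : P.eval a = 0 := ha
    have ha0 : a ≠ 0 := fun h => hP0 (h ▸ ha')
    -- the partner root
    have hb : P.eval (q / a) = 0 := by
      have h1 := congrArg (eval a⁻¹) hFE
      rw [eval_comp_mul_X, eval_mul, eval_C] at h1
      have h2 := eval_inv_reverse P ha0
      rw [ha'] at h2
      have h3 : P.reverse.eval a⁻¹ = 0 :=
        (mul_eq_zero.mp h2).resolve_right (pow_ne_zero _ ha0)
      rw [h3, mul_zero] at h1
      rw [div_eq_mul_inv]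
      exact h1
    have hab : a * (q / a) = q := by field_simp
    -- the quadratic factor divides
    have hdvd : (X - C a) * (X - C (q / a)) ∣ P := by
      by_cases hne : q / a = a
      · -- double root
        rw [hne]
        obtain ⟨R, hR⟩ := dvd_iff_isRoot.mpr ha
        have hRne : R ≠ 0 := by
          rintro rfl
          rw [mul_zero] at hR
          exact hP.ne_zero hR
        have hRdeg : R.natDegree = 2 * m + 1 := by
          have h1 := congrArg natDegree hR
          rw [natDegree_mul (X_sub_C_ne_zero a) hRne, natDegree_X_sub_C, hdeg] at h1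
          omega
        have hqa : q = a * a := by rw [← hab, hne]
        have hFE' : -C a * R.comp (C q * X) = C (q ^ (m + 1)) * R.reverse := by
          have h1 := hFE
          rw [hR, mul_comp, sub_comp, X_comp, C_comp, reverse_mul_of_domain, reverse_X_sub_C'] at h1
          have h2 : (C q * X - C a : ℂ[X]) = (1 - C a * X) * (-C a) := by
            rw [hqa, C_mul]
            ring
          rw [h2, mul_assoc, ← mul_assoc (C (q ^ (m + 1))), mul_comm (C (q ^ (m + 1))) (1 - C a * X),
            mul_assoc] at h1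
          have hne1 : (1 - C a * X : ℂ[X]) ≠ 0 := by
            intro h0
            have := congrArg (fun p => coeff p 0) h0
            simp at this
          exact mul_left_cancel₀ hne1 h1
        have h3 := congrArg (eval a⁻¹) hFE'
        rw [eval_mul, eval_neg, eval_C, eval_comp_mul_X, eval_mul, eval_C] at h3
        have h4 := eval_inv_reverse R ha0
        have hqa' : q * a⁻¹ = a := by rw [hqa]; field_simp
        rw [hqa'] at h3
        rw [hRdeg] at h4
        have h5 : R.eval a * (q ^ (m + 1) + a ^ (2 * m + 2)) = 0 := by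
          have e1 : R.eval a = R.reverse.eval a⁻¹ * a ^ (2 * m + 1) := h4.symm
          have e2 : a ^ (2 * m + 2) = a ^ (2 * m + 1) * a := pow_succ _ _
          rw [e2]
          linear_combination (-(a ^ (2 * m + 1))) * h3 + (q ^ (m + 1)) * e1
        have h6 : a ^ (2 * m + 2) = q ^ (m + 1) := by
          rw [hqa, ← pow_two, ← pow_mul]
          congr 1
        rw [h6] at h5
        have h7 : q ^ (m + 1) + q ^ (m + 1) ≠ 0 := by
          rw [← two_mul]
          exact mul_ne_zero two_ne_zero (pow_ne_zero _ hq)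
        have hRa : R.eval a = 0 := (mul_eq_zero.mp h5).resolve_right h7
        obtain ⟨R', hR'⟩ := dvd_iff_isRoot.mpr (show IsRoot R a from hRa)
        exact ⟨R', by rw [hR, hR', mul_assoc]⟩
      · have hcop : IsCoprime (X - C a) (X - C (q / a) : ℂ[X]) :=
          isCoprime_X_sub_C_of_isUnit_sub (isUnit_iff_ne_zero.mpr (sub_ne_zero.mpr (Ne.symm hne)))
        exact hcop.mul_dvd (dvd_iff_isRoot.mpr ha) (dvd_iff_isRoot.mpr (show IsRoot P (q / a) from hb))
    obtain ⟨P₁, hP₁⟩ := hdvd
    have hQmonic : ((X - C a) * (X - C (q / a)) : ℂ[X]).Monic :=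
      (monic_X_sub_C a).mul (monic_X_sub_C (q / a))
    have hP₁monic : P₁.Monic := hQmonic.of_mul_monic_left (hP₁ ▸ hP)
    have hQdeg : ((X - C a) * (X - C (q / a)) : ℂ[X]).natDegree = 2 := by
      rw [(monic_X_sub_C a).natDegree_mul (monic_X_sub_C (q / a)), natDegree_X_sub_C,
        natDegree_X_sub_C]
    have hP₁deg : P₁.natDegree = 2 * m := by
      have h1 := congrArg natDegree hP₁
      rw [hQmonic.natDegree_mul hP₁monic, hQdeg, hdeg] at h1
      omega
    have hFE₁ : P₁.comp (C q * X) = C (q ^ m) * P₁.reverse := by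
      have h1 := hFE
      rw [hP₁, mul_comp, pair_comp q a (q / a) hab,
        reverse_mul_of_domain ((X - C a) * (X - C (q / a))) P₁, pow_succ, C_mul] at h1
      have hne1 : (C q * ((X - C a) * (X - C (q / a)) : ℂ[X]).reverse) ≠ 0 :=
        mul_ne_zero (C_ne_zero.mpr hq) (reverse_eq_zero.not.mpr hQmonic.ne_zero)
      apply mul_left_cancel₀ hne1
      rw [h1]
      ring
    obtain ⟨γ', hγ'0, hγ'⟩ := ih P₁ hP₁monic hP₁deg hFE₁
    refine ⟨Fin.cons a γ', fun j => ?_, ?_⟩
    · refine Fin.cases ?_ (fun i => ?_) j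
      · rw [Fin.cons_zero]
        exact ha0
      · rw [Fin.cons_succ]
        exact hγ'0 i
    · rw [Fin.prod_univ_succ, Fin.cons_zero, hP₁, hγ']
      simp only [Fin.cons_succ]

end Pairing

section Assemble

theorem reverse_prod_eq {ι : Type*} (s : Finset ι) (f : ι → ℂ[X]) :
    (∏ i ∈ s, f i).reverse = ∏ i ∈ s, (f i).reverse := by
  classical
  induction s using Finset.induction_on with
  | empty =>
    rw [Finset.prod_empty, Finset.prod_empty, ← C_1, reverse_C]
  | insert a s ha ih =>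
    rw [Finset.prod_insert ha, Finset.prod_insert ha, reverse_mul_of_domain, ih]

/-- From half of the roots to a full numbering with `α i * α (rev i) = q`. -/
theorem exists_numbering (q : ℂ) (m : ℕ) (γ : Fin m → ℂ) (hγ : ∀ j, γ j ≠ 0) :
    ∃ α : Fin (2 * m) → ℂ, (∀ i, α i * α (Fin.rev i) = q) ∧
      ∀ F : ℂ → ℂ[X], ∏ i, F (α i) = ∏ j, (F (γ j) * F (q / γ j)) := by
  classical
  have hlt : ∀ i : Fin (2 * m), ¬ (i : ℕ) < m → 2 * m - 1 - (i : ℕ) < m := fun i h => by
    have := i.2
    omega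
  refine ⟨fun i => if h : (i : ℕ) < m then γ ⟨i, h⟩ else q / γ ⟨2 * m - 1 - i, hlt i h⟩, ?_, ?_⟩
  · intro i
    have hi := i.2
    have hrev : ((Fin.rev i : Fin (2 * m)) : ℕ) = 2 * m - 1 - (i : ℕ) := by
      rw [Fin.val_rev]
      omega
    by_cases h : (i : ℕ) < m
    · have h' : ¬ ((Fin.rev i : Fin (2 * m)) : ℕ) < m := by rw [hrev]; omega
      beta_reduce
      rw [dif_pos h, dif_neg h']
      have e : (⟨2 * m - 1 - ((Fin.rev i : Fin (2 * m)) : ℕ), hlt _ h'⟩ : Fin m) = ⟨i, h⟩ := by
        apply Fin.ext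
        show 2 * m - 1 - ((Fin.rev i : Fin (2 * m)) : ℕ) = (i : ℕ)
        rw [hrev]
        omega
      rw [e]
      field_simp [hγ ⟨i, h⟩]
    · have h' : ((Fin.rev i : Fin (2 * m)) : ℕ) < m := by rw [hrev]; omega
      beta_reduce
      rw [dif_neg h, dif_pos h']
      have e : (⟨((Fin.rev i : Fin (2 * m)) : ℕ), h'⟩ : Fin m) = ⟨2 * m - 1 - i, hlt i h⟩ := by
        apply Fin.ext
        exact hrev
      rw [e]
      field_simp [hγ ⟨2 * m - 1 - i, hlt i h⟩]
  · intro F
    have e2 : m + m = 2 * m := (two_mul m).symm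
    rw [← (finCongr e2).prod_comp, Fin.prod_univ_add, Finset.prod_mul_distrib]
    congr 1
    · refine Finset.prod_congr rfl (fun j _ => ?_)
      have hj : ((finCongr e2 (Fin.castAdd m j) : Fin (2 * m)) : ℕ) = j := rfl
      have hjm : ((finCongr e2 (Fin.castAdd m j) : Fin (2 * m)) : ℕ) < m := by rw [hj]; exact j.2
      beta_reduce
      rw [dif_pos hjm]
      have e : (⟨((finCongr e2 (Fin.castAdd m j) : Fin (2 * m)) : ℕ), hjm⟩ : Fin m) = j :=
        Fin.ext hj
      rw [e]
    · rw [← Equiv.prod_comp Fin.revPerm]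
      refine Finset.prod_congr rfl (fun j _ => ?_)
      have hj : ((finCongr e2 (Fin.natAdd m (Fin.revPerm j)) : Fin (2 * m)) : ℕ) =
          m + (m - (j + 1)) := by
        show m + ((Fin.rev j : Fin m) : ℕ) = _
        rw [Fin.val_rev]
      have hjm : ¬ ((finCongr e2 (Fin.natAdd m (Fin.revPerm j)) : Fin (2 * m)) : ℕ) < m := by
        rw [hj]
        omega
      beta_reduce
      rw [dif_neg hjm]
      have e : (⟨2 * m - 1 - ((finCongr e2 (Fin.natAdd m (Fin.revPerm j)) : Fin (2 * m)) : ℕ),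
          hlt _ hjm⟩ : Fin m) = j := by
        apply Fin.ext
        show 2 * m - 1 - ((finCongr e2 (Fin.natAdd m (Fin.revPerm j)) : Fin (2 * m)) : ℕ) = j
        rw [hj]
        have := j.2
        omega
      rw [e]

variable {k K : Type*} [Field k] [Field K] [Algebra k K] [Finite k]

theorem coeff_symm_int (hK : IsFunctionField k K) {j : ℕ} (hj : j ≤ 2 * genus k K) :
    PowerSeries.coeff (2 * genus k K - j) (numerZ k K) * (Nat.card k : ℤ) ^ j =
      (Nat.card k : ℤ) ^ genus k K * PowerSeries.coeff j (numerZ k K) := by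
  have h := (numerZ_functional_equation_aux hK).2.2 j hj
  have hq0 : (Nat.card k : ℚ) ≠ 0 := by
    have : 0 < Nat.card k := Nat.card_pos
    positivity
  have h2 : ((PowerSeries.coeff (2 * genus k K - j) (numerZ k K) * (Nat.card k : ℤ) ^ j : ℤ) : ℚ) =
      (((Nat.card k : ℤ) ^ genus k K * PowerSeries.coeff j (numerZ k K) : ℤ) : ℚ) := by
    push_cast
    rw [h, zpow_sub₀ hq0, zpow_natCast, zpow_natCast]
    field_simp
  exact_mod_cast h2

/-- S11040. -/
theorem exists_reciprocal_roots_numerZ (hK : IsFunctionField k K) :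
    ∃ α : Fin (2 * genus k K) → ℂ, (∀ i, IsIntegral ℤ (α i)) ∧
      PowerSeries.map (Int.castRingHom ℂ) (numerZ k K) =
        ((∏ i, (1 - Polynomial.C (α i) * Polynomial.X) : Polynomial ℂ) : PowerSeries ℂ) ∧
      ∀ i, α i * α (Fin.rev i) = (Nat.card k : ℂ) := by
  classical
  obtain ⟨g, hg⟩ : ∃ g, g = genus k K := ⟨_, rfl⟩
  obtain ⟨hvan, hne, -⟩ := numerZ_functional_equation_aux hK
  rw [← hg] at hvan hne ⊢
  obtain ⟨q, hqdef⟩ : ∃ q : ℂ, q = (Nat.card k : ℂ) := ⟨_, rfl⟩
  have hq0 : q ≠ 0 := by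
    rw [hqdef]
    have : 0 < Nat.card k := Nat.card_pos
    exact_mod_cast this.ne'
  -- the integer polynomials
  obtain ⟨pz, hpz⟩ : ∃ pz : ℤ[X], pz = PowerSeries.trunc (2 * g + 1) (numerZ k K) := ⟨_, rfl⟩
  have hpzc : ∀ i, pz.coeff i = PowerSeries.coeff i (numerZ k K) := fun i => by
    rw [hpz, PowerSeries.coeff_trunc]
    split_ifs with h
    · rfl
    · exact (hvan i (by omega)).symm
  have hpzdeg : pz.natDegree ≤ 2 * g := by
    rw [natDegree_le_iff_coeff_eq_zero]
    intro N hN
    rw [hpzc]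
    exact hvan N hN
  obtain ⟨Pz, hPz⟩ : ∃ Pz : ℤ[X], Pz = reflect (2 * g) pz := ⟨_, rfl⟩
  have hPzc : ∀ j, j ≤ 2 * g → Pz.coeff j = PowerSeries.coeff (2 * g - j) (numerZ k K) :=
    fun j hj => by rw [hPz, coeff_reflect, revAt_le hj, hpzc]
  have hPzc' : ∀ j, 2 * g < j → Pz.coeff j = 0 := fun j hj => by
    rw [hPz, coeff_reflect, revAt_eq_self_of_lt hj, hpzc]
    exact hvan j hj
  have hPzdeg : Pz.natDegree ≤ 2 * g := by
    rw [natDegree_le_iff_coeff_eq_zero]
    exact fun N hN => hPzc' N hN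
  have hPzlead : Pz.coeff (2 * g) = 1 := by
    rw [hPzc _ le_rfl, Nat.sub_self, coeff_numerZ_zero, effDivCount_zero hK]
    rfl
  have hPzmonic : Pz.Monic := monic_of_natDegree_le_of_coeff_eq_one _ hPzdeg hPzlead
  have hPznd : Pz.natDegree = 2 * g :=
    natDegree_eq_of_le_of_coeff_ne_zero hPzdeg (by rw [hPzlead]; exact one_ne_zero)
  -- the complex polynomial
  obtain ⟨P, hP⟩ : ∃ P : ℂ[X], P = Pz.map (Int.castRingHom ℂ) := ⟨_, rfl⟩
  have hPmonic : P.Monic := hP ▸ hPzmonic.map _
  have hPnd : P.natDegree = 2 * g := by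
    rw [hP, hPzmonic.natDegree_map, hPznd]
  have hPc : ∀ j, P.coeff j = ((Pz.coeff j : ℤ) : ℂ) := fun j => by
    rw [hP, coeff_map]
    rfl
  have hFE : P.comp (C q * X) = C (q ^ g) * P.reverse := by
    ext j
    rw [comp_C_mul_X_coeff, coeff_C_mul, coeff_reverse, hPnd]
    by_cases hj : j ≤ 2 * g
    · rw [revAt_le hj, hPc, hPc, hPzc j hj, hPzc _ (Nat.sub_le _ _), Nat.sub_sub_self hj, hqdef]
      have := coeff_symm_int hK (j := j) (hg ▸ hj)
      rw [← hg] at this
      exact_mod_cast this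
    · push Not at hj
      rw [revAt_eq_self_of_lt hj, hPc, hPzc' j hj]
      simp
  obtain ⟨γ, hγ0, hγ⟩ := exists_pairing q hq0 g P hPmonic hPnd hFE
  obtain ⟨α, hαpair, hαprod⟩ := exists_numbering q g γ hγ0
  have hPprod : P = ∏ i, (X - C (α i)) := by
    rw [hγ, hαprod (fun a => X - C a)]
  refine ⟨α, fun i => ?_, ?_, fun i => by rw [hαpair i, hqdef]⟩
  · refine ⟨Pz, hPzmonic, ?_⟩
    rw [eval₂_eq_eval_map, algebraMap_int_eq, ← hP, hPprod, eval_prod]
    exact Finset.prod_eq_zero (Finset.mem_univ i) (by simp)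
  · have hrev : P.reverse = ∏ i, (1 - C (α i) * X) := by
      rw [hPprod, reverse_prod_eq]
      exact Finset.prod_congr rfl (fun i _ => reverse_X_sub_C' (α i))
    rw [← hrev]
    ext n
    rw [PowerSeries.coeff_map, Polynomial.coeff_coe, coeff_reverse, hPnd]
    by_cases hn : n ≤ 2 * g
    · rw [revAt_le hn, hPc, hPzc _ (Nat.sub_le _ _), Nat.sub_sub_self hn]
      rfl
    · push Not at hn
      rw [revAt_eq_self_of_lt hn, hPc, hPzc' n hn, hvan n hn]
      simp

end Assemble

end FunFld
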