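import Mathlib
import Groth.Agent.Lib.FunFldRHC_helper2
import Groth.Agent.Lib.FunFldUnram_helper2
import Groth.Agent.Lib.FunFldZetaF_helper2
import Groth.Agent.Lib.FunFldZetaD_helper2

/-! Riemann hypothesis for function fields, part D (helper2): the two-sided estimate for the
number of rational places in the tower of constant field extensions of a subfield of a Galois
covering of the projective line. -/

open WithZero Module Polynomial TensorProduct
open scoped Pointwise

namespace FunFld

universe u u' w v v'

section Genus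

variable {k : Type u} {k' : Type u'} {K : Type v} {K' : Type v'} [Field k] [Field k'] [Field K]
    [Field K'] [Algebra k k'] [Algebra k K] [Algebra K K'] [Algebra k' K'] [Algebra k K']
    [IsScalarTower k k' K'] [IsScalarTower k K K']

theorem isConstExt_of_bijective [FiniteDimensional k k']
    (h : Function.Bijective (Algebra.TensorProduct.productMap
      (IsScalarTower.toAlgHom k k' K') (IsScalarTower.toAlgHom k K K'))) :
    IsConstExt k K k' K' := by
  refine ⟨fun c => ?_, ?_, finrank_constExt h⟩
  · rw [← IsScalarTower.algebraMap_apply k K K', ← IsScalarTower.algebraMap_apply k k' K']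
  · rw [eq_top_iff]
    intro y _
    refine constExt_induction h
      (motive := fun y => y ∈ Algebra.adjoin K (Set.range (algebraMap k' K'))) (zero_mem _) ?_
      (fun _ _ hx hy => add_mem hx hy) y
    intro c e
    rw [mul_comm, ← Algebra.smul_def]
    have hc : algebraMap k' K' c ∈ Algebra.adjoin K (Set.range (algebraMap k' K')) :=
      Algebra.subset_adjoin ⟨c, rfl⟩
    exact Subalgebra.smul_mem _ hc e

theorem natDegree_prod_one_sub {N : ℕ} (β : Fin N → ℂ) (hβ : ∀ i, β i ≠ 0) :
    (∏ i, (1 - C (β i) * X) : ℂ[X]).natDegree = N := by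
  have h1 : ∀ i ∈ (Finset.univ : Finset (Fin N)), (1 - C (β i) * X : ℂ[X]).natDegree = 1 := by
    intro i _
    rw [Polynomial.natDegree_sub_eq_right_of_natDegree_lt]
    · exact Polynomial.natDegree_C_mul_X _ (hβ i)
    · rw [Polynomial.natDegree_one, Polynomial.natDegree_C_mul_X _ (hβ i)]
      exact Nat.zero_lt_one
  rw [Polynomial.natDegree_prod _ _ (fun i hi => ?_), Finset.sum_congr rfl h1]
  · simp
  · intro h0
    have h2 := h1 i hi
    rw [h0, Polynomial.natDegree_zero] at h2
    exact zero_ne_one h2

theorem genus_constExt [Finite k] [FiniteDimensional k k']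
    (h : Function.Bijective (Algebra.TensorProduct.productMap
      (IsScalarTower.toAlgHom k k' K') (IsScalarTower.toAlgHom k K K')))
    (hK : IsFunctionField k K) (hK' : IsFunctionField k' K') : genus k' K' = genus k K := by
  classical
  haveI : Finite k' := Module.finite_of_finite k
  obtain ⟨α, -, hα, hαq⟩ := exists_reciprocal_roots_numerZ hK
  obtain ⟨α', -, hα', hαq'⟩ := exists_reciprocal_roots_numerZ hK'
  have h1 := numerZ_constExt hK hK' (isConstExt_of_bijective h) α hα
  rw [hα'] at h1
  have h2 := Polynomial.coe_injective ℂ h1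
  have hq0 : (Nat.card k : ℂ) ≠ 0 := by
    have : 0 < Nat.card k := Nat.card_pos
    exact_mod_cast this.ne'
  have hq0' : (Nat.card k' : ℂ) ≠ 0 := by
    have : 0 < Nat.card k' := Nat.card_pos
    exact_mod_cast this.ne'
  have hα0 : ∀ i, α i ≠ 0 := fun i h0 => hq0 (by rw [← hαq i, h0, zero_mul])
  have hα0' : ∀ i, α' i ≠ 0 := fun i h0 => hq0' (by rw [← hαq' i, h0, zero_mul])
  have h3 := congrArg Polynomial.natDegree h2
  rw [natDegree_prod_one_sub α' hα0',
    natDegree_prod_one_sub (fun i => α i ^ finrank k k') (fun i => pow_ne_zero _ (hα0 i))] at h3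
  omega

theorem Ncount_of_genus_zero [Finite k] (hK : IsFunctionField k K) (hg : genus k K = 0) {m : ℕ}
    (hm : 1 ≤ m) : Ncount hK m = Nat.card k ^ m + 1 := by
  obtain ⟨α, -, hα, -⟩ := exists_reciprocal_roots_numerZ hK
  have h1 := Ncount_formula hK α hα hm
  haveI : IsEmpty (Fin (2 * genus k K)) := by
    rw [hg]; exact inferInstanceAs (IsEmpty (Fin 0))
  rw [Finset.univ_eq_empty, Finset.sum_empty, sub_zero] at h1
  have h2 : (Ncount hK m : ℂ) = ((Nat.card k ^ m + 1 : ℕ) : ℂ) := by
    rw [h1]; push_cast; ring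
  exact_mod_cast h2

end Genus

section Bad

variable {k F E : Type*} [Field k] [Field F] [Field E] [Algebra k F] [Algebra k E] [Algebra F E]
    [IsScalarTower k F E] [FiniteDimensional F E] [Algebra.IsSeparable F E]

theorem exists_bad (hF : IsFunctionField k F) :
    ∃ Bad : Finset (Place k F), ∀ P : Place k F, P ∉ Bad →
      ∀ R : Place k E, IsOver R P → IsOverWith R P 1 := by
  classical
  haveI : Algebra.IsAlgebraic F E := Algebra.IsAlgebraic.of_finite F E
  have hfin := finite_ramified (K' := E) hF
  choose bF hbF using fun R : Place k E => exists_isOver hF R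
  refine ⟨hfin.toFinset.image bF, fun P hP R hRP => ?_⟩
  obtain ⟨e, he⟩ := hRP
  have hR : R ∉ hfin.toFinset := by
    intro hmem
    apply hP
    rw [Finset.mem_image]
    exact ⟨R, hmem, IsOver.unique_below (hbF R) ⟨e, he⟩⟩
  rw [Set.Finite.mem_toFinset] at hR
  have hs : Function.Surjective (R.1.comap (algebraMap F E)) := by
    by_contra h; exact hR h
  have h1 := eq_one_of_surjective_comap he hs
  rw [h1] at he
  exact he

end Bad

section FrobFiber

variable {k : Type u} {k' : Type u'} {F : Type w} {E : Type v} {E' : Type v'}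
    [Field k] [Finite k] [Field k'] [Field F] [Field E] [Field E']
    [Algebra k k'] [FiniteDimensional k k'] [Algebra k F] [Algebra k E] [Algebra F E]
    [IsScalarTower k F E] [FiniteDimensional F E] [IsGalois F E]
    [Algebra E E'] [Algebra k' E'] [Algebra k E'] [IsScalarTower k k' E'] [IsScalarTower k E E']
    [Algebra F E'] [IsScalarTower F E E'] [IsScalarTower k F E']

theorem card_frobFiber
    (h : Function.Bijective (Algebra.TensorProduct.productMap
      (IsScalarTower.toAlgHom k k' E') (IsScalarTower.toAlgHom k E E'))) (m : ℕ) :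
    Nat.card {τ : E' ≃ₐ[F] E' // ∀ c : k', τ (algebraMap k' E' c) =
      algebraMap k' E' (c ^ (Nat.card k ^ m))} = finrank F E := by
  classical
  haveI : Finite k' := Module.finite_of_finite k
  haveI := Fintype.ofFinite k
  haveI : FiniteDimensional E E' := finiteDimensional_constExt h
  haveI : FiniteDimensional F E' := finiteDimensional_constExt_base h
  haveI : IsGalois F E' := isGalois_constExt h
  let ρ : (E' ≃ₐ[F] E') →* (k' ≃ₐ[k] k') :=
    (AlgEquiv.restrictNormalHom (F := k) (K₁ := E') k').comp (AlgEquiv.restrictScalarsHom k)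
  have hρ : ∀ (γ : E' ≃ₐ[F] E') (c : k'), algebraMap k' E' (ρ γ c) = γ (algebraMap k' E' c) :=
    fun γ c => AlgEquiv.restrictNormal_commutes (γ.restrictScalars k) k' c
  let res := AlgEquiv.restrictNormalHom (F := F) (K₁ := E') E
  have hres : ∀ (γ : E' ≃ₐ[F] E') (x : E), algebraMap E E' (res γ x) = γ (algebraMap E E' x) :=
    fun γ x => AlgEquiv.restrictNormal_commutes γ E x
  have hkerinj : Function.Injective (fun γ : ρ.ker => res γ.1) := by
    intro γ γ' hgg
    apply Subtype.ext
    have h3 : (γ.1.toAlgHom.toRingHom : E' →+* E') = γ'.1.toAlgHom.toRingHom := by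
      apply ringHom_ext_constExt h
      · intro e
        show γ.1 (algebraMap E E' e) = γ'.1 (algebraMap E E' e)
        rw [← hres, ← hres]
        exact congrArg (fun σ : E ≃ₐ[F] E => algebraMap E E' (σ e)) hgg
      · intro c
        show γ.1 (algebraMap k' E' c) = γ'.1 (algebraMap k' E' c)
        rw [← hρ, ← hρ, MonoidHom.mem_ker.mp γ.2, MonoidHom.mem_ker.mp γ'.2]
    exact AlgEquiv.ext (fun y => RingHom.congr_fun h3 y)
  have hker_le : Nat.card ρ.ker ≤ finrank F E := by
    have h1 := Nat.card_le_card_of_injective _ hkerinj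
    rwa [IsGalois.card_aut_eq_finrank] at h1
  have hrange_le : Nat.card ρ.range ≤ finrank k k' := by
    have h1 := Subgroup.card_le_card_group ρ.range
    rwa [IsGalois.card_aut_eq_finrank] at h1
  have htotal : Nat.card ρ.ker * Nat.card ρ.range = finrank F E * finrank k k' := by
    rw [← Subgroup.index_ker, Subgroup.card_mul_index, IsGalois.card_aut_eq_finrank,
      ← Module.finrank_mul_finrank F E E', finrank_constExt h]
  have hFEpos : 0 < finrank F E := finrank_pos
  have hnpos : 0 < finrank k k' := finrank_pos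
  have hker_eq : Nat.card ρ.ker = finrank F E := by
    by_contra hne
    have hlt : Nat.card ρ.ker < finrank F E := lt_of_le_of_ne hker_le hne
    have h1 : Nat.card ρ.ker * Nat.card ρ.range < finrank F E * finrank k k' :=
      calc Nat.card ρ.ker * Nat.card ρ.range ≤ Nat.card ρ.ker * finrank k k' :=
            Nat.mul_le_mul_left _ hrange_le
        _ < finrank F E * finrank k k' := Nat.mul_lt_mul_of_pos_right hlt hnpos
    exact absurd htotal h1.ne
  have hrange_eq : Nat.card ρ.range = finrank k k' := by
    rw [hker_eq] at htotal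
    exact Nat.eq_of_mul_eq_mul_left hFEpos htotal
  have hsurj : Function.Surjective ρ := by
    rw [← MonoidHom.range_eq_top]
    apply Subgroup.eq_top_of_card_eq
    rw [hrange_eq, IsGalois.card_aut_eq_finrank]
  let frob := FiniteField.frobeniusAlgEquivOfAlgebraic k k'
  have hfrob : ∀ c : k', (frob ^ m) c = c ^ (Nat.card k ^ m) := by
    intro c
    rw [AlgEquiv.coe_pow, FiniteField.coe_frobeniusAlgEquivOfAlgebraic_iterate,
      Nat.card_eq_fintype_card]
  have hiff : ∀ τ : E' ≃ₐ[F] E', (∀ c : k', τ (algebraMap k' E' c) =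
      algebraMap k' E' (c ^ (Nat.card k ^ m))) ↔ ρ τ = frob ^ m := by
    intro τ
    constructor
    · intro hτ
      apply AlgEquiv.ext
      intro c
      apply (algebraMap k' E').injective
      rw [hρ, hτ, hfrob]
    · intro hτ c
      rw [← hρ, hτ, hfrob]
  obtain ⟨τ₀, hτ₀⟩ := hsurj (frob ^ m)
  have hcongr : Nat.card {τ : E' ≃ₐ[F] E' // ∀ c : k', τ (algebraMap k' E' c) =
      algebraMap k' E' (c ^ (Nat.card k ^ m))} = Nat.card ρ.ker := by
    apply Nat.card_congr
    refine ⟨fun τ => ⟨τ₀⁻¹ * τ.1, ?_⟩, fun κ => ⟨τ₀ * κ.1, ?_⟩, ?_, ?_⟩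
    · rw [MonoidHom.mem_ker, map_mul, map_inv, hτ₀, (hiff τ.1).mp τ.2, inv_mul_cancel]
    · rw [hiff, map_mul, hτ₀, MonoidHom.mem_ker.mp κ.2, mul_one]
    · intro τ
      apply Subtype.ext
      show τ₀ * (τ₀⁻¹ * τ.1) = τ.1
      rw [mul_inv_cancel_left]
    · intro κ
      apply Subtype.ext
      show τ₀⁻¹ * (τ₀ * κ.1) = κ.1
      rw [inv_mul_cancel_left]
  rw [hcongr, hker_eq]

theorem nFix_le_of_frob
    (h : Function.Bijective (Algebra.TensorProduct.productMap
      (IsScalarTower.toAlgHom k k' E') (IsScalarTower.toAlgHom k E E')))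
    (hE : IsFunctionField k E) (hE' : IsFunctionField k' E')
    (p : ℕ) [hp : Fact p.Prime] [CharP k p] (s a m' : ℕ) (hq : Nat.card k = p ^ s)
    (ha : a = s * m') (hg : (genus k E + 1) ^ 2 < p ^ a)
    (τ : E' ≃ₐ[F] E')
    (hτ : ∀ c : k', τ (algebraMap k' E' c) = algebraMap k' E' (c ^ (Nat.card k ^ (2 * m')))) :
    nFix k' ⇑τ ≤ (p ^ a) ^ 2 + (2 * genus k E + 1) * p ^ a := by
  haveI : Finite k' := Module.finite_of_finite k
  haveI : CharP k' p := charP_of_injective_algebraMap (algebraMap k k').injective p
  have hgen := genus_constExt h hE hE'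
  have hpow : Nat.card k ^ (2 * m') = (p ^ a) ^ 2 := by
    rw [hq, ha, ← pow_mul, ← pow_mul]
    congr 1
    ring
  have hτ' : ∀ c : k', (τ : E' ≃+* E') (algebraMap k' E' c) =
      algebraMap k' E' (c ^ ((p ^ a) ^ 2)) := by
    intro c
    rw [← hpow]
    exact hτ c
  have h1 := twisted_bombieri hE' p a (τ : E' ≃+* E') hτ' (by rw [hgen]; exact hg)
  rw [hgen] at h1
  exact h1

end FrobFiber

end FunFld
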