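import Mathlib
import Groth.Agent.Lib.FunFldRHD_helper2
import Groth.Agent.Lib.FunFldScalar_helper2

/-! Riemann hypothesis for function fields, part E (helper2): the level bound. -/

open WithZero Module Polynomial TensorProduct
open scoped Pointwise

namespace FunFld

universe u v

theorem level_bound {k : Type u} {E : Type v} [Field k] [Finite k] [Field E] [Algebra k E]
    (hE : IsFunctionField k E) (F₀ F : IntermediateField k E) (hle : F₀ ≤ F)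
    [FiniteDimensional F₀ E] [IsGalois F₀ E]
    (hF₀ : IsFunctionField k F₀) (hF : IsFunctionField k F) (hg0 : genus k F₀ = 0) :
    ∃ C : ℕ, ∀ m' : ℕ, (genus k E + 1) ^ 2 < Nat.card k ^ m' →
      |(Ncount hF (2 * m') : ℤ) - (Nat.card k : ℤ) ^ (2 * m') - 1| ≤
        C * (Nat.card k : ℤ) ^ m' := by
  classical
  letI aF₀F : Algebra F₀ F := (IntermediateField.inclusion hle).toRingHom.toAlgebra
  haveI tF₀FE : IsScalarTower F₀ F E := IsScalarTower.of_algebraMap_eq (fun _ => rfl)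
  haveI : FiniteDimensional F E := FiniteDimensional.right F₀ F E
  haveI : IsGalois F E := IsGalois.tower_top_of_isGalois F₀ F E
  haveI : Algebra.IsSeparable F₀ E := IsGalois.to_isSeparable
  haveI : Algebra.IsSeparable F E := IsGalois.to_isSeparable
  have hgE : IsGeometric k E := isGeometric_of_perfectField hE
  obtain ⟨Bad₀, hBad₀⟩ := exists_bad (E := E) hF₀
  obtain ⟨BadF, hBadF⟩ := exists_bad (E := E) hF
  obtain ⟨d, hd⟩ : ∃ d, d = finrank F₀ E := ⟨_, rfl⟩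
  obtain ⟨hh, hhh⟩ : ∃ hh, hh = finrank F E := ⟨_, rfl⟩
  have hdvd : hh ∣ d := by
    rw [hd, hhh, ← Module.finrank_mul_finrank F₀ F E]
    exact dvd_mul_left _ _
  have hdpos : 0 < d := hd ▸ finrank_pos
  have hhpos : 0 < hh := hhh ▸ finrank_pos
  have hhled : hh ≤ d := Nat.le_of_dvd hdpos hdvd
  obtain ⟨g, hg⟩ : ∃ g, g = genus k E := ⟨_, rfl⟩
  obtain ⟨β₀, hβ₀⟩ : ∃ β₀, β₀ = ∑ P ∈ Bad₀, P.deg := ⟨_, rfl⟩
  obtain ⟨βF, hβF⟩ : ∃ βF, βF = ∑ P ∈ BadF, P.deg := ⟨_, rfl⟩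
  obtain ⟨p, hpchar⟩ := CharP.exists k
  haveI := hpchar
  haveI : Fact p.Prime := ⟨CharP.char_is_prime k p⟩
  haveI := Fintype.ofFinite k
  obtain ⟨s, -, hs⟩ := FiniteField.card k p
  have hq : Nat.card k = p ^ (s : ℕ) := by rw [Nat.card_eq_fintype_card]; exact hs
  refine ⟨d * (2 * g + 1) + d * β₀ + βF + (2 * g + 1), fun m' hm' => ?_⟩
  rw [← hg] at hm'
  have hm'pos : 0 < m' := by
    rcases Nat.eq_zero_or_pos m' with rfl | h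
    · rw [pow_zero] at hm'
      have : 1 ≤ (g + 1) ^ 2 := Nat.one_le_pow _ _ (Nat.succ_pos g)
      omega
    · exact h
  obtain ⟨m, hm⟩ : ∃ m, m = 2 * m' := ⟨_, rfl⟩
  have hmpos : 0 < m := by omega
  obtain ⟨k', _, _, _, hk'⟩ := exists_finite_ext k (m * d) (Nat.mul_pos hmpos hdpos)
  obtain ⟨E', _, _, _, _, _, _, h⟩ := exists_constExt hgE k'
  have hE' : IsFunctionField k' E' := isFunctionField_scalar_ext h hE hgE
  haveI : IsScalarTower F₀ F E' := IsScalarTower.of_algebraMap_eq (fun _ => rfl)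
  haveI : Finite k' := Module.finite_of_finite k
  haveI : FiniteDimensional F₀ E' := finiteDimensional_constExt_base h
  haveI : FiniteDimensional F E' := finiteDimensional_constExt_base h
  haveI : Fintype (E' ≃ₐ[F₀] E') := AlgEquiv.fintype F₀ E'
  haveI : Fintype (E' ≃ₐ[F] E') := AlgEquiv.fintype F E'
  obtain ⟨𝒯₀, h𝒯₀⟩ : ∃ 𝒯₀ : Finset (E' ≃ₐ[F₀] E'), ∀ τ, τ ∈ 𝒯₀ ↔
      ∀ c : k', τ (algebraMap k' E' c) = algebraMap k' E' (c ^ (Nat.card k ^ m)) :=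
    ⟨Finset.univ.filter (fun τ : E' ≃ₐ[F₀] E' =>
      ∀ c : k', τ (algebraMap k' E' c) = algebraMap k' E' (c ^ (Nat.card k ^ m))), fun τ => by
      rw [Finset.mem_filter]; exact ⟨fun h => h.2, fun h => ⟨Finset.mem_univ _, h⟩⟩⟩
  obtain ⟨𝒯F, h𝒯F⟩ : ∃ 𝒯F : Finset (E' ≃ₐ[F] E'), ∀ τ, τ ∈ 𝒯F ↔
      ∀ c : k', τ (algebraMap k' E' c) = algebraMap k' E' (c ^ (Nat.card k ^ m)) :=
    ⟨Finset.univ.filter (fun τ : E' ≃ₐ[F] E' =>
      ∀ c : k', τ (algebraMap k' E' c) = algebraMap k' E' (c ^ (Nat.card k ^ m))), fun τ => by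
      rw [Finset.mem_filter]; exact ⟨fun h => h.2, fun h => ⟨Finset.mem_univ _, h⟩⟩⟩
  have hcard₀ : 𝒯₀.card = d := by
    rw [hd, ← card_frobFiber (F := F₀) h m]
    exact (natCard_subtype_eq_card _ 𝒯₀ h𝒯₀).symm
  have hcardF : 𝒯F.card = hh := by
    rw [hhh, ← card_frobFiber (F := F) h m]
    exact (natCard_subtype_eq_card _ 𝒯F h𝒯F).symm
  obtain ⟨a, ha⟩ : ∃ a, a = (s : ℕ) * m' := ⟨_, rfl⟩
  obtain ⟨Q, hQdef⟩ : ∃ Q, Q = Nat.card k ^ m' := ⟨_, rfl⟩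
  have hQ : Q = p ^ a := by rw [hQdef, hq, ha, pow_mul]
  have hQ2 : Nat.card k ^ m = Q ^ 2 := by rw [hm, hQdef, ← pow_mul, mul_comm]
  have hQpos : 1 ≤ Q := by
    rw [hQdef]
    exact Nat.one_le_pow _ _ Nat.card_pos
  obtain ⟨UB, hUB⟩ : ∃ UB, UB = Q ^ 2 + (2 * g + 1) * Q := ⟨_, rfl⟩
  have hUB₀ : ∀ τ ∈ 𝒯₀, nFix k' ⇑τ ≤ UB := by
    intro τ hτ
    have h1 := nFix_le_of_frob (F := F₀) h hE hE' p s a m' hq ha
      (by rw [← hQ, ← hg, hQdef]; exact hm') τ (by rw [← hm]; exact (h𝒯₀ τ).mp hτ)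
    rw [← hQ, ← hg] at h1
    rw [hUB]
    exact h1
  have hUBF : ∀ τ ∈ 𝒯F, nFix k' ⇑τ ≤ UB := by
    intro τ hτ
    have h1 := nFix_le_of_frob (F := F) h hE hE' p s a m' hq ha
      (by rw [← hQ, ← hg, hQdef]; exact hm') τ (by rw [← hm]; exact (h𝒯F τ).mp hτ)
    rw [← hQ, ← hg] at h1
    rw [hUB]
    exact h1
  -- the three inequalities
  have hA1 := le_sum_nFix (F := F₀) h hF₀ hE hE' (m := m) (d := d) hmpos (hd ▸ dvd_rfl) hk'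
    Bad₀ hBad₀ 𝒯₀ (fun τ hτ => (h𝒯₀ τ).mpr hτ)
  rw [Ncount_of_genus_zero hF₀ hg0 hmpos, ← hd, ← hβ₀, hQ2] at hA1
  have hA3 := sum_nFix_le (F := F) h hF hE hE' hmpos 𝒯F (fun τ hτ => (h𝒯F τ).mp hτ)
  rw [← hhh] at hA3
  have hA4 := le_sum_nFix (F := F) h hF hE hE' (m := m) (d := d) hmpos (hhh ▸ hdvd) hk'
    BadF hBadF 𝒯F (fun τ hτ => (h𝒯F τ).mpr hτ)
  rw [← hhh, ← hβF] at hA4
  have hA5 : ∑ τ ∈ 𝒯F, nFix k' ⇑τ ≤ hh * UB := by
    have h1 := Finset.sum_le_card_nsmul 𝒯F (fun τ : E' ≃ₐ[F] E' => nFix k' ⇑τ) UB hUBF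
    rw [hcardF, smul_eq_mul] at h1
    exact h1
  -- comparison of the two sums
  let ι : (E' ≃ₐ[F] E') → (E' ≃ₐ[F₀] E') := fun σ => σ.restrictScalars F₀
  have hιinj : Function.Injective ι := AlgEquiv.restrictScalars_injective F₀
  have hιsub : 𝒯F.image ι ⊆ 𝒯₀ := by
    intro τ hτ
    rw [Finset.mem_image] at hτ
    obtain ⟨σ, hσ, rfl⟩ := hτ
    rw [h𝒯₀]
    exact (h𝒯F σ).mp hσ
  have hsumimg : ∑ τ ∈ 𝒯F.image ι, nFix k' ⇑τ = ∑ σ ∈ 𝒯F, nFix k' ⇑σ := by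
    rw [Finset.sum_image (fun a _ b _ hab => hιinj hab)]
    rfl
  have hsplit := Finset.sum_sdiff hιsub (f := fun τ : E' ≃ₐ[F₀] E' => nFix k' ⇑τ)
  have hrest : ∑ τ ∈ 𝒯₀ \ 𝒯F.image ι, nFix k' ⇑τ ≤ (d - hh) * UB := by
    have h1 := Finset.sum_le_card_nsmul (𝒯₀ \ 𝒯F.image ι) (fun τ : E' ≃ₐ[F₀] E' => nFix k' ⇑τ) UB
      (fun τ hτ => hUB₀ τ (Finset.mem_sdiff.mp hτ).1)
    rw [Finset.card_sdiff_of_subset hιsub, hcard₀, Finset.card_image_of_injective _ hιinj,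
      hcardF, smul_eq_mul] at h1
    exact h1
  rw [hsumimg] at hsplit
  -- arithmetic
  obtain ⟨N, hN⟩ : ∃ N, N = Ncount hF m := ⟨_, rfl⟩
  obtain ⟨S₀, hS₀⟩ : ∃ S₀, S₀ = ∑ τ ∈ 𝒯₀, nFix k' ⇑τ := ⟨_, rfl⟩
  obtain ⟨SF, hSF⟩ : ∃ SF, SF = ∑ τ ∈ 𝒯F, nFix k' ⇑τ := ⟨_, rfl⟩
  obtain ⟨Rr, hRr⟩ : ∃ Rr, Rr = ∑ τ ∈ 𝒯₀ \ 𝒯F.image ι, nFix k' ⇑τ := ⟨_, rfl⟩
  rw [← hS₀] at hA1
  rw [← hSF, ← hN] at hA3 hA4
  rw [← hSF] at hA5
  rw [← hRr, ← hSF, ← hS₀] at hsplit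
  rw [← hRr] at hrest
  rw [← hm, ← hN]
  have hgoal : |(N : ℤ) - (Q : ℤ) ^ 2 - 1| ≤
      ((d * (2 * g + 1) + d * β₀ + βF + (2 * g + 1) : ℕ) : ℤ) * (Q : ℤ) := by
    -- integer versions
    have f1 : (d : ℤ) * ((Q : ℤ) ^ 2 + 1) ≤ (S₀ : ℤ) + (d : ℤ) * β₀ := by exact_mod_cast hA1
    have f2 : (Rr : ℤ) + SF = S₀ := by exact_mod_cast hsplit
    have f3 : (Rr : ℤ) ≤ ((d : ℤ) - hh) * ((Q : ℤ) ^ 2 + (2 * g + 1) * Q) := by
      have h1 : ((d - hh : ℕ) : ℤ) = (d : ℤ) - hh := Nat.cast_sub hhled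
      have h2 : (Rr : ℤ) ≤ ((d - hh : ℕ) : ℤ) * (UB : ℤ) := by exact_mod_cast hrest
      rw [h1, hUB] at h2
      push_cast at h2
      exact h2
    have f4 : (SF : ℤ) ≤ (hh : ℤ) * N := by exact_mod_cast hA3
    have f5 : (hh : ℤ) * N ≤ (SF : ℤ) + (hh : ℤ) * βF := by exact_mod_cast hA4
    have f6 : (SF : ℤ) ≤ (hh : ℤ) * ((Q : ℤ) ^ 2 + (2 * g + 1) * Q) := by
      have h2 : (SF : ℤ) ≤ (hh : ℤ) * (UB : ℤ) := by exact_mod_cast hA5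
      rw [hUB] at h2
      push_cast at h2
      exact h2
    have hh1 : (1 : ℤ) ≤ hh := by exact_mod_cast hhpos
    have hdh : (hh : ℤ) ≤ d := by exact_mod_cast hhled
    have hQ1 : (1 : ℤ) ≤ Q := by exact_mod_cast hQpos
    have hg0' : (0 : ℤ) ≤ g := Int.natCast_nonneg g
    have hb0 : (0 : ℤ) ≤ β₀ := Int.natCast_nonneg β₀
    have hbF : (0 : ℤ) ≤ βF := Int.natCast_nonneg βF
    have hd0 : (0 : ℤ) ≤ d := Int.natCast_nonneg d
    push_cast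
    rw [abs_le]
    constructor
    · -- lower bound
      have key : -((d : ℤ) * (2 * g + 1) * Q + d * β₀) ≤ (hh : ℤ) * ((N : ℤ) - (Q : ℤ) ^ 2 - 1) := by
        have e1 : (0 : ℤ) ≤ (hh : ℤ) * ((2 * g + 1) * Q) := by positivity
        have e2 : ((d : ℤ) - hh) * ((Q : ℤ) ^ 2 + (2 * g + 1) * Q) =
            (d : ℤ) * (Q : ℤ) ^ 2 + (d : ℤ) * (2 * g + 1) * Q - (hh : ℤ) * (Q : ℤ) ^ 2 -
              (hh : ℤ) * ((2 * g + 1) * Q) := by ring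
        rw [e2] at f3
        have e3 : (hh : ℤ) * ((N : ℤ) - (Q : ℤ) ^ 2 - 1) =
            (hh : ℤ) * N - (hh : ℤ) * (Q : ℤ) ^ 2 - hh := by ring
        rw [e3]
        have e4 : (d : ℤ) * ((Q : ℤ) ^ 2 + 1) = (d : ℤ) * (Q : ℤ) ^ 2 + d := by ring
        rw [e4] at f1
        linarith
      by_contra hcon
      push Not at hcon
      obtain ⟨X, hX⟩ : ∃ X : ℤ, X = (N : ℤ) - (Q : ℤ) ^ 2 - 1 := ⟨_, rfl⟩
      rw [← hX] at key hcon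
      have hC0 : (0 : ℤ) ≤ ((d : ℤ) * (2 * g + 1) + d * β₀ + βF + (2 * g + 1)) * Q := by
        positivity
      have hXneg : X < 0 := by linarith
      have h7 : (hh : ℤ) * X ≤ X := by
        have : (0 : ℤ) ≤ ((hh : ℤ) - 1) * (-X) :=
          mul_nonneg (by linarith) (by linarith)
        linarith
      have h8 : (d : ℤ) * β₀ ≤ (d : ℤ) * β₀ * Q := by
        have : (0 : ℤ) ≤ (d : ℤ) * β₀ * (Q - 1) := by
          apply mul_nonneg (mul_nonneg hd0 hb0); linarith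
        linarith
      have h9 : (0 : ℤ) ≤ (βF : ℤ) * Q := mul_nonneg hbF (by linarith)
      have h10 : (0 : ℤ) ≤ (2 * (g : ℤ) + 1) * Q := by positivity
      have e5 : ((d : ℤ) * (2 * g + 1) + d * β₀ + βF + (2 * g + 1)) * Q =
          (d : ℤ) * (2 * g + 1) * Q + (d : ℤ) * β₀ * Q + (βF : ℤ) * Q + (2 * g + 1) * Q := by
        ring
      rw [e5] at hcon
      linarith
    · -- upper bound
      have h11 : (hh : ℤ) * N ≤ (hh : ℤ) * ((Q : ℤ) ^ 2 + (2 * g + 1) * Q + βF) := by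
        have : (hh : ℤ) * ((Q : ℤ) ^ 2 + (2 * g + 1) * Q + βF) =
            (hh : ℤ) * ((Q : ℤ) ^ 2 + (2 * g + 1) * Q) + (hh : ℤ) * βF := by ring
        rw [this]
        linarith
      have h12 : (N : ℤ) ≤ (Q : ℤ) ^ 2 + (2 * g + 1) * Q + βF :=
        le_of_mul_le_mul_left h11 (by linarith)
      have h13 : (βF : ℤ) ≤ (βF : ℤ) * Q := by
        have : (0 : ℤ) ≤ (βF : ℤ) * (Q - 1) := mul_nonneg hbF (by linarith)
        linarith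
      have h14 : (0 : ℤ) ≤ (d : ℤ) * (2 * g + 1) * Q := by positivity
      have h15 : (0 : ℤ) ≤ (d : ℤ) * β₀ * Q := by positivity
      have e5 : ((d : ℤ) * (2 * g + 1) + d * β₀ + βF + (2 * g + 1)) * Q =
          (d : ℤ) * (2 * g + 1) * Q + (d : ℤ) * β₀ * Q + (βF : ℤ) * Q + (2 * g + 1) * Q := by
        ring
      rw [e5]
      linarith
  have e6 : ((Nat.card k : ℤ)) ^ m = (Q : ℤ) ^ 2 := by exact_mod_cast hQ2
  have e7 : ((Nat.card k : ℤ)) ^ m' = (Q : ℤ) := by rw [hQdef]; push_cast; rfl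
  rw [e6, e7]
  exact hgoal

end FunFld
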