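import Mathlib
import Groth.Agent.Lib.FunFldRHE_helper2

/-! Riemann hypothesis for function fields, part F (helper2): the Galois configuration and the
power-sum bound. -/

open WithZero Module Polynomial TensorProduct IntermediateField
open scoped Pointwise

namespace FunFld

universe u v w

theorem exists_galois_closure (F : Type u) (K : Type v) [Field F] [Field K] [Algebra F K]
    [FiniteDimensional F K] [Algebra.IsSeparable F K] :
    ∃ (E : Type v) (_ : Field E) (_ : Algebra F E) (_ : Algebra K E) (_ : IsScalarTower F K E),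
      FiniteDimensional F E ∧ IsGalois F E := by
  haveI : Algebra.IsAlgebraic F K := Algebra.IsAlgebraic.of_finite F K
  haveI : IsAlgClosure F (AlgebraicClosure K) := IsAlgClosure.ofAlgebraic F K (AlgebraicClosure K)
  haveI : Normal F (AlgebraicClosure K) := IsAlgClosure.normal F (AlgebraicClosure K)
  refine ⟨IntermediateField.normalClosure F K (AlgebraicClosure K), inferInstance, inferInstance,
    inferInstance, inferInstance, inferInstance, ?_⟩
  haveI : Algebra.IsSeparable F (IntermediateField.normalClosure F K (AlgebraicClosure K)) := by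
    rw [← le_separableClosure_iff, _root_.normalClosure_le_iff]
    intro f z hz
    obtain ⟨y, rfl⟩ := AlgHom.mem_fieldRange.mp hz
    rw [map_mem_separableClosure_iff, mem_separableClosure_iff]
    exact Algebra.IsSeparable.isSeparable F y
  exact { }

theorem adjoin_gen_eq_top {k K : Type*} [Field k] [Field K] [Algebra k K] (x : K) :
    IntermediateField.adjoin k ({AdjoinSimple.gen k x} : Set k⟮x⟯) = ⊤ := by
  apply IntermediateField.map_injective (k⟮x⟯).val
  rw [IntermediateField.adjoin_map, Set.image_singleton, ← AlgHom.fieldRange_eq_map,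
    IntermediateField.fieldRange_val]
  rfl

theorem powerSum_bound_of_config {k : Type u} {K : Type v} {R : Type w} {E : Type v}
    [Field k] [Finite k] [Field K] [Algebra k K]
    [Field R] [Algebra k R] [Algebra R K] [IsScalarTower k R K] [Field E] [Algebra R E]
    [Algebra K E] [IsScalarTower R K E] [FiniteDimensional R E] [IsGalois R E]
    (hK : IsFunctionField k K) (x : R) (hx : Transcendental k x)
    (htop : IntermediateField.adjoin k ({x} : Set R) = ⊤) :
    ∃ d₁ : ℕ, 0 < d₁ ∧ ∃ G C : ℕ, ∀ m' : ℕ, (G + 1) ^ 2 < (Nat.card k ^ d₁) ^ m' →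
      |(Ncount hK (2 * m' * d₁) : ℤ) - ((Nat.card k : ℤ) ^ d₁) ^ (2 * m') - 1| ≤
        C * ((Nat.card k : ℤ) ^ d₁) ^ m' := by
  classical
  letI aKE : Algebra k E := ((algebraMap K E).comp (algebraMap k K)).toAlgebra
  haveI tkKE : IsScalarTower k K E := IsScalarTower.of_algebraMap_eq (fun _ => rfl)
  haveI tkRE : IsScalarTower k R E := IsScalarTower.of_algebraMap_eq (fun c => by
    show algebraMap K E (algebraMap k K c) = algebraMap R E (algebraMap k R c)
    rw [IsScalarTower.algebraMap_apply k R K, ← IsScalarTower.algebraMap_apply R K E])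
  haveI : FiniteDimensional K E := FiniteDimensional.right R K E
  haveI : Algebra.IsAlgebraic K E := Algebra.IsAlgebraic.of_finite K E
  obtain ⟨k₁, hk₁⟩ : ∃ k₁ : IntermediateField k E, k₁ = algebraicClosure k E := ⟨_, rfl⟩
  haveI : FiniteDimensional k k₁ := by
    subst hk₁
    exact finiteDimensional_algebraicClosure_ext hK
  have hE₁ : IsFunctionField k₁ E := by
    subst hk₁
    exact isFunctionField_algebraicClosure hK
  haveI : Algebra.IsAlgebraic k k₁ := Algebra.IsAlgebraic.of_finite k k₁
  haveI : Finite k₁ := Module.finite_of_finite k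
  obtain ⟨xE, hxE⟩ : ∃ xE : E, xE = algebraMap R E x := ⟨_, rfl⟩
  have hxEk : Transcendental k xE := by
    rw [hxE]
    exact fun h => hx ((isAlgebraic_algebraMap_iff (algebraMap R E).injective).mp h)
  have hxE₁ : Transcendental k₁ xE := fun h => hxEk (h.restrictScalars k)
  obtain ⟨F₀, hF₀def⟩ : ∃ F₀ : IntermediateField k₁ E,
      F₀ = IntermediateField.adjoin k₁ ({xE} : Set E) := ⟨_, rfl⟩
  obtain ⟨F, hFdef⟩ : ∃ F : IntermediateField k₁ E,
      F = IntermediateField.adjoin k₁ (Set.range (algebraMap K E)) := ⟨_, rfl⟩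
  have hxF₀ : xE ∈ F₀ := by rw [hF₀def]; exact IntermediateField.mem_adjoin_simple_self k₁ xE
  have hKF : ∀ y : K, algebraMap K E y ∈ F := fun y => by
    rw [hFdef]; exact IntermediateField.subset_adjoin k₁ _ ⟨y, rfl⟩
  have hle : F₀ ≤ F := by
    rw [hF₀def, IntermediateField.adjoin_simple_le_iff, hxE, IsScalarTower.algebraMap_apply R K E]
    exact hKF _
  have hF₀ : IsFunctionField k₁ F₀ :=
    isFunctionField_intermediateField hE₁ F₀ ⟨xE, hxF₀, hxE₁⟩
  have hF : IsFunctionField k₁ F :=
    isFunctionField_intermediateField hE₁ F ⟨xE, hle hxF₀, hxE₁⟩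
  have hg0 : genus k₁ F₀ = 0 := by
    have hx' : Transcendental k₁ (⟨xE, hxF₀⟩ : F₀) := fun h => hxE₁ (h.algebraMap (A := E))
    apply genus_eq_zero_of_deg_poleDiv hF₀ hx'
    rw [deg_poleDiv_eq hF₀ hx']
    have htop' : IntermediateField.adjoin k₁ ({(⟨xE, hxF₀⟩ : F₀)} : Set F₀) = ⊤ := by
      apply IntermediateField.map_injective F₀.val
      rw [IntermediateField.adjoin_map, Set.image_singleton, ← AlgHom.fieldRange_eq_map,
        IntermediateField.fieldRange_val]
      exact hF₀def.symm
    rw [htop', IntermediateField.finrank_top]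
    rfl
  have hRF₀ : ∀ r : R, algebraMap R E r ∈ F₀ := by
    intro r
    have hr : r ∈ IntermediateField.adjoin k ({x} : Set R) := by
      rw [htop]; exact IntermediateField.mem_top
    have h1 := algebraMap_mem_adjoin_of_mem_adjoin' (k := k) (k' := k₁) (K := R) (K' := E) x hr
    rw [hF₀def, hxE]
    exact h1
  letI aRF₀ : Algebra R F₀ := ((algebraMap R E).codRestrict F₀ hRF₀).toAlgebra
  haveI : IsScalarTower R F₀ E := IsScalarTower.of_algebraMap_eq (fun _ => rfl)
  haveI : FiniteDimensional F₀ E := FiniteDimensional.right R F₀ E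
  haveI : IsGalois F₀ E := IsGalois.tower_top_of_isGalois R F₀ E
  obtain ⟨C, hC⟩ := level_bound hE₁ F₀ F hle hF₀ hF hg0
  -- the constant field extension
  letI aKF : Algebra K F := ((algebraMap K E).codRestrict F hKF).toAlgebra
  haveI tKFE : IsScalarTower K F E := IsScalarTower.of_algebraMap_eq (fun _ => rfl)
  haveI tkKF : IsScalarTower k K F := IsScalarTower.of_algebraMap_eq (fun _ => Subtype.ext rfl)
  haveI : FiniteDimensional K F :=
    Module.Finite.of_injective (IsScalarTower.toAlgHom K F E).toLinearMap
      (IsScalarTower.toAlgHom K F E).injective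
  have hii : Algebra.adjoin K (Set.range (algebraMap k₁ F)) = ⊤ := by
    rw [eq_top_iff]
    rintro ⟨y, hy⟩ -
    have hAeq := IntermediateField.adjoin_toSubalgebra (F := K) (Set.range (algebraMap k₁ E))
    have hA : ∀ y ∈ F, y ∈ Algebra.adjoin K (Set.range (algebraMap k₁ E)) := by
      intro y hy
      rw [hFdef] at hy
      induction hy using IntermediateField.adjoin_induction with
      | mem z hz =>
        obtain ⟨w, rfl⟩ := hz
        exact Subalgebra.algebraMap_mem _ w
      | algebraMap c => exact Algebra.subset_adjoin ⟨c, rfl⟩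
      | add a b _ _ ha hb => exact add_mem ha hb
      | inv a _ ha =>
        have ha' : a ∈ IntermediateField.adjoin K (Set.range (algebraMap k₁ E)) := by
          rw [← IntermediateField.mem_toSubalgebra, hAeq]; exact ha
        have hinv := inv_mem ha'
        rw [← IntermediateField.mem_toSubalgebra, hAeq] at hinv
        exact hinv
      | mul a b _ _ ha hb => exact mul_mem ha hb
    have h1 := hA y hy
    have hmap : (Algebra.adjoin K (Set.range (algebraMap k₁ F))).map
        (IsScalarTower.toAlgHom K F E) = Algebra.adjoin K (Set.range (algebraMap k₁ E)) := by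
      rw [AlgHom.map_adjoin]
      congr 1
      ext z
      constructor
      · rintro ⟨_, ⟨c, rfl⟩, rfl⟩
        exact ⟨c, rfl⟩
      · rintro ⟨c, rfl⟩
        exact ⟨_, ⟨c, rfl⟩, rfl⟩
    rw [← hmap] at h1
    obtain ⟨y', hy', hyy'⟩ := Subalgebra.mem_map.mp h1
    have hyeq : y' = ⟨y, hy⟩ := Subtype.ext hyy'
    rw [← hyeq]
    exact hy'
  have hce : IsConstExt k K k₁ F := by
    refine ⟨fun c => Subtype.ext rfl, hii, ?_⟩
    haveI : Algebra.IsSeparable k k₁ := Algebra.IsAlgebraic.isSeparable_of_perfectField
    obtain ⟨θ, hθ⟩ := Field.exists_primitive_element k k₁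
    have hint : IsIntegral k θ := Algebra.IsIntegral.isIntegral θ
    have hdeg : (minpoly k θ).natDegree = finrank k k₁ :=
      (Field.primitive_element_iff_minpoly_natDegree_eq k θ).mp hθ
    obtain ⟨θF, hθF⟩ : ∃ θF : F, θF = algebraMap k₁ F θ := ⟨_, rfl⟩
    have hirr : Irreducible ((minpoly k θ).map (algebraMap k K)) :=
      irreducible_map_of_algClosedIn hK.2 (minpoly.irreducible hint) (minpoly.monic hint)
    have hroot : Polynomial.aeval θF ((minpoly k θ).map (algebraMap k K)) = 0 := by
      rw [Polynomial.aeval_map_algebraMap, hθF, Polynomial.aeval_algebraMap_apply, minpoly.aeval,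
        map_zero]
    have hmin : minpoly K θF = (minpoly k θ).map (algebraMap k K) :=
      (minpoly.eq_of_irreducible_of_monic hirr hroot ((minpoly.monic hint).map _)).symm
    have hdegK : (minpoly K θF).natDegree = finrank k k₁ := by
      rw [hmin, Polynomial.natDegree_map, hdeg]
    have htopK : IntermediateField.adjoin K ({θF} : Set F) = ⊤ := by
      rw [eq_top_iff]
      have h2 : Algebra.adjoin K (Set.range (algebraMap k₁ F)) ≤
          (IntermediateField.adjoin K ({θF} : Set F)).toSubalgebra := by
        apply Algebra.adjoin_le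
        rintro _ ⟨c, rfl⟩
        have hc : c ∈ IntermediateField.adjoin k ({θ} : Set k₁) := by
          rw [hθ]; exact IntermediateField.mem_top
        have h3 := algebraMap_mem_adjoin_of_mem_adjoin' (k := k) (k' := K) (K := k₁) (K' := F) θ hc
        rw [hθF]
        exact h3
      intro y _
      have h4 : y ∈ Algebra.adjoin K (Set.range (algebraMap k₁ F)) := by
        rw [hii]; exact Algebra.mem_top
      exact h2 h4
    rw [← hdegK]
    exact ((Field.primitive_element_iff_minpoly_natDegree_eq K θF).mp htopK).symm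
  have hcard : Nat.card k₁ = Nat.card k ^ finrank k k₁ := Module.natCard_eq_pow_finrank
  refine ⟨finrank k k₁, finrank_pos, genus k₁ E, C, fun m' hm' => ?_⟩
  have h5 := hC m' (by rw [hcard]; exact hm')
  rw [Ncount_constExt' hK hF hce (2 * m'), hcard] at h5
  push_cast at h5
  exact h5

end FunFld
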