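import Mathlib
import Groth.Agent.Lib.MvDeriv_helper2
import Groth.Agent.Lib.FunFldDiffB_helper2
import Groth.Agent.Lib.FunFldHasseJ_helper2
import Groth.Agent.Lib.FunFldHasseEx_helper2
import Groth.Agent.Lib.FunFldExpand_helper2
import Groth.Agent.Lib.FunFldPM3_helper2
import Groth.Agent.Lib.FunFldIM2_helper2
import Groth.Agent.Lib.FunFldJac1_helper2
import Groth.Agent.Lib.FunFldRHF_helper2

/-! Adjoint divisor of a plane model (helper2), part B: the local analysis in a chart in general
position: `ord_Q f_y(x, y) ≥ ord_Q dx` with equality exactly at nonsingular places. -/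

open Module WithZero IntermediateField

namespace FunFld

section Converse

universe u v v' w w'

variable {k : Type u} {K : Type v} {K' : Type v'} [Field k] [Field K] [Field K'] [Algebra k K]
  [Algebra K K'] [Algebra k K'] [IsScalarTower k K K'] [FiniteDimensional K K']
  [Algebra.IsSeparable K K']
  {F : Type w} {F' : Type w'} [Field F] [Algebra k F] [Field F'] [Algebra k F']

/-- Converse of the second half of `le_ord_derivative_and_localization`: if `O_Q` is the
localisation of `O_P[y]`, then `v_Q(g'(y)) = d(Q|P)`. -/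
theorem ord_derivative_eq_of_localization (hK : IsFunctionField k K) (hg : IsGeometric k K)
    {P : Place k K} {Q : Place k K'} {e : ℕ} (he : IsOverWith Q P e)
    {φ : K →ₐ[k] LaurentSeries F} (hφ : LocRes.IsExpansionAt P.1 φ)
    {ψ : K' →ₐ[k] LaurentSeries F'} (hψ : LocRes.IsExpansionAt Q.1 ψ)
    {x : K} (hx : LocRes.vDiff φ 1 x ≠ 0) (hx' : LocRes.vDiff ψ 1 (algebraMap K K' x) ≠ 0)
    [P.1.HasExtension Q.1]
    (hf : Function.Surjective
      (algebraMap (IsLocalRing.ResidueField P.O) (IsLocalRing.ResidueField Q.O)))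
    [Algebra P.O K'] [IsScalarTower P.O K K']
    (y : K') (hy : IntermediateField.adjoin K ({y} : Set K') = ⊤) (hyi : IsIntegral P.O y)
    (hloc : ∀ z : K', Q.1 z ≤ 1 → ∃ a ∈ Algebra.adjoin P.O ({y} : Set K'),
        ∃ b ∈ Algebra.adjoin P.O ({y} : Set K'), Q.1 b = 1 ∧ z * b = a) :
    Q.ord (Polynomial.aeval y (Polynomial.derivative (minpoly K y))) =
      LocRes.diffExp φ ψ e x := by
  classical
  have hQP : IsOver Q P := ⟨e, he⟩
  have h1 := (le_ord_derivative_and_localization hK hg he hφ hψ hx hx' hf y hy hyi).1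
  have hintK : IsIntegral K y := Algebra.IsIntegral.isIntegral y
  have hadj : Algebra.adjoin K ({y} : Set K') = ⊤ :=
    Algebra.adjoin_eq_top_of_primitive_element hintK.isAlgebraic hy
  have hγ0 : Polynomial.aeval y (Polynomial.derivative (minpoly K y)) ≠ 0 :=
    (Algebra.IsSeparable.isSeparable K y).aeval_derivative_ne_zero (minpoly.aeval K y)
  obtain ⟨c, hcA, hcv, hc⟩ :=
    exists_conductor_of_frac hK hQP (Algebra.adjoin P.O ({y} : Set K')) hloc
  have h2 := (traceDual_min_val hK hg he hφ hψ hx hx' hf).1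
    ((Polynomial.aeval y (Polynomial.derivative (minpoly K y)))⁻¹ * c) (by
      intro z hz
      rw [mul_assoc]
      exact trace_inv_deriv_mul_le_one hadj hyi (hc z hz))
  rw [map_mul, map_inv₀, hcv, mul_one, Q.val_eq_exp_neg_ord hγ0, ← exp_neg, neg_neg,
    exp_le_exp] at h2
  exact le_antisymm h2 h1

end Converse

section Rho

variable {k K : Type*} [Field k] [Field K] [Algebra k K]

/-- Polynomials in two variables over `k` as polynomials in the second variable over `k(u)`. -/
noncomputable def rhoPM (u : K) : MvPolynomial (Fin 2) k →ₐ[k] Polynomial k⟮u⟯ :=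
  MvPolynomial.aeval ![Polynomial.C (AdjoinSimple.gen k u), Polynomial.X]

theorem rhoPM_X0 (u : K) :
    rhoPM (k := k) u (MvPolynomial.X 0) = Polynomial.C (AdjoinSimple.gen k u) := by
  unfold rhoPM
  rw [MvPolynomial.aeval_X]
  rfl

theorem rhoPM_X1 (u : K) : rhoPM (k := k) u (MvPolynomial.X 1) = Polynomial.X := by
  unfold rhoPM
  rw [MvPolynomial.aeval_X]
  rfl

theorem rhoPM_C (u : K) (a : k) :
    rhoPM u (MvPolynomial.C a) = Polynomial.C (algebraMap k k⟮u⟯ a) := by
  unfold rhoPM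
  rw [MvPolynomial.aeval_C, Polynomial.algebraMap_apply]

theorem aeval_rhoPM (u v : K) (G : MvPolynomial (Fin 2) k) :
    Polynomial.aeval v (rhoPM u G) = MvPolynomial.aeval ![u, v] G := by
  have h : ((Polynomial.aeval v : Polynomial k⟮u⟯ →ₐ[k⟮u⟯] K).restrictScalars k).comp (rhoPM u) =
      MvPolynomial.aeval ![u, v] := by
    apply MvPolynomial.algHom_ext
    intro i
    fin_cases i
    · show Polynomial.aeval v (rhoPM u (MvPolynomial.X 0)) =
        MvPolynomial.aeval ![u, v] (MvPolynomial.X 0)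
      rw [rhoPM_X0, MvPolynomial.aeval_X, Polynomial.aeval_C]
      rfl
    · show Polynomial.aeval v (rhoPM u (MvPolynomial.X 1)) =
        MvPolynomial.aeval ![u, v] (MvPolynomial.X 1)
      rw [rhoPM_X1, MvPolynomial.aeval_X, Polynomial.aeval_X]
      rfl
  exact DFunLike.congr_fun h G

theorem derivative_rhoPM (u : K) (G : MvPolynomial (Fin 2) k) :
    Polynomial.derivative (rhoPM u G) = rhoPM u (MvPolynomial.pderiv 1 G) := by
  have hX : ∀ i : Fin 2, Polynomial.derivative (rhoPM (k := k) u (MvPolynomial.X i)) =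
      rhoPM u (MvPolynomial.pderiv 1 (MvPolynomial.X i)) := by
    intro i
    fin_cases i
    · show Polynomial.derivative (rhoPM (k := k) u (MvPolynomial.X 0)) =
        rhoPM u (MvPolynomial.pderiv 1 (MvPolynomial.X 0))
      rw [rhoPM_X0, Polynomial.derivative_C, MvPolynomial.pderiv_X_of_ne (by decide), map_zero]
    · show Polynomial.derivative (rhoPM (k := k) u (MvPolynomial.X 1)) =
        rhoPM u (MvPolynomial.pderiv 1 (MvPolynomial.X 1))
      rw [rhoPM_X1, Polynomial.derivative_X, MvPolynomial.pderiv_X_self, map_one]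
  induction G using MvPolynomial.induction_on with
  | C a =>
    rw [rhoPM_C, Polynomial.derivative_C, MvPolynomial.pderiv_C, map_zero]
  | add p q hp hq =>
    rw [map_add, map_add, hp, hq, map_add, map_add]
  | mul_X p i hp =>
    rw [map_mul, Polynomial.derivative_mul, hp, hX, Derivation.leibniz, smul_eq_mul, smul_eq_mul,
      map_add, map_mul, map_mul]
    ring

theorem rhoPM_monomial (u : K) (m : Fin 2 →₀ ℕ) (a : k) :
    rhoPM u (MvPolynomial.monomial m a) =
      Polynomial.C (algebraMap k k⟮u⟯ a * AdjoinSimple.gen k u ^ m 0) * Polynomial.X ^ m 1 := by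
  have h : MvPolynomial.monomial m a =
      MvPolynomial.C a * MvPolynomial.X 0 ^ m 0 * MvPolynomial.X 1 ^ m 1 := by
    rw [MvPolynomial.monomial_eq, Finsupp.prod_fintype _ _ (fun i => pow_zero _),
      Fin.prod_univ_two, mul_assoc]
  rw [h, map_mul, map_mul, map_pow, map_pow, rhoPM_C, rhoPM_X0, rhoPM_X1, map_mul, map_pow]

theorem rhoPM_degree (u : K) (G : MvPolynomial (Fin 2) k) (n : ℕ) (hG : G.totalDegree ≤ n) :
    (rhoPM u G).natDegree ≤ n ∧ ∃ c : k, algebraMap k k⟮u⟯ c = (rhoPM u G).coeff n := by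
  have hsum : rhoPM u G = ∑ m ∈ G.support,
      Polynomial.C (algebraMap k k⟮u⟯ (G.coeff m) * AdjoinSimple.gen k u ^ m 0) *
        Polynomial.X ^ m 1 := by
    conv_lhs => rw [← MvPolynomial.support_sum_monomial_coeff G]
    rw [map_sum]
    exact Finset.sum_congr rfl (fun m _ => rhoPM_monomial u m _)
  have hm : ∀ m ∈ G.support, m 0 + m 1 ≤ n := by
    intro m hm
    have h1 := MvPolynomial.le_totalDegree hm
    rw [Finsupp.sum_fintype _ _ (fun _ => rfl), Fin.sum_univ_two] at h1
    omega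
  rw [hsum]
  constructor
  · apply Polynomial.natDegree_sum_le_of_forall_le
    intro m hm'
    have := hm m hm'
    exact (Polynomial.natDegree_C_mul_X_pow_le _ _).trans (by omega)
  · have hmem : (∑ m ∈ G.support,
        Polynomial.C (algebraMap k k⟮u⟯ (G.coeff m) * AdjoinSimple.gen k u ^ m 0) *
          Polynomial.X ^ m 1).coeff n ∈ (algebraMap k k⟮u⟯).range := by
      rw [Polynomial.finsetSum_coeff]
      apply Subring.sum_mem
      intro m hm'
      rw [Polynomial.coeff_C_mul_X_pow]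
      split_ifs with h
      · have h0 : m 0 = 0 := by
          have := hm m hm'
          omega
        rw [h0, pow_zero, mul_one]
        exact ⟨_, rfl⟩
      · exact Subring.zero_mem _
    exact hmem

/-- A polynomial relation of total degree at most `[K : k(u)]` between `u` and a generator `v` is
a constant multiple of the minimal polynomial of `v` over `k(u)`. -/
theorem aeval_pderiv_eq_mul_derivative_minpoly {u v : K} [FiniteDimensional k⟮u⟯ K]
    (hadj : k⟮u⟯⟮v⟯ = ⊤) (G : MvPolynomial (Fin 2) k)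
    (hdeg : G.totalDegree ≤ Module.finrank k⟮u⟯ K) (hG : MvPolynomial.aeval ![u, v] G = 0)
    (hN : MvPolynomial.aeval ![u, v] (MvPolynomial.pderiv 1 G) ≠ 0) :
    ∃ c : k, c ≠ 0 ∧ MvPolynomial.aeval ![u, v] (MvPolynomial.pderiv 1 G) =
      algebraMap k K c * Polynomial.aeval v (Polynomial.derivative (minpoly k⟮u⟯ v)) := by
  obtain ⟨n, hn⟩ : ∃ n, n = Module.finrank k⟮u⟯ K := ⟨_, rfl⟩
  rw [← hn] at hdeg
  have hint : IsIntegral k⟮u⟯ v := Algebra.IsIntegral.isIntegral v
  have hgdeg : (minpoly k⟮u⟯ v).natDegree = n := by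
    rw [hn, ← IntermediateField.adjoin.finrank hint, hadj, IntermediateField.finrank_top']
  have hmon : (minpoly k⟮u⟯ v).Monic := minpoly.monic hint
  obtain ⟨hnat, c, hc⟩ := rhoPM_degree u G n hdeg
  have hv0 : Polynomial.aeval v (rhoPM u G) = 0 := by rw [aeval_rhoPM, hG]
  obtain ⟨q, hq⟩ := minpoly.dvd k⟮u⟯ v hv0
  have hder : Polynomial.aeval v (Polynomial.derivative (rhoPM u G)) =
      MvPolynomial.aeval ![u, v] (MvPolynomial.pderiv 1 G) := by
    rw [derivative_rhoPM, aeval_rhoPM]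
  have hne : rhoPM u G ≠ 0 := by
    intro h0
    apply hN
    rw [← hder, h0, Polynomial.derivative_zero, map_zero]
  have hq0 : q ≠ 0 := by
    rintro rfl
    exact hne (by rw [hq, mul_zero])
  have hqdeg : q.natDegree = 0 := by
    have h1 : (rhoPM u G).natDegree = (minpoly k⟮u⟯ v).natDegree + q.natDegree := by
      rw [hq]
      exact Polynomial.natDegree_mul hmon.ne_zero hq0
    omega
  obtain ⟨q₀, rfl⟩ : ∃ q₀, q = Polynomial.C q₀ :=
    ⟨q.coeff 0, Polynomial.eq_C_of_natDegree_eq_zero hqdeg⟩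
  have hq₀ : q₀ = algebraMap k k⟮u⟯ c := by
    have h2 : (rhoPM u G).coeff n = q₀ := by
      rw [hq, Polynomial.coeff_mul_C, ← hgdeg, hmon.coeff_natDegree, one_mul]
    rw [← h2, ← hc]
  have hc0 : c ≠ 0 := by
    rintro rfl
    apply hq0
    rw [hq₀, map_zero, map_zero]
  refine ⟨c, hc0, ?_⟩
  rw [← hder, hq, Polynomial.derivative_mul, Polynomial.derivative_C, mul_zero, add_zero,
    map_mul, Polynomial.aeval_C, hq₀, ← IsScalarTower.algebraMap_apply, mul_comm]

end Rho

section FinalChart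

variable {k K : Type*} [Field k] [IsAlgClosed k] [Field K] [Algebra k K]

/-- In a chart `(u, v)` in general position at which the place `Q` is finite, with `u` separating
and a polynomial relation `h` of degree at most `[K : k(u)]`: `ord_Q h_v(u, v) ≥ ord_Q du`, with
equality exactly when the plane model is nonsingular at `Q`. -/
theorem final_chart (hK : IsFunctionField k K) {u v : K} (hPM : IsPM k u v)
    (Q : Place k K) (hQu : Q.1 u ≤ 1)
    (h : MvPolynomial (Fin 2) k) (hh : MvPolynomial.aeval ![u, v] h = 0)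
    (hdeg : h.totalDegree ≤ Module.finrank k⟮u⟯ K)
    (hN : MvPolynomial.aeval ![u, v] (MvPolynomial.pderiv 1 h) ≠ 0)
    (Φ : K →ₐ[k] LaurentSeries k) (hΦ : LocRes.IsExpansionAt Q.1 Φ)
    (hdu : KaehlerDifferential.D k K u ≠ 0) :
    LocRes.ordDiff Φ 1 u ≤ Q.ord (MvPolynomial.aeval ![u, v] (MvPolynomial.pderiv 1 h)) ∧
    (Q.ord (MvPolynomial.aeval ![u, v] (MvPolynomial.pderiv 1 h)) = LocRes.ordDiff Φ 1 u ↔
      IsNonsingularAt ![(1 : K), u, v] Q) := by
  classical
  have hg := isGeometric_of_perfectField hK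
  haveI hfd : FiniteDimensional k⟮u⟯ K := finiteDimensional_of_transcendental hK hPM.tr
  haveI hsep : Algebra.IsSeparable k⟮u⟯ K := isSeparable_of_D_ne_zero hK hg hdu
  have hK₀ : IsFunctionField k k⟮u⟯ :=
    isFunctionField_intermediateField hK k⟮u⟯ ⟨u, mem_adjoin_simple_self k u, hPM.tr⟩
  have hg₀ := isGeometric_of_perfectField hK₀
  haveI : Algebra.IsAlgebraic k⟮u⟯ K := Algebra.IsAlgebraic.of_finite _ _
  obtain ⟨P, e, he⟩ := exists_isOverWith hK₀ Q
  obtain ⟨s, H, -, -, hH⟩ := exists_hasseFamily_of_isFunctionField hK₀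
  obtain ⟨φ, hφ⟩ := exists_expansion hK₀ hH P
  haveI : P.1.HasExtension Q.1 := ⟨by
    intro a b
    show P.1 a ≤ P.1 b ↔ Q.1 (algebraMap k⟮u⟯ K a) ≤ Q.1 (algebraMap k⟮u⟯ K b)
    rw [he a, he b]
    exact (pow_le_pow_iff_left₀ zero_le zero_le he.pos.ne').symm⟩
  letI : Algebra P.O K := ((algebraMap k⟮u⟯ K).comp (algebraMap P.O k⟮u⟯)).toAlgebra
  haveI : IsScalarTower P.O k⟮u⟯ K := IsScalarTower.of_algebraMap_eq (fun _ => rfl)
  have hf : Function.Surjective
      (algebraMap (IsLocalRing.ResidueField P.O) (IsLocalRing.ResidueField Q.O)) := by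
    intro ξ
    obtain ⟨c, hc⟩ := resk_surjective Q hK ξ
    refine ⟨resk P c, ?_⟩
    rw [← hc]
    show algebraMap _ _ (IsLocalRing.residue P.O (algebraMap k P.O c)) =
      IsLocalRing.residue Q.O (algebraMap k Q.O c)
    rw [Valuation.HasExtension.algebraMap_residue_eq_residue_algebraMap]
    congr 1
  -- the generator of `k(u)` and its uniformizing translate
  obtain ⟨x₀, hx₀⟩ : ∃ x₀ : k⟮u⟯, x₀ = AdjoinSimple.gen k u := ⟨_, rfl⟩
  have hx₀u : algebraMap k⟮u⟯ K x₀ = u := by rw [hx₀]; rfl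
  obtain ⟨a, ha⟩ := exists_sub_algebraMap_lt_one hK Q hQu
  obtain ⟨t, ht⟩ : ∃ t : k⟮u⟯, t = x₀ - algebraMap k k⟮u⟯ a := ⟨_, rfl⟩
  have hPt : P.1 t < 1 := by
    have h1 := he t
    rw [ht, map_sub, hx₀u, ← IsScalarTower.algebraMap_apply] at h1
    rw [h1] at ha
    rw [ht]
    by_contra hge
    rw [not_lt] at hge
    exact absurd ha (not_lt.mpr (one_le_pow₀ hge))
  have hx₀t : x₀ = t + algebraMap k k⟮u⟯ a := by rw [ht]; ring
  have ht0 : t ≠ 0 := by
    intro h0
    apply hPM.tr
    have h1 : u = algebraMap k K a := by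
      rw [← hx₀u, hx₀t, h0, zero_add, ← IsScalarTower.algebraMap_apply]
    rw [h1]
    exact isAlgebraic_algebraMap a
  have htop : k⟮t⁻¹⟯ = ⊤ := by
    rw [eq_top_iff, ← adjoin_gen_eq_top u, ← hx₀, adjoin_simple_le_iff]
    have h1 : t⁻¹ ∈ k⟮t⁻¹⟯ := mem_adjoin_simple_self k _
    have h2 : t ∈ k⟮t⁻¹⟯ := by
      have := inv_mem h1
      rwa [inv_inv] at this
    rw [hx₀t]
    exact add_mem h2 (IntermediateField.algebraMap_mem _ a)
  obtain ⟨P', -, hP'ord, hP'all⟩ := exists_simple_pole_of_adjoin_eq_top hK₀ htop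
  have hPt_ord : P.ord t = 1 := by
    have hpos : 0 < P.ord t := (P.ord_pos_iff ht0).mpr hPt
    have hPP' : P = P' := by
      by_contra hne
      have := hP'all P hne
      rw [P.ord_inv] at this
      omega
    rw [← hPP', P.ord_inv] at hP'ord
    omega
  have htval : P.1 t = exp (-1 : ℤ) := by rw [P.val_eq_exp_neg_ord ht0, hPt_ord]
  have hDφ : LocRes.D k (φ x₀) = LocRes.D k (φ t) := by
    have h2 : LocRes.D k (HahnSeries.C (algebraMap k k a) : LaurentSeries k) = 0 :=
      LocRes.derivative_C k _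
    rw [ht, map_sub, map_sub, LocRes.map_algebraMap, h2, sub_zero]
  have hvφ : LocRes.vDiff φ 1 x₀ = 1 := by
    rw [vDiff_one_left, hDφ]
    exact val_D_of_val_eq _ (by rw [hφ.1, htval])
  have hx : LocRes.vDiff φ 1 x₀ ≠ 0 := by rw [hvφ]; exact one_ne_zero
  obtain ⟨D2, hD2⟩ := exists_derivation_of_D_ne_zero hdu
  have hDu : LocRes.D k (Φ u) ≠ 0 := D_expansion_ne_zero' hK D2 hD2 Q Φ hΦ
  have hx' : LocRes.vDiff Φ 1 (algebraMap k⟮u⟯ K x₀) ≠ 0 := by
    rw [hx₀u, vDiff_one_left]
    exact (map_ne_zero _).mpr hDu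
  have hdE : LocRes.diffExp φ Φ e x₀ = LocRes.ordDiff Φ 1 u := by
    unfold LocRes.diffExp
    rw [hx₀u]
    have h0 : LocRes.ordDiff φ 1 x₀ = 0 := by
      unfold LocRes.ordDiff
      rw [hvφ, log_one, neg_zero]
    rw [h0, mul_zero, sub_zero]
  -- integrality
  have hQv : Q.1 v ≤ 1 := (hPM.le Q).trans (by rw [max_eq_left hQu])
  have hx₀P : P.1 x₀ ≤ 1 := by
    have h1 := he x₀
    rw [hx₀u] at h1
    by_contra hgt
    rw [not_le] at hgt
    have h2 : 1 < Q.1 u := by
      rw [h1]
      exact one_lt_pow₀ hgt he.pos.ne'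
    exact absurd hQu (not_le.mpr h2)
  have hyi : IsIntegral P.O v := by
    rw [isIntegral_iff_forall_isOver hK₀ P v]
    rintro Q' ⟨e', he'⟩
    have h1 : Q'.1 u ≤ 1 := by
      have h2 := he' x₀
      rw [hx₀u] at h2
      rw [h2]
      exact pow_le_one₀ zero_le hx₀P
    exact (hPM.le Q').trans (by rw [max_eq_left h1])
  have hy : IntermediateField.adjoin k⟮u⟯ ({v} : Set K) = ⊤ := hPM.adjoin_top
  have hmain := le_ord_derivative_and_localization hK₀ hg₀ he hφ hΦ hx hx' hf v hy hyi
  obtain ⟨c, hc0, hNc⟩ := aeval_pderiv_eq_mul_derivative_minpoly hPM.adjoin_top h hdeg hh hN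
  obtain ⟨γ, hγ⟩ : ∃ γ : K,
      γ = Polynomial.aeval v (Polynomial.derivative (minpoly k⟮u⟯ v)) := ⟨_, rfl⟩
  rw [← hγ] at hmain hNc
  have hγ0 : γ ≠ 0 := by
    rintro rfl
    rw [mul_zero] at hNc
    exact hN hNc
  have hord : Q.ord (MvPolynomial.aeval ![u, v] (MvPolynomial.pderiv 1 h)) = Q.ord γ := by
    rw [hNc, Q.ord_mul ((map_ne_zero _).mpr hc0) hγ0, Q.ord_algebraMap, zero_add]
  rw [hord, ← hdE]
  refine ⟨hmain.1, ?_⟩
  -- the two rings
  have hA01 : ∀ z ∈ Algebra.adjoin k (Set.range ![u, v]),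
      z ∈ Algebra.adjoin P.O ({v} : Set K) := by
    intro z hz
    induction hz using Algebra.adjoin_induction with
    | mem z hz =>
      obtain ⟨i, rfl⟩ := hz
      fin_cases i
      · show u ∈ _
        have h1 : algebraMap k⟮u⟯ K x₀ ∈ Algebra.adjoin P.O ({v} : Set K) :=
          algebraMap_mem_of_val_le_one _ hx₀P
        rw [hx₀u] at h1
        exact h1
      · exact Algebra.self_mem_adjoin_singleton _ _
    | algebraMap c =>
      rw [IsScalarTower.algebraMap_apply k k⟮u⟯ K]
      exact algebraMap_mem_of_val_le_one _ (P.2.1 c)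
    | add x y _ _ hx hy => exact Subalgebra.add_mem _ hx hy
    | mul x y _ _ hx hy => exact Subalgebra.mul_mem _ hx hy
  have hOP : ∀ r : k⟮u⟯, P.1 r ≤ 1 →
      algebraMap k⟮u⟯ K r ∈ locSub (Algebra.adjoin k (Set.range ![u, v])) Q := by
    intro r hr
    have hgen : IntermediateField.adjoin k (Set.range fun _ : Fin 1 => x₀) = ⊤ := by
      rw [Set.range_const, hx₀]
      exact adjoin_gen_eq_top u
    have hlt : ∀ l : Fin 1, P.1 ((fun _ : Fin 1 => x₀) l -
        algebraMap k k⟮u⟯ ((fun _ : Fin 1 => a) l)) < 1 := by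
      intro l
      show P.1 (x₀ - algebraMap k k⟮u⟯ a) < 1
      rw [← ht]
      exact hPt
    have h1 : r ∈ locSub (Algebra.adjoin k (Set.range fun _ : Fin 1 => x₀)) P :=
      mem_locSub_of_jacobian hK₀ hgen hlt
        (fun i : Fin 0 => (Fin.elim0 i : MvPolynomial (Fin 1) k)) (fun i => Fin.elim0 i) 0
        (fun l => ⟨1, fun i => Fin.elim0 i, fun l' => by
          rw [if_pos (Subsingleton.elim _ _), if_pos (Subsingleton.elim _ _),
            Finset.univ_eq_empty, Finset.sum_empty, mul_one, add_zero]⟩) hr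
    obtain ⟨num, hnum, den, hden, hden1, hrd⟩ := h1
    have hmapA : ∀ w ∈ Algebra.adjoin k (Set.range fun _ : Fin 1 => x₀),
        algebraMap k⟮u⟯ K w ∈ Algebra.adjoin k (Set.range ![u, v]) := by
      intro w hw
      induction hw using Algebra.adjoin_induction with
      | mem w hw =>
        obtain ⟨_, rfl⟩ := hw
        rw [hx₀u]
        exact Algebra.subset_adjoin ⟨0, rfl⟩
      | algebraMap c =>
        rw [← IsScalarTower.algebraMap_apply]
        exact Subalgebra.algebraMap_mem _ c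
      | add x y _ _ hx hy =>
        rw [map_add]
        exact Subalgebra.add_mem _ hx hy
      | mul x y _ _ hx hy =>
        rw [map_mul]
        exact Subalgebra.mul_mem _ hx hy
    refine ⟨algebraMap k⟮u⟯ K num, hmapA num hnum, algebraMap k⟮u⟯ K den, hmapA den hden, ?_, ?_⟩
    · rw [he den, hden1, one_pow]
    · rw [← map_mul, hrd]
  have hA1loc : ∀ z ∈ Algebra.adjoin P.O ({v} : Set K),
      z ∈ locSub (Algebra.adjoin k (Set.range ![u, v])) Q := by
    intro z hz
    induction hz using Algebra.adjoin_induction with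
    | mem z hz =>
      rw [Set.mem_singleton_iff] at hz
      rw [hz]
      exact le_locSub _ _ (Algebra.subset_adjoin ⟨1, rfl⟩)
    | algebraMap r =>
      rw [IsScalarTower.algebraMap_apply P.O k⟮u⟯ K]
      exact hOP r.1 ((Valuation.mem_valuationSubring_iff _ _).mp r.2)
    | add x y _ _ hx hy => exact Subalgebra.add_mem _ hx hy
    | mul x y _ _ hx hy => exact Subalgebra.mul_mem _ hx hy
  constructor
  · intro heq z hz
    obtain ⟨a', ha', b', hb', hb1, hzb⟩ := hmain.2 heq z hz
    have hb0 : b' ≠ 0 := by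
      rintro rfl
      rw [map_zero] at hb1
      exact zero_ne_one hb1
    have hz' : z = a' * b'⁻¹ := by
      rw [← hzb, mul_assoc, mul_inv_cancel₀ hb0, mul_one]
    apply (inLocRing_plane_iff Q u v hQu hQv z).mpr
    rw [hz']
    exact Subalgebra.mul_mem _ (hA1loc a' ha') (inv_mem_locSub (hA1loc b' hb') hb1)
  · intro hns
    rw [hγ]
    apply ord_derivative_eq_of_localization hK₀ hg₀ he hφ hΦ hx hx' hf v hy hyi
    intro z hz
    obtain ⟨a', ha', w, hw, hw1, hzw⟩ := (inLocRing_plane_iff Q u v hQu hQv z).mp (hns z hz)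
    exact ⟨a', hA01 a' ha', w, hA01 w hw, hw1, hzw⟩

end FinalChart

end FunFld
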