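import Mathlib
import Groth.Agent.Lib.FunFldConstExtC_helper2
import Groth.Agent.Lib.FunFldTower_helper2

/-! Constant field extensions, part D: nonsingularity in towers (helper2). -/

open Polynomial IntermediateField WithZero Module TensorProduct

namespace FunFld

section Gen

/-- Membership in `O_P[k₀']` in terms of coordinates (general form). -/
theorem mem_adjoin_iff_repr_gen {k k₀ k₀' K L : Type*} [Field k] [Field k₀] [Field k₀'] [Field K]
    [Field L] [Algebra k K] [Algebra k₀ k₀'] [Algebra k₀ K] [Algebra K L] [Algebra k₀' L]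
    [Algebra k₀ L] [IsScalarTower k₀ k₀' L] [IsScalarTower k₀ K L]
    (P : Place k K) (hA : ∀ c : k₀, P.1 (algebraMap k₀ K c) ≤ 1)
    [Algebra P.O L] [IsScalarTower P.O K L]
    {ι : Type*} [Fintype ι] (β : Basis ι k₀ k₀') (B : Basis ι K L)
    (hBi : ∀ i, B i = algebraMap k₀' L (β i)) (s : L) :
    s ∈ Algebra.adjoin P.O (Set.range (algebraMap k₀' L)) ↔ ∀ i, P.1 (B.repr s i) ≤ 1 := by
  classical
  have hmap : ∀ a : P.O, algebraMap P.O L a = algebraMap K L (a : K) := fun a =>
    IsScalarTower.algebraMap_apply P.O K L a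
  constructor
  · intro hs
    obtain ⟨M, hM⟩ : ∃ M : Submodule P.O L, M = Submodule.span P.O (Set.range B) := ⟨_, rfl⟩
    have hk : ∀ r : k₀, algebraMap k₀ L r = algebraMap P.O L
        ⟨algebraMap k₀ K r, (Valuation.mem_valuationSubring_iff _ _).mpr (hA r)⟩ := fun r => by
      rw [hmap, ← IsScalarTower.algebraMap_apply k₀ K L]
    have h1 : ∀ a : k₀', algebraMap k₀' L a ∈ M := by
      intro a
      have ha : a = ∑ i, β.repr a i • β i := (β.sum_repr a).symm
      rw [ha, map_sum]
      refine Submodule.sum_mem _ (fun i _ => ?_)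
      rw [Algebra.smul_def, map_mul, ← IsScalarTower.algebraMap_apply k₀ k₀' L, hk, ← hBi,
        ← Algebra.smul_def, hM]
      exact Submodule.smul_mem _ _ (Submodule.subset_span ⟨i, rfl⟩)
    have h2 : M * M ≤ M := by
      rw [hM, Submodule.span_mul_span, Submodule.span_le]
      rintro _ ⟨_, ⟨i, rfl⟩, _, ⟨j, rfl⟩, rfl⟩
      rw [← hM]
      change B i * B j ∈ M
      rw [hBi, hBi, ← map_mul]
      exact h1 _
    have h3 : s ∈ M := by
      induction hs using Algebra.adjoin_induction with
      | mem x hx =>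
        obtain ⟨a, rfl⟩ := hx
        exact h1 a
      | algebraMap r =>
        have : algebraMap P.O L r = r • algebraMap k₀' L 1 := by
          rw [map_one, Algebra.smul_def, mul_one]
        rw [this]
        exact Submodule.smul_mem _ _ (h1 1)
      | add x y _ _ hx hy => exact Submodule.add_mem _ hx hy
      | mul x y _ _ hx hy => exact h2 (Submodule.mul_mem_mul hx hy)
    rw [hM] at h3
    clear hs
    induction h3 using Submodule.span_induction with
    | mem x hx =>
      obtain ⟨j, rfl⟩ := hx
      intro i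
      rw [Basis.repr_self, Finsupp.single_apply]
      split_ifs
      · rw [map_one]
      · rw [map_zero]; exact zero_le
    | zero =>
      intro i
      rw [map_zero, Finsupp.coe_zero, Pi.zero_apply, map_zero]
      exact zero_le
    | add x y _ _ hx hy =>
      intro i
      rw [map_add, Finsupp.add_apply]
      exact (P.1.map_add _ _).trans (max_le (hx i) (hy i))
    | smul r x _ hx =>
      intro i
      have : r • x = (r : K) • x := by
        rw [Algebra.smul_def, Algebra.smul_def, hmap]
      rw [this, map_smul, Finsupp.smul_apply, smul_eq_mul, map_mul]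
      exact (mul_le_mul' ((Valuation.mem_valuationSubring_iff _ _).mp r.2) (hx i)).trans_eq
        (one_mul _)
  · intro hs
    have hsum : s = ∑ i, B.repr s i • B i := (B.sum_repr s).symm
    rw [hsum]
    refine Subalgebra.sum_mem _ (fun i _ => ?_)
    rw [Algebra.smul_def, hBi]
    refine Subalgebra.mul_mem _ ?_ (Algebra.subset_adjoin ⟨β i, rfl⟩)
    have : algebraMap K L (B.repr s i) = algebraMap P.O L
        ⟨B.repr s i, (Valuation.mem_valuationSubring_iff _ _).mpr (hs i)⟩ := by
      rw [hmap]
    rw [this]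
    exact Subalgebra.algebraMap_mem _ _

/-- Integrality over the image of a valuation ring. -/
theorem isIntegral_map_iff {K L : Type*} [Field K] [Field L] [Algebra K L] (A : ValuationSubring K)
    [Algebra A L] [IsScalarTower A K L] (z : L) :
    IsIntegral (A.toSubring.map (algebraMap K L)) z ↔ IsIntegral A z := by
  have hmap : ∀ a : A, algebraMap A L a = algebraMap K L (a : K) := fun a =>
    IsScalarTower.algebraMap_apply A K L a
  let f : A →+* (A.toSubring.map (algebraMap K L)) :=
    ((algebraMap K L).comp A.subtype).codRestrict _ (fun a => ⟨a, a.2, rfl⟩)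
  have hf : Function.Surjective f := by
    rintro ⟨_, a, ha, rfl⟩
    exact ⟨⟨a, ha⟩, rfl⟩
  have hcomp : (algebraMap (A.toSubring.map (algebraMap K L)) L).comp f = algebraMap A L := by
    ext a
    exact (hmap a).symm
  constructor
  · rintro ⟨p, hp, hpz⟩
    obtain ⟨q, hq, -, hqm⟩ := Polynomial.lifts_and_degree_eq_and_monic
      ((Polynomial.mem_lifts p).mpr (Polynomial.map_surjective f hf p)) hp
    refine ⟨q, hqm, ?_⟩
    rw [← hcomp, ← Polynomial.eval₂_map, hq]
    exact hpz
  · rintro ⟨q, hq, hqz⟩
    refine ⟨q.map f, hq.map f, ?_⟩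
    rw [Polynomial.eval₂_map, hcomp]
    exact hqz

/-- Adjoining to the image of a valuation ring. -/
theorem mem_adjoin_map_iff {K L : Type*} [Field K] [Field L] [Algebra K L] (A : ValuationSubring K)
    [Algebra A L] [IsScalarTower A K L] (S : Set L) (z : L) :
    z ∈ Algebra.adjoin (A.toSubring.map (algebraMap K L)) S ↔ z ∈ Algebra.adjoin A S := by
  have hmap : ∀ a : A, algebraMap A L a = algebraMap K L (a : K) := fun a =>
    IsScalarTower.algebraMap_apply A K L a
  constructor
  · intro hz
    induction hz using Algebra.adjoin_induction with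
    | mem x hx => exact Algebra.subset_adjoin hx
    | algebraMap r =>
      obtain ⟨_, a, ha, rfl⟩ := r
      have : algebraMap (A.toSubring.map (algebraMap K L)) L ⟨algebraMap K L a, ⟨a, ha, rfl⟩⟩ =
          algebraMap A L ⟨a, ha⟩ := (hmap ⟨a, ha⟩).symm
      rw [this]
      exact Subalgebra.algebraMap_mem _ _
    | add x y _ _ hx hy => exact Subalgebra.add_mem _ hx hy
    | mul x y _ _ hx hy => exact Subalgebra.mul_mem _ hx hy
  · intro hz
    induction hz using Algebra.adjoin_induction with
    | mem x hx => exact Algebra.subset_adjoin hx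
    | algebraMap r =>
      have : algebraMap A L r = algebraMap (A.toSubring.map (algebraMap K L)) L
          ⟨algebraMap K L (r : K), ⟨r, r.2, rfl⟩⟩ := hmap r
      rw [this]
      exact Subalgebra.algebraMap_mem _ _
    | add x y _ _ hx hy => exact Subalgebra.add_mem _ hx hy
    | mul x y _ _ hx hy => exact Subalgebra.mul_mem _ hx hy

end Gen

section TowerInt

variable {k K K' K'' : Type*} [Field k] [Field K] [Field K'] [Field K'']
    [Algebra k K] [Algebra k K'] [Algebra k K''] [Algebra K K'] [Algebra K' K''] [Algebra K K'']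
    [IsScalarTower k K K'] [IsScalarTower k K' K''] [IsScalarTower k K K'']
    [IsScalarTower K K' K'']

/-- Integral over `O_Q` iff integral at all places over `Q`, for `Q` a place of the middle field
of a tower. -/
theorem isIntegral_iff_forall_isOver_tower (hK : IsFunctionField k K) [FiniteDimensional K K']
    [FiniteDimensional K' K''] (Q : Place k K')
    [Algebra Q.O K''] [IsScalarTower Q.O K' K''] (z : K'') :
    IsIntegral Q.O z ↔ ∀ R : Place k K'', IsOver R Q → R.1 z ≤ 1 := by
  haveI : FiniteDimensional K K'' := FiniteDimensional.trans K K' K''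
  have hmap : ∀ a : Q.O, algebraMap Q.O K'' a = algebraMap K' K'' (a : K') := fun a =>
    IsScalarTower.algebraMap_apply Q.O K' K'' a
  constructor
  · rintro hz R ⟨e, he⟩
    refine val_le_one_of_isIntegral R.1 (fun a => ?_) hz
    rw [hmap, he]
    exact pow_le_one₀ zero_le a.2
  · intro h
    by_contra hz
    let R₀ : Subring K'' := (integralClosure Q.O K'').toSubring
    haveI : IsIntegrallyClosedIn R₀ K'' :=
      inferInstanceAs (IsIntegrallyClosedIn (integralClosure Q.O K'') K'')
    have hzR : z ∉ R₀ := hz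
    obtain ⟨V, hRV, hzV⟩ := Subring.exists_le_valuationSubring_of_isIntegrallyClosedIn hzR
    haveI : Algebra.IsAlgebraic k (algebraicClosure k K'') := algebraicClosure.isAlgebraic k K''
    have hK₁ := isFunctionField_algebraicClosure (K' := K'') hK
    have hPV : ∀ a : K', Q.1 a ≤ 1 → algebraMap K' K'' a ∈ V := by
      intro a ha
      apply hRV
      show IsIntegral Q.O (algebraMap K' K'' a)
      have := isIntegral_algebraMap (R := Q.O) (A := K'')
        (x := ⟨a, (Valuation.mem_valuationSubring_iff _ _).mpr ha⟩)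
      rwa [hmap] at this
    have hk₁V : ∀ c : algebraicClosure k K'', algebraMap (algebraicClosure k K'') K'' c ∈ V := by
      intro c
      have hc : IsIntegral k (c : K'') := (mem_algebraicClosure_iff.mp c.2).isIntegral
      have := val_le_one_of_isIntegral (R := k) V.valuation (fun r => ?_) hc
      · exact (V.valuation_le_one_iff _).mp this
      · rw [V.valuation_le_one_iff, IsScalarTower.algebraMap_apply k K' K'']
        exact hPV _ (Q.2.1 r)
    have hne : V ≠ ⊤ := fun htop => hzV (htop ▸ ValuationSubring.mem_top z)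
    obtain ⟨R₁, hR₁⟩ := exists_place_of_valuationSubring hK₁ V hk₁V hne
    obtain ⟨R, hRdef⟩ : ∃ R : Place k K'', R = R₁.restrictConst (algebraicClosure k K'') :=
      ⟨_, rfl⟩
    have hRval : ∀ x : K'', R.1 x ≤ 1 ↔ x ∈ V := fun x => by
      rw [hRdef]
      exact hR₁ x
    obtain ⟨Q₀, e, he⟩ := exists_isOverWith_tower (K' := K') hK R
    have hQ0 : Q = Q₀ := by
      apply Place.eq_of_forall_le_one
      intro a ha
      have h1 : R.1 (algebraMap K' K'' a) ≤ 1 := (hRval _).mpr (hPV a ha)
      rw [he] at h1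
      by_contra hlt
      push Not at hlt
      exact absurd h1 (not_le.mpr (one_lt_pow₀ hlt he.pos.ne'))
    subst hQ0
    exact hzV ((hRval z).mp (h R ⟨e, he⟩))

end TowerInt

section Bridge

theorem le_one_of_repr_le_one {k K L : Type*} [Field k] [Field K] [Field L] [Algebra k K]
    [Algebra K L] [Algebra k L] {P : Place k K} {Q : Place k L} (hQ : IsOver Q P)
    {ι : Type*} [Fintype ι] (B : Basis ι K L) (hB : ∀ i, Q.1 (B i) ≤ 1) (s : L)
    (hs : ∀ i, P.1 (B.repr s i) ≤ 1) : Q.1 s ≤ 1 := by
  obtain ⟨e, he⟩ := hQ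
  have hsum : s = ∑ i, B.repr s i • B i := (B.sum_repr s).symm
  rw [hsum]
  apply Valuation.map_sum_le
  intro i _
  rw [Algebra.smul_def, map_mul, he]
  exact (mul_le_mul' (pow_le_one₀ zero_le (hs i)) (hB i)).trans_eq (one_mul _)

/-- Nonsingularity (with the valuation ring pushed into the big field) in terms of
coordinates. -/
theorem nonsingular_iff_coords {k k₀ k₀' K L : Type*} [Field k] [Field k₀] [Field k₀'] [Field K]
    [Field L] [Algebra k K] [Algebra k L] [Algebra k₀ k₀'] [Algebra k₀ K] [Algebra K L]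
    [Algebra k₀' L] [Algebra k₀ L] [IsScalarTower k₀ k₀' L] [IsScalarTower k₀ K L]
    (P : Place k K) (hA : ∀ c : k₀, P.1 (algebraMap k₀ K c) ≤ 1)
    (hint : ∀ [Algebra P.O L] [IsScalarTower P.O K L] (z : L),
      IsIntegral P.O z ↔ ∀ R : Place k L, IsOver R P → R.1 z ≤ 1)
    {ι : Type*} [Fintype ι] (β : Basis ι k₀ k₀') (B : Basis ι K L)
    (hBi : ∀ i, B i = algebraMap k₀' L (β i))
    (hconst : ∀ (R : Place k L) (a : k₀'), R.1 (algebraMap k₀' L a) ≤ 1) :
    (integralClosure (P.O.toSubring.map (algebraMap K L)) L =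
      Algebra.adjoin (P.O.toSubring.map (algebraMap K L)) (Set.range (algebraMap k₀' L))) ↔
    ∀ z : L, (∀ R : Place k L, IsOver R P → R.1 z ≤ 1) → ∀ i, P.1 (B.repr z i) ≤ 1 := by
  letI : Algebra P.O L := ((algebraMap K L).comp (algebraMap P.O K)).toAlgebra
  haveI : IsScalarTower P.O K L := IsScalarTower.of_algebraMap_eq (fun _ => rfl)
  have hcoord := mem_adjoin_iff_repr_gen P hA β B hBi
  constructor
  · intro heq z hz
    have h1 : IsIntegral P.O z := (hint z).mpr hz
    have h2 : z ∈ integralClosure (P.O.toSubring.map (algebraMap K L)) L :=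
      (isIntegral_map_iff P.O z).mpr h1
    rw [heq, mem_adjoin_map_iff] at h2
    exact (hcoord z).mp h2
  · intro hN
    ext z
    rw [mem_adjoin_map_iff, hcoord z]
    change IsIntegral _ z ↔ _
    rw [isIntegral_map_iff, hint z]
    refine ⟨hN z, fun hz R hR => ?_⟩
    exact le_one_of_repr_le_one hR B (fun i => by rw [hBi]; exact hconst R _) z hz

end Bridge

section Core

universe u v

variable {k k' k'' : Type u} {K K' K'' : Type v} [Field k] [Field k'] [Field k''] [Field K]
    [Field K'] [Field K'']
    [Algebra k k'] [Algebra k' k''] [Algebra k k''] [IsScalarTower k k' k'']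
    [FiniteDimensional k k'] [FiniteDimensional k' k'']
    [Algebra k K] [Algebra K K'] [Algebra k' K'] [Algebra k K'] [IsScalarTower k k' K']
    [IsScalarTower k K K']
    [Algebra K' K''] [Algebra k'' K''] [Algebra k' K''] [Algebra k K''] [Algebra K K'']
    [IsScalarTower k' k'' K''] [IsScalarTower k' K' K''] [IsScalarTower K K' K'']
    [IsScalarTower k K K'']

/-- S12534. -/
theorem nonsingular_scalar_tower_iff
    (h1 : Function.Bijective (Algebra.TensorProduct.productMap
      (IsScalarTower.toAlgHom k k' K') (IsScalarTower.toAlgHom k K K')))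
    (h2 : Function.Bijective (Algebra.TensorProduct.productMap
      (IsScalarTower.toAlgHom k' k'' K'') (IsScalarTower.toAlgHom k' K' K'')))
    (hK : IsFunctionField k K) (P : Place k K) :
    (integralClosure (P.O.toSubring.map (algebraMap K K'')) K'' =
        Algebra.adjoin (P.O.toSubring.map (algebraMap K K'')) (Set.range (algebraMap k'' K''))) ↔
      (integralClosure (P.O.toSubring.map (algebraMap K K')) K' =
          Algebra.adjoin (P.O.toSubring.map (algebraMap K K')) (Set.range (algebraMap k' K')) ∧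
        ∀ Q : Place k K', IsOver Q P →
          integralClosure (Q.O.toSubring.map (algebraMap K' K'')) K'' =
            Algebra.adjoin (Q.O.toSubring.map (algebraMap K' K''))
              (Set.range (algebraMap k'' K''))) := by
  classical
  haveI : FiniteDimensional K K' := finiteDimensional_constExt h1
  haveI : FiniteDimensional K' K'' := finiteDimensional_constExt h2
  haveI : FiniteDimensional K K'' := FiniteDimensional.trans K K' K''
  haveI t1 : IsScalarTower k K' K'' := IsScalarTower.of_algebraMap_eq (fun c => by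
    rw [IsScalarTower.algebraMap_apply k K K'', IsScalarTower.algebraMap_apply K K' K'',
      ← IsScalarTower.algebraMap_apply k K K'])
  haveI t2 : IsScalarTower k k'' K'' := IsScalarTower.of_algebraMap_eq (fun c => by
    rw [IsScalarTower.algebraMap_apply k K' K'', IsScalarTower.algebraMap_apply k k' K',
      ← IsScalarTower.algebraMap_apply k' K' K'', IsScalarTower.algebraMap_apply k' k'' K'',
      ← IsScalarTower.algebraMap_apply k k' k''])
  haveI : FiniteDimensional k k'' := FiniteDimensional.trans k k' k''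
  -- bases
  obtain ⟨β, hβ⟩ : ∃ β : Basis (Fin (finrank k k')) k k', β = Module.finBasis k k' := ⟨_, rfl⟩
  obtain ⟨γ, hγ⟩ : ∃ γ : Basis (Fin (finrank k' k'')) k' k'', γ = Module.finBasis k' k'' :=
    ⟨_, rfl⟩
  obtain ⟨B₁, hB₁def⟩ : ∃ B₁, B₁ = constBasis h1 β := ⟨_, rfl⟩
  obtain ⟨B₂, hB₂def⟩ : ∃ B₂, B₂ = constBasis h2 γ := ⟨_, rfl⟩
  have hB₁ : ∀ i, B₁ i = algebraMap k' K' (β i) := fun i => by rw [hB₁def, constBasis_apply]
  have hB₂ : ∀ j, B₂ j = algebraMap k'' K'' (γ j) := fun j => by rw [hB₂def, constBasis_apply]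
  obtain ⟨BB, hBBdef⟩ : ∃ BB, BB = B₁.smulTower B₂ := ⟨_, rfl⟩
  have hBB : ∀ ij, BB ij = algebraMap k'' K'' ((β.smulTower γ) ij) := fun ij => by
    rw [hBBdef, Basis.smulTower_apply, Basis.smulTower_apply, Algebra.smul_def, hB₁, hB₂,
      ← IsScalarTower.algebraMap_apply k' K' K'', IsScalarTower.algebraMap_apply k' k'' K'',
      ← map_mul, Algebra.smul_def]
  have hBBrepr : ∀ z ij, BB.repr z ij = B₁.repr (B₂.repr z ij.2) ij.1 := fun z ij => by
    rw [hBBdef, Basis.smulTower_repr]
  -- constants
  have hconst'' : ∀ (R : Place k K'') (a : k''), R.1 (algebraMap k'' K'' a) ≤ 1 := fun R a =>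
    val_le_one_of_isIntegral R.1 R.2.1
      ((Algebra.IsIntegral.isIntegral (R := k) a).map (IsScalarTower.toAlgHom k k'' K''))
  have hconst' : ∀ (Q : Place k K') (a : k'), Q.1 (algebraMap k' K' a) ≤ 1 := fun Q a =>
    val_le_one_of_isIntegral Q.1 Q.2.1
      ((Algebra.IsIntegral.isIntegral (R := k) a).map (IsScalarTower.toAlgHom k k' K'))
  -- bridging
  rw [nonsingular_iff_coords (k₀ := k) (k₀' := k'') P P.2.1
      (fun z => isIntegral_iff_forall_isOver hK P z) (β.smulTower γ) BB hBB hconst'',
    nonsingular_iff_coords (k₀ := k) (k₀' := k') P P.2.1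
      (fun z => isIntegral_iff_forall_isOver hK P z) β B₁ hB₁ hconst']
  have hbrQ : ∀ Q : Place k K',
      (integralClosure (Q.O.toSubring.map (algebraMap K' K'')) K'' =
        Algebra.adjoin (Q.O.toSubring.map (algebraMap K' K''))
          (Set.range (algebraMap k'' K''))) ↔
      ∀ z : K'', (∀ R : Place k K'', IsOver R Q → R.1 z ≤ 1) → ∀ j, Q.1 (B₂.repr z j) ≤ 1 :=
    fun Q => nonsingular_iff_coords (k₀ := k') (k₀' := k'') Q (hconst' Q)
      (fun z => isIntegral_iff_forall_isOver_tower hK Q z) γ B₂ hB₂ hconst''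
  simp only [hbrQ]
  -- tower facts
  have hbelow : ∀ R : Place k K'', IsOver R P → ∃ Q : Place k K', IsOver Q P ∧ IsOver R Q := by
    intro R hRP
    obtain ⟨Q, e₂, h₂⟩ := exists_isOverWith_tower (K' := K') hK R
    obtain ⟨P', e₁, h₁⟩ := exists_isOverWith hK Q
    have hRP' : IsOver R P' := ⟨_, h₂.trans h₁⟩
    have : P' = P := hRP'.unique_below hRP
    subst this
    exact ⟨Q, ⟨e₁, h₁⟩, ⟨e₂, h₂⟩⟩
  have htrans : ∀ (R : Place k K'') (Q : Place k K'), IsOver R Q → IsOver Q P → IsOver R P := by
    rintro R Q ⟨e₂, h₂⟩ ⟨e₁, h₁⟩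
    exact ⟨_, h₂.trans h₁⟩
  have hauto' : ∀ w : K', (∀ i, P.1 (B₁.repr w i) ≤ 1) →
      ∀ Q : Place k K', IsOver Q P → Q.1 w ≤ 1 := fun w hw Q hQ =>
    le_one_of_repr_le_one hQ B₁ (fun i => by rw [hB₁]; exact hconst' Q _) w hw
  constructor
  · intro hN
    constructor
    · -- `N_P'`
      intro w hw i
      haveI : Nonempty (Fin (finrank k' k'')) := ⟨⟨0, Module.finrank_pos⟩⟩
      obtain ⟨j'⟩ := ‹Nonempty (Fin (finrank k' k''))›
      have hz : ∀ R : Place k K'', IsOver R P → R.1 (w • B₂ j') ≤ 1 := by
        intro R hRP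
        obtain ⟨Q, hQP, e₂, h₂⟩ := hbelow R hRP
        rw [Algebra.smul_def, map_mul, h₂, hB₂]
        exact (mul_le_mul' (pow_le_one₀ zero_le (hw Q hQP)) (hconst'' R _)).trans_eq (one_mul _)
      have := hN (w • B₂ j') hz (i, j')
      rw [hBBrepr, map_smul, Basis.repr_self, Finsupp.smul_apply, Finsupp.single_eq_same,
        smul_eq_mul, mul_one] at this
      exact this
    · -- `N_Q''`
      intro Q hQP z hz j
      by_cases hz0 : z = 0
      · rw [hz0, map_zero, Finsupp.coe_zero, Pi.zero_apply, map_zero]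
        exact zero_le
      have hfinT := finite_isOver (K' := K'') hK P
      have hfinS := finite_isOver (K' := K') hK P
      obtain ⟨M, hM⟩ := Finset.exists_le (hfinT.toFinset.image (fun R => log (R.1 z)))
      obtain ⟨N, hN0, hNM⟩ : ∃ N : ℤ, 1 ≤ N ∧ M ≤ N := ⟨max M 1, le_max_right _ _, le_max_left _ _⟩
      have hbound : ∀ R : Place k K'', IsOver R P → R.1 z ≤ exp N := by
        intro R hR
        apply le_exp_of_log_le
        exact (hM _ (Finset.mem_image.mpr ⟨R, hfinT.mem_toFinset.mpr hR, rfl⟩)).trans hNM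
      obtain ⟨S, hS⟩ : ∃ S : Finset (Place k K'), S = hfinS.toFinset := ⟨_, rfl⟩
      have hSmem : ∀ Q', Q' ∈ S ↔ IsOver Q' P := fun Q' => by
        rw [hS]
        exact hfinS.mem_toFinset
      obtain ⟨u, hu⟩ := exists_approx (fun i : S => (i : Place k K')) Subtype.val_injective
        (fun i => if (i : Place k K') = Q then (1 : K') else 0) N
      have huQ : Q.1 (u - 1) ≤ exp (-N) := by
        have := hu ⟨Q, (hSmem Q).mpr hQP⟩
        simp only [if_true] at this
        exact this
      have hexplt : exp (-N) < (1 : ℤᵐ⁰) := by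
        rw [← exp_zero, exp_lt_exp]
        omega
      have huQ1 : Q.1 u = 1 := by
        have h2 : u = 1 + (u - 1) := by ring
        rw [h2, Valuation.map_add_eq_of_lt_left, map_one]
        rw [map_one]
        exact lt_of_le_of_lt huQ hexplt
      have huz : ∀ R : Place k K'', IsOver R P → R.1 (u • z) ≤ 1 := by
        intro R hRP
        obtain ⟨Q', hQ'P, e₂, h₂⟩ := hbelow R hRP
        rw [Algebra.smul_def, map_mul, h₂]
        by_cases hQQ : Q' = Q
        · subst hQQ
          rw [huQ1, one_pow, one_mul]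
          exact hz R ⟨e₂, h₂⟩
        · have h3 := hu ⟨Q', (hSmem Q').mpr hQ'P⟩
          simp only [if_neg hQQ, sub_zero] at h3
          have h4 : Q'.1 u ^ e₂ ≤ exp (-N) := by
            calc Q'.1 u ^ e₂ ≤ Q'.1 u ^ 1 :=
                  pow_le_pow_of_le_one zero_le (h3.trans hexplt.le) h₂.pos
              _ = Q'.1 u := pow_one _
              _ ≤ exp (-N) := h3
          calc Q'.1 u ^ e₂ * R.1 z ≤ exp (-N) * exp N := mul_le_mul' h4 (hbound R hRP)
            _ = 1 := by rw [← exp_add, neg_add_cancel, exp_zero]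
      have h5 := hN (u • z) huz
      have h6 : ∀ i, P.1 (B₁.repr (B₂.repr (u • z) j) i) ≤ 1 := fun i => by
        have := h5 (i, j)
        rwa [hBBrepr] at this
      have h7 := hauto' _ h6 Q hQP
      rw [map_smul, Finsupp.smul_apply, smul_eq_mul, map_mul, huQ1, one_mul] at h7
      exact h7
  · rintro ⟨hN', hNQ⟩ z hz ij
    rw [hBBrepr]
    apply hN'
    intro Q hQP
    exact hNQ Q hQP z (fun R hRQ => hz R (htrans R Q hRQ hQP)) ij.2

end Core

end FunFld
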