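import Mathlib
import Groth.Agent.Lib.FunFldJ_helper2

/-! Uniqueness of the rational subfield of index two in genus at least two (helper2). -/

open Polynomial IntermediateField WithZero Module

namespace FunFld

variable {k K : Type*} [Field k] [Field K] [Algebra k K]

/-- Riemann's inequality for two generators of degree two: if `x' ∉ k(x)` then
`g ≤ (deg (x)_∞ - 1)(deg (x')_∞ - 1)`; here in the form needed. -/
theorem genus_le_one_of_notMem_adjoin (hK : IsFunctionField k K) {x x' : K}
    (hx : Transcendental k x) (hdx : Divisor.deg (poleDiv k x) = 2)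
    (hdx' : Divisor.deg (poleDiv k x') = 2) (hnot : x' ∉ k⟮x⟯) : genus k K ≤ 1 := by
  classical
  have hx0 : x ≠ 0 := by
    rintro rfl
    exact hx isAlgebraic_zero
  set l : ℕ := genus k K with hl
  set D : Divisor k K := l • poleDiv k x + poleDiv k x' with hD
  haveI := finiteDimensional_L hK D
  have hdeg : ∀ p : degreeLT k (l + 1), (p : k[X]).natDegree ≤ l := fun p => by
    have h1 := Polynomial.mem_degreeLT.mp p.2
    by_cases hp0 : (p : k[X]) = 0
    · rw [hp0, natDegree_zero]
      exact Nat.zero_le _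
    · exact Nat.lt_succ_iff.mp ((natDegree_lt_iff_degree_lt hp0).mpr h1)
  have hmem1 : ∀ p : degreeLT k (l + 1), aeval x (p : k[X]) ∈ L D := by
    intro p P
    have h1 := aeval_mem_L_nsmul_poleDiv hK hx0 (p : k[X]) (hdeg p) P
    refine h1.trans (exp_le_exp.mpr ?_)
    rw [hD, Finsupp.add_apply]
    have h2 : (0 : ℤ) ≤ poleDiv k x' P := poleDiv_nonneg x' P
    linarith
  have hmem2 : ∀ q : degreeLT k (l + 1), aeval x (q : k[X]) * x' ∈ L D := fun q =>
    mul_mem_L (aeval_mem_L_nsmul_poleDiv hK hx0 (q : k[X]) (hdeg q)) (mem_L_poleDiv hK x')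
  let φ : (degreeLT k (l + 1) × degreeLT k (l + 1)) →ₗ[k] L D :=
    { toFun := fun pq => ⟨aeval x (pq.1 : k[X]) + aeval x (pq.2 : k[X]) * x',
        (L D).add_mem (hmem1 pq.1) (hmem2 pq.2)⟩
      map_add' := fun a b => by
        apply Subtype.ext
        show aeval x ((a + b).1 : k[X]) + aeval x ((a + b).2 : k[X]) * x' =
          (aeval x (a.1 : k[X]) + aeval x (a.2 : k[X]) * x') +
          (aeval x (b.1 : k[X]) + aeval x (b.2 : k[X]) * x')
        rw [Prod.fst_add, Prod.snd_add, Submodule.coe_add, Submodule.coe_add, map_add, map_add]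
        ring
      map_smul' := fun c a => by
        apply Subtype.ext
        show aeval x ((c • a).1 : k[X]) + aeval x ((c • a).2 : k[X]) * x' =
          c • (aeval x (a.1 : k[X]) + aeval x (a.2 : k[X]) * x')
        rw [Prod.smul_fst, Prod.smul_snd, Submodule.coe_smul, Submodule.coe_smul, map_smul,
          map_smul, smul_add, smul_mul_assoc] }
  have hφ : ∀ pq, ((φ pq : L D) : K) = aeval x (pq.1 : k[X]) + aeval x (pq.2 : k[X]) * x' :=
    fun _ => rfl
  have hinj : Function.Injective φ := by
    rw [injective_iff_map_eq_zero]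
    rintro ⟨p, q⟩ hpq
    have h1 : aeval x (p : k[X]) + aeval x (q : k[X]) * x' = 0 := by
      rw [← hφ (p, q), hpq]
      rfl
    have hq : (q : k[X]) = 0 := by
      by_contra hq0
      have hq1 : aeval x (q : k[X]) ≠ 0 := fun h => hq0 (transcendental_iff.mp hx _ h)
      apply hnot
      have h2 : x' = -(aeval x (p : k[X])) / aeval x (q : k[X]) := by
        field_simp
        linear_combination h1
      rw [h2]
      have hxm : x ∈ k⟮x⟯ := IntermediateField.mem_adjoin_simple_self k x
      have hm : ∀ r : k[X], aeval x r ∈ k⟮x⟯ := fun r => by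
        rw [Polynomial.aeval_eq_sum_range]
        exact sum_mem (fun i _ => k⟮x⟯.smul_mem (pow_mem hxm i))
      exact div_mem (neg_mem (hm _)) (hm _)
    have hp : (p : k[X]) = 0 := by
      rw [hq, map_zero, zero_mul, add_zero] at h1
      exact transcendental_iff.mp hx _ h1
    exact Prod.ext (Subtype.ext hp) (Subtype.ext hq)
  have h1 := LinearMap.finrank_le_finrank_of_injective hinj
  rw [Module.finrank_prod, (degreeLTEquiv k (l + 1)).finrank_eq, Module.finrank_fin_fun] at h1
  have hdegD : Divisor.deg D = 2 * (l : ℤ) + 2 := by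
    rw [hD, deg_add, deg_nsmul, hdx, hdx']
    ring
  have h2 := ell_eq_of_deg_ge hK D (by rw [hdegD, ← hl]; omega)
  have h3 : ((l + 1 + (l + 1) : ℕ) : ℤ) ≤ (ell D : ℤ) := by exact_mod_cast h1
  rw [h2, hdegD, ← hl] at h3
  push_cast at h3
  omega

theorem transcendental_of_finrank_adjoin (hK : IsFunctionField k K) {x : K} {n : ℕ}
    (hn : 0 < n) (hx : Module.finrank k⟮x⟯ K = n) : Transcendental k x := by
  intro halg
  haveI : FiniteDimensional k⟮x⟯ K := Module.finite_of_finrank_pos (by rw [hx]; exact hn)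
  haveI : FiniteDimensional k k⟮x⟯ := IntermediateField.adjoin.finiteDimensional halg.isIntegral
  haveI : FiniteDimensional k K := Module.Finite.trans k⟮x⟯ K
  obtain ⟨t, ht, -⟩ := hK.1
  exact ht (Algebra.IsAlgebraic.isAlgebraic t)

theorem adjoin_eq_of_finrank_two (hK : IsFunctionField k K) (hg : 2 ≤ genus k K) {x x' : K}
    (hx : Module.finrank k⟮x⟯ K = 2) (hx' : Module.finrank k⟮x'⟯ K = 2) : k⟮x⟯ = k⟮x'⟯ := by
  have htx := transcendental_of_finrank_adjoin hK (by norm_num) hx
  have htx' := transcendental_of_finrank_adjoin hK (by norm_num) hx'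
  have hdx : Divisor.deg (poleDiv k x) = 2 := by rw [deg_poleDiv_eq hK htx, hx]; rfl
  have hdx' : Divisor.deg (poleDiv k x') = 2 := by rw [deg_poleDiv_eq hK htx', hx']; rfl
  have hmem : x' ∈ k⟮x⟯ := by
    by_contra hnot
    have := genus_le_one_of_notMem_adjoin hK htx hdx hdx' hnot
    omega
  have hle : k⟮x'⟯ ≤ k⟮x⟯ := by
    rw [IntermediateField.adjoin_simple_le_iff]
    exact hmem
  haveI : FiniteDimensional k⟮x'⟯ K := Module.finite_of_finrank_pos (by rw [hx']; norm_num)
  exact (IntermediateField.eq_of_le_of_finrank_eq' hle (by rw [hx, hx'])).symm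

end FunFld
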