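import Mathlib
import Groth.Agent.Lib.FunFldGeomC_helper2
import Groth.Agent.Lib.FunFldConstExtB_helper2
import Groth.Agent.Lib.FunFldExtA_helper2

/-! Geometric function fields (helper2), part F: a finite separable extension of a geometric
function field is geometric over its constant field. -/

open Module TensorProduct IntermediateField

namespace FunFld

universe u v

section Simple

variable {k K : Type*} [Field k] [Field K] [Algebra k K]

/-- A simple finite extension of a field algebraically closed in `K` stays a field after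
tensoring with `K`. -/
theorem isField_tensor_of_powerBasis
    (hcl : ∀ y : K, IsAlgebraic k y → y ∈ Set.range (algebraMap k K))
    {k' : Type*} [Field k'] [Algebra k k'] (pb : PowerBasis k k') : IsField (k' ⊗[k] K) := by
  haveI : FiniteDimensional k k' := pb.finite
  haveI : Algebra.IsAlgebraic k k' := Algebra.IsAlgebraic.of_finite k k'
  obtain ⟨fa, -⟩ : ∃ fa : k' →ₐ[k] AlgebraicClosure K, fa = IsAlgClosed.lift := ⟨_, rfl⟩
  obtain ⟨β, hβ⟩ : ∃ β : AlgebraicClosure K, β = fa pb.gen := ⟨_, rfl⟩
  have hirr : Irreducible ((minpoly k pb.gen).map (algebraMap k K)) :=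
    irreducible_map_of_algClosedIn hcl (minpoly.irreducible pb.isIntegral_gen)
      (minpoly.monic pb.isIntegral_gen)
  have hroot : Polynomial.aeval β ((minpoly k pb.gen).map (algebraMap k K)) = 0 := by
    rw [Polynomial.aeval_map_algebraMap, hβ, Polynomial.aeval_algHom_apply, minpoly.aeval,
      map_zero]
  have hmin : minpoly K β = (minpoly k pb.gen).map (algebraMap k K) :=
    (minpoly.eq_of_irreducible_of_monic hirr hroot ((minpoly.monic pb.isIntegral_gen).map _)).symm
  have hdeg : (minpoly K β).natDegree = pb.dim := by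
    rw [hmin, Polynomial.natDegree_map, pb.natDegree_minpoly]
  have hLI : LinearIndependent K (fun i : Fin pb.dim => β ^ (i : ℕ)) := by
    have h1 := linearIndependent_pow (K := K) β
    have h2 := h1.comp (Fin.cast hdeg.symm) (Fin.cast_injective _)
    exact h2
  have hLD : fa.fieldRange.LinearDisjoint K := by
    apply IntermediateField.LinearDisjoint.of_basis_left
      (pb.basis.map (AlgEquiv.ofInjectiveField fa).toLinearEquiv)
    convert hLI using 1
    funext i
    simp only [Function.comp_apply, Basis.map_apply, PowerBasis.basis_eq_pow]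
    rw [hβ, ← map_pow]
    rfl
  haveI : Algebra.IsAlgebraic k fa.fieldRange :=
    ((AlgEquiv.ofInjectiveField fa).isAlgebraic_iff).1 inferInstance
  have hF : IsField (fa.fieldRange ⊗[k] K) :=
    hLD.isField_of_isAlgebraic (Or.inl inferInstance)
  exact (Algebra.TensorProduct.congr (AlgEquiv.ofInjectiveField fa)
    (AlgEquiv.refl : K ≃ₐ[k] K)).toMulEquiv.isField hF

theorem isField_tensor_of_isSeparable
    (hcl : ∀ y : K, IsAlgebraic k y → y ∈ Set.range (algebraMap k K))
    (k' : Type*) [Field k'] [Algebra k k'] [FiniteDimensional k k'] [Algebra.IsSeparable k k'] :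
    IsField (k' ⊗[k] K) :=
  isField_tensor_of_powerBasis hcl (Field.powerBasisOfFiniteOfSeparable k k')

theorem isReduced_tensor_of_isField (K K' F₀ : Type*) [Field K] [Field K'] [CommRing F₀]
    [Algebra K K'] [Algebra K F₀] [FiniteDimensional K K'] [Algebra.IsSeparable K K']
    (hF : IsField F₀) : IsReduced (K' ⊗[K] F₀) := by
  let _ : Field F₀ := hF.toField
  exact isReduced_tensor_of_isSeparable_left K K' F₀

end Simple

section Main

variable {k k' : Type u} {K K' : Type v} [Field k] [Field k'] [Field K] [Field K']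
    [Algebra k k'] [Algebra k K] [Algebra K K'] [Algebra k' K'] [Algebra k K']
    [IsScalarTower k k' K'] [IsScalarTower k K K'] [FiniteDimensional K K']

/-- The constant field of a finite extension is finite over the constant field below. -/
theorem finiteDimensional_constField (hK : IsFunctionField k K) (hK' : IsFunctionField k' K') :
    FiniteDimensional k k' := by
  classical
  let k₁ := algebraicClosure k K'
  haveI : Algebra.IsAlgebraic k k₁ := algebraicClosure.isAlgebraic k K'
  have hK₁ : IsFunctionField k₁ K' := isFunctionField_algebraicClosure hK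
  -- `k₁` is finite over `k`
  obtain ⟨x₀, hx₀, hfin₀⟩ := hK.1
  haveI := hfin₀
  have hinj : Function.Injective (algebraMap K K') := (algebraMap K K').injective
  have hy : Transcendental k (algebraMap K K' x₀) := fun halg =>
    hx₀ ((isAlgebraic_algebraMap_iff hinj).mp halg)
  haveI : FiniteDimensional k⟮algebraMap K K' x₀⟯ K' := by
    have h1 := finrank_adjoin_algebraMap (k := k) (K := K) (K' := K') x₀
    have h2 : 0 < Module.finrank k⟮x₀⟯ K * Module.finrank K K' :=
      Nat.mul_pos Module.finrank_pos Module.finrank_pos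
    rw [← h1] at h2
    exact Module.finite_of_finrank_pos h2
  haveI : FiniteDimensional k k₁ := finiteDimensional_algebraicClosure_of_transcendental hy
  -- `k₁` lies in the image of `k'`
  have hk₁ : ∀ z : K', z ∈ k₁ → z ∈ Set.range (algebraMap k' K') := by
    intro z hz
    have h1 : IsAlgebraic k z := mem_algebraicClosure_iff.mp hz
    have h2 : IsAlgebraic k' z := h1.tower_top k'
    exact hK'.2 z h2
  -- every element of `k'` is algebraic over `k`
  have halg : ∀ c : k', IsAlgebraic k (algebraMap k' K' c) := by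
    intro c
    by_contra hc
    have hc₁ : Transcendental k₁ (algebraMap k' K' c) := by
      intro h1
      exact hc (h1.restrictScalars k)
    haveI := finiteDimensional_of_transcendental hK₁ hc₁
    obtain ⟨x, hx, -⟩ := hK'.1
    apply hx
    have h2 : IsAlgebraic k₁⟮algebraMap k' K' c⟯ x := Algebra.IsAlgebraic.isAlgebraic x
    obtain ⟨p, hp0, hp⟩ := h2
    have hmem : ∀ s : K', s ∈ k₁⟮algebraMap k' K' c⟯ → s ∈ Set.range (algebraMap k' K') := by
      intro s hs
      induction hs using IntermediateField.adjoin_induction with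
      | mem y hy =>
        rw [Set.mem_singleton_iff] at hy
        rw [hy]
        exact ⟨c, rfl⟩
      | algebraMap a => exact hk₁ _ a.2
      | add y z _ _ hy hz =>
        obtain ⟨a, rfl⟩ := hy
        obtain ⟨b, rfl⟩ := hz
        exact ⟨a + b, map_add _ _ _⟩
      | inv y _ hy =>
        obtain ⟨a, rfl⟩ := hy
        exact ⟨a⁻¹, map_inv₀ _ _⟩
      | mul y z _ _ hy hz =>
        obtain ⟨a, rfl⟩ := hy
        obtain ⟨b, rfl⟩ := hz
        exact ⟨a * b, map_mul _ _ _⟩
    have hlift : p.map (algebraMap k₁⟮algebraMap k' K' c⟯ K') ∈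
        Polynomial.lifts (algebraMap k' K') := by
      rw [Polynomial.lifts_iff_coeff_lifts]
      intro n
      rw [Polynomial.coeff_map]
      exact hmem _ (p.coeff n).2
    obtain ⟨p', hp'⟩ := hlift
    rw [Polynomial.coe_mapRingHom] at hp'
    refine ⟨p', ?_, ?_⟩
    · intro h0
      rw [h0, Polynomial.map_zero] at hp'
      have h3 : p = 0 := Polynomial.map_injective _
        (algebraMap k₁⟮algebraMap k' K' c⟯ K').injective (by rw [← hp', Polynomial.map_zero])
      exact hp0 h3
    · rw [← Polynomial.aeval_map_algebraMap K', hp', Polynomial.aeval_map_algebraMap]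
      exact hp
  -- conclude
  let f : k' →ₗ[k] k₁ :=
    { toFun := fun c => ⟨algebraMap k' K' c, mem_algebraicClosure_iff.mpr (halg c)⟩
      map_add' := fun a b => Subtype.ext (map_add _ _ _)
      map_smul' := fun a b => Subtype.ext (by
        show algebraMap k' K' (a • b) = a • algebraMap k' K' b
        rw [Algebra.smul_def, map_mul, ← IsScalarTower.algebraMap_apply, Algebra.smul_def]) }
  have hf : Function.Injective f := fun a b hab =>
    (algebraMap k' K').injective (congrArg Subtype.val hab)
  exact FiniteDimensional.of_injective f hf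

variable [Algebra.IsSeparable K K']

/-- A finite separable extension of a geometric function field is geometric over its constant
field. -/
theorem isGeometric_of_finite_separable (hK : IsFunctionField k K) (hg : IsGeometric k K)
    (hK' : IsFunctionField k' K') : IsGeometric k' K' := by
  haveI : FiniteDimensional k k' := finiteDimensional_constField hK hK'
  intro k'' _ _ hfd
  haveI := hfd
  letI : Algebra k k'' := ((algebraMap k' k'').comp (algebraMap k k')).toAlgebra
  haveI : IsScalarTower k k' k'' := IsScalarTower.of_algebraMap_eq (fun _ => rfl)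
  haveI : FiniteDimensional k k'' := FiniteDimensional.trans k k' k''
  -- reducedness
  haveI hred : IsReduced (k'' ⊗[k'] K') := by
    have hF₀ : IsField (K ⊗[k] k'') :=
      MulEquiv.isField (hg k'' inferInstance) (Algebra.TensorProduct.comm k K k'').toMulEquiv
    haveI h1 : IsReduced (K' ⊗[K] (K ⊗[k] k'')) := isReduced_tensor_of_isField K K' _ hF₀
    let e := Algebra.TensorProduct.cancelBaseChange k K K K' k''
    haveI h2 : IsReduced (K' ⊗[k] k'') := isReduced_of_injective e.symm e.symm.injective
    haveI : Module.Finite K' (K' ⊗[k] k'') := Module.Finite.base_change k K' k''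
    haveI : IsArtinianRing (K' ⊗[k] k'') := IsArtinianRing.of_finite K' _
    haveI : IsSemisimpleRing (K' ⊗[k] k'') := IsArtinianRing.isSemisimpleRing_of_isReduced _
    let f : K' ⊗[k] k'' →+* k'' ⊗[k'] K' :=
      ((Algebra.TensorProduct.mapOfCompatibleSMul k' k k k'' K' : k'' ⊗[k] K' →ₐ[k] k'' ⊗[k'] K') :
        k'' ⊗[k] K' →+* k'' ⊗[k'] K').comp
      ((Algebra.TensorProduct.comm k K' k'' : K' ⊗[k] k'' ≃ₐ[k] k'' ⊗[k] K') :
        K' ⊗[k] k'' →+* k'' ⊗[k] K')
    have hf : Function.Surjective f :=
      (Algebra.TensorProduct.mapOfCompatibleSMul_surjective k' k k k'' K').comp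
        (Algebra.TensorProduct.comm k K' k'').surjective
    haveI := RingHom.isSemisimpleRing_of_surjective f hf
    infer_instance
  -- the separable part
  obtain ⟨q, hq⟩ := ExpChar.exists k'
  haveI := hq
  let ks := separableClosure k' k''
  haveI : Algebra.IsSeparable k' ks := separableClosure.isSeparable k' k''
  haveI : IsPurelyInseparable ks k'' := separableClosure.isPurelyInseparable k' k''
  have hT₀ : IsField (ks ⊗[k'] K') := isField_tensor_of_isSeparable hK'.2 ks
  let ι : ks ⊗[k'] K' →ₐ[k'] k'' ⊗[k'] K' := Algebra.TensorProduct.map ks.val (AlgHom.id k' K')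
  have hone : (1 : k'' ⊗[k'] K') ≠ 0 := by
    have hinj : Function.Injective (Algebra.TensorProduct.includeRight : K' →ₐ[k'] k'' ⊗[k'] K') :=
      Algebra.TensorProduct.includeRight_injective (algebraMap k' k'').injective
    intro h
    have h1 : (Algebra.TensorProduct.includeRight : K' →ₐ[k'] k'' ⊗[k'] K') 1 =
        (Algebra.TensorProduct.includeRight : K' →ₐ[k'] k'' ⊗[k'] K') 0 := by
      rw [map_one, map_zero, h]
    exact one_ne_zero (hinj h1)
  haveI : Nontrivial (k'' ⊗[k'] K') := ⟨⟨1, 0, hone⟩⟩
  haveI : ExpChar (k'' ⊗[k'] K') q :=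
    expChar_of_injective_algebraMap (algebraMap k' (k'' ⊗[k'] K')).injective q
  have hpow : ∀ z : k'' ⊗[k'] K', ∃ n : ℕ, z ^ q ^ n ∈ ι.range := by
    intro z
    induction z using TensorProduct.induction_on with
    | zero =>
      exact ⟨0, by rw [pow_zero, pow_one]; exact ι.range.zero_mem⟩
    | tmul c y =>
      obtain ⟨n, c₀, hc₀⟩ := IsPurelyInseparable.pow_mem ks q c
      refine ⟨n, c₀ ⊗ₜ[k'] (y ^ q ^ n), ?_⟩
      rw [Algebra.TensorProduct.tmul_pow, ← hc₀]
      rfl
    | add z₁ z₂ h₁ h₂ =>
      obtain ⟨n₁, hn₁⟩ := h₁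
      obtain ⟨n₂, hn₂⟩ := h₂
      refine ⟨n₁ + n₂, ?_⟩
      rw [add_pow_expChar_pow]
      refine ι.range.add_mem ?_ ?_
      · rw [pow_add, pow_mul]
        exact ι.range.pow_mem hn₁ _
      · rw [add_comm n₁ n₂, pow_add, pow_mul]
        exact ι.range.pow_mem hn₂ _
  refine ⟨⟨1, 0, hone⟩, mul_comm, fun {z} hz => ?_⟩
  obtain ⟨n, w, hw⟩ := hpow z
  replace hw : ι w = z ^ q ^ n := hw
  have hzq : z ^ q ^ n ≠ 0 := fun h => hz (IsReduced.eq_zero z ⟨_, h⟩)
  have hw0 : w ≠ 0 := by
    rintro rfl
    rw [map_zero] at hw
    exact hzq hw.symm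
  obtain ⟨w', hw'⟩ := hT₀.mul_inv_cancel hw0
  have hqn : 0 < q ^ n := expChar_pow_pos k' q n
  obtain ⟨m, hm⟩ : ∃ m, q ^ n = m + 1 := ⟨q ^ n - 1, by omega⟩
  refine ⟨z ^ m * ι w', ?_⟩
  rw [← mul_assoc, ← pow_succ', ← hm, ← hw, ← map_mul]
  show ι (w * w') = 1
  rw [hw']
  exact ι.toRingHom.map_one

end Main

end FunFld
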