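import Mathlib
import Groth.Prelude.Def_LocRes
import Groth.Agent.Lib.TateFunFld_helper2
import Groth.Agent.Lib.FunFldJ_helper2

/-! The residue pairing gives Weil differentials, with the expected divisor (helper2). -/

open HahnSeries WithZero

namespace FunFld

open TateRes

universe u v w

variable {k : Type u} {K : Type v} [Field k] [Field K] [Algebra k K]

section Local

variable {F : Type w} [Field F] [Algebra k F]

theorem locRes_add_left (φ : K →ₐ[k] LaurentSeries F) (x y v : K) :
    LocRes.locRes φ (x + y) v = LocRes.locRes φ x v + LocRes.locRes φ y v := by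
  unfold LocRes.locRes LocRes.resExp
  rw [map_add, add_mul, map_add, map_add]

theorem locRes_smul_left (φ : K →ₐ[k] LaurentSeries F) (c : k) (x v : K) :
    LocRes.locRes φ (c • x) v = c • LocRes.locRes φ x v := by
  unfold LocRes.locRes
  rw [← LocRes.resOmega_smul_D, smul_assoc, map_smul, LocRes.resOmega_smul_D, map_smul]

theorem locRes_zero_left (φ : K →ₐ[k] LaurentSeries F) (v : K) :
    LocRes.locRes φ 0 v = 0 := by
  unfold LocRes.locRes LocRes.resExp
  rw [map_zero, zero_mul, map_zero, map_zero]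

variable {w : Valuation K (WithZero (Multiplicative ℤ))} {φ : K →ₐ[k] LaurentSeries F}

theorem vDiff_mul_left (hφ : LocRes.IsExpansionAt w φ) (z u v : K) :
    LocRes.vDiff φ (z * u) v = w z * LocRes.vDiff φ u v := by
  unfold LocRes.vDiff
  rw [show φ (z * u) = φ z * φ u from map_mul φ z u, mul_assoc, map_mul, hφ.1]

theorem locRes_eq_zero_of_val (hφ : LocRes.IsExpansionAt w φ) {z u v : K}
    (h : w z * LocRes.vDiff φ u v ≤ 1) : LocRes.locRes φ (z * u) v = 0 := by
  have h1 : Valued.v (φ (z * u) * LocRes.D F (φ v)) ≤ exp (-(0 : ℤ)) := by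
    rw [neg_zero, exp_zero]
    have h2 := vDiff_mul_left hφ z u v
    unfold LocRes.vDiff at h2
    rw [h2]
    exact h
  unfold LocRes.locRes LocRes.resExp
  rw [LocRes.res_apply, LaurentSeries.coeff_zero_of_lt_valuation F h1 (by norm_num), map_zero]

theorem exists_sub_ord_general (hφ : LocRes.IsExpansionAt w φ) (N : ℤ)
    (x : LaurentSeries F) : ∃ y : K, Ord N (x - φ y) := by
  obtain ⟨t, ht⟩ := hφ.2.2
  have ht0 : t ≠ 0 := by
    rintro rfl
    rw [map_zero] at ht
    exact exp_ne_zero ht.symm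
  have h1 : Ord N (φ (t ^ N)) := by
    rw [ord_exp_iff hφ, map_zpow₀, ht, ← exp_zsmul]
    apply le_of_eq
    congr 1
    rw [smul_neg, zsmul_one]
    rfl
  obtain ⟨y', hy'⟩ := exists_sub_ord' hφ (x * φ (t ^ (-N)))
  refine ⟨y' * t ^ N, ?_⟩
  have e : x - φ (y' * t ^ N) = (x * φ (t ^ (-N)) - φ y') * φ (t ^ N) := by
    have e0 : φ (t ^ (-N)) * φ (t ^ N) = 1 := by
      rw [← map_mul, ← zpow_add₀ ht0, neg_add_cancel, zpow_zero, map_one]
    rw [sub_mul, mul_assoc, e0, mul_one, map_mul]
  rw [e]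
  have h2 := hy'.mul h1
  rwa [zero_add] at h2

theorem exists_locRes_ne_zero (hφ : LocRes.IsExpansionAt w φ)
    (hsep : ∃ c : F, Algebra.trace k F c ≠ 0) {u v : K} (hne : LocRes.vDiff φ u v ≠ 0) :
    ∃ z : K, w z * LocRes.vDiff φ u v ≤ exp 1 ∧ LocRes.locRes φ (z * u) v ≠ 0 := by
  obtain ⟨c₀, hc₀⟩ := hsep
  obtain ⟨f, hf⟩ : ∃ f : LaurentSeries F, f = φ u * LocRes.D F (φ v) := ⟨_, rfl⟩
  have hvf : Valued.v f = LocRes.vDiff φ u v := by rw [hf]; rfl
  obtain ⟨n, hn⟩ : ∃ n : ℤ, n = -log (LocRes.vDiff φ u v) := ⟨_, rfl⟩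
  have hvn : LocRes.vDiff φ u v = exp (-n) := by
    rw [hn, neg_neg, exp_log hne]
  have hfn : Ord n f := by rw [ord_iff, hvf, hvn]
  have hcoef : f.coeff n ≠ 0 := by
    intro h0
    have h1 : Ord (n + 1) f := by
      intro i hi
      rcases lt_or_eq_of_le (show i ≤ n by omega) with h | h
      · exact hfn i h
      · rw [h]; exact h0
    rw [ord_iff, hvf, hvn, exp_le_exp] at h1
    omega
  obtain ⟨x, hx⟩ : ∃ x : LaurentSeries F, x = single (-n - 1) (c₀ / f.coeff n) := ⟨_, rfl⟩
  obtain ⟨z, hz⟩ := exists_sub_ord_general hφ (-n) x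
  have hxord : Ord (-n - 1) x := by rw [hx]; exact ord_single _ _
  have hzord : Ord (-n - 1) (φ z) := by
    have e : φ z = x - (x - φ z) := by abel
    rw [e]
    exact hxord.sub (hz.mono (by omega))
  refine ⟨z, ?_, ?_⟩
  · have h1 : w z ≤ exp (n + 1) := by
      have h2 := (ord_exp_iff hφ z (-n - 1)).mp hzord
      rwa [show -(-n - 1) = n + 1 by ring] at h2
    rw [hvn]
    calc w z * exp (-n) ≤ exp (n + 1) * exp (-n) := mul_le_mul' h1 le_rfl
      _ = exp 1 := by rw [← exp_add]; congr 1; ring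
  · have e1 : LocRes.resExp φ (z * u) v = c₀ := by
      unfold LocRes.resExp
      rw [LocRes.res_apply, map_mul, mul_assoc, ← hf]
      have e2 : φ z * f = x * f - (x - φ z) * f := by ring
      rw [e2, HahnSeries.coeff_sub]
      have h3 := hz.mul hfn
      rw [neg_add_cancel] at h3
      rw [h3 (-1) (by norm_num), sub_zero, hx, HahnSeries.coeff_single_mul]
      rw [show (-1 : ℤ) - (-n - 1) = n by ring, div_mul_cancel₀ _ hcoef]
    unfold LocRes.locRes
    rw [e1]
    exact hc₀

/-- The derivative of the expansion of `v` is nonzero when `dv ≠ 0`. -/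
theorem D_exp_ne_zero_of_kaehler (hK : IsFunctionField k K) (hg : IsGeometric k K)
    (hφ : LocRes.IsExpansionAt w φ) {v : K} (hv : KaehlerDifferential.D k K v ≠ 0) :
    LocRes.D F (φ v) ≠ 0 := by
  obtain ⟨t, ht⟩ := hφ.2.2
  have h1 : Valued.v (φ t) = exp (-(1 : ℤ)) := by rw [hφ.1, ht]
  have h2 := laurent_val_D_eq (φ t) 1 h1 (by rw [Int.cast_one]; exact one_ne_zero)
  have h3 : LocRes.D F (φ t) ≠ 0 := by
    intro h0
    rw [h0, map_zero] at h2
    exact exp_ne_zero h2.symm
  obtain ⟨c, hc⟩ := exists_kaehler_D_eq_smul hK hg hv t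
  have h4 := D_exp_of_kaehler φ hc
  intro h0
  apply h3
  rw [h4, h0, mul_zero]

end Local

section Global

variable (hK : IsFunctionField k K)
  (F : Place k K → Type w) [∀ P, Field (F P)] [∀ P, Algebra k (F P)]
  [∀ P, FiniteDimensional k (F P)]
  (φ : ∀ P, K →ₐ[k] LaurentSeries (F P)) (hφ : ∀ P, LocRes.IsExpansionAt P.1 (φ P))

include hK hφ in
theorem finite_support_locRes_adele (a : adele k K) (u v : K) :
    (Function.support fun P => LocRes.locRes (φ P) ((a : Place k K → K) P * u) v).Finite := by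
  have h1 : ∀ᶠ Q : Place k K in Filter.cofinite, Q.1 ((a : Place k K → K) Q) ≤ 1 := a.2
  have h2 : ∀ᶠ Q : Place k K in Filter.cofinite, Q.1 u ≤ 1 := diag_mem_adele hK u
  have h3 : ∀ᶠ Q : Place k K in Filter.cofinite, Q.1 v ≤ 1 := diag_mem_adele hK v
  have hfin := Filter.eventually_cofinite.mp ((h1.and h2).and h3)
  refine hfin.subset ?_
  intro Q hQ h
  apply hQ
  show LocRes.locRes (φ Q) ((a : Place k K → K) Q * u) v = 0
  unfold LocRes.locRes
  rw [resExp_eq_zero_of_le_one (hφ Q) (by rw [map_mul]; exact mul_le_one' h.1.1 h.1.2) h.2,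
    map_zero]

/-- The residue form `a ↦ ∑_P Res_P(a_P u dv)`. -/
noncomputable def resForm (u v : K) : Module.Dual k (adele k K) where
  toFun a := ∑ᶠ P, LocRes.locRes (φ P) ((a : Place k K → K) P * u) v
  map_add' a b := by
    rw [← finsum_add_distrib (finite_support_locRes_adele hK F φ hφ a u v)
      (finite_support_locRes_adele hK F φ hφ b u v)]
    refine finsum_congr fun P => ?_
    rw [← locRes_add_left, ← add_mul]
    rfl
  map_smul' c a := by
    rw [RingHom.id_apply, smul_finsum' c (finite_support_locRes_adele hK F φ hφ a u v)]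
    refine finsum_congr fun P => ?_
    rw [← locRes_smul_left, ← smul_mul_assoc]
    rfl

theorem resForm_apply (u v : K) (a : adele k K) :
    resForm hK F φ hφ u v a = ∑ᶠ P, LocRes.locRes (φ P) ((a : Place k K → K) P * u) v := rfl

theorem resForm_diag (u v x : K) :
    resForm hK F φ hφ u v ⟨diag k K x, diag_mem_adele hK x⟩ = 0 := by
  rw [resForm_apply]
  exact (sum_locRes_eq_zero hK F φ hφ (x * u) v).2

theorem resForm_mem_WD (u v : K) (D : Divisor k K)
    (hD : ∀ P, exp (D P) * LocRes.vDiff (φ P) u v ≤ 1) : resForm hK F φ hφ u v ∈ WD D := by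
  rw [mem_WD_iff hK]
  refine ⟨fun a ha => ?_, fun x => resForm_diag hK F φ hφ u v x⟩
  rw [resForm_apply]
  have h0 : ∀ P, LocRes.locRes (φ P) (a P * u) v = 0 := by
    intro P
    apply locRes_eq_zero_of_val (hφ P)
    exact (mul_le_mul' (ha P) le_rfl).trans (hD P)
  exact (finsum_congr h0).trans finsum_zero

open scoped Classical in
theorem resForm_sgA (u v : K) (P : Place k K) (z : K) :
    resForm hK F φ hφ u v (sgA P z) = LocRes.locRes (φ P) (z * u) v := by
  rw [resForm_apply, finsum_eq_single _ P]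
  · show LocRes.locRes (φ P) ((Pi.single P z : Place k K → K) P * u) v = _
    rw [Pi.single_eq_same]
  · intro Q hQ
    show LocRes.locRes (φ Q) ((Pi.single P z : Place k K → K) Q * u) v = 0
    rw [Pi.single_eq_of_ne hQ, zero_mul, locRes_zero_left]

/-- The residue form is a nonzero Weil differential with divisor the divisor of `u dv`. -/
theorem resForm_isDivOf (u v : K)
    (hne : ∀ P, LocRes.vDiff (φ P) u v ≠ 0)
    (hsep : ∀ P, ∃ c : F P, Algebra.trace k (F P) c ≠ 0) :
    IsWeil (resForm hK F φ hφ u v) ∧ resForm hK F φ hφ u v ≠ 0 ∧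
      (Function.support fun P => LocRes.ordDiff (φ P) u v).Finite ∧
      ∀ C : Divisor k K, (∀ P, C P = LocRes.ordDiff (φ P) u v) →
        IsDivOf (resForm hK F φ hφ u v) C := by
  classical
  have hvn : ∀ P, LocRes.vDiff (φ P) u v = exp (-(LocRes.ordDiff (φ P) u v)) := by
    intro P
    unfold LocRes.ordDiff
    rw [neg_neg, exp_log (hne P)]
  have hle : ∀ (D : Divisor k K), (∀ P, D P ≤ LocRes.ordDiff (φ P) u v) →
      resForm hK F φ hφ u v ∈ WD D := by
    intro D hD
    apply resForm_mem_WD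
    intro P
    rw [hvn P, ← exp_add, ← exp_zero, exp_le_exp]
    have := hD P
    omega
  -- a lower bound with finite support
  have h2 : ∀ᶠ Q : Place k K in Filter.cofinite, Q.1 u ≤ 1 := diag_mem_adele hK u
  have h3 : ∀ᶠ Q : Place k K in Filter.cofinite, Q.1 v ≤ 1 := diag_mem_adele hK v
  have hfin := Filter.eventually_cofinite.mp (h2.and h3)
  have hnonneg : ∀ Q : Place k K, Q.1 u ≤ 1 ∧ Q.1 v ≤ 1 → 0 ≤ LocRes.ordDiff (φ Q) u v := by
    intro Q hQ
    have h4 : LocRes.vDiff (φ Q) u v ≤ 1 := by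
      unfold LocRes.vDiff
      rw [map_mul, (hφ Q).1]
      have h5 : Valued.v ((φ Q) v) ≤ exp (-(0 : ℤ)) := by
        rw [(hφ Q).1, neg_zero, exp_zero]; exact hQ.2
      have h6 := laurent_val_D_le_of_cast_eq_zero _ 0 h5 (by simp)
      rw [neg_zero, exp_zero] at h6
      exact mul_le_one' hQ.1 h6
    rw [hvn Q, ← exp_zero, exp_le_exp] at h4
    omega
  have hfin' : (Function.support fun P : Place k K =>
      min (LocRes.ordDiff (φ P) u v) 0).Finite := by
    refine hfin.subset ?_
    intro Q hQ h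
    apply hQ
    show min (LocRes.ordDiff (φ Q) u v) 0 = 0
    exact min_eq_right (hnonneg Q h)
  have hWeil : IsWeil (resForm hK F φ hφ u v) :=
    ⟨Finsupp.ofSupportFinite _ hfin', hle _ fun P => min_le_left _ _⟩
  -- nonvanishing
  obtain ⟨P₀⟩ := exists_place hK
  have hne0 : resForm hK F φ hφ u v ≠ 0 := by
    obtain ⟨z, -, hz⟩ := exists_locRes_ne_zero (hφ P₀) (hsep P₀) (hne P₀)
    intro h0
    apply hz
    rw [← resForm_sgA hK F φ hφ u v P₀ z, h0, LinearMap.zero_apply]
  obtain ⟨C', hC'⟩ := exists_isDivOf hK _ hWeil hne0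
  have hC'W : resForm hK F φ hφ u v ∈ WD C' := (hC' C').mpr le_rfl
  have hii : ∀ P, C' P ≤ LocRes.ordDiff (φ P) u v := by
    intro P
    by_contra hlt
    push Not at hlt
    obtain ⟨z, hz1, hz2⟩ := exists_locRes_ne_zero (hφ P) (hsep P) (hne P)
    apply hz2
    rw [← resForm_sgA hK F φ hφ u v P z]
    have hmem : (Pi.single P z : Place k K → K) ∈ AD C' := by
      intro Q
      by_cases hQ : Q = P
      · subst hQ
        rw [Pi.single_eq_same]
        rw [hvn Q] at hz1
        have h5 : Q.1 z ≤ exp (LocRes.ordDiff (φ Q) u v + 1) := by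
          have h6 : Q.1 z = Q.1 z * exp (-LocRes.ordDiff (φ Q) u v) *
              exp (LocRes.ordDiff (φ Q) u v) := by
            rw [mul_assoc, ← exp_add, neg_add_cancel, exp_zero, mul_one]
          rw [h6]
          calc Q.1 z * exp (-LocRes.ordDiff (φ Q) u v) * exp (LocRes.ordDiff (φ Q) u v)
              ≤ exp 1 * exp (LocRes.ordDiff (φ Q) u v) := mul_le_mul' hz1 le_rfl
            _ = exp (LocRes.ordDiff (φ Q) u v + 1) := by rw [← exp_add, add_comm]
        exact h5.trans (exp_le_exp.mpr (by omega))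
      · rw [Pi.single_eq_of_ne hQ, map_zero]
        exact zero_le
    exact ((mem_WD_iff hK).mp hC'W).1 _ hmem
  have hi : ∀ P, LocRes.ordDiff (φ P) u v ≤ C' P := by
    intro P
    obtain ⟨E, hE⟩ : ∃ E : Divisor k K,
        E = C' + Finsupp.single P (LocRes.ordDiff (φ P) u v - C' P) := ⟨_, rfl⟩
    have hEle : ∀ Q, E Q ≤ LocRes.ordDiff (φ Q) u v := by
      intro Q
      rw [hE, Finsupp.add_apply]
      by_cases hQ : Q = P
      · subst hQ
        rw [Finsupp.single_eq_same]
        omega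
      · rw [Finsupp.single_eq_of_ne hQ, add_zero]
        exact hii Q
    have h7 := (hC' E).mp (hle E hEle) P
    rw [hE, Finsupp.add_apply, Finsupp.single_eq_same] at h7
    omega
  have heq : ∀ P, C' P = LocRes.ordDiff (φ P) u v := fun P => le_antisymm (hii P) (hi P)
  refine ⟨hWeil, hne0, ?_, ?_⟩
  · refine C'.support.finite_toSet.subset ?_
    intro P hP
    rw [Finset.mem_coe, Finsupp.mem_support_iff, heq P]
    exact hP
  · intro C hC
    have e : C = C' := Finsupp.ext fun P => by rw [hC P, heq P]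
    rw [e]
    exact hC'

end Global

end FunFld
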