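import Mathlib
import Groth.Agent.Lib.TateWeil_helper2
import Groth.Agent.Lib.TateSep_helper2

/-! Consequences of the residue pairing: every Weil differential is a residue form (helper2). -/

open WithZero

namespace FunFld

open TateRes

universe u v w

section Global

variable {k : Type u} {K : Type v} [Field k] [Field K] [Algebra k K]
  (hK : IsFunctionField k K)
  (F : Place k K → Type w) [∀ P, Field (F P)] [∀ P, Algebra k (F P)]
  [∀ P, FiniteDimensional k (F P)]
  (φ : ∀ P, K →ₐ[k] LaurentSeries (F P)) (hφ : ∀ P, LocRes.IsExpansionAt P.1 (φ P))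

theorem mulW_resForm (x u v : K) :
    mulW x (smul_mem_adele hK x) (resForm hK F φ hφ u v) = resForm hK F φ hφ (x * u) v := by
  apply LinearMap.ext
  intro a
  rw [mulW_apply, resForm_apply, resForm_apply]
  refine finsum_congr fun P => ?_
  show LocRes.locRes (φ P) ((x • (a : Place k K → K)) P * u) v =
    LocRes.locRes (φ P) ((a : Place k K → K) P * (x * u)) v
  rw [Pi.smul_apply, smul_eq_mul]
  congr 1
  ring

theorem resForm_zero_left (v : K) : resForm hK F φ hφ 0 v = 0 := by
  apply LinearMap.ext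
  intro a
  rw [resForm_apply, LinearMap.zero_apply]
  have h0 : ∀ P, LocRes.locRes (φ P) ((a : Place k K → K) P * 0) v = 0 := fun P => by
    rw [mul_zero, locRes_zero_left]
  exact (finsum_congr h0).trans finsum_zero

theorem resForm_eq_mulWLin (v y : K) :
    resForm hK F φ hφ y v = mulWLin (smul_mem_adele hK) (resForm hK F φ hφ 1 v) y := by
  rw [mulWLin_apply, mulW_resForm, mul_one]

variable (hg : IsGeometric k K)

include hK hφ hg in
theorem vDiff_ne_zero {u v : K} (hu : u ≠ 0) (hv : KaehlerDifferential.D k K v ≠ 0)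
    (P : Place k K) : LocRes.vDiff (φ P) u v ≠ 0 := by
  unfold LocRes.vDiff
  rw [map_mul]
  exact mul_ne_zero ((Valuation.ne_zero_iff _).mpr ((map_ne_zero (φ P)).mpr hu))
    ((Valuation.ne_zero_iff _).mpr (D_exp_ne_zero_of_kaehler hK hg (hφ P) hv))

include hg in
theorem exists_div_resForm {u v : K} (hu : u ≠ 0) (hv : KaehlerDifferential.D k K v ≠ 0) :
    ∃ C : Divisor k K, (∀ P, C P = LocRes.ordDiff (φ P) u v) ∧
      IsDivOf (resForm hK F φ hφ u v) C ∧ IsCanonical k K C ∧
      IsWeil (resForm hK F φ hφ u v) ∧ resForm hK F φ hφ u v ≠ 0 := by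
  have hsep : ∀ P, ∃ c : F P, Algebra.trace k (F P) c ≠ 0 := fun P =>
    exists_trace_ne_zero_of_isExpansionAt hK hg P (φ P) (hφ P)
  obtain ⟨h1, h2, h3, h4⟩ := resForm_isDivOf hK F φ hφ u v
    (vDiff_ne_zero hK F φ hφ hg hu hv) hsep
  refine ⟨Finsupp.ofSupportFinite _ h3, fun P => rfl, h4 _ (fun P => rfl),
    ⟨_, h2, h4 _ (fun P => rfl)⟩, h1, h2⟩

include hg in
theorem resForm_mem_WD_iff {v : K} (hv : KaehlerDifferential.D k K v ≠ 0) (y : K)
    (D : Divisor k K) :
    resForm hK F φ hφ y v ∈ WD D ↔ ∀ P, LocRes.vDiff (φ P) y v ≤ exp (-(D P)) := by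
  by_cases hy : y = 0
  · subst hy
    rw [resForm_zero_left]
    refine ⟨fun _ P => ?_, fun _ => (WD D).zero_mem⟩
    unfold LocRes.vDiff
    rw [map_zero, zero_mul, map_zero]
    exact zero_le
  obtain ⟨C, hC, hdiv, -, -, -⟩ := exists_div_resForm hK F φ hφ hg hy hv
  have hne := vDiff_ne_zero hK F φ hφ hg hy hv
  constructor
  · intro hmem P
    have h1 : D P ≤ C P := (hdiv D).mp hmem P
    rw [hC P] at h1
    unfold LocRes.ordDiff at h1
    rw [← exp_log (hne P), exp_le_exp]
    omega
  · intro h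
    apply resForm_mem_WD
    intro P
    have h1 := mul_le_mul' (le_refl (exp (D P))) (h P)
    rw [← exp_add, add_neg_cancel, exp_zero] at h1
    exact h1

include hK hφ hg in
theorem finrank_span_vDiff_le {v : K} (hv : KaehlerDifferential.D k K v ≠ 0)
    (D : Divisor k K) :
    Module.finrank k (Submodule.span k
      {y : K | ∀ P, LocRes.vDiff (φ P) y v ≤ exp (-(D P))}) = Module.finrank k (WD D) := by
  obtain ⟨C, -, -, -, hw0, h0⟩ := exists_div_resForm hK F φ hφ hg (one_ne_zero (α := K)) hv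
  let Φ := mulWLin (smul_mem_adele hK) (resForm hK F φ hφ 1 v)
  have hinj : Function.Injective Φ := mulWLin_injective hK _ h0
  have hset : {y : K | ∀ P, LocRes.vDiff (φ P) y v ≤ exp (-(D P))} =
      ((Submodule.comap Φ (WD D) : Submodule k K) : Set K) := by
    ext y
    rw [Set.mem_ofPred_eq, SetLike.mem_coe, Submodule.mem_comap,
      ← resForm_mem_WD_iff hK F φ hφ hg hv y D, resForm_eq_mulWLin]
  have hle : WD D ≤ LinearMap.range Φ := by
    intro ω hω
    obtain ⟨x, hx⟩ := exists_mulW_eq hK (smul_mem_adele hK) _ ω hw0 h0 ⟨D, hω⟩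
    exact ⟨x, hx⟩
  rw [hset, Submodule.span_eq, (Submodule.equivMapOfInjective Φ hinj _).finrank_eq,
    Submodule.map_comap_eq_of_le hle]

include hg in
theorem existsUnique_resForm_eq {v : K} (hv : KaehlerDifferential.D k K v ≠ 0)
    (ω : Module.Dual k (adele k K)) (hω : IsWeil ω) :
    ∃! u : K, ω = resForm hK F φ hφ u v := by
  obtain ⟨C, -, -, -, hw0, h0⟩ := exists_div_resForm hK F φ hφ hg (one_ne_zero (α := K)) hv
  obtain ⟨x, hx⟩ := exists_mulW_eq hK (smul_mem_adele hK) _ ω hw0 h0 hω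
  refine ⟨x, ?_, ?_⟩
  · show ω = resForm hK F φ hφ x v
    rw [← hx, mulW_resForm, mul_one]
  · intro y hy
    have h1 : mulWLin (smul_mem_adele hK) (resForm hK F φ hφ 1 v) y =
        mulWLin (smul_mem_adele hK) (resForm hK F φ hφ 1 v) x := by
      rw [← resForm_eq_mulWLin, ← hy, mulWLin_apply, hx]
    exact mulWLin_injective hK _ h0 h1

end Global

end FunFld
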