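import Mathlib
import Groth.Agent.Lib.TateWeilB_helper2
import Groth.Agent.Lib.FunFldGeomF_helper2
import Groth.Agent.Lib.FunFldExtC_helper2

/-! The Riemann–Hurwitz formula through residue forms (helper2). -/

open WithZero

namespace FunFld

open TateRes

universe u v w

section Aux

variable {k : Type*} {K : Type*} [Field k] [Field K] [Algebra k K]
  {F : Type*} [Field F] [Algebra k F]

theorem finiteDimensional_of_isExpansionAt (hK : IsFunctionField k K) (P : Place k K)
    (φ : K →ₐ[k] LaurentSeries F) (hφ : LocRes.IsExpansionAt P.1 φ) :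
    FiniteDimensional k F := by
  haveI := finiteDimensional_resF hK P
  have hker : LinearMap.ker (resF P).toLinearMap = LinearMap.ker (coeffO P φ) := by
    ext a
    rw [LinearMap.mem_ker, LinearMap.mem_ker, coeffO_eq_zero_iff hφ a]
    exact resF_eq_zero_iff P a
  let e1 := (resF P).toLinearMap.quotKerEquivOfSurjective (resF_surjective P)
  let e2 := (coeffO P φ).quotKerEquivRange
  let e3 := Submodule.quotEquivOfEq _ _ hker
  let l : ResF P →ₗ[k] F :=
    (LinearMap.range (coeffO P φ)).subtype ∘ₗ (e1.symm.trans (e3.trans e2)).toLinearMap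
  have hl : Function.Surjective l := by
    intro b
    obtain ⟨f, hf, hb⟩ := hφ.2.1 b
    let a : P.O := ⟨f, (Valuation.mem_valuationSubring_iff _ _).mpr hf⟩
    have ha : coeffO P φ a = b := hb
    refine ⟨(e1.symm.trans (e3.trans e2)).symm ⟨b, ⟨a, ha⟩⟩, ?_⟩
    show ((e1.symm.trans (e3.trans e2)) ((e1.symm.trans (e3.trans e2)).symm ⟨b, ⟨a, ha⟩⟩) : F) = b
    rw [LinearEquiv.apply_symm_apply]
  exact Module.Finite.of_surjective l hl

theorem deg_eq_finsum (D : Divisor k K) : Divisor.deg D = ∑ᶠ P, D P * (P.deg : ℤ) := by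
  unfold Divisor.deg
  rw [Finsupp.sum]
  symm
  apply finsum_eq_sum_of_support_subset
  intro P hP
  rw [Function.mem_support] at hP
  rw [Finset.mem_coe, Finsupp.mem_support_iff]
  intro h0
  apply hP
  rw [h0, zero_mul]

end Aux

section Transfer

variable {k k' K' : Type*} [Field k] [Field k'] [Field K'] [Algebra k k'] [Algebra k' K']
    [Algebra k K'] [IsScalarTower k k' K'] [Algebra.IsAlgebraic k k']

/-- Transport a divisor over `k` to a divisor over `k'`. -/
noncomputable def Divisor.extendScalars (k' : Type*) {k K' : Type*} [Field k] [Field k']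
    [Field K'] [Algebra k k'] [Algebra k' K'] [Algebra k K'] [IsScalarTower k k' K']
    (E : Divisor k K') : Divisor k' K' :=
  Finsupp.comapDomain (Place.restrictScalars k) E
    (Place.restrictScalars_injective (k := k) (k' := k') (K' := K')).injOn

theorem Divisor.extendScalars_apply (E : Divisor k K') (Q : Place k' K') :
    Divisor.extendScalars k' E Q = E (Q.restrictScalars k) := rfl

theorem Divisor.deg_extendScalars (E : Divisor k K') :
    (Module.finrank k k' : ℤ) * Divisor.deg (Divisor.extendScalars k' E) = Divisor.deg E := by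
  classical
  unfold Divisor.deg
  rw [Finsupp.sum, Finsupp.sum, Finset.mul_sum]
  have hsupp : (Divisor.extendScalars k' E).support =
      E.support.preimage (Place.restrictScalars k)
        (Place.restrictScalars_injective (k := k) (k' := k') (K' := K')).injOn := rfl
  rw [hsupp]
  have h1 := Finset.sum_preimage (Place.restrictScalars k : Place k' K' → Place k K') E.support
    (Place.restrictScalars_injective (k := k) (k' := k') (K' := K')).injOn
    (fun Q => E Q * (Q.deg : ℤ)) (by
      intro Q _ hQ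
      exact absurd ⟨Q.extendScalars k', Place.restrictScalars_extendScalars Q⟩ hQ)
  rw [← h1]
  refine Finset.sum_congr rfl (fun Q _ => ?_)
  rw [Divisor.extendScalars_apply, Place.deg_restrictScalars]
  push_cast
  ring

end Transfer

section RH

variable {k k' : Type u} {K K' : Type v} [Field k] [Field k'] [Field K] [Field K']
    [Algebra k k'] [Algebra k K] [Algebra K K'] [Algebra k' K'] [Algebra k K']
    [IsScalarTower k k' K'] [IsScalarTower k K K'] [FiniteDimensional k k']
    [FiniteDimensional K K'] [Algebra.IsSeparable K K']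

theorem riemann_hurwitz_aux
    (hK : IsFunctionField k K) (hg : IsGeometric k K) (hK' : IsFunctionField k' K')
    (F : Place k K → Type w) [∀ P, Field (F P)] [∀ P, Algebra k (F P)]
    (φ : ∀ P, K →ₐ[k] LaurentSeries (F P)) (hφ : ∀ P, LocRes.IsExpansionAt P.1 (φ P))
    (F' : Place k' K' → Type w) [∀ Q, Field (F' Q)] [∀ Q, Algebra k' (F' Q)]
    (ψ : ∀ Q, K' →ₐ[k'] LaurentSeries (F' Q)) (hψ : ∀ Q, LocRes.IsExpansionAt Q.1 (ψ Q))
    (below : Place k' K' → Place k K) (e : Place k' K' → ℕ)
    (he : ∀ Q (z : K), Q.1 (algebraMap K K' z) = (below Q).1 z ^ e Q)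
    (x : K) (hx : ∀ P, LocRes.vDiff (φ P) 1 x ≠ 0)
    (hx' : ∀ Q, LocRes.vDiff (ψ Q) 1 (algebraMap K K' x) ≠ 0) :
    (Function.support fun Q => LocRes.diffExp (φ (below Q)) (ψ Q) (e Q) x).Finite ∧
    (Module.finrank k k' : ℤ) * (2 * (genus k' K' : ℤ) - 2) =
      (Module.finrank K K' : ℤ) * (2 * (genus k K : ℤ) - 2) +
      (Module.finrank k k' : ℤ) *
        ∑ᶠ Q, LocRes.diffExp (φ (below Q)) (ψ Q) (e Q) x * (Q.deg : ℤ) := by
  classical
  haveI : ∀ P, FiniteDimensional k (F P) := fun P =>
    finiteDimensional_of_isExpansionAt hK P (φ P) (hφ P)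
  haveI : ∀ Q, FiniteDimensional k' (F' Q) := fun Q =>
    finiteDimensional_of_isExpansionAt hK' Q (ψ Q) (hψ Q)
  haveI : Algebra.IsAlgebraic k k' := Algebra.IsAlgebraic.of_finite k k'
  have hg' : IsGeometric k' K' := isGeometric_of_finite_separable hK hg hK'
  have hsep : ∀ P, ∃ c : F P, Algebra.trace k (F P) c ≠ 0 := fun P =>
    exists_trace_ne_zero_of_isExpansionAt hK hg P (φ P) (hφ P)
  have hsep' : ∀ Q, ∃ c : F' Q, Algebra.trace k' (F' Q) c ≠ 0 := fun Q =>
    exists_trace_ne_zero_of_isExpansionAt hK' hg' Q (ψ Q) (hψ Q)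
  obtain ⟨-, h2, h3, h4⟩ := resForm_isDivOf hK F φ hφ 1 x hx hsep
  obtain ⟨-, h2', h3', h4'⟩ := resForm_isDivOf hK' F' ψ hψ 1 (algebraMap K K' x) hx' hsep'
  let C : Divisor k K := Finsupp.ofSupportFinite _ h3
  let C' : Divisor k' K' := Finsupp.ofSupportFinite _ h3'
  have hC : ∀ P, C P = LocRes.ordDiff (φ P) 1 x := fun P => rfl
  have hC' : ∀ Q, C' Q = LocRes.ordDiff (ψ Q) 1 (algebraMap K K' x) := fun Q => rfl
  have hcan : IsCanonical k K C := ⟨_, h2, h4 C hC⟩
  have hcan' : IsCanonical k' K' C' := ⟨_, h2', h4' C' hC'⟩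
  have hdeg : Divisor.deg C = 2 * genus k K - 2 := deg_of_isCanonical hK hcan
  have hdeg' : Divisor.deg C' = 2 * genus k' K' - 2 := deg_of_isCanonical hK' hcan'
  let E : Divisor k' K' := Divisor.extendScalars k' (conorm K' C)
  have hover : ∀ Q : Place k' K', IsOverWith (Q.restrictScalars k) (below Q) (e Q) :=
    fun Q z => he Q z
  have hE : ∀ Q, E Q = (e Q : ℤ) * C (below Q) := by
    intro Q
    rw [Divisor.extendScalars_apply,
      conorm_apply (fun P => finite_isOver hK P) C _ ⟨e Q, hover Q⟩, ramIdx_eq (hover Q)]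
    ring
  have hfun : (fun Q => LocRes.diffExp (φ (below Q)) (ψ Q) (e Q) x) = ⇑(C' - E) := by
    funext Q
    rw [Finsupp.sub_apply, hE, hC', hC]
    rfl
  have hdegE : (Module.finrank k k' : ℤ) * Divisor.deg E =
      (Module.finrank K K' : ℤ) * (2 * genus k K - 2) := by
    rw [Divisor.deg_extendScalars, deg_conorm hK, hdeg]
  refine ⟨?_, ?_⟩
  · rw [hfun]
    exact (C' - E).hasFiniteSupport
  · have h5 : ∑ᶠ Q, LocRes.diffExp (φ (below Q)) (ψ Q) (e Q) x * (Q.deg : ℤ) =
        Divisor.deg (C' - E) := by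
      rw [deg_eq_finsum]
      refine finsum_congr (fun Q => ?_)
      rw [← hfun]
    rw [h5, deg_sub, hdeg']
    linear_combination hdegE

end RH

end FunFld
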