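import Mathlib
import Groth.Agent.Lib.FunFldHasseH_helper2
import Groth.Agent.Lib.FunFldHasseJ_helper2
import Groth.Agent.Lib.TateRH_helper2
import Groth.Agent.Lib.FunFldL_helper2
import Groth.Agent.S12597
import Groth.Agent.S12598
import Groth.Agent.S12614

/-! The Weierstrass divisor with respect to an endomorphism: nonnegativity and degree (helper2). -/

open WithZero Matrix

namespace FunFld

section Det

variable {k K : Type*} [Field k] [Field K] [Algebra k K]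

theorem val_det_le_of_column_zero (P : Place k K) {N : ℕ}
    (W : Matrix (Fin (N + 1)) (Fin (N + 1)) K) (B : ℤᵐ⁰)
    (h0 : ∀ r, P.1 (W r 0) ≤ B) (h1 : ∀ r (q : Fin N), P.1 (W r q.succ) ≤ 1) :
    P.1 W.det ≤ B := by
  rw [Matrix.det_succ_column_zero]
  apply Valuation.map_sum_le
  intro r _
  rw [map_mul, map_mul]
  have hm1 : P.1 ((-1 : K) ^ (r : ℕ)) = 1 := by
    rw [map_pow, Valuation.map_neg, map_one, one_pow]
  have hminor : P.1 (W.submatrix r.succAbove Fin.succ).det ≤ 1 :=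
    (evalP_det P _ (fun a b => h1 _ _)).1
  calc P.1 ((-1 : K) ^ (r : ℕ)) * P.1 (W r 0) * P.1 (W.submatrix r.succAbove Fin.succ).det
      = P.1 (W r 0) * P.1 (W.submatrix r.succAbove Fin.succ).det := by rw [hm1, one_mul]
    _ ≤ B * 1 := mul_le_mul' (h0 r) hminor
    _ = B := mul_one B

end Det

section Normalize

variable {k K : Type*} [Field k] [IsAlgClosed k] [Field K] [Algebra k K]

theorem exists_normalized (hK : IsFunctionField k K) {n : ℕ} (φ : Fin (n + 1) → K)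
    (hφ : LinearIndependent k φ) (τ : K →ₐ[k] K) (s : K) (H : K →ₐ[k] PowerSeries K)
    (hH : LocRes.IsHasseFamily s H) (J : Fin n → ℕ) (hJ : IsOrders K (hcol τ H φ) J)
    (Φ : Place k K → (K →ₐ[k] LaurentSeries k))
    (hΦ : ∀ P : Place k K, LocRes.IsExpansionAt P.1 (Φ P)) (P : Place k K) :
    ∃ (t : K) (Ht : K →ₐ[k] PowerSeries K) (φ' : Fin (n + 1) → K) (y : K),
      P.1 t = exp (-1) ∧ LocRes.IsHasseFamily t Ht ∧ y ≠ 0 ∧ (∀ i, φ' i = y * φ i) ∧
      LinearIndependent k φ' ∧ (∀ i, P.1 (φ' i) ≤ 1) ∧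
      (1 : K) ∈ Submodule.span k (Set.range φ') ∧ IsOrders K (hcol τ Ht φ') J ∧
      wDiv τ Ht Φ t φ' J = wDiv τ H Φ s φ J := by
  classical
  obtain ⟨t, ht⟩ := P.exists_uniformizer
  have hb := hasseD_one_uniformizer_ne_zero hK hH P ht
  obtain ⟨Ht, hHt⟩ := exists_hasseFamily hH hb
  obtain ⟨i₀, -, hi₀⟩ := Finset.exists_max_image Finset.univ (fun i => P.1 (φ i))
    Finset.univ_nonempty
  have hφi₀ : φ i₀ ≠ 0 := hφ.ne_zero i₀
  obtain ⟨y, hy⟩ : ∃ y : K, y = (φ i₀)⁻¹ := ⟨_, rfl⟩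
  have hy0 : y ≠ 0 := by rw [hy]; exact inv_ne_zero hφi₀
  obtain ⟨φ', hφ'def⟩ : ∃ φ' : Fin (n + 1) → K, φ' = y • φ := ⟨_, rfl⟩
  have hφ'i : ∀ i, φ' i = y * φ i := fun i => by rw [hφ'def]; rfl
  have hφ'A : ∀ i, φ' i = y * ∑ j, (1 : Matrix (Fin (n + 1)) (Fin (n + 1)) k) i j • φ j := by
    intro i
    rw [hφ'i]
    congr 1
    simp [Matrix.one_apply]
  have hnorm : ∀ i, P.1 (φ' i) ≤ 1 := by
    intro i
    rw [hφ'i, hy, map_mul, map_inv₀]
    have hne : P.1 (φ i₀) ≠ 0 := (map_ne_zero P.1).2 hφi₀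
    calc (P.1 (φ i₀))⁻¹ * P.1 (φ i) ≤ (P.1 (φ i₀))⁻¹ * P.1 (φ i₀) :=
          mul_le_mul' le_rfl (hi₀ i (Finset.mem_univ i))
      _ = 1 := inv_mul_cancel₀ hne
  have heff : (1 : K) ∈ Submodule.span k (Set.range φ') := by
    have h1 : φ' i₀ = 1 := by rw [hφ'i, hy]; exact inv_mul_cancel₀ hφi₀
    rw [← h1]
    exact Submodule.subset_span ⟨i₀, rfl⟩
  have hW := Groth.Agent.S12614.result k K hK φ hφ τ s H hH t Ht hHt J hJ 1
    (by rw [Matrix.det_one]; exact one_ne_zero) y hy0 φ' hφ'A Φ hΦ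
  have hJt : IsOrders K (hcol τ Ht φ) J :=
    ((Groth.Agent.S12598.result k K hK φ hφ τ s H hH t Ht hHt).1 J).2 hJ
  have hJ' : IsOrders K (hcol τ Ht φ') J := by
    rw [hφ'def]
    exact ((Groth.Agent.S12597.result k K hK φ hφ τ t Ht hHt y hy0).1 J).2 hJt
  have hφ'LI : LinearIndependent k φ' := by
    rw [Fintype.linearIndependent_iff]
    intro c hc
    have h1 : ∑ i, c i • φ' i = y * ∑ i, c i • φ i := by
      rw [Finset.mul_sum]
      apply Finset.sum_congr rfl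
      intro i _
      rw [hφ'i, mul_smul_comm]
    rw [h1] at hc
    have h2 := (mul_eq_zero.1 hc).resolve_left hy0
    exact Fintype.linearIndependent_iff.1 hφ c h2
  exact ⟨t, Ht, φ', y, ht, hHt, hy0, hφ'i, hφ'LI, hnorm, heff, hJ', hW⟩

/-- The coefficient of the Weierstrass divisor at `P` for a tuple normalized at `P`. -/
theorem wDiv_apply_normalized (hK : IsFunctionField k K) {n : ℕ} (φ' : Fin (n + 1) → K)
    (τ : K →ₐ[k] K) {t : K} {Ht : K →ₐ[k] PowerSeries K} (J : Fin n → ℕ)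
    (Φ : Place k K → (K →ₐ[k] LaurentSeries k))
    (hΦ : ∀ P : Place k K, LocRes.IsExpansionAt P.1 (Φ P)) (P : Place k K)
    (ht : P.1 t = exp (-1)) (hnorm : ∀ i, P.1 (φ' i) ≤ 1)
    (heff : (1 : K) ∈ Submodule.span k (Set.range φ')) :
    wDiv τ Ht Φ t φ' J P = P.ord (wrMat τ Ht φ' J).det - minOrd P (τ ∘ φ') := by
  unfold wDiv
  rw [Finsupp.add_apply, Finsupp.add_apply, Finsupp.add_apply, Finsupp.smul_apply,
    Finsupp.smul_apply, div_apply hK, mapDiv_apply hK (τ ∘ φ') P,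
    mapDiv_apply_eq_zero P φ' hnorm (exists_val_eq_one_of_one_mem_span P φ' hnorm heff),
    divDiff_apply_uniformizer Φ P (hΦ P) ht]
  simp
  ring

theorem wDiv_apply_nonneg (hK : IsFunctionField k K) {n : ℕ} (φ : Fin (n + 1) → K)
    (hφ : LinearIndependent k φ) (τ : K →ₐ[k] K) (s : K) (H : K →ₐ[k] PowerSeries K)
    (hH : LocRes.IsHasseFamily s H) (J : Fin n → ℕ) (hJ : IsOrders K (hcol τ H φ) J)
    (Φ : Place k K → (K →ₐ[k] LaurentSeries k))
    (hΦ : ∀ P : Place k K, LocRes.IsExpansionAt P.1 (Φ P)) (P : Place k K) :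
    0 ≤ wDiv τ H Φ s φ J P := by
  classical
  obtain ⟨t, Ht, φ', y, ht, hHt, hy0, hφ'i, hφ'LI, hnorm, heff, hJ', hW⟩ :=
    exists_normalized hK φ hφ τ s H hH J hJ Φ hΦ P
  rw [← hW, wDiv_apply_normalized hK φ' τ J Φ hΦ P ht hnorm heff]
  obtain ⟨d, hd⟩ : ∃ d : K, d = (wrMat τ Ht φ' J).det := ⟨_, rfl⟩
  have hd0 : d ≠ 0 := by
    rw [hd]
    exact det_wrMat_ne_zero_of_isOrders τ Ht φ' ⟨0, hφ'LI.ne_zero 0⟩ J hJ'
  rw [← hd]
  have hτ0 : ∀ r, τ (φ' r) ≠ 0 := fun r => (map_ne_zero τ).mpr (hφ'LI.ne_zero r)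
  have h0 : ∀ r, P.1 (wrMat τ Ht φ' J r 0) ≤ exp (-(minOrd P (τ ∘ φ'))) := by
    intro r
    show P.1 (τ (φ' r)) ≤ _
    rw [P.val_eq_exp_neg_ord (hτ0 r), exp_le_exp]
    have h2 : minOrd P (τ ∘ φ') ≤ P.ord (τ (φ' r)) :=
      Finset.inf'_le (fun i => P.ord ((τ ∘ φ') i)) (Finset.mem_univ r)
    omega
  have h1 : ∀ r (q : Fin n), P.1 (wrMat τ Ht φ' J r q.succ) ≤ 1 := by
    intro r q
    exact val_hasseD_le_one hK P ht hHt (J q) _ (hnorm r)
  have h3 := val_det_le_of_column_zero P (wrMat τ Ht φ' J) _ h0 h1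
  rw [← hd] at h3
  have h4 := (P.val_le_exp_iff hd0 _).1 h3
  omega

end Normalize

section Degree

variable {k K : Type*} [Field k] [IsAlgClosed k] [Field K] [Algebra k K]

omit [IsAlgClosed k] in
theorem deg_zsmul' (m : ℤ) (D : Divisor k K) : Divisor.deg (m • D) = m * Divisor.deg D := by
  simp only [deg_eq_degAddHomH, map_zsmul, smul_eq_mul]

theorem deg_eq_finsum_of_isAlgClosed (hK : IsFunctionField k K) (D : Divisor k K) :
    Divisor.deg D = ∑ᶠ P, D P := by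
  rw [deg_eq_finsum]
  refine finsum_congr (fun P => ?_)
  rw [Place.deg_eq_one hK P, Nat.cast_one, mul_one]

theorem deg_divDiff (hK : IsFunctionField k K) {s : K} {Hs : K →ₐ[k] PowerSeries K}
    (hHs : LocRes.IsHasseFamily s Hs) (Φ : Place k K → (K →ₐ[k] LaurentSeries k))
    (hΦ : ∀ P : Place k K, LocRes.IsExpansionAt P.1 (Φ P)) :
    Divisor.deg (divDiff Φ 1 s) = 2 * (genus k K : ℤ) - 2 := by
  classical
  have hne : ∀ P, LocRes.vDiff (Φ P) 1 s ≠ 0 := fun P => by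
    unfold LocRes.vDiff
    rw [map_one, one_mul]
    exact (Valuation.ne_zero_iff _).mpr (D_expansion_ne_zero hK hHs P (Φ P) (hΦ P))
  have hsep : ∀ P : Place k K, ∃ c : k, Algebra.trace k k c ≠ 0 := fun P =>
    ⟨1, by rw [Algebra.trace_self_apply]; exact one_ne_zero⟩
  obtain ⟨-, h2, h3, h4⟩ := resForm_isDivOf hK (fun _ => k) Φ hΦ 1 s hne hsep
  have hC : divDiff Φ 1 s = Finsupp.ofSupportFinite _ h3 := by
    unfold divDiff
    rw [dif_pos h3]
  have hcan : IsCanonical k K (divDiff Φ 1 s) := by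
    rw [hC]
    exact ⟨_, h2, h4 _ (fun P => rfl)⟩
  exact deg_of_isCanonical hK hcan

end Degree

section Transport

variable {k K K₁ : Type*} [Field k] [Field K] [Field K₁] [Algebra k K] [Algebra k K₁]

/-- Pull back a place along an isomorphism. -/
def Place.comapIso (e : K ≃ₐ[k] K₁) (P₁ : Place k K₁) : Place k K :=
  ⟨P₁.1.comap (e : K →+* K₁), fun c => by
      rw [Valuation.comap_apply]
      show P₁.1 (e (algebraMap k K c)) ≤ 1
      rw [e.commutes]
      exact P₁.2.1 c,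
    fun γ => by
      obtain ⟨x, hx⟩ := P₁.2.2 γ
      refine ⟨e.symm x, ?_⟩
      rw [Valuation.comap_apply]
      show P₁.1 (e (e.symm x)) = γ
      rw [e.apply_symm_apply, hx]⟩

theorem Place.comapIso_apply (e : K ≃ₐ[k] K₁) (P₁ : Place k K₁) (x : K) :
    (Place.comapIso e P₁).1 x = P₁.1 (e x) := rfl

theorem Place.comapIso_ord (e : K ≃ₐ[k] K₁) (P₁ : Place k K₁) (x : K) :
    (Place.comapIso e P₁).ord x = P₁.ord (e x) := rfl

/-- Places correspond under an isomorphism. -/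
def Place.comapIsoEquiv (e : K ≃ₐ[k] K₁) : Place k K₁ ≃ Place k K where
  toFun := Place.comapIso e
  invFun := Place.comapIso e.symm
  left_inv P₁ := by
    apply Subtype.ext
    ext x
    show P₁.1 (e (e.symm x)) = P₁.1 x
    rw [e.apply_symm_apply]
  right_inv P := by
    apply Subtype.ext
    ext x
    show P.1 (e.symm (e x)) = P.1 x
    rw [e.symm_apply_apply]

theorem deg_mapDiv_algEquiv [IsAlgClosed k] (hK : IsFunctionField k K)
    (hK₁ : IsFunctionField k K₁) (e : K ≃ₐ[k] K₁) {ι : Type*} [Fintype ι] [Nonempty ι]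
    (φ : ι → K) :
    Divisor.deg (mapDiv k (fun i => e (φ i))) = Divisor.deg (mapDiv k φ) := by
  rw [deg_eq_finsum_of_isAlgClosed hK₁, deg_eq_finsum_of_isAlgClosed hK,
    ← finsum_comp_equiv (Place.comapIsoEquiv e)]
  refine finsum_congr (fun P₁ => ?_)
  rw [mapDiv_apply hK₁, mapDiv_apply hK]
  rfl

end Transport

section DegComp

variable {k K : Type*} [Field k] [IsAlgClosed k] [Field K] [Algebra k K]

theorem finiteDimensional_fieldRange (hK : IsFunctionField k K) (τ : K →ₐ[k] K) :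
    FiniteDimensional τ.fieldRange K ∧ ∃ x ∈ τ.fieldRange, Transcendental k x := by
  obtain ⟨x, hx, -⟩ := hK.1
  have htr : Transcendental k (τ x) := by
    intro halg
    exact hx ((isAlgebraic_algHom_iff τ τ.injective).mp halg)
  have hmem : τ x ∈ τ.fieldRange := ⟨x, rfl⟩
  refine ⟨?_, τ x, hmem, htr⟩
  haveI := finiteDimensional_of_transcendental hK htr
  obtain ⟨S, hS⟩ := (Module.finite_def.mp
    (inferInstance : Module.Finite (IntermediateField.adjoin k ({τ x} : Set K)) K))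
  have hle : IntermediateField.adjoin k ({τ x} : Set K) ≤ τ.fieldRange := by
    rw [IntermediateField.adjoin_le_iff]
    rintro _ rfl
    exact hmem
  refine ⟨⟨S, ?_⟩⟩
  rw [eq_top_iff]
  rintro w -
  have hw : w ∈ Submodule.span (IntermediateField.adjoin k ({τ x} : Set K)) (S : Set K) := by
    rw [hS]; trivial
  induction hw using Submodule.span_induction with
  | mem z hz => exact Submodule.subset_span hz
  | zero => exact Submodule.zero_mem _
  | add a b _ _ ha hb => exact Submodule.add_mem _ ha hb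
  | smul c z _ hz =>
    have e : c • z = (⟨(c : K), hle c.2⟩ : τ.fieldRange) • z := by
      rw [Algebra.smul_def, Algebra.smul_def]
      rfl
    rw [e]
    exact Submodule.smul_mem _ _ hz

theorem deg_mapDiv_comp (hK : IsFunctionField k K) (τ : K →ₐ[k] K) {ι : Type*} [Fintype ι]
    [Nonempty ι] (φ : ι → K) :
    Divisor.deg (mapDiv k (τ ∘ φ)) =
      (Module.finrank τ.fieldRange K : ℤ) * Divisor.deg (mapDiv k φ) := by
  obtain ⟨hfd, h₀⟩ := finiteDimensional_fieldRange hK τ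
  haveI := hfd
  have hK₀ : IsFunctionField k τ.fieldRange := isFunctionField_intermediateField hK _ h₀
  let e : K ≃ₐ[k] τ.fieldRange := AlgEquiv.ofInjectiveField τ
  have h1 : (τ ∘ φ) = fun i => algebraMap τ.fieldRange K (e (φ i)) := by
    funext i
    rfl
  rw [h1, mapDiv_algebraMap_eq_conorm hK₀ hK (fun i => e (φ i)), deg_conorm hK₀,
    deg_mapDiv_algEquiv hK hK₀ e φ]

theorem deg_wDiv (hK : IsFunctionField k K) {n : ℕ} (φ : Fin (n + 1) → K)
    (hφ : LinearIndependent k φ) (τ : K →ₐ[k] K) (s : K) (H : K →ₐ[k] PowerSeries K)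
    (hH : LocRes.IsHasseFamily s H) (J : Fin n → ℕ)
    (Φ : Place k K → (K →ₐ[k] LaurentSeries k))
    (hΦ : ∀ P : Place k K, LocRes.IsExpansionAt P.1 (Φ P)) :
    Divisor.deg (wDiv τ H Φ s φ J) =
      ((Module.finrank τ.fieldRange K : ℤ) + n) * Divisor.deg (mapDiv k φ) +
        (2 * (genus k K : ℤ) - 2) * ∑ l, (J l : ℤ) := by
  unfold wDiv
  rw [deg_add, deg_add, deg_add, deg_zsmul', deg_zsmul', deg_div_eq_zero hK, deg_mapDiv_comp hK,
    deg_divDiff hK hH Φ hΦ]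
  ring

end DegComp

end FunFld
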