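import Mathlib
import Groth.Agent.Lib.FunFldWDiv_helper2
import Groth.Agent.Lib.FunFldExpand_helper2
import Groth.Agent.Lib.FunFldHasseI_helper2
import Groth.Agent.S12615
import Groth.Agent.S12606

/-! Strong fixed points are Weierstrass points of weight at least `n` (helper2). -/

open WithZero Matrix

namespace FunFld

variable {k K : Type*} [Field k] [IsAlgClosed k] [Field K] [Algebra k K]

theorem le_wDiv_of_isStrongFixedPt (hK : IsFunctionField k K) {n : ℕ} (hn : 0 < n)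
    (φ : Fin (n + 1) → K) (hφ : LinearIndependent k φ) (τ : K →ₐ[k] K)
    (hτφ : ¬ ∃ y : K, ∀ i, τ (φ i) = y * φ i) (s : K) (H : K →ₐ[k] PowerSeries K)
    (hH : LocRes.IsHasseFamily s H) (J : Fin n → ℕ) (hJ : IsOrders K (hcol τ H φ) J)
    (Φ : Place k K → (K →ₐ[k] LaurentSeries k))
    (hΦ : ∀ P : Place k K, LocRes.IsExpansionAt P.1 (Φ P)) (P : Place k K)
    (hP : IsStrongFixedPt τ P) : (n : ℤ) ≤ wDiv τ H Φ s φ J P := by
  classical
  obtain ⟨t, Ht, φ', y, ht, hHt, hy0, hφ'i, hφ'LI, hnorm, heff, hJ', hW⟩ :=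
    exists_normalized hK φ hφ τ s H hH J hJ Φ hΦ P
  rw [← hW]
  obtain ⟨J', hJ'at⟩ := exists_isOrders_hcolAt hK P ht hHt φ' hφ'LI heff hnorm
  have hτφ' : ¬ ∃ y' : K, ∀ i, τ (φ' i) = y' * φ' i := by
    rintro ⟨y', hy'⟩
    apply hτφ
    have hτy : τ y ≠ 0 := (map_ne_zero τ).mpr hy0
    refine ⟨y' * y * (τ y)⁻¹, fun i => ?_⟩
    have h1 := hy' i
    rw [hφ'i, map_mul] at h1
    have h2 : τ (φ i) = (τ y)⁻¹ * (τ y * τ (φ i)) := by
      rw [← mul_assoc, inv_mul_cancel₀ hτy, one_mul]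
    rw [h2, h1]
    ring
  have h1 := (Groth.Agent.S12615.result k K hK τ P hP.isFixedPt φ' hφ'LI heff hnorm t ht Ht hHt
    J hJ' J' hJ'at Φ hΦ).1
  have h2 := Groth.Agent.S12606.result k K hK τ P hP hn φ' hφ'LI heff hnorm hτφ' t ht Ht hHt
    J hJ' J' hJ'at
  have h3 : ∀ l, (1 : ℤ) ≤ (J' l : ℤ) - J l := fun l => by
    have h4 := h2 l
    have h5 := isOrders_at_pos P hHt φ' hJ'at ⟨0, hn⟩
    omega
  calc (n : ℤ) = ∑ _l : Fin n, (1 : ℤ) := by simp
    _ ≤ ∑ l, ((J' l : ℤ) - J l) := Finset.sum_le_sum (fun l _ => h3 l)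
    _ ≤ _ := h1

theorem strongFixedPt_bound (hK : IsFunctionField k K) (τ : K →ₐ[k] K) {n : ℕ}
    (φ : Fin (n + 1) → K) (hφ : LinearIndependent k φ)
    (hτφ : ¬ ∃ y : K, ∀ i, τ (φ i) = y * φ i) (s : K) (H : K →ₐ[k] PowerSeries K)
    (hH : LocRes.IsHasseFamily s H) (J : Fin n → ℕ) (hJ : IsOrders K (hcol τ H φ) J) :
    {P : Place k K | IsStrongFixedPt τ P}.Finite ∧
    (n : ℤ) * (Set.ncard {P : Place k K | IsStrongFixedPt τ P} : ℤ) ≤
      ((n : ℤ) + Module.finrank τ.fieldRange K) * (mapDiv k φ).deg +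
        (2 * (genus k K : ℤ) - 2) * ∑ l, (J l : ℤ) := by
  classical
  have hn : 0 < n := by
    rcases Nat.eq_zero_or_pos n with rfl | h
    · exfalso
      apply hτφ
      have h0 : φ 0 ≠ 0 := hφ.ne_zero 0
      refine ⟨τ (φ 0) * (φ 0)⁻¹, fun i => ?_⟩
      have hi : i = 0 := Fin.ext (by have := i.isLt; show (i : ℕ) = 0; omega)
      rw [hi, mul_assoc, inv_mul_cancel₀ h0, mul_one]
    · exact h
  choose Φ hΦ using fun P : Place k K => exists_expansion hK hH P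
  obtain ⟨W, hWdef⟩ : ∃ W : Divisor k K, W = wDiv τ H Φ s φ J := ⟨_, rfl⟩
  have hW0 : ∀ P, 0 ≤ W P := fun P => by
    rw [hWdef]; exact wDiv_apply_nonneg hK φ hφ τ s H hH J hJ Φ hΦ P
  have hdeg : Divisor.deg W = ((Module.finrank τ.fieldRange K : ℤ) + n) * Divisor.deg (mapDiv k φ) +
      (2 * (genus k K : ℤ) - 2) * ∑ l, (J l : ℤ) := by
    rw [hWdef]; exact deg_wDiv hK φ hφ τ s H hH J Φ hΦ
  have hS : ∀ P, IsStrongFixedPt τ P → (n : ℤ) ≤ W P := fun P hP => by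
    rw [hWdef]
    exact le_wDiv_of_isStrongFixedPt hK hn φ hφ τ hτφ s H hH J hJ Φ hΦ P hP
  have hsub : {P : Place k K | IsStrongFixedPt τ P} ⊆ ↑W.support := fun P hP => by
    rw [Finset.mem_coe, Finsupp.mem_support_iff]
    have h1 := hS P hP
    have h2 : (0 : ℤ) < n := by exact_mod_cast hn
    omega
  have hfin : {P : Place k K | IsStrongFixedPt τ P}.Finite := W.support.finite_toSet.subset hsub
  refine ⟨hfin, ?_⟩
  have h1 : (n : ℤ) * (Set.ncard {P : Place k K | IsStrongFixedPt τ P} : ℤ) ≤ Divisor.deg W := by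
    rw [deg_eq_finsum_of_isAlgClosed hK,
      finsum_eq_sum_of_support_subset _ (s := W.support) (by
        intro P hP
        rw [Function.mem_support] at hP
        rw [Finset.mem_coe, Finsupp.mem_support_iff]
        exact hP)]
    have h2 : hfin.toFinset ⊆ W.support := fun P hP => by
      have := hsub (hfin.mem_toFinset.mp hP)
      exact Finset.mem_coe.mp this
    calc (n : ℤ) * (Set.ncard {P : Place k K | IsStrongFixedPt τ P} : ℤ)
        = ∑ _P ∈ hfin.toFinset, (n : ℤ) := by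
          rw [Finset.sum_const, Set.ncard_eq_toFinset_card _ hfin, nsmul_eq_mul, mul_comm]
      _ ≤ ∑ P ∈ hfin.toFinset, W P :=
          Finset.sum_le_sum (fun P hP => hS P (hfin.mem_toFinset.mp hP))
      _ ≤ ∑ P ∈ W.support, W P :=
          Finset.sum_le_sum_of_subset_of_nonneg h2 (fun P _ _ => hW0 P)
  rw [hdeg] at h1
  have e : ((n : ℤ) + Module.finrank τ.fieldRange K) * (mapDiv k φ).deg +
      (2 * (genus k K : ℤ) - 2) * ∑ l, (J l : ℤ) =
      ((Module.finrank τ.fieldRange K : ℤ) + n) * Divisor.deg (mapDiv k φ) +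
        (2 * (genus k K : ℤ) - 2) * ∑ l, (J l : ℤ) := by ring
  rw [e]
  exact h1

end FunFld
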