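import Mathlib
import Groth.Agent.Lib.FunFldWDivB_helper2
import Groth.Agent.Lib.FunFldHasseEx_helper2
import Groth.Agent.Lib.FunFldM_helper2
import Groth.Agent.Lib.FunFldIdxTwo_helper2
import Groth.Agent.S12601
import Groth.Agent.S12605
import Groth.Agent.S12597
import Groth.Agent.S12598
import Groth.Agent.S12609

/-! Weierstrass points of the canonical map (helper2), part A: classical orders, weights. -/

open WithZero Matrix

namespace FunFld

variable {k K : Type*} [Field k] [IsAlgClosed k] [Field K] [Algebra k K]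

omit [IsAlgClosed k] in
theorem natCast_ne_zero_of_char {B : ℤ} (hchar : ringChar k = 0 ∨ B < ringChar k) (m : ℕ)
    (hm : 0 < m) (hmB : m ≤ B.toNat) : ((m : ℕ) : k) ≠ 0 := by
  intro h0
  have hdvd := (ringChar.spec k m).1 h0
  rcases hchar with h | h
  · rw [h] at hdvd
    have := Nat.eq_zero_of_zero_dvd hdvd
    omega
  · have h1 := Nat.le_of_dvd hm hdvd
    have h2 : (ringChar k : ℤ) ≤ m := by exact_mod_cast h1
    omega

/-- In characteristic `0` or `> deg φ` the orders of `φ` are classical (no birationality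
assumption). -/
theorem isOrders_id_eq_succ (hK : IsFunctionField k K) {n : ℕ} (φ : Fin (n + 1) → K)
    (hφ : LinearIndependent k φ)
    (hchar : ringChar k = 0 ∨ (mapDiv k φ).deg < ringChar k)
    (s : K) (H : K →ₐ[k] PowerSeries K) (hH : LocRes.IsHasseFamily s H)
    (J : Fin n → ℕ) (hJ : IsOrders K (hcol (AlgHom.id k K) H φ) J) :
    J = fun l : Fin n => (l : ℕ) + 1 := by
  classical
  have hcharN := natCast_ne_zero_of_char (k := k) hchar
  obtain ⟨P⟩ := exists_place hK
  have hI : StrictMono (fun l : Fin n => (l : ℕ) + 1) := by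
    intro a b hab
    show (a : ℕ) + 1 < (b : ℕ) + 1
    have : (a : ℕ) < (b : ℕ) := hab
    omega
  have hle : ∀ l, J l ≤ (l : ℕ) + 1 := by
    obtain ⟨t, ht⟩ := P.exists_uniformizer
    have hb := hasseD_one_uniformizer_ne_zero hK hH P ht
    obtain ⟨Ht, hHt⟩ := exists_hasseFamily hH hb
    obtain ⟨y, hy0, hφ'LI, heff, hnorm⟩ := exists_normalization P φ hφ
    obtain ⟨J', hJ'⟩ := exists_isOrders_hcolAt hK P ht hHt (y • φ) hφ'LI heff hnorm
    have hJ'pos := fun l => isOrders_at_pos P hHt (y • φ) hJ' l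
    have hJ'le : ∀ l, J' l ≤ ((mapDiv k φ).deg).toNat := by
      intro l
      have h1 := isOrders_at_le_deg hK P ht hHt (y • φ) hφ'LI heff hnorm hJ' l
      rw [deg_mapDiv_smul hK φ hφ hy0] at h1
      omega
    have hS := Groth.Agent.S12605.result k K hK (AlgHom.id k K) P (fun z hz => hz) (y • φ)
      hφ'LI heff hnorm t ht Ht hHt J' hJ' (fun l : Fin n => (l : ℕ) + 1) hI
    have hdet : (wrMat (AlgHom.id k K) Ht (y • φ) (fun l : Fin n => (l : ℕ) + 1)).det ≠ 0 := by
      have h1 := (hS.2 (Or.inl (fun l => Nat.succ_pos _))).2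
        (det_binomMat_succ_ne_zero k J' hJ'.1 hJ'pos _ hcharN hJ'le)
      intro h0
      rw [h0, map_zero] at h1
      exact exp_ne_zero h1.symm
    have hJt : IsOrders K (hcol (AlgHom.id k K) Ht φ) J :=
      ((Groth.Agent.S12598.result k K hK φ hφ (AlgHom.id k K) s H hH t Ht hHt).1 J).2 hJ
    have hJφ' : IsOrders K (hcol (AlgHom.id k K) Ht (y • φ)) J :=
      ((Groth.Agent.S12597.result k K hK φ hφ (AlgHom.id k K) t Ht hHt y hy0).1 J).2 hJt
    exact Groth.Agent.S12601.result k K hK (y • φ) hφ'LI (AlgHom.id k K) t Ht hHt J hJφ' _ hI hdet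
  have hJpos : ∀ l, 1 ≤ J l := fun l => isOrders_id_pos hH φ hJ l
  exact funext (fun l => le_antisymm (hle l) (strictMono_add_le J hJ.1 1 hJpos l))

theorem isOrders_id_succ (hK : IsFunctionField k K) {n : ℕ} (φ : Fin (n + 1) → K)
    (hφ : LinearIndependent k φ)
    (hchar : ringChar k = 0 ∨ (mapDiv k φ).deg < ringChar k)
    (s : K) (H : K →ₐ[k] PowerSeries K) (hH : LocRes.IsHasseFamily s H) :
    IsOrders K (hcol (AlgHom.id k K) H φ) (fun l : Fin n => (l : ℕ) + 1) := by
  obtain ⟨J, hJ⟩ := exists_isOrders_hcol hK φ hφ (AlgHom.id k K) hH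
  have h := isOrders_id_eq_succ hK φ hφ hchar s H hH J hJ
  rw [← h]
  exact hJ

omit [IsAlgClosed k] in
/-- A base-point-free complete linear system has divisor `C`. -/
theorem mapDiv_eq_of_span_eq_L (hK : IsFunctionField k K) {n : ℕ} (φ : Fin (n + 1) → K)
    (hφ : LinearIndependent k φ) (C : Divisor k K)
    (hspan : Submodule.span k (Set.range φ) = L C)
    (hbpf : ∀ P : Place k K, ell (C - Finsupp.single P 1) < ell C) : mapDiv k φ = C := by
  classical
  have hφmem : ∀ i, φ i ∈ L C := fun i => by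
    rw [← hspan]
    exact Submodule.subset_span ⟨i, rfl⟩
  ext P
  rw [mapDiv_apply hK]
  have h1 : -(C P) ≤ minOrd P φ := by
    unfold minOrd
    apply Finset.le_inf'
    intro i _
    have h2 := hφmem i P
    rw [P.val_eq_exp_neg_ord (hφ.ne_zero i), exp_le_exp] at h2
    omega
  obtain ⟨f, hfC, hfn⟩ := exists_mem_L_not_mem hK (hbpf P)
  have hf0 : f ≠ 0 := by
    rintro rfl
    exact hfn (Submodule.zero_mem _)
  have h2 : P.1 f ≤ exp (-(minOrd P φ)) := by
    rw [← hspan] at hfC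
    apply val_le_of_mem_span P (s := Set.range φ) ?_ hfC
    rintro _ ⟨j, rfl⟩
    rw [P.val_eq_exp_neg_ord (hφ.ne_zero j), exp_le_exp]
    have h3 : minOrd P φ ≤ P.ord (φ j) := Finset.inf'_le _ (Finset.mem_univ j)
    omega
  rw [P.val_eq_exp_neg_ord hf0, exp_le_exp] at h2
  have h3 : P.ord f ≤ -(C P) := by
    by_contra hlt
    push Not at hlt
    apply hfn
    rw [mem_L]
    intro Q
    by_cases hQ : Q = P
    · subst hQ
      rw [Q.val_eq_exp_neg_ord hf0, exp_le_exp, Finsupp.sub_apply, Finsupp.single_eq_same]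
      omega
    · have h4 := hfC Q
      rw [Finsupp.sub_apply, Finsupp.single_apply, if_neg (Ne.symm hQ), sub_zero]
      exact h4
  omega

/-- The weight of `W(φ)` at `P` when the orders of `φ` are classical and the characteristic is
large. -/
theorem wDiv_id_apply_eq_sum (hK : IsFunctionField k K) {n : ℕ} (φ : Fin (n + 1) → K)
    (hφ : LinearIndependent k φ)
    (hchar : ringChar k = 0 ∨ (mapDiv k φ).deg < ringChar k)
    (s : K) (H : K →ₐ[k] PowerSeries K) (hH : LocRes.IsHasseFamily s H)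
    (Φ : Place k K → (K →ₐ[k] LaurentSeries k))
    (hΦ : ∀ P : Place k K, LocRes.IsExpansionAt P.1 (Φ P)) (P : Place k K) :
    ∃ (t : K) (Ht : K →ₐ[k] PowerSeries K) (y : K) (J' : Fin n → ℕ),
      P.1 t = exp (-1 : ℤ) ∧ LocRes.IsHasseFamily t Ht ∧ y ≠ 0 ∧ LinearIndependent k (y • φ) ∧
      (∀ i, P.1 (y * φ i) ≤ 1) ∧ (1 : K) ∈ Submodule.span k (Set.range (y • φ)) ∧
      IsOrders (IsLocalRing.ResidueField P.O) (hcolAt P Ht (y • φ)) J' ∧
      (∀ l, (J' l : ℤ) ≤ (mapDiv k φ).deg) ∧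
      wDiv (AlgHom.id k K) H Φ s φ (fun l : Fin n => (l : ℕ) + 1) P =
        ∑ l, ((J' l : ℤ) - (((l : ℕ) + 1 : ℕ) : ℤ)) := by
  classical
  have hcharN := natCast_ne_zero_of_char (k := k) hchar
  have hJ := isOrders_id_succ hK φ hφ hchar s H hH
  obtain ⟨t, Ht, φ', y, ht, hHt, hy0, hφ'i, hφ'LI, hnorm, heff, hJ', hW⟩ :=
    exists_normalized hK φ hφ (AlgHom.id k K) s H hH _ hJ Φ hΦ P
  have hφ'eq : φ' = y • φ := funext fun i => by
    rw [hφ'i]
    rfl
  subst hφ'eq
  obtain ⟨J', hJ'at⟩ := exists_isOrders_hcolAt hK P ht hHt (y • φ) hφ'LI heff hnorm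
  have hJ'pos := fun l => isOrders_at_pos P hHt (y • φ) hJ'at l
  have hJ'le : ∀ l, (J' l : ℤ) ≤ (mapDiv k φ).deg := by
    intro l
    have h1 := isOrders_at_le_deg hK P ht hHt (y • φ) hφ'LI heff hnorm hJ'at l
    rw [deg_mapDiv_smul hK φ hφ hy0] at h1
    exact h1
  have h615 := (Groth.Agent.S12615.result k K hK (AlgHom.id k K) P (fun z hz => hz) (y • φ)
    hφ'LI heff hnorm t ht Ht hHt _ hJ' J' hJ'at Φ hΦ).2 (Or.inl rfl)
  have hbin : (binomMat k J' (fun l : Fin n => (l : ℕ) + 1)).det ≠ 0 :=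
    det_binomMat_succ_ne_zero k J' hJ'at.1 hJ'pos _ hcharN (fun l => by
      have := hJ'le l
      omega)
  refine ⟨t, Ht, y, J', ht, hHt, hy0, hφ'LI, hnorm, heff, hJ'at, hJ'le, ?_⟩
  rw [← hW]
  exact h615.mpr hbin

/-- Orders of the canonical map at `P` and gap numbers. -/
theorem mem_range_orders_iff_gap (hK : IsFunctionField k K) (C : Divisor k K)
    (hC : IsCanonical k K C) {n : ℕ} (φ : Fin (n + 1) → K) (hφ : LinearIndependent k φ)
    (hspan : Submodule.span k (Set.range φ) = L C) (P : Place k K) (y : K) (hy : y ≠ 0)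
    (heff : (1 : K) ∈ Submodule.span k (Set.range (y • φ))) (hnorm : ∀ i, P.1 (y * φ i) ≤ 1)
    (t : K) (ht : P.1 t = exp (-1 : ℤ)) (Ht : K →ₐ[k] PowerSeries K)
    (hHt : LocRes.IsHasseFamily t Ht) (J' : Fin n → ℕ)
    (hJ' : IsOrders (IsLocalRing.ResidueField P.O) (hcolAt P Ht (y • φ)) J') (j : ℕ)
    (hj : 1 ≤ j) : j ∈ Set.range J' ↔ IsGapAt P (j + 1) := by
  have h1 := (hJ'.2 j).trans
    (Groth.Agent.S12609.result k K hK C hC φ hφ hspan P y hy heff hnorm t ht Ht hHt j hj)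
  unfold IsGapAt
  have e1 : ((j + 1 : ℕ) : ℤ) = (j : ℤ) + 1 := by push_cast; ring
  have e2 : ((j + 1 : ℕ) : ℤ) - 1 = (j : ℤ) := by push_cast; ring
  rw [e2, e1]
  exact h1

omit [IsAlgClosed k] in
/-- Clifford-type bound for the orders at `P`, from the pairing of gaps. -/
theorem orders_le_two_mul (hK : IsFunctionField k K) (P : Place k K) {n : ℕ} (J' : Fin n → ℕ)
    (hmono : StrictMono J') (hpos : ∀ l, 1 ≤ J' l)
    (hgap : ∀ j, 1 ≤ j → (j ∈ Set.range J' ↔ IsGapAt P (j + 1))) (l : Fin n) :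
    J' l ≤ 2 * ((l : ℕ) + 1) := by
  classical
  have hj := hpos l
  have hg1 : IsGapAt P (J' l + 1) := (hgap (J' l) hj).mp ⟨l, rfl⟩
  have h1 := gap_pairing hK P (J' l + 1) (by omega) hg1
  rw [Nat.add_sub_cancel] at h1
  have hsub : gapsUpTo P (J' l) ⊆
      insert 1 ((Finset.Iio l).image (fun i : Fin n => J' i + 1)) := by
    intro m hm
    rw [mem_gapsUpTo] at hm
    obtain ⟨⟨hm1, hm2⟩, hm3⟩ := hm
    rw [Finset.mem_insert, Finset.mem_image]
    rcases Nat.lt_or_ge m 2 with h | h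
    · left
      omega
    · right
      have hj' : 1 ≤ m - 1 := by omega
      have hm3' : IsGapAt P (m - 1 + 1) := by
        rw [show m - 1 + 1 = m by omega]
        exact hm3
      obtain ⟨i, hi⟩ := (hgap (m - 1) hj').mpr hm3'
      refine ⟨i, ?_, by omega⟩
      rw [Finset.mem_Iio]
      exact hmono.lt_iff_lt.mp (by omega)
  have h2 := Finset.card_le_card hsub
  have h3 := Finset.card_insert_le 1 ((Finset.Iio l).image (fun i : Fin n => J' i + 1))
  have h4 := Finset.card_image_le (s := Finset.Iio l) (f := fun i : Fin n => J' i + 1)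
  have h5 : (Finset.Iio l).card = (l : ℕ) := Fin.card_Iio l
  omega

end FunFld
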