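import Mathlib
import Groth.Agent.Lib.FunFldWeierA_helper2

/-! Weierstrass points of the canonical map (helper2), part B: counting. -/

open WithZero Matrix

namespace FunFld

variable {k K : Type*} [Field k] [IsAlgClosed k] [Field K] [Algebra k K]

theorem two_mul_sum_fin_succ (n : ℕ) :
    2 * ∑ l : Fin n, ((((l : ℕ) + 1 : ℕ) : ℤ)) = (n : ℤ) * ((n : ℤ) + 1) := by
  have h6 : ∀ m : ℕ, 2 * ∑ i ∈ Finset.range m, (((i + 1 : ℕ) : ℤ)) = (m : ℤ) * ((m : ℤ) + 1) := by
    intro m
    induction m with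
    | zero => simp
    | succ m ih =>
      rw [Finset.sum_range_succ, mul_add, ih]
      push_cast
      ring
  rw [Fin.sum_univ_eq_sum_range (fun i => (((i + 1 : ℕ) : ℕ) : ℤ)) n]
  exact h6 n

/-- Basic facts on the canonical map. -/
theorem canonical_setup (hK : IsFunctionField k K) (hg : 1 < genus k K)
    (hchar : ringChar k = 0 ∨ 2 * genus k K - 2 < ringChar k)
    (C : Divisor k K) (hC : IsCanonical k K C)
    {n : ℕ} (φ : Fin (n + 1) → K) (hφ : LinearIndependent k φ)
    (hspan : Submodule.span k (Set.range φ) = L C) :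
    n + 1 = genus k K ∧ mapDiv k φ = C ∧
      (ringChar k = 0 ∨ (mapDiv k φ).deg < ringChar k) := by
  have h1 : n + 1 = genus k K := by
    have h2 := finrank_span_eq_card hφ
    rw [Fintype.card_fin] at h2
    have h3 : Module.finrank k ↥(Submodule.span k (Set.range φ)) = Module.finrank k ↥(L C) := by
      rw [hspan]
    have h4 : ell C = Module.finrank k ↥(L C) := rfl
    have h5 := ell_of_isCanonical hK hC
    omega
  have h2 : mapDiv k φ = C :=
    mapDiv_eq_of_span_eq_L hK φ hφ C hspan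
      (fun P => ell_sub_single_lt hK (by omega) C (Or.inr hC) P)
  refine ⟨h1, h2, ?_⟩
  rw [h2, deg_of_isCanonical hK hC]
  rcases hchar with h | h
  · exact Or.inl h
  · right
    omega

/-- The weight of a point is at most `n(n+1)/2`; if it is maximal, `2` is a pole number. -/
theorem weight_bound (hK : IsFunctionField k K) (hg : 1 < genus k K)
    (hchar : ringChar k = 0 ∨ 2 * genus k K - 2 < ringChar k)
    (C : Divisor k K) (hC : IsCanonical k K C)
    {n : ℕ} (φ : Fin (n + 1) → K) (hφ : LinearIndependent k φ)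
    (hspan : Submodule.span k (Set.range φ) = L C)
    (s : K) (H : K →ₐ[k] PowerSeries K) (hH : LocRes.IsHasseFamily s H)
    (Φ : Place k K → (K →ₐ[k] LaurentSeries k))
    (hΦ : ∀ P : Place k K, LocRes.IsExpansionAt P.1 (Φ P)) (P : Place k K) :
    2 * wDiv (AlgHom.id k K) H Φ s φ (fun l : Fin n => (l : ℕ) + 1) P ≤ (n : ℤ) * ((n : ℤ) + 1) ∧
    (2 * wDiv (AlgHom.id k K) H Φ s φ (fun l : Fin n => (l : ℕ) + 1) P = (n : ℤ) * ((n : ℤ) + 1) →
      ¬ IsGapAt P 2) ∧
    (wDiv (AlgHom.id k K) H Φ s φ (fun l : Fin n => (l : ℕ) + 1) P = 0 ↔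
      ∀ m : ℕ, 1 ≤ m → m ≤ n + 1 → IsGapAt P m) := by
  classical
  obtain ⟨hn1, hmap, hchar'⟩ := canonical_setup hK hg hchar C hC φ hφ hspan
  have hn : 0 < n := by omega
  obtain ⟨t, Ht, y, J', ht, hHt, hy0, hLI, hnorm, heff, hJ'at, hJ'le, hW⟩ :=
    wDiv_id_apply_eq_sum hK φ hφ hchar' s H hH Φ hΦ P
  have hpos : ∀ l, 1 ≤ J' l := fun l => isOrders_at_pos P hHt (y • φ) hJ'at l
  have hgap : ∀ j, 1 ≤ j → (j ∈ Set.range J' ↔ IsGapAt P (j + 1)) := fun j hj =>
    mem_range_orders_iff_gap hK C hC φ hφ hspan P y hy0 heff hnorm t ht Ht hHt J' hJ'at j hj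
  have hle : ∀ l, J' l ≤ 2 * ((l : ℕ) + 1) := orders_le_two_mul hK P J' hJ'at.1 hpos hgap
  have hterm : ∀ l : Fin n, (J' l : ℤ) - (((l : ℕ) + 1 : ℕ) : ℤ) ≤ (((l : ℕ) + 1 : ℕ) : ℤ) := by
    intro l
    have := hle l
    push_cast
    omega
  have hsum := two_mul_sum_fin_succ n
  have hge : ∀ l : Fin n, (l : ℕ) + 1 ≤ J' l := fun l => strictMono_add_le J' hJ'at.1 1 hpos l
  have hgap1 : IsGapAt P 1 := by
    unfold IsGapAt
    have h1 := ell_single_one_of_genus_pos hK (by omega) P (Place.deg_eq_one hK P)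
    have e1 : (((1 : ℕ) : ℤ)) = 1 := by norm_num
    have e2 : (((1 : ℕ) : ℤ)) - 1 = 0 := by norm_num
    rw [e2, e1, Finsupp.single_zero]
    have hle0 : L (0 : Divisor k K) ≤ L (Finsupp.single P 1 : Divisor k K) :=
      L_mono (Finsupp.single_nonneg.mpr zero_le_one)
    haveI := finiteDimensional_L hK (Finsupp.single P 1 : Divisor k K)
    have h3 : Module.finrank k ↥(L (Finsupp.single P 1 : Divisor k K)) ≤
        Module.finrank k ↥(L (0 : Divisor k K)) := by
      have h4 : ell (0 : Divisor k K) = 1 := ell_zero hK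
      show ell (Finsupp.single P 1 : Divisor k K) ≤ ell (0 : Divisor k K)
      omega
    exact (Submodule.eq_of_le_of_finrank_le hle0 h3).symm
  refine ⟨?_, ?_, ?_⟩
  · rw [hW]
    have h1 := Finset.sum_le_sum (fun l (_ : l ∈ Finset.univ) => hterm l)
    linarith
  · intro heq hgap2
    rw [hW] at heq
    have h1 : ∑ l, ((J' l : ℤ) - (((l : ℕ) + 1 : ℕ) : ℤ)) = ∑ l : Fin n, ((((l : ℕ) + 1 : ℕ) : ℤ)) := by
      linarith
    have h2 := (Finset.sum_eq_sum_iff_of_le (fun l (_ : l ∈ Finset.univ) => hterm l)).mp h1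
    have h3 := h2 ⟨0, hn⟩ (Finset.mem_univ _)
    have h4 : J' ⟨0, hn⟩ = 2 := by
      push_cast at h3
      omega
    obtain ⟨i, hi⟩ := (hgap 1 le_rfl).mpr hgap2
    have h5 : J' ⟨0, hn⟩ ≤ J' i := hJ'at.1.monotone (Fin.mk_le_of_le_val (Nat.zero_le _))
    omega
  · rw [hW]
    constructor
    · intro h0 m hm1 hm2
      have h1 : ∀ l ∈ Finset.univ, (0 : ℤ) ≤ (J' l : ℤ) - (((l : ℕ) + 1 : ℕ) : ℤ) := fun l _ => by
        have := hge l
        push_cast
        omega
      have h2 := (Finset.sum_eq_zero_iff_of_nonneg h1).mp h0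
      rcases Nat.lt_or_ge m 2 with h | h
      · have : m = 1 := by omega
        rw [this]
        exact hgap1
      · have hl : m - 2 < n := by omega
        have h3 := h2 ⟨m - 2, hl⟩ (Finset.mem_univ _)
        have h4 : J' ⟨m - 2, hl⟩ = m - 1 := by
          push_cast at h3
          have : ((⟨m - 2, hl⟩ : Fin n) : ℕ) = m - 2 := rfl
          omega
        have h5 := (hgap (m - 1) (by omega)).mp ⟨⟨m - 2, hl⟩, h4⟩
        rw [show m - 1 + 1 = m by omega] at h5
        exact h5
    · intro hall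
      apply Finset.sum_eq_zero
      intro l _
      -- all of 1..n are orders, so J' l = l + 1
      have hmem : ∀ j, 1 ≤ j → j ≤ n → j ∈ Set.range J' := fun j hj1 hj2 =>
        (hgap j hj1).mpr (hall (j + 1) (by omega) (by omega))
      have h2 : ∀ v : ℕ, ∀ hv : v < n, J' ⟨v, hv⟩ ≤ v + 1 := by
        intro v
        induction v using Nat.strong_induction_on with
        | _ v ih =>
          intro hv
          obtain ⟨m, hm⟩ := hmem (v + 1) (by omega) (by omega)
          have h3 := hge m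
          rcases lt_or_eq_of_le (show (m : ℕ) ≤ v by omega) with hlt | heq
          · have h4 := ih m hlt m.isLt
            have h5 : J' ⟨m, m.isLt⟩ = J' m := rfl
            omega
          · have h4 : m = ⟨v, hv⟩ := Fin.ext heq
            rw [← h4, hm]
      have h3 := h2 l l.isLt
      have h4 : J' ⟨l, l.isLt⟩ = J' l := rfl
      have h5 := hge l
      push_cast
      omega

end FunFld
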