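import Mathlib
import Groth.Agent.Lib.FunFldWeierB_helper2

/-! Weierstrass points of the canonical map (helper2), part C: automorphisms. -/

open WithZero Matrix IntermediateField

namespace FunFld

variable {k K : Type*} [Field k] [IsAlgClosed k] [Field K] [Algebra k K]

/-- A function with pole divisor `2P`. -/
theorem exists_of_nongap_two (hK : IsFunctionField k K) (P : Place k K)
    (h : ¬ IsGapAt P 2) :
    ∃ x : K, x ∈ L (Finsupp.single P 2 : Divisor k K) ∧ x ≠ 0 ∧ P.ord x = -2 ∧
      (∀ Q : Place k K, Q ≠ P → 0 ≤ Q.ord x) ∧ Transcendental k x ∧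
      Module.finrank k⟮x⟯ K = 2 := by
  obtain ⟨x, hx, hnx⟩ := exists_mem_of_nongap h
  have e1 : (((2 : ℕ) : ℤ)) = 2 := by norm_num
  have e2 : (((2 : ℕ) : ℤ)) - 1 = 1 := by norm_num
  rw [e1] at hx
  rw [e2] at hnx
  obtain ⟨hx0, hord, hQ⟩ := ord_of_mem_L_single hK (n := 2) (n' := 1) (by norm_num) hx hnx
  have htr : Transcendental k x := transcendental_of_ord_ne_zero hK (P := P) (by rw [hord]; norm_num)
  have hpole := poleDiv_eq_single hK (n := 2) (by norm_num) hord hQ
  have hdeg := deg_poleDiv_eq hK htr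
  rw [hpole, deg_single, Place.deg_eq_one hK P] at hdeg
  refine ⟨x, hx, hx0, hord, hQ, htr, ?_⟩
  have : ((Module.finrank k⟮x⟯ K : ℕ) : ℤ) = 2 := by rw [← hdeg]; norm_num
  exact_mod_cast this

omit [IsAlgClosed k] in
theorem Place.comapEquiv_injective (σ : K ≃ₐ[k] K) {P Q : Place k K}
    (h : P.comapEquiv σ = Q.comapEquiv σ) : P = Q := by
  apply Place.eq_of_maximalIdeal_le
  intro x hx
  have h1 : (P.comapEquiv σ).1 (σ.symm x) = (Q.comapEquiv σ).1 (σ.symm x) := by rw [h]
  rw [Place.comapEquiv_apply, Place.comapEquiv_apply, σ.apply_symm_apply] at h1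
  rw [← h1]
  exact hx

omit [IsAlgClosed k] in
theorem Place.comapEquiv_eq_self_of_fixed (σ : K ≃ₐ[k] K) (P : Place k K)
    (h : ∀ z : K, P.1 z < 1 → P.1 (σ z) < 1) : P.comapEquiv σ = P :=
  (Place.eq_of_maximalIdeal_le (fun x hx => by
    rw [Place.comapEquiv_apply]
    exact h x hx)).symm

omit [IsAlgClosed k] in
/-- If `x` is fixed by `σ` and `P` is the only pole of `x`, then `σ` fixes `P`. -/
theorem isFixedPt_of_unique_pole (σ : K ≃ₐ[k] K) (P : Place k K) {x : K} (hσx : σ x = x)
    (hP : 1 < P.1 x) (hQ : ∀ Q : Place k K, Q ≠ P → Q.1 x ≤ 1) :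
    ∀ z : K, P.1 z < 1 → P.1 (σ z) < 1 := by
  have h1 : P.comapEquiv σ = P := by
    by_contra hne
    have h2 := hQ _ hne
    rw [Place.comapEquiv_apply, hσx] at h2
    exact absurd h2 (not_le.mpr hP)
  intro z hz
  rw [← Place.comapEquiv_apply, h1]
  exact hz

omit [IsAlgClosed k] in
/-- An automorphism fixing `P` preserves `L(mP)`. -/
theorem map_mem_L_single_of_fixed (σ : K ≃ₐ[k] K) (P : Place k K)
    (h : ∀ z : K, P.1 z < 1 → P.1 (σ z) < 1) (m : ℤ) {f : K}
    (hf : f ∈ L (Finsupp.single P m : Divisor k K)) :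
    σ f ∈ L (Finsupp.single P m : Divisor k K) := by
  classical
  have hPσ := Place.comapEquiv_eq_self_of_fixed σ P h
  rw [mem_L] at hf ⊢
  intro Q
  have h1 := hf (Q.comapEquiv σ)
  rw [Place.comapEquiv_apply] at h1
  by_cases hQ : Q = P
  · subst hQ
    rw [hPσ] at h1
    exact h1
  · have hne : Q.comapEquiv σ ≠ P := by
      intro h2
      apply hQ
      apply Place.comapEquiv_injective σ
      rw [h2, hPσ]
    rw [Finsupp.single_apply, if_neg (Ne.symm hne)] at h1
    rw [Finsupp.single_apply, if_neg (Ne.symm hQ)]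
    exact h1

/-- A function in `L(2P₁)` takes each value at most twice. -/
theorem card_zeros_le_two (hK : IsFunctionField k K) (P₁ : Place k K) {x : K}
    (hx : x ∈ L (Finsupp.single P₁ 2 : Divisor k K)) (c : k) (hxc : x - algebraMap k K c ≠ 0)
    (F : Finset (Place k K)) (hP₁ : P₁ ∉ F)
    (hF : ∀ P ∈ F, P.1 (x - algebraMap k K c) < 1) : F.card ≤ 2 := by
  classical
  have hmem : x - algebraMap k K c ∈ L (Finsupp.single P₁ 2 : Divisor k K) := by
    apply Submodule.sub_mem _ hx
    rw [mem_L]
    intro Q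
    refine (Q.2.1 c).trans ?_
    rw [← exp_zero, exp_le_exp, Finsupp.single_apply]
    split_ifs <;> norm_num
  have hD := (mem_L_iff_div hK hxc _).mp hmem
  have hE : (∑ Q ∈ F, (Finsupp.single Q 1 : Divisor k K)) ≤
      div k (x - algebraMap k K c) + Finsupp.single P₁ 2 := by
    intro Q
    rw [sum_single_apply]
    split_ifs with hQF
    · have hQP : Q ≠ P₁ := fun h => hP₁ (h ▸ hQF)
      rw [Finsupp.add_apply, div_apply hK, Finsupp.single_apply, if_neg (Ne.symm hQP), add_zero]
      have := (Q.ord_pos_iff hxc).mpr (hF Q hQF)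
      omega
    · exact hD Q
  have h1 := deg_mono hE
  rw [deg_sum_single hK, deg_add, deg_div_eq_zero hK, deg_single, Place.deg_eq_one hK P₁] at h1
  have h2 : ((F.card : ℕ) : ℤ) ≤ 2 := by
    have : (0 : ℤ) + 2 * ((1 : ℕ) : ℤ) = 2 := by norm_num
    linarith
  exact_mod_cast h2

omit [IsAlgClosed k] in
/-- An automorphism fixing `x` fixes `k(x)` pointwise. -/
theorem algEquiv_fix_of_mem_adjoin (σ : K ≃ₐ[k] K) {x : K} (hσx : σ x = x) {z : K}
    (hz : z ∈ k⟮x⟯) : σ z = z := by
  obtain ⟨r, s, rfl⟩ := (IntermediateField.mem_adjoin_simple_iff k z).mp hz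
  have h1 : ∀ q : Polynomial k, σ (Polynomial.aeval x q) = Polynomial.aeval x q := by
    intro q
    have := Polynomial.aeval_algHom_apply (σ : K →ₐ[k] K) x q
    rw [AlgEquiv.coe_toAlgHom, hσx] at this
    exact this.symm
  rw [map_div₀, h1, h1]

/-- The forward direction: an automorphism fixing many places with pole number `2` fixes `x`. -/
theorem algEquiv_fix_of_fixed (hK : IsFunctionField k K) (hg : 2 ≤ genus k K)
    (T : Finset (Place k K)) (hT : 4 ≤ T.card) (P₁ : Place k K) (hP₁ : P₁ ∈ T) {x : K}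
    (hx : x ∈ L (Finsupp.single P₁ 2 : Divisor k K)) (hxtr : Transcendental k x)
    (σ : K ≃ₐ[k] K) (hσ : ∀ P ∈ T, ∀ z : K, P.1 z < 1 → P.1 (σ z) < 1) : σ x = x := by
  classical
  have hσxL : σ x ∈ L (Finsupp.single P₁ 2 : Divisor k K) :=
    map_mem_L_single_of_fixed σ P₁ (hσ P₁ hP₁) 2 hx
  have h1L : (1 : K) ∈ L (Finsupp.single P₁ 2 : Divisor k K) := by
    rw [mem_L]
    intro Q
    rw [map_one, ← exp_zero, exp_le_exp, Finsupp.single_apply]
    split_ifs <;> norm_num
  have hell : ell (Finsupp.single P₁ 2 : Divisor k K) ≤ 2 := by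
    have h1 := two_mul_ell_single_le hK P₁ 2 (by push_cast; omega)
    have e1 : (((2 : ℕ) : ℤ)) = 2 := by norm_num
    rw [e1] at h1
    omega
  -- linear dependence of 1, x, σ x
  have hdep : ¬ LinearIndependent k ![(1 : K), x, σ x] := by
    intro hli
    have h2 := finrank_span_eq_card hli
    rw [Fintype.card_fin] at h2
    have hle : Submodule.span k (Set.range ![(1 : K), x, σ x]) ≤
        L (Finsupp.single P₁ 2 : Divisor k K) := by
      rw [Submodule.span_le]
      rintro _ ⟨i, rfl⟩
      fin_cases i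
      · exact h1L
      · exact hx
      · exact hσxL
    haveI := finiteDimensional_L hK (Finsupp.single P₁ 2 : Divisor k K)
    have h3 := Submodule.finrank_mono hle
    have h4 : Module.finrank k ↥(L (Finsupp.single P₁ 2 : Divisor k K)) =
        ell (Finsupp.single P₁ 2 : Divisor k K) := rfl
    omega
  obtain ⟨c, hc, i, hi⟩ := Fintype.not_linearIndependent_iff.mp hdep
  rw [Fin.sum_univ_three] at hc
  simp only [Matrix.cons_val_zero, Matrix.cons_val_one, Matrix.cons_val_two, Matrix.head_cons,
    Matrix.tail_cons] at hc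
  have hc2 : c 2 ≠ 0 := by
    intro h2
    rw [h2, zero_smul, add_zero] at hc
    by_cases h1 : c 1 = 0
    · rw [h1, zero_smul, add_zero, Algebra.smul_def, mul_one] at hc
      have h0 : c 0 = 0 := by
        by_contra hne
        exact hne ((map_eq_zero (algebraMap k K)).mp hc)
      fin_cases i
      · exact hi h0
      · exact hi h1
      · exact hi h2
    · apply hxtr
      have : x = algebraMap k K (-(c 0) / c 1) := by
        rw [Algebra.smul_def, Algebra.smul_def, mul_one] at hc
        have h1' : algebraMap k K (c 1) ≠ 0 := (map_ne_zero (algebraMap k K)).mpr h1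
        rw [map_div₀, map_neg, eq_div_iff h1']
        linear_combination hc
      rw [this]
      exact isAlgebraic_algebraMap _
  obtain ⟨a, b, hab⟩ : ∃ a b : k, σ x = algebraMap k K a + algebraMap k K b * x := by
    refine ⟨-(c 0) / c 2, -(c 1) / c 2, ?_⟩
    rw [Algebra.smul_def, Algebra.smul_def, Algebra.smul_def, mul_one] at hc
    have h2' : algebraMap k K (c 2) ≠ 0 := (map_ne_zero (algebraMap k K)).mpr hc2
    rw [map_div₀, map_div₀, map_neg, map_neg]
    field_simp
    linear_combination hc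
  -- the other points of `T`
  have hval : ∀ P ∈ T.erase P₁, ∃ cP : k, P.1 (x - algebraMap k K cP) < 1 ∧
      a + b * cP - cP = 0 := by
    intro P hP
    rw [Finset.mem_erase] at hP
    have hx1 : P.1 x ≤ 1 := by
      have := hx P
      rwa [Finsupp.single_apply, if_neg (Ne.symm hP.1), exp_zero] at this
    obtain ⟨cP, hcP⟩ := exists_sub_algebraMap_lt_one hK P hx1
    refine ⟨cP, hcP, ?_⟩
    have h1 := hσ P hP.2 _ hcP
    rw [map_sub, σ.commutes, hab] at h1
    by_contra hne
    have h2 : P.1 (algebraMap k K (a + b * cP - cP)) = 1 := P.val_algebraMap hne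
    have h3 : algebraMap k K (a + b * cP - cP) =
        (algebraMap k K a + algebraMap k K b * x - algebraMap k K cP) -
          algebraMap k K b * (x - algebraMap k K cP) := by
      rw [map_sub, map_add, map_mul]
      ring
    have h4 : P.1 (algebraMap k K b * (x - algebraMap k K cP)) < 1 := by
      rw [map_mul]
      calc P.1 (algebraMap k K b) * P.1 (x - algebraMap k K cP)
          ≤ 1 * P.1 (x - algebraMap k K cP) := mul_le_mul_left (P.2.1 b) _
        _ = P.1 (x - algebraMap k K cP) := one_mul _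
        _ < 1 := hcP
    have h5 : P.1 (algebraMap k K (a + b * cP - cP)) < 1 := by
      rw [h3]
      exact lt_of_le_of_lt (P.1.map_sub _ _) (max_lt h1 h4)
    rw [h2] at h5
    exact lt_irrefl _ h5
  have hcardE : 3 ≤ (T.erase P₁).card := by
    rw [Finset.card_erase_of_mem hP₁]
    omega
  by_cases hb : b = 1
  · -- then a = 0
    obtain ⟨P, hP⟩ : (T.erase P₁).Nonempty := Finset.card_pos.mp (by omega)
    obtain ⟨cP, -, h2⟩ := hval P hP
    rw [hb, one_mul] at h2
    have ha : a = 0 := by linear_combination h2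
    rw [hab, ha, hb, map_zero, map_one, zero_add, one_mul]
  · exfalso
    have hb' : 1 - b ≠ 0 := sub_ne_zero.mpr (Ne.symm hb)
    have hall : ∀ P ∈ T.erase P₁, P.1 (x - algebraMap k K (a / (1 - b))) < 1 := by
      intro P hP
      obtain ⟨cP, h1, h2⟩ := hval P hP
      have : cP = a / (1 - b) := by
        rw [eq_div_iff hb']
        linear_combination -h2
      rw [← this]
      exact h1
    have hxc : x - algebraMap k K (a / (1 - b)) ≠ 0 := by
      intro h0
      apply hxtr
      rw [sub_eq_zero.mp h0]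
      exact isAlgebraic_algebraMap _
    have := card_zeros_le_two hK P₁ hx (a / (1 - b)) hxc (T.erase P₁)
      (Finset.notMem_erase P₁ T) hall
    omega

end FunFld
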