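import Mathlib
import Groth.Agent.Lib.FunFldHypB_helper2
import Groth.Agent.Lib.FunFldWeierC_helper2
import Groth.Agent.S19396

/-! Automorphisms of an elliptic function field fixing the base point (helper2). -/

open Polynomial IntermediateField WithZero Module

namespace FunFld

section Alg

theorem card_pow_eq_one (k : Type*) [Field k] [IsAlgClosed k] {n : ℕ} (hn : (n : k) ≠ 0) :
    Nat.card {u : k // u ^ n = 1} = n := by
  classical
  have hn0 : n ≠ 0 := by
    rintro rfl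
    simp at hn
  have hsep : (X ^ n - C (1 : k)).Separable := separable_X_pow_sub_C 1 hn one_ne_zero
  have hcard := Polynomial.card_rootSet_eq_natDegree (K := k) hsep (IsAlgClosed.splits _)
  rw [natDegree_X_pow_sub_C] at hcard
  refine (Nat.card_congr ?_).trans (Nat.card_eq_fintype_card.trans hcard)
  refine Equiv.subtypeEquivRight (fun u => ?_)
  rw [Polynomial.mem_rootSet_of_ne (X_pow_sub_C_ne_zero (Nat.pos_of_ne_zero hn0) 1)]
  simp [sub_eq_zero]

theorem squarefree_cubic {k : Type*} [Field k] (a b : k) (hdisc : 4 * a ^ 3 + 27 * b ^ 2 ≠ 0) :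
    Squarefree (X ^ 3 + C a * X + C b : k[X]) := by
  apply Polynomial.Separable.squarefree
  have hder : derivative (X ^ 3 + C a * X + C b : k[X]) = 3 * X ^ 2 + C a := by
    rw [derivative_add, derivative_add, derivative_X_pow, derivative_C_mul, derivative_X,
      derivative_C]
    simp only [mul_one, add_zero, Nat.cast_ofNat, map_ofNat]
  refine ⟨C (4 * a ^ 3 + 27 * b ^ 2)⁻¹ * (-18 * C a * X + 27 * C b),
    C (4 * a ^ 3 + 27 * b ^ 2)⁻¹ * (6 * C a * X ^ 2 - 9 * C b * X + 4 * C a ^ 2), ?_⟩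
  rw [hder]
  have h1 : (-18 * C a * X + 27 * C b) * (X ^ 3 + C a * X + C b) +
      (6 * C a * X ^ 2 - 9 * C b * X + 4 * C a ^ 2) * (3 * X ^ 2 + C a) =
      C (4 * a ^ 3 + 27 * b ^ 2) := by
    simp only [map_add, map_mul, map_pow, map_ofNat]
    ring
  calc C (4 * a ^ 3 + 27 * b ^ 2)⁻¹ * (-18 * C a * X + 27 * C b) * (X ^ 3 + C a * X + C b) +
        C (4 * a ^ 3 + 27 * b ^ 2)⁻¹ * (6 * C a * X ^ 2 - 9 * C b * X + 4 * C a ^ 2) *
          (3 * X ^ 2 + C a)
      = C (4 * a ^ 3 + 27 * b ^ 2)⁻¹ * ((-18 * C a * X + 27 * C b) * (X ^ 3 + C a * X + C b) +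
          (6 * C a * X ^ 2 - 9 * C b * X + 4 * C a ^ 2) * (3 * X ^ 2 + C a)) := by ring
    _ = 1 := by rw [h1, ← C_mul, inv_mul_cancel₀ hdisc, C_1]

end Alg

section Ell

universe u v

variable {k : Type u} {K : Type v} [Field k] [Field K] [Algebra k K]

theorem L_two_span [IsAlgClosed k] (hK : IsFunctionField k K) (hgen : genus k K = 1)
    (P : Place k K) (x y : K)
    (hx : x ∈ L (Finsupp.single P 2)) (hx2 : P.ord x = -2)
    (hy : y ∈ L (Finsupp.single P 3)) (hy3 : P.ord y = -3) (z : K)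
    (hz : z ∈ L (Finsupp.single P 2)) :
    ∃ c₀ c₁ : k, z = algebraMap k K c₀ + algebraMap k K c₁ * x := by
  classical
  have hP : P.deg = 1 := Place.deg_eq_one hK P
  have S := (Groth.Agent.S19396.result k K hK hgen P hP x y hx hx2 hy hy3 2 le_rfl).2
  change Submodule.span k (Set.range (Sum.elim (fun i : Fin 2 => x ^ (i : ℕ))
    (fun i : Fin 0 => x ^ (i : ℕ) * y))) = L (Finsupp.single P ((2 : ℕ) : ℤ)) at S
  have hz' : z ∈ L (Finsupp.single P ((2 : ℕ) : ℤ)) := by
    rw [Nat.cast_ofNat]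
    exact hz
  rw [← S, Submodule.mem_span_range_iff_exists_fun] at hz'
  obtain ⟨c, hc⟩ := hz'
  rw [Fintype.sum_sum_type, Fin.sum_univ_two, Finset.univ_eq_empty, Finset.sum_empty] at hc
  simp only [Sum.elim_inl, Fin.val_zero, Fin.val_one, pow_zero, pow_one, add_zero,
    Algebra.smul_def, mul_one] at hc
  exact ⟨c (Sum.inl 0), c (Sum.inl 1), hc.symm⟩

theorem L_three_span [IsAlgClosed k] (hK : IsFunctionField k K) (hgen : genus k K = 1)
    (P : Place k K) (x y : K)
    (hx : x ∈ L (Finsupp.single P 2)) (hx2 : P.ord x = -2)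
    (hy : y ∈ L (Finsupp.single P 3)) (hy3 : P.ord y = -3) (z : K)
    (hz : z ∈ L (Finsupp.single P 3)) :
    ∃ c₀ c₁ c₂ : k, z = algebraMap k K c₀ + algebraMap k K c₁ * x + algebraMap k K c₂ * y := by
  classical
  have hP : P.deg = 1 := Place.deg_eq_one hK P
  have S := (Groth.Agent.S19396.result k K hK hgen P hP x y hx hx2 hy hy3 3 (by norm_num)).2
  change Submodule.span k (Set.range (Sum.elim (fun i : Fin 2 => x ^ (i : ℕ))
    (fun i : Fin 1 => x ^ (i : ℕ) * y))) = L (Finsupp.single P ((3 : ℕ) : ℤ)) at S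
  have hz' : z ∈ L (Finsupp.single P ((3 : ℕ) : ℤ)) := by
    rw [Nat.cast_ofNat]
    exact hz
  rw [← S, Submodule.mem_span_range_iff_exists_fun] at hz'
  obtain ⟨c, hc⟩ := hz'
  rw [Fintype.sum_sum_type, Fin.sum_univ_two, Fin.sum_univ_one] at hc
  simp only [Sum.elim_inl, Sum.elim_inr, Fin.val_zero, Fin.val_one, pow_zero, pow_one,
    Algebra.smul_def, mul_one, one_mul] at hc
  exact ⟨c (Sum.inl 0), c (Sum.inl 1), c (Sum.inr 0), hc.symm⟩

theorem indep_six [IsAlgClosed k] (hK : IsFunctionField k K) (hgen : genus k K = 1)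
    (P : Place k K) (x y : K)
    (hx : x ∈ L (Finsupp.single P 2)) (hx2 : P.ord x = -2)
    (hy : y ∈ L (Finsupp.single P 3)) (hy3 : P.ord y = -3) (c₀ c₁ c₂ c₃ d₀ d₁ : k)
    (h : algebraMap k K c₀ + algebraMap k K c₁ * x + algebraMap k K c₂ * x ^ 2 +
      algebraMap k K c₃ * x ^ 3 + algebraMap k K d₀ * y + algebraMap k K d₁ * (x * y) = 0) :
    c₀ = 0 ∧ c₁ = 0 ∧ c₂ = 0 ∧ c₃ = 0 ∧ d₀ = 0 ∧ d₁ = 0 := by
  classical
  have hP : P.deg = 1 := Place.deg_eq_one hK P
  have S := (Groth.Agent.S19396.result k K hK hgen P hP x y hx hx2 hy hy3 6 (by norm_num)).1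
  change LinearIndependent k (Sum.elim (fun i : Fin 4 => x ^ (i : ℕ))
    (fun i : Fin 2 => x ^ (i : ℕ) * y)) at S
  rw [Fintype.linearIndependent_iff] at S
  have hg := S (Sum.elim ![c₀, c₁, c₂, c₃] ![d₀, d₁]) (by
    rw [Fintype.sum_sum_type, Fin.sum_univ_four, Fin.sum_univ_two]
    simp only [Sum.elim_inl, Sum.elim_inr, Algebra.smul_def]
    simp only [Matrix.cons_val_zero, Matrix.cons_val_one, Fin.val_zero, Fin.val_one, pow_zero,
      pow_one, mul_one, one_mul]
    rw [← h]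
    simp
    ring)
  refine ⟨by simpa using hg (Sum.inl 0), by simpa using hg (Sum.inl 1),
    by simpa using hg (Sum.inl 2), by simpa using hg (Sum.inl 3),
    by simpa using hg (Sum.inr 0), by simpa using hg (Sum.inr 1)⟩

theorem exists_scale_of_algEquiv [IsAlgClosed k] (h2 : (2 : k) ≠ 0) (h3 : (3 : k) ≠ 0)
    (hK : IsFunctionField k K) (hgen : genus k K = 1) (P : Place k K) (a b : k) (x y : K)
    (heq : y ^ 2 = x ^ 3 + algebraMap k K a * x + algebraMap k K b)
    (hx : x ∈ L (Finsupp.single P 2)) (hx2 : P.ord x = -2)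
    (hy : y ∈ L (Finsupp.single P 3)) (hy3 : P.ord y = -3)
    (σ : K ≃ₐ[k] K) (hσ : ∀ z : K, P.1 (σ z) = P.1 z) :
    ∃ u : k, u ≠ 0 ∧ a * (u ^ 4 - 1) = 0 ∧ b * (u ^ 6 - 1) = 0 ∧
      σ x = algebraMap k K (u ^ 2) * x ∧ σ y = algebraMap k K (u ^ 3) * y := by
  classical
  have hfix : ∀ z : K, P.1 z < 1 → P.1 (σ z) < 1 := fun z hz => by rw [hσ]; exact hz
  obtain ⟨β, α, hσx⟩ := L_two_span hK hgen P x y hx hx2 hy hy3 (σ x)
    (map_mem_L_single_of_fixed σ P hfix 2 hx)
  obtain ⟨ε, δ, γ, hσy⟩ := L_three_span hK hgen P x y hx hx2 hy hy3 (σ y)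
    (map_mem_L_single_of_fixed σ P hfix 3 hy)
  have hE : (σ y) ^ 2 = (σ x) ^ 3 + algebraMap k K a * σ x + algebraMap k K b := by
    have := congrArg σ heq
    rwa [map_pow, map_add, map_add, map_mul, map_pow, AlgEquiv.commutes, AlgEquiv.commutes]
      at this
  rw [hσx, hσy] at hE
  have hA := indep_six hK hgen P x y hx hx2 hy hy3
    (ε ^ 2 + γ ^ 2 * b - (β ^ 3 + a * β + b))
    (2 * ε * δ + γ ^ 2 * a - (3 * β ^ 2 * α + a * α))
    (δ ^ 2 - 3 * β * α ^ 2)
    (γ ^ 2 - α ^ 3)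
    (2 * ε * γ)
    (2 * δ * γ) (by
      simp only [map_sub, map_add, map_mul, map_pow, map_ofNat]
      linear_combination hE - (algebraMap k K γ) ^ 2 * heq)
  obtain ⟨e0, e1, e2, e3, e4, e5⟩ := hA
  have hα : α ≠ 0 := by
    rintro rfl
    have h1 : σ x = algebraMap k K β := by
      rw [hσx, map_zero, zero_mul, add_zero]
    have h4 := congrArg σ.symm h1
    rw [σ.symm_apply_apply, AlgEquiv.commutes] at h4
    rw [h4, Place.ord_algebraMap] at hx2
    omega
  have e3' : γ ^ 2 = α ^ 3 := sub_eq_zero.mp e3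
  have hγ : γ ≠ 0 := by
    rintro rfl
    apply hα
    have : α ^ 3 = 0 := by rw [← e3']; ring
    exact (pow_eq_zero_iff (by norm_num)).mp this
  have hε : ε = 0 := by
    rcases mul_eq_zero.mp e4 with h | h
    · rcases mul_eq_zero.mp h with h | h
      · exact absurd h h2
      · exact h
    · exact absurd h hγ
  have hδ : δ = 0 := by
    rcases mul_eq_zero.mp e5 with h | h
    · rcases mul_eq_zero.mp h with h | h
      · exact absurd h h2
      · exact h
    · exact absurd h hγ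
  subst hε hδ
  have hβ : β = 0 := by
    have h1 : 3 * β * α ^ 2 = 0 := by linear_combination -e2
    rcases mul_eq_zero.mp h1 with h | h
    · rcases mul_eq_zero.mp h with h | h
      · exact absurd h h3
      · exact h
    · exact absurd ((pow_eq_zero_iff (by norm_num)).mp h) hα
  subst hβ
  have e1' : γ ^ 2 * a = a * α := by linear_combination e1
  have e0' : γ ^ 2 * b = b := by linear_combination e0
  refine ⟨γ / α, div_ne_zero hγ hα, ?_, ?_, ?_, ?_⟩
  · have hu4 : (γ / α) ^ 4 = α ^ 2 := by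
      rw [div_pow, div_eq_iff (pow_ne_zero 4 hα)]
      linear_combination (γ ^ 2 + α ^ 3) * e3'
    rw [hu4]
    have h1 : α * (a * (α ^ 2 - 1)) = 0 := by linear_combination e1' - a * e3'
    exact (mul_eq_zero.mp h1).resolve_left hα
  · have hu6 : (γ / α) ^ 6 = γ ^ 2 := by
      rw [div_pow, div_eq_iff (pow_ne_zero 6 hα)]
      linear_combination γ ^ 2 * (γ ^ 2 + α ^ 3) * e3'
    rw [hu6]
    linear_combination e0'
  · have hu2 : (γ / α) ^ 2 = α := by
      rw [div_pow, div_eq_iff (pow_ne_zero 2 hα)]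
      linear_combination e3'
    rw [hu2, hσx, map_zero, zero_add]
  · have hu3 : (γ / α) ^ 3 = γ := by
      rw [div_pow, div_eq_iff (pow_ne_zero 3 hα)]
      linear_combination γ * e3'
    rw [hu3, hσy]
    simp only [map_zero, zero_mul, zero_add]

theorem exists_algEquiv_scale (h2 : (2 : k) ≠ 0) (hK : IsFunctionField k K) (P : Place k K)
    (a b : k) (hdisc : 4 * a ^ 3 + 27 * b ^ 2 ≠ 0) (x y : K)
    (heq : y ^ 2 = x ^ 3 + algebraMap k K a * x + algebraMap k K b)
    (hxy : IntermediateField.adjoin k ({x, y} : Set K) = ⊤)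
    (hx : x ∈ L (Finsupp.single P 2)) (hx2 : P.ord x = -2)
    (u : k) (hu : u ≠ 0) (hua : a * (u ^ 4 - 1) = 0) (hub : b * (u ^ 6 - 1) = 0) :
    ∃ σ : K ≃ₐ[k] K, σ x = algebraMap k K (u ^ 2) * x ∧ σ y = algebraMap k K (u ^ 3) * y ∧
      ∀ z : K, P.1 (σ z) = P.1 z := by
  classical
  have hxtr : Transcendental k x := transcendental_of_ord_ne_zero hK (P := P) (by omega)
  have hx0 : x ≠ 0 := fun h => hxtr (h ▸ isAlgebraic_zero)
  have hu2 : u ^ 2 ≠ 0 := pow_ne_zero _ hu
  have hu3 : u ^ 3 ≠ 0 := pow_ne_zero _ hu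
  obtain ⟨x', hx'def⟩ : ∃ x' : K, x' = algebraMap k K (u ^ 2) * x := ⟨_, rfl⟩
  obtain ⟨y₂, hy₂def⟩ : ∃ y₂ : K, y₂ = algebraMap k K (u ^ 3) * y := ⟨_, rfl⟩
  have hx'tr : Transcendental k x' := by
    intro halg
    apply hxtr
    have h1 : x = algebraMap k K (u ^ 2)⁻¹ * x' := by
      rw [hx'def, ← mul_assoc, ← map_mul, inv_mul_cancel₀ hu2, map_one, one_mul]
    rw [h1]
    exact (isAlgebraic_algebraMap _).mul halg
  letI A₁ := ratFuncAlgebra hxtr
  haveI := ratFuncAlgebra_isScalarTower hxtr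
  obtain ⟨i₂, hi₂⟩ : ∃ i₂ : RatFunc k →+* K,
      ∀ q : k[X], i₂ (algebraMap k[X] (RatFunc k) q) = aeval x' q :=
    ⟨@algebraMap (RatFunc k) K _ _ (ratFuncAlgebra hx'tr), ratFuncAlgebra_poly hx'tr⟩
  obtain ⟨h, hhdef⟩ : ∃ h : k[X], h = X ^ 3 + C a * X + C b := ⟨_, rfl⟩
  have hsq : Squarefree h := hhdef ▸ squarefree_cubic a b hdisc
  have hd3 : h.natDegree = 3 := by
    rw [hhdef]
    compute_degree!
  have hd : 1 ≤ h.natDegree := by omega
  have hevalx : aeval x h = x ^ 3 + algebraMap k K a * x + algebraMap k K b := by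
    rw [hhdef]
    simp only [map_add, map_mul, map_pow, aeval_X, aeval_C]
  have hevalx' : aeval x' h = x' ^ 3 + algebraMap k K a * x' + algebraMap k K b := by
    rw [hhdef]
    simp only [map_add, map_mul, map_pow, aeval_X, aeval_C]
  have heq' : y ^ 2 = algebraMap (RatFunc k) K (algebraMap k[X] (RatFunc k) h) := by
    rw [ratFuncAlgebra_poly hxtr h, hevalx]
    exact heq
  have hX : algebraMap (RatFunc k) K (RatFunc.X : RatFunc k) = x := ratFuncAlgebra_X hxtr
  have hgen : IntermediateField.adjoin (RatFunc k) ({y} : Set K) = ⊤ := by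
    rw [← IntermediateField.restrictScalars_eq_top_iff (K := k), eq_top_iff, ← hxy,
      IntermediateField.adjoin_le_iff]
    intro z hz
    rcases Set.mem_insert_iff.mp hz with rfl | hz'
    · show z ∈ IntermediateField.adjoin (RatFunc k) ({y} : Set K)
      rw [← hX]
      exact IntermediateField.algebraMap_mem _ _
    · rw [Set.mem_singleton_iff] at hz'
      subst hz'
      exact IntermediateField.mem_adjoin_simple_self _ _
  obtain ⟨hyr, hdeg, -⟩ := hyp_facts h2 hsq hd heq' hgen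
  obtain ⟨c, hcdef⟩ : ∃ c : RatFunc k, c = algebraMap k[X] (RatFunc k) h := ⟨_, rfl⟩
  obtain ⟨q, hqdef⟩ : ∃ q : (RatFunc k)[X], q = X ^ 2 - C c := ⟨_, rfl⟩
  have hqmonic : q.Monic := hqdef ▸ monic_X_pow_sub_C c two_ne_zero
  have hqdeg : q.natDegree = 2 := hqdef ▸ natDegree_X_pow_sub_C
  have h0 : aeval y q = 0 := by
    rw [hqdef, map_sub, map_pow, aeval_X, aeval_C, heq', hcdef, sub_self]
  haveI : FiniteDimensional (RatFunc k) K := Module.finite_of_finrank_pos (by omega)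
  have hint : IsIntegral (RatFunc k) y := IsIntegral.of_finite _ y
  have h2le : 2 ≤ (minpoly (RatFunc k) y).natDegree :=
    (minpoly.two_le_natDegree_iff hint).mpr hyr
  have hmin : q = minpoly (RatFunc k) y :=
    Polynomial.eq_of_monic_of_dvd_of_natDegree_le (minpoly.monic hint) hqmonic
      (minpoly.dvd _ y h0) (by omega)
  have hadj : Algebra.adjoin (RatFunc k) ({y} : Set K) = ⊤ := by
    rw [← IntermediateField.adjoin_simple_toSubalgebra_of_isAlgebraic hint.isAlgebraic, hgen,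
      IntermediateField.top_toSubalgebra]
  obtain ⟨pb, hpb⟩ : ∃ pb : PowerBasis (RatFunc k) K, pb.gen = y :=
    ⟨PowerBasis.ofAdjoinEqTop hint hadj, PowerBasis.ofAdjoinEqTop_gen hint hadj⟩
  have h₁ : aeval (AdjoinRoot.root q) (minpoly (RatFunc k) pb.gen) = 0 := by
    rw [hpb, ← hmin, AdjoinRoot.aeval_eq, AdjoinRoot.mk_self]
  have hua' : algebraMap k K a * ((algebraMap k K u) ^ 4 - 1) = 0 := by
    have := congrArg (algebraMap k K) hua
    simpa only [map_mul, map_sub, map_pow, map_one, map_zero] using this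
  have hub' : algebraMap k K b * ((algebraMap k K u) ^ 6 - 1) = 0 := by
    have := congrArg (algebraMap k K) hub
    simpa only [map_mul, map_sub, map_pow, map_one, map_zero] using this
  have hroot₂ : q.eval₂ i₂ y₂ = 0 := by
    rw [hqdef, eval₂_sub, eval₂_pow, eval₂_X, eval₂_C, hcdef, hi₂, hevalx', hx'def, hy₂def]
    simp only [map_pow]
    linear_combination (algebraMap k K u) ^ 6 * heq + (algebraMap k K u) ^ 2 * x * hua' + hub'
  obtain ⟨σ₀, hσ₀def⟩ : ∃ σ₀ : K →+* K, σ₀ = (AdjoinRoot.lift i₂ y₂ hroot₂).comp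
      (pb.lift (AdjoinRoot.root q) h₁).toRingHom := ⟨_, rfl⟩
  have hσ₀y : σ₀ y = y₂ := by
    rw [hσ₀def, RingHom.comp_apply]
    have : (pb.lift (AdjoinRoot.root q) h₁).toRingHom y = AdjoinRoot.root q := by
      rw [← hpb]
      exact pb.lift_gen _ h₁
    rw [this, AdjoinRoot.lift_root]
  have hσ₀F : ∀ f : RatFunc k, σ₀ (algebraMap (RatFunc k) K f) = i₂ f := by
    intro f
    rw [hσ₀def, RingHom.comp_apply]
    have : (pb.lift (AdjoinRoot.root q) h₁).toRingHom (algebraMap (RatFunc k) K f) =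
        AdjoinRoot.of q f := by
      show (pb.lift (AdjoinRoot.root q) h₁) (algebraMap (RatFunc k) K f) = _
      rw [AlgHom.commutes, AdjoinRoot.algebraMap_eq]
    rw [this, AdjoinRoot.lift_of]
  have hσ₀poly : ∀ p : k[X], σ₀ (aeval x p) = aeval x' p := by
    intro p
    rw [← ratFuncAlgebra_poly hxtr p, hσ₀F, hi₂]
  have hσ₀x : σ₀ x = x' := by
    have := hσ₀poly X
    rwa [aeval_X, aeval_X] at this
  have hσ₀k : ∀ c : k, σ₀ (algebraMap k K c) = algebraMap k K c := by
    intro c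
    have := hσ₀poly (C c)
    rwa [aeval_C, aeval_C] at this
  obtain ⟨σk, hσk⟩ : ∃ σk : K →ₐ[k] K, ∀ z, σk z = σ₀ z :=
    ⟨{ σ₀ with commutes' := hσ₀k }, fun z => rfl⟩
  have hinj : Function.Injective σk := σk.toRingHom.injective
  have hsurj : Function.Surjective σk := by
    have htop : σk.fieldRange = ⊤ := by
      rw [eq_top_iff, ← hxy, IntermediateField.adjoin_le_iff]
      intro z hz
      rcases Set.mem_insert_iff.mp hz with rfl | hz'
      · have h1 : z = algebraMap k K (u ^ 2)⁻¹ * σk z := by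
          rw [hσk, hσ₀x, hx'def, ← mul_assoc, ← map_mul, inv_mul_cancel₀ hu2, map_one, one_mul]
        rw [h1]
        exact mul_mem (IntermediateField.algebraMap_mem _ _) (AlgHom.mem_fieldRange.mpr ⟨z, rfl⟩)
      · rw [Set.mem_singleton_iff] at hz'
        subst hz'
        have h1 : z = algebraMap k K (u ^ 3)⁻¹ * σk z := by
          rw [hσk, hσ₀y, hy₂def, ← mul_assoc, ← map_mul, inv_mul_cancel₀ hu3, map_one, one_mul]
        rw [h1]
        exact mul_mem (IntermediateField.algebraMap_mem _ _) (AlgHom.mem_fieldRange.mpr ⟨z, rfl⟩)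
    intro z
    have hz : z ∈ σk.fieldRange := by rw [htop]; exact IntermediateField.mem_top
    exact AlgHom.mem_fieldRange.mp hz
  obtain ⟨σ, hσ⟩ : ∃ σ : K ≃ₐ[k] K, ∀ z, σ z = σ₀ z :=
    ⟨AlgEquiv.ofBijective σk ⟨hinj, hsurj⟩, fun z => hσk z⟩
  refine ⟨σ, by rw [hσ, hσ₀x, hx'def], by rw [hσ, hσ₀y, hy₂def], ?_⟩
  have hPx : 1 < P.1 x := (P.ord_neg_iff hx0).mp (by omega)
  have hP' : P.comapEquiv σ = P := by
    by_contra hne
    have h1 := (mem_L.mp hx) (P.comapEquiv σ)
    rw [Finsupp.single_apply, if_neg (Ne.symm hne), exp_zero, Place.comapEquiv_apply, hσ, hσ₀x,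
      hx'def, map_mul, P.val_algebraMap hu2, one_mul] at h1
    exact absurd hPx (not_lt.mpr h1)
  intro z
  rw [← Place.comapEquiv_apply, hP']

open Classical in
/-- S19397. -/
theorem card_algEquiv_fixing_place [IsAlgClosed k] (h2 : (2 : k) ≠ 0) (h3 : (3 : k) ≠ 0)
    (hK : IsFunctionField k K) (hgen : genus k K = 1) (P : Place k K)
    (a b : k) (hdisc : 4 * a ^ 3 + 27 * b ^ 2 ≠ 0) (x y : K)
    (heq : y ^ 2 = x ^ 3 + algebraMap k K a * x + algebraMap k K b)
    (hxy : IntermediateField.adjoin k ({x, y} : Set K) = ⊤)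
    (hx : x ∈ L (Finsupp.single P 2)) (hx2 : P.ord x = -2)
    (hy : y ∈ L (Finsupp.single P 3)) (hy3 : P.ord y = -3) :
    Nat.card {σ : K ≃ₐ[k] K // ∀ z : K, P.1 (σ z) = P.1 z} =
      if a = 0 then 6 else if b = 0 then 4 else 2 := by
  classical
  have hx0 : x ≠ 0 := by
    rintro rfl
    rw [Place.ord_zero] at hx2
    omega
  have hy0 : y ≠ 0 := by
    rintro rfl
    rw [Place.ord_zero] at hy3
    omega
  obtain ⟨U, hU⟩ : ∃ U : Set k, U = {u | u ≠ 0 ∧ a * (u ^ 4 - 1) = 0 ∧ b * (u ^ 6 - 1) = 0} :=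
    ⟨_, rfl⟩
  have hUmem : ∀ u : k, u ∈ U ↔ (u ≠ 0 ∧ a * (u ^ 4 - 1) = 0 ∧ b * (u ^ 6 - 1) = 0) := by
    intro u
    rw [hU]
    rfl
  have hex : ∀ u : U, ∃ σ : K ≃ₐ[k] K, σ x = algebraMap k K ((u : k) ^ 2) * x ∧
      σ y = algebraMap k K ((u : k) ^ 3) * y ∧ ∀ z : K, P.1 (σ z) = P.1 z := by
    rintro ⟨u, hu⟩
    rw [hUmem] at hu
    exact exists_algEquiv_scale h2 hK P a b hdisc x y heq hxy hx hx2 u hu.1 hu.2.1 hu.2.2
  choose Ψ hΨx hΨy hΨP using hex
  obtain ⟨f, hf⟩ : ∃ f : U → {σ : K ≃ₐ[k] K // ∀ z : K, P.1 (σ z) = P.1 z},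
      ∀ u, (f u : K ≃ₐ[k] K) = Ψ u := ⟨fun u => ⟨Ψ u, hΨP u⟩, fun u => rfl⟩
  have hfinj : Function.Injective f := by
    intro u u' huu
    have h1 : Ψ u = Ψ u' := by rw [← hf, ← hf, huu]
    have hux : ((u : k)) ^ 2 = (u' : k) ^ 2 := by
      have := hΨx u
      rw [h1, hΨx u'] at this
      exact (algebraMap k K).injective (mul_right_cancel₀ hx0 this).symm
    have huy : ((u : k)) ^ 3 = (u' : k) ^ 3 := by
      have := hΨy u
      rw [h1, hΨy u'] at this
      exact (algebraMap k K).injective (mul_right_cancel₀ hy0 this).symm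
    have hu0 : (u : k) ≠ 0 := ((hUmem _).mp u.2).1
    apply Subtype.ext
    have h5 : (u : k) * (u : k) ^ 2 = (u' : k) * (u : k) ^ 2 := by
      calc (u : k) * (u : k) ^ 2 = (u : k) ^ 3 := by ring
        _ = (u' : k) ^ 3 := huy
        _ = (u' : k) * (u' : k) ^ 2 := by ring
        _ = (u' : k) * (u : k) ^ 2 := by rw [hux]
    exact mul_right_cancel₀ (pow_ne_zero 2 hu0) h5
  have hfsurj : Function.Surjective f := by
    rintro ⟨σ, hσ⟩
    obtain ⟨u, hu0, hua, hub, hσx, hσy⟩ :=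
      exists_scale_of_algEquiv h2 h3 hK hgen P a b x y heq hx hx2 hy hy3 σ hσ
    have huU : u ∈ U := (hUmem u).mpr ⟨hu0, hua, hub⟩
    refine ⟨⟨u, huU⟩, ?_⟩
    apply Subtype.ext
    rw [hf]
    -- the two automorphisms agree on the generators
    have hag : ∀ z ∈ IntermediateField.adjoin k ({x, y} : Set K), Ψ ⟨u, huU⟩ z = σ z := by
      intro z hz
      induction hz using IntermediateField.adjoin_induction with
      | mem w hw =>
        rcases Set.mem_insert_iff.mp hw with rfl | hw'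
        · rw [hΨx, hσx]
        · rw [Set.mem_singleton_iff] at hw'
          subst hw'
          rw [hΨy, hσy]
      | algebraMap c => rw [AlgEquiv.commutes, AlgEquiv.commutes]
      | add w₁ w₂ _ _ h1 h2 => rw [map_add, map_add, h1, h2]
      | inv w _ h1 => rw [map_inv₀, map_inv₀, h1]
      | mul w₁ w₂ _ _ h1 h2 => rw [map_mul, map_mul, h1, h2]
    ext z
    exact hag z (by rw [hxy]; exact IntermediateField.mem_top)
  have hcard : Nat.card {σ : K ≃ₐ[k] K // ∀ z : K, P.1 (σ z) = P.1 z} = Nat.card U :=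
    (Nat.card_eq_of_bijective f ⟨hfinj, hfsurj⟩).symm
  rw [hcard]
  have h6 : ((6 : ℕ) : k) ≠ 0 := by
    have : ((6 : ℕ) : k) = 2 * 3 := by norm_num
    rw [this]
    exact mul_ne_zero h2 h3
  have h4 : ((4 : ℕ) : k) ≠ 0 := by
    have : ((4 : ℕ) : k) = 2 * 2 := by norm_num
    rw [this]
    exact mul_ne_zero h2 h2
  have h2' : ((2 : ℕ) : k) ≠ 0 := by
    have : ((2 : ℕ) : k) = 2 := by norm_num
    rw [this]
    exact h2
  by_cases ha : a = 0
  · rw [if_pos ha]
    have hb : b ≠ 0 := by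
      rintro rfl
      apply hdisc
      rw [ha]
      ring
    rw [← card_pow_eq_one k h6]
    apply Nat.card_congr
    rw [hU]
    refine Equiv.subtypeEquivRight (fun u => ?_)
    rw [Set.mem_ofPred_eq, ha]
    constructor
    · rintro ⟨-, -, hub⟩
      exact sub_eq_zero.mp ((mul_eq_zero.mp hub).resolve_left hb)
    · intro hu6
      refine ⟨?_, by ring, by rw [hu6]; ring⟩
      rintro rfl
      norm_num at hu6
  · rw [if_neg ha]
    by_cases hb : b = 0
    · rw [if_pos hb]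
      rw [← card_pow_eq_one k h4]
      apply Nat.card_congr
      rw [hU]
      refine Equiv.subtypeEquivRight (fun u => ?_)
      rw [Set.mem_ofPred_eq, hb]
      constructor
      · rintro ⟨-, hua, -⟩
        exact sub_eq_zero.mp ((mul_eq_zero.mp hua).resolve_left ha)
      · intro hu4
        refine ⟨?_, by rw [hu4]; ring, by ring⟩
        rintro rfl
        norm_num at hu4
    · rw [if_neg hb]
      rw [← card_pow_eq_one k h2']
      apply Nat.card_congr
      rw [hU]
      refine Equiv.subtypeEquivRight (fun u => ?_)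
      rw [Set.mem_ofPred_eq]
      constructor
      · rintro ⟨hu0, hua, hub⟩
        have hu4 : u ^ 4 = 1 := sub_eq_zero.mp ((mul_eq_zero.mp hua).resolve_left ha)
        have hu6 : u ^ 6 = 1 := sub_eq_zero.mp ((mul_eq_zero.mp hub).resolve_left hb)
        have : u ^ 6 = u ^ 4 * u ^ 2 := by ring
        rw [hu6, hu4, one_mul] at this
        exact this.symm
      · intro hu2
        refine ⟨?_, ?_, ?_⟩
        · rintro rfl
          norm_num at hu2
        · have : u ^ 4 = (u ^ 2) ^ 2 := by ring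
          rw [this, hu2]
          ring
        · have : u ^ 6 = (u ^ 2) ^ 3 := by ring
          rw [this, hu2]
          ring

end Ell

end FunFld
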