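import Mathlib
import Groth.Agent.Lib.FunFldRHA_helper2

/-! A place of `k̄ K` is Frobenius-stable iff it lies over a place of degree one (helper2). -/

open WithZero Module Polynomial

namespace FunFld

section

variable {k K kb Kb : Type*} [Field k] [Finite k] [Field K] [Algebra k K] [Field kb] [Algebra k kb]
    [Field Kb] [Algebra K Kb] [Algebra kb Kb]

/-- `Q(x) < 1 ↔ P(x) < 1` from the `≤` version. -/
theorem lt_one_iff_of_le_one_iff {P : Place k K} {Q : Place kb Kb}
    (hover : ∀ x : K, Q.1 (algebraMap K Kb x) ≤ 1 ↔ P.1 x ≤ 1) (x : K) :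
    Q.1 (algebraMap K Kb x) < 1 ↔ P.1 x < 1 := by
  by_cases hx : x = 0
  · subst hx
    simp
  · have h1 := hover x⁻¹
    rw [map_inv₀, map_inv₀, map_inv₀] at h1
    have hQ0 : 0 < Q.1 (algebraMap K Kb x) := by
      rw [Valuation.pos_iff]
      exact (_root_.map_ne_zero _).mpr hx
    have hP0 : 0 < P.1 x := by
      rw [Valuation.pos_iff]; exact hx
    rw [inv_le_one₀ hQ0, inv_le_one₀ hP0] at h1
    rw [← not_le, ← not_le, h1]

theorem frob_forward (hK : IsFunctionField k K) [IsAlgClosed kb] [Algebra.IsAlgebraic k kb]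
    (hc : ∀ c : k, algebraMap K Kb (algebraMap k K c) = algebraMap kb Kb (algebraMap k kb c))
    (hgen : Algebra.adjoin K (Set.range (algebraMap kb Kb)) = ⊤)
    (F : Kb →+* Kb) (hF1 : ∀ c : kb, F (algebraMap kb Kb c) = algebraMap kb Kb c)
    (hF2 : ∀ x : K, F (algebraMap K Kb x) = algebraMap K Kb x ^ Nat.card k)
    (Q : Place kb Kb) (h : ∀ z : Kb, Q.1 (F z) < 1 ↔ Q.1 z < 1) :
    ∃ P : Place k K, (∀ x : K, Q.1 (algebraMap K Kb x) ≤ 1 ↔ P.1 x ≤ 1) ∧ P.deg = 1 := by
  classical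
  letI aKb : Algebra k Kb := ((algebraMap K Kb).comp (algebraMap k K)).toAlgebra
  haveI t1 : IsScalarTower k K Kb := IsScalarTower.of_algebraMap_eq (fun _ => rfl)
  haveI t2 : IsScalarTower k kb Kb := IsScalarTower.of_algebraMap_eq (fun c => hc c)
  have hq : 1 < Nat.card k := Finite.one_lt_card
  -- `Kb/K` is algebraic
  haveI : Algebra.IsAlgebraic K Kb := by
    have hle : Algebra.adjoin K (Set.range (algebraMap kb Kb)) ≤ integralClosure K Kb := by
      apply Algebra.adjoin_le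
      rintro _ ⟨c, rfl⟩
      have h1 : IsIntegral k c := Algebra.IsIntegral.isIntegral c
      have h2 : IsIntegral k (algebraMap kb Kb c) := h1.map (IsScalarTower.toAlgHom k kb Kb)
      exact h2.tower_top
    refine ⟨fun z => ?_⟩
    have hz : z ∈ Algebra.adjoin K (Set.range (algebraMap kb Kb)) := by
      rw [hgen]; exact Algebra.mem_top
    exact (hle hz : IsIntegral K z).isAlgebraic
  -- the place below
  let Q' : Place k Kb := ⟨Q.1, fun c => by
    show Q.1 (algebraMap K Kb (algebraMap k K c)) ≤ 1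
    rw [hc]; exact Q.2.1 _, Q.2.2⟩
  obtain ⟨P, e, hPe⟩ := exists_isOverWith hK Q'
  have he : 0 < e := hPe.pos
  have hPe' : ∀ x : K, Q.1 (algebraMap K Kb x) = P.1 x ^ e := hPe
  have hover : ∀ x : K, Q.1 (algebraMap K Kb x) ≤ 1 ↔ P.1 x ≤ 1 := fun x => by
    rw [hPe' x, pow_le_one_iff he.ne']
  have hlt := lt_one_iff_of_le_one_iff hover
  refine ⟨P, hover, ?_⟩
  -- every residue is fixed by the `q`-power map
  have hkey : ∀ x : K, P.1 x ≤ 1 → P.1 (x ^ Nat.card k - x) < 1 := by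
    intro x hx
    have hxQ : Q.1 (algebraMap K Kb x) ≤ 1 := (hover x).mpr hx
    obtain ⟨N, hN⟩ : ∃ N, N = Nat.card k ^ P.deg := ⟨_, rfl⟩
    have hN1 : 1 < N := by
      rw [hN]
      exact Nat.one_lt_pow (Place.deg_pos hK P).ne' hq
    have h1 : P.1 (x ^ N - x) < 1 := by rw [hN]; exact val_pow_card_sub_lt hK P hx
    have h2 : Q.1 (algebraMap K Kb (x ^ N - x)) < 1 := (hlt _).mpr h1
    -- the residue of `x` at `Q` is algebraic over `kb`
    obtain ⟨xq, hxq⟩ : ∃ xq : Q.O, (xq : Kb) = algebraMap K Kb x :=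
      ⟨⟨algebraMap K Kb x, (Valuation.mem_valuationSubring_iff _ _).mpr hxQ⟩, rfl⟩
    have h3 : IsLocalRing.residue Q.O (xq ^ N - xq) = 0 := by
      rw [Q.residue_eq_zero_iff]
      have : ((xq ^ N - xq : Q.O) : Kb) = algebraMap K Kb (x ^ N - x) := by
        show (xq : Kb) ^ N - (xq : Kb) = _
        rw [hxq, map_sub, map_pow]
      rw [this]; exact h2
    have halg : IsAlgebraic kb (IsLocalRing.residue Q.O xq) := by
      refine ⟨X ^ N - X, FiniteField.X_pow_card_sub_X_ne_zero kb hN1, ?_⟩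
      rw [map_sub, map_pow, aeval_X, ← map_pow, ← map_sub]
      exact h3
    have hdeg := IsAlgClosed.degree_eq_one_of_irreducible kb (minpoly.irreducible halg.isIntegral)
    obtain ⟨c, hcc⟩ := minpoly.mem_range_of_degree_eq_one kb (IsLocalRing.residue Q.O xq) hdeg
    have h4 : IsLocalRing.residue Q.O (xq - algebraMap kb Q.O c) = 0 := by
      rw [map_sub, sub_eq_zero]
      exact hcc.symm
    rw [Q.residue_eq_zero_iff] at h4
    have h5 : Q.1 (algebraMap K Kb x - algebraMap kb Kb c) < 1 := by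
      have : ((xq - algebraMap kb Q.O c : Q.O) : Kb) = algebraMap K Kb x - algebraMap kb Kb c := by
        show (xq : Kb) - ((algebraMap kb Q.O c : Q.O) : Kb) = _
        rw [hxq]
        rfl
      rw [← this]; exact h4
    have h6 : Q.1 (algebraMap K Kb x ^ Nat.card k - algebraMap kb Kb c) < 1 := by
      have := (h _).mpr h5
      rwa [map_sub, hF1, hF2] at this
    have h7 : Q.1 (algebraMap K Kb (x ^ Nat.card k - x)) < 1 := by
      have e1 : algebraMap K Kb (x ^ Nat.card k - x) =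
          (algebraMap K Kb x ^ Nat.card k - algebraMap kb Kb c) -
            (algebraMap K Kb x - algebraMap kb Kb c) := by
        rw [map_sub, map_pow]; ring
      rw [e1]
      exact lt_of_le_of_lt (Valuation.map_sub _ _ _) (max_lt h6 h5)
    exact (hlt _).mp h7
  haveI := finite_residueField hK P
  have hall : ∀ a : IsLocalRing.ResidueField P.O, a ^ Nat.card k = a := by
    intro a
    obtain ⟨u, rfl⟩ := IsLocalRing.residue_surjective a
    have h1 := hkey (u : K) u.2
    have h2 : IsLocalRing.residue P.O (u ^ Nat.card k - u) = 0 := by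
      rw [P.residue_eq_zero_iff]
      have : ((u ^ Nat.card k - u : P.O) : K) = (u : K) ^ Nat.card k - (u : K) := rfl
      rw [this]; exact h1
    rw [map_sub, map_pow, sub_eq_zero] at h2
    exact h2
  have h8 := natCard_le_of_forall_pow_eq hq hall
  rw [natCard_residueField hK P] at h8
  have h9 : P.deg ≤ 1 := by
    have : Nat.card k ^ P.deg ≤ Nat.card k ^ 1 := by rw [pow_one]; exact h8
    exact (Nat.pow_le_pow_iff_right hq).mp this
  have h10 := Place.deg_pos hK P
  omega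

theorem frob_backward
    (hc : ∀ c : k, algebraMap K Kb (algebraMap k K c) = algebraMap kb Kb (algebraMap k kb c))
    (hgen : Algebra.adjoin K (Set.range (algebraMap kb Kb)) = ⊤)
    (F : Kb →+* Kb) (hF1 : ∀ c : kb, F (algebraMap kb Kb c) = algebraMap kb Kb c)
    (hF2 : ∀ x : K, F (algebraMap K Kb x) = algebraMap K Kb x ^ Nat.card k)
    (Q : Place kb Kb) (P : Place k K)
    (hover : ∀ x : K, Q.1 (algebraMap K Kb x) ≤ 1 ↔ P.1 x ≤ 1) (hdeg : P.deg = 1) (z : Kb) :
    Q.1 (F z) = Q.1 z ^ Nat.card k := by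
  classical
  have hq : 1 < Nat.card k := Finite.one_lt_card
  obtain ⟨q, hqdef⟩ : ∃ q, q = Nat.card k := ⟨_, rfl⟩
  rw [← hqdef] at hq hF2 ⊢
  have hq0 : q ≠ 0 := by omega
  have hlt := lt_one_iff_of_le_one_iff hover
  obtain ⟨t, ht⟩ := P.exists_uniformizer
  have ht1 : P.1 t < 1 := by rw [ht]; exact exp_neg_one_lt_one
  have ht0 : t ≠ 0 := by
    rintro rfl
    rw [map_zero] at ht
    exact exp_ne_zero ht.symm
  obtain ⟨tb, htb⟩ : ∃ tb : Kb, tb = algebraMap K Kb t := ⟨_, rfl⟩
  have htb1 : Q.1 tb < 1 := by rw [htb]; exact (hlt t).mpr ht1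
  have htb0 : tb ≠ 0 := by rw [htb]; exact (_root_.map_ne_zero _).mpr ht0
  have hFtb : F tb = tb ^ q := by rw [htb]; exact hF2 t
  -- the ring `R = kb[O_P]`
  obtain ⟨R, hR⟩ : ∃ R : Subalgebra kb Kb,
      R = Algebra.adjoin kb (algebraMap K Kb '' {x | P.1 x ≤ 1}) := ⟨_, rfl⟩
  have hgenR : ∀ x : K, P.1 x ≤ 1 → algebraMap K Kb x ∈ R := fun x hx => by
    rw [hR]; exact Algebra.subset_adjoin ⟨x, hx, rfl⟩
  have hR1 : ∀ r ∈ R, Q.1 r ≤ 1 := by
    intro r hr
    rw [hR] at hr
    induction hr using Algebra.adjoin_induction with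
    | mem y hy =>
      obtain ⟨x, hx, rfl⟩ := hy
      exact (hover x).mpr hx
    | algebraMap c => exact Q.2.1 c
    | add a b _ _ ha hb => exact le_trans (Valuation.map_add _ _ _) (max_le ha hb)
    | mul a b _ _ ha hb => rw [map_mul]; exact mul_le_one' ha hb
  have hRF : ∀ r ∈ R, F r ∈ R := by
    intro r hr
    rw [hR] at hr
    induction hr using Algebra.adjoin_induction with
    | mem y hy =>
      obtain ⟨x, hx, rfl⟩ := hy
      rw [hF2]
      exact pow_mem (hgenR x hx) q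
    | algebraMap c => rw [hF1]; exact Subalgebra.algebraMap_mem R c
    | add a b _ _ ha hb => rw [map_add]; exact add_mem ha hb
    | mul a b _ _ ha hb => rw [map_mul]; exact mul_mem ha hb
  have hRdec : ∀ r ∈ R, ∃ c : kb, ∃ r' ∈ R, r = algebraMap kb Kb c + tb * r' := by
    intro r hr
    rw [hR] at hr
    induction hr using Algebra.adjoin_induction with
    | mem y hy =>
      obtain ⟨x, hx, rfl⟩ := hy
      obtain ⟨a, ha⟩ := exists_sub_algebraMap_lt_one_of_deg_one P hdeg hx
      refine ⟨algebraMap k kb a, algebraMap K Kb ((x - algebraMap k K a) / t), hgenR _ ?_, ?_⟩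
      · rw [map_div₀, ht]
        rw [lt_one_iff_le_exp_neg_one] at ha
        rw [div_le_iff₀ (exp_pos), one_mul]
        exact ha
      · rw [htb, ← map_mul, mul_div_cancel₀ _ ht0, map_sub, hc]
        ring
    | algebraMap c => exact ⟨c, 0, zero_mem R, by rw [mul_zero, add_zero]⟩
    | add a b _ _ ha hb =>
      obtain ⟨c₁, r₁, hr₁, rfl⟩ := ha
      obtain ⟨c₂, r₂, hr₂, rfl⟩ := hb
      exact ⟨c₁ + c₂, r₁ + r₂, add_mem hr₁ hr₂, by rw [map_add]; ring⟩
    | mul a b _ _ ha hb =>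
      obtain ⟨c₁, r₁, hr₁, rfl⟩ := ha
      obtain ⟨c₂, r₂, hr₂, rfl⟩ := hb
      refine ⟨c₁ * c₂, algebraMap kb Kb c₁ * r₂ + algebraMap kb Kb c₂ * r₁ + tb * (r₁ * r₂), ?_, ?_⟩
      · exact add_mem (add_mem (mul_mem (Subalgebra.algebraMap_mem R c₁) hr₂)
          (mul_mem (Subalgebra.algebraMap_mem R c₂) hr₁))
          (mul_mem (by rw [htb]; exact hgenR t ht1.le) (mul_mem hr₁ hr₂))
      · rw [map_mul]; ring
  have hconst : ∀ c : kb, c ≠ 0 → Q.1 (algebraMap kb Kb c) = 1 := fun c hc0 => Q.val_algebraMap hc0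
  have hsmall : ∀ r' ∈ R, Q.1 (tb * r') < 1 := by
    intro r' hr'
    rw [map_mul]
    calc Q.1 tb * Q.1 r' ≤ Q.1 tb * 1 := mul_le_mul' le_rfl (hR1 r' hr')
      _ = Q.1 tb := mul_one _
      _ < 1 := htb1
  have hunit : ∀ c : kb, c ≠ 0 → ∀ r' ∈ R, Q.1 (algebraMap kb Kb c + tb * r') = 1 ∧
      Q.1 (F (algebraMap kb Kb c + tb * r')) = 1 := by
    intro c hc0 r' hr'
    have h1 := hsmall r' hr'
    have h2 : Q.1 (tb ^ q * F r') < 1 := by
      rw [map_mul, map_pow]
      calc Q.1 tb ^ q * Q.1 (F r') ≤ Q.1 tb ^ q * 1 := mul_le_mul' le_rfl (hR1 _ (hRF r' hr'))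
        _ = Q.1 tb ^ q := mul_one _
        _ < 1 := (pow_lt_one_iff hq0).mpr htb1
    constructor
    · rw [Valuation.map_add_eq_of_lt_left]
      · exact hconst c hc0
      · rw [hconst c hc0]; exact h1
    · rw [map_add, map_mul, hF1, hFtb, Valuation.map_add_eq_of_lt_left]
      · exact hconst c hc0
      · rw [hconst c hc0]; exact h2
  have hS : ∀ n : ℕ, ∀ r ∈ R, r ≠ 0 → exp (-(n : ℤ)) ≤ Q.1 r → Q.1 (F r) = Q.1 r ^ q := by
    intro n
    induction n with
    | zero =>
      intro r hr hr0 hle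
      obtain ⟨c, r', hr', rfl⟩ := hRdec r hr
      by_cases hc0 : c = 0
      · exfalso
        subst hc0
        rw [map_zero, zero_add] at hle
        have h1 := hsmall r' hr'
        rw [Nat.cast_zero, neg_zero, exp_zero] at hle
        exact absurd hle (not_le.mpr h1)
      · obtain ⟨h1, h2⟩ := hunit c hc0 r' hr'
        rw [h1, h2, one_pow]
    | succ n ih =>
      intro r hr hr0 hle
      obtain ⟨c, r', hr', rfl⟩ := hRdec r hr
      by_cases hc0 : c = 0
      · subst hc0
        rw [map_zero, zero_add] at hr0 hle ⊢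
        have hr'0 : r' ≠ 0 := right_ne_zero_of_mul hr0
        have h3 : exp (-(n : ℤ)) ≤ Q.1 r' := by
          have h4 : Q.1 tb ≤ exp (-1 : ℤ) := (lt_one_iff_le_exp_neg_one _).mp htb1
          rw [map_mul] at hle
          have h5 : exp (-((n + 1 : ℕ) : ℤ)) ≤ exp (-1 : ℤ) * Q.1 r' :=
            hle.trans (mul_le_mul' h4 le_rfl)
          have h6 : exp (-((n + 1 : ℕ) : ℤ)) = exp (-1 : ℤ) * exp (-(n : ℤ)) := by
            rw [← exp_add]; congr 1; push_cast; ring
          rw [h6] at h5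
          exact le_of_mul_le_mul_left h5 exp_pos
        rw [map_mul F, hFtb, map_mul Q.1, map_pow, ih r' hr' hr'0 h3, map_mul Q.1, mul_pow]
      · obtain ⟨h1, h2⟩ := hunit c hc0 r' hr'
        rw [h1, h2, one_pow]
  have hRall : ∀ r ∈ R, Q.1 (F r) = Q.1 r ^ q := by
    intro r hr
    by_cases hr0 : r = 0
    · subst hr0; rw [map_zero, map_zero, zero_pow hq0]
    · have hne : Q.1 r ≠ 0 := (Q.1.ne_zero_iff).mpr hr0
      obtain ⟨a, ha⟩ : ∃ a : ℤ, Q.1 r = exp a := ⟨_, (exp_log hne).symm⟩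
      refine hS (-a).toNat r hr hr0 ?_
      rw [ha, exp_le_exp]
      have := Int.self_le_toNat (-a)
      omega
  have hden : ∀ z ∈ Algebra.adjoin K (Set.range (algebraMap kb Kb)),
      ∃ x : K, x ≠ 0 ∧ P.1 x ≤ 1 ∧ z * algebraMap K Kb x ∈ R := by
    intro z hz
    induction hz using Algebra.adjoin_induction with
    | mem y hy =>
      obtain ⟨c, rfl⟩ := hy
      exact ⟨1, one_ne_zero, by rw [map_one], by
        rw [map_one, mul_one]; exact Subalgebra.algebraMap_mem R c⟩
    | algebraMap y =>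
      by_cases hy : P.1 y ≤ 1
      · exact ⟨1, one_ne_zero, by rw [map_one], by rw [map_one, mul_one]; exact hgenR y hy⟩
      · have hy0 : y ≠ 0 := by
          rintro rfl
          exact hy (by rw [map_zero]; exact zero_le_one)
        push Not at hy
        refine ⟨y⁻¹, inv_ne_zero hy0, ?_, ?_⟩
        · rw [map_inv₀]
          exact (inv_le_one₀ (zero_lt_one.trans hy)).mpr hy.le
        · rw [← map_mul, mul_inv_cancel₀ hy0, map_one]; exact one_mem R
    | add a b _ _ ha hb =>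
      obtain ⟨x₁, h10, h11, h12⟩ := ha
      obtain ⟨x₂, h20, h21, h22⟩ := hb
      refine ⟨x₁ * x₂, mul_ne_zero h10 h20, by rw [map_mul]; exact mul_le_one' h11 h21, ?_⟩
      have e : (a + b) * algebraMap K Kb (x₁ * x₂) =
          a * algebraMap K Kb x₁ * algebraMap K Kb x₂ +
            b * algebraMap K Kb x₂ * algebraMap K Kb x₁ := by rw [map_mul]; ring
      rw [e]
      exact add_mem (mul_mem h12 (hgenR x₂ h21)) (mul_mem h22 (hgenR x₁ h11))
    | mul a b _ _ ha hb =>
      obtain ⟨x₁, h10, h11, h12⟩ := ha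
      obtain ⟨x₂, h20, h21, h22⟩ := hb
      refine ⟨x₁ * x₂, mul_ne_zero h10 h20, by rw [map_mul]; exact mul_le_one' h11 h21, ?_⟩
      have e : (a * b) * algebraMap K Kb (x₁ * x₂) =
          (a * algebraMap K Kb x₁) * (b * algebraMap K Kb x₂) := by rw [map_mul]; ring
      rw [e]
      exact mul_mem h12 h22
  have hz : z ∈ Algebra.adjoin K (Set.range (algebraMap kb Kb)) := by
    rw [hgen]; exact Algebra.mem_top
  obtain ⟨x, hx0, hx1, hxR⟩ := hden z hz
  have h1 := hRall _ hxR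
  rw [map_mul F, map_mul Q.1, hF2, map_pow, map_mul Q.1, mul_pow] at h1
  have hxb0 : Q.1 (algebraMap K Kb x) ^ q ≠ 0 :=
    pow_ne_zero _ ((Q.1.ne_zero_iff).mpr ((_root_.map_ne_zero _).mpr hx0))
  exact mul_right_cancel₀ hxb0 h1

end

end FunFld
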