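import Mathlib
import Groth.Prelude.Def_AdFn
import Groth.Agent.Lib.FunFldK_helper2
import Groth.Agent.Lib.FunFldH_helper2

/-! `K / (O_{{P}} + O_P)` has dimension the genus (helper2). -/

open Polynomial IntermediateField WithZero Module

namespace FunFld

universe u

variable {k K : Type u} [Field k] [Field K] [Algebra k K]

theorem pi_single_mem_adele' [DecidableEq (Place k K)]
    (P : Place k K) (z : K) : (Pi.single P z : Place k K → K) ∈ adele k K := by
  show ∀ᶠ Q : Place k K in Filter.cofinite, Q.1 ((Pi.single P z : Place k K → K) Q) ≤ 1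
  rw [Filter.eventually_cofinite]
  refine (Set.finite_singleton P).subset ?_
  intro Q hQ
  by_contra hne
  apply hQ
  rw [Pi.single_eq_of_ne hne, map_zero]
  exact zero_le

/-- S16099. -/
theorem finrank_quotient_SInt (hK : IsFunctionField k K) (P : Place k K) :
    FiniteDimensional k (K ⧸ (Subalgebra.toSubmodule (AdFn.SInt ({P} : Set (FunFld.Place k K))) ⊔
        Subalgebra.toSubmodule (AdFn.SInt (({P} : Set (FunFld.Place k K))ᶜ)))) ∧
    Module.finrank k (K ⧸ (Subalgebra.toSubmodule (AdFn.SInt ({P} : Set (FunFld.Place k K))) ⊔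
        Subalgebra.toSubmodule (AdFn.SInt (({P} : Set (FunFld.Place k K))ᶜ)))) = FunFld.genus k K := by
  classical
  obtain ⟨hfd, hrank⟩ := finrank_adele_quot hK (0 : Divisor k K)
  rw [deg_zero, ell_zero hK] at hrank
  have hrank' : Module.finrank k (↥(adele k K) ⧸ ADK (0 : Divisor k K)) = genus k K := by
    push_cast at hrank
    omega
  obtain ⟨W, hW⟩ : ∃ W : Submodule k K,
      W = Subalgebra.toSubmodule (AdFn.SInt ({P} : Set (FunFld.Place k K))) ⊔
        Subalgebra.toSubmodule (AdFn.SInt (({P} : Set (FunFld.Place k K))ᶜ)) := ⟨_, rfl⟩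
  rw [← hW]
  let single : K →ₗ[k] ↥(adele k K) :=
    { toFun := fun x => ⟨Pi.single P x, pi_single_mem_adele' P x⟩
      map_add' := fun x y => Subtype.ext (by
        show (Pi.single P (x + y) : Place k K → K) =
          (Pi.single P x : Place k K → K) + (Pi.single P y : Place k K → K)
        exact Pi.single_add (f := fun _ : Place k K => K) P x y)
      map_smul' := fun c x => Subtype.ext (by
        show (Pi.single P (c • x) : Place k K → K) = c • (Pi.single P x : Place k K → K)
        exact Pi.single_smul (f := fun _ : Place k K => K) P c x) }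
  let ι : K →ₗ[k] (↥(adele k K) ⧸ ADK (0 : Divisor k K)) :=
    (ADK (0 : Divisor k K)).mkQ ∘ₗ single
  have hmem : ∀ x : K, ι x = 0 ↔ (Pi.single P x : Place k K → K) ∈
      AD (0 : Divisor k K) ⊔ LinearMap.range (diag k K) := by
    intro x
    show (ADK (0 : Divisor k K)).mkQ (single x) = 0 ↔ _
    rw [Submodule.mkQ_apply, Submodule.Quotient.mk_eq_zero]
    rfl
  have hker : LinearMap.ker ι = W := by
    ext x
    rw [LinearMap.mem_ker, hmem, hW]
    constructor
    · intro h
      obtain ⟨a, ha, b, ⟨y, rfl⟩, hsum⟩ := Submodule.mem_sup.mp h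
      have ha' : ∀ Q : Place k K, Q.1 (a Q) ≤ 1 := by
        intro Q
        have := ha Q
        rwa [Finsupp.coe_zero, Pi.zero_apply, exp_zero] at this
      have hy : y ∈ Subalgebra.toSubmodule (AdFn.SInt ({P} : Set (FunFld.Place k K))) := by
        show ∀ v : Place k K, v ∉ ({P} : Set (Place k K)) → v.1 y ≤ 1
        intro Q hQ
        have hQP : Q ≠ P := hQ
        have h1 := congrFun hsum Q
        rw [Pi.single_eq_of_ne hQP] at h1
        have h2 : y = -a Q := by
          have : a Q + y = 0 := h1
          linear_combination this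
        rw [h2, Valuation.map_neg]
        exact ha' Q
      have hz : x - y ∈ Subalgebra.toSubmodule (AdFn.SInt (({P} : Set (FunFld.Place k K))ᶜ)) := by
        show ∀ v : Place k K, v ∉ (({P} : Set (Place k K))ᶜ) → v.1 (x - y) ≤ 1
        intro Q hQ
        have hQP : Q = P := by
          by_contra hne
          exact hQ hne
        have h1 := congrFun hsum P
        rw [Pi.single_eq_same] at h1
        have h2 : x - y = a P := by
          have : a P + y = x := h1
          rw [← this]
          ring
        rw [hQP, h2]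
        exact ha' P
      have : x = y + (x - y) := by ring
      rw [this]
      exact Submodule.add_mem_sup hy hz
    · intro h
      obtain ⟨y, hy, z, hz, rfl⟩ := Submodule.mem_sup.mp h
      refine Submodule.mem_sup.mpr ⟨Pi.single P (y + z) - diag k K y, ?_, diag k K y, ⟨y, rfl⟩,
        sub_add_cancel _ _⟩
      intro Q
      rw [Finsupp.coe_zero, Pi.zero_apply, exp_zero]
      by_cases hQP : Q = P
      · rw [hQP]
        show P.1 ((Pi.single P (y + z) : Place k K → K) P - y) ≤ 1
        rw [Pi.single_eq_same, add_sub_cancel_left]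
        exact hz P (fun hc => hc rfl)
      · show Q.1 ((Pi.single P (y + z) : Place k K → K) Q - y) ≤ 1
        rw [Pi.single_eq_of_ne hQP, zero_sub, Valuation.map_neg]
        exact hy Q hQP
  have hsurj : Function.Surjective ι := by
    intro c
    obtain ⟨⟨a, ha⟩, rfl⟩ := Submodule.mkQ_surjective _ c
    have hfin : {Q : Place k K | ¬ Q.1 (a Q) ≤ 1}.Finite := Filter.eventually_cofinite.mp ha
    obtain ⟨S, hS⟩ : ∃ S : Finset (Place k K), S = hfin.toFinset.erase P := ⟨_, rfl⟩
    obtain ⟨Pf, hPf⟩ : ∃ Pf : Fin S.card → Place k K,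
        Pf = fun i => (S.equivFin.symm i : Place k K) := ⟨_, rfl⟩
    have hPinj : Function.Injective Pf := by
      intro i j h
      rw [hPf] at h
      exact S.equivFin.symm.injective (Subtype.ext h)
    have hrange : ∀ Q, Q ∈ Set.range Pf ↔ Q ∈ S := by
      intro Q
      constructor
      · rintro ⟨i, rfl⟩
        rw [hPf]
        exact (S.equivFin.symm i).2
      · intro hQ
        refine ⟨S.equivFin ⟨Q, hQ⟩, ?_⟩
        rw [hPf]
        show ((S.equivFin.symm (S.equivFin ⟨Q, hQ⟩) : ↥S) : Place k K) = Q
        rw [Equiv.symm_apply_apply]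
    have hinf : P ∉ Set.range Pf := by
      rw [hrange, hS]
      exact Finset.notMem_erase P _
    obtain ⟨y, hy1, hy2⟩ := strong_approximation hK P S.card Pf hPinj hinf
      (fun i => a (Pf i)) (fun _ => 0)
    refine ⟨a P - y, ?_⟩
    symm
    show (ADK (0 : Divisor k K)).mkQ ⟨a, ha⟩ = (ADK (0 : Divisor k K)).mkQ (single (a P - y))
    rw [← sub_eq_zero, ← map_sub, Submodule.mkQ_apply, Submodule.Quotient.mk_eq_zero]
    show (a - Pi.single P (a P - y) : Place k K → K) ∈
      AD (0 : Divisor k K) ⊔ LinearMap.range (diag k K)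
    refine Submodule.mem_sup.mpr ⟨a - Pi.single P (a P - y) - diag k K y, ?_, diag k K y,
      ⟨y, rfl⟩, sub_add_cancel _ _⟩
    intro Q
    rw [Finsupp.coe_zero, Pi.zero_apply, exp_zero]
    by_cases hQP : Q = P
    · rw [hQP]
      show P.1 (a P - (Pi.single P (a P - y) : Place k K → K) P - y) ≤ 1
      rw [Pi.single_eq_same]
      have : a P - (a P - y) - y = 0 := by ring
      rw [this, map_zero]
      exact zero_le
    · show Q.1 (a Q - (Pi.single P (a P - y) : Place k K → K) Q - y) ≤ 1
      rw [Pi.single_eq_of_ne hQP, sub_zero]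
      by_cases hQS : Q ∈ S
      · obtain ⟨i, rfl⟩ := (hrange Q).mpr hQS
        have h3 := hy1 i
        rw [← Valuation.map_neg, neg_sub, h3, neg_zero, exp_zero]
      · have haQ : Q.1 (a Q) ≤ 1 := by
          by_contra h
          apply hQS
          rw [hS]
          exact Finset.mem_erase.mpr ⟨hQP, hfin.mem_toFinset.mpr h⟩
        have hyQ : Q.1 y ≤ 1 := hy2 Q hQP (fun h => hQS ((hrange Q).mp h))
        exact (Valuation.map_sub _ _ _).trans (max_le haQ hyQ)
  let e : (K ⧸ W) ≃ₗ[k] (↥(adele k K) ⧸ ADK (0 : Divisor k K)) :=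
    (Submodule.quotEquivOfEq _ _ hker.symm).trans (ι.quotKerEquivOfSurjective hsurj)
  haveI := hfd
  exact ⟨Module.Finite.equiv e.symm, by rw [e.finrank_eq, hrank']⟩

end FunFld
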