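import Mathlib
import Groth.Agent.Lib.FunFldIM2_helper2

/-! Intersection multiplicities on plane curves (helper2), part 3: the local ring of affine
space at a point, modulo the ideal of a curve and a second equation, is the local ring of the
curve modulo the second equation. -/

open Module WithZero MvPolynomial

namespace FunFld

variable {k K : Type*} [Field k] [Field K] [Algebra k K]

section PointIdeal

variable {n : ℕ}

theorem sub_C_eval_mem_span (c : Fin n → k) (p : MvPolynomial (Fin n) k) :
    p - C (eval c p) ∈
      Ideal.span (Set.range fun i => (X i - C (c i) : MvPolynomial (Fin n) k)) := by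
  induction p using MvPolynomial.induction_on with
  | C a =>
    rw [eval_C, sub_self]
    exact Ideal.zero_mem _
  | add p q hp hq =>
    have e : p + q - C (eval c (p + q)) = (p - C (eval c p)) + (q - C (eval c q)) := by
      rw [map_add, C_add]
      ring
    rw [e]
    exact Ideal.add_mem _ hp hq
  | mul_X p i hp =>
    have e : p * X i - C (eval c (p * X i)) =
        (p - C (eval c p)) * X i + C (eval c p) * (X i - C (c i)) := by
      rw [map_mul, eval_X, C_mul]
      ring
    rw [e]
    exact Ideal.add_mem _ (Ideal.mul_mem_right _ _ hp)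
      (Ideal.mul_mem_left _ _ (Ideal.subset_span ⟨i, rfl⟩))

theorem mem_span_X_sub_C_iff (c : Fin n → k) (p : MvPolynomial (Fin n) k) :
    p ∈ Ideal.span (Set.range fun i => (X i - C (c i) : MvPolynomial (Fin n) k)) ↔
      eval c p = 0 := by
  constructor
  · intro hp
    have hle : Ideal.span (Set.range fun i => (X i - C (c i) : MvPolynomial (Fin n) k)) ≤
        RingHom.ker (eval c) := by
      rw [Ideal.span_le]
      rintro _ ⟨i, rfl⟩
      rw [SetLike.mem_coe, RingHom.mem_ker, map_sub, eval_X, eval_C, sub_self]
    exact hle hp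
  · intro h
    have h1 := sub_C_eval_mem_span c p
    rwa [h, C_0, sub_zero] at h1

end PointIdeal

section LocIso

variable {n : ℕ} {P : Place k K} {u : Fin n → K} {c : Fin n → k}

theorem isUnit_evR (hlt : ∀ i, P.1 (u i - algebraMap k K (c i)) < 1)
    {s : MvPolynomial (Fin n) k} (hs : eval c s ≠ 0) : IsUnit (evR P u s) := by
  have h1 : P.1 (aeval u s) = 1 :=
    val_eq_one_of_sub_lt P hs (val_aeval_sub_eval_lt_one hlt s)
  have h0 : aeval u s ≠ 0 := fun h0 => by
    rw [h0, map_zero] at h1
    exact zero_ne_one h1
  have hmem : aeval u s ∈ locSub (Algebra.adjoin k (Set.range u)) P := by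
    rw [← coe_evR P u s]
    exact (evR P u s).2
  have hinv := inv_mem_locSub hmem h1
  refine IsUnit.of_mul_eq_one (⟨(aeval u s)⁻¹, hinv⟩ : locSub (Algebra.adjoin k (Set.range u)) P)
    ?_
  apply Subtype.ext
  show ((evR P u s : locSub _ P) : K) * (aeval u s)⁻¹ = 1
  rw [coe_evR, mul_inv_cancel₀ h0]

/-- The local ring of affine space at a point of a curve, modulo the equation of the curve and
a second polynomial, as a quotient of the local ring of the curve. -/
theorem finrank_localization_quotient (hlt : ∀ i, P.1 (u i - algebraMap k K (c i)) < 1)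
    (f g : MvPolynomial (Fin n) k)
    (hfgen : ∀ G : MvPolynomial (Fin n) k, aeval u G = 0 ↔ f ∣ G)
    (M : Ideal (MvPolynomial (Fin n) k)) [M.IsMaximal] (hM : ∀ p, p ∈ M ↔ eval c p = 0) :
    Module.finrank k (Localization.AtPrime M ⧸
        Ideal.map (algebraMap (MvPolynomial (Fin n) k) (Localization.AtPrime M))
          (Ideal.span {f, g})) =
      Module.finrank k (relQ
        ((Subalgebra.toSubmodule (locSub (Algebra.adjoin k (Set.range u)) P)).map
          (LinearMap.mulLeft k (aeval u g)))
        (Subalgebra.toSubmodule (locSub (Algebra.adjoin k (Set.range u)) P))) := by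
  classical
  have hunits : ∀ s : M.primeCompl, IsUnit (evR P u (s : MvPolynomial (Fin n) k)) := by
    intro s
    apply isUnit_evR hlt
    intro h0
    exact (Ideal.mem_primeCompl_iff.mp s.2) ((hM _).mpr h0)
  let ev' : Localization.AtPrime M →ₐ[k] locSub (Algebra.adjoin k (Set.range u)) P :=
    IsLocalization.liftAlgHom (M := M.primeCompl) (f := evR P u) hunits
  have hev'alg : ∀ q : MvPolynomial (Fin n) k,
      ev' (algebraMap _ (Localization.AtPrime M) q) = evR P u q := by
    intro q
    exact IsLocalization.lift_eq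
      (g := (evR P u : MvPolynomial (Fin n) k →+* locSub (Algebra.adjoin k (Set.range u)) P))
      hunits q
  have hspec : ∀ (p : MvPolynomial (Fin n) k) (s : M.primeCompl),
      ((ev' (IsLocalization.mk' (Localization.AtPrime M) p s) :
        locSub (Algebra.adjoin k (Set.range u)) P) : K) *
        aeval u (s : MvPolynomial (Fin n) k) = aeval u p := by
    intro p s
    have h1 := congrArg ev' (IsLocalization.mk'_spec (Localization.AtPrime M) p s)
    rw [map_mul, hev'alg, hev'alg] at h1
    have h2 : ((ev' (IsLocalization.mk' (Localization.AtPrime M) p s) :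
        locSub (Algebra.adjoin k (Set.range u)) P) : K) *
        ((evR P u (s : MvPolynomial (Fin n) k) : locSub (Algebra.adjoin k (Set.range u)) P) : K)
        = ((evR P u p : locSub (Algebra.adjoin k (Set.range u)) P) : K) :=
      congrArg Subtype.val h1
    rw [coe_evR, coe_evR] at h2
    exact h2
  have hsurj : ∀ b ∈ locSub (Algebra.adjoin k (Set.range u)) P,
      ∃ a : Localization.AtPrime M,
        ((ev' a : locSub (Algebra.adjoin k (Set.range u)) P) : K) = b := by
    rintro b ⟨v', hv', w', hw', hw1, hbw⟩
    rw [Algebra.adjoin_range_eq_range_aeval] at hv' hw'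
    obtain ⟨v, hv⟩ := hv'
    obtain ⟨w, hw⟩ := hw'
    have hv2 : aeval u v = v' := hv
    have hw2 : aeval u w = w' := hw
    have hwc : eval c w ≠ 0 := eval_ne_zero_of_val_eq_one hlt (by rw [hw2]; exact hw1)
    have hwM : w ∈ M.primeCompl := by
      rw [Ideal.mem_primeCompl_iff]
      intro h
      exact hwc ((hM w).mp h)
    refine ⟨IsLocalization.mk' _ v ⟨w, hwM⟩, ?_⟩
    have h1 : ((ev' (IsLocalization.mk' (Localization.AtPrime M) v ⟨w, hwM⟩) :
        locSub (Algebra.adjoin k (Set.range u)) P) : K) * aeval u w = aeval u v :=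
      hspec v ⟨w, hwM⟩
    have hw0 : aeval u w ≠ 0 := by
      intro h0
      rw [hw2] at h0
      rw [h0, map_zero] at hw1
      exact zero_ne_one hw1
    have h2 : ((ev' (IsLocalization.mk' (Localization.AtPrime M) v ⟨w, hwM⟩) :
        locSub (Algebra.adjoin k (Set.range u)) P) : K) * aeval u w = b * aeval u w := by
      rw [h1, hv2, hw2, hbw]
    exact mul_right_cancel₀ hw0 h2
  obtain ⟨Bm, hBm⟩ : ∃ Bm : Submodule k K,
      Bm = Subalgebra.toSubmodule (locSub (Algebra.adjoin k (Set.range u)) P) := ⟨_, rfl⟩
  obtain ⟨zB, hzBdef⟩ : ∃ zB : Submodule k K,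
      zB = Bm.map (LinearMap.mulLeft k (aeval u g)) := ⟨_, rfl⟩
  rw [← hBm, ← hzBdef]
  have hmemBm : ∀ t : K, t ∈ Bm ↔ t ∈ locSub (Algebra.adjoin k (Set.range u)) P := by
    intro t
    rw [hBm]
    exact Iff.rfl
  have hzB : ∀ t : K, t ∈ zB ↔
      ∃ b ∈ locSub (Algebra.adjoin k (Set.range u)) P, aeval u g * b = t := by
    intro t
    rw [hzBdef, Submodule.mem_map]
    constructor
    · rintro ⟨b, hb, rfl⟩
      exact ⟨b, (hmemBm b).mp hb, rfl⟩
    · rintro ⟨b, hb, rfl⟩
      exact ⟨b, (hmemBm b).mpr hb, rfl⟩
  let evK : Localization.AtPrime M →ₗ[k] K :=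
    (locSub (Algebra.adjoin k (Set.range u)) P).val.toLinearMap.comp ev'.toLinearMap
  have hevK : ∀ a, evK a = ((ev' a : locSub (Algebra.adjoin k (Set.range u)) P) : K) :=
    fun a => rfl
  let evB : Localization.AtPrime M →ₗ[k] Bm :=
    LinearMap.codRestrict Bm evK (fun a => (hmemBm _).mpr (ev' a).2)
  let Φ : Localization.AtPrime M →ₗ[k] relQ zB Bm :=
    (Submodule.comap Bm.subtype zB).mkQ.comp evB
  have hΦsurj : Function.Surjective Φ := by
    intro q
    obtain ⟨⟨b, hb⟩, rfl⟩ := Submodule.mkQ_surjective _ q
    obtain ⟨a, ha⟩ := hsurj b ((hmemBm b).mp hb)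
    refine ⟨a, ?_⟩
    show (Submodule.comap Bm.subtype zB).mkQ (evB a) =
      (Submodule.comap Bm.subtype zB).mkQ ⟨b, hb⟩
    congr 1
    exact Subtype.ext ha
  have hf0 : aeval u f = 0 := (hfgen f).mpr dvd_rfl
  have hker : LinearMap.ker Φ =
      (Ideal.map (algebraMap (MvPolynomial (Fin n) k) (Localization.AtPrime M))
        (Ideal.span {f, g})).restrictScalars k := by
    ext a
    rw [LinearMap.mem_ker, Submodule.restrictScalars_mem]
    show (Submodule.comap Bm.subtype zB).mkQ (evB a) = 0 ↔ _
    rw [Submodule.mkQ_apply, Submodule.Quotient.mk_eq_zero, Submodule.mem_comap]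
    show ((ev' a : locSub (Algebra.adjoin k (Set.range u)) P) : K) ∈ zB ↔ _
    rw [hzB]
    constructor
    · rintro ⟨b, hb, hzb⟩
      obtain ⟨p, s, rfl⟩ := IsLocalization.exists_mk'_eq M.primeCompl a
      obtain ⟨v', hv', w', hw', hw1, hbw⟩ := hb
      rw [Algebra.adjoin_range_eq_range_aeval] at hv' hw'
      obtain ⟨v, hv⟩ := hv'
      obtain ⟨w, hw⟩ := hw'
      have hv2 : aeval u v = v' := hv
      have hw2 : aeval u w = w' := hw
      have hwc : eval c w ≠ 0 := eval_ne_zero_of_val_eq_one hlt (by rw [hw2]; exact hw1)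
      have hwM : w ∈ M.primeCompl := by
        rw [Ideal.mem_primeCompl_iff]
        intro h
        exact hwc ((hM w).mp h)
      have h1 := hspec p s
      have h2 : aeval u (p * w - g * v * (s : MvPolynomial (Fin n) k)) = 0 := by
        rw [map_sub, map_mul, map_mul, map_mul, ← h1, hv2, hw2, ← hbw, ← hzb]
        ring
      obtain ⟨q, hq⟩ := (hfgen _).mp h2
      have e : p * w = g * (v * (s : MvPolynomial (Fin n) k)) + f * q := by
        linear_combination hq
      have h3 : IsLocalization.mk' (Localization.AtPrime M) p s *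
          algebraMap _ (Localization.AtPrime M) ((s : MvPolynomial (Fin n) k) * w) =
          algebraMap _ (Localization.AtPrime M) g *
            algebraMap _ (Localization.AtPrime M) (v * (s : MvPolynomial (Fin n) k)) +
          algebraMap _ (Localization.AtPrime M) f * algebraMap _ (Localization.AtPrime M) q := by
        rw [map_mul, ← mul_assoc, IsLocalization.mk'_spec, ← map_mul, e]
        simp only [map_add, map_mul]
      have hI : algebraMap _ (Localization.AtPrime M) g *
            algebraMap _ (Localization.AtPrime M) (v * (s : MvPolynomial (Fin n) k)) +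
          algebraMap _ (Localization.AtPrime M) f * algebraMap _ (Localization.AtPrime M) q ∈
          Ideal.map (algebraMap (MvPolynomial (Fin n) k) (Localization.AtPrime M))
            (Ideal.span {f, g}) := by
        apply Ideal.add_mem
        · exact Ideal.mul_mem_right _ _
            (Ideal.mem_map_of_mem _ (Ideal.subset_span (by simp)))
        · exact Ideal.mul_mem_right _ _
            (Ideal.mem_map_of_mem _ (Ideal.subset_span (by simp)))
      rw [← h3] at hI
      have hunit : IsUnit (algebraMap _ (Localization.AtPrime M)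
          ((s : MvPolynomial (Fin n) k) * w)) :=
        IsLocalization.map_units _
          (⟨(s : MvPolynomial (Fin n) k) * w, M.primeCompl.mul_mem s.2 hwM⟩ : M.primeCompl)
      exact (Ideal.mul_unit_mem_iff_mem _ hunit).mp hI
    · intro ha
      rw [Ideal.map_span, Set.image_pair, Ideal.mem_span_pair] at ha
      obtain ⟨r, r', hrr⟩ := ha
      refine ⟨((ev' r' : locSub (Algebra.adjoin k (Set.range u)) P) : K), (ev' r').2, ?_⟩
      have h4 : ((ev' a : locSub (Algebra.adjoin k (Set.range u)) P) : K) =
          ((ev' r : locSub (Algebra.adjoin k (Set.range u)) P) : K) * aeval u f +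
            ((ev' r' : locSub (Algebra.adjoin k (Set.range u)) P) : K) * aeval u g := by
        rw [← hrr, map_add, map_mul, map_mul, hev'alg, hev'alg]
        show ((ev' r : locSub (Algebra.adjoin k (Set.range u)) P) : K) *
            ((evR P u f : locSub (Algebra.adjoin k (Set.range u)) P) : K) +
          ((ev' r' : locSub (Algebra.adjoin k (Set.range u)) P) : K) *
            ((evR P u g : locSub (Algebra.adjoin k (Set.range u)) P) : K) = _
        rw [coe_evR, coe_evR]
      rw [h4, hf0, mul_zero, zero_add, mul_comm]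
  have e1 : (Localization.AtPrime M ⧸ LinearMap.ker Φ) ≃ₗ[k] relQ zB Bm :=
    Φ.quotKerEquivOfSurjective hΦsurj
  have e2 := Submodule.quotEquivOfEq _ _ hker
  have e3 := Submodule.Quotient.restrictScalarsEquiv k
    (Ideal.map (algebraMap (MvPolynomial (Fin n) k) (Localization.AtPrime M))
      (Ideal.span {f, g}))
  exact (e3.symm.trans (e2.symm.trans e1)).finrank_eq

end LocIso

end FunFld
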