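import Mathlib
import Groth.Agent.Lib.FunFldIM3_helper2

/-! Intersection multiplicities on plane curves (helper2), part 4: the intersection
multiplicity at a finite point is the dimension of the local ring modulo the two equations. -/

open Module WithZero MvPolynomial

namespace FunFld

variable {k K : Type*} [Field k] [Field K] [Algebra k K] [IsAlgClosed k]

/-- S11077. -/
theorem intersectionMult_eq_finrank (hK : IsFunctionField k K) (x y : K)
    (hxy : IntermediateField.adjoin k ({x, y} : Set K) = ⊤) (f g : MvPolynomial (Fin 2) k)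
    (hf : Irreducible f) (hfxy : aeval ![x, y] f = 0)
    (hgxy : aeval ![x, y] g ≠ 0) (P : Place k K) (c : Fin 2 → k)
    (hc : ∀ i, P.1 (![x, y] i - algebraMap k K (c i)) < 1)
    (M : Ideal (MvPolynomial (Fin 2) k)) [M.IsMaximal]
    (hM : M = Ideal.span {X 0 - C (c 0), X 1 - C (c 1)}) :
    ∑ᶠ Q ∈ {Q : Place k K | SameImage ![(1 : K), x, y] P Q},
        Q.ord (aeval ![x, y] g) =
      (Module.finrank k (Localization.AtPrime M ⧸
        Ideal.map (algebraMap (MvPolynomial (Fin 2) k) (Localization.AtPrime M))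
          (Ideal.span {f, g})) : ℤ) := by
  classical
  have hSeq : {Q : Place k K | SameImage ![(1 : K), x, y] P Q} =
      {Q | ∀ i, Q.1 (![x, y] i - algebraMap k K (c i)) < 1} := by
    ext Q
    exact sameImage_plane_iff P Q x y c hc
  rw [hSeq]
  have hfin := finite_centered hK x y hxy c
  rw [finsum_mem_eq_finite_toFinset_sum _ hfin]
  obtain ⟨S, hS⟩ : ∃ S : Finset (Place k K), S = hfin.toFinset := ⟨_, rfl⟩
  rw [← hS]
  have hSmem : ∀ Q, Q ∈ S ↔ ∀ i, Q.1 (![x, y] i - algebraMap k K (c i)) < 1 := by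
    intro Q
    rw [hS, Set.Finite.mem_toFinset]
    rfl
  -- `f` generates the relations
  have hfgen : ∀ G : MvPolynomial (Fin 2) k, aeval ![x, y] G = 0 ↔ f ∣ G := by
    obtain ⟨h, hirr, hh⟩ := exists_affine_generator hK x y hxy
    obtain ⟨q, hq⟩ := (hh f).mp hfxy
    have hqu : IsUnit q := (hf.isUnit_or_isUnit hq).resolve_left hirr.not_isUnit
    intro G
    rw [hh, hq]
    exact (hqu.mul_right_dvd).symm
  have hMiff : ∀ p, p ∈ M ↔ eval c p = 0 := by
    intro p
    rw [hM, ← mem_span_X_sub_C_iff c p]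
    have e : Set.range (fun i : Fin 2 => (X i - C (c i) : MvPolynomial (Fin 2) k)) =
        {X 0 - C (c 0), X 1 - C (c 1)} := by
      ext q
      constructor
      · rintro ⟨i, rfl⟩
        fin_cases i
        · left; rfl
        · right; rfl
      · rintro (rfl | hq)
        · exact ⟨0, rfl⟩
        · rw [Set.mem_singleton_iff] at hq
          rw [hq]
          exact ⟨1, rfl⟩
    rw [e]
  rw [finrank_localization_quotient hc f g hfgen M hMiff]
  obtain ⟨z, hz⟩ : ∃ z : K, z = aeval ![x, y] g := ⟨_, rfl⟩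
  have hz0 : z ≠ 0 := hz ▸ hgxy
  rw [← hz]
  obtain ⟨B, hB⟩ : ∃ B : Submodule k K,
      B = Subalgebra.toSubmodule (locSub (Algebra.adjoin k (Set.range ![x, y])) P) := ⟨_, rfl⟩
  rw [← hB]
  have hmemB : ∀ t : K, t ∈ B ↔ t ∈ locSub (Algebra.adjoin k (Set.range ![x, y])) P := by
    intro t
    rw [hB]
    exact Iff.rfl
  have hzB : z ∈ B := by
    rw [hmemB, hz]
    apply le_locSub
    rw [Algebra.adjoin_range_eq_range_aeval]
    exact ⟨g, rfl⟩
  -- the divisor of `z` over the point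
  obtain ⟨Ez, hEz⟩ : ∃ Ez : Divisor k K, Ez = ordDivOn S z := ⟨_, rfl⟩
  have hEzQ : ∀ Q ∈ S, Ez Q = Q.ord z := by
    intro Q hQ
    rw [hEz, ordDivOn_apply, if_pos hQ]
  have hEz0 : 0 ≤ Ez := by
    intro Q
    rw [hEz, ordDivOn_apply]
    split_ifs with hQ
    · rw [Finsupp.zero_apply, Q.ord_nonneg_iff hz0]
      exact (val_of_mem_locSub_centered hc ((hSmem Q).mp hQ) ((hmemB z).mp hzB)).1
    · exact le_rfl
  have hEzsupp : ∀ Q, Ez Q ≠ 0 → Q ∈ S := by
    intro Q hQ
    by_contra hQS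
    apply hQ
    rw [hEz, ordDivOn_apply, if_neg hQS]
  -- the conductor
  obtain ⟨N, hN⟩ := exists_conductor_plane hK x y hxy P c hc
  obtain ⟨DN, hDN⟩ : ∃ DN : Divisor k K, DN = ∑ Q ∈ S, Finsupp.single Q (N : ℤ) := ⟨_, rfl⟩
  have hDNQ : ∀ Q, DN Q = if Q ∈ S then (N : ℤ) else 0 := by
    intro Q
    rw [hDN, Finsupp.finsetSum_apply]
    simp only [Finsupp.single_apply]
    rw [Finset.sum_ite_eq' S Q]
  have hDN0 : 0 ≤ DN := by
    intro Q
    rw [hDNQ]
    split_ifs
    · exact Int.natCast_nonneg N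
    · exact le_rfl
  have hDNsupp : ∀ Q, DN Q ≠ 0 → Q ∈ S := by
    intro Q hQ
    by_contra hQS
    apply hQ
    rw [hDNQ, if_neg hQS]
  have hB_le : B ≤ LS S 0 := by
    intro b hb Q hQ
    rw [Finsupp.zero_apply, exp_zero]
    exact (val_of_mem_locSub_centered hc ((hSmem Q).mp hQ) ((hmemB b).mp hb)).1
  have hC_le : LS S (-DN) ≤ B := by
    intro b hb
    rw [hmemB]
    apply hN
    intro Q hQ
    have h1 := hb Q ((hSmem Q).mpr hQ)
    rwa [Finsupp.neg_apply, hDNQ, if_pos ((hSmem Q).mpr hQ)] at h1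
  have hmz : Function.Injective (LinearMap.mulLeft k z) := by
    intro a b hab
    exact mul_left_cancel₀ hz0 hab
  have hzRt : (LS S 0).map (LinearMap.mulLeft k z) = LS S (0 - Ez) :=
    LS_map_mul S 0 hz0 Ez hEzQ
  have hzC : (LS S (-DN)).map (LinearMap.mulLeft k z) = LS S (-DN - Ez) :=
    LS_map_mul S (-DN) hz0 Ez hEzQ
  have hzBB : B.map (LinearMap.mulLeft k z) ≤ B := by
    rintro _ ⟨b, hb, rfl⟩
    have hb' : b ∈ B := hb
    show z * b ∈ B
    rw [hmemB] at hb' ⊢
    exact mul_mem ((hmemB z).mp hzB) hb'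
  -- chains
  obtain ⟨c1, c2, c3⟩ := relQ_LS hK S (0 - Ez) Ez hEz0 hEzsupp
  have e1 : (0 : Divisor k K) - Ez + Ez = 0 := by abel
  rw [e1] at c1 c2 c3
  obtain ⟨d1, d2, -⟩ := relQ_LS hK S (-DN - Ez) (DN + Ez) (add_nonneg hDN0 hEz0)
    (fun Q hQ => by
      by_contra hQS
      apply hQ
      rw [Finsupp.add_apply]
      have h1 : DN Q = 0 := by
        by_contra h
        exact hQS (hDNsupp Q h)
      have h2 : Ez Q = 0 := by
        by_contra h
        exact hQS (hEzsupp Q h)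
      rw [h1, h2, add_zero])
  have e2 : -DN - Ez + (DN + Ez) = 0 := by abel
  rw [e2] at d1 d2
  haveI := d2
  have hkey := finrank_relQ_mul_eq (LinearMap.mulLeft k z) hmz (LS S (-DN)) B (LS S 0)
    (LS S (-DN - Ez)) (LS S (0 - Ez)) hzC hzRt hC_le hB_le hzBB c1
  rw [hkey, c3, hEz, deg_ordDivOn hK S z]

end FunFld
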