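import Mathlib
import Groth.Agent.Lib.FunFldQuad_helper2
import Groth.Agent.Lib.FunFldConstExt_helper2

/-! Places above a place in a constant field extension with a purely inseparable part
(helper2): uniqueness of the place above. -/

open Polynomial IntermediateField WithZero Module TensorProduct

namespace FunFld

universe u u' v v'

section Key

variable {k : Type*} {K : Type*} {K' : Type*} [Field k] [Field K] [Field K']
    [Algebra k K] [Algebra K K'] [Algebra k K'] [IsScalarTower k K K']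
    {Q : Place k K'} {P : Place k K} {e : ℕ}

/-- If the residue of `α` at `Q` satisfies no polynomial relation of degree `< n` over the residue
field of `P`, then integrality of `∑_{i<n} c_i α^i` at `Q` forces integrality of all `c_i` at `P`. -/
theorem IsOverWith.coeff_le_one (h : IsOverWith Q P e) {α : K'} (hα : Q.1 α ≤ 1) (n : ℕ)
    (hlin : ∀ p : (IsLocalRing.ResidueField P.O)[X], p ≠ 0 → p.degree < n →
      p.eval₂ h.resMap.toRingHom (IsLocalRing.residue Q.O ⟨α, hα⟩) ≠ 0)
    (c : ℕ → K) (hw : Q.1 (∑ i ∈ Finset.range n, algebraMap K K' (c i) * α ^ i) ≤ 1) :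
    ∀ i < n, P.1 (c i) ≤ 1 := by
  classical
  by_contra hne
  push Not at hne
  obtain ⟨i₀, hi₀n, hi₀⟩ := hne
  obtain ⟨j, hj, hjmax⟩ := Finset.exists_max_image (Finset.range n) (fun i => P.1 (c i))
    ⟨i₀, Finset.mem_range.mpr hi₀n⟩
  have hcj : 1 < P.1 (c j) := lt_of_lt_of_le hi₀ (hjmax i₀ (Finset.mem_range.mpr hi₀n))
  have hcjpos : 0 < P.1 (c j) := lt_trans zero_lt_one hcj
  have hcj0 : c j ≠ 0 := by
    intro h0
    rw [h0, map_zero] at hcjpos
    exact lt_irrefl _ hcjpos
  have hy : ∀ i ∈ Finset.range n, P.1 (c i / c j) ≤ 1 := by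
    intro i hi
    rw [map_div₀]
    exact (div_le_one₀ hcjpos).mpr (hjmax i hi)
  let y : ℕ → P.O := fun i => if hi : i ∈ Finset.range n then ⟨c i / c j, hy i hi⟩ else 0
  have hyi : ∀ i ∈ Finset.range n, ((y i : P.O) : K) = c i / c j := by
    intro i hi
    simp only [y, dif_pos hi]
  have hyj : y j = 1 := by
    apply Subtype.ext
    rw [hyi j hj, div_self hcj0]
    rfl
  let p : (IsLocalRing.ResidueField P.O)[X] :=
    ∑ i ∈ Finset.range n, Polynomial.monomial i (IsLocalRing.residue P.O (y i))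
  have hpcoeff : ∀ m, p.coeff m = if m ∈ Finset.range n then IsLocalRing.residue P.O (y m) else 0 := by
    intro m
    simp only [p, Polynomial.finsetSum_coeff, Polynomial.coeff_monomial]
    rw [Finset.sum_ite_eq']
  have hp0 : p ≠ 0 := by
    intro h0
    have := hpcoeff j
    rw [h0, Polynomial.coeff_zero, if_pos hj, hyj, map_one] at this
    exact zero_ne_one this
  have hpdeg : p.degree < n := by
    rw [Polynomial.degree_lt_iff_coeff_zero]
    intro m hm
    rw [hpcoeff, if_neg]
    rw [Finset.mem_range]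
    omega
  refine hlin p hp0 hpdeg ?_
  -- evaluate
  have hev : p.eval₂ h.resMap.toRingHom (IsLocalRing.residue Q.O ⟨α, hα⟩) =
      IsLocalRing.residue Q.O (∑ i ∈ Finset.range n, h.mapO (y i) * (⟨α, hα⟩ : Q.O) ^ i) := by
    simp only [p, Polynomial.eval₂_finsetSum, Polynomial.eval₂_monomial, map_sum, map_mul, map_pow]
    rfl
  rw [hev, Q.residue_eq_zero_iff]
  have hcoe : ((∑ i ∈ Finset.range n, h.mapO (y i) * (⟨α, hα⟩ : Q.O) ^ i : Q.O) : K') =
      (algebraMap K K' (c j))⁻¹ * ∑ i ∈ Finset.range n, algebraMap K K' (c i) * α ^ i := by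
    have h1 : ∀ s : Q.O, (s : K') = Q.O.subtype s := fun _ => rfl
    rw [h1, map_sum, Finset.mul_sum]
    refine Finset.sum_congr rfl (fun i hi => ?_)
    rw [map_mul, map_pow]
    show algebraMap K K' ((y i : P.O) : K) * α ^ i = _
    rw [hyi i hi, map_div₀, div_eq_inv_mul, mul_assoc]
  rw [hcoe, map_mul, map_inv₀, h (c j)]
  have hpow : 1 < P.1 (c j) ^ e := one_lt_pow₀ hcj h.pos.ne'
  rw [inv_mul_lt_iff₀ (lt_trans zero_lt_one hpow), mul_one]
  exact lt_of_le_of_lt hw hpow

end Key

section Const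

variable {k : Type u} {k' : Type u'} {K : Type v} {K' : Type v'} [Field k] [Field k'] [Field K]
    [Field K'] [Algebra k k'] [Algebra k K] [Algebra K K'] [Algebra k' K'] [Algebra k K']
    [IsScalarTower k k' K'] [IsScalarTower k K K']

theorem Place.val_algebraMap_const_le_one [Algebra.IsAlgebraic k k'] (Q : Place k K') (a : k') :
    Q.1 (algebraMap k' K' a) ≤ 1 := by
  have h1 : IsIntegral k (algebraMap k' K' a) :=
    (Algebra.IsIntegral.isIntegral (R := k) a).map (IsScalarTower.toAlgHom k k' K')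
  exact val_le_one_of_isIntegral (R := k) Q.1 Q.2.1 h1

/-- A uniform Frobenius power sends all of `K'` into the `K`-span of the powers of `α`. -/
theorem exists_pow_eq_sum (h : Function.Bijective (Algebra.TensorProduct.productMap
      (IsScalarTower.toAlgHom k k' K') (IsScalarTower.toAlgHom k K K')))
    [FiniteDimensional k k'] (q : ℕ) [ExpChar k q] (S : Subalgebra k k') (a : k') (n : ℕ)
    (hS : ∀ s ∈ S, ∃ d : ℕ → k, s = ∑ i ∈ Finset.range n, d i • a ^ i)
    (hpi : ∀ c : k', ∃ m : ℕ, c ^ q ^ m ∈ S) :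
    ∃ m : ℕ, ∀ z : K', ∃ c : ℕ → K,
      z ^ q ^ m = ∑ i ∈ Finset.range n, algebraMap K K' (c i) * (algebraMap k' K' a) ^ i := by
  classical
  haveI : ExpChar K' q := expChar_of_injective_algebraMap (algebraMap k K').injective q
  haveI : ExpChar K q := expChar_of_injective_algebraMap (algebraMap k K).injective q
  let β := Module.finBasis k k'
  let B := constBasis h β
  choose mj hmj using fun j => hpi (β j)
  let m := ∑ j, mj j
  have hm : ∀ j, (β j) ^ q ^ m ∈ S := by
    intro j
    have hle : mj j ≤ m := Finset.single_le_sum (f := mj) (fun _ _ => Nat.zero_le _)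
      (Finset.mem_univ j)
    have : (β j) ^ q ^ m = ((β j) ^ q ^ mj j) ^ q ^ (m - mj j) := by
      rw [← pow_mul, ← pow_add, Nat.add_sub_cancel' hle]
    rw [this]
    exact Subalgebra.pow_mem S (hmj j) _
  choose d hd using fun j => hS _ (hm j)
  refine ⟨m, fun z => ?_⟩
  refine ⟨fun i => ∑ j, (B.repr z j) ^ q ^ m * algebraMap k K (d j i), ?_⟩
  have hz : z = ∑ j, B.repr z j • B j := (B.sum_repr z).symm
  have hz' := congrArg (iterateFrobenius K' q m) hz
  rw [iterateFrobenius_def, map_sum] at hz'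
  rw [hz']
  have hterm : ∀ j, iterateFrobenius K' q m (B.repr z j • B j) =
      ∑ i ∈ Finset.range n, algebraMap K K' ((B.repr z j) ^ q ^ m * algebraMap k K (d j i)) *
        (algebraMap k' K' a) ^ i := by
    intro j
    rw [iterateFrobenius_def, Algebra.smul_def, mul_pow, constBasis_apply,
      ← map_pow (algebraMap K K'), ← map_pow (algebraMap k' K'), hd j, map_sum, Finset.mul_sum]
    refine Finset.sum_congr rfl (fun i _ => ?_)
    rw [Algebra.smul_def, map_mul, map_mul, map_pow, ← IsScalarTower.algebraMap_apply k k' K',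
      ← IsScalarTower.algebraMap_apply k K K', mul_assoc, map_pow]
  rw [Finset.sum_congr rfl (fun j _ => hterm j), Finset.sum_comm]
  refine Finset.sum_congr rfl (fun i _ => ?_)
  rw [map_sum, Finset.sum_mul]

/-- Abstract uniqueness criterion for the place above `P` in a constant field extension. -/
theorem unique_isOver_of_lin (h : Function.Bijective (Algebra.TensorProduct.productMap
      (IsScalarTower.toAlgHom k k' K') (IsScalarTower.toAlgHom k K K')))
    [FiniteDimensional k k'] (P : Place k K) (q : ℕ) [ExpChar k q]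
    (S : Subalgebra k k') (a : k') (n : ℕ)
    (hS : ∀ s ∈ S, ∃ d : ℕ → k, s = ∑ i ∈ Finset.range n, d i • a ^ i)
    (hpi : ∀ c : k', ∃ m : ℕ, c ^ q ^ m ∈ S)
    (hc : ∀ (Q : Place k K') (e : ℕ) (hQ : IsOverWith Q P e) (hα : Q.1 (algebraMap k' K' a) ≤ 1)
      (p : (IsLocalRing.ResidueField P.O)[X]), p ≠ 0 → p.degree < n →
      p.eval₂ hQ.resMap.toRingHom (IsLocalRing.residue Q.O ⟨algebraMap k' K' a, hα⟩) ≠ 0)
    (Q₁ Q₂ : Place k K') (h₁ : IsOver Q₁ P) (h₂ : IsOver Q₂ P) : Q₁ = Q₂ := by
  classical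
  obtain ⟨m, hm⟩ := exists_pow_eq_sum (K := K) (K' := K') h q S a n hS hpi
  have hq : q ^ m ≠ 0 := pow_ne_zero _ (expChar_pos k q).ne'
  have main : ∀ (Q Q' : Place k K'), IsOver Q P → IsOver Q' P → ∀ z : K', Q.1 z ≤ 1 → Q'.1 z ≤ 1 := by
    intro Q Q' ⟨e, hQ⟩ ⟨e', hQ'⟩ z hz
    obtain ⟨c, hc'⟩ := hm z
    have hα : Q.1 (algebraMap k' K' a) ≤ 1 := Q.val_algebraMap_const_le_one a
    have hα' : Q'.1 (algebraMap k' K' a) ≤ 1 := Q'.val_algebraMap_const_le_one a
    have hzq : Q.1 (z ^ q ^ m) ≤ 1 := by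
      rw [map_pow]
      exact pow_le_one₀ zero_le hz
    rw [hc'] at hzq
    have hci := hQ.coeff_le_one hα n (hc Q e hQ hα) c hzq
    have hzq' : Q'.1 (z ^ q ^ m) ≤ 1 := by
      rw [hc']
      refine Valuation.map_sum_le _ (fun i hi => ?_)
      rw [map_mul, map_pow, hQ' (c i)]
      exact mul_le_one' (pow_le_one₀ zero_le (hci i (Finset.mem_range.mp hi)))
        (pow_le_one₀ zero_le hα')
    rw [map_pow] at hzq'
    exact (pow_le_one_iff_of_nonneg zero_le hq).mp hzq'
  refine Place.eq_of_maximalIdeal_le (fun x hx => ?_)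
  by_cases hx0 : x = 0
  · rw [hx0, map_zero]
    exact zero_lt_one
  by_contra hnot
  have h1 : 1 ≤ Q₂.1 x := not_lt.mp hnot
  have hx2 : Q₂.1 x ≠ 0 := (Valuation.ne_zero_iff _).mpr hx0
  have h2 : Q₂.1 x⁻¹ ≤ 1 := by
    rw [map_inv₀]
    exact inv_le_one_of_one_le₀ h1
  have h3 := main Q₂ Q₁ h₂ h₁ x⁻¹ h2
  have h4 : Q₁.1 x * Q₁.1 x⁻¹ = 1 := by
    rw [← map_mul, mul_inv_cancel₀ hx0, map_one]
  have h5 : Q₁.1 x * Q₁.1 x⁻¹ < 1 := by
    calc Q₁.1 x * Q₁.1 x⁻¹ ≤ Q₁.1 x * 1 := mul_le_mul' le_rfl h3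
      _ = Q₁.1 x := mul_one _
      _ < 1 := hx
  rw [h4] at h5
  exact lt_irrefl _ h5

/-- The independence hypothesis when the residue field of `P` is purely inseparable over `k`
and `a` is separable over `k`. -/
theorem IsOverWith.eval₂_residue_ne_zero [Algebra.IsAlgebraic k k'] {Q : Place k K'}
    {P : Place k K} {e : ℕ} (hQ : IsOverWith Q P e)
    [IsPurelyInseparable k (IsLocalRing.ResidueField P.O)] (a : k') (hsep : IsSeparable k a)
    (hα : Q.1 (algebraMap k' K' a) ≤ 1) (p : (IsLocalRing.ResidueField P.O)[X]) (hp0 : p ≠ 0)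
    (hdeg : p.degree < (minpoly k a).natDegree) :
    p.eval₂ hQ.resMap.toRingHom (IsLocalRing.residue Q.O ⟨algebraMap k' K' a, hα⟩) ≠ 0 := by
  classical
  letI : Algebra (IsLocalRing.ResidueField P.O) (IsLocalRing.ResidueField Q.O) :=
    hQ.resMap.toRingHom.toAlgebra
  haveI : IsScalarTower k (IsLocalRing.ResidueField P.O) (IsLocalRing.ResidueField Q.O) :=
    IsScalarTower.of_algebraMap_eq (fun c => (hQ.resMap.commutes c).symm)
  have haint : IsIntegral k a := hsep.isIntegral
  set α : K' := algebraMap k' K' a with hαdef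
  set αbar := IsLocalRing.residue Q.O ⟨α, hα⟩ with hαbar
  have h1 : (minpoly k a).eval₂ (algebraMap k K') α = 0 := by
    rw [← aeval_def, hαdef, aeval_algebraMap_apply, minpoly.aeval, map_zero]
  have h2 : (minpoly k a).eval₂ (algebraMap k Q.O) ⟨α, hα⟩ = 0 := by
    apply Subtype.ext
    have := Polynomial.hom_eval₂ (minpoly k a) (algebraMap k Q.O) Q.O.subtype ⟨α, hα⟩
    exact this.trans h1
  have h3 : (minpoly k a).eval₂ (algebraMap k (IsLocalRing.ResidueField Q.O)) αbar = 0 := by
    have := Polynomial.hom_eval₂ (minpoly k a) (algebraMap k Q.O) (IsLocalRing.residue Q.O) ⟨α, hα⟩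
    rw [h2, map_zero] at this
    exact this.symm
  have hmin : minpoly k αbar = minpoly k a :=
    (minpoly.eq_of_irreducible_of_monic (minpoly.irreducible haint)
      (by rw [aeval_def]; exact h3) (minpoly.monic haint)).symm
  have hsepbar : IsSeparable k αbar := by
    show (minpoly k αbar).Separable
    rw [hmin]
    exact hsep
  have hmap := minpoly.map_eq_of_isSeparable_of_isPurelyInseparable
    (IsLocalRing.ResidueField P.O) αbar hsepbar
  intro hev
  have hle := minpoly.degree_le_of_ne_zero (IsLocalRing.ResidueField P.O) αbar hp0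
    (by rw [aeval_def]; exact hev)
  rw [← hmap, degree_map, hmin, degree_eq_natDegree (minpoly.ne_zero haint)] at hle
  exact lt_irrefl _ (lt_of_le_of_lt hle hdeg)

end Const

end FunFld
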