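import Mathlib
import Groth.Agent.Lib.FunFldGeomC_helper2

/-! `k[x, y] = ⋂ O_P[y]` over the places `P` of `k(x)` with `x` integral (helper2). -/

open Polynomial IntermediateField WithZero

namespace FunFld

section General

/-- Reduction modulo the (integral) minimal polynomial inside `O[y]`. -/
theorem closure_subset_aeval_lt {F₀ K : Type*} [Field F₀] [Field K] [Algebra F₀ K]
    (O : Subring F₀) (y : K) (hint : IsIntegral F₀ y) (hm : ∀ i, (minpoly F₀ y).coeff i ∈ O)
    {z : K} (hz : z ∈ Subring.closure ((algebraMap F₀ K '' (O : Set F₀)) ∪ {y})) :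
    ∃ w : F₀[X], w.degree < (minpoly F₀ y).degree ∧ (∀ i, w.coeff i ∈ O) ∧ aeval y w = z := by
  classical
  obtain ⟨f, hf⟩ : ∃ f : O →+* K, f = (algebraMap F₀ K).comp O.subtype := ⟨_, rfl⟩
  have hle : Subring.closure ((algebraMap F₀ K '' (O : Set F₀)) ∪ {y}) ≤
      (eval₂RingHom f y).range := by
    rw [Subring.closure_le]
    rintro v (⟨o, ho, rfl⟩ | hv)
    · refine ⟨C ⟨o, ho⟩, ?_⟩
      rw [coe_eval₂RingHom, eval₂_C, hf]
      rfl
    · rw [Set.mem_singleton_iff] at hv
      subst hv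
      exact ⟨X, by rw [coe_eval₂RingHom, eval₂_X]⟩
  obtain ⟨q, rfl⟩ := hle hz
  have hlift : minpoly F₀ y ∈ lifts O.subtype := by
    rw [lifts_iff_coeff_lifts]
    intro i
    exact ⟨⟨_, hm i⟩, rfl⟩
  obtain ⟨mO, hmO, hdeg, hmon⟩ := lifts_and_degree_eq_and_monic hlift (minpoly.monic hint)
  have hcomp : ∀ p : O[X], eval₂ f y p = aeval y (p.map O.subtype) := by
    intro p
    rw [aeval_def, eval₂_map, hf]
  have hroot : eval₂ f y mO = 0 := by
    rw [hcomp, hmO]
    exact minpoly.aeval F₀ y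
  refine ⟨(q %ₘ mO).map O.subtype, ?_, ?_, ?_⟩
  · rw [degree_map_eq_of_injective Subtype.val_injective, ← hdeg]
    exact degree_modByMonic_lt q hmon
  · intro i
    rw [coeff_map]
    exact (coeff (q %ₘ mO) i).2
  · rw [← hcomp, coe_eval₂RingHom]
    conv_rhs => rw [← modByMonic_add_div q mO]
    rw [eval₂_add, eval₂_mul, hroot, zero_mul, add_zero]

end General

section Main

universe u v

variable {k : Type u} {K : Type v} [Field k] [Field K] [Algebra k K]

theorem mem_adjoin_of_forall_place_le_one [IsAlgClosed k] (hK : IsFunctionField k K) (x : K)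
    (hx : Transcendental k x) (u : k⟮x⟯)
    (hu : ∀ P : Place k k⟮x⟯, P.1 (AdjoinSimple.gen k x) ≤ 1 → P.1 u ≤ 1) :
    (u : K) ∈ Algebra.adjoin k ({x} : Set K) := by
  classical
  have hF₀ : IsFunctionField k k⟮x⟯ :=
    isFunctionField_intermediateField hK k⟮x⟯ ⟨x, mem_adjoin_simple_self k x, hx⟩
  obtain ⟨g, hg⟩ : ∃ g : k⟮x⟯, g = AdjoinSimple.gen k x := ⟨_, rfl⟩
  rw [← hg] at hu
  have hgK : ∀ q : k[X], ((aeval g q : k⟮x⟯) : K) = aeval x q := by
    intro q
    rw [hg]
    exact AdjoinSimple.coe_aeval_gen_apply k x q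
  have hgtr : Transcendental k g := by
    intro h
    apply hx
    have h1 := h.algebraMap (A := K)
    rw [hg, AdjoinSimple.algebraMap_gen] at h1
    exact h1
  obtain ⟨r, s, hrs⟩ := (mem_adjoin_simple_iff k (u : K)).mp u.2
  by_cases hs0 : s = 0
  · rw [hrs, hs0, map_zero, div_zero]
    exact zero_mem _
  have hxs : ∀ q : k[X], q ≠ 0 → aeval x q ≠ 0 := fun q hq h0 =>
    hq ((transcendental_iff.mp hx) q h0)
  -- coprime representation
  obtain ⟨r', s', hs'0, hcop, hrs'⟩ : ∃ r' s' : k[X], s' ≠ 0 ∧ IsCoprime r' s' ∧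
      (u : K) * aeval x s' = aeval x r' := by
    obtain ⟨d, hd⟩ : ∃ d, d = EuclideanDomain.gcd r s := ⟨_, rfl⟩
    have hd0 : d ≠ 0 := by
      rw [hd]
      intro h0
      exact hs0 ((EuclideanDomain.gcd_eq_zero_iff.mp h0).2)
    obtain ⟨r', hr'⟩ : d ∣ r := hd ▸ EuclideanDomain.gcd_dvd_left r s
    obtain ⟨s', hs'⟩ : d ∣ s := hd ▸ EuclideanDomain.gcd_dvd_right r s
    obtain ⟨A, hA⟩ : ∃ A, A = EuclideanDomain.gcdA r s := ⟨_, rfl⟩
    obtain ⟨B, hB⟩ : ∃ B, B = EuclideanDomain.gcdB r s := ⟨_, rfl⟩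
    have hbez : d = r * A + s * B := by
      rw [hd, hA, hB]
      exact EuclideanDomain.gcd_eq_gcd_ab r s
    refine ⟨r', s', ?_, ?_, ?_⟩
    · rintro rfl
      rw [mul_zero] at hs'
      exact hs0 hs'
    · refine ⟨A, B, ?_⟩
      apply mul_left_cancel₀ hd0
      have hbez' : d = d * r' * A + d * s' * B := by
        conv_lhs => rw [hbez]
        rw [← hr', ← hs']
      rw [mul_one]
      conv_rhs => rw [hbez']
      ring
    · have h1 : (u : K) * aeval x s = aeval x r := by
        rw [hrs, div_mul_cancel₀ _ (hxs s hs0)]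
      rw [hr', hs', map_mul, map_mul] at h1
      apply mul_left_cancel₀ (hxs d hd0)
      rw [← h1]; ring
  by_cases hdeg : s'.degree = 0
  · -- `s'` constant
    obtain ⟨c, hc⟩ : ∃ c : k, s' = C c := ⟨s'.coeff 0, eq_C_of_degree_eq_zero hdeg⟩
    have hc0 : c ≠ 0 := by
      rintro rfl
      rw [map_zero] at hc
      exact hs'0 hc
    have h2 : (u : K) = aeval x (C c⁻¹ * r') := by
      rw [map_mul, ← hrs', hc, aeval_C, aeval_C, ← mul_assoc, mul_comm _ (u : K), mul_assoc,
        ← map_mul, inv_mul_cancel₀ hc0, map_one, mul_one]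
    rw [h2]
    exact aeval_mem_adjoin_singleton k x
  · exfalso
    obtain ⟨c, hc⟩ := IsAlgClosed.exists_root s' hdeg
    have hrc : r'.eval c ≠ 0 := by
      obtain ⟨a, b, hab⟩ := hcop
      have h1 := congrArg (Polynomial.eval c) hab
      rw [eval_add, eval_mul, eval_mul, eval_one, hc, mul_zero, add_zero] at h1
      exact right_ne_zero_of_mul_eq_one h1
    have htr' : Transcendental k (g - algebraMap k k⟮x⟯ c) := by
      intro h
      apply hgtr
      have h1 := h.add (isAlgebraic_algebraMap (R := k) (A := k⟮x⟯) c)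
      rwa [sub_add_cancel] at h1
    obtain ⟨P, hP⟩ := exists_place_val_lt_one hF₀ htr'
    have hPg : P.1 g ≤ 1 := by
      have e : g = (g - algebraMap k k⟮x⟯ c) + algebraMap k k⟮x⟯ c := by ring
      rw [e]
      exact le_trans (Valuation.map_add _ _ _) (max_le hP.le (P.2.1 c))
    obtain ⟨s'', rfl⟩ := dvd_iff_isRoot.mpr hc
    have hs1 : P.1 (aeval g ((X - C c) * s'')) < 1 := by
      rw [map_mul, map_sub, aeval_X, aeval_C, map_mul]
      calc P.1 (g - algebraMap k k⟮x⟯ c) * P.1 (aeval g s'')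
          ≤ P.1 (g - algebraMap k k⟮x⟯ c) * 1 :=
            mul_le_mul' le_rfl (val_aeval_le_one P.1 P.2.1 hPg s'')
        _ = P.1 (g - algebraMap k k⟮x⟯ c) := mul_one _
        _ < 1 := hP
    have hr1 : P.1 (aeval g r') = 1 := by
      have e := modByMonic_add_div r' (X - C c)
      rw [modByMonic_X_sub_C_eq_C_eval] at e
      rw [← e, map_add, aeval_C, map_mul, map_sub, aeval_X, aeval_C,
        Valuation.map_add_eq_of_lt_left]
      · exact Place.val_algebraMap P hrc
      · rw [Place.val_algebraMap P hrc, map_mul]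
        calc P.1 (g - algebraMap k k⟮x⟯ c) * P.1 (aeval g (r' /ₘ (X - C c)))
            ≤ P.1 (g - algebraMap k k⟮x⟯ c) * 1 :=
              mul_le_mul' le_rfl (val_aeval_le_one P.1 P.2.1 hPg _)
          _ = P.1 (g - algebraMap k k⟮x⟯ c) := mul_one _
          _ < 1 := hP
    have hF : u * aeval g ((X - C c) * s'') = aeval g r' := by
      apply Subtype.ext
      show (u : K) * ((aeval g ((X - C c) * s'') : k⟮x⟯) : K) = ((aeval g r' : k⟮x⟯) : K)
      rw [hgK, hgK]
      exact hrs'
    have h3 := congrArg P.1 hF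
    rw [map_mul, hr1] at h3
    have h4 : P.1 u * P.1 (aeval g ((X - C c) * s'')) < 1 :=
      calc P.1 u * P.1 (aeval g ((X - C c) * s''))
          ≤ 1 * P.1 (aeval g ((X - C c) * s'')) := mul_le_mul' (hu P hPg) le_rfl
        _ = P.1 (aeval g ((X - C c) * s'')) := one_mul _
        _ < 1 := hs1
    rw [h3] at h4
    exact lt_irrefl _ h4

open IntermediateField.algebraAdjoinAdjoin in
theorem adjoin_pair_eq_iInter [IsAlgClosed k] (hK : IsFunctionField k K) (x y : K)
    (hx : Transcendental k x)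
    (hxy : IntermediateField.adjoin k ({x, y} : Set K) = ⊤)
    (hy : IsIntegral (Algebra.adjoin k ({x} : Set K)) y) :
    (Algebra.adjoin k ({x, y} : Set K) : Set K) =
      ⋂ (P : Place k k⟮x⟯) (_ : P.1 (AdjoinSimple.gen k x) ≤ 1),
        (Subring.closure ((algebraMap k⟮x⟯ K '' (P.O : Set k⟮x⟯)) ∪ {y}) : Set K) := by
  classical
  haveI : IsIntegrallyClosed (Algebra.adjoin k ({x} : Set K)) :=
    IsIntegrallyClosed.of_equiv (Polynomial.algEquivOfTranscendental k x hx).toRingEquiv
  have hyF : IsIntegral k⟮x⟯ y := hy.tower_top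
  have hmin : minpoly k⟮x⟯ y =
      (minpoly (Algebra.adjoin k ({x} : Set K)) y).map (algebraMap _ k⟮x⟯) :=
    minpoly.isIntegrallyClosed_eq_field_fractions' k⟮x⟯ hy
  have htop : k⟮x⟯⟮y⟯ = ⊤ := by
    rw [← IntermediateField.restrictScalars_eq_top_iff (K := k),
      IntermediateField.adjoin_adjoin_left, ← hxy]
    congr 1
  -- coefficients of the minimal polynomial are integral at every relevant place
  have hcoef : ∀ (P : Place k k⟮x⟯), P.1 (AdjoinSimple.gen k x) ≤ 1 →
      ∀ i, (minpoly k⟮x⟯ y).coeff i ∈ P.O.toSubring := by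
    intro P hP i
    rw [hmin, coeff_map]
    obtain ⟨a, ha⟩ : ∃ a, a = (minpoly (Algebra.adjoin k ({x} : Set K)) y).coeff i := ⟨_, rfl⟩
    rw [← ha]
    have h1 : (a : K) ∈ (aeval x : k[X] →ₐ[k] K).range := by
      rw [← Algebra.adjoin_singleton_eq_range_aeval]
      exact a.2
    obtain ⟨q, hq⟩ := h1
    have h2 : algebraMap (Algebra.adjoin k ({x} : Set K)) k⟮x⟯ a =
        aeval (AdjoinSimple.gen k x) q := by
      apply Subtype.ext
      rw [AdjoinSimple.coe_aeval_gen_apply]
      exact hq.symm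
    rw [h2]
    show P.1 _ ≤ 1
    exact val_aeval_le_one P.1 P.2.1 hP q
  apply Set.Subset.antisymm
  · -- ⊆
    intro z hz
    simp only [Set.mem_iInter]
    intro P hP
    have hz' : z ∈ Algebra.adjoin k ({x, y} : Set K) := hz
    clear hz
    show z ∈ Subring.closure _
    induction hz' using Algebra.adjoin_induction with
    | mem u hu =>
      rcases hu with hu | hu
      · apply Subring.subset_closure
        left
        rw [hu]
        exact ⟨AdjoinSimple.gen k x, hP, rfl⟩
      · rw [Set.mem_singleton_iff] at hu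
        rw [hu]
        exact Subring.subset_closure (Or.inr rfl)
    | algebraMap c =>
      apply Subring.subset_closure
      left
      exact ⟨algebraMap k k⟮x⟯ c, P.2.1 c, rfl⟩
    | add a b _ _ ha hb => exact add_mem ha hb
    | mul a b _ _ ha hb => exact mul_mem ha hb
  · -- ⊇
    intro z hz
    simp only [Set.mem_iInter] at hz
    have hzt : z ∈ k⟮x⟯⟮y⟯ := by rw [htop]; trivial
    have hzA : z ∈ Algebra.adjoin k⟮x⟯ ({y} : Set K) := by
      rw [← IntermediateField.adjoin_simple_toSubalgebra_of_isAlgebraic hyF.isAlgebraic]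
      exact hzt
    rw [Algebra.adjoin_singleton_eq_range_aeval] at hzA
    obtain ⟨q, hq⟩ := hzA
    obtain ⟨w₀, hw₀⟩ : ∃ w₀, w₀ = q %ₘ minpoly k⟮x⟯ y := ⟨_, rfl⟩
    have hw₀z : aeval y w₀ = z := by
      rw [hw₀, minpoly.aeval_modByMonic_minpoly]
      exact hq
    have hw₀d : w₀.degree < (minpoly k⟮x⟯ y).degree := by
      rw [hw₀]
      exact degree_modByMonic_lt q (minpoly.monic hyF)
    have hw₀O : ∀ (P : Place k k⟮x⟯), P.1 (AdjoinSimple.gen k x) ≤ 1 →
        ∀ i, P.1 (w₀.coeff i) ≤ 1 := by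
      intro P hP i
      obtain ⟨w, hwd, hwO, hwz⟩ :=
        closure_subset_aeval_lt P.O.toSubring y hyF (hcoef P hP) (hz P hP)
      have hww : w = w₀ := by
        by_contra hne
        have h0 : aeval y (w - w₀) = 0 := by rw [map_sub, hwz, hw₀z, sub_self]
        have h1 := minpoly.degree_le_of_ne_zero k⟮x⟯ y (sub_ne_zero.mpr hne) h0
        have h2 : (w - w₀).degree < (minpoly k⟮x⟯ y).degree :=
          lt_of_le_of_lt (degree_sub_le _ _) (max_lt hwd hw₀d)
        exact absurd h1 (not_le.mpr h2)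
      rw [← hww]
      exact hwO i
    have hcoefA : ∀ i, ((w₀.coeff i : k⟮x⟯) : K) ∈ Algebra.adjoin k ({x, y} : Set K) := by
      intro i
      have h1 := mem_adjoin_of_forall_place_le_one hK x hx (w₀.coeff i)
        (fun P hP => hw₀O P hP i)
      exact Algebra.adjoin_mono (by simp) h1
    show z ∈ Algebra.adjoin k ({x, y} : Set K)
    rw [← hw₀z, aeval_eq_sum_range]
    refine Subalgebra.sum_mem _ fun i _ => ?_
    rw [Algebra.smul_def]
    exact Subalgebra.mul_mem _ (hcoefA i)
      (Subalgebra.pow_mem _ (Algebra.subset_adjoin (by simp)) i)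

end Main

end FunFld
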