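import Mathlib.Analysis.Complex.Basic
import Mathlib.Algebra.BigOperators.Fin
import Mathlib.Topology.MetricSpace.Sequences
import Mathlib.Topology.MetricSpace.ProperSpace
import Mathlib.Analysis.SpecificLimits.Basic
import Mathlib.Topology.Algebra.InfiniteSum.Basic
import Mathlib.Analysis.Normed.Module.FiniteDimension

set_option autoImplicit false
open Finset Filter Topology

namespace Groth.Agent.Lib.PowerSum_helper6

/-- simultaneous recurrence of powers of unit complex numbers -/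
theorem exists_pow_near_one {n : ℕ} (u : Fin n → ℂ) (hu : ∀ i, ‖u i‖ = 1) (ε : ℝ) (hε : 0 < ε)
    (N : ℕ) : ∃ m : ℕ, N < m ∧ ∀ i, ‖u i ^ m - 1‖ < ε := by
  let K : Set (Fin n → ℂ) := Set.pi Set.univ (fun _ => Metric.closedBall (0 : ℂ) 1)
  have hK : IsCompact K := isCompact_univ_pi (fun _ => isCompact_closedBall (0 : ℂ) 1)
  let x : ℕ → (Fin n → ℂ) := fun r i => u i ^ r
  have hx : ∀ r, x r ∈ K := by
    intro r i _
    simp [x, hu i]
  obtain ⟨a, -, φ, hφ, hlim⟩ := hK.tendsto_subseq hx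
  have hcau : CauchySeq (x ∘ φ) := hlim.cauchySeq
  obtain ⟨N0, hN0⟩ := Metric.cauchySeq_iff.1 hcau ε hε
  have hmono : ∀ t, φ N0 + t ≤ φ (N0 + t) := by
    intro t
    induction t with
    | zero => simp
    | succ t ih =>
      have : φ (N0 + t) < φ (N0 + (t + 1)) := hφ (by omega)
      omega
  have h1 := hmono (N + 1)
  refine ⟨φ (N0 + (N + 1)) - φ N0, by omega, ?_⟩
  intro i
  have hd := hN0 N0 le_rfl (N0 + (N + 1)) (by omega)
  have hdi : dist (x (φ N0) i) (x (φ (N0 + (N + 1))) i) < ε :=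
    lt_of_le_of_lt (dist_le_pi_dist _ _ i) hd
  have e : φ (N0 + (N + 1)) = φ N0 + (φ (N0 + (N + 1)) - φ N0) := by omega
  have : x (φ (N0 + (N + 1))) i - x (φ N0) i =
      u i ^ φ N0 * (u i ^ (φ (N0 + (N + 1)) - φ N0) - 1) := by
    show u i ^ φ (N0 + (N + 1)) - u i ^ φ N0 = _
    conv_lhs => rw [e, pow_add]
    ring
  rw [dist_comm, dist_eq_norm, this, norm_mul, norm_pow, hu i, one_pow, one_mul] at hdi
  exact hdi

theorem norm_le_one_of_bounded {n : ℕ} (β : Fin n → ℂ) (C : ℝ)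
    (hC : ∀ r : ℕ, 1 ≤ r → ‖∑ i, β i ^ r‖ ≤ C) (i₀ : Fin n) : ‖β i₀‖ ≤ 1 := by
  by_contra hcon
  push_neg at hcon
  let u : Fin n → ℂ := fun i => if β i = 0 then 1 else β i / (‖β i‖ : ℂ)
  have hu : ∀ i, ‖u i‖ = 1 := by
    intro i
    by_cases h : β i = 0
    · simp [u, h]
    · have : ‖β i‖ ≠ 0 := norm_ne_zero_iff.2 h
      simp [u, h, this]
  have hβ : ∀ i, β i = (‖β i‖ : ℂ) * u i := by
    intro i
    by_cases h : β i = 0
    · simp [u, h]
    · have : (‖β i‖ : ℂ) ≠ 0 := by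
        exact_mod_cast norm_ne_zero_iff.2 h
      simp only [u, h, if_false]
      field_simp
  set b := ‖β i₀‖ with hb
  -- choose N with (1 + N (b - 1)) / 2 > C
  obtain ⟨N, hN⟩ := exists_nat_gt ((2 * C - 1) / (b - 1))
  obtain ⟨m, hm, hclose⟩ := exists_pow_near_one u hu (1 / 2) (by norm_num) N
  have hre : ∀ i, (1 : ℝ) / 2 ≤ (u i ^ m).re := by
    intro i
    have h1 := hclose i
    have h2 : |(u i ^ m - 1).re| ≤ ‖u i ^ m - 1‖ := Complex.abs_re_le_norm _
    have h3 : (u i ^ m - 1).re = (u i ^ m).re - 1 := by simp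
    rw [h3] at h2
    have := abs_le.1 h2
    linarith [this.1]
  have hterm : ∀ i, (β i ^ m).re = ‖β i‖ ^ m * (u i ^ m).re := by
    intro i
    conv_lhs => rw [hβ i, mul_pow]
    rw [← Complex.ofReal_pow, Complex.re_ofReal_mul]
  have hnonneg : ∀ i, 0 ≤ (β i ^ m).re := by
    intro i
    rw [hterm i]
    exact mul_nonneg (pow_nonneg (norm_nonneg _) _) (by linarith [hre i])
  have hsum : b ^ m / 2 ≤ (∑ i, β i ^ m).re := by
    rw [Complex.re_sum]
    calc b ^ m / 2 ≤ (β i₀ ^ m).re := by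
          rw [hterm i₀]
          have : 0 ≤ b ^ m := pow_nonneg (norm_nonneg _) _
          nlinarith [hre i₀]
      _ ≤ ∑ i, (β i ^ m).re :=
          Finset.single_le_sum (f := fun i => (β i ^ m).re) (fun i _ => hnonneg i) (Finset.mem_univ i₀)
  have hle : (∑ i, β i ^ m).re ≤ C :=
    le_trans (le_trans (le_abs_self _) (Complex.abs_re_le_norm _)) (hC m (by omega))
  have hbern : 1 + (m : ℝ) * (b - 1) ≤ b ^ m := by
    have := one_add_mul_le_pow (a := b - 1) (by linarith) m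
    simpa using this
  have hb1 : 0 < b - 1 := by linarith
  have hNm : (N : ℝ) < m := by exact_mod_cast hm
  have : (2 * C - 1) / (b - 1) < m := lt_trans hN hNm
  rw [div_lt_iff₀ hb1] at this
  nlinarith

end Groth.Agent.Lib.PowerSum_helper6
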