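import Mathlib
import Groth.Agent.Lib.FunFldRHF_helper2
import Groth.Agent.S15524

/-! Riemann hypothesis for function fields, part G (helper2): the final statements. -/

open WithZero Module Polynomial TensorProduct IntermediateField
open scoped Pointwise

namespace FunFld

universe u v w

theorem powerSum_bound_of_sep {k : Type u} {K : Type v} {R : Type w}
    [Field k] [Finite k] [Field K] [Algebra k K]
    [Field R] [Algebra k R] [Algebra R K] [IsScalarTower k R K] [FiniteDimensional R K]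
    [Algebra.IsSeparable R K]
    (hK : IsFunctionField k K) (x : R) (hx : Transcendental k x)
    (htop : IntermediateField.adjoin k ({x} : Set R) = ⊤) :
    ∃ d₁ : ℕ, 0 < d₁ ∧ ∃ G C : ℕ, ∀ m' : ℕ, (G + 1) ^ 2 < (Nat.card k ^ d₁) ^ m' →
      |(Ncount hK (2 * m' * d₁) : ℤ) - ((Nat.card k : ℤ) ^ d₁) ^ (2 * m') - 1| ≤
        C * ((Nat.card k : ℤ) ^ d₁) ^ m' := by
  obtain ⟨E, _, _, _, _, hfd, hgal⟩ := exists_galois_closure R K
  haveI := hfd
  haveI := hgal
  exact powerSum_bound_of_config (E := E) hK x hx htop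

theorem powerSum_bound {k : Type u} {K : Type v} [Field k] [Finite k] [Field K] [Algebra k K]
    (hK : IsFunctionField k K) :
    ∃ d₁ : ℕ, 0 < d₁ ∧ ∃ G C : ℕ, ∀ m' : ℕ, (G + 1) ^ 2 < (Nat.card k ^ d₁) ^ m' →
      |(Ncount hK (2 * m' * d₁) : ℤ) - ((Nat.card k : ℤ) ^ d₁) ^ (2 * m') - 1| ≤
        C * ((Nat.card k : ℤ) ^ d₁) ^ m' := by
  classical
  have hg := isGeometric_of_perfectField hK
  obtain ⟨x, hx, hsep⟩ := exists_separating hK hg
  haveI := hsep
  haveI : FiniteDimensional k⟮x⟯ K := finiteDimensional_of_transcendental hK hx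
  refine powerSum_bound_of_sep (R := k⟮x⟯) hK (AdjoinSimple.gen k x) (fun h => hx ?_)
    (adjoin_gen_eq_top x)
  have h1 := h.algebraMap (A := K)
  rwa [AdjoinSimple.algebraMap_gen] at h1

theorem norm_sq_reciprocal_root {k : Type u} {K : Type v} [Field k] [Finite k] [Field K]
    [Algebra k K] (hK : IsFunctionField k K) (α : Fin (2 * genus k K) → ℂ)
    (hα : PowerSeries.map (Int.castRingHom ℂ) (numerZ k K) =
      ((∏ i, (1 - Polynomial.C (α i) * Polynomial.X) : Polynomial ℂ) : PowerSeries ℂ))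
    (hrev : ∀ i, α i * α (Fin.rev i) = (Nat.card k : ℂ)) (i : Fin (2 * genus k K)) :
    ‖α i‖ ^ 2 = (Nat.card k : ℝ) := by
  classical
  obtain ⟨d₁, hd₁, G, C, hC⟩ := powerSum_bound hK
  obtain ⟨q, hqdef⟩ : ∃ q, q = Nat.card k := ⟨_, rfl⟩
  have hq2 : 2 ≤ q := by rw [hqdef]; exact Finite.one_lt_card
  have hq0 : 0 < q := by omega
  rw [← hqdef] at hC hrev ⊢
  obtain ⟨q₁, hq₁⟩ : ∃ q₁, q₁ = q ^ d₁ := ⟨_, rfl⟩
  have hq₁2 : 2 ≤ q₁ := by
    rw [hq₁]
    calc 2 ≤ q := hq2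
      _ = q ^ 1 := (pow_one q).symm
      _ ≤ q ^ d₁ := Nat.pow_le_pow_right hq0 hd₁
  obtain ⟨t, ht⟩ : ∃ t, t = (G + 1) ^ 2 := ⟨_, rfl⟩
  have htpos : 0 < t := by rw [ht]; positivity
  have hlt : (G + 1) ^ 2 < q₁ ^ t := by
    rw [← ht]; exact Nat.lt_pow_self (by omega)
  refine Groth.Agent.S15524.result q hq0 α Fin.revPerm (fun j => ?_) (2 * t * d₁) (by positivity)
    (C : ℝ) (fun N hN => ?_) i
  · rw [Fin.revPerm_apply, mul_comm]; exact hrev j
  · obtain ⟨m', hm'⟩ : ∃ m', m' = t * N := ⟨_, rfl⟩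
    have hm'1 : 0 < m' := by rw [hm']; exact Nat.mul_pos htpos hN
    have hlt' : (G + 1) ^ 2 < (q ^ d₁) ^ m' := by
      rw [← hq₁]
      calc (G + 1) ^ 2 < q₁ ^ t := hlt
        _ ≤ q₁ ^ m' := Nat.pow_le_pow_right (by omega)
            (by rw [hm']; exact Nat.le_mul_of_pos_right t hN)
    have h1 := hC m' hlt'
    have hexp : 2 * t * d₁ * N = 2 * m' * d₁ := by rw [hm']; ring
    rw [hexp]
    have hm1 : 1 ≤ 2 * m' * d₁ := by
      have : 0 < 2 * m' * d₁ := by positivity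
      exact this
    have h2 := Ncount_formula hK α hα hm1
    rw [← hqdef] at h2
    have e : ((q : ℂ) ^ d₁) ^ (2 * m') = (q : ℂ) ^ (2 * m' * d₁) := by
      rw [← pow_mul, mul_comm]
    have h3 : ∑ j, α j ^ (2 * m' * d₁) =
        -(((Ncount hK (2 * m' * d₁) : ℤ) - ((q : ℤ) ^ d₁) ^ (2 * m') - 1 : ℤ) : ℂ) := by
      push_cast
      rw [h2, e]
      ring
    rw [h3, norm_neg, Complex.norm_intCast]
    have h4 : ((|(Ncount hK (2 * m' * d₁) : ℤ) - ((q : ℤ) ^ d₁) ^ (2 * m') - 1| : ℤ) : ℝ) ≤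
        ((C * ((q : ℤ) ^ d₁) ^ m' : ℤ) : ℝ) := by exact_mod_cast h1
    rw [Int.cast_abs] at h4
    refine h4.trans (le_of_eq ?_)
    push_cast
    congr 1
    have e2 : (2 * (t : ℝ) * (d₁ : ℝ) * (N : ℝ) / 2) = ((d₁ * m' : ℕ) : ℝ) := by
      rw [hm']; push_cast; ring
    rw [e2, Real.rpow_natCast, pow_mul]

theorem norm_root_numerZ {k : Type u} {K : Type v} [Field k] [Finite k] [Field K] [Algebra k K]
    (hK : IsFunctionField k K) (p : Polynomial ℤ) (hp : (p : PowerSeries ℤ) = numerZ k K) (z : ℂ)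
    (hz : (p.map (Int.castRingHom ℂ)).IsRoot z) : ‖z‖ ^ 2 * (Nat.card k : ℝ) = 1 := by
  classical
  obtain ⟨α, -, hα, hrev⟩ := exists_reciprocal_roots_numerZ hK
  have hpoly : p.map (Int.castRingHom ℂ) = ∏ i, (1 - Polynomial.C (α i) * Polynomial.X) := by
    apply Polynomial.coe_injective
    rw [Polynomial.polynomial_map_coe, hp, hα]
  rw [hpoly, Polynomial.IsRoot.def, Polynomial.eval_prod, Finset.prod_eq_zero_iff] at hz
  obtain ⟨i, -, hi⟩ := hz
  rw [Polynomial.eval_sub, Polynomial.eval_one, Polynomial.eval_mul, Polynomial.eval_C,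
    Polynomial.eval_X, sub_eq_zero] at hi
  have h1 := norm_sq_reciprocal_root hK α hα hrev i
  have h2 : ‖α i‖ * ‖z‖ = 1 := by rw [← norm_mul, ← hi, norm_one]
  calc ‖z‖ ^ 2 * (Nat.card k : ℝ) = (‖α i‖ * ‖z‖) ^ 2 := by rw [← h1]; ring
    _ = 1 := by rw [h2, one_pow]

theorem abs_card_places_deg_one_sub_le' {k : Type u} {K : Type v} [Field k] [Finite k] [Field K]
    [Algebra k K] (hK : IsFunctionField k K) :
    |(Nat.card {P : Place k K // P.deg = 1} : ℝ) - (Nat.card k : ℝ) - 1| ≤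
      2 * (genus k K : ℝ) * Real.sqrt (Nat.card k : ℝ) := by
  classical
  obtain ⟨α, -, hα, hrev⟩ := exists_reciprocal_roots_numerZ hK
  have hce : IsConstExt k K k K := by
    refine ⟨fun c => rfl, ?_, ?_⟩
    · rw [eq_top_iff]
      intro y _
      exact Subalgebra.algebraMap_mem (Algebra.adjoin K (Set.range (algebraMap k K))) y
    · rw [Module.finrank_self, Module.finrank_self]
  have h1 := card_places_deg_one_constExt hK hK hce α hα
  rw [Module.finrank_self] at h1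
  simp only [pow_one] at h1
  have hnorm : ∀ i, ‖α i‖ = Real.sqrt (Nat.card k : ℝ) := fun i => by
    rw [← norm_sq_reciprocal_root hK α hα hrev i, Real.sqrt_sq (norm_nonneg _)]
  have h2 : (((Nat.card {P : Place k K // P.deg = 1} : ℝ) - (Nat.card k : ℝ) - 1 : ℝ) : ℂ) =
      -∑ i, α i := by
    push_cast
    rw [h1]
    ring
  have h3 : |(Nat.card {P : Place k K // P.deg = 1} : ℝ) - (Nat.card k : ℝ) - 1| =
      ‖∑ i, α i‖ := by
    rw [← norm_neg (∑ i, α i), ← h2, Complex.norm_real, Real.norm_eq_abs]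
  rw [h3]
  calc ‖∑ i, α i‖ ≤ ∑ i, ‖α i‖ := norm_sum_le _ _
    _ = ∑ _i : Fin (2 * genus k K), Real.sqrt (Nat.card k : ℝ) :=
        Finset.sum_congr rfl (fun i _ => hnorm i)
    _ = 2 * (genus k K : ℝ) * Real.sqrt (Nat.card k : ℝ) := by
        rw [Finset.sum_const, Finset.card_univ, Fintype.card_fin, nsmul_eq_mul]
        push_cast
        ring

end FunFld
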