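import Mathlib
import Groth.Agent.Lib.FunFldWDivB_helper2
import Groth.Agent.Lib.FunFldHasseEx_helper2
import Groth.Agent.S12607

/-! Counting strong fixed points of an endomorphism (helper2). -/

open WithZero

namespace FunFld

theorem strictMono_add_le' {n : ℕ} (J : Fin n → ℕ) (hJ : StrictMono J) :
    ∀ (d : ℕ) (l : Fin n) (h : (l : ℕ) + d < n), J l + d ≤ J ⟨l + d, h⟩ := by
  intro d
  induction d with
  | zero =>
    intro l h
    exact le_of_eq rfl
  | succ d ih =>
    intro l h
    have h1 := ih l (by omega)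
    have h2 : J ⟨l + d, by omega⟩ < J ⟨l + (d + 1), h⟩ := hJ (by
      rw [Fin.lt_def]
      show (l : ℕ) + d < l + (d + 1)
      omega)
    omega

theorem sum_ite_range (a g : ℕ) :
    ∑ i ∈ Finset.range (a + g), (if a ≤ i then g else 0) = g * g := by
  rw [Finset.sum_range_add]
  have h1 : ∑ x ∈ Finset.range a, (if a ≤ x then g else 0) = 0 := by
    apply Finset.sum_eq_zero
    intro i hi
    rw [Finset.mem_range] at hi
    rw [if_neg (by omega)]
  have h2 : ∑ x ∈ Finset.range g, (if a ≤ a + x then g else 0) = g * g := by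
    rw [Finset.sum_congr rfl (fun i _ => if_pos (by omega)), Finset.sum_const,
      Finset.card_range, smul_eq_mul]
  rw [h1, h2, zero_add]

theorem sum_orders_bound {n g : ℕ} (hg : g < n) (J' : Fin n → ℕ) (hmono : StrictMono J')
    (hpos : ∀ l, 1 ≤ J' l) (hle : ∀ l, J' l ≤ n + g)
    (hmem : ∀ j, 1 ≤ j → j ≤ n - g → j ∈ Set.range J') :
    2 * ∑ l, J' l ≤ n * (n + 1) + 2 * g ^ 2 := by
  have h1 : ∀ l : Fin n, J' l ≤ g + 1 + l := by
    intro l
    have hl := l.isLt
    have h := strictMono_add_le' J' hmono (n - 1 - l) l (by omega)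
    have h' := hle ⟨l + (n - 1 - l), by omega⟩
    omega
  have h2 : ∀ v : ℕ, ∀ hv : v < n, v < n - g → J' ⟨v, hv⟩ ≤ v + 1 := by
    intro v
    induction v using Nat.strong_induction_on with
    | _ v ih =>
      intro hv hvg
      obtain ⟨m, hm⟩ := hmem (v + 1) (by omega) (by omega)
      have h3 := strictMono_add_le J' hmono 1 hpos m
      rcases lt_or_eq_of_le (show (m : ℕ) ≤ v by omega) with hlt | heq
      · have h4 := ih m hlt m.isLt (by omega)
        have h5 : J' ⟨m, m.isLt⟩ = J' m := rfl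
        omega
      · have h4 : m = ⟨v, hv⟩ := Fin.ext heq
        rw [← h4, hm]
  have h3 : ∀ l : Fin n, J' l ≤ (l : ℕ) + 1 + (if n - g ≤ (l : ℕ) then g else 0) := by
    intro l
    have hl := l.isLt
    split_ifs with h
    · have := h1 l
      omega
    · have h4 := h2 l l.isLt (by omega)
      have h5 : J' ⟨l, l.isLt⟩ = J' l := rfl
      omega
  have h4 : ∑ l, J' l ≤ ∑ l : Fin n, ((l : ℕ) + 1 + (if n - g ≤ (l : ℕ) then g else 0)) :=
    Finset.sum_le_sum (fun l _ => h3 l)
  have h5 : ∑ l : Fin n, ((l : ℕ) + 1 + (if n - g ≤ (l : ℕ) then g else 0)) =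
      ∑ i ∈ Finset.range n, (i + 1 + (if n - g ≤ i then g else 0)) :=
    Fin.sum_univ_eq_sum_range (fun i => i + 1 + (if n - g ≤ i then g else 0)) n
  have h6 : ∀ m : ℕ, 2 * ∑ i ∈ Finset.range m, (i + 1) = m * (m + 1) := by
    intro m
    induction m with
    | zero => simp
    | succ m ih =>
      rw [Finset.sum_range_succ, mul_add, ih]
      ring
  have h7 : ∑ i ∈ Finset.range n, (if n - g ≤ i then g else 0) = g * g := by
    have h8 := sum_ite_range (n - g) g
    have h9 : n - g + g = n := by omega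
    rw [h9] at h8
    exact h8
  rw [h5, Finset.sum_add_distrib, h7] at h4
  have h10 := h6 n
  nlinarith [h4, h10]

section Main

variable {k K : Type*} [Field k] [IsAlgClosed k] [Field K] [Algebra k K]

omit [IsAlgClosed k] in
theorem mul_mem_span_of_mem_span {ι : Type*} (φ φ' : ι → K) (y : K)
    (h : ∀ i, φ' i = y * φ i) {f : K} (hf : f ∈ Submodule.span k (Set.range φ)) :
    y * f ∈ Submodule.span k (Set.range φ') := by
  induction hf using Submodule.span_induction with
  | mem x hx =>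
    obtain ⟨i, rfl⟩ := hx
    rw [← h]
    exact Submodule.subset_span ⟨i, rfl⟩
  | zero =>
    rw [mul_zero]
    exact Submodule.zero_mem _
  | add a b _ _ ha hb =>
    rw [mul_add]
    exact Submodule.add_mem _ ha hb
  | smul c a _ ha =>
    rw [mul_smul_comm]
    exact Submodule.smul_mem _ c ha

theorem strongFixedPt_count (hK : IsFunctionField k K) (τ : K →ₐ[k] K) (n : ℕ)
    (hn : genus k K < n) :
    {P : Place k K | IsStrongFixedPt τ P}.Finite ∧
    (Set.ncard {P : Place k K | IsStrongFixedPt τ P} : ℝ) ≤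
      1 + Module.finrank τ.fieldRange K +
        (n + (Module.finrank τ.fieldRange K : ℝ) / n) * genus k K +
        2 * (genus k K : ℝ) ^ 2 * (genus k K - 1) / n := by
  classical
  obtain ⟨g, hgdef⟩ : ∃ g : ℕ, g = genus k K := ⟨_, rfl⟩
  obtain ⟨d, hddef⟩ : ∃ d : ℕ, d = Module.finrank τ.fieldRange K := ⟨_, rfl⟩
  rw [← hgdef, ← hddef]
  rw [← hgdef] at hn
  have hn0 : 0 < n := by omega
  have hnR : (0 : ℝ) < n := by exact_mod_cast hn0
  by_cases hS : ∃ P₀ : Place k K, IsStrongFixedPt τ P₀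
  swap
  · have hempty : {P : Place k K | IsStrongFixedPt τ P} = ∅ :=
      Set.eq_empty_iff_forall_notMem.mpr (fun P h => hS ⟨P, h⟩)
    rw [hempty]
    refine ⟨Set.finite_empty, ?_⟩
    rw [Set.ncard_empty]
    have h1 : 0 ≤ ((n : ℝ) + (d : ℝ) / n) * g := by positivity
    have h2 : 0 ≤ 2 * (g : ℝ) ^ 2 * ((g : ℝ) - 1) / n := by
      rcases Nat.eq_zero_or_pos g with h0 | hpos
      · rw [h0]
        simp
      · have h3 : (1 : ℝ) ≤ g := by exact_mod_cast hpos
        have h4 : 0 ≤ (g : ℝ) - 1 := by linarith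
        positivity
    have h3 : (0 : ℝ) ≤ d := by positivity
    push_cast
    linarith
  obtain ⟨P₀, hP₀⟩ := hS
  obtain ⟨s, H, hs, hsep, hH⟩ := exists_hasseFamily_of_isFunctionField hK
  have hdegP : P₀.deg = 1 := Place.deg_eq_one hK P₀
  have hdeg : ∀ m : ℤ, Divisor.deg (Finsupp.single P₀ m : Divisor k K) = m := fun m => by
    rw [deg_single, hdegP]
    simp
  have hell : ∀ m : ℤ, 2 * (g : ℤ) - 1 ≤ m →
      (ell (Finsupp.single P₀ m : Divisor k K) : ℤ) = m + 1 - g := by
    intro m hm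
    have h1 := ell_eq_of_deg_ge hK (Finsupp.single P₀ m : Divisor k K)
      (by rw [hdeg, ← hgdef]; exact hm)
    rw [hdeg, ← hgdef] at h1
    exact h1
  -- existence of functions with prescribed pole order
  have hex : ∀ m : ℤ, 2 * (g : ℤ) ≤ m → ∃ f : K, f ≠ 0 ∧ P₀.ord f = -m ∧
      f ∈ L (Finsupp.single P₀ m : Divisor k K) := by
    intro m hm
    have h1 := hell m (by omega)
    have h2 := hell (m - 1) (by omega)
    obtain ⟨f, hf, hfn⟩ := exists_mem_L_not_mem hK
      (D := (Finsupp.single P₀ (m - 1) : Divisor k K))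
      (E := (Finsupp.single P₀ m : Divisor k K)) (by omega)
    obtain ⟨hf0, hord, -⟩ := ord_of_mem_L_single hK (n := m) (n' := m - 1) (by ring) hf hfn
    exact ⟨f, hf0, hord, hf⟩
  obtain ⟨N, hN⟩ : ∃ N : ℕ, N = n + g := ⟨_, rfl⟩
  obtain ⟨D, hD⟩ : ∃ D : Divisor k K, D = Finsupp.single P₀ (N : ℤ) := ⟨_, rfl⟩
  have hDP₀ : D P₀ = N := by rw [hD, Finsupp.single_eq_same]
  have hLle : ∀ m : ℤ, m ≤ N → L (Finsupp.single P₀ m : Divisor k K) ≤ L D := by
    intro m hm
    apply L_mono
    intro Q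
    rw [hD, Finsupp.single_apply, Finsupp.single_apply]
    split_ifs
    · exact hm
    · exact le_refl _
  have hellN : ell D = n + 1 := by
    have h1 := hell N (by rw [hN]; push_cast; omega)
    rw [← hD] at h1
    rw [hN] at h1
    push_cast at h1
    omega
  haveI := finiteDimensional_L hK D
  have hfr : Module.finrank k ↥(L D) = n + 1 := hellN
  obtain ⟨b⟩ : Nonempty (Module.Basis (Fin (n + 1)) k ↥(L D)) :=
    ⟨Module.finBasisOfFinrankEq k ↥(L D) hfr⟩
  obtain ⟨φ, hφdef⟩ : ∃ φ : Fin (n + 1) → K, φ = fun i => (b i : K) := ⟨_, rfl⟩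
  have hφLI : LinearIndependent k φ := by
    rw [hφdef]
    exact b.linearIndependent.map' (Submodule.subtype _) (Submodule.ker_subtype _)
  have hφmem : ∀ i, φ i ∈ L D := fun i => by
    rw [hφdef]
    exact (b i).2
  have hspan : Submodule.span k (Set.range φ) = L D := by
    have h1 : Set.range φ = (Submodule.subtype (L D)) '' (Set.range b) := by
      rw [hφdef, ← Set.range_comp]
      rfl
    rw [h1, Submodule.span_image, b.span_eq, Submodule.map_top, Submodule.range_subtype]
  have hmapD : mapDiv k φ ≤ D := by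
    intro Q
    rw [mapDiv_apply hK]
    have h1 : -(D Q) ≤ minOrd Q φ := by
      unfold minOrd
      apply Finset.le_inf'
      intro i _
      have h2 := hφmem i Q
      rw [Q.val_eq_exp_neg_ord (hφLI.ne_zero i), exp_le_exp] at h2
      omega
    omega
  have hdegmap : Divisor.deg (mapDiv k φ) ≤ N := by
    have h1 := deg_mono hmapD
    rw [hD, hdeg] at h1
    exact h1
  -- the functions of pole order N and N - 1
  obtain ⟨fN, hfN0, hordfN, hfNmem⟩ := hex N (by rw [hN]; push_cast; omega)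
  obtain ⟨fN', hfN'0, hordfN', hfN'mem⟩ := hex (N - 1) (by rw [hN]; push_cast; omega)
  have hfND : fN ∈ L D := hLle N le_rfl hfNmem
  have hfN'D : fN' ∈ L D := hLle (N - 1) (by omega) hfN'mem
  have hτφ : ¬ ∃ y : K, ∀ i, τ (φ i) = y * φ i := by
    rintro ⟨y, hy⟩
    have hτf : ∀ f ∈ L D, τ f = y * f := by
      intro f hf
      rw [← hspan] at hf
      induction hf using Submodule.span_induction with
      | mem x hx =>
        obtain ⟨i, rfl⟩ := hx
        exact hy i
      | zero => simp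
      | add a b _ _ ha hb => rw [map_add, ha, hb, mul_add]
      | smul c a _ ha =>
        rw [Algebra.smul_def, map_mul, AlgHom.commutes, ha]
        ring
    have h1mem : (1 : K) ∈ L D := by
      rw [mem_L]
      intro Q
      rw [map_one, ← exp_zero, exp_le_exp, hD, Finsupp.single_apply]
      split_ifs
      · exact Int.natCast_nonneg _
      · exact le_refl _
    have hy1 : y = 1 := by
      have h1 := hτf 1 h1mem
      rw [map_one, mul_one] at h1
      exact h1.symm
    have hu0 : fN' * fN⁻¹ ≠ 0 := mul_ne_zero hfN'0 (inv_ne_zero hfN0)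
    have hτu : τ (fN' * fN⁻¹) = fN' * fN⁻¹ := by
      rw [map_mul, map_inv₀, hτf fN hfND, hτf fN' hfN'D, hy1, one_mul, one_mul]
    have hordu : P₀.ord (fN' * fN⁻¹) = 1 := by
      rw [P₀.ord_mul hfN'0 (inv_ne_zero hfN0), P₀.ord_inv, hordfN, hordfN']
      ring
    have hvu : P₀.1 (fN' * fN⁻¹) = exp (-1 : ℤ) := by
      rw [P₀.val_eq_exp_neg_ord hu0, hordu]
    have h1 := hP₀ (fN' * fN⁻¹) (by
      rw [hvu, ← exp_zero, exp_lt_exp]
      norm_num)
    rw [hτu, hvu, exp_le_exp] at h1
    omega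
  obtain ⟨J, hJ⟩ := exists_isOrders_hcol hK φ hφLI τ hH
  obtain ⟨hfin, hbound⟩ := strongFixedPt_bound hK τ φ hφLI hτφ s H hH J hJ
  refine ⟨hfin, ?_⟩
  rw [← hgdef, ← hddef] at hbound
  have hkey : (2 * (g : ℤ) - 2) * (2 * ∑ l, (J l : ℤ)) ≤
      (2 * (g : ℤ) - 2) * ((n : ℤ) * ((n : ℤ) - 1) + 2 * (g : ℤ) ^ 2) := by
    rcases Nat.eq_zero_or_pos g with h0 | hpos
    · have hlow : ∀ l : Fin n, (l : ℕ) ≤ J l := fun l => by
        have := strictMono_add_le J hJ.1 0 (fun _ => Nat.zero_le _) l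
        omega
      have hsum : (n : ℤ) * ((n : ℤ) - 1) ≤ 2 * ∑ l, (J l : ℤ) := by
        have h1 : ∑ l : Fin n, ((l : ℕ) : ℤ) ≤ ∑ l, (J l : ℤ) :=
          Finset.sum_le_sum (fun l _ => by exact_mod_cast hlow l)
        have h2 : ∑ l : Fin n, ((l : ℕ) : ℤ) = ∑ i ∈ Finset.range n, (i : ℤ) :=
          Fin.sum_univ_eq_sum_range (fun i => (i : ℤ)) n
        have h3 : ∀ m : ℕ, 2 * ∑ i ∈ Finset.range m, (i : ℤ) = (m : ℤ) * ((m : ℤ) - 1) := by
          intro m
          induction m with
          | zero => simp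
          | succ m ih =>
            rw [Finset.sum_range_succ, mul_add, ih]
            push_cast
            ring
        have h4 := h3 n
        linarith
      rw [h0]
      push_cast
      nlinarith [hsum]
    · have hup : 2 * ∑ l, (J l : ℤ) ≤ (n : ℤ) * ((n : ℤ) - 1) + 2 * (g : ℤ) ^ 2 := by
        choose Φ hΦ using fun P : Place k K => exists_expansion hK hH P
        obtain ⟨t, Ht, φ', y, ht, hHt, hy0, hφ'i, hφ'LI, hnorm, heff, hJ', hW⟩ :=
          exists_normalized hK φ hφLI τ s H hH J hJ Φ hΦ P₀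
        obtain ⟨J', hJ'at⟩ := exists_isOrders_hcolAt hK P₀ ht hHt φ' hφ'LI heff hnorm
        have hτφ' : ¬ ∃ y' : K, ∀ i, τ (φ' i) = y' * φ' i := by
          rintro ⟨y', hy'⟩
          apply hτφ
          have hτy : τ y ≠ 0 := (map_ne_zero τ).mpr hy0
          refine ⟨y' * y * (τ y)⁻¹, fun i => ?_⟩
          have h1 := hy' i
          rw [hφ'i, map_mul] at h1
          have h2 : τ (φ i) = (τ y)⁻¹ * (τ y * τ (φ i)) := by
            rw [← mul_assoc, inv_mul_cancel₀ hτy, one_mul]
          rw [h2, h1]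
          ring
        have h2 := Groth.Agent.S12606.result k K hK τ P₀ hP₀ hn0 φ' hφ'LI heff hnorm hτφ' t ht
          Ht hHt J hJ' J' hJ'at
        have hpos' : ∀ l, 1 ≤ J' l := fun l => isOrders_at_pos P₀ hHt φ' hJ'at l
        have hJle : ∀ l, J l + 1 ≤ J' l := fun l => by
          have h3 := h2 l
          have h4 := hpos' ⟨0, hn0⟩
          omega
        have hφ'eq : φ' = y • φ := by
          ext i
          rw [hφ'i]
          rfl
        have hdeg' : Divisor.deg (mapDiv k φ') ≤ N := by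
          rw [hφ'eq, deg_mapDiv_smul hK φ hφLI hy0]
          exact hdegmap
        have hle : ∀ l, J' l ≤ n + g := fun l => by
          have h3 := isOrders_at_le_deg hK P₀ ht hHt φ' hφ'LI heff hnorm hJ'at l
          have h4 : (J' l : ℤ) ≤ N := h3.trans hdeg'
          rw [hN] at h4
          exact_mod_cast h4
        have hspan' : ∀ f ∈ L D, y * f ∈ Submodule.span k (Set.range φ') := by
          intro f hf
          rw [← hspan] at hf
          exact mul_mem_span_of_mem_span φ φ' y hφ'i hf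
        have hval' : ∀ f ∈ L D, P₀.1 (y * f) ≤ 1 := fun f hf =>
          val_le_of_mem_span P₀ (s := Set.range φ') (by
            rintro _ ⟨i, rfl⟩
            exact hnorm i) (hspan' f hf)
        have hordy : P₀.ord y = N := by
          apply le_antisymm
          · obtain ⟨i, hi⟩ := exists_val_eq_one_of_one_mem_span P₀ φ' hnorm heff
            have hφi0 := hφLI.ne_zero i
            rw [hφ'i, P₀.val_eq_exp_neg_ord (mul_ne_zero hy0 hφi0), exp_eq_one, neg_eq_zero,
              P₀.ord_mul hy0 hφi0] at hi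
            have h3 := hφmem i P₀
            rw [P₀.val_eq_exp_neg_ord hφi0, exp_le_exp, hDP₀] at h3
            omega
          · have h3 := hval' fN hfND
            rw [P₀.val_eq_exp_neg_ord (mul_ne_zero hy0 hfN0), ← exp_zero, exp_le_exp,
              P₀.ord_mul hy0 hfN0, hordfN] at h3
            omega
        have hmem : ∀ j, 1 ≤ j → j ≤ n - g → j ∈ Set.range J' := by
          intro j hj1 hj2
          have h607 := (Groth.Agent.S12607.result k K hK P₀ φ' hφ'LI heff hnorm t ht Ht hHt J'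
            hJ'at).2 j
          have h3 : j = 0 ∨ j ∈ Set.range J' := by
            apply h607.mpr
            obtain ⟨f, hf0, hordf, hfmem⟩ := hex ((N : ℤ) - j) (by rw [hN]; push_cast; omega)
            have hfD : f ∈ L D := hLle _ (by omega) hfmem
            refine ⟨y * f, hspan' f hfD, ?_⟩
            rw [P₀.val_eq_exp_neg_ord (mul_ne_zero hy0 hf0), P₀.ord_mul hy0 hf0, hordf, hordy]
            congr 1
            ring
          rcases h3 with h3 | h3
          · omega
          · exact h3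
        have hsumJ' := sum_orders_bound hn J' hJ'at.1 hpos' hle hmem
        have hsumJ : ∑ l, (J l + 1) ≤ ∑ l, J' l := Finset.sum_le_sum (fun l _ => hJle l)
        rw [Finset.sum_add_distrib, Finset.sum_const, Finset.card_univ, Fintype.card_fin,
          smul_eq_mul, mul_one] at hsumJ
        have h5 : (2 * ∑ l, J l + 2 * n : ℕ) ≤ n * (n + 1) + 2 * g ^ 2 := by omega
        have h6 : ((2 * ∑ l, J l + 2 * n : ℕ) : ℤ) ≤ ((n * (n + 1) + 2 * g ^ 2 : ℕ) : ℤ) := by
          exact_mod_cast h5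
        push_cast at h6
        linarith
      have h1 : (1 : ℤ) ≤ g := by exact_mod_cast hpos
      exact mul_le_mul_of_nonneg_left hup (by linarith)
  obtain ⟨c, hc⟩ : ∃ c : ℕ, c = Set.ncard {P : Place k K | IsStrongFixedPt τ P} := ⟨_, rfl⟩
  rw [← hc] at hbound ⊢
  have hfinal : (2 * (n : ℤ)) * (c : ℤ) ≤ 2 * ((n : ℤ) + d) * ((n : ℤ) + g) +
      (2 * (g : ℤ) - 2) * ((n : ℤ) * ((n : ℤ) - 1) + 2 * (g : ℤ) ^ 2) := by
    have h1 : ((n : ℤ) + d) * (mapDiv k φ).deg ≤ ((n : ℤ) + d) * ((n : ℤ) + g) := by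
      apply mul_le_mul_of_nonneg_left _ (by positivity)
      rw [hN] at hdegmap
      push_cast at hdegmap
      exact hdegmap
    linarith
  have hfinalR : (2 * (n : ℝ)) * (c : ℝ) ≤ 2 * ((n : ℝ) + d) * ((n : ℝ) + g) +
      (2 * (g : ℝ) - 2) * ((n : ℝ) * ((n : ℝ) - 1) + 2 * (g : ℝ) ^ 2) := by
    exact_mod_cast hfinal
  have hRHS : 1 + (d : ℝ) + ((n : ℝ) + (d : ℝ) / n) * g + 2 * (g : ℝ) ^ 2 * ((g : ℝ) - 1) / n =
      (2 * ((n : ℝ) + d) * ((n : ℝ) + g) +
        (2 * (g : ℝ) - 2) * ((n : ℝ) * ((n : ℝ) - 1) + 2 * (g : ℝ) ^ 2)) / (2 * n) := by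
    field_simp
    ring
  rw [hRHS, le_div_iff₀ (by positivity)]
  linarith

end Main

end FunFld
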