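import Mathlib
import Groth.Agent.Lib.FunFldQuad_helper2
import Groth.Agent.Lib.FunFldGeomC_helper2
import Groth.Agent.Lib.FunFldUnram_helper2

/-! Places with separable residue field (helper2): in a finite separable extension of function
fields almost all places have residue field separable over the residue field below; a geometric
function field has infinitely many separable places. -/

open Polynomial IntermediateField WithZero Module

namespace FunFld

section Local

variable {k K K' : Type*} [Field k] [Field K] [Field K'] [Algebra k K] [Algebra K K']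
    [Algebra k K'] [IsScalarTower k K K']
variable {Q : Place k K'} {P : Place k K} {e : ℕ}

theorem IsOverWith.residue_eval₂ (h : IsOverWith Q P e) (y' : Q.O) (g : P.O[X]) :
    IsLocalRing.residue Q.O (eval₂ h.mapO y' g) =
      eval₂ h.resMap.toRingHom (IsLocalRing.residue Q.O y')
        (g.map (IsLocalRing.residue P.O)) := by
  have hcomp : (IsLocalRing.residue Q.O).comp h.mapO =
      h.resMap.toRingHom.comp (IsLocalRing.residue P.O) :=
    RingHom.ext fun a => (h.resMap_residue a).symm
  rw [Polynomial.eval₂_map, Polynomial.hom_eval₂, hcomp]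

/-- Local criterion: at a place `P` where a primitive element is integral with a minimal
polynomial coprime to its derivative over `O_P`, and where the discriminant is a unit, every
place above `P` has residue field separable over that of `P`. -/
theorem IsOverWith.isSeparable_residueField (hK : IsFunctionField k K) [FiniteDimensional K K']
    [Algebra.IsSeparable K K'] (h : IsOverWith Q P e) (B : PowerBasis K K')
    (f₀ a₀ b₀ : P.O[X]) (hmonic : f₀.Monic)
    (hroot : eval₂ ((algebraMap K K').comp P.O.subtype) B.gen f₀ = 0)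
    (hcop : a₀ * f₀ + b₀ * derivative f₀ = 1) (hd : P.1 (Algebra.discr K B.basis) = 1)
    [Algebra.IsSeparable k (IsLocalRing.ResidueField P.O)] :
    Algebra.IsSeparable k (IsLocalRing.ResidueField Q.O) := by
  classical
  letI : Algebra (IsLocalRing.ResidueField P.O) (IsLocalRing.ResidueField Q.O) :=
    h.resMap.toRingHom.toAlgebra
  haveI : IsScalarTower k (IsLocalRing.ResidueField P.O) (IsLocalRing.ResidueField Q.O) :=
    IsScalarTower.of_algebraMap_eq (fun c => (h.resMap.commutes c).symm)
  letI : Algebra P.O K' := ((algebraMap K K').comp P.O.subtype).toAlgebra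
  haveI : IsScalarTower P.O K K' := IsScalarTower.of_algebraMap_eq (fun a => rfl)
  have hmap : ∀ a : P.O, algebraMap P.O K' a = algebraMap K K' (a : K) := fun a => rfl
  obtain ⟨y, hydef⟩ : ∃ y : K', y = B.gen := ⟨_, rfl⟩
  rw [← hydef] at hroot
  have hyint : IsIntegral P.O y := ⟨f₀, hmonic, hroot⟩
  have hφQ : ∀ a : P.O, Q.1 (algebraMap P.O K' a) ≤ 1 := fun a => by
    rw [hmap, h]
    exact pow_le_one₀ zero_le ((Valuation.mem_valuationSubring_iff _ _).mp a.2)
  have hyQ : Q.1 y ≤ 1 := val_le_one_of_isIntegral Q.1 hφQ hyint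
  obtain ⟨y', hy'⟩ : ∃ y' : Q.O, (y' : K') = y :=
    ⟨⟨y, (Valuation.mem_valuationSubring_iff _ _).mpr hyQ⟩, rfl⟩
  have hEV : ∀ g : P.O[X], ((eval₂ h.mapO y' g : Q.O) : K') = eval₂ (algebraMap P.O K') y g := by
    intro g
    have := Polynomial.hom_eval₂ g h.mapO Q.O.subtype y'
    rw [← hy']
    exact this
  obtain ⟨yb, hyb⟩ : ∃ yb : IsLocalRing.ResidueField Q.O, yb = IsLocalRing.residue Q.O y' :=
    ⟨_, rfl⟩
  -- Part 1: the residue of `y` is separable over the residue field of `P`
  have hf0 : eval₂ h.mapO y' f₀ = 0 := Subtype.ext ((hEV f₀).trans hroot)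
  have hroot' : aeval yb (f₀.map (IsLocalRing.residue P.O)) = 0 := by
    rw [aeval_def]
    have := h.residue_eval₂ y' f₀
    rw [hf0, map_zero, ← hyb] at this
    exact this.symm
  have hsepf : (f₀.map (IsLocalRing.residue P.O)).Separable := by
    refine ⟨a₀.map (IsLocalRing.residue P.O), b₀.map (IsLocalRing.residue P.O), ?_⟩
    rw [Polynomial.derivative_map, ← Polynomial.map_mul, ← Polynomial.map_mul,
      ← Polynomial.map_add, hcop, Polynomial.map_one]
  have hybsep : IsSeparable (IsLocalRing.ResidueField P.O) yb :=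
    hsepf.of_dvd (minpoly.dvd _ yb hroot')
  -- Part 2: the residue field of `Q` is generated by the residue of `y`
  obtain ⟨d, hddef⟩ : ∃ d : K, d = Algebra.discr K B.basis := ⟨_, rfl⟩
  rw [← hddef] at hd
  have hd0 : d ≠ 0 := by
    intro h0
    rw [h0, map_zero] at hd
    exact zero_ne_one hd
  have hdinv : P.1 d⁻¹ ≤ 1 := by rw [map_inv₀, hd, inv_one]
  have hfin := finite_isOver (K' := K') hK P
  obtain ⟨S, hS⟩ : ∃ S : Finset (Place k K'), S = hfin.toFinset := ⟨_, rfl⟩
  have hSmem : ∀ Q', Q' ∈ S ↔ IsOver Q' P := fun Q' => by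
    rw [hS]
    exact hfin.mem_toFinset
  have hQS : Q ∈ S := (hSmem Q).mpr ⟨e, h⟩
  have hgen : ∀ ξ : IsLocalRing.ResidueField Q.O,
      ξ ∈ Algebra.adjoin (IsLocalRing.ResidueField P.O) {yb} := by
    intro ξ
    obtain ⟨z, rfl⟩ := IsLocalRing.residue_surjective ξ
    obtain ⟨r, hr⟩ := exists_approx (fun i : S => (i : Place k K')) Subtype.val_injective
      (fun i => if (i : Place k K') = Q then (z : K') else 0) 1
    have hexp : exp (-1 : ℤ) ≤ (1 : ℤᵐ⁰) := exp_neg_one_lt_one.le
    have hzQ : Q.1 (z : K') ≤ 1 := (Valuation.mem_valuationSubring_iff _ _).mp z.2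
    have hrQ : Q.1 (r - z) ≤ exp (-1 : ℤ) := by
      have := hr ⟨Q, hQS⟩
      simp only [if_true] at this
      exact this
    have hrRO : ∀ Q' : Place k K', IsOver Q' P → Q'.1 r ≤ 1 := by
      intro Q' hQ'
      have := hr ⟨Q', (hSmem Q').mpr hQ'⟩
      by_cases hQQ : Q' = Q
      · subst hQQ
        have h2 : r = (r - z) + z := by ring
        rw [h2]
        exact (Q'.1.map_add _ _).trans (max_le (hrQ.trans hexp) hzQ)
      · simp only [if_neg hQQ, sub_zero] at this
        exact this.trans hexp
    have hrint : IsIntegral P.O r := (isIntegral_iff_forall_isOver hK P r).mpr hrRO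
    have hrad : r ∈ Algebra.adjoin P.O ({y} : Set K') := by
      have h1 := Algebra.discr_mul_isIntegral_mem_adjoin (K := K) (B := B)
        (by rw [← hydef]; exact hyint) hrint
      rw [← hddef, ← hydef] at h1
      have h2 : r = (⟨d⁻¹, (Valuation.mem_valuationSubring_iff _ _).mpr hdinv⟩ : P.O) • (d • r) := by
        rw [Algebra.smul_def, Algebra.smul_def, hmap, ← mul_assoc, ← map_mul]
        show r = algebraMap K K' (d⁻¹ * d) * r
        rw [inv_mul_cancel₀ hd0, map_one, one_mul]
      rw [h2]
      exact Subalgebra.smul_mem _ h1 _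
    rw [Algebra.adjoin_singleton_eq_range_aeval] at hrad
    obtain ⟨g, hg⟩ := hrad
    have hr1 : Q.1 r ≤ 1 := hrRO Q ⟨e, h⟩
    have hr' : (⟨r, (Valuation.mem_valuationSubring_iff _ _).mpr hr1⟩ : Q.O) =
        eval₂ h.mapO y' g := by
      apply Subtype.ext
      rw [hEV, ← aeval_def]
      exact hg.symm
    have hres : IsLocalRing.residue Q.O z =
        IsLocalRing.residue Q.O ⟨r, (Valuation.mem_valuationSubring_iff _ _).mpr hr1⟩ := by
      rw [← sub_eq_zero, ← map_sub, Q.residue_eq_zero_iff]
      change Q.1 ((z : K') - r) < 1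
      rw [← neg_sub, Valuation.map_neg]
      exact lt_of_le_of_lt hrQ exp_neg_one_lt_one
    rw [hres, hr', h.residue_eval₂, ← hyb]
    have : eval₂ h.resMap.toRingHom yb (g.map (IsLocalRing.residue P.O)) =
        aeval yb (g.map (IsLocalRing.residue P.O)) := by
      rw [aeval_def]
      rfl
    rw [this]
    exact Polynomial.aeval_mem_adjoin_singleton _ _
  have htop : separableClosure (IsLocalRing.ResidueField P.O) (IsLocalRing.ResidueField Q.O) = ⊤ := by
    rw [eq_top_iff]
    intro ξ _
    have hle : Algebra.adjoin (IsLocalRing.ResidueField P.O) {yb} ≤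
        (separableClosure (IsLocalRing.ResidueField P.O)
          (IsLocalRing.ResidueField Q.O)).toSubalgebra := by
      apply Algebra.adjoin_le
      intro w hw
      rw [Set.mem_singleton_iff] at hw
      rw [hw]
      exact hybsep
    exact hle (hgen ξ)
  haveI : Algebra.IsSeparable (IsLocalRing.ResidueField P.O) (IsLocalRing.ResidueField Q.O) :=
    (separableClosure.eq_top_iff _ _).mp htop
  exact Algebra.IsSeparable.trans k (IsLocalRing.ResidueField P.O) (IsLocalRing.ResidueField Q.O)

/-- In a finite separable extension, infinitely many separable places below give infinitely many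
separable places above. -/
theorem infinite_separable_of_extension (hK : IsFunctionField k K) [FiniteDimensional K K']
    [Algebra.IsSeparable K K']
    (hinf : {P : Place k K | Algebra.IsSeparable k (IsLocalRing.ResidueField P.O)}.Infinite) :
    {Q : Place k K' | Algebra.IsSeparable k (IsLocalRing.ResidueField Q.O)}.Infinite := by
  classical
  obtain ⟨B⟩ : Nonempty (PowerBasis K K') := ⟨Field.powerBasisOfFiniteOfSeparable K K'⟩
  obtain ⟨y, hy⟩ : ∃ y : K', y = B.gen := ⟨_, rfl⟩
  obtain ⟨f, hf⟩ : ∃ f, f = minpoly K y := ⟨_, rfl⟩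
  have hsep : f.Separable := hf ▸ Algebra.IsSeparable.isSeparable K y
  obtain ⟨a, b, hab⟩ := hsep
  obtain ⟨d, hddef⟩ : ∃ d : K, d = Algebra.discr K B.basis := ⟨_, rfl⟩
  have hd0 : d ≠ 0 := hddef ▸ Algebra.discr_not_zero_of_basis K B.basis
  obtain ⟨Cs, hCs⟩ : ∃ Cs : Finset K, Cs = f.coeffs ∪ a.coeffs ∪ b.coeffs := ⟨_, rfl⟩
  obtain ⟨Bad, hBaddef⟩ : ∃ Bad : Set (Place k K),
      Bad = {P | ∃ c ∈ Cs, 1 < P.1 c} ∪ {P | P.1 d ≠ 1} := ⟨_, rfl⟩
  have hBad : Bad.Finite := by
    rw [hBaddef]
    refine Set.Finite.union ?_ ?_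
    · have hsub : {P : Place k K | ∃ c ∈ Cs, 1 < P.1 c} ⊆
          ⋃ c ∈ Cs, Function.support (fun P : Place k K => P.ord c) := by
        intro P hP
        obtain ⟨c, hc, hPc⟩ := hP
        rw [Set.mem_iUnion₂]
        refine ⟨c, hc, ?_⟩
        rw [Function.mem_support]
        have hc0 : c ≠ 0 := by
          rintro rfl
          rw [map_zero] at hPc
          exact absurd hPc (not_lt.mpr zero_le)
        have := (P.ord_neg_iff hc0).mpr hPc
        omega
      exact (Set.Finite.biUnion Cs.finite_toSet (fun c _ => finite_support_ord hK c)).subset hsub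
    · refine (finite_support_ord hK d).subset ?_
      intro P hP
      rw [Function.mem_support]
      intro h0
      exact hP ((P.ord_eq_zero_iff hd0).mp h0)
  have hgoodinf := hinf.sdiff hBad
  -- choose a place above each place
  choose Qf hQf using fun P : Place k K => exists_isOver_above (K' := K') hK P
  have hinj : Function.Injective Qf := by
    intro P₁ P₂ h12
    have h1 := hQf P₁
    rw [h12] at h1
    exact IsOver.unique_below h1 (hQf P₂)
  refine (hgoodinf.image hinj.injOn).mono ?_
  rintro Q ⟨P, ⟨hPsep, hPgood⟩, rfl⟩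
  rw [Set.mem_ofPred_eq] at hPsep
  haveI := hPsep
  obtain ⟨e, he⟩ := hQf P
  have hgood' : ∀ c ∈ Cs, P.1 c ≤ 1 := fun c hc => not_lt.mp (fun h => hPgood (by
    rw [hBaddef]
    exact Or.inl ⟨c, hc, h⟩))
  have hdP : P.1 d = 1 := by
    by_contra hne
    exact hPgood (by rw [hBaddef]; exact Or.inr hne)
  have hfl : f ∈ Polynomial.lifts (algebraMap P.O K) := exists_lift_of_coeffs_le P f
    (fun c hc => hgood' c (by rw [hCs]; exact Finset.mem_union_left _ (Finset.mem_union_left _ hc)))
  have hal : a ∈ Polynomial.lifts (algebraMap P.O K) := exists_lift_of_coeffs_le P a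
    (fun c hc => hgood' c (by rw [hCs]; exact Finset.mem_union_left _ (Finset.mem_union_right _ hc)))
  have hbl : b ∈ Polynomial.lifts (algebraMap P.O K) := exists_lift_of_coeffs_le P b
    (fun c hc => hgood' c (by rw [hCs]; exact Finset.mem_union_right _ hc))
  have hfmonic : f.Monic := hf ▸ minpoly.monic (Algebra.IsIntegral.isIntegral y)
  obtain ⟨f₀, hf₀, -, hf₀m⟩ := Polynomial.lifts_and_degree_eq_and_monic hfl hfmonic
  obtain ⟨a₀, ha₀⟩ := (Polynomial.mem_lifts _).mp hal
  obtain ⟨b₀, hb₀⟩ := (Polynomial.mem_lifts _).mp hbl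
  have hinjO : Function.Injective (algebraMap P.O K) := Subtype.val_injective
  have hcop : a₀ * f₀ + b₀ * derivative f₀ = 1 := by
    apply Polynomial.map_injective _ hinjO
    rw [Polynomial.map_add, Polynomial.map_mul, Polynomial.map_mul, Polynomial.map_one,
      ← Polynomial.derivative_map, hf₀, ha₀, hb₀]
    exact hab
  have hroot : eval₂ ((algebraMap K K').comp P.O.subtype) B.gen f₀ = 0 := by
    rw [← hy]
    have h1 : eval₂ ((algebraMap K K').comp (algebraMap P.O K)) y f₀ =
        aeval y (f₀.map (algebraMap P.O K)) := by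
      rw [aeval_def, eval₂_map]
    have h2 : aeval y (f₀.map (algebraMap P.O K)) = 0 := by
      rw [hf₀, hf]
      exact minpoly.aeval K y
    rw [← h2, ← h1]
    rfl
  exact he.isSeparable_residueField hK B f₀ a₀ b₀ hf₀m hroot hcop (hddef ▸ hdP)

end Local

section Base

variable {k K : Type*} [Field k] [Field K] [Algebra k K]

/-- Outside any finite set of places there is a further place. -/
theorem exists_place_notMem (hK : IsFunctionField k K) (S : Finset (Place k K)) :
    ∃ Q : Place k K, Q ∉ S := by
  classical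
  obtain ⟨P₁⟩ := exists_place hK
  obtain ⟨x, hx⟩ := P₁.2.2 (exp (1 : ℤ))
  have hx1 : (1 : ℤᵐ⁰) < P₁.1 x := by
    rw [hx, ← exp_zero, exp_lt_exp]
    norm_num
  obtain ⟨S₁, hS₁⟩ : ∃ S₁ : Finset (Place k K), S₁ = insert P₁ S := ⟨_, rfl⟩
  obtain ⟨z, hz⟩ := exists_approx (fun i : S₁ => (i : Place k K)) Subtype.val_injective
    (fun i => if (i : Place k K) = P₁ then x else 1) 1
  have hP₁ : P₁.1 z = P₁.1 x := by
    have h1 := hz ⟨P₁, by rw [hS₁]; exact Finset.mem_insert_self _ _⟩
    simp only [if_true] at h1
    have h2 : P₁.1 (z - x) < P₁.1 x :=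
      lt_of_le_of_lt h1 (lt_trans exp_neg_one_lt_one hx1)
    have h3 : z = x + (z - x) := by ring
    rw [h3]
    exact Valuation.map_add_eq_of_lt_left _ h2
  have hother : ∀ P ∈ S₁, P ≠ P₁ → P.1 z = 1 := by
    intro P hP hne
    have h1 := hz ⟨P, hP⟩
    simp only [if_neg hne] at h1
    have h2 : P.1 (z - 1) < P.1 1 := by
      rw [map_one]
      exact lt_of_le_of_lt h1 exp_neg_one_lt_one
    have h3 : z = 1 + (z - 1) := by ring
    rw [h3, Valuation.map_add_eq_of_lt_left _ h2, map_one]
  have hzk : z ∉ Set.range (algebraMap k K) := by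
    rintro ⟨c, rfl⟩
    have := P₁.2.1 c
    rw [hP₁] at this
    exact absurd hx1 (not_lt.mpr this)
  obtain ⟨⟨Q, hQ⟩, -⟩ := exists_zero_and_pole hK hzk
  have hz0 : z ≠ 0 := by
    rintro rfl
    exact hzk ⟨0, map_zero _⟩
  have hQz : Q.1 z < 1 := (Q.ord_pos_iff hz0).mp hQ
  refine ⟨Q, fun hQS => ?_⟩
  have hQS₁ : Q ∈ S₁ := by rw [hS₁]; exact Finset.mem_insert_of_mem hQS
  by_cases hQP : Q = P₁
  · rw [hQP, hP₁] at hQz
    exact absurd (lt_trans hQz hx1) (lt_irrefl _)
  · rw [hother Q hQS₁ hQP] at hQz
    exact lt_irrefl _ hQz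

theorem infinite_place' (hK : IsFunctionField k K) : Infinite (Place k K) := by
  classical
  refine Infinite.of_not_fintype (fun hfin => ?_)
  obtain ⟨Q, hQ⟩ := exists_place_notMem hK (Finset.univ : Finset (Place k K))
  exact hQ (Finset.mem_univ Q)

/-- In `k(x)`, a zero of `x - c` has degree one. -/
theorem deg_eq_one_of_val_sub_lt_one (hK : IsFunctionField k K) {x : K} (hx : k⟮x⟯ = ⊤)
    (hxtr : Transcendental k x) (c : k) (P : Place k K)
    (hP : P.1 (x - algebraMap k K c) < 1) : P.deg = 1 := by
  classical
  have htr : Transcendental k (x - algebraMap k K c) := by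
    intro halg
    apply hxtr
    have := halg.add (isAlgebraic_algebraMap (R := k) (A := K) c)
    rwa [sub_add_cancel] at this
  obtain ⟨t, ht⟩ : ∃ t : K, t = x - algebraMap k K c := ⟨_, rfl⟩
  rw [← ht] at htr hP
  have ht0 : t ≠ 0 := fun h => htr (h ▸ isAlgebraic_zero)
  have hw : Transcendental k t⁻¹ := transcendental_inv hK htr
  have hadj : k⟮t⁻¹⟯ = ⊤ := by
    rw [adjoin_inv, ← hx]
    apply le_antisymm
    · rw [adjoin_simple_le_iff, ht]
      exact sub_mem (mem_adjoin_simple_self k x) (IntermediateField.algebraMap_mem _ c)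
    · rw [adjoin_simple_le_iff]
      have : x = t + algebraMap k K c := by rw [ht]; ring
      rw [this]
      exact add_mem (mem_adjoin_simple_self k t) (IntermediateField.algebraMap_mem _ c)
  have hdeg := deg_poleDiv_eq hK hw
  have hfr : Module.finrank k⟮t⁻¹⟯ K = 1 := by
    rw [hadj]
    exact IntermediateField.finrank_top
  rw [hfr] at hdeg
  have hord : 0 < P.ord t := (P.ord_pos_iff ht0).mpr hP
  have hle : (Finsupp.single P 1 : Divisor k K) ≤ poleDiv k t⁻¹ := by
    intro P'
    by_cases hPP : P' = P
    · subst hPP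
      rw [Finsupp.single_eq_same, poleDiv_apply hK, Place.ord_inv]
      have : (1 : ℤ) ≤ P'.ord t := hord
      simp only [neg_neg]
      exact le_max_of_le_left this
    · rw [Finsupp.single_eq_of_ne (fun h => hPP h)]
      exact poleDiv_nonneg _ P'
  have h1 := deg_mono hle
  rw [deg_single, hdeg] at h1
  have h2 := P.deg_pos hK
  have h3 : (P.deg : ℤ) ≤ 1 := by simpa using h1
  omega

theorem isSeparable_residueField_of_deg_eq_one (P : Place k K) (h : P.deg = 1) :
    Algebra.IsSeparable k (IsLocalRing.ResidueField P.O) := by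
  have hbt : (⊥ : Subalgebra k (IsLocalRing.ResidueField P.O)) = ⊤ :=
    Subalgebra.bot_eq_top_of_finrank_eq_one h
  refine ⟨fun ξ => ?_⟩
  have hξ : ξ ∈ (⊥ : Subalgebra k (IsLocalRing.ResidueField P.O)) := by
    rw [hbt]
    exact Algebra.mem_top
  obtain ⟨c, rfl⟩ := Algebra.mem_bot.mp hξ
  exact isSeparable_algebraMap c

/-- The rational function field over an infinite field has infinitely many separable places. -/
theorem infinite_separable_simple [Infinite k] (hK : IsFunctionField k K) {x : K}
    (hx : k⟮x⟯ = ⊤) (hxtr : Transcendental k x) :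
    {P : Place k K | Algebra.IsSeparable k (IsLocalRing.ResidueField P.O)}.Infinite := by
  classical
  have hxc : ∀ c : k, Transcendental k (x - algebraMap k K c) := by
    intro c halg
    apply hxtr
    have := halg.add (isAlgebraic_algebraMap (R := k) (A := K) c)
    rwa [sub_add_cancel] at this
  choose Pc hPc using fun c => exists_place_val_lt_one hK (hxc c)
  have hinj : Function.Injective Pc := by
    intro c c' hcc
    by_contra hne
    have h1 := hPc c
    have h2 := hPc c'
    rw [← hcc] at h2
    have h3 : (Pc c).1 (algebraMap k K (c - c')) < 1 := by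
      have : algebraMap k K (c - c') = (x - algebraMap k K c') - (x - algebraMap k K c) := by
        rw [map_sub]; ring
      rw [this]
      exact lt_of_le_of_lt ((Pc c).1.map_sub _ _) (max_lt h2 h1)
    rw [(Pc c).val_algebraMap (sub_ne_zero.2 hne)] at h3
    exact lt_irrefl _ h3
  refine Set.infinite_of_injective_forall_mem hinj (fun c => ?_)
  exact isSeparable_residueField_of_deg_eq_one _
    (deg_eq_one_of_val_sub_lt_one hK hx hxtr c (Pc c) (hPc c))

end Base

section Main

universe u v

variable {k : Type u} {K : Type v} [Field k] [Field K] [Algebra k K]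

/-- S11004: a geometric function field has infinitely many separable places. -/
theorem infinite_separable_places (hK : IsFunctionField k K) (hg : IsGeometric k K) :
    {P : Place k K | Algebra.IsSeparable k (IsLocalRing.ResidueField P.O)}.Infinite := by
  classical
  rcases finite_or_infinite k with hfin | hinf
  · haveI := infinite_place' hK
    have hall : {P : Place k K | Algebra.IsSeparable k (IsLocalRing.ResidueField P.O)} =
        Set.univ := by
      ext P
      simp only [Set.mem_ofPred_eq, Set.mem_univ, iff_true]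
      haveI : Algebra.IsAlgebraic k (IsLocalRing.ResidueField P.O) :=
        @Algebra.IsAlgebraic.of_finite k (IsLocalRing.ResidueField P.O) _ _ _ _
          (finiteDimensional_residueField hK P)
      exact Algebra.IsAlgebraic.isSeparable_of_perfectField
    rw [hall]
    exact Set.infinite_univ
  · obtain ⟨x, hx, hsep⟩ := exists_separating hK hg
    haveI := hsep
    haveI : FiniteDimensional k⟮x⟯ K := finiteDimensional_of_transcendental hK hx
    have hK₀ : IsFunctionField k k⟮x⟯ :=
      isFunctionField_intermediateField hK k⟮x⟯ ⟨x, mem_adjoin_simple_self k x, hx⟩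
    have hgen : IntermediateField.adjoin k ({AdjoinSimple.gen k x} : Set k⟮x⟯) = ⊤ := by
      apply IntermediateField.map_injective (k⟮x⟯).val
      rw [IntermediateField.adjoin_map, Set.image_singleton, ← AlgHom.fieldRange_eq_map,
        IntermediateField.fieldRange_val]
      rfl
    have hgentr : Transcendental k (AdjoinSimple.gen k x) := by
      intro halg
      apply hx
      have := halg.algebraMap (A := K)
      rwa [AdjoinSimple.algebraMap_gen] at this
    exact infinite_separable_of_extension hK₀ (infinite_separable_simple hK₀ hgen hgentr)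

end Main

end FunFld
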