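import Mathlib
import Groth.Agent.Lib.FunFldConstExtD_helper2
import Groth.Agent.Lib.FunFldHypB_helper2
import Groth.Agent.Lib.FunFldScalar_helper2
import Groth.Agent.Lib.FunFldPInsep_helper2

/-! Singular places of a function field, part 1 (helper2): the Riemann-type bound.

If `K'` is the constant field extension of `K/k` by a finite `k'/k`, then for every effective
divisor `E` of `K` the space `L(Con E)` of `K'/k'` has dimension at most `deg E + 1`, while it
contains `k' ⊗ L(E)` of dimension at least `deg E + 1 - g`.  Hence any family in `L(Con E)` which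
is `k'`-independent modulo `k' ⊗ L(E)` has at most `g` members. -/

set_option linter.style.haveILetI false

open Polynomial IntermediateField WithZero Module TensorProduct

namespace FunFld

namespace Sing

universe u u' v v'

section Conv

variable {k : Type*} {k' : Type*} {K' : Type*} [Field k] [Field k'] [Field K']
    [Algebra k k'] [Algebra k' K'] [Algebra k K'] [IsScalarTower k k' K']

/-- A place over `k'` is a place over `k`. -/
def downPl (Q : Place k' K') : Place k K' :=
  ⟨Q.1, fun c => by rw [IsScalarTower.algebraMap_apply k k' K']; exact Q.2.1 _, Q.2.2⟩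

/-- A place over `k` is a place over the algebraic extension `k'`. -/
def upPl [Algebra.IsAlgebraic k k'] (Q : Place k K') : Place k' K' :=
  ⟨Q.1, fun c => val_le_one_of_isIntegral (R := k) Q.1 Q.2.1
    ((Algebra.IsIntegral.isIntegral (R := k) c).map (IsScalarTower.toAlgHom k k' K')), Q.2.2⟩

@[simp] theorem downPl_val (Q : Place k' K') : (downPl (k := k) Q).1 = Q.1 := rfl

@[simp] theorem upPl_val [Algebra.IsAlgebraic k k'] (Q : Place k K') :
    (upPl (k' := k') Q).1 = Q.1 := rfl

theorem downPl_upPl [Algebra.IsAlgebraic k k'] (Q : Place k K') :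
    downPl (upPl (k' := k') Q) = Q := Subtype.ext rfl

theorem upPl_downPl [Algebra.IsAlgebraic k k'] (Q : Place k' K') :
    upPl (downPl (k := k) Q) = Q := Subtype.ext rfl

variable (k k' K') in
/-- Places over `k` and over `k'` are the same. -/
def plEquiv [Algebra.IsAlgebraic k k'] : Place k K' ≃ Place k' K' where
  toFun := upPl
  invFun := downPl
  left_inv := downPl_upPl
  right_inv := upPl_downPl

theorem deg_eq_mul_deg_upPl [Algebra.IsAlgebraic k k'] (Q : Place k K') :
    Q.deg = Module.finrank k k' * (upPl (k' := k') Q).deg := by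
  unfold Place.deg
  letI a0 : Algebra k (IsLocalRing.ResidueField Q.O) := Place.algRes Q
  letI a1 : Algebra k' (IsLocalRing.ResidueField Q.O) := Place.algRes (upPl (k' := k') Q)
  have t0 : IsScalarTower k k' (IsLocalRing.ResidueField Q.O) :=
    IsScalarTower.of_algebraMap_eq (fun c =>
      congrArg (IsLocalRing.residue Q.O) (Subtype.ext (IsScalarTower.algebraMap_apply k k' K' c)))
  exact (@Module.finrank_mul_finrank k k' (IsLocalRing.ResidueField Q.O) _ _ _ _ _ _ t0
    _ _ _ _).symm

section Div

variable [Algebra.IsAlgebraic k k']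

variable (k') in
/-- A divisor of `K'/k` as a divisor of `K'/k'`. -/
noncomputable def upDiv (D : Divisor k K') : Divisor k' K' :=
  Finsupp.equivMapDomain (plEquiv k k' K') D

theorem upDiv_apply (D : Divisor k K') (Q : Place k' K') : upDiv k' D Q = D (downPl Q) :=
  Finsupp.equivMapDomain_apply _ _ _

theorem mem_L_upDiv (D : Divisor k K') (z : K') : z ∈ L (upDiv k' D) ↔ z ∈ L D := by
  rw [mem_L, mem_L]
  constructor
  · intro h Q
    have := h (upPl Q)
    rwa [upDiv_apply, downPl_upPl] at this
  · intro h Q
    rw [upDiv_apply]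
    exact h (downPl Q)

theorem deg_upDiv (D : Divisor k K') :
    (Module.finrank k k' : ℤ) * Divisor.deg (upDiv k' D) = Divisor.deg D := by
  unfold Divisor.deg upDiv
  rw [Finsupp.sum_equivMapDomain, Finsupp.mul_sum]
  refine Finsupp.sum_congr (fun Q _ => ?_)
  show (Module.finrank k k' : ℤ) * (D Q * ((upPl (k' := k') Q).deg : ℤ)) = D Q * (Q.deg : ℤ)
  rw [deg_eq_mul_deg_upPl (k' := k') Q]
  push_cast
  ring

theorem upDiv_nonneg {D : Divisor k K'} (hD : 0 ≤ D) : 0 ≤ upDiv k' D := fun Q => by
  rw [upDiv_apply]
  exact hD _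

end Div

end Conv

section Bound

variable {k K : Type*} [Field k] [Field K] [Algebra k K]

theorem ell_le_deg_add_one (hK : IsFunctionField k K) (D : Divisor k K) (hD : 0 ≤ D) :
    (ell D : ℤ) ≤ Divisor.deg D + 1 := by
  obtain ⟨-, h⟩ := L_add_nonneg hK D hD 0 (finiteDimensional_L_zero hK)
  rw [zero_add, ell_zero hK] at h
  push_cast at h
  linarith

end Bound

section Coord

variable {k : Type u} {k' : Type u'} {K : Type v} {K' : Type v'} [Field k] [Field k'] [Field K]
    [Field K'] [Algebra k k'] [Algebra k K] [Algebra K K'] [Algebra k' K'] [Algebra k K']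
    [IsScalarTower k k' K'] [IsScalarTower k K K']
    {ι : Type*} [Fintype ι] (β : Basis ι k k') (B : Basis ι K K')
    (hB : ∀ i, B i = algebraMap k' K' (β i))

include hB in
theorem repr_const_mul (a : k') (v : K) (i : ι) :
    B.repr (algebraMap k' K' a * algebraMap K K' v) i = algebraMap k K (β.repr a i) * v := by
  have ha : algebraMap k' K' a = ∑ j, algebraMap k K (β.repr a j) • B j := by
    conv_lhs => rw [← β.sum_repr a]
    rw [map_sum]
    refine Finset.sum_congr rfl (fun j _ => ?_)
    rw [Algebra.smul_def (β.repr a j) (β j), map_mul, ← IsScalarTower.algebraMap_apply k k' K',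
      hB, Algebra.smul_def, ← IsScalarTower.algebraMap_apply k K K']
  have h2 : algebraMap k' K' a * algebraMap K K' v =
      ∑ j, (algebraMap k K (β.repr a j) * v) • B j := by
    rw [ha, Finset.sum_mul]
    refine Finset.sum_congr rfl (fun j _ => ?_)
    rw [Algebra.smul_def, Algebra.smul_def, map_mul]
    ring
  rw [h2, B.repr_sum_self]

/-- Coordinates integral at `P`. -/
def CI (B : Basis ι K K') (P : Place k K) (w : K') : Prop := ∀ i, P.1 (B.repr w i) ≤ 1

theorem CI_zero (P : Place k K) : CI B P 0 := fun i => by
  rw [map_zero, Finsupp.coe_zero, Pi.zero_apply, map_zero]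
  exact zero_le

theorem CI_add {P : Place k K} {x y : K'} (hx : CI B P x) (hy : CI B P y) : CI B P (x + y) :=
  fun i => by
    rw [map_add, Finsupp.add_apply]
    exact (P.1.map_add _ _).trans (max_le (hx i) (hy i))

theorem CI_neg {P : Place k K} {x : K'} (hx : CI B P x) : CI B P (-x) := fun i => by
  rw [map_neg, Finsupp.neg_apply, Valuation.map_neg]
  exact hx i

theorem CI_sub {P : Place k K} {x y : K'} (hx : CI B P x) (hy : CI B P y) : CI B P (x - y) := by
  rw [sub_eq_add_neg]
  exact CI_add B hx (CI_neg B hy)

theorem CI_sum {P : Place k K} {α : Type*} (s : Finset α) (f : α → K')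
    (h : ∀ a ∈ s, CI B P (f a)) : CI B P (∑ a ∈ s, f a) := by
  classical
  induction s using Finset.induction_on with
  | empty => rw [Finset.sum_empty]; exact CI_zero B P
  | insert a s ha ih =>
    rw [Finset.sum_insert ha]
    exact CI_add B (h a (Finset.mem_insert_self a s))
      (ih (fun b hb => h b (Finset.mem_insert_of_mem hb)))

theorem CI_alg_mul {P : Place k K} {s : K} (hs : P.1 s ≤ 1) {x : K'} (hx : CI B P x) :
    CI B P (algebraMap K K' s * x) := fun i => by
  rw [← Algebra.smul_def, map_smul, Finsupp.smul_apply, smul_eq_mul, map_mul]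
  exact mul_le_one' hs (hx i)

include hB in
theorem CI_const_mul (P : Place k K) (c : k') {x : K'} (hx : CI B P x) :
    CI B P (algebraMap k' K' c * x) := by
  letI : Algebra P.O K' := ((algebraMap K K').comp (algebraMap P.O K)).toAlgebra
  haveI : IsScalarTower P.O K K' := IsScalarTower.of_algebraMap_eq (fun _ => rfl)
  have key := mem_adjoin_iff_repr_gen (k₀ := k) (k₀' := k') P P.2.1 β B hB
  exact (key _).mp (Subalgebra.mul_mem _ (Algebra.subset_adjoin ⟨c, rfl⟩) ((key x).mpr hx))

include hB in
/-- The key bound. -/
theorem card_le_genus_of_indep [FiniteDimensional k k']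
    (hK : IsFunctionField k K) (hK' : IsFunctionField k' K')
    (E : Divisor k K) (hE : 0 ≤ E) {r : ℕ} (z : Fin r → K')
    (hz : ∀ l, z l ∈ L (conorm K' E))
    (hind : ∀ c : Fin r → k',
      (∀ i, B.repr (∑ l, algebraMap k' K' (c l) * z l) i ∈ L E) → c = 0) :
    r ≤ genus k K := by
  classical
  haveI : FiniteDimensional K K' := Module.Finite.of_basis B
  haveI : Algebra.IsAlgebraic k k' := Algebra.IsAlgebraic.of_finite k k'
  haveI := finiteDimensional_L hK E
  obtain ⟨v, hv⟩ : ∃ v : Basis (Fin (finrank k (L E))) k (L E), v = Module.finBasis k (L E) :=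
    ⟨_, rfl⟩
  obtain ⟨w, hw⟩ : ∃ w : Fin (finrank k (L E)) ⊕ Fin r → K',
      w = Sum.elim (fun j => algebraMap K K' (v j : K)) z := ⟨_, rfl⟩
  have hwL : ∀ x, w x ∈ L (upDiv k' (conorm K' E)) := by
    intro x
    rw [mem_L_upDiv, hw]
    cases x with
    | inl j => exact (algebraMap_mem_L_conorm_iff hK E _).mpr (v j).2
    | inr l => exact hz l
  have hli : LinearIndependent k' w := by
    rw [Fintype.linearIndependent_iff]
    intro g hg
    rw [Fintype.sum_sum_type, hw] at hg
    simp only [Sum.elim_inl, Sum.elim_inr] at hg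
    have hcoord : ∀ i, B.repr (∑ j, g (Sum.inl j) • algebraMap K K' (v j : K)) i =
        ∑ j, algebraMap k K (β.repr (g (Sum.inl j)) i) * (v j : K) := by
      intro i
      rw [map_sum, Finsupp.coe_finset_sum, Finset.sum_apply]
      refine Finset.sum_congr rfl (fun j _ => ?_)
      rw [Algebra.smul_def, repr_const_mul β B hB]
    have hsumL : ∀ i, ∑ j, algebraMap k K (β.repr (g (Sum.inl j)) i) * (v j : K) ∈ L E := by
      intro i
      refine Submodule.sum_mem _ (fun j _ => ?_)
      rw [← Algebra.smul_def]
      exact (L E).smul_mem _ (v j).2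
    have hc : (fun l => g (Sum.inr l)) = 0 := by
      apply hind
      intro i
      have h1 : ∑ l, algebraMap k' K' (g (Sum.inr l)) * z l =
          -(∑ j, g (Sum.inl j) • algebraMap K K' (v j : K)) := by
        rw [eq_neg_iff_add_eq_zero, add_comm]
        rw [← hg]
        congr 1
        exact Finset.sum_congr rfl (fun l _ => (Algebra.smul_def _ _).symm)
      rw [h1, map_neg, Finsupp.neg_apply, hcoord]
      exact (L E).neg_mem (hsumL i)
    have hc' : ∀ l, g (Sum.inr l) = 0 := fun l => congrFun hc l
    have hg2 : ∑ j, g (Sum.inl j) • algebraMap K K' (v j : K) = 0 := by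
      have : ∑ l, g (Sum.inr l) • z l = 0 :=
        Finset.sum_eq_zero (fun l _ => by rw [hc' l, zero_smul])
      rwa [this, add_zero] at hg
    have hzero : ∀ i j, β.repr (g (Sum.inl j)) i = 0 := by
      intro i
      have h1 := hcoord i
      rw [hg2, map_zero, Finsupp.coe_zero, Pi.zero_apply] at h1
      have h2 : ∑ j, β.repr (g (Sum.inl j)) i • v j = 0 := by
        apply Subtype.ext
        rw [Submodule.coe_sum, Submodule.coe_zero, h1]
        refine Finset.sum_congr rfl (fun j _ => ?_)
        rw [Submodule.coe_smul, Algebra.smul_def]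
      exact fun j => Fintype.linearIndependent_iff.mp v.linearIndependent _ h2 j
    intro x
    cases x with
    | inl j =>
      apply (LinearEquiv.map_eq_zero_iff β.repr).mp
      ext i
      rw [hzero i j, Finsupp.coe_zero, Pi.zero_apply]
    | inr l => exact hc' l
  have hcard : finrank k (L E) + r ≤ ell (upDiv k' (conorm K' E)) := by
    haveI := finiteDimensional_L hK' (upDiv k' (conorm K' E))
    have h1 := finrank_span_eq_card hli
    rw [Fintype.card_sum, Fintype.card_fin, Fintype.card_fin] at h1
    rw [← h1]
    exact Submodule.finrank_mono (Submodule.span_le.mpr (Set.range_subset_iff.mpr hwL))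
  have hconnn : (0 : Divisor k K') ≤ conorm K' E := fun Q => by
    obtain ⟨P, e, he⟩ := exists_isOverWith hK Q
    rw [conorm_apply_isOverWith hK E he, Finsupp.coe_zero, Pi.zero_apply]
    exact mul_nonneg (Int.natCast_nonneg _) (hE P)
  have h1 := ell_le_deg_add_one hK' _ (upDiv_nonneg (k' := k') hconnn)
  have h2 := deg_upDiv (k' := k') (conorm K' E)
  rw [deg_conorm hK E] at h2
  have hn : Module.finrank K K' = Module.finrank k k' := by
    rw [Module.finrank_eq_card_basis B, Module.finrank_eq_card_basis β]
  rw [hn] at h2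
  have hnpos : (0 : ℤ) < Module.finrank k k' := by exact_mod_cast Module.finrank_pos
  have h3 : Divisor.deg (upDiv k' (conorm K' E)) = Divisor.deg E :=
    mul_left_cancel₀ hnpos.ne' h2
  have h4 := delta_le_genus hK E
  have h5 : ((finrank k (L E) + r : ℕ) : ℤ) ≤ ell (upDiv k' (conorm K' E)) := by
    exact_mod_cast hcard
  have h6 : (ell E : ℤ) = finrank k (L E) := rfl
  push_cast at h5
  rw [h3] at h1
  have : (r : ℤ) ≤ genus k K := by linarith
  exact_mod_cast this

end Coord

end Sing

end FunFld
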