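import Mathlib
import Groth.Agent.Lib.FunFldSing1_helper2

/-! Singular places of a function field, part 2 (helper2): bounding divisors, and the bound on the
number of places that are singular with respect to a fixed constant field extension. -/

set_option linter.style.haveILetI false

open Polynomial IntermediateField WithZero Module TensorProduct

namespace FunFld

namespace Sing

universe u u' v v'

section Bounding

variable {k K K' : Type*} [Field k] [Field K] [Field K'] [Algebra k K] [Algebra K K']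
    [Algebra k K'] [IsScalarTower k K K'] [FiniteDimensional K K']

theorem exists_bounding_divisor_one (hK : IsFunctionField k K) (PP : Set (Place k K)) (z : K')
    (hz : ∀ P ∈ PP, ∀ Q : Place k K', IsOver Q P → Q.1 z ≤ 1) :
    ∃ E : Divisor k K, 0 ≤ E ∧ (∀ P ∈ PP, E P = 0) ∧ z ∈ L (conorm K' E) := by
  classical
  have hfin := finite_support_ord_ext hK z
  choose below eb hb using fun Q : Place k K' => exists_isOverWith hK Q
  obtain ⟨m, hm⟩ : ∃ m : Place k K' → ℤ, m = fun Q => max 0 (-(Q.ord z)) := ⟨_, rfl⟩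
  have hmQ : ∀ Q, m Q = max 0 (-(Q.ord z)) := fun Q => by rw [hm]
  have hm0 : ∀ Q, 0 ≤ m Q := fun Q => by rw [hmQ]; exact le_max_left _ _
  obtain ⟨E, hE⟩ : ∃ E : Divisor k K,
      E = ∑ Q ∈ hfin.toFinset, Finsupp.single (below Q) (m Q) := ⟨_, rfl⟩
  have hEapp : ∀ P, E P = ∑ Q ∈ hfin.toFinset, (Finsupp.single (below Q) (m Q)) P := fun P => by
    rw [hE, Finsupp.finset_sum_apply]
  have hterm0 : ∀ Q P, 0 ≤ (Finsupp.single (below Q) (m Q)) P := fun Q P => by
    rw [Finsupp.single_apply]
    split_ifs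
    · exact hm0 Q
    · exact le_rfl
  have hE0 : 0 ≤ E := fun P => by
    rw [hEapp, Finsupp.coe_zero, Pi.zero_apply]
    exact Finset.sum_nonneg (fun Q _ => hterm0 Q P)
  refine ⟨E, hE0, ?_, ?_⟩
  · intro P hP
    rw [hEapp]
    apply Finset.sum_eq_zero
    intro Q _
    rw [Finsupp.single_apply]
    split_ifs with h
    · have hQP : IsOver Q P := h ▸ ⟨eb Q, hb Q⟩
      have h1 := hz P hP Q hQP
      rw [hmQ]
      by_cases hz0 : z = 0
      · rw [hz0, Place.ord_zero, neg_zero, max_self]
      · have := (Q.ord_nonneg_iff hz0).mpr h1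
        exact max_eq_left (by omega)
    · rfl
  · rw [mem_L]
    intro Q
    by_cases hz0 : z = 0
    · rw [hz0, map_zero]
      exact zero_le
    rw [conorm_apply_isOverWith hK E (hb Q), Q.val_le_exp_iff hz0]
    have he1 : (1 : ℤ) ≤ eb Q := by exact_mod_cast (hb Q).pos
    have hEb0 : 0 ≤ E (below Q) := hE0 _
    by_cases hQ : Q ∈ hfin.toFinset
    · have h1 : m Q ≤ E (below Q) := by
        rw [hEapp]
        have h2 : (Finsupp.single (below Q) (m Q)) (below Q) = m Q := Finsupp.single_eq_same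
        rw [← h2]
        exact Finset.single_le_sum (f := fun Q' => (Finsupp.single (below Q') (m Q')) (below Q))
          (fun Q' _ => hterm0 Q' (below Q)) hQ
      have h3 : -(Q.ord z) ≤ m Q := by rw [hmQ]; exact le_max_right _ _
      nlinarith
    · have h1 : Q.ord z = 0 := by
        by_contra hne
        exact hQ (hfin.mem_toFinset.mpr hne)
      rw [h1]
      nlinarith

theorem L_conorm_mono (hK : IsFunctionField k K) {E E' : Divisor k K} (h : E ≤ E') :
    L (conorm K' E) ≤ L (conorm K' E') := by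
  intro z hz
  rw [mem_L] at hz ⊢
  intro Q
  obtain ⟨P, e, he⟩ := exists_isOverWith hK Q
  refine (hz Q).trans ?_
  rw [exp_le_exp, conorm_apply_isOverWith hK E he, conorm_apply_isOverWith hK E' he]
  exact mul_le_mul_of_nonneg_left (h P) (Int.natCast_nonneg _)

theorem exists_bounding_divisor (hK : IsFunctionField k K) (PP : Set (Place k K)) {r : ℕ}
    (z : Fin r → K')
    (hz : ∀ l, ∀ P ∈ PP, ∀ Q : Place k K', IsOver Q P → Q.1 (z l) ≤ 1) :
    ∃ E : Divisor k K, 0 ≤ E ∧ (∀ P ∈ PP, E P = 0) ∧ ∀ l, z l ∈ L (conorm K' E) := by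
  classical
  choose E hE0 hEP hEz using fun l => exists_bounding_divisor_one hK PP (z l) (hz l)
  refine ⟨∑ l, E l, ?_, ?_, ?_⟩
  · exact Finset.sum_nonneg (fun l _ => hE0 l)
  · intro P hP
    rw [Finsupp.finset_sum_apply]
    exact Finset.sum_eq_zero (fun l _ => hEP l P hP)
  · intro l
    refine L_conorm_mono hK ?_ (hEz l)
    exact Finset.single_le_sum (f := E) (fun l' _ => hE0 l') (Finset.mem_univ l)

end Bounding

section Main

variable {k : Type u} {k' : Type u'} {K : Type v} {K' : Type v'} [Field k] [Field k'] [Field K]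
    [Field K'] [Algebra k k'] [Algebra k K] [Algebra K K'] [Algebra k' K'] [Algebra k K']
    [IsScalarTower k k' K'] [IsScalarTower k K K']
    {ι : Type*} [Fintype ι] (β : Basis ι k k') (B : Basis ι K K')
    (hB : ∀ i, B i = algebraMap k' K' (β i))

include hB in
/-- A family integral over all places of `PP` and `k'`-independent modulo the elements with
coordinates integral at all places of `PP` has at most `g` members. -/
theorem card_le_genus_of_indep_set [FiniteDimensional k k']
    (hK : IsFunctionField k K) (hK' : IsFunctionField k' K') (PP : Set (Place k K)) {r : ℕ}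
    (z : Fin r → K')
    (hz : ∀ l, ∀ P ∈ PP, ∀ Q : Place k K', IsOver Q P → Q.1 (z l) ≤ 1)
    (hind : ∀ c : Fin r → k',
      (∀ P ∈ PP, CI B P (∑ l, algebraMap k' K' (c l) * z l)) → c = 0) :
    r ≤ genus k K := by
  haveI : FiniteDimensional K K' := Module.Finite.of_basis B
  obtain ⟨E, hE0, hEP, hEz⟩ := exists_bounding_divisor hK PP z hz
  refine card_le_genus_of_indep β B hB hK hK' E hE0 z hEz (fun c hc => hind c ?_)
  intro P hP i
  have h2 := (mem_L.mp (hc i)) P
  rwa [hEP P hP, exp_zero] at h2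

include hB in
/-- At most `g` places are singular with respect to a fixed constant field extension. -/
theorem card_le_genus_of_sing [FiniteDimensional k k']
    (hK : IsFunctionField k K) (hK' : IsFunctionField k' K') (T : Finset (Place k K))
    (hT : ∀ P ∈ T, ∃ z : K', (∀ Q : Place k K', IsOver Q P → Q.1 z ≤ 1) ∧ ¬ CI B P z) :
    T.card ≤ genus k K := by
  classical
  haveI : FiniteDimensional K K' := Module.Finite.of_basis B
  haveI : Algebra.IsAlgebraic k k' := Algebra.IsAlgebraic.of_finite k k'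
  have hconst : ∀ (Q : Place k K') (a : k'), Q.1 (algebraMap k' K' a) ≤ 1 := fun Q a =>
    Q.val_algebraMap_const_le_one a
  choose! z0 hz0 hz0' using hT
  have hN : ∀ P ∈ T, ∃ N : ℤ, ∀ P' ∈ T, ∀ i, P'.1 (B.repr (z0 P) i) ≤ exp N := by
    intro P _
    obtain ⟨M, hM⟩ := Finset.exists_le ((T ×ˢ (Finset.univ : Finset ι)).image
      (fun p : Place k K × ι => log (p.1.1 (B.repr (z0 P) p.2))))
    refine ⟨M, fun P' hP' i => ?_⟩
    apply le_exp_of_log_le
    exact hM _ (Finset.mem_image.mpr
      ⟨(P', i), Finset.mem_product.mpr ⟨hP', Finset.mem_univ i⟩, rfl⟩)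
  choose! N hN using hN
  have hs : ∀ P ∈ T, ∃ s : K, P.1 (s - 1) ≤ exp (-1 : ℤ) ∧
      ∀ P' ∈ T, P' ≠ P → P'.1 s ≤ exp (-(N P)) := by
    intro P hP
    obtain ⟨s, hs⟩ := exists_approx (fun i : T => (i : Place k K)) Subtype.val_injective
      (fun i : T => if (i : Place k K) = P then (1 : K) else 0) (max (N P) 1)
    refine ⟨s, ?_, ?_⟩
    · have := hs ⟨P, hP⟩
      simp only [if_true] at this
      exact this.trans (exp_le_exp.mpr (neg_le_neg (le_max_right _ _)))
    · intro P' hP' hne
      have := hs ⟨P', hP'⟩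
      simp only [if_neg hne, sub_zero] at this
      exact this.trans (exp_le_exp.mpr (neg_le_neg (le_max_left _ _)))
  choose! s hs1 hs2 using hs
  have hsP : ∀ P ∈ T, P.1 (s P) = 1 := by
    intro P hP
    have h1 : P.1 (s P - 1) < P.1 (1 : K) := by
      rw [map_one]
      exact lt_of_le_of_lt (hs1 P hP) exp_neg_one_lt_one
    have h2 : s P = (s P - 1) + 1 := by ring
    rw [h2, Valuation.map_add_eq_of_lt_right _ h1, map_one]
  obtain ⟨z1, hz1⟩ : ∃ z1 : Place k K → K', z1 = fun P => algebraMap K K' (s P) * z0 P :=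
    ⟨_, rfl⟩
  have hrepr : ∀ P i, B.repr (z1 P) i = s P * B.repr (z0 P) i := fun P i => by
    rw [hz1]
    show B.repr (algebraMap K K' (s P) * z0 P) i = _
    rw [← Algebra.smul_def, map_smul, Finsupp.smul_apply, smul_eq_mul]
  have hCIne : ∀ P ∈ T, ∀ P' ∈ T, P' ≠ P → CI B P' (z1 P) := by
    intro P hP P' hP' hne i
    rw [hrepr, map_mul]
    calc P'.1 (s P) * P'.1 (B.repr (z0 P) i) ≤ exp (-(N P)) * exp (N P) :=
          mul_le_mul' (hs2 P hP P' hP' hne) (hN P hP P' hP' i)
      _ = 1 := by rw [← exp_add, neg_add_cancel, exp_zero]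
  have hnCI : ∀ P ∈ T, ¬ CI B P (z1 P) := by
    intro P hP hCI
    apply hz0' P hP
    intro i
    have := hCI i
    rwa [hrepr, map_mul, hsP P hP, one_mul] at this
  have hint : ∀ P ∈ T, ∀ P' ∈ T, ∀ Q : Place k K', IsOver Q P' → Q.1 (z1 P) ≤ 1 := by
    intro P hP P' hP' Q hQ
    by_cases hne : P' = P
    · rw [hne] at hQ
      obtain ⟨e, he⟩ := hQ
      rw [hz1]
      show Q.1 (algebraMap K K' (s P) * z0 P) ≤ 1
      rw [map_mul, he, hsP P hP, one_pow, one_mul]
      exact hz0 P hP Q ⟨e, he⟩
    · exact le_one_of_repr_le_one hQ B (fun i => by rw [hB]; exact hconst Q _) _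
        (hCIne P hP P' hP' hne)
  obtain ⟨en, -⟩ : ∃ en : T ≃ Fin T.card, en = T.equivFin := ⟨_, rfl⟩
  obtain ⟨z, hzdef⟩ : ∃ z : Fin T.card → K', z = fun l => z1 (en.symm l : Place k K) :=
    ⟨_, rfl⟩
  have hzl : ∀ l, z l = z1 (en.symm l : Place k K) := fun l => by rw [hzdef]
  refine card_le_genus_of_indep_set β B hB hK hK' (↑T : Set (Place k K)) z
    (fun l P hP Q hQ => by
      rw [hzl]
      exact hint _ (en.symm l).2 P (Finset.mem_coe.mp hP) Q hQ) ?_
  intro c hc
  funext l₀
  by_contra hne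
  have hne' : c l₀ ≠ 0 := hne
  have hP : (en.symm l₀ : Place k K) ∈ T := (en.symm l₀).2
  apply hnCI _ hP
  have hsplit : algebraMap k' K' (c l₀) * z l₀ = (∑ l, algebraMap k' K' (c l) * z l) -
      ∑ l ∈ Finset.univ.erase l₀, algebraMap k' K' (c l) * z l := by
    rw [← Finset.add_sum_erase _ _ (Finset.mem_univ l₀)]
    ring
  have h1 : CI B (en.symm l₀ : Place k K) (algebraMap k' K' (c l₀) * z l₀) := by
    rw [hsplit]
    refine CI_sub B (hc _ (Finset.mem_coe.mpr hP)) (CI_sum B _ _ (fun l hl => ?_))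
    refine CI_const_mul β B hB _ (c l) ?_
    rw [hzl]
    refine hCIne _ (en.symm l).2 _ hP ?_
    intro heq
    apply (Finset.mem_erase.mp hl).1
    exact (en.symm.injective (Subtype.ext heq)).symm
  have h2 := CI_const_mul β B hB _ (c l₀)⁻¹ h1
  rwa [← mul_assoc, ← map_mul, inv_mul_cancel₀ hne', map_one, one_mul, hzl] at h2

end Main

end Sing

end FunFld
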