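import Mathlib
import Groth.Agent.Lib.FunFldSing2_helper2

/-! Singular places of a function field, part 3 (helper2): models of constant field extensions
(composites, intermediate models, independence of the model) and the universe-polymorphic form of
the tower criterion for nonsingularity. -/

set_option linter.style.haveILetI false

open Polynomial IntermediateField WithZero Module TensorProduct

namespace FunFld

namespace Sing

section Core

variable {k k' k'' K K' K'' : Type*} [Field k] [Field k'] [Field k''] [Field K]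
    [Field K'] [Field K'']
    [Algebra k k'] [Algebra k' k''] [Algebra k k''] [IsScalarTower k k' k'']
    [FiniteDimensional k k'] [FiniteDimensional k' k'']
    [Algebra k K] [Algebra K K'] [Algebra k' K'] [Algebra k K'] [IsScalarTower k k' K']
    [IsScalarTower k K K']
    [Algebra K' K''] [Algebra k'' K''] [Algebra k' K''] [Algebra k K''] [Algebra K K'']
    [IsScalarTower k' k'' K''] [IsScalarTower k' K' K''] [IsScalarTower K K' K'']
    [IsScalarTower k K K'']

/-- S12534, universe-polymorphic version. -/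
theorem nonsingular_scalar_tower_iff'
    (h1 : Function.Bijective (Algebra.TensorProduct.productMap
      (IsScalarTower.toAlgHom k k' K') (IsScalarTower.toAlgHom k K K')))
    (h2 : Function.Bijective (Algebra.TensorProduct.productMap
      (IsScalarTower.toAlgHom k' k'' K'') (IsScalarTower.toAlgHom k' K' K'')))
    (hK : IsFunctionField k K) (P : Place k K) :
    (integralClosure (P.O.toSubring.map (algebraMap K K'')) K'' =
        Algebra.adjoin (P.O.toSubring.map (algebraMap K K'')) (Set.range (algebraMap k'' K''))) ↔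
      (integralClosure (P.O.toSubring.map (algebraMap K K')) K' =
          Algebra.adjoin (P.O.toSubring.map (algebraMap K K')) (Set.range (algebraMap k' K')) ∧
        ∀ Q : Place k K', IsOver Q P →
          integralClosure (Q.O.toSubring.map (algebraMap K' K'')) K'' =
            Algebra.adjoin (Q.O.toSubring.map (algebraMap K' K''))
              (Set.range (algebraMap k'' K''))) := by
  classical
  haveI : FiniteDimensional K K' := finiteDimensional_constExt h1
  haveI : FiniteDimensional K' K'' := finiteDimensional_constExt h2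
  haveI : FiniteDimensional K K'' := FiniteDimensional.trans K K' K''
  haveI t1 : IsScalarTower k K' K'' := IsScalarTower.of_algebraMap_eq (fun c => by
    rw [IsScalarTower.algebraMap_apply k K K'', IsScalarTower.algebraMap_apply K K' K'',
      ← IsScalarTower.algebraMap_apply k K K'])
  haveI t2 : IsScalarTower k k'' K'' := IsScalarTower.of_algebraMap_eq (fun c => by
    rw [IsScalarTower.algebraMap_apply k K' K'', IsScalarTower.algebraMap_apply k k' K',
      ← IsScalarTower.algebraMap_apply k' K' K'', IsScalarTower.algebraMap_apply k' k'' K'',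
      ← IsScalarTower.algebraMap_apply k k' k''])
  haveI : FiniteDimensional k k'' := FiniteDimensional.trans k k' k''
  -- bases
  obtain ⟨β, hβ⟩ : ∃ β : Basis (Fin (finrank k k')) k k', β = Module.finBasis k k' := ⟨_, rfl⟩
  obtain ⟨γ, hγ⟩ : ∃ γ : Basis (Fin (finrank k' k'')) k' k'', γ = Module.finBasis k' k'' :=
    ⟨_, rfl⟩
  obtain ⟨B₁, hB₁def⟩ : ∃ B₁, B₁ = constBasis h1 β := ⟨_, rfl⟩
  obtain ⟨B₂, hB₂def⟩ : ∃ B₂, B₂ = constBasis h2 γ := ⟨_, rfl⟩
  have hB₁ : ∀ i, B₁ i = algebraMap k' K' (β i) := fun i => by rw [hB₁def, constBasis_apply]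
  have hB₂ : ∀ j, B₂ j = algebraMap k'' K'' (γ j) := fun j => by rw [hB₂def, constBasis_apply]
  obtain ⟨BB, hBBdef⟩ : ∃ BB, BB = B₁.smulTower B₂ := ⟨_, rfl⟩
  have hBB : ∀ ij, BB ij = algebraMap k'' K'' ((β.smulTower γ) ij) := fun ij => by
    rw [hBBdef, Basis.smulTower_apply, Basis.smulTower_apply, Algebra.smul_def, hB₁, hB₂,
      ← IsScalarTower.algebraMap_apply k' K' K'', IsScalarTower.algebraMap_apply k' k'' K'',
      ← map_mul, Algebra.smul_def]
  have hBBrepr : ∀ z ij, BB.repr z ij = B₁.repr (B₂.repr z ij.2) ij.1 := fun z ij => by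
    rw [hBBdef, Basis.smulTower_repr]
  -- constants
  have hconst'' : ∀ (R : Place k K'') (a : k''), R.1 (algebraMap k'' K'' a) ≤ 1 := fun R a =>
    val_le_one_of_isIntegral R.1 R.2.1
      ((Algebra.IsIntegral.isIntegral (R := k) a).map (IsScalarTower.toAlgHom k k'' K''))
  have hconst' : ∀ (Q : Place k K') (a : k'), Q.1 (algebraMap k' K' a) ≤ 1 := fun Q a =>
    val_le_one_of_isIntegral Q.1 Q.2.1
      ((Algebra.IsIntegral.isIntegral (R := k) a).map (IsScalarTower.toAlgHom k k' K'))
  -- bridging
  rw [nonsingular_iff_coords (k₀ := k) (k₀' := k'') P P.2.1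
      (fun z => isIntegral_iff_forall_isOver hK P z) (β.smulTower γ) BB hBB hconst'',
    nonsingular_iff_coords (k₀ := k) (k₀' := k') P P.2.1
      (fun z => isIntegral_iff_forall_isOver hK P z) β B₁ hB₁ hconst']
  have hbrQ : ∀ Q : Place k K',
      (integralClosure (Q.O.toSubring.map (algebraMap K' K'')) K'' =
        Algebra.adjoin (Q.O.toSubring.map (algebraMap K' K''))
          (Set.range (algebraMap k'' K''))) ↔
      ∀ z : K'', (∀ R : Place k K'', IsOver R Q → R.1 z ≤ 1) → ∀ j, Q.1 (B₂.repr z j) ≤ 1 :=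
    fun Q => nonsingular_iff_coords (k₀ := k') (k₀' := k'') Q (hconst' Q)
      (fun z => isIntegral_iff_forall_isOver_tower hK Q z) γ B₂ hB₂ hconst''
  simp only [hbrQ]
  -- tower facts
  have hbelow : ∀ R : Place k K'', IsOver R P → ∃ Q : Place k K', IsOver Q P ∧ IsOver R Q := by
    intro R hRP
    obtain ⟨Q, e₂, h₂⟩ := exists_isOverWith_tower (K' := K') hK R
    obtain ⟨P', e₁, h₁⟩ := exists_isOverWith hK Q
    have hRP' : IsOver R P' := ⟨_, h₂.trans h₁⟩
    have : P' = P := hRP'.unique_below hRP
    subst this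
    exact ⟨Q, ⟨e₁, h₁⟩, ⟨e₂, h₂⟩⟩
  have htrans : ∀ (R : Place k K'') (Q : Place k K'), IsOver R Q → IsOver Q P → IsOver R P := by
    rintro R Q ⟨e₂, h₂⟩ ⟨e₁, h₁⟩
    exact ⟨_, h₂.trans h₁⟩
  have hauto' : ∀ w : K', (∀ i, P.1 (B₁.repr w i) ≤ 1) →
      ∀ Q : Place k K', IsOver Q P → Q.1 w ≤ 1 := fun w hw Q hQ =>
    le_one_of_repr_le_one hQ B₁ (fun i => by rw [hB₁]; exact hconst' Q _) w hw
  constructor
  · intro hN
    constructor
    · -- `N_P'`
      intro w hw i
      haveI : Nonempty (Fin (finrank k' k'')) := ⟨⟨0, Module.finrank_pos⟩⟩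
      obtain ⟨j'⟩ := ‹Nonempty (Fin (finrank k' k''))›
      have hz : ∀ R : Place k K'', IsOver R P → R.1 (w • B₂ j') ≤ 1 := by
        intro R hRP
        obtain ⟨Q, hQP, e₂, h₂⟩ := hbelow R hRP
        rw [Algebra.smul_def, map_mul, h₂, hB₂]
        exact (mul_le_mul' (pow_le_one₀ zero_le (hw Q hQP)) (hconst'' R _)).trans_eq (one_mul _)
      have := hN (w • B₂ j') hz (i, j')
      rw [hBBrepr, map_smul, Basis.repr_self, Finsupp.smul_apply, Finsupp.single_eq_same,
        smul_eq_mul, mul_one] at this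
      exact this
    · -- `N_Q''`
      intro Q hQP z hz j
      by_cases hz0 : z = 0
      · rw [hz0, map_zero, Finsupp.coe_zero, Pi.zero_apply, map_zero]
        exact zero_le
      have hfinT := finite_isOver (K' := K'') hK P
      have hfinS := finite_isOver (K' := K') hK P
      obtain ⟨M, hM⟩ := Finset.exists_le (hfinT.toFinset.image (fun R => log (R.1 z)))
      obtain ⟨N, hN0, hNM⟩ : ∃ N : ℤ, 1 ≤ N ∧ M ≤ N := ⟨max M 1, le_max_right _ _, le_max_left _ _⟩
      have hbound : ∀ R : Place k K'', IsOver R P → R.1 z ≤ exp N := by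
        intro R hR
        apply le_exp_of_log_le
        exact (hM _ (Finset.mem_image.mpr ⟨R, hfinT.mem_toFinset.mpr hR, rfl⟩)).trans hNM
      obtain ⟨S, hS⟩ : ∃ S : Finset (Place k K'), S = hfinS.toFinset := ⟨_, rfl⟩
      have hSmem : ∀ Q', Q' ∈ S ↔ IsOver Q' P := fun Q' => by
        rw [hS]
        exact hfinS.mem_toFinset
      obtain ⟨u, hu⟩ := exists_approx (fun i : S => (i : Place k K')) Subtype.val_injective
        (fun i => if (i : Place k K') = Q then (1 : K') else 0) N
      have huQ : Q.1 (u - 1) ≤ exp (-N) := by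
        have := hu ⟨Q, (hSmem Q).mpr hQP⟩
        simp only [if_true] at this
        exact this
      have hexplt : exp (-N) < (1 : ℤᵐ⁰) := by
        rw [← exp_zero, exp_lt_exp]
        omega
      have huQ1 : Q.1 u = 1 := by
        have h2 : u = 1 + (u - 1) := by ring
        rw [h2, Valuation.map_add_eq_of_lt_left, map_one]
        rw [map_one]
        exact lt_of_le_of_lt huQ hexplt
      have huz : ∀ R : Place k K'', IsOver R P → R.1 (u • z) ≤ 1 := by
        intro R hRP
        obtain ⟨Q', hQ'P, e₂, h₂⟩ := hbelow R hRP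
        rw [Algebra.smul_def, map_mul, h₂]
        by_cases hQQ : Q' = Q
        · subst hQQ
          rw [huQ1, one_pow, one_mul]
          exact hz R ⟨e₂, h₂⟩
        · have h3 := hu ⟨Q', (hSmem Q').mpr hQ'P⟩
          simp only [if_neg hQQ, sub_zero] at h3
          have h4 : Q'.1 u ^ e₂ ≤ exp (-N) := by
            calc Q'.1 u ^ e₂ ≤ Q'.1 u ^ 1 :=
                  pow_le_pow_of_le_one zero_le (h3.trans hexplt.le) h₂.pos
              _ = Q'.1 u := pow_one _
              _ ≤ exp (-N) := h3
          calc Q'.1 u ^ e₂ * R.1 z ≤ exp (-N) * exp N := mul_le_mul' h4 (hbound R hRP)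
            _ = 1 := by rw [← exp_add, neg_add_cancel, exp_zero]
      have h5 := hN (u • z) huz
      have h6 : ∀ i, P.1 (B₁.repr (B₂.repr (u • z) j) i) ≤ 1 := fun i => by
        have := h5 (i, j)
        rwa [hBBrepr] at this
      have h7 := hauto' _ h6 Q hQP
      rw [map_smul, Finsupp.smul_apply, smul_eq_mul, map_mul, huQ1, one_mul] at h7
      exact h7
  · rintro ⟨hN', hNQ⟩ z hz ij
    rw [hBBrepr]
    apply hN'
    intro Q hQP
    exact hNQ Q hQP z (fun R hRQ => hz R (htrans R Q hRQ hQP)) ij.2


end Core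

section Models

universe u u' v v'

variable {k : Type u} {k' : Type u'} {K : Type v} {K' : Type v'} [Field k] [Field k'] [Field K]
    [Field K'] [Algebra k k'] [Algebra k K] [Algebra K K'] [Algebra k' K'] [Algebra k K']
    [IsScalarTower k k' K'] [IsScalarTower k K K']

/-- A `K`-basis of `K'` consisting of the images of a `k`-basis of `k'` exhibits `K'` as the
constant field extension. -/
theorem bijective_of_basis {ι : Type*} (β : Basis ι k k') (B : Basis ι K K')
    (hB : ∀ i, B i = algebraMap k' K' (β i)) :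
    Function.Bijective (Algebra.TensorProduct.productMap
      (IsScalarTower.toAlgHom k k' K') (IsScalarTower.toAlgHom k K K')) := by
  have h1 : (prodRight k k' K K').toLinearMap =
      ((Algebra.TensorProduct.basis K β).equiv B (Equiv.refl ι)).toLinearMap := by
    apply (Algebra.TensorProduct.basis K β).ext
    intro i
    rw [LinearEquiv.coe_coe, Basis.equiv_apply, Equiv.refl_apply,
      Algebra.TensorProduct.basis_apply, hB]
    show prodRight k k' K K' (1 ⊗ₜ β i) = _
    rw [prodRight_tmul, map_one, one_mul]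
  have h2 : Function.Bijective (prodRight k k' K K') := by
    have : ⇑(prodRight k k' K K') =
        ⇑((Algebra.TensorProduct.basis K β).equiv B (Equiv.refl ι)) := by
      funext x
      exact LinearMap.congr_fun h1 x
    rw [this]
    exact LinearEquiv.bijective _
  have e : ⇑(Algebra.TensorProduct.productMap
      (IsScalarTower.toAlgHom k k' K') (IsScalarTower.toAlgHom k K K')) =
      ⇑(prodRight k k' K K') ∘ ⇑(Algebra.TensorProduct.comm k k' K) := by
    funext τ
    induction τ using TensorProduct.induction_on with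
    | zero => simp
    | tmul a x =>
      rw [Function.comp_apply, Algebra.TensorProduct.comm_tmul,
        Algebra.TensorProduct.productMap_apply_tmul, prodRight_tmul, mul_comm]
      rfl
    | add a b ha hb =>
      rw [map_add, ha, hb, Function.comp_apply, Function.comp_apply, Function.comp_apply,
        map_add, map_add]
  rw [e]
  exact h2.comp (Algebra.TensorProduct.comm k k' K).bijective

/-- `A` is nonsingular with respect to the constant field extension `(k', K')`. -/
def NSw {K : Type*} [Field K] (A : ValuationSubring K) (k' K' : Type*) [Field k'] [Field K']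
    [Algebra K K'] [Algebra k' K'] : Prop :=
  integralClosure (A.toSubring.map (algebraMap K K')) K' =
    Algebra.adjoin (A.toSubring.map (algebraMap K K')) (Set.range (algebraMap k' K'))

/-- `NSw` in terms of `A`-algebras. -/
theorem NSw_iff (A : ValuationSubring K) [Algebra A K'] [IsScalarTower A K K'] :
    NSw A k' K' ↔ ∀ z : K', IsIntegral A z ↔
      z ∈ Algebra.adjoin A (Set.range (algebraMap k' K')) := by
  unfold NSw
  constructor
  · intro h z
    rw [← isIntegral_map_iff, ← mem_adjoin_map_iff, ← h]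
    rfl
  · intro h
    ext z
    rw [mem_adjoin_map_iff, ← h z, ← isIntegral_map_iff]
    rfl

end Models

section Indep

universe u u' v v₁ v₂

variable {k : Type u} {k' : Type u'} {K : Type v} {K₁ : Type v₁} {K₂ : Type v₂}
    [Field k] [Field k'] [Field K] [Field K₁] [Field K₂]
    [Algebra k k'] [Algebra k K]
    [Algebra K K₁] [Algebra k' K₁] [Algebra k K₁] [IsScalarTower k k' K₁] [IsScalarTower k K K₁]
    [Algebra K K₂] [Algebra k' K₂] [Algebra k K₂] [IsScalarTower k k' K₂] [IsScalarTower k K K₂]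

/-- The isomorphism between two models of the same constant field extension. -/
theorem exists_model_iso
    (h₁ : Function.Bijective (Algebra.TensorProduct.productMap
      (IsScalarTower.toAlgHom k k' K₁) (IsScalarTower.toAlgHom k K K₁)))
    (h₂ : Function.Bijective (Algebra.TensorProduct.productMap
      (IsScalarTower.toAlgHom k k' K₂) (IsScalarTower.toAlgHom k K K₂))) :
    ∃ σ : K₁ ≃ₐ[k] K₂, (∀ x : K, σ (algebraMap K K₁ x) = algebraMap K K₂ x) ∧
      ∀ a : k', σ (algebraMap k' K₁ a) = algebraMap k' K₂ a := by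
  obtain ⟨e₁, he₁⟩ : ∃ e : (k' ⊗[k] K) ≃ₐ[k] K₁, ∀ τ, e τ = Algebra.TensorProduct.productMap
      (IsScalarTower.toAlgHom k k' K₁) (IsScalarTower.toAlgHom k K K₁) τ :=
    ⟨AlgEquiv.ofBijective _ h₁, fun _ => rfl⟩
  obtain ⟨e₂, he₂⟩ : ∃ e : (k' ⊗[k] K) ≃ₐ[k] K₂, ∀ τ, e τ = Algebra.TensorProduct.productMap
      (IsScalarTower.toAlgHom k k' K₂) (IsScalarTower.toAlgHom k K K₂) τ :=
    ⟨AlgEquiv.ofBijective _ h₂, fun _ => rfl⟩
  refine ⟨e₁.symm.trans e₂, fun x => ?_, fun a => ?_⟩
  · have h1 : e₁ (1 ⊗ₜ x) = algebraMap K K₁ x := by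
      rw [he₁, Algebra.TensorProduct.productMap_apply_tmul, map_one, one_mul]
      rfl
    rw [AlgEquiv.trans_apply, ← h1, AlgEquiv.symm_apply_apply, he₂,
      Algebra.TensorProduct.productMap_apply_tmul, map_one, one_mul]
    rfl
  · have h1 : e₁ (a ⊗ₜ 1) = algebraMap k' K₁ a := by
      rw [he₁, Algebra.TensorProduct.productMap_apply_tmul, map_one, mul_one]
      rfl
    rw [AlgEquiv.trans_apply, ← h1, AlgEquiv.symm_apply_apply, he₂,
      Algebra.TensorProduct.productMap_apply_tmul, map_one, mul_one]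
    rfl

/-- Nonsingularity does not depend on the model of the constant field extension. -/
theorem NSw_model_indep
    (h₁ : Function.Bijective (Algebra.TensorProduct.productMap
      (IsScalarTower.toAlgHom k k' K₁) (IsScalarTower.toAlgHom k K K₁)))
    (h₂ : Function.Bijective (Algebra.TensorProduct.productMap
      (IsScalarTower.toAlgHom k k' K₂) (IsScalarTower.toAlgHom k K K₂)))
    (A : ValuationSubring K) (hNS : NSw A k' K₁) : NSw A k' K₂ := by
  obtain ⟨σ, hσK, hσk⟩ := exists_model_iso h₁ h₂
  letI : Algebra A K₁ := ((algebraMap K K₁).comp (algebraMap A K)).toAlgebra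
  haveI : IsScalarTower A K K₁ := IsScalarTower.of_algebraMap_eq (fun _ => rfl)
  letI : Algebra A K₂ := ((algebraMap K K₂).comp (algebraMap A K)).toAlgebra
  haveI : IsScalarTower A K K₂ := IsScalarTower.of_algebraMap_eq (fun _ => rfl)
  rw [NSw_iff] at hNS ⊢
  obtain ⟨σA, hσA⟩ : ∃ σA : K₁ ≃ₐ[A] K₂, ∀ z, σA z = σ z :=
    ⟨{ σ.toRingEquiv with commutes' := fun a => hσK (a : K) }, fun _ => rfl⟩
  have himg : (Algebra.adjoin A (Set.range (algebraMap k' K₁))).map σA.toAlgHom =
      Algebra.adjoin A (Set.range (algebraMap k' K₂)) := by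
    rw [AlgHom.map_adjoin]
    congr 1
    ext y
    constructor
    · rintro ⟨_, ⟨a, rfl⟩, rfl⟩
      exact ⟨a, by rw [← hσk a, ← hσA]; rfl⟩
    · rintro ⟨a, rfl⟩
      exact ⟨_, ⟨a, rfl⟩, by rw [← hσk a, ← hσA]; rfl⟩
  intro z
  have hz : z = σA (σA.symm z) := (σA.apply_symm_apply z).symm
  constructor
  · intro hint
    have h1 : IsIntegral A (σA.symm z) := (isIntegral_algEquiv σA.symm).mpr hint
    have h2 := (hNS _).mp h1
    rw [← himg, hz]
    exact ⟨_, h2, rfl⟩
  · intro hmem
    rw [← himg] at hmem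
    obtain ⟨z₁, hz₁, rfl⟩ := hmem
    have h1 := (hNS z₁).mpr hz₁
    exact (isIntegral_algEquiv σA).mpr h1

end Indep

section Comp

variable {k k' k'' K K' K'' : Type*} [Field k] [Field k'] [Field k''] [Field K]
    [Field K'] [Field K'']
    [Algebra k k'] [Algebra k' k''] [Algebra k k''] [IsScalarTower k k' k'']
    [Algebra k K] [Algebra K K'] [Algebra k' K'] [Algebra k K'] [IsScalarTower k k' K']
    [IsScalarTower k K K']
    [Algebra K' K''] [Algebra k'' K''] [Algebra k' K''] [Algebra k K''] [Algebra K K'']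
    [IsScalarTower k' k'' K''] [IsScalarTower k' K' K''] [IsScalarTower K K' K'']
    [IsScalarTower k K K''] [IsScalarTower k k'' K'']

/-- The composite of two constant field extensions is a constant field extension. -/
theorem bijective_comp
    (h1 : Function.Bijective (Algebra.TensorProduct.productMap
      (IsScalarTower.toAlgHom k k' K') (IsScalarTower.toAlgHom k K K')))
    (h2 : Function.Bijective (Algebra.TensorProduct.productMap
      (IsScalarTower.toAlgHom k' k'' K'') (IsScalarTower.toAlgHom k' K' K''))) :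
    Function.Bijective (Algebra.TensorProduct.productMap
      (IsScalarTower.toAlgHom k k'' K'') (IsScalarTower.toAlgHom k K K'')) := by
  obtain ⟨β, -⟩ : ∃ β : Basis _ k k', β = Basis.ofVectorSpace k k' := ⟨_, rfl⟩
  obtain ⟨γ, -⟩ : ∃ γ : Basis _ k' k'', γ = Basis.ofVectorSpace k' k'' := ⟨_, rfl⟩
  obtain ⟨B₁, hB₁def⟩ : ∃ B₁, B₁ = constBasis h1 β := ⟨_, rfl⟩
  obtain ⟨B₂, hB₂def⟩ : ∃ B₂, B₂ = constBasis h2 γ := ⟨_, rfl⟩
  have hB₁ : ∀ i, B₁ i = algebraMap k' K' (β i) := fun i => by rw [hB₁def, constBasis_apply]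
  have hB₂ : ∀ j, B₂ j = algebraMap k'' K'' (γ j) := fun j => by rw [hB₂def, constBasis_apply]
  refine bijective_of_basis (β.smulTower γ) (B₁.smulTower B₂) (fun ij => ?_)
  rw [Basis.smulTower_apply, Basis.smulTower_apply, Algebra.smul_def, hB₁, hB₂,
    ← IsScalarTower.algebraMap_apply k' K' K'', IsScalarTower.algebraMap_apply k' k'' K'',
    ← map_mul, Algebra.smul_def]

end Comp

section Inter

variable {k k₁ k₂ K K₁ K₂ : Type*} [Field k] [Field k₁] [Field k₂] [Field K] [Field K₁] [Field K₂]
    [Algebra k k₁] [Algebra k₁ k₂] [Algebra k k₂] [IsScalarTower k k₁ k₂]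
    [FiniteDimensional k k₁] [FiniteDimensional k₁ k₂]
    [Algebra k K] [Algebra K K₁] [Algebra k₁ K₁] [Algebra k K₁] [IsScalarTower k k₁ K₁]
    [IsScalarTower k K K₁]
    [Algebra K K₂] [Algebra k₂ K₂] [Algebra k K₂] [IsScalarTower k k₂ K₂] [IsScalarTower k K K₂]
    [Algebra k₁ K₂] [IsScalarTower k₁ k₂ K₂]

/-- A model of the intermediate constant field extension embeds into a model of the big one. -/
theorem exists_algebra_intermediate
    (h1 : Function.Bijective (Algebra.TensorProduct.productMap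
      (IsScalarTower.toAlgHom k k₁ K₁) (IsScalarTower.toAlgHom k K K₁)))
    (h2 : Function.Bijective (Algebra.TensorProduct.productMap
      (IsScalarTower.toAlgHom k k₂ K₂) (IsScalarTower.toAlgHom k K K₂))) :
    ∃ (_ : Algebra K₁ K₂) (_ : IsScalarTower K K₁ K₂) (_ : IsScalarTower k₁ K₁ K₂),
      Function.Bijective (Algebra.TensorProduct.productMap
        (IsScalarTower.toAlgHom k₁ k₂ K₂) (IsScalarTower.toAlgHom k₁ K₁ K₂)) := by
  classical
  haveI t0 : IsScalarTower k k₁ K₂ := IsScalarTower.of_algebraMap_eq (fun c => by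
    rw [IsScalarTower.algebraMap_apply k k₂ K₂, IsScalarTower.algebraMap_apply k k₁ k₂,
      ← IsScalarTower.algebraMap_apply k₁ k₂ K₂])
  obtain ⟨e₁, he₁⟩ : ∃ e : (k₁ ⊗[k] K) ≃ₐ[k] K₁, ∀ τ, e τ = Algebra.TensorProduct.productMap
      (IsScalarTower.toAlgHom k k₁ K₁) (IsScalarTower.toAlgHom k K K₁) τ :=
    ⟨AlgEquiv.ofBijective _ h1, fun _ => rfl⟩
  obtain ⟨ψ, hψ⟩ : ∃ ψ : (k₁ ⊗[k] K) →ₐ[k] K₂, ψ = Algebra.TensorProduct.productMap
      (IsScalarTower.toAlgHom k k₁ K₂) (IsScalarTower.toAlgHom k K K₂) := ⟨_, rfl⟩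
  obtain ⟨φ, hφ⟩ : ∃ φ : K₁ →ₐ[k] K₂, ∀ y, φ y = ψ (e₁.symm y) :=
    ⟨ψ.comp e₁.symm.toAlgHom, fun _ => rfl⟩
  have hφK : ∀ x : K, φ (algebraMap K K₁ x) = algebraMap K K₂ x := by
    intro x
    have h : e₁ (1 ⊗ₜ x) = algebraMap K K₁ x := by
      rw [he₁, Algebra.TensorProduct.productMap_apply_tmul, map_one, one_mul]
      rfl
    rw [hφ, ← h, AlgEquiv.symm_apply_apply, hψ, Algebra.TensorProduct.productMap_apply_tmul,
      map_one, one_mul]
    rfl
  have hφk : ∀ a : k₁, φ (algebraMap k₁ K₁ a) = algebraMap k₁ K₂ a := by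
    intro a
    have h : e₁ (a ⊗ₜ 1) = algebraMap k₁ K₁ a := by
      rw [he₁, Algebra.TensorProduct.productMap_apply_tmul, map_one, mul_one]
      rfl
    rw [hφ, ← h, AlgEquiv.symm_apply_apply, hψ, Algebra.TensorProduct.productMap_apply_tmul,
      map_one, mul_one]
    rfl
  letI alg : Algebra K₁ K₂ := φ.toRingHom.toAlgebra
  have halg : ∀ y : K₁, algebraMap K₁ K₂ y = φ y := fun _ => rfl
  haveI tK : IsScalarTower K K₁ K₂ := IsScalarTower.of_algebraMap_eq (fun x => by
    rw [halg, hφK])
  haveI tk : IsScalarTower k₁ K₁ K₂ := IsScalarTower.of_algebraMap_eq (fun a => by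
    rw [halg, hφk])
  refine ⟨alg, tK, tk, ?_⟩
  haveI : FiniteDimensional K K₁ := finiteDimensional_constExt h1
  haveI : FiniteDimensional k k₂ := FiniteDimensional.trans k k₁ k₂
  haveI : FiniteDimensional K K₂ := finiteDimensional_constExt h2
  haveI : FiniteDimensional K₁ K₂ := FiniteDimensional.right K K₁ K₂
  have hrank : Module.finrank K₁ K₂ = Module.finrank k₁ k₂ := by
    have e1 := Module.finrank_mul_finrank K K₁ K₂
    have e2 := Module.finrank_mul_finrank k k₁ k₂
    rw [finrank_constExt h1, finrank_constExt h2, ← e2] at e1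
    exact Nat.eq_of_mul_eq_mul_left Module.finrank_pos e1
  obtain ⟨γ, -⟩ : ∃ γ : Basis (Fin (finrank k₁ k₂)) k₁ k₂, γ = Module.finBasis k₁ k₂ :=
    ⟨_, rfl⟩
  obtain ⟨c, hc⟩ : ∃ c : Fin (finrank k₁ k₂) → K₂, c = fun j => algebraMap k₂ K₂ (γ j) :=
    ⟨_, rfl⟩
  have hspan : ⊤ ≤ Submodule.span K₁ (Set.range c) := by
    rintro y -
    obtain ⟨τ, rfl⟩ := h2.2 y
    induction τ using TensorProduct.induction_on with
    | zero => rw [map_zero]; exact Submodule.zero_mem _
    | tmul a x =>
      rw [Algebra.TensorProduct.productMap_apply_tmul]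
      show algebraMap k₂ K₂ a * algebraMap K K₂ x ∈ _
      have ha : algebraMap k₂ K₂ a = ∑ j, algebraMap k₁ K₂ (γ.repr a j) * c j := by
        conv_lhs => rw [← γ.sum_repr a]
        rw [map_sum, hc]
        refine Finset.sum_congr rfl (fun j _ => ?_)
        rw [Algebra.smul_def, map_mul, ← IsScalarTower.algebraMap_apply k₁ k₂ K₂]
      rw [ha, Finset.sum_mul]
      refine Submodule.sum_mem _ (fun j _ => ?_)
      have : algebraMap k₁ K₂ (γ.repr a j) * c j * algebraMap K K₂ x =
          (algebraMap k₁ K₁ (γ.repr a j) * algebraMap K K₁ x) • c j := by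
        rw [Algebra.smul_def, map_mul, ← IsScalarTower.algebraMap_apply k₁ K₁ K₂,
          ← IsScalarTower.algebraMap_apply K K₁ K₂]
        ring
      rw [this]
      exact Submodule.smul_mem _ _ (Submodule.subset_span ⟨j, rfl⟩)
    | add a b ha hb => rw [map_add]; exact Submodule.add_mem _ ha hb
  obtain ⟨B₂, hB₂⟩ : ∃ B₂ : Basis (Fin (finrank k₁ k₂)) K₁ K₂, ⇑B₂ = c :=
    ⟨basisOfTopLeSpanOfCardEqFinrank c hspan (by rw [Fintype.card_fin, hrank]),
      coe_basisOfTopLeSpanOfCardEqFinrank _ _ _⟩
  exact bijective_of_basis γ B₂ (fun j => by rw [hB₂, hc])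

end Inter

section Canon

universe u v

variable {k : Type u} {K : Type v} [Field k] [Field K] [Algebra k K]

/-- The tensor product as a model of the constant field extension. -/
theorem exists_canon_model (hg : IsGeometric k K) (k' : Type u) [Field k'] [Algebra k k']
    [FiniteDimensional k k'] :
    ∃ (K' : Type (max u v)) (_ : Field K') (_ : Algebra K K') (_ : Algebra k' K')
      (_ : Algebra k K') (_ : IsScalarTower k k' K') (_ : IsScalarTower k K K'),
      Function.Bijective (Algebra.TensorProduct.productMap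
        (IsScalarTower.toAlgHom k k' K') (IsScalarTower.toAlgHom k K K')) := by
  letI F : Field (k' ⊗[k] K) := (hg k' inferInstance).toField
  letI aK : Algebra K (k' ⊗[k] K) := Algebra.TensorProduct.rightAlgebra
  refine ⟨k' ⊗[k] K, F, aK, inferInstance, inferInstance, inferInstance, inferInstance, ?_⟩
  have : ⇑(Algebra.TensorProduct.productMap (IsScalarTower.toAlgHom k k' (k' ⊗[k] K))
      (IsScalarTower.toAlgHom k K (k' ⊗[k] K))) = id := by
    funext τ
    induction τ using TensorProduct.induction_on with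
    | zero => simp
    | tmul a x =>
      rw [Algebra.TensorProduct.productMap_apply_tmul]
      show (a ⊗ₜ[k] (1 : K)) * ((1 : k') ⊗ₜ[k] x) = _
      rw [Algebra.TensorProduct.tmul_mul_tmul, mul_one, one_mul]
      rfl
    | add a b ha hb => rw [map_add, ha, hb]; rfl
  rw [this]
  exact Function.bijective_id

end Canon

end Sing

end FunFld
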