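import Mathlib
import Groth.Agent.Lib.FunFldSing3_helper2

/-! Singular places of a function field, part 4 (helper2): a geometric function field of one
variable has at most `g` singular places. -/

set_option linter.style.haveILetI false

open Polynomial IntermediateField WithZero Module TensorProduct

namespace FunFld

namespace Sing

universe u v w

section CommonExt

/-- Two finite extensions have a common finite extension. -/
theorem exists_common_ext (k k₁ k₂ : Type u) [Field k] [Field k₁] [Field k₂] [Algebra k k₁]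
    [Algebra k k₂] [FiniteDimensional k k₁] [FiniteDimensional k k₂] :
    ∃ (k₃ : Type u) (_ : Field k₃) (_ : Algebra k k₃) (_ : FiniteDimensional k k₃)
      (_ : Algebra k₁ k₃) (_ : IsScalarTower k k₁ k₃) (_ : Algebra k₂ k₃)
      (_ : IsScalarTower k k₂ k₃), True := by
  haveI : Algebra.IsAlgebraic k k₁ := Algebra.IsAlgebraic.of_finite k k₁
  haveI : Algebra.IsAlgebraic k k₂ := Algebra.IsAlgebraic.of_finite k k₂
  obtain ⟨j₁, -⟩ : ∃ j : k₁ →ₐ[k] AlgebraicClosure k, j = IsAlgClosed.lift := ⟨_, rfl⟩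
  obtain ⟨j₂, -⟩ : ∃ j : k₂ →ₐ[k] AlgebraicClosure k, j = IsAlgClosed.lift := ⟨_, rfl⟩
  haveI : FiniteDimensional k j₁.fieldRange := j₁.equivFieldRange.toLinearEquiv.finiteDimensional
  haveI : FiniteDimensional k j₂.fieldRange := j₂.equivFieldRange.toLinearEquiv.finiteDimensional
  let φ₁ : k₁ →+* ↥(j₁.fieldRange ⊔ j₂.fieldRange) :=
    { toFun := fun x => ⟨j₁ x, (le_sup_left : j₁.fieldRange ≤ _) ⟨x, rfl⟩⟩
      map_one' := Subtype.ext (map_one j₁)
      map_mul' := fun x y => Subtype.ext (map_mul j₁ x y)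
      map_zero' := Subtype.ext (map_zero j₁)
      map_add' := fun x y => Subtype.ext (map_add j₁ x y) }
  let φ₂ : k₂ →+* ↥(j₁.fieldRange ⊔ j₂.fieldRange) :=
    { toFun := fun x => ⟨j₂ x, (le_sup_right : j₂.fieldRange ≤ _) ⟨x, rfl⟩⟩
      map_one' := Subtype.ext (map_one j₂)
      map_mul' := fun x y => Subtype.ext (map_mul j₂ x y)
      map_zero' := Subtype.ext (map_zero j₂)
      map_add' := fun x y => Subtype.ext (map_add j₂ x y) }
  letI a₁ : Algebra k₁ ↥(j₁.fieldRange ⊔ j₂.fieldRange) := φ₁.toAlgebra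
  letI a₂ : Algebra k₂ ↥(j₁.fieldRange ⊔ j₂.fieldRange) := φ₂.toAlgebra
  refine ⟨↥(j₁.fieldRange ⊔ j₂.fieldRange), inferInstance, inferInstance, inferInstance, a₁,
    IsScalarTower.of_algebraMap_eq (fun c => Subtype.ext (j₁.commutes c).symm), a₂,
    IsScalarTower.of_algebraMap_eq (fun c => Subtype.ext (j₂.commutes c).symm), trivial⟩

end CommonExt

section Down

variable {k k₁ k₂ K K₁ K₂ : Type*} [Field k] [Field k₁] [Field k₂] [Field K] [Field K₁] [Field K₂]
    [Algebra k k₁] [Algebra k₁ k₂] [Algebra k k₂] [IsScalarTower k k₁ k₂]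
    [FiniteDimensional k k₁] [FiniteDimensional k₁ k₂]
    [Algebra k K] [Algebra K K₁] [Algebra k₁ K₁] [Algebra k K₁] [IsScalarTower k k₁ K₁]
    [IsScalarTower k K K₁]
    [Algebra K K₂] [Algebra k₂ K₂] [Algebra k K₂] [IsScalarTower k k₂ K₂] [IsScalarTower k K K₂]

/-- Nonsingularity with respect to a constant field extension implies nonsingularity with respect
to every intermediate one. -/
theorem NSw_down (hK : IsFunctionField k K) (P : Place k K)
    (h1 : Function.Bijective (Algebra.TensorProduct.productMap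
      (IsScalarTower.toAlgHom k k₁ K₁) (IsScalarTower.toAlgHom k K K₁)))
    (h2 : Function.Bijective (Algebra.TensorProduct.productMap
      (IsScalarTower.toAlgHom k k₂ K₂) (IsScalarTower.toAlgHom k K K₂)))
    (hNS : NSw P.O k₂ K₂) : NSw P.O k₁ K₁ := by
  letI : Algebra k₁ K₂ := ((algebraMap k₂ K₂).comp (algebraMap k₁ k₂)).toAlgebra
  haveI : IsScalarTower k₁ k₂ K₂ := IsScalarTower.of_algebraMap_eq (fun _ => rfl)
  obtain ⟨alg, tK, tk, h12⟩ := exists_algebra_intermediate h1 h2
  exact ((nonsingular_scalar_tower_iff' h1 h12 hK P).mp hNS).1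

end Down

section Finite

variable {k : Type u} {K : Type v} [Field k] [Field K] [Algebra k K]

/-- `P` is singular with respect to some model (in universe `w`) of some finite constant field
extension. -/
def IsSing (P : Place k K) : Prop :=
  ∃ (k' : Type u) (_ : Field k') (_ : Algebra k k') (_ : FiniteDimensional k k')
    (K' : Type w) (_ : Field K') (_ : Algebra K K') (_ : Algebra k' K') (_ : Algebra k K')
    (_ : IsScalarTower k k' K') (_ : IsScalarTower k K K'),
    Function.Bijective (Algebra.TensorProduct.productMap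
      (IsScalarTower.toAlgHom k k' K') (IsScalarTower.toAlgHom k K K')) ∧ ¬ NSw P.O k' K'

theorem exists_common_sing (hK : IsFunctionField k K) (hg : IsGeometric k K)
    (T : Finset (Place k K)) (hT : ∀ P ∈ T, IsSing.{u, v, w} P) :
    ∃ (k' : Type u) (_ : Field k') (_ : Algebra k k') (_ : FiniteDimensional k k')
      (K' : Type (max u v)) (_ : Field K') (_ : Algebra K K') (_ : Algebra k' K')
      (_ : Algebra k K') (_ : IsScalarTower k k' K') (_ : IsScalarTower k K K'),
      Function.Bijective (Algebra.TensorProduct.productMap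
        (IsScalarTower.toAlgHom k k' K') (IsScalarTower.toAlgHom k K K')) ∧
      ∀ P ∈ T, ¬ NSw P.O k' K' := by
  classical
  induction T using Finset.induction_on with
  | empty =>
    obtain ⟨K', fK, aK, ak', ak, t1, t2, hb⟩ := exists_canon_model hg k
    exact ⟨k, inferInstance, inferInstance, inferInstance, K', fK, aK, ak', ak, t1, t2, hb,
      fun P hP => absurd hP (Finset.notMem_empty P)⟩
  | insert P T hPT ih =>
    obtain ⟨k₁, fk₁, ak₁, fd₁, K₁, fK₁, aK₁, ak₁K₁, akK₁, t1, t2, hb₁, hT₁⟩ :=
      ih (fun Q hQ => hT Q (Finset.mem_insert_of_mem hQ))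
    obtain ⟨k₂, fk₂, ak₂, fd₂, K₂, fK₂, aK₂, ak₂K₂, akK₂, s1, s2, hb₂, hP₂⟩ :=
      hT P (Finset.mem_insert_self P T)
    obtain ⟨k₃, fk₃, ak₃, fd₃, a₁₃, t₁₃, a₂₃, t₂₃, -⟩ := exists_common_ext k k₁ k₂
    obtain ⟨K₃, fK₃, aK₃, ak₃K₃, akK₃, r1, r2, hb₃⟩ := exists_canon_model hg k₃
    haveI : FiniteDimensional k₁ k₃ := FiniteDimensional.right k k₁ k₃
    haveI : FiniteDimensional k₂ k₃ := FiniteDimensional.right k k₂ k₃
    refine ⟨k₃, fk₃, ak₃, fd₃, K₃, fK₃, aK₃, ak₃K₃, akK₃, r1, r2, hb₃, ?_⟩
    intro Q hQ hNS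
    rcases Finset.mem_insert.mp hQ with rfl | hQT
    · exact hP₂ (NSw_down hK Q hb₂ hb₃ hNS)
    · exact hT₁ Q hQT (NSw_down hK Q hb₁ hb₃ hNS)

/-- A geometric function field of one variable has at most `g` singular places. -/
theorem card_le_genus_of_isSing (hK : IsFunctionField k K) (hg : IsGeometric k K)
    (T : Finset (Place k K)) (hT : ∀ P ∈ T, IsSing.{u, v, w} P) : T.card ≤ genus k K := by
  classical
  obtain ⟨k', fk', ak', fd', K', fK', aK', ak'K', akK', t1, t2, hb, hNS⟩ :=
    exists_common_sing hK hg T hT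
  haveI : FiniteDimensional K K' := finiteDimensional_constExt hb
  have hK' : IsFunctionField k' K' := isFunctionField_scalar_ext hb hK hg
  haveI : Algebra.IsAlgebraic k k' := Algebra.IsAlgebraic.of_finite k k'
  obtain ⟨β, -⟩ : ∃ β : Basis (Fin (finrank k k')) k k', β = Module.finBasis k k' := ⟨_, rfl⟩
  obtain ⟨B, hBdef⟩ : ∃ B, B = constBasis hb β := ⟨_, rfl⟩
  have hB : ∀ i, B i = algebraMap k' K' (β i) := fun i => by rw [hBdef, constBasis_apply]
  have hconst : ∀ (Q : Place k K') (a : k'), Q.1 (algebraMap k' K' a) ≤ 1 := fun Q a =>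
    Q.val_algebraMap_const_le_one a
  refine card_le_genus_of_sing β B hB hK hK' T (fun P hP => ?_)
  have h1 := hNS P hP
  have h2 := nonsingular_iff_coords (k₀ := k) (k₀' := k') P P.2.1
    (fun z => isIntegral_iff_forall_isOver hK P z) β B hB hconst
  unfold NSw at h1
  rw [h2] at h1
  push Not at h1
  obtain ⟨z, hz, i, hi⟩ := h1
  exact ⟨z, hz, fun hCI => absurd (hCI i) (not_le.mpr hi)⟩

theorem finite_isSing (hK : IsFunctionField k K) (hg : IsGeometric k K) :
    {P : Place k K | IsSing.{u, v, w} P}.Finite := by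
  by_contra hinf
  have hinf' : {P : Place k K | IsSing.{u, v, w} P}.Infinite := hinf
  obtain ⟨T, hTsub, hTcard⟩ := hinf'.exists_subset_card_eq (genus k K + 1)
  have := card_le_genus_of_isSing hK hg T (fun P hP => hTsub (Finset.mem_coe.mpr hP))
  omega

/-- S12527. -/
theorem finite_singular_tensor (hK : IsFunctionField k K) (hg : IsGeometric k K) :
    {P : Place k K | ∃ (k' : Type u) (_ : Field k') (_ : Algebra k k'), FiniteDimensional k k' ∧
      integralClosure (P.O.toSubring.map
          (Algebra.TensorProduct.includeRight : K →ₐ[k] k' ⊗[k] K).toRingHom) (k' ⊗[k] K) ≠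
        Algebra.adjoin (P.O.toSubring.map
            (Algebra.TensorProduct.includeRight : K →ₐ[k] k' ⊗[k] K).toRingHom)
          (Set.range (Algebra.TensorProduct.includeLeftRingHom : k' →+* k' ⊗[k] K))}.Finite := by
  refine (finite_isSing.{u, v, max u v} hK hg).subset ?_
  rintro P ⟨k', fk', ak', fd', hne⟩
  letI F : Field (k' ⊗[k] K) := (hg k' inferInstance).toField
  letI aK : Algebra K (k' ⊗[k] K) := Algebra.TensorProduct.rightAlgebra
  refine ⟨k', fk', ak', fd', k' ⊗[k] K, F, aK, inferInstance, inferInstance, inferInstance,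
    inferInstance, ?_, ?_⟩
  · have : ⇑(Algebra.TensorProduct.productMap (IsScalarTower.toAlgHom k k' (k' ⊗[k] K))
        (IsScalarTower.toAlgHom k K (k' ⊗[k] K))) = id := by
      funext τ
      induction τ using TensorProduct.induction_on with
      | zero => simp
      | tmul a x =>
        rw [Algebra.TensorProduct.productMap_apply_tmul]
        show (a ⊗ₜ[k] (1 : K)) * ((1 : k') ⊗ₜ[k] x) = _
        rw [Algebra.TensorProduct.tmul_mul_tmul, mul_one, one_mul]
        rfl
      | add a b ha hb => rw [map_add, ha, hb]; rfl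
    rw [this]
    exact Function.bijective_id
  · exact hne

end Finite

end Sing

end FunFld
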