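import Mathlib
import Groth.Agent.Lib.FunFldSing4_helper2

/-! Singular places of a function field, part 5 (helper2): after a finite constant field
extension all places above a given place become nonsingular. -/

set_option linter.style.haveILetI false

open Polynomial IntermediateField WithZero Module TensorProduct

namespace FunFld

namespace Sing

universe u u' v v' w

section OA

variable {k : Type u} {k' : Type u'} {K : Type v} {K' : Type v'} [Field k] [Field k'] [Field K]
    [Field K'] [Algebra k k'] [Algebra k K] [Algebra K K'] [Algebra k' K'] [Algebra k K']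
    [IsScalarTower k k' K'] [IsScalarTower k K K']
    {ι : Type*} [Fintype ι] (β : Basis ι k k') (B : Basis ι K K')
    (hB : ∀ i, B i = algebraMap k' K' (β i))

/-- `O_P[k']` inside `K'`. -/
def OA (P : Place k K) (k' K' : Type*) [Field k'] [Field K'] [Algebra K K'] [Algebra k' K'] :
    Subalgebra (P.O.toSubring.map (algebraMap K K')) K' :=
  Algebra.adjoin _ (Set.range (algebraMap k' K'))

include hB in
theorem mem_OA_iff_CI (P : Place k K) (w : K') : w ∈ OA P k' K' ↔ CI B P w := by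
  letI : Algebra P.O K' := ((algebraMap K K').comp (algebraMap P.O K)).toAlgebra
  haveI : IsScalarTower P.O K K' := IsScalarTower.of_algebraMap_eq (fun _ => rfl)
  unfold OA
  rw [mem_adjoin_map_iff]
  exact mem_adjoin_iff_repr_gen (k₀ := k) (k₀' := k') P P.2.1 β B hB w

end OA

section Good

variable {k : Type u} {K : Type v} [Field k] [Field K] [Algebra k K]

/-- There is a family of `r` elements, integral over `P` in some finite constant field extension
`(k', K')`, which is `k'`-independent modulo `O_P[k']`. -/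
def Good (P : Place k K) (r : ℕ) : Prop :=
  ∃ (k' : Type u) (_ : Field k') (_ : Algebra k k') (_ : FiniteDimensional k k')
    (K' : Type w) (_ : Field K') (_ : Algebra K K') (_ : Algebra k' K') (_ : Algebra k K')
    (_ : IsScalarTower k k' K') (_ : IsScalarTower k K K'),
    Function.Bijective (Algebra.TensorProduct.productMap
      (IsScalarTower.toAlgHom k k' K') (IsScalarTower.toAlgHom k K K')) ∧
    ∃ z : Fin r → K', (∀ l, ∀ Q : Place k K', IsOver Q P → Q.1 (z l) ≤ 1) ∧
      ∀ c : Fin r → k', (∑ l, algebraMap k' K' (c l) * z l) ∈ OA P k' K' → c = 0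

theorem good_le_genus (hK : IsFunctionField k K) (hg : IsGeometric k K) (P : Place k K) {r : ℕ}
    (h : Good.{u, v, w} P r) : r ≤ genus k K := by
  obtain ⟨k', fk', ak', fd', K', fK', aK', ak'K', akK', t1, t2, hb, z, hz, hind⟩ := h
  have hK' : IsFunctionField k' K' := isFunctionField_scalar_ext hb hK hg
  obtain ⟨β, -⟩ : ∃ β : Basis (Fin (finrank k k')) k k', β = Module.finBasis k k' := ⟨_, rfl⟩
  obtain ⟨B, hBdef⟩ : ∃ B, B = constBasis hb β := ⟨_, rfl⟩
  have hB : ∀ i, B i = algebraMap k' K' (β i) := fun i => by rw [hBdef, constBasis_apply]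
  refine card_le_genus_of_indep_set β B hB hK hK' {P} z (fun l P' hP' Q hQ => ?_)
    (fun c hc => hind c ((mem_OA_iff_CI β B hB P _).mpr (hc P rfl)))
  rw [Set.mem_singleton_iff] at hP'
  subst hP'
  exact hz l Q hQ

theorem good_zero (hg : IsGeometric k K) (P : Place k K) : Good.{u, v, max u v} P 0 := by
  obtain ⟨K', fK, aK, ak', ak, t1, t2, hb⟩ := exists_canon_model hg k
  exact ⟨k, inferInstance, inferInstance, inferInstance, K', fK, aK, ak', ak, t1, t2, hb,
    fun l => l.elim0, fun l => l.elim0, fun c _ => Subsingleton.elim _ _⟩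

end Good

section Step

variable {k k₀ k'' : Type u} {K : Type v} {K₀ K'' : Type w}
    [Field k] [Field k₀] [Field k''] [Field K] [Field K₀] [Field K'']
    [Algebra k k₀] [FiniteDimensional k k₀] [Algebra k K] [Algebra K K₀] [Algebra k₀ K₀]
    [Algebra k K₀] [IsScalarTower k k₀ K₀] [IsScalarTower k K K₀]
    [Algebra k₀ k''] [FiniteDimensional k₀ k''] [Algebra K₀ K''] [Algebra k'' K'']
    [Algebra k₀ K''] [IsScalarTower k₀ k'' K''] [IsScalarTower k₀ K₀ K'']

/-- If some place above `P` is singular, a maximal independent family can be enlarged. -/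
theorem good_succ (hK : IsFunctionField k K) (P : Place k K) {r : ℕ}
    (hb₀ : Function.Bijective (Algebra.TensorProduct.productMap
      (IsScalarTower.toAlgHom k k₀ K₀) (IsScalarTower.toAlgHom k K K₀)))
    (z₀ : Fin r → K₀) (hz₀ : ∀ l, ∀ Q : Place k K₀, IsOver Q P → Q.1 (z₀ l) ≤ 1)
    (hind₀ : ∀ c : Fin r → k₀, (∑ l, algebraMap k₀ K₀ (c l) * z₀ l) ∈ OA P k₀ K₀ → c = 0)
    (Q₀ : Place k K₀) (hQ₀ : IsOver Q₀ P)
    (h2 : Function.Bijective (Algebra.TensorProduct.productMap
      (IsScalarTower.toAlgHom k₀ k'' K'') (IsScalarTower.toAlgHom k₀ K₀ K'')))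
    (hns : ¬ NSw Q₀.O k'' K'') : Good.{u, v, w} P (r + 1) := by
  classical
  letI aKK'' : Algebra K K'' := ((algebraMap K₀ K'').comp (algebraMap K K₀)).toAlgebra
  haveI tKK : IsScalarTower K K₀ K'' := IsScalarTower.of_algebraMap_eq (fun _ => rfl)
  letI akk'' : Algebra k k'' := ((algebraMap k₀ k'').comp (algebraMap k k₀)).toAlgebra
  haveI tkk : IsScalarTower k k₀ k'' := IsScalarTower.of_algebraMap_eq (fun _ => rfl)
  letI akK'' : Algebra k K'' := ((algebraMap K K'').comp (algebraMap k K)).toAlgebra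
  haveI tkKK'' : IsScalarTower k K K'' := IsScalarTower.of_algebraMap_eq (fun _ => rfl)
  haveI tkK₀K'' : IsScalarTower k K₀ K'' := IsScalarTower.of_algebraMap_eq (fun c => by
    show algebraMap K₀ K'' (algebraMap K K₀ (algebraMap k K c)) = _
    rw [← IsScalarTower.algebraMap_apply k K K₀])
  haveI tkk''K'' : IsScalarTower k k'' K'' := IsScalarTower.of_algebraMap_eq (fun c => by
    rw [IsScalarTower.algebraMap_apply k K₀ K'', IsScalarTower.algebraMap_apply k k₀ K₀,
      ← IsScalarTower.algebraMap_apply k₀ K₀ K'', IsScalarTower.algebraMap_apply k₀ k'' K'',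
      ← IsScalarTower.algebraMap_apply k k₀ k''])
  haveI : FiniteDimensional k k'' := FiniteDimensional.trans k k₀ k''
  haveI : FiniteDimensional K K₀ := finiteDimensional_constExt hb₀
  haveI : FiniteDimensional K₀ K'' := finiteDimensional_constExt h2
  haveI : FiniteDimensional K K'' := FiniteDimensional.trans K K₀ K''
  haveI : Algebra.IsAlgebraic k k₀ := Algebra.IsAlgebraic.of_finite k k₀
  haveI : Algebra.IsAlgebraic k k'' := Algebra.IsAlgebraic.of_finite k k''
  have hb'' := bijective_comp hb₀ h2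
  -- bases
  obtain ⟨β, -⟩ : ∃ β : Basis (Fin (finrank k k₀)) k k₀, β = Module.finBasis k k₀ := ⟨_, rfl⟩
  obtain ⟨γ, -⟩ : ∃ γ : Basis (Fin (finrank k₀ k'')) k₀ k'', γ = Module.finBasis k₀ k'' :=
    ⟨_, rfl⟩
  obtain ⟨B₁, hB₁def⟩ : ∃ B₁, B₁ = constBasis hb₀ β := ⟨_, rfl⟩
  obtain ⟨B₂, hB₂def⟩ : ∃ B₂, B₂ = constBasis h2 γ := ⟨_, rfl⟩
  have hB₁ : ∀ i, B₁ i = algebraMap k₀ K₀ (β i) := fun i => by rw [hB₁def, constBasis_apply]
  have hB₂ : ∀ j, B₂ j = algebraMap k'' K'' (γ j) := fun j => by rw [hB₂def, constBasis_apply]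
  obtain ⟨BB, hBBdef⟩ : ∃ BB, BB = B₁.smulTower B₂ := ⟨_, rfl⟩
  have hBB : ∀ ij, BB ij = algebraMap k'' K'' ((β.smulTower γ) ij) := fun ij => by
    rw [hBBdef, Basis.smulTower_apply, Basis.smulTower_apply, Algebra.smul_def, hB₁, hB₂,
      ← IsScalarTower.algebraMap_apply k₀ K₀ K'', IsScalarTower.algebraMap_apply k₀ k'' K'',
      ← map_mul, Algebra.smul_def]
  have hBBrepr : ∀ z ij, BB.repr z ij = B₁.repr (B₂.repr z ij.2) ij.1 := fun z ij => by
    rw [hBBdef, Basis.smulTower_repr]
  have hconst'' : ∀ (R : Place k K'') (a : k''), R.1 (algebraMap k'' K'' a) ≤ 1 := fun R a =>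
    R.val_algebraMap_const_le_one a
  have hconst' : ∀ (Q : Place k K₀) (a : k₀), Q.1 (algebraMap k₀ K₀ a) ≤ 1 := fun Q a =>
    Q.val_algebraMap_const_le_one a
  -- the singular witness
  have hbr := nonsingular_iff_coords (k := k) (k₀ := k₀) (k₀' := k'') Q₀ (hconst' Q₀)
    (fun z => isIntegral_iff_forall_isOver_tower hK Q₀ z) γ B₂ hB₂ hconst''
  unfold NSw at hns
  rw [hbr] at hns
  push Not at hns
  obtain ⟨w, hw, j₀, hj₀⟩ := hns
  -- tower facts
  have hbelow : ∀ R : Place k K'', IsOver R P → ∃ Q : Place k K₀, IsOver Q P ∧ IsOver R Q := by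
    intro R hRP
    obtain ⟨Q, e₂, h₂⟩ := exists_isOverWith_tower (K' := K₀) hK R
    obtain ⟨P', e₁, h₁⟩ := exists_isOverWith hK Q
    have hRP' : IsOver R P' := ⟨_, h₂.trans h₁⟩
    have : P' = P := hRP'.unique_below hRP
    subst this
    exact ⟨Q, ⟨e₁, h₁⟩, ⟨e₂, h₂⟩⟩
  -- approximation
  have hfinT := finite_isOver (K' := K'') hK P
  have hfinS := finite_isOver (K' := K₀) hK P
  obtain ⟨M, hM⟩ := Finset.exists_le (hfinT.toFinset.image (fun R => log (R.1 w)))
  obtain ⟨N, hN0, hNM⟩ : ∃ N : ℤ, 1 ≤ N ∧ M ≤ N := ⟨max M 1, le_max_right _ _, le_max_left _ _⟩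
  have hbound : ∀ R : Place k K'', IsOver R P → R.1 w ≤ exp N := by
    intro R hR
    apply le_exp_of_log_le
    exact (hM _ (Finset.mem_image.mpr ⟨R, hfinT.mem_toFinset.mpr hR, rfl⟩)).trans hNM
  obtain ⟨S, hS⟩ : ∃ S : Finset (Place k K₀), S = hfinS.toFinset := ⟨_, rfl⟩
  have hSmem : ∀ Q', Q' ∈ S ↔ IsOver Q' P := fun Q' => by
    rw [hS]
    exact hfinS.mem_toFinset
  obtain ⟨u, hu⟩ := exists_approx (fun i : S => (i : Place k K₀)) Subtype.val_injective
    (fun i => if (i : Place k K₀) = Q₀ then (1 : K₀) else 0) N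
  have huQ : Q₀.1 (u - 1) ≤ exp (-N) := by
    have := hu ⟨Q₀, (hSmem Q₀).mpr hQ₀⟩
    simp only [if_true] at this
    exact this
  have hexplt : exp (-N) < (1 : ℤᵐ⁰) := by
    rw [← exp_zero, exp_lt_exp]
    omega
  have huQ1 : Q₀.1 u = 1 := by
    have h2 : u = 1 + (u - 1) := by ring
    rw [h2, Valuation.map_add_eq_of_lt_left, map_one]
    rw [map_one]
    exact lt_of_le_of_lt huQ hexplt
  have huw : ∀ R : Place k K'', IsOver R P → R.1 (algebraMap K₀ K'' u * w) ≤ 1 := by
    intro R hRP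
    obtain ⟨Q', hQ'P, e₂, h₂⟩ := hbelow R hRP
    rw [map_mul, h₂]
    by_cases hQQ : Q' = Q₀
    · subst hQQ
      rw [huQ1, one_pow, one_mul]
      exact hw R ⟨e₂, h₂⟩
    · have h3 := hu ⟨Q', (hSmem Q').mpr hQ'P⟩
      simp only [if_neg hQQ, sub_zero] at h3
      have h4 : Q'.1 u ^ e₂ ≤ exp (-N) := by
        calc Q'.1 u ^ e₂ ≤ Q'.1 u ^ 1 :=
              pow_le_pow_of_le_one zero_le (h3.trans hexplt.le) h₂.pos
          _ = Q'.1 u := pow_one _
          _ ≤ exp (-N) := h3
      calc Q'.1 u ^ e₂ * R.1 w ≤ exp (-N) * exp N := mul_le_mul' h4 (hbound R hRP)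
        _ = 1 := by rw [← exp_add, neg_add_cancel, exp_zero]
  -- the new family
  obtain ⟨t, ht⟩ : ∃ t : K'', t = algebraMap K₀ K'' u * w := ⟨_, rfl⟩
  obtain ⟨z', hz'⟩ : ∃ z' : Fin (r + 1) → K'',
      z' = Fin.snoc (fun l => algebraMap K₀ K'' (z₀ l)) t := ⟨_, rfl⟩
  have hz'c : ∀ l : Fin r, z' l.castSucc = algebraMap K₀ K'' (z₀ l) := fun l => by
    rw [hz', Fin.snoc_castSucc]
  have hz'l : z' (Fin.last r) = t := by rw [hz', Fin.snoc_last]
  have hrepr_const : ∀ (a : k'') (x : K₀) j,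
      B₂.repr (algebraMap k'' K'' a * algebraMap K₀ K'' x) j =
        algebraMap k₀ K₀ (γ.repr a j) * x := fun a x j => repr_const_mul γ B₂ hB₂ a x j
  have hrepr_t : ∀ j, B₂.repr t j = u * B₂.repr w j := fun j => by
    rw [ht, ← Algebra.smul_def, map_smul, Finsupp.smul_apply, smul_eq_mul]
  refine ⟨k'', inferInstance, akk'', inferInstance, K'', inferInstance, aKK'', inferInstance,
    akK'', tkk''K'', tkKK'', hb'', z', ?_, ?_⟩
  · -- integrality
    intro l R hRP
    induction l using Fin.lastCases with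
    | last => rw [hz'l, ht]; exact huw R hRP
    | cast l =>
      rw [hz'c]
      obtain ⟨Q', hQ'P, e₂, h₂⟩ := hbelow R hRP
      rw [h₂]
      exact pow_le_one₀ zero_le (hz₀ l Q' hQ'P)
  · -- independence
    intro c hmem
    have hsum : ∀ c : Fin (r + 1) → k'', ∑ l, algebraMap k'' K'' (c l) * z' l =
        ∑ l : Fin r, algebraMap k'' K'' (c l.castSucc) * algebraMap K₀ K'' (z₀ l) +
          algebraMap k'' K'' (c (Fin.last r)) * t := fun c => by
      rw [Fin.sum_univ_castSucc, hz'l]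
      congr 1
      exact Finset.sum_congr rfl (fun l _ => by rw [hz'c])
    have hCIof : ∀ y : K'', y ∈ OA P k'' K'' → ∀ j, CI B₁ P (B₂.repr y j) := by
      intro y hy j i
      have := (mem_OA_iff_CI (β.smulTower γ) BB hBB P y).mp hy (i, j)
      rwa [hBBrepr] at this
    have hQ₀CI : ∀ x : K₀, CI B₁ P x → Q₀.1 x ≤ 1 := fun x hx =>
      le_one_of_repr_le_one hQ₀ B₁ (fun i => by rw [hB₁]; exact hconst' Q₀ _) x hx
    by_cases hlast : c (Fin.last r) = 0
    · -- the last coefficient vanishes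
      have hy : ∑ l, algebraMap k'' K'' (c l) * z' l =
          ∑ l : Fin r, algebraMap k'' K'' (c l.castSucc) * algebraMap K₀ K'' (z₀ l) := by
        rw [hsum, hlast, map_zero, zero_mul, add_zero]
      rw [hy] at hmem
      have hcoord : ∀ j, B₂.repr (∑ l : Fin r, algebraMap k'' K'' (c l.castSucc) *
          algebraMap K₀ K'' (z₀ l)) j =
          ∑ l : Fin r, algebraMap k₀ K₀ (γ.repr (c l.castSucc) j) * z₀ l := by
        intro j
        rw [map_sum, Finsupp.coe_finset_sum, Finset.sum_apply]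
        exact Finset.sum_congr rfl (fun l _ => hrepr_const _ _ _)
      have hzero : ∀ j, (fun l : Fin r => γ.repr (c l.castSucc) j) = 0 := by
        intro j
        apply hind₀
        rw [mem_OA_iff_CI β B₁ hB₁ P, ← hcoord j]
        exact hCIof _ hmem j
      funext l
      induction l using Fin.lastCases with
      | last => exact hlast
      | cast l =>
        apply (LinearEquiv.map_eq_zero_iff γ.repr).mp
        ext j
        rw [Finsupp.coe_zero, Pi.zero_apply]
        exact congrFun (hzero j) l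
    · -- the last coefficient does not vanish: contradiction
      exfalso
      obtain ⟨a, ha⟩ : ∃ a : k'', a = (c (Fin.last r))⁻¹ := ⟨_, rfl⟩
      obtain ⟨y', hy'⟩ : ∃ y' : K'', y' = algebraMap k'' K'' a *
          ∑ l, algebraMap k'' K'' (c l) * z' l := ⟨_, rfl⟩
      have hy'mem : y' ∈ OA P k'' K'' := by
        rw [hy', mem_OA_iff_CI (β.smulTower γ) BB hBB P]
        exact CI_const_mul (β.smulTower γ) BB hBB P a
          ((mem_OA_iff_CI (β.smulTower γ) BB hBB P _).mp hmem)
      have hy'eq : y' = ∑ l : Fin r, algebraMap k'' K'' (a * c l.castSucc) *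
          algebraMap K₀ K'' (z₀ l) + t := by
        rw [hy', hsum, mul_add, Finset.mul_sum, ← mul_assoc, ← map_mul, ha,
          inv_mul_cancel₀ hlast, map_one, one_mul]
        congr 1
        refine Finset.sum_congr rfl (fun l _ => ?_)
        rw [← mul_assoc, ← map_mul]
      have hcoord : B₂.repr y' j₀ =
          ∑ l : Fin r, algebraMap k₀ K₀ (γ.repr (a * c l.castSucc) j₀) * z₀ l +
            u * B₂.repr w j₀ := by
        rw [hy'eq, map_add, Finsupp.add_apply, hrepr_t, map_sum, Finsupp.coe_finset_sum,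
          Finset.sum_apply]
        congr 1
        exact Finset.sum_congr rfl (fun l _ => hrepr_const _ _ _)
      have h1 : Q₀.1 (B₂.repr y' j₀) ≤ 1 := hQ₀CI _ (hCIof y' hy'mem j₀)
      have h2 : Q₀.1 (∑ l : Fin r, algebraMap k₀ K₀ (γ.repr (a * c l.castSucc) j₀) * z₀ l)
          ≤ 1 := by
        refine Valuation.map_sum_le _ (fun l _ => ?_)
        rw [map_mul]
        exact mul_le_one' (hconst' Q₀ _) (hz₀ l Q₀ hQ₀)
      have h3 : u * B₂.repr w j₀ = B₂.repr y' j₀ -
          ∑ l : Fin r, algebraMap k₀ K₀ (γ.repr (a * c l.castSucc) j₀) * z₀ l := by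
        rw [hcoord]
        ring
      have h4 : Q₀.1 (u * B₂.repr w j₀) ≤ 1 := by
        rw [h3]
        exact (Valuation.map_sub _ _ _).trans (max_le h1 h2)
      rw [map_mul, huQ1, one_mul] at h4
      exact absurd h4 (not_le.mpr hj₀)

end Step

section Main

variable {k : Type u} {K : Type v} [Field k] [Field K] [Algebra k K]

/-- After a finite constant field extension, all places above `P` are nonsingular. -/
theorem exists_nonsingular_above (hK : IsFunctionField k K) (hg : IsGeometric k K)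
    (P : Place k K) :
    ∃ (k₀ : Type u) (_ : Field k₀) (_ : Algebra k k₀) (_ : FiniteDimensional k k₀)
      (K₀ : Type (max u v)) (_ : Field K₀) (_ : Algebra K K₀) (_ : Algebra k₀ K₀)
      (_ : Algebra k K₀) (_ : IsScalarTower k k₀ K₀) (_ : IsScalarTower k K K₀),
      Function.Bijective (Algebra.TensorProduct.productMap
        (IsScalarTower.toAlgHom k k₀ K₀) (IsScalarTower.toAlgHom k K K₀)) ∧
      ∀ Q₀ : Place k K₀, IsOver Q₀ P →
        ∀ (k'' : Type u) [Field k''] [Algebra k₀ k''] [FiniteDimensional k₀ k'']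
          (K'' : Type (max u v)) [Field K''] [Algebra K₀ K''] [Algebra k'' K''] [Algebra k₀ K'']
          [IsScalarTower k₀ k'' K''] [IsScalarTower k₀ K₀ K''],
          Function.Bijective (Algebra.TensorProduct.productMap
            (IsScalarTower.toAlgHom k₀ k'' K'') (IsScalarTower.toAlgHom k₀ K₀ K'')) →
          NSw Q₀.O k'' K'' := by
  classical
  obtain ⟨r₀, hr₀⟩ : ∃ r₀, r₀ = Nat.findGreatest (Good.{u, v, max u v} P) (genus k K) :=
    ⟨_, rfl⟩
  have hgood : Good.{u, v, max u v} P r₀ := by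
    rw [hr₀]
    exact Nat.findGreatest_spec (P := Good.{u, v, max u v} P) (Nat.zero_le _) (good_zero hg P)
  have hmax : ∀ r, Good.{u, v, max u v} P r → r ≤ r₀ := fun r hr => by
    rw [hr₀]
    exact Nat.le_findGreatest (good_le_genus hK hg P hr) hr
  obtain ⟨k₀, fk₀, ak₀, fd₀, K₀, fK₀, aK₀, ak₀K₀, akK₀, t1, t2, hb₀, z₀, hz₀, hind₀⟩ := hgood
  refine ⟨k₀, fk₀, ak₀, fd₀, K₀, fK₀, aK₀, ak₀K₀, akK₀, t1, t2, hb₀, ?_⟩
  intro Q₀ hQ₀ k'' _ _ _ K'' _ _ _ _ _ _ h2
  by_contra hns
  have := hmax _ (good_succ hK P hb₀ z₀ hz₀ hind₀ Q₀ hQ₀ h2 hns)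
  omega

end Main

end Sing

end FunFld
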