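import Mathlib
import Groth.Agent.Lib.FunFldSing5_helper2

/-! Singular places of a function field, part 6 (helper2): splitting fields of places. -/

set_option linter.style.haveILetI false

open Polynomial IntermediateField WithZero Module TensorProduct

namespace FunFld

namespace Sing

universe u u' v v' w

section DegOne

variable {k₀ : Type u} {k' : Type u'} {K₀ : Type v} {K' : Type v'} [Field k₀] [Field k']
    [Field K₀] [Field K'] [Algebra k₀ k'] [Algebra k₀ K₀] [Algebra K₀ K'] [Algebra k' K']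
    [Algebra k₀ K'] [IsScalarTower k₀ k' K'] [IsScalarTower k₀ K₀ K']

/-- Over a nonsingular place whose residue field splits in `k'`, all places have degree one. -/
theorem deg_upPl_eq_one [FiniteDimensional k₀ k']
    (h : Function.Bijective (Algebra.TensorProduct.productMap
      (IsScalarTower.toAlgHom k₀ k' K') (IsScalarTower.toAlgHom k₀ K₀ K')))
    (hK₀ : IsFunctionField k₀ K₀) (Q₀ : Place k₀ K₀) (R : Place k₀ K') {e : ℕ}
    (he : IsOverWith R Q₀ e) (hns : NSw Q₀.O k' K')
    (s : Finset (IsLocalRing.ResidueField Q₀.O))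
    (hs : Submodule.span k₀ (s : Set (IsLocalRing.ResidueField Q₀.O)) = ⊤)
    (hsplit : ∀ y ∈ s, ((minpoly k₀ y).map (algebraMap k₀ k')).Splits) :
    (upPl (k' := k') R).deg = 1 := by
  classical
  haveI : Algebra.IsAlgebraic k₀ k' := Algebra.IsAlgebraic.of_finite k₀ k'
  haveI hext : Q₀.1.HasExtension R.1 := ⟨by
    intro a b
    show Q₀.1 a ≤ Q₀.1 b ↔ R.1 (algebraMap K₀ K' a) ≤ R.1 (algebraMap K₀ K' b)
    rw [he a, he b]
    exact (pow_le_pow_iff_left₀ zero_le zero_le he.pos.ne').symm⟩
  letI : Algebra Q₀.O K' := ((algebraMap K₀ K').comp (algebraMap Q₀.O K₀)).toAlgebra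
  haveI : IsScalarTower Q₀.O K₀ K' := IsScalarTower.of_algebraMap_eq (fun _ => rfl)
  have hns' : (integralClosure Q₀.O K').toSubring =
      (Algebra.adjoin Q₀.O (Set.range (algebraMap k' K'))).toSubring := by
    ext z
    rw [Subalgebra.mem_toSubring, Subalgebra.mem_toSubring]
    exact (NSw_iff Q₀.O).mp hns z
  have hk' : ∀ c : k', R.1 (algebraMap k' K' c) ≤ 1 := fun c =>
    R.val_algebraMap_const_le_one c
  have htop := residueField_eq_adjoin_of_nonsingular h hK₀ Q₀ hns' R hk'
  -- the residue field as a `k'`-algebra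
  haveI hfin : @Module.Finite k₀ (IsLocalRing.ResidueField Q₀.O) _ _ Algebra.toModule :=
    finiteDimensional_residueField hK₀ Q₀
  have hs' : @Submodule.span k₀ (IsLocalRing.ResidueField Q₀.O) _ _ Algebra.toModule
      (s : Set (IsLocalRing.ResidueField Q₀.O)) = ⊤ := hs
  letI algF : Algebra k' (IsLocalRing.ResidueField R.O) := Place.algRes (upPl (k' := k') R)
  have hκ : ∀ c : k', algebraMap k' (IsLocalRing.ResidueField R.O) c =
      IsLocalRing.residue R.O ⟨algebraMap k' K' c, hk' c⟩ := fun c => rfl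
  obtain ⟨ρ, hρ⟩ : ∃ ρ : IsLocalRing.ResidueField Q₀.O →+* IsLocalRing.ResidueField R.O,
      ρ = algebraMap (IsLocalRing.ResidueField Q₀.O) (IsLocalRing.ResidueField R.O) :=
    ⟨_, rfl⟩
  have hρk : ∀ a : k₀, ρ (algebraMap k₀ (IsLocalRing.ResidueField Q₀.O) a) =
      algebraMap k' (IsLocalRing.ResidueField R.O) (algebraMap k₀ k' a) := by
    intro a
    rw [hκ, hρ]
    show algebraMap _ _ (IsLocalRing.residue Q₀.O (algebraMap k₀ Q₀.O a)) = _
    rw [Valuation.HasExtension.algebraMap_residue_eq_residue_algebraMap]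
    congr 1
    apply Subtype.ext
    show algebraMap K₀ K' (algebraMap k₀ K₀ a) = algebraMap k' K' (algebraMap k₀ k' a)
    rw [← IsScalarTower.algebraMap_apply k₀ K₀ K', ← IsScalarTower.algebraMap_apply k₀ k' K']
  have hρs : ∀ y ∈ s, ρ y ∈ (algebraMap k' (IsLocalRing.ResidueField R.O)).range := by
    intro y hy
    have hm0 : (minpoly k₀ y).map (algebraMap k₀ k') ≠ 0 :=
      Polynomial.map_ne_zero (minpoly.ne_zero (IsIntegral.of_finite k₀ y))
    refine (hsplit y hy).mem_range_of_isRoot hm0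
      (i := algebraMap k' (IsLocalRing.ResidueField R.O)) ?_
    rw [Polynomial.IsRoot.def, Polynomial.map_map, Polynomial.eval_map]
    have hcomp : (algebraMap k' (IsLocalRing.ResidueField R.O)).comp (algebraMap k₀ k') =
        ρ.comp (algebraMap k₀ (IsLocalRing.ResidueField Q₀.O)) := by
      ext a
      exact (hρk a).symm
    rw [hcomp, ← Polynomial.hom_eval₂, ← Polynomial.aeval_def, minpoly.aeval, map_zero]
  have hρall : ∀ x : IsLocalRing.ResidueField Q₀.O,
      ρ x ∈ (algebraMap k' (IsLocalRing.ResidueField R.O)).range := by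
    intro x
    have hx : x ∈ @Submodule.span k₀ (IsLocalRing.ResidueField Q₀.O) _ _ Algebra.toModule
        (s : Set (IsLocalRing.ResidueField Q₀.O)) := by
      rw [hs']
      exact Submodule.mem_top
    induction hx using Submodule.span_induction with
    | mem y hy => exact hρs y hy
    | zero => rw [map_zero]; exact Subring.zero_mem _
    | add x y _ _ hx hy => rw [map_add]; exact Subring.add_mem _ hx hy
    | smul a x _ hx =>
      have h1 : a • x = algebraMap k₀ (IsLocalRing.ResidueField Q₀.O) a * x :=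
        Algebra.smul_def a x
      rw [h1, map_mul, hρk]
      exact Subring.mul_mem _ ⟨_, rfl⟩ hx
  have hsurj : ∀ ξ : IsLocalRing.ResidueField R.O,
      ξ ∈ (algebraMap k' (IsLocalRing.ResidueField R.O)).range := by
    intro ξ
    have hξ : ξ ∈ Algebra.adjoin (IsLocalRing.ResidueField Q₀.O)
        (Set.range fun c : k' => IsLocalRing.residue R.O ⟨algebraMap k' K' c, hk' c⟩) := by
      rw [htop]
      exact Algebra.mem_top
    induction hξ using Algebra.adjoin_induction with
    | mem x hx =>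
      obtain ⟨c, rfl⟩ := hx
      exact ⟨c, hκ c⟩
    | algebraMap x =>
      have := hρall x
      rwa [hρ] at this
    | add x y _ _ hx hy => exact Subring.add_mem _ hx hy
    | mul x y _ _ hx hy => exact Subring.mul_mem _ hx hy
  unfold Place.deg
  show Module.finrank k' (IsLocalRing.ResidueField R.O) = 1
  rw [finrank_eq_one_iff_of_nonzero' (1 : IsLocalRing.ResidueField R.O) one_ne_zero]
  intro ξ
  obtain ⟨c, hc⟩ := hsurj ξ
  refine ⟨c, ?_⟩
  have h1 : c • (1 : IsLocalRing.ResidueField R.O) =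
      algebraMap k' (IsLocalRing.ResidueField R.O) c * 1 := Algebra.smul_def c 1
  rw [h1, mul_one, hc]

end DegOne

section Split

variable {k : Type u} {K : Type v} [Field k] [Field K] [Algebra k K]

/-- Every place has a splitting field of finite degree. -/
theorem exists_splitting_ext (hK : IsFunctionField k K) (hg : IsGeometric k K) (P : Place k K) :
    ∃ (k' : Type u) (_ : Field k') (_ : Algebra k k') (_ : FiniteDimensional k k'),
      ∀ (K' : Type w) [Field K'] [Algebra K K'] [Algebra k' K'] [Algebra k K']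
        [IsScalarTower k k' K'] [IsScalarTower k K K'],
        Function.Bijective (Algebra.TensorProduct.productMap
          (IsScalarTower.toAlgHom k k' K') (IsScalarTower.toAlgHom k K K')) →
        ∀ Q : Place k' K', IsOver (downPl (k := k) Q) P → Q.deg = 1 := by
  classical
  obtain ⟨k₀, fk₀, ak₀, fd₀, K₀, fK₀, aK₀, ak₀K₀, akK₀, t1, t2, hb₀, hNS⟩ :=
    exists_nonsingular_above hK hg P
  have hK₀ : IsFunctionField k₀ K₀ := isFunctionField_scalar_ext hb₀ hK hg
  have hg₀ : IsGeometric k₀ K₀ := isGeometric_scalar_ext hb₀ hg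
  haveI : FiniteDimensional K K₀ := finiteDimensional_constExt hb₀
  haveI : Algebra.IsAlgebraic k k₀ := Algebra.IsAlgebraic.of_finite k k₀
  haveI hfin : ∀ Q₀ : Place k₀ K₀,
      @Module.Finite k₀ (IsLocalRing.ResidueField Q₀.O) _ _ Algebra.toModule :=
    fun Q₀ => finiteDimensional_residueField hK₀ Q₀
  have hgen : ∀ Q₀ : Place k₀ K₀, ∃ s : Finset (IsLocalRing.ResidueField Q₀.O),
      Submodule.span k₀ (s : Set (IsLocalRing.ResidueField Q₀.O)) = ⊤ :=
    fun Q₀ => (finiteDimensional_residueField hK₀ Q₀).fg_top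
  choose s hs using hgen
  obtain ⟨S₀, hS₀⟩ : ∃ S₀ : Finset (Place k K₀), ∀ Q, Q ∈ S₀ ↔ IsOver Q P :=
    ⟨(finite_isOver hK P).toFinset, fun Q => Set.Finite.mem_toFinset _⟩
  obtain ⟨f, hf⟩ : ∃ f : k₀[X],
      f = ∏ Q₀ ∈ S₀, ∏ y ∈ s (upPl (k' := k₀) Q₀), minpoly k₀ y := ⟨_, rfl⟩
  have hf0 : f ≠ 0 := by
    rw [hf]
    exact Finset.prod_ne_zero_iff.mpr (fun Q₀ _ => Finset.prod_ne_zero_iff.mpr
      (fun y _ => minpoly.ne_zero (IsIntegral.of_finite k₀ y)))
  haveI fd' : FiniteDimensional k f.SplittingField :=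
    FiniteDimensional.trans k k₀ f.SplittingField
  refine ⟨f.SplittingField, inferInstance, inferInstance, fd', ?_⟩
  intro K' _ _ _ _ _ _ hb' Q hQP
  letI ak₀K' : Algebra k₀ K' :=
    ((algebraMap f.SplittingField K').comp (algebraMap k₀ f.SplittingField)).toAlgebra
  haveI : IsScalarTower k₀ f.SplittingField K' := IsScalarTower.of_algebraMap_eq (fun _ => rfl)
  obtain ⟨alg, tK, tk, h12⟩ := exists_algebra_intermediate (k := k) (k₁ := k₀)
    (k₂ := f.SplittingField) (K := K) (K₁ := K₀) (K₂ := K') hb₀ hb'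
  haveI : FiniteDimensional K₀ K' := finiteDimensional_constExt h12
  haveI : Algebra.IsAlgebraic k₀ f.SplittingField := Algebra.IsAlgebraic.of_finite _ _
  obtain ⟨R, hR⟩ : ∃ R : Place k₀ K', R = downPl (k := k₀) Q := ⟨_, rfl⟩
  obtain ⟨Q₀', e, he⟩ := exists_isOverWith hK₀ R
  obtain ⟨Q₀, hQ₀⟩ : ∃ Q₀ : Place k K₀, Q₀ = downPl (k := k) Q₀' := ⟨_, rfl⟩
  have hRQ₀ : IsOverWith (downPl (k := k) Q) Q₀ e := fun x => by
    rw [hQ₀]
    have := he x
    rw [hR] at this
    exact this
  have hQ₀P : IsOver Q₀ P := by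
    obtain ⟨P', e', he'⟩ := exists_isOverWith hK Q₀
    have h1 : IsOver (downPl (k := k) Q) P' := ⟨_, hRQ₀.trans he'⟩
    have : P' = P := h1.unique_below hQP
    rw [← this]
    exact ⟨e', he'⟩
  have hup : upPl (k' := k₀) Q₀ = Q₀' := by
    rw [hQ₀]
    exact upPl_downPl Q₀'
  -- nonsingularity with respect to the given model
  obtain ⟨K'', fK'', aK'', ak'K'', ak₀K'', r1, r2, hb''⟩ := exists_canon_model hg₀ f.SplittingField
  have hNSQ : NSw Q₀.O f.SplittingField K'' := hNS Q₀ hQ₀P f.SplittingField K'' hb''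
  have hns : NSw Q₀'.O f.SplittingField K' := by
    have := NSw_model_indep hb'' h12 Q₀.O hNSQ
    rw [hQ₀] at this
    exact this
  have hsplit : ∀ y ∈ s Q₀', ((minpoly k₀ y).map (algebraMap k₀ f.SplittingField)).Splits := by
    intro y hy
    have hfs : (f.map (algebraMap k₀ f.SplittingField)).Splits :=
      Polynomial.SplittingField.splits f
    refine hfs.of_dvd (Polynomial.map_ne_zero hf0) (Polynomial.map_dvd _ ?_)
    rw [hf]
    refine dvd_trans ?_ (Finset.dvd_prod_of_mem _ ((hS₀ Q₀).mpr hQ₀P))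
    subst hup
    exact Finset.dvd_prod_of_mem _ hy
  have hdeg := deg_upPl_eq_one h12 hK₀ Q₀' R he hns (s Q₀') (hs Q₀') hsplit
  rw [hR, upPl_downPl] at hdeg
  exact hdeg

end Split

end Sing

end FunFld
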