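import Mathlib
import Groth.Agent.Lib.FunFldSing6_helper2

/-! Singular places of a function field, part 7 (helper2): after a finite constant field extension
a geometric function field of one variable becomes nonsingular. -/

set_option linter.style.haveILetI false

open Polynomial IntermediateField WithZero Module TensorProduct

namespace FunFld

namespace Sing

universe u v w w₁ w₂

section Middle

variable {k K K₁ K₂ : Type*} [Field k] [Field K] [Field K₁] [Field K₂]
    [Algebra k K] [Algebra k K₁] [Algebra k K₂] [Algebra K K₁] [Algebra K₁ K₂] [Algebra K K₂]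
    [IsScalarTower k K K₁] [IsScalarTower k K₁ K₂] [IsScalarTower k K K₂]
    [IsScalarTower K K₁ K₂]

/-- A place of the top field over `P` lies over a place of the middle field over `P`. -/
theorem exists_isOver_middle (hK : IsFunctionField k K) [FiniteDimensional K K₁]
    [FiniteDimensional K₁ K₂] (P : Place k K) (R : Place k K₂) (hRP : IsOver R P) :
    ∃ Q : Place k K₁, IsOver Q P ∧ IsOver R Q := by
  obtain ⟨Q, e₂, h₂⟩ := exists_isOverWith_tower (K' := K₁) hK R
  obtain ⟨P', e₁, h₁⟩ := exists_isOverWith hK Q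
  have hRP' : IsOver R P' := ⟨_, h₂.trans h₁⟩
  have : P' = P := hRP'.unique_below hRP
  subst this
  exact ⟨Q, ⟨e₁, h₁⟩, ⟨e₂, h₂⟩⟩

end Middle

section SetNS

/-- All places in `S` are nonsingular with respect to all finite constant field extensions of
`(k₁, K₁)` (with models in the universe `w`). -/
def SetNS.{uu, ww₁, ww, u0} (k : Type u0) (k₁ : Type uu) (K₁ : Type ww₁) [Field k] [Field k₁]
    [Field K₁] [Algebra k K₁] [Algebra k₁ K₁] (S : Set (Place k K₁)) : Prop :=
  ∀ Q ∈ S, ∀ (k'' : Type uu) [Field k''] [Algebra k₁ k''] [FiniteDimensional k₁ k'']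
    (K'' : Type ww) [Field K''] [Algebra K₁ K''] [Algebra k'' K''] [Algebra k₁ K'']
    [IsScalarTower k₁ k'' K''] [IsScalarTower k₁ K₁ K''],
    Function.Bijective (Algebra.TensorProduct.productMap
      (IsScalarTower.toAlgHom k₁ k'' K'') (IsScalarTower.toAlgHom k₁ K₁ K'')) → NSw Q.O k'' K''

end SetNS

section Up

variable {k : Type*} {k₁ k₂ : Type u} {K₁ : Type w₁} {K₂ : Type w₂}
    [Field k] [Field k₁] [Field k₂] [Field K₁] [Field K₂]
    [Algebra k k₁] [Algebra k K₁] [Algebra k₁ K₁] [IsScalarTower k k₁ K₁]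
    [Algebra k₁ k₂] [FiniteDimensional k₁ k₂] [Algebra K₁ K₂] [Algebra k₂ K₂] [Algebra k₁ K₂]
    [Algebra k K₂] [IsScalarTower k₁ k₂ K₂] [IsScalarTower k₁ K₁ K₂] [IsScalarTower k k₁ K₂]

/-- Nonsingularity of places persists in constant field extensions. -/
theorem setNS_up [Algebra.IsAlgebraic k k₁] (hK₁ : IsFunctionField k₁ K₁)
    (h12 : Function.Bijective (Algebra.TensorProduct.productMap
      (IsScalarTower.toAlgHom k₁ k₂ K₂) (IsScalarTower.toAlgHom k₁ K₁ K₂)))
    {S₁ : Set (Place k K₁)} {S₂ : Set (Place k K₂)}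
    (hS : ∀ Q₂ ∈ S₂, ∃ Q₁ ∈ S₁, IsOver Q₂ Q₁)
    (h : SetNS.{u, w₁, w} k k₁ K₁ S₁) : SetNS.{u, w₂, w} k k₂ K₂ S₂ := by
  intro Q₂ hQ₂ k'' _ _ _ K'' _ _ _ _ _ _ h23
  obtain ⟨Q₁, hQ₁, hover⟩ := hS Q₂ hQ₂
  letI : Algebra k₁ k'' := ((algebraMap k₂ k'').comp (algebraMap k₁ k₂)).toAlgebra
  haveI : IsScalarTower k₁ k₂ k'' := IsScalarTower.of_algebraMap_eq (fun _ => rfl)
  letI : Algebra K₁ K'' := ((algebraMap K₂ K'').comp (algebraMap K₁ K₂)).toAlgebra
  haveI : IsScalarTower K₁ K₂ K'' := IsScalarTower.of_algebraMap_eq (fun _ => rfl)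
  letI : Algebra k₁ K'' := ((algebraMap k₂ K'').comp (algebraMap k₁ k₂)).toAlgebra
  haveI : IsScalarTower k₁ k₂ K'' := IsScalarTower.of_algebraMap_eq (fun _ => rfl)
  haveI : IsScalarTower k₁ k'' K'' := IsScalarTower.of_algebraMap_eq (fun c => by
    show algebraMap k₂ K'' (algebraMap k₁ k₂ c) = algebraMap k'' K'' (algebraMap k₂ k'' (algebraMap k₁ k₂ c))
    rw [← IsScalarTower.algebraMap_apply k₂ k'' K''])
  haveI : IsScalarTower k₁ K₁ K'' := IsScalarTower.of_algebraMap_eq (fun c => by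
    show algebraMap k₂ K'' (algebraMap k₁ k₂ c) = algebraMap K₂ K'' (algebraMap K₁ K₂ (algebraMap k₁ K₁ c))
    rw [← IsScalarTower.algebraMap_apply k₁ K₁ K₂, IsScalarTower.algebraMap_apply k₁ k₂ K₂,
      ← IsScalarTower.algebraMap_apply k₂ K₂ K''])
  haveI : FiniteDimensional k₁ k'' := FiniteDimensional.trans k₁ k₂ k''
  have h13 := bijective_comp h12 h23
  have hns₁ : NSw Q₁.O k'' K'' := h Q₁ hQ₁ k'' K'' h13
  have key := (nonsingular_scalar_tower_iff' h12 h23 hK₁ (upPl (k' := k₁) Q₁)).mp hns₁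
  exact key.2 (upPl (k' := k₁) Q₂) hover

end Up

section Indep

variable {k : Type*} {k₁ : Type u} {K : Type*} {K₁ : Type w₁} {K₁' : Type w₂}
    [Field k] [Field k₁] [Field K] [Field K₁] [Field K₁'] [Algebra k k₁] [Algebra k K]
    [Algebra K K₁] [Algebra k₁ K₁] [Algebra k K₁] [IsScalarTower k k₁ K₁] [IsScalarTower k K K₁]
    [Algebra K K₁'] [Algebra k₁ K₁'] [Algebra k K₁'] [IsScalarTower k k₁ K₁']
    [IsScalarTower k K K₁']

/-- Nonsingularity of all places does not depend on the model. -/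
theorem allNS_model_indep
    (h₁ : Function.Bijective (Algebra.TensorProduct.productMap
      (IsScalarTower.toAlgHom k k₁ K₁) (IsScalarTower.toAlgHom k K K₁)))
    (h₁' : Function.Bijective (Algebra.TensorProduct.productMap
      (IsScalarTower.toAlgHom k k₁ K₁') (IsScalarTower.toAlgHom k K K₁')))
    (h : SetNS.{u, w₁, w} k k₁ K₁ Set.univ) : SetNS.{u, w₂, w} k k₁ K₁' Set.univ := by
  intro Q' _ k'' _ _ _ K'' _ _ _ _ _ _ h2'
  obtain ⟨σ, hσK, hσk⟩ := exists_model_iso h₁' h₁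
  have hσk' : ∀ a : k₁, σ.symm (algebraMap k₁ K₁ a) = algebraMap k₁ K₁' a := fun a => by
    rw [← hσk a, AlgEquiv.symm_apply_apply]
  obtain ⟨Q, hQ⟩ : ∃ Q : Place k K₁, ∀ y, Q.1 y = Q'.1 (σ.symm y) :=
    ⟨⟨Q'.1.comap (σ.symm : K₁ →+* K₁'), fun c => by
        show Q'.1 (σ.symm (algebraMap k K₁ c)) ≤ 1
        rw [AlgEquiv.commutes]
        exact Q'.2.1 c, fun γ => by
        obtain ⟨y', hy'⟩ := Q'.2.2 γ
        exact ⟨σ y', by
          show Q'.1 (σ.symm (σ y')) = γ
          rw [AlgEquiv.symm_apply_apply, hy']⟩⟩, fun _ => rfl⟩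
  letI aK₁ : Algebra K₁ K'' := ((algebraMap K₁' K'').comp (σ.symm : K₁ →+* K₁')).toAlgebra
  have halg : ∀ y : K₁, algebraMap K₁ K'' y = algebraMap K₁' K'' (σ.symm y) := fun _ => rfl
  haveI : IsScalarTower k₁ K₁ K'' := IsScalarTower.of_algebraMap_eq (fun a => by
    rw [halg, hσk', ← IsScalarTower.algebraMap_apply k₁ K₁' K''])
  have h2 : Function.Bijective (Algebra.TensorProduct.productMap
      (IsScalarTower.toAlgHom k₁ k'' K'') (IsScalarTower.toAlgHom k₁ K₁ K'')) := by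
    obtain ⟨γ, -⟩ : ∃ γ : Basis _ k₁ k'', γ = Basis.ofVectorSpace k₁ k'' := ⟨_, rfl⟩
    obtain ⟨B, hB⟩ : ∃ B, B = constBasis h2' γ := ⟨_, rfl⟩
    have hcompat : ∀ (c : K₁') (x : K''), σ.toRingEquiv c • x = c • x := fun c x => by
      rw [Algebra.smul_def, Algebra.smul_def, halg]
      show algebraMap K₁' K'' (σ.symm (σ c)) * x = _
      rw [AlgEquiv.symm_apply_apply]
    refine bijective_of_basis γ (B.mapCoeffs σ.toRingEquiv hcompat) (fun j => ?_)
    rw [Basis.mapCoeffs_apply, hB, constBasis_apply]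
  have hns : NSw Q.O k'' K'' := h Q (Set.mem_univ _) k'' K'' h2
  have hsub : Q.O.toSubring.map (algebraMap K₁ K'') =
      Q'.O.toSubring.map (algebraMap K₁' K'') := by
    ext x
    rw [Subring.mem_map, Subring.mem_map]
    constructor
    · rintro ⟨y, hy, rfl⟩
      refine ⟨σ.symm y, ?_, (halg y).symm⟩
      have : Q.1 y ≤ 1 := hy
      rw [hQ] at this
      exact this
    · rintro ⟨y', hy', rfl⟩
      refine ⟨σ y', ?_, ?_⟩
      · show Q.1 (σ y') ≤ 1
        rw [hQ, AlgEquiv.symm_apply_apply]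
        exact hy'
      · rw [halg, AlgEquiv.symm_apply_apply]
  unfold NSw at hns ⊢
  rw [hsub] at hns
  exact hns

end Indep

section Exists

variable {k : Type u} {K : Type v} [Field k] [Field K] [Algebra k K]

theorem exists_setNS_finset (hK : IsFunctionField k K) (hg : IsGeometric k K)
    (T : Finset (Place k K)) :
    ∃ (k₁ : Type u) (_ : Field k₁) (_ : Algebra k k₁) (_ : FiniteDimensional k k₁)
      (K₁ : Type (max u v)) (_ : Field K₁) (_ : Algebra K K₁) (_ : Algebra k₁ K₁)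
      (_ : Algebra k K₁) (_ : IsScalarTower k k₁ K₁) (_ : IsScalarTower k K K₁),
      Function.Bijective (Algebra.TensorProduct.productMap
        (IsScalarTower.toAlgHom k k₁ K₁) (IsScalarTower.toAlgHom k K K₁)) ∧
      SetNS.{u, max u v, max u v} k k₁ K₁ {Q | ∃ P ∈ T, IsOver Q P} := by
  classical
  induction T using Finset.induction_on with
  | empty =>
    obtain ⟨K', fK, aK, ak', ak, t1, t2, hb⟩ := exists_canon_model hg k
    refine ⟨k, inferInstance, inferInstance, inferInstance, K', fK, aK, ak', ak, t1, t2, hb, ?_⟩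
    rintro Q ⟨P, hP, -⟩
    exact absurd hP (Finset.notMem_empty P)
  | insert P T hPT ih =>
    obtain ⟨k₁, fk₁, ak₁, fd₁, K₁, fK₁, aK₁, ak₁K₁, akK₁, t1, t2, hb₁, hT₁⟩ := ih
    obtain ⟨k₀, fk₀, ak₀, fd₀, K₀, fK₀, aK₀, ak₀K₀, akK₀, s1, s2, hb₀, hP₀⟩ :=
      exists_nonsingular_above hK hg P
    obtain ⟨k₃, fk₃, ak₃, fd₃, a₁₃, t₁₃, a₀₃, t₀₃, -⟩ := exists_common_ext k k₁ k₀
    obtain ⟨K₃, fK₃, aK₃, ak₃K₃, akK₃, r1, r2, hb₃⟩ := exists_canon_model hg k₃
    haveI : FiniteDimensional k₁ k₃ := FiniteDimensional.right k k₁ k₃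
    haveI : FiniteDimensional k₀ k₃ := FiniteDimensional.right k k₀ k₃
    haveI : Algebra.IsAlgebraic k k₁ := Algebra.IsAlgebraic.of_finite k k₁
    haveI : Algebra.IsAlgebraic k k₀ := Algebra.IsAlgebraic.of_finite k k₀
    haveI : FiniteDimensional K K₁ := finiteDimensional_constExt hb₁
    haveI : FiniteDimensional K K₀ := finiteDimensional_constExt hb₀
    have hK₁ : IsFunctionField k₁ K₁ := isFunctionField_scalar_ext hb₁ hK hg
    have hK₀ : IsFunctionField k₀ K₀ := isFunctionField_scalar_ext hb₀ hK hg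
    letI a₁K₃ : Algebra k₁ K₃ := ((algebraMap k₃ K₃).comp (algebraMap k₁ k₃)).toAlgebra
    haveI : IsScalarTower k₁ k₃ K₃ := IsScalarTower.of_algebraMap_eq (fun _ => rfl)
    letI a₀K₃ : Algebra k₀ K₃ := ((algebraMap k₃ K₃).comp (algebraMap k₀ k₃)).toAlgebra
    haveI : IsScalarTower k₀ k₃ K₃ := IsScalarTower.of_algebraMap_eq (fun _ => rfl)
    haveI : IsScalarTower k k₁ K₃ := IsScalarTower.of_algebraMap_eq (fun c => by
      show algebraMap k K₃ c = algebraMap k₃ K₃ (algebraMap k₁ k₃ (algebraMap k k₁ c))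
      rw [← IsScalarTower.algebraMap_apply k k₁ k₃, ← IsScalarTower.algebraMap_apply k k₃ K₃])
    haveI : IsScalarTower k k₀ K₃ := IsScalarTower.of_algebraMap_eq (fun c => by
      show algebraMap k K₃ c = algebraMap k₃ K₃ (algebraMap k₀ k₃ (algebraMap k k₀ c))
      rw [← IsScalarTower.algebraMap_apply k k₀ k₃, ← IsScalarTower.algebraMap_apply k k₃ K₃])
    refine ⟨k₃, fk₃, ak₃, fd₃, K₃, fK₃, aK₃, ak₃K₃, akK₃, r1, r2, hb₃, ?_⟩
    -- the part over `T`
    have hpartT : SetNS.{u, max u v, max u v} k k₃ K₃ {Q | ∃ P' ∈ T, IsOver Q P'} := by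
      obtain ⟨alg, tK, tk, h13⟩ := exists_algebra_intermediate hb₁ hb₃
      haveI : FiniteDimensional K₁ K₃ := finiteDimensional_constExt h13
      haveI : IsScalarTower k K₁ K₃ := IsScalarTower.of_algebraMap_eq (fun c => by
        rw [IsScalarTower.algebraMap_apply k K K₃, IsScalarTower.algebraMap_apply K K₁ K₃,
          ← IsScalarTower.algebraMap_apply k K K₁])
      refine setNS_up (k := k) hK₁ h13 ?_ hT₁
      rintro Q₃ ⟨P', hP', hQ₃⟩
      obtain ⟨Q₁, hQ₁P', hQ₃Q₁⟩ := exists_isOver_middle (K₁ := K₁) hK P' Q₃ hQ₃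
      exact ⟨Q₁, ⟨P', hP', hQ₁P'⟩, hQ₃Q₁⟩
    have hpartP : SetNS.{u, max u v, max u v} k k₃ K₃ {Q | IsOver Q P} := by
      obtain ⟨alg, tK, tk, h03⟩ := exists_algebra_intermediate hb₀ hb₃
      haveI : FiniteDimensional K₀ K₃ := finiteDimensional_constExt h03
      haveI : IsScalarTower k K₀ K₃ := IsScalarTower.of_algebraMap_eq (fun c => by
        rw [IsScalarTower.algebraMap_apply k K K₃, IsScalarTower.algebraMap_apply K K₀ K₃,
          ← IsScalarTower.algebraMap_apply k K K₀])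
      have hP₀' : SetNS.{u, max u v, max u v} k k₀ K₀ {Q | IsOver Q P} := fun Q hQ => hP₀ Q hQ
      refine setNS_up (k := k) hK₀ h03 ?_ hP₀'
      intro Q₃ hQ₃
      obtain ⟨Q₀, hQ₀P, hQ₃Q₀⟩ := exists_isOver_middle (K₁ := K₀) hK P Q₃ hQ₃
      exact ⟨Q₀, hQ₀P, hQ₃Q₀⟩
    rintro Q ⟨P', hP', hQP'⟩
    rcases Finset.mem_insert.mp hP' with rfl | hP'T
    · exact hpartP Q hQP'
    · exact hpartT Q ⟨P', hP'T, hQP'⟩

/-- After a finite constant field extension, all places are nonsingular. -/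
theorem exists_allNS (hK : IsFunctionField k K) (hg : IsGeometric k K) :
    ∃ (k₁ : Type u) (_ : Field k₁) (_ : Algebra k k₁) (_ : FiniteDimensional k k₁)
      (K₁ : Type (max u v)) (_ : Field K₁) (_ : Algebra K K₁) (_ : Algebra k₁ K₁)
      (_ : Algebra k K₁) (_ : IsScalarTower k k₁ K₁) (_ : IsScalarTower k K K₁),
      Function.Bijective (Algebra.TensorProduct.productMap
        (IsScalarTower.toAlgHom k k₁ K₁) (IsScalarTower.toAlgHom k K K₁)) ∧
      SetNS.{u, max u v, max u v} k k₁ K₁ Set.univ := by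
  classical
  obtain ⟨T, hT⟩ : ∃ T : Finset (Place k K), ∀ P, P ∈ T ↔ IsSing.{u, v, max u v} P :=
    ⟨(finite_isSing.{u, v, max u v} hK hg).toFinset, fun P => Set.Finite.mem_toFinset _⟩
  obtain ⟨k₁, fk₁, ak₁, fd₁, K₁, fK₁, aK₁, ak₁K₁, akK₁, t1, t2, hb₁, hT₁⟩ :=
    exists_setNS_finset hK hg T
  refine ⟨k₁, fk₁, ak₁, fd₁, K₁, fK₁, aK₁, ak₁K₁, akK₁, t1, t2, hb₁, ?_⟩
  haveI : FiniteDimensional K K₁ := finiteDimensional_constExt hb₁
  intro Q _
  obtain ⟨P, e, he⟩ := exists_isOverWith hK Q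
  by_cases hP : P ∈ T
  · exact hT₁ Q ⟨P, hP, ⟨e, he⟩⟩
  · intro k'' _ _ _ K'' _ _ _ _ _ _ h12
    letI : Algebra k k'' := ((algebraMap k₁ k'').comp (algebraMap k k₁)).toAlgebra
    haveI : IsScalarTower k k₁ k'' := IsScalarTower.of_algebraMap_eq (fun _ => rfl)
    letI : Algebra K K'' := ((algebraMap K₁ K'').comp (algebraMap K K₁)).toAlgebra
    haveI : IsScalarTower K K₁ K'' := IsScalarTower.of_algebraMap_eq (fun _ => rfl)
    letI : Algebra k K'' := ((algebraMap K K'').comp (algebraMap k K)).toAlgebra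
    haveI : IsScalarTower k K K'' := IsScalarTower.of_algebraMap_eq (fun _ => rfl)
    haveI : IsScalarTower k K₁ K'' := IsScalarTower.of_algebraMap_eq (fun c => by
      show algebraMap K₁ K'' (algebraMap K K₁ (algebraMap k K c)) = _
      rw [← IsScalarTower.algebraMap_apply k K K₁])
    haveI : IsScalarTower k k'' K'' := IsScalarTower.of_algebraMap_eq (fun c => by
      rw [IsScalarTower.algebraMap_apply k K₁ K'', IsScalarTower.algebraMap_apply k k₁ K₁,
        ← IsScalarTower.algebraMap_apply k₁ K₁ K'', IsScalarTower.algebraMap_apply k₁ k'' K'',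
        ← IsScalarTower.algebraMap_apply k k₁ k''])
    haveI : FiniteDimensional k k'' := FiniteDimensional.trans k k₁ k''
    have h02 := bijective_comp hb₁ h12
    have hnsP : NSw P.O k'' K'' := by
      by_contra hns
      exact hP ((hT P).mpr ⟨k'', inferInstance, inferInstance, inferInstance, K'', inferInstance,
        inferInstance, inferInstance, inferInstance, inferInstance, inferInstance, h02, hns⟩)
    exact ((nonsingular_scalar_tower_iff' hb₁ h12 hK P).mp hnsP).2 Q ⟨e, he⟩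

end Exists

end Sing

end FunFld
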