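import Mathlib
import Groth.Agent.Lib.FunFldSing7_helper2

/-! Singular places of a function field, part 8 (helper2): a purely inseparable finite constant
field extension makes a geometric function field of one variable nonsingular. -/

set_option linter.style.haveILetI false

open Polynomial IntermediateField WithZero Module TensorProduct

namespace FunFld

namespace Sing

universe u v w w₁

section FieldTheory

/-- The normal closure of `k₁/k` inside an algebraic closure of `k₁`. -/
noncomputable abbrev NC (k k₁ : Type u) [Field k] [Field k₁] [Algebra k k₁] :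
    IntermediateField k (AlgebraicClosure k₁) :=
  IntermediateField.normalClosure k k₁ (AlgebraicClosure k₁)

/-- The fixed field of all `k`-automorphisms of the normal closure. -/
noncomputable abbrev FC (k k₁ : Type u) [Field k] [Field k₁] [Algebra k k₁] :
    IntermediateField k (NC k k₁) :=
  IntermediateField.fixedField (⊤ : Subgroup ((NC k k₁) ≃ₐ[k] (NC k k₁)))

/-- Every finite extension `k₁/k` embeds into a finite extension `N/k` which is separable over a
purely inseparable finite extension `ki` of `k`. -/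
theorem exists_insep_sep_tower (k k₁ : Type u) [Field k] [Field k₁] [Algebra k k₁]
    [FiniteDimensional k k₁] :
    ∃ (ki : Type u) (_ : Field ki) (_ : Algebra k ki) (_ : FiniteDimensional k ki)
      (_ : IsPurelyInseparable k ki)
      (N : Type u) (_ : Field N) (_ : Algebra k N) (_ : Algebra ki N) (_ : Algebra k₁ N)
      (_ : IsScalarTower k ki N) (_ : IsScalarTower k k₁ N) (_ : FiniteDimensional k N),
      Algebra.IsSeparable ki N := by
  classical
  haveI : Algebra.IsAlgebraic k k₁ := Algebra.IsAlgebraic.of_finite k k₁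
  haveI : IsAlgClosure k (AlgebraicClosure k₁) :=
    IsAlgClosure.ofAlgebraic k k₁ (AlgebraicClosure k₁)
  haveI : Normal k (NC k k₁) := inferInstance
  haveI : FiniteDimensional k (NC k k₁) := inferInstance
  refine ⟨FC k k₁, inferInstance, inferInstance, inferInstance, ?_, NC k k₁, inferInstance,
    inferInstance, inferInstance, inferInstance, inferInstance, inferInstance, inferInstance, ?_⟩
  · rw [isPurelyInseparable_iff_natSepDegree_eq_one]
    intro x
    have hy : ∀ σ : (NC k k₁) ≃ₐ[k] (NC k k₁), σ (x : NC k k₁) = x := fun σ =>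
      (IntermediateField.mem_fixedField_iff _ _).mp x.2 σ (Subgroup.mem_top σ)
    rw [IntermediateField.minpoly_eq]
    have hsp := Normal.splits (inferInstance : Normal k (NC k k₁)) (x : NC k k₁)
    rw [natSepDegree_eq_of_splits _ hsp]
    have : ((minpoly k (x : NC k k₁)).aroots (NC k k₁)).toFinset = {(x : NC k k₁)} := by
      ext z
      rw [Multiset.mem_toFinset, Finset.mem_singleton, mem_aroots]
      constructor
      · rintro ⟨-, hz⟩
        obtain ⟨σ, hσ⟩ := minpoly.exists_algEquiv_of_root'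
          (Algebra.IsAlgebraic.isAlgebraic (R := k) (x : NC k k₁)) hz
        rw [← hσ, hy]
      · rintro rfl
        exact ⟨minpoly.ne_zero (Algebra.IsIntegral.isIntegral _), minpoly.aeval _ _⟩
    rw [this, Finset.card_singleton]
  · have hgal : IsGalois (FC k k₁) (NC k k₁) :=
      IsGalois.of_fixed_field (NC k k₁) (⊤ : Subgroup ((NC k k₁) ≃ₐ[k] (NC k k₁)))
    exact hgal.to_isSeparable

end FieldTheory

section Descent

variable {F₀ F₁ : Type u} {L₀ : Type v} {L₁ : Type w₁} [Field F₀] [Field F₁] [Field L₀] [Field L₁]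
    [Algebra F₀ F₁] [FiniteDimensional F₀ F₁] [Algebra.IsSeparable F₀ F₁]
    [Algebra F₀ L₀] [Algebra L₀ L₁] [Algebra F₁ L₁] [Algebra F₀ L₁]
    [IsScalarTower F₀ F₁ L₁] [IsScalarTower F₀ L₀ L₁]

/-- If a separable finite constant field extension is nonsingular, so is the base. -/
theorem NSw_of_sep_of_allNS (hK₀ : IsFunctionField F₀ L₀) (hg₀ : IsGeometric F₀ L₀)
    (h01 : Function.Bijective (Algebra.TensorProduct.productMap
      (IsScalarTower.toAlgHom F₀ F₁ L₁) (IsScalarTower.toAlgHom F₀ L₀ L₁)))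
    (hAll : SetNS.{u, w₁, max u v} F₀ F₁ L₁ Set.univ)
    (Q : Place F₀ L₀) (F'' : Type u) [Field F''] [Algebra F₀ F''] [FiniteDimensional F₀ F'']
    (L'' : Type v) [Field L''] [Algebra L₀ L''] [Algebra F'' L''] [Algebra F₀ L'']
    [IsScalarTower F₀ F'' L''] [IsScalarTower F₀ L₀ L'']
    (h'' : Function.Bijective (Algebra.TensorProduct.productMap
      (IsScalarTower.toAlgHom F₀ F'' L'') (IsScalarTower.toAlgHom F₀ L₀ L''))) :
    NSw Q.O F'' L'' := by
  classical
  obtain ⟨F₃, fF₃, a03, fd03, a''3, t0''3, a13, t013, -⟩ := exists_common_ext F₀ F'' F₁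
  have hK'' : IsFunctionField F'' L'' := isFunctionField_scalar_ext h'' hK₀ hg₀
  have hg'' : IsGeometric F'' L'' := isGeometric_scalar_ext h'' hg₀
  haveI : FiniteDimensional F'' F₃ := FiniteDimensional.right F₀ F'' F₃
  haveI : FiniteDimensional F₁ F₃ := FiniteDimensional.right F₀ F₁ F₃
  obtain ⟨L₃, fL₃, aL''L₃, aF₃L₃, aF''L₃, t1, t2, hb₃⟩ := exists_canon_model hg'' F₃
  letI aL₀L₃ : Algebra L₀ L₃ := ((algebraMap L'' L₃).comp (algebraMap L₀ L'')).toAlgebra
  haveI : IsScalarTower L₀ L'' L₃ := IsScalarTower.of_algebraMap_eq (fun _ => rfl)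
  letI aF₀L₃ : Algebra F₀ L₃ := ((algebraMap L₀ L₃).comp (algebraMap F₀ L₀)).toAlgebra
  haveI : IsScalarTower F₀ L₀ L₃ := IsScalarTower.of_algebraMap_eq (fun _ => rfl)
  have hF₀L₃ : ∀ c : F₀, algebraMap F₀ L₃ c =
      algebraMap L'' L₃ (algebraMap L₀ L'' (algebraMap F₀ L₀ c)) := fun _ => rfl
  haveI : IsScalarTower F₀ F'' L₃ := IsScalarTower.of_algebraMap_eq (fun c => by
    rw [hF₀L₃, ← IsScalarTower.algebraMap_apply F₀ L₀ L'',
      IsScalarTower.algebraMap_apply F₀ F'' L'', ← IsScalarTower.algebraMap_apply F'' L'' L₃])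
  haveI : IsScalarTower F₀ F₃ L₃ := IsScalarTower.of_algebraMap_eq (fun c => by
    rw [IsScalarTower.algebraMap_apply F₀ F'' L₃, IsScalarTower.algebraMap_apply F₀ F'' F₃,
      ← IsScalarTower.algebraMap_apply F'' F₃ L₃])
  have h03 := bijective_comp h'' hb₃
  obtain ⟨L₁', fL₁', aL₀L₁', aF₁L₁', aF₀L₁', s1, s2, hb₁'⟩ := exists_canon_model hg₀ F₁
  letI aF₁L₃ : Algebra F₁ L₃ := ((algebraMap F₃ L₃).comp (algebraMap F₁ F₃)).toAlgebra
  haveI : IsScalarTower F₁ F₃ L₃ := IsScalarTower.of_algebraMap_eq (fun _ => rfl)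
  obtain ⟨aL₁'L₃, r1, r2, h13⟩ := exists_algebra_intermediate hb₁' h03
  have hAll' : SetNS.{u, max u v, max u v} F₀ F₁ L₁' Set.univ :=
    allNS_model_indep h01 hb₁' hAll
  have hns1 : NSw Q.O F₁ L₁' := by
    letI : Algebra Q.O L₁' := ((algebraMap L₀ L₁').comp (algebraMap Q.O L₀)).toAlgebra
    haveI : IsScalarTower Q.O L₀ L₁' := IsScalarTower.of_algebraMap_eq (fun _ => rfl)
    have h := integralClosure_eq_adjoin_of_isReduced hb₁' hK₀ Q (resF Q) (resF_surjective Q)
      (resF_eq_zero_iff Q) (isReduced_tensor_of_isSeparable_left F₀ F₁ (ResF Q))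
    rw [NSw_iff]
    intro z
    have : z ∈ (integralClosure Q.O L₁').toSubring ↔
        z ∈ (Algebra.adjoin Q.O (Set.range (algebraMap F₁ L₁'))).toSubring := by rw [h]
    exact this
  have hns3 : NSw Q.O F₃ L₃ :=
    (nonsingular_scalar_tower_iff' hb₁' h13 hK₀ Q).mpr
      ⟨hns1, fun Q₁ _ => hAll' Q₁ (Set.mem_univ _) F₃ L₃ h13⟩
  exact ((nonsingular_scalar_tower_iff' h'' hb₃ hK₀ Q).mp hns3).1

end Descent

section Main

/-- S12594. -/
theorem main12594 (k : Type u) (K : Type v) [Field k] [Field K] [Algebra k K]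
    (hK : IsFunctionField k K) (hg : IsGeometric k K) :
    ∃ (k' : Type u) (_ : Field k') (_ : Algebra k k'), FiniteDimensional k k' ∧
      IsPurelyInseparable k k' ∧
      ∀ (K' : Type v) [Field K'] [Algebra K K'] [Algebra k' K'] [Algebra k K']
        [IsScalarTower k k' K'] [IsScalarTower k K K'],
        Function.Bijective (Algebra.TensorProduct.productMap
          (IsScalarTower.toAlgHom k k' K') (IsScalarTower.toAlgHom k K K')) →
        ∀ (Q : Place k' K') (k'' : Type u) [Field k''] [Algebra k' k'']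
          [FiniteDimensional k' k'']
          (K'' : Type v) [Field K''] [Algebra K' K''] [Algebra k'' K''] [Algebra k' K'']
          [IsScalarTower k' k'' K''] [IsScalarTower k' K' K''],
          Function.Bijective (Algebra.TensorProduct.productMap
            (IsScalarTower.toAlgHom k' k'' K'') (IsScalarTower.toAlgHom k' K' K'')) →
          integralClosure (Q.O.toSubring.map (algebraMap K' K'')) K'' =
            Algebra.adjoin (Q.O.toSubring.map (algebraMap K' K''))
              (Set.range (algebraMap k'' K'')) := by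
  classical
  obtain ⟨k₁, fk₁, ak₁, fd₁, K₁, fK₁, aK₁, ak₁K₁, akK₁, t1, t2, hb₁, hAll₁⟩ :=
    exists_allNS hK hg
  obtain ⟨ki, fki, aki, fdi, hpi, N, fN, akN, akiN, ak₁N, tkkiN, tkk₁N, fdN, hsep⟩ :=
    exists_insep_sep_tower k k₁
  obtain ⟨K_N, fKN, aKKN, aNKN, akKN, u1, u2, hbN⟩ := exists_canon_model hg N
  haveI : FiniteDimensional k₁ N := FiniteDimensional.right k k₁ N
  haveI : FiniteDimensional ki N := FiniteDimensional.right k ki N
  haveI : Algebra.IsAlgebraic k k₁ := Algebra.IsAlgebraic.of_finite k k₁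
  letI ak₁KN : Algebra k₁ K_N := ((algebraMap N K_N).comp (algebraMap k₁ N)).toAlgebra
  haveI : IsScalarTower k₁ N K_N := IsScalarTower.of_algebraMap_eq (fun _ => rfl)
  obtain ⟨aK₁KN, r1, r2, h1N⟩ := exists_algebra_intermediate hb₁ hbN
  haveI : FiniteDimensional K K₁ := finiteDimensional_constExt hb₁
  haveI : FiniteDimensional K₁ K_N := finiteDimensional_constExt h1N
  haveI : IsScalarTower k k₁ K_N := IsScalarTower.of_algebraMap_eq (fun c => by
    show algebraMap k K_N c = algebraMap N K_N (algebraMap k₁ N (algebraMap k k₁ c))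
    rw [← IsScalarTower.algebraMap_apply k k₁ N, ← IsScalarTower.algebraMap_apply k N K_N])
  haveI : IsScalarTower k K₁ K_N := IsScalarTower.of_algebraMap_eq (fun c => by
    rw [IsScalarTower.algebraMap_apply k K K_N, IsScalarTower.algebraMap_apply K K₁ K_N,
      ← IsScalarTower.algebraMap_apply k K K₁])
  have hK₁ : IsFunctionField k₁ K₁ := isFunctionField_scalar_ext hb₁ hK hg
  have hAllN : SetNS.{u, max u v, max u v} k N K_N Set.univ := by
    refine setNS_up (k := k) hK₁ h1N ?_ hAll₁
    intro Q₂ _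
    obtain ⟨Q₁, e, he⟩ := exists_isOverWith_tower (K' := K₁) hK Q₂
    exact ⟨Q₁, Set.mem_univ _, ⟨e, he⟩⟩
  refine ⟨ki, fki, aki, fdi, hpi, ?_⟩
  intro K' _ _ _ _ _ _ hb' Q k'' _ _ _ K'' _ _ _ _ _ _ hb''
  have hK' : IsFunctionField ki K' := isFunctionField_scalar_ext hb' hK hg
  have hg' : IsGeometric ki K' := isGeometric_scalar_ext hb' hg
  letI akiKN : Algebra ki K_N := ((algebraMap N K_N).comp (algebraMap ki N)).toAlgebra
  haveI : IsScalarTower ki N K_N := IsScalarTower.of_algebraMap_eq (fun _ => rfl)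
  obtain ⟨aK'KN, q1, q2, hiN⟩ := exists_algebra_intermediate hb' hbN
  haveI : IsScalarTower k ki K_N := IsScalarTower.of_algebraMap_eq (fun c => by
    show algebraMap k K_N c = algebraMap N K_N (algebraMap ki N (algebraMap k ki c))
    rw [← IsScalarTower.algebraMap_apply k ki N, ← IsScalarTower.algebraMap_apply k N K_N])
  have hAll' : SetNS.{u, max u v, max u v} ki N K_N Set.univ :=
    fun Q' _ => hAllN (downPl (k := k) Q') (Set.mem_univ _)
  exact NSw_of_sep_of_allNS hK' hg' hiN hAll' Q k'' K'' hb''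

end Main

end Sing

end FunFld
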