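import Mathlib
import Groth.Agent.Lib.FunFldSing8_helper2
import Groth.Agent.Lib.FunFldQuad_helper2
import Groth.Agent.Lib.FunFldRHB_helper2

/-! Singular places of a function field, part 9 (helper2): places of `k̄K` are defined over a
finite extension of the constant field. -/

set_option linter.style.haveILetI false

open Polynomial IntermediateField WithZero Module TensorProduct

namespace FunFld

namespace Sing

universe u v w

section DegOne

variable {F₀ F₂ : Type u} {L₀ : Type v} {L₂ : Type w} [Field F₀] [Field F₂] [Field L₀] [Field L₂]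
    [Algebra F₀ F₂] [FiniteDimensional F₀ F₂] [Algebra F₀ L₀] [Algebra L₀ L₂] [Algebra F₂ L₂]
    [Algebra F₀ L₂] [IsScalarTower F₀ F₂ L₂] [IsScalarTower F₀ L₀ L₂]

/-- Above a place of degree one there is exactly one place in a finite constant field extension,
and it is unramified. -/
theorem unique_unramified_of_deg_one
    (h : Function.Bijective (Algebra.TensorProduct.productMap
      (IsScalarTower.toAlgHom F₀ F₂ L₂) (IsScalarTower.toAlgHom F₀ L₀ L₂)))
    (hK₀ : IsFunctionField F₀ L₀) (P₀ : Place F₀ L₀) (hdeg : P₀.deg = 1) :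
    (∀ R : Place F₀ L₂, IsOver R P₀ → IsOverWith R P₀ 1) ∧
      ∀ R R' : Place F₀ L₂, IsOver R P₀ → IsOver R' P₀ → R = R' := by
  classical
  haveI : FiniteDimensional L₀ L₂ := finiteDimensional_constExt h
  haveI : Algebra.IsAlgebraic F₀ F₂ := Algebra.IsAlgebraic.of_finite F₀ F₂
  obtain ⟨Qs, hQs⟩ : ∃ Qs : Finset (Place F₀ L₂), ∀ R, R ∈ Qs ↔ IsOver R P₀ :=
    ⟨(finite_isOver hK₀ P₀).toFinset, fun R => Set.Finite.mem_toFinset _⟩
  have hsum := sum_ramIdx_mul_deg hK₀ P₀ Qs hQs
  rw [finrank_constExt h, hdeg, mul_one] at hsum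
  have hn : 0 < Module.finrank F₀ F₂ := Module.finrank_pos
  have hterm : ∀ R ∈ Qs, 1 ≤ ramIdx R P₀ * (upPl (k' := F₂) R).deg := by
    intro R hR
    have hover := ((hQs R).mp hR).isOverWith_ramIdx
    have h1 : 0 < ramIdx R P₀ := hover.pos
    have h2 : 0 < (upPl (k' := F₂) R).deg := by
      have h3 := Place.deg_pos_ext hK₀ R
      rw [deg_eq_mul_deg_upPl (k' := F₂) R] at h3
      exact Nat.pos_of_mul_pos_left h3
    exact Nat.mul_pos h1 h2
  have hsum' : ∑ R ∈ Qs, ramIdx R P₀ * (upPl (k' := F₂) R).deg = 1 := by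
    have h4 : Module.finrank F₀ F₂ * ∑ R ∈ Qs, ramIdx R P₀ * (upPl (k' := F₂) R).deg =
        Module.finrank F₀ F₂ * 1 := by
      have h5 : ∀ R ∈ Qs, Module.finrank F₀ F₂ * (ramIdx R P₀ * (upPl (k' := F₂) R).deg) =
          ramIdx R P₀ * R.deg := by
        intro R _
        rw [deg_eq_mul_deg_upPl (k' := F₂) R]
        ring
      rw [Finset.mul_sum, Finset.sum_congr rfl h5, hsum, mul_one]
    exact Nat.eq_of_mul_eq_mul_left hn h4
  have hcard : Qs.card ≤ 1 := by
    calc Qs.card = ∑ _R ∈ Qs, 1 := by simp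
      _ ≤ ∑ R ∈ Qs, ramIdx R P₀ * (upPl (k' := F₂) R).deg := Finset.sum_le_sum hterm
      _ = 1 := hsum'
  refine ⟨fun R hR => ?_, fun R R' hR hR' =>
    Finset.card_le_one.mp hcard R ((hQs R).mpr hR) R' ((hQs R').mpr hR')⟩
  have hmem := (hQs R).mpr hR
  have hover := hR.isOverWith_ramIdx
  have h6 : ramIdx R P₀ * (upPl (k' := F₂) R).deg ≤ 1 := by
    rw [← hsum']
    exact Finset.single_le_sum (f := fun R => ramIdx R P₀ * (upPl (k' := F₂) R).deg)
      (fun _ _ => Nat.zero_le _) hmem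
  have h7 : 0 < ramIdx R P₀ := hover.pos
  have h8 : ramIdx R P₀ = 1 := by
    rcases Nat.eq_zero_or_pos (upPl (k' := F₂) R).deg with h0 | h0
    · have := hterm R hmem
      rw [h0, mul_zero] at this
      omega
    · have : ramIdx R P₀ ≤ ramIdx R P₀ * (upPl (k' := F₂) R).deg :=
        Nat.le_mul_of_pos_right _ h0
      omega
  rw [h8] at hover
  exact hover

end DegOne

section Gen

variable {k kbar : Type u} {K Kbar : Type v} [Field k] [Field kbar] [Field K] [Field Kbar]
    [Algebra k kbar] [Algebra k K] [Algebra K Kbar] [Algebra kbar Kbar] [Algebra k Kbar]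
    [IsScalarTower k kbar Kbar] [IsScalarTower k K Kbar]

variable (K Kbar) in
/-- The subfield `E K` of `Kbar`. -/
noncomputable def KE (E : IntermediateField k kbar) : IntermediateField K Kbar :=
  IntermediateField.adjoin K (Set.range fun c : E => algebraMap kbar Kbar c)

noncomputable instance KE.instAlgebra (E : IntermediateField k kbar) :
    Algebra E (KE K Kbar E) :=
  (RingHom.codRestrict ((algebraMap kbar Kbar).comp (algebraMap E kbar)) (KE K Kbar E)
    (fun c => IntermediateField.subset_adjoin K _ ⟨c, rfl⟩)).toAlgebra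

theorem KE.coe_algebraMap (E : IntermediateField k kbar) (c : E) :
    ((algebraMap E (KE K Kbar E) c : KE K Kbar E) : Kbar) = algebraMap kbar Kbar (c : kbar) :=
  rfl

instance KE.tower_k (E : IntermediateField k kbar) : IsScalarTower k E (KE K Kbar E) :=
  IsScalarTower.of_algebraMap_eq (fun c => Subtype.ext (by
    show algebraMap k Kbar c = algebraMap kbar Kbar (algebraMap k kbar c)
    exact IsScalarTower.algebraMap_apply k kbar Kbar c))

instance KE.tower_top (E : IntermediateField k kbar) : IsScalarTower E (KE K Kbar E) Kbar :=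
  IsScalarTower.of_algebraMap_eq (fun _ => rfl)

theorem isScalarTower_base_mid (L : IntermediateField K Kbar) : IsScalarTower k L Kbar :=
  IsScalarTower.of_algebraMap_eq (fun _ => rfl)

/-- A subfield of `Kbar` generated over `K` by the image of a finite extension `F` of `k`
is a model of `F ⊗_k K`. -/
theorem bijective_of_le_adjoin (hg : IsGeometric k K) (F : Type u) [Field F] [Algebra k F]
    [FiniteDimensional k F] (L : IntermediateField K Kbar) [Algebra F L] [IsScalarTower k F L]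
    (hL : ∀ y : L, (y : Kbar) ∈ IntermediateField.adjoin K
      (Set.range fun c : F => ((algebraMap F L c : L) : Kbar))) :
    Function.Bijective (Algebra.TensorProduct.productMap
      (IsScalarTower.toAlgHom k F L) (IsScalarTower.toAlgHom k K L)) := by
  letI : Field (F ⊗[k] K) := (hg F inferInstance).toField
  obtain ⟨pm, hpm⟩ : ∃ pm : F ⊗[k] K →ₐ[k] L, pm = Algebra.TensorProduct.productMap
      (IsScalarTower.toAlgHom k F L) (IsScalarTower.toAlgHom k K L) := ⟨_, rfl⟩
  rw [← hpm]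
  have hinj : Function.Injective pm := by
    have := RingHom.injective (AlgHom.toRingHom pm)
    exact this
  refine ⟨hinj, fun y => ?_⟩
  obtain ⟨f, hf⟩ : ∃ f : F ⊗[k] K →+* Kbar, ∀ τ, f τ = ((pm τ : L) : Kbar) :=
    ⟨(algebraMap L Kbar).comp pm.toRingHom, fun _ => rfl⟩
  have hle : (IntermediateField.adjoin K
      (Set.range fun c : F => ((algebraMap F L c : L) : Kbar))).toSubfield ≤ f.fieldRange := by
    refine IntermediateField.adjoin_le_subfield K _ ?_ ?_
    · rintro _ ⟨x, rfl⟩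
      refine ⟨(1 : F) ⊗ₜ x, ?_⟩
      rw [hf, hpm, Algebra.TensorProduct.productMap_apply_tmul, map_one, one_mul]
      rfl
    · rintro _ ⟨c, rfl⟩
      refine ⟨c ⊗ₜ (1 : K), ?_⟩
      rw [hf, hpm, Algebra.TensorProduct.productMap_apply_tmul, map_one, mul_one]
      rfl
  obtain ⟨τ, hτ⟩ := hle (hL y)
  exact ⟨τ, Subtype.ext (by rw [← hf]; exact hτ)⟩

theorem bijective_KE (hg : IsGeometric k K) (E : IntermediateField k kbar)
    [FiniteDimensional k E] :
    Function.Bijective (Algebra.TensorProduct.productMap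
      (IsScalarTower.toAlgHom k E (KE K Kbar E)) (IsScalarTower.toAlgHom k K (KE K Kbar E))) :=
  bijective_of_le_adjoin hg E (KE K Kbar E) (fun y => y.2)

variable [Algebra.IsAlgebraic k kbar]

theorem exists_finite_mem_KE
    (hgen : ∀ y : Kbar, ∃ (ι : Type) (_ : Fintype ι) (c : ι → kbar) (x : ι → K),
      y = ∑ i, algebraMap kbar Kbar (c i) * algebraMap K Kbar (x i)) (y : Kbar) :
    ∃ E : IntermediateField k kbar, FiniteDimensional k E ∧ y ∈ KE K Kbar E := by
  obtain ⟨ι, _, c, x, rfl⟩ := hgen y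
  refine ⟨IntermediateField.adjoin k (Set.range c), ?_, ?_⟩
  · exact IntermediateField.finiteDimensional_adjoin
      (fun a _ => Algebra.IsIntegral.isIntegral a)
  · refine sum_mem (fun i _ => mul_mem ?_ (IntermediateField.algebraMap_mem _ _))
    exact IntermediateField.subset_adjoin K _
      ⟨⟨c i, IntermediateField.subset_adjoin k _ ⟨i, rfl⟩⟩, rfl⟩

omit [Algebra.IsAlgebraic k kbar] in
variable (k) in
include k in
theorem isAlgebraic_of_gen [Algebra.IsAlgebraic k kbar]
    (hgen : ∀ y : Kbar, ∃ (ι : Type) (_ : Fintype ι) (c : ι → kbar) (x : ι → K),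
      y = ∑ i, algebraMap kbar Kbar (c i) * algebraMap K Kbar (x i)) :
    Algebra.IsAlgebraic K Kbar := by
  refine ⟨fun y => ?_⟩
  obtain ⟨ι, _, c, x, rfl⟩ := hgen y
  refine IsIntegral.isAlgebraic (IsIntegral.sum _ (fun i _ =>
    IsIntegral.mul ?_ isIntegral_algebraMap))
  have h1 : IsIntegral k (c i) := Algebra.IsIntegral.isIntegral (c i)
  have h2 : IsIntegral k (algebraMap kbar Kbar (c i)) :=
    h1.map (IsScalarTower.toAlgHom k kbar Kbar)
  exact h2.tower_top

/-- Restriction of a place of `Kbar` to a finite level. -/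
theorem restrict_over (hK : IsFunctionField k K) (hg : IsGeometric k K)
    [Algebra.IsAlgebraic K Kbar] {P₀ : Place k K} (Q : Place kbar Kbar)
    (hQ : IsOver (downPl (k := k) Q) P₀) (E : IntermediateField k kbar)
    [FiniteDimensional k E] :
    ∃ (R : Place k (KE K Kbar E)) (e₂ : ℕ), IsOverWith (downPl (k := k) Q) R e₂ ∧
      IsOver R P₀ := by
  haveI : FiniteDimensional K (KE K Kbar E) := finiteDimensional_constExt (bijective_KE hg E)
  haveI : Algebra.IsAlgebraic (KE K Kbar E) Kbar :=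
    Algebra.IsAlgebraic.tower_top (K := K) (KE K Kbar E)
  haveI : IsScalarTower k (KE K Kbar E) Kbar := isScalarTower_base_mid _
  obtain ⟨R, e₂, he₂⟩ := exists_isOverWith_tower (K' := KE K Kbar E) hK (downPl (k := k) Q)
  obtain ⟨P', e₁, he₁⟩ := exists_isOverWith hK R
  have h12 := he₂.trans he₁
  obtain ⟨e, he⟩ := hQ
  have hP' : P' = P₀ := IsOverWith.unique_below h12 he
  subst hP'
  exact ⟨R, e₂, he₂, e₁, he₁⟩

/-- A place of `Kbar` over a place of degree one of `K` is unramified. -/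
theorem ramIdx_eq_one_of_deg_one (hK : IsFunctionField k K) (hg : IsGeometric k K)
    (hgen : ∀ y : Kbar, ∃ (ι : Type) (_ : Fintype ι) (c : ι → kbar) (x : ι → K),
      y = ∑ i, algebraMap kbar Kbar (c i) * algebraMap K Kbar (x i))
    {P₀ : Place k K} (hdeg : P₀.deg = 1) (Q : Place kbar Kbar) {e : ℕ}
    (he : IsOverWith (downPl (k := k) Q) P₀ e) : e = 1 := by
  classical
  haveI := isAlgebraic_of_gen k hgen
  obtain ⟨y, hy⟩ := Q.2.2 (exp (-1))
  obtain ⟨E, hE, hyE⟩ := exists_finite_mem_KE (k := k) hgen y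
  haveI := hE
  obtain ⟨R, e₂, he₂, e₁, he₁⟩ := restrict_over hK hg Q ⟨e, he⟩ E
  have hb := bijective_KE (Kbar := Kbar) hg E
  have h1 := (unique_unramified_of_deg_one hb hK P₀ hdeg).1 R ⟨e₁, he₁⟩
  have he₁' : e₁ = 1 := IsOverWith.unique_idx he₁ h1
  haveI : IsScalarTower k (KE K Kbar E) Kbar := isScalarTower_base_mid _
  have hee : e = e₁ * e₂ := IsOverWith.unique_idx he (he₂.trans he₁)
  have hval : Q.1 y = R.1 ⟨y, hyE⟩ ^ e₂ := he₂ ⟨y, hyE⟩
  have h3 : WithZero.log (Q.1 y) = -1 := by rw [hy, log_exp]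
  rw [hval, log_pow, nsmul_eq_mul] at h3
  have h4 : (e₂ : ℤ) ∣ 1 := ⟨-WithZero.log (R.1 ⟨y, hyE⟩), by rw [mul_neg, h3, neg_neg]⟩
  have h5 : (e₂ : ℤ) = 1 := Int.eq_one_of_dvd_one (Int.natCast_nonneg e₂) h4
  have h6 : e₂ = 1 := by exact_mod_cast h5
  rw [hee, he₁', h6]

/-- Above a place of degree one of `K` there is only one place of `Kbar`. -/
theorem place_unique_of_deg_one (hK : IsFunctionField k K) (hg : IsGeometric k K)
    (hgen : ∀ y : Kbar, ∃ (ι : Type) (_ : Fintype ι) (c : ι → kbar) (x : ι → K),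
      y = ∑ i, algebraMap kbar Kbar (c i) * algebraMap K Kbar (x i))
    {P₀ : Place k K} (hdeg : P₀.deg = 1) (Q Q₂ : Place kbar Kbar)
    (hQ : IsOver (downPl (k := k) Q) P₀) (hQ₂ : IsOver (downPl (k := k) Q₂) P₀) : Q₂ = Q := by
  classical
  haveI := isAlgebraic_of_gen k hgen
  refine Place.eq_of_forall_le_one (fun a ha => ?_)
  obtain ⟨E, hE, haE⟩ := exists_finite_mem_KE (k := k) hgen a
  haveI := hE
  haveI : IsScalarTower k (KE K Kbar E) Kbar := isScalarTower_base_mid _
  obtain ⟨R, e₂, he₂, hR⟩ := restrict_over hK hg Q hQ E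
  obtain ⟨R₂, e₂', he₂', hR₂⟩ := restrict_over hK hg Q₂ hQ₂ E
  have hb := bijective_KE (Kbar := Kbar) hg E
  have hRR : R = R₂ := (unique_unramified_of_deg_one hb hK P₀ hdeg).2 R R₂ hR hR₂
  subst hRR
  have h1 : Q₂.1 a = R.1 ⟨a, haE⟩ ^ e₂' := he₂' ⟨a, haE⟩
  have h2 : Q.1 a = R.1 ⟨a, haE⟩ ^ e₂ := he₂ ⟨a, haE⟩
  have ha' : R.1 ⟨a, haE⟩ ^ e₂' ≤ 1 ^ e₂' := by
    rw [one_pow, ← h1]
    exact ha
  rw [h2]
  have h3 : R.1 ⟨a, haE⟩ ≤ 1 := (pow_le_pow_iff_left₀ zero_le zero_le he₂'.pos.ne').mp ha'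
  exact pow_le_one₀ zero_le h3

end Gen

end Sing

end FunFld
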