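import Mathlib
import Groth.Agent.Lib.FunFldSing9_helper2

/-! Singular places of a function field, part 10 (helper2): S12593. -/

set_option linter.style.haveILetI false

open Polynomial IntermediateField WithZero Module TensorProduct

namespace FunFld

namespace Sing

universe u v

/-- S12593. -/
theorem main12593 (k kbar : Type u) (K Kbar : Type v) [Field k] [Field kbar] [Field K]
    [Field Kbar] [Algebra k kbar] [IsAlgClosure k kbar] [Algebra k K] [Algebra K Kbar]
    [Algebra kbar Kbar] [Algebra k Kbar] [IsScalarTower k kbar Kbar] [IsScalarTower k K Kbar]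
    (h : Function.Bijective (Algebra.TensorProduct.productMap
      (IsScalarTower.toAlgHom k kbar Kbar) (IsScalarTower.toAlgHom k K Kbar)))
    (hK : IsFunctionField k K) (hg : IsGeometric k K) (Q : Place kbar Kbar) :
    ∃ k' : IntermediateField k kbar, FiniteDimensional k k' ∧
      (∃ z ∈ Algebra.adjoin K (Set.range fun c : k' => algebraMap kbar Kbar c),
        Q.1 z = WithZero.exp (-1)) ∧
      ∀ Q' : Place kbar Kbar,
        (∃ e : ℕ, ∀ z ∈ Algebra.adjoin K (Set.range fun c : k' => algebraMap kbar Kbar c),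
          Q'.1 z = Q.1 z ^ e) → Q' = Q := by
  classical
  haveI : IsAlgClosed kbar := IsAlgClosure.isAlgClosed k
  have hgen₀ : ∀ y : Kbar, ∃ (ι : Type) (_ : Fintype ι) (c : ι → kbar) (x : ι → K),
      y = ∑ i, algebraMap kbar Kbar (c i) * algebraMap K Kbar (x i) := by
    intro y
    refine constExt_induction h (motive := fun y => ∃ (ι : Type) (_ : Fintype ι)
      (c : ι → kbar) (x : ι → K),
      y = ∑ i, algebraMap kbar Kbar (c i) * algebraMap K Kbar (x i)) ?_ ?_ ?_ y
    · exact ⟨Empty, inferInstance, Empty.elim, Empty.elim, by simp⟩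
    · intro c x
      exact ⟨Unit, inferInstance, fun _ => c, fun _ => x, by simp⟩
    · rintro _ _ ⟨ι₁, _, c₁, x₁, rfl⟩ ⟨ι₂, _, c₂, x₂, rfl⟩
      exact ⟨ι₁ ⊕ ι₂, inferInstance, Sum.elim c₁ c₂, Sum.elim x₁ x₂, by
        rw [Fintype.sum_sum_type]; simp⟩
  haveI : Algebra.IsAlgebraic K Kbar := isAlgebraic_of_gen k hgen₀
  obtain ⟨P, e₀, hP⟩ := exists_isOverWith hK (downPl (k := k) Q)
  obtain ⟨k₀, fk₀, ak₀, fd₀, hsplit⟩ := exists_splitting_ext.{u, v, v} hK hg P
  haveI : Algebra.IsAlgebraic k k₀ := Algebra.IsAlgebraic.of_finite k k₀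
  obtain ⟨ι, -⟩ : ∃ ι : k₀ →ₐ[k] kbar, ι = IsAlgClosed.lift := ⟨_, rfl⟩
  haveI fdE : FiniteDimensional k ι.fieldRange :=
    ι.equivFieldRange.toLinearEquiv.finiteDimensional
  obtain ⟨j, hj⟩ : ∃ j : k₀ →+* ι.fieldRange, ∀ c, ((j c : ι.fieldRange) : kbar) = ι c :=
    ⟨RingHom.codRestrict ι.toRingHom ι.fieldRange (fun c => AlgHom.mem_fieldRange.mpr ⟨c, rfl⟩),
      fun _ => rfl⟩
  letI a1 : Algebra k₀ (KE K Kbar ι.fieldRange) :=
    ((algebraMap ι.fieldRange (KE K Kbar ι.fieldRange)).comp j).toAlgebra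
  have ha1 : ∀ c : k₀, ((algebraMap k₀ (KE K Kbar ι.fieldRange) c :
      KE K Kbar ι.fieldRange) : Kbar) = algebraMap kbar Kbar (ι c) := fun c => by
    show algebraMap kbar Kbar ((j c : ι.fieldRange) : kbar) = _
    rw [hj]
  haveI t1 : IsScalarTower k k₀ (KE K Kbar ι.fieldRange) :=
    IsScalarTower.of_algebraMap_eq (fun c => Subtype.ext (by
      rw [ha1, ι.commutes, ← IsScalarTower.algebraMap_apply k kbar Kbar]
      rfl))
  have hb₀ : Function.Bijective (Algebra.TensorProduct.productMap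
      (IsScalarTower.toAlgHom k k₀ (KE K Kbar ι.fieldRange))
      (IsScalarTower.toAlgHom k K (KE K Kbar ι.fieldRange))) := by
    refine bijective_of_le_adjoin hg k₀ (KE K Kbar ι.fieldRange) (fun y => ?_)
    refine IntermediateField.adjoin.mono K _ _ ?_ y.2
    rintro _ ⟨⟨c', hc'⟩, rfl⟩
    obtain ⟨c, rfl⟩ := AlgHom.mem_fieldRange.mp hc'
    exact ⟨c, ha1 c⟩
  have hK₀ : IsFunctionField k₀ (KE K Kbar ι.fieldRange) := isFunctionField_scalar_ext hb₀ hK hg
  have hg₀ : IsGeometric k₀ (KE K Kbar ι.fieldRange) := isGeometric_scalar_ext hb₀ hg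
  letI a2 : Algebra k₀ kbar := ι.toRingHom.toAlgebra
  letI a3 : Algebra k₀ Kbar := ((algebraMap kbar Kbar).comp (algebraMap k₀ kbar)).toAlgebra
  haveI t2 : IsScalarTower k₀ kbar Kbar := IsScalarTower.of_algebraMap_eq (fun _ => rfl)
  haveI t3 : IsScalarTower k₀ (KE K Kbar ι.fieldRange) Kbar :=
    IsScalarTower.of_algebraMap_eq (fun c => (ha1 c).symm)
  haveI t4 : IsScalarTower k k₀ kbar := IsScalarTower.of_algebraMap_eq (fun c =>
    (ι.commutes c).symm)
  haveI : Algebra.IsAlgebraic k₀ kbar := Algebra.IsAlgebraic.tower_top (K := k) k₀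
  haveI : Algebra.IsAlgebraic (KE K Kbar ι.fieldRange) Kbar :=
    Algebra.IsAlgebraic.tower_top (K := K) (KE K Kbar ι.fieldRange)
  haveI : IsScalarTower k (KE K Kbar ι.fieldRange) Kbar := isScalarTower_base_mid _
  obtain ⟨P₀, e, he⟩ := exists_isOverWith hK₀ (downPl (k := k₀) Q)
  -- `P₀` has degree one
  have hdeg : P₀.deg = 1 := by
    refine hsplit (KE K Kbar ι.fieldRange) hb₀ P₀ ?_
    obtain ⟨P', e', he'⟩ := exists_isOverWith hK (downPl (k := k) P₀)
    have hek : IsOverWith (downPl (k := k) Q) (downPl (k := k) P₀) e := fun x => he x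
    have h12 := hek.trans he'
    have hP' : P' = P := IsOverWith.unique_below h12 hP
    rw [← hP']
    exact ⟨e', he'⟩
  have hgen₁ : ∀ y : Kbar, ∃ (ι' : Type) (_ : Fintype ι') (c : ι' → kbar)
      (x : ι' → KE K Kbar ι.fieldRange),
      y = ∑ i, algebraMap kbar Kbar (c i) * algebraMap (KE K Kbar ι.fieldRange) Kbar (x i) := by
    intro y
    obtain ⟨ι', _, c, x, rfl⟩ := hgen₀ y
    exact ⟨ι', inferInstance, c, fun i => algebraMap K (KE K Kbar ι.fieldRange) (x i), rfl⟩
  have he1 : e = 1 := ramIdx_eq_one_of_deg_one (k := k₀) (kbar := kbar)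
    (K := KE K Kbar ι.fieldRange) (Kbar := Kbar) hK₀ hg₀ hgen₁ hdeg Q he
  subst he1
  have hmem : ∀ t : KE K Kbar ι.fieldRange, (t : Kbar) ∈
      Algebra.adjoin K (Set.range fun c : ι.fieldRange => algebraMap kbar Kbar c) := by
    intro t
    have h1 : (t : Kbar) ∈ (IntermediateField.adjoin K
        (Set.range fun c : ι.fieldRange => algebraMap kbar Kbar c)).toSubalgebra := t.2
    rw [IntermediateField.adjoin_toSubalgebra_of_isAlgebraic
      (fun x _ => Algebra.IsAlgebraic.isAlgebraic x)] at h1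
    exact h1
  refine ⟨ι.fieldRange, fdE, ?_, ?_⟩
  · obtain ⟨t, ht⟩ := P₀.2.2 (exp (-1))
    refine ⟨(t : Kbar), hmem t, ?_⟩
    have := he t
    rw [pow_one] at this
    rw [← ht, ← this]
    rfl
  · rintro Q' ⟨e', hQ'⟩
    refine place_unique_of_deg_one (k := k₀) (kbar := kbar)
      (K := KE K Kbar ι.fieldRange) (Kbar := Kbar) hK₀ hg₀ hgen₁ hdeg Q Q' ⟨1, he⟩ ⟨e', ?_⟩
    intro t
    have h1 := hQ' (t : Kbar) (hmem t)
    have h2 := he t
    rw [pow_one] at h2
    show Q'.1 (t : Kbar) = P₀.1 t ^ e'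
    rw [h1, ← h2]
    rfl

end Sing

end FunFld
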