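import Mathlib
import Groth.Agent.Lib.FunFldSing10_helper2

/-! Singular places of a function field, part 11 (helper2): the places above a nonsingular place
in a splitting field (S12592). -/

set_option linter.style.haveILetI false

open Polynomial IntermediateField WithZero Module TensorProduct

namespace FunFld

namespace Sing

universe u u' v v' w

section FieldLemma

/-- If `M = F·ks` with `ks/k` separable and `M/ks` purely inseparable, then `[M : ks]` is the
inseparable degree of `F/k`. -/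
theorem finrank_eq_finInsepDegree_of_adjoin (k F ks M : Type*) [Field k] [Field F] [Field ks]
    [Field M] [Algebra k F] [Algebra k ks] [Algebra k M] [Algebra F M] [Algebra ks M]
    [IsScalarTower k F M] [IsScalarTower k ks M]
    [Algebra.IsAlgebraic k F] [Algebra.IsAlgebraic k ks] [Algebra.IsSeparable k ks]
    [IsPurelyInseparable ks M]
    (htop : Algebra.adjoin F (Set.range (algebraMap ks M)) = ⊤) :
    Module.finrank ks M = Field.finInsepDegree k F := by
  have hsepM : Algebra.IsSeparable F M := by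
    rw [← separableClosure.eq_top_iff, eq_top_iff]
    intro x _
    have hx : x ∈ Algebra.adjoin F (Set.range (algebraMap ks M)) := by
      rw [htop]
      exact Algebra.mem_top
    have hle : Algebra.adjoin F (Set.range (algebraMap ks M)) ≤
        (separableClosure F M).toSubalgebra := by
      refine Algebra.adjoin_le ?_
      rintro _ ⟨c, rfl⟩
      show algebraMap ks M c ∈ separableClosure F M
      rw [mem_separableClosure_iff]
      have hc : IsSeparable k c := Algebra.IsSeparable.isSeparable k c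
      have h1 : IsSeparable k (algebraMap ks M c) :=
        hc.map (IsScalarTower.toAlgHom k ks M) (RingHom.injective _)
      exact h1.tower_top F
    exact hle hx
  have e1 := Field.finInsepDegree_mul_finInsepDegree_of_isAlgebraic k ks M
  have e2 := Field.finInsepDegree_mul_finInsepDegree_of_isAlgebraic k F M
  rw [Algebra.IsSeparable.finInsepDegree_eq k ks, one_mul,
    IsPurelyInseparable.finInsepDegree_eq ks M] at e1
  rw [Algebra.IsSeparable.finInsepDegree_eq F M, mul_one] at e2
  rw [e1, e2]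

end FieldLemma

section Inter2

variable {k k₁ k₂ K K₁ K₂ : Type*} [Field k] [Field k₁] [Field k₂] [Field K] [Field K₁] [Field K₂]
    [Algebra k k₁] [Algebra k₁ k₂] [Algebra k k₂] [IsScalarTower k k₁ k₂]
    [FiniteDimensional k k₁] [FiniteDimensional k₁ k₂]
    [Algebra k K] [Algebra K K₁] [Algebra k₁ K₁] [Algebra k K₁] [IsScalarTower k k₁ K₁]
    [IsScalarTower k K K₁]
    [Algebra K K₂] [Algebra k₂ K₂] [Algebra k K₂] [IsScalarTower k k₂ K₂] [IsScalarTower k K K₂]
    [Algebra k₁ K₂] [IsScalarTower k₁ k₂ K₂]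
    [Algebra K₁ K₂] [IsScalarTower K K₁ K₂] [IsScalarTower k₁ K₁ K₂]

/-- A compatible embedding of an intermediate model exhibits the top model as a constant field
extension of the intermediate one. -/
theorem bijective_intermediate_of_tower
    (h1 : Function.Bijective (Algebra.TensorProduct.productMap
      (IsScalarTower.toAlgHom k k₁ K₁) (IsScalarTower.toAlgHom k K K₁)))
    (h2 : Function.Bijective (Algebra.TensorProduct.productMap
      (IsScalarTower.toAlgHom k k₂ K₂) (IsScalarTower.toAlgHom k K K₂))) :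
    Function.Bijective (Algebra.TensorProduct.productMap
      (IsScalarTower.toAlgHom k₁ k₂ K₂) (IsScalarTower.toAlgHom k₁ K₁ K₂)) := by
  classical
  haveI : FiniteDimensional K K₁ := finiteDimensional_constExt h1
  haveI : FiniteDimensional k k₂ := FiniteDimensional.trans k k₁ k₂
  haveI : FiniteDimensional K K₂ := finiteDimensional_constExt h2
  haveI : FiniteDimensional K₁ K₂ := FiniteDimensional.right K K₁ K₂
  have hrank : Module.finrank K₁ K₂ = Module.finrank k₁ k₂ := by
    have e1 := Module.finrank_mul_finrank K K₁ K₂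
    have e2 := Module.finrank_mul_finrank k k₁ k₂
    rw [finrank_constExt h1, finrank_constExt h2, ← e2] at e1
    exact Nat.eq_of_mul_eq_mul_left Module.finrank_pos e1
  obtain ⟨γ, -⟩ : ∃ γ : Basis (Fin (finrank k₁ k₂)) k₁ k₂, γ = Module.finBasis k₁ k₂ :=
    ⟨_, rfl⟩
  obtain ⟨c, hc⟩ : ∃ c : Fin (finrank k₁ k₂) → K₂, c = fun j => algebraMap k₂ K₂ (γ j) :=
    ⟨_, rfl⟩
  have hspan : ⊤ ≤ Submodule.span K₁ (Set.range c) := by
    rintro y -
    obtain ⟨τ, rfl⟩ := h2.2 y
    induction τ using TensorProduct.induction_on with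
    | zero => rw [map_zero]; exact Submodule.zero_mem _
    | tmul a x =>
      rw [Algebra.TensorProduct.productMap_apply_tmul]
      show algebraMap k₂ K₂ a * algebraMap K K₂ x ∈ _
      have ha : algebraMap k₂ K₂ a = ∑ j, algebraMap k₁ K₂ (γ.repr a j) * c j := by
        conv_lhs => rw [← γ.sum_repr a]
        rw [map_sum, hc]
        refine Finset.sum_congr rfl (fun j _ => ?_)
        rw [Algebra.smul_def, map_mul, ← IsScalarTower.algebraMap_apply k₁ k₂ K₂]
      rw [ha, Finset.sum_mul]
      refine Submodule.sum_mem _ (fun j _ => ?_)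
      have : algebraMap k₁ K₂ (γ.repr a j) * c j * algebraMap K K₂ x =
          (algebraMap k₁ K₁ (γ.repr a j) * algebraMap K K₁ x) • c j := by
        rw [Algebra.smul_def, map_mul, ← IsScalarTower.algebraMap_apply k₁ K₁ K₂,
          ← IsScalarTower.algebraMap_apply K K₁ K₂]
        ring
      rw [this]
      exact Submodule.smul_mem _ _ (Submodule.subset_span ⟨j, rfl⟩)
    | add a b ha hb => rw [map_add]; exact Submodule.add_mem _ ha hb
  obtain ⟨B₂, hB₂⟩ : ∃ B₂ : Basis (Fin (finrank k₁ k₂)) K₁ K₂, ⇑B₂ = c :=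
    ⟨basisOfTopLeSpanOfCardEqFinrank c hspan (by rw [Fintype.card_fin, hrank]),
      coe_basisOfTopLeSpanOfCardEqFinrank _ _ _⟩
  exact bijective_of_basis γ B₂ (fun j => by rw [hB₂, hc])

end Inter2

section PInsep

variable {F₀ F₂ : Type u} {L₀ : Type v} {L₂ : Type w} [Field F₀] [Field F₂] [Field L₀] [Field L₂]
    [Algebra F₀ F₂] [FiniteDimensional F₀ F₂] [IsPurelyInseparable F₀ F₂] [Algebra F₀ L₀]
    [Algebra L₀ L₂] [Algebra F₂ L₂] [Algebra F₀ L₂] [IsScalarTower F₀ F₂ L₂]
    [IsScalarTower F₀ L₀ L₂]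

/-- A purely inseparable constant field extension is purely inseparable. -/
theorem exists_pow_mem_of_isPurelyInseparable
    (h : Function.Bijective (Algebra.TensorProduct.productMap
      (IsScalarTower.toAlgHom F₀ F₂ L₂) (IsScalarTower.toAlgHom F₀ L₀ L₂)))
    (q : ℕ) [ExpChar F₀ q] (z : L₂) :
    ∃ (m : ℕ) (y : L₀), z ^ q ^ m = algebraMap L₀ L₂ y := by
  haveI : ExpChar L₂ q := expChar_of_injective_algebraMap (algebraMap F₀ L₂).injective q
  refine constExt_induction h
    (motive := fun z => ∃ (m : ℕ) (y : L₀), z ^ q ^ m = algebraMap L₀ L₂ y) ?_ ?_ ?_ z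
  · exact ⟨0, 0, by simp⟩
  · intro c x
    obtain ⟨m, a, ha⟩ := IsPurelyInseparable.pow_mem F₀ q c
    refine ⟨m, algebraMap F₀ L₀ a * x ^ q ^ m, ?_⟩
    have h1 : (algebraMap F₂ L₂ c) ^ q ^ m = algebraMap L₀ L₂ (algebraMap F₀ L₀ a) := by
      rw [← map_pow, ← ha, ← IsScalarTower.algebraMap_apply F₀ F₂ L₂,
        IsScalarTower.algebraMap_apply F₀ L₀ L₂]
    rw [mul_pow, h1, map_mul, map_pow]
  · rintro z₁ z₂ ⟨m₁, y₁, h₁⟩ ⟨m₂, y₂, h₂⟩
    refine ⟨m₁ + m₂, y₁ ^ q ^ m₂ + y₂ ^ q ^ m₁, ?_⟩
    have e1 : z₁ ^ q ^ (m₁ + m₂) = algebraMap L₀ L₂ (y₁ ^ q ^ m₂) := by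
      rw [pow_add, pow_mul, h₁, map_pow]
    have e2 : z₂ ^ q ^ (m₁ + m₂) = algebraMap L₀ L₂ (y₂ ^ q ^ m₁) := by
      rw [add_comm, pow_add, pow_mul, h₂, map_pow]
    rw [add_pow_expChar_pow, e1, e2, map_add]

/-- In a purely inseparable constant field extension there is one place above each place, and
`e · deg = deg`. -/
theorem insep_ramIdx_mul_deg
    (h : Function.Bijective (Algebra.TensorProduct.productMap
      (IsScalarTower.toAlgHom F₀ F₂ L₂) (IsScalarTower.toAlgHom F₀ L₀ L₂)))
    (hK₀ : IsFunctionField F₀ L₀) (P₀ : Place F₀ L₀) (T : Place F₀ L₂) {e : ℕ}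
    (he : IsOverWith T P₀ e) :
    e * (upPl (k' := F₂) T).deg = P₀.deg := by
  classical
  haveI : FiniteDimensional L₀ L₂ := finiteDimensional_constExt h
  haveI : Algebra.IsAlgebraic F₀ F₂ := Algebra.IsAlgebraic.of_finite F₀ F₂
  have huniq : ∀ T' : Place F₀ L₂, IsOver T' P₀ → T' = T := by
    rintro T' ⟨e', he'⟩
    refine Place.eq_of_forall_le_one (fun z hz => ?_)
    obtain ⟨m, y, hy⟩ := exists_pow_mem_of_isPurelyInseparable h (ringExpChar F₀) z
    have hq0 : ringExpChar F₀ ^ m ≠ 0 := pow_ne_zero _ (expChar_pos F₀ (ringExpChar F₀)).ne'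
    have h1 : T'.1 (z ^ ringExpChar F₀ ^ m) ≤ 1 := by
      rw [map_pow]
      exact pow_le_one₀ zero_le hz
    rw [hy, he' y] at h1
    have h2 : P₀.1 y ≤ 1 := (pow_le_one_iff_of_nonneg zero_le he'.pos.ne').mp h1
    have h3 : T.1 (z ^ ringExpChar F₀ ^ m) ≤ 1 := by
      rw [hy, he y]
      exact pow_le_one₀ zero_le h2
    rw [map_pow] at h3
    exact (pow_le_one_iff_of_nonneg zero_le hq0).mp h3
  have hsum := sum_ramIdx_mul_deg hK₀ P₀ {T} (fun T' => by
    rw [Finset.mem_singleton]
    exact ⟨fun hT => hT ▸ ⟨e, he⟩, huniq T'⟩)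
  rw [Finset.sum_singleton, ramIdx_eq he, finrank_constExt h,
    deg_eq_mul_deg_upPl (k' := F₂) T] at hsum
  have hn : 0 < Module.finrank F₀ F₂ := Module.finrank_pos
  have h4 : Module.finrank F₀ F₂ * (e * (upPl (k' := F₂) T).deg) =
      Module.finrank F₀ F₂ * P₀.deg := by
    rw [← hsum]
    ring
  exact Nat.eq_of_mul_eq_mul_left hn h4

/-- Below a place of degree one in a purely inseparable constant field extension, the residue
field is purely inseparable over the constant field. -/
theorem residue_pow_mem_of_deg_one (q : ℕ) [ExpChar F₀ q] (Qs : Place F₀ L₀)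
    (T : Place F₀ L₂) {e : ℕ} (he : IsOverWith T Qs e)
    (hdeg : (upPl (k' := F₂) T).deg = 1) (ξ : IsLocalRing.ResidueField Qs.O) :
    ∃ (m : ℕ) (a : F₀), ξ ^ q ^ m = algebraMap F₀ (IsLocalRing.ResidueField Qs.O) a := by
  haveI : Algebra.IsAlgebraic F₀ F₂ := Algebra.IsAlgebraic.of_finite F₀ F₂
  letI algF : Algebra F₂ (IsLocalRing.ResidueField T.O) := Place.algRes (upPl (k' := F₂) T)
  have hk' : ∀ c : F₂, T.1 (algebraMap F₂ L₂ c) ≤ 1 := fun c =>
    T.val_algebraMap_const_le_one c
  have hκ : ∀ c : F₂, algebraMap F₂ (IsLocalRing.ResidueField T.O) c =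
      IsLocalRing.residue T.O ⟨algebraMap F₂ L₂ c, hk' c⟩ := fun c => rfl
  have hsurj : ∀ η : IsLocalRing.ResidueField T.O,
      ∃ c : F₂, algebraMap F₂ (IsLocalRing.ResidueField T.O) c = η := by
    intro η
    have h1 : Module.finrank F₂ (IsLocalRing.ResidueField T.O) = 1 := hdeg
    rw [finrank_eq_one_iff_of_nonzero' (1 : IsLocalRing.ResidueField T.O) one_ne_zero] at h1
    obtain ⟨c, hc⟩ := h1 η
    refine ⟨c, ?_⟩
    rw [← hc, Algebra.smul_def, mul_one]
  obtain ⟨c, hc⟩ := hsurj (he.resMap ξ)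
  obtain ⟨m, a, ha⟩ := IsPurelyInseparable.pow_mem F₀ q c
  refine ⟨m, a, he.resMap_injective ?_⟩
  rw [map_pow, ← hc, ← map_pow, ← ha, AlgHom.commutes, hκ]
  show IsLocalRing.residue T.O _ = IsLocalRing.residue T.O ⟨algebraMap F₀ L₂ a, T.2.1 a⟩
  congr 1
  exact Subtype.ext (IsScalarTower.algebraMap_apply F₀ F₂ L₂ a).symm

end PInsep

section SepLevel

variable {k₀ : Type u} {k' : Type u'} {K₀ : Type v} {K' : Type v'} [Field k₀] [Field k']
    [Field K₀] [Field K'] [Algebra k₀ k'] [Algebra k₀ K₀] [Algebra K₀ K'] [Algebra k' K']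
    [Algebra k₀ K'] [IsScalarTower k₀ k' K'] [IsScalarTower k₀ K₀ K']

/-- Over a nonsingular place, in a separable constant field extension, a place whose residue
field is purely inseparable over the new constant field has degree the inseparable degree of
the residue field below. -/
theorem deg_upPl_eq_finInsepDegree [FiniteDimensional k₀ k'] [Algebra.IsSeparable k₀ k']
    (h : Function.Bijective (Algebra.TensorProduct.productMap
      (IsScalarTower.toAlgHom k₀ k' K') (IsScalarTower.toAlgHom k₀ K₀ K')))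
    (hK₀ : IsFunctionField k₀ K₀) (Q₀ : Place k₀ K₀) (R : Place k₀ K') {e : ℕ}
    (he : IsOverWith R Q₀ e) (hns : NSw Q₀.O k' K') (q : ℕ) [ExpChar k' q]
    (hpi : ∀ ξ : IsLocalRing.ResidueField R.O, ∃ (m : ℕ) (a : k'), ξ ^ q ^ m =
      @algebraMap k' (IsLocalRing.ResidueField R.O) _ _
        (Place.algRes (upPl (k' := k') R)) a) :
    (upPl (k' := k') R).deg = Field.finInsepDegree k₀ (IsLocalRing.ResidueField Q₀.O) := by
  classical
  haveI : Algebra.IsAlgebraic k₀ k' := Algebra.IsAlgebraic.of_finite k₀ k'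
  haveI hext : Q₀.1.HasExtension R.1 := ⟨by
    intro a b
    show Q₀.1 a ≤ Q₀.1 b ↔ R.1 (algebraMap K₀ K' a) ≤ R.1 (algebraMap K₀ K' b)
    rw [he a, he b]
    exact (pow_le_pow_iff_left₀ zero_le zero_le he.pos.ne').symm⟩
  letI : Algebra Q₀.O K' := ((algebraMap K₀ K').comp (algebraMap Q₀.O K₀)).toAlgebra
  haveI : IsScalarTower Q₀.O K₀ K' := IsScalarTower.of_algebraMap_eq (fun _ => rfl)
  have hns' : (integralClosure Q₀.O K').toSubring =
      (Algebra.adjoin Q₀.O (Set.range (algebraMap k' K'))).toSubring := by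
    ext z
    rw [Subalgebra.mem_toSubring, Subalgebra.mem_toSubring]
    exact (NSw_iff Q₀.O).mp hns z
  have hk' : ∀ c : k', R.1 (algebraMap k' K' c) ≤ 1 := fun c =>
    R.val_algebraMap_const_le_one c
  have htop := residueField_eq_adjoin_of_nonsingular h hK₀ Q₀ hns' R hk'
  haveI hfin : @Module.Finite k₀ (IsLocalRing.ResidueField Q₀.O) _ _ Algebra.toModule :=
    finiteDimensional_residueField hK₀ Q₀
  letI algF : Algebra k' (IsLocalRing.ResidueField R.O) := Place.algRes (upPl (k' := k') R)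
  letI algk : Algebra k₀ (IsLocalRing.ResidueField R.O) := Place.algRes R
  haveI t1 : IsScalarTower k₀ k' (IsLocalRing.ResidueField R.O) :=
    IsScalarTower.of_algebraMap_eq (fun c =>
      congrArg (IsLocalRing.residue R.O) (Subtype.ext (IsScalarTower.algebraMap_apply k₀ k' K' c)))
  haveI t2 : IsScalarTower k₀ (IsLocalRing.ResidueField Q₀.O) (IsLocalRing.ResidueField R.O) :=
    IsScalarTower.of_algebraMap_eq (fun a => by
      show IsLocalRing.residue R.O (algebraMap k₀ R.O a) =
        algebraMap _ _ (IsLocalRing.residue Q₀.O (algebraMap k₀ Q₀.O a))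
      rw [Valuation.HasExtension.algebraMap_residue_eq_residue_algebraMap]
      congr 1
      apply Subtype.ext
      show algebraMap k₀ K' a = algebraMap K₀ K' (algebraMap k₀ K₀ a)
      rw [← IsScalarTower.algebraMap_apply k₀ K₀ K'])
  haveI : Algebra.IsAlgebraic k₀ (IsLocalRing.ResidueField Q₀.O) :=
    Algebra.IsAlgebraic.of_finite _ _
  haveI : IsPurelyInseparable k' (IsLocalRing.ResidueField R.O) :=
    (isPurelyInseparable_iff_pow_mem k' q).mpr (fun ξ => by
      obtain ⟨m, a, hm⟩ := hpi ξ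
      exact ⟨m, a, hm.symm⟩)
  have htop' : Algebra.adjoin (IsLocalRing.ResidueField Q₀.O)
      (Set.range (algebraMap k' (IsLocalRing.ResidueField R.O))) = ⊤ := htop
  unfold Place.deg
  show Module.finrank k' (IsLocalRing.ResidueField R.O) = _
  exact finrank_eq_finInsepDegree_of_adjoin k₀ (IsLocalRing.ResidueField Q₀.O) k'
    (IsLocalRing.ResidueField R.O) htop'

end SepLevel

end Sing

end FunFld
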