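import Mathlib
import Groth.Agent.Lib.FunFldSing11_helper2

/-! Singular places of a function field, part 12 (helper2): S12592. -/

set_option linter.style.haveILetI false

open Polynomial IntermediateField WithZero Module TensorProduct

namespace FunFld

namespace Sing

universe u v

section Key

variable {k k' : Type u} {K K' : Type v} [Field k] [Field k'] [Field K] [Field K']
    [Algebra k k'] [FiniteDimensional k k'] [Algebra k K] [Algebra K K'] [Algebra k' K']
    [Algebra k K'] [IsScalarTower k k' K'] [IsScalarTower k K K']

/-- The ramification index of a place of degree one above a nonsingular place is the inseparable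
degree of the residue field. -/
theorem isOverWith_finInsepDegree
    (h : Function.Bijective (Algebra.TensorProduct.productMap
      (IsScalarTower.toAlgHom k k' K') (IsScalarTower.toAlgHom k K K')))
    (hK : IsFunctionField k K) (hg : IsGeometric k K) (P : Place k K)
    (hns : ∀ (k'' : Type u) [Field k''] [Algebra k k''] [FiniteDimensional k k'']
      (K'' : Type v) [Field K''] [Algebra K K''] [Algebra k'' K''] [Algebra k K'']
      [IsScalarTower k k'' K''] [IsScalarTower k K K''],
      Function.Bijective (Algebra.TensorProduct.productMap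
        (IsScalarTower.toAlgHom k k'' K'') (IsScalarTower.toAlgHom k K K'')) →
      NSw P.O k'' K'')
    (Q : Place k' K') {e : ℕ} (hQe : IsOverWith (downPl (k := k) Q) P e) (hdeg : Q.deg = 1) :
    e = Field.finInsepDegree k (IsLocalRing.ResidueField P.O) := by
  classical
  haveI : Algebra.IsAlgebraic k k' := Algebra.IsAlgebraic.of_finite k k'
  have hbs := bijective_KE (Kbar := K') hg (separableClosure k k')
  have hKs : IsFunctionField (separableClosure k k') (KE K K' (separableClosure k k')) :=
    isFunctionField_scalar_ext hbs hK hg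
  have hb2 : Function.Bijective (Algebra.TensorProduct.productMap
      (IsScalarTower.toAlgHom (separableClosure k k') k' K')
      (IsScalarTower.toAlgHom (separableClosure k k') (KE K K' (separableClosure k k')) K')) :=
    bijective_intermediate_of_tower hbs h
  haveI : FiniteDimensional K (KE K K' (separableClosure k k')) := finiteDimensional_constExt hbs
  haveI : FiniteDimensional (KE K K' (separableClosure k k')) K' :=
    finiteDimensional_constExt hb2
  haveI : IsScalarTower k (KE K K' (separableClosure k k')) K' := isScalarTower_base_mid _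
  obtain ⟨T, hT⟩ : ∃ T : Place (separableClosure k k') K',
      T = downPl (k := separableClosure k k') Q := ⟨_, rfl⟩
  obtain ⟨Qs, e₂, he₂⟩ := exists_isOverWith hKs T
  obtain ⟨R, hR⟩ : ∃ R : Place k (KE K K' (separableClosure k k')),
      R = downPl (k := k) Qs := ⟨_, rfl⟩
  obtain ⟨P', e₁, he₁⟩ := exists_isOverWith hK R
  have he₂k : IsOverWith (downPl (k := k) Q) R e₂ := fun x => by
    have := he₂ x
    rw [hT] at this
    rw [hR]
    exact this
  have h12 := he₂k.trans he₁
  have hP' : P' = P := IsOverWith.unique_below h12 hQe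
  subst hP'
  have hee : e = e₁ * e₂ := IsOverWith.unique_idx hQe h12
  -- the separable level is unramified
  have he₁' : e₁ = 1 := by
    letI : Algebra P'.O (KE K K' (separableClosure k k')) :=
      ((algebraMap K (KE K K' (separableClosure k k'))).comp (algebraMap P'.O K)).toAlgebra
    haveI : IsScalarTower P'.O K (KE K K' (separableClosure k k')) :=
      IsScalarTower.of_algebraMap_eq (fun _ => rfl)
    exact IsOverWith.unique_idx he₁
      (integralClosure_eq_adjoin_and_unramified_of_isSeparable hbs hK P' R ⟨e₁, he₁⟩).2
  -- the purely inseparable level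
  have hQT : upPl (k' := k') T = Q := by
    rw [hT]
    exact upPl_downPl Q
  have hdegT : (upPl (k' := k') T).deg = 1 := by rw [hQT]; exact hdeg
  have hf := insep_ramIdx_mul_deg hb2 hKs Qs T he₂
  rw [hdegT, mul_one] at hf
  have hpi := residue_pow_mem_of_deg_one (F₂ := k') (ringExpChar (separableClosure k k')) Qs T
    he₂ hdegT
  have hnsS : NSw P'.O (separableClosure k k') (KE K K' (separableClosure k k')) :=
    hns (separableClosure k k') (KE K K' (separableClosure k k')) hbs
  have hRQs : upPl (k' := separableClosure k k') R = Qs := by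
    rw [hR]
    exact upPl_downPl Qs
  have hd := deg_upPl_eq_finInsepDegree hbs hK P' R he₁ hnsS
    (ringExpChar (separableClosure k k')) (by
      intro ξ
      subst hR
      exact hpi ξ)
  rw [hRQs] at hd
  rw [hee, he₁', one_mul, hf, hd]

end Key

/-- S12592. -/
theorem main12592 (k k' : Type u) (K K' : Type v) [Field k] [Field k'] [Field K] [Field K']
    [Algebra k k'] [FiniteDimensional k k'] [Algebra k K] [Algebra K K'] [Algebra k' K']
    [Algebra k K'] [IsScalarTower k k' K'] [IsScalarTower k K K']
    (h : Function.Bijective (Algebra.TensorProduct.productMap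
      (IsScalarTower.toAlgHom k k' K') (IsScalarTower.toAlgHom k K K')))
    (hK : IsFunctionField k K) (hg : IsGeometric k K) (P : Place k K)
    (hns : ∀ (k'' : Type u) [Field k''] [Algebra k k''] [FiniteDimensional k k'']
      (K'' : Type v) [Field K''] [Algebra K K''] [Algebra k'' K''] [Algebra k K'']
      [IsScalarTower k k'' K''] [IsScalarTower k K K''],
      Function.Bijective (Algebra.TensorProduct.productMap
        (IsScalarTower.toAlgHom k k'' K'') (IsScalarTower.toAlgHom k K K'')) →
      integralClosure (P.O.toSubring.map (algebraMap K K'')) K'' =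
        Algebra.adjoin (P.O.toSubring.map (algebraMap K K'')) (Set.range (algebraMap k'' K'')))
    (hsplit : ∀ Q : Place k' K',
      (∃ e : ℕ, ∀ z : K, Q.1 (algebraMap K K' z) = P.1 z ^ e) → Q.deg = 1) :
    {Q : Place k' K' | ∃ e : ℕ, ∀ z : K, Q.1 (algebraMap K K' z) = P.1 z ^ e}.Finite ∧
    {Q : Place k' K' | ∃ e : ℕ, ∀ z : K, Q.1 (algebraMap K K' z) = P.1 z ^ e}.ncard =
      Field.finSepDegree k (IsLocalRing.ResidueField P.O) ∧
    ∀ Q : Place k' K', (∃ e : ℕ, ∀ z : K, Q.1 (algebraMap K K' z) = P.1 z ^ e) →
      ∀ z : K, Q.1 (algebraMap K K' z) = P.1 z ^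
        Module.finrank (separableClosure k (IsLocalRing.ResidueField P.O))
          (IsLocalRing.ResidueField P.O) := by
  classical
  haveI : Algebra.IsAlgebraic k k' := Algebra.IsAlgebraic.of_finite k k'
  haveI : FiniteDimensional K K' := finiteDimensional_constExt h
  have hkey : ∀ Q : Place k' K', (∃ e : ℕ, ∀ z : K, Q.1 (algebraMap K K' z) = P.1 z ^ e) →
      IsOverWith (downPl (k := k) Q) P
        (Field.finInsepDegree k (IsLocalRing.ResidueField P.O)) := by
    rintro Q ⟨e, hQe⟩
    have hQe' : IsOverWith (downPl (k := k) Q) P e := hQe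
    have := isOverWith_finInsepDegree h hK hg P hns Q hQe' (hsplit Q ⟨e, hQe⟩)
    rw [← this]
    exact hQe'
  obtain ⟨S, hS⟩ : ∃ S : Set (Place k' K'),
      S = {Q : Place k' K' | ∃ e : ℕ, ∀ z : K, Q.1 (algebraMap K K' z) = P.1 z ^ e} := ⟨_, rfl⟩
  rw [← hS]
  have hfin := finite_isOver (K' := K') hK P
  have himg : downPl (k := k) '' S = {Q' : Place k K' | IsOver Q' P} := by
    ext Q'
    constructor
    · rintro ⟨Q, hQ, rfl⟩
      rw [hS] at hQ
      exact hQ
    · intro hQ'
      refine ⟨upPl (k' := k') Q', ?_, downPl_upPl Q'⟩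
      rw [hS]
      exact hQ'
  have hinj : Function.Injective (downPl (k := k) : Place k' K' → Place k K') :=
    (plEquiv k k' K').symm.injective
  have hSfin : S.Finite := by
    have : (downPl (k := k) '' S).Finite := by rw [himg]; exact hfin
    exact this.of_finite_image hinj.injOn
  refine ⟨hSfin, ?_, fun Q hQ z => hkey Q hQ z⟩
  obtain ⟨Qs', hQs'⟩ : ∃ Qs' : Finset (Place k K'), ∀ Q', Q' ∈ Qs' ↔ IsOver Q' P :=
    ⟨hfin.toFinset, fun Q' => Set.Finite.mem_toFinset _⟩
  have hcard : S.ncard = Qs'.card := by
    rw [← Set.ncard_image_of_injective S hinj, himg]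
    have : {Q' : Place k K' | IsOver Q' P} = ↑Qs' := by
      ext Q'
      exact (hQs' Q').symm
    rw [this, Set.ncard_coe_finset]
  have hsum := sum_ramIdx_mul_deg hK P Qs' hQs'
  have hterm : ∀ Q' ∈ Qs', ramIdx Q' P * Q'.deg =
      Field.finInsepDegree k (IsLocalRing.ResidueField P.O) * Module.finrank k k' := by
    intro Q' hQ'
    have hover : ∃ e : ℕ, ∀ z : K, (upPl (k' := k') Q').1 (algebraMap K K' z) = P.1 z ^ e :=
      (hQs' Q').mp hQ'
    have h1 := hkey (upPl (k' := k') Q') hover
    rw [downPl_upPl] at h1
    rw [ramIdx_eq h1, deg_eq_mul_deg_upPl (k' := k') Q', hsplit (upPl (k' := k') Q') hover,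
      mul_one]
  rw [Finset.sum_congr rfl hterm, Finset.sum_const, smul_eq_mul, finrank_constExt h] at hsum
  have hn : 0 < Module.finrank k k' := Module.finrank_pos
  have hPdeg : P.deg = Field.finSepDegree k (IsLocalRing.ResidueField P.O) *
      Field.finInsepDegree k (IsLocalRing.ResidueField P.O) :=
    (Field.finSepDegree_mul_finInsepDegree k (IsLocalRing.ResidueField P.O)).symm
  have h2 : Module.finrank k k' * (Qs'.card *
      Field.finInsepDegree k (IsLocalRing.ResidueField P.O)) =
      Module.finrank k k' * (Field.finSepDegree k (IsLocalRing.ResidueField P.O) *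
        Field.finInsepDegree k (IsLocalRing.ResidueField P.O)) := by
    rw [← hPdeg, ← hsum]
    ring
  have h3 := Nat.eq_of_mul_eq_mul_left hn h2
  have hdi : 0 < Field.finInsepDegree k (IsLocalRing.ResidueField P.O) := by
    have hpos := P.deg_pos hK
    rw [hPdeg] at hpos
    exact Nat.pos_of_mul_pos_left hpos
  rw [hcard]
  exact Nat.eq_of_mul_eq_mul_right hdi h3

end Sing

end FunFld
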