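import Mathlib
import Groth.Agent.Lib.FunFldExtC_helper2

/-! A function field regarded as an extension of itself through an embedding (helper2). -/

open Polynomial IntermediateField WithZero Module

namespace FunFld

variable {k K : Type*} [Field k] [Field K] [Algebra k K]

/-- `K` regarded as an extension of itself through `τ`. -/
def Twist (_τ : K →ₐ[k] K) : Type _ := K

namespace Twist

variable (τ : K →ₐ[k] K)

noncomputable instance : Field (Twist τ) := inferInstanceAs (Field K)

noncomputable instance : Algebra k (Twist τ) := inferInstanceAs (Algebra k K)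

noncomputable instance : Algebra K (Twist τ) := τ.toRingHom.toAlgebra

instance : IsScalarTower k K (Twist τ) :=
  IsScalarTower.of_algebraMap_eq (fun c => (τ.commutes c).symm)

theorem algebraMap_apply (x : K) : algebraMap K (Twist τ) x = τ x := rfl

theorem finrank_eq : Module.finrank K (Twist τ) = Module.finrank τ.fieldRange K := by
  refine Algebra.finrank_eq_of_equiv_equiv (AlgHom.equivFieldRange τ).toRingEquiv
    (RingEquiv.refl K : Twist τ ≃+* K) ?_
  ext x
  rfl

theorem finiteDimensional (hK : IsFunctionField k K) : FiniteDimensional K (Twist τ) := by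
  obtain ⟨⟨x, hx, -⟩, -⟩ := id hK
  have hτx : Transcendental k (τ x) := fun h =>
    hx ((isAlgebraic_algHom_iff τ τ.toRingHom.injective).mp h)
  haveI := finiteDimensional_of_transcendental hK hτx
  have hle : k⟮τ x⟯ ≤ τ.fieldRange := by
    rw [adjoin_simple_le_iff]
    exact ⟨x, rfl⟩
  letI : Algebra k⟮τ x⟯ τ.fieldRange := (IntermediateField.inclusion hle).toRingHom.toAlgebra
  haveI : IsScalarTower k⟮τ x⟯ τ.fieldRange K := IsScalarTower.of_algebraMap_eq (fun _ => rfl)
  haveI : FiniteDimensional τ.fieldRange K := FiniteDimensional.right k⟮τ x⟯ τ.fieldRange K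
  apply Module.finite_of_finrank_pos
  rw [finrank_eq]
  exact Module.finrank_pos

end Twist

/-- S11052. -/
theorem deg_mapDiv_comp_algHom (hK : IsFunctionField k K) (τ : K →ₐ[k] K) {ι : Type*}
    [Fintype ι] [Nonempty ι] (φ : ι → K) :
    (mapDiv k (τ ∘ φ)).deg = Module.finrank τ.fieldRange K * (mapDiv k φ).deg := by
  haveI := Twist.finiteDimensional τ hK
  have hK' : IsFunctionField k (Twist τ) := hK
  have h1 := mapDiv_algebraMap_eq_conorm (K' := Twist τ) hK hK' φ
  have h2 := deg_conorm (K' := Twist τ) hK (mapDiv k φ)
  rw [← h1, Twist.finrank_eq] at h2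
  exact h2

end FunFld
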