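import Mathlib
import Groth.Agent.Lib.FunFldGeomA_helper2

/-! Weakly separable extensions (helper2): S11026. -/

open IntermediateField

namespace FunFld

universe u v

theorem isSeparable_adjoin_of_kaehler_injective
    (k k' : Type u) (K K' : Type v) [Field k] [Field k'] [Field K] [Field K']
    [Algebra k k'] [Algebra k K] [Algebra K K'] [Algebra k' K'] [Algebra k K']
    [IsScalarTower k k' K'] [IsScalarTower k K K'] [FiniteDimensional K K']
    (hK : IsFunctionField k K) (hg : IsGeometric k K)
    (hK' : IsFunctionField k' K') (hg' : IsGeometric k' K')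
    (hw : Function.Injective (KaehlerDifferential.map k k' K K')) :
    Algebra.IsSeparable (IntermediateField.adjoin K (Set.range (algebraMap k' K'))) K' := by
  classical
  -- a separating element of `K`
  obtain ⟨s, -, hsep⟩ := exists_separating hK hg
  haveI := hsep
  have hDs : KaehlerDifferential.D k K s ≠ 0 := D_ne_zero_of_isSeparable hK s
  obtain ⟨s', hs'⟩ : ∃ s' : K', s' = algebraMap K K' s := ⟨_, rfl⟩
  have hDs' : KaehlerDifferential.D k' K' s' ≠ 0 := by
    intro h0
    apply hDs
    apply hw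
    rw [KaehlerDifferential.map_D, ← hs', h0, map_zero]
  -- `Ω[K'⁄k']` is spanned by `D s'`
  have hrank := finrank_kaehler_eq_one hK' hg'
  have hspan := (finrank_eq_one_iff_of_nonzero' _ hDs').mp hrank
  -- differentials relative to `k'(s')` vanish
  have hsub : Subsingleton (Ω[K'⁄k'⟮s'⟯]) := by
    refine ⟨fun a b => ?_⟩
    have hzero : ∀ w : Ω[K'⁄k'⟮s'⟯], w = 0 := by
      intro w
      obtain ⟨w₀, rfl⟩ := KaehlerDifferential.map_surjective k' k'⟮s'⟯ K' w
      obtain ⟨c, hc⟩ := hspan w₀
      rw [← hc, map_smul, KaehlerDifferential.map_D]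
      have h1 : (algebraMap K' K' s') = algebraMap k'⟮s'⟯ K' (AdjoinSimple.gen k' s') := rfl
      rw [h1, Derivation.map_algebraMap, smul_zero]
    rw [hzero a, hzero b]
  haveI : Algebra.FormallyUnramified k'⟮s'⟯ K' := ⟨hsub⟩
  haveI : Algebra.EssFiniteType k' K' := essFiniteType_of_isFunctionField hK'
  haveI : Algebra.EssFiniteType k'⟮s'⟯ K' := Algebra.EssFiniteType.of_comp k' k'⟮s'⟯ K'
  have hsepE : Algebra.IsSeparable k'⟮s'⟯ K' := Algebra.FormallyUnramified.isSeparable k'⟮s'⟯ K'
  -- transfer to the compositum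
  obtain ⟨Fc, hFc⟩ : ∃ Fc : IntermediateField K K',
      Fc = IntermediateField.adjoin K (Set.range (algebraMap k' K')) := ⟨_, rfl⟩
  rw [← hFc]
  have hk'F : ∀ c : k', algebraMap k' K' c ∈ Fc := fun c => by
    rw [hFc]
    exact IntermediateField.subset_adjoin K _ ⟨c, rfl⟩
  have hs'F : s' ∈ Fc := by
    rw [hs']
    exact Fc.algebraMap_mem s
  have hEF : ∀ x : k'⟮s'⟯, (x : K') ∈ Fc := by
    intro x
    have hle : k'⟮s'⟯ ≤
        (IntermediateField.adjoin k' ((Fc : Set K'))) := by
      rw [IntermediateField.adjoin_simple_le_iff]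
      exact IntermediateField.subset_adjoin k' _ hs'F
    -- the subfield generated by `k'` and `Fc` is `Fc` itself
    have hmem := hle x.2
    have hclosed : ∀ z ∈ IntermediateField.adjoin k' ((Fc : Set K')), z ∈ Fc := by
      intro z hz
      induction hz using IntermediateField.adjoin_induction with
      | mem y hy => exact hy
      | algebraMap c => exact hk'F c
      | add y z _ _ hy hz => exact Fc.add_mem hy hz
      | inv y _ hy => exact Fc.inv_mem hy
      | mul y z _ _ hy hz => exact Fc.mul_mem hy hz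
    exact hclosed _ hmem
  let ι : k'⟮s'⟯ →+* Fc := (algebraMap k'⟮s'⟯ K').codRestrict Fc hEF
  have hι : (algebraMap Fc K').comp ι = algebraMap k'⟮s'⟯ K' := RingHom.ext fun x => rfl
  refine ⟨fun z => ?_⟩
  have hz : IsSeparable k'⟮s'⟯ z := Algebra.IsSeparable.isSeparable k'⟮s'⟯ z
  have hG : ((minpoly k'⟮s'⟯ z).map ι).Separable := Polynomial.Separable.map hz
  have hroot : Polynomial.aeval z ((minpoly k'⟮s'⟯ z).map ι) = 0 := by
    rw [Polynomial.aeval_def, Polynomial.eval₂_map, hι, ← Polynomial.aeval_def, minpoly.aeval]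
  exact hG.of_dvd (minpoly.dvd Fc z hroot)

end FunFld
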