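import Mathlib
import Groth.Agent.Lib.FunFldWeierC_helper2

/-! Weierstrass points of the canonical map (helper2), part D: the dichotomy. -/

open WithZero Matrix IntermediateField

namespace FunFld

variable {k K : Type*} [Field k] [IsAlgClosed k] [Field K] [Algebra k K]

omit [IsAlgClosed k] in
theorem finrank_fieldRange_id : Module.finrank (AlgHom.id k K).fieldRange K = 1 := by
  have h : (AlgHom.id k K).fieldRange = ⊤ := by
    rw [AlgHom.fieldRange_eq_top]
    exact Function.surjective_id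
  rw [h]
  exact IntermediateField.finrank_top

/-- Counting Weierstrass points. -/
theorem card_support_wDiv_canonical (hK : IsFunctionField k K) (hg : 1 < genus k K)
    (hchar : ringChar k = 0 ∨ 2 * genus k K - 2 < ringChar k)
    (C : Divisor k K) (hC : IsCanonical k K C)
    {n : ℕ} (φ : Fin (n + 1) → K) (hφ : LinearIndependent k φ)
    (hspan : Submodule.span k (Set.range φ) = L C)
    (s : K) (H : K →ₐ[k] PowerSeries K) (hH : LocRes.IsHasseFamily s H)
    (Φ : Place k K → (K →ₐ[k] LaurentSeries k))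
    (hΦ : ∀ P : Place k K, LocRes.IsExpansionAt P.1 (Φ P)) :
    2 * genus k K + 2 ≤
      (wDiv (AlgHom.id k K) H Φ s φ (fun l : Fin n => (l : ℕ) + 1)).support.card ∧
    ((wDiv (AlgHom.id k K) H Φ s φ (fun l : Fin n => (l : ℕ) + 1)).support.card =
        2 * genus k K + 2 →
      ∀ P ∈ (wDiv (AlgHom.id k K) H Φ s φ (fun l : Fin n => (l : ℕ) + 1)).support,
        ¬ IsGapAt P 2) := by
  classical
  obtain ⟨hn1, hmap, hchar'⟩ := canonical_setup hK hg hchar C hC φ hφ hspan
  obtain ⟨W, hWdef⟩ : ∃ W : Divisor k K,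
      W = wDiv (AlgHom.id k K) H Φ s φ (fun l : Fin n => (l : ℕ) + 1) := ⟨_, rfl⟩
  rw [← hWdef]
  have hwb := fun P => weight_bound hK hg hchar C hC φ hφ hspan s H hH Φ hΦ P
  rw [← hWdef] at hwb
  have hdeg : Divisor.deg W = ((1 : ℤ) + n) * (2 * (genus k K : ℤ) - 2) +
      (2 * (genus k K : ℤ) - 2) * ∑ l : Fin n, ((((l : ℕ) + 1 : ℕ) : ℤ)) := by
    rw [hWdef, deg_wDiv hK φ hφ (AlgHom.id k K) s H hH _ Φ hΦ, finrank_fieldRange_id, hmap,
      deg_of_isCanonical hK hC]
    norm_num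
  have hsum := two_mul_sum_fin_succ n
  have hgn : (genus k K : ℤ) = n + 1 := by
    rw [← hn1]
    push_cast
    ring
  have hdeg2 : 2 * Divisor.deg W = 2 * (n : ℤ) * ((n : ℤ) + 1) * ((n : ℤ) + 2) := by
    rw [hdeg, hgn]
    have : (2 * ((n : ℤ) + 1) - 2) = 2 * n := by ring
    rw [this]
    linear_combination (2 * (n : ℤ)) * hsum
  have hdegsum : Divisor.deg W = ∑ P ∈ W.support, W P := by
    rw [deg_eq_finsum_of_isAlgClosed hK,
      finsum_eq_sum_of_support_subset _ (s := W.support) (by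
        intro P hP
        rw [Function.mem_support] at hP
        rw [Finset.mem_coe, Finsupp.mem_support_iff]
        exact hP)]
  have hn : (0 : ℤ) < n := by
    have : 0 < n := by omega
    exact_mod_cast this
  have hle : 2 * Divisor.deg W ≤ (W.support.card : ℤ) * ((n : ℤ) * ((n : ℤ) + 1)) := by
    rw [hdegsum, Finset.mul_sum]
    calc ∑ P ∈ W.support, 2 * W P ≤ ∑ _P ∈ W.support, (n : ℤ) * ((n : ℤ) + 1) :=
          Finset.sum_le_sum (fun P _ => (hwb P).1)
      _ = _ := by rw [Finset.sum_const, nsmul_eq_mul]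
  have hnn : (0 : ℤ) < (n : ℤ) * ((n : ℤ) + 1) := by positivity
  have hcard : 2 * ((n : ℤ) + 2) ≤ (W.support.card : ℤ) := by
    rw [hdeg2] at hle
    have h1 : (2 * ((n : ℤ) + 2)) * ((n : ℤ) * ((n : ℤ) + 1)) ≤
        (W.support.card : ℤ) * ((n : ℤ) * ((n : ℤ) + 1)) := by
      calc (2 * ((n : ℤ) + 2)) * ((n : ℤ) * ((n : ℤ) + 1)) =
          2 * (n : ℤ) * ((n : ℤ) + 1) * ((n : ℤ) + 2) := by ring
        _ ≤ _ := hle
    exact le_of_mul_le_mul_right h1 hnn
  refine ⟨?_, ?_⟩
  · have : ((2 * genus k K + 2 : ℕ) : ℤ) ≤ (W.support.card : ℤ) := by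
      push_cast
      rw [hgn]
      linarith
    exact_mod_cast this
  · intro hcardeq P hP
    apply (hwb P).2.1
    -- all weights are maximal
    have hcardZ : (W.support.card : ℤ) = 2 * ((n : ℤ) + 2) := by
      rw [hcardeq]
      push_cast
      rw [hgn]
      ring
    have hsumeq : ∑ P ∈ W.support, 2 * W P = ∑ _P ∈ W.support, (n : ℤ) * ((n : ℤ) + 1) := by
      rw [← Finset.mul_sum, ← hdegsum, hdeg2, Finset.sum_const, nsmul_eq_mul, hcardZ]
      ring
    exact (Finset.sum_eq_sum_iff_of_le (fun P _ => (hwb P).1)).mp hsumeq P hP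

/-- The Weierstrass points dichotomy (S12618). -/
theorem weierstrassPts_dichotomy (hK : IsFunctionField k K) (hg : 1 < genus k K)
    (hchar : ringChar k = 0 ∨ 2 * genus k K - 2 < ringChar k)
    (C : Divisor k K) (hC : IsCanonical k K C)
    {n : ℕ} (φ : Fin (n + 1) → K) (hφ : LinearIndependent k φ)
    (hspan : Submodule.span k (Set.range φ) = L C)
    (s : K) (H : K →ₐ[k] PowerSeries K) (hH : LocRes.IsHasseFamily s H)
    (J : Fin n → ℕ) (hJ : IsOrders K (hcol (AlgHom.id k K) H φ) J)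
    (Φ : Place k K → (K →ₐ[k] LaurentSeries k))
    (hΦ : ∀ P : Place k K, LocRes.IsExpansionAt P.1 (Φ P)) :
    (2 * genus k K + 2 < Set.ncard {P : Place k K | wDiv (AlgHom.id k K) H Φ s φ J P ≠ 0} ∧
      ∀ σ : K ≃ₐ[k] K, (∀ P : Place k K, wDiv (AlgHom.id k K) H Φ s φ J P ≠ 0 →
        IsFixedPt (σ : K →ₐ[k] K) P) → σ = AlgEquiv.refl) ∨
    (Set.ncard {P : Place k K | wDiv (AlgHom.id k K) H Φ s φ J P ≠ 0} = 2 * genus k K + 2 ∧
      ∃ x : K, Module.finrank (IntermediateField.adjoin k ({x} : Set K)) K = 2 ∧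
        ∀ σ : K ≃ₐ[k] K, (∀ P : Place k K, wDiv (AlgHom.id k K) H Φ s φ J P ≠ 0 →
          IsFixedPt (σ : K →ₐ[k] K) P) ↔ σ x = x) := by
  classical
  obtain ⟨hn1, hmap, hchar'⟩ := canonical_setup hK hg hchar C hC φ hφ hspan
  have hJeq := isOrders_id_eq_succ hK φ hφ hchar' s H hH J hJ
  subst hJeq
  obtain ⟨hcard, hgap2⟩ := card_support_wDiv_canonical hK hg hchar C hC φ hφ hspan s H hH Φ hΦ
  obtain ⟨W, hWdef⟩ : ∃ W : Divisor k K,
      W = wDiv (AlgHom.id k K) H Φ s φ (fun l : Fin n => (l : ℕ) + 1) := ⟨_, rfl⟩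
  rw [← hWdef] at hcard hgap2 ⊢
  have hset : {P : Place k K | W P ≠ 0} = ↑W.support := by
    ext P
    rw [Finset.mem_coe, Finsupp.mem_support_iff]
    rfl
  rw [hset, Set.ncard_coe_finset]
  rcases lt_or_eq_of_le hcard with hlt | heq
  · left
    refine ⟨hlt, fun σ hσ => ?_⟩
    have h1 : σ = 1 := by
      apply algEquiv_eq_one_of_fixed hK σ
      have hsub : (↑W.support : Set (Place k K)) ⊆
          {P : Place k K | ∀ x : K, P.1 x < 1 → P.1 (σ x) < 1} := by
        intro P hP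
        rw [Finset.mem_coe, Finsupp.mem_support_iff] at hP
        exact hσ P hP
      calc ((2 * genus k K + 2 : ℕ) : ℕ∞) < (W.support.card : ℕ∞) := by exact_mod_cast hlt
        _ = Set.encard (↑W.support : Set (Place k K)) := (Set.encard_coe_eq_coe_finsetCard _).symm
        _ ≤ _ := Set.encard_le_encard hsub
    rw [h1]
    rfl
  · right
    refine ⟨heq.symm, ?_⟩
    have hgap := hgap2 heq.symm
    have hT4 : 4 ≤ W.support.card := by omega
    obtain ⟨P₁, hP₁⟩ : W.support.Nonempty := Finset.card_pos.mp (by omega)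
    obtain ⟨x, hxL, hx0, hxord, hxQ, hxtr, hxfr⟩ := exists_of_nongap_two hK P₁ (hgap P₁ hP₁)
    refine ⟨x, hxfr, fun σ => ⟨fun hσ => ?_, fun hσx => ?_⟩⟩
    · apply algEquiv_fix_of_fixed hK (by omega) W.support hT4 P₁ hP₁ hxL hxtr σ
      intro P hP
      rw [Finsupp.mem_support_iff] at hP
      exact hσ P hP
    · intro P hP
      have hPmem : P ∈ W.support := Finsupp.mem_support_iff.mpr hP
      obtain ⟨x', hx'L, hx'0, hx'ord, hx'Q, hx'tr, hx'fr⟩ :=
        exists_of_nongap_two hK P (hgap P hPmem)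
      have hadj := adjoin_eq_of_finrank_two hK (by omega) hxfr hx'fr
      have hx'mem : x' ∈ k⟮x⟯ := by
        rw [hadj]
        exact IntermediateField.mem_adjoin_simple_self k x'
      have hσx' := algEquiv_fix_of_mem_adjoin σ hσx hx'mem
      apply isFixedPt_of_unique_pole σ P hσx'
      · rw [← P.ord_neg_iff hx'0, hx'ord]
        norm_num
      · intro Q hQ
        rw [← Q.ord_nonneg_iff hx'0]
        exact hx'Q Q hQ

end FunFld
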