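import Mathlib
import Groth.Agent.Lib.FunFldWeierD_helper2

/-! Finiteness of the automorphism group (helper2). -/

open WithZero Matrix IntermediateField

namespace FunFld

variable {k K : Type*} [Field k] [Field K] [Algebra k K]

theorem Place.comapEquiv_symm_comapEquiv (σ : K ≃ₐ[k] K) (Q : Place k K) :
    (Q.comapEquiv σ.symm).comapEquiv σ = Q := by
  apply Place.eq_of_maximalIdeal_le
  intro z hz
  rw [Place.comapEquiv_apply, Place.comapEquiv_apply, σ.symm_apply_apply] at hz
  exact hz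

theorem mem_L_single_comapEquiv (σ : K ≃ₐ[k] K) (P : Place k K) (a : ℤ) (f : K) :
    f ∈ L (Finsupp.single (P.comapEquiv σ) a : Divisor k K) ↔
      σ f ∈ L (Finsupp.single P a : Divisor k K) := by
  classical
  rw [mem_L, mem_L]
  constructor
  · intro h Q
    have h1 := h (Q.comapEquiv σ)
    rw [Place.comapEquiv_apply] at h1
    refine h1.trans (le_of_eq ?_)
    congr 1
    rw [Finsupp.single_apply, Finsupp.single_apply]
    by_cases hQ : P = Q
    · subst hQ
      rw [if_pos rfl, if_pos rfl]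
    · rw [if_neg hQ, if_neg (fun h2 => hQ (Place.comapEquiv_injective σ h2))]
  · intro h Q'
    have hQ := Place.comapEquiv_symm_comapEquiv σ Q'
    have h1 := h (Q'.comapEquiv σ.symm)
    rw [Place.comapEquiv_apply, σ.symm_apply_apply] at h1
    refine h1.trans (le_of_eq ?_)
    congr 1
    rw [Finsupp.single_apply, Finsupp.single_apply]
    by_cases hPQ : P = Q'.comapEquiv σ.symm
    · rw [if_pos hPQ, if_pos (by rw [hPQ, hQ])]
    · rw [if_neg hPQ, if_neg (fun h2 => hPQ (by
        apply Place.comapEquiv_injective σ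
        rw [h2, hQ]))]

theorem isGapAt_comapEquiv (σ : K ≃ₐ[k] K) (P : Place k K) (m : ℕ) :
    IsGapAt (P.comapEquiv σ) m ↔ IsGapAt P m := by
  unfold IsGapAt
  constructor
  · intro h
    ext f
    have h1 := mem_L_single_comapEquiv σ P (m : ℤ) (σ.symm f)
    have h2 := mem_L_single_comapEquiv σ P ((m : ℤ) - 1) (σ.symm f)
    rw [σ.apply_symm_apply] at h1 h2
    rw [← h1, ← h2, h]
  · intro h
    ext f
    rw [mem_L_single_comapEquiv, mem_L_single_comapEquiv, h]

theorem finite_setOf_algEquiv_fix (x : K) [FiniteDimensional k⟮x⟯ K] :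
    {ρ : K ≃ₐ[k] K | ρ x = x}.Finite := by
  haveI : Finite (K ≃ₐ[k⟮x⟯] K) := inferInstance
  let f : {ρ : K ≃ₐ[k] K | ρ x = x} → (K ≃ₐ[k⟮x⟯] K) := fun ρ =>
    { ρ.1.toRingEquiv with
      commutes' := fun z => algEquiv_fix_of_mem_adjoin ρ.1 ρ.2 z.2 }
  have hinj : Function.Injective f := by
    intro ρ₁ ρ₂ h
    apply Subtype.ext
    ext z
    have := congrArg (fun e : K ≃ₐ[k⟮x⟯] K => e z) h
    exact this
  exact Set.finite_coe_iff.mp (Finite.of_injective f hinj)

variable [IsAlgClosed k]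

/-- **Finiteness of the automorphism group** of a function field of genus at least two
(S11048). -/
theorem finite_algEquiv_of_one_lt_genus (hK : IsFunctionField k K) (hg : 1 < genus k K)
    (hp : ringChar k = 0 ∨ 2 * genus k K - 2 < ringChar k) : Finite (K ≃ₐ[k] K) := by
  classical
  obtain ⟨C, hC⟩ := exists_isCanonical hK
  obtain ⟨n, hn⟩ : ∃ n, n + 1 = genus k K := ⟨genus k K - 1, by omega⟩
  haveI := finiteDimensional_L hK C
  have hfr : Module.finrank k ↥(L C) = n + 1 := by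
    have := ell_of_isCanonical hK hC
    show ell C = n + 1
    omega
  obtain ⟨b⟩ : Nonempty (Module.Basis (Fin (n + 1)) k ↥(L C)) :=
    ⟨Module.finBasisOfFinrankEq k ↥(L C) hfr⟩
  obtain ⟨φ, hφdef⟩ : ∃ φ : Fin (n + 1) → K, φ = fun i => (b i : K) := ⟨_, rfl⟩
  have hφLI : LinearIndependent k φ := by
    rw [hφdef]
    exact b.linearIndependent.map' (Submodule.subtype _) (Submodule.ker_subtype _)
  have hspan : Submodule.span k (Set.range φ) = L C := by
    have h1 : Set.range φ = (Submodule.subtype (L C)) '' (Set.range b) := by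
      rw [hφdef, ← Set.range_comp]
      rfl
    rw [h1, Submodule.span_image, b.span_eq, Submodule.map_top, Submodule.range_subtype]
  obtain ⟨-, -, hchar'⟩ := canonical_setup hK hg hp C hC φ hφLI hspan
  obtain ⟨s, H, hs, hsep, hH⟩ := exists_hasseFamily_of_isFunctionField hK
  choose Φ hΦ using fun P : Place k K => exists_expansion hK hH P
  have hJ := isOrders_id_succ hK φ hφLI hchar' s H hH
  obtain ⟨W, hWdef⟩ : ∃ W : Divisor k K,
      W = wDiv (AlgHom.id k K) H Φ s φ (fun l : Fin n => (l : ℕ) + 1) := ⟨_, rfl⟩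
  have hdich := weierstrassPts_dichotomy hK hg hp C hC φ hφLI hspan s H hH _ hJ Φ hΦ
  rw [← hWdef] at hdich
  have hchar3 := fun P => (weight_bound hK hg hp C hC φ hφLI hspan s H hH Φ hΦ P).2.2
  rw [← hWdef] at hchar3
  have hinv : ∀ (σ : K ≃ₐ[k] K) (P : Place k K), W P ≠ 0 → W (P.comapEquiv σ) ≠ 0 := by
    intro σ P hP h0
    apply hP
    rw [hchar3] at h0 ⊢
    intro m hm1 hm2
    exact (isGapAt_comapEquiv σ P m).mp (h0 m hm1 hm2)
  have hstab : {ρ : K ≃ₐ[k] K | ∀ P : Place k K, W P ≠ 0 →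
      IsFixedPt (ρ : K →ₐ[k] K) P}.Finite := by
    rcases hdich with ⟨-, hfaith⟩ | ⟨-, x, hxfr, hx⟩
    · apply (Set.finite_singleton (AlgEquiv.refl : K ≃ₐ[k] K)).subset
      intro ρ hρ
      exact hfaith ρ hρ
    · have h1 : {ρ : K ≃ₐ[k] K | ∀ P : Place k K, W P ≠ 0 →
          IsFixedPt (ρ : K →ₐ[k] K) P} = {ρ | ρ x = x} := by
        ext ρ
        exact hx ρ
      rw [h1]
      haveI : FiniteDimensional k⟮x⟯ K := Module.finite_of_finrank_pos (by rw [hxfr]; norm_num)
      exact finite_setOf_algEquiv_fix x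
  let Ψ : (K ≃ₐ[k] K) → (W.support → W.support) := fun σ P =>
    ⟨P.1.comapEquiv σ,
      Finsupp.mem_support_iff.mpr (hinv σ P.1 (Finsupp.mem_support_iff.mp P.2))⟩
  have hfinU : (Set.univ : Set (K ≃ₐ[k] K)).Finite := by
    apply Set.Finite.of_finite_fibers Ψ (Set.toFinite _)
    rintro y ⟨σ₀, -, rfl⟩
    apply (hstab.image (fun ρ => σ₀.trans ρ)).subset
    rintro σ ⟨-, hσ⟩
    refine ⟨σ₀.symm.trans σ, ?_, ?_⟩
    · intro P hP z hz
      have h1 : Ψ σ ⟨P, Finsupp.mem_support_iff.mpr hP⟩ =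
          Ψ σ₀ ⟨P, Finsupp.mem_support_iff.mpr hP⟩ := congrFun hσ _
      have h2 : P.comapEquiv σ = P.comapEquiv σ₀ := congrArg Subtype.val h1
      have h3 : (P.comapEquiv σ).1 (σ₀.symm z) = (P.comapEquiv σ₀).1 (σ₀.symm z) := by rw [h2]
      rw [Place.comapEquiv_apply, Place.comapEquiv_apply, σ₀.apply_symm_apply] at h3
      show P.1 (σ (σ₀.symm z)) < 1
      rw [h3]
      exact hz
    · ext z
      show σ (σ₀.symm (σ₀ z)) = σ z
      rw [σ₀.symm_apply_apply]
  exact Set.finite_univ_iff.mp hfinU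

end FunFld
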