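import Mathlib.Tactic
import Mathlib.CategoryTheory.Limits.Types.Pullbacks
import Mathlib.CategoryTheory.Limits.FunctorCategory.Basic
import Mathlib.CategoryTheory.Limits.Shapes.Pullback.IsPullback.Basic
import Mathlib.CategoryTheory.Limits.Preserves.Shapes.Pullbacks

/-!
Helper lemmas (helper1): elements of pullbacks of `Type`-valued functors.  APPEND-ONLY once landed.
-/

set_option autoImplicit false
universe u v w

open CategoryTheory CategoryTheory.Limits

namespace Groth.Agent.Lib.FunctorPullbackH1

variable {C : Type u} [Category.{w} C] {F G H : C ⥤ Type v} (f : H ⟶ F) (g : G ⟶ F)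

theorem isPullback_app (A : C) :
    IsPullback ((pullback.fst f g).app A) ((pullback.snd f g).app A) (f.app A) (g.app A) :=
  (IsPullback.of_hasPullback f g).map ((evaluation C (Type v)).obj A)

theorem pullback_obj_ext (A : C) (z z' : (pullback f g).obj A)
    (h1 : (pullback.fst f g).app A z = (pullback.fst f g).app A z')
    (h2 : (pullback.snd f g).app A z = (pullback.snd f g).app A z') : z = z' :=
  Types.ext_of_isPullback (isPullback_app f g A) h1 h2

theorem pullback_obj_exists (A : C) (x : H.obj A) (y : G.obj A) (hxy : f.app A x = g.app A y) :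
    ∃ z : (pullback f g).obj A, (pullback.fst f g).app A z = x ∧ (pullback.snd f g).app A z = y :=
  Types.exists_of_isPullback (isPullback_app f g A) x y hxy

theorem pullback_condition_app (A : C) (z : (pullback f g).obj A) :
    f.app A ((pullback.fst f g).app A z) = g.app A ((pullback.snd f g).app A z) := by
  have := congrArg (fun η : pullback f g ⟶ F => η.app A z) (pullback.condition (f := f) (g := g))
  exact this

theorem naturality_apply' {F G : C ⥤ Type v} (η : F ⟶ G) {A B : C} (μ : A ⟶ B) (z : F.obj A) :
    η.app B (F.map μ z) = G.map μ (η.app A z) :=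
  NatTrans.naturality_apply η μ z

end Groth.Agent.Lib.FunctorPullbackH1
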