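import Mathlib

set_option autoImplicit false

namespace Groth.Agent.Lib.FundCycle

open Matrix

theorem main {r : ℕ} (A : Matrix (Fin r) (Fin r) ℤ)
    (hoff : ∀ i j, i ≠ j → 0 ≤ A i j)
    (hneg : ∀ a : Fin r → ℤ, a ≠ 0 → a ⬝ᵥ A.mulVec a < 0) :
    ∃ z : Fin r → ℤ, (∀ i, 1 ≤ z i) ∧ (∀ i, A.mulVec z i ≤ 0) ∧
      ∀ z' : Fin r → ℤ, (∀ i, 1 ≤ z' i) → (∀ i, A.mulVec z' i ≤ 0) → ∀ i, z i ≤ z' i := by
  classical
  have mv : ∀ (z : Fin r → ℤ) i, A.mulVec z i = ∑ j, A i j * z j := fun z i => rfl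
  have dp : ∀ a b : Fin r → ℤ, a ⬝ᵥ b = ∑ i, a i * b i := fun a b => rfl
  -- Step 1 : det ≠ 0
  have hD : A.det ≠ 0 := by
    intro hD
    obtain ⟨v, hv, hAv⟩ := Matrix.exists_mulVec_eq_zero_iff.mpr hD
    have := hneg v hv
    rw [hAv, dotProduct_zero] at this
    exact lt_irrefl _ this
  -- Step 2 : a vector with A z0 = c < 0 constant
  obtain ⟨z0, c, hc, hAz0⟩ : ∃ (z0 : Fin r → ℤ) (c : ℤ), c < 0 ∧ ∀ i, A.mulVec z0 i = c := by
    have hw : A.mulVec (A.adjugate.mulVec 1) = A.det • (1 : Fin r → ℤ) := by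
      rw [Matrix.mulVec_mulVec, Matrix.mul_adjugate, Matrix.smul_mulVec, Matrix.one_mulVec]
    rcases lt_or_gt_of_ne hD with h | h
    · refine ⟨A.adjugate.mulVec 1, A.det, h, fun i => ?_⟩
      rw [hw]; simp
    · refine ⟨(-1 : ℤ) • A.adjugate.mulVec 1, -A.det, by linarith, fun i => ?_⟩
      rw [Matrix.mulVec_smul, hw]; simp
  -- Step 3 : z0 ≥ 1
  obtain ⟨zm, hzm⟩ : ∃ zm : Fin r → ℤ, ∀ i, zm i = max (-z0 i) 0 := ⟨_, fun _ => rfl⟩
  obtain ⟨zp, hzp⟩ : ∃ zp : Fin r → ℤ, ∀ i, zp i = max (z0 i) 0 := ⟨_, fun _ => rfl⟩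
  have hzm_nonneg : ∀ i, 0 ≤ zm i := fun i => by rw [hzm]; exact le_max_right _ _
  have hzp_nonneg : ∀ i, 0 ≤ zp i := fun i => by rw [hzp]; exact le_max_right _ _
  have hprod : ∀ i, zm i * zp i = 0 := by
    intro i
    rcases le_total 0 (z0 i) with h | h
    · have : zm i = 0 := by rw [hzm]; exact max_eq_right (by linarith)
      rw [this, zero_mul]
    · have : zp i = 0 := by rw [hzp]; exact max_eq_right h
      rw [this, mul_zero]
  have hsplit : z0 = zp - zm := by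
    funext i
    rw [Pi.sub_apply, hzp, hzm]
    rcases le_total 0 (z0 i) with h | h
    · rw [max_eq_left h, max_eq_right (by linarith : -z0 i ≤ 0)]; ring
    · rw [max_eq_right h, max_eq_left (by linarith : 0 ≤ -z0 i)]; ring
  have hzm0 : zm = 0 := by
    by_contra hne
    have hT := hneg zm hne
    have e1 : A.mulVec z0 = A.mulVec zp - A.mulVec zm := by
      rw [hsplit, Matrix.mulVec_sub]
    have e2 : zm ⬝ᵥ A.mulVec z0 = zm ⬝ᵥ A.mulVec zp - zm ⬝ᵥ A.mulVec zm := by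
      rw [e1, dotProduct_sub]
    have ha : zm ⬝ᵥ A.mulVec z0 ≤ 0 := by
      rw [dp]
      apply Finset.sum_nonpos
      intro i _
      rw [hAz0 i]
      exact mul_nonpos_of_nonneg_of_nonpos (hzm_nonneg i) hc.le
    have hb : 0 ≤ zm ⬝ᵥ A.mulVec zp := by
      rw [dp]
      apply Finset.sum_nonneg
      intro i _
      rw [mv, Finset.mul_sum]
      apply Finset.sum_nonneg
      intro j _
      by_cases hij : i = j
      · subst hij
        have : zm i * (A i i * zp i) = A i i * (zm i * zp i) := by ring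
        rw [this, hprod i, mul_zero]
      · exact mul_nonneg (hzm_nonneg i) (mul_nonneg (hoff i j hij) (hzp_nonneg j))
    linarith
  have hz0_nonneg : ∀ i, 0 ≤ z0 i := by
    intro i
    have h1 := le_max_left (-z0 i) 0
    rw [← hzm i, hzm0] at h1
    have : (0 : Fin r → ℤ) i = 0 := rfl
    rw [this] at h1
    linarith
  have hz0_pos : ∀ i, 1 ≤ z0 i := by
    intro i
    by_contra hlt
    have hzi : z0 i = 0 := by have := hz0_nonneg i; omega
    have h1 := hAz0 i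
    rw [mv] at h1
    have h2 : 0 ≤ ∑ j, A i j * z0 j := by
      apply Finset.sum_nonneg
      intro j _
      by_cases hij : i = j
      · subst hij; rw [hzi, mul_zero]
      · exact mul_nonneg (hoff i j hij) (hz0_nonneg j)
    linarith
  have hz0A : ∀ i, A.mulVec z0 i ≤ 0 := fun i => by rw [hAz0 i]; exact hc.le
  -- Step 4 : coordinatewise least elements
  have hex : ∀ j : Fin r, ∃ zj : Fin r → ℤ, (∀ i, 1 ≤ zj i) ∧ (∀ i, A.mulVec zj i ≤ 0) ∧
      ∀ z' : Fin r → ℤ, (∀ i, 1 ≤ z' i) → (∀ i, A.mulVec z' i ≤ 0) → zj j ≤ z' j := by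
    intro j
    obtain ⟨lb, ⟨z, hz1, hz2, hzj⟩, hmin⟩ := Int.exists_least_of_bdd
      (P := fun t => ∃ z : Fin r → ℤ, (∀ i, 1 ≤ z i) ∧ (∀ i, A.mulVec z i ≤ 0) ∧ z j = t)
      ⟨1, fun t ⟨z, h1, _, ht⟩ => ht ▸ h1 j⟩ ⟨z0 j, z0, hz0_pos, hz0A, rfl⟩
    exact ⟨z, hz1, hz2, fun z' h1 h2 => hzj ▸ hmin _ ⟨z', h1, h2, rfl⟩⟩
  choose Z hZ1 hZ2 hZmin using hex
  refine ⟨fun j => Z j j, fun i => hZ1 i i, fun i => ?_, fun z' h1 h2 i => hZmin i z' h1 h2⟩
  have h3 : A.mulVec (fun j => Z j j) i ≤ A.mulVec (Z i) i := by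
    rw [mv, mv]
    apply Finset.sum_le_sum
    intro j _
    by_cases hij : i = j
    · subst hij; exact le_refl _
    · exact mul_le_mul_of_nonneg_left (hZmin j (Z i) (hZ1 i) (hZ2 i)) (hoff i j hij)
  exact le_trans h3 (hZ2 i i)

end Groth.Agent.Lib.FundCycle
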