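import Mathlib

/-!
# Finite differences and binomial coefficients (helper9)
A function `ℤ → G` whose `(n+1)`-st forward difference vanishes is determined by its values on `ℕ`;
the function `m ↦ C(m + n, n)` (generalized binomial coefficient) has vanishing `(n+1)`-st
forward difference. Pure Mathlib. APPEND-ONLY once landed.
-/

set_option autoImplicit false

open Finset fwdDiff

namespace Groth.Agent.FwdDiffChoose

section Unique

variable {G : Type*} [AddCommGroup G]

theorem const_of_fwdDiff_eq_zero (d : ℤ → G) (h : Δ_[1] d = 0) (m : ℤ) : d m = d 0 := by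
  have h1 : ∀ x : ℤ, d (x + 1) = d x := fun x => by
    have := congrFun h x
    simp only [fwdDiff, Pi.zero_apply, sub_eq_zero] at this
    exact this
  induction m using Int.induction_on with
  | zero => rfl
  | succ i ih => rw [h1, ih]
  | pred i ih =>
    have := h1 (-(i : ℤ) - 1)
    rw [sub_add_cancel] at this
    rw [← this, ih]

theorem eq_zero_of_fwdDiff_iter_eq_zero : ∀ (n : ℕ) (d : ℤ → G), (fwdDiff (1 : ℤ))^[n + 1] d = 0 →
    (∀ m : ℕ, d m = 0) → ∀ m : ℤ, d m = 0 := by
  intro n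
  induction n with
  | zero =>
    intro d h h0 m
    rw [const_of_fwdDiff_eq_zero d (by simpa using h) m]
    exact h0 0
  | succ n ih =>
    intro d h h0 m
    have h1 : (fwdDiff (1 : ℤ))^[n + 1] (Δ_[1] d) = 0 := by
      rw [← Function.iterate_succ_apply]
      exact h
    have h2 : ∀ m : ℕ, (Δ_[1] d) m = 0 := fun m => by
      simp only [fwdDiff]
      have := h0 (m + 1)
      push_cast at this
      rw [this, h0 m, sub_zero]
    have h3 : Δ_[1] d = 0 := funext (fun x => ih (Δ_[1] d) h1 h2 x)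
    rw [const_of_fwdDiff_eq_zero d h3 m]
    exact h0 0

end Unique

section Choose

/-- `m ↦ C(m + n, n)` on the integers -/
noncomputable def cn (n : ℕ) (m : ℤ) : ℤ := Ring.choose (m + n) n

theorem cn_natCast (n m : ℕ) : cn n (m : ℤ) = ((m + n).choose n : ℤ) := by
  unfold cn
  rw [← Nat.cast_add, Ring.choose_natCast]

theorem cn_neg (n i : ℕ) (hi : 1 ≤ i) (hin : i ≤ n) : cn n (-(i : ℤ)) = 0 := by
  unfold cn
  have : (-(i : ℤ) + (n : ℤ)) = ((n - i : ℕ) : ℤ) := by
    rw [Nat.cast_sub hin]; ring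
  rw [this, Ring.choose_natCast, Nat.choose_eq_zero_of_lt (by omega)]
  rfl

theorem fwdDiff_cn (n : ℕ) (s : ℤ) :
    Δ_[1] (fun m : ℤ => cn (n + 1) (m + s)) = fun m : ℤ => cn n (m + (s + 1)) := by
  funext m
  simp only [fwdDiff, cn]
  have h := Ring.choose_succ_succ (m + s + (n + 1 : ℕ) : ℤ) n
  have e1 : m + 1 + s + ((n + 1 : ℕ) : ℤ) = m + s + ((n + 1 : ℕ) : ℤ) + 1 := by ring
  have e2 : m + (s + 1) + (n : ℤ) = m + s + ((n + 1 : ℕ) : ℤ) := by push_cast; ring
  rw [e1, h, e2]
  ring

theorem fwdDiff_iter_cn : ∀ (n : ℕ) (s : ℤ), (fwdDiff (1 : ℤ))^[n + 1] (fun m : ℤ => cn n (m + s)) = 0 := by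
  intro n
  induction n with
  | zero =>
    intro s
    have : (fun m : ℤ => cn 0 (m + s)) = fun _ => (1 : ℤ) := by
      funext m
      simp [cn]
    rw [this, zero_add, Function.iterate_one, fwdDiff_const]
    rfl
  | succ n ih =>
    intro s
    rw [Function.iterate_succ_apply, fwdDiff_cn]
    exact ih (s + 1)

/-- sum form of `Δ^{n+1} cn = 0` -/
theorem sum_cn_eq_zero (n : ℕ) (y : ℤ) :
    ∑ k ∈ range (n + 1 + 1), ((-1 : ℤ) ^ (n + 1 - k) * ((n + 1).choose k : ℤ)) * cn n (y + k) = 0 := by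
  have h := congrFun (fwdDiff_iter_cn n 0) y
  rw [fwdDiff_iter_eq_sum_shift] at h
  simp only [add_zero, smul_eq_mul, Pi.zero_apply, mul_one, nsmul_eq_mul] at h
  exact h

end Choose

section Main

variable {R : Type*} [Ring R]

/-- if `h : ℤ → R` satisfies the Koszul-type recursion `Σ_p (-1)^p C(n+1,p) h(m+p) = 0` and
`h(m) = C(m+n, n)` for `m ≥ 0`, then `h(m) = cn n m` for all `m`; in particular `h(-i) = 0` for
`1 ≤ i ≤ n`. -/
theorem eq_cn_of_rec (n : ℕ) (h : ℤ → R)
    (hrec : ∀ m : ℤ, ∑ p ∈ range (n + 1 + 1),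
      (-1 : ℤ) ^ p • ((n + 1).choose p • h (m + p)) = 0)
    (hpos : ∀ m : ℕ, h m = ((m + n).choose n : R)) (m : ℤ) : h m = (cn n m : R) := by
  have key := eq_zero_of_fwdDiff_iter_eq_zero n (fun m : ℤ => h m - (cn n m : R)) ?_ ?_ m
  · exact sub_eq_zero.mp key
  · funext y
    rw [fwdDiff_iter_eq_sum_shift]
    simp only [Pi.zero_apply, nsmul_eq_mul, mul_one]
    have h1 : ∑ k ∈ range (n + 1 + 1), ((-1 : ℤ) ^ (n + 1 - k) * ((n + 1).choose k : ℤ)) •
        h (y + k) = 0 := by
      have := congrArg (fun x => (-1 : ℤ) ^ (n + 1) • x) (hrec y)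
      simp only [smul_zero, Finset.smul_sum] at this
      rw [← this]
      refine Finset.sum_congr rfl (fun k hk => ?_)
      have hk' : k ≤ n + 1 := by have := Finset.mem_range.mp hk; omega
      rw [smul_smul, ← natCast_zsmul, smul_smul]
      congr 1
      have : (-1 : ℤ) ^ (n + 1 - k) = (-1) ^ (n + 1) * (-1) ^ k := by
        rw [← pow_add]
        have : n + 1 + k = (n + 1 - k) + 2 * k := by omega
        rw [this, pow_add, pow_mul]
        simp
      rw [this]
    have h2 : ∑ k ∈ range (n + 1 + 1), ((-1 : ℤ) ^ (n + 1 - k) * ((n + 1).choose k : ℤ)) •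
        ((cn n (y + k) : ℤ) : R) = 0 := by
      have := congrArg (fun x : ℤ => (x : R)) (sum_cn_eq_zero n y)
      simp only [Int.cast_sum, Int.cast_zero] at this
      rw [← this]
      refine Finset.sum_congr rfl (fun k _ => ?_)
      rw [zsmul_eq_mul]
      push_cast
      ring
    simp only [smul_sub]
    rw [Finset.sum_sub_distrib, h1, h2, sub_zero]
  · intro m
    show h (m : ℤ) - ((cn n (m : ℤ) : ℤ) : R) = 0
    rw [hpos m, cn_natCast]
    simp

end Main

end Groth.Agent.FwdDiffChoose
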