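import Mathlib

set_option autoImplicit false

namespace Groth.Agent.Lib.FwdDiff_helper3

open Finset Nat Function

/-- the `n`-th forward difference of `x ↦ x^(n+1)` over `ℤ`. -/
theorem fwdDiff_iter_pow_succ (n : ℕ) :
    (fwdDiff (1 : ℤ))^[n] (fun (r : ℤ) ↦ r ^ (n + 1)) =
      fun r => ((n + 1)! : ℤ) * r + (((n + 1).choose 2 * n ! : ℕ) : ℤ) := by
  induction n with
  | zero =>
    funext r
    simp
  | succ n IH =>
    have h1 : (fwdDiff (1 : ℤ) fun (r : ℤ) ↦ r ^ (n + 1 + 1)) =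
        ∑ i ∈ range (n + 1 + 1), (n + 1 + 1).choose i • fun (r : ℤ) ↦ r ^ i := by
      ext x
      simp [nsmul_eq_mul, fwdDiff, add_pow, sum_range_succ, mul_comm]
    rw [iterate_succ_apply, h1, fwdDiff_iter_finsetSum, sum_range_succ, sum_range_succ]
    have h0 : ∑ i ∈ range n, (fwdDiff (1 : ℤ))^[n] ((n + 1 + 1).choose i • fun (r : ℤ) ↦ r ^ i)
        = 0 := by
      refine sum_eq_zero fun i hi => ?_
      rw [fwdDiff_iter_const_smul, fwdDiff_iter_pow_eq_zero_of_lt (mem_range.1 hi),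
        nsmul_zero]
    rw [h0, fwdDiff_iter_const_smul, fwdDiff_iter_const_smul, IH]
    have h3 : (fwdDiff (1 : ℤ))^[n] (fun (r : ℤ) ↦ r ^ n) = ((n ! : ℕ) : (ℤ → ℤ)) :=
      fwdDiff_iter_eq_factorial
    rw [h3]
    funext r
    have hC : ((n + 1).choose 2 : ℤ) * (n + 2) = ((n + 2).choose 2 : ℤ) * n := by
      have := Nat.choose_mul_succ_eq (n + 1) 2
      have h' : n + 1 + 1 - 2 = n := by omega
      rw [h'] at this
      exact_mod_cast this
    have hC1 : ((n + 1 + 1).choose n : ℤ) = ((n + 2).choose 2 : ℤ) := by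
      have : (n + 2).choose n = (n + 2).choose 2 := by
        rw [← Nat.choose_symm (by omega : 2 ≤ n + 2)]
        simp
      exact_mod_cast this
    have hC2 : ((n + 1 + 1).choose (n + 1) : ℤ) = (n + 2 : ℤ) := by
      have : (n + 1 + 1).choose (n + 1) = n + 2 := by
        rw [Nat.choose_succ_self_right]
      exact_mod_cast this
    have hf1 : (((n + 1)! : ℕ) : ℤ) = (n + 1) * (n ! : ℤ) := by
      rw [Nat.factorial_succ]; push_cast; ring
    have hf2 : (((n + 1 + 1)! : ℕ) : ℤ) = (n + 2) * ((n + 1) * (n ! : ℤ)) := by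
      rw [Nat.factorial_succ, Nat.factorial_succ]; push_cast; ring
    simp only [Pi.add_apply, Pi.smul_apply, zero_add]
    simp only [nsmul_eq_mul, Pi.natCast_apply]
    push_cast
    rw [hC1, hC2, hf1, hf2]
    have : ((n + 1 + 1).choose 2 : ℤ) = ((n + 2).choose 2 : ℤ) := rfl
    rw [this]
    linear_combination (n ! : ℤ) * hC

/-- the alternating sum is a forward difference at `0`. -/
theorem altSum_eq_fwdDiff (n k : ℕ) :
    (∑ j ∈ Finset.range (n + 1), (-1 : ℤ) ^ (n - j) * (n.choose j : ℤ) * (j : ℤ) ^ k) =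
      (fwdDiff (1 : ℤ))^[n] (fun (r : ℤ) ↦ r ^ k) 0 := by
  rw [fwdDiff_iter_eq_sum_shift]
  refine Finset.sum_congr rfl fun j _ => ?_
  simp

theorem altSum_cases (n k : ℕ) (hk : k ≤ n + 1) :
    (∑ j ∈ Finset.range (n + 1), (-1 : ℤ) ^ (n - j) * (n.choose j : ℤ) * (j : ℤ) ^ k) =
      (if k = n + 1 then (((n + 1).choose 2 * n.factorial : ℕ) : ℤ)
        else if k = n then (n.factorial : ℤ) else 0) := by
  rw [altSum_eq_fwdDiff]
  split_ifs with h1 h2
  · subst h1
    rw [fwdDiff_iter_pow_succ]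
    simp
  · subst h2
    have h3 : (fwdDiff (1 : ℤ))^[k] (fun (r : ℤ) ↦ r ^ k) = ((k ! : ℕ) : (ℤ → ℤ)) :=
      fwdDiff_iter_eq_factorial
    rw [h3]
    simp
  · have : k < n := by omega
    rw [fwdDiff_iter_pow_eq_zero_of_lt this]
    simp

end Groth.Agent.Lib.FwdDiff_helper3
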