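import Mathlib
import Groth.Prelude
import Groth.Agent.Lib.G0Pic2_helper9

/-!
# The Picard group of a genus zero curve over an infinite field (helper9)
APPEND-ONLY once landed.
-/

set_option autoImplicit false
universe u
open CategoryTheory CategoryTheory.Limits AlgebraicGeometry Opposite TopologicalSpace

namespace G0Pic

open QcqsLoc QCohExtn GenLocH8 TensH8 FLFH8 CurvePt EllPic P1Iso

section DegCl

variable (k : Type u) [Field k] (X : Scheme.{u}) [X.Over (Spec (CommRingCat.of k))]
  [IsIntegral X] [IsProper (X ↘ Spec (CommRingCat.of k))]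

/-- the degree of a class of invertible modules -/
noncomputable def degCl (c : PicLoc.PicSet X) : ℤ :=
  Curv2.deg k X (Classical.choose (PicGrp.exists_eq_cls c)) 1

theorem degCl_cls (L : X.Modules) (hL : PicF.IsInvertible L) :
    degCl k X (PicGrp.cls L hL) = Curv2.deg k X L 1 := by
  obtain ⟨hL', h⟩ := Classical.choose_spec (PicGrp.exists_eq_cls (PicGrp.cls L hL))
  obtain ⟨e⟩ := (PicGrp.cls_eq_cls_iff hL hL').mp h
  unfold degCl
  exact (CurveTens.deg_of_iso k X e 1).symm

variable [PicGrp.Law X]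

theorem degCl_mul (hdim : topologicalKrullDim X = 1) (a b : PicLoc.PicSet X) :
    degCl k X (a * b) = degCl k X a + degCl k X b := by
  obtain ⟨A, hA, rfl⟩ := PicGrp.exists_eq_cls a
  obtain ⟨B, hB, rfl⟩ := PicGrp.exists_eq_cls b
  have hAB : PicF.IsInvertible (CohB1.tensorMod A B) := isInvertible_tensorMod hA hB
  have h1 : PicGrp.cls A hA * PicGrp.cls B hB = PicGrp.cls (CohB1.tensorMod A B) hAB :=
    Subtype.ext (PicGrp.cls_mul_cls_val hA hB)
  rw [h1, degCl_cls, degCl_cls, degCl_cls, CurveTens.deg_tensorMod k X hdim.le hA hB]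

theorem degCl_one : degCl k X (1 : PicLoc.PicSet X) = 0 := by
  rw [← PicGrp.cls_structureModule_eq_one, degCl_cls, CurveDeg.deg_structureModule]

/-- the degree as a group homomorphism -/
noncomputable def degHom (hdim : topologicalKrullDim X = 1) :
    PicLoc.PicSet X →* Multiplicative ℤ where
  toFun c := Multiplicative.ofAdd (degCl k X c)
  map_one' := by rw [degCl_one]; rfl
  map_mul' a b := by rw [degCl_mul k X hdim a b]; rfl

theorem degCl_zpow (hdim : topologicalKrullDim X = 1) (g : PicLoc.PicSet X) (j : ℤ) :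
    degCl k X (g ^ j) = j * degCl k X g := by
  have h := map_zpow (degHom k X hdim) g j
  have h1 : Multiplicative.toAdd ((degHom k X hdim) (g ^ j)) = degCl k X (g ^ j) := rfl
  have h2 : Multiplicative.toAdd ((degHom k X hdim) g ^ j) = j • degCl k X g := rfl
  rw [← h1, h, h2, smul_eq_mul]

/-- on a genus zero curve a class of degree zero is trivial -/
theorem eq_one_of_degCl_eq_zero (hdim : topologicalKrullDim X = 1)
    (h1 : Subsingleton (Coh.HH X (Coh.structureModule X) 1))
    (c : PicLoc.PicSet X) (h : degCl k X c = 0) : c = 1 := by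
  haveI : IsLocallyNoetherian X :=
    LocallyOfFiniteType.isLocallyNoetherian (X ↘ Spec (CommRingCat.of k))
  obtain ⟨L, hL, rfl⟩ := PicGrp.exists_eq_cls c
  rw [degCl_cls] at h
  rw [PicGrp.cls_eq_one_iff]
  have hg : Curv2.genus k X = 0 := by
    show Module.finrank k (Coh.HH X (Coh.structureModule X) 1) = 0
    exact Module.finrank_zero_of_subsingleton
  have hLc := ProperFinH9.isCoh_of_isInvertible hL
  haveI := hLc.1
  haveI := (CohDevH8.isCoh_structureModule X).1
  haveI hH1 : Subsingleton (Coh.HH X L 1) := by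
    apply CurveAmple.HH1_subsingleton_of_deg_ge k X hdim.le hL
    rw [hg, h]
    norm_num
  have hO := CurveRR.euler_eq_sub k X hdim.le (Coh.structureModule X)
  have hg' : Module.finrank k (Coh.HH X (Coh.structureModule X) 1) = 0 := hg
  have hLe := CurveRR.euler_eq_sub k X hdim.le L
  have h2 : Module.finrank k (Coh.HH X L 1) = 0 := Module.finrank_zero_of_subsingleton
  have h0 := CurveAmple.one_le_finrank_HH0_structureModule k X
  have hH0 : 0 < Module.finrank k (Coh.HH X L 0) := by
    unfold Curv2.deg at h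
    rw [hg'] at hO
    rw [h2] at hLe
    push_cast at hO hLe h
    omega
  have hHom : 0 < Module.finrank k (Coh.structureModule X ⟶ L) := by
    rw [(CurveIdeal.thetaEquiv k L).finrank_eq]
    exact hH0
  haveI := ProperFinH9.finite_HH_of_proper k X L hLc 0
  haveI : Module.Finite k (Coh.structureModule X ⟶ L) :=
    Module.Finite.equiv (CurveIdeal.thetaEquiv k L).symm
  obtain ⟨σ, hσ⟩ := Module.finrank_pos_iff_exists_ne_zero.mp hHom
  haveI := CurveDeg.isIso_of_deg_nonpos k X hdim hL σ hσ h.le
  exact ⟨(asIso σ).symm⟩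

/-- **statement of S16301** -/
theorem pic_generated [Infinite k] (hdim : topologicalKrullDim X = 1)
    (h1 : Subsingleton (Coh.HH X (Coh.structureModule X) 1))
    (P : X) (hPc : IsClosed ({P} : Set X)) (hPreg : IsRegularLocalRing (X.presheaf.stalk P))
    (hmin : ∀ (Q : X) (hQc : IsClosed ({Q} : Set X)), IsRegularLocalRing (X.presheaf.stalk Q) →
      ptDeg k X P hPc ≤ ptDeg k X Q hQc)
    (hI : PicF.IsInvertible (ClSub.idealMod (Scheme.IdealSheafData.vanishingIdeal ⟨{P}, hPc⟩)))
    (c : PicLoc.PicSet X) :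
    c ∈ Subgroup.zpowers
      (PicGrp.cls (ClSub.idealMod (Scheme.IdealSheafData.vanishingIdeal ⟨{P}, hPc⟩)) hI) := by
  obtain ⟨e, he0, heD, hdvd⟩ := exists_min_deg k X hdim
  obtain ⟨Q, hQ, hQreg, -, hQe⟩ := exists_regular_point_of_deg k X hdim h1 e he0 heD hdvd ∅
  -- `deg P = e`
  have hPe : ptDeg k X P hPc = e := by
    apply le_antisymm
    · rw [← hQe]
      exact hmin Q hQ hQreg
    · have h2 := hdvd _ (ptDeg_mem_degSubgroup k X hdim P hPc hPreg)
      have h3 := one_le_ptDeg k X P hPc
      have h4 : (e : ℤ) ≤ (ptDeg k X P hPc : ℤ) := Int.le_of_dvd (by exact_mod_cast h3) h2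
      exact_mod_cast h4
  set g := PicGrp.cls (ClSub.idealMod (Scheme.IdealSheafData.vanishingIdeal ⟨{P}, hPc⟩)) hI
    with hg
  have hdg : degCl k X g = -(e : ℤ) := by
    rw [hg, degCl_cls, deg_idealMod_point, hPe]
  -- the degree of `c` is a multiple of `e`
  obtain ⟨j, hj⟩ : (e : ℤ) ∣ degCl k X c := by
    obtain ⟨L, hL, rfl⟩ := PicGrp.exists_eq_cls c
    rw [degCl_cls]
    exact hdvd _ ⟨L, hL, rfl⟩
  have h0 : degCl k X (c * g ^ j) = 0 := by
    rw [degCl_mul k X hdim, degCl_zpow k X hdim, hdg, hj]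
    ring
  have h2 := eq_one_of_degCl_eq_zero k X hdim h1 _ h0
  rw [Subgroup.mem_zpowers_iff]
  refine ⟨-j, ?_⟩
  rw [zpow_neg]
  exact (eq_inv_of_mul_eq_one_left h2).symm

end DegCl

end G0Pic
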