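import Mathlib
import Groth.Prelude.Def_Models

/-! Helper lemmas for numerical types (area Models). helper5. -/

namespace Groth.Agent.Lib.ModelsH5

open Finset

/-- Quadratic form identity. -/
lemma quad_identity {n : ℕ} (A : Matrix (Fin n) (Fin n) ℝ) (m y : Fin n → ℝ) (hsymm : A.IsSymm) :
    ∑ i, ∑ j, A i j * (m i * y i) * (m j * y j) =
      ∑ i, y i ^ 2 * (m i * ∑ j, A i j * m j)
        - (1/2) * ∑ i, ∑ j, A i j * m i * m j * (y i - y j) ^ 2 := by
  have hT : ∑ i, ∑ j, A i j * m i * m j * y j ^ 2 = ∑ i, ∑ j, A i j * m i * m j * y i ^ 2 := by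
    rw [Finset.sum_comm]
    refine Finset.sum_congr rfl fun i _ => Finset.sum_congr rfl fun j _ => ?_
    rw [hsymm.apply i j]
    ring
  have h1 : ∀ i, y i ^ 2 * (m i * ∑ j, A i j * m j) = ∑ j, A i j * m i * m j * y i ^ 2 := by
    intro i
    rw [Finset.mul_sum, Finset.mul_sum]
    exact Finset.sum_congr rfl fun j _ => by ring
  have h2 : ∑ i, ∑ j, A i j * m i * m j * (y i - y j) ^ 2 =
      ∑ i, ∑ j, A i j * m i * m j * y i ^ 2 - 2 * ∑ i, ∑ j, A i j * (m i * y i) * (m j * y j)
        + ∑ i, ∑ j, A i j * m i * m j * y j ^ 2 := by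
    have : ∀ i j, A i j * m i * m j * (y i - y j) ^ 2 =
        A i j * m i * m j * y i ^ 2 - 2 * (A i j * (m i * y i) * (m j * y j))
          + A i j * m i * m j * y j ^ 2 := fun i j => by ring
    simp only [this, Finset.sum_add_distrib, Finset.sum_sub_distrib, ← Finset.mul_sum]
  simp only [h1]
  rw [h2, hT]
  ring

lemma quad_nonpos {n : ℕ} (A : Matrix (Fin n) (Fin n) ℝ) (m : Fin n → ℝ)
    (hsymm : A.IsSymm) (hA : ∀ i j, i ≠ j → 0 ≤ A i j) (hm : ∀ i, 0 < m i)
    (hle : ∀ i, ∑ j, A i j * m j ≤ 0) (y : Fin n → ℝ) :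
    dotProduct (fun i => m i * y i) (A.mulVec fun i => m i * y i) ≤ 0 ∧
    (dotProduct (fun i => m i * y i) (A.mulVec fun i => m i * y i) = 0 →
      (∀ i, y i = 0 ∨ ∑ j, A i j * m j = 0) ∧ ∀ i j, A i j = 0 ∨ y i = y j) := by
  have hQ : dotProduct (fun i => m i * y i) (A.mulVec fun i => m i * y i) =
      ∑ i, ∑ j, A i j * (m i * y i) * (m j * y j) := by
    simp only [dotProduct, Matrix.mulVec, Finset.mul_sum]
    exact Finset.sum_congr rfl fun i _ => Finset.sum_congr rfl fun j _ => by ring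
  rw [hQ, quad_identity A m y hsymm]
  have ht : ∀ i ∈ (univ : Finset (Fin n)), y i ^ 2 * (m i * ∑ j, A i j * m j) ≤ 0 := fun i _ =>
    mul_nonpos_of_nonneg_of_nonpos (sq_nonneg _)
      (mul_nonpos_of_nonneg_of_nonpos (hm i).le (hle i))
  have hd : ∀ i ∈ (univ : Finset (Fin n)), ∀ j ∈ (univ : Finset (Fin n)),
      0 ≤ A i j * m i * m j * (y i - y j) ^ 2 := by
    intro i _ j _
    by_cases hij : i = j
    · subst hij; simp
    · exact mul_nonneg (mul_nonneg (mul_nonneg (hA i j hij) (hm i).le) (hm j).le) (sq_nonneg _)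
  have hT0 : ∑ i, y i ^ 2 * (m i * ∑ j, A i j * m j) ≤ 0 := Finset.sum_nonpos ht
  have hD0 : 0 ≤ ∑ i, ∑ j, A i j * m i * m j * (y i - y j) ^ 2 :=
    Finset.sum_nonneg fun i hi => Finset.sum_nonneg (hd i hi)
  refine ⟨by linarith, fun h0 => ?_⟩
  have hT1 : ∑ i, y i ^ 2 * (m i * ∑ j, A i j * m j) = 0 := by linarith
  have hD1 : ∑ i, ∑ j, A i j * m i * m j * (y i - y j) ^ 2 = 0 := by linarith
  constructor
  · intro i
    have := (Finset.sum_eq_zero_iff_of_nonpos ht).1 hT1 i (mem_univ i)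
    rcases mul_eq_zero.1 this with h | h
    · left; exact (pow_eq_zero_iff two_ne_zero).1 h
    · right
      rcases mul_eq_zero.1 h with h | h
      · exact absurd h (hm i).ne'
      · exact h
  · intro i j
    have h1 := (Finset.sum_eq_zero_iff_of_nonneg
      fun i hi => Finset.sum_nonneg (hd i hi)).1 hD1 i (mem_univ i)
    have h2 := (Finset.sum_eq_zero_iff_of_nonneg (hd i (mem_univ i))).1 h1 j (mem_univ j)
    rcases mul_eq_zero.1 h2 with h | h
    · left
      rcases mul_eq_zero.1 h with h | h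
      · rcases mul_eq_zero.1 h with h | h
        · exact h
        · exact absurd h (hm i).ne'
      · exact absurd h (hm j).ne'
    · right; exact sub_eq_zero.1 ((pow_eq_zero_iff two_ne_zero).1 h)

/-- Parity lemma for symmetric integer arrays. -/
lemma two_dvd_sum_symm : ∀ {n : ℕ} (b : Fin n → Fin n → ℤ), (∀ i j, b i j = b j i) →
    (2:ℤ) ∣ ∑ i, ∑ j, b i j - ∑ i, b i i
  | 0, b, _ => by simp
  | n+1, b, hb => by
    obtain ⟨k, hk⟩ := two_dvd_sum_symm (fun i j : Fin n => b i.succ j.succ) (fun i j => hb _ _)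
    beta_reduce at hk
    have h1 : ∑ i : Fin n, b i.succ 0 = ∑ j : Fin n, b 0 j.succ :=
      Finset.sum_congr rfl fun i _ => hb _ _
    refine ⟨∑ j : Fin n, b 0 j.succ + k, ?_⟩
    simp only [Fin.sum_univ_succ, Finset.sum_add_distrib]
    rw [h1]
    linear_combination hk

open Models

variable {n : ℕ} (T : NumericalType n)

lemma row_sum (i : Fin n) : ∑ j, T.a i j * T.m j = 0 := by
  have := congrFun T.mulVec_m i
  simpa [Matrix.mulVec, dotProduct] using this

lemma diag_eq (i : Fin n) : T.a i i * T.m i = - ∑ j ∈ univ.erase i, T.a i j * T.m j := by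
  have := row_sum T i
  rw [← Finset.add_sum_erase univ _ (mem_univ i)] at this
  linarith

lemma erase_sum_nonneg (i : Fin n) : 0 ≤ ∑ j ∈ univ.erase i, T.a i j * T.m j :=
  Finset.sum_nonneg fun j hj =>
    mul_nonneg (T.offDiag_nonneg i j (Finset.ne_of_mem_erase hj).symm) (T.m_pos j).le

lemma diag_nonpos (i : Fin n) : T.a i i ≤ 0 := by
  have h := diag_eq T i
  have h2 := erase_sum_nonneg T i
  by_contra hpos
  push_neg at hpos
  have := mul_pos hpos (T.m_pos i)
  linarith

lemma diag_neg (hn : 1 < n) (i : Fin n) : T.a i i < 0 := by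
  rcases (diag_nonpos T i).lt_or_eq with h | h
  · exact h
  · exfalso
    have h1 := diag_eq T i
    rw [h, zero_mul] at h1
    have h2 : ∑ j ∈ univ.erase i, T.a i j * T.m j = 0 := by linarith
    have h3 := (Finset.sum_eq_zero_iff_of_nonneg fun j hj =>
      mul_nonneg (T.offDiag_nonneg i j (Finset.ne_of_mem_erase hj).symm) (T.m_pos j).le).1 h2
    obtain ⟨i', hi', j, hj, hij⟩ := T.connected {i} ⟨i, mem_singleton_self i⟩ (by
      intro hu
      have : (univ : Finset (Fin n)).card = 1 := by rw [← hu]; simp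
      simp at this
      omega)
    rw [mem_singleton] at hi'
    subst hi'
    have hji : j ≠ i' := by simpa using hj
    have := h3 j (mem_erase.2 ⟨hji, mem_univ j⟩)
    rcases mul_eq_zero.1 this with h | h
    · exact hij h
    · exact (T.m_pos j).ne' h

lemma two_dvd : (2:ℤ) ∣ ∑ i, T.m i * T.a i i := by
  have h1 := two_dvd_sum_symm (fun i j => T.m i * T.a i j * T.m j)
    (fun i j => by rw [T.symm.apply i j]; ring)
  beta_reduce at h1
  have h2 : ∑ i, ∑ j, T.m i * T.a i j * T.m j = 0 := by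
    have : ∀ i, ∑ j, T.m i * T.a i j * T.m j = T.m i * ∑ j, T.a i j * T.m j := fun i => by
      rw [Finset.mul_sum]; exact Finset.sum_congr rfl fun j _ => by ring
    simp only [this, row_sum, mul_zero, Finset.sum_const_zero]
  rw [h2, zero_sub, dvd_neg] at h1
  have h3 : (2:ℤ) ∣ ∑ i, T.m i * (T.m i - 1) * T.a i i :=
    Finset.dvd_sum fun i _ => Dvd.dvd.mul_right (Int.even_mul_pred_self (T.m i)).two_dvd _
  have : ∑ i, T.m i * T.a i i =
      ∑ i, T.m i * T.a i i * T.m i - ∑ i, T.m i * (T.m i - 1) * T.a i i := by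
    rw [← Finset.sum_sub_distrib]; exact Finset.sum_congr rfl fun i _ => by ring
  rw [this]
  exact dvd_sub h1 h3

lemma two_genus : 2 * T.genus = 2 + ∑ i, T.m i * (2 * T.w i * (T.g i - 1) - T.a i i) := by
  unfold Models.NumericalType.genus
  have h := Int.ediv_mul_cancel (two_dvd T)
  have : ∑ i, T.m i * (2 * T.w i * (T.g i - 1) - T.a i i) =
      2 * ∑ i, T.m i * T.w i * (T.g i - 1) - ∑ i, T.m i * T.a i i := by
    rw [Finset.mul_sum, ← Finset.sum_sub_distrib]; exact Finset.sum_congr rfl fun i _ => by ring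
  rw [this]
  linarith

lemma term_nonneg (hmin : T.IsMinimal) (hn : 1 < n) (i : Fin n) :
    0 ≤ T.m i * (2 * T.w i * (T.g i - 1) - T.a i i) := by
  refine mul_nonneg (T.m_pos i).le ?_
  obtain ⟨c, hc⟩ := T.w_dvd i i
  have hneg := diag_neg T hn i
  have hw := T.w_pos i
  have hc1 : c ≤ -1 := by
    by_contra h
    push_neg at h
    have h0 : 0 ≤ c := by omega
    have := mul_nonneg hw.le h0
    rw [← hc] at this
    linarith
  rcases (T.g_nonneg i).eq_or_lt with hg | hg
  · have hc2 : c ≠ -1 := by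
      intro h
      apply hmin i
      exact ⟨hg.symm, by rw [hc, h]; ring⟩
    have hc3 : c ≤ -2 := by omega
    have := mul_le_mul_of_nonneg_left hc3 hw.le
    rw [hc, ← hg]
    linarith
  · have hg1 : 1 ≤ T.g i := hg
    have h1 := mul_nonneg hw.le (sub_nonneg.2 hg1)
    have h2 := mul_le_mul_of_nonneg_left hc1 hw.le
    rw [hc]
    nlinarith

lemma one_le_genus (hmin : T.IsMinimal) (hn : 1 < n) : 1 ≤ T.genus := by
  have h1 := two_genus T
  have h2 : 0 ≤ ∑ i, T.m i * (2 * T.w i * (T.g i - 1) - T.a i i) :=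
    Finset.sum_nonneg fun i _ => term_nonneg T hmin hn i
  omega

end Groth.Agent.Lib.ModelsH5
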