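import Mathlib
import Groth.Prelude.Def_Models
import Groth.Agent.Lib.Models_helper5

/-! More helper lemmas for numerical types: the "no superharmonic vector on a proper subgraph" lemma. helper5. -/

namespace Groth.Agent.Lib.ModelsH5

open Finset Models

variable {n : ℕ} (T : NumericalType n)

/-- Row sum restricted to a subset is nonpositive when the row index is in the subset. -/
lemma sub_row_sum_nonpos (I : Finset (Fin n)) (i : Fin n) (hi : i ∈ I) :
    ∑ j ∈ I, T.a i j * T.m j ≤ 0 := by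
  classical
  have h := row_sum T i
  rw [← Finset.sum_add_sum_compl I] at h
  have h2 : 0 ≤ ∑ j ∈ Iᶜ, T.a i j * T.m j := Finset.sum_nonneg fun j hj => by
    have hne : i ≠ j := fun hij => (Finset.mem_compl.1 hj) (hij ▸ hi)
    exact mul_nonneg (T.offDiag_nonneg i j hne) (T.m_pos j).le
  linarith

lemma sub_row_sum_neg (I : Finset (Fin n)) (i : Fin n) (hi : i ∈ I) (j : Fin n) (hj : j ∉ I)
    (hij : T.a i j ≠ 0) :
    ∑ j ∈ I, T.a i j * T.m j < 0 := by
  classical
  have h := row_sum T i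
  rw [← Finset.sum_add_sum_compl I] at h
  have hnn : ∀ k ∈ Iᶜ, 0 ≤ T.a i k * T.m k := fun k hk => by
    have hne : i ≠ k := fun hik => (Finset.mem_compl.1 hk) (hik ▸ hi)
    exact mul_nonneg (T.offDiag_nonneg i k hne) (T.m_pos k).le
  have hne : i ≠ j := fun h => hj (h ▸ hi)
  have hpos : 0 < T.a i j * T.m j :=
    mul_pos (lt_of_le_of_ne (T.offDiag_nonneg i j hne) (Ne.symm hij)) (T.m_pos j)
  have h2 : T.a i j * T.m j ≤ ∑ k ∈ Iᶜ, T.a i k * T.m k :=
    Finset.single_le_sum hnn (Finset.mem_compl.2 hj)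
  linarith

/-- No non-negative non-zero vector supported on a proper subset can be superharmonic. -/
theorem no_superharmonic {t : ℕ} (v : Fin t ↪ Fin n) (ht : t < n) (c : Fin t → ℤ)
    (hc : ∀ k, 0 ≤ c k) (hc0 : ∃ k, 0 < c k)
    (h : ∀ j, 0 < c j → 0 ≤ ∑ k, T.a (v j) (v k) * c k) : False := by
  classical
  set J : Finset (Fin t) := univ.filter (fun k => 0 < c k) with hJ
  set I : Finset (Fin n) := J.map v with hI
  have hmemJ : ∀ k, k ∈ J ↔ 0 < c k := fun k => by simp [hJ]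
  have hIne : I.Nonempty := by
    obtain ⟨k, hk⟩ := hc0
    exact ⟨v k, Finset.mem_map_of_mem v ((hmemJ k).2 hk)⟩
  have hIu : I ≠ univ := by
    intro hu
    have h1 : I.card ≤ t := by
      rw [hI, Finset.card_map]
      exact (Finset.card_le_univ J).trans (by simp)
    rw [hu, Finset.card_univ, Fintype.card_fin] at h1
    omega
  obtain ⟨i, hi, i', hi', hii'⟩ := T.connected I hIne hIu
  obtain ⟨j0, hj0, rfl⟩ := Finset.mem_map.1 hi
  -- the double sum
  have hR : ∀ j ∈ J, ∑ k ∈ J, T.a (v j) (v k) * T.m (v k) ≤ 0 := by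
    intro j hj
    have := sub_row_sum_nonpos T I (v j) (Finset.mem_map_of_mem v hj)
    rwa [hI, Finset.sum_map] at this
  have hR0 : ∑ k ∈ J, T.a (v j0) (v k) * T.m (v k) < 0 := by
    have := sub_row_sum_neg T I (v j0) hi i' hi' hii'
    rwa [hI, Finset.sum_map] at this
  have hS1 : ∑ j ∈ J, c j * ∑ k ∈ J, T.a (v j) (v k) * T.m (v k) < 0 := by
    have hterm : ∀ j ∈ J, c j * ∑ k ∈ J, T.a (v j) (v k) * T.m (v k) ≤ 0 := fun j hj =>
      mul_nonpos_of_nonneg_of_nonpos (hc j) (hR j hj)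
    have h0 : c j0 * ∑ k ∈ J, T.a (v j0) (v k) * T.m (v k) < 0 :=
      mul_neg_of_pos_of_neg ((hmemJ j0).1 hj0) hR0
    calc ∑ j ∈ J, c j * ∑ k ∈ J, T.a (v j) (v k) * T.m (v k)
        ≤ c j0 * ∑ k ∈ J, T.a (v j0) (v k) * T.m (v k) := by
          rw [← Finset.add_sum_erase J _ hj0]
          have : ∑ j ∈ J.erase j0, c j * ∑ k ∈ J, T.a (v j) (v k) * T.m (v k) ≤ 0 :=
            Finset.sum_nonpos fun j hj => hterm j (Finset.mem_of_mem_erase hj)
          linarith
      _ < 0 := h0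
  have hS2 : 0 ≤ ∑ j ∈ J, c j * ∑ k ∈ J, T.a (v j) (v k) * T.m (v k) := by
    have : ∑ j ∈ J, c j * ∑ k ∈ J, T.a (v j) (v k) * T.m (v k) =
        ∑ k ∈ J, T.m (v k) * ∑ j ∈ J, T.a (v k) (v j) * c j := by
      simp only [Finset.mul_sum]
      rw [Finset.sum_comm]
      refine Finset.sum_congr rfl fun k _ => Finset.sum_congr rfl fun j _ => ?_
      rw [T.symm.apply (v k) (v j)]
      ring
    rw [this]
    refine Finset.sum_nonneg fun k hk => mul_nonneg (T.m_pos _).le ?_
    have hsub : ∑ j ∈ J, T.a (v k) (v j) * c j = ∑ j, T.a (v k) (v j) * c j := by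
      refine Finset.sum_subset (Finset.subset_univ _) fun j _ hj => ?_
      have : c j = 0 := le_antisymm (not_lt.1 (fun hh => hj ((hmemJ j).2 hh))) (hc j)
      rw [this, mul_zero]
    rw [hsub]
    exact h k ((hmemJ k).1 hk)
  linarith

/-- Sub-row inequality along an embedding. -/
lemma emb_row_nonpos {t : ℕ} (v : Fin t ↪ Fin n) (j : Fin t) :
    ∑ k, T.a (v j) (v k) * T.m (v k) ≤ 0 := by
  have := sub_row_sum_nonpos T (univ.map v) (v j) (Finset.mem_map_of_mem v (mem_univ j))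
  rwa [Finset.sum_map] at this

lemma emb_offDiag_nonneg {t : ℕ} (v : Fin t ↪ Fin n) (j k : Fin t) (hjk : j ≠ k) :
    0 ≤ T.a (v j) (v k) :=
  T.offDiag_nonneg _ _ (fun h => hjk (v.injective h))

lemma emb_symm {t : ℕ} (v : Fin t ↪ Fin n) (j k : Fin t) : T.a (v k) (v j) = T.a (v j) (v k) :=
  T.symm.apply _ _

/-- For an edge (nonzero entry) between distinct indices, `w i ≤ a i j`. -/
lemma w_le_of_ne_zero (i j : Fin n) (hij : i ≠ j) (h : T.a i j ≠ 0) : T.w i ≤ T.a i j :=
  Int.le_of_dvd (lt_of_le_of_ne (T.offDiag_nonneg i j hij) (Ne.symm h)) (T.w_dvd i j)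

lemma w_le_of_ne_zero' (i j : Fin n) (hij : i ≠ j) (h : T.a i j ≠ 0) : T.w j ≤ T.a i j := by
  have := w_le_of_ne_zero T j i hij.symm (by rwa [T.symm.apply i j])
  rwa [T.symm.apply i j] at this

/-- Either `a i j = w i` or `2 w i ≤ a i j` for an edge. -/
lemma eq_or_two_le (i j : Fin n) (hij : i ≠ j) (h : T.a i j ≠ 0) :
    T.a i j = T.w i ∨ 2 * T.w i ≤ T.a i j := by
  obtain ⟨p, hp⟩ := T.w_dvd i j
  have hpos : 0 < T.a i j := lt_of_le_of_ne (T.offDiag_nonneg i j hij) (Ne.symm h)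
  have hw := T.w_pos i
  have hp1 : 1 ≤ p := by
    by_contra hlt
    push Not at hlt
    have : p ≤ 0 := by omega
    have := mul_nonpos_of_nonneg_of_nonpos hw.le this
    rw [← hp] at this
    omega
  rcases hp1.eq_or_lt with h1 | h1
  · left; rw [hp, ← h1, mul_one]
  · right
    have : 2 ≤ p := h1
    calc 2 * T.w i = T.w i * 2 := by ring
      _ ≤ T.w i * p := mul_le_mul_of_nonneg_left this hw.le
      _ = T.a i j := hp.symm

lemma eq_or_two_le' (i j : Fin n) (hij : i ≠ j) (h : T.a i j ≠ 0) :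
    T.a i j = T.w j ∨ 2 * T.w j ≤ T.a i j := by
  have := eq_or_two_le T j i hij.symm (by rwa [T.symm.apply i j])
  rwa [T.symm.apply i j] at this

end Groth.Agent.Lib.ModelsH5
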