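import Mathlib
import Groth.Prelude.Def_Models
import Groth.Agent.Lib.Models2_helper5

/-! Trichotomy for edge multiplicities. helper5. -/

namespace Groth.Agent.Lib.ModelsH5

open Finset Models

variable {n : ℕ} (T : NumericalType n)

lemma eq_or_eq_two_or_three_le (i j : Fin n) (hij : i ≠ j) (h : T.a i j ≠ 0) :
    T.a i j = T.w i ∨ T.a i j = 2 * T.w i ∨ 3 * T.w i ≤ T.a i j := by
  obtain ⟨p, hp⟩ := T.w_dvd i j
  have hpos : 0 < T.a i j := lt_of_le_of_ne (T.offDiag_nonneg i j hij) (Ne.symm h)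
  have hw := T.w_pos i
  have hp1 : 1 ≤ p := by
    by_contra hlt
    push Not at hlt
    have : p ≤ 0 := by omega
    have := mul_nonpos_of_nonneg_of_nonpos hw.le this
    rw [← hp] at this
    omega
  rcases (show p = 1 ∨ p = 2 ∨ 3 ≤ p by omega) with h1 | h1 | h1
  · left; rw [hp, h1, mul_one]
  · right; left; rw [hp, h1]; ring
  · right; right
    calc 3 * T.w i = T.w i * 3 := by ring
      _ ≤ T.w i * p := mul_le_mul_of_nonneg_left h1 hw.le
      _ = T.a i j := hp.symm

/-- If the genus contribution of an index vanishes (and `n > 1`), the index is a `(-2)`-index. -/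
lemma minusTwo_of_term_zero (hn : 1 < n) (i : Fin n)
    (h : T.m i * (2 * T.w i * (T.g i - 1) - T.a i i) = 0) : T.IsMinusTwo i := by
  obtain ⟨c, hc⟩ := T.w_dvd i i
  have hneg := diag_neg T hn i
  have hw := T.w_pos i
  have hm := T.m_pos i
  have hg := T.g_nonneg i
  have h1 : 2 * T.w i * (T.g i - 1) - T.a i i = 0 := by
    rcases mul_eq_zero.1 h with h0 | h0
    · exact absurd h0 hm.ne'
    · exact h0
  rw [hc] at h1 hneg
  have hc1 : c ≤ -1 := by
    by_contra hcon
    push Not at hcon
    have h0 : 0 ≤ c := by omega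
    have := mul_nonneg hw.le h0
    linarith
  have h2 : T.w i * (2 * (T.g i - 1) - c) = 0 := by linarith
  have h3 : 2 * (T.g i - 1) - c = 0 := by
    rcases mul_eq_zero.1 h2 with h0 | h0
    · exact absurd h0 hw.ne'
    · exact h0
  have hg0 : T.g i = 0 := by omega
  have hc2 : c = -2 := by omega
  exact ⟨hg0, by rw [hc, hc2]; ring⟩

/-- In a minimal numerical type of genus one on `n > 1` indices every index is a `(-2)`-index. -/
lemma genus_one_minusTwo (hmin : T.IsMinimal) (hn : 1 < n) (hg : T.genus = 1) (i : Fin n) :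
    T.IsMinusTwo i := by
  have h1 := two_genus T
  rw [hg] at h1
  have h2 : ∑ i, T.m i * (2 * T.w i * (T.g i - 1) - T.a i i) = 0 := by linarith
  have h3 := (Finset.sum_eq_zero_iff_of_nonneg
    fun i _ => term_nonneg T hmin hn i).1 h2 i (mem_univ i)
  exact minusTwo_of_term_zero T hn i h3

lemma eq_or_four_le (i j : Fin n) (hij : i ≠ j) (h : T.a i j ≠ 0) :
    T.a i j = T.w i ∨ T.a i j = 2 * T.w i ∨ T.a i j = 3 * T.w i ∨ 4 * T.w i ≤ T.a i j := by
  obtain ⟨p, hp⟩ := T.w_dvd i j
  have hpos : 0 < T.a i j := lt_of_le_of_ne (T.offDiag_nonneg i j hij) (Ne.symm h)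
  have hw := T.w_pos i
  have hp1 : 1 ≤ p := by
    by_contra hlt
    push Not at hlt
    have : p ≤ 0 := by omega
    have := mul_nonpos_of_nonneg_of_nonpos hw.le this
    rw [← hp] at this
    omega
  rcases (show p = 1 ∨ p = 2 ∨ p = 3 ∨ 4 ≤ p by omega) with h1 | h1 | h1 | h1
  · left; rw [hp, h1, mul_one]
  · right; left; rw [hp, h1]; ring
  · right; right; left; rw [hp, h1]; ring
  · right; right; right
    calc 4 * T.w i = T.w i * 4 := by ring
      _ ≤ T.w i * p := mul_le_mul_of_nonneg_left h1 hw.le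
      _ = T.a i j := hp.symm

end Groth.Agent.Lib.ModelsH5
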