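import Mathlib
import Groth.Prelude.Def_Models
import Groth.Agent.Lib.Models3_helper5

/-! Genus-one classification of minimal numerical types: a reflective, kernel-checked
search over "growing" dual graphs (lead).  A certificate tree is checked by `check`;
`check_sound` shows that a successful check proves the abstract classification `Concl`. -/

set_option autoImplicit false

namespace Groth.Agent.Lib.G1

open Finset Models

section General

variable {n : ℕ} (T : NumericalType n)

/-- The Cartan-type integer matrix `a i j / w i`. -/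
def cc (i j : Fin n) : ℤ := T.a i j / T.w i

lemma a_eq (i j : Fin n) : T.a i j = T.w i * cc T i j := by
  unfold cc
  rw [Int.mul_ediv_cancel' (T.w_dvd i j)]

lemma a_symm (i j : Fin n) : T.a i j = T.a j i := T.symm.apply j i

lemma cc_nonneg {i j : Fin n} (h : i ≠ j) : 0 ≤ cc T i j :=
  Int.ediv_nonneg (T.offDiag_nonneg i j h) (T.w_pos i).le

lemma cc_diag (hd : ∀ i, T.a i i = -2 * T.w i) (i : Fin n) : cc T i i = -2 := by
  have h := a_eq T i i
  rw [hd i] at h
  have hw := T.w_pos i
  have h2 : T.w i * cc T i i = T.w i * (-2) := by linarith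
  exact mul_left_cancel₀ hw.ne' h2

lemma cc_of_a_zero {i j : Fin n} (h : T.a i j = 0) : cc T i j = 0 := by
  unfold cc; rw [h, Int.zero_ediv]

lemma cc_pos {i j : Fin n} (h : i ≠ j) (ha : T.a i j ≠ 0) : 1 ≤ cc T i j := by
  have h0 := cc_nonneg T h
  rcases h0.lt_or_eq with h1 | h1
  · omega
  · exfalso; apply ha; rw [a_eq, ← h1, mul_zero]

lemma row_cc (i : Fin n) : ∑ j, cc T i j * T.m j = 0 := by
  have h := ModelsH5.row_sum T i
  have h2 : T.w i * ∑ j, cc T i j * T.m j = 0 := by
    rw [Finset.mul_sum, ← h]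
    exact Finset.sum_congr rfl fun j _ => by rw [a_eq T i j]; ring
  rcases mul_eq_zero.1 h2 with h3 | h3
  · have := T.w_pos i; omega
  · exact h3

lemma key_identity (v : Fin n → ℤ) : ∑ i, T.m i * T.w i * ∑ j, cc T i j * v j = 0 := by
  have h1 : ∀ i, T.m i * T.w i * ∑ j, cc T i j * v j = ∑ j, v j * (T.a j i * T.m i) := by
    intro i
    rw [Finset.mul_sum]
    refine Finset.sum_congr rfl fun j _ => ?_
    rw [a_symm T j i, a_eq T i j]; ring
  rw [Finset.sum_congr rfl fun i _ => h1 i, Finset.sum_comm]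
  refine Finset.sum_eq_zero fun j _ => ?_
  rw [← Finset.mul_sum, ModelsH5.row_sum T j, mul_zero]

lemma all_zero_of_nonneg (v : Fin n → ℤ) (h : ∀ i, 0 ≤ ∑ j, cc T i j * v j) (i : Fin n) :
    ∑ j, cc T i j * v j = 0 := by
  have key := key_identity T v
  have hnn : ∀ i ∈ (univ : Finset (Fin n)), 0 ≤ T.m i * T.w i * ∑ j, cc T i j * v j := fun i _ =>
    mul_nonneg (mul_pos (T.m_pos i) (T.w_pos i)).le (h i)
  have := (Finset.sum_eq_zero_iff_of_nonneg hnn).1 key i (mem_univ i)
  rcases mul_eq_zero.1 this with h1 | h1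
  · exact absurd h1 (mul_pos (T.m_pos i) (T.w_pos i)).ne'
  · exact h1

lemma all_zero_of_nonpos (v : Fin n → ℤ) (h : ∀ i, ∑ j, cc T i j * v j ≤ 0) (i : Fin n) :
    ∑ j, cc T i j * v j = 0 := by
  have := all_zero_of_nonneg T (fun i => - v i)
    (fun i => by simp only [mul_neg, Finset.sum_neg_distrib]; linarith [h i]) i
  simp only [mul_neg, Finset.sum_neg_distrib] at this
  linarith

theorem superharmonic (u : Fin n → ℤ) (hu : ∀ i, 0 ≤ u i) (hu0 : ∃ i, 0 < u i)
    (h : ∀ i, 0 < u i → 0 ≤ ∑ j, cc T i j * u j) :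
    (∀ i, 0 < u i) ∧ ∀ i, ∑ j, cc T i j * u j = 0 := by
  have hnn : ∀ i, 0 ≤ ∑ j, cc T i j * u j := by
    intro i
    rcases (hu i).lt_or_eq with h1 | h1
    · exact h i h1
    · refine Finset.sum_nonneg fun j _ => ?_
      by_cases hij : i = j
      · subst hij; rw [← h1, mul_zero]
      · exact mul_nonneg (cc_nonneg T hij) (hu j)
  have hz := all_zero_of_nonneg T u hnn
  refine ⟨?_, hz⟩
  by_contra hcon
  push_neg at hcon
  obtain ⟨i0, hi0⟩ := hcon
  have hi0' : u i0 = 0 := le_antisymm hi0 (hu i0)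
  classical
  let I : Finset (Fin n) := univ.filter (fun i => u i = 0)
  have hmem : ∀ i, i ∈ I ↔ u i = 0 := fun i => by simp [I]
  have hIne : I.Nonempty := ⟨i0, (hmem i0).2 hi0'⟩
  have hIu : I ≠ univ := by
    obtain ⟨i1, hi1⟩ := hu0
    intro hh
    have : i1 ∈ I := hh ▸ mem_univ i1
    have := (hmem i1).1 this
    omega
  obtain ⟨i, hi, j, hj, hij⟩ := T.connected I hIne hIu
  have hui : u i = 0 := (hmem i).1 hi
  have huj : 0 < u j := by
    have : u j ≠ 0 := fun h0 => hj ((hmem j).2 h0)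
    exact lt_of_le_of_ne (hu j) (Ne.symm this)
  have hne : i ≠ j := by rintro rfl; omega
  have hc := cc_pos T hne hij
  have hle : cc T i j * u j ≤ ∑ k, cc T i k * u k := by
    refine Finset.single_le_sum (f := fun k => cc T i k * u k) (fun k _ => ?_) (mem_univ j)
    by_cases hik : i = k
    · subst hik; simp only [hui, mul_zero, le_refl]
    · exact mul_nonneg (cc_nonneg T hik) (hu k)
  have h3 := hz i
  have h4 : 0 < cc T i j * u j := mul_pos (by omega) huj
  linarith

end General

section Push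

variable {n : ℕ} (T : NumericalType n)

/-- Push a vector indexed by the first `k` named vertices forward to `Fin n`. -/
def push (φ : ℕ → Fin n) (k : ℕ) (u : ℕ → ℕ) (x : Fin n) : ℤ :=
  ∑ j ∈ range k, if φ j = x then (u j : ℤ) else 0

variable {φ : ℕ → Fin n} {k : ℕ}

lemma push_apply (hinj : ∀ i j, i < k → j < k → φ i = φ j → i = j) (u : ℕ → ℕ) {i : ℕ}
    (hi : i < k) : push φ k u (φ i) = (u i : ℤ) := by
  unfold push
  rw [Finset.sum_eq_single i]
  · rw [if_pos rfl]
  · intro j hj hji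
    rw [if_neg]
    intro h
    exact hji (hinj j i (mem_range.1 hj) hi h)
  · intro h; exact absurd (mem_range.2 hi) h

lemma push_zero (u : ℕ → ℕ) {x : Fin n} (hx : ∀ j, j < k → x ≠ φ j) : push φ k u x = 0 := by
  unfold push
  refine Finset.sum_eq_zero fun j hj => ?_
  rw [if_neg]
  intro h; exact hx j (mem_range.1 hj) h.symm

lemma push_nonneg (u : ℕ → ℕ) (x : Fin n) : 0 ≤ push φ k u x := by
  unfold push
  refine Finset.sum_nonneg fun j _ => ?_
  split_ifs
  · exact Nat.cast_nonneg _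
  · exact le_refl 0

lemma push_pos (u : ℕ → ℕ) {x : Fin n} (h : 0 < push φ k u x) :
    ∃ i, i < k ∧ φ i = x ∧ 0 < u i := by
  by_contra hcon
  push_neg at hcon
  have : push φ k u x ≤ 0 := by
    unfold push
    refine Finset.sum_nonpos fun j hj => ?_
    split_ifs with hh
    · have := hcon j (mem_range.1 hj) hh
      exact_mod_cast this
    · exact le_refl 0
  omega

lemma sum_push (u : ℕ → ℕ) (x : Fin n) :
    ∑ y, cc T x y * push φ k u y = ∑ j ∈ range k, cc T x (φ j) * (u j : ℤ) := by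
  unfold push
  simp only [Finset.mul_sum]
  rw [Finset.sum_comm]
  refine Finset.sum_congr rfl fun j _ => ?_
  simp only [mul_ite, mul_zero]
  rw [Finset.sum_ite_eq]
  simp

lemma row_split {k i : ℕ} (hik : i < k) (f : ℕ → ℤ) :
    ∑ j ∈ range k, f j = f i + ∑ j ∈ range k, (if j = i then 0 else f j) := by
  have h : ∀ j ∈ range k, f j = (if j = i then f j else 0) + (if j = i then 0 else f j) := by
    intro j _; split_ifs <;> simp
  rw [Finset.sum_congr rfl h, Finset.sum_add_distrib, Finset.sum_ite_eq' (range k) i f,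
    if_pos (mem_range.2 hik)]

lemma row_eval (hd : ∀ i, T.a i i = -2 * T.w i)
    (hinj : ∀ i j, i < k → j < k → φ i = φ j → i = j) (u : ℕ → ℕ) {i : ℕ} (hi : i < k) :
    ∑ y, cc T (φ i) y * push φ k u y =
      -2 * (u i : ℤ) + ∑ j ∈ range k, (if j = i then 0 else cc T (φ i) (φ j) * (u j : ℤ)) := by
  rw [sum_push]
  have := row_split hi (fun j => cc T (φ i) (φ j) * (u j : ℤ))
  rw [this, cc_diag T hd]

lemma k_le_n (hinj : ∀ i j, i < k → j < k → φ i = φ j → i = j) : k ≤ n := by
  have := Finset.card_le_card_of_injOn (s := range k) (t := (univ : Finset (Fin n))) φ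
    (fun _ _ => Finset.mem_coe.2 (mem_univ _))
    (fun a ha b hb h => hinj a b (mem_range.1 (Finset.mem_coe.1 ha))
      (mem_range.1 (Finset.mem_coe.1 hb)) h)
  rwa [Finset.card_range, Finset.card_univ, Fintype.card_fin] at this

lemma n_le_k (hs : ∀ x : Fin n, ∃ i, i < k ∧ φ i = x) : n ≤ k := by
  classical
  have h1 : (univ : Finset (Fin n)) ⊆ (range k).image φ := by
    intro x _
    obtain ⟨i, hi, rfl⟩ := hs x
    exact Finset.mem_image_of_mem φ (mem_range.2 hi)
  have h2 := Finset.card_le_card h1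
  have h3 := Finset.card_image_le (s := range k) (f := φ)
  rw [Finset.card_univ, Fintype.card_fin] at h2
  rw [Finset.card_range] at h3
  omega

end Push

/-! ### Facts, bounds -/

inductive Fact
  | ge (k0 i j l : ℕ)
  | le (k0 i j h : ℕ)
  | closed (k0 i : ℕ)

def Fact.lvl : Fact → ℕ
  | .ge k0 _ _ _ => k0
  | .le k0 _ _ _ => k0
  | .closed k0 _ => k0

def Fact.Sem {n : ℕ} (T : NumericalType n) (φ : ℕ → Fin n) : Fact → Prop
  | .ge k0 i j l => i < k0 → j < k0 → (l : ℤ) ≤ cc T (φ i) (φ j)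
  | .le k0 i j h => i < k0 → j < k0 → cc T (φ i) (φ j) ≤ (h : ℤ)
  | .closed k0 i => i < k0 → ∀ x, (∀ j, j < k0 → x ≠ φ j) → T.a (φ i) x = 0

def loB : List Fact → ℕ → ℕ → ℕ
  | [], _, _ => 0
  | f :: Γ, i, j =>
    match f with
    | .ge k0 i' j' l =>
        if i' = i ∧ j' = j ∧ i < k0 ∧ j < k0 then max l (loB Γ i j) else loB Γ i j
    | _ => loB Γ i j

def hiB : List Fact → ℕ → ℕ → Option ℕ
  | [], _, _ => none
  | f :: Γ, i, j =>
    match f with
    | .le k0 i' j' h => if i' = i ∧ j' = j ∧ i < k0 ∧ j < k0 then some h else hiB Γ i j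
    | .closed k0 i' =>
        if (i' = i ∧ i < k0 ∧ k0 ≤ j) ∨ (i' = j ∧ j < k0 ∧ k0 ≤ i) then some 0 else hiB Γ i j
    | _ => hiB Γ i j

def isClosed : List Fact → ℕ → Bool
  | [], _ => false
  | f :: Γ, i =>
    match f with
    | .closed k0 i' => if i' = i ∧ i < k0 then true else isClosed Γ i
    | _ => isClosed Γ i

structure Holds {n : ℕ} (T : NumericalType n) (φ : ℕ → Fin n) (k : ℕ) (Γ : List Fact) : Prop where
  inj : ∀ i j, i < k → j < k → φ i = φ j → i = j
  facts : ∀ f ∈ Γ, f.lvl ≤ k ∧ f.Sem T φ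

section Sound

variable {n : ℕ} (T : NumericalType n) {φ : ℕ → Fin n} {k : ℕ}

lemma Holds.cons {Γ : List Fact} (H : Holds T φ k Γ) (f : Fact) (hl : f.lvl ≤ k)
    (hs : f.Sem T φ) : Holds T φ k (f :: Γ) :=
  ⟨H.inj, fun g hg => by
    rcases List.mem_cons.1 hg with rfl | hg
    · exact ⟨hl, hs⟩
    · exact H.facts g hg⟩

lemma lo_sound_aux (hinj : ∀ i j, i < k → j < k → φ i = φ j → i = j) {i j : ℕ} (hi : i < k)
    (hj : j < k) (hij : i ≠ j) (Γ : List Fact) (hf : ∀ f ∈ Γ, f.lvl ≤ k ∧ f.Sem T φ) :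
    (loB Γ i j : ℤ) ≤ cc T (φ i) (φ j) := by
  have hne : φ i ≠ φ j := fun h => hij (hinj i j hi hj h)
  induction Γ with
  | nil => simpa [loB] using cc_nonneg T hne
  | cons f Γ ih =>
    have ih' := ih (fun g hg => hf g (List.mem_cons_of_mem _ hg))
    have hf0 := (hf f (by simp)).2
    cases f with
    | ge k0 i' j' l =>
      simp only [loB]
      split_ifs with hc
      · obtain ⟨e1, e2, h1, h2⟩ := hc
        rw [e1, e2] at hf0
        rw [Nat.cast_max]
        exact max_le (hf0 h1 h2) ih'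
      · exact ih'
    | le k0 i' j' h => simpa only [loB] using ih'
    | closed k0 i' => simpa only [loB] using ih'

lemma lo_sound {Γ : List Fact} (H : Holds T φ k Γ) {i j : ℕ} (hi : i < k) (hj : j < k)
    (hij : i ≠ j) : (loB Γ i j : ℤ) ≤ cc T (φ i) (φ j) :=
  lo_sound_aux T H.inj hi hj hij Γ H.facts

lemma hi_sound_aux (hinj : ∀ i j, i < k → j < k → φ i = φ j → i = j) {i j : ℕ} (hi : i < k)
    (hj : j < k) (Γ : List Fact) (hf : ∀ f ∈ Γ, f.lvl ≤ k ∧ f.Sem T φ) (h : ℕ)
    (hh : hiB Γ i j = some h) : cc T (φ i) (φ j) ≤ (h : ℤ) := by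
  induction Γ with
  | nil => simp [hiB] at hh
  | cons f Γ ih =>
    have ih' := ih (fun g hg => hf g (List.mem_cons_of_mem _ hg))
    obtain ⟨hl0, hf0⟩ := hf f (by simp)
    cases f with
    | ge k0 i' j' l => exact ih' (by simpa only [hiB] using hh)
    | le k0 i' j' h' =>
      simp only [hiB] at hh
      split_ifs at hh with hc
      · obtain ⟨e1, e2, h1, h2⟩ := hc
        rw [e1, e2] at hf0
        have e3 : h' = h := by simpa using hh
        rw [← e3]
        exact hf0 h1 h2
      · exact ih' hh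
    | closed k0 i' =>
      simp only [hiB] at hh
      simp only [Fact.lvl] at hl0
      split_ifs at hh with hc
      · have e3 : 0 = h := by simpa using hh
        rw [← e3]
        rcases hc with ⟨e, h1, h2⟩ | ⟨e, h1, h2⟩
        · rw [e] at hf0
          have := hf0 h1 (φ j) (fun j' hj' e' => by
            have := hinj j j' hj (by omega) e'; omega)
          rw [cc_of_a_zero T this]; simp
        · rw [e] at hf0
          have := hf0 h1 (φ i) (fun j' hj' e' => by
            have := hinj i j' hi (by omega) e'; omega)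
          rw [cc_of_a_zero T (by rw [a_symm]; exact this)]; simp
      · exact ih' hh

lemma hi_sound {Γ : List Fact} (H : Holds T φ k Γ) {i j : ℕ} (hi : i < k) (hj : j < k)
    {h : ℕ} (hh : hiB Γ i j = some h) : cc T (φ i) (φ j) ≤ (h : ℤ) :=
  hi_sound_aux T H.inj hi hj Γ H.facts h hh

lemma closed_sound_aux {i : ℕ} (Γ : List Fact) (hf : ∀ f ∈ Γ, f.lvl ≤ k ∧ f.Sem T φ)
    (hc : isClosed Γ i = true) : ∀ x, (∀ j, j < k → x ≠ φ j) → T.a (φ i) x = 0 := by
  induction Γ with
  | nil => simp [isClosed] at hc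
  | cons f Γ ih =>
    have ih' := ih (fun g hg => hf g (List.mem_cons_of_mem _ hg))
    obtain ⟨hl0, hf0⟩ := hf f (by simp)
    cases f with
    | ge k0 i' j' l => exact ih' (by simpa only [isClosed] using hc)
    | le k0 i' j' h' => exact ih' (by simpa only [isClosed] using hc)
    | closed k0 i' =>
      simp only [isClosed] at hc
      simp only [Fact.lvl] at hl0
      split_ifs at hc with hcond
      · obtain ⟨e, h1⟩ := hcond
        rw [e] at hf0
        intro x hx
        exact hf0 h1 x (fun j hj => hx j (by omega))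
      · exact ih' hc

lemma closed_sound {Γ : List Fact} (H : Holds T φ k Γ) {i : ℕ} (hc : isClosed Γ i = true) :
    ∀ x, (∀ j, j < k → x ≠ φ j) → T.a (φ i) x = 0 :=
  closed_sound_aux T Γ H.facts hc

lemma surj_of_closed {Γ : List Fact} (H : Holds T φ k Γ) (hk : 0 < k)
    (hc : ∀ i, i < k → isClosed Γ i = true) : ∀ x : Fin n, ∃ i, i < k ∧ φ i = x := by
  classical
  by_contra hcon
  push_neg at hcon
  obtain ⟨x0, hx0⟩ := hcon
  let I : Finset (Fin n) := (range k).image φ
  have hIne : I.Nonempty := ⟨φ 0, Finset.mem_image_of_mem φ (mem_range.2 hk)⟩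
  have hIu : I ≠ univ := by
    intro h
    have : x0 ∈ I := h ▸ mem_univ x0
    obtain ⟨i, hi, hix⟩ := Finset.mem_image.1 this
    exact hx0 i (mem_range.1 hi) hix
  obtain ⟨x, hx, y, hy, hxy⟩ := T.connected I hIne hIu
  obtain ⟨i, hi, rfl⟩ := Finset.mem_image.1 hx
  apply hxy
  apply closed_sound T H (hc i (mem_range.1 hi)) y
  intro j hj e
  exact hy (by rw [e]; exact Finset.mem_image_of_mem φ (mem_range.2 hj))

end Sound

/-! ### Computable sums and quantifiers -/

def sumTo : ℕ → (ℕ → ℕ) → ℕ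
  | 0, _ => 0
  | k+1, f => sumTo k f + f k

lemma sumTo_cast (k : ℕ) (f : ℕ → ℕ) : ((sumTo k f : ℕ) : ℤ) = ∑ j ∈ range k, (f j : ℤ) := by
  induction k with
  | zero => simp [sumTo]
  | succ k ih => rw [sumTo, Finset.sum_range_succ, Nat.cast_add, ih]

def allTo : ℕ → (ℕ → Bool) → Bool
  | 0, _ => true
  | k+1, p => allTo k p && p k

lemma allTo_iff (k : ℕ) (p : ℕ → Bool) : allTo k p = true ↔ ∀ i, i < k → p i = true := by
  induction k with
  | zero => simp [allTo]
  | succ k ih =>
    rw [allTo, Bool.and_eq_true, ih]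
    constructor
    · rintro ⟨h1, h2⟩ i hi
      rcases Nat.lt_succ_iff_lt_or_eq.1 hi with h | h
      · exact h1 i h
      · rw [h]; exact h2
    · intro h
      exact ⟨fun i hi => h i (Nat.lt_succ_of_lt hi), h k (Nat.lt_succ_self k)⟩

def anyTo : ℕ → (ℕ → Bool) → Bool
  | 0, _ => false
  | k+1, p => anyTo k p || p k

lemma anyTo_iff (k : ℕ) (p : ℕ → Bool) : anyTo k p = true ↔ ∃ i, i < k ∧ p i = true := by
  induction k with
  | zero => simp [anyTo]
  | succ k ih =>
    rw [anyTo, Bool.or_eq_true, ih]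
    constructor
    · rintro (⟨i, hi, h⟩ | h)
      · exact ⟨i, Nat.lt_succ_of_lt hi, h⟩
      · exact ⟨k, Nat.lt_succ_self k, h⟩
    · rintro ⟨i, hi, h⟩
      rcases Nat.lt_succ_iff_lt_or_eq.1 hi with h' | h'
      · exact Or.inl ⟨i, h', h⟩
      · exact Or.inr (h' ▸ h)

def getU (l : List ℕ) (j : ℕ) : ℕ := l.getD j 0

def rowN (k : ℕ) (Γ : List Fact) (u : ℕ → ℕ) (i : ℕ) : ℕ :=
  sumTo k (fun j => if j = i then 0 else loB Γ i j * u j)

def rowH (k : ℕ) (Γ : List Fact) (u : ℕ → ℕ) (i : ℕ) : ℕ :=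
  sumTo k (fun j => if j = i then 0 else (hiB Γ i j).getD 0 * u j)

section Rows

variable {n : ℕ} (T : NumericalType n) {φ : ℕ → Fin n} {k : ℕ}

lemma rowN_le (hd : ∀ i, T.a i i = -2 * T.w i) {Γ : List Fact} (H : Holds T φ k Γ)
    (u : ℕ → ℕ) {i : ℕ} (hi : i < k) :
    ((rowN k Γ u i : ℕ) : ℤ) - 2 * (u i : ℤ) ≤ ∑ y, cc T (φ i) y * push φ k u y := by
  rw [row_eval T hd H.inj u hi, rowN, sumTo_cast]
  have : ∑ j ∈ range k, (((if j = i then 0 else loB Γ i j * u j : ℕ)) : ℤ) ≤
      ∑ j ∈ range k, (if j = i then 0 else cc T (φ i) (φ j) * (u j : ℤ)) := by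
    refine Finset.sum_le_sum fun j hj => ?_
    split_ifs with hji
    · simp
    · push_cast
      exact mul_le_mul_of_nonneg_right (lo_sound T H hi (mem_range.1 hj) (Ne.symm hji))
        (Nat.cast_nonneg _)
  linarith

lemma rowH_ge (hd : ∀ i, T.a i i = -2 * T.w i) {Γ : List Fact} (H : Holds T φ k Γ)
    (u : ℕ → ℕ) {i : ℕ} (hi : i < k)
    (hall : ∀ j, j < k → j ≠ i → (hiB Γ i j).isSome = true) :
    ∑ y, cc T (φ i) y * push φ k u y ≤ ((rowH k Γ u i : ℕ) : ℤ) - 2 * (u i : ℤ) := by
  rw [row_eval T hd H.inj u hi, rowH, sumTo_cast]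
  have : ∑ j ∈ range k, (if j = i then 0 else cc T (φ i) (φ j) * (u j : ℤ)) ≤
      ∑ j ∈ range k, (((if j = i then 0 else (hiB Γ i j).getD 0 * u j : ℕ)) : ℤ) := by
    refine Finset.sum_le_sum fun j hj => ?_
    split_ifs with hji
    · simp
    · push_cast
      obtain ⟨h, hh⟩ := Option.isSome_iff_exists.1 (hall j (mem_range.1 hj) hji)
      rw [hh, Option.getD_some]
      exact mul_le_mul_of_nonneg_right (hi_sound T H hi (mem_range.1 hj) hh)
        (Nat.cast_nonneg _)
  linarith

end Rows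

/-! ### Leaves -/

def superOK (n k : ℕ) (Γ : List Fact) (ul : List ℕ) : Bool :=
  anyTo k (fun i => decide (0 < getU ul i)) &&
  allTo k (fun i => decide (getU ul i = 0 ∨ 2 * getU ul i ≤ rowN k Γ (getU ul) i)) &&
  (decide (k < n) || anyTo k (fun i => decide (getU ul i = 0)) ||
    anyTo k (fun i => decide (0 < getU ul i ∧ 2 * getU ul i < rowN k Γ (getU ul) i)))

def subOK (n k : ℕ) (Γ : List Fact) (vl : List ℕ) : Bool :=
  decide (0 < k) && allTo k (fun i => isClosed Γ i) &&
  (decide (k ≠ n) ||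
    (allTo k (fun i => allTo k (fun j => decide (j = i) || (hiB Γ i j).isSome)) &&
     allTo k (fun i => decide (rowH k Γ (getU vl) i ≤ 2 * getU vl i)) &&
     anyTo k (fun i => decide (rowH k Γ (getU vl) i < 2 * getU vl i))))

def E (forms : List (List (List ℕ))) (idx i j : ℕ) : ℕ :=
  ((forms.getD idx []).getD i []).getD j 0

def Concl {n : ℕ} (T : NumericalType n) (forms : List (List (List ℕ))) : Prop :=
  ∃ (σ : Equiv.Perm (Fin n)) (idx : ℕ), idx < forms.length ∧
    ∀ i j : Fin n, i ≠ j → cc T (σ i) (σ j) = (E forms idx i j : ℤ)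

def doneOK (n : ℕ) (forms : List (List (List ℕ))) (k : ℕ) (Γ : List Fact) (idx : ℕ)
    (pl ul : List ℕ) : Bool :=
  decide (k = n) && decide (idx < forms.length) &&
  allTo k (fun i => decide (0 < getU ul i ∧ 2 * getU ul i = rowN k Γ (getU ul) i)) &&
  allTo n (fun i => decide (getU pl i < n)) &&
  allTo n (fun i => allTo n (fun j => decide (j = i) ||
     (decide (getU pl i ≠ getU pl j) &&
      decide (loB Γ (getU pl i) (getU pl j) = E forms idx i j))))

section Leaves

variable {n : ℕ} (T : NumericalType n) {φ : ℕ → Fin n} {k : ℕ}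

lemma super_sound (hd : ∀ i, T.a i i = -2 * T.w i) {Γ : List Fact} (H : Holds T φ k Γ)
    (ul : List ℕ) (h : superOK n k Γ ul = true) : False := by
  unfold superOK at h
  simp only [Bool.and_eq_true, Bool.or_eq_true, anyTo_iff, allTo_iff, decide_eq_true_eq] at h
  obtain ⟨⟨⟨i0, hi0, hu0⟩, hall⟩, hthird⟩ := h
  have hUi : ∀ i, i < k → push φ k (getU ul) (φ i) = (getU ul i : ℤ) :=
    fun i hi => push_apply H.inj _ hi
  have hsup : ∀ x, 0 < push φ k (getU ul) x → 0 ≤ ∑ y, cc T x y * push φ k (getU ul) y := by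
    intro x hx
    obtain ⟨i, hi, rfl, hui⟩ := push_pos _ hx
    have h1 := rowN_le T hd H (getU ul) hi
    rcases hall i hi with h2 | h2
    · omega
    · have : (2 * getU ul i : ℤ) ≤ (rowN k Γ (getU ul) i : ℤ) := by exact_mod_cast h2
      linarith
  obtain ⟨hpos, hzero⟩ := superharmonic T (push φ k (getU ul)) (push_nonneg _)
    ⟨φ i0, by rw [hUi i0 hi0]; exact_mod_cast hu0⟩ hsup
  rcases hthird with (hkn | ⟨i, hi, hui⟩) | ⟨i, hi, hui, hstrict⟩
  · have : ∃ x : Fin n, ∀ j, j < k → x ≠ φ j := by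
      by_contra hcon
      push_neg at hcon
      have := n_le_k (φ := φ) (k := k) (fun x => by
        obtain ⟨j, hj, e⟩ := hcon x; exact ⟨j, hj, e.symm⟩)
      omega
    obtain ⟨x, hx⟩ := this
    have := hpos x
    rw [push_zero _ hx] at this
    exact lt_irrefl _ this
  · have := hpos (φ i)
    rw [hUi i hi, hui] at this
    simp at this
  · have h1 := rowN_le T hd H (getU ul) hi
    have h2 := hzero (φ i)
    have : (2 * getU ul i : ℤ) < (rowN k Γ (getU ul) i : ℤ) := by exact_mod_cast hstrict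
    linarith

lemma sub_sound (hd : ∀ i, T.a i i = -2 * T.w i) {Γ : List Fact} (H : Holds T φ k Γ)
    (vl : List ℕ) (h : subOK n k Γ vl = true) : False := by
  unfold subOK at h
  simp only [Bool.and_eq_true, Bool.or_eq_true, anyTo_iff, allTo_iff, decide_eq_true_eq] at h
  obtain ⟨⟨hk, hcl⟩, h3⟩ := h
  have hsurj := surj_of_closed T H hk hcl
  have h1 := k_le_n H.inj
  have h2 := n_le_k hsurj
  rcases h3 with h3 | ⟨⟨hsome, hle⟩, i0, hi0, hlt⟩
  · exact h3 (le_antisymm h1 h2)
  · have hsome' : ∀ i, i < k → ∀ j, j < k → j ≠ i → (hiB Γ i j).isSome = true := by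
      intro i hi j hj hji
      rcases hsome i hi j hj with h | h
      · exact absurd h hji
      · exact h
    have hnp : ∀ x, ∑ y, cc T x y * push φ k (getU vl) y ≤ 0 := by
      intro x
      obtain ⟨i, hi, rfl⟩ := hsurj x
      have := rowH_ge T hd H (getU vl) hi (hsome' i hi)
      have h5 : ((rowH k Γ (getU vl) i : ℕ) : ℤ) ≤ 2 * (getU vl i : ℤ) := by
        exact_mod_cast hle i hi
      linarith
    have hz := all_zero_of_nonpos T _ hnp (φ i0)
    have := rowH_ge T hd H (getU vl) hi0 (hsome' i0 hi0)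
    have h5 : ((rowH k Γ (getU vl) i0 : ℕ) : ℤ) < 2 * (getU vl i0 : ℤ) := by
      exact_mod_cast hlt
    linarith

lemma done_sound (hd : ∀ i, T.a i i = -2 * T.w i) {Γ : List Fact} (H : Holds T φ k Γ)
    (forms : List (List (List ℕ))) (idx : ℕ) (pl ul : List ℕ)
    (h : doneOK n forms k Γ idx pl ul = true) : Concl T forms := by
  unfold doneOK at h
  simp only [Bool.and_eq_true, Bool.or_eq_true, allTo_iff, decide_eq_true_eq] at h
  obtain ⟨⟨⟨⟨hkn, hidx⟩, hu⟩, hp⟩, hm⟩ := h
  have n0 : 0 < k := by have := T.pos; omega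
  have hsup : ∀ x, 0 < push φ k (getU ul) x → 0 ≤ ∑ y, cc T x y * push φ k (getU ul) y := by
    intro x hx
    obtain ⟨i, hi, rfl, _⟩ := push_pos _ hx
    have h1 := rowN_le T hd H (getU ul) hi
    have h2 : (2 * getU ul i : ℤ) = (rowN k Γ (getU ul) i : ℤ) := by exact_mod_cast (hu i hi).2
    linarith
  obtain ⟨_, hzero⟩ := superharmonic T (push φ k (getU ul)) (push_nonneg _)
    ⟨φ 0, by rw [push_apply H.inj _ n0]; exact_mod_cast (hu 0 n0).1⟩ hsup
  have hex : ∀ i j, i < k → j < k → i ≠ j → cc T (φ i) (φ j) = (loB Γ i j : ℤ) := by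
    intro i j hi hj hij
    have h0 := hzero (φ i)
    rw [row_eval T hd H.inj (getU ul) hi] at h0
    have h2 : (2 * getU ul i : ℤ) = (rowN k Γ (getU ul) i : ℤ) := by exact_mod_cast (hu i hi).2
    rw [rowN, sumTo_cast] at h2
    have hd0 : ∑ j' ∈ range k, ((if j' = i then 0 else cc T (φ i) (φ j') * (getU ul j' : ℤ)) -
        ((if j' = i then 0 else loB Γ i j' * getU ul j' : ℕ) : ℤ)) = 0 := by
      rw [Finset.sum_sub_distrib]; linarith
    have hnn : ∀ j' ∈ range k,
        0 ≤ ((if j' = i then 0 else cc T (φ i) (φ j') * (getU ul j' : ℤ)) -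
        ((if j' = i then 0 else loB Γ i j' * getU ul j' : ℕ) : ℤ)) := by
      intro j' hj'
      split_ifs with hji
      · simp
      · push_cast
        have := mul_le_mul_of_nonneg_right (lo_sound T H hi (mem_range.1 hj') (Ne.symm hji))
          (Nat.cast_nonneg (getU ul j') : (0:ℤ) ≤ _)
        linarith
    have h3 := (Finset.sum_eq_zero_iff_of_nonneg hnn).1 hd0 j (mem_range.2 hj)
    simp only [if_neg (Ne.symm hij)] at h3
    push_cast at h3
    have hpos : (0 : ℤ) < getU ul j := by exact_mod_cast (hu j hj).1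
    have h4 : (cc T (φ i) (φ j) - (loB Γ i j : ℤ)) * (getU ul j : ℤ) = 0 := by
      rw [sub_mul]; linarith
    rcases mul_eq_zero.1 h4 with h5 | h5
    · linarith
    · omega
  have hpinj : Function.Injective (fun i : Fin n => φ (getU pl i)) := by
    intro i j hij
    by_contra hne
    have hi := hp i i.2
    have hj := hp j j.2
    have h1 := H.inj _ _ (by omega) (by omega) hij
    rcases hm i i.2 j j.2 with h2 | ⟨h2, _⟩
    · exact hne (Fin.ext h2.symm)
    · exact h2 h1
  refine ⟨Equiv.ofBijective _ (Finite.injective_iff_bijective.1 hpinj), idx, hidx, ?_⟩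
  intro i j hij
  have hi := hp i i.2
  have hj := hp j j.2
  rcases hm i i.2 j j.2 with h2 | ⟨h2, h3⟩
  · exact absurd (Fin.ext h2.symm) hij
  · simp only [Equiv.coe_ofBijective]
    rw [hex _ _ (by omega) (by omega) h2, h3]

end Leaves

/-! ### Trees and the checker -/

inductive Tree
  | A (i j : ℕ) (t0 t1 : Tree)
  | S (i j l : ℕ) (t0 t1 : Tree)
  | X (i : ℕ) (tc tn : Tree)
  | U (u : List ℕ)
  | V (v : List ℕ)
  | D (idx : ℕ) (p u : List ℕ)
  | O

def check (n : ℕ) (forms : List (List (List ℕ))) : Tree → ℕ → List Fact → Bool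
  | .A i j t0 t1, k, Γ =>
      check n forms t0 k (.le k i j 0 :: .le k j i 0 :: Γ) &&
      check n forms t1 k (.ge k i j 1 :: .ge k j i 1 :: Γ)
  | .S i j l t0 t1, k, Γ =>
      check n forms t0 k (.le k i j l :: Γ) && check n forms t1 k (.ge k i j (l+1) :: Γ)
  | .X i tc tn, k, Γ =>
      decide (i < k) && check n forms tc k (.closed k i :: Γ) &&
      check n forms tn (k+1) (.ge (k+1) i k 1 :: .ge (k+1) k i 1 :: Γ)
  | .U u, k, Γ => superOK n k Γ u
  | .V v, k, Γ => subOK n k Γ v
  | .D idx p u, k, Γ => doneOK n forms k Γ idx p u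
  | .O, k, _ => decide (n < k)

section Main

variable {n : ℕ} (T : NumericalType n)

lemma adj_taut (hd : ∀ i, T.a i i = -2 * T.w i) (x y : Fin n) :
    (cc T x y ≤ 0 ∧ cc T y x ≤ 0) ∨ (1 ≤ cc T x y ∧ 1 ≤ cc T y x) := by
  by_cases hxy : x = y
  · subst hxy; left; rw [cc_diag T hd]; omega
  · by_cases h0 : T.a x y = 0
    · left
      rw [cc_of_a_zero T h0, cc_of_a_zero T (by rw [a_symm]; exact h0)]
      omega
    · right
      exact ⟨cc_pos T hxy h0, cc_pos T (Ne.symm hxy) (by rw [a_symm]; exact h0)⟩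

lemma sem_ext {φ φ' : ℕ → Fin n} {k : ℕ} (hφ : ∀ j, j < k → φ' j = φ j) {f : Fact}
    (hl : f.lvl ≤ k) (hs : f.Sem T φ) : f.Sem T φ' := by
  cases f with
  | ge k0 i j l =>
    intro h1 h2
    simp only [Fact.lvl] at hl
    rw [hφ i (by omega), hφ j (by omega)]
    exact hs h1 h2
  | le k0 i j h =>
    intro h1 h2
    simp only [Fact.lvl] at hl
    rw [hφ i (by omega), hφ j (by omega)]
    exact hs h1 h2
  | closed k0 i =>
    intro h1 x hx
    simp only [Fact.lvl] at hl
    rw [hφ i (by omega)]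
    exact hs h1 x (fun j hj => by rw [← hφ j (by omega)]; exact hx j hj)

theorem check_sound (hd : ∀ i, T.a i i = -2 * T.w i) (forms : List (List (List ℕ))) :
    ∀ (t : Tree) (k : ℕ) (Γ : List Fact) (φ : ℕ → Fin n), Holds T φ k Γ →
      check n forms t k Γ = true → Concl T forms := by
  intro t
  induction t with
  | A i j t0 t1 ih0 ih1 =>
    intro k Γ φ H h
    simp only [check, Bool.and_eq_true] at h
    rcases adj_taut T hd (φ i) (φ j) with ⟨h1, h2⟩ | ⟨h1, h2⟩
    · refine ih0 k _ φ ?_ h.1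
      refine Holds.cons T (Holds.cons T H (.le k j i 0) (le_refl k) ?_) (.le k i j 0)
        (le_refl k) ?_
      · intro _ _; exact_mod_cast h2
      · intro _ _; exact_mod_cast h1
    · refine ih1 k _ φ ?_ h.2
      refine Holds.cons T (Holds.cons T H (.ge k j i 1) (le_refl k) ?_) (.ge k i j 1)
        (le_refl k) ?_
      · intro _ _; exact_mod_cast h2
      · intro _ _; exact_mod_cast h1
  | S i j l t0 t1 ih0 ih1 =>
    intro k Γ φ H h
    simp only [check, Bool.and_eq_true] at h
    rcases lt_or_ge (l : ℤ) (cc T (φ i) (φ j)) with h1 | h1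
    · refine ih1 k _ φ (Holds.cons T H (.ge k i j (l+1)) (le_refl k) ?_) h.2
      intro _ _
      push_cast
      omega
    · exact ih0 k _ φ (Holds.cons T H (.le k i j l) (le_refl k) (fun _ _ => h1)) h.1
  | X i tc tn ihc ihn =>
    intro k Γ φ H h
    simp only [check, Bool.and_eq_true, decide_eq_true_eq] at h
    obtain ⟨⟨hik, hc⟩, hn⟩ := h
    by_cases hcl : ∀ x, (∀ j, j < k → x ≠ φ j) → T.a (φ i) x = 0
    · exact ihc k _ φ (Holds.cons T H (.closed k i) (le_refl k) (fun _ => hcl)) hc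
    · push_neg at hcl
      obtain ⟨x, hx, hax⟩ := hcl
      have hxi : φ i ≠ x := fun e => hx i hik e.symm
      refine ihn (k+1) _ (Function.update φ k x) ?_ hn
      have hφ : ∀ j, j < k → Function.update φ k x j = φ j := fun j hj =>
        Function.update_of_ne (by omega) _ _
      have hφk : Function.update φ k x k = x := Function.update_self ..
      refine ⟨?_, ?_⟩
      · intro a b ha hb hab
        rcases Nat.lt_succ_iff_lt_or_eq.1 ha with ha' | ha' <;>
          rcases Nat.lt_succ_iff_lt_or_eq.1 hb with hb' | hb'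
        · rw [hφ a ha', hφ b hb'] at hab; exact H.inj a b ha' hb' hab
        · rw [hφ a ha', hb', hφk] at hab; exact absurd hab.symm (hx a ha')
        · rw [ha', hφk, hφ b hb'] at hab; exact absurd hab (hx b hb')
        · rw [ha', hb']
      · intro f hf
        rcases List.mem_cons.1 hf with rfl | hf
        · refine ⟨le_refl _, ?_⟩
          intro _ _
          show ((1:ℕ):ℤ) ≤ cc T (Function.update φ k x i) (Function.update φ k x k)
          rw [hφ i hik, hφk]; exact_mod_cast cc_pos T hxi hax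
        rcases List.mem_cons.1 hf with rfl | hf
        · refine ⟨le_refl _, ?_⟩
          intro _ _
          show ((1:ℕ):ℤ) ≤ cc T (Function.update φ k x k) (Function.update φ k x i)
          rw [hφ i hik, hφk]
          exact_mod_cast cc_pos T (Ne.symm hxi) (by rw [a_symm]; exact hax)
        · obtain ⟨hl, hs⟩ := H.facts f hf
          exact ⟨Nat.le_succ_of_le hl, sem_ext T hφ hl hs⟩
  | U u =>
    intro k Γ φ H h
    rw [check] at h
    exact (super_sound T hd H u h).elim
  | V v =>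
    intro k Γ φ H h
    rw [check] at h
    exact (sub_sound T hd H v h).elim
  | D idx p u =>
    intro k Γ φ H h
    rw [check] at h
    exact done_sound T hd H forms idx p u h
  | O =>
    intro k Γ φ H h
    rw [check, decide_eq_true_eq] at h
    have := k_le_n H.inj
    omega

theorem main (hd : ∀ i, T.a i i = -2 * T.w i) (forms : List (List (List ℕ))) (t : Tree)
    (h : check n forms t 1 [] = true) : Concl T forms :=
  check_sound T hd forms t 1 [] (fun _ => ⟨0, T.pos⟩)
    ⟨fun i j hi hj _ => by omega, fun f hf => by simp at hf⟩ h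

/-! ### Translation helpers -/

lemma rowσ (σ : Equiv.Perm (Fin n)) (i : Fin n) :
    ∑ j, cc T (σ i) (σ j) * T.m (σ j) = 0 := by
  have h := row_cc T (σ i)
  rw [← Equiv.sum_comp σ] at h
  exact h

end Main

end Groth.Agent.Lib.G1
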