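import Mathlib
import Groth.Prelude.Def_Models
import Groth.Agent.Lib.G1Chk_lead

/-! Genus-one classification for general `n` (helper1): certificate machinery on top of
lead's `G1Chk` (superharmonic vectors), paths in the dual graph, longest paths. -/

set_option autoImplicit false
set_option maxHeartbeats 1000000

namespace Groth.Agent.Lib.G1GenH1

open Finset Models Groth.Agent.Lib.G1

variable {n : ℕ} (T : NumericalType n)

/-- injective on the first `k` indices -/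
def InjOn (φ : ℕ → Fin n) (k : ℕ) : Prop := ∀ i j, i < k → j < k → φ i = φ j → i = j

/-- off-diagonal row sum -/
def rsum (φ : ℕ → Fin n) (k : ℕ) (u : ℕ → ℕ) (i : ℕ) : ℤ :=
  ∑ j ∈ range k, (if j = i then 0 else cc T (φ i) (φ j) * (u j : ℤ))

variable {φ : ℕ → Fin n} {k : ℕ}

lemma rsum_term_nonneg (hinj : InjOn φ k) (u : ℕ → ℕ) {i j : ℕ} (hi : i < k) (hj : j < k) :
    0 ≤ (if j = i then 0 else cc T (φ i) (φ j) * (u j : ℤ)) := by
  split_ifs with h
  · exact le_refl 0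
  · have hne : φ i ≠ φ j := fun e => h (hinj i j hi hj e).symm
    exact mul_nonneg (cc_nonneg T hne) (Nat.cast_nonneg _)

lemma term_nonneg (hinj : InjOn φ k) (u : ℕ → ℕ) {i j : ℕ} (hi : i < k) (hj : j < k) (hij : j ≠ i) :
    0 ≤ cc T (φ i) (φ j) * (u j : ℤ) := by
  have hne : φ i ≠ φ j := fun e => hij (hinj i j hi hj e).symm
  exact mul_nonneg (cc_nonneg T hne) (Nat.cast_nonneg _)

lemma rsum_ge_finset (hinj : InjOn φ k) (u : ℕ → ℕ) {i : ℕ} (hi : i < k) (s : Finset ℕ)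
    (hs : ∀ j ∈ s, j < k ∧ j ≠ i) :
    ∑ j ∈ s, cc T (φ i) (φ j) * (u j : ℤ) ≤ rsum T φ k u i := by
  unfold rsum
  have h1 : ∑ j ∈ s, cc T (φ i) (φ j) * (u j : ℤ) =
      ∑ j ∈ s, (if j = i then 0 else cc T (φ i) (φ j) * (u j : ℤ)) :=
    Finset.sum_congr rfl (fun j hj => by rw [if_neg (hs j hj).2])
  rw [h1]
  exact Finset.sum_le_sum_of_subset_of_nonneg (fun j hj => mem_range.2 (hs j hj).1)
    (fun j hj _ => rsum_term_nonneg T hinj u hi (mem_range.1 hj))

lemma rsum_ge1 (hinj : InjOn φ k) (u : ℕ → ℕ) {i j1 : ℕ} (hi : i < k) (h1 : j1 < k) (n1 : j1 ≠ i) :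
    cc T (φ i) (φ j1) * (u j1 : ℤ) ≤ rsum T φ k u i := by
  have := rsum_ge_finset T hinj u hi {j1} (by
    intro j hj; rw [Finset.mem_singleton] at hj; subst hj; exact ⟨h1, n1⟩)
  rwa [Finset.sum_singleton] at this

lemma rsum_ge2 (hinj : InjOn φ k) (u : ℕ → ℕ) {i j1 j2 : ℕ} (hi : i < k) (h1 : j1 < k) (n1 : j1 ≠ i)
    (h2 : j2 < k) (n2 : j2 ≠ i) (h12 : j1 ≠ j2) :
    cc T (φ i) (φ j1) * (u j1 : ℤ) + cc T (φ i) (φ j2) * (u j2 : ℤ) ≤ rsum T φ k u i := by
  have := rsum_ge_finset T hinj u hi {j1, j2} (by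
    intro j hj
    rw [Finset.mem_insert, Finset.mem_singleton] at hj
    rcases hj with rfl | rfl
    · exact ⟨h1, n1⟩
    · exact ⟨h2, n2⟩)
  rwa [Finset.sum_pair h12] at this

lemma rsum_ge3 (hinj : InjOn φ k) (u : ℕ → ℕ) {i j1 j2 j3 : ℕ} (hi : i < k) (h1 : j1 < k) (n1 : j1 ≠ i)
    (h2 : j2 < k) (n2 : j2 ≠ i) (h3 : j3 < k) (n3 : j3 ≠ i) (h12 : j1 ≠ j2) (h13 : j1 ≠ j3)
    (h23 : j2 ≠ j3) :
    cc T (φ i) (φ j1) * (u j1 : ℤ) + cc T (φ i) (φ j2) * (u j2 : ℤ) + cc T (φ i) (φ j3) * (u j3 : ℤ)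
      ≤ rsum T φ k u i := by
  have := rsum_ge_finset T hinj u hi {j1, j2, j3} (by
    intro j hj
    rw [Finset.mem_insert, Finset.mem_insert, Finset.mem_singleton] at hj
    rcases hj with rfl | rfl | rfl
    · exact ⟨h1, n1⟩
    · exact ⟨h2, n2⟩
    · exact ⟨h3, n3⟩)
  rw [Finset.sum_insert (by
    rw [Finset.mem_insert, Finset.mem_singleton]; push Not; exact ⟨h12, h13⟩),
    Finset.sum_pair h23] at this
  linarith

lemma rsum_eq_finset (hinj : InjOn φ k) (u : ℕ → ℕ) {i : ℕ} (hi : i < k) (s : Finset ℕ)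
    (hs : ∀ j ∈ s, j < k ∧ j ≠ i)
    (hz : ∀ j, j < k → j ≠ i → j ∉ s → cc T (φ i) (φ j) * (u j : ℤ) = 0) :
    rsum T φ k u i = ∑ j ∈ s, cc T (φ i) (φ j) * (u j : ℤ) := by
  unfold rsum
  have h1 : ∑ j ∈ s, cc T (φ i) (φ j) * (u j : ℤ) =
      ∑ j ∈ s, (if j = i then 0 else cc T (φ i) (φ j) * (u j : ℤ)) :=
    Finset.sum_congr rfl (fun j hj => by rw [if_neg (hs j hj).2])
  rw [h1]
  symm
  refine Finset.sum_subset (fun j hj => mem_range.2 (hs j hj).1) ?_
  intro j hj hjs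
  split_ifs with h
  · rfl
  · exact hz j (mem_range.1 hj) h hjs

variable {T}

/-- proportionality: a vector with all rows zero is proportional to `m` -/
theorem prop_of_rows_zero (T : NumericalType n) (x : Fin n → ℤ) (hx : ∀ i, ∑ j, cc T i j * x j = 0) :
    ∀ i j, x i * T.m j = x j * T.m i := by
  obtain ⟨i0, -, hmin⟩ := Finset.exists_min_image (univ : Finset (Fin n))
    (fun i => (x i : ℚ) / (T.m i : ℚ)) ⟨⟨0, T.pos⟩, mem_univ _⟩
  have hle : ∀ j, x i0 * T.m j ≤ x j * T.m i0 := by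
    intro j
    have h := hmin j (mem_univ j)
    have hm0 : (0:ℚ) < T.m i0 := by exact_mod_cast T.m_pos i0
    have hmj : (0:ℚ) < T.m j := by exact_mod_cast T.m_pos j
    rw [div_le_div_iff₀ hm0 hmj] at h
    exact_mod_cast h
  set y : Fin n → ℤ := fun j => x j * T.m i0 - x i0 * T.m j with hy
  have hy0 : ∀ j, 0 ≤ y j := fun j => by simp only [hy]; linarith [hle j]
  have hrows : ∀ i, ∑ j, cc T i j * y j = 0 := by
    intro i
    have h1 : ∑ j, cc T i j * y j = T.m i0 * ∑ j, cc T i j * x j - x i0 * ∑ j, cc T i j * T.m j := by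
      rw [Finset.mul_sum, Finset.mul_sum, ← Finset.sum_sub_distrib]
      refine Finset.sum_congr rfl fun j _ => ?_
      simp only [hy]; ring
    rw [h1, hx i, row_cc T i]; ring
  have hyz : ∀ j, y j = 0 := by
    by_contra hcon
    push Not at hcon
    obtain ⟨j, hj⟩ := hcon
    have hjpos : 0 < y j := lt_of_le_of_ne (hy0 j) (Ne.symm hj)
    obtain ⟨hpos, -⟩ := superharmonic T y hy0 ⟨j, hjpos⟩ (fun i _ => by rw [hrows i])
    have := hpos i0
    simp only [hy] at this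
    linarith
  intro i j
  have hi : x i * T.m i0 = x i0 * T.m i := by have := hyz i; simp only [hy] at this; linarith
  have hj : x j * T.m i0 = x i0 * T.m j := by have := hyz j; simp only [hy] at this; linarith
  have h0 : (x i * T.m j - x j * T.m i) * T.m i0 = 0 := by
    linear_combination (T.m j) * hi - (T.m i) * hj
  rcases mul_eq_zero.1 h0 with h | h
  · linarith
  · exact absurd h (T.m_pos i0).ne'

/-- superharmonic certificate, index form -/
theorem cert_super (hd : ∀ i, T.a i i = -2 * T.w i) (hinj : InjOn φ k)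
    (u : ℕ → ℕ) (h0 : ∃ i, i < k ∧ 0 < u i)
    (hrow : ∀ i, i < k → 0 < u i → 2 * (u i : ℤ) ≤ rsum T φ k u i) :
    (∀ x : Fin n, ∃ i, i < k ∧ φ i = x ∧ 0 < u i) ∧
    (∀ i, i < k → rsum T φ k u i = 2 * (u i : ℤ)) ∧
    (∀ i j, i < k → j < k → (u i : ℤ) * T.m (φ j) = (u j : ℤ) * T.m (φ i)) := by
  have hsup : ∀ x, 0 < push φ k u x → 0 ≤ ∑ y, cc T x y * push φ k u y := by
    intro x hx
    obtain ⟨i, hi, rfl, hui⟩ := push_pos u hx
    rw [row_eval T hd hinj u hi]
    have := hrow i hi hui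
    unfold rsum at this
    linarith
  obtain ⟨i0, hi0, hu0⟩ := h0
  obtain ⟨hpos, hzero⟩ := superharmonic T (push φ k u) (push_nonneg u)
    ⟨φ i0, by rw [push_apply hinj u hi0]; exact_mod_cast hu0⟩ hsup
  refine ⟨fun x => ?_, fun i hi => ?_, fun i j hi hj => ?_⟩
  · obtain ⟨i, hi, hix, hui⟩ := push_pos u (hpos x)
    exact ⟨i, hi, hix, hui⟩
  · have := hzero (φ i)
    rw [row_eval T hd hinj u hi] at this
    unfold rsum
    linarith
  · have := prop_of_rows_zero T (push φ k u) hzero (φ i) (φ j)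
    rwa [push_apply hinj u hi, push_apply hinj u hj] at this

/-- a superharmonic certificate whose support misses a vertex is contradictory -/
theorem cert_super_false (hd : ∀ i, T.a i i = -2 * T.w i) (hinj : InjOn φ k)
    (u : ℕ → ℕ) (h0 : ∃ i, i < k ∧ 0 < u i)
    (hrow : ∀ i, i < k → 0 < u i → 2 * (u i : ℤ) ≤ rsum T φ k u i)
    (hkn : k < n) : False := by
  obtain ⟨hsurj, -, -⟩ := cert_super hd hinj u h0 hrow
  have := n_le_k (φ := φ) (k := k) (fun x => by
    obtain ⟨i, hi, hix, -⟩ := hsurj x; exact ⟨i, hi, hix⟩)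
  omega

/-- subharmonic certificate, index form -/
theorem cert_sub (hd : ∀ i, T.a i i = -2 * T.w i) (hinj : InjOn φ k)
    (hsurj : ∀ x : Fin n, ∃ i, i < k ∧ φ i = x) (u : ℕ → ℕ)
    (hrow : ∀ i, i < k → rsum T φ k u i ≤ 2 * (u i : ℤ))
    (hstrict : ∃ i, i < k ∧ rsum T φ k u i < 2 * (u i : ℤ)) : False := by
  have hnp : ∀ x, ∑ y, cc T x y * push φ k u y ≤ 0 := by
    intro x
    obtain ⟨i, hi, rfl⟩ := hsurj x
    rw [row_eval T hd hinj u hi]
    have := hrow i hi
    unfold rsum at this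
    linarith
  obtain ⟨i0, hi0, hlt⟩ := hstrict
  have hz := all_zero_of_nonpos T _ hnp (φ i0)
  rw [row_eval T hd hinj u hi0] at hz
  unfold rsum at hlt
  linarith

/-- terminal certificate: exact determination of the Cartan matrix -/
theorem terminal_core (hd : ∀ i, T.a i i = -2 * T.w i) {K : ℕ} (hinj : InjOn φ K) (hK : 0 < K)
    (u : ℕ → ℕ) (hu : ∀ i, i < K → 0 < u i)
    (N : ℕ → Finset ℕ) (E : ℕ → ℕ → ℤ)
    (hN : ∀ i, i < K → ∀ j ∈ N i, j < K ∧ j ≠ i)
    (hE : ∀ i j, i < K → j < K → j ≠ i → E i j ≤ cc T (φ i) (φ j))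
    (hEN : ∀ i j, i < K → j < K → j ≠ i → j ∉ N i → E i j = 0)
    (hsum : ∀ i, i < K → 2 * (u i : ℤ) ≤ ∑ j ∈ N i, E i j * (u j : ℤ)) :
    n = K ∧ (∀ x : Fin n, ∃ i, i < K ∧ φ i = x) ∧
    (∀ i j, i < K → j < K → j ≠ i → cc T (φ i) (φ j) = E i j) ∧
    (∀ i j, i < K → j < K → (u i : ℤ) * T.m (φ j) = (u j : ℤ) * T.m (φ i)) := by
  have hlb : ∀ i, i < K → ∑ j ∈ N i, E i j * (u j : ℤ) ≤ ∑ j ∈ N i, cc T (φ i) (φ j) * (u j : ℤ) := by
    intro i hi
    refine Finset.sum_le_sum fun j hj => ?_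
    exact mul_le_mul_of_nonneg_right (hE i j hi (hN i hi j hj).1 (hN i hi j hj).2) (Nat.cast_nonneg _)
  obtain ⟨hsurj, hrows, hprop⟩ := cert_super hd hinj u ⟨0, hK, hu 0 hK⟩ (fun i hi _ => by
    have h1 := rsum_ge_finset T hinj u hi (N i) (hN i hi)
    linarith [hlb i hi, hsum i hi])
  have hsurj' : ∀ x : Fin n, ∃ i, i < K ∧ φ i = x := fun x => by
    obtain ⟨i, hi, hix, -⟩ := hsurj x; exact ⟨i, hi, hix⟩
  refine ⟨le_antisymm (n_le_k hsurj') (k_le_n hinj), hsurj', ?_, hprop⟩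
  intro i j hi hj hji
  by_cases hjN : j ∈ N i
  · have h1 := rsum_ge_finset T hinj u hi (N i) (hN i hi)
    have hz : ∑ j' ∈ N i, (cc T (φ i) (φ j') * (u j' : ℤ) - E i j' * (u j' : ℤ)) = 0 := by
      rw [Finset.sum_sub_distrib]
      linarith [hlb i hi, hsum i hi, hrows i hi]
    have hnn : ∀ j' ∈ N i, 0 ≤ cc T (φ i) (φ j') * (u j' : ℤ) - E i j' * (u j' : ℤ) := by
      intro j' hj'
      have := mul_le_mul_of_nonneg_right (hE i j' hi (hN i hi j' hj').1 (hN i hi j' hj').2)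
        (Nat.cast_nonneg (u j') : (0:ℤ) ≤ _)
      linarith
    have h3 := (Finset.sum_eq_zero_iff_of_nonneg hnn).1 hz j hjN
    have hpos : (0:ℤ) < u j := by exact_mod_cast hu j hj
    have h4 : (cc T (φ i) (φ j) - E i j) * (u j : ℤ) = 0 := by rw [sub_mul]; linarith
    rcases mul_eq_zero.1 h4 with h5 | h5
    · linarith
    · omega
  · rw [hEN i j hi hj hji hjN]
    have h1 := rsum_ge_finset T hinj u hi (insert j (N i)) (by
      intro j' hj'
      rw [Finset.mem_insert] at hj'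
      rcases hj' with rfl | hj'
      · exact ⟨hj, hji⟩
      · exact hN i hi j' hj')
    rw [Finset.sum_insert hjN] at h1
    have hpos : (0:ℤ) < u j := by exact_mod_cast hu j hj
    have hnn := term_nonneg T hinj u hi hj hji
    have h2 : cc T (φ i) (φ j) * (u j : ℤ) ≤ 0 := by
      linarith [hlb i hi, hsum i hi, hrows i hi]
    have h3 : cc T (φ i) (φ j) * (u j : ℤ) = 0 := le_antisymm h2 hnn
    rcases mul_eq_zero.1 h3 with h5 | h5
    · exact h5
    · omega

lemma w_rel (T : NumericalType n) (x y : Fin n) : T.w x * cc T x y = T.w y * cc T y x := by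
  rw [← a_eq T x y, ← a_eq T y x, a_symm]

lemma chain_const (f : ℕ → ℤ) (a b : ℕ) (h : ∀ r, a ≤ r → r < b → f (r + 1) = f r) :
    ∀ r, a ≤ r → r ≤ b → f r = f a := by
  intro r har
  induction r, har using Nat.le_induction with
  | base => intro _; rfl
  | succ r har ih =>
    intro hrb
    rw [h r har (by omega), ih (by omega)]

/-! ### Paths -/

variable (T)

structure IsPath (p : ℕ → Fin n) (k : ℕ) : Prop where
  inj : InjOn p k
  adj : ∀ i, i + 1 < k → T.a (p i) (p (i + 1)) ≠ 0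

variable {T}
variable {p : ℕ → Fin n}

lemma IsPath.ne (h : IsPath T p k) {i j : ℕ} (hi : i < k) (hj : j < k) (hij : i ≠ j) : p i ≠ p j :=
  fun e => hij (h.inj i j hi hj e)

lemma IsPath.cc_fwd (h : IsPath T p k) {i : ℕ} (hi : i + 1 < k) : 1 ≤ cc T (p i) (p (i + 1)) :=
  cc_pos T (h.ne (by omega) hi (by omega)) (h.adj i hi)

lemma IsPath.cc_bwd (h : IsPath T p k) {i : ℕ} (hi : i + 1 < k) : 1 ≤ cc T (p (i + 1)) (p i) :=
  cc_pos T (h.ne hi (by omega) (by omega)) (by rw [a_symm]; exact h.adj i hi)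

lemma IsPath.mono (h : IsPath T p k) {k' : ℕ} (hk : k' ≤ k) : IsPath T p k' :=
  ⟨fun i j hi hj e => h.inj i j (by omega) (by omega) e, fun i hi => h.adj i (by omega)⟩

def rev (p : ℕ → Fin n) (k : ℕ) : ℕ → Fin n := fun r => p (k - 1 - r)

lemma IsPath.rev (h : IsPath T p k) : IsPath T (rev p k) k := by
  refine ⟨fun i j hi hj e => ?_, fun i hi => ?_⟩
  · have := h.inj (k - 1 - i) (k - 1 - j) (by omega) (by omega) e
    omega
  · have e1 : k - 1 - i = (k - 2 - i) + 1 := by omega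
    have e2 : k - 1 - (i + 1) = k - 2 - i := by omega
    show T.a (p (k - 1 - i)) (p (k - 1 - (i + 1))) ≠ 0
    rw [e1, e2, a_symm]
    exact h.adj _ (by omega)

def shift (p : ℕ → Fin n) (t : ℕ) : ℕ → Fin n := fun r => p (r + t)

lemma IsPath.shift (h : IsPath T p k) (t : ℕ) : IsPath T (shift p t) (k - t) := by
  refine ⟨fun i j hi hj e => ?_, fun i hi => ?_⟩
  · have := h.inj (i + t) (j + t) (by omega) (by omega) e
    omega
  · have e1 : i + 1 + t = (i + t) + 1 := by omega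
    show T.a (p (i + t)) (p (i + 1 + t)) ≠ 0
    rw [e1]
    exact h.adj _ (by omega)

def snoc (p : ℕ → Fin n) (k : ℕ) (x : Fin n) : ℕ → Fin n := fun r => if r = k then x else p r

lemma snoc_lt (p : ℕ → Fin n) (x : Fin n) {r : ℕ} (h : r < k) : snoc p k x r = p r := by
  unfold snoc; rw [if_neg (by omega)]

lemma snoc_self (p : ℕ → Fin n) (x : Fin n) : snoc p k x k = x := by
  unfold snoc; rw [if_pos rfl]

lemma injOn_snoc (h : InjOn p k) {x : Fin n} (hx : ∀ r, r < k → p r ≠ x) : InjOn (snoc p k x) (k + 1) := by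
  intro i j hi hj e
  rcases Nat.lt_succ_iff_lt_or_eq.1 hi with hi' | hi' <;>
    rcases Nat.lt_succ_iff_lt_or_eq.1 hj with hj' | hj'
  · rw [snoc_lt p x hi', snoc_lt p x hj'] at e; exact h i j hi' hj' e
  · rw [snoc_lt p x hi', hj', snoc_self] at e; exact absurd e (hx i hi')
  · rw [hi', snoc_self, snoc_lt p x hj'] at e; exact absurd e.symm (hx j hj')
  · rw [hi', hj']

lemma IsPath.snoc (h : IsPath T p k) (hk : 0 < k) {x : Fin n} (hx : ∀ r, r < k → p r ≠ x)
    (ha : T.a (p (k - 1)) x ≠ 0) : IsPath T (snoc p k x) (k + 1) := by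
  refine ⟨injOn_snoc h.inj hx, fun i hi => ?_⟩
  rcases Nat.lt_or_ge (i + 1) k with h1 | h1
  · rw [snoc_lt p x (by omega : i < k), snoc_lt p x h1]; exact h.adj i h1
  · have e : i + 1 = k := by omega
    rw [snoc_lt p x (by omega : i < k), e, snoc_self]
    have : i = k - 1 := by omega
    rw [this]; exact ha

def cons (x : Fin n) (p : ℕ → Fin n) : ℕ → Fin n := fun r => if r = 0 then x else p (r - 1)

lemma cons_zero (x : Fin n) (p : ℕ → Fin n) : cons x p 0 = x := by unfold cons; rw [if_pos rfl]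

lemma cons_succ (x : Fin n) (p : ℕ → Fin n) (r : ℕ) : cons x p (r + 1) = p r := by
  unfold cons; rw [if_neg (by omega)]; rfl

lemma IsPath.cons (h : IsPath T p k) (hk : 0 < k) {x : Fin n} (hx : ∀ r, r < k → p r ≠ x)
    (ha : T.a x (p 0) ≠ 0) : IsPath T (cons x p) (k + 1) := by
  refine ⟨fun i j hi hj e => ?_, fun i hi => ?_⟩
  · rcases Nat.eq_zero_or_pos i with hi0 | hi0 <;> rcases Nat.eq_zero_or_pos j with hj0 | hj0
    · omega
    · obtain ⟨j', rfl⟩ : ∃ j', j = j' + 1 := ⟨j - 1, by omega⟩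
      rw [hi0, cons_zero, cons_succ] at e
      exact absurd e.symm (hx j' (by omega))
    · obtain ⟨i', rfl⟩ : ∃ i', i = i' + 1 := ⟨i - 1, by omega⟩
      rw [hj0, cons_zero, cons_succ] at e
      exact absurd e (hx i' (by omega))
    · obtain ⟨i', rfl⟩ : ∃ i', i = i' + 1 := ⟨i - 1, by omega⟩
      obtain ⟨j', rfl⟩ : ∃ j', j = j' + 1 := ⟨j - 1, by omega⟩
      rw [cons_succ, cons_succ] at e
      have := h.inj i' j' (by omega) (by omega) e
      omega
  · rcases Nat.eq_zero_or_pos i with hi0 | hi0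
    · rw [hi0, cons_zero, cons_succ]; exact ha
    · obtain ⟨i', rfl⟩ : ∃ i', i = i' + 1 := ⟨i - 1, by omega⟩
      rw [cons_succ, cons_succ]
      exact h.adj i' (by omega)

/-! ### Cycles -/

variable (T)

def NoCyc : Prop := ∀ (q : ℕ → Fin n) (l : ℕ), IsPath T q l → 3 ≤ l → T.a (q (l - 1)) (q 0) = 0

variable {T}

lemma no_chord (hnc : NoCyc T) (h : IsPath T p k) {s t : ℕ} (hst : s + 2 ≤ t) (ht : t < k) :
    T.a (p s) (p t) = 0 := by
  have h1 := hnc (shift p s) (t - s + 1) ((h.shift s).mono (by omega)) (by omega)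
  simp only [shift] at h1
  rw [show t - s + 1 - 1 + s = t by omega, Nat.zero_add] at h1
  rw [a_symm]; exact h1

lemma no_chord' (hnc : NoCyc T) (h : IsPath T p k) {s t : ℕ} (hs : s < k) (ht : t < k)
    (hst : s + 2 ≤ t ∨ t + 2 ≤ s) : T.a (p s) (p t) = 0 := by
  rcases hst with h1 | h1
  · exact no_chord hnc h h1 ht
  · rw [a_symm]; exact no_chord hnc h h1 hs

lemma off_unique (hnc : NoCyc T) (h : IsPath T p k) {x : Fin n} (hx : ∀ r, r < k → p r ≠ x)
    {s t : ℕ} (hst : s < t) (ht : t < k) (hs : T.a (p s) x ≠ 0) (htx : T.a (p t) x ≠ 0) : False := by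
  have hq : IsPath T (shift p s) (t - s + 1) := (h.shift s).mono (by omega)
  have hq2 := hq.snoc (by omega) (x := x) (fun r hr => by simp only [shift]; exact hx _ (by omega))
    (by simp only [shift]; rw [show t - s + 1 - 1 + s = t by omega]; exact htx)
  have h1 := hnc _ _ hq2 (by omega)
  rw [show t - s + 1 + 1 - 1 = t - s + 1 by omega, snoc_self, snoc_lt _ _ (by omega : 0 < t - s + 1)] at h1
  simp only [shift, Nat.zero_add] at h1
  apply hs; rw [a_symm]; exact h1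

/-! ### Longest paths -/

lemma exists_path3 (T : NumericalType n) (hn : 3 ≤ n) : ∃ p, IsPath T p 3 := by
  classical
  have key : ∀ a b c : Fin n, a ≠ b → a ≠ c → b ≠ c → T.a a b ≠ 0 → T.a b c ≠ 0 →
      ∃ p, IsPath T p 3 := by
    intro a b c hab hac hbc h1 h2
    refine ⟨fun r => if r = 0 then a else if r = 1 then b else c, ?_, ?_⟩
    · intro i j hi hj e
      interval_cases i <;> interval_cases j <;> simp_all
    · intro i hi
      have hi2 : i < 2 := by omega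
      interval_cases i
      · simpa using h1
      · simpa using h2
  let x0 : Fin n := ⟨0, by omega⟩
  have hI1 : ({x0} : Finset (Fin n)) ≠ univ := by
    intro h
    have := congrArg Finset.card h
    rw [Finset.card_singleton, Finset.card_univ, Fintype.card_fin] at this
    omega
  obtain ⟨i, hi, x1, hx1, h01⟩ := T.connected {x0} ⟨x0, Finset.mem_singleton_self _⟩ hI1
  rw [Finset.mem_singleton] at hi hx1
  subst hi
  have hI2 : ({x0, x1} : Finset (Fin n)) ≠ univ := by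
    intro h
    have := congrArg Finset.card h
    rw [Finset.card_univ, Fintype.card_fin] at this
    have h2 := Finset.card_le_two (a := x0) (b := x1)
    omega
  obtain ⟨i, hi, x2, hx2, h12⟩ := T.connected {x0, x1} ⟨x0, by simp⟩ hI2
  rw [Finset.mem_insert, Finset.mem_singleton] at hi hx2
  push Not at hx2
  rcases hi with hi | hi
  · rw [hi] at h12
    exact key x1 x0 x2 hx1 (Ne.symm hx2.2) (Ne.symm hx2.1) (by rw [a_symm]; exact h01) h12
  · rw [hi] at h12
    exact key x0 x1 x2 (Ne.symm hx1) (Ne.symm hx2.1) (Ne.symm hx2.2) h01 h12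

lemma exists_longest (T : NumericalType n) (hn : 3 ≤ n) :
    ∃ k p, IsPath T p k ∧ 3 ≤ k ∧ ∀ k' p', IsPath T p' k' → k' ≤ k := by
  classical
  obtain ⟨p3, hp3⟩ := exists_path3 T hn
  have hb : ∀ k' p', IsPath T p' k' → k' ≤ n := fun k' p' h => k_le_n h.inj
  have hspec := Nat.findGreatest_spec (P := fun k => ∃ p, IsPath T p k) (hb 3 p3 hp3) ⟨p3, hp3⟩
  obtain ⟨p, hp⟩ := hspec
  refine ⟨_, p, hp, Nat.le_findGreatest (hb 3 p3 hp3) ⟨p3, hp3⟩, fun k' p' h => ?_⟩
  exact Nat.le_findGreatest (hb k' p' h) ⟨p', h⟩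

end Groth.Agent.Lib.G1GenH1
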