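import Mathlib
import Groth.Prelude.Def_Models
import Groth.Agent.Lib.G1Gen1_helper1

/-! Genus-one classification for general `n` (helper1): the goal, and terminal lemmas for
the cycle and the three pure-chain families. -/

set_option autoImplicit false
set_option maxHeartbeats 1000000

namespace Groth.Agent.Lib.G1GenH1

open Finset Models Groth.Agent.Lib.G1

variable {n : ℕ}

def Fam1 (T : NumericalType n) (σ : Equiv.Perm (Fin n)) (m w : ℤ) : Prop :=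
  ((∀ i : Fin n, T.m (σ i) = m) ∧
        (∀ i : Fin n, T.w (σ i) = w) ∧
        (∀ i j : Fin n, i.val < j.val → j.val = i.val + 1 → T.a (σ i) (σ j) = w) ∧
        (∀ i j : Fin n, i.val < j.val → i.val = 0 ∧ j.val + 1 = n → T.a (σ i) (σ j) = w) ∧
        (∀ i j : Fin n, i.val < j.val → ¬ (j.val = i.val + 1) → ¬ (i.val = 0 ∧ j.val + 1 = n) → T.a (σ i) (σ j) = 0))

def Fam2 (T : NumericalType n) (σ : Equiv.Perm (Fin n)) (m w : ℤ) : Prop :=
  ((∀ i : Fin n, i.val + 1 < n → T.m (σ i) = 2 * m) ∧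
        (∀ i : Fin n, i.val + 1 = n → T.m (σ i) = m) ∧
        (∀ i : Fin n, i.val = 0 → T.w (σ i) = w) ∧
        (∀ i : Fin n, 0 < i.val ∧ i.val + 1 < n → T.w (σ i) = 2 * w) ∧
        (∀ i : Fin n, i.val + 1 = n → T.w (σ i) = 4 * w) ∧
        (∀ i j : Fin n, i.val < j.val → j.val = i.val + 1 ∧ j.val + 1 < n → T.a (σ i) (σ j) = 2 * w) ∧
        (∀ i j : Fin n, i.val < j.val → j.val = i.val + 1 ∧ j.val + 1 = n → T.a (σ i) (σ j) = 4 * w) ∧
        (∀ i j : Fin n, i.val < j.val → ¬ (j.val = i.val + 1 ∧ j.val + 1 < n) → ¬ (j.val = i.val + 1 ∧ j.val + 1 = n) → T.a (σ i) (σ j) = 0))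

def Fam3 (T : NumericalType n) (σ : Equiv.Perm (Fin n)) (m w : ℤ) : Prop :=
  ((∀ i : Fin n, T.m (σ i) = m) ∧
        (∀ i : Fin n, i.val = 0 → T.w (σ i) = w) ∧
        (∀ i : Fin n, 0 < i.val ∧ i.val + 1 < n → T.w (σ i) = 2 * w) ∧
        (∀ i : Fin n, i.val + 1 = n → T.w (σ i) = w) ∧
        (∀ i j : Fin n, i.val < j.val → j.val = i.val + 1 → T.a (σ i) (σ j) = 2 * w) ∧
        (∀ i j : Fin n, i.val < j.val → ¬ (j.val = i.val + 1) → T.a (σ i) (σ j) = 0))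

def Fam4 (T : NumericalType n) (σ : Equiv.Perm (Fin n)) (m w : ℤ) : Prop :=
  ((∀ i : Fin n, i.val = 0 → T.m (σ i) = m) ∧
        (∀ i : Fin n, 0 < i.val ∧ i.val + 1 < n → T.m (σ i) = 2 * m) ∧
        (∀ i : Fin n, i.val + 1 = n → T.m (σ i) = m) ∧
        (∀ i : Fin n, i.val = 0 → T.w (σ i) = 2 * w) ∧
        (∀ i : Fin n, 0 < i.val ∧ i.val + 1 < n → T.w (σ i) = w) ∧
        (∀ i : Fin n, i.val + 1 = n → T.w (σ i) = 2 * w) ∧
        (∀ i j : Fin n, i.val < j.val → i.val = 0 ∧ j.val = 1 → T.a (σ i) (σ j) = 2 * w) ∧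
        (∀ i j : Fin n, i.val < j.val → j.val = i.val + 1 ∧ 1 ≤ i.val ∧ j.val + 2 ≤ n → T.a (σ i) (σ j) = w) ∧
        (∀ i j : Fin n, i.val < j.val → j.val = i.val + 1 ∧ j.val + 1 = n → T.a (σ i) (σ j) = 2 * w) ∧
        (∀ i j : Fin n, i.val < j.val → ¬ (i.val = 0 ∧ j.val = 1) → ¬ (j.val = i.val + 1 ∧ 1 ≤ i.val ∧ j.val + 2 ≤ n) → ¬ (j.val = i.val + 1 ∧ j.val + 1 = n) → T.a (σ i) (σ j) = 0))

def Fam5 (T : NumericalType n) (σ : Equiv.Perm (Fin n)) (m w : ℤ) : Prop :=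
  ((∀ i : Fin n, i.val = 0 → T.m (σ i) = m) ∧
        (∀ i : Fin n, 1 ≤ i.val ∧ i.val + 2 < n → T.m (σ i) = 2 * m) ∧
        (∀ i : Fin n, n ≤ i.val + 2 → T.m (σ i) = m) ∧
        (∀ i : Fin n, i.val = 0 → T.w (σ i) = 2 * w) ∧
        (∀ i : Fin n, 0 < i.val → T.w (σ i) = w) ∧
        (∀ i j : Fin n, i.val < j.val → i.val = 0 ∧ j.val = 1 → T.a (σ i) (σ j) = 2 * w) ∧
        (∀ i j : Fin n, i.val < j.val → j.val = i.val + 1 ∧ 1 ≤ i.val ∧ j.val + 2 ≤ n → T.a (σ i) (σ j) = w) ∧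
        (∀ i j : Fin n, i.val < j.val → i.val + 3 = n ∧ j.val + 1 = n → T.a (σ i) (σ j) = w) ∧
        (∀ i j : Fin n, i.val < j.val → ¬ (i.val = 0 ∧ j.val = 1) → ¬ (j.val = i.val + 1 ∧ 1 ≤ i.val ∧ j.val + 2 ≤ n) → ¬ (i.val + 3 = n ∧ j.val + 1 = n) → T.a (σ i) (σ j) = 0))

def Fam6 (T : NumericalType n) (σ : Equiv.Perm (Fin n)) (m w : ℤ) : Prop :=
  ((∀ i : Fin n, i.val + 2 < n → T.m (σ i) = 2 * m) ∧
        (∀ i : Fin n, n ≤ i.val + 2 → T.m (σ i) = m) ∧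
        (∀ i : Fin n, i.val = 0 → T.w (σ i) = w) ∧
        (∀ i : Fin n, 0 < i.val → T.w (σ i) = 2 * w) ∧
        (∀ i j : Fin n, i.val < j.val → j.val = i.val + 1 ∧ j.val + 2 ≤ n → T.a (σ i) (σ j) = 2 * w) ∧
        (∀ i j : Fin n, i.val < j.val → i.val + 3 = n ∧ j.val + 1 = n → T.a (σ i) (σ j) = 2 * w) ∧
        (∀ i j : Fin n, i.val < j.val → ¬ (j.val = i.val + 1 ∧ j.val + 2 ≤ n) → ¬ (i.val + 3 = n ∧ j.val + 1 = n) → T.a (σ i) (σ j) = 0))

def Fam7 (T : NumericalType n) (σ : Equiv.Perm (Fin n)) (m w : ℤ) : Prop :=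
  ((∀ i : Fin n, i.val ≤ 1 → T.m (σ i) = m) ∧
        (∀ i : Fin n, 2 ≤ i.val ∧ i.val + 2 < n → T.m (σ i) = 2 * m) ∧
        (∀ i : Fin n, n ≤ i.val + 2 → T.m (σ i) = m) ∧
        (∀ i : Fin n, T.w (σ i) = w) ∧
        (∀ i j : Fin n, i.val < j.val → i.val = 0 ∧ j.val = 2 → T.a (σ i) (σ j) = w) ∧
        (∀ i j : Fin n, i.val < j.val → i.val = 1 ∧ j.val = 2 → T.a (σ i) (σ j) = w) ∧
        (∀ i j : Fin n, i.val < j.val → j.val = i.val + 1 ∧ 2 ≤ i.val ∧ j.val + 2 ≤ n → T.a (σ i) (σ j) = w) ∧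
        (∀ i j : Fin n, i.val < j.val → i.val + 3 = n ∧ j.val + 1 = n → T.a (σ i) (σ j) = w) ∧
        (∀ i j : Fin n, i.val < j.val → ¬ (i.val = 0 ∧ j.val = 2) → ¬ (i.val = 1 ∧ j.val = 2) → ¬ (j.val = i.val + 1 ∧ 2 ≤ i.val ∧ j.val + 2 ≤ n) → ¬ (i.val + 3 = n ∧ j.val + 1 = n) → T.a (σ i) (σ j) = 0))

def Goal (T : NumericalType n) : Prop :=
  ∃ (σ : Equiv.Perm (Fin n)) (m w : ℤ), Fam1 T σ m w ∨ Fam2 T σ m w ∨ Fam3 T σ m w ∨ Fam4 T σ m w ∨
    Fam5 T σ m w ∨ Fam6 T σ m w ∨ Fam7 T σ m w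

noncomputable def mkPerm (φ : ℕ → Fin n) (hinj : InjOn φ n) : Equiv.Perm (Fin n) :=
  Equiv.ofBijective (fun i : Fin n => φ i.val)
    (Finite.injective_iff_bijective.1 (fun i j e => Fin.ext (hinj i.val j.val i.2 j.2 e)))

lemma mkPerm_apply (φ : ℕ → Fin n) (hinj : InjOn φ n) (i : Fin n) : mkPerm φ hinj i = φ i.val := rfl

variable {T : NumericalType n}

/-! ### generic chain terminal lemma -/

def chE (a b : ℕ → ℤ) (i j : ℕ) : ℤ := if j = i + 1 then a i else if i = j + 1 then b j else 0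

def chN (l i : ℕ) : Finset ℕ := if i = 0 then {1} else if i + 1 = l then {i - 1} else {i - 1, i + 1}

lemma mem_chN {l i j : ℕ} (hi : i < l) (hj : j < l) : j ∈ chN l i ↔ (j = i + 1 ∨ i = j + 1) := by
  unfold chN
  split_ifs with h1 h2 <;> simp only [Finset.mem_insert, Finset.mem_singleton] <;> omega

theorem path_terminal (hd : ∀ i, T.a i i = -2 * T.w i) {q : ℕ → Fin n} {l : ℕ} (hq : IsPath T q l)
    (hl : 3 ≤ l) (a b : ℕ → ℤ) (u : ℕ → ℕ)
    (hu : ∀ i, i < l → 0 < u i)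
    (ha : ∀ r, r + 1 < l → a r ≤ cc T (q r) (q (r + 1)))
    (hb : ∀ r, r + 1 < l → b r ≤ cc T (q (r + 1)) (q r))
    (hrow0 : 2 * (u 0 : ℤ) ≤ a 0 * (u 1 : ℤ))
    (hrowi : ∀ i, 1 ≤ i → i + 1 < l →
      2 * (u i : ℤ) ≤ b (i - 1) * (u (i - 1) : ℤ) + a i * (u (i + 1) : ℤ))
    (hrowl : 2 * (u (l - 1) : ℤ) ≤ b (l - 2) * (u (l - 2) : ℤ)) :
    n = l ∧
    (∀ r, r + 1 < l → T.a (q r) (q (r + 1)) = T.w (q r) * a r) ∧
    (∀ r, r + 1 < l → T.w (q r) * a r = T.w (q (r + 1)) * b r) ∧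
    (∀ i j, i < l → j < l → i + 2 ≤ j → T.a (q i) (q j) = 0) ∧
    (∀ i j, i < l → j < l → (u i : ℤ) * T.m (q j) = (u j : ℤ) * T.m (q i)) := by
  have hN : ∀ i, i < l → ∀ j ∈ chN l i, j < l ∧ j ≠ i := by
    intro i hi j hj
    unfold chN at hj
    split_ifs at hj with h1 h2 <;> simp only [Finset.mem_insert, Finset.mem_singleton] at hj <;> omega
  have hE : ∀ i j, i < l → j < l → j ≠ i → chE a b i j ≤ cc T (q i) (q j) := by
    intro i j hi hj hji
    unfold chE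
    by_cases h1 : j = i + 1
    · rw [if_pos h1]; subst h1; exact ha i hj
    · rw [if_neg h1]
      by_cases h2 : i = j + 1
      · rw [if_pos h2]; subst h2; exact hb j hi
      · rw [if_neg h2]; exact cc_nonneg T (hq.ne hi hj (Ne.symm hji))
  have hEN : ∀ i j, i < l → j < l → j ≠ i → j ∉ chN l i → chE a b i j = 0 := by
    intro i j hi hj hji hjN
    rw [mem_chN hi hj] at hjN
    unfold chE
    rw [if_neg (by omega), if_neg (by omega)]
  have hsum : ∀ i, i < l → 2 * (u i : ℤ) ≤ ∑ j ∈ chN l i, chE a b i j * (u j : ℤ) := by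
    intro i hi
    unfold chN
    by_cases h1 : i = 0
    · rw [if_pos h1, Finset.sum_singleton]
      subst h1
      have e : chE a b 0 1 = a 0 := by unfold chE; rw [if_pos (by omega)]
      rw [e]; exact hrow0
    · rw [if_neg h1]
      by_cases h2 : i + 1 = l
      · rw [if_pos h2, Finset.sum_singleton]
        have e : chE a b i (i - 1) = b (i - 1) := by
          unfold chE; rw [if_neg (by omega), if_pos (by omega)]
        rw [e]
        have e1 : i = l - 1 := by omega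
        have e2 : i - 1 = l - 2 := by omega
        rw [e2, e1]; exact hrowl
      · rw [if_neg h2, Finset.sum_pair (by omega)]
        have e : chE a b i (i - 1) = b (i - 1) := by
          unfold chE; rw [if_neg (by omega), if_pos (by omega)]
        have e' : chE a b i (i + 1) = a i := by unfold chE; rw [if_pos rfl]
        rw [e, e']
        exact hrowi i (by omega) (by omega)
  obtain ⟨hnl, -, hcc, hm⟩ := terminal_core hd hq.inj (by omega) u hu (chN l) (chE a b) hN hE hEN hsum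
  refine ⟨hnl, ?_, ?_, ?_, hm⟩
  · intro r hr
    rw [a_eq T (q r) (q (r + 1)), hcc r (r + 1) (by omega) hr (by omega)]
    unfold chE; rw [if_pos rfl]
  · intro r hr
    have h1 := w_rel T (q r) (q (r + 1))
    rw [hcc r (r + 1) (by omega) hr (by omega), hcc (r + 1) r hr (by omega) (by omega)] at h1
    have e1 : chE a b r (r + 1) = a r := by unfold chE; rw [if_pos rfl]
    have e2 : chE a b (r + 1) r = b r := by unfold chE; rw [if_neg (by omega), if_pos rfl]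
    rw [e1, e2] at h1; exact h1
  · intro i j hi hj hij
    rw [a_eq T (q i) (q j), hcc i j hi hj (by omega)]
    unfold chE; rw [if_neg (by omega), if_neg (by omega), mul_zero]


end Groth.Agent.Lib.G1GenH1
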