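import Mathlib
import Groth.Prelude.Def_Models
import Groth.Agent.Lib.G1Gen2_helper1

/-! Genus-one classification for general `n` (helper1): the cycle family and the three
pure-chain families. -/

set_option autoImplicit false
set_option maxHeartbeats 1000000

namespace Groth.Agent.Lib.G1GenH1

open Finset Models Groth.Agent.Lib.G1

variable {n : ℕ} {T : NumericalType n}

/-- evaluate if-then-else arithmetic -/
local macro "ev" : tactic =>
  `(tactic| (split_ifs <;> first | rfl | contradiction | omega | (norm_num; done)))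

/-! ### the cycle -/

def cycE (l i j : ℕ) : ℤ :=
  if j = i + 1 ∨ i = j + 1 ∨ (i = 0 ∧ j + 1 = l) ∨ (j = 0 ∧ i + 1 = l) then 1 else 0

def cycN (l i : ℕ) : Finset ℕ :=
  if i = 0 then {1, l - 1} else if i + 1 = l then {i - 1, 0} else {i - 1, i + 1}

theorem fam1 (hd : ∀ i, T.a i i = -2 * T.w i) {q : ℕ → Fin n} {l : ℕ} (hq : IsPath T q l)
    (hl : 3 ≤ l) (hcyc : T.a (q (l - 1)) (q 0) ≠ 0) : Goal T := by
  have hN : ∀ i, i < l → ∀ j ∈ cycN l i, j < l ∧ j ≠ i := by
    intro i hi j hj
    unfold cycN at hj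
    split_ifs at hj with h1 h2 <;> simp only [Finset.mem_insert, Finset.mem_singleton] at hj <;> omega
  have hE : ∀ i j, i < l → j < l → j ≠ i → cycE l i j ≤ cc T (q i) (q j) := by
    intro i j hi hj hji
    unfold cycE
    split_ifs with h
    · rcases h with h | h | ⟨h1, h2⟩ | ⟨h1, h2⟩
      · subst h; exact hq.cc_fwd hj
      · subst h; exact hq.cc_bwd hi
      · have e : j = l - 1 := by omega
        rw [h1, e]
        exact cc_pos T (hq.ne (by omega) (by omega) (by omega)) (by rw [a_symm]; exact hcyc)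
      · have e : i = l - 1 := by omega
        rw [h1, e]
        exact cc_pos T (hq.ne (by omega) (by omega) (by omega)) hcyc
    · exact cc_nonneg T (hq.ne hi hj (Ne.symm hji))
  have hEN : ∀ i j, i < l → j < l → j ≠ i → j ∉ cycN l i → cycE l i j = 0 := by
    intro i j hi hj hji hjN
    unfold cycE
    rw [if_neg]
    intro h
    apply hjN
    unfold cycN
    split_ifs with h1 h2 <;> simp only [Finset.mem_insert, Finset.mem_singleton] <;> omega
  obtain ⟨u, hu_def⟩ : ∃ u : ℕ → ℕ, ∀ r, u r = 1 := ⟨fun _ => 1, fun _ => rfl⟩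
  have hsum : ∀ i, i < l → 2 * (u i : ℤ) ≤ ∑ j ∈ cycN l i, cycE l i j * (u j : ℤ) := by
    intro i hi
    unfold cycN
    split_ifs with h1 h2
    · rw [Finset.sum_pair (by omega)]
      have e1 : cycE l i 1 = 1 := by unfold cycE; rw [if_pos (by omega)]
      have e2 : cycE l i (l - 1) = 1 := by unfold cycE; rw [if_pos (by omega)]
      rw [e1, e2, hu_def, hu_def, hu_def]; norm_num
    · rw [Finset.sum_pair (by omega)]
      have e1 : cycE l i (i - 1) = 1 := by unfold cycE; rw [if_pos (by omega)]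
      have e2 : cycE l i 0 = 1 := by unfold cycE; rw [if_pos (by omega)]
      rw [e1, e2, hu_def, hu_def, hu_def]; norm_num
    · rw [Finset.sum_pair (by omega)]
      have e1 : cycE l i (i - 1) = 1 := by unfold cycE; rw [if_pos (by omega)]
      have e2 : cycE l i (i + 1) = 1 := by unfold cycE; rw [if_pos (by omega)]
      rw [e1, e2, hu_def, hu_def, hu_def]; norm_num
  obtain ⟨hnl, -, hcc, hm⟩ := terminal_core hd hq.inj (by omega) u
    (fun i _ => by rw [hu_def]; norm_num) (cycN l) (cycE l) hN hE hEN hsum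
  subst hnl
  have hinj' : InjOn q n := hq.inj
  have hmall : ∀ i, i < n → T.m (q i) = T.m (q 0) := by
    intro i hi
    have := hm i 0 hi (by omega)
    rw [hu_def, hu_def] at this
    push_cast at this
    linarith
  have hstep : ∀ r, r + 1 < n → T.w (q (r + 1)) = T.w (q r) := by
    intro r hr
    have h1 := w_rel T (q r) (q (r + 1))
    rw [hcc r (r + 1) (by omega) hr (by omega), hcc (r + 1) r hr (by omega) (by omega)] at h1
    have e1 : cycE n r (r + 1) = 1 := by unfold cycE; rw [if_pos (by omega)]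
    have e2 : cycE n (r + 1) r = 1 := by unfold cycE; rw [if_pos (by omega)]
    rw [e1, e2] at h1; linarith
  have hwall : ∀ i, i < n → T.w (q i) = T.w (q 0) := by
    intro i hi
    exact chain_const (fun r => T.w (q r)) 0 (n - 1) (fun r _ hr => hstep r (by omega)) i
      (by omega) (by omega)
  have haval : ∀ i j, i < n → j < n → j ≠ i → T.a (q i) (q j) = T.w (q 0) * cycE n i j := by
    intro i j hi hj hji
    rw [a_eq T (q i) (q j), hcc i j hi hj hji, hwall i hi]
  unfold Goal
  refine ⟨mkPerm q hinj', T.m (q 0), T.w (q 0), Or.inl ?_⟩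
  unfold Fam1
  refine ⟨fun i => hmall i.val i.2, fun i => hwall i.val i.2, ?_, ?_, ?_⟩
  · intro i j hij hj1
    show T.a (q i.val) (q j.val) = _
    rw [haval i.val j.val i.2 j.2 (by omega)]
    unfold cycE; rw [if_pos (by omega)]; ring
  · intro i j hij h2
    show T.a (q i.val) (q j.val) = _
    rw [haval i.val j.val i.2 j.2 (by omega)]
    unfold cycE; rw [if_pos (by omega)]; ring
  · intro i j hij h1 h2
    show T.a (q i.val) (q j.val) = _
    rw [haval i.val j.val i.2 j.2 (by omega)]
    have := j.2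
    unfold cycE; rw [if_neg (by omega)]; ring

/-! ### family 3: both ends of type γ -/

theorem fam3 (hd : ∀ i, T.a i i = -2 * T.w i) {q : ℕ → Fin n} {l : ℕ} (hq : IsPath T q l)
    (hl : 3 ≤ l) (hL : 2 ≤ cc T (q 0) (q 1)) (hR : 2 ≤ cc T (q (l - 1)) (q (l - 2))) : Goal T := by
  obtain ⟨a, ha_def⟩ : ∃ a : ℕ → ℤ, ∀ r, a r = if r = 0 then 2 else 1 := ⟨_, fun _ => rfl⟩
  obtain ⟨b, hb_def⟩ : ∃ b : ℕ → ℤ, ∀ r, b r = if r + 2 = l then 2 else 1 := ⟨_, fun _ => rfl⟩
  obtain ⟨u, hu_def⟩ : ∃ u : ℕ → ℕ, ∀ r, u r = 1 := ⟨fun _ => 1, fun _ => rfl⟩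
  have ha : ∀ r, r + 1 < l → a r ≤ cc T (q r) (q (r + 1)) := by
    intro r hr
    rw [ha_def]
    split_ifs with h
    · subst h; exact hL
    · exact hq.cc_fwd hr
  have hb : ∀ r, r + 1 < l → b r ≤ cc T (q (r + 1)) (q r) := by
    intro r hr
    rw [hb_def]
    split_ifs with h
    · have e1 : r + 1 = l - 1 := by omega
      have e2 : r = l - 2 := by omega
      rw [e1, e2]; exact hR
    · exact hq.cc_bwd hr
  obtain ⟨hnl, haval, hwrel, hzero, hm⟩ := path_terminal hd hq hl a b u
    (fun i _ => by rw [hu_def]; norm_num) ha hb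
    (by rw [hu_def, hu_def, ha_def, if_pos rfl] <;> norm_num)
    (fun i h1 h2 => by
      rw [hu_def, hu_def, hu_def, ha_def, hb_def]
      split_ifs <;> norm_num)
    (by rw [hu_def, hu_def, hb_def, if_pos (by omega)] <;> norm_num)
  subst hnl
  have hinj' : InjOn q n := hq.inj
  have hmall : ∀ i, i < n → T.m (q i) = T.m (q 0) := by
    intro i hi
    have := hm i 0 hi (by omega)
    rw [hu_def, hu_def] at this
    push_cast at this
    linarith
  have hw1 : T.w (q 1) = 2 * T.w (q 0) := by
    have := hwrel 0 (by omega)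
    rw [ha_def, hb_def, if_pos rfl, if_neg (by omega)] at this
    simp only [Nat.zero_add] at this
    linarith
  have hwmid : ∀ r, 1 ≤ r → r + 1 < n → T.w (q r) = 2 * T.w (q 0) := by
    intro r h1 h2
    have hc : T.w (q r) = T.w (q 1) :=
      chain_const (fun r => T.w (q r)) 1 (n - 2) (fun s hs1 hs2 => by
        have := hwrel s (by omega)
        rw [ha_def, hb_def, if_neg (by omega), if_neg (by omega)] at this
        show T.w (q (s + 1)) = T.w (q s)
        linarith) r h1 (by omega)
    rw [hc, hw1]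
  have hwlast : T.w (q (n - 1)) = T.w (q 0) := by
    have := hwrel (n - 2) (by omega)
    rw [ha_def, hb_def, if_neg (by omega), if_pos (by omega), show n - 2 + 1 = n - 1 by omega,
      hwmid (n - 2) (by omega) (by omega)] at this
    linarith
  unfold Goal
  refine ⟨mkPerm q hinj', T.m (q 0), T.w (q 0), Or.inr (Or.inr (Or.inl ?_))⟩
  unfold Fam3
  refine ⟨fun i => hmall i.val i.2, ?_, ?_, ?_, ?_, ?_⟩
  · intro i hi
    show T.w (q i.val) = _
    rw [hi]
  · intro i hi
    show T.w (q i.val) = _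
    exact hwmid i.val (by omega) hi.2
  · intro i hi
    show T.w (q i.val) = _
    rw [show i.val = n - 1 by omega]; exact hwlast
  · intro i j hij hj1
    show T.a (q i.val) (q j.val) = _
    rw [hj1, haval i.val (by have := j.2; omega), ha_def]
    split_ifs with h
    · rw [h]; ring
    · rw [hwmid i.val (by omega) (by have := j.2; omega)]; ring
  · intro i j hij hj1
    show T.a (q i.val) (q j.val) = _
    exact hzero i.val j.val i.2 j.2 (by omega)

/-! ### family 2: left end of type γ, right end of type β -/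

theorem fam2 (hd : ∀ i, T.a i i = -2 * T.w i) {q : ℕ → Fin n} {l : ℕ} (hq : IsPath T q l)
    (hl : 3 ≤ l) (hL : 2 ≤ cc T (q 0) (q 1)) (hR : 2 ≤ cc T (q (l - 2)) (q (l - 1))) : Goal T := by
  obtain ⟨a, ha_def⟩ : ∃ a : ℕ → ℤ, ∀ r, a r = if r = 0 ∨ r + 2 = l then 2 else 1 := ⟨_, fun _ => rfl⟩
  obtain ⟨b, hb_def⟩ : ∃ b : ℕ → ℤ, ∀ r, b r = 1 := ⟨fun _ => 1, fun _ => rfl⟩
  obtain ⟨u, hu_def⟩ : ∃ u : ℕ → ℕ, ∀ r, u r = if r + 1 = l then 1 else 2 := ⟨_, fun _ => rfl⟩
  have ha : ∀ r, r + 1 < l → a r ≤ cc T (q r) (q (r + 1)) := by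
    intro r hr
    rw [ha_def]
    split_ifs with h
    · rcases h with h | h
      · subst h; exact hL
      · have e1 : r + 1 = l - 1 := by omega
        have e2 : r = l - 2 := by omega
        rw [e1, e2]; exact hR
    · exact hq.cc_fwd hr
  have hb : ∀ r, r + 1 < l → b r ≤ cc T (q (r + 1)) (q r) := by
    intro r hr
    rw [hb_def]; exact hq.cc_bwd hr
  obtain ⟨hnl, haval, hwrel, hzero, hm⟩ := path_terminal hd hq hl a b u
    (fun i _ => by rw [hu_def]; split_ifs <;> norm_num) ha hb
    (by rw [hu_def, hu_def, ha_def]; ev)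
    (fun i h1 h2 => by
      rw [hu_def, hu_def, hu_def, ha_def, hb_def]
      ev)
    (by rw [hu_def, hu_def, hb_def]; ev)
  subst hnl
  have hinj' : InjOn q n := hq.inj
  have hmall : ∀ i, i < n → T.m (q i) = (u i : ℤ) * T.m (q (n - 1)) := by
    intro i hi
    have := hm i (n - 1) hi (by omega)
    rw [hu_def (n - 1), if_pos (by omega)] at this
    push_cast at this
    linarith
  have hw1 : T.w (q 1) = 2 * T.w (q 0) := by
    have := hwrel 0 (by omega)
    rw [ha_def, hb_def, if_pos (Or.inl rfl)] at this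
    simp only [Nat.zero_add] at this
    linarith
  have hwmid : ∀ r, 1 ≤ r → r + 1 < n → T.w (q r) = 2 * T.w (q 0) := by
    intro r h1 h2
    have hc : T.w (q r) = T.w (q 1) :=
      chain_const (fun r => T.w (q r)) 1 (n - 2) (fun s hs1 hs2 => by
        have := hwrel s (by omega)
        rw [ha_def, hb_def, if_neg (by omega)] at this
        show T.w (q (s + 1)) = T.w (q s)
        linarith) r h1 (by omega)
    rw [hc, hw1]
  have hwlast : T.w (q (n - 1)) = 4 * T.w (q 0) := by
    have := hwrel (n - 2) (by omega)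
    rw [ha_def, hb_def, if_pos (by omega), show n - 2 + 1 = n - 1 by omega,
      hwmid (n - 2) (by omega) (by omega)] at this
    linarith
  unfold Goal
  refine ⟨mkPerm q hinj', T.m (q (n - 1)), T.w (q 0), Or.inr (Or.inl ?_)⟩
  unfold Fam2
  refine ⟨?_, ?_, ?_, ?_, ?_, ?_, ?_, ?_⟩
  · intro i hi
    show T.m (q i.val) = _
    rw [hmall i.val i.2, hu_def, if_neg (by omega)]; norm_num
  · intro i hi
    show T.m (q i.val) = _
    rw [show i.val = n - 1 by omega]
  · intro i hi
    show T.w (q i.val) = _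
    rw [hi]
  · intro i hi
    show T.w (q i.val) = _
    exact hwmid i.val (by omega) hi.2
  · intro i hi
    show T.w (q i.val) = _
    rw [show i.val = n - 1 by omega]; exact hwlast
  · intro i j hij hj1
    show T.a (q i.val) (q j.val) = _
    rw [hj1.1, haval i.val (by omega), ha_def]
    split_ifs with h
    · have e : i.val = 0 := by omega
      rw [e]; ring
    · rw [hwmid i.val (by omega) (by omega)]; ring
  · intro i j hij hj1
    show T.a (q i.val) (q j.val) = _
    rw [hj1.1, haval i.val (by omega), ha_def, if_pos (by omega),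
      hwmid i.val (by omega) (by omega)]
    ring
  · intro i j hij h1 h2
    show T.a (q i.val) (q j.val) = _
    have := j.2
    exact hzero i.val j.val i.2 j.2 (by omega)

/-! ### family 4: both ends of type β -/

theorem fam4 (hd : ∀ i, T.a i i = -2 * T.w i) {q : ℕ → Fin n} {l : ℕ} (hq : IsPath T q l)
    (hl : 3 ≤ l) (hL : 2 ≤ cc T (q 1) (q 0)) (hR : 2 ≤ cc T (q (l - 2)) (q (l - 1))) : Goal T := by
  obtain ⟨a, ha_def⟩ : ∃ a : ℕ → ℤ, ∀ r, a r = if r + 2 = l then 2 else 1 := ⟨_, fun _ => rfl⟩
  obtain ⟨b, hb_def⟩ : ∃ b : ℕ → ℤ, ∀ r, b r = if r = 0 then 2 else 1 := ⟨_, fun _ => rfl⟩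
  obtain ⟨u, hu_def⟩ : ∃ u : ℕ → ℕ, ∀ r, u r = if r = 0 then 1 else if r + 1 = l then 1 else 2 :=
    ⟨_, fun _ => rfl⟩
  have ha : ∀ r, r + 1 < l → a r ≤ cc T (q r) (q (r + 1)) := by
    intro r hr
    rw [ha_def]
    split_ifs with h
    · have e1 : r + 1 = l - 1 := by omega
      have e2 : r = l - 2 := by omega
      rw [e1, e2]; exact hR
    · exact hq.cc_fwd hr
  have hb : ∀ r, r + 1 < l → b r ≤ cc T (q (r + 1)) (q r) := by
    intro r hr
    rw [hb_def]
    split_ifs with h
    · subst h; exact hL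
    · exact hq.cc_bwd hr
  obtain ⟨hnl, haval, hwrel, hzero, hm⟩ := path_terminal hd hq hl a b u
    (fun i _ => by rw [hu_def]; split_ifs <;> norm_num) ha hb
    (by rw [hu_def, hu_def, ha_def]; ev)
    (fun i h1 h2 => by
      rw [hu_def, hu_def, hu_def, ha_def, hb_def]
      ev)
    (by rw [hu_def, hu_def, hb_def]; ev)
  subst hnl
  have hinj' : InjOn q n := hq.inj
  have u0 : u 0 = 1 := by rw [hu_def]; ev
  have hmall : ∀ i, i < n → T.m (q i) = (u i : ℤ) * T.m (q 0) := by
    intro i hi
    have := hm i 0 hi (by omega)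
    rw [u0] at this
    push_cast at this
    linarith
  have a0 : a 0 = 1 := by rw [ha_def]; ev
  have b0 : b 0 = 2 := by rw [hb_def]; ev
  have hw0 : T.w (q 0) = 2 * T.w (q 1) := by
    have := hwrel 0 (by omega)
    rw [a0, b0] at this
    simp only [Nat.zero_add] at this
    linarith
  have hwmid : ∀ r, 1 ≤ r → r + 1 < n → T.w (q r) = T.w (q 1) := by
    intro r h1 h2
    exact chain_const (fun r => T.w (q r)) 1 (n - 2) (fun s hs1 hs2 => by
        have := hwrel s (by omega)
        have as : a s = 1 := by rw [ha_def]; ev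
        have bs : b s = 1 := by rw [hb_def]; ev
        rw [as, bs] at this
        show T.w (q (s + 1)) = T.w (q s)
        linarith) r h1 (by omega)
  have al : a (n - 2) = 2 := by rw [ha_def]; ev
  have bl : b (n - 2) = 1 := by rw [hb_def]; ev
  have hwlast : T.w (q (n - 1)) = 2 * T.w (q 1) := by
    have := hwrel (n - 2) (by omega)
    rw [al, bl, show n - 2 + 1 = n - 1 by omega, hwmid (n - 2) (by omega) (by omega)] at this
    linarith
  unfold Goal
  refine ⟨mkPerm q hinj', T.m (q 0), T.w (q 1), Or.inr (Or.inr (Or.inr (Or.inl ?_)))⟩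
  unfold Fam4
  refine ⟨?_, ?_, ?_, ?_, ?_, ?_, ?_, ?_, ?_, ?_⟩
  · intro i hi
    show T.m (q i.val) = _
    rw [hi]
  · intro i hi
    show T.m (q i.val) = _
    have ui : u i.val = 2 := by rw [hu_def]; ev
    rw [hmall i.val i.2, ui]; norm_num
  · intro i hi
    show T.m (q i.val) = _
    have ui : u i.val = 1 := by rw [hu_def]; ev
    rw [hmall i.val i.2, ui]; norm_num
  · intro i hi
    show T.w (q i.val) = _
    rw [hi]; exact hw0
  · intro i hi
    show T.w (q i.val) = _
    exact hwmid i.val (by omega) hi.2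
  · intro i hi
    show T.w (q i.val) = _
    rw [show i.val = n - 1 by omega]; exact hwlast
  · intro i j hij hj1
    show T.a (q i.val) (q j.val) = _
    rw [hj1.1, hj1.2]
    have := haval 0 (by omega)
    simp only [Nat.zero_add] at this
    rw [this, a0, hw0]; ring
  · intro i j hij hj1
    show T.a (q i.val) (q j.val) = _
    have ai : a i.val = 1 := by rw [ha_def]; ev
    rw [hj1.1, haval i.val (by omega), ai, hwmid i.val (by omega) (by omega)]
    ring
  · intro i j hij hj1
    show T.a (q i.val) (q j.val) = _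
    have ai : a i.val = 2 := by rw [ha_def]; ev
    rw [hj1.1, haval i.val (by omega), ai, hwmid i.val (by omega) (by omega)]
    ring
  · intro i j hij h1 h2 h3
    show T.a (q i.val) (q j.val) = _
    have := j.2
    exact hzero i.val j.val i.2 j.2 (by omega)

end Groth.Agent.Lib.G1GenH1
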