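import Mathlib
import Groth.Prelude.Def_Models
import Groth.Agent.Lib.G1Gen3_helper1

/-! Genus-one classification for general `n` (helper1): the fork families (5, 6, 7). -/

set_option autoImplicit false
set_option maxHeartbeats 1000000

namespace Groth.Agent.Lib.G1GenH1

open Finset Models Groth.Agent.Lib.G1

variable {n : ℕ} {T : NumericalType n}

/-- evaluate if-then-else arithmetic -/
local macro "ev" : tactic =>
  `(tactic| (split_ifs <;> first | rfl | contradiction | omega | (norm_num; done)))

/-! ### generic fork terminal lemma -/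

def fkE (l : ℕ) (a b : ℕ → ℤ) (i j : ℕ) : ℤ :=
  if j = i + 1 ∧ j < l then a i else if i = j + 1 ∧ i < l then b j
  else if i + 2 = l ∧ j = l then 1 else if i = l ∧ j + 2 = l then 1 else 0

def fkN (l i : ℕ) : Finset ℕ :=
  if i = 0 then {1} else if i + 2 = l then {i - 1, i + 1, l} else if i + 1 = l then {i - 1}
  else if i = l then {l - 2} else {i - 1, i + 1}

lemma mem_fkN {l i j : ℕ} (hl : 3 ≤ l) (hi : i < l + 1) (hj : j < l + 1) :
    j ∈ fkN l i ↔ ((j = i + 1 ∧ j < l) ∨ (i = j + 1 ∧ i < l) ∨ (i + 2 = l ∧ j = l) ∨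
      (i = l ∧ j + 2 = l)) := by
  unfold fkN
  split_ifs with h1 h2 h3 h4 <;> simp only [Finset.mem_insert, Finset.mem_singleton] <;> omega

theorem fork_terminal (hd : ∀ i, T.a i i = -2 * T.w i) {q : ℕ → Fin n} {l : ℕ} (hq : IsPath T q l)
    (hl : 3 ≤ l) {x : Fin n} (hx : ∀ r, r < l → q r ≠ x) (hax : T.a (q (l - 2)) x ≠ 0)
    (a b : ℕ → ℤ) (u : ℕ → ℕ)
    (hu : ∀ i, i < l + 1 → 0 < u i)
    (ha : ∀ r, r + 1 < l → a r ≤ cc T (q r) (q (r + 1)))
    (hb : ∀ r, r + 1 < l → b r ≤ cc T (q (r + 1)) (q r))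
    (hrow0 : 2 * (u 0 : ℤ) ≤ a 0 * (u 1 : ℤ))
    (hrowi : ∀ i, 1 ≤ i → i + 2 < l →
      2 * (u i : ℤ) ≤ b (i - 1) * (u (i - 1) : ℤ) + a i * (u (i + 1) : ℤ))
    (hrowf : 2 * (u (l - 2) : ℤ) ≤
      b (l - 3) * (u (l - 3) : ℤ) + a (l - 2) * (u (l - 1) : ℤ) + (u l : ℤ))
    (hrowl : 2 * (u (l - 1) : ℤ) ≤ b (l - 2) * (u (l - 2) : ℤ))
    (hrowx : 2 * (u l : ℤ) ≤ (u (l - 2) : ℤ)) :
    n = l + 1 ∧
    (∀ r, r + 1 < l → T.a (q r) (q (r + 1)) = T.w (q r) * a r) ∧
    (∀ r, r + 1 < l → T.w (q r) * a r = T.w (q (r + 1)) * b r) ∧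
    T.a (q (l - 2)) x = T.w (q (l - 2)) ∧ T.w (q (l - 2)) = T.w x ∧
    (∀ i j, i < l → j < l → i + 2 ≤ j → T.a (q i) (q j) = 0) ∧
    (∀ i, i < l → i + 2 ≠ l → T.a (q i) x = 0) ∧
    (∀ i j, i < l → j < l → (u i : ℤ) * T.m (q j) = (u j : ℤ) * T.m (q i)) ∧
    (∀ i, i < l → (u i : ℤ) * T.m x = (u l : ℤ) * T.m (q i)) := by
  have hinj : InjOn (snoc q l x) (l + 1) := injOn_snoc hq.inj hx
  have hφ : ∀ r, r < l → snoc q l x r = q r := fun r hr => snoc_lt q x hr
  have hφl : snoc q l x l = x := snoc_self q x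
  have hN : ∀ i, i < l + 1 → ∀ j ∈ fkN l i, j < l + 1 ∧ j ≠ i := by
    intro i hi j hj
    unfold fkN at hj
    split_ifs at hj with h1 h2 h3 h4 <;>
      simp only [Finset.mem_insert, Finset.mem_singleton] at hj <;> omega
  have hE : ∀ i j, i < l + 1 → j < l + 1 → j ≠ i →
      fkE l a b i j ≤ cc T (snoc q l x i) (snoc q l x j) := by
    intro i j hi hj hji
    unfold fkE
    by_cases h1 : j = i + 1 ∧ j < l
    · rw [if_pos h1, hφ i (by omega), hφ j h1.2, h1.1]; exact ha i (by omega)
    · rw [if_neg h1]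
      by_cases h2 : i = j + 1 ∧ i < l
      · rw [if_pos h2, hφ i h2.2, hφ j (by omega), h2.1]; exact hb j (by omega)
      · rw [if_neg h2]
        by_cases h3 : i + 2 = l ∧ j = l
        · rw [if_pos h3, h3.2, hφl, hφ i (by omega), show i = l - 2 by omega]
          exact cc_pos T (hx (l - 2) (by omega)) hax
        · rw [if_neg h3]
          by_cases h4 : i = l ∧ j + 2 = l
          · rw [if_pos h4, h4.1, hφl, hφ j (by omega), show j = l - 2 by omega]
            exact cc_pos T (Ne.symm (hx (l - 2) (by omega))) (by rw [a_symm]; exact hax)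
          · rw [if_neg h4]
            exact cc_nonneg T (fun e => hji (hinj i j hi hj e).symm)
  have hEN : ∀ i j, i < l + 1 → j < l + 1 → j ≠ i → j ∉ fkN l i → fkE l a b i j = 0 := by
    intro i j hi hj hji hjN
    rw [mem_fkN hl hi hj] at hjN
    unfold fkE
    rw [if_neg (by omega), if_neg (by omega), if_neg (by omega), if_neg (by omega)]
  have hsum : ∀ i, i < l + 1 → 2 * (u i : ℤ) ≤ ∑ j ∈ fkN l i, fkE l a b i j * (u j : ℤ) := by
    intro i hi
    unfold fkN
    by_cases h1 : i = 0
    · rw [if_pos h1, Finset.sum_singleton]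
      subst h1
      have e : fkE l a b 0 1 = a 0 := by unfold fkE; rw [if_pos ⟨rfl, by omega⟩]
      rw [e]; exact hrow0
    · rw [if_neg h1]
      by_cases h2 : i + 2 = l
      · rw [if_pos h2, Finset.sum_insert (by
          rw [Finset.mem_insert, Finset.mem_singleton]; omega), Finset.sum_pair (by omega)]
        have e1 : fkE l a b i (i - 1) = b (i - 1) := by
          unfold fkE; rw [if_neg (by omega), if_pos ⟨by omega, by omega⟩]
        have e2 : fkE l a b i (i + 1) = a i := by unfold fkE; rw [if_pos ⟨rfl, by omega⟩]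
        have e3 : fkE l a b i l = 1 := by
          unfold fkE; rw [if_neg (by omega), if_neg (by omega), if_pos ⟨h2, rfl⟩]
        rw [e1, e2, e3]
        have i1 : i = l - 2 := by omega
        have i2 : i - 1 = l - 3 := by omega
        have i3 : i + 1 = l - 1 := by omega
        rw [i2, i3, i1]
        linarith
      · rw [if_neg h2]
        by_cases h3 : i + 1 = l
        · rw [if_pos h3, Finset.sum_singleton]
          have e1 : fkE l a b i (i - 1) = b (i - 1) := by
            unfold fkE; rw [if_neg (by omega), if_pos ⟨by omega, by omega⟩]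
          rw [e1]
          have i1 : i = l - 1 := by omega
          have i2 : i - 1 = l - 2 := by omega
          rw [i2, i1]; exact hrowl
        · rw [if_neg h3]
          by_cases h4 : i = l
          · rw [if_pos h4, Finset.sum_singleton]
            have e1 : fkE l a b i (l - 2) = 1 := by
              unfold fkE
              rw [if_neg (by omega), if_neg (by omega), if_neg (by omega), if_pos ⟨h4, by omega⟩]
            rw [e1, h4]; linarith
          · rw [if_neg h4, Finset.sum_pair (by omega)]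
            have e1 : fkE l a b i (i - 1) = b (i - 1) := by
              unfold fkE; rw [if_neg (by omega), if_pos ⟨by omega, by omega⟩]
            have e2 : fkE l a b i (i + 1) = a i := by unfold fkE; rw [if_pos ⟨rfl, by omega⟩]
            rw [e1, e2]
            exact hrowi i (by omega) (by omega)
  obtain ⟨hnl, -, hcc, hm⟩ := terminal_core hd hinj (by omega) u hu (fkN l) (fkE l a b) hN hE hEN hsum
  refine ⟨hnl, ?_, ?_, ?_, ?_, ?_, ?_, ?_, ?_⟩
  · intro r hr
    have := hcc r (r + 1) (by omega) (by omega) (by omega)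
    rw [hφ r (by omega), hφ (r + 1) hr] at this
    rw [a_eq T (q r) (q (r + 1)), this]
    unfold fkE; rw [if_pos ⟨rfl, hr⟩]
  · intro r hr
    have h1 := w_rel T (q r) (q (r + 1))
    have c1 := hcc r (r + 1) (by omega) (by omega) (by omega)
    have c2 := hcc (r + 1) r (by omega) (by omega) (by omega)
    rw [hφ r (by omega), hφ (r + 1) hr] at c1 c2
    rw [c1, c2] at h1
    have e1 : fkE l a b r (r + 1) = a r := by unfold fkE; rw [if_pos ⟨rfl, hr⟩]
    have e2 : fkE l a b (r + 1) r = b r := by
      unfold fkE; rw [if_neg (by omega), if_pos ⟨rfl, hr⟩]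
    rw [e1, e2] at h1; exact h1
  · have c1 := hcc (l - 2) l (by omega) (by omega) (by omega)
    rw [hφ (l - 2) (by omega), hφl] at c1
    rw [a_eq T (q (l - 2)) x, c1]
    unfold fkE
    rw [if_neg (by omega), if_neg (by omega), if_pos ⟨by omega, rfl⟩, mul_one]
  · have h1 := w_rel T (q (l - 2)) x
    have c1 := hcc (l - 2) l (by omega) (by omega) (by omega)
    have c2 := hcc l (l - 2) (by omega) (by omega) (by omega)
    rw [hφ (l - 2) (by omega), hφl] at c1 c2
    rw [c1, c2] at h1
    have e1 : fkE l a b (l - 2) l = 1 := by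
      unfold fkE; rw [if_neg (by omega), if_neg (by omega), if_pos ⟨by omega, rfl⟩]
    have e2 : fkE l a b l (l - 2) = 1 := by
      unfold fkE
      rw [if_neg (by omega), if_neg (by omega), if_neg (by omega), if_pos ⟨rfl, by omega⟩]
    rw [e1, e2] at h1; linarith
  · intro i j hi hj hij
    have c1 := hcc i j (by omega) (by omega) (by omega)
    rw [hφ i hi, hφ j hj] at c1
    rw [a_eq T (q i) (q j), c1]
    unfold fkE
    rw [if_neg (by omega), if_neg (by omega), if_neg (by omega), if_neg (by omega), mul_zero]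
  · intro i hi hil
    have c1 := hcc i l (by omega) (by omega) (by omega)
    rw [hφ i hi, hφl] at c1
    rw [a_eq T (q i) x, c1]
    unfold fkE
    rw [if_neg (by omega), if_neg (by omega), if_neg (by omega), if_neg (by omega), mul_zero]
  · intro i j hi hj
    have := hm i j (by omega) (by omega)
    rwa [hφ i hi, hφ j hj] at this
  · intro i hi
    have := hm i l (by omega) (by omega)
    rwa [hφ i hi, hφl] at this

/-! ### family 5: left end of type β, fork at the right end -/

theorem fam5 (hd : ∀ i, T.a i i = -2 * T.w i) {q : ℕ → Fin n} {l : ℕ} (hq : IsPath T q l)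
    (hl : 3 ≤ l) {x : Fin n} (hx : ∀ r, r < l → q r ≠ x) (hax : T.a (q (l - 2)) x ≠ 0)
    (hL : 2 ≤ cc T (q 1) (q 0)) : Goal T := by
  obtain ⟨a, ha_def⟩ : ∃ a : ℕ → ℤ, ∀ r, a r = 1 := ⟨fun _ => 1, fun _ => rfl⟩
  obtain ⟨b, hb_def⟩ : ∃ b : ℕ → ℤ, ∀ r, b r = if r = 0 then 2 else 1 := ⟨_, fun _ => rfl⟩
  obtain ⟨u, hu_def⟩ : ∃ u : ℕ → ℕ, ∀ r, u r = if r = 0 then 1 else if r + 1 < l then 2 else 1 :=
    ⟨_, fun _ => rfl⟩
  have ha : ∀ r, r + 1 < l → a r ≤ cc T (q r) (q (r + 1)) := by
    intro r hr
    rw [ha_def]; exact hq.cc_fwd hr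
  have hb : ∀ r, r + 1 < l → b r ≤ cc T (q (r + 1)) (q r) := by
    intro r hr
    rw [hb_def]
    split_ifs with h
    · subst h; exact hL
    · exact hq.cc_bwd hr
  obtain ⟨hnl, haval, hwrel, hax1, hwx, hzero, hzx, hm, hmx⟩ := fork_terminal hd hq hl hx hax a b u
    (fun i _ => by rw [hu_def]; split_ifs <;> norm_num) ha hb
    (by rw [hu_def, hu_def, ha_def]; ev)
    (fun i h1 h2 => by
      rw [hu_def, hu_def, hu_def, ha_def, hb_def]
      ev)
    (by rw [hu_def, hu_def, hu_def, hu_def, ha_def, hb_def]; ev)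
    (by rw [hu_def, hu_def, hb_def]; ev)
    (by rw [hu_def, hu_def]; ev)
  have hinj' : InjOn (snoc q l x) n := fun i j hi hj e =>
    injOn_snoc hq.inj hx i j (by omega) (by omega) e
  have u0 : u 0 = 1 := by rw [hu_def]; ev
  have ul : u l = 1 := by rw [hu_def]; ev
  have hmall : ∀ i, i < l → T.m (q i) = (u i : ℤ) * T.m (q 0) := by
    intro i hi
    have := hm i 0 hi (by omega)
    rw [u0] at this
    push_cast at this
    linarith
  have hmx' : T.m x = T.m (q 0) := by
    have := hmx 0 (by omega)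
    rw [u0, ul] at this
    push_cast at this
    linarith
  have b0 : b 0 = 2 := by rw [hb_def]; ev
  have hw0 : T.w (q 0) = 2 * T.w (q 1) := by
    have := hwrel 0 (by omega)
    rw [ha_def, b0] at this
    simp only [Nat.zero_add] at this
    linarith
  have hwmid : ∀ r, 1 ≤ r → r < l → T.w (q r) = T.w (q 1) := by
    intro r h1 h2
    exact chain_const (fun r => T.w (q r)) 1 (l - 1) (fun s hs1 hs2 => by
        have := hwrel s (by omega)
        have bs : b s = 1 := by rw [hb_def]; ev
        rw [ha_def, bs] at this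
        show T.w (q (s + 1)) = T.w (q s)
        linarith) r h1 (by omega)
  have hwx' : T.w x = T.w (q 1) := by rw [← hwx, hwmid (l - 2) (by omega) (by omega)]
  have hv : ∀ r, r < l → snoc q l x r = q r := fun r hr => snoc_lt q x hr
  have hvl : snoc q l x l = x := snoc_self q x
  unfold Goal
  refine ⟨mkPerm (snoc q l x) hinj', T.m (q 0), T.w (q 1),
    Or.inr (Or.inr (Or.inr (Or.inr (Or.inl ?_))))⟩
  unfold Fam5
  refine ⟨?_, ?_, ?_, ?_, ?_, ?_, ?_, ?_, ?_⟩
  · intro i hi
    show T.m (snoc q l x i.val) = _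
    rw [hv i.val (by omega), hi]
  · intro i hi
    show T.m (snoc q l x i.val) = _
    have ui : u i.val = 2 := by rw [hu_def]; ev
    rw [hv i.val (by omega), hmall i.val (by omega), ui]; norm_num
  · intro i hi
    show T.m (snoc q l x i.val) = _
    have := i.2
    rcases Nat.lt_or_ge i.val l with h | h
    · have ui : u i.val = 1 := by rw [hu_def]; ev
      rw [hv i.val h, hmall i.val h, ui]; norm_num
    · rw [show i.val = l by omega, hvl]; exact hmx'
  · intro i hi
    show T.w (snoc q l x i.val) = _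
    rw [hv i.val (by omega), hi]; exact hw0
  · intro i hi
    show T.w (snoc q l x i.val) = _
    have := i.2
    rcases Nat.lt_or_ge i.val l with h | h
    · rw [hv i.val h]; exact hwmid i.val hi h
    · rw [show i.val = l by omega, hvl]; exact hwx'
  · intro i j hij hj1
    show T.a (snoc q l x i.val) (snoc q l x j.val) = _
    rw [hv i.val (by omega), hv j.val (by omega), hj1.1, hj1.2]
    have := haval 0 (by omega)
    simp only [Nat.zero_add] at this
    rw [this, ha_def, hw0]; ring
  · intro i j hij hj1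
    show T.a (snoc q l x i.val) (snoc q l x j.val) = _
    rw [hv i.val (by omega), hv j.val (by omega), hj1.1, haval i.val (by omega), ha_def,
      hwmid i.val (by omega) (by omega)]
    ring
  · intro i j hij hj1
    show T.a (snoc q l x i.val) (snoc q l x j.val) = _
    rw [hv i.val (by omega), show j.val = l by omega, hvl, show i.val = l - 2 by omega, hax1,
      hwmid (l - 2) (by omega) (by omega)]
  · intro i j hij h1 h2 h3
    show T.a (snoc q l x i.val) (snoc q l x j.val) = _
    have := j.2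
    rcases Nat.lt_or_ge j.val l with h | h
    · rw [hv i.val (by omega), hv j.val h]
      exact hzero i.val j.val (by omega) h (by omega)
    · rw [hv i.val (by omega), show j.val = l by omega, hvl]
      exact hzx i.val (by omega) (by omega)

/-! ### family 6: left end of type γ, fork at the right end -/

theorem fam6 (hd : ∀ i, T.a i i = -2 * T.w i) {q : ℕ → Fin n} {l : ℕ} (hq : IsPath T q l)
    (hl : 3 ≤ l) {x : Fin n} (hx : ∀ r, r < l → q r ≠ x) (hax : T.a (q (l - 2)) x ≠ 0)
    (hL : 2 ≤ cc T (q 0) (q 1)) : Goal T := by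
  obtain ⟨a, ha_def⟩ : ∃ a : ℕ → ℤ, ∀ r, a r = if r = 0 then 2 else 1 := ⟨_, fun _ => rfl⟩
  obtain ⟨b, hb_def⟩ : ∃ b : ℕ → ℤ, ∀ r, b r = 1 := ⟨fun _ => 1, fun _ => rfl⟩
  obtain ⟨u, hu_def⟩ : ∃ u : ℕ → ℕ, ∀ r, u r = if r + 1 < l then 2 else 1 := ⟨_, fun _ => rfl⟩
  have ha : ∀ r, r + 1 < l → a r ≤ cc T (q r) (q (r + 1)) := by
    intro r hr
    rw [ha_def]
    split_ifs with h
    · subst h; exact hL
    · exact hq.cc_fwd hr
  have hb : ∀ r, r + 1 < l → b r ≤ cc T (q (r + 1)) (q r) := by
    intro r hr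
    rw [hb_def]; exact hq.cc_bwd hr
  obtain ⟨hnl, haval, hwrel, hax1, hwx, hzero, hzx, hm, hmx⟩ := fork_terminal hd hq hl hx hax a b u
    (fun i _ => by rw [hu_def]; split_ifs <;> norm_num) ha hb
    (by rw [hu_def, hu_def, ha_def]; ev)
    (fun i h1 h2 => by
      rw [hu_def, hu_def, hu_def, ha_def, hb_def]
      ev)
    (by rw [hu_def, hu_def, hu_def, hu_def, ha_def, hb_def]; ev)
    (by rw [hu_def, hu_def, hb_def]; ev)
    (by rw [hu_def, hu_def]; ev)
  have hinj' : InjOn (snoc q l x) n := fun i j hi hj e =>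
    injOn_snoc hq.inj hx i j (by omega) (by omega) e
  have ul1 : u (l - 1) = 1 := by rw [hu_def]; ev
  have ul : u l = 1 := by rw [hu_def]; ev
  have hmall : ∀ i, i < l → T.m (q i) = (u i : ℤ) * T.m (q (l - 1)) := by
    intro i hi
    have := hm i (l - 1) hi (by omega)
    rw [ul1] at this
    push_cast at this
    linarith
  have hmx' : T.m x = T.m (q (l - 1)) := by
    have := hmx (l - 1) (by omega)
    rw [ul1, ul] at this
    push_cast at this
    linarith
  have a0 : a 0 = 2 := by rw [ha_def]; ev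
  have hw1 : T.w (q 1) = 2 * T.w (q 0) := by
    have := hwrel 0 (by omega)
    rw [a0, hb_def] at this
    simp only [Nat.zero_add] at this
    linarith
  have hwmid : ∀ r, 1 ≤ r → r < l → T.w (q r) = 2 * T.w (q 0) := by
    intro r h1 h2
    have hc : T.w (q r) = T.w (q 1) :=
      chain_const (fun r => T.w (q r)) 1 (l - 1) (fun s hs1 hs2 => by
        have := hwrel s (by omega)
        have as : a s = 1 := by rw [ha_def]; ev
        rw [as, hb_def] at this
        show T.w (q (s + 1)) = T.w (q s)
        linarith) r h1 (by omega)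
    rw [hc, hw1]
  have hwx' : T.w x = 2 * T.w (q 0) := by rw [← hwx, hwmid (l - 2) (by omega) (by omega)]
  have hv : ∀ r, r < l → snoc q l x r = q r := fun r hr => snoc_lt q x hr
  have hvl : snoc q l x l = x := snoc_self q x
  unfold Goal
  refine ⟨mkPerm (snoc q l x) hinj', T.m (q (l - 1)), T.w (q 0),
    Or.inr (Or.inr (Or.inr (Or.inr (Or.inr (Or.inl ?_)))))⟩
  unfold Fam6
  refine ⟨?_, ?_, ?_, ?_, ?_, ?_, ?_⟩
  · intro i hi
    show T.m (snoc q l x i.val) = _
    have ui : u i.val = 2 := by rw [hu_def]; ev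
    rw [hv i.val (by omega), hmall i.val (by omega), ui]; norm_num
  · intro i hi
    show T.m (snoc q l x i.val) = _
    have := i.2
    rcases Nat.lt_or_ge i.val l with h | h
    · rw [hv i.val h, show i.val = l - 1 by omega]
    · rw [show i.val = l by omega, hvl]; exact hmx'
  · intro i hi
    show T.w (snoc q l x i.val) = _
    rw [hv i.val (by omega), hi]
  · intro i hi
    show T.w (snoc q l x i.val) = _
    have := i.2
    rcases Nat.lt_or_ge i.val l with h | h
    · rw [hv i.val h]; exact hwmid i.val hi h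
    · rw [show i.val = l by omega, hvl]; exact hwx'
  · intro i j hij hj1
    show T.a (snoc q l x i.val) (snoc q l x j.val) = _
    rw [hv i.val (by omega), hv j.val (by omega), hj1.1, haval i.val (by omega), ha_def]
    split_ifs with h
    · rw [h]; ring
    · rw [hwmid i.val (by omega) (by omega)]; ring
  · intro i j hij hj1
    show T.a (snoc q l x i.val) (snoc q l x j.val) = _
    rw [hv i.val (by omega), show j.val = l by omega, hvl, show i.val = l - 2 by omega, hax1,
      hwmid (l - 2) (by omega) (by omega)]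
  · intro i j hij h1 h2
    show T.a (snoc q l x i.val) (snoc q l x j.val) = _
    have := j.2
    rcases Nat.lt_or_ge j.val l with h | h
    · rw [hv i.val (by omega), hv j.val h]
      exact hzero i.val j.val (by omega) h (by omega)
    · rw [hv i.val (by omega), show j.val = l by omega, hvl]
      exact hzx i.val (by omega) (by omega)

end Groth.Agent.Lib.G1GenH1
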