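import Mathlib
import Groth.Prelude.Def_Models
import Groth.Agent.Lib.G1Gen4_helper1

/-! Genus-one classification for general `n` (helper1): the double fork family (7). -/

set_option autoImplicit false
set_option maxHeartbeats 1000000

namespace Groth.Agent.Lib.G1GenH1

open Finset Models Groth.Agent.Lib.G1

variable {n : ℕ} {T : NumericalType n}

/-- evaluate if-then-else arithmetic -/
local macro "ev" : tactic =>
  `(tactic| (split_ifs <;> first | rfl | contradiction | omega | (norm_num; done)))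

def phi7 (q : ℕ → Fin n) (l : ℕ) (x y : Fin n) : ℕ → Fin n :=
  fun r => if r = 0 then q 0 else if r = 1 then x else if r = l + 1 then y else q (r - 1)

lemma phi7_zero (q : ℕ → Fin n) (l : ℕ) (x y : Fin n) : phi7 q l x y 0 = q 0 := by
  show (if (0:ℕ) = 0 then q 0 else _) = _
  rw [if_pos rfl]

lemma phi7_one (q : ℕ → Fin n) (l : ℕ) (x y : Fin n) : phi7 q l x y 1 = x := by
  show (if (1:ℕ) = 0 then q 0 else if (1:ℕ) = 1 then x else _) = _
  rw [if_neg (by omega), if_pos rfl]

lemma phi7_last (q : ℕ → Fin n) {l : ℕ} (hl : 1 ≤ l) (x y : Fin n) : phi7 q l x y (l + 1) = y := by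
  show (if l + 1 = 0 then q 0 else if l + 1 = 1 then x else if l + 1 = l + 1 then y else _) = _
  rw [if_neg (by omega), if_neg (by omega), if_pos rfl]

lemma phi7_mid (q : ℕ → Fin n) (l : ℕ) (x y : Fin n) {r : ℕ} (h1 : 2 ≤ r) (h2 : r ≤ l) :
    phi7 q l x y r = q (r - 1) := by
  show (if r = 0 then q 0 else if r = 1 then x else if r = l + 1 then y else q (r - 1)) = _
  rw [if_neg (by omega), if_neg (by omega), if_neg (by omega)]

def dE (l i j : ℕ) : ℤ :=
  if (i = 0 ∧ j = 2) ∨ (i = 2 ∧ j = 0) ∨ (i = 1 ∧ j = 2) ∨ (i = 2 ∧ j = 1) ∨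
    (j = i + 1 ∧ 2 ≤ i ∧ j ≤ l) ∨ (i = j + 1 ∧ 2 ≤ j ∧ i ≤ l) ∨
    (i + 1 = l ∧ j = l + 1) ∨ (j + 1 = l ∧ i = l + 1) then 1 else 0

def dN (l i : ℕ) : Finset ℕ :=
  if i = 0 then {2} else if i = 1 then {2} else if i = 2 then {0, 1, 3}
  else if i + 1 = l then {i - 1, i + 1, l + 1} else if i = l then {l - 1}
  else if i = l + 1 then {l - 1} else {i - 1, i + 1}

lemma mem_dN {l i j : ℕ} (hl : 4 ≤ l) (hi : i < l + 2) (hj : j < l + 2) :
    j ∈ dN l i ↔ ((i = 0 ∧ j = 2) ∨ (i = 2 ∧ j = 0) ∨ (i = 1 ∧ j = 2) ∨ (i = 2 ∧ j = 1) ∨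
    (j = i + 1 ∧ 2 ≤ i ∧ j ≤ l) ∨ (i = j + 1 ∧ 2 ≤ j ∧ i ≤ l) ∨
    (i + 1 = l ∧ j = l + 1) ∨ (j + 1 = l ∧ i = l + 1)) := by
  unfold dN
  split_ifs with h1 h2 h3 h4 h5 h6 <;>
    simp only [Finset.mem_insert, Finset.mem_singleton] <;> omega

theorem fam7 (hd : ∀ i, T.a i i = -2 * T.w i) {q : ℕ → Fin n} {l : ℕ} (hq : IsPath T q l)
    (hl : 4 ≤ l) {x y : Fin n} (hx : ∀ r, r < l → q r ≠ x) (hy : ∀ r, r < l → q r ≠ y)
    (hxy : x ≠ y) (hax : T.a (q 1) x ≠ 0) (hay : T.a (q (l - 2)) y ≠ 0) : Goal T := by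
  have p0 := phi7_zero q l x y
  have p1 := phi7_one q l x y
  have pl := phi7_last q (by omega : 1 ≤ l) x y
  have pm : ∀ r, 2 ≤ r → r ≤ l → phi7 q l x y r = q (r - 1) := fun r h1 h2 => phi7_mid q l x y h1 h2
  -- every index is of one of four kinds
  have hkind : ∀ i, i < l + 2 → (i = 1 ∧ phi7 q l x y i = x) ∨ (i = l + 1 ∧ phi7 q l x y i = y) ∨
      (i = 0 ∧ phi7 q l x y i = q 0) ∨ (2 ≤ i ∧ i ≤ l ∧ phi7 q l x y i = q (i - 1)) := by
    intro i hi
    rcases Nat.lt_or_ge i 2 with h | h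
    · interval_cases i
      · exact Or.inr (Or.inr (Or.inl ⟨rfl, p0⟩))
      · exact Or.inl ⟨rfl, p1⟩
    · rcases Nat.lt_or_ge i (l + 1) with h' | h'
      · exact Or.inr (Or.inr (Or.inr ⟨h, by omega, pm i h (by omega)⟩))
      · exact Or.inr (Or.inl ⟨by omega, by rw [show i = l + 1 by omega]; exact pl⟩)
  have hinj : InjOn (phi7 q l x y) (l + 2) := by
    intro i j hi hj e
    rcases hkind i hi with ⟨i1, ei⟩ | ⟨i1, ei⟩ | ⟨i1, ei⟩ | ⟨i1, i2, ei⟩ <;>
      rcases hkind j hj with ⟨j1, ej⟩ | ⟨j1, ej⟩ | ⟨j1, ej⟩ | ⟨j1, j2, ej⟩ <;>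
      rw [ei, ej] at e
    · omega
    · exact absurd e hxy
    · exact absurd e.symm (hx 0 (by omega))
    · exact absurd e.symm (hx (j - 1) (by omega))
    · exact absurd e.symm hxy
    · omega
    · exact absurd e.symm (hy 0 (by omega))
    · exact absurd e.symm (hy (j - 1) (by omega))
    · exact absurd e (hx 0 (by omega))
    · exact absurd e (hy 0 (by omega))
    · omega
    · have := hq.inj 0 (j - 1) (by omega) (by omega) e; omega
    · exact absurd e (hx (i - 1) (by omega))
    · exact absurd e (hy (i - 1) (by omega))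
    · have := hq.inj (i - 1) 0 (by omega) (by omega) e; omega
    · have := hq.inj (i - 1) (j - 1) (by omega) (by omega) e; omega
  have hN : ∀ i, i < l + 2 → ∀ j ∈ dN l i, j < l + 2 ∧ j ≠ i := by
    intro i hi j hj
    unfold dN at hj
    split_ifs at hj with h1 h2 h3 h4 h5 h6 <;>
      simp only [Finset.mem_insert, Finset.mem_singleton] at hj <;> omega
  have hE : ∀ i j, i < l + 2 → j < l + 2 → j ≠ i →
      dE l i j ≤ cc T (phi7 q l x y i) (phi7 q l x y j) := by
    intro i j hi hj hji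
    unfold dE
    split_ifs with h
    · rcases h with ⟨h1, h2⟩ | ⟨h1, h2⟩ | ⟨h1, h2⟩ | ⟨h1, h2⟩ | ⟨h1, h2, h3⟩ | ⟨h1, h2, h3⟩ |
        ⟨h1, h2⟩ | ⟨h1, h2⟩
      · rw [h1, h2, p0, pm 2 (by omega) (by omega)]
        exact hq.cc_fwd (i := 0) (by omega)
      · rw [h1, h2, p0, pm 2 (by omega) (by omega)]
        exact hq.cc_bwd (i := 0) (by omega)
      · rw [h1, h2, p1, pm 2 (by omega) (by omega)]
        exact cc_pos T (Ne.symm (hx 1 (by omega))) (by rw [a_symm]; exact hax)
      · rw [h1, h2, p1, pm 2 (by omega) (by omega)]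
        exact cc_pos T (hx 1 (by omega)) hax
      · rw [h1, pm i h2 (by omega), pm (i + 1) (by omega) (by omega)]
        have := hq.cc_fwd (i := i - 1) (by omega)
        rwa [show i - 1 + 1 = i + 1 - 1 by omega] at this
      · rw [h1, pm j h2 (by omega), pm (j + 1) (by omega) (by omega)]
        have := hq.cc_bwd (i := j - 1) (by omega)
        rwa [show j - 1 + 1 = j + 1 - 1 by omega] at this
      · rw [h2, pl, pm i (by omega) (by omega), show i - 1 = l - 2 by omega]
        exact cc_pos T (hy (l - 2) (by omega)) hay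
      · rw [h2, pl, pm j (by omega) (by omega), show j - 1 = l - 2 by omega]
        exact cc_pos T (Ne.symm (hy (l - 2) (by omega))) (by rw [a_symm]; exact hay)
    · exact cc_nonneg T (fun e => hji (hinj i j hi hj e).symm)
  have hEN : ∀ i j, i < l + 2 → j < l + 2 → j ≠ i → j ∉ dN l i → dE l i j = 0 := by
    intro i j hi hj hji hjN
    rw [mem_dN hl hi hj] at hjN
    unfold dE
    rw [if_neg hjN]
  obtain ⟨u, hu_def⟩ : ∃ u : ℕ → ℕ, ∀ r, u r = if r ≤ 1 then 1 else if r + 1 ≤ l then 2 else 1 :=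
    ⟨_, fun _ => rfl⟩
  have hsum : ∀ i, i < l + 2 → 2 * (u i : ℤ) ≤ ∑ j ∈ dN l i, dE l i j * (u j : ℤ) := by
    intro i hi
    have h1 : ∀ j ∈ dN l i, dE l i j * (u j : ℤ) = (u j : ℤ) := by
      intro j hj
      have hjl := (hN i hi j hj).1
      have := (mem_dN hl hi hjl).1 hj
      unfold dE
      rw [if_pos this, one_mul]
    rw [Finset.sum_congr rfl h1]
    unfold dN
    split_ifs with h1 h2 h3 h4 h5 h6
    · rw [Finset.sum_singleton, hu_def, hu_def]; ev
    · rw [Finset.sum_singleton, hu_def, hu_def]; ev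
    · rw [Finset.sum_insert (by rw [Finset.mem_insert, Finset.mem_singleton]; omega),
        Finset.sum_pair (by omega), hu_def, hu_def, hu_def, hu_def]
      ev
    · rw [Finset.sum_insert (by rw [Finset.mem_insert, Finset.mem_singleton]; omega),
        Finset.sum_pair (by omega), hu_def, hu_def, hu_def, hu_def]
      ev
    · rw [Finset.sum_singleton, hu_def, hu_def]; ev
    · rw [Finset.sum_singleton, hu_def, hu_def]; ev
    · rw [Finset.sum_pair (by omega), hu_def, hu_def, hu_def]; ev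
  obtain ⟨hnl, -, hcc, hm⟩ := terminal_core hd hinj (by omega) u
    (fun i _ => by rw [hu_def]; split_ifs <;> norm_num) (dN l) (dE l) hN hE hEN hsum
  have hinj' : InjOn (phi7 q l x y) n := fun i j hi hj e => hinj i j (by omega) (by omega) e
  -- all weights agree
  have hwE : ∀ i j, i < l + 2 → j < l + 2 → j ≠ i → dE l i j = 1 → dE l j i = 1 →
      T.w (phi7 q l x y j) = T.w (phi7 q l x y i) := by
    intro i j hi hj hji e1 e2
    have h1 := w_rel T (phi7 q l x y i) (phi7 q l x y j)
    rw [hcc i j hi hj hji, hcc j i hj hi (Ne.symm hji), e1, e2] at h1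
    linarith
  have hw2 : T.w (phi7 q l x y 2) = T.w (phi7 q l x y 0) :=
    hwE 0 2 (by omega) (by omega) (by omega) (by unfold dE; rw [if_pos (by omega)])
      (by unfold dE; rw [if_pos (by omega)])
  have hw1 : T.w (phi7 q l x y 1) = T.w (phi7 q l x y 0) := by
    rw [← hw2]
    exact (hwE 1 2 (by omega) (by omega) (by omega) (by unfold dE; rw [if_pos (by omega)])
      (by unfold dE; rw [if_pos (by omega)])).symm
  have hwmid : ∀ r, 2 ≤ r → r ≤ l → T.w (phi7 q l x y r) = T.w (phi7 q l x y 0) := by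
    intro r h1 h2
    have hc : T.w (phi7 q l x y r) = T.w (phi7 q l x y 2) :=
      chain_const (fun r => T.w (phi7 q l x y r)) 2 l (fun s hs1 hs2 =>
        hwE s (s + 1) (by omega) (by omega) (by omega) (by unfold dE; rw [if_pos (by omega)])
          (by unfold dE; rw [if_pos (by omega)])) r h1 h2
    rw [hc, hw2]
  have hwl : T.w (phi7 q l x y (l + 1)) = T.w (phi7 q l x y 0) := by
    rw [← hwmid (l - 1) (by omega) (by omega)]
    exact hwE (l - 1) (l + 1) (by omega) (by omega) (by omega)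
      (by unfold dE; rw [if_pos (by omega)]) (by unfold dE; rw [if_pos (by omega)])
  have hwall : ∀ i, i < l + 2 → T.w (phi7 q l x y i) = T.w (phi7 q l x y 0) := by
    intro i hi
    rcases Nat.lt_or_ge i 2 with h | h
    · interval_cases i
      · rfl
      · exact hw1
    · rcases Nat.lt_or_ge i (l + 1) with h' | h'
      · exact hwmid i h (by omega)
      · rw [show i = l + 1 by omega]; exact hwl
  have haval : ∀ i j, i < l + 2 → j < l + 2 → j ≠ i →
      T.a (phi7 q l x y i) (phi7 q l x y j) = T.w (phi7 q l x y 0) * dE l i j := by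
    intro i j hi hj hji
    rw [a_eq T, hcc i j hi hj hji, hwall i hi]
  have u0 : u 0 = 1 := by rw [hu_def]; ev
  have hmall : ∀ i, i < l + 2 → T.m (phi7 q l x y i) = (u i : ℤ) * T.m (phi7 q l x y 0) := by
    intro i hi
    have := hm i 0 hi (by omega)
    rw [u0] at this
    push_cast at this
    linarith
  unfold Goal
  refine ⟨mkPerm (phi7 q l x y) hinj', T.m (phi7 q l x y 0), T.w (phi7 q l x y 0),
    Or.inr (Or.inr (Or.inr (Or.inr (Or.inr (Or.inr ?_)))))⟩
  unfold Fam7
  refine ⟨?_, ?_, ?_, ?_, ?_, ?_, ?_, ?_, ?_⟩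
  · intro i hi
    show T.m (phi7 q l x y i.val) = _
    have ui : u i.val = 1 := by rw [hu_def]; ev
    rw [hmall i.val (by have := i.2; omega), ui]; norm_num
  · intro i hi
    show T.m (phi7 q l x y i.val) = _
    have ui : u i.val = 2 := by rw [hu_def]; ev
    rw [hmall i.val (by have := i.2; omega), ui]; norm_num
  · intro i hi
    show T.m (phi7 q l x y i.val) = _
    have := i.2
    have ui : u i.val = 1 := by rw [hu_def]; ev
    rw [hmall i.val (by omega), ui]; norm_num
  · intro i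
    show T.w (phi7 q l x y i.val) = _
    exact hwall i.val (by have := i.2; omega)
  · intro i j hij h
    show T.a (phi7 q l x y i.val) (phi7 q l x y j.val) = _
    have := j.2
    rw [haval i.val j.val (by omega) (by omega) (by omega)]
    unfold dE; rw [if_pos (by omega), mul_one]
  · intro i j hij h
    show T.a (phi7 q l x y i.val) (phi7 q l x y j.val) = _
    have := j.2
    rw [haval i.val j.val (by omega) (by omega) (by omega)]
    unfold dE; rw [if_pos (by omega), mul_one]
  · intro i j hij h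
    show T.a (phi7 q l x y i.val) (phi7 q l x y j.val) = _
    have := j.2
    rw [haval i.val j.val (by omega) (by omega) (by omega)]
    unfold dE; rw [if_pos (by omega), mul_one]
  · intro i j hij h
    show T.a (phi7 q l x y i.val) (phi7 q l x y j.val) = _
    have := j.2
    rw [haval i.val j.val (by omega) (by omega) (by omega)]
    unfold dE; rw [if_pos (by omega), mul_one]
  · intro i j hij h1 h2 h3 h4
    show T.a (phi7 q l x y i.val) (phi7 q l x y j.val) = _
    have := j.2
    rw [haval i.val j.val (by omega) (by omega) (by omega)]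
    unfold dE; rw [if_neg (by omega), mul_zero]

end Groth.Agent.Lib.G1GenH1
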