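import Mathlib
import Groth.Prelude.Def_Models
import Groth.Agent.Lib.G1Gen5_helper1

/-! Genus-one classification for general `n` (helper1): exclusion certificates. -/

set_option autoImplicit false
set_option maxHeartbeats 1000000

namespace Groth.Agent.Lib.G1GenH1

open Finset Models Groth.Agent.Lib.G1

variable {n : ℕ} {T : NumericalType n}

/-- evaluate if-then-else arithmetic -/
local macro "ev" : tactic =>
  `(tactic| (split_ifs <;> first | rfl | contradiction | omega | (norm_num; done)))

lemma surj_of_injOn {p : ℕ → Fin n} (h : InjOn p n) : ∀ x : Fin n, ∃ r, r < n ∧ p r = x := by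
  have hinj : Function.Injective (fun i : Fin n => p i.val) :=
    fun i j e => Fin.ext (h i.val j.val i.2 j.2 e)
  intro x
  obtain ⟨i, hi⟩ := (Finite.injective_iff_surjective.1 hinj) x
  exact ⟨i.val, i.2, hi⟩

/-- superharmonic certificate supported on a path, with lower bounds on the edges -/
theorem path_super_false (hd : ∀ i, T.a i i = -2 * T.w i) {q : ℕ → Fin n} {K : ℕ}
    (hq : IsPath T q K) (hK : 2 ≤ K) (hKn : K < n) (u : ℕ → ℕ) (lo lo' : ℕ → ℤ)
    (h0 : ∃ i, i < K ∧ 0 < u i)
    (hlo : ∀ r, r + 1 < K → lo r ≤ cc T (q r) (q (r + 1)))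
    (hlo' : ∀ r, r + 1 < K → lo' r ≤ cc T (q (r + 1)) (q r))
    (hrow : ∀ i, i < K → 0 < u i → 2 * (u i : ℤ) ≤
      (if 0 < i then lo' (i - 1) * (u (i - 1) : ℤ) else 0) +
      (if i + 1 < K then lo i * (u (i + 1) : ℤ) else 0)) : False := by
  refine cert_super_false hd hq.inj u h0 (fun i hi hui => ?_) hKn
  have h := hrow i hi hui
  have hfw : i + 1 < K → lo i * (u (i + 1) : ℤ) ≤ cc T (q i) (q (i + 1)) * (u (i + 1) : ℤ) :=
    fun h1 => mul_le_mul_of_nonneg_right (hlo i h1) (Nat.cast_nonneg _)
  have hbw : 0 < i → lo' (i - 1) * (u (i - 1) : ℤ) ≤ cc T (q i) (q (i - 1)) * (u (i - 1) : ℤ) := by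
    intro h1
    have := hlo' (i - 1) (by omega)
    rw [show i - 1 + 1 = i by omega] at this
    exact mul_le_mul_of_nonneg_right this (Nat.cast_nonneg _)
  by_cases h1 : 0 < i <;> by_cases h2 : i + 1 < K
  · rw [if_pos h1, if_pos h2] at h
    have := rsum_ge2 T hq.inj u hi (by omega : i - 1 < K) (by omega) h2 (by omega) (by omega)
    linarith [hfw h2, hbw h1]
  · rw [if_pos h1, if_neg h2] at h
    have := rsum_ge1 T hq.inj u hi (by omega : i - 1 < K) (by omega)
    linarith [hbw h1]
  · rw [if_neg h1, if_pos h2] at h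
    have := rsum_ge1 T hq.inj u hi h2 (by omega)
    linarith [hfw h2]
  · omega

/-- exact row sums along a path which is the whole graph -/
lemma rsum_path (hnc : NoCyc T) {p : ℕ → Fin n} {K : ℕ} (hp : IsPath T p K) (hK : 2 ≤ K)
    (u : ℕ → ℕ) {i : ℕ} (hi : i < K) :
    rsum T p K u i = (if 0 < i then cc T (p i) (p (i - 1)) * (u (i - 1) : ℤ) else 0) +
      (if i + 1 < K then cc T (p i) (p (i + 1)) * (u (i + 1) : ℤ) else 0) := by
  have hs : ∀ j ∈ chN K i, j < K ∧ j ≠ i := by
    intro j hj
    unfold chN at hj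
    split_ifs at hj with h1 h2 <;> simp only [Finset.mem_insert, Finset.mem_singleton] at hj <;> omega
  rw [rsum_eq_finset T hp.inj u hi (chN K i) hs (by
    intro j hj hji hjN
    rw [mem_chN hi hj] at hjN
    rw [cc_of_a_zero T (no_chord' hnc hp hi hj (by omega)), zero_mul])]
  unfold chN
  by_cases h1 : i = 0
  · rw [if_pos h1, Finset.sum_singleton, if_neg (by omega), if_pos (by omega), h1]; simp
  · rw [if_neg h1]
    by_cases h2 : i + 1 = K
    · rw [if_pos h2, Finset.sum_singleton, if_pos (by omega), if_neg (by omega)]; simp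
    · rw [if_neg h2, Finset.sum_pair (by omega), if_pos (by omega), if_pos (by omega)]

/-- subharmonic certificate on a path which is the whole graph -/
theorem path_sub_false (hd : ∀ i, T.a i i = -2 * T.w i) (hnc : NoCyc T) {p : ℕ → Fin n}
    (hp : IsPath T p n) (hn : 2 ≤ n) (u : ℕ → ℕ)
    (hrow : ∀ i, i < n → (if 0 < i then cc T (p i) (p (i - 1)) * (u (i - 1) : ℤ) else 0) +
      (if i + 1 < n then cc T (p i) (p (i + 1)) * (u (i + 1) : ℤ) else 0) ≤ 2 * (u i : ℤ))
    (hstrict : ∃ i, i < n ∧ (if 0 < i then cc T (p i) (p (i - 1)) * (u (i - 1) : ℤ) else 0) +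
      (if i + 1 < n then cc T (p i) (p (i + 1)) * (u (i + 1) : ℤ) else 0) < 2 * (u i : ℤ)) :
    False := by
  refine cert_sub hd hp.inj (surj_of_injOn hp.inj) u (fun i hi => ?_) ?_
  · rw [rsum_path hnc hp hn u hi]; exact hrow i hi
  · obtain ⟨i, hi, h⟩ := hstrict
    exact ⟨i, hi, by rw [rsum_path hnc hp hn u hi]; exact h⟩

/-! ### small fixed certificates -/

/-- an edge with both Cartan entries at least two -/
theorem excl_c5 (hd : ∀ i, T.a i i = -2 * T.w i) (hn : 3 ≤ n) {q : ℕ → Fin n} (hq : IsPath T q 2)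
    (h1 : 2 ≤ cc T (q 0) (q 1)) (h2 : 2 ≤ cc T (q 1) (q 0)) : False := by
  refine path_super_false hd hq (le_refl 2) (by omega) (fun _ => 1) (fun _ => 2) (fun _ => 2)
    ⟨0, by omega, by norm_num⟩ ?_ ?_ ?_
  · intro r hr
    have : r = 0 := by omega
    subst this; exact h1
  · intro r hr
    have : r = 0 := by omega
    subst this; exact h2
  · intro i hi _
    interval_cases i <;> norm_num

/-- an end edge with forward Cartan entry at least three -/
theorem excl_c4a (hd : ∀ i, T.a i i = -2 * T.w i) (hn : 4 ≤ n) {q : ℕ → Fin n} (hq : IsPath T q 3)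
    (h1 : 3 ≤ cc T (q 0) (q 1)) : False := by
  refine path_super_false hd hq (by omega) (by omega)
    (fun r => if r = 0 then 3 else if r = 1 then 2 else 1) (fun r => if r = 0 then 3 else 1)
    (fun _ => 1) ⟨0, by omega, by norm_num⟩ ?_ ?_ ?_
  · intro r hr
    show (if r = 0 then (3:ℤ) else 1) ≤ _
    split_ifs with h
    · subst h; exact h1
    · exact hq.cc_fwd hr
  · intro r hr
    exact hq.cc_bwd hr
  · intro i hi _
    interval_cases i <;> norm_num

/-- an end edge with backward Cartan entry at least three -/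
theorem excl_c4b (hd : ∀ i, T.a i i = -2 * T.w i) (hn : 4 ≤ n) {q : ℕ → Fin n} (hq : IsPath T q 3)
    (h1 : 3 ≤ cc T (q 1) (q 0)) : False := by
  refine path_super_false hd hq (by omega) (by omega)
    (fun r => if r = 0 then 1 else if r = 1 then 2 else 1) (fun _ => 1)
    (fun r => if r = 0 then 3 else 1) ⟨0, by omega, by norm_num⟩ ?_ ?_ ?_
  · intro r hr
    exact hq.cc_fwd hr
  · intro r hr
    show (if r = 0 then (3:ℤ) else 1) ≤ _
    split_ifs with h
    · subst h; exact h1
    · exact hq.cc_bwd hr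
  · intro i hi _
    interval_cases i <;> norm_num

/-- a double edge with two vertices before and one after -/
theorem excl_c6a (hd : ∀ i, T.a i i = -2 * T.w i) (hn : 6 ≤ n) {q : ℕ → Fin n} (hq : IsPath T q 5)
    (h1 : 2 ≤ cc T (q 2) (q 3)) : False := by
  refine path_super_false hd hq (by omega) (by omega)
    (fun r => if r = 0 then 1 else if r = 1 then 2 else if r = 2 then 3 else if r = 3 then 2 else 1)
    (fun r => if r = 2 then 2 else 1) (fun _ => 1) ⟨0, by omega, by norm_num⟩ ?_ ?_ ?_
  · intro r hr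
    show (if r = 2 then (2:ℤ) else 1) ≤ _
    split_ifs with h
    · subst h; exact h1
    · exact hq.cc_fwd hr
  · intro r hr
    exact hq.cc_bwd hr
  · intro i hi _
    interval_cases i <;> norm_num

/-- a double edge with one vertex before and two after -/
theorem excl_c6b (hd : ∀ i, T.a i i = -2 * T.w i) (hn : 6 ≤ n) {q : ℕ → Fin n} (hq : IsPath T q 5)
    (h1 : 2 ≤ cc T (q 1) (q 2)) : False := by
  refine path_super_false hd hq (by omega) (by omega)
    (fun r => if r = 0 then 2 else if r = 1 then 4 else if r = 2 then 3 else if r = 3 then 2 else 1)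
    (fun r => if r = 1 then 2 else 1) (fun _ => 1) ⟨0, by omega, by norm_num⟩ ?_ ?_ ?_
  · intro r hr
    show (if r = 1 then (2:ℤ) else 1) ≤ _
    split_ifs with h
    · subst h; exact h1
    · exact hq.cc_fwd hr
  · intro r hr
    exact hq.cc_bwd hr
  · intro i hi _
    interval_cases i <;> norm_num

end Groth.Agent.Lib.G1GenH1
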