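import Mathlib
import Groth.Prelude.Def_Models
import Groth.Agent.Lib.G1Gen6_helper1
import Groth.Agent.S7343
import Groth.Agent.S7344
import Groth.Agent.S7345
import Groth.Agent.S7351
import Groth.Agent.S7346

/-! Genus-one classification for general `n` (helper1): the `D_n` exclusion and wrappers
around helper5's local lemmas (completed E6, E7, E8, fourfold vertex, D4 subgraph). -/

set_option autoImplicit false
set_option maxHeartbeats 1000000

namespace Groth.Agent.Lib.G1GenH1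

open Finset Models Groth.Agent.Lib.G1

variable {n : ℕ} {T : NumericalType n}

/-- evaluate if-then-else arithmetic -/
local macro "ev" : tactic =>
  `(tactic| (split_ifs <;> first | rfl | contradiction | omega | (norm_num; done)))

def embOf (φ : ℕ → Fin n) (K : ℕ) (hinj : InjOn φ K) : Fin K ↪ Fin n :=
  ⟨fun j => φ j.val, fun i j e => Fin.ext (hinj i.val j.val i.2 j.2 e)⟩

lemma injOn_comp {ψ : ℕ → Fin n} {K M : ℕ} (hψ : InjOn ψ K) (c : ℕ → ℕ) (hc : ∀ i, i < M → c i < K)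
    (hcinj : ∀ i j, i < M → j < M → c i = c j → i = j) : InjOn (fun r => ψ (c r)) M :=
  fun i j hi hj e => hcinj i j hi hj (hψ (c i) (c j) (hc i hi) (hc j hj) e)

theorem excl_E6 (hm2 : ∀ i, T.IsMinusTwo i) (hn : 7 < n) {φ : ℕ → Fin n} (hφ : InjOn φ 7)
    (h01 : T.a (φ 0) (φ 1) ≠ 0) (h12 : T.a (φ 1) (φ 2) ≠ 0) (h34 : T.a (φ 3) (φ 4) ≠ 0)
    (h42 : T.a (φ 4) (φ 2) ≠ 0) (h56 : T.a (φ 5) (φ 6) ≠ 0) (h62 : T.a (φ 6) (φ 2) ≠ 0) : False :=
  Groth.Agent.S7343.result T hn (embOf φ 7 hφ) (fun _ => hm2 _) h01 h12 h34 h42 h56 h62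

theorem excl_E7 (hm2 : ∀ i, T.IsMinusTwo i) (hn : 8 < n) {φ : ℕ → Fin n} (hφ : InjOn φ 8)
    (h01 : T.a (φ 0) (φ 1) ≠ 0) (h12 : T.a (φ 1) (φ 2) ≠ 0) (h23 : T.a (φ 2) (φ 3) ≠ 0)
    (h34 : T.a (φ 3) (φ 4) ≠ 0) (h45 : T.a (φ 4) (φ 5) ≠ 0) (h56 : T.a (φ 5) (φ 6) ≠ 0)
    (h73 : T.a (φ 7) (φ 3) ≠ 0) : False :=
  Groth.Agent.S7344.result T hn (embOf φ 8 hφ) (fun _ => hm2 _) h01 h12 h23 h34 h45 h56 h73

theorem excl_E8 (hm2 : ∀ i, T.IsMinusTwo i) (hn : 9 < n) {φ : ℕ → Fin n} (hφ : InjOn φ 9)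
    (h01 : T.a (φ 0) (φ 1) ≠ 0) (h12 : T.a (φ 1) (φ 2) ≠ 0) (h23 : T.a (φ 2) (φ 3) ≠ 0)
    (h34 : T.a (φ 3) (φ 4) ≠ 0) (h45 : T.a (φ 4) (φ 5) ≠ 0) (h56 : T.a (φ 5) (φ 6) ≠ 0)
    (h67 : T.a (φ 6) (φ 7) ≠ 0) (h85 : T.a (φ 8) (φ 5) ≠ 0) : False :=
  Groth.Agent.S7345.result T hn (embOf φ 9 hφ) (fun _ => hm2 _) h01 h12 h23 h34 h45 h56 h67 h85

lemma a_pos_of_ne (T : NumericalType n) {x y : Fin n} (hxy : x ≠ y) (h : T.a x y ≠ 0) : 0 < T.a x y :=
  lt_of_le_of_ne (T.offDiag_nonneg x y hxy) (Ne.symm h)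

theorem excl_D4t (hm2 : ∀ i, T.IsMinusTwo i) (hn : 5 < n) {φ : ℕ → Fin n} (hφ : InjOn φ 5)
    (h01 : T.a (φ 0) (φ 1) ≠ 0) (h02 : T.a (φ 0) (φ 2) ≠ 0) (h03 : T.a (φ 0) (φ 3) ≠ 0)
    (h04 : T.a (φ 0) (φ 4) ≠ 0) : False :=
  Groth.Agent.S7351.result T hn (embOf φ 5 hφ) (fun _ => hm2 _)
    (a_pos_of_ne T (fun e => by have := hφ 0 1 (by omega) (by omega) e; omega) h01)
    (a_pos_of_ne T (fun e => by have := hφ 0 2 (by omega) (by omega) e; omega) h02)
    (a_pos_of_ne T (fun e => by have := hφ 0 3 (by omega) (by omega) e; omega) h03)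
    (a_pos_of_ne T (fun e => by have := hφ 0 4 (by omega) (by omega) e; omega) h04)

/-- at a vertex with three neighbours all three edges are simple -/
theorem star_simple (hm2 : ∀ i, T.IsMinusTwo i) (hn : 4 < n) {φ : ℕ → Fin n} (hφ : InjOn φ 4)
    (h01 : T.a (φ 0) (φ 1) ≠ 0) (h02 : T.a (φ 0) (φ 2) ≠ 0) (h03 : T.a (φ 0) (φ 3) ≠ 0) :
    cc T (φ 0) (φ 1) = 1 ∧ cc T (φ 1) (φ 0) = 1 ∧ cc T (φ 0) (φ 2) = 1 ∧ cc T (φ 2) (φ 0) = 1 ∧
    cc T (φ 0) (φ 3) = 1 ∧ cc T (φ 3) (φ 0) = 1 := by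
  obtain ⟨w, hw, e1, e2, e3, -⟩ :=
    Groth.Agent.S7346.result T hn (embOf φ 4 hφ) (fun _ => hm2 _) h01 h02 h03
  have w0 : T.w (φ 0) = w := hw 0
  have w1 : T.w (φ 1) = w := hw 1
  have w2 : T.w (φ 2) = w := hw 2
  have w3 : T.w (φ 3) = w := hw 3
  have e1' : T.a (φ 0) (φ 1) = w := e1
  have e2' : T.a (φ 0) (φ 2) = w := e2
  have e3' : T.a (φ 0) (φ 3) = w := e3
  have hwpos : 0 < w := w0 ▸ T.w_pos (φ 0)
  have key : ∀ x y : Fin n, T.w x = w → T.a x y = w → cc T x y = 1 := by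
    intro x y hx hxy
    have := a_eq T x y
    rw [hx, hxy] at this
    have h2 : w * cc T x y = w * 1 := by linarith
    exact mul_left_cancel₀ hwpos.ne' h2
  refine ⟨key _ _ w0 e1', key _ _ w1 (by rw [a_symm]; exact e1'), key _ _ w0 e2',
    key _ _ w2 (by rw [a_symm]; exact e2'), key _ _ w0 e3', key _ _ w3 (by rw [a_symm]; exact e3')⟩

/-! ### the `D_n` exclusion -/

lemma rsum_fork (hnc : NoCyc T) {q : ℕ → Fin n} {l : ℕ} (hq : IsPath T q l) (hl : 3 ≤ l)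
    {x : Fin n} (hx : ∀ r, r < l → q r ≠ x)
    (hxz : ∀ i, i < l → i + 2 ≠ l → T.a (q i) x = 0) (u : ℕ → ℕ) {i : ℕ} (hi : i < l + 1) :
    rsum T (snoc q l x) (l + 1) u i =
      ∑ j ∈ fkN l i, cc T (snoc q l x i) (snoc q l x j) * (u j : ℤ) := by
  have hinj : InjOn (snoc q l x) (l + 1) := injOn_snoc hq.inj hx
  have hs : ∀ j ∈ fkN l i, j < l + 1 ∧ j ≠ i := by
    intro j hj
    unfold fkN at hj
    split_ifs at hj with h1 h2 h3 h4 <;>
      simp only [Finset.mem_insert, Finset.mem_singleton] at hj <;> omega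
  refine rsum_eq_finset T hinj u hi (fkN l i) hs ?_
  intro j hj hji hjN
  rw [mem_fkN hl hi hj] at hjN
  have hz : T.a (snoc q l x i) (snoc q l x j) = 0 := by
    rcases Nat.lt_or_ge i l with hil | hil <;> rcases Nat.lt_or_ge j l with hjl | hjl
    · rw [snoc_lt q x hil, snoc_lt q x hjl]
      exact no_chord' hnc hq hil hjl (by omega)
    · rw [snoc_lt q x hil, show j = l by omega, snoc_self]
      exact hxz i hil (by omega)
    · rw [show i = l by omega, snoc_self, snoc_lt q x hjl, a_symm]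
      exact hxz j hjl (by omega)
    · omega
  rw [cc_of_a_zero T hz, zero_mul]

theorem excl_Dn (hd : ∀ i, T.a i i = -2 * T.w i) (hnc : NoCyc T) {q : ℕ → Fin n} {l : ℕ}
    (hq : IsPath T q l) (hl : 4 ≤ l) {x : Fin n} (hx : ∀ r, r < l → q r ≠ x) (hnl : n = l + 1)
    (hxz : ∀ i, i < l → i + 2 ≠ l → T.a (q i) x = 0)
    (hs1 : ∀ r, r + 1 < l → cc T (q r) (q (r + 1)) = 1)
    (hs2 : ∀ r, r + 1 < l → cc T (q (r + 1)) (q r) = 1)
    (hx1 : cc T (q (l - 2)) x = 1) (hx2 : cc T x (q (l - 2)) = 1) : False := by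
  have hinj : InjOn (snoc q l x) (l + 1) := injOn_snoc hq.inj hx
  have hinj' : InjOn (snoc q l x) n := fun i j hi hj e => hinj i j (by omega) (by omega) e
  have hsurj : ∀ y : Fin n, ∃ r, r < l + 1 ∧ snoc q l x r = y := by
    intro y
    obtain ⟨r, hr, e⟩ := surj_of_injOn hinj' y
    exact ⟨r, by omega, e⟩
  obtain ⟨u, hu_def⟩ : ∃ u : ℕ → ℕ, ∀ r, u r = if r + 1 < l then 2 else 1 := ⟨_, fun _ => rfl⟩
  have hv : ∀ r, r < l → snoc q l x r = q r := fun r hr => snoc_lt q x hr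
  have hvl : snoc q l x l = x := snoc_self q x
  have hbw : ∀ i, 1 ≤ i → i < l → cc T (q i) (q (i - 1)) = 1 := by
    intro i h1 h2
    have := hs2 (i - 1) (by omega)
    rwa [show i - 1 + 1 = i by omega] at this
  have hrowval : ∀ i, i < l + 1 → rsum T (snoc q l x) (l + 1) u i =
      if i = 0 then 2 else if i + 2 = l then 4 else if i + 1 = l then 2 else if i = l then 2 else 4 := by
    intro i hi
    rw [rsum_fork hnc hq (by omega) hx hxz u hi]
    unfold fkN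
    by_cases h1 : i = 0
    · rw [if_pos h1, if_pos h1, Finset.sum_singleton, h1, hv 0 (by omega), hv 1 (by omega),
        hs1 0 (by omega), hu_def]
      ev
    · rw [if_neg h1, if_neg h1]
      by_cases h2 : i + 2 = l
      · rw [if_pos h2, if_pos h2, Finset.sum_insert (by
          rw [Finset.mem_insert, Finset.mem_singleton]; omega), Finset.sum_pair (by omega),
          hv i (by omega), hv (i - 1) (by omega), hv (i + 1) (by omega), hvl,
          hbw i (by omega) (by omega), hs1 i (by omega), show i = l - 2 by omega, hx1,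
          hu_def, hu_def, hu_def]
        ev
      · rw [if_neg h2, if_neg h2]
        by_cases h3 : i + 1 = l
        · rw [if_pos h3, if_pos h3, Finset.sum_singleton, hv i (by omega), hv (i - 1) (by omega),
            hbw i (by omega) (by omega), hu_def]
          ev
        · rw [if_neg h3, if_neg h3]
          by_cases h4 : i = l
          · rw [if_pos h4, if_pos h4, Finset.sum_singleton, h4, hvl, hv (l - 2) (by omega), hx2,
              hu_def]
            ev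
          · rw [if_neg h4, if_neg h4, Finset.sum_pair (by omega), hv i (by omega),
              hv (i - 1) (by omega), hv (i + 1) (by omega), hbw i (by omega) (by omega),
              hs1 i (by omega), hu_def, hu_def]
            ev
  refine cert_sub hd hinj hsurj u (fun i hi => ?_) ⟨0, by omega, ?_⟩
  · rw [hrowval i hi, hu_def]
    ev
  · rw [hrowval 0 (by omega), hu_def]
    ev

end Groth.Agent.Lib.G1GenH1
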