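import Mathlib
import Groth.Prelude.Def_Models
import Groth.Agent.Lib.G1Gen7_helper1

/-! Genus-one classification for general `n` (helper1): the combinatorial skeleton
(longest path, case analysis on the shape of the dual graph). -/

set_option autoImplicit false
set_option maxHeartbeats 1000000

namespace Groth.Agent.Lib.G1GenH1

open Finset Models Groth.Agent.Lib.G1

variable {n : ℕ} {T : NumericalType n} {p : ℕ → Fin n} {k : ℕ}

/-- evaluate if-then-else arithmetic -/
local macro "ev" : tactic =>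
  `(tactic| (split_ifs <;> first | rfl | contradiction | omega | (norm_num; done)))

lemma shift_apply (p : ℕ → Fin n) (t r m : ℕ) (h : r + t = m) : shift p t r = p m := by
  subst h; rfl

lemma rev_apply (p : ℕ → Fin n) (k r m : ℕ) (h : k - 1 - r = m) : rev p k r = p m := by
  subst h; rfl

lemma path_edge (hp : IsPath T p k) {i j : ℕ} (hj : j < k) (h : i + 1 = j) :
    T.a (p i) (p j) ≠ 0 := by
  subst h; exact hp.adj i hj

lemma path_edge' (hp : IsPath T p k) {i j : ℕ} (hi : i < k) (h : j + 1 = i) :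
    T.a (p i) (p j) ≠ 0 := by
  rw [a_symm]; exact path_edge hp hi h

/-- `x` is not on the path -/
def Off (p : ℕ → Fin n) (k : ℕ) (x : Fin n) : Prop := ∀ r, r < k → p r ≠ x

/-! ### longest paths -/

lemma end_left (hnc : NoCyc T) (hp : IsPath T p k) (hk : 3 ≤ k)
    (hmax : ∀ k' p', IsPath T p' k' → k' ≤ k) {x : Fin n} (hx0 : x ≠ p 0)
    (h : T.a (p 0) x ≠ 0) : x = p 1 := by
  by_cases hoff : ∃ r, r < k ∧ p r = x
  · obtain ⟨r, hr, rfl⟩ := hoff
    by_cases h1 : r = 1
    · rw [h1]
    · exfalso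
      have h0 : r ≠ 0 := fun e => hx0 (by rw [e])
      exact h (no_chord hnc hp (by omega) hr)
  · exfalso
    push Not at hoff
    have := hmax _ _ (hp.cons (by omega) hoff (by rw [a_symm]; exact h))
    omega

lemma end_right (hnc : NoCyc T) (hp : IsPath T p k) (hk : 3 ≤ k)
    (hmax : ∀ k' p', IsPath T p' k' → k' ≤ k) {x : Fin n} (hx0 : x ≠ p (k - 1))
    (h : T.a (p (k - 1)) x ≠ 0) : x = p (k - 2) := by
  by_cases hoff : ∃ r, r < k ∧ p r = x
  · obtain ⟨r, hr, rfl⟩ := hoff
    by_cases h1 : r = k - 2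
    · rw [h1]
    · exfalso
      have h0 : r ≠ k - 1 := fun e => hx0 (by rw [e])
      apply h
      rw [a_symm]
      exact no_chord hnc hp (by omega) (by omega)
  · exfalso
    push Not at hoff
    have := hmax _ _ (hp.snoc (by omega) hoff h)
    omega

lemma off_attach (hnc : NoCyc T) (hp : IsPath T p k) (hk : 3 ≤ k)
    (hmax : ∀ k' p', IsPath T p' k' → k' ≤ k) {x : Fin n} (hx : Off p k x) {t : ℕ} (ht : t < k)
    (h : T.a (p t) x ≠ 0) : 1 ≤ t ∧ t + 2 ≤ k := by
  constructor
  · by_contra h0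
    have e : t = 0 := by omega
    subst e
    exact hx 1 (by omega) (end_left hnc hp hk hmax (hx 0 (by omega)).symm h).symm
  · by_contra h0
    have e : t = k - 1 := by omega
    subst e
    exact hx (k - 2) (by omega)
      (end_right hnc hp hk hmax (hx (k - 1) (by omega)).symm h).symm

lemma off_off (hp : IsPath T p k)
    (hmax : ∀ k' p', IsPath T p' k' → k' ≤ k) {x y : Fin n} (hx : Off p k x) (hy : Off p k y)
    (hxy : x ≠ y) {t : ℕ} (ht : t < k) (h : T.a (p t) x ≠ 0) (hxy' : T.a x y ≠ 0) :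
    2 ≤ t ∧ t + 3 ≤ k := by
  constructor
  · have h1 : IsPath T (cons x (shift p t)) (k - t + 1) :=
      (hp.shift t).cons (by omega)
        (fun r hr => by rw [shift_apply p t r (r + t) rfl]; exact hx _ (by omega))
        (by rw [shift_apply p t 0 t (by omega), a_symm]; exact h)
    have h2 : IsPath T (cons y (cons x (shift p t))) (k - t + 1 + 1) := by
      refine h1.cons (by omega) (fun r hr => ?_) (by rw [cons_zero, a_symm]; exact hxy')
      rcases Nat.eq_zero_or_pos r with h0 | h0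
      · rw [h0, cons_zero]; exact hxy
      · obtain ⟨r', rfl⟩ : ∃ r', r = r' + 1 := ⟨r - 1, by omega⟩
        rw [cons_succ, shift_apply p t r' (r' + t) rfl]
        exact hy _ (by omega)
    have := hmax _ _ h2
    omega
  · have h1 : IsPath T (snoc p (t + 1) x) (t + 1 + 1) :=
      (hp.mono (by omega : t + 1 ≤ k)).snoc (by omega) (fun r hr => hx r (by omega))
        (by rw [Nat.add_sub_cancel]; exact h)
    have h2 : IsPath T (snoc (snoc p (t + 1) x) (t + 1 + 1) y) (t + 1 + 1 + 1) := by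
      refine h1.snoc (by omega) (fun r hr => ?_)
        (by rw [Nat.add_sub_cancel, snoc_self]; exact hxy')
      rcases Nat.lt_or_ge r (t + 1) with h0 | h0
      · rw [snoc_lt p x h0]; exact hy r (by omega)
      · have e : r = t + 1 := by omega
        rw [e, snoc_self]; exact hxy
    have := hmax _ _ h2
    omega

/-! ### connectivity -/

lemma exists_attached (hk : 0 < k) {v : Fin n} (hv : Off p k v) :
    ∃ t x, t < k ∧ Off p k x ∧ T.a (p t) x ≠ 0 := by
  classical
  have hne : ((Finset.range k).image p).Nonempty :=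
    ⟨p 0, Finset.mem_image.2 ⟨0, Finset.mem_range.2 hk, rfl⟩⟩
  have hnu : (Finset.range k).image p ≠ Finset.univ := by
    intro h
    have hv' : v ∈ (Finset.range k).image p := by rw [h]; exact Finset.mem_univ v
    obtain ⟨r, hr, e⟩ := Finset.mem_image.1 hv'
    exact hv r (Finset.mem_range.1 hr) e
  obtain ⟨i, hi, j, hj, hij⟩ := T.connected _ hne hnu
  obtain ⟨t, ht, rfl⟩ := Finset.mem_image.1 hi
  exact ⟨t, j, Finset.mem_range.1 ht,
    fun r hr e => hj (Finset.mem_image.2 ⟨r, Finset.mem_range.2 hr, e⟩), hij⟩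

lemma exists_second {x y : Fin n} (hy : Off p k y) (hyx : y ≠ x) :
    ∃ z, Off p k z ∧ z ≠ x ∧ ((∃ s, s < k ∧ T.a (p s) z ≠ 0) ∨ T.a x z ≠ 0) := by
  classical
  have hne : (insert x ((Finset.range k).image p)).Nonempty := ⟨x, Finset.mem_insert_self _ _⟩
  have hnu : insert x ((Finset.range k).image p) ≠ Finset.univ := by
    intro h
    have hv' : y ∈ insert x ((Finset.range k).image p) := by rw [h]; exact Finset.mem_univ y
    rcases Finset.mem_insert.1 hv' with e | hv''
    · exact hyx e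
    · obtain ⟨r, hr, e⟩ := Finset.mem_image.1 hv''
      exact hy r (Finset.mem_range.1 hr) e
  obtain ⟨i, hi, j, hj, hij⟩ := T.connected _ hne hnu
  have hjx : j ≠ x := fun e => hj (by rw [e]; exact Finset.mem_insert_self _ _)
  have hjoff : Off p k j := fun r hr e =>
    hj (Finset.mem_insert_of_mem (Finset.mem_image.2 ⟨r, Finset.mem_range.2 hr, e⟩))
  rcases Finset.mem_insert.1 hi with e | hi'
  · rw [e] at hij
    exact ⟨j, hjoff, hjx, Or.inr hij⟩
  · obtain ⟨s, hs, e⟩ := Finset.mem_image.1 hi'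
    rw [← e] at hij
    exact ⟨j, hjoff, hjx, Or.inl ⟨s, Finset.mem_range.1 hs, hij⟩⟩

/-! ### Case B: the graph is a path -/

/-- non-simple edge -/
def NS (T : NumericalType n) (p : ℕ → Fin n) (s : ℕ) : Prop :=
  2 ≤ cc T (p s) (p (s + 1)) ∨ 2 ≤ cc T (p (s + 1)) (p s)

lemma simple_of_not_ns (hp : IsPath T p k) {s : ℕ} (hs : s + 1 < k) (h : ¬ NS T p s) :
    cc T (p s) (p (s + 1)) = 1 ∧ cc T (p (s + 1)) (p s) = 1 := by
  unfold NS at h
  push Not at h
  have h1 := hp.cc_fwd hs
  have h2 := hp.cc_bwd hs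
  constructor <;> omega

theorem two_ns (hd : ∀ i, T.a i i = -2 * T.w i) (hp : IsPath T p k) {s s' : ℕ} (hss : s < s')
    (hs' : s' + 1 < k) (h1 : NS T p s) (h2 : NS T p s') : Goal T := by
  obtain ⟨l, hl_def⟩ : ∃ l, l = s' - s + 2 := ⟨_, rfl⟩
  have hq : IsPath T (shift p s) l := (hp.shift s).mono (by omega)
  have hl : 3 ≤ l := by omega
  have e0 : shift p s 0 = p s := shift_apply p s 0 s (by omega)
  have e1 : shift p s 1 = p (s + 1) := shift_apply p s 1 (s + 1) (by omega)
  have el1 : shift p s (l - 1) = p (s' + 1) := shift_apply p s (l - 1) (s' + 1) (by omega)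
  have el2 : shift p s (l - 2) = p s' := shift_apply p s (l - 2) s' (by omega)
  rcases h1 with h1 | h1 <;> rcases h2 with h2 | h2
  · exact fam2 hd hq hl (by rw [e0, e1]; exact h1) (by rw [el2, el1]; exact h2)
  · exact fam3 hd hq hl (by rw [e0, e1]; exact h1) (by rw [el1, el2]; exact h2)
  · exact fam4 hd hq hl (by rw [e1, e0]; exact h1) (by rw [el2, el1]; exact h2)
  · have hr := hq.rev
    refine fam2 hd hr hl ?_ ?_
    · rw [rev_apply (shift p s) l 0 (l - 1) (by omega),
        rev_apply (shift p s) l 1 (l - 2) (by omega), el1, el2]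
      exact h2
    · rw [rev_apply (shift p s) l (l - 2) 1 (by omega),
        rev_apply (shift p s) l (l - 1) 0 (by omega), e1, e0]
      exact h1

theorem single_ns (hd : ∀ i, T.a i i = -2 * T.w i) (hnc : NoCyc T) (hn : 10 ≤ n)
    (hp : IsPath T p n) {s : ℕ} (hs : s + 1 < n) (hF : 2 ≤ cc T (p s) (p (s + 1)))
    (hsimp : ∀ r, r + 1 < n → r ≠ s →
      cc T (p r) (p (r + 1)) = 1 ∧ cc T (p (r + 1)) (p r) = 1) : False := by
  have hB := hp.cc_bwd hs
  by_cases c1 : 1 ≤ s ∧ s + 4 ≤ n
  · have hq : IsPath T (shift p (s - 1)) 5 := (hp.shift (s - 1)).mono (by omega)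
    refine excl_c6b hd (by omega) hq ?_
    rw [shift_apply p (s - 1) 1 s (by omega), shift_apply p (s - 1) 2 (s + 1) (by omega)]
    exact hF
  by_cases c2 : s + 3 = n
  · have hq : IsPath T (shift p (s - 2)) 5 := (hp.shift (s - 2)).mono (by omega)
    refine excl_c6a hd (by omega) hq ?_
    rw [shift_apply p (s - 2) 2 s (by omega), shift_apply p (s - 2) 3 (s + 1) (by omega)]
    exact hF
  by_cases c3 : s = 0
  · subst c3
    by_cases hb2 : 2 ≤ cc T (p (0 + 1)) (p 0)
    · exact excl_c5 hd (by omega) (hp.mono (by omega)) hF hb2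
    by_cases hf3 : 3 ≤ cc T (p 0) (p (0 + 1))
    · exact excl_c4a hd (by omega) (hp.mono (by omega)) hf3
    have hF2 : cc T (p 0) (p (0 + 1)) = 2 := by omega
    have hB1 : cc T (p (0 + 1)) (p 0) = 1 := by omega
    obtain ⟨u, hu⟩ : ∃ u : ℕ → ℕ, ∀ r, u r = 1 := ⟨fun _ => 1, fun _ => rfl⟩
    have hfw : ∀ i, 0 < i → i + 1 < n → cc T (p i) (p (i + 1)) = 1 :=
      fun i h0 h1 => (hsimp i h1 (by omega)).1
    have hfw0 : ∀ i, i = 0 → cc T (p i) (p (i + 1)) = 2 := by
      intro i h; subst h; exact hF2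
    have hbw : ∀ i, 0 < i → i < n → cc T (p i) (p (i - 1)) = 1 := by
      intro i h0 h1
      by_cases h3 : i = 1
      · subst h3; exact hB1
      · have := (hsimp (i - 1) (by omega) (by omega)).2
        rwa [show i - 1 + 1 = i by omega] at this
    refine path_sub_false hd hnc hp (by omega) u (fun i hi => ?_) ⟨n - 1, by omega, ?_⟩
    · simp only [hu]
      by_cases h1 : 0 < i <;> by_cases h2 : i + 1 < n
      · rw [if_pos h1, if_pos h2, hbw i h1 hi, hfw i h1 h2]; norm_num
      · rw [if_pos h1, if_neg h2, hbw i h1 hi]; norm_num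
      · rw [if_neg h1, if_pos h2, hfw0 i (by omega)]; norm_num
      · exfalso; omega
    · simp only [hu]
      rw [if_pos (show 0 < n - 1 by omega), if_neg (show ¬ (n - 1 + 1 < n) by omega),
        hbw (n - 1) (by omega) (by omega)]
      norm_num
  · have hs2 : s + 2 = n := by omega
    by_cases hb2 : 2 ≤ cc T (p (s + 1)) (p s)
    · have hq : IsPath T (shift p s) 2 := (hp.shift s).mono (by omega)
      refine excl_c5 hd (by omega) hq ?_ ?_
      · rw [shift_apply p s 0 s (by omega), shift_apply p s 1 (s + 1) (by omega)]; exact hF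
      · rw [shift_apply p s 1 (s + 1) (by omega), shift_apply p s 0 s (by omega)]; exact hb2
    by_cases hf3 : 3 ≤ cc T (p s) (p (s + 1))
    · have hq : IsPath T (rev p n) 3 := hp.rev.mono (by omega)
      refine excl_c4b hd (by omega) hq ?_
      rw [rev_apply p n 1 s (by omega), rev_apply p n 0 (s + 1) (by omega)]
      exact hf3
    have hF2 : cc T (p s) (p (s + 1)) = 2 := by omega
    have hB1 : cc T (p (s + 1)) (p s) = 1 := by omega
    obtain ⟨u, hu⟩ : ∃ u : ℕ → ℕ, ∀ r, u r = if r + 1 = n then 1 else 2 := ⟨_, fun _ => rfl⟩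
    have hU : ∀ r, r + 1 < n → u r = 2 := fun r h => by rw [hu]; ev
    have hU1 : ∀ r, r + 1 = n → u r = 1 := fun r h => by rw [hu]; ev
    have hfw : ∀ i, i + 2 < n → cc T (p i) (p (i + 1)) = 1 :=
      fun i h => (hsimp i (by omega) (by omega)).1
    have hfws : ∀ i, i + 2 = n → cc T (p i) (p (i + 1)) = 2 := by
      intro i h
      have e : i = s := by omega
      rw [e]; exact hF2
    have hbw : ∀ i, 0 < i → i < n → cc T (p i) (p (i - 1)) = 1 := by
      intro i h0 h1
      by_cases h3 : i = s + 1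
      · rw [h3, Nat.add_sub_cancel]; exact hB1
      · have := (hsimp (i - 1) (by omega) (by omega)).2
        rwa [show i - 1 + 1 = i by omega] at this
    refine path_sub_false hd hnc hp (by omega) u (fun i hi => ?_) ⟨0, by omega, ?_⟩
    · by_cases h1 : 0 < i
      · by_cases h2 : i + 2 < n
        · rw [if_pos h1, if_pos (show i + 1 < n by omega), hbw i h1 hi, hfw i h2,
            hU (i - 1) (by omega), hU (i + 1) (by omega), hU i (by omega)]
          norm_num
        · by_cases h3 : i + 2 = n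
          · rw [if_pos h1, if_pos (show i + 1 < n by omega), hbw i h1 hi, hfws i h3,
              hU (i - 1) (by omega), hU1 (i + 1) (by omega), hU i (by omega)]
            norm_num
          · rw [if_pos h1, if_neg (show ¬ (i + 1 < n) by omega), hbw i h1 hi,
              hU (i - 1) (by omega), hU1 i (by omega)]
            norm_num
      · rw [if_neg h1, if_pos (show i + 1 < n by omega), hfw i (by omega),
          hU (i + 1) (by omega), hU i (by omega)]
        norm_num
    · rw [if_neg (show ¬ (0 < 0) by omega), if_pos (show 0 + 1 < n by omega),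
        hfw 0 (by omega), hU (0 + 1) (by omega), hU 0 (by omega)]
      norm_num

theorem single_ns' (hd : ∀ i, T.a i i = -2 * T.w i) (hnc : NoCyc T) (hn : 10 ≤ n)
    (hp : IsPath T p n) {s : ℕ} (hs : s + 1 < n) (hB : 2 ≤ cc T (p (s + 1)) (p s))
    (hsimp : ∀ r, r + 1 < n → r ≠ s →
      cc T (p r) (p (r + 1)) = 1 ∧ cc T (p (r + 1)) (p r) = 1) : False := by
  refine single_ns hd hnc hn hp.rev (s := n - 2 - s) (by omega) ?_ ?_
  · rw [rev_apply p n (n - 2 - s) (s + 1) (by omega),
      rev_apply p n (n - 2 - s + 1) s (by omega)]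
    exact hB
  · intro r hr hrs
    rw [rev_apply p n r (n - 2 - r + 1) (by omega), rev_apply p n (r + 1) (n - 2 - r) (by omega)]
    have := hsimp (n - 2 - r) (by omega) (by omega)
    exact ⟨this.2, this.1⟩

theorem caseB (hd : ∀ i, T.a i i = -2 * T.w i) (hnc : NoCyc T) (hn : 10 ≤ n)
    (hp : IsPath T p n) : Goal T := by
  by_cases h2 : ∃ s s', s < s' ∧ s' + 1 < n ∧ NS T p s ∧ NS T p s'
  · obtain ⟨s, s', hss, hs', hns, hns'⟩ := h2
    exact two_ns hd hp hss hs' hns hns'
  exfalso
  by_cases h1 : ∃ s, s + 1 < n ∧ NS T p s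
  · obtain ⟨s, hs, hns⟩ := h1
    have hsimp : ∀ r, r + 1 < n → r ≠ s →
        cc T (p r) (p (r + 1)) = 1 ∧ cc T (p (r + 1)) (p r) = 1 := by
      intro r hr hrs
      refine simple_of_not_ns hp hr (fun hnsr => h2 ?_)
      rcases Nat.lt_or_gt_of_ne hrs with h | h
      · exact ⟨r, s, h, hs, hnsr, hns⟩
      · exact ⟨s, r, h, hr, hns, hnsr⟩
    rcases hns with hF | hB
    · exact single_ns hd hnc hn hp hs hF hsimp
    · exact single_ns' hd hnc hn hp hs hB hsimp
  · have hsimp : ∀ r, r + 1 < n → cc T (p r) (p (r + 1)) = 1 ∧ cc T (p (r + 1)) (p r) = 1 :=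
      fun r hr => simple_of_not_ns hp hr (fun hnsr => h1 ⟨r, hr, hnsr⟩)
    obtain ⟨u, hu⟩ : ∃ u : ℕ → ℕ, ∀ r, u r = 1 := ⟨fun _ => 1, fun _ => rfl⟩
    have hbw : ∀ i, 0 < i → i < n → cc T (p i) (p (i - 1)) = 1 := by
      intro i h0 h1
      have := (hsimp (i - 1) (by omega)).2
      rwa [show i - 1 + 1 = i by omega] at this
    refine path_sub_false hd hnc hp (by omega) u (fun i hi => ?_) ⟨0, by omega, ?_⟩
    · simp only [hu]
      by_cases h3 : 0 < i <;> by_cases h4 : i + 1 < n
      · rw [if_pos h3, if_pos h4, hbw i h3 hi, (hsimp i h4).1]; norm_num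
      · rw [if_pos h3, if_neg h4, hbw i h3 hi]; norm_num
      · rw [if_neg h3, if_pos h4, (hsimp i h4).1]; norm_num
      · exfalso; omega
    · simp only [hu]
      rw [if_neg (show ¬ (0 < 0) by omega), if_pos (show 0 + 1 < n by omega),
        (hsimp 0 (by omega)).1]
      norm_num

/-! ### Case A: embeddings of the forbidden subgraphs -/

def ext2 (p : ℕ → Fin n) (k : ℕ) (x y : Fin n) : ℕ → Fin n := snoc (snoc p k x) (k + 1) y

lemma ext2_lt (p : ℕ → Fin n) (x y : Fin n) {r : ℕ} (h : r < k) : ext2 p k x y r = p r := by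
  unfold ext2
  rw [snoc_lt _ y (show r < k + 1 by omega), snoc_lt p x h]

lemma ext2_k (p : ℕ → Fin n) (x y : Fin n) : ext2 p k x y k = x := by
  unfold ext2
  rw [snoc_lt _ y (show k < k + 1 by omega), snoc_self]

lemma ext2_k1 (p : ℕ → Fin n) (x y : Fin n) : ext2 p k x y (k + 1) = y := by
  unfold ext2
  rw [snoc_self]

lemma injOn_ext2 (hinj : InjOn p k) {x y : Fin n} (hx : Off p k x) (hy : Off p k y)
    (hxy : x ≠ y) : InjOn (ext2 p k x y) (k + 2) := by
  refine injOn_snoc (injOn_snoc hinj hx) (fun r hr => ?_)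
  rcases Nat.lt_or_ge r k with h | h
  · rw [snoc_lt p x h]; exact hy r h
  · have e : r = k := by omega
    rw [e, snoc_self]; exact hxy

lemma emb_build {ψ : ℕ → Fin n} {K : ℕ} (hψ : InjOn ψ K) (c : ℕ → ℕ) (M : ℕ)
    (hc : ∀ i, i < M → c i < K) (hcinj : ∀ i j, i < M → j < M → c i = c j → i = j) :
    ∃ φ : ℕ → Fin n, InjOn φ M ∧ ∀ r, φ r = ψ (c r) :=
  ⟨fun r => ψ (c r), injOn_comp hψ c hc hcinj, fun _ => rfl⟩

/-- `x` attached in the middle of a long path: completed `E7` -/
theorem attach_mid (hm2 : ∀ i, T.IsMinusTwo i) (hn : 8 < n) (hp : IsPath T p k) {x : Fin n}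
    (hx : Off p k x) {t : ℕ} (ht3 : 3 ≤ t) (htk : t + 4 ≤ k) (h : T.a (p t) x ≠ 0) : False := by
  obtain ⟨c, hc_def⟩ : ∃ c : ℕ → ℕ, ∀ r, c r = if r = 7 then k else t - 3 + r :=
    ⟨_, fun _ => rfl⟩
  obtain ⟨φ, hφinj, hφ⟩ := emb_build (injOn_snoc hp.inj hx) c 8
    (fun i hi => by rw [hc_def]; split_ifs <;> omega)
    (fun i j hi hj e => by rw [hc_def, hc_def] at e; split_ifs at e <;> omega)
  have hv : ∀ r, r < 7 → φ r = p (t - 3 + r) := fun r hr => by
    rw [hφ, hc_def, if_neg (show ¬ r = 7 by omega), snoc_lt p x (show t - 3 + r < k by omega)]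
  have h7 : φ 7 = x := by rw [hφ, hc_def, if_pos rfl, snoc_self]
  refine excl_E7 hm2 hn hφinj ?_ ?_ ?_ ?_ ?_ ?_ ?_
  · rw [hv 0 (by omega), hv 1 (by omega)]; exact path_edge hp (by omega) (by omega)
  · rw [hv 1 (by omega), hv 2 (by omega)]; exact path_edge hp (by omega) (by omega)
  · rw [hv 2 (by omega), hv 3 (by omega)]; exact path_edge hp (by omega) (by omega)
  · rw [hv 3 (by omega), hv 4 (by omega)]; exact path_edge hp (by omega) (by omega)
  · rw [hv 4 (by omega), hv 5 (by omega)]; exact path_edge hp (by omega) (by omega)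
  · rw [hv 5 (by omega), hv 6 (by omega)]; exact path_edge hp (by omega) (by omega)
  · rw [h7, hv 3 (by omega), show t - 3 + 3 = t by omega, a_symm]; exact h

/-- `x` attached at `p 2`: completed `E8` -/
theorem attach_two (hm2 : ∀ i, T.IsMinusTwo i) (hn : 9 < n) (hp : IsPath T p k) (hk : 8 ≤ k)
    {x : Fin n} (hx : Off p k x) (h : T.a (p 2) x ≠ 0) : False := by
  obtain ⟨c, hc_def⟩ : ∃ c : ℕ → ℕ, ∀ r, c r = if r = 8 then k else 7 - r :=
    ⟨_, fun _ => rfl⟩
  obtain ⟨φ, hφinj, hφ⟩ := emb_build (injOn_snoc hp.inj hx) c 9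
    (fun i hi => by rw [hc_def]; split_ifs <;> omega)
    (fun i j hi hj e => by rw [hc_def, hc_def] at e; split_ifs at e <;> omega)
  have hv : ∀ r, r < 8 → φ r = p (7 - r) := fun r hr => by
    rw [hφ, hc_def, if_neg (show ¬ r = 8 by omega), snoc_lt p x (show 7 - r < k by omega)]
  have h8 : φ 8 = x := by rw [hφ, hc_def, if_pos rfl, snoc_self]
  have e5 : φ 5 = p 2 := hv 5 (by omega)
  refine excl_E8 hm2 hn hφinj ?_ ?_ ?_ ?_ ?_ ?_ ?_ ?_
  · rw [hv 0 (by omega), hv 1 (by omega)]; exact path_edge' hp (by omega) (by omega)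
  · rw [hv 1 (by omega), hv 2 (by omega)]; exact path_edge' hp (by omega) (by omega)
  · rw [hv 2 (by omega), hv 3 (by omega)]; exact path_edge' hp (by omega) (by omega)
  · rw [hv 3 (by omega), hv 4 (by omega)]; exact path_edge' hp (by omega) (by omega)
  · rw [hv 4 (by omega), hv 5 (by omega)]; exact path_edge' hp (by omega) (by omega)
  · rw [hv 5 (by omega), hv 6 (by omega)]; exact path_edge' hp (by omega) (by omega)
  · rw [hv 6 (by omega), hv 7 (by omega)]; exact path_edge' hp (by omega) (by omega)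
  · rw [h8, e5, a_symm]; exact h

/-- `x` attached at `p (k-3)`: completed `E8` -/
theorem attach_km3 (hm2 : ∀ i, T.IsMinusTwo i) (hn : 9 < n) (hp : IsPath T p k) (hk : 8 ≤ k)
    {x : Fin n} (hx : Off p k x) {t : ℕ} (ht : t + 3 = k) (h : T.a (p t) x ≠ 0) : False := by
  obtain ⟨c, hc_def⟩ : ∃ c : ℕ → ℕ, ∀ r, c r = if r = 8 then k else k - 8 + r :=
    ⟨_, fun _ => rfl⟩
  obtain ⟨φ, hφinj, hφ⟩ := emb_build (injOn_snoc hp.inj hx) c 9
    (fun i hi => by rw [hc_def]; split_ifs <;> omega)
    (fun i j hi hj e => by rw [hc_def, hc_def] at e; split_ifs at e <;> omega)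
  have hv : ∀ r, r < 8 → φ r = p (k - 8 + r) := fun r hr => by
    rw [hφ, hc_def, if_neg (show ¬ r = 8 by omega), snoc_lt p x (show k - 8 + r < k by omega)]
  have h8 : φ 8 = x := by rw [hφ, hc_def, if_pos rfl, snoc_self]
  refine excl_E8 hm2 hn hφinj ?_ ?_ ?_ ?_ ?_ ?_ ?_ ?_
  · rw [hv 0 (by omega), hv 1 (by omega)]; exact path_edge hp (by omega) (by omega)
  · rw [hv 1 (by omega), hv 2 (by omega)]; exact path_edge hp (by omega) (by omega)
  · rw [hv 2 (by omega), hv 3 (by omega)]; exact path_edge hp (by omega) (by omega)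
  · rw [hv 3 (by omega), hv 4 (by omega)]; exact path_edge hp (by omega) (by omega)
  · rw [hv 4 (by omega), hv 5 (by omega)]; exact path_edge hp (by omega) (by omega)
  · rw [hv 5 (by omega), hv 6 (by omega)]; exact path_edge hp (by omega) (by omega)
  · rw [hv 6 (by omega), hv 7 (by omega)]; exact path_edge hp (by omega) (by omega)
  · rw [h8, hv 5 (by omega), show k - 8 + 5 = t by omega, a_symm]; exact h

/-- `x` attached at `p t`, `y` attached at `x`: completed `E6` -/
theorem attach_E6 (hm2 : ∀ i, T.IsMinusTwo i) (hn : 7 < n) (hp : IsPath T p k) {x y : Fin n}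
    (hx : Off p k x) (hy : Off p k y) (hxy : x ≠ y) {t : ℕ} (h2t : 2 ≤ t) (ht3 : t + 3 ≤ k)
    (hax : T.a (p t) x ≠ 0) (hxy' : T.a x y ≠ 0) : False := by
  obtain ⟨c, hc_def⟩ : ∃ c : ℕ → ℕ, ∀ r, c r = if r = 0 then t - 2 else if r = 1 then t - 1
      else if r = 2 then t else if r = 3 then t + 2 else if r = 4 then t + 1
      else if r = 5 then k + 1 else k := ⟨_, fun _ => rfl⟩
  obtain ⟨φ, hφinj, hφ⟩ := emb_build (injOn_ext2 hp.inj hx hy hxy) c 7
    (fun i hi => by rw [hc_def]; split_ifs <;> omega)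
    (fun i j hi hj e => by rw [hc_def, hc_def] at e; split_ifs at e <;> omega)
  have c0 : c 0 = t - 2 := by rw [hc_def]; ev
  have c1 : c 1 = t - 1 := by rw [hc_def]; ev
  have c2 : c 2 = t := by rw [hc_def]; ev
  have c3 : c 3 = t + 2 := by rw [hc_def]; ev
  have c4 : c 4 = t + 1 := by rw [hc_def]; ev
  have c5 : c 5 = k + 1 := by rw [hc_def]; ev
  have c6 : c 6 = k := by rw [hc_def]; ev
  have v0 : φ 0 = p (t - 2) := by rw [hφ, c0, ext2_lt p x y (show t - 2 < k by omega)]
  have v1 : φ 1 = p (t - 1) := by rw [hφ, c1, ext2_lt p x y (show t - 1 < k by omega)]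
  have v2 : φ 2 = p t := by rw [hφ, c2, ext2_lt p x y (show t < k by omega)]
  have v3 : φ 3 = p (t + 2) := by rw [hφ, c3, ext2_lt p x y (show t + 2 < k by omega)]
  have v4 : φ 4 = p (t + 1) := by rw [hφ, c4, ext2_lt p x y (show t + 1 < k by omega)]
  have v5 : φ 5 = y := by rw [hφ, c5, ext2_k1]
  have v6 : φ 6 = x := by rw [hφ, c6, ext2_k]
  refine excl_E6 hm2 hn hφinj ?_ ?_ ?_ ?_ ?_ ?_
  · rw [v0, v1]; exact path_edge hp (by omega) (by omega)
  · rw [v1, v2]; exact path_edge hp (by omega) (by omega)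
  · rw [v3, v4]; exact path_edge' hp (by omega) (by omega)
  · rw [v4, v2]; exact path_edge' hp (by omega) (by omega)
  · rw [v5, v6, a_symm]; exact hxy'
  · rw [v6, v2, a_symm]; exact hax

/-- `x` and `y` both attached at `p t`: fourfold vertex -/
theorem attach_D4 (hm2 : ∀ i, T.IsMinusTwo i) (hn : 5 < n) (hp : IsPath T p k) {x y : Fin n}
    (hx : Off p k x) (hy : Off p k y) (hxy : x ≠ y) {t : ℕ} (ht1 : 1 ≤ t) (ht2 : t + 2 ≤ k)
    (hax : T.a (p t) x ≠ 0) (hay : T.a (p t) y ≠ 0) : False := by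
  obtain ⟨c, hc_def⟩ : ∃ c : ℕ → ℕ, ∀ r, c r = if r = 0 then t else if r = 1 then t - 1
      else if r = 2 then t + 1 else if r = 3 then k else k + 1 := ⟨_, fun _ => rfl⟩
  obtain ⟨φ, hφinj, hφ⟩ := emb_build (injOn_ext2 hp.inj hx hy hxy) c 5
    (fun i hi => by rw [hc_def]; split_ifs <;> omega)
    (fun i j hi hj e => by rw [hc_def, hc_def] at e; split_ifs at e <;> omega)
  have c0 : c 0 = t := by rw [hc_def]; ev
  have c1 : c 1 = t - 1 := by rw [hc_def]; ev
  have c2 : c 2 = t + 1 := by rw [hc_def]; ev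
  have c3 : c 3 = k := by rw [hc_def]; ev
  have c4 : c 4 = k + 1 := by rw [hc_def]; ev
  have v0 : φ 0 = p t := by rw [hφ, c0, ext2_lt p x y (show t < k by omega)]
  have v1 : φ 1 = p (t - 1) := by rw [hφ, c1, ext2_lt p x y (show t - 1 < k by omega)]
  have v2 : φ 2 = p (t + 1) := by rw [hφ, c2, ext2_lt p x y (show t + 1 < k by omega)]
  have v3 : φ 3 = x := by rw [hφ, c3, ext2_k]
  have v4 : φ 4 = y := by rw [hφ, c4, ext2_k1]
  refine excl_D4t hm2 hn hφinj ?_ ?_ ?_ ?_
  · rw [v0, v1]; exact path_edge' hp (by omega) (by omega)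
  · rw [v0, v2]; exact path_edge hp (by omega) (by omega)
  · rw [v0, v3]; exact hax
  · rw [v0, v4]; exact hay

/-- the graph is the path `q` together with `x` attached at `q (l-2)` -/
theorem caseA2_end (hm2 : ∀ i, T.IsMinusTwo i) (hnc : NoCyc T) {q : ℕ → Fin n} {l : ℕ}
    (hq : IsPath T q l) (hl : 9 ≤ l) (hnl : n = l + 1) {x : Fin n} (hx : Off q l x)
    (hax : T.a (q (l - 2)) x ≠ 0) : Goal T := by
  have hd : ∀ i, T.a i i = -2 * T.w i := fun i => (hm2 i).2
  have hxz : ∀ i, i < l → i + 2 ≠ l → T.a (q i) x = 0 := by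
    intro i hi hil
    by_contra hne
    rcases Nat.lt_or_gt_of_ne hil with h | h
    · exact off_unique hnc hq hx (show i < l - 2 by omega) (by omega) hne hax
    · exact off_unique hnc hq hx (show l - 2 < i by omega) hi hax hne
  by_cases hns : ∃ s, s + 2 < l ∧ NS T q s
  · obtain ⟨s, hs, hns⟩ := hns
    have hq' : IsPath T (shift q s) (l - s) := hq.shift s
    have hx' : ∀ r, r < l - s → shift q s r ≠ x := fun r hr => by
      rw [shift_apply q s r (r + s) rfl]; exact hx _ (by omega)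
    have hax' : T.a (shift q s (l - s - 2)) x ≠ 0 := by
      rw [shift_apply q s (l - s - 2) (l - 2) (by omega)]; exact hax
    rcases hns with hF | hB
    · refine fam6 hd hq' (by omega) hx' hax' ?_
      rw [shift_apply q s 0 s (by omega), shift_apply q s 1 (s + 1) (by omega)]; exact hF
    · refine fam5 hd hq' (by omega) hx' hax' ?_
      rw [shift_apply q s 1 (s + 1) (by omega), shift_apply q s 0 s (by omega)]; exact hB
  · exfalso
    push Not at hns
    obtain ⟨c, hc_def⟩ : ∃ c : ℕ → ℕ, ∀ r, c r = if r = 0 then l - 2 else if r = 1 then l - 3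
        else if r = 2 then l - 1 else l := ⟨_, fun _ => rfl⟩
    obtain ⟨φ, hφinj, hφ⟩ := emb_build (injOn_snoc hq.inj hx) c 4
      (fun i hi => by rw [hc_def]; split_ifs <;> omega)
      (fun i j hi hj e => by rw [hc_def, hc_def] at e; split_ifs at e <;> omega)
    have c0 : c 0 = l - 2 := by rw [hc_def]; ev
    have c1 : c 1 = l - 3 := by rw [hc_def]; ev
    have c2 : c 2 = l - 1 := by rw [hc_def]; ev
    have c3 : c 3 = l := by rw [hc_def]; ev
    have v0 : φ 0 = q (l - 2) := by rw [hφ, c0, snoc_lt q x (show l - 2 < l by omega)]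
    have v1 : φ 1 = q (l - 3) := by rw [hφ, c1, snoc_lt q x (show l - 3 < l by omega)]
    have v2 : φ 2 = q (l - 1) := by rw [hφ, c2, snoc_lt q x (show l - 1 < l by omega)]
    have v3 : φ 3 = x := by rw [hφ, c3, snoc_self]
    have hstar := star_simple hm2 (by omega) hφinj
      (by rw [v0, v1]; exact path_edge' hq (by omega) (by omega))
      (by rw [v0, v2]; exact path_edge hq (by omega) (by omega))
      (by rw [v0, v3]; exact hax)
    rw [v0, v1, v2, v3] at hstar
    obtain ⟨-, -, s3, s4, s5, s6⟩ := hstar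
    have hs1 : ∀ r, r + 1 < l → cc T (q r) (q (r + 1)) = 1 := by
      intro r hr
      by_cases h : r + 2 < l
      · exact (simple_of_not_ns hq hr (hns r h)).1
      · have e : r = l - 2 := by omega
        rw [e, show l - 2 + 1 = l - 1 by omega]; exact s3
    have hs2 : ∀ r, r + 1 < l → cc T (q (r + 1)) (q r) = 1 := by
      intro r hr
      by_cases h : r + 2 < l
      · exact (simple_of_not_ns hq hr (hns r h)).2
      · have e : r = l - 2 := by omega
        rw [e, show l - 2 + 1 = l - 1 by omega]; exact s4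
    exact excl_Dn hd hnc hq (by omega) hx hnl hxz hs1 hs2 s5 s6

theorem caseA (hm2 : ∀ i, T.IsMinusTwo i) (hnc : NoCyc T) (hn : 10 ≤ n) (hp : IsPath T p k)
    (hk : 3 ≤ k) (hmax : ∀ k' p', IsPath T p' k' → k' ≤ k) {v : Fin n} (hv : Off p k v) :
    Goal T := by
  have hd : ∀ i, T.a i i = -2 * T.w i := fun i => (hm2 i).2
  obtain ⟨t, x, ht, hx, hax⟩ := exists_attached (T := T) (by omega : 0 < k) hv
  obtain ⟨ht1, ht2⟩ := off_attach hnc hp hk hmax hx ht hax
  by_cases hsec : ∃ y, Off p k y ∧ y ≠ x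
  · obtain ⟨y0, hy0, hy0x⟩ := hsec
    obtain ⟨y, hy, hyx, hor⟩ := exists_second (T := T) hy0 hy0x
    rcases hor with ⟨s, hs, hay⟩ | hxy
    · obtain ⟨hs1, hs2⟩ := off_attach hnc hp hk hmax hy hs hay
      rcases Nat.lt_trichotomy s t with hst | hst | hst
      · obtain ⟨l, hl_def⟩ : ∃ l, l = t - s + 3 := ⟨_, rfl⟩
        have hq : IsPath T (shift p (s - 1)) l := (hp.shift (s - 1)).mono (by omega)
        refine fam7 hd hq (by omega) (fun r hr => ?_) (fun r hr => ?_) hyx ?_ ?_
        · rw [shift_apply p (s - 1) r (r + (s - 1)) rfl]; exact hy _ (by omega)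
        · rw [shift_apply p (s - 1) r (r + (s - 1)) rfl]; exact hx _ (by omega)
        · rw [shift_apply p (s - 1) 1 s (by omega)]; exact hay
        · rw [shift_apply p (s - 1) (l - 2) t (by omega)]; exact hax
      · rw [hst] at hay
        exact (attach_D4 hm2 (by omega) hp hx hy hyx.symm ht1 ht2 hax hay).elim
      · obtain ⟨l, hl_def⟩ : ∃ l, l = s - t + 3 := ⟨_, rfl⟩
        have hq : IsPath T (shift p (t - 1)) l := (hp.shift (t - 1)).mono (by omega)
        refine fam7 hd hq (by omega) (fun r hr => ?_) (fun r hr => ?_) hyx.symm ?_ ?_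
        · rw [shift_apply p (t - 1) r (r + (t - 1)) rfl]; exact hx _ (by omega)
        · rw [shift_apply p (t - 1) r (r + (t - 1)) rfl]; exact hy _ (by omega)
        · rw [shift_apply p (t - 1) 1 t (by omega)]; exact hax
        · rw [shift_apply p (t - 1) (l - 2) s (by omega)]; exact hay
    · obtain ⟨h2t, ht3⟩ := off_off hp hmax hx hy hyx.symm ht hax hxy
      exact (attach_E6 hm2 (by omega) hp hx hy hyx.symm h2t ht3 hax hxy).elim
  · push Not at hsec
    have hinj1 : InjOn (snoc p k x) (k + 1) := injOn_snoc hp.inj hx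
    have hsurj1 : ∀ z : Fin n, ∃ r, r < k + 1 ∧ snoc p k x r = z := by
      intro z
      by_cases hz : ∃ r, r < k ∧ p r = z
      · obtain ⟨r, hr, e⟩ := hz
        exact ⟨r, by omega, by rw [snoc_lt p x hr]; exact e⟩
      · push Not at hz
        have hzx : z = x := hsec z hz
        exact ⟨k, by omega, by rw [snoc_self]; exact hzx.symm⟩
    have hnk : n = k + 1 := le_antisymm (n_le_k hsurj1) (k_le_n hinj1)
    have hk9 : 9 ≤ k := by omega
    by_cases c1 : 3 ≤ t ∧ t + 4 ≤ k
    · exact (attach_mid hm2 (by omega) hp hx c1.1 c1.2 hax).elim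
    by_cases c2 : t = 2
    · rw [c2] at hax
      exact (attach_two hm2 (by omega) hp (by omega) hx hax).elim
    by_cases c3 : t + 3 = k
    · exact (attach_km3 hm2 (by omega) hp (by omega) hx c3 hax).elim
    by_cases c4 : t + 2 = k
    · refine caseA2_end hm2 hnc hp hk9 hnk hx ?_
      rw [show k - 2 = t by omega]; exact hax
    · have ht1' : t = 1 := by omega
      rw [ht1'] at hax
      refine caseA2_end hm2 hnc hp.rev hk9 hnk (x := x) (fun r hr => ?_) ?_
      · rw [rev_apply p k r (k - 1 - r) rfl]; exact hx _ (by omega)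
      · rw [rev_apply p k (k - 2) 1 (by omega)]; exact hax

theorem main (hm2 : ∀ i, T.IsMinusTwo i) (hn : 10 ≤ n) : Goal T := by
  have hd : ∀ i, T.a i i = -2 * T.w i := fun i => (hm2 i).2
  by_cases hnc : NoCyc T
  · obtain ⟨k, p, hp, hk, hmax⟩ := exists_longest T (by omega)
    by_cases hoff : ∃ v, Off p k v
    · obtain ⟨v, hv⟩ := hoff
      exact caseA hm2 hnc hn hp hk hmax hv
    · push Not at hoff
      have hsurj : ∀ z : Fin n, ∃ r, r < k ∧ p r = z := by
        intro z
        by_contra h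
        push Not at h
        exact hoff z h
      have hkn : k = n := le_antisymm (k_le_n hp.inj) (n_le_k hsurj)
      rw [hkn] at hp
      exact caseB hd hnc hn hp
  · unfold NoCyc at hnc
    push Not at hnc
    obtain ⟨q, l, hq, hl, hcyc⟩ := hnc
    exact fam1 hd hq hl hcyc

end Groth.Agent.Lib.G1GenH1
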