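import Groth.Agent.Lib.G1n5_lead

/-! Translation of the abstract classification on 5 indices to the literal statement (generated; lead). -/

set_option autoImplicit false
set_option maxHeartbeats 1600000

namespace Groth.Agent.Lib.G1

open Models

lemma row5 (T : NumericalType 5) (σ : Equiv.Perm (Fin 5)) (i : Fin 5) :
    cc T (σ i) (σ 0) * T.m (σ 0) + cc T (σ i) (σ 1) * T.m (σ 1) + cc T (σ i) (σ 2) * T.m (σ 2) + cc T (σ i) (σ 3) * T.m (σ 3) + cc T (σ i) (σ 4) * T.m (σ 4) = 0 := by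
  have := rowσ T σ i; rwa [Fin.sum_univ_five] at this

theorem form5_0 (T : NumericalType 5) (hd : ∀ i, T.a i i = -2 * T.w i)
    (σ : Equiv.Perm (Fin 5))
    (hC : ∀ i j : Fin 5, i ≠ j → cc T (σ i) (σ j) = (E forms5 0 i j : ℤ)) :
    ∃ (σ : Equiv.Perm (Fin 5)) (m w : ℤ),
      ((T.m (σ 0) = m ∧ T.m (σ 1) = m ∧ T.m (σ 2) = m ∧ T.m (σ 3) = m ∧ T.m (σ 4) = m ∧ T.w (σ 0) = w ∧ T.w (σ 1) = w ∧ T.w (σ 2) = w ∧ T.w (σ 3) = w ∧ T.w (σ 4) = w ∧ T.a (σ 0) (σ 0) = -2 * w ∧ T.a (σ 0) (σ 1) = w ∧ T.a (σ 0) (σ 2) = 0 ∧ T.a (σ 0) (σ 3) = 0 ∧ T.a (σ 0) (σ 4) = w ∧ T.a (σ 1) (σ 1) = -2 * w ∧ T.a (σ 1) (σ 2) = w ∧ T.a (σ 1) (σ 3) = 0 ∧ T.a (σ 1) (σ 4) = 0 ∧ T.a (σ 2) (σ 2) = -2 * w ∧ T.a (σ 2) (σ 3) = w ∧ T.a (σ 2)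 (σ 4) = 0 ∧ T.a (σ 3) (σ 3) = -2 * w ∧ T.a (σ 3) (σ 4) = w ∧ T.a (σ 4) (σ 4) = -2 * w) ∨
      (T.m (σ 0) = m ∧ T.m (σ 1) = 2 * m ∧ T.m (σ 2) = 3 * m ∧ T.m (σ 3) = 2 * m ∧ T.m (σ 4) = m ∧ T.w (σ 0) = w ∧ T.w (σ 1) = w ∧ T.w (σ 2) = w ∧ T.w (σ 3) = 2 * w ∧ T.w (σ 4) = 2 * w ∧ T.a (σ 0) (σ 0) = -2 * w ∧ T.a (σ 0) (σ 1) = w ∧ T.a (σ 0) (σ 2) = 0 ∧ T.a (σ 0) (σ 3) = 0 ∧ T.a (σ 0) (σ 4) = 0 ∧ T.a (σ 1) (σ 1) = -2 * w ∧ T.a (σ 1) (σ 2) = w ∧ T.a (σ 1) (σ 3) = 0 ∧ T.a (σ 1) (σ 4) = 0 ∧ T.a (σ 2) (σ 2) = -2 * w ∧ T.a (σ 2) (σ 3) = 2 * w ∧ T.a (σ 2) (σ 4) = 0 ∧ T.a (σ 3) (σ 3) = -4 * w ∧ T.a (σ 3) (σ 4) = 2 * w ∧ T.a (σ 4) (σ 4) = -4 * w) ∨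
      (T.m (σ 0) = m ∧ T.m (σ 1) = 2 * m ∧ T.m (σ 2) = 3 * m ∧ T.m (σ 3) = 4 * m ∧ T.m (σ 4) = 2 * m ∧ T.w (σ 0) = 2 * w ∧ T.w (σ 1) = 2 * w ∧ T.w (σ 2) = 2 * w ∧ T.w (σ 3) = w ∧ T.w (σ 4) = w ∧ T.a (σ 0) (σ 0) = -4 * w ∧ T.a (σ 0) (σ 1) = 2 * w ∧ T.a (σ 0) (σ 2) = 0 ∧ T.a (σ 0) (σ 3) = 0 ∧ T.a (σ 0) (σ 4) = 0 ∧ T.a (σ 1) (σ 1) = -4 * w ∧ T.a (σ 1) (σ 2) = 2 * w ∧ T.a (σ 1) (σ 3) = 0 ∧ T.a (σ 1) (σ 4) = 0 ∧ T.a (σ 2) (σ 2) = -4 * w ∧ T.a (σ 2) (σ 3) = 2 * w ∧ T.a (σ 2) (σ 4) = 0 ∧ T.a (σ 3) (σ 3) = -2 * w ∧ T.a (σ 3) (σ 4) = w ∧ T.a (σ 4) (σ 4) = -2 * w) ∨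
      (T.m (σ 0) = 2 * m ∧ T.m (σ 1) = 2 * m ∧ T.m (σ 2) = 2 * m ∧ T.m (σ 3) = 2 * m ∧ T.m (σ 4) = m ∧ T.w (σ 0) = w ∧ T.w (σ 1) = 2 * w ∧ T.w (σ 2) = 2 * w ∧ T.w (σ 3) = 2 * w ∧ T.w (σ 4) = 4 * w ∧ T.a (σ 0) (σ 0) = -2 * w ∧ T.a (σ 0) (σ 1) = 2 * w ∧ T.a (σ 0) (σ 2) = 0 ∧ T.a (σ 0) (σ 3) = 0 ∧ T.a (σ 0) (σ 4) = 0 ∧ T.a (σ 1) (σ 1) = -4 * w ∧ T.a (σ 1) (σ 2) = 2 * w ∧ T.a (σ 1) (σ 3) = 0 ∧ T.a (σ 1) (σ 4) = 0 ∧ T.a (σ 2) (σ 2) = -4 * w ∧ T.a (σ 2) (σ 3) = 2 * w ∧ T.a (σ 2) (σ 4) = 0 ∧ T.a (σ 3) (σ 3) = -4 * w ∧ T.a (σ 3) (σ 4) = 4 * w ∧ T.a (σ 4) (σ 4) = -8 * w) ∨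
      (T.m (σ 0) = m ∧ T.m (σ 1) = m ∧ T.m (σ 2) = m ∧ T.m (σ 3) = m ∧ T.m (σ 4) = m ∧ T.w (σ 0) = w ∧ T.w (σ 1) = 2 * w ∧ T.w (σ 2) = 2 * w ∧ T.w (σ 3) = 2 * w ∧ T.w (σ 4) = w ∧ T.a (σ 0) (σ 0) = -2 * w ∧ T.a (σ 0) (σ 1) = 2 * w ∧ T.a (σ 0) (σ 2) = 0 ∧ T.a (σ 0) (σ 3) = 0 ∧ T.a (σ 0) (σ 4) = 0 ∧ T.a (σ 1) (σ 1) = -4 * w ∧ T.a (σ 1) (σ 2) = 2 * w ∧ T.a (σ 1) (σ 3) = 0 ∧ T.a (σ 1) (σ 4) = 0 ∧ T.a (σ 2) (σ 2) = -4 * w ∧ T.a (σ 2) (σ 3) = 2 * w ∧ T.a (σ 2) (σ 4) = 0 ∧ T.a (σ 3) (σ 3) = -4 * w ∧ T.a (σ 3) (σ 4) = 2 * w ∧ T.a (σ 4) (σ 4) = -2 * w) ∨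
      (T.m (σ 0) = m ∧ T.m (σ 1) = 2 * m ∧ T.m (σ 2) = 2 * m ∧ T.m (σ 3) = 2 * m ∧ T.m (σ 4) = m ∧ T.w (σ 0) = 2 * w ∧ T.w (σ 1) = w ∧ T.w (σ 2) = w ∧ T.w (σ 3) = w ∧ T.w (σ 4) = 2 * w ∧ T.a (σ 0) (σ 0) = -4 * w ∧ T.a (σ 0) (σ 1) = 2 * w ∧ T.a (σ 0) (σ 2) = 0 ∧ T.a (σ 0) (σ 3) = 0 ∧ T.a (σ 0) (σ 4) = 0 ∧ T.a (σ 1) (σ 1) = -2 * w ∧ T.a (σ 1) (σ 2) = w ∧ T.a (σ 1) (σ 3) = 0 ∧ T.a (σ 1) (σ 4) = 0 ∧ T.a (σ 2) (σ 2) = -2 * w ∧ T.a (σ 2) (σ 3) = w ∧ T.a (σ 2) (σ 4) = 0 ∧ T.a (σ 3) (σ 3) = -2 * w ∧ T.a (σ 3) (σ 4) = 2 * w ∧ T.a (σ 4) (σ 4) = -4 * w) ∨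
      (T.m (σ 0) = 2 * m ∧ T.m (σ 1) = m ∧ T.m (σ 2) = m ∧ T.m (σ 3) = m ∧ T.m (σ 4) = m ∧ T.w (σ 0) = w ∧ T.w (σ 1) = w ∧ T.w (σ 2) = w ∧ T.w (σ 3) = w ∧ T.w (σ 4) = w ∧ T.a (σ 0) (σ 0) = -2 * w ∧ T.a (σ 0) (σ 1) = w ∧ T.a (σ 0) (σ 2) = w ∧ T.a (σ 0) (σ 3) = w ∧ T.a (σ 0) (σ 4) = w ∧ T.a (σ 1) (σ 1) = -2 * w ∧ T.a (σ 1) (σ 2) = 0 ∧ T.a (σ 1) (σ 3) = 0 ∧ T.a (σ 1) (σ 4) = 0 ∧ T.a (σ 2) (σ 2) = -2 * w ∧ T.a (σ 2) (σ 3) = 0 ∧ T.a (σ 2) (σ 4) = 0 ∧ T.a (σ 3) (σ 3) = -2 * w ∧ T.a (σ 3) (σ 4) = 0 ∧ T.a (σ 4) (σ 4) = -2 * w) ∨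
      (T.m (σ 0) = m ∧ T.m (σ 1) = 2 * m ∧ T.m (σ 2) = 2 * m ∧ T.m (σ 3) = m ∧ T.m (σ 4) = m ∧ T.w (σ 0) = 2 * w ∧ T.w (σ 1) = w ∧ T.w (σ 2) = w ∧ T.w (σ 3) = w ∧ T.w (σ 4) = w ∧ T.a (σ 0) (σ 0) = -4 * w ∧ T.a (σ 0) (σ 1) = 2 * w ∧ T.a (σ 0) (σ 2) = 0 ∧ T.a (σ 0) (σ 3) = 0 ∧ T.a (σ 0) (σ 4) = 0 ∧ T.a (σ 1) (σ 1) = -2 * w ∧ T.a (σ 1) (σ 2) = w ∧ T.a (σ 1) (σ 3) = 0 ∧ T.a (σ 1) (σ 4) = 0 ∧ T.a (σ 2) (σ 2) = -2 * w ∧ T.a (σ 2) (σ 3) = w ∧ T.a (σ 2) (σ 4) = w ∧ T.a (σ 3) (σ 3) = -2 * w ∧ T.a (σ 3) (σ 4) = 0 ∧ T.a (σ 4) (σ 4) = -2 * w) ∨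
      (T.m (σ 0) = 2 * m ∧ T.m (σ 1) = 2 * m ∧ T.m (σ 2) = 2 * m ∧ T.m (σ 3) = m ∧ T.m (σ 4) = m ∧ T.w (σ 0) = w ∧ T.w (σ 1) = 2 * w ∧ T.w (σ 2) = 2 * w ∧ T.w (σ 3) = 2 * w ∧ T.w (σ 4) = 2 * w ∧ T.a (σ 0) (σ 0) = -2 * w ∧ T.a (σ 0) (σ 1) = 2 * w ∧ T.a (σ 0) (σ 2) = 0 ∧ T.a (σ 0) (σ 3) = 0 ∧ T.a (σ 0) (σ 4) = 0 ∧ T.a (σ 1) (σ 1) = -4 * w ∧ T.a (σ 1) (σ 2) = 2 * w ∧ T.a (σ 1) (σ 3) = 0 ∧ T.a (σ 1) (σ 4) = 0 ∧ T.a (σ 2) (σ 2) = -4 * w ∧ T.a (σ 2) (σ 3) = 2 * w ∧ T.a (σ 2) (σ 4) = 2 * w ∧ T.a (σ 3) (σ 3) = -4 * w ∧ T.a (σ 3) (σ 4) = 0 ∧ T.a (σ 4) (σ 4) = -4 * w)) := by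
  have c0_1 : cc T (σ 0) (σ 1) = 1 := by rw [hC 0 1 (by decide)]; rfl
  have c0_2 : cc T (σ 0) (σ 2) = 0 := by rw [hC 0 2 (by decide)]; rfl
  have c0_3 : cc T (σ 0) (σ 3) = 0 := by rw [hC 0 3 (by decide)]; rfl
  have c0_4 : cc T (σ 0) (σ 4) = 1 := by rw [hC 0 4 (by decide)]; rfl
  have c1_0 : cc T (σ 1) (σ 0) = 1 := by rw [hC 1 0 (by decide)]; rfl
  have c1_2 : cc T (σ 1) (σ 2) = 1 := by rw [hC 1 2 (by decide)]; rfl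
  have c1_3 : cc T (σ 1) (σ 3) = 0 := by rw [hC 1 3 (by decide)]; rfl
  have c1_4 : cc T (σ 1) (σ 4) = 0 := by rw [hC 1 4 (by decide)]; rfl
  have c2_0 : cc T (σ 2) (σ 0) = 0 := by rw [hC 2 0 (by decide)]; rfl
  have c2_1 : cc T (σ 2) (σ 1) = 1 := by rw [hC 2 1 (by decide)]; rfl
  have c2_3 : cc T (σ 2) (σ 3) = 1 := by rw [hC 2 3 (by decide)]; rfl
  have c2_4 : cc T (σ 2) (σ 4) = 0 := by rw [hC 2 4 (by decide)]; rfl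
  have c3_0 : cc T (σ 3) (σ 0) = 0 := by rw [hC 3 0 (by decide)]; rfl
  have c3_1 : cc T (σ 3) (σ 1) = 0 := by rw [hC 3 1 (by decide)]; rfl
  have c3_2 : cc T (σ 3) (σ 2) = 1 := by rw [hC 3 2 (by decide)]; rfl
  have c3_4 : cc T (σ 3) (σ 4) = 1 := by rw [hC 3 4 (by decide)]; rfl
  have c4_0 : cc T (σ 4) (σ 0) = 1 := by rw [hC 4 0 (by decide)]; rfl
  have c4_1 : cc T (σ 4) (σ 1) = 0 := by rw [hC 4 1 (by decide)]; rfl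
  have c4_2 : cc T (σ 4) (σ 2) = 0 := by rw [hC 4 2 (by decide)]; rfl
  have c4_3 : cc T (σ 4) (σ 3) = 1 := by rw [hC 4 3 (by decide)]; rfl
  have dd0 := cc_diag T hd (σ 0)
  have dd1 := cc_diag T hd (σ 1)
  have dd2 := cc_diag T hd (σ 2)
  have dd3 := cc_diag T hd (σ 3)
  have dd4 := cc_diag T hd (σ 4)
  have r0 := row5 T σ 0
  rw [dd0, c0_1, c0_2, c0_3, c0_4] at r0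
  have r1 := row5 T σ 1
  rw [c1_0, dd1, c1_2, c1_3, c1_4] at r1
  have r2 := row5 T σ 2
  rw [c2_0, c2_1, dd2, c2_3, c2_4] at r2
  have r3 := row5 T σ 3
  rw [c3_0, c3_1, c3_2, dd3, c3_4] at r3
  have r4 := row5 T σ 4
  rw [c4_0, c4_1, c4_2, c4_3, dd4] at r4
  have a0_1 : T.a (σ 0) (σ 1) = T.w (σ 0) * 1 := by rw [a_eq, c0_1]
  have a0_2 : T.a (σ 0) (σ 2) = T.w (σ 0) * 0 := by rw [a_eq, c0_2]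
  have a0_3 : T.a (σ 0) (σ 3) = T.w (σ 0) * 0 := by rw [a_eq, c0_3]
  have a0_4 : T.a (σ 0) (σ 4) = T.w (σ 0) * 1 := by rw [a_eq, c0_4]
  have a1_0 : T.a (σ 1) (σ 0) = T.w (σ 1) * 1 := by rw [a_eq, c1_0]
  have a1_2 : T.a (σ 1) (σ 2) = T.w (σ 1) * 1 := by rw [a_eq, c1_2]
  have a1_3 : T.a (σ 1) (σ 3) = T.w (σ 1) * 0 := by rw [a_eq, c1_3]
  have a1_4 : T.a (σ 1) (σ 4) = T.w (σ 1) * 0 := by rw [a_eq, c1_4]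
  have a2_0 : T.a (σ 2) (σ 0) = T.w (σ 2) * 0 := by rw [a_eq, c2_0]
  have a2_1 : T.a (σ 2) (σ 1) = T.w (σ 2) * 1 := by rw [a_eq, c2_1]
  have a2_3 : T.a (σ 2) (σ 3) = T.w (σ 2) * 1 := by rw [a_eq, c2_3]
  have a2_4 : T.a (σ 2) (σ 4) = T.w (σ 2) * 0 := by rw [a_eq, c2_4]
  have a3_0 : T.a (σ 3) (σ 0) = T.w (σ 3) * 0 := by rw [a_eq, c3_0]
  have a3_1 : T.a (σ 3) (σ 1) = T.w (σ 3) * 0 := by rw [a_eq, c3_1]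
  have a3_2 : T.a (σ 3) (σ 2) = T.w (σ 3) * 1 := by rw [a_eq, c3_2]
  have a3_4 : T.a (σ 3) (σ 4) = T.w (σ 3) * 1 := by rw [a_eq, c3_4]
  have a4_0 : T.a (σ 4) (σ 0) = T.w (σ 4) * 1 := by rw [a_eq, c4_0]
  have a4_1 : T.a (σ 4) (σ 1) = T.w (σ 4) * 0 := by rw [a_eq, c4_1]
  have a4_2 : T.a (σ 4) (σ 2) = T.w (σ 4) * 0 := by rw [a_eq, c4_2]
  have a4_3 : T.a (σ 4) (σ 3) = T.w (σ 4) * 1 := by rw [a_eq, c4_3]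
  have ad0 := hd (σ 0)
  have ad1 := hd (σ 1)
  have ad2 := hd (σ 2)
  have ad3 := hd (σ 3)
  have ad4 := hd (σ 4)
  have s0_1 := a_symm T (σ 0) (σ 1)
  have s0_2 := a_symm T (σ 0) (σ 2)
  have s0_3 := a_symm T (σ 0) (σ 3)
  have s0_4 := a_symm T (σ 0) (σ 4)
  have s1_2 := a_symm T (σ 1) (σ 2)
  have s1_3 := a_symm T (σ 1) (σ 3)
  have s1_4 := a_symm T (σ 1) (σ 4)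
  have s2_3 := a_symm T (σ 2) (σ 3)
  have s2_4 := a_symm T (σ 2) (σ 4)
  have s3_4 := a_symm T (σ 3) (σ 4)
  clear c0_1 c0_2 c0_3 c0_4 c1_0 c1_2 c1_3 c1_4 c2_0 c2_1 c2_3 c2_4 c3_0 c3_1 c3_2 c3_4 c4_0 c4_1 c4_2 c4_3 dd0 dd1 dd2 dd3 dd4 hC
  have hm0 : T.m (σ 0) = 1 * T.m (σ 0) := by omega
  have hm1 : T.m (σ 1) = 1 * T.m (σ 0) := by omega
  have hm2 : T.m (σ 2) = 1 * T.m (σ 0) := by omega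
  have hm3 : T.m (σ 3) = 1 * T.m (σ 0) := by omega
  have hm4 : T.m (σ 4) = 1 * T.m (σ 0) := by omega
  clear r0 r1 r2 r3 r4
  have hw0 : T.w (σ 0) = 1 * T.w (σ 0) := by omega
  have hw1 : T.w (σ 1) = 1 * T.w (σ 0) := by omega
  have hw2 : T.w (σ 2) = 1 * T.w (σ 0) := by omega
  have hw3 : T.w (σ 3) = 1 * T.w (σ 0) := by omega
  have hw4 : T.w (σ 4) = 1 * T.w (σ 0) := by omega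
  refine ⟨σ, T.m (σ 0), T.w (σ 0), ?_⟩
  refine Or.inl ?_
  refine ⟨?_, ?_, ?_, ?_, ?_, ?_, ?_, ?_, ?_, ?_, ?_, ?_, ?_, ?_, ?_, ?_, ?_, ?_, ?_, ?_, ?_, ?_, ?_, ?_, ?_⟩ <;> omega

theorem form5_1 (T : NumericalType 5) (hd : ∀ i, T.a i i = -2 * T.w i)
    (σ : Equiv.Perm (Fin 5))
    (hC : ∀ i j : Fin 5, i ≠ j → cc T (σ i) (σ j) = (E forms5 1 i j : ℤ)) :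
    ∃ (σ : Equiv.Perm (Fin 5)) (m w : ℤ),
      ((T.m (σ 0) = m ∧ T.m (σ 1) = m ∧ T.m (σ 2) = m ∧ T.m (σ 3) = m ∧ T.m (σ 4) = m ∧ T.w (σ 0) = w ∧ T.w (σ 1) = w ∧ T.w (σ 2) = w ∧ T.w (σ 3) = w ∧ T.w (σ 4) = w ∧ T.a (σ 0) (σ 0) = -2 * w ∧ T.a (σ 0) (σ 1) = w ∧ T.a (σ 0) (σ 2) = 0 ∧ T.a (σ 0) (σ 3) = 0 ∧ T.a (σ 0) (σ 4) = w ∧ T.a (σ 1) (σ 1) = -2 * w ∧ T.a (σ 1) (σ 2) = w ∧ T.a (σ 1) (σ 3) = 0 ∧ T.a (σ 1) (σ 4) = 0 ∧ T.a (σ 2) (σ 2) = -2 * w ∧ T.a (σ 2) (σ 3) = w ∧ T.a (σ 2) (σ 4) = 0 ∧ T.a (σ 3) (σ 3) = -2 * w ∧ T.a (σ 3) (σ 4) = w ∧ T.a (σ 4) (σ 4) = -2 * w) ∨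
      (T.m (σ 0) = m ∧ T.m (σ 1) = 2 * m ∧ T.m (σ 2) = 3 * m ∧ T.m (σ 3) = 2 * m ∧ T.m (σ 4) = m ∧ T.w (σ 0) = w ∧ T.w (σ 1) = w ∧ T.w (σ 2) = w ∧ T.w (σ 3) = 2 * w ∧ T.w (σ 4) = 2 * w ∧ T.a (σ 0) (σ 0) = -2 * w ∧ T.a (σ 0) (σ 1) = w ∧ T.a (σ 0) (σ 2) = 0 ∧ T.a (σ 0) (σ 3) = 0 ∧ T.a (σ 0) (σ 4) = 0 ∧ T.a (σ 1) (σ 1) = -2 * w ∧ T.a (σ 1) (σ 2) = w ∧ T.a (σ 1) (σ 3) = 0 ∧ T.a (σ 1) (σ 4) = 0 ∧ T.a (σ 2) (σ 2) = -2 * w ∧ T.a (σ 2) (σ 3) = 2 * w ∧ T.a (σ 2) (σ 4) = 0 ∧ T.a (σ 3) (σ 3) = -4 * w ∧ T.a (σ 3) (σ 4) = 2 * w ∧ T.a (σ 4) (σ 4) = -4 * w) ∨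
      (T.m (σ 0) = m ∧ T.m (σ 1) = 2 * m ∧ T.m (σ 2) = 3 * m ∧ T.m (σ 3) = 4 * m ∧ T.m (σ 4) = 2 * m ∧ T.w (σ 0) = 2 * w ∧ T.w (σ 1) = 2 * w ∧ T.w (σ 2) = 2 * w ∧ T.w (σ 3) = w ∧ T.w (σ 4) = w ∧ T.a (σ 0) (σ 0) = -4 * w ∧ T.a (σ 0) (σ 1) = 2 * w ∧ T.a (σ 0) (σ 2) = 0 ∧ T.a (σ 0) (σ 3) = 0 ∧ T.a (σ 0) (σ 4) = 0 ∧ T.a (σ 1) (σ 1) = -4 * w ∧ T.a (σ 1) (σ 2) = 2 * w ∧ T.a (σ 1) (σ 3) = 0 ∧ T.a (σ 1) (σ 4) = 0 ∧ T.a (σ 2) (σ 2) = -4 * w ∧ T.a (σ 2) (σ 3) = 2 * w ∧ T.a (σ 2) (σ 4) = 0 ∧ T.a (σ 3) (σ 3) = -2 * w ∧ T.a (σ 3) (σ 4) = w ∧ T.a (σ 4) (σ 4) = -2 * w) ∨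
      (T.m (σ 0) = 2 * m ∧ T.m (σ 1) = 2 * m ∧ T.m (σ 2) = 2 * m ∧ T.m (σ 3) = 2 * m ∧ T.m (σ 4) = m ∧ T.w (σ 0) = w ∧ T.w (σ 1) = 2 * w ∧ T.w (σ 2) = 2 * w ∧ T.w (σ 3) = 2 * w ∧ T.w (σ 4) = 4 * w ∧ T.a (σ 0) (σ 0) = -2 * w ∧ T.a (σ 0) (σ 1) = 2 * w ∧ T.a (σ 0) (σ 2) = 0 ∧ T.a (σ 0) (σ 3) = 0 ∧ T.a (σ 0) (σ 4) = 0 ∧ T.a (σ 1) (σ 1) = -4 * w ∧ T.a (σ 1) (σ 2) = 2 * w ∧ T.a (σ 1) (σ 3) = 0 ∧ T.a (σ 1) (σ 4) = 0 ∧ T.a (σ 2) (σ 2) = -4 * w ∧ T.a (σ 2) (σ 3) = 2 * w ∧ T.a (σ 2) (σ 4) = 0 ∧ T.a (σ 3) (σ 3) = -4 * w ∧ T.a (σ 3) (σ 4) = 4 * w ∧ T.a (σ 4) (σ 4) = -8 * w) ∨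
      (T.m (σ 0) = m ∧ T.m (σ 1) = m ∧ T.m (σ 2) = m ∧ T.m (σ 3) = m ∧ T.m (σ 4) = m ∧ T.w (σ 0) = w ∧ T.w (σ 1) = 2 * w ∧ T.w (σ 2) = 2 * w ∧ T.w (σ 3) = 2 * w ∧ T.w (σ 4) = w ∧ T.a (σ 0) (σ 0) = -2 * w ∧ T.a (σ 0) (σ 1) = 2 * w ∧ T.a (σ 0) (σ 2) = 0 ∧ T.a (σ 0) (σ 3) = 0 ∧ T.a (σ 0) (σ 4) = 0 ∧ T.a (σ 1) (σ 1) = -4 * w ∧ T.a (σ 1) (σ 2) = 2 * w ∧ T.a (σ 1) (σ 3) = 0 ∧ T.a (σ 1) (σ 4) = 0 ∧ T.a (σ 2) (σ 2) = -4 * w ∧ T.a (σ 2) (σ 3) = 2 * w ∧ T.a (σ 2) (σ 4) = 0 ∧ T.a (σ 3) (σ 3) = -4 * w ∧ T.a (σ 3) (σ 4) = 2 * w ∧ T.a (σ 4) (σ 4) = -2 * w) ∨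
      (T.m (σ 0) = m ∧ T.m (σ 1) = 2 * m ∧ T.m (σ 2) = 2 * m ∧ T.m (σ 3) = 2 * m ∧ T.m (σ 4) = m ∧ T.w (σ 0) = 2 * w ∧ T.w (σ 1) = w ∧ T.w (σ 2) = w ∧ T.w (σ 3) = w ∧ T.w (σ 4) = 2 * w ∧ T.a (σ 0) (σ 0) = -4 * w ∧ T.a (σ 0) (σ 1) = 2 * w ∧ T.a (σ 0) (σ 2) = 0 ∧ T.a (σ 0) (σ 3) = 0 ∧ T.a (σ 0) (σ 4) = 0 ∧ T.a (σ 1) (σ 1) = -2 * w ∧ T.a (σ 1) (σ 2) = w ∧ T.a (σ 1) (σ 3) = 0 ∧ T.a (σ 1) (σ 4) = 0 ∧ T.a (σ 2) (σ 2) = -2 * w ∧ T.a (σ 2) (σ 3) = w ∧ T.a (σ 2) (σ 4) = 0 ∧ T.a (σ 3) (σ 3) = -2 * w ∧ T.a (σ 3) (σ 4) = 2 * w ∧ T.a (σ 4) (σ 4) = -4 * w) ∨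
      (T.m (σ 0) = 2 * m ∧ T.m (σ 1) = m ∧ T.m (σ 2) = m ∧ T.m (σ 3) = m ∧ T.m (σ 4) = m ∧ T.w (σ 0) = w ∧ T.w (σ 1) = w ∧ T.w (σ 2) = w ∧ T.w (σ 3) = w ∧ T.w (σ 4) = w ∧ T.a (σ 0) (σ 0) = -2 * w ∧ T.a (σ 0) (σ 1) = w ∧ T.a (σ 0) (σ 2) = w ∧ T.a (σ 0) (σ 3) = w ∧ T.a (σ 0) (σ 4) = w ∧ T.a (σ 1) (σ 1) = -2 * w ∧ T.a (σ 1) (σ 2) = 0 ∧ T.a (σ 1) (σ 3) = 0 ∧ T.a (σ 1) (σ 4) = 0 ∧ T.a (σ 2) (σ 2) = -2 * w ∧ T.a (σ 2) (σ 3) = 0 ∧ T.a (σ 2) (σ 4) = 0 ∧ T.a (σ 3) (σ 3) = -2 * w ∧ T.a (σ 3) (σ 4) = 0 ∧ T.a (σ 4) (σ 4) = -2 * w) ∨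
      (T.m (σ 0) = m ∧ T.m (σ 1) = 2 * m ∧ T.m (σ 2) = 2 * m ∧ T.m (σ 3) = m ∧ T.m (σ 4) = m ∧ T.w (σ 0) = 2 * w ∧ T.w (σ 1) = w ∧ T.w (σ 2) = w ∧ T.w (σ 3) = w ∧ T.w (σ 4) = w ∧ T.a (σ 0) (σ 0) = -4 * w ∧ T.a (σ 0) (σ 1) = 2 * w ∧ T.a (σ 0) (σ 2) = 0 ∧ T.a (σ 0) (σ 3) = 0 ∧ T.a (σ 0) (σ 4) = 0 ∧ T.a (σ 1) (σ 1) = -2 * w ∧ T.a (σ 1) (σ 2) = w ∧ T.a (σ 1) (σ 3) = 0 ∧ T.a (σ 1) (σ 4) = 0 ∧ T.a (σ 2) (σ 2) = -2 * w ∧ T.a (σ 2) (σ 3) = w ∧ T.a (σ 2) (σ 4) = w ∧ T.a (σ 3) (σ 3) = -2 * w ∧ T.a (σ 3) (σ 4) = 0 ∧ T.a (σ 4) (σ 4) = -2 * w) ∨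
      (T.m (σ 0) = 2 * m ∧ T.m (σ 1) = 2 * m ∧ T.m (σ 2) = 2 * m ∧ T.m (σ 3) = m ∧ T.m (σ 4) = m ∧ T.w (σ 0) = w ∧ T.w (σ 1) = 2 * w ∧ T.w (σ 2) = 2 * w ∧ T.w (σ 3) = 2 * w ∧ T.w (σ 4) = 2 * w ∧ T.a (σ 0) (σ 0) = -2 * w ∧ T.a (σ 0) (σ 1) = 2 * w ∧ T.a (σ 0) (σ 2) = 0 ∧ T.a (σ 0) (σ 3) = 0 ∧ T.a (σ 0) (σ 4) = 0 ∧ T.a (σ 1) (σ 1) = -4 * w ∧ T.a (σ 1) (σ 2) = 2 * w ∧ T.a (σ 1) (σ 3) = 0 ∧ T.a (σ 1) (σ 4) = 0 ∧ T.a (σ 2) (σ 2) = -4 * w ∧ T.a (σ 2) (σ 3) = 2 * w ∧ T.a (σ 2) (σ 4) = 2 * w ∧ T.a (σ 3) (σ 3) = -4 * w ∧ T.a (σ 3) (σ 4) = 0 ∧ T.a (σ 4) (σ 4) = -4 * w)) := by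
  have c0_1 : cc T (σ 0) (σ 1) = 1 := by rw [hC 0 1 (by decide)]; rfl
  have c0_2 : cc T (σ 0) (σ 2) = 0 := by rw [hC 0 2 (by decide)]; rfl
  have c0_3 : cc T (σ 0) (σ 3) = 0 := by rw [hC 0 3 (by decide)]; rfl
  have c0_4 : cc T (σ 0) (σ 4) = 0 := by rw [hC 0 4 (by decide)]; rfl
  have c1_0 : cc T (σ 1) (σ 0) = 1 := by rw [hC 1 0 (by decide)]; rfl
  have c1_2 : cc T (σ 1) (σ 2) = 1 := by rw [hC 1 2 (by decide)]; rfl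
  have c1_3 : cc T (σ 1) (σ 3) = 0 := by rw [hC 1 3 (by decide)]; rfl
  have c1_4 : cc T (σ 1) (σ 4) = 0 := by rw [hC 1 4 (by decide)]; rfl
  have c2_0 : cc T (σ 2) (σ 0) = 0 := by rw [hC 2 0 (by decide)]; rfl
  have c2_1 : cc T (σ 2) (σ 1) = 1 := by rw [hC 2 1 (by decide)]; rfl
  have c2_3 : cc T (σ 2) (σ 3) = 2 := by rw [hC 2 3 (by decide)]; rfl
  have c2_4 : cc T (σ 2) (σ 4) = 0 := by rw [hC 2 4 (by decide)]; rfl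
  have c3_0 : cc T (σ 3) (σ 0) = 0 := by rw [hC 3 0 (by decide)]; rfl
  have c3_1 : cc T (σ 3) (σ 1) = 0 := by rw [hC 3 1 (by decide)]; rfl
  have c3_2 : cc T (σ 3) (σ 2) = 1 := by rw [hC 3 2 (by decide)]; rfl
  have c3_4 : cc T (σ 3) (σ 4) = 1 := by rw [hC 3 4 (by decide)]; rfl
  have c4_0 : cc T (σ 4) (σ 0) = 0 := by rw [hC 4 0 (by decide)]; rfl
  have c4_1 : cc T (σ 4) (σ 1) = 0 := by rw [hC 4 1 (by decide)]; rfl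
  have c4_2 : cc T (σ 4) (σ 2) = 0 := by rw [hC 4 2 (by decide)]; rfl
  have c4_3 : cc T (σ 4) (σ 3) = 1 := by rw [hC 4 3 (by decide)]; rfl
  have dd0 := cc_diag T hd (σ 0)
  have dd1 := cc_diag T hd (σ 1)
  have dd2 := cc_diag T hd (σ 2)
  have dd3 := cc_diag T hd (σ 3)
  have dd4 := cc_diag T hd (σ 4)
  have r0 := row5 T σ 0
  rw [dd0, c0_1, c0_2, c0_3, c0_4] at r0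
  have r1 := row5 T σ 1
  rw [c1_0, dd1, c1_2, c1_3, c1_4] at r1
  have r2 := row5 T σ 2
  rw [c2_0, c2_1, dd2, c2_3, c2_4] at r2
  have r3 := row5 T σ 3
  rw [c3_0, c3_1, c3_2, dd3, c3_4] at r3
  have r4 := row5 T σ 4
  rw [c4_0, c4_1, c4_2, c4_3, dd4] at r4
  have a0_1 : T.a (σ 0) (σ 1) = T.w (σ 0) * 1 := by rw [a_eq, c0_1]
  have a0_2 : T.a (σ 0) (σ 2) = T.w (σ 0) * 0 := by rw [a_eq, c0_2]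
  have a0_3 : T.a (σ 0) (σ 3) = T.w (σ 0) * 0 := by rw [a_eq, c0_3]
  have a0_4 : T.a (σ 0) (σ 4) = T.w (σ 0) * 0 := by rw [a_eq, c0_4]
  have a1_0 : T.a (σ 1) (σ 0) = T.w (σ 1) * 1 := by rw [a_eq, c1_0]
  have a1_2 : T.a (σ 1) (σ 2) = T.w (σ 1) * 1 := by rw [a_eq, c1_2]
  have a1_3 : T.a (σ 1) (σ 3) = T.w (σ 1) * 0 := by rw [a_eq, c1_3]
  have a1_4 : T.a (σ 1) (σ 4) = T.w (σ 1) * 0 := by rw [a_eq, c1_4]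
  have a2_0 : T.a (σ 2) (σ 0) = T.w (σ 2) * 0 := by rw [a_eq, c2_0]
  have a2_1 : T.a (σ 2) (σ 1) = T.w (σ 2) * 1 := by rw [a_eq, c2_1]
  have a2_3 : T.a (σ 2) (σ 3) = T.w (σ 2) * 2 := by rw [a_eq, c2_3]
  have a2_4 : T.a (σ 2) (σ 4) = T.w (σ 2) * 0 := by rw [a_eq, c2_4]
  have a3_0 : T.a (σ 3) (σ 0) = T.w (σ 3) * 0 := by rw [a_eq, c3_0]
  have a3_1 : T.a (σ 3) (σ 1) = T.w (σ 3) * 0 := by rw [a_eq, c3_1]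
  have a3_2 : T.a (σ 3) (σ 2) = T.w (σ 3) * 1 := by rw [a_eq, c3_2]
  have a3_4 : T.a (σ 3) (σ 4) = T.w (σ 3) * 1 := by rw [a_eq, c3_4]
  have a4_0 : T.a (σ 4) (σ 0) = T.w (σ 4) * 0 := by rw [a_eq, c4_0]
  have a4_1 : T.a (σ 4) (σ 1) = T.w (σ 4) * 0 := by rw [a_eq, c4_1]
  have a4_2 : T.a (σ 4) (σ 2) = T.w (σ 4) * 0 := by rw [a_eq, c4_2]
  have a4_3 : T.a (σ 4) (σ 3) = T.w (σ 4) * 1 := by rw [a_eq, c4_3]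
  have ad0 := hd (σ 0)
  have ad1 := hd (σ 1)
  have ad2 := hd (σ 2)
  have ad3 := hd (σ 3)
  have ad4 := hd (σ 4)
  have s0_1 := a_symm T (σ 0) (σ 1)
  have s0_2 := a_symm T (σ 0) (σ 2)
  have s0_3 := a_symm T (σ 0) (σ 3)
  have s0_4 := a_symm T (σ 0) (σ 4)
  have s1_2 := a_symm T (σ 1) (σ 2)
  have s1_3 := a_symm T (σ 1) (σ 3)
  have s1_4 := a_symm T (σ 1) (σ 4)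
  have s2_3 := a_symm T (σ 2) (σ 3)
  have s2_4 := a_symm T (σ 2) (σ 4)
  have s3_4 := a_symm T (σ 3) (σ 4)
  clear c0_1 c0_2 c0_3 c0_4 c1_0 c1_2 c1_3 c1_4 c2_0 c2_1 c2_3 c2_4 c3_0 c3_1 c3_2 c3_4 c4_0 c4_1 c4_2 c4_3 dd0 dd1 dd2 dd3 dd4 hC
  have hm0 : T.m (σ 0) = 1 * T.m (σ 0) := by omega
  have hm1 : T.m (σ 1) = 2 * T.m (σ 0) := by omega
  have hm2 : T.m (σ 2) = 3 * T.m (σ 0) := by omega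
  have hm3 : T.m (σ 3) = 2 * T.m (σ 0) := by omega
  have hm4 : T.m (σ 4) = 1 * T.m (σ 0) := by omega
  clear r0 r1 r2 r3 r4
  have hw0 : T.w (σ 0) = 1 * T.w (σ 0) := by omega
  have hw1 : T.w (σ 1) = 1 * T.w (σ 0) := by omega
  have hw2 : T.w (σ 2) = 1 * T.w (σ 0) := by omega
  have hw3 : T.w (σ 3) = 2 * T.w (σ 0) := by omega
  have hw4 : T.w (σ 4) = 2 * T.w (σ 0) := by omega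
  refine ⟨σ, T.m (σ 0), T.w (σ 0), ?_⟩
  refine Or.inr (Or.inl ?_)
  refine ⟨?_, ?_, ?_, ?_, ?_, ?_, ?_, ?_, ?_, ?_, ?_, ?_, ?_, ?_, ?_, ?_, ?_, ?_, ?_, ?_, ?_, ?_, ?_, ?_, ?_⟩ <;> omega

theorem form5_2 (T : NumericalType 5) (hd : ∀ i, T.a i i = -2 * T.w i)
    (σ : Equiv.Perm (Fin 5))
    (hC : ∀ i j : Fin 5, i ≠ j → cc T (σ i) (σ j) = (E forms5 2 i j : ℤ)) :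
    ∃ (σ : Equiv.Perm (Fin 5)) (m w : ℤ),
      ((T.m (σ 0) = m ∧ T.m (σ 1) = m ∧ T.m (σ 2) = m ∧ T.m (σ 3) = m ∧ T.m (σ 4) = m ∧ T.w (σ 0) = w ∧ T.w (σ 1) = w ∧ T.w (σ 2) = w ∧ T.w (σ 3) = w ∧ T.w (σ 4) = w ∧ T.a (σ 0) (σ 0) = -2 * w ∧ T.a (σ 0) (σ 1) = w ∧ T.a (σ 0) (σ 2) = 0 ∧ T.a (σ 0) (σ 3) = 0 ∧ T.a (σ 0) (σ 4) = w ∧ T.a (σ 1) (σ 1) = -2 * w ∧ T.a (σ 1) (σ 2) = w ∧ T.a (σ 1) (σ 3) = 0 ∧ T.a (σ 1) (σ 4) = 0 ∧ T.a (σ 2) (σ 2) = -2 * w ∧ T.a (σ 2) (σ 3) = w ∧ T.a (σ 2) (σ 4) = 0 ∧ T.a (σ 3) (σ 3) = -2 * w ∧ T.a (σ 3) (σ 4) = w ∧ T.a (σ 4) (σ 4) = -2 * w) ∨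
      (T.m (σ 0) = m ∧ T.m (σ 1) = 2 * m ∧ T.m (σ 2) = 3 * m ∧ T.m (σ 3) = 2 * m ∧ T.m (σ 4) = m ∧ T.w (σ 0) = w ∧ T.w (σ 1) = w ∧ T.w (σ 2) = w ∧ T.w (σ 3) = 2 * w ∧ T.w (σ 4) = 2 * w ∧ T.a (σ 0) (σ 0) = -2 * w ∧ T.a (σ 0) (σ 1) = w ∧ T.a (σ 0) (σ 2) = 0 ∧ T.a (σ 0) (σ 3) = 0 ∧ T.a (σ 0) (σ 4) = 0 ∧ T.a (σ 1) (σ 1) = -2 * w ∧ T.a (σ 1) (σ 2) = w ∧ T.a (σ 1) (σ 3) = 0 ∧ T.a (σ 1) (σ 4) = 0 ∧ T.a (σ 2) (σ 2) = -2 * w ∧ T.a (σ 2) (σ 3) = 2 * w ∧ T.a (σ 2) (σ 4) = 0 ∧ T.a (σ 3) (σ 3) = -4 * w ∧ T.a (σ 3) (σ 4) = 2 * w ∧ T.a (σ 4) (σ 4) = -4 * w) ∨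
      (T.m (σ 0) = m ∧ T.m (σ 1) = 2 * m ∧ T.m (σ 2) = 3 * m ∧ T.m (σ 3) = 4 * m ∧ T.m (σ 4) = 2 * m ∧ T.w (σ 0) = 2 * w ∧ T.w (σ 1) = 2 * w ∧ T.w (σ 2) = 2 * w ∧ T.w (σ 3) = w ∧ T.w (σ 4) = w ∧ T.a (σ 0) (σ 0) = -4 * w ∧ T.a (σ 0) (σ 1) = 2 * w ∧ T.a (σ 0) (σ 2) = 0 ∧ T.a (σ 0) (σ 3) = 0 ∧ T.a (σ 0) (σ 4) = 0 ∧ T.a (σ 1) (σ 1) = -4 * w ∧ T.a (σ 1) (σ 2) = 2 * w ∧ T.a (σ 1) (σ 3) = 0 ∧ T.a (σ 1) (σ 4) = 0 ∧ T.a (σ 2) (σ 2) = -4 * w ∧ T.a (σ 2) (σ 3) = 2 * w ∧ T.a (σ 2) (σ 4) = 0 ∧ T.a (σ 3) (σ 3) = -2 * w ∧ T.a (σ 3) (σ 4) = w ∧ T.a (σ 4) (σ 4) = -2 * w) ∨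
      (T.m (σ 0) = 2 * m ∧ T.m (σ 1) = 2 * m ∧ T.m (σ 2) = 2 * m ∧ T.m (σ 3) = 2 * m ∧ T.m (σ 4) = m ∧ T.w (σ 0) = w ∧ T.w (σ 1) = 2 * w ∧ T.w (σ 2) = 2 * w ∧ T.w (σ 3) = 2 * w ∧ T.w (σ 4) = 4 * w ∧ T.a (σ 0) (σ 0) = -2 * w ∧ T.a (σ 0) (σ 1) = 2 * w ∧ T.a (σ 0) (σ 2) = 0 ∧ T.a (σ 0) (σ 3) = 0 ∧ T.a (σ 0) (σ 4) = 0 ∧ T.a (σ 1) (σ 1) = -4 * w ∧ T.a (σ 1) (σ 2) = 2 * w ∧ T.a (σ 1) (σ 3) = 0 ∧ T.a (σ 1) (σ 4) = 0 ∧ T.a (σ 2) (σ 2) = -4 * w ∧ T.a (σ 2) (σ 3) = 2 * w ∧ T.a (σ 2) (σ 4) = 0 ∧ T.a (σ 3) (σ 3) = -4 * w ∧ T.a (σ 3) (σ 4) = 4 * w ∧ T.a (σ 4) (σ 4) = -8 * w) ∨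
      (T.m (σ 0) = m ∧ T.m (σ 1) = m ∧ T.m (σ 2) = m ∧ T.m (σ 3) = m ∧ T.m (σ 4) = m ∧ T.w (σ 0) = w ∧ T.w (σ 1) = 2 * w ∧ T.w (σ 2) = 2 * w ∧ T.w (σ 3) = 2 * w ∧ T.w (σ 4) = w ∧ T.a (σ 0) (σ 0) = -2 * w ∧ T.a (σ 0) (σ 1) = 2 * w ∧ T.a (σ 0) (σ 2) = 0 ∧ T.a (σ 0) (σ 3) = 0 ∧ T.a (σ 0) (σ 4) = 0 ∧ T.a (σ 1) (σ 1) = -4 * w ∧ T.a (σ 1) (σ 2) = 2 * w ∧ T.a (σ 1) (σ 3) = 0 ∧ T.a (σ 1) (σ 4) = 0 ∧ T.a (σ 2) (σ 2) = -4 * w ∧ T.a (σ 2) (σ 3) = 2 * w ∧ T.a (σ 2) (σ 4) = 0 ∧ T.a (σ 3) (σ 3) = -4 * w ∧ T.a (σ 3) (σ 4) = 2 * w ∧ T.a (σ 4) (σ 4) = -2 * w) ∨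
      (T.m (σ 0) = m ∧ T.m (σ 1) = 2 * m ∧ T.m (σ 2) = 2 * m ∧ T.m (σ 3) = 2 * m ∧ T.m (σ 4) = m ∧ T.w (σ 0) = 2 * w ∧ T.w (σ 1) = w ∧ T.w (σ 2) = w ∧ T.w (σ 3) = w ∧ T.w (σ 4) = 2 * w ∧ T.a (σ 0) (σ 0) = -4 * w ∧ T.a (σ 0) (σ 1) = 2 * w ∧ T.a (σ 0) (σ 2) = 0 ∧ T.a (σ 0) (σ 3) = 0 ∧ T.a (σ 0) (σ 4) = 0 ∧ T.a (σ 1) (σ 1) = -2 * w ∧ T.a (σ 1) (σ 2) = w ∧ T.a (σ 1) (σ 3) = 0 ∧ T.a (σ 1) (σ 4) = 0 ∧ T.a (σ 2) (σ 2) = -2 * w ∧ T.a (σ 2) (σ 3) = w ∧ T.a (σ 2) (σ 4) = 0 ∧ T.a (σ 3) (σ 3) = -2 * w ∧ T.a (σ 3) (σ 4) = 2 * w ∧ T.a (σ 4) (σ 4) = -4 * w) ∨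
      (T.m (σ 0) = 2 * m ∧ T.m (σ 1) = m ∧ T.m (σ 2) = m ∧ T.m (σ 3) = m ∧ T.m (σ 4) = m ∧ T.w (σ 0) = w ∧ T.w (σ 1) = w ∧ T.w (σ 2) = w ∧ T.w (σ 3) = w ∧ T.w (σ 4) = w ∧ T.a (σ 0) (σ 0) = -2 * w ∧ T.a (σ 0) (σ 1) = w ∧ T.a (σ 0) (σ 2) = w ∧ T.a (σ 0) (σ 3) = w ∧ T.a (σ 0) (σ 4) = w ∧ T.a (σ 1) (σ 1) = -2 * w ∧ T.a (σ 1) (σ 2) = 0 ∧ T.a (σ 1) (σ 3) = 0 ∧ T.a (σ 1) (σ 4) = 0 ∧ T.a (σ 2) (σ 2) = -2 * w ∧ T.a (σ 2) (σ 3) = 0 ∧ T.a (σ 2) (σ 4) = 0 ∧ T.a (σ 3) (σ 3) = -2 * w ∧ T.a (σ 3) (σ 4) = 0 ∧ T.a (σ 4) (σ 4) = -2 * w) ∨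
      (T.m (σ 0) = m ∧ T.m (σ 1) = 2 * m ∧ T.m (σ 2) = 2 * m ∧ T.m (σ 3) = m ∧ T.m (σ 4) = m ∧ T.w (σ 0) = 2 * w ∧ T.w (σ 1) = w ∧ T.w (σ 2) = w ∧ T.w (σ 3) = w ∧ T.w (σ 4) = w ∧ T.a (σ 0) (σ 0) = -4 * w ∧ T.a (σ 0) (σ 1) = 2 * w ∧ T.a (σ 0) (σ 2) = 0 ∧ T.a (σ 0) (σ 3) = 0 ∧ T.a (σ 0) (σ 4) = 0 ∧ T.a (σ 1) (σ 1) = -2 * w ∧ T.a (σ 1) (σ 2) = w ∧ T.a (σ 1) (σ 3) = 0 ∧ T.a (σ 1) (σ 4) = 0 ∧ T.a (σ 2) (σ 2) = -2 * w ∧ T.a (σ 2) (σ 3) = w ∧ T.a (σ 2) (σ 4) = w ∧ T.a (σ 3) (σ 3) = -2 * w ∧ T.a (σ 3) (σ 4) = 0 ∧ T.a (σ 4) (σ 4) = -2 * w) ∨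
      (T.m (σ 0) = 2 * m ∧ T.m (σ 1) = 2 * m ∧ T.m (σ 2) = 2 * m ∧ T.m (σ 3) = m ∧ T.m (σ 4) = m ∧ T.w (σ 0) = w ∧ T.w (σ 1) = 2 * w ∧ T.w (σ 2) = 2 * w ∧ T.w (σ 3) = 2 * w ∧ T.w (σ 4) = 2 * w ∧ T.a (σ 0) (σ 0) = -2 * w ∧ T.a (σ 0) (σ 1) = 2 * w ∧ T.a (σ 0) (σ 2) = 0 ∧ T.a (σ 0) (σ 3) = 0 ∧ T.a (σ 0) (σ 4) = 0 ∧ T.a (σ 1) (σ 1) = -4 * w ∧ T.a (σ 1) (σ 2) = 2 * w ∧ T.a (σ 1) (σ 3) = 0 ∧ T.a (σ 1) (σ 4) = 0 ∧ T.a (σ 2) (σ 2) = -4 * w ∧ T.a (σ 2) (σ 3) = 2 * w ∧ T.a (σ 2) (σ 4) = 2 * w ∧ T.a (σ 3) (σ 3) = -4 * w ∧ T.a (σ 3) (σ 4) = 0 ∧ T.a (σ 4) (σ 4) = -4 * w)) := by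
  have c0_1 : cc T (σ 0) (σ 1) = 1 := by rw [hC 0 1 (by decide)]; rfl
  have c0_2 : cc T (σ 0) (σ 2) = 0 := by rw [hC 0 2 (by decide)]; rfl
  have c0_3 : cc T (σ 0) (σ 3) = 0 := by rw [hC 0 3 (by decide)]; rfl
  have c0_4 : cc T (σ 0) (σ 4) = 0 := by rw [hC 0 4 (by decide)]; rfl
  have c1_0 : cc T (σ 1) (σ 0) = 1 := by rw [hC 1 0 (by decide)]; rfl
  have c1_2 : cc T (σ 1) (σ 2) = 1 := by rw [hC 1 2 (by decide)]; rfl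
  have c1_3 : cc T (σ 1) (σ 3) = 0 := by rw [hC 1 3 (by decide)]; rfl
  have c1_4 : cc T (σ 1) (σ 4) = 0 := by rw [hC 1 4 (by decide)]; rfl
  have c2_0 : cc T (σ 2) (σ 0) = 0 := by rw [hC 2 0 (by decide)]; rfl
  have c2_1 : cc T (σ 2) (σ 1) = 1 := by rw [hC 2 1 (by decide)]; rfl
  have c2_3 : cc T (σ 2) (σ 3) = 1 := by rw [hC 2 3 (by decide)]; rfl
  have c2_4 : cc T (σ 2) (σ 4) = 0 := by rw [hC 2 4 (by decide)]; rfl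
  have c3_0 : cc T (σ 3) (σ 0) = 0 := by rw [hC 3 0 (by decide)]; rfl
  have c3_1 : cc T (σ 3) (σ 1) = 0 := by rw [hC 3 1 (by decide)]; rfl
  have c3_2 : cc T (σ 3) (σ 2) = 2 := by rw [hC 3 2 (by decide)]; rfl
  have c3_4 : cc T (σ 3) (σ 4) = 1 := by rw [hC 3 4 (by decide)]; rfl
  have c4_0 : cc T (σ 4) (σ 0) = 0 := by rw [hC 4 0 (by decide)]; rfl
  have c4_1 : cc T (σ 4) (σ 1) = 0 := by rw [hC 4 1 (by decide)]; rfl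
  have c4_2 : cc T (σ 4) (σ 2) = 0 := by rw [hC 4 2 (by decide)]; rfl
  have c4_3 : cc T (σ 4) (σ 3) = 1 := by rw [hC 4 3 (by decide)]; rfl
  have dd0 := cc_diag T hd (σ 0)
  have dd1 := cc_diag T hd (σ 1)
  have dd2 := cc_diag T hd (σ 2)
  have dd3 := cc_diag T hd (σ 3)
  have dd4 := cc_diag T hd (σ 4)
  have r0 := row5 T σ 0
  rw [dd0, c0_1, c0_2, c0_3, c0_4] at r0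
  have r1 := row5 T σ 1
  rw [c1_0, dd1, c1_2, c1_3, c1_4] at r1
  have r2 := row5 T σ 2
  rw [c2_0, c2_1, dd2, c2_3, c2_4] at r2
  have r3 := row5 T σ 3
  rw [c3_0, c3_1, c3_2, dd3, c3_4] at r3
  have r4 := row5 T σ 4
  rw [c4_0, c4_1, c4_2, c4_3, dd4] at r4
  have a0_1 : T.a (σ 0) (σ 1) = T.w (σ 0) * 1 := by rw [a_eq, c0_1]
  have a0_2 : T.a (σ 0) (σ 2) = T.w (σ 0) * 0 := by rw [a_eq, c0_2]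
  have a0_3 : T.a (σ 0) (σ 3) = T.w (σ 0) * 0 := by rw [a_eq, c0_3]
  have a0_4 : T.a (σ 0) (σ 4) = T.w (σ 0) * 0 := by rw [a_eq, c0_4]
  have a1_0 : T.a (σ 1) (σ 0) = T.w (σ 1) * 1 := by rw [a_eq, c1_0]
  have a1_2 : T.a (σ 1) (σ 2) = T.w (σ 1) * 1 := by rw [a_eq, c1_2]
  have a1_3 : T.a (σ 1) (σ 3) = T.w (σ 1) * 0 := by rw [a_eq, c1_3]
  have a1_4 : T.a (σ 1) (σ 4) = T.w (σ 1) * 0 := by rw [a_eq, c1_4]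
  have a2_0 : T.a (σ 2) (σ 0) = T.w (σ 2) * 0 := by rw [a_eq, c2_0]
  have a2_1 : T.a (σ 2) (σ 1) = T.w (σ 2) * 1 := by rw [a_eq, c2_1]
  have a2_3 : T.a (σ 2) (σ 3) = T.w (σ 2) * 1 := by rw [a_eq, c2_3]
  have a2_4 : T.a (σ 2) (σ 4) = T.w (σ 2) * 0 := by rw [a_eq, c2_4]
  have a3_0 : T.a (σ 3) (σ 0) = T.w (σ 3) * 0 := by rw [a_eq, c3_0]
  have a3_1 : T.a (σ 3) (σ 1) = T.w (σ 3) * 0 := by rw [a_eq, c3_1]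
  have a3_2 : T.a (σ 3) (σ 2) = T.w (σ 3) * 2 := by rw [a_eq, c3_2]
  have a3_4 : T.a (σ 3) (σ 4) = T.w (σ 3) * 1 := by rw [a_eq, c3_4]
  have a4_0 : T.a (σ 4) (σ 0) = T.w (σ 4) * 0 := by rw [a_eq, c4_0]
  have a4_1 : T.a (σ 4) (σ 1) = T.w (σ 4) * 0 := by rw [a_eq, c4_1]
  have a4_2 : T.a (σ 4) (σ 2) = T.w (σ 4) * 0 := by rw [a_eq, c4_2]
  have a4_3 : T.a (σ 4) (σ 3) = T.w (σ 4) * 1 := by rw [a_eq, c4_3]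
  have ad0 := hd (σ 0)
  have ad1 := hd (σ 1)
  have ad2 := hd (σ 2)
  have ad3 := hd (σ 3)
  have ad4 := hd (σ 4)
  have s0_1 := a_symm T (σ 0) (σ 1)
  have s0_2 := a_symm T (σ 0) (σ 2)
  have s0_3 := a_symm T (σ 0) (σ 3)
  have s0_4 := a_symm T (σ 0) (σ 4)
  have s1_2 := a_symm T (σ 1) (σ 2)
  have s1_3 := a_symm T (σ 1) (σ 3)
  have s1_4 := a_symm T (σ 1) (σ 4)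
  have s2_3 := a_symm T (σ 2) (σ 3)
  have s2_4 := a_symm T (σ 2) (σ 4)
  have s3_4 := a_symm T (σ 3) (σ 4)
  clear c0_1 c0_2 c0_3 c0_4 c1_0 c1_2 c1_3 c1_4 c2_0 c2_1 c2_3 c2_4 c3_0 c3_1 c3_2 c3_4 c4_0 c4_1 c4_2 c4_3 dd0 dd1 dd2 dd3 dd4 hC
  have hm0 : T.m (σ 0) = 1 * T.m (σ 0) := by omega
  have hm1 : T.m (σ 1) = 2 * T.m (σ 0) := by omega
  have hm2 : T.m (σ 2) = 3 * T.m (σ 0) := by omega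
  have hm3 : T.m (σ 3) = 4 * T.m (σ 0) := by omega
  have hm4 : T.m (σ 4) = 2 * T.m (σ 0) := by omega
  clear r0 r1 r2 r3 r4
  have hw0 : T.w (σ 0) = 2 * T.w (σ 3) := by omega
  have hw1 : T.w (σ 1) = 2 * T.w (σ 3) := by omega
  have hw2 : T.w (σ 2) = 2 * T.w (σ 3) := by omega
  have hw3 : T.w (σ 3) = 1 * T.w (σ 3) := by omega
  have hw4 : T.w (σ 4) = 1 * T.w (σ 3) := by omega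
  refine ⟨σ, T.m (σ 0), T.w (σ 3), ?_⟩
  refine Or.inr (Or.inr (Or.inl ?_))
  refine ⟨?_, ?_, ?_, ?_, ?_, ?_, ?_, ?_, ?_, ?_, ?_, ?_, ?_, ?_, ?_, ?_, ?_, ?_, ?_, ?_, ?_, ?_, ?_, ?_, ?_⟩ <;> omega

theorem form5_3 (T : NumericalType 5) (hd : ∀ i, T.a i i = -2 * T.w i)
    (σ : Equiv.Perm (Fin 5))
    (hC : ∀ i j : Fin 5, i ≠ j → cc T (σ i) (σ j) = (E forms5 3 i j : ℤ)) :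
    ∃ (σ : Equiv.Perm (Fin 5)) (m w : ℤ),
      ((T.m (σ 0) = m ∧ T.m (σ 1) = m ∧ T.m (σ 2) = m ∧ T.m (σ 3) = m ∧ T.m (σ 4) = m ∧ T.w (σ 0) = w ∧ T.w (σ 1) = w ∧ T.w (σ 2) = w ∧ T.w (σ 3) = w ∧ T.w (σ 4) = w ∧ T.a (σ 0) (σ 0) = -2 * w ∧ T.a (σ 0) (σ 1) = w ∧ T.a (σ 0) (σ 2) = 0 ∧ T.a (σ 0) (σ 3) = 0 ∧ T.a (σ 0) (σ 4) = w ∧ T.a (σ 1) (σ 1) = -2 * w ∧ T.a (σ 1) (σ 2) = w ∧ T.a (σ 1) (σ 3) = 0 ∧ T.a (σ 1) (σ 4) = 0 ∧ T.a (σ 2) (σ 2) = -2 * w ∧ T.a (σ 2) (σ 3) = w ∧ T.a (σ 2) (σ 4) = 0 ∧ T.a (σ 3) (σ 3) = -2 * w ∧ T.a (σ 3) (σ 4) = w ∧ T.a (σ 4) (σ 4) = -2 * w) ∨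
      (T.m (σ 0) = m ∧ T.m (σ 1) = 2 * m ∧ T.m (σ 2) = 3 * m ∧ T.m (σ 3) = 2 * m ∧ T.m (σ 4) = m ∧ T.w (σ 0) = w ∧ T.w (σ 1) = w ∧ T.w (σ 2) = w ∧ T.w (σ 3) = 2 * w ∧ T.w (σ 4) = 2 * w ∧ T.a (σ 0) (σ 0) = -2 * w ∧ T.a (σ 0) (σ 1) = w ∧ T.a (σ 0) (σ 2) = 0 ∧ T.a (σ 0) (σ 3) = 0 ∧ T.a (σ 0) (σ 4) = 0 ∧ T.a (σ 1) (σ 1) = -2 * w ∧ T.a (σ 1) (σ 2) = w ∧ T.a (σ 1) (σ 3) = 0 ∧ T.a (σ 1) (σ 4) = 0 ∧ T.a (σ 2) (σ 2) = -2 * w ∧ T.a (σ 2) (σ 3) = 2 * w ∧ T.a (σ 2) (σ 4) = 0 ∧ T.a (σ 3) (σ 3) = -4 * w ∧ T.a (σ 3) (σ 4) = 2 * w ∧ T.a (σ 4) (σ 4) = -4 * w) ∨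
      (T.m (σ 0) = m ∧ T.m (σ 1) = 2 * m ∧ T.m (σ 2) = 3 * m ∧ T.m (σ 3) = 4 * m ∧ T.m (σ 4) = 2 * m ∧ T.w (σ 0) = 2 * w ∧ T.w (σ 1) = 2 * w ∧ T.w (σ 2) = 2 * w ∧ T.w (σ 3) = w ∧ T.w (σ 4) = w ∧ T.a (σ 0) (σ 0) = -4 * w ∧ T.a (σ 0) (σ 1) = 2 * w ∧ T.a (σ 0) (σ 2) = 0 ∧ T.a (σ 0) (σ 3) = 0 ∧ T.a (σ 0) (σ 4) = 0 ∧ T.a (σ 1) (σ 1) = -4 * w ∧ T.a (σ 1) (σ 2) = 2 * w ∧ T.a (σ 1) (σ 3) = 0 ∧ T.a (σ 1) (σ 4) = 0 ∧ T.a (σ 2) (σ 2) = -4 * w ∧ T.a (σ 2) (σ 3) = 2 * w ∧ T.a (σ 2) (σ 4) = 0 ∧ T.a (σ 3) (σ 3) = -2 * w ∧ T.a (σ 3) (σ 4) = w ∧ T.a (σ 4) (σ 4) = -2 * w) ∨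
      (T.m (σ 0) = 2 * m ∧ T.m (σ 1) = 2 * m ∧ T.m (σ 2) = 2 * m ∧ T.m (σ 3) = 2 * m ∧ T.m (σ 4) = m ∧ T.w (σ 0) = w ∧ T.w (σ 1) = 2 * w ∧ T.w (σ 2) = 2 * w ∧ T.w (σ 3) = 2 * w ∧ T.w (σ 4) = 4 * w ∧ T.a (σ 0) (σ 0) = -2 * w ∧ T.a (σ 0) (σ 1) = 2 * w ∧ T.a (σ 0) (σ 2) = 0 ∧ T.a (σ 0) (σ 3) = 0 ∧ T.a (σ 0) (σ 4) = 0 ∧ T.a (σ 1) (σ 1) = -4 * w ∧ T.a (σ 1) (σ 2) = 2 * w ∧ T.a (σ 1) (σ 3) = 0 ∧ T.a (σ 1) (σ 4) = 0 ∧ T.a (σ 2) (σ 2) = -4 * w ∧ T.a (σ 2) (σ 3) = 2 * w ∧ T.a (σ 2) (σ 4) = 0 ∧ T.a (σ 3) (σ 3) = -4 * w ∧ T.a (σ 3) (σ 4) = 4 * w ∧ T.a (σ 4) (σ 4) = -8 * w) ∨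
      (T.m (σ 0) = m ∧ T.m (σ 1) = m ∧ T.m (σ 2) = m ∧ T.m (σ 3) = m ∧ T.m (σ 4) = m ∧ T.w (σ 0) = w ∧ T.w (σ 1) = 2 * w ∧ T.w (σ 2) = 2 * w ∧ T.w (σ 3) = 2 * w ∧ T.w (σ 4) = w ∧ T.a (σ 0) (σ 0) = -2 * w ∧ T.a (σ 0) (σ 1) = 2 * w ∧ T.a (σ 0) (σ 2) = 0 ∧ T.a (σ 0) (σ 3) = 0 ∧ T.a (σ 0) (σ 4) = 0 ∧ T.a (σ 1) (σ 1) = -4 * w ∧ T.a (σ 1) (σ 2) = 2 * w ∧ T.a (σ 1) (σ 3) = 0 ∧ T.a (σ 1) (σ 4) = 0 ∧ T.a (σ 2) (σ 2) = -4 * w ∧ T.a (σ 2) (σ 3) = 2 * w ∧ T.a (σ 2) (σ 4) = 0 ∧ T.a (σ 3) (σ 3) = -4 * w ∧ T.a (σ 3) (σ 4) = 2 * w ∧ T.a (σ 4) (σ 4) = -2 * w) ∨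
      (T.m (σ 0) = m ∧ T.m (σ 1) = 2 * m ∧ T.m (σ 2) = 2 * m ∧ T.m (σ 3) = 2 * m ∧ T.m (σ 4) = m ∧ T.w (σ 0) = 2 * w ∧ T.w (σ 1) = w ∧ T.w (σ 2) = w ∧ T.w (σ 3) = w ∧ T.w (σ 4) = 2 * w ∧ T.a (σ 0) (σ 0) = -4 * w ∧ T.a (σ 0) (σ 1) = 2 * w ∧ T.a (σ 0) (σ 2) = 0 ∧ T.a (σ 0) (σ 3) = 0 ∧ T.a (σ 0) (σ 4) = 0 ∧ T.a (σ 1) (σ 1) = -2 * w ∧ T.a (σ 1) (σ 2) = w ∧ T.a (σ 1) (σ 3) = 0 ∧ T.a (σ 1) (σ 4) = 0 ∧ T.a (σ 2) (σ 2) = -2 * w ∧ T.a (σ 2) (σ 3) = w ∧ T.a (σ 2) (σ 4) = 0 ∧ T.a (σ 3) (σ 3) = -2 * w ∧ T.a (σ 3) (σ 4) = 2 * w ∧ T.a (σ 4) (σ 4) = -4 * w) ∨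
      (T.m (σ 0) = 2 * m ∧ T.m (σ 1) = m ∧ T.m (σ 2) = m ∧ T.m (σ 3) = m ∧ T.m (σ 4) = m ∧ T.w (σ 0) = w ∧ T.w (σ 1) = w ∧ T.w (σ 2) = w ∧ T.w (σ 3) = w ∧ T.w (σ 4) = w ∧ T.a (σ 0) (σ 0) = -2 * w ∧ T.a (σ 0) (σ 1) = w ∧ T.a (σ 0) (σ 2) = w ∧ T.a (σ 0) (σ 3) = w ∧ T.a (σ 0) (σ 4) = w ∧ T.a (σ 1) (σ 1) = -2 * w ∧ T.a (σ 1) (σ 2) = 0 ∧ T.a (σ 1) (σ 3) = 0 ∧ T.a (σ 1) (σ 4) = 0 ∧ T.a (σ 2) (σ 2) = -2 * w ∧ T.a (σ 2) (σ 3) = 0 ∧ T.a (σ 2) (σ 4) = 0 ∧ T.a (σ 3) (σ 3) = -2 * w ∧ T.a (σ 3) (σ 4) = 0 ∧ T.a (σ 4) (σ 4) = -2 * w) ∨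
      (T.m (σ 0) = m ∧ T.m (σ 1) = 2 * m ∧ T.m (σ 2) = 2 * m ∧ T.m (σ 3) = m ∧ T.m (σ 4) = m ∧ T.w (σ 0) = 2 * w ∧ T.w (σ 1) = w ∧ T.w (σ 2) = w ∧ T.w (σ 3) = w ∧ T.w (σ 4) = w ∧ T.a (σ 0) (σ 0) = -4 * w ∧ T.a (σ 0) (σ 1) = 2 * w ∧ T.a (σ 0) (σ 2) = 0 ∧ T.a (σ 0) (σ 3) = 0 ∧ T.a (σ 0) (σ 4) = 0 ∧ T.a (σ 1) (σ 1) = -2 * w ∧ T.a (σ 1) (σ 2) = w ∧ T.a (σ 1) (σ 3) = 0 ∧ T.a (σ 1) (σ 4) = 0 ∧ T.a (σ 2) (σ 2) = -2 * w ∧ T.a (σ 2) (σ 3) = w ∧ T.a (σ 2) (σ 4) = w ∧ T.a (σ 3) (σ 3) = -2 * w ∧ T.a (σ 3) (σ 4) = 0 ∧ T.a (σ 4) (σ 4) = -2 * w) ∨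
      (T.m (σ 0) = 2 * m ∧ T.m (σ 1) = 2 * m ∧ T.m (σ 2) = 2 * m ∧ T.m (σ 3) = m ∧ T.m (σ 4) = m ∧ T.w (σ 0) = w ∧ T.w (σ 1) = 2 * w ∧ T.w (σ 2) = 2 * w ∧ T.w (σ 3) = 2 * w ∧ T.w (σ 4) = 2 * w ∧ T.a (σ 0) (σ 0) = -2 * w ∧ T.a (σ 0) (σ 1) = 2 * w ∧ T.a (σ 0) (σ 2) = 0 ∧ T.a (σ 0) (σ 3) = 0 ∧ T.a (σ 0) (σ 4) = 0 ∧ T.a (σ 1) (σ 1) = -4 * w ∧ T.a (σ 1) (σ 2) = 2 * w ∧ T.a (σ 1) (σ 3) = 0 ∧ T.a (σ 1) (σ 4) = 0 ∧ T.a (σ 2) (σ 2) = -4 * w ∧ T.a (σ 2) (σ 3) = 2 * w ∧ T.a (σ 2) (σ 4) = 2 * w ∧ T.a (σ 3) (σ 3) = -4 * w ∧ T.a (σ 3) (σ 4) = 0 ∧ T.a (σ 4) (σ 4) = -4 * w)) := by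
  have c0_1 : cc T (σ 0) (σ 1) = 2 := by rw [hC 0 1 (by decide)]; rfl
  have c0_2 : cc T (σ 0) (σ 2) = 0 := by rw [hC 0 2 (by decide)]; rfl
  have c0_3 : cc T (σ 0) (σ 3) = 0 := by rw [hC 0 3 (by decide)]; rfl
  have c0_4 : cc T (σ 0) (σ 4) = 0 := by rw [hC 0 4 (by decide)]; rfl
  have c1_0 : cc T (σ 1) (σ 0) = 1 := by rw [hC 1 0 (by decide)]; rfl
  have c1_2 : cc T (σ 1) (σ 2) = 1 := by rw [hC 1 2 (by decide)]; rfl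
  have c1_3 : cc T (σ 1) (σ 3) = 0 := by rw [hC 1 3 (by decide)]; rfl
  have c1_4 : cc T (σ 1) (σ 4) = 0 := by rw [hC 1 4 (by decide)]; rfl
  have c2_0 : cc T (σ 2) (σ 0) = 0 := by rw [hC 2 0 (by decide)]; rfl
  have c2_1 : cc T (σ 2) (σ 1) = 1 := by rw [hC 2 1 (by decide)]; rfl
  have c2_3 : cc T (σ 2) (σ 3) = 1 := by rw [hC 2 3 (by decide)]; rfl
  have c2_4 : cc T (σ 2) (σ 4) = 0 := by rw [hC 2 4 (by decide)]; rfl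
  have c3_0 : cc T (σ 3) (σ 0) = 0 := by rw [hC 3 0 (by decide)]; rfl
  have c3_1 : cc T (σ 3) (σ 1) = 0 := by rw [hC 3 1 (by decide)]; rfl
  have c3_2 : cc T (σ 3) (σ 2) = 1 := by rw [hC 3 2 (by decide)]; rfl
  have c3_4 : cc T (σ 3) (σ 4) = 2 := by rw [hC 3 4 (by decide)]; rfl
  have c4_0 : cc T (σ 4) (σ 0) = 0 := by rw [hC 4 0 (by decide)]; rfl
  have c4_1 : cc T (σ 4) (σ 1) = 0 := by rw [hC 4 1 (by decide)]; rfl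
  have c4_2 : cc T (σ 4) (σ 2) = 0 := by rw [hC 4 2 (by decide)]; rfl
  have c4_3 : cc T (σ 4) (σ 3) = 1 := by rw [hC 4 3 (by decide)]; rfl
  have dd0 := cc_diag T hd (σ 0)
  have dd1 := cc_diag T hd (σ 1)
  have dd2 := cc_diag T hd (σ 2)
  have dd3 := cc_diag T hd (σ 3)
  have dd4 := cc_diag T hd (σ 4)
  have r0 := row5 T σ 0
  rw [dd0, c0_1, c0_2, c0_3, c0_4] at r0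
  have r1 := row5 T σ 1
  rw [c1_0, dd1, c1_2, c1_3, c1_4] at r1
  have r2 := row5 T σ 2
  rw [c2_0, c2_1, dd2, c2_3, c2_4] at r2
  have r3 := row5 T σ 3
  rw [c3_0, c3_1, c3_2, dd3, c3_4] at r3
  have r4 := row5 T σ 4
  rw [c4_0, c4_1, c4_2, c4_3, dd4] at r4
  have a0_1 : T.a (σ 0) (σ 1) = T.w (σ 0) * 2 := by rw [a_eq, c0_1]
  have a0_2 : T.a (σ 0) (σ 2) = T.w (σ 0) * 0 := by rw [a_eq, c0_2]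
  have a0_3 : T.a (σ 0) (σ 3) = T.w (σ 0) * 0 := by rw [a_eq, c0_3]
  have a0_4 : T.a (σ 0) (σ 4) = T.w (σ 0) * 0 := by rw [a_eq, c0_4]
  have a1_0 : T.a (σ 1) (σ 0) = T.w (σ 1) * 1 := by rw [a_eq, c1_0]
  have a1_2 : T.a (σ 1) (σ 2) = T.w (σ 1) * 1 := by rw [a_eq, c1_2]
  have a1_3 : T.a (σ 1) (σ 3) = T.w (σ 1) * 0 := by rw [a_eq, c1_3]
  have a1_4 : T.a (σ 1) (σ 4) = T.w (σ 1) * 0 := by rw [a_eq, c1_4]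
  have a2_0 : T.a (σ 2) (σ 0) = T.w (σ 2) * 0 := by rw [a_eq, c2_0]
  have a2_1 : T.a (σ 2) (σ 1) = T.w (σ 2) * 1 := by rw [a_eq, c2_1]
  have a2_3 : T.a (σ 2) (σ 3) = T.w (σ 2) * 1 := by rw [a_eq, c2_3]
  have a2_4 : T.a (σ 2) (σ 4) = T.w (σ 2) * 0 := by rw [a_eq, c2_4]
  have a3_0 : T.a (σ 3) (σ 0) = T.w (σ 3) * 0 := by rw [a_eq, c3_0]
  have a3_1 : T.a (σ 3) (σ 1) = T.w (σ 3) * 0 := by rw [a_eq, c3_1]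
  have a3_2 : T.a (σ 3) (σ 2) = T.w (σ 3) * 1 := by rw [a_eq, c3_2]
  have a3_4 : T.a (σ 3) (σ 4) = T.w (σ 3) * 2 := by rw [a_eq, c3_4]
  have a4_0 : T.a (σ 4) (σ 0) = T.w (σ 4) * 0 := by rw [a_eq, c4_0]
  have a4_1 : T.a (σ 4) (σ 1) = T.w (σ 4) * 0 := by rw [a_eq, c4_1]
  have a4_2 : T.a (σ 4) (σ 2) = T.w (σ 4) * 0 := by rw [a_eq, c4_2]
  have a4_3 : T.a (σ 4) (σ 3) = T.w (σ 4) * 1 := by rw [a_eq, c4_3]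
  have ad0 := hd (σ 0)
  have ad1 := hd (σ 1)
  have ad2 := hd (σ 2)
  have ad3 := hd (σ 3)
  have ad4 := hd (σ 4)
  have s0_1 := a_symm T (σ 0) (σ 1)
  have s0_2 := a_symm T (σ 0) (σ 2)
  have s0_3 := a_symm T (σ 0) (σ 3)
  have s0_4 := a_symm T (σ 0) (σ 4)
  have s1_2 := a_symm T (σ 1) (σ 2)
  have s1_3 := a_symm T (σ 1) (σ 3)
  have s1_4 := a_symm T (σ 1) (σ 4)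
  have s2_3 := a_symm T (σ 2) (σ 3)
  have s2_4 := a_symm T (σ 2) (σ 4)
  have s3_4 := a_symm T (σ 3) (σ 4)
  clear c0_1 c0_2 c0_3 c0_4 c1_0 c1_2 c1_3 c1_4 c2_0 c2_1 c2_3 c2_4 c3_0 c3_1 c3_2 c3_4 c4_0 c4_1 c4_2 c4_3 dd0 dd1 dd2 dd3 dd4 hC
  have hm0 : T.m (σ 0) = 2 * T.m (σ 4) := by omega
  have hm1 : T.m (σ 1) = 2 * T.m (σ 4) := by omega
  have hm2 : T.m (σ 2) = 2 * T.m (σ 4) := by omega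
  have hm3 : T.m (σ 3) = 2 * T.m (σ 4) := by omega
  have hm4 : T.m (σ 4) = 1 * T.m (σ 4) := by omega
  clear r0 r1 r2 r3 r4
  have hw0 : T.w (σ 0) = 1 * T.w (σ 0) := by omega
  have hw1 : T.w (σ 1) = 2 * T.w (σ 0) := by omega
  have hw2 : T.w (σ 2) = 2 * T.w (σ 0) := by omega
  have hw3 : T.w (σ 3) = 2 * T.w (σ 0) := by omega
  have hw4 : T.w (σ 4) = 4 * T.w (σ 0) := by omega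
  refine ⟨σ, T.m (σ 4), T.w (σ 0), ?_⟩
  refine Or.inr (Or.inr (Or.inr (Or.inl ?_)))
  refine ⟨?_, ?_, ?_, ?_, ?_, ?_, ?_, ?_, ?_, ?_, ?_, ?_, ?_, ?_, ?_, ?_, ?_, ?_, ?_, ?_, ?_, ?_, ?_, ?_, ?_⟩ <;> omega

theorem form5_4 (T : NumericalType 5) (hd : ∀ i, T.a i i = -2 * T.w i)
    (σ : Equiv.Perm (Fin 5))
    (hC : ∀ i j : Fin 5, i ≠ j → cc T (σ i) (σ j) = (E forms5 4 i j : ℤ)) :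
    ∃ (σ : Equiv.Perm (Fin 5)) (m w : ℤ),
      ((T.m (σ 0) = m ∧ T.m (σ 1) = m ∧ T.m (σ 2) = m ∧ T.m (σ 3) = m ∧ T.m (σ 4) = m ∧ T.w (σ 0) = w ∧ T.w (σ 1) = w ∧ T.w (σ 2) = w ∧ T.w (σ 3) = w ∧ T.w (σ 4) = w ∧ T.a (σ 0) (σ 0) = -2 * w ∧ T.a (σ 0) (σ 1) = w ∧ T.a (σ 0) (σ 2) = 0 ∧ T.a (σ 0) (σ 3) = 0 ∧ T.a (σ 0) (σ 4) = w ∧ T.a (σ 1) (σ 1) = -2 * w ∧ T.a (σ 1) (σ 2) = w ∧ T.a (σ 1) (σ 3) = 0 ∧ T.a (σ 1) (σ 4) = 0 ∧ T.a (σ 2) (σ 2) = -2 * w ∧ T.a (σ 2) (σ 3) = w ∧ T.a (σ 2) (σ 4) = 0 ∧ T.a (σ 3) (σ 3) = -2 * w ∧ T.a (σ 3) (σ 4) = w ∧ T.a (σ 4) (σ 4) = -2 * w) ∨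
      (T.m (σ 0) = m ∧ T.m (σ 1) = 2 * m ∧ T.m (σ 2) = 3 * m ∧ T.m (σ 3) = 2 * m ∧ T.m (σ 4) = m ∧ T.w (σ 0) = w ∧ T.w (σ 1) = w ∧ T.w (σ 2) = w ∧ T.w (σ 3) = 2 * w ∧ T.w (σ 4) = 2 * w ∧ T.a (σ 0) (σ 0) = -2 * w ∧ T.a (σ 0) (σ 1) = w ∧ T.a (σ 0) (σ 2) = 0 ∧ T.a (σ 0) (σ 3) = 0 ∧ T.a (σ 0) (σ 4) = 0 ∧ T.a (σ 1) (σ 1) = -2 * w ∧ T.a (σ 1) (σ 2) = w ∧ T.a (σ 1) (σ 3) = 0 ∧ T.a (σ 1) (σ 4) = 0 ∧ T.a (σ 2) (σ 2) = -2 * w ∧ T.a (σ 2) (σ 3) = 2 * w ∧ T.a (σ 2) (σ 4) = 0 ∧ T.a (σ 3) (σ 3) = -4 * w ∧ T.a (σ 3) (σ 4) = 2 * w ∧ T.a (σ 4) (σ 4) = -4 * w) ∨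
      (T.m (σ 0) = m ∧ T.m (σ 1) = 2 * m ∧ T.m (σ 2) = 3 * m ∧ T.m (σ 3) = 4 * m ∧ T.m (σ 4) = 2 * m ∧ T.w (σ 0) = 2 * w ∧ T.w (σ 1) = 2 * w ∧ T.w (σ 2) = 2 * w ∧ T.w (σ 3) = w ∧ T.w (σ 4) = w ∧ T.a (σ 0) (σ 0) = -4 * w ∧ T.a (σ 0) (σ 1) = 2 * w ∧ T.a (σ 0) (σ 2) = 0 ∧ T.a (σ 0) (σ 3) = 0 ∧ T.a (σ 0) (σ 4) = 0 ∧ T.a (σ 1) (σ 1) = -4 * w ∧ T.a (σ 1) (σ 2) = 2 * w ∧ T.a (σ 1) (σ 3) = 0 ∧ T.a (σ 1) (σ 4) = 0 ∧ T.a (σ 2) (σ 2) = -4 * w ∧ T.a (σ 2) (σ 3) = 2 * w ∧ T.a (σ 2) (σ 4) = 0 ∧ T.a (σ 3) (σ 3) = -2 * w ∧ T.a (σ 3) (σ 4) = w ∧ T.a (σ 4) (σ 4) = -2 * w) ∨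
      (T.m (σ 0) = 2 * m ∧ T.m (σ 1) = 2 * m ∧ T.m (σ 2) = 2 * m ∧ T.m (σ 3) = 2 * m ∧ T.m (σ 4) = m ∧ T.w (σ 0) = w ∧ T.w (σ 1) = 2 * w ∧ T.w (σ 2) = 2 * w ∧ T.w (σ 3) = 2 * w ∧ T.w (σ 4) = 4 * w ∧ T.a (σ 0) (σ 0) = -2 * w ∧ T.a (σ 0) (σ 1) = 2 * w ∧ T.a (σ 0) (σ 2) = 0 ∧ T.a (σ 0) (σ 3) = 0 ∧ T.a (σ 0) (σ 4) = 0 ∧ T.a (σ 1) (σ 1) = -4 * w ∧ T.a (σ 1) (σ 2) = 2 * w ∧ T.a (σ 1) (σ 3) = 0 ∧ T.a (σ 1) (σ 4) = 0 ∧ T.a (σ 2) (σ 2) = -4 * w ∧ T.a (σ 2) (σ 3) = 2 * w ∧ T.a (σ 2) (σ 4) = 0 ∧ T.a (σ 3) (σ 3) = -4 * w ∧ T.a (σ 3) (σ 4) = 4 * w ∧ T.a (σ 4) (σ 4) = -8 * w) ∨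
      (T.m (σ 0) = m ∧ T.m (σ 1) = m ∧ T.m (σ 2) = m ∧ T.m (σ 3) = m ∧ T.m (σ 4) = m ∧ T.w (σ 0) = w ∧ T.w (σ 1) = 2 * w ∧ T.w (σ 2) = 2 * w ∧ T.w (σ 3) = 2 * w ∧ T.w (σ 4) = w ∧ T.a (σ 0) (σ 0) = -2 * w ∧ T.a (σ 0) (σ 1) = 2 * w ∧ T.a (σ 0) (σ 2) = 0 ∧ T.a (σ 0) (σ 3) = 0 ∧ T.a (σ 0) (σ 4) = 0 ∧ T.a (σ 1) (σ 1) = -4 * w ∧ T.a (σ 1) (σ 2) = 2 * w ∧ T.a (σ 1) (σ 3) = 0 ∧ T.a (σ 1) (σ 4) = 0 ∧ T.a (σ 2) (σ 2) = -4 * w ∧ T.a (σ 2) (σ 3) = 2 * w ∧ T.a (σ 2) (σ 4) = 0 ∧ T.a (σ 3) (σ 3) = -4 * w ∧ T.a (σ 3) (σ 4) = 2 * w ∧ T.a (σ 4) (σ 4) = -2 * w) ∨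
      (T.m (σ 0) = m ∧ T.m (σ 1) = 2 * m ∧ T.m (σ 2) = 2 * m ∧ T.m (σ 3) = 2 * m ∧ T.m (σ 4) = m ∧ T.w (σ 0) = 2 * w ∧ T.w (σ 1) = w ∧ T.w (σ 2) = w ∧ T.w (σ 3) = w ∧ T.w (σ 4) = 2 * w ∧ T.a (σ 0) (σ 0) = -4 * w ∧ T.a (σ 0) (σ 1) = 2 * w ∧ T.a (σ 0) (σ 2) = 0 ∧ T.a (σ 0) (σ 3) = 0 ∧ T.a (σ 0) (σ 4) = 0 ∧ T.a (σ 1) (σ 1) = -2 * w ∧ T.a (σ 1) (σ 2) = w ∧ T.a (σ 1) (σ 3) = 0 ∧ T.a (σ 1) (σ 4) = 0 ∧ T.a (σ 2) (σ 2) = -2 * w ∧ T.a (σ 2) (σ 3) = w ∧ T.a (σ 2) (σ 4) = 0 ∧ T.a (σ 3) (σ 3) = -2 * w ∧ T.a (σ 3) (σ 4) = 2 * w ∧ T.a (σ 4) (σ 4) = -4 * w) ∨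
      (T.m (σ 0) = 2 * m ∧ T.m (σ 1) = m ∧ T.m (σ 2) = m ∧ T.m (σ 3) = m ∧ T.m (σ 4) = m ∧ T.w (σ 0) = w ∧ T.w (σ 1) = w ∧ T.w (σ 2) = w ∧ T.w (σ 3) = w ∧ T.w (σ 4) = w ∧ T.a (σ 0) (σ 0) = -2 * w ∧ T.a (σ 0) (σ 1) = w ∧ T.a (σ 0) (σ 2) = w ∧ T.a (σ 0) (σ 3) = w ∧ T.a (σ 0) (σ 4) = w ∧ T.a (σ 1) (σ 1) = -2 * w ∧ T.a (σ 1) (σ 2) = 0 ∧ T.a (σ 1) (σ 3) = 0 ∧ T.a (σ 1) (σ 4) = 0 ∧ T.a (σ 2) (σ 2) = -2 * w ∧ T.a (σ 2) (σ 3) = 0 ∧ T.a (σ 2) (σ 4) = 0 ∧ T.a (σ 3) (σ 3) = -2 * w ∧ T.a (σ 3) (σ 4) = 0 ∧ T.a (σ 4) (σ 4) = -2 * w) ∨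
      (T.m (σ 0) = m ∧ T.m (σ 1) = 2 * m ∧ T.m (σ 2) = 2 * m ∧ T.m (σ 3) = m ∧ T.m (σ 4) = m ∧ T.w (σ 0) = 2 * w ∧ T.w (σ 1) = w ∧ T.w (σ 2) = w ∧ T.w (σ 3) = w ∧ T.w (σ 4) = w ∧ T.a (σ 0) (σ 0) = -4 * w ∧ T.a (σ 0) (σ 1) = 2 * w ∧ T.a (σ 0) (σ 2) = 0 ∧ T.a (σ 0) (σ 3) = 0 ∧ T.a (σ 0) (σ 4) = 0 ∧ T.a (σ 1) (σ 1) = -2 * w ∧ T.a (σ 1) (σ 2) = w ∧ T.a (σ 1) (σ 3) = 0 ∧ T.a (σ 1) (σ 4) = 0 ∧ T.a (σ 2) (σ 2) = -2 * w ∧ T.a (σ 2) (σ 3) = w ∧ T.a (σ 2) (σ 4) = w ∧ T.a (σ 3) (σ 3) = -2 * w ∧ T.a (σ 3) (σ 4) = 0 ∧ T.a (σ 4) (σ 4) = -2 * w) ∨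
      (T.m (σ 0) = 2 * m ∧ T.m (σ 1) = 2 * m ∧ T.m (σ 2) = 2 * m ∧ T.m (σ 3) = m ∧ T.m (σ 4) = m ∧ T.w (σ 0) = w ∧ T.w (σ 1) = 2 * w ∧ T.w (σ 2) = 2 * w ∧ T.w (σ 3) = 2 * w ∧ T.w (σ 4) = 2 * w ∧ T.a (σ 0) (σ 0) = -2 * w ∧ T.a (σ 0) (σ 1) = 2 * w ∧ T.a (σ 0) (σ 2) = 0 ∧ T.a (σ 0) (σ 3) = 0 ∧ T.a (σ 0) (σ 4) = 0 ∧ T.a (σ 1) (σ 1) = -4 * w ∧ T.a (σ 1) (σ 2) = 2 * w ∧ T.a (σ 1) (σ 3) = 0 ∧ T.a (σ 1) (σ 4) = 0 ∧ T.a (σ 2) (σ 2) = -4 * w ∧ T.a (σ 2) (σ 3) = 2 * w ∧ T.a (σ 2) (σ 4) = 2 * w ∧ T.a (σ 3) (σ 3) = -4 * w ∧ T.a (σ 3) (σ 4) = 0 ∧ T.a (σ 4) (σ 4) = -4 * w)) := by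
  have c0_1 : cc T (σ 0) (σ 1) = 2 := by rw [hC 0 1 (by decide)]; rfl
  have c0_2 : cc T (σ 0) (σ 2) = 0 := by rw [hC 0 2 (by decide)]; rfl
  have c0_3 : cc T (σ 0) (σ 3) = 0 := by rw [hC 0 3 (by decide)]; rfl
  have c0_4 : cc T (σ 0) (σ 4) = 0 := by rw [hC 0 4 (by decide)]; rfl
  have c1_0 : cc T (σ 1) (σ 0) = 1 := by rw [hC 1 0 (by decide)]; rfl
  have c1_2 : cc T (σ 1) (σ 2) = 1 := by rw [hC 1 2 (by decide)]; rfl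
  have c1_3 : cc T (σ 1) (σ 3) = 0 := by rw [hC 1 3 (by decide)]; rfl
  have c1_4 : cc T (σ 1) (σ 4) = 0 := by rw [hC 1 4 (by decide)]; rfl
  have c2_0 : cc T (σ 2) (σ 0) = 0 := by rw [hC 2 0 (by decide)]; rfl
  have c2_1 : cc T (σ 2) (σ 1) = 1 := by rw [hC 2 1 (by decide)]; rfl
  have c2_3 : cc T (σ 2) (σ 3) = 1 := by rw [hC 2 3 (by decide)]; rfl
  have c2_4 : cc T (σ 2) (σ 4) = 0 := by rw [hC 2 4 (by decide)]; rfl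
  have c3_0 : cc T (σ 3) (σ 0) = 0 := by rw [hC 3 0 (by decide)]; rfl
  have c3_1 : cc T (σ 3) (σ 1) = 0 := by rw [hC 3 1 (by decide)]; rfl
  have c3_2 : cc T (σ 3) (σ 2) = 1 := by rw [hC 3 2 (by decide)]; rfl
  have c3_4 : cc T (σ 3) (σ 4) = 1 := by rw [hC 3 4 (by decide)]; rfl
  have c4_0 : cc T (σ 4) (σ 0) = 0 := by rw [hC 4 0 (by decide)]; rfl
  have c4_1 : cc T (σ 4) (σ 1) = 0 := by rw [hC 4 1 (by decide)]; rfl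
  have c4_2 : cc T (σ 4) (σ 2) = 0 := by rw [hC 4 2 (by decide)]; rfl
  have c4_3 : cc T (σ 4) (σ 3) = 2 := by rw [hC 4 3 (by decide)]; rfl
  have dd0 := cc_diag T hd (σ 0)
  have dd1 := cc_diag T hd (σ 1)
  have dd2 := cc_diag T hd (σ 2)
  have dd3 := cc_diag T hd (σ 3)
  have dd4 := cc_diag T hd (σ 4)
  have r0 := row5 T σ 0
  rw [dd0, c0_1, c0_2, c0_3, c0_4] at r0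
  have r1 := row5 T σ 1
  rw [c1_0, dd1, c1_2, c1_3, c1_4] at r1
  have r2 := row5 T σ 2
  rw [c2_0, c2_1, dd2, c2_3, c2_4] at r2
  have r3 := row5 T σ 3
  rw [c3_0, c3_1, c3_2, dd3, c3_4] at r3
  have r4 := row5 T σ 4
  rw [c4_0, c4_1, c4_2, c4_3, dd4] at r4
  have a0_1 : T.a (σ 0) (σ 1) = T.w (σ 0) * 2 := by rw [a_eq, c0_1]
  have a0_2 : T.a (σ 0) (σ 2) = T.w (σ 0) * 0 := by rw [a_eq, c0_2]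
  have a0_3 : T.a (σ 0) (σ 3) = T.w (σ 0) * 0 := by rw [a_eq, c0_3]
  have a0_4 : T.a (σ 0) (σ 4) = T.w (σ 0) * 0 := by rw [a_eq, c0_4]
  have a1_0 : T.a (σ 1) (σ 0) = T.w (σ 1) * 1 := by rw [a_eq, c1_0]
  have a1_2 : T.a (σ 1) (σ 2) = T.w (σ 1) * 1 := by rw [a_eq, c1_2]
  have a1_3 : T.a (σ 1) (σ 3) = T.w (σ 1) * 0 := by rw [a_eq, c1_3]
  have a1_4 : T.a (σ 1) (σ 4) = T.w (σ 1) * 0 := by rw [a_eq, c1_4]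
  have a2_0 : T.a (σ 2) (σ 0) = T.w (σ 2) * 0 := by rw [a_eq, c2_0]
  have a2_1 : T.a (σ 2) (σ 1) = T.w (σ 2) * 1 := by rw [a_eq, c2_1]
  have a2_3 : T.a (σ 2) (σ 3) = T.w (σ 2) * 1 := by rw [a_eq, c2_3]
  have a2_4 : T.a (σ 2) (σ 4) = T.w (σ 2) * 0 := by rw [a_eq, c2_4]
  have a3_0 : T.a (σ 3) (σ 0) = T.w (σ 3) * 0 := by rw [a_eq, c3_0]
  have a3_1 : T.a (σ 3) (σ 1) = T.w (σ 3) * 0 := by rw [a_eq, c3_1]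
  have a3_2 : T.a (σ 3) (σ 2) = T.w (σ 3) * 1 := by rw [a_eq, c3_2]
  have a3_4 : T.a (σ 3) (σ 4) = T.w (σ 3) * 1 := by rw [a_eq, c3_4]
  have a4_0 : T.a (σ 4) (σ 0) = T.w (σ 4) * 0 := by rw [a_eq, c4_0]
  have a4_1 : T.a (σ 4) (σ 1) = T.w (σ 4) * 0 := by rw [a_eq, c4_1]
  have a4_2 : T.a (σ 4) (σ 2) = T.w (σ 4) * 0 := by rw [a_eq, c4_2]
  have a4_3 : T.a (σ 4) (σ 3) = T.w (σ 4) * 2 := by rw [a_eq, c4_3]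
  have ad0 := hd (σ 0)
  have ad1 := hd (σ 1)
  have ad2 := hd (σ 2)
  have ad3 := hd (σ 3)
  have ad4 := hd (σ 4)
  have s0_1 := a_symm T (σ 0) (σ 1)
  have s0_2 := a_symm T (σ 0) (σ 2)
  have s0_3 := a_symm T (σ 0) (σ 3)
  have s0_4 := a_symm T (σ 0) (σ 4)
  have s1_2 := a_symm T (σ 1) (σ 2)
  have s1_3 := a_symm T (σ 1) (σ 3)
  have s1_4 := a_symm T (σ 1) (σ 4)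
  have s2_3 := a_symm T (σ 2) (σ 3)
  have s2_4 := a_symm T (σ 2) (σ 4)
  have s3_4 := a_symm T (σ 3) (σ 4)
  clear c0_1 c0_2 c0_3 c0_4 c1_0 c1_2 c1_3 c1_4 c2_0 c2_1 c2_3 c2_4 c3_0 c3_1 c3_2 c3_4 c4_0 c4_1 c4_2 c4_3 dd0 dd1 dd2 dd3 dd4 hC
  have hm0 : T.m (σ 0) = 1 * T.m (σ 0) := by omega
  have hm1 : T.m (σ 1) = 1 * T.m (σ 0) := by omega
  have hm2 : T.m (σ 2) = 1 * T.m (σ 0) := by omega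
  have hm3 : T.m (σ 3) = 1 * T.m (σ 0) := by omega
  have hm4 : T.m (σ 4) = 1 * T.m (σ 0) := by omega
  clear r0 r1 r2 r3 r4
  have hw0 : T.w (σ 0) = 1 * T.w (σ 0) := by omega
  have hw1 : T.w (σ 1) = 2 * T.w (σ 0) := by omega
  have hw2 : T.w (σ 2) = 2 * T.w (σ 0) := by omega
  have hw3 : T.w (σ 3) = 2 * T.w (σ 0) := by omega
  have hw4 : T.w (σ 4) = 1 * T.w (σ 0) := by omega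
  refine ⟨σ, T.m (σ 0), T.w (σ 0), ?_⟩
  refine Or.inr (Or.inr (Or.inr (Or.inr (Or.inl ?_))))
  refine ⟨?_, ?_, ?_, ?_, ?_, ?_, ?_, ?_, ?_, ?_, ?_, ?_, ?_, ?_, ?_, ?_, ?_, ?_, ?_, ?_, ?_, ?_, ?_, ?_, ?_⟩ <;> omega

theorem form5_5 (T : NumericalType 5) (hd : ∀ i, T.a i i = -2 * T.w i)
    (σ : Equiv.Perm (Fin 5))
    (hC : ∀ i j : Fin 5, i ≠ j → cc T (σ i) (σ j) = (E forms5 5 i j : ℤ)) :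
    ∃ (σ : Equiv.Perm (Fin 5)) (m w : ℤ),
      ((T.m (σ 0) = m ∧ T.m (σ 1) = m ∧ T.m (σ 2) = m ∧ T.m (σ 3) = m ∧ T.m (σ 4) = m ∧ T.w (σ 0) = w ∧ T.w (σ 1) = w ∧ T.w (σ 2) = w ∧ T.w (σ 3) = w ∧ T.w (σ 4) = w ∧ T.a (σ 0) (σ 0) = -2 * w ∧ T.a (σ 0) (σ 1) = w ∧ T.a (σ 0) (σ 2) = 0 ∧ T.a (σ 0) (σ 3) = 0 ∧ T.a (σ 0) (σ 4) = w ∧ T.a (σ 1) (σ 1) = -2 * w ∧ T.a (σ 1) (σ 2) = w ∧ T.a (σ 1) (σ 3) = 0 ∧ T.a (σ 1) (σ 4) = 0 ∧ T.a (σ 2) (σ 2) = -2 * w ∧ T.a (σ 2) (σ 3) = w ∧ T.a (σ 2) (σ 4) = 0 ∧ T.a (σ 3) (σ 3) = -2 * w ∧ T.a (σ 3) (σ 4) = w ∧ T.a (σ 4) (σ 4) = -2 * w) ∨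
      (T.m (σ 0) = m ∧ T.m (σ 1) = 2 * m ∧ T.m (σ 2) = 3 * m ∧ T.m (σ 3) = 2 * m ∧ T.m (σ 4) = m ∧ T.w (σ 0) = w ∧ T.w (σ 1) = w ∧ T.w (σ 2) = w ∧ T.w (σ 3) = 2 * w ∧ T.w (σ 4) = 2 * w ∧ T.a (σ 0) (σ 0) = -2 * w ∧ T.a (σ 0) (σ 1) = w ∧ T.a (σ 0) (σ 2) = 0 ∧ T.a (σ 0) (σ 3) = 0 ∧ T.a (σ 0) (σ 4) = 0 ∧ T.a (σ 1) (σ 1) = -2 * w ∧ T.a (σ 1) (σ 2) = w ∧ T.a (σ 1) (σ 3) = 0 ∧ T.a (σ 1) (σ 4) = 0 ∧ T.a (σ 2) (σ 2) = -2 * w ∧ T.a (σ 2) (σ 3) = 2 * w ∧ T.a (σ 2) (σ 4) = 0 ∧ T.a (σ 3) (σ 3) = -4 * w ∧ T.a (σ 3) (σ 4) = 2 * w ∧ T.a (σ 4) (σ 4) = -4 * w) ∨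
      (T.m (σ 0) = m ∧ T.m (σ 1) = 2 * m ∧ T.m (σ 2) = 3 * m ∧ T.m (σ 3) = 4 * m ∧ T.m (σ 4) = 2 * m ∧ T.w (σ 0) = 2 * w ∧ T.w (σ 1) = 2 * w ∧ T.w (σ 2) = 2 * w ∧ T.w (σ 3) = w ∧ T.w (σ 4) = w ∧ T.a (σ 0) (σ 0) = -4 * w ∧ T.a (σ 0) (σ 1) = 2 * w ∧ T.a (σ 0) (σ 2) = 0 ∧ T.a (σ 0) (σ 3) = 0 ∧ T.a (σ 0) (σ 4) = 0 ∧ T.a (σ 1) (σ 1) = -4 * w ∧ T.a (σ 1) (σ 2) = 2 * w ∧ T.a (σ 1) (σ 3) = 0 ∧ T.a (σ 1) (σ 4) = 0 ∧ T.a (σ 2) (σ 2) = -4 * w ∧ T.a (σ 2) (σ 3) = 2 * w ∧ T.a (σ 2) (σ 4) = 0 ∧ T.a (σ 3) (σ 3) = -2 * w ∧ T.a (σ 3) (σ 4) = w ∧ T.a (σ 4) (σ 4) = -2 * w) ∨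
      (T.m (σ 0) = 2 * m ∧ T.m (σ 1) = 2 * m ∧ T.m (σ 2) = 2 * m ∧ T.m (σ 3) = 2 * m ∧ T.m (σ 4) = m ∧ T.w (σ 0) = w ∧ T.w (σ 1) = 2 * w ∧ T.w (σ 2) = 2 * w ∧ T.w (σ 3) = 2 * w ∧ T.w (σ 4) = 4 * w ∧ T.a (σ 0) (σ 0) = -2 * w ∧ T.a (σ 0) (σ 1) = 2 * w ∧ T.a (σ 0) (σ 2) = 0 ∧ T.a (σ 0) (σ 3) = 0 ∧ T.a (σ 0) (σ 4) = 0 ∧ T.a (σ 1) (σ 1) = -4 * w ∧ T.a (σ 1) (σ 2) = 2 * w ∧ T.a (σ 1) (σ 3) = 0 ∧ T.a (σ 1) (σ 4) = 0 ∧ T.a (σ 2) (σ 2) = -4 * w ∧ T.a (σ 2) (σ 3) = 2 * w ∧ T.a (σ 2) (σ 4) = 0 ∧ T.a (σ 3) (σ 3) = -4 * w ∧ T.a (σ 3) (σ 4) = 4 * w ∧ T.a (σ 4) (σ 4) = -8 * w) ∨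
      (T.m (σ 0) = m ∧ T.m (σ 1) = m ∧ T.m (σ 2) = m ∧ T.m (σ 3) = m ∧ T.m (σ 4) = m ∧ T.w (σ 0) = w ∧ T.w (σ 1) = 2 * w ∧ T.w (σ 2) = 2 * w ∧ T.w (σ 3) = 2 * w ∧ T.w (σ 4) = w ∧ T.a (σ 0) (σ 0) = -2 * w ∧ T.a (σ 0) (σ 1) = 2 * w ∧ T.a (σ 0) (σ 2) = 0 ∧ T.a (σ 0) (σ 3) = 0 ∧ T.a (σ 0) (σ 4) = 0 ∧ T.a (σ 1) (σ 1) = -4 * w ∧ T.a (σ 1) (σ 2) = 2 * w ∧ T.a (σ 1) (σ 3) = 0 ∧ T.a (σ 1) (σ 4) = 0 ∧ T.a (σ 2) (σ 2) = -4 * w ∧ T.a (σ 2) (σ 3) = 2 * w ∧ T.a (σ 2) (σ 4) = 0 ∧ T.a (σ 3) (σ 3) = -4 * w ∧ T.a (σ 3) (σ 4) = 2 * w ∧ T.a (σ 4) (σ 4) = -2 * w) ∨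
      (T.m (σ 0) = m ∧ T.m (σ 1) = 2 * m ∧ T.m (σ 2) = 2 * m ∧ T.m (σ 3) = 2 * m ∧ T.m (σ 4) = m ∧ T.w (σ 0) = 2 * w ∧ T.w (σ 1) = w ∧ T.w (σ 2) = w ∧ T.w (σ 3) = w ∧ T.w (σ 4) = 2 * w ∧ T.a (σ 0) (σ 0) = -4 * w ∧ T.a (σ 0) (σ 1) = 2 * w ∧ T.a (σ 0) (σ 2) = 0 ∧ T.a (σ 0) (σ 3) = 0 ∧ T.a (σ 0) (σ 4) = 0 ∧ T.a (σ 1) (σ 1) = -2 * w ∧ T.a (σ 1) (σ 2) = w ∧ T.a (σ 1) (σ 3) = 0 ∧ T.a (σ 1) (σ 4) = 0 ∧ T.a (σ 2) (σ 2) = -2 * w ∧ T.a (σ 2) (σ 3) = w ∧ T.a (σ 2) (σ 4) = 0 ∧ T.a (σ 3) (σ 3) = -2 * w ∧ T.a (σ 3) (σ 4) = 2 * w ∧ T.a (σ 4) (σ 4) = -4 * w) ∨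
      (T.m (σ 0) = 2 * m ∧ T.m (σ 1) = m ∧ T.m (σ 2) = m ∧ T.m (σ 3) = m ∧ T.m (σ 4) = m ∧ T.w (σ 0) = w ∧ T.w (σ 1) = w ∧ T.w (σ 2) = w ∧ T.w (σ 3) = w ∧ T.w (σ 4) = w ∧ T.a (σ 0) (σ 0) = -2 * w ∧ T.a (σ 0) (σ 1) = w ∧ T.a (σ 0) (σ 2) = w ∧ T.a (σ 0) (σ 3) = w ∧ T.a (σ 0) (σ 4) = w ∧ T.a (σ 1) (σ 1) = -2 * w ∧ T.a (σ 1) (σ 2) = 0 ∧ T.a (σ 1) (σ 3) = 0 ∧ T.a (σ 1) (σ 4) = 0 ∧ T.a (σ 2) (σ 2) = -2 * w ∧ T.a (σ 2) (σ 3) = 0 ∧ T.a (σ 2) (σ 4) = 0 ∧ T.a (σ 3) (σ 3) = -2 * w ∧ T.a (σ 3) (σ 4) = 0 ∧ T.a (σ 4) (σ 4) = -2 * w) ∨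
      (T.m (σ 0) = m ∧ T.m (σ 1) = 2 * m ∧ T.m (σ 2) = 2 * m ∧ T.m (σ 3) = m ∧ T.m (σ 4) = m ∧ T.w (σ 0) = 2 * w ∧ T.w (σ 1) = w ∧ T.w (σ 2) = w ∧ T.w (σ 3) = w ∧ T.w (σ 4) = w ∧ T.a (σ 0) (σ 0) = -4 * w ∧ T.a (σ 0) (σ 1) = 2 * w ∧ T.a (σ 0) (σ 2) = 0 ∧ T.a (σ 0) (σ 3) = 0 ∧ T.a (σ 0) (σ 4) = 0 ∧ T.a (σ 1) (σ 1) = -2 * w ∧ T.a (σ 1) (σ 2) = w ∧ T.a (σ 1) (σ 3) = 0 ∧ T.a (σ 1) (σ 4) = 0 ∧ T.a (σ 2) (σ 2) = -2 * w ∧ T.a (σ 2) (σ 3) = w ∧ T.a (σ 2) (σ 4) = w ∧ T.a (σ 3) (σ 3) = -2 * w ∧ T.a (σ 3) (σ 4) = 0 ∧ T.a (σ 4) (σ 4) = -2 * w) ∨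
      (T.m (σ 0) = 2 * m ∧ T.m (σ 1) = 2 * m ∧ T.m (σ 2) = 2 * m ∧ T.m (σ 3) = m ∧ T.m (σ 4) = m ∧ T.w (σ 0) = w ∧ T.w (σ 1) = 2 * w ∧ T.w (σ 2) = 2 * w ∧ T.w (σ 3) = 2 * w ∧ T.w (σ 4) = 2 * w ∧ T.a (σ 0) (σ 0) = -2 * w ∧ T.a (σ 0) (σ 1) = 2 * w ∧ T.a (σ 0) (σ 2) = 0 ∧ T.a (σ 0) (σ 3) = 0 ∧ T.a (σ 0) (σ 4) = 0 ∧ T.a (σ 1) (σ 1) = -4 * w ∧ T.a (σ 1) (σ 2) = 2 * w ∧ T.a (σ 1) (σ 3) = 0 ∧ T.a (σ 1) (σ 4) = 0 ∧ T.a (σ 2) (σ 2) = -4 * w ∧ T.a (σ 2) (σ 3) = 2 * w ∧ T.a (σ 2) (σ 4) = 2 * w ∧ T.a (σ 3) (σ 3) = -4 * w ∧ T.a (σ 3) (σ 4) = 0 ∧ T.a (σ 4) (σ 4) = -4 * w)) := by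
  have c0_1 : cc T (σ 0) (σ 1) = 1 := by rw [hC 0 1 (by decide)]; rfl
  have c0_2 : cc T (σ 0) (σ 2) = 0 := by rw [hC 0 2 (by decide)]; rfl
  have c0_3 : cc T (σ 0) (σ 3) = 0 := by rw [hC 0 3 (by decide)]; rfl
  have c0_4 : cc T (σ 0) (σ 4) = 0 := by rw [hC 0 4 (by decide)]; rfl
  have c1_0 : cc T (σ 1) (σ 0) = 2 := by rw [hC 1 0 (by decide)]; rfl
  have c1_2 : cc T (σ 1) (σ 2) = 1 := by rw [hC 1 2 (by decide)]; rfl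
  have c1_3 : cc T (σ 1) (σ 3) = 0 := by rw [hC 1 3 (by decide)]; rfl
  have c1_4 : cc T (σ 1) (σ 4) = 0 := by rw [hC 1 4 (by decide)]; rfl
  have c2_0 : cc T (σ 2) (σ 0) = 0 := by rw [hC 2 0 (by decide)]; rfl
  have c2_1 : cc T (σ 2) (σ 1) = 1 := by rw [hC 2 1 (by decide)]; rfl
  have c2_3 : cc T (σ 2) (σ 3) = 1 := by rw [hC 2 3 (by decide)]; rfl
  have c2_4 : cc T (σ 2) (σ 4) = 0 := by rw [hC 2 4 (by decide)]; rfl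
  have c3_0 : cc T (σ 3) (σ 0) = 0 := by rw [hC 3 0 (by decide)]; rfl
  have c3_1 : cc T (σ 3) (σ 1) = 0 := by rw [hC 3 1 (by decide)]; rfl
  have c3_2 : cc T (σ 3) (σ 2) = 1 := by rw [hC 3 2 (by decide)]; rfl
  have c3_4 : cc T (σ 3) (σ 4) = 2 := by rw [hC 3 4 (by decide)]; rfl
  have c4_0 : cc T (σ 4) (σ 0) = 0 := by rw [hC 4 0 (by decide)]; rfl
  have c4_1 : cc T (σ 4) (σ 1) = 0 := by rw [hC 4 1 (by decide)]; rfl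
  have c4_2 : cc T (σ 4) (σ 2) = 0 := by rw [hC 4 2 (by decide)]; rfl
  have c4_3 : cc T (σ 4) (σ 3) = 1 := by rw [hC 4 3 (by decide)]; rfl
  have dd0 := cc_diag T hd (σ 0)
  have dd1 := cc_diag T hd (σ 1)
  have dd2 := cc_diag T hd (σ 2)
  have dd3 := cc_diag T hd (σ 3)
  have dd4 := cc_diag T hd (σ 4)
  have r0 := row5 T σ 0
  rw [dd0, c0_1, c0_2, c0_3, c0_4] at r0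
  have r1 := row5 T σ 1
  rw [c1_0, dd1, c1_2, c1_3, c1_4] at r1
  have r2 := row5 T σ 2
  rw [c2_0, c2_1, dd2, c2_3, c2_4] at r2
  have r3 := row5 T σ 3
  rw [c3_0, c3_1, c3_2, dd3, c3_4] at r3
  have r4 := row5 T σ 4
  rw [c4_0, c4_1, c4_2, c4_3, dd4] at r4
  have a0_1 : T.a (σ 0) (σ 1) = T.w (σ 0) * 1 := by rw [a_eq, c0_1]
  have a0_2 : T.a (σ 0) (σ 2) = T.w (σ 0) * 0 := by rw [a_eq, c0_2]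
  have a0_3 : T.a (σ 0) (σ 3) = T.w (σ 0) * 0 := by rw [a_eq, c0_3]
  have a0_4 : T.a (σ 0) (σ 4) = T.w (σ 0) * 0 := by rw [a_eq, c0_4]
  have a1_0 : T.a (σ 1) (σ 0) = T.w (σ 1) * 2 := by rw [a_eq, c1_0]
  have a1_2 : T.a (σ 1) (σ 2) = T.w (σ 1) * 1 := by rw [a_eq, c1_2]
  have a1_3 : T.a (σ 1) (σ 3) = T.w (σ 1) * 0 := by rw [a_eq, c1_3]
  have a1_4 : T.a (σ 1) (σ 4) = T.w (σ 1) * 0 := by rw [a_eq, c1_4]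
  have a2_0 : T.a (σ 2) (σ 0) = T.w (σ 2) * 0 := by rw [a_eq, c2_0]
  have a2_1 : T.a (σ 2) (σ 1) = T.w (σ 2) * 1 := by rw [a_eq, c2_1]
  have a2_3 : T.a (σ 2) (σ 3) = T.w (σ 2) * 1 := by rw [a_eq, c2_3]
  have a2_4 : T.a (σ 2) (σ 4) = T.w (σ 2) * 0 := by rw [a_eq, c2_4]
  have a3_0 : T.a (σ 3) (σ 0) = T.w (σ 3) * 0 := by rw [a_eq, c3_0]
  have a3_1 : T.a (σ 3) (σ 1) = T.w (σ 3) * 0 := by rw [a_eq, c3_1]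
  have a3_2 : T.a (σ 3) (σ 2) = T.w (σ 3) * 1 := by rw [a_eq, c3_2]
  have a3_4 : T.a (σ 3) (σ 4) = T.w (σ 3) * 2 := by rw [a_eq, c3_4]
  have a4_0 : T.a (σ 4) (σ 0) = T.w (σ 4) * 0 := by rw [a_eq, c4_0]
  have a4_1 : T.a (σ 4) (σ 1) = T.w (σ 4) * 0 := by rw [a_eq, c4_1]
  have a4_2 : T.a (σ 4) (σ 2) = T.w (σ 4) * 0 := by rw [a_eq, c4_2]
  have a4_3 : T.a (σ 4) (σ 3) = T.w (σ 4) * 1 := by rw [a_eq, c4_3]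
  have ad0 := hd (σ 0)
  have ad1 := hd (σ 1)
  have ad2 := hd (σ 2)
  have ad3 := hd (σ 3)
  have ad4 := hd (σ 4)
  have s0_1 := a_symm T (σ 0) (σ 1)
  have s0_2 := a_symm T (σ 0) (σ 2)
  have s0_3 := a_symm T (σ 0) (σ 3)
  have s0_4 := a_symm T (σ 0) (σ 4)
  have s1_2 := a_symm T (σ 1) (σ 2)
  have s1_3 := a_symm T (σ 1) (σ 3)
  have s1_4 := a_symm T (σ 1) (σ 4)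
  have s2_3 := a_symm T (σ 2) (σ 3)
  have s2_4 := a_symm T (σ 2) (σ 4)
  have s3_4 := a_symm T (σ 3) (σ 4)
  clear c0_1 c0_2 c0_3 c0_4 c1_0 c1_2 c1_3 c1_4 c2_0 c2_1 c2_3 c2_4 c3_0 c3_1 c3_2 c3_4 c4_0 c4_1 c4_2 c4_3 dd0 dd1 dd2 dd3 dd4 hC
  have hm0 : T.m (σ 0) = 1 * T.m (σ 0) := by omega
  have hm1 : T.m (σ 1) = 2 * T.m (σ 0) := by omega
  have hm2 : T.m (σ 2) = 2 * T.m (σ 0) := by omega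
  have hm3 : T.m (σ 3) = 2 * T.m (σ 0) := by omega
  have hm4 : T.m (σ 4) = 1 * T.m (σ 0) := by omega
  clear r0 r1 r2 r3 r4
  have hw0 : T.w (σ 0) = 2 * T.w (σ 1) := by omega
  have hw1 : T.w (σ 1) = 1 * T.w (σ 1) := by omega
  have hw2 : T.w (σ 2) = 1 * T.w (σ 1) := by omega
  have hw3 : T.w (σ 3) = 1 * T.w (σ 1) := by omega
  have hw4 : T.w (σ 4) = 2 * T.w (σ 1) := by omega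
  refine ⟨σ, T.m (σ 0), T.w (σ 1), ?_⟩
  refine Or.inr (Or.inr (Or.inr (Or.inr (Or.inr (Or.inl ?_)))))
  refine ⟨?_, ?_, ?_, ?_, ?_, ?_, ?_, ?_, ?_, ?_, ?_, ?_, ?_, ?_, ?_, ?_, ?_, ?_, ?_, ?_, ?_, ?_, ?_, ?_, ?_⟩ <;> omega

theorem form5_6 (T : NumericalType 5) (hd : ∀ i, T.a i i = -2 * T.w i)
    (σ : Equiv.Perm (Fin 5))
    (hC : ∀ i j : Fin 5, i ≠ j → cc T (σ i) (σ j) = (E forms5 6 i j : ℤ)) :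
    ∃ (σ : Equiv.Perm (Fin 5)) (m w : ℤ),
      ((T.m (σ 0) = m ∧ T.m (σ 1) = m ∧ T.m (σ 2) = m ∧ T.m (σ 3) = m ∧ T.m (σ 4) = m ∧ T.w (σ 0) = w ∧ T.w (σ 1) = w ∧ T.w (σ 2) = w ∧ T.w (σ 3) = w ∧ T.w (σ 4) = w ∧ T.a (σ 0) (σ 0) = -2 * w ∧ T.a (σ 0) (σ 1) = w ∧ T.a (σ 0) (σ 2) = 0 ∧ T.a (σ 0) (σ 3) = 0 ∧ T.a (σ 0) (σ 4) = w ∧ T.a (σ 1) (σ 1) = -2 * w ∧ T.a (σ 1) (σ 2) = w ∧ T.a (σ 1) (σ 3) = 0 ∧ T.a (σ 1) (σ 4) = 0 ∧ T.a (σ 2) (σ 2) = -2 * w ∧ T.a (σ 2) (σ 3) = w ∧ T.a (σ 2) (σ 4) = 0 ∧ T.a (σ 3) (σ 3) = -2 * w ∧ T.a (σ 3) (σ 4) = w ∧ T.a (σ 4) (σ 4) = -2 * w) ∨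
      (T.m (σ 0) = m ∧ T.m (σ 1) = 2 * m ∧ T.m (σ 2) = 3 * m ∧ T.m (σ 3) = 2 * m ∧ T.m (σ 4) = m ∧ T.w (σ 0) = w ∧ T.w (σ 1) = w ∧ T.w (σ 2) = w ∧ T.w (σ 3) = 2 * w ∧ T.w (σ 4) = 2 * w ∧ T.a (σ 0) (σ 0) = -2 * w ∧ T.a (σ 0) (σ 1) = w ∧ T.a (σ 0) (σ 2) = 0 ∧ T.a (σ 0) (σ 3) = 0 ∧ T.a (σ 0) (σ 4) = 0 ∧ T.a (σ 1) (σ 1) = -2 * w ∧ T.a (σ 1) (σ 2) = w ∧ T.a (σ 1) (σ 3) = 0 ∧ T.a (σ 1) (σ 4) = 0 ∧ T.a (σ 2) (σ 2) = -2 * w ∧ T.a (σ 2) (σ 3) = 2 * w ∧ T.a (σ 2) (σ 4) = 0 ∧ T.a (σ 3) (σ 3) = -4 * w ∧ T.a (σ 3) (σ 4) = 2 * w ∧ T.a (σ 4) (σ 4) = -4 * w) ∨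
      (T.m (σ 0) = m ∧ T.m (σ 1) = 2 * m ∧ T.m (σ 2) = 3 * m ∧ T.m (σ 3) = 4 * m ∧ T.m (σ 4) = 2 * m ∧ T.w (σ 0) = 2 * w ∧ T.w (σ 1) = 2 * w ∧ T.w (σ 2) = 2 * w ∧ T.w (σ 3) = w ∧ T.w (σ 4) = w ∧ T.a (σ 0) (σ 0) = -4 * w ∧ T.a (σ 0) (σ 1) = 2 * w ∧ T.a (σ 0) (σ 2) = 0 ∧ T.a (σ 0) (σ 3) = 0 ∧ T.a (σ 0) (σ 4) = 0 ∧ T.a (σ 1) (σ 1) = -4 * w ∧ T.a (σ 1) (σ 2) = 2 * w ∧ T.a (σ 1) (σ 3) = 0 ∧ T.a (σ 1) (σ 4) = 0 ∧ T.a (σ 2) (σ 2) = -4 * w ∧ T.a (σ 2) (σ 3) = 2 * w ∧ T.a (σ 2) (σ 4) = 0 ∧ T.a (σ 3) (σ 3) = -2 * w ∧ T.a (σ 3) (σ 4) = w ∧ T.a (σ 4) (σ 4) = -2 * w) ∨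
      (T.m (σ 0) = 2 * m ∧ T.m (σ 1) = 2 * m ∧ T.m (σ 2) = 2 * m ∧ T.m (σ 3) = 2 * m ∧ T.m (σ 4) = m ∧ T.w (σ 0) = w ∧ T.w (σ 1) = 2 * w ∧ T.w (σ 2) = 2 * w ∧ T.w (σ 3) = 2 * w ∧ T.w (σ 4) = 4 * w ∧ T.a (σ 0) (σ 0) = -2 * w ∧ T.a (σ 0) (σ 1) = 2 * w ∧ T.a (σ 0) (σ 2) = 0 ∧ T.a (σ 0) (σ 3) = 0 ∧ T.a (σ 0) (σ 4) = 0 ∧ T.a (σ 1) (σ 1) = -4 * w ∧ T.a (σ 1) (σ 2) = 2 * w ∧ T.a (σ 1) (σ 3) = 0 ∧ T.a (σ 1) (σ 4) = 0 ∧ T.a (σ 2) (σ 2) = -4 * w ∧ T.a (σ 2) (σ 3) = 2 * w ∧ T.a (σ 2) (σ 4) = 0 ∧ T.a (σ 3) (σ 3) = -4 * w ∧ T.a (σ 3) (σ 4) = 4 * w ∧ T.a (σ 4) (σ 4) = -8 * w) ∨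
      (T.m (σ 0) = m ∧ T.m (σ 1) = m ∧ T.m (σ 2) = m ∧ T.m (σ 3) = m ∧ T.m (σ 4) = m ∧ T.w (σ 0) = w ∧ T.w (σ 1) = 2 * w ∧ T.w (σ 2) = 2 * w ∧ T.w (σ 3) = 2 * w ∧ T.w (σ 4) = w ∧ T.a (σ 0) (σ 0) = -2 * w ∧ T.a (σ 0) (σ 1) = 2 * w ∧ T.a (σ 0) (σ 2) = 0 ∧ T.a (σ 0) (σ 3) = 0 ∧ T.a (σ 0) (σ 4) = 0 ∧ T.a (σ 1) (σ 1) = -4 * w ∧ T.a (σ 1) (σ 2) = 2 * w ∧ T.a (σ 1) (σ 3) = 0 ∧ T.a (σ 1) (σ 4) = 0 ∧ T.a (σ 2) (σ 2) = -4 * w ∧ T.a (σ 2) (σ 3) = 2 * w ∧ T.a (σ 2) (σ 4) = 0 ∧ T.a (σ 3) (σ 3) = -4 * w ∧ T.a (σ 3) (σ 4) = 2 * w ∧ T.a (σ 4) (σ 4) = -2 * w) ∨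
      (T.m (σ 0) = m ∧ T.m (σ 1) = 2 * m ∧ T.m (σ 2) = 2 * m ∧ T.m (σ 3) = 2 * m ∧ T.m (σ 4) = m ∧ T.w (σ 0) = 2 * w ∧ T.w (σ 1) = w ∧ T.w (σ 2) = w ∧ T.w (σ 3) = w ∧ T.w (σ 4) = 2 * w ∧ T.a (σ 0) (σ 0) = -4 * w ∧ T.a (σ 0) (σ 1) = 2 * w ∧ T.a (σ 0) (σ 2) = 0 ∧ T.a (σ 0) (σ 3) = 0 ∧ T.a (σ 0) (σ 4) = 0 ∧ T.a (σ 1) (σ 1) = -2 * w ∧ T.a (σ 1) (σ 2) = w ∧ T.a (σ 1) (σ 3) = 0 ∧ T.a (σ 1) (σ 4) = 0 ∧ T.a (σ 2) (σ 2) = -2 * w ∧ T.a (σ 2) (σ 3) = w ∧ T.a (σ 2) (σ 4) = 0 ∧ T.a (σ 3) (σ 3) = -2 * w ∧ T.a (σ 3) (σ 4) = 2 * w ∧ T.a (σ 4) (σ 4) = -4 * w) ∨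
      (T.m (σ 0) = 2 * m ∧ T.m (σ 1) = m ∧ T.m (σ 2) = m ∧ T.m (σ 3) = m ∧ T.m (σ 4) = m ∧ T.w (σ 0) = w ∧ T.w (σ 1) = w ∧ T.w (σ 2) = w ∧ T.w (σ 3) = w ∧ T.w (σ 4) = w ∧ T.a (σ 0) (σ 0) = -2 * w ∧ T.a (σ 0) (σ 1) = w ∧ T.a (σ 0) (σ 2) = w ∧ T.a (σ 0) (σ 3) = w ∧ T.a (σ 0) (σ 4) = w ∧ T.a (σ 1) (σ 1) = -2 * w ∧ T.a (σ 1) (σ 2) = 0 ∧ T.a (σ 1) (σ 3) = 0 ∧ T.a (σ 1) (σ 4) = 0 ∧ T.a (σ 2) (σ 2) = -2 * w ∧ T.a (σ 2) (σ 3) = 0 ∧ T.a (σ 2) (σ 4) = 0 ∧ T.a (σ 3) (σ 3) = -2 * w ∧ T.a (σ 3) (σ 4) = 0 ∧ T.a (σ 4) (σ 4) = -2 * w) ∨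
      (T.m (σ 0) = m ∧ T.m (σ 1) = 2 * m ∧ T.m (σ 2) = 2 * m ∧ T.m (σ 3) = m ∧ T.m (σ 4) = m ∧ T.w (σ 0) = 2 * w ∧ T.w (σ 1) = w ∧ T.w (σ 2) = w ∧ T.w (σ 3) = w ∧ T.w (σ 4) = w ∧ T.a (σ 0) (σ 0) = -4 * w ∧ T.a (σ 0) (σ 1) = 2 * w ∧ T.a (σ 0) (σ 2) = 0 ∧ T.a (σ 0) (σ 3) = 0 ∧ T.a (σ 0) (σ 4) = 0 ∧ T.a (σ 1) (σ 1) = -2 * w ∧ T.a (σ 1) (σ 2) = w ∧ T.a (σ 1) (σ 3) = 0 ∧ T.a (σ 1) (σ 4) = 0 ∧ T.a (σ 2) (σ 2) = -2 * w ∧ T.a (σ 2) (σ 3) = w ∧ T.a (σ 2) (σ 4) = w ∧ T.a (σ 3) (σ 3) = -2 * w ∧ T.a (σ 3) (σ 4) = 0 ∧ T.a (σ 4) (σ 4) = -2 * w) ∨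
      (T.m (σ 0) = 2 * m ∧ T.m (σ 1) = 2 * m ∧ T.m (σ 2) = 2 * m ∧ T.m (σ 3) = m ∧ T.m (σ 4) = m ∧ T.w (σ 0) = w ∧ T.w (σ 1) = 2 * w ∧ T.w (σ 2) = 2 * w ∧ T.w (σ 3) = 2 * w ∧ T.w (σ 4) = 2 * w ∧ T.a (σ 0) (σ 0) = -2 * w ∧ T.a (σ 0) (σ 1) = 2 * w ∧ T.a (σ 0) (σ 2) = 0 ∧ T.a (σ 0) (σ 3) = 0 ∧ T.a (σ 0) (σ 4) = 0 ∧ T.a (σ 1) (σ 1) = -4 * w ∧ T.a (σ 1) (σ 2) = 2 * w ∧ T.a (σ 1) (σ 3) = 0 ∧ T.a (σ 1) (σ 4) = 0 ∧ T.a (σ 2) (σ 2) = -4 * w ∧ T.a (σ 2) (σ 3) = 2 * w ∧ T.a (σ 2) (σ 4) = 2 * w ∧ T.a (σ 3) (σ 3) = -4 * w ∧ T.a (σ 3) (σ 4) = 0 ∧ T.a (σ 4) (σ 4) = -4 * w)) := by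
  have c0_1 : cc T (σ 0) (σ 1) = 1 := by rw [hC 0 1 (by decide)]; rfl
  have c0_2 : cc T (σ 0) (σ 2) = 1 := by rw [hC 0 2 (by decide)]; rfl
  have c0_3 : cc T (σ 0) (σ 3) = 1 := by rw [hC 0 3 (by decide)]; rfl
  have c0_4 : cc T (σ 0) (σ 4) = 1 := by rw [hC 0 4 (by decide)]; rfl
  have c1_0 : cc T (σ 1) (σ 0) = 1 := by rw [hC 1 0 (by decide)]; rfl
  have c1_2 : cc T (σ 1) (σ 2) = 0 := by rw [hC 1 2 (by decide)]; rfl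
  have c1_3 : cc T (σ 1) (σ 3) = 0 := by rw [hC 1 3 (by decide)]; rfl
  have c1_4 : cc T (σ 1) (σ 4) = 0 := by rw [hC 1 4 (by decide)]; rfl
  have c2_0 : cc T (σ 2) (σ 0) = 1 := by rw [hC 2 0 (by decide)]; rfl
  have c2_1 : cc T (σ 2) (σ 1) = 0 := by rw [hC 2 1 (by decide)]; rfl
  have c2_3 : cc T (σ 2) (σ 3) = 0 := by rw [hC 2 3 (by decide)]; rfl
  have c2_4 : cc T (σ 2) (σ 4) = 0 := by rw [hC 2 4 (by decide)]; rfl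
  have c3_0 : cc T (σ 3) (σ 0) = 1 := by rw [hC 3 0 (by decide)]; rfl
  have c3_1 : cc T (σ 3) (σ 1) = 0 := by rw [hC 3 1 (by decide)]; rfl
  have c3_2 : cc T (σ 3) (σ 2) = 0 := by rw [hC 3 2 (by decide)]; rfl
  have c3_4 : cc T (σ 3) (σ 4) = 0 := by rw [hC 3 4 (by decide)]; rfl
  have c4_0 : cc T (σ 4) (σ 0) = 1 := by rw [hC 4 0 (by decide)]; rfl
  have c4_1 : cc T (σ 4) (σ 1) = 0 := by rw [hC 4 1 (by decide)]; rfl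
  have c4_2 : cc T (σ 4) (σ 2) = 0 := by rw [hC 4 2 (by decide)]; rfl
  have c4_3 : cc T (σ 4) (σ 3) = 0 := by rw [hC 4 3 (by decide)]; rfl
  have dd0 := cc_diag T hd (σ 0)
  have dd1 := cc_diag T hd (σ 1)
  have dd2 := cc_diag T hd (σ 2)
  have dd3 := cc_diag T hd (σ 3)
  have dd4 := cc_diag T hd (σ 4)
  have r0 := row5 T σ 0
  rw [dd0, c0_1, c0_2, c0_3, c0_4] at r0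
  have r1 := row5 T σ 1
  rw [c1_0, dd1, c1_2, c1_3, c1_4] at r1
  have r2 := row5 T σ 2
  rw [c2_0, c2_1, dd2, c2_3, c2_4] at r2
  have r3 := row5 T σ 3
  rw [c3_0, c3_1, c3_2, dd3, c3_4] at r3
  have r4 := row5 T σ 4
  rw [c4_0, c4_1, c4_2, c4_3, dd4] at r4
  have a0_1 : T.a (σ 0) (σ 1) = T.w (σ 0) * 1 := by rw [a_eq, c0_1]
  have a0_2 : T.a (σ 0) (σ 2) = T.w (σ 0) * 1 := by rw [a_eq, c0_2]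
  have a0_3 : T.a (σ 0) (σ 3) = T.w (σ 0) * 1 := by rw [a_eq, c0_3]
  have a0_4 : T.a (σ 0) (σ 4) = T.w (σ 0) * 1 := by rw [a_eq, c0_4]
  have a1_0 : T.a (σ 1) (σ 0) = T.w (σ 1) * 1 := by rw [a_eq, c1_0]
  have a1_2 : T.a (σ 1) (σ 2) = T.w (σ 1) * 0 := by rw [a_eq, c1_2]
  have a1_3 : T.a (σ 1) (σ 3) = T.w (σ 1) * 0 := by rw [a_eq, c1_3]
  have a1_4 : T.a (σ 1) (σ 4) = T.w (σ 1) * 0 := by rw [a_eq, c1_4]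
  have a2_0 : T.a (σ 2) (σ 0) = T.w (σ 2) * 1 := by rw [a_eq, c2_0]
  have a2_1 : T.a (σ 2) (σ 1) = T.w (σ 2) * 0 := by rw [a_eq, c2_1]
  have a2_3 : T.a (σ 2) (σ 3) = T.w (σ 2) * 0 := by rw [a_eq, c2_3]
  have a2_4 : T.a (σ 2) (σ 4) = T.w (σ 2) * 0 := by rw [a_eq, c2_4]
  have a3_0 : T.a (σ 3) (σ 0) = T.w (σ 3) * 1 := by rw [a_eq, c3_0]
  have a3_1 : T.a (σ 3) (σ 1) = T.w (σ 3) * 0 := by rw [a_eq, c3_1]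
  have a3_2 : T.a (σ 3) (σ 2) = T.w (σ 3) * 0 := by rw [a_eq, c3_2]
  have a3_4 : T.a (σ 3) (σ 4) = T.w (σ 3) * 0 := by rw [a_eq, c3_4]
  have a4_0 : T.a (σ 4) (σ 0) = T.w (σ 4) * 1 := by rw [a_eq, c4_0]
  have a4_1 : T.a (σ 4) (σ 1) = T.w (σ 4) * 0 := by rw [a_eq, c4_1]
  have a4_2 : T.a (σ 4) (σ 2) = T.w (σ 4) * 0 := by rw [a_eq, c4_2]
  have a4_3 : T.a (σ 4) (σ 3) = T.w (σ 4) * 0 := by rw [a_eq, c4_3]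
  have ad0 := hd (σ 0)
  have ad1 := hd (σ 1)
  have ad2 := hd (σ 2)
  have ad3 := hd (σ 3)
  have ad4 := hd (σ 4)
  have s0_1 := a_symm T (σ 0) (σ 1)
  have s0_2 := a_symm T (σ 0) (σ 2)
  have s0_3 := a_symm T (σ 0) (σ 3)
  have s0_4 := a_symm T (σ 0) (σ 4)
  have s1_2 := a_symm T (σ 1) (σ 2)
  have s1_3 := a_symm T (σ 1) (σ 3)
  have s1_4 := a_symm T (σ 1) (σ 4)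
  have s2_3 := a_symm T (σ 2) (σ 3)
  have s2_4 := a_symm T (σ 2) (σ 4)
  have s3_4 := a_symm T (σ 3) (σ 4)
  clear c0_1 c0_2 c0_3 c0_4 c1_0 c1_2 c1_3 c1_4 c2_0 c2_1 c2_3 c2_4 c3_0 c3_1 c3_2 c3_4 c4_0 c4_1 c4_2 c4_3 dd0 dd1 dd2 dd3 dd4 hC
  have hm0 : T.m (σ 0) = 2 * T.m (σ 1) := by omega
  have hm1 : T.m (σ 1) = 1 * T.m (σ 1) := by omega
  have hm2 : T.m (σ 2) = 1 * T.m (σ 1) := by omega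
  have hm3 : T.m (σ 3) = 1 * T.m (σ 1) := by omega
  have hm4 : T.m (σ 4) = 1 * T.m (σ 1) := by omega
  clear r0 r1 r2 r3 r4
  have hw0 : T.w (σ 0) = 1 * T.w (σ 0) := by omega
  have hw1 : T.w (σ 1) = 1 * T.w (σ 0) := by omega
  have hw2 : T.w (σ 2) = 1 * T.w (σ 0) := by omega
  have hw3 : T.w (σ 3) = 1 * T.w (σ 0) := by omega
  have hw4 : T.w (σ 4) = 1 * T.w (σ 0) := by omega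
  refine ⟨σ, T.m (σ 1), T.w (σ 0), ?_⟩
  refine Or.inr (Or.inr (Or.inr (Or.inr (Or.inr (Or.inr (Or.inl ?_))))))
  refine ⟨?_, ?_, ?_, ?_, ?_, ?_, ?_, ?_, ?_, ?_, ?_, ?_, ?_, ?_, ?_, ?_, ?_, ?_, ?_, ?_, ?_, ?_, ?_, ?_, ?_⟩ <;> omega

theorem form5_7 (T : NumericalType 5) (hd : ∀ i, T.a i i = -2 * T.w i)
    (σ : Equiv.Perm (Fin 5))
    (hC : ∀ i j : Fin 5, i ≠ j → cc T (σ i) (σ j) = (E forms5 7 i j : ℤ)) :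
    ∃ (σ : Equiv.Perm (Fin 5)) (m w : ℤ),
      ((T.m (σ 0) = m ∧ T.m (σ 1) = m ∧ T.m (σ 2) = m ∧ T.m (σ 3) = m ∧ T.m (σ 4) = m ∧ T.w (σ 0) = w ∧ T.w (σ 1) = w ∧ T.w (σ 2) = w ∧ T.w (σ 3) = w ∧ T.w (σ 4) = w ∧ T.a (σ 0) (σ 0) = -2 * w ∧ T.a (σ 0) (σ 1) = w ∧ T.a (σ 0) (σ 2) = 0 ∧ T.a (σ 0) (σ 3) = 0 ∧ T.a (σ 0) (σ 4) = w ∧ T.a (σ 1) (σ 1) = -2 * w ∧ T.a (σ 1) (σ 2) = w ∧ T.a (σ 1) (σ 3) = 0 ∧ T.a (σ 1) (σ 4) = 0 ∧ T.a (σ 2) (σ 2) = -2 * w ∧ T.a (σ 2) (σ 3) = w ∧ T.a (σ 2) (σ 4) = 0 ∧ T.a (σ 3) (σ 3) = -2 * w ∧ T.a (σ 3) (σ 4) = w ∧ T.a (σ 4) (σ 4) = -2 * w) ∨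
      (T.m (σ 0) = m ∧ T.m (σ 1) = 2 * m ∧ T.m (σ 2) = 3 * m ∧ T.m (σ 3) = 2 * m ∧ T.m (σ 4) = m ∧ T.w (σ 0) = w ∧ T.w (σ 1) = w ∧ T.w (σ 2) = w ∧ T.w (σ 3) = 2 * w ∧ T.w (σ 4) = 2 * w ∧ T.a (σ 0) (σ 0) = -2 * w ∧ T.a (σ 0) (σ 1) = w ∧ T.a (σ 0) (σ 2) = 0 ∧ T.a (σ 0) (σ 3) = 0 ∧ T.a (σ 0) (σ 4) = 0 ∧ T.a (σ 1) (σ 1) = -2 * w ∧ T.a (σ 1) (σ 2) = w ∧ T.a (σ 1) (σ 3) = 0 ∧ T.a (σ 1) (σ 4) = 0 ∧ T.a (σ 2) (σ 2) = -2 * w ∧ T.a (σ 2) (σ 3) = 2 * w ∧ T.a (σ 2) (σ 4) = 0 ∧ T.a (σ 3) (σ 3) = -4 * w ∧ T.a (σ 3) (σ 4) = 2 * w ∧ T.a (σ 4) (σ 4) = -4 * w) ∨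
      (T.m (σ 0) = m ∧ T.m (σ 1) = 2 * m ∧ T.m (σ 2) = 3 * m ∧ T.m (σ 3) = 4 * m ∧ T.m (σ 4) = 2 * m ∧ T.w (σ 0) = 2 * w ∧ T.w (σ 1) = 2 * w ∧ T.w (σ 2) = 2 * w ∧ T.w (σ 3) = w ∧ T.w (σ 4) = w ∧ T.a (σ 0) (σ 0) = -4 * w ∧ T.a (σ 0) (σ 1) = 2 * w ∧ T.a (σ 0) (σ 2) = 0 ∧ T.a (σ 0) (σ 3) = 0 ∧ T.a (σ 0) (σ 4) = 0 ∧ T.a (σ 1) (σ 1) = -4 * w ∧ T.a (σ 1) (σ 2) = 2 * w ∧ T.a (σ 1) (σ 3) = 0 ∧ T.a (σ 1) (σ 4) = 0 ∧ T.a (σ 2) (σ 2) = -4 * w ∧ T.a (σ 2) (σ 3) = 2 * w ∧ T.a (σ 2) (σ 4) = 0 ∧ T.a (σ 3) (σ 3) = -2 * w ∧ T.a (σ 3) (σ 4) = w ∧ T.a (σ 4) (σ 4) = -2 * w) ∨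
      (T.m (σ 0) = 2 * m ∧ T.m (σ 1) = 2 * m ∧ T.m (σ 2) = 2 * m ∧ T.m (σ 3) = 2 * m ∧ T.m (σ 4) = m ∧ T.w (σ 0) = w ∧ T.w (σ 1) = 2 * w ∧ T.w (σ 2) = 2 * w ∧ T.w (σ 3) = 2 * w ∧ T.w (σ 4) = 4 * w ∧ T.a (σ 0) (σ 0) = -2 * w ∧ T.a (σ 0) (σ 1) = 2 * w ∧ T.a (σ 0) (σ 2) = 0 ∧ T.a (σ 0) (σ 3) = 0 ∧ T.a (σ 0) (σ 4) = 0 ∧ T.a (σ 1) (σ 1) = -4 * w ∧ T.a (σ 1) (σ 2) = 2 * w ∧ T.a (σ 1) (σ 3) = 0 ∧ T.a (σ 1) (σ 4) = 0 ∧ T.a (σ 2) (σ 2) = -4 * w ∧ T.a (σ 2) (σ 3) = 2 * w ∧ T.a (σ 2) (σ 4) = 0 ∧ T.a (σ 3) (σ 3) = -4 * w ∧ T.a (σ 3) (σ 4) = 4 * w ∧ T.a (σ 4) (σ 4) = -8 * w) ∨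
      (T.m (σ 0) = m ∧ T.m (σ 1) = m ∧ T.m (σ 2) = m ∧ T.m (σ 3) = m ∧ T.m (σ 4) = m ∧ T.w (σ 0) = w ∧ T.w (σ 1) = 2 * w ∧ T.w (σ 2) = 2 * w ∧ T.w (σ 3) = 2 * w ∧ T.w (σ 4) = w ∧ T.a (σ 0) (σ 0) = -2 * w ∧ T.a (σ 0) (σ 1) = 2 * w ∧ T.a (σ 0) (σ 2) = 0 ∧ T.a (σ 0) (σ 3) = 0 ∧ T.a (σ 0) (σ 4) = 0 ∧ T.a (σ 1) (σ 1) = -4 * w ∧ T.a (σ 1) (σ 2) = 2 * w ∧ T.a (σ 1) (σ 3) = 0 ∧ T.a (σ 1) (σ 4) = 0 ∧ T.a (σ 2) (σ 2) = -4 * w ∧ T.a (σ 2) (σ 3) = 2 * w ∧ T.a (σ 2) (σ 4) = 0 ∧ T.a (σ 3) (σ 3) = -4 * w ∧ T.a (σ 3) (σ 4) = 2 * w ∧ T.a (σ 4) (σ 4) = -2 * w) ∨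
      (T.m (σ 0) = m ∧ T.m (σ 1) = 2 * m ∧ T.m (σ 2) = 2 * m ∧ T.m (σ 3) = 2 * m ∧ T.m (σ 4) = m ∧ T.w (σ 0) = 2 * w ∧ T.w (σ 1) = w ∧ T.w (σ 2) = w ∧ T.w (σ 3) = w ∧ T.w (σ 4) = 2 * w ∧ T.a (σ 0) (σ 0) = -4 * w ∧ T.a (σ 0) (σ 1) = 2 * w ∧ T.a (σ 0) (σ 2) = 0 ∧ T.a (σ 0) (σ 3) = 0 ∧ T.a (σ 0) (σ 4) = 0 ∧ T.a (σ 1) (σ 1) = -2 * w ∧ T.a (σ 1) (σ 2) = w ∧ T.a (σ 1) (σ 3) = 0 ∧ T.a (σ 1) (σ 4) = 0 ∧ T.a (σ 2) (σ 2) = -2 * w ∧ T.a (σ 2) (σ 3) = w ∧ T.a (σ 2) (σ 4) = 0 ∧ T.a (σ 3) (σ 3) = -2 * w ∧ T.a (σ 3) (σ 4) = 2 * w ∧ T.a (σ 4) (σ 4) = -4 * w) ∨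
      (T.m (σ 0) = 2 * m ∧ T.m (σ 1) = m ∧ T.m (σ 2) = m ∧ T.m (σ 3) = m ∧ T.m (σ 4) = m ∧ T.w (σ 0) = w ∧ T.w (σ 1) = w ∧ T.w (σ 2) = w ∧ T.w (σ 3) = w ∧ T.w (σ 4) = w ∧ T.a (σ 0) (σ 0) = -2 * w ∧ T.a (σ 0) (σ 1) = w ∧ T.a (σ 0) (σ 2) = w ∧ T.a (σ 0) (σ 3) = w ∧ T.a (σ 0) (σ 4) = w ∧ T.a (σ 1) (σ 1) = -2 * w ∧ T.a (σ 1) (σ 2) = 0 ∧ T.a (σ 1) (σ 3) = 0 ∧ T.a (σ 1) (σ 4) = 0 ∧ T.a (σ 2) (σ 2) = -2 * w ∧ T.a (σ 2) (σ 3) = 0 ∧ T.a (σ 2) (σ 4) = 0 ∧ T.a (σ 3) (σ 3) = -2 * w ∧ T.a (σ 3) (σ 4) = 0 ∧ T.a (σ 4) (σ 4) = -2 * w) ∨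
      (T.m (σ 0) = m ∧ T.m (σ 1) = 2 * m ∧ T.m (σ 2) = 2 * m ∧ T.m (σ 3) = m ∧ T.m (σ 4) = m ∧ T.w (σ 0) = 2 * w ∧ T.w (σ 1) = w ∧ T.w (σ 2) = w ∧ T.w (σ 3) = w ∧ T.w (σ 4) = w ∧ T.a (σ 0) (σ 0) = -4 * w ∧ T.a (σ 0) (σ 1) = 2 * w ∧ T.a (σ 0) (σ 2) = 0 ∧ T.a (σ 0) (σ 3) = 0 ∧ T.a (σ 0) (σ 4) = 0 ∧ T.a (σ 1) (σ 1) = -2 * w ∧ T.a (σ 1) (σ 2) = w ∧ T.a (σ 1) (σ 3) = 0 ∧ T.a (σ 1) (σ 4) = 0 ∧ T.a (σ 2) (σ 2) = -2 * w ∧ T.a (σ 2) (σ 3) = w ∧ T.a (σ 2) (σ 4) = w ∧ T.a (σ 3) (σ 3) = -2 * w ∧ T.a (σ 3) (σ 4) = 0 ∧ T.a (σ 4) (σ 4) = -2 * w) ∨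
      (T.m (σ 0) = 2 * m ∧ T.m (σ 1) = 2 * m ∧ T.m (σ 2) = 2 * m ∧ T.m (σ 3) = m ∧ T.m (σ 4) = m ∧ T.w (σ 0) = w ∧ T.w (σ 1) = 2 * w ∧ T.w (σ 2) = 2 * w ∧ T.w (σ 3) = 2 * w ∧ T.w (σ 4) = 2 * w ∧ T.a (σ 0) (σ 0) = -2 * w ∧ T.a (σ 0) (σ 1) = 2 * w ∧ T.a (σ 0) (σ 2) = 0 ∧ T.a (σ 0) (σ 3) = 0 ∧ T.a (σ 0) (σ 4) = 0 ∧ T.a (σ 1) (σ 1) = -4 * w ∧ T.a (σ 1) (σ 2) = 2 * w ∧ T.a (σ 1) (σ 3) = 0 ∧ T.a (σ 1) (σ 4) = 0 ∧ T.a (σ 2) (σ 2) = -4 * w ∧ T.a (σ 2) (σ 3) = 2 * w ∧ T.a (σ 2) (σ 4) = 2 * w ∧ T.a (σ 3) (σ 3) = -4 * w ∧ T.a (σ 3) (σ 4) = 0 ∧ T.a (σ 4) (σ 4) = -4 * w)) := by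
  have c0_1 : cc T (σ 0) (σ 1) = 1 := by rw [hC 0 1 (by decide)]; rfl
  have c0_2 : cc T (σ 0) (σ 2) = 0 := by rw [hC 0 2 (by decide)]; rfl
  have c0_3 : cc T (σ 0) (σ 3) = 0 := by rw [hC 0 3 (by decide)]; rfl
  have c0_4 : cc T (σ 0) (σ 4) = 0 := by rw [hC 0 4 (by decide)]; rfl
  have c1_0 : cc T (σ 1) (σ 0) = 2 := by rw [hC 1 0 (by decide)]; rfl
  have c1_2 : cc T (σ 1) (σ 2) = 1 := by rw [hC 1 2 (by decide)]; rfl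
  have c1_3 : cc T (σ 1) (σ 3) = 0 := by rw [hC 1 3 (by decide)]; rfl
  have c1_4 : cc T (σ 1) (σ 4) = 0 := by rw [hC 1 4 (by decide)]; rfl
  have c2_0 : cc T (σ 2) (σ 0) = 0 := by rw [hC 2 0 (by decide)]; rfl
  have c2_1 : cc T (σ 2) (σ 1) = 1 := by rw [hC 2 1 (by decide)]; rfl
  have c2_3 : cc T (σ 2) (σ 3) = 1 := by rw [hC 2 3 (by decide)]; rfl
  have c2_4 : cc T (σ 2) (σ 4) = 1 := by rw [hC 2 4 (by decide)]; rfl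
  have c3_0 : cc T (σ 3) (σ 0) = 0 := by rw [hC 3 0 (by decide)]; rfl
  have c3_1 : cc T (σ 3) (σ 1) = 0 := by rw [hC 3 1 (by decide)]; rfl
  have c3_2 : cc T (σ 3) (σ 2) = 1 := by rw [hC 3 2 (by decide)]; rfl
  have c3_4 : cc T (σ 3) (σ 4) = 0 := by rw [hC 3 4 (by decide)]; rfl
  have c4_0 : cc T (σ 4) (σ 0) = 0 := by rw [hC 4 0 (by decide)]; rfl
  have c4_1 : cc T (σ 4) (σ 1) = 0 := by rw [hC 4 1 (by decide)]; rfl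
  have c4_2 : cc T (σ 4) (σ 2) = 1 := by rw [hC 4 2 (by decide)]; rfl
  have c4_3 : cc T (σ 4) (σ 3) = 0 := by rw [hC 4 3 (by decide)]; rfl
  have dd0 := cc_diag T hd (σ 0)
  have dd1 := cc_diag T hd (σ 1)
  have dd2 := cc_diag T hd (σ 2)
  have dd3 := cc_diag T hd (σ 3)
  have dd4 := cc_diag T hd (σ 4)
  have r0 := row5 T σ 0
  rw [dd0, c0_1, c0_2, c0_3, c0_4] at r0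
  have r1 := row5 T σ 1
  rw [c1_0, dd1, c1_2, c1_3, c1_4] at r1
  have r2 := row5 T σ 2
  rw [c2_0, c2_1, dd2, c2_3, c2_4] at r2
  have r3 := row5 T σ 3
  rw [c3_0, c3_1, c3_2, dd3, c3_4] at r3
  have r4 := row5 T σ 4
  rw [c4_0, c4_1, c4_2, c4_3, dd4] at r4
  have a0_1 : T.a (σ 0) (σ 1) = T.w (σ 0) * 1 := by rw [a_eq, c0_1]
  have a0_2 : T.a (σ 0) (σ 2) = T.w (σ 0) * 0 := by rw [a_eq, c0_2]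
  have a0_3 : T.a (σ 0) (σ 3) = T.w (σ 0) * 0 := by rw [a_eq, c0_3]
  have a0_4 : T.a (σ 0) (σ 4) = T.w (σ 0) * 0 := by rw [a_eq, c0_4]
  have a1_0 : T.a (σ 1) (σ 0) = T.w (σ 1) * 2 := by rw [a_eq, c1_0]
  have a1_2 : T.a (σ 1) (σ 2) = T.w (σ 1) * 1 := by rw [a_eq, c1_2]
  have a1_3 : T.a (σ 1) (σ 3) = T.w (σ 1) * 0 := by rw [a_eq, c1_3]
  have a1_4 : T.a (σ 1) (σ 4) = T.w (σ 1) * 0 := by rw [a_eq, c1_4]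
  have a2_0 : T.a (σ 2) (σ 0) = T.w (σ 2) * 0 := by rw [a_eq, c2_0]
  have a2_1 : T.a (σ 2) (σ 1) = T.w (σ 2) * 1 := by rw [a_eq, c2_1]
  have a2_3 : T.a (σ 2) (σ 3) = T.w (σ 2) * 1 := by rw [a_eq, c2_3]
  have a2_4 : T.a (σ 2) (σ 4) = T.w (σ 2) * 1 := by rw [a_eq, c2_4]
  have a3_0 : T.a (σ 3) (σ 0) = T.w (σ 3) * 0 := by rw [a_eq, c3_0]
  have a3_1 : T.a (σ 3) (σ 1) = T.w (σ 3) * 0 := by rw [a_eq, c3_1]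
  have a3_2 : T.a (σ 3) (σ 2) = T.w (σ 3) * 1 := by rw [a_eq, c3_2]
  have a3_4 : T.a (σ 3) (σ 4) = T.w (σ 3) * 0 := by rw [a_eq, c3_4]
  have a4_0 : T.a (σ 4) (σ 0) = T.w (σ 4) * 0 := by rw [a_eq, c4_0]
  have a4_1 : T.a (σ 4) (σ 1) = T.w (σ 4) * 0 := by rw [a_eq, c4_1]
  have a4_2 : T.a (σ 4) (σ 2) = T.w (σ 4) * 1 := by rw [a_eq, c4_2]
  have a4_3 : T.a (σ 4) (σ 3) = T.w (σ 4) * 0 := by rw [a_eq, c4_3]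
  have ad0 := hd (σ 0)
  have ad1 := hd (σ 1)
  have ad2 := hd (σ 2)
  have ad3 := hd (σ 3)
  have ad4 := hd (σ 4)
  have s0_1 := a_symm T (σ 0) (σ 1)
  have s0_2 := a_symm T (σ 0) (σ 2)
  have s0_3 := a_symm T (σ 0) (σ 3)
  have s0_4 := a_symm T (σ 0) (σ 4)
  have s1_2 := a_symm T (σ 1) (σ 2)
  have s1_3 := a_symm T (σ 1) (σ 3)
  have s1_4 := a_symm T (σ 1) (σ 4)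
  have s2_3 := a_symm T (σ 2) (σ 3)
  have s2_4 := a_symm T (σ 2) (σ 4)
  have s3_4 := a_symm T (σ 3) (σ 4)
  clear c0_1 c0_2 c0_3 c0_4 c1_0 c1_2 c1_3 c1_4 c2_0 c2_1 c2_3 c2_4 c3_0 c3_1 c3_2 c3_4 c4_0 c4_1 c4_2 c4_3 dd0 dd1 dd2 dd3 dd4 hC
  have hm0 : T.m (σ 0) = 1 * T.m (σ 0) := by omega
  have hm1 : T.m (σ 1) = 2 * T.m (σ 0) := by omega
  have hm2 : T.m (σ 2) = 2 * T.m (σ 0) := by omega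
  have hm3 : T.m (σ 3) = 1 * T.m (σ 0) := by omega
  have hm4 : T.m (σ 4) = 1 * T.m (σ 0) := by omega
  clear r0 r1 r2 r3 r4
  have hw0 : T.w (σ 0) = 2 * T.w (σ 1) := by omega
  have hw1 : T.w (σ 1) = 1 * T.w (σ 1) := by omega
  have hw2 : T.w (σ 2) = 1 * T.w (σ 1) := by omega
  have hw3 : T.w (σ 3) = 1 * T.w (σ 1) := by omega
  have hw4 : T.w (σ 4) = 1 * T.w (σ 1) := by omega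
  refine ⟨σ, T.m (σ 0), T.w (σ 1), ?_⟩
  refine Or.inr (Or.inr (Or.inr (Or.inr (Or.inr (Or.inr (Or.inr (Or.inl ?_)))))))
  refine ⟨?_, ?_, ?_, ?_, ?_, ?_, ?_, ?_, ?_, ?_, ?_, ?_, ?_, ?_, ?_, ?_, ?_, ?_, ?_, ?_, ?_, ?_, ?_, ?_, ?_⟩ <;> omega

theorem form5_8 (T : NumericalType 5) (hd : ∀ i, T.a i i = -2 * T.w i)
    (σ : Equiv.Perm (Fin 5))
    (hC : ∀ i j : Fin 5, i ≠ j → cc T (σ i) (σ j) = (E forms5 8 i j : ℤ)) :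
    ∃ (σ : Equiv.Perm (Fin 5)) (m w : ℤ),
      ((T.m (σ 0) = m ∧ T.m (σ 1) = m ∧ T.m (σ 2) = m ∧ T.m (σ 3) = m ∧ T.m (σ 4) = m ∧ T.w (σ 0) = w ∧ T.w (σ 1) = w ∧ T.w (σ 2) = w ∧ T.w (σ 3) = w ∧ T.w (σ 4) = w ∧ T.a (σ 0) (σ 0) = -2 * w ∧ T.a (σ 0) (σ 1) = w ∧ T.a (σ 0) (σ 2) = 0 ∧ T.a (σ 0) (σ 3) = 0 ∧ T.a (σ 0) (σ 4) = w ∧ T.a (σ 1) (σ 1) = -2 * w ∧ T.a (σ 1) (σ 2) = w ∧ T.a (σ 1) (σ 3) = 0 ∧ T.a (σ 1) (σ 4) = 0 ∧ T.a (σ 2) (σ 2) = -2 * w ∧ T.a (σ 2) (σ 3) = w ∧ T.a (σ 2) (σ 4) = 0 ∧ T.a (σ 3) (σ 3) = -2 * w ∧ T.a (σ 3) (σ 4) = w ∧ T.a (σ 4) (σ 4) = -2 * w) ∨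
      (T.m (σ 0) = m ∧ T.m (σ 1) = 2 * m ∧ T.m (σ 2) = 3 * m ∧ T.m (σ 3) = 2 * m ∧ T.m (σ 4) = m ∧ T.w (σ 0) = w ∧ T.w (σ 1) = w ∧ T.w (σ 2) = w ∧ T.w (σ 3) = 2 * w ∧ T.w (σ 4) = 2 * w ∧ T.a (σ 0) (σ 0) = -2 * w ∧ T.a (σ 0) (σ 1) = w ∧ T.a (σ 0) (σ 2) = 0 ∧ T.a (σ 0) (σ 3) = 0 ∧ T.a (σ 0) (σ 4) = 0 ∧ T.a (σ 1) (σ 1) = -2 * w ∧ T.a (σ 1) (σ 2) = w ∧ T.a (σ 1) (σ 3) = 0 ∧ T.a (σ 1) (σ 4) = 0 ∧ T.a (σ 2) (σ 2) = -2 * w ∧ T.a (σ 2) (σ 3) = 2 * w ∧ T.a (σ 2) (σ 4) = 0 ∧ T.a (σ 3) (σ 3) = -4 * w ∧ T.a (σ 3) (σ 4) = 2 * w ∧ T.a (σ 4) (σ 4) = -4 * w) ∨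
      (T.m (σ 0) = m ∧ T.m (σ 1) = 2 * m ∧ T.m (σ 2) = 3 * m ∧ T.m (σ 3) = 4 * m ∧ T.m (σ 4) = 2 * m ∧ T.w (σ 0) = 2 * w ∧ T.w (σ 1) = 2 * w ∧ T.w (σ 2) = 2 * w ∧ T.w (σ 3) = w ∧ T.w (σ 4) = w ∧ T.a (σ 0) (σ 0) = -4 * w ∧ T.a (σ 0) (σ 1) = 2 * w ∧ T.a (σ 0) (σ 2) = 0 ∧ T.a (σ 0) (σ 3) = 0 ∧ T.a (σ 0) (σ 4) = 0 ∧ T.a (σ 1) (σ 1) = -4 * w ∧ T.a (σ 1) (σ 2) = 2 * w ∧ T.a (σ 1) (σ 3) = 0 ∧ T.a (σ 1) (σ 4) = 0 ∧ T.a (σ 2) (σ 2) = -4 * w ∧ T.a (σ 2) (σ 3) = 2 * w ∧ T.a (σ 2) (σ 4) = 0 ∧ T.a (σ 3) (σ 3) = -2 * w ∧ T.a (σ 3) (σ 4) = w ∧ T.a (σ 4) (σ 4) = -2 * w) ∨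
      (T.m (σ 0) = 2 * m ∧ T.m (σ 1) = 2 * m ∧ T.m (σ 2) = 2 * m ∧ T.m (σ 3) = 2 * m ∧ T.m (σ 4) = m ∧ T.w (σ 0) = w ∧ T.w (σ 1) = 2 * w ∧ T.w (σ 2) = 2 * w ∧ T.w (σ 3) = 2 * w ∧ T.w (σ 4) = 4 * w ∧ T.a (σ 0) (σ 0) = -2 * w ∧ T.a (σ 0) (σ 1) = 2 * w ∧ T.a (σ 0) (σ 2) = 0 ∧ T.a (σ 0) (σ 3) = 0 ∧ T.a (σ 0) (σ 4) = 0 ∧ T.a (σ 1) (σ 1) = -4 * w ∧ T.a (σ 1) (σ 2) = 2 * w ∧ T.a (σ 1) (σ 3) = 0 ∧ T.a (σ 1) (σ 4) = 0 ∧ T.a (σ 2) (σ 2) = -4 * w ∧ T.a (σ 2) (σ 3) = 2 * w ∧ T.a (σ 2) (σ 4) = 0 ∧ T.a (σ 3) (σ 3) = -4 * w ∧ T.a (σ 3) (σ 4) = 4 * w ∧ T.a (σ 4) (σ 4) = -8 * w) ∨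
      (T.m (σ 0) = m ∧ T.m (σ 1) = m ∧ T.m (σ 2) = m ∧ T.m (σ 3) = m ∧ T.m (σ 4) = m ∧ T.w (σ 0) = w ∧ T.w (σ 1) = 2 * w ∧ T.w (σ 2) = 2 * w ∧ T.w (σ 3) = 2 * w ∧ T.w (σ 4) = w ∧ T.a (σ 0) (σ 0) = -2 * w ∧ T.a (σ 0) (σ 1) = 2 * w ∧ T.a (σ 0) (σ 2) = 0 ∧ T.a (σ 0) (σ 3) = 0 ∧ T.a (σ 0) (σ 4) = 0 ∧ T.a (σ 1) (σ 1) = -4 * w ∧ T.a (σ 1) (σ 2) = 2 * w ∧ T.a (σ 1) (σ 3) = 0 ∧ T.a (σ 1) (σ 4) = 0 ∧ T.a (σ 2) (σ 2) = -4 * w ∧ T.a (σ 2) (σ 3) = 2 * w ∧ T.a (σ 2) (σ 4) = 0 ∧ T.a (σ 3) (σ 3) = -4 * w ∧ T.a (σ 3) (σ 4) = 2 * w ∧ T.a (σ 4) (σ 4) = -2 * w) ∨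
      (T.m (σ 0) = m ∧ T.m (σ 1) = 2 * m ∧ T.m (σ 2) = 2 * m ∧ T.m (σ 3) = 2 * m ∧ T.m (σ 4) = m ∧ T.w (σ 0) = 2 * w ∧ T.w (σ 1) = w ∧ T.w (σ 2) = w ∧ T.w (σ 3) = w ∧ T.w (σ 4) = 2 * w ∧ T.a (σ 0) (σ 0) = -4 * w ∧ T.a (σ 0) (σ 1) = 2 * w ∧ T.a (σ 0) (σ 2) = 0 ∧ T.a (σ 0) (σ 3) = 0 ∧ T.a (σ 0) (σ 4) = 0 ∧ T.a (σ 1) (σ 1) = -2 * w ∧ T.a (σ 1) (σ 2) = w ∧ T.a (σ 1) (σ 3) = 0 ∧ T.a (σ 1) (σ 4) = 0 ∧ T.a (σ 2) (σ 2) = -2 * w ∧ T.a (σ 2) (σ 3) = w ∧ T.a (σ 2) (σ 4) = 0 ∧ T.a (σ 3) (σ 3) = -2 * w ∧ T.a (σ 3) (σ 4) = 2 * w ∧ T.a (σ 4) (σ 4) = -4 * w) ∨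
      (T.m (σ 0) = 2 * m ∧ T.m (σ 1) = m ∧ T.m (σ 2) = m ∧ T.m (σ 3) = m ∧ T.m (σ 4) = m ∧ T.w (σ 0) = w ∧ T.w (σ 1) = w ∧ T.w (σ 2) = w ∧ T.w (σ 3) = w ∧ T.w (σ 4) = w ∧ T.a (σ 0) (σ 0) = -2 * w ∧ T.a (σ 0) (σ 1) = w ∧ T.a (σ 0) (σ 2) = w ∧ T.a (σ 0) (σ 3) = w ∧ T.a (σ 0) (σ 4) = w ∧ T.a (σ 1) (σ 1) = -2 * w ∧ T.a (σ 1) (σ 2) = 0 ∧ T.a (σ 1) (σ 3) = 0 ∧ T.a (σ 1) (σ 4) = 0 ∧ T.a (σ 2) (σ 2) = -2 * w ∧ T.a (σ 2) (σ 3) = 0 ∧ T.a (σ 2) (σ 4) = 0 ∧ T.a (σ 3) (σ 3) = -2 * w ∧ T.a (σ 3) (σ 4) = 0 ∧ T.a (σ 4) (σ 4) = -2 * w) ∨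
      (T.m (σ 0) = m ∧ T.m (σ 1) = 2 * m ∧ T.m (σ 2) = 2 * m ∧ T.m (σ 3) = m ∧ T.m (σ 4) = m ∧ T.w (σ 0) = 2 * w ∧ T.w (σ 1) = w ∧ T.w (σ 2) = w ∧ T.w (σ 3) = w ∧ T.w (σ 4) = w ∧ T.a (σ 0) (σ 0) = -4 * w ∧ T.a (σ 0) (σ 1) = 2 * w ∧ T.a (σ 0) (σ 2) = 0 ∧ T.a (σ 0) (σ 3) = 0 ∧ T.a (σ 0) (σ 4) = 0 ∧ T.a (σ 1) (σ 1) = -2 * w ∧ T.a (σ 1) (σ 2) = w ∧ T.a (σ 1) (σ 3) = 0 ∧ T.a (σ 1) (σ 4) = 0 ∧ T.a (σ 2) (σ 2) = -2 * w ∧ T.a (σ 2) (σ 3) = w ∧ T.a (σ 2) (σ 4) = w ∧ T.a (σ 3) (σ 3) = -2 * w ∧ T.a (σ 3) (σ 4) = 0 ∧ T.a (σ 4) (σ 4) = -2 * w) ∨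
      (T.m (σ 0) = 2 * m ∧ T.m (σ 1) = 2 * m ∧ T.m (σ 2) = 2 * m ∧ T.m (σ 3) = m ∧ T.m (σ 4) = m ∧ T.w (σ 0) = w ∧ T.w (σ 1) = 2 * w ∧ T.w (σ 2) = 2 * w ∧ T.w (σ 3) = 2 * w ∧ T.w (σ 4) = 2 * w ∧ T.a (σ 0) (σ 0) = -2 * w ∧ T.a (σ 0) (σ 1) = 2 * w ∧ T.a (σ 0) (σ 2) = 0 ∧ T.a (σ 0) (σ 3) = 0 ∧ T.a (σ 0) (σ 4) = 0 ∧ T.a (σ 1) (σ 1) = -4 * w ∧ T.a (σ 1) (σ 2) = 2 * w ∧ T.a (σ 1) (σ 3) = 0 ∧ T.a (σ 1) (σ 4) = 0 ∧ T.a (σ 2) (σ 2) = -4 * w ∧ T.a (σ 2) (σ 3) = 2 * w ∧ T.a (σ 2) (σ 4) = 2 * w ∧ T.a (σ 3) (σ 3) = -4 * w ∧ T.a (σ 3) (σ 4) = 0 ∧ T.a (σ 4) (σ 4) = -4 * w)) := by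
  have c0_1 : cc T (σ 0) (σ 1) = 2 := by rw [hC 0 1 (by decide)]; rfl
  have c0_2 : cc T (σ 0) (σ 2) = 0 := by rw [hC 0 2 (by decide)]; rfl
  have c0_3 : cc T (σ 0) (σ 3) = 0 := by rw [hC 0 3 (by decide)]; rfl
  have c0_4 : cc T (σ 0) (σ 4) = 0 := by rw [hC 0 4 (by decide)]; rfl
  have c1_0 : cc T (σ 1) (σ 0) = 1 := by rw [hC 1 0 (by decide)]; rfl
  have c1_2 : cc T (σ 1) (σ 2) = 1 := by rw [hC 1 2 (by decide)]; rfl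
  have c1_3 : cc T (σ 1) (σ 3) = 0 := by rw [hC 1 3 (by decide)]; rfl
  have c1_4 : cc T (σ 1) (σ 4) = 0 := by rw [hC 1 4 (by decide)]; rfl
  have c2_0 : cc T (σ 2) (σ 0) = 0 := by rw [hC 2 0 (by decide)]; rfl
  have c2_1 : cc T (σ 2) (σ 1) = 1 := by rw [hC 2 1 (by decide)]; rfl
  have c2_3 : cc T (σ 2) (σ 3) = 1 := by rw [hC 2 3 (by decide)]; rfl
  have c2_4 : cc T (σ 2) (σ 4) = 1 := by rw [hC 2 4 (by decide)]; rfl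
  have c3_0 : cc T (σ 3) (σ 0) = 0 := by rw [hC 3 0 (by decide)]; rfl
  have c3_1 : cc T (σ 3) (σ 1) = 0 := by rw [hC 3 1 (by decide)]; rfl
  have c3_2 : cc T (σ 3) (σ 2) = 1 := by rw [hC 3 2 (by decide)]; rfl
  have c3_4 : cc T (σ 3) (σ 4) = 0 := by rw [hC 3 4 (by decide)]; rfl
  have c4_0 : cc T (σ 4) (σ 0) = 0 := by rw [hC 4 0 (by decide)]; rfl
  have c4_1 : cc T (σ 4) (σ 1) = 0 := by rw [hC 4 1 (by decide)]; rfl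
  have c4_2 : cc T (σ 4) (σ 2) = 1 := by rw [hC 4 2 (by decide)]; rfl
  have c4_3 : cc T (σ 4) (σ 3) = 0 := by rw [hC 4 3 (by decide)]; rfl
  have dd0 := cc_diag T hd (σ 0)
  have dd1 := cc_diag T hd (σ 1)
  have dd2 := cc_diag T hd (σ 2)
  have dd3 := cc_diag T hd (σ 3)
  have dd4 := cc_diag T hd (σ 4)
  have r0 := row5 T σ 0
  rw [dd0, c0_1, c0_2, c0_3, c0_4] at r0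
  have r1 := row5 T σ 1
  rw [c1_0, dd1, c1_2, c1_3, c1_4] at r1
  have r2 := row5 T σ 2
  rw [c2_0, c2_1, dd2, c2_3, c2_4] at r2
  have r3 := row5 T σ 3
  rw [c3_0, c3_1, c3_2, dd3, c3_4] at r3
  have r4 := row5 T σ 4
  rw [c4_0, c4_1, c4_2, c4_3, dd4] at r4
  have a0_1 : T.a (σ 0) (σ 1) = T.w (σ 0) * 2 := by rw [a_eq, c0_1]
  have a0_2 : T.a (σ 0) (σ 2) = T.w (σ 0) * 0 := by rw [a_eq, c0_2]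
  have a0_3 : T.a (σ 0) (σ 3) = T.w (σ 0) * 0 := by rw [a_eq, c0_3]
  have a0_4 : T.a (σ 0) (σ 4) = T.w (σ 0) * 0 := by rw [a_eq, c0_4]
  have a1_0 : T.a (σ 1) (σ 0) = T.w (σ 1) * 1 := by rw [a_eq, c1_0]
  have a1_2 : T.a (σ 1) (σ 2) = T.w (σ 1) * 1 := by rw [a_eq, c1_2]
  have a1_3 : T.a (σ 1) (σ 3) = T.w (σ 1) * 0 := by rw [a_eq, c1_3]
  have a1_4 : T.a (σ 1) (σ 4) = T.w (σ 1) * 0 := by rw [a_eq, c1_4]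
  have a2_0 : T.a (σ 2) (σ 0) = T.w (σ 2) * 0 := by rw [a_eq, c2_0]
  have a2_1 : T.a (σ 2) (σ 1) = T.w (σ 2) * 1 := by rw [a_eq, c2_1]
  have a2_3 : T.a (σ 2) (σ 3) = T.w (σ 2) * 1 := by rw [a_eq, c2_3]
  have a2_4 : T.a (σ 2) (σ 4) = T.w (σ 2) * 1 := by rw [a_eq, c2_4]
  have a3_0 : T.a (σ 3) (σ 0) = T.w (σ 3) * 0 := by rw [a_eq, c3_0]
  have a3_1 : T.a (σ 3) (σ 1) = T.w (σ 3) * 0 := by rw [a_eq, c3_1]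
  have a3_2 : T.a (σ 3) (σ 2) = T.w (σ 3) * 1 := by rw [a_eq, c3_2]
  have a3_4 : T.a (σ 3) (σ 4) = T.w (σ 3) * 0 := by rw [a_eq, c3_4]
  have a4_0 : T.a (σ 4) (σ 0) = T.w (σ 4) * 0 := by rw [a_eq, c4_0]
  have a4_1 : T.a (σ 4) (σ 1) = T.w (σ 4) * 0 := by rw [a_eq, c4_1]
  have a4_2 : T.a (σ 4) (σ 2) = T.w (σ 4) * 1 := by rw [a_eq, c4_2]
  have a4_3 : T.a (σ 4) (σ 3) = T.w (σ 4) * 0 := by rw [a_eq, c4_3]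
  have ad0 := hd (σ 0)
  have ad1 := hd (σ 1)
  have ad2 := hd (σ 2)
  have ad3 := hd (σ 3)
  have ad4 := hd (σ 4)
  have s0_1 := a_symm T (σ 0) (σ 1)
  have s0_2 := a_symm T (σ 0) (σ 2)
  have s0_3 := a_symm T (σ 0) (σ 3)
  have s0_4 := a_symm T (σ 0) (σ 4)
  have s1_2 := a_symm T (σ 1) (σ 2)
  have s1_3 := a_symm T (σ 1) (σ 3)
  have s1_4 := a_symm T (σ 1) (σ 4)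
  have s2_3 := a_symm T (σ 2) (σ 3)
  have s2_4 := a_symm T (σ 2) (σ 4)
  have s3_4 := a_symm T (σ 3) (σ 4)
  clear c0_1 c0_2 c0_3 c0_4 c1_0 c1_2 c1_3 c1_4 c2_0 c2_1 c2_3 c2_4 c3_0 c3_1 c3_2 c3_4 c4_0 c4_1 c4_2 c4_3 dd0 dd1 dd2 dd3 dd4 hC
  have hm0 : T.m (σ 0) = 2 * T.m (σ 3) := by omega
  have hm1 : T.m (σ 1) = 2 * T.m (σ 3) := by omega
  have hm2 : T.m (σ 2) = 2 * T.m (σ 3) := by omega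
  have hm3 : T.m (σ 3) = 1 * T.m (σ 3) := by omega
  have hm4 : T.m (σ 4) = 1 * T.m (σ 3) := by omega
  clear r0 r1 r2 r3 r4
  have hw0 : T.w (σ 0) = 1 * T.w (σ 0) := by omega
  have hw1 : T.w (σ 1) = 2 * T.w (σ 0) := by omega
  have hw2 : T.w (σ 2) = 2 * T.w (σ 0) := by omega
  have hw3 : T.w (σ 3) = 2 * T.w (σ 0) := by omega
  have hw4 : T.w (σ 4) = 2 * T.w (σ 0) := by omega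
  refine ⟨σ, T.m (σ 3), T.w (σ 0), ?_⟩
  refine Or.inr (Or.inr (Or.inr (Or.inr (Or.inr (Or.inr (Or.inr (Or.inr (?_))))))))
  refine ⟨?_, ?_, ?_, ?_, ?_, ?_, ?_, ?_, ?_, ?_, ?_, ?_, ?_, ?_, ?_, ?_, ?_, ?_, ?_, ?_, ?_, ?_, ?_, ?_, ?_⟩ <;> omega

end Groth.Agent.Lib.G1
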