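import Groth.Agent.Lib.G1Chk_lead

/-! Certificate tree for the genus-one classification on 5 indices (generated; lead). -/

set_option autoImplicit false
set_option maxRecDepth 100000

namespace Groth.Agent.Lib.G1

open Tree

def forms5 : List (List (List ℕ)) :=
  [[[0,1,0,0,1],[1,0,1,0,0],[0,1,0,1,0],[0,0,1,0,1],[1,0,0,1,0]],
  [[0,1,0,0,0],[1,0,1,0,0],[0,1,0,2,0],[0,0,1,0,1],[0,0,0,1,0]],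
  [[0,1,0,0,0],[1,0,1,0,0],[0,1,0,1,0],[0,0,2,0,1],[0,0,0,1,0]],
  [[0,2,0,0,0],[1,0,1,0,0],[0,1,0,1,0],[0,0,1,0,2],[0,0,0,1,0]],
  [[0,2,0,0,0],[1,0,1,0,0],[0,1,0,1,0],[0,0,1,0,1],[0,0,0,2,0]],
  [[0,1,0,0,0],[2,0,1,0,0],[0,1,0,1,0],[0,0,1,0,2],[0,0,0,1,0]],
  [[0,1,1,1,1],[1,0,0,0,0],[1,0,0,0,0],[1,0,0,0,0],[1,0,0,0,0]],
  [[0,1,0,0,0],[2,0,1,0,0],[0,1,0,1,1],[0,0,1,0,0],[0,0,1,0,0]],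
  [[0,2,0,0,0],[1,0,1,0,0],[0,1,0,1,1],[0,0,1,0,0],[0,0,1,0,0]]]

def tree5 : Tree :=
  X 0 (V []) (S 1 0 1 (S 0 1 1 (X 0 (X 1 (V []) (S 2 1 1 (S 1 2 1 (X 1 (X 2 (V []) (S 3 2 1 (S 2 3 1 (X 2 (X 3 (V []) (S 4 3 1 (S 3 4 1 (X 3 (X 4 (V [1,2,2,2,1]) O) O) (S 3 4 2 (X 3 (X 4 (V [2,4,5,6,3]) O) O) (U [2,4,7,10,5]))) (S 4 3 2 (S 3 4 1 (X 3 (X 4 (V [1,2,3,3,3]) O) O) (U [1,2,4,8,7])) (U [1,2,3,5,7])))) (A 3 4 (S 4 2 1 (S 2 4 1 (X 2 (X 3 (X 4 (V [1,2,2,1,1]) O) O) O) (U [3,6,10,5,5])) (U [3,6,10,5,10])) (U [1,2,4,3,3]))) (S 2 3 2 (X 2 (X 3 (V []) (D 1 [0,1,2,3,4] [1,2,3,2,1])) (U [3,6,10,5,5])) (U [3,6,10,5]))) (S 3 2 2 (S 2 3 1 (X 2 (X 3 (V []) (D 2 [0,1,2,3,4] [1,2,3,4,2])) (U [3,6,10,10,5])) (U [1,2,4,4]))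 (U [2,4,7,10])))) (A 2 3 (S 3 1 1 (S 1 3 1 (X 1 (X 2 (X 3 (V []) (S 4 3 1 (S 3 4 1 (X 3 (X 4 (V [1,2,1,2,1]) O) O) (D 7 [4,3,1,0,2] [1,2,1,2,1])) (D 8 [4,3,1,0,2] [1,2,1,2,2]))) (A 3 4 (S 4 2 1 (S 2 4 1 (X 2 (X 3 (X 4 (V [1,2,2,1,1]) O) O) O) (D 7 [4,2,1,0,3] [1,2,2,1,1])) (D 8 [4,2,1,0,3] [1,2,2,1,2])) (U [1,2,2,2,2]))) (D 6 [1,0,2,3,4] [1,2,1,1,1])) (U [1,2,1,1])) (U [1,2,1,2])) (U [1,2,2,2]))) (S 1 2 2 (X 1 (X 2 (V []) (S 3 2 1 (S 2 3 1 (X 2 (X 3 (V []) (D 2 [4,3,2,1,0] [2,4,3,2,1])) (U [2,5,4,2,2])) (U [2,5,4,2])) (U [1,2,2,2]))) (U [1,2,1,1])) (U [1,2,1]))) (S 2 1 2 (S 1 2 1 (X 1 (X 2 (V []) (S 3 2 1 (S 2 3 1 (X 2 (X 3 (V []) (D 1 [4,3,2,1,0] [1,2,3,2,1])) (U [1,2,4,2,2])) (U [1,2,4,2]))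 (U [2,4,7,7]))) (U [1,2,2,1])) (U [1,2,2])) (U [1,2,3])))) (A 1 2 (S 2 0 1 (S 0 2 1 (X 0 (X 1 (X 2 (V []) (S 3 2 1 (S 2 3 1 (X 2 (X 3 (V []) (S 4 3 1 (S 3 4 1 (X 3 (X 4 (V [2,1,2,2,1]) O) O) (S 3 4 2 (X 3 (X 4 (V [4,2,5,6,3]) O) O) (U [4,2,7,10,5]))) (S 4 3 2 (S 3 4 1 (X 3 (X 4 (V [2,1,3,3,3]) O) O) (U [2,1,4,8,7])) (U [2,1,3,5,7])))) (A 3 4 (S 4 2 1 (S 2 4 1 (X 2 (X 3 (X 4 (V [2,1,2,1,1]) O) O) O) (U [6,3,10,5,5])) (U [6,3,10,5,10])) (U [2,1,4,3,3]))) (S 2 3 2 (X 2 (X 3 (V []) (D 1 [1,0,2,3,4] [2,1,3,2,1])) (U [6,3,10,5,5])) (U [6,3,10,5]))) (S 3 2 2 (S 2 3 1 (X 2 (X 3 (V []) (D 2 [1,0,2,3,4] [2,1,3,4,2])) (U [6,3,10,10,5])) (U [2,1,4,4])) (U [4,2,7,10])))) (A 2 3 (S 3 1 1 (S 1 3 1 (X 1 (X 2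 (X 3 (V []) (S 4 3 1 (S 3 4 1 (X 3 (X 4 (V [2,2,1,2,1]) O) O) (S 3 4 2 (X 3 (X 4 (V [4,5,2,6,3]) O) O) (U [4,7,2,10,5]))) (S 4 3 2 (S 3 4 1 (X 3 (X 4 (V [2,3,1,3,3]) O) O) (U [2,4,1,8,7])) (U [2,3,1,5,7])))) (A 3 4 (S 4 2 1 (S 2 4 1 (X 2 (X 3 (X 4 (V [2,2,2,1,1]) O) O) O) (S 2 4 2 (X 2 (X 3 (X 4 (V [5,4,6,2,3]) O) O) O) (U [7,4,10,2,5]))) (S 4 2 2 (S 2 4 1 (X 2 (X 3 (X 4 (V [3,2,3,1,3]) O) O) O) (U [4,2,8,1,7])) (U [3,2,5,1,7]))) (D 0 [0,1,3,4,2] [1,1,1,1,1]))) (A 2 4 (A 3 4 (S 4 1 1 (S 1 4 1 (X 1 (X 2 (X 3 (X 4 (V [2,2,1,1,1]) O) O) O) O) (U [6,10,3,5,5])) (U [6,10,3,5,10])) (U [2,4,1,3,3])) (U [2,2,2,1,2]))) (S 1 3 2 (X 1 (X 2 (X 3 (V []) (D 1 [2,0,1,3,4] [2,3,1,2,1])) (A 3 4 (S 4 2 1 (S 2 4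 1 (X 2 (X 3 (X 4 (V [5,6,4,3,2]) O) O) O) (D 5 [3,1,0,2,4] [2,2,2,1,1])) (D 3 [4,2,0,1,3] [2,2,2,1,2])) (U [2,3,2,2,2]))) (U [6,10,3,5,5])) (U [6,10,3,5]))) (S 3 1 2 (S 1 3 1 (X 1 (X 2 (X 3 (V []) (D 2 [2,0,1,3,4] [2,3,1,4,2])) (A 3 4 (S 4 2 1 (S 2 4 1 (X 2 (X 3 (X 4 (V [3,3,2,3,1]) O) O) O) (D 3 [3,1,0,2,4] [2,2,2,2,1])) (D 4 [3,1,0,2,4] [1,1,1,1,1])) (U [2,2,2,3,2]))) (U [6,10,3,10,5])) (U [2,4,1,4])) (U [4,7,2,10]))) (U [1,1,1,1]))) (A 1 3 (A 2 3 (S 3 0 1 (S 0 3 1 (X 0 (X 1 (X 2 (X 3 (V []) (S 4 3 1 (S 3 4 1 (X 3 (X 4 (V [2,1,1,2,1]) O) O) (D 7 [4,3,0,1,2] [2,1,1,2,1])) (D 8 [4,3,0,1,2] [2,1,1,2,2]))) (A 3 4 (S 4 2 1 (S 2 4 1 (X 2 (X 3 (X 4 (V [2,1,2,1,1]) O) O) O) (D 7 [4,2,0,1,3] [2,1,2,1,1]))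 (D 8 [4,2,0,1,3] [2,1,2,1,2])) (U [2,1,2,2,2]))) (A 2 4 (A 3 4 (S 4 1 1 (S 1 4 1 (X 1 (X 2 (X 3 (X 4 (V [2,2,1,1,1]) O) O) O) O) (D 7 [4,1,0,2,3] [2,2,1,1,1])) (D 8 [4,1,0,2,3] [2,2,1,1,2])) (U [2,2,1,2,2])) (U [2,2,2,1,2]))) (D 6 [0,1,2,3,4] [2,1,1,1,1])) (U [2,1,1,1])) (U [2,1,1,2])) (U [2,1,2,2])) (U [2,2,1,2]))) (S 0 2 2 (X 0 (X 1 (X 2 (V []) (S 3 2 1 (S 2 3 1 (X 2 (X 3 (V []) (D 2 [4,3,2,0,1] [4,2,3,2,1])) (U [5,2,4,2,2])) (U [5,2,4,2])) (U [2,1,2,2]))) (A 2 3 (S 3 1 1 (S 1 3 1 (X 1 (X 2 (X 3 (V []) (S 4 3 1 (S 3 4 1 (X 3 (X 4 (V [6,5,3,4,2]) O) O) (D 5 [2,0,1,3,4] [2,2,1,2,1])) (D 3 [4,3,1,0,2] [2,2,1,2,2]))) (D 1 [3,1,0,2,4] [3,2,2,1,1])) (D 7 [2,0,1,3,4] [2,2,1,1,1])) (U [2,2,1,1])) (U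 [2,2,1,2])) (U [1,1,1,1]))) (U [2,1,1,1])) (U [2,1,1]))) (S 2 0 2 (S 0 2 1 (X 0 (X 1 (X 2 (V []) (S 3 2 1 (S 2 3 1 (X 2 (X 3 (V []) (D 1 [4,3,2,0,1] [2,1,3,2,1])) (U [2,1,4,2,2])) (U [2,1,4,2])) (U [4,2,7,7]))) (A 2 3 (S 3 1 1 (S 1 3 1 (X 1 (X 2 (X 3 (V []) (S 4 3 1 (S 3 4 1 (X 3 (X 4 (V [3,3,3,2,1]) O) O) (D 3 [2,0,1,3,4] [2,2,2,2,1])) (D 4 [2,0,1,3,4] [1,1,1,1,1]))) (D 2 [3,1,0,2,4] [3,2,4,1,2])) (D 8 [2,0,1,3,4] [2,2,2,1,1])) (U [2,2,2,1])) (U [1,1,1,1])) (U [1,1,1,1]))) (U [2,1,2,1])) (U [2,1,2])) (U [2,1,3]))) (U [1,1,1]))) (S 0 1 2 (X 0 (X 1 (V []) (S 2 1 1 (S 1 2 1 (X 1 (X 2 (V []) (S 3 2 1 (S 2 3 1 (X 2 (X 3 (V []) (S 4 3 1 (S 3 4 1 (X 3 (X 4 (V [3,3,3,2,1]) O) O) (D 3 [0,1,2,3,4] [2,2,2,2,1]))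 (D 4 [0,1,2,3,4] [1,1,1,1,1]))) (D 8 [0,1,2,3,4] [2,2,2,1,1])) (U [2,2,2,1])) (U [1,1,1,1]))) (U [2,2,1,1])) (U [2,2,1])) (U [1,1,1]))) (A 1 2 (S 2 0 1 (S 0 2 1 (X 0 (X 1 (X 2 (V []) (S 3 2 1 (S 2 3 1 (X 2 (X 3 (V []) (S 4 3 1 (S 3 4 1 (X 3 (X 4 (V [6,3,5,4,2]) O) O) (D 5 [1,0,2,3,4] [2,1,2,2,1])) (D 3 [4,3,2,0,1] [2,1,2,2,2]))) (D 7 [1,0,2,3,4] [2,1,2,1,1])) (U [2,1,2,1])) (U [2,1,2,2]))) (A 2 3 (S 3 1 1 (S 1 3 1 (X 1 (X 2 (X 3 (V []) (D 2 [4,3,1,0,2] [4,3,2,2,1])) (D 1 [4,2,0,1,3] [3,2,2,1,1])) (U [5,4,2,2,2])) (U [5,4,2,2])) (U [2,2,1,2])) (U [1,1,1,1]))) (U [2,1,1,1])) (U [2,1,1])) (U [2,1,2])) (U [1,1,1]))) (S 0 1 3 (X 0 (X 1 (V []) (U [3,2,1])) (U [2,1,1])) (U [2,1])))) (S 1 0 2 (S 0 1 1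 (X 0 (X 1 (V []) (S 2 1 1 (S 1 2 1 (X 1 (X 2 (V []) (S 3 2 1 (S 2 3 1 (X 2 (X 3 (V []) (S 4 3 1 (S 3 4 1 (X 3 (X 4 (V [3,6,5,4,2]) O) O) (D 5 [0,1,2,3,4] [1,2,2,2,1])) (D 3 [4,3,2,1,0] [1,2,2,2,2]))) (D 7 [0,1,2,3,4] [1,2,2,1,1])) (U [1,2,2,1])) (U [1,2,2,2]))) (U [1,2,1,1])) (U [1,2,1])) (U [1,2,2]))) (A 1 2 (S 2 0 1 (S 0 2 1 (X 0 (X 1 (X 2 (V []) (S 3 2 1 (S 2 3 1 (X 2 (X 3 (V []) (S 4 3 1 (S 3 4 1 (X 3 (X 4 (V [3,3,3,2,1]) O) O) (D 3 [1,0,2,3,4] [2,2,2,2,1])) (D 4 [1,0,2,3,4] [1,1,1,1,1]))) (D 8 [1,0,2,3,4] [2,2,2,1,1])) (U [2,2,2,1])) (U [1,1,1,1]))) (A 2 3 (S 3 1 1 (S 1 3 1 (X 1 (X 2 (X 3 (V []) (D 1 [4,3,1,0,2] [2,3,1,2,1])) (D 2 [4,2,0,1,3] [3,4,2,2,1])) (U [2,4,1,2,2])) (U [2,4,1,2]))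 (U [4,7,2,7])) (U [1,1,1,1]))) (U [2,2,1,1])) (U [2,2,1])) (U [1,1,1])) (U [1,1,1]))) (U [1,1])) (S 1 0 3 (S 0 1 1 (X 0 (X 1 (V []) (U [1,2,1])) (U [2,3,1])) (U [1,1])) (U [1,2]))))

theorem tree5_ok : check 5 forms5 tree5 1 [] = true := by decide +kernel

theorem main5 (T : Models.NumericalType 5) (hd : ∀ i, T.a i i = -2 * T.w i) :
    Concl T forms5 := main T hd forms5 tree5 tree5_ok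

end Groth.Agent.Lib.G1
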