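import Groth.Agent.Lib.G1Chk_lead

/-! Certificate tree for the genus-one classification on 6 indices (generated; lead). -/

set_option autoImplicit false
set_option maxRecDepth 100000

namespace Groth.Agent.Lib.G1

open Tree

def forms6 : List (List (List ℕ)) :=
  [[[0,1,0,0,0,1],[1,0,1,0,0,0],[0,1,0,1,0,0],[0,0,1,0,1,0],[0,0,0,1,0,1],[1,0,0,0,1,0]],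
  [[0,2,0,0,0,0],[1,0,1,0,0,0],[0,1,0,1,0,0],[0,0,1,0,1,0],[0,0,0,1,0,2],[0,0,0,0,1,0]],
  [[0,2,0,0,0,0],[1,0,1,0,0,0],[0,1,0,1,0,0],[0,0,1,0,1,0],[0,0,0,1,0,1],[0,0,0,0,2,0]],
  [[0,1,0,0,0,0],[2,0,1,0,0,0],[0,1,0,1,0,0],[0,0,1,0,1,0],[0,0,0,1,0,2],[0,0,0,0,1,0]],
  [[0,1,0,0,0,0],[2,0,1,0,0,0],[0,1,0,1,0,0],[0,0,1,0,1,1],[0,0,0,1,0,0],[0,0,0,1,0,0]],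
  [[0,2,0,0,0,0],[1,0,1,0,0,0],[0,1,0,1,0,0],[0,0,1,0,1,1],[0,0,0,1,0,0],[0,0,0,1,0,0]],
  [[0,0,1,0,0,0],[0,0,1,0,0,0],[1,1,0,1,0,0],[0,0,1,0,1,1],[0,0,0,1,0,0],[0,0,0,1,0,0]]]

def tree6 : Tree :=
  X 0 (V []) (S 1 0 1 (S 0 1 1 (X 0 (X 1 (V []) (S 2 1 1 (S 1 2 1 (X 1 (X 2 (V []) (S 3 2 1 (S 2 3 1 (X 2 (X 3 (V []) (S 4 3 1 (S 3 4 1 (X 3 (X 4 (V []) (S 5 4 1 (S 4 5 1 (X 4 (X 5 (V [1,2,2,2,2,1]) O) O) (S 4 5 2 (X 4 (X 5 (V [3,6,8,10,11,6]) O) O) (U [1,2,3,5,8,4]))) (S 5 4 2 (S 4 5 1 (X 4 (X 5 (V [3,6,8,10,11,12]) O) O) (U [1,2,4,8,13,12])) (U [1,2,3,5,8,11])))) (A 4 5 (S 5 3 1 (S 3 5 1 (X 3 (X 4 (X 5 (V [2,4,5,6,3,3]) O) O) O) (U [2,4,7,10,5,5])) (U [1,2,3,5,2,5])) (U [1,2,4,7,5,5]))) (S 3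 4 2 (X 3 (X 4 (V []) (U [2,4,6,9,6,3])) (U [2,4,7,10,5,5])) (U [2,4,7,10,5]))) (S 4 3 2 (S 3 4 1 (X 3 (X 4 (V []) (U [3,6,9,13,17,8])) (U [1,2,3,5,5,2])) (U [1,2,4,8,7])) (U [1,2,3,5,7])))) (A 3 4 (S 4 2 1 (S 2 4 1 (X 2 (X 3 (X 4 (V []) (S 5 4 1 (S 4 5 1 (X 4 (X 5 (V [3,6,8,4,6,3]) O) O) (U [2,4,6,3,6,3])) (U [2,4,6,3,6,6]))) (A 4 5 (S 5 3 1 (S 3 5 1 (X 3 (X 4 (X 5 (V [3,6,8,6,4,3]) O) O) O) (U [2,4,6,6,3,3])) (U [2,4,6,6,3,6])) (U [1,2,4,3,3,3]))) (U [3,6,10,5,5,5])) (U [3,6,10,5,5])) (U [3,6,10,5,10])) (U [1,2,4,3,3]))) (S 2 3 2 (X 2 (X 3 (V []) (U [1,2,3,2,1])) (U [3,6,10,5,5])) (U [3,6,10,5]))) (S 3 2 2 (S 2 3 1 (X 2 (X 3 (V []) (U [1,2,3,4,2])) (U [3,6,10,10,5])) (U [1,2,4,4])) (U [2,4,7,10]))))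 (A 2 3 (S 3 1 1 (S 1 3 1 (X 1 (X 2 (X 3 (V []) (S 4 3 1 (S 3 4 1 (X 3 (X 4 (V []) (S 5 4 1 (S 4 5 1 (X 4 (X 5 (V [3,6,3,5,4,2]) O) O) (D 4 [5,4,3,1,0,2] [1,2,1,2,2,1])) (D 5 [5,4,3,1,0,2] [1,2,1,2,2,2]))) (D 6 [0,2,1,3,4,5] [1,2,1,2,1,1])) (U [1,2,1,2,1])) (U [1,2,1,2,2]))) (A 3 4 (S 4 2 1 (S 2 4 1 (X 2 (X 3 (X 4 (V []) (S 5 4 1 (S 4 5 1 (X 4 (X 5 (V [3,6,5,3,4,2]) O) O) (D 4 [5,4,2,1,0,3] [1,2,2,1,2,1])) (D 5 [5,4,2,1,0,3] [1,2,2,1,2,2]))) (A 4 5 (S 5 3 1 (S 3 5 1 (X 3 (X 4 (X 5 (V [4,8,6,6,3,3]) O) O) O) (U [3,6,4,6,2,3])) (U [3,6,4,6,2,6])) (U [1,2,2,2,2,2]))) (D 6 [0,3,1,2,4,5] [1,2,2,1,1,1])) (U [1,2,2,1,1])) (U [1,2,2,1,2])) (U [1,2,2,2,2]))) (U [1,2,1,1,1])) (U [1,2,1,1])) (U [1,2,1,2]))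 (U [1,2,2,2]))) (S 1 2 2 (X 1 (X 2 (V []) (S 3 2 1 (S 2 3 1 (X 2 (X 3 (V []) (U [2,4,3,2,1])) (U [2,5,4,2,2])) (U [2,5,4,2])) (U [1,2,2,2]))) (U [1,2,1,1])) (U [1,2,1]))) (S 2 1 2 (S 1 2 1 (X 1 (X 2 (V []) (S 3 2 1 (S 2 3 1 (X 2 (X 3 (V []) (U [1,2,3,2,1])) (U [1,2,4,2,2])) (U [1,2,4,2])) (U [2,4,7,7]))) (U [1,2,2,1])) (U [1,2,2])) (U [1,2,3])))) (A 1 2 (S 2 0 1 (S 0 2 1 (X 0 (X 1 (X 2 (V []) (S 3 2 1 (S 2 3 1 (X 2 (X 3 (V []) (S 4 3 1 (S 3 4 1 (X 3 (X 4 (V []) (S 5 4 1 (S 4 5 1 (X 4 (X 5 (V [2,1,2,2,2,1]) O) O) (S 4 5 2 (X 4 (X 5 (V [6,3,8,10,11,6]) O) O) (U [2,1,3,5,8,4]))) (S 5 4 2 (S 4 5 1 (X 4 (X 5 (V [6,3,8,10,11,12]) O) O) (U [2,1,4,8,13,12])) (U [2,1,3,5,8,11])))) (A 4 5 (S 5 3 1 (S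 3 5 1 (X 3 (X 4 (X 5 (V [4,2,5,6,3,3]) O) O) O) (U [4,2,7,10,5,5])) (U [2,1,3,5,2,5])) (U [2,1,4,7,5,5]))) (S 3 4 2 (X 3 (X 4 (V []) (U [4,2,6,9,6,3])) (U [4,2,7,10,5,5])) (U [4,2,7,10,5]))) (S 4 3 2 (S 3 4 1 (X 3 (X 4 (V []) (U [6,3,9,13,17,8])) (U [2,1,3,5,5,2])) (U [2,1,4,8,7])) (U [2,1,3,5,7])))) (A 3 4 (S 4 2 1 (S 2 4 1 (X 2 (X 3 (X 4 (V []) (S 5 4 1 (S 4 5 1 (X 4 (X 5 (V [6,3,8,4,6,3]) O) O) (U [4,2,6,3,6,3])) (U [4,2,6,3,6,6]))) (A 4 5 (S 5 3 1 (S 3 5 1 (X 3 (X 4 (X 5 (V [6,3,8,6,4,3]) O) O) O) (U [4,2,6,6,3,3])) (U [4,2,6,6,3,6])) (U [2,1,4,3,3,3]))) (U [6,3,10,5,5,5])) (U [6,3,10,5,5])) (U [6,3,10,5,10])) (U [2,1,4,3,3]))) (S 2 3 2 (X 2 (X 3 (V []) (U [2,1,3,2,1])) (U [6,3,10,5,5]))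 (U [6,3,10,5]))) (S 3 2 2 (S 2 3 1 (X 2 (X 3 (V []) (U [2,1,3,4,2])) (U [6,3,10,10,5])) (U [2,1,4,4])) (U [4,2,7,10])))) (A 2 3 (S 3 1 1 (S 1 3 1 (X 1 (X 2 (X 3 (V []) (S 4 3 1 (S 3 4 1 (X 3 (X 4 (V []) (S 5 4 1 (S 4 5 1 (X 4 (X 5 (V [2,2,1,2,2,1]) O) O) (S 4 5 2 (X 4 (X 5 (V [6,8,3,10,11,6]) O) O) (U [2,3,1,5,8,4]))) (S 5 4 2 (S 4 5 1 (X 4 (X 5 (V [6,8,3,10,11,12]) O) O) (U [2,4,1,8,13,12])) (U [2,3,1,5,8,11])))) (A 4 5 (S 5 3 1 (S 3 5 1 (X 3 (X 4 (X 5 (V [4,5,2,6,3,3]) O) O) O) (U [4,7,2,10,5,5])) (U [2,3,1,5,2,5])) (U [2,4,1,7,5,5]))) (S 3 4 2 (X 3 (X 4 (V []) (U [4,6,2,9,6,3])) (U [4,7,2,10,5,5])) (U [4,7,2,10,5]))) (S 4 3 2 (S 3 4 1 (X 3 (X 4 (V []) (U [6,9,3,13,17,8])) (U [2,3,1,5,5,2]))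 (U [2,4,1,8,7])) (U [2,3,1,5,7])))) (A 3 4 (S 4 2 1 (S 2 4 1 (X 2 (X 3 (X 4 (V []) (S 5 4 1 (S 4 5 1 (X 4 (X 5 (V [2,2,2,1,2,1]) O) O) (S 4 5 2 (X 4 (X 5 (V [8,6,10,3,11,6]) O) O) (U [3,2,5,1,8,4]))) (S 5 4 2 (S 4 5 1 (X 4 (X 5 (V [8,6,10,3,11,12]) O) O) (U [4,2,8,1,13,12])) (U [3,2,5,1,8,11])))) (A 4 5 (S 5 3 1 (S 3 5 1 (X 3 (X 4 (X 5 (V [2,2,2,2,1,1]) O) O) O) (S 3 5 2 (X 3 (X 4 (X 5 (V [8,10,6,11,3,6]) O) O) O) (U [3,5,2,8,1,4]))) (S 5 3 2 (S 3 5 1 (X 3 (X 4 (X 5 (V [8,10,6,11,3,12]) O) O) O) (U [4,8,2,13,1,12])) (U [3,5,2,8,1,11]))) (D 0 [0,1,3,5,4,2] [1,1,1,1,1,1]))) (A 3 5 (A 4 5 (S 5 2 1 (S 2 5 1 (X 2 (X 3 (X 4 (X 5 (V [5,4,6,2,3,3]) O) O) O) O) (U [7,4,10,2,5,5])) (U [3,2,5,1,2,5]))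 (U [4,2,7,1,5,5])) (U [2,2,2,2,1,2]))) (S 2 4 2 (X 2 (X 3 (X 4 (V []) (U [6,4,9,2,6,3])) (A 4 5 (S 5 3 1 (S 3 5 1 (X 3 (X 4 (X 5 (V [10,8,11,6,6,3]) O) O) O) (D 3 [4,2,0,1,3,5] [2,2,2,2,1,1])) (D 1 [5,3,1,0,2,4] [2,2,2,2,1,2])) (U [3,2,4,2,3,2]))) (U [7,4,10,2,5,5])) (U [7,4,10,2,5]))) (S 4 2 2 (S 2 4 1 (X 2 (X 3 (X 4 (V []) (U [9,6,13,3,17,8])) (A 4 5 (S 5 3 1 (S 3 5 1 (X 3 (X 4 (X 5 (V [10,8,11,6,12,3]) O) O) O) (D 1 [4,2,0,1,3,5] [2,2,2,2,2,1])) (D 2 [4,2,0,1,3,5] [1,1,1,1,1,1])) (U [2,2,3,2,4,3]))) (U [3,2,5,1,5,2])) (U [4,2,8,1,7])) (U [3,2,5,1,7]))) (U [1,1,1,1,1]))) (A 2 4 (A 3 4 (S 4 1 1 (S 1 4 1 (X 1 (X 2 (X 3 (X 4 (V []) (S 5 4 1 (S 4 5 1 (X 4 (X 5 (V [6,8,3,4,6,3]) O) O) (U [4,6,2,3,6,3]))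 (U [4,6,2,3,6,6]))) (A 4 5 (S 5 3 1 (S 3 5 1 (X 3 (X 4 (X 5 (V [6,8,3,6,4,3]) O) O) O) (U [4,6,2,6,3,3])) (U [4,6,2,6,3,6])) (U [2,4,1,3,3,3]))) (A 3 5 (A 4 5 (S 5 2 1 (S 2 5 1 (X 2 (X 3 (X 4 (X 5 (V [5,6,4,3,3,2]) O) O) O) O) (D 4 [5,2,0,1,3,4] [2,2,2,1,1,1])) (D 5 [5,2,0,1,3,4] [2,2,2,1,1,2])) (U [2,2,2,1,2,2])) (U [2,2,2,2,1,2]))) (U [6,10,3,5,5,5])) (U [6,10,3,5,5])) (U [6,10,3,5,10])) (U [2,4,1,3,3])) (U [2,2,2,1,2]))) (S 1 3 2 (X 1 (X 2 (X 3 (V []) (U [2,3,1,2,1])) (A 3 4 (S 4 2 1 (S 2 4 1 (X 2 (X 3 (X 4 (V []) (S 5 4 1 (S 4 5 1 (X 4 (X 5 (V [10,11,8,6,6,3]) O) O) (D 3 [3,1,0,2,4,5] [2,2,2,1,2,1])) (D 1 [5,4,2,0,1,3] [2,2,2,1,2,2]))) (U [6,9,4,6,2,3])) (D 4 [3,1,0,2,4,5] [2,2,2,1,1,1]))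 (U [2,2,2,1,1])) (U [2,2,2,1,2])) (U [2,3,2,2,2]))) (U [6,10,3,5,5])) (U [6,10,3,5]))) (S 3 1 2 (S 1 3 1 (X 1 (X 2 (X 3 (V []) (U [2,3,1,4,2])) (A 3 4 (S 4 2 1 (S 2 4 1 (X 2 (X 3 (X 4 (V []) (S 5 4 1 (S 4 5 1 (X 4 (X 5 (V [10,11,8,12,6,3]) O) O) (D 1 [3,1,0,2,4,5] [2,2,2,2,2,1])) (D 2 [3,1,0,2,4,5] [1,1,1,1,1,1]))) (U [9,13,6,17,3,8])) (D 5 [3,1,0,2,4,5] [2,2,2,2,1,1])) (U [2,2,2,2,1])) (U [1,1,1,1,1])) (U [2,2,2,3,2]))) (U [6,10,3,10,5])) (U [2,4,1,4])) (U [4,7,2,10]))) (U [1,1,1,1]))) (A 1 3 (A 2 3 (S 3 0 1 (S 0 3 1 (X 0 (X 1 (X 2 (X 3 (V []) (S 4 3 1 (S 3 4 1 (X 3 (X 4 (V []) (S 5 4 1 (S 4 5 1 (X 4 (X 5 (V [6,3,3,5,4,2]) O) O) (D 4 [5,4,3,0,1,2] [2,1,1,2,2,1])) (D 5 [5,4,3,0,1,2] [2,1,1,2,2,2])))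 (D 6 [1,2,0,3,4,5] [2,1,1,2,1,1])) (U [2,1,1,2,1])) (U [2,1,1,2,2]))) (A 3 4 (S 4 2 1 (S 2 4 1 (X 2 (X 3 (X 4 (V []) (S 5 4 1 (S 4 5 1 (X 4 (X 5 (V [6,3,5,3,4,2]) O) O) (D 4 [5,4,2,0,1,3] [2,1,2,1,2,1])) (D 5 [5,4,2,0,1,3] [2,1,2,1,2,2]))) (A 4 5 (S 5 3 1 (S 3 5 1 (X 3 (X 4 (X 5 (V [8,4,6,6,3,3]) O) O) O) (U [6,3,4,6,2,3])) (U [6,3,4,6,2,6])) (U [2,1,2,2,2,2]))) (D 6 [1,3,0,2,4,5] [2,1,2,1,1,1])) (U [2,1,2,1,1])) (U [2,1,2,1,2])) (U [2,1,2,2,2]))) (A 2 4 (A 3 4 (S 4 1 1 (S 1 4 1 (X 1 (X 2 (X 3 (X 4 (V []) (S 5 4 1 (S 4 5 1 (X 4 (X 5 (V [6,5,3,3,4,2]) O) O) (D 4 [5,4,1,0,2,3] [2,2,1,1,2,1])) (D 5 [5,4,1,0,2,3] [2,2,1,1,2,2]))) (A 4 5 (S 5 3 1 (S 3 5 1 (X 3 (X 4 (X 5 (V [8,6,4,6,3,3]) O) O)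 O) (U [6,4,3,6,2,3])) (U [6,4,3,6,2,6])) (U [2,2,1,2,2,2]))) (A 3 5 (A 4 5 (S 5 2 1 (S 2 5 1 (X 2 (X 3 (X 4 (X 5 (V [8,6,6,4,3,3]) O) O) O) O) (U [6,4,6,3,2,3])) (U [6,4,6,3,2,6])) (U [2,2,2,1,2,2])) (U [4,2,3,3,1,3]))) (D 6 [2,3,0,1,4,5] [2,2,1,1,1,1])) (U [2,2,1,1,1])) (U [2,2,1,1,2])) (U [2,2,1,2,2])) (U [2,2,2,1,2]))) (U [2,1,1,1,1])) (U [2,1,1,1])) (U [2,1,1,2])) (U [2,1,2,2])) (U [2,2,1,2]))) (S 0 2 2 (X 0 (X 1 (X 2 (V []) (S 3 2 1 (S 2 3 1 (X 2 (X 3 (V []) (U [4,2,3,2,1])) (U [5,2,4,2,2])) (U [5,2,4,2])) (U [2,1,2,2]))) (A 2 3 (S 3 1 1 (S 1 3 1 (X 1 (X 2 (X 3 (V []) (S 4 3 1 (S 3 4 1 (X 3 (X 4 (V []) (S 5 4 1 (S 4 5 1 (X 4 (X 5 (V [11,10,6,8,6,3]) O) O) (D 3 [2,0,1,3,4,5] [2,2,1,2,2,1]))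 (D 1 [5,4,3,1,0,2] [2,2,1,2,2,2]))) (D 4 [2,0,1,3,4,5] [2,2,1,2,1,1])) (U [2,2,1,2,1])) (U [2,2,1,2,2]))) (U [3,2,2,1,1])) (U [2,2,1,1,1])) (U [2,2,1,1])) (U [2,2,1,2])) (U [1,1,1,1]))) (U [2,1,1,1])) (U [2,1,1]))) (S 2 0 2 (S 0 2 1 (X 0 (X 1 (X 2 (V []) (S 3 2 1 (S 2 3 1 (X 2 (X 3 (V []) (U [2,1,3,2,1])) (U [2,1,4,2,2])) (U [2,1,4,2])) (U [4,2,7,7]))) (A 2 3 (S 3 1 1 (S 1 3 1 (X 1 (X 2 (X 3 (V []) (S 4 3 1 (S 3 4 1 (X 3 (X 4 (V []) (S 5 4 1 (S 4 5 1 (X 4 (X 5 (V [11,10,12,8,6,3]) O) O) (D 1 [2,0,1,3,4,5] [2,2,2,2,2,1])) (D 2 [2,0,1,3,4,5] [1,1,1,1,1,1]))) (D 5 [2,0,1,3,4,5] [2,2,2,2,1,1])) (U [2,2,2,2,1])) (U [1,1,1,1,1]))) (U [3,2,4,1,2])) (U [2,2,2,1,1])) (U [2,2,2,1])) (U [1,1,1,1])) (U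 [1,1,1,1]))) (U [2,1,2,1])) (U [2,1,2])) (U [2,1,3]))) (U [1,1,1]))) (S 0 1 2 (X 0 (X 1 (V []) (S 2 1 1 (S 1 2 1 (X 1 (X 2 (V []) (S 3 2 1 (S 2 3 1 (X 2 (X 3 (V []) (S 4 3 1 (S 3 4 1 (X 3 (X 4 (V []) (S 5 4 1 (S 4 5 1 (X 4 (X 5 (V [12,11,10,8,6,3]) O) O) (D 1 [0,1,2,3,4,5] [2,2,2,2,2,1])) (D 2 [0,1,2,3,4,5] [1,1,1,1,1,1]))) (D 5 [0,1,2,3,4,5] [2,2,2,2,1,1])) (U [2,2,2,2,1])) (U [1,1,1,1,1]))) (U [2,2,2,1,1])) (U [2,2,2,1])) (U [1,1,1,1]))) (U [2,2,1,1])) (U [2,2,1])) (U [1,1,1]))) (A 1 2 (S 2 0 1 (S 0 2 1 (X 0 (X 1 (X 2 (V []) (S 3 2 1 (S 2 3 1 (X 2 (X 3 (V []) (S 4 3 1 (S 3 4 1 (X 3 (X 4 (V []) (S 5 4 1 (S 4 5 1 (X 4 (X 5 (V [11,6,10,8,6,3]) O) O) (D 3 [1,0,2,3,4,5] [2,1,2,2,2,1])) (D 1 [5,4,3,2,0,1]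 [2,1,2,2,2,2]))) (D 4 [1,0,2,3,4,5] [2,1,2,2,1,1])) (U [2,1,2,2,1])) (U [2,1,2,2,2]))) (U [2,1,2,1,1])) (U [2,1,2,1])) (U [2,1,2,2]))) (A 2 3 (S 3 1 1 (S 1 3 1 (X 1 (X 2 (X 3 (V []) (U [4,3,2,2,1])) (U [3,2,2,1,1])) (U [5,4,2,2,2])) (U [5,4,2,2])) (U [2,2,1,2])) (U [1,1,1,1]))) (U [2,1,1,1])) (U [2,1,1])) (U [2,1,2])) (U [1,1,1]))) (S 0 1 3 (X 0 (X 1 (V []) (U [3,2,1])) (U [2,1,1])) (U [2,1])))) (S 1 0 2 (S 0 1 1 (X 0 (X 1 (V []) (S 2 1 1 (S 1 2 1 (X 1 (X 2 (V []) (S 3 2 1 (S 2 3 1 (X 2 (X 3 (V []) (S 4 3 1 (S 3 4 1 (X 3 (X 4 (V []) (S 5 4 1 (S 4 5 1 (X 4 (X 5 (V [6,11,10,8,6,3]) O) O) (D 3 [0,1,2,3,4,5] [1,2,2,2,2,1])) (D 1 [5,4,3,2,1,0] [1,2,2,2,2,2]))) (D 4 [0,1,2,3,4,5] [1,2,2,2,1,1]))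 (U [1,2,2,2,1])) (U [1,2,2,2,2]))) (U [1,2,2,1,1])) (U [1,2,2,1])) (U [1,2,2,2]))) (U [1,2,1,1])) (U [1,2,1])) (U [1,2,2]))) (A 1 2 (S 2 0 1 (S 0 2 1 (X 0 (X 1 (X 2 (V []) (S 3 2 1 (S 2 3 1 (X 2 (X 3 (V []) (S 4 3 1 (S 3 4 1 (X 3 (X 4 (V []) (S 5 4 1 (S 4 5 1 (X 4 (X 5 (V [11,12,10,8,6,3]) O) O) (D 1 [1,0,2,3,4,5] [2,2,2,2,2,1])) (D 2 [1,0,2,3,4,5] [1,1,1,1,1,1]))) (D 5 [1,0,2,3,4,5] [2,2,2,2,1,1])) (U [2,2,2,2,1])) (U [1,1,1,1,1]))) (U [2,2,2,1,1])) (U [2,2,2,1])) (U [1,1,1,1]))) (A 2 3 (S 3 1 1 (S 1 3 1 (X 1 (X 2 (X 3 (V []) (U [2,3,1,2,1])) (U [3,4,2,2,1])) (U [2,4,1,2,2])) (U [2,4,1,2])) (U [4,7,2,7])) (U [1,1,1,1]))) (U [2,2,1,1])) (U [2,2,1])) (U [1,1,1])) (U [1,1,1]))) (U [1,1])) (S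 1 0 3 (S 0 1 1 (X 0 (X 1 (V []) (U [1,2,1])) (U [2,3,1])) (U [1,1])) (U [1,2]))))

theorem tree6_ok : check 6 forms6 tree6 1 [] = true := by decide +kernel

theorem main6 (T : Models.NumericalType 6) (hd : ∀ i, T.a i i = -2 * T.w i) :
    Concl T forms6 := main T hd forms6 tree6 tree6_ok

end Groth.Agent.Lib.G1
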