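import Groth.Agent.Lib.G1n9_lead

/-! Translation of the abstract classification on 9 indices to the literal statement (generated; lead). -/

set_option autoImplicit false
set_option maxHeartbeats 1600000

namespace Groth.Agent.Lib.G1

open Models

lemma row9 (T : NumericalType 9) (σ : Equiv.Perm (Fin 9)) (i : Fin 9) :
    cc T (σ i) (σ 0) * T.m (σ 0) + cc T (σ i) (σ 1) * T.m (σ 1) + cc T (σ i) (σ 2) * T.m (σ 2) + cc T (σ i) (σ 3) * T.m (σ 3) + cc T (σ i) (σ 4) * T.m (σ 4) + cc T (σ i) (σ 5) * T.m (σ 5) + cc T (σ i) (σ 6) * T.m (σ 6) + cc T (σ i) (σ 7) * T.m (σ 7) + cc T (σ i) (σ 8) * T.m (σ 8) = 0 := by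
  have := rowσ T σ i; rw [Fin.sum_univ_castSucc, Fin.sum_univ_eight] at this; exact this

theorem form9_0 (T : NumericalType 9) (hd : ∀ i, T.a i i = -2 * T.w i)
    (σ : Equiv.Perm (Fin 9))
    (hC : ∀ i j : Fin 9, i ≠ j → cc T (σ i) (σ j) = (E forms9 0 i j : ℤ)) :
    ∃ (σ : Equiv.Perm (Fin 9)) (m w : ℤ),
      ((T.m (σ 0) = m ∧ T.m (σ 1) = m ∧ T.m (σ 2) = m ∧ T.m (σ 3) = m ∧ T.m (σ 4) = m ∧ T.m (σ 5) = m ∧ T.m (σ 6) = m ∧ T.m (σ 7) = m ∧ T.m (σ 8) = m ∧ T.w (σ 0) = w ∧ T.w (σ 1) = w ∧ T.w (σ 2) = w ∧ T.w (σ 3) = w ∧ T.w (σ 4) = w ∧ T.w (σ 5) = w ∧ T.w (σ 6) = w ∧ T.w (σ 7) = w ∧ T.w (σ 8) = w ∧ T.a (σ 0) (σ 0) = -2 * w ∧ T.a (σ 0) (σ 1) = w ∧ T.a (σ 0) (σ 2) = 0 ∧ T.a (σ 0) (σ 3) = 0 ∧ T.a (σ 0)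 (σ 4) = 0 ∧ T.a (σ 0) (σ 5) = 0 ∧ T.a (σ 0) (σ 6) = 0 ∧ T.a (σ 0) (σ 7) = 0 ∧ T.a (σ 0) (σ 8) = w ∧ T.a (σ 1) (σ 1) = -2 * w ∧ T.a (σ 1) (σ 2) = w ∧ T.a (σ 1) (σ 3) = 0 ∧ T.a (σ 1) (σ 4) = 0 ∧ T.a (σ 1) (σ 5) = 0 ∧ T.a (σ 1) (σ 6) = 0 ∧ T.a (σ 1) (σ 7) = 0 ∧ T.a (σ 1) (σ 8) = 0 ∧ T.a (σ 2) (σ 2) = -2 * w ∧ T.a (σ 2) (σ 3) = w ∧ T.a (σ 2) (σ 4) = 0 ∧ T.a (σ 2) (σ 5) = 0 ∧ T.a (σ 2) (σ 6) = 0 ∧ T.a (σ 2) (σ 7) = 0 ∧ T.a (σ 2) (σ 8) = 0 ∧ T.a (σ 3) (σ 3) = -2 * w ∧ T.a (σ 3) (σ 4) = w ∧ T.a (σ 3) (σ 5) = 0 ∧ T.a (σ 3) (σ 6) = 0 ∧ T.a (σ 3) (σ 7) = 0 ∧ T.a (σ 3) (σ 8) = 0 ∧ T.a (σ 4) (σ 4) = -2 * w ∧ T.a (σ 4) (σ 5) = w ∧ T.a (σ 4) (σ 6) = 0 ∧ T.a (σ 4) (σ 7) = 0 ∧ T.a (σ 4) (σ 8) = 0 ∧ T.a (σ 5) (σ 5)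 = -2 * w ∧ T.a (σ 5) (σ 6) = w ∧ T.a (σ 5) (σ 7) = 0 ∧ T.a (σ 5) (σ 8) = 0 ∧ T.a (σ 6) (σ 6) = -2 * w ∧ T.a (σ 6) (σ 7) = w ∧ T.a (σ 6) (σ 8) = 0 ∧ T.a (σ 7) (σ 7) = -2 * w ∧ T.a (σ 7) (σ 8) = w ∧ T.a (σ 8) (σ 8) = -2 * w) ∨
      (T.m (σ 0) = 2 * m ∧ T.m (σ 1) = 2 * m ∧ T.m (σ 2) = 2 * m ∧ T.m (σ 3) = 2 * m ∧ T.m (σ 4) = 2 * m ∧ T.m (σ 5) = 2 * m ∧ T.m (σ 6) = 2 * m ∧ T.m (σ 7) = 2 * m ∧ T.m (σ 8) = m ∧ T.w (σ 0) = w ∧ T.w (σ 1) = 2 * w ∧ T.w (σ 2) = 2 * w ∧ T.w (σ 3) = 2 * w ∧ T.w (σ 4) = 2 * w ∧ T.w (σ 5) = 2 * w ∧ T.w (σ 6) = 2 * w ∧ T.w (σ 7) = 2 * w ∧ T.w (σ 8) = 4 * w ∧ T.a (σ 0) (σ 0) = -2 * w ∧ T.a (σ 0) (σ 1) = 2 * w ∧ T.a (σ 0) (σ 2) = 0 ∧ T.a (σ 0) (σ 3) = 0 ∧ T.a (σ 0) (σ 4) = 0 ∧ T.a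 (σ 0) (σ 5) = 0 ∧ T.a (σ 0) (σ 6) = 0 ∧ T.a (σ 0) (σ 7) = 0 ∧ T.a (σ 0) (σ 8) = 0 ∧ T.a (σ 1) (σ 1) = -4 * w ∧ T.a (σ 1) (σ 2) = 2 * w ∧ T.a (σ 1) (σ 3) = 0 ∧ T.a (σ 1) (σ 4) = 0 ∧ T.a (σ 1) (σ 5) = 0 ∧ T.a (σ 1) (σ 6) = 0 ∧ T.a (σ 1) (σ 7) = 0 ∧ T.a (σ 1) (σ 8) = 0 ∧ T.a (σ 2) (σ 2) = -4 * w ∧ T.a (σ 2) (σ 3) = 2 * w ∧ T.a (σ 2) (σ 4) = 0 ∧ T.a (σ 2) (σ 5) = 0 ∧ T.a (σ 2) (σ 6) = 0 ∧ T.a (σ 2) (σ 7) = 0 ∧ T.a (σ 2) (σ 8) = 0 ∧ T.a (σ 3) (σ 3) = -4 * w ∧ T.a (σ 3) (σ 4) = 2 * w ∧ T.a (σ 3) (σ 5) = 0 ∧ T.a (σ 3) (σ 6) = 0 ∧ T.a (σ 3) (σ 7) = 0 ∧ T.a (σ 3) (σ 8) = 0 ∧ T.a (σ 4) (σ 4) = -4 * w ∧ T.a (σ 4) (σ 5) = 2 * w ∧ T.a (σ 4) (σ 6) = 0 ∧ T.a (σ 4) (σ 7) = 0 ∧ T.a (σ 4) (σ 8) = 0 ∧ T.a (σ 5) (σ 5)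 = -4 * w ∧ T.a (σ 5) (σ 6) = 2 * w ∧ T.a (σ 5) (σ 7) = 0 ∧ T.a (σ 5) (σ 8) = 0 ∧ T.a (σ 6) (σ 6) = -4 * w ∧ T.a (σ 6) (σ 7) = 2 * w ∧ T.a (σ 6) (σ 8) = 0 ∧ T.a (σ 7) (σ 7) = -4 * w ∧ T.a (σ 7) (σ 8) = 4 * w ∧ T.a (σ 8) (σ 8) = -8 * w) ∨
      (T.m (σ 0) = m ∧ T.m (σ 1) = m ∧ T.m (σ 2) = m ∧ T.m (σ 3) = m ∧ T.m (σ 4) = m ∧ T.m (σ 5) = m ∧ T.m (σ 6) = m ∧ T.m (σ 7) = m ∧ T.m (σ 8) = m ∧ T.w (σ 0) = w ∧ T.w (σ 1) = 2 * w ∧ T.w (σ 2) = 2 * w ∧ T.w (σ 3) = 2 * w ∧ T.w (σ 4) = 2 * w ∧ T.w (σ 5) = 2 * w ∧ T.w (σ 6) = 2 * w ∧ T.w (σ 7) = 2 * w ∧ T.w (σ 8) = w ∧ T.a (σ 0) (σ 0) = -2 * w ∧ T.a (σ 0) (σ 1) = 2 * w ∧ T.a (σ 0) (σ 2) = 0 ∧ T.a (σ 0) (σ 3) = 0 ∧ T.a (σ 0) (σ 4) = 0 ∧ T.a (σ 0) (σ 5) = 0 ∧ T.a (σ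 0) (σ 6) = 0 ∧ T.a (σ 0) (σ 7) = 0 ∧ T.a (σ 0) (σ 8) = 0 ∧ T.a (σ 1) (σ 1) = -4 * w ∧ T.a (σ 1) (σ 2) = 2 * w ∧ T.a (σ 1) (σ 3) = 0 ∧ T.a (σ 1) (σ 4) = 0 ∧ T.a (σ 1) (σ 5) = 0 ∧ T.a (σ 1) (σ 6) = 0 ∧ T.a (σ 1) (σ 7) = 0 ∧ T.a (σ 1) (σ 8) = 0 ∧ T.a (σ 2) (σ 2) = -4 * w ∧ T.a (σ 2) (σ 3) = 2 * w ∧ T.a (σ 2) (σ 4) = 0 ∧ T.a (σ 2) (σ 5) = 0 ∧ T.a (σ 2) (σ 6) = 0 ∧ T.a (σ 2) (σ 7) = 0 ∧ T.a (σ 2) (σ 8) = 0 ∧ T.a (σ 3) (σ 3) = -4 * w ∧ T.a (σ 3) (σ 4) = 2 * w ∧ T.a (σ 3) (σ 5) = 0 ∧ T.a (σ 3) (σ 6) = 0 ∧ T.a (σ 3) (σ 7) = 0 ∧ T.a (σ 3) (σ 8) = 0 ∧ T.a (σ 4) (σ 4) = -4 * w ∧ T.a (σ 4) (σ 5) = 2 * w ∧ T.a (σ 4) (σ 6) = 0 ∧ T.a (σ 4) (σ 7) = 0 ∧ T.a (σ 4) (σ 8) = 0 ∧ T.a (σ 5) (σ 5) = -4 * w ∧ T.a (σ 5) (σ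 6) = 2 * w ∧ T.a (σ 5) (σ 7) = 0 ∧ T.a (σ 5) (σ 8) = 0 ∧ T.a (σ 6) (σ 6) = -4 * w ∧ T.a (σ 6) (σ 7) = 2 * w ∧ T.a (σ 6) (σ 8) = 0 ∧ T.a (σ 7) (σ 7) = -4 * w ∧ T.a (σ 7) (σ 8) = 2 * w ∧ T.a (σ 8) (σ 8) = -2 * w) ∨
      (T.m (σ 0) = m ∧ T.m (σ 1) = 2 * m ∧ T.m (σ 2) = 2 * m ∧ T.m (σ 3) = 2 * m ∧ T.m (σ 4) = 2 * m ∧ T.m (σ 5) = 2 * m ∧ T.m (σ 6) = 2 * m ∧ T.m (σ 7) = 2 * m ∧ T.m (σ 8) = m ∧ T.w (σ 0) = 2 * w ∧ T.w (σ 1) = w ∧ T.w (σ 2) = w ∧ T.w (σ 3) = w ∧ T.w (σ 4) = w ∧ T.w (σ 5) = w ∧ T.w (σ 6) = w ∧ T.w (σ 7) = w ∧ T.w (σ 8) = 2 * w ∧ T.a (σ 0) (σ 0) = -4 * w ∧ T.a (σ 0) (σ 1) = 2 * w ∧ T.a (σ 0) (σ 2) = 0 ∧ T.a (σ 0) (σ 3) = 0 ∧ T.a (σ 0) (σ 4) = 0 ∧ T.a (σ 0) (σ 5) = 0 ∧ T.a (σ 0) (σ 6) = 0 ∧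 T.a (σ 0) (σ 7) = 0 ∧ T.a (σ 0) (σ 8) = 0 ∧ T.a (σ 1) (σ 1) = -2 * w ∧ T.a (σ 1) (σ 2) = w ∧ T.a (σ 1) (σ 3) = 0 ∧ T.a (σ 1) (σ 4) = 0 ∧ T.a (σ 1) (σ 5) = 0 ∧ T.a (σ 1) (σ 6) = 0 ∧ T.a (σ 1) (σ 7) = 0 ∧ T.a (σ 1) (σ 8) = 0 ∧ T.a (σ 2) (σ 2) = -2 * w ∧ T.a (σ 2) (σ 3) = w ∧ T.a (σ 2) (σ 4) = 0 ∧ T.a (σ 2) (σ 5) = 0 ∧ T.a (σ 2) (σ 6) = 0 ∧ T.a (σ 2) (σ 7) = 0 ∧ T.a (σ 2) (σ 8) = 0 ∧ T.a (σ 3) (σ 3) = -2 * w ∧ T.a (σ 3) (σ 4) = w ∧ T.a (σ 3) (σ 5) = 0 ∧ T.a (σ 3) (σ 6) = 0 ∧ T.a (σ 3) (σ 7) = 0 ∧ T.a (σ 3) (σ 8) = 0 ∧ T.a (σ 4) (σ 4) = -2 * w ∧ T.a (σ 4) (σ 5) = w ∧ T.a (σ 4) (σ 6) = 0 ∧ T.a (σ 4) (σ 7) = 0 ∧ T.a (σ 4) (σ 8) = 0 ∧ T.a (σ 5) (σ 5) = -2 * w ∧ T.a (σ 5) (σ 6) = w ∧ T.a (σ 5) (σ 7) = 0 ∧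 T.a (σ 5) (σ 8) = 0 ∧ T.a (σ 6) (σ 6) = -2 * w ∧ T.a (σ 6) (σ 7) = w ∧ T.a (σ 6) (σ 8) = 0 ∧ T.a (σ 7) (σ 7) = -2 * w ∧ T.a (σ 7) (σ 8) = 2 * w ∧ T.a (σ 8) (σ 8) = -4 * w) ∨
      (T.m (σ 0) = m ∧ T.m (σ 1) = 2 * m ∧ T.m (σ 2) = 2 * m ∧ T.m (σ 3) = 2 * m ∧ T.m (σ 4) = 2 * m ∧ T.m (σ 5) = 2 * m ∧ T.m (σ 6) = 2 * m ∧ T.m (σ 7) = m ∧ T.m (σ 8) = m ∧ T.w (σ 0) = 2 * w ∧ T.w (σ 1) = w ∧ T.w (σ 2) = w ∧ T.w (σ 3) = w ∧ T.w (σ 4) = w ∧ T.w (σ 5) = w ∧ T.w (σ 6) = w ∧ T.w (σ 7) = w ∧ T.w (σ 8) = w ∧ T.a (σ 0) (σ 0) = -4 * w ∧ T.a (σ 0) (σ 1) = 2 * w ∧ T.a (σ 0) (σ 2) = 0 ∧ T.a (σ 0) (σ 3) = 0 ∧ T.a (σ 0) (σ 4) = 0 ∧ T.a (σ 0) (σ 5) = 0 ∧ T.a (σ 0) (σ 6) = 0 ∧ T.a (σ 0) (σ 7) = 0 ∧ T.a (σ 0) (σ 8) = 0 ∧ T.a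 (σ 1) (σ 1) = -2 * w ∧ T.a (σ 1) (σ 2) = w ∧ T.a (σ 1) (σ 3) = 0 ∧ T.a (σ 1) (σ 4) = 0 ∧ T.a (σ 1) (σ 5) = 0 ∧ T.a (σ 1) (σ 6) = 0 ∧ T.a (σ 1) (σ 7) = 0 ∧ T.a (σ 1) (σ 8) = 0 ∧ T.a (σ 2) (σ 2) = -2 * w ∧ T.a (σ 2) (σ 3) = w ∧ T.a (σ 2) (σ 4) = 0 ∧ T.a (σ 2) (σ 5) = 0 ∧ T.a (σ 2) (σ 6) = 0 ∧ T.a (σ 2) (σ 7) = 0 ∧ T.a (σ 2) (σ 8) = 0 ∧ T.a (σ 3) (σ 3) = -2 * w ∧ T.a (σ 3) (σ 4) = w ∧ T.a (σ 3) (σ 5) = 0 ∧ T.a (σ 3) (σ 6) = 0 ∧ T.a (σ 3) (σ 7) = 0 ∧ T.a (σ 3) (σ 8) = 0 ∧ T.a (σ 4) (σ 4) = -2 * w ∧ T.a (σ 4) (σ 5) = w ∧ T.a (σ 4) (σ 6) = 0 ∧ T.a (σ 4) (σ 7) = 0 ∧ T.a (σ 4) (σ 8) = 0 ∧ T.a (σ 5) (σ 5) = -2 * w ∧ T.a (σ 5) (σ 6) = w ∧ T.a (σ 5) (σ 7) = 0 ∧ T.a (σ 5) (σ 8) = 0 ∧ T.a (σ 6) (σ 6) = -2 * w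 ∧ T.a (σ 6) (σ 7) = w ∧ T.a (σ 6) (σ 8) = w ∧ T.a (σ 7) (σ 7) = -2 * w ∧ T.a (σ 7) (σ 8) = 0 ∧ T.a (σ 8) (σ 8) = -2 * w) ∨
      (T.m (σ 0) = 2 * m ∧ T.m (σ 1) = 2 * m ∧ T.m (σ 2) = 2 * m ∧ T.m (σ 3) = 2 * m ∧ T.m (σ 4) = 2 * m ∧ T.m (σ 5) = 2 * m ∧ T.m (σ 6) = 2 * m ∧ T.m (σ 7) = m ∧ T.m (σ 8) = m ∧ T.w (σ 0) = w ∧ T.w (σ 1) = 2 * w ∧ T.w (σ 2) = 2 * w ∧ T.w (σ 3) = 2 * w ∧ T.w (σ 4) = 2 * w ∧ T.w (σ 5) = 2 * w ∧ T.w (σ 6) = 2 * w ∧ T.w (σ 7) = 2 * w ∧ T.w (σ 8) = 2 * w ∧ T.a (σ 0) (σ 0) = -2 * w ∧ T.a (σ 0) (σ 1) = 2 * w ∧ T.a (σ 0) (σ 2) = 0 ∧ T.a (σ 0) (σ 3) = 0 ∧ T.a (σ 0) (σ 4) = 0 ∧ T.a (σ 0) (σ 5) = 0 ∧ T.a (σ 0) (σ 6) = 0 ∧ T.a (σ 0) (σ 7) = 0 ∧ T.a (σ 0) (σ 8) = 0 ∧ T.a (σ 1) (σ 1) = -4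 * w ∧ T.a (σ 1) (σ 2) = 2 * w ∧ T.a (σ 1) (σ 3) = 0 ∧ T.a (σ 1) (σ 4) = 0 ∧ T.a (σ 1) (σ 5) = 0 ∧ T.a (σ 1) (σ 6) = 0 ∧ T.a (σ 1) (σ 7) = 0 ∧ T.a (σ 1) (σ 8) = 0 ∧ T.a (σ 2) (σ 2) = -4 * w ∧ T.a (σ 2) (σ 3) = 2 * w ∧ T.a (σ 2) (σ 4) = 0 ∧ T.a (σ 2) (σ 5) = 0 ∧ T.a (σ 2) (σ 6) = 0 ∧ T.a (σ 2) (σ 7) = 0 ∧ T.a (σ 2) (σ 8) = 0 ∧ T.a (σ 3) (σ 3) = -4 * w ∧ T.a (σ 3) (σ 4) = 2 * w ∧ T.a (σ 3) (σ 5) = 0 ∧ T.a (σ 3) (σ 6) = 0 ∧ T.a (σ 3) (σ 7) = 0 ∧ T.a (σ 3) (σ 8) = 0 ∧ T.a (σ 4) (σ 4) = -4 * w ∧ T.a (σ 4) (σ 5) = 2 * w ∧ T.a (σ 4) (σ 6) = 0 ∧ T.a (σ 4) (σ 7) = 0 ∧ T.a (σ 4) (σ 8) = 0 ∧ T.a (σ 5) (σ 5) = -4 * w ∧ T.a (σ 5) (σ 6) = 2 * w ∧ T.a (σ 5) (σ 7) = 0 ∧ T.a (σ 5) (σ 8) = 0 ∧ T.a (σ 6) (σ 6) = -4 *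 w ∧ T.a (σ 6) (σ 7) = 2 * w ∧ T.a (σ 6) (σ 8) = 2 * w ∧ T.a (σ 7) (σ 7) = -4 * w ∧ T.a (σ 7) (σ 8) = 0 ∧ T.a (σ 8) (σ 8) = -4 * w) ∨
      (T.m (σ 0) = m ∧ T.m (σ 1) = m ∧ T.m (σ 2) = 2 * m ∧ T.m (σ 3) = 2 * m ∧ T.m (σ 4) = 2 * m ∧ T.m (σ 5) = 2 * m ∧ T.m (σ 6) = 2 * m ∧ T.m (σ 7) = m ∧ T.m (σ 8) = m ∧ T.w (σ 0) = w ∧ T.w (σ 1) = w ∧ T.w (σ 2) = w ∧ T.w (σ 3) = w ∧ T.w (σ 4) = w ∧ T.w (σ 5) = w ∧ T.w (σ 6) = w ∧ T.w (σ 7) = w ∧ T.w (σ 8) = w ∧ T.a (σ 0) (σ 0) = -2 * w ∧ T.a (σ 0) (σ 1) = 0 ∧ T.a (σ 0) (σ 2) = w ∧ T.a (σ 0) (σ 3) = 0 ∧ T.a (σ 0) (σ 4) = 0 ∧ T.a (σ 0) (σ 5) = 0 ∧ T.a (σ 0) (σ 6) = 0 ∧ T.a (σ 0) (σ 7) = 0 ∧ T.a (σ 0) (σ 8) = 0 ∧ T.a (σ 1) (σ 1) = -2 * w ∧ T.a (σ 1) (σ 2) = w ∧ T.a (σ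 1) (σ 3) = 0 ∧ T.a (σ 1) (σ 4) = 0 ∧ T.a (σ 1) (σ 5) = 0 ∧ T.a (σ 1) (σ 6) = 0 ∧ T.a (σ 1) (σ 7) = 0 ∧ T.a (σ 1) (σ 8) = 0 ∧ T.a (σ 2) (σ 2) = -2 * w ∧ T.a (σ 2) (σ 3) = w ∧ T.a (σ 2) (σ 4) = 0 ∧ T.a (σ 2) (σ 5) = 0 ∧ T.a (σ 2) (σ 6) = 0 ∧ T.a (σ 2) (σ 7) = 0 ∧ T.a (σ 2) (σ 8) = 0 ∧ T.a (σ 3) (σ 3) = -2 * w ∧ T.a (σ 3) (σ 4) = w ∧ T.a (σ 3) (σ 5) = 0 ∧ T.a (σ 3) (σ 6) = 0 ∧ T.a (σ 3) (σ 7) = 0 ∧ T.a (σ 3) (σ 8) = 0 ∧ T.a (σ 4) (σ 4) = -2 * w ∧ T.a (σ 4) (σ 5) = w ∧ T.a (σ 4) (σ 6) = 0 ∧ T.a (σ 4) (σ 7) = 0 ∧ T.a (σ 4) (σ 8) = 0 ∧ T.a (σ 5) (σ 5) = -2 * w ∧ T.a (σ 5) (σ 6) = w ∧ T.a (σ 5) (σ 7) = 0 ∧ T.a (σ 5) (σ 8) = 0 ∧ T.a (σ 6) (σ 6) = -2 * w ∧ T.a (σ 6) (σ 7) = w ∧ T.a (σ 6) (σ 8) = w ∧ T.a (σ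 7) (σ 7) = -2 * w ∧ T.a (σ 7) (σ 8) = 0 ∧ T.a (σ 8) (σ 8) = -2 * w) ∨
      (T.m (σ 0) = m ∧ T.m (σ 1) = 2 * m ∧ T.m (σ 2) = 3 * m ∧ T.m (σ 3) = 4 * m ∧ T.m (σ 4) = 5 * m ∧ T.m (σ 5) = 6 * m ∧ T.m (σ 6) = 4 * m ∧ T.m (σ 7) = 2 * m ∧ T.m (σ 8) = 3 * m ∧ T.w (σ 0) = w ∧ T.w (σ 1) = w ∧ T.w (σ 2) = w ∧ T.w (σ 3) = w ∧ T.w (σ 4) = w ∧ T.w (σ 5) = w ∧ T.w (σ 6) = w ∧ T.w (σ 7) = w ∧ T.w (σ 8) = w ∧ T.a (σ 0) (σ 0) = -2 * w ∧ T.a (σ 0) (σ 1) = w ∧ T.a (σ 0) (σ 2) = 0 ∧ T.a (σ 0) (σ 3) = 0 ∧ T.a (σ 0) (σ 4) = 0 ∧ T.a (σ 0) (σ 5) = 0 ∧ T.a (σ 0) (σ 6) = 0 ∧ T.a (σ 0) (σ 7) = 0 ∧ T.a (σ 0) (σ 8) = 0 ∧ T.a (σ 1) (σ 1) = -2 * w ∧ T.a (σ 1) (σ 2) = w ∧ T.a (σ 1) (σ 3) = 0 ∧ T.a (σ 1) (σ 4) = 0 ∧ T.a (σ 1) (σ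 5) = 0 ∧ T.a (σ 1) (σ 6) = 0 ∧ T.a (σ 1) (σ 7) = 0 ∧ T.a (σ 1) (σ 8) = 0 ∧ T.a (σ 2) (σ 2) = -2 * w ∧ T.a (σ 2) (σ 3) = w ∧ T.a (σ 2) (σ 4) = 0 ∧ T.a (σ 2) (σ 5) = 0 ∧ T.a (σ 2) (σ 6) = 0 ∧ T.a (σ 2) (σ 7) = 0 ∧ T.a (σ 2) (σ 8) = 0 ∧ T.a (σ 3) (σ 3) = -2 * w ∧ T.a (σ 3) (σ 4) = w ∧ T.a (σ 3) (σ 5) = 0 ∧ T.a (σ 3) (σ 6) = 0 ∧ T.a (σ 3) (σ 7) = 0 ∧ T.a (σ 3) (σ 8) = 0 ∧ T.a (σ 4) (σ 4) = -2 * w ∧ T.a (σ 4) (σ 5) = w ∧ T.a (σ 4) (σ 6) = 0 ∧ T.a (σ 4) (σ 7) = 0 ∧ T.a (σ 4) (σ 8) = 0 ∧ T.a (σ 5) (σ 5) = -2 * w ∧ T.a (σ 5) (σ 6) = w ∧ T.a (σ 5) (σ 7) = 0 ∧ T.a (σ 5) (σ 8) = w ∧ T.a (σ 6) (σ 6) = -2 * w ∧ T.a (σ 6) (σ 7) = w ∧ T.a (σ 6) (σ 8) = 0 ∧ T.a (σ 7) (σ 7) = -2 * w ∧ T.a (σ 7) (σ 8) = 0 ∧ T.a (σ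 8) (σ 8) = -2 * w)) := by
  have c0_1 : cc T (σ 0) (σ 1) = 1 := by rw [hC 0 1 (by decide)]; rfl
  have c0_2 : cc T (σ 0) (σ 2) = 0 := by rw [hC 0 2 (by decide)]; rfl
  have c0_3 : cc T (σ 0) (σ 3) = 0 := by rw [hC 0 3 (by decide)]; rfl
  have c0_4 : cc T (σ 0) (σ 4) = 0 := by rw [hC 0 4 (by decide)]; rfl
  have c0_5 : cc T (σ 0) (σ 5) = 0 := by rw [hC 0 5 (by decide)]; rfl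
  have c0_6 : cc T (σ 0) (σ 6) = 0 := by rw [hC 0 6 (by decide)]; rfl
  have c0_7 : cc T (σ 0) (σ 7) = 0 := by rw [hC 0 7 (by decide)]; rfl
  have c0_8 : cc T (σ 0) (σ 8) = 1 := by rw [hC 0 8 (by decide)]; rfl
  have c1_0 : cc T (σ 1) (σ 0) = 1 := by rw [hC 1 0 (by decide)]; rfl
  have c1_2 : cc T (σ 1) (σ 2) = 1 := by rw [hC 1 2 (by decide)]; rfl
  have c1_3 : cc T (σ 1) (σ 3) = 0 := by rw [hC 1 3 (by decide)]; rfl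
  have c1_4 : cc T (σ 1) (σ 4) = 0 := by rw [hC 1 4 (by decide)]; rfl
  have c1_5 : cc T (σ 1) (σ 5) = 0 := by rw [hC 1 5 (by decide)]; rfl
  have c1_6 : cc T (σ 1) (σ 6) = 0 := by rw [hC 1 6 (by decide)]; rfl
  have c1_7 : cc T (σ 1) (σ 7) = 0 := by rw [hC 1 7 (by decide)]; rfl
  have c1_8 : cc T (σ 1) (σ 8) = 0 := by rw [hC 1 8 (by decide)]; rfl
  have c2_0 : cc T (σ 2) (σ 0) = 0 := by rw [hC 2 0 (by decide)]; rfl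
  have c2_1 : cc T (σ 2) (σ 1) = 1 := by rw [hC 2 1 (by decide)]; rfl
  have c2_3 : cc T (σ 2) (σ 3) = 1 := by rw [hC 2 3 (by decide)]; rfl
  have c2_4 : cc T (σ 2) (σ 4) = 0 := by rw [hC 2 4 (by decide)]; rfl
  have c2_5 : cc T (σ 2) (σ 5) = 0 := by rw [hC 2 5 (by decide)]; rfl
  have c2_6 : cc T (σ 2) (σ 6) = 0 := by rw [hC 2 6 (by decide)]; rfl
  have c2_7 : cc T (σ 2) (σ 7) = 0 := by rw [hC 2 7 (by decide)]; rfl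
  have c2_8 : cc T (σ 2) (σ 8) = 0 := by rw [hC 2 8 (by decide)]; rfl
  have c3_0 : cc T (σ 3) (σ 0) = 0 := by rw [hC 3 0 (by decide)]; rfl
  have c3_1 : cc T (σ 3) (σ 1) = 0 := by rw [hC 3 1 (by decide)]; rfl
  have c3_2 : cc T (σ 3) (σ 2) = 1 := by rw [hC 3 2 (by decide)]; rfl
  have c3_4 : cc T (σ 3) (σ 4) = 1 := by rw [hC 3 4 (by decide)]; rfl
  have c3_5 : cc T (σ 3) (σ 5) = 0 := by rw [hC 3 5 (by decide)]; rfl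
  have c3_6 : cc T (σ 3) (σ 6) = 0 := by rw [hC 3 6 (by decide)]; rfl
  have c3_7 : cc T (σ 3) (σ 7) = 0 := by rw [hC 3 7 (by decide)]; rfl
  have c3_8 : cc T (σ 3) (σ 8) = 0 := by rw [hC 3 8 (by decide)]; rfl
  have c4_0 : cc T (σ 4) (σ 0) = 0 := by rw [hC 4 0 (by decide)]; rfl
  have c4_1 : cc T (σ 4) (σ 1) = 0 := by rw [hC 4 1 (by decide)]; rfl
  have c4_2 : cc T (σ 4) (σ 2) = 0 := by rw [hC 4 2 (by decide)]; rfl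
  have c4_3 : cc T (σ 4) (σ 3) = 1 := by rw [hC 4 3 (by decide)]; rfl
  have c4_5 : cc T (σ 4) (σ 5) = 1 := by rw [hC 4 5 (by decide)]; rfl
  have c4_6 : cc T (σ 4) (σ 6) = 0 := by rw [hC 4 6 (by decide)]; rfl
  have c4_7 : cc T (σ 4) (σ 7) = 0 := by rw [hC 4 7 (by decide)]; rfl
  have c4_8 : cc T (σ 4) (σ 8) = 0 := by rw [hC 4 8 (by decide)]; rfl
  have c5_0 : cc T (σ 5) (σ 0) = 0 := by rw [hC 5 0 (by decide)]; rfl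
  have c5_1 : cc T (σ 5) (σ 1) = 0 := by rw [hC 5 1 (by decide)]; rfl
  have c5_2 : cc T (σ 5) (σ 2) = 0 := by rw [hC 5 2 (by decide)]; rfl
  have c5_3 : cc T (σ 5) (σ 3) = 0 := by rw [hC 5 3 (by decide)]; rfl
  have c5_4 : cc T (σ 5) (σ 4) = 1 := by rw [hC 5 4 (by decide)]; rfl
  have c5_6 : cc T (σ 5) (σ 6) = 1 := by rw [hC 5 6 (by decide)]; rfl
  have c5_7 : cc T (σ 5) (σ 7) = 0 := by rw [hC 5 7 (by decide)]; rfl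
  have c5_8 : cc T (σ 5) (σ 8) = 0 := by rw [hC 5 8 (by decide)]; rfl
  have c6_0 : cc T (σ 6) (σ 0) = 0 := by rw [hC 6 0 (by decide)]; rfl
  have c6_1 : cc T (σ 6) (σ 1) = 0 := by rw [hC 6 1 (by decide)]; rfl
  have c6_2 : cc T (σ 6) (σ 2) = 0 := by rw [hC 6 2 (by decide)]; rfl
  have c6_3 : cc T (σ 6) (σ 3) = 0 := by rw [hC 6 3 (by decide)]; rfl
  have c6_4 : cc T (σ 6) (σ 4) = 0 := by rw [hC 6 4 (by decide)]; rfl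
  have c6_5 : cc T (σ 6) (σ 5) = 1 := by rw [hC 6 5 (by decide)]; rfl
  have c6_7 : cc T (σ 6) (σ 7) = 1 := by rw [hC 6 7 (by decide)]; rfl
  have c6_8 : cc T (σ 6) (σ 8) = 0 := by rw [hC 6 8 (by decide)]; rfl
  have c7_0 : cc T (σ 7) (σ 0) = 0 := by rw [hC 7 0 (by decide)]; rfl
  have c7_1 : cc T (σ 7) (σ 1) = 0 := by rw [hC 7 1 (by decide)]; rfl
  have c7_2 : cc T (σ 7) (σ 2) = 0 := by rw [hC 7 2 (by decide)]; rfl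
  have c7_3 : cc T (σ 7) (σ 3) = 0 := by rw [hC 7 3 (by decide)]; rfl
  have c7_4 : cc T (σ 7) (σ 4) = 0 := by rw [hC 7 4 (by decide)]; rfl
  have c7_5 : cc T (σ 7) (σ 5) = 0 := by rw [hC 7 5 (by decide)]; rfl
  have c7_6 : cc T (σ 7) (σ 6) = 1 := by rw [hC 7 6 (by decide)]; rfl
  have c7_8 : cc T (σ 7) (σ 8) = 1 := by rw [hC 7 8 (by decide)]; rfl
  have c8_0 : cc T (σ 8) (σ 0) = 1 := by rw [hC 8 0 (by decide)]; rfl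
  have c8_1 : cc T (σ 8) (σ 1) = 0 := by rw [hC 8 1 (by decide)]; rfl
  have c8_2 : cc T (σ 8) (σ 2) = 0 := by rw [hC 8 2 (by decide)]; rfl
  have c8_3 : cc T (σ 8) (σ 3) = 0 := by rw [hC 8 3 (by decide)]; rfl
  have c8_4 : cc T (σ 8) (σ 4) = 0 := by rw [hC 8 4 (by decide)]; rfl
  have c8_5 : cc T (σ 8) (σ 5) = 0 := by rw [hC 8 5 (by decide)]; rfl
  have c8_6 : cc T (σ 8) (σ 6) = 0 := by rw [hC 8 6 (by decide)]; rfl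
  have c8_7 : cc T (σ 8) (σ 7) = 1 := by rw [hC 8 7 (by decide)]; rfl
  have dd0 := cc_diag T hd (σ 0)
  have dd1 := cc_diag T hd (σ 1)
  have dd2 := cc_diag T hd (σ 2)
  have dd3 := cc_diag T hd (σ 3)
  have dd4 := cc_diag T hd (σ 4)
  have dd5 := cc_diag T hd (σ 5)
  have dd6 := cc_diag T hd (σ 6)
  have dd7 := cc_diag T hd (σ 7)
  have dd8 := cc_diag T hd (σ 8)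
  have r0 := row9 T σ 0
  rw [dd0, c0_1, c0_2, c0_3, c0_4, c0_5, c0_6, c0_7, c0_8] at r0
  have r1 := row9 T σ 1
  rw [c1_0, dd1, c1_2, c1_3, c1_4, c1_5, c1_6, c1_7, c1_8] at r1
  have r2 := row9 T σ 2
  rw [c2_0, c2_1, dd2, c2_3, c2_4, c2_5, c2_6, c2_7, c2_8] at r2
  have r3 := row9 T σ 3
  rw [c3_0, c3_1, c3_2, dd3, c3_4, c3_5, c3_6, c3_7, c3_8] at r3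
  have r4 := row9 T σ 4
  rw [c4_0, c4_1, c4_2, c4_3, dd4, c4_5, c4_6, c4_7, c4_8] at r4
  have r5 := row9 T σ 5
  rw [c5_0, c5_1, c5_2, c5_3, c5_4, dd5, c5_6, c5_7, c5_8] at r5
  have r6 := row9 T σ 6
  rw [c6_0, c6_1, c6_2, c6_3, c6_4, c6_5, dd6, c6_7, c6_8] at r6
  have r7 := row9 T σ 7
  rw [c7_0, c7_1, c7_2, c7_3, c7_4, c7_5, c7_6, dd7, c7_8] at r7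
  have r8 := row9 T σ 8
  rw [c8_0, c8_1, c8_2, c8_3, c8_4, c8_5, c8_6, c8_7, dd8] at r8
  have a0_1 : T.a (σ 0) (σ 1) = T.w (σ 0) * 1 := by rw [a_eq, c0_1]
  have a0_2 : T.a (σ 0) (σ 2) = T.w (σ 0) * 0 := by rw [a_eq, c0_2]
  have a0_3 : T.a (σ 0) (σ 3) = T.w (σ 0) * 0 := by rw [a_eq, c0_3]
  have a0_4 : T.a (σ 0) (σ 4) = T.w (σ 0) * 0 := by rw [a_eq, c0_4]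
  have a0_5 : T.a (σ 0) (σ 5) = T.w (σ 0) * 0 := by rw [a_eq, c0_5]
  have a0_6 : T.a (σ 0) (σ 6) = T.w (σ 0) * 0 := by rw [a_eq, c0_6]
  have a0_7 : T.a (σ 0) (σ 7) = T.w (σ 0) * 0 := by rw [a_eq, c0_7]
  have a0_8 : T.a (σ 0) (σ 8) = T.w (σ 0) * 1 := by rw [a_eq, c0_8]
  have a1_0 : T.a (σ 1) (σ 0) = T.w (σ 1) * 1 := by rw [a_eq, c1_0]
  have a1_2 : T.a (σ 1) (σ 2) = T.w (σ 1) * 1 := by rw [a_eq, c1_2]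
  have a1_3 : T.a (σ 1) (σ 3) = T.w (σ 1) * 0 := by rw [a_eq, c1_3]
  have a1_4 : T.a (σ 1) (σ 4) = T.w (σ 1) * 0 := by rw [a_eq, c1_4]
  have a1_5 : T.a (σ 1) (σ 5) = T.w (σ 1) * 0 := by rw [a_eq, c1_5]
  have a1_6 : T.a (σ 1) (σ 6) = T.w (σ 1) * 0 := by rw [a_eq, c1_6]
  have a1_7 : T.a (σ 1) (σ 7) = T.w (σ 1) * 0 := by rw [a_eq, c1_7]
  have a1_8 : T.a (σ 1) (σ 8) = T.w (σ 1) * 0 := by rw [a_eq, c1_8]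
  have a2_0 : T.a (σ 2) (σ 0) = T.w (σ 2) * 0 := by rw [a_eq, c2_0]
  have a2_1 : T.a (σ 2) (σ 1) = T.w (σ 2) * 1 := by rw [a_eq, c2_1]
  have a2_3 : T.a (σ 2) (σ 3) = T.w (σ 2) * 1 := by rw [a_eq, c2_3]
  have a2_4 : T.a (σ 2) (σ 4) = T.w (σ 2) * 0 := by rw [a_eq, c2_4]
  have a2_5 : T.a (σ 2) (σ 5) = T.w (σ 2) * 0 := by rw [a_eq, c2_5]
  have a2_6 : T.a (σ 2) (σ 6) = T.w (σ 2) * 0 := by rw [a_eq, c2_6]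
  have a2_7 : T.a (σ 2) (σ 7) = T.w (σ 2) * 0 := by rw [a_eq, c2_7]
  have a2_8 : T.a (σ 2) (σ 8) = T.w (σ 2) * 0 := by rw [a_eq, c2_8]
  have a3_0 : T.a (σ 3) (σ 0) = T.w (σ 3) * 0 := by rw [a_eq, c3_0]
  have a3_1 : T.a (σ 3) (σ 1) = T.w (σ 3) * 0 := by rw [a_eq, c3_1]
  have a3_2 : T.a (σ 3) (σ 2) = T.w (σ 3) * 1 := by rw [a_eq, c3_2]
  have a3_4 : T.a (σ 3) (σ 4) = T.w (σ 3) * 1 := by rw [a_eq, c3_4]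
  have a3_5 : T.a (σ 3) (σ 5) = T.w (σ 3) * 0 := by rw [a_eq, c3_5]
  have a3_6 : T.a (σ 3) (σ 6) = T.w (σ 3) * 0 := by rw [a_eq, c3_6]
  have a3_7 : T.a (σ 3) (σ 7) = T.w (σ 3) * 0 := by rw [a_eq, c3_7]
  have a3_8 : T.a (σ 3) (σ 8) = T.w (σ 3) * 0 := by rw [a_eq, c3_8]
  have a4_0 : T.a (σ 4) (σ 0) = T.w (σ 4) * 0 := by rw [a_eq, c4_0]
  have a4_1 : T.a (σ 4) (σ 1) = T.w (σ 4) * 0 := by rw [a_eq, c4_1]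
  have a4_2 : T.a (σ 4) (σ 2) = T.w (σ 4) * 0 := by rw [a_eq, c4_2]
  have a4_3 : T.a (σ 4) (σ 3) = T.w (σ 4) * 1 := by rw [a_eq, c4_3]
  have a4_5 : T.a (σ 4) (σ 5) = T.w (σ 4) * 1 := by rw [a_eq, c4_5]
  have a4_6 : T.a (σ 4) (σ 6) = T.w (σ 4) * 0 := by rw [a_eq, c4_6]
  have a4_7 : T.a (σ 4) (σ 7) = T.w (σ 4) * 0 := by rw [a_eq, c4_7]
  have a4_8 : T.a (σ 4) (σ 8) = T.w (σ 4) * 0 := by rw [a_eq, c4_8]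
  have a5_0 : T.a (σ 5) (σ 0) = T.w (σ 5) * 0 := by rw [a_eq, c5_0]
  have a5_1 : T.a (σ 5) (σ 1) = T.w (σ 5) * 0 := by rw [a_eq, c5_1]
  have a5_2 : T.a (σ 5) (σ 2) = T.w (σ 5) * 0 := by rw [a_eq, c5_2]
  have a5_3 : T.a (σ 5) (σ 3) = T.w (σ 5) * 0 := by rw [a_eq, c5_3]
  have a5_4 : T.a (σ 5) (σ 4) = T.w (σ 5) * 1 := by rw [a_eq, c5_4]
  have a5_6 : T.a (σ 5) (σ 6) = T.w (σ 5) * 1 := by rw [a_eq, c5_6]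
  have a5_7 : T.a (σ 5) (σ 7) = T.w (σ 5) * 0 := by rw [a_eq, c5_7]
  have a5_8 : T.a (σ 5) (σ 8) = T.w (σ 5) * 0 := by rw [a_eq, c5_8]
  have a6_0 : T.a (σ 6) (σ 0) = T.w (σ 6) * 0 := by rw [a_eq, c6_0]
  have a6_1 : T.a (σ 6) (σ 1) = T.w (σ 6) * 0 := by rw [a_eq, c6_1]
  have a6_2 : T.a (σ 6) (σ 2) = T.w (σ 6) * 0 := by rw [a_eq, c6_2]
  have a6_3 : T.a (σ 6) (σ 3) = T.w (σ 6) * 0 := by rw [a_eq, c6_3]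
  have a6_4 : T.a (σ 6) (σ 4) = T.w (σ 6) * 0 := by rw [a_eq, c6_4]
  have a6_5 : T.a (σ 6) (σ 5) = T.w (σ 6) * 1 := by rw [a_eq, c6_5]
  have a6_7 : T.a (σ 6) (σ 7) = T.w (σ 6) * 1 := by rw [a_eq, c6_7]
  have a6_8 : T.a (σ 6) (σ 8) = T.w (σ 6) * 0 := by rw [a_eq, c6_8]
  have a7_0 : T.a (σ 7) (σ 0) = T.w (σ 7) * 0 := by rw [a_eq, c7_0]
  have a7_1 : T.a (σ 7) (σ 1) = T.w (σ 7) * 0 := by rw [a_eq, c7_1]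
  have a7_2 : T.a (σ 7) (σ 2) = T.w (σ 7) * 0 := by rw [a_eq, c7_2]
  have a7_3 : T.a (σ 7) (σ 3) = T.w (σ 7) * 0 := by rw [a_eq, c7_3]
  have a7_4 : T.a (σ 7) (σ 4) = T.w (σ 7) * 0 := by rw [a_eq, c7_4]
  have a7_5 : T.a (σ 7) (σ 5) = T.w (σ 7) * 0 := by rw [a_eq, c7_5]
  have a7_6 : T.a (σ 7) (σ 6) = T.w (σ 7) * 1 := by rw [a_eq, c7_6]
  have a7_8 : T.a (σ 7) (σ 8) = T.w (σ 7) * 1 := by rw [a_eq, c7_8]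
  have a8_0 : T.a (σ 8) (σ 0) = T.w (σ 8) * 1 := by rw [a_eq, c8_0]
  have a8_1 : T.a (σ 8) (σ 1) = T.w (σ 8) * 0 := by rw [a_eq, c8_1]
  have a8_2 : T.a (σ 8) (σ 2) = T.w (σ 8) * 0 := by rw [a_eq, c8_2]
  have a8_3 : T.a (σ 8) (σ 3) = T.w (σ 8) * 0 := by rw [a_eq, c8_3]
  have a8_4 : T.a (σ 8) (σ 4) = T.w (σ 8) * 0 := by rw [a_eq, c8_4]
  have a8_5 : T.a (σ 8) (σ 5) = T.w (σ 8) * 0 := by rw [a_eq, c8_5]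
  have a8_6 : T.a (σ 8) (σ 6) = T.w (σ 8) * 0 := by rw [a_eq, c8_6]
  have a8_7 : T.a (σ 8) (σ 7) = T.w (σ 8) * 1 := by rw [a_eq, c8_7]
  have ad0 := hd (σ 0)
  have ad1 := hd (σ 1)
  have ad2 := hd (σ 2)
  have ad3 := hd (σ 3)
  have ad4 := hd (σ 4)
  have ad5 := hd (σ 5)
  have ad6 := hd (σ 6)
  have ad7 := hd (σ 7)
  have ad8 := hd (σ 8)
  have s0_1 := a_symm T (σ 0) (σ 1)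
  have s0_2 := a_symm T (σ 0) (σ 2)
  have s0_3 := a_symm T (σ 0) (σ 3)
  have s0_4 := a_symm T (σ 0) (σ 4)
  have s0_5 := a_symm T (σ 0) (σ 5)
  have s0_6 := a_symm T (σ 0) (σ 6)
  have s0_7 := a_symm T (σ 0) (σ 7)
  have s0_8 := a_symm T (σ 0) (σ 8)
  have s1_2 := a_symm T (σ 1) (σ 2)
  have s1_3 := a_symm T (σ 1) (σ 3)
  have s1_4 := a_symm T (σ 1) (σ 4)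
  have s1_5 := a_symm T (σ 1) (σ 5)
  have s1_6 := a_symm T (σ 1) (σ 6)
  have s1_7 := a_symm T (σ 1) (σ 7)
  have s1_8 := a_symm T (σ 1) (σ 8)
  have s2_3 := a_symm T (σ 2) (σ 3)
  have s2_4 := a_symm T (σ 2) (σ 4)
  have s2_5 := a_symm T (σ 2) (σ 5)
  have s2_6 := a_symm T (σ 2) (σ 6)
  have s2_7 := a_symm T (σ 2) (σ 7)
  have s2_8 := a_symm T (σ 2) (σ 8)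
  have s3_4 := a_symm T (σ 3) (σ 4)
  have s3_5 := a_symm T (σ 3) (σ 5)
  have s3_6 := a_symm T (σ 3) (σ 6)
  have s3_7 := a_symm T (σ 3) (σ 7)
  have s3_8 := a_symm T (σ 3) (σ 8)
  have s4_5 := a_symm T (σ 4) (σ 5)
  have s4_6 := a_symm T (σ 4) (σ 6)
  have s4_7 := a_symm T (σ 4) (σ 7)
  have s4_8 := a_symm T (σ 4) (σ 8)
  have s5_6 := a_symm T (σ 5) (σ 6)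
  have s5_7 := a_symm T (σ 5) (σ 7)
  have s5_8 := a_symm T (σ 5) (σ 8)
  have s6_7 := a_symm T (σ 6) (σ 7)
  have s6_8 := a_symm T (σ 6) (σ 8)
  have s7_8 := a_symm T (σ 7) (σ 8)
  clear c0_1 c0_2 c0_3 c0_4 c0_5 c0_6 c0_7 c0_8 c1_0 c1_2 c1_3 c1_4 c1_5 c1_6 c1_7 c1_8 c2_0 c2_1 c2_3 c2_4 c2_5 c2_6 c2_7 c2_8 c3_0 c3_1 c3_2 c3_4 c3_5 c3_6 c3_7 c3_8 c4_0 c4_1 c4_2 c4_3 c4_5 c4_6 c4_7 c4_8 c5_0 c5_1 c5_2 c5_3 c5_4 c5_6 c5_7 c5_8 c6_0 c6_1 c6_2 c6_3 c6_4 c6_5 c6_7 c6_8 c7_0 c7_1 c7_2 c7_3 c7_4 c7_5 c7_6 c7_8 c8_0 c8_1 c8_2 c8_3 c8_4 c8_5 c8_6 c8_7 dd0 dd1 dd2 dd3 dd4 dd5 dd6 dd7 dd8 hC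
  have hm0 : T.m (σ 0) = 1 * T.m (σ 0) := by omega
  have hm1 : T.m (σ 1) = 1 * T.m (σ 0) := by omega
  have hm2 : T.m (σ 2) = 1 * T.m (σ 0) := by omega
  have hm3 : T.m (σ 3) = 1 * T.m (σ 0) := by omega
  have hm4 : T.m (σ 4) = 1 * T.m (σ 0) := by omega
  have hm5 : T.m (σ 5) = 1 * T.m (σ 0) := by omega
  have hm6 : T.m (σ 6) = 1 * T.m (σ 0) := by omega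
  have hm7 : T.m (σ 7) = 1 * T.m (σ 0) := by omega
  have hm8 : T.m (σ 8) = 1 * T.m (σ 0) := by omega
  clear r0 r1 r2 r3 r4 r5 r6 r7 r8
  have hw0 : T.w (σ 0) = 1 * T.w (σ 0) := by omega
  have hw1 : T.w (σ 1) = 1 * T.w (σ 0) := by omega
  have hw2 : T.w (σ 2) = 1 * T.w (σ 0) := by omega
  have hw3 : T.w (σ 3) = 1 * T.w (σ 0) := by omega
  have hw4 : T.w (σ 4) = 1 * T.w (σ 0) := by omega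
  have hw5 : T.w (σ 5) = 1 * T.w (σ 0) := by omega
  have hw6 : T.w (σ 6) = 1 * T.w (σ 0) := by omega
  have hw7 : T.w (σ 7) = 1 * T.w (σ 0) := by omega
  have hw8 : T.w (σ 8) = 1 * T.w (σ 0) := by omega
  refine ⟨σ, T.m (σ 0), T.w (σ 0), ?_⟩
  refine Or.inl ?_
  refine ⟨?_, ?_, ?_, ?_, ?_, ?_, ?_, ?_, ?_, ?_, ?_, ?_, ?_, ?_, ?_, ?_, ?_, ?_, ?_, ?_, ?_, ?_, ?_, ?_, ?_, ?_, ?_, ?_, ?_, ?_, ?_, ?_, ?_, ?_, ?_, ?_, ?_, ?_, ?_, ?_, ?_, ?_, ?_, ?_, ?_, ?_, ?_, ?_, ?_, ?_, ?_, ?_, ?_, ?_, ?_, ?_, ?_, ?_, ?_, ?_, ?_, ?_, ?_⟩ <;> omega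

theorem form9_1 (T : NumericalType 9) (hd : ∀ i, T.a i i = -2 * T.w i)
    (σ : Equiv.Perm (Fin 9))
    (hC : ∀ i j : Fin 9, i ≠ j → cc T (σ i) (σ j) = (E forms9 1 i j : ℤ)) :
    ∃ (σ : Equiv.Perm (Fin 9)) (m w : ℤ),
      ((T.m (σ 0) = m ∧ T.m (σ 1) = m ∧ T.m (σ 2) = m ∧ T.m (σ 3) = m ∧ T.m (σ 4) = m ∧ T.m (σ 5) = m ∧ T.m (σ 6) = m ∧ T.m (σ 7) = m ∧ T.m (σ 8) = m ∧ T.w (σ 0) = w ∧ T.w (σ 1) = w ∧ T.w (σ 2) = w ∧ T.w (σ 3) = w ∧ T.w (σ 4) = w ∧ T.w (σ 5) = w ∧ T.w (σ 6) = w ∧ T.w (σ 7) = w ∧ T.w (σ 8) = w ∧ T.a (σ 0) (σ 0) = -2 * w ∧ T.a (σ 0) (σ 1) = w ∧ T.a (σ 0) (σ 2) = 0 ∧ T.a (σ 0) (σ 3) = 0 ∧ T.a (σ 0) (σ 4) = 0 ∧ T.a (σ 0) (σ 5) = 0 ∧ T.a (σ 0) (σ 6) = 0 ∧ T.a (σ 0) (σ 7) = 0 ∧ T.a (σ 0)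 (σ 8) = w ∧ T.a (σ 1) (σ 1) = -2 * w ∧ T.a (σ 1) (σ 2) = w ∧ T.a (σ 1) (σ 3) = 0 ∧ T.a (σ 1) (σ 4) = 0 ∧ T.a (σ 1) (σ 5) = 0 ∧ T.a (σ 1) (σ 6) = 0 ∧ T.a (σ 1) (σ 7) = 0 ∧ T.a (σ 1) (σ 8) = 0 ∧ T.a (σ 2) (σ 2) = -2 * w ∧ T.a (σ 2) (σ 3) = w ∧ T.a (σ 2) (σ 4) = 0 ∧ T.a (σ 2) (σ 5) = 0 ∧ T.a (σ 2) (σ 6) = 0 ∧ T.a (σ 2) (σ 7) = 0 ∧ T.a (σ 2) (σ 8) = 0 ∧ T.a (σ 3) (σ 3) = -2 * w ∧ T.a (σ 3) (σ 4) = w ∧ T.a (σ 3) (σ 5) = 0 ∧ T.a (σ 3) (σ 6) = 0 ∧ T.a (σ 3) (σ 7) = 0 ∧ T.a (σ 3) (σ 8) = 0 ∧ T.a (σ 4) (σ 4) = -2 * w ∧ T.a (σ 4) (σ 5) = w ∧ T.a (σ 4) (σ 6) = 0 ∧ T.a (σ 4) (σ 7) = 0 ∧ T.a (σ 4) (σ 8) = 0 ∧ T.a (σ 5) (σ 5) = -2 * w ∧ T.a (σ 5) (σ 6) = w ∧ T.a (σ 5) (σ 7) = 0 ∧ T.a (σ 5) (σ 8) = 0 ∧ T.a (σ 6)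 (σ 6) = -2 * w ∧ T.a (σ 6) (σ 7) = w ∧ T.a (σ 6) (σ 8) = 0 ∧ T.a (σ 7) (σ 7) = -2 * w ∧ T.a (σ 7) (σ 8) = w ∧ T.a (σ 8) (σ 8) = -2 * w) ∨
      (T.m (σ 0) = 2 * m ∧ T.m (σ 1) = 2 * m ∧ T.m (σ 2) = 2 * m ∧ T.m (σ 3) = 2 * m ∧ T.m (σ 4) = 2 * m ∧ T.m (σ 5) = 2 * m ∧ T.m (σ 6) = 2 * m ∧ T.m (σ 7) = 2 * m ∧ T.m (σ 8) = m ∧ T.w (σ 0) = w ∧ T.w (σ 1) = 2 * w ∧ T.w (σ 2) = 2 * w ∧ T.w (σ 3) = 2 * w ∧ T.w (σ 4) = 2 * w ∧ T.w (σ 5) = 2 * w ∧ T.w (σ 6) = 2 * w ∧ T.w (σ 7) = 2 * w ∧ T.w (σ 8) = 4 * w ∧ T.a (σ 0) (σ 0) = -2 * w ∧ T.a (σ 0) (σ 1) = 2 * w ∧ T.a (σ 0) (σ 2) = 0 ∧ T.a (σ 0) (σ 3) = 0 ∧ T.a (σ 0) (σ 4) = 0 ∧ T.a (σ 0) (σ 5) = 0 ∧ T.a (σ 0) (σ 6) = 0 ∧ T.a (σ 0) (σ 7) = 0 ∧ T.a (σ 0) (σ 8) = 0 ∧ T.a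 (σ 1) (σ 1) = -4 * w ∧ T.a (σ 1) (σ 2) = 2 * w ∧ T.a (σ 1) (σ 3) = 0 ∧ T.a (σ 1) (σ 4) = 0 ∧ T.a (σ 1) (σ 5) = 0 ∧ T.a (σ 1) (σ 6) = 0 ∧ T.a (σ 1) (σ 7) = 0 ∧ T.a (σ 1) (σ 8) = 0 ∧ T.a (σ 2) (σ 2) = -4 * w ∧ T.a (σ 2) (σ 3) = 2 * w ∧ T.a (σ 2) (σ 4) = 0 ∧ T.a (σ 2) (σ 5) = 0 ∧ T.a (σ 2) (σ 6) = 0 ∧ T.a (σ 2) (σ 7) = 0 ∧ T.a (σ 2) (σ 8) = 0 ∧ T.a (σ 3) (σ 3) = -4 * w ∧ T.a (σ 3) (σ 4) = 2 * w ∧ T.a (σ 3) (σ 5) = 0 ∧ T.a (σ 3) (σ 6) = 0 ∧ T.a (σ 3) (σ 7) = 0 ∧ T.a (σ 3) (σ 8) = 0 ∧ T.a (σ 4) (σ 4) = -4 * w ∧ T.a (σ 4) (σ 5) = 2 * w ∧ T.a (σ 4) (σ 6) = 0 ∧ T.a (σ 4) (σ 7) = 0 ∧ T.a (σ 4) (σ 8) = 0 ∧ T.a (σ 5) (σ 5) = -4 * w ∧ T.a (σ 5) (σ 6) = 2 * w ∧ T.a (σ 5) (σ 7) = 0 ∧ T.a (σ 5) (σ 8) = 0 ∧ T.a (σ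 6) (σ 6) = -4 * w ∧ T.a (σ 6) (σ 7) = 2 * w ∧ T.a (σ 6) (σ 8) = 0 ∧ T.a (σ 7) (σ 7) = -4 * w ∧ T.a (σ 7) (σ 8) = 4 * w ∧ T.a (σ 8) (σ 8) = -8 * w) ∨
      (T.m (σ 0) = m ∧ T.m (σ 1) = m ∧ T.m (σ 2) = m ∧ T.m (σ 3) = m ∧ T.m (σ 4) = m ∧ T.m (σ 5) = m ∧ T.m (σ 6) = m ∧ T.m (σ 7) = m ∧ T.m (σ 8) = m ∧ T.w (σ 0) = w ∧ T.w (σ 1) = 2 * w ∧ T.w (σ 2) = 2 * w ∧ T.w (σ 3) = 2 * w ∧ T.w (σ 4) = 2 * w ∧ T.w (σ 5) = 2 * w ∧ T.w (σ 6) = 2 * w ∧ T.w (σ 7) = 2 * w ∧ T.w (σ 8) = w ∧ T.a (σ 0) (σ 0) = -2 * w ∧ T.a (σ 0) (σ 1) = 2 * w ∧ T.a (σ 0) (σ 2) = 0 ∧ T.a (σ 0) (σ 3) = 0 ∧ T.a (σ 0) (σ 4) = 0 ∧ T.a (σ 0) (σ 5) = 0 ∧ T.a (σ 0) (σ 6) = 0 ∧ T.a (σ 0) (σ 7) = 0 ∧ T.a (σ 0) (σ 8) = 0 ∧ T.a (σ 1) (σ 1) = -4 * w ∧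 T.a (σ 1) (σ 2) = 2 * w ∧ T.a (σ 1) (σ 3) = 0 ∧ T.a (σ 1) (σ 4) = 0 ∧ T.a (σ 1) (σ 5) = 0 ∧ T.a (σ 1) (σ 6) = 0 ∧ T.a (σ 1) (σ 7) = 0 ∧ T.a (σ 1) (σ 8) = 0 ∧ T.a (σ 2) (σ 2) = -4 * w ∧ T.a (σ 2) (σ 3) = 2 * w ∧ T.a (σ 2) (σ 4) = 0 ∧ T.a (σ 2) (σ 5) = 0 ∧ T.a (σ 2) (σ 6) = 0 ∧ T.a (σ 2) (σ 7) = 0 ∧ T.a (σ 2) (σ 8) = 0 ∧ T.a (σ 3) (σ 3) = -4 * w ∧ T.a (σ 3) (σ 4) = 2 * w ∧ T.a (σ 3) (σ 5) = 0 ∧ T.a (σ 3) (σ 6) = 0 ∧ T.a (σ 3) (σ 7) = 0 ∧ T.a (σ 3) (σ 8) = 0 ∧ T.a (σ 4) (σ 4) = -4 * w ∧ T.a (σ 4) (σ 5) = 2 * w ∧ T.a (σ 4) (σ 6) = 0 ∧ T.a (σ 4) (σ 7) = 0 ∧ T.a (σ 4) (σ 8) = 0 ∧ T.a (σ 5) (σ 5) = -4 * w ∧ T.a (σ 5) (σ 6) = 2 * w ∧ T.a (σ 5) (σ 7) = 0 ∧ T.a (σ 5) (σ 8) = 0 ∧ T.a (σ 6) (σ 6) = -4 * w ∧ T.a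 (σ 6) (σ 7) = 2 * w ∧ T.a (σ 6) (σ 8) = 0 ∧ T.a (σ 7) (σ 7) = -4 * w ∧ T.a (σ 7) (σ 8) = 2 * w ∧ T.a (σ 8) (σ 8) = -2 * w) ∨
      (T.m (σ 0) = m ∧ T.m (σ 1) = 2 * m ∧ T.m (σ 2) = 2 * m ∧ T.m (σ 3) = 2 * m ∧ T.m (σ 4) = 2 * m ∧ T.m (σ 5) = 2 * m ∧ T.m (σ 6) = 2 * m ∧ T.m (σ 7) = 2 * m ∧ T.m (σ 8) = m ∧ T.w (σ 0) = 2 * w ∧ T.w (σ 1) = w ∧ T.w (σ 2) = w ∧ T.w (σ 3) = w ∧ T.w (σ 4) = w ∧ T.w (σ 5) = w ∧ T.w (σ 6) = w ∧ T.w (σ 7) = w ∧ T.w (σ 8) = 2 * w ∧ T.a (σ 0) (σ 0) = -4 * w ∧ T.a (σ 0) (σ 1) = 2 * w ∧ T.a (σ 0) (σ 2) = 0 ∧ T.a (σ 0) (σ 3) = 0 ∧ T.a (σ 0) (σ 4) = 0 ∧ T.a (σ 0) (σ 5) = 0 ∧ T.a (σ 0) (σ 6) = 0 ∧ T.a (σ 0) (σ 7) = 0 ∧ T.a (σ 0) (σ 8) = 0 ∧ T.a (σ 1) (σ 1) = -2 * w ∧ T.a (σ 1) (σ 2)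 = w ∧ T.a (σ 1) (σ 3) = 0 ∧ T.a (σ 1) (σ 4) = 0 ∧ T.a (σ 1) (σ 5) = 0 ∧ T.a (σ 1) (σ 6) = 0 ∧ T.a (σ 1) (σ 7) = 0 ∧ T.a (σ 1) (σ 8) = 0 ∧ T.a (σ 2) (σ 2) = -2 * w ∧ T.a (σ 2) (σ 3) = w ∧ T.a (σ 2) (σ 4) = 0 ∧ T.a (σ 2) (σ 5) = 0 ∧ T.a (σ 2) (σ 6) = 0 ∧ T.a (σ 2) (σ 7) = 0 ∧ T.a (σ 2) (σ 8) = 0 ∧ T.a (σ 3) (σ 3) = -2 * w ∧ T.a (σ 3) (σ 4) = w ∧ T.a (σ 3) (σ 5) = 0 ∧ T.a (σ 3) (σ 6) = 0 ∧ T.a (σ 3) (σ 7) = 0 ∧ T.a (σ 3) (σ 8) = 0 ∧ T.a (σ 4) (σ 4) = -2 * w ∧ T.a (σ 4) (σ 5) = w ∧ T.a (σ 4) (σ 6) = 0 ∧ T.a (σ 4) (σ 7) = 0 ∧ T.a (σ 4) (σ 8) = 0 ∧ T.a (σ 5) (σ 5) = -2 * w ∧ T.a (σ 5) (σ 6) = w ∧ T.a (σ 5) (σ 7) = 0 ∧ T.a (σ 5) (σ 8) = 0 ∧ T.a (σ 6) (σ 6) = -2 * w ∧ T.a (σ 6) (σ 7) = w ∧ T.a (σ 6) (σ 8)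 = 0 ∧ T.a (σ 7) (σ 7) = -2 * w ∧ T.a (σ 7) (σ 8) = 2 * w ∧ T.a (σ 8) (σ 8) = -4 * w) ∨
      (T.m (σ 0) = m ∧ T.m (σ 1) = 2 * m ∧ T.m (σ 2) = 2 * m ∧ T.m (σ 3) = 2 * m ∧ T.m (σ 4) = 2 * m ∧ T.m (σ 5) = 2 * m ∧ T.m (σ 6) = 2 * m ∧ T.m (σ 7) = m ∧ T.m (σ 8) = m ∧ T.w (σ 0) = 2 * w ∧ T.w (σ 1) = w ∧ T.w (σ 2) = w ∧ T.w (σ 3) = w ∧ T.w (σ 4) = w ∧ T.w (σ 5) = w ∧ T.w (σ 6) = w ∧ T.w (σ 7) = w ∧ T.w (σ 8) = w ∧ T.a (σ 0) (σ 0) = -4 * w ∧ T.a (σ 0) (σ 1) = 2 * w ∧ T.a (σ 0) (σ 2) = 0 ∧ T.a (σ 0) (σ 3) = 0 ∧ T.a (σ 0) (σ 4) = 0 ∧ T.a (σ 0) (σ 5) = 0 ∧ T.a (σ 0) (σ 6) = 0 ∧ T.a (σ 0) (σ 7) = 0 ∧ T.a (σ 0) (σ 8) = 0 ∧ T.a (σ 1) (σ 1) = -2 * w ∧ T.a (σ 1) (σ 2) = w ∧ T.a (σ 1) (σ 3) = 0 ∧ T.a (σ 1) (σ 4) =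 0 ∧ T.a (σ 1) (σ 5) = 0 ∧ T.a (σ 1) (σ 6) = 0 ∧ T.a (σ 1) (σ 7) = 0 ∧ T.a (σ 1) (σ 8) = 0 ∧ T.a (σ 2) (σ 2) = -2 * w ∧ T.a (σ 2) (σ 3) = w ∧ T.a (σ 2) (σ 4) = 0 ∧ T.a (σ 2) (σ 5) = 0 ∧ T.a (σ 2) (σ 6) = 0 ∧ T.a (σ 2) (σ 7) = 0 ∧ T.a (σ 2) (σ 8) = 0 ∧ T.a (σ 3) (σ 3) = -2 * w ∧ T.a (σ 3) (σ 4) = w ∧ T.a (σ 3) (σ 5) = 0 ∧ T.a (σ 3) (σ 6) = 0 ∧ T.a (σ 3) (σ 7) = 0 ∧ T.a (σ 3) (σ 8) = 0 ∧ T.a (σ 4) (σ 4) = -2 * w ∧ T.a (σ 4) (σ 5) = w ∧ T.a (σ 4) (σ 6) = 0 ∧ T.a (σ 4) (σ 7) = 0 ∧ T.a (σ 4) (σ 8) = 0 ∧ T.a (σ 5) (σ 5) = -2 * w ∧ T.a (σ 5) (σ 6) = w ∧ T.a (σ 5) (σ 7) = 0 ∧ T.a (σ 5) (σ 8) = 0 ∧ T.a (σ 6) (σ 6) = -2 * w ∧ T.a (σ 6) (σ 7) = w ∧ T.a (σ 6) (σ 8) = w ∧ T.a (σ 7) (σ 7) = -2 * w ∧ T.a (σ 7) (σ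 8) = 0 ∧ T.a (σ 8) (σ 8) = -2 * w) ∨
      (T.m (σ 0) = 2 * m ∧ T.m (σ 1) = 2 * m ∧ T.m (σ 2) = 2 * m ∧ T.m (σ 3) = 2 * m ∧ T.m (σ 4) = 2 * m ∧ T.m (σ 5) = 2 * m ∧ T.m (σ 6) = 2 * m ∧ T.m (σ 7) = m ∧ T.m (σ 8) = m ∧ T.w (σ 0) = w ∧ T.w (σ 1) = 2 * w ∧ T.w (σ 2) = 2 * w ∧ T.w (σ 3) = 2 * w ∧ T.w (σ 4) = 2 * w ∧ T.w (σ 5) = 2 * w ∧ T.w (σ 6) = 2 * w ∧ T.w (σ 7) = 2 * w ∧ T.w (σ 8) = 2 * w ∧ T.a (σ 0) (σ 0) = -2 * w ∧ T.a (σ 0) (σ 1) = 2 * w ∧ T.a (σ 0) (σ 2) = 0 ∧ T.a (σ 0) (σ 3) = 0 ∧ T.a (σ 0) (σ 4) = 0 ∧ T.a (σ 0) (σ 5) = 0 ∧ T.a (σ 0) (σ 6) = 0 ∧ T.a (σ 0) (σ 7) = 0 ∧ T.a (σ 0) (σ 8) = 0 ∧ T.a (σ 1) (σ 1) = -4 * w ∧ T.a (σ 1) (σ 2) = 2 * w ∧ T.a (σ 1) (σ 3) = 0 ∧ T.a (σ 1) (σ 4) = 0 ∧ T.a (σ 1)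 (σ 5) = 0 ∧ T.a (σ 1) (σ 6) = 0 ∧ T.a (σ 1) (σ 7) = 0 ∧ T.a (σ 1) (σ 8) = 0 ∧ T.a (σ 2) (σ 2) = -4 * w ∧ T.a (σ 2) (σ 3) = 2 * w ∧ T.a (σ 2) (σ 4) = 0 ∧ T.a (σ 2) (σ 5) = 0 ∧ T.a (σ 2) (σ 6) = 0 ∧ T.a (σ 2) (σ 7) = 0 ∧ T.a (σ 2) (σ 8) = 0 ∧ T.a (σ 3) (σ 3) = -4 * w ∧ T.a (σ 3) (σ 4) = 2 * w ∧ T.a (σ 3) (σ 5) = 0 ∧ T.a (σ 3) (σ 6) = 0 ∧ T.a (σ 3) (σ 7) = 0 ∧ T.a (σ 3) (σ 8) = 0 ∧ T.a (σ 4) (σ 4) = -4 * w ∧ T.a (σ 4) (σ 5) = 2 * w ∧ T.a (σ 4) (σ 6) = 0 ∧ T.a (σ 4) (σ 7) = 0 ∧ T.a (σ 4) (σ 8) = 0 ∧ T.a (σ 5) (σ 5) = -4 * w ∧ T.a (σ 5) (σ 6) = 2 * w ∧ T.a (σ 5) (σ 7) = 0 ∧ T.a (σ 5) (σ 8) = 0 ∧ T.a (σ 6) (σ 6) = -4 * w ∧ T.a (σ 6) (σ 7) = 2 * w ∧ T.a (σ 6) (σ 8) = 2 * w ∧ T.a (σ 7) (σ 7) = -4 * w ∧ T.a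 (σ 7) (σ 8) = 0 ∧ T.a (σ 8) (σ 8) = -4 * w) ∨
      (T.m (σ 0) = m ∧ T.m (σ 1) = m ∧ T.m (σ 2) = 2 * m ∧ T.m (σ 3) = 2 * m ∧ T.m (σ 4) = 2 * m ∧ T.m (σ 5) = 2 * m ∧ T.m (σ 6) = 2 * m ∧ T.m (σ 7) = m ∧ T.m (σ 8) = m ∧ T.w (σ 0) = w ∧ T.w (σ 1) = w ∧ T.w (σ 2) = w ∧ T.w (σ 3) = w ∧ T.w (σ 4) = w ∧ T.w (σ 5) = w ∧ T.w (σ 6) = w ∧ T.w (σ 7) = w ∧ T.w (σ 8) = w ∧ T.a (σ 0) (σ 0) = -2 * w ∧ T.a (σ 0) (σ 1) = 0 ∧ T.a (σ 0) (σ 2) = w ∧ T.a (σ 0) (σ 3) = 0 ∧ T.a (σ 0) (σ 4) = 0 ∧ T.a (σ 0) (σ 5) = 0 ∧ T.a (σ 0) (σ 6) = 0 ∧ T.a (σ 0) (σ 7) = 0 ∧ T.a (σ 0) (σ 8) = 0 ∧ T.a (σ 1) (σ 1) = -2 * w ∧ T.a (σ 1) (σ 2) = w ∧ T.a (σ 1) (σ 3) = 0 ∧ T.a (σ 1) (σ 4) = 0 ∧ T.a (σ 1) (σ 5) = 0 ∧ T.a (σ 1) (σ 6) = 0 ∧ T.a (σ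 1) (σ 7) = 0 ∧ T.a (σ 1) (σ 8) = 0 ∧ T.a (σ 2) (σ 2) = -2 * w ∧ T.a (σ 2) (σ 3) = w ∧ T.a (σ 2) (σ 4) = 0 ∧ T.a (σ 2) (σ 5) = 0 ∧ T.a (σ 2) (σ 6) = 0 ∧ T.a (σ 2) (σ 7) = 0 ∧ T.a (σ 2) (σ 8) = 0 ∧ T.a (σ 3) (σ 3) = -2 * w ∧ T.a (σ 3) (σ 4) = w ∧ T.a (σ 3) (σ 5) = 0 ∧ T.a (σ 3) (σ 6) = 0 ∧ T.a (σ 3) (σ 7) = 0 ∧ T.a (σ 3) (σ 8) = 0 ∧ T.a (σ 4) (σ 4) = -2 * w ∧ T.a (σ 4) (σ 5) = w ∧ T.a (σ 4) (σ 6) = 0 ∧ T.a (σ 4) (σ 7) = 0 ∧ T.a (σ 4) (σ 8) = 0 ∧ T.a (σ 5) (σ 5) = -2 * w ∧ T.a (σ 5) (σ 6) = w ∧ T.a (σ 5) (σ 7) = 0 ∧ T.a (σ 5) (σ 8) = 0 ∧ T.a (σ 6) (σ 6) = -2 * w ∧ T.a (σ 6) (σ 7) = w ∧ T.a (σ 6) (σ 8) = w ∧ T.a (σ 7) (σ 7) = -2 * w ∧ T.a (σ 7) (σ 8) = 0 ∧ T.a (σ 8) (σ 8) = -2 * w) ∨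
      (T.m (σ 0) = m ∧ T.m (σ 1) = 2 * m ∧ T.m (σ 2) = 3 * m ∧ T.m (σ 3) = 4 * m ∧ T.m (σ 4) = 5 * m ∧ T.m (σ 5) = 6 * m ∧ T.m (σ 6) = 4 * m ∧ T.m (σ 7) = 2 * m ∧ T.m (σ 8) = 3 * m ∧ T.w (σ 0) = w ∧ T.w (σ 1) = w ∧ T.w (σ 2) = w ∧ T.w (σ 3) = w ∧ T.w (σ 4) = w ∧ T.w (σ 5) = w ∧ T.w (σ 6) = w ∧ T.w (σ 7) = w ∧ T.w (σ 8) = w ∧ T.a (σ 0) (σ 0) = -2 * w ∧ T.a (σ 0) (σ 1) = w ∧ T.a (σ 0) (σ 2) = 0 ∧ T.a (σ 0) (σ 3) = 0 ∧ T.a (σ 0) (σ 4) = 0 ∧ T.a (σ 0) (σ 5) = 0 ∧ T.a (σ 0) (σ 6) = 0 ∧ T.a (σ 0) (σ 7) = 0 ∧ T.a (σ 0) (σ 8) = 0 ∧ T.a (σ 1) (σ 1) = -2 * w ∧ T.a (σ 1) (σ 2) = w ∧ T.a (σ 1) (σ 3) = 0 ∧ T.a (σ 1) (σ 4) = 0 ∧ T.a (σ 1) (σ 5) = 0 ∧ T.a (σ 1) (σ 6) = 0 ∧ T.a (σ 1) (σ 7) = 0 ∧ T.a (σ 1) (σ 8) =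 0 ∧ T.a (σ 2) (σ 2) = -2 * w ∧ T.a (σ 2) (σ 3) = w ∧ T.a (σ 2) (σ 4) = 0 ∧ T.a (σ 2) (σ 5) = 0 ∧ T.a (σ 2) (σ 6) = 0 ∧ T.a (σ 2) (σ 7) = 0 ∧ T.a (σ 2) (σ 8) = 0 ∧ T.a (σ 3) (σ 3) = -2 * w ∧ T.a (σ 3) (σ 4) = w ∧ T.a (σ 3) (σ 5) = 0 ∧ T.a (σ 3) (σ 6) = 0 ∧ T.a (σ 3) (σ 7) = 0 ∧ T.a (σ 3) (σ 8) = 0 ∧ T.a (σ 4) (σ 4) = -2 * w ∧ T.a (σ 4) (σ 5) = w ∧ T.a (σ 4) (σ 6) = 0 ∧ T.a (σ 4) (σ 7) = 0 ∧ T.a (σ 4) (σ 8) = 0 ∧ T.a (σ 5) (σ 5) = -2 * w ∧ T.a (σ 5) (σ 6) = w ∧ T.a (σ 5) (σ 7) = 0 ∧ T.a (σ 5) (σ 8) = w ∧ T.a (σ 6) (σ 6) = -2 * w ∧ T.a (σ 6) (σ 7) = w ∧ T.a (σ 6) (σ 8) = 0 ∧ T.a (σ 7) (σ 7) = -2 * w ∧ T.a (σ 7) (σ 8) = 0 ∧ T.a (σ 8) (σ 8) = -2 * w)) := by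
  have c0_1 : cc T (σ 0) (σ 1) = 2 := by rw [hC 0 1 (by decide)]; rfl
  have c0_2 : cc T (σ 0) (σ 2) = 0 := by rw [hC 0 2 (by decide)]; rfl
  have c0_3 : cc T (σ 0) (σ 3) = 0 := by rw [hC 0 3 (by decide)]; rfl
  have c0_4 : cc T (σ 0) (σ 4) = 0 := by rw [hC 0 4 (by decide)]; rfl
  have c0_5 : cc T (σ 0) (σ 5) = 0 := by rw [hC 0 5 (by decide)]; rfl
  have c0_6 : cc T (σ 0) (σ 6) = 0 := by rw [hC 0 6 (by decide)]; rfl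
  have c0_7 : cc T (σ 0) (σ 7) = 0 := by rw [hC 0 7 (by decide)]; rfl
  have c0_8 : cc T (σ 0) (σ 8) = 0 := by rw [hC 0 8 (by decide)]; rfl
  have c1_0 : cc T (σ 1) (σ 0) = 1 := by rw [hC 1 0 (by decide)]; rfl
  have c1_2 : cc T (σ 1) (σ 2) = 1 := by rw [hC 1 2 (by decide)]; rfl
  have c1_3 : cc T (σ 1) (σ 3) = 0 := by rw [hC 1 3 (by decide)]; rfl
  have c1_4 : cc T (σ 1) (σ 4) = 0 := by rw [hC 1 4 (by decide)]; rfl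
  have c1_5 : cc T (σ 1) (σ 5) = 0 := by rw [hC 1 5 (by decide)]; rfl
  have c1_6 : cc T (σ 1) (σ 6) = 0 := by rw [hC 1 6 (by decide)]; rfl
  have c1_7 : cc T (σ 1) (σ 7) = 0 := by rw [hC 1 7 (by decide)]; rfl
  have c1_8 : cc T (σ 1) (σ 8) = 0 := by rw [hC 1 8 (by decide)]; rfl
  have c2_0 : cc T (σ 2) (σ 0) = 0 := by rw [hC 2 0 (by decide)]; rfl
  have c2_1 : cc T (σ 2) (σ 1) = 1 := by rw [hC 2 1 (by decide)]; rfl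
  have c2_3 : cc T (σ 2) (σ 3) = 1 := by rw [hC 2 3 (by decide)]; rfl
  have c2_4 : cc T (σ 2) (σ 4) = 0 := by rw [hC 2 4 (by decide)]; rfl
  have c2_5 : cc T (σ 2) (σ 5) = 0 := by rw [hC 2 5 (by decide)]; rfl
  have c2_6 : cc T (σ 2) (σ 6) = 0 := by rw [hC 2 6 (by decide)]; rfl
  have c2_7 : cc T (σ 2) (σ 7) = 0 := by rw [hC 2 7 (by decide)]; rfl
  have c2_8 : cc T (σ 2) (σ 8) = 0 := by rw [hC 2 8 (by decide)]; rfl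
  have c3_0 : cc T (σ 3) (σ 0) = 0 := by rw [hC 3 0 (by decide)]; rfl
  have c3_1 : cc T (σ 3) (σ 1) = 0 := by rw [hC 3 1 (by decide)]; rfl
  have c3_2 : cc T (σ 3) (σ 2) = 1 := by rw [hC 3 2 (by decide)]; rfl
  have c3_4 : cc T (σ 3) (σ 4) = 1 := by rw [hC 3 4 (by decide)]; rfl
  have c3_5 : cc T (σ 3) (σ 5) = 0 := by rw [hC 3 5 (by decide)]; rfl
  have c3_6 : cc T (σ 3) (σ 6) = 0 := by rw [hC 3 6 (by decide)]; rfl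
  have c3_7 : cc T (σ 3) (σ 7) = 0 := by rw [hC 3 7 (by decide)]; rfl
  have c3_8 : cc T (σ 3) (σ 8) = 0 := by rw [hC 3 8 (by decide)]; rfl
  have c4_0 : cc T (σ 4) (σ 0) = 0 := by rw [hC 4 0 (by decide)]; rfl
  have c4_1 : cc T (σ 4) (σ 1) = 0 := by rw [hC 4 1 (by decide)]; rfl
  have c4_2 : cc T (σ 4) (σ 2) = 0 := by rw [hC 4 2 (by decide)]; rfl
  have c4_3 : cc T (σ 4) (σ 3) = 1 := by rw [hC 4 3 (by decide)]; rfl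
  have c4_5 : cc T (σ 4) (σ 5) = 1 := by rw [hC 4 5 (by decide)]; rfl
  have c4_6 : cc T (σ 4) (σ 6) = 0 := by rw [hC 4 6 (by decide)]; rfl
  have c4_7 : cc T (σ 4) (σ 7) = 0 := by rw [hC 4 7 (by decide)]; rfl
  have c4_8 : cc T (σ 4) (σ 8) = 0 := by rw [hC 4 8 (by decide)]; rfl
  have c5_0 : cc T (σ 5) (σ 0) = 0 := by rw [hC 5 0 (by decide)]; rfl
  have c5_1 : cc T (σ 5) (σ 1) = 0 := by rw [hC 5 1 (by decide)]; rfl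
  have c5_2 : cc T (σ 5) (σ 2) = 0 := by rw [hC 5 2 (by decide)]; rfl
  have c5_3 : cc T (σ 5) (σ 3) = 0 := by rw [hC 5 3 (by decide)]; rfl
  have c5_4 : cc T (σ 5) (σ 4) = 1 := by rw [hC 5 4 (by decide)]; rfl
  have c5_6 : cc T (σ 5) (σ 6) = 1 := by rw [hC 5 6 (by decide)]; rfl
  have c5_7 : cc T (σ 5) (σ 7) = 0 := by rw [hC 5 7 (by decide)]; rfl
  have c5_8 : cc T (σ 5) (σ 8) = 0 := by rw [hC 5 8 (by decide)]; rfl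
  have c6_0 : cc T (σ 6) (σ 0) = 0 := by rw [hC 6 0 (by decide)]; rfl
  have c6_1 : cc T (σ 6) (σ 1) = 0 := by rw [hC 6 1 (by decide)]; rfl
  have c6_2 : cc T (σ 6) (σ 2) = 0 := by rw [hC 6 2 (by decide)]; rfl
  have c6_3 : cc T (σ 6) (σ 3) = 0 := by rw [hC 6 3 (by decide)]; rfl
  have c6_4 : cc T (σ 6) (σ 4) = 0 := by rw [hC 6 4 (by decide)]; rfl
  have c6_5 : cc T (σ 6) (σ 5) = 1 := by rw [hC 6 5 (by decide)]; rfl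
  have c6_7 : cc T (σ 6) (σ 7) = 1 := by rw [hC 6 7 (by decide)]; rfl
  have c6_8 : cc T (σ 6) (σ 8) = 0 := by rw [hC 6 8 (by decide)]; rfl
  have c7_0 : cc T (σ 7) (σ 0) = 0 := by rw [hC 7 0 (by decide)]; rfl
  have c7_1 : cc T (σ 7) (σ 1) = 0 := by rw [hC 7 1 (by decide)]; rfl
  have c7_2 : cc T (σ 7) (σ 2) = 0 := by rw [hC 7 2 (by decide)]; rfl
  have c7_3 : cc T (σ 7) (σ 3) = 0 := by rw [hC 7 3 (by decide)]; rfl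
  have c7_4 : cc T (σ 7) (σ 4) = 0 := by rw [hC 7 4 (by decide)]; rfl
  have c7_5 : cc T (σ 7) (σ 5) = 0 := by rw [hC 7 5 (by decide)]; rfl
  have c7_6 : cc T (σ 7) (σ 6) = 1 := by rw [hC 7 6 (by decide)]; rfl
  have c7_8 : cc T (σ 7) (σ 8) = 2 := by rw [hC 7 8 (by decide)]; rfl
  have c8_0 : cc T (σ 8) (σ 0) = 0 := by rw [hC 8 0 (by decide)]; rfl
  have c8_1 : cc T (σ 8) (σ 1) = 0 := by rw [hC 8 1 (by decide)]; rfl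
  have c8_2 : cc T (σ 8) (σ 2) = 0 := by rw [hC 8 2 (by decide)]; rfl
  have c8_3 : cc T (σ 8) (σ 3) = 0 := by rw [hC 8 3 (by decide)]; rfl
  have c8_4 : cc T (σ 8) (σ 4) = 0 := by rw [hC 8 4 (by decide)]; rfl
  have c8_5 : cc T (σ 8) (σ 5) = 0 := by rw [hC 8 5 (by decide)]; rfl
  have c8_6 : cc T (σ 8) (σ 6) = 0 := by rw [hC 8 6 (by decide)]; rfl
  have c8_7 : cc T (σ 8) (σ 7) = 1 := by rw [hC 8 7 (by decide)]; rfl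
  have dd0 := cc_diag T hd (σ 0)
  have dd1 := cc_diag T hd (σ 1)
  have dd2 := cc_diag T hd (σ 2)
  have dd3 := cc_diag T hd (σ 3)
  have dd4 := cc_diag T hd (σ 4)
  have dd5 := cc_diag T hd (σ 5)
  have dd6 := cc_diag T hd (σ 6)
  have dd7 := cc_diag T hd (σ 7)
  have dd8 := cc_diag T hd (σ 8)
  have r0 := row9 T σ 0
  rw [dd0, c0_1, c0_2, c0_3, c0_4, c0_5, c0_6, c0_7, c0_8] at r0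
  have r1 := row9 T σ 1
  rw [c1_0, dd1, c1_2, c1_3, c1_4, c1_5, c1_6, c1_7, c1_8] at r1
  have r2 := row9 T σ 2
  rw [c2_0, c2_1, dd2, c2_3, c2_4, c2_5, c2_6, c2_7, c2_8] at r2
  have r3 := row9 T σ 3
  rw [c3_0, c3_1, c3_2, dd3, c3_4, c3_5, c3_6, c3_7, c3_8] at r3
  have r4 := row9 T σ 4
  rw [c4_0, c4_1, c4_2, c4_3, dd4, c4_5, c4_6, c4_7, c4_8] at r4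
  have r5 := row9 T σ 5
  rw [c5_0, c5_1, c5_2, c5_3, c5_4, dd5, c5_6, c5_7, c5_8] at r5
  have r6 := row9 T σ 6
  rw [c6_0, c6_1, c6_2, c6_3, c6_4, c6_5, dd6, c6_7, c6_8] at r6
  have r7 := row9 T σ 7
  rw [c7_0, c7_1, c7_2, c7_3, c7_4, c7_5, c7_6, dd7, c7_8] at r7
  have r8 := row9 T σ 8
  rw [c8_0, c8_1, c8_2, c8_3, c8_4, c8_5, c8_6, c8_7, dd8] at r8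
  have a0_1 : T.a (σ 0) (σ 1) = T.w (σ 0) * 2 := by rw [a_eq, c0_1]
  have a0_2 : T.a (σ 0) (σ 2) = T.w (σ 0) * 0 := by rw [a_eq, c0_2]
  have a0_3 : T.a (σ 0) (σ 3) = T.w (σ 0) * 0 := by rw [a_eq, c0_3]
  have a0_4 : T.a (σ 0) (σ 4) = T.w (σ 0) * 0 := by rw [a_eq, c0_4]
  have a0_5 : T.a (σ 0) (σ 5) = T.w (σ 0) * 0 := by rw [a_eq, c0_5]
  have a0_6 : T.a (σ 0) (σ 6) = T.w (σ 0) * 0 := by rw [a_eq, c0_6]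
  have a0_7 : T.a (σ 0) (σ 7) = T.w (σ 0) * 0 := by rw [a_eq, c0_7]
  have a0_8 : T.a (σ 0) (σ 8) = T.w (σ 0) * 0 := by rw [a_eq, c0_8]
  have a1_0 : T.a (σ 1) (σ 0) = T.w (σ 1) * 1 := by rw [a_eq, c1_0]
  have a1_2 : T.a (σ 1) (σ 2) = T.w (σ 1) * 1 := by rw [a_eq, c1_2]
  have a1_3 : T.a (σ 1) (σ 3) = T.w (σ 1) * 0 := by rw [a_eq, c1_3]
  have a1_4 : T.a (σ 1) (σ 4) = T.w (σ 1) * 0 := by rw [a_eq, c1_4]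
  have a1_5 : T.a (σ 1) (σ 5) = T.w (σ 1) * 0 := by rw [a_eq, c1_5]
  have a1_6 : T.a (σ 1) (σ 6) = T.w (σ 1) * 0 := by rw [a_eq, c1_6]
  have a1_7 : T.a (σ 1) (σ 7) = T.w (σ 1) * 0 := by rw [a_eq, c1_7]
  have a1_8 : T.a (σ 1) (σ 8) = T.w (σ 1) * 0 := by rw [a_eq, c1_8]
  have a2_0 : T.a (σ 2) (σ 0) = T.w (σ 2) * 0 := by rw [a_eq, c2_0]
  have a2_1 : T.a (σ 2) (σ 1) = T.w (σ 2) * 1 := by rw [a_eq, c2_1]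
  have a2_3 : T.a (σ 2) (σ 3) = T.w (σ 2) * 1 := by rw [a_eq, c2_3]
  have a2_4 : T.a (σ 2) (σ 4) = T.w (σ 2) * 0 := by rw [a_eq, c2_4]
  have a2_5 : T.a (σ 2) (σ 5) = T.w (σ 2) * 0 := by rw [a_eq, c2_5]
  have a2_6 : T.a (σ 2) (σ 6) = T.w (σ 2) * 0 := by rw [a_eq, c2_6]
  have a2_7 : T.a (σ 2) (σ 7) = T.w (σ 2) * 0 := by rw [a_eq, c2_7]
  have a2_8 : T.a (σ 2) (σ 8) = T.w (σ 2) * 0 := by rw [a_eq, c2_8]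
  have a3_0 : T.a (σ 3) (σ 0) = T.w (σ 3) * 0 := by rw [a_eq, c3_0]
  have a3_1 : T.a (σ 3) (σ 1) = T.w (σ 3) * 0 := by rw [a_eq, c3_1]
  have a3_2 : T.a (σ 3) (σ 2) = T.w (σ 3) * 1 := by rw [a_eq, c3_2]
  have a3_4 : T.a (σ 3) (σ 4) = T.w (σ 3) * 1 := by rw [a_eq, c3_4]
  have a3_5 : T.a (σ 3) (σ 5) = T.w (σ 3) * 0 := by rw [a_eq, c3_5]
  have a3_6 : T.a (σ 3) (σ 6) = T.w (σ 3) * 0 := by rw [a_eq, c3_6]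
  have a3_7 : T.a (σ 3) (σ 7) = T.w (σ 3) * 0 := by rw [a_eq, c3_7]
  have a3_8 : T.a (σ 3) (σ 8) = T.w (σ 3) * 0 := by rw [a_eq, c3_8]
  have a4_0 : T.a (σ 4) (σ 0) = T.w (σ 4) * 0 := by rw [a_eq, c4_0]
  have a4_1 : T.a (σ 4) (σ 1) = T.w (σ 4) * 0 := by rw [a_eq, c4_1]
  have a4_2 : T.a (σ 4) (σ 2) = T.w (σ 4) * 0 := by rw [a_eq, c4_2]
  have a4_3 : T.a (σ 4) (σ 3) = T.w (σ 4) * 1 := by rw [a_eq, c4_3]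
  have a4_5 : T.a (σ 4) (σ 5) = T.w (σ 4) * 1 := by rw [a_eq, c4_5]
  have a4_6 : T.a (σ 4) (σ 6) = T.w (σ 4) * 0 := by rw [a_eq, c4_6]
  have a4_7 : T.a (σ 4) (σ 7) = T.w (σ 4) * 0 := by rw [a_eq, c4_7]
  have a4_8 : T.a (σ 4) (σ 8) = T.w (σ 4) * 0 := by rw [a_eq, c4_8]
  have a5_0 : T.a (σ 5) (σ 0) = T.w (σ 5) * 0 := by rw [a_eq, c5_0]
  have a5_1 : T.a (σ 5) (σ 1) = T.w (σ 5) * 0 := by rw [a_eq, c5_1]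
  have a5_2 : T.a (σ 5) (σ 2) = T.w (σ 5) * 0 := by rw [a_eq, c5_2]
  have a5_3 : T.a (σ 5) (σ 3) = T.w (σ 5) * 0 := by rw [a_eq, c5_3]
  have a5_4 : T.a (σ 5) (σ 4) = T.w (σ 5) * 1 := by rw [a_eq, c5_4]
  have a5_6 : T.a (σ 5) (σ 6) = T.w (σ 5) * 1 := by rw [a_eq, c5_6]
  have a5_7 : T.a (σ 5) (σ 7) = T.w (σ 5) * 0 := by rw [a_eq, c5_7]
  have a5_8 : T.a (σ 5) (σ 8) = T.w (σ 5) * 0 := by rw [a_eq, c5_8]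
  have a6_0 : T.a (σ 6) (σ 0) = T.w (σ 6) * 0 := by rw [a_eq, c6_0]
  have a6_1 : T.a (σ 6) (σ 1) = T.w (σ 6) * 0 := by rw [a_eq, c6_1]
  have a6_2 : T.a (σ 6) (σ 2) = T.w (σ 6) * 0 := by rw [a_eq, c6_2]
  have a6_3 : T.a (σ 6) (σ 3) = T.w (σ 6) * 0 := by rw [a_eq, c6_3]
  have a6_4 : T.a (σ 6) (σ 4) = T.w (σ 6) * 0 := by rw [a_eq, c6_4]
  have a6_5 : T.a (σ 6) (σ 5) = T.w (σ 6) * 1 := by rw [a_eq, c6_5]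
  have a6_7 : T.a (σ 6) (σ 7) = T.w (σ 6) * 1 := by rw [a_eq, c6_7]
  have a6_8 : T.a (σ 6) (σ 8) = T.w (σ 6) * 0 := by rw [a_eq, c6_8]
  have a7_0 : T.a (σ 7) (σ 0) = T.w (σ 7) * 0 := by rw [a_eq, c7_0]
  have a7_1 : T.a (σ 7) (σ 1) = T.w (σ 7) * 0 := by rw [a_eq, c7_1]
  have a7_2 : T.a (σ 7) (σ 2) = T.w (σ 7) * 0 := by rw [a_eq, c7_2]
  have a7_3 : T.a (σ 7) (σ 3) = T.w (σ 7) * 0 := by rw [a_eq, c7_3]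
  have a7_4 : T.a (σ 7) (σ 4) = T.w (σ 7) * 0 := by rw [a_eq, c7_4]
  have a7_5 : T.a (σ 7) (σ 5) = T.w (σ 7) * 0 := by rw [a_eq, c7_5]
  have a7_6 : T.a (σ 7) (σ 6) = T.w (σ 7) * 1 := by rw [a_eq, c7_6]
  have a7_8 : T.a (σ 7) (σ 8) = T.w (σ 7) * 2 := by rw [a_eq, c7_8]
  have a8_0 : T.a (σ 8) (σ 0) = T.w (σ 8) * 0 := by rw [a_eq, c8_0]
  have a8_1 : T.a (σ 8) (σ 1) = T.w (σ 8) * 0 := by rw [a_eq, c8_1]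
  have a8_2 : T.a (σ 8) (σ 2) = T.w (σ 8) * 0 := by rw [a_eq, c8_2]
  have a8_3 : T.a (σ 8) (σ 3) = T.w (σ 8) * 0 := by rw [a_eq, c8_3]
  have a8_4 : T.a (σ 8) (σ 4) = T.w (σ 8) * 0 := by rw [a_eq, c8_4]
  have a8_5 : T.a (σ 8) (σ 5) = T.w (σ 8) * 0 := by rw [a_eq, c8_5]
  have a8_6 : T.a (σ 8) (σ 6) = T.w (σ 8) * 0 := by rw [a_eq, c8_6]
  have a8_7 : T.a (σ 8) (σ 7) = T.w (σ 8) * 1 := by rw [a_eq, c8_7]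
  have ad0 := hd (σ 0)
  have ad1 := hd (σ 1)
  have ad2 := hd (σ 2)
  have ad3 := hd (σ 3)
  have ad4 := hd (σ 4)
  have ad5 := hd (σ 5)
  have ad6 := hd (σ 6)
  have ad7 := hd (σ 7)
  have ad8 := hd (σ 8)
  have s0_1 := a_symm T (σ 0) (σ 1)
  have s0_2 := a_symm T (σ 0) (σ 2)
  have s0_3 := a_symm T (σ 0) (σ 3)
  have s0_4 := a_symm T (σ 0) (σ 4)
  have s0_5 := a_symm T (σ 0) (σ 5)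
  have s0_6 := a_symm T (σ 0) (σ 6)
  have s0_7 := a_symm T (σ 0) (σ 7)
  have s0_8 := a_symm T (σ 0) (σ 8)
  have s1_2 := a_symm T (σ 1) (σ 2)
  have s1_3 := a_symm T (σ 1) (σ 3)
  have s1_4 := a_symm T (σ 1) (σ 4)
  have s1_5 := a_symm T (σ 1) (σ 5)
  have s1_6 := a_symm T (σ 1) (σ 6)
  have s1_7 := a_symm T (σ 1) (σ 7)
  have s1_8 := a_symm T (σ 1) (σ 8)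
  have s2_3 := a_symm T (σ 2) (σ 3)
  have s2_4 := a_symm T (σ 2) (σ 4)
  have s2_5 := a_symm T (σ 2) (σ 5)
  have s2_6 := a_symm T (σ 2) (σ 6)
  have s2_7 := a_symm T (σ 2) (σ 7)
  have s2_8 := a_symm T (σ 2) (σ 8)
  have s3_4 := a_symm T (σ 3) (σ 4)
  have s3_5 := a_symm T (σ 3) (σ 5)
  have s3_6 := a_symm T (σ 3) (σ 6)
  have s3_7 := a_symm T (σ 3) (σ 7)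
  have s3_8 := a_symm T (σ 3) (σ 8)
  have s4_5 := a_symm T (σ 4) (σ 5)
  have s4_6 := a_symm T (σ 4) (σ 6)
  have s4_7 := a_symm T (σ 4) (σ 7)
  have s4_8 := a_symm T (σ 4) (σ 8)
  have s5_6 := a_symm T (σ 5) (σ 6)
  have s5_7 := a_symm T (σ 5) (σ 7)
  have s5_8 := a_symm T (σ 5) (σ 8)
  have s6_7 := a_symm T (σ 6) (σ 7)
  have s6_8 := a_symm T (σ 6) (σ 8)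
  have s7_8 := a_symm T (σ 7) (σ 8)
  clear c0_1 c0_2 c0_3 c0_4 c0_5 c0_6 c0_7 c0_8 c1_0 c1_2 c1_3 c1_4 c1_5 c1_6 c1_7 c1_8 c2_0 c2_1 c2_3 c2_4 c2_5 c2_6 c2_7 c2_8 c3_0 c3_1 c3_2 c3_4 c3_5 c3_6 c3_7 c3_8 c4_0 c4_1 c4_2 c4_3 c4_5 c4_6 c4_7 c4_8 c5_0 c5_1 c5_2 c5_3 c5_4 c5_6 c5_7 c5_8 c6_0 c6_1 c6_2 c6_3 c6_4 c6_5 c6_7 c6_8 c7_0 c7_1 c7_2 c7_3 c7_4 c7_5 c7_6 c7_8 c8_0 c8_1 c8_2 c8_3 c8_4 c8_5 c8_6 c8_7 dd0 dd1 dd2 dd3 dd4 dd5 dd6 dd7 dd8 hC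
  have hm0 : T.m (σ 0) = 2 * T.m (σ 8) := by omega
  have hm1 : T.m (σ 1) = 2 * T.m (σ 8) := by omega
  have hm2 : T.m (σ 2) = 2 * T.m (σ 8) := by omega
  have hm3 : T.m (σ 3) = 2 * T.m (σ 8) := by omega
  have hm4 : T.m (σ 4) = 2 * T.m (σ 8) := by omega
  have hm5 : T.m (σ 5) = 2 * T.m (σ 8) := by omega
  have hm6 : T.m (σ 6) = 2 * T.m (σ 8) := by omega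
  have hm7 : T.m (σ 7) = 2 * T.m (σ 8) := by omega
  have hm8 : T.m (σ 8) = 1 * T.m (σ 8) := by omega
  clear r0 r1 r2 r3 r4 r5 r6 r7 r8
  have hw0 : T.w (σ 0) = 1 * T.w (σ 0) := by omega
  have hw1 : T.w (σ 1) = 2 * T.w (σ 0) := by omega
  have hw2 : T.w (σ 2) = 2 * T.w (σ 0) := by omega
  have hw3 : T.w (σ 3) = 2 * T.w (σ 0) := by omega
  have hw4 : T.w (σ 4) = 2 * T.w (σ 0) := by omega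
  have hw5 : T.w (σ 5) = 2 * T.w (σ 0) := by omega
  have hw6 : T.w (σ 6) = 2 * T.w (σ 0) := by omega
  have hw7 : T.w (σ 7) = 2 * T.w (σ 0) := by omega
  have hw8 : T.w (σ 8) = 4 * T.w (σ 0) := by omega
  refine ⟨σ, T.m (σ 8), T.w (σ 0), ?_⟩
  refine Or.inr (Or.inl ?_)
  refine ⟨?_, ?_, ?_, ?_, ?_, ?_, ?_, ?_, ?_, ?_, ?_, ?_, ?_, ?_, ?_, ?_, ?_, ?_, ?_, ?_, ?_, ?_, ?_, ?_, ?_, ?_, ?_, ?_, ?_, ?_, ?_, ?_, ?_, ?_, ?_, ?_, ?_, ?_, ?_, ?_, ?_, ?_, ?_, ?_, ?_, ?_, ?_, ?_, ?_, ?_, ?_, ?_, ?_, ?_, ?_, ?_, ?_, ?_, ?_, ?_, ?_, ?_, ?_⟩ <;> omega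

theorem form9_2 (T : NumericalType 9) (hd : ∀ i, T.a i i = -2 * T.w i)
    (σ : Equiv.Perm (Fin 9))
    (hC : ∀ i j : Fin 9, i ≠ j → cc T (σ i) (σ j) = (E forms9 2 i j : ℤ)) :
    ∃ (σ : Equiv.Perm (Fin 9)) (m w : ℤ),
      ((T.m (σ 0) = m ∧ T.m (σ 1) = m ∧ T.m (σ 2) = m ∧ T.m (σ 3) = m ∧ T.m (σ 4) = m ∧ T.m (σ 5) = m ∧ T.m (σ 6) = m ∧ T.m (σ 7) = m ∧ T.m (σ 8) = m ∧ T.w (σ 0) = w ∧ T.w (σ 1) = w ∧ T.w (σ 2) = w ∧ T.w (σ 3) = w ∧ T.w (σ 4) = w ∧ T.w (σ 5) = w ∧ T.w (σ 6) = w ∧ T.w (σ 7) = w ∧ T.w (σ 8) = w ∧ T.a (σ 0) (σ 0) = -2 * w ∧ T.a (σ 0) (σ 1) = w ∧ T.a (σ 0) (σ 2) = 0 ∧ T.a (σ 0) (σ 3) = 0 ∧ T.a (σ 0) (σ 4) = 0 ∧ T.a (σ 0) (σ 5) = 0 ∧ T.a (σ 0) (σ 6) = 0 ∧ T.a (σ 0) (σ 7) = 0 ∧ T.a (σ 0)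 (σ 8) = w ∧ T.a (σ 1) (σ 1) = -2 * w ∧ T.a (σ 1) (σ 2) = w ∧ T.a (σ 1) (σ 3) = 0 ∧ T.a (σ 1) (σ 4) = 0 ∧ T.a (σ 1) (σ 5) = 0 ∧ T.a (σ 1) (σ 6) = 0 ∧ T.a (σ 1) (σ 7) = 0 ∧ T.a (σ 1) (σ 8) = 0 ∧ T.a (σ 2) (σ 2) = -2 * w ∧ T.a (σ 2) (σ 3) = w ∧ T.a (σ 2) (σ 4) = 0 ∧ T.a (σ 2) (σ 5) = 0 ∧ T.a (σ 2) (σ 6) = 0 ∧ T.a (σ 2) (σ 7) = 0 ∧ T.a (σ 2) (σ 8) = 0 ∧ T.a (σ 3) (σ 3) = -2 * w ∧ T.a (σ 3) (σ 4) = w ∧ T.a (σ 3) (σ 5) = 0 ∧ T.a (σ 3) (σ 6) = 0 ∧ T.a (σ 3) (σ 7) = 0 ∧ T.a (σ 3) (σ 8) = 0 ∧ T.a (σ 4) (σ 4) = -2 * w ∧ T.a (σ 4) (σ 5) = w ∧ T.a (σ 4) (σ 6) = 0 ∧ T.a (σ 4) (σ 7) = 0 ∧ T.a (σ 4) (σ 8) = 0 ∧ T.a (σ 5) (σ 5) = -2 * w ∧ T.a (σ 5) (σ 6) = w ∧ T.a (σ 5) (σ 7) = 0 ∧ T.a (σ 5) (σ 8) = 0 ∧ T.a (σ 6)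 (σ 6) = -2 * w ∧ T.a (σ 6) (σ 7) = w ∧ T.a (σ 6) (σ 8) = 0 ∧ T.a (σ 7) (σ 7) = -2 * w ∧ T.a (σ 7) (σ 8) = w ∧ T.a (σ 8) (σ 8) = -2 * w) ∨
      (T.m (σ 0) = 2 * m ∧ T.m (σ 1) = 2 * m ∧ T.m (σ 2) = 2 * m ∧ T.m (σ 3) = 2 * m ∧ T.m (σ 4) = 2 * m ∧ T.m (σ 5) = 2 * m ∧ T.m (σ 6) = 2 * m ∧ T.m (σ 7) = 2 * m ∧ T.m (σ 8) = m ∧ T.w (σ 0) = w ∧ T.w (σ 1) = 2 * w ∧ T.w (σ 2) = 2 * w ∧ T.w (σ 3) = 2 * w ∧ T.w (σ 4) = 2 * w ∧ T.w (σ 5) = 2 * w ∧ T.w (σ 6) = 2 * w ∧ T.w (σ 7) = 2 * w ∧ T.w (σ 8) = 4 * w ∧ T.a (σ 0) (σ 0) = -2 * w ∧ T.a (σ 0) (σ 1) = 2 * w ∧ T.a (σ 0) (σ 2) = 0 ∧ T.a (σ 0) (σ 3) = 0 ∧ T.a (σ 0) (σ 4) = 0 ∧ T.a (σ 0) (σ 5) = 0 ∧ T.a (σ 0) (σ 6) = 0 ∧ T.a (σ 0) (σ 7) = 0 ∧ T.a (σ 0) (σ 8) = 0 ∧ T.a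 (σ 1) (σ 1) = -4 * w ∧ T.a (σ 1) (σ 2) = 2 * w ∧ T.a (σ 1) (σ 3) = 0 ∧ T.a (σ 1) (σ 4) = 0 ∧ T.a (σ 1) (σ 5) = 0 ∧ T.a (σ 1) (σ 6) = 0 ∧ T.a (σ 1) (σ 7) = 0 ∧ T.a (σ 1) (σ 8) = 0 ∧ T.a (σ 2) (σ 2) = -4 * w ∧ T.a (σ 2) (σ 3) = 2 * w ∧ T.a (σ 2) (σ 4) = 0 ∧ T.a (σ 2) (σ 5) = 0 ∧ T.a (σ 2) (σ 6) = 0 ∧ T.a (σ 2) (σ 7) = 0 ∧ T.a (σ 2) (σ 8) = 0 ∧ T.a (σ 3) (σ 3) = -4 * w ∧ T.a (σ 3) (σ 4) = 2 * w ∧ T.a (σ 3) (σ 5) = 0 ∧ T.a (σ 3) (σ 6) = 0 ∧ T.a (σ 3) (σ 7) = 0 ∧ T.a (σ 3) (σ 8) = 0 ∧ T.a (σ 4) (σ 4) = -4 * w ∧ T.a (σ 4) (σ 5) = 2 * w ∧ T.a (σ 4) (σ 6) = 0 ∧ T.a (σ 4) (σ 7) = 0 ∧ T.a (σ 4) (σ 8) = 0 ∧ T.a (σ 5) (σ 5) = -4 * w ∧ T.a (σ 5) (σ 6) = 2 * w ∧ T.a (σ 5) (σ 7) = 0 ∧ T.a (σ 5) (σ 8) = 0 ∧ T.a (σ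 6) (σ 6) = -4 * w ∧ T.a (σ 6) (σ 7) = 2 * w ∧ T.a (σ 6) (σ 8) = 0 ∧ T.a (σ 7) (σ 7) = -4 * w ∧ T.a (σ 7) (σ 8) = 4 * w ∧ T.a (σ 8) (σ 8) = -8 * w) ∨
      (T.m (σ 0) = m ∧ T.m (σ 1) = m ∧ T.m (σ 2) = m ∧ T.m (σ 3) = m ∧ T.m (σ 4) = m ∧ T.m (σ 5) = m ∧ T.m (σ 6) = m ∧ T.m (σ 7) = m ∧ T.m (σ 8) = m ∧ T.w (σ 0) = w ∧ T.w (σ 1) = 2 * w ∧ T.w (σ 2) = 2 * w ∧ T.w (σ 3) = 2 * w ∧ T.w (σ 4) = 2 * w ∧ T.w (σ 5) = 2 * w ∧ T.w (σ 6) = 2 * w ∧ T.w (σ 7) = 2 * w ∧ T.w (σ 8) = w ∧ T.a (σ 0) (σ 0) = -2 * w ∧ T.a (σ 0) (σ 1) = 2 * w ∧ T.a (σ 0) (σ 2) = 0 ∧ T.a (σ 0) (σ 3) = 0 ∧ T.a (σ 0) (σ 4) = 0 ∧ T.a (σ 0) (σ 5) = 0 ∧ T.a (σ 0) (σ 6) = 0 ∧ T.a (σ 0) (σ 7) = 0 ∧ T.a (σ 0) (σ 8) = 0 ∧ T.a (σ 1) (σ 1) = -4 * w ∧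 T.a (σ 1) (σ 2) = 2 * w ∧ T.a (σ 1) (σ 3) = 0 ∧ T.a (σ 1) (σ 4) = 0 ∧ T.a (σ 1) (σ 5) = 0 ∧ T.a (σ 1) (σ 6) = 0 ∧ T.a (σ 1) (σ 7) = 0 ∧ T.a (σ 1) (σ 8) = 0 ∧ T.a (σ 2) (σ 2) = -4 * w ∧ T.a (σ 2) (σ 3) = 2 * w ∧ T.a (σ 2) (σ 4) = 0 ∧ T.a (σ 2) (σ 5) = 0 ∧ T.a (σ 2) (σ 6) = 0 ∧ T.a (σ 2) (σ 7) = 0 ∧ T.a (σ 2) (σ 8) = 0 ∧ T.a (σ 3) (σ 3) = -4 * w ∧ T.a (σ 3) (σ 4) = 2 * w ∧ T.a (σ 3) (σ 5) = 0 ∧ T.a (σ 3) (σ 6) = 0 ∧ T.a (σ 3) (σ 7) = 0 ∧ T.a (σ 3) (σ 8) = 0 ∧ T.a (σ 4) (σ 4) = -4 * w ∧ T.a (σ 4) (σ 5) = 2 * w ∧ T.a (σ 4) (σ 6) = 0 ∧ T.a (σ 4) (σ 7) = 0 ∧ T.a (σ 4) (σ 8) = 0 ∧ T.a (σ 5) (σ 5) = -4 * w ∧ T.a (σ 5) (σ 6) = 2 * w ∧ T.a (σ 5) (σ 7) = 0 ∧ T.a (σ 5) (σ 8) = 0 ∧ T.a (σ 6) (σ 6) = -4 * w ∧ T.a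 (σ 6) (σ 7) = 2 * w ∧ T.a (σ 6) (σ 8) = 0 ∧ T.a (σ 7) (σ 7) = -4 * w ∧ T.a (σ 7) (σ 8) = 2 * w ∧ T.a (σ 8) (σ 8) = -2 * w) ∨
      (T.m (σ 0) = m ∧ T.m (σ 1) = 2 * m ∧ T.m (σ 2) = 2 * m ∧ T.m (σ 3) = 2 * m ∧ T.m (σ 4) = 2 * m ∧ T.m (σ 5) = 2 * m ∧ T.m (σ 6) = 2 * m ∧ T.m (σ 7) = 2 * m ∧ T.m (σ 8) = m ∧ T.w (σ 0) = 2 * w ∧ T.w (σ 1) = w ∧ T.w (σ 2) = w ∧ T.w (σ 3) = w ∧ T.w (σ 4) = w ∧ T.w (σ 5) = w ∧ T.w (σ 6) = w ∧ T.w (σ 7) = w ∧ T.w (σ 8) = 2 * w ∧ T.a (σ 0) (σ 0) = -4 * w ∧ T.a (σ 0) (σ 1) = 2 * w ∧ T.a (σ 0) (σ 2) = 0 ∧ T.a (σ 0) (σ 3) = 0 ∧ T.a (σ 0) (σ 4) = 0 ∧ T.a (σ 0) (σ 5) = 0 ∧ T.a (σ 0) (σ 6) = 0 ∧ T.a (σ 0) (σ 7) = 0 ∧ T.a (σ 0) (σ 8) = 0 ∧ T.a (σ 1) (σ 1) = -2 * w ∧ T.a (σ 1) (σ 2)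 = w ∧ T.a (σ 1) (σ 3) = 0 ∧ T.a (σ 1) (σ 4) = 0 ∧ T.a (σ 1) (σ 5) = 0 ∧ T.a (σ 1) (σ 6) = 0 ∧ T.a (σ 1) (σ 7) = 0 ∧ T.a (σ 1) (σ 8) = 0 ∧ T.a (σ 2) (σ 2) = -2 * w ∧ T.a (σ 2) (σ 3) = w ∧ T.a (σ 2) (σ 4) = 0 ∧ T.a (σ 2) (σ 5) = 0 ∧ T.a (σ 2) (σ 6) = 0 ∧ T.a (σ 2) (σ 7) = 0 ∧ T.a (σ 2) (σ 8) = 0 ∧ T.a (σ 3) (σ 3) = -2 * w ∧ T.a (σ 3) (σ 4) = w ∧ T.a (σ 3) (σ 5) = 0 ∧ T.a (σ 3) (σ 6) = 0 ∧ T.a (σ 3) (σ 7) = 0 ∧ T.a (σ 3) (σ 8) = 0 ∧ T.a (σ 4) (σ 4) = -2 * w ∧ T.a (σ 4) (σ 5) = w ∧ T.a (σ 4) (σ 6) = 0 ∧ T.a (σ 4) (σ 7) = 0 ∧ T.a (σ 4) (σ 8) = 0 ∧ T.a (σ 5) (σ 5) = -2 * w ∧ T.a (σ 5) (σ 6) = w ∧ T.a (σ 5) (σ 7) = 0 ∧ T.a (σ 5) (σ 8) = 0 ∧ T.a (σ 6) (σ 6) = -2 * w ∧ T.a (σ 6) (σ 7) = w ∧ T.a (σ 6) (σ 8)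 = 0 ∧ T.a (σ 7) (σ 7) = -2 * w ∧ T.a (σ 7) (σ 8) = 2 * w ∧ T.a (σ 8) (σ 8) = -4 * w) ∨
      (T.m (σ 0) = m ∧ T.m (σ 1) = 2 * m ∧ T.m (σ 2) = 2 * m ∧ T.m (σ 3) = 2 * m ∧ T.m (σ 4) = 2 * m ∧ T.m (σ 5) = 2 * m ∧ T.m (σ 6) = 2 * m ∧ T.m (σ 7) = m ∧ T.m (σ 8) = m ∧ T.w (σ 0) = 2 * w ∧ T.w (σ 1) = w ∧ T.w (σ 2) = w ∧ T.w (σ 3) = w ∧ T.w (σ 4) = w ∧ T.w (σ 5) = w ∧ T.w (σ 6) = w ∧ T.w (σ 7) = w ∧ T.w (σ 8) = w ∧ T.a (σ 0) (σ 0) = -4 * w ∧ T.a (σ 0) (σ 1) = 2 * w ∧ T.a (σ 0) (σ 2) = 0 ∧ T.a (σ 0) (σ 3) = 0 ∧ T.a (σ 0) (σ 4) = 0 ∧ T.a (σ 0) (σ 5) = 0 ∧ T.a (σ 0) (σ 6) = 0 ∧ T.a (σ 0) (σ 7) = 0 ∧ T.a (σ 0) (σ 8) = 0 ∧ T.a (σ 1) (σ 1) = -2 * w ∧ T.a (σ 1) (σ 2) = w ∧ T.a (σ 1) (σ 3) = 0 ∧ T.a (σ 1) (σ 4) =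 0 ∧ T.a (σ 1) (σ 5) = 0 ∧ T.a (σ 1) (σ 6) = 0 ∧ T.a (σ 1) (σ 7) = 0 ∧ T.a (σ 1) (σ 8) = 0 ∧ T.a (σ 2) (σ 2) = -2 * w ∧ T.a (σ 2) (σ 3) = w ∧ T.a (σ 2) (σ 4) = 0 ∧ T.a (σ 2) (σ 5) = 0 ∧ T.a (σ 2) (σ 6) = 0 ∧ T.a (σ 2) (σ 7) = 0 ∧ T.a (σ 2) (σ 8) = 0 ∧ T.a (σ 3) (σ 3) = -2 * w ∧ T.a (σ 3) (σ 4) = w ∧ T.a (σ 3) (σ 5) = 0 ∧ T.a (σ 3) (σ 6) = 0 ∧ T.a (σ 3) (σ 7) = 0 ∧ T.a (σ 3) (σ 8) = 0 ∧ T.a (σ 4) (σ 4) = -2 * w ∧ T.a (σ 4) (σ 5) = w ∧ T.a (σ 4) (σ 6) = 0 ∧ T.a (σ 4) (σ 7) = 0 ∧ T.a (σ 4) (σ 8) = 0 ∧ T.a (σ 5) (σ 5) = -2 * w ∧ T.a (σ 5) (σ 6) = w ∧ T.a (σ 5) (σ 7) = 0 ∧ T.a (σ 5) (σ 8) = 0 ∧ T.a (σ 6) (σ 6) = -2 * w ∧ T.a (σ 6) (σ 7) = w ∧ T.a (σ 6) (σ 8) = w ∧ T.a (σ 7) (σ 7) = -2 * w ∧ T.a (σ 7) (σ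 8) = 0 ∧ T.a (σ 8) (σ 8) = -2 * w) ∨
      (T.m (σ 0) = 2 * m ∧ T.m (σ 1) = 2 * m ∧ T.m (σ 2) = 2 * m ∧ T.m (σ 3) = 2 * m ∧ T.m (σ 4) = 2 * m ∧ T.m (σ 5) = 2 * m ∧ T.m (σ 6) = 2 * m ∧ T.m (σ 7) = m ∧ T.m (σ 8) = m ∧ T.w (σ 0) = w ∧ T.w (σ 1) = 2 * w ∧ T.w (σ 2) = 2 * w ∧ T.w (σ 3) = 2 * w ∧ T.w (σ 4) = 2 * w ∧ T.w (σ 5) = 2 * w ∧ T.w (σ 6) = 2 * w ∧ T.w (σ 7) = 2 * w ∧ T.w (σ 8) = 2 * w ∧ T.a (σ 0) (σ 0) = -2 * w ∧ T.a (σ 0) (σ 1) = 2 * w ∧ T.a (σ 0) (σ 2) = 0 ∧ T.a (σ 0) (σ 3) = 0 ∧ T.a (σ 0) (σ 4) = 0 ∧ T.a (σ 0) (σ 5) = 0 ∧ T.a (σ 0) (σ 6) = 0 ∧ T.a (σ 0) (σ 7) = 0 ∧ T.a (σ 0) (σ 8) = 0 ∧ T.a (σ 1) (σ 1) = -4 * w ∧ T.a (σ 1) (σ 2) = 2 * w ∧ T.a (σ 1) (σ 3) = 0 ∧ T.a (σ 1) (σ 4) = 0 ∧ T.a (σ 1)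 (σ 5) = 0 ∧ T.a (σ 1) (σ 6) = 0 ∧ T.a (σ 1) (σ 7) = 0 ∧ T.a (σ 1) (σ 8) = 0 ∧ T.a (σ 2) (σ 2) = -4 * w ∧ T.a (σ 2) (σ 3) = 2 * w ∧ T.a (σ 2) (σ 4) = 0 ∧ T.a (σ 2) (σ 5) = 0 ∧ T.a (σ 2) (σ 6) = 0 ∧ T.a (σ 2) (σ 7) = 0 ∧ T.a (σ 2) (σ 8) = 0 ∧ T.a (σ 3) (σ 3) = -4 * w ∧ T.a (σ 3) (σ 4) = 2 * w ∧ T.a (σ 3) (σ 5) = 0 ∧ T.a (σ 3) (σ 6) = 0 ∧ T.a (σ 3) (σ 7) = 0 ∧ T.a (σ 3) (σ 8) = 0 ∧ T.a (σ 4) (σ 4) = -4 * w ∧ T.a (σ 4) (σ 5) = 2 * w ∧ T.a (σ 4) (σ 6) = 0 ∧ T.a (σ 4) (σ 7) = 0 ∧ T.a (σ 4) (σ 8) = 0 ∧ T.a (σ 5) (σ 5) = -4 * w ∧ T.a (σ 5) (σ 6) = 2 * w ∧ T.a (σ 5) (σ 7) = 0 ∧ T.a (σ 5) (σ 8) = 0 ∧ T.a (σ 6) (σ 6) = -4 * w ∧ T.a (σ 6) (σ 7) = 2 * w ∧ T.a (σ 6) (σ 8) = 2 * w ∧ T.a (σ 7) (σ 7) = -4 * w ∧ T.a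 (σ 7) (σ 8) = 0 ∧ T.a (σ 8) (σ 8) = -4 * w) ∨
      (T.m (σ 0) = m ∧ T.m (σ 1) = m ∧ T.m (σ 2) = 2 * m ∧ T.m (σ 3) = 2 * m ∧ T.m (σ 4) = 2 * m ∧ T.m (σ 5) = 2 * m ∧ T.m (σ 6) = 2 * m ∧ T.m (σ 7) = m ∧ T.m (σ 8) = m ∧ T.w (σ 0) = w ∧ T.w (σ 1) = w ∧ T.w (σ 2) = w ∧ T.w (σ 3) = w ∧ T.w (σ 4) = w ∧ T.w (σ 5) = w ∧ T.w (σ 6) = w ∧ T.w (σ 7) = w ∧ T.w (σ 8) = w ∧ T.a (σ 0) (σ 0) = -2 * w ∧ T.a (σ 0) (σ 1) = 0 ∧ T.a (σ 0) (σ 2) = w ∧ T.a (σ 0) (σ 3) = 0 ∧ T.a (σ 0) (σ 4) = 0 ∧ T.a (σ 0) (σ 5) = 0 ∧ T.a (σ 0) (σ 6) = 0 ∧ T.a (σ 0) (σ 7) = 0 ∧ T.a (σ 0) (σ 8) = 0 ∧ T.a (σ 1) (σ 1) = -2 * w ∧ T.a (σ 1) (σ 2) = w ∧ T.a (σ 1) (σ 3) = 0 ∧ T.a (σ 1) (σ 4) = 0 ∧ T.a (σ 1) (σ 5) = 0 ∧ T.a (σ 1) (σ 6) = 0 ∧ T.a (σ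 1) (σ 7) = 0 ∧ T.a (σ 1) (σ 8) = 0 ∧ T.a (σ 2) (σ 2) = -2 * w ∧ T.a (σ 2) (σ 3) = w ∧ T.a (σ 2) (σ 4) = 0 ∧ T.a (σ 2) (σ 5) = 0 ∧ T.a (σ 2) (σ 6) = 0 ∧ T.a (σ 2) (σ 7) = 0 ∧ T.a (σ 2) (σ 8) = 0 ∧ T.a (σ 3) (σ 3) = -2 * w ∧ T.a (σ 3) (σ 4) = w ∧ T.a (σ 3) (σ 5) = 0 ∧ T.a (σ 3) (σ 6) = 0 ∧ T.a (σ 3) (σ 7) = 0 ∧ T.a (σ 3) (σ 8) = 0 ∧ T.a (σ 4) (σ 4) = -2 * w ∧ T.a (σ 4) (σ 5) = w ∧ T.a (σ 4) (σ 6) = 0 ∧ T.a (σ 4) (σ 7) = 0 ∧ T.a (σ 4) (σ 8) = 0 ∧ T.a (σ 5) (σ 5) = -2 * w ∧ T.a (σ 5) (σ 6) = w ∧ T.a (σ 5) (σ 7) = 0 ∧ T.a (σ 5) (σ 8) = 0 ∧ T.a (σ 6) (σ 6) = -2 * w ∧ T.a (σ 6) (σ 7) = w ∧ T.a (σ 6) (σ 8) = w ∧ T.a (σ 7) (σ 7) = -2 * w ∧ T.a (σ 7) (σ 8) = 0 ∧ T.a (σ 8) (σ 8) = -2 * w) ∨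
      (T.m (σ 0) = m ∧ T.m (σ 1) = 2 * m ∧ T.m (σ 2) = 3 * m ∧ T.m (σ 3) = 4 * m ∧ T.m (σ 4) = 5 * m ∧ T.m (σ 5) = 6 * m ∧ T.m (σ 6) = 4 * m ∧ T.m (σ 7) = 2 * m ∧ T.m (σ 8) = 3 * m ∧ T.w (σ 0) = w ∧ T.w (σ 1) = w ∧ T.w (σ 2) = w ∧ T.w (σ 3) = w ∧ T.w (σ 4) = w ∧ T.w (σ 5) = w ∧ T.w (σ 6) = w ∧ T.w (σ 7) = w ∧ T.w (σ 8) = w ∧ T.a (σ 0) (σ 0) = -2 * w ∧ T.a (σ 0) (σ 1) = w ∧ T.a (σ 0) (σ 2) = 0 ∧ T.a (σ 0) (σ 3) = 0 ∧ T.a (σ 0) (σ 4) = 0 ∧ T.a (σ 0) (σ 5) = 0 ∧ T.a (σ 0) (σ 6) = 0 ∧ T.a (σ 0) (σ 7) = 0 ∧ T.a (σ 0) (σ 8) = 0 ∧ T.a (σ 1) (σ 1) = -2 * w ∧ T.a (σ 1) (σ 2) = w ∧ T.a (σ 1) (σ 3) = 0 ∧ T.a (σ 1) (σ 4) = 0 ∧ T.a (σ 1) (σ 5) = 0 ∧ T.a (σ 1) (σ 6) = 0 ∧ T.a (σ 1) (σ 7) = 0 ∧ T.a (σ 1) (σ 8) =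 0 ∧ T.a (σ 2) (σ 2) = -2 * w ∧ T.a (σ 2) (σ 3) = w ∧ T.a (σ 2) (σ 4) = 0 ∧ T.a (σ 2) (σ 5) = 0 ∧ T.a (σ 2) (σ 6) = 0 ∧ T.a (σ 2) (σ 7) = 0 ∧ T.a (σ 2) (σ 8) = 0 ∧ T.a (σ 3) (σ 3) = -2 * w ∧ T.a (σ 3) (σ 4) = w ∧ T.a (σ 3) (σ 5) = 0 ∧ T.a (σ 3) (σ 6) = 0 ∧ T.a (σ 3) (σ 7) = 0 ∧ T.a (σ 3) (σ 8) = 0 ∧ T.a (σ 4) (σ 4) = -2 * w ∧ T.a (σ 4) (σ 5) = w ∧ T.a (σ 4) (σ 6) = 0 ∧ T.a (σ 4) (σ 7) = 0 ∧ T.a (σ 4) (σ 8) = 0 ∧ T.a (σ 5) (σ 5) = -2 * w ∧ T.a (σ 5) (σ 6) = w ∧ T.a (σ 5) (σ 7) = 0 ∧ T.a (σ 5) (σ 8) = w ∧ T.a (σ 6) (σ 6) = -2 * w ∧ T.a (σ 6) (σ 7) = w ∧ T.a (σ 6) (σ 8) = 0 ∧ T.a (σ 7) (σ 7) = -2 * w ∧ T.a (σ 7) (σ 8) = 0 ∧ T.a (σ 8) (σ 8) = -2 * w)) := by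
  have c0_1 : cc T (σ 0) (σ 1) = 2 := by rw [hC 0 1 (by decide)]; rfl
  have c0_2 : cc T (σ 0) (σ 2) = 0 := by rw [hC 0 2 (by decide)]; rfl
  have c0_3 : cc T (σ 0) (σ 3) = 0 := by rw [hC 0 3 (by decide)]; rfl
  have c0_4 : cc T (σ 0) (σ 4) = 0 := by rw [hC 0 4 (by decide)]; rfl
  have c0_5 : cc T (σ 0) (σ 5) = 0 := by rw [hC 0 5 (by decide)]; rfl
  have c0_6 : cc T (σ 0) (σ 6) = 0 := by rw [hC 0 6 (by decide)]; rfl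
  have c0_7 : cc T (σ 0) (σ 7) = 0 := by rw [hC 0 7 (by decide)]; rfl
  have c0_8 : cc T (σ 0) (σ 8) = 0 := by rw [hC 0 8 (by decide)]; rfl
  have c1_0 : cc T (σ 1) (σ 0) = 1 := by rw [hC 1 0 (by decide)]; rfl
  have c1_2 : cc T (σ 1) (σ 2) = 1 := by rw [hC 1 2 (by decide)]; rfl
  have c1_3 : cc T (σ 1) (σ 3) = 0 := by rw [hC 1 3 (by decide)]; rfl
  have c1_4 : cc T (σ 1) (σ 4) = 0 := by rw [hC 1 4 (by decide)]; rfl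
  have c1_5 : cc T (σ 1) (σ 5) = 0 := by rw [hC 1 5 (by decide)]; rfl
  have c1_6 : cc T (σ 1) (σ 6) = 0 := by rw [hC 1 6 (by decide)]; rfl
  have c1_7 : cc T (σ 1) (σ 7) = 0 := by rw [hC 1 7 (by decide)]; rfl
  have c1_8 : cc T (σ 1) (σ 8) = 0 := by rw [hC 1 8 (by decide)]; rfl
  have c2_0 : cc T (σ 2) (σ 0) = 0 := by rw [hC 2 0 (by decide)]; rfl
  have c2_1 : cc T (σ 2) (σ 1) = 1 := by rw [hC 2 1 (by decide)]; rfl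
  have c2_3 : cc T (σ 2) (σ 3) = 1 := by rw [hC 2 3 (by decide)]; rfl
  have c2_4 : cc T (σ 2) (σ 4) = 0 := by rw [hC 2 4 (by decide)]; rfl
  have c2_5 : cc T (σ 2) (σ 5) = 0 := by rw [hC 2 5 (by decide)]; rfl
  have c2_6 : cc T (σ 2) (σ 6) = 0 := by rw [hC 2 6 (by decide)]; rfl
  have c2_7 : cc T (σ 2) (σ 7) = 0 := by rw [hC 2 7 (by decide)]; rfl
  have c2_8 : cc T (σ 2) (σ 8) = 0 := by rw [hC 2 8 (by decide)]; rfl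
  have c3_0 : cc T (σ 3) (σ 0) = 0 := by rw [hC 3 0 (by decide)]; rfl
  have c3_1 : cc T (σ 3) (σ 1) = 0 := by rw [hC 3 1 (by decide)]; rfl
  have c3_2 : cc T (σ 3) (σ 2) = 1 := by rw [hC 3 2 (by decide)]; rfl
  have c3_4 : cc T (σ 3) (σ 4) = 1 := by rw [hC 3 4 (by decide)]; rfl
  have c3_5 : cc T (σ 3) (σ 5) = 0 := by rw [hC 3 5 (by decide)]; rfl
  have c3_6 : cc T (σ 3) (σ 6) = 0 := by rw [hC 3 6 (by decide)]; rfl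
  have c3_7 : cc T (σ 3) (σ 7) = 0 := by rw [hC 3 7 (by decide)]; rfl
  have c3_8 : cc T (σ 3) (σ 8) = 0 := by rw [hC 3 8 (by decide)]; rfl
  have c4_0 : cc T (σ 4) (σ 0) = 0 := by rw [hC 4 0 (by decide)]; rfl
  have c4_1 : cc T (σ 4) (σ 1) = 0 := by rw [hC 4 1 (by decide)]; rfl
  have c4_2 : cc T (σ 4) (σ 2) = 0 := by rw [hC 4 2 (by decide)]; rfl
  have c4_3 : cc T (σ 4) (σ 3) = 1 := by rw [hC 4 3 (by decide)]; rfl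
  have c4_5 : cc T (σ 4) (σ 5) = 1 := by rw [hC 4 5 (by decide)]; rfl
  have c4_6 : cc T (σ 4) (σ 6) = 0 := by rw [hC 4 6 (by decide)]; rfl
  have c4_7 : cc T (σ 4) (σ 7) = 0 := by rw [hC 4 7 (by decide)]; rfl
  have c4_8 : cc T (σ 4) (σ 8) = 0 := by rw [hC 4 8 (by decide)]; rfl
  have c5_0 : cc T (σ 5) (σ 0) = 0 := by rw [hC 5 0 (by decide)]; rfl
  have c5_1 : cc T (σ 5) (σ 1) = 0 := by rw [hC 5 1 (by decide)]; rfl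
  have c5_2 : cc T (σ 5) (σ 2) = 0 := by rw [hC 5 2 (by decide)]; rfl
  have c5_3 : cc T (σ 5) (σ 3) = 0 := by rw [hC 5 3 (by decide)]; rfl
  have c5_4 : cc T (σ 5) (σ 4) = 1 := by rw [hC 5 4 (by decide)]; rfl
  have c5_6 : cc T (σ 5) (σ 6) = 1 := by rw [hC 5 6 (by decide)]; rfl
  have c5_7 : cc T (σ 5) (σ 7) = 0 := by rw [hC 5 7 (by decide)]; rfl
  have c5_8 : cc T (σ 5) (σ 8) = 0 := by rw [hC 5 8 (by decide)]; rfl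
  have c6_0 : cc T (σ 6) (σ 0) = 0 := by rw [hC 6 0 (by decide)]; rfl
  have c6_1 : cc T (σ 6) (σ 1) = 0 := by rw [hC 6 1 (by decide)]; rfl
  have c6_2 : cc T (σ 6) (σ 2) = 0 := by rw [hC 6 2 (by decide)]; rfl
  have c6_3 : cc T (σ 6) (σ 3) = 0 := by rw [hC 6 3 (by decide)]; rfl
  have c6_4 : cc T (σ 6) (σ 4) = 0 := by rw [hC 6 4 (by decide)]; rfl
  have c6_5 : cc T (σ 6) (σ 5) = 1 := by rw [hC 6 5 (by decide)]; rfl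
  have c6_7 : cc T (σ 6) (σ 7) = 1 := by rw [hC 6 7 (by decide)]; rfl
  have c6_8 : cc T (σ 6) (σ 8) = 0 := by rw [hC 6 8 (by decide)]; rfl
  have c7_0 : cc T (σ 7) (σ 0) = 0 := by rw [hC 7 0 (by decide)]; rfl
  have c7_1 : cc T (σ 7) (σ 1) = 0 := by rw [hC 7 1 (by decide)]; rfl
  have c7_2 : cc T (σ 7) (σ 2) = 0 := by rw [hC 7 2 (by decide)]; rfl
  have c7_3 : cc T (σ 7) (σ 3) = 0 := by rw [hC 7 3 (by decide)]; rfl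
  have c7_4 : cc T (σ 7) (σ 4) = 0 := by rw [hC 7 4 (by decide)]; rfl
  have c7_5 : cc T (σ 7) (σ 5) = 0 := by rw [hC 7 5 (by decide)]; rfl
  have c7_6 : cc T (σ 7) (σ 6) = 1 := by rw [hC 7 6 (by decide)]; rfl
  have c7_8 : cc T (σ 7) (σ 8) = 1 := by rw [hC 7 8 (by decide)]; rfl
  have c8_0 : cc T (σ 8) (σ 0) = 0 := by rw [hC 8 0 (by decide)]; rfl
  have c8_1 : cc T (σ 8) (σ 1) = 0 := by rw [hC 8 1 (by decide)]; rfl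
  have c8_2 : cc T (σ 8) (σ 2) = 0 := by rw [hC 8 2 (by decide)]; rfl
  have c8_3 : cc T (σ 8) (σ 3) = 0 := by rw [hC 8 3 (by decide)]; rfl
  have c8_4 : cc T (σ 8) (σ 4) = 0 := by rw [hC 8 4 (by decide)]; rfl
  have c8_5 : cc T (σ 8) (σ 5) = 0 := by rw [hC 8 5 (by decide)]; rfl
  have c8_6 : cc T (σ 8) (σ 6) = 0 := by rw [hC 8 6 (by decide)]; rfl
  have c8_7 : cc T (σ 8) (σ 7) = 2 := by rw [hC 8 7 (by decide)]; rfl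
  have dd0 := cc_diag T hd (σ 0)
  have dd1 := cc_diag T hd (σ 1)
  have dd2 := cc_diag T hd (σ 2)
  have dd3 := cc_diag T hd (σ 3)
  have dd4 := cc_diag T hd (σ 4)
  have dd5 := cc_diag T hd (σ 5)
  have dd6 := cc_diag T hd (σ 6)
  have dd7 := cc_diag T hd (σ 7)
  have dd8 := cc_diag T hd (σ 8)
  have r0 := row9 T σ 0
  rw [dd0, c0_1, c0_2, c0_3, c0_4, c0_5, c0_6, c0_7, c0_8] at r0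
  have r1 := row9 T σ 1
  rw [c1_0, dd1, c1_2, c1_3, c1_4, c1_5, c1_6, c1_7, c1_8] at r1
  have r2 := row9 T σ 2
  rw [c2_0, c2_1, dd2, c2_3, c2_4, c2_5, c2_6, c2_7, c2_8] at r2
  have r3 := row9 T σ 3
  rw [c3_0, c3_1, c3_2, dd3, c3_4, c3_5, c3_6, c3_7, c3_8] at r3
  have r4 := row9 T σ 4
  rw [c4_0, c4_1, c4_2, c4_3, dd4, c4_5, c4_6, c4_7, c4_8] at r4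
  have r5 := row9 T σ 5
  rw [c5_0, c5_1, c5_2, c5_3, c5_4, dd5, c5_6, c5_7, c5_8] at r5
  have r6 := row9 T σ 6
  rw [c6_0, c6_1, c6_2, c6_3, c6_4, c6_5, dd6, c6_7, c6_8] at r6
  have r7 := row9 T σ 7
  rw [c7_0, c7_1, c7_2, c7_3, c7_4, c7_5, c7_6, dd7, c7_8] at r7
  have r8 := row9 T σ 8
  rw [c8_0, c8_1, c8_2, c8_3, c8_4, c8_5, c8_6, c8_7, dd8] at r8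
  have a0_1 : T.a (σ 0) (σ 1) = T.w (σ 0) * 2 := by rw [a_eq, c0_1]
  have a0_2 : T.a (σ 0) (σ 2) = T.w (σ 0) * 0 := by rw [a_eq, c0_2]
  have a0_3 : T.a (σ 0) (σ 3) = T.w (σ 0) * 0 := by rw [a_eq, c0_3]
  have a0_4 : T.a (σ 0) (σ 4) = T.w (σ 0) * 0 := by rw [a_eq, c0_4]
  have a0_5 : T.a (σ 0) (σ 5) = T.w (σ 0) * 0 := by rw [a_eq, c0_5]
  have a0_6 : T.a (σ 0) (σ 6) = T.w (σ 0) * 0 := by rw [a_eq, c0_6]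
  have a0_7 : T.a (σ 0) (σ 7) = T.w (σ 0) * 0 := by rw [a_eq, c0_7]
  have a0_8 : T.a (σ 0) (σ 8) = T.w (σ 0) * 0 := by rw [a_eq, c0_8]
  have a1_0 : T.a (σ 1) (σ 0) = T.w (σ 1) * 1 := by rw [a_eq, c1_0]
  have a1_2 : T.a (σ 1) (σ 2) = T.w (σ 1) * 1 := by rw [a_eq, c1_2]
  have a1_3 : T.a (σ 1) (σ 3) = T.w (σ 1) * 0 := by rw [a_eq, c1_3]
  have a1_4 : T.a (σ 1) (σ 4) = T.w (σ 1) * 0 := by rw [a_eq, c1_4]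
  have a1_5 : T.a (σ 1) (σ 5) = T.w (σ 1) * 0 := by rw [a_eq, c1_5]
  have a1_6 : T.a (σ 1) (σ 6) = T.w (σ 1) * 0 := by rw [a_eq, c1_6]
  have a1_7 : T.a (σ 1) (σ 7) = T.w (σ 1) * 0 := by rw [a_eq, c1_7]
  have a1_8 : T.a (σ 1) (σ 8) = T.w (σ 1) * 0 := by rw [a_eq, c1_8]
  have a2_0 : T.a (σ 2) (σ 0) = T.w (σ 2) * 0 := by rw [a_eq, c2_0]
  have a2_1 : T.a (σ 2) (σ 1) = T.w (σ 2) * 1 := by rw [a_eq, c2_1]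
  have a2_3 : T.a (σ 2) (σ 3) = T.w (σ 2) * 1 := by rw [a_eq, c2_3]
  have a2_4 : T.a (σ 2) (σ 4) = T.w (σ 2) * 0 := by rw [a_eq, c2_4]
  have a2_5 : T.a (σ 2) (σ 5) = T.w (σ 2) * 0 := by rw [a_eq, c2_5]
  have a2_6 : T.a (σ 2) (σ 6) = T.w (σ 2) * 0 := by rw [a_eq, c2_6]
  have a2_7 : T.a (σ 2) (σ 7) = T.w (σ 2) * 0 := by rw [a_eq, c2_7]
  have a2_8 : T.a (σ 2) (σ 8) = T.w (σ 2) * 0 := by rw [a_eq, c2_8]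
  have a3_0 : T.a (σ 3) (σ 0) = T.w (σ 3) * 0 := by rw [a_eq, c3_0]
  have a3_1 : T.a (σ 3) (σ 1) = T.w (σ 3) * 0 := by rw [a_eq, c3_1]
  have a3_2 : T.a (σ 3) (σ 2) = T.w (σ 3) * 1 := by rw [a_eq, c3_2]
  have a3_4 : T.a (σ 3) (σ 4) = T.w (σ 3) * 1 := by rw [a_eq, c3_4]
  have a3_5 : T.a (σ 3) (σ 5) = T.w (σ 3) * 0 := by rw [a_eq, c3_5]
  have a3_6 : T.a (σ 3) (σ 6) = T.w (σ 3) * 0 := by rw [a_eq, c3_6]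
  have a3_7 : T.a (σ 3) (σ 7) = T.w (σ 3) * 0 := by rw [a_eq, c3_7]
  have a3_8 : T.a (σ 3) (σ 8) = T.w (σ 3) * 0 := by rw [a_eq, c3_8]
  have a4_0 : T.a (σ 4) (σ 0) = T.w (σ 4) * 0 := by rw [a_eq, c4_0]
  have a4_1 : T.a (σ 4) (σ 1) = T.w (σ 4) * 0 := by rw [a_eq, c4_1]
  have a4_2 : T.a (σ 4) (σ 2) = T.w (σ 4) * 0 := by rw [a_eq, c4_2]
  have a4_3 : T.a (σ 4) (σ 3) = T.w (σ 4) * 1 := by rw [a_eq, c4_3]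
  have a4_5 : T.a (σ 4) (σ 5) = T.w (σ 4) * 1 := by rw [a_eq, c4_5]
  have a4_6 : T.a (σ 4) (σ 6) = T.w (σ 4) * 0 := by rw [a_eq, c4_6]
  have a4_7 : T.a (σ 4) (σ 7) = T.w (σ 4) * 0 := by rw [a_eq, c4_7]
  have a4_8 : T.a (σ 4) (σ 8) = T.w (σ 4) * 0 := by rw [a_eq, c4_8]
  have a5_0 : T.a (σ 5) (σ 0) = T.w (σ 5) * 0 := by rw [a_eq, c5_0]
  have a5_1 : T.a (σ 5) (σ 1) = T.w (σ 5) * 0 := by rw [a_eq, c5_1]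
  have a5_2 : T.a (σ 5) (σ 2) = T.w (σ 5) * 0 := by rw [a_eq, c5_2]
  have a5_3 : T.a (σ 5) (σ 3) = T.w (σ 5) * 0 := by rw [a_eq, c5_3]
  have a5_4 : T.a (σ 5) (σ 4) = T.w (σ 5) * 1 := by rw [a_eq, c5_4]
  have a5_6 : T.a (σ 5) (σ 6) = T.w (σ 5) * 1 := by rw [a_eq, c5_6]
  have a5_7 : T.a (σ 5) (σ 7) = T.w (σ 5) * 0 := by rw [a_eq, c5_7]
  have a5_8 : T.a (σ 5) (σ 8) = T.w (σ 5) * 0 := by rw [a_eq, c5_8]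
  have a6_0 : T.a (σ 6) (σ 0) = T.w (σ 6) * 0 := by rw [a_eq, c6_0]
  have a6_1 : T.a (σ 6) (σ 1) = T.w (σ 6) * 0 := by rw [a_eq, c6_1]
  have a6_2 : T.a (σ 6) (σ 2) = T.w (σ 6) * 0 := by rw [a_eq, c6_2]
  have a6_3 : T.a (σ 6) (σ 3) = T.w (σ 6) * 0 := by rw [a_eq, c6_3]
  have a6_4 : T.a (σ 6) (σ 4) = T.w (σ 6) * 0 := by rw [a_eq, c6_4]
  have a6_5 : T.a (σ 6) (σ 5) = T.w (σ 6) * 1 := by rw [a_eq, c6_5]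
  have a6_7 : T.a (σ 6) (σ 7) = T.w (σ 6) * 1 := by rw [a_eq, c6_7]
  have a6_8 : T.a (σ 6) (σ 8) = T.w (σ 6) * 0 := by rw [a_eq, c6_8]
  have a7_0 : T.a (σ 7) (σ 0) = T.w (σ 7) * 0 := by rw [a_eq, c7_0]
  have a7_1 : T.a (σ 7) (σ 1) = T.w (σ 7) * 0 := by rw [a_eq, c7_1]
  have a7_2 : T.a (σ 7) (σ 2) = T.w (σ 7) * 0 := by rw [a_eq, c7_2]
  have a7_3 : T.a (σ 7) (σ 3) = T.w (σ 7) * 0 := by rw [a_eq, c7_3]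
  have a7_4 : T.a (σ 7) (σ 4) = T.w (σ 7) * 0 := by rw [a_eq, c7_4]
  have a7_5 : T.a (σ 7) (σ 5) = T.w (σ 7) * 0 := by rw [a_eq, c7_5]
  have a7_6 : T.a (σ 7) (σ 6) = T.w (σ 7) * 1 := by rw [a_eq, c7_6]
  have a7_8 : T.a (σ 7) (σ 8) = T.w (σ 7) * 1 := by rw [a_eq, c7_8]
  have a8_0 : T.a (σ 8) (σ 0) = T.w (σ 8) * 0 := by rw [a_eq, c8_0]
  have a8_1 : T.a (σ 8) (σ 1) = T.w (σ 8) * 0 := by rw [a_eq, c8_1]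
  have a8_2 : T.a (σ 8) (σ 2) = T.w (σ 8) * 0 := by rw [a_eq, c8_2]
  have a8_3 : T.a (σ 8) (σ 3) = T.w (σ 8) * 0 := by rw [a_eq, c8_3]
  have a8_4 : T.a (σ 8) (σ 4) = T.w (σ 8) * 0 := by rw [a_eq, c8_4]
  have a8_5 : T.a (σ 8) (σ 5) = T.w (σ 8) * 0 := by rw [a_eq, c8_5]
  have a8_6 : T.a (σ 8) (σ 6) = T.w (σ 8) * 0 := by rw [a_eq, c8_6]
  have a8_7 : T.a (σ 8) (σ 7) = T.w (σ 8) * 2 := by rw [a_eq, c8_7]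
  have ad0 := hd (σ 0)
  have ad1 := hd (σ 1)
  have ad2 := hd (σ 2)
  have ad3 := hd (σ 3)
  have ad4 := hd (σ 4)
  have ad5 := hd (σ 5)
  have ad6 := hd (σ 6)
  have ad7 := hd (σ 7)
  have ad8 := hd (σ 8)
  have s0_1 := a_symm T (σ 0) (σ 1)
  have s0_2 := a_symm T (σ 0) (σ 2)
  have s0_3 := a_symm T (σ 0) (σ 3)
  have s0_4 := a_symm T (σ 0) (σ 4)
  have s0_5 := a_symm T (σ 0) (σ 5)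
  have s0_6 := a_symm T (σ 0) (σ 6)
  have s0_7 := a_symm T (σ 0) (σ 7)
  have s0_8 := a_symm T (σ 0) (σ 8)
  have s1_2 := a_symm T (σ 1) (σ 2)
  have s1_3 := a_symm T (σ 1) (σ 3)
  have s1_4 := a_symm T (σ 1) (σ 4)
  have s1_5 := a_symm T (σ 1) (σ 5)
  have s1_6 := a_symm T (σ 1) (σ 6)
  have s1_7 := a_symm T (σ 1) (σ 7)
  have s1_8 := a_symm T (σ 1) (σ 8)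
  have s2_3 := a_symm T (σ 2) (σ 3)
  have s2_4 := a_symm T (σ 2) (σ 4)
  have s2_5 := a_symm T (σ 2) (σ 5)
  have s2_6 := a_symm T (σ 2) (σ 6)
  have s2_7 := a_symm T (σ 2) (σ 7)
  have s2_8 := a_symm T (σ 2) (σ 8)
  have s3_4 := a_symm T (σ 3) (σ 4)
  have s3_5 := a_symm T (σ 3) (σ 5)
  have s3_6 := a_symm T (σ 3) (σ 6)
  have s3_7 := a_symm T (σ 3) (σ 7)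
  have s3_8 := a_symm T (σ 3) (σ 8)
  have s4_5 := a_symm T (σ 4) (σ 5)
  have s4_6 := a_symm T (σ 4) (σ 6)
  have s4_7 := a_symm T (σ 4) (σ 7)
  have s4_8 := a_symm T (σ 4) (σ 8)
  have s5_6 := a_symm T (σ 5) (σ 6)
  have s5_7 := a_symm T (σ 5) (σ 7)
  have s5_8 := a_symm T (σ 5) (σ 8)
  have s6_7 := a_symm T (σ 6) (σ 7)
  have s6_8 := a_symm T (σ 6) (σ 8)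
  have s7_8 := a_symm T (σ 7) (σ 8)
  clear c0_1 c0_2 c0_3 c0_4 c0_5 c0_6 c0_7 c0_8 c1_0 c1_2 c1_3 c1_4 c1_5 c1_6 c1_7 c1_8 c2_0 c2_1 c2_3 c2_4 c2_5 c2_6 c2_7 c2_8 c3_0 c3_1 c3_2 c3_4 c3_5 c3_6 c3_7 c3_8 c4_0 c4_1 c4_2 c4_3 c4_5 c4_6 c4_7 c4_8 c5_0 c5_1 c5_2 c5_3 c5_4 c5_6 c5_7 c5_8 c6_0 c6_1 c6_2 c6_3 c6_4 c6_5 c6_7 c6_8 c7_0 c7_1 c7_2 c7_3 c7_4 c7_5 c7_6 c7_8 c8_0 c8_1 c8_2 c8_3 c8_4 c8_5 c8_6 c8_7 dd0 dd1 dd2 dd3 dd4 dd5 dd6 dd7 dd8 hC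
  have hm0 : T.m (σ 0) = 1 * T.m (σ 0) := by omega
  have hm1 : T.m (σ 1) = 1 * T.m (σ 0) := by omega
  have hm2 : T.m (σ 2) = 1 * T.m (σ 0) := by omega
  have hm3 : T.m (σ 3) = 1 * T.m (σ 0) := by omega
  have hm4 : T.m (σ 4) = 1 * T.m (σ 0) := by omega
  have hm5 : T.m (σ 5) = 1 * T.m (σ 0) := by omega
  have hm6 : T.m (σ 6) = 1 * T.m (σ 0) := by omega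
  have hm7 : T.m (σ 7) = 1 * T.m (σ 0) := by omega
  have hm8 : T.m (σ 8) = 1 * T.m (σ 0) := by omega
  clear r0 r1 r2 r3 r4 r5 r6 r7 r8
  have hw0 : T.w (σ 0) = 1 * T.w (σ 0) := by omega
  have hw1 : T.w (σ 1) = 2 * T.w (σ 0) := by omega
  have hw2 : T.w (σ 2) = 2 * T.w (σ 0) := by omega
  have hw3 : T.w (σ 3) = 2 * T.w (σ 0) := by omega
  have hw4 : T.w (σ 4) = 2 * T.w (σ 0) := by omega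
  have hw5 : T.w (σ 5) = 2 * T.w (σ 0) := by omega
  have hw6 : T.w (σ 6) = 2 * T.w (σ 0) := by omega
  have hw7 : T.w (σ 7) = 2 * T.w (σ 0) := by omega
  have hw8 : T.w (σ 8) = 1 * T.w (σ 0) := by omega
  refine ⟨σ, T.m (σ 0), T.w (σ 0), ?_⟩
  refine Or.inr (Or.inr (Or.inl ?_))
  refine ⟨?_, ?_, ?_, ?_, ?_, ?_, ?_, ?_, ?_, ?_, ?_, ?_, ?_, ?_, ?_, ?_, ?_, ?_, ?_, ?_, ?_, ?_, ?_, ?_, ?_, ?_, ?_, ?_, ?_, ?_, ?_, ?_, ?_, ?_, ?_, ?_, ?_, ?_, ?_, ?_, ?_, ?_, ?_, ?_, ?_, ?_, ?_, ?_, ?_, ?_, ?_, ?_, ?_, ?_, ?_, ?_, ?_, ?_, ?_, ?_, ?_, ?_, ?_⟩ <;> omega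

theorem form9_3 (T : NumericalType 9) (hd : ∀ i, T.a i i = -2 * T.w i)
    (σ : Equiv.Perm (Fin 9))
    (hC : ∀ i j : Fin 9, i ≠ j → cc T (σ i) (σ j) = (E forms9 3 i j : ℤ)) :
    ∃ (σ : Equiv.Perm (Fin 9)) (m w : ℤ),
      ((T.m (σ 0) = m ∧ T.m (σ 1) = m ∧ T.m (σ 2) = m ∧ T.m (σ 3) = m ∧ T.m (σ 4) = m ∧ T.m (σ 5) = m ∧ T.m (σ 6) = m ∧ T.m (σ 7) = m ∧ T.m (σ 8) = m ∧ T.w (σ 0) = w ∧ T.w (σ 1) = w ∧ T.w (σ 2) = w ∧ T.w (σ 3) = w ∧ T.w (σ 4) = w ∧ T.w (σ 5) = w ∧ T.w (σ 6) = w ∧ T.w (σ 7) = w ∧ T.w (σ 8) = w ∧ T.a (σ 0) (σ 0) = -2 * w ∧ T.a (σ 0) (σ 1) = w ∧ T.a (σ 0) (σ 2) = 0 ∧ T.a (σ 0) (σ 3) = 0 ∧ T.a (σ 0) (σ 4) = 0 ∧ T.a (σ 0) (σ 5) = 0 ∧ T.a (σ 0) (σ 6) = 0 ∧ T.a (σ 0) (σ 7) = 0 ∧ T.a (σ 0)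 (σ 8) = w ∧ T.a (σ 1) (σ 1) = -2 * w ∧ T.a (σ 1) (σ 2) = w ∧ T.a (σ 1) (σ 3) = 0 ∧ T.a (σ 1) (σ 4) = 0 ∧ T.a (σ 1) (σ 5) = 0 ∧ T.a (σ 1) (σ 6) = 0 ∧ T.a (σ 1) (σ 7) = 0 ∧ T.a (σ 1) (σ 8) = 0 ∧ T.a (σ 2) (σ 2) = -2 * w ∧ T.a (σ 2) (σ 3) = w ∧ T.a (σ 2) (σ 4) = 0 ∧ T.a (σ 2) (σ 5) = 0 ∧ T.a (σ 2) (σ 6) = 0 ∧ T.a (σ 2) (σ 7) = 0 ∧ T.a (σ 2) (σ 8) = 0 ∧ T.a (σ 3) (σ 3) = -2 * w ∧ T.a (σ 3) (σ 4) = w ∧ T.a (σ 3) (σ 5) = 0 ∧ T.a (σ 3) (σ 6) = 0 ∧ T.a (σ 3) (σ 7) = 0 ∧ T.a (σ 3) (σ 8) = 0 ∧ T.a (σ 4) (σ 4) = -2 * w ∧ T.a (σ 4) (σ 5) = w ∧ T.a (σ 4) (σ 6) = 0 ∧ T.a (σ 4) (σ 7) = 0 ∧ T.a (σ 4) (σ 8) = 0 ∧ T.a (σ 5) (σ 5) = -2 * w ∧ T.a (σ 5) (σ 6) = w ∧ T.a (σ 5) (σ 7) = 0 ∧ T.a (σ 5) (σ 8) = 0 ∧ T.a (σ 6)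 (σ 6) = -2 * w ∧ T.a (σ 6) (σ 7) = w ∧ T.a (σ 6) (σ 8) = 0 ∧ T.a (σ 7) (σ 7) = -2 * w ∧ T.a (σ 7) (σ 8) = w ∧ T.a (σ 8) (σ 8) = -2 * w) ∨
      (T.m (σ 0) = 2 * m ∧ T.m (σ 1) = 2 * m ∧ T.m (σ 2) = 2 * m ∧ T.m (σ 3) = 2 * m ∧ T.m (σ 4) = 2 * m ∧ T.m (σ 5) = 2 * m ∧ T.m (σ 6) = 2 * m ∧ T.m (σ 7) = 2 * m ∧ T.m (σ 8) = m ∧ T.w (σ 0) = w ∧ T.w (σ 1) = 2 * w ∧ T.w (σ 2) = 2 * w ∧ T.w (σ 3) = 2 * w ∧ T.w (σ 4) = 2 * w ∧ T.w (σ 5) = 2 * w ∧ T.w (σ 6) = 2 * w ∧ T.w (σ 7) = 2 * w ∧ T.w (σ 8) = 4 * w ∧ T.a (σ 0) (σ 0) = -2 * w ∧ T.a (σ 0) (σ 1) = 2 * w ∧ T.a (σ 0) (σ 2) = 0 ∧ T.a (σ 0) (σ 3) = 0 ∧ T.a (σ 0) (σ 4) = 0 ∧ T.a (σ 0) (σ 5) = 0 ∧ T.a (σ 0) (σ 6) = 0 ∧ T.a (σ 0) (σ 7) = 0 ∧ T.a (σ 0) (σ 8) = 0 ∧ T.a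 (σ 1) (σ 1) = -4 * w ∧ T.a (σ 1) (σ 2) = 2 * w ∧ T.a (σ 1) (σ 3) = 0 ∧ T.a (σ 1) (σ 4) = 0 ∧ T.a (σ 1) (σ 5) = 0 ∧ T.a (σ 1) (σ 6) = 0 ∧ T.a (σ 1) (σ 7) = 0 ∧ T.a (σ 1) (σ 8) = 0 ∧ T.a (σ 2) (σ 2) = -4 * w ∧ T.a (σ 2) (σ 3) = 2 * w ∧ T.a (σ 2) (σ 4) = 0 ∧ T.a (σ 2) (σ 5) = 0 ∧ T.a (σ 2) (σ 6) = 0 ∧ T.a (σ 2) (σ 7) = 0 ∧ T.a (σ 2) (σ 8) = 0 ∧ T.a (σ 3) (σ 3) = -4 * w ∧ T.a (σ 3) (σ 4) = 2 * w ∧ T.a (σ 3) (σ 5) = 0 ∧ T.a (σ 3) (σ 6) = 0 ∧ T.a (σ 3) (σ 7) = 0 ∧ T.a (σ 3) (σ 8) = 0 ∧ T.a (σ 4) (σ 4) = -4 * w ∧ T.a (σ 4) (σ 5) = 2 * w ∧ T.a (σ 4) (σ 6) = 0 ∧ T.a (σ 4) (σ 7) = 0 ∧ T.a (σ 4) (σ 8) = 0 ∧ T.a (σ 5) (σ 5) = -4 * w ∧ T.a (σ 5) (σ 6) = 2 * w ∧ T.a (σ 5) (σ 7) = 0 ∧ T.a (σ 5) (σ 8) = 0 ∧ T.a (σ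 6) (σ 6) = -4 * w ∧ T.a (σ 6) (σ 7) = 2 * w ∧ T.a (σ 6) (σ 8) = 0 ∧ T.a (σ 7) (σ 7) = -4 * w ∧ T.a (σ 7) (σ 8) = 4 * w ∧ T.a (σ 8) (σ 8) = -8 * w) ∨
      (T.m (σ 0) = m ∧ T.m (σ 1) = m ∧ T.m (σ 2) = m ∧ T.m (σ 3) = m ∧ T.m (σ 4) = m ∧ T.m (σ 5) = m ∧ T.m (σ 6) = m ∧ T.m (σ 7) = m ∧ T.m (σ 8) = m ∧ T.w (σ 0) = w ∧ T.w (σ 1) = 2 * w ∧ T.w (σ 2) = 2 * w ∧ T.w (σ 3) = 2 * w ∧ T.w (σ 4) = 2 * w ∧ T.w (σ 5) = 2 * w ∧ T.w (σ 6) = 2 * w ∧ T.w (σ 7) = 2 * w ∧ T.w (σ 8) = w ∧ T.a (σ 0) (σ 0) = -2 * w ∧ T.a (σ 0) (σ 1) = 2 * w ∧ T.a (σ 0) (σ 2) = 0 ∧ T.a (σ 0) (σ 3) = 0 ∧ T.a (σ 0) (σ 4) = 0 ∧ T.a (σ 0) (σ 5) = 0 ∧ T.a (σ 0) (σ 6) = 0 ∧ T.a (σ 0) (σ 7) = 0 ∧ T.a (σ 0) (σ 8) = 0 ∧ T.a (σ 1) (σ 1) = -4 * w ∧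 T.a (σ 1) (σ 2) = 2 * w ∧ T.a (σ 1) (σ 3) = 0 ∧ T.a (σ 1) (σ 4) = 0 ∧ T.a (σ 1) (σ 5) = 0 ∧ T.a (σ 1) (σ 6) = 0 ∧ T.a (σ 1) (σ 7) = 0 ∧ T.a (σ 1) (σ 8) = 0 ∧ T.a (σ 2) (σ 2) = -4 * w ∧ T.a (σ 2) (σ 3) = 2 * w ∧ T.a (σ 2) (σ 4) = 0 ∧ T.a (σ 2) (σ 5) = 0 ∧ T.a (σ 2) (σ 6) = 0 ∧ T.a (σ 2) (σ 7) = 0 ∧ T.a (σ 2) (σ 8) = 0 ∧ T.a (σ 3) (σ 3) = -4 * w ∧ T.a (σ 3) (σ 4) = 2 * w ∧ T.a (σ 3) (σ 5) = 0 ∧ T.a (σ 3) (σ 6) = 0 ∧ T.a (σ 3) (σ 7) = 0 ∧ T.a (σ 3) (σ 8) = 0 ∧ T.a (σ 4) (σ 4) = -4 * w ∧ T.a (σ 4) (σ 5) = 2 * w ∧ T.a (σ 4) (σ 6) = 0 ∧ T.a (σ 4) (σ 7) = 0 ∧ T.a (σ 4) (σ 8) = 0 ∧ T.a (σ 5) (σ 5) = -4 * w ∧ T.a (σ 5) (σ 6) = 2 * w ∧ T.a (σ 5) (σ 7) = 0 ∧ T.a (σ 5) (σ 8) = 0 ∧ T.a (σ 6) (σ 6) = -4 * w ∧ T.a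 (σ 6) (σ 7) = 2 * w ∧ T.a (σ 6) (σ 8) = 0 ∧ T.a (σ 7) (σ 7) = -4 * w ∧ T.a (σ 7) (σ 8) = 2 * w ∧ T.a (σ 8) (σ 8) = -2 * w) ∨
      (T.m (σ 0) = m ∧ T.m (σ 1) = 2 * m ∧ T.m (σ 2) = 2 * m ∧ T.m (σ 3) = 2 * m ∧ T.m (σ 4) = 2 * m ∧ T.m (σ 5) = 2 * m ∧ T.m (σ 6) = 2 * m ∧ T.m (σ 7) = 2 * m ∧ T.m (σ 8) = m ∧ T.w (σ 0) = 2 * w ∧ T.w (σ 1) = w ∧ T.w (σ 2) = w ∧ T.w (σ 3) = w ∧ T.w (σ 4) = w ∧ T.w (σ 5) = w ∧ T.w (σ 6) = w ∧ T.w (σ 7) = w ∧ T.w (σ 8) = 2 * w ∧ T.a (σ 0) (σ 0) = -4 * w ∧ T.a (σ 0) (σ 1) = 2 * w ∧ T.a (σ 0) (σ 2) = 0 ∧ T.a (σ 0) (σ 3) = 0 ∧ T.a (σ 0) (σ 4) = 0 ∧ T.a (σ 0) (σ 5) = 0 ∧ T.a (σ 0) (σ 6) = 0 ∧ T.a (σ 0) (σ 7) = 0 ∧ T.a (σ 0) (σ 8) = 0 ∧ T.a (σ 1) (σ 1) = -2 * w ∧ T.a (σ 1) (σ 2)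 = w ∧ T.a (σ 1) (σ 3) = 0 ∧ T.a (σ 1) (σ 4) = 0 ∧ T.a (σ 1) (σ 5) = 0 ∧ T.a (σ 1) (σ 6) = 0 ∧ T.a (σ 1) (σ 7) = 0 ∧ T.a (σ 1) (σ 8) = 0 ∧ T.a (σ 2) (σ 2) = -2 * w ∧ T.a (σ 2) (σ 3) = w ∧ T.a (σ 2) (σ 4) = 0 ∧ T.a (σ 2) (σ 5) = 0 ∧ T.a (σ 2) (σ 6) = 0 ∧ T.a (σ 2) (σ 7) = 0 ∧ T.a (σ 2) (σ 8) = 0 ∧ T.a (σ 3) (σ 3) = -2 * w ∧ T.a (σ 3) (σ 4) = w ∧ T.a (σ 3) (σ 5) = 0 ∧ T.a (σ 3) (σ 6) = 0 ∧ T.a (σ 3) (σ 7) = 0 ∧ T.a (σ 3) (σ 8) = 0 ∧ T.a (σ 4) (σ 4) = -2 * w ∧ T.a (σ 4) (σ 5) = w ∧ T.a (σ 4) (σ 6) = 0 ∧ T.a (σ 4) (σ 7) = 0 ∧ T.a (σ 4) (σ 8) = 0 ∧ T.a (σ 5) (σ 5) = -2 * w ∧ T.a (σ 5) (σ 6) = w ∧ T.a (σ 5) (σ 7) = 0 ∧ T.a (σ 5) (σ 8) = 0 ∧ T.a (σ 6) (σ 6) = -2 * w ∧ T.a (σ 6) (σ 7) = w ∧ T.a (σ 6) (σ 8)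 = 0 ∧ T.a (σ 7) (σ 7) = -2 * w ∧ T.a (σ 7) (σ 8) = 2 * w ∧ T.a (σ 8) (σ 8) = -4 * w) ∨
      (T.m (σ 0) = m ∧ T.m (σ 1) = 2 * m ∧ T.m (σ 2) = 2 * m ∧ T.m (σ 3) = 2 * m ∧ T.m (σ 4) = 2 * m ∧ T.m (σ 5) = 2 * m ∧ T.m (σ 6) = 2 * m ∧ T.m (σ 7) = m ∧ T.m (σ 8) = m ∧ T.w (σ 0) = 2 * w ∧ T.w (σ 1) = w ∧ T.w (σ 2) = w ∧ T.w (σ 3) = w ∧ T.w (σ 4) = w ∧ T.w (σ 5) = w ∧ T.w (σ 6) = w ∧ T.w (σ 7) = w ∧ T.w (σ 8) = w ∧ T.a (σ 0) (σ 0) = -4 * w ∧ T.a (σ 0) (σ 1) = 2 * w ∧ T.a (σ 0) (σ 2) = 0 ∧ T.a (σ 0) (σ 3) = 0 ∧ T.a (σ 0) (σ 4) = 0 ∧ T.a (σ 0) (σ 5) = 0 ∧ T.a (σ 0) (σ 6) = 0 ∧ T.a (σ 0) (σ 7) = 0 ∧ T.a (σ 0) (σ 8) = 0 ∧ T.a (σ 1) (σ 1) = -2 * w ∧ T.a (σ 1) (σ 2) = w ∧ T.a (σ 1) (σ 3) = 0 ∧ T.a (σ 1) (σ 4) =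 0 ∧ T.a (σ 1) (σ 5) = 0 ∧ T.a (σ 1) (σ 6) = 0 ∧ T.a (σ 1) (σ 7) = 0 ∧ T.a (σ 1) (σ 8) = 0 ∧ T.a (σ 2) (σ 2) = -2 * w ∧ T.a (σ 2) (σ 3) = w ∧ T.a (σ 2) (σ 4) = 0 ∧ T.a (σ 2) (σ 5) = 0 ∧ T.a (σ 2) (σ 6) = 0 ∧ T.a (σ 2) (σ 7) = 0 ∧ T.a (σ 2) (σ 8) = 0 ∧ T.a (σ 3) (σ 3) = -2 * w ∧ T.a (σ 3) (σ 4) = w ∧ T.a (σ 3) (σ 5) = 0 ∧ T.a (σ 3) (σ 6) = 0 ∧ T.a (σ 3) (σ 7) = 0 ∧ T.a (σ 3) (σ 8) = 0 ∧ T.a (σ 4) (σ 4) = -2 * w ∧ T.a (σ 4) (σ 5) = w ∧ T.a (σ 4) (σ 6) = 0 ∧ T.a (σ 4) (σ 7) = 0 ∧ T.a (σ 4) (σ 8) = 0 ∧ T.a (σ 5) (σ 5) = -2 * w ∧ T.a (σ 5) (σ 6) = w ∧ T.a (σ 5) (σ 7) = 0 ∧ T.a (σ 5) (σ 8) = 0 ∧ T.a (σ 6) (σ 6) = -2 * w ∧ T.a (σ 6) (σ 7) = w ∧ T.a (σ 6) (σ 8) = w ∧ T.a (σ 7) (σ 7) = -2 * w ∧ T.a (σ 7) (σ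 8) = 0 ∧ T.a (σ 8) (σ 8) = -2 * w) ∨
      (T.m (σ 0) = 2 * m ∧ T.m (σ 1) = 2 * m ∧ T.m (σ 2) = 2 * m ∧ T.m (σ 3) = 2 * m ∧ T.m (σ 4) = 2 * m ∧ T.m (σ 5) = 2 * m ∧ T.m (σ 6) = 2 * m ∧ T.m (σ 7) = m ∧ T.m (σ 8) = m ∧ T.w (σ 0) = w ∧ T.w (σ 1) = 2 * w ∧ T.w (σ 2) = 2 * w ∧ T.w (σ 3) = 2 * w ∧ T.w (σ 4) = 2 * w ∧ T.w (σ 5) = 2 * w ∧ T.w (σ 6) = 2 * w ∧ T.w (σ 7) = 2 * w ∧ T.w (σ 8) = 2 * w ∧ T.a (σ 0) (σ 0) = -2 * w ∧ T.a (σ 0) (σ 1) = 2 * w ∧ T.a (σ 0) (σ 2) = 0 ∧ T.a (σ 0) (σ 3) = 0 ∧ T.a (σ 0) (σ 4) = 0 ∧ T.a (σ 0) (σ 5) = 0 ∧ T.a (σ 0) (σ 6) = 0 ∧ T.a (σ 0) (σ 7) = 0 ∧ T.a (σ 0) (σ 8) = 0 ∧ T.a (σ 1) (σ 1) = -4 * w ∧ T.a (σ 1) (σ 2) = 2 * w ∧ T.a (σ 1) (σ 3) = 0 ∧ T.a (σ 1) (σ 4) = 0 ∧ T.a (σ 1)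 (σ 5) = 0 ∧ T.a (σ 1) (σ 6) = 0 ∧ T.a (σ 1) (σ 7) = 0 ∧ T.a (σ 1) (σ 8) = 0 ∧ T.a (σ 2) (σ 2) = -4 * w ∧ T.a (σ 2) (σ 3) = 2 * w ∧ T.a (σ 2) (σ 4) = 0 ∧ T.a (σ 2) (σ 5) = 0 ∧ T.a (σ 2) (σ 6) = 0 ∧ T.a (σ 2) (σ 7) = 0 ∧ T.a (σ 2) (σ 8) = 0 ∧ T.a (σ 3) (σ 3) = -4 * w ∧ T.a (σ 3) (σ 4) = 2 * w ∧ T.a (σ 3) (σ 5) = 0 ∧ T.a (σ 3) (σ 6) = 0 ∧ T.a (σ 3) (σ 7) = 0 ∧ T.a (σ 3) (σ 8) = 0 ∧ T.a (σ 4) (σ 4) = -4 * w ∧ T.a (σ 4) (σ 5) = 2 * w ∧ T.a (σ 4) (σ 6) = 0 ∧ T.a (σ 4) (σ 7) = 0 ∧ T.a (σ 4) (σ 8) = 0 ∧ T.a (σ 5) (σ 5) = -4 * w ∧ T.a (σ 5) (σ 6) = 2 * w ∧ T.a (σ 5) (σ 7) = 0 ∧ T.a (σ 5) (σ 8) = 0 ∧ T.a (σ 6) (σ 6) = -4 * w ∧ T.a (σ 6) (σ 7) = 2 * w ∧ T.a (σ 6) (σ 8) = 2 * w ∧ T.a (σ 7) (σ 7) = -4 * w ∧ T.a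 (σ 7) (σ 8) = 0 ∧ T.a (σ 8) (σ 8) = -4 * w) ∨
      (T.m (σ 0) = m ∧ T.m (σ 1) = m ∧ T.m (σ 2) = 2 * m ∧ T.m (σ 3) = 2 * m ∧ T.m (σ 4) = 2 * m ∧ T.m (σ 5) = 2 * m ∧ T.m (σ 6) = 2 * m ∧ T.m (σ 7) = m ∧ T.m (σ 8) = m ∧ T.w (σ 0) = w ∧ T.w (σ 1) = w ∧ T.w (σ 2) = w ∧ T.w (σ 3) = w ∧ T.w (σ 4) = w ∧ T.w (σ 5) = w ∧ T.w (σ 6) = w ∧ T.w (σ 7) = w ∧ T.w (σ 8) = w ∧ T.a (σ 0) (σ 0) = -2 * w ∧ T.a (σ 0) (σ 1) = 0 ∧ T.a (σ 0) (σ 2) = w ∧ T.a (σ 0) (σ 3) = 0 ∧ T.a (σ 0) (σ 4) = 0 ∧ T.a (σ 0) (σ 5) = 0 ∧ T.a (σ 0) (σ 6) = 0 ∧ T.a (σ 0) (σ 7) = 0 ∧ T.a (σ 0) (σ 8) = 0 ∧ T.a (σ 1) (σ 1) = -2 * w ∧ T.a (σ 1) (σ 2) = w ∧ T.a (σ 1) (σ 3) = 0 ∧ T.a (σ 1) (σ 4) = 0 ∧ T.a (σ 1) (σ 5) = 0 ∧ T.a (σ 1) (σ 6) = 0 ∧ T.a (σ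 1) (σ 7) = 0 ∧ T.a (σ 1) (σ 8) = 0 ∧ T.a (σ 2) (σ 2) = -2 * w ∧ T.a (σ 2) (σ 3) = w ∧ T.a (σ 2) (σ 4) = 0 ∧ T.a (σ 2) (σ 5) = 0 ∧ T.a (σ 2) (σ 6) = 0 ∧ T.a (σ 2) (σ 7) = 0 ∧ T.a (σ 2) (σ 8) = 0 ∧ T.a (σ 3) (σ 3) = -2 * w ∧ T.a (σ 3) (σ 4) = w ∧ T.a (σ 3) (σ 5) = 0 ∧ T.a (σ 3) (σ 6) = 0 ∧ T.a (σ 3) (σ 7) = 0 ∧ T.a (σ 3) (σ 8) = 0 ∧ T.a (σ 4) (σ 4) = -2 * w ∧ T.a (σ 4) (σ 5) = w ∧ T.a (σ 4) (σ 6) = 0 ∧ T.a (σ 4) (σ 7) = 0 ∧ T.a (σ 4) (σ 8) = 0 ∧ T.a (σ 5) (σ 5) = -2 * w ∧ T.a (σ 5) (σ 6) = w ∧ T.a (σ 5) (σ 7) = 0 ∧ T.a (σ 5) (σ 8) = 0 ∧ T.a (σ 6) (σ 6) = -2 * w ∧ T.a (σ 6) (σ 7) = w ∧ T.a (σ 6) (σ 8) = w ∧ T.a (σ 7) (σ 7) = -2 * w ∧ T.a (σ 7) (σ 8) = 0 ∧ T.a (σ 8) (σ 8) = -2 * w) ∨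
      (T.m (σ 0) = m ∧ T.m (σ 1) = 2 * m ∧ T.m (σ 2) = 3 * m ∧ T.m (σ 3) = 4 * m ∧ T.m (σ 4) = 5 * m ∧ T.m (σ 5) = 6 * m ∧ T.m (σ 6) = 4 * m ∧ T.m (σ 7) = 2 * m ∧ T.m (σ 8) = 3 * m ∧ T.w (σ 0) = w ∧ T.w (σ 1) = w ∧ T.w (σ 2) = w ∧ T.w (σ 3) = w ∧ T.w (σ 4) = w ∧ T.w (σ 5) = w ∧ T.w (σ 6) = w ∧ T.w (σ 7) = w ∧ T.w (σ 8) = w ∧ T.a (σ 0) (σ 0) = -2 * w ∧ T.a (σ 0) (σ 1) = w ∧ T.a (σ 0) (σ 2) = 0 ∧ T.a (σ 0) (σ 3) = 0 ∧ T.a (σ 0) (σ 4) = 0 ∧ T.a (σ 0) (σ 5) = 0 ∧ T.a (σ 0) (σ 6) = 0 ∧ T.a (σ 0) (σ 7) = 0 ∧ T.a (σ 0) (σ 8) = 0 ∧ T.a (σ 1) (σ 1) = -2 * w ∧ T.a (σ 1) (σ 2) = w ∧ T.a (σ 1) (σ 3) = 0 ∧ T.a (σ 1) (σ 4) = 0 ∧ T.a (σ 1) (σ 5) = 0 ∧ T.a (σ 1) (σ 6) = 0 ∧ T.a (σ 1) (σ 7) = 0 ∧ T.a (σ 1) (σ 8) =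 0 ∧ T.a (σ 2) (σ 2) = -2 * w ∧ T.a (σ 2) (σ 3) = w ∧ T.a (σ 2) (σ 4) = 0 ∧ T.a (σ 2) (σ 5) = 0 ∧ T.a (σ 2) (σ 6) = 0 ∧ T.a (σ 2) (σ 7) = 0 ∧ T.a (σ 2) (σ 8) = 0 ∧ T.a (σ 3) (σ 3) = -2 * w ∧ T.a (σ 3) (σ 4) = w ∧ T.a (σ 3) (σ 5) = 0 ∧ T.a (σ 3) (σ 6) = 0 ∧ T.a (σ 3) (σ 7) = 0 ∧ T.a (σ 3) (σ 8) = 0 ∧ T.a (σ 4) (σ 4) = -2 * w ∧ T.a (σ 4) (σ 5) = w ∧ T.a (σ 4) (σ 6) = 0 ∧ T.a (σ 4) (σ 7) = 0 ∧ T.a (σ 4) (σ 8) = 0 ∧ T.a (σ 5) (σ 5) = -2 * w ∧ T.a (σ 5) (σ 6) = w ∧ T.a (σ 5) (σ 7) = 0 ∧ T.a (σ 5) (σ 8) = w ∧ T.a (σ 6) (σ 6) = -2 * w ∧ T.a (σ 6) (σ 7) = w ∧ T.a (σ 6) (σ 8) = 0 ∧ T.a (σ 7) (σ 7) = -2 * w ∧ T.a (σ 7) (σ 8) = 0 ∧ T.a (σ 8) (σ 8) = -2 * w)) := by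
  have c0_1 : cc T (σ 0) (σ 1) = 1 := by rw [hC 0 1 (by decide)]; rfl
  have c0_2 : cc T (σ 0) (σ 2) = 0 := by rw [hC 0 2 (by decide)]; rfl
  have c0_3 : cc T (σ 0) (σ 3) = 0 := by rw [hC 0 3 (by decide)]; rfl
  have c0_4 : cc T (σ 0) (σ 4) = 0 := by rw [hC 0 4 (by decide)]; rfl
  have c0_5 : cc T (σ 0) (σ 5) = 0 := by rw [hC 0 5 (by decide)]; rfl
  have c0_6 : cc T (σ 0) (σ 6) = 0 := by rw [hC 0 6 (by decide)]; rfl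
  have c0_7 : cc T (σ 0) (σ 7) = 0 := by rw [hC 0 7 (by decide)]; rfl
  have c0_8 : cc T (σ 0) (σ 8) = 0 := by rw [hC 0 8 (by decide)]; rfl
  have c1_0 : cc T (σ 1) (σ 0) = 2 := by rw [hC 1 0 (by decide)]; rfl
  have c1_2 : cc T (σ 1) (σ 2) = 1 := by rw [hC 1 2 (by decide)]; rfl
  have c1_3 : cc T (σ 1) (σ 3) = 0 := by rw [hC 1 3 (by decide)]; rfl
  have c1_4 : cc T (σ 1) (σ 4) = 0 := by rw [hC 1 4 (by decide)]; rfl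
  have c1_5 : cc T (σ 1) (σ 5) = 0 := by rw [hC 1 5 (by decide)]; rfl
  have c1_6 : cc T (σ 1) (σ 6) = 0 := by rw [hC 1 6 (by decide)]; rfl
  have c1_7 : cc T (σ 1) (σ 7) = 0 := by rw [hC 1 7 (by decide)]; rfl
  have c1_8 : cc T (σ 1) (σ 8) = 0 := by rw [hC 1 8 (by decide)]; rfl
  have c2_0 : cc T (σ 2) (σ 0) = 0 := by rw [hC 2 0 (by decide)]; rfl
  have c2_1 : cc T (σ 2) (σ 1) = 1 := by rw [hC 2 1 (by decide)]; rfl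
  have c2_3 : cc T (σ 2) (σ 3) = 1 := by rw [hC 2 3 (by decide)]; rfl
  have c2_4 : cc T (σ 2) (σ 4) = 0 := by rw [hC 2 4 (by decide)]; rfl
  have c2_5 : cc T (σ 2) (σ 5) = 0 := by rw [hC 2 5 (by decide)]; rfl
  have c2_6 : cc T (σ 2) (σ 6) = 0 := by rw [hC 2 6 (by decide)]; rfl
  have c2_7 : cc T (σ 2) (σ 7) = 0 := by rw [hC 2 7 (by decide)]; rfl
  have c2_8 : cc T (σ 2) (σ 8) = 0 := by rw [hC 2 8 (by decide)]; rfl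
  have c3_0 : cc T (σ 3) (σ 0) = 0 := by rw [hC 3 0 (by decide)]; rfl
  have c3_1 : cc T (σ 3) (σ 1) = 0 := by rw [hC 3 1 (by decide)]; rfl
  have c3_2 : cc T (σ 3) (σ 2) = 1 := by rw [hC 3 2 (by decide)]; rfl
  have c3_4 : cc T (σ 3) (σ 4) = 1 := by rw [hC 3 4 (by decide)]; rfl
  have c3_5 : cc T (σ 3) (σ 5) = 0 := by rw [hC 3 5 (by decide)]; rfl
  have c3_6 : cc T (σ 3) (σ 6) = 0 := by rw [hC 3 6 (by decide)]; rfl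
  have c3_7 : cc T (σ 3) (σ 7) = 0 := by rw [hC 3 7 (by decide)]; rfl
  have c3_8 : cc T (σ 3) (σ 8) = 0 := by rw [hC 3 8 (by decide)]; rfl
  have c4_0 : cc T (σ 4) (σ 0) = 0 := by rw [hC 4 0 (by decide)]; rfl
  have c4_1 : cc T (σ 4) (σ 1) = 0 := by rw [hC 4 1 (by decide)]; rfl
  have c4_2 : cc T (σ 4) (σ 2) = 0 := by rw [hC 4 2 (by decide)]; rfl
  have c4_3 : cc T (σ 4) (σ 3) = 1 := by rw [hC 4 3 (by decide)]; rfl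
  have c4_5 : cc T (σ 4) (σ 5) = 1 := by rw [hC 4 5 (by decide)]; rfl
  have c4_6 : cc T (σ 4) (σ 6) = 0 := by rw [hC 4 6 (by decide)]; rfl
  have c4_7 : cc T (σ 4) (σ 7) = 0 := by rw [hC 4 7 (by decide)]; rfl
  have c4_8 : cc T (σ 4) (σ 8) = 0 := by rw [hC 4 8 (by decide)]; rfl
  have c5_0 : cc T (σ 5) (σ 0) = 0 := by rw [hC 5 0 (by decide)]; rfl
  have c5_1 : cc T (σ 5) (σ 1) = 0 := by rw [hC 5 1 (by decide)]; rfl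
  have c5_2 : cc T (σ 5) (σ 2) = 0 := by rw [hC 5 2 (by decide)]; rfl
  have c5_3 : cc T (σ 5) (σ 3) = 0 := by rw [hC 5 3 (by decide)]; rfl
  have c5_4 : cc T (σ 5) (σ 4) = 1 := by rw [hC 5 4 (by decide)]; rfl
  have c5_6 : cc T (σ 5) (σ 6) = 1 := by rw [hC 5 6 (by decide)]; rfl
  have c5_7 : cc T (σ 5) (σ 7) = 0 := by rw [hC 5 7 (by decide)]; rfl
  have c5_8 : cc T (σ 5) (σ 8) = 0 := by rw [hC 5 8 (by decide)]; rfl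
  have c6_0 : cc T (σ 6) (σ 0) = 0 := by rw [hC 6 0 (by decide)]; rfl
  have c6_1 : cc T (σ 6) (σ 1) = 0 := by rw [hC 6 1 (by decide)]; rfl
  have c6_2 : cc T (σ 6) (σ 2) = 0 := by rw [hC 6 2 (by decide)]; rfl
  have c6_3 : cc T (σ 6) (σ 3) = 0 := by rw [hC 6 3 (by decide)]; rfl
  have c6_4 : cc T (σ 6) (σ 4) = 0 := by rw [hC 6 4 (by decide)]; rfl
  have c6_5 : cc T (σ 6) (σ 5) = 1 := by rw [hC 6 5 (by decide)]; rfl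
  have c6_7 : cc T (σ 6) (σ 7) = 1 := by rw [hC 6 7 (by decide)]; rfl
  have c6_8 : cc T (σ 6) (σ 8) = 0 := by rw [hC 6 8 (by decide)]; rfl
  have c7_0 : cc T (σ 7) (σ 0) = 0 := by rw [hC 7 0 (by decide)]; rfl
  have c7_1 : cc T (σ 7) (σ 1) = 0 := by rw [hC 7 1 (by decide)]; rfl
  have c7_2 : cc T (σ 7) (σ 2) = 0 := by rw [hC 7 2 (by decide)]; rfl
  have c7_3 : cc T (σ 7) (σ 3) = 0 := by rw [hC 7 3 (by decide)]; rfl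
  have c7_4 : cc T (σ 7) (σ 4) = 0 := by rw [hC 7 4 (by decide)]; rfl
  have c7_5 : cc T (σ 7) (σ 5) = 0 := by rw [hC 7 5 (by decide)]; rfl
  have c7_6 : cc T (σ 7) (σ 6) = 1 := by rw [hC 7 6 (by decide)]; rfl
  have c7_8 : cc T (σ 7) (σ 8) = 2 := by rw [hC 7 8 (by decide)]; rfl
  have c8_0 : cc T (σ 8) (σ 0) = 0 := by rw [hC 8 0 (by decide)]; rfl
  have c8_1 : cc T (σ 8) (σ 1) = 0 := by rw [hC 8 1 (by decide)]; rfl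
  have c8_2 : cc T (σ 8) (σ 2) = 0 := by rw [hC 8 2 (by decide)]; rfl
  have c8_3 : cc T (σ 8) (σ 3) = 0 := by rw [hC 8 3 (by decide)]; rfl
  have c8_4 : cc T (σ 8) (σ 4) = 0 := by rw [hC 8 4 (by decide)]; rfl
  have c8_5 : cc T (σ 8) (σ 5) = 0 := by rw [hC 8 5 (by decide)]; rfl
  have c8_6 : cc T (σ 8) (σ 6) = 0 := by rw [hC 8 6 (by decide)]; rfl
  have c8_7 : cc T (σ 8) (σ 7) = 1 := by rw [hC 8 7 (by decide)]; rfl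
  have dd0 := cc_diag T hd (σ 0)
  have dd1 := cc_diag T hd (σ 1)
  have dd2 := cc_diag T hd (σ 2)
  have dd3 := cc_diag T hd (σ 3)
  have dd4 := cc_diag T hd (σ 4)
  have dd5 := cc_diag T hd (σ 5)
  have dd6 := cc_diag T hd (σ 6)
  have dd7 := cc_diag T hd (σ 7)
  have dd8 := cc_diag T hd (σ 8)
  have r0 := row9 T σ 0
  rw [dd0, c0_1, c0_2, c0_3, c0_4, c0_5, c0_6, c0_7, c0_8] at r0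
  have r1 := row9 T σ 1
  rw [c1_0, dd1, c1_2, c1_3, c1_4, c1_5, c1_6, c1_7, c1_8] at r1
  have r2 := row9 T σ 2
  rw [c2_0, c2_1, dd2, c2_3, c2_4, c2_5, c2_6, c2_7, c2_8] at r2
  have r3 := row9 T σ 3
  rw [c3_0, c3_1, c3_2, dd3, c3_4, c3_5, c3_6, c3_7, c3_8] at r3
  have r4 := row9 T σ 4
  rw [c4_0, c4_1, c4_2, c4_3, dd4, c4_5, c4_6, c4_7, c4_8] at r4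
  have r5 := row9 T σ 5
  rw [c5_0, c5_1, c5_2, c5_3, c5_4, dd5, c5_6, c5_7, c5_8] at r5
  have r6 := row9 T σ 6
  rw [c6_0, c6_1, c6_2, c6_3, c6_4, c6_5, dd6, c6_7, c6_8] at r6
  have r7 := row9 T σ 7
  rw [c7_0, c7_1, c7_2, c7_3, c7_4, c7_5, c7_6, dd7, c7_8] at r7
  have r8 := row9 T σ 8
  rw [c8_0, c8_1, c8_2, c8_3, c8_4, c8_5, c8_6, c8_7, dd8] at r8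
  have a0_1 : T.a (σ 0) (σ 1) = T.w (σ 0) * 1 := by rw [a_eq, c0_1]
  have a0_2 : T.a (σ 0) (σ 2) = T.w (σ 0) * 0 := by rw [a_eq, c0_2]
  have a0_3 : T.a (σ 0) (σ 3) = T.w (σ 0) * 0 := by rw [a_eq, c0_3]
  have a0_4 : T.a (σ 0) (σ 4) = T.w (σ 0) * 0 := by rw [a_eq, c0_4]
  have a0_5 : T.a (σ 0) (σ 5) = T.w (σ 0) * 0 := by rw [a_eq, c0_5]
  have a0_6 : T.a (σ 0) (σ 6) = T.w (σ 0) * 0 := by rw [a_eq, c0_6]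
  have a0_7 : T.a (σ 0) (σ 7) = T.w (σ 0) * 0 := by rw [a_eq, c0_7]
  have a0_8 : T.a (σ 0) (σ 8) = T.w (σ 0) * 0 := by rw [a_eq, c0_8]
  have a1_0 : T.a (σ 1) (σ 0) = T.w (σ 1) * 2 := by rw [a_eq, c1_0]
  have a1_2 : T.a (σ 1) (σ 2) = T.w (σ 1) * 1 := by rw [a_eq, c1_2]
  have a1_3 : T.a (σ 1) (σ 3) = T.w (σ 1) * 0 := by rw [a_eq, c1_3]
  have a1_4 : T.a (σ 1) (σ 4) = T.w (σ 1) * 0 := by rw [a_eq, c1_4]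
  have a1_5 : T.a (σ 1) (σ 5) = T.w (σ 1) * 0 := by rw [a_eq, c1_5]
  have a1_6 : T.a (σ 1) (σ 6) = T.w (σ 1) * 0 := by rw [a_eq, c1_6]
  have a1_7 : T.a (σ 1) (σ 7) = T.w (σ 1) * 0 := by rw [a_eq, c1_7]
  have a1_8 : T.a (σ 1) (σ 8) = T.w (σ 1) * 0 := by rw [a_eq, c1_8]
  have a2_0 : T.a (σ 2) (σ 0) = T.w (σ 2) * 0 := by rw [a_eq, c2_0]
  have a2_1 : T.a (σ 2) (σ 1) = T.w (σ 2) * 1 := by rw [a_eq, c2_1]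
  have a2_3 : T.a (σ 2) (σ 3) = T.w (σ 2) * 1 := by rw [a_eq, c2_3]
  have a2_4 : T.a (σ 2) (σ 4) = T.w (σ 2) * 0 := by rw [a_eq, c2_4]
  have a2_5 : T.a (σ 2) (σ 5) = T.w (σ 2) * 0 := by rw [a_eq, c2_5]
  have a2_6 : T.a (σ 2) (σ 6) = T.w (σ 2) * 0 := by rw [a_eq, c2_6]
  have a2_7 : T.a (σ 2) (σ 7) = T.w (σ 2) * 0 := by rw [a_eq, c2_7]
  have a2_8 : T.a (σ 2) (σ 8) = T.w (σ 2) * 0 := by rw [a_eq, c2_8]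
  have a3_0 : T.a (σ 3) (σ 0) = T.w (σ 3) * 0 := by rw [a_eq, c3_0]
  have a3_1 : T.a (σ 3) (σ 1) = T.w (σ 3) * 0 := by rw [a_eq, c3_1]
  have a3_2 : T.a (σ 3) (σ 2) = T.w (σ 3) * 1 := by rw [a_eq, c3_2]
  have a3_4 : T.a (σ 3) (σ 4) = T.w (σ 3) * 1 := by rw [a_eq, c3_4]
  have a3_5 : T.a (σ 3) (σ 5) = T.w (σ 3) * 0 := by rw [a_eq, c3_5]
  have a3_6 : T.a (σ 3) (σ 6) = T.w (σ 3) * 0 := by rw [a_eq, c3_6]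
  have a3_7 : T.a (σ 3) (σ 7) = T.w (σ 3) * 0 := by rw [a_eq, c3_7]
  have a3_8 : T.a (σ 3) (σ 8) = T.w (σ 3) * 0 := by rw [a_eq, c3_8]
  have a4_0 : T.a (σ 4) (σ 0) = T.w (σ 4) * 0 := by rw [a_eq, c4_0]
  have a4_1 : T.a (σ 4) (σ 1) = T.w (σ 4) * 0 := by rw [a_eq, c4_1]
  have a4_2 : T.a (σ 4) (σ 2) = T.w (σ 4) * 0 := by rw [a_eq, c4_2]
  have a4_3 : T.a (σ 4) (σ 3) = T.w (σ 4) * 1 := by rw [a_eq, c4_3]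
  have a4_5 : T.a (σ 4) (σ 5) = T.w (σ 4) * 1 := by rw [a_eq, c4_5]
  have a4_6 : T.a (σ 4) (σ 6) = T.w (σ 4) * 0 := by rw [a_eq, c4_6]
  have a4_7 : T.a (σ 4) (σ 7) = T.w (σ 4) * 0 := by rw [a_eq, c4_7]
  have a4_8 : T.a (σ 4) (σ 8) = T.w (σ 4) * 0 := by rw [a_eq, c4_8]
  have a5_0 : T.a (σ 5) (σ 0) = T.w (σ 5) * 0 := by rw [a_eq, c5_0]
  have a5_1 : T.a (σ 5) (σ 1) = T.w (σ 5) * 0 := by rw [a_eq, c5_1]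
  have a5_2 : T.a (σ 5) (σ 2) = T.w (σ 5) * 0 := by rw [a_eq, c5_2]
  have a5_3 : T.a (σ 5) (σ 3) = T.w (σ 5) * 0 := by rw [a_eq, c5_3]
  have a5_4 : T.a (σ 5) (σ 4) = T.w (σ 5) * 1 := by rw [a_eq, c5_4]
  have a5_6 : T.a (σ 5) (σ 6) = T.w (σ 5) * 1 := by rw [a_eq, c5_6]
  have a5_7 : T.a (σ 5) (σ 7) = T.w (σ 5) * 0 := by rw [a_eq, c5_7]
  have a5_8 : T.a (σ 5) (σ 8) = T.w (σ 5) * 0 := by rw [a_eq, c5_8]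
  have a6_0 : T.a (σ 6) (σ 0) = T.w (σ 6) * 0 := by rw [a_eq, c6_0]
  have a6_1 : T.a (σ 6) (σ 1) = T.w (σ 6) * 0 := by rw [a_eq, c6_1]
  have a6_2 : T.a (σ 6) (σ 2) = T.w (σ 6) * 0 := by rw [a_eq, c6_2]
  have a6_3 : T.a (σ 6) (σ 3) = T.w (σ 6) * 0 := by rw [a_eq, c6_3]
  have a6_4 : T.a (σ 6) (σ 4) = T.w (σ 6) * 0 := by rw [a_eq, c6_4]
  have a6_5 : T.a (σ 6) (σ 5) = T.w (σ 6) * 1 := by rw [a_eq, c6_5]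
  have a6_7 : T.a (σ 6) (σ 7) = T.w (σ 6) * 1 := by rw [a_eq, c6_7]
  have a6_8 : T.a (σ 6) (σ 8) = T.w (σ 6) * 0 := by rw [a_eq, c6_8]
  have a7_0 : T.a (σ 7) (σ 0) = T.w (σ 7) * 0 := by rw [a_eq, c7_0]
  have a7_1 : T.a (σ 7) (σ 1) = T.w (σ 7) * 0 := by rw [a_eq, c7_1]
  have a7_2 : T.a (σ 7) (σ 2) = T.w (σ 7) * 0 := by rw [a_eq, c7_2]
  have a7_3 : T.a (σ 7) (σ 3) = T.w (σ 7) * 0 := by rw [a_eq, c7_3]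
  have a7_4 : T.a (σ 7) (σ 4) = T.w (σ 7) * 0 := by rw [a_eq, c7_4]
  have a7_5 : T.a (σ 7) (σ 5) = T.w (σ 7) * 0 := by rw [a_eq, c7_5]
  have a7_6 : T.a (σ 7) (σ 6) = T.w (σ 7) * 1 := by rw [a_eq, c7_6]
  have a7_8 : T.a (σ 7) (σ 8) = T.w (σ 7) * 2 := by rw [a_eq, c7_8]
  have a8_0 : T.a (σ 8) (σ 0) = T.w (σ 8) * 0 := by rw [a_eq, c8_0]
  have a8_1 : T.a (σ 8) (σ 1) = T.w (σ 8) * 0 := by rw [a_eq, c8_1]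
  have a8_2 : T.a (σ 8) (σ 2) = T.w (σ 8) * 0 := by rw [a_eq, c8_2]
  have a8_3 : T.a (σ 8) (σ 3) = T.w (σ 8) * 0 := by rw [a_eq, c8_3]
  have a8_4 : T.a (σ 8) (σ 4) = T.w (σ 8) * 0 := by rw [a_eq, c8_4]
  have a8_5 : T.a (σ 8) (σ 5) = T.w (σ 8) * 0 := by rw [a_eq, c8_5]
  have a8_6 : T.a (σ 8) (σ 6) = T.w (σ 8) * 0 := by rw [a_eq, c8_6]
  have a8_7 : T.a (σ 8) (σ 7) = T.w (σ 8) * 1 := by rw [a_eq, c8_7]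
  have ad0 := hd (σ 0)
  have ad1 := hd (σ 1)
  have ad2 := hd (σ 2)
  have ad3 := hd (σ 3)
  have ad4 := hd (σ 4)
  have ad5 := hd (σ 5)
  have ad6 := hd (σ 6)
  have ad7 := hd (σ 7)
  have ad8 := hd (σ 8)
  have s0_1 := a_symm T (σ 0) (σ 1)
  have s0_2 := a_symm T (σ 0) (σ 2)
  have s0_3 := a_symm T (σ 0) (σ 3)
  have s0_4 := a_symm T (σ 0) (σ 4)
  have s0_5 := a_symm T (σ 0) (σ 5)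
  have s0_6 := a_symm T (σ 0) (σ 6)
  have s0_7 := a_symm T (σ 0) (σ 7)
  have s0_8 := a_symm T (σ 0) (σ 8)
  have s1_2 := a_symm T (σ 1) (σ 2)
  have s1_3 := a_symm T (σ 1) (σ 3)
  have s1_4 := a_symm T (σ 1) (σ 4)
  have s1_5 := a_symm T (σ 1) (σ 5)
  have s1_6 := a_symm T (σ 1) (σ 6)
  have s1_7 := a_symm T (σ 1) (σ 7)
  have s1_8 := a_symm T (σ 1) (σ 8)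
  have s2_3 := a_symm T (σ 2) (σ 3)
  have s2_4 := a_symm T (σ 2) (σ 4)
  have s2_5 := a_symm T (σ 2) (σ 5)
  have s2_6 := a_symm T (σ 2) (σ 6)
  have s2_7 := a_symm T (σ 2) (σ 7)
  have s2_8 := a_symm T (σ 2) (σ 8)
  have s3_4 := a_symm T (σ 3) (σ 4)
  have s3_5 := a_symm T (σ 3) (σ 5)
  have s3_6 := a_symm T (σ 3) (σ 6)
  have s3_7 := a_symm T (σ 3) (σ 7)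
  have s3_8 := a_symm T (σ 3) (σ 8)
  have s4_5 := a_symm T (σ 4) (σ 5)
  have s4_6 := a_symm T (σ 4) (σ 6)
  have s4_7 := a_symm T (σ 4) (σ 7)
  have s4_8 := a_symm T (σ 4) (σ 8)
  have s5_6 := a_symm T (σ 5) (σ 6)
  have s5_7 := a_symm T (σ 5) (σ 7)
  have s5_8 := a_symm T (σ 5) (σ 8)
  have s6_7 := a_symm T (σ 6) (σ 7)
  have s6_8 := a_symm T (σ 6) (σ 8)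
  have s7_8 := a_symm T (σ 7) (σ 8)
  clear c0_1 c0_2 c0_3 c0_4 c0_5 c0_6 c0_7 c0_8 c1_0 c1_2 c1_3 c1_4 c1_5 c1_6 c1_7 c1_8 c2_0 c2_1 c2_3 c2_4 c2_5 c2_6 c2_7 c2_8 c3_0 c3_1 c3_2 c3_4 c3_5 c3_6 c3_7 c3_8 c4_0 c4_1 c4_2 c4_3 c4_5 c4_6 c4_7 c4_8 c5_0 c5_1 c5_2 c5_3 c5_4 c5_6 c5_7 c5_8 c6_0 c6_1 c6_2 c6_3 c6_4 c6_5 c6_7 c6_8 c7_0 c7_1 c7_2 c7_3 c7_4 c7_5 c7_6 c7_8 c8_0 c8_1 c8_2 c8_3 c8_4 c8_5 c8_6 c8_7 dd0 dd1 dd2 dd3 dd4 dd5 dd6 dd7 dd8 hC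
  have hm0 : T.m (σ 0) = 1 * T.m (σ 0) := by omega
  have hm1 : T.m (σ 1) = 2 * T.m (σ 0) := by omega
  have hm2 : T.m (σ 2) = 2 * T.m (σ 0) := by omega
  have hm3 : T.m (σ 3) = 2 * T.m (σ 0) := by omega
  have hm4 : T.m (σ 4) = 2 * T.m (σ 0) := by omega
  have hm5 : T.m (σ 5) = 2 * T.m (σ 0) := by omega
  have hm6 : T.m (σ 6) = 2 * T.m (σ 0) := by omega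
  have hm7 : T.m (σ 7) = 2 * T.m (σ 0) := by omega
  have hm8 : T.m (σ 8) = 1 * T.m (σ 0) := by omega
  clear r0 r1 r2 r3 r4 r5 r6 r7 r8
  have hw0 : T.w (σ 0) = 2 * T.w (σ 1) := by omega
  have hw1 : T.w (σ 1) = 1 * T.w (σ 1) := by omega
  have hw2 : T.w (σ 2) = 1 * T.w (σ 1) := by omega
  have hw3 : T.w (σ 3) = 1 * T.w (σ 1) := by omega
  have hw4 : T.w (σ 4) = 1 * T.w (σ 1) := by omega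
  have hw5 : T.w (σ 5) = 1 * T.w (σ 1) := by omega
  have hw6 : T.w (σ 6) = 1 * T.w (σ 1) := by omega
  have hw7 : T.w (σ 7) = 1 * T.w (σ 1) := by omega
  have hw8 : T.w (σ 8) = 2 * T.w (σ 1) := by omega
  refine ⟨σ, T.m (σ 0), T.w (σ 1), ?_⟩
  refine Or.inr (Or.inr (Or.inr (Or.inl ?_)))
  refine ⟨?_, ?_, ?_, ?_, ?_, ?_, ?_, ?_, ?_, ?_, ?_, ?_, ?_, ?_, ?_, ?_, ?_, ?_, ?_, ?_, ?_, ?_, ?_, ?_, ?_, ?_, ?_, ?_, ?_, ?_, ?_, ?_, ?_, ?_, ?_, ?_, ?_, ?_, ?_, ?_, ?_, ?_, ?_, ?_, ?_, ?_, ?_, ?_, ?_, ?_, ?_, ?_, ?_, ?_, ?_, ?_, ?_, ?_, ?_, ?_, ?_, ?_, ?_⟩ <;> omega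

theorem form9_4 (T : NumericalType 9) (hd : ∀ i, T.a i i = -2 * T.w i)
    (σ : Equiv.Perm (Fin 9))
    (hC : ∀ i j : Fin 9, i ≠ j → cc T (σ i) (σ j) = (E forms9 4 i j : ℤ)) :
    ∃ (σ : Equiv.Perm (Fin 9)) (m w : ℤ),
      ((T.m (σ 0) = m ∧ T.m (σ 1) = m ∧ T.m (σ 2) = m ∧ T.m (σ 3) = m ∧ T.m (σ 4) = m ∧ T.m (σ 5) = m ∧ T.m (σ 6) = m ∧ T.m (σ 7) = m ∧ T.m (σ 8) = m ∧ T.w (σ 0) = w ∧ T.w (σ 1) = w ∧ T.w (σ 2) = w ∧ T.w (σ 3) = w ∧ T.w (σ 4) = w ∧ T.w (σ 5) = w ∧ T.w (σ 6) = w ∧ T.w (σ 7) = w ∧ T.w (σ 8) = w ∧ T.a (σ 0) (σ 0) = -2 * w ∧ T.a (σ 0) (σ 1) = w ∧ T.a (σ 0) (σ 2) = 0 ∧ T.a (σ 0) (σ 3) = 0 ∧ T.a (σ 0) (σ 4) = 0 ∧ T.a (σ 0) (σ 5) = 0 ∧ T.a (σ 0) (σ 6) = 0 ∧ T.a (σ 0) (σ 7) = 0 ∧ T.a (σ 0)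 (σ 8) = w ∧ T.a (σ 1) (σ 1) = -2 * w ∧ T.a (σ 1) (σ 2) = w ∧ T.a (σ 1) (σ 3) = 0 ∧ T.a (σ 1) (σ 4) = 0 ∧ T.a (σ 1) (σ 5) = 0 ∧ T.a (σ 1) (σ 6) = 0 ∧ T.a (σ 1) (σ 7) = 0 ∧ T.a (σ 1) (σ 8) = 0 ∧ T.a (σ 2) (σ 2) = -2 * w ∧ T.a (σ 2) (σ 3) = w ∧ T.a (σ 2) (σ 4) = 0 ∧ T.a (σ 2) (σ 5) = 0 ∧ T.a (σ 2) (σ 6) = 0 ∧ T.a (σ 2) (σ 7) = 0 ∧ T.a (σ 2) (σ 8) = 0 ∧ T.a (σ 3) (σ 3) = -2 * w ∧ T.a (σ 3) (σ 4) = w ∧ T.a (σ 3) (σ 5) = 0 ∧ T.a (σ 3) (σ 6) = 0 ∧ T.a (σ 3) (σ 7) = 0 ∧ T.a (σ 3) (σ 8) = 0 ∧ T.a (σ 4) (σ 4) = -2 * w ∧ T.a (σ 4) (σ 5) = w ∧ T.a (σ 4) (σ 6) = 0 ∧ T.a (σ 4) (σ 7) = 0 ∧ T.a (σ 4) (σ 8) = 0 ∧ T.a (σ 5) (σ 5) = -2 * w ∧ T.a (σ 5) (σ 6) = w ∧ T.a (σ 5) (σ 7) = 0 ∧ T.a (σ 5) (σ 8) = 0 ∧ T.a (σ 6)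 (σ 6) = -2 * w ∧ T.a (σ 6) (σ 7) = w ∧ T.a (σ 6) (σ 8) = 0 ∧ T.a (σ 7) (σ 7) = -2 * w ∧ T.a (σ 7) (σ 8) = w ∧ T.a (σ 8) (σ 8) = -2 * w) ∨
      (T.m (σ 0) = 2 * m ∧ T.m (σ 1) = 2 * m ∧ T.m (σ 2) = 2 * m ∧ T.m (σ 3) = 2 * m ∧ T.m (σ 4) = 2 * m ∧ T.m (σ 5) = 2 * m ∧ T.m (σ 6) = 2 * m ∧ T.m (σ 7) = 2 * m ∧ T.m (σ 8) = m ∧ T.w (σ 0) = w ∧ T.w (σ 1) = 2 * w ∧ T.w (σ 2) = 2 * w ∧ T.w (σ 3) = 2 * w ∧ T.w (σ 4) = 2 * w ∧ T.w (σ 5) = 2 * w ∧ T.w (σ 6) = 2 * w ∧ T.w (σ 7) = 2 * w ∧ T.w (σ 8) = 4 * w ∧ T.a (σ 0) (σ 0) = -2 * w ∧ T.a (σ 0) (σ 1) = 2 * w ∧ T.a (σ 0) (σ 2) = 0 ∧ T.a (σ 0) (σ 3) = 0 ∧ T.a (σ 0) (σ 4) = 0 ∧ T.a (σ 0) (σ 5) = 0 ∧ T.a (σ 0) (σ 6) = 0 ∧ T.a (σ 0) (σ 7) = 0 ∧ T.a (σ 0) (σ 8) = 0 ∧ T.a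 (σ 1) (σ 1) = -4 * w ∧ T.a (σ 1) (σ 2) = 2 * w ∧ T.a (σ 1) (σ 3) = 0 ∧ T.a (σ 1) (σ 4) = 0 ∧ T.a (σ 1) (σ 5) = 0 ∧ T.a (σ 1) (σ 6) = 0 ∧ T.a (σ 1) (σ 7) = 0 ∧ T.a (σ 1) (σ 8) = 0 ∧ T.a (σ 2) (σ 2) = -4 * w ∧ T.a (σ 2) (σ 3) = 2 * w ∧ T.a (σ 2) (σ 4) = 0 ∧ T.a (σ 2) (σ 5) = 0 ∧ T.a (σ 2) (σ 6) = 0 ∧ T.a (σ 2) (σ 7) = 0 ∧ T.a (σ 2) (σ 8) = 0 ∧ T.a (σ 3) (σ 3) = -4 * w ∧ T.a (σ 3) (σ 4) = 2 * w ∧ T.a (σ 3) (σ 5) = 0 ∧ T.a (σ 3) (σ 6) = 0 ∧ T.a (σ 3) (σ 7) = 0 ∧ T.a (σ 3) (σ 8) = 0 ∧ T.a (σ 4) (σ 4) = -4 * w ∧ T.a (σ 4) (σ 5) = 2 * w ∧ T.a (σ 4) (σ 6) = 0 ∧ T.a (σ 4) (σ 7) = 0 ∧ T.a (σ 4) (σ 8) = 0 ∧ T.a (σ 5) (σ 5) = -4 * w ∧ T.a (σ 5) (σ 6) = 2 * w ∧ T.a (σ 5) (σ 7) = 0 ∧ T.a (σ 5) (σ 8) = 0 ∧ T.a (σ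 6) (σ 6) = -4 * w ∧ T.a (σ 6) (σ 7) = 2 * w ∧ T.a (σ 6) (σ 8) = 0 ∧ T.a (σ 7) (σ 7) = -4 * w ∧ T.a (σ 7) (σ 8) = 4 * w ∧ T.a (σ 8) (σ 8) = -8 * w) ∨
      (T.m (σ 0) = m ∧ T.m (σ 1) = m ∧ T.m (σ 2) = m ∧ T.m (σ 3) = m ∧ T.m (σ 4) = m ∧ T.m (σ 5) = m ∧ T.m (σ 6) = m ∧ T.m (σ 7) = m ∧ T.m (σ 8) = m ∧ T.w (σ 0) = w ∧ T.w (σ 1) = 2 * w ∧ T.w (σ 2) = 2 * w ∧ T.w (σ 3) = 2 * w ∧ T.w (σ 4) = 2 * w ∧ T.w (σ 5) = 2 * w ∧ T.w (σ 6) = 2 * w ∧ T.w (σ 7) = 2 * w ∧ T.w (σ 8) = w ∧ T.a (σ 0) (σ 0) = -2 * w ∧ T.a (σ 0) (σ 1) = 2 * w ∧ T.a (σ 0) (σ 2) = 0 ∧ T.a (σ 0) (σ 3) = 0 ∧ T.a (σ 0) (σ 4) = 0 ∧ T.a (σ 0) (σ 5) = 0 ∧ T.a (σ 0) (σ 6) = 0 ∧ T.a (σ 0) (σ 7) = 0 ∧ T.a (σ 0) (σ 8) = 0 ∧ T.a (σ 1) (σ 1) = -4 * w ∧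 T.a (σ 1) (σ 2) = 2 * w ∧ T.a (σ 1) (σ 3) = 0 ∧ T.a (σ 1) (σ 4) = 0 ∧ T.a (σ 1) (σ 5) = 0 ∧ T.a (σ 1) (σ 6) = 0 ∧ T.a (σ 1) (σ 7) = 0 ∧ T.a (σ 1) (σ 8) = 0 ∧ T.a (σ 2) (σ 2) = -4 * w ∧ T.a (σ 2) (σ 3) = 2 * w ∧ T.a (σ 2) (σ 4) = 0 ∧ T.a (σ 2) (σ 5) = 0 ∧ T.a (σ 2) (σ 6) = 0 ∧ T.a (σ 2) (σ 7) = 0 ∧ T.a (σ 2) (σ 8) = 0 ∧ T.a (σ 3) (σ 3) = -4 * w ∧ T.a (σ 3) (σ 4) = 2 * w ∧ T.a (σ 3) (σ 5) = 0 ∧ T.a (σ 3) (σ 6) = 0 ∧ T.a (σ 3) (σ 7) = 0 ∧ T.a (σ 3) (σ 8) = 0 ∧ T.a (σ 4) (σ 4) = -4 * w ∧ T.a (σ 4) (σ 5) = 2 * w ∧ T.a (σ 4) (σ 6) = 0 ∧ T.a (σ 4) (σ 7) = 0 ∧ T.a (σ 4) (σ 8) = 0 ∧ T.a (σ 5) (σ 5) = -4 * w ∧ T.a (σ 5) (σ 6) = 2 * w ∧ T.a (σ 5) (σ 7) = 0 ∧ T.a (σ 5) (σ 8) = 0 ∧ T.a (σ 6) (σ 6) = -4 * w ∧ T.a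 (σ 6) (σ 7) = 2 * w ∧ T.a (σ 6) (σ 8) = 0 ∧ T.a (σ 7) (σ 7) = -4 * w ∧ T.a (σ 7) (σ 8) = 2 * w ∧ T.a (σ 8) (σ 8) = -2 * w) ∨
      (T.m (σ 0) = m ∧ T.m (σ 1) = 2 * m ∧ T.m (σ 2) = 2 * m ∧ T.m (σ 3) = 2 * m ∧ T.m (σ 4) = 2 * m ∧ T.m (σ 5) = 2 * m ∧ T.m (σ 6) = 2 * m ∧ T.m (σ 7) = 2 * m ∧ T.m (σ 8) = m ∧ T.w (σ 0) = 2 * w ∧ T.w (σ 1) = w ∧ T.w (σ 2) = w ∧ T.w (σ 3) = w ∧ T.w (σ 4) = w ∧ T.w (σ 5) = w ∧ T.w (σ 6) = w ∧ T.w (σ 7) = w ∧ T.w (σ 8) = 2 * w ∧ T.a (σ 0) (σ 0) = -4 * w ∧ T.a (σ 0) (σ 1) = 2 * w ∧ T.a (σ 0) (σ 2) = 0 ∧ T.a (σ 0) (σ 3) = 0 ∧ T.a (σ 0) (σ 4) = 0 ∧ T.a (σ 0) (σ 5) = 0 ∧ T.a (σ 0) (σ 6) = 0 ∧ T.a (σ 0) (σ 7) = 0 ∧ T.a (σ 0) (σ 8) = 0 ∧ T.a (σ 1) (σ 1) = -2 * w ∧ T.a (σ 1) (σ 2)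 = w ∧ T.a (σ 1) (σ 3) = 0 ∧ T.a (σ 1) (σ 4) = 0 ∧ T.a (σ 1) (σ 5) = 0 ∧ T.a (σ 1) (σ 6) = 0 ∧ T.a (σ 1) (σ 7) = 0 ∧ T.a (σ 1) (σ 8) = 0 ∧ T.a (σ 2) (σ 2) = -2 * w ∧ T.a (σ 2) (σ 3) = w ∧ T.a (σ 2) (σ 4) = 0 ∧ T.a (σ 2) (σ 5) = 0 ∧ T.a (σ 2) (σ 6) = 0 ∧ T.a (σ 2) (σ 7) = 0 ∧ T.a (σ 2) (σ 8) = 0 ∧ T.a (σ 3) (σ 3) = -2 * w ∧ T.a (σ 3) (σ 4) = w ∧ T.a (σ 3) (σ 5) = 0 ∧ T.a (σ 3) (σ 6) = 0 ∧ T.a (σ 3) (σ 7) = 0 ∧ T.a (σ 3) (σ 8) = 0 ∧ T.a (σ 4) (σ 4) = -2 * w ∧ T.a (σ 4) (σ 5) = w ∧ T.a (σ 4) (σ 6) = 0 ∧ T.a (σ 4) (σ 7) = 0 ∧ T.a (σ 4) (σ 8) = 0 ∧ T.a (σ 5) (σ 5) = -2 * w ∧ T.a (σ 5) (σ 6) = w ∧ T.a (σ 5) (σ 7) = 0 ∧ T.a (σ 5) (σ 8) = 0 ∧ T.a (σ 6) (σ 6) = -2 * w ∧ T.a (σ 6) (σ 7) = w ∧ T.a (σ 6) (σ 8)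 = 0 ∧ T.a (σ 7) (σ 7) = -2 * w ∧ T.a (σ 7) (σ 8) = 2 * w ∧ T.a (σ 8) (σ 8) = -4 * w) ∨
      (T.m (σ 0) = m ∧ T.m (σ 1) = 2 * m ∧ T.m (σ 2) = 2 * m ∧ T.m (σ 3) = 2 * m ∧ T.m (σ 4) = 2 * m ∧ T.m (σ 5) = 2 * m ∧ T.m (σ 6) = 2 * m ∧ T.m (σ 7) = m ∧ T.m (σ 8) = m ∧ T.w (σ 0) = 2 * w ∧ T.w (σ 1) = w ∧ T.w (σ 2) = w ∧ T.w (σ 3) = w ∧ T.w (σ 4) = w ∧ T.w (σ 5) = w ∧ T.w (σ 6) = w ∧ T.w (σ 7) = w ∧ T.w (σ 8) = w ∧ T.a (σ 0) (σ 0) = -4 * w ∧ T.a (σ 0) (σ 1) = 2 * w ∧ T.a (σ 0) (σ 2) = 0 ∧ T.a (σ 0) (σ 3) = 0 ∧ T.a (σ 0) (σ 4) = 0 ∧ T.a (σ 0) (σ 5) = 0 ∧ T.a (σ 0) (σ 6) = 0 ∧ T.a (σ 0) (σ 7) = 0 ∧ T.a (σ 0) (σ 8) = 0 ∧ T.a (σ 1) (σ 1) = -2 * w ∧ T.a (σ 1) (σ 2) = w ∧ T.a (σ 1) (σ 3) = 0 ∧ T.a (σ 1) (σ 4) =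 0 ∧ T.a (σ 1) (σ 5) = 0 ∧ T.a (σ 1) (σ 6) = 0 ∧ T.a (σ 1) (σ 7) = 0 ∧ T.a (σ 1) (σ 8) = 0 ∧ T.a (σ 2) (σ 2) = -2 * w ∧ T.a (σ 2) (σ 3) = w ∧ T.a (σ 2) (σ 4) = 0 ∧ T.a (σ 2) (σ 5) = 0 ∧ T.a (σ 2) (σ 6) = 0 ∧ T.a (σ 2) (σ 7) = 0 ∧ T.a (σ 2) (σ 8) = 0 ∧ T.a (σ 3) (σ 3) = -2 * w ∧ T.a (σ 3) (σ 4) = w ∧ T.a (σ 3) (σ 5) = 0 ∧ T.a (σ 3) (σ 6) = 0 ∧ T.a (σ 3) (σ 7) = 0 ∧ T.a (σ 3) (σ 8) = 0 ∧ T.a (σ 4) (σ 4) = -2 * w ∧ T.a (σ 4) (σ 5) = w ∧ T.a (σ 4) (σ 6) = 0 ∧ T.a (σ 4) (σ 7) = 0 ∧ T.a (σ 4) (σ 8) = 0 ∧ T.a (σ 5) (σ 5) = -2 * w ∧ T.a (σ 5) (σ 6) = w ∧ T.a (σ 5) (σ 7) = 0 ∧ T.a (σ 5) (σ 8) = 0 ∧ T.a (σ 6) (σ 6) = -2 * w ∧ T.a (σ 6) (σ 7) = w ∧ T.a (σ 6) (σ 8) = w ∧ T.a (σ 7) (σ 7) = -2 * w ∧ T.a (σ 7) (σ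 8) = 0 ∧ T.a (σ 8) (σ 8) = -2 * w) ∨
      (T.m (σ 0) = 2 * m ∧ T.m (σ 1) = 2 * m ∧ T.m (σ 2) = 2 * m ∧ T.m (σ 3) = 2 * m ∧ T.m (σ 4) = 2 * m ∧ T.m (σ 5) = 2 * m ∧ T.m (σ 6) = 2 * m ∧ T.m (σ 7) = m ∧ T.m (σ 8) = m ∧ T.w (σ 0) = w ∧ T.w (σ 1) = 2 * w ∧ T.w (σ 2) = 2 * w ∧ T.w (σ 3) = 2 * w ∧ T.w (σ 4) = 2 * w ∧ T.w (σ 5) = 2 * w ∧ T.w (σ 6) = 2 * w ∧ T.w (σ 7) = 2 * w ∧ T.w (σ 8) = 2 * w ∧ T.a (σ 0) (σ 0) = -2 * w ∧ T.a (σ 0) (σ 1) = 2 * w ∧ T.a (σ 0) (σ 2) = 0 ∧ T.a (σ 0) (σ 3) = 0 ∧ T.a (σ 0) (σ 4) = 0 ∧ T.a (σ 0) (σ 5) = 0 ∧ T.a (σ 0) (σ 6) = 0 ∧ T.a (σ 0) (σ 7) = 0 ∧ T.a (σ 0) (σ 8) = 0 ∧ T.a (σ 1) (σ 1) = -4 * w ∧ T.a (σ 1) (σ 2) = 2 * w ∧ T.a (σ 1) (σ 3) = 0 ∧ T.a (σ 1) (σ 4) = 0 ∧ T.a (σ 1)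 (σ 5) = 0 ∧ T.a (σ 1) (σ 6) = 0 ∧ T.a (σ 1) (σ 7) = 0 ∧ T.a (σ 1) (σ 8) = 0 ∧ T.a (σ 2) (σ 2) = -4 * w ∧ T.a (σ 2) (σ 3) = 2 * w ∧ T.a (σ 2) (σ 4) = 0 ∧ T.a (σ 2) (σ 5) = 0 ∧ T.a (σ 2) (σ 6) = 0 ∧ T.a (σ 2) (σ 7) = 0 ∧ T.a (σ 2) (σ 8) = 0 ∧ T.a (σ 3) (σ 3) = -4 * w ∧ T.a (σ 3) (σ 4) = 2 * w ∧ T.a (σ 3) (σ 5) = 0 ∧ T.a (σ 3) (σ 6) = 0 ∧ T.a (σ 3) (σ 7) = 0 ∧ T.a (σ 3) (σ 8) = 0 ∧ T.a (σ 4) (σ 4) = -4 * w ∧ T.a (σ 4) (σ 5) = 2 * w ∧ T.a (σ 4) (σ 6) = 0 ∧ T.a (σ 4) (σ 7) = 0 ∧ T.a (σ 4) (σ 8) = 0 ∧ T.a (σ 5) (σ 5) = -4 * w ∧ T.a (σ 5) (σ 6) = 2 * w ∧ T.a (σ 5) (σ 7) = 0 ∧ T.a (σ 5) (σ 8) = 0 ∧ T.a (σ 6) (σ 6) = -4 * w ∧ T.a (σ 6) (σ 7) = 2 * w ∧ T.a (σ 6) (σ 8) = 2 * w ∧ T.a (σ 7) (σ 7) = -4 * w ∧ T.a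 (σ 7) (σ 8) = 0 ∧ T.a (σ 8) (σ 8) = -4 * w) ∨
      (T.m (σ 0) = m ∧ T.m (σ 1) = m ∧ T.m (σ 2) = 2 * m ∧ T.m (σ 3) = 2 * m ∧ T.m (σ 4) = 2 * m ∧ T.m (σ 5) = 2 * m ∧ T.m (σ 6) = 2 * m ∧ T.m (σ 7) = m ∧ T.m (σ 8) = m ∧ T.w (σ 0) = w ∧ T.w (σ 1) = w ∧ T.w (σ 2) = w ∧ T.w (σ 3) = w ∧ T.w (σ 4) = w ∧ T.w (σ 5) = w ∧ T.w (σ 6) = w ∧ T.w (σ 7) = w ∧ T.w (σ 8) = w ∧ T.a (σ 0) (σ 0) = -2 * w ∧ T.a (σ 0) (σ 1) = 0 ∧ T.a (σ 0) (σ 2) = w ∧ T.a (σ 0) (σ 3) = 0 ∧ T.a (σ 0) (σ 4) = 0 ∧ T.a (σ 0) (σ 5) = 0 ∧ T.a (σ 0) (σ 6) = 0 ∧ T.a (σ 0) (σ 7) = 0 ∧ T.a (σ 0) (σ 8) = 0 ∧ T.a (σ 1) (σ 1) = -2 * w ∧ T.a (σ 1) (σ 2) = w ∧ T.a (σ 1) (σ 3) = 0 ∧ T.a (σ 1) (σ 4) = 0 ∧ T.a (σ 1) (σ 5) = 0 ∧ T.a (σ 1) (σ 6) = 0 ∧ T.a (σ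 1) (σ 7) = 0 ∧ T.a (σ 1) (σ 8) = 0 ∧ T.a (σ 2) (σ 2) = -2 * w ∧ T.a (σ 2) (σ 3) = w ∧ T.a (σ 2) (σ 4) = 0 ∧ T.a (σ 2) (σ 5) = 0 ∧ T.a (σ 2) (σ 6) = 0 ∧ T.a (σ 2) (σ 7) = 0 ∧ T.a (σ 2) (σ 8) = 0 ∧ T.a (σ 3) (σ 3) = -2 * w ∧ T.a (σ 3) (σ 4) = w ∧ T.a (σ 3) (σ 5) = 0 ∧ T.a (σ 3) (σ 6) = 0 ∧ T.a (σ 3) (σ 7) = 0 ∧ T.a (σ 3) (σ 8) = 0 ∧ T.a (σ 4) (σ 4) = -2 * w ∧ T.a (σ 4) (σ 5) = w ∧ T.a (σ 4) (σ 6) = 0 ∧ T.a (σ 4) (σ 7) = 0 ∧ T.a (σ 4) (σ 8) = 0 ∧ T.a (σ 5) (σ 5) = -2 * w ∧ T.a (σ 5) (σ 6) = w ∧ T.a (σ 5) (σ 7) = 0 ∧ T.a (σ 5) (σ 8) = 0 ∧ T.a (σ 6) (σ 6) = -2 * w ∧ T.a (σ 6) (σ 7) = w ∧ T.a (σ 6) (σ 8) = w ∧ T.a (σ 7) (σ 7) = -2 * w ∧ T.a (σ 7) (σ 8) = 0 ∧ T.a (σ 8) (σ 8) = -2 * w) ∨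
      (T.m (σ 0) = m ∧ T.m (σ 1) = 2 * m ∧ T.m (σ 2) = 3 * m ∧ T.m (σ 3) = 4 * m ∧ T.m (σ 4) = 5 * m ∧ T.m (σ 5) = 6 * m ∧ T.m (σ 6) = 4 * m ∧ T.m (σ 7) = 2 * m ∧ T.m (σ 8) = 3 * m ∧ T.w (σ 0) = w ∧ T.w (σ 1) = w ∧ T.w (σ 2) = w ∧ T.w (σ 3) = w ∧ T.w (σ 4) = w ∧ T.w (σ 5) = w ∧ T.w (σ 6) = w ∧ T.w (σ 7) = w ∧ T.w (σ 8) = w ∧ T.a (σ 0) (σ 0) = -2 * w ∧ T.a (σ 0) (σ 1) = w ∧ T.a (σ 0) (σ 2) = 0 ∧ T.a (σ 0) (σ 3) = 0 ∧ T.a (σ 0) (σ 4) = 0 ∧ T.a (σ 0) (σ 5) = 0 ∧ T.a (σ 0) (σ 6) = 0 ∧ T.a (σ 0) (σ 7) = 0 ∧ T.a (σ 0) (σ 8) = 0 ∧ T.a (σ 1) (σ 1) = -2 * w ∧ T.a (σ 1) (σ 2) = w ∧ T.a (σ 1) (σ 3) = 0 ∧ T.a (σ 1) (σ 4) = 0 ∧ T.a (σ 1) (σ 5) = 0 ∧ T.a (σ 1) (σ 6) = 0 ∧ T.a (σ 1) (σ 7) = 0 ∧ T.a (σ 1) (σ 8) =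 0 ∧ T.a (σ 2) (σ 2) = -2 * w ∧ T.a (σ 2) (σ 3) = w ∧ T.a (σ 2) (σ 4) = 0 ∧ T.a (σ 2) (σ 5) = 0 ∧ T.a (σ 2) (σ 6) = 0 ∧ T.a (σ 2) (σ 7) = 0 ∧ T.a (σ 2) (σ 8) = 0 ∧ T.a (σ 3) (σ 3) = -2 * w ∧ T.a (σ 3) (σ 4) = w ∧ T.a (σ 3) (σ 5) = 0 ∧ T.a (σ 3) (σ 6) = 0 ∧ T.a (σ 3) (σ 7) = 0 ∧ T.a (σ 3) (σ 8) = 0 ∧ T.a (σ 4) (σ 4) = -2 * w ∧ T.a (σ 4) (σ 5) = w ∧ T.a (σ 4) (σ 6) = 0 ∧ T.a (σ 4) (σ 7) = 0 ∧ T.a (σ 4) (σ 8) = 0 ∧ T.a (σ 5) (σ 5) = -2 * w ∧ T.a (σ 5) (σ 6) = w ∧ T.a (σ 5) (σ 7) = 0 ∧ T.a (σ 5) (σ 8) = w ∧ T.a (σ 6) (σ 6) = -2 * w ∧ T.a (σ 6) (σ 7) = w ∧ T.a (σ 6) (σ 8) = 0 ∧ T.a (σ 7) (σ 7) = -2 * w ∧ T.a (σ 7) (σ 8) = 0 ∧ T.a (σ 8) (σ 8) = -2 * w)) := by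
  have c0_1 : cc T (σ 0) (σ 1) = 1 := by rw [hC 0 1 (by decide)]; rfl
  have c0_2 : cc T (σ 0) (σ 2) = 0 := by rw [hC 0 2 (by decide)]; rfl
  have c0_3 : cc T (σ 0) (σ 3) = 0 := by rw [hC 0 3 (by decide)]; rfl
  have c0_4 : cc T (σ 0) (σ 4) = 0 := by rw [hC 0 4 (by decide)]; rfl
  have c0_5 : cc T (σ 0) (σ 5) = 0 := by rw [hC 0 5 (by decide)]; rfl
  have c0_6 : cc T (σ 0) (σ 6) = 0 := by rw [hC 0 6 (by decide)]; rfl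
  have c0_7 : cc T (σ 0) (σ 7) = 0 := by rw [hC 0 7 (by decide)]; rfl
  have c0_8 : cc T (σ 0) (σ 8) = 0 := by rw [hC 0 8 (by decide)]; rfl
  have c1_0 : cc T (σ 1) (σ 0) = 2 := by rw [hC 1 0 (by decide)]; rfl
  have c1_2 : cc T (σ 1) (σ 2) = 1 := by rw [hC 1 2 (by decide)]; rfl
  have c1_3 : cc T (σ 1) (σ 3) = 0 := by rw [hC 1 3 (by decide)]; rfl
  have c1_4 : cc T (σ 1) (σ 4) = 0 := by rw [hC 1 4 (by decide)]; rfl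
  have c1_5 : cc T (σ 1) (σ 5) = 0 := by rw [hC 1 5 (by decide)]; rfl
  have c1_6 : cc T (σ 1) (σ 6) = 0 := by rw [hC 1 6 (by decide)]; rfl
  have c1_7 : cc T (σ 1) (σ 7) = 0 := by rw [hC 1 7 (by decide)]; rfl
  have c1_8 : cc T (σ 1) (σ 8) = 0 := by rw [hC 1 8 (by decide)]; rfl
  have c2_0 : cc T (σ 2) (σ 0) = 0 := by rw [hC 2 0 (by decide)]; rfl
  have c2_1 : cc T (σ 2) (σ 1) = 1 := by rw [hC 2 1 (by decide)]; rfl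
  have c2_3 : cc T (σ 2) (σ 3) = 1 := by rw [hC 2 3 (by decide)]; rfl
  have c2_4 : cc T (σ 2) (σ 4) = 0 := by rw [hC 2 4 (by decide)]; rfl
  have c2_5 : cc T (σ 2) (σ 5) = 0 := by rw [hC 2 5 (by decide)]; rfl
  have c2_6 : cc T (σ 2) (σ 6) = 0 := by rw [hC 2 6 (by decide)]; rfl
  have c2_7 : cc T (σ 2) (σ 7) = 0 := by rw [hC 2 7 (by decide)]; rfl
  have c2_8 : cc T (σ 2) (σ 8) = 0 := by rw [hC 2 8 (by decide)]; rfl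
  have c3_0 : cc T (σ 3) (σ 0) = 0 := by rw [hC 3 0 (by decide)]; rfl
  have c3_1 : cc T (σ 3) (σ 1) = 0 := by rw [hC 3 1 (by decide)]; rfl
  have c3_2 : cc T (σ 3) (σ 2) = 1 := by rw [hC 3 2 (by decide)]; rfl
  have c3_4 : cc T (σ 3) (σ 4) = 1 := by rw [hC 3 4 (by decide)]; rfl
  have c3_5 : cc T (σ 3) (σ 5) = 0 := by rw [hC 3 5 (by decide)]; rfl
  have c3_6 : cc T (σ 3) (σ 6) = 0 := by rw [hC 3 6 (by decide)]; rfl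
  have c3_7 : cc T (σ 3) (σ 7) = 0 := by rw [hC 3 7 (by decide)]; rfl
  have c3_8 : cc T (σ 3) (σ 8) = 0 := by rw [hC 3 8 (by decide)]; rfl
  have c4_0 : cc T (σ 4) (σ 0) = 0 := by rw [hC 4 0 (by decide)]; rfl
  have c4_1 : cc T (σ 4) (σ 1) = 0 := by rw [hC 4 1 (by decide)]; rfl
  have c4_2 : cc T (σ 4) (σ 2) = 0 := by rw [hC 4 2 (by decide)]; rfl
  have c4_3 : cc T (σ 4) (σ 3) = 1 := by rw [hC 4 3 (by decide)]; rfl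
  have c4_5 : cc T (σ 4) (σ 5) = 1 := by rw [hC 4 5 (by decide)]; rfl
  have c4_6 : cc T (σ 4) (σ 6) = 0 := by rw [hC 4 6 (by decide)]; rfl
  have c4_7 : cc T (σ 4) (σ 7) = 0 := by rw [hC 4 7 (by decide)]; rfl
  have c4_8 : cc T (σ 4) (σ 8) = 0 := by rw [hC 4 8 (by decide)]; rfl
  have c5_0 : cc T (σ 5) (σ 0) = 0 := by rw [hC 5 0 (by decide)]; rfl
  have c5_1 : cc T (σ 5) (σ 1) = 0 := by rw [hC 5 1 (by decide)]; rfl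
  have c5_2 : cc T (σ 5) (σ 2) = 0 := by rw [hC 5 2 (by decide)]; rfl
  have c5_3 : cc T (σ 5) (σ 3) = 0 := by rw [hC 5 3 (by decide)]; rfl
  have c5_4 : cc T (σ 5) (σ 4) = 1 := by rw [hC 5 4 (by decide)]; rfl
  have c5_6 : cc T (σ 5) (σ 6) = 1 := by rw [hC 5 6 (by decide)]; rfl
  have c5_7 : cc T (σ 5) (σ 7) = 0 := by rw [hC 5 7 (by decide)]; rfl
  have c5_8 : cc T (σ 5) (σ 8) = 0 := by rw [hC 5 8 (by decide)]; rfl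
  have c6_0 : cc T (σ 6) (σ 0) = 0 := by rw [hC 6 0 (by decide)]; rfl
  have c6_1 : cc T (σ 6) (σ 1) = 0 := by rw [hC 6 1 (by decide)]; rfl
  have c6_2 : cc T (σ 6) (σ 2) = 0 := by rw [hC 6 2 (by decide)]; rfl
  have c6_3 : cc T (σ 6) (σ 3) = 0 := by rw [hC 6 3 (by decide)]; rfl
  have c6_4 : cc T (σ 6) (σ 4) = 0 := by rw [hC 6 4 (by decide)]; rfl
  have c6_5 : cc T (σ 6) (σ 5) = 1 := by rw [hC 6 5 (by decide)]; rfl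
  have c6_7 : cc T (σ 6) (σ 7) = 1 := by rw [hC 6 7 (by decide)]; rfl
  have c6_8 : cc T (σ 6) (σ 8) = 1 := by rw [hC 6 8 (by decide)]; rfl
  have c7_0 : cc T (σ 7) (σ 0) = 0 := by rw [hC 7 0 (by decide)]; rfl
  have c7_1 : cc T (σ 7) (σ 1) = 0 := by rw [hC 7 1 (by decide)]; rfl
  have c7_2 : cc T (σ 7) (σ 2) = 0 := by rw [hC 7 2 (by decide)]; rfl
  have c7_3 : cc T (σ 7) (σ 3) = 0 := by rw [hC 7 3 (by decide)]; rfl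
  have c7_4 : cc T (σ 7) (σ 4) = 0 := by rw [hC 7 4 (by decide)]; rfl
  have c7_5 : cc T (σ 7) (σ 5) = 0 := by rw [hC 7 5 (by decide)]; rfl
  have c7_6 : cc T (σ 7) (σ 6) = 1 := by rw [hC 7 6 (by decide)]; rfl
  have c7_8 : cc T (σ 7) (σ 8) = 0 := by rw [hC 7 8 (by decide)]; rfl
  have c8_0 : cc T (σ 8) (σ 0) = 0 := by rw [hC 8 0 (by decide)]; rfl
  have c8_1 : cc T (σ 8) (σ 1) = 0 := by rw [hC 8 1 (by decide)]; rfl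
  have c8_2 : cc T (σ 8) (σ 2) = 0 := by rw [hC 8 2 (by decide)]; rfl
  have c8_3 : cc T (σ 8) (σ 3) = 0 := by rw [hC 8 3 (by decide)]; rfl
  have c8_4 : cc T (σ 8) (σ 4) = 0 := by rw [hC 8 4 (by decide)]; rfl
  have c8_5 : cc T (σ 8) (σ 5) = 0 := by rw [hC 8 5 (by decide)]; rfl
  have c8_6 : cc T (σ 8) (σ 6) = 1 := by rw [hC 8 6 (by decide)]; rfl
  have c8_7 : cc T (σ 8) (σ 7) = 0 := by rw [hC 8 7 (by decide)]; rfl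
  have dd0 := cc_diag T hd (σ 0)
  have dd1 := cc_diag T hd (σ 1)
  have dd2 := cc_diag T hd (σ 2)
  have dd3 := cc_diag T hd (σ 3)
  have dd4 := cc_diag T hd (σ 4)
  have dd5 := cc_diag T hd (σ 5)
  have dd6 := cc_diag T hd (σ 6)
  have dd7 := cc_diag T hd (σ 7)
  have dd8 := cc_diag T hd (σ 8)
  have r0 := row9 T σ 0
  rw [dd0, c0_1, c0_2, c0_3, c0_4, c0_5, c0_6, c0_7, c0_8] at r0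
  have r1 := row9 T σ 1
  rw [c1_0, dd1, c1_2, c1_3, c1_4, c1_5, c1_6, c1_7, c1_8] at r1
  have r2 := row9 T σ 2
  rw [c2_0, c2_1, dd2, c2_3, c2_4, c2_5, c2_6, c2_7, c2_8] at r2
  have r3 := row9 T σ 3
  rw [c3_0, c3_1, c3_2, dd3, c3_4, c3_5, c3_6, c3_7, c3_8] at r3
  have r4 := row9 T σ 4
  rw [c4_0, c4_1, c4_2, c4_3, dd4, c4_5, c4_6, c4_7, c4_8] at r4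
  have r5 := row9 T σ 5
  rw [c5_0, c5_1, c5_2, c5_3, c5_4, dd5, c5_6, c5_7, c5_8] at r5
  have r6 := row9 T σ 6
  rw [c6_0, c6_1, c6_2, c6_3, c6_4, c6_5, dd6, c6_7, c6_8] at r6
  have r7 := row9 T σ 7
  rw [c7_0, c7_1, c7_2, c7_3, c7_4, c7_5, c7_6, dd7, c7_8] at r7
  have r8 := row9 T σ 8
  rw [c8_0, c8_1, c8_2, c8_3, c8_4, c8_5, c8_6, c8_7, dd8] at r8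
  have a0_1 : T.a (σ 0) (σ 1) = T.w (σ 0) * 1 := by rw [a_eq, c0_1]
  have a0_2 : T.a (σ 0) (σ 2) = T.w (σ 0) * 0 := by rw [a_eq, c0_2]
  have a0_3 : T.a (σ 0) (σ 3) = T.w (σ 0) * 0 := by rw [a_eq, c0_3]
  have a0_4 : T.a (σ 0) (σ 4) = T.w (σ 0) * 0 := by rw [a_eq, c0_4]
  have a0_5 : T.a (σ 0) (σ 5) = T.w (σ 0) * 0 := by rw [a_eq, c0_5]
  have a0_6 : T.a (σ 0) (σ 6) = T.w (σ 0) * 0 := by rw [a_eq, c0_6]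
  have a0_7 : T.a (σ 0) (σ 7) = T.w (σ 0) * 0 := by rw [a_eq, c0_7]
  have a0_8 : T.a (σ 0) (σ 8) = T.w (σ 0) * 0 := by rw [a_eq, c0_8]
  have a1_0 : T.a (σ 1) (σ 0) = T.w (σ 1) * 2 := by rw [a_eq, c1_0]
  have a1_2 : T.a (σ 1) (σ 2) = T.w (σ 1) * 1 := by rw [a_eq, c1_2]
  have a1_3 : T.a (σ 1) (σ 3) = T.w (σ 1) * 0 := by rw [a_eq, c1_3]
  have a1_4 : T.a (σ 1) (σ 4) = T.w (σ 1) * 0 := by rw [a_eq, c1_4]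
  have a1_5 : T.a (σ 1) (σ 5) = T.w (σ 1) * 0 := by rw [a_eq, c1_5]
  have a1_6 : T.a (σ 1) (σ 6) = T.w (σ 1) * 0 := by rw [a_eq, c1_6]
  have a1_7 : T.a (σ 1) (σ 7) = T.w (σ 1) * 0 := by rw [a_eq, c1_7]
  have a1_8 : T.a (σ 1) (σ 8) = T.w (σ 1) * 0 := by rw [a_eq, c1_8]
  have a2_0 : T.a (σ 2) (σ 0) = T.w (σ 2) * 0 := by rw [a_eq, c2_0]
  have a2_1 : T.a (σ 2) (σ 1) = T.w (σ 2) * 1 := by rw [a_eq, c2_1]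
  have a2_3 : T.a (σ 2) (σ 3) = T.w (σ 2) * 1 := by rw [a_eq, c2_3]
  have a2_4 : T.a (σ 2) (σ 4) = T.w (σ 2) * 0 := by rw [a_eq, c2_4]
  have a2_5 : T.a (σ 2) (σ 5) = T.w (σ 2) * 0 := by rw [a_eq, c2_5]
  have a2_6 : T.a (σ 2) (σ 6) = T.w (σ 2) * 0 := by rw [a_eq, c2_6]
  have a2_7 : T.a (σ 2) (σ 7) = T.w (σ 2) * 0 := by rw [a_eq, c2_7]
  have a2_8 : T.a (σ 2) (σ 8) = T.w (σ 2) * 0 := by rw [a_eq, c2_8]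
  have a3_0 : T.a (σ 3) (σ 0) = T.w (σ 3) * 0 := by rw [a_eq, c3_0]
  have a3_1 : T.a (σ 3) (σ 1) = T.w (σ 3) * 0 := by rw [a_eq, c3_1]
  have a3_2 : T.a (σ 3) (σ 2) = T.w (σ 3) * 1 := by rw [a_eq, c3_2]
  have a3_4 : T.a (σ 3) (σ 4) = T.w (σ 3) * 1 := by rw [a_eq, c3_4]
  have a3_5 : T.a (σ 3) (σ 5) = T.w (σ 3) * 0 := by rw [a_eq, c3_5]
  have a3_6 : T.a (σ 3) (σ 6) = T.w (σ 3) * 0 := by rw [a_eq, c3_6]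
  have a3_7 : T.a (σ 3) (σ 7) = T.w (σ 3) * 0 := by rw [a_eq, c3_7]
  have a3_8 : T.a (σ 3) (σ 8) = T.w (σ 3) * 0 := by rw [a_eq, c3_8]
  have a4_0 : T.a (σ 4) (σ 0) = T.w (σ 4) * 0 := by rw [a_eq, c4_0]
  have a4_1 : T.a (σ 4) (σ 1) = T.w (σ 4) * 0 := by rw [a_eq, c4_1]
  have a4_2 : T.a (σ 4) (σ 2) = T.w (σ 4) * 0 := by rw [a_eq, c4_2]
  have a4_3 : T.a (σ 4) (σ 3) = T.w (σ 4) * 1 := by rw [a_eq, c4_3]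
  have a4_5 : T.a (σ 4) (σ 5) = T.w (σ 4) * 1 := by rw [a_eq, c4_5]
  have a4_6 : T.a (σ 4) (σ 6) = T.w (σ 4) * 0 := by rw [a_eq, c4_6]
  have a4_7 : T.a (σ 4) (σ 7) = T.w (σ 4) * 0 := by rw [a_eq, c4_7]
  have a4_8 : T.a (σ 4) (σ 8) = T.w (σ 4) * 0 := by rw [a_eq, c4_8]
  have a5_0 : T.a (σ 5) (σ 0) = T.w (σ 5) * 0 := by rw [a_eq, c5_0]
  have a5_1 : T.a (σ 5) (σ 1) = T.w (σ 5) * 0 := by rw [a_eq, c5_1]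
  have a5_2 : T.a (σ 5) (σ 2) = T.w (σ 5) * 0 := by rw [a_eq, c5_2]
  have a5_3 : T.a (σ 5) (σ 3) = T.w (σ 5) * 0 := by rw [a_eq, c5_3]
  have a5_4 : T.a (σ 5) (σ 4) = T.w (σ 5) * 1 := by rw [a_eq, c5_4]
  have a5_6 : T.a (σ 5) (σ 6) = T.w (σ 5) * 1 := by rw [a_eq, c5_6]
  have a5_7 : T.a (σ 5) (σ 7) = T.w (σ 5) * 0 := by rw [a_eq, c5_7]
  have a5_8 : T.a (σ 5) (σ 8) = T.w (σ 5) * 0 := by rw [a_eq, c5_8]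
  have a6_0 : T.a (σ 6) (σ 0) = T.w (σ 6) * 0 := by rw [a_eq, c6_0]
  have a6_1 : T.a (σ 6) (σ 1) = T.w (σ 6) * 0 := by rw [a_eq, c6_1]
  have a6_2 : T.a (σ 6) (σ 2) = T.w (σ 6) * 0 := by rw [a_eq, c6_2]
  have a6_3 : T.a (σ 6) (σ 3) = T.w (σ 6) * 0 := by rw [a_eq, c6_3]
  have a6_4 : T.a (σ 6) (σ 4) = T.w (σ 6) * 0 := by rw [a_eq, c6_4]
  have a6_5 : T.a (σ 6) (σ 5) = T.w (σ 6) * 1 := by rw [a_eq, c6_5]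
  have a6_7 : T.a (σ 6) (σ 7) = T.w (σ 6) * 1 := by rw [a_eq, c6_7]
  have a6_8 : T.a (σ 6) (σ 8) = T.w (σ 6) * 1 := by rw [a_eq, c6_8]
  have a7_0 : T.a (σ 7) (σ 0) = T.w (σ 7) * 0 := by rw [a_eq, c7_0]
  have a7_1 : T.a (σ 7) (σ 1) = T.w (σ 7) * 0 := by rw [a_eq, c7_1]
  have a7_2 : T.a (σ 7) (σ 2) = T.w (σ 7) * 0 := by rw [a_eq, c7_2]
  have a7_3 : T.a (σ 7) (σ 3) = T.w (σ 7) * 0 := by rw [a_eq, c7_3]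
  have a7_4 : T.a (σ 7) (σ 4) = T.w (σ 7) * 0 := by rw [a_eq, c7_4]
  have a7_5 : T.a (σ 7) (σ 5) = T.w (σ 7) * 0 := by rw [a_eq, c7_5]
  have a7_6 : T.a (σ 7) (σ 6) = T.w (σ 7) * 1 := by rw [a_eq, c7_6]
  have a7_8 : T.a (σ 7) (σ 8) = T.w (σ 7) * 0 := by rw [a_eq, c7_8]
  have a8_0 : T.a (σ 8) (σ 0) = T.w (σ 8) * 0 := by rw [a_eq, c8_0]
  have a8_1 : T.a (σ 8) (σ 1) = T.w (σ 8) * 0 := by rw [a_eq, c8_1]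
  have a8_2 : T.a (σ 8) (σ 2) = T.w (σ 8) * 0 := by rw [a_eq, c8_2]
  have a8_3 : T.a (σ 8) (σ 3) = T.w (σ 8) * 0 := by rw [a_eq, c8_3]
  have a8_4 : T.a (σ 8) (σ 4) = T.w (σ 8) * 0 := by rw [a_eq, c8_4]
  have a8_5 : T.a (σ 8) (σ 5) = T.w (σ 8) * 0 := by rw [a_eq, c8_5]
  have a8_6 : T.a (σ 8) (σ 6) = T.w (σ 8) * 1 := by rw [a_eq, c8_6]
  have a8_7 : T.a (σ 8) (σ 7) = T.w (σ 8) * 0 := by rw [a_eq, c8_7]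
  have ad0 := hd (σ 0)
  have ad1 := hd (σ 1)
  have ad2 := hd (σ 2)
  have ad3 := hd (σ 3)
  have ad4 := hd (σ 4)
  have ad5 := hd (σ 5)
  have ad6 := hd (σ 6)
  have ad7 := hd (σ 7)
  have ad8 := hd (σ 8)
  have s0_1 := a_symm T (σ 0) (σ 1)
  have s0_2 := a_symm T (σ 0) (σ 2)
  have s0_3 := a_symm T (σ 0) (σ 3)
  have s0_4 := a_symm T (σ 0) (σ 4)
  have s0_5 := a_symm T (σ 0) (σ 5)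
  have s0_6 := a_symm T (σ 0) (σ 6)
  have s0_7 := a_symm T (σ 0) (σ 7)
  have s0_8 := a_symm T (σ 0) (σ 8)
  have s1_2 := a_symm T (σ 1) (σ 2)
  have s1_3 := a_symm T (σ 1) (σ 3)
  have s1_4 := a_symm T (σ 1) (σ 4)
  have s1_5 := a_symm T (σ 1) (σ 5)
  have s1_6 := a_symm T (σ 1) (σ 6)
  have s1_7 := a_symm T (σ 1) (σ 7)
  have s1_8 := a_symm T (σ 1) (σ 8)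
  have s2_3 := a_symm T (σ 2) (σ 3)
  have s2_4 := a_symm T (σ 2) (σ 4)
  have s2_5 := a_symm T (σ 2) (σ 5)
  have s2_6 := a_symm T (σ 2) (σ 6)
  have s2_7 := a_symm T (σ 2) (σ 7)
  have s2_8 := a_symm T (σ 2) (σ 8)
  have s3_4 := a_symm T (σ 3) (σ 4)
  have s3_5 := a_symm T (σ 3) (σ 5)
  have s3_6 := a_symm T (σ 3) (σ 6)
  have s3_7 := a_symm T (σ 3) (σ 7)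
  have s3_8 := a_symm T (σ 3) (σ 8)
  have s4_5 := a_symm T (σ 4) (σ 5)
  have s4_6 := a_symm T (σ 4) (σ 6)
  have s4_7 := a_symm T (σ 4) (σ 7)
  have s4_8 := a_symm T (σ 4) (σ 8)
  have s5_6 := a_symm T (σ 5) (σ 6)
  have s5_7 := a_symm T (σ 5) (σ 7)
  have s5_8 := a_symm T (σ 5) (σ 8)
  have s6_7 := a_symm T (σ 6) (σ 7)
  have s6_8 := a_symm T (σ 6) (σ 8)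
  have s7_8 := a_symm T (σ 7) (σ 8)
  clear c0_1 c0_2 c0_3 c0_4 c0_5 c0_6 c0_7 c0_8 c1_0 c1_2 c1_3 c1_4 c1_5 c1_6 c1_7 c1_8 c2_0 c2_1 c2_3 c2_4 c2_5 c2_6 c2_7 c2_8 c3_0 c3_1 c3_2 c3_4 c3_5 c3_6 c3_7 c3_8 c4_0 c4_1 c4_2 c4_3 c4_5 c4_6 c4_7 c4_8 c5_0 c5_1 c5_2 c5_3 c5_4 c5_6 c5_7 c5_8 c6_0 c6_1 c6_2 c6_3 c6_4 c6_5 c6_7 c6_8 c7_0 c7_1 c7_2 c7_3 c7_4 c7_5 c7_6 c7_8 c8_0 c8_1 c8_2 c8_3 c8_4 c8_5 c8_6 c8_7 dd0 dd1 dd2 dd3 dd4 dd5 dd6 dd7 dd8 hC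
  have hm0 : T.m (σ 0) = 1 * T.m (σ 0) := by omega
  have hm1 : T.m (σ 1) = 2 * T.m (σ 0) := by omega
  have hm2 : T.m (σ 2) = 2 * T.m (σ 0) := by omega
  have hm3 : T.m (σ 3) = 2 * T.m (σ 0) := by omega
  have hm4 : T.m (σ 4) = 2 * T.m (σ 0) := by omega
  have hm5 : T.m (σ 5) = 2 * T.m (σ 0) := by omega
  have hm6 : T.m (σ 6) = 2 * T.m (σ 0) := by omega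
  have hm7 : T.m (σ 7) = 1 * T.m (σ 0) := by omega
  have hm8 : T.m (σ 8) = 1 * T.m (σ 0) := by omega
  clear r0 r1 r2 r3 r4 r5 r6 r7 r8
  have hw0 : T.w (σ 0) = 2 * T.w (σ 1) := by omega
  have hw1 : T.w (σ 1) = 1 * T.w (σ 1) := by omega
  have hw2 : T.w (σ 2) = 1 * T.w (σ 1) := by omega
  have hw3 : T.w (σ 3) = 1 * T.w (σ 1) := by omega
  have hw4 : T.w (σ 4) = 1 * T.w (σ 1) := by omega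
  have hw5 : T.w (σ 5) = 1 * T.w (σ 1) := by omega
  have hw6 : T.w (σ 6) = 1 * T.w (σ 1) := by omega
  have hw7 : T.w (σ 7) = 1 * T.w (σ 1) := by omega
  have hw8 : T.w (σ 8) = 1 * T.w (σ 1) := by omega
  refine ⟨σ, T.m (σ 0), T.w (σ 1), ?_⟩
  refine Or.inr (Or.inr (Or.inr (Or.inr (Or.inl ?_))))
  refine ⟨?_, ?_, ?_, ?_, ?_, ?_, ?_, ?_, ?_, ?_, ?_, ?_, ?_, ?_, ?_, ?_, ?_, ?_, ?_, ?_, ?_, ?_, ?_, ?_, ?_, ?_, ?_, ?_, ?_, ?_, ?_, ?_, ?_, ?_, ?_, ?_, ?_, ?_, ?_, ?_, ?_, ?_, ?_, ?_, ?_, ?_, ?_, ?_, ?_, ?_, ?_, ?_, ?_, ?_, ?_, ?_, ?_, ?_, ?_, ?_, ?_, ?_, ?_⟩ <;> omega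

theorem form9_5 (T : NumericalType 9) (hd : ∀ i, T.a i i = -2 * T.w i)
    (σ : Equiv.Perm (Fin 9))
    (hC : ∀ i j : Fin 9, i ≠ j → cc T (σ i) (σ j) = (E forms9 5 i j : ℤ)) :
    ∃ (σ : Equiv.Perm (Fin 9)) (m w : ℤ),
      ((T.m (σ 0) = m ∧ T.m (σ 1) = m ∧ T.m (σ 2) = m ∧ T.m (σ 3) = m ∧ T.m (σ 4) = m ∧ T.m (σ 5) = m ∧ T.m (σ 6) = m ∧ T.m (σ 7) = m ∧ T.m (σ 8) = m ∧ T.w (σ 0) = w ∧ T.w (σ 1) = w ∧ T.w (σ 2) = w ∧ T.w (σ 3) = w ∧ T.w (σ 4) = w ∧ T.w (σ 5) = w ∧ T.w (σ 6) = w ∧ T.w (σ 7) = w ∧ T.w (σ 8) = w ∧ T.a (σ 0) (σ 0) = -2 * w ∧ T.a (σ 0) (σ 1) = w ∧ T.a (σ 0) (σ 2) = 0 ∧ T.a (σ 0) (σ 3) = 0 ∧ T.a (σ 0) (σ 4) = 0 ∧ T.a (σ 0) (σ 5) = 0 ∧ T.a (σ 0) (σ 6) = 0 ∧ T.a (σ 0) (σ 7) = 0 ∧ T.a (σ 0)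 (σ 8) = w ∧ T.a (σ 1) (σ 1) = -2 * w ∧ T.a (σ 1) (σ 2) = w ∧ T.a (σ 1) (σ 3) = 0 ∧ T.a (σ 1) (σ 4) = 0 ∧ T.a (σ 1) (σ 5) = 0 ∧ T.a (σ 1) (σ 6) = 0 ∧ T.a (σ 1) (σ 7) = 0 ∧ T.a (σ 1) (σ 8) = 0 ∧ T.a (σ 2) (σ 2) = -2 * w ∧ T.a (σ 2) (σ 3) = w ∧ T.a (σ 2) (σ 4) = 0 ∧ T.a (σ 2) (σ 5) = 0 ∧ T.a (σ 2) (σ 6) = 0 ∧ T.a (σ 2) (σ 7) = 0 ∧ T.a (σ 2) (σ 8) = 0 ∧ T.a (σ 3) (σ 3) = -2 * w ∧ T.a (σ 3) (σ 4) = w ∧ T.a (σ 3) (σ 5) = 0 ∧ T.a (σ 3) (σ 6) = 0 ∧ T.a (σ 3) (σ 7) = 0 ∧ T.a (σ 3) (σ 8) = 0 ∧ T.a (σ 4) (σ 4) = -2 * w ∧ T.a (σ 4) (σ 5) = w ∧ T.a (σ 4) (σ 6) = 0 ∧ T.a (σ 4) (σ 7) = 0 ∧ T.a (σ 4) (σ 8) = 0 ∧ T.a (σ 5) (σ 5) = -2 * w ∧ T.a (σ 5) (σ 6) = w ∧ T.a (σ 5) (σ 7) = 0 ∧ T.a (σ 5) (σ 8) = 0 ∧ T.a (σ 6)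 (σ 6) = -2 * w ∧ T.a (σ 6) (σ 7) = w ∧ T.a (σ 6) (σ 8) = 0 ∧ T.a (σ 7) (σ 7) = -2 * w ∧ T.a (σ 7) (σ 8) = w ∧ T.a (σ 8) (σ 8) = -2 * w) ∨
      (T.m (σ 0) = 2 * m ∧ T.m (σ 1) = 2 * m ∧ T.m (σ 2) = 2 * m ∧ T.m (σ 3) = 2 * m ∧ T.m (σ 4) = 2 * m ∧ T.m (σ 5) = 2 * m ∧ T.m (σ 6) = 2 * m ∧ T.m (σ 7) = 2 * m ∧ T.m (σ 8) = m ∧ T.w (σ 0) = w ∧ T.w (σ 1) = 2 * w ∧ T.w (σ 2) = 2 * w ∧ T.w (σ 3) = 2 * w ∧ T.w (σ 4) = 2 * w ∧ T.w (σ 5) = 2 * w ∧ T.w (σ 6) = 2 * w ∧ T.w (σ 7) = 2 * w ∧ T.w (σ 8) = 4 * w ∧ T.a (σ 0) (σ 0) = -2 * w ∧ T.a (σ 0) (σ 1) = 2 * w ∧ T.a (σ 0) (σ 2) = 0 ∧ T.a (σ 0) (σ 3) = 0 ∧ T.a (σ 0) (σ 4) = 0 ∧ T.a (σ 0) (σ 5) = 0 ∧ T.a (σ 0) (σ 6) = 0 ∧ T.a (σ 0) (σ 7) = 0 ∧ T.a (σ 0) (σ 8) = 0 ∧ T.a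 (σ 1) (σ 1) = -4 * w ∧ T.a (σ 1) (σ 2) = 2 * w ∧ T.a (σ 1) (σ 3) = 0 ∧ T.a (σ 1) (σ 4) = 0 ∧ T.a (σ 1) (σ 5) = 0 ∧ T.a (σ 1) (σ 6) = 0 ∧ T.a (σ 1) (σ 7) = 0 ∧ T.a (σ 1) (σ 8) = 0 ∧ T.a (σ 2) (σ 2) = -4 * w ∧ T.a (σ 2) (σ 3) = 2 * w ∧ T.a (σ 2) (σ 4) = 0 ∧ T.a (σ 2) (σ 5) = 0 ∧ T.a (σ 2) (σ 6) = 0 ∧ T.a (σ 2) (σ 7) = 0 ∧ T.a (σ 2) (σ 8) = 0 ∧ T.a (σ 3) (σ 3) = -4 * w ∧ T.a (σ 3) (σ 4) = 2 * w ∧ T.a (σ 3) (σ 5) = 0 ∧ T.a (σ 3) (σ 6) = 0 ∧ T.a (σ 3) (σ 7) = 0 ∧ T.a (σ 3) (σ 8) = 0 ∧ T.a (σ 4) (σ 4) = -4 * w ∧ T.a (σ 4) (σ 5) = 2 * w ∧ T.a (σ 4) (σ 6) = 0 ∧ T.a (σ 4) (σ 7) = 0 ∧ T.a (σ 4) (σ 8) = 0 ∧ T.a (σ 5) (σ 5) = -4 * w ∧ T.a (σ 5) (σ 6) = 2 * w ∧ T.a (σ 5) (σ 7) = 0 ∧ T.a (σ 5) (σ 8) = 0 ∧ T.a (σ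 6) (σ 6) = -4 * w ∧ T.a (σ 6) (σ 7) = 2 * w ∧ T.a (σ 6) (σ 8) = 0 ∧ T.a (σ 7) (σ 7) = -4 * w ∧ T.a (σ 7) (σ 8) = 4 * w ∧ T.a (σ 8) (σ 8) = -8 * w) ∨
      (T.m (σ 0) = m ∧ T.m (σ 1) = m ∧ T.m (σ 2) = m ∧ T.m (σ 3) = m ∧ T.m (σ 4) = m ∧ T.m (σ 5) = m ∧ T.m (σ 6) = m ∧ T.m (σ 7) = m ∧ T.m (σ 8) = m ∧ T.w (σ 0) = w ∧ T.w (σ 1) = 2 * w ∧ T.w (σ 2) = 2 * w ∧ T.w (σ 3) = 2 * w ∧ T.w (σ 4) = 2 * w ∧ T.w (σ 5) = 2 * w ∧ T.w (σ 6) = 2 * w ∧ T.w (σ 7) = 2 * w ∧ T.w (σ 8) = w ∧ T.a (σ 0) (σ 0) = -2 * w ∧ T.a (σ 0) (σ 1) = 2 * w ∧ T.a (σ 0) (σ 2) = 0 ∧ T.a (σ 0) (σ 3) = 0 ∧ T.a (σ 0) (σ 4) = 0 ∧ T.a (σ 0) (σ 5) = 0 ∧ T.a (σ 0) (σ 6) = 0 ∧ T.a (σ 0) (σ 7) = 0 ∧ T.a (σ 0) (σ 8) = 0 ∧ T.a (σ 1) (σ 1) = -4 * w ∧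 T.a (σ 1) (σ 2) = 2 * w ∧ T.a (σ 1) (σ 3) = 0 ∧ T.a (σ 1) (σ 4) = 0 ∧ T.a (σ 1) (σ 5) = 0 ∧ T.a (σ 1) (σ 6) = 0 ∧ T.a (σ 1) (σ 7) = 0 ∧ T.a (σ 1) (σ 8) = 0 ∧ T.a (σ 2) (σ 2) = -4 * w ∧ T.a (σ 2) (σ 3) = 2 * w ∧ T.a (σ 2) (σ 4) = 0 ∧ T.a (σ 2) (σ 5) = 0 ∧ T.a (σ 2) (σ 6) = 0 ∧ T.a (σ 2) (σ 7) = 0 ∧ T.a (σ 2) (σ 8) = 0 ∧ T.a (σ 3) (σ 3) = -4 * w ∧ T.a (σ 3) (σ 4) = 2 * w ∧ T.a (σ 3) (σ 5) = 0 ∧ T.a (σ 3) (σ 6) = 0 ∧ T.a (σ 3) (σ 7) = 0 ∧ T.a (σ 3) (σ 8) = 0 ∧ T.a (σ 4) (σ 4) = -4 * w ∧ T.a (σ 4) (σ 5) = 2 * w ∧ T.a (σ 4) (σ 6) = 0 ∧ T.a (σ 4) (σ 7) = 0 ∧ T.a (σ 4) (σ 8) = 0 ∧ T.a (σ 5) (σ 5) = -4 * w ∧ T.a (σ 5) (σ 6) = 2 * w ∧ T.a (σ 5) (σ 7) = 0 ∧ T.a (σ 5) (σ 8) = 0 ∧ T.a (σ 6) (σ 6) = -4 * w ∧ T.a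 (σ 6) (σ 7) = 2 * w ∧ T.a (σ 6) (σ 8) = 0 ∧ T.a (σ 7) (σ 7) = -4 * w ∧ T.a (σ 7) (σ 8) = 2 * w ∧ T.a (σ 8) (σ 8) = -2 * w) ∨
      (T.m (σ 0) = m ∧ T.m (σ 1) = 2 * m ∧ T.m (σ 2) = 2 * m ∧ T.m (σ 3) = 2 * m ∧ T.m (σ 4) = 2 * m ∧ T.m (σ 5) = 2 * m ∧ T.m (σ 6) = 2 * m ∧ T.m (σ 7) = 2 * m ∧ T.m (σ 8) = m ∧ T.w (σ 0) = 2 * w ∧ T.w (σ 1) = w ∧ T.w (σ 2) = w ∧ T.w (σ 3) = w ∧ T.w (σ 4) = w ∧ T.w (σ 5) = w ∧ T.w (σ 6) = w ∧ T.w (σ 7) = w ∧ T.w (σ 8) = 2 * w ∧ T.a (σ 0) (σ 0) = -4 * w ∧ T.a (σ 0) (σ 1) = 2 * w ∧ T.a (σ 0) (σ 2) = 0 ∧ T.a (σ 0) (σ 3) = 0 ∧ T.a (σ 0) (σ 4) = 0 ∧ T.a (σ 0) (σ 5) = 0 ∧ T.a (σ 0) (σ 6) = 0 ∧ T.a (σ 0) (σ 7) = 0 ∧ T.a (σ 0) (σ 8) = 0 ∧ T.a (σ 1) (σ 1) = -2 * w ∧ T.a (σ 1) (σ 2)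 = w ∧ T.a (σ 1) (σ 3) = 0 ∧ T.a (σ 1) (σ 4) = 0 ∧ T.a (σ 1) (σ 5) = 0 ∧ T.a (σ 1) (σ 6) = 0 ∧ T.a (σ 1) (σ 7) = 0 ∧ T.a (σ 1) (σ 8) = 0 ∧ T.a (σ 2) (σ 2) = -2 * w ∧ T.a (σ 2) (σ 3) = w ∧ T.a (σ 2) (σ 4) = 0 ∧ T.a (σ 2) (σ 5) = 0 ∧ T.a (σ 2) (σ 6) = 0 ∧ T.a (σ 2) (σ 7) = 0 ∧ T.a (σ 2) (σ 8) = 0 ∧ T.a (σ 3) (σ 3) = -2 * w ∧ T.a (σ 3) (σ 4) = w ∧ T.a (σ 3) (σ 5) = 0 ∧ T.a (σ 3) (σ 6) = 0 ∧ T.a (σ 3) (σ 7) = 0 ∧ T.a (σ 3) (σ 8) = 0 ∧ T.a (σ 4) (σ 4) = -2 * w ∧ T.a (σ 4) (σ 5) = w ∧ T.a (σ 4) (σ 6) = 0 ∧ T.a (σ 4) (σ 7) = 0 ∧ T.a (σ 4) (σ 8) = 0 ∧ T.a (σ 5) (σ 5) = -2 * w ∧ T.a (σ 5) (σ 6) = w ∧ T.a (σ 5) (σ 7) = 0 ∧ T.a (σ 5) (σ 8) = 0 ∧ T.a (σ 6) (σ 6) = -2 * w ∧ T.a (σ 6) (σ 7) = w ∧ T.a (σ 6) (σ 8)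 = 0 ∧ T.a (σ 7) (σ 7) = -2 * w ∧ T.a (σ 7) (σ 8) = 2 * w ∧ T.a (σ 8) (σ 8) = -4 * w) ∨
      (T.m (σ 0) = m ∧ T.m (σ 1) = 2 * m ∧ T.m (σ 2) = 2 * m ∧ T.m (σ 3) = 2 * m ∧ T.m (σ 4) = 2 * m ∧ T.m (σ 5) = 2 * m ∧ T.m (σ 6) = 2 * m ∧ T.m (σ 7) = m ∧ T.m (σ 8) = m ∧ T.w (σ 0) = 2 * w ∧ T.w (σ 1) = w ∧ T.w (σ 2) = w ∧ T.w (σ 3) = w ∧ T.w (σ 4) = w ∧ T.w (σ 5) = w ∧ T.w (σ 6) = w ∧ T.w (σ 7) = w ∧ T.w (σ 8) = w ∧ T.a (σ 0) (σ 0) = -4 * w ∧ T.a (σ 0) (σ 1) = 2 * w ∧ T.a (σ 0) (σ 2) = 0 ∧ T.a (σ 0) (σ 3) = 0 ∧ T.a (σ 0) (σ 4) = 0 ∧ T.a (σ 0) (σ 5) = 0 ∧ T.a (σ 0) (σ 6) = 0 ∧ T.a (σ 0) (σ 7) = 0 ∧ T.a (σ 0) (σ 8) = 0 ∧ T.a (σ 1) (σ 1) = -2 * w ∧ T.a (σ 1) (σ 2) = w ∧ T.a (σ 1) (σ 3) = 0 ∧ T.a (σ 1) (σ 4) =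 0 ∧ T.a (σ 1) (σ 5) = 0 ∧ T.a (σ 1) (σ 6) = 0 ∧ T.a (σ 1) (σ 7) = 0 ∧ T.a (σ 1) (σ 8) = 0 ∧ T.a (σ 2) (σ 2) = -2 * w ∧ T.a (σ 2) (σ 3) = w ∧ T.a (σ 2) (σ 4) = 0 ∧ T.a (σ 2) (σ 5) = 0 ∧ T.a (σ 2) (σ 6) = 0 ∧ T.a (σ 2) (σ 7) = 0 ∧ T.a (σ 2) (σ 8) = 0 ∧ T.a (σ 3) (σ 3) = -2 * w ∧ T.a (σ 3) (σ 4) = w ∧ T.a (σ 3) (σ 5) = 0 ∧ T.a (σ 3) (σ 6) = 0 ∧ T.a (σ 3) (σ 7) = 0 ∧ T.a (σ 3) (σ 8) = 0 ∧ T.a (σ 4) (σ 4) = -2 * w ∧ T.a (σ 4) (σ 5) = w ∧ T.a (σ 4) (σ 6) = 0 ∧ T.a (σ 4) (σ 7) = 0 ∧ T.a (σ 4) (σ 8) = 0 ∧ T.a (σ 5) (σ 5) = -2 * w ∧ T.a (σ 5) (σ 6) = w ∧ T.a (σ 5) (σ 7) = 0 ∧ T.a (σ 5) (σ 8) = 0 ∧ T.a (σ 6) (σ 6) = -2 * w ∧ T.a (σ 6) (σ 7) = w ∧ T.a (σ 6) (σ 8) = w ∧ T.a (σ 7) (σ 7) = -2 * w ∧ T.a (σ 7) (σ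 8) = 0 ∧ T.a (σ 8) (σ 8) = -2 * w) ∨
      (T.m (σ 0) = 2 * m ∧ T.m (σ 1) = 2 * m ∧ T.m (σ 2) = 2 * m ∧ T.m (σ 3) = 2 * m ∧ T.m (σ 4) = 2 * m ∧ T.m (σ 5) = 2 * m ∧ T.m (σ 6) = 2 * m ∧ T.m (σ 7) = m ∧ T.m (σ 8) = m ∧ T.w (σ 0) = w ∧ T.w (σ 1) = 2 * w ∧ T.w (σ 2) = 2 * w ∧ T.w (σ 3) = 2 * w ∧ T.w (σ 4) = 2 * w ∧ T.w (σ 5) = 2 * w ∧ T.w (σ 6) = 2 * w ∧ T.w (σ 7) = 2 * w ∧ T.w (σ 8) = 2 * w ∧ T.a (σ 0) (σ 0) = -2 * w ∧ T.a (σ 0) (σ 1) = 2 * w ∧ T.a (σ 0) (σ 2) = 0 ∧ T.a (σ 0) (σ 3) = 0 ∧ T.a (σ 0) (σ 4) = 0 ∧ T.a (σ 0) (σ 5) = 0 ∧ T.a (σ 0) (σ 6) = 0 ∧ T.a (σ 0) (σ 7) = 0 ∧ T.a (σ 0) (σ 8) = 0 ∧ T.a (σ 1) (σ 1) = -4 * w ∧ T.a (σ 1) (σ 2) = 2 * w ∧ T.a (σ 1) (σ 3) = 0 ∧ T.a (σ 1) (σ 4) = 0 ∧ T.a (σ 1)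 (σ 5) = 0 ∧ T.a (σ 1) (σ 6) = 0 ∧ T.a (σ 1) (σ 7) = 0 ∧ T.a (σ 1) (σ 8) = 0 ∧ T.a (σ 2) (σ 2) = -4 * w ∧ T.a (σ 2) (σ 3) = 2 * w ∧ T.a (σ 2) (σ 4) = 0 ∧ T.a (σ 2) (σ 5) = 0 ∧ T.a (σ 2) (σ 6) = 0 ∧ T.a (σ 2) (σ 7) = 0 ∧ T.a (σ 2) (σ 8) = 0 ∧ T.a (σ 3) (σ 3) = -4 * w ∧ T.a (σ 3) (σ 4) = 2 * w ∧ T.a (σ 3) (σ 5) = 0 ∧ T.a (σ 3) (σ 6) = 0 ∧ T.a (σ 3) (σ 7) = 0 ∧ T.a (σ 3) (σ 8) = 0 ∧ T.a (σ 4) (σ 4) = -4 * w ∧ T.a (σ 4) (σ 5) = 2 * w ∧ T.a (σ 4) (σ 6) = 0 ∧ T.a (σ 4) (σ 7) = 0 ∧ T.a (σ 4) (σ 8) = 0 ∧ T.a (σ 5) (σ 5) = -4 * w ∧ T.a (σ 5) (σ 6) = 2 * w ∧ T.a (σ 5) (σ 7) = 0 ∧ T.a (σ 5) (σ 8) = 0 ∧ T.a (σ 6) (σ 6) = -4 * w ∧ T.a (σ 6) (σ 7) = 2 * w ∧ T.a (σ 6) (σ 8) = 2 * w ∧ T.a (σ 7) (σ 7) = -4 * w ∧ T.a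 (σ 7) (σ 8) = 0 ∧ T.a (σ 8) (σ 8) = -4 * w) ∨
      (T.m (σ 0) = m ∧ T.m (σ 1) = m ∧ T.m (σ 2) = 2 * m ∧ T.m (σ 3) = 2 * m ∧ T.m (σ 4) = 2 * m ∧ T.m (σ 5) = 2 * m ∧ T.m (σ 6) = 2 * m ∧ T.m (σ 7) = m ∧ T.m (σ 8) = m ∧ T.w (σ 0) = w ∧ T.w (σ 1) = w ∧ T.w (σ 2) = w ∧ T.w (σ 3) = w ∧ T.w (σ 4) = w ∧ T.w (σ 5) = w ∧ T.w (σ 6) = w ∧ T.w (σ 7) = w ∧ T.w (σ 8) = w ∧ T.a (σ 0) (σ 0) = -2 * w ∧ T.a (σ 0) (σ 1) = 0 ∧ T.a (σ 0) (σ 2) = w ∧ T.a (σ 0) (σ 3) = 0 ∧ T.a (σ 0) (σ 4) = 0 ∧ T.a (σ 0) (σ 5) = 0 ∧ T.a (σ 0) (σ 6) = 0 ∧ T.a (σ 0) (σ 7) = 0 ∧ T.a (σ 0) (σ 8) = 0 ∧ T.a (σ 1) (σ 1) = -2 * w ∧ T.a (σ 1) (σ 2) = w ∧ T.a (σ 1) (σ 3) = 0 ∧ T.a (σ 1) (σ 4) = 0 ∧ T.a (σ 1) (σ 5) = 0 ∧ T.a (σ 1) (σ 6) = 0 ∧ T.a (σ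 1) (σ 7) = 0 ∧ T.a (σ 1) (σ 8) = 0 ∧ T.a (σ 2) (σ 2) = -2 * w ∧ T.a (σ 2) (σ 3) = w ∧ T.a (σ 2) (σ 4) = 0 ∧ T.a (σ 2) (σ 5) = 0 ∧ T.a (σ 2) (σ 6) = 0 ∧ T.a (σ 2) (σ 7) = 0 ∧ T.a (σ 2) (σ 8) = 0 ∧ T.a (σ 3) (σ 3) = -2 * w ∧ T.a (σ 3) (σ 4) = w ∧ T.a (σ 3) (σ 5) = 0 ∧ T.a (σ 3) (σ 6) = 0 ∧ T.a (σ 3) (σ 7) = 0 ∧ T.a (σ 3) (σ 8) = 0 ∧ T.a (σ 4) (σ 4) = -2 * w ∧ T.a (σ 4) (σ 5) = w ∧ T.a (σ 4) (σ 6) = 0 ∧ T.a (σ 4) (σ 7) = 0 ∧ T.a (σ 4) (σ 8) = 0 ∧ T.a (σ 5) (σ 5) = -2 * w ∧ T.a (σ 5) (σ 6) = w ∧ T.a (σ 5) (σ 7) = 0 ∧ T.a (σ 5) (σ 8) = 0 ∧ T.a (σ 6) (σ 6) = -2 * w ∧ T.a (σ 6) (σ 7) = w ∧ T.a (σ 6) (σ 8) = w ∧ T.a (σ 7) (σ 7) = -2 * w ∧ T.a (σ 7) (σ 8) = 0 ∧ T.a (σ 8) (σ 8) = -2 * w) ∨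
      (T.m (σ 0) = m ∧ T.m (σ 1) = 2 * m ∧ T.m (σ 2) = 3 * m ∧ T.m (σ 3) = 4 * m ∧ T.m (σ 4) = 5 * m ∧ T.m (σ 5) = 6 * m ∧ T.m (σ 6) = 4 * m ∧ T.m (σ 7) = 2 * m ∧ T.m (σ 8) = 3 * m ∧ T.w (σ 0) = w ∧ T.w (σ 1) = w ∧ T.w (σ 2) = w ∧ T.w (σ 3) = w ∧ T.w (σ 4) = w ∧ T.w (σ 5) = w ∧ T.w (σ 6) = w ∧ T.w (σ 7) = w ∧ T.w (σ 8) = w ∧ T.a (σ 0) (σ 0) = -2 * w ∧ T.a (σ 0) (σ 1) = w ∧ T.a (σ 0) (σ 2) = 0 ∧ T.a (σ 0) (σ 3) = 0 ∧ T.a (σ 0) (σ 4) = 0 ∧ T.a (σ 0) (σ 5) = 0 ∧ T.a (σ 0) (σ 6) = 0 ∧ T.a (σ 0) (σ 7) = 0 ∧ T.a (σ 0) (σ 8) = 0 ∧ T.a (σ 1) (σ 1) = -2 * w ∧ T.a (σ 1) (σ 2) = w ∧ T.a (σ 1) (σ 3) = 0 ∧ T.a (σ 1) (σ 4) = 0 ∧ T.a (σ 1) (σ 5) = 0 ∧ T.a (σ 1) (σ 6) = 0 ∧ T.a (σ 1) (σ 7) = 0 ∧ T.a (σ 1) (σ 8) =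 0 ∧ T.a (σ 2) (σ 2) = -2 * w ∧ T.a (σ 2) (σ 3) = w ∧ T.a (σ 2) (σ 4) = 0 ∧ T.a (σ 2) (σ 5) = 0 ∧ T.a (σ 2) (σ 6) = 0 ∧ T.a (σ 2) (σ 7) = 0 ∧ T.a (σ 2) (σ 8) = 0 ∧ T.a (σ 3) (σ 3) = -2 * w ∧ T.a (σ 3) (σ 4) = w ∧ T.a (σ 3) (σ 5) = 0 ∧ T.a (σ 3) (σ 6) = 0 ∧ T.a (σ 3) (σ 7) = 0 ∧ T.a (σ 3) (σ 8) = 0 ∧ T.a (σ 4) (σ 4) = -2 * w ∧ T.a (σ 4) (σ 5) = w ∧ T.a (σ 4) (σ 6) = 0 ∧ T.a (σ 4) (σ 7) = 0 ∧ T.a (σ 4) (σ 8) = 0 ∧ T.a (σ 5) (σ 5) = -2 * w ∧ T.a (σ 5) (σ 6) = w ∧ T.a (σ 5) (σ 7) = 0 ∧ T.a (σ 5) (σ 8) = w ∧ T.a (σ 6) (σ 6) = -2 * w ∧ T.a (σ 6) (σ 7) = w ∧ T.a (σ 6) (σ 8) = 0 ∧ T.a (σ 7) (σ 7) = -2 * w ∧ T.a (σ 7) (σ 8) = 0 ∧ T.a (σ 8) (σ 8) = -2 * w)) := by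
  have c0_1 : cc T (σ 0) (σ 1) = 2 := by rw [hC 0 1 (by decide)]; rfl
  have c0_2 : cc T (σ 0) (σ 2) = 0 := by rw [hC 0 2 (by decide)]; rfl
  have c0_3 : cc T (σ 0) (σ 3) = 0 := by rw [hC 0 3 (by decide)]; rfl
  have c0_4 : cc T (σ 0) (σ 4) = 0 := by rw [hC 0 4 (by decide)]; rfl
  have c0_5 : cc T (σ 0) (σ 5) = 0 := by rw [hC 0 5 (by decide)]; rfl
  have c0_6 : cc T (σ 0) (σ 6) = 0 := by rw [hC 0 6 (by decide)]; rfl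
  have c0_7 : cc T (σ 0) (σ 7) = 0 := by rw [hC 0 7 (by decide)]; rfl
  have c0_8 : cc T (σ 0) (σ 8) = 0 := by rw [hC 0 8 (by decide)]; rfl
  have c1_0 : cc T (σ 1) (σ 0) = 1 := by rw [hC 1 0 (by decide)]; rfl
  have c1_2 : cc T (σ 1) (σ 2) = 1 := by rw [hC 1 2 (by decide)]; rfl
  have c1_3 : cc T (σ 1) (σ 3) = 0 := by rw [hC 1 3 (by decide)]; rfl
  have c1_4 : cc T (σ 1) (σ 4) = 0 := by rw [hC 1 4 (by decide)]; rfl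
  have c1_5 : cc T (σ 1) (σ 5) = 0 := by rw [hC 1 5 (by decide)]; rfl
  have c1_6 : cc T (σ 1) (σ 6) = 0 := by rw [hC 1 6 (by decide)]; rfl
  have c1_7 : cc T (σ 1) (σ 7) = 0 := by rw [hC 1 7 (by decide)]; rfl
  have c1_8 : cc T (σ 1) (σ 8) = 0 := by rw [hC 1 8 (by decide)]; rfl
  have c2_0 : cc T (σ 2) (σ 0) = 0 := by rw [hC 2 0 (by decide)]; rfl
  have c2_1 : cc T (σ 2) (σ 1) = 1 := by rw [hC 2 1 (by decide)]; rfl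
  have c2_3 : cc T (σ 2) (σ 3) = 1 := by rw [hC 2 3 (by decide)]; rfl
  have c2_4 : cc T (σ 2) (σ 4) = 0 := by rw [hC 2 4 (by decide)]; rfl
  have c2_5 : cc T (σ 2) (σ 5) = 0 := by rw [hC 2 5 (by decide)]; rfl
  have c2_6 : cc T (σ 2) (σ 6) = 0 := by rw [hC 2 6 (by decide)]; rfl
  have c2_7 : cc T (σ 2) (σ 7) = 0 := by rw [hC 2 7 (by decide)]; rfl
  have c2_8 : cc T (σ 2) (σ 8) = 0 := by rw [hC 2 8 (by decide)]; rfl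
  have c3_0 : cc T (σ 3) (σ 0) = 0 := by rw [hC 3 0 (by decide)]; rfl
  have c3_1 : cc T (σ 3) (σ 1) = 0 := by rw [hC 3 1 (by decide)]; rfl
  have c3_2 : cc T (σ 3) (σ 2) = 1 := by rw [hC 3 2 (by decide)]; rfl
  have c3_4 : cc T (σ 3) (σ 4) = 1 := by rw [hC 3 4 (by decide)]; rfl
  have c3_5 : cc T (σ 3) (σ 5) = 0 := by rw [hC 3 5 (by decide)]; rfl
  have c3_6 : cc T (σ 3) (σ 6) = 0 := by rw [hC 3 6 (by decide)]; rfl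
  have c3_7 : cc T (σ 3) (σ 7) = 0 := by rw [hC 3 7 (by decide)]; rfl
  have c3_8 : cc T (σ 3) (σ 8) = 0 := by rw [hC 3 8 (by decide)]; rfl
  have c4_0 : cc T (σ 4) (σ 0) = 0 := by rw [hC 4 0 (by decide)]; rfl
  have c4_1 : cc T (σ 4) (σ 1) = 0 := by rw [hC 4 1 (by decide)]; rfl
  have c4_2 : cc T (σ 4) (σ 2) = 0 := by rw [hC 4 2 (by decide)]; rfl
  have c4_3 : cc T (σ 4) (σ 3) = 1 := by rw [hC 4 3 (by decide)]; rfl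
  have c4_5 : cc T (σ 4) (σ 5) = 1 := by rw [hC 4 5 (by decide)]; rfl
  have c4_6 : cc T (σ 4) (σ 6) = 0 := by rw [hC 4 6 (by decide)]; rfl
  have c4_7 : cc T (σ 4) (σ 7) = 0 := by rw [hC 4 7 (by decide)]; rfl
  have c4_8 : cc T (σ 4) (σ 8) = 0 := by rw [hC 4 8 (by decide)]; rfl
  have c5_0 : cc T (σ 5) (σ 0) = 0 := by rw [hC 5 0 (by decide)]; rfl
  have c5_1 : cc T (σ 5) (σ 1) = 0 := by rw [hC 5 1 (by decide)]; rfl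
  have c5_2 : cc T (σ 5) (σ 2) = 0 := by rw [hC 5 2 (by decide)]; rfl
  have c5_3 : cc T (σ 5) (σ 3) = 0 := by rw [hC 5 3 (by decide)]; rfl
  have c5_4 : cc T (σ 5) (σ 4) = 1 := by rw [hC 5 4 (by decide)]; rfl
  have c5_6 : cc T (σ 5) (σ 6) = 1 := by rw [hC 5 6 (by decide)]; rfl
  have c5_7 : cc T (σ 5) (σ 7) = 0 := by rw [hC 5 7 (by decide)]; rfl
  have c5_8 : cc T (σ 5) (σ 8) = 0 := by rw [hC 5 8 (by decide)]; rfl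
  have c6_0 : cc T (σ 6) (σ 0) = 0 := by rw [hC 6 0 (by decide)]; rfl
  have c6_1 : cc T (σ 6) (σ 1) = 0 := by rw [hC 6 1 (by decide)]; rfl
  have c6_2 : cc T (σ 6) (σ 2) = 0 := by rw [hC 6 2 (by decide)]; rfl
  have c6_3 : cc T (σ 6) (σ 3) = 0 := by rw [hC 6 3 (by decide)]; rfl
  have c6_4 : cc T (σ 6) (σ 4) = 0 := by rw [hC 6 4 (by decide)]; rfl
  have c6_5 : cc T (σ 6) (σ 5) = 1 := by rw [hC 6 5 (by decide)]; rfl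
  have c6_7 : cc T (σ 6) (σ 7) = 1 := by rw [hC 6 7 (by decide)]; rfl
  have c6_8 : cc T (σ 6) (σ 8) = 1 := by rw [hC 6 8 (by decide)]; rfl
  have c7_0 : cc T (σ 7) (σ 0) = 0 := by rw [hC 7 0 (by decide)]; rfl
  have c7_1 : cc T (σ 7) (σ 1) = 0 := by rw [hC 7 1 (by decide)]; rfl
  have c7_2 : cc T (σ 7) (σ 2) = 0 := by rw [hC 7 2 (by decide)]; rfl
  have c7_3 : cc T (σ 7) (σ 3) = 0 := by rw [hC 7 3 (by decide)]; rfl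
  have c7_4 : cc T (σ 7) (σ 4) = 0 := by rw [hC 7 4 (by decide)]; rfl
  have c7_5 : cc T (σ 7) (σ 5) = 0 := by rw [hC 7 5 (by decide)]; rfl
  have c7_6 : cc T (σ 7) (σ 6) = 1 := by rw [hC 7 6 (by decide)]; rfl
  have c7_8 : cc T (σ 7) (σ 8) = 0 := by rw [hC 7 8 (by decide)]; rfl
  have c8_0 : cc T (σ 8) (σ 0) = 0 := by rw [hC 8 0 (by decide)]; rfl
  have c8_1 : cc T (σ 8) (σ 1) = 0 := by rw [hC 8 1 (by decide)]; rfl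
  have c8_2 : cc T (σ 8) (σ 2) = 0 := by rw [hC 8 2 (by decide)]; rfl
  have c8_3 : cc T (σ 8) (σ 3) = 0 := by rw [hC 8 3 (by decide)]; rfl
  have c8_4 : cc T (σ 8) (σ 4) = 0 := by rw [hC 8 4 (by decide)]; rfl
  have c8_5 : cc T (σ 8) (σ 5) = 0 := by rw [hC 8 5 (by decide)]; rfl
  have c8_6 : cc T (σ 8) (σ 6) = 1 := by rw [hC 8 6 (by decide)]; rfl
  have c8_7 : cc T (σ 8) (σ 7) = 0 := by rw [hC 8 7 (by decide)]; rfl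
  have dd0 := cc_diag T hd (σ 0)
  have dd1 := cc_diag T hd (σ 1)
  have dd2 := cc_diag T hd (σ 2)
  have dd3 := cc_diag T hd (σ 3)
  have dd4 := cc_diag T hd (σ 4)
  have dd5 := cc_diag T hd (σ 5)
  have dd6 := cc_diag T hd (σ 6)
  have dd7 := cc_diag T hd (σ 7)
  have dd8 := cc_diag T hd (σ 8)
  have r0 := row9 T σ 0
  rw [dd0, c0_1, c0_2, c0_3, c0_4, c0_5, c0_6, c0_7, c0_8] at r0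
  have r1 := row9 T σ 1
  rw [c1_0, dd1, c1_2, c1_3, c1_4, c1_5, c1_6, c1_7, c1_8] at r1
  have r2 := row9 T σ 2
  rw [c2_0, c2_1, dd2, c2_3, c2_4, c2_5, c2_6, c2_7, c2_8] at r2
  have r3 := row9 T σ 3
  rw [c3_0, c3_1, c3_2, dd3, c3_4, c3_5, c3_6, c3_7, c3_8] at r3
  have r4 := row9 T σ 4
  rw [c4_0, c4_1, c4_2, c4_3, dd4, c4_5, c4_6, c4_7, c4_8] at r4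
  have r5 := row9 T σ 5
  rw [c5_0, c5_1, c5_2, c5_3, c5_4, dd5, c5_6, c5_7, c5_8] at r5
  have r6 := row9 T σ 6
  rw [c6_0, c6_1, c6_2, c6_3, c6_4, c6_5, dd6, c6_7, c6_8] at r6
  have r7 := row9 T σ 7
  rw [c7_0, c7_1, c7_2, c7_3, c7_4, c7_5, c7_6, dd7, c7_8] at r7
  have r8 := row9 T σ 8
  rw [c8_0, c8_1, c8_2, c8_3, c8_4, c8_5, c8_6, c8_7, dd8] at r8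
  have a0_1 : T.a (σ 0) (σ 1) = T.w (σ 0) * 2 := by rw [a_eq, c0_1]
  have a0_2 : T.a (σ 0) (σ 2) = T.w (σ 0) * 0 := by rw [a_eq, c0_2]
  have a0_3 : T.a (σ 0) (σ 3) = T.w (σ 0) * 0 := by rw [a_eq, c0_3]
  have a0_4 : T.a (σ 0) (σ 4) = T.w (σ 0) * 0 := by rw [a_eq, c0_4]
  have a0_5 : T.a (σ 0) (σ 5) = T.w (σ 0) * 0 := by rw [a_eq, c0_5]
  have a0_6 : T.a (σ 0) (σ 6) = T.w (σ 0) * 0 := by rw [a_eq, c0_6]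
  have a0_7 : T.a (σ 0) (σ 7) = T.w (σ 0) * 0 := by rw [a_eq, c0_7]
  have a0_8 : T.a (σ 0) (σ 8) = T.w (σ 0) * 0 := by rw [a_eq, c0_8]
  have a1_0 : T.a (σ 1) (σ 0) = T.w (σ 1) * 1 := by rw [a_eq, c1_0]
  have a1_2 : T.a (σ 1) (σ 2) = T.w (σ 1) * 1 := by rw [a_eq, c1_2]
  have a1_3 : T.a (σ 1) (σ 3) = T.w (σ 1) * 0 := by rw [a_eq, c1_3]
  have a1_4 : T.a (σ 1) (σ 4) = T.w (σ 1) * 0 := by rw [a_eq, c1_4]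
  have a1_5 : T.a (σ 1) (σ 5) = T.w (σ 1) * 0 := by rw [a_eq, c1_5]
  have a1_6 : T.a (σ 1) (σ 6) = T.w (σ 1) * 0 := by rw [a_eq, c1_6]
  have a1_7 : T.a (σ 1) (σ 7) = T.w (σ 1) * 0 := by rw [a_eq, c1_7]
  have a1_8 : T.a (σ 1) (σ 8) = T.w (σ 1) * 0 := by rw [a_eq, c1_8]
  have a2_0 : T.a (σ 2) (σ 0) = T.w (σ 2) * 0 := by rw [a_eq, c2_0]
  have a2_1 : T.a (σ 2) (σ 1) = T.w (σ 2) * 1 := by rw [a_eq, c2_1]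
  have a2_3 : T.a (σ 2) (σ 3) = T.w (σ 2) * 1 := by rw [a_eq, c2_3]
  have a2_4 : T.a (σ 2) (σ 4) = T.w (σ 2) * 0 := by rw [a_eq, c2_4]
  have a2_5 : T.a (σ 2) (σ 5) = T.w (σ 2) * 0 := by rw [a_eq, c2_5]
  have a2_6 : T.a (σ 2) (σ 6) = T.w (σ 2) * 0 := by rw [a_eq, c2_6]
  have a2_7 : T.a (σ 2) (σ 7) = T.w (σ 2) * 0 := by rw [a_eq, c2_7]
  have a2_8 : T.a (σ 2) (σ 8) = T.w (σ 2) * 0 := by rw [a_eq, c2_8]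
  have a3_0 : T.a (σ 3) (σ 0) = T.w (σ 3) * 0 := by rw [a_eq, c3_0]
  have a3_1 : T.a (σ 3) (σ 1) = T.w (σ 3) * 0 := by rw [a_eq, c3_1]
  have a3_2 : T.a (σ 3) (σ 2) = T.w (σ 3) * 1 := by rw [a_eq, c3_2]
  have a3_4 : T.a (σ 3) (σ 4) = T.w (σ 3) * 1 := by rw [a_eq, c3_4]
  have a3_5 : T.a (σ 3) (σ 5) = T.w (σ 3) * 0 := by rw [a_eq, c3_5]
  have a3_6 : T.a (σ 3) (σ 6) = T.w (σ 3) * 0 := by rw [a_eq, c3_6]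
  have a3_7 : T.a (σ 3) (σ 7) = T.w (σ 3) * 0 := by rw [a_eq, c3_7]
  have a3_8 : T.a (σ 3) (σ 8) = T.w (σ 3) * 0 := by rw [a_eq, c3_8]
  have a4_0 : T.a (σ 4) (σ 0) = T.w (σ 4) * 0 := by rw [a_eq, c4_0]
  have a4_1 : T.a (σ 4) (σ 1) = T.w (σ 4) * 0 := by rw [a_eq, c4_1]
  have a4_2 : T.a (σ 4) (σ 2) = T.w (σ 4) * 0 := by rw [a_eq, c4_2]
  have a4_3 : T.a (σ 4) (σ 3) = T.w (σ 4) * 1 := by rw [a_eq, c4_3]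
  have a4_5 : T.a (σ 4) (σ 5) = T.w (σ 4) * 1 := by rw [a_eq, c4_5]
  have a4_6 : T.a (σ 4) (σ 6) = T.w (σ 4) * 0 := by rw [a_eq, c4_6]
  have a4_7 : T.a (σ 4) (σ 7) = T.w (σ 4) * 0 := by rw [a_eq, c4_7]
  have a4_8 : T.a (σ 4) (σ 8) = T.w (σ 4) * 0 := by rw [a_eq, c4_8]
  have a5_0 : T.a (σ 5) (σ 0) = T.w (σ 5) * 0 := by rw [a_eq, c5_0]
  have a5_1 : T.a (σ 5) (σ 1) = T.w (σ 5) * 0 := by rw [a_eq, c5_1]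
  have a5_2 : T.a (σ 5) (σ 2) = T.w (σ 5) * 0 := by rw [a_eq, c5_2]
  have a5_3 : T.a (σ 5) (σ 3) = T.w (σ 5) * 0 := by rw [a_eq, c5_3]
  have a5_4 : T.a (σ 5) (σ 4) = T.w (σ 5) * 1 := by rw [a_eq, c5_4]
  have a5_6 : T.a (σ 5) (σ 6) = T.w (σ 5) * 1 := by rw [a_eq, c5_6]
  have a5_7 : T.a (σ 5) (σ 7) = T.w (σ 5) * 0 := by rw [a_eq, c5_7]
  have a5_8 : T.a (σ 5) (σ 8) = T.w (σ 5) * 0 := by rw [a_eq, c5_8]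
  have a6_0 : T.a (σ 6) (σ 0) = T.w (σ 6) * 0 := by rw [a_eq, c6_0]
  have a6_1 : T.a (σ 6) (σ 1) = T.w (σ 6) * 0 := by rw [a_eq, c6_1]
  have a6_2 : T.a (σ 6) (σ 2) = T.w (σ 6) * 0 := by rw [a_eq, c6_2]
  have a6_3 : T.a (σ 6) (σ 3) = T.w (σ 6) * 0 := by rw [a_eq, c6_3]
  have a6_4 : T.a (σ 6) (σ 4) = T.w (σ 6) * 0 := by rw [a_eq, c6_4]
  have a6_5 : T.a (σ 6) (σ 5) = T.w (σ 6) * 1 := by rw [a_eq, c6_5]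
  have a6_7 : T.a (σ 6) (σ 7) = T.w (σ 6) * 1 := by rw [a_eq, c6_7]
  have a6_8 : T.a (σ 6) (σ 8) = T.w (σ 6) * 1 := by rw [a_eq, c6_8]
  have a7_0 : T.a (σ 7) (σ 0) = T.w (σ 7) * 0 := by rw [a_eq, c7_0]
  have a7_1 : T.a (σ 7) (σ 1) = T.w (σ 7) * 0 := by rw [a_eq, c7_1]
  have a7_2 : T.a (σ 7) (σ 2) = T.w (σ 7) * 0 := by rw [a_eq, c7_2]
  have a7_3 : T.a (σ 7) (σ 3) = T.w (σ 7) * 0 := by rw [a_eq, c7_3]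
  have a7_4 : T.a (σ 7) (σ 4) = T.w (σ 7) * 0 := by rw [a_eq, c7_4]
  have a7_5 : T.a (σ 7) (σ 5) = T.w (σ 7) * 0 := by rw [a_eq, c7_5]
  have a7_6 : T.a (σ 7) (σ 6) = T.w (σ 7) * 1 := by rw [a_eq, c7_6]
  have a7_8 : T.a (σ 7) (σ 8) = T.w (σ 7) * 0 := by rw [a_eq, c7_8]
  have a8_0 : T.a (σ 8) (σ 0) = T.w (σ 8) * 0 := by rw [a_eq, c8_0]
  have a8_1 : T.a (σ 8) (σ 1) = T.w (σ 8) * 0 := by rw [a_eq, c8_1]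
  have a8_2 : T.a (σ 8) (σ 2) = T.w (σ 8) * 0 := by rw [a_eq, c8_2]
  have a8_3 : T.a (σ 8) (σ 3) = T.w (σ 8) * 0 := by rw [a_eq, c8_3]
  have a8_4 : T.a (σ 8) (σ 4) = T.w (σ 8) * 0 := by rw [a_eq, c8_4]
  have a8_5 : T.a (σ 8) (σ 5) = T.w (σ 8) * 0 := by rw [a_eq, c8_5]
  have a8_6 : T.a (σ 8) (σ 6) = T.w (σ 8) * 1 := by rw [a_eq, c8_6]
  have a8_7 : T.a (σ 8) (σ 7) = T.w (σ 8) * 0 := by rw [a_eq, c8_7]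
  have ad0 := hd (σ 0)
  have ad1 := hd (σ 1)
  have ad2 := hd (σ 2)
  have ad3 := hd (σ 3)
  have ad4 := hd (σ 4)
  have ad5 := hd (σ 5)
  have ad6 := hd (σ 6)
  have ad7 := hd (σ 7)
  have ad8 := hd (σ 8)
  have s0_1 := a_symm T (σ 0) (σ 1)
  have s0_2 := a_symm T (σ 0) (σ 2)
  have s0_3 := a_symm T (σ 0) (σ 3)
  have s0_4 := a_symm T (σ 0) (σ 4)
  have s0_5 := a_symm T (σ 0) (σ 5)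
  have s0_6 := a_symm T (σ 0) (σ 6)
  have s0_7 := a_symm T (σ 0) (σ 7)
  have s0_8 := a_symm T (σ 0) (σ 8)
  have s1_2 := a_symm T (σ 1) (σ 2)
  have s1_3 := a_symm T (σ 1) (σ 3)
  have s1_4 := a_symm T (σ 1) (σ 4)
  have s1_5 := a_symm T (σ 1) (σ 5)
  have s1_6 := a_symm T (σ 1) (σ 6)
  have s1_7 := a_symm T (σ 1) (σ 7)
  have s1_8 := a_symm T (σ 1) (σ 8)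
  have s2_3 := a_symm T (σ 2) (σ 3)
  have s2_4 := a_symm T (σ 2) (σ 4)
  have s2_5 := a_symm T (σ 2) (σ 5)
  have s2_6 := a_symm T (σ 2) (σ 6)
  have s2_7 := a_symm T (σ 2) (σ 7)
  have s2_8 := a_symm T (σ 2) (σ 8)
  have s3_4 := a_symm T (σ 3) (σ 4)
  have s3_5 := a_symm T (σ 3) (σ 5)
  have s3_6 := a_symm T (σ 3) (σ 6)
  have s3_7 := a_symm T (σ 3) (σ 7)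
  have s3_8 := a_symm T (σ 3) (σ 8)
  have s4_5 := a_symm T (σ 4) (σ 5)
  have s4_6 := a_symm T (σ 4) (σ 6)
  have s4_7 := a_symm T (σ 4) (σ 7)
  have s4_8 := a_symm T (σ 4) (σ 8)
  have s5_6 := a_symm T (σ 5) (σ 6)
  have s5_7 := a_symm T (σ 5) (σ 7)
  have s5_8 := a_symm T (σ 5) (σ 8)
  have s6_7 := a_symm T (σ 6) (σ 7)
  have s6_8 := a_symm T (σ 6) (σ 8)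
  have s7_8 := a_symm T (σ 7) (σ 8)
  clear c0_1 c0_2 c0_3 c0_4 c0_5 c0_6 c0_7 c0_8 c1_0 c1_2 c1_3 c1_4 c1_5 c1_6 c1_7 c1_8 c2_0 c2_1 c2_3 c2_4 c2_5 c2_6 c2_7 c2_8 c3_0 c3_1 c3_2 c3_4 c3_5 c3_6 c3_7 c3_8 c4_0 c4_1 c4_2 c4_3 c4_5 c4_6 c4_7 c4_8 c5_0 c5_1 c5_2 c5_3 c5_4 c5_6 c5_7 c5_8 c6_0 c6_1 c6_2 c6_3 c6_4 c6_5 c6_7 c6_8 c7_0 c7_1 c7_2 c7_3 c7_4 c7_5 c7_6 c7_8 c8_0 c8_1 c8_2 c8_3 c8_4 c8_5 c8_6 c8_7 dd0 dd1 dd2 dd3 dd4 dd5 dd6 dd7 dd8 hC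
  have hm0 : T.m (σ 0) = 2 * T.m (σ 7) := by omega
  have hm1 : T.m (σ 1) = 2 * T.m (σ 7) := by omega
  have hm2 : T.m (σ 2) = 2 * T.m (σ 7) := by omega
  have hm3 : T.m (σ 3) = 2 * T.m (σ 7) := by omega
  have hm4 : T.m (σ 4) = 2 * T.m (σ 7) := by omega
  have hm5 : T.m (σ 5) = 2 * T.m (σ 7) := by omega
  have hm6 : T.m (σ 6) = 2 * T.m (σ 7) := by omega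
  have hm7 : T.m (σ 7) = 1 * T.m (σ 7) := by omega
  have hm8 : T.m (σ 8) = 1 * T.m (σ 7) := by omega
  clear r0 r1 r2 r3 r4 r5 r6 r7 r8
  have hw0 : T.w (σ 0) = 1 * T.w (σ 0) := by omega
  have hw1 : T.w (σ 1) = 2 * T.w (σ 0) := by omega
  have hw2 : T.w (σ 2) = 2 * T.w (σ 0) := by omega
  have hw3 : T.w (σ 3) = 2 * T.w (σ 0) := by omega
  have hw4 : T.w (σ 4) = 2 * T.w (σ 0) := by omega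
  have hw5 : T.w (σ 5) = 2 * T.w (σ 0) := by omega
  have hw6 : T.w (σ 6) = 2 * T.w (σ 0) := by omega
  have hw7 : T.w (σ 7) = 2 * T.w (σ 0) := by omega
  have hw8 : T.w (σ 8) = 2 * T.w (σ 0) := by omega
  refine ⟨σ, T.m (σ 7), T.w (σ 0), ?_⟩
  refine Or.inr (Or.inr (Or.inr (Or.inr (Or.inr (Or.inl ?_)))))
  refine ⟨?_, ?_, ?_, ?_, ?_, ?_, ?_, ?_, ?_, ?_, ?_, ?_, ?_, ?_, ?_, ?_, ?_, ?_, ?_, ?_, ?_, ?_, ?_, ?_, ?_, ?_, ?_, ?_, ?_, ?_, ?_, ?_, ?_, ?_, ?_, ?_, ?_, ?_, ?_, ?_, ?_, ?_, ?_, ?_, ?_, ?_, ?_, ?_, ?_, ?_, ?_, ?_, ?_, ?_, ?_, ?_, ?_, ?_, ?_, ?_, ?_, ?_, ?_⟩ <;> omega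

theorem form9_6 (T : NumericalType 9) (hd : ∀ i, T.a i i = -2 * T.w i)
    (σ : Equiv.Perm (Fin 9))
    (hC : ∀ i j : Fin 9, i ≠ j → cc T (σ i) (σ j) = (E forms9 6 i j : ℤ)) :
    ∃ (σ : Equiv.Perm (Fin 9)) (m w : ℤ),
      ((T.m (σ 0) = m ∧ T.m (σ 1) = m ∧ T.m (σ 2) = m ∧ T.m (σ 3) = m ∧ T.m (σ 4) = m ∧ T.m (σ 5) = m ∧ T.m (σ 6) = m ∧ T.m (σ 7) = m ∧ T.m (σ 8) = m ∧ T.w (σ 0) = w ∧ T.w (σ 1) = w ∧ T.w (σ 2) = w ∧ T.w (σ 3) = w ∧ T.w (σ 4) = w ∧ T.w (σ 5) = w ∧ T.w (σ 6) = w ∧ T.w (σ 7) = w ∧ T.w (σ 8) = w ∧ T.a (σ 0) (σ 0) = -2 * w ∧ T.a (σ 0) (σ 1) = w ∧ T.a (σ 0) (σ 2) = 0 ∧ T.a (σ 0) (σ 3) = 0 ∧ T.a (σ 0) (σ 4) = 0 ∧ T.a (σ 0) (σ 5) = 0 ∧ T.a (σ 0) (σ 6) = 0 ∧ T.a (σ 0) (σ 7) = 0 ∧ T.a (σ 0)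 (σ 8) = w ∧ T.a (σ 1) (σ 1) = -2 * w ∧ T.a (σ 1) (σ 2) = w ∧ T.a (σ 1) (σ 3) = 0 ∧ T.a (σ 1) (σ 4) = 0 ∧ T.a (σ 1) (σ 5) = 0 ∧ T.a (σ 1) (σ 6) = 0 ∧ T.a (σ 1) (σ 7) = 0 ∧ T.a (σ 1) (σ 8) = 0 ∧ T.a (σ 2) (σ 2) = -2 * w ∧ T.a (σ 2) (σ 3) = w ∧ T.a (σ 2) (σ 4) = 0 ∧ T.a (σ 2) (σ 5) = 0 ∧ T.a (σ 2) (σ 6) = 0 ∧ T.a (σ 2) (σ 7) = 0 ∧ T.a (σ 2) (σ 8) = 0 ∧ T.a (σ 3) (σ 3) = -2 * w ∧ T.a (σ 3) (σ 4) = w ∧ T.a (σ 3) (σ 5) = 0 ∧ T.a (σ 3) (σ 6) = 0 ∧ T.a (σ 3) (σ 7) = 0 ∧ T.a (σ 3) (σ 8) = 0 ∧ T.a (σ 4) (σ 4) = -2 * w ∧ T.a (σ 4) (σ 5) = w ∧ T.a (σ 4) (σ 6) = 0 ∧ T.a (σ 4) (σ 7) = 0 ∧ T.a (σ 4) (σ 8) = 0 ∧ T.a (σ 5) (σ 5) = -2 * w ∧ T.a (σ 5) (σ 6) = w ∧ T.a (σ 5) (σ 7) = 0 ∧ T.a (σ 5) (σ 8) = 0 ∧ T.a (σ 6)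 (σ 6) = -2 * w ∧ T.a (σ 6) (σ 7) = w ∧ T.a (σ 6) (σ 8) = 0 ∧ T.a (σ 7) (σ 7) = -2 * w ∧ T.a (σ 7) (σ 8) = w ∧ T.a (σ 8) (σ 8) = -2 * w) ∨
      (T.m (σ 0) = 2 * m ∧ T.m (σ 1) = 2 * m ∧ T.m (σ 2) = 2 * m ∧ T.m (σ 3) = 2 * m ∧ T.m (σ 4) = 2 * m ∧ T.m (σ 5) = 2 * m ∧ T.m (σ 6) = 2 * m ∧ T.m (σ 7) = 2 * m ∧ T.m (σ 8) = m ∧ T.w (σ 0) = w ∧ T.w (σ 1) = 2 * w ∧ T.w (σ 2) = 2 * w ∧ T.w (σ 3) = 2 * w ∧ T.w (σ 4) = 2 * w ∧ T.w (σ 5) = 2 * w ∧ T.w (σ 6) = 2 * w ∧ T.w (σ 7) = 2 * w ∧ T.w (σ 8) = 4 * w ∧ T.a (σ 0) (σ 0) = -2 * w ∧ T.a (σ 0) (σ 1) = 2 * w ∧ T.a (σ 0) (σ 2) = 0 ∧ T.a (σ 0) (σ 3) = 0 ∧ T.a (σ 0) (σ 4) = 0 ∧ T.a (σ 0) (σ 5) = 0 ∧ T.a (σ 0) (σ 6) = 0 ∧ T.a (σ 0) (σ 7) = 0 ∧ T.a (σ 0) (σ 8) = 0 ∧ T.a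 (σ 1) (σ 1) = -4 * w ∧ T.a (σ 1) (σ 2) = 2 * w ∧ T.a (σ 1) (σ 3) = 0 ∧ T.a (σ 1) (σ 4) = 0 ∧ T.a (σ 1) (σ 5) = 0 ∧ T.a (σ 1) (σ 6) = 0 ∧ T.a (σ 1) (σ 7) = 0 ∧ T.a (σ 1) (σ 8) = 0 ∧ T.a (σ 2) (σ 2) = -4 * w ∧ T.a (σ 2) (σ 3) = 2 * w ∧ T.a (σ 2) (σ 4) = 0 ∧ T.a (σ 2) (σ 5) = 0 ∧ T.a (σ 2) (σ 6) = 0 ∧ T.a (σ 2) (σ 7) = 0 ∧ T.a (σ 2) (σ 8) = 0 ∧ T.a (σ 3) (σ 3) = -4 * w ∧ T.a (σ 3) (σ 4) = 2 * w ∧ T.a (σ 3) (σ 5) = 0 ∧ T.a (σ 3) (σ 6) = 0 ∧ T.a (σ 3) (σ 7) = 0 ∧ T.a (σ 3) (σ 8) = 0 ∧ T.a (σ 4) (σ 4) = -4 * w ∧ T.a (σ 4) (σ 5) = 2 * w ∧ T.a (σ 4) (σ 6) = 0 ∧ T.a (σ 4) (σ 7) = 0 ∧ T.a (σ 4) (σ 8) = 0 ∧ T.a (σ 5) (σ 5) = -4 * w ∧ T.a (σ 5) (σ 6) = 2 * w ∧ T.a (σ 5) (σ 7) = 0 ∧ T.a (σ 5) (σ 8) = 0 ∧ T.a (σ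 6) (σ 6) = -4 * w ∧ T.a (σ 6) (σ 7) = 2 * w ∧ T.a (σ 6) (σ 8) = 0 ∧ T.a (σ 7) (σ 7) = -4 * w ∧ T.a (σ 7) (σ 8) = 4 * w ∧ T.a (σ 8) (σ 8) = -8 * w) ∨
      (T.m (σ 0) = m ∧ T.m (σ 1) = m ∧ T.m (σ 2) = m ∧ T.m (σ 3) = m ∧ T.m (σ 4) = m ∧ T.m (σ 5) = m ∧ T.m (σ 6) = m ∧ T.m (σ 7) = m ∧ T.m (σ 8) = m ∧ T.w (σ 0) = w ∧ T.w (σ 1) = 2 * w ∧ T.w (σ 2) = 2 * w ∧ T.w (σ 3) = 2 * w ∧ T.w (σ 4) = 2 * w ∧ T.w (σ 5) = 2 * w ∧ T.w (σ 6) = 2 * w ∧ T.w (σ 7) = 2 * w ∧ T.w (σ 8) = w ∧ T.a (σ 0) (σ 0) = -2 * w ∧ T.a (σ 0) (σ 1) = 2 * w ∧ T.a (σ 0) (σ 2) = 0 ∧ T.a (σ 0) (σ 3) = 0 ∧ T.a (σ 0) (σ 4) = 0 ∧ T.a (σ 0) (σ 5) = 0 ∧ T.a (σ 0) (σ 6) = 0 ∧ T.a (σ 0) (σ 7) = 0 ∧ T.a (σ 0) (σ 8) = 0 ∧ T.a (σ 1) (σ 1) = -4 * w ∧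 T.a (σ 1) (σ 2) = 2 * w ∧ T.a (σ 1) (σ 3) = 0 ∧ T.a (σ 1) (σ 4) = 0 ∧ T.a (σ 1) (σ 5) = 0 ∧ T.a (σ 1) (σ 6) = 0 ∧ T.a (σ 1) (σ 7) = 0 ∧ T.a (σ 1) (σ 8) = 0 ∧ T.a (σ 2) (σ 2) = -4 * w ∧ T.a (σ 2) (σ 3) = 2 * w ∧ T.a (σ 2) (σ 4) = 0 ∧ T.a (σ 2) (σ 5) = 0 ∧ T.a (σ 2) (σ 6) = 0 ∧ T.a (σ 2) (σ 7) = 0 ∧ T.a (σ 2) (σ 8) = 0 ∧ T.a (σ 3) (σ 3) = -4 * w ∧ T.a (σ 3) (σ 4) = 2 * w ∧ T.a (σ 3) (σ 5) = 0 ∧ T.a (σ 3) (σ 6) = 0 ∧ T.a (σ 3) (σ 7) = 0 ∧ T.a (σ 3) (σ 8) = 0 ∧ T.a (σ 4) (σ 4) = -4 * w ∧ T.a (σ 4) (σ 5) = 2 * w ∧ T.a (σ 4) (σ 6) = 0 ∧ T.a (σ 4) (σ 7) = 0 ∧ T.a (σ 4) (σ 8) = 0 ∧ T.a (σ 5) (σ 5) = -4 * w ∧ T.a (σ 5) (σ 6) = 2 * w ∧ T.a (σ 5) (σ 7) = 0 ∧ T.a (σ 5) (σ 8) = 0 ∧ T.a (σ 6) (σ 6) = -4 * w ∧ T.a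 (σ 6) (σ 7) = 2 * w ∧ T.a (σ 6) (σ 8) = 0 ∧ T.a (σ 7) (σ 7) = -4 * w ∧ T.a (σ 7) (σ 8) = 2 * w ∧ T.a (σ 8) (σ 8) = -2 * w) ∨
      (T.m (σ 0) = m ∧ T.m (σ 1) = 2 * m ∧ T.m (σ 2) = 2 * m ∧ T.m (σ 3) = 2 * m ∧ T.m (σ 4) = 2 * m ∧ T.m (σ 5) = 2 * m ∧ T.m (σ 6) = 2 * m ∧ T.m (σ 7) = 2 * m ∧ T.m (σ 8) = m ∧ T.w (σ 0) = 2 * w ∧ T.w (σ 1) = w ∧ T.w (σ 2) = w ∧ T.w (σ 3) = w ∧ T.w (σ 4) = w ∧ T.w (σ 5) = w ∧ T.w (σ 6) = w ∧ T.w (σ 7) = w ∧ T.w (σ 8) = 2 * w ∧ T.a (σ 0) (σ 0) = -4 * w ∧ T.a (σ 0) (σ 1) = 2 * w ∧ T.a (σ 0) (σ 2) = 0 ∧ T.a (σ 0) (σ 3) = 0 ∧ T.a (σ 0) (σ 4) = 0 ∧ T.a (σ 0) (σ 5) = 0 ∧ T.a (σ 0) (σ 6) = 0 ∧ T.a (σ 0) (σ 7) = 0 ∧ T.a (σ 0) (σ 8) = 0 ∧ T.a (σ 1) (σ 1) = -2 * w ∧ T.a (σ 1) (σ 2)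 = w ∧ T.a (σ 1) (σ 3) = 0 ∧ T.a (σ 1) (σ 4) = 0 ∧ T.a (σ 1) (σ 5) = 0 ∧ T.a (σ 1) (σ 6) = 0 ∧ T.a (σ 1) (σ 7) = 0 ∧ T.a (σ 1) (σ 8) = 0 ∧ T.a (σ 2) (σ 2) = -2 * w ∧ T.a (σ 2) (σ 3) = w ∧ T.a (σ 2) (σ 4) = 0 ∧ T.a (σ 2) (σ 5) = 0 ∧ T.a (σ 2) (σ 6) = 0 ∧ T.a (σ 2) (σ 7) = 0 ∧ T.a (σ 2) (σ 8) = 0 ∧ T.a (σ 3) (σ 3) = -2 * w ∧ T.a (σ 3) (σ 4) = w ∧ T.a (σ 3) (σ 5) = 0 ∧ T.a (σ 3) (σ 6) = 0 ∧ T.a (σ 3) (σ 7) = 0 ∧ T.a (σ 3) (σ 8) = 0 ∧ T.a (σ 4) (σ 4) = -2 * w ∧ T.a (σ 4) (σ 5) = w ∧ T.a (σ 4) (σ 6) = 0 ∧ T.a (σ 4) (σ 7) = 0 ∧ T.a (σ 4) (σ 8) = 0 ∧ T.a (σ 5) (σ 5) = -2 * w ∧ T.a (σ 5) (σ 6) = w ∧ T.a (σ 5) (σ 7) = 0 ∧ T.a (σ 5) (σ 8) = 0 ∧ T.a (σ 6) (σ 6) = -2 * w ∧ T.a (σ 6) (σ 7) = w ∧ T.a (σ 6) (σ 8)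 = 0 ∧ T.a (σ 7) (σ 7) = -2 * w ∧ T.a (σ 7) (σ 8) = 2 * w ∧ T.a (σ 8) (σ 8) = -4 * w) ∨
      (T.m (σ 0) = m ∧ T.m (σ 1) = 2 * m ∧ T.m (σ 2) = 2 * m ∧ T.m (σ 3) = 2 * m ∧ T.m (σ 4) = 2 * m ∧ T.m (σ 5) = 2 * m ∧ T.m (σ 6) = 2 * m ∧ T.m (σ 7) = m ∧ T.m (σ 8) = m ∧ T.w (σ 0) = 2 * w ∧ T.w (σ 1) = w ∧ T.w (σ 2) = w ∧ T.w (σ 3) = w ∧ T.w (σ 4) = w ∧ T.w (σ 5) = w ∧ T.w (σ 6) = w ∧ T.w (σ 7) = w ∧ T.w (σ 8) = w ∧ T.a (σ 0) (σ 0) = -4 * w ∧ T.a (σ 0) (σ 1) = 2 * w ∧ T.a (σ 0) (σ 2) = 0 ∧ T.a (σ 0) (σ 3) = 0 ∧ T.a (σ 0) (σ 4) = 0 ∧ T.a (σ 0) (σ 5) = 0 ∧ T.a (σ 0) (σ 6) = 0 ∧ T.a (σ 0) (σ 7) = 0 ∧ T.a (σ 0) (σ 8) = 0 ∧ T.a (σ 1) (σ 1) = -2 * w ∧ T.a (σ 1) (σ 2) = w ∧ T.a (σ 1) (σ 3) = 0 ∧ T.a (σ 1) (σ 4) =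 0 ∧ T.a (σ 1) (σ 5) = 0 ∧ T.a (σ 1) (σ 6) = 0 ∧ T.a (σ 1) (σ 7) = 0 ∧ T.a (σ 1) (σ 8) = 0 ∧ T.a (σ 2) (σ 2) = -2 * w ∧ T.a (σ 2) (σ 3) = w ∧ T.a (σ 2) (σ 4) = 0 ∧ T.a (σ 2) (σ 5) = 0 ∧ T.a (σ 2) (σ 6) = 0 ∧ T.a (σ 2) (σ 7) = 0 ∧ T.a (σ 2) (σ 8) = 0 ∧ T.a (σ 3) (σ 3) = -2 * w ∧ T.a (σ 3) (σ 4) = w ∧ T.a (σ 3) (σ 5) = 0 ∧ T.a (σ 3) (σ 6) = 0 ∧ T.a (σ 3) (σ 7) = 0 ∧ T.a (σ 3) (σ 8) = 0 ∧ T.a (σ 4) (σ 4) = -2 * w ∧ T.a (σ 4) (σ 5) = w ∧ T.a (σ 4) (σ 6) = 0 ∧ T.a (σ 4) (σ 7) = 0 ∧ T.a (σ 4) (σ 8) = 0 ∧ T.a (σ 5) (σ 5) = -2 * w ∧ T.a (σ 5) (σ 6) = w ∧ T.a (σ 5) (σ 7) = 0 ∧ T.a (σ 5) (σ 8) = 0 ∧ T.a (σ 6) (σ 6) = -2 * w ∧ T.a (σ 6) (σ 7) = w ∧ T.a (σ 6) (σ 8) = w ∧ T.a (σ 7) (σ 7) = -2 * w ∧ T.a (σ 7) (σ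 8) = 0 ∧ T.a (σ 8) (σ 8) = -2 * w) ∨
      (T.m (σ 0) = 2 * m ∧ T.m (σ 1) = 2 * m ∧ T.m (σ 2) = 2 * m ∧ T.m (σ 3) = 2 * m ∧ T.m (σ 4) = 2 * m ∧ T.m (σ 5) = 2 * m ∧ T.m (σ 6) = 2 * m ∧ T.m (σ 7) = m ∧ T.m (σ 8) = m ∧ T.w (σ 0) = w ∧ T.w (σ 1) = 2 * w ∧ T.w (σ 2) = 2 * w ∧ T.w (σ 3) = 2 * w ∧ T.w (σ 4) = 2 * w ∧ T.w (σ 5) = 2 * w ∧ T.w (σ 6) = 2 * w ∧ T.w (σ 7) = 2 * w ∧ T.w (σ 8) = 2 * w ∧ T.a (σ 0) (σ 0) = -2 * w ∧ T.a (σ 0) (σ 1) = 2 * w ∧ T.a (σ 0) (σ 2) = 0 ∧ T.a (σ 0) (σ 3) = 0 ∧ T.a (σ 0) (σ 4) = 0 ∧ T.a (σ 0) (σ 5) = 0 ∧ T.a (σ 0) (σ 6) = 0 ∧ T.a (σ 0) (σ 7) = 0 ∧ T.a (σ 0) (σ 8) = 0 ∧ T.a (σ 1) (σ 1) = -4 * w ∧ T.a (σ 1) (σ 2) = 2 * w ∧ T.a (σ 1) (σ 3) = 0 ∧ T.a (σ 1) (σ 4) = 0 ∧ T.a (σ 1)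 (σ 5) = 0 ∧ T.a (σ 1) (σ 6) = 0 ∧ T.a (σ 1) (σ 7) = 0 ∧ T.a (σ 1) (σ 8) = 0 ∧ T.a (σ 2) (σ 2) = -4 * w ∧ T.a (σ 2) (σ 3) = 2 * w ∧ T.a (σ 2) (σ 4) = 0 ∧ T.a (σ 2) (σ 5) = 0 ∧ T.a (σ 2) (σ 6) = 0 ∧ T.a (σ 2) (σ 7) = 0 ∧ T.a (σ 2) (σ 8) = 0 ∧ T.a (σ 3) (σ 3) = -4 * w ∧ T.a (σ 3) (σ 4) = 2 * w ∧ T.a (σ 3) (σ 5) = 0 ∧ T.a (σ 3) (σ 6) = 0 ∧ T.a (σ 3) (σ 7) = 0 ∧ T.a (σ 3) (σ 8) = 0 ∧ T.a (σ 4) (σ 4) = -4 * w ∧ T.a (σ 4) (σ 5) = 2 * w ∧ T.a (σ 4) (σ 6) = 0 ∧ T.a (σ 4) (σ 7) = 0 ∧ T.a (σ 4) (σ 8) = 0 ∧ T.a (σ 5) (σ 5) = -4 * w ∧ T.a (σ 5) (σ 6) = 2 * w ∧ T.a (σ 5) (σ 7) = 0 ∧ T.a (σ 5) (σ 8) = 0 ∧ T.a (σ 6) (σ 6) = -4 * w ∧ T.a (σ 6) (σ 7) = 2 * w ∧ T.a (σ 6) (σ 8) = 2 * w ∧ T.a (σ 7) (σ 7) = -4 * w ∧ T.a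 (σ 7) (σ 8) = 0 ∧ T.a (σ 8) (σ 8) = -4 * w) ∨
      (T.m (σ 0) = m ∧ T.m (σ 1) = m ∧ T.m (σ 2) = 2 * m ∧ T.m (σ 3) = 2 * m ∧ T.m (σ 4) = 2 * m ∧ T.m (σ 5) = 2 * m ∧ T.m (σ 6) = 2 * m ∧ T.m (σ 7) = m ∧ T.m (σ 8) = m ∧ T.w (σ 0) = w ∧ T.w (σ 1) = w ∧ T.w (σ 2) = w ∧ T.w (σ 3) = w ∧ T.w (σ 4) = w ∧ T.w (σ 5) = w ∧ T.w (σ 6) = w ∧ T.w (σ 7) = w ∧ T.w (σ 8) = w ∧ T.a (σ 0) (σ 0) = -2 * w ∧ T.a (σ 0) (σ 1) = 0 ∧ T.a (σ 0) (σ 2) = w ∧ T.a (σ 0) (σ 3) = 0 ∧ T.a (σ 0) (σ 4) = 0 ∧ T.a (σ 0) (σ 5) = 0 ∧ T.a (σ 0) (σ 6) = 0 ∧ T.a (σ 0) (σ 7) = 0 ∧ T.a (σ 0) (σ 8) = 0 ∧ T.a (σ 1) (σ 1) = -2 * w ∧ T.a (σ 1) (σ 2) = w ∧ T.a (σ 1) (σ 3) = 0 ∧ T.a (σ 1) (σ 4) = 0 ∧ T.a (σ 1) (σ 5) = 0 ∧ T.a (σ 1) (σ 6) = 0 ∧ T.a (σ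 1) (σ 7) = 0 ∧ T.a (σ 1) (σ 8) = 0 ∧ T.a (σ 2) (σ 2) = -2 * w ∧ T.a (σ 2) (σ 3) = w ∧ T.a (σ 2) (σ 4) = 0 ∧ T.a (σ 2) (σ 5) = 0 ∧ T.a (σ 2) (σ 6) = 0 ∧ T.a (σ 2) (σ 7) = 0 ∧ T.a (σ 2) (σ 8) = 0 ∧ T.a (σ 3) (σ 3) = -2 * w ∧ T.a (σ 3) (σ 4) = w ∧ T.a (σ 3) (σ 5) = 0 ∧ T.a (σ 3) (σ 6) = 0 ∧ T.a (σ 3) (σ 7) = 0 ∧ T.a (σ 3) (σ 8) = 0 ∧ T.a (σ 4) (σ 4) = -2 * w ∧ T.a (σ 4) (σ 5) = w ∧ T.a (σ 4) (σ 6) = 0 ∧ T.a (σ 4) (σ 7) = 0 ∧ T.a (σ 4) (σ 8) = 0 ∧ T.a (σ 5) (σ 5) = -2 * w ∧ T.a (σ 5) (σ 6) = w ∧ T.a (σ 5) (σ 7) = 0 ∧ T.a (σ 5) (σ 8) = 0 ∧ T.a (σ 6) (σ 6) = -2 * w ∧ T.a (σ 6) (σ 7) = w ∧ T.a (σ 6) (σ 8) = w ∧ T.a (σ 7) (σ 7) = -2 * w ∧ T.a (σ 7) (σ 8) = 0 ∧ T.a (σ 8) (σ 8) = -2 * w) ∨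
      (T.m (σ 0) = m ∧ T.m (σ 1) = 2 * m ∧ T.m (σ 2) = 3 * m ∧ T.m (σ 3) = 4 * m ∧ T.m (σ 4) = 5 * m ∧ T.m (σ 5) = 6 * m ∧ T.m (σ 6) = 4 * m ∧ T.m (σ 7) = 2 * m ∧ T.m (σ 8) = 3 * m ∧ T.w (σ 0) = w ∧ T.w (σ 1) = w ∧ T.w (σ 2) = w ∧ T.w (σ 3) = w ∧ T.w (σ 4) = w ∧ T.w (σ 5) = w ∧ T.w (σ 6) = w ∧ T.w (σ 7) = w ∧ T.w (σ 8) = w ∧ T.a (σ 0) (σ 0) = -2 * w ∧ T.a (σ 0) (σ 1) = w ∧ T.a (σ 0) (σ 2) = 0 ∧ T.a (σ 0) (σ 3) = 0 ∧ T.a (σ 0) (σ 4) = 0 ∧ T.a (σ 0) (σ 5) = 0 ∧ T.a (σ 0) (σ 6) = 0 ∧ T.a (σ 0) (σ 7) = 0 ∧ T.a (σ 0) (σ 8) = 0 ∧ T.a (σ 1) (σ 1) = -2 * w ∧ T.a (σ 1) (σ 2) = w ∧ T.a (σ 1) (σ 3) = 0 ∧ T.a (σ 1) (σ 4) = 0 ∧ T.a (σ 1) (σ 5) = 0 ∧ T.a (σ 1) (σ 6) = 0 ∧ T.a (σ 1) (σ 7) = 0 ∧ T.a (σ 1) (σ 8) =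 0 ∧ T.a (σ 2) (σ 2) = -2 * w ∧ T.a (σ 2) (σ 3) = w ∧ T.a (σ 2) (σ 4) = 0 ∧ T.a (σ 2) (σ 5) = 0 ∧ T.a (σ 2) (σ 6) = 0 ∧ T.a (σ 2) (σ 7) = 0 ∧ T.a (σ 2) (σ 8) = 0 ∧ T.a (σ 3) (σ 3) = -2 * w ∧ T.a (σ 3) (σ 4) = w ∧ T.a (σ 3) (σ 5) = 0 ∧ T.a (σ 3) (σ 6) = 0 ∧ T.a (σ 3) (σ 7) = 0 ∧ T.a (σ 3) (σ 8) = 0 ∧ T.a (σ 4) (σ 4) = -2 * w ∧ T.a (σ 4) (σ 5) = w ∧ T.a (σ 4) (σ 6) = 0 ∧ T.a (σ 4) (σ 7) = 0 ∧ T.a (σ 4) (σ 8) = 0 ∧ T.a (σ 5) (σ 5) = -2 * w ∧ T.a (σ 5) (σ 6) = w ∧ T.a (σ 5) (σ 7) = 0 ∧ T.a (σ 5) (σ 8) = w ∧ T.a (σ 6) (σ 6) = -2 * w ∧ T.a (σ 6) (σ 7) = w ∧ T.a (σ 6) (σ 8) = 0 ∧ T.a (σ 7) (σ 7) = -2 * w ∧ T.a (σ 7) (σ 8) = 0 ∧ T.a (σ 8) (σ 8) = -2 * w)) := by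
  have c0_1 : cc T (σ 0) (σ 1) = 0 := by rw [hC 0 1 (by decide)]; rfl
  have c0_2 : cc T (σ 0) (σ 2) = 1 := by rw [hC 0 2 (by decide)]; rfl
  have c0_3 : cc T (σ 0) (σ 3) = 0 := by rw [hC 0 3 (by decide)]; rfl
  have c0_4 : cc T (σ 0) (σ 4) = 0 := by rw [hC 0 4 (by decide)]; rfl
  have c0_5 : cc T (σ 0) (σ 5) = 0 := by rw [hC 0 5 (by decide)]; rfl
  have c0_6 : cc T (σ 0) (σ 6) = 0 := by rw [hC 0 6 (by decide)]; rfl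
  have c0_7 : cc T (σ 0) (σ 7) = 0 := by rw [hC 0 7 (by decide)]; rfl
  have c0_8 : cc T (σ 0) (σ 8) = 0 := by rw [hC 0 8 (by decide)]; rfl
  have c1_0 : cc T (σ 1) (σ 0) = 0 := by rw [hC 1 0 (by decide)]; rfl
  have c1_2 : cc T (σ 1) (σ 2) = 1 := by rw [hC 1 2 (by decide)]; rfl
  have c1_3 : cc T (σ 1) (σ 3) = 0 := by rw [hC 1 3 (by decide)]; rfl
  have c1_4 : cc T (σ 1) (σ 4) = 0 := by rw [hC 1 4 (by decide)]; rfl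
  have c1_5 : cc T (σ 1) (σ 5) = 0 := by rw [hC 1 5 (by decide)]; rfl
  have c1_6 : cc T (σ 1) (σ 6) = 0 := by rw [hC 1 6 (by decide)]; rfl
  have c1_7 : cc T (σ 1) (σ 7) = 0 := by rw [hC 1 7 (by decide)]; rfl
  have c1_8 : cc T (σ 1) (σ 8) = 0 := by rw [hC 1 8 (by decide)]; rfl
  have c2_0 : cc T (σ 2) (σ 0) = 1 := by rw [hC 2 0 (by decide)]; rfl
  have c2_1 : cc T (σ 2) (σ 1) = 1 := by rw [hC 2 1 (by decide)]; rfl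
  have c2_3 : cc T (σ 2) (σ 3) = 1 := by rw [hC 2 3 (by decide)]; rfl
  have c2_4 : cc T (σ 2) (σ 4) = 0 := by rw [hC 2 4 (by decide)]; rfl
  have c2_5 : cc T (σ 2) (σ 5) = 0 := by rw [hC 2 5 (by decide)]; rfl
  have c2_6 : cc T (σ 2) (σ 6) = 0 := by rw [hC 2 6 (by decide)]; rfl
  have c2_7 : cc T (σ 2) (σ 7) = 0 := by rw [hC 2 7 (by decide)]; rfl
  have c2_8 : cc T (σ 2) (σ 8) = 0 := by rw [hC 2 8 (by decide)]; rfl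
  have c3_0 : cc T (σ 3) (σ 0) = 0 := by rw [hC 3 0 (by decide)]; rfl
  have c3_1 : cc T (σ 3) (σ 1) = 0 := by rw [hC 3 1 (by decide)]; rfl
  have c3_2 : cc T (σ 3) (σ 2) = 1 := by rw [hC 3 2 (by decide)]; rfl
  have c3_4 : cc T (σ 3) (σ 4) = 1 := by rw [hC 3 4 (by decide)]; rfl
  have c3_5 : cc T (σ 3) (σ 5) = 0 := by rw [hC 3 5 (by decide)]; rfl
  have c3_6 : cc T (σ 3) (σ 6) = 0 := by rw [hC 3 6 (by decide)]; rfl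
  have c3_7 : cc T (σ 3) (σ 7) = 0 := by rw [hC 3 7 (by decide)]; rfl
  have c3_8 : cc T (σ 3) (σ 8) = 0 := by rw [hC 3 8 (by decide)]; rfl
  have c4_0 : cc T (σ 4) (σ 0) = 0 := by rw [hC 4 0 (by decide)]; rfl
  have c4_1 : cc T (σ 4) (σ 1) = 0 := by rw [hC 4 1 (by decide)]; rfl
  have c4_2 : cc T (σ 4) (σ 2) = 0 := by rw [hC 4 2 (by decide)]; rfl
  have c4_3 : cc T (σ 4) (σ 3) = 1 := by rw [hC 4 3 (by decide)]; rfl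
  have c4_5 : cc T (σ 4) (σ 5) = 1 := by rw [hC 4 5 (by decide)]; rfl
  have c4_6 : cc T (σ 4) (σ 6) = 0 := by rw [hC 4 6 (by decide)]; rfl
  have c4_7 : cc T (σ 4) (σ 7) = 0 := by rw [hC 4 7 (by decide)]; rfl
  have c4_8 : cc T (σ 4) (σ 8) = 0 := by rw [hC 4 8 (by decide)]; rfl
  have c5_0 : cc T (σ 5) (σ 0) = 0 := by rw [hC 5 0 (by decide)]; rfl
  have c5_1 : cc T (σ 5) (σ 1) = 0 := by rw [hC 5 1 (by decide)]; rfl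
  have c5_2 : cc T (σ 5) (σ 2) = 0 := by rw [hC 5 2 (by decide)]; rfl
  have c5_3 : cc T (σ 5) (σ 3) = 0 := by rw [hC 5 3 (by decide)]; rfl
  have c5_4 : cc T (σ 5) (σ 4) = 1 := by rw [hC 5 4 (by decide)]; rfl
  have c5_6 : cc T (σ 5) (σ 6) = 1 := by rw [hC 5 6 (by decide)]; rfl
  have c5_7 : cc T (σ 5) (σ 7) = 0 := by rw [hC 5 7 (by decide)]; rfl
  have c5_8 : cc T (σ 5) (σ 8) = 0 := by rw [hC 5 8 (by decide)]; rfl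
  have c6_0 : cc T (σ 6) (σ 0) = 0 := by rw [hC 6 0 (by decide)]; rfl
  have c6_1 : cc T (σ 6) (σ 1) = 0 := by rw [hC 6 1 (by decide)]; rfl
  have c6_2 : cc T (σ 6) (σ 2) = 0 := by rw [hC 6 2 (by decide)]; rfl
  have c6_3 : cc T (σ 6) (σ 3) = 0 := by rw [hC 6 3 (by decide)]; rfl
  have c6_4 : cc T (σ 6) (σ 4) = 0 := by rw [hC 6 4 (by decide)]; rfl
  have c6_5 : cc T (σ 6) (σ 5) = 1 := by rw [hC 6 5 (by decide)]; rfl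
  have c6_7 : cc T (σ 6) (σ 7) = 1 := by rw [hC 6 7 (by decide)]; rfl
  have c6_8 : cc T (σ 6) (σ 8) = 1 := by rw [hC 6 8 (by decide)]; rfl
  have c7_0 : cc T (σ 7) (σ 0) = 0 := by rw [hC 7 0 (by decide)]; rfl
  have c7_1 : cc T (σ 7) (σ 1) = 0 := by rw [hC 7 1 (by decide)]; rfl
  have c7_2 : cc T (σ 7) (σ 2) = 0 := by rw [hC 7 2 (by decide)]; rfl
  have c7_3 : cc T (σ 7) (σ 3) = 0 := by rw [hC 7 3 (by decide)]; rfl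
  have c7_4 : cc T (σ 7) (σ 4) = 0 := by rw [hC 7 4 (by decide)]; rfl
  have c7_5 : cc T (σ 7) (σ 5) = 0 := by rw [hC 7 5 (by decide)]; rfl
  have c7_6 : cc T (σ 7) (σ 6) = 1 := by rw [hC 7 6 (by decide)]; rfl
  have c7_8 : cc T (σ 7) (σ 8) = 0 := by rw [hC 7 8 (by decide)]; rfl
  have c8_0 : cc T (σ 8) (σ 0) = 0 := by rw [hC 8 0 (by decide)]; rfl
  have c8_1 : cc T (σ 8) (σ 1) = 0 := by rw [hC 8 1 (by decide)]; rfl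
  have c8_2 : cc T (σ 8) (σ 2) = 0 := by rw [hC 8 2 (by decide)]; rfl
  have c8_3 : cc T (σ 8) (σ 3) = 0 := by rw [hC 8 3 (by decide)]; rfl
  have c8_4 : cc T (σ 8) (σ 4) = 0 := by rw [hC 8 4 (by decide)]; rfl
  have c8_5 : cc T (σ 8) (σ 5) = 0 := by rw [hC 8 5 (by decide)]; rfl
  have c8_6 : cc T (σ 8) (σ 6) = 1 := by rw [hC 8 6 (by decide)]; rfl
  have c8_7 : cc T (σ 8) (σ 7) = 0 := by rw [hC 8 7 (by decide)]; rfl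
  have dd0 := cc_diag T hd (σ 0)
  have dd1 := cc_diag T hd (σ 1)
  have dd2 := cc_diag T hd (σ 2)
  have dd3 := cc_diag T hd (σ 3)
  have dd4 := cc_diag T hd (σ 4)
  have dd5 := cc_diag T hd (σ 5)
  have dd6 := cc_diag T hd (σ 6)
  have dd7 := cc_diag T hd (σ 7)
  have dd8 := cc_diag T hd (σ 8)
  have r0 := row9 T σ 0
  rw [dd0, c0_1, c0_2, c0_3, c0_4, c0_5, c0_6, c0_7, c0_8] at r0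
  have r1 := row9 T σ 1
  rw [c1_0, dd1, c1_2, c1_3, c1_4, c1_5, c1_6, c1_7, c1_8] at r1
  have r2 := row9 T σ 2
  rw [c2_0, c2_1, dd2, c2_3, c2_4, c2_5, c2_6, c2_7, c2_8] at r2
  have r3 := row9 T σ 3
  rw [c3_0, c3_1, c3_2, dd3, c3_4, c3_5, c3_6, c3_7, c3_8] at r3
  have r4 := row9 T σ 4
  rw [c4_0, c4_1, c4_2, c4_3, dd4, c4_5, c4_6, c4_7, c4_8] at r4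
  have r5 := row9 T σ 5
  rw [c5_0, c5_1, c5_2, c5_3, c5_4, dd5, c5_6, c5_7, c5_8] at r5
  have r6 := row9 T σ 6
  rw [c6_0, c6_1, c6_2, c6_3, c6_4, c6_5, dd6, c6_7, c6_8] at r6
  have r7 := row9 T σ 7
  rw [c7_0, c7_1, c7_2, c7_3, c7_4, c7_5, c7_6, dd7, c7_8] at r7
  have r8 := row9 T σ 8
  rw [c8_0, c8_1, c8_2, c8_3, c8_4, c8_5, c8_6, c8_7, dd8] at r8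
  have a0_1 : T.a (σ 0) (σ 1) = T.w (σ 0) * 0 := by rw [a_eq, c0_1]
  have a0_2 : T.a (σ 0) (σ 2) = T.w (σ 0) * 1 := by rw [a_eq, c0_2]
  have a0_3 : T.a (σ 0) (σ 3) = T.w (σ 0) * 0 := by rw [a_eq, c0_3]
  have a0_4 : T.a (σ 0) (σ 4) = T.w (σ 0) * 0 := by rw [a_eq, c0_4]
  have a0_5 : T.a (σ 0) (σ 5) = T.w (σ 0) * 0 := by rw [a_eq, c0_5]
  have a0_6 : T.a (σ 0) (σ 6) = T.w (σ 0) * 0 := by rw [a_eq, c0_6]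
  have a0_7 : T.a (σ 0) (σ 7) = T.w (σ 0) * 0 := by rw [a_eq, c0_7]
  have a0_8 : T.a (σ 0) (σ 8) = T.w (σ 0) * 0 := by rw [a_eq, c0_8]
  have a1_0 : T.a (σ 1) (σ 0) = T.w (σ 1) * 0 := by rw [a_eq, c1_0]
  have a1_2 : T.a (σ 1) (σ 2) = T.w (σ 1) * 1 := by rw [a_eq, c1_2]
  have a1_3 : T.a (σ 1) (σ 3) = T.w (σ 1) * 0 := by rw [a_eq, c1_3]
  have a1_4 : T.a (σ 1) (σ 4) = T.w (σ 1) * 0 := by rw [a_eq, c1_4]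
  have a1_5 : T.a (σ 1) (σ 5) = T.w (σ 1) * 0 := by rw [a_eq, c1_5]
  have a1_6 : T.a (σ 1) (σ 6) = T.w (σ 1) * 0 := by rw [a_eq, c1_6]
  have a1_7 : T.a (σ 1) (σ 7) = T.w (σ 1) * 0 := by rw [a_eq, c1_7]
  have a1_8 : T.a (σ 1) (σ 8) = T.w (σ 1) * 0 := by rw [a_eq, c1_8]
  have a2_0 : T.a (σ 2) (σ 0) = T.w (σ 2) * 1 := by rw [a_eq, c2_0]
  have a2_1 : T.a (σ 2) (σ 1) = T.w (σ 2) * 1 := by rw [a_eq, c2_1]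
  have a2_3 : T.a (σ 2) (σ 3) = T.w (σ 2) * 1 := by rw [a_eq, c2_3]
  have a2_4 : T.a (σ 2) (σ 4) = T.w (σ 2) * 0 := by rw [a_eq, c2_4]
  have a2_5 : T.a (σ 2) (σ 5) = T.w (σ 2) * 0 := by rw [a_eq, c2_5]
  have a2_6 : T.a (σ 2) (σ 6) = T.w (σ 2) * 0 := by rw [a_eq, c2_6]
  have a2_7 : T.a (σ 2) (σ 7) = T.w (σ 2) * 0 := by rw [a_eq, c2_7]
  have a2_8 : T.a (σ 2) (σ 8) = T.w (σ 2) * 0 := by rw [a_eq, c2_8]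
  have a3_0 : T.a (σ 3) (σ 0) = T.w (σ 3) * 0 := by rw [a_eq, c3_0]
  have a3_1 : T.a (σ 3) (σ 1) = T.w (σ 3) * 0 := by rw [a_eq, c3_1]
  have a3_2 : T.a (σ 3) (σ 2) = T.w (σ 3) * 1 := by rw [a_eq, c3_2]
  have a3_4 : T.a (σ 3) (σ 4) = T.w (σ 3) * 1 := by rw [a_eq, c3_4]
  have a3_5 : T.a (σ 3) (σ 5) = T.w (σ 3) * 0 := by rw [a_eq, c3_5]
  have a3_6 : T.a (σ 3) (σ 6) = T.w (σ 3) * 0 := by rw [a_eq, c3_6]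
  have a3_7 : T.a (σ 3) (σ 7) = T.w (σ 3) * 0 := by rw [a_eq, c3_7]
  have a3_8 : T.a (σ 3) (σ 8) = T.w (σ 3) * 0 := by rw [a_eq, c3_8]
  have a4_0 : T.a (σ 4) (σ 0) = T.w (σ 4) * 0 := by rw [a_eq, c4_0]
  have a4_1 : T.a (σ 4) (σ 1) = T.w (σ 4) * 0 := by rw [a_eq, c4_1]
  have a4_2 : T.a (σ 4) (σ 2) = T.w (σ 4) * 0 := by rw [a_eq, c4_2]
  have a4_3 : T.a (σ 4) (σ 3) = T.w (σ 4) * 1 := by rw [a_eq, c4_3]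
  have a4_5 : T.a (σ 4) (σ 5) = T.w (σ 4) * 1 := by rw [a_eq, c4_5]
  have a4_6 : T.a (σ 4) (σ 6) = T.w (σ 4) * 0 := by rw [a_eq, c4_6]
  have a4_7 : T.a (σ 4) (σ 7) = T.w (σ 4) * 0 := by rw [a_eq, c4_7]
  have a4_8 : T.a (σ 4) (σ 8) = T.w (σ 4) * 0 := by rw [a_eq, c4_8]
  have a5_0 : T.a (σ 5) (σ 0) = T.w (σ 5) * 0 := by rw [a_eq, c5_0]
  have a5_1 : T.a (σ 5) (σ 1) = T.w (σ 5) * 0 := by rw [a_eq, c5_1]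
  have a5_2 : T.a (σ 5) (σ 2) = T.w (σ 5) * 0 := by rw [a_eq, c5_2]
  have a5_3 : T.a (σ 5) (σ 3) = T.w (σ 5) * 0 := by rw [a_eq, c5_3]
  have a5_4 : T.a (σ 5) (σ 4) = T.w (σ 5) * 1 := by rw [a_eq, c5_4]
  have a5_6 : T.a (σ 5) (σ 6) = T.w (σ 5) * 1 := by rw [a_eq, c5_6]
  have a5_7 : T.a (σ 5) (σ 7) = T.w (σ 5) * 0 := by rw [a_eq, c5_7]
  have a5_8 : T.a (σ 5) (σ 8) = T.w (σ 5) * 0 := by rw [a_eq, c5_8]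
  have a6_0 : T.a (σ 6) (σ 0) = T.w (σ 6) * 0 := by rw [a_eq, c6_0]
  have a6_1 : T.a (σ 6) (σ 1) = T.w (σ 6) * 0 := by rw [a_eq, c6_1]
  have a6_2 : T.a (σ 6) (σ 2) = T.w (σ 6) * 0 := by rw [a_eq, c6_2]
  have a6_3 : T.a (σ 6) (σ 3) = T.w (σ 6) * 0 := by rw [a_eq, c6_3]
  have a6_4 : T.a (σ 6) (σ 4) = T.w (σ 6) * 0 := by rw [a_eq, c6_4]
  have a6_5 : T.a (σ 6) (σ 5) = T.w (σ 6) * 1 := by rw [a_eq, c6_5]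
  have a6_7 : T.a (σ 6) (σ 7) = T.w (σ 6) * 1 := by rw [a_eq, c6_7]
  have a6_8 : T.a (σ 6) (σ 8) = T.w (σ 6) * 1 := by rw [a_eq, c6_8]
  have a7_0 : T.a (σ 7) (σ 0) = T.w (σ 7) * 0 := by rw [a_eq, c7_0]
  have a7_1 : T.a (σ 7) (σ 1) = T.w (σ 7) * 0 := by rw [a_eq, c7_1]
  have a7_2 : T.a (σ 7) (σ 2) = T.w (σ 7) * 0 := by rw [a_eq, c7_2]
  have a7_3 : T.a (σ 7) (σ 3) = T.w (σ 7) * 0 := by rw [a_eq, c7_3]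
  have a7_4 : T.a (σ 7) (σ 4) = T.w (σ 7) * 0 := by rw [a_eq, c7_4]
  have a7_5 : T.a (σ 7) (σ 5) = T.w (σ 7) * 0 := by rw [a_eq, c7_5]
  have a7_6 : T.a (σ 7) (σ 6) = T.w (σ 7) * 1 := by rw [a_eq, c7_6]
  have a7_8 : T.a (σ 7) (σ 8) = T.w (σ 7) * 0 := by rw [a_eq, c7_8]
  have a8_0 : T.a (σ 8) (σ 0) = T.w (σ 8) * 0 := by rw [a_eq, c8_0]
  have a8_1 : T.a (σ 8) (σ 1) = T.w (σ 8) * 0 := by rw [a_eq, c8_1]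
  have a8_2 : T.a (σ 8) (σ 2) = T.w (σ 8) * 0 := by rw [a_eq, c8_2]
  have a8_3 : T.a (σ 8) (σ 3) = T.w (σ 8) * 0 := by rw [a_eq, c8_3]
  have a8_4 : T.a (σ 8) (σ 4) = T.w (σ 8) * 0 := by rw [a_eq, c8_4]
  have a8_5 : T.a (σ 8) (σ 5) = T.w (σ 8) * 0 := by rw [a_eq, c8_5]
  have a8_6 : T.a (σ 8) (σ 6) = T.w (σ 8) * 1 := by rw [a_eq, c8_6]
  have a8_7 : T.a (σ 8) (σ 7) = T.w (σ 8) * 0 := by rw [a_eq, c8_7]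
  have ad0 := hd (σ 0)
  have ad1 := hd (σ 1)
  have ad2 := hd (σ 2)
  have ad3 := hd (σ 3)
  have ad4 := hd (σ 4)
  have ad5 := hd (σ 5)
  have ad6 := hd (σ 6)
  have ad7 := hd (σ 7)
  have ad8 := hd (σ 8)
  have s0_1 := a_symm T (σ 0) (σ 1)
  have s0_2 := a_symm T (σ 0) (σ 2)
  have s0_3 := a_symm T (σ 0) (σ 3)
  have s0_4 := a_symm T (σ 0) (σ 4)
  have s0_5 := a_symm T (σ 0) (σ 5)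
  have s0_6 := a_symm T (σ 0) (σ 6)
  have s0_7 := a_symm T (σ 0) (σ 7)
  have s0_8 := a_symm T (σ 0) (σ 8)
  have s1_2 := a_symm T (σ 1) (σ 2)
  have s1_3 := a_symm T (σ 1) (σ 3)
  have s1_4 := a_symm T (σ 1) (σ 4)
  have s1_5 := a_symm T (σ 1) (σ 5)
  have s1_6 := a_symm T (σ 1) (σ 6)
  have s1_7 := a_symm T (σ 1) (σ 7)
  have s1_8 := a_symm T (σ 1) (σ 8)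
  have s2_3 := a_symm T (σ 2) (σ 3)
  have s2_4 := a_symm T (σ 2) (σ 4)
  have s2_5 := a_symm T (σ 2) (σ 5)
  have s2_6 := a_symm T (σ 2) (σ 6)
  have s2_7 := a_symm T (σ 2) (σ 7)
  have s2_8 := a_symm T (σ 2) (σ 8)
  have s3_4 := a_symm T (σ 3) (σ 4)
  have s3_5 := a_symm T (σ 3) (σ 5)
  have s3_6 := a_symm T (σ 3) (σ 6)
  have s3_7 := a_symm T (σ 3) (σ 7)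
  have s3_8 := a_symm T (σ 3) (σ 8)
  have s4_5 := a_symm T (σ 4) (σ 5)
  have s4_6 := a_symm T (σ 4) (σ 6)
  have s4_7 := a_symm T (σ 4) (σ 7)
  have s4_8 := a_symm T (σ 4) (σ 8)
  have s5_6 := a_symm T (σ 5) (σ 6)
  have s5_7 := a_symm T (σ 5) (σ 7)
  have s5_8 := a_symm T (σ 5) (σ 8)
  have s6_7 := a_symm T (σ 6) (σ 7)
  have s6_8 := a_symm T (σ 6) (σ 8)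
  have s7_8 := a_symm T (σ 7) (σ 8)
  clear c0_1 c0_2 c0_3 c0_4 c0_5 c0_6 c0_7 c0_8 c1_0 c1_2 c1_3 c1_4 c1_5 c1_6 c1_7 c1_8 c2_0 c2_1 c2_3 c2_4 c2_5 c2_6 c2_7 c2_8 c3_0 c3_1 c3_2 c3_4 c3_5 c3_6 c3_7 c3_8 c4_0 c4_1 c4_2 c4_3 c4_5 c4_6 c4_7 c4_8 c5_0 c5_1 c5_2 c5_3 c5_4 c5_6 c5_7 c5_8 c6_0 c6_1 c6_2 c6_3 c6_4 c6_5 c6_7 c6_8 c7_0 c7_1 c7_2 c7_3 c7_4 c7_5 c7_6 c7_8 c8_0 c8_1 c8_2 c8_3 c8_4 c8_5 c8_6 c8_7 dd0 dd1 dd2 dd3 dd4 dd5 dd6 dd7 dd8 hC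
  have hm0 : T.m (σ 0) = 1 * T.m (σ 0) := by omega
  have hm1 : T.m (σ 1) = 1 * T.m (σ 0) := by omega
  have hm2 : T.m (σ 2) = 2 * T.m (σ 0) := by omega
  have hm3 : T.m (σ 3) = 2 * T.m (σ 0) := by omega
  have hm4 : T.m (σ 4) = 2 * T.m (σ 0) := by omega
  have hm5 : T.m (σ 5) = 2 * T.m (σ 0) := by omega
  have hm6 : T.m (σ 6) = 2 * T.m (σ 0) := by omega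
  have hm7 : T.m (σ 7) = 1 * T.m (σ 0) := by omega
  have hm8 : T.m (σ 8) = 1 * T.m (σ 0) := by omega
  clear r0 r1 r2 r3 r4 r5 r6 r7 r8
  have hw0 : T.w (σ 0) = 1 * T.w (σ 0) := by omega
  have hw1 : T.w (σ 1) = 1 * T.w (σ 0) := by omega
  have hw2 : T.w (σ 2) = 1 * T.w (σ 0) := by omega
  have hw3 : T.w (σ 3) = 1 * T.w (σ 0) := by omega
  have hw4 : T.w (σ 4) = 1 * T.w (σ 0) := by omega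
  have hw5 : T.w (σ 5) = 1 * T.w (σ 0) := by omega
  have hw6 : T.w (σ 6) = 1 * T.w (σ 0) := by omega
  have hw7 : T.w (σ 7) = 1 * T.w (σ 0) := by omega
  have hw8 : T.w (σ 8) = 1 * T.w (σ 0) := by omega
  refine ⟨σ, T.m (σ 0), T.w (σ 0), ?_⟩
  refine Or.inr (Or.inr (Or.inr (Or.inr (Or.inr (Or.inr (Or.inl ?_))))))
  refine ⟨?_, ?_, ?_, ?_, ?_, ?_, ?_, ?_, ?_, ?_, ?_, ?_, ?_, ?_, ?_, ?_, ?_, ?_, ?_, ?_, ?_, ?_, ?_, ?_, ?_, ?_, ?_, ?_, ?_, ?_, ?_, ?_, ?_, ?_, ?_, ?_, ?_, ?_, ?_, ?_, ?_, ?_, ?_, ?_, ?_, ?_, ?_, ?_, ?_, ?_, ?_, ?_, ?_, ?_, ?_, ?_, ?_, ?_, ?_, ?_, ?_, ?_, ?_⟩ <;> omega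

theorem form9_7 (T : NumericalType 9) (hd : ∀ i, T.a i i = -2 * T.w i)
    (σ : Equiv.Perm (Fin 9))
    (hC : ∀ i j : Fin 9, i ≠ j → cc T (σ i) (σ j) = (E forms9 7 i j : ℤ)) :
    ∃ (σ : Equiv.Perm (Fin 9)) (m w : ℤ),
      ((T.m (σ 0) = m ∧ T.m (σ 1) = m ∧ T.m (σ 2) = m ∧ T.m (σ 3) = m ∧ T.m (σ 4) = m ∧ T.m (σ 5) = m ∧ T.m (σ 6) = m ∧ T.m (σ 7) = m ∧ T.m (σ 8) = m ∧ T.w (σ 0) = w ∧ T.w (σ 1) = w ∧ T.w (σ 2) = w ∧ T.w (σ 3) = w ∧ T.w (σ 4) = w ∧ T.w (σ 5) = w ∧ T.w (σ 6) = w ∧ T.w (σ 7) = w ∧ T.w (σ 8) = w ∧ T.a (σ 0) (σ 0) = -2 * w ∧ T.a (σ 0) (σ 1) = w ∧ T.a (σ 0) (σ 2) = 0 ∧ T.a (σ 0) (σ 3) = 0 ∧ T.a (σ 0) (σ 4) = 0 ∧ T.a (σ 0) (σ 5) = 0 ∧ T.a (σ 0) (σ 6) = 0 ∧ T.a (σ 0) (σ 7) = 0 ∧ T.a (σ 0)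 (σ 8) = w ∧ T.a (σ 1) (σ 1) = -2 * w ∧ T.a (σ 1) (σ 2) = w ∧ T.a (σ 1) (σ 3) = 0 ∧ T.a (σ 1) (σ 4) = 0 ∧ T.a (σ 1) (σ 5) = 0 ∧ T.a (σ 1) (σ 6) = 0 ∧ T.a (σ 1) (σ 7) = 0 ∧ T.a (σ 1) (σ 8) = 0 ∧ T.a (σ 2) (σ 2) = -2 * w ∧ T.a (σ 2) (σ 3) = w ∧ T.a (σ 2) (σ 4) = 0 ∧ T.a (σ 2) (σ 5) = 0 ∧ T.a (σ 2) (σ 6) = 0 ∧ T.a (σ 2) (σ 7) = 0 ∧ T.a (σ 2) (σ 8) = 0 ∧ T.a (σ 3) (σ 3) = -2 * w ∧ T.a (σ 3) (σ 4) = w ∧ T.a (σ 3) (σ 5) = 0 ∧ T.a (σ 3) (σ 6) = 0 ∧ T.a (σ 3) (σ 7) = 0 ∧ T.a (σ 3) (σ 8) = 0 ∧ T.a (σ 4) (σ 4) = -2 * w ∧ T.a (σ 4) (σ 5) = w ∧ T.a (σ 4) (σ 6) = 0 ∧ T.a (σ 4) (σ 7) = 0 ∧ T.a (σ 4) (σ 8) = 0 ∧ T.a (σ 5) (σ 5) = -2 * w ∧ T.a (σ 5) (σ 6) = w ∧ T.a (σ 5) (σ 7) = 0 ∧ T.a (σ 5) (σ 8) = 0 ∧ T.a (σ 6)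 (σ 6) = -2 * w ∧ T.a (σ 6) (σ 7) = w ∧ T.a (σ 6) (σ 8) = 0 ∧ T.a (σ 7) (σ 7) = -2 * w ∧ T.a (σ 7) (σ 8) = w ∧ T.a (σ 8) (σ 8) = -2 * w) ∨
      (T.m (σ 0) = 2 * m ∧ T.m (σ 1) = 2 * m ∧ T.m (σ 2) = 2 * m ∧ T.m (σ 3) = 2 * m ∧ T.m (σ 4) = 2 * m ∧ T.m (σ 5) = 2 * m ∧ T.m (σ 6) = 2 * m ∧ T.m (σ 7) = 2 * m ∧ T.m (σ 8) = m ∧ T.w (σ 0) = w ∧ T.w (σ 1) = 2 * w ∧ T.w (σ 2) = 2 * w ∧ T.w (σ 3) = 2 * w ∧ T.w (σ 4) = 2 * w ∧ T.w (σ 5) = 2 * w ∧ T.w (σ 6) = 2 * w ∧ T.w (σ 7) = 2 * w ∧ T.w (σ 8) = 4 * w ∧ T.a (σ 0) (σ 0) = -2 * w ∧ T.a (σ 0) (σ 1) = 2 * w ∧ T.a (σ 0) (σ 2) = 0 ∧ T.a (σ 0) (σ 3) = 0 ∧ T.a (σ 0) (σ 4) = 0 ∧ T.a (σ 0) (σ 5) = 0 ∧ T.a (σ 0) (σ 6) = 0 ∧ T.a (σ 0) (σ 7) = 0 ∧ T.a (σ 0) (σ 8) = 0 ∧ T.a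 (σ 1) (σ 1) = -4 * w ∧ T.a (σ 1) (σ 2) = 2 * w ∧ T.a (σ 1) (σ 3) = 0 ∧ T.a (σ 1) (σ 4) = 0 ∧ T.a (σ 1) (σ 5) = 0 ∧ T.a (σ 1) (σ 6) = 0 ∧ T.a (σ 1) (σ 7) = 0 ∧ T.a (σ 1) (σ 8) = 0 ∧ T.a (σ 2) (σ 2) = -4 * w ∧ T.a (σ 2) (σ 3) = 2 * w ∧ T.a (σ 2) (σ 4) = 0 ∧ T.a (σ 2) (σ 5) = 0 ∧ T.a (σ 2) (σ 6) = 0 ∧ T.a (σ 2) (σ 7) = 0 ∧ T.a (σ 2) (σ 8) = 0 ∧ T.a (σ 3) (σ 3) = -4 * w ∧ T.a (σ 3) (σ 4) = 2 * w ∧ T.a (σ 3) (σ 5) = 0 ∧ T.a (σ 3) (σ 6) = 0 ∧ T.a (σ 3) (σ 7) = 0 ∧ T.a (σ 3) (σ 8) = 0 ∧ T.a (σ 4) (σ 4) = -4 * w ∧ T.a (σ 4) (σ 5) = 2 * w ∧ T.a (σ 4) (σ 6) = 0 ∧ T.a (σ 4) (σ 7) = 0 ∧ T.a (σ 4) (σ 8) = 0 ∧ T.a (σ 5) (σ 5) = -4 * w ∧ T.a (σ 5) (σ 6) = 2 * w ∧ T.a (σ 5) (σ 7) = 0 ∧ T.a (σ 5) (σ 8) = 0 ∧ T.a (σ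 6) (σ 6) = -4 * w ∧ T.a (σ 6) (σ 7) = 2 * w ∧ T.a (σ 6) (σ 8) = 0 ∧ T.a (σ 7) (σ 7) = -4 * w ∧ T.a (σ 7) (σ 8) = 4 * w ∧ T.a (σ 8) (σ 8) = -8 * w) ∨
      (T.m (σ 0) = m ∧ T.m (σ 1) = m ∧ T.m (σ 2) = m ∧ T.m (σ 3) = m ∧ T.m (σ 4) = m ∧ T.m (σ 5) = m ∧ T.m (σ 6) = m ∧ T.m (σ 7) = m ∧ T.m (σ 8) = m ∧ T.w (σ 0) = w ∧ T.w (σ 1) = 2 * w ∧ T.w (σ 2) = 2 * w ∧ T.w (σ 3) = 2 * w ∧ T.w (σ 4) = 2 * w ∧ T.w (σ 5) = 2 * w ∧ T.w (σ 6) = 2 * w ∧ T.w (σ 7) = 2 * w ∧ T.w (σ 8) = w ∧ T.a (σ 0) (σ 0) = -2 * w ∧ T.a (σ 0) (σ 1) = 2 * w ∧ T.a (σ 0) (σ 2) = 0 ∧ T.a (σ 0) (σ 3) = 0 ∧ T.a (σ 0) (σ 4) = 0 ∧ T.a (σ 0) (σ 5) = 0 ∧ T.a (σ 0) (σ 6) = 0 ∧ T.a (σ 0) (σ 7) = 0 ∧ T.a (σ 0) (σ 8) = 0 ∧ T.a (σ 1) (σ 1) = -4 * w ∧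 T.a (σ 1) (σ 2) = 2 * w ∧ T.a (σ 1) (σ 3) = 0 ∧ T.a (σ 1) (σ 4) = 0 ∧ T.a (σ 1) (σ 5) = 0 ∧ T.a (σ 1) (σ 6) = 0 ∧ T.a (σ 1) (σ 7) = 0 ∧ T.a (σ 1) (σ 8) = 0 ∧ T.a (σ 2) (σ 2) = -4 * w ∧ T.a (σ 2) (σ 3) = 2 * w ∧ T.a (σ 2) (σ 4) = 0 ∧ T.a (σ 2) (σ 5) = 0 ∧ T.a (σ 2) (σ 6) = 0 ∧ T.a (σ 2) (σ 7) = 0 ∧ T.a (σ 2) (σ 8) = 0 ∧ T.a (σ 3) (σ 3) = -4 * w ∧ T.a (σ 3) (σ 4) = 2 * w ∧ T.a (σ 3) (σ 5) = 0 ∧ T.a (σ 3) (σ 6) = 0 ∧ T.a (σ 3) (σ 7) = 0 ∧ T.a (σ 3) (σ 8) = 0 ∧ T.a (σ 4) (σ 4) = -4 * w ∧ T.a (σ 4) (σ 5) = 2 * w ∧ T.a (σ 4) (σ 6) = 0 ∧ T.a (σ 4) (σ 7) = 0 ∧ T.a (σ 4) (σ 8) = 0 ∧ T.a (σ 5) (σ 5) = -4 * w ∧ T.a (σ 5) (σ 6) = 2 * w ∧ T.a (σ 5) (σ 7) = 0 ∧ T.a (σ 5) (σ 8) = 0 ∧ T.a (σ 6) (σ 6) = -4 * w ∧ T.a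 (σ 6) (σ 7) = 2 * w ∧ T.a (σ 6) (σ 8) = 0 ∧ T.a (σ 7) (σ 7) = -4 * w ∧ T.a (σ 7) (σ 8) = 2 * w ∧ T.a (σ 8) (σ 8) = -2 * w) ∨
      (T.m (σ 0) = m ∧ T.m (σ 1) = 2 * m ∧ T.m (σ 2) = 2 * m ∧ T.m (σ 3) = 2 * m ∧ T.m (σ 4) = 2 * m ∧ T.m (σ 5) = 2 * m ∧ T.m (σ 6) = 2 * m ∧ T.m (σ 7) = 2 * m ∧ T.m (σ 8) = m ∧ T.w (σ 0) = 2 * w ∧ T.w (σ 1) = w ∧ T.w (σ 2) = w ∧ T.w (σ 3) = w ∧ T.w (σ 4) = w ∧ T.w (σ 5) = w ∧ T.w (σ 6) = w ∧ T.w (σ 7) = w ∧ T.w (σ 8) = 2 * w ∧ T.a (σ 0) (σ 0) = -4 * w ∧ T.a (σ 0) (σ 1) = 2 * w ∧ T.a (σ 0) (σ 2) = 0 ∧ T.a (σ 0) (σ 3) = 0 ∧ T.a (σ 0) (σ 4) = 0 ∧ T.a (σ 0) (σ 5) = 0 ∧ T.a (σ 0) (σ 6) = 0 ∧ T.a (σ 0) (σ 7) = 0 ∧ T.a (σ 0) (σ 8) = 0 ∧ T.a (σ 1) (σ 1) = -2 * w ∧ T.a (σ 1) (σ 2)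 = w ∧ T.a (σ 1) (σ 3) = 0 ∧ T.a (σ 1) (σ 4) = 0 ∧ T.a (σ 1) (σ 5) = 0 ∧ T.a (σ 1) (σ 6) = 0 ∧ T.a (σ 1) (σ 7) = 0 ∧ T.a (σ 1) (σ 8) = 0 ∧ T.a (σ 2) (σ 2) = -2 * w ∧ T.a (σ 2) (σ 3) = w ∧ T.a (σ 2) (σ 4) = 0 ∧ T.a (σ 2) (σ 5) = 0 ∧ T.a (σ 2) (σ 6) = 0 ∧ T.a (σ 2) (σ 7) = 0 ∧ T.a (σ 2) (σ 8) = 0 ∧ T.a (σ 3) (σ 3) = -2 * w ∧ T.a (σ 3) (σ 4) = w ∧ T.a (σ 3) (σ 5) = 0 ∧ T.a (σ 3) (σ 6) = 0 ∧ T.a (σ 3) (σ 7) = 0 ∧ T.a (σ 3) (σ 8) = 0 ∧ T.a (σ 4) (σ 4) = -2 * w ∧ T.a (σ 4) (σ 5) = w ∧ T.a (σ 4) (σ 6) = 0 ∧ T.a (σ 4) (σ 7) = 0 ∧ T.a (σ 4) (σ 8) = 0 ∧ T.a (σ 5) (σ 5) = -2 * w ∧ T.a (σ 5) (σ 6) = w ∧ T.a (σ 5) (σ 7) = 0 ∧ T.a (σ 5) (σ 8) = 0 ∧ T.a (σ 6) (σ 6) = -2 * w ∧ T.a (σ 6) (σ 7) = w ∧ T.a (σ 6) (σ 8)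 = 0 ∧ T.a (σ 7) (σ 7) = -2 * w ∧ T.a (σ 7) (σ 8) = 2 * w ∧ T.a (σ 8) (σ 8) = -4 * w) ∨
      (T.m (σ 0) = m ∧ T.m (σ 1) = 2 * m ∧ T.m (σ 2) = 2 * m ∧ T.m (σ 3) = 2 * m ∧ T.m (σ 4) = 2 * m ∧ T.m (σ 5) = 2 * m ∧ T.m (σ 6) = 2 * m ∧ T.m (σ 7) = m ∧ T.m (σ 8) = m ∧ T.w (σ 0) = 2 * w ∧ T.w (σ 1) = w ∧ T.w (σ 2) = w ∧ T.w (σ 3) = w ∧ T.w (σ 4) = w ∧ T.w (σ 5) = w ∧ T.w (σ 6) = w ∧ T.w (σ 7) = w ∧ T.w (σ 8) = w ∧ T.a (σ 0) (σ 0) = -4 * w ∧ T.a (σ 0) (σ 1) = 2 * w ∧ T.a (σ 0) (σ 2) = 0 ∧ T.a (σ 0) (σ 3) = 0 ∧ T.a (σ 0) (σ 4) = 0 ∧ T.a (σ 0) (σ 5) = 0 ∧ T.a (σ 0) (σ 6) = 0 ∧ T.a (σ 0) (σ 7) = 0 ∧ T.a (σ 0) (σ 8) = 0 ∧ T.a (σ 1) (σ 1) = -2 * w ∧ T.a (σ 1) (σ 2) = w ∧ T.a (σ 1) (σ 3) = 0 ∧ T.a (σ 1) (σ 4) =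 0 ∧ T.a (σ 1) (σ 5) = 0 ∧ T.a (σ 1) (σ 6) = 0 ∧ T.a (σ 1) (σ 7) = 0 ∧ T.a (σ 1) (σ 8) = 0 ∧ T.a (σ 2) (σ 2) = -2 * w ∧ T.a (σ 2) (σ 3) = w ∧ T.a (σ 2) (σ 4) = 0 ∧ T.a (σ 2) (σ 5) = 0 ∧ T.a (σ 2) (σ 6) = 0 ∧ T.a (σ 2) (σ 7) = 0 ∧ T.a (σ 2) (σ 8) = 0 ∧ T.a (σ 3) (σ 3) = -2 * w ∧ T.a (σ 3) (σ 4) = w ∧ T.a (σ 3) (σ 5) = 0 ∧ T.a (σ 3) (σ 6) = 0 ∧ T.a (σ 3) (σ 7) = 0 ∧ T.a (σ 3) (σ 8) = 0 ∧ T.a (σ 4) (σ 4) = -2 * w ∧ T.a (σ 4) (σ 5) = w ∧ T.a (σ 4) (σ 6) = 0 ∧ T.a (σ 4) (σ 7) = 0 ∧ T.a (σ 4) (σ 8) = 0 ∧ T.a (σ 5) (σ 5) = -2 * w ∧ T.a (σ 5) (σ 6) = w ∧ T.a (σ 5) (σ 7) = 0 ∧ T.a (σ 5) (σ 8) = 0 ∧ T.a (σ 6) (σ 6) = -2 * w ∧ T.a (σ 6) (σ 7) = w ∧ T.a (σ 6) (σ 8) = w ∧ T.a (σ 7) (σ 7) = -2 * w ∧ T.a (σ 7) (σ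 8) = 0 ∧ T.a (σ 8) (σ 8) = -2 * w) ∨
      (T.m (σ 0) = 2 * m ∧ T.m (σ 1) = 2 * m ∧ T.m (σ 2) = 2 * m ∧ T.m (σ 3) = 2 * m ∧ T.m (σ 4) = 2 * m ∧ T.m (σ 5) = 2 * m ∧ T.m (σ 6) = 2 * m ∧ T.m (σ 7) = m ∧ T.m (σ 8) = m ∧ T.w (σ 0) = w ∧ T.w (σ 1) = 2 * w ∧ T.w (σ 2) = 2 * w ∧ T.w (σ 3) = 2 * w ∧ T.w (σ 4) = 2 * w ∧ T.w (σ 5) = 2 * w ∧ T.w (σ 6) = 2 * w ∧ T.w (σ 7) = 2 * w ∧ T.w (σ 8) = 2 * w ∧ T.a (σ 0) (σ 0) = -2 * w ∧ T.a (σ 0) (σ 1) = 2 * w ∧ T.a (σ 0) (σ 2) = 0 ∧ T.a (σ 0) (σ 3) = 0 ∧ T.a (σ 0) (σ 4) = 0 ∧ T.a (σ 0) (σ 5) = 0 ∧ T.a (σ 0) (σ 6) = 0 ∧ T.a (σ 0) (σ 7) = 0 ∧ T.a (σ 0) (σ 8) = 0 ∧ T.a (σ 1) (σ 1) = -4 * w ∧ T.a (σ 1) (σ 2) = 2 * w ∧ T.a (σ 1) (σ 3) = 0 ∧ T.a (σ 1) (σ 4) = 0 ∧ T.a (σ 1)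 (σ 5) = 0 ∧ T.a (σ 1) (σ 6) = 0 ∧ T.a (σ 1) (σ 7) = 0 ∧ T.a (σ 1) (σ 8) = 0 ∧ T.a (σ 2) (σ 2) = -4 * w ∧ T.a (σ 2) (σ 3) = 2 * w ∧ T.a (σ 2) (σ 4) = 0 ∧ T.a (σ 2) (σ 5) = 0 ∧ T.a (σ 2) (σ 6) = 0 ∧ T.a (σ 2) (σ 7) = 0 ∧ T.a (σ 2) (σ 8) = 0 ∧ T.a (σ 3) (σ 3) = -4 * w ∧ T.a (σ 3) (σ 4) = 2 * w ∧ T.a (σ 3) (σ 5) = 0 ∧ T.a (σ 3) (σ 6) = 0 ∧ T.a (σ 3) (σ 7) = 0 ∧ T.a (σ 3) (σ 8) = 0 ∧ T.a (σ 4) (σ 4) = -4 * w ∧ T.a (σ 4) (σ 5) = 2 * w ∧ T.a (σ 4) (σ 6) = 0 ∧ T.a (σ 4) (σ 7) = 0 ∧ T.a (σ 4) (σ 8) = 0 ∧ T.a (σ 5) (σ 5) = -4 * w ∧ T.a (σ 5) (σ 6) = 2 * w ∧ T.a (σ 5) (σ 7) = 0 ∧ T.a (σ 5) (σ 8) = 0 ∧ T.a (σ 6) (σ 6) = -4 * w ∧ T.a (σ 6) (σ 7) = 2 * w ∧ T.a (σ 6) (σ 8) = 2 * w ∧ T.a (σ 7) (σ 7) = -4 * w ∧ T.a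 (σ 7) (σ 8) = 0 ∧ T.a (σ 8) (σ 8) = -4 * w) ∨
      (T.m (σ 0) = m ∧ T.m (σ 1) = m ∧ T.m (σ 2) = 2 * m ∧ T.m (σ 3) = 2 * m ∧ T.m (σ 4) = 2 * m ∧ T.m (σ 5) = 2 * m ∧ T.m (σ 6) = 2 * m ∧ T.m (σ 7) = m ∧ T.m (σ 8) = m ∧ T.w (σ 0) = w ∧ T.w (σ 1) = w ∧ T.w (σ 2) = w ∧ T.w (σ 3) = w ∧ T.w (σ 4) = w ∧ T.w (σ 5) = w ∧ T.w (σ 6) = w ∧ T.w (σ 7) = w ∧ T.w (σ 8) = w ∧ T.a (σ 0) (σ 0) = -2 * w ∧ T.a (σ 0) (σ 1) = 0 ∧ T.a (σ 0) (σ 2) = w ∧ T.a (σ 0) (σ 3) = 0 ∧ T.a (σ 0) (σ 4) = 0 ∧ T.a (σ 0) (σ 5) = 0 ∧ T.a (σ 0) (σ 6) = 0 ∧ T.a (σ 0) (σ 7) = 0 ∧ T.a (σ 0) (σ 8) = 0 ∧ T.a (σ 1) (σ 1) = -2 * w ∧ T.a (σ 1) (σ 2) = w ∧ T.a (σ 1) (σ 3) = 0 ∧ T.a (σ 1) (σ 4) = 0 ∧ T.a (σ 1) (σ 5) = 0 ∧ T.a (σ 1) (σ 6) = 0 ∧ T.a (σ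 1) (σ 7) = 0 ∧ T.a (σ 1) (σ 8) = 0 ∧ T.a (σ 2) (σ 2) = -2 * w ∧ T.a (σ 2) (σ 3) = w ∧ T.a (σ 2) (σ 4) = 0 ∧ T.a (σ 2) (σ 5) = 0 ∧ T.a (σ 2) (σ 6) = 0 ∧ T.a (σ 2) (σ 7) = 0 ∧ T.a (σ 2) (σ 8) = 0 ∧ T.a (σ 3) (σ 3) = -2 * w ∧ T.a (σ 3) (σ 4) = w ∧ T.a (σ 3) (σ 5) = 0 ∧ T.a (σ 3) (σ 6) = 0 ∧ T.a (σ 3) (σ 7) = 0 ∧ T.a (σ 3) (σ 8) = 0 ∧ T.a (σ 4) (σ 4) = -2 * w ∧ T.a (σ 4) (σ 5) = w ∧ T.a (σ 4) (σ 6) = 0 ∧ T.a (σ 4) (σ 7) = 0 ∧ T.a (σ 4) (σ 8) = 0 ∧ T.a (σ 5) (σ 5) = -2 * w ∧ T.a (σ 5) (σ 6) = w ∧ T.a (σ 5) (σ 7) = 0 ∧ T.a (σ 5) (σ 8) = 0 ∧ T.a (σ 6) (σ 6) = -2 * w ∧ T.a (σ 6) (σ 7) = w ∧ T.a (σ 6) (σ 8) = w ∧ T.a (σ 7) (σ 7) = -2 * w ∧ T.a (σ 7) (σ 8) = 0 ∧ T.a (σ 8) (σ 8) = -2 * w) ∨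
      (T.m (σ 0) = m ∧ T.m (σ 1) = 2 * m ∧ T.m (σ 2) = 3 * m ∧ T.m (σ 3) = 4 * m ∧ T.m (σ 4) = 5 * m ∧ T.m (σ 5) = 6 * m ∧ T.m (σ 6) = 4 * m ∧ T.m (σ 7) = 2 * m ∧ T.m (σ 8) = 3 * m ∧ T.w (σ 0) = w ∧ T.w (σ 1) = w ∧ T.w (σ 2) = w ∧ T.w (σ 3) = w ∧ T.w (σ 4) = w ∧ T.w (σ 5) = w ∧ T.w (σ 6) = w ∧ T.w (σ 7) = w ∧ T.w (σ 8) = w ∧ T.a (σ 0) (σ 0) = -2 * w ∧ T.a (σ 0) (σ 1) = w ∧ T.a (σ 0) (σ 2) = 0 ∧ T.a (σ 0) (σ 3) = 0 ∧ T.a (σ 0) (σ 4) = 0 ∧ T.a (σ 0) (σ 5) = 0 ∧ T.a (σ 0) (σ 6) = 0 ∧ T.a (σ 0) (σ 7) = 0 ∧ T.a (σ 0) (σ 8) = 0 ∧ T.a (σ 1) (σ 1) = -2 * w ∧ T.a (σ 1) (σ 2) = w ∧ T.a (σ 1) (σ 3) = 0 ∧ T.a (σ 1) (σ 4) = 0 ∧ T.a (σ 1) (σ 5) = 0 ∧ T.a (σ 1) (σ 6) = 0 ∧ T.a (σ 1) (σ 7) = 0 ∧ T.a (σ 1) (σ 8) =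 0 ∧ T.a (σ 2) (σ 2) = -2 * w ∧ T.a (σ 2) (σ 3) = w ∧ T.a (σ 2) (σ 4) = 0 ∧ T.a (σ 2) (σ 5) = 0 ∧ T.a (σ 2) (σ 6) = 0 ∧ T.a (σ 2) (σ 7) = 0 ∧ T.a (σ 2) (σ 8) = 0 ∧ T.a (σ 3) (σ 3) = -2 * w ∧ T.a (σ 3) (σ 4) = w ∧ T.a (σ 3) (σ 5) = 0 ∧ T.a (σ 3) (σ 6) = 0 ∧ T.a (σ 3) (σ 7) = 0 ∧ T.a (σ 3) (σ 8) = 0 ∧ T.a (σ 4) (σ 4) = -2 * w ∧ T.a (σ 4) (σ 5) = w ∧ T.a (σ 4) (σ 6) = 0 ∧ T.a (σ 4) (σ 7) = 0 ∧ T.a (σ 4) (σ 8) = 0 ∧ T.a (σ 5) (σ 5) = -2 * w ∧ T.a (σ 5) (σ 6) = w ∧ T.a (σ 5) (σ 7) = 0 ∧ T.a (σ 5) (σ 8) = w ∧ T.a (σ 6) (σ 6) = -2 * w ∧ T.a (σ 6) (σ 7) = w ∧ T.a (σ 6) (σ 8) = 0 ∧ T.a (σ 7) (σ 7) = -2 * w ∧ T.a (σ 7) (σ 8) = 0 ∧ T.a (σ 8) (σ 8) = -2 * w)) := by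
  have c0_1 : cc T (σ 0) (σ 1) = 1 := by rw [hC 0 1 (by decide)]; rfl
  have c0_2 : cc T (σ 0) (σ 2) = 0 := by rw [hC 0 2 (by decide)]; rfl
  have c0_3 : cc T (σ 0) (σ 3) = 0 := by rw [hC 0 3 (by decide)]; rfl
  have c0_4 : cc T (σ 0) (σ 4) = 0 := by rw [hC 0 4 (by decide)]; rfl
  have c0_5 : cc T (σ 0) (σ 5) = 0 := by rw [hC 0 5 (by decide)]; rfl
  have c0_6 : cc T (σ 0) (σ 6) = 0 := by rw [hC 0 6 (by decide)]; rfl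
  have c0_7 : cc T (σ 0) (σ 7) = 0 := by rw [hC 0 7 (by decide)]; rfl
  have c0_8 : cc T (σ 0) (σ 8) = 0 := by rw [hC 0 8 (by decide)]; rfl
  have c1_0 : cc T (σ 1) (σ 0) = 1 := by rw [hC 1 0 (by decide)]; rfl
  have c1_2 : cc T (σ 1) (σ 2) = 1 := by rw [hC 1 2 (by decide)]; rfl
  have c1_3 : cc T (σ 1) (σ 3) = 0 := by rw [hC 1 3 (by decide)]; rfl
  have c1_4 : cc T (σ 1) (σ 4) = 0 := by rw [hC 1 4 (by decide)]; rfl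
  have c1_5 : cc T (σ 1) (σ 5) = 0 := by rw [hC 1 5 (by decide)]; rfl
  have c1_6 : cc T (σ 1) (σ 6) = 0 := by rw [hC 1 6 (by decide)]; rfl
  have c1_7 : cc T (σ 1) (σ 7) = 0 := by rw [hC 1 7 (by decide)]; rfl
  have c1_8 : cc T (σ 1) (σ 8) = 0 := by rw [hC 1 8 (by decide)]; rfl
  have c2_0 : cc T (σ 2) (σ 0) = 0 := by rw [hC 2 0 (by decide)]; rfl
  have c2_1 : cc T (σ 2) (σ 1) = 1 := by rw [hC 2 1 (by decide)]; rfl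
  have c2_3 : cc T (σ 2) (σ 3) = 1 := by rw [hC 2 3 (by decide)]; rfl
  have c2_4 : cc T (σ 2) (σ 4) = 0 := by rw [hC 2 4 (by decide)]; rfl
  have c2_5 : cc T (σ 2) (σ 5) = 0 := by rw [hC 2 5 (by decide)]; rfl
  have c2_6 : cc T (σ 2) (σ 6) = 0 := by rw [hC 2 6 (by decide)]; rfl
  have c2_7 : cc T (σ 2) (σ 7) = 0 := by rw [hC 2 7 (by decide)]; rfl
  have c2_8 : cc T (σ 2) (σ 8) = 0 := by rw [hC 2 8 (by decide)]; rfl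
  have c3_0 : cc T (σ 3) (σ 0) = 0 := by rw [hC 3 0 (by decide)]; rfl
  have c3_1 : cc T (σ 3) (σ 1) = 0 := by rw [hC 3 1 (by decide)]; rfl
  have c3_2 : cc T (σ 3) (σ 2) = 1 := by rw [hC 3 2 (by decide)]; rfl
  have c3_4 : cc T (σ 3) (σ 4) = 1 := by rw [hC 3 4 (by decide)]; rfl
  have c3_5 : cc T (σ 3) (σ 5) = 0 := by rw [hC 3 5 (by decide)]; rfl
  have c3_6 : cc T (σ 3) (σ 6) = 0 := by rw [hC 3 6 (by decide)]; rfl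
  have c3_7 : cc T (σ 3) (σ 7) = 0 := by rw [hC 3 7 (by decide)]; rfl
  have c3_8 : cc T (σ 3) (σ 8) = 0 := by rw [hC 3 8 (by decide)]; rfl
  have c4_0 : cc T (σ 4) (σ 0) = 0 := by rw [hC 4 0 (by decide)]; rfl
  have c4_1 : cc T (σ 4) (σ 1) = 0 := by rw [hC 4 1 (by decide)]; rfl
  have c4_2 : cc T (σ 4) (σ 2) = 0 := by rw [hC 4 2 (by decide)]; rfl
  have c4_3 : cc T (σ 4) (σ 3) = 1 := by rw [hC 4 3 (by decide)]; rfl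
  have c4_5 : cc T (σ 4) (σ 5) = 1 := by rw [hC 4 5 (by decide)]; rfl
  have c4_6 : cc T (σ 4) (σ 6) = 0 := by rw [hC 4 6 (by decide)]; rfl
  have c4_7 : cc T (σ 4) (σ 7) = 0 := by rw [hC 4 7 (by decide)]; rfl
  have c4_8 : cc T (σ 4) (σ 8) = 0 := by rw [hC 4 8 (by decide)]; rfl
  have c5_0 : cc T (σ 5) (σ 0) = 0 := by rw [hC 5 0 (by decide)]; rfl
  have c5_1 : cc T (σ 5) (σ 1) = 0 := by rw [hC 5 1 (by decide)]; rfl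
  have c5_2 : cc T (σ 5) (σ 2) = 0 := by rw [hC 5 2 (by decide)]; rfl
  have c5_3 : cc T (σ 5) (σ 3) = 0 := by rw [hC 5 3 (by decide)]; rfl
  have c5_4 : cc T (σ 5) (σ 4) = 1 := by rw [hC 5 4 (by decide)]; rfl
  have c5_6 : cc T (σ 5) (σ 6) = 1 := by rw [hC 5 6 (by decide)]; rfl
  have c5_7 : cc T (σ 5) (σ 7) = 0 := by rw [hC 5 7 (by decide)]; rfl
  have c5_8 : cc T (σ 5) (σ 8) = 1 := by rw [hC 5 8 (by decide)]; rfl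
  have c6_0 : cc T (σ 6) (σ 0) = 0 := by rw [hC 6 0 (by decide)]; rfl
  have c6_1 : cc T (σ 6) (σ 1) = 0 := by rw [hC 6 1 (by decide)]; rfl
  have c6_2 : cc T (σ 6) (σ 2) = 0 := by rw [hC 6 2 (by decide)]; rfl
  have c6_3 : cc T (σ 6) (σ 3) = 0 := by rw [hC 6 3 (by decide)]; rfl
  have c6_4 : cc T (σ 6) (σ 4) = 0 := by rw [hC 6 4 (by decide)]; rfl
  have c6_5 : cc T (σ 6) (σ 5) = 1 := by rw [hC 6 5 (by decide)]; rfl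
  have c6_7 : cc T (σ 6) (σ 7) = 1 := by rw [hC 6 7 (by decide)]; rfl
  have c6_8 : cc T (σ 6) (σ 8) = 0 := by rw [hC 6 8 (by decide)]; rfl
  have c7_0 : cc T (σ 7) (σ 0) = 0 := by rw [hC 7 0 (by decide)]; rfl
  have c7_1 : cc T (σ 7) (σ 1) = 0 := by rw [hC 7 1 (by decide)]; rfl
  have c7_2 : cc T (σ 7) (σ 2) = 0 := by rw [hC 7 2 (by decide)]; rfl
  have c7_3 : cc T (σ 7) (σ 3) = 0 := by rw [hC 7 3 (by decide)]; rfl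
  have c7_4 : cc T (σ 7) (σ 4) = 0 := by rw [hC 7 4 (by decide)]; rfl
  have c7_5 : cc T (σ 7) (σ 5) = 0 := by rw [hC 7 5 (by decide)]; rfl
  have c7_6 : cc T (σ 7) (σ 6) = 1 := by rw [hC 7 6 (by decide)]; rfl
  have c7_8 : cc T (σ 7) (σ 8) = 0 := by rw [hC 7 8 (by decide)]; rfl
  have c8_0 : cc T (σ 8) (σ 0) = 0 := by rw [hC 8 0 (by decide)]; rfl
  have c8_1 : cc T (σ 8) (σ 1) = 0 := by rw [hC 8 1 (by decide)]; rfl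
  have c8_2 : cc T (σ 8) (σ 2) = 0 := by rw [hC 8 2 (by decide)]; rfl
  have c8_3 : cc T (σ 8) (σ 3) = 0 := by rw [hC 8 3 (by decide)]; rfl
  have c8_4 : cc T (σ 8) (σ 4) = 0 := by rw [hC 8 4 (by decide)]; rfl
  have c8_5 : cc T (σ 8) (σ 5) = 1 := by rw [hC 8 5 (by decide)]; rfl
  have c8_6 : cc T (σ 8) (σ 6) = 0 := by rw [hC 8 6 (by decide)]; rfl
  have c8_7 : cc T (σ 8) (σ 7) = 0 := by rw [hC 8 7 (by decide)]; rfl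
  have dd0 := cc_diag T hd (σ 0)
  have dd1 := cc_diag T hd (σ 1)
  have dd2 := cc_diag T hd (σ 2)
  have dd3 := cc_diag T hd (σ 3)
  have dd4 := cc_diag T hd (σ 4)
  have dd5 := cc_diag T hd (σ 5)
  have dd6 := cc_diag T hd (σ 6)
  have dd7 := cc_diag T hd (σ 7)
  have dd8 := cc_diag T hd (σ 8)
  have r0 := row9 T σ 0
  rw [dd0, c0_1, c0_2, c0_3, c0_4, c0_5, c0_6, c0_7, c0_8] at r0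
  have r1 := row9 T σ 1
  rw [c1_0, dd1, c1_2, c1_3, c1_4, c1_5, c1_6, c1_7, c1_8] at r1
  have r2 := row9 T σ 2
  rw [c2_0, c2_1, dd2, c2_3, c2_4, c2_5, c2_6, c2_7, c2_8] at r2
  have r3 := row9 T σ 3
  rw [c3_0, c3_1, c3_2, dd3, c3_4, c3_5, c3_6, c3_7, c3_8] at r3
  have r4 := row9 T σ 4
  rw [c4_0, c4_1, c4_2, c4_3, dd4, c4_5, c4_6, c4_7, c4_8] at r4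
  have r5 := row9 T σ 5
  rw [c5_0, c5_1, c5_2, c5_3, c5_4, dd5, c5_6, c5_7, c5_8] at r5
  have r6 := row9 T σ 6
  rw [c6_0, c6_1, c6_2, c6_3, c6_4, c6_5, dd6, c6_7, c6_8] at r6
  have r7 := row9 T σ 7
  rw [c7_0, c7_1, c7_2, c7_3, c7_4, c7_5, c7_6, dd7, c7_8] at r7
  have r8 := row9 T σ 8
  rw [c8_0, c8_1, c8_2, c8_3, c8_4, c8_5, c8_6, c8_7, dd8] at r8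
  have a0_1 : T.a (σ 0) (σ 1) = T.w (σ 0) * 1 := by rw [a_eq, c0_1]
  have a0_2 : T.a (σ 0) (σ 2) = T.w (σ 0) * 0 := by rw [a_eq, c0_2]
  have a0_3 : T.a (σ 0) (σ 3) = T.w (σ 0) * 0 := by rw [a_eq, c0_3]
  have a0_4 : T.a (σ 0) (σ 4) = T.w (σ 0) * 0 := by rw [a_eq, c0_4]
  have a0_5 : T.a (σ 0) (σ 5) = T.w (σ 0) * 0 := by rw [a_eq, c0_5]
  have a0_6 : T.a (σ 0) (σ 6) = T.w (σ 0) * 0 := by rw [a_eq, c0_6]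
  have a0_7 : T.a (σ 0) (σ 7) = T.w (σ 0) * 0 := by rw [a_eq, c0_7]
  have a0_8 : T.a (σ 0) (σ 8) = T.w (σ 0) * 0 := by rw [a_eq, c0_8]
  have a1_0 : T.a (σ 1) (σ 0) = T.w (σ 1) * 1 := by rw [a_eq, c1_0]
  have a1_2 : T.a (σ 1) (σ 2) = T.w (σ 1) * 1 := by rw [a_eq, c1_2]
  have a1_3 : T.a (σ 1) (σ 3) = T.w (σ 1) * 0 := by rw [a_eq, c1_3]
  have a1_4 : T.a (σ 1) (σ 4) = T.w (σ 1) * 0 := by rw [a_eq, c1_4]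
  have a1_5 : T.a (σ 1) (σ 5) = T.w (σ 1) * 0 := by rw [a_eq, c1_5]
  have a1_6 : T.a (σ 1) (σ 6) = T.w (σ 1) * 0 := by rw [a_eq, c1_6]
  have a1_7 : T.a (σ 1) (σ 7) = T.w (σ 1) * 0 := by rw [a_eq, c1_7]
  have a1_8 : T.a (σ 1) (σ 8) = T.w (σ 1) * 0 := by rw [a_eq, c1_8]
  have a2_0 : T.a (σ 2) (σ 0) = T.w (σ 2) * 0 := by rw [a_eq, c2_0]
  have a2_1 : T.a (σ 2) (σ 1) = T.w (σ 2) * 1 := by rw [a_eq, c2_1]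
  have a2_3 : T.a (σ 2) (σ 3) = T.w (σ 2) * 1 := by rw [a_eq, c2_3]
  have a2_4 : T.a (σ 2) (σ 4) = T.w (σ 2) * 0 := by rw [a_eq, c2_4]
  have a2_5 : T.a (σ 2) (σ 5) = T.w (σ 2) * 0 := by rw [a_eq, c2_5]
  have a2_6 : T.a (σ 2) (σ 6) = T.w (σ 2) * 0 := by rw [a_eq, c2_6]
  have a2_7 : T.a (σ 2) (σ 7) = T.w (σ 2) * 0 := by rw [a_eq, c2_7]
  have a2_8 : T.a (σ 2) (σ 8) = T.w (σ 2) * 0 := by rw [a_eq, c2_8]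
  have a3_0 : T.a (σ 3) (σ 0) = T.w (σ 3) * 0 := by rw [a_eq, c3_0]
  have a3_1 : T.a (σ 3) (σ 1) = T.w (σ 3) * 0 := by rw [a_eq, c3_1]
  have a3_2 : T.a (σ 3) (σ 2) = T.w (σ 3) * 1 := by rw [a_eq, c3_2]
  have a3_4 : T.a (σ 3) (σ 4) = T.w (σ 3) * 1 := by rw [a_eq, c3_4]
  have a3_5 : T.a (σ 3) (σ 5) = T.w (σ 3) * 0 := by rw [a_eq, c3_5]
  have a3_6 : T.a (σ 3) (σ 6) = T.w (σ 3) * 0 := by rw [a_eq, c3_6]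
  have a3_7 : T.a (σ 3) (σ 7) = T.w (σ 3) * 0 := by rw [a_eq, c3_7]
  have a3_8 : T.a (σ 3) (σ 8) = T.w (σ 3) * 0 := by rw [a_eq, c3_8]
  have a4_0 : T.a (σ 4) (σ 0) = T.w (σ 4) * 0 := by rw [a_eq, c4_0]
  have a4_1 : T.a (σ 4) (σ 1) = T.w (σ 4) * 0 := by rw [a_eq, c4_1]
  have a4_2 : T.a (σ 4) (σ 2) = T.w (σ 4) * 0 := by rw [a_eq, c4_2]
  have a4_3 : T.a (σ 4) (σ 3) = T.w (σ 4) * 1 := by rw [a_eq, c4_3]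
  have a4_5 : T.a (σ 4) (σ 5) = T.w (σ 4) * 1 := by rw [a_eq, c4_5]
  have a4_6 : T.a (σ 4) (σ 6) = T.w (σ 4) * 0 := by rw [a_eq, c4_6]
  have a4_7 : T.a (σ 4) (σ 7) = T.w (σ 4) * 0 := by rw [a_eq, c4_7]
  have a4_8 : T.a (σ 4) (σ 8) = T.w (σ 4) * 0 := by rw [a_eq, c4_8]
  have a5_0 : T.a (σ 5) (σ 0) = T.w (σ 5) * 0 := by rw [a_eq, c5_0]
  have a5_1 : T.a (σ 5) (σ 1) = T.w (σ 5) * 0 := by rw [a_eq, c5_1]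
  have a5_2 : T.a (σ 5) (σ 2) = T.w (σ 5) * 0 := by rw [a_eq, c5_2]
  have a5_3 : T.a (σ 5) (σ 3) = T.w (σ 5) * 0 := by rw [a_eq, c5_3]
  have a5_4 : T.a (σ 5) (σ 4) = T.w (σ 5) * 1 := by rw [a_eq, c5_4]
  have a5_6 : T.a (σ 5) (σ 6) = T.w (σ 5) * 1 := by rw [a_eq, c5_6]
  have a5_7 : T.a (σ 5) (σ 7) = T.w (σ 5) * 0 := by rw [a_eq, c5_7]
  have a5_8 : T.a (σ 5) (σ 8) = T.w (σ 5) * 1 := by rw [a_eq, c5_8]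
  have a6_0 : T.a (σ 6) (σ 0) = T.w (σ 6) * 0 := by rw [a_eq, c6_0]
  have a6_1 : T.a (σ 6) (σ 1) = T.w (σ 6) * 0 := by rw [a_eq, c6_1]
  have a6_2 : T.a (σ 6) (σ 2) = T.w (σ 6) * 0 := by rw [a_eq, c6_2]
  have a6_3 : T.a (σ 6) (σ 3) = T.w (σ 6) * 0 := by rw [a_eq, c6_3]
  have a6_4 : T.a (σ 6) (σ 4) = T.w (σ 6) * 0 := by rw [a_eq, c6_4]
  have a6_5 : T.a (σ 6) (σ 5) = T.w (σ 6) * 1 := by rw [a_eq, c6_5]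
  have a6_7 : T.a (σ 6) (σ 7) = T.w (σ 6) * 1 := by rw [a_eq, c6_7]
  have a6_8 : T.a (σ 6) (σ 8) = T.w (σ 6) * 0 := by rw [a_eq, c6_8]
  have a7_0 : T.a (σ 7) (σ 0) = T.w (σ 7) * 0 := by rw [a_eq, c7_0]
  have a7_1 : T.a (σ 7) (σ 1) = T.w (σ 7) * 0 := by rw [a_eq, c7_1]
  have a7_2 : T.a (σ 7) (σ 2) = T.w (σ 7) * 0 := by rw [a_eq, c7_2]
  have a7_3 : T.a (σ 7) (σ 3) = T.w (σ 7) * 0 := by rw [a_eq, c7_3]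
  have a7_4 : T.a (σ 7) (σ 4) = T.w (σ 7) * 0 := by rw [a_eq, c7_4]
  have a7_5 : T.a (σ 7) (σ 5) = T.w (σ 7) * 0 := by rw [a_eq, c7_5]
  have a7_6 : T.a (σ 7) (σ 6) = T.w (σ 7) * 1 := by rw [a_eq, c7_6]
  have a7_8 : T.a (σ 7) (σ 8) = T.w (σ 7) * 0 := by rw [a_eq, c7_8]
  have a8_0 : T.a (σ 8) (σ 0) = T.w (σ 8) * 0 := by rw [a_eq, c8_0]
  have a8_1 : T.a (σ 8) (σ 1) = T.w (σ 8) * 0 := by rw [a_eq, c8_1]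
  have a8_2 : T.a (σ 8) (σ 2) = T.w (σ 8) * 0 := by rw [a_eq, c8_2]
  have a8_3 : T.a (σ 8) (σ 3) = T.w (σ 8) * 0 := by rw [a_eq, c8_3]
  have a8_4 : T.a (σ 8) (σ 4) = T.w (σ 8) * 0 := by rw [a_eq, c8_4]
  have a8_5 : T.a (σ 8) (σ 5) = T.w (σ 8) * 1 := by rw [a_eq, c8_5]
  have a8_6 : T.a (σ 8) (σ 6) = T.w (σ 8) * 0 := by rw [a_eq, c8_6]
  have a8_7 : T.a (σ 8) (σ 7) = T.w (σ 8) * 0 := by rw [a_eq, c8_7]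
  have ad0 := hd (σ 0)
  have ad1 := hd (σ 1)
  have ad2 := hd (σ 2)
  have ad3 := hd (σ 3)
  have ad4 := hd (σ 4)
  have ad5 := hd (σ 5)
  have ad6 := hd (σ 6)
  have ad7 := hd (σ 7)
  have ad8 := hd (σ 8)
  have s0_1 := a_symm T (σ 0) (σ 1)
  have s0_2 := a_symm T (σ 0) (σ 2)
  have s0_3 := a_symm T (σ 0) (σ 3)
  have s0_4 := a_symm T (σ 0) (σ 4)
  have s0_5 := a_symm T (σ 0) (σ 5)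
  have s0_6 := a_symm T (σ 0) (σ 6)
  have s0_7 := a_symm T (σ 0) (σ 7)
  have s0_8 := a_symm T (σ 0) (σ 8)
  have s1_2 := a_symm T (σ 1) (σ 2)
  have s1_3 := a_symm T (σ 1) (σ 3)
  have s1_4 := a_symm T (σ 1) (σ 4)
  have s1_5 := a_symm T (σ 1) (σ 5)
  have s1_6 := a_symm T (σ 1) (σ 6)
  have s1_7 := a_symm T (σ 1) (σ 7)
  have s1_8 := a_symm T (σ 1) (σ 8)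
  have s2_3 := a_symm T (σ 2) (σ 3)
  have s2_4 := a_symm T (σ 2) (σ 4)
  have s2_5 := a_symm T (σ 2) (σ 5)
  have s2_6 := a_symm T (σ 2) (σ 6)
  have s2_7 := a_symm T (σ 2) (σ 7)
  have s2_8 := a_symm T (σ 2) (σ 8)
  have s3_4 := a_symm T (σ 3) (σ 4)
  have s3_5 := a_symm T (σ 3) (σ 5)
  have s3_6 := a_symm T (σ 3) (σ 6)
  have s3_7 := a_symm T (σ 3) (σ 7)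
  have s3_8 := a_symm T (σ 3) (σ 8)
  have s4_5 := a_symm T (σ 4) (σ 5)
  have s4_6 := a_symm T (σ 4) (σ 6)
  have s4_7 := a_symm T (σ 4) (σ 7)
  have s4_8 := a_symm T (σ 4) (σ 8)
  have s5_6 := a_symm T (σ 5) (σ 6)
  have s5_7 := a_symm T (σ 5) (σ 7)
  have s5_8 := a_symm T (σ 5) (σ 8)
  have s6_7 := a_symm T (σ 6) (σ 7)
  have s6_8 := a_symm T (σ 6) (σ 8)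
  have s7_8 := a_symm T (σ 7) (σ 8)
  clear c0_1 c0_2 c0_3 c0_4 c0_5 c0_6 c0_7 c0_8 c1_0 c1_2 c1_3 c1_4 c1_5 c1_6 c1_7 c1_8 c2_0 c2_1 c2_3 c2_4 c2_5 c2_6 c2_7 c2_8 c3_0 c3_1 c3_2 c3_4 c3_5 c3_6 c3_7 c3_8 c4_0 c4_1 c4_2 c4_3 c4_5 c4_6 c4_7 c4_8 c5_0 c5_1 c5_2 c5_3 c5_4 c5_6 c5_7 c5_8 c6_0 c6_1 c6_2 c6_3 c6_4 c6_5 c6_7 c6_8 c7_0 c7_1 c7_2 c7_3 c7_4 c7_5 c7_6 c7_8 c8_0 c8_1 c8_2 c8_3 c8_4 c8_5 c8_6 c8_7 dd0 dd1 dd2 dd3 dd4 dd5 dd6 dd7 dd8 hC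
  have hm0 : T.m (σ 0) = 1 * T.m (σ 0) := by omega
  have hm1 : T.m (σ 1) = 2 * T.m (σ 0) := by omega
  have hm2 : T.m (σ 2) = 3 * T.m (σ 0) := by omega
  have hm3 : T.m (σ 3) = 4 * T.m (σ 0) := by omega
  have hm4 : T.m (σ 4) = 5 * T.m (σ 0) := by omega
  have hm5 : T.m (σ 5) = 6 * T.m (σ 0) := by omega
  have hm6 : T.m (σ 6) = 4 * T.m (σ 0) := by omega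
  have hm7 : T.m (σ 7) = 2 * T.m (σ 0) := by omega
  have hm8 : T.m (σ 8) = 3 * T.m (σ 0) := by omega
  clear r0 r1 r2 r3 r4 r5 r6 r7 r8
  have hw0 : T.w (σ 0) = 1 * T.w (σ 0) := by omega
  have hw1 : T.w (σ 1) = 1 * T.w (σ 0) := by omega
  have hw2 : T.w (σ 2) = 1 * T.w (σ 0) := by omega
  have hw3 : T.w (σ 3) = 1 * T.w (σ 0) := by omega
  have hw4 : T.w (σ 4) = 1 * T.w (σ 0) := by omega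
  have hw5 : T.w (σ 5) = 1 * T.w (σ 0) := by omega
  have hw6 : T.w (σ 6) = 1 * T.w (σ 0) := by omega
  have hw7 : T.w (σ 7) = 1 * T.w (σ 0) := by omega
  have hw8 : T.w (σ 8) = 1 * T.w (σ 0) := by omega
  refine ⟨σ, T.m (σ 0), T.w (σ 0), ?_⟩
  refine Or.inr (Or.inr (Or.inr (Or.inr (Or.inr (Or.inr (Or.inr (?_)))))))
  refine ⟨?_, ?_, ?_, ?_, ?_, ?_, ?_, ?_, ?_, ?_, ?_, ?_, ?_, ?_, ?_, ?_, ?_, ?_, ?_, ?_, ?_, ?_, ?_, ?_, ?_, ?_, ?_, ?_, ?_, ?_, ?_, ?_, ?_, ?_, ?_, ?_, ?_, ?_, ?_, ?_, ?_, ?_, ?_, ?_, ?_, ?_, ?_, ?_, ?_, ?_, ?_, ?_, ?_, ?_, ?_, ?_, ?_, ?_, ?_, ?_, ?_, ?_, ?_⟩ <;> omega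

end Groth.Agent.Lib.G1
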