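import Mathlib
import Groth.Prelude
import Groth.Agent.Lib.ThickSq1_helper2
import Groth.Agent.Lib.TensPowApi_helper9

/-!
# Towers of thickenings: the graded module on the bottom level (helper2)

`Y 0 ⟶ Y 1 ⟶ ⋯` closed immersions of schemes over `Spec A`, `Y k` killed by `J^(k+1)`, the ideal of
`Y k` in `Y (k+1)` generated by `J^(k+1)`; `F k` quasi-coherent on `Y k` with
`(i k)^* F (k+1) ≅ F k`.  The top graded pieces `gr_k (F k)`, pulled back to `Y 0`, form a graded
module over the polynomial ring on generators of `J`, generated in degree `0`.  Consequently,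
if `Y 0` is proper over Noetherian `A` and `L 0` is ample, the cohomology of `F k ⊗ (L k)^d`
vanishes for `d ≥ d₀` with `d₀` independent of `k`.
APPEND-ONLY once landed.
-/

set_option autoImplicit false
universe u
open CategoryTheory CategoryTheory.Limits AlgebraicGeometry TopologicalSpace Opposite

namespace Groth.Agent.Lib.ThickH2

open Formal Groth.Agent.Lib.FormalModPowH4 Groth.Agent.HHVan Groth.Agent.Lib.FormalFnH2
  Groth.Agent.Lib.AmpleFinH2 Groth.Agent.TensInv CohB1 Groth.Agent.Lib.FibAmpH2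

section NuG

variable {W Z X : Scheme.{u}} (f : W ⟶ Z) (g : Z ⟶ X)

/-- `(f ≫ g)^* g_* G ⟶ f^* G` -/
noncomputable def nuG (G : Z.Modules) :
    (Scheme.Modules.pullback (f ≫ g)).obj ((Scheme.Modules.pushforward g).obj G) ⟶
      (Scheme.Modules.pullback f).obj G :=
  (Scheme.Modules.pullbackComp f g).inv.app _ ≫
    (Scheme.Modules.pullback f).map ((Scheme.Modules.pullbackPushforwardAdjunction g).counit.app G)

theorem nuG_naturality {G G' : Z.Modules} (k : G ⟶ G') :
    (Scheme.Modules.pullback (f ≫ g)).map ((Scheme.Modules.pushforward g).map k) ≫ nuG f g G' =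
      nuG f g G ≫ (Scheme.Modules.pullback f).map k := by
  unfold nuG
  have h1 := (Scheme.Modules.pullbackComp f g).inv.naturality
    ((Scheme.Modules.pushforward g).map k)
  have h2 := (Scheme.Modules.pullbackPushforwardAdjunction g).counit.naturality k
  have h2' : (Scheme.Modules.pullback g).map ((Scheme.Modules.pushforward g).map k) ≫
      (Scheme.Modules.pullbackPushforwardAdjunction g).counit.app G' =
      (Scheme.Modules.pullbackPushforwardAdjunction g).counit.app G ≫ k := h2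
  have h1' : (Scheme.Modules.pullback (f ≫ g)).map ((Scheme.Modules.pushforward g).map k) ≫
      (Scheme.Modules.pullbackComp f g).inv.app ((Scheme.Modules.pushforward g).obj G') =
      (Scheme.Modules.pullbackComp f g).inv.app ((Scheme.Modules.pushforward g).obj G) ≫
        (Scheme.Modules.pullback f).map ((Scheme.Modules.pullback g).map
          ((Scheme.Modules.pushforward g).map k)) := h1
  rw [← Category.assoc, h1', Category.assoc, ← Functor.map_comp, h2', Functor.map_comp,
    Category.assoc]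

theorem isIso_nuG [IsClosedImmersion g] (G : Z.Modules) [G.IsQuasicoherent] :
    IsIso (nuG f g G) := by
  haveI := isIso_counit g G
  unfold nuG
  infer_instance

end NuG

section Iota

variable {A : Type u} [CommRing A]
  (Y : ℕ → Scheme.{u}) [∀ k, (Y k).Over (Spec (CommRingCat.of A))]
  (i : ∀ k, Y k ⟶ Y (k + 1))

/-- the composite `Y 0 ⟶ Y k` -/
noncomputable def iota : ∀ k, Y 0 ⟶ Y k
  | 0 => 𝟙 _
  | k + 1 => iota k ≫ i k

theorem iota_succ (k : ℕ) : iota Y i (k + 1) = iota Y i k ≫ i k := rfl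

instance isClosedImmersion_iota [∀ k, IsClosedImmersion (i k)] (k : ℕ) :
    IsClosedImmersion (iota Y i k) := by
  induction k with
  | zero => exact inferInstanceAs (IsClosedImmersion (𝟙 (Y 0)))
  | succ k ih =>
    haveI := ih
    exact inferInstanceAs (IsClosedImmersion (iota Y i k ≫ i k))

theorem iota_over
    (hi : ∀ k, i k ≫ (Y (k + 1) ↘ Spec (CommRingCat.of A)) = (Y k ↘ Spec (CommRingCat.of A)))
    (k : ℕ) :
    iota Y i k ≫ (Y k ↘ Spec (CommRingCat.of A)) = (Y 0 ↘ Spec (CommRingCat.of A)) := by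
  induction k with
  | zero => exact Category.id_comp _
  | succ k ih => rw [iota_succ, Category.assoc, hi k, ih]

/-- `Φ_K = ι_K^*` -/
noncomputable abbrev Phi (K : ℕ) : (Y K).Modules ⥤ (Y 0).Modules :=
  Scheme.Modules.pullback (iota Y i K)

/-- `ι_{K+1}^* (i_K)_* G ⟶ ι_K^* G` -/
noncomputable def nu (K : ℕ) (G : (Y K).Modules) :
    (Phi Y i (K + 1)).obj ((Scheme.Modules.pushforward (i K)).obj G) ⟶ (Phi Y i K).obj G :=
  nuG (iota Y i K) (i K) G

theorem nu_naturality (K : ℕ) {G G' : (Y K).Modules} (g : G ⟶ G') :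
    (Phi Y i (K + 1)).map ((Scheme.Modules.pushforward (i K)).map g) ≫ nu Y i K G' =
      nu Y i K G ≫ (Phi Y i K).map g :=
  nuG_naturality (iota Y i K) (i K) g

instance isIso_nu [∀ k, IsClosedImmersion (i k)] (K : ℕ) (G : (Y K).Modules)
    [G.IsQuasicoherent] : IsIso (nu Y i K G) :=
  isIso_nuG (iota Y i K) (i K) G

end Iota

section Tower

variable {A : Type u} [CommRing A] (J : Ideal A)
  (Y : ℕ → Scheme.{u}) [∀ k, (Y k).Over (Spec (CommRingCat.of A))]
  (i : ∀ k, Y k ⟶ Y (k + 1)) [∀ k, IsClosedImmersion (i k)]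
  (hi : ∀ k, i k ≫ (Y (k + 1) ↘ Spec (CommRingCat.of A)) = (Y k ↘ Spec (CommRingCat.of A)))
  (hker : ∀ k (N : (Y (k + 1)).Modules), Formal.KilledBy (J ^ (k + 1)) N →
    ClSub.KilledByIdeal (i k).ker N)
  (hkill : ∀ k (N : (Y k).Modules), Formal.KilledBy (J ^ (k + 1)) N)
  (F : ∀ k, (Y k).Modules) [∀ k, (F k).IsQuasicoherent]
  (ψ : ∀ k, (Scheme.Modules.pullback (i k)).obj (F (k + 1)) ≅ F k)

/-- `F (K+1) ⟶ (i K)_* (F K)`, the adjoint of `ψ K` -/
noncomputable def tt (K : ℕ) : F (K + 1) ⟶ (Scheme.Modules.pushforward (i K)).obj (F K) :=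
  (Scheme.Modules.pullbackPushforwardAdjunction (i K)).unit.app (F (K + 1)) ≫
    (Scheme.Modules.pushforward (i K)).map (ψ K).hom

include hi hker hkill in
theorem exists_tt_iso (K : ℕ) :
    ∃ c : Formal.modPow J (K + 1) (F (K + 1)) ≅ (Scheme.Modules.pushforward (i K)).obj (F K),
      Formal.modPowπ J (K + 1) (F (K + 1)) ≫ c.hom = tt Y i F ψ K := by
  obtain ⟨c, hc⟩ := exists_modPow_iso (i K) (hi K) J (K + 1) (hker K) (hkill K) (F (K + 1))
  refine ⟨c ≪≫ (Scheme.Modules.pushforward (i K)).mapIso (ψ K), ?_⟩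
  rw [Iso.trans_hom, ← Category.assoc, hc]
  rfl

include hi hker hkill in
theorem isIso_grMap_tt (K j : ℕ) (h : j ≤ K) : IsIso (grMap J (tt Y i F ψ K) j) := by
  obtain ⟨c, hc⟩ := exists_tt_iso J Y i hi hker hkill F ψ K
  rw [← hc, grMap_comp]
  haveI := isIso_grMap_modPowπ J (F (K + 1)) (Nat.succ_le_succ h)
  haveI := isIso_grMap J c.hom j
  infer_instance

/-- `gr_j (F (K+1)) ⟶ (i K)_* (gr_j (F K))` -/
noncomputable def dd (K j : ℕ) :
    gr J (F (K + 1)) j ⟶ (Scheme.Modules.pushforward (i K)).obj (gr J (F K) j) :=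
  grMap J (tt Y i F ψ K) j ≫ pushGrHom (i K) (hi K) J (F K) j

include hker hkill in
theorem isIso_dd (K j : ℕ) (h : j ≤ K) : IsIso (dd J Y i hi F ψ K j) := by
  haveI := isIso_grMap_tt J Y i hi hker hkill F ψ K j h
  unfold dd
  infer_instance

theorem dd_mul (K j : ℕ) (a : A) (ha : a ∈ J) :
    grMul J (F (K + 1)) a ha j ≫ dd J Y i hi F ψ K (j + 1) =
      dd J Y i hi F ψ K j ≫ (Scheme.Modules.pushforward (i K)).map (grMul J (F K) a ha j) := by
  unfold dd
  rw [← Category.assoc, ← grMap_grMul, Category.assoc, Category.assoc, pushGrHom_mul]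

/-- the graded pieces of `F K`, pulled back to `Y 0` -/
noncomputable abbrev QK (K j : ℕ) : (Y 0).Modules := (Phi Y i K).obj (gr J (F K) j)

/-- multiplication on the pulled back graded pieces -/
noncomputable abbrev muK (K : ℕ) (a : A) (ha : a ∈ J) (j : ℕ) :
    QK J Y i F K j ⟶ QK J Y i F K (j + 1) :=
  (Phi Y i K).map (grMul J (F K) a ha j)

/-- comparison of the levels `K + 1` and `K` -/
noncomputable def bb (K j : ℕ) : QK J Y i F (K + 1) j ⟶ QK J Y i F K j :=
  (Phi Y i (K + 1)).map (dd J Y i hi F ψ K j) ≫ nu Y i K (gr J (F K) j)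

include hker hkill in
theorem isIso_bb (K j : ℕ) (h : j ≤ K) : IsIso (bb J Y i hi F ψ K j) := by
  haveI := isIso_dd J Y i hi hker hkill F ψ K j h
  unfold bb
  infer_instance

theorem muK_bb (K j : ℕ) (a : A) (ha : a ∈ J) :
    muK J Y i F (K + 1) a ha j ≫ bb J Y i hi F ψ K (j + 1) =
      bb J Y i hi F ψ K j ≫ muK J Y i F K a ha j := by
  unfold bb
  rw [← Category.assoc, ← Functor.map_comp, dd_mul, Functor.map_comp, Category.assoc,
    nu_naturality, Category.assoc]

/-- the comparison isomorphism -/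
noncomputable def bbIso (K j : ℕ) (h : j ≤ K) : QK J Y i F (K + 1) j ≅ QK J Y i F K j :=
  @asIso _ _ _ _ (bb J Y i hi F ψ K j) (isIso_bb J Y i hi hker hkill F ψ K j h)

theorem bbIso_hom (K j : ℕ) (h : j ≤ K) :
    (bbIso J Y i hi hker hkill F ψ K j h).hom = bb J Y i hi F ψ K j := rfl

/-- the top graded pieces -/
noncomputable abbrev QQ (n : ℕ) : (Y 0).Modules := QK J Y i F n n

/-- multiplication on the top graded pieces -/
noncomputable def mm (a : A) (ha : a ∈ J) (n : ℕ) : QQ J Y i F n ⟶ QQ J Y i F (n + 1) :=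
  (bbIso J Y i hi hker hkill F ψ n n le_rfl).inv ≫ muK J Y i F (n + 1) a ha n

theorem mm_comp (a b : A) (ha : a ∈ J) (hb : b ∈ J) (n : ℕ) :
    mm J Y i hi hker hkill F ψ a ha n ≫ mm J Y i hi hker hkill F ψ b hb (n + 1) =
      ((bbIso J Y i hi hker hkill F ψ n n le_rfl).inv ≫
        (bbIso J Y i hi hker hkill F ψ (n + 1) n (Nat.le_succ n)).inv) ≫
        muK J Y i F (n + 1 + 1) a ha n ≫ muK J Y i F (n + 1 + 1) b hb (n + 1) := by
  have h1 : muK J Y i F (n + 1) a ha n ≫
      (bbIso J Y i hi hker hkill F ψ (n + 1) (n + 1) le_rfl).inv =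
      (bbIso J Y i hi hker hkill F ψ (n + 1) n (Nat.le_succ n)).inv ≫
        muK J Y i F (n + 1 + 1) a ha n := by
    have h0 := muK_bb J Y i hi F ψ (n + 1) n a ha
    have h0' : muK J Y i F (n + 1 + 1) a ha n ≫
        (bbIso J Y i hi hker hkill F ψ (n + 1) (n + 1) le_rfl).hom =
        (bbIso J Y i hi hker hkill F ψ (n + 1) n (Nat.le_succ n)).hom ≫
          muK J Y i F (n + 1) a ha n := h0
    refine (Iso.comp_inv_eq _).mpr ?_
    refine Eq.trans ?_ (Category.assoc _ _ _).symm
    exact (Iso.eq_inv_comp _).mpr h0'.symm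
  show ((bbIso J Y i hi hker hkill F ψ n n le_rfl).inv ≫ muK J Y i F (n + 1) a ha n) ≫
      ((bbIso J Y i hi hker hkill F ψ (n + 1) (n + 1) le_rfl).inv ≫
        muK J Y i F (n + 1 + 1) b hb (n + 1)) = _
  rw [Category.assoc, ← Category.assoc (muK J Y i F (n + 1) a ha n), h1]
  simp only [Category.assoc]

theorem mm_comm (a b : A) (ha : a ∈ J) (hb : b ∈ J) (n : ℕ) :
    mm J Y i hi hker hkill F ψ a ha n ≫ mm J Y i hi hker hkill F ψ b hb (n + 1) =
      mm J Y i hi hker hkill F ψ b hb n ≫ mm J Y i hi hker hkill F ψ a ha (n + 1) := by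
  rw [mm_comp, mm_comp]
  congr 1
  show (Phi Y i (n + 1 + 1)).map _ ≫ (Phi Y i (n + 1 + 1)).map _ =
    (Phi Y i (n + 1 + 1)).map _ ≫ (Phi Y i (n + 1 + 1)).map _
  rw [← Functor.map_comp, ← Functor.map_comp, grMul_comm]

variable {σ : Type u} [Fintype σ] (a : σ → A) (ha : ∀ s, a s ∈ J)

include ha in
theorem epi_muSum_mm (hspan : Ideal.span (Set.range a) = J) (n : ℕ) :
    Epi (muSum (QQ J Y i F) (fun s n => mm J Y i hi hker hkill F ψ (a s) (ha s) n) n) := by
  classical
  haveI := epi_grMulSum J (F (n + 1)) a ha hspan n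
  refine Preadditive.epi_of_cancel_zero _ (fun {T} g hg => ?_)
  have h3 : ∀ s, muK J Y i F (n + 1) (a s) (ha s) n ≫ g = 0 := by
    intro s
    have h1 : Sigma.ι (fun _ : σ => QQ J Y i F n) s ≫
        muSum (QQ J Y i F) (fun s n => mm J Y i hi hker hkill F ψ (a s) (ha s) n) n =
        mm J Y i hi hker hkill F ψ (a s) (ha s) n :=
      ι_muSum (QQ J Y i F) (fun s n => mm J Y i hi hker hkill F ψ (a s) (ha s) n) n s
    have h2 : mm J Y i hi hker hkill F ψ (a s) (ha s) n ≫ g = 0 := by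
      rw [← h1, Category.assoc, hg, comp_zero]
    have h4 : (bbIso J Y i hi hker hkill F ψ n n le_rfl).inv ≫
        muK J Y i F (n + 1) (a s) (ha s) n ≫ g = 0 := by
      rw [← Category.assoc]
      exact h2
    have h5 := congrArg (fun t => (bbIso J Y i hi hker hkill F ψ n n le_rfl).hom ≫ t) h4
    simpa using h5
  haveI : Epi ((Phi Y i (n + 1)).map (muSum (gr J (F (n + 1)))
      (fun s k => grMul J (F (n + 1)) (a s) (ha s) k) n)) := inferInstance
  rw [← cancel_epi ((Phi Y i (n + 1)).map (muSum (gr J (F (n + 1)))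
      (fun s k => grMul J (F (n + 1)) (a s) (ha s) k) n)), comp_zero]
  have htot := sigma_total (fun _ : σ => gr J (F (n + 1)) n)
  have h6 : muSum (gr J (F (n + 1))) (fun s k => grMul J (F (n + 1)) (a s) (ha s) k) n =
      ∑ s, Sigma.π (fun _ : σ => gr J (F (n + 1)) n) s ≫ grMul J (F (n + 1)) (a s) (ha s) n := by
    rw [← Category.id_comp (muSum (gr J (F (n + 1)))
      (fun s k => grMul J (F (n + 1)) (a s) (ha s) k) n), ← htot, Preadditive.sum_comp]
    refine Finset.sum_congr rfl (fun s _ => ?_)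
    rw [Category.assoc, ι_muSum]
  rw [h6, Functor.map_sum, Preadditive.sum_comp]
  refine Finset.sum_eq_zero (fun s _ => ?_)
  rw [Functor.map_comp, Category.assoc]
  have h7 : (Phi Y i (n + 1)).map (grMul J (F (n + 1)) (a s) (ha s) n) ≫ g = 0 := h3 s
  rw [h7, comp_zero]

end Tower

end Groth.Agent.Lib.ThickH2
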