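import Mathlib
import Groth.Prelude
import Groth.Agent.Lib.ThickSq2_helper2

/-!
# Uniform vanishing on a tower of thickenings (helper2)

Abstract tower version (`tower_vanish`) and the concrete statement for an adic system of schemes
`X_k` over `Spec (A / J^(k+1))` (`main5741`).
APPEND-ONLY once landed.
-/

set_option autoImplicit false
universe u
open CategoryTheory CategoryTheory.Limits AlgebraicGeometry TopologicalSpace Opposite

namespace Groth.Agent.Lib.ThickH2

open Formal Groth.Agent.Lib.FormalModPowH4 Groth.Agent.HHVan Groth.Agent.Lib.FormalFnH2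
  Groth.Agent.Lib.AmpleFinH2 Groth.Agent.TensInv CohB1 Groth.Agent.Lib.FibAmpH2

section Gen

variable {A : Type u} [CommRing A] {X : Scheme.{u}} [X.Over (Spec (CommRingCat.of A))]
  (I : Ideal A) (M : X.Modules)

theorem nonempty_pw_iso_gr (n : ℕ) (hk : Formal.KilledBy (I ^ (n + 1)) M) :
    Nonempty (pw I M n ≅ gr I M n) := by
  have h0 : pwInc I M (Nat.le_succ n) = 0 := by
    rw [← cancel_mono (pwι I M n), pwInc_ι, zero_comp]
    exact pwι_eq_zero_of_killed _ _ hk
  exact ⟨{ hom := grπ I M n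
           inv := cokernel.desc _ (𝟙 _) (by rw [h0, zero_comp])
           hom_inv_id := cokernel.π_desc _ _ _
           inv_hom_id := by
             rw [← cancel_epi (grπ I M n), ← Category.assoc]
             have h1 : grπ I M n ≫ cokernel.desc _ (𝟙 _)
                 (by rw [h0, zero_comp]) = 𝟙 _ := cokernel.π_desc _ _ _
             rw [h1, Category.id_comp, Category.comp_id] }⟩

theorem isZero_modPow_zero : IsZero (Formal.modPow I 0 M) := by
  rw [IsZero.iff_id_eq_zero, ← smulMod_one (A := A)]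
  exact smulMod_modPow_eq_zero M I 0 (by simp)

end Gen

section Vanish

variable {A : Type u} [CommRing A] (J : Ideal A)
  (Y : ℕ → Scheme.{u}) [∀ k, (Y k).Over (Spec (CommRingCat.of A))]
  (i : ∀ k, Y k ⟶ Y (k + 1)) [∀ k, IsClosedImmersion (i k)]
  (hi : ∀ k, i k ≫ (Y (k + 1) ↘ Spec (CommRingCat.of A)) = (Y k ↘ Spec (CommRingCat.of A)))
  (hker : ∀ k (N : (Y (k + 1)).Modules), Formal.KilledBy (J ^ (k + 1)) N →
    ClSub.KilledByIdeal (i k).ker N)
  (hkill : ∀ k (N : (Y k).Modules), Formal.KilledBy (J ^ (k + 1)) N)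
  (hkerι : ∀ k (N : (Y k).Modules), Formal.KilledBy J N →
    ClSub.KilledByIdeal (iota Y i k).ker N)
  (F : ∀ k, (Y k).Modules) [∀ k, (F k).IsQuasicoherent]
  (ψ : ∀ k, (Scheme.Modules.pullback (i k)).obj (F (k + 1)) ≅ F k)
  (L : ∀ k, (Y k).Modules) (hL : ∀ k, PicF.IsInvertible (L k))
  (φ : ∀ k, Nonempty ((Scheme.Modules.pullback (i k)).obj (L (k + 1)) ≅ L k))

include φ in
theorem nonempty_Phi_L (K : ℕ) : Nonempty ((Phi Y i K).obj (L K) ≅ L 0) := by
  induction K with
  | zero => exact ⟨(Scheme.Modules.pullbackId (Y 0)).app (L 0)⟩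
  | succ K ih =>
    obtain ⟨e⟩ := ih
    obtain ⟨e'⟩ := φ K
    exact ⟨((Scheme.Modules.pullbackComp (iota Y i K) (i K)).app (L (K + 1))).symm ≪≫
      (Phi Y i K).mapIso e' ≪≫ e⟩

include hkerι hL φ in
theorem subsingleton_top (K d p : ℕ)
    (h : Subsingleton (Coh.HH (Y 0) (tensorMod (QQ J Y i F K) (tensorPow (L 0) d)) p)) :
    Subsingleton (Coh.HH (Y K) (tensorMod (gr J (F K) K) (tensorPow (L K) d)) p) := by
  have hk := hkerι K (gr J (F K) K) (fun a ha => smulMod_gr J (F K) a ha K)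
  haveI := ClPushH8.isIso_unit (iota Y i K) (gr J (F K) K) hk
  have e : gr J (F K) K ≅ (Scheme.Modules.pushforward (iota Y i K)).obj (QQ J Y i F K) :=
    asIso ((Scheme.Modules.pullbackPushforwardAdjunction (iota Y i K)).unit.app (gr J (F K) K))
  obtain ⟨eL⟩ := nonempty_Phi_L Y i L φ K
  obtain ⟨eP⟩ := TensPowH9.tensorPow_congr eL d
  have h' : Subsingleton (Coh.HH (Y 0) (tensorMod (QQ J Y i F K)
      (tensorPow ((Scheme.Modules.pullback (iota Y i K)).obj (L K)) d)) p) :=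
    Groth.Agent.HHVan.subsingleton_of_iso (mapL (QQ J Y i F K) eP.symm) p h
  have h'' := subsingleton_push_tensor (iota Y i K) (hL K) (QQ J Y i F K) d p h'
  exact Groth.Agent.HHVan.subsingleton_of_iso (mapR e.symm (tensorPow (L K) d)) p h''

include hkill hL in
theorem tower_step (K d p : ℕ)
    (h1 : Subsingleton (Coh.HH (Y K) (tensorMod (gr J (F K) K) (tensorPow (L K) d)) p))
    (h3 : Subsingleton (Coh.HH (Y K)
      (tensorMod (Formal.modPow J K (F K)) (tensorPow (L K) d)) p)) :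
    Subsingleton (Coh.HH (Y K) (tensorMod (F K) (tensorPow (L K) d)) p) := by
  obtain ⟨K', -, hK'⟩ := Groth.Agent.InvTensP.exists_inverse (tensorPow (L K) d)
    (TensH8.isInvertible_tensorPow (hL K) d)
  have hS := shortExact_tR hK' _ (pwSC_shortExact J (F K) K)
  obtain ⟨e⟩ := nonempty_pw_iso_gr J (F K) K (hkill K (F K))
  have h1' : Subsingleton (Coh.HH (Y K) (tensorMod (pw J (F K) K) (tensorPow (L K) d)) p) :=
    Groth.Agent.HHVan.subsingleton_of_iso (mapR e.symm (tensorPow (L K) d)) p h1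
  exact Groth.Agent.HHVan.subsingleton_mid _ hS p h1' h3

include hi hker hkill hkerι hL φ ψ in
theorem tower_vanish (d₀ : ℕ)
    (hQ : ∀ n d, d₀ ≤ d → ∀ p, 0 < p →
      Subsingleton (Coh.HH (Y 0) (tensorMod (QQ J Y i F n) (tensorPow (L 0) d)) p)) :
    ∀ K d, d₀ ≤ d → ∀ p, 0 < p →
      Subsingleton (Coh.HH (Y K) (tensorMod (F K) (tensorPow (L K) d)) p) := by
  intro K
  induction K with
  | zero =>
    intro d hd p hp
    refine tower_step J Y hkill F L hL 0 d p
      (subsingleton_top J Y i hkerι F L hL φ 0 d p (hQ 0 d hd p hp)) ?_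
    apply subsingleton_HH_of_isZero
    exact Functor.map_isZero (tR (tensorPow (L 0) d)) (isZero_modPow_zero J (F 0))
  | succ k ih =>
    intro d hd p hp
    refine tower_step J Y hkill F L hL (k + 1) d p
      (subsingleton_top J Y i hkerι F L hL φ (k + 1) d p (hQ (k + 1) d hd p hp)) ?_
    obtain ⟨c, -⟩ := exists_tt_iso J Y i hi hker hkill F ψ k
    obtain ⟨eφ⟩ := φ k
    obtain ⟨eP⟩ := TensPowH9.tensorPow_congr eφ d
    have h' : Subsingleton (Coh.HH (Y k) (tensorMod (F k)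
        (tensorPow ((Scheme.Modules.pullback (i k)).obj (L (k + 1))) d)) p) :=
      Groth.Agent.HHVan.subsingleton_of_iso (mapL (F k) eP.symm) p (ih d hd p hp)
    have h'' := subsingleton_push_tensor (i k) (hL (k + 1)) (F k) d p h'
    exact Groth.Agent.HHVan.subsingleton_of_iso (mapR c.symm (tensorPow (L (k + 1)) d)) p h''

end Vanish

section Concrete

variable (A : Type u) [CommRing A] (J : Ideal A)
  (Xs : ℕ → Scheme.{u}) (p : (k : ℕ) → (Xs k ⟶ Spec (CommRingCat.of (A ⧸ J ^ (k + 1)))))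
  (i : (k : ℕ) → (Xs k ⟶ Xs (k + 1)))
  (hcart : ∀ k, IsPullback (i k) (p k) (p (k + 1)) (CohB1.specQuotTrans J k))

/-- `Spec (A/J) ⟶ Spec (A/J^(k+1))` -/
noncomputable abbrev tauQ (k : ℕ) :
    Spec (CommRingCat.of (A ⧸ J ^ (0 + 1))) ⟶ Spec (CommRingCat.of (A ⧸ J ^ (k + 1))) :=
  Spec.map (CommRingCat.ofHom (Ideal.Quotient.factor
    (Ideal.pow_le_pow_right (Nat.succ_le_succ (Nat.zero_le k)))))

include hcart in
theorem isPullback_iota (k : ℕ) : IsPullback (iota Xs i k) (p 0) (p k) (tauQ A J k) := by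
  induction k with
  | zero =>
    have h1 : tauQ A J 0 = 𝟙 _ := by
      unfold tauQ
      rw [Ideal.Quotient.factor_eq]
      exact Spec.map_id _
    rw [h1]
    haveI : IsIso (iota Xs i 0) := inferInstanceAs (IsIso (𝟙 (Xs 0)))
    exact IsPullback.of_horiz_isIso ⟨by simp [iota]⟩
  | succ k ih =>
    have h2 := ih.paste_horiz (hcart k)
    have h3 : tauQ A J k ≫ CohB1.specQuotTrans J k = tauQ A J (k + 1) := by
      unfold tauQ CohB1.specQuotTrans
      rw [← Spec.map_comp, ← CommRingCat.ofHom_comp, Ideal.Quotient.factor_comp]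
    rw [h3] at h2
    exact h2

end Concrete

section Main

variable (A : Type u) [CommRing A] [IsNoetherianRing A] (J : Ideal A)

/-- **S5741**. -/
theorem main5741
    (Xs : ℕ → Scheme.{u}) (p : (k : ℕ) → (Xs k ⟶ Spec (CommRingCat.of (A ⧸ J ^ (k + 1)))))
    (i : (k : ℕ) → (Xs k ⟶ Xs (k + 1)))
    (hcart : ∀ k, IsPullback (i k) (p k) (p (k + 1)) (CohB1.specQuotTrans J k)) (hp : IsProper (p 0))
    (L : (k : ℕ) → (Xs k).Modules) (hL : ∀ k, PicF.IsInvertible (L k))
    (φ : ∀ k, Nonempty ((Scheme.Modules.pullback (i k)).obj (L (k + 1)) ≅ L k))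
    (ha : CohB1.IsAmple (L 0))
    (F : (k : ℕ) → (Xs k).Modules) (hF : ∀ k, Coh.IsCoh (F k))
    (ψ : ∀ k, Nonempty ((Scheme.Modules.pullback (i k)).obj (F (k + 1)) ≅ F k)) :
    ∃ n₀ : ℕ, ∀ n : ℕ, n₀ ≤ n → ∀ k : ℕ, ∀ q : ℕ, 0 < q →
      Subsingleton (Coh.HH (Xs k) (CohB1.tensorMod (F k) (CohB1.tensorPow (L k) n)) q) := by
  letI inst : ∀ k, (Xs k).Over (Spec (CommRingCat.of A)) :=
    fun k => ⟨p k ≫ CohB1.specQuot J k⟩
  have hKK : ∀ k : ℕ, J ^ (k + 1 + 1) ≤ J ^ (k + 1) :=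
    fun k => Ideal.pow_le_pow_right (Nat.le_succ (k + 1))
  haveI hcl : ∀ k, IsClosedImmersion (i k) := fun k =>
    isClosedImmersion_of_sq (hKK k) (p (k + 1)) (p k) (i k) (hcart k)
  have hi : ∀ k, i k ≫ (Xs (k + 1) ↘ Spec (CommRingCat.of A)) =
      (Xs k ↘ Spec (CommRingCat.of A)) := fun k =>
    over_of_sq (hKK k) (p (k + 1)) (p k) rfl rfl (i k) (hcart k)
  have hker : ∀ k (N : (Xs (k + 1)).Modules), Formal.KilledBy (J ^ (k + 1)) N →
      ClSub.KilledByIdeal (i k).ker N := fun k N hN =>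
    killedByIdeal_of_sq (hKK k) (p (k + 1)) (p k) rfl (i k) (hcart k) N hN
  have hkill : ∀ k (N : (Xs k).Modules), Formal.KilledBy (J ^ (k + 1)) N := fun k N =>
    killedBy_of_sq (p k) rfl N
  have hkerι : ∀ k (N : (Xs k).Modules), Formal.KilledBy J N →
      ClSub.KilledByIdeal (iota Xs i k).ker N := fun k N hN =>
    killedByIdeal_of_sq (Ideal.pow_le_pow_right (Nat.succ_le_succ (Nat.zero_le k)))
      (p k) (p 0) rfl (iota Xs i k) (isPullback_iota A J Xs p i hcart k) N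
      (fun a ha' => hN a (by simpa using ha'))
  haveI : ∀ k, (F k).IsQuasicoherent := fun k => (hF k).1
  let ψ' : ∀ k, (Scheme.Modules.pullback (i k)).obj (F (k + 1)) ≅ F k := fun k => (ψ k).some
  haveI : IsClosedImmersion (CohB1.specQuot J 0) :=
    IsClosedImmersion.spec_of_surjective _ Ideal.Quotient.mk_surjective
  haveI : IsProper (Xs 0 ↘ Spec (CommRingCat.of A)) :=
    inferInstanceAs (IsProper (p 0 ≫ CohB1.specQuot J 0))
  haveI : IsLocallyNoetherian (Xs 0) :=
    LocallyOfFiniteType.isLocallyNoetherian (Xs 0 ↘ Spec (CommRingCat.of A))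
  obtain ⟨σ, _, a, haJ, hspan⟩ := exists_generators A J
  have h0 : SheafOfModules.IsFiniteType (R := (Xs 0).ringCatSheaf) (QQ J Xs i F 0) := by
    haveI := (isCoh_gr J (F 0) (hF 0) 0).2
    exact FpqcH8.isFiniteType_pullback (iota Xs i 0) (gr J (F 0) 0)
  obtain ⟨d₀, hd₀⟩ := stageA_ample A (Xs 0) (QQ J Xs i F)
    (fun s n => mm J Xs i hi hker hkill F ψ' (a s) (haJ s) n)
    (fun s t n => mm_comm J Xs i hi hker hkill F ψ' (a s) (a t) (haJ s) (haJ t) n) h0
    (fun n => epi_muSum_mm J Xs i hi hker hkill F ψ' a haJ hspan n) ha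
  exact ⟨d₀, fun n hn k q hq =>
    tower_vanish J Xs i hi hker hkill hkerι F ψ' L hL φ d₀ hd₀ k n hn q hq⟩

end Main

end Groth.Agent.Lib.ThickH2
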