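import Mathlib
import Groth.Prelude
import Groth.Agent.Lib.ThickSq3_helper2
import Groth.Agent.Lib.SerreCrit3_helper9
import Groth.Agent.Lib.CMMul1_helper9
import Groth.Agent.Lib.CohDev8_helper8
import Groth.Agent.Lib.FibAmp3_helper2

/-!
# Grothendieck algebraization with an ample invertible module, part 1: lifting sections (helper2)

For an adic system of schemes `X_k` over `Spec (A / I^(k+1))` with `X_0` proper and `L_0` ample:
there is `d₀` such that for `d ≥ d₀` every global section of `L_k^d` lifts to `L_(k+1)^d`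
(`exists_uniform_lift`).
APPEND-ONLY once landed.
-/

set_option autoImplicit false
universe u
open CategoryTheory CategoryTheory.Limits AlgebraicGeometry TopologicalSpace Opposite

namespace Groth.Agent.Lib.GAlgH2

open Formal Groth.Agent.Lib.FormalModPowH4 Groth.Agent.HHVan Groth.Agent.Lib.FormalFnH2
  Groth.Agent.Lib.AmpleFinH2 Groth.Agent.TensInv CohB1 Groth.Agent.Lib.FibAmpH2
  Groth.Agent.Lib.ThickH2

section PwIso

variable {A : Type u} [CommRing A] {X : Scheme.{u}} [X.Over (Spec (CommRingCat.of A))]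
  (I : Ideal A)

/-- `pw` is functorial for isomorphisms -/
noncomputable def pwIso {F F' : X.Modules} (e : F ≅ F') (n : ℕ) : pw I F n ≅ pw I F' n where
  hom := pwMap I e.hom n
  inv := pwMap I e.inv n
  hom_inv_id := by rw [← pwMap_comp, e.hom_inv_id, pwMap_id]
  inv_hom_id := by rw [← pwMap_comp, e.inv_hom_id, pwMap_id]

end PwIso

section Lift

variable {A : Type u} [CommRing A] {X Z : Scheme.{u}} [X.Over (Spec (CommRingCat.of A))]
  [Z.Over (Spec (CommRingCat.of A))] (i : Z ⟶ X) [IsClosedImmersion i]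
  (hi : i ≫ (X ↘ Spec (CommRingCat.of A)) = (Z ↘ Spec (CommRingCat.of A)))
  (I : Ideal A) (n : ℕ)
  (hker : ∀ N : X.Modules, Formal.KilledBy (I ^ n) N → ClSub.KilledByIdeal i.ker N)
  (hZ : ∀ N' : Z.Modules, Formal.KilledBy (I ^ n) N')

include hi hker hZ in
/-- global sections of `i^* M` lift to `M` when `H¹(I^n M) = 0` and the ideal of `i` is `I^n O` -/
theorem exists_lift_of_H1 (M : X.Modules) [M.IsQuasicoherent]
    (h1 : Subsingleton (Coh.HH X (pw I M n) 1))
    (s : ProjUP.Γm ((Scheme.Modules.pullback i).obj M)) :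
    ∃ s' : ProjUP.Γm M, ProjUP.pullSec i M s' = s := by
  obtain ⟨c, hc⟩ := exists_modPow_iso i hi I n hker hZ M
  obtain ⟨b, hb⟩ := SerreCrit.surj_of_H1 (pwSC I M n) (pwSC_shortExact I M n)
    (fun x => Subsingleton.elim _ _)
    ((c.inv.app ⊤).hom (show Γ((Scheme.Modules.pushforward i).obj
      ((Scheme.Modules.pullback i).obj M), ⊤) from s))
  refine ⟨b, ?_⟩
  have hb' : ((Formal.modPowπ I n M).app ⊤).hom b = (c.inv.app ⊤).hom (show Γ((Scheme.Modules.pushforward i).obj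
      ((Scheme.Modules.pullback i).obj M), ⊤) from s) := hb
  have h2 := congrArg (fun ψ : M ⟶ (Scheme.Modules.pushforward i).obj
      ((Scheme.Modules.pullback i).obj M) => (ψ.app ⊤).hom b) hc
  simp only [Scheme.Modules.Hom.comp_app] at h2
  have h3 : (c.hom.app ⊤).hom ((c.inv.app ⊤).hom (show Γ((Scheme.Modules.pushforward i).obj
      ((Scheme.Modules.pullback i).obj M), ⊤) from s)) = s := by
    have h4 : c.inv ≫ c.hom = 𝟙 _ := c.inv_hom_id
    exact congrArg (fun ψ : (Scheme.Modules.pushforward i).obj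
      ((Scheme.Modules.pullback i).obj M) ⟶ (Scheme.Modules.pushforward i).obj
      ((Scheme.Modules.pullback i).obj M) => (ψ.app ⊤).hom (show Γ((Scheme.Modules.pushforward i).obj
      ((Scheme.Modules.pullback i).obj M), ⊤) from s)) h4
  have h5 : ProjUP.pullSec i M b = (Scheme.Modules.Hom.app
      ((Scheme.Modules.pullbackPushforwardAdjunction i).unit.app M) ⊤).hom b := rfl
  rw [h5, ← h2]
  show (c.hom.app ⊤).hom (((Formal.modPowπ I n M).app ⊤).hom b) = s
  rw [hb']
  exact h3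

end Lift

section Tower

variable (A : Type u) [CommRing A] [IsNoetherianRing A] (I : Ideal A)

/-- **Uniform lifting of sections along an adic system.** -/
theorem exists_uniform_lift
    (Xs : ℕ → Scheme.{u}) (p : (k : ℕ) → (Xs k ⟶ Spec (CommRingCat.of (A ⧸ I ^ (k + 1)))))
    (i : (k : ℕ) → (Xs k ⟶ Xs (k + 1)))
    (hcart : ∀ k, IsPullback (i k) (p k) (p (k + 1)) (CohB1.specQuotTrans I k)) (hp : IsProper (p 0))
    (L : (k : ℕ) → (Xs k).Modules) (hL : ∀ k, PicF.IsInvertible (L k))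
    (φ : ∀ k, Nonempty ((Scheme.Modules.pullback (i k)).obj (L (k + 1)) ≅ L k))
    (ha : CohB1.IsAmple (L 0)) :
    ∃ d₀ : ℕ, ∀ k d : ℕ, d₀ ≤ d →
      ∀ s : ProjUP.Γm ((Scheme.Modules.pullback (i k)).obj (CohB1.tensorPow (L (k + 1)) d)),
        ∃ s' : ProjUP.Γm (CohB1.tensorPow (L (k + 1)) d),
          ProjUP.pullSec (i k) (CohB1.tensorPow (L (k + 1)) d) s' = s := by
  letI inst : ∀ k, (Xs k).Over (Spec (CommRingCat.of A)) :=
    fun k => ⟨p k ≫ CohB1.specQuot I k⟩
  have hKK : ∀ k : ℕ, I ^ (k + 1 + 1) ≤ I ^ (k + 1) :=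
    fun k => Ideal.pow_le_pow_right (Nat.le_succ (k + 1))
  haveI hcl : ∀ k, IsClosedImmersion (i k) := fun k =>
    isClosedImmersion_of_sq (hKK k) (p (k + 1)) (p k) (i k) (hcart k)
  have hi : ∀ k, i k ≫ (Xs (k + 1) ↘ Spec (CommRingCat.of A)) =
      (Xs k ↘ Spec (CommRingCat.of A)) := fun k =>
    over_of_sq (hKK k) (p (k + 1)) (p k) rfl rfl (i k) (hcart k)
  have hker : ∀ k (N : (Xs (k + 1)).Modules), Formal.KilledBy (I ^ (k + 1)) N →
      ClSub.KilledByIdeal (i k).ker N := fun k N hN =>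
    killedByIdeal_of_sq (hKK k) (p (k + 1)) (p k) rfl (i k) (hcart k) N hN
  have hkill : ∀ k (N : (Xs k).Modules), Formal.KilledBy (I ^ (k + 1)) N := fun k N =>
    killedBy_of_sq (p k) rfl N
  have hkerι : ∀ k (N : (Xs k).Modules), Formal.KilledBy I N →
      ClSub.KilledByIdeal (iota Xs i k).ker N := fun k N hN =>
    killedByIdeal_of_sq (Ideal.pow_le_pow_right (Nat.succ_le_succ (Nat.zero_le k)))
      (p k) (p 0) rfl (iota Xs i k) (isPullback_iota A I Xs p i hcart k) N
      (fun a ha' => hN a (by simpa using ha'))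
  let F : ∀ k, (Xs k).Modules := fun k => Coh.structureModule (Xs k)
  haveI : ∀ k, (F k).IsQuasicoherent := fun k => SerreCrit.isQuasicoherent_OO
  let ψ' : ∀ k, (Scheme.Modules.pullback (i k)).obj (F (k + 1)) ≅ F k :=
    fun k => PBH8.pullbackUnitIso (i k)
  haveI : IsClosedImmersion (CohB1.specQuot I 0) :=
    IsClosedImmersion.spec_of_surjective _ Ideal.Quotient.mk_surjective
  haveI : IsProper (Xs 0 ↘ Spec (CommRingCat.of A)) :=
    inferInstanceAs (IsProper (p 0 ≫ CohB1.specQuot I 0))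
  haveI : IsLocallyNoetherian (Xs 0) :=
    LocallyOfFiniteType.isLocallyNoetherian (Xs 0 ↘ Spec (CommRingCat.of A))
  obtain ⟨σ, _, a, haJ, hspan⟩ := exists_generators A I
  have h0 : SheafOfModules.IsFiniteType (R := (Xs 0).ringCatSheaf) (QQ I Xs i F 0) := by
    haveI := (isCoh_gr I (F 0) (CohDevH8.isCoh_structureModule (Xs 0)) 0).2
    exact FpqcH8.isFiniteType_pullback (iota Xs i 0) (gr I (F 0) 0)
  obtain ⟨d₀, hd₀⟩ := stageA_ample A (Xs 0) (QQ I Xs i F)
    (fun s n => mm I Xs i hi hker hkill F ψ' (a s) (haJ s) n)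
    (fun s t n => mm_comm I Xs i hi hker hkill F ψ' (a s) (a t) (haJ s) (haJ t) n) h0
    (fun n => epi_muSum_mm I Xs i hi hker hkill F ψ' a haJ hspan n) ha
  refine ⟨d₀, fun k d hd s => ?_⟩
  -- vanishing of `H¹(X_{k+1}, I^{k+1} O ⊗ L^d)`
  have hv : Subsingleton (Coh.HH (Xs (k + 1))
      (tensorMod (gr I (F (k + 1)) (k + 1)) (tensorPow (L (k + 1)) d)) 1) :=
    subsingleton_top I Xs i hkerι F L hL φ (k + 1) d 1 (hd₀ (k + 1) d hd 1 one_pos)
  obtain ⟨e⟩ := nonempty_pw_iso_gr I (F (k + 1)) (k + 1) (hkill (k + 1) (F (k + 1)))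
  have hv' : Subsingleton (Coh.HH (Xs (k + 1))
      (tensorMod (pw I (F (k + 1)) (k + 1)) (tensorPow (L (k + 1)) d)) 1) :=
    Groth.Agent.HHVan.subsingleton_of_iso (mapR e.symm (tensorPow (L (k + 1)) d)) 1 hv
  obtain ⟨K', -, hK'⟩ := Groth.Agent.InvTensP.exists_inverse (tensorPow (L (k + 1)) d)
    (TensH8.isInvertible_tensorPow (hL (k + 1)) d)
  haveI := isEquivalence_tR hK'
  obtain ⟨θ, -⟩ := exists_pw_iso I (F (k + 1)) hK' (k + 1)
  have e2 : pw I ((tR (tensorPow (L (k + 1)) d)).obj (F (k + 1))) (k + 1) ≅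
      pw I (tensorPow (L (k + 1)) d) (k + 1) :=
    pwIso I (Groth.Agent.CMMul.unitorL (tensorPow (L (k + 1)) d)) (k + 1)
  have hv'' : Subsingleton (Coh.HH (Xs (k + 1)) (pw I (tensorPow (L (k + 1)) d) (k + 1)) 1) :=
    Groth.Agent.HHVan.subsingleton_of_iso (θ ≪≫ e2) 1 hv'
  haveI : (tensorPow (L (k + 1)) d).IsQuasicoherent :=
    (TensH8.isQuasicoherent_of_isInvertible (TensH8.isInvertible_tensorPow (hL (k + 1)) d))
  exact exists_lift_of_H1 (i k) (hi k) I (k + 1) (hker k) (hkill k)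
    (tensorPow (L (k + 1)) d) hv'' s

end Tower

end Groth.Agent.Lib.GAlgH2
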