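import Mathlib
import Groth.Prelude
import Groth.Agent.S3572
import Groth.Agent.S3573
import Groth.Agent.Lib.VAmpPn1_helper5
import Groth.Agent.Lib.HypInv3_helper9
import Groth.Agent.Lib.GenLoc2_helper8
import Groth.Agent.Lib.FinPtsGen1_helper5
import Groth.Agent.Lib.Tens30_helper8
import Groth.Agent.Lib.Tens6_helper8
import Groth.Agent.Lib.PPAff2_helper7

/-!
# Grothendieck algebraization with an ample invertible module, part 2: compatible maps to `P^N`
(helper2)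

* `step` : along a morphism `ι : Z ⟶ X` surjective on points with `ι^* M' ≅ M`, `M'` invertible and
  all global sections of `ι^* M'` liftable, a morphism `r : Z ⟶ P^N_ℤ` with `r^* O(1) ≅ M` extends
  to `r' : X ⟶ P^N_ℤ` with `r'^* O(1) ≅ M'`;
* `exists_compatible_maps` : the induction along a tower.
APPEND-ONLY once landed.
-/

set_option autoImplicit false
universe u
open CategoryTheory CategoryTheory.Limits AlgebraicGeometry TopologicalSpace Opposite

namespace Groth.Agent.Lib.GAlgH2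

open QcqsLoc GenLocH8 TensH8 QCohExtn

/-- projective `N`-space over the integers -/
noncomputable abbrev PZ (N : ℕ) : Scheme.{u} := CohB1.ProjSpace N (ULift.{u} ℤ)

/-- `O(1)` on `P^N_ℤ` -/
noncomputable abbrev TZ (N : ℕ) : (PZ.{u} N).Modules := Twist.twistProjSpace N (ULift.{u} ℤ) 1

section Step

variable {N : ℕ} {Z X : Scheme.{u}} (ι : Z ⟶ X)

theorem val_pullbackUnitIso_inv :
    SecTwist.val (PBH8.pullbackUnitIso ι).inv ⊤ =
      ProjUP.pullSec ι (Coh.structureModule X) (SecTwist.val (𝟙 (Coh.structureModule X)) ⊤) := by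
  have h1 := Groth.Agent.Lib.PPAffH7.pullbackUnitIso_pullSect ι ⊤ 1
  have h2 : (PBH8.pullbackUnitIso ι).hom ≫ (PBH8.pullbackUnitIso ι).inv = 𝟙 _ :=
    Iso.hom_inv_id _
  have h3 := congrArg (fun ψ : (Scheme.Modules.pullback ι).obj (Coh.structureModule X) ⟶
    (Scheme.Modules.pullback ι).obj (Coh.structureModule X) => (ψ.app ⊤).hom
      (ProjUP.pullSec ι (Coh.structureModule X) (SecTwist.val (𝟙 (Coh.structureModule X)) ⊤))) h2
  have h4 : (Scheme.Modules.Hom.app (PBH8.pullbackUnitIso ι).hom ⊤).hom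
      (ProjUP.pullSec ι (Coh.structureModule X) (SecTwist.val (𝟙 (Coh.structureModule X)) ⊤)) =
      (1 : Γ(Z, ⊤)) := by
    refine h1.trans ?_
    show (ι.app ⊤).hom 1 = 1
    exact map_one _
  have h5 : SecTwist.val (PBH8.pullbackUnitIso ι).inv ⊤ =
      (Scheme.Modules.Hom.app (PBH8.pullbackUnitIso ι).inv ⊤).hom
        ((Scheme.Modules.Hom.app (PBH8.pullbackUnitIso ι).hom ⊤).hom
          (ProjUP.pullSec ι (Coh.structureModule X)
            (SecTwist.val (𝟙 (Coh.structureModule X)) ⊤))) := by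
    rw [h4]
    rfl
  rw [h5]
  exact h3

theorem step (hsurj : Function.Surjective ι.base) {M' : X.Modules} (hM' : PicF.IsInvertible M')
    {M : Z.Modules} (θ : (Scheme.Modules.pullback ι).obj M' ≅ M)
    (hlift : ∀ s : ProjUP.Γm ((Scheme.Modules.pullback ι).obj M'),
      ∃ s' : ProjUP.Γm M', ProjUP.pullSec ι M' s' = s)
    (r : Z ⟶ PZ.{u} N) (τ : (Scheme.Modules.pullback r).obj (TZ.{u} N) ≅ M) :
    ∃ (r' : X ⟶ PZ.{u} N) (_ : (Scheme.Modules.pullback r').obj (TZ.{u} N) ≅ M'), ι ≫ r' = r := by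
  classical
  -- the sections on `Z`
  let t : Fin (N + 1) → ProjUP.Γm M := fun j =>
    τ.hom.app ⊤ (ProjUP.pullSec r (TZ.{u} N) (ProjUP.coord N (ULift.{u} ℤ) j))
  have hl : ∀ j, ∃ s' : ProjUP.Γm M', ProjUP.pullSec ι M' s' = θ.inv.app ⊤ (t j) :=
    fun j => hlift _
  choose s' hs' using hl
  let σ : Fin (N + 1) → (Coh.structureModule Z ⟶ M) := fun j => homOfSec M (t j)
  let σ' : Fin (N + 1) → (Coh.structureModule X ⟶ M') := fun j => homOfSec M' (s' j)
  have hσ : ∀ j, SecTwist.val (σ j) ⊤ = t j := fun j => by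
    show SecTwist.val (homOfSec M (t j)) ⊤ = t j
    rw [val_homOfSec]
    exact HomLinH8.rF_self _ _ _
  have hσ' : ∀ j, SecTwist.val (σ' j) ⊤ = s' j := fun j => by
    show SecTwist.val (homOfSec M' (s' j)) ⊤ = s' j
    rw [val_homOfSec]
    exact HomLinH8.rF_self _ _ _
  have hcomp : ∀ j, σ j = ((PBH8.pullbackUnitIso ι).symm.hom ≫
      (Scheme.Modules.pullback ι).map (σ' j)) ≫ θ.hom := by
    intro j
    apply hom_ext_of_val
    rw [hσ]
    show t j = θ.hom.app ⊤ (((Scheme.Modules.pullback ι).map (σ' j)).app ⊤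
      (SecTwist.val (PBH8.pullbackUnitIso ι).inv ⊤))
    rw [val_pullbackUnitIso_inv, HypInv.map_pullSec]
    have h1 : (σ' j).app ⊤ (SecTwist.val (𝟙 (Coh.structureModule X)) ⊤) = s' j := hσ' j
    rw [h1, hs' j]
    have h2 : θ.inv ≫ θ.hom = 𝟙 _ := θ.inv_hom_id
    exact (congrArg (fun ψ : M ⟶ M => ψ.app ⊤ (t j)) h2).symm
  have hτ : ∀ j, τ.hom.app ⊤ (ProjUP.pullSec r (Twist.twist (CohB1.polyGrading N (ULift.{u} ℤ)) 1)
      (Groth.Agent.ProjUPU.sig (CohB1.polyGrading N (ULift.{u} ℤ))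
        (Groth.Agent.VAmpPn.hX N j))) = SecTwist.val (σ j) ⊤ := fun j => (hσ j).symm
  have hcov : ∀ x : X, ∃ j, x ∈ CohB1.genLocus M' (σ' j) := by
    intro x
    obtain ⟨z, rfl⟩ := hsurj x
    obtain ⟨j, hj⟩ := Groth.Agent.VAmpPn.hcovX (R := ULift.{u} ℤ) N (r.base z)
    refine ⟨j, ?_⟩
    have h1 : z ∈ CohB1.genLocus M (σ j) := Groth.Agent.VAmpPn.le_genLocus r τ σ hτ j hj
    rw [hcomp j, Groth.Agent.FinPtsGen.genLocus_comp_iso,
      GenLocH8.genLocus_pullback ι M' hM' (σ' j) (PBH8.pullbackUnitIso ι).symm] at h1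
    exact h1
  have hgen := Groth.Agent.VAmpPn.generatedBy_of_cover σ' hcov
  obtain ⟨r', -, τ', hτ'⟩ := Groth.Agent.S3572.result (R := ULift.{u} ℤ) N
    (specULiftZIsTerminal.from X) M' hM'
    (fun j => (SecTwist.val (σ' j) ⊤ : ProjUP.Γm M')) hgen
  refine ⟨r', τ', ?_⟩
  symm
  refine Groth.Agent.S3573.result N r (ι ≫ r') (specULiftZIsTerminal.hom_ext _ _)
    (τ ≪≫ θ.symm ≪≫ (Scheme.Modules.pullback ι).mapIso τ'.symm ≪≫
      (Scheme.Modules.pullbackComp ι r').app (TZ.{u} N)) ?_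
  intro j
  show ((Scheme.Modules.pullbackComp ι r').hom.app (TZ.{u} N)).app ⊤
    (((Scheme.Modules.pullback ι).map τ'.inv).app ⊤ (θ.inv.app ⊤ (t j))) = _
  have e2 : τ'.inv.app ⊤ (s' j) = ProjUP.pullSec r' (TZ.{u} N) (ProjUP.coord N (ULift.{u} ℤ) j) := by
    rw [← hσ' j, ← hτ' j]
    have h2 : τ'.hom ≫ τ'.inv = 𝟙 _ := τ'.hom_inv_id
    exact congrArg (fun ψ : (Scheme.Modules.pullback r').obj (TZ.{u} N) ⟶
      (Scheme.Modules.pullback r').obj (TZ.{u} N) => ψ.app ⊤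
        (ProjUP.pullSec r' (TZ.{u} N) (ProjUP.coord N (ULift.{u} ℤ) j))) h2
  rw [← hs' j, HypInv.map_pullSec, e2, HypInv.pullbackComp_hom_pullSec]

end Step

section Tower

variable {N : ℕ} (Xs : ℕ → Scheme.{u}) (i : ∀ k, Xs k ⟶ Xs (k + 1)) (M : ∀ k, (Xs k).Modules)

/-- **Compatible maps to projective space along a tower.** -/
theorem exists_compatible_maps (hM : ∀ k, PicF.IsInvertible (M k))
    (θ : ∀ k, (Scheme.Modules.pullback (i k)).obj (M (k + 1)) ≅ M k)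
    (hsurj : ∀ k, Function.Surjective (i k).base)
    (hlift : ∀ k (s : ProjUP.Γm ((Scheme.Modules.pullback (i k)).obj (M (k + 1)))),
      ∃ s' : ProjUP.Γm (M (k + 1)), ProjUP.pullSec (i k) (M (k + 1)) s' = s)
    (r₀ : Xs 0 ⟶ PZ.{u} N) (τ₀ : (Scheme.Modules.pullback r₀).obj (TZ.{u} N) ≅ M 0) :
    ∃ r : ∀ k, Xs k ⟶ PZ.{u} N, r 0 = r₀ ∧ ∀ k, i k ≫ r (k + 1) = r k := by
  let D : ℕ → Type u := fun k =>
    {r : Xs k ⟶ PZ.{u} N // Nonempty ((Scheme.Modules.pullback r).obj (TZ.{u} N) ≅ M k)}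
  have hstep : ∀ k (d : D k), ∃ d' : D (k + 1), i k ≫ d'.1 = d.1 := by
    rintro k ⟨r, ⟨τ⟩⟩
    obtain ⟨r', τ', h⟩ := step (i k) (hsurj k) (hM (k + 1)) (θ k) (hlift k) r τ
    exact ⟨⟨r', ⟨τ'⟩⟩, h⟩
  let seq : ∀ k, D k := fun k =>
    Nat.rec (motive := D) ⟨r₀, ⟨τ₀⟩⟩ (fun k d => (hstep k d).choose) k
  exact ⟨fun k => (seq k).1, rfl, fun k => (hstep k (seq k)).choose_spec⟩

end Tower

end Groth.Agent.Lib.GAlgH2
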