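import Mathlib
import Groth.Prelude
import Groth.Agent.Lib.GEx13_helper2
import Groth.Agent.Lib.ProperOver_helper9
import Groth.Agent.Lib.SupportCoh_helper9
import Groth.Agent.Lib.SuppTens2_helper8
import Groth.Agent.Lib.AnnSh2_helper8
import Groth.Agent.Lib.Exist4_helper2

/-!
# Supports proper over the base: toolkit for Grothendieck existence with proper supports (helper2)

* `support_subset_of_mono`, `support_subset_of_epi`, `support_subset_union_of_isPullback`,
  `support_pushforward_subset`;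
* `PSupp A M` : the support of `M` is proper over `Spec A`; `pSupp_of_mono`, `pSupp_of_epi`,
  `pSupp_of_isPullback`, `pSupp_pushforward`, `pSupp_pullback`, `pSupp_level`;
* `mem_support_of_isQuot` : `Supp (M / I^n M) ⊇ Supp M ∩ V(I)`;
  `support_subset_of_isQuot_of_killed`;
* `support_subset_of_support_modPow_subset` : over a complete base, a coherent module on a proper scheme
  is supported in every open containing the support of `M / I M`.
APPEND-ONLY once landed.
-/

set_option autoImplicit false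
set_option backward.isDefEq.respectTransparency false
set_option linter.style.haveILetI false
set_option linter.unusedSectionVars false
universe u
open CategoryTheory CategoryTheory.Limits AlgebraicGeometry TopologicalSpace Opposite

namespace Groth.Agent.Lib.GExH2

open Formal Groth.Agent.Lib.FormalModPowH4 Groth.Agent.Lib.FormalFnH2 Groth.Agent.Lib.FibAmpH2
  Groth.Agent.Lib.FlatBCH2 Groth.Agent.Lib.FibVanH2 Groth.Agent.Lib.FormalQuotH2
  Groth.Agent.Lib.AdicSysH2 Groth.Agent.Lib.LimTruncH2 QcqsLoc Groth.Agent.Lib.ThickH2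

section SuppCat

variable {X : Scheme.{u}}

theorem shortExact_of_mono {M N : X.Modules} (f : M ⟶ N) [Mono f] :
    (ShortComplex.mk f (cokernel.π f) (cokernel.condition f)).ShortExact :=
  { exact := ShortComplex.exact_cokernel f
    mono_f := ‹Mono f›
    epi_g := inferInstanceAs (Epi (cokernel.π f)) }

theorem shortExact_of_epi {M N : X.Modules} (g : M ⟶ N) [Epi g] :
    (ShortComplex.mk (kernel.ι g) g (kernel.condition g)).ShortExact :=
  { exact := ShortComplex.exact_kernel g
    mono_f := inferInstanceAs (Mono (kernel.ι g))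
    epi_g := ‹Epi g› }

theorem support_subset_of_mono {M N : X.Modules} (f : M ⟶ N) [Mono f] :
    CohB1.support M ⊆ CohB1.support N := by
  intro x hx
  show ¬ Subsingleton (N.presheaf.stalk x)
  intro h
  exact hx (SupportCoh.subsingleton_stalk_X₁ _ (shortExact_of_mono f) x h)

theorem support_subset_of_epi {M N : X.Modules} [M.IsQuasicoherent] [N.IsQuasicoherent]
    (g : M ⟶ N) [Epi g] : CohB1.support N ⊆ CohB1.support M := by
  intro x hx
  show ¬ Subsingleton (M.presheaf.stalk x)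
  intro h
  haveI : (ShortComplex.mk (kernel.ι g) g (kernel.condition g)).X₂.IsQuasicoherent :=
    ‹M.IsQuasicoherent›
  haveI : (ShortComplex.mk (kernel.ι g) g (kernel.condition g)).X₃.IsQuasicoherent :=
    ‹N.IsQuasicoherent›
  exact hx (SupportCoh.subsingleton_stalk_X₃ _ (shortExact_of_epi g) x h)

theorem support_subset_union_of_isPullback {P M N Z : X.Modules} {fst : P ⟶ M} {snd : P ⟶ N}
    {f : M ⟶ Z} {g : N ⟶ Z} (sq : IsPullback fst snd f g) :
    CohB1.support P ⊆ CohB1.support M ∪ CohB1.support N := by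
  intro x hx
  by_contra hc
  rw [Set.mem_union, not_or] at hc
  have hM : Subsingleton (M.presheaf.stalk x) := not_not.mp hc.1
  have hN : Subsingleton (N.presheaf.stalk x) := not_not.mp hc.2
  apply hx
  rw [SupportCoh.subsingleton_stalk_iff]
  intro U hxU s
  obtain ⟨W1, hxW1, i1, h1⟩ :=
    SupportCoh.exists_res_eq_zero M hxU (fst.app U s) (Subsingleton.elim _ _)
  obtain ⟨W2, hxW2, i2, h2⟩ := SupportCoh.exists_res_eq_zero N hxW1
    (snd.app W1 (P.presheaf.map i1.op s)) (Subsingleton.elim _ _)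
  have e1 : fst.app W2 (P.presheaf.map i2.op (P.presheaf.map i1.op s)) = fst.app W2 0 := by
    rw [QCohCrit.app_naturality, QCohCrit.app_naturality, h1, map_zero, map_zero]
  have e2 : snd.app W2 (P.presheaf.map i2.op (P.presheaf.map i1.op s)) = snd.app W2 0 := by
    rw [QCohCrit.app_naturality, h2, map_zero]
  have e3 := isPullback_sec_ext sq W2 _ _ e1 e2
  have h3 := SupportCoh.germ_eq_zero_of_res P hxW2 i2 _ e3
  rw [TopCat.Presheaf.germ_res_apply] at h3
  exact h3

theorem support_pushforward_subset {X Y : Scheme.{u}} (f : X ⟶ Y) (F : X.Modules) :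
    CohB1.support ((Scheme.Modules.pushforward f).obj F) ⊆ closure (f '' CohB1.support F) := by
  intro y hy
  by_contra hc
  apply hy
  have hV : IsOpen (closure (f '' CohB1.support F))ᶜ := isClosed_closure.isOpen_compl
  obtain ⟨V, hVdef⟩ : ∃ V : Y.Opens, (V : Set Y) = (closure (f '' CohB1.support F))ᶜ :=
    ⟨⟨_, hV⟩, rfl⟩
  have hyV : y ∈ V := by
    show y ∈ (V : Set Y)
    rw [hVdef]
    exact hc
  rw [SupportCoh.subsingleton_stalk_iff]
  intro U hyU s
  haveI hsub : Subsingleton Γ((Scheme.Modules.pushforward f).obj F, U ⊓ V) := by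
    show Subsingleton Γ(F, f ⁻¹ᵁ (U ⊓ V))
    refine QCohCrit.subsingleton_sections F _ (fun x hx => ?_)
    by_contra hns
    have hx2 : f x ∈ (V : Set Y) := hx.2
    rw [hVdef] at hx2
    exact hx2 (subset_closure ⟨x, hns, rfl⟩)
  have h0 : ((Scheme.Modules.pushforward f).obj F).presheaf.map
      (homOfLE (inf_le_left : U ⊓ V ≤ U)).op s = 0 := Subsingleton.elim _ _
  exact SupportCoh.germ_eq_zero_of_res _ (⟨hyU, hyV⟩ : y ∈ U ⊓ V) (homOfLE inf_le_left) s h0

end SuppCat

section PSupp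

variable (A : Type u) [CommRing A] {X : Scheme.{u}} [X.Over (Spec (CommRingCat.of A))]

/-- the support of `M` is proper over `Spec A` -/
def PSupp (M : X.Modules) : Prop :=
  ClSub.IsProperOver (X ↘ Spec (CommRingCat.of A)) (CohB1.support M)

variable {A}

theorem pSupp_of_subset {M N : X.Modules} (hN : PSupp A N) (hM : Coh.IsCoh M)
    (h : CohB1.support M ⊆ CohB1.support N) : PSupp A M := by
  haveI := hM.1
  haveI := hM.2
  exact ProperOver.isProperOver_of_subset _ hN (SupportCoh.isClosed_support M) h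

theorem pSupp_of_mono {M N : X.Modules} (f : M ⟶ N) [Mono f] (hM : Coh.IsCoh M)
    (hN : PSupp A N) : PSupp A M :=
  pSupp_of_subset hN hM (support_subset_of_mono f)

theorem pSupp_of_epi {M N : X.Modules} (f : M ⟶ N) [Epi f] (hM : Coh.IsCoh M)
    (hN : Coh.IsCoh N) (hPM : PSupp A M) : PSupp A N := by
  haveI := hM.1
  haveI := hN.1
  exact pSupp_of_subset hPM hN (support_subset_of_epi f)

theorem pSupp_of_isPullback [LocallyOfFiniteType (X ↘ Spec (CommRingCat.of A))]
    {P M N Z : X.Modules} {fst : P ⟶ M} {snd : P ⟶ N}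
    {f : M ⟶ Z} {g : N ⟶ Z} (sq : IsPullback fst snd f g) (hP : Coh.IsCoh P)
    (hM : PSupp A M) (hN : PSupp A N) : PSupp A P := by
  haveI := hP.1
  haveI := hP.2
  exact ProperOver.isProperOver_of_subset _ (ProperOver.isProperOver_union _ hM hN)
    (SupportCoh.isClosed_support P) (support_subset_union_of_isPullback sq)

theorem pSupp_pushforward {Y : Scheme.{u}} [Y.Over (Spec (CommRingCat.of A))]
    [LocallyOfFiniteType (Y ↘ Spec (CommRingCat.of A))] (f : X ⟶ Y) [UniversallyClosed f]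
    (hf : f ≫ (Y ↘ Spec (CommRingCat.of A)) = (X ↘ Spec (CommRingCat.of A)))
    {F : X.Modules} (hF : PSupp A F) (hc : Coh.IsCoh ((Scheme.Modules.pushforward f).obj F)) :
    PSupp A ((Scheme.Modules.pushforward f).obj F) := by
  have h1 := ProperOver.isProperOver_image_of_universallyClosed
    (X ↘ Spec (CommRingCat.of A)) (Y ↘ Spec (CommRingCat.of A)) f hf _ hF
  haveI := hc.1
  haveI := hc.2
  refine ProperOver.isProperOver_of_subset _ h1 (SupportCoh.isClosed_support _) ?_
  have h2 := support_pushforward_subset f F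
  obtain ⟨hcl, -⟩ := h1
  rwa [hcl.closure_eq] at h2

theorem pSupp_pullback {Y : Scheme.{u}} [Y.Over (Spec (CommRingCat.of A))]
    [LocallyOfFiniteType (X ↘ Spec (CommRingCat.of A))] (f : X ⟶ Y) [IsProper f]
    (hf : f ≫ (Y ↘ Spec (CommRingCat.of A)) = (X ↘ Spec (CommRingCat.of A)))
    {F : Y.Modules} (hF : Coh.IsCoh F) (hP : PSupp A F) :
    PSupp A ((Scheme.Modules.pullback f).obj F) := by
  haveI := hF.1
  haveI := hF.2
  show ClSub.IsProperOver _ (CohB1.support ((Scheme.Modules.pullback f).obj F))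
  rw [SuppTensH8.support_pullback f F]
  exact ProperOver.isProperOver_preimage_of_isProper _ _ f hf _ hP

end PSupp

section Quot

variable (A : Type u) [CommRing A] (I : Ideal A) {X : Scheme.{u}}
  [X.Over (Spec (CommRingCat.of A))]

theorem rU_mem_primeIdealOf {U : X.Opens} (hU : IsAffineOpen U) {x : X} (hxU : x ∈ U) (a : A)
    (ha : a ∈ ((X ↘ Spec (CommRingCat.of A)) x : PrimeSpectrum A).asIdeal) :
    rU (X := X) a U ∈ (hU.primeIdealOf ⟨x, hxU⟩).asIdeal := by
  by_contra h
  have h1 : x ∈ X.basicOpen (rU (X := X) a U) := (AnnShH8.mem_basicOpen_iff hU hxU _).mpr h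
  obtain ⟨g, hg⟩ : ∃ g : Γ(X, ⊤), g = Coh.toGlobal (X ↘ Spec (CommRingCat.of A)) a := ⟨_, rfl⟩
  have e : rU (X := X) a U = (X.presheaf.map (homOfLE (le_top : U ≤ ⊤)).op).hom g := by
    rw [hg]
    rfl
  rw [e, Scheme.basicOpen_res] at h1
  have h2 : x ∈ X.basicOpen g := h1.2
  have hb := basicOpen_eq_of_affine (R := CommRingCat.of A) a
  have hbo : X.basicOpen g = (X ↘ Spec (CommRingCat.of A)) ⁻¹ᵁ
      ((Spec (CommRingCat.of A)).basicOpen ((Scheme.ΓSpecIso (CommRingCat.of A)).inv a)) := by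
    rw [hg]
    exact (Scheme.preimage_basicOpen_top _ _).symm
  rw [hbo] at h2
  have h3 : ((X ↘ Spec (CommRingCat.of A)) x : PrimeSpectrum A) ∈
      (Spec (CommRingCat.of A)).basicOpen ((Scheme.ΓSpecIso (CommRingCat.of A)).inv a) := h2
  rw [hb] at h3
  exact (PrimeSpectrum.mem_basicOpen _ _).mp h3 ha

variable [AlgebraicGeometry.IsNoetherian X]

/-- `Supp (M / I^n M) ⊇ Supp M ∩ V(I)`, on an affine chart -/
theorem mem_support_of_isQuot {M N : X.Modules} (hM : Coh.IsCoh M) [N.IsQuasicoherent] {n : ℕ}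
    (hn : n ≠ 0) {t : M ⟶ N} (ht : IsQuot (I ^ n) t) {U : X.Opens} (hU : IsAffineOpen U)
    {x : X} (hxU : x ∈ U) (hxM : x ∈ CohB1.support M)
    (hJ : ∀ a ∈ I, rU (X := X) a U ∈ (hU.primeIdealOf ⟨x, hxU⟩).asIdeal) :
    x ∈ CohB1.support N := by
  haveI := hM.1
  haveI := hM.2
  haveI := QCohFT.finite_of_isFiniteType M hU
  haveI := ht.2.1
  rw [← AnnSh2H8.mem_support_iff N hU hxU]
  rw [← AnnSh2H8.mem_support_iff M hU hxU] at hxM
  have hsurj : Function.Surjective (sl t U) := sl_surjective_of_epi t hU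
  have hker : LinearMap.ker (sl t U) =
      (JU A I U) ^ n • (⊤ : Submodule Γ(X, U) Γ(M, U)) := ht.ker_sl A I hU
  let e : (Γ(M, U) ⧸ ((JU A I U) ^ n • (⊤ : Submodule Γ(X, U) Γ(M, U)))) ≃ₗ[Γ(X, U)] Γ(N, U) :=
    (Submodule.quotEquivOfEq _ _ hker.symm).trans ((sl t U).quotKerEquivOfSurjective hsurj)
  rw [← e.support_eq, Module.support_quotient]
  refine ⟨hxM, ?_⟩
  rw [PrimeSpectrum.mem_zeroLocus]
  have h1 : JU A I U ≤ (hU.primeIdealOf ⟨x, hxU⟩).asIdeal := by
    rw [Ideal.map_le_iff_le_comap]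
    intro a ha
    exact hJ a ha
  exact (Ideal.pow_le_self hn).trans h1

theorem support_subset_of_isQuot_of_killed {M N : X.Modules} (hM : Coh.IsCoh M)
    [N.IsQuasicoherent] {n k : ℕ} (hn : n ≠ 0) {t : M ⟶ N} (ht : IsQuot (I ^ n) t)
    (hk : Formal.KilledBy (I ^ k) M) : CohB1.support M ⊆ CohB1.support N := by
  intro x hx
  obtain ⟨U, hU, hxU, -⟩ := Opens.isBasis_iff_nbhd.mp X.isBasis_affineOpens (Opens.mem_top x)
  have hU' : IsAffineOpen U := hU
  refine mem_support_of_isQuot A I hM hn ht hU' hxU hx (fun a ha => ?_)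
  haveI := hM.1
  haveI := hM.2
  haveI := QCohFT.finite_of_isFiniteType M hU'
  have hx' := (AnnSh2H8.mem_support_iff M hU' hxU).mpr hx
  rw [Module.mem_support_iff_of_finite] at hx'
  have hann : (rU (X := X) a U) ^ k ∈ Module.annihilator Γ(X, U) Γ(M, U) := by
    rw [Module.mem_annihilator]
    intro m
    refine eq_zero_of_mem_smul_top_of_killed A I hk U _ ?_
    refine Submodule.smul_mem_smul ?_ Submodule.mem_top
    refine Ideal.pow_mem_pow ?_ k
    exact Ideal.mem_map_of_mem (rUHom (A := A) U) ha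
  exact (hU'.primeIdealOf ⟨x, hxU⟩).isPrime.mem_of_pow_mem k (hx' hann)

theorem pSupp_level {G : ℕᵒᵖ ⥤ X.Modules} (hG : Formal.IsCohFormal I G)
    (h0 : PSupp A (G.obj (op 0))) (n : ℕ) : PSupp A (G.obj (op n)) := by
  haveI : (Gn G 0).IsQuasicoherent := (hG.1 0).1
  refine pSupp_of_subset h0 (hG.1 n) ?_
  exact support_subset_of_isQuot_of_killed A I (hG.1 n) (n := 0 + 1) (k := n + 1)
    (Nat.succ_ne_zero 0) (isQuot_gm hG (Nat.zero_le n)) (hG.2.1 n)

end Quot

section Nak

variable (A : Type u) [CommRing A] [IsNoetherianRing A] (I : Ideal A) [IsAdicComplete I A]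

/-- over a complete base, a coherent module on a proper scheme is supported in every open containing
the support of its reduction modulo `I` -/
theorem support_subset_of_support_modPow_subset (Y : Scheme.{u})
    [Y.Over (Spec (CommRingCat.of A))] [IsProper (Y ↘ Spec (CommRingCat.of A))]
    {F : Y.Modules} (hF : Coh.IsCoh F) (V : Y.Opens)
    (hV : CohB1.support (Formal.modPow I 1 F) ⊆ (V : Set Y)) :
    CohB1.support F ⊆ (V : Set Y) := by
  haveI : AlgebraicGeometry.IsNoetherian Y :=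
    { __ := LocallyOfFiniteType.isLocallyNoetherian (Y ↘ Spec (CommRingCat.of A))
      __ := QuasiCompact.compactSpace_of_compactSpace (Y ↘ Spec (CommRingCat.of A)) }
  haveI := hF.1
  haveI := hF.2
  haveI : (Formal.modPow I 1 F).IsQuasicoherent := isQuasicoherent_modPow I F 1
  intro y hy
  by_contra hyV
  have hC : IsClosed (CohB1.support F ∩ (V : Set Y)ᶜ) :=
    (SupportCoh.isClosed_support F).inter V.isOpen.isClosed_compl
  have hpC : IsClosed ((Y ↘ Spec (CommRingCat.of A)) '' (CohB1.support F ∩ (V : Set Y)ᶜ)) :=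
    (Y ↘ Spec (CommRingCat.of A)).isClosedMap _ hC
  obtain ⟨𝔞, h𝔞⟩ := (PrimeSpectrum.isClosed_iff_zeroLocus_ideal _).mp hpC
  have hne : 𝔞 ≠ ⊤ := by
    intro h
    have hmem : (Y ↘ Spec (CommRingCat.of A)) y ∈
        (Y ↘ Spec (CommRingCat.of A)) '' (CohB1.support F ∩ (V : Set Y)ᶜ) := ⟨y, ⟨hy, hyV⟩, rfl⟩
    rw [h𝔞, h] at hmem
    rw [PrimeSpectrum.mem_zeroLocus] at hmem
    exact ((Y ↘ Spec (CommRingCat.of A)) y : PrimeSpectrum A).isPrime.ne_top
      (top_le_iff.mp hmem)
  obtain ⟨𝔪, h𝔪max, h𝔪le⟩ := Ideal.exists_le_maximal 𝔞 hne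
  have hmem : (⟨𝔪, h𝔪max.isPrime⟩ : PrimeSpectrum A) ∈
      (Y ↘ Spec (CommRingCat.of A)) '' (CohB1.support F ∩ (V : Set Y)ᶜ) := by
    rw [h𝔞]
    exact (PrimeSpectrum.mem_zeroLocus _ _).mpr h𝔪le
  obtain ⟨z, ⟨hzF, hzV⟩, hz⟩ := hmem
  have hI : I ≤ 𝔪 := (IsAdicComplete.le_jacobson_bot I).trans (sInf_le ⟨bot_le, h𝔪max⟩)
  obtain ⟨U, hU, hzU, -⟩ := Opens.isBasis_iff_nbhd.mp Y.isBasis_affineOpens (Opens.mem_top z)
  have hU' : IsAffineOpen U := hU
  apply hzV
  apply hV
  refine mem_support_of_isQuot A I hF (n := 1) one_ne_zero (isQuot_modPowπ I 1 F) hU' hzU hzF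
    (fun a ha => ?_)
  refine rU_mem_primeIdealOf A hU' hzU a ?_
  rw [hz]
  exact hI ha

end Nak

end Groth.Agent.Lib.GExH2
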