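import Mathlib
import Groth.Prelude
import Groth.Agent.Lib.GEx14_helper2

/-!
# Grothendieck existence, two-ideal step, relative to a class of modules (helper2)

`exists_of_epi_P`, `main0830_P` : the statements `exists_of_epi`, `main0830` (GEx05, GEx06) for coherent modules
satisfying a predicate `P` stable under coherent submodules, quotients and fibre products (e.g. proper support).
The proofs are those of GEx05/GEx06 with the predicate carried along.
APPEND-ONLY once landed.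
-/

set_option autoImplicit false
set_option backward.isDefEq.respectTransparency false
set_option linter.style.haveILetI false
set_option linter.unusedSectionVars false
universe u
open CategoryTheory CategoryTheory.Limits AlgebraicGeometry TopologicalSpace Opposite

namespace Groth.Agent.Lib.GExH2

open Formal Groth.Agent.Lib.FormalModPowH4 Groth.Agent.Lib.FormalFnH2 Groth.Agent.Lib.FibAmpH2
  Groth.Agent.Lib.FlatBCH2 Groth.Agent.Lib.FibVanH2 Groth.Agent.Lib.FormalQuotH2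
  Groth.Agent.Lib.AdicSysH2 Groth.Agent.Lib.LimTruncH2 QcqsLoc

section MainP

variable (A : Type u) [CommRing A] (I : Ideal A) (X : Scheme.{u})
  [X.Over (Spec (CommRingCat.of A))] [AlgebraicGeometry.IsNoetherian X]
  (P : X.Modules → Prop)
  (hPmono : ∀ (M N : X.Modules) (f : M ⟶ N), Mono f → Coh.IsCoh M → P N → P M)
  (hPepi : ∀ (M N : X.Modules) (f : M ⟶ N), Epi f → Coh.IsCoh M → Coh.IsCoh N → P M → P N)
  (hPpb : ∀ (Q M N Z : X.Modules) (fst : Q ⟶ M) (snd : Q ⟶ N) (f : M ⟶ Z) (g : N ⟶ Z),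
    IsPullback fst snd f g → Coh.IsCoh Q → P M → P N → P Q)

include hPepi hPpb in
open Groth.Agent.Lib.ARSerreH4 in
/-- the epimorphic case of the two-ideal existence step, relative to `P` -/
theorem exists_of_epi_P (K : X.IdealSheafData) (F : ℕᵒᵖ ⥤ X.Modules)
    (hF : Formal.IsCohFormal I F)
    (hPF : ∀ n, P (F.obj (op n)))
    (h₁ : ∀ e : ℕ,
      (∀ (M N : X.Modules), Coh.IsCoh M → Coh.IsCoh N → P M → P N →
        ClSub.KilledByIdeal (K ^ e) M →
        ClSub.KilledByIdeal (K ^ e) N → ∀ ψ : Formal.completion I M ⟶ Formal.completion I N,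
          ∃! φ : M ⟶ N, ∀ n : ℕ, Formal.modPowπ I (n + 1) M ≫ ψ.app (op n) =
            φ ≫ Formal.modPowπ I (n + 1) N) ∧
      (∀ G : ℕᵒᵖ ⥤ X.Modules, Formal.IsCohFormal I G → (∀ n : ℕ, P (G.obj (op n))) →
        (∀ n : ℕ, ClSub.KilledByIdeal (K ^ e) (G.obj (op n))) →
        ∃ M : X.Modules, Coh.IsCoh M ∧ P M ∧ ClSub.KilledByIdeal (K ^ e) M ∧
          Nonempty (Formal.completion I M ≅ G)))
    (N : X.Modules) (hN : Coh.IsCoh N) (hPN : P N) (θ : F ⟶ Formal.completion I N)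
    (hθ : ∀ n, Epi (θ.app (op n))) (t : ℕ)
    (hker : ∀ n, ClSub.KilledByIdeal (K ^ t) (kernel (θ.app (op n)))) :
    ∃ M : X.Modules, Coh.IsCoh M ∧ P M ∧ Nonempty (Formal.completion I M ≅ F) := by
  haveI := hN.1
  haveI hqF : ∀ n, (Gn F n).IsQuasicoherent := fun n => (hF.1 n).1
  obtain ⟨πN, hπN⟩ : ∃ πN : ∀ n, N ⟶ Gn (Formal.completion I N) n,
      πN = fun n => Formal.modPowπ I (n + 1) N := ⟨_, rfl⟩
  have hcN : IsComplOf I N (Formal.completion I N) πN := by
    rw [hπN]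
    exact isComplOf_completion I N
  haveI hqN : ∀ n, (Gn (Formal.completion I N) n).IsQuasicoherent :=
    fun n => hcN.isQuasicoherent n
  obtain ⟨S, hSfin, hS, hcov⟩ := exists_finite_affine_cover (X := X)
  obtain ⟨e, hcrux⟩ := exists_crux K hF hcN θ hθ t hker S hSfin hS
  -- the system `F/K^e F`
  have hFe : Formal.IsCohFormal I (F ⋙ Qf (K ^ e)) := isCohFormal_comp_Qf (K ^ e) hF
  obtain ⟨Fm, hFm, hPFm, hFmk, ⟨ζ⟩⟩ := (h₁ e).2 (F ⋙ Qf (K ^ e)) hFe
    (fun n => hPepi _ _ (ηa (K ^ e) (Gn F n)) inferInstance (hF.1 n)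
      (isCoh_Qf (K ^ e) (hF.1 n)) (hPF n)) (fun n => killed_Qf (K ^ e) _)
  haveI := hFm.1
  obtain ⟨τe, hτe⟩ : ∃ τe : ∀ n, Fm ⟶ Gn (F ⋙ Qf (K ^ e)) n,
      τe = fun n => Formal.modPowπ I (n + 1) Fm ≫ ζ.hom.app (op n) := ⟨_, rfl⟩
  have hcFm : IsComplOf I Fm (F ⋙ Qf (K ^ e)) τe := by
    rw [hτe]
    exact isComplOf_of_iso (isComplOf_completion I Fm) ζ
  -- `N/K^e N`
  have hNe : Coh.IsCoh ((Qf (K ^ e)).obj N) := isCoh_Qf (K ^ e) hN
  haveI := hNe.1
  obtain ⟨πe, hπe⟩ : ∃ πe : ∀ n, (Qf (K ^ e)).obj N ⟶ Gn (Formal.completion I N ⋙ Qf (K ^ e)) n,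
      πe = fun n => (Qf (K ^ e)).map (πN n) := ⟨_, rfl⟩
  have hcNe : IsComplOf I ((Qf (K ^ e)).obj N) (Formal.completion I N ⋙ Qf (K ^ e)) πe := by
    rw [hπe]
    exact isComplOf_comp_Qf (K ^ e) hcN
  -- `θ_e`
  obtain ⟨θe, hθe⟩ : ∃ θe : F ⋙ Qf (K ^ e) ⟶ Formal.completion I N ⋙ Qf (K ^ e),
      ∀ n, θe.app (op n) = (Qf (K ^ e)).map (θ.app (op n)) :=
    ⟨Functor.whiskerRight θ (Qf (K ^ e)), fun n => rfl⟩
  obtain ⟨u, hu, -⟩ := hcFm.existsUnique_of_FF hcNe
    ((h₁ e).1 Fm ((Qf (K ^ e)).obj N) hFm hNe hPFm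
      (hPepi _ _ (ηa (K ^ e) N) inferInstance hN hNe hPN) hFmk (killed_Qf (K ^ e) N)) θe
  -- the projections
  obtain ⟨p, hp⟩ : ∃ p : Formal.completion I N ⟶ Formal.completion I N ⋙ Qf (K ^ e),
      ∀ n, p.app (op n) = ηa (K ^ e) (Gn (Formal.completion I N) n) :=
    ⟨{ app := fun k => ηa (K ^ e) ((Formal.completion I N).obj k)
       naturality := fun _ _ f => ηf_naturality (K ^ e) _ }, fun n => rfl⟩
  obtain ⟨qF, hqF'⟩ : ∃ qF : F ⟶ F ⋙ Qf (K ^ e), ∀ n, qF.app (op n) = ηa (K ^ e) (Gn F n) :=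
    ⟨{ app := fun k => ηa (K ^ e) (F.obj k)
       naturality := fun _ _ f => ηf_naturality (K ^ e) _ }, fun n => rfl⟩
  have hpq : ∀ n, πN n ≫ p.app (op n) = ηa (K ^ e) N ≫ πe n := by
    intro n
    rw [hp n, hπe]
    exact ηf_naturality (K ^ e) _
  -- `F*`
  have sq : IsPullback (pullback.fst u (ηa (K ^ e) N)) (pullback.snd u (ηa (K ^ e) N)) u
      (ηa (K ^ e) N) := IsPullback.of_hasPullback u (ηa (K ^ e) N)
  have hFs : Coh.IsCoh (pullback u (ηa (K ^ e) N)) := isCoh_of_isPullback sq hFm hN hNe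
  haveI := hFs.1
  obtain ⟨πs, hπs⟩ : ∃ πs : ∀ n, pullback u (ηa (K ^ e) N) ⟶
      Gn (Formal.completion I (pullback u (ηa (K ^ e) N))) n,
      πs = fun n => Formal.modPowπ I (n + 1) (pullback u (ηa (K ^ e) N)) := ⟨_, rfl⟩
  have hcFs : IsComplOf I (pullback u (ηa (K ^ e) N))
      (Formal.completion I (pullback u (ηa (K ^ e) N))) πs := by
    rw [hπs]
    exact isComplOf_completion I _
  obtain ⟨fsth, hfst⟩ := hcFs.exists_map hcFm (pullback.fst u (ηa (K ^ e) N))
  obtain ⟨sndh, hsnd⟩ := hcFs.exists_map hcN (pullback.snd u (ηa (K ^ e) N))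
  have hwc : fsth ≫ θe = sndh ≫ p := hcFs.hom_ext _ _ (fun n => by
    have e1 : πs n ≫ (fsth ≫ θe).app (op n) =
        pullback.fst u (ηa (K ^ e) N) ≫ u ≫ πe n := by
      rw [NatTrans.comp_app, ← Category.assoc, hfst n, Category.assoc, hu n]
    have e2 : πs n ≫ (sndh ≫ p).app (op n) =
        pullback.snd u (ηa (K ^ e) N) ≫ ηa (K ^ e) N ≫ πe n := by
      rw [NatTrans.comp_app, ← Category.assoc, hsnd n, Category.assoc, hpq n]
    rw [e1, e2, ← Category.assoc, ← Category.assoc, pullback.condition])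
  have hac : qF ≫ θe = θ ≫ p := by
    apply NatTrans.ext
    funext k
    obtain ⟨n⟩ := k
    rw [NatTrans.comp_app, NatTrans.comp_app, hqF' n, hθe n, hp n]
    exact (ηf_naturality (K ^ e) (θ.app (op n))).symm
  have hℛ : ∀ n, IsPullback ((pullback.fst θe p).app (op n)) ((pullback.snd θe p).app (op n))
      (θe.app (op n)) (p.app (op n)) := fun n =>
    (IsPullback.of_hasPullback θe p).map ((evaluation ℕᵒᵖ X.Modules).obj (op n))
  haveI hqℛ : ∀ n, (Gn (pullback θe p) n).IsQuasicoherent := fun n => by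
    haveI : (Gn (F ⋙ Qf (K ^ e)) n).IsQuasicoherent := (hFe.1 n).1
    haveI : (Gn (Formal.completion I N ⋙ Qf (K ^ e)) n).IsQuasicoherent :=
      hcNe.isQuasicoherent n
    exact isQuasicoherent_of_isPullback (hℛ n)
  haveI hqFs : ∀ n, (Gn (Formal.completion I (pullback u (ηa (K ^ e) N))) n).IsQuasicoherent :=
    fun n => hcFs.isQuasicoherent n
  obtain ⟨w, hw₁, hw₂⟩ : ∃ w : Formal.completion I (pullback u (ηa (K ^ e) N)) ⟶ pullback θe p,
      w ≫ pullback.fst θe p = fsth ∧ w ≫ pullback.snd θe p = sndh :=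
    ⟨pullback.lift fsth sndh hwc, pullback.lift_fst _ _ _, pullback.lift_snd _ _ _⟩
  obtain ⟨a, ha₁, ha₂⟩ : ∃ a : F ⟶ pullback θe p,
      a ≫ pullback.fst θe p = qF ∧ a ≫ pullback.snd θe p = θ :=
    ⟨pullback.lift qF θ hac, pullback.lift_fst _ _ _, pullback.lift_snd _ _ _⟩
  -- `w` is an isomorphism up to translation
  have hw : ARSys.IsARIso w := by
    haveI : Epi w := by
      haveI : ∀ k : ℕᵒᵖ, Epi (w.app k) := fun k => by
        obtain ⟨n⟩ := k
        exact epi_lift_pullback sq hcFm hcN hcNe fsth hfst sndh hsnd θe hu p hpq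
          (pullback θe p) (pullback.fst θe p) (pullback.snd θe p) hℛ w hw₁ hw₂ n
      exact NatTrans.epi_of_epi_app _
    refine isARIso_of_epi _ ?_
    haveI : ∀ n, (Gn (kernel w) n).IsQuasicoherent := fun n => isQuasicoherent_kernel_app _ n
    haveI : ∀ n, Mono ((kernel.ι w).app (op n)) := fun n => inferInstance
    refine isARNull_of_joint_mono hFs hFm hN hcFs hcFm hcN (pullback.fst u (ηa (K ^ e) N))
      (pullback.snd u (ηa (K ^ e) N))
      (fun U x h1 h2 => isPullback_sec_ext sq U x 0 (by rw [h1, app_zero'])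
        (by rw [h2, app_zero'])) fsth hfst sndh hsnd _ (kernel.ι w) ?_ ?_
    · rw [← hw₁, ← Category.assoc, kernel.condition, zero_comp]
    · rw [← hw₂, ← Category.assoc, kernel.condition, zero_comp]
  -- `a` is an isomorphism up to translation
  have ha : ARSys.IsARIso a := by
    have hℛ' : ∀ n, IsPullback ((pullback.fst θe p).app (op n))
        ((pullback.snd θe p).app (op n)) ((Qf (K ^ e)).map (θ.app (op n)))
        (ηa (K ^ e) (Gn (Formal.completion I N) n)) := fun n => by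
      rw [← hθe n, ← hp n]
      exact hℛ n
    haveI : Epi a := by
      haveI : ∀ k : ℕᵒᵖ, Epi (a.app k) := fun k => by
        obtain ⟨n⟩ := k
        refine epi_lift_Qpullback (K ^ e) θ hθ (pullback θe p)
          (fun n => (pullback.fst θe p).app (op n)) (pullback.snd θe p) hℛ'
          a (fun n => ?_) ha₂ n
        rw [← NatTrans.comp_app, ha₁, hqF' n]
      exact NatTrans.epi_of_epi_app _
    refine isARIso_of_epi _ ?_
    haveI : ∀ n, (Gn (kernel a) n).IsQuasicoherent := fun n => isQuasicoherent_kernel_app _ n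
    haveI : ∀ n, Mono ((kernel.ι a).app (op n)) := fun n => inferInstance
    refine isARNull_of_crux K e θ S hSfin hS hcov hcrux _ (kernel.ι a) (fun n => ?_) ?_
    · rw [← hqF' n, ← NatTrans.comp_app, ← ha₁, ← Category.assoc, kernel.condition, zero_comp]
      rfl
    · rw [← ha₂, ← Category.assoc, kernel.condition, zero_comp]
  obtain ⟨iso⟩ := iso_of_zigzag I (isAdic_of_isCohFormal (hcFs.isCohFormal hFs))
    (isAdic_of_isCohFormal hF) w a hw ha
  exact ⟨pullback u (ηa (K ^ e) N), hFs, hPpb _ _ _ _ _ _ _ _ sq hFs hPFm hPN, ⟨iso⟩⟩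

include hPmono hPepi hPpb in
open Groth.Agent.Lib.ARSerreH4 in
/-- **S0830**, relative to `P` -/
theorem main0830_P (K : X.IdealSheafData) (F : ℕᵒᵖ ⥤ X.Modules)
    (hF : Formal.IsCohFormal I F)
    (hPF : ∀ n, P (F.obj (op n)))
    (h₁ : ∀ e : ℕ,
      (∀ (M N : X.Modules), Coh.IsCoh M → Coh.IsCoh N → P M → P N →
        ClSub.KilledByIdeal (K ^ e) M →
        ClSub.KilledByIdeal (K ^ e) N → ∀ ψ : Formal.completion I M ⟶ Formal.completion I N,
          ∃! φ : M ⟶ N, ∀ n : ℕ, Formal.modPowπ I (n + 1) M ≫ ψ.app (op n) =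
            φ ≫ Formal.modPowπ I (n + 1) N) ∧
      (∀ G : ℕᵒᵖ ⥤ X.Modules, Formal.IsCohFormal I G → (∀ n : ℕ, P (G.obj (op n))) →
        (∀ n : ℕ, ClSub.KilledByIdeal (K ^ e) (G.obj (op n))) →
        ∃ M : X.Modules, Coh.IsCoh M ∧ P M ∧ ClSub.KilledByIdeal (K ^ e) M ∧
          Nonempty (Formal.completion I M ≅ G)))
    (h₂ : ∃ (H : X.Modules) (α : F ⟶ Formal.completion I H), Coh.IsCoh H ∧ P H ∧
      Formal2.KerCokerKilledByPow K α) :
    ∃ M : X.Modules, Coh.IsCoh M ∧ P M ∧ Nonempty (Formal.completion I M ≅ F) := by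
  obtain ⟨H, α, hH, hPH, t, hα⟩ := h₂
  haveI := hH.1
  haveI hqF : ∀ n, (Gn F n).IsQuasicoherent := fun n => (hF.1 n).1
  obtain ⟨πH, hπH⟩ : ∃ πH : ∀ n, H ⟶ Gn (Formal.completion I H) n,
      πH = fun n => Formal.modPowπ I (n + 1) H := ⟨_, rfl⟩
  have hcH : IsComplOf I H (Formal.completion I H) πH := by
    rw [hπH]
    exact isComplOf_completion I H
  have hHf : Formal.IsCohFormal I (Formal.completion I H) := hcH.isCohFormal hH
  haveI hqH : ∀ n, (Gn (Formal.completion I H) n).IsQuasicoherent := fun n => (hHf.1 n).1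
  have hFadic := isAdic_of_isCohFormal hF
  have hHadic := isAdic_of_isCohFormal hHf
  -- the cokernel system
  have hℬadic : ARSys.IsAdic I (cokernel α) := by
    have hIs : ARSys.IsStrict (Abelian.image α) :=
      Groth.Agent.Lib.ARExtH4.strict_of_epi (Abelian.factorThruImage α)
        (isStrict_of_isAdic hFadic)
    exact ARSESH4.main3152 (ARLimH4.ses2 α) (ARLimH4.ses2_shortExact α) I hIs hHadic
  have eB : ∀ n, (cokernel α).obj (op n) ≅ cokernel (α.app (op n)) := fun n =>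
    PreservesCokernel.iso ((evaluation ℕᵒᵖ X.Modules).obj (op n)) α
  have hℬcoh : ∀ n, Coh.IsCoh ((cokernel α).obj (op n)) := fun n =>
    CohDevH8.isCoh_of_iso (eB n) (CohKerH8.isCoh_cokernel (hF.1 n) (hHf.1 n) _)
  have hℬk : ∀ n, ClSub.KilledByIdeal (K ^ (t + 1)) ((cokernel α).obj (op n)) := fun n =>
    killedByIdeal_of_iso (eB n) (hα n).2
  have hℬ : Formal.IsCohFormal I (cokernel α) := isCohFormal_of_isAdic hℬadic hℬcoh
  have hPℬ : ∀ n, P ((cokernel α).obj (op n)) := fun n => by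
    haveI := hcH.epi n
    haveI : Epi ((cokernel.π α).app (op n)) := inferInstance
    exact hPepi _ _ (πH n ≫ (cokernel.π α).app (op n)) (epi_comp _ _) hH (hℬcoh n) hPH
  obtain ⟨B, hB, hPB, hBk, ⟨ζ⟩⟩ := (h₁ (t + 1)).2 (cokernel α) hℬ hPℬ hℬk
  haveI := hB.1
  obtain ⟨τB, hτB⟩ : ∃ τB : ∀ n, B ⟶ Gn (cokernel α) n,
      τB = fun n => Formal.modPowπ I (n + 1) B ≫ ζ.hom.app (op n) := ⟨_, rfl⟩
  have hcB : IsComplOf I B (cokernel α) τB := by
    rw [hτB]
    exact isComplOf_of_iso (isComplOf_completion I B) ζ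
  haveI hqℬ : ∀ n, (Gn (cokernel α) n).IsQuasicoherent := fun n => (hℬcoh n).1
  -- `H/K^(t+1)H`
  have hHt : Coh.IsCoh ((Qf (K ^ (t + 1))).obj H) := isCoh_Qf _ hH
  haveI := hHt.1
  obtain ⟨πt, hπt⟩ : ∃ πt : ∀ n, (Qf (K ^ (t + 1))).obj H ⟶
      Gn (Formal.completion I H ⋙ Qf (K ^ (t + 1))) n,
      πt = fun n => (Qf (K ^ (t + 1))).map (πH n) := ⟨_, rfl⟩
  have hcHt : IsComplOf I ((Qf (K ^ (t + 1))).obj H)
      (Formal.completion I H ⋙ Qf (K ^ (t + 1))) πt := by
    rw [hπt]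
    exact isComplOf_comp_Qf (K ^ (t + 1)) hcH
  have hg : ∀ n, ∃ g : (Qf (K ^ (t + 1))).obj H ⟶ Gn (cokernel α) n,
      ηa (K ^ (t + 1)) H ≫ g = πH n ≫ (cokernel.π α).app (op n) := fun n =>
    exists_Qdesc (K ^ (t + 1)) (hℬk n) _
  choose g hg using hg
  have hgc : ∀ n, g (n + 1) ≫ tG (cokernel α) n = g n := by
    intro n
    have hnat : tG (Formal.completion I H) n ≫ (cokernel.π α).app (op n) =
        (cokernel.π α).app (op (n + 1)) ≫ tG (cokernel α) n := (cokernel.π α).naturality _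
    rw [← cancel_epi (ηa (K ^ (t + 1)) H), ← Category.assoc, hg (n + 1), hg n, Category.assoc,
      ← hnat, ← Category.assoc, hcH.comp n]
  obtain ⟨γ, hγ⟩ := hcHt.exists_desc (cokernel α) hcB.killed g hgc
  obtain ⟨ψ₀, hψ₀, -⟩ := hcHt.existsUnique_of_FF hcB
    ((h₁ (t + 1)).1 _ B hHt hB (hPepi _ _ (ηa (K ^ (t + 1)) H) inferInstance hH hHt hPH) hPB
      (killed_Qf _ H) hBk) γ
  obtain ⟨ψ, hψdef⟩ : ∃ ψ : H ⟶ B, ψ = ηa (K ^ (t + 1)) H ≫ ψ₀ := ⟨_, rfl⟩
  have hψ : ∀ n, πH n ≫ (cokernel.π α).app (op n) = ψ ≫ τB n := by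
    intro n
    rw [hψdef, Category.assoc, ← hψ₀ n, hγ n, hg n]
  -- `ψ` is an epimorphism
  haveI hψepi : Epi ψ := by
    have hC : Coh.IsCoh (cokernel ψ) := CohKerH8.isCoh_cokernel hH hB ψ
    haveI := hC.1
    have hCk : ClSub.KilledByIdeal (K ^ (t + 1)) (cokernel ψ) :=
      killedByIdeal_of_epi (cokernel.π ψ) hBk
    exact epi_of_epi_completion ψ hcH hcB (cokernel.π α) hψ (fun n => inferInstance)
      ((h₁ (t + 1)).1 _ _ hC hC (hPepi _ _ (cokernel.π ψ) inferInstance hB hC hPB)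
        (hPepi _ _ (cokernel.π ψ) inferInstance hB hC hPB) hCk hCk)
  -- `H' = ker ψ`
  have hH' : Coh.IsCoh (kernel ψ) := CohKerH8.isCoh_kernel hH hB ψ
  haveI := hH'.1
  obtain ⟨π', hπ'⟩ : ∃ π' : ∀ n, kernel ψ ⟶ Gn (Formal.completion I (kernel ψ)) n,
      π' = fun n => Formal.modPowπ I (n + 1) (kernel ψ) := ⟨_, rfl⟩
  have hcH' : IsComplOf I (kernel ψ) (Formal.completion I (kernel ψ)) π' := by
    rw [hπ']
    exact isComplOf_completion I _
  have hH'f : Formal.IsCohFormal I (Formal.completion I (kernel ψ)) := hcH'.isCohFormal hH'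
  haveI hqH' : ∀ n, (Gn (Formal.completion I (kernel ψ)) n).IsQuasicoherent :=
    fun n => (hH'f.1 n).1
  have hH'adic := isAdic_of_isCohFormal hH'f
  obtain ⟨ιh, hιh⟩ := hcH'.exists_map hcH (kernel.ι ψ)
  have hιπ : ιh ≫ cokernel.π α = 0 := hcH'.hom_ext _ _ (fun n => by
    rw [NatTrans.comp_app, ← Category.assoc, hιh n, Category.assoc, hψ n, ← Category.assoc,
      kernel.condition, zero_comp, NatTrans.app_zero, comp_zero])
  obtain ⟨v, hv⟩ : ∃ v : Formal.completion I (kernel ψ) ⟶ kernel (cokernel.π α),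
      v ≫ kernel.ι (cokernel.π α) = ιh := ⟨kernel.lift _ ιh hιπ, kernel.lift_ι _ _ _⟩
  haveI hq𝒦 : ∀ n, (Gn (kernel (cokernel.π α)) n).IsQuasicoherent :=
    fun n => isQuasicoherent_kernel_app _ n
  haveI hvepi : Epi v := by
    haveI : ∀ n, Mono ((kernel.ι (cokernel.π α)).app (op n)) := fun n => inferInstance
    haveI : ∀ k : ℕᵒᵖ, Epi (v.app k) := fun k => by
      obtain ⟨n⟩ := k
      exact epi_lift_kernel ψ hcH hcB ιh hιh (cokernel.π α) hψ (kernel (cokernel.π α))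
        (kernel.ι (cokernel.π α)) (kernel.condition _) v hv n
    exact NatTrans.epi_of_epi_app _
  have hvAR : ARSys.IsARIso v := by
    refine isARIso_of_epi _ ?_
    haveI : ∀ n, (Gn (kernel v) n).IsQuasicoherent := fun n => isQuasicoherent_kernel_app _ n
    haveI : ∀ n, Mono ((kernel.ι v).app (op n)) := fun n => inferInstance
    have hj : kernel.ι v ≫ ιh = 0 := by
      rw [← hv, ← Category.assoc, kernel.condition, zero_comp]
    exact isARNull_of_joint_mono hH' hH hH hcH' hcH hcH (kernel.ι ψ) (kernel.ι ψ)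
      (fun U x h1 _ => by
        apply sl_injective_of_mono (kernel.ι ψ) U
        rw [map_zero]
        exact h1) ιh hιh ιh hιh _ (kernel.ι v) hj hj
  -- the lift `α'`
  obtain ⟨α₁, hα₁⟩ : ∃ α₁ : F ⟶ kernel (cokernel.π α), α₁ ≫ kernel.ι (cokernel.π α) = α :=
    ⟨kernel.lift _ α (cokernel.condition α), kernel.lift_ι _ _ _⟩
  haveI hα₁epi : Epi α₁ := by
    have e : α₁ = Abelian.factorThruImage α := by
      rw [← cancel_mono (kernel.ι (cokernel.π α)), hα₁]
      exact (Abelian.image.fac α).symm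
    rw [e]
    infer_instance
  obtain ⟨α', hα'⟩ := Groth.Agent.Lib.ARAbH4.lift_of_isARIso I v hvAR hH'adic.1 hFadic α₁
  haveI hα'epi : Epi α' := by
    refine Groth.Agent.Lib.ARAbH4.epi_of_arNull_cokernel_of_strict α' ?_
      (isStrict_of_isAdic hH'adic)
    haveI : Epi (α' ≫ v) := by
      rw [hα']
      infer_instance
    haveI := epi_kernel_comp_cokernel α' v
    exact Groth.Agent.Lib.ARShift.isARNull_of_epi (kernel.ι v ≫ cokernel.π α') hvAR.1
  have hαfac : α' ≫ ιh = α := by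
    rw [← hv, ← Category.assoc, hα', hα₁]
  have hk' : ∀ n, ClSub.KilledByIdeal (K ^ (t + 1)) (kernel (α'.app (op n))) := fun n => by
    have h0 : kernel.ι (α'.app (op n)) ≫ α.app (op n) = 0 := by
      rw [← hαfac, NatTrans.comp_app, ← Category.assoc, kernel.condition, zero_comp]
    haveI : Mono (kernel.lift (α.app (op n)) (kernel.ι (α'.app (op n))) h0) :=
      mono_of_mono_fac (kernel.lift_ι _ _ _)
    exact killedByIdeal_of_mono (kernel.lift (α.app (op n)) (kernel.ι (α'.app (op n))) h0)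
      (hα n).1
  exact exists_of_epi_P A I X P hPepi hPpb K F hF hPF h₁ (kernel ψ) hH'
    (hPmono _ _ (kernel.ι ψ) inferInstance hH' hPH) α' (fun n => inferInstance) (t + 1) hk'

end MainP

end Groth.Agent.Lib.GExH2
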