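import Mathlib
import Groth.Prelude
import Groth.Agent.Lib.GEx15_helper2
import Groth.Agent.Lib.FF5_helper2
import Groth.Agent.Lib.CohDev3_helper8

/-!
# Grothendieck's existence theorem with proper supports: essential surjectivity (helper2)

* `isComplOf_pullback`, `exists_completion_pullback_iso` : completion commutes with pullback;
* `nonempty_iso_push_pull_open` : `ι^* ι_* ≅ id` for an open immersion, on systems;
* `exists_closedImmersion_of_pSupp`, `isCoh_pushforward_of_killed`, `isQuot_pushforward_of_killed`,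
  `isCohFormal_pushforward_open` : extension by zero of a coherent formal module with proper support
  along an open immersion into a scheme separated over the base;
* `exists_of_openImmersion` : the quasi-projective case;
* `exists_chow_proj'`, `step0799`, `main0799`.
APPEND-ONLY once landed.
-/

set_option autoImplicit false
set_option backward.isDefEq.respectTransparency false
set_option linter.style.haveILetI false
set_option linter.unusedSectionVars false
universe u
open CategoryTheory CategoryTheory.Limits AlgebraicGeometry TopologicalSpace Opposite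

namespace Groth.Agent.Lib.GExH2

open Formal Groth.Agent.Lib.FormalModPowH4 Groth.Agent.Lib.FormalFnH2 Groth.Agent.Lib.FibAmpH2
  Groth.Agent.Lib.FlatBCH2 Groth.Agent.Lib.FibVanH2 Groth.Agent.Lib.FormalQuotH2
  Groth.Agent.Lib.AdicSysH2 Groth.Agent.Lib.LimTruncH2 QcqsLoc Groth.Agent.Lib.ThickH2

section Pull

variable {A : Type u} [CommRing A] {X Z : Scheme.{u}} [X.Over (Spec (CommRingCat.of A))]
  [Z.Over (Spec (CommRingCat.of A))] (f : Z ⟶ X)
  (hf : f ≫ (X ↘ Spec (CommRingCat.of A)) = (Z ↘ Spec (CommRingCat.of A)))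

include hf in
theorem isComplOf_pullback {I : Ideal A} {M : X.Modules} {G : ℕᵒᵖ ⥤ X.Modules}
    {τ : ∀ n, M ⟶ Gn G n} (h : IsComplOf I M G τ) :
    IsComplOf I ((Scheme.Modules.pullback f).obj M) (G ⋙ Scheme.Modules.pullback f)
      (fun n => (Scheme.Modules.pullback f).map (τ n)) where
  quot n := IsQuot.pullback f hf (h.quot n)
  comp n := by
    show (Scheme.Modules.pullback f).map (τ (n + 1)) ≫
      (Scheme.Modules.pullback f).map (tG G n) = _
    rw [← Functor.map_comp, h.comp n]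

include hf in
theorem exists_completion_pullback_iso (I : Ideal A) (M : X.Modules) :
    Nonempty (Formal.completion I ((Scheme.Modules.pullback f).obj M) ≅
      Formal.completion I M ⋙ Scheme.Modules.pullback f) := by
  obtain ⟨β, -⟩ := (isComplOf_pullback f hf (isComplOf_completion I M)).exists_iso
  exact ⟨β⟩

end Pull

section OpenImm

theorem nonempty_iso_push_pull_open {Z Zb : Scheme.{u}} (ι : Z ⟶ Zb) [IsOpenImmersion ι]
    (G : ℕᵒᵖ ⥤ Z.Modules) :
    Nonempty ((G ⋙ Scheme.Modules.pushforward ι) ⋙ Scheme.Modules.pullback ι ≅ G) :=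
  ⟨Functor.associator _ _ _ ≪≫
    Functor.isoWhiskerLeft G (Functor.isoWhiskerLeft (Scheme.Modules.pushforward ι)
      (Scheme.Modules.restrictFunctorIsoPullback ι).symm ≪≫
        Scheme.Modules.restrictFunctorAdjCounitIso ι) ≪≫
    Functor.rightUnitor G⟩

variable {A : Type u} [CommRing A] {Z Zb : Scheme.{u}} [Z.Over (Spec (CommRingCat.of A))]
  [Zb.Over (Spec (CommRingCat.of A))] (ι : Z ⟶ Zb)
  (hι : ι ≫ (Zb ↘ Spec (CommRingCat.of A)) = (Z ↘ Spec (CommRingCat.of A)))

include hι in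
theorem exists_closedImmersion_of_pSupp [IsPreimmersion ι]
    [IsSeparated (Zb ↘ Spec (CommRingCat.of A))]
    [LocallyOfFiniteType (Z ↘ Spec (CommRingCat.of A))] {M : Z.Modules} (hM : Coh.IsCoh M)
    (hP : PSupp A M) :
    ∃ (W : Scheme.{u}) (i : W ⟶ Z), IsClosedImmersion i ∧ IsClosedImmersion (i ≫ ι) ∧
      ClSub.KilledByIdeal i.ker M ∧ Set.range i = CohB1.support M := by
  haveI := hM.1
  haveI := hM.2
  have hr : Set.range (AnnShH8.annIdeal M).subschemeι = CohB1.support M := by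
    rw [Scheme.IdealSheafData.range_subschemeι]
    exact AnnShH8.support_annIdeal M
  refine ⟨(AnnShH8.annIdeal M).subscheme, (AnnShH8.annIdeal M).subschemeι, inferInstance, ?_, ?_,
    hr⟩
  · have hp : IsProper ((AnnShH8.annIdeal M).subschemeι ≫ (Z ↘ Spec (CommRingCat.of A))) :=
      (ProperOver.isProperOver_iff_of_closedImmersion _ _ hr).mp hP
    haveI : IsProper (((AnnShH8.annIdeal M).subschemeι ≫ ι) ≫
        (Zb ↘ Spec (CommRingCat.of A))) := by
      rw [Category.assoc, hι]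
      exact hp
    haveI : IsProper ((AnnShH8.annIdeal M).subschemeι ≫ ι) :=
      IsProper.of_comp _ (Zb ↘ Spec (CommRingCat.of A))
    exact IsClosedImmersion.of_isPreimmersion _
      ((AnnShH8.annIdeal M).subschemeι ≫ ι).isClosedMap.isClosed_range
  · rw [Scheme.IdealSheafData.ker_subschemeι]
    exact (CohDevH8.killedByIdeal_iff_le_annIdeal _ M).mpr le_rfl

theorem isCoh_pushforward_of_killed [IsLocallyNoetherian Zb] {W : Scheme.{u}} (i : W ⟶ Z)
    [IsClosedImmersion i]
    [IsClosedImmersion (i ≫ ι)] {M : Z.Modules} (hM : Coh.IsCoh M)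
    (hk : ClSub.KilledByIdeal i.ker M) :
    Coh.IsCoh ((Scheme.Modules.pushforward ι).obj M) := by
  haveI := hM.1
  haveI := ClPushH8.isIso_unit i M hk
  have e1 : (Scheme.Modules.pushforward ι).obj M ≅ (Scheme.Modules.pushforward ι).obj
      ((Scheme.Modules.pushforward i).obj ((Scheme.Modules.pullback i).obj M)) :=
    (Scheme.Modules.pushforward ι).mapIso
      (asIso ((Scheme.Modules.pullbackPushforwardAdjunction i).unit.app M))
  have e2 : (Scheme.Modules.pushforward ι).obj
      ((Scheme.Modules.pushforward i).obj ((Scheme.Modules.pullback i).obj M)) ≅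
      (Scheme.Modules.pushforward (i ≫ ι)).obj ((Scheme.Modules.pullback i).obj M) :=
    (Scheme.Modules.pushforwardComp i ι).app ((Scheme.Modules.pullback i).obj M)
  exact CohDevH8.isCoh_of_iso (e1 ≪≫ e2) (CohDevH8.isCoh_pushforward_of_isFinite (i ≫ ι)
    (Groth.Agent.Lib.ConsModH2.isCoh_pullback i M hM))

include hι in
theorem isQuot_pushforward_of_killed {W : Scheme.{u}} (i : W ⟶ Z) [IsClosedImmersion i]
    [IsClosedImmersion (i ≫ ι)] {J : Ideal A} {M N : Z.Modules} [M.IsQuasicoherent]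
    [N.IsQuasicoherent] (hkM : ClSub.KilledByIdeal i.ker M) (hkN : ClSub.KilledByIdeal i.ker N)
    {t : M ⟶ N} (ht : IsQuot J t) : IsQuot J ((Scheme.Modules.pushforward ι).map t) := by
  letI : W.Over (Spec (CommRingCat.of A)) := ⟨i ≫ (Z ↘ Spec (CommRingCat.of A))⟩
  have hi : i ≫ (Z ↘ Spec (CommRingCat.of A)) = (W ↘ Spec (CommRingCat.of A)) := rfl
  have hiι : (i ≫ ι) ≫ (Zb ↘ Spec (CommRingCat.of A)) = (W ↘ Spec (CommRingCat.of A)) := by
    rw [Category.assoc, hι]
    exact hi
  have h1 : IsQuot J ((Scheme.Modules.pullback i).map t) := IsQuot.pullback i hi ht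
  have h2 : IsQuot J ((Scheme.Modules.pushforward (i ≫ ι)).map
      ((Scheme.Modules.pullback i).map t)) := isQuot_pushforward (i ≫ ι) hiι h1
  haveI := ClPushH8.isIso_unit i M hkM
  haveI := ClPushH8.isIso_unit i N hkN
  obtain ⟨ηM, hηM⟩ : ∃ η : M ⟶ (Scheme.Modules.pushforward i).obj
      ((Scheme.Modules.pullback i).obj M),
      η = (Scheme.Modules.pullbackPushforwardAdjunction i).unit.app M := ⟨_, rfl⟩
  obtain ⟨ηN, hηN⟩ : ∃ η : N ⟶ (Scheme.Modules.pushforward i).obj
      ((Scheme.Modules.pullback i).obj N),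
      η = (Scheme.Modules.pullbackPushforwardAdjunction i).unit.app N := ⟨_, rfl⟩
  haveI : IsIso ηM := by rw [hηM]; infer_instance
  haveI : IsIso ηN := by rw [hηN]; infer_instance
  obtain ⟨cM, hcM⟩ : ∃ c : (Scheme.Modules.pushforward ι).obj
      ((Scheme.Modules.pushforward i).obj ((Scheme.Modules.pullback i).obj M)) ⟶
      (Scheme.Modules.pushforward (i ≫ ι)).obj ((Scheme.Modules.pullback i).obj M),
      c = (Scheme.Modules.pushforwardComp i ι).hom.app ((Scheme.Modules.pullback i).obj M) :=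
    ⟨_, rfl⟩
  obtain ⟨cN, hcN⟩ : ∃ c : (Scheme.Modules.pushforward ι).obj
      ((Scheme.Modules.pushforward i).obj ((Scheme.Modules.pullback i).obj N)) ⟶
      (Scheme.Modules.pushforward (i ≫ ι)).obj ((Scheme.Modules.pullback i).obj N),
      c = (Scheme.Modules.pushforwardComp i ι).hom.app ((Scheme.Modules.pullback i).obj N) :=
    ⟨_, rfl⟩
  haveI : IsIso cM := by rw [hcM]; infer_instance
  haveI : IsIso cN := by rw [hcN]; infer_instance
  have n1 : t ≫ ηN = ηM ≫ (Scheme.Modules.pushforward i).map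
      ((Scheme.Modules.pullback i).map t) := by
    rw [hηM, hηN]
    exact (Scheme.Modules.pullbackPushforwardAdjunction i).unit.naturality t
  have n2 : (Scheme.Modules.pushforward ι).map ((Scheme.Modules.pushforward i).map
      ((Scheme.Modules.pullback i).map t)) ≫ cN =
      cM ≫ (Scheme.Modules.pushforward (i ≫ ι)).map ((Scheme.Modules.pullback i).map t) := by
    rw [hcM, hcN]
    exact (Scheme.Modules.pushforwardComp i ι).hom.naturality ((Scheme.Modules.pullback i).map t)
  have hnat : (Scheme.Modules.pushforward ι).map t ≫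
      ((Scheme.Modules.pushforward ι).map ηN ≫ cN) =
      ((Scheme.Modules.pushforward ι).map ηM ≫ cM) ≫
        (Scheme.Modules.pushforward (i ≫ ι)).map ((Scheme.Modules.pullback i).map t) :=
    (Category.assoc _ _ _).symm.trans
      ((congrArg (fun q => q ≫ cN) ((Scheme.Modules.pushforward ι).map_comp t ηN).symm).trans
        ((congrArg (fun q => (Scheme.Modules.pushforward ι).map q ≫ cN) n1).trans
          ((congrArg (fun q => q ≫ cN) ((Scheme.Modules.pushforward ι).map_comp ηM _)).trans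
            ((Category.assoc _ _ _).trans
              ((congrArg (fun q => (Scheme.Modules.pushforward ι).map ηM ≫ q) n2).trans
                (Category.assoc _ _ _).symm)))))
  have e : (Scheme.Modules.pushforward ι).map t =
      ((Scheme.Modules.pushforward ι).map ηM ≫ cM) ≫
        (Scheme.Modules.pushforward (i ≫ ι)).map ((Scheme.Modules.pullback i).map t) ≫
          inv ((Scheme.Modules.pushforward ι).map ηN ≫ cN) := by
    rw [← Category.assoc, ← hnat, Category.assoc, IsIso.hom_inv_id, Category.comp_id]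
  rw [e]
  exact IsQuot.iso_comp _ (h2.comp_iso _)

include hι in
theorem isCohFormal_pushforward_open [IsPreimmersion ι]
    [IsSeparated (Zb ↘ Spec (CommRingCat.of A))]
    [LocallyOfFiniteType (Z ↘ Spec (CommRingCat.of A))] [AlgebraicGeometry.IsNoetherian Z]
    [IsLocallyNoetherian Zb]
    (I : Ideal A) {G : ℕᵒᵖ ⥤ Z.Modules} (hG : Formal.IsCohFormal I G)
    (hP : PSupp A (G.obj (op 0))) :
    Formal.IsCohFormal I (G ⋙ Scheme.Modules.pushforward ι) := by
  have hPn := pSupp_level A I hG hP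
  refine ⟨fun n => ?_, fun n => killedBy_pushforward ι hι _ _ (hG.2.1 n), fun n => ?_⟩
  · obtain ⟨W, i, hi1, hi2, hk, -⟩ := exists_closedImmersion_of_pSupp ι hι (hG.1 n) (hPn n)
    haveI := hi1
    haveI := hi2
    exact isCoh_pushforward_of_killed ι i (hG.1 n) hk
  · obtain ⟨W, i, hi1, hi2, hk, -⟩ :=
      exists_closedImmersion_of_pSupp ι hι (hG.1 (n + 1)) (hPn (n + 1))
    haveI := hi1
    haveI := hi2
    haveI : (Gn G (n + 1)).IsQuasicoherent := (hG.1 (n + 1)).1
    haveI : (Gn G n).IsQuasicoherent := (hG.1 n).1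
    haveI : Epi (tG G n) := (isQuot_tG hG n).2.1
    have hkN : ClSub.KilledByIdeal i.ker (Gn G n) := killedByIdeal_of_epi (tG G n) hk
    exact (isQuot_pushforward_of_killed ι hι i hk hkN (isQuot_tG hG n)).cond

include hι in
theorem isProperOver_preimage_of_openImmersion [IsPreimmersion ι]
    [IsProper (Zb ↘ Spec (CommRingCat.of A))]
    (T : Set Zb) (hT : IsClosed T) (hTr : T ⊆ Set.range ι) :
    ClSub.IsProperOver (Z ↘ Spec (CommRingCat.of A)) (ι ⁻¹' T) := by
  have hcl : IsClosed (ι ⁻¹' T) := hT.preimage ι.continuous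
  refine ⟨hcl, ?_⟩
  have hrk : Set.range (ProperOver.redι (ι ⁻¹' T) hcl) = ι ⁻¹' T := ProperOver.range_redι _ hcl
  have hr : Set.range (ProperOver.redι (ι ⁻¹' T) hcl ≫ ι) = T := by
    rw [ProperOver.range_comp', hrk, Set.image_preimage_eq_inter_range,
      Set.inter_eq_left.mpr hTr]
  haveI : IsClosedImmersion (ProperOver.redι (ι ⁻¹' T) hcl ≫ ι) :=
    IsClosedImmersion.of_isPreimmersion _ (by rw [hr]; exact hT)
  have e : ProperOver.redι (ι ⁻¹' T) hcl ≫ (Z ↘ Spec (CommRingCat.of A)) =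
      (ProperOver.redι (ι ⁻¹' T) hcl ≫ ι) ≫ (Zb ↘ Spec (CommRingCat.of A)) := by
    rw [Category.assoc, hι]
  show IsProper (ProperOver.redι (ι ⁻¹' T) hcl ≫ (Z ↘ Spec (CommRingCat.of A)))
  rw [e]
  infer_instance

end OpenImm

section QProj

variable (A : Type u) [CommRing A] [IsNoetherianRing A] (I : Ideal A) [IsAdicComplete I A]

/-- the quasi-projective case: existence on an open subscheme of a scheme proper over `A` -/
theorem exists_of_openImmersion (Z Zb : Scheme.{u}) [Z.Over (Spec (CommRingCat.of A))]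
    [Zb.Over (Spec (CommRingCat.of A))] (ι : Z ⟶ Zb) [IsOpenImmersion ι]
    (hι : ι ≫ (Zb ↘ Spec (CommRingCat.of A)) = (Z ↘ Spec (CommRingCat.of A)))
    [IsProper (Zb ↘ Spec (CommRingCat.of A))]
    [LocallyOfFiniteType (Z ↘ Spec (CommRingCat.of A))] [AlgebraicGeometry.IsNoetherian Z]
    (G : ℕᵒᵖ ⥤ Z.Modules) (hG : Formal.IsCohFormal I G) (hP : PSupp A (G.obj (op 0))) :
    ∃ F : Z.Modules, Coh.IsCoh F ∧ PSupp A F ∧ Nonempty (Formal.completion I F ≅ G) := by
  haveI : IsLocallyNoetherian Zb :=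
    LocallyOfFiniteType.isLocallyNoetherian (Zb ↘ Spec (CommRingCat.of A))
  have hGb := isCohFormal_pushforward_open ι hι I hG hP
  obtain ⟨Fb, hFb, ⟨βb⟩⟩ := main0004b A I Zb (G ⋙ Scheme.Modules.pushforward ι) hGb
  obtain ⟨e1⟩ := exists_completion_pullback_iso ι hι I Fb
  obtain ⟨e3⟩ := nonempty_iso_push_pull_open ι G
  refine ⟨(Scheme.Modules.pullback ι).obj Fb, Groth.Agent.Lib.ConsModH2.isCoh_pullback ι Fb hFb,
    ?_, ⟨e1 ≪≫ Functor.isoWhiskerRight βb _ ≪≫ e3⟩⟩
  haveI := hFb.1
  haveI := hFb.2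
  show ClSub.IsProperOver _ (CohB1.support ((Scheme.Modules.pullback ι).obj Fb))
  rw [SuppTensH8.support_pullback ι Fb]
  refine isProperOver_preimage_of_openImmersion ι hι _ (SupportCoh.isClosed_support Fb) ?_
  have hsub : CohB1.support Fb ⊆ (ι.opensRange : Set Zb) := by
    refine support_subset_of_support_modPow_subset A I Zb hFb ι.opensRange ?_
    have h1 : CohB1.support (Formal.modPow I 1 Fb) ⊆
        CohB1.support ((Scheme.Modules.pushforward ι).obj (G.obj (op 0))) :=
      support_subset_of_mono (βb.hom.app (op 0))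
    refine h1.trans ((support_pushforward_subset ι _).trans ?_)
    obtain ⟨W, i, hi1, hi2, hk, hr⟩ := exists_closedImmersion_of_pSupp ι hι (hG.1 0) hP
    have hcl : IsClosed (ι '' CohB1.support (G.obj (op 0))) := by
      rw [← hr, ← ProperOver.range_comp' i ι]
      exact (i ≫ ι).isClosedEmbedding.isClosed_range
    rw [hcl.closure_eq]
    rintro _ ⟨z, -, rfl⟩
    exact ⟨z, rfl⟩
  exact hsub

end QProj

section Step

open CohB1

variable (A : Type u) [CommRing A] [IsNoetherianRing A]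

theorem exists_chow_proj' (Z : Scheme.{u})
    [Z.Over (Spec (CommRingCat.of A))] [IsSeparated (Z ↘ Spec (CommRingCat.of A))]
    [LocallyOfFiniteType (Z ↘ Spec (CommRingCat.of A))]
    [QuasiCompact (Z ↘ Spec (CommRingCat.of A))] :
    ∃ (n : ℕ) (X' : Scheme.{u}) (π : X' ⟶ Z) (i' : X' ⟶ CohB1.ProjSpace n A),
      IsImmersion i' ∧
      i' ≫ CohB1.ProjSpace.toSpec n A = π ≫ (Z ↘ Spec (CommRingCat.of A)) ∧
      IsProper π ∧ ∃ U : Z.Opens, Dense (U : Set Z) ∧ IsIso (π ∣_ U) := by
  obtain ⟨n, X', π, j, hj, hcomp, hπ, -, U, hU, hiso⟩ :=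
    Groth.Agent.S0025.result (Z ↘ Spec (CommRingCat.of A))
  haveI := hj
  have h1 : Spec.map (CommRingCat.ofHom (Groth.Agent.PnOver.zHom A)) =
      specULiftZIsTerminal.from (Spec (CommRingCat.of A)) := specULiftZIsTerminal.hom_ext _ _
  have hpb : IsPullback (Groth.Agent.ProjBCn.projMapH n (Groth.Agent.PnOver.zHom A))
      (CohB1.ProjSpace.toSpec n A) (CohB1.ProjSpace.toSpec n (ULift.{u} ℤ))
      (specULiftZIsTerminal.from (Spec (CommRingCat.of A))) := by
    rw [← h1]
    exact Groth.Agent.ProjBCn.isPullback_projMapH n (Groth.Agent.PnOver.zHom A)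
  refine ⟨n, X', π, j ≫ hpb.isoPullback.inv, inferInstance, ?_, hπ, U, hU, hiso⟩
  rw [Category.assoc, hpb.isoPullback_inv_snd]
  exact hcomp

variable (I : Ideal A) [IsAdicComplete I A]

/-- the induction step -/
theorem step0799 (Z : Scheme.{u}) [Z.Over (Spec (CommRingCat.of A))]
    [IsSeparated (Z ↘ Spec (CommRingCat.of A))]
    [LocallyOfFiniteType (Z ↘ Spec (CommRingCat.of A))]
    [QuasiCompact (Z ↘ Spec (CommRingCat.of A))]
    (IH : ∀ (Z' : Scheme.{u}) [Z'.Over (Spec (CommRingCat.of A))] (j : Z' ⟶ Z)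
      [IsClosedImmersion j],
      j ≫ (Z ↘ Spec (CommRingCat.of A)) = (Z' ↘ Spec (CommRingCat.of A)) → j.ker ≠ ⊥ →
      ∀ G' : ℕᵒᵖ ⥤ Z'.Modules, Formal.IsCohFormal I G' → PSupp A (G'.obj (op 0)) →
        ∃ M : Z'.Modules, Coh.IsCoh M ∧ PSupp A M ∧ Nonempty (Formal.completion I M ≅ G'))
    (G : ℕᵒᵖ ⥤ Z.Modules) (hG : Formal.IsCohFormal I G) (hP : PSupp A (G.obj (op 0))) :
    ∃ M : Z.Modules, Coh.IsCoh M ∧ PSupp A M ∧ Nonempty (Formal.completion I M ≅ G) := by
  classical
  haveI : AlgebraicGeometry.IsNoetherian Z :=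
    { __ := LocallyOfFiniteType.isLocallyNoetherian (Z ↘ Spec (CommRingCat.of A))
      __ := QuasiCompact.compactSpace_of_compactSpace (Z ↘ Spec (CommRingCat.of A)) }
  rcases isEmpty_or_nonempty Z with hZ | hZ
  · have hz : ∀ F : Z.Modules, IsZero F := fun F => isZero_of_isEmpty F
    exact ⟨G.obj (op 0), hG.1 0, hP, ⟨NatIso.ofComponents (fun k => (hz _).iso (hz _))
      (fun f => (hz _).eq_of_src _ _)⟩⟩
  obtain ⟨n, X', π, i', hi'imm, hi', hπ, U, hU, hiso⟩ := exists_chow_proj' A Z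
  haveI := hi'imm
  haveI := hπ
  letI : X'.Over (Spec (CommRingCat.of A)) := ⟨π ≫ (Z ↘ Spec (CommRingCat.of A))⟩
  have hπo : π ≫ (Z ↘ Spec (CommRingCat.of A)) = (X' ↘ Spec (CommRingCat.of A)) := rfl
  haveI : LocallyOfFiniteType (X' ↘ Spec (CommRingCat.of A)) :=
    inferInstanceAs (LocallyOfFiniteType (π ≫ (Z ↘ Spec (CommRingCat.of A))))
  haveI : QuasiCompact (X' ↘ Spec (CommRingCat.of A)) :=
    inferInstanceAs (QuasiCompact (π ≫ (Z ↘ Spec (CommRingCat.of A))))
  haveI : AlgebraicGeometry.IsNoetherian X' :=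
    { __ := LocallyOfFiniteType.isLocallyNoetherian (X' ↘ Spec (CommRingCat.of A))
      __ := QuasiCompact.compactSpace_of_compactSpace (X' ↘ Spec (CommRingCat.of A)) }
  haveI : QuasiCompact i' := inferInstance
  letI : i'.image.Over (Spec (CommRingCat.of A)) :=
    ⟨i'.imageι ≫ CohB1.ProjSpace.toSpec n A⟩
  have hιo : i'.toImage ≫ (i'.image ↘ Spec (CommRingCat.of A)) =
      (X' ↘ Spec (CommRingCat.of A)) := by
    show i'.toImage ≫ i'.imageι ≫ CohB1.ProjSpace.toSpec n A =
      π ≫ (Z ↘ Spec (CommRingCat.of A))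
    rw [← Category.assoc, Scheme.Hom.toImage_imageι, hi']
  haveI : IsProper (i'.image ↘ Spec (CommRingCat.of A)) := by
    haveI := Groth.Agent.Lib.ProjSpaceProperH4.isProper_toSpec n A
    exact inferInstanceAs (IsProper (i'.imageι ≫ CohB1.ProjSpace.toSpec n A))
  have hG₁ := main0835 A I X' Z π hπo G hG
  have hP₁ : PSupp A ((G ⋙ Scheme.Modules.pullback π).obj (op 0)) :=
    pSupp_pullback π hπo (hG.1 0) hP
  obtain ⟨F', hF', hPF', ⟨β'⟩⟩ := exists_of_openImmersion A I X' i'.image i'.toImage hιo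
    (G ⋙ Scheme.Modules.pullback π) hG₁ hP₁
  obtain ⟨K, hK⟩ : ∃ K : Z.IdealSheafData, K = Scheme.IdealSheafData.vanishingIdeal
      ⟨(U : Set Z)ᶜ, U.isOpen.isClosed_compl⟩ := ⟨_, rfl⟩
  have hKU : K.support.compl = U := by
    rw [hK]
    exact support_compl_vanishingIdeal U
  have hV : IsIso (π ∣_ K.support.compl) := by
    rw [hKU]
    exact hiso
  obtain ⟨α, hα⟩ := main0831 A I X' Z π hπo K hV G hG F' hF' β'.symm
  have hH : Coh.IsCoh ((Scheme.Modules.pushforward π).obj F') := isCoh_pushforward π hF'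
  have hPH : PSupp A ((Scheme.Modules.pushforward π).obj F') :=
    pSupp_pushforward π hπo hPF' hH
  refine main0830_P A I Z (PSupp A)
    (fun M N f hf hM hPN => @pSupp_of_mono A _ Z _ M N f hf hM hPN)
    (fun M N f hf hM hN hPM => @pSupp_of_epi A _ Z _ M N f hf hM hN hPM)
    (fun Q M N Z' fst snd f g sq hQ hPM hPN => pSupp_of_isPullback sq hQ hPM hPN)
    K G hG (pSupp_level A I hG hP)
    (fun e => ⟨fun M N hM hN hPM _ _ _ ψ =>
      Groth.Agent.Lib.FFLFH2.main0798 A I Z M N hM hN hPM ψ, fun G' hG' hPG' hk => ?_⟩)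
    ⟨_, α, hH, hPH, hα⟩
  -- existence for systems killed by `K^e`
  have hne : K ^ e ≠ ⊥ := by
    rw [hK]
    exact vanishingIdeal_pow_ne_bot U hU e
  letI : (K ^ e).subscheme.Over (Spec (CommRingCat.of A)) :=
    ⟨(K ^ e).subschemeι ≫ (Z ↘ Spec (CommRingCat.of A))⟩
  have hjo : (K ^ e).subschemeι ≫ (Z ↘ Spec (CommRingCat.of A)) =
      ((K ^ e).subscheme ↘ Spec (CommRingCat.of A)) := rfl
  haveI : LocallyOfFiniteType ((K ^ e).subscheme ↘ Spec (CommRingCat.of A)) :=
    inferInstanceAs (LocallyOfFiniteType ((K ^ e).subschemeι ≫ (Z ↘ Spec (CommRingCat.of A))))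
  have hker : (K ^ e).subschemeι.ker = K ^ e := Scheme.IdealSheafData.ker_subschemeι _
  obtain ⟨M'', hM'', hPM'', ⟨β''⟩⟩ := IH (K ^ e).subscheme (K ^ e).subschemeι hjo
    (by rw [hker]; exact hne)
    (G' ⋙ Scheme.Modules.pullback (K ^ e).subschemeι)
    (main0835 A I (K ^ e).subscheme Z (K ^ e).subschemeι hjo G' hG')
    (pSupp_pullback (K ^ e).subschemeι hjo (hG'.1 0) (hPG' 0))
  have hcoh : Coh.IsCoh ((Scheme.Modules.pushforward (K ^ e).subschemeι).obj M'') :=
    CohDevH8.isCoh_pushforward_of_isFinite _ hM''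
  refine ⟨(Scheme.Modules.pushforward (K ^ e).subschemeι).obj M'', hcoh,
    pSupp_pushforward (K ^ e).subschemeι hjo hPM'' hcoh, ?_, ?_⟩
  · have := killedByIdeal_pushforward (K ^ e).subschemeι M''
    rwa [hker] at this
  · obtain ⟨e1⟩ := exists_completion_pushforward_iso (K ^ e).subschemeι hjo I M''
    obtain ⟨e2⟩ := nonempty_iso_pull_push (K ^ e).subschemeι G'
      (fun k => (hG'.1 k.unop).1) (fun k => by rw [hker]; exact hk k.unop)
    exact ⟨e1 ≪≫ Functor.isoWhiskerRight β'' _ ≪≫ e2.symm⟩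

/-- the induction predicate -/
def Q0799 (X : Scheme.{u}) [X.Over (Spec (CommRingCat.of A))] (𝒦 : X.IdealSheafData) : Prop :=
  ∀ (Z : Scheme.{u}) [Z.Over (Spec (CommRingCat.of A))] (i : Z ⟶ X) [IsClosedImmersion i],
    i ≫ (X ↘ Spec (CommRingCat.of A)) = (Z ↘ Spec (CommRingCat.of A)) → i.ker = 𝒦 →
    ∀ G : ℕᵒᵖ ⥤ Z.Modules, Formal.IsCohFormal I G → PSupp A (G.obj (op 0)) →
      ∃ M : Z.Modules, Coh.IsCoh M ∧ PSupp A M ∧ Nonempty (Formal.completion I M ≅ G)

/-- **S0799**: essential surjectivity in Grothendieck's existence theorem with proper supports. -/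
theorem main0799 (X : Scheme.{u}) [X.Over (Spec (CommRingCat.of A))]
    [IsSeparated (X ↘ Spec (CommRingCat.of A))]
    [LocallyOfFiniteType (X ↘ Spec (CommRingCat.of A))]
    [QuasiCompact (X ↘ Spec (CommRingCat.of A))]
    (G : ℕᵒᵖ ⥤ X.Modules) (hG : Formal.IsCohFormal I G)
    (hGs : ClSub.IsProperOver (X ↘ Spec (CommRingCat.of A)) (CohB1.support (G.obj (op 0)))) :
    ∃ M : X.Modules, Coh.IsCoh M ∧
      ClSub.IsProperOver (X ↘ Spec (CommRingCat.of A)) (CohB1.support M) ∧
      Nonempty (Formal.completion I M ≅ G) := by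
  haveI : AlgebraicGeometry.IsNoetherian X :=
    { __ := LocallyOfFiniteType.isLocallyNoetherian (X ↘ Spec (CommRingCat.of A))
      __ := QuasiCompact.compactSpace_of_compactSpace (X ↘ Spec (CommRingCat.of A)) }
  haveI := Groth.Agent.Lib.SchNoeth_helper6.wellFoundedGT_idealSheafData X
  have key : ∀ 𝒦 : X.IdealSheafData, Q0799 A I X 𝒦 := by
    intro 𝒦
    refine WellFoundedGT.induction (motive := Q0799 A I X) 𝒦 ?_
    intro 𝒦 IH Z _ i _ hi hker G hG hP
    haveI : IsSeparated (Z ↘ Spec (CommRingCat.of A)) := by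
      rw [← hi]
      infer_instance
    haveI : LocallyOfFiniteType (Z ↘ Spec (CommRingCat.of A)) := by
      rw [← hi]
      infer_instance
    haveI : QuasiCompact (Z ↘ Spec (CommRingCat.of A)) := by
      rw [← hi]
      infer_instance
    refine step0799 A I Z ?_ G hG hP
    intro Z' _ j _ hj hne G' hG' hP'
    have hlt : 𝒦 < (j ≫ i).ker := by
      rw [← hker]
      refine lt_of_le_of_ne (Scheme.Hom.le_ker_comp j i) ?_
      intro h
      exact hne (ker_eq_bot_of_ker_comp_eq j i h.symm)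
    exact IH _ hlt Z' (j ≫ i) (by rw [Category.assoc, hi, hj]) rfl G' hG' hP'
  exact key ⊥ X (𝟙 X) (Category.id_comp _) (Scheme.Hom.ker_eq_bot_of_isIso _) G hG hGs

end Step

end Groth.Agent.Lib.GExH2
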