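import Mathlib
import Groth.Prelude
import Groth.Agent.Lib.ConormSeq1_helper4

/-!
# The exact sequence `0 → O → O/I₁ ⊕ O/I₂ → O/(I₁+I₂) → 0` for `I₁ ⊓ I₂ = ⊥` (helper4).
APPEND-ONLY once landed.
-/

set_option autoImplicit false
set_option linter.style.haveILetI false
set_option linter.unusedVariables false

universe u

open CategoryTheory CategoryTheory.Limits AlgebraicGeometry TopologicalSpace Opposite

namespace Groth.Agent.Lib.TwoIdealSeqH4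

open Groth.Agent.Lib.ConeSP

variable {X : Scheme.{u}}

theorem affine_basis (O : X.Opens) (x : X) (hx : x ∈ O) :
    ∃ W : X.Opens, IsAffineOpen W ∧ x ∈ W ∧ W ≤ O := by
  obtain ⟨W, hW, hxW, hWO⟩ := (Opens.isBasis_iff_nbhd.mp X.isBasis_affineOpens) hx
  exact ⟨W, hW, hxW, hWO⟩

theorem toSub_surj (I : X.IdealSheafData) (W : X.Opens) (hW : IsAffineOpen W) :
    Function.Surjective ((ClSub.toSubscheme I).app W) := by
  intro s
  obtain ⟨a, ha⟩ := I.subschemeι_app_surjective ⟨W, hW⟩ s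
  exact ⟨SerreCrit.ofFn a, ha⟩

theorem toSub_eq_zero_iff (I : X.IdealSheafData) (W : X.Opens) (hW : IsAffineOpen W)
    (a : Γ(X, W)) :
    (ClSub.toSubscheme I).app W (SerreCrit.ofFn a) = 0 ↔ a ∈ I.ideal ⟨W, hW⟩ := by
  rw [← I.ker_subschemeι_app ⟨W, hW⟩, RingHom.mem_ker]
  exact Iff.rfl

theorem epi_toSub (I : X.IdealSheafData) : Epi (ClSub.toSubscheme I) :=
  Groth.Agent.Lib.OmegaCompat2H4.epi_of_surjective_basis (ClSub.toSubscheme I) IsAffineOpen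
    affine_basis (fun W hW => toSub_surj I W hW)

theorem app_neg_apply {M N : X.Modules} (φ : M ⟶ N) (U : X.Opens) (x : Γ(M, U)) :
    (-φ).app U x = -(φ.app U x) := by
  have h1 : φ.app U x + (-φ).app U x = 0 :=
    (app_add_apply φ (-φ) U x).symm.trans
      ((app_congr (add_neg_cancel φ) U x).trans (app_zero_apply U x))
  exact (neg_eq_of_add_eq_zero_right h1).symm

theorem biprod_sec_ext {F₁ F₂ : X.Modules} (W : X.Opens) (m m' : Γ(F₁ ⊞ F₂, W))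
    (h1 : (biprod.fst : F₁ ⊞ F₂ ⟶ F₁).app W m = (biprod.fst : F₁ ⊞ F₂ ⟶ F₁).app W m')
    (h2 : (biprod.snd : F₁ ⊞ F₂ ⟶ F₂).app W m = (biprod.snd : F₁ ⊞ F₂ ⟶ F₂).app W m') :
    m = m' :=
  (sectionsBiprod F₁ F₂ W).injective (Prod.ext h1 h2)

theorem desc_app {F₁ F₂ G : X.Modules} (a : F₁ ⟶ G) (b : F₂ ⟶ G) (W : X.Opens)
    (m : Γ(F₁ ⊞ F₂, W)) :
    (biprod.desc a (-b)).app W m =
      a.app W ((biprod.fst : F₁ ⊞ F₂ ⟶ F₁).app W m) -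
        b.app W ((biprod.snd : F₁ ⊞ F₂ ⟶ F₂).app W m) := by
  have h1 := app_congr (biprod.desc_eq (f := a) (g := -b)) W m
  have h2 : ((biprod.fst : F₁ ⊞ F₂ ⟶ F₁) ≫ a + (biprod.snd : F₁ ⊞ F₂ ⟶ F₂) ≫ (-b)).app W m =
      a.app W ((biprod.fst : F₁ ⊞ F₂ ⟶ F₁).app W m) +
        (-b).app W ((biprod.snd : F₁ ⊞ F₂ ⟶ F₂).app W m) := rfl
  rw [h1, h2, app_neg_apply, sub_eq_add_neg]

section Main

variable (I₁ I₂ : X.IdealSheafData)
  (q₁ : ClSub.quotMod I₁ ⟶ ClSub.quotMod (I₁ ⊔ I₂))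
  (q₂ : ClSub.quotMod I₂ ⟶ ClSub.quotMod (I₁ ⊔ I₂))

theorem epi_desc (hq₁ : ClSub.toSubscheme I₁ ≫ q₁ = ClSub.toSubscheme (I₁ ⊔ I₂)) :
    Epi (biprod.desc q₁ (-q₂)) := by
  haveI : Epi (ClSub.toSubscheme (I₁ ⊔ I₂)) := epi_toSub _
  haveI : Epi (ClSub.toSubscheme I₁ ≫ q₁) := by rw [hq₁]; infer_instance
  haveI : Epi q₁ := epi_of_epi (ClSub.toSubscheme I₁) q₁
  haveI : Epi ((biprod.inl : ClSub.quotMod I₁ ⟶ ClSub.quotMod I₁ ⊞ ClSub.quotMod I₂) ≫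
      biprod.desc q₁ (-q₂)) := by
    rw [biprod.inl_desc]; infer_instance
  exact epi_of_epi (biprod.inl : ClSub.quotMod I₁ ⟶ ClSub.quotMod I₁ ⊞ ClSub.quotMod I₂)
    (biprod.desc q₁ (-q₂))

theorem w_eq (hq₁ : ClSub.toSubscheme I₁ ≫ q₁ = ClSub.toSubscheme (I₁ ⊔ I₂))
    (hq₂ : ClSub.toSubscheme I₂ ≫ q₂ = ClSub.toSubscheme (I₁ ⊔ I₂)) :
    biprod.lift (ClSub.toSubscheme I₁) (ClSub.toSubscheme I₂) ≫ biprod.desc q₁ (-q₂) = 0 := by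
  rw [biprod.lift_desc, Preadditive.comp_neg, hq₁, hq₂]
  exact add_neg_cancel _

theorem mono_lift (h : I₁ ⊓ I₂ = ⊥) :
    Mono (biprod.lift (ClSub.toSubscheme I₁) (ClSub.toSubscheme I₂)) := by
  refine Groth.Agent.Lib.OmegaCompat2H4.mono_of_injective_basis _ IsAffineOpen affine_basis
    (fun W hW => ?_)
  intro x y hxy
  have hz : (biprod.lift (ClSub.toSubscheme I₁) (ClSub.toSubscheme I₂)).app W (x - y) = 0 := by
    rw [map_sub, hxy, sub_self]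
  have e1 : (biprod.fst : ClSub.quotMod I₁ ⊞ ClSub.quotMod I₂ ⟶ ClSub.quotMod I₁).app W
      ((biprod.lift (ClSub.toSubscheme I₁) (ClSub.toSubscheme I₂)).app W (x - y)) =
      (ClSub.toSubscheme I₁).app W (x - y) :=
    app_congr (biprod.lift_fst (ClSub.toSubscheme I₁) (ClSub.toSubscheme I₂)) W (x - y)
  have e2 : (biprod.snd : ClSub.quotMod I₁ ⊞ ClSub.quotMod I₂ ⟶ ClSub.quotMod I₂).app W
      ((biprod.lift (ClSub.toSubscheme I₁) (ClSub.toSubscheme I₂)).app W (x - y)) =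
      (ClSub.toSubscheme I₂).app W (x - y) :=
    app_congr (biprod.lift_snd (ClSub.toSubscheme I₁) (ClSub.toSubscheme I₂)) W (x - y)
  have h1 : (ClSub.toSubscheme I₁).app W (x - y) = 0 := e1.symm.trans (by rw [hz, map_zero])
  have h2 : (ClSub.toSubscheme I₂).app W (x - y) = 0 := e2.symm.trans (by rw [hz, map_zero])
  have m1 : SerreCrit.toFn (x - y) ∈ I₁.ideal ⟨W, hW⟩ := (toSub_eq_zero_iff I₁ W hW _).mp h1
  have m2 : SerreCrit.toFn (x - y) ∈ I₂.ideal ⟨W, hW⟩ := (toSub_eq_zero_iff I₂ W hW _).mp h2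
  have m3 : SerreCrit.toFn (x - y) ∈ (I₁ ⊓ I₂).ideal ⟨W, hW⟩ := by
    rw [Scheme.IdealSheafData.ideal_inf]
    exact ⟨m1, m2⟩
  rw [h, Scheme.IdealSheafData.ideal_bot] at m3
  have m4 : SerreCrit.toFn (x - y) = 0 := (Submodule.mem_bot _).mp m3
  have m5 : x - y = 0 := m4
  exact sub_eq_zero.mp m5

theorem exact_mid (hq₁ : ClSub.toSubscheme I₁ ≫ q₁ = ClSub.toSubscheme (I₁ ⊔ I₂))
    (hq₂ : ClSub.toSubscheme I₂ ≫ q₂ = ClSub.toSubscheme (I₁ ⊔ I₂)) :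
    (ShortComplex.mk (biprod.lift (ClSub.toSubscheme I₁) (ClSub.toSubscheme I₂))
      (biprod.desc q₁ (-q₂)) (w_eq I₁ I₂ q₁ q₂ hq₁ hq₂)).Exact := by
  refine Groth.Agent.Lib.ConormSeqH4.exact_of_basis IsAffineOpen affine_basis _ _ _
    (fun W hW m hm => ?_)
  obtain ⟨a, ha⟩ := toSub_surj I₁ W hW
    ((biprod.fst : ClSub.quotMod I₁ ⊞ ClSub.quotMod I₂ ⟶ ClSub.quotMod I₁).app W m)
  obtain ⟨b, hb⟩ := toSub_surj I₂ W hW
    ((biprod.snd : ClSub.quotMod I₁ ⊞ ClSub.quotMod I₂ ⟶ ClSub.quotMod I₂).app W m)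
  have e1 : (ClSub.toSubscheme (I₁ ⊔ I₂)).app W a = q₁.app W ((ClSub.toSubscheme I₁).app W a) :=
    (app_congr hq₁ W a).symm
  have e2 : (ClSub.toSubscheme (I₁ ⊔ I₂)).app W b = q₂.app W ((ClSub.toSubscheme I₂).app W b) :=
    (app_congr hq₂ W b).symm
  have h1 : (ClSub.toSubscheme (I₁ ⊔ I₂)).app W (a - b) = 0 := by
    rw [map_sub, e1, e2, ha, hb, ← desc_app]
    exact hm
  have h2 : SerreCrit.toFn (a - b) ∈ (I₁ ⊔ I₂).ideal ⟨W, hW⟩ :=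
    (toSub_eq_zero_iff (I₁ ⊔ I₂) W hW _).mp h1
  rw [Scheme.IdealSheafData.ideal_sup] at h2
  obtain ⟨i₁, hi₁, i₂, hi₂, hsum⟩ := Submodule.mem_sup.mp h2
  have hsum' : SerreCrit.ofFn i₁ + SerreCrit.ofFn i₂ = a - b := hsum
  have z1 : (ClSub.toSubscheme I₁).app W (SerreCrit.ofFn i₁) = 0 :=
    (toSub_eq_zero_iff I₁ W hW i₁).mpr hi₁
  have z2 : (ClSub.toSubscheme I₂).app W (SerreCrit.ofFn i₂) = 0 :=
    (toSub_eq_zero_iff I₂ W hW i₂).mpr hi₂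
  have ha' : a = SerreCrit.ofFn i₁ + SerreCrit.ofFn i₂ + b := sub_eq_iff_eq_add.mp hsum'.symm
  have hc : a - SerreCrit.ofFn i₁ = b + SerreCrit.ofFn i₂ := by
    rw [ha']; abel
  refine ⟨a - SerreCrit.ofFn i₁, ?_⟩
  refine biprod_sec_ext W _ _ ?_ ?_
  · have e3 := app_congr (biprod.lift_fst (ClSub.toSubscheme I₁) (ClSub.toSubscheme I₂)) W
      (a - SerreCrit.ofFn i₁)
    refine e3.trans ?_
    rw [map_sub, z1, sub_zero, ha]
  · have e3 := app_congr (biprod.lift_snd (ClSub.toSubscheme I₁) (ClSub.toSubscheme I₂)) W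
      (a - SerreCrit.ofFn i₁)
    refine e3.trans ?_
    rw [hc, map_add, z2, add_zero, hb]

theorem main (h : I₁ ⊓ I₂ = ⊥)
    (hq₁ : ClSub.toSubscheme I₁ ≫ q₁ = ClSub.toSubscheme (I₁ ⊔ I₂))
    (hq₂ : ClSub.toSubscheme I₂ ≫ q₂ = ClSub.toSubscheme (I₁ ⊔ I₂)) :
    Epi (biprod.desc q₁ (-q₂)) ∧
      ∃ w : biprod.lift (ClSub.toSubscheme I₁) (ClSub.toSubscheme I₂) ≫
          biprod.desc q₁ (-q₂) = 0,
        Nonempty (IsLimit (KernelFork.ofι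
          (biprod.lift (ClSub.toSubscheme I₁) (ClSub.toSubscheme I₂)) w)) := by
  refine ⟨epi_desc I₁ I₂ q₁ q₂ hq₁, w_eq I₁ I₂ q₁ q₂ hq₁ hq₂, ?_⟩
  have hS := exact_mid I₁ I₂ q₁ q₂ hq₁ hq₂
  haveI : Mono (ShortComplex.mk (biprod.lift (ClSub.toSubscheme I₁) (ClSub.toSubscheme I₂))
      (biprod.desc q₁ (-q₂)) (w_eq I₁ I₂ q₁ q₂ hq₁ hq₂)).f := mono_lift I₁ I₂ h
  exact ⟨hS.fIsKernel⟩

end Main

end Groth.Agent.Lib.TwoIdealSeqH4
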