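import Mathlib
import Groth.Prelude
import Groth.Agent.Lib.GEx16_helper2
import Groth.Agent.Lib.TwoIdealSeq_helper4

/-!
# Closed subschemes and their thickenings: ideal-sheaf glue (helper2)

* `isPullback_of_ker_eq_sup`, `ker_eq_sup_of_lift` : a commutative square of closed subschemes of `X`
  is cartesian iff the ideal of the corner is the sum of the two ideals;
* `isClosedImmersion_specQuot`, `isClosedImmersion_thickι`, `thickTrans_thickι`, `ker_specQuot`,
  `ker_thickι_ideal` : the ideal of `X_n = X ×_A A/I^{n+1}` in `X` is `I^{n+1} O_X`;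
* `ker_succ_eq_sup` : for a compatible system of closed subschemes `Z_n ⊆ X_n` the ideals `𝒦_n` of
  `Z_n` in `X` satisfy `𝒦_n = 𝒦_{n+1} + I^{n+1} O_X`;
* `support_quotMod_subset`.
APPEND-ONLY once landed.
-/

set_option autoImplicit false
set_option backward.isDefEq.respectTransparency false
set_option linter.style.haveILetI false
set_option linter.unusedSectionVars false
universe u
open CategoryTheory CategoryTheory.Limits AlgebraicGeometry TopologicalSpace Opposite

namespace Groth.Agent.Lib.GExH2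

open Formal Groth.Agent.Lib.FormalModPowH4 Groth.Agent.Lib.FormalFnH2 Groth.Agent.Lib.FibAmpH2
  Groth.Agent.Lib.FlatBCH2 Groth.Agent.Lib.FibVanH2 Groth.Agent.Lib.FormalQuotH2
  Groth.Agent.Lib.AdicSysH2 Groth.Agent.Lib.LimTruncH2 QcqsLoc Groth.Agent.Lib.ThickH2

section Glue

variable {X : Scheme.{u}}

/-- a commutative square of closed subschemes whose corner has the sum ideal is cartesian -/
theorem isPullback_of_ker_eq_sup {W V Z : Scheme.{u}} (i : W ⟶ X) (j : V ⟶ X) (w : Z ⟶ W)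
    (v : Z ⟶ V) [IsClosedImmersion i] [IsClosedImmersion j] [IsClosedImmersion (w ≫ i)]
    (hc : w ≫ i = v ≫ j) (hk : (w ≫ i).ker = i.ker ⊔ j.ker) : IsPullback w v i j := by
  have hle : ∀ s : PullbackCone i j, (w ≫ i).ker ≤ (s.fst ≫ i).ker := by
    intro s
    rw [hk]
    refine sup_le (Scheme.Hom.le_ker_comp s.fst i) ?_
    rw [s.condition]
    exact Scheme.Hom.le_ker_comp s.snd j
  refine ⟨⟨hc⟩, ⟨PullbackCone.IsLimit.mk hc
    (fun s => IsClosedImmersion.lift (w ≫ i) (s.fst ≫ i) (hle s)) (fun s => ?_) (fun s => ?_)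
    (fun s m hm₁ hm₂ => ?_)⟩⟩
  · rw [← cancel_mono i, Category.assoc, IsClosedImmersion.lift_fac]
  · rw [← cancel_mono j, Category.assoc, ← hc, IsClosedImmersion.lift_fac, s.condition]
  · rw [← cancel_mono (w ≫ i), IsClosedImmersion.lift_fac, ← Category.assoc, hm₁]

/-- the ideal of a fibre product of closed subschemes is the sum of the ideals -/
theorem ker_eq_sup_of_lift {W V Z : Scheme.{u}} (i : W ⟶ X) (j : V ⟶ X) (c : Z ⟶ X) (w : Z ⟶ W)
    (v : Z ⟶ V) [IsClosedImmersion i] [IsClosedImmersion j] (hw : w ≫ i = c) (hv : v ≫ j = c)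
    (hl : ∀ (T : Scheme.{u}) (a : T ⟶ W) (b : T ⟶ V), a ≫ i = b ≫ j → ∃ l : T ⟶ Z, l ≫ w = a) :
    c.ker = i.ker ⊔ j.ker := by
  apply le_antisymm
  · obtain ⟨𝒮, h𝒮⟩ : ∃ 𝒮 : X.IdealSheafData, 𝒮 = i.ker ⊔ j.ker := ⟨_, rfl⟩
    have h1 : i.ker ≤ 𝒮.subschemeι.ker := by
      rw [Scheme.IdealSheafData.ker_subschemeι, h𝒮]
      exact le_sup_left
    have h2 : j.ker ≤ 𝒮.subschemeι.ker := by
      rw [Scheme.IdealSheafData.ker_subschemeι, h𝒮]
      exact le_sup_right
    obtain ⟨l, hl⟩ := hl _ (IsClosedImmersion.lift i 𝒮.subschemeι h1)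
      (IsClosedImmersion.lift j 𝒮.subschemeι h2)
      (by rw [IsClosedImmersion.lift_fac, IsClosedImmersion.lift_fac])
    have h3 : l ≫ c = 𝒮.subschemeι := by
      rw [← hw, ← Category.assoc, hl, IsClosedImmersion.lift_fac]
    have h4 := Scheme.Hom.le_ker_comp l c
    rw [h3, Scheme.IdealSheafData.ker_subschemeι, h𝒮] at h4
    exact h4
  · refine sup_le ?_ ?_
    · rw [← hw]
      exact Scheme.Hom.le_ker_comp w i
    · rw [← hv]
      exact Scheme.Hom.le_ker_comp v j

theorem support_quotMod_subset (𝒦 : X.IdealSheafData) :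
    CohB1.support (ClSub.quotMod 𝒦) ⊆ (𝒦.support : Set X) := by
  refine (support_pushforward_subset 𝒦.subschemeι _).trans ?_
  rw [← Scheme.IdealSheafData.range_subschemeι]
  refine closure_minimal (Set.image_subset_range _ _) ?_
  exact 𝒦.subschemeι.isClosedEmbedding.isClosed_range

end Glue

section Thick

variable {A : Type u} [CommRing A] (I : Ideal A) (n : ℕ)

instance isClosedImmersion_specQuot : IsClosedImmersion (CohB1.specQuot I n) :=
  IsClosedImmersion.spec_of_surjective _ Ideal.Quotient.mk_surjective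

theorem ker_specQuot (K : Ideal A) :
    RingHom.ker ((Spec.map (CommRingCat.ofHom (Ideal.Quotient.mk K))).app ⊤).hom =
      Ideal.map (Scheme.ΓSpecIso (CommRingCat.of A)).inv.hom K := by
  have hnat := Scheme.ΓSpecIso_inv_naturality (CommRingCat.ofHom (Ideal.Quotient.mk K))
  have hnat' : ∀ a : A, ((Spec.map (CommRingCat.ofHom (Ideal.Quotient.mk K))).app ⊤).hom
      ((Scheme.ΓSpecIso (CommRingCat.of A)).inv.hom a) =
      (Scheme.ΓSpecIso (CommRingCat.of (A ⧸ K))).inv.hom (Ideal.Quotient.mk K a) :=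
    fun a => (congrArg (fun ψ => ψ.hom a) hnat).symm
  apply le_antisymm
  · intro t ht
    rw [RingHom.mem_ker] at ht
    obtain ⟨a, rfl⟩ : ∃ a : A, (Scheme.ΓSpecIso (CommRingCat.of A)).inv.hom a = t :=
      ⟨(Scheme.ΓSpecIso (CommRingCat.of A)).hom.hom t, by simp⟩
    rw [hnat'] at ht
    have h4 := congrArg (Scheme.ΓSpecIso (CommRingCat.of (A ⧸ K))).hom.hom ht
    have h5 : Ideal.Quotient.mk K a = 0 := by simpa using h4
    exact Ideal.mem_map_of_mem _ (Ideal.Quotient.eq_zero_iff_mem.mp h5)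
  · rw [Ideal.map_le_iff_le_comap]
    intro a ha
    rw [Ideal.mem_comap, RingHom.mem_ker, hnat', Ideal.Quotient.eq_zero_iff_mem.mpr ha, map_zero]

variable {X : Scheme.{u}} (f : X ⟶ Spec (CommRingCat.of A))

instance isClosedImmersion_thickι : IsClosedImmersion (CohB1.thickι f I n) :=
  inferInstanceAs (IsClosedImmersion (pullback.fst f (CohB1.specQuot I n)))

theorem thickTrans_thickι :
    CohB1.thickTrans f I n ≫ CohB1.thickι f I (n + 1) = CohB1.thickι f I n := by
  unfold CohB1.thickTrans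
  exact (pullback.lift_fst _ _ _).trans (Category.comp_id _)

theorem thickι_comp : CohB1.thickι f I n ≫ f = CohB1.thickToBase f I n ≫ CohB1.specQuot I n :=
  pullback.condition

/-- the ideal of `X_n` in `X` is `I^{n+1} O_X` -/
theorem ker_thickι_ideal [X.Over (Spec (CommRingCat.of A))] (U : X.affineOpens) :
    (CohB1.thickι (X ↘ Spec (CommRingCat.of A)) I n).ker.ideal U =
      Ideal.map (rUHom (A := A) U.1) (I ^ (n + 1)) := by
  have hle : U.1 ≤ (X ↘ Spec (CommRingCat.of A)) ⁻¹ᵁ (⊤ : (Spec (CommRingCat.of A)).Opens) :=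
    fun _ _ => trivial
  have h1 : (CohB1.thickι (X ↘ Spec (CommRingCat.of A)) I n).ker =
      (CohB1.specQuot I n).ker.comap (X ↘ Spec (CommRingCat.of A)) :=
    Scheme.IdealSheafData.ker_fst_of_isClosedImmersion (CohB1.specQuot I n)
      (X ↘ Spec (CommRingCat.of A))
  rw [h1, ChevAH8.ideal_comap_eq_map_ideal _ _ ⟨⊤, isAffineOpen_top _⟩ U hle,
    Scheme.Hom.ker_apply]
  have h2 : RingHom.ker ((CohB1.specQuot I n).app ⊤).hom =
      Ideal.map (Scheme.ΓSpecIso (CommRingCat.of A)).inv.hom (I ^ (n + 1)) :=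
    ker_specQuot (I ^ (n + 1))
  rw [h2, Ideal.map_map]
  congr 1

/-- the ideals of a compatible system of closed subschemes of the thickenings -/
theorem ker_succ_eq_sup (Z : ℕ → Scheme.{u}) (z : ∀ n, Z n ⟶ CohB1.thick f I n)
    (t : ∀ n, Z n ⟶ Z (n + 1)) (hz : ∀ n, IsClosedImmersion (z n))
    (ht : ∀ n, IsPullback (t n) (z n) (z (n + 1)) (CohB1.thickTrans f I n)) (n : ℕ) :
    (z n ≫ CohB1.thickι f I n).ker =
      (z (n + 1) ≫ CohB1.thickι f I (n + 1)).ker ⊔ (CohB1.thickι f I n).ker := by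
  haveI := hz (n + 1)
  refine ker_eq_sup_of_lift (z (n + 1) ≫ CohB1.thickι f I (n + 1)) (CohB1.thickι f I n) _
    (t n) (z n) ?_ rfl ?_
  · rw [← Category.assoc, (ht n).w, Category.assoc, thickTrans_thickι]
  · intro T a b hab
    have h1 : a ≫ z (n + 1) = b ≫ CohB1.thickTrans f I n := by
      rw [← cancel_mono (CohB1.thickι f I (n + 1)), Category.assoc, Category.assoc,
        thickTrans_thickι, hab]
    exact ⟨(ht n).lift a b h1, (ht n).lift_fst a b h1⟩

end Thick

end Groth.Agent.Lib.GExH2
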