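import Mathlib
import Groth.Prelude
import Groth.Agent.Lib.GEx17_helper2
import Groth.Agent.Lib.CohKer_helper8
import Groth.Agent.Lib.CohDev8_helper8
import Groth.Agent.Lib.CohDev11_helper8
import Groth.Agent.Lib.AnnSh_helper8
import Groth.Agent.Lib.AnnSh2_helper8
import Groth.Agent.Lib.HomLin4_helper8
import Groth.Agent.Lib.FF5_helper2

/-!
# Algebraization of a formal closed subscheme: the ideal-sheaf statement (helper2)

* `exists_quotMod_desc` : maps out of `O_X / 𝒦`;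
* `qSys`, `isCohFormal_qSys` : a system of ideals `𝒦_n = 𝒦_{n+1} + I^{n+1} O_X` gives the coherent formal module
  `(O_X / 𝒦_n)`;
* `isZero_of_isZero_modPow`, `epi_of_epi_mod` : Nakayama for coherent modules with support proper over a complete base;
* `ideal_eq_ann_sup` (algebra), `exists_ideal_of_system` : there is an ideal `𝒥` with proper support and
  `𝒦_n = 𝒥 + I^{n+1} O_X` for all `n`.
APPEND-ONLY once landed.
-/

set_option autoImplicit false
set_option backward.isDefEq.respectTransparency false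
set_option linter.style.haveILetI false
set_option linter.unusedSectionVars false
universe u
open CategoryTheory CategoryTheory.Limits AlgebraicGeometry TopologicalSpace Opposite

namespace Groth.Agent.Lib.GExH2

open Formal Groth.Agent.Lib.FormalModPowH4 Groth.Agent.Lib.FormalFnH2 Groth.Agent.Lib.FibAmpH2
  Groth.Agent.Lib.FlatBCH2 Groth.Agent.Lib.FibVanH2 Groth.Agent.Lib.FormalQuotH2
  Groth.Agent.Lib.AdicSysH2 Groth.Agent.Lib.LimTruncH2 QcqsLoc Groth.Agent.Lib.ThickH2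
  Groth.Agent.Lib.TwoIdealSeqH4

section Sys

variable {A : Type u} [CommRing A] (I : Ideal A) {X : Scheme.{u}}
  [X.Over (Spec (CommRingCat.of A))]

/-- maps out of `O_X / 𝒦` -/
theorem exists_quotMod_desc (𝒦 : X.IdealSheafData) {Z : X.Modules}
    (g : Coh.structureModule X ⟶ Z)
    (hg : ∀ (U : X.Opens) (hU : IsAffineOpen U) (a : Γ(X, U)), a ∈ 𝒦.ideal ⟨U, hU⟩ →
      g.app U (SerreCrit.ofFn a) = 0) :
    ∃ g' : ClSub.quotMod 𝒦 ⟶ Z, ClSub.toSubscheme 𝒦 ≫ g' = g := by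
  haveI : Epi (ClSub.toSubscheme 𝒦) := epi_toSub 𝒦
  have h0 : kernel.ι (ClSub.toSubscheme 𝒦) ≫ g = 0 := by
    refine hom_ext_affine _ _ (fun U hU x => ?_)
    rw [comp_app', zero_app']
    apply hg U hU
    rw [← toSub_eq_zero_iff 𝒦 U hU]
    show (ClSub.toSubscheme 𝒦).app U ((kernel.ι (ClSub.toSubscheme 𝒦)).app U x) = 0
    rw [← comp_app', kernel.condition, zero_app']
  have hcol := Abelian.epiIsCokernelOfKernel (KernelFork.ofι (kernel.ι (ClSub.toSubscheme 𝒦))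
    (kernel.condition _)) (kernelIsKernel (ClSub.toSubscheme 𝒦))
  exact ⟨hcol.desc (CokernelCofork.ofπ g h0), Cofork.IsColimit.π_desc hcol⟩

/-- functions in `I' O_X` are killed by maps killed by `I'` -/
theorem app_eq_zero_of_mem_map {Z : X.Modules} (g : Coh.structureModule X ⟶ Z) (J : Ideal A)
    (hg : ∀ a ∈ J, Formal.smulMod A (Coh.structureModule X) a ≫ g = 0) (U : X.Opens)
    (b : Γ(X, U)) (hb : b ∈ Ideal.map (rUHom (A := A) U) J) :
    g.app U (SerreCrit.ofFn b) = 0 := by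
  let N : Ideal Γ(X, U) :=
    LinearMap.ker ((sl g U).comp (CohDevH8.sectionsOOEquiv U).toLinearMap)
  have hN : Ideal.map (rUHom (A := A) U) J ≤ N := by
    rw [Ideal.map_le_iff_le_comap]
    intro a ha
    show g.app U (SerreCrit.ofFn (rUHom (A := A) U a)) = 0
    have h1 := congrArg (fun θ => θ.app U (SerreCrit.ofFn (1 : Γ(X, U)))) (hg a ha)
    have h2 : (Formal.smulMod A (Coh.structureModule X) a ≫ g).app U
        (SerreCrit.ofFn (1 : Γ(X, U))) = g.app U (SerreCrit.ofFn (rUHom (A := A) U a)) := by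
      rw [comp_app', smulMod_app]
      congr 1
      show rU a U * 1 = rU a U
      rw [mul_one]
    rw [← h2]
    exact h1.trans (zero_app' U _)
  exact hN hb

variable (𝒦 ℐ : ℕ → X.IdealSheafData)
  (hℐ : ∀ (n : ℕ) (U : X.affineOpens),
    (ℐ n).ideal U = Ideal.map (rUHom (A := A) U.1) (I ^ (n + 1)))
  (h1 : ∀ n, 𝒦 n = 𝒦 (n + 1) ⊔ ℐ n)

/-- `O_X / 𝒦_n` -/
noncomputable abbrev qG (n : ℕ) : X.Modules := ClSub.quotMod (𝒦 n)

/-- `O_X ⟶ O_X / 𝒦_n` -/
noncomputable abbrev qq (n : ℕ) : Coh.structureModule X ⟶ qG 𝒦 n := ClSub.toSubscheme (𝒦 n)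

include h1 in
theorem exists_qτ (n : ℕ) : ∃ τ : qG 𝒦 (n + 1) ⟶ qG 𝒦 n, qq 𝒦 (n + 1) ≫ τ = qq 𝒦 n := by
  refine exists_quotMod_desc (𝒦 (n + 1)) (qq 𝒦 n) (fun U hU a ha => ?_)
  rw [toSub_eq_zero_iff (𝒦 n) U hU, h1 n]
  exact (le_sup_left : 𝒦 (n + 1) ≤ 𝒦 (n + 1) ⊔ ℐ n) ⟨U, hU⟩ ha

/-- the transition maps -/
noncomputable def qτ (n : ℕ) : qG 𝒦 (n + 1) ⟶ qG 𝒦 n := (exists_qτ 𝒦 ℐ h1 n).choose

theorem qq_qτ (n : ℕ) : qq 𝒦 (n + 1) ≫ qτ 𝒦 ℐ h1 n = qq 𝒦 n := (exists_qτ 𝒦 ℐ h1 n).choose_spec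

/-- the system `(O_X / 𝒦_n)` -/
noncomputable def qSys : ℕᵒᵖ ⥤ X.Modules :=
  Functor.ofOpSequence (X := fun n => qG 𝒦 n) (fun n => qτ 𝒦 ℐ h1 n)

theorem tG_qSys (n : ℕ) : tG (qSys 𝒦 ℐ h1) n = qτ 𝒦 ℐ h1 n :=
  Functor.ofOpSequence_map_homOfLE_succ _ n

include hℐ h1 in
theorem killedBy_qG (n : ℕ) : Formal.KilledBy (I ^ (n + 1)) (qG 𝒦 n) := by
  intro a ha
  haveI : Epi (qq 𝒦 n) := epi_toSub _
  rw [← cancel_epi (qq 𝒦 n), comp_zero, ← smulMod_naturality]
  refine hom_ext_affine _ _ (fun U hU x => ?_)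
  rw [comp_app', zero_app', smulMod_app]
  have e : rU a U • x = SerreCrit.ofFn (rU a U * SerreCrit.toFn x) := rfl
  rw [e, toSub_eq_zero_iff (𝒦 n) U hU, h1 n]
  refine (le_sup_right : ℐ n ≤ 𝒦 (n + 1) ⊔ ℐ n) ⟨U, hU⟩ ?_
  rw [hℐ n ⟨U, hU⟩]
  exact Ideal.mul_mem_right _ _ (Ideal.mem_map_of_mem (rUHom (A := A) U) ha)

include hℐ in
theorem isQuot_qτ (n : ℕ) : IsQuot (I ^ (n + 1)) (qτ 𝒦 ℐ h1 n) := by
  haveI : Epi (qq 𝒦 n) := epi_toSub _
  haveI : Epi (qq 𝒦 (n + 1)) := epi_toSub _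
  refine ⟨fun a ha => ?_, ?_, fun Z g hg => ?_⟩
  · rw [smulMod_naturality, killedBy_qG I 𝒦 ℐ hℐ h1 n a ha, comp_zero]
  · haveI : Epi (qq 𝒦 (n + 1) ≫ qτ 𝒦 ℐ h1 n) := by
      rw [qq_qτ]
      infer_instance
    exact epi_of_epi (qq 𝒦 (n + 1)) _
  · have hg' : ∀ a ∈ I ^ (n + 1),
        Formal.smulMod A (Coh.structureModule X) a ≫ (qq 𝒦 (n + 1) ≫ g) = 0 := by
      intro a ha
      rw [← Category.assoc, smulMod_naturality, Category.assoc, hg a ha, comp_zero]
    obtain ⟨g', hg'⟩ := exists_quotMod_desc (𝒦 n) (qq 𝒦 (n + 1) ≫ g) (fun U hU a ha => by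
      rw [h1 n] at ha
      obtain ⟨k, hk, b, hb, rfl⟩ := Submodule.mem_sup.mp ha
      have e : SerreCrit.ofFn (k + b) = SerreCrit.ofFn k + SerreCrit.ofFn b := rfl
      rw [e, app_add']
      have hk0 : (qq 𝒦 (n + 1) ≫ g).app U (SerreCrit.ofFn k) = 0 := by
        rw [comp_app', (toSub_eq_zero_iff (𝒦 (n + 1)) U hU k).mpr hk, app_zero']
      have hb0 : (qq 𝒦 (n + 1) ≫ g).app U (SerreCrit.ofFn b) = 0 := by
        refine app_eq_zero_of_mem_map _ (I ^ (n + 1)) hg' U b ?_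
        rw [← hℐ n ⟨U, hU⟩]
        exact hb
      rw [hk0, hb0, add_zero])
    refine ⟨g', ?_⟩
    rw [← cancel_epi (qq 𝒦 (n + 1)), ← Category.assoc, qq_qτ, hg']

include hℐ in
theorem isCohFormal_qSys : Formal.IsCohFormal I (qSys 𝒦 ℐ h1) := by
  refine ⟨fun n => ?_, fun n => killedBy_qG I 𝒦 ℐ hℐ h1 n, fun n => ?_⟩
  · exact CohDevH8.isCoh_pushforward_of_isFinite (𝒦 n).subschemeι
      (CohDevH8.isCoh_structureModule _)
  · have h : IsQuot (I ^ (n + 1)) (tG (qSys 𝒦 ℐ h1) n) := by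
      rw [tG_qSys]
      exact isQuot_qτ I 𝒦 ℐ hℐ h1 n
    exact h.cond

end Sys

section Nak2

variable (A : Type u) [CommRing A] [IsNoetherianRing A] (I : Ideal A) [IsAdicComplete I A]
  (X : Scheme.{u}) [X.Over (Spec (CommRingCat.of A))]
  [LocallyOfFiniteType (X ↘ Spec (CommRingCat.of A))] [QuasiCompact (X ↘ Spec (CommRingCat.of A))]

omit [IsNoetherianRing A] [LocallyOfFiniteType (X ↘ Spec (CommRingCat.of A))]
  [QuasiCompact (X ↘ Spec (CommRingCat.of A))] [X.Over (Spec (CommRingCat.of A))] in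
theorem subsingleton_sections_of_isZero {M : X.Modules} (h : IsZero M) (U : X.Opens) :
    Subsingleton Γ(M, U) := by
  have h0 : ∀ c : Γ(M, U), c = 0 := fun c => by
    have h1 : (𝟙 M : M ⟶ M).app U c = (0 : M ⟶ M).app U c := by rw [h.eq_of_src (𝟙 M) 0]
    rw [zero_app'] at h1
    exact h1
  exact ⟨fun a b => by rw [h0 a, h0 b]⟩

omit [IsNoetherianRing A] [LocallyOfFiniteType (X ↘ Spec (CommRingCat.of A))]
  [QuasiCompact (X ↘ Spec (CommRingCat.of A))] [X.Over (Spec (CommRingCat.of A))] in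
theorem support_eq_empty_of_isZero {M : X.Modules} [M.IsQuasicoherent] (h : IsZero M) :
    CohB1.support M = ∅ := by
  rw [Set.eq_empty_iff_forall_notMem]
  intro x hx
  obtain ⟨U, hU, hxU, -⟩ := Opens.isBasis_iff_nbhd.mp X.isBasis_affineOpens (Opens.mem_top x)
  have hU' : IsAffineOpen U := hU
  rw [← AnnSh2H8.mem_support_iff M hU' hxU] at hx
  haveI := subsingleton_sections_of_isZero X h U
  rw [Module.support_eq_empty] at hx
  exact hx

/-- Nakayama: a coherent module with support proper over a complete base and `C = I C` vanishes -/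
theorem isZero_of_isZero_modPow {C : X.Modules} (hC : Coh.IsCoh C)
    (hP : ClSub.IsProperOver (X ↘ Spec (CommRingCat.of A)) (CohB1.support C))
    (h0 : IsZero (Formal.modPow I 1 C)) : IsZero C := by
  haveI : AlgebraicGeometry.IsNoetherian X :=
    { __ := LocallyOfFiniteType.isLocallyNoetherian (X ↘ Spec (CommRingCat.of A))
      __ := QuasiCompact.compactSpace_of_compactSpace (X ↘ Spec (CommRingCat.of A)) }
  haveI := hC.1
  haveI := hC.2
  haveI : (Formal.modPow I 1 C).IsQuasicoherent := isQuasicoherent_modPow I C 1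
  refine CohDevH8.isZero_of_support_eq_empty C (Set.eq_empty_iff_forall_notMem.mpr fun y hy => ?_)
  obtain ⟨hcl, hprop⟩ := hP
  haveI : IsProper (ProperOver.redι (CohB1.support C) hcl ≫ (X ↘ Spec (CommRingCat.of A))) :=
    hprop
  have hpC : IsClosed ((X ↘ Spec (CommRingCat.of A)) '' CohB1.support C) := by
    have h1 : Set.range (ProperOver.redι (CohB1.support C) hcl ≫
        (X ↘ Spec (CommRingCat.of A))) = (X ↘ Spec (CommRingCat.of A)) '' CohB1.support C := by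
      rw [ProperOver.range_comp', ProperOver.range_redι]
    rw [← h1]
    exact (Scheme.Hom.isClosedMap (ProperOver.redι (CohB1.support C) hcl ≫
      (X ↘ Spec (CommRingCat.of A)))).isClosed_range
  obtain ⟨𝔞, h𝔞⟩ := (PrimeSpectrum.isClosed_iff_zeroLocus_ideal _).mp hpC
  have hne : 𝔞 ≠ ⊤ := by
    intro h
    have hmem : (X ↘ Spec (CommRingCat.of A)) y ∈
        (X ↘ Spec (CommRingCat.of A)) '' CohB1.support C := ⟨y, hy, rfl⟩
    rw [h𝔞, h] at hmem
    rw [PrimeSpectrum.mem_zeroLocus] at hmem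
    exact ((X ↘ Spec (CommRingCat.of A)) y : PrimeSpectrum A).isPrime.ne_top
      (top_le_iff.mp hmem)
  obtain ⟨𝔪, h𝔪max, h𝔪le⟩ := Ideal.exists_le_maximal 𝔞 hne
  have hmem : (⟨𝔪, h𝔪max.isPrime⟩ : PrimeSpectrum A) ∈
      (X ↘ Spec (CommRingCat.of A)) '' CohB1.support C := by
    rw [h𝔞]
    exact (PrimeSpectrum.mem_zeroLocus _ _).mpr h𝔪le
  obtain ⟨z, hzC, hz⟩ := hmem
  have hI : I ≤ 𝔪 := (IsAdicComplete.le_jacobson_bot I).trans (sInf_le ⟨bot_le, h𝔪max⟩)
  obtain ⟨U, hU, hzU, -⟩ := Opens.isBasis_iff_nbhd.mp X.isBasis_affineOpens (Opens.mem_top z)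
  have hU' : IsAffineOpen U := hU
  have hzN : z ∈ CohB1.support (Formal.modPow I 1 C) :=
    mem_support_of_isQuot A I hC (n := 1) one_ne_zero (isQuot_modPowπ I 1 C) hU' hzU hzC
      (fun a ha => rU_mem_primeIdealOf A hU' hzU a (by rw [hz]; exact hI ha))
  rw [support_eq_empty_of_isZero X h0] at hzN
  exact hzN

/-- a map of coherent modules into one with proper support which is surjective modulo `I` is surjective -/
theorem epi_of_epi_mod {M F : X.Modules} (hM : Coh.IsCoh M) (hF : Coh.IsCoh F)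
    (hP : ClSub.IsProperOver (X ↘ Spec (CommRingCat.of A)) (CohB1.support F)) (φ : M ⟶ F)
    (h : Epi (φ ≫ Formal.modPowπ I 1 F)) : Epi φ := by
  haveI := hF.1
  haveI := hF.2
  have hC : Coh.IsCoh (cokernel φ) := CohKerH8.isCoh_cokernel hM hF φ
  haveI := hC.1
  haveI := hC.2
  have hPC : ClSub.IsProperOver (X ↘ Spec (CommRingCat.of A)) (CohB1.support (cokernel φ)) :=
    ProperOver.isProperOver_of_subset _ hP (SupportCoh.isClosed_support _)
      (support_subset_of_epi (cokernel.π φ))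
  apply Preadditive.epi_of_isZero_cokernel
  refine isZero_of_isZero_modPow A I X hC hPC ?_
  obtain ⟨u, hu⟩ : ∃ u : F ⟶ Formal.modPow I 1 (cokernel φ),
      u = cokernel.π φ ≫ Formal.modPowπ I 1 (cokernel φ) := ⟨_, rfl⟩
  haveI : Epi (Formal.modPowπ I 1 (cokernel φ)) := (isQuot_modPowπ I 1 (cokernel φ)).2.1
  haveI : Epi u := by
    rw [hu]
    exact epi_comp _ _
  have hu1 : ∀ a ∈ I ^ 1, Formal.smulMod A F a ≫ u = 0 := by
    intro a ha
    rw [hu, ← Category.assoc, smulMod_naturality, Category.assoc,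
      (isQuot_modPowπ I 1 (cokernel φ)).1 a ha, comp_zero]
  obtain ⟨u', hu'⟩ := (isQuot_modPowπ I 1 F).2.2 _ u hu1
  have h2 : (φ ≫ Formal.modPowπ I 1 F) ≫ u' = 0 := by
    rw [Category.assoc, hu', hu, ← Category.assoc, cokernel.condition, zero_comp]
  have h3 : u' = 0 := by
    rw [← cancel_epi (φ ≫ Formal.modPowπ I 1 F), h2, comp_zero]
  have h4 : u = 0 := by rw [← hu', h3, comp_zero]
  rw [IsZero.iff_id_eq_zero, ← cancel_epi u, h4, zero_comp, zero_comp]

end Nak2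

section Alg

theorem ideal_eq_ann_sup {B : Type*} [CommRing B] {M : Type*} [AddCommGroup M] [Module B M]
    (φ : B →ₗ[B] M) (hφ : Function.Surjective φ) (K L : Ideal B)
    (h : ∀ a : B, a ∈ L ↔ φ a ∈ K • (⊤ : Submodule B M)) :
    L = Module.annihilator B M ⊔ K := by
  have hker : LinearMap.ker φ = Module.annihilator B M := by
    ext r
    rw [LinearMap.mem_ker, Module.mem_annihilator]
    constructor
    · intro hr m
      obtain ⟨s, rfl⟩ := hφ m
      rw [← map_smul, smul_eq_mul, mul_comm, ← smul_eq_mul, map_smul, hr, smul_zero]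
    · intro hr
      have := hr (φ 1)
      rwa [← map_smul, smul_eq_mul, mul_one] at this
  have hK : K • (⊤ : Submodule B M) = Submodule.map φ K := by
    have h1 : (⊤ : Submodule B M) = Submodule.map φ (⊤ : Submodule B B) := by
      rw [Submodule.map_top, LinearMap.range_eq_top.mpr hφ]
    rw [h1, ← Submodule.map_smul'']
    congr 1
    exact Ideal.mul_top K
  ext a
  rw [h a, hK, Submodule.mem_sup]
  constructor
  · intro ha
    obtain ⟨b, hb, hba⟩ := Submodule.mem_map.mp ha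
    refine ⟨a - b, ?_, b, hb, sub_add_cancel a b⟩
    rw [← hker, LinearMap.mem_ker, map_sub, hba, sub_self]
  · rintro ⟨r, hr, b, hb, rfl⟩
    refine Submodule.mem_map.mpr ⟨b, hb, ?_⟩
    rw [← hker, LinearMap.mem_ker] at hr
    rw [map_add, hr, zero_add]

end Alg

section Main

theorem iso_app_eq_zero_iff {X : Scheme.{u}} {M N : X.Modules} (c : M ⟶ N) [IsIso c]
    (U : X.Opens) (y : Γ(M, U)) : c.app U y = 0 ↔ y = 0 := by
  constructor
  · intro h
    have h1 : (inv c).app U (c.app U y) = y := by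
      rw [← comp_app', IsIso.hom_inv_id]
      rfl
    rw [← h1, h, app_zero']
  · rintro rfl
    exact app_zero' _ _

variable (A : Type u) [CommRing A] [IsNoetherianRing A] (I : Ideal A) [IsAdicComplete I A]
  (X : Scheme.{u}) [X.Over (Spec (CommRingCat.of A))]
  [IsSeparated (X ↘ Spec (CommRingCat.of A))]
  [LocallyOfFiniteType (X ↘ Spec (CommRingCat.of A))] [QuasiCompact (X ↘ Spec (CommRingCat.of A))]

/-- a system of ideals `𝒦_n = 𝒦_{n+1} + I^{n+1} O_X` with `V(𝒦_0)` proper over the complete base is of the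
form `𝒦_n = 𝒥 + I^{n+1} O_X` with `V(𝒥)` proper -/
theorem exists_ideal_of_system (𝒦 ℐ : ℕ → X.IdealSheafData)
    (hℐ : ∀ (n : ℕ) (U : X.affineOpens),
      (ℐ n).ideal U = Ideal.map (rUHom (A := A) U.1) (I ^ (n + 1)))
    (h1 : ∀ n, 𝒦 n = 𝒦 (n + 1) ⊔ ℐ n)
    (hP : ClSub.IsProperOver (X ↘ Spec (CommRingCat.of A)) ((𝒦 0).support : Set X)) :
    ∃ 𝒥 : X.IdealSheafData,
      ClSub.IsProperOver (X ↘ Spec (CommRingCat.of A)) (𝒥.support : Set X) ∧
        ∀ n, 𝒦 n = 𝒥 ⊔ ℐ n := by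
  haveI : AlgebraicGeometry.IsNoetherian X :=
    { __ := LocallyOfFiniteType.isLocallyNoetherian (X ↘ Spec (CommRingCat.of A))
      __ := QuasiCompact.compactSpace_of_compactSpace (X ↘ Spec (CommRingCat.of A)) }
  haveI hOq : (Coh.structureModule X).IsQuasicoherent := SerreCrit.isQuasicoherent_OO
  have hO : Coh.IsCoh (Coh.structureModule X) := CohDevH8.isCoh_structureModule X
  haveI := hO.2
  have hG := isCohFormal_qSys I 𝒦 ℐ hℐ h1
  have hGs : ClSub.IsProperOver (X ↘ Spec (CommRingCat.of A))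
      (CohB1.support ((qSys 𝒦 ℐ h1).obj (op 0))) := by
    haveI := (hG.1 0).1
    haveI := (hG.1 0).2
    exact ProperOver.isProperOver_of_subset _ hP (SupportCoh.isClosed_support _)
      (support_quotMod_subset (𝒦 0))
  obtain ⟨F, hF, hFs, ⟨e⟩⟩ := main0799 A I X (qSys 𝒦 ℐ h1) hG hGs
  haveI := hF.1
  haveI := hF.2
  have hH : Coh.IsCoh (RefHull.homSh (Coh.structureModule X) F) :=
    HomLinH8.isCoh_homSh _ _ hO hF
  haveI := hH.1
  haveI := hH.2
  have hsH : ClSub.IsProperOver (X ↘ Spec (CommRingCat.of A))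
      (CohB1.support (RefHull.homSh (Coh.structureModule X) F)) :=
    ProperOver.isProperOver_of_subset _ hFs (SupportCoh.isClosed_support _)
      ((Groth.Agent.Lib.FFLFH2.support_homSh_subset _ F).trans Set.inter_subset_right)
  have hbij := main4460 A I X (RefHull.homSh (Coh.structureModule X) F) hH hsH 0
  -- the compatible family
  obtain ⟨ψ, hψdef⟩ : ∃ ψ : ∀ n : ℕ, Coh.structureModule X ⟶ Formal.modPow I (n + 1) F,
      ∀ n, ψ n = qq 𝒦 n ≫ e.inv.app (op n) := ⟨fun n => qq 𝒦 n ≫ e.inv.app (op n), fun _ => rfl⟩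
  have hψ : ∀ n, ψ (n + 1) ≫ Formal.modPowTrans I (n + 1) F = ψ n := by
    intro n
    have hnat := e.inv.naturality (homOfLE (Nat.le_succ n)).op
    have h2 : (Formal.completion I F).map (homOfLE (Nat.le_succ n)).op =
        Formal.modPowTrans I (n + 1) F := completion_map_succ I F n
    have h3 : (qSys 𝒦 ℐ h1).map (homOfLE (Nat.le_succ n)).op = qτ 𝒦 ℐ h1 n :=
      tG_qSys 𝒦 ℐ h1 n
    rw [hψdef, hψdef]
    calc (qq 𝒦 (n + 1) ≫ e.inv.app (op (n + 1))) ≫ Formal.modPowTrans I (n + 1) F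
        = qq 𝒦 (n + 1) ≫ (e.inv.app (op (n + 1)) ≫
            (Formal.completion I F).map (homOfLE (Nat.le_succ n)).op) := by
          rw [Category.assoc, h2]
      _ = qq 𝒦 (n + 1) ≫ ((qSys 𝒦 ℐ h1).map (homOfLE (Nat.le_succ n)).op ≫
            e.inv.app (op n)) := by rw [hnat]
      _ = (qq 𝒦 (n + 1) ≫ qτ 𝒦 ℐ h1 n) ≫ e.inv.app (op n) := by rw [h3, Category.assoc]
      _ = qq 𝒦 n ≫ e.inv.app (op n) := by rw [qq_qτ]
  obtain ⟨φ, hφ, -⟩ := Groth.Agent.Lib.FFLFH2.existsUnique_hom_of_compatible_gen A I X _ F hO hF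
    hbij ψ hψ
  have hφ' : ∀ n, φ ≫ Formal.modPowπ I (n + 1) F ≫ e.hom.app (op n) = qq 𝒦 n := by
    intro n
    have h7 : e.inv.app (op n) ≫ e.hom.app (op n) = 𝟙 _ := by
      rw [← NatTrans.comp_app, e.inv_hom_id, NatTrans.id_app]
    rw [← Category.assoc, hφ n, hψdef n, Category.assoc, h7]
    exact Category.comp_id _
  haveI : Epi φ := by
    refine epi_of_epi_mod A I X hO hF hFs φ ?_
    have h5 : φ ≫ Formal.modPowπ I 1 F = ψ 0 := hφ 0
    rw [h5, hψdef 0]
    haveI : Epi (qq 𝒦 0) := epi_toSub _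
    exact epi_comp _ _
  refine ⟨AnnShH8.annIdeal F, ?_, fun n => ?_⟩
  · rw [AnnShH8.support_annIdeal]
    exact hFs
  · refine Scheme.IdealSheafData.ext ?_
    funext U
    show (𝒦 n).ideal U = (AnnShH8.annIdeal F).ideal U ⊔ (ℐ n).ideal U
    rw [AnnShH8.annIdeal_ideal, hℐ n U]
    obtain ⟨U, hU⟩ := U
    have hK : Ideal.map (rUHom (A := A) U) (I ^ (n + 1)) = (JU A I U) ^ (n + 1) :=
      Ideal.map_pow _ _ _
    rw [hK]
    have hsurj : Function.Surjective
        ((sl φ U).comp (CohDevH8.sectionsOOEquiv U).toLinearMap) :=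
      (sl_surjective_of_epi φ hU).comp (CohDevH8.sectionsOOEquiv U).surjective
    refine ideal_eq_ann_sup _ hsurj _ _ (fun a => ?_)
    rw [← modPowπ_app_eq_zero_iff A I F (n + 1) hU, ← toSub_eq_zero_iff (𝒦 n) U hU a]
    have h5 : (ClSub.toSubscheme (𝒦 n)).app U (SerreCrit.ofFn a) =
        (e.hom.app (op n)).app U ((Formal.modPowπ I (n + 1) F).app U
          (φ.app U (SerreCrit.ofFn a))) := by
      have h6 := congrArg (fun θ => θ.app U (SerreCrit.ofFn a)) (hφ' n)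
      exact h6.symm
    rw [h5, iso_app_eq_zero_iff]
    rfl

end Main

end Groth.Agent.Lib.GExH2
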