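import Mathlib
import Groth.Prelude
import Groth.Agent.Lib.GEx18_helper2

/-!
# Algebraization of a formal closed subscheme (helper2)

* `main0040` : S0040.
APPEND-ONLY once landed.
-/

set_option autoImplicit false
set_option backward.isDefEq.respectTransparency false
set_option linter.style.haveILetI false
set_option linter.unusedSectionVars false
universe u
open CategoryTheory CategoryTheory.Limits AlgebraicGeometry TopologicalSpace Opposite

namespace Groth.Agent.Lib.GExH2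

open Formal Groth.Agent.Lib.FormalModPowH4 Groth.Agent.Lib.FormalFnH2 Groth.Agent.Lib.FibAmpH2
  Groth.Agent.Lib.FlatBCH2 Groth.Agent.Lib.FibVanH2 Groth.Agent.Lib.FormalQuotH2
  Groth.Agent.Lib.AdicSysH2 Groth.Agent.Lib.LimTruncH2 QcqsLoc Groth.Agent.Lib.ThickH2

/-- **S0040**: a compatible system of closed subschemes `Z_n ⊆ X_n` with `Z_0` proper over `A/I` is induced by a
closed subscheme of `X` proper over `A`. -/
theorem main0040 (A : Type u) [CommRing A] [IsNoetherianRing A]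
    (I : Ideal A) [IsAdicComplete I A] {X : Scheme.{u}} (f : X ⟶ Spec (CommRingCat.of A))
    [IsSeparated f] [LocallyOfFiniteType f] [QuasiCompact f]
    (Z : ℕ → Scheme.{u}) (z : (n : ℕ) → (Z n ⟶ CohB1.thick f I n))
    (t : (n : ℕ) → (Z n ⟶ Z (n + 1)))
    (hz : ∀ n, IsClosedImmersion (z n))
    (ht : ∀ n, IsPullback (t n) (z n) (z (n + 1)) (CohB1.thickTrans f I n))
    (hp : IsProper (z 0 ≫ CohB1.thickToBase f I 0)) :
    ∃ (W : Scheme.{u}) (i : W ⟶ X) (w : (n : ℕ) → (Z n ⟶ W)), IsClosedImmersion i ∧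
      IsProper (i ≫ f) ∧ (∀ n, w n = t n ≫ w (n + 1)) ∧
        ∀ n, IsPullback (w n) (z n) i (CohB1.thickι f I n) := by
  letI : X.Over (Spec (CommRingCat.of A)) := ⟨f⟩
  have hf : (X ↘ Spec (CommRingCat.of A)) = f := rfl
  haveI : IsSeparated (X ↘ Spec (CommRingCat.of A)) := inferInstanceAs (IsSeparated f)
  haveI : LocallyOfFiniteType (X ↘ Spec (CommRingCat.of A)) :=
    inferInstanceAs (LocallyOfFiniteType f)
  haveI : QuasiCompact (X ↘ Spec (CommRingCat.of A)) := inferInstanceAs (QuasiCompact f)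
  haveI : ∀ n, IsClosedImmersion (z n) := hz
  obtain ⟨𝒦, h𝒦⟩ : ∃ 𝒦 : ℕ → X.IdealSheafData, ∀ n, 𝒦 n = (z n ≫ CohB1.thickι f I n).ker :=
    ⟨_, fun _ => rfl⟩
  obtain ⟨ℐ, hℐdef⟩ : ∃ ℐ : ℕ → X.IdealSheafData, ∀ n, ℐ n = (CohB1.thickι f I n).ker :=
    ⟨_, fun _ => rfl⟩
  have hℐ : ∀ (n : ℕ) (U : X.affineOpens),
      (ℐ n).ideal U = Ideal.map (rUHom (A := A) U.1) (I ^ (n + 1)) := by
    intro n U
    rw [hℐdef]
    exact ker_thickι_ideal I n U
  have h1 : ∀ n, 𝒦 n = 𝒦 (n + 1) ⊔ ℐ n := by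
    intro n
    rw [h𝒦, h𝒦, hℐdef]
    exact ker_succ_eq_sup I f Z z t hz ht n
  have hP : ClSub.IsProperOver (X ↘ Spec (CommRingCat.of A)) ((𝒦 0).support : Set X) := by
    haveI : IsProper (z 0 ≫ CohB1.thickToBase f I 0) := hp
    have hr : Set.range (z 0 ≫ CohB1.thickι f I 0) = ((𝒦 0).support : Set X) := by
      rw [h𝒦, Scheme.Hom.support_ker]
      exact ((z 0 ≫ CohB1.thickι f I 0).isClosedEmbedding.isClosed_range).closure_eq.symm
    rw [ProperOver.isProperOver_iff_of_closedImmersion (X ↘ Spec (CommRingCat.of A))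
      (z 0 ≫ CohB1.thickι f I 0) hr]
    have e : (z 0 ≫ CohB1.thickι f I 0) ≫ (X ↘ Spec (CommRingCat.of A)) =
        (z 0 ≫ CohB1.thickToBase f I 0) ≫ CohB1.specQuot I 0 := by
      rw [hf, Category.assoc, thickι_comp, Category.assoc]
    rw [e]
    infer_instance
  obtain ⟨𝒥, h𝒥P, h𝒥⟩ := exists_ideal_of_system A I X 𝒦 ℐ hℐ h1 hP
  have hle : ∀ n, 𝒥.subschemeι.ker ≤ (z n ≫ CohB1.thickι f I n).ker := by
    intro n
    rw [Scheme.IdealSheafData.ker_subschemeι, ← h𝒦, h𝒥 n]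
    exact le_sup_left
  refine ⟨𝒥.subscheme, 𝒥.subschemeι, fun n => IsClosedImmersion.lift 𝒥.subschemeι
    (z n ≫ CohB1.thickι f I n) (hle n), inferInstance, ?_, fun n => ?_, fun n => ?_⟩
  · exact (ProperOver.isProperOver_iff_of_closedImmersion f 𝒥.subschemeι
      (Scheme.IdealSheafData.range_subschemeι 𝒥)).mp h𝒥P
  · rw [← cancel_mono 𝒥.subschemeι, Category.assoc, IsClosedImmersion.lift_fac,
      IsClosedImmersion.lift_fac, ← Category.assoc, (ht n).w, Category.assoc, thickTrans_thickι]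
  · haveI : IsClosedImmersion (IsClosedImmersion.lift 𝒥.subschemeι (z n ≫ CohB1.thickι f I n)
        (hle n) ≫ 𝒥.subschemeι) := by
      rw [IsClosedImmersion.lift_fac]
      infer_instance
    refine isPullback_of_ker_eq_sup _ _ _ _ (IsClosedImmersion.lift_fac _ _ _) ?_
    rw [IsClosedImmersion.lift_fac, Scheme.IdealSheafData.ker_subschemeι, ← h𝒦, ← hℐdef, h𝒥 n]

end Groth.Agent.Lib.GExH2
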