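import Mathlib
import Groth.Prelude
import Groth.Agent.Lib.GEx04_helper2
import Groth.Agent.Lib.CohDev16_helper8

/-!
# Existence (2): tools (helper2)

* `hatMap I φ` : the completion of a morphism of modules, with its functoriality, additivity and
  `A`-linearity;
* `isARNull_of_mono_hat`, `eq_of_comp_hat_mono`, `exists_lift_kernel_hat` : "exactness of completion
  as seen by adic systems";
* `exists_isogenies` : in an `A`-linear abelian category, a morphism whose kernel and cokernel are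
  killed by `a_i` admits quasi-inverses `β_{ij}` with `β_{ij} f = a_i a_j`, `f β_{ij} = a_i a_j`;
* `smul_id_cokernel_eq_zero`, `smul_id_kernel_eq_zero` : componentwise criterion in systems;
* `annIdeal M` : the annihilator in the base ring;
* `isCoh_biproduct_const` : finite direct sums of a coherent module;
* `ctx_exists_lift` : mapping into `F' = lim (G ×_{G_n} F_n)`.
APPEND-ONLY once landed.
-/

set_option autoImplicit false
set_option backward.isDefEq.respectTransparency false
set_option linter.style.haveILetI false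
set_option linter.unusedSectionVars false
universe u
open CategoryTheory CategoryTheory.Limits AlgebraicGeometry TopologicalSpace Opposite

namespace Groth.Agent.Lib.GExH2

open Formal Groth.Agent.Lib.FormalModPowH4 Groth.Agent.Lib.FormalFnH2 Groth.Agent.Lib.FibAmpH2
  Groth.Agent.Lib.FlatBCH2 Groth.Agent.Lib.FibVanH2 Groth.Agent.Lib.FormalQuotH2
  Groth.Agent.Lib.AdicSysH2 Groth.Agent.Lib.LimTruncH2 QcqsLoc

section Hat

variable {A : Type u} [CommRing A] (I : Ideal A) {X : Scheme.{u}}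
  [X.Over (Spec (CommRingCat.of A))]

/-- the completion of a morphism -/
noncomputable def hatMap {M N : X.Modules} (φ : M ⟶ N) :
    Formal.completion I M ⟶ Formal.completion I N :=
  ((isComplOf_completion I M).exists_map (isComplOf_completion I N) φ).choose

theorem π_hatMap {M N : X.Modules} (φ : M ⟶ N) (n : ℕ) :
    Formal.modPowπ I (n + 1) M ≫ (hatMap I φ).app (op n) = φ ≫ Formal.modPowπ I (n + 1) N :=
  ((isComplOf_completion I M).exists_map (isComplOf_completion I N) φ).choose_spec n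

theorem hat_ext {M : X.Modules} {G' : ℕᵒᵖ ⥤ X.Modules} (γ γ' : Formal.completion I M ⟶ G')
    (h : ∀ n, Formal.modPowπ I (n + 1) M ≫ γ.app (op n) =
      Formal.modPowπ I (n + 1) M ≫ γ'.app (op n)) : γ = γ' :=
  (isComplOf_completion I M).hom_ext γ γ' h

theorem hatMap_id (M : X.Modules) : hatMap I (𝟙 M) = 𝟙 _ := by
  apply hat_ext I
  intro n
  rw [π_hatMap, Category.id_comp, NatTrans.id_app]
  exact (Category.comp_id _).symm

theorem hatMap_comp {M N P : X.Modules} (φ : M ⟶ N) (ψ : N ⟶ P) :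
    hatMap I (φ ≫ ψ) = hatMap I φ ≫ hatMap I ψ := by
  apply hat_ext I
  intro n
  rw [π_hatMap, NatTrans.comp_app, ← Category.assoc, π_hatMap, Category.assoc, Category.assoc,
    π_hatMap]

theorem hatMap_zero {M N : X.Modules} : hatMap I (0 : M ⟶ N) = 0 := by
  apply hat_ext I
  intro n
  rw [π_hatMap, zero_comp, NatTrans.app_zero, comp_zero]

theorem hatMap_add {M N : X.Modules} (φ ψ : M ⟶ N) :
    hatMap I (φ + ψ) = hatMap I φ + hatMap I ψ := by
  apply hat_ext I
  intro n
  rw [π_hatMap, NatTrans.app_add, Preadditive.comp_add, π_hatMap, π_hatMap,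
    Preadditive.add_comp]

theorem hatMap_smul {M N : X.Modules} (a : A) (φ : M ⟶ N) :
    hatMap I (a • φ) = a • hatMap I φ := by
  apply hat_ext I
  intro n
  rw [π_hatMap, NatTrans.app_smul, Linear.comp_smul, π_hatMap, Linear.smul_comp]

/-- `hatMap` as an additive map -/
noncomputable def hatAdd {M N : X.Modules} :
    (M ⟶ N) →+ (Formal.completion I M ⟶ Formal.completion I N) :=
  AddMonoidHom.mk' (hatMap I) (hatMap_add I)

theorem hatMap_sum {M N : X.Modules} {ι : Type*} (s : Finset ι) (f : ι → (M ⟶ N)) :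
    hatMap I (∑ i ∈ s, f i) = ∑ i ∈ s, hatMap I (f i) :=
  map_sum (hatAdd I) f s

theorem hatMap_sub {M N : X.Modules} (φ ψ : M ⟶ N) :
    hatMap I (φ - ψ) = hatMap I φ - hatMap I ψ :=
  map_sub (hatAdd I) φ ψ

theorem termKilled_hat (M : X.Modules) : ARSys.TermKilled I (Formal.completion I M) :=
  fun n => (arsKilledBy_iff _ _).mpr ((isComplOf_completion I M).killed n)

variable [AlgebraicGeometry.IsNoetherian X]

theorem isCohFormal_hat {M : X.Modules} (hM : Coh.IsCoh M) :
    Formal.IsCohFormal I (Formal.completion I M) :=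
  (isComplOf_completion I M).isCohFormal hM

theorem isStrict_hat {M : X.Modules} (hM : Coh.IsCoh M) :
    ARSys.IsStrict (Formal.completion I M) :=
  isStrict_of_isAdic (isAdic_of_isCohFormal (isCohFormal_hat I hM))

theorem isQuasicoherent_hat (M : X.Modules) [M.IsQuasicoherent] (n : ℕ) :
    (Gn (Formal.completion I M) n).IsQuasicoherent :=
  (isComplOf_completion I M).isQuasicoherent n

/-- a system mapping monomorphically to `M'^` and killed by the completion of a monomorphism
`M' ⟶ M₁` of coherent modules is AR-null -/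
theorem isARNull_of_mono_hat {M' M₁ : X.Modules} (hM' : Coh.IsCoh M') (hM₁ : Coh.IsCoh M₁)
    (m : M' ⟶ M₁) [Mono m] (𝒩 : ℕᵒᵖ ⥤ X.Modules) [∀ n, (Gn 𝒩 n).IsQuasicoherent]
    (j : 𝒩 ⟶ Formal.completion I M') [∀ n, Mono (j.app (op n))] (hj : j ≫ hatMap I m = 0) :
    ARSys.IsARNull 𝒩 :=
  isARNull_of_joint_mono hM' hM₁ hM₁ (isComplOf_completion I M') (isComplOf_completion I M₁)
    (isComplOf_completion I M₁) m m
    (fun U x h1 _ => sl_injective_of_mono m U
      ((sl_apply m U x).trans (h1.trans (map_zero (sl m U)).symm)))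
    (hatMap I m) (π_hatMap I m) (hatMap I m) (π_hatMap I m) 𝒩 j hj hj

theorem isARNull_kernel_hat_of_mono {M' M₁ : X.Modules} (hM' : Coh.IsCoh M')
    (hM₁ : Coh.IsCoh M₁) (m : M' ⟶ M₁) [Mono m] : ARSys.IsARNull (kernel (hatMap I m)) := by
  haveI := hM'.1
  haveI := hM₁.1
  haveI : ∀ n, (Gn (Formal.completion I M') n).IsQuasicoherent := isQuasicoherent_hat I M'
  haveI : ∀ n, (Gn (Formal.completion I M₁) n).IsQuasicoherent := isQuasicoherent_hat I M₁
  haveI : ∀ n, (Gn (kernel (hatMap I m)) n).IsQuasicoherent := fun n =>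
    isQuasicoherent_kernel_app (hatMap I m) n
  haveI : ∀ n, Mono ((kernel.ι (hatMap I m)).app (op n)) := fun n => inferInstance
  exact isARNull_of_mono_hat I hM' hM₁ m _ (kernel.ι _) (kernel.condition _)

/-- completions of monomorphisms of coherent modules are "monomorphisms for strict systems" -/
theorem eq_of_comp_hat_mono {M' M₁ : X.Modules} (hM' : Coh.IsCoh M') (hM₁ : Coh.IsCoh M₁)
    (m : M' ⟶ M₁) [Mono m] {T : ℕᵒᵖ ⥤ X.Modules} (hT : ARSys.IsStrict T)
    (l₁ l₂ : T ⟶ Formal.completion I M') (h : l₁ ≫ hatMap I m = l₂ ≫ hatMap I m) : l₁ = l₂ :=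
  Groth.Agent.Lib.ARAbH4.eq_of_comp_eq_of_null (hatMap I m)
    (isARNull_kernel_hat_of_mono I hM' hM₁ m) hT l₁ l₂ h

/-- a map from an adic system to `M^` killed by the completion of an epimorphism `ψ : M ⟶ N` of
coherent modules lifts to the completion of `kernel ψ` -/
theorem exists_lift_kernel_hat {M N : X.Modules} (hM : Coh.IsCoh M) (hN : Coh.IsCoh N)
    (ψ : M ⟶ N) [Epi ψ] {T : ℕᵒᵖ ⥤ X.Modules} (hT : ARSys.IsAdic I T)
    (t : T ⟶ Formal.completion I M) (ht : t ≫ hatMap I ψ = 0) :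
    ∃ l : T ⟶ Formal.completion I (kernel ψ), l ≫ hatMap I (kernel.ι ψ) = t := by
  haveI := hM.1
  haveI := hN.1
  have hK : Coh.IsCoh (kernel ψ) := CohKerH8.isCoh_kernel hM hN ψ
  haveI := hK.1
  haveI : ∀ n, (Gn (Formal.completion I M) n).IsQuasicoherent := isQuasicoherent_hat I M
  haveI : ∀ n, (Gn (Formal.completion I N) n).IsQuasicoherent := isQuasicoherent_hat I N
  haveI : ∀ n, (Gn (Formal.completion I (kernel ψ)) n).IsQuasicoherent :=
    isQuasicoherent_hat I (kernel ψ)
  have h0 : hatMap I (kernel.ι ψ) ≫ hatMap I ψ = 0 := by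
    rw [← hatMap_comp, kernel.condition, hatMap_zero]
  obtain ⟨v, hv⟩ : ∃ v : Formal.completion I (kernel ψ) ⟶ kernel (hatMap I ψ),
      v ≫ kernel.ι (hatMap I ψ) = hatMap I (kernel.ι ψ) :=
    ⟨kernel.lift _ _ h0, kernel.lift_ι _ _ _⟩
  haveI : ∀ n, Mono ((kernel.ι (hatMap I ψ)).app (op n)) := fun n => inferInstance
  have hvn : ∀ n, Epi (v.app (op n)) := fun n =>
    epi_lift_kernel ψ (isComplOf_completion I M) (isComplOf_completion I N)
      (hatMap I (kernel.ι ψ)) (π_hatMap I (kernel.ι ψ)) (hatMap I ψ) (π_hatMap I ψ)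
      (kernel (hatMap I ψ)) (kernel.ι (hatMap I ψ)) (kernel.condition _) v hv n
  haveI : ∀ k : ℕᵒᵖ, Epi (v.app k) := fun k => hvn k.unop
  haveI : Epi v := NatTrans.epi_of_epi_app v
  haveI : ∀ n, (Gn (kernel (hatMap I ψ)) n).IsQuasicoherent := fun n =>
    isQuasicoherent_kernel_app (hatMap I ψ) n
  haveI : ∀ n, (Gn (kernel v) n).IsQuasicoherent := fun n => isQuasicoherent_kernel_app v n
  haveI : ∀ n, Mono ((kernel.ι v).app (op n)) := fun n => inferInstance
  have hkv : ARSys.IsARNull (kernel v) :=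
    isARNull_of_mono_hat I hK hM (kernel.ι ψ) (kernel v) (kernel.ι v) (by
      rw [← hv, ← Category.assoc, kernel.condition, zero_comp])
  obtain ⟨l, hl⟩ := Groth.Agent.Lib.ARAbH4.lift_of_epi_null I v hkv
    (termKilled_hat I (kernel ψ)) hT (kernel.lift (hatMap I ψ) t ht)
  refine ⟨l, ?_⟩
  rw [← hv, ← Category.assoc, hl, kernel.lift_ι]

end Hat

section Isog

variable {𝒞 : Type*} [Category 𝒞] [Abelian 𝒞] {A : Type*} [CommRing A] [Linear A 𝒞]

theorem exists_isoLam {X Y : 𝒞} (f : X ⟶ Y) (s : A) (hs : s • 𝟙 (cokernel f) = 0) :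
    ∃ lam : Y ⟶ Abelian.image f, lam ≫ Abelian.image.ι f = s • 𝟙 Y := by
  have h1 : s • cokernel.π f = cokernel.π f ≫ (s • 𝟙 (cokernel f)) := by
    rw [Linear.comp_smul, Category.comp_id]
  have h0 : (s • 𝟙 Y) ≫ cokernel.π f = 0 := by
    rw [Linear.smul_comp, Category.id_comp, h1, hs, comp_zero]
  exact ⟨kernel.lift (cokernel.π f) (s • 𝟙 Y) h0, kernel.lift_ι _ _ _⟩

theorem exists_isoMu {X Y : 𝒞} (f : X ⟶ Y) (t : A) (ht : t • 𝟙 (kernel f) = 0) :
    ∃ mu : Abelian.image f ⟶ X, Abelian.factorThruImage f ≫ mu = t • 𝟙 X := by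
  have h1 : kernel.ι (Abelian.factorThruImage f) ≫ f = 0 := by
    have h2 : kernel.ι (Abelian.factorThruImage f) ≫ Abelian.factorThruImage f ≫
        Abelian.image.ι f = 0 := by
      rw [← Category.assoc, kernel.condition, zero_comp]
    rwa [Abelian.image.fac] at h2
  have h3 : kernel.lift f (kernel.ι (Abelian.factorThruImage f)) h1 ≫ kernel.ι f =
      kernel.ι (Abelian.factorThruImage f) := kernel.lift_ι _ _ _
  have h4 : t • kernel.ι f = 0 := by
    have : t • kernel.ι f = (t • 𝟙 (kernel f)) ≫ kernel.ι f := by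
      rw [Linear.smul_comp, Category.id_comp]
    rw [this, ht, zero_comp]
  have h0 : kernel.ι (Abelian.factorThruImage f) ≫ (t • 𝟙 X) = 0 := by
    rw [← h3, Category.assoc, Linear.comp_smul, Category.comp_id, h4, comp_zero]
  exact ⟨Abelian.epiDesc (Abelian.factorThruImage f) (t • 𝟙 X) h0, Abelian.comp_epiDesc _ _ _⟩

/-- quasi-inverses of a morphism whose kernel and cokernel are killed by the `a i` -/
theorem exists_isogenies {X Y : 𝒞} (f : X ⟶ Y) {σ : Type*} (a : σ → A)
    (hc : ∀ i, a i • 𝟙 (cokernel f) = 0) (hk : ∀ i, a i • 𝟙 (kernel f) = 0) :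
    ∃ β : σ × σ → (Y ⟶ X), (∀ p, β p ≫ f = (a p.1 * a p.2) • 𝟙 Y) ∧
      (∀ p, f ≫ β p = (a p.1 * a p.2) • 𝟙 X) ∧
      ∀ p q, (a q.1 * a q.2) • β p = (a p.1 * a p.2) • β q := by
  choose lam hlam using fun i => exists_isoLam f (a i) (hc i)
  choose mu hmu using fun i => exists_isoMu f (a i) (hk i)
  have hmuf : ∀ j, mu j ≫ f = a j • Abelian.image.ι f := by
    intro j
    rw [← cancel_epi (Abelian.factorThruImage f), ← Category.assoc, hmu j, Linear.smul_comp,
      Category.id_comp, Linear.comp_smul, Abelian.image.fac]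
  have hflam : ∀ i, f ≫ lam i = a i • Abelian.factorThruImage f := by
    intro i
    rw [← cancel_mono (Abelian.image.ι f), Category.assoc, hlam i, Linear.comp_smul,
      Category.comp_id, Linear.smul_comp, Abelian.image.fac]
  have hlamc : ∀ i k, a k • lam i = a i • lam k := by
    intro i k
    rw [← cancel_mono (Abelian.image.ι f), Linear.smul_comp, Linear.smul_comp, hlam i, hlam k,
      smul_smul, smul_smul, mul_comm]
  have hmuc : ∀ j l, a l • mu j = a j • mu l := by
    intro j l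
    rw [← cancel_epi (Abelian.factorThruImage f), Linear.comp_smul, Linear.comp_smul, hmu j,
      hmu l, smul_smul, smul_smul, mul_comm]
  refine ⟨fun p => lam p.1 ≫ mu p.2, fun p => ?_, fun p => ?_, fun p q => ?_⟩
  · show (lam p.1 ≫ mu p.2) ≫ f = _
    rw [Category.assoc, hmuf, Linear.comp_smul, hlam, smul_smul, mul_comm]
  · show f ≫ lam p.1 ≫ mu p.2 = _
    rw [← Category.assoc, hflam, Linear.smul_comp, hmu, smul_smul]
  · show (a q.1 * a q.2) • (lam p.1 ≫ mu p.2) = (a p.1 * a p.2) • (lam q.1 ≫ mu q.2)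
    calc (a q.1 * a q.2) • (lam p.1 ≫ mu p.2) = (a q.1 • lam p.1) ≫ (a q.2 • mu p.2) := by
          rw [Linear.smul_comp, Linear.comp_smul, smul_smul]
      _ = (a p.1 • lam q.1) ≫ (a p.2 • mu q.2) := by rw [hlamc p.1 q.1, hmuc p.2 q.2]
      _ = (a p.1 * a p.2) • (lam q.1 ≫ mu q.2) := by
          rw [Linear.smul_comp, Linear.comp_smul, smul_smul]

theorem smul_id_cokernel_eq_zero {F₁ F₂ : ℕᵒᵖ ⥤ 𝒞} (α : F₁ ⟶ F₂) (s : A)
    (h : ∀ n : ℕ, s • 𝟙 (cokernel (α.app (op n))) = 0) : s • 𝟙 (cokernel α) = 0 := by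
  apply NatTrans.ext
  funext k
  obtain ⟨n⟩ := k
  haveI : Epi ((cokernel.π α).app (op n)) := inferInstance
  have h0 : α.app (op n) ≫ (cokernel.π α).app (op n) = 0 := by
    rw [← NatTrans.comp_app, cokernel.condition, NatTrans.app_zero]
  have h1 : cokernel.π (α.app (op n)) ≫ cokernel.desc (α.app (op n)) _ h0 =
      (cokernel.π α).app (op n) := cokernel.π_desc _ _ _
  rw [NatTrans.app_smul, NatTrans.id_app, NatTrans.app_zero,
    ← cancel_epi ((cokernel.π α).app (op n)), comp_zero, Linear.comp_smul, Category.comp_id]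
  calc s • (cokernel.π α).app (op n)
      = (cokernel.π (α.app (op n)) ≫ (s • 𝟙 _)) ≫ cokernel.desc (α.app (op n)) _ h0 := by
        rw [Linear.comp_smul, Category.comp_id, Linear.smul_comp, h1]
    _ = 0 := by rw [h n, comp_zero, zero_comp]

theorem smul_id_kernel_eq_zero {F₁ F₂ : ℕᵒᵖ ⥤ 𝒞} (α : F₁ ⟶ F₂) (s : A)
    (h : ∀ n : ℕ, s • 𝟙 (kernel (α.app (op n))) = 0) : s • 𝟙 (kernel α) = 0 := by
  apply NatTrans.ext
  funext k
  obtain ⟨n⟩ := k
  haveI : Mono ((kernel.ι α).app (op n)) := inferInstance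
  have h0 : (kernel.ι α).app (op n) ≫ α.app (op n) = 0 := by
    rw [← NatTrans.comp_app, kernel.condition, NatTrans.app_zero]
  have h1 : kernel.lift (α.app (op n)) _ h0 ≫ kernel.ι (α.app (op n)) =
      (kernel.ι α).app (op n) := kernel.lift_ι _ _ _
  rw [NatTrans.app_smul, NatTrans.id_app, NatTrans.app_zero,
    ← cancel_mono ((kernel.ι α).app (op n)), zero_comp, Linear.smul_comp, Category.id_comp]
  calc s • (kernel.ι α).app (op n)
      = kernel.lift (α.app (op n)) _ h0 ≫ (s • 𝟙 _) ≫ kernel.ι (α.app (op n)) := by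
        rw [Linear.smul_comp, Category.id_comp, Linear.comp_smul, h1]
    _ = 0 := by rw [h n, zero_comp, comp_zero]

end Isog

section Ann

variable {A : Type u} [CommRing A] {X : Scheme.{u}} [X.Over (Spec (CommRingCat.of A))]

/-- the annihilator of a module in the base ring -/
def annIdeal (M : X.Modules) : Ideal A where
  carrier := {x | Formal.smulMod A M x = 0}
  add_mem' := by
    intro x y hx hy
    have hx' : Formal.smulMod A M x = 0 := hx
    have hy' : Formal.smulMod A M y = 0 := hy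
    show Formal.smulMod A M (x + y) = 0
    rw [← smul_id_eq, add_smul, smul_id_eq, smul_id_eq, hx', hy', add_zero]
  zero_mem' := by
    show Formal.smulMod A M 0 = 0
    rw [← smul_id_eq, zero_smul]
  smul_mem' := by
    intro c x hx
    have hx' : Formal.smulMod A M x = 0 := hx
    show Formal.smulMod A M (c • x) = 0
    rw [smul_eq_mul, smulMod_mul, hx', zero_comp]

theorem mem_annIdeal (M : X.Modules) (x : A) : x ∈ annIdeal M ↔ Formal.smulMod A M x = 0 :=
  Iff.rfl

theorem killedBy_iff_le (J : Ideal A) (M : X.Modules) :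
    Formal.KilledBy J M ↔ J ≤ annIdeal M :=
  ⟨fun h x hx => h x hx, fun h a ha => h ha⟩

end Ann

section Biprod

variable {X : Scheme.{u}}

theorem isZero_sigma_fin_zero' (L : X.Modules) : IsZero (∐ fun _ : Fin 0 => L) := by
  rw [IsZero.iff_id_eq_zero]
  apply Sigma.hom_ext
  intro j
  exact Fin.elim0 j

/-- `∐_{Fin (k+1)} L ≅ L ⊞ ∐_{Fin k} L` -/
noncomputable def sigmaSuccIso' (L : X.Modules) (k : ℕ) :
    (∐ fun _ : Fin (k + 1) => L) ≅ L ⊞ (∐ fun _ : Fin k => L) where
  hom := Sigma.desc (fun j => Fin.cases (motive := fun _ => L ⟶ L ⊞ (∐ fun _ : Fin k => L))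
    biprod.inl (fun j' => Sigma.ι (fun _ : Fin k => L) j' ≫ biprod.inr) j)
  inv := biprod.desc (Sigma.ι (fun _ : Fin (k + 1) => L) 0)
    (Sigma.desc (fun j => Sigma.ι (fun _ : Fin (k + 1) => L) j.succ))
  hom_inv_id := by
    apply Sigma.hom_ext
    intro j
    rw [Sigma.ι_desc_assoc, Category.comp_id]
    refine Fin.cases ?_ (fun j' => ?_) j
    · rw [Fin.cases_zero, biprod.inl_desc]
    · rw [Fin.cases_succ, Category.assoc, biprod.inr_desc, Sigma.ι_desc]
  inv_hom_id := by
    apply biprod.hom_ext'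
    · rw [biprod.inl_desc_assoc, Sigma.ι_desc, Fin.cases_zero, Category.comp_id]
    · rw [biprod.inr_desc_assoc, Category.comp_id]
      apply Sigma.hom_ext
      intro j
      rw [Sigma.ι_desc_assoc, Sigma.ι_desc, Fin.cases_succ]

theorem isCoh_sigma_fin' [IsLocallyNoetherian X] (L : X.Modules) (hL : Coh.IsCoh L) :
    ∀ k : ℕ, Coh.IsCoh (∐ fun _ : Fin k => L)
  | 0 => CohDevH8.isCoh_of_isZero (isZero_sigma_fin_zero' L)
  | k + 1 => CohDevH8.isCoh_of_iso (sigmaSuccIso' L k)
      (CohDevH8.isCoh_biprod hL (isCoh_sigma_fin' L hL k))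

/-- a finite direct sum of copies of a coherent module is coherent -/
theorem isCoh_biproduct_const [IsLocallyNoetherian X] (J : Type) [Fintype J] (L : X.Modules)
    (hL : Coh.IsCoh L) : Coh.IsCoh (⨁ fun _ : J => L) := by
  have e₁ : (⨁ fun _ : J => L) ≅ ⨁ fun _ : Fin (Fintype.card J) => L :=
    biproduct.reindex (Fintype.equivFin J) (fun _ : Fin (Fintype.card J) => L)
  have e₂ : (⨁ fun _ : Fin (Fintype.card J) => L) ≅ ∐ fun _ : Fin (Fintype.card J) => L :=
    biproduct.isoCoproduct _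
  exact CohDevH8.isCoh_of_iso (e₁ ≪≫ e₂) (isCoh_sigma_fin' L hL _)

end Biprod

section CtxLift

open Groth.Agent.Lib.FormalARH2

variable {A : Type u} [CommRing A] {I : Ideal A} {X : Scheme.{u}}
  [X.Over (Spec (CommRingCat.of A))]

/-- mapping into `F' = lim_n (G ×_{G_n} F_n)` -/
theorem ctx_exists_lift (C : Ctx A I X) {W : X.Modules} (u : W ⟶ C.G)
    (w : ∀ n, W ⟶ Gn C.F n) (hw : ∀ n, w (n + 1) ≫ tG C.F n = w n)
    (hu : ∀ n, u ≫ C.πc n = w n ≫ C.αn n) :
    ∃ l : W ⟶ C.Fp, l ≫ C.aF = u ∧ ∀ n, l ≫ C.τ n = w n := by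
  obtain ⟨an, han⟩ : ∃ an : ∀ n, W ⟶ C.Pn n, ∀ n, an n = pullback.lift u (w n) (hu n) :=
    ⟨_, fun _ => rfl⟩
  have h1 : ∀ n, an n ≫ pullback.fst _ _ = u := fun n => by
    rw [han]
    exact pullback.lift_fst _ _ _
  have h2 : ∀ n, an n ≫ pullback.snd _ _ = w n := fun n => by
    rw [han]
    exact pullback.lift_snd _ _ _
  have h3 : ∀ n, an (n + 1) ≫ C.θ n = an n := by
    intro n
    apply pullback.hom_ext
    · rw [Category.assoc, C.θ_fst, h1, h1]
    · rw [Category.assoc, C.θ_snd, ← Category.assoc, h2, h2, hw]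
  let cone : Cone C.PF := ⟨W, NatTrans.ofOpSequence (F := (Functor.const ℕᵒᵖ).obj W) (G := C.PF) an
    (fun n => by
      have e : C.PF.map (homOfLE (n.le_add_right 1)).op = C.θ n := C.tG_PF n
      rw [e, h3 n]
      exact Category.id_comp _)⟩
  have hl : ∀ n, limit.lift C.PF cone ≫ C.ρ n = an n := by
    intro n
    show limit.lift C.PF cone ≫ limit.π C.PF (op n) = an n
    rw [limit.lift_π]
    rfl
  refine ⟨limit.lift C.PF cone, ?_, fun n => ?_⟩
  · rw [← C.ρ_fst 0, ← Category.assoc, hl, h1]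
  · show limit.lift C.PF cone ≫ C.ρ n ≫ pullback.snd _ _ = w n
    rw [← Category.assoc, hl, h2]

end CtxLift

end Groth.Agent.Lib.GExH2
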