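import Mathlib
import Groth.Prelude
import Groth.Agent.Lib.GEx23_helper2

/-!
# Existence (2) (helper2)

`X` Noetherian over `Spec A`, `G` coherent, `(F_n)` a coherent formal module and
`α : (G/I^{n+1}G) ⟶ (F_n)` with kernels and cokernels killed by a power of `I`.  Then there are a
coherent `F'`, `a : G ⟶ F'` with `I`-power torsion kernel and cokernel and `F'^ ≅ (F_n)` under which
`α` is the completion of `a` (`main0851`, S0851).

Proof: with generators `b_k` of a power of (a finitely generated model of) `I` one has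
quasi-inverses `β_k : (F_n) ⟶ G^` of `α`, `β_k α = b_k`, `α β_k = b_k`, `b_l β_k = b_k β_l`.  Put
`P = {(x_k) ∈ G^J : b_l x_k = b_k x_l}`, a coherent module; `(β_k)_k` lifts to `γ₀ : (F_n) ⟶ P^`
(exactness of completion as seen by adic systems), with kernel and cokernel killed by the `b_k`.
Then `F' = lim_n (P ×_{P_n} F_n)` of S0829 works, with `a` induced by `g ↦ (b_k g)_k`.
APPEND-ONLY once landed.
-/

set_option autoImplicit false
set_option backward.isDefEq.respectTransparency false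
set_option linter.style.haveILetI false
set_option linter.unusedSectionVars false
universe u
open CategoryTheory CategoryTheory.Limits AlgebraicGeometry TopologicalSpace Opposite

namespace Groth.Agent.Lib.GExH2

open Formal Groth.Agent.Lib.FormalModPowH4 Groth.Agent.Lib.FormalFnH2 Groth.Agent.Lib.FibAmpH2
  Groth.Agent.Lib.FlatBCH2 Groth.Agent.Lib.FibVanH2 Groth.Agent.Lib.FormalQuotH2
  Groth.Agent.Lib.AdicSysH2 Groth.Agent.Lib.LimTruncH2 QcqsLoc Groth.Agent.Lib.FormalARH2

section Core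

variable {A : Type u} [CommRing A] {I : Ideal A} {X : Scheme.{u}}
  [X.Over (Spec (CommRingCat.of A))] [AlgebraicGeometry.IsNoetherian X]

/-- the core construction, from quasi-inverses `β_k` of `α` -/
theorem exists_of_isogenies (G : X.Modules) (hG : Coh.IsCoh G) (F : ℕᵒᵖ ⥤ X.Modules)
    (hF : Formal.IsCohFormal I F) (α : Formal.completion I G ⟶ F)
    {J : Type} [Fintype J] [DecidableEq J] (b : J → A)
    (β : J → (F ⟶ Formal.completion I G))
    (H1 : ∀ k, β k ≫ α = b k • 𝟙 F) (H2 : ∀ k, α ≫ β k = b k • 𝟙 (Formal.completion I G))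
    (H3 : ∀ k l, b l • β k = b k • β l)
    (Gd : X.Modules) (hGd : Coh.IsCoh Gd) (πd : J → (Gd ⟶ G)) (ιd : J → (G ⟶ Gd))
    (hιπ : ∀ j k, ιd j ≫ πd k = if j = k then 𝟙 G else 0)
    (htot : ∑ k, πd k ≫ ιd k = 𝟙 Gd)
    (Gdd : X.Modules) (hGdd : Coh.IsCoh Gdd) (πdd : J × J → (Gdd ⟶ G))
    (ιdd : J × J → (G ⟶ Gdd)) (htot' : ∑ p, πdd p ≫ ιdd p = 𝟙 Gdd)
    (hlift : ∀ (f : J × J → (Gd ⟶ G)), ∃ g : Gd ⟶ Gdd, ∀ p, g ≫ πdd p = f p)
    (c : ℕ)
    (hb : ∀ M : X.Modules, (∀ k, Formal.smulMod A M (b k) = 0) → Formal.KilledBy (I ^ c) M)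
    (hb2 : ∀ M : X.Modules, (∀ s ∈ I ^ c, ∀ k, Formal.smulMod A M (s * b k) = 0) →
      Formal.KilledBy (I ^ (c + c)) M) :
    ∃ (F' : X.Modules) (a : G ⟶ F') (β' : Formal.completion I F' ≅ F), Coh.IsCoh F' ∧
      Formal.KilledBy (I ^ (c + c)) (kernel a) ∧ Formal.KilledBy (I ^ (c + c)) (cokernel a) ∧
      ∀ n : ℕ, Formal.modPowπ I (n + 1) G ≫ α.app (op n) =
        a ≫ Formal.modPowπ I (n + 1) F' ≫ β'.hom.app (op n) := by
  have hFadic : ARSys.IsAdic I F := isAdic_of_isCohFormal hF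
  have hFstrict : ARSys.IsStrict F := isStrict_of_isAdic hFadic
  have hGstrict := isStrict_hat I hG
  -- extensionality for `Gdd`, `Gd` and the completion of `Gdd`
  have hext_dd : ∀ {W : X.Modules} (f : W ⟶ Gdd), (∀ p, f ≫ πdd p = 0) → f = 0 := by
    intro W f hf
    rw [← Category.comp_id f, ← htot', Preadditive.comp_sum]
    refine Finset.sum_eq_zero (fun p _ => ?_)
    rw [← Category.assoc, hf p, zero_comp]
  have hext_d : ∀ {W : X.Modules} (f g : W ⟶ Gd), (∀ k, f ≫ πd k = g ≫ πd k) → f = g := by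
    intro W f g hfg
    rw [← Category.comp_id f, ← Category.comp_id g, ← htot, Preadditive.comp_sum,
      Preadditive.comp_sum]
    refine Finset.sum_congr rfl (fun k _ => ?_)
    rw [← Category.assoc, ← Category.assoc, hfg k]
  have hhtot' : ∑ p, hatMap I (πdd p) ≫ hatMap I (ιdd p) = 𝟙 (Formal.completion I Gdd) := by
    rw [← hatMap_id, ← htot', hatMap_sum]
    exact Finset.sum_congr rfl (fun p _ => (hatMap_comp I _ _).symm)
  have hhext_dd : ∀ {T : ℕᵒᵖ ⥤ X.Modules} (f : T ⟶ Formal.completion I Gdd),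
      (∀ p, f ≫ hatMap I (πdd p) = 0) → f = 0 := by
    intro T f hf
    rw [← Category.comp_id f, ← hhtot', Preadditive.comp_sum]
    refine Finset.sum_eq_zero (fun p _ => ?_)
    rw [← Category.assoc, hf p, zero_comp]
  -- the map `ψ : x ↦ (b_j x_k - b_k x_j)`
  obtain ⟨ψ, hψ0⟩ := hlift (fun p => b p.2 • πd p.1 - b p.1 • πd p.2)
  have hψ : ∀ k j, ψ ≫ πdd (k, j) = b j • πd k - b k • πd j := fun k j => hψ0 (k, j)
  -- `γ = (β_k)_k`
  obtain ⟨γ, hγdef⟩ : ∃ γ : F ⟶ Formal.completion I Gd, γ = ∑ k, β k ≫ hatMap I (ιd k) :=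
    ⟨_, rfl⟩
  have hγπ : ∀ k, γ ≫ hatMap I (πd k) = β k := by
    intro k
    rw [hγdef, Preadditive.sum_comp]
    refine (Finset.sum_eq_single k (fun j _ hjk => ?_)
      (fun h => absurd (Finset.mem_univ k) h)).trans ?_
    · rw [Category.assoc, ← hatMap_comp, hιπ, if_neg hjk, hatMap_zero, comp_zero]
    · rw [Category.assoc, ← hatMap_comp, hιπ, if_pos rfl, hatMap_id, Category.comp_id]
  have hγψ : γ ≫ hatMap I ψ = 0 := by
    apply hhext_dd
    rintro ⟨k, j⟩
    rw [Category.assoc, ← hatMap_comp, hψ k j, hatMap_sub, hatMap_smul, hatMap_smul,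
      Preadditive.comp_sub, Linear.comp_smul, Linear.comp_smul, hγπ, hγπ, H3 k j, sub_self]
  -- image factorization of `ψ`
  obtain ⟨R, e, m, he, hm, hem, hR⟩ : ∃ (R : X.Modules) (e : Gd ⟶ R) (m : R ⟶ Gdd),
      Epi e ∧ Mono m ∧ e ≫ m = ψ ∧ Coh.IsCoh R :=
    ⟨Abelian.image ψ, Abelian.factorThruImage ψ, Abelian.image.ι ψ, inferInstance,
      inferInstance, Abelian.image.fac ψ,
      CohKerH8.isCoh_kernel hGdd (CohKerH8.isCoh_cokernel hGd hGdd ψ) (cokernel.π ψ)⟩
  haveI := he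
  haveI := hm
  have hγe : γ ≫ hatMap I e = 0 :=
    eq_of_comp_hat_mono I hR hGdd m hFstrict _ _ (by
      rw [Category.assoc, ← hatMap_comp, hem, hγψ, zero_comp])
  obtain ⟨γ₀, hγ₀⟩ := exists_lift_kernel_hat I hGd hR e hFadic γ hγe
  have hP : Coh.IsCoh (kernel e) := CohKerH8.isCoh_kernel hGd hR e
  have hPstrict := isStrict_hat I hP
  obtain ⟨inc, hinc⟩ : ∃ inc : kernel e ⟶ Gd, inc = kernel.ι e := ⟨_, rfl⟩
  haveI : Mono inc := by
    rw [hinc]
    infer_instance
  rw [← hinc] at hγ₀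
  have hince : inc ≫ e = 0 := by
    rw [hinc]
    exact kernel.condition e
  have hincψ : inc ≫ ψ = 0 := by rw [← hem, ← Category.assoc, hince, zero_comp]
  have R1 : ∀ j k, b j • (inc ≫ πd k) = b k • (inc ≫ πd j) := by
    intro j k
    have h : inc ≫ (b j • πd k - b k • πd j) = 0 := by
      rw [← hψ k j, ← Category.assoc, hincψ, zero_comp]
    rw [Preadditive.comp_sub, Linear.comp_smul, Linear.comp_smul, sub_eq_zero] at h
    exact h
  -- `δ : g ↦ (b_k g)_k`
  obtain ⟨δ, hδdef⟩ : ∃ δ : G ⟶ Gd, δ = ∑ k, b k • ιd k := ⟨_, rfl⟩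
  have hδπ : ∀ k, δ ≫ πd k = b k • 𝟙 G := by
    intro k
    rw [hδdef, Preadditive.sum_comp]
    refine (Finset.sum_eq_single k (fun j _ hjk => ?_)
      (fun h => absurd (Finset.mem_univ k) h)).trans ?_
    · rw [Linear.smul_comp, hιπ, if_neg hjk, smul_zero]
    · rw [Linear.smul_comp, hιπ, if_pos rfl]
  have hδψ : δ ≫ ψ = 0 := by
    apply hext_dd
    rintro ⟨k, j⟩
    rw [Category.assoc, hψ k j, Preadditive.comp_sub, Linear.comp_smul, Linear.comp_smul, hδπ,
      hδπ, smul_smul, smul_smul, mul_comm, sub_self]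
  have hδe : δ ≫ e = 0 := by rw [← cancel_mono m, Category.assoc, hem, hδψ, zero_comp]
  obtain ⟨δ', hδ'⟩ : ∃ δ' : G ⟶ kernel e, δ' ≫ inc = δ :=
    ⟨kernel.lift e δ hδe, by
      rw [hinc]
      exact kernel.lift_ι _ _ _⟩
  have R2 : ∀ k, (inc ≫ πd k) ≫ δ = b k • inc := by
    intro k
    apply hext_d
    intro j
    rw [Category.assoc, hδπ, Linear.comp_smul, Category.comp_id, R1 j k, Linear.smul_comp]
  have R3 : ∀ k, (inc ≫ πd k) ≫ δ' = b k • 𝟙 (kernel e) := by
    intro k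
    rw [← cancel_mono inc, Category.assoc, hδ', R2, Linear.smul_comp, Category.id_comp]
  -- identities between completions
  have K0 : α ≫ γ = hatMap I δ := by
    rw [hγdef, hδdef, hatMap_sum, Preadditive.comp_sum]
    refine Finset.sum_congr rfl (fun k _ => ?_)
    rw [← Category.assoc, H2, Linear.smul_comp, Category.id_comp, hatMap_smul]
  have K3 : α ≫ γ₀ = hatMap I δ' :=
    eq_of_comp_hat_mono I hP hGd inc hGstrict _ _ (by
      rw [Category.assoc, hγ₀, K0, ← hatMap_comp, hδ'])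
  obtain ⟨ξ, hξ⟩ : ∃ ξ : J → (Formal.completion I (kernel e) ⟶ F),
      ∀ k, ξ k = hatMap I (inc ≫ πd k) ≫ α := ⟨_, fun _ => rfl⟩
  have K1 : ∀ k, γ₀ ≫ ξ k = b k • 𝟙 F := by
    intro k
    rw [hξ, hatMap_comp, ← Category.assoc, ← Category.assoc, hγ₀, hγπ, H1]
  have K2 : ∀ k, ξ k ≫ γ₀ = b k • 𝟙 (Formal.completion I (kernel e)) := by
    intro k
    refine eq_of_comp_hat_mono I hP hGd inc hPstrict _ _ ?_
    rw [hξ, Category.assoc, Category.assoc, hγ₀, K0, ← hatMap_comp, R2, hatMap_smul,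
      Linear.smul_comp, Category.id_comp]
  -- kernels and cokernels of `γ₀`
  have hkerk : ∀ n k, Formal.smulMod A (kernel (γ₀.app (op n))) (b k) = 0 := by
    intro n k
    have e1 : Formal.smulMod A (F.obj (op n)) (b k) = γ₀.app (op n) ≫ (ξ k).app (op n) := by
      rw [← NatTrans.comp_app, K1, NatTrans.app_smul, NatTrans.id_app, smul_id_eq]
    rw [← cancel_mono (kernel.ι (γ₀.app (op n))), zero_comp, smulMod_naturality, e1,
      ← Category.assoc, kernel.condition, zero_comp]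
  have hcokerk : ∀ n k, Formal.smulMod A (cokernel (γ₀.app (op n))) (b k) = 0 := by
    intro n k
    have e1 : Formal.smulMod A ((Formal.completion I (kernel e)).obj (op n)) (b k) =
        (ξ k).app (op n) ≫ γ₀.app (op n) := by
      rw [← NatTrans.comp_app, K2, NatTrans.app_smul, NatTrans.id_app, smul_id_eq]
    rw [← cancel_epi (cokernel.π (γ₀.app (op n))), comp_zero, ← smulMod_naturality, e1,
      Category.assoc, cokernel.condition, comp_zero]
  -- the glueing context of S0829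
  let C : Ctx A I X := ⟨kernel e, hP, F, hF, γ₀, c, fun n => ⟨hb _ (hkerk n), hb _ (hcokerk n)⟩⟩
  have hw : ∀ n, (Formal.modPowπ I (n + 1 + 1) G ≫ α.app (op (n + 1))) ≫ tG F n =
      Formal.modPowπ I (n + 1) G ≫ α.app (op n) := by
    intro n
    have hnat : tG (Formal.completion I G) n ≫ α.app (op n) = α.app (op (n + 1)) ≫ tG F n :=
      α.naturality (homOfLE (Nat.le_succ n)).op
    rw [Category.assoc, ← hnat, ← Category.assoc]
    exact congrArg (fun t => t ≫ α.app (op n)) ((isComplOf_completion I G).comp n)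
  have hu : ∀ n, δ' ≫ C.πc n = (Formal.modPowπ I (n + 1) G ≫ α.app (op n)) ≫ C.αn n := by
    intro n
    show δ' ≫ Formal.modPowπ I (n + 1) (kernel e) =
      (Formal.modPowπ I (n + 1) G ≫ α.app (op n)) ≫ γ₀.app (op n)
    rw [Category.assoc, ← NatTrans.comp_app, K3, π_hatMap]
  obtain ⟨a, ha1, ha2⟩ := ctx_exists_lift C δ'
    (fun n => Formal.modPowπ I (n + 1) G ≫ α.app (op n)) hw hu
  obtain ⟨β', hβ'⟩ := exists_completion_iso_of_isQuot I C.Fp F C.τ C.isQuot_τ C.τ_succ
  have ha1' : a ≫ C.aF = δ' := ha1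
  refine ⟨C.Fp, a, β', C.isCoh_Fp, ?_, ?_, fun n => ?_⟩
  · refine killedBy_mono (Ideal.pow_le_pow_right (Nat.le_add_right c c)) (hb _ (fun k => ?_))
    have e1 : Formal.smulMod A G (b k) = a ≫ C.aF ≫ inc ≫ πd k := by
      rw [← Category.assoc, ha1', ← Category.assoc, hδ', hδπ, smul_id_eq]
    rw [← cancel_mono (kernel.ι a), zero_comp, smulMod_naturality, e1, ← Category.assoc,
      kernel.condition, zero_comp]
  · refine hb2 _ (fun s hs k => ?_)
    obtain ⟨w, hw'⟩ : ∃ w : C.Fp ⟶ G, w = C.aF ≫ inc ≫ πd k := ⟨_, rfl⟩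
    have hd : (b k • 𝟙 C.Fp - w ≫ a) ≫ C.aF = 0 := by
      rw [Preadditive.sub_comp, Linear.smul_comp, Category.id_comp, Category.assoc, ha1', hw',
        Category.assoc, R3, Linear.comp_smul, Category.comp_id, sub_self]
    have hsd : s • (b k • 𝟙 C.Fp - w ≫ a) = 0 := by
      have hfac : kernel.lift C.aF _ hd ≫ kernel.ι C.aF = b k • 𝟙 C.Fp - w ≫ a :=
        kernel.lift_ι _ _ _
      rw [← hfac, smul_eq, Category.assoc, ← smulMod_naturality, C.killed_kernel_aF s hs,
        zero_comp, comp_zero]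
    have e2 : Formal.smulMod A C.Fp (s * b k) = (s • w) ≫ a := by
      rw [← smul_id_eq, mul_smul, Linear.smul_comp]
      rw [smul_sub, sub_eq_zero] at hsd
      exact hsd
    rw [← cancel_epi (cokernel.π a), comp_zero, ← smulMod_naturality, e2, Category.assoc,
      cokernel.condition, comp_zero]
  · rw [hβ' n]
    exact (ha2 n).symm

end Core

section Main

/-- **S0851**. -/
theorem main0851 (A : Type u) [CommRing A] (I : Ideal A) (X : Scheme.{u})
    [X.Over (Spec (CommRingCat.of A))] [AlgebraicGeometry.IsNoetherian X] (G : X.Modules)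
    (hG : Coh.IsCoh G) (F : ℕᵒᵖ ⥤ X.Modules) (hF : Formal.IsCohFormal I F)
    (α : Formal.completion I G ⟶ F) (hα : Formal2.KerCokerKilledByIPow I α) :
    ∃ (F' : X.Modules) (a : G ⟶ F') (β : Formal.completion I F' ≅ F), Coh.IsCoh F' ∧
      Formal2.KerCokerKilledByIPowHom I a ∧
      ∀ n : ℕ, Formal.modPowπ I (n + 1) G ≫ α.app (op n) =
        a ≫ Formal.modPowπ I (n + 1) F' ≫ β.hom.app (op n) := by
  classical
  obtain ⟨t, ht⟩ := hα
  obtain ⟨I₀, hI₀le, hI₀fg, hI₀⟩ := exists_fg_le A I X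
  have hfg : (I₀ ^ (t + 1)).FG := hI₀fg.pow
  obtain ⟨r, a, ha⟩ := Submodule.fg_iff_exists_fin_generating_family.mp hfg
  have ha' : Ideal.span (Set.range a) = I₀ ^ (t + 1) := ha
  have ha_mem : ∀ i, a i ∈ I ^ (t + 1) := fun i =>
    Ideal.pow_right_mono hI₀le (t + 1) (by
      rw [← ha']
      exact Ideal.subset_span ⟨i, rfl⟩)
  have hc : ∀ i, a i • 𝟙 (cokernel α) = 0 := fun i =>
    smul_id_cokernel_eq_zero α (a i) (fun n => by
      rw [smul_id_eq]
      exact (ht n).2 (a i) (ha_mem i))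
  have hk : ∀ i, a i • 𝟙 (kernel α) = 0 := fun i =>
    smul_id_kernel_eq_zero α (a i) (fun n => by
      rw [smul_id_eq]
      exact (ht n).1 (a i) (ha_mem i))
  obtain ⟨β, H1, H2, H3⟩ := exists_isogenies α a hc hk
  obtain ⟨b, hbdef⟩ : ∃ b : Fin r × Fin r → A, ∀ p, b p = a p.1 * a p.2 := ⟨_, fun _ => rfl⟩
  have H1' : ∀ p, β p ≫ α = b p • 𝟙 F := fun p => by
    rw [hbdef]
    exact H1 p
  have H2' : ∀ p, α ≫ β p = b p • 𝟙 (Formal.completion I G) := fun p => by
    rw [hbdef]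
    exact H2 p
  have H3' : ∀ p q, b q • β p = b p • β q := fun p q => by
    rw [hbdef, hbdef]
    exact H3 p q
  have hspan : I₀ ^ ((t + 1) * 2) ≤ Ideal.span (Set.range b) := by
    rw [pow_mul, pow_two, ← ha', Ideal.span_mul_span']
    refine Ideal.span_mono ?_
    intro x hx
    obtain ⟨y, ⟨i, rfl⟩, z, ⟨j, rfl⟩, rfl⟩ := Set.mem_mul.mp hx
    exact ⟨(i, j), hbdef (i, j)⟩
  have hb : ∀ M : X.Modules, (∀ p, Formal.smulMod A M (b p) = 0) →
      Formal.KilledBy (I ^ ((t + 1) * 2)) M := by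
    intro M hM
    have h1 : I₀ ^ ((t + 1) * 2) ≤ annIdeal M :=
      hspan.trans (Ideal.span_le.mpr (by
        rintro _ ⟨p, rfl⟩
        exact hM p))
    intro x hx
    have h2 := hI₀ ((t + 1) * 2) (𝟙 M) (fun y hy => by
      rw [Category.comp_id]
      exact h1 hy) x hx
    rwa [Category.comp_id] at h2
  have hb2 : ∀ M : X.Modules,
      (∀ s ∈ I ^ ((t + 1) * 2), ∀ p, Formal.smulMod A M (s * b p) = 0) →
      Formal.KilledBy (I ^ ((t + 1) * 2 + (t + 1) * 2)) M := by
    intro M hM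
    have h0 : I ^ ((t + 1) * 2) * Ideal.span (Set.range b) ≤ annIdeal M := by
      rw [Ideal.mul_le]
      intro s hs y hy
      refine Submodule.span_induction (p := fun y _ => s * y ∈ annIdeal M) ?_ ?_ ?_ ?_ hy
      · rintro _ ⟨p, rfl⟩
        exact hM s hs p
      · rw [mul_zero]
        exact (annIdeal M).zero_mem
      · intro y z _ _ hy hz
        rw [mul_add]
        exact (annIdeal M).add_mem hy hz
      · intro c y _ hy
        rw [smul_eq_mul, mul_left_comm]
        exact (annIdeal M).mul_mem_left c hy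
    have h1 : I₀ ^ ((t + 1) * 2 + (t + 1) * 2) ≤ annIdeal M := by
      rw [pow_add]
      exact (Ideal.mul_mono (Ideal.pow_right_mono hI₀le _) hspan).trans h0
    intro x hx
    have h2 := hI₀ _ (𝟙 M) (fun y hy => by
      rw [Category.comp_id]
      exact h1 hy) x hx
    rwa [Category.comp_id] at h2
  obtain ⟨F', a', β', hF', hk', hc', hcompat⟩ := exists_of_isogenies G hG F hF α b β H1' H2' H3'
    (⨁ fun _ : Fin r × Fin r => G) (isCoh_biproduct_const _ G hG)
    (fun k => biproduct.π (fun _ : Fin r × Fin r => G) k)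
    (fun k => biproduct.ι (fun _ : Fin r × Fin r => G) k)
    (fun j k => by
      by_cases h : j = k
      · subst h
        rw [if_pos rfl]
        exact biproduct.ι_π_self _ j
      · rw [if_neg h]
        exact biproduct.ι_π_ne _ h)
    biproduct.total
    (⨁ fun _ : (Fin r × Fin r) × (Fin r × Fin r) => G) (isCoh_biproduct_const _ G hG)
    (fun p => biproduct.π (fun _ : (Fin r × Fin r) × (Fin r × Fin r) => G) p)
    (fun p => biproduct.ι (fun _ : (Fin r × Fin r) × (Fin r × Fin r) => G) p)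
    biproduct.total
    (fun f => ⟨biproduct.lift f, fun p => biproduct.lift_π f p⟩)
    ((t + 1) * 2) hb hb2
  have e : (t + 1) * 2 + (t + 1) * 2 = (4 * t + 3) + 1 := by ring
  rw [e] at hk' hc'
  exact ⟨F', a', β', hF', ⟨4 * t + 3, hk', hc'⟩, hcompat⟩

end Main

end Groth.Agent.Lib.GExH2
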