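import Mathlib
import Groth.Prelude
import Groth.Agent.Lib.GEx24_helper2
import Groth.Agent.Lib.GEx20_helper2
import Groth.Agent.Lib.ThickSq1_helper2
import Groth.Agent.Lib.Nil3_helper8
import Groth.Agent.Lib.ArtBase1_helper8

/-!
# Coherent formal modules only see the formal completion (helper2)

`f : X' ⟶ X` a flat morphism of schemes over `Spec A` inducing an isomorphism
`X' ×_A A/I ≅ X ×_A A/I`.  Then all `f_n : X'_n ⟶ X_n` (`X_n = X ×_A A/I^{n+1}`) are isomorphisms
(`isIso_tMap`, via helper8's `NilH8.isIso_of_finiteOrderThickening`), and componentwise pullback along `f` is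
fully faithful and essentially surjective on coherent formal modules (`main0836`, S0836).

* `abs_map_injective`, `abs_map_surjective`, `abs_exists_iso` : the abstract adjunction yoga;
* `pullbackEquivOfIso` : pullback of modules along an isomorphism of schemes is an equivalence;
* `tMap`, `isPullback_tMap`, `thickTrans_tMap`, `isPullback_thickTrans_tMap`, `isIso_tMap`;
* `killedByIdeal_thickι`, `isIso_unit_thickι`, `killedBy_pushforward_thickι`;
* `pullback_map_bijective`, `isIso_of_isIso_pullback_map`, `isQuot_of_isQuot_pullback`,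
  `exists_pullback_iso` : level `n`;
* `whiskerRight_pullback_bijective`, `exists_system_pullback_iso`, `main0836`.
APPEND-ONLY once landed.
-/

set_option autoImplicit false
set_option backward.isDefEq.respectTransparency false
set_option linter.style.haveILetI false
set_option linter.unusedSectionVars false
universe u
open CategoryTheory CategoryTheory.Limits AlgebraicGeometry TopologicalSpace Opposite

namespace Groth.Agent.Lib.GExH2

open Formal Groth.Agent.Lib.FormalModPowH4 Groth.Agent.Lib.FormalFnH2 Groth.Agent.Lib.FibAmpH2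
  Groth.Agent.Lib.FlatBCH2 Groth.Agent.Lib.FibVanH2 Groth.Agent.Lib.FormalQuotH2
  Groth.Agent.Lib.AdicSysH2 Groth.Agent.Lib.LimTruncH2 QcqsLoc Groth.Agent.Lib.FormalARH2
  Groth.Agent.Lib.ThickH2

section Abs

universe v₁ v₂ v₃ v₄ u₁ u₂ u₃ u₄

variable {C : Type u₁} [Category.{v₁} C] {C' : Type u₂} [Category.{v₂} C']
  {D : Type u₃} [Category.{v₃} D] {D' : Type u₄} [Category.{v₄} D']
  (F : C ⥤ C') {P : C ⥤ D} {Q : D ⥤ C} (adj : P ⊣ Q) {P' : C' ⥤ D'} {Q' : D' ⥤ C'}
  (adj' : P' ⊣ Q') (Fn : D ⥤ D') (e : F ⋙ P' ≅ P ⋙ Fn)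

include e in
theorem abs_map_injective [Fn.Faithful] {M₁ M₂ : C} [Mono (adj.unit.app M₂)] :
    Function.Injective (fun φ : M₁ ⟶ M₂ => F.map φ) := by
  intro φ ψ h
  have h' : F.map φ = F.map ψ := h
  have h1 : Fn.map (P.map φ) = Fn.map (P.map ψ) := by
    have hφ := e.hom.naturality φ
    have hψ := e.hom.naturality ψ
    simp only [Functor.comp_map] at hφ hψ
    rw [← cancel_epi (e.hom.app M₁), ← hφ, ← hψ, h']
  have h2 : P.map φ = P.map ψ := Fn.map_injective h1
  have nφ := adj.unit.naturality φ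
  have nψ := adj.unit.naturality ψ
  simp only [Functor.id_map, Functor.comp_map] at nφ nψ
  rw [← cancel_mono (adj.unit.app M₂), nφ, nψ, h2]

include e in
theorem abs_map_surjective [Fn.Full] [Fn.Faithful] {M₁ M₂ : C} [IsIso (adj.unit.app M₂)]
    [Mono (adj'.unit.app (F.obj M₂))] :
    Function.Surjective (fun φ : M₁ ⟶ M₂ => F.map φ) := by
  intro θ
  obtain ⟨ρ, hρ⟩ : ∃ ρ : P.obj M₁ ⟶ P.obj M₂,
      Fn.map ρ = e.inv.app M₁ ≫ P'.map θ ≫ e.hom.app M₂ := ⟨Fn.preimage _, Fn.map_preimage _⟩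
  obtain ⟨φ, hφ⟩ : ∃ φ : M₁ ⟶ M₂,
      φ = adj.unit.app M₁ ≫ Q.map ρ ≫ inv (adj.unit.app M₂) := ⟨_, rfl⟩
  refine ⟨φ, ?_⟩
  show F.map φ = θ
  have s1 : P.map φ = ρ := by
    have tri₂ := adj.left_triangle_components M₂
    have tri₁ := adj.left_triangle_components M₁
    have hε : P.map (inv (adj.unit.app M₂)) = adj.counit.app (P.obj M₂) := by
      rw [Functor.map_inv]
      exact (IsIso.eq_inv_of_hom_inv_id tri₂).symm
    rw [hφ, Functor.map_comp, Functor.map_comp, hε]
    have nat := adj.counit.naturality ρ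
    simp only [Functor.comp_map, Functor.id_map] at nat
    rw [nat, ← Category.assoc, tri₁, Category.id_comp]
  have s2 : P'.map (F.map φ) = P'.map θ := by
    have hn := e.hom.naturality φ
    simp only [Functor.comp_map] at hn
    rw [← cancel_mono (e.hom.app M₂), hn, s1, hρ, Iso.hom_inv_id_app_assoc]
  have n1 := adj'.unit.naturality (F.map φ)
  have n2 := adj'.unit.naturality θ
  simp only [Functor.id_map, Functor.comp_map] at n1 n2
  rw [← cancel_mono (adj'.unit.app (F.obj M₂)), n1, n2, s2]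

include e in
theorem abs_exists_iso (N' : C') [IsIso (adj'.unit.app N')] (K : D) (κ : Fn.obj K ≅ P'.obj N')
    [IsIso (adj.counit.app K)] [IsIso (adj'.unit.app (F.obj (Q.obj K)))] :
    Nonempty (F.obj (Q.obj K) ≅ N') :=
  ⟨asIso (adj'.unit.app (F.obj (Q.obj K))) ≪≫
    Q'.mapIso (e.app (Q.obj K) ≪≫ Fn.mapIso (asIso (adj.counit.app K)) ≪≫ κ) ≪≫
    (asIso (adj'.unit.app N')).symm⟩

end Abs

section PullIso

/-- pullback of modules along an isomorphism of schemes is an equivalence -/
noncomputable def pullbackEquivOfIso {Y Y' : Scheme.{u}} (φ : Y' ≅ Y) : Y.Modules ≌ Y'.Modules :=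
  CategoryTheory.Equivalence.mk (Scheme.Modules.pullback φ.hom) (Scheme.Modules.pullback φ.inv)
    ((Scheme.Modules.pullbackId Y).symm ≪≫ Scheme.Modules.pullbackCongr φ.inv_hom_id.symm ≪≫
      (Scheme.Modules.pullbackComp φ.inv φ.hom).symm)
    (Scheme.Modules.pullbackComp φ.hom φ.inv ≪≫ Scheme.Modules.pullbackCongr φ.hom_inv_id ≪≫
      Scheme.Modules.pullbackId Y')

instance isEquivalence_pullback_of_isIso {Y Y' : Scheme.{u}} (g : Y' ⟶ Y) [IsIso g] :
    (Scheme.Modules.pullback g).IsEquivalence :=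
  (pullbackEquivOfIso (asIso g)).isEquivalence_functor

end PullIso

section TMap

variable {A : Type u} [CommRing A] (I : Ideal A) (n : ℕ) {X X' : Scheme.{u}}
  (g : X ⟶ Spec (CommRingCat.of A)) (g' : X' ⟶ Spec (CommRingCat.of A)) (f : X' ⟶ X)
  (hf : f ≫ g = g')

/-- the morphism `X'_n ⟶ X_n` induced by `f : X' ⟶ X` over `Spec A` -/
noncomputable def tMap : CohB1.thick g' I n ⟶ CohB1.thick g I n :=
  pullback.map g' (CohB1.specQuot I n) g (CohB1.specQuot I n) f (𝟙 _) (𝟙 _)
    ((Category.comp_id _).trans hf.symm) ((Category.comp_id _).trans (Category.id_comp _).symm)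

theorem tMap_thickι :
    tMap I n g g' f hf ≫ CohB1.thickι g I n = CohB1.thickι g' I n ≫ f :=
  pullback.lift_fst _ _ _

theorem tMap_thickToBase :
    tMap I n g g' f hf ≫ CohB1.thickToBase g I n = CohB1.thickToBase g' I n :=
  (pullback.lift_snd _ _ _).trans (Category.comp_id _)

theorem isPullback_tMap :
    IsPullback (CohB1.thickι g' I n) (tMap I n g g' f hf) f (CohB1.thickι g I n) := by
  subst hf
  exact isPullback_thickMap I n g f

theorem thickTrans_tMap :
    CohB1.thickTrans g' I n ≫ tMap I (n + 1) g g' f hf =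
      tMap I n g g' f hf ≫ CohB1.thickTrans g I n := by
  have e1 : tMap I (n + 1) g g' f hf ≫ pullback.fst g (CohB1.specQuot I (n + 1)) =
      CohB1.thickι g' I (n + 1) ≫ f := tMap_thickι I (n + 1) g g' f hf
  have e2 : CohB1.thickTrans g I n ≫ pullback.fst g (CohB1.specQuot I (n + 1)) =
      CohB1.thickι g I n := thickTrans_thickι I n g
  have e3 : tMap I (n + 1) g g' f hf ≫ pullback.snd g (CohB1.specQuot I (n + 1)) =
      CohB1.thickToBase g' I (n + 1) := tMap_thickToBase I (n + 1) g g' f hf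
  have e4 : CohB1.thickTrans g I n ≫ pullback.snd g (CohB1.specQuot I (n + 1)) =
      CohB1.thickToBase g I n ≫ CohB1.specQuotTrans I n := thickTrans_thickToBase I n g
  apply pullback.hom_ext
  · rw [Category.assoc, Category.assoc, e1, e2, ← Category.assoc, thickTrans_thickι I n g',
      tMap_thickι]
  · rw [Category.assoc, Category.assoc, e3, e4, thickTrans_thickToBase I n g', ← Category.assoc,
      tMap_thickToBase]

theorem isPullback_thickTrans_tMap :
    IsPullback (CohB1.thickTrans g' I n) (tMap I n g g' f hf) (tMap I (n + 1) g g' f hf)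
      (CohB1.thickTrans g I n) := by
  have s : IsPullback (CohB1.thickTrans g' I n ≫ CohB1.thickι g' I (n + 1))
      (tMap I n g g' f hf) f (CohB1.thickTrans g I n ≫ CohB1.thickι g I (n + 1)) := by
    rw [thickTrans_thickι, thickTrans_thickι]
    exact isPullback_tMap I n g g' f hf
  exact IsPullback.of_right s (thickTrans_tMap I n g g' f hf)
    (isPullback_tMap I (n + 1) g g' f hf)

theorem isFiniteOrderThickening_specQuotTrans :
    MoreMor.IsFiniteOrderThickening (CohB1.specQuotTrans I n) := by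
  unfold CohB1.specQuotTrans
  refine ArtBaseH8.isFiniteOrderThickening_SpecMap _ ?_ ?_
  · exact Ideal.Quotient.factor_surjective
      (Ideal.pow_le_pow_right (I := I) (Nat.le_succ (n + 1)))
  · refine ⟨2, ?_⟩
    rw [Ideal.zero_eq_bot, eq_bot_iff, pow_two, Ideal.mul_le]
    intro x hx y hy
    have hx' : Ideal.Quotient.factor
        (Ideal.pow_le_pow_right (I := I) (Nat.le_succ (n + 1))) x = 0 := RingHom.mem_ker.mp hx
    have hy' : Ideal.Quotient.factor
        (Ideal.pow_le_pow_right (I := I) (Nat.le_succ (n + 1))) y = 0 := RingHom.mem_ker.mp hy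
    obtain ⟨a, rfl⟩ := Ideal.Quotient.mk_surjective x
    obtain ⟨b, rfl⟩ := Ideal.Quotient.mk_surjective y
    rw [Ideal.Quotient.factor_mk, Ideal.Quotient.eq_zero_iff_mem] at hx' hy'
    rw [Ideal.mem_bot, ← map_mul, Ideal.Quotient.eq_zero_iff_mem]
    have hab : a * b ∈ I ^ (n + 1) * I ^ (n + 1) := Ideal.mul_mem_mul hx' hy'
    rw [← pow_add] at hab
    exact Ideal.pow_le_pow_right (by omega) hab

theorem isFiniteOrderThickening_thickTrans :
    MoreMor.IsFiniteOrderThickening (CohB1.thickTrans g I n) :=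
  NilH8.isFiniteOrderThickening_of_isPullback (isFiniteOrderThickening_specQuotTrans I n)
    (isPullback_thickTrans I n g)

/-- a flat morphism over `Spec A` which is an isomorphism modulo `I` is an isomorphism modulo every power
of `I` -/
theorem isIso_tMap [Flat f] (h0 : IsIso (tMap I 0 g g' f hf)) :
    ∀ n, IsIso (tMap I n g g' f hf) := by
  intro n
  induction n with
  | zero => exact h0
  | succ n ih =>
    haveI : Flat (tMap I (n + 1) g g' f hf) :=
      MorphismProperty.of_isPullback (P := @Flat) (isPullback_tMap I (n + 1) g g' f hf)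
        inferInstance
    haveI : Flat (tMap I (n + 1) g g' f hf ≫ 𝟙 _) := by
      rw [Category.comp_id]
      infer_instance
    have hcX : IsPullback (CohB1.thickTrans g' I n) (tMap I n g g' f hf ≫ 𝟙 _)
        (tMap I (n + 1) g g' f hf ≫ 𝟙 _) (CohB1.thickTrans g I n) := by
      rw [Category.comp_id, Category.comp_id]
      exact isPullback_thickTrans_tMap I n g g' f hf
    have hcY : IsPullback (CohB1.thickTrans g I n) (𝟙 _) (𝟙 _) (CohB1.thickTrans g I n) :=
      IsPullback.of_vert_isIso ⟨by simp⟩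
    exact NilH8.isIso_of_finiteOrderThickening (isFiniteOrderThickening_thickTrans I n g) hcX hcY
      (thickTrans_tMap I n g g' f hf) ih

end TMap

section LevelX

variable {A : Type u} [CommRing A] (I : Ideal A) {X : Scheme.{u}}
  [X.Over (Spec (CommRingCat.of A))]

theorem killedByIdeal_thickι (n : ℕ) {M : X.Modules}
    (hM : Formal.KilledBy (I ^ (n + 1)) M) :
    ClSub.KilledByIdeal (CohB1.thickι (X ↘ Spec (CommRingCat.of A)) I n).ker M := by
  intro U a ha m
  rw [ker_thickι_ideal I n U] at ha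
  exact smul_eq_zero_of_mem_JU A M (I ^ (n + 1)) U.1 m
    (fun b hb => by rw [← smulMod_app, hM b hb, zero_app']) a ha

theorem isIso_unit_thickι (n : ℕ) (M : X.Modules) [M.IsQuasicoherent]
    (hM : Formal.KilledBy (I ^ (n + 1)) M) :
    IsIso ((Scheme.Modules.pullbackPushforwardAdjunction
      (CohB1.thickι (X ↘ Spec (CommRingCat.of A)) I n)).unit.app M) :=
  ClPushH8.isIso_unit _ M (killedByIdeal_thickι I n hM)

theorem killedBy_pushforward_thickι (n : ℕ)
    (K : (CohB1.thick (X ↘ Spec (CommRingCat.of A)) I n).Modules) :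
    Formal.KilledBy (I ^ (n + 1))
      ((Scheme.Modules.pushforward (CohB1.thickι (X ↘ Spec (CommRingCat.of A)) I n)).obj K) := by
  letI : (CohB1.thick (X ↘ Spec (CommRingCat.of A)) I n).Over (Spec (CommRingCat.of A)) :=
    ⟨CohB1.thickι (X ↘ Spec (CommRingCat.of A)) I n ≫ (X ↘ Spec (CommRingCat.of A))⟩
  have hi : CohB1.thickι (X ↘ Spec (CommRingCat.of A)) I n ≫ (X ↘ Spec (CommRingCat.of A)) =
      (CohB1.thick (X ↘ Spec (CommRingCat.of A)) I n ↘ Spec (CommRingCat.of A)) := rfl
  have hZ : (CohB1.thick (X ↘ Spec (CommRingCat.of A)) I n ↘ Spec (CommRingCat.of A)) =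
      CohB1.thickToBase (X ↘ Spec (CommRingCat.of A)) I n ≫
        Spec.map (CommRingCat.ofHom (Ideal.Quotient.mk (I ^ (n + 1)))) :=
    thickι_comp I n (X ↘ Spec (CommRingCat.of A))
  exact killedBy_pushforward _ hi _ K
    (killedBy_of_sq (CohB1.thickToBase (X ↘ Spec (CommRingCat.of A)) I n) hZ K)

end LevelX

section Level

variable {A : Type u} [CommRing A] (I : Ideal A) {X X' : Scheme.{u}}
  [X.Over (Spec (CommRingCat.of A))] [X'.Over (Spec (CommRingCat.of A))] (f : X' ⟶ X)
  (hf : f ≫ (X ↘ Spec (CommRingCat.of A)) = (X' ↘ Spec (CommRingCat.of A)))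

/-- the comparison `i'^* f^* ≅ f_n^* i^*` -/
noncomputable def eIso (n : ℕ) :
    Scheme.Modules.pullback f ⋙
        Scheme.Modules.pullback (CohB1.thickι (X' ↘ Spec (CommRingCat.of A)) I n) ≅
      Scheme.Modules.pullback (CohB1.thickι (X ↘ Spec (CommRingCat.of A)) I n) ⋙
        Scheme.Modules.pullback
          (tMap I n (X ↘ Spec (CommRingCat.of A)) (X' ↘ Spec (CommRingCat.of A)) f hf) :=
  Scheme.Modules.pullbackComp (CohB1.thickι (X' ↘ Spec (CommRingCat.of A)) I n) f ≪≫
    Scheme.Modules.pullbackCongr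
      (tMap_thickι I n (X ↘ Spec (CommRingCat.of A)) (X' ↘ Spec (CommRingCat.of A)) f hf).symm ≪≫
    (Scheme.Modules.pullbackComp
      (tMap I n (X ↘ Spec (CommRingCat.of A)) (X' ↘ Spec (CommRingCat.of A)) f hf)
      (CohB1.thickι (X ↘ Spec (CommRingCat.of A)) I n)).symm

theorem pullback_map_bijective (n : ℕ)
    [IsIso (tMap I n (X ↘ Spec (CommRingCat.of A)) (X' ↘ Spec (CommRingCat.of A)) f hf)]
    (M₁ M₂ : X.Modules) [M₂.IsQuasicoherent] (hM₂ : Formal.KilledBy (I ^ (n + 1)) M₂) :
    Function.Bijective (fun φ : M₁ ⟶ M₂ => (Scheme.Modules.pullback f).map φ) := by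
  haveI := isIso_unit_thickι I n M₂ hM₂
  haveI := isIso_unit_thickι I n ((Scheme.Modules.pullback f).obj M₂)
    (killedBy_pullback f hf _ M₂ hM₂)
  exact ⟨abs_map_injective (Scheme.Modules.pullback f)
      (Scheme.Modules.pullbackPushforwardAdjunction
        (CohB1.thickι (X ↘ Spec (CommRingCat.of A)) I n))
      (Scheme.Modules.pullback
        (tMap I n (X ↘ Spec (CommRingCat.of A)) (X' ↘ Spec (CommRingCat.of A)) f hf))
      (eIso I f hf n),
    abs_map_surjective (Scheme.Modules.pullback f)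
      (Scheme.Modules.pullbackPushforwardAdjunction
        (CohB1.thickι (X ↘ Spec (CommRingCat.of A)) I n))
      (Scheme.Modules.pullbackPushforwardAdjunction
        (CohB1.thickι (X' ↘ Spec (CommRingCat.of A)) I n))
      (Scheme.Modules.pullback
        (tMap I n (X ↘ Spec (CommRingCat.of A)) (X' ↘ Spec (CommRingCat.of A)) f hf))
      (eIso I f hf n)⟩

theorem isIso_of_isIso_pullback_map (n : ℕ)
    [IsIso (tMap I n (X ↘ Spec (CommRingCat.of A)) (X' ↘ Spec (CommRingCat.of A)) f hf)]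
    {M N : X.Modules} [M.IsQuasicoherent] [N.IsQuasicoherent]
    (hM : Formal.KilledBy (I ^ (n + 1)) M) (hN : Formal.KilledBy (I ^ (n + 1)) N) (d : M ⟶ N)
    [IsIso ((Scheme.Modules.pullback f).map d)] : IsIso d := by
  obtain ⟨ψ, hψ⟩ := (pullback_map_bijective I f hf n N M hM).2
    (inv ((Scheme.Modules.pullback f).map d))
  have hψ' : (Scheme.Modules.pullback f).map ψ = inv ((Scheme.Modules.pullback f).map d) := hψ
  refine ⟨ψ, ?_, ?_⟩
  · apply (pullback_map_bijective I f hf n M M hM).1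
    show (Scheme.Modules.pullback f).map (d ≫ ψ) = (Scheme.Modules.pullback f).map (𝟙 M)
    rw [Functor.map_comp, hψ', IsIso.hom_inv_id, CategoryTheory.Functor.map_id]
  · apply (pullback_map_bijective I f hf n N N hN).1
    show (Scheme.Modules.pullback f).map (ψ ≫ d) = (Scheme.Modules.pullback f).map (𝟙 N)
    rw [Functor.map_comp, hψ', IsIso.inv_hom_id, CategoryTheory.Functor.map_id]

theorem isQuot_of_isQuot_pullback (n : ℕ)
    [IsIso (tMap I n (X ↘ Spec (CommRingCat.of A)) (X' ↘ Spec (CommRingCat.of A)) f hf)]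
    {M N : X.Modules} [M.IsQuasicoherent] [N.IsQuasicoherent]
    (hN : Formal.KilledBy (I ^ (n + 1)) N) (t : M ⟶ N)
    (ht : IsQuot (I ^ (n + 1)) ((Scheme.Modules.pullback f).map t)) :
    IsQuot (I ^ (n + 1)) t := by
  have hq := isQuot_modPowπ I (n + 1) M
  have h0 : ∀ a ∈ I ^ (n + 1), Formal.smulMod A M a ≫ t = 0 := fun a ha => by
    rw [smulMod_naturality, hN a ha, comp_zero]
  obtain ⟨d, hd⟩ := hq.2.2 N t h0
  have hq' := IsQuot.pullback f hf hq
  obtain ⟨e, he⟩ := hq'.exists_iso ht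
  haveI := hq'.2.1
  have hde : (Scheme.Modules.pullback f).map d = e.hom := by
    rw [← cancel_epi ((Scheme.Modules.pullback f).map (Formal.modPowπ I (n + 1) M)),
      ← Functor.map_comp, hd, he]
  haveI : IsIso ((Scheme.Modules.pullback f).map d) := by
    rw [hde]
    infer_instance
  haveI : IsIso d := isIso_of_isIso_pullback_map I f hf n
    (fun a ha => smulMod_modPow_eq_zero M I (n + 1) ha) hN d
  rw [← hd]
  exact hq.comp_iso d

theorem exists_pullback_iso (n : ℕ)
    [IsIso (tMap I n (X ↘ Spec (CommRingCat.of A)) (X' ↘ Spec (CommRingCat.of A)) f hf)]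
    (N' : X'.Modules) (hN' : Coh.IsCoh N') (hk : Formal.KilledBy (I ^ (n + 1)) N') :
    ∃ M : X.Modules, Coh.IsCoh M ∧ Formal.KilledBy (I ^ (n + 1)) M ∧
      Nonempty ((Scheme.Modules.pullback f).obj M ≅ N') := by
  haveI := hN'.1
  obtain ⟨K, hKdef⟩ : ∃ K : (CohB1.thick (X ↘ Spec (CommRingCat.of A)) I n).Modules,
      K = (Scheme.Modules.pullback
        (inv (tMap I n (X ↘ Spec (CommRingCat.of A)) (X' ↘ Spec (CommRingCat.of A)) f hf))).obj
        ((Scheme.Modules.pullback (CohB1.thickι (X' ↘ Spec (CommRingCat.of A)) I n)).obj N') :=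
    ⟨_, rfl⟩
  have hK : Coh.IsCoh K := by
    rw [hKdef]
    exact Groth.Agent.Lib.ConsModH2.isCoh_pullback _ _
      (Groth.Agent.Lib.ConsModH2.isCoh_pullback _ _ hN')
  haveI := hK.1
  have κ : (Scheme.Modules.pullback
      (tMap I n (X ↘ Spec (CommRingCat.of A)) (X' ↘ Spec (CommRingCat.of A)) f hf)).obj K ≅
      (Scheme.Modules.pullback (CohB1.thickι (X' ↘ Spec (CommRingCat.of A)) I n)).obj N' := by
    rw [hKdef]
    exact (pullbackEquivOfIso (asIso
      (tMap I n (X ↘ Spec (CommRingCat.of A)) (X' ↘ Spec (CommRingCat.of A)) f hf))).counitIso.app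
        ((Scheme.Modules.pullback (CohB1.thickι (X' ↘ Spec (CommRingCat.of A)) I n)).obj N')
  have hM : Coh.IsCoh ((Scheme.Modules.pushforward
      (CohB1.thickι (X ↘ Spec (CommRingCat.of A)) I n)).obj K) :=
    CohDevH8.isCoh_pushforward_of_isFinite _ hK
  have hMk := killedBy_pushforward_thickι I n K
  haveI := hM.1
  haveI := isIso_unit_thickι I n N' hk
  haveI := isIso_counit (CohB1.thickι (X ↘ Spec (CommRingCat.of A)) I n) K
  haveI := isIso_unit_thickι I n ((Scheme.Modules.pullback f).obj ((Scheme.Modules.pushforward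
      (CohB1.thickι (X ↘ Spec (CommRingCat.of A)) I n)).obj K)) (killedBy_pullback f hf _ _ hMk)
  exact ⟨_, hM, hMk, abs_exists_iso (Scheme.Modules.pullback f)
    (Scheme.Modules.pullbackPushforwardAdjunction
      (CohB1.thickι (X ↘ Spec (CommRingCat.of A)) I n))
    (Scheme.Modules.pullbackPushforwardAdjunction
      (CohB1.thickι (X' ↘ Spec (CommRingCat.of A)) I n))
    (Scheme.Modules.pullback
      (tMap I n (X ↘ Spec (CommRingCat.of A)) (X' ↘ Spec (CommRingCat.of A)) f hf))
    (eIso I f hf n) N' K κ⟩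

end Level

section Sys

variable {A : Type u} [CommRing A] (I : Ideal A) {X X' : Scheme.{u}}
  [X.Over (Spec (CommRingCat.of A))] [X'.Over (Spec (CommRingCat.of A))] (f : X' ⟶ X)
  (hf : f ≫ (X ↘ Spec (CommRingCat.of A)) = (X' ↘ Spec (CommRingCat.of A)))
  (h : ∀ n, IsIso (tMap I n (X ↘ Spec (CommRingCat.of A)) (X' ↘ Spec (CommRingCat.of A)) f hf))

include h in
theorem whiskerRight_pullback_bijective (G₁ G₂ : ℕᵒᵖ ⥤ X.Modules)
    (hG₂ : Formal.IsCohFormal I G₂) :
    Function.Bijective
      (fun φ : G₁ ⟶ G₂ => Functor.whiskerRight φ (Scheme.Modules.pullback f)) := by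
  have bij : ∀ (k : ℕᵒᵖ) (M₁ : X.Modules),
      Function.Bijective (fun φ : M₁ ⟶ G₂.obj k => (Scheme.Modules.pullback f).map φ) := by
    rintro ⟨k⟩ M₁
    haveI := h k
    haveI := (hG₂.1 k).1
    exact pullback_map_bijective I f hf k M₁ (G₂.obj (op k)) (hG₂.2.1 k)
  constructor
  · intro φ ψ hφψ
    apply NatTrans.ext
    funext k
    apply (bij k (G₁.obj k)).1
    exact congrArg (fun t => t.app k) hφψ
  · intro θ
    choose ψ hψ using fun k : ℕᵒᵖ => (bij k (G₁.obj k)).2 (θ.app k)
    refine ⟨{ app := ψ, naturality := fun m k u => ?_ }, ?_⟩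
    · apply (bij k (G₁.obj m)).1
      show (Scheme.Modules.pullback f).map (G₁.map u ≫ ψ k) =
        (Scheme.Modules.pullback f).map (ψ m ≫ G₂.map u)
      have e1 : (Scheme.Modules.pullback f).map (ψ k) = θ.app k := hψ k
      have e2 : (Scheme.Modules.pullback f).map (ψ m) = θ.app m := hψ m
      rw [Functor.map_comp, Functor.map_comp, e1, e2]
      exact θ.naturality u
    · apply NatTrans.ext
      funext k
      exact hψ k

include h in
theorem exists_system_pullback_iso (G' : ℕᵒᵖ ⥤ X'.Modules) (hG' : Formal.IsCohFormal I G') :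
    ∃ G : ℕᵒᵖ ⥤ X.Modules, Formal.IsCohFormal I G ∧
      Nonempty (G ⋙ Scheme.Modules.pullback f ≅ G') := by
  have ex : ∀ n : ℕ, ∃ M : X.Modules, Coh.IsCoh M ∧ Formal.KilledBy (I ^ (n + 1)) M ∧
      Nonempty ((Scheme.Modules.pullback f).obj M ≅ G'.obj (op n)) := fun n => by
    haveI := h n
    exact exists_pullback_iso I f hf n _ (hG'.1 n) (hG'.2.1 n)
  choose M hMc hMk hMa using ex
  obtain ⟨a⟩ : Nonempty (∀ n, (Scheme.Modules.pullback f).obj (M n) ≅ G'.obj (op n)) :=
    ⟨fun n => (hMa n).some⟩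
  have ext : ∀ n : ℕ, ∃ t : M (n + 1) ⟶ M n,
      (Scheme.Modules.pullback f).map t = (a (n + 1)).hom ≫ tG G' n ≫ (a n).inv := fun n => by
    haveI := h n
    haveI := (hMc n).1
    exact (pullback_map_bijective I f hf n (M (n + 1)) (M n) (hMk n)).2 _
  choose t ht using ext
  have hq : ∀ n, IsQuot (I ^ (n + 1)) (t n) := fun n => by
    haveI := h n
    haveI := (hMc n).1
    haveI := (hMc (n + 1)).1
    apply isQuot_of_isQuot_pullback I f hf n (hMk n) (t n)
    rw [ht n]
    exact IsQuot.iso_comp (a (n + 1)).hom ((isQuot_tG hG' n).comp_iso (a n).inv)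
  refine ⟨Functor.ofOpSequence t, ⟨fun n => hMc n, fun n => hMk n, fun n => ?_⟩, ?_⟩
  · have e : (Functor.ofOpSequence t).map (homOfLE (Nat.le_succ n)).op = t n :=
      Functor.ofOpSequence_map_homOfLE_succ t n
    have hq' : IsQuot (I ^ (n + 1))
        ((Functor.ofOpSequence t).map (homOfLE (Nat.le_succ n)).op) := by
      rw [e]
      exact hq n
    exact hq'.cond
  · have nat : ∀ n : ℕ,
        (Functor.ofOpSequence t ⋙ Scheme.Modules.pullback f).map
          (homOfLE (n.le_add_right 1)).op ≫ (a n).hom =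
        (a (n + 1)).hom ≫ G'.map (homOfLE (n.le_add_right 1)).op := fun n => by
      have e : (Functor.ofOpSequence t).map (homOfLE (n.le_add_right 1)).op = t n :=
        Functor.ofOpSequence_map_homOfLE_succ t n
      rw [Functor.comp_map, e, ht n]
      simp only [Category.assoc, Iso.inv_hom_id, Category.comp_id]
    obtain ⟨α, hα⟩ : ∃ α : Functor.ofOpSequence t ⋙ Scheme.Modules.pullback f ⟶ G',
        ∀ k : ℕᵒᵖ, α.app k = (a k.unop).hom :=
      ⟨NatTrans.ofOpSequence (fun n => (a n).hom) nat, fun k => rfl⟩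
    haveI : ∀ k, IsIso (α.app k) := fun k => by
      rw [hα k]
      infer_instance
    haveI : IsIso α := NatIso.isIso_of_isIso_app α
    exact ⟨asIso α⟩

end Sys

section Main

/-- **S0836**. -/
theorem main0836 (A : Type u) [CommRing A] (I : Ideal A) (X X' : Scheme.{u})
    [X.Over (Spec (CommRingCat.of A))] [X'.Over (Spec (CommRingCat.of A))]
    (f : X' ⟶ X) [Flat f]
    (hf : f ≫ (X ↘ Spec (CommRingCat.of A)) = X' ↘ Spec (CommRingCat.of A))
    (hZ : IsIso (pullback.map (X' ↘ Spec (CommRingCat.of A)) (CohB1.specQuot I 0)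
      (X ↘ Spec (CommRingCat.of A)) (CohB1.specQuot I 0) f (𝟙 _) (𝟙 _)
      ((Category.comp_id _).trans hf.symm)
      ((Category.comp_id _).trans (Category.id_comp _).symm))) :
    (∀ G₁ G₂ : ℕᵒᵖ ⥤ X.Modules, Formal.IsCohFormal I G₁ → Formal.IsCohFormal I G₂ →
      Function.Bijective
        (fun φ : G₁ ⟶ G₂ => Functor.whiskerRight φ (Scheme.Modules.pullback f))) ∧
    (∀ G' : ℕᵒᵖ ⥤ X'.Modules, Formal.IsCohFormal I G' →
      ∃ G : ℕᵒᵖ ⥤ X.Modules, Formal.IsCohFormal I G ∧
        Nonempty (G ⋙ Scheme.Modules.pullback f ≅ G')) := by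
  have h : ∀ n, IsIso (tMap I n (X ↘ Spec (CommRingCat.of A))
      (X' ↘ Spec (CommRingCat.of A)) f hf) :=
    isIso_tMap I (X ↘ Spec (CommRingCat.of A)) (X' ↘ Spec (CommRingCat.of A)) f hf hZ
  exact ⟨fun G₁ G₂ _ hG₂ => whiskerRight_pullback_bijective I f hf h G₁ G₂ hG₂,
    fun G' hG' => exists_system_pullback_iso I f hf h G' hG'⟩

end Main

end Groth.Agent.Lib.GExH2
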