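import Mathlib
import Groth.Prelude
import Groth.Agent.Lib.GEx25_helper2
import Groth.Agent.S0040
import Groth.Agent.Lib.NilThick4_helper6
import Groth.Agent.Lib.NilFT_helper7
import Groth.Agent.Lib.ProjSpaceProper_helper4

/-!
# Grothendieck algebraization with an ample invertible module, part 3: the scheme (helper2)

From compatible maps `r k : X_k ⟶ P^N_ℤ` whose level `0` comes from an immersion
`X_0 ⟶ P^N_{A/I}` over `A/I`, algebraization of the closed formal subscheme of `P^N_A` (S0040)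
gives `Y` proper over `A` with `X_n = Y ×_A A/I^(n+1)` (`exists_algebraization_scheme`).
APPEND-ONLY once landed.
-/

set_option autoImplicit false
set_option linter.style.haveILetI false
set_option linter.unusedSectionVars false
universe u
open CategoryTheory CategoryTheory.Limits AlgebraicGeometry TopologicalSpace Opposite

namespace Groth.Agent.Lib.GAlgH2

open Groth.Agent.Lib.GExH2

section BC

variable (N : ℕ) {S' S : Scheme.{u}} (h : S' ⟶ S)

/-- the projection `P^N_S ⟶ P^N_ℤ` -/
noncomputable def prZ (S : Scheme.{u}) :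
    CohB1.ProjSpaceOver N S ⟶ CohB1.ProjSpace N (ULift.{u} ℤ) :=
  pullback.fst (CohB1.ProjSpace.toSpec N (ULift.{u} ℤ)) (specULiftZIsTerminal.from S)

theorem PO_hom_ext {W : Scheme.{u}} {a b : W ⟶ CohB1.ProjSpaceOver N S}
    (h1 : a ≫ prZ N S = b ≫ prZ N S)
    (h2 : a ≫ CohB1.ProjSpaceOver.toBase N S = b ≫ CohB1.ProjSpaceOver.toBase N S) : a = b :=
  pullback.hom_ext h1 h2

theorem thick_hom_ext {A : Type u} [CommRing A] {X : Scheme.{u}}
    (f : X ⟶ Spec (CommRingCat.of A)) (I : Ideal A) (n : ℕ) {W : Scheme.{u}}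
    {a b : W ⟶ CohB1.thick f I n}
    (h1 : a ≫ CohB1.thickι f I n = b ≫ CohB1.thickι f I n)
    (h2 : a ≫ CohB1.thickToBase f I n = b ≫ CohB1.thickToBase f I n) : a = b :=
  pullback.hom_ext h1 h2

/-- base change map between projective spaces -/
noncomputable def bcMap : CohB1.ProjSpaceOver N S' ⟶ CohB1.ProjSpaceOver N S :=
  pullback.lift (pullback.fst (CohB1.ProjSpace.toSpec N (ULift.{u} ℤ)) (specULiftZIsTerminal.from S'))
    (pullback.snd (CohB1.ProjSpace.toSpec N (ULift.{u} ℤ)) (specULiftZIsTerminal.from S') ≫ h)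
    (specULiftZIsTerminal.hom_ext _ _)

theorem bcMap_fst : bcMap N h ≫ pullback.fst (CohB1.ProjSpace.toSpec N (ULift.{u} ℤ))
    (specULiftZIsTerminal.from S) =
    pullback.fst (CohB1.ProjSpace.toSpec N (ULift.{u} ℤ)) (specULiftZIsTerminal.from S') :=
  pullback.lift_fst _ _ _

theorem bcMap_prZ : bcMap N h ≫ prZ N S = prZ N S' := bcMap_fst N h

theorem bcMap_snd : bcMap N h ≫ CohB1.ProjSpaceOver.toBase N S =
    CohB1.ProjSpaceOver.toBase N S' ≫ h :=
  pullback.lift_snd _ _ _

theorem isPullback_bcMap : IsPullback (bcMap N h) (CohB1.ProjSpaceOver.toBase N S')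
    (CohB1.ProjSpaceOver.toBase N S) h := by
  have t : IsPullback (pullback.fst (CohB1.ProjSpace.toSpec N (ULift.{u} ℤ))
      (specULiftZIsTerminal.from S)) (CohB1.ProjSpaceOver.toBase N S)
      (CohB1.ProjSpace.toSpec N (ULift.{u} ℤ)) (specULiftZIsTerminal.from S) :=
    IsPullback.of_hasPullback _ _
  have s : IsPullback (bcMap N h ≫ pullback.fst (CohB1.ProjSpace.toSpec N (ULift.{u} ℤ))
      (specULiftZIsTerminal.from S)) (CohB1.ProjSpaceOver.toBase N S')
      (CohB1.ProjSpace.toSpec N (ULift.{u} ℤ)) (h ≫ specULiftZIsTerminal.from S) := by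
    rw [bcMap_fst, specULiftZIsTerminal.hom_ext (h ≫ specULiftZIsTerminal.from S)
      (specULiftZIsTerminal.from S')]
    exact IsPullback.of_hasPullback _ _
  exact IsPullback.of_right s (bcMap_snd N h) t

end BC

section Lft

variable (A : Type u) [CommRing A] [IsNoetherianRing A] (I : Ideal A)
  (Xs : ℕ → Scheme.{u}) (p : (k : ℕ) → (Xs k ⟶ Spec (CommRingCat.of (A ⧸ I ^ (k + 1)))))
  (i : (k : ℕ) → (Xs k ⟶ Xs (k + 1)))
  (hcart : ∀ k, IsPullback (i k) (p k) (p (k + 1)) (CohB1.specQuotTrans I k))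

include hcart in
theorem locallyOfFiniteType_p (h0 : LocallyOfFiniteType (p 0)) :
    ∀ k, LocallyOfFiniteType (p k) := by
  intro k
  induction k with
  | zero => exact h0
  | succ k ih =>
    have hth := isFiniteOrderThickening_specQuotTrans I k
    haveI : IsClosedImmersion (CohB1.specQuotTrans I k) := hth.1.1
    haveI : Surjective (CohB1.specQuotTrans I k) := hth.1.2
    haveI : LocallyOfFiniteType (pullback.snd (p (k + 1)) (CohB1.specQuotTrans I k)) := by
      have e : pullback.snd (p (k + 1)) (CohB1.specQuotTrans I k) =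
          (hcart k).isoPullback.inv ≫ p k := by
        rw [Iso.eq_inv_comp]
        exact (hcart k).isoPullback_hom_snd
      rw [e]
      infer_instance
    exact Groth.Agent.Lib.NilFT_helper7.main (p (k + 1)) (CohB1.specQuotTrans I k)

include hcart in
theorem surjective_i (k : ℕ) : Function.Surjective (i k).base := by
  have hth := isFiniteOrderThickening_specQuotTrans I k
  haveI : Surjective (CohB1.specQuotTrans I k) := hth.1.2
  haveI : Surjective (i k) := MorphismProperty.of_isPullback (P := @Surjective) (hcart k).flip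
    inferInstance
  exact (i k).surjective

end Lft

section Geo

variable (A : Type u) [CommRing A] [IsNoetherianRing A] (I : Ideal A)
  (Xs : ℕ → Scheme.{u}) (p : (k : ℕ) → (Xs k ⟶ Spec (CommRingCat.of (A ⧸ I ^ (k + 1)))))
  (i : (k : ℕ) → (Xs k ⟶ Xs (k + 1)))
  (hcart : ∀ k, IsPullback (i k) (p k) (p (k + 1)) (CohB1.specQuotTrans I k))
  (N : ℕ) (r : ∀ k, Xs k ⟶ CohB1.ProjSpace N (ULift.{u} ℤ))
  (hr : ∀ k, i k ≫ r (k + 1) = r k)

/-- projective space over `A` -/
noncomputable abbrev PA : Scheme.{u} := CohB1.ProjSpaceOver N (Spec (CommRingCat.of A))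

/-- its structure map -/
noncomputable abbrev fA : PA A N ⟶ Spec (CommRingCat.of A) :=
  CohB1.ProjSpaceOver.toBase N (Spec (CommRingCat.of A))

instance : IsProper (fA A N) := Groth.Agent.Lib.ProjSpaceProperH4.isProper_toBase N _

/-- `X_k ⟶ P^N_A` -/
noncomputable def psi (k : ℕ) : Xs k ⟶ PA A N :=
  pullback.lift (r k) (p k ≫ CohB1.specQuot I k) (specULiftZIsTerminal.hom_ext _ _)

theorem psi_fst (k : ℕ) : psi A I Xs p N r k ≫ prZ N (Spec (CommRingCat.of A)) = r k :=
  pullback.lift_fst _ _ _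

theorem psi_fA (k : ℕ) : psi A I Xs p N r k ≫ fA A N = p k ≫ CohB1.specQuot I k :=
  pullback.lift_snd _ _ _

include hcart hr in
theorem i_psi (k : ℕ) : i k ≫ psi A I Xs p N r (k + 1) = psi A I Xs p N r k := by
  apply PO_hom_ext
  · rw [Category.assoc, psi_fst, psi_fst, hr]
  · rw [Category.assoc, psi_fA, psi_fA, ← Category.assoc, (hcart k).w, Category.assoc,
      CohB1.specQuotTrans_specQuot]

/-- `X_k ⟶ P^N_A ×_A A/I^(k+1)` -/
noncomputable def zz (k : ℕ) : Xs k ⟶ CohB1.thick (fA A N) I k :=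
  pullback.lift (psi A I Xs p N r k) (p k) (psi_fA A I Xs p N r k)

theorem zz_thickι (k : ℕ) :
    zz A I Xs p N r k ≫ CohB1.thickι (fA A N) I k = psi A I Xs p N r k :=
  pullback.lift_fst _ _ _

theorem zz_thickToBase (k : ℕ) :
    zz A I Xs p N r k ≫ CohB1.thickToBase (fA A N) I k = p k :=
  pullback.lift_snd _ _ _

include hcart hr in
theorem i_zz (k : ℕ) : i k ≫ zz A I Xs p N r (k + 1) =
    zz A I Xs p N r k ≫ CohB1.thickTrans (fA A N) I k := by
  apply thick_hom_ext
  · rw [Category.assoc, zz_thickι, Category.assoc, thickTrans_thickι, zz_thickι,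
      i_psi A I Xs p i hcart N r hr]
  · rw [Category.assoc, zz_thickToBase, Category.assoc, thickTrans_thickToBase, ← Category.assoc,
      zz_thickToBase, (hcart k).w]

include hcart hr in
theorem isPullback_zz (k : ℕ) : IsPullback (i k) (zz A I Xs p N r k) (zz A I Xs p N r (k + 1))
    (CohB1.thickTrans (fA A N) I k) := by
  have s : IsPullback (i k) (zz A I Xs p N r k ≫ CohB1.thickToBase (fA A N) I k)
      (zz A I Xs p N r (k + 1) ≫ CohB1.thickToBase (fA A N) I (k + 1))
      (CohB1.specQuotTrans I k) := by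
    rw [zz_thickToBase, zz_thickToBase]
    exact hcart k
  exact IsPullback.of_bot s (i_zz A I Xs p i hcart N r hr k) (isPullback_thickTrans I k (fA A N))

include hcart hr in
theorem isClosedImmersion_zz (h0 : LocallyOfFiniteType (p 0))
    (hz0 : IsClosedImmersion (zz A I Xs p N r 0)) : ∀ k, IsClosedImmersion (zz A I Xs p N r k) := by
  have hlft : ∀ k, LocallyOfFiniteType (zz A I Xs p N r k) := by
    intro k
    haveI : LocallyOfFiniteType (zz A I Xs p N r k ≫ CohB1.thickToBase (fA A N) I k) := by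
      rw [zz_thickToBase]
      exact locallyOfFiniteType_p A I Xs p i hcart h0 k
    exact locallyOfFiniteType_of_comp (zz A I Xs p N r k) (CohB1.thickToBase (fA A N) I k)
  intro k
  induction k with
  | zero => exact hz0
  | succ k ih =>
    haveI := hlft k
    haveI := hlft (k + 1)
    exact (Groth.Agent.Lib.NilThick_helper6.thickening_lft_isClosedImmersion_iff (i k)
      (CohB1.thickTrans (fA A N) I k) (zz A I Xs p N r k) (zz A I Xs p N r (k + 1))
      (isFiniteOrderThickening_thickTrans I k (fA A N)).1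
      (isPullback_zz A I Xs p i hcart N r hr k)).mp ih

/-- `P^N_{A/I} ≅ P^N_A ×_A A/I` -/
noncomputable def kap : CohB1.ProjSpaceOver N (Spec (CommRingCat.of (A ⧸ I ^ (0 + 1)))) ≅
    CohB1.thick (fA A N) I 0 :=
  (isPullback_bcMap N (CohB1.specQuot I 0)).isoPullback

theorem kap_thickι : (kap A I N).hom ≫ CohB1.thickι (fA A N) I 0 =
    bcMap N (CohB1.specQuot I 0) :=
  (isPullback_bcMap N (CohB1.specQuot I 0)).isoPullback_hom_fst

theorem kap_thickToBase : (kap A I N).hom ≫ CohB1.thickToBase (fA A N) I 0 =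
    CohB1.ProjSpaceOver.toBase N _ :=
  (isPullback_bcMap N (CohB1.specQuot I 0)).isoPullback_hom_snd

theorem isClosedImmersion_zz_zero (hp : IsProper (p 0))
    (ι₀ : Xs 0 ⟶ CohB1.ProjSpaceOver N (Spec (CommRingCat.of (A ⧸ I ^ (0 + 1)))))
    [IsImmersion ι₀] (h1 : ι₀ ≫ prZ N _ = r 0)
    (h2 : ι₀ ≫ CohB1.ProjSpaceOver.toBase N _ = p 0) :
    IsClosedImmersion (zz A I Xs p N r 0) := by
  have e : zz A I Xs p N r 0 = ι₀ ≫ (kap A I N).hom := by
    apply thick_hom_ext
    · rw [zz_thickι, Category.assoc, kap_thickι]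
      apply PO_hom_ext
      · rw [psi_fst, Category.assoc, bcMap_prZ, h1]
      · rw [psi_fA, Category.assoc, bcMap_snd, ← Category.assoc, h2]
    · rw [zz_thickToBase, Category.assoc, kap_thickToBase, h2]
  haveI : IsImmersion (zz A I Xs p N r 0) := by
    rw [e]
    infer_instance
  haveI : IsSeparated (CohB1.thickToBase (fA A N) I 0) :=
    inferInstanceAs (IsSeparated (pullback.snd (fA A N) (CohB1.specQuot I 0)))
  haveI : IsProper (zz A I Xs p N r 0 ≫ CohB1.thickToBase (fA A N) I 0) := by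
    rw [zz_thickToBase]
    exact hp
  haveI : IsProper (zz A I Xs p N r 0) :=
    IsProper.of_comp (zz A I Xs p N r 0) (CohB1.thickToBase (fA A N) I 0)
  exact IsClosedImmersion.of_isPreimmersion _ (zz A I Xs p N r 0).isClosedMap.isClosed_range

include hcart hr in
/-- **The algebraized scheme.** -/
theorem exists_algebraization_scheme [IsAdicComplete I A] (hp : IsProper (p 0))
    (ι₀ : Xs 0 ⟶ CohB1.ProjSpaceOver N (Spec (CommRingCat.of (A ⧸ I ^ (0 + 1)))))
    [IsImmersion ι₀] (h1 : ι₀ ≫ prZ N _ = r 0)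
    (h2 : ι₀ ≫ CohB1.ProjSpaceOver.toBase N _ = p 0) :
    ∃ (Y : Scheme.{u}) (g : Y ⟶ Spec (CommRingCat.of A)) (e : (n : ℕ) → (Xs n ⟶ Y)),
      IsProper g ∧ (∀ n, IsPullback (e n) (p n) g (CohB1.specQuot I n)) ∧
      (∀ n, e n = i n ≫ e (n + 1)) := by
  have hz0 := isClosedImmersion_zz_zero A I Xs p N r hp ι₀ h1 h2
  haveI : LocallyOfFiniteType (p 0) := inferInstance
  have hz := isClosedImmersion_zz A I Xs p i hcart N r hr inferInstance hz0
  have hp' : IsProper (zz A I Xs p N r 0 ≫ CohB1.thickToBase (fA A N) I 0) := by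
    rw [zz_thickToBase]
    exact hp
  obtain ⟨W, ιW, w, hιW, hprop, hw, hpb⟩ := Groth.Agent.S0040.result A I (fA A N) Xs
    (zz A I Xs p N r) i hz (isPullback_zz A I Xs p i hcart N r hr) hp'
  refine ⟨W, ιW ≫ fA A N, w, hprop, fun n => ?_, hw⟩
  have h3 := (hpb n).paste_vert (IsPullback.of_hasPullback (fA A N) (CohB1.specQuot I n))
  have h4 : zz A I Xs p N r n ≫ pullback.snd (fA A N) (CohB1.specQuot I n) = p n :=
    zz_thickToBase A I Xs p N r n
  rw [h4] at h3
  exact h3

end Geo

end Groth.Agent.Lib.GAlgH2
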