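import Mathlib

/-!
# Freeness of a finite module over a Noetherian local ring, tested on infinitesimal quotients (helper5)
APPEND-ONLY once landed.

`free_of_quotients`: `R` Noetherian local, `M` finite, `𝔞 ≤ 𝔪`; if for every `n` there is a quotient
`R → S` with kernel inside `𝔞^(n+1)` such that `S ⊗ M` is free of rank `r`, then `M` is free of rank `r`.
-/

set_option autoImplicit false
universe u

open TensorProduct IsLocalRing

namespace Groth.Agent.LocFreeCompl

section Ker

variable {R : Type u} [CommRing R] (S : Type u) [CommRing S] [Algebra R S]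
  (M : Type u) [AddCommGroup M] [Module R M]

theorem one_tmul_smul (c : R) (z : M) :
    (1 : S) ⊗ₜ[R] (c • z) = algebraMap R S c • ((1 : S) ⊗ₜ[R] z) := by
  rw [TensorProduct.tmul_smul, TensorProduct.smul_tmul', TensorProduct.smul_tmul', smul_eq_mul,
    mul_one, Algebra.smul_def, mul_one]

/-- for a quotient `R → S`, every element of `S ⊗ M` is of the form `1 ⊗ m`. -/
theorem exists_one_tmul (hS : Function.Surjective (algebraMap R S)) (t : S ⊗[R] M) :
    ∃ m : M, (1 : S) ⊗ₜ[R] m = t := by
  induction t using TensorProduct.induction_on with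
  | zero => exact ⟨0, by simp⟩
  | tmul s m =>
    obtain ⟨a, rfl⟩ := hS s
    refine ⟨a • m, ?_⟩
    rw [TensorProduct.tmul_smul, TensorProduct.smul_tmul', Algebra.smul_def, mul_one]
  | add x y hx hy =>
    obtain ⟨m, rfl⟩ := hx
    obtain ⟨m', rfl⟩ := hy
    exact ⟨m + m', TensorProduct.tmul_add _ _ _⟩

/-- for a quotient `R → S` with kernel `K`, the kernel of `M → S ⊗ M` is `K M`. -/
theorem mem_smul_top_of_one_tmul_eq_zero (hS : Function.Surjective (algebraMap R S)) (y : M)
    (hy : (1 : S) ⊗ₜ[R] y = 0) :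
    y ∈ (RingHom.ker (algebraMap R S)) • (⊤ : Submodule R M) := by
  let K := RingHom.ker (algebraMap R S)
  let f : R →ₐ[R] S := Algebra.ofId R S
  have hf : Function.Surjective f := hS
  let e : (R ⧸ RingHom.ker f) ≃ₐ[R] S := Ideal.quotientKerAlgEquivOfSurjective hf
  let E : (R ⧸ RingHom.ker f) ⊗[R] M ≃ₗ[R] S ⊗[R] M :=
    TensorProduct.congr e.toLinearEquiv (LinearEquiv.refl R M)
  have h1 : E ((1 : R ⧸ RingHom.ker f) ⊗ₜ[R] y) = (1 : S) ⊗ₜ[R] y := by
    show (e.toLinearEquiv 1) ⊗ₜ[R] y = _
    congr 1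
    exact map_one e
  have h2 : (1 : R ⧸ RingHom.ker f) ⊗ₜ[R] y = 0 := by
    apply E.injective
    rw [h1, hy, map_zero]
  have h3 := congrArg (TensorProduct.quotTensorEquivQuotSMul M (RingHom.ker f)) h2
  rw [map_zero] at h3
  have h4 : TensorProduct.quotTensorEquivQuotSMul M (RingHom.ker f)
      ((Ideal.Quotient.mk (RingHom.ker f) 1) ⊗ₜ[R] y) = Submodule.Quotient.mk ((1 : R) • y) :=
    TensorProduct.quotTensorEquivQuotSMul_mk_tmul (RingHom.ker f) 1 y
  rw [map_one, one_smul] at h4
  rw [h4, Submodule.Quotient.mk_eq_zero] at h3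
  exact h3

end Ker

section Main

variable {R : Type u} [CommRing R] [IsLocalRing R] [IsNoetherianRing R]
  (M : Type u) [AddCommGroup M] [Module R M] [Module.Finite R M]

theorem free_of_quotients (𝔞 : Ideal R) (h𝔞 : 𝔞 ≤ maximalIdeal R) (r : ℕ)
    (h : ∀ n : ℕ, ∃ (S : Type u) (_ : CommRing S) (_ : Algebra R S),
      Function.Surjective (algebraMap R S) ∧ RingHom.ker (algebraMap R S) ≤ 𝔞 ^ (n + 1) ∧
      Module.Free S (S ⊗[R] M) ∧ Module.finrank S (S ⊗[R] M) = r) :
    Module.Free R M ∧ Module.finrank R M = r := by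
  classical
  have h𝔞' : 𝔞 ≠ ⊤ := fun h' => (maximalIdeal.isMaximal R).ne_top (top_le_iff.mp (h' ▸ h𝔞))
  -- level 0: generators
  obtain ⟨S, _, _, hS, hK, hfree, hrank⟩ := h 0
  have hK' : RingHom.ker (algebraMap R S) ≤ maximalIdeal R := by
    refine hK.trans ?_
    rw [zero_add, pow_one]
    exact h𝔞
  haveI : Nontrivial S := by
    by_contra hnt
    rw [not_nontrivial_iff_subsingleton] at hnt
    have : (1 : R) ∈ RingHom.ker (algebraMap R S) := by
      rw [RingHom.mem_ker]
      exact Subsingleton.elim _ _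
    exact (maximalIdeal.isMaximal R).ne_top ((Ideal.eq_top_iff_one _).mpr (hK' this))
  haveI := hfree
  let b : Module.Basis (Fin r) S (S ⊗[R] M) := Module.finBasisOfFinrankEq S (S ⊗[R] M) hrank
  choose m hm using fun i => exists_one_tmul S M hS (b i)
  let φ : (Fin r → R) →ₗ[R] M := Fintype.linearCombination R m
  have hφ_apply : ∀ v : Fin r → R, φ v = ∑ i, v i • m i := fun v =>
    Fintype.linearCombination_apply R m v
  -- surjectivity by Nakayama
  have hsurj : Function.Surjective φ := by
    rw [← LinearMap.range_eq_top]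
    apply top_le_iff.mp
    refine Submodule.le_of_le_smul_of_le_jacobson_bot (I := RingHom.ker (algebraMap R S))
      (Module.Finite.fg_top) ?_ ?_
    · rw [IsLocalRing.jacobson_eq_maximalIdeal ⊥ bot_ne_top]
      exact hK'
    · intro x _
      -- write 1 ⊗ x in the basis
      have hx : (1 : S) ⊗ₜ[R] x = ∑ i, b.repr ((1 : S) ⊗ₜ[R] x) i • b i :=
        (b.sum_repr _).symm
      choose a ha using fun i => hS (b.repr ((1 : S) ⊗ₜ[R] x) i)
      have h1 : (1 : S) ⊗ₜ[R] (x - φ a) = 0 := by
        rw [TensorProduct.tmul_sub, hx, hφ_apply, TensorProduct.tmul_sum, sub_eq_zero]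
        refine Finset.sum_congr rfl (fun i _ => ?_)
        rw [← ha i, ← hm i, one_tmul_smul]
      have h2 := mem_smul_top_of_one_tmul_eq_zero S M hS _ h1
      have : x = φ a + (x - φ a) := by abel
      rw [this]
      exact Submodule.add_mem_sup (LinearMap.mem_range_self φ a) h2
  -- injectivity by Krull
  have hinj : Function.Injective φ := by
    rw [← LinearMap.ker_eq_bot, eq_bot_iff]
    intro v hv
    rw [LinearMap.mem_ker] at hv
    rw [Submodule.mem_bot]
    funext i
    have hmem : v i ∈ ⨅ n, 𝔞 ^ n := by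
      rw [Ideal.mem_iInf]
      intro n
      cases n with
      | zero => rw [pow_zero, Ideal.one_eq_top]; trivial
      | succ n =>
        obtain ⟨T, _, _, hT, hKT, hfreeT, hrankT⟩ := h n
        apply hKT
        haveI : Nontrivial T := by
          by_contra hnt
          rw [not_nontrivial_iff_subsingleton] at hnt
          have h1 : (1 : R) ∈ RingHom.ker (algebraMap R T) := by
            rw [RingHom.mem_ker]
            exact Subsingleton.elim _ _
          have h2 : (1 : R) ∈ 𝔞 := Ideal.pow_le_self (Nat.succ_ne_zero n) (hKT h1)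
          exact h𝔞' ((Ideal.eq_top_iff_one _).mpr h2)
        haveI := hfreeT
        let bT : Module.Basis (Fin r) T (T ⊗[R] M) :=
          Module.finBasisOfFinrankEq T (T ⊗[R] M) hrankT
        let Φ : T ⊗[R] (Fin r → R) →ₗ[T] T ⊗[R] M := φ.baseChange T
        have hΦ : Function.Surjective Φ := by
          intro t
          obtain ⟨t', ht'⟩ := LinearMap.lTensor_surjective T hsurj t
          exact ⟨t', ht'⟩
        let e1 : T ⊗[R] (Fin r → R) ≃ₗ[T] (Fin r → T) := TensorProduct.piScalarRight R T T (Fin r)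
        let e2 : T ⊗[R] M ≃ₗ[T] (Fin r → T) := bT.equivFun
        let Ψ : (Fin r → T) →ₗ[T] (Fin r → T) :=
          e2.toLinearMap ∘ₗ Φ ∘ₗ e1.symm.toLinearMap
        have hΨs : Function.Surjective Ψ :=
          e2.surjective.comp (hΦ.comp e1.symm.surjective)
        have hΨi : Function.Injective Ψ :=
          OrzechProperty.injective_of_surjective_endomorphism Ψ hΨs
        have h0 : Ψ (e1 ((1 : T) ⊗ₜ[R] v)) = 0 := by
          show e2 (Φ (e1.symm (e1 ((1 : T) ⊗ₜ[R] v)))) = 0
          rw [LinearEquiv.symm_apply_apply]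
          show e2 ((1 : T) ⊗ₜ[R] φ v) = 0
          rw [hv, TensorProduct.tmul_zero, map_zero]
        have h1 : e1 ((1 : T) ⊗ₜ[R] v) = 0 := hΨi (h0.trans (map_zero Ψ).symm)
        have h2 := congrFun h1 i
        rw [TensorProduct.piScalarRight_apply, TensorProduct.piScalarRightHom_tmul] at h2
        rw [RingHom.mem_ker, Algebra.algebraMap_eq_smul_one]
        exact h2
    rw [Ideal.iInf_pow_eq_bot_of_isLocalRing 𝔞 h𝔞'] at hmem
    exact hmem
  let E : (Fin r → R) ≃ₗ[R] M := LinearEquiv.ofBijective φ ⟨hinj, hsurj⟩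
  refine ⟨Module.Free.of_equiv E, ?_⟩
  rw [← E.finrank_eq, Module.finrank_fin_fun]

end Main

end Groth.Agent.LocFreeCompl
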