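import Mathlib
import Groth.Prelude.Def_FSch3
import Groth.Prelude.Def_FlatMod2
import Groth.Prelude.Def_Coh
import Groth.Agent.Lib.FLF8_helper8
import Groth.Agent.Lib.TFFree_helper8
import Groth.Agent.Lib.PB10_helper8
import Groth.Agent.Lib.KerStalk_helper5
import Groth.Agent.Lib.QCohFP2_helper9
import Groth.Agent.Lib.LocFreeCompl1_helper5

/-!
# Local freeness of a coherent module tested on the completion along a closed subset (helper5)
APPEND-ONLY once landed.
-/

set_option autoImplicit false
set_option linter.style.haveILetI false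
universe u

open CategoryTheory AlgebraicGeometry TopologicalSpace TensorProduct IsLocalRing

namespace Groth.Agent.LocFreeCompl

section Stalk

variable {X : Scheme.{u}} [IsLocallyNoetherian X] (𝓙 : X.IdealSheafData) (F : X.Modules)
  [F.IsQuasicoherent] [SheafOfModules.IsFiniteType (R := X.ringCatSheaf) F]

/-- If all restrictions of `F` to the infinitesimal neighbourhoods of `V(𝓙)` are finite locally
free of rank `r`, the stalks of `F` at the points of `V(𝓙)` are free of rank `r`. -/
theorem free_stalk_of_completion (r : ℕ)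
    (h : ∀ n : ℕ, FlatMod.IsFinLocFreeOfRank r
      ((Scheme.Modules.pullback (FSch.completionToX X 𝓙 n)).obj F))
    (x : X) (hx : x ∈ 𝓙.support) :
    Module.Free (X.presheaf.stalk x) (F.presheaf.stalk x) ∧
      Module.finrank (X.presheaf.stalk x) (F.presheaf.stalk x) = r := by
  obtain ⟨_, ⟨U, hU : IsAffineOpen U, rfl⟩, hxU, -⟩ :=
    X.isBasis_affineOpens.exists_subset_of_mem_open (Set.mem_univ x) isOpen_univ
  have hxU' : x ∈ U := hxU
  haveI : Module.Finite (X.presheaf.stalk x) (F.presheaf.stalk x) := FLFH8.finite_stalk F x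
  refine free_of_quotients (F.presheaf.stalk x)
    ((𝓙.ideal ⟨U, hU⟩).map (X.presheaf.germ U x hxU').hom) ?_ r ?_
  · -- the ideal lies in the maximal ideal
    rw [Ideal.map_le_iff_le_comap]
    intro t ht
    rw [Ideal.mem_comap, mem_maximalIdeal, mem_nonunits_iff]
    intro hu
    have h1 : x ∈ X.zeroLocus (U := U) (𝓙.ideal ⟨U, hU⟩) :=
      (Scheme.IdealSheafData.mem_support_iff_of_mem (U := ⟨U, hU⟩) hxU').mp hx
    rw [Scheme.mem_zeroLocus_iff] at h1
    exact h1 t ht ((X.mem_basicOpen t x hxU').mpr hu)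
  · intro n
    have hxn : x ∈ Set.range (𝓙 ^ (n + 1)).subschemeι := by
      rw [Scheme.IdealSheafData.range_subschemeι]
      exact hx
    obtain ⟨xn, rfl⟩ := hxn
    let i : (𝓙 ^ (n + 1)).subscheme ⟶ X := (𝓙 ^ (n + 1)).subschemeι
    letI algOO : Algebra (X.presheaf.stalk (i xn)) ((𝓙 ^ (n + 1)).subscheme.presheaf.stalk xn) :=
      (i.stalkMap xn).hom.toAlgebra
    refine ⟨(𝓙 ^ (n + 1)).subscheme.presheaf.stalk xn, inferInstance, algOO, ?_, ?_, ?_⟩
    · exact i.stalkMap_surjective xn
    · have hk := Groth.Agent.KerStalk.ker_stalkMap i U hU xn hxU'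
      have hk2 : RingHom.ker (i.app U).hom = (𝓙.ideal ⟨U, hU⟩) ^ (n + 1) :=
        (𝓙 ^ (n + 1)).ker_subschemeι_app ⟨U, hU⟩
      show RingHom.ker (i.stalkMap xn).hom ≤ _
      rw [hk, hk2, Ideal.map_pow]
    · have h12 : Module.Free ((𝓙 ^ (n + 1)).subscheme.presheaf.stalk xn)
            (((Scheme.Modules.pullback i).obj F).presheaf.stalk xn) ∧
          Module.finrank ((𝓙 ^ (n + 1)).subscheme.presheaf.stalk xn)
            (((Scheme.Modules.pullback i).obj F).presheaf.stalk xn) = r :=
        FLFH8.free_stalk_of_finLocFreeOfRank _ (h n) xn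
      obtain ⟨h1, h2⟩ := h12
      haveI := h1
      letI modOG : Module (X.presheaf.stalk (i xn))
          (((Scheme.Modules.pullback i).obj F).presheaf.stalk xn) :=
        Module.compHom _ (i.stalkMap xn).hom
      haveI : IsScalarTower (X.presheaf.stalk (i xn))
          ((𝓙 ^ (n + 1)).subscheme.presheaf.stalk xn)
          (((Scheme.Modules.pullback i).obj F).presheaf.stalk xn) :=
        IsScalarTower.of_algebraMap_smul fun _ _ => rfl
      have hbc : IsBaseChange ((𝓙 ^ (n + 1)).subscheme.presheaf.stalk xn)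
          (PBH8.cStalkLin i F xn) := PBH8.isBaseChange_cStalk i F xn
      let E := hbc.equiv
      refine ⟨Module.Free.of_equiv E.symm, ?_⟩
      rw [E.finrank_eq]
      exact h2

end Stalk

section Locus

variable {X : Scheme.{u}} (F : X.Modules) [F.IsQuasicoherent]
  [SheafOfModules.IsFinitePresentation (R := X.ringCatSheaf) F]

/-- The locus where the stalk is free of rank `r` is open. -/
theorem isOpen_free_rank (r : ℕ) :
    IsOpen {x : X | Module.Free (X.presheaf.stalk x) (F.presheaf.stalk x) ∧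
      Module.finrank (X.presheaf.stalk x) (F.presheaf.stalk x) = r} := by
  rw [isOpen_iff_forall_mem_open]
  intro x hx
  obtain ⟨_, ⟨V, hV : IsAffineOpen V, rfl⟩, hxV, -⟩ :=
    X.isBasis_affineOpens.exists_subset_of_mem_open (Set.mem_univ x) isOpen_univ
  have hxV' : x ∈ V := hxV
  haveI : Module.FinitePresentation Γ(X, V) Γ(F, V) :=
    QCohFP2.finitePresentation_of_isFinitePresentation F hV
  obtain ⟨f, hxf, s, g, hg, hli⟩ := FLFH8.exists_basis_basicOpen F hV hxV' hx.1
  have hs : s = r := by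
    have := (FLFH8.free_stalk_of_basis F (hV.basicOpen f) hxf g hg hli).2
    rw [← this]
    exact hx.2
  refine ⟨X.basicOpen f, ?_, (X.basicOpen f).2, hxf⟩
  intro y hy
  obtain ⟨h1, h2⟩ := FLFH8.free_stalk_of_basis F (hV.basicOpen f) hy g hg hli
  exact ⟨h1, by rw [h2]; exact hs⟩

/-- A finitely presented quasi-coherent module all of whose stalks are free of rank `r` is finite
locally free of rank `r`. -/
theorem isFinLocFreeOfRank_of_stalks (r : ℕ)
    (h : ∀ x : X, Module.Free (X.presheaf.stalk x) (F.presheaf.stalk x) ∧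
      Module.finrank (X.presheaf.stalk x) (F.presheaf.stalk x) = r) :
    FlatMod.IsFinLocFreeOfRank r F := by
  intro x
  obtain ⟨_, ⟨V, hV : IsAffineOpen V, rfl⟩, hxV, -⟩ :=
    X.isBasis_affineOpens.exists_subset_of_mem_open (Set.mem_univ x) isOpen_univ
  have hxV' : x ∈ V := hxV
  haveI : Module.FinitePresentation Γ(X, V) Γ(F, V) :=
    QCohFP2.finitePresentation_of_isFinitePresentation F hV
  obtain ⟨f, hxf, s, g, hg, hli⟩ := FLFH8.exists_basis_basicOpen F hV hxV' (h x).1
  have hs : s = r := by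
    have := (FLFH8.free_stalk_of_basis F (hV.basicOpen f) hxf g hg hli).2
    rw [← this]
    exact (h x).2
  subst hs
  exact ⟨X.basicOpen f, hxf, FLFH8.iso_of_basis F (hV.basicOpen f) g hg hli⟩

end Locus

section Main

/-- the closed points of `Spec A` over `V(I)` lie in the support of `idealSpec A I`. -/
theorem mem_support_idealSpec (A : Type u) [CommRing A] (I : Ideal A)
    (p : PrimeSpectrum A) (hp : I ≤ p.asIdeal) :
    (p : Spec (CommRingCat.of A)) ∈ (FSch.idealSpec A I).support := by
  unfold FSch.idealSpec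
  have h0 : ((Spec.map (CommRingCat.ofHom (Ideal.Quotient.mk I))).ker.support :
      Set (Spec (CommRingCat.of A))) =
      closure (Set.range (Spec.map (CommRingCat.ofHom (Ideal.Quotient.mk I)))) :=
    Scheme.Hom.support_ker _
  show (p : Spec (CommRingCat.of A)) ∈
    ((Spec.map (CommRingCat.ofHom (Ideal.Quotient.mk I))).ker.support :
      Set (Spec (CommRingCat.of A)))
  rw [h0]
  apply subset_closure
  have h1 : p ∈ Set.range (PrimeSpectrum.comap (Ideal.Quotient.mk I)) := by
    rw [range_comap_of_surjective _ _ Ideal.Quotient.mk_surjective,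
      Ideal.mk_ker]
    exact hp
  obtain ⟨q, hq⟩ := h1
  exact ⟨q, hq⟩

/-- **Local freeness is detected on the completion** (proper over a complete Noetherian ring). -/
theorem main (A : Type u) [CommRing A] [IsNoetherianRing A]
    (I : Ideal A) [IsAdicComplete I A] (X : Scheme.{u}) (f : X ⟶ Spec (CommRingCat.of A))
    [IsProper f] (F : X.Modules) (hF : Coh.IsCoh F) (r : ℕ)
    (h : ∀ n : ℕ, FlatMod.IsFinLocFreeOfRank r
      ((Scheme.Modules.pullback (FSch.completionToX X ((FSch.idealSpec A I).comap f) n)).obj F)) :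
    FlatMod.IsFinLocFreeOfRank r F := by
  haveI : IsLocallyNoetherian X := LocallyOfFiniteType.isLocallyNoetherian f
  haveI : F.IsQuasicoherent := hF.1
  haveI : SheafOfModules.IsFiniteType (R := X.ringCatSheaf) F := hF.2
  haveI : SheafOfModules.IsFinitePresentation (R := X.ringCatSheaf) F :=
    FLFH8.isFinitePresentation_of_isCoh F
  apply isFinLocFreeOfRank_of_stalks F r
  intro x
  by_contra hx
  let W : Set X := {x : X | Module.Free (X.presheaf.stalk x) (F.presheaf.stalk x) ∧
      Module.finrank (X.presheaf.stalk x) (F.presheaf.stalk x) = r}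
  have hWo : IsOpen W := isOpen_free_rank F r
  have hC : IsClosed (f '' Wᶜ) := f.isClosedMap _ hWo.isClosed_compl
  obtain ⟨𝔟, h𝔟⟩ := (PrimeSpectrum.isClosed_iff_zeroLocus_ideal _).mp hC
  have hne : 𝔟 ≠ ⊤ := by
    intro htop
    have h1 : f x ∈ f '' Wᶜ := ⟨x, hx, rfl⟩
    rw [h𝔟, htop] at h1
    simp at h1
    exact absurd h1 (Set.notMem_empty _)
  obtain ⟨𝔪, h𝔪, h𝔟𝔪⟩ := Ideal.exists_le_maximal 𝔟 hne
  have h2 : (⟨𝔪, h𝔪.isPrime⟩ : PrimeSpectrum A) ∈ f '' Wᶜ := by
    rw [h𝔟]
    exact h𝔟𝔪
  obtain ⟨c, hcW, hc⟩ := h2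
  have hI𝔪 : I ≤ 𝔪 := (IsAdicComplete.le_jacobson_bot I).trans (sInf_le ⟨bot_le, h𝔪⟩)
  have hcs : c ∈ ((FSch.idealSpec A I).comap f).support := by
    rw [Scheme.IdealSheafData.support_comap]
    show f c ∈ (FSch.idealSpec A I).support
    rw [hc]
    exact mem_support_idealSpec A I ⟨𝔪, h𝔪.isPrime⟩ hI𝔪
  exact hcW (free_stalk_of_completion _ F r h c hcs)

end Main

end Groth.Agent.LocFreeCompl
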