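import Mathlib
import Groth.Prelude
import Groth.Agent.Lib.GAlg3_helper2
import Groth.Agent.Lib.GAlg1_helper2
import Groth.Agent.Lib.LocFreeCompl2_helper5
import Groth.Agent.S0004
import Groth.Agent.S0051
import Groth.Agent.Lib.FibAmp3_helper2
import Groth.Agent.Lib.ClFull_helper4
import Groth.Agent.Lib.GEx21_helper2

/-!
# Grothendieck algebraization with an ample invertible module, part 4: the module (helper2)

Given `Y` proper over a complete Noetherian `A` with `X_n = Y ×_A A/I^(n+1)` and invertible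
modules `L_n` on `X_n` with `L_n ≅ i_n^* L_(n+1)`:
* `isCohFormal_gSys` : the system `((e n)_* L_n)` is a coherent formal module on `Y`;
* `exists_module` : (Grothendieck existence, S0004) a coherent `M` on `Y` with `(e n)^* M ≅ L_n`;
* `isFinLocFreeOfRank_of_levels` : local freeness is detected on the thickenings;
* `isAmple_of_level0` : ampleness is detected on `X_0` (S0051 + `FibAmpH2.core_local`).
APPEND-ONLY once landed.
-/

set_option autoImplicit false
set_option linter.style.haveILetI false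
set_option linter.unusedSectionVars false
universe u
open CategoryTheory CategoryTheory.Limits AlgebraicGeometry TopologicalSpace Opposite

namespace Groth.Agent.Lib.GAlgH2

open Groth.Agent.Lib.GExH2 Groth.Agent.Lib.ThickH2 Groth.Agent.Lib.FormalQuotH2 Groth.Agent.Lib.FibAmpH2
  Groth.Agent.Lib.FormalFnH2

section LocFree

variable {X : Scheme.{u}} [IsLocallyNoetherian X] (F : X.Modules)
  [F.IsQuasicoherent] [SheafOfModules.IsFiniteType (R := X.ringCatSheaf) F]

open IsLocalRing in
/-- version of helper5's `free_stalk_of_completion` for an arbitrary family of closed subschemes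
with ideals `𝓙^(n+1)` -/
theorem free_stalk_of_levels (r : ℕ) (𝓙 : X.IdealSheafData)
    (Z : ℕ → Scheme.{u}) (j : ∀ n, Z n ⟶ X) [∀ n, IsClosedImmersion (j n)]
    (hk : ∀ n, (j n).ker = 𝓙 ^ (n + 1))
    (h : ∀ n : ℕ, FlatMod.IsFinLocFreeOfRank r ((Scheme.Modules.pullback (j n)).obj F))
    (x : X) (hx : x ∈ 𝓙.support) :
    Module.Free (X.presheaf.stalk x) (F.presheaf.stalk x) ∧
      Module.finrank (X.presheaf.stalk x) (F.presheaf.stalk x) = r := by
  obtain ⟨_, ⟨U, hU : IsAffineOpen U, rfl⟩, hxU, -⟩ :=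
    X.isBasis_affineOpens.exists_subset_of_mem_open (Set.mem_univ x) isOpen_univ
  have hxU' : x ∈ U := hxU
  haveI : Module.Finite (X.presheaf.stalk x) (F.presheaf.stalk x) := FLFH8.finite_stalk F x
  refine Groth.Agent.LocFreeCompl.free_of_quotients (F.presheaf.stalk x)
    ((𝓙.ideal ⟨U, hU⟩).map (X.presheaf.germ U x hxU').hom) ?_ r ?_
  · rw [Ideal.map_le_iff_le_comap]
    intro t ht
    rw [Ideal.mem_comap, mem_maximalIdeal, mem_nonunits_iff]
    intro hu
    have h1 : x ∈ X.zeroLocus (U := U) (𝓙.ideal ⟨U, hU⟩) :=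
      (Scheme.IdealSheafData.mem_support_iff_of_mem (U := ⟨U, hU⟩) hxU').mp hx
    rw [Scheme.mem_zeroLocus_iff] at h1
    exact h1 t ht ((X.mem_basicOpen t x hxU').mpr hu)
  · intro n
    have hxn : x ∈ Set.range (j n) := by
      have h1 : ((j n).ker.support : Set X) = closure (Set.range (j n)) :=
        Scheme.Hom.support_ker _
      rw [(j n).isClosedEmbedding.isClosed_range.closure_eq] at h1
      rw [← h1, hk n, Scheme.IdealSheafData.support_pow _ _ (Nat.succ_ne_zero n)]
      exact hx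
    obtain ⟨xn, rfl⟩ := hxn
    let i : Z n ⟶ X := j n
    letI algOO : Algebra (X.presheaf.stalk (i xn)) ((Z n).presheaf.stalk xn) :=
      (i.stalkMap xn).hom.toAlgebra
    refine ⟨(Z n).presheaf.stalk xn, inferInstance, algOO, ?_, ?_, ?_⟩
    · exact i.stalkMap_surjective xn
    · have hk1 := Groth.Agent.KerStalk.ker_stalkMap i U hU xn hxU'
      have hk2 : RingHom.ker (i.app U).hom = (𝓙.ideal ⟨U, hU⟩) ^ (n + 1) := by
        have h3 := congrArg (fun K : X.IdealSheafData => K.ideal ⟨U, hU⟩) (hk n)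
        have h4 : (j n).ker.ideal ⟨U, hU⟩ = RingHom.ker ((j n).app U).hom :=
          Scheme.Hom.ker_apply (j n) ⟨U, hU⟩
        exact h4.symm.trans h3
      show RingHom.ker (i.stalkMap xn).hom ≤ _
      rw [hk1, hk2, Ideal.map_pow]
    · have h12 : Module.Free ((Z n).presheaf.stalk xn)
            (((Scheme.Modules.pullback i).obj F).presheaf.stalk xn) ∧
          Module.finrank ((Z n).presheaf.stalk xn)
            (((Scheme.Modules.pullback i).obj F).presheaf.stalk xn) = r :=
        FLFH8.free_stalk_of_finLocFreeOfRank _ (h n) xn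
      obtain ⟨h1, h2⟩ := h12
      haveI := h1
      letI modOG : Module (X.presheaf.stalk (i xn))
          (((Scheme.Modules.pullback i).obj F).presheaf.stalk xn) :=
        Module.compHom _ (i.stalkMap xn).hom
      haveI : IsScalarTower (X.presheaf.stalk (i xn))
          ((Z n).presheaf.stalk xn)
          (((Scheme.Modules.pullback i).obj F).presheaf.stalk xn) :=
        IsScalarTower.of_algebraMap_smul fun _ _ => rfl
      have hbc : IsBaseChange ((Z n).presheaf.stalk xn)
          (PBH8.cStalkLin i F xn) := PBH8.isBaseChange_cStalk i F xn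
      let E := hbc.equiv
      refine ⟨Module.Free.of_equiv E.symm, ?_⟩
      rw [E.finrank_eq]
      exact h2

end LocFree

section LocFreeMain

variable (A : Type u) [CommRing A] [IsNoetherianRing A] (I : Ideal A)

/-- the ideal of the `n`-th thickening is the `(n+1)`-st power of the ideal of the `0`-th -/
theorem ker_thickι_eq_pow {X : Scheme.{u}} (f : X ⟶ Spec (CommRingCat.of A)) (n : ℕ) :
    (CohB1.thickι f I n).ker = (CohB1.thickι f I 0).ker ^ (n + 1) := by
  letI : X.Over (Spec (CommRingCat.of A)) := ⟨f⟩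
  apply Scheme.IdealSheafData.ext
  funext U
  rw [Scheme.IdealSheafData.ideal_pow]
  show (CohB1.thickι (X ↘ Spec (CommRingCat.of A)) I n).ker.ideal U =
    ((CohB1.thickι (X ↘ Spec (CommRingCat.of A)) I 0).ker.ideal U) ^ (n + 1)
  rw [ker_thickι_ideal I n U, ker_thickι_ideal I 0 U, ← Ideal.map_pow, zero_add, pow_one]

/-- **Local freeness is detected on the thickenings.** -/
theorem isFinLocFreeOfRank_of_levels [IsAdicComplete I A] (X : Scheme.{u})
    (f : X ⟶ Spec (CommRingCat.of A)) [IsProper f] (F : X.Modules) (hF : Coh.IsCoh F) (r : ℕ)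
    (Z : ℕ → Scheme.{u}) (j : ∀ n, Z n ⟶ X) [∀ n, IsClosedImmersion (j n)]
    (hk : ∀ n, (j n).ker = (CohB1.thickι f I n).ker)
    (h : ∀ n : ℕ, FlatMod.IsFinLocFreeOfRank r ((Scheme.Modules.pullback (j n)).obj F)) :
    FlatMod.IsFinLocFreeOfRank r F := by
  haveI : IsLocallyNoetherian X := LocallyOfFiniteType.isLocallyNoetherian f
  haveI : F.IsQuasicoherent := hF.1
  haveI : SheafOfModules.IsFiniteType (R := X.ringCatSheaf) F := hF.2
  haveI : SheafOfModules.IsFinitePresentation (R := X.ringCatSheaf) F :=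
    FLFH8.isFinitePresentation_of_isCoh F
  apply Groth.Agent.LocFreeCompl.isFinLocFreeOfRank_of_stalks F r
  have hWo : IsOpen {x : X | Module.Free (X.presheaf.stalk x) (F.presheaf.stalk x) ∧
      Module.finrank (X.presheaf.stalk x) (F.presheaf.stalk x) = r} :=
    Groth.Agent.LocFreeCompl.isOpen_free_rank F r
  have hC := eq_empty_of_isClosed_of_forall_not_le A I f f.isClosedMap _ hWo.isClosed_compl
    (fun c hc hI => hc (by
      refine free_stalk_of_levels F r (CohB1.thickι f I 0).ker Z j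
        (fun n => (hk n).trans (ker_thickι_eq_pow A I f n)) h c ?_
      have h1 : ((CohB1.thickι f I 0).ker.support : Set X) =
          closure (Set.range (CohB1.thickι f I 0)) := Scheme.Hom.support_ker _
      show c ∈ ((CohB1.thickι f I 0).ker.support : Set X)
      rw [h1]
      exact subset_closure (mem_range_thickι I 0 f c hI)))
  intro x
  by_contra hx
  have : x ∈ ({x : X | Module.Free (X.presheaf.stalk x) (F.presheaf.stalk x) ∧
      Module.finrank (X.presheaf.stalk x) (F.presheaf.stalk x) = r})ᶜ := hx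
  rw [hC] at this
  exact this

theorem isInvertible_of_rank_one {X : Scheme.{u}} {L : X.Modules}
    (h : FlatMod.IsFinLocFreeOfRank 1 L) : PicF.IsInvertible L := fun x => by
  obtain ⟨U, hxU, ⟨α⟩⟩ := h x
  exact ⟨U, hxU, ⟨α ≪≫ coproductUniqueIso
    (fun _ : Fin 1 => Coh.structureModule (U : Scheme.{u}))⟩⟩

end LocFreeMain

section Mod

variable (A : Type u) [CommRing A] [IsNoetherianRing A] (I : Ideal A)
  (Xs : ℕ → Scheme.{u}) (p : (k : ℕ) → (Xs k ⟶ Spec (CommRingCat.of (A ⧸ I ^ (k + 1)))))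
  (i : (k : ℕ) → (Xs k ⟶ Xs (k + 1)))
  (hcart : ∀ k, IsPullback (i k) (p k) (p (k + 1)) (CohB1.specQuotTrans I k))
  (Y : Scheme.{u}) [Y.Over (Spec (CommRingCat.of A))] (e : (n : ℕ) → (Xs n ⟶ Y))
  (hpb : ∀ n, IsPullback (e n) (p n) (Y ↘ Spec (CommRingCat.of A)) (CohB1.specQuot I n))
  (he : ∀ n, e n = i n ≫ e (n + 1))
  (L : (k : ℕ) → (Xs k).Modules) (hL : ∀ k, PicF.IsInvertible (L k))
  (φ : ∀ k, (Scheme.Modules.pullback (i k)).obj (L (k + 1)) ≅ L k)

include hpb in
theorem isClosedImmersion_e (n : ℕ) : IsClosedImmersion (e n) := by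
  haveI : IsClosedImmersion (CohB1.specQuot I n) :=
    IsClosedImmersion.spec_of_surjective _ Ideal.Quotient.mk_surjective
  exact MorphismProperty.of_isPullback (hpb n).flip inferInstance

include hpb in
theorem ker_e (n : ℕ) :
    (e n).ker = (CohB1.thickι (Y ↘ Spec (CommRingCat.of A)) I n).ker := by
  have h1 : (hpb n).isoPullback.hom ≫ CohB1.thickι (Y ↘ Spec (CommRingCat.of A)) I n = e n :=
    (hpb n).isoPullback_hom_fst
  rw [← h1]
  exact Scheme.Hom.ker_comp_of_isIso _ _

/-- `L (n+1) ⟶ (i n)_* L n` -/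
noncomputable def ttL (n : ℕ) : L (n + 1) ⟶ (Scheme.Modules.pushforward (i n)).obj (L n) :=
  (Scheme.Modules.pullbackPushforwardAdjunction (i n)).unit.app (L (n + 1)) ≫
    (Scheme.Modules.pushforward (i n)).map (φ n).hom

/-- the transition maps of the system `((e n)_* L_n)` -/
noncomputable def gTr (n : ℕ) : (Scheme.Modules.pushforward (e (n + 1))).obj (L (n + 1)) ⟶
    (Scheme.Modules.pushforward (e n)).obj (L n) :=
  (Scheme.Modules.pushforward (e (n + 1))).map (ttL Xs i L φ n) ≫
    ((Scheme.Modules.pushforwardComp (i n) (e (n + 1))).app (L n)).hom ≫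
      ((Scheme.Modules.pushforwardCongr (he n).symm).app (L n)).hom

/-- the system `((e n)_* L_n)` -/
noncomputable def gSys : ℕᵒᵖ ⥤ Y.Modules :=
  Functor.ofOpSequence (X := fun n => (Scheme.Modules.pushforward (e n)).obj (L n))
    (fun n => gTr Xs i Y e he L φ n)

theorem tG_gSys (n : ℕ) : tG (gSys Xs i Y e he L φ) n = gTr Xs i Y e he L φ n :=
  Functor.ofOpSequence_map_homOfLE_succ _ n

include hcart hpb hL in
theorem isCohFormal_gSys : Formal.IsCohFormal I (gSys Xs i Y e he L φ) := by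
  letI inst : ∀ k, (Xs k).Over (Spec (CommRingCat.of A)) :=
    fun k => ⟨p k ≫ CohB1.specQuot I k⟩
  have hKK : ∀ k : ℕ, I ^ (k + 1 + 1) ≤ I ^ (k + 1) :=
    fun k => Ideal.pow_le_pow_right (Nat.le_succ (k + 1))
  haveI hcl : ∀ k, IsClosedImmersion (i k) := fun k =>
    isClosedImmersion_of_sq (hKK k) (p (k + 1)) (p k) (i k) (hcart k)
  have hi : ∀ k, i k ≫ (Xs (k + 1) ↘ Spec (CommRingCat.of A)) =
      (Xs k ↘ Spec (CommRingCat.of A)) := fun k =>
    over_of_sq (hKK k) (p (k + 1)) (p k) rfl rfl (i k) (hcart k)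
  have hker : ∀ k (N : (Xs (k + 1)).Modules), Formal.KilledBy (I ^ (k + 1)) N →
      ClSub.KilledByIdeal (i k).ker N := fun k N hN =>
    killedByIdeal_of_sq (hKK k) (p (k + 1)) (p k) rfl (i k) (hcart k) N hN
  have hkill : ∀ k (N : (Xs k).Modules), Formal.KilledBy (I ^ (k + 1)) N := fun k N =>
    killedBy_of_sq (p k) rfl N
  haveI hqc : ∀ k, (L k).IsQuasicoherent := fun k => (ProperFinH9.isCoh_of_isInvertible (hL k)).1
  haveI hce : ∀ n, IsClosedImmersion (e n) := isClosedImmersion_e A I Xs p Y e hpb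
  have hj : ∀ n, e n ≫ (Y ↘ Spec (CommRingCat.of A)) = (Xs n ↘ Spec (CommRingCat.of A)) :=
    fun n => (hpb n).w
  refine ⟨fun n => ?_, fun n => ?_, fun n => ?_⟩
  · exact CohDevH8.isCoh_pushforward_of_isFinite (e n) (ProperFinH9.isCoh_of_isInvertible (hL n))
  · exact killedBy_pushforward (e n) (hj n) _ (L n) (hkill n (L n))
  · have h : IsQuot (I ^ (n + 1)) (tG (gSys Xs i Y e he L φ) n) := by
      rw [tG_gSys]
      obtain ⟨c, hc⟩ := exists_tt_iso I Xs i hi hker hkill L φ n
      have h1 : IsQuot (I ^ (n + 1)) (ttL Xs i L φ n) := by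
        have h2 : ttL Xs i L φ n = Formal.modPowπ I (n + 1) (L (n + 1)) ≫ c.hom := hc.symm
        rw [h2]
        exact (isQuot_modPowπ I (n + 1) (L (n + 1))).comp_iso c.hom
      have h3 := isQuot_pushforward (e (n + 1)) (hj (n + 1)) h1
      have h4 : gTr Xs i Y e he L φ n = (Scheme.Modules.pushforward (e (n + 1))).map
          (ttL Xs i L φ n) ≫
          ((Scheme.Modules.pushforwardComp (i n) (e (n + 1))).app (L n) ≪≫
            (Scheme.Modules.pushforwardCongr (he n).symm).app (L n)).hom := rfl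
      rw [h4]
      exact h3.comp_iso _
    exact h.cond

include hcart hpb hL he φ in
/-- **Grothendieck existence applied to the system `(L_n)`.** -/
theorem exists_module [IsAdicComplete I A] [IsProper (Y ↘ Spec (CommRingCat.of A))] :
    ∃ M : Y.Modules, Coh.IsCoh M ∧
      ∀ n, Nonempty ((Scheme.Modules.pullback (e n)).obj M ≅ L n) := by
  obtain ⟨M, hM, ⟨c⟩⟩ := (Groth.Agent.S0004.result A I Y).2 _
    (isCohFormal_gSys A I Xs p i hcart Y e hpb he L hL φ)
  refine ⟨M, hM, fun n => ?_⟩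
  letI inst : ∀ k, (Xs k).Over (Spec (CommRingCat.of A)) :=
    fun k => ⟨p k ≫ CohB1.specQuot I k⟩
  haveI hce : ∀ n, IsClosedImmersion (e n) := isClosedImmersion_e A I Xs p Y e hpb
  have hj : e n ≫ (Y ↘ Spec (CommRingCat.of A)) = (Xs n ↘ Spec (CommRingCat.of A)) :=
    (hpb n).w
  haveI := hM.1
  have hker : ∀ N : Y.Modules, Formal.KilledBy (I ^ (n + 1)) N →
      ClSub.KilledByIdeal (e n).ker N := fun N hN => by
    rw [ker_e A I Xs p Y e hpb n]
    exact killedByIdeal_thickι I n hN
  have hZ : ∀ N' : (Xs n).Modules, Formal.KilledBy (I ^ (n + 1)) N' := fun N' =>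
    killedBy_of_sq (p n) rfl N'
  obtain ⟨c', -⟩ := exists_modPow_iso (e n) hj I (n + 1) hker hZ M
  have c₂ : Formal.modPow I (n + 1) M ≅ (Scheme.Modules.pushforward (e n)).obj (L n) :=
    c.app (op n)
  exact ⟨(Scheme.Modules.pushforward (e n)).preimageIso (c'.symm ≪≫ c₂)⟩

end Mod

section Ample

variable (A : Type u) [CommRing A] [IsNoetherianRing A] (I : Ideal A) [IsAdicComplete I A]
  (Y : Scheme.{u}) [Y.Over (Spec (CommRingCat.of A))] [IsProper (Y ↘ Spec (CommRingCat.of A))]

/-- **Ampleness is detected on the closed fibre `X_0`.** -/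
theorem isAmple_of_level0 {X₀ : Scheme.{u}} (e₀ : X₀ ⟶ Y)
    (p₀ : X₀ ⟶ Spec (CommRingCat.of (A ⧸ I ^ (0 + 1))))
    (hpb : IsPullback e₀ p₀ (Y ↘ Spec (CommRingCat.of A)) (CohB1.specQuot I 0))
    (M : Y.Modules) (hinv : PicF.IsInvertible M)
    (hamp : CohB1.IsAmple ((Scheme.Modules.pullback e₀).obj M)) : CohB1.IsAmple M := by
  refine (Groth.Agent.S0051.result A Y (Y ↘ Spec (CommRingCat.of A)) M hinv).mpr
    (fun F hF => ?_)
  have hjac : RingHom.ker (Ideal.Quotient.mk (I ^ (0 + 1))) ≤ Ideal.jacobson ⊥ := by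
    rw [Ideal.mk_ker, zero_add, pow_one]
    exact IsAdicComplete.le_jacobson_bot I
  refine Groth.Agent.Lib.FibAmpH2.core_local A (A ⧸ I ^ (0 + 1)) (Ideal.Quotient.mk (I ^ (0 + 1)))
    Y Ideal.Quotient.mk_surjective hjac F hF hinv ?_
  -- ampleness on the fibre
  let α : X₀ ≅ pullback (Y ↘ Spec (CommRingCat.of A)) (CohB1.specQuot I 0) := hpb.isoPullback
  have hα : α.hom ≫ pullback.fst (Y ↘ Spec (CommRingCat.of A)) (CohB1.specQuot I 0) = e₀ :=
    hpb.isoPullback_hom_fst
  let N := (Scheme.Modules.pullback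
    (pullback.fst (Y ↘ Spec (CommRingCat.of A)) (CohB1.specQuot I 0))).obj M
  have h1 : CohB1.IsAmple ((Scheme.Modules.pullback α.hom).obj N) :=
    (TensH8.isAmple_congr ((Scheme.Modules.pullbackComp α.hom _).app M ≪≫
      (Scheme.Modules.pullbackCongr hα).app M)).mpr hamp
  haveI : CompactSpace ↥(pullback (Y ↘ Spec (CommRingCat.of A)) (CohB1.specQuot I 0)) :=
    inferInstance
  have h2 : CohB1.IsAmple ((Scheme.Modules.pullback α.inv).obj
      ((Scheme.Modules.pullback α.hom).obj N)) :=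
    TensH8.isAmple_pullback_of_isAffineHom α.inv h1
  exact (TensH8.isAmple_congr ((Scheme.Modules.pullbackComp α.inv α.hom).app N ≪≫
    (Scheme.Modules.pullbackCongr α.inv_hom_id).app N ≪≫
      (Scheme.Modules.pullbackId _).app N)).mp h2

end Ample

end Groth.Agent.Lib.GAlgH2
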