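import Mathlib
import Groth.Prelude
import Groth.Agent.S0056
import Groth.Agent.Lib.AdicPicEx1_helper8
import Groth.Agent.Lib.GAlg4_helper2

/-!
# Projective algebraization of a proper flat formal scheme with `H²(X₀, O) = 0` (helper2)

* `ker_specQuot_eq_pow`, `sigma` : the `n`-th level of the completion of `Spec A` along `V(I)` is `Spec (A/I^(n+1))`;
* `comap_pow_eq` : `(𝓚^n).comap g = (Scheme.IdealSheafData.comap 𝓚 g)^n` over an affine base;
* `main12901` : S12901 (helper8's `main11778` lifts the ample module, S0056 algebraizes).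
APPEND-ONLY once landed.
-/

set_option autoImplicit false
set_option linter.style.haveILetI false
set_option linter.unusedSectionVars false
universe u
open CategoryTheory CategoryTheory.Limits AlgebraicGeometry TopologicalSpace Opposite

namespace Groth.Agent.Lib.GAlgH2

open Groth.Agent.Lib.GExH2

section Spf

variable (A : Type u) [CommRing A] (I : Ideal A)

theorem ker_specQuot_eq_pow (n : ℕ) :
    (CohB1.specQuot I n).ker = (FSch.idealSpec A I) ^ (n + 1) := by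
  apply Scheme.IdealSheafData.ext_of_isAffine
  rw [Scheme.IdealSheafData.ideal_pow]
  show (CohB1.specQuot I n).ker.ideal ⟨⊤, isAffineOpen_top _⟩ =
    ((FSch.idealSpec A I).ideal ⟨⊤, isAffineOpen_top _⟩) ^ (n + 1)
  have h1 : (CohB1.specQuot I n).ker.ideal ⟨⊤, isAffineOpen_top _⟩ =
      Ideal.map (Scheme.ΓSpecIso (CommRingCat.of A)).inv.hom (I ^ (n + 1)) := by
    rw [Scheme.Hom.ker_apply]
    exact ker_specQuot (I ^ (n + 1))
  have h2 : (FSch.idealSpec A I).ideal ⟨⊤, isAffineOpen_top _⟩ =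
      Ideal.map (Scheme.ΓSpecIso (CommRingCat.of A)).inv.hom I := by
    unfold FSch.idealSpec
    rw [Scheme.Hom.ker_apply]
    exact ker_specQuot I
  rw [h1, h2, Ideal.map_pow]

instance isClosedImmersion_specQuot' (n : ℕ) : IsClosedImmersion (CohB1.specQuot I n) :=
  IsClosedImmersion.spec_of_surjective _ Ideal.Quotient.mk_surjective

theorem ker_specQuot_le (n : ℕ) :
    (CohB1.specQuot I n).ker ≤ ((FSch.idealSpec A I) ^ (n + 1)).subschemeι.ker := by
  rw [ker_specQuot_eq_pow, Scheme.IdealSheafData.ker_subschemeι]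

/-- the `n`-th level of the completion of `Spec A` along `V(I)` is `Spec (A/I^(n+1))` -/
noncomputable def sigma (n : ℕ) : ((FSch.idealSpec A I) ^ (n + 1)).subscheme ⟶
    Spec (CommRingCat.of (A ⧸ I ^ (n + 1))) :=
  IsClosedImmersion.lift (CohB1.specQuot I n) ((FSch.idealSpec A I) ^ (n + 1)).subschemeι
    (ker_specQuot_le A I n)

theorem sigma_specQuot (n : ℕ) :
    sigma A I n ≫ CohB1.specQuot I n = ((FSch.idealSpec A I) ^ (n + 1)).subschemeι :=
  IsClosedImmersion.lift_fac _ _ _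

instance isIso_sigma (n : ℕ) : IsIso (sigma A I n) :=
  IsClosedImmersion.isIso_lift _ _ (by
    rw [ker_specQuot_eq_pow, Scheme.IdealSheafData.ker_subschemeι])

theorem inclusion_sigma (n : ℕ) :
    Scheme.IdealSheafData.inclusion (FSch.pow_succ_le _ (FSch.idealSpec A I) n) ≫
      sigma A I (n + 1) = sigma A I n ≫ CohB1.specQuotTrans I n := by
  rw [← cancel_mono (CohB1.specQuot I (n + 1)), Category.assoc, Category.assoc, sigma_specQuot,
    CohB1.specQuotTrans_specQuot, sigma_specQuot]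
  exact Scheme.IdealSheafData.inclusion_subschemeι _

end Spf

section Comap

variable {A : Type u} [CommRing A]

theorem comap_pow_eq {Y : Scheme.{u}} (g : Y ⟶ Spec (CommRingCat.of A))
    (𝓚 : (Spec (CommRingCat.of A)).IdealSheafData) (n : ℕ) :
    (𝓚 ^ n).comap g = (Scheme.IdealSheafData.comap 𝓚 g) ^ n := by
  apply Scheme.IdealSheafData.ext
  funext U
  have hle : U.1 ≤ g ⁻¹ᵁ (⊤ : (Spec (CommRingCat.of A)).Opens) := fun _ _ => trivial
  rw [Scheme.IdealSheafData.ideal_pow]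
  show ((𝓚 ^ n).comap g).ideal U = ((Scheme.IdealSheafData.comap 𝓚 g).ideal U) ^ n
  rw [ChevAH8.ideal_comap_eq_map_ideal g _ ⟨⊤, isAffineOpen_top _⟩ U hle,
    ChevAH8.ideal_comap_eq_map_ideal g _ ⟨⊤, isAffineOpen_top _⟩ U hle,
    Scheme.IdealSheafData.ideal_pow, ← Ideal.map_pow]
  rfl

end Comap

section Main

variable (A : Type u) [CommRing A] [IsLocalRing A] [IsNoetherianRing A]
  [IsAdicComplete (IsLocalRing.maximalIdeal A) A]

local notation "𝔪" => IsLocalRing.maximalIdeal A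
local notation "𝓚" => FSch.idealSpec A (IsLocalRing.maximalIdeal A)

/-- **S12901** -/
theorem main12901 (𝔛 : FSch.Sys.{u})
    (f : 𝔛 ⟶ FSch.completionAlong (Spec (CommRingCat.of A)) 𝓚)
    (hf : FSch.IsProperHom f) (hflat : ∀ n : ℕ, Flat ((f : FSch.Hom _ _).app n))
    (hproj : ∃ L₀ : (𝔛.X 0).Modules, CohB1.IsAmple L₀)
    (hH2 : Subsingleton (Coh.HH (𝔛.X 0) (Coh.structureModule (𝔛.X 0)) 2)) :
    ∃ (X : Scheme.{u}) (g : X ⟶ (Spec (CommRingCat.of A))) (L : X.Modules),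
      IsProper g ∧ CohB1.IsAmple L ∧
      ∃ (h : FSch.PowCompat g (Scheme.IdealSheafData.comap 𝓚 g) 𝓚)
        (e : 𝔛 ≅ FSch.completionAlong X (Scheme.IdealSheafData.comap 𝓚 g)),
        e.hom ≫ FSch.completionMap g (Scheme.IdealSheafData.comap 𝓚 g) 𝓚 h = f := by
  obtain ⟨L₀, hL₀⟩ := hproj
  let fa : ∀ n, 𝔛.X n ⟶ (𝓚 ^ (n + 1)).subscheme := fun n => (f : FSch.Hom _ _).app n
  let p : ∀ n, 𝔛.X n ⟶ Spec (CommRingCat.of (A ⧸ 𝔪 ^ (n + 1))) := fun n => fa n ≫ sigma A 𝔪 n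
  have hcart : ∀ n, IsPullback (𝔛.ι n) (p n) (p (n + 1)) (CohB1.specQuotTrans 𝔪 n) := by
    intro n
    have h1 : IsPullback (𝔛.ι n) (fa n) (fa (n + 1))
        (Scheme.IdealSheafData.inclusion (FSch.pow_succ_le _ 𝓚 n)) := hf.1 n
    have h2 : IsPullback (Scheme.IdealSheafData.inclusion (FSch.pow_succ_le _ 𝓚 n))
        (sigma A 𝔪 n) (sigma A 𝔪 (n + 1)) (CohB1.specQuotTrans 𝔪 n) :=
      IsPullback.of_vert_isIso ⟨inclusion_sigma A 𝔪 n⟩
    exact h1.paste_vert h2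
  have hp : IsProper (p 0) := by
    haveI : IsProper (fa 0) := hf.2
    exact inferInstanceAs (IsProper (fa 0 ≫ sigma A 𝔪 0))
  have hfl : ∀ n, Flat (p n) := fun n => by
    haveI : Flat (fa n) := hflat n
    exact inferInstanceAs (Flat (fa n ≫ sigma A 𝔪 n))
  obtain ⟨L, hL, ⟨e0⟩, hφ⟩ := Groth.Agent.Lib.AdicPicExH8.main11778 A 𝔛.X p 𝔛.ι hcart hfl hH2
    L₀ hL₀.1
  have ha : CohB1.IsAmple (L 0) := (TensH8.isAmple_congr e0).mpr hL₀
  obtain ⟨Y, g, M, e, hg, -, hM, hpb, he, -⟩ :=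
    Groth.Agent.S0056.result A 𝔪 𝔛.X p 𝔛.ι hcart hp L hL hφ ha
  refine ⟨Y, g, M, hg, hM, ?_⟩
  have hpc : FSch.PowCompat g (Scheme.IdealSheafData.comap 𝓚 g) 𝓚 := fun n => (comap_pow_eq g 𝓚 (n + 1)).le
  refine ⟨hpc, ?_⟩
  letI : Y.Over (Spec (CommRingCat.of A)) := ⟨g⟩
  haveI hce : ∀ n, IsClosedImmersion (e n) := isClosedImmersion_e A 𝔪 𝔛.X p Y e hpb
  have hker : ∀ n, (e n).ker = ((Scheme.IdealSheafData.comap 𝓚 g) ^ (n + 1)).subschemeι.ker := by
    intro n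
    rw [Scheme.IdealSheafData.ker_subschemeι, ker_e A 𝔪 𝔛.X p Y e hpb n, ← comap_pow_eq,
      ← ker_specQuot_eq_pow]
    exact Scheme.IdealSheafData.ker_fst_of_isClosedImmersion (CohB1.specQuot 𝔪 n) g
  obtain ⟨ε, δ, hε, hεδ, hδε⟩ : ∃ (ε : ∀ n, 𝔛.X n ⟶
        ((Scheme.IdealSheafData.comap 𝓚 g) ^ (n + 1)).subscheme)
      (δ : ∀ n, ((Scheme.IdealSheafData.comap 𝓚 g) ^ (n + 1)).subscheme ⟶ 𝔛.X n),
      (∀ n, ε n ≫ ((Scheme.IdealSheafData.comap 𝓚 g) ^ (n + 1)).subschemeι = e n) ∧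
        (∀ n, ε n ≫ δ n = 𝟙 _) ∧ (∀ n, δ n ≫ ε n = 𝟙 _) := by
    have hiso : ∀ n, IsIso (IsClosedImmersion.lift
        ((Scheme.IdealSheafData.comap 𝓚 g) ^ (n + 1)).subschemeι (e n) (hker n).ge) :=
      fun n => IsClosedImmersion.isIso_lift _ _ (hker n).symm
    exact ⟨fun n => IsClosedImmersion.lift
        ((Scheme.IdealSheafData.comap 𝓚 g) ^ (n + 1)).subschemeι (e n) (hker n).ge,
      fun n => @inv _ _ _ _ _ (hiso n), fun n => IsClosedImmersion.lift_fac _ _ _,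
      fun n => @IsIso.hom_inv_id _ _ _ _ _ (hiso n), fun n => @IsIso.inv_hom_id _ _ _ _ _ (hiso n)⟩
  have hεcomm : ∀ n, ε n ≫ Scheme.IdealSheafData.inclusion
      (FSch.pow_succ_le Y (Scheme.IdealSheafData.comap 𝓚 g) n) = 𝔛.ι n ≫ ε (n + 1) := by
    intro n
    rw [← cancel_mono ((Scheme.IdealSheafData.comap 𝓚 g) ^ (n + 1 + 1)).subschemeι, Category.assoc,
      Category.assoc, hε, Scheme.IdealSheafData.inclusion_subschemeι, hε, ← he]
  have hinvcomm : ∀ n, δ n ≫ 𝔛.ι n = Scheme.IdealSheafData.inclusion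
      (FSch.pow_succ_le Y (Scheme.IdealSheafData.comap 𝓚 g) n) ≫ δ (n + 1) := by
    intro n
    calc δ n ≫ 𝔛.ι n = δ n ≫ 𝔛.ι n ≫ 𝟙 _ := by rw [Category.comp_id]
      _ = δ n ≫ 𝔛.ι n ≫ (ε (n + 1) ≫ δ (n + 1)) := by rw [hεδ]
      _ = δ n ≫ (𝔛.ι n ≫ ε (n + 1)) ≫ δ (n + 1) := by simp only [Category.assoc]
      _ = δ n ≫ (ε n ≫ Scheme.IdealSheafData.inclusion
            (FSch.pow_succ_le Y (Scheme.IdealSheafData.comap 𝓚 g) n)) ≫ δ (n + 1) := by
          rw [hεcomm]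
      _ = (δ n ≫ ε n) ≫ Scheme.IdealSheafData.inclusion
            (FSch.pow_succ_le Y (Scheme.IdealSheafData.comap 𝓚 g) n) ≫ δ (n + 1) := by
          simp only [Category.assoc]
      _ = _ := by rw [hδε, Category.id_comp]
  refine ⟨⟨(⟨ε, hεcomm⟩ : FSch.Hom 𝔛 (FSch.completionAlong Y (Scheme.IdealSheafData.comap 𝓚 g))),
    (⟨δ, hinvcomm⟩ :
      FSch.Hom (FSch.completionAlong Y (Scheme.IdealSheafData.comap 𝓚 g)) 𝔛), ?_, ?_⟩, ?_⟩
  · apply FSch.Hom.ext
    funext n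
    exact hεδ n
  · apply FSch.Hom.ext
    funext n
    exact hδε n
  · apply FSch.Hom.ext
    funext n
    show ε n ≫ Scheme.IdealSheafData.subschemeMap ((Scheme.IdealSheafData.comap 𝓚 g) ^ (n + 1))
      (𝓚 ^ (n + 1)) g (Scheme.IdealSheafData.le_map_iff_comap_le.mpr (hpc n)) = fa n
    rw [← cancel_mono (𝓚 ^ (n + 1)).subschemeι, Category.assoc,
      Scheme.IdealSheafData.subschemeMap_subschemeι, ← Category.assoc, hε, (hpb n).w]
    show (fa n ≫ sigma A 𝔪 n) ≫ CohB1.specQuot 𝔪 n = _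
    rw [Category.assoc, sigma_specQuot]

end Main

end Groth.Agent.Lib.GAlgH2
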