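import Mathlib
import Groth.Agent.Lib.DimFT_helper8

/-! Presentations with `n` generators and `c` relations; polynomial and quotient steps. -/

namespace GCIFieldH8
open Polynomial

universe u

section Pres
variable (k : Type u) [Field k]

/-- `A` has a presentation with `n` generators and `c` relations over `k`. -/
def HasPres (A : Type u) [CommRing A] [Algebra k A] (n c : ℕ) : Prop :=
  ∃ (φ : MvPolynomial (Fin n) k →ₐ[k] A) (r : Fin c → MvPolynomial (Fin n) k),
    Function.Surjective φ ∧ RingHom.ker φ.toRingHom = Ideal.span (Set.range r)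

theorem hasPres_base : HasPres k k 0 0 := by
  refine ⟨(MvPolynomial.isEmptyAlgEquiv k (Fin 0)).toAlgHom, Fin.elim0,
    (MvPolynomial.isEmptyAlgEquiv k (Fin 0)).surjective, ?_⟩
  have : Set.range (Fin.elim0 : Fin 0 → MvPolynomial (Fin 0) k) = ∅ := Set.range_eq_empty _
  rw [this, Ideal.span_empty]
  exact (RingHom.injective_iff_ker_eq_bot _).mp (MvPolynomial.isEmptyAlgEquiv k (Fin 0)).injective

theorem hasPres_quot {B : Type u} [CommRing B] [Algebra k B] {n c : ℕ} (h : HasPres k B n c)
    (b : B) : HasPres k (B ⧸ Ideal.span {b}) n (c + 1) := by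
  obtain ⟨φ, r, hs, hk⟩ := h
  obtain ⟨b', hb'⟩ := hs b
  refine ⟨(Ideal.Quotient.mkₐ k _).comp φ, Fin.cons b' r,
    (Ideal.Quotient.mkₐ_surjective k _).comp hs, ?_⟩
  rw [Fin.range_cons, Ideal.span_insert, ← hk]
  ext x
  simp only [RingHom.mem_ker, AlgHom.toRingHom_eq_coe, RingHom.coe_coe, AlgHom.comp_apply,
    Ideal.Quotient.mkₐ_eq_mk, Ideal.Quotient.eq_zero_iff_mem]
  constructor
  · intro hx
    obtain ⟨a, ha⟩ := Ideal.mem_span_singleton'.mp hx
    obtain ⟨a', rfl⟩ := hs a
    have h1 : x - a' * b' ∈ RingHom.ker (φ : _ →+* B) := by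
      rw [RingHom.mem_ker]
      simp only [RingHom.coe_coe, map_sub, map_mul, hb', ha, sub_self]
    have h2 : x = a' * b' + (x - a' * b') := by ring
    rw [h2]
    exact Ideal.add_mem _ (Ideal.mem_sup_left (Ideal.mul_mem_left _ _ (Ideal.subset_span rfl)))
      (Ideal.mem_sup_right h1)
  · intro hx
    obtain ⟨y, hy, z, hz, rfl⟩ := Submodule.mem_sup.mp hx
    obtain ⟨a, rfl⟩ := Ideal.mem_span_singleton'.mp hy
    rw [RingHom.mem_ker] at hz
    simp only [RingHom.coe_coe] at hz
    rw [map_add, hz, add_zero, map_mul, hb']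
    exact Ideal.mul_mem_left _ _ (Ideal.subset_span rfl)

theorem hasPres_polynomial {A : Type u} [CommRing A] [Algebra k A] {n c : ℕ}
    (h : HasPres k A n c) : HasPres k A[X] (n + 1) c := by
  obtain ⟨φ, r, hs, hk⟩ := h
  refine ⟨(Polynomial.mapAlgHom φ).comp (MvPolynomial.finSuccEquiv k n).toAlgHom,
    fun i => (MvPolynomial.finSuccEquiv k n).symm (C (r i)), ?_, ?_⟩
  · exact (Polynomial.map_surjective _ hs).comp (MvPolynomial.finSuccEquiv k n).surjective
  · have h2 : RingHom.ker (Polynomial.mapRingHom φ.toRingHom) =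
        Ideal.span (Set.range fun i => (C (r i) : (MvPolynomial (Fin n) k)[X])) := by
      rw [Polynomial.ker_mapRingHom, hk, Ideal.map_span, ← Set.range_comp]
      rfl
    have h3 : ∀ x, x ∈ Ideal.span (Set.range fun i =>
        (MvPolynomial.finSuccEquiv k n).symm (C (r i))) ↔
        (MvPolynomial.finSuccEquiv k n) x ∈
          Ideal.span (Set.range fun i => (C (r i) : (MvPolynomial (Fin n) k)[X])) := by
      intro x
      have h4 : Ideal.span (Set.range fun i =>
          (MvPolynomial.finSuccEquiv k n).symm (C (r i))) =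
          Ideal.map (MvPolynomial.finSuccEquiv k n).toRingEquiv.symm
            (Ideal.span (Set.range fun i => (C (r i) : (MvPolynomial (Fin n) k)[X]))) := by
        rw [Ideal.map_span, ← Set.range_comp]
        rfl
      rw [h4, Ideal.mem_map_of_equiv]
      constructor
      · rintro ⟨y, hy, rfl⟩
        have : (MvPolynomial.finSuccEquiv k n)
            ((MvPolynomial.finSuccEquiv k n).toRingEquiv.symm y) = y :=
          (MvPolynomial.finSuccEquiv k n).apply_symm_apply y
        rw [this]
        exact hy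
      · intro hx
        exact ⟨_, hx, (MvPolynomial.finSuccEquiv k n).symm_apply_apply x⟩
    ext x
    rw [h3, ← h2]
    simp only [RingHom.mem_ker]
    rfl

end Pres

end GCIFieldH8
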