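import Mathlib
import Groth.Agent.Lib.GCIField1_helper8

/-! The two extension steps: adjoining a transcendental element, and `AdjoinRoot`. -/

namespace GCIFieldH8
open Polynomial

universe u

section Step
variable (k : Type u) [Field k] (K : Type u) [Field K] [Algebra k K]

theorem finiteType_of_hasPres {A : Type u} [CommRing A] [Algebra k A] {n c : ℕ}
    (h : HasPres k A n c) : Algebra.FiniteType k A := by
  obtain ⟨φ, r, hs, -⟩ := h
  exact Algebra.FiniteType.of_surjective φ hs

theorem step_transc {A : Type u} [CommRing A] [IsDomain A] [Algebra k A] (ι : A →ₐ[k] K)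
    {n c : ℕ} (hc : c ≤ n) (hp : HasPres k A n c)
    (hd : ringKrullDim A = ((n - c : ℕ) : WithBot ℕ∞)) (e : K)
    (ht : ∀ S : A[X], S.eval₂ (ι : A →+* K) e = 0 → S = 0) :
    ∃ (A' : Type u) (_ : CommRing A') (_ : IsDomain A') (_ : Algebra k A') (ι' : A' →ₐ[k] K),
      Function.Injective ι' ∧ Set.range ι ⊆ Set.range ι' ∧ e ∈ Set.range ι' ∧
      HasPres k A' (n + 1) c ∧ ringKrullDim A' = (((n + 1) - c : ℕ) : WithBot ℕ∞) := by
  refine ⟨A[X], inferInstance, inferInstance, inferInstance,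
    Polynomial.eval₂AlgHom ι e (fun a => Commute.all _ _), ?_, ?_, ?_, hasPres_polynomial k hp, ?_⟩
  · rw [injective_iff_map_eq_zero]
    intro S hS
    exact ht S hS
  · rintro _ ⟨a, rfl⟩
    exact ⟨C a, by simp⟩
  · exact ⟨X, by simp⟩
  · haveI : Algebra.FiniteType k A := finiteType_of_hasPres k hp
    haveI : IsNoetherianRing A := Algebra.FiniteType.isNoetherianRing k A
    rw [Polynomial.ringKrullDim_of_isNoetherianRing, hd]
    have : n + 1 - c = (n - c) + 1 := by omega
    rw [this]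
    rfl

theorem step_adjoinRoot {A : Type u} [CommRing A] [IsDomain A] [Algebra k A] (ι : A →ₐ[k] K)
    (hι : Function.Injective ι) {n c : ℕ} (hp : HasPres k A n c)
    (hd : ringKrullDim A = ((n - c : ℕ) : WithBot ℕ∞)) (g : A[X]) (hg : g ≠ 0) (e₀ : K)
    (h0 : g.eval₂ (ι : A →+* K) e₀ = 0)
    (hker : ∀ S : A[X], S.eval₂ (ι : A →+* K) e₀ = 0 → g ∣ S) :
    ∃ (A' : Type u) (_ : CommRing A') (_ : IsDomain A') (_ : Algebra k A') (ι' : A' →ₐ[k] K),
      Function.Injective ι' ∧ Set.range ι ⊆ Set.range ι' ∧ e₀ ∈ Set.range ι' ∧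
      HasPres k A' (n + 1) (c + 1) ∧ ringKrullDim A' = ((n - c : ℕ) : WithBot ℕ∞) := by
  have hinj : Function.Injective (AdjoinRoot.liftAlgHom g ι e₀ h0) := by
    rw [injective_iff_map_eq_zero]
    intro x
    induction x using AdjoinRoot.induction_on with
    | ih S =>
      intro hS
      rw [AdjoinRoot.liftAlgHom_mk] at hS
      exact AdjoinRoot.mk_eq_zero.mpr (hker S hS)
  haveI hdom : IsDomain (AdjoinRoot g) :=
    Function.Injective.isDomain (AdjoinRoot.liftAlgHom g ι e₀ h0 : AdjoinRoot g →+* K) hinj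
  refine ⟨AdjoinRoot g, inferInstance, hdom, inferInstance, AdjoinRoot.liftAlgHom g ι e₀ h0,
    hinj, ?_, ?_, ?_, ?_⟩
  · rintro _ ⟨a, rfl⟩
    exact ⟨AdjoinRoot.of g a, AdjoinRoot.liftAlgHom_of g ι e₀ h0 a⟩
  · exact ⟨AdjoinRoot.root g, AdjoinRoot.liftAlgHom_root g ι e₀ h0⟩
  · exact hasPres_quot k (hasPres_polynomial k hp) g
  · haveI : Algebra.FiniteType k A := finiteType_of_hasPres k hp
    have hofinj : Function.Injective (algebraMap A (AdjoinRoot g)) := by
      intro a b hab
      apply hι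
      rw [← AdjoinRoot.liftAlgHom_of g ι e₀ h0 a, ← AdjoinRoot.liftAlgHom_of g ι e₀ h0 b]
      rw [AdjoinRoot.algebraMap_eq] at hab
      rw [hab]
    haveI : FaithfulSMul A (AdjoinRoot g) := (faithfulSMul_iff_algebraMap_injective _ _).mpr hofinj
    haveI : FaithfulSMul k A := (faithfulSMul_iff_algebraMap_injective k A).mpr
      (algebraMap k A).injective
    haveI : Algebra.IsAlgebraic A (AdjoinRoot g) := by
      constructor
      intro x
      have h1 : (Algebra.adjoin A ({AdjoinRoot.root g} : Set (AdjoinRoot g))).IsAlgebraic :=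
        Algebra.isAlgebraic_adjoin_singleton_iff.mpr (AdjoinRoot.isAlgebraic_root hg)
      rw [AdjoinRoot.adjoinRoot_eq_top] at h1
      exact h1 x Algebra.mem_top
    obtain ⟨a, -, ha1, ha2, -⟩ := Groth.Agent.DimFTH8.exists_dim_eq k A
    obtain ⟨b, -, hb1, hb2, -⟩ := Groth.Agent.DimFTH8.exists_dim_eq k (AdjoinRoot g)
    have h1 := trdeg_add_eq k A (A := AdjoinRoot g)
    rw [trdeg_eq_zero (R := A) (A := AdjoinRoot g), add_zero, ha1, hb1] at h1
    have h2 : a = b := by exact_mod_cast h1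
    rw [hb2, ← h2, ← ha2, hd]

end Step

end GCIFieldH8
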