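import Mathlib
import Groth.Agent.Lib.GCIField2_helper8

/-! Kernel computations: the integral (monic) step and the localization step. -/

namespace GCIFieldH8
open Polynomial

universe u

section Ker
variable {K : Type u} [Field K]

theorem hker_monic {A : Type u} [CommRing A] [IsDomain A] (ι : A →+* K)
    (hι : Function.Injective ι) (e : K) (Q : A[X]) (hQ0 : Q ≠ 0) (hQe : Q.eval₂ ι e = 0)
    (hmin : ∀ S : A[X], S ≠ 0 → S.eval₂ ι e = 0 → Q.natDegree ≤ S.natDegree) :
    (Q.integralNormalization).eval₂ ι (ι Q.leadingCoeff * e) = 0 ∧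
    ∀ S : A[X], S.eval₂ ι (ι Q.leadingCoeff * e) = 0 → Q.integralNormalization ∣ S := by
  have hinj0 : ∀ x : A, ι x = 0 → x = 0 := fun x hx => hι (by rw [hx, map_zero])
  have h1 : (Q.integralNormalization).eval₂ ι (ι Q.leadingCoeff * e) = 0 :=
    integralNormalization_eval₂_eq_zero ι hQe hinj0
  refine ⟨h1, ?_⟩
  have hd : 1 ≤ Q.natDegree := by
    by_contra hlt
    have h0 : Q.natDegree = 0 := by omega
    have hC := eq_C_of_natDegree_eq_zero h0
    rw [hC, eval₂_C] at hQe
    have := hinj0 _ hQe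
    rw [this, C_0] at hC
    exact hQ0 hC
  have hmon : (Q.integralNormalization).Monic := monic_integralNormalization hQ0
  have hdeg : (Q.integralNormalization).natDegree = Q.natDegree := natDegree_integralNormalization
  have hne1 : Q.integralNormalization ≠ 1 := by
    intro h
    rw [h, natDegree_one] at hdeg
    omega
  have hlc : Q.leadingCoeff ≠ 0 := leadingCoeff_ne_zero.mpr hQ0
  intro S hS
  rw [← modByMonic_eq_zero_iff_dvd hmon]
  by_contra hR
  have hRe : (S %ₘ Q.integralNormalization).eval₂ ι (ι Q.leadingCoeff * e) = 0 := by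
    have h2 := modByMonic_add_div S Q.integralNormalization
    have h3 := congrArg (eval₂ ι (ι Q.leadingCoeff * e)) h2
    rw [eval₂_add, eval₂_mul, h1, zero_mul, add_zero, hS] at h3
    exact h3
  have hRd : (S %ₘ Q.integralNormalization).natDegree < Q.natDegree := by
    rw [← hdeg]
    exact natDegree_modByMonic_lt S hmon hne1
  have hq : (C Q.leadingCoeff * X : A[X]).natDegree = 1 := natDegree_C_mul_X _ hlc
  have h4 : ((S %ₘ Q.integralNormalization).comp (C Q.leadingCoeff * X)) ≠ 0 := by
    intro h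
    rw [comp_eq_zero_iff] at h
    rcases h with h | ⟨-, h⟩
    · exact hR h
    · have := congrArg natDegree h
      rw [hq, natDegree_C] at this
      omega
  have h5 : ((S %ₘ Q.integralNormalization).comp (C Q.leadingCoeff * X)).eval₂ ι e = 0 := by
    rw [eval₂_comp, eval₂_mul, eval₂_C, eval₂_X, hRe]
  have h6 := hmin _ h4 h5
  rw [natDegree_comp, hq, mul_one] at h6
  omega

theorem hker_away {A : Type u} [CommRing A] [IsDomain A] (ι : A →+* K)
    (hι : Function.Injective ι) (h : A) (hh : h ≠ 0) :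
    (C h * X - 1 : A[X]).eval₂ ι (ι h)⁻¹ = 0 ∧
    ∀ S : A[X], S.eval₂ ι (ι h)⁻¹ = 0 → (C h * X - 1) ∣ S := by
  have hh' : ι h ≠ 0 := fun h0 => hh (hι (by rw [h0, map_zero]))
  refine ⟨?_, ?_⟩
  · rw [eval₂_sub, eval₂_mul, eval₂_C, eval₂_X, eval₂_one, mul_inv_cancel₀ hh', sub_self]
  intro S hS
  rw [← AdjoinRoot.mk_eq_zero]
  have hinv : AdjoinRoot.of (C h * X - 1) h * AdjoinRoot.root (C h * X - 1) = 1 :=
    AdjoinRoot.root_isInv h
  have hsum : AdjoinRoot.mk (C h * X - 1) S = ∑ j ∈ Finset.range (S.natDegree + 1),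
      AdjoinRoot.of (C h * X - 1) (S.coeff j) * AdjoinRoot.root (C h * X - 1) ^ j := by
    rw [← AdjoinRoot.aeval_eq, aeval_eq_sum_range]
    refine Finset.sum_congr rfl fun j _ => ?_
    rw [Algebra.smul_def, AdjoinRoot.algebraMap_eq]
  have hkey : AdjoinRoot.of (C h * X - 1) h ^ S.natDegree * AdjoinRoot.mk (C h * X - 1) S =
      AdjoinRoot.of (C h * X - 1)
        (∑ j ∈ Finset.range (S.natDegree + 1), S.coeff j * h ^ (S.natDegree - j)) := by
    rw [hsum, Finset.mul_sum, map_sum]
    refine Finset.sum_congr rfl fun j hj => ?_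
    have hj' : j ≤ S.natDegree := by
      rw [Finset.mem_range] at hj
      omega
    have h1 : AdjoinRoot.of (C h * X - 1) h ^ S.natDegree =
        AdjoinRoot.of (C h * X - 1) h ^ (S.natDegree - j) * AdjoinRoot.of (C h * X - 1) h ^ j := by
      rw [← pow_add]
      congr 1
      omega
    rw [h1, map_mul, map_pow]
    calc AdjoinRoot.of (C h * X - 1) h ^ (S.natDegree - j) * AdjoinRoot.of (C h * X - 1) h ^ j *
          (AdjoinRoot.of (C h * X - 1) (S.coeff j) * AdjoinRoot.root (C h * X - 1) ^ j)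
        = AdjoinRoot.of (C h * X - 1) (S.coeff j) *
          AdjoinRoot.of (C h * X - 1) h ^ (S.natDegree - j) *
          (AdjoinRoot.of (C h * X - 1) h * AdjoinRoot.root (C h * X - 1)) ^ j := by ring
      _ = _ := by rw [hinv, one_pow, mul_one]
  have hzero : (∑ j ∈ Finset.range (S.natDegree + 1), S.coeff j * h ^ (S.natDegree - j)) = 0 := by
    apply hι
    rw [map_zero, map_sum]
    have h2 : (ι h) ^ S.natDegree * S.eval₂ ι (ι h)⁻¹ = 0 := by rw [hS, mul_zero]
    rw [eval₂_eq_sum_range, Finset.mul_sum] at h2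
    rw [← h2]
    refine Finset.sum_congr rfl fun j hj => ?_
    have hj' : j ≤ S.natDegree := by
      rw [Finset.mem_range] at hj
      omega
    rw [map_mul, map_pow, inv_pow]
    have h3 : (ι h) ^ S.natDegree = (ι h) ^ (S.natDegree - j) * (ι h) ^ j := by
      rw [← pow_add]
      congr 1
      omega
    rw [h3]
    field_simp
  rw [hzero, map_zero] at hkey
  have h7 : AdjoinRoot.root (C h * X - 1) ^ S.natDegree *
      (AdjoinRoot.of (C h * X - 1) h ^ S.natDegree * AdjoinRoot.mk (C h * X - 1) S) = 0 := by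
    rw [hkey, mul_zero]
  rw [← mul_assoc, ← mul_pow, mul_comm (AdjoinRoot.root _), hinv, one_pow, one_mul] at h7
  exact h7

end Ker

end GCIFieldH8
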