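import Mathlib
import Groth.Agent.Lib.GCIField3_helper8

/-! Induction: every finite subset of a field extension lies in a global complete intersection. -/

namespace GCIFieldH8
open Polynomial

universe u

section Main
variable (k : Type u) [Field k] (K : Type u) [Field K] [Algebra k K]

/-- The invariant of the induction. -/
def Inv (E : Set K) : Prop :=
  ∃ (A : Type u) (_ : CommRing A) (_ : IsDomain A) (_ : Algebra k A) (ι : A →ₐ[k] K) (n c : ℕ),
    Function.Injective ι ∧ E ⊆ Set.range ι ∧ c ≤ n ∧ HasPres k A n c ∧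
      ringKrullDim A = ((n - c : ℕ) : WithBot ℕ∞)

theorem inv_empty : Inv k K ∅ := by
  refine ⟨k, inferInstance, inferInstance, inferInstance, Algebra.ofId k K, 0, 0,
    (algebraMap k K).injective, Set.empty_subset _, le_rfl, hasPres_base k, ?_⟩
  rw [ringKrullDim_eq_zero_of_field]
  rfl

theorem inv_insert {E : Set K} (h : Inv k K E) (e : K) : Inv k K (insert e E) := by
  classical
  obtain ⟨A, _, _, _, ι, n, c, hι, hE, hc, hp, hd⟩ := h
  by_cases hD : ∀ S : A[X], S.eval₂ (ι : A →+* K) e = 0 → S = 0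
  · obtain ⟨A', _, _, _, ι', hι', hr, he, hp', hd'⟩ := step_transc k K ι hc hp hd e hD
    refine ⟨A', _, ‹_›, _, ι', n + 1, c, hι', ?_, by omega, hp', hd'⟩
    rw [Set.insert_subset_iff]
    exact ⟨he, hE.trans hr⟩
  · push_neg at hD
    have hex : ∃ d : ℕ, ∃ S : A[X], S ≠ 0 ∧ S.eval₂ (ι : A →+* K) e = 0 ∧ S.natDegree = d := by
      obtain ⟨S, h1, h2⟩ := hD
      exact ⟨_, S, h2, h1, rfl⟩
    obtain ⟨Q, hQ0, hQe, hQd⟩ := Nat.find_spec hex
    have hmin : ∀ S : A[X], S ≠ 0 → S.eval₂ (ι : A →+* K) e = 0 → Q.natDegree ≤ S.natDegree := by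
      intro S h1 h2
      rw [hQd]
      exact Nat.find_min' hex ⟨S, h1, h2, rfl⟩
    have hιr : Function.Injective (ι : A →+* K) := hι
    obtain ⟨hm1, hm2⟩ := hker_monic (ι : A →+* K) hιr e Q hQ0 hQe hmin
    have hg1 : Q.integralNormalization ≠ 0 := (monic_integralNormalization hQ0).ne_zero
    obtain ⟨A₁, _, _, _, ι₁, hι₁, hr₁, he₁, hp₁, hd₁⟩ :=
      step_adjoinRoot k K ι hι hp hd Q.integralNormalization hg1 _ hm1 hm2
    have hlc : Q.leadingCoeff ≠ 0 := leadingCoeff_ne_zero.mpr hQ0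
    obtain ⟨h₁, hh₁⟩ := hr₁ ⟨Q.leadingCoeff, rfl⟩
    have hlc' : ι Q.leadingCoeff ≠ 0 := fun h0 => hlc (hι (by rw [h0, map_zero]))
    have hh₁0 : h₁ ≠ 0 := by
      intro h0
      rw [h0, map_zero] at hh₁
      exact hlc' hh₁.symm
    have hι₁r : Function.Injective (ι₁ : A₁ →+* K) := hι₁
    obtain ⟨ha1, ha2⟩ := hker_away (ι₁ : A₁ →+* K) hι₁r h₁ hh₁0
    have hg2 : (C h₁ * X - 1 : A₁[X]) ≠ 0 := by
      intro h0
      have := congrArg (fun p => coeff p 0) h0
      simp at this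
    have hd₁' : ringKrullDim A₁ = (((n + 1) - (c + 1) : ℕ) : WithBot ℕ∞) := by
      rw [hd₁, Nat.add_sub_add_right]
    obtain ⟨A₂, _, _, _, ι₂, hι₂, hr₂, he₂, hp₂, hd₂⟩ :=
      step_adjoinRoot k K ι₁ hι₁ hp₁ hd₁' (C h₁ * X - 1) hg2 _ ha1 ha2
    refine ⟨A₂, _, ‹_›, _, ι₂, n + 1 + 1, c + 1 + 1, hι₂, ?_, by omega, hp₂, ?_⟩
    · rw [Set.insert_subset_iff]
      refine ⟨?_, hE.trans (hr₁.trans hr₂)⟩
      obtain ⟨x, hx⟩ := hr₂ he₁
      obtain ⟨y, hy⟩ := he₂
      refine ⟨y * x, ?_⟩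
      rw [map_mul, hx, hy]
      have : (ι₁ : A₁ →+* K) h₁ = ι Q.leadingCoeff := hh₁
      rw [this]
      show (ι Q.leadingCoeff)⁻¹ * (ι Q.leadingCoeff * e) = e
      rw [← mul_assoc, inv_mul_cancel₀ hlc', one_mul]
    · rw [hd₂]
      congr 1
      omega

theorem inv_finset (E : Finset K) : Inv k K (↑E : Set K) := by
  classical
  induction E using Finset.induction_on with
  | empty =>
    rw [Finset.coe_empty]
    exact inv_empty k K
  | insert a s _ ih =>
    rw [Finset.coe_insert]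
    exact inv_insert k K ih a

theorem exists_subalgebra (E : Finset K) :
    ∃ A : Subalgebra k K, (↑E : Set K) ⊆ (A : Set K) ∧ ∃ n c : ℕ, c ≤ n ∧
      ∃ (φ : MvPolynomial (Fin n) k →ₐ[k] A) (r : Fin c → MvPolynomial (Fin n) k),
        Function.Surjective φ ∧ RingHom.ker φ.toRingHom = Ideal.span (Set.range r) ∧
          ringKrullDim A = ((n - c : ℕ) : WithBot ℕ∞) := by
  obtain ⟨A, _, _, _, ι, n, c, hι, hE, hc, ⟨φ, r, hs, hk⟩, hd⟩ := inv_finset k K E
  refine ⟨ι.range, ?_, n, c, hc, (AlgEquiv.ofInjective ι hι).toAlgHom.comp φ, r, ?_, ?_, ?_⟩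
  · intro x hx
    obtain ⟨a, ha⟩ := hE hx
    exact ⟨a, ha⟩
  · exact (AlgEquiv.ofInjective ι hι).surjective.comp hs
  · rw [← hk]
    ext x
    simp only [RingHom.mem_ker, AlgHom.toRingHom_eq_coe, RingHom.coe_coe, AlgHom.comp_apply]
    constructor
    · intro hx
      exact (AlgEquiv.ofInjective ι hι).injective (by rw [map_zero]; exact hx)
    · intro hx
      rw [hx, map_zero]
  · rw [← hd]
    exact (ringKrullDim_eq_of_ringEquiv (AlgEquiv.ofInjective ι hι).toRingEquiv).symm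

end Main

end GCIFieldH8
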