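import Mathlib
import Groth.Prelude
import Groth.Agent.Lib.GEx25_helper2
import Groth.Agent.Lib.AlgzExt2_helper2

/-!
# Extension of coherent formal modules and the adic completion of the base (helper2)

`A` Noetherian, `Â` its `I`-adic completion, `p : Spec Â ⟶ Spec A`, `U ⊆ Spec A` open, `U' = p⁻¹ U`.
A coherent formal module `(F_n)` on `U` extends to `Spec A` iff its pullback to `U'` is the completion of a
coherent module (`main9539`, S9539).

* `killedBy_of_map`, `isQuot_of_map`, `isCohFormal_of_map` : converse of `isCohFormal_map` (GEx08);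
* `isIso_snd_adic` : `Spec Â ×_A A/I^{n+1} ⟶ Spec A/I^{n+1}` is an isomorphism;
* `isIso_tMap_of_isPullback` : a base change of `p` is an isomorphism modulo every power of `I`;
* `resPullIso` : `(p^* M)|_{p⁻¹U} ≅ (p|_U)^* (M|_U)`;
* `nonempty_iso_of_whisker`.
APPEND-ONLY once landed.
-/

set_option autoImplicit false
set_option backward.isDefEq.respectTransparency false
set_option linter.style.haveILetI false
set_option linter.unusedSectionVars false
universe u
open CategoryTheory CategoryTheory.Limits AlgebraicGeometry TopologicalSpace Opposite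

namespace Groth.Agent.Lib.GExH2

open Formal Groth.Agent.Lib.FormalModPowH4 Groth.Agent.Lib.FormalFnH2 Groth.Agent.Lib.FibAmpH2
  Groth.Agent.Lib.FlatBCH2 Groth.Agent.Lib.FibVanH2 Groth.Agent.Lib.FormalQuotH2
  Groth.Agent.Lib.AdicSysH2 Groth.Agent.Lib.LimTruncH2 QcqsLoc Groth.Agent.Lib.FormalARH2
  Groth.Agent.Lib.ThickH2 Groth.Agent.Lib.AlgzExtH2

section BaseRingConv

variable {R R' : Type u} [CommRing R] [CommRing R'] (φ : R →+* R') {Z : Scheme.{u}}
  [Z.Over (Spec (CommRingCat.of R))] [Z.Over (Spec (CommRingCat.of R'))]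
  (hZ : (Z ↘ Spec (CommRingCat.of R)) =
    (Z ↘ Spec (CommRingCat.of R')) ≫ Spec.map (CommRingCat.ofHom φ))

include hZ in
theorem killedBy_of_map {I : Ideal R} {M : Z.Modules} (h : Formal.KilledBy (I.map φ) M) :
    Formal.KilledBy I M := by
  intro a ha
  rw [smulMod_map φ hZ]
  exact h _ (Ideal.mem_map_of_mem φ ha)

include hZ in
theorem isQuot_of_map {I : Ideal R} {M N : Z.Modules} {t : M ⟶ N} (h : IsQuot (I.map φ) t) :
    IsQuot I t := by
  refine ⟨fun a ha => ?_, h.2.1, fun Z' g hg => ?_⟩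
  · rw [smulMod_map φ hZ]
    exact h.1 _ (Ideal.mem_map_of_mem φ ha)
  · refine h.2.2 Z' g (fun b hb => ?_)
    have h1 : I.map φ ≤ annHom (R := R') g := by
      rw [Ideal.map_le_iff_le_comap]
      intro a ha
      rw [Ideal.mem_comap, mem_annHom, ← smulMod_map φ hZ]
      exact hg a ha
    exact (mem_annHom (R := R') g b).mp (h1 hb)

include hZ in
theorem isCohFormal_of_map {I : Ideal R} {G : ℕᵒᵖ ⥤ Z.Modules}
    (hG : Formal.IsCohFormal (I.map φ) G) : Formal.IsCohFormal I G := by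
  refine ⟨hG.1, fun n => ?_, fun n => ?_⟩
  · apply killedBy_of_map φ hZ
    rw [Ideal.map_pow]
    exact hG.2.1 n
  · have h1 : IsQuot ((I ^ (n + 1)).map φ) (tG G n) := by
      rw [Ideal.map_pow]
      exact isQuot_tG hG n
    exact (isQuot_of_map φ hZ h1).cond

end BaseRingConv

section Adic

open TensorProduct

variable (A : Type u) [CommRing A] [IsNoetherianRing A] (I : Ideal A)

theorem bijective_includeRight_adic (n : ℕ) :
    Function.Bijective (Algebra.TensorProduct.includeRight :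
      (A ⧸ I ^ (n + 1)) →ₐ[A] (AdicCompletion I A) ⊗[A] (A ⧸ I ^ (n + 1))) := by
  have hfg : I.FG := IsNoetherian.noetherian I
  have hk : ∀ a ∈ I ^ (n + 1), ∀ m : A ⧸ I ^ (n + 1), a • m = 0 := by
    intro a ha m
    obtain ⟨x, rfl⟩ := Ideal.Quotient.mk_surjective m
    rw [Algebra.smul_def, Ideal.Quotient.algebraMap_eq, ← map_mul,
      Ideal.Quotient.eq_zero_iff_mem]
    exact Ideal.mul_mem_right _ _ ha
  exact bijective_of_isBaseChange_of_tors (R := A) (R' := AdicCompletion I A) (I ^ (n + 1))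
    (adic_exists_sub_mem I hfg (n + 1)) (adic_mem_of_map_mem I hfg (n + 1)) hk
    (TensorProduct.mk A (AdicCompletion I A) (A ⧸ I ^ (n + 1)) 1)
    (TensorProduct.isBaseChange A (A ⧸ I ^ (n + 1)) (AdicCompletion I A))

theorem isIso_snd_adic (n : ℕ) :
    IsIso (pullback.snd (Spec.map (CommRingCat.ofHom (algebraMap A (AdicCompletion I A))))
      (CohB1.specQuot I n)) := by
  have h1 : IsIso (Spec.map (CommRingCat.ofHom (R := A ⧸ I ^ (n + 1))
      (S := (AdicCompletion I A) ⊗[A] (A ⧸ I ^ (n + 1)))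
      (RingHomClass.toRingHom (Algebra.TensorProduct.includeRight :
        (A ⧸ I ^ (n + 1)) →ₐ[A] (AdicCompletion I A) ⊗[A] (A ⧸ I ^ (n + 1)))))) :=
    isIso_SpecMap_iff.mpr (bijective_includeRight_adic A I n)
  have h2 := pullbackSpecIso_hom_snd A (AdicCompletion I A) (A ⧸ I ^ (n + 1))
  have h3 : pullback.snd (Spec.map (CommRingCat.ofHom (algebraMap A (AdicCompletion I A))))
      (CohB1.specQuot I n) =
      (pullbackSpecIso A (AdicCompletion I A) (A ⧸ I ^ (n + 1))).hom ≫
        Spec.map (CommRingCat.ofHom (R := A ⧸ I ^ (n + 1))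
          (S := (AdicCompletion I A) ⊗[A] (A ⧸ I ^ (n + 1)))
          (RingHomClass.toRingHom (Algebra.TensorProduct.includeRight :
            (A ⧸ I ^ (n + 1)) →ₐ[A] (AdicCompletion I A) ⊗[A] (A ⧸ I ^ (n + 1))))) := h2.symm
  rw [h3]
  infer_instance

/-- a base change of `Spec Â ⟶ Spec A` is an isomorphism modulo every power of `I` -/
theorem isIso_tMap_of_isPullback (n : ℕ) {X X' : Scheme.{u}} (g : X ⟶ Spec (CommRingCat.of A))
    (g' : X' ⟶ Spec (CommRingCat.of A))
    (g'' : X' ⟶ Spec (CommRingCat.of (AdicCompletion I A))) (f : X' ⟶ X) (hf : f ≫ g = g')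
    (sq : IsPullback f g'' g (Spec.map (CommRingCat.ofHom (algebraMap A (AdicCompletion I A))))) :
    IsIso (tMap I n g g' f hf) := by
  have P1 := isPullback_tMap I n g g' f hf
  have big : IsPullback (CohB1.thickι g' I n ≫ g'') (tMap I n g g' f hf)
      (Spec.map (CommRingCat.ofHom (algebraMap A (AdicCompletion I A))))
      (CohB1.thickι g I n ≫ g) := P1.paste_horiz sq.flip
  have R : IsPullback
      (pullback.fst (Spec.map (CommRingCat.ofHom (algebraMap A (AdicCompletion I A))))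
        (CohB1.specQuot I n))
      (pullback.snd (Spec.map (CommRingCat.ofHom (algebraMap A (AdicCompletion I A))))
        (CohB1.specQuot I n))
      (Spec.map (CommRingCat.ofHom (algebraMap A (AdicCompletion I A))))
      (CohB1.specQuot I n) := IsPullback.of_hasPullback _ _
  have w : (CohB1.thickι g' I n ≫ g'') ≫
      Spec.map (CommRingCat.ofHom (algebraMap A (AdicCompletion I A))) =
      (tMap I n g g' f hf ≫ CohB1.thickToBase g I n) ≫ CohB1.specQuot I n := by
    rw [big.w, Category.assoc, thickι_comp]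
  have s' : IsPullback (R.lift _ _ w ≫
      pullback.fst (Spec.map (CommRingCat.ofHom (algebraMap A (AdicCompletion I A))))
        (CohB1.specQuot I n)) (tMap I n g g' f hf)
      (Spec.map (CommRingCat.ofHom (algebraMap A (AdicCompletion I A))))
      (CohB1.thickToBase g I n ≫ CohB1.specQuot I n) := by
    rw [R.lift_fst, ← thickι_comp]
    exact big
  have key := IsPullback.of_right s' (R.lift_snd _ _ w) R
  haveI := isIso_snd_adic A I n
  exact key.isIso_snd_of_isIso

end Adic

section ResPull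

/-- `(p^* M)|_{p⁻¹ U} ≅ (p|_U)^* (M|_U)` -/
noncomputable def resPullIso {X Y : Scheme.{u}} (p : X ⟶ Y) (U : Y.Opens) :
    Scheme.Modules.pullback p ⋙ Scheme.Modules.restrictFunctor (p ⁻¹ᵁ U).ι ≅
      Scheme.Modules.restrictFunctor U.ι ⋙ Scheme.Modules.pullback (p ∣_ U) :=
  Functor.isoWhiskerLeft _ (Scheme.Modules.restrictFunctorIsoPullback (p ⁻¹ᵁ U).ι) ≪≫
    Scheme.Modules.pullbackComp (p ⁻¹ᵁ U).ι p ≪≫
    Scheme.Modules.pullbackCongr (morphismRestrict_ι p U).symm ≪≫
    (Scheme.Modules.pullbackComp (p ∣_ U) U.ι).symm ≪≫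
    (Functor.isoWhiskerRight (Scheme.Modules.restrictFunctorIsoPullback U.ι) _).symm

theorem nonempty_iso_of_whisker {C C' : Type*} [Category C] [Category C'] (F : C ⥤ C')
    {G₁ G₂ : ℕᵒᵖ ⥤ C}
    (h12 : Function.Bijective (fun φ : G₁ ⟶ G₂ => Functor.whiskerRight φ F))
    (h21 : Function.Bijective (fun φ : G₂ ⟶ G₁ => Functor.whiskerRight φ F))
    (h11 : Function.Injective (fun φ : G₁ ⟶ G₁ => Functor.whiskerRight φ F))
    (h22 : Function.Injective (fun φ : G₂ ⟶ G₂ => Functor.whiskerRight φ F))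
    (ε : G₁ ⋙ F ≅ G₂ ⋙ F) : Nonempty (G₁ ≅ G₂) := by
  obtain ⟨φ, hφ⟩ := h12.2 ε.hom
  obtain ⟨ψ, hψ⟩ := h21.2 ε.inv
  have hφ' : Functor.whiskerRight φ F = ε.hom := hφ
  have hψ' : Functor.whiskerRight ψ F = ε.inv := hψ
  refine ⟨⟨φ, ψ, h11 ?_, h22 ?_⟩⟩
  · show Functor.whiskerRight (φ ≫ ψ) F = Functor.whiskerRight (𝟙 G₁) F
    rw [Functor.whiskerRight_comp, hφ', hψ', ε.hom_inv_id, Functor.whiskerRight_id']
  · show Functor.whiskerRight (ψ ≫ φ) F = Functor.whiskerRight (𝟙 G₂) F
    rw [Functor.whiskerRight_comp, hφ', hψ', ε.inv_hom_id, Functor.whiskerRight_id']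

end ResPull

section Main9539

noncomputable local instance (priority := 10000) selfOver26 (R : Type u) [CommRing R] :
    (Spec (CommRingCat.of R)).Over (Spec (CommRingCat.of R)) := ⟨𝟙 _⟩

/-- **S9539**. -/
theorem main9539 (A : Type u) [CommRing A] [IsNoetherianRing A] (I : Ideal A)
    (U : (Spec (CommRingCat.of A)).Opens)
    (G : ℕᵒᵖ ⥤ (↑U : Scheme.{u}).Modules) (hG : Formal.IsCohFormal I G) :
    @Algz.Extends A _ (Spec (CommRingCat.of A)) ⟨𝟙 (Spec (CommRingCat.of A))⟩ I U G ↔
      ∃ F' : (↑(Spec.map (CommRingCat.ofHom (algebraMap A (AdicCompletion I A))) ⁻¹ᵁ U) :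
          Scheme.{u}).Modules, Coh.IsCoh F' ∧
        Nonempty (Formal.completion (I.map (algebraMap A (AdicCompletion I A))) F' ≅
          G ⋙ Scheme.Modules.pullback (morphismRestrict
            (Spec.map (CommRingCat.ofHom (algebraMap A (AdicCompletion I A)))) U)) := by
  have hfg : I.FG := IsNoetherian.noetherian I
  haveI : IsNoetherianRing (AdicCompletion I A) := Groth.Agent.S0543.result A I
  haveI : IsAdicComplete (I.map (algebraMap A (AdicCompletion I A))) (AdicCompletion I A) :=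
    AdicCompletion.isAdicComplete_self I hfg
  obtain ⟨p, hp⟩ : ∃ p : Spec (CommRingCat.of (AdicCompletion I A)) ⟶ Spec (CommRingCat.of A),
      p = Spec.map (CommRingCat.ofHom (algebraMap A (AdicCompletion I A))) := ⟨_, rfl⟩
  rw [← hp]
  letI oA : (Spec (CommRingCat.of (AdicCompletion I A))).Over (Spec (CommRingCat.of A)) := ⟨p⟩
  letI oU'A : (↑(p ⁻¹ᵁ U) : Scheme.{u}).Over (Spec (CommRingCat.of A)) := ⟨(p ∣_ U) ≫ U.ι⟩
  have hZ : (Spec (CommRingCat.of (AdicCompletion I A)) ↘ Spec (CommRingCat.of A)) =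
      (Spec (CommRingCat.of (AdicCompletion I A)) ↘
        Spec (CommRingCat.of (AdicCompletion I A))) ≫
        Spec.map (CommRingCat.ofHom (algebraMap A (AdicCompletion I A))) := by
    rw [← hp]
    exact (Category.id_comp p).symm
  have hpo : p ≫ (Spec (CommRingCat.of A) ↘ Spec (CommRingCat.of A)) =
      (Spec (CommRingCat.of (AdicCompletion I A)) ↘ Spec (CommRingCat.of A)) :=
    Category.comp_id p
  constructor
  · rintro ⟨G'', hG'', ⟨e⟩⟩
    have h1 : Formal.IsCohFormal I (G'' ⋙ Scheme.Modules.pullback p) :=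
      main0835 A I (Spec (CommRingCat.of (AdicCompletion I A))) (Spec (CommRingCat.of A)) p hpo
        G'' hG''
    have h2 : Formal.IsCohFormal (I.map (algebraMap A (AdicCompletion I A)))
        (G'' ⋙ Scheme.Modules.pullback p) :=
      isCohFormal_map (algebraMap A (AdicCompletion I A)) hZ h1
    have hext : @Algz.Extends (AdicCompletion I A) _ (Spec (CommRingCat.of (AdicCompletion I A)))
        ⟨𝟙 _⟩ (I.map (algebraMap A (AdicCompletion I A))) (p ⁻¹ᵁ U)
        (G ⋙ Scheme.Modules.pullback (p ∣_ U)) :=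
      ⟨G'' ⋙ Scheme.Modules.pullback p, h2,
        ⟨Functor.isoWhiskerLeft G'' (resPullIso p U) ≪≫
          Functor.isoWhiskerRight e (Scheme.Modules.pullback (p ∣_ U))⟩⟩
    exact main9535 (AdicCompletion I A) (I.map (algebraMap A (AdicCompletion I A))) (p ⁻¹ᵁ U)
      (G ⋙ Scheme.Modules.pullback (p ∣_ U)) hext
  · rintro ⟨F', hF', ⟨c⟩⟩
    obtain ⟨Gt, hGt, ⟨d⟩⟩ := main9536 (AdicCompletion I A)
      (I.map (algebraMap A (AdicCompletion I A))) (p ⁻¹ᵁ U)
      (G ⋙ Scheme.Modules.pullback (p ∣_ U)) F' hF' c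
    have hGt' : Formal.IsCohFormal I Gt :=
      isCohFormal_of_map (algebraMap A (AdicCompletion I A)) hZ hGt
    have sqp : IsPullback p (𝟙 (Spec (CommRingCat.of (AdicCompletion I A))))
        (𝟙 (Spec (CommRingCat.of A)))
        (Spec.map (CommRingCat.ofHom (algebraMap A (AdicCompletion I A)))) := by
      rw [← hp]
      exact IsPullback.of_vert_isIso ⟨by simp⟩
    have hiso : ∀ n, IsIso (tMap I n (Spec (CommRingCat.of A) ↘ Spec (CommRingCat.of A))
        (Spec (CommRingCat.of (AdicCompletion I A)) ↘ Spec (CommRingCat.of A)) p hpo) :=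
      fun n => isIso_tMap_of_isPullback A I n _ _ _ p hpo sqp
    obtain ⟨G'', hG'', ⟨a⟩⟩ := exists_system_pullback_iso I p hpo hiso Gt hGt'
    refine ⟨G'', hG'', ?_⟩
    have ε : Algz.restrictSys U G'' ⋙ Scheme.Modules.pullback (p ∣_ U) ≅
        G ⋙ Scheme.Modules.pullback (p ∣_ U) :=
      (Functor.isoWhiskerLeft G'' (resPullIso p U)).symm ≪≫
        Functor.isoWhiskerRight a (Scheme.Modules.restrictFunctor (p ⁻¹ᵁ U).ι) ≪≫ d
    have hr : (p ∣_ U) ≫ ((↑U : Scheme.{u}) ↘ Spec (CommRingCat.of A)) =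
        ((↑(p ⁻¹ᵁ U) : Scheme.{u}) ↘ Spec (CommRingCat.of A)) := rfl
    have sqr : IsPullback (p ∣_ U) (p ⁻¹ᵁ U).ι U.ι
        (Spec.map (CommRingCat.ofHom (algebraMap A (AdicCompletion I A)))) := by
      rw [← hp]
      exact isPullback_morphismRestrict p U
    have hiso' : ∀ n, IsIso (tMap I n ((↑U : Scheme.{u}) ↘ Spec (CommRingCat.of A))
        ((↑(p ⁻¹ᵁ U) : Scheme.{u}) ↘ Spec (CommRingCat.of A)) (p ∣_ U) hr) :=
      fun n => isIso_tMap_of_isPullback A I n _ _ _ (p ∣_ U) hr sqr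
    have hres := isCohFormal_restrictSys A I U G'' hG''
    have b12 := whiskerRight_pullback_bijective I (p ∣_ U) hr hiso' (Algz.restrictSys U G'') G hG
    have b21 := whiskerRight_pullback_bijective I (p ∣_ U) hr hiso' G (Algz.restrictSys U G'') hres
    have b11 := whiskerRight_pullback_bijective I (p ∣_ U) hr hiso' (Algz.restrictSys U G'')
      (Algz.restrictSys U G'') hres
    have b22 := whiskerRight_pullback_bijective I (p ∣_ U) hr hiso' G G hG
    exact nonempty_iso_of_whisker (Scheme.Modules.pullback (p ∣_ U)) b12 b21 b11.1 b22.1 ε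

end Main9539

end Groth.Agent.Lib.GExH2
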