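import Mathlib
import Groth.Prelude
import Groth.Agent.Lib.GEx26_helper2
import Groth.Agent.Lib.LimModCat_helper2
import Groth.Agent.Lib.FormalAR4_helper2

/-!
# Extension of coherent formal modules is insensitive to isogenies (helper2)

`A` Noetherian, `U ⊆ Spec A` open, `α : (F_n) ⟶ (F'_n)` a morphism of coherent formal modules on `U` with kernels
and cokernels killed by a fixed power of `I`.  Then `(F_n)` extends to `Spec A` iff `(F'_n)` does
(`main9537`, S9537).  Proof: by S9539 one may test on `U' = U ×_A Â`, where extending is being a completion, and there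
this is S0829 / S0851.

* `killedBy_of_mono`, `killedBy_of_epi`, `killedBy_kernel_iso_comp`, ... ;
* `killedBy_cokernel_pullback`, `killedBy_kernel_pullback` (flat pullback).
APPEND-ONLY once landed.
-/

set_option autoImplicit false
set_option backward.isDefEq.respectTransparency false
set_option linter.style.haveILetI false
set_option linter.unusedSectionVars false
universe u
open CategoryTheory CategoryTheory.Limits AlgebraicGeometry TopologicalSpace Opposite

namespace Groth.Agent.Lib.GExH2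

open Formal Groth.Agent.Lib.FormalModPowH4 Groth.Agent.Lib.FormalFnH2 Groth.Agent.Lib.FibAmpH2
  Groth.Agent.Lib.FlatBCH2 Groth.Agent.Lib.FibVanH2 Groth.Agent.Lib.FormalQuotH2
  Groth.Agent.Lib.AdicSysH2 Groth.Agent.Lib.LimTruncH2 QcqsLoc Groth.Agent.Lib.FormalARH2
  Groth.Agent.Lib.ThickH2 Groth.Agent.Lib.AlgzExtH2

section Killed

variable {A : Type u} [CommRing A] {X : Scheme.{u}} [X.Over (Spec (CommRingCat.of A))]
  {J : Ideal A}

theorem killedBy_of_mono {M N : X.Modules} (i : M ⟶ N) [Mono i] (hN : Formal.KilledBy J N) :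
    Formal.KilledBy J M := by
  intro a ha
  rw [← cancel_mono i, zero_comp, smulMod_naturality, hN a ha, comp_zero]

theorem killedBy_of_epi {M N : X.Modules} (p : M ⟶ N) [Epi p] (hM : Formal.KilledBy J M) :
    Formal.KilledBy J N := by
  intro a ha
  rw [← cancel_epi p, comp_zero, ← smulMod_naturality, hM a ha, zero_comp]

theorem killedBy_kernel_iso_comp {M' M N : X.Modules} (e : M' ⟶ M) [IsIso e] (a : M ⟶ N)
    (h : Formal.KilledBy J (kernel a)) : Formal.KilledBy J (kernel (e ≫ a)) := by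
  obtain ⟨l, hl⟩ : ∃ l : kernel (e ≫ a) ⟶ kernel a, l ≫ kernel.ι a = kernel.ι (e ≫ a) ≫ e :=
    ⟨kernel.lift a (kernel.ι (e ≫ a) ≫ e) (by rw [Category.assoc, kernel.condition]),
      kernel.lift_ι _ _ _⟩
  haveI : Mono l := mono_of_mono_fac hl
  exact killedBy_of_mono l h

theorem killedBy_cokernel_iso_comp {M' M N : X.Modules} (e : M' ⟶ M) [IsIso e] (a : M ⟶ N)
    (h : Formal.KilledBy J (cokernel a)) : Formal.KilledBy J (cokernel (e ≫ a)) := by
  obtain ⟨d, hd⟩ : ∃ d : cokernel a ⟶ cokernel (e ≫ a),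
      cokernel.π a ≫ d = cokernel.π (e ≫ a) :=
    ⟨cokernel.desc a (cokernel.π (e ≫ a))
      (by rw [← cancel_epi e, comp_zero, ← Category.assoc, cokernel.condition]),
      cokernel.π_desc _ _ _⟩
  haveI : Epi d := epi_of_epi_fac hd
  exact killedBy_of_epi d h

theorem killedBy_kernel_comp_iso {M N N' : X.Modules} (a : M ⟶ N) (e : N ⟶ N') [IsIso e]
    (h : Formal.KilledBy J (kernel a)) : Formal.KilledBy J (kernel (a ≫ e)) := by
  obtain ⟨l, hl⟩ : ∃ l : kernel (a ≫ e) ⟶ kernel a, l ≫ kernel.ι a = kernel.ι (a ≫ e) :=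
    ⟨kernel.lift a (kernel.ι (a ≫ e))
      (by rw [← cancel_mono e, zero_comp, Category.assoc, kernel.condition]),
      kernel.lift_ι _ _ _⟩
  haveI : Mono l := mono_of_mono_fac hl
  exact killedBy_of_mono l h

theorem killedBy_cokernel_comp_iso {M N N' : X.Modules} (a : M ⟶ N) (e : N ⟶ N') [IsIso e]
    (h : Formal.KilledBy J (cokernel a)) : Formal.KilledBy J (cokernel (a ≫ e)) := by
  obtain ⟨d, hd⟩ : ∃ d : cokernel a ⟶ cokernel (a ≫ e),
      cokernel.π a ≫ d = e ≫ cokernel.π (a ≫ e) :=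
    ⟨cokernel.desc a (e ≫ cokernel.π (a ≫ e))
      (by rw [← Category.assoc, cokernel.condition]),
      cokernel.π_desc _ _ _⟩
  haveI : Epi d := epi_of_epi_fac hd
  exact killedBy_of_epi d h

end Killed

section FlatPull

variable {A : Type u} [CommRing A] {X X' : Scheme.{u}} [X.Over (Spec (CommRingCat.of A))]
  [X'.Over (Spec (CommRingCat.of A))] (f : X' ⟶ X)
  (hf : f ≫ (X ↘ Spec (CommRingCat.of A)) = (X' ↘ Spec (CommRingCat.of A))) {J : Ideal A}

include hf in
theorem killedBy_cokernel_pullback {M N : X.Modules} (a : M ⟶ N)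
    (h : Formal.KilledBy J (cokernel a)) :
    Formal.KilledBy J (cokernel ((Scheme.Modules.pullback f).map a)) := by
  haveI : PreservesColimits (Scheme.Modules.pullback f) :=
    (Scheme.Modules.pullbackPushforwardAdjunction f).leftAdjoint_preservesColimits
  exact killedBy_of_epi (PreservesCokernel.iso (Scheme.Modules.pullback f) a).hom
    (killedBy_pullback f hf J _ h)

include hf in
theorem killedBy_kernel_pullback [Flat f] {M N : X.Modules} [M.IsQuasicoherent]
    [N.IsQuasicoherent] (a : M ⟶ N) (h : Formal.KilledBy J (kernel a)) :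
    Formal.KilledBy J (kernel ((Scheme.Modules.pullback f).map a)) := by
  haveI : (kernel a).IsQuasicoherent := SubExt.isQuasicoherent_kernel a
  obtain ⟨S, hSdef⟩ : ∃ S : ShortComplex X.Modules,
      S = ShortComplex.mk (kernel.ι a) a (kernel.condition a) := ⟨_, rfl⟩
  haveI : S.X₁.IsQuasicoherent := by rw [hSdef]; exact ‹(kernel a).IsQuasicoherent›
  haveI : S.X₂.IsQuasicoherent := by rw [hSdef]; exact ‹M.IsQuasicoherent›
  haveI : S.X₃.IsQuasicoherent := by rw [hSdef]; exact ‹N.IsQuasicoherent›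
  have hS : S.Exact := by rw [hSdef]; exact ShortComplex.exact_kernel a
  have h1 := Groth.Agent.Lib.LimMod.exact_map_pullback_of_flat f S hS
  subst hSdef
  haveI : Mono ((Scheme.Modules.pullback f).map (kernel.ι a)) :=
    DescH8.mono_pullback_of_flat (kernel.ι a) f
  haveI : Mono ((ShortComplex.mk (kernel.ι a) a (kernel.condition a)).map
      (Scheme.Modules.pullback f)).f := ‹Mono ((Scheme.Modules.pullback f).map (kernel.ι a))›
  obtain ⟨l, hl⟩ : ∃ l : kernel ((Scheme.Modules.pullback f).map a) ⟶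
      (Scheme.Modules.pullback f).obj (kernel a),
      l ≫ (Scheme.Modules.pullback f).map (kernel.ι a) =
        kernel.ι ((Scheme.Modules.pullback f).map a) :=
    ⟨h1.lift (kernel.ι ((Scheme.Modules.pullback f).map a)) (kernel.condition _),
      h1.lift_f _ _⟩
  haveI : Mono l := mono_of_mono_fac hl
  exact killedBy_of_mono l (killedBy_pullback f hf J _ h)

end FlatPull

section Main9537

noncomputable local instance (priority := 10000) selfOver27 (R : Type u) [CommRing R] :
    (Spec (CommRingCat.of R)).Over (Spec (CommRingCat.of R)) := ⟨𝟙 _⟩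

/-- the morphism `Spec Â ⟶ Spec A` -/
noncomputable abbrev adicP (A : Type u) [CommRing A] (I : Ideal A) :
    Spec (CommRingCat.of (AdicCompletion I A)) ⟶ Spec (CommRingCat.of A) :=
  Spec.map (CommRingCat.ofHom (algebraMap A (AdicCompletion I A)))

/-- **S9537**. -/
theorem main9537 (A : Type u) [CommRing A] [IsNoetherianRing A] (I : Ideal A)
    (U : (Spec (CommRingCat.of A)).Opens)
    (G G' : ℕᵒᵖ ⥤ (↑U : Scheme.{u}).Modules) (hG : Formal.IsCohFormal I G)
    (hG' : Formal.IsCohFormal I G') (α : G ⟶ G') (hα : Formal2.KerCokerKilledByIPow I α) :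
    @Algz.Extends A _ (Spec (CommRingCat.of A)) ⟨𝟙 (Spec (CommRingCat.of A))⟩ I U G ↔
      @Algz.Extends A _ (Spec (CommRingCat.of A)) ⟨𝟙 (Spec (CommRingCat.of A))⟩ I U G' := by
  have hfg : I.FG := IsNoetherian.noetherian I
  haveI : IsNoetherianRing (AdicCompletion I A) := Groth.Agent.S0543.result A I
  haveI : Flat (adicP A I) := by
    rw [Flat.SpecMap_iff]
    exact RingHom.flat_algebraMap_iff.mpr inferInstance
  letI oU'A : (↑(adicP A I ⁻¹ᵁ U) : Scheme.{u}).Over (Spec (CommRingCat.of A)) :=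
    ⟨(adicP A I ∣_ U) ≫ U.ι⟩
  have hr : (adicP A I ∣_ U) ≫ ((↑U : Scheme.{u}) ↘ Spec (CommRingCat.of A)) =
      ((↑(adicP A I ⁻¹ᵁ U) : Scheme.{u}) ↘ Spec (CommRingCat.of A)) := rfl
  have hZ' : ((↑(adicP A I ⁻¹ᵁ U) : Scheme.{u}) ↘ Spec (CommRingCat.of A)) =
      ((↑(adicP A I ⁻¹ᵁ U) : Scheme.{u}) ↘ Spec (CommRingCat.of (AdicCompletion I A))) ≫
        Spec.map (CommRingCat.ofHom (algebraMap A (AdicCompletion I A))) :=
    morphismRestrict_ι (adicP A I) U
  haveI : CompactSpace ↥(↑(adicP A I ⁻¹ᵁ U) : Scheme.{u}) :=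
    isCompact_iff_compactSpace.mp (NoetherianSpace.isCompact _)
  haveI : AlgebraicGeometry.IsNoetherian (↑(adicP A I ⁻¹ᵁ U) : Scheme.{u}) :=
    { toIsLocallyNoetherian := inferInstance
      toCompactSpace := inferInstance }
  -- pullback of coherent formal modules to `U'`
  have hpull : ∀ (H : ℕᵒᵖ ⥤ (↑U : Scheme.{u}).Modules), Formal.IsCohFormal I H →
      Formal.IsCohFormal (I.map (algebraMap A (AdicCompletion I A)))
        (H ⋙ Scheme.Modules.pullback (adicP A I ∣_ U)) := fun H hH =>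
    isCohFormal_map (algebraMap A (AdicCompletion I A)) hZ'
      (main0835 A I _ _ (adicP A I ∣_ U) hr H hH)
  -- the pulled back isogeny
  obtain ⟨t, ht⟩ := hα
  have hα' : ∀ n : ℕ,
      Formal.KilledBy ((I.map (algebraMap A (AdicCompletion I A))) ^ (t + 1))
        (kernel ((Scheme.Modules.pullback (adicP A I ∣_ U)).map (α.app (op n)))) ∧
      Formal.KilledBy ((I.map (algebraMap A (AdicCompletion I A))) ^ (t + 1))
        (cokernel ((Scheme.Modules.pullback (adicP A I ∣_ U)).map (α.app (op n)))) := by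
    intro n
    haveI := (hG.1 n).1
    haveI := (hG'.1 n).1
    rw [← Ideal.map_pow]
    exact ⟨killedBy_map (algebraMap A (AdicCompletion I A)) hZ'
        (killedBy_kernel_pullback (adicP A I ∣_ U) hr (α.app (op n)) (ht n).1),
      killedBy_map (algebraMap A (AdicCompletion I A)) hZ'
        (killedBy_cokernel_pullback (adicP A I ∣_ U) hr (α.app (op n)) (ht n).2)⟩
  constructor
  · intro h
    obtain ⟨F', hF', ⟨c⟩⟩ := (main9539 A I U G hG).mp h
    have hβ : Formal2.KerCokerKilledByIPow (I.map (algebraMap A (AdicCompletion I A)))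
        (c.hom ≫ Functor.whiskerRight α (Scheme.Modules.pullback (adicP A I ∣_ U))) :=
      ⟨t, fun n => ⟨killedBy_kernel_iso_comp (c.hom.app (op n)) _ (hα' n).1,
        killedBy_cokernel_iso_comp (c.hom.app (op n)) _ (hα' n).2⟩⟩
    obtain ⟨F1, -, β', hF1, -, -⟩ := main0851 (AdicCompletion I A)
      (I.map (algebraMap A (AdicCompletion I A))) _ F' hF' _ (hpull G' hG') _ hβ
    exact (main9539 A I U G' hG').mpr ⟨F1, hF1, ⟨β'⟩⟩
  · intro h
    obtain ⟨F', hF', ⟨c⟩⟩ := (main9539 A I U G' hG').mp h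
    have hβ : Formal2.KerCokerKilledByIPow (I.map (algebraMap A (AdicCompletion I A)))
        (Functor.whiskerRight α (Scheme.Modules.pullback (adicP A I ∣_ U)) ≫ c.inv) :=
      ⟨t, fun n => ⟨killedBy_kernel_comp_iso _ (c.inv.app (op n)) (hα' n).1,
        killedBy_cokernel_comp_iso _ (c.inv.app (op n)) (hα' n).2⟩⟩
    obtain ⟨F1, -, β', hF1, -, -⟩ := Groth.Agent.Lib.FormalARH2.main0829 (AdicCompletion I A)
      (I.map (algebraMap A (AdicCompletion I A))) _ F' hF' _ (hpull G hG) _ hβ
    exact (main9539 A I U G hG).mpr ⟨F1, hF1, ⟨β'.symm⟩⟩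

end Main9537

end Groth.Agent.Lib.GExH2
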