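import Mathlib
import Groth.Prelude
import Groth.Agent.Lib.GEx27_helper2
import Groth.Agent.Lib.QBC5_helper8

/-!
# Canonical extension and flat base change (helper2)

`A` Noetherian, `U ⊆ Spec A` open, `A ⟶ A'` flat, `f : Spec A' ⟶ Spec A`, `U' = f⁻¹ U`.  If `(F_n)` canonically extends
to `Spec A`, then `(f|_U)^* F_n` canonically extends to `Spec A'` (`main9538`, S9538).  Proof: flat base change
`f^* j_* F_n ≅ j'_* (f|_U)^* F_n` (helper8's `QBCH8.qbc_isIso`), naturally in `n`.

* `bcFlat_naturality`, `bc_naturality` : naturality of the base change map in the module;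
* `secCounit'`, `isIso_secCounit'` : `(H⁰(U, G_n))~ ≅ j_* G_n` for `j` quasi-compact (no Noetherian hypothesis);
* `sectSysPullIso` : `(H⁰(U, G_n))~ pulled back ≅ (H⁰(U', (f|_U)^* G_n))~`.
APPEND-ONLY once landed.
-/

set_option autoImplicit false
set_option backward.isDefEq.respectTransparency false
set_option linter.style.haveILetI false
set_option linter.unusedSectionVars false
universe u
open CategoryTheory CategoryTheory.Limits AlgebraicGeometry TopologicalSpace Opposite

namespace Groth.Agent.Lib.GExH2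

open Formal Groth.Agent.Lib.FormalModPowH4 Groth.Agent.Lib.FormalFnH2 Groth.Agent.Lib.FibAmpH2
  Groth.Agent.Lib.FlatBCH2 Groth.Agent.Lib.FibVanH2 Groth.Agent.Lib.FormalQuotH2
  Groth.Agent.Lib.AdicSysH2 Groth.Agent.Lib.LimTruncH2 QcqsLoc Groth.Agent.Lib.FormalARH2
  Groth.Agent.Lib.ThickH2 Groth.Agent.Lib.AlgzExtH2

section BCNat

variable {X S X' S' : Scheme.{u}} {f : X ⟶ S} {g : S' ⟶ S} {g' : X' ⟶ X} {f' : X' ⟶ S'}
  (hc : IsPullback g' f' f g)

theorem bcFlat_naturality {M N : X.Modules} (a : M ⟶ N) :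
    (Scheme.Modules.pushforward f).map a ≫ AffBCH8.bcFlat hc N =
      AffBCH8.bcFlat hc M ≫ (Scheme.Modules.pushforward g).map
        ((Scheme.Modules.pushforward f').map ((Scheme.Modules.pullback g').map a)) := by
  unfold AffBCH8.bcFlat
  have h1 : a ≫ (Scheme.Modules.pullbackPushforwardAdjunction g').unit.app N =
      (Scheme.Modules.pullbackPushforwardAdjunction g').unit.app M ≫
        (Scheme.Modules.pushforward g').map ((Scheme.Modules.pullback g').map a) :=
    (Scheme.Modules.pullbackPushforwardAdjunction g').unit.naturality a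
  have h2 := (Scheme.Modules.pushforwardComp g' f).hom.naturality ((Scheme.Modules.pullback g').map a)
  have h3 := (Scheme.Modules.pushforwardCongr hc.w).hom.naturality
    ((Scheme.Modules.pullback g').map a)
  have h4 := (Scheme.Modules.pushforwardComp f' g).inv.naturality
    ((Scheme.Modules.pullback g').map a)
  simp only [Functor.comp_map] at h2 h4
  rw [← Functor.map_comp_assoc, h1, Functor.map_comp_assoc]
  simp only [Category.assoc]
  rw [reassoc_of% h2, reassoc_of% h3, h4]

theorem bc_naturality {M N : X.Modules} (a : M ⟶ N) :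
    (Scheme.Modules.pullback g).map ((Scheme.Modules.pushforward f).map a) ≫ AffBCH8.bc hc N =
      AffBCH8.bc hc M ≫ (Scheme.Modules.pushforward f').map ((Scheme.Modules.pullback g').map a) := by
  unfold AffBCH8.bc
  rw [← Adjunction.homEquiv_naturality_left_symm, ← Adjunction.homEquiv_naturality_right_symm,
    bcFlat_naturality]

/-- flat base change, as a natural isomorphism on a system of quasi-coherent modules -/
noncomputable def bcSysIso [QuasiCompact f] [QuasiSeparated f] [Flat g]
    (G : ℕᵒᵖ ⥤ X.Modules) (hG : ∀ n, (G.obj (op n)).IsQuasicoherent) :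
    (G ⋙ Scheme.Modules.pushforward f) ⋙ Scheme.Modules.pullback g ≅
      (G ⋙ Scheme.Modules.pullback g') ⋙ Scheme.Modules.pushforward f' :=
  NatIso.ofComponents
    (fun k =>
      haveI : (G.obj k).IsQuasicoherent := by
        obtain ⟨n⟩ := k
        exact hG n
      haveI := QBCH8.qbc_isIso hc (G.obj k)
      asIso (AffBCH8.bc hc (G.obj k)))
    (fun {k l} a => by
      dsimp only [asIso_hom, Functor.comp_map]
      exact bc_naturality hc (G.map a))

end BCNat

section SecCounit

variable (B : Type u) [CommRing B] (V : (Spec (CommRingCat.of B)).Opens)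

/-- the counit `(H⁰(V, H_n))~ ⟶ j_* H_n` (no Noetherian hypothesis) -/
noncomputable def secCounit' (H : ℕᵒᵖ ⥤ (↑V : Scheme.{u}).Modules) :
    Algz.sectSys B V H ⟶ H ⋙ Scheme.Modules.pushforward V.ι :=
  Functor.whiskerLeft (H ⋙ Scheme.Modules.pushforward V.ι)
    (Scheme.Modules.fromTildeΓNatTrans (R := CommRingCat.of B))

theorem isIso_counit_app' (M : (Spec (CommRingCat.of B)).Modules) [M.IsQuasicoherent] :
    IsIso ((Scheme.Modules.fromTildeΓNatTrans (R := CommRingCat.of B)).app M) := by
  show IsIso (Scheme.Modules.fromTildeΓ (R := CommRingCat.of B) M)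
  exact Scheme.Modules.isIso_fromTildeΓ_of_isQuasicoherent (R := CommRingCat.of B) M

theorem isIso_secCounit' [QuasiCompact V.ι] (H : ℕᵒᵖ ⥤ (↑V : Scheme.{u}).Modules)
    (hH : ∀ n, (H.obj (op n)).IsQuasicoherent) : IsIso (secCounit' B V H) := by
  haveI : ∀ x : ℕᵒᵖ, IsIso ((secCounit' B V H).app x) := by
    intro x
    obtain ⟨n⟩ := x
    haveI := hH n
    haveI : ((Scheme.Modules.pushforward V.ι).obj (H.obj (op n))).IsQuasicoherent :=
      QcqsLoc.isQuasicoherent_pushforward_qcqs V.ι _
    exact isIso_counit_app' B ((Scheme.Modules.pushforward V.ι).obj (H.obj (op n)))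
  exact NatIso.isIso_of_isIso_app _

end SecCounit

section Main9538

noncomputable local instance (priority := 10000) selfOver28 (R : Type u) [CommRing R] :
    (Spec (CommRingCat.of R)).Over (Spec (CommRingCat.of R)) := ⟨𝟙 _⟩

/-- `(H⁰(U, G_n))~` pulled back along a flat `f` is `(H⁰(f⁻¹U, (f|_U)^* G_n))~`. -/
theorem nonempty_sectSysPullIso (A : Type u) [CommRing A] (A' : Type u) [CommRing A']
    (f : Spec (CommRingCat.of A') ⟶ Spec (CommRingCat.of A)) [Flat f]
    (U : (Spec (CommRingCat.of A)).Opens) [QuasiCompact U.ι]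
    (G : ℕᵒᵖ ⥤ (↑U : Scheme.{u}).Modules) (hG : ∀ n, (G.obj (op n)).IsQuasicoherent) :
    Nonempty (Algz.sectSys A U G ⋙ Scheme.Modules.pullback f ≅
      Algz.sectSys A' (f ⁻¹ᵁ U) (G ⋙ Scheme.Modules.pullback (f ∣_ U))) := by
  have hc : IsPullback (f ∣_ U) (f ⁻¹ᵁ U).ι U.ι f := isPullback_morphismRestrict f U
  haveI : QuasiCompact (f ⁻¹ᵁ U).ι :=
    MorphismProperty.of_isPullback (P := @QuasiCompact) hc inferInstance
  haveI := isIso_secCounit' A U G hG
  have hG' : ∀ n, ((G ⋙ Scheme.Modules.pullback (f ∣_ U)).obj (op n)).IsQuasicoherent := by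
    intro n
    haveI := hG n
    exact PBH8.isQuasicoherent_pullback (f ∣_ U) (G.obj (op n))
  haveI := isIso_secCounit' A' (f ⁻¹ᵁ U) (G ⋙ Scheme.Modules.pullback (f ∣_ U)) hG'
  exact ⟨Functor.isoWhiskerRight (asIso (secCounit' A U G)) (Scheme.Modules.pullback f) ≪≫
    bcSysIso hc G hG ≪≫
    (asIso (secCounit' A' (f ⁻¹ᵁ U) (G ⋙ Scheme.Modules.pullback (f ∣_ U)))).symm⟩

/-- **S9538** (for any open `U` of `Spec A`). -/
theorem main9538 (A : Type u) [CommRing A] [IsNoetherianRing A] (I : Ideal A)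
    (U : (Spec (CommRingCat.of A)).Opens)
    (G : ℕᵒᵖ ⥤ (↑U : Scheme.{u}).Modules) (hG : Formal.IsCohFormal I G)
    (A' : Type u) [CommRing A'] [Algebra A A'] [Module.Flat A A']
    (h : Algz.CanonicallyExtends A I U G) :
    Algz.CanonicallyExtends A' (I.map (algebraMap A A'))
      (Spec.map (CommRingCat.ofHom (algebraMap A A')) ⁻¹ᵁ U)
      (G ⋙ Scheme.Modules.pullback
        (morphismRestrict (Spec.map (CommRingCat.ofHom (algebraMap A A'))) U)) := by
  haveI : Flat (Spec.map (CommRingCat.ofHom (algebraMap A A'))) := by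
    rw [Flat.SpecMap_iff]
    exact RingHom.flat_algebraMap_iff.mpr inferInstance
  haveI : QuasiCompact U.ι := SubExt.quasiCompact_ι_of_locNoeth (hXSpec A) U
  obtain ⟨p, hp⟩ : ∃ p : Spec (CommRingCat.of A') ⟶ Spec (CommRingCat.of A),
      p = Spec.map (CommRingCat.ofHom (algebraMap A A')) := ⟨_, rfl⟩
  rw [← hp]
  haveI : Flat p := by rw [hp]; infer_instance
  letI oA : (Spec (CommRingCat.of A')).Over (Spec (CommRingCat.of A)) := ⟨p⟩
  have hZ : (Spec (CommRingCat.of A') ↘ Spec (CommRingCat.of A)) =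
      (Spec (CommRingCat.of A') ↘ Spec (CommRingCat.of A')) ≫
        Spec.map (CommRingCat.ofHom (algebraMap A A')) := by
    rw [← hp]
    exact (Category.id_comp p).symm
  have hpo : p ≫ (Spec (CommRingCat.of A) ↘ Spec (CommRingCat.of A)) =
      (Spec (CommRingCat.of A') ↘ Spec (CommRingCat.of A)) :=
    Category.comp_id p
  obtain ⟨G'', hG'', hpro⟩ := h
  have h1 : Formal.IsCohFormal I (G'' ⋙ Scheme.Modules.pullback p) :=
    main0835 A I (Spec (CommRingCat.of A')) (Spec (CommRingCat.of A)) p hpo G'' hG''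
  have h2 : Formal.IsCohFormal (I.map (algebraMap A A')) (G'' ⋙ Scheme.Modules.pullback p) :=
    isCohFormal_map (algebraMap A A') hZ h1
  refine ⟨G'' ⋙ Scheme.Modules.pullback p, h2, ?_⟩
  obtain ⟨η⟩ := nonempty_sectSysPullIso A A' p U G (fun n => (hG.1 n).1)
  exact isProIsomorphic_of_iso_left η (isProIsomorphic_whiskerRight hpro (Scheme.Modules.pullback p))

end Main9538

end Groth.Agent.Lib.GExH2
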