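import Mathlib
import Groth.Prelude
import Groth.Agent.Lib.ExtTowerSh_helper7
import Groth.Agent.Lib.CechAffine_helper2
import Groth.Agent.Lib.LimTrunc1_helper2

/-!
# The limit of a tower of quasi-coherent modules: Milnor sequence and affine acyclicity (helper2)

`Y` a scheme, `(H_n)` a tower of quasi-coherent `O_Y`-modules whose transition maps are surjective on sections over
affine opens.  helper7's abstract Milnor sequence (`ExtTower_helper7.milnor`), applied to abelian sheaves with the free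
sheaves on affine opens as test objects, gives (`milnorHH`):
* every compatible family in `H^i(Y, H_n)` lifts to `H^i(Y, lim H_n)`;
* the kernel of `H^{j+1}(Y, lim H_n) → ∏ H^{j+1}(Y, H_n)` is `R^1 lim H^j(Y, H_n)`.
Consequences: `main0827` (S0827) and `main0826` (S0826).
APPEND-ONLY once landed.
-/

set_option autoImplicit false
set_option backward.isDefEq.respectTransparency false
set_option linter.style.haveILetI false
set_option linter.unusedSectionVars false
universe u
open CategoryTheory CategoryTheory.Limits AlgebraicGeometry TopologicalSpace Opposite Abelian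

namespace Groth.Agent.Lib.LimMilnorH2

open Groth.Agent.Lib.ExtTower_helper7 Groth.Agent.Lib.ExtTowerSh_helper7
  Groth.Agent.Lib.FlasqueTower_helper7 Groth.Agent.Lib.LimTruncH2 Groth.Agent.Lib.AdicSysH2

section Abstract

variable {𝒜 : Type*} [Category 𝒜] [Abelian 𝒜] [HasExt.{u} 𝒜]

/-- `Ext` groups into isomorphic objects. -/
noncomputable def extIsoEquiv (A : 𝒜) {B B' : 𝒜} (θ : B ≅ B') (i : ℕ) :
    Ext.{u} A B i ≃+ Ext.{u} A B' i where
  toFun x := x.comp (Ext.mk₀ θ.hom) (add_zero i)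
  invFun y := y.comp (Ext.mk₀ θ.inv) (add_zero i)
  left_inv x := by
    dsimp only
    rw [Ext.comp_assoc_of_third_deg_zero, Ext.mk₀_comp_mk₀, θ.hom_inv_id, Ext.comp_mk₀_id]
  right_inv y := by
    dsimp only
    rw [Ext.comp_assoc_of_third_deg_zero, Ext.mk₀_comp_mk₀, θ.inv_hom_id, Ext.comp_mk₀_id]
  map_add' x y := by
    rw [Ext.add_comp]

theorem extIsoEquiv_apply (A : 𝒜) {B B' : 𝒜} (θ : B ≅ B') (i : ℕ) (x : Ext.{u} A B i) :
    extIsoEquiv A θ i x = x.comp (Ext.mk₀ θ.hom) (add_zero i) := rfl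

/-- a surjective tower of abelian groups has vanishing `R^1 lim` -/
theorem subsingleton_limOne_of_surjective (G : ℕ → Type u) [∀ n, AddCommGroup (G n)]
    (t : ∀ n, G (n + 1) →+ G n) (ht : ∀ n, Function.Surjective (t n)) :
    Subsingleton (Formal2.limOne G t) := by
  have hsurj : Function.Surjective (Formal2.towerDiff G t) := by
    intro y
    obtain ⟨x, -, hx⟩ := exists_seq (α := G) (fun _ _ => True)
      (fun n a b => a - t n b = y n) ⟨0, trivial⟩
      (fun n a _ => by
        obtain ⟨b, hb⟩ := ht n (a - y n)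
        exact ⟨b, trivial, by rw [hb, sub_sub_cancel]⟩)
    exact ⟨x, funext hx⟩
  have htop : (Formal2.towerDiff G t).range = ⊤ := AddMonoidHom.range_eq_top.mpr hsurj
  refine ⟨fun a b => ?_⟩
  obtain ⟨a', rfl⟩ := QuotientAddGroup.mk_surjective a
  obtain ⟨b', rfl⟩ := QuotientAddGroup.mk_surjective b
  rw [QuotientAddGroup.eq, htop]
  exact AddSubgroup.mem_top _

end Abstract

section Tower

variable {Y : Scheme.{u}} (H : ℕᵒᵖ ⥤ Y.Modules)

/-- the forgetful functor to abelian sheaves -/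
noncomputable abbrev tA (Y : Scheme.{u}) : Y.Modules ⥤ CohTop.Ab Y.toTopCat :=
  SheafOfModules.toSheaf.{u} Y.ringCatSheaf

instance preservesLimitsOfShape_tA : PreservesLimitsOfShape ℕᵒᵖ (tA Y) := by
  have h1 : PreservesLimitsOfShape ℕᵒᵖ (tA Y ⋙ sheafToPresheaf _ _) :=
    comp_preservesLimitsOfShape (SheafOfModules.forget Y.ringCatSheaf)
      (PresheafOfModules.toPresheaf Y.ringCatSheaf.obj)
  exact preservesLimitsOfShape_of_reflects_of_preserves _ (sheafToPresheaf _ _)

/-- the constant sheaf `ℤ` -/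
noncomputable abbrev KY (Y : Scheme.{u}) : CohTop.Ab Y.toTopCat := Groth.Agent.Lib.Cech.KK Y.toTopCat

/-- helper7's Milnor sequence for the tower of underlying abelian sheaves -/
theorem milnorAb (hq : ∀ n, (H.obj (op n)).IsQuasicoherent)
    (hs : ∀ (n : ℕ) (V : Y.Opens), IsAffineOpen V →
      Function.Surjective ((H.map (homOfLE (Nat.le_succ n)).op).app V))
    (A : CohTop.Ab Y.toTopCat) (i j : ℕ) (hij : j + 1 = i) :
    (∀ ξ : ∀ n : ℕ, Ext.{u} A ((H ⋙ tA Y).obj (op n)) i,
      (∀ n, (ξ (n + 1)).comp (Ext.mk₀ (tr (H ⋙ tA Y) n)) (add_zero i) = ξ n) →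
        ∃ η : Ext.{u} A (limit (H ⋙ tA Y)) i,
          ∀ n, η.comp (Ext.mk₀ (limit.π (H ⋙ tA Y) (op n))) (add_zero i) = ξ n) ∧
    Nonempty ((AddMonoidHom.pi fun n : ℕ =>
        (Ext.mk₀ (limit.π (H ⋙ tA Y) (op n))).postcomp A (add_zero i)).ker ≃+
      Formal2.limOne (fun n : ℕ => Ext.{u} A ((H ⋙ tA Y).obj (op n)) j)
        (fun n : ℕ => (Ext.mk₀ (tr (H ⋙ tA Y) n)).postcomp A (add_zero j))) :=
  milnor (H ⋙ tA Y) (fun k : {V : Opens Y.toTopCat // V ∈ Y.affineOpens} => Z k.1)
    (gen_basis _ Y.isBasis_affineOpens)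
    (fun n k m x => by
      haveI := hq n
      exact Groth.Agent.Lib.Cech.ext_fr_eq_zero_of_isAffineOpen (H.obj (op n)) k.1 k.2 m x)
    (fun k n a => lift_of_surj (tr (H ⋙ tA Y) n) (fun y => by
      obtain ⟨x, hx⟩ := hs n k.1 k.2 y
      exact ⟨x, hx⟩) a) A i j hij

/-- the comparison `(lim H_n)^ab ≅ lim (H_n^ab)` -/
noncomputable def limIso : (tA Y).obj (limit H) ≅ limit (H ⋙ tA Y) := preservesLimitIso (tA Y) H

theorem limIso_hom_π (n : ℕ) :
    (limIso H).hom ≫ limit.π (H ⋙ tA Y) (op n) = (tA Y).map (limit.π H (op n)) :=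
  preservesLimitIso_hom_π (tA Y) H (op n)

theorem limIso_inv_π (n : ℕ) :
    (limIso H).inv ≫ (tA Y).map (limit.π H (op n)) = limit.π (H ⋙ tA Y) (op n) :=
  preservesLimitIso_inv_π (tA Y) H (op n)

/-- the map `H^i(Y, lim H_n) → ∏ H^i(Y, H_n)` -/
noncomputable def toProd (i : ℕ) : Coh.HH Y (limit H) i →+ ∀ n : ℕ, Coh.HH Y (H.obj (op n)) i :=
  AddMonoidHom.pi fun n : ℕ => Sheaf.H.map ((tA Y).map (limit.π H (op n))) i

theorem toProd_apply (i : ℕ) (x : Coh.HH Y (limit H) i) (n : ℕ) :
    toProd H i x n = Sheaf.H.map ((tA Y).map (limit.π H (op n))) i x := rfl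

theorem toProd_compat (i : ℕ) (x : Coh.HH Y (limit H) i) (n : ℕ) :
    Formal2.HHsysMap H i n (toProd H i x (n + 1)) = toProd H i x n := by
  rw [toProd_apply, toProd_apply]
  show Sheaf.H.map ((tA Y).map (H.map (homOfLE (Nat.le_succ n)).op)) i
    (Sheaf.H.map ((tA Y).map (limit.π H (op (n + 1)))) i x) = _
  rw [← Sheaf.H.map_comp_apply, ← Functor.map_comp, limit.w]

/-- **Milnor sequence** for the cohomology of the limit of a tower of quasi-coherent modules with transition maps
surjective over affine opens. -/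
theorem milnorHH (hq : ∀ n, (H.obj (op n)).IsQuasicoherent)
    (hs : ∀ (n : ℕ) (V : Y.Opens), IsAffineOpen V →
      Function.Surjective ((H.map (homOfLE (Nat.le_succ n)).op).app V))
    (i j : ℕ) (hij : j + 1 = i) :
    (∀ ξ : ∀ n : ℕ, Coh.HH Y (H.obj (op n)) i,
      (∀ n, Formal2.HHsysMap H i n (ξ (n + 1)) = ξ n) →
        ∃ η : Coh.HH Y (limit H) i, toProd H i η = ξ) ∧
    Nonempty ((toProd H i).ker ≃+
      Formal2.limOne (fun n : ℕ => Coh.HH Y (H.obj (op n)) j) (Formal2.HHsysMap H j)) := by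
  obtain ⟨h1, ⟨e⟩⟩ := milnorAb H hq hs (KY Y) i j hij
  have key : ∀ (x : Coh.HH Y (limit H) i) (n : ℕ),
      (extIsoEquiv (KY Y) (limIso H) i x).comp
        (Ext.mk₀ (limit.π (H ⋙ tA Y) (op n))) (add_zero i) = toProd H i x n := by
    intro x n
    rw [extIsoEquiv_apply, Ext.comp_assoc_of_third_deg_zero, Ext.mk₀_comp_mk₀, limIso_hom_π]
    rfl
  constructor
  · intro ξ hξ
    obtain ⟨η, hη⟩ := h1 ξ hξ
    refine ⟨(extIsoEquiv (KY Y) (limIso H) i).symm η, funext fun n => ?_⟩
    rw [← key, AddEquiv.apply_symm_apply]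
    exact hη n
  · have hmem : ∀ x : Coh.HH Y (limit H) i, x ∈ (toProd H i).ker ↔
        extIsoEquiv (KY Y) (limIso H) i x ∈ (AddMonoidHom.pi fun n : ℕ =>
          (Ext.mk₀ (limit.π (H ⋙ tA Y) (op n))).postcomp (KY Y) (add_zero i)).ker := by
      intro x
      rw [AddMonoidHom.mem_ker, AddMonoidHom.mem_ker]
      constructor
      · intro h
        funext n
        exact (key x n).trans (congrFun h n)
      · intro h
        funext n
        exact (key x n).symm.trans (congrFun h n)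
    let e0 : (toProd H i).ker ≃+ (AddMonoidHom.pi fun n : ℕ =>
        (Ext.mk₀ (limit.π (H ⋙ tA Y) (op n))).postcomp (KY Y) (add_zero i)).ker :=
      { toFun := fun x => ⟨extIsoEquiv (KY Y) (limIso H) i x.1, (hmem x.1).mp x.2⟩
        invFun := fun y => ⟨(extIsoEquiv (KY Y) (limIso H) i).symm y.1, by
          rw [hmem, AddEquiv.apply_symm_apply]
          exact y.2⟩
        left_inv := fun x => Subtype.ext (AddEquiv.symm_apply_apply _ _)
        right_inv := fun y => Subtype.ext (AddEquiv.apply_symm_apply _ _)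
        map_add' := fun x y => Subtype.ext (map_add _ _ _) }
    exact ⟨e0.trans e⟩

end Tower

section Main0827

variable (A : Type u) [CommRing A] (I : Ideal A) (X : Scheme.{u})
  [X.Over (Spec (CommRingCat.of A))] (G : ℕᵒᵖ ⥤ X.Modules)

theorem hs_of_isQCohFormal (hG : Formal2.IsQCohFormal I G) (n : ℕ) (V : X.Opens)
    (hV : IsAffineOpen V) :
    Function.Surjective ((G.map (homOfLE (Nat.le_succ n)).op).app V) :=
  secSys_surj A I G hG hV n

/-- **S0827**. -/
theorem main0827 (hG : Formal2.IsQCohFormal I G) (p : ℕ) :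
    ∃ (α : Formal2.limOne (fun n => Coh.HH X (G.obj (op n)) p) (Formal2.HHsysMap G p) →+
        Coh.HH X (limit G) (p + 1))
      (β : Coh.HH X (limit G) (p + 1) →+
        Formal2.limZero (fun n => Coh.HH X (G.obj (op n)) (p + 1)) (Formal2.HHsysMap G (p + 1))),
      Function.Injective α ∧ Function.Surjective β ∧ α.range = β.ker ∧
      ∀ (x : Coh.HH X (limit G) (p + 1)) (n : ℕ),
        (β x : ∀ n, Coh.HH X (G.obj (op n)) (p + 1)) n =
          Sheaf.H.map ((SheafOfModules.toSheaf _).map (limit.π G (op n))) (p + 1) x := by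
  obtain ⟨h1, ⟨e⟩⟩ := milnorHH G (fun n => hG.1 n) (hs_of_isQCohFormal A I X G hG) (p + 1) p rfl
  have hmem : ∀ x, toProd G (p + 1) x ∈
      Formal2.limZero (fun n => Coh.HH X (G.obj (op n)) (p + 1)) (Formal2.HHsysMap G (p + 1)) := by
    intro x
    rw [AddMonoidHom.mem_ker]
    funext n
    show toProd G (p + 1) x n - Formal2.HHsysMap G (p + 1) n (toProd G (p + 1) x (n + 1)) = 0
    rw [toProd_compat, sub_self]
  let β : Coh.HH X (limit G) (p + 1) →+
      Formal2.limZero (fun n => Coh.HH X (G.obj (op n)) (p + 1)) (Formal2.HHsysMap G (p + 1)) :=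
    (toProd G (p + 1)).codRestrict _ hmem
  have hker : β.ker = (toProd G (p + 1)).ker := by
    ext x
    rw [AddMonoidHom.mem_ker, AddMonoidHom.mem_ker]
    constructor
    · intro h
      exact congrArg Subtype.val h
    · intro h
      exact Subtype.ext h
  refine ⟨((toProd G (p + 1)).ker.subtype).comp e.symm.toAddMonoidHom, β, ?_, ?_, ?_, ?_⟩
  · intro a b hab
    exact e.symm.injective (Subtype.ext hab)
  · intro y
    have hy : ∀ n, Formal2.HHsysMap G (p + 1) n (y.1 (n + 1)) = y.1 n := by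
      intro n
      have h := congrFun (AddMonoidHom.mem_ker.mp y.2) n
      have h' : y.1 n - Formal2.HHsysMap G (p + 1) n (y.1 (n + 1)) = 0 := h
      exact (sub_eq_zero.mp h').symm
    obtain ⟨η, hη⟩ := h1 y.1 hy
    exact ⟨η, Subtype.ext hη⟩
  · rw [hker]
    ext x
    constructor
    · rintro ⟨a, rfl⟩
      exact (e.symm a).2
    · intro hx
      exact ⟨e ⟨x, hx⟩, by
        show ((e.symm (e ⟨x, hx⟩) : (toProd G (p + 1)).ker) : Coh.HH X (limit G) (p + 1)) = x
        rw [AddEquiv.symm_apply_apply]⟩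
  · intro x n
    rfl

end Main0827

section Main0826

variable (A : Type u) [CommRing A] (I : Ideal A) (X : Scheme.{u})
  [X.Over (Spec (CommRingCat.of A))] (G : ℕᵒᵖ ⥤ X.Modules)

/-- vanishing of higher cohomology of the limit on an affine scheme -/
theorem subsingleton_HH_limit_of_isAffine {Y : Scheme.{u}} [IsAffine Y] (H : ℕᵒᵖ ⥤ Y.Modules)
    (hq : ∀ n, (H.obj (op n)).IsQuasicoherent)
    (hs : ∀ (n : ℕ) (V : Y.Opens), IsAffineOpen V →
      Function.Surjective ((H.map (homOfLE (Nat.le_succ n)).op).app V))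
    (p : ℕ) : Subsingleton (Coh.HH Y (limit H) (p + 1)) := by
  obtain ⟨-, ⟨e⟩⟩ := milnorHH H hq hs (p + 1) p rfl
  haveI hsub : ∀ n : ℕ, Subsingleton (Coh.HH Y (H.obj (op n)) (p + 1)) := fun n => by
    haveI := hq n
    exact AffVanish.HH_subsingleton_of_isAffine Y (H.obj (op n)) p
  have hL : Subsingleton (Formal2.limOne (fun n : ℕ => Coh.HH Y (H.obj (op n)) p)
      (Formal2.HHsysMap H p)) := by
    cases p with
    | zero =>
      apply subsingleton_limOne_of_surjective
      intro n z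
      let e1 := Sheaf.H.equiv₀ ((tA Y).obj (H.obj (op (n + 1)))) isTerminalTop
      let e2 := Sheaf.H.equiv₀ ((tA Y).obj (H.obj (op n))) isTerminalTop
      obtain ⟨s', hs'⟩ := hs n ⊤ (isAffineOpen_top Y) (e2 z)
      refine ⟨e1.symm s', ?_⟩
      have h2 := Sheaf.H.equiv₀_symm_naturality (hT := isTerminalTop)
        (f := (tA Y).map (H.map (homOfLE (Nat.le_succ n)).op)) s'
      refine h2.trans ?_
      apply e2.injective
      rw [AddEquiv.apply_symm_apply]
      exact hs'
    | succ q =>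
      haveI : ∀ n : ℕ, Subsingleton (Coh.HH Y (H.obj (op n)) (q + 1)) := fun n => by
        haveI := hq n
        exact AffVanish.HH_subsingleton_of_isAffine Y (H.obj (op n)) q
      refine ⟨fun a b => ?_⟩
      obtain ⟨a', rfl⟩ := QuotientAddGroup.mk_surjective a
      obtain ⟨b', rfl⟩ := QuotientAddGroup.mk_surjective b
      rw [Subsingleton.elim a' b']
  refine ⟨fun a b => ?_⟩
  have ha : a ∈ (toProd H (p + 1)).ker := by
    rw [AddMonoidHom.mem_ker]
    exact Subsingleton.elim _ _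
  have hb : b ∈ (toProd H (p + 1)).ker := by
    rw [AddMonoidHom.mem_ker]
    exact Subsingleton.elim _ _
  have hab : (⟨a, ha⟩ : (toProd H (p + 1)).ker) = ⟨b, hb⟩ :=
    e.injective (Subsingleton.elim _ _)
  exact congrArg Subtype.val hab

/-- **S0826**. -/
theorem main0826 (hG : Formal2.IsQCohFormal I G) (U : X.Opens) (hU : IsAffineOpen U) (p : ℕ)
    (hp : 0 < p) : Subsingleton (Coh.HHon X (limit G) U p) := by
  obtain ⟨q, rfl⟩ : ∃ q, p = q + 1 := ⟨p - 1, by omega⟩
  haveI : IsAffine (↑U : Scheme.{u}) := hU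
  have hq : ∀ n, ((G ⋙ Scheme.Modules.restrictFunctor U.ι).obj (op n)).IsQuasicoherent := by
    intro n
    haveI : (G.obj (op n)).IsQuasicoherent := hG.1 n
    exact inferInstanceAs ((G.obj (op n)).restrict U.ι).IsQuasicoherent
  have hs : ∀ (n : ℕ) (V : (↑U : Scheme.{u}).Opens), IsAffineOpen V →
      Function.Surjective (((G ⋙ Scheme.Modules.restrictFunctor U.ι).map
        (homOfLE (Nat.le_succ n)).op).app V) := by
    intro n V hV y
    obtain ⟨x, hx⟩ := hs_of_isQCohFormal A I X G hG n (U.ι ''ᵁ V) (hV.image_of_isOpenImmersion U.ι) y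
    exact ⟨x, hx⟩
  have h1 := subsingleton_HH_limit_of_isAffine (G ⋙ Scheme.Modules.restrictFunctor U.ι) hq hs q
  let κ : (Scheme.Modules.restrictFunctor U.ι).obj (limit G) ≅
      limit (G ⋙ Scheme.Modules.restrictFunctor U.ι) :=
    preservesLimitIso (Scheme.Modules.restrictFunctor U.ι) G
  exact @Equiv.subsingleton _ _
    (extIsoEquiv (KY (↑U : Scheme.{u})) ((tA (↑U : Scheme.{u})).mapIso κ) (q + 1)).toEquiv h1

end Main0826

end Groth.Agent.Lib.LimMilnorH2
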