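import Mathlib
import Groth.Prelude.Def_Wider
import Groth.Prelude.Def_DualLC
import Groth.Prelude.Def_W4bk5brsh7111920
import Groth.Agent.Lib.FaltingsCM_helper6
import Groth.Agent.Lib.DoubleLoc_helper6

/-!
# Grothendieck finiteness theorem, part 1 (helper5): cutoff = minimum adjusted depth, and localization
-/

set_option autoImplicit false
universe u

namespace Groth.Agent.Lib.GFTH5

open Groth.Agent.Lib.FaltingsCM_helper6

section C

variable (A : Type u) [CommRing A] (I : Ideal A) (M : Type u) [AddCommGroup M] [Module A M]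

/-- the cutoff invariant is the `I`-minimum `I`-adjusted depth -/
theorem cutoff_eq_minAdjDepth : Dual2.cutoff A I M = LocCoh.minAdjDepth I I M := by
  apply le_antisymm
  · unfold LocCoh.minAdjDepth
    refine le_iInf₂ fun p hp => ?_
    unfold LocCoh.adjDepth
    set J := (I ⊔ p.asIdeal).map (Ideal.Quotient.mk p.asIdeal) with hJ
    by_cases htop : J.height = ⊤
    · rw [htop, add_top]; exact le_top
    obtain ⟨n, hn⟩ := ENat.ne_top_iff_exists.1 htop
    obtain ⟨Q, hQprime, hJQ, hQh⟩ := Ideal.exists_isPrime_height_eq hn.symm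
    have hπ : Function.Surjective (Ideal.Quotient.mk p.asIdeal) := Ideal.Quotient.mk_surjective
    let q : PrimeSpectrum A := ⟨Q.comap (Ideal.Quotient.mk p.asIdeal), inferInstance⟩
    have hIq : I ⊔ p.asIdeal ≤ q.asIdeal := by
      have := Ideal.comap_mono (f := Ideal.Quotient.mk p.asIdeal) hJQ
      exact Ideal.le_comap_map.trans this
    have hpq : p ≤ q := le_sup_right.trans hIq
    have hmap : q.asIdeal.map (Ideal.Quotient.mk p.asIdeal) = Q :=
      Ideal.map_comap_of_surjective _ hπ Q
    have h1 := height_Ici_eq p q hpq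
    rw [hmap, hQh] at h1
    unfold Dual2.cutoff
    refine (iInf_le _ p).trans ((iInf_le _ q).trans ((iInf_le _ hpq).trans
      ((iInf_le _ hp).trans ((iInf_le _ (le_sup_left.trans hIq)).trans ?_))))
    rw [h1, hn]
  · unfold Dual2.cutoff
    refine le_iInf fun p => le_iInf fun q => le_iInf fun hpq => le_iInf fun hIp =>
      le_iInf fun hIq => ?_
    unfold LocCoh.minAdjDepth
    refine (iInf₂_le p hIp).trans ?_
    unfold LocCoh.adjDepth
    rw [height_Ici_eq p q hpq]
    exact add_le_add le_rfl (Ideal.height_mono (Ideal.map_mono (sup_le hIq hpq)))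

end C

section L

variable {A : Type u} [CommRing A]

/-- heights do not drop under extension to a localization -/
theorem height_le_height_map_of_isLocalization (S : Submonoid A) (T : Type u) [CommRing T]
    [Algebra A T] [IsLocalization S T] (J : Ideal A) :
    J.height ≤ (J.map (algebraMap A T)).height := by
  rw [← IsLocalization.height_under S (J.map (algebraMap A T))]
  exact Ideal.height_mono Ideal.le_comap_map

theorem height_adj_le (P : Ideal A) [P.IsPrime] (p : Ideal A) (I : Ideal A) :
    ((I ⊔ p).map (Ideal.Quotient.mk p)).height ≤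
      ((I.map (algebraMap A (Localization.AtPrime P)) ⊔
        p.map (algebraMap A (Localization.AtPrime P))).map
          (Ideal.Quotient.mk (p.map (algebraMap A (Localization.AtPrime P))))).height := by
  have h1 := height_le_height_map_of_isLocalization
    (Algebra.algebraMapSubmonoid (A ⧸ p) P.primeCompl)
    (Localization.AtPrime P ⧸ p.map (algebraMap A (Localization.AtPrime P)))
    ((I ⊔ p).map (Ideal.Quotient.mk p))
  refine h1.trans (le_of_eq ?_)
  congr 1
  rw [Ideal.map_map, ← Ideal.map_sup, Ideal.map_map]
  rfl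

theorem minAdjDepth_le_localization (P : Ideal A) [P.IsPrime] (I : Ideal A) (M : Type u)
    [AddCommGroup M] [Module A M] :
    LocCoh.minAdjDepth I I M ≤
      LocCoh.minAdjDepth (I.map (algebraMap A (Localization.AtPrime P)))
        (I.map (algebraMap A (Localization.AtPrime P))) (LocalizedModule P.primeCompl M) := by
  conv_rhs => unfold LocCoh.minAdjDepth
  refine le_iInf₂ fun p' hp' => ?_
  let p : PrimeSpectrum A :=
    ⟨p'.asIdeal.comap (algebraMap A (Localization P.primeCompl)), inferInstance⟩
  have hIp : ¬ I ≤ p.asIdeal := fun h => hp' (Ideal.map_le_iff_le_comap.2 h)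
  unfold LocCoh.minAdjDepth
  refine (iInf₂_le p hIp).trans ?_
  unfold LocCoh.adjDepth
  rw [Groth.Agent.Lib.DoubleLoc_helper6.depth_eq M P.primeCompl p'.asIdeal]
  refine add_le_add le_rfl ?_
  have hmap : p.asIdeal.map (algebraMap A (Localization.AtPrime P)) = p'.asIdeal :=
    IsLocalization.map_comap P.primeCompl _ p'.asIdeal
  have key : ∀ (Q : Ideal (Localization.AtPrime P)) (h : Q = p'.asIdeal),
      ((I.map (algebraMap A (Localization.AtPrime P)) ⊔ Q).map (Ideal.Quotient.mk Q)).height =
      ((I.map (algebraMap A (Localization.AtPrime P)) ⊔ p'.asIdeal).map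
        (Ideal.Quotient.mk p'.asIdeal)).height := by
    rintro _ rfl; rfl
  exact (height_adj_le P p.asIdeal I).trans (le_of_eq (key _ hmap))

end L

end Groth.Agent.Lib.GFTH5
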