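import Mathlib
import Groth.Prelude.Def_Wider
import Groth.Prelude.Def_DualLC
import Groth.Prelude.Def_Found
import Groth.Prelude.Def_EGA4b
import Groth.Prelude.Def_W4bk5brsh7111920
import Groth.Agent.Lib.GFT1_helper5
import Groth.Agent.Lib.CutCpl4_helper5
import Groth.Agent.Lib.FaltingsCor_helper6
import Groth.Agent.Lib.FinDimLe_helper6
import Groth.Agent.Lib.LocCohLocGlob_helper7
import Groth.Agent.Lib.LocCohFlatBC_helper7
import Groth.Agent.Lib.CohenStruct_helper3
import Groth.Agent.Lib.RegPS_helper3
import Groth.Agent.Lib.NonVan2_helper7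
import Groth.Agent.Lib.Serre_helper5
import Groth.Agent.Lib.TensorSk_helper9
import Groth.Agent.Lib.AnUnram_helper3
import Groth.Agent.S9126

/-!
# Grothendieck finiteness theorem, part 2 (helper5): assembly
-/

set_option autoImplicit false
universe u

open CategoryTheory IsLocalRing TensorProduct

namespace Groth.Agent.Lib.GFTH5

section T

variable {A : Type u} [CommRing A]

/-- finiteness of local cohomology is invariant under linear isomorphisms of the module -/
theorem finite_H_of_linearEquiv (I : Ideal A) (i : ℕ) {M N : Type u} [AddCommGroup M] [Module A M]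
    [AddCommGroup N] [Module A N] (e : M ≃ₗ[A] N) (h : Module.Finite A (LocCoh.H I i M)) :
    Module.Finite A (LocCoh.H I i N) := by
  haveI := h
  exact Module.Finite.equiv ((localCohomology I i).mapIso e.toModuleIso).toLinearEquiv

/-- the easy half: finiteness up to `n` forces `n < s_{A,I}(M)` -/
theorem lt_cutoff_of_finite [IsNoetherianRing A] (I : Ideal A) (M : Type u) [AddCommGroup M]
    [Module A M] [Module.Finite A M] (n : ℕ)
    (h : ∀ i : ℕ, i ≤ n → Module.Finite A (LocCoh.H I i M)) :
    (n : ℕ∞) < Dual2.cutoff A I M := by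
  rw [cutoff_eq_minAdjDepth]
  exact lt_of_lt_of_le
    ((Groth.Agent.Lib.FaltingsCor_helper6.finite_iff_lt_finDimRel I M n).1 h)
    (Groth.Agent.Lib.FinDimLe_helper6.main I I M)

end T

section CPL

/-- complete local rings: Faltings' annihilator theorem via Cohen's structure theorem -/
theorem finite_of_lt_cutoff_complete (B : Type u) [CommRing B] [IsLocalRing B] [IsNoetherianRing B]
    [IsAdicComplete (maximalIdeal B) B] (J : Ideal B) (N : Type u) [AddCommGroup N] [Module B N]
    [Module.Finite B N] (n : ℕ) (h : (n : ℕ∞) < Dual2.cutoff B J N) :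
    ∀ i : ℕ, i ≤ n → Module.Finite B (LocCoh.H J i N) := by
  obtain ⟨Λ, instΛ, k, f, hΛ, hf⟩ :=
    Groth.Agent.Lib.CohenStructH3.exists_surjective_of_complete B (IsNoetherian.noetherian _)
  haveI hΛreg : IsRegularLocalRing Λ := by
    rcases hΛ with hΛ | hΛ
    · exact Groth.Agent.Lib.NonVan2H7.isRegularLocalRing_of_isField Λ hΛ
    · obtain ⟨hdom, hdvr, -, -⟩ := hΛ
      infer_instance
  haveI hreg : IsRegularLocalRing (MvPowerSeries (Fin k) Λ) :=
    Groth.Agent.Lib.RegPSH3.isRegularLocalRing_mvPowerSeries Λ k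
  haveI : IsRegularRing (MvPowerSeries (Fin k) Λ) :=
    ⟨fun p _ => Groth.Agent.Serre.localization_regular _ p⟩
  rw [Groth.Agent.Lib.FaltingsCor_helper6.finite_iff_lt_finDimRel,
    Groth.Agent.Lib.FaltingsCor_helper6.finDimRel_eq (MvPowerSeries (Fin k) Λ) B f hf J J N,
    ← cutoff_eq_minAdjDepth]
  exact h

end CPL

section LOC

/-- local rings: pass to the completion -/
theorem finite_of_lt_cutoff_local (A : Type u) [CommRing A] [IsLocalRing A] [IsNoetherianRing A]
    (hA : CAlg.IsUniversallyCatenary A) (hF : EGA4.HasCMFormalFibres A) (I : Ideal A) (M : Type u)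
    [AddCommGroup M] [Module A M] [Module.Finite A M] (n : ℕ)
    (h : (n : ℕ∞) < Dual2.cutoff A I M) :
    ∀ i : ℕ, i ≤ n → Module.Finite A (LocCoh.H I i M) := by
  obtain ⟨hloc, hnoeth, hcomp, hff, hlh, hmap⟩ := Groth.Agent.Lib.AnUnramH3.completion_facts A
  haveI := hloc
  haveI := hnoeth
  haveI := hcomp
  haveI := hff
  haveI : Module.Flat A (AdicCompletion (maximalIdeal A) A) := inferInstance
  have hSn : EGA4.HasSnFormalFibres n A := fun p _ => by
    haveI := hF p
    exact Groth.Agent.TensorCM.hasSk_of_isCMRing n _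
  have h1 := (Groth.Agent.Lib.CutCplH5.main1725 A I M hA n).2 hSn
  have h2 : (n : ℕ∞) < Dual2.cutoff (AdicCompletion (maximalIdeal A) A)
      (I.map (algebraMap A (AdicCompletion (maximalIdeal A) A)))
      (AdicCompletion (maximalIdeal A) M) := by
    refine lt_of_lt_of_le ?_ h1
    rw [lt_min_iff]
    exact ⟨ENat.lt_add_one_iff (ENat.natCast_ne_top n) |>.2 le_rfl, h⟩
  intro i hi
  let e := AdicCompletion.ofTensorProductEquivOfFiniteNoetherian (maximalIdeal A) M
  haveI : Module.Finite (AdicCompletion (maximalIdeal A) A) (AdicCompletion (maximalIdeal A) M) :=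
    Module.Finite.equiv e
  have h3 := finite_of_lt_cutoff_complete (AdicCompletion (maximalIdeal A) A) _
    (AdicCompletion (maximalIdeal A) M) n h2 i hi
  have h4 := finite_H_of_linearEquiv _ i e.symm h3
  obtain ⟨e2⟩ := Groth.Agent.Lib.LocCohFlatBCH7.main (AdicCompletion (maximalIdeal A) A) I i M
  haveI : Module.Finite (AdicCompletion (maximalIdeal A) A)
      ((AdicCompletion (maximalIdeal A) A) ⊗[A] LocCoh.H I i M) := Module.Finite.equiv e2.symm
  exact Module.Finite.of_finite_tensorProduct_of_faithfullyFlat (AdicCompletion (maximalIdeal A) A)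

end LOC

section MAIN

variable (A : Type u) [CommRing A] [IsNoetherianRing A]

/-- the hard half of Grothendieck's finiteness theorem -/
theorem finite_of_lt_cutoff (hA : CAlg.IsUniversallyCatenary A)
    (hF : ∀ q : PrimeSpectrum A, EGA4.HasCMFormalFibres (Localization.AtPrime q.asIdeal))
    (I : Ideal A) (M : Type u) [AddCommGroup M] [Module A M] [Module.Finite A M] (n : ℕ)
    (h : (n : ℕ∞) < Dual2.cutoff A I M) :
    ∀ i : ℕ, i ≤ n → Module.Finite A (LocCoh.H I i M) := by
  rw [Groth.Agent.Lib.LocCohLocGlobH7.main I M n]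
  intro p hp i hi
  haveI : IsNoetherianRing (Localization.AtPrime p) :=
    IsLocalization.isNoetherianRing p.primeCompl _ inferInstance
  have hUC : CAlg.IsUniversallyCatenary (Localization.AtPrime p) :=
    Groth.Agent.S9126.result A (Localization.AtPrime p) hA
  haveI : Module.Finite (Localization.AtPrime p) (LocalizedModule p.primeCompl M) :=
    Module.Finite.of_isLocalizedModule p.primeCompl (LocalizedModule.mkLinearMap p.primeCompl M)
  have hlt : (n : ℕ∞) < Dual2.cutoff (Localization.AtPrime p)
      (I.map (algebraMap A (Localization.AtPrime p))) (LocalizedModule p.primeCompl M) := by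
    rw [cutoff_eq_minAdjDepth] at h ⊢
    exact lt_of_lt_of_le h (minAdjDepth_le_localization p I M)
  have h3 := finite_of_lt_cutoff_local (Localization.AtPrime p) hUC (hF ⟨p, hp⟩)
    (I.map (algebraMap A (Localization.AtPrime p))) (LocalizedModule p.primeCompl M) n hlt i hi
  have h4 := finite_H_of_linearEquiv _ i (LocalizedModule.equivTensorProduct p.primeCompl M) h3
  obtain ⟨e2⟩ := Groth.Agent.Lib.LocCohFlatBCH7.main (Localization.AtPrime p) I i M
  haveI : Module.Finite (Localization.AtPrime p)
      ((Localization.AtPrime p) ⊗[A] LocCoh.H I i M) := Module.Finite.equiv e2.symm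
  exact Module.Finite.equiv (LocalizedModule.equivTensorProduct p.primeCompl (LocCoh.H I i M)).symm

/-- S1724 -/
theorem main1724 (hA : CAlg.IsUniversallyCatenary A)
    (hF : ∀ q : PrimeSpectrum A, EGA4.HasCMFormalFibres (Localization.AtPrime q.asIdeal))
    (I : Ideal A) (M : Type u) [AddCommGroup M] [Module A M] [Module.Finite A M] :
    (∀ i : ℕ, (i : ℕ∞) < Dual2.cutoff A I M → Module.Finite A (LocCoh.H I i M)) ∧
      ∀ s : ℕ, Dual2.cutoff A I M = s → ¬ Module.Finite A (LocCoh.H I s M) := by
  have h1 : ∀ i : ℕ, (i : ℕ∞) < Dual2.cutoff A I M → Module.Finite A (LocCoh.H I i M) :=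
    fun i hi => finite_of_lt_cutoff A hA hF I M i hi i le_rfl
  refine ⟨h1, fun s hs hfin => ?_⟩
  have h2 : ∀ i : ℕ, i ≤ s → Module.Finite A (LocCoh.H I i M) := by
    intro i hi
    rcases Nat.lt_or_eq_of_le hi with hlt | rfl
    · exact h1 i (by rw [hs]; exact_mod_cast hlt)
    · exact hfin
  have h3 := lt_cutoff_of_finite I M s h2
  rw [hs] at h3
  exact lt_irrefl _ h3

end MAIN

end Groth.Agent.Lib.GFTH5
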