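import Mathlib
import Groth.Prelude.Def_KZero

/-!
# `K'₀` of a PID is `ℤ` (helper1)
-/

namespace Groth.Agent.Lib.K0PIDH1

universe u

open CategoryTheory

section
variable {R : Type u} [CommRing R] (P : ObjectProperty (ModuleCat.{u} R))

theorem rel_of_exact {A B C : Type u} [AddCommGroup A] [Module R A] [AddCommGroup B] [Module R B]
    [AddCommGroup C] [Module R C] (hA : P (ModuleCat.of R A)) (hB : P (ModuleCat.of R B))
    (hC : P (ModuleCat.of R C)) (f : A →ₗ[R] B) (g : B →ₗ[R] C) (hf : Function.Injective f)
    (hg : Function.Surjective g) (hex : Function.Exact f g) :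
    (QuotientAddGroup.mk (FreeAbelianGroup.of ⟨ModuleCat.of R B, hB⟩) : KZero.K0sub P) =
      QuotientAddGroup.mk (FreeAbelianGroup.of ⟨ModuleCat.of R A, hA⟩) +
      QuotientAddGroup.mk (FreeAbelianGroup.of ⟨ModuleCat.of R C, hC⟩) := by
  have h0 : g.comp f = 0 := by
    ext a
    exact hex.apply_apply_eq_zero a
  let S := ModuleCat.shortComplexOfCompEqZero f g h0
  have hS : S.ShortExact := ModuleCat.shortComplex_shortExact S hex hf hg
  have hmem : (FreeAbelianGroup.of ⟨ModuleCat.of R B, hB⟩ - FreeAbelianGroup.of ⟨ModuleCat.of R A, hA⟩ -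
      FreeAbelianGroup.of ⟨ModuleCat.of R C, hC⟩ : FreeAbelianGroup (Subtype P)) ∈
      KZero.relSub P := by
    unfold KZero.relSub
    exact AddSubgroup.subset_closure ⟨S, hA, hB, hC, hS, rfl⟩
  have h1 := (QuotientAddGroup.eq_zero_iff _).mpr hmem
  rw [QuotientAddGroup.mk_sub, QuotientAddGroup.mk_sub, sub_sub, sub_eq_zero] at h1
  exact h1

theorem cl_subsingleton {A : Type u} [AddCommGroup A] [Module R A] [Subsingleton A]
    (hA : P (ModuleCat.of R A)) :
    (QuotientAddGroup.mk (FreeAbelianGroup.of ⟨ModuleCat.of R A, hA⟩) : KZero.K0sub P) = 0 := by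
  have h := rel_of_exact P hA hA hA (0 : A →ₗ[R] A) (0 : A →ₗ[R] A)
    (fun a b _ => Subsingleton.elim a b) (fun a => ⟨a, Subsingleton.elim _ _⟩)
    (fun a => ⟨fun _ => ⟨a, Subsingleton.elim _ _⟩, fun _ => Subsingleton.elim _ _⟩)
  have h2 : (QuotientAddGroup.mk (FreeAbelianGroup.of ⟨ModuleCat.of R A, hA⟩) :
      KZero.K0sub P) + 0 = QuotientAddGroup.mk (FreeAbelianGroup.of ⟨ModuleCat.of R A, hA⟩) +
      QuotientAddGroup.mk (FreeAbelianGroup.of ⟨ModuleCat.of R A, hA⟩) := by
    rw [add_zero]
    exact h
  exact (add_left_cancel h2).symm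

theorem cl_equiv (hZ : P (ModuleCat.of R PUnit.{u + 1}))
    {A B : Type u} [AddCommGroup A] [Module R A] [AddCommGroup B] [Module R B]
    (hA : P (ModuleCat.of R A)) (hB : P (ModuleCat.of R B)) (e : A ≃ₗ[R] B) :
    (QuotientAddGroup.mk (FreeAbelianGroup.of ⟨ModuleCat.of R A, hA⟩) : KZero.K0sub P) =
      QuotientAddGroup.mk (FreeAbelianGroup.of ⟨ModuleCat.of R B, hB⟩) := by
  have h := rel_of_exact P hZ hA hB (0 : PUnit.{u + 1} →ₗ[R] A) e.toLinearMap
    (fun a b _ => Subsingleton.elim a b) e.surjective
    (fun a => ⟨fun h => ⟨PUnit.unit, by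
      have : a = 0 := e.injective (by simpa using h)
      simp [this]⟩, fun ⟨_, h⟩ => by
      have : a = 0 := by simpa using h.symm
      simp [this]⟩)
  rw [h, cl_subsingleton P hZ, zero_add]

end

section PID
variable (A : Type u) [CommRing A] [IsDomain A] [IsPrincipalIdealRing A]

/-- finite modules -/
abbrev Fin' : ObjectProperty (ModuleCat.{u} A) := fun M : ModuleCat.{u} A => Module.Finite A M

theorem K0_PID :
    Function.Bijective (fun k : ℤ =>
      k • KZero.clSub (fun M : ModuleCat.{u} A => Module.Finite A M) (ModuleCat.of A A)) := by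
  classical
  have hA : Fin' A (ModuleCat.of A A) := (inferInstance : Module.Finite A A)
  have hZ : Fin' A (ModuleCat.of A PUnit.{u + 1}) := (inferInstance : Module.Finite A PUnit.{u + 1})
  have hclA : KZero.clSub (Fin' A) (ModuleCat.of A A) =
      QuotientAddGroup.mk (FreeAbelianGroup.of ⟨ModuleCat.of A A, hA⟩) := by
    unfold KZero.clSub
    rw [dif_pos hA]
  show Function.Bijective (fun k : ℤ => k • KZero.clSub (Fin' A) (ModuleCat.of A A))
  rw [hclA]
  set clA : KZero.K0sub (Fin' A) := QuotientAddGroup.mk (FreeAbelianGroup.of ⟨ModuleCat.of A A, hA⟩)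
    with hclA_def
  constructor
  · -- injective via rank
    let r : Subtype (Fin' A) → ℤ := fun M => (Module.finrank A M.1 : ℤ)
    let φ₀ : FreeAbelianGroup (Subtype (Fin' A)) →+ ℤ := FreeAbelianGroup.lift r
    have hker : KZero.relSub (Fin' A) ≤ φ₀.ker := by
      unfold KZero.relSub
      rw [AddSubgroup.closure_le]
      rintro x ⟨S, h1, h2, h3, hS, rfl⟩
      show φ₀ _ = 0
      haveI : Module.Finite A S.X₁ := h1
      haveI : Module.Finite A S.X₂ := h2
      haveI : Module.Finite A S.X₃ := h3
      have hexact := (ShortComplex.ShortExact.moduleCat_exact_iff_function_exact S).mp hS.exact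
      have hrank : Module.finrank A S.X₂ = Module.finrank A S.X₁ + Module.finrank A S.X₃ := by
        have h4 : Module.finrank A (LinearMap.range S.g.hom)
            + Module.finrank A (LinearMap.ker S.g.hom) = Module.finrank A S.X₂ := by
          have := (LinearMap.ker S.g.hom).finrank_quotient_add_finrank
          rw [LinearEquiv.finrank_eq S.g.hom.quotKerEquivRange] at this
          exact this
        have h5 : Module.finrank A (LinearMap.range S.g.hom) = Module.finrank A S.X₃ := by
          rw [LinearMap.range_eq_top.mpr hS.moduleCat_surjective_g, finrank_top]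
        have h6 : Module.finrank A (LinearMap.ker S.g.hom) = Module.finrank A S.X₁ := by
          have hk : LinearMap.ker S.g.hom = LinearMap.range S.f.hom :=
            LinearMap.exact_iff.mp hexact
          rw [hk]
          exact LinearMap.finrank_range_of_inj hS.moduleCat_injective_f
        omega
      simp only [map_sub, φ₀, FreeAbelianGroup.lift_apply_of, r]
      rw [hrank]
      push_cast
      ring
    let e₀ : KZero.K0sub (Fin' A) →+ ℤ := QuotientAddGroup.lift (KZero.relSub (Fin' A)) φ₀ hker
    have he₀A : e₀ clA = 1 := by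
      simp only [e₀, hclA_def, QuotientAddGroup.lift_mk, φ₀, FreeAbelianGroup.lift_apply_of, r]
      simp
    intro k k' hkk
    have := congrArg e₀ hkk
    simpa [map_zsmul, he₀A] using this
  · -- surjective
    let ψ : ℤ →+ KZero.K0sub (Fin' A) := zmultiplesHom _ clA
    have hψ : ∀ k : ℤ, ψ k = k • clA := fun k => rfl
    suffices h : ∀ x : KZero.K0sub (Fin' A), x ∈ ψ.range by
      intro x
      obtain ⟨k, hk⟩ := h x
      exact ⟨k, hk⟩
    -- cyclic modules
    have hcyc : ∀ (I : Ideal A) (hI : Fin' A (ModuleCat.of A (A ⧸ I))),
        (QuotientAddGroup.mk (FreeAbelianGroup.of ⟨ModuleCat.of A (A ⧸ I), hI⟩) :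
          KZero.K0sub (Fin' A)) ∈ ψ.range := by
      intro I hI
      obtain ⟨a, rfl⟩ : ∃ a, I = Ideal.span {a} := ⟨_, (IsPrincipalIdealRing.principal I).span_singleton_generator.symm⟩  
      by_cases ha : a = 0
      · subst ha
        have e : (A ⧸ Ideal.span ({0} : Set A)) ≃ₗ[A] A := by
          have hbot : Ideal.span ({0} : Set A) = ⊥ := by simp
          exact (Submodule.quotEquivOfEqBot _ hbot)
        rw [cl_equiv (Fin' A) hZ hI hA e]
        refine ⟨1, ?_⟩
        rw [hψ, one_smul]
      · have hinj : Function.Injective (LinearMap.mulLeft A a) := by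
          intro x y hxy
          exact mul_left_cancel₀ ha hxy
        have hex : Function.Exact (LinearMap.mulLeft A a) (Submodule.mkQ (Ideal.span {a})) := by
          intro y
          rw [Submodule.mkQ_apply, Submodule.Quotient.mk_eq_zero, Ideal.mem_span_singleton']
          constructor
          · rintro ⟨c, rfl⟩
            exact ⟨c, by simp [mul_comm]⟩
          · rintro ⟨c, rfl⟩
            exact ⟨c, by simp [mul_comm]⟩
        have h := rel_of_exact (Fin' A) hA hA hI (LinearMap.mulLeft A a)
          (Submodule.mkQ (Ideal.span {a})) hinj (Submodule.mkQ_surjective _) hex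
        have h2 : (QuotientAddGroup.mk (FreeAbelianGroup.of
            ⟨ModuleCat.of A (A ⧸ Ideal.span {a}), hI⟩) : KZero.K0sub (Fin' A)) = 0 := by
          have h3 : clA + 0 = clA + QuotientAddGroup.mk (FreeAbelianGroup.of
              ⟨ModuleCat.of A (A ⧸ Ideal.span {a}), hI⟩) := by
            rw [add_zero]
            exact h
          exact (add_left_cancel h3).symm
        rw [h2]
        exact zero_mem _
    -- induction on the number of generators
    have hgen : ∀ (n : ℕ) (M : Type u) [AddCommGroup M] [Module A M] (hM : Fin' A (ModuleCat.of A M))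
        (s : Fin n → M), Submodule.span A (Set.range s) = ⊤ →
        (QuotientAddGroup.mk (FreeAbelianGroup.of ⟨ModuleCat.of A M, hM⟩) :
          KZero.K0sub (Fin' A)) ∈ ψ.range := by
      intro n
      induction n with
      | zero =>
        intro M _ _ hM s hs
        haveI : Subsingleton M := by
          have : Set.range s = ∅ := Set.range_eq_empty _
          rw [this, Submodule.span_empty] at hs
          exact (Submodule.subsingleton_iff A).mp (subsingleton_of_bot_eq_top hs)
        rw [cl_subsingleton (Fin' A) hM]
        exact zero_mem _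
      | succ n ih =>
        intro M _ _ hM s hs
        haveI : Module.Finite A M := hM
        let N : Submodule A M := Submodule.span A {s 0}
        have hN : Fin' A (ModuleCat.of A N) := by
          show Module.Finite A N
          exact Module.Finite.span_singleton A (s 0)
        have hQ : Fin' A (ModuleCat.of A (M ⧸ N)) := by
          show Module.Finite A (M ⧸ N)
          infer_instance
        have h := rel_of_exact (Fin' A) hN hM hQ N.subtype N.mkQ N.injective_subtype
          N.mkQ_surjective (LinearMap.exact_subtype_mkQ N)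
        rw [h]
        refine add_mem ?_ ?_
        · have hI : Fin' A (ModuleCat.of A (A ⧸ Ideal.torsionOf A M (s 0))) := by
            show Module.Finite A (A ⧸ Ideal.torsionOf A M (s 0))
            infer_instance
          rw [← cl_equiv (Fin' A) hZ hI hN (Ideal.quotTorsionOfEquivSpanSingleton A M (s 0))]
          exact hcyc _ hI
        · apply ih (M ⧸ N) hQ (fun i => N.mkQ (s i.succ))
          rw [eq_top_iff]
          rintro y -
          obtain ⟨m, rfl⟩ := N.mkQ_surjective y
          have hm : m ∈ Submodule.span A (Set.range s) := hs ▸ Submodule.mem_top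
          induction hm using Submodule.span_induction with
          | mem x hx =>
            obtain ⟨i, rfl⟩ := hx
            cases i using Fin.cases with
            | zero =>
              have : N.mkQ (s 0) = 0 := by
                rw [Submodule.mkQ_apply, Submodule.Quotient.mk_eq_zero]
                exact Submodule.mem_span_singleton_self _
              rw [this]
              exact zero_mem _
            | succ j => exact Submodule.subset_span ⟨j, rfl⟩
          | zero => rw [map_zero]; exact zero_mem _
          | add a b _ _ ha hb => rw [map_add]; exact add_mem ha hb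
          | smul c a _ ha => rw [map_smul]; exact Submodule.smul_mem _ c ha
    intro x
    induction x using QuotientAddGroup.induction_on with
    | H z =>
      induction z using FreeAbelianGroup.induction_on with
      | zero => exact zero_mem _
      | of M =>
        obtain ⟨M, hM⟩ := M
        haveI : Module.Finite A M := hM
        obtain ⟨n, s, hs⟩ := Module.Finite.exists_fin (R := A) (M := M)
        exact hgen n M hM s hs
      | neg M ih =>
        rw [QuotientAddGroup.mk_neg]
        exact neg_mem ih
      | add a b ha hb =>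
        rw [QuotientAddGroup.mk_add]
        exact add_mem ha hb

end PID

end Groth.Agent.Lib.K0PIDH1
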