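import Mathlib
import Groth.Agent.Lib.GH1_helper9
import Groth.Agent.Lib.K0PID_helper1

/-!
# Graded Hilbert functions in binomial form, part 2 (helper9)
Conversion to the basis `C(n, i)`, generation of a standard graded ring by degree one elements,
and additivity of classes in `K'₀`.
APPEND-ONLY once landed.
-/

set_option autoImplicit false
universe u w

namespace Groth.Agent.GH9

open Finset

theorem add_choose_eq_sum (n κ d : ℕ) (hκ : κ < d) :
    (n + κ).choose κ = ∑ a ∈ range d, n.choose a * κ.choose a := by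
  rw [Nat.add_choose_eq, Finset.Nat.sum_antidiagonal_eq_sum_range_succ_mk]
  have hsub : range (κ + 1) ⊆ range d := by
    intro a ha
    rw [mem_range] at ha ⊢
    omega
  rw [← Finset.sum_subset hsub]
  · refine sum_congr rfl fun a ha => ?_
    rw [mem_range] at ha
    show n.choose a * κ.choose (κ - a) = _
    rw [Nat.choose_symm (by omega)]
  · intro a _ ha
    rw [mem_range] at ha
    rw [Nat.choose_eq_zero_of_lt (show κ < a by omega), mul_zero]

theorem binomial_convert {G : Type w} [AddCommGroup G] (c : ℕ → G) (d : ℕ) :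
    ∃ a : ℕ → G, ∀ n : ℕ, ∑ κ ∈ range d, (n + κ).choose κ • c κ =
      ∑ i ∈ range d, n.choose i • a i := by
  refine ⟨fun i => ∑ κ ∈ range d, κ.choose i • c κ, fun n => ?_⟩
  have h1 : ∀ κ ∈ range d, (n + κ).choose κ • c κ =
      ∑ i ∈ range d, n.choose i • (κ.choose i • c κ) := by
    intro κ hκ
    rw [add_choose_eq_sum n κ d (mem_range.mp hκ), sum_smul]
    refine sum_congr rfl fun i _ => ?_
    rw [mul_smul]
  rw [sum_congr rfl h1, sum_comm]
  refine sum_congr rfl fun i _ => ?_
  rw [smul_sum]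

theorem adjoin_eq_top_of_irrelevant {A S : Type*} [CommRing A] [CommRing S] [Algebra A S]
    (𝒜 : ℕ → Submodule A S) [GradedAlgebra 𝒜]
    (h0 : ∀ s ∈ 𝒜 0, s ∈ Set.range (algebraMap A S))
    (s' : Finset S) (hs' : (s' : Set S) ⊆ 𝒜 1)
    (h1 : (HomogeneousIdeal.irrelevant 𝒜).toIdeal = Ideal.span (s' : Set S)) :
    Algebra.adjoin A (s' : Set S) = ⊤ := by
  classical
  have hhom : ∀ n, ∀ s ∈ 𝒜 n, s ∈ Algebra.adjoin A (s' : Set S) := by
    intro n
    induction n with
    | zero =>
      intro s hs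
      obtain ⟨a, rfl⟩ := h0 s hs
      exact Subalgebra.algebraMap_mem _ a
    | succ n ih =>
      intro s hs
      have h2 : s ∈ (HomogeneousIdeal.irrelevant 𝒜).toIdeal :=
        HomogeneousIdeal.mem_irrelevant_of_mem 𝒜 (Nat.succ_pos n) hs
      rw [h1] at h2
      obtain ⟨f, -, hf⟩ := Submodule.mem_span_finset.mp h2
      have h3 : s = ∑ y ∈ s', ((DirectSum.decompose 𝒜 (f y) n : 𝒜 n) : S) * y := by
        have h4 : GradedRing.proj 𝒜 (n + 1) s = s := by
          rw [GradedRing.proj_apply, DirectSum.decompose_of_mem_same 𝒜 hs]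
        rw [← h4, ← hf, map_sum]
        refine sum_congr rfl fun y hy => ?_
        rw [GradedRing.proj_apply, smul_eq_mul,
          DirectSum.coe_decompose_mul_of_right_mem_of_le 𝒜 (hs' hy) (by omega)]
        rfl
      rw [h3]
      refine Subalgebra.sum_mem _ fun y hy => ?_
      exact Subalgebra.mul_mem _ (ih _ (SetLike.coe_mem _)) (Algebra.subset_adjoin hy)
  rw [eq_top_iff]
  intro s _
  rw [← DirectSum.sum_support_decompose 𝒜 s]
  exact Subalgebra.sum_mem _ fun i _ => hhom i _ (SetLike.coe_mem _)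

theorem isAdd_clSub (A : Type u) [CommRing A] :
    IsAdd (fun X : ModuleCat.{u} A =>
      KZero.clSub (fun X : ModuleCat.{u} A => Module.Finite A X) X) := by
  constructor
  intro X Y Z _ _ _ _ _ _ hX hY hZ f g hf hfg hg
  have hX' : (fun X : ModuleCat.{u} A => Module.Finite A X) (ModuleCat.of A X) := hX
  have hY' : (fun X : ModuleCat.{u} A => Module.Finite A X) (ModuleCat.of A Y) := hY
  have hZ' : (fun X : ModuleCat.{u} A => Module.Finite A X) (ModuleCat.of A Z) := hZ
  show KZero.clSub _ (ModuleCat.of A Y) =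
    KZero.clSub _ (ModuleCat.of A X) + KZero.clSub _ (ModuleCat.of A Z)
  unfold KZero.clSub
  rw [dif_pos hX', dif_pos hY', dif_pos hZ']
  exact Groth.Agent.Lib.K0PIDH1.rel_of_exact _ hX' hY' hZ' f g hf hg hfg

end Groth.Agent.GH9
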