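import Mathlib

set_option autoImplicit false
set_option maxHeartbeats 1000000

open Matrix

namespace Groth.Agent.Lib.GL2FpH1

variable {p : ℕ} [hp : Fact p.Prime]

lemma eq_of_entries {A B : Matrix (Fin 2) (Fin 2) (ZMod p)} (h00 : A 0 0 = B 0 0)
    (h01 : A 0 1 = B 0 1) (h10 : A 1 0 = B 1 0) (h11 : A 1 1 = B 1 1) : A = B := by
  ext i j
  fin_cases i <;> fin_cases j <;> assumption

lemma mul_apply2 (A B : Matrix (Fin 2) (Fin 2) (ZMod p)) (i j : Fin 2) :
    (A * B) i j = A i 0 * B 0 j + A i 1 * B 1 j := by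
  rw [Matrix.mul_apply, Fin.sum_univ_two]

lemma mulVec_apply2 (A : Matrix (Fin 2) (Fin 2) (ZMod p)) (v : Fin 2 → ZMod p) (i : Fin 2) :
    (A *ᵥ v) i = A i 0 * v 0 + A i 1 * v 1 := by
  rw [Matrix.mulVec, dotProduct, Fin.sum_univ_two]

/-- upper transvection -/
def tv01 (t : ZMod p) : GL (Fin 2) (ZMod p) :=
  ⟨!![1, t; 0, 1], !![1, -t; 0, 1],
    by rw [Matrix.mul_fin_two, Matrix.one_fin_two]; simp,
    by rw [Matrix.mul_fin_two, Matrix.one_fin_two]; simp⟩

/-- lower transvection -/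
def tv10 (t : ZMod p) : GL (Fin 2) (ZMod p) :=
  ⟨!![1, 0; t, 1], !![1, 0; -t, 1],
    by rw [Matrix.mul_fin_two, Matrix.one_fin_two]; simp,
    by rw [Matrix.mul_fin_two, Matrix.one_fin_two]; simp⟩

lemma tv01_val (t : ZMod p) :
    ((tv01 t : GL (Fin 2) (ZMod p)) : Matrix (Fin 2) (Fin 2) (ZMod p)) = !![1, t; 0, 1] := rfl

lemma tv10_val (t : ZMod p) :
    ((tv10 t : GL (Fin 2) (ZMod p)) : Matrix (Fin 2) (Fin 2) (ZMod p)) = !![1, 0; t, 1] := rfl

lemma tv01_add (s t : ZMod p) : tv01 (s + t) = tv01 s * tv01 t := by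
  apply Units.ext
  rw [Units.val_mul, tv01_val, tv01_val, tv01_val, Matrix.mul_fin_two]
  simp [add_comm]

lemma tv10_add (s t : ZMod p) : tv10 (s + t) = tv10 s * tv10 t := by
  apply Units.ext
  rw [Units.val_mul, tv10_val, tv10_val, tv10_val, Matrix.mul_fin_two]
  simp

lemma tv01_zero : tv01 (0 : ZMod p) = 1 := by
  apply Units.ext
  rw [tv01_val, Units.val_one, Matrix.one_fin_two]

lemma tv10_zero : tv10 (0 : ZMod p) = 1 := by
  apply Units.ext
  rw [tv10_val, Units.val_one, Matrix.one_fin_two]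

lemma tv01_pow (t : ZMod p) (n : ℕ) : tv01 t ^ n = tv01 ((n : ZMod p) * t) := by
  induction n with
  | zero => rw [pow_zero, Nat.cast_zero, zero_mul, tv01_zero]
  | succ n ih =>
    rw [pow_succ, ih, ← tv01_add]
    congr 1
    push_cast; ring

lemma tv10_pow (t : ZMod p) (n : ℕ) : tv10 t ^ n = tv10 ((n : ZMod p) * t) := by
  induction n with
  | zero => rw [pow_zero, Nat.cast_zero, zero_mul, tv10_zero]
  | succ n ih =>
    rw [pow_succ, ih, ← tv10_add]
    congr 1
    push_cast; ring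

lemma tv01_mem_all (H : Subgroup (GL (Fin 2) (ZMod p))) (t : ZMod p) (ht : t ≠ 0)
    (h : tv01 t ∈ H) (s : ZMod p) : tv01 s ∈ H := by
  have e : tv01 s = tv01 t ^ (s / t).val := by
    rw [tv01_pow, ZMod.natCast_zmod_val, div_mul_cancel₀ _ ht]
  rw [e]
  exact H.pow_mem h _

lemma tv10_mem_all (H : Subgroup (GL (Fin 2) (ZMod p))) (t : ZMod p) (ht : t ≠ 0)
    (h : tv10 t ∈ H) (s : ZMod p) : tv10 s ∈ H := by
  have e : tv10 s = tv10 t ^ (s / t).val := by
    rw [tv10_pow, ZMod.natCast_zmod_val, div_mul_cancel₀ _ ht]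
  rw [e]
  exact H.pow_mem h _

/-- matrices of determinant one are products of transvections. -/
lemma mem_of_det_one (H : Subgroup (GL (Fin 2) (ZMod p))) (h01 : ∀ t, tv01 t ∈ H)
    (h10 : ∀ t, tv10 t ∈ H) (g : GL (Fin 2) (ZMod p))
    (hdet : (g : Matrix (Fin 2) (Fin 2) (ZMod p)).det = 1) : g ∈ H := by
  have key : ∀ g : GL (Fin 2) (ZMod p), (g : Matrix (Fin 2) (Fin 2) (ZMod p)).det = 1 →
      (g : Matrix (Fin 2) (Fin 2) (ZMod p)) 1 0 ≠ 0 → g ∈ H := by
    intro g hdet hc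
    rw [Matrix.det_fin_two] at hdet
    set a := (g : Matrix (Fin 2) (Fin 2) (ZMod p)) 0 0 with ha
    set b := (g : Matrix (Fin 2) (Fin 2) (ZMod p)) 0 1 with hb
    set c := (g : Matrix (Fin 2) (Fin 2) (ZMod p)) 1 0 with hc'
    set d := (g : Matrix (Fin 2) (Fin 2) (ZMod p)) 1 1 with hd
    have e : g = tv01 ((a - 1) / c) * tv10 c * tv01 ((d - 1) / c) := by
      apply Units.ext
      rw [Units.val_mul, Units.val_mul, tv01_val, tv10_val, tv01_val, Matrix.mul_fin_two,
        Matrix.mul_fin_two]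
      apply eq_of_entries
      · show a = _
        simp only [Matrix.of_apply, Matrix.cons_val_zero, Matrix.cons_val', Matrix.cons_val_fin_one]
        field_simp
        ring
      · show b = _
        simp only [Matrix.of_apply, Matrix.cons_val_zero, Matrix.cons_val_one, Matrix.cons_val',
          Matrix.cons_val_fin_one]
        field_simp
        linear_combination (-1 : ZMod p) * hdet
      · show c = _
        simp only [Matrix.of_apply, Matrix.cons_val_zero, Matrix.cons_val_one, Matrix.cons_val',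
          Matrix.cons_val_fin_one]
        ring
      · show d = _
        simp only [Matrix.of_apply, Matrix.cons_val_zero, Matrix.cons_val_one, Matrix.cons_val',
          Matrix.cons_val_fin_one]
        field_simp
        ring
    rw [e]
    exact H.mul_mem (H.mul_mem (h01 _) (h10 _)) (h01 _)
  by_cases hc : (g : Matrix (Fin 2) (Fin 2) (ZMod p)) 1 0 = 0
  · have hg' : tv10 1 * g ∈ H := by
      apply key
      · rw [Units.val_mul, Matrix.det_mul, hdet, tv10_val, Matrix.det_fin_two_of]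
        ring
      · rw [Units.val_mul, mul_apply2, tv10_val]
        simp only [Matrix.of_apply, Matrix.cons_val_zero, Matrix.cons_val_one, Matrix.cons_val',
          Matrix.cons_val_fin_one]
        rw [hc, mul_zero, add_zero, one_mul]
        intro h0
        rw [Matrix.det_fin_two, h0, hc] at hdet
        simp at hdet
    have : g = (tv10 1)⁻¹ * (tv10 1 * g) := by group
    rw [this]
    exact H.mul_mem (H.inv_mem (h10 1)) hg'
  · exact key g hdet hc

/-- an element of `p`-power order one has a nonzero fixed vector. -/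
lemma exists_fixed_vec (u : GL (Fin 2) (ZMod p)) (hu : u ^ p = 1) :
    ∃ v : Fin 2 → ZMod p, v ≠ 0 ∧ (u : Matrix (Fin 2) (Fin 2) (ZMod p)) *ᵥ v = v := by
  have hN : ((u : Matrix (Fin 2) (Fin 2) (ZMod p)) - 1) ^ p = 0 := by
    rw [sub_pow_char_of_commute p (Commute.one_right _), one_pow, ← Units.val_pow_eq_pow_val, hu,
      Units.val_one, sub_self]
  have hdet : ((u : Matrix (Fin 2) (Fin 2) (ZMod p)) - 1).det = 0 := by
    have := congrArg Matrix.det hN
    rw [Matrix.det_pow, Matrix.det_zero] at this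
    exact pow_eq_zero_iff (hp.1.ne_zero) |>.mp this
  obtain ⟨v, hv, hv0⟩ := Matrix.exists_mulVec_eq_zero_iff.mpr hdet
  refine ⟨v, hv, ?_⟩
  rw [Matrix.sub_mulVec, Matrix.one_mulVec, sub_eq_zero] at hv0
  exact hv0

lemma pow_lower (A : Matrix (Fin 2) (Fin 2) (ZMod p)) (h : A 1 0 = 0) (n : ℕ) :
    (A ^ n) 1 0 = 0 ∧ (A ^ n) 1 1 = (A 1 1) ^ n := by
  induction n with
  | zero => simp
  | succ n ih =>
    rw [pow_succ, mul_apply2, mul_apply2, ih.1, ih.2, h]
    constructor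
    · ring
    · ring

lemma pow_upper (A : Matrix (Fin 2) (Fin 2) (ZMod p)) (h : A 0 1 = 0) (n : ℕ) :
    (A ^ n) 0 1 = 0 ∧ (A ^ n) 0 0 = (A 0 0) ^ n := by
  induction n with
  | zero => simp
  | succ n ih =>
    rw [pow_succ, mul_apply2, mul_apply2, ih.1, ih.2, h]
    constructor
    · ring
    · ring


section CE

variable (C : Subgroup (GL (Fin 2) (ZMod p))) (E : Subring (Matrix (Fin 2) (Fin 2) (ZMod p)))
  (hE : IsField E) (hcard : Nat.card E = p ^ 2)
  (hset : (E : Set (Matrix (Fin 2) (Fin 2) (ZMod p))) =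
    insert 0 ((fun g : GL (Fin 2) (ZMod p) => (g : Matrix (Fin 2) (Fin 2) (ZMod p))) ''
      (C : Set (GL (Fin 2) (ZMod p)))))

include hset in
lemma mem_E_of_C {c : GL (Fin 2) (ZMod p)} (hc : c ∈ C) :
    (c : Matrix (Fin 2) (Fin 2) (ZMod p)) ∈ E := by
  have : (c : Matrix (Fin 2) (Fin 2) (ZMod p)) ∈ (E : Set (Matrix (Fin 2) (Fin 2) (ZMod p))) := by
    rw [hset]
    exact Or.inr ⟨c, hc, rfl⟩
  exact this

include hset in
lemma exists_C_of_mem_E {x : Matrix (Fin 2) (Fin 2) (ZMod p)} (hx : x ∈ E) (hx0 : x ≠ 0) :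
    ∃ c ∈ C, (c : Matrix (Fin 2) (Fin 2) (ZMod p)) = x := by
  have : x ∈ (E : Set (Matrix (Fin 2) (Fin 2) (ZMod p))) := hx
  rw [hset] at this
  rcases this with h | ⟨c, hc, rfl⟩
  · exact absurd h hx0
  · exact ⟨c, hc, rfl⟩

include hcard hset in
lemma exists_C_map (v w : Fin 2 → ZMod p) (hv : v ≠ 0) (hw : w ≠ 0) :
    ∃ c ∈ C, (c : Matrix (Fin 2) (Fin 2) (ZMod p)) *ᵥ v = w := by
  set Φ : E → (Fin 2 → ZMod p) := fun x => (x : Matrix (Fin 2) (Fin 2) (ZMod p)) *ᵥ v with hΦ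
  have hinj : Function.Injective Φ := by
    intro x y hxy
    by_contra hne
    have hz : ((x : Matrix (Fin 2) (Fin 2) (ZMod p)) - (y : Matrix (Fin 2) (Fin 2) (ZMod p))) *ᵥ v = 0 := by
      rw [Matrix.sub_mulVec]
      exact sub_eq_zero.mpr hxy
    have hz0 : (x : Matrix (Fin 2) (Fin 2) (ZMod p)) - (y : Matrix (Fin 2) (Fin 2) (ZMod p)) ≠ 0 := by
      intro h
      exact hne (Subtype.ext (sub_eq_zero.mp h))
    obtain ⟨c, -, hc⟩ := exists_C_of_mem_E C E hset (E.sub_mem x.2 y.2) hz0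
    rw [← hc] at hz
    apply hv
    have : v = ((c⁻¹ : GL (Fin 2) (ZMod p)) : Matrix (Fin 2) (Fin 2) (ZMod p)) *ᵥ
        ((c : Matrix (Fin 2) (Fin 2) (ZMod p)) *ᵥ v) := by
      rw [Matrix.mulVec_mulVec, Units.inv_mul, Matrix.one_mulVec]
    rw [this, hz, Matrix.mulVec_zero]
  have hbij : Function.Bijective Φ := by
    apply hinj.bijective_of_nat_card_le
    rw [hcard, Nat.card_eq_fintype_card, Fintype.card_fun, ZMod.card, Fintype.card_fin]
  obtain ⟨x, hx⟩ := hbij.2 w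
  have hx0 : (x : Matrix (Fin 2) (Fin 2) (ZMod p)) ≠ 0 := by
    intro h
    apply hw
    rw [← hx, hΦ]
    simp only [h, Matrix.zero_mulVec]
  obtain ⟨c, hcC, hc⟩ := exists_C_of_mem_E C E hset x.2 hx0
  exact ⟨c, hcC, by rw [hc]; exact hx⟩

include hcard hset in
lemma conj01 (H : Subgroup (GL (Fin 2) (ZMod p))) (hCH : C ≤ H) (u : GL (Fin 2) (ZMod p))
    (huH : u ∈ H) (hup : u ^ p = 1) (hu1 : u ≠ 1) (v : Fin 2 → ZMod p) (hv : v ≠ 0)
    (hfix : (u : Matrix (Fin 2) (Fin 2) (ZMod p)) *ᵥ v = v) :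
    ∃ t : ZMod p, t ≠ 0 ∧ tv01 t ∈ H := by
  have hw : (![1, 0] : Fin 2 → ZMod p) ≠ 0 := by
    intro h
    have := congrFun h 0
    simp at this
  obtain ⟨c, hcC, hcv⟩ := exists_C_map C E hcard hset v ![1, 0] hv hw
  set u₁ := c * u * c⁻¹ with hu₁
  have hu₁H : u₁ ∈ H := H.mul_mem (H.mul_mem (hCH hcC) huH) (H.inv_mem (hCH hcC))
  have hu₁p : u₁ ^ p = 1 := by rw [hu₁, conj_pow, hup, mul_one, mul_inv_cancel]
  have hcinv : ((c⁻¹ : GL (Fin 2) (ZMod p)) : Matrix (Fin 2) (Fin 2) (ZMod p)) *ᵥ ![1, 0] = v := by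
    rw [← hcv, Matrix.mulVec_mulVec, Units.inv_mul, Matrix.one_mulVec]
  have hf : (u₁ : Matrix (Fin 2) (Fin 2) (ZMod p)) *ᵥ ![1, 0] = ![1, 0] := by
    rw [hu₁, Units.val_mul, Units.val_mul, ← Matrix.mulVec_mulVec, ← Matrix.mulVec_mulVec, hcinv,
      hfix, hcv]
  have h00 : (u₁ : Matrix (Fin 2) (Fin 2) (ZMod p)) 0 0 = 1 := by
    have := congrFun hf 0
    rw [mulVec_apply2] at this
    simpa using this
  have h10 : (u₁ : Matrix (Fin 2) (Fin 2) (ZMod p)) 1 0 = 0 := by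
    have := congrFun hf 1
    rw [mulVec_apply2] at this
    simpa using this
  have h11 : (u₁ : Matrix (Fin 2) (Fin 2) (ZMod p)) 1 1 = 1 := by
    have h := (pow_lower (u₁ : Matrix (Fin 2) (Fin 2) (ZMod p)) h10 p).2
    rw [← Units.val_pow_eq_pow_val, hu₁p, Units.val_one, Matrix.one_apply_eq, ZMod.pow_card] at h
    exact h.symm
  have e : u₁ = tv01 ((u₁ : Matrix (Fin 2) (Fin 2) (ZMod p)) 0 1) := by
    apply Units.ext
    rw [tv01_val]
    apply eq_of_entries
    · rw [h00]; rfl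
    · rfl
    · rw [h10]; rfl
    · rw [h11]; rfl
  refine ⟨(u₁ : Matrix (Fin 2) (Fin 2) (ZMod p)) 0 1, ?_, by rw [← e]; exact hu₁H⟩
  intro h0
  rw [h0, tv01_zero, hu₁, conj_eq_one_iff] at e
  exact hu1 e

include hcard hset in
lemma conj10 (H : Subgroup (GL (Fin 2) (ZMod p))) (hCH : C ≤ H) (u : GL (Fin 2) (ZMod p))
    (huH : u ∈ H) (hup : u ^ p = 1) (hu1 : u ≠ 1) (v : Fin 2 → ZMod p) (hv : v ≠ 0)
    (hfix : (u : Matrix (Fin 2) (Fin 2) (ZMod p)) *ᵥ v = v) :
    ∃ t : ZMod p, t ≠ 0 ∧ tv10 t ∈ H := by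
  have hw : (![0, 1] : Fin 2 → ZMod p) ≠ 0 := by
    intro h
    have := congrFun h 1
    simp at this
  obtain ⟨c, hcC, hcv⟩ := exists_C_map C E hcard hset v ![0, 1] hv hw
  set u₁ := c * u * c⁻¹ with hu₁
  have hu₁H : u₁ ∈ H := H.mul_mem (H.mul_mem (hCH hcC) huH) (H.inv_mem (hCH hcC))
  have hu₁p : u₁ ^ p = 1 := by rw [hu₁, conj_pow, hup, mul_one, mul_inv_cancel]
  have hcinv : ((c⁻¹ : GL (Fin 2) (ZMod p)) : Matrix (Fin 2) (Fin 2) (ZMod p)) *ᵥ ![0, 1] = v := by
    rw [← hcv, Matrix.mulVec_mulVec, Units.inv_mul, Matrix.one_mulVec]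
  have hf : (u₁ : Matrix (Fin 2) (Fin 2) (ZMod p)) *ᵥ ![0, 1] = ![0, 1] := by
    rw [hu₁, Units.val_mul, Units.val_mul, ← Matrix.mulVec_mulVec, ← Matrix.mulVec_mulVec, hcinv,
      hfix, hcv]
  have h01 : (u₁ : Matrix (Fin 2) (Fin 2) (ZMod p)) 0 1 = 0 := by
    have := congrFun hf 0
    rw [mulVec_apply2] at this
    simpa using this
  have h11 : (u₁ : Matrix (Fin 2) (Fin 2) (ZMod p)) 1 1 = 1 := by
    have := congrFun hf 1
    rw [mulVec_apply2] at this
    simpa using this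
  have h00 : (u₁ : Matrix (Fin 2) (Fin 2) (ZMod p)) 0 0 = 1 := by
    have h := (pow_upper (u₁ : Matrix (Fin 2) (Fin 2) (ZMod p)) h01 p).2
    rw [← Units.val_pow_eq_pow_val, hu₁p, Units.val_one, Matrix.one_apply_eq, ZMod.pow_card] at h
    exact h.symm
  have e : u₁ = tv10 ((u₁ : Matrix (Fin 2) (Fin 2) (ZMod p)) 1 0) := by
    apply Units.ext
    rw [tv10_val]
    apply eq_of_entries
    · rw [h00]; rfl
    · rw [h01]; rfl
    · rfl
    · rw [h11]; rfl
  refine ⟨(u₁ : Matrix (Fin 2) (Fin 2) (ZMod p)) 1 0, ?_, by rw [← e]; exact hu₁H⟩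
  intro h0
  rw [h0, tv10_zero, hu₁, conj_eq_one_iff] at e
  exact hu1 e


include hcard hset in
lemma card_C : Nat.card C = p ^ 2 - 1 := by
  have h1 : Nat.card E = (E : Set (Matrix (Fin 2) (Fin 2) (ZMod p))).ncard := rfl
  rw [hset, Set.ncard_insert_of_notMem, Set.ncard_image_of_injective _ (fun a b h => Units.ext h),
    hcard] at h1
  · have h2 : (C : Set (GL (Fin 2) (ZMod p))).ncard = Nat.card C := rfl
    omega
  · rintro ⟨c, -, hc⟩
    exact c.ne_zero hc

lemma smul_one_mem (τ : ZMod p) :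
    τ • (1 : Matrix (Fin 2) (Fin 2) (ZMod p)) ∈ E := by
  have : τ • (1 : Matrix (Fin 2) (Fin 2) (ZMod p))
      = τ.val • (1 : Matrix (Fin 2) (Fin 2) (ZMod p)) := by
    rw [← Nat.cast_smul_eq_nsmul (ZMod p), ZMod.natCast_zmod_val]
  rw [this]
  exact nsmul_mem E.one_mem _

lemma CH (x : Matrix (Fin 2) (Fin 2) (ZMod p)) :
    x * x = (x 0 0 + x 1 1) • x - (x 0 0 * x 1 1 - x 0 1 * x 1 0) •
      (1 : Matrix (Fin 2) (Fin 2) (ZMod p)) := by
  apply eq_of_entries <;>
    simp [mul_apply2, Matrix.sub_apply, Matrix.smul_apply, Matrix.one_apply] <;> ring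

lemma frob_quad (x : Matrix (Fin 2) (Fin 2) (ZMod p)) (τ δ : ZMod p)
    (h : x * x = τ • x - δ • (1 : Matrix (Fin 2) (Fin 2) (ZMod p))) :
    x ^ p * x ^ p = τ • x ^ p - δ • (1 : Matrix (Fin 2) (Fin 2) (ZMod p)) := by
  have h1 : (x * x) ^ p = x ^ p * x ^ p := (Commute.refl x).mul_pow p
  have hc : Commute (τ • x) (δ • (1 : Matrix (Fin 2) (Fin 2) (ZMod p))) :=
    (Commute.one_right _).smul_right δ
  rw [← h1, h, sub_pow_char_of_commute p hc, smul_pow, smul_pow, one_pow, ZMod.pow_card,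
    ZMod.pow_card]

include hE hcard hset in
lemma det_surj (a : ZMod p) (ha : a ≠ 0) :
    ∃ c ∈ C, (c : Matrix (Fin 2) (Fin 2) (ZMod p)).det = a := by
  classical
  letI : CommRing E := { (inferInstance : Ring E) with mul_comm := hE.mul_comm }
  haveI : IsDomain E := hE.isDomain
  let f : C →* E :=
    { toFun := fun c => ⟨((c : GL (Fin 2) (ZMod p)) : Matrix (Fin 2) (Fin 2) (ZMod p)),
        mem_E_of_C C E hset c.2⟩
      map_one' := rfl
      map_mul' := fun a b => rfl }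
  have hfinj : Function.Injective f := fun a b h =>
    Subtype.ext (Units.ext (congrArg Subtype.val h))
  haveI : IsCyclic C := isCyclic_of_injective_ringHom f hfinj
  obtain ⟨g, hg⟩ := IsCyclic.exists_generator (α := C)
  have hp2 : 2 ≤ p := hp.1.two_le
  have hpp : 2 * p ≤ p ^ 2 := by rw [sq]; exact Nat.mul_le_mul_right p hp2
  have hord : orderOf g = p ^ 2 - 1 := by
    rw [orderOf_eq_card_of_forall_mem_zpowers hg, card_C C E hcard hset]
  set x : Matrix (Fin 2) (Fin 2) (ZMod p) :=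
    ((g : GL (Fin 2) (ZMod p)) : Matrix (Fin 2) (Fin 2) (ZMod p)) with hx
  have hxE : x ∈ E := mem_E_of_C C E hset g.2
  have hne : x ^ p ≠ x := by
    intro h
    have h1 : g ^ p = g := by
      apply Subtype.ext
      apply Units.ext
      rw [Subgroup.coe_pow, Units.val_pow_eq_pow_val]
      exact h
    have h2 : g ^ (p - 1) = 1 := by
      have : g ^ (p - 1) * g = g := by
        rw [← pow_succ, Nat.sub_add_cancel (by omega), h1]
      simpa using this
    have h3 : (p ^ 2 - 1) ∣ (p - 1) := hord ▸ orderOf_dvd_of_pow_eq_one h2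
    have := Nat.le_of_dvd (by omega) h3
    omega
  set τ := x 0 0 + x 1 1 with hτ
  set δ := x 0 0 * x 1 1 - x 0 1 * x 1 0 with hδdef
  have hCH := CH x
  have hy := frob_quad x τ δ hCH
  have hdetx : x.det = δ := Matrix.det_fin_two x
  have hsum : x + x ^ p = τ • (1 : Matrix (Fin 2) (Fin 2) (ZMod p)) := by
    have hcomm : x * x ^ p = x ^ p * x := ((Commute.refl x).pow_right p).eq
    have hfac : (x - x ^ p) * (x + x ^ p - τ • (1 : Matrix (Fin 2) (Fin 2) (ZMod p))) = 0 := by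
      have e : (x - x ^ p) * (x + x ^ p - τ • (1 : Matrix (Fin 2) (Fin 2) (ZMod p)))
          = (x * x - τ • x) - (x ^ p * x ^ p - τ • x ^ p) + (x * x ^ p - x ^ p * x) := by
        simp only [sub_mul, mul_sub, mul_add, mul_smul_comm, mul_one, smul_sub, smul_add]
        abel
      rw [e, hCH, hy, hcomm]
      abel
    have hyE : x ^ p ∈ E := E.pow_mem hxE p
    have hτE := smul_one_mem E τ
    have hfacE : ((⟨x, hxE⟩ : E) - ⟨x ^ p, hyE⟩) *
        ((⟨x, hxE⟩ : E) + ⟨x ^ p, hyE⟩ - ⟨τ • 1, hτE⟩) = 0 := Subtype.ext hfac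
    rcases mul_eq_zero.mp hfacE with h | h
    · exfalso
      apply hne
      have := congrArg Subtype.val (sub_eq_zero.mp h)
      exact this.symm
    · have := congrArg Subtype.val (sub_eq_zero.mp h)
      exact this
  have hδ : δ • (1 : Matrix (Fin 2) (Fin 2) (ZMod p)) = x ^ (p + 1) := by
    rw [pow_succ]
    have e1 : δ • (1 : Matrix (Fin 2) (Fin 2) (ZMod p)) = τ • x - x * x := by rw [hCH]; abel
    have hτx : τ • x = (x + x ^ p) * x := by rw [hsum, smul_mul_assoc, one_mul]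
    rw [e1, hτx, add_mul]
    abel
  have haE : a • (1 : Matrix (Fin 2) (Fin 2) (ZMod p)) ∈ E := smul_one_mem E a
  have ha0 : a • (1 : Matrix (Fin 2) (Fin 2) (ZMod p)) ≠ 0 := by
    intro h
    have := congrFun (congrFun h 0) 0
    simp at this
    exact ha this
  obtain ⟨ca, hcaC, hca⟩ := exists_C_of_mem_E C E hset haE ha0
  obtain ⟨j, hj⟩ := mem_powers_iff_mem_zpowers.mpr (hg ⟨ca, hcaC⟩)
  have hj' : g ^ j = ⟨ca, hcaC⟩ := hj
  have hca1 : (⟨ca, hcaC⟩ : C) ^ (p - 1) = 1 := by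
    apply Subtype.ext
    apply Units.ext
    rw [Subgroup.coe_pow, Units.val_pow_eq_pow_val, Subgroup.coe_one, Units.val_one]
    show (ca : Matrix (Fin 2) (Fin 2) (ZMod p)) ^ (p - 1) = 1
    rw [hca, smul_pow, one_pow, ZMod.pow_card_sub_one_eq_one ha, one_smul]
  have hdvd : (p + 1) ∣ j := by
    have h1 : g ^ (j * (p - 1)) = 1 := by rw [pow_mul, hj', hca1]
    have h2 : (p ^ 2 - 1) ∣ j * (p - 1) := hord ▸ orderOf_dvd_of_pow_eq_one h1
    have h3 : p ^ 2 - 1 = (p + 1) * (p - 1) := by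
      obtain ⟨q, rfl⟩ : ∃ q, p = q + 1 := ⟨p - 1, by omega⟩
      simp only [Nat.add_sub_cancel]
      ring_nf
      omega
    rw [h3] at h2
    exact Nat.dvd_of_mul_dvd_mul_right (by omega) h2
  obtain ⟨m, rfl⟩ := hdvd
  refine ⟨((g ^ m : C) : GL (Fin 2) (ZMod p)), (g ^ m).2, ?_⟩
  have hxm : (((g ^ m : C) : GL (Fin 2) (ZMod p)) : Matrix (Fin 2) (Fin 2) (ZMod p)) = x ^ m := by
    rw [Subgroup.coe_pow, Units.val_pow_eq_pow_val]
  rw [hxm, Matrix.det_pow, hdetx]
  have hfin : (δ ^ m) • (1 : Matrix (Fin 2) (Fin 2) (ZMod p)) = a • 1 := by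
    rw [← hca]
    have e2 : ((ca : GL (Fin 2) (ZMod p)) : Matrix (Fin 2) (Fin 2) (ZMod p)) = x ^ ((p + 1) * m) := by
      have := congrArg (fun z : C => ((z : GL (Fin 2) (ZMod p)) : Matrix (Fin 2) (Fin 2) (ZMod p))) hj'
      simp only [Subgroup.coe_pow, Units.val_pow_eq_pow_val] at this
      exact this.symm
    rw [e2, pow_mul, ← hδ, smul_pow, one_pow]
  have := congrFun (congrFun hfin 0) 0
  simpa using this

end CE

theorem main15361 (p : ℕ) [Fact p.Prime]
    (H : Subgroup (GL (Fin 2) (ZMod p))) :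
    H = ⊤ ↔
      (∃ (C : Subgroup (GL (Fin 2) (ZMod p))) (E : Subring (Matrix (Fin 2) (Fin 2) (ZMod p))),
          C ≤ H ∧ IsField E ∧ Nat.card E = p ^ 2 ∧
            (E : Set (Matrix (Fin 2) (Fin 2) (ZMod p))) =
              insert 0 ((fun g : GL (Fin 2) (ZMod p) => (g : Matrix (Fin 2) (Fin 2) (ZMod p))) ''
                (C : Set (GL (Fin 2) (ZMod p))))) ∧
        p ∣ Nat.card H := by
  have hpr : p.Prime := Fact.out
  constructor
  · rintro rfl
    refine ⟨?_, ?_⟩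
    · have hfr : Module.finrank (ZMod p) (GaloisField p 2) = 2 := GaloisField.finrank p two_ne_zero
      let b : Module.Basis (Fin 2) (ZMod p) (GaloisField p 2) := Module.finBasisOfFinrankEq _ _ hfr
      let φ := Algebra.leftMulMatrix b
      have hφ : Function.Injective φ := Algebra.leftMulMatrix_injective b
      refine ⟨(Units.map (φ : GaloisField p 2 →* Matrix (Fin 2) (Fin 2) (ZMod p))).range,
        φ.toRingHom.range, le_top, ?_, ?_, ?_⟩
      · let e : GaloisField p 2 ≃+* φ.toRingHom.range :=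
          RingEquiv.ofBijective φ.toRingHom.rangeRestrict
            ⟨fun x y h => hφ (congrArg Subtype.val h), φ.toRingHom.rangeRestrict_surjective⟩
        exact e.symm.toMulEquiv.isField (Field.toIsField _)
      · let e : GaloisField p 2 ≃+* φ.toRingHom.range :=
          RingEquiv.ofBijective φ.toRingHom.rangeRestrict
            ⟨fun x y h => hφ (congrArg Subtype.val h), φ.toRingHom.rangeRestrict_surjective⟩
        rw [← Nat.card_congr e.toEquiv, GaloisField.card p 2 two_ne_zero]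
      · ext x
        constructor
        · rintro ⟨k, rfl⟩
          by_cases hk : k = 0
          · left; rw [hk]; exact map_zero _
          · right
            exact ⟨Units.map (φ : GaloisField p 2 →* Matrix (Fin 2) (Fin 2) (ZMod p))
              (Units.mk0 k hk), ⟨_, rfl⟩, rfl⟩
        · rintro (h | ⟨c, ⟨ku, rfl⟩, rfl⟩)
          · rw [h]; exact Subring.zero_mem _
          · exact ⟨(ku : GaloisField p 2), rfl⟩
    · rw [Subgroup.card_top]
      have h1 : (tv01 (1 : ZMod p)) ^ p = 1 := by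
        rw [tv01_pow, mul_one, CharP.cast_eq_zero, tv01_zero]
      have h2 : tv01 (1 : ZMod p) ≠ 1 := by
        intro h
        have := congrArg (fun g : GL (Fin 2) (ZMod p) =>
          (g : Matrix (Fin 2) (Fin 2) (ZMod p)) 0 1) h
        simp [tv01_val] at this
      have := orderOf_dvd_natCard (tv01 (1 : ZMod p))
      rwa [orderOf_eq_prime h1 h2] at this
  · rintro ⟨⟨C, E, hCH, hE, hcard, hset⟩, hpH⟩
    obtain ⟨x, hx⟩ := exists_prime_orderOf_dvd_card' (G := H) p hpH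
    have hu : orderOf (x : GL (Fin 2) (ZMod p)) = p := (Subgroup.orderOf_coe x).trans hx
    have hup : (x : GL (Fin 2) (ZMod p)) ^ p = 1 := by
      have := pow_orderOf_eq_one (x : GL (Fin 2) (ZMod p))
      rwa [hu] at this
    have hu1 : (x : GL (Fin 2) (ZMod p)) ≠ 1 := by
      intro h
      rw [h, orderOf_one] at hu
      exact hpr.one_lt.ne hu
    obtain ⟨v, hv, hfix⟩ := exists_fixed_vec (x : GL (Fin 2) (ZMod p)) hup
    obtain ⟨t1, ht1, h1⟩ := conj01 C E hcard hset H hCH _ x.2 hup hu1 v hv hfix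
    obtain ⟨t2, ht2, h2⟩ := conj10 C E hcard hset H hCH _ x.2 hup hu1 v hv hfix
    rw [Subgroup.eq_top_iff']
    intro g
    have hdet0 : (g : Matrix (Fin 2) (Fin 2) (ZMod p)).det ≠ 0 :=
      ((Matrix.isUnit_iff_isUnit_det _).mp g.isUnit).ne_zero
    obtain ⟨c, hcC, hcdet⟩ := det_surj C E hE hcard hset _ hdet0
    have e : g = c * (c⁻¹ * g) := by group
    rw [e]
    refine H.mul_mem (hCH hcC) (mem_of_det_one H (tv01_mem_all H t1 ht1 h1)
      (tv10_mem_all H t2 ht2 h2) _ ?_)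
    rw [Units.val_mul, Matrix.det_mul, ← hcdet, ← Matrix.det_mul, Units.inv_mul, Matrix.det_one]

end Groth.Agent.Lib.GL2FpH1
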