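import Mathlib

/-!
# Surjectivity criterion for continuous homomorphisms to `GL₂(ℤ_p)` (helper1; S15360)
-/

set_option autoImplicit false
set_option linter.unusedVariables false
set_option linter.unusedSectionVars false
set_option linter.style.longLine false
set_option maxHeartbeats 1600000

open Matrix

namespace Groth.Agent.Lib.GL2SurjH1

section General

variable {R : Type*} [CommRing R]

/-- Reduction of `2 × 2` matrices modulo an ideal. -/
noncomputable def qM (I : Ideal R) :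
    Matrix (Fin 2) (Fin 2) R →+* Matrix (Fin 2) (Fin 2) (R ⧸ I) :=
  (Ideal.Quotient.mk I).mapMatrix

theorem qM_apply (I : Ideal R) (X : Matrix (Fin 2) (Fin 2) R) (i j : Fin 2) :
    qM I X i j = Ideal.Quotient.mk I (X i j) := rfl

theorem qM_eq_iff (I : Ideal R) (X Y : Matrix (Fin 2) (Fin 2) R) :
    qM I X = qM I Y ↔ ∀ i j, X i j - Y i j ∈ I := by
  constructor
  · intro h i j
    have h2 : qM I X i j = qM I Y i j := by rw [h]
    rw [qM_apply, qM_apply] at h2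
    exact Ideal.Quotient.eq.1 h2
  · intro h
    ext i j
    rw [qM_apply, qM_apply]
    exact Ideal.Quotient.eq.2 (h i j)

variable (p : R) {G : Type*} [Group G] (ϕ : G →* GL (Fin 2) R)

/-- Some element of the image is `≡ 1 + p^n X` modulo `p^(n+1)`. -/
def P (n : ℕ) (X : Matrix (Fin 2) (Fin 2) R) : Prop :=
  ∃ k : G, qM (Ideal.span {p ^ (n + 1)}) (ϕ k : Matrix (Fin 2) (Fin 2) R) =
    qM (Ideal.span {p ^ (n + 1)}) (1 + p ^ n • X)

theorem qM_pow_smul_congr (n : ℕ) (X X' : Matrix (Fin 2) (Fin 2) R)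
    (h : ∀ i j, X i j - X' i j ∈ Ideal.span {p}) :
    qM (Ideal.span {p ^ (n + 1)}) (p ^ n • X) = qM (Ideal.span {p ^ (n + 1)}) (p ^ n • X') := by
  rw [qM_eq_iff]
  intro i j
  obtain ⟨z, hz⟩ := Ideal.mem_span_singleton'.1 (h i j)
  rw [Matrix.smul_apply, Matrix.smul_apply, smul_eq_mul, smul_eq_mul, ← mul_sub, ← hz]
  exact Ideal.mem_span_singleton'.2 ⟨z, by ring⟩

theorem P_congr (n : ℕ) (X X' : Matrix (Fin 2) (Fin 2) R)
    (h : ∀ i j, X i j - X' i j ∈ Ideal.span {p}) : P p ϕ n X' → P p ϕ n X := by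
  rintro ⟨k, hk⟩
  refine ⟨k, hk.trans ?_⟩
  rw [map_add, map_add, qM_pow_smul_congr p n X X' h]

theorem P_zero (n : ℕ) : P p ϕ n 0 :=
  ⟨1, by rw [map_one ϕ, Units.val_one, smul_zero, add_zero]⟩

theorem P_add (n : ℕ) (hn : 1 ≤ n) (X Y : Matrix (Fin 2) (Fin 2) R) :
    P p ϕ n X → P p ϕ n Y → P p ϕ n (X + Y) := by
  rintro ⟨k, hk⟩ ⟨k', hk'⟩
  refine ⟨k * k', ?_⟩
  rw [map_mul ϕ, Units.val_mul, map_mul (qM _), hk, hk', ← map_mul]
  rw [qM_eq_iff]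
  have hexp : (1 + p ^ n • X) * (1 + p ^ n • Y) - (1 + p ^ n • (X + Y)) =
      (p ^ n * p ^ n) • (X * Y) := by
    rw [add_mul, mul_add, mul_add, one_mul, mul_one, one_mul, Matrix.smul_mul, Matrix.mul_smul,
      smul_smul, smul_add]
    abel
  have h2 : p ^ n * p ^ n = p ^ (n + 1) * p ^ (n - 1) := by
    rw [← pow_add, ← pow_add]
    congr 1
    omega
  intro i j
  rw [← Matrix.sub_apply, hexp, Matrix.smul_apply, smul_eq_mul, h2, mul_assoc]
  exact Ideal.mul_mem_right _ _ (Ideal.mem_span_singleton_self _)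

theorem P_nsmul (n : ℕ) (hn : 1 ≤ n) (m : ℕ) (X : Matrix (Fin 2) (Fin 2) R)
    (h : P p ϕ n X) : P p ϕ n (m • X) := by
  induction m with
  | zero =>
    rw [zero_smul]
    exact P_zero p ϕ n
  | succ m ih =>
    rw [succ_nsmul]
    exact P_add p ϕ n hn _ _ ih h

theorem P_smul (n : ℕ) (hn : 1 ≤ n) (hrep : ∀ r : R, ∃ m : ℕ, r - (m : R) ∈ Ideal.span {p})
    (r : R) (X : Matrix (Fin 2) (Fin 2) R) (h : P p ϕ n X) : P p ϕ n (r • X) := by
  obtain ⟨m, hm⟩ := hrep r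
  refine P_congr p ϕ n _ _ ?_ (P_nsmul p ϕ n hn m X h)
  intro i j
  rw [Matrix.smul_apply, Matrix.smul_apply, smul_eq_mul, nsmul_eq_mul, ← sub_mul]
  exact Ideal.mul_mem_right _ _ hm

theorem P_conj (n : ℕ)
    (hsurj : ∀ A : GL (Fin 2) R, ∃ h : G, qM (Ideal.span {p}) (ϕ h : Matrix (Fin 2) (Fin 2) R) =
      qM (Ideal.span {p}) (A : Matrix (Fin 2) (Fin 2) R))
    (A : GL (Fin 2) R) (X : Matrix (Fin 2) (Fin 2) R) (hX : P p ϕ n X) :
    P p ϕ n ((A : Matrix (Fin 2) (Fin 2) R) * X * ((A⁻¹ : GL (Fin 2) R) : Matrix (Fin 2) (Fin 2) R)) := by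
  obtain ⟨k, hk⟩ := hX
  obtain ⟨h, hh⟩ := hsurj A
  have h1 : P p ϕ n ((ϕ h : Matrix (Fin 2) (Fin 2) R) * X *
      (((ϕ h)⁻¹ : GL (Fin 2) R) : Matrix (Fin 2) (Fin 2) R)) := by
    refine ⟨h * k * h⁻¹, ?_⟩
    rw [map_mul ϕ, map_mul ϕ, map_inv ϕ, Units.val_mul, Units.val_mul, map_mul (qM _),
      map_mul (qM _), hk, ← map_mul, ← map_mul]
    congr 1
    rw [mul_add, add_mul, mul_one, Units.mul_inv, Matrix.mul_smul, Matrix.smul_mul]
  refine P_congr p ϕ n _ _ ((qM_eq_iff _ _ _).1 ?_) h1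
  have hinv : qM (Ideal.span {p}) ((A⁻¹ : GL (Fin 2) R) : Matrix (Fin 2) (Fin 2) R) =
      qM (Ideal.span {p}) (((ϕ h)⁻¹ : GL (Fin 2) R) : Matrix (Fin 2) (Fin 2) R) := by
    have e1 : qM (Ideal.span {p}) (A : Matrix (Fin 2) (Fin 2) R) *
        qM (Ideal.span {p}) ((A⁻¹ : GL (Fin 2) R) : Matrix (Fin 2) (Fin 2) R) = 1 := by
      rw [← map_mul, Units.mul_inv, map_one]
    have e2 : qM (Ideal.span {p}) (((ϕ h)⁻¹ : GL (Fin 2) R) : Matrix (Fin 2) (Fin 2) R) *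
        qM (Ideal.span {p}) (ϕ h : Matrix (Fin 2) (Fin 2) R) = 1 := by
      rw [← map_mul, Units.inv_mul, map_one]
    rw [hh] at e2
    exact (left_inv_eq_right_inv e2 e1).symm
  rw [map_mul, map_mul, map_mul, map_mul, hh, hinv]

/-- The swap matrix. -/
def Wm : GL (Fin 2) R :=
  ⟨!![0, 1; 1, 0], !![0, 1; 1, 0],
    by ext i j; fin_cases i <;> fin_cases j <;> simp [Matrix.mul_apply, Fin.sum_univ_two],
    by ext i j; fin_cases i <;> fin_cases j <;> simp [Matrix.mul_apply, Fin.sum_univ_two]⟩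

/-- The elementary unipotent matrix. -/
def Um : GL (Fin 2) R :=
  ⟨!![1, 1; 0, 1], !![1, -1; 0, 1],
    by ext i j; fin_cases i <;> fin_cases j <;> simp [Matrix.mul_apply, Fin.sum_univ_two],
    by ext i j; fin_cases i <;> fin_cases j <;> simp [Matrix.mul_apply, Fin.sum_univ_two]⟩

theorem Wm_conj11 (r : R) : ((Wm : GL (Fin 2) R) : Matrix (Fin 2) (Fin 2) R) * !![r, 0; 0, 0] *
    (((Wm : GL (Fin 2) R)⁻¹ : GL (Fin 2) R) : Matrix (Fin 2) (Fin 2) R) = !![0, 0; 0, r] := by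
  show !![(0 : R), 1; 1, 0] * !![r, 0; 0, 0] * !![(0 : R), 1; 1, 0] = !![0, 0; 0, r]
  ext i j; fin_cases i <;> fin_cases j <;> simp [Matrix.mul_apply, Fin.sum_univ_two]

theorem Wm_conj12 (r : R) : ((Wm : GL (Fin 2) R) : Matrix (Fin 2) (Fin 2) R) * !![0, r; 0, 0] *
    (((Wm : GL (Fin 2) R)⁻¹ : GL (Fin 2) R) : Matrix (Fin 2) (Fin 2) R) = !![0, 0; r, 0] := by
  show !![(0 : R), 1; 1, 0] * !![0, r; 0, 0] * !![(0 : R), 1; 1, 0] = !![0, 0; r, 0]
  ext i j; fin_cases i <;> fin_cases j <;> simp [Matrix.mul_apply, Fin.sum_univ_two]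

theorem Um_conj11 (r : R) : ((Um : GL (Fin 2) R) : Matrix (Fin 2) (Fin 2) R) * !![r, 0; 0, 0] *
    (((Um : GL (Fin 2) R)⁻¹ : GL (Fin 2) R) : Matrix (Fin 2) (Fin 2) R) = !![r, -r; 0, 0] := by
  show !![(1 : R), 1; 0, 1] * !![r, 0; 0, 0] * !![(1 : R), -1; 0, 1] = !![r, -r; 0, 0]
  ext i j; fin_cases i <;> fin_cases j <;> simp [Matrix.mul_apply, Fin.sum_univ_two]

theorem P_all (n : ℕ) (hn : 1 ≤ n)
    (hsurj : ∀ A : GL (Fin 2) R, ∃ h : G, qM (Ideal.span {p}) (ϕ h : Matrix (Fin 2) (Fin 2) R) =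
      qM (Ideal.span {p}) (A : Matrix (Fin 2) (Fin 2) R))
    (hrep : ∀ r : R, ∃ m : ℕ, r - (m : R) ∈ Ideal.span {p})
    (a : R) (ha : IsUnit a) (hseed : P p ϕ n !![a, 0; 0, 0]) :
    ∀ X : Matrix (Fin 2) (Fin 2) R, P p ϕ n X := by
  obtain ⟨u, rfl⟩ := ha
  have h11 : ∀ r : R, P p ϕ n !![r, 0; 0, 0] := by
    intro r
    have h5 := P_smul p ϕ n hn hrep (r * ((u⁻¹ : Rˣ) : R)) _ hseed
    have h6 : (r * ((u⁻¹ : Rˣ) : R)) • !![(u : R), 0; 0, 0] = !![r, 0; 0, 0] := by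
      ext i j; fin_cases i <;> fin_cases j <;> simp [mul_assoc]
    rw [h6] at h5
    exact h5
  have h22 : ∀ r : R, P p ϕ n !![0, 0; 0, r] := by
    intro r
    have h5 := P_conj p ϕ n hsurj Wm _ (h11 r)
    rw [Wm_conj11] at h5
    exact h5
  have h12 : ∀ r : R, P p ϕ n !![0, r; 0, 0] := by
    intro r
    have h5 := P_conj p ϕ n hsurj Um _ (h11 (-r))
    rw [Um_conj11] at h5
    have h6 := P_add p ϕ n hn _ _ (h11 r) h5
    have h7 : !![r, 0; 0, 0] + !![-r, - -r; 0, 0] = !![0, r; 0, 0] := by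
      ext i j; fin_cases i <;> fin_cases j <;> simp
    rw [h7] at h6
    exact h6
  have h21 : ∀ r : R, P p ϕ n !![0, 0; r, 0] := by
    intro r
    have h5 := P_conj p ϕ n hsurj Wm _ (h12 r)
    rw [Wm_conj12] at h5
    exact h5
  intro X
  have hX : X = !![X 0 0, 0; 0, 0] + !![0, X 0 1; 0, 0] + !![0, 0; X 1 0, 0] + !![0, 0; 0, X 1 1] := by
    ext i j; fin_cases i <;> fin_cases j <;> simp
  rw [hX]
  exact P_add p ϕ n hn _ _ (P_add p ϕ n hn _ _ (P_add p ϕ n hn _ _ (h11 _) (h12 _)) (h21 _)) (h22 _)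

/-- Successive approximation. -/
theorem approx
    (hsurj : ∀ A : GL (Fin 2) R, ∃ h : G, qM (Ideal.span {p}) (ϕ h : Matrix (Fin 2) (Fin 2) R) =
      qM (Ideal.span {p}) (A : Matrix (Fin 2) (Fin 2) R))
    (hall : ∀ n, 1 ≤ n → ∀ X : Matrix (Fin 2) (Fin 2) R, P p ϕ n X) :
    ∀ n, 1 ≤ n → ∀ T : GL (Fin 2) R, ∃ g : G,
      qM (Ideal.span {p ^ n}) (ϕ g : Matrix (Fin 2) (Fin 2) R) =
        qM (Ideal.span {p ^ n}) (T : Matrix (Fin 2) (Fin 2) R) := by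
  intro n hn
  induction n, hn using Nat.le_induction with
  | base =>
    intro T
    rw [pow_one]
    exact hsurj T
  | succ n hn ih =>
    intro T
    obtain ⟨g, hg⟩ := ih T
    have hU1 : qM (Ideal.span {p ^ n}) ((T * (ϕ g)⁻¹ : GL (Fin 2) R) : Matrix (Fin 2) (Fin 2) R) = 1 := by
      rw [Units.val_mul, map_mul, ← hg, ← map_mul, Units.mul_inv, map_one]
    have hUent : ∀ i j, ∃ x : R, x * p ^ n =
        ((T * (ϕ g)⁻¹ : GL (Fin 2) R) : Matrix (Fin 2) (Fin 2) R) i j -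
          (1 : Matrix (Fin 2) (Fin 2) R) i j := by
      intro i j
      have h5 := (qM_eq_iff _ _ _).1 (hU1.trans (map_one _).symm) i j
      exact Ideal.mem_span_singleton'.1 h5
    choose x hx using hUent
    have hUX : ((T * (ϕ g)⁻¹ : GL (Fin 2) R) : Matrix (Fin 2) (Fin 2) R) =
        1 + p ^ n • Matrix.of x := by
      ext i j
      rw [Matrix.add_apply, Matrix.smul_apply, Matrix.of_apply, smul_eq_mul, mul_comm, hx]
      ring
    obtain ⟨k, hk⟩ := hall n hn (Matrix.of x)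
    refine ⟨k * g, ?_⟩
    rw [map_mul ϕ, Units.val_mul, map_mul, hk, ← hUX, ← map_mul, ← Units.val_mul,
      inv_mul_cancel_right]

end General

section Padic

variable (p : ℕ) [Fact p.Prime]

theorem isUnit_of_not_dvd (a : ℤ_[p]) (h : ¬ (p : ℤ_[p]) ∣ a) : IsUnit a := by
  rw [PadicInt.isUnit_iff]
  exact le_antisymm (PadicInt.norm_le_one a) (not_lt.1 (mt (PadicInt.norm_lt_one_iff_dvd a).1 h))

theorem span_p_ne_top : Ideal.span {(p : ℤ_[p])} ≠ ⊤ := by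
  rw [← PadicInt.maximalIdeal_eq_span_p]
  exact (IsLocalRing.maximalIdeal.isMaximal _).ne_top

theorem hrep_padic : ∀ r : ℤ_[p], ∃ m : ℕ, r - (m : ℤ_[p]) ∈ Ideal.span {(p : ℤ_[p])} := by
  intro r
  refine ⟨PadicInt.zmodRepr r, ?_⟩
  rw [← PadicInt.maximalIdeal_eq_span_p]
  exact (PadicInt.zmodRepr_spec r).2

theorem GLmap_surj :
    Function.Surjective (Matrix.GeneralLinearGroup.map (n := Fin 2) (PadicInt.toZMod (p := p))) := by
  intro M
  have hs : Function.Surjective (PadicInt.toZMod (p := p)) := ZMod.ringHom_surjective _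
  choose f hf using hs
  let A : Matrix (Fin 2) (Fin 2) ℤ_[p] := Matrix.of fun i j => f ((M : Matrix (Fin 2) (Fin 2) (ZMod p)) i j)
  have hA : (PadicInt.toZMod (p := p)).mapMatrix A = (M : Matrix (Fin 2) (Fin 2) (ZMod p)) := by
    ext i j
    simp [A, hf]
  have hdet : IsUnit A.det := by
    apply isUnit_of_not_dvd
    intro hdvd
    have h1 : PadicInt.toZMod A.det = (M : Matrix (Fin 2) (Fin 2) (ZMod p)).det := by
      rw [RingHom.map_det, hA]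
    have h2 : PadicInt.toZMod A.det = 0 := by
      rw [← RingHom.mem_ker, PadicInt.ker_toZMod, PadicInt.maximalIdeal_eq_span_p]
      exact Ideal.mem_span_singleton.2 hdvd
    have h3 : IsUnit (M : Matrix (Fin 2) (Fin 2) (ZMod p)).det :=
      (Matrix.isUnit_iff_isUnit_det _).1 M.isUnit
    rw [← h1, h2] at h3
    exact not_isUnit_zero h3
  refine ⟨Matrix.GeneralLinearGroup.mk'' A hdet, ?_⟩
  apply Units.ext
  ext i j
  rw [Matrix.GeneralLinearGroup.map_apply]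
  show PadicInt.toZMod (A i j) = _
  simp [A, hf]

theorem hsurj_of
    {𝔊 : Type*} [Group 𝔊] (ϕ : 𝔊 →* GL (Fin 2) ℤ_[p])
    (h : Function.Surjective
      ((Matrix.GeneralLinearGroup.map (n := Fin 2) (PadicInt.toZMod (p := p))).comp ϕ)) :
    ∀ A : GL (Fin 2) ℤ_[p], ∃ h : 𝔊,
      qM (Ideal.span {(p : ℤ_[p])}) (ϕ h : Matrix (Fin 2) (Fin 2) ℤ_[p]) =
        qM (Ideal.span {(p : ℤ_[p])}) (A : Matrix (Fin 2) (Fin 2) ℤ_[p]) := by
  intro A
  obtain ⟨g, hg⟩ := h (Matrix.GeneralLinearGroup.map (PadicInt.toZMod (p := p)) A)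
  refine ⟨g, ?_⟩
  rw [qM_eq_iff]
  intro i j
  have h5 : (Matrix.GeneralLinearGroup.map (PadicInt.toZMod (p := p)) (ϕ g)) i j =
      (Matrix.GeneralLinearGroup.map (PadicInt.toZMod (p := p)) A) i j := by
    rw [← hg]
    rfl
  rw [Matrix.GeneralLinearGroup.map_apply, Matrix.GeneralLinearGroup.map_apply] at h5
  rw [← PadicInt.maximalIdeal_eq_span_p, ← PadicInt.ker_toZMod, RingHom.mem_ker, map_sub, h5,
    sub_self]

/-- Compactness argument: approximate surjectivity at all levels implies surjectivity. -/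
theorem surj_of_approx
    (𝔊 : Type*) [Group 𝔊] [TopologicalSpace 𝔊] [CompactSpace 𝔊]
    (ϕ : 𝔊 →* GL (Fin 2) ℤ_[p])
    (hϕ : Continuous fun g => ((ϕ g : GL (Fin 2) ℤ_[p]) : Matrix (Fin 2) (Fin 2) ℤ_[p]))
    (happrox : ∀ n, 1 ≤ n → ∀ T : GL (Fin 2) ℤ_[p], ∃ g : 𝔊,
      qM (Ideal.span {(p : ℤ_[p]) ^ n}) (ϕ g : Matrix (Fin 2) (Fin 2) ℤ_[p]) =
        qM (Ideal.span {(p : ℤ_[p]) ^ n}) (T : Matrix (Fin 2) (Fin 2) ℤ_[p])) :
    Function.Surjective ϕ := by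
  intro T
  let S : ℕ → Set 𝔊 := fun n => {g | ∀ i j,
    (ϕ g : Matrix (Fin 2) (Fin 2) ℤ_[p]) i j - (T : Matrix (Fin 2) (Fin 2) ℤ_[p]) i j ∈
      Ideal.span {(p : ℤ_[p]) ^ (n + 1)}}
  have hcl : ∀ n, IsClosed (S n) := by
    intro n
    have h5 : S n = ⋂ i, ⋂ j, {g | ‖(ϕ g : Matrix (Fin 2) (Fin 2) ℤ_[p]) i j -
        (T : Matrix (Fin 2) (Fin 2) ℤ_[p]) i j‖ ≤ (p : ℝ) ^ (-((n + 1 : ℕ) : ℤ))} := by
      ext g
      simp only [S, Set.mem_setOf_eq, Set.mem_iInter, PadicInt.norm_le_pow_iff_mem_span_pow]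
    rw [h5]
    exact isClosed_iInter fun i => isClosed_iInter fun j =>
      isClosed_le (continuous_norm.comp ((hϕ.matrix_elem i j).sub continuous_const))
        continuous_const
  have hne : ∀ n, (S n).Nonempty := by
    intro n
    obtain ⟨g, hg⟩ := happrox (n + 1) (by omega) T
    exact ⟨g, (qM_eq_iff _ _ _).1 hg⟩
  have hle : ∀ m : ℕ, Ideal.span {(p : ℤ_[p]) ^ (m + 1)} ≤ Ideal.span {(p : ℤ_[p]) ^ m} := by
    intro m
    rw [Ideal.span_singleton_le_span_singleton]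
    exact pow_dvd_pow _ (Nat.le_succ m)
  have hdec : ∀ n, S (n + 1) ⊆ S n := by
    intro n g hg i j
    exact hle (n + 1) (hg i j)
  obtain ⟨g, hg⟩ := IsCompact.nonempty_iInter_of_sequence_nonempty_isCompact_isClosed S hdec hne
    (hcl 0).isCompact hcl
  rw [Set.mem_iInter] at hg
  refine ⟨g, ?_⟩
  apply Units.ext
  ext i j
  have hmem : (ϕ g : Matrix (Fin 2) (Fin 2) ℤ_[p]) i j - (T : Matrix (Fin 2) (Fin 2) ℤ_[p]) i j ∈
      (⨅ m : ℕ, (Ideal.span {(p : ℤ_[p])}) ^ m) := by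
    rw [Ideal.mem_iInf]
    intro m
    rw [Ideal.span_singleton_pow]
    exact hle m (hg m i j)
  rw [Ideal.iInf_pow_eq_bot_of_isLocalRing _ (span_p_ne_top p)] at hmem
  exact sub_eq_zero.1 hmem

theorem main (𝔊 : Type*) [Group 𝔊] [TopologicalSpace 𝔊] [CompactSpace 𝔊]
    (ϕ : 𝔊 →* GL (Fin 2) ℤ_[p])
    (hϕ : Continuous fun g => ((ϕ g : GL (Fin 2) ℤ_[p]) : Matrix (Fin 2) (Fin 2) ℤ_[p])) :
    Function.Surjective ϕ ↔
      (Function.Surjective
          ((Matrix.GeneralLinearGroup.map (n := Fin 2) (PadicInt.toZMod (p := p))).comp ϕ) ∧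
        ∀ n : ℕ, 1 ≤ n → ∃ (g : 𝔊) (a b c d : ℤ_[p]), ¬ ((p : ℤ_[p]) ∣ a) ∧
          ((ϕ g : GL (Fin 2) ℤ_[p]) : Matrix (Fin 2) (Fin 2) ℤ_[p]) =
            !![1 + (p : ℤ_[p]) ^ n * a, (p : ℤ_[p]) ^ (n + 1) * b;
               (p : ℤ_[p]) ^ (n + 1) * c, 1 + (p : ℤ_[p]) ^ (n + 1) * d]) := by
  constructor
  · intro hs
    refine ⟨?_, ?_⟩
    · intro M
      obtain ⟨A, hA⟩ := GLmap_surj p M
      obtain ⟨g, hg⟩ := hs A
      exact ⟨g, by rw [MonoidHom.comp_apply, hg, hA]⟩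
    · intro n hn
      have hu : IsUnit (1 + (p : ℤ_[p]) ^ n) := by
        apply isUnit_of_not_dvd
        intro hdvd
        have h1 : (p : ℤ_[p]) ∣ 1 := (dvd_add_left (dvd_pow_self _ (by omega))).1 hdvd
        exact PadicInt.prime_p.not_unit (isUnit_of_dvd_one h1)
      have hD : IsUnit (!![1 + (p : ℤ_[p]) ^ n, 0; 0, 1] : Matrix (Fin 2) (Fin 2) ℤ_[p]).det := by
        rw [Matrix.det_fin_two_of]
        simpa using hu
      obtain ⟨g, hg⟩ := hs (Matrix.GeneralLinearGroup.mk'' _ hD)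
      refine ⟨g, 1, 0, 0, 0, PadicInt.prime_p.not_dvd_one, ?_⟩
      rw [hg]
      show (!![1 + (p : ℤ_[p]) ^ n, 0; 0, 1] : Matrix (Fin 2) (Fin 2) ℤ_[p]) = _
      simp
  · rintro ⟨h1, h2⟩
    have hsurj := hsurj_of p ϕ h1
    have hall : ∀ n, 1 ≤ n → ∀ X : Matrix (Fin 2) (Fin 2) ℤ_[p], P (p : ℤ_[p]) ϕ n X := by
      intro n hn
      obtain ⟨g, a, b, c, d, hna, hg⟩ := h2 n hn
      refine P_all (p : ℤ_[p]) ϕ n hn hsurj (hrep_padic p) a (isUnit_of_not_dvd p a hna) ?_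
      refine ⟨g, ?_⟩
      rw [qM_eq_iff]
      intro i j
      rw [hg]
      fin_cases i <;> fin_cases j
      · refine Ideal.mem_span_singleton'.2 ⟨0, ?_⟩
        simp
      · refine Ideal.mem_span_singleton'.2 ⟨b, ?_⟩
        simp [mul_comm]
      · refine Ideal.mem_span_singleton'.2 ⟨c, ?_⟩
        simp [mul_comm]
      · refine Ideal.mem_span_singleton'.2 ⟨d, ?_⟩
        simp [mul_comm]
    exact surj_of_approx p 𝔊 ϕ hϕ (approx (p : ℤ_[p]) ϕ hsurj hall)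

end Padic

end Groth.Agent.Lib.GL2SurjH1
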