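import Mathlib
import Groth.Prelude
import Groth.Agent.Lib.DiagHom_lead

/-!
# Points of `GL_m` over a field as invertible matrices (helper4)

For `T` over `Spec k`, a point `y : T ⟶ GL_{m,k}` has a matrix `mat y` with entries in `Γ(T, ⊤)`;
`mat` is multiplicative, natural, injective, and every invertible matrix arises.
APPEND-ONLY once landed.
-/

set_option backward.isDefEq.respectTransparency.types false
set_option autoImplicit false
set_option linter.unusedVariables false
set_option linter.unusedTactic false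
set_option linter.unreachableTactic false
set_option linter.unusedSectionVars false
set_option linter.style.haveILetI false
set_option linter.deprecated false
set_option linter.unusedSimpArgs false
set_option linter.style.longLine false
set_option maxHeartbeats 1600000

universe u

open CategoryTheory CategoryTheory.Limits MonoidalCategory CartesianMonoidalCategory MonObj GrpObj
  AlgebraicGeometry Opposite TensorProduct

namespace Groth.Agent.Lib.GLDictH4

open Groth.Agent.Lib.RedDictH8 Groth.Agent.Lib.DSDict Groth.Agent.Lib.DiagHom CoordGrp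

/-! ### generalities on `ev` -/

lemma ev_sum {B : CommRingCat.{u}} {W : Scheme.{u}} (a : W ⟶ Spec B) {J : Type*} (s : Finset J)
    (f : J → B) : ev a (∑ l ∈ s, f l) = ∑ l ∈ s, ev a (f l) := by
  unfold ev
  rw [map_sum, map_sum]

lemma ev_zero {B : CommRingCat.{u}} {W : Scheme.{u}} (a : W ⟶ Spec B) : ev a 0 = 0 := by
  unfold ev
  rw [map_zero, map_zero]

/-- multiplication of points of an affine monoid scheme, on a function with a given
comultiplication. -/
theorem ev_mul_sum {R A : Type u} [CommRing R] [CommRing A] [Bialgebra R A]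
    {T : Over (Spec (CommRingCat.of R))}
    (x y : T ⟶ (Spec (CommRingCat.of A)).asOver (Spec (CommRingCat.of R))) (r : A)
    {J : Type} (s : Finset J) (p q : J → A)
    (hr : CoalgebraStruct.comul (R := R) r = ∑ l ∈ s, p l ⊗ₜ[R] q l) :
    ev (B := CommRingCat.of A) (x * y).left r =
      ∑ l ∈ s, ev (B := CommRingCat.of A) x.left (p l) * ev (B := CommRingCat.of A) y.left (q l) := by
  have h0 : x.left ≫ Spec.map (CommRingCat.ofHom (algebraMap R A)) =
      y.left ≫ Spec.map (CommRingCat.ofHom (algebraMap R A)) := (Over.w x).trans (Over.w y).symm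
  have h1 : (x * y).left = (pullback.lift x.left y.left h0 ≫ (pullbackSpecIso R A A).hom) ≫
      Spec.map (CommRingCat.ofHom (RingHomClass.toRingHom (Bialgebra.comulAlgHom R A))) := by
    rw [Hom.mul_def, Over.comp_left, Over.lift_left, mul_spec_asOver_spec_left, Category.assoc]
    rfl
  have e1 : ev (B := CommRingCat.of A) (x * y).left r =
      ev (B := CommRingCat.of A) ((pullback.lift x.left y.left h0 ≫ (pullbackSpecIso R A A).hom) ≫
      Spec.map (CommRingCat.ofHom (RingHomClass.toRingHom (Bialgebra.comulAlgHom R A)))) r :=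
    congrArg (fun mm : T.left ⟶ Spec (CommRingCat.of A) => ev (B := CommRingCat.of A) mm r) h1
  have e2 := ev_lift_mul_left R A (W := T.left) x.left y.left h0 r
  refine e1.trans (e2.trans ?_)
  rw [hr, ev_sum]
  exact Finset.sum_congr rfl (fun l _ => ev_lift_tmul R A x.left y.left h0 (p l) (q l))

variable {k : Type u} [Field k] {m : ℕ}

/-- `GL_m` over `Spec k`. -/
noncomputable abbrev Gk (k : Type u) [Field k] (m : ℕ) : Over (Sk k) :=
  CoactBr.sp k (GLn m k)

/-- the structure map `k → Γ(T, ⊤)`. -/
noncomputable def rho (T : Over (Sk k)) : k →+* Γ(T.left, ⊤) :=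
  ((Scheme.ΓSpecIso (CommRingCat.of k)).inv ≫ T.hom.appTop).hom

theorem rho_apply (T : Over (Sk k)) (c : k) : rho T c = ev T.hom c := rfl

theorem rho_comp {T' T : Over (Sk k)} (h : T' ⟶ T) (c : k) :
    h.left.appTop (rho T c) = rho T' c := by
  rw [rho_apply, rho_apply, ← ev_comp, Over.w h]

theorem rho_TB {B : Type u} [CommRing B] [Algebra k B] (c : k) :
    rho (TB k B) c = (Scheme.ΓSpecIso (CommRingCat.of B)).inv (algebraMap k B c) := by
  rw [rho_apply]
  exact appTop_specMap_inv (CommRingCat.ofHom (algebraMap k B)) c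

/-- the matrix of a point of `GL_m`. -/
noncomputable def mat {T : Over (Sk k)} (y : T ⟶ Gk k m) : Matrix (Fin m) (Fin m) Γ(T.left, ⊤) :=
  fun i j => ev (B := CommRingCat.of (GLn m k)) y.left (GLn.X i j)

theorem mat_apply {T : Over (Sk k)} (y : T ⟶ Gk k m) (i j : Fin m) :
    mat y i j = ev (B := CommRingCat.of (GLn m k)) y.left (GLn.X i j) := rfl

theorem mat_mul {T : Over (Sk k)} (x y : T ⟶ Gk k m) : mat (x * y) = mat x * mat y := by
  ext i j
  rw [Matrix.mul_apply]
  exact ev_mul_sum x y (GLn.X i j) Finset.univ (fun l => GLn.X i l) (fun l => GLn.X l j)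
    (GLn.comul_X i j)

theorem mat_one {T : Over (Sk k)} : mat (1 : T ⟶ Gk k m) = 1 := by
  ext i j
  have h1 : (1 : T ⟶ Gk k m).left = T.hom ≫ Spec.map (CommRingCat.ofHom
      (RingHomClass.toRingHom (Bialgebra.counitAlgHom k (GLn m k)))) := by
    rw [Hom.one_def, Over.comp_left, Over.toUnit_left]
    rfl
  rw [mat_apply, h1, ev_comp_specMap, Matrix.one_apply]
  have h2 : (CommRingCat.ofHom (RingHomClass.toRingHom (Bialgebra.counitAlgHom k (GLn m k))))
      (GLn.X i j) = if i = j then (1 : k) else 0 := GLn.counit_X i j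
  rw [h2]
  split_ifs
  · exact ev_one _
  · exact ev_zero _

theorem mat_nat {T' T : Over (Sk k)} (h : T' ⟶ T) (y : T ⟶ Gk k m) (i j : Fin m) :
    mat (h ≫ y) i j = h.left.appTop (mat y i j) := by
  rw [mat_apply, mat_apply, Over.comp_left]
  exact ev_comp _ _ _

theorem ev_algebraMap {T : Over (Sk k)} (z : T ⟶ Gk k m) (c : k) :
    ev (B := CommRingCat.of (GLn m k)) z.left (algebraMap k (GLn m k) c) = rho T c := by
  have h0 := ev_comp_specMap z.left (CommRingCat.ofHom (algebraMap k (GLn m k))) c
  rw [rho_apply, ← Over.w z]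
  exact h0.symm

theorem mat_inj {T : Over (Sk k)} (x y : T ⟶ Gk k m) (h : mat x = mat y) : x = y := by
  letI : Algebra k Γ(T.left, ⊤) := (rho T).toAlgebra
  let θ : (T ⟶ Gk k m) → (GLn m k →ₐ[k] Γ(T.left, ⊤)) := fun z =>
    { toRingHom := ((Scheme.ΓSpecIso (CommRingCat.of (GLn m k))).inv ≫ z.left.appTop).hom
      commutes' := fun c => ev_algebraMap z c }
  have hθ : ∀ z s, θ z s = ev (B := CommRingCat.of (GLn m k)) z.left s := fun z s => rfl
  have hX : ∀ i j, θ x (GLn.X i j) = θ y (GLn.X i j) := fun i j => congrFun (congrFun h i) j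
  have key : θ x = θ y := by
    apply GLn.algHom_ext hX
    have hx : θ x GLn.det * θ x GLn.Dinv = 1 := by rw [← map_mul, GLn.det_mul_Dinv, map_one]
    have hy : θ y GLn.det * θ y GLn.Dinv = 1 := by rw [← map_mul, GLn.det_mul_Dinv, map_one]
    have hdet : θ x GLn.det = θ y GLn.det := by
      have hm : (θ x).mapMatrix (GLn.genMat m k) = (θ y).mapMatrix (GLn.genMat m k) := by
        ext i j
        exact hX i j
      rw [GLn.det_eq, AlgHom.map_det, AlgHom.map_det, hm]
    calc θ x GLn.Dinv = θ x GLn.Dinv * (θ y GLn.det * θ y GLn.Dinv) := by rw [hy, _root_.mul_one]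
      _ = (θ x GLn.det * θ x GLn.Dinv) * θ y GLn.Dinv := by rw [← hdet]; ring
      _ = θ y GLn.Dinv := by rw [hx, _root_.one_mul]
  apply Over.OverMorphism.ext
  apply point_ext
  intro s
  exact congrArg (fun φ => φ s) key

theorem exists_mat {T : Over (Sk k)} (A A' : Matrix (Fin m) (Fin m) Γ(T.left, ⊤))
    (hA : A * A' = 1) : ∃ y : T ⟶ Gk k m, mat y = A := by
  letI : Algebra k Γ(T.left, ⊤) := (rho T).toAlgebra
  have hdet : A.det * A'.det = 1 := by rw [← Matrix.det_mul, hA, Matrix.det_one]
  let φ : GLn m k →ₐ[k] Γ(T.left, ⊤) := GLn.pt m k A A'.det hdet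
  obtain ⟨a₀, ha₀⟩ := exists_point T.left (CommRingCat.ofHom φ.toRingHom)
  have hover : a₀ ≫ (Gk k m).hom = T.hom := by
    apply point_ext
    intro c
    show ev (a₀ ≫ Spec.map (CommRingCat.ofHom (algebraMap k (GLn m k)))) c = ev T.hom c
    rw [ev_comp_specMap, ha₀]
    exact (φ.commutes c).trans rfl
  refine ⟨Over.homMk a₀ hover, ?_⟩
  ext i j
  show ev a₀ (GLn.X i j) = A i j
  rw [ha₀]
  exact GLn.pt_X A A'.det hdet i j

end Groth.Agent.Lib.GLDictH4
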