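import Mathlib
import Groth.Prelude.Def_W4c5flasquetoriphsGLat

/-! Duality for lattices over a finite group (helper1): dual of an exact sequence, dual of a
permutation lattice, and the two halves of Tate duality `H¹(H, M) = 0 ⟹ Ĥ⁻¹(H, M°) = 0`,
`Ĥ⁻¹(H, M) = 0 ⟹ H¹(H, M°) = 0` in elementary form. -/

set_option autoImplicit false
set_option maxHeartbeats 1000000

open Module

namespace Groth.Agent.Lib.GLatH1

variable {G : Type} [Group G]

section Basic

variable {M N : Type} [AddCommGroup M] [AddCommGroup N]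

theorem dual_apply' (ρ : Representation ℤ G M) (g : G) (φ : Dual ℤ M) (m : M) :
    ρ.dual g φ m = φ (ρ g⁻¹ m) := rfl

theorem inv_apply (ρ : Representation ℤ G M) (g : G) (m : M) : ρ g⁻¹ (ρ g m) = m := by
  rw [← Module.End.mul_apply, ← map_mul, inv_mul_cancel, map_one]
  rfl

theorem apply_inv (ρ : Representation ℤ G M) (g : G) (m : M) : ρ g (ρ g⁻¹ m) = m := by
  rw [← Module.End.mul_apply, ← map_mul, mul_inv_cancel, map_one]
  rfl

theorem mul_apply' (ρ : Representation ℤ G M) (g h : G) (m : M) :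
    ρ (g * h) m = ρ g (ρ h m) := by
  rw [map_mul]
  rfl

theorem smul_cancel [Module.Free ℤ M] {n : ℤ} (hn : n ≠ 0) {x y : M} (h : n • x = n • y) :
    x = y := by
  have h0 : n • (x - y) = 0 := by rw [smul_sub, h, sub_self]
  exact sub_eq_zero.mp ((smul_eq_zero.mp h0).resolve_left hn)

theorem equivariant_dualMap {ρ : Representation ℤ G M} {σ : Representation ℤ G N}
    {f : M →ₗ[ℤ] N} (hf : GLat.IsEquivariant ρ σ f) :
    GLat.IsEquivariant σ.dual ρ.dual f.dualMap := by
  intro g φ
  apply LinearMap.ext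
  intro m
  show φ (σ g⁻¹ (f m)) = φ (f (ρ g⁻¹ m))
  rw [hf]

end Basic

section Exact

variable {Q P A : Type} [AddCommGroup Q] [AddCommGroup P] [AddCommGroup A]

/-- the dual of a short exact sequence with free cokernel is short exact -/
theorem dual_exact [Module.Free ℤ A] (i : Q →ₗ[ℤ] P) (π : P →ₗ[ℤ] A)
    (hi : Function.Injective i) (hπ : Function.Surjective π)
    (hex : LinearMap.range i = LinearMap.ker π) :
    Function.Injective π.dualMap ∧ Function.Surjective i.dualMap ∧
      LinearMap.range π.dualMap = LinearMap.ker i.dualMap := by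
  obtain ⟨s, hs⟩ := Module.projective_lifting_property π LinearMap.id hπ
  have hs' : ∀ a, π (s a) = a := fun a => LinearMap.congr_fun hs a
  have hπi : ∀ q, π (i q) = 0 := fun q => by
    have : i q ∈ LinearMap.range i := ⟨q, rfl⟩
    rw [hex] at this
    exact this
  have hker : ∀ p : P, ∃ q : Q, i q = p - s (π p) := by
    intro p
    have : p - s (π p) ∈ LinearMap.ker π := by
      rw [LinearMap.mem_ker, map_sub, hs', sub_self]
    rw [← hex] at this
    exact this
  choose r hr using hker
  have hri : ∀ q, r (i q) = q := fun q => hi (by rw [hr, hπi, map_zero, sub_zero])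
  let rl : P →ₗ[ℤ] Q :=
    { toFun := r
      map_add' := fun x y => hi (by
        rw [map_add, hr, hr, hr, map_add, map_add]
        abel)
      map_smul' := fun n x => hi (by
        rw [RingHom.id_apply, map_smul, hr, hr, map_smul, map_smul, smul_sub]) }
  have hrl : ∀ p, rl p = r p := fun _ => rfl
  refine ⟨LinearMap.dualMap_injective_of_surjective hπ, ?_, ?_⟩
  · intro ψ
    refine ⟨ψ.comp rl, ?_⟩
    apply LinearMap.ext
    intro q
    show ψ (rl (i q)) = ψ q
    rw [hrl, hri]
  · apply le_antisymm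
    · rintro φ ⟨ψ, rfl⟩
      rw [LinearMap.mem_ker]
      apply LinearMap.ext
      intro q
      show ψ (π (i q)) = 0
      rw [hπi, map_zero]
    · intro φ hφ
      rw [LinearMap.mem_ker] at hφ
      refine ⟨φ.comp s, ?_⟩
      apply LinearMap.ext
      intro p
      show φ (s (π p)) = φ p
      have h1 : φ (i (r p)) = 0 := LinearMap.congr_fun hφ (r p)
      rw [hr, map_sub] at h1
      exact (sub_eq_zero.mp h1).symm

/-- `a ↦ (p ↦ π p a)` -/
noncomputable def evTo (π : P →ₗ[ℤ] Dual ℤ A) : A →ₗ[ℤ] Dual ℤ P :=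
  π.dualMap.comp (Dual.eval ℤ A)

theorem evTo_apply (π : P →ₗ[ℤ] Dual ℤ A) (a : A) (p : P) : evTo π a p = π p a := rfl

theorem evTo_equivariant {ρ : Representation ℤ G A} {σ : Representation ℤ G P}
    {π : P →ₗ[ℤ] Dual ℤ A} (hπ : GLat.IsEquivariant σ ρ.dual π) :
    GLat.IsEquivariant ρ σ.dual (evTo π) := by
  intro g a
  apply LinearMap.ext
  intro p
  show π p (ρ g a) = π (σ g⁻¹ p) a
  rw [hπ, dual_apply', inv_inv]

theorem evTo_injective [Module.Free ℤ A] [Module.Finite ℤ A] {π : P →ₗ[ℤ] Dual ℤ A}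
    (hπ : Function.Surjective π) : Function.Injective (evTo π) := by
  intro a a' h
  have h1 : Dual.eval ℤ A a = Dual.eval ℤ A a' :=
    LinearMap.dualMap_injective_of_surjective hπ h
  exact (Module.evalEquiv ℤ A).injective h1

theorem range_evTo [Module.Free ℤ A] [Module.Finite ℤ A] (π : P →ₗ[ℤ] Dual ℤ A) :
    LinearMap.range (evTo π) = LinearMap.range π.dualMap := by
  apply le_antisymm
  · rintro _ ⟨a, rfl⟩
    exact ⟨Dual.eval ℤ A a, rfl⟩
  · rintro _ ⟨E, rfl⟩
    refine ⟨(Module.evalEquiv ℤ A).symm E, ?_⟩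
    show π.dualMap (Module.evalEquiv ℤ A ((Module.evalEquiv ℤ A).symm E)) = _
    rw [LinearEquiv.apply_symm_apply]

end Exact

section Perm

theorem isPermutation_dual {P : Type} [AddCommGroup P] [Module.Finite ℤ P]
    (τ : Representation ℤ G P) (h : GLat.IsPermutation τ) : GLat.IsPermutation τ.dual := by
  classical
  obtain ⟨ι, b, hb⟩ := h
  haveI : Finite ι := Module.Finite.finite_basis b
  haveI : Fintype ι := Fintype.ofFinite ι
  refine ⟨ι, b.dualBasis, fun g i => ?_⟩
  obtain ⟨j, hj⟩ := hb g i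
  refine ⟨j, ?_⟩
  apply b.ext
  intro l
  obtain ⟨l', hl'⟩ := hb g⁻¹ l
  have hiff : l' = i ↔ l = j := by
    constructor
    · intro h1
      subst h1
      have h2 := congrArg (τ g) hl'
      rw [apply_inv, hj] at h2
      exact b.injective h2
    · intro h1
      subst h1
      have h2 := congrArg (τ g⁻¹) hj
      rw [inv_apply, hl'] at h2
      exact (b.injective h2).symm
  rw [dual_apply', hl', Basis.dualBasis_apply_self, Basis.dualBasis_apply_self]
  by_cases h1 : l' = i
  · rw [if_pos h1, if_pos (hiff.mp h1)]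
  · rw [if_neg h1, if_neg (fun h2 => h1 (hiff.mpr h2))]

end Perm

section Sep

variable {M : Type} [AddCommGroup M] [Module.Free ℤ M] [Module.Finite ℤ M]

/-- an element all of whose coordinates are divisible by `n` is divisible by `n` -/
theorem exists_eq_smul_of_forall_dual (n : ℤ) (w : M) (h : ∀ ψ : Dual ℤ M, n ∣ ψ w) :
    ∃ z : M, w = n • z := by
  classical
  let b := Module.Free.chooseBasis ℤ M
  choose k hk using fun i => h (b.coord i)
  refine ⟨∑ i, k i • b i, ?_⟩
  rw [Finset.smul_sum]
  conv_lhs => rw [← b.sum_repr w]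
  apply Finset.sum_congr rfl
  intro i _
  rw [smul_smul, ← hk i]
  rfl

/-- a point outside a sublattice is separated from it by a functional modulo some `n ≠ 0` -/
theorem exists_separating (L : Submodule ℤ M) (φ : M) (hφ : φ ∉ L) :
    ∃ (e : Dual ℤ M) (n : ℤ), n ≠ 0 ∧ (∀ x ∈ L, n ∣ e x) ∧ ¬ n ∣ e φ := by
  classical
  by_contra hcon
  push Not at hcon
  apply hφ
  let b := Module.Free.chooseBasis ℤ M
  obtain ⟨n, snf⟩ := Submodule.smithNormalForm b L
  have h0 : ∀ j, j ∉ Set.range snf.f → snf.bM.repr φ j = 0 := by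
    intro j hj
    have h1 : ∀ x ∈ L, snf.bM.coord j x = 0 := fun x hx =>
      snf.repr_eq_zero_of_notMem_range ⟨x, hx⟩ hj
    have hpos : |snf.bM.repr φ j| + 1 ≠ 0 := by
      have := abs_nonneg (snf.bM.repr φ j)
      omega
    have h2 := hcon (snf.bM.coord j) (|snf.bM.repr φ j| + 1) hpos (fun x hx => by
      rw [h1 x hx]
      exact dvd_zero _)
    exact Int.eq_zero_of_abs_lt_dvd h2 (by omega)
  have ha : ∀ i, snf.a i ≠ 0 := by
    intro i hi
    have h1 := snf.snf i
    rw [hi, zero_smul] at h1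
    exact snf.bN.ne_zero i (Subtype.ext h1)
  have h1 : ∀ i, snf.a i ∣ snf.bM.repr φ (snf.f i) := by
    intro i
    exact hcon (snf.bM.coord (snf.f i)) (snf.a i) (ha i) (fun x hx => by
      rw [Basis.coord_apply, snf.repr_apply_embedding_eq_repr_smul ⟨x, hx⟩, map_smul,
        Finsupp.smul_apply, smul_eq_mul]
      exact dvd_mul_right _ _)
  choose k hk using h1
  have hrepr : ∀ i j, snf.bM.repr (k i • (snf.bN i : M)) j =
      if snf.f i = j then k i * snf.a i else 0 := by
    intro i j
    rw [snf.snf i, smul_smul, map_smul, snf.bM.repr_self, Finsupp.smul_single, smul_eq_mul,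
      mul_one, Finsupp.single_apply]
  have key : φ = ∑ i, k i • (snf.bN i : M) := by
    apply snf.bM.ext_elem
    intro j
    rw [map_sum, Finsupp.finsetSum_apply]
    simp only [hrepr]
    by_cases hj : j ∈ Set.range snf.f
    · obtain ⟨i₀, rfl⟩ := hj
      rw [Finset.sum_eq_single i₀]
      · rw [if_pos rfl, hk i₀, mul_comm]
      · intro i _ hne
        rw [if_neg (fun h => hne (snf.f.injective h))]
      · intro h
        exact absurd (Finset.mem_univ _) h
    · rw [h0 j hj]
      symm
      apply Finset.sum_eq_zero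
      intro i _
      rw [if_neg (fun h => hj ⟨i, h⟩)]
  rw [key]
  exact L.sum_mem (fun i _ => L.smul_mem _ (snf.bN i).2)

end Sep

section TateI

variable {M : Type} [AddCommGroup M] [Module.Free ℤ M] [Module.Finite ℤ M]

theorem sub_fix {X : Type*} [AddCommGroup X] {A B C D : X} (h : A - D = B - C) :
    A - B = D - C := by
  have key : A - B = (D - C) + ((A - D) - (B - C)) := by abel
  rw [key, h, sub_self, add_zero]

/-- `H¹(H, M) = 0` for all `H` implies `Ĥ⁻¹(H, M°) = 0` for all `H` -/
theorem isFlasque_dual_of_isCoflasque [Finite G] (ρ : Representation ℤ G M)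
    (hρ : GLat.IsCoflasque ρ) : GLat.IsFlasque ρ.dual := by
  classical
  intro H φ hN
  haveI : Fintype H := Fintype.ofFinite H
  rw [finsum_eq_sum_of_fintype] at hN
  by_contra hφ
  obtain ⟨e, n, hn, heL, heφ⟩ := exists_separating _ φ hφ
  obtain ⟨q, hq⟩ : ∃ q : M, ∀ ψ : Dual ℤ M, e ψ = ψ q := by
    refine ⟨(Module.evalEquiv ℤ M).symm e, fun ψ => ?_⟩
    have h1 := LinearMap.congr_fun ((Module.evalEquiv ℤ M).apply_symm_apply e) ψ
    rw [← h1]
    rfl
  have hz : ∀ h : H, ∃ z : M, ρ (h : G) q - q = n • z := by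
    intro h
    apply exists_eq_smul_of_forall_dual
    intro ψ
    have h1 := heL (ρ.dual ((h⁻¹ : H) : G) ψ - ψ) (Submodule.subset_span ⟨h⁻¹, ψ, rfl⟩)
    rw [hq] at h1
    have h2 : (ρ.dual ((h⁻¹ : H) : G) ψ - ψ) q = ψ (ρ (h : G) q - q) := by
      rw [LinearMap.sub_apply, dual_apply', map_sub, Subgroup.coe_inv, inv_inv]
    rw [h2] at h1
    exact h1
  choose f hf using hz
  have hcoc : ∀ a b : H, f (a * b) = f a + ρ (a : G) (f b) := by
    intro a b
    apply smul_cancel hn
    rw [← hf, smul_add, ← hf, ← map_smul, ← hf, Subgroup.coe_mul, mul_apply', map_sub]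
    abel
  obtain ⟨z, hz⟩ := hρ H f hcoc
  have hw : ∀ a : H, ρ (a : G) (q - n • z) = q - n • z := by
    intro a
    have h1 := hf a
    rw [hz a, smul_sub] at h1
    rw [map_sub, map_smul]
    exact sub_fix h1
  have hφw : φ (q - n • z) = 0 := by
    have h1 := LinearMap.congr_fun hN (q - n • z)
    rw [LinearMap.sum_apply, LinearMap.zero_apply] at h1
    have h2 : ∀ h ∈ (Finset.univ : Finset H), (ρ.dual (h : G) φ) (q - n • z) = φ (q - n • z) := by
      intro h _
      rw [dual_apply']
      have h3 := hw h⁻¹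
      rw [Subgroup.coe_inv] at h3
      rw [h3]
    rw [Finset.sum_congr rfl h2, Finset.sum_const, Finset.card_univ, nsmul_eq_mul] at h1
    rcases mul_eq_zero.mp h1 with h3 | h3
    · exact absurd (Nat.cast_eq_zero.mp h3) Fintype.card_ne_zero
    · exact h3
  apply heφ
  rw [hq]
  rw [map_sub, map_smul, sub_eq_zero] at hφw
  rw [hφw, smul_eq_mul]
  exact dvd_mul_right _ _

end TateI

section Flasque

variable {F : Type} [AddCommGroup F]

/-- the augmentation submodule `I_H F` -/
def aug (τ : Representation ℤ G F) (H : Subgroup G) : Submodule ℤ F :=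
  Submodule.span ℤ {x : F | ∃ (h : H) (y : F), x = τ (h : G) y - y}

theorem isFlasque_iff (τ : Representation ℤ G F) :
    GLat.IsFlasque τ ↔ ∀ (H : Subgroup G) (m : F), (∑ᶠ h : H, τ (h : G) m) = 0 → m ∈ aug τ H :=
  Iff.rfl

theorem sub_mem_aug (τ : Representation ℤ G F) (H : Subgroup G) (h : H) (y : F) :
    τ (h : G) y - y ∈ aug τ H := Submodule.subset_span ⟨h, y, rfl⟩

theorem sum_translate (τ : Representation ℤ G F) (H : Subgroup G) [Fintype H] (a : H) (m : F) :
    ∑ h : H, τ (h : G) (τ (a : G) m) = ∑ h : H, τ (h : G) m := by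
  rw [← Equiv.sum_comp (Equiv.mulRight a) (fun h : H => τ (h : G) m)]
  apply Finset.sum_congr rfl
  intro h _
  show τ (h : G) (τ (a : G) m) = τ ((h * a : H) : G) m
  rw [Subgroup.coe_mul, mul_apply']

theorem norm_aug (τ : Representation ℤ G F) (H : Subgroup G) [Fintype H] (x : F)
    (hx : x ∈ aug τ H) : ∑ h : H, τ (h : G) x = 0 := by
  have hle : aug τ H ≤ LinearMap.ker (∑ h : H, τ (h : G)) := by
    unfold aug
    rw [Submodule.span_le]
    rintro _ ⟨a, y, rfl⟩
    rw [SetLike.mem_coe, LinearMap.mem_ker, LinearMap.sum_apply]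
    simp only [map_sub]
    rw [Finset.sum_sub_distrib, sum_translate, sub_self]
  have h1 := hle hx
  rwa [LinearMap.mem_ker, LinearMap.sum_apply] at h1

/-- an extension of a flasque module by a flasque module is flasque -/
theorem isFlasque_of_exact [Finite G] {P F' : Type} [AddCommGroup P] [AddCommGroup F']
    {σ : Representation ℤ G P} {τ : Representation ℤ G F} {τ' : Representation ℤ G F'}
    (i : P →ₗ[ℤ] F) (π : F →ₗ[ℤ] F') (hi : GLat.IsEquivariant σ τ i)
    (hπ : GLat.IsEquivariant τ τ' π) (hinj : Function.Injective i)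
    (hsurj : Function.Surjective π) (hex : LinearMap.range i = LinearMap.ker π)
    (hP : GLat.IsFlasque σ) (hF' : GLat.IsFlasque τ') : GLat.IsFlasque τ := by
  classical
  rw [isFlasque_iff] at hP hF' ⊢
  intro H m hN
  haveI : Fintype H := Fintype.ofFinite H
  rw [finsum_eq_sum_of_fintype] at hN
  have h1 : (∑ᶠ h : H, τ' (h : G) (π m)) = 0 := by
    rw [finsum_eq_sum_of_fintype]
    have h := congrArg π hN
    rw [map_sum, map_zero] at h
    rw [← h]
    apply Finset.sum_congr rfl
    intro a _
    exact (hπ _ _).symm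
  have h2 := hF' H (π m) h1
  have hle : aug τ' H ≤ Submodule.map π (aug τ H) := by
    unfold aug
    rw [Submodule.span_le]
    rintro _ ⟨h, y', rfl⟩
    obtain ⟨y, rfl⟩ := hsurj y'
    exact ⟨τ (h : G) y - y, Submodule.subset_span ⟨h, y, rfl⟩, by rw [map_sub, hπ]⟩
  obtain ⟨m', hm', hπm'⟩ := hle h2
  have h3 : m - m' ∈ LinearMap.range i := by
    rw [hex, LinearMap.mem_ker, map_sub, hπm', sub_self]
  obtain ⟨p, hp⟩ := h3
  have h4 : ∑ h : H, σ (h : G) p = 0 := by
    apply hinj
    rw [map_sum, map_zero]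
    have h5 : ∀ a ∈ (Finset.univ : Finset H), i (σ (a : G) p) = τ (a : G) m - τ (a : G) m' := by
      intro a _
      rw [hi, hp, map_sub]
    rw [Finset.sum_congr rfl h5, Finset.sum_sub_distrib, hN, norm_aug τ H m' hm', sub_zero]
  have h5 := hP H p (by rw [finsum_eq_sum_of_fintype]; exact h4)
  have h6 : i p ∈ aug τ H := by
    have hle2 : aug σ H ≤ Submodule.comap i (aug τ H) := by
      unfold aug
      rw [Submodule.span_le]
      rintro _ ⟨h, y, rfl⟩
      rw [SetLike.mem_coe, Submodule.mem_comap, map_sub, hi]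
      exact Submodule.subset_span ⟨h, i y, rfl⟩
    exact hle2 h5
  have h7 : m = m' + i p := by rw [hp]; abel
  rw [h7]
  exact Submodule.add_mem _ hm' h6

/-- permutation modules are flasque -/
theorem isFlasque_of_isPermutation [Finite G] (τ : Representation ℤ G F)
    (h : GLat.IsPermutation τ) : GLat.IsFlasque τ := by
  classical
  obtain ⟨ι, b, hb⟩ := h
  rw [isFlasque_iff]
  intro H m hN
  haveI : Fintype H := Fintype.ofFinite H
  rw [finsum_eq_sum_of_fintype] at hN
  let s : Setoid ι :=
    { r := fun i j => ∃ h : H, τ (h : G) (b i) = b j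
      iseqv :=
        { refl := fun i => ⟨1, by rw [Subgroup.coe_one, map_one]; rfl⟩
          symm := fun {i j} hij => by
            obtain ⟨h, hh⟩ := hij
            exact ⟨h⁻¹, by rw [← hh, Subgroup.coe_inv, inv_apply]⟩
          trans := fun {i j k} hij hjk => by
            obtain ⟨h, hh⟩ := hij
            obtain ⟨h', hh'⟩ := hjk
            exact ⟨h' * h, by rw [Subgroup.coe_mul, mul_apply', hh, hh']⟩ } }
  let θ : F →ₗ[ℤ] (Quotient s →₀ ℤ) :=
    b.constr ℤ (fun i => Finsupp.single (Quotient.mk s i) (1 : ℤ))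
  let ψ : (Quotient s →₀ ℤ) →ₗ[ℤ] F :=
    Finsupp.linearCombination ℤ (fun o : Quotient s => b o.out)
  have hθb : ∀ i, θ (b i) = Finsupp.single (Quotient.mk s i) 1 := fun i =>
    b.constr_basis ℤ _ i
  have hψθ : ∀ i, ψ (θ (b i)) = b (Quotient.mk s i).out := fun i => by
    rw [hθb, Finsupp.linearCombination_single, one_smul]
  have hθτ : ∀ (h : H) (y : F), θ (τ (h : G) y) = θ y := by
    intro h
    have h1 : θ.comp (τ (h : G)) = θ := by
      apply b.ext
      intro i
      obtain ⟨j, hj⟩ := hb (h : G) i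
      rw [LinearMap.comp_apply, hj, hθb, hθb]
      congr 1
      exact (Quotient.sound (s := s) ⟨h, hj⟩).symm
    exact fun y => LinearMap.congr_fun h1 y
  have hL : ∀ y : F, y - ψ (θ y) ∈ aug τ H := by
    have h1 : (⊤ : Submodule ℤ F) ≤ Submodule.comap (LinearMap.id - ψ.comp θ) (aug τ H) := by
      rw [← b.span_eq, Submodule.span_le]
      rintro _ ⟨i, rfl⟩
      show b i - ψ (θ (b i)) ∈ aug τ H
      rw [hψθ]
      have hrel : s.r (Quotient.mk s i).out i := Quotient.exact (Quotient.out_eq (Quotient.mk s i))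
      obtain ⟨h, hh⟩ := hrel
      rw [← hh]
      exact sub_mem_aug τ H h _
    exact fun y => h1 Submodule.mem_top
  have hθm : θ m = 0 := by
    have h1 := congrArg θ hN
    rw [map_sum, map_zero] at h1
    have h2 : ∀ a ∈ (Finset.univ : Finset H), θ (τ (a : G) m) = θ m := fun a _ => hθτ a m
    rw [Finset.sum_congr rfl h2, Finset.sum_const, Finset.card_univ] at h1
    apply Finsupp.ext
    intro o
    have h3 := DFunLike.congr_fun h1 o
    rw [Finsupp.smul_apply, Finsupp.zero_apply, nsmul_eq_mul] at h3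
    rcases mul_eq_zero.mp h3 with h4 | h4
    · exact absurd (Nat.cast_eq_zero.mp h4) Fintype.card_ne_zero
    · exact h4
  have h1 := hL m
  rw [hθm, map_zero, sub_zero] at h1
  exact h1

/-- a finitely generated extension of a free module by a free module is free -/
theorem free_of_exact {P F' : Type} [AddCommGroup P] [AddCommGroup F']
    [Module.Free ℤ P] [Module.Free ℤ F'] [Module.Finite ℤ F]
    (i : P →ₗ[ℤ] F) (π : F →ₗ[ℤ] F') (hinj : Function.Injective i)
    (hex : LinearMap.range i = LinearMap.ker π) : Module.Free ℤ F := by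
  haveI : Module.IsTorsionFree ℤ F := Module.IsTorsionFree.of_smul_eq_zero (fun n x hx => by
    by_cases hn : n = 0
    · exact Or.inl hn
    · right
      have h1 : π x = 0 := by
        have h0 : n • π x = 0 := by rw [← map_smul, hx, map_zero]
        exact (smul_eq_zero.mp h0).resolve_left hn
      have h2 : x ∈ LinearMap.range i := by rw [hex]; exact h1
      obtain ⟨p, rfl⟩ := h2
      have h3 : n • p = 0 := hinj (by rw [map_smul, hx, map_zero])
      rw [(smul_eq_zero.mp h3).resolve_left hn, map_zero])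
  infer_instance

end Flasque

section TateII

variable {M : Type} [AddCommGroup M] [Module.Free ℤ M] [Module.Finite ℤ M]

/-- `Ĥ⁻¹(H, M) = 0` for all `H` implies `H¹(H, M°) = 0` for all `H` -/
theorem isCoflasque_dual_of_isFlasque [Finite G] (ρ : Representation ℤ G M)
    (hρ : GLat.IsFlasque ρ) : GLat.IsCoflasque ρ.dual := by
  classical
  rw [isFlasque_iff] at hρ
  intro H f hf
  haveI : Fintype H := Fintype.ofFinite H
  obtain ⟨n, hn_def⟩ : ∃ n : ℤ, n = (Fintype.card H : ℤ) := ⟨_, rfl⟩
  have hn : n ≠ 0 := by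
    rw [hn_def]
    exact Nat.cast_ne_zero.mpr Fintype.card_ne_zero
  obtain ⟨S, hS⟩ : ∃ S : Dual ℤ M, S = ∑ h : H, f h := ⟨_, rfl⟩
  have h1 : ∀ a : H, n • f a = S - ρ.dual (a : G) S := by
    intro a
    have h2 : ∑ h : H, f (a * h) = S := by
      rw [hS]
      exact Equiv.sum_comp (Equiv.mulLeft a) f
    have h3 : ∑ h : H, f (a * h) = n • f a + ρ.dual (a : G) S := by
      have h4 : ∀ h ∈ (Finset.univ : Finset H), f (a * h) = f a + ρ.dual (a : G) (f h) :=
        fun h _ => hf a h
      rw [Finset.sum_congr rfl h4, Finset.sum_add_distrib, Finset.sum_const, Finset.card_univ,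
        ← map_sum, ← hS, hn_def, Nat.cast_smul_eq_nsmul]
    rw [h2] at h3
    exact eq_sub_of_add_eq h3.symm
  have h2 : ∀ y ∈ aug ρ H, n ∣ S y := by
    intro y hy
    unfold aug at hy
    induction hy using Submodule.span_induction with
    | mem x hx =>
      obtain ⟨h, y, rfl⟩ := hx
      have h3 := LinearMap.congr_fun (h1 h⁻¹) y
      rw [LinearMap.smul_apply, LinearMap.sub_apply, dual_apply', Subgroup.coe_inv, inv_inv,
        smul_eq_mul] at h3
      rw [map_sub]
      exact ⟨-(f h⁻¹ y), by rw [mul_neg, h3]; ring⟩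
    | zero =>
      rw [map_zero]
      exact dvd_zero _
    | add x y _ _ hx hy =>
      rw [map_add]
      exact dvd_add hx hy
    | smul c x _ hx =>
      rw [map_smul, smul_eq_mul]
      exact Dvd.dvd.mul_left hx c
  haveI : Module.IsTorsionFree ℤ (M ⧸ aug ρ H) :=
    Module.IsTorsionFree.of_smul_eq_zero (fun k x hx => by
      by_cases hk : k = 0
      · exact Or.inl hk
      · right
        obtain ⟨m, rfl⟩ := Submodule.Quotient.mk_surjective _ x
        rw [← Submodule.Quotient.mk_smul, Submodule.Quotient.mk_eq_zero] at hx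
        rw [Submodule.Quotient.mk_eq_zero]
        apply hρ H m
        rw [finsum_eq_sum_of_fintype]
        have h3 := norm_aug ρ H _ hx
        simp only [map_smul] at h3
        rw [← Finset.smul_sum] at h3
        exact (smul_eq_zero.mp h3).resolve_left hk)
  obtain ⟨s, hs⟩ := Module.projective_lifting_property (aug ρ H).mkQ LinearMap.id
    (Submodule.mkQ_surjective _)
  have hs' : ∀ x, (aug ρ H).mkQ (s x) = x := fun x => LinearMap.congr_fun hs x
  obtain ⟨w, hw_def⟩ : ∃ w : Dual ℤ M, w = S.comp (s.comp (aug ρ H).mkQ) := ⟨_, rfl⟩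
  have hw_apply : ∀ y, w y = S (s ((aug ρ H).mkQ y)) := fun y => by rw [hw_def]; rfl
  have hw : ∀ a : H, ρ.dual (a : G) w = w := by
    intro a
    apply LinearMap.ext
    intro y
    rw [dual_apply', hw_apply, hw_apply]
    congr 2
    rw [Submodule.mkQ_apply, Submodule.mkQ_apply, Submodule.Quotient.eq]
    have h3 := sub_mem_aug ρ H a⁻¹ y
    rw [Subgroup.coe_inv] at h3
    exact h3
  have h3 : ∀ y : M, n ∣ (S - w) y := by
    intro y
    rw [LinearMap.sub_apply, hw_apply, ← map_sub]
    apply h2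
    rw [← Submodule.Quotient.mk_eq_zero, Submodule.Quotient.mk_sub, sub_eq_zero]
    exact (hs' _).symm
  obtain ⟨z₀, hz₀⟩ := exists_eq_smul_of_forall_dual n (S - w) (fun E => by
    obtain ⟨y, rfl⟩ := (Module.evalEquiv ℤ M).surjective E
    exact h3 y)
  refine ⟨-z₀, fun a => ?_⟩
  apply smul_cancel hn
  rw [h1 a, smul_sub, ← map_smul, smul_neg, ← hz₀, map_neg, map_sub, hw a]
  abel

end TateII

end Groth.Agent.Lib.GLatH1
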