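import Mathlib
import Groth.Prelude.Def_W4c5flasquetoriphsGLat
import Groth.Agent.Lib.GLatDual_helper1
import Groth.Agent.S18675

/-! Flasque and coflasque resolutions of lattices over a finite group (helper1). -/

set_option autoImplicit false
set_option maxHeartbeats 1000000

open Module

namespace Groth.Agent.Lib.GLatH1

/-- flasque resolution `0 → A → P → F → 0` of a lattice: dualize the coflasque resolution of the
dual lattice -/
theorem s18686 (G : Type) [Group G] [Finite G]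
    (A : Type) [AddCommGroup A] [Module.Finite ℤ A] [Module.Free ℤ A] (ρ : Representation ℤ G A) :
    ∃ (P : Type) (_ : AddCommGroup P) (F : Type) (_ : AddCommGroup F)
      (_ : Module.Finite ℤ P) (_ : Module.Free ℤ P) (_ : Module.Finite ℤ F) (_ : Module.Free ℤ F)
      (σ : Representation ℤ G P) (τ : Representation ℤ G F) (i : A →ₗ[ℤ] P) (π : P →ₗ[ℤ] F),
      GLat.IsEquivariant ρ σ i ∧ GLat.IsEquivariant σ τ π ∧ Function.Injective i ∧
      Function.Surjective π ∧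
      LinearMap.range i = LinearMap.ker π ∧ GLat.IsPermutation σ ∧ GLat.IsFlasque τ := by
  obtain ⟨Q, _, P, _, _, _, _, _, σ, τ, i, π, hi, hπ, hinj, hsurj, hex, hperm, hcofl⟩ :=
    Groth.Agent.S18675.result G (Module.Dual ℤ A) ρ.dual
  obtain ⟨h1, h2, h3⟩ := dual_exact i π hinj hsurj hex
  refine ⟨Module.Dual ℤ P, inferInstance, Module.Dual ℤ Q, inferInstance, inferInstance,
    inferInstance, inferInstance, inferInstance, τ.dual, σ.dual, evTo π, i.dualMap,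
    evTo_equivariant hπ, equivariant_dualMap hi, evTo_injective hsurj, h2, ?_,
    isPermutation_dual τ hperm, isFlasque_dual_of_isCoflasque σ hcofl⟩
  rw [range_evTo, h3]

section Pushout

variable {G : Type} [Group G]
variable {Q P₀ P₁ : Type} [AddCommGroup Q] [AddCommGroup P₀] [AddCommGroup P₁]
  (i₀ : Q →ₗ[ℤ] P₀) (j : Q →ₗ[ℤ] P₁)

/-- the antidiagonal image of `Q` in `P₀ × P₁` -/
def pushK : Submodule ℤ (P₀ × P₁) := LinearMap.range (i₀.prod (-j))

theorem mem_pushK (x : P₀ × P₁) : x ∈ pushK i₀ j ↔ ∃ q, i₀ q = x.1 ∧ -(j q) = x.2 := by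
  unfold pushK
  constructor
  · rintro ⟨q, rfl⟩
    exact ⟨q, rfl, rfl⟩
  · rintro ⟨q, h1, h2⟩
    exact ⟨q, Prod.ext h1 h2⟩

/-- the pushout of `P₀ ← Q → P₁` -/
abbrev Push : Type := (P₀ × P₁) ⧸ pushK i₀ j

/-- `P₀ → Push` -/
def pushInl : P₀ →ₗ[ℤ] Push i₀ j := (pushK i₀ j).mkQ.comp (LinearMap.inl ℤ P₀ P₁)

/-- `P₁ → Push` -/
def pushInr : P₁ →ₗ[ℤ] Push i₀ j := (pushK i₀ j).mkQ.comp (LinearMap.inr ℤ P₀ P₁)

theorem pushInl_apply (p : P₀) :
    pushInl i₀ j p = Submodule.Quotient.mk ((p, 0) : P₀ × P₁) := rfl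

theorem pushInr_apply (p : P₁) :
    pushInr i₀ j p = Submodule.Quotient.mk ((0, p) : P₀ × P₁) := rfl

theorem pushInl_injective (hj : Function.Injective j) : Function.Injective (pushInl i₀ j) := by
  refine (injective_iff_map_eq_zero _).mpr (fun p hp => ?_)
  rw [pushInl_apply, Submodule.Quotient.mk_eq_zero, mem_pushK] at hp
  obtain ⟨q, h1, h2⟩ := hp
  have hq : q = 0 := hj (by rw [map_zero]; exact neg_eq_zero.mp h2)
  have h3 : i₀ q = p := h1
  rw [← h3, hq, map_zero]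

theorem pushInr_injective (hi₀ : Function.Injective i₀) :
    Function.Injective (pushInr i₀ j) := by
  refine (injective_iff_map_eq_zero _).mpr (fun p hp => ?_)
  rw [pushInr_apply, Submodule.Quotient.mk_eq_zero, mem_pushK] at hp
  obtain ⟨q, h1, h2⟩ := hp
  have hq : q = 0 := hi₀ (by rw [map_zero]; exact h1)
  have h3 : -(j q) = p := h2
  rw [← h3, hq, map_zero, neg_zero]

variable {A : Type} [AddCommGroup A] (π₀ : P₀ →ₗ[ℤ] A) (h₀ : ∀ q, π₀ (i₀ q) = 0)
  {F₁ : Type} [AddCommGroup F₁] (κ : P₁ →ₗ[ℤ] F₁) (h₁ : ∀ q, κ (j q) = 0)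

/-- `Push → A` induced by `π₀` on the first factor -/
def pushDesc₀ : Push i₀ j →ₗ[ℤ] A :=
  (pushK i₀ j).liftQ (π₀.comp (LinearMap.fst ℤ P₀ P₁)) (by
    intro x hx
    obtain ⟨q, h1, h2⟩ := (mem_pushK i₀ j x).mp hx
    rw [LinearMap.mem_ker, LinearMap.comp_apply, LinearMap.fst_apply, ← h1, h₀])

/-- `Push → F₁` induced by `κ` on the second factor -/
def pushDesc₁ : Push i₀ j →ₗ[ℤ] F₁ :=
  (pushK i₀ j).liftQ (κ.comp (LinearMap.snd ℤ P₀ P₁)) (by
    intro x hx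
    obtain ⟨q, h1, h2⟩ := (mem_pushK i₀ j x).mp hx
    rw [LinearMap.mem_ker, LinearMap.comp_apply, LinearMap.snd_apply, ← h2, map_neg, h₁,
      neg_zero])

theorem pushDesc₀_mk (x : P₀ × P₁) :
    pushDesc₀ i₀ j π₀ h₀ (Submodule.Quotient.mk x) = π₀ x.1 := rfl

theorem pushDesc₁_mk (x : P₀ × P₁) :
    pushDesc₁ i₀ j κ h₁ (Submodule.Quotient.mk x) = κ x.2 := rfl

theorem pushDesc₀_surjective (hπ₀ : Function.Surjective π₀) :
    Function.Surjective (pushDesc₀ i₀ j π₀ h₀) := by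
  intro a
  obtain ⟨p, rfl⟩ := hπ₀ a
  exact ⟨Submodule.Quotient.mk (p, 0), rfl⟩

theorem pushDesc₁_surjective (hκ : Function.Surjective κ) :
    Function.Surjective (pushDesc₁ i₀ j κ h₁) := by
  intro a
  obtain ⟨p, rfl⟩ := hκ a
  exact ⟨Submodule.Quotient.mk (0, p), rfl⟩

theorem pushInr_exact (hex₀ : LinearMap.range i₀ = LinearMap.ker π₀) :
    LinearMap.range (pushInr i₀ j) = LinearMap.ker (pushDesc₀ i₀ j π₀ h₀) := by
  apply le_antisymm
  · rintro _ ⟨p, rfl⟩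
    rw [LinearMap.mem_ker, pushInr_apply, pushDesc₀_mk, map_zero]
  · intro x hx
    obtain ⟨⟨p₀, p₁⟩, rfl⟩ := Submodule.Quotient.mk_surjective _ x
    rw [LinearMap.mem_ker, pushDesc₀_mk] at hx
    have h1 : p₀ ∈ LinearMap.range i₀ := by rw [hex₀]; exact hx
    obtain ⟨q, rfl⟩ := h1
    refine ⟨p₁ + j q, ?_⟩
    rw [pushInr_apply]
    symm
    rw [Submodule.Quotient.eq, mem_pushK]
    exact ⟨q, by simp, by simp⟩

theorem pushInl_exact (hex₁ : LinearMap.range j = LinearMap.ker κ) :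
    LinearMap.range (pushInl i₀ j) = LinearMap.ker (pushDesc₁ i₀ j κ h₁) := by
  apply le_antisymm
  · rintro _ ⟨p, rfl⟩
    rw [LinearMap.mem_ker, pushInl_apply, pushDesc₁_mk, map_zero]
  · intro x hx
    obtain ⟨⟨p₀, p₁⟩, rfl⟩ := Submodule.Quotient.mk_surjective _ x
    rw [LinearMap.mem_ker, pushDesc₁_mk] at hx
    have h1 : p₁ ∈ LinearMap.range j := by rw [hex₁]; exact hx
    obtain ⟨q, rfl⟩ := h1
    refine ⟨p₀ + i₀ q, ?_⟩
    rw [pushInl_apply]
    symm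
    rw [Submodule.Quotient.eq, mem_pushK]
    exact ⟨-q, by simp, by simp⟩

variable {σ₀ : Representation ℤ G Q} {τ₀ : Representation ℤ G P₀} {σ₁ : Representation ℤ G P₁}
  (hi₀ : GLat.IsEquivariant σ₀ τ₀ i₀) (hj : GLat.IsEquivariant σ₀ σ₁ j)

/-- the action on the pushout -/
noncomputable def pushRho : Representation ℤ G (Push i₀ j) :=
  (τ₀.prod σ₁).quotient (pushK i₀ j) (by
    intro g x hx
    obtain ⟨q, h1, h2⟩ := (mem_pushK i₀ j x).mp hx
    rw [Submodule.mem_comap, mem_pushK]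
    refine ⟨σ₀ g q, ?_, ?_⟩
    · rw [hi₀, h1]
      rfl
    · rw [hj, ← map_neg, h2]
      rfl)

theorem pushRho_mk (g : G) (x : P₀ × P₁) :
    pushRho i₀ j hi₀ hj g (Submodule.Quotient.mk x) =
      Submodule.Quotient.mk ((τ₀ g x.1, σ₁ g x.2) : P₀ × P₁) := rfl

theorem pushInl_equivariant : GLat.IsEquivariant τ₀ (pushRho i₀ j hi₀ hj) (pushInl i₀ j) := by
  intro g p
  rw [pushInl_apply, pushInl_apply, pushRho_mk]
  show _ = Submodule.Quotient.mk ((τ₀ g p, σ₁ g 0) : P₀ × P₁)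
  rw [map_zero]

theorem pushInr_equivariant : GLat.IsEquivariant σ₁ (pushRho i₀ j hi₀ hj) (pushInr i₀ j) := by
  intro g p
  rw [pushInr_apply, pushInr_apply, pushRho_mk]
  show _ = Submodule.Quotient.mk ((τ₀ g 0, σ₁ g p) : P₀ × P₁)
  rw [map_zero]

theorem pushDesc₀_equivariant {ρ : Representation ℤ G A} (hπ₀ : GLat.IsEquivariant τ₀ ρ π₀) :
    GLat.IsEquivariant (pushRho i₀ j hi₀ hj) ρ (pushDesc₀ i₀ j π₀ h₀) := by
  intro g x
  obtain ⟨⟨p₀, p₁⟩, rfl⟩ := Submodule.Quotient.mk_surjective _ x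
  rw [pushRho_mk, pushDesc₀_mk, pushDesc₀_mk]
  exact hπ₀ g p₀

theorem pushDesc₁_equivariant {τ₁ : Representation ℤ G F₁} (hκ : GLat.IsEquivariant σ₁ τ₁ κ) :
    GLat.IsEquivariant (pushRho i₀ j hi₀ hj) τ₁ (pushDesc₁ i₀ j κ h₁) := by
  intro g x
  obtain ⟨⟨p₀, p₁⟩, rfl⟩ := Submodule.Quotient.mk_surjective _ x
  rw [pushRho_mk, pushDesc₁_mk, pushDesc₁_mk]
  exact hκ g p₁

end Pushout

/-- flasque cover `0 → P → F → A → 0` of a finitely generated module -/
theorem s18685 (G : Type) [Group G] [Finite G]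
    (A : Type) [AddCommGroup A] [Module.Finite ℤ A] (ρ : Representation ℤ G A) :
    ∃ (P : Type) (_ : AddCommGroup P) (F : Type) (_ : AddCommGroup F)
      (_ : Module.Finite ℤ P) (_ : Module.Free ℤ P) (_ : Module.Finite ℤ F) (_ : Module.Free ℤ F)
      (σ : Representation ℤ G P) (τ : Representation ℤ G F) (i : P →ₗ[ℤ] F) (π : F →ₗ[ℤ] A),
      GLat.IsEquivariant σ τ i ∧ GLat.IsEquivariant τ ρ π ∧ Function.Injective i ∧
      Function.Surjective π ∧
      LinearMap.range i = LinearMap.ker π ∧ GLat.IsPermutation σ ∧ GLat.IsFlasque τ := by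
  obtain ⟨Q, _, P₀, _, _, _, _, _, σ₀, τ₀, i₀, π₀, hi₀, hπ₀, hinj₀, hsurj₀, hex₀, hperm₀, -⟩ :=
    Groth.Agent.S18675.result G A ρ
  obtain ⟨P₁, _, F₁, _, _, _, _, _, σ₁, τ₁, j, κ, hj, hκ, hinjj, hsurjκ, hexj, hperm₁, hfl₁⟩ :=
    s18686 G Q σ₀
  have h₀ : ∀ q, π₀ (i₀ q) = 0 := fun q => by
    have h : i₀ q ∈ LinearMap.range i₀ := ⟨q, rfl⟩
    rw [hex₀] at h
    exact h
  have h₁ : ∀ q, κ (j q) = 0 := fun q => by
    have h : j q ∈ LinearMap.range j := ⟨q, rfl⟩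
    rw [hexj] at h
    exact h
  haveI : Module.Free ℤ (Push i₀ j) :=
    free_of_exact (pushInl i₀ j) (pushDesc₁ i₀ j κ h₁) (pushInl_injective i₀ j hinjj)
      (pushInl_exact i₀ j κ h₁ hexj)
  refine ⟨P₁, inferInstance, Push i₀ j, inferInstance, inferInstance, inferInstance,
    inferInstance, inferInstance, σ₁, pushRho i₀ j hi₀ hj, pushInr i₀ j,
    pushDesc₀ i₀ j π₀ h₀, pushInr_equivariant i₀ j hi₀ hj,
    pushDesc₀_equivariant i₀ j π₀ h₀ hi₀ hj hπ₀, pushInr_injective i₀ j hinj₀,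
    pushDesc₀_surjective i₀ j π₀ h₀ hsurj₀, pushInr_exact i₀ j π₀ h₀ hex₀, hperm₁, ?_⟩
  exact isFlasque_of_exact (pushInl i₀ j) (pushDesc₁ i₀ j κ h₁)
    (pushInl_equivariant i₀ j hi₀ hj) (pushDesc₁_equivariant i₀ j κ h₁ hi₀ hj hκ)
    (pushInl_injective i₀ j hinjj) (pushDesc₁_surjective i₀ j κ h₁ hsurjκ)
    (pushInl_exact i₀ j κ h₁ hexj) (isFlasque_of_isPermutation τ₀ hperm₀) hfl₁

/-- coflasque resolution `0 → A → Q → P → 0` of a lattice: dualize the flasque cover of the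
dual lattice -/
theorem s18687 (G : Type) [Group G] [Finite G]
    (A : Type) [AddCommGroup A] [Module.Finite ℤ A] [Module.Free ℤ A] (ρ : Representation ℤ G A) :
    ∃ (Q : Type) (_ : AddCommGroup Q) (P : Type) (_ : AddCommGroup P)
      (_ : Module.Finite ℤ Q) (_ : Module.Free ℤ Q) (_ : Module.Finite ℤ P) (_ : Module.Free ℤ P)
      (σ : Representation ℤ G Q) (τ : Representation ℤ G P) (i : A →ₗ[ℤ] Q) (π : Q →ₗ[ℤ] P),
      GLat.IsEquivariant ρ σ i ∧ GLat.IsEquivariant σ τ π ∧ Function.Injective i ∧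
      Function.Surjective π ∧
      LinearMap.range i = LinearMap.ker π ∧ GLat.IsCoflasque σ ∧ GLat.IsPermutation τ := by
  obtain ⟨P, _, F, _, _, _, _, _, σ, τ, i, π, hi, hπ, hinj, hsurj, hex, hperm, hfl⟩ :=
    s18685 G (Module.Dual ℤ A) ρ.dual
  obtain ⟨h1, h2, h3⟩ := dual_exact i π hinj hsurj hex
  refine ⟨Module.Dual ℤ F, inferInstance, Module.Dual ℤ P, inferInstance, inferInstance,
    inferInstance, inferInstance, inferInstance, τ.dual, σ.dual, evTo π, i.dualMap,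
    evTo_equivariant hπ, equivariant_dualMap hi, evTo_injective hsurj, h2, ?_,
    isCoflasque_dual_of_isFlasque τ hfl, isPermutation_dual σ hperm⟩
  rw [range_evTo, h3]

end Groth.Agent.Lib.GLatH1
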