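import Groth.Agent.Lib.ComodDual_helper9
import Groth.Agent.Lib.Reynolds_helper9

/-!
# Total integrals on a commutative Hopf algebra and the averaging retraction (helper9)

For a commutative Hopf algebra `A` over `k` and a linear form `α : A → k` with
`Σ α(a₁) a₂ = α(a) 1` (a right integral), every comodule `V` admits the map
`r₀ : V ⊗ A → V`, `v ⊗ b ↦ Σ α(S(v₁) b) v₀`, which intertwines the coaction `id ⊗ Δ` of `V ⊗ A`
with that of `V`; if `α 1 = 1` it is a retraction of the coaction.  Averaging a linear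
projection with it gives Maschke's theorem for comodules.
-/

set_option autoImplicit false
universe u v w

open TensorProduct WithConv

namespace Groth.Agent.Lib.Integral_helper9

open Groth.Agent.Lib.ComodDual_helper9 Groth.Agent.Lib.Reynolds_helper9 Groth.Agent.Lib.Comod_helper9

section Defs

variable (k : Type u) [CommRing k] (A : Type v) [CommRing A] [HopfAlgebra k A] (α : A →ₗ[k] k)

/-- `Θ(y ⊗ z) = α(y) • z` -/
noncomputable def Theta : A ⊗[k] A →ₗ[k] A := (TensorProduct.lid k A).toLinearMap ∘ₗ α.rTensor A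

theorem Theta_tmul (y z : A) : Theta k A α (y ⊗ₜ[k] z) = α y • z := by simp [Theta]

/-- `κ(p ⊗ q) = α(S p * q)` -/
noncomputable def kappa : A ⊗[k] A →ₗ[k] k :=
  α ∘ₗ LinearMap.mul' k A ∘ₗ (HopfAlgebraStruct.antipode k (A := A)).rTensor A

theorem kappa_tmul (p q : A) :
    kappa k A α (p ⊗ₜ[k] q) = α (HopfAlgebraStruct.antipode k p * q) := by simp [kappa]

/-- `φ_b(p) = α(S p * b)` -/
noncomputable def phi (b : A) : A →ₗ[k] k := kappa k A α ∘ₗ (TensorProduct.mk k A A).flip b

theorem phi_apply (b p : A) : phi k A α b p = α (HopfAlgebraStruct.antipode k p * b) := by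
  simp [phi, kappa_tmul]

/-- `F_t(a) = ψ(Θ((S a ⊗ 1) * t))` -/
noncomputable def Ffun (ψ : A →ₗ[k] k) (t : A ⊗[k] A) : A →ₗ[k] k :=
  ψ ∘ₗ Theta k A α ∘ₗ LinearMap.mulRight k t ∘ₗ (TensorProduct.mk k A A).flip (1 : A) ∘ₗ
    HopfAlgebraStruct.antipode k (A := A)

theorem Ffun_apply (ψ : A →ₗ[k] k) (t : A ⊗[k] A) (a : A) :
    Ffun k A α ψ t a = ψ (Theta k A α ((HopfAlgebraStruct.antipode k a ⊗ₜ[k] (1 : A)) * t)) := by
  simp [Ffun]

theorem Ffun_zero (ψ : A →ₗ[k] k) : Ffun k A α ψ 0 = 0 := by
  apply LinearMap.ext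
  intro a
  rw [Ffun_apply, mul_zero, map_zero, map_zero, LinearMap.zero_apply]

theorem Ffun_add (ψ : A →ₗ[k] k) (t t' : A ⊗[k] A) :
    Ffun k A α ψ (t + t') = Ffun k A α ψ t + Ffun k A α ψ t' := by
  apply LinearMap.ext
  intro a
  rw [LinearMap.add_apply, Ffun_apply, Ffun_apply, Ffun_apply, mul_add, map_add, map_add]

theorem Ffun_tmul (ψ : A →ₗ[k] k) (p q : A) :
    Ffun k A α ψ (p ⊗ₜ[k] q) = ψ q • phi k A α p := by
  apply LinearMap.ext
  intro a
  rw [Ffun_apply, Algebra.TensorProduct.tmul_mul_tmul, one_mul, Theta_tmul, map_smul,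
    LinearMap.smul_apply, phi_apply, smul_eq_mul, smul_eq_mul, mul_comm]

theorem Theta_incR_mul (y : A) (w : A ⊗[k] A) :
    Theta k A α (((1 : A) ⊗ₜ[k] y) * w) = y * Theta k A α w := by
  induction w using TensorProduct.induction_on with
  | zero => rw [mul_zero, map_zero, mul_zero]
  | add x x' hx hx' => rw [mul_add, map_add, map_add, hx, hx', mul_add]
  | tmul p q =>
    rw [Algebra.TensorProduct.tmul_mul_tmul, one_mul, Theta_tmul, Theta_tmul, mul_smul_comm]

variable (hint : ∀ a : A, Theta k A α (CoalgebraStruct.comul (R := k) a) = α a • (1 : A))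

include hint in
theorem ev_phi_eq (b : A) (t : A ⊗[k] A) :
    ev A (phi k A α b) t =
      Theta k A α (LinearMap.mul' k (A ⊗[k] A) (TensorProduct.map (incR k A).toLinearMap
        (CoalgebraStruct.comul (R := k) (A := A) ∘ₗ HopfAlgebraStruct.antipode k (A := A)) t) *
        CoalgebraStruct.comul (R := k) b) := by
  induction t using TensorProduct.induction_on with
  | zero => simp
  | add x y hx hy => simp only [map_add, add_mul, hx, hy]
  | tmul y z =>
    rw [ev_tmul, TensorProduct.map_tmul, LinearMap.mul'_apply, mul_assoc]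
    have h1 : (incR k A).toLinearMap y = (1 : A) ⊗ₜ[k] y := rfl
    have h2 : (CoalgebraStruct.comul (R := k) (A := A) ∘ₗ HopfAlgebraStruct.antipode k (A := A)) z
        = CoalgebraStruct.comul (R := k) (HopfAlgebraStruct.antipode k z) := rfl
    rw [h1, h2, ← Bialgebra.comul_mul, Theta_incR_mul, hint, mul_smul_comm, mul_one, phi_apply]

include hint in
/-- `Σ x₁ α(S(x₂) b) = Σ α(S(x) b₁) b₂`. -/
theorem ev_phi_comul (b x : A) :
    ev A (phi k A α b) (CoalgebraStruct.comul (R := k) x) =
      Theta k A α ((HopfAlgebraStruct.antipode k x ⊗ₜ[k] (1 : A)) *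
        CoalgebraStruct.comul (R := k) b) := by
  rw [ev_phi_eq k A α hint, incR_mul_comul_antipode_apply]

theorem mul'_map_eq (ψ φ : A →ₗ[k] k) (s : A ⊗[k] A) :
    LinearMap.mul' k k (TensorProduct.map ψ φ s) = ψ (ev A φ s) := by
  induction s using TensorProduct.induction_on with
  | zero => simp
  | add x y hx hy => simp only [map_add, hx, hy]
  | tmul y z =>
    rw [TensorProduct.map_tmul, LinearMap.mul'_apply, ev_tmul, map_smul, smul_eq_mul, mul_comm]

include hint in
theorem Ffun_comul (ψ : A →ₗ[k] k) (b : A) :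
    Ffun k A α ψ (CoalgebraStruct.comul (R := k) b) =
      (toConv ψ * toConv (phi k A α b)).ofConv := by
  apply LinearMap.ext
  intro a
  rw [Ffun_apply, ← ev_phi_comul k A α hint]
  show _ = LinearMap.mul' k k (TensorProduct.map ψ (phi k A α b) (CoalgebraStruct.comul (R := k) a))
  rw [mul'_map_eq]

end Defs

section Comod

variable (k : Type u) [CommRing k] (A : Type v) [CommRing A] [HopfAlgebra k A] (α : A →ₗ[k] k)
variable (V : Type w) [AddCommGroup V] [Module k V] [HopfRep.Comod k A V]

/-- The averaging map `v ⊗ b ↦ Σ α(S(v₁) b) v₀`. -/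
noncomputable def r0 : V ⊗[k] A →ₗ[k] V :=
  ev V (kappa k A α) ∘ₗ (TensorProduct.assoc k V A A).toLinearMap ∘ₗ
    (HopfRep.Comod.coact (k := k) (A := A) (V := V)).rTensor A

theorem ev_kappa_assoc (b : A) (y : V ⊗[k] A) :
    ev V (kappa k A α) (TensorProduct.assoc k V A A (y ⊗ₜ[k] b)) = ev V (phi k A α b) y := by
  induction y using TensorProduct.induction_on with
  | zero => simp
  | add x y hx hy => simp only [TensorProduct.add_tmul, map_add, hx, hy]
  | tmul u p =>
    rw [TensorProduct.assoc_tmul, ev_tmul, ev_tmul, kappa_tmul, phi_apply]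

theorem r0_tmul (v : V) (b : A) :
    r0 k A α V (v ⊗ₜ[k] b) = ev V (phi k A α b) (HopfRep.Comod.coact (k := k) (A := A) v) := by
  show ev V (kappa k A α) (TensorProduct.assoc k V A A
    ((HopfRep.Comod.coact (k := k) (A := A) (V := V)).rTensor A (v ⊗ₜ[k] b))) = _
  rw [LinearMap.rTensor_tmul, ev_kappa_assoc]

theorem r0_ev_assoc_symm (ψ : A →ₗ[k] k) (v : V) (t : A ⊗[k] A) :
    r0 k A α V (ev (V ⊗[k] A) ψ ((TensorProduct.assoc k V A A).symm (v ⊗ₜ[k] t))) =
      ev V (Ffun k A α ψ t) (HopfRep.Comod.coact (k := k) (A := A) v) := by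
  induction t using TensorProduct.induction_on with
  | zero =>
    rw [TensorProduct.tmul_zero, map_zero, map_zero, map_zero, Ffun_zero, ev_zero,
      LinearMap.zero_apply]
  | add x y hx hy =>
    rw [TensorProduct.tmul_add, map_add, map_add, map_add, hx, hy, Ffun_add, ev_add,
      LinearMap.add_apply]
  | tmul p q =>
    rw [TensorProduct.assoc_symm_tmul, ev_tmul, map_smul, r0_tmul, Ffun_tmul, ev_smul,
      LinearMap.smul_apply]

variable (hint : ∀ a : A, Theta k A α (CoalgebraStruct.comul (R := k) a) = α a • (1 : A))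

include hint in
/-- `r₀` intertwines the coaction `id ⊗ Δ` on `V ⊗ A` with the coaction of `V` (in the form of
the actions of functionals). -/
theorem r0_act (ψ : A →ₗ[k] k) (y : V ⊗[k] A) :
    r0 k A α V (ev (V ⊗[k] A) ψ ((TensorProduct.assoc k V A A).symm
      ((CoalgebraStruct.comul (R := k) (A := A)).lTensor V y))) = act ψ (r0 k A α V y) := by
  induction y using TensorProduct.induction_on with
  | zero => simp
  | add x y hx hy => simp only [map_add, hx, hy]
  | tmul v b =>
    rw [LinearMap.lTensor_tmul, r0_ev_assoc_symm, Ffun_comul k A α hint, r0_tmul]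
    have h := act_mul (V := V) (toConv ψ) (toConv (phi k A α b)) v
    rw [act_apply] at h
    rw [h]
    rfl

theorem assoc_symm_rTensor (e : V →ₗ[k] V) (v : V) (t : A ⊗[k] A) :
    (TensorProduct.assoc k V A A).symm (e v ⊗ₜ[k] t) =
      (e.rTensor A).rTensor A ((TensorProduct.assoc k V A A).symm (v ⊗ₜ[k] t)) := by
  induction t using TensorProduct.induction_on with
  | zero => simp
  | add x y hx hy => simp only [TensorProduct.tmul_add, map_add, hx, hy]
  | tmul p q => simp

theorem coactAux_rTensor (e : V →ₗ[k] V) (y : V ⊗[k] A) :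
    (TensorProduct.assoc k V A A).symm
      ((CoalgebraStruct.comul (R := k) (A := A)).lTensor V (e.rTensor A y)) =
      (e.rTensor A).rTensor A ((TensorProduct.assoc k V A A).symm
        ((CoalgebraStruct.comul (R := k) (A := A)).lTensor V y)) := by
  induction y using TensorProduct.induction_on with
  | zero => simp
  | add x y hx hy => simp only [map_add, hx, hy]
  | tmul v b =>
    rw [LinearMap.rTensor_tmul, LinearMap.lTensor_tmul, LinearMap.lTensor_tmul, assoc_symm_rTensor]

theorem coassoc_apply (v : V) :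
    (TensorProduct.assoc k V A A).symm ((CoalgebraStruct.comul (R := k) (A := A)).lTensor V
      (HopfRep.Comod.coact (k := k) (A := A) v)) =
    (HopfRep.Comod.coact (k := k) (A := A) (V := V)).rTensor A
      (HopfRep.Comod.coact (k := k) (A := A) v) := by
  have hc := LinearMap.congr_fun (HopfRep.Comod.coassoc (k := k) (A := A) (V := V)) v
  simp only [LinearMap.coe_comp, Function.comp_apply, LinearEquiv.coe_coe] at hc
  rw [← hc, LinearEquiv.symm_apply_apply]

include hint in
/-- The averaged endomorphism `r₀ ∘ (e ⊗ id) ∘ ρ` commutes with the actions of functionals. -/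
theorem avg_act (e : V →ₗ[k] V) (ψ : A →ₗ[k] k) (v : V) :
    r0 k A α V (e.rTensor A (HopfRep.Comod.coact (k := k) (A := A) (act ψ v))) =
      act ψ (r0 k A α V (e.rTensor A (HopfRep.Comod.coact (k := k) (A := A) v))) := by
  rw [← r0_act k A α V hint, coactAux_rTensor, ev_rTensor, coassoc_apply, ev_rTensor]
  rfl

theorem kappa_comul (h1 : α 1 = 1) (a : A) :
    kappa k A α (CoalgebraStruct.comul (R := k) a) = CoalgebraStruct.counit (R := k) a := by
  show α (LinearMap.mul' k A ((HopfAlgebraStruct.antipode k (A := A)).rTensor A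
    (CoalgebraStruct.comul (R := k) a))) = _
  rw [HopfAlgebra.mul_antipode_rTensor_comul_apply, Algebra.algebraMap_eq_smul_one, map_smul, h1,
    smul_eq_mul, mul_one]

theorem ev_lTensor (φ : A ⊗[k] A →ₗ[k] k) (y : V ⊗[k] A) :
    ev V φ ((CoalgebraStruct.comul (R := k) (A := A)).lTensor V y) =
      ev V (φ ∘ₗ CoalgebraStruct.comul (R := k) (A := A)) y := by
  induction y using TensorProduct.induction_on with
  | zero => simp
  | add x y hx hy => simp only [map_add, hx, hy]
  | tmul v b => rw [LinearMap.lTensor_tmul, ev_tmul, ev_tmul, LinearMap.comp_apply]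

/-- `r₀` is a retraction of the coaction. -/
theorem r0_coact (h1 : α 1 = 1) (v : V) :
    r0 k A α V (HopfRep.Comod.coact (k := k) (A := A) v) = v := by
  show ev V (kappa k A α) (TensorProduct.assoc k V A A
    ((HopfRep.Comod.coact (k := k) (A := A) (V := V)).rTensor A
      (HopfRep.Comod.coact (k := k) (A := A) v))) = v
  rw [← coassoc_apply, LinearEquiv.apply_symm_apply, ev_lTensor]
  have h2 : kappa k A α ∘ₗ CoalgebraStruct.comul (R := k) (A := A) =
      (1 : WithConv (A →ₗ[k] k)).ofConv := by
    apply LinearMap.ext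
    intro a
    rw [LinearMap.comp_apply, kappa_comul k A α h1]
    rfl
  rw [h2]
  exact act_one (V := V) v

theorem r0_mem (W : Submodule k V) (hW : HopfRep.IsSubcomod (k := k) (A := A) W)
    (y : W ⊗[k] A) : r0 k A α V (W.subtype.rTensor A y) ∈ W := by
  induction y using TensorProduct.induction_on with
  | zero => rw [map_zero, map_zero]; exact W.zero_mem
  | add x y hx hy => rw [map_add, map_add]; exact W.add_mem hx hy
  | tmul w b =>
    rw [LinearMap.rTensor_tmul, r0_tmul]
    exact act_mem_of_isSubcomod W hW (phi k A α b) w.2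

end Comod

section Maschke

variable (k : Type u) [Field k] (A : Type v) [CommRing A] [HopfAlgebra k A] (α : A →ₗ[k] k)
variable (V : Type w) [AddCommGroup V] [Module k V] [HopfRep.Comod k A V]

/-- Maschke's theorem for comodules over a commutative Hopf algebra with a total integral. -/
theorem isSemisimpleComod_of_integral
    (hint : ∀ a : A, Theta k A α (CoalgebraStruct.comul (R := k) a) = α a • (1 : A))
    (h1 : α 1 = 1) : HopfRep.IsSemisimpleComod k A V := by
  intro W hW
  obtain ⟨e', he'⟩ := W.subtype.exists_leftInverse_of_injective W.ker_subtype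
  have he'w : ∀ w : W, e' (w : V) = w := fun w => LinearMap.congr_fun he' w
  -- the averaged projection
  let pt : V →ₗ[k] V := r0 k A α V ∘ₗ (W.subtype ∘ₗ e').rTensor A ∘ₗ
    HopfRep.Comod.coact (k := k) (A := A) (V := V)
  have hpt : ∀ v, pt v = r0 k A α V ((W.subtype ∘ₗ e').rTensor A
      (HopfRep.Comod.coact (k := k) (A := A) v)) := fun _ => rfl
  have hcomod : Hoch.IsComodHom A pt := by
    apply isComodHom_of_act_comm
    intro ψ v
    rw [hpt, hpt]
    exact avg_act k A α V hint (W.subtype ∘ₗ e') ψ v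
  have hmem : ∀ v, pt v ∈ W := by
    intro v
    rw [hpt, LinearMap.rTensor_comp, LinearMap.comp_apply]
    exact r0_mem k A α V W hW _
  have hfix : ∀ w : W, pt (w : V) = w := by
    intro w
    obtain ⟨y, hy⟩ := hW w w.2
    have h2 : (W.subtype ∘ₗ e') ∘ₗ W.subtype = W.subtype := by
      rw [LinearMap.comp_assoc, he', LinearMap.comp_id]
    have h3 : (W.subtype ∘ₗ e').rTensor A (W.subtype.rTensor A y) = W.subtype.rTensor A y := by
      rw [← LinearMap.comp_apply, ← LinearMap.rTensor_comp, h2]
    rw [hpt, ← hy, h3, hy]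
    exact r0_coact k A α V h1 _
  let f : V →ₗ[k] W := pt.codRestrict W hmem
  have hf : ∀ w : W, f w = w := fun w => Subtype.ext (hfix w)
  refine ⟨LinearMap.ker pt, isSubcomod_ker pt hcomod, ?_⟩
  have hk : LinearMap.ker f = LinearMap.ker pt := LinearMap.ker_codRestrict _ _ _
  rw [← hk]
  exact LinearMap.isCompl_of_proj hf

end Maschke

end Groth.Agent.Lib.Integral_helper9
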