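import Mathlib
import Groth.Prelude

/-!
# `G`-module structures for an affine group `G = Spec A` are `A`-comodule structures (helper4)
APPEND-ONLY once landed.
-/

set_option backward.isDefEq.respectTransparency.types false
set_option autoImplicit false
set_option linter.unusedVariables false
set_option linter.unusedTactic false
set_option linter.unreachableTactic false
set_option linter.unusedSectionVars false
set_option linter.style.haveILetI false
set_option linter.deprecated false
set_option linter.unusedSimpArgs false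
set_option linter.style.longLine false
set_option maxHeartbeats 3200000

universe u

open CategoryTheory MonObj GrpObj AlgebraicGeometry
open scoped TensorProduct

noncomputable section

namespace Groth.Agent.Lib.GModComodH4

section Lin

variable {R : Type u} [CommRing R] {E : Type u} [AddCommGroup E] [Module R E]

theorem ext_one {B : Type u} [CommRing B] [Algebra R B] {g h : B ⊗[R] E →ₗ[B] B ⊗[R] E}
    (H : ∀ x : E, g ((1 : B) ⊗ₜ[R] x) = h ((1 : B) ⊗ₜ[R] x)) : g = h := by
  apply TensorProduct.AlgebraTensorModule.ext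
  intro b x
  have hb : b ⊗ₜ[R] x = b • ((1 : B) ⊗ₜ[R] x) := by
    rw [TensorProduct.smul_tmul', smul_eq_mul, _root_.mul_one]
  rw [hb, map_smul, map_smul, H]

theorem rTensor_comm {P Q : Type u} [AddCommGroup P] [Module R P] [AddCommGroup Q] [Module R Q]
    (φ : P →ₗ[R] Q) (z : E ⊗[R] P) :
    LinearMap.rTensor E φ ((TensorProduct.comm R E P) z) =
      (TensorProduct.comm R E Q) (LinearMap.lTensor E φ z) := by
  induction z using TensorProduct.induction_on with
  | zero => simp
  | tmul y a => simp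
  | add z w hz hw => simp only [map_add, hz, hw]

end Lin

section Alg

variable {R : Type u} [CommRing R] {A : Type u} [CommRing A] [HopfAlgebra R A]
  {E : Type u} [AddCommGroup E] [Module R E]
  {B : Type u} [CommRing B] [Algebra R B]

/-- `θ_f = comm ∘ (id ⊗ f) ∘ δ`. -/
def theta (δ : E →ₗ[R] E ⊗[R] A) (f : A →ₐ[R] B) : E →ₗ[R] B ⊗[R] E :=
  (TensorProduct.comm R E B).toLinearMap ∘ₗ (LinearMap.lTensor E f.toLinearMap) ∘ₗ δ

theorem theta_apply (δ : E →ₗ[R] E ⊗[R] A) (f : A →ₐ[R] B) (x : E) :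
    theta δ f x = (TensorProduct.comm R E B) (LinearMap.lTensor E f.toLinearMap (δ x)) := rfl

/-- The `B`-linear endomorphism of `B ⊗ E` defined by `δ` and the point `f`. -/
def T (δ : E →ₗ[R] E ⊗[R] A) (f : A →ₐ[R] B) : B ⊗[R] E →ₗ[B] B ⊗[R] E :=
  (theta δ f).liftBaseChange B

theorem T_tmul (δ : E →ₗ[R] E ⊗[R] A) (f : A →ₐ[R] B) (b : B) (x : E) :
    T δ f (b ⊗ₜ[R] x) = b • theta δ f x := rfl

theorem T_one_tmul (δ : E →ₗ[R] E ⊗[R] A) (f : A →ₐ[R] B) (x : E) :
    T δ f ((1 : B) ⊗ₜ[R] x) = theta δ f x := by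
  rw [T_tmul, one_smul]

/-- `y ⊗ (a ⊗ a') ↦ f a * f' a' ⊗ y`. -/
def Psi (f f' : A →ₐ[R] B) : E ⊗[R] (A ⊗[R] A) →ₗ[R] B ⊗[R] E :=
  (TensorProduct.comm R E B).toLinearMap ∘ₗ
    LinearMap.lTensor E
      (Algebra.TensorProduct.lift f f' (fun _ _ => Commute.all _ _)).toLinearMap

theorem Psi_tmul (f f' : A →ₐ[R] B) (y : E) (a a' : A) :
    Psi (E := E) f f' (y ⊗ₜ[R] (a ⊗ₜ[R] a')) = (f a * f' a') ⊗ₜ[R] y := by
  simp [Psi]

theorem theta_convMul (δ : E →ₗ[R] E ⊗[R] A) (f f' : A →ₐ[R] B) (x : E) :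
    theta δ (WithConv.toConv f * WithConv.toConv f').ofConv x =
      Psi f f' (LinearMap.lTensor E (CoalgebraStruct.comul (R := R) (A := A)) (δ x)) := by
  have h : (WithConv.toConv f * WithConv.toConv f').ofConv.toLinearMap =
      (Algebra.TensorProduct.lift f f' (fun _ _ => Commute.all _ _)).toLinearMap ∘ₗ
        (CoalgebraStruct.comul (R := R) (A := A)) := by
    apply LinearMap.ext; intro c
    exact AlgHom.convMul_apply _ _ c
  rw [theta_apply, h, LinearMap.lTensor_comp]; rfl

theorem T_theta (δ : E →ₗ[R] E ⊗[R] A) (f f' : A →ₐ[R] B) (z : E ⊗[R] A) :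
    T δ f ((TensorProduct.comm R E B) (LinearMap.lTensor E f'.toLinearMap z)) =
      Psi f f' ((TensorProduct.assoc R E A A) (LinearMap.rTensor A δ z)) := by
  induction z using TensorProduct.induction_on with
  | zero => simp
  | tmul y a =>
    rw [LinearMap.lTensor_tmul, TensorProduct.comm_tmul, T_tmul, LinearMap.rTensor_tmul,
      theta_apply]
    generalize δ y = w
    induction w using TensorProduct.induction_on with
    | zero => simp
    | tmul y' a' =>
      rw [LinearMap.lTensor_tmul, TensorProduct.comm_tmul, TensorProduct.assoc_tmul, Psi_tmul,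
        TensorProduct.smul_tmul', smul_eq_mul, mul_comm]
      rfl
    | add w w' hw hw' =>
      rw [map_add, map_add, smul_add, hw, hw', TensorProduct.add_tmul, map_add, map_add]
  | add z z' hz hz' => simp only [map_add, hz, hz']

theorem T_mul_of_eq (δ : E →ₗ[R] E ⊗[R] A) (f f' : A →ₐ[R] B)
    (h : ∀ x, (TensorProduct.assoc R E A A) (LinearMap.rTensor A δ (δ x)) =
      LinearMap.lTensor E (CoalgebraStruct.comul (R := R) (A := A)) (δ x)) :
    T δ (WithConv.toConv f * WithConv.toConv f').ofConv = T δ f ∘ₗ T δ f' := by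
  apply ext_one; intro x
  rw [T_one_tmul, theta_convMul, LinearMap.comp_apply, T_one_tmul, theta_apply, T_theta, h]

theorem eq_of_T_mul (δ : E →ₗ[R] E ⊗[R] A) (f f' : A →ₐ[R] B)
    (hT : T δ (WithConv.toConv f * WithConv.toConv f').ofConv = T δ f ∘ₗ T δ f') (x : E) :
    Psi f f' ((TensorProduct.assoc R E A A) (LinearMap.rTensor A δ (δ x))) =
      Psi f f' (LinearMap.lTensor E (CoalgebraStruct.comul (R := R) (A := A)) (δ x)) := by
  have h1 : T δ (WithConv.toConv f * WithConv.toConv f').ofConv ((1 : B) ⊗ₜ[R] x) =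
      (T δ f ∘ₗ T δ f') ((1 : B) ⊗ₜ[R] x) := by rw [hT]
  rw [T_one_tmul, theta_convMul, LinearMap.comp_apply, T_one_tmul, theta_apply, T_theta] at h1
  exact h1.symm

theorem theta_convOne (δ : E →ₗ[R] E ⊗[R] A) (x : E) :
    theta δ (1 : WithConv (A →ₐ[R] B)).ofConv x =
      (TensorProduct.comm R E B) (LinearMap.lTensor E (Algebra.linearMap R B)
        (LinearMap.lTensor E (CoalgebraStruct.counit (R := R) (A := A)) (δ x))) := by
  have h : (1 : WithConv (A →ₐ[R] B)).ofConv.toLinearMap =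
      Algebra.linearMap R B ∘ₗ (CoalgebraStruct.counit (R := R) (A := A)) := by
    apply LinearMap.ext; intro c; rfl
  rw [theta_apply, h, LinearMap.lTensor_comp]; rfl

theorem T_one_of_eq (δ : E →ₗ[R] E ⊗[R] A)
    (h : ∀ x, LinearMap.lTensor E (CoalgebraStruct.counit (R := R) (A := A)) (δ x) =
      x ⊗ₜ[R] (1 : R)) :
    T δ (1 : WithConv (A →ₐ[R] B)).ofConv = LinearMap.id := by
  apply ext_one; intro x
  rw [T_one_tmul, theta_convOne, h, LinearMap.lTensor_tmul, Algebra.linearMap_apply, map_one,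
    TensorProduct.comm_tmul]
  rfl

theorem T_natural {B' : Type u} [CommRing B'] [Algebra R B'] (δ : E →ₗ[R] E ⊗[R] A)
    (φ : B →ₐ[R] B') (f : A →ₐ[R] B) (x : B ⊗[R] E) :
    VecGrp.Wmap φ (T δ f x) = T δ (φ.comp f) (VecGrp.Wmap φ x) := by
  induction x using TensorProduct.induction_on with
  | zero => simp
  | tmul b e =>
    rw [T_tmul, VecGrp.Wmap_smul, VecGrp.Wmap_tmul, T_tmul]
    congr 1
    rw [theta_apply, theta_apply]
    show LinearMap.rTensor E φ.toLinearMap _ = _
    rw [rTensor_comm, ← LinearMap.comp_apply (LinearMap.lTensor E φ.toLinearMap),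
      ← LinearMap.lTensor_comp]
    rfl
  | add x y hx hy => simp only [map_add, hx, hy]

end Alg

section Points

variable {R : Type u} [CommRing R] {A : Type u} [CommRing A] [HopfAlgebra R A]
  {E : Type u} [AddCommGroup E] [Module R E]
  {B : Type u} [CommRing B] [Algebra R B]

variable (R A) in
/-- The affine group scheme `Spec A` over `Spec R`. -/
abbrev GA : Over (Spec (CommRingCat.of R)) :=
  (Spec (CommRingCat.of A)).asOver (Spec (CommRingCat.of R))

/-- The algebra map of a point. -/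
def algOf (g : VecGrp.pt R B ⟶ GA R A) : A →ₐ[R] B :=
  (Spec.mapMulEquiv.symm g).ofConv

/-- The point of an algebra map. -/
def ptOf (f : A →ₐ[R] B) : VecGrp.pt R B ⟶ GA R A :=
  Spec.mapMulEquiv (WithConv.toConv f)

theorem algOf_ptOf (f : A →ₐ[R] B) : algOf (ptOf f) = f := by
  unfold algOf ptOf
  rw [MulEquiv.symm_apply_apply]

theorem ptOf_algOf (g : VecGrp.pt R B ⟶ GA R A) : ptOf (algOf g) = g := by
  unfold algOf ptOf
  exact MulEquiv.apply_symm_apply _ g

theorem algOf_one : algOf (1 : VecGrp.pt R B ⟶ GA R A) = (1 : WithConv (A →ₐ[R] B)).ofConv :=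
  congrArg WithConv.ofConv (map_one (Spec.mapMulEquiv (R := R) (S := A) (T := B)).symm)

theorem algOf_mul (g g' : VecGrp.pt R B ⟶ GA R A) :
    algOf (g * g') = (WithConv.toConv (algOf g) * WithConv.toConv (algOf g')).ofConv :=
  congrArg WithConv.ofConv (map_mul (Spec.mapMulEquiv (R := R) (S := A) (T := B)).symm g g')

theorem ptMap_ptOf {B' : Type u} [CommRing B'] [Algebra R B'] (φ : B →ₐ[R] B')
    (f : A →ₐ[R] B) : VecGrp.ptMap φ ≫ ptOf f = ptOf (φ.comp f) := by
  apply Over.OverMorphism.ext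
  show Spec.map (CommRingCat.ofHom φ.toRingHom) ≫ Spec.map (CommRingCat.ofHom f.toRingHom) =
    Spec.map (CommRingCat.ofHom (φ.comp f).toRingHom)
  rw [← Spec.map_comp]
  rfl

theorem algOf_comp {B' : Type u} [CommRing B'] [Algebra R B'] (φ : B →ₐ[R] B')
    (g : VecGrp.pt R B ⟶ GA R A) : algOf (VecGrp.ptMap φ ≫ g) = φ.comp (algOf g) := by
  conv_lhs => rw [← ptOf_algOf g]
  rw [ptMap_ptOf, algOf_ptOf]

end Points


section Main

variable {R : Type u} [CommRing R] {A : Type u} [CommRing A] [HopfAlgebra R A]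
  {E : Type u} [AddCommGroup E] [Module R E]

theorem GMod_ext (m m' : VecGrp.GMod (GA R A) E)
    (h : ∀ (B : Type u) [CommRing B] [Algebra R B] (g : VecGrp.pt R B ⟶ GA R A) (x : E),
      m.ρ B g ((1 : B) ⊗ₜ[R] x) = m'.ρ B g ((1 : B) ⊗ₜ[R] x)) : m = m' := by
  cases m with
  | mk ρ n =>
    cases m' with
    | mk ρ' n' =>
      have hρ : @ρ = @ρ' := by
        funext B i1 i2
        apply MonoidHom.ext
        intro g
        apply LinearEquiv.toLinearMap_injective
        apply ext_one
        intro x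
        exact h B g x
      subst hρ
      rfl

/-- The monoid homomorphism to endomorphisms defined by a comodule structure. -/
def rhoEnd (δ : E →ₗ[R] E ⊗[R] A)
    (hco : ∀ x, (TensorProduct.assoc R E A A) (LinearMap.rTensor A δ (δ x)) =
      LinearMap.lTensor E (CoalgebraStruct.comul (R := R) (A := A)) (δ x))
    (hcu : ∀ x, LinearMap.lTensor E (CoalgebraStruct.counit (R := R) (A := A)) (δ x) =
      x ⊗ₜ[R] (1 : R))
    (B : Type u) [CommRing B] [Algebra R B] :
    (VecGrp.pt R B ⟶ GA R A) →* Module.End B (B ⊗[R] E) where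
  toFun g := T δ (algOf g)
  map_one' := by
    rw [algOf_one]
    exact T_one_of_eq δ hcu
  map_mul' g g' := by
    rw [algOf_mul]
    exact T_mul_of_eq δ _ _ hco

/-- The `G`-module structure defined by a comodule structure. -/
def mkGMod (δ : E →ₗ[R] E ⊗[R] A)
    (hco : ∀ x, (TensorProduct.assoc R E A A) (LinearMap.rTensor A δ (δ x)) =
      LinearMap.lTensor E (CoalgebraStruct.comul (R := R) (A := A)) (δ x))
    (hcu : ∀ x, LinearMap.lTensor E (CoalgebraStruct.counit (R := R) (A := A)) (δ x) =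
      x ⊗ₜ[R] (1 : R)) : VecGrp.GMod (GA R A) E where
  ρ B _ _ := (LinearMap.GeneralLinearGroup.generalLinearEquiv B (B ⊗[R] E)).toMonoidHom.comp
    (rhoEnd δ hco hcu B).toHomUnits
  naturality φ g x := by
    show VecGrp.Wmap φ (T δ (algOf g) x) = T δ (algOf (VecGrp.ptMap φ ≫ g)) (VecGrp.Wmap φ x)
    rw [algOf_comp]
    exact T_natural δ φ _ x

theorem mkGMod_apply (δ : E →ₗ[R] E ⊗[R] A)
    (hco : ∀ x, (TensorProduct.assoc R E A A) (LinearMap.rTensor A δ (δ x)) =
      LinearMap.lTensor E (CoalgebraStruct.comul (R := R) (A := A)) (δ x))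
    (hcu : ∀ x, LinearMap.lTensor E (CoalgebraStruct.counit (R := R) (A := A)) (δ x) =
      x ⊗ₜ[R] (1 : R)) (B : Type u) [CommRing B] [Algebra R B] (g : VecGrp.pt R B ⟶ GA R A)
    (z : B ⊗[R] E) : (mkGMod δ hco hcu).ρ B g z = T δ (algOf g) z := rfl

theorem part1 [HopfRep.Comod R A E] :
    ∃! m : VecGrp.GMod (GA R A) E,
      ∀ (B : Type u) [CommRing B] [Algebra R B] (g : VecGrp.pt R B ⟶ GA R A) (x : E),
        m.ρ B g ((1 : B) ⊗ₜ[R] x) =
          (TensorProduct.comm R E B) (LinearMap.lTensor E (algOf g).toLinearMap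
            (HopfRep.Comod.coact (k := R) (A := A) x)) := by
  have hco : ∀ x : E, (TensorProduct.assoc R E A A)
      (LinearMap.rTensor A (HopfRep.Comod.coact (k := R) (A := A) (V := E))
        (HopfRep.Comod.coact (k := R) (A := A) x)) =
      LinearMap.lTensor E (CoalgebraStruct.comul (R := R) (A := A))
        (HopfRep.Comod.coact (k := R) (A := A) x) := fun x =>
    LinearMap.congr_fun (HopfRep.Comod.coassoc (k := R) (A := A) (V := E)) x
  have hcu : ∀ x : E, LinearMap.lTensor E (CoalgebraStruct.counit (R := R) (A := A))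
      (HopfRep.Comod.coact (k := R) (A := A) x) = x ⊗ₜ[R] (1 : R) := fun x =>
    LinearMap.congr_fun (HopfRep.Comod.counit_comp (k := R) (A := A) (V := E)) x
  refine ⟨mkGMod _ hco hcu, ?_, ?_⟩
  · intro B _ _ g x
    rw [mkGMod_apply, T_one_tmul, theta_apply]
  · intro m' hm'
    apply GMod_ext
    intro B _ _ g x
    rw [hm' B g x, mkGMod_apply, T_one_tmul, theta_apply]

/-- The universal point. -/
def univPt : VecGrp.pt R A ⟶ GA R A := ptOf (AlgHom.id R A)

theorem algOf_univPt : algOf (univPt (R := R) (A := A)) = AlgHom.id R A := algOf_ptOf _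

theorem eq_ptMap_univ {B : Type u} [CommRing B] [Algebra R B] (g : VecGrp.pt R B ⟶ GA R A) :
    VecGrp.ptMap (algOf g) ≫ univPt = g := by
  unfold univPt
  rw [ptMap_ptOf, AlgHom.comp_id, ptOf_algOf]

/-- The coaction defined by a `G`-module structure. -/
def deltaOf (m : VecGrp.GMod (GA R A) E) : E →ₗ[R] E ⊗[R] A :=
  (TensorProduct.comm R E A).symm.toLinearMap ∘ₗ
    ((m.ρ A univPt).toLinearMap.restrictScalars R) ∘ₗ (TensorProduct.mk R A E 1)

theorem comm_deltaOf (m : VecGrp.GMod (GA R A) E) (x : E) :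
    (TensorProduct.comm R E A) (deltaOf m x) = m.ρ A univPt ((1 : A) ⊗ₜ[R] x) := by
  unfold deltaOf
  simp only [LinearMap.comp_apply, LinearEquiv.coe_coe, LinearEquiv.apply_symm_apply,
    LinearMap.restrictScalars_apply, TensorProduct.mk_apply]

theorem formula_deltaOf (m : VecGrp.GMod (GA R A) E) (B : Type u) [CommRing B] [Algebra R B]
    (g : VecGrp.pt R B ⟶ GA R A) (x : E) :
    m.ρ B g ((1 : B) ⊗ₜ[R] x) =
      (TensorProduct.comm R E B) (LinearMap.lTensor E (algOf g).toLinearMap (deltaOf m x)) := by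
  have h1 := m.naturality (algOf g) univPt ((1 : A) ⊗ₜ[R] x)
  rw [eq_ptMap_univ g, VecGrp.Wmap_tmul, map_one, ← comm_deltaOf] at h1
  rw [← h1]
  exact rTensor_comm _ _

theorem rho_eq_T (m : VecGrp.GMod (GA R A) E) (δ : E →ₗ[R] E ⊗[R] A)
    (hf : ∀ (B : Type u) [CommRing B] [Algebra R B] (g : VecGrp.pt R B ⟶ GA R A) (x : E),
      m.ρ B g ((1 : B) ⊗ₜ[R] x) =
        (TensorProduct.comm R E B) (LinearMap.lTensor E (algOf g).toLinearMap (δ x)))
    (B : Type u) [CommRing B] [Algebra R B] (g : VecGrp.pt R B ⟶ GA R A) :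
    (m.ρ B g).toLinearMap = T δ (algOf g) := by
  apply ext_one
  intro x
  rw [LinearEquiv.coe_coe, hf, T_one_tmul, theta_apply]

theorem T_mul_of_formula (m : VecGrp.GMod (GA R A) E) (δ : E →ₗ[R] E ⊗[R] A)
    (hf : ∀ (B : Type u) [CommRing B] [Algebra R B] (g : VecGrp.pt R B ⟶ GA R A) (x : E),
      m.ρ B g ((1 : B) ⊗ₜ[R] x) =
        (TensorProduct.comm R E B) (LinearMap.lTensor E (algOf g).toLinearMap (δ x)))
    (B : Type u) [CommRing B] [Algebra R B] (f f' : A →ₐ[R] B) :
    T δ (WithConv.toConv f * WithConv.toConv f').ofConv = T δ f ∘ₗ T δ f' := by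
  have h1 := rho_eq_T m δ hf B (ptOf f * ptOf f')
  have h2 := rho_eq_T m δ hf B (ptOf f)
  have h3 := rho_eq_T m δ hf B (ptOf f')
  rw [algOf_mul, algOf_ptOf, algOf_ptOf] at h1
  rw [algOf_ptOf] at h2 h3
  rw [← h1, ← h2, ← h3, map_mul]
  rfl

theorem T_one_of_formula (m : VecGrp.GMod (GA R A) E) (δ : E →ₗ[R] E ⊗[R] A)
    (hf : ∀ (B : Type u) [CommRing B] [Algebra R B] (g : VecGrp.pt R B ⟶ GA R A) (x : E),
      m.ρ B g ((1 : B) ⊗ₜ[R] x) =
        (TensorProduct.comm R E B) (LinearMap.lTensor E (algOf g).toLinearMap (δ x)))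
    (B : Type u) [CommRing B] [Algebra R B] :
    T δ (1 : WithConv (A →ₐ[R] B)).ofConv = LinearMap.id := by
  have h1 := rho_eq_T m δ hf B 1
  rw [algOf_one] at h1
  rw [← h1, map_one]
  rfl

theorem coassoc_of_formula (m : VecGrp.GMod (GA R A) E) (δ : E →ₗ[R] E ⊗[R] A)
    (hf : ∀ (B : Type u) [CommRing B] [Algebra R B] (g : VecGrp.pt R B ⟶ GA R A) (x : E),
      m.ρ B g ((1 : B) ⊗ₜ[R] x) =
        (TensorProduct.comm R E B) (LinearMap.lTensor E (algOf g).toLinearMap (δ x))) (x : E) :
    (TensorProduct.assoc R E A A) (LinearMap.rTensor A δ (δ x)) =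
      LinearMap.lTensor E (CoalgebraStruct.comul (R := R) (A := A)) (δ x) := by
  have h := eq_of_T_mul δ (Algebra.TensorProduct.includeLeft (R := R) (S := R) (A := A) (B := A))
    (Algebra.TensorProduct.includeRight (R := R) (A := A) (B := A))
    (T_mul_of_formula m δ hf (A ⊗[R] A) _ _) x
  have hP : ∀ w : E ⊗[R] (A ⊗[R] A),
      Psi (E := E) (Algebra.TensorProduct.includeLeft (R := R) (S := R) (A := A) (B := A))
        (Algebra.TensorProduct.includeRight (R := R) (A := A) (B := A)) w =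
        (TensorProduct.comm R E (A ⊗[R] A)) w := by
    intro w
    induction w using TensorProduct.induction_on with
    | zero => simp
    | tmul y c =>
      induction c using TensorProduct.induction_on with
      | zero => simp
      | tmul a a' =>
        rw [Psi_tmul, TensorProduct.comm_tmul, Algebra.TensorProduct.includeLeft_apply,
          Algebra.TensorProduct.includeRight_apply, Algebra.TensorProduct.tmul_mul_tmul,
          _root_.mul_one, _root_.one_mul]
      | add c c' hc hc' => rw [TensorProduct.tmul_add, map_add, map_add, hc, hc']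
    | add w w' hw hw' => rw [map_add, map_add, hw, hw']
  rw [hP, hP] at h
  exact (TensorProduct.comm R E (A ⊗[R] A)).injective h

theorem counit_of_formula (m : VecGrp.GMod (GA R A) E) (δ : E →ₗ[R] E ⊗[R] A)
    (hf : ∀ (B : Type u) [CommRing B] [Algebra R B] (g : VecGrp.pt R B ⟶ GA R A) (x : E),
      m.ρ B g ((1 : B) ⊗ₜ[R] x) =
        (TensorProduct.comm R E B) (LinearMap.lTensor E (algOf g).toLinearMap (δ x))) (x : E) :
    LinearMap.lTensor E (CoalgebraStruct.counit (R := R) (A := A)) (δ x) = x ⊗ₜ[R] (1 : R) := by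
  have h := T_one_of_formula m δ hf R
  have h1 : T δ (1 : WithConv (A →ₐ[R] R)).ofConv ((1 : R) ⊗ₜ[R] x) = (1 : R) ⊗ₜ[R] x := by
    rw [h]; rfl
  rw [T_one_tmul, theta_convOne] at h1
  have hid : Algebra.linearMap R R = LinearMap.id := by
    apply LinearMap.ext; intro r; rfl
  rw [hid, LinearMap.lTensor_id, LinearMap.id_apply] at h1
  have h2 := congrArg (TensorProduct.comm R E R).symm h1
  rw [LinearEquiv.symm_apply_apply, TensorProduct.comm_symm_tmul] at h2
  exact h2

theorem part2 (m : VecGrp.GMod (GA R A) E) :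
    ∃! δ : E →ₗ[R] E ⊗[R] A,
      ((TensorProduct.assoc R E A A).toLinearMap ∘ₗ δ.rTensor A ∘ₗ δ =
          (CoalgebraStruct.comul (R := R) (A := A)).lTensor E ∘ₗ δ ∧
        (CoalgebraStruct.counit (R := R) (A := A)).lTensor E ∘ₗ δ =
          (TensorProduct.mk R E R).flip 1) ∧
      (∀ (B : Type u) [CommRing B] [Algebra R B] (g : VecGrp.pt R B ⟶ GA R A) (x : E),
        m.ρ B g ((1 : B) ⊗ₜ[R] x) =
          (TensorProduct.comm R E B) (LinearMap.lTensor E (algOf g).toLinearMap (δ x))) := by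
  refine ⟨deltaOf m, ⟨⟨?_, ?_⟩, formula_deltaOf m⟩, ?_⟩
  · apply LinearMap.ext
    intro x
    exact coassoc_of_formula m _ (formula_deltaOf m) x
  · apply LinearMap.ext
    intro x
    exact counit_of_formula m _ (formula_deltaOf m) x
  · rintro δ' ⟨-, hf'⟩
    apply LinearMap.ext
    intro x
    have h1 := hf' A univPt x
    rw [algOf_univPt] at h1
    have h2 : LinearMap.lTensor E (AlgHom.id R A).toLinearMap (δ' x) = δ' x := by
      have : (AlgHom.id R A).toLinearMap = LinearMap.id := rfl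
      rw [this, LinearMap.lTensor_id, LinearMap.id_apply]
    rw [h2, ← comm_deltaOf] at h1
    exact ((TensorProduct.comm R E A).injective h1).symm

theorem main6094 (R : Type u) [CommRing R] (A : Type u) [CommRing A] [HopfAlgebra R A]
    (E : Type u) [AddCommGroup E] [Module R E] :
    (∀ [HopfRep.Comod R A E], ∃! m : VecGrp.GMod ((Spec (CommRingCat.of A)).asOver (Spec (CommRingCat.of R))) E,
        (∀ (B : Type u) [CommRing B] [Algebra R B] (g : VecGrp.pt R B ⟶ ((Spec (CommRingCat.of A)).asOver (Spec (CommRingCat.of R)))) (x : E),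
          m.ρ B g ((1 : B) ⊗ₜ[R] x) =
            (TensorProduct.comm R E B) (LinearMap.lTensor E (Spec.mapMulEquiv.symm g).ofConv.toLinearMap (HopfRep.Comod.coact (k := R) (A := A) x)))) ∧
    (∀ m : VecGrp.GMod ((Spec (CommRingCat.of A)).asOver (Spec (CommRingCat.of R))) E, ∃! δ : E →ₗ[R] E ⊗[R] A,
        ((TensorProduct.assoc R E A A).toLinearMap ∘ₗ δ.rTensor A ∘ₗ δ =
            (CoalgebraStruct.comul (R := R) (A := A)).lTensor E ∘ₗ δ ∧
          (CoalgebraStruct.counit (R := R) (A := A)).lTensor E ∘ₗ δ = (TensorProduct.mk R E R).flip 1) ∧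
        (∀ (B : Type u) [CommRing B] [Algebra R B] (g : VecGrp.pt R B ⟶ ((Spec (CommRingCat.of A)).asOver (Spec (CommRingCat.of R)))) (x : E),
          m.ρ B g ((1 : B) ⊗ₜ[R] x) =
            (TensorProduct.comm R E B) (LinearMap.lTensor E (Spec.mapMulEquiv.symm g).ofConv.toLinearMap (δ x)))) := by
  refine ⟨?_, ?_⟩
  · intro inst
    exact part1
  · intro m
    exact part2 m

end Main

end Groth.Agent.Lib.GModComodH4
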