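import Mathlib
import Groth.Prelude
import Groth.Agent.Lib.GPBun1_helper6

/-!
# Generalized parabolic bundles on a curve: dimension counts for `H⁰(E ⊗ O_D)` (helper6)

* `finrank_fibD`: `h⁰(E ⊗ O_D) = n · h⁰(O_D)` for `E` of rank `n`.
* `finrank_ker_fibDMap_le`: for a mono `f : E ⟶ F` of the same rank,
  `dim ker (F₀(f)) ≤ deg F - deg E`.
APPEND-ONLY once landed.
-/

set_option autoImplicit false
universe u
open CategoryTheory CategoryTheory.Limits AlgebraicGeometry Opposite TopologicalSpace

namespace Groth.Agent.Lib.GPBunH6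

open Groth.Agent.HHVan Groth.Agent.TensInv

section Curve

variable (k : Type u) [Field k] (X : Scheme.{u}) [X.Over (Spec (CommRingCat.of k))]
  [IsIntegral X] [IsProper (X ↘ Spec (CommRingCat.of k))]

omit [X.Over (Spec (CommRingCat.of k))] [IsIntegral X]
  [IsProper (X ↘ Spec (CommRingCat.of k))] in
theorem isCoh_resD [IsLocallyNoetherian X] (I : X.IdealSheafData) {E : X.Modules}
    (hE : Coh.IsCoh E) : Coh.IsCoh (ParSh.resD I E) :=
  RelAmpleVanH9.isCoh_tensorMod hE (CurveIdeal.isCoh_quotMod I)

omit [X.Over (Spec (CommRingCat.of k))] [IsIntegral X]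
  [IsProper (X ↘ Spec (CommRingCat.of k))] in
theorem closed_support_resD [IsLocallyNoetherian X] (hdim : topologicalKrullDim X ≤ 1)
    (I : X.IdealSheafData) (hI : BlowUp.IsEffCartierIdeal I) {E : X.Modules}
    (hE : Coh.IsCoh E) : ∀ x ∈ CohB1.support (ParSh.resD I E), IsClosed ({x} : Set X) := by
  intro x hx
  have hQc := CurveIdeal.isCoh_quotMod I
  haveI := hE.1
  haveI := hQc.1
  rw [SuppTensH8.support_tensorMod E (ClSub.quotMod I) hE.2 hQc.2] at hx
  exact TensBasis.isClosed_singleton_of_mem_support_effCartier hdim I hI x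
    (CurveIdeal.support_quotMod_subset I (Iso.refl _) hx.2)

/-- `χ(E ⊗ O_D) = n · h⁰(O_D)` -/
theorem euler_resD (hdim : topologicalKrullDim X ≤ 1) (I : X.IdealSheafData)
    (hI : BlowUp.IsEffCartierIdeal I) {n : ℕ} {E : X.Modules}
    (hE : FlatMod.IsFinLocFreeOfRank n E) :
    Curv2.euler k X (ParSh.resD I E) =
      n * (Module.finrank k (Coh.HH X (ClSub.quotMod I) 0) : ℤ) := by
  haveI : IsLocallyNoetherian X :=
    LocallyOfFiniteType.isLocallyNoetherian (X ↘ Spec (CommRingCat.of k))
  have hEf := TensBasis.isFinLocFree_of_rank hE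
  have hEc := KerFreeH8.isCoh_of_finLocFree hEf
  have h0 : ∀ x ∈ I.support, IsClosed ({x} : Set X) := fun x hx =>
    TensBasis.isClosed_singleton_of_mem_support_effCartier hdim I hI x hx
  have hIc := CurveIdeal.isCoh_idealMod I
  have hOc := CohDevH8.isCoh_structureModule X
  have hQc := CurveIdeal.isCoh_quotMod I
  have h0' : ∀ x ∈ CohB1.support (cokernel (ClSub.idealModι I)), IsClosed ({x} : Set X) :=
    fun x hx => h0 x (CurveIdeal.support_quotMod_subset I (CurveIdeal.cokernelIso I).symm hx)
  have h0'' : ∀ x ∈ CohB1.support (ClSub.quotMod I), IsClosed ({x} : Set X) :=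
    fun x hx => h0 x (CurveIdeal.support_quotMod_subset I (Iso.refl _) hx)
  have e1 := TensBasis.euler_tensor_sub_rank k X hIc hOc hE (ClSub.idealModι I) h0'
  have hS := TensBasis.shortExact_tR hEf (Groth.Agent.HypSurf.ses I)
    (Groth.Agent.HypSurf.ses_shortExact I)
  have hadd := EulerField.euler_additive k X _ hS
    (RelAmpleVanH9.isCoh_tensorMod hIc hEc) (RelAmpleVanH9.isCoh_tensorMod hOc hEc)
    (RelAmpleVanH9.isCoh_tensorMod hQc hEc)
  have hadd' : Curv2.euler k X (CohB1.tensorMod (Coh.structureModule X) E) =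
      Curv2.euler k X (CohB1.tensorMod (ClSub.idealMod I) E) +
        Curv2.euler k X (CohB1.tensorMod (ClSub.quotMod I) E) := hadd
  have e4 := TensBasis.euler_structureModule_eq_add k X I
  have e5 := CurveDeg.euler_eq_finrank_of_closed_support k X _ hQc h0''
  have e6 : Curv2.euler k X (ParSh.resD I E) =
      Curv2.euler k X (CohB1.tensorMod (ClSub.quotMod I) E) :=
    CurveTens.euler_of_iso k X (comm E (ClSub.quotMod I))
  rw [e6, ← e5]
  have e7 : (n : ℤ) * (Curv2.euler k X (Coh.structureModule X) -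
      Curv2.euler k X (ClSub.idealMod I)) = n * Curv2.euler k X (ClSub.quotMod I) := by
    rw [e4]; ring
  linarith

/-- `h⁰(E ⊗ O_D) = n · h⁰(O_D)` -/
theorem finrank_fibD (hdim : topologicalKrullDim X ≤ 1) (I : X.IdealSheafData)
    (hI : BlowUp.IsEffCartierIdeal I) {n : ℕ} {E : X.Modules}
    (hE : FlatMod.IsFinLocFreeOfRank n E) :
    Module.finrank k (ParSh.fibD X I E) =
      n * Module.finrank k (Coh.HH X (ClSub.quotMod I) 0) := by
  haveI : IsLocallyNoetherian X :=
    LocallyOfFiniteType.isLocallyNoetherian (X ↘ Spec (CommRingCat.of k))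
  have hEc := KerFreeH8.isCoh_of_finLocFree (TensBasis.isFinLocFree_of_rank hE)
  have h1 := CurveDeg.euler_eq_finrank_of_closed_support k X _ (isCoh_resD X I hEc)
    (closed_support_resD X hdim I hI hEc)
  have h2 := euler_resD k X hdim I hI hE
  have : (Module.finrank k (ParSh.fibD X I E) : ℤ) =
      ((n * Module.finrank k (Coh.HH X (ClSub.quotMod I) 0) : ℕ) : ℤ) := by
    push_cast
    rw [← h2, h1]
  exact_mod_cast this

/-- for an epimorphism from a coherent module supported at closed points, `χ` decreases -/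
theorem euler_le_of_epi {A B : X.Modules} (p : A ⟶ B) [Epi p] (hA : Coh.IsCoh A)
    (hB : Coh.IsCoh B) (h0 : ∀ x ∈ CohB1.support A, IsClosed ({x} : Set X)) :
    Curv2.euler k X B ≤ Curv2.euler k X A := by
  haveI : IsLocallyNoetherian X :=
    LocallyOfFiniteType.isLocallyNoetherian (X ↘ Spec (CommRingCat.of k))
  let S : ShortComplex X.Modules := ShortComplex.mk (kernel.ι p) p (kernel.condition p)
  have hS : S.ShortExact :=
    ShortComplex.ShortExact.mk' (S.exact_of_f_is_kernel (kernelIsKernel p))
      (inferInstanceAs (Mono (kernel.ι p))) (inferInstanceAs (Epi p))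
  have hKc : Coh.IsCoh (kernel p) := CohKerH8.isCoh_kernel hA hB p
  have hadd := EulerField.euler_additive k X S hS hKc hA hB
  have hadd' : Curv2.euler k X A = Curv2.euler k X (kernel p) + Curv2.euler k X B := hadd
  have hK := CurveDeg.euler_eq_finrank_of_closed_support k X _ hKc
    (fun x hx => h0 x (CohDevH8.support_subset_of_mono (kernel.ι p) hx))
  have : (0 : ℤ) ≤ (Module.finrank k (Coh.HH X (kernel p) 0) : ℤ) := Int.natCast_nonneg _
  linarith

/-- **Key estimate**: for a monomorphism `f : E ⟶ F` of finite locally free modules of the same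
rank on an integral proper curve, `dim ker (H⁰(E ⊗ O_D) → H⁰(F ⊗ O_D)) ≤ deg F - deg E`. -/
theorem finrank_ker_fibDMap_le (hdim : topologicalKrullDim X = 1) (I : X.IdealSheafData)
    (hI : BlowUp.IsEffCartierIdeal I) {n : ℕ} {E F : X.Modules}
    (hE : FlatMod.IsFinLocFreeOfRank n E) (hF : FlatMod.IsFinLocFreeOfRank n F)
    (f : E ⟶ F) [Mono f] :
    (Module.finrank k (LinearMap.ker (ParSh.fibDMap k X I f)) : ℤ) ≤
      Curv2.deg k X F n - Curv2.deg k X E n := by
  haveI : IsLocallyNoetherian X :=
    LocallyOfFiniteType.isLocallyNoetherian (X ↘ Spec (CommRingCat.of k))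
  have hEc := KerFreeH8.isCoh_of_finLocFree (TensBasis.isFinLocFree_of_rank hE)
  have hFc := KerFreeH8.isCoh_of_finLocFree (TensBasis.isFinLocFree_of_rank hF)
  have hQc := CurveIdeal.isCoh_quotMod I
  have hAc := isCoh_resD X I hEc
  have hBc := isCoh_resD X I hFc
  have hA0 := closed_support_resD X hdim.le I hI hEc
  set g := ParSh.resDMap I f with hg
  -- the pieces
  have hJc : Coh.IsCoh (Abelian.image g) := VBCurve.isCoh_image g hAc hBc
  have hKc : Coh.IsCoh (kerImSC g).X₁ := CohKerH8.isCoh_kernel hAc hJc _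
  have hCc : Coh.IsCoh (cokernel g) := CohKerH8.isCoh_cokernel hAc hBc g
  have add1 := EulerField.euler_additive k X _ (kerImSC_shortExact g) hKc hAc hJc
  have add2 := EulerField.euler_additive k X _ (imCokSC_shortExact g) hJc hBc hCc
  have add1' : Curv2.euler k X (ParSh.resD I E) =
      Curv2.euler k X (kerImSC g).X₁ + Curv2.euler k X (Abelian.image g) := add1
  have add2' : Curv2.euler k X (ParSh.resD I F) =
      Curv2.euler k X (Abelian.image g) + Curv2.euler k X (cokernel g) := add2
  haveI : Mono (kerImSC g).f := (kerImSC_shortExact g).mono_f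
  have hK0 : ∀ x ∈ CohB1.support (kerImSC g).X₁, IsClosed ({x} : Set X) := fun x hx =>
    hA0 x (CohDevH8.support_subset_of_mono (kerImSC g).f hx)
  have eK := CurveDeg.euler_eq_finrank_of_closed_support k X _ hKc hK0
  have eAB : Curv2.euler k X (ParSh.resD I E) = Curv2.euler k X (ParSh.resD I F) := by
    rw [euler_resD k X hdim.le I hI hE, euler_resD k X hdim.le I hI hF]
  -- the kernel of `F₀(f)` is covered by `H⁰(K)`
  haveI := ProperFinH9.finite_HH_of_proper k X _ hAc 0
  haveI := ProperFinH9.finite_HH_of_proper k X _ hKc 0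
  have hker : LinearMap.ker (ParSh.fibDMap k X I f) ≤
      LinearMap.range (Canon.HHlin k (kerImSC g).f 0) := by
    intro z hz
    obtain ⟨y, hy⟩ := exists_hmap_kerIm_eq g z (LinearMap.mem_ker.mp hz)
    exact ⟨y, hy⟩
  have hle1 : Module.finrank k (LinearMap.ker (ParSh.fibDMap k X I f)) ≤
      Module.finrank k (Coh.HH X (kerImSC g).X₁ 0) :=
    le_trans (Submodule.finrank_mono hker)
      (LinearMap.finrank_range_le (Canon.HHlin k (kerImSC g).f 0))
  -- the cokernel of `g` is a quotient of the cokernel of `f`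
  have hTc : Coh.IsCoh (cokernel f) := CohKerH8.isCoh_cokernel hEc hFc f
  have hT0 : ∀ x ∈ CohB1.support (cokernel f), IsClosed ({x} : Set X) :=
    CurveDeg.isClosed_singleton_of_mem_support X hdim.le _ hTc
      (VBCurve.subsingleton_stalk_cokernel_generic f hE hF)
  haveI := NodalG0.preservesColimits_tR (ClSub.quotMod I)
  haveI : PreservesColimitsOfSize.{0, 0} (tR (ClSub.quotMod I)) :=
    preservesSmallestColimits_of_preservesColimits _
  have eC : Curv2.euler k X (cokernel g) =
      Curv2.euler k X (CohB1.tensorMod (cokernel f) (ClSub.quotMod I)) := by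
    have e : cokernel ((tR (ClSub.quotMod I)).map f) ≅
        (tR (ClSub.quotMod I)).obj (cokernel f) :=
      (PreservesCokernel.iso (tR (ClSub.quotMod I)) f).symm
    rw [hg, resDMap_eq]
    exact CurveTens.euler_of_iso k X e
  have hTOc : Coh.IsCoh (CohB1.tensorMod (cokernel f) (Coh.structureModule X)) :=
    RelAmpleVanH9.isCoh_tensorMod hTc (CohDevH8.isCoh_structureModule X)
  have hTQc : Coh.IsCoh (CohB1.tensorMod (cokernel f) (ClSub.quotMod I)) :=
    RelAmpleVanH9.isCoh_tensorMod hTc hQc
  haveI : Epi (ClSub.toSubscheme I) := (Groth.Agent.HypSurf.ses_shortExact I).epi_g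
  haveI : Epi ((tL (cokernel f)).map (ClSub.toSubscheme I)) :=
    NodalG0.epi_tL_map (cokernel f) (ClSub.toSubscheme I)
  have eT : Curv2.euler k X (CohB1.tensorMod (cokernel f) (Coh.structureModule X)) =
      Curv2.euler k X (cokernel f) := CurveTens.euler_of_iso k X (rightUnit (cokernel f))
  have hTO0 : ∀ x ∈ CohB1.support (CohB1.tensorMod (cokernel f) (Coh.structureModule X)),
      IsClosed ({x} : Set X) := by
    intro x hx
    haveI := hTc.1
    haveI := (CohDevH8.isCoh_structureModule X).1
    rw [SuppTensH8.support_tensorMod _ _ hTc.2 (CohDevH8.isCoh_structureModule X).2] at hx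
    exact hT0 x hx.1
  have hle2 := euler_le_of_epi k X ((tL (cokernel f)).map (ClSub.toSubscheme I)) hTOc hTQc hTO0
  have hle2' : Curv2.euler k X (CohB1.tensorMod (cokernel f) (ClSub.quotMod I)) ≤
      Curv2.euler k X (CohB1.tensorMod (cokernel f) (Coh.structureModule X)) := hle2
  -- `χ(coker f) = deg F - deg E`
  let S : ShortComplex X.Modules := ShortComplex.mk f (cokernel.π f) (cokernel.condition f)
  have hS : S.ShortExact :=
    ShortComplex.ShortExact.mk' (S.exact_of_g_is_cokernel (cokernelIsCokernel f))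
      (inferInstanceAs (Mono f)) (inferInstanceAs (Epi (cokernel.π f)))
  have add3 := EulerField.euler_additive k X S hS hEc hFc hTc
  have add3' : Curv2.euler k X F = Curv2.euler k X E + Curv2.euler k X (cokernel f) := add3
  have hle1' : (Module.finrank k (LinearMap.ker (ParSh.fibDMap k X I f)) : ℤ) ≤
      (Module.finrank k (Coh.HH X (kerImSC g).X₁ 0) : ℤ) := by exact_mod_cast hle1
  unfold Curv2.deg
  linarith

end Curve

end Groth.Agent.Lib.GPBunH6
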