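import Mathlib
import Groth.Prelude
import Groth.Agent.Lib.GPBun2_helper6

/-!
# Generalized parabolic bundles: monotonicity of the parabolic degree (helper6)

`main18564`: a parabolic monomorphism between generalized parabolic bundles of the same rank
does not decrease the parabolic degree, with equality iff it is an isomorphism (mapping `F₁` onto
`F₁'` when `α > 0`).
APPEND-ONLY once landed.
-/

set_option autoImplicit false
universe u
open CategoryTheory CategoryTheory.Limits AlgebraicGeometry Opposite TopologicalSpace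

namespace Groth.Agent.Lib.GPBunH6

open Groth.Agent.HHVan Groth.Agent.TensInv

section LinAlg

variable {K V W : Type*} [Field K] [AddCommGroup V] [Module K V] [AddCommGroup W] [Module K W]

theorem finrank_le_ker_add_map [FiniteDimensional K V] (φ : V →ₗ[K] W) (p : Submodule K V) :
    Module.finrank K p ≤ Module.finrank K (LinearMap.ker φ) + Module.finrank K (p.map φ) := by
  have h := LinearMap.finrank_range_add_finrank_ker (φ.domRestrict p)
  rw [LinearMap.range_domRestrict] at h
  have h2 : Module.finrank K (LinearMap.ker (φ.domRestrict p)) ≤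
      Module.finrank K (LinearMap.ker φ) := by
    let ψ : LinearMap.ker (φ.domRestrict p) →ₗ[K] LinearMap.ker φ :=
      LinearMap.codRestrict _ (p.subtype ∘ₗ (LinearMap.ker (φ.domRestrict p)).subtype)
        (fun x => by
          have hx := x.2
          rw [LinearMap.mem_ker] at hx ⊢
          exact hx)
    refine LinearMap.finrank_le_finrank_of_injective (f := ψ) ?_
    intro x y hxy
    have h1 : (ψ x : V) = (ψ y : V) := congrArg Subtype.val hxy
    exact Subtype.ext (Subtype.ext h1)
  omega

theorem finrank_map_of_injective (φ : V →ₗ[K] W) (hφ : Function.Injective φ)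
    (p : Submodule K V) : Module.finrank K (p.map φ) = Module.finrank K p :=
  (LinearEquiv.finrank_eq (Submodule.equivMapOfInjective φ hφ p)).symm

end LinAlg

section Curve

variable (k : Type u) [Field k] (X : Scheme.{u}) [X.Over (Spec (CommRingCat.of k))]
  [IsIntegral X] [IsProper (X ↘ Spec (CommRingCat.of k))]

theorem finite_fibD (I : X.IdealSheafData) {n : ℕ} {E : X.Modules}
    (hE : FlatMod.IsFinLocFreeOfRank n E) : Module.Finite k (ParSh.fibD X I E) := by
  haveI : IsLocallyNoetherian X :=
    LocallyOfFiniteType.isLocallyNoetherian (X ↘ Spec (CommRingCat.of k))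
  exact ProperFinH9.finite_HH_of_proper k X _
    (isCoh_resD X I (KerFreeH8.isCoh_of_finLocFree (TensBasis.isFinLocFree_of_rank hE))) 0

/-- the basic inequality: `dim F₁ ≤ (deg F - deg E) + dim F₁'` -/
theorem finrank_le_of_isGPHom (hdim : topologicalKrullDim X = 1) (I : X.IdealSheafData)
    (hI : BlowUp.IsEffCartierIdeal I) {n : ℕ} {E F : X.Modules}
    (hE : FlatMod.IsFinLocFreeOfRank n E) (hF : FlatMod.IsFinLocFreeOfRank n F)
    (F₁ : Submodule k (ParSh.fibD X I E)) (F₁' : Submodule k (ParSh.fibD X I F))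
    (f : E ⟶ F) [Mono f] (hf : ParSh.IsGPHom k X I F₁ F₁' f) :
    (Module.finrank k F₁ : ℤ) ≤
      (Curv2.deg k X F n - Curv2.deg k X E n) + (Module.finrank k F₁' : ℤ) := by
  haveI := finite_fibD k X I hE
  haveI := finite_fibD k X I hF
  have h1 := finrank_le_ker_add_map (ParSh.fibDMap k X I f) F₁
  have h2 := finrank_ker_fibDMap_le k X hdim I hI hE hF f
  have h3 : Module.finrank k (F₁.map (ParSh.fibDMap k X I f)) ≤ Module.finrank k F₁' :=
    Submodule.finrank_mono hf
  have h1' : (Module.finrank k F₁ : ℤ) ≤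
      (Module.finrank k (LinearMap.ker (ParSh.fibDMap k X I f)) : ℤ) +
        (Module.finrank k (F₁.map (ParSh.fibDMap k X I f)) : ℤ) := by exact_mod_cast h1
  have h3' : (Module.finrank k (F₁.map (ParSh.fibDMap k X I f)) : ℤ) ≤
      (Module.finrank k F₁' : ℤ) := by exact_mod_cast h3
  linarith

/-- `F₀(f)` is injective when `f` is a monomorphism of the same rank and the same degree -/
theorem fibDMap_injective_of_deg_eq (hdim : topologicalKrullDim X = 1) (I : X.IdealSheafData)
    (hI : BlowUp.IsEffCartierIdeal I) {n : ℕ} {E F : X.Modules}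
    (hE : FlatMod.IsFinLocFreeOfRank n E) (hF : FlatMod.IsFinLocFreeOfRank n F)
    (f : E ⟶ F) [Mono f] (hdeg : Curv2.deg k X E n = Curv2.deg k X F n) :
    Function.Injective (ParSh.fibDMap k X I f) := by
  haveI := finite_fibD k X I hE
  have h2 := finrank_ker_fibDMap_le k X hdim I hI hE hF f
  rw [hdeg, sub_self] at h2
  have h3 : Module.finrank k (LinearMap.ker (ParSh.fibDMap k X I f)) = 0 := by omega
  rw [← LinearMap.ker_eq_bot]
  exact Submodule.finrank_eq_zero.mp h3

/-- **S18564** -/
theorem main18564 (hdim : topologicalKrullDim X = 1)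
    (I : X.IdealSheafData) (hD : BlowUp.IsEffCartierIdeal I) (α : ℝ) (hα0 : 0 ≤ α) (hα1 : α < 1)
    {E F : X.Modules} (n : ℕ) (hE : FlatMod.IsFinLocFreeOfRank n E)
    (hF : FlatMod.IsFinLocFreeOfRank n F)
    (F₁ : Submodule k (ParSh.fibD X I E)) (F₁' : Submodule k (ParSh.fibD X I F))
    (f : E ⟶ F) [Mono f] (hf : ParSh.IsGPHom k X I F₁ F₁' f) :
    ParSh.gpDeg k X α E F₁ n ≤ ParSh.gpDeg k X α F F₁' n ∧
      (ParSh.gpDeg k X α E F₁ n = ParSh.gpDeg k X α F F₁' n ↔
        (IsIso f ∧ (0 < α → Submodule.map (ParSh.fibDMap k X I f) F₁ = F₁'))) := by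
  haveI := finite_fibD k X I hE
  haveI := finite_fibD k X I hF
  have hdeg := VBCurve.deg_le_of_mono_same_rank k X hdim f hE hF
  have hkey := finrank_le_of_isGPHom k X hdim I hD hE hF F₁ F₁' f hf
  have hdegR : (Curv2.deg k X E n : ℝ) ≤ (Curv2.deg k X F n : ℝ) := by exact_mod_cast hdeg.1
  have hkeyR : (Module.finrank k F₁ : ℝ) ≤
      ((Curv2.deg k X F n : ℝ) - (Curv2.deg k X E n : ℝ)) + (Module.finrank k F₁' : ℝ) := by
    exact_mod_cast hkey
  have hmain : α * (Module.finrank k F₁ : ℝ) ≤
      α * (((Curv2.deg k X F n : ℝ) - (Curv2.deg k X E n : ℝ)) + (Module.finrank k F₁' : ℝ)) :=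
    mul_le_mul_of_nonneg_left hkeyR hα0
  have hℓ : 0 ≤ (Curv2.deg k X F n : ℝ) - (Curv2.deg k X E n : ℝ) := by linarith
  have hαℓ : α * ((Curv2.deg k X F n : ℝ) - (Curv2.deg k X E n : ℝ)) ≤
      (Curv2.deg k X F n : ℝ) - (Curv2.deg k X E n : ℝ) := by nlinarith
  unfold ParSh.gpDeg ParSh.gpWt
  refine ⟨by nlinarith, ?_⟩
  constructor
  · intro heq
    -- equality forces `deg E = deg F`
    have hℓ0 : (Curv2.deg k X F n : ℝ) - (Curv2.deg k X E n : ℝ) = 0 := by
      have h1 : (1 - α) * ((Curv2.deg k X F n : ℝ) - (Curv2.deg k X E n : ℝ)) ≤ 0 := by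
        nlinarith
      have h2 : 0 < 1 - α := by linarith
      nlinarith
    have hdegeq : Curv2.deg k X E n = Curv2.deg k X F n := by
      have : (Curv2.deg k X E n : ℝ) = (Curv2.deg k X F n : ℝ) := by linarith
      exact_mod_cast this
    refine ⟨hdeg.2.mp hdegeq, fun hα => ?_⟩
    have hinj := fibDMap_injective_of_deg_eq k X hdim I hD hE hF f hdegeq
    have hfr : (Module.finrank k F₁ : ℝ) = (Module.finrank k F₁' : ℝ) := by
      have h3 : α * (Module.finrank k F₁ : ℝ) = α * (Module.finrank k F₁' : ℝ) := by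
        have : (Curv2.deg k X E n : ℝ) = (Curv2.deg k X F n : ℝ) := by linarith
        linarith
      exact mul_left_cancel₀ hα.ne' h3
    have hfr' : Module.finrank k F₁ = Module.finrank k F₁' := by exact_mod_cast hfr
    apply Submodule.eq_of_le_of_finrank_eq hf
    rw [finrank_map_of_injective _ hinj, hfr']
  · rintro ⟨hiso, hmap⟩
    have hdegeq : Curv2.deg k X E n = Curv2.deg k X F n := hdeg.2.mpr hiso
    rw [hdegeq]
    rcases hα0.eq_or_lt with h0 | hpos
    · rw [← h0]; ring
    · have hinj := fibDMap_injective_of_deg_eq k X hdim I hD hE hF f hdegeq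
      have h4 : Module.finrank k F₁' = Module.finrank k F₁ := by
        rw [← hmap hpos, finrank_map_of_injective _ hinj]
      rw [h4]

end Curve

end Groth.Agent.Lib.GPBunH6
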