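import Mathlib
import Groth.Prelude
import Groth.Agent.Lib.GPBun3_helper6
import Groth.Agent.Lib.VBCurve7_helper9
import Groth.Agent.Lib.CurveAmple1_helper9
import Groth.Agent.Lib.SheafHomLF3_helper9

/-!
# Generalized parabolic bundles: kernel and image of a parabolic homomorphism (helper6)

* `hmap_exact_of_closed_support`: middle exactness of `H⁰` for an exact complex whose first term
  is supported at closed points.
* `fibDMap_sub`, `fibDMap_smul_id`: linearity of `F₀`.
* `finrank_le_induced_add_coinduced`: `dim F₁ ≤ dim (F₁ ∩ F₀(K)) + dim (image of F₁ in F₀(J))`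
  for the kernel `K` and image `J` of a morphism.
APPEND-ONLY once landed.
-/

set_option autoImplicit false
universe u
open CategoryTheory CategoryTheory.Limits AlgebraicGeometry Opposite TopologicalSpace

namespace Groth.Agent.Lib.GPBunH6

open Groth.Agent.HHVan Groth.Agent.TensInv

section Gen

variable {X : Scheme.{u}}

/-- middle exactness of `H⁰` for an exact complex of coherent modules whose first term is
supported at closed points -/
theorem hmap_exact_of_closed_support [IsLocallyNoetherian X] (S : ShortComplex X.Modules)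
    (hS : S.Exact) (h₁ : Coh.IsCoh S.X₁) (h₂ : Coh.IsCoh S.X₂)
    (h0 : ∀ x ∈ CohB1.support S.X₁, IsClosed ({x} : Set X))
    (z : Coh.HH X S.X₂ 0) (hz : hmap S.g 0 z = 0) :
    ∃ y : Coh.HH X S.X₁ 0, hmap S.f 0 y = z := by
  haveI hmono : Mono (cokernel.desc S.f S.g S.zero) := S.exact_iff_mono_cokernel_desc.mp hS
  have h1 : hmap (cokernel.π S.f) 0 z = 0 := by
    apply CurveSub.hmap_injective_of_mono (cokernel.desc S.f S.g S.zero)
    rw [← hmap_comp, cokernel.π_desc, hz, map_zero]
  obtain ⟨w, hw⟩ := hmap_exact_mid (imCokSC S.f) (imCokSC_shortExact S.f) z h1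
  have hJc : Coh.IsCoh (Abelian.image S.f) :=
    CohKerH8.isCoh_kernel h₂ (CohKerH8.isCoh_cokernel h₁ h₂ S.f) _
  have hKc : Coh.IsCoh (kerImSC S.f).X₁ := CohKerH8.isCoh_kernel h₁ hJc _
  haveI : Mono (kerImSC S.f).f := (kerImSC_shortExact S.f).mono_f
  have hK0 : ∀ x ∈ CohB1.support (kerImSC S.f).X₁, IsClosed ({x} : Set X) := fun x hx =>
    h0 x (CohDevH8.support_subset_of_mono (kerImSC S.f).f hx)
  have hH1 := ZeroDimAcyc.HH_subsingleton_of_zero_dim X _ hKc hK0 1 one_pos
  obtain ⟨y, hy⟩ := hmap_surjective_of_H1 (kerImSC S.f) (kerImSC_shortExact S.f) hH1 w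
  refine ⟨y, ?_⟩
  have h := hmap_comp (Abelian.factorThruImage S.f) (Abelian.image.ι S.f) 0 y
  rw [Abelian.image.fac] at h
  rw [h]
  exact (congrArg (hmap (Abelian.image.ι S.f) 0) hy).trans hw

/-- right tensoring commutes with multiplication by a global function -/
theorem tR_map_smulModΓ (Q E : X.Modules) (r : Coh.Γtop X) :
    (tR Q).map (Formal.smulModΓ E r) = Formal.smulModΓ (CohB1.tensorMod E Q) r := by
  have hnat := (commIso Q).hom.naturality (Formal.smulModΓ E r)
  have h1 : (tL Q).map (Formal.smulModΓ E r) = Formal.smulModΓ (CohB1.tensorMod Q E) r :=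
    SheafHomLFH9.tensorBi_map_smulModΓ Q E r
  rw [h1] at hnat
  have h2 : Formal.smulModΓ (CohB1.tensorMod Q E) r ≫ (commIso Q).hom.app E =
      (commIso Q).hom.app E ≫ Formal.smulModΓ (CohB1.tensorMod E Q) r :=
    (KLin.comp_smulModΓ ((commIso Q).hom.app E) r).symm
  have h3 : (commIso Q).hom.app E ≫ (tR Q).map (Formal.smulModΓ E r) =
      (commIso Q).hom.app E ≫ Formal.smulModΓ (CohB1.tensorMod E Q) r := hnat.symm.trans h2
  exact (cancel_epi ((commIso Q).hom.app E)).mp h3

end Gen

section Lin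

variable (k : Type u) [Field k] (X : Scheme.{u}) [X.Over (Spec (CommRingCat.of k))]

theorem resDMap_sub (I : X.IdealSheafData) {E F : X.Modules} (f g : E ⟶ F) :
    ParSh.resDMap I (f - g) = ParSh.resDMap I f - ParSh.resDMap I g := by
  rw [resDMap_eq, resDMap_eq, resDMap_eq]
  exact (tR (ClSub.quotMod I)).map_sub

theorem resDMap_smul_id (I : X.IdealSheafData) (E : X.Modules) (c : k) :
    ParSh.resDMap I (c • 𝟙 E) = c • 𝟙 (ParSh.resD I E) := by
  rw [resDMap_eq, KLin.smul_id, KLin.smul_id]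
  exact tR_map_smulModΓ (ClSub.quotMod I) E _

theorem fibDMap_sub (I : X.IdealSheafData) {E F : X.Modules} (f g : E ⟶ F) :
    ParSh.fibDMap k X I (f - g) = ParSh.fibDMap k X I f - ParSh.fibDMap k X I g := by
  show Canon.HHlin k (ParSh.resDMap I (f - g)) 0 = _
  rw [resDMap_sub]
  have h := CurveAmple.HHlin_add k (ParSh.resDMap I f - ParSh.resDMap I g) (ParSh.resDMap I g) 0
  rw [sub_add_cancel] at h
  show _ = Canon.HHlin k (ParSh.resDMap I f) 0 - Canon.HHlin k (ParSh.resDMap I g) 0
  rw [h, add_sub_cancel_right]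

theorem fibDMap_smul_id (I : X.IdealSheafData) (E : X.Modules) (c : k) :
    ParSh.fibDMap k X I (c • 𝟙 E) = c • LinearMap.id := by
  show Canon.HHlin k (ParSh.resDMap I (c • 𝟙 E)) 0 = _
  rw [resDMap_smul_id, CurveAmple.HHlin_smul]
  congr 1
  apply LinearMap.ext
  intro x
  show hmap (𝟙 _) 0 x = x
  exact hmap_id 0 x

/-- a scalar shift of a parabolic endomorphism is parabolic -/
theorem isGPHom_sub_smul (I : X.IdealSheafData) {E : X.Modules}
    (F₁ : Submodule k (ParSh.fibD X I E)) (f : E ⟶ E) (hf : ParSh.IsGPHom k X I F₁ F₁ f) (c : k) :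
    ParSh.IsGPHom k X I F₁ F₁ (f - c • 𝟙 E) := by
  rintro _ ⟨x, hx, rfl⟩
  rw [fibDMap_sub, fibDMap_smul_id, LinearMap.sub_apply, LinearMap.smul_apply, LinearMap.id_apply]
  exact F₁.sub_mem (hf ⟨x, hx, rfl⟩) (F₁.smul_mem c hx)

end Lin

end Groth.Agent.Lib.GPBunH6
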