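import Mathlib
import Groth.Prelude
import Groth.Agent.Lib.GPBun4_helper6
import Groth.Agent.Lib.VBSat1_helper9

/-!
# Generalized parabolic bundles: homomorphisms between semistable objects of the same slope
(helper6)

`core`: kernel and image of a nonzero parabolic homomorphism between semistable generalized
parabolic bundles of the same slope have that slope.
`main18565`, `main18566`, `main18567`.
APPEND-ONLY once landed.
-/

set_option autoImplicit false
universe u
open CategoryTheory CategoryTheory.Limits AlgebraicGeometry Opposite TopologicalSpace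

namespace Groth.Agent.Lib.GPBunH6

open Groth.Agent.HHVan Groth.Agent.TensInv

section LinAlg

variable {K U V W : Type*} [Field K] [AddCommGroup U] [Module K U] [AddCommGroup V] [Module K V]
  [AddCommGroup W] [Module K W]

theorem finrank_le_comap_add_map [FiniteDimensional K V] [FiniteDimensional K U]
    (ψ : U →ₗ[K] V) (φ : V →ₗ[K] W) (hex : ∀ x, φ x = 0 → ∃ y, ψ y = x) (p : Submodule K V) :
    Module.finrank K p ≤ Module.finrank K (p.comap ψ) + Module.finrank K (p.map φ) := by
  have h := LinearMap.finrank_range_add_finrank_ker (φ.domRestrict p)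
  rw [LinearMap.range_domRestrict] at h
  have h2 : Module.finrank K (LinearMap.ker (φ.domRestrict p)) ≤
      Module.finrank K (p.comap ψ) := by
    have e1 : Module.finrank K ((LinearMap.ker (φ.domRestrict p)).map p.subtype) =
        Module.finrank K (LinearMap.ker (φ.domRestrict p)) :=
      finrank_map_of_injective p.subtype p.injective_subtype _
    have hle : (LinearMap.ker (φ.domRestrict p)).map p.subtype ≤ (p.comap ψ).map ψ := by
      rintro _ ⟨x, hx, rfl⟩
      have hx' : φ (x : V) = 0 := LinearMap.mem_ker.mp hx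
      obtain ⟨y, hy⟩ := hex _ hx'
      refine ⟨y, ?_, hy⟩
      show ψ y ∈ p
      rw [hy]
      exact x.2
    calc Module.finrank K (LinearMap.ker (φ.domRestrict p))
        = Module.finrank K ((LinearMap.ker (φ.domRestrict p)).map p.subtype) := e1.symm
      _ ≤ Module.finrank K ((p.comap ψ).map ψ) := Submodule.finrank_mono hle
      _ ≤ Module.finrank K (p.comap ψ) := Submodule.finrank_map_le ψ _
  omega

end LinAlg

section Arith

theorem slope_arith {pE pK pq ps pF n m rK rI : ℝ} (hn : 0 < n) (hm : 0 < m)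
    (hrK : 0 ≤ rK) (hrI : 0 ≤ rI) (hnr : n = rK + rI)
    (hA : pE ≤ pK + pq) (hB : pq ≤ ps) (hC : pK * n ≤ pE * rK) (hD : ps * m ≤ pF * rI)
    (hE : pE * m = pF * n) : ps * m = pF * rI ∧ pK * n = pE * rK := by
  -- `pE * rI ≤ pq * n`
  have h1 : pE * n ≤ pK * n + pq * n := by nlinarith
  have h2 : pE * rI ≤ pq * n := by
    have : pE * n = pE * rK + pE * rI := by rw [hnr]; ring
    linarith
  have h3 : pq * n ≤ ps * n := mul_le_mul_of_nonneg_right hB hn.le
  have h4 : pE * rI * m ≤ ps * n * m := mul_le_mul_of_nonneg_right (h2.trans h3) hm.le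
  have h5 : ps * m * n ≤ pF * rI * n := mul_le_mul_of_nonneg_right hD hn.le
  have h6 : pF * rI * n = pE * rI * m := by
    have : pF * n * rI = pE * m * rI := by rw [hE]
    linarith
  have h7 : ps * m * n = pF * rI * n := le_antisymm h5 (by linarith)
  have h8 : ps * m = pF * rI := mul_right_cancel₀ hn.ne' h7
  refine ⟨h8, le_antisymm hC ?_⟩
  -- `pE * rI = ps * n`
  have h9 : pE * rI * m = ps * n * m := by linarith
  have h10 : pE * rI = ps * n := mul_right_cancel₀ hm.ne' h9
  have h11 : pq * n = pE * rI := le_antisymm (by linarith) h2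
  have : pE * n = pE * rK + pE * rI := by rw [hnr]; ring
  linarith

end Arith

section Curve

variable (k : Type u) [Field k] (X : Scheme.{u}) [X.Over (Spec (CommRingCat.of k))]
  [IsIntegral X] [IsProper (X ↘ Spec (CommRingCat.of k))]

/-- exactness of `F₀(K) → F₀(E) → F₀(J)` for the kernel `K` and the image `J` of `f` -/
theorem fibD_exact_kerIm (hdim : topologicalKrullDim X ≤ 1) (I : X.IdealSheafData)
    (hI : BlowUp.IsEffCartierIdeal I) {E F : X.Modules} (hEc : Coh.IsCoh E) (hFc : Coh.IsCoh F)
    (f : E ⟶ F) (x : ParSh.fibD X I E)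
    (hx : ParSh.fibDMap k X I (Abelian.factorThruImage f) x = 0) :
    ∃ y : ParSh.fibD X I (kerImSC f).X₁, ParSh.fibDMap k X I (kerImSC f).f y = x := by
  haveI : IsLocallyNoetherian X :=
    LocallyOfFiniteType.isLocallyNoetherian (X ↘ Spec (CommRingCat.of k))
  have hJc : Coh.IsCoh (Abelian.image f) :=
    CohKerH8.isCoh_kernel hFc (CohKerH8.isCoh_cokernel hEc hFc f) _
  have hKc : Coh.IsCoh (kerImSC f).X₁ := CohKerH8.isCoh_kernel hEc hJc _
  haveI := NodalG0.preservesColimits_tR (ClSub.quotMod I)
  haveI : PreservesColimitsOfSize.{0, 0} (tR (ClSub.quotMod I)) :=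
    preservesSmallestColimits_of_preservesColimits _
  have hS := kerImSC_shortExact f
  have hS' : ((kerImSC f).map (tR (ClSub.quotMod I))).Exact :=
    hS.exact.map_of_epi_of_preservesCokernel (tR (ClSub.quotMod I)) hS.epi_g inferInstance
  have hx' : hmap ((kerImSC f).map (tR (ClSub.quotMod I))).g 0 x = 0 := by
    have : hmap (ParSh.resDMap I (Abelian.factorThruImage f)) 0 x = 0 := hx
    rw [resDMap_eq] at this
    exact this
  obtain ⟨y, hy⟩ := hmap_exact_of_closed_support _ hS' (isCoh_resD X I hKc) (isCoh_resD X I hEc)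
    (closed_support_resD X hdim I hI hKc) x hx'
  refine ⟨y, ?_⟩
  show hmap (ParSh.resDMap I (kerImSC f).f) 0 y = x
  rw [resDMap_eq]
  exact hy

/-- `dim F₁ ≤ dim (F₁ ∩ F₀(K)) + dim (image of F₁ in F₀(J))` -/
theorem finrank_le_induced_add_coinduced (hdim : topologicalKrullDim X ≤ 1)
    (I : X.IdealSheafData) (hI : BlowUp.IsEffCartierIdeal I) {E F : X.Modules}
    (hEc : Coh.IsCoh E) (hFc : Coh.IsCoh F) (f : E ⟶ F)
    (F₁ : Submodule k (ParSh.fibD X I E)) :
    Module.finrank k F₁ ≤
      Module.finrank k (ParSh.gpInduced k X I (kerImSC f).f F₁) +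
        Module.finrank k (ParSh.gpCoinduced k X I (Abelian.factorThruImage f) F₁) := by
  haveI : IsLocallyNoetherian X :=
    LocallyOfFiniteType.isLocallyNoetherian (X ↘ Spec (CommRingCat.of k))
  have hJc : Coh.IsCoh (Abelian.image f) :=
    CohKerH8.isCoh_kernel hFc (CohKerH8.isCoh_cokernel hEc hFc f) _
  have hKc : Coh.IsCoh (kerImSC f).X₁ := CohKerH8.isCoh_kernel hEc hJc _
  haveI : Module.Finite k (ParSh.fibD X I E) :=
    ProperFinH9.finite_HH_of_proper k X _ (isCoh_resD X I hEc) 0
  haveI : Module.Finite k (ParSh.fibD X I (kerImSC f).X₁) :=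
    ProperFinH9.finite_HH_of_proper k X _ (isCoh_resD X I hKc) 0
  exact finrank_le_comap_add_map (U := ParSh.fibD X I (kerImSC f).X₁) (V := ParSh.fibD X I E)
    (W := ParSh.fibD X I (Abelian.image f))
    (show ParSh.fibD X I (kerImSC f).X₁ →ₗ[k] ParSh.fibD X I E from
      ParSh.fibDMap k X I (kerImSC f).f)
    (ParSh.fibDMap k X I (Abelian.factorThruImage f))
    (fun x hx => fibD_exact_kerIm k X hdim I hI hEc hFc f x hx) F₁

omit [IsIntegral X] [IsProper (X ↘ Spec (CommRingCat.of k))] in
/-- a submodule of `F₀` of a zero module has dimension zero -/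
theorem finrank_eq_zero_of_isZero (I : X.IdealSheafData) {K : X.Modules} (hK : IsZero K)
    (S : Submodule k (ParSh.fibD X I K)) : Module.finrank k S = 0 := by
  have hz : IsZero (ParSh.resD I K) := Functor.map_isZero (tR (ClSub.quotMod I)) hK
  haveI : Subsingleton (ParSh.fibD X I K) := CurveDegAdd.HH_subsingleton_of_isZero X hz 0
  exact Module.finrank_zero_of_subsingleton

omit [IsIntegral X] [IsProper (X ↘ Spec (CommRingCat.of k))] in
/-- the structure coinduced on the image is contained in the structure induced from the target -/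
theorem coinduced_le_induced (I : X.IdealSheafData) {E F : X.Modules}
    (F₁ : Submodule k (ParSh.fibD X I E)) (F₁' : Submodule k (ParSh.fibD X I F))
    (f : E ⟶ F) (hf : ParSh.IsGPHom k X I F₁ F₁' f) :
    ParSh.gpCoinduced k X I (Abelian.factorThruImage f) F₁ ≤
      ParSh.gpInduced k X I (Abelian.image.ι f) F₁' := by
  intro y hy
  unfold ParSh.gpCoinduced at hy
  obtain ⟨x, hx, rfl⟩ := Submodule.mem_map.mp hy
  unfold ParSh.gpInduced
  rw [Submodule.mem_comap, ← LinearMap.comp_apply, ← fibDMap_comp, Abelian.image.fac]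
  exact hf (Submodule.mem_map_of_mem hx)

end Curve

end Groth.Agent.Lib.GPBunH6
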