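import Mathlib
import Groth.Prelude
import Groth.Agent.Lib.GPBun5_helper6

/-!
# Generalized parabolic bundles: homomorphisms between semistable objects of the same slope
(helper6)

`core`: kernel and image of a nonzero parabolic homomorphism between semistable generalized
parabolic bundles of the same slope have that slope.
`main18565` (constant rank), `main18566` (zero or isomorphism), `main18567` (simple).
APPEND-ONLY once landed.
-/

set_option autoImplicit false
universe u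
open CategoryTheory CategoryTheory.Limits AlgebraicGeometry Opposite TopologicalSpace

namespace Groth.Agent.Lib.GPBunH6

open Groth.Agent.HHVan Groth.Agent.TensInv

section Curve

variable (k : Type u) [Field k] (X : Scheme.{u}) [X.Over (Spec (CommRingCat.of k))]
  [IsIntegral X] [IsProper (X ↘ Spec (CommRingCat.of k))]

theorem core (hreg : ∀ x : X, IsRegularLocalRing (X.presheaf.stalk x))
    (hdim : topologicalKrullDim X = 1)
    (I : X.IdealSheafData) (hI : BlowUp.IsEffCartierIdeal I) (α : ℝ) (hα0 : 0 ≤ α)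
    {E F : X.Modules} (n m : ℕ) (hn : 0 < n) (hm : 0 < m)
    (hE : FlatMod.IsFinLocFreeOfRank n E) (hF : FlatMod.IsFinLocFreeOfRank m F)
    (F₁ : Submodule k (ParSh.fibD X I E)) (F₁' : Submodule k (ParSh.fibD X I F))
    (hEss : ParSh.IsGPSemistable k X I α F₁ n) (hFss : ParSh.IsGPSemistable k X I α F₁' m)
    (hμ : ParSh.gpDeg k X α E F₁ n * (m : ℝ) = ParSh.gpDeg k X α F F₁' m * (n : ℝ))
    (f : E ⟶ F) (hf : ParSh.IsGPHom k X I F₁ F₁' f) (hf0 : f ≠ 0) :
    ∃ rK rI : ℕ, FlatMod.IsFinLocFreeOfRank rK (kerImSC f).X₁ ∧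
      FlatMod.IsFinLocFreeOfRank rI (Abelian.image f) ∧ n = rK + rI ∧ 0 < rI ∧ rI ≤ m ∧
      ParSh.gpDeg k X α (Abelian.image f)
          (ParSh.gpInduced k X I (Abelian.image.ι f) F₁') rI * (m : ℝ) =
        ParSh.gpDeg k X α F F₁' m * (rI : ℝ) ∧
      (ParSh.gpDeg k X α (kerImSC f).X₁
          (ParSh.gpInduced k X I (kerImSC f).f F₁) rK * (n : ℝ) =
        ParSh.gpDeg k X α E F₁ n * (rK : ℝ)) ∧
      (rK = 0 → Mono f) := by
  haveI : Nonempty X := inferInstance
  haveI : IsLocallyNoetherian X :=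
    LocallyOfFiniteType.isLocallyNoetherian (X ↘ Spec (CommRingCat.of k))
  have hEf := TensBasis.isFinLocFree_of_rank hE
  have hFf := TensBasis.isFinLocFree_of_rank hF
  have hEc := KerFreeH8.isCoh_of_finLocFree hEf
  have hFc := KerFreeH8.isCoh_of_finLocFree hFf
  obtain ⟨rK, rI, hK, hJ, hr, hrI, hdegadd, hrK0⟩ :=
    VBCurve.exists_kerIm_data k X hreg hdim.le f hf0 hE hFf
  have hK' : FlatMod.IsFinLocFreeOfRank rK (kerImSC f).X₁ := hK
  have hle : rI ≤ m := CurveSub.rank_le_of_mono (Abelian.image.ι f) hJ hF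
  refine ⟨rK, rI, hK', hJ, hr, hrI, hle, ?_⟩
  haveI := finite_fibD k X I hJ
  have hmK : Mono (kerImSC f).f := (kerImSC_shortExact f).mono_f
  have hH := finrank_le_induced_add_coinduced k X hdim.le I hI hEc hFc f F₁
  have hqs : Module.finrank k (ParSh.gpCoinduced k X I (Abelian.factorThruImage f) F₁) ≤
      Module.finrank k (ParSh.gpInduced k X I (Abelian.image.ι f) F₁') :=
    Submodule.finrank_mono (coinduced_le_induced k X I F₁ F₁' f hf)
  have hssF := hFss (Abelian.image f) rI (Abelian.image.ι f) inferInstance hrI hJ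
  have hdegadd' : (Curv2.deg k X E n : ℝ) =
      (Curv2.deg k X (kerImSC f).X₁ rK : ℝ) + (Curv2.deg k X (Abelian.image f) rI : ℝ) := by
    have : Curv2.deg k X E n =
        Curv2.deg k X (kerImSC f).X₁ rK + Curv2.deg k X (Abelian.image f) rI := hdegadd
    exact_mod_cast this
  have hHR : (Module.finrank k F₁ : ℝ) ≤
      (Module.finrank k (ParSh.gpInduced k X I (kerImSC f).f F₁) : ℝ) +
        (Module.finrank k (ParSh.gpCoinduced k X I (Abelian.factorThruImage f) F₁) : ℝ) := by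
    exact_mod_cast hH
  have hqsR : (Module.finrank k (ParSh.gpCoinduced k X I (Abelian.factorThruImage f) F₁) : ℝ) ≤
      (Module.finrank k (ParSh.gpInduced k X I (Abelian.image.ι f) F₁') : ℝ) := by
    exact_mod_cast hqs
  have hnr : (n : ℝ) = (rK : ℝ) + (rI : ℝ) := by exact_mod_cast hr
  have hC : ParSh.gpDeg k X α (kerImSC f).X₁
      (ParSh.gpInduced k X I (kerImSC f).f F₁) rK * (n : ℝ) ≤
        ParSh.gpDeg k X α E F₁ n * (rK : ℝ) := by
    rcases Nat.eq_zero_or_pos rK with h0 | hpos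
    · have hz : IsZero (kerImSC f).X₁ := VBCurve.isZero_of_rank_zero (h0 ▸ hK')
      have h1 := finrank_eq_zero_of_isZero k X I hz (ParSh.gpInduced k X I (kerImSC f).f F₁)
      have h2 : Curv2.deg k X (kerImSC f).X₁ rK = 0 := (hrK0 h0).1
      unfold ParSh.gpDeg ParSh.gpWt
      rw [h1, h2, h0]
      simp
    · exact hEss (kerImSC f).X₁ rK (kerImSC f).f hmK hpos hK'
  have key := slope_arith (pE := ParSh.gpDeg k X α E F₁ n)
    (pK := ParSh.gpDeg k X α (kerImSC f).X₁ (ParSh.gpInduced k X I (kerImSC f).f F₁) rK)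
    (pq := (Curv2.deg k X (Abelian.image f) rI : ℝ) +
      α * (Module.finrank k (ParSh.gpCoinduced k X I (Abelian.factorThruImage f) F₁) : ℝ))
    (ps := ParSh.gpDeg k X α (Abelian.image f)
      (ParSh.gpInduced k X I (Abelian.image.ι f) F₁') rI)
    (pF := ParSh.gpDeg k X α F F₁' m) (n := (n : ℝ)) (m := (m : ℝ)) (rK := (rK : ℝ))
    (rI := (rI : ℝ)) (by exact_mod_cast hn) (by exact_mod_cast hm) (Nat.cast_nonneg _)
    (Nat.cast_nonneg _) hnr
    (by
      unfold ParSh.gpDeg ParSh.gpWt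
      rw [hdegadd']
      have := mul_le_mul_of_nonneg_left hHR hα0
      linarith)
    (by
      unfold ParSh.gpDeg ParSh.gpWt
      have := mul_le_mul_of_nonneg_left hqsR hα0
      linarith)
    hC hssF hμ
  exact ⟨key.1, key.2, fun h0 => (hrK0 h0).2⟩

/-- **S18566** -/
theorem main18566 (hreg : ∀ x : X, IsRegularLocalRing (X.presheaf.stalk x))
    (hdim : topologicalKrullDim X = 1)
    (I : X.IdealSheafData) (hI : BlowUp.IsEffCartierIdeal I) (α : ℝ) (hα0 : 0 ≤ α) (hα1 : α < 1)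
    {E F : X.Modules} (n m : ℕ) (hn : 0 < n) (hm : 0 < m)
    (hE : FlatMod.IsFinLocFreeOfRank n E) (hF : FlatMod.IsFinLocFreeOfRank m F)
    (F₁ : Submodule k (ParSh.fibD X I E)) (F₁' : Submodule k (ParSh.fibD X I F))
    (hEss : ParSh.IsGPSemistable k X I α F₁ n) (hEst : ParSh.IsGPStable k X I α F₁ n)
    (hFss : ParSh.IsGPSemistable k X I α F₁' m) (hFst : ParSh.IsGPStable k X I α F₁' m)
    (hμ : ParSh.gpDeg k X α E F₁ n * (m : ℝ) = ParSh.gpDeg k X α F F₁' m * (n : ℝ))
    (f : E ⟶ F) (hf : ParSh.IsGPHom k X I F₁ F₁' f) :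
    f = 0 ∨ (IsIso f ∧ (0 < α → Submodule.map (ParSh.fibDMap k X I f) F₁ = F₁')) := by
  by_cases hf0 : f = 0
  · exact Or.inl hf0
  right
  obtain ⟨rK, rI, hK, hJ, hr, hrI, hle, hJeq, hKeq, hmono⟩ :=
    core k X hreg hdim I hI α hα0 n m hn hm hE hF F₁ F₁' hEss hFss hμ f hf hf0
  have hmK : Mono (kerImSC f).f := (kerImSC_shortExact f).mono_f
  -- the kernel vanishes
  have hrK : rK = 0 := by
    by_contra hne
    have hpos : 0 < rK := Nat.pos_of_ne_zero hne
    have hlt : rK < n := by omega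
    have := hEst (kerImSC f).X₁ rK (kerImSC f).f hmK hpos hlt hK
    exact (ne_of_lt this) hKeq
  haveI : Mono f := hmono hrK
  -- the image has full rank
  have hrI' : rI = m := by
    by_contra hne
    have hlt : rI < m := lt_of_le_of_ne hle hne
    have := hFst (Abelian.image f) rI (Abelian.image.ι f) inferInstance hrI hlt hJ
    exact (ne_of_lt this) hJeq
  have hnm : n = m := by omega
  subst hnm
  have h64 := main18564 k X hdim I hI α hα0 hα1 n hE hF F₁ F₁' f hf
  have hn' : (0 : ℝ) < (n : ℝ) := by exact_mod_cast hn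
  exact h64.2.mp (mul_right_cancel₀ hn'.ne' hμ)

/-- **S18565** -/
theorem main18565 (hreg : ∀ x : X, IsRegularLocalRing (X.presheaf.stalk x))
    (hdim : topologicalKrullDim X = 1)
    (I : X.IdealSheafData) (hI : BlowUp.IsEffCartierIdeal I) (α : ℝ) (hα0 : 0 ≤ α) (hα1 : α < 1)
    {E F : X.Modules} (n m : ℕ) (hn : 0 < n) (hm : 0 < m)
    (hE : FlatMod.IsFinLocFreeOfRank n E) (hF : FlatMod.IsFinLocFreeOfRank m F)
    (F₁ : Submodule k (ParSh.fibD X I E)) (F₁' : Submodule k (ParSh.fibD X I F))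
    (hEss : ParSh.IsGPSemistable k X I α F₁ n) (hFss : ParSh.IsGPSemistable k X I α F₁' m)
    (hμ : ParSh.gpDeg k X α E F₁ n * (m : ℝ) = ParSh.gpDeg k X α F F₁' m * (n : ℝ))
    (f : E ⟶ F) (hf : ParSh.IsGPHom k X I F₁ F₁' f) :
    ∃ r₀ : ℕ, FlatMod.IsFinLocFreeOfRank r₀ (cokernel f) := by
  have of_iso : ∀ {M M' : X.Modules} {r : ℕ} (e : M ≅ M'),
      FlatMod.IsFinLocFreeOfRank r M → FlatMod.IsFinLocFreeOfRank r M' := by
    intro M M' r e h x
    obtain ⟨U, hxU, ⟨α'⟩⟩ := h x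
    exact ⟨U, hxU, ⟨(Scheme.Modules.restrictFunctor U.ι).mapIso e.symm ≪≫ α'⟩⟩
  by_cases hf0 : f = 0
  · subst hf0
    exact ⟨m, of_iso cokernelZeroIsoTarget.symm hF⟩
  obtain ⟨rK, rI, hK, hJ, hr, hrI, hle, hJeq, hKeq, hmono⟩ :=
    core k X hreg hdim I hI α hα0 n m hn hm hE hF F₁ F₁' hEss hFss hμ f hf hf0
  have hflf : FlatMod.IsFinLocFree (cokernel (Abelian.image.ι f)) := by
    by_contra hnot
    obtain ⟨P, p, j, hp, hjp, hP, hlt⟩ :=
      VBSat.exists_larger_sub k X hreg hdim (Abelian.image.ι f) hJ hF hnot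
    haveI : Mono j := mono_of_mono_fac hjp
    have hjpar : ParSh.IsGPHom k X I (ParSh.gpInduced k X I (Abelian.image.ι f) F₁')
        (ParSh.gpInduced k X I p F₁') j := by
      intro y hy
      obtain ⟨x, hx, rfl⟩ := Submodule.mem_map.mp hy
      unfold ParSh.gpInduced at hx ⊢
      rw [Submodule.mem_comap] at hx ⊢
      rw [← LinearMap.comp_apply, ← fibDMap_comp, hjp]
      exact hx
    have h64 := main18564 k X hdim I hI α hα0 hα1 rI hJ hP _ _ j hjpar
    have hne : ParSh.gpDeg k X α (Abelian.image f)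
        (ParSh.gpInduced k X I (Abelian.image.ι f) F₁') rI ≠
          ParSh.gpDeg k X α P (ParSh.gpInduced k X I p F₁') rI := by
      intro heq
      have hiso := (h64.2.mp heq).1
      have := (VBCurve.deg_le_of_mono_same_rank k X hdim j hJ hP).2.mpr hiso
      omega
    have hlt' := lt_of_le_of_ne h64.1 hne
    have hssP := hFss P rI p hp hrI hP
    have hm' : (0 : ℝ) < (m : ℝ) := by exact_mod_cast hm
    have := mul_lt_mul_of_pos_right hlt' hm'
    linarith
  obtain ⟨r₀, hr₀⟩ := VBCurve.exists_rank hflf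
  refine ⟨r₀, of_iso ?_ hr₀⟩
  exact (cokernelEpiComp (Abelian.factorThruImage f) (Abelian.image.ι f)).symm ≪≫
    cokernelIsoOfEq (Abelian.image.fac f)

/-- **S18567** -/
theorem main18567 [IsAlgClosed k] (hreg : ∀ x : X, IsRegularLocalRing (X.presheaf.stalk x))
    (hdim : topologicalKrullDim X = 1)
    (I : X.IdealSheafData) (hI : BlowUp.IsEffCartierIdeal I) (α : ℝ) (hα0 : 0 ≤ α) (hα1 : α < 1)
    {E : X.Modules} (n : ℕ) (hn : 0 < n) (hE : FlatMod.IsFinLocFreeOfRank n E)
    (F₁ : Submodule k (ParSh.fibD X I E))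
    (hEss : ParSh.IsGPSemistable k X I α F₁ n) (hEst : ParSh.IsGPStable k X I α F₁ n)
    (f : E ⟶ E) (hf : ParSh.IsGPHom k X I F₁ F₁ f) :
    ∃ c : k, (SheafOfModules.toSheaf X.ringCatSheaf).map f =
      Coh.smulAb E (Coh.toGlobal (X ↘ Spec (CommRingCat.of k)) c) := by
  haveI : Nonempty X := inferInstance
  obtain ⟨c, hc⟩ := VBCurve.exists_not_isIso_sub_smul k X hn hE f
  refine ⟨c, ?_⟩
  have hpar := isGPHom_sub_smul k X I F₁ f hf c
  rcases main18566 k X hreg hdim I hI α hα0 hα1 n n hn hn hE hE F₁ F₁ hEss hEst hEss hEst rfl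
    (f - c • 𝟙 E) hpar with h0 | ⟨hiso, -⟩
  · have hfc : f = c • 𝟙 E := sub_eq_zero.mp h0
    rw [hfc]
    exact VBCurve.toSheaf_map_smul k X E c
  · exact absurd hiso hc

end Curve

end Groth.Agent.Lib.GPBunH6
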