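import Mathlib
import Groth.Prelude
import Groth.Agent.Lib.CurveSub1_helper9

/-!
# Generalised parabolic bundles: weights near one (helper6)

`near_one_ss`, `near_one_st` (arithmetic); `main18568`, `main18569`.
APPEND-ONLY once landed.
-/

set_option autoImplicit false
set_option linter.all false
set_option maxHeartbeats 1600000

universe u
open CategoryTheory CategoryTheory.Limits AlgebraicGeometry

namespace Groth.Agent.Lib.GPNearH6

section Arith

/-- the key bound: `(1 - α) · d · n · (n - 1) < 1`. -/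
theorem eps_bound {d n : ℕ} {α : ℝ} (hd : 0 < d) (hn : 2 ≤ n)
    (hα : 1 - 1 / ((d : ℝ) * (n : ℝ) * ((n : ℝ) - 1)) < α) :
    (1 - α) * ((d : ℝ) * (n : ℝ) * ((n : ℝ) - 1)) < 1 := by
  have hd' : (0 : ℝ) < d := by exact_mod_cast hd
  have hn' : (2 : ℝ) ≤ n := by exact_mod_cast hn
  have hpos : (0 : ℝ) < (d : ℝ) * (n : ℝ) * ((n : ℝ) - 1) := by
    have : (0 : ℝ) < (n : ℝ) - 1 := by linarith
    have : (0 : ℝ) < (n : ℝ) := by linarith
    positivity
  have h1 : 1 - α < 1 / ((d : ℝ) * (n : ℝ) * ((n : ℝ) - 1)) := by linarith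
  calc (1 - α) * ((d : ℝ) * (n : ℝ) * ((n : ℝ) - 1))
      < 1 / ((d : ℝ) * (n : ℝ) * ((n : ℝ) - 1)) * ((d : ℝ) * (n : ℝ) * ((n : ℝ) - 1)) :=
        mul_lt_mul_of_pos_right h1 hpos
    _ = 1 := one_div_mul_cancel hpos.ne'

theorem near_one_ss {a A : ℤ} {b B r n d : ℕ} {α : ℝ} (hd : 0 < d) (hn : 2 ≤ n) (hr : 0 < r)
    (hrn : r ≤ n) (hb : b ≤ r * d) (hα1 : α < 1)
    (hα : 1 - 1 / ((d : ℝ) * (n : ℝ) * ((n : ℝ) - 1)) < α)
    (h : ((a : ℝ) + α * (b : ℝ)) * (n : ℝ) ≤ ((A : ℝ) + α * (B : ℝ)) * (r : ℝ)) :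
    ((a : ℝ) + 1 * (b : ℝ)) * (n : ℝ) ≤ ((A : ℝ) + 1 * (B : ℝ)) * (r : ℝ) := by
  have heps := eps_bound hd hn hα
  have hε : 0 < 1 - α := by linarith
  have hd' : (0 : ℝ) < d := by exact_mod_cast hd
  have hn' : (2 : ℝ) ≤ n := by exact_mod_cast hn
  have hr' : (0 : ℝ) < r := by exact_mod_cast hr
  have hb' : (b : ℝ) ≤ (r : ℝ) * (d : ℝ) := by exact_mod_cast hb
  have hB' : (0 : ℝ) ≤ B := by positivity
  have hb0 : (0 : ℝ) ≤ b := by positivity
  -- the integer `Δ(1)`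
  have key : (0 : ℤ) ≤ (A + B) * r - (a + b) * n := by
    rcases Nat.lt_or_ge r n with hlt | hge
    · -- `r ≤ n - 1`
      have hrn' : (r : ℝ) ≤ (n : ℝ) - 1 := by
        have : r + 1 ≤ n := hlt
        have : ((r + 1 : ℕ) : ℝ) ≤ (n : ℝ) := by exact_mod_cast this
        push_cast at this
        linarith
      have hreal : (-1 : ℝ) < (((A + B) * r - (a + b) * n : ℤ) : ℝ) := by
        push_cast
        have e1 : ((A : ℝ) + (B : ℝ)) * (r : ℝ) - ((a : ℝ) + (b : ℝ)) * (n : ℝ) =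
            (((A : ℝ) + α * (B : ℝ)) * (r : ℝ) - ((a : ℝ) + α * (b : ℝ)) * (n : ℝ)) +
              (1 - α) * ((B : ℝ) * (r : ℝ) - (b : ℝ) * (n : ℝ)) := by ring
        rw [e1]
        have e2 : (1 - α) * ((b : ℝ) * (n : ℝ)) ≤ (1 - α) * ((d : ℝ) * (n : ℝ) * ((n : ℝ) - 1)) := by
          apply mul_le_mul_of_nonneg_left _ hε.le
          have : (b : ℝ) * (n : ℝ) ≤ ((r : ℝ) * (d : ℝ)) * (n : ℝ) :=
            mul_le_mul_of_nonneg_right hb' (by linarith)
          have h2 : ((r : ℝ) * (d : ℝ)) * (n : ℝ) ≤ (((n : ℝ) - 1) * (d : ℝ)) * (n : ℝ) := by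
            apply mul_le_mul_of_nonneg_right _ (by linarith)
            exact mul_le_mul_of_nonneg_right hrn' hd'.le
          nlinarith
        have e3 : 0 ≤ (1 - α) * ((B : ℝ) * (r : ℝ)) := by positivity
        nlinarith
      have : (-1 : ℤ) < (A + B) * r - (a + b) * n := by exact_mod_cast hreal
      omega
    · -- `r = n`
      have hrn2 : r = n := le_antisymm hrn hge
      subst hrn2
      have hreal : (-1 : ℝ) < ((((A + B) - (a + b) : ℤ)) : ℝ) := by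
        push_cast
        have h' : ((a : ℝ) + α * (b : ℝ)) ≤ ((A : ℝ) + α * (B : ℝ)) :=
          le_of_mul_le_mul_right h hr'
        have e2 : (1 - α) * (b : ℝ) ≤ (1 - α) * ((r : ℝ) * (d : ℝ)) :=
          mul_le_mul_of_nonneg_left hb' hε.le
        have e4 : (1 - α) * ((r : ℝ) * (d : ℝ)) * ((r : ℝ) - 1) < 1 := by
          have : (1 - α) * ((r : ℝ) * (d : ℝ)) * ((r : ℝ) - 1) =
              (1 - α) * ((d : ℝ) * (r : ℝ) * ((r : ℝ) - 1)) := by ring
          rw [this]; exact heps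
        have e5 : (1 : ℝ) ≤ (r : ℝ) - 1 := by linarith
        have e6 : 0 ≤ (1 - α) * ((r : ℝ) * (d : ℝ)) := by positivity
        have e7 : (1 - α) * ((r : ℝ) * (d : ℝ)) < 1 := by nlinarith
        have e3 : 0 ≤ (1 - α) * (B : ℝ) := by positivity
        nlinarith
      have h1 : (-1 : ℤ) < (A + B) - (a + b) := by exact_mod_cast hreal
      have h2 : (0 : ℤ) ≤ (A + B) - (a + b) := by omega
      have : (A + B) * (r : ℤ) - (a + b) * (r : ℤ) = ((A + B) - (a + b)) * (r : ℤ) := by ring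
      rw [this]
      positivity
  have key' : ((0 : ℤ) : ℝ) ≤ (((A + B) * r - (a + b) * n : ℤ) : ℝ) := by exact_mod_cast key
  push_cast at key'
  linarith

theorem near_one_st {a A : ℤ} {b B r n d : ℕ} {α : ℝ} (hd : 0 < d) (hn : 2 ≤ n) (hr : 0 < r)
    (hrn : r < n) (hB : B ≤ n * d) (hα1 : α < 1)
    (hα : 1 - 1 / ((d : ℝ) * (n : ℝ) * ((n : ℝ) - 1)) < α)
    (h : ((a : ℝ) + 1 * (b : ℝ)) * (n : ℝ) < ((A : ℝ) + 1 * (B : ℝ)) * (r : ℝ)) :
    ((a : ℝ) + α * (b : ℝ)) * (n : ℝ) < ((A : ℝ) + α * (B : ℝ)) * (r : ℝ) := by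
  have heps := eps_bound hd hn hα
  have hε : 0 < 1 - α := by linarith
  have hd' : (0 : ℝ) < d := by exact_mod_cast hd
  have hn' : (2 : ℝ) ≤ n := by exact_mod_cast hn
  have hr' : (0 : ℝ) < r := by exact_mod_cast hr
  have hB' : (B : ℝ) ≤ (n : ℝ) * (d : ℝ) := by exact_mod_cast hB
  have hb0 : (0 : ℝ) ≤ b := by positivity
  have hrn' : (r : ℝ) ≤ (n : ℝ) - 1 := by
    have : r + 1 ≤ n := hrn
    have : ((r + 1 : ℕ) : ℝ) ≤ (n : ℝ) := by exact_mod_cast this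
    push_cast at this
    linarith
  have key : (1 : ℤ) ≤ (A + B) * r - (a + b) * n := by
    have : ((((a + b) * n : ℤ)) : ℝ) < (((A + B) * r : ℤ) : ℝ) := by
      push_cast; linarith
    have : (a + b) * (n : ℤ) < (A + B) * r := by exact_mod_cast this
    omega
  have key' : ((1 : ℤ) : ℝ) ≤ (((A + B) * r - (a + b) * n : ℤ) : ℝ) := by exact_mod_cast key
  push_cast at key'
  have e1 : ((A : ℝ) + α * (B : ℝ)) * (r : ℝ) - ((a : ℝ) + α * (b : ℝ)) * (n : ℝ) =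
      (((A : ℝ) + (B : ℝ)) * (r : ℝ) - ((a : ℝ) + (b : ℝ)) * (n : ℝ)) -
        (1 - α) * ((B : ℝ) * (r : ℝ) - (b : ℝ) * (n : ℝ)) := by ring
  have e2 : (1 - α) * ((B : ℝ) * (r : ℝ)) ≤ (1 - α) * ((d : ℝ) * (n : ℝ) * ((n : ℝ) - 1)) := by
    apply mul_le_mul_of_nonneg_left _ hε.le
    have h1 : (B : ℝ) * (r : ℝ) ≤ ((n : ℝ) * (d : ℝ)) * (r : ℝ) :=
      mul_le_mul_of_nonneg_right hB' hr'.le
    have h2 : ((n : ℝ) * (d : ℝ)) * (r : ℝ) ≤ ((n : ℝ) * (d : ℝ)) * ((n : ℝ) - 1) :=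
      mul_le_mul_of_nonneg_left hrn' (by positivity)
    nlinarith
  have e3 : 0 ≤ (1 - α) * ((b : ℝ) * (n : ℝ)) := by positivity
  nlinarith

end Arith


section Main

variable (k : Type u) [Field k] (X : Scheme.{u}) [X.Over (Spec (CommRingCat.of k))]
  [AlgebraicGeometry.IsIntegral X]

theorem finrank_sub_le (I : X.IdealSheafData) (d : ℕ) (hd : 0 < d)
    (hdegD : ∀ (G : X.Modules) (r : ℕ), FlatMod.IsFinLocFreeOfRank r G →
      Module.finrank k (ParSh.fibD X I G) = r * d)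
    {G : X.Modules} {r : ℕ} (hr : 0 < r) (hG : FlatMod.IsFinLocFreeOfRank r G)
    (S : Submodule k (ParSh.fibD X I G)) : Module.finrank k S ≤ r * d := by
  have h1 := hdegD G r hG
  haveI : Module.Finite k (ParSh.fibD X I G) :=
    Module.finite_of_finrank_pos (by rw [h1]; positivity)
  rw [← h1]
  exact Submodule.finrank_le S

/-- **S18568**. -/
theorem main18568 (I : X.IdealSheafData) (d : ℕ) (hd : 0 < d)
    (hdegD : ∀ (G : X.Modules) (r : ℕ), FlatMod.IsFinLocFreeOfRank r G →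
      Module.finrank k (ParSh.fibD X I G) = r * d)
    {E : X.Modules} (n : ℕ) (hn : 2 ≤ n) (hE : FlatMod.IsFinLocFreeOfRank n E)
    (F₁ : Submodule k (ParSh.fibD X I E))
    (α : ℝ) (hα1 : α < 1) (hα : 1 - 1 / ((d : ℝ) * (n : ℝ) * ((n : ℝ) - 1)) < α)
    (hss : ParSh.IsGPSemistable k X I α F₁ n) :
    ParSh.IsGPSemistable k X I 1 F₁ n := by
  intro G r i hi hr hG
  haveI := hi
  have hrn : r ≤ n := CurveSub.rank_le_of_mono i hG hE
  have h := hss G r i hi hr hG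
  unfold ParSh.gpDeg ParSh.gpWt at h ⊢
  exact near_one_ss hd hn hr hrn (finrank_sub_le k X I d hd hdegD hr hG _) hα1 hα h

/-- **S18569**. -/
theorem main18569 (I : X.IdealSheafData) (d : ℕ) (hd : 0 < d)
    (hdegD : ∀ (G : X.Modules) (r : ℕ), FlatMod.IsFinLocFreeOfRank r G →
      Module.finrank k (ParSh.fibD X I G) = r * d)
    {E : X.Modules} (n : ℕ) (hn : 2 ≤ n) (hE : FlatMod.IsFinLocFreeOfRank n E)
    (F₁ : Submodule k (ParSh.fibD X I E))
    (α : ℝ) (hα1 : α < 1) (hα : 1 - 1 / ((d : ℝ) * (n : ℝ) * ((n : ℝ) - 1)) < α)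
    (hst : ParSh.IsGPStable k X I 1 F₁ n) :
    ParSh.IsGPStable k X I α F₁ n := by
  intro G r i hi hr hrn hG
  have h := hst G r i hi hr hrn hG
  unfold ParSh.gpDeg ParSh.gpWt at h ⊢
  exact near_one_st hd hn hr hrn (finrank_sub_le k X I d hd hdegD (by omega) hE _) hα1 hα h

end Main

end Groth.Agent.Lib.GPNearH6
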