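import Mathlib
import Groth.Prelude
import Groth.Agent.Lib.GPBun3_helper6
import Groth.Agent.Lib.GPNear_helper6

/-!
# Generalized parabolic bundles: weights near one, coprime case (helper6)

`main18570`: for `n` and `deg E` coprime and `dim F₁` a multiple of `n`, `α`-semistability,
`α`-stability, `1`-semistability and `1`-stability are equivalent for `α` close to `1`.
APPEND-ONLY once landed.
-/

set_option autoImplicit false
universe u
open CategoryTheory CategoryTheory.Limits AlgebraicGeometry Opposite TopologicalSpace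

namespace Groth.Agent.Lib.GPBunH6

section Curve

variable (k : Type u) [Field k] (X : Scheme.{u}) [X.Over (Spec (CommRingCat.of k))]
  [IsIntegral X] [IsProper (X ↘ Spec (CommRingCat.of k))]

/-- stable ⇒ semistable for weights `0 ≤ α < 1` (given semistability fails only for `r' < n`) -/
theorem ss_of_st (hdim : topologicalKrullDim X = 1)
    (I : X.IdealSheafData) (hI : BlowUp.IsEffCartierIdeal I) (α : ℝ) (hα0 : 0 ≤ α) (hα1 : α ≤ 1)
    {E : X.Modules} (n : ℕ) (hE : FlatMod.IsFinLocFreeOfRank n E)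
    (F₁ : Submodule k (ParSh.fibD X I E)) (hst : ParSh.IsGPStable k X I α F₁ n) :
    ParSh.IsGPSemistable k X I α F₁ n := by
  haveI : Nonempty X := inferInstance
  intro G r i hi hr hG
  haveI := hi
  have hrn : r ≤ n := CurveSub.rank_le_of_mono i hG hE
  rcases lt_or_eq_of_le hrn with hlt | rfl
  · exact (hst G r i hi hr hlt hG).le
  · -- full rank
    have hpar : ParSh.IsGPHom k X I (ParSh.gpInduced k X I i F₁) F₁ i := by
      intro y hy
      obtain ⟨x, hx, rfl⟩ := Submodule.mem_map.mp hy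
      exact hx
    have hkey := finrank_le_of_isGPHom k X hdim I hI hG hE _ F₁ i hpar
    have hdeg := (VBCurve.deg_le_of_mono_same_rank k X hdim i hG hE).1
    have hkeyR : (Module.finrank k (ParSh.gpInduced k X I i F₁) : ℝ) ≤
        ((Curv2.deg k X E r : ℝ) - (Curv2.deg k X G r : ℝ)) + (Module.finrank k F₁ : ℝ) := by
      exact_mod_cast hkey
    have hdegR : (Curv2.deg k X G r : ℝ) ≤ (Curv2.deg k X E r : ℝ) := by exact_mod_cast hdeg
    have h1 := mul_le_mul_of_nonneg_left hkeyR hα0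
    have h2 : α * ((Curv2.deg k X E r : ℝ) - (Curv2.deg k X G r : ℝ)) ≤
        (Curv2.deg k X E r : ℝ) - (Curv2.deg k X G r : ℝ) := by nlinarith
    have hr' : (0 : ℝ) ≤ (r : ℝ) := Nat.cast_nonneg _
    unfold ParSh.gpDeg ParSh.gpWt
    apply mul_le_mul_of_nonneg_right _ hr'
    linarith

/-- `1`-semistable ⇒ `1`-stable in the coprime case -/
theorem st_of_ss_coprime (I : X.IdealSheafData)
    {E : X.Modules} (n : ℕ) (F₁ : Submodule k (ParSh.fibD X I E))
    (hcop : IsCoprime (n : ℤ) (Curv2.deg k X E n)) (a : ℕ) (ha : Module.finrank k F₁ = a * n)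
    (hss : ParSh.IsGPSemistable k X I 1 F₁ n) : ParSh.IsGPStable k X I 1 F₁ n := by
  intro G r i hi hr hrn hG
  have h := hss G r i hi hr hG
  refine lt_of_le_of_ne h ?_
  intro heq
  unfold ParSh.gpDeg ParSh.gpWt at heq
  rw [ha] at heq
  have heqZ : (Curv2.deg k X G r + (Module.finrank k (ParSh.gpInduced k X I i F₁) : ℤ)) * (n : ℤ) =
      (Curv2.deg k X E n + ((a * n : ℕ) : ℤ)) * (r : ℤ) := by
    have : (((Curv2.deg k X G r +
        (Module.finrank k (ParSh.gpInduced k X I i F₁) : ℤ)) * (n : ℤ) : ℤ) : ℝ) =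
        (((Curv2.deg k X E n + ((a * n : ℕ) : ℤ)) * (r : ℤ) : ℤ) : ℝ) := by
      push_cast
      push_cast at heq
      linarith
    exact_mod_cast this
  have hdvd : (n : ℤ) ∣ Curv2.deg k X E n * (r : ℤ) := by
    refine ⟨Curv2.deg k X G r + (Module.finrank k (ParSh.gpInduced k X I i F₁) : ℤ) -
      (a : ℤ) * (r : ℤ), ?_⟩
    push_cast at heqZ
    linarith
  have hdvd' : (n : ℤ) ∣ (r : ℤ) := hcop.dvd_of_dvd_mul_left hdvd
  have hle : (n : ℤ) ≤ (r : ℤ) := Int.le_of_dvd (by exact_mod_cast hr) hdvd'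
  omega

/-- **S18570** -/
theorem main18570 (hdim : topologicalKrullDim X = 1)
    (I : X.IdealSheafData) (hI : BlowUp.IsEffCartierIdeal I) (d : ℕ) (hd : 0 < d)
    (hdegD : ∀ (G : X.Modules) (r : ℕ), FlatMod.IsFinLocFreeOfRank r G →
      Module.finrank k (ParSh.fibD X I G) = r * d)
    {E : X.Modules} (n : ℕ) (hn : 2 ≤ n) (hE : FlatMod.IsFinLocFreeOfRank n E)
    (F₁ : Submodule k (ParSh.fibD X I E))
    (α : ℝ) (hα0 : 0 ≤ α) (hα1 : α < 1)
    (hα : 1 - 1 / ((d : ℝ) * (n : ℝ) * ((n : ℝ) - 1)) < α)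
    (hcop : IsCoprime (n : ℤ) (Curv2.deg k X E n)) (a : ℕ)
    (ha : Module.finrank k F₁ = a * n) :
    (ParSh.IsGPSemistable k X I α F₁ n ↔ ParSh.IsGPSemistable k X I 1 F₁ n) ∧
      (ParSh.IsGPStable k X I α F₁ n ↔ ParSh.IsGPSemistable k X I 1 F₁ n) ∧
      (ParSh.IsGPStable k X I 1 F₁ n ↔ ParSh.IsGPSemistable k X I 1 F₁ n) := by
  have h68 : ParSh.IsGPSemistable k X I α F₁ n → ParSh.IsGPSemistable k X I 1 F₁ n :=
    Groth.Agent.Lib.GPNearH6.main18568 k X I d hd hdegD n hn hE F₁ α hα1 hα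
  have h69 : ParSh.IsGPStable k X I 1 F₁ n → ParSh.IsGPStable k X I α F₁ n :=
    Groth.Agent.Lib.GPNearH6.main18569 k X I d hd hdegD n hn hE F₁ α hα1 hα
  have hA : ParSh.IsGPStable k X I α F₁ n → ParSh.IsGPSemistable k X I α F₁ n :=
    ss_of_st k X hdim I hI α hα0 hα1.le n hE F₁
  have hB : ParSh.IsGPStable k X I 1 F₁ n → ParSh.IsGPSemistable k X I 1 F₁ n :=
    ss_of_st k X hdim I hI 1 zero_le_one le_rfl n hE F₁
  have hC : ParSh.IsGPSemistable k X I 1 F₁ n → ParSh.IsGPStable k X I 1 F₁ n :=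
    st_of_ss_coprime k X I n F₁ hcop a ha
  exact ⟨⟨h68, fun h => hA (h69 (hC h))⟩, ⟨fun h => h68 (hA h), fun h => h69 (hC h)⟩, ⟨hB, hC⟩⟩

end Curve

end Groth.Agent.Lib.GPBunH6
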