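import Mathlib
import Groth.Prelude

/-!
# Geometric pointwise properties of fibres (helper8), I: flexible form, base change, localization
APPEND-ONLY once landed.
-/

set_option autoImplicit false
set_option linter.all false
set_option maxHeartbeats 1600000

universe u

open CategoryTheory AlgebraicGeometry CategoryTheory.Limits

namespace Groth.Agent.Lib.GPIH8

/-- a property of rings that descends along injective ring homomorphisms -/
structure DescInj (Pr : ∀ (R : Type u) [CommRing R], Prop) : Prop where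
  inj : ∀ {R S : Type u} [CommRing R] [CommRing S] (φ : R →+* S), Function.Injective φ → Pr S → Pr R

variable {Pr : ∀ (R : Type u) [CommRing R], Prop}

theorem DescInj.iso (h : DescInj Pr) {R S : Type u} [CommRing R] [CommRing S] (e : R ≃+* S)
    (hR : Pr R) : Pr S :=
  h.inj e.symm.toRingHom e.symm.injective hR

theorem descInj_isDomain : DescInj.{u} (fun R _ => IsDomain R) where
  inj φ hφ _ := hφ.isDomain φ

theorem descInj_isReduced : DescInj.{u} (fun R _ => IsReduced R) where
  inj φ hφ _ := isReduced_of_injective φ hφ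

/-- flexible form: the property holds at all points over `x` of all base changes of `f` to fields -/
def PG (Pr : ∀ (R : Type u) [CommRing R], Prop) {X S : Scheme.{u}} (f : X ⟶ S) (x : X) : Prop :=
  ∀ (K : Type u) [Field K] (s : Spec (CommRingCat.of K) ⟶ S) (w : ↥(pullback f s)),
    pullback.fst f s w = x → Pr ((pullback f s).presheaf.stalk w)

theorem stalk_of_iso (h : DescInj Pr) {W W' : Scheme.{u}} (e : W ⟶ W') [IsIso e] (w : W)
    (hP : Pr (W'.presheaf.stalk (e w))) : Pr (W.presheaf.stalk w) :=
  h.iso (asIso (e.stalkMap w)).commRingCatIsoToRingEquiv hP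

theorem stalk_of_isOpenImmersion (h : DescInj Pr) {W W' : Scheme.{u}} (e : W ⟶ W')
    [IsOpenImmersion e] (w : W) :
    Pr (W'.presheaf.stalk (e w)) ↔ Pr (W.presheaf.stalk w) :=
  ⟨fun hP => h.iso (asIso (e.stalkMap w)).commRingCatIsoToRingEquiv hP,
    fun hP => h.iso (asIso (e.stalkMap w)).commRingCatIsoToRingEquiv.symm hP⟩

theorem stalk_of_flat (h : DescInj Pr) {W W' : Scheme.{u}} (p : W ⟶ W') [Flat p] (w : W)
    (hP : Pr (W.presheaf.stalk w)) : Pr (W'.presheaf.stalk (p w)) := by
  have hflat : (p.stalkMap w).hom.Flat := Flat.stalkMap p w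
  letI : Algebra (W'.presheaf.stalk (p w)) (W.presheaf.stalk w) := (p.stalkMap w).hom.toAlgebra
  haveI : Module.Flat (W'.presheaf.stalk (p w)) (W.presheaf.stalk w) := hflat
  haveI : IsLocalHom (algebraMap (W'.presheaf.stalk (p w)) (W.presheaf.stalk w)) :=
    inferInstanceAs (IsLocalHom (p.stalkMap w).hom)
  haveI : Module.FaithfullyFlat (W'.presheaf.stalk (p w)) (W.presheaf.stalk w) :=
    Module.FaithfullyFlat.of_flat_of_isLocalHom
  have hinj : Function.Injective (p.stalkMap w).hom :=
    FaithfulSMul.algebraMap_injective (W'.presheaf.stalk (p w)) (W.presheaf.stalk w)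
  exact h.inj _ hinj hP

theorem stalk_congr {W : Scheme.{u}} {w w' : W} (hw : w = w')
    (hP : Pr (W.presheaf.stalk w)) : Pr (W.presheaf.stalk w') := by
  subst hw; exact hP

/-- the property at points of arbitrary pullback squares -/
theorem PG.of_isPullback (h : DescInj Pr) {X S : Scheme.{u}} {f : X ⟶ S} {x : X} (hx : PG Pr f x)
    {K : Type u} [Field K] {s : Spec (CommRingCat.of K) ⟶ S} {W : Scheme.{u}} {a : W ⟶ X}
    {b : W ⟶ Spec (CommRingCat.of K)} (sq : IsPullback a b f s) (w : W) (hw : a w = x) :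
    Pr (W.presheaf.stalk w) := by
  apply stalk_of_iso h sq.isoPullback.hom w
  apply hx K s
  rw [← Scheme.Hom.comp_apply, sq.isoPullback_hom_fst, hw]

theorem flat_of_fields {K K' : Type u} [Field K] [Field K']
    (r : Spec (CommRingCat.of K') ⟶ Spec (CommRingCat.of K)) : Flat r := by
  rw [← Spec.map_preimage r, HasRingHomProperty.Spec_iff (P := @Flat)]
  letI : Algebra K K' := (Spec.preimage r).hom.toAlgebra
  show Module.Flat K K'
  infer_instance

/-- invariance under base change, easy direction -/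
theorem PG.of_bc (h : DescInj Pr) {X S X' S' : Scheme.{u}} {f : X ⟶ S} {f' : X' ⟶ S'}
    {g' : X' ⟶ X} {g : S' ⟶ S} (hc : IsPullback g' f' f g) (x' : X')
    (hx : PG Pr f (g' x')) : PG Pr f' x' := by
  intro K _ s' w hw
  have sq := (IsPullback.of_hasPullback f' s').paste_horiz hc
  refine hx.of_isPullback h sq w ?_
  rw [Scheme.Hom.comp_apply, hw]

/-- invariance under base change, hard direction (compositum of fields) -/
theorem PG.to_bc (h : DescInj Pr) {X S X' S' : Scheme.{u}} {f : X ⟶ S} {f' : X' ⟶ S'}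
    {g' : X' ⟶ X} {g : S' ⟶ S} (hc : IsPullback g' f' f g) (x' : X')
    (hx : PG Pr f' x') : PG Pr f (g' x') := by
  intro K _ s w hw
  obtain ⟨q, hq1, hq2⟩ := Scheme.Pullback.exists_preimage_pullback
    (f := pullback.fst f s) (g := g') w x' hw
  obtain ⟨ρ, hρ⟩ : ∃ ρ : Spec ((pullback (pullback.fst f s) g').residueField q) ⟶
      pullback (pullback.fst f s) g', ρ = (pullback (pullback.fst f s) g').fromSpecResidueField q :=
    ⟨_, rfl⟩
  obtain ⟨r, hr⟩ : ∃ r : Spec ((pullback (pullback.fst f s) g').residueField q) ⟶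
      Spec (CommRingCat.of K), r = ρ ≫ pullback.fst (pullback.fst f s) g' ≫ pullback.snd f s :=
    ⟨_, rfl⟩
  obtain ⟨s', hs'⟩ : ∃ s' : Spec ((pullback (pullback.fst f s) g').residueField q) ⟶ S',
      s' = ρ ≫ pullback.snd (pullback.fst f s) g' ≫ f' := ⟨_, rfl⟩
  have hrs : r ≫ s = s' ≫ g := by
    rw [hr, hs']
    simp only [Category.assoc]
    rw [← pullback.condition (f := f) (g := s), ← hc.w, ← Category.assoc
      (pullback.fst (pullback.fst f s) g'), pullback.condition, Category.assoc]
  obtain ⟨σ, hσ1, hσ2⟩ : ∃ σ : Spec ((pullback (pullback.fst f s) g').residueField q) ⟶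
      pullback (pullback.snd f s) r,
      σ ≫ pullback.fst (pullback.snd f s) r = ρ ≫ pullback.fst (pullback.fst f s) g' ∧
      σ ≫ pullback.snd (pullback.snd f s) r = 𝟙 _ :=
    ⟨pullback.lift (ρ ≫ pullback.fst (pullback.fst f s) g') (𝟙 _) (by
      rw [Category.id_comp, hr, Category.assoc]), pullback.lift_fst _ _ _, pullback.lift_snd _ _ _⟩
  obtain ⟨w', hw'⟩ : ∃ w' : ↥(pullback (pullback.snd f s) r),
      w' = σ (IsLocalRing.closedPoint ((pullback (pullback.fst f s) g').residueField q)) := ⟨_, rfl⟩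
  have hw'1 : pullback.fst (pullback.snd f s) r w' = w := by
    rw [hw', ← Scheme.Hom.comp_apply, hσ1, Scheme.Hom.comp_apply, hρ,
      Scheme.fromSpecResidueField_apply, hq1]
  have hcomm : (pullback.fst (pullback.snd f s) r ≫ pullback.fst f s) ≫ f =
      (pullback.snd (pullback.snd f s) r ≫ s') ≫ g := by
    rw [Category.assoc, Category.assoc, ← hrs, pullback.condition (f := f) (g := s),
      ← Category.assoc, pullback.condition, Category.assoc]
  obtain ⟨hl, hl1, hl2⟩ : ∃ hl : pullback (pullback.snd f s) r ⟶ X',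
      hl ≫ g' = pullback.fst (pullback.snd f s) r ≫ pullback.fst f s ∧
      hl ≫ f' = pullback.snd (pullback.snd f s) r ≫ s' :=
    ⟨hc.lift _ _ hcomm, hc.lift_fst _ _ _, hc.lift_snd _ _ _⟩
  have big : IsPullback (pullback.fst (pullback.snd f s) r ≫ pullback.fst f s)
      (pullback.snd (pullback.snd f s) r) f (r ≫ s) :=
    (IsPullback.of_hasPullback (pullback.snd f s) r).paste_horiz (IsPullback.of_hasPullback f s)
  have sqW : IsPullback hl (pullback.snd (pullback.snd f s) r) f' s' := by
    apply IsPullback.of_right _ hl2 hc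
    rw [hl1, ← hrs]
    exact big
  have hσ : σ ≫ hl = ρ ≫ pullback.snd (pullback.fst f s) g' := by
    apply hc.hom_ext
    · rw [Category.assoc, hl1, ← Category.assoc, hσ1, Category.assoc,
        Category.assoc, pullback.condition]
    · rw [Category.assoc, hl2, ← Category.assoc, hσ2, Category.id_comp, hs',
        Category.assoc]
  have hw'2 : hl w' = x' := by
    rw [hw', ← Scheme.Hom.comp_apply, hσ, Scheme.Hom.comp_apply, hρ,
      Scheme.fromSpecResidueField_apply, hq2]
  have hP := hx.of_isPullback h sqW w' hw'2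
  haveI : Flat r := flat_of_fields r
  haveI : Flat (pullback.fst (pullback.snd f s) r) := MorphismProperty.pullback_fst _ _ inferInstance
  exact stalk_congr hw'1 (stalk_of_flat h (pullback.fst (pullback.snd f s) r) w' hP)

theorem PG.bc_iff (h : DescInj Pr) {X S X' S' : Scheme.{u}} {f : X ⟶ S} {f' : X' ⟶ S'}
    {g' : X' ⟶ X} {g : S' ⟶ S} (hc : IsPullback g' f' f g) (x' : X') :
    PG Pr f' x' ↔ PG Pr f (g' x') :=
  ⟨PG.to_bc h hc x', PG.of_bc h hc x'⟩

/-- locality on the source -/
theorem PG.loc_iff (h : DescInj Pr) {X S U : Scheme.{u}} (f : X ⟶ S) (j : U ⟶ X)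
    [IsOpenImmersion j] (u : U) : PG Pr (j ≫ f) u ↔ PG Pr f (j u) := by
  constructor
  · intro hu K _ s w hw
    have hmem : w ∈ Set.range (pullback.fst (pullback.fst f s) j) := by
      rw [Scheme.Pullback.range_fst]
      exact ⟨u, hw.symm⟩
    obtain ⟨wU, hwU⟩ := hmem
    have hu' : pullback.snd (pullback.fst f s) j wU = u := by
      apply j.injective
      rw [← Scheme.Hom.comp_apply, ← pullback.condition, Scheme.Hom.comp_apply, hwU, hw]
    have sq : IsPullback (pullback.snd (pullback.fst f s) j)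
        (pullback.fst (pullback.fst f s) j ≫ pullback.snd f s) (j ≫ f) s :=
      (IsPullback.of_hasPullback (pullback.fst f s) j).flip.paste_vert
        (IsPullback.of_hasPullback f s)
    have hP := hu.of_isPullback h sq wU hu'
    exact stalk_congr hwU ((stalk_of_isOpenImmersion h (pullback.fst (pullback.fst f s) j) wU).2 hP)
  · intro hx K _ s w hw
    obtain ⟨ι, hι1, hι2⟩ : ∃ ι : pullback (j ≫ f) s ⟶ pullback f s,
        ι ≫ pullback.fst f s = pullback.fst (j ≫ f) s ≫ j ∧
        ι ≫ pullback.snd f s = pullback.snd (j ≫ f) s :=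
      ⟨pullback.lift (pullback.fst (j ≫ f) s ≫ j) (pullback.snd (j ≫ f) s) (by
        rw [Category.assoc, pullback.condition]), pullback.lift_fst _ _ _, pullback.lift_snd _ _ _⟩
    have sq : IsPullback (pullback.fst (j ≫ f) s) ι j (pullback.fst f s) := by
      apply IsPullback.of_bot _ hι1.symm (IsPullback.of_hasPullback f s)
      rw [hι2]
      exact IsPullback.of_hasPullback (j ≫ f) s
    haveI : IsOpenImmersion ι := MorphismProperty.of_isPullback (P := @IsOpenImmersion) sq
      inferInstance
    have hP := hx K s (ι w) (by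
      rw [← Scheme.Hom.comp_apply, hι1, Scheme.Hom.comp_apply, hw])
    exact (stalk_of_isOpenImmersion h ι w).1 hP

/-- the form used in the prelude, for schemes over a field -/
def GeomAtP (Pr : ∀ (R : Type u) [CommRing R], Prop) {k : Type u} [Field k] {X : Scheme.{u}}
    (f : X ⟶ Spec (CommRingCat.of k)) (x : X) : Prop :=
  ∀ (K : Type u) [Field K] [Algebra k K] (x' : ↥(FBase.bc f K)), (FBase.bcπ f K).base x' = x →
    Pr ((FBase.bc f K).presheaf.stalk x')

theorem isGeomPtIntegralAt_iff {k : Type u} [Field k] {X : Scheme.{u}}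
    (f : X ⟶ Spec (CommRingCat.of k)) (x : X) :
    FBase.IsGeomPtIntegralAt f x ↔ GeomAtP (fun R _ => IsDomain R) f x := Iff.rfl

theorem isGeomReducedAt_iff {k : Type u} [Field k] {X : Scheme.{u}}
    (f : X ⟶ Spec (CommRingCat.of k)) (x : X) :
    FBase.IsGeomReducedAt f x ↔ GeomAtP (fun R _ => IsReduced R) f x := Iff.rfl

theorem geomAtP_iff_PG {k : Type u} [Field k] {X : Scheme.{u}}
    (f : X ⟶ Spec (CommRingCat.of k)) (x : X) : GeomAtP Pr f x ↔ PG Pr f x := by
  constructor
  · intro hx K _ s w hw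
    obtain ⟨φ, rfl⟩ : ∃ φ : CommRingCat.of k ⟶ CommRingCat.of K, Spec.map φ = s :=
      ⟨Spec.preimage s, Spec.map_preimage s⟩
    letI : Algebra k K := φ.hom.toAlgebra
    exact hx K w hw
  · intro hx K _ _ x' hx'
    exact hx K _ x' hx'

/-- the fibrewise property in prelude form agrees with the flexible form -/
theorem fiber_iff_PG (h : DescInj Pr) {X S : Scheme.{u}} (f : X ⟶ S) (x : X) :
    GeomAtP Pr (f.fiberToSpecResidueField (f x)) (f.asFiber x) ↔ PG Pr f x := by
  refine (geomAtP_iff_PG _ _).trans ?_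
  have sq : IsPullback (f.fiberι (f x)) (f.fiberToSpecResidueField (f x)) f
      (S.fromSpecResidueField (f x)) := IsPullback.of_hasPullback _ _
  refine (PG.bc_iff h sq (f.asFiber x)).trans ?_
  rw [Scheme.Hom.fiberι_asFiber]

theorem fiber_iff_PG' (h : DescInj Pr) {X S : Scheme.{u}} (f : X ⟶ S) (s : S) (z : f.fiber s) :
    GeomAtP Pr (f.fiberToSpecResidueField s) z ↔ PG Pr f (f.fiberι s z) := by
  refine (geomAtP_iff_PG _ _).trans ?_
  have sq : IsPullback (f.fiberι s) (f.fiberToSpecResidueField s) f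
      (S.fromSpecResidueField s) := IsPullback.of_hasPullback _ _
  exact PG.bc_iff h sq z

end Groth.Agent.Lib.GPIH8
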