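import Mathlib
import Groth.Prelude
import Groth.Agent.Lib.GPI1_helper8
import Groth.Agent.Lib.GeomConnF_helper8
import Groth.Agent.Lib.GeomConnM_helper8
import Groth.Agent.Lib.BrEtNbhd2_helper3

/-!
# Geometric pointwise integrality (helper8), II: the criterion through irreducible components
APPEND-ONLY once landed.
-/

set_option autoImplicit false
set_option linter.all false
set_option maxHeartbeats 1600000

universe u

open CategoryTheory AlgebraicGeometry CategoryTheory.Limits

namespace Groth.Agent.Lib.GPIH8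

/-- a reduced nontrivial ring with at most one minimal prime is a domain -/
theorem isDomain_of_isReduced_of_encard_le_one (R : Type u) [CommRing R] [Nontrivial R] [IsReduced R]
    (h : (minimalPrimes R).encard ≤ 1) : IsDomain R := by
  obtain ⟨⟨p, hp⟩⟩ := Ideal.nonempty_minimalPrimes (I := (⊥ : Ideal R)) bot_ne_top
  have hp : p ∈ minimalPrimes R := hp
  have hsing : minimalPrimes R = {p} := by
    rw [Set.encard_le_one_iff] at h
    ext q
    exact ⟨fun hq => h q p hq hp, fun hq => hq ▸ hp⟩
  have hnil : nilradical R = p := by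
    have := Ideal.sInf_minimalPrimes (I := (⊥ : Ideal R))
    rw [show (⊥ : Ideal R).minimalPrimes = minimalPrimes R from rfl, hsing, sInf_singleton] at this
    exact this.symm
  have hbot : p = ⊥ := by rw [← hnil]; exact nilradical_eq_zero R
  haveI : (⊥ : Ideal R).IsPrime := hbot ▸ hp.1.1
  exact IsDomain.of_bot_isPrime R

/-- a local ring of a scheme is a domain iff it is reduced and the point lies on a single
irreducible component -/
theorem stalk_isDomain_iff (W : Scheme.{u}) (w : W) :
    IsDomain (W.presheaf.stalk w) ↔ (IsReduced (W.presheaf.stalk w) ∧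
      ∀ Z₁ ∈ irreducibleComponents W, ∀ Z₂ ∈ irreducibleComponents W, w ∈ Z₁ → w ∈ Z₂ → Z₁ = Z₂) := by
  have key := Groth.Agent.Lib.BrEtNbhdH3.encard_components_through_eq W w
  constructor
  · intro hd
    refine ⟨inferInstance, ?_⟩
    have h1 : {Z : Set W | Z ∈ irreducibleComponents W ∧ w ∈ Z}.encard ≤ 1 := by
      rw [key, IsDomain.minimalPrimes_eq_singleton_bot, Set.encard_singleton]
    rw [Set.encard_le_one_iff] at h1
    intro Z₁ h₁ Z₂ h₂ hw₁ hw₂
    exact h1 Z₁ Z₂ ⟨h₁, hw₁⟩ ⟨h₂, hw₂⟩
  · rintro ⟨hred, huniq⟩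
    haveI := hred
    apply isDomain_of_isReduced_of_encard_le_one
    rw [← key, Set.encard_le_one_iff]
    rintro Z₁ Z₂ ⟨h₁, hw₁⟩ ⟨h₂, hw₂⟩
    exact huniq Z₁ h₁ Z₂ h₂ hw₁ hw₂

open GeomConnH8 in
/-- **Criterion**: over a point `t` of the base above which the closed sets `Z j` induce the
irreducible components of all geometric fibres, geometric pointwise integrality at `x` means
geometric reducedness at `x` and `x` lying on exactly one `Z j`. -/
theorem PG_isDomain_iff_of_structure {X S : Scheme.{u}} (f : X ⟶ S) {n : ℕ} (Z : Fin n → Set X)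
    (hZ : ∀ j, IsClosed (Z j)) (t : S)
    (hstr : ∀ (K : Type u) [Field K] (s : Spec (CommRingCat.of K) ⟶ S),
      s (IsLocalRing.closedPoint K) = t →
      (∀ j, IsIrreducible ((pullback.fst f s) ⁻¹' Z j)) ∧
      (⋃ j, (pullback.fst f s) ⁻¹' Z j = Set.univ) ∧
      (∀ i j, i ≠ j → ¬ ((pullback.fst f s) ⁻¹' Z i ⊆ (pullback.fst f s) ⁻¹' Z j)))
    (x : X) (hx : f x = t) :
    PG (fun R _ => IsDomain R) f x ↔
      (PG (fun R _ => IsReduced R) f x ∧ ∀ i j, x ∈ Z i → x ∈ Z j → i = j) := by
  have hcomp : ∀ (K : Type u) [Field K] (s : Spec (CommRingCat.of K) ⟶ S),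
      s (IsLocalRing.closedPoint K) = t →
      irreducibleComponents ↥(pullback f s) = Set.range (fun j => (pullback.fst f s) ⁻¹' Z j) := by
    intro K _ s hs
    obtain ⟨h1, h2, h3⟩ := hstr K s hs
    exact irreducibleComponents_eq_range _
      (fun j => (hZ j).preimage (pullback.fst f s).continuous) h1 h2 h3
  constructor
  · intro hd
    refine ⟨fun K _ s w hw => ?_, ?_⟩
    · haveI : IsDomain ((pullback f s).presheaf.stalk w) := hd K s w hw
      infer_instance
    · intro i j hi hj
      obtain ⟨K₀, _, s₀, hs⟩ := exists_field_point S t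
      obtain ⟨w, hw⟩ := exists_fst_eq f s₀ x (by rw [hs, hx])
      have hdw := hd _ s₀ w hw
      obtain ⟨-, huniq⟩ := (stalk_isDomain_iff _ w).1 hdw
      have hc := hcomp _ s₀ hs
      have heq := huniq _ (by rw [hc]; exact ⟨i, rfl⟩) _ (by rw [hc]; exact ⟨j, rfl⟩)
        (show pullback.fst f s₀ w ∈ Z i by rw [hw]; exact hi)
        (show pullback.fst f s₀ w ∈ Z j by rw [hw]; exact hj)
      by_contra hij
      exact (hstr _ s₀ hs).2.2 i j hij heq.le
  · rintro ⟨hred, huniq⟩ K _ s w hw
    have hs : s (IsLocalRing.closedPoint K) = t := by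
      have := fst_mem_fiber f s w
      rw [Set.mem_preimage, Set.mem_singleton_iff, hw, hx] at this
      exact this.symm
    rw [stalk_isDomain_iff]
    refine ⟨hred K s w hw, ?_⟩
    rw [hcomp K s hs]
    rintro _ ⟨i, rfl⟩ _ ⟨j, rfl⟩ hwi hwj
    have hi : x ∈ Z i := by rw [← hw]; exact hwi
    have hj : x ∈ Z j := by rw [← hw]; exact hwj
    rw [huniq i j hi hj]

open GeomConnH8 in
/-- **Criterion, single field point**: if some base change `W` of `f` to a field has geometrically
irreducible irreducible components, then geometric pointwise integrality at `x` follows from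
geometric reducedness and uniqueness of the component of `W` through a point over `x`. -/
theorem PG_isDomain_of_geomIrrComps {X S : Scheme.{u}} (f : X ⟶ S) (x : X) {K : Type u} [Field K]
    (s : Spec (CommRingCat.of K) ⟶ S) {W : Scheme.{u}} {a : W ⟶ X}
    {b : W ⟶ Spec (CommRingCat.of K)} (sq : IsPullback a b f s)
    (hfin : (irreducibleComponents ↥W).Finite) (hb : GeomIrrComps b) (w : W) (hw : a w = x)
    (hred : PG (fun R _ => IsReduced R) f x)
    (huniq : ∀ Z₁ ∈ irreducibleComponents ↥W, ∀ Z₂ ∈ irreducibleComponents ↥W,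
      w ∈ Z₁ → w ∈ Z₂ → Z₁ = Z₂) :
    PG (fun R _ => IsDomain R) f x := by
  rw [← hw]
  apply (PG.bc_iff descInj_isDomain sq w).1
  obtain ⟨n, e, he⟩ := hfin.fin_embedding
  have hmem : ∀ i, (e i : Set ↥W) ∈ irreducibleComponents ↥W := by
    intro i
    rw [← he]
    exact Set.mem_range_self i
  have hcl : ∀ i, IsClosed (e i) := fun i => isClosed_of_mem_irreducibleComponents _ (hmem i)
  have hcov : ⋃ i, e i = Set.univ := by
    rw [← sUnion_irreducibleComponents (X := ↥W), ← he, Set.sUnion_range]
  have hred' : PG (fun R _ => IsReduced R) b w :=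
    (PG.bc_iff descInj_isReduced sq w).2 (hw ▸ hred)
  refine (PG_isDomain_iff_of_structure b (fun j => e j) hcl (b w) ?_ w rfl).2
    ⟨hred', fun i j hi hj => e.injective (huniq _ (hmem i) _ (hmem j) hi hj)⟩
  intro K₂ _ r _
  haveI : Surjective r := ⟨fun x => ⟨IsLocalRing.closedPoint K₂, Subsingleton.elim _ _⟩⟩
  refine ⟨fun j => hb K₂ r (e j) (hmem j), ?_, ?_⟩
  · rw [← Set.preimage_iUnion, hcov, Set.preimage_univ]
  · intro i j hij hsub
    apply hij
    apply e.injective
    have h1 : (e i : Set ↥W) ⊆ e j := by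
      intro z hz
      obtain ⟨z', rfl⟩ := (pullback.fst b r).surjective z
      exact hsub hz
    exact le_antisymm h1 ((hmem i).2 (hmem j).1 h1)

end Groth.Agent.Lib.GPIH8
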