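import Mathlib
import Groth.Prelude
import Groth.Agent.Lib.GPI2_helper8
import Groth.Agent.Lib.FibGRed3_helper5
import Groth.Agent.Lib.FibCons2_helper8
import Groth.Agent.Lib.FibCons3_helper8
import Groth.Agent.Lib.FibRk7_helper5
import Groth.Agent.Lib.ConstrNoeth_lead

/-!
# Geometric pointwise integrality (helper8), III: constructibility
APPEND-ONLY once landed.
-/

set_option autoImplicit false
set_option linter.all false
set_option maxHeartbeats 1600000

universe u

open CategoryTheory AlgebraicGeometry CategoryTheory.Limits Topology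

namespace Groth.Agent.Lib.GPIH8

/-- geometric reducedness of the fibre at a point is a fibrewise property -/
theorem isFibrewise_geomRed :
    Groth.Agent.Lib.FibConsH8.IsFibrewise.{u} (fun {X S} f x => PG (fun R _ => IsReduced R) f x) where
  bc f _ f' g' g hc x' := PG.bc_iff descInj_isReduced hc x'
  loc f _ j _ u := PG.loc_iff descInj_isReduced f j u
  isOpen f _ _ := by
    have := Groth.Agent.Lib.FibGRedH5.isOpen_geomReducedAt f
    convert this using 1
    ext x
    exact (fiber_iff_PG descInj_isReduced f x).symm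

open GeomConnH8 Groth.Agent.Lib.ConstrNoeth_lead in
/-- **Generic constancy** of geometric pointwise integrality along irreducible closed subsets. -/
theorem genConst_isDomain {X T : Scheme.{u}} (g : X ⟶ T) [IsIntegral T] [IsNoetherian T]
    [LocallyOfFinitePresentation g] [QuasiCompact g] (ζ : X) (hζ : g ζ = genericPoint T) :
    ∃ O : Set X, IsOpen O ∧ ζ ∈ O ∧
      ((O ∩ closure {ζ} ⊆ {x | PG (fun R _ => IsDomain R) g x}) ∨
       (O ∩ closure {ζ} ⊆ {x | PG (fun R _ => IsDomain R) g x}ᶜ)) := by
  classical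
  obtain ⟨A', _, _, γ, hγ, n, Z, hgen, hZc, hZcov, hZirr, hZnest⟩ := exists_decomposition g
  haveI := hγ
  haveI : LocallyOfFiniteType (pullback.snd g γ) := MorphismProperty.pullback_snd _ _ inferInstance
  haveI : QuasiCompact (pullback.snd g γ) := MorphismProperty.pullback_snd _ _ inferInstance
  obtain ⟨V', hV'η, hV'⟩ := exists_open_structure' (pullback.snd g γ) Z hZc hZcov hZirr hZnest
  -- Noetherian-ness
  haveI : IsLocallyNoetherian X := LocallyOfFiniteType.isLocallyNoetherian g
  haveI : CompactSpace X := QuasiCompact.compactSpace_of_compactSpace g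
  haveI : IsNoetherian X := {}
  haveI : IsLocallyNoetherian (Spec (CommRingCat.of A')) :=
    LocallyOfFiniteType.isLocallyNoetherian γ
  haveI : IsNoetherian (Spec (CommRingCat.of A')) := {}
  haveI : IsLocallyNoetherian (pullback g γ) :=
    LocallyOfFiniteType.isLocallyNoetherian (pullback.snd g γ)
  haveI : CompactSpace ↥(pullback g γ) :=
    QuasiCompact.compactSpace_of_compactSpace (pullback.snd g γ)
  haveI : IsNoetherian (pullback g γ) := {}
  haveI : LocallyOfFinitePresentation γ :=
    LocallyOfFinitePresentation.iff_locallyOfFiniteType.mpr inferInstance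
  -- constructible pieces upstairs
  have hGR : IsConstructible {x' : ↥(pullback g γ) |
      PG (fun R _ => IsReduced R) (pullback.snd g γ) x'} :=
    (Groth.Agent.Lib.FibConsH8.isLocallyConstructible isFibrewise_geomRed
      (pullback.snd g γ)).isConstructible
  have hOZ : IsConstructible {x' : ↥(pullback g γ) | ∀ i j, x' ∈ Z i → x' ∈ Z j → i = j} := by
    have : {x' : ↥(pullback g γ) | ∀ i j, x' ∈ Z i → x' ∈ Z j → i = j} =
        ⋂ i, ⋂ j, {x' | x' ∈ Z i → x' ∈ Z j → i = j} := by
      ext x'; simp only [Set.mem_setOf_eq, Set.mem_iInter]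
    rw [this]
    refine IsConstructible.iInter (fun i => IsConstructible.iInter (fun j => ?_))
    by_cases hij : i = j
    · have : {x' : ↥(pullback g γ) | x' ∈ Z i → x' ∈ Z j → i = j} = Set.univ := by
        ext x'; simp [hij]
      rw [this]; exact IsConstructible.univ
    · have : {x' : ↥(pullback g γ) | x' ∈ Z i → x' ∈ Z j → i = j} = (Z i ∩ Z j)ᶜ := by
        ext x'
        simp only [Set.mem_setOf_eq, Set.mem_compl_iff, Set.mem_inter_iff, not_and]
        exact ⟨fun h hi hj => hij (h hi hj), fun h hi hj => absurd hj (h hi)⟩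
      rw [this]
      exact (isConstructible_of_isClosed ((hZc i).inter (hZc j))).compl
  have hΩ : IsConstructible ((pullback.snd g γ) ⁻¹' (V' : Set ↥(Spec (CommRingCat.of A')))) :=
    isConstructible_of_isOpen (V'.2.preimage (pullback.snd g γ).continuous)
  obtain ⟨C', hC'def⟩ : ∃ C' : Set ↥(pullback g γ), C' =
      ({x' | PG (fun R _ => IsReduced R) (pullback.snd g γ) x'} ∩
        {x' | ∀ i j, x' ∈ Z i → x' ∈ Z j → i = j}) ∩
        (pullback.snd g γ) ⁻¹' (V' : Set ↥(Spec (CommRingCat.of A'))) := ⟨_, rfl⟩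
  have hC' : IsConstructible C' := by rw [hC'def]; exact (hGR.inter hOZ).inter hΩ
  obtain ⟨D', hD'def⟩ : ∃ D' : Set ↥(pullback g γ), D' =
      ((pullback.snd g γ) ⁻¹' (V' : Set ↥(Spec (CommRingCat.of A')))) \ C' := ⟨_, rfl⟩
  have hD' : IsConstructible D' := by rw [hD'def]; exact hΩ.sdiff hC'
  -- the criterion upstairs
  have k1 : ∀ x' : ↥(pullback g γ), pullback.snd g γ x' ∈ V' →
      (PG (fun R _ => IsDomain R) (pullback.snd g γ) x' ↔ x' ∈ C') := by
    intro x' hx'
    rw [hC'def]
    have := PG_isDomain_iff_of_structure (pullback.snd g γ) Z hZc (pullback.snd g γ x')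
      (fun K _ s hs => by
        obtain ⟨h1, h2, -, h4⟩ := hV' K s (by rw [hs]; exact hx')
        exact ⟨h1, h2, h4⟩) x' rfl
    rw [this]
    exact ⟨fun h => ⟨⟨h.1, h.2⟩, hx'⟩, fun h => ⟨h.1.1, h.1.2⟩⟩
  have k2 : ∀ x' : ↥(pullback g γ), PG (fun R _ => IsDomain R) (pullback.snd g γ) x' ↔
      PG (fun R _ => IsDomain R) g (pullback.fst g γ x') :=
    fun x' => PG.bc_iff descInj_isDomain (IsPullback.of_hasPullback g γ) x'
  -- images downstairs
  have hC₁ : IsConstructible ((pullback.fst g γ) '' C') :=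
    (pullback.fst g γ).isConstructible_image hC'
  have hC₂ : IsConstructible ((pullback.fst g γ) '' D') :=
    (pullback.fst g γ).isConstructible_image hD'
  have hsub₁ : (pullback.fst g γ) '' C' ⊆ {x | PG (fun R _ => IsDomain R) g x} := by
    rintro _ ⟨x', hx', rfl⟩
    have hV : pullback.snd g γ x' ∈ V' := by rw [hC'def] at hx'; exact hx'.2
    exact (k2 x').1 ((k1 x' hV).2 hx')
  have hsub₂ : (pullback.fst g γ) '' D' ⊆ {x | PG (fun R _ => IsDomain R) g x}ᶜ := by
    rintro _ ⟨x', hx', rfl⟩ hP
    rw [hD'def] at hx'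
    exact hx'.2 ((k1 x' hx'.1).1 ((k2 x').2 hP))
  obtain ⟨x', hx'1, hx'2⟩ := Scheme.Pullback.exists_preimage_pullback (f := g) (g := γ) ζ
    (genericPoint ↥(Spec (CommRingCat.of A'))) (hζ.trans hgen.symm)
  have hx'V : pullback.snd g γ x' ∈ V' := by rw [hx'2]; exact hV'η
  have hirr : IsIrreducible (closure ({ζ} : Set X)) := isIrreducible_singleton.closure
  have hζU : ∀ U : Set X, IsOpen U → (U ∩ closure {ζ}).Nonempty → ζ ∈ U := by
    rintro U hU ⟨y, hyU, hy⟩
    exact (specializes_iff_mem_closure.2 hy).mem_open hU hyU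
  by_cases hx'C : x' ∈ C'
  · have hζC : ζ ∈ (pullback.fst g γ) '' C' := ⟨x', hx'C, hx'1⟩
    obtain ⟨U, hU, hne, hcase⟩ := exists_open_inter_subset_or hC₁ hirr
    have hζU' := hζU U hU hne
    refine ⟨U, hU, hζU', Or.inl ?_⟩
    rcases hcase with h | h
    · exact h.trans hsub₁
    · exact absurd hζC (h ⟨hζU', subset_closure rfl⟩)
  · have hζD : ζ ∈ (pullback.fst g γ) '' D' := ⟨x', by rw [hD'def]; exact ⟨hx'V, hx'C⟩, hx'1⟩
    obtain ⟨U, hU, hne, hcase⟩ := exists_open_inter_subset_or hC₂ hirr
    have hζU' := hζU U hU hne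
    refine ⟨U, hU, hζU', Or.inr ?_⟩
    rcases hcase with h | h
    · exact h.trans hsub₂
    · exact absurd hζD (h ⟨hζU', subset_closure rfl⟩)

/-- geometric pointwise integrality of the fibre at a point is generically constant -/
theorem isFibrewiseGC_geomPtInt :
    Groth.Agent.Lib.FibRkH5.IsFibrewiseGC.{u}
      (fun {X S} f x => PG (fun R _ => IsDomain R) f x) where
  bc f _ f' g' g hc x' := PG.bc_iff descInj_isDomain hc x'
  loc f _ j _ u := PG.loc_iff descInj_isDomain f j u
  genConst g _ _ _ _ _ ζ hζ := genConst_isDomain g ζ hζ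

theorem main3452 {X S : Scheme.{u}} (f : X ⟶ S) [LocallyOfFinitePresentation f] :
    Topology.IsLocallyConstructible {x : X |
      FBase.IsGeomPtIntegralAt (f.fiberToSpecResidueField (f.base x)) (f.asFiber x)} := by
  have h := Groth.Agent.Lib.FibRkH5.isLocallyConstructible' isFibrewiseGC_geomPtInt f
  convert h using 1
  ext x
  exact fiber_iff_PG descInj_isDomain f x

theorem forall_fiber_iff (Pr : ∀ (R : Type u) [CommRing R], Prop) (h : DescInj Pr)
    {X S : Scheme.{u}} (f : X ⟶ S) (s : S) :
    (∀ z : ↥(f.fiber s), GeomAtP Pr (f.fiberToSpecResidueField s) z) ↔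
      ∀ x : X, f x = s → PG Pr f x := by
  constructor
  · intro hz x hx
    have hmem : x ∈ Set.range (f.fiberι s) := by
      rw [f.range_fiberι]; exact hx
    obtain ⟨z, rfl⟩ := hmem
    exact (fiber_iff_PG' h f s z).1 (hz z)
  · intro hx z
    refine (fiber_iff_PG' h f s z).2 (hx _ ?_)
    have : f.fiberι s z ∈ f ⁻¹' {s} := by
      rw [← f.range_fiberι]; exact ⟨z, rfl⟩
    exact this

theorem main4838 {X S : Scheme.{u}} (f : X ⟶ S)
    [LocallyOfFinitePresentation f] [QuasiCompact f] :
    Topology.IsLocallyConstructible {s : S |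
      ∀ x : ↥(f.fiber s), FBase.IsGeomPtIntegralAt (f.fiberToSpecResidueField s) x} := by
  have h0 := Groth.Agent.Lib.FibRkH5.isLocallyConstructible' isFibrewiseGC_geomPtInt f
  have h1 := Groth.Agent.Lib.FibConsH8.isLocallyConstructible_compl h0
  have h2 := Groth.Agent.Lib.FibConsH8.isLocallyConstructible_compl
    (f.isLocallyConstructible_image h1)
  convert h2 using 1
  ext s
  rw [Set.mem_setOf_eq]
  refine (forall_fiber_iff (fun R _ => IsDomain R) descInj_isDomain f s).trans ?_
  simp only [Set.mem_compl_iff, Set.mem_image, Set.mem_setOf_eq, not_exists, not_and, not_not]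
  exact ⟨fun h x hx hfx => hx (h x hfx), fun h x hfx => by
    by_contra hcon
    exact h x hcon hfx⟩

end Groth.Agent.Lib.GPIH8
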