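import Mathlib
import Groth.Prelude
import Groth.Agent.Lib.GPI3_helper8
import Groth.Agent.Lib.StalkLocz1_helper8
import Groth.Agent.Lib.FibStalkIso_helper5

/-!
# Geometric pointwise integrality (helper8), IV: ring lemmas for the generization step
APPEND-ONLY once landed.
-/

set_option autoImplicit false
set_option linter.all false
set_option maxHeartbeats 1600000

universe u

open CategoryTheory AlgebraicGeometry CategoryTheory.Limits Topology IsLocalRing

namespace Groth.Agent.Lib.GPIH8

section ring

/-- a Noetherian local ring with a regular element `t` of the maximal ideal such that `(t)` is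
prime is a domain -/
theorem isDomain_of_isPrime_span_of_regular (C : Type u) [CommRing C] [IsLocalRing C]
    [IsNoetherianRing C] (t : C) (ht : t ∈ maximalIdeal C) (hreg : t ∈ nonZeroDivisors C)
    (hp : (Ideal.span {t}).IsPrime) : IsDomain C := by
  have hne : Ideal.span {t} ≠ ⊤ := hp.ne_top
  have hkrull : ⨅ i : ℕ, Ideal.span {t} ^ i = ⊥ :=
    Ideal.iInf_pow_eq_bot_of_isLocalRing _ hne
  have hpow : ∀ k : ℕ, Ideal.span {t} ^ k = Ideal.span {t ^ k} := fun k =>
    Ideal.span_singleton_pow t k
  have htk : ∀ k : ℕ, t ^ k ∈ nonZeroDivisors C := fun k => pow_mem hreg k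
  have key : ∀ x : C, x ≠ 0 → ∃ (k : ℕ) (u : C), u ∉ Ideal.span {t} ∧ x = u * t ^ k := by
    intro x hx
    have h1 : ∃ k : ℕ, x ∉ Ideal.span {t} ^ k := by
      by_contra hcon
      push Not at hcon
      have h2 : x ∈ ⨅ i : ℕ, Ideal.span {t} ^ i := by
        rw [Submodule.mem_iInf]; exact hcon
      rw [hkrull] at h2
      exact hx ((Submodule.mem_bot C).mp h2)
    classical
    obtain ⟨k, hk, hmin⟩ : ∃ k : ℕ, x ∉ Ideal.span {t} ^ k ∧ ∀ j < k, x ∈ Ideal.span {t} ^ j :=
      ⟨Nat.find h1, Nat.find_spec h1, fun j hj => by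
        by_contra hcon
        exact absurd (Nat.find_min' h1 hcon) (not_le.mpr hj)⟩
    have hk0 : k ≠ 0 := by
      intro h0
      rw [h0, pow_zero, Ideal.one_eq_top] at hk
      exact hk Submodule.mem_top
    obtain ⟨j, hj⟩ := Nat.exists_eq_succ_of_ne_zero hk0
    have hjmem : x ∈ Ideal.span {t} ^ j := hmin j (by omega)
    rw [hpow, Ideal.mem_span_singleton'] at hjmem
    obtain ⟨u, hu⟩ := hjmem
    refine ⟨j, u, ?_, hu.symm⟩
    intro humem
    rw [Ideal.mem_span_singleton'] at humem
    obtain ⟨v, hv⟩ := humem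
    apply hk
    rw [hj, hpow, Ideal.mem_span_singleton']
    refine ⟨v, ?_⟩
    rw [← hu, ← hv, pow_succ]
    ring
  haveI : NoZeroDivisors C := by
    constructor
    intro x y hxy
    by_contra hcon
    push Not at hcon
    obtain ⟨k, u, hu, rfl⟩ := key x hcon.1
    obtain ⟨l, v, hv, rfl⟩ := key y hcon.2
    have h1 : (u * v) * t ^ (k + l) = 0 := by
      rw [← hxy, pow_add]; ring
    have h2 : u * v = 0 := (mul_right_mem_nonZeroDivisors_eq_zero_iff (htk (k + l))).1 h1
    have h3 : u * v ∈ Ideal.span {t} := by rw [h2]; exact Ideal.zero_mem _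
    rcases hp.mem_or_mem h3 with h | h
    · exact hu h
    · exact hv h
  exact NoZeroDivisors.to_isDomain C

/-- a Noetherian local ring, flat over a discrete valuation ring by a local homomorphism, whose
closed fibre is a domain, is a domain -/
theorem isDomain_of_flat_of_dvr (O C : Type u) [CommRing O] [IsDomain O]
    [IsDiscreteValuationRing O] [CommRing C] [IsLocalRing C] [IsNoetherianRing C]
    (φ : O →+* C) [IsLocalHom φ] (hflat : φ.Flat)
    (hfib : ((maximalIdeal O).map φ).IsPrime) : IsDomain C := by
  obtain ⟨ϖ, hϖ⟩ := IsDiscreteValuationRing.exists_irreducible O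
  have hm : maximalIdeal O = Ideal.span {ϖ} := hϖ.maximalIdeal_eq
  have hmap : (maximalIdeal O).map φ = Ideal.span {φ ϖ} := by
    rw [hm, Ideal.map_span, Set.image_singleton]
  letI : Algebra O C := φ.toAlgebra
  haveI : Module.Flat O C := hflat
  have hreg : φ ϖ ∈ nonZeroDivisors C := by
    have h1 : IsSMulRegular C ϖ :=
      Module.Flat.isSMulRegular_of_nonZeroDivisors (mem_nonZeroDivisors_of_ne_zero hϖ.ne_zero)
    rw [mem_nonZeroDivisors_iff_right]
    intro x hx
    apply h1
    show ϖ • x = ϖ • (0 : C)
    rw [smul_zero, Algebra.smul_def, mul_comm]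
    exact hx
  have hmem : φ ϖ ∈ maximalIdeal C := by
    rw [mem_maximalIdeal, mem_nonunits_iff]
    intro hu
    exact hϖ.not_isUnit (isUnit_of_map_unit φ ϖ hu)
  rw [hmap] at hfib
  exact isDomain_of_isPrime_span_of_regular C (φ ϖ) hmem hreg hfib

end ring

section stalks

/-- domains generize -/
theorem stalk_isDomain_of_specializes {W : Scheme.{u}} {w w' : W} (h : w' ⤳ w)
    (hd : IsDomain (W.presheaf.stalk w)) : IsDomain (W.presheaf.stalk w') := by
  letI alg : Algebra (W.presheaf.stalk w) (W.presheaf.stalk w') :=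
    (W.presheaf.stalkSpecializes h).hom.toAlgebra
  haveI := RingHom.ker_isPrime (Cyc.specMap w w' h)
  haveI : IsLocalization.AtPrime (W.presheaf.stalk w') (RingHom.ker (Cyc.specMap w w' h)) :=
    StalkLoczH8.isLocalization_stalkSpecializes h
  exact IsLocalization.isDomain_of_le_nonZeroDivisors (W.presheaf.stalk w')
    (M := (RingHom.ker (Cyc.specMap w w' h)).primeCompl) (Ideal.primeCompl_le_nonZeroDivisors _)

/-- a flat preimmersion induces isomorphisms on stalks -/
theorem stalkMap_bijective_of_flat_of_isPreimmersion {W W' : Scheme.{u}} (p : W ⟶ W') [Flat p]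
    [IsPreimmersion p] (w : W) : Function.Bijective (p.stalkMap w).hom := by
  refine ⟨?_, p.stalkMap_surjective w⟩
  have hflat : (p.stalkMap w).hom.Flat := Flat.stalkMap p w
  letI : Algebra (W'.presheaf.stalk (p w)) (W.presheaf.stalk w) := (p.stalkMap w).hom.toAlgebra
  haveI : Module.Flat (W'.presheaf.stalk (p w)) (W.presheaf.stalk w) := hflat
  haveI : IsLocalHom (algebraMap (W'.presheaf.stalk (p w)) (W.presheaf.stalk w)) :=
    inferInstanceAs (IsLocalHom (p.stalkMap w).hom)
  haveI : Module.FaithfullyFlat (W'.presheaf.stalk (p w)) (W.presheaf.stalk w) :=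
    Module.FaithfullyFlat.of_flat_of_isLocalHom
  exact FaithfulSMul.algebraMap_injective (W'.presheaf.stalk (p w)) (W.presheaf.stalk w)

theorem stalk_isDomain_of_flat_of_isPreimmersion {W W' : Scheme.{u}} (p : W ⟶ W') [Flat p]
    [IsPreimmersion p] (w : W) (hd : IsDomain (W'.presheaf.stalk (p w))) :
    IsDomain (W.presheaf.stalk w) :=
  (RingEquiv.ofBijective _
    (stalkMap_bijective_of_flat_of_isPreimmersion p w)).symm.toMulEquiv.isDomain _

/-- the local ring of the spectrum of a Dedekind domain at a nonzero prime is a discrete valuation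
ring -/
theorem stalk_spec_dedekind (R' : Type u) [CommRing R'] [IsDomain R'] [IsDedekindDomain R']
    (t : Spec (CommRingCat.of R')) (ht : t.asIdeal ≠ ⊥) :
    ∃ (_ : IsDomain ((Spec (CommRingCat.of R')).presheaf.stalk t)),
      IsDiscreteValuationRing ((Spec (CommRingCat.of R')).presheaf.stalk t) := by
  letI k : Algebra R' ((Spec (CommRingCat.of R')).presheaf.stalk t) :=
    StructureSheaf.stalkAlgebra R' t
  haveI : IsLocalization.AtPrime ((Spec (CommRingCat.of R')).presheaf.stalk t) t.asIdeal :=
    StructureSheaf.IsLocalization.to_stalk R' t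
  haveI hdom : IsDomain ((Spec (CommRingCat.of R')).presheaf.stalk t) :=
    IsLocalization.isDomain_of_le_nonZeroDivisors _
      (M := t.asIdeal.primeCompl) (Ideal.primeCompl_le_nonZeroDivisors _)
  exact ⟨hdom, IsLocalization.AtPrime.isDiscreteValuationRing_of_dedekind_domain R' ht _⟩

end stalks

section dedekind

/-- a finite separable extension of the fraction field of a discrete valuation ring is the fraction
field of a Dedekind domain integral over it -/
theorem exists_dedekind_ext (R : Type u) [CommRing R] [IsDomain R] [IsDiscreteValuationRing R]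
    (L : Type u) [Field L] [Algebra (FractionRing R) L] [FiniteDimensional (FractionRing R) L]
    [Algebra.IsSeparable (FractionRing R) L] :
    ∃ (R' : Type u) (_ : CommRing R') (_ : IsDomain R') (_ : IsDedekindDomain R')
      (_ : Algebra R R') (_ : Algebra R' L), IsFractionRing R' L ∧ Algebra.IsIntegral R R' ∧
      (algebraMap R' L).comp (algebraMap R R') =
        (algebraMap (FractionRing R) L).comp (algebraMap R (FractionRing R)) := by
  letI : Algebra R L :=
    ((algebraMap (FractionRing R) L).comp (algebraMap R (FractionRing R))).toAlgebra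
  haveI : IsScalarTower R (FractionRing R) L := IsScalarTower.of_algebraMap_eq (fun _ => rfl)
  refine ⟨integralClosure R L, inferInstance, inferInstance, inferInstance, inferInstance,
    inferInstance, ?_, ?_, ?_⟩
  · exact integralClosure.isFractionRing_of_finite_extension (FractionRing R) L
  · exact IsIntegralClosure.isIntegral_algebra R L
  · ext x
    rfl

/-- flat family over a Dedekind scheme: if the fibre through a point over a closed point is
geometrically pointwise integral there, the total space is integral at that point -/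
theorem stalk_isDomain_of_dedekind (R' : Type u) [CommRing R'] [IsDomain R'] [IsDedekindDomain R']
    {Y' : Scheme.{u}} (q' : Y' ⟶ Spec (CommRingCat.of R')) [Flat q'] [LocallyOfFiniteType q']
    (y₁ : Y') (ht : (q' y₁).asIdeal ≠ ⊥) (hPG : PG (fun R _ => IsDomain R) q' y₁) :
    IsDomain (Y'.presheaf.stalk y₁) := by
  obtain ⟨hdomO, hdvrO⟩ := stalk_spec_dedekind R' (q' y₁) ht
  haveI : IsLocallyNoetherian Y' := LocallyOfFiniteType.isLocallyNoetherian q'
  have hflat : (q'.stalkMap y₁).hom.Flat := Flat.stalkMap q' y₁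
  have sqfib : IsPullback (q'.fiberι (q' y₁)) (q'.fiberToSpecResidueField (q' y₁)) q'
      ((Spec (CommRingCat.of R')).fromSpecResidueField (q' y₁)) := IsPullback.of_hasPullback _ _
  have hfibdom : IsDomain ((q'.fiber (q' y₁)).presheaf.stalk (q'.asFiber y₁)) :=
    hPG.of_isPullback descInj_isDomain sqfib (q'.asFiber y₁) (q'.fiberι_asFiber y₁)
  have hquot : IsDomain (Y'.presheaf.stalk y₁ ⧸ Groth.Agent.FibStalkDimH8.fibIdeal q' y₁) :=
    (Groth.Agent.FibStalkIso.fibStalkEquiv q' y₁).toMulEquiv.isDomain _
  have hprime : (Groth.Agent.FibStalkDimH8.fibIdeal q' y₁).IsPrime :=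
    (Ideal.Quotient.isDomain_iff_prime _).1 hquot
  exact isDomain_of_flat_of_dvr _ _ (q'.stalkMap y₁).hom hflat hprime

end dedekind

end Groth.Agent.Lib.GPIH8
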