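import Mathlib
import Groth.Prelude
import Groth.Agent.Lib.GPI4_helper8

/-!
# Geometric pointwise integrality (helper8), V: the discrete valuation ring step
APPEND-ONLY once landed.
-/

set_option autoImplicit false
set_option linter.all false
set_option maxHeartbeats 1600000

universe u

open CategoryTheory AlgebraicGeometry CategoryTheory.Limits Topology IsLocalRing

namespace Groth.Agent.Lib.GPIH8

/-- **DVR step**: for a flat family of finite type over a discrete valuation ring, geometric
pointwise integrality of the closed fibre at `y` passes to the generic fibre at generizations. -/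
theorem dvr_step_qc (R : Type u) [CommRing R] [IsDomain R] [IsDiscreteValuationRing R]
    {Y : Scheme.{u}} (q : Y ⟶ Spec (CommRingCat.of R)) [Flat q] [LocallyOfFiniteType q]
    [QuasiCompact q]
    (y y' : Y) (hspec : y' ⤳ y) (hy : (q y).asIdeal = maximalIdeal R)
    (hy' : (q y').asIdeal = ⊥) (hPG : PG (fun R _ => IsDomain R) q y) :
    PG (fun R _ => IsDomain R) q y' := by
  haveI : LocallyOfFinitePresentation q :=
    LocallyOfFinitePresentation.iff_locallyOfFiniteType.mpr inferInstance
  have hred : PG (fun R _ => IsReduced R) q y' := by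
    have hopen := isFibrewise_geomRed.isOpen q
    have hyred : PG (fun R _ => IsReduced R) q y := fun K _ s w hw => by
      haveI := hPG K s w hw
      infer_instance
    exact hspec.mem_open hopen hyred
  obtain ⟨sK, hsK⟩ : ∃ sK : Spec (CommRingCat.of (FractionRing R)) ⟶ Spec (CommRingCat.of R),
      sK = Spec.map (CommRingCat.ofHom (algebraMap R (FractionRing R))) := ⟨_, rfl⟩
  haveI : LocallyOfFiniteType (pullback.snd q sK) := MorphismProperty.pullback_snd _ _ inferInstance
  haveI : QuasiCompact (pullback.snd q sK) := MorphismProperty.pullback_snd _ _ inferInstance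
  obtain ⟨L, _, _, hfd, hsep, hL⟩ := GeomConnH8.exists_finite_sep_ext_irr (pullback.snd q sK)
  have hb := GeomConnH8.geomIrrComps_bcStr (pullback.snd q sK) L hL
  obtain ⟨R', _, _, _, _, _, hfrac, hint, hcomp⟩ := exists_dedekind_ext R L
  haveI := hfrac
  haveI := hint
  -- the morphisms of spectra
  obtain ⟨r, hr⟩ : ∃ r : Spec (CommRingCat.of R') ⟶ Spec (CommRingCat.of R),
      r = Spec.map (CommRingCat.ofHom (algebraMap R R')) := ⟨_, rfl⟩
  obtain ⟨sL', hsL'⟩ : ∃ sL' : Spec (CommRingCat.of L) ⟶ Spec (CommRingCat.of R'),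
      sL' = Spec.map (CommRingCat.ofHom (algebraMap R' L)) := ⟨_, rfl⟩
  obtain ⟨sKL, hsKL⟩ : ∃ sKL : Spec (CommRingCat.of L) ⟶ Spec (CommRingCat.of (FractionRing R)),
      sKL = Spec.map (CommRingCat.ofHom (algebraMap (FractionRing R) L)) := ⟨_, rfl⟩
  have hcomm : sKL ≫ sK = sL' ≫ r := by
    rw [hsKL, hsK, hsL', hr, ← Spec.map_comp, ← Spec.map_comp, ← CommRingCat.ofHom_comp,
      ← CommRingCat.ofHom_comp, hcomp]
  have hinjR : Function.Injective (algebraMap R R') := by
    have h1 : Function.Injective ((algebraMap R' L).comp (algebraMap R R')) := by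
      rw [hcomp]
      exact (algebraMap (FractionRing R) L).injective.comp (IsFractionRing.injective R _)
    exact Function.Injective.of_comp h1
  -- the big square
  have sq : IsPullback (FBase.bcπ (pullback.snd q sK) L ≫ pullback.fst q sK)
      (FBase.bcStr (pullback.snd q sK) L) q (sKL ≫ sK) := by
    have h1 : IsPullback (FBase.bcπ (pullback.snd q sK) L) (FBase.bcStr (pullback.snd q sK) L)
        (pullback.snd q sK) sKL := by
      rw [hsKL]
      exact IsPullback.of_hasPullback _ _
    exact h1.paste_horiz (IsPullback.of_hasPullback q sK)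
  -- the base change to `R'`
  obtain ⟨ιL, hι1, hι2⟩ : ∃ ιL : FBase.bc (pullback.snd q sK) L ⟶ pullback q r,
      ιL ≫ pullback.fst q r = FBase.bcπ (pullback.snd q sK) L ≫ pullback.fst q sK ∧
      ιL ≫ pullback.snd q r = FBase.bcStr (pullback.snd q sK) L ≫ sL' :=
    ⟨pullback.lift (FBase.bcπ (pullback.snd q sK) L ≫ pullback.fst q sK)
      (FBase.bcStr (pullback.snd q sK) L ≫ sL') (by rw [Category.assoc, Category.assoc, ← hcomm, ← sq.w, Category.assoc]),
      pullback.lift_fst _ _ _, pullback.lift_snd _ _ _⟩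
  have hιsq : IsPullback ιL (FBase.bcStr (pullback.snd q sK) L) (pullback.snd q r) sL' := by
    refine IsPullback.of_right ?_ hι2 (IsPullback.of_hasPullback q r)
    rw [hι1, ← hcomm]
    exact sq
  haveI : Flat sL' := by
    rw [hsL', HasRingHomProperty.Spec_iff (P := @Flat)]
    show (algebraMap R' L).Flat
    rw [RingHom.flat_algebraMap_iff]
    exact IsLocalization.flat L (nonZeroDivisors R')
  haveI : IsPreimmersion sL' := by
    rw [hsL']
    exact IsPreimmersion.of_isLocalization (nonZeroDivisors R')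
  haveI : Flat ιL := MorphismProperty.of_isPullback (P := @Flat) hιsq.flip inferInstance
  haveI : IsPreimmersion ιL :=
    MorphismProperty.of_isPullback (P := @IsPreimmersion) hιsq.flip inferInstance
  -- a point of the generic fibre over `L` above `y'`
  obtain ⟨w, hw⟩ : ∃ w : ↥(FBase.bc (pullback.snd q sK) L),
      (FBase.bcπ (pullback.snd q sK) L ≫ pullback.fst q sK) w = y' := by
    obtain ⟨pt⟩ : Nonempty ↥(Spec (CommRingCat.of L)) := inferInstance
    have hpt : q y' = (sKL ≫ sK) pt := by
      apply PrimeSpectrum.ext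
      rw [hy', hcomm, hsL', hr, ← Spec.map_comp, ← CommRingCat.ofHom_comp]
      show (⊥ : Ideal R) = Ideal.comap ((algebraMap R' L).comp (algebraMap R R')) pt.asIdeal
      have hptbot : pt.asIdeal = ⊥ := by
        have := pt.2
        exact (Ideal.eq_bot_or_top pt.asIdeal).resolve_right this.ne_top
      rw [hptbot, ← RingHom.ker_eq_comap_bot]
      symm
      rw [← RingHom.injective_iff_ker_eq_bot]
      exact (IsFractionRing.injective R' L).comp hinjR
    obtain ⟨w₀, hw₀1, hw₀2⟩ := Scheme.Pullback.exists_preimage_pullback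
      (f := q) (g := sKL ≫ sK) y' pt hpt
    refine ⟨sq.isoPullback.inv w₀, ?_⟩
    rw [← Scheme.Hom.comp_apply, sq.isoPullback_inv_fst, hw₀1]
  -- finiteness of the set of irreducible components
  have hfin : (irreducibleComponents ↥(FBase.bc (pullback.snd q sK) L)).Finite := by
    haveI : LocallyOfFiniteType (FBase.bcStr (pullback.snd q sK) L) := by
      show LocallyOfFiniteType (pullback.snd (pullback.snd q sK) _)
      exact MorphismProperty.pullback_snd _ _ inferInstance
    haveI : QuasiCompact (FBase.bcStr (pullback.snd q sK) L) := by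
      show QuasiCompact (pullback.snd (pullback.snd q sK) _)
      exact MorphismProperty.pullback_snd _ _ inferInstance
    haveI : IsLocallyNoetherian (FBase.bc (pullback.snd q sK) L) :=
      LocallyOfFiniteType.isLocallyNoetherian (FBase.bcStr (pullback.snd q sK) L)
    haveI : CompactSpace ↥(FBase.bc (pullback.snd q sK) L) :=
      QuasiCompact.compactSpace_of_compactSpace (FBase.bcStr (pullback.snd q sK) L)
    haveI : IsNoetherian (FBase.bc (pullback.snd q sK) L) := {}
    exact TopologicalSpace.NoetherianSpace.finite_irreducibleComponents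
  -- lifting the specialization
  haveI : IsIntegralHom r := by
    rw [hr, IsIntegralHom.SpecMap_iff]
    exact algebraMap_isIntegral_iff.mpr inferInstance
  have hpw : pullback.fst q r (ιL w) = y' := by
    rw [← Scheme.Hom.comp_apply, hι1, hw]
  obtain ⟨y₁, hy₁1, hy₁2⟩ : ∃ y₁ : ↥(pullback q r), ιL w ⤳ y₁ ∧ pullback.fst q r y₁ = y := by
    have hsm := (pullback.fst q r).isClosedMap.specializingMap
    have h1 : pullback.fst q r (ιL w) ⤳ y := by rw [hpw]; exact hspec
    obtain ⟨y₁, h2, h3⟩ := hsm h1
    exact ⟨y₁, h2, h3⟩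
  have hPG₁ : PG (fun R _ => IsDomain R) (pullback.snd q r) y₁ :=
    PG.of_bc descInj_isDomain (IsPullback.of_hasPullback q r) y₁ (by rw [hy₁2]; exact hPG)
  have ht₁ : (pullback.snd q r y₁).asIdeal ≠ ⊥ := by
    intro hbot
    have h1 : r (pullback.snd q r y₁) = q y := by
      rw [← Scheme.Hom.comp_apply, ← pullback.condition, Scheme.Hom.comp_apply, hy₁2]
    have hcomap : ∀ t : ↥(Spec (CommRingCat.of R')),
        (r t).asIdeal = Ideal.comap (algebraMap R R') t.asIdeal := by
      intro t
      rw [hr]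
      rfl
    have h2 : (r (pullback.snd q r y₁)).asIdeal = ⊥ := by
      rw [hcomap, hbot, ← RingHom.ker_eq_comap_bot]
      exact (RingHom.injective_iff_ker_eq_bot _).1 hinjR
    rw [h1, hy] at h2
    exact IsDiscreteValuationRing.not_a_field R h2
  haveI : Flat (pullback.snd q r) := MorphismProperty.pullback_snd _ _ inferInstance
  haveI : LocallyOfFiniteType (pullback.snd q r) := MorphismProperty.pullback_snd _ _ inferInstance
  have hd₁ : IsDomain ((pullback q r).presheaf.stalk y₁) :=
    stalk_isDomain_of_dedekind R' (pullback.snd q r) y₁ ht₁ hPG₁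
  have hd₂ : IsDomain ((pullback q r).presheaf.stalk (ιL w)) :=
    stalk_isDomain_of_specializes hy₁1 hd₁
  have hd₃ : IsDomain ((FBase.bc (pullback.snd q sK) L).presheaf.stalk w) :=
    stalk_isDomain_of_flat_of_isPreimmersion ιL w hd₂
  have huniq := ((stalk_isDomain_iff _ w).1 hd₃).2
  exact PG_isDomain_of_geomIrrComps q y' (sKL ≫ sK) sq hfin hb w hw hred huniq

/-- **DVR step**, without quasi-compactness -/
theorem dvr_step (R : Type u) [CommRing R] [IsDomain R] [IsDiscreteValuationRing R]
    {Y : Scheme.{u}} (q : Y ⟶ Spec (CommRingCat.of R)) [Flat q] [LocallyOfFiniteType q]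
    (y y' : Y) (hspec : y' ⤳ y) (hy : (q y).asIdeal = maximalIdeal R)
    (hy' : (q y').asIdeal = ⊥) (hPG : PG (fun R _ => IsDomain R) q y) :
    PG (fun R _ => IsDomain R) q y' := by
  obtain ⟨U, hU, hyU⟩ : ∃ U : Y.Opens, IsAffineOpen U ∧ y ∈ U := by
    obtain ⟨_, ⟨U, hU : IsAffineOpen U, rfl⟩, hyU, -⟩ :=
      Y.isBasis_affineOpens.exists_subset_of_mem_open (Set.mem_univ y) isOpen_univ
    exact ⟨U, hU, hyU⟩
  have hy'U : y' ∈ U := hspec.mem_open U.isOpen hyU
  haveI : IsAffine ↑U := hU
  have h1 : PG (fun R _ => IsDomain R) (U.ι ≫ q) ⟨y, hyU⟩ :=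
    (PG.loc_iff descInj_isDomain q U.ι ⟨y, hyU⟩).2 hPG
  have hspecU : (⟨y', hy'U⟩ : ↥U) ⤳ ⟨y, hyU⟩ :=
    U.ι.isOpenEmbedding.isInducing.specializes_iff.1 hspec
  have h2 := dvr_step_qc R (U.ι ≫ q) ⟨y, hyU⟩ ⟨y', hy'U⟩ hspecU hy hy' h1
  exact (PG.loc_iff descInj_isDomain q U.ι ⟨y', hy'U⟩).1 h2

end Groth.Agent.Lib.GPIH8
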