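import Mathlib
import Groth.Prelude
import Groth.Agent.Lib.GPI5_helper8
import Groth.Agent.Lib.UnramLocal_helper7
import Groth.Agent.Lib.Constr_lead
import Groth.Agent.Lib.FlatDesc19_helper8

/-!
# Geometric pointwise integrality (helper8), VI: openness for flat morphisms of finite presentation
APPEND-ONLY once landed.
-/

set_option autoImplicit false
set_option linter.all false
set_option maxHeartbeats 1600000

universe u

open CategoryTheory AlgebraicGeometry CategoryTheory.Limits Topology IsLocalRing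

namespace Groth.Agent.Lib.GPIH8

variable {Pr : ∀ (R : Type u) [CommRing R], Prop}

/-- composing with a monomorphism on the target does not change the fibrewise property -/
theorem PG.comp_mono_iff (h : DescInj Pr) {U V T : Scheme.{u}} (h' : U ⟶ V) (i : V ⟶ T) [Mono i]
    (u : U) : PG Pr (h' ≫ i) u ↔ PG Pr h' u := by
  have s1 : IsPullback (𝟙 U) h' h' (𝟙 V) := IsPullback.of_horiz_isIso ⟨by simp⟩
  have s2 : IsPullback (𝟙 V) (𝟙 V) i i := IsKernelPair.id_of_mono i
  have s3 := s1.paste_vert s2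
  rw [Category.comp_id] at s3
  have := PG.bc_iff h s3 u
  simpa using this.symm

/-- **Noetherian case** -/
theorem isOpen_PG_isDomain_of_isLocallyNoetherian {X T : Scheme.{u}} (g : X ⟶ T) [Flat g]
    [LocallyOfFiniteType g] [IsLocallyNoetherian T] :
    IsOpen {x : X | PG (fun R _ => IsDomain R) g x} := by
  rw [isOpen_iff_forall_mem_open]
  intro x hx
  obtain ⟨U, hU, hxU⟩ : ∃ U : X.Opens, IsAffineOpen U ∧ x ∈ U := by
    obtain ⟨_, ⟨U, hU : IsAffineOpen U, rfl⟩, hxU, -⟩ :=
      X.isBasis_affineOpens.exists_subset_of_mem_open (Set.mem_univ x) isOpen_univ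
    exact ⟨U, hU, hxU⟩
  haveI : IsAffine ↑U := hU
  haveI : IsLocallyNoetherian X := LocallyOfFiniteType.isLocallyNoetherian g
  haveI : LocallyOfFinitePresentation g :=
    LocallyOfFinitePresentation.iff_locallyOfFiniteType.mpr inferInstance
  obtain ⟨h, hh⟩ : ∃ h : (↑U : Scheme.{u}) ⟶ T, h = U.ι ≫ g := ⟨_, rfl⟩
  haveI : Flat h := by rw [hh]; infer_instance
  haveI : LocallyOfFiniteType h := by rw [hh]; infer_instance
  haveI : LocallyOfFinitePresentation h := by rw [hh]; infer_instance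
  haveI : IsLocallyNoetherian (↑U : Scheme.{u}) := LocallyOfFiniteType.isLocallyNoetherian h
  haveI : IsNoetherian (↑U : Scheme.{u}) := {}
  have hcons : IsConstructible {u : ↥(↑U : Scheme.{u}) | PG (fun R _ => IsDomain R) h u} :=
    (Groth.Agent.Lib.FibRkH5.isLocallyConstructible' isFibrewiseGC_geomPtInt h).isConstructible
  have hgen : StableUnderGeneralization
      {u : ↥(↑U : Scheme.{u}) | PG (fun R _ => IsDomain R) h u} := by
    intro u u' huu' hu
    by_cases hne : u' = u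
    · rw [hne]; exact hu
    obtain ⟨A, _, _, _, a, η, hη, hacl, haη⟩ :=
      Groth.Agent.Lib.UnramLocal_helper7.exists_dvr_of_specializes u' u huu' hne
    obtain ⟨σ, hσ1, hσ2⟩ : ∃ σ : Spec (CommRingCat.of A) ⟶ pullback h (a ≫ h),
        σ ≫ pullback.fst h (a ≫ h) = a ∧ σ ≫ pullback.snd h (a ≫ h) = 𝟙 _ :=
      ⟨pullback.lift a (𝟙 _) (by simp), pullback.lift_fst _ _ _, pullback.lift_snd _ _ _⟩
    haveI : Flat (pullback.snd h (a ≫ h)) := MorphismProperty.pullback_snd _ _ inferInstance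
    haveI : LocallyOfFiniteType (pullback.snd h (a ≫ h)) :=
      MorphismProperty.pullback_snd _ _ inferInstance
    have hsq := IsPullback.of_hasPullback h (a ≫ h)
    have hPGy : PG (fun R _ => IsDomain R) (pullback.snd h (a ≫ h)) (σ (closedPoint A)) := by
      refine PG.of_bc descInj_isDomain hsq _ ?_
      rw [← Scheme.Hom.comp_apply, hσ1, hacl]
      exact hu
    have hspecη : η ⤳ closedPoint A := by
      refine (PrimeSpectrum.le_iff_specializes (R := A) η (closedPoint A)).1 ?_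
      show η.asIdeal ≤ _
      rw [hη]
      exact bot_le
    have hspecσ : σ η ⤳ σ (closedPoint A) := hspecη.map σ.continuous
    have hqy : (pullback.snd h (a ≫ h) (σ (closedPoint A))).asIdeal = maximalIdeal A := by
      rw [← Scheme.Hom.comp_apply, hσ2]
      rfl
    have hqy' : (pullback.snd h (a ≫ h) (σ η)).asIdeal = ⊥ := by
      rw [← Scheme.Hom.comp_apply, hσ2]
      exact hη
    have h1 := dvr_step A (pullback.snd h (a ≫ h)) _ _ hspecσ hqy hqy' hPGy
    have h2 := PG.to_bc descInj_isDomain hsq (σ η) h1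
    rw [← Scheme.Hom.comp_apply, hσ1, haη] at h2
    exact h2
  have hopen := Groth.Agent.Lib.Constr_lead.isOpen_of_isConstructible_of_stableUnderGeneralization
    hcons hgen
  refine ⟨U.ι '' {u | PG (fun R _ => IsDomain R) h u}, ?_, U.ι.isOpenEmbedding.isOpenMap _ hopen,
    ⟨⟨x, hxU⟩, ?_, rfl⟩⟩
  · rintro _ ⟨u, hu, rfl⟩
    rw [Set.mem_setOf_eq, hh] at hu
    exact (PG.loc_iff descInj_isDomain g U.ι u).1 hu
  · rw [Set.mem_setOf_eq, hh]
    exact (PG.loc_iff descInj_isDomain g U.ι ⟨x, hxU⟩).2 hx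

/-- **General case** (EGA IV 12.1.1 (x)): for a flat morphism locally of finite presentation, the
locus where the fibre is geometrically pointwise integral is open. -/
theorem isOpen_PG_isDomain {X Y : Scheme.{u}} (f : X ⟶ Y) [Flat f]
    [LocallyOfFinitePresentation f] :
    IsOpen {x : X | PG (fun R _ => IsDomain R) f x} := by
  rw [isOpen_iff_forall_mem_open]
  intro x hx
  obtain ⟨V, hV, hxV⟩ : ∃ V : Y.Opens, IsAffineOpen V ∧ f x ∈ V := by
    obtain ⟨_, ⟨V, hV : IsAffineOpen V, rfl⟩, hxV, -⟩ :=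
      Y.isBasis_affineOpens.exists_subset_of_mem_open (Set.mem_univ (f x)) isOpen_univ
    exact ⟨V, hV, hxV⟩
  obtain ⟨U, hU, hxU, hUV⟩ : ∃ U : X.Opens, IsAffineOpen U ∧ x ∈ U ∧ U ≤ f ⁻¹ᵁ V := by
    obtain ⟨_, ⟨U, hU : IsAffineOpen U, rfl⟩, hxU, hsub⟩ :=
      X.isBasis_affineOpens.exists_subset_of_mem_open (show x ∈ ((f ⁻¹ᵁ V : X.Opens) : Set X)
        from hxV) (f ⁻¹ᵁ V).isOpen
    exact ⟨U, hU, hxU, hsub⟩
  obtain ⟨φ, hφ⟩ : ∃ φ : Γ(Y, V) ⟶ Γ(X, U), φ = f.appLE V U hUV := ⟨_, rfl⟩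
  have hfp : φ.hom.FinitePresentation := by
    rw [hφ]
    exact HasRingHomProperty.appLE (P := @LocallyOfFinitePresentation) f inferInstance
      ⟨V, hV⟩ ⟨U, hU⟩ hUV
  have hflat : φ.hom.Flat := by
    rw [hφ]
    exact HasRingHomProperty.appLE (P := @Flat) f inferInstance ⟨V, hV⟩ ⟨U, hU⟩ hUV
  have hcomm : Spec.map φ ≫ hV.fromSpec = hU.fromSpec ≫ f := by
    rw [hφ]
    exact IsAffineOpen.SpecMap_appLE_fromSpec f hV hU hUV
  letI : Algebra Γ(Y, V) Γ(X, U) := φ.hom.toAlgebra
  haveI : Algebra.FinitePresentation Γ(Y, V) Γ(X, U) := hfp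
  haveI : Module.Flat Γ(Y, V) Γ(X, U) := hflat
  obtain ⟨R₀, _, _, S₀, _, _, _, _, _, _, M₀, _, _, _, _, _, _, fM, hft, hftS, hfin, hflatM, hpush,
    hbc, hflatS⟩ := FlatDescH8.exists_noetherian_flat_model Γ(Y, V) Γ(X, U) Γ(X, U)
  haveI := hpush
  haveI : IsNoetherianRing R₀ := Algebra.FiniteType.isNoetherianRing ℤ R₀
  have hpo := CommRingCat.isPushout_of_isPushout R₀ Γ(Y, V) S₀ Γ(X, U)
  have hpb := (isPullback_SpecMap_of_isPushout _ _ _ _ hpo).flip
  have hφ' : CommRingCat.ofHom (algebraMap Γ(Y, V) Γ(X, U)) = φ := rfl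
  rw [hφ'] at hpb
  haveI : Flat (Spec.map (CommRingCat.ofHom (algebraMap R₀ S₀))) := by
    rw [HasRingHomProperty.Spec_iff (P := @Flat)]
    show (algebraMap R₀ S₀).Flat
    rw [RingHom.flat_algebraMap_iff]
    exact hflatS
  haveI : LocallyOfFiniteType (Spec.map (CommRingCat.ofHom (algebraMap R₀ S₀))) := by
    rw [HasRingHomProperty.Spec_iff (P := @LocallyOfFiniteType)]
    show (algebraMap R₀ S₀).FiniteType
    rw [RingHom.finiteType_algebraMap]
    exact hftS
  have hopen₀ := isOpen_PG_isDomain_of_isLocallyNoetherian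
    (Spec.map (CommRingCat.ofHom (algebraMap R₀ S₀)))
  have hiff : ∀ u : ↥(Spec Γ(X, U)), PG (fun R _ => IsDomain R) f (hU.fromSpec u) ↔
      PG (fun R _ => IsDomain R) (Spec.map (CommRingCat.ofHom (algebraMap R₀ S₀)))
        (Spec.map (CommRingCat.ofHom (algebraMap S₀ Γ(X, U))) u) := by
    intro u
    rw [← PG.loc_iff descInj_isDomain f hU.fromSpec u, ← hcomm,
      PG.comp_mono_iff descInj_isDomain (Spec.map φ) hV.fromSpec u]
    exact PG.bc_iff descInj_isDomain hpb u
  have hopen : IsOpen {u : ↥(Spec Γ(X, U)) | PG (fun R _ => IsDomain R) f (hU.fromSpec u)} := by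
    have heq : {u : ↥(Spec Γ(X, U)) | PG (fun R _ => IsDomain R) f (hU.fromSpec u)} =
        (Spec.map (CommRingCat.ofHom (algebraMap S₀ Γ(X, U)))) ⁻¹'
          {x | PG (fun R _ => IsDomain R) (Spec.map (CommRingCat.ofHom (algebraMap R₀ S₀))) x} := by
      ext u
      exact hiff u
    rw [heq]
    exact hopen₀.preimage (Spec.map (CommRingCat.ofHom (algebraMap S₀ Γ(X, U)))).continuous
  obtain ⟨u, hu⟩ : x ∈ Set.range hU.fromSpec := by
    rw [hU.range_fromSpec]; exact hxU
  refine ⟨hU.fromSpec '' {u | PG (fun R _ => IsDomain R) f (hU.fromSpec u)}, ?_,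
    hU.fromSpec.isOpenEmbedding.isOpenMap _ hopen, ⟨u, ?_, hu⟩⟩
  · rintro _ ⟨u', hu', rfl⟩
    exact hu'
  · rw [Set.mem_setOf_eq, hu]
    exact hx

theorem main2550 {X Y : Scheme.{u}} (f : X ⟶ Y) [Flat f] [LocallyOfFinitePresentation f] :
    IsOpen {x : X |
      FBase.IsGeomPtIntegralAt (f.fiberToSpecResidueField (f.base x)) (f.asFiber x)} := by
  have h := isOpen_PG_isDomain f
  convert h using 1
  ext x
  exact fiber_iff_PG descInj_isDomain f x

theorem main2554 {X Y : Scheme.{u}} (f : X ⟶ Y) [IsProper f] [Flat f]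
    [LocallyOfFinitePresentation f] :
    IsOpen {y : Y | ∀ x : ↥(f.fiber y),
      FBase.IsGeomPtIntegralAt (f.fiberToSpecResidueField y) x} := by
  have h0 := isOpen_PG_isDomain f
  have h1 : IsClosed (f '' {x : X | PG (fun R _ => IsDomain R) f x}ᶜ) :=
    f.isClosedMap _ h0.isClosed_compl
  have h2 := h1.isOpen_compl
  convert h2 using 1
  ext s
  rw [Set.mem_setOf_eq]
  refine (forall_fiber_iff (fun R _ => IsDomain R) descInj_isDomain f s).trans ?_
  simp only [Set.mem_compl_iff, Set.mem_image, Set.mem_setOf_eq, not_exists, not_and, not_not]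
  exact ⟨fun h x hx hfx => hx (h x hfx), fun h x hfx => by
    by_contra hcon
    exact h x hcon hfx⟩

end Groth.Agent.Lib.GPIH8
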