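import Mathlib
import Groth.Agent.Lib.IsQuot1_helper8
set_option autoImplicit false
open AlgebraicGeometry CategoryTheory CategoryTheory.Limits TopologicalSpace
universe u
namespace IsQuotH8

/-- Plain consequences of `Γ(X, D(f)) = Γ(X, U)_f` for an affine open `U`. -/
theorem away_facts {X : Scheme.{u}} {U : X.Opens} (hU : IsAffineOpen U) (f : Γ(X, U))
    {V : X.Opens} (i : V ⟶ U) (e : V = X.basicOpen f) :
    IsUnit ((X.presheaf.map i.op).hom f) ∧
    (∀ s' : Γ(X, V), ∃ (n : ℕ) (s : Γ(X, U)),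
      s' * ((X.presheaf.map i.op).hom f) ^ n = (X.presheaf.map i.op).hom s) ∧
    (∀ s : Γ(X, U), (X.presheaf.map i.op).hom s = 0 → ∃ m : ℕ, f ^ m * s = 0) := by
  letI : Algebra Γ(X, U) Γ(X, V) := (X.presheaf.map i.op).hom.toAlgebra
  haveI : IsLocalization.Away f Γ(X, V) := hU.isLocalization_of_eq_basicOpen f i e
  refine ⟨IsLocalization.Away.algebraMap_isUnit f, fun s' => ?_, fun s hs => ?_⟩
  · obtain ⟨n, a, ha⟩ := IsLocalization.Away.surj f s'
    exact ⟨n, a, ha⟩
  · have h0 : algebraMap Γ(X, U) Γ(X, V) s = algebraMap Γ(X, U) Γ(X, V) 0 := by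
      rw [map_zero]; exact hs
    obtain ⟨⟨c, m, rfl⟩, hc⟩ := (IsLocalization.eq_iff_exists (Submonoid.powers f) Γ(X, V)).mp h0
    refine ⟨m, ?_⟩
    simpa using hc

variable {X Y : Scheme.{u}} {G : Type u} [Group G] [Finite G]

theorem isQuot_basicOpen (ρ : G →* Aut X) (p : X ⟶ Y) (hinv : ∀ g : G, (ρ g).hom ≫ p = p)
    {U : Y.Opens} (hU : IsAffineOpen U) (hpU : IsAffineOpen (p ⁻¹ᵁ U)) (f : Γ(Y, U))
    (hinj : Function.Injective (p.app U).hom)
    (hrange : ∀ s : Γ(X, p ⁻¹ᵁ U), (∀ g, (act ρ p hinv g U).hom s = s) →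
      s ∈ Set.range (p.app U).hom) :
    Function.Injective (p.app (Y.basicOpen f)).hom ∧
    ∀ s : Γ(X, p ⁻¹ᵁ (Y.basicOpen f)), (∀ g, (act ρ p hinv g (Y.basicOpen f)).hom s = s) →
      s ∈ Set.range (p.app (Y.basicOpen f)).hom := by
  have hle : Y.basicOpen f ≤ U := Y.basicOpen_le f
  have hle' : p ⁻¹ᵁ (Y.basicOpen f) ≤ p ⁻¹ᵁ U := fun _ hx => hle hx
  obtain ⟨hu, hsurj, hker⟩ := away_facts hU f (homOfLE hle) rfl
  obtain ⟨hu', hsurj', hker'⟩ := away_facts hpU ((p.app U).hom f) (homOfLE hle')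
    (Scheme.preimage_basicOpen p f)
  have hrf : (X.presheaf.map (homOfLE hle').op).hom ((p.app U).hom f) =
      (p.app (Y.basicOpen f)).hom ((Y.presheaf.map (homOfLE hle).op).hom f) :=
    (app_res' p (homOfLE hle) (homOfLE hle') f).symm
  constructor
  · rw [injective_iff_map_eq_zero]
    intro b' hb'
    obtain ⟨n, b, hb⟩ := hsurj b'
    have h1 : (X.presheaf.map (homOfLE hle').op).hom ((p.app U).hom b) = 0 := by
      rw [← app_res' p (homOfLE hle) (homOfLE hle') b, ← hb, map_mul, hb', zero_mul]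
    obtain ⟨m, hm⟩ := hker' _ h1
    have h2 : f ^ m * b = 0 := by
      apply hinj
      rw [map_mul, map_pow, map_zero]
      exact hm
    have h3 : (Y.presheaf.map (homOfLE hle).op).hom b = 0 := by
      have := congrArg (Y.presheaf.map (homOfLE hle).op).hom h2
      rw [map_mul, map_pow, map_zero] at this
      exact (hu.pow m).mul_right_eq_zero.mp this
    rw [h3] at hb
    exact (hu.pow n).mul_left_eq_zero.mp hb
  · intro a' ha'
    obtain ⟨n, a, ha⟩ := hsurj' a'
    have hfix : ∀ g, (act ρ p hinv g (Y.basicOpen f)).hom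
        ((X.presheaf.map (homOfLE hle').op).hom ((p.app U).hom f)) =
        (X.presheaf.map (homOfLE hle').op).hom ((p.app U).hom f) := by
      intro g
      rw [act_res' ρ p hinv g hle, act_app]
    have h1 : ∀ g, ∃ m : ℕ, ((p.app U).hom f) ^ m * ((act ρ p hinv g U).hom a - a) = 0 := by
      intro g
      apply hker'
      rw [map_sub, ← act_res' ρ p hinv g hle, ← ha, map_mul, map_pow, hfix g, ha' g, sub_self]
    choose m hm using h1
    haveI : Fintype G := Fintype.ofFinite G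
    obtain ⟨M, hM⟩ : ∃ M : ℕ, ∀ g, m g ≤ M := ⟨Finset.univ.sup m, fun g => Finset.le_sup (Finset.mem_univ g)⟩
    have h2 : ∀ g, ((p.app U).hom f) ^ M * ((act ρ p hinv g U).hom a - a) = 0 := by
      intro g
      obtain ⟨k, hk⟩ := Nat.exists_eq_add_of_le (hM g)
      rw [hk, pow_add, mul_comm (_ ^ m g), mul_assoc, hm g, mul_zero]
    obtain ⟨b, hb⟩ := hrange (((p.app U).hom f) ^ M * a) (by
      intro g
      rw [map_mul, map_pow, act_app]
      have := h2 g
      rw [mul_sub, sub_eq_zero] at this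
      exact this)
    obtain ⟨u, hu1⟩ := hu.exists_right_inv
    refine ⟨(Y.presheaf.map (homOfLE hle).op).hom b * u ^ (n + M), ?_⟩
    have hunit : IsUnit (((X.presheaf.map (homOfLE hle').op).hom ((p.app U).hom f)) ^ (n + M)) :=
      hu'.pow _
    apply hunit.mul_left_injective
    change _ * _ = _ * _
    rw [hrf, ← map_pow, ← map_mul, mul_assoc, ← mul_pow, mul_comm u, hu1, one_pow, mul_one,
      app_res' p (homOfLE hle) (homOfLE hle') b, hb, map_mul, map_pow, map_pow, ← hrf, pow_add,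
      ← mul_assoc, ha, mul_comm]

end IsQuotH8
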