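import Mathlib
import Groth.Prelude.Def_SGA1

set_option autoImplicit false
open CategoryTheory CategoryTheory.Limits AlgebraicGeometry
universe u

namespace Groth.Agent.Lib.GrpQuot

/-- A surjective morphism of schemes which is injective on sections over every open is an
epimorphism of schemes. -/
theorem epi_of_surjective_of_injective {T V : Scheme.{u}} (q : T ⟶ V)
    (hs : Function.Surjective q.base)
    (hi : ∀ U : V.Opens, Function.Injective (q.app U).hom) : Epi q := by
  refine ⟨fun {Z} a b hab => ?_⟩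
  have hbase : a.base = b.base := by
    ext v
    obtain ⟨t, rfl⟩ := hs v
    have := congrArg (fun f => f.base t) hab
    simpa using this
  refine Scheme.Hom.ext hbase fun U => ?_
  haveI : Mono (q.app (b ⁻¹ᵁ U)) := ConcreteCategory.mono_of_injective _ (hi _)
  rw [← cancel_mono (q.app (b ⁻¹ᵁ U))]
  have hUV : b ⁻¹ᵁ U = a ⁻¹ᵁ U :=
    congrArg (fun f => (TopologicalSpace.Opens.map f).obj U) hbase.symm
  have e1 : a.app U ≫ q.app (a ⁻¹ᵁ U) = (b.app U ≫ q.app (b ⁻¹ᵁ U)) ≫
      T.presheaf.map (eqToHom (congrArg (fun W => q ⁻¹ᵁ W) hUV.symm)).op :=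
    Scheme.Hom.congr_app hab U
  have key : ∀ {A B : (TopologicalSpace.Opens T)ᵒᵖ} (x : A ⟶ B) (y : B ⟶ A),
      T.presheaf.map x ≫ T.presheaf.map y = 𝟙 _ := by
    intro A B x y
    rw [← T.presheaf.map_comp, Subsingleton.elim (x ≫ y) (𝟙 A), T.presheaf.map_id]
  rw [Category.assoc, Scheme.Hom.naturality, ← Category.assoc, e1, Category.assoc, key,
    Category.comp_id]

theorem exists_lift_of_injective {R A B : Type u} [CommRing R] [CommRing A] [CommRing B]
    (φ : A →+* B) (hφ : Function.Injective φ) (α : R →+* B) (h : ∀ r, α r ∈ Set.range φ) :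
    ∃ β : R →+* A, φ.comp β = α := by
  choose β hβ using h
  refine ⟨{ toFun := β
            map_one' := hφ (by rw [hβ, map_one, map_one])
            map_mul' := fun a b => hφ (by rw [hβ, map_mul, map_mul, hβ, hβ])
            map_zero' := hφ (by rw [hβ, map_zero, map_zero])
            map_add' := fun a b => hφ (by rw [hβ, map_add, map_add, hβ, hβ]) },
    RingHom.ext fun r => hβ r⟩

theorem appLE_congr' {X Z : Scheme.{u}} {f f' : X ⟶ Z} (e : f = f') (W : Z.Opens) (T : X.Opens)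
    (h1 : T ≤ f ⁻¹ᵁ W) (h2 : T ≤ f' ⁻¹ᵁ W) : f.appLE W T h1 = f'.appLE W T h2 := by
  subst e; rfl

/-- Glue morphisms defined on a basis-like family of opens, compatible with inclusions. -/
theorem exists_glue_of_basis {Y Z : Scheme.{u}} {I : Type u} (V : I → Y.Opens)
    (hbasis : ∀ (U₀ : Y.Opens) (y : Y), y ∈ U₀ → ∃ i, y ∈ V i ∧ V i ≤ U₀)
    (g : ∀ i, (V i).toScheme ⟶ Z)
    (hg : ∀ i j (hij : V i ≤ V j), Y.homOfLE hij ≫ g j = g i) :
    ∃ h' : Y ⟶ Z, ∀ i, (V i).ι ≫ h' = g i := by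
  have hcov : TopologicalSpace.IsOpenCover V :=
    TopologicalSpace.IsOpenCover.mk (eq_top_iff.mpr fun y _ => by
      obtain ⟨i, hi, -⟩ := hbasis ⊤ y trivial
      exact TopologicalSpace.Opens.mem_iSup.mpr ⟨i, hi⟩)
  let 𝒰 : Y.OpenCover := Y.openCoverOfIsOpenCover V hcov
  letI : Preorder 𝒰.I₀ := Preorder.lift V
  have hle : ∀ {i j : 𝒰.I₀}, i ≤ j ↔ (𝒰.f i).opensRange ≤ (𝒰.f j).opensRange := by
    intro i j
    show V i ≤ V j ↔ ((V i).ι).opensRange ≤ ((V j).ι).opensRange
    rw [Scheme.Opens.opensRange_ι, Scheme.Opens.opensRange_ι]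
  have H : TopologicalSpace.Opens.IsBasis (Set.range fun i => (𝒰.f i).opensRange) := by
    rw [TopologicalSpace.Opens.isBasis_iff_nbhd]
    intro U₀ y hy
    obtain ⟨i, hi, hiU⟩ := hbasis U₀ y hy
    refine ⟨(𝒰.f i).opensRange, ⟨i, rfl⟩, ?_, ?_⟩
    · show y ∈ ((V i).ι).opensRange
      rw [Scheme.Opens.opensRange_ι]; exact hi
    · show ((V i).ι).opensRange ≤ U₀
      rw [Scheme.Opens.opensRange_ι]; exact hiU
  letI : 𝒰.LocallyDirected := Scheme.Cover.LocallyDirected.ofIsBasisOpensRange hle H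
  have hc : ∀ {i j : 𝒰.I₀} (hij : i ⟶ j), 𝒰.trans hij ≫ g j = g i := by
    intro i j hij
    have hij' : V i ≤ V j := leOfHom hij
    rw [← hg i j hij']
    congr 1
  exact ⟨𝒰.glueMorphismsOfLocallyDirected g hc,
    fun i => 𝒰.map_glueMorphismsOfLocallyDirected g hc i⟩

end Groth.Agent.Lib.GrpQuot
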