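import Mathlib
import Groth.Prelude.Def_SGA1

set_option autoImplicit false
open CategoryTheory CategoryTheory.Limits AlgebraicGeometry
universe u

namespace Groth.Agent.Lib.GrpQuot

/-- Ring-level statement: a finite group acting (on the right, through ring endomorphisms `σ g`)
on `B` with invariants exactly the image of `φ : A → B`: then `φ` is integral and the group acts
transitively on the fibres of `Spec B → Spec A`. -/
theorem ring_quot {A B : Type u} [CommRing A] [CommRing B] (φ : A →+* B) {G : Type u} [Group G]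
    [Finite G] (σ : G → B →+* B) (h1 : ∀ b, σ 1 b = b)
    (hmul : ∀ g h b, σ (g * h) b = σ h (σ g b))
    (hrange : ∀ b, b ∈ Set.range φ ↔ ∀ g, σ g b = b) :
    φ.IsIntegral ∧ ∀ P Q : PrimeSpectrum B, PrimeSpectrum.comap φ P = PrimeSpectrum.comap φ Q →
      ∃ g : G, PrimeSpectrum.comap (σ g) P = Q := by
  letI : Algebra A B := φ.toAlgebra
  letI act : MulSemiringAction G B :=
    { smul := fun g b => σ g⁻¹ b
      one_smul := fun b => by
        show σ (1 : G)⁻¹ b = b
        rw [inv_one]; exact h1 b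
      mul_smul := fun g h b => by
        show σ (g * h)⁻¹ b = σ g⁻¹ (σ h⁻¹ b)
        rw [mul_inv_rev]; exact hmul _ _ _
      smul_zero := fun g => map_zero (σ g⁻¹)
      smul_add := fun g a b => map_add (σ g⁻¹) a b
      smul_one := fun g => map_one (σ g⁻¹)
      smul_mul := fun g a b => map_mul (σ g⁻¹) a b }
  have hsm : ∀ (g : G) (b : B), g • b = σ g⁻¹ b := fun _ _ => rfl
  haveI : SMulCommClass G A B := ⟨fun g a b => by
    show σ g⁻¹ (φ a * b) = φ a * σ g⁻¹ b
    rw [map_mul]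
    congr 1
    exact (hrange (φ a)).mp ⟨a, rfl⟩ g⁻¹⟩
  haveI : Algebra.IsInvariant A B G := ⟨fun b hb => by
    have : b ∈ Set.range φ := (hrange b).mpr fun g => by
      have := hb g⁻¹
      rw [hsm, inv_inv] at this
      exact this
    exact this⟩
  refine ⟨?_, ?_⟩
  · have := Algebra.IsInvariant.isIntegral A B G
    exact fun b => this.isIntegral b
  · intro P Q h
    haveI := P.isPrime
    haveI := Q.isPrime
    obtain ⟨g, hg⟩ := Algebra.IsInvariant.exists_smul_of_under_eq A B G P.asIdeal Q.asIdeal (by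
      have := congrArg PrimeSpectrum.asIdeal h
      exact this)
    refine ⟨g, PrimeSpectrum.ext ?_⟩
    show Ideal.comap (σ g) P.asIdeal = Q.asIdeal
    rw [hg]
    ext b
    rw [Ideal.mem_comap, Ideal.mem_pointwise_smul_iff_inv_smul_mem, hsm, inv_inv]

theorem appLE_congr {X : Scheme.{u}} {f f' : X ⟶ X} (h : f = f') (V : X.Opens)
    (e : V ≤ f ⁻¹ᵁ V) (e' : V ≤ f' ⁻¹ᵁ V) : f.appLE V V e = f'.appLE V V e' := by
  subst h; rfl

theorem appLE_id_apply {X : Scheme.{u}} (V : X.Opens) (e : V ≤ (𝟙 X : X ⟶ X) ⁻¹ᵁ V)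
    (b : Γ(X, V)) : ((𝟙 X : X ⟶ X).appLE V V e).hom b = b := by
  change (X.presheaf.map (𝟙 (Opposite.op V))).hom b = b
  rw [X.presheaf.map_id]
  rfl

theorem SpecMap_apply {R S : CommRingCat.{u}} (φ : R ⟶ S) (x : Spec S) :
    (Spec.map φ).base x = PrimeSpectrum.comap φ.hom x := rfl

/-- The affine-local data of a quotient by a finite group: over every open `U` of `Y`, the map on
sections is integral and `G` acts transitively on the fibres of the map of prime spectra. -/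
theorem isQuot_affine_data {X Y : Scheme.{u}} {G : Type u} [Group G] [Finite G] (ρ : G →* Aut X)
    (p : X ⟶ Y) (hp : SGA1.IsQuot ρ p) (U : Y.Opens) :
    (p.app U).hom.IsIntegral ∧ ∀ P Q : PrimeSpectrum Γ(X, p ⁻¹ᵁ U),
      PrimeSpectrum.comap (p.app U).hom P = PrimeSpectrum.comap (p.app U).hom Q →
      ∃ g : G, PrimeSpectrum.comap
        ((ρ g).hom.appLE (p ⁻¹ᵁ U) (p ⁻¹ᵁ U) (SGA1.preimage_le_of_inv ρ p hp.inv g U)).hom P = Q := by
  refine ring_quot (p.app U).hom
    (fun g => ((ρ g).hom.appLE (p ⁻¹ᵁ U) (p ⁻¹ᵁ U)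
      (SGA1.preimage_le_of_inv ρ p hp.inv g U)).hom) ?_ ?_ (fun b => hp.range_iff U b)
  · intro b
    have h1 : (ρ 1).hom = 𝟙 X := by rw [map_one]; rfl
    have := appLE_congr h1 (p ⁻¹ᵁ U) (SGA1.preimage_le_of_inv ρ p hp.inv 1 U) le_rfl
    show ((ρ 1).hom.appLE (p ⁻¹ᵁ U) (p ⁻¹ᵁ U) _).hom b = b
    rw [this]
    exact appLE_id_apply _ _ b
  · intro g h b
    have h2 : (ρ (g * h)).hom = (ρ h).hom ≫ (ρ g).hom := by rw [map_mul]; rfl
    have e1 := appLE_congr h2 (p ⁻¹ᵁ U) (SGA1.preimage_le_of_inv ρ p hp.inv (g * h) U)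
      ((SGA1.preimage_le_of_inv ρ p hp.inv h U).trans
        ((TopologicalSpace.Opens.map (ρ h).hom.base).map (homOfLE (SGA1.preimage_le_of_inv ρ p hp.inv g U))).le)
    have e2 := Scheme.Hom.appLE_comp_appLE (ρ h).hom (ρ g).hom (p ⁻¹ᵁ U) (p ⁻¹ᵁ U) (p ⁻¹ᵁ U)
      (SGA1.preimage_le_of_inv ρ p hp.inv g U) (SGA1.preimage_le_of_inv ρ p hp.inv h U)
    show ((ρ (g * h)).hom.appLE (p ⁻¹ᵁ U) (p ⁻¹ᵁ U) _).hom b = _
    rw [e1, ← e2]
    rfl

end Groth.Agent.Lib.GrpQuot
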