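import Mathlib
import Groth.Agent.Lib.IsQuot2_helper8
import Groth.Agent.S2925
import Groth.Agent.S13606
set_option autoImplicit false
open AlgebraicGeometry CategoryTheory CategoryTheory.Limits TopologicalSpace
universe u
namespace IsQuotH8

variable {X Y : Scheme.{u}} {G : Type u} [Group G] [Finite G]

/-- A morphism of affine schemes which on global sections is injective with image the
invariants is a quotient. -/
theorem isQuot_of_affine [IsAffine X] [IsAffine Y] (ρ : G →* Aut X) (p : X ⟶ Y)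
    (hinv : ∀ g : G, (ρ g).hom ≫ p = p)
    (hinj : Function.Injective (p.app ⊤).hom)
    (hrange : ∀ s : Γ(X, p ⁻¹ᵁ ⊤), (∀ g, (act ρ p hinv g ⊤).hom s = s) →
      s ∈ Set.range (p.app ⊤).hom) :
    SGA1.IsQuot ρ p := by
  refine isQuot_of_basis ρ p inferInstance hinv _ (isBasis_basicOpen Y) ?_ ?_
  · rintro _ ⟨f, rfl⟩
    exact (isQuot_basicOpen ρ p hinv (isAffineOpen_top Y) (isAffineOpen_top X) f hinj hrange).1
  · rintro _ ⟨f, rfl⟩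
    exact (isQuot_basicOpen ρ p hinv (isAffineOpen_top Y) (isAffineOpen_top X) f hinj hrange).2

/-- The quotient of an affine scheme by a finite group is affine. -/
theorem isAffine_of_isQuot [IsAffine X] (ρ : G →* Aut X) (p : X ⟶ Y) (hp : SGA1.IsQuot ρ p) :
    IsAffine Y := by
  have hinv' : ∀ g : G, (ρ g).hom ≫ p ≫ Y.toSpecΓ = p ≫ Y.toSpecΓ := by
    intro g
    rw [← Category.assoc, hp.inv g]
  have happ : (p ≫ Y.toSpecΓ).app ⊤ = (Scheme.ΓSpecIso Γ(Y, ⊤)).hom ≫ p.app ⊤ := by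
    rw [Scheme.Hom.comp_app]
    congr 1
    exact Scheme.toSpecΓ_appTop Y
  have hq : SGA1.IsQuot ρ (p ≫ Y.toSpecΓ) := by
    refine isQuot_of_affine ρ (p ≫ Y.toSpecΓ) hinv' ?_ ?_
    · rw [happ]
      intro a b hab
      have h1 := hp.injective ⊤ hab
      exact (ConcreteCategory.bijective_of_isIso (Scheme.ΓSpecIso Γ(Y, ⊤)).hom).1 h1
    · intro s hs
      obtain ⟨t, ht⟩ := (hp.range_iff ⊤ s).mpr hs
      rw [happ]
      obtain ⟨t', rfl⟩ := (ConcreteCategory.bijective_of_isIso (Scheme.ΓSpecIso Γ(Y, ⊤)).hom).2 t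
      exact ⟨t', ht⟩
  obtain ⟨h', hh', -⟩ := Groth.Agent.S2925.result ρ (p ≫ Y.toSpecΓ) hq Y p hp.inv
  obtain ⟨k, -, hk⟩ := Groth.Agent.S2925.result ρ p hp Y p hp.inv
  obtain ⟨k', -, hk'⟩ := Groth.Agent.S2925.result ρ (p ≫ Y.toSpecΓ) hq _ (p ≫ Y.toSpecΓ) hinv'
  have e1 : Y.toSpecΓ ≫ h' = 𝟙 Y := by
    rw [hk (Y.toSpecΓ ≫ h') (by change p ≫ Y.toSpecΓ ≫ h' = p; rw [← Category.assoc]; exact hh'),
      hk (𝟙 Y) (Category.comp_id p)]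
  have e2 : h' ≫ Y.toSpecΓ = 𝟙 _ := by
    rw [hk' (h' ≫ Y.toSpecΓ) (by
        change (p ≫ Y.toSpecΓ) ≫ h' ≫ Y.toSpecΓ = p ≫ Y.toSpecΓ
        rw [← Category.assoc, hh']), hk' (𝟙 _) (Category.comp_id _)]
  exact ⟨⟨h', e1, e2⟩⟩


omit [Finite G] in
theorem hom_mul (ρ : G →* Aut X) (a b : G) : (ρ (a * b)).hom = (ρ b).hom ≫ (ρ a).hom := by
  rw [map_mul]; rfl

omit [Finite G] in
theorem hom_one (ρ : G →* Aut X) : (ρ 1).hom = 𝟙 X := by
  rw [map_one]; rfl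

omit [Finite G] in
theorem hom_comp_inv (ρ : G →* Aut X) (g : G) : (ρ g).hom ≫ (ρ g⁻¹).hom = 𝟙 X := by
  rw [← hom_mul, inv_mul_cancel, hom_one]

omit [Finite G] in
theorem inv_comp_hom (ρ : G →* Aut X) (g : G) : (ρ g⁻¹).hom ≫ (ρ g).hom = 𝟙 X := by
  rw [← hom_mul, mul_inv_cancel, hom_one]

/-- The restriction of the action to the invariant open `p⁻¹V`. -/
noncomputable def restrictAut (ρ : G →* Aut X) (p : X ⟶ Y) (hinv : ∀ g : G, (ρ g).hom ≫ p = p)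
    (V : Y.Opens) : G →* Aut (p ⁻¹ᵁ V).toScheme :=
  MonoidHom.mk' (fun g =>
    { hom := (ρ g).hom.resLE (p ⁻¹ᵁ V) (p ⁻¹ᵁ V) (SGA1.preimage_le_of_inv ρ p hinv g V)
      inv := (ρ g⁻¹).hom.resLE (p ⁻¹ᵁ V) (p ⁻¹ᵁ V) (SGA1.preimage_le_of_inv ρ p hinv g⁻¹ V)
      hom_inv_id := by
        rw [← cancel_mono (p ⁻¹ᵁ V).ι, Category.assoc, Scheme.Hom.resLE_comp_ι,
          Scheme.Hom.resLE_comp_ι_assoc, Category.id_comp, hom_comp_inv, Category.comp_id]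
      inv_hom_id := by
        rw [← cancel_mono (p ⁻¹ᵁ V).ι, Category.assoc, Scheme.Hom.resLE_comp_ι,
          Scheme.Hom.resLE_comp_ι_assoc, Category.id_comp, inv_comp_hom, Category.comp_id] })
    (fun g h => by
      apply Iso.ext
      change (ρ (g * h)).hom.resLE (p ⁻¹ᵁ V) (p ⁻¹ᵁ V) _ =
        (ρ h).hom.resLE (p ⁻¹ᵁ V) (p ⁻¹ᵁ V) _ ≫ (ρ g).hom.resLE (p ⁻¹ᵁ V) (p ⁻¹ᵁ V) _
      rw [← cancel_mono (p ⁻¹ᵁ V).ι, Category.assoc, Scheme.Hom.resLE_comp_ι,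
        Scheme.Hom.resLE_comp_ι, Scheme.Hom.resLE_comp_ι_assoc, hom_mul])

omit [Finite G] in
theorem restrictAut_ι (ρ : G →* Aut X) (p : X ⟶ Y) (hinv : ∀ g : G, (ρ g).hom ≫ p = p)
    (V : Y.Opens) (g : G) :
    ((restrictAut ρ p hinv V) g).hom ≫ (p ⁻¹ᵁ V).ι = (p ⁻¹ᵁ V).ι ≫ (ρ g).hom :=
  Scheme.Hom.resLE_comp_ι _ _

theorem isQuot_restrict (ρ : G →* Aut X) (p : X ⟶ Y) (hp : SGA1.IsQuot ρ p) (V : Y.Opens) :
    SGA1.IsQuot (restrictAut ρ p hp.inv V) (p ∣_ V) :=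
  Groth.Agent.S13606.result ρ p hp V (restrictAut ρ p hp.inv V)
    (fun g => restrictAut_ι ρ p hp.inv V g)

theorem isAffineOpen_of_isQuot (ρ : G →* Aut X) (p : X ⟶ Y) (hp : SGA1.IsQuot ρ p) (V : Y.Opens)
    (hV : IsAffineOpen (p ⁻¹ᵁ V)) : IsAffineOpen V := by
  haveI : IsAffine (p ⁻¹ᵁ V).toScheme := hV
  exact isAffine_of_isQuot _ (p ∣_ V) (isQuot_restrict ρ p hp V)

end IsQuotH8
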