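import Mathlib
import Groth.Agent.Lib.IsQuot3_helper8
set_option autoImplicit false
open AlgebraicGeometry CategoryTheory CategoryTheory.Limits TopologicalSpace
universe u
namespace IsQuotH8

variable {X Y : Scheme.{u}} {G : Type u} [Group G] [Finite G]

theorem epi_of_isQuot (ρ : G →* Aut X) (p : X ⟶ Y) (hp : SGA1.IsQuot ρ p) : Epi p := by
  refine ⟨fun {Z} a b hab => ?_⟩
  obtain ⟨k, -, hk⟩ := Groth.Agent.S2925.result ρ p hp Z (p ≫ a) (fun g => by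
    rw [← Category.assoc, hp.inv g])
  rw [hk a rfl, hk b hab.symm]

/-- Equivariance on sections. -/
theorem appLE_comp_eq {X Y' : Scheme.{u}} (a : X ⟶ X) (b : Y' ⟶ Y') (q : X ⟶ Y')
    (h : q ≫ b = a ≫ q) (V : Y'.Opens) (e1 : V ≤ b ⁻¹ᵁ V) (e2 : q ⁻¹ᵁ V ≤ a ⁻¹ᵁ (q ⁻¹ᵁ V))
    (s : Γ(Y', V)) :
    (a.appLE (q ⁻¹ᵁ V) (q ⁻¹ᵁ V) e2).hom ((q.app V).hom s) =
      (q.app V).hom ((b.appLE V V e1).hom s) := by
  have h1 : q.app V ≫ a.appLE (q ⁻¹ᵁ V) (q ⁻¹ᵁ V) e2 = (a ≫ q).appLE V (q ⁻¹ᵁ V) e2 :=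
    (Scheme.Hom.comp_appLE a q V (q ⁻¹ᵁ V) e2).symm
  have h2 : b.appLE V V e1 ≫ q.app V = (q ≫ b).appLE V (q ⁻¹ᵁ V)
      (fun x hx => e1 hx) := by
    rw [Scheme.Hom.app_eq_appLE q, Scheme.Hom.appLE_comp_appLE]
  have h3 := appLE_congr h V (q ⁻¹ᵁ V) (fun x hx => e1 hx) e2
  have := congrArg (fun m => m.hom s) (h1.trans (h3.symm.trans h2.symm))
  exact this

end IsQuotH8
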