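import Mathlib
import Groth.Prelude.Def_SGA1
import Groth.Agent.Lib.IsQuot4_helper8

/-!
# Quotients by finite groups are local on the target (helper6)

`isQuot_of_charts`: if `p : X ⟶ Y` is `G`-invariant and `Y` is covered by opens over which `p` is
(up to open immersions, in a cartesian square) a quotient, then `p` is a quotient.
Corollaries: transport of `SGA1.IsQuot` along equivariant isomorphisms of source and target.
-/

set_option backward.isDefEq.respectTransparency false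
set_option backward.isDefEq.respectTransparency.types false
set_option autoImplicit false

universe u

open CategoryTheory CategoryTheory.Limits AlgebraicGeometry TopologicalSpace

namespace Groth.Agent.Lib.GQuotH6

variable {X Y : Scheme.{u}} {G : Type u} [Group G]

/-- `appLE` along an open immersion is bijective on opens inside the range. -/
lemma appLE_bijective {X' X : Scheme.{u}} (a : X' ⟶ X) [IsOpenImmersion a] (V : X.Opens)
    (hV : V ≤ a.opensRange) (T : X'.Opens) (hT : T = a ⁻¹ᵁ V) :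
    Function.Bijective (a.appLE V T hT.le).hom := by
  subst hT
  rw [Scheme.Hom.appLE_eq_app]
  haveI := a.isIso_app V hV
  exact ConcreteCategory.bijective_of_isIso (a.app V)

lemma chart_spec (ρ : G →* Aut X) (p : X ⟶ Y) (hinv : ∀ g : G, (ρ g).hom ≫ p = p)
    {X' Y' : Scheme.{u}} (a : X' ⟶ X) (b : Y' ⟶ Y) (q : X' ⟶ Y') (ρ' : G →* Aut X')
    [IsOpenImmersion a] [IsOpenImmersion b] (pb : IsPullback q a b p)
    (heq : ∀ g, (ρ' g).hom ≫ a = a ≫ (ρ g).hom) (hq : SGA1.IsQuot ρ' q)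
    (U : Y.Opens) (hU : U ≤ b.opensRange) :
    Function.Injective (p.app U).hom ∧
    ∀ s : Γ(X, p ⁻¹ᵁ U), (∀ g, (IsQuotH8.act ρ p hinv g U).hom s = s) →
      s ∈ Set.range (p.app U).hom := by
  obtain ⟨U', hU'⟩ : ∃ U' : Y'.Opens, U' = b ⁻¹ᵁ U := ⟨_, rfl⟩
  obtain ⟨T, hT⟩ : ∃ T : X'.Opens, T = q ⁻¹ᵁ U' := ⟨_, rfl⟩
  have hTa : T = a ⁻¹ᵁ (p ⁻¹ᵁ U) := by
    rw [hT, hU', ← Scheme.Hom.comp_preimage, ← Scheme.Hom.comp_preimage, pb.w]
  have hpU : p ⁻¹ᵁ U ≤ a.opensRange := by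
    intro x hx
    obtain ⟨y', hy'⟩ := hU hx
    obtain ⟨x', -, hx'2⟩ := Scheme.exists_preimage_of_isPullback pb y' x hy'
    exact ⟨x', hx'2⟩
  have hbij_a := appLE_bijective a (p ⁻¹ᵁ U) hpU T hTa
  have hbij_b : Function.Bijective (b.app U).hom := by
    haveI := b.isIso_app U hU
    exact ConcreteCategory.bijective_of_isIso (b.app U)
  have hTq : T ≤ q ⁻¹ᵁ U' := hT.le
  have hU'b : U' ≤ b ⁻¹ᵁ U := hU'.le
  have key : p.app U ≫ a.appLE (p ⁻¹ᵁ U) T hTa.le =
      b.appLE U U' hU'b ≫ q.appLE U' T hTq := by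
    rw [← Scheme.Hom.comp_appLE, Scheme.Hom.appLE_comp_appLE]
    exact IsQuotH8.appLE_congr pb.w.symm U T _ _
  have key' : ∀ t : Γ(Y, U), (a.appLE (p ⁻¹ᵁ U) T hTa.le).hom ((p.app U).hom t) =
      (q.appLE U' T hTq).hom ((b.appLE U U' hU'b).hom t) := fun t =>
    congrArg (fun m => m.hom t) key
  have hbij_b' : Function.Bijective (b.appLE U U' hU'b).hom := by
    subst hU'
    rw [Scheme.Hom.appLE_eq_app]
    exact hbij_b
  have hq_inj : Function.Injective (q.appLE U' T hTq).hom := by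
    subst hT
    rw [Scheme.Hom.appLE_eq_app]
    exact hq.injective U'
  constructor
  · intro t t' htt
    apply hbij_b'.1
    apply hq_inj
    rw [← key', ← key', htt]
  · intro s hs
    have hinv' : ∀ g, T ≤ (ρ' g).hom ⁻¹ᵁ T := by
      intro g
      rw [hT]
      exact SGA1.preimage_le_of_inv ρ' q hq.inv g U'
    have hact : ∀ g, ((ρ' g).hom.appLE T T (hinv' g)).hom
        ((a.appLE (p ⁻¹ᵁ U) T hTa.le).hom s) = (a.appLE (p ⁻¹ᵁ U) T hTa.le).hom s := by
      intro g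
      have e1 : a.appLE (p ⁻¹ᵁ U) T hTa.le ≫ (ρ' g).hom.appLE T T (hinv' g) =
          IsQuotH8.act ρ p hinv g U ≫ a.appLE (p ⁻¹ᵁ U) T hTa.le := by
        unfold IsQuotH8.act
        rw [Scheme.Hom.appLE_comp_appLE, Scheme.Hom.appLE_comp_appLE]
        exact IsQuotH8.appLE_congr (heq g) _ _ _ _
      have e2 := congrArg (fun m => m.hom s) e1
      simp only [CommRingCat.hom_comp, RingHom.coe_comp, Function.comp_apply] at e2
      rw [e2, hs g]
    have hrange : (a.appLE (p ⁻¹ᵁ U) T hTa.le).hom s ∈ Set.range (q.appLE U' T hTq).hom := by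
      subst hT
      rw [Scheme.Hom.appLE_eq_app]
      exact (hq.range_iff U' _).mpr hact
    obtain ⟨t₀, ht₀⟩ := hrange
    obtain ⟨t, rfl⟩ := hbij_b'.2 t₀
    refine ⟨t, hbij_a.1 ?_⟩
    rw [key', ht₀]

/-- `U` is a chart for `p`: over (a neighbourhood of) `U` the morphism `p` is a quotient. -/
def Chart (ρ : G →* Aut X) (p : X ⟶ Y) (U : Y.Opens) : Prop :=
  ∃ (X' Y' : Scheme.{u}) (a : X' ⟶ X) (b : Y' ⟶ Y) (q : X' ⟶ Y') (ρ' : G →* Aut X'),
    IsOpenImmersion a ∧ IsOpenImmersion b ∧ IsPullback q a b p ∧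
    (∀ g, (ρ' g).hom ≫ a = a ≫ (ρ g).hom) ∧ ((U : Set Y) ⊆ Set.range b) ∧ SGA1.IsQuot ρ' q

lemma Chart.mono {ρ : G →* Aut X} {p : X ⟶ Y} {U U' : Y.Opens} (h : Chart ρ p U) (hle : U' ≤ U) :
    Chart ρ p U' := by
  obtain ⟨X', Y', a, b, q, ρ', ha, hb, pb, heq, hU, hq⟩ := h
  exact ⟨X', Y', a, b, q, ρ', ha, hb, pb, heq, fun y hy => hU (hle hy), hq⟩

variable [Finite G]

/-- Being a quotient is local on the target. -/
theorem isQuot_of_charts (ρ : G →* Aut X) (p : X ⟶ Y) (hinv : ∀ g : G, (ρ g).hom ≫ p = p)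
    (H : ∀ y : Y, ∃ U : Y.Opens, y ∈ U ∧ Chart ρ p U) : SGA1.IsQuot ρ p := by
  have haff : IsAffineHom p := by
    apply isAffineHom_of_forall_exists_isAffineOpen
    intro y
    obtain ⟨U, hyU, X', Y', a, b, q, ρ', ha, hb, pb, heq, hU, hq⟩ := H y
    obtain ⟨y', rfl⟩ := hU hyU
    obtain ⟨U', hU', hy'U', -⟩ := exists_isAffineOpen_mem_and_subset (x := y') (U := ⊤) trivial
    refine ⟨b ''ᵁ U', ⟨y', hy'U', rfl⟩, hU'.image_of_isOpenImmersion b, ?_⟩
    have e : p ⁻¹ᵁ (b ''ᵁ U') = a ''ᵁ (q ⁻¹ᵁ U') := by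
      ext x
      constructor
      · rintro ⟨y'', hy'', hxy⟩
        obtain ⟨x', hx'1, hx'2⟩ := Scheme.exists_preimage_of_isPullback pb y'' x hxy
        exact ⟨x', by show q.base x' ∈ U'; rw [hx'1]; exact hy'', hx'2⟩
      · rintro ⟨x', hx', rfl⟩
        refine ⟨q.base x', hx', ?_⟩
        have := congrArg (fun f => f.base x') pb.w
        simpa using this
    rw [e]
    haveI := hq.affine
    exact (hU'.preimage q).image_of_isOpenImmersion a
  have hB : Opens.IsBasis {U : Y.Opens | Chart ρ p U} := by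
    rw [Opens.isBasis_iff_nbhd]
    intro O y hy
    obtain ⟨U, hyU, hU⟩ := H y
    exact ⟨U ⊓ O, hU.mono inf_le_left, ⟨hyU, hy⟩, inf_le_right⟩
  refine IsQuotH8.isQuot_of_basis ρ p haff hinv _ hB ?_ ?_
  · rintro U ⟨X', Y', a, b, q, ρ', ha, hb, pb, heq, hU, hq⟩
    exact (chart_spec ρ p hinv a b q ρ' pb heq hq U hU).1
  · rintro U ⟨X', Y', a, b, q, ρ', ha, hb, pb, heq, hU, hq⟩
    exact (chart_spec ρ p hinv a b q ρ' pb heq hq U hU).2

/-- Transport of a quotient along equivariant isomorphisms of source and target. -/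
theorem isQuot_of_iso {X' Y' : Scheme.{u}} (ρ : G →* Aut X) (p : X ⟶ Y) (hp : SGA1.IsQuot ρ p)
    (ρ' : G →* Aut X') (e : X' ≅ X) (d : Y ≅ Y')
    (heq : ∀ g, (ρ' g).hom ≫ e.hom = e.hom ≫ (ρ g).hom) :
    SGA1.IsQuot ρ' (e.hom ≫ p ≫ d.hom) := by
  have hinv : ∀ g : G, (ρ' g).hom ≫ e.hom ≫ p ≫ d.hom = e.hom ≫ p ≫ d.hom := by
    intro g
    rw [← Category.assoc, heq g, Category.assoc, ← Category.assoc (ρ g).hom, hp.inv g]
  refine isQuot_of_charts ρ' _ hinv (fun y => ⟨⊤, trivial, X, Y, e.inv, d.hom, p, ρ,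
    inferInstance, inferInstance, ?_, ?_, ?_, hp⟩)
  · exact IsPullback.of_vert_isIso ⟨by simp⟩
  · intro g
    rw [← cancel_mono e.hom, Category.assoc, Category.assoc, e.inv_hom_id, Category.comp_id,
      heq g, e.inv_hom_id_assoc]
  · intro y _
    exact ⟨d.inv.base y, by rw [← Scheme.Hom.comp_apply, d.inv_hom_id]; rfl⟩

end Groth.Agent.Lib.GQuotH6
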