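import Mathlib
import Groth.Agent.Lib.GQuot1_helper6
import Groth.Agent.S2908
import Groth.Agent.S2925

/-!
# Quotients by finite groups: restriction to invariant opens, open immersions (helper6)
-/

set_option backward.isDefEq.respectTransparency false
set_option backward.isDefEq.respectTransparency.types false
set_option autoImplicit false

universe u

open CategoryTheory CategoryTheory.Limits AlgebraicGeometry TopologicalSpace

namespace Groth.Agent.Lib.GQuotH6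

variable {X Y : Scheme.{u}} {G : Type u} [Group G]

/-- The restriction of the action to an invariant open `W`. -/
noncomputable def restrictAutOpen (ρ : G →* Aut X) (W : X.Opens)
    (hW : ∀ g : G, W ≤ (ρ g).hom ⁻¹ᵁ W) : G →* Aut W.toScheme :=
  MonoidHom.mk' (fun g =>
    { hom := (ρ g).hom.resLE W W (hW g)
      inv := (ρ g⁻¹).hom.resLE W W (hW g⁻¹)
      hom_inv_id := by
        rw [← cancel_mono W.ι, Category.assoc, Scheme.Hom.resLE_comp_ι,
          Scheme.Hom.resLE_comp_ι_assoc, Category.id_comp, IsQuotH8.hom_comp_inv,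
          Category.comp_id]
      inv_hom_id := by
        rw [← cancel_mono W.ι, Category.assoc, Scheme.Hom.resLE_comp_ι,
          Scheme.Hom.resLE_comp_ι_assoc, Category.id_comp, IsQuotH8.inv_comp_hom,
          Category.comp_id] })
    (fun g h => by
      apply Iso.ext
      change (ρ (g * h)).hom.resLE W W _ = (ρ h).hom.resLE W W _ ≫ (ρ g).hom.resLE W W _
      rw [← cancel_mono W.ι, Category.assoc, Scheme.Hom.resLE_comp_ι,
        Scheme.Hom.resLE_comp_ι, Scheme.Hom.resLE_comp_ι_assoc, IsQuotH8.hom_mul])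

theorem restrictAutOpen_ι (ρ : G →* Aut X) (W : X.Opens) (hW : ∀ g : G, W ≤ (ρ g).hom ⁻¹ᵁ W)
    (g : G) : ((restrictAutOpen ρ W hW) g).hom ≫ W.ι = W.ι ≫ (ρ g).hom :=
  Scheme.Hom.resLE_comp_ι _ _

/-- Compatibility of restricted actions with inclusions of invariant opens. -/
theorem restrictAutOpen_homOfLE (ρ : G →* Aut X) (W W' : X.Opens)
    (hW : ∀ g : G, W ≤ (ρ g).hom ⁻¹ᵁ W) (hW' : ∀ g : G, W' ≤ (ρ g).hom ⁻¹ᵁ W')
    (hle : W' ≤ W) (g : G) :
    ((restrictAutOpen ρ W' hW') g).hom ≫ X.homOfLE hle =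
      X.homOfLE hle ≫ ((restrictAutOpen ρ W hW) g).hom := by
  rw [← cancel_mono W.ι, Category.assoc, Category.assoc, X.homOfLE_ι, restrictAutOpen_ι,
    restrictAutOpen_ι, X.homOfLE_ι_assoc]

variable [Finite G]

/-- A quotient map by a finite group is open. -/
theorem isOpenMap_of_isQuot (ρ : G →* Aut X) (p : X ⟶ Y) (hp : SGA1.IsQuot ρ p) :
    IsOpenMap p.base := by
  obtain ⟨-, horb, hquot⟩ := Groth.Agent.S2908.result ρ p hp
  intro O hO
  rw [← hquot.isOpen_preimage]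
  have e : p.base ⁻¹' (p.base '' O) = ⋃ g : G, (ρ g).hom.base '' O := by
    ext x
    simp only [Set.mem_preimage, Set.mem_image, Set.mem_iUnion]
    constructor
    · rintro ⟨x', hx', hxx⟩
      obtain ⟨g, hg⟩ := (horb x' x).mp hxx
      exact ⟨g, x', hx', hg⟩
    · rintro ⟨g, x', hx', rfl⟩
      exact ⟨x', hx', (horb x' _).mpr ⟨g, rfl⟩⟩
  rw [e]
  exact isOpen_iUnion fun g => (ρ g).hom.isOpenEmbedding.isOpenMap O hO

/-- A morphism between quotients induced by an equivariant open immersion is an open immersion,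
and the square is cartesian. -/
theorem isOpenImmersion_and_isPullback {X₁ Y₁ X₂ Y₂ : Scheme.{u}}
    (ρ₁ : G →* Aut X₁) (q : X₁ ⟶ Y₁) (hq : SGA1.IsQuot ρ₁ q)
    (ρ₂ : G →* Aut X₂) (q₂ : X₂ ⟶ Y₂) (hq₂ : SGA1.IsQuot ρ₂ q₂)
    (i : X₂ ⟶ X₁) [IsOpenImmersion i] (hi : ∀ g, (ρ₂ g).hom ≫ i = i ≫ (ρ₁ g).hom)
    (m : Y₂ ⟶ Y₁) (hm : q₂ ≫ m = i ≫ q) :
    IsOpenImmersion m ∧ IsPullback q₂ i m q := by
  obtain ⟨-, horb, -⟩ := Groth.Agent.S2908.result ρ₁ q hq
  let V : Y₁.Opens := ⟨q.base '' (Set.range i.base),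
    isOpenMap_of_isQuot ρ₁ q hq _ i.isOpenEmbedding.isOpen_range⟩
  have hV : q ⁻¹ᵁ V = i.opensRange := by
    ext x
    constructor
    · rintro ⟨x', ⟨x₂, rfl⟩, hxx⟩
      obtain ⟨g, hg⟩ := (horb _ x).mp hxx
      refine ⟨(ρ₂ g).hom.base x₂, ?_⟩
      have := congrArg (fun f => f.base x₂) (hi g)
      simp only [Scheme.Hom.comp_base, TopCat.comp_app] at this
      exact this.trans hg
    · rintro ⟨x₂, rfl⟩
      exact ⟨i.base x₂, ⟨x₂, rfl⟩, rfl⟩
  have hquotV := IsQuotH8.isQuot_restrict ρ₁ q hq V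
  have hrange : Set.range i.base = Set.range (q ⁻¹ᵁ V).ι.base := by
    rw [Scheme.Opens.range_ι, hV]
    rfl
  let e : X₂ ≅ (q ⁻¹ᵁ V).toScheme := IsOpenImmersion.isoOfRangeEq i (q ⁻¹ᵁ V).ι hrange
  have he : e.hom ≫ (q ⁻¹ᵁ V).ι = i := IsOpenImmersion.isoOfRangeEq_hom_fac _ _ _
  have heq : ∀ g, (ρ₂ g).hom ≫ e.hom = e.hom ≫ ((IsQuotH8.restrictAut ρ₁ q hq.inv V) g).hom := by
    intro g
    rw [← cancel_mono (q ⁻¹ᵁ V).ι, Category.assoc, Category.assoc, he,
      IsQuotH8.restrictAut_ι, ← Category.assoc, he, hi g]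
  have hq'' : SGA1.IsQuot ρ₂ (e.hom ≫ (q ∣_ V)) := by
    have := isQuot_of_iso _ (q ∣_ V) hquotV ρ₂ e (Iso.refl _) heq
    simpa using this
  haveI hepi₂ : Epi q₂ := IsQuotH8.epi_of_isQuot ρ₂ q₂ hq₂
  haveI hepi'' : Epi (e.hom ≫ (q ∣_ V)) := IsQuotH8.epi_of_isQuot ρ₂ _ hq''
  obtain ⟨θ, hθ, -⟩ := Groth.Agent.S2925.result ρ₂ q₂ hq₂ V.toScheme (e.hom ≫ (q ∣_ V)) hq''.inv
  obtain ⟨θ', hθ', -⟩ := Groth.Agent.S2925.result ρ₂ (e.hom ≫ (q ∣_ V)) hq'' Y₂ q₂ hq₂.inv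
  have h1 : θ ≫ θ' = 𝟙 _ := by
    rw [← cancel_epi q₂, ← Category.assoc, hθ, hθ', Category.comp_id]
  have h2 : θ' ≫ θ = 𝟙 _ := by
    rw [← cancel_epi (e.hom ≫ (q ∣_ V)), ← Category.assoc, hθ', hθ, Category.comp_id]
  haveI : IsIso θ := ⟨θ', h1, h2⟩
  have hmθ : m = θ ≫ V.ι := by
    rw [← cancel_epi q₂, hm, ← Category.assoc, hθ, Category.assoc, morphismRestrict_ι,
      ← Category.assoc, he]
  have hopen : IsOpenImmersion m := by
    rw [hmθ]
    infer_instance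
  refine ⟨hopen, ?_⟩
  refine IsOpenImmersion.isPullback q₂ i m q hm.symm ?_
  rw [← hV]
  congr 1
  apply Opens.ext
  rw [Scheme.Hom.coe_opensRange]
  have hr : Set.range m.base = Set.range V.ι.base := by
    rw [hmθ, Scheme.Hom.comp_base, TopCat.coe_comp, Set.range_comp,
      Set.range_eq_univ.mpr (ConcreteCategory.bijective_of_isIso θ.base).2, Set.image_univ]
  rw [hr, Scheme.Opens.range_ι]

end Groth.Agent.Lib.GQuotH6
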