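import Mathlib
import Groth.Agent.Lib.GQuot2_helper6
import Groth.Agent.Lib.FinDesc2_helper6

/-!
# Quotients of affine schemes by finite groups; invariant affine neighbourhoods (helper6)
-/

set_option backward.isDefEq.respectTransparency false
set_option backward.isDefEq.respectTransparency.types false
set_option autoImplicit false

universe u

open CategoryTheory CategoryTheory.Limits AlgebraicGeometry TopologicalSpace

namespace Groth.Agent.Lib.GQuotH6

variable {X : Scheme.{u}} {G : Type u} [Group G]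

/-- The subring of invariant global sections. -/
def invSubring (ρ : G →* Aut X) : Subring Γ(X, ⊤) where
  carrier := {a | ∀ g : G, (ρ g).hom.appTop.hom a = a}
  mul_mem' := fun ha hb g => by rw [map_mul, ha g, hb g]
  one_mem' := fun g => map_one _
  add_mem' := fun ha hb g => by rw [map_add, ha g, hb g]
  zero_mem' := fun g => map_zero _
  neg_mem' := fun ha g => by rw [map_neg, ha g]

variable [Finite G]

/-- An affine scheme with an action of a finite group has an affine quotient. -/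
theorem exists_isQuot_of_isAffine [IsAffine X] (ρ : G →* Aut X) :
    ∃ (Y : Scheme.{u}) (q : X ⟶ Y), IsAffine Y ∧ SGA1.IsQuot ρ q := by
  let B := invSubring ρ
  let j : CommRingCat.of B ⟶ Γ(X, ⊤) := CommRingCat.ofHom B.subtype
  let q : X ⟶ Spec (CommRingCat.of B) := X.toSpecΓ ≫ Spec.map j
  have hj : ∀ g : G, j ≫ (ρ g).hom.appTop = j := by
    intro g
    ext b
    exact b.2 g
  have hinv : ∀ g : G, (ρ g).hom ≫ q = q := by
    intro g
    change (ρ g).hom ≫ X.toSpecΓ ≫ Spec.map j = X.toSpecΓ ≫ Spec.map j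
    rw [Scheme.toSpecΓ_naturality_assoc, ← Spec.map_comp, hj g]
  have hq : q.appTop = (Scheme.ΓSpecIso (CommRingCat.of B)).hom ≫ j := by
    change (X.toSpecΓ ≫ Spec.map j).appTop = _
    rw [Scheme.Hom.comp_appTop, Scheme.toSpecΓ_appTop, Scheme.ΓSpecIso_naturality]
  refine ⟨Spec (CommRingCat.of B), q, inferInstance, ?_⟩
  refine IsQuotH8.isQuot_of_affine ρ q hinv ?_ ?_
  · change Function.Injective q.appTop.hom
    rw [hq]
    intro a b hab
    have h1 : (Scheme.ΓSpecIso (CommRingCat.of B)).hom.hom a =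
        (Scheme.ΓSpecIso (CommRingCat.of B)).hom.hom b := Subtype.ext hab
    exact (ConcreteCategory.bijective_of_isIso (Scheme.ΓSpecIso (CommRingCat.of B)).hom).1 h1
  · intro s hs
    have hsB : (s : Γ(X, ⊤)) ∈ B := by
      intro g
      have := hs g
      have e : IsQuotH8.act ρ q hinv g ⊤ = (ρ g).hom.appTop := by
        change (ρ g).hom.appLE ⊤ ((ρ g).hom ⁻¹ᵁ ⊤) le_rfl = _
        exact Scheme.Hom.appLE_eq_app _
      rw [e] at this
      exact this
    obtain ⟨t, ht⟩ := (ConcreteCategory.bijective_of_isIso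
      (Scheme.ΓSpecIso (CommRingCat.of B)).hom).2 ⟨s, hsB⟩
    refine ⟨t, ?_⟩
    change q.appTop.hom t = s
    rw [hq]
    change j.hom ((Scheme.ΓSpecIso (CommRingCat.of B)).hom.hom t) = s
    rw [ht]
    rfl

omit [Finite G] in
lemma mem_iInf_opens {α : Type*} [TopologicalSpace α] {ι : Type*} [Finite ι]
    (U : ι → Opens α) (x : α) : x ∈ (⨅ i, U i : Opens α) ↔ ∀ i, x ∈ U i := by
  rw [← SetLike.mem_coe, Opens.coe_iInf]
  simp only [Set.mem_iInter, SetLike.mem_coe]

omit [Finite G] in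
lemma act_act (ρ : G →* Aut X) (g h : G) (x : X) :
    (ρ g).hom.base ((ρ h).hom.base x) = (ρ (g * h)).hom.base x := by
  rw [IsQuotH8.hom_mul]
  rfl

omit [Finite G] in
lemma act_one (ρ : G →* Aut X) (x : X) : (ρ 1).hom.base x = x := by
  rw [IsQuotH8.hom_one]
  rfl

/-- Invariant affine open neighbourhoods inside a given invariant open, for points whose orbit
lies in an affine open. -/
theorem exists_invariant_affine (ρ : G →* Aut X) (T : X.Opens)
    (hT : ∀ g : G, T ≤ (ρ g).hom ⁻¹ᵁ T) (U : X.Opens) (hU : IsAffineOpen U) (x : X)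
    (hxT : x ∈ T) (hxU : ∀ g : G, (ρ g).hom.base x ∈ U) :
    ∃ W : X.Opens, IsAffineOpen W ∧ (∀ g : G, W ≤ (ρ g).hom ⁻¹ᵁ W) ∧ x ∈ W ∧ W ≤ T ∧ W ≤ U := by
  classical
  let V₀ : X.Opens := T ⊓ ⨅ g : G, (ρ g).hom ⁻¹ᵁ U
  have hV₀ : ∀ y : X, y ∈ V₀ ↔ y ∈ T ∧ ∀ g : G, (ρ g).hom.base y ∈ U := by
    intro y
    change y ∈ (T : Set X) ∩ ((⨅ g : G, (ρ g).hom ⁻¹ᵁ U : X.Opens) : Set X) ↔ _
    rw [Opens.coe_iInf]
    simp only [Set.mem_inter_iff, Set.mem_iInter, SetLike.mem_coe]
    rfl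
  let F : Set X := Set.range fun g : G => (ρ g).hom.base x
  have hF : F.Finite := Set.finite_range _
  have hFV : F ⊆ V₀ := by
    rintro _ ⟨h, rfl⟩
    rw [SetLike.mem_coe, hV₀]
    refine ⟨hT h hxT, fun g => ?_⟩
    rw [act_act]
    exact hxU _
  have hFU : F ⊆ U := by
    rintro _ ⟨h, rfl⟩
    exact hxU h
  obtain ⟨D, hD, hDV, hDU, hFD⟩ := FinDescH6.exists_affine_between hU V₀ F hF hFV hFU
  let W : X.Opens := ⨅ g : G, (ρ g).hom ⁻¹ᵁ D
  have hW : ∀ y : X, y ∈ W ↔ ∀ g : G, (ρ g).hom.base y ∈ D := by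
    intro y
    change y ∈ ((⨅ g : G, (ρ g).hom ⁻¹ᵁ D : X.Opens) : Set X) ↔ _
    rw [Opens.coe_iInf]
    simp only [Set.mem_iInter, SetLike.mem_coe]
    rfl
  have hWD : W ≤ D := by
    intro y hy
    have := (hW y).mp hy 1
    rwa [act_one] at this
  have hDgU : ∀ g : G, (ρ g).hom ⁻¹ᵁ D ≤ U := by
    intro g y hy
    have h1 : (ρ g).hom.base y ∈ V₀ := hDV hy
    have h2 := ((hV₀ _).mp h1).2 g⁻¹
    rw [act_act, inv_mul_cancel, act_one] at h2
    exact h2
  refine ⟨W, ?_, ?_, ?_, hWD.trans (hDV.trans inf_le_left), hWD.trans hDU⟩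
  · haveI : IsAffine U.toScheme := hU
    have hD' : ∀ g : G, IsAffineOpen (U.ι ⁻¹ᵁ ((ρ g).hom ⁻¹ᵁ D)) := by
      intro g
      rw [← Scheme.Hom.isAffineOpen_iff_of_isOpenImmersion U.ι,
        Scheme.Hom.image_preimage_eq_opensRange_inf, Scheme.Opens.opensRange_ι,
        inf_eq_right.mpr (hDgU g)]
      exact hD.preimage_of_isIso (ρ g).hom
    have h1 := (IsAffineOpen.iInf hD').image_of_isOpenImmersion U.ι
    have e : U.ι ''ᵁ (⨅ g : G, U.ι ⁻¹ᵁ ((ρ g).hom ⁻¹ᵁ D)) = W := by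
      ext y
      constructor
      · rintro ⟨u, hu, rfl⟩
        rw [SetLike.mem_coe, hW]
        intro g
        exact (mem_iInf_opens _ u).mp hu g
      · intro hy
        have hyU : y ∈ U := hDgU 1 ((hW y).mp hy 1)
        refine ⟨⟨y, hyU⟩, ?_, rfl⟩
        exact (mem_iInf_opens _ _).mpr fun g => (hW y).mp hy g
    rwa [e] at h1
  · intro h y hy
    change (ρ h).hom.base y ∈ W
    rw [hW]
    intro g
    rw [act_act]
    exact (hW y).mp hy _
  · rw [hW]
    intro g
    exact hFD ⟨g, rfl⟩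

end Groth.Agent.Lib.GQuotH6
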