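import Mathlib
import Groth.Agent.Lib.GQuot3_helper6
import Groth.Agent.Lib.LocEff2_helper6

/-!
# Existence of quotients by finite groups when orbits lie in affine opens (helper6)

The quotients of the invariant affine opens are glued along the locally directed diagram of
invariant affine opens (`LocEffH6.glueR`), and the result is a quotient by `isQuot_of_charts`.
-/

set_option backward.isDefEq.respectTransparency false
set_option backward.isDefEq.respectTransparency.types false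
set_option autoImplicit false

universe u

open CategoryTheory CategoryTheory.Limits AlgebraicGeometry TopologicalSpace

namespace Groth.Agent.Lib.GQuotH6

open Groth.Agent.Lib.LocEffH6

variable {X : Scheme.{u}} {G : Type u} [Group G] [Finite G] {ρ : G →* Aut X}

/-- Every orbit lies in an affine open. -/
def Hyp (ρ : G →* Aut X) : Prop :=
  ∀ x : X, ∃ U : X.Opens, IsAffineOpen U ∧ ∀ g : G, (ρ g).hom.base x ∈ U

/-- Invariant affine opens. -/
abbrev JQ (ρ : G →* Aut X) : Type u :=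
  {W : X.Opens // IsAffineOpen W ∧ ∀ g : G, W ≤ (ρ g).hom ⁻¹ᵁ W}

lemma exists_JQ (H : Hyp ρ) (T : X.Opens) (hT : ∀ g : G, T ≤ (ρ g).hom ⁻¹ᵁ T) (x : X)
    (hx : x ∈ T) : ∃ k : JQ ρ, x ∈ k.1 ∧ k.1 ≤ T := by
  obtain ⟨U, hU, hxU⟩ := H x
  obtain ⟨W, hW, hWinv, hxW, hWT, -⟩ := exists_invariant_affine ρ T hT U hU x hx hxU
  exact ⟨⟨W, hW, hWinv⟩, hxW, hWT⟩

lemma isOpenCover (H : Hyp ρ) : TopologicalSpace.IsOpenCover (fun i : JQ ρ => i.1) := by
  refine top_le_iff.mp fun x _ => ?_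
  obtain ⟨k, hxk, -⟩ := exists_JQ H ⊤ (fun _ => le_top) x trivial
  exact Opens.mem_iSup.mpr ⟨k, hxk⟩

/-- The open cover by invariant affine opens. -/
noncomputable def cov (H : Hyp ρ) : X.OpenCover :=
  X.openCoverOfIsOpenCover (fun i : JQ ρ => i.1) (isOpenCover H)

variable (H : Hyp ρ)

instance : Preorder (cov H).I₀ := inferInstanceAs <| Preorder (JQ ρ)

instance : Quiver.IsThin (cov H).I₀ := inferInstanceAs <| Quiver.IsThin (JQ ρ)

instance : Small.{u} (cov H).I₀ := inferInstanceAs <| Small.{u} (JQ ρ)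

noncomputable instance : (cov H).LocallyDirected where
  trans {i j} hij := X.homOfLE (leOfHom hij)
  trans_id i := Scheme.homOfLE_rfl _ _
  trans_comp {i j k} hij hjk := (Scheme.homOfLE_homOfLE _ (leOfHom hij) (leOfHom hjk)).symm
  w {i j} hij := Scheme.homOfLE_ι _ _
  directed {i j} x := by
    let i' : JQ ρ := i
    let j' : JQ ρ := j
    let v : X := (pullback.fst ((cov H).f i) ((cov H).f j) ≫ (cov H).f i) x
    have hv1 : v ∈ i'.1 := by
      have : v ∈ Set.range i'.1.ι := ⟨(pullback.fst ((cov H).f i) ((cov H).f j)) x, rfl⟩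
      simpa using this
    have hv2 : v ∈ j'.1 := by
      have : v ∈ Set.range j'.1.ι := by
        refine ⟨(pullback.snd ((cov H).f i) ((cov H).f j)) x, ?_⟩
        show (pullback.snd ((cov H).f i) ((cov H).f j) ≫ (cov H).f j) x = _
        rw [← pullback.condition]
      simpa using this
    obtain ⟨k, hvk, hk⟩ := exists_JQ H (i'.1 ⊓ j'.1)
      (fun g y hy => ⟨i'.2.2 g hy.1, j'.2.2 g hy.2⟩) v ⟨hv1, hv2⟩
    refine ⟨k, homOfLE (show k ≤ i' from hk.trans inf_le_left),
      homOfLE (show k ≤ j' from hk.trans inf_le_right), ⟨v, hvk⟩, ?_⟩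
    apply (pullback.fst ((cov H).f i) ((cov H).f j) ≫ (cov H).f i).isOpenEmbedding.injective
    rw [← Scheme.Hom.comp_apply, pullback.lift_fst_assoc]
    show (X.homOfLE _ ≫ i'.1.ι) _ = v
    rw [Scheme.homOfLE_ι]
    rfl
  property_trans {i j} hij := by
    show IsOpenImmersion (X.homOfLE (leOfHom hij))
    infer_instance

/-- The restricted action on an invariant affine open. -/
noncomputable def ρJ (i : JQ ρ) : G →* Aut i.1.toScheme := restrictAutOpen ρ i.1 i.2.2

instance (i : JQ ρ) : IsAffine i.1.toScheme := i.2.1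

/-- The quotient of an invariant affine open. -/
noncomputable def YJ (i : JQ ρ) : Scheme.{u} := (exists_isQuot_of_isAffine (ρJ i)).choose

/-- The quotient map of an invariant affine open. -/
noncomputable def qJ (i : JQ ρ) : i.1.toScheme ⟶ YJ i :=
  (exists_isQuot_of_isAffine (ρJ i)).choose_spec.choose

lemma isQuot_qJ (i : JQ ρ) : SGA1.IsQuot (ρJ i) (qJ i) :=
  (exists_isQuot_of_isAffine (ρJ i)).choose_spec.choose_spec.2

instance (i : JQ ρ) : Epi (qJ i) := IsQuotH8.epi_of_isQuot _ _ (isQuot_qJ i)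

lemma ρJ_homOfLE {i j : JQ ρ} (f : i ⟶ j) (g : G) :
    ((ρJ i) g).hom ≫ X.homOfLE (leOfHom f) = X.homOfLE (leOfHom f) ≫ ((ρJ j) g).hom :=
  restrictAutOpen_homOfLE ρ j.1 i.1 j.2.2 i.2.2 (leOfHom f) g

lemma mJ_aux {i j : JQ ρ} (f : i ⟶ j) (g : G) :
    ((ρJ i) g).hom ≫ X.homOfLE (leOfHom f) ≫ qJ j = X.homOfLE (leOfHom f) ≫ qJ j := by
  rw [← Category.assoc, ρJ_homOfLE f g, Category.assoc, (isQuot_qJ j).inv g]

/-- The transition maps between the quotients. -/
noncomputable def mJ {i j : JQ ρ} (f : i ⟶ j) : YJ i ⟶ YJ j :=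
  (Groth.Agent.S2925.result (ρJ i) (qJ i) (isQuot_qJ i) (YJ j) (X.homOfLE (leOfHom f) ≫ qJ j)
    (mJ_aux f)).choose

lemma qJ_mJ {i j : JQ ρ} (f : i ⟶ j) : qJ i ≫ mJ f = X.homOfLE (leOfHom f) ≫ qJ j :=
  (Groth.Agent.S2925.result (ρJ i) (qJ i) (isQuot_qJ i) (YJ j) (X.homOfLE (leOfHom f) ≫ qJ j)
    (mJ_aux f)).choose_spec.1

/-- The diagram of quotients. -/
noncomputable def GQ : JQ ρ ⥤ Scheme.{u} where
  obj i := YJ i
  map f := mJ f
  map_id i := by
    rw [← cancel_epi (qJ i), qJ_mJ, Category.comp_id, Scheme.homOfLE_rfl, Category.id_comp]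
  map_comp {i j k} f g := by
    rw [← cancel_epi (qJ i), qJ_mJ, ← Category.assoc, qJ_mJ, Category.assoc, qJ_mJ,
      ← Category.assoc]
    congr 1
    exact (Scheme.homOfLE_homOfLE _ _ _).symm

/-- The diagram of quotients on the index category of the cover. -/
noncomputable def GS : (cov H).I₀ ⥤ Scheme.{u} := (GQ : JQ ρ ⥤ Scheme.{u})

lemma GS_map {i j : (cov H).I₀} (f : i ⟶ j) : (GS H).map f = mJ (ρ := ρ) f := rfl

/-- The natural transformation of quotient maps. -/
noncomputable def sQ : (cov H).functorOfLocallyDirected ⟶ GS H where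
  app i := qJ (ρ := ρ) i
  naturality i j f := (qJ_mJ (ρ := ρ) f).symm

lemma sQ_app (i : (cov H).I₀) : (sQ H).app i = qJ (ρ := ρ) i := rfl

lemma isOpenImmersion_mJ_and_isPullback {i j : JQ ρ} (f : i ⟶ j) :
    IsOpenImmersion (mJ f) ∧ IsPullback (qJ i) (X.homOfLE (leOfHom f)) (mJ f) (qJ j) :=
  isOpenImmersion_and_isPullback (ρJ j) (qJ j) (isQuot_qJ j) (ρJ i) (qJ i) (isQuot_qJ i)
    (X.homOfLE (leOfHom f)) (ρJ_homOfLE f) (mJ f) (qJ_mJ f)

instance {i j : (cov H).I₀} (f : i ⟶ j) : IsOpenImmersion ((GS H).map f) :=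
  (isOpenImmersion_mJ_and_isPullback (ρ := ρ) f).1

lemma sQ_equif : NatTrans.Equifibered (sQ H) := fun i j f =>
  (isOpenImmersion_mJ_and_isPullback (ρ := ρ) f).2.flip

lemma sQ_surj (i : (cov H).I₀) : Function.Surjective ((sQ H).app i) :=
  (Groth.Agent.S2908.result (ρJ (ρ := ρ) i) (qJ i) (isQuot_qJ i)).1

instance : ((GS H) ⋙ Scheme.forget).IsLocallyDirected :=
  isLocallyDirected_of_equifibered_of_surjective (sQ H) (sQ_equif H) (sQ_surj H)

/-- The glued quotient map. -/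
noncomputable def pQ : X ⟶ colimit (GS H) := glueR (cov H) (GS H) (sQ H)

lemma f_pQ (i : (cov H).I₀) :
    (cov H).f i ≫ pQ H = qJ (ρ := ρ) i ≫ colimit.ι (GS H) i :=
  f_glueR (cov H) (GS H) (sQ H) i

lemma isPullback_pQ (i : (cov H).I₀) :
    IsPullback (qJ (ρ := ρ) i) ((cov H).f i) (colimit.ι (GS H) i) (pQ H) :=
  isPullback_glueR (cov H) (GS H) (sQ H) (sQ_equif H) i

lemma pQ_inv (g : G) : (ρ g).hom ≫ pQ H = pQ H := by
  apply Scheme.Cover.hom_ext (cov H)
  intro i
  let i' : JQ ρ := i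
  have e1 : (cov H).f i ≫ (ρ g).hom = ((ρJ i') g).hom ≫ (cov H).f i :=
    (restrictAutOpen_ι ρ i'.1 i'.2.2 g).symm
  rw [← Category.assoc, e1, Category.assoc, f_pQ, ← Category.assoc]
  congr 1
  exact (isQuot_qJ i').inv g

include H in
/-- **Existence of the quotient** of a scheme by a finite group all of whose orbits lie in affine
opens. -/
theorem exists_isQuot : ∃ (Y : Scheme.{u}) (p : X ⟶ Y), SGA1.IsQuot ρ p := by
  refine ⟨colimit (GS H), pQ H, isQuot_of_charts ρ (pQ H) (pQ_inv H) fun y => ?_⟩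
  obtain ⟨i, y', rfl⟩ := (Scheme.IsLocallyDirected.openCover (GS H)).exists_eq y
  let i' : JQ ρ := i
  refine ⟨(colimit.ι (GS H) i).opensRange, ⟨y', rfl⟩, i'.1.toScheme, YJ i', i'.1.ι,
    colimit.ι (GS H) i, qJ i', ρJ i', inferInstance, inferInstance, isPullback_pQ H i, ?_, ?_,
    isQuot_qJ i'⟩
  · intro g
    exact restrictAutOpen_ι ρ i'.1 i'.2.2 g
  · intro z hz
    exact hz

end Groth.Agent.Lib.GQuotH6
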