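import Mathlib

/-!
# Invariants of a finite group commute with flat base change (ring level) (helper6)
-/

set_option autoImplicit false

universe u

open TensorProduct

namespace Groth.Agent.Lib.GQuotH6

section Alg

variable {B A B' A' : Type u} [CommRing B] [CommRing A] [CommRing B'] [CommRing A']
  [Algebra B A] [Algebra B B'] [Algebra B' A'] [Algebra A A'] [Algebra B A']
  [IsScalarTower B A A'] [IsScalarTower B B' A']

/-- If `B → A` is injective with image the invariants of a finite family of `B`-algebra
endomorphisms `σ g`, and `B → B'` is flat, then `B' → A' = B' ⊗[B] A` is injective with image the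
invariants of the base-changed endomorphisms. -/
theorem invariants_baseChange [Algebra.IsPushout B B' A A'] [Module.Flat B B']
    {G : Type*} [Finite G] (σ : G → A →ₐ[B] A) (σ' : G → A' →ₐ[B'] A')
    (hσ : ∀ g a, σ' g (algebraMap A A' a) = algebraMap A A' (σ g a))
    (hinj : Function.Injective (algebraMap B A))
    (hrange : ∀ a : A, (∀ g, σ g a = a) → a ∈ Set.range (algebraMap B A)) :
    Function.Injective (algebraMap B' A') ∧
      ∀ a' : A', (∀ g, σ' g a' = a') → a' ∈ Set.range (algebraMap B' A') := by
  classical
  haveI : Fintype G := Fintype.ofFinite G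
  let e : B' ⊗[B] A ≃ₐ[B'] A' := Algebra.IsPushout.equiv B B' A A'
  have he : ∀ (b' : B') (a : A), e (b' ⊗ₜ a) = algebraMap B' A' b' * algebraMap A A' a :=
    fun b' a => Algebra.IsPushout.equiv_tmul B B' A A' b' a
  let ι : B →ₗ[B] A := Algebra.linearMap B A
  let f : A →ₗ[B] (G → A) := LinearMap.pi fun g => (σ g).toLinearMap - LinearMap.id
  have hf : ∀ a g, f a g = σ g a - a := fun a g => rfl
  have hex : Function.Exact ι f := by
    intro a
    constructor
    · intro ha
      have h1 : ∀ g, σ g a = a := fun g => by
        have := congrFun ha g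
        rw [hf, Pi.zero_apply, sub_eq_zero] at this
        exact this
      obtain ⟨b, hb⟩ := hrange a h1
      exact ⟨b, hb⟩
    · rintro ⟨b, rfl⟩
      funext g
      rw [hf, Pi.zero_apply, sub_eq_zero]
      exact (σ g).commutes b
  have hex' := Module.Flat.lTensor_exact B' hex
  have hι' : Function.Injective (ι.lTensor B') :=
    Module.Flat.lTensor_preserves_injective_linearMap ι hinj
  -- `β b' = e (b' ⊗ 1) = e (lTensor ι (b' ⊗ 1))`
  have hβ : ∀ b' : B', algebraMap B' A' b' = e (ι.lTensor B' (b' ⊗ₜ (1 : B))) := by
    intro b'
    rw [LinearMap.lTensor_tmul, he]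
    change _ = _ * algebraMap A A' (algebraMap B A 1)
    rw [map_one, map_one, mul_one]
  have hsurjB : ∀ s : B' ⊗[B] B, ∃ b' : B', s = b' ⊗ₜ (1 : B) := by
    intro s
    refine ⟨TensorProduct.rid B B' s, ?_⟩
    rw [← TensorProduct.rid_symm_apply, LinearEquiv.symm_apply_apply]
  constructor
  · intro x y hxy
    rw [hβ, hβ] at hxy
    have h1 := hι' (e.injective hxy)
    have h2 := congrArg (TensorProduct.rid B B') h1
    simpa using h2
  · intro a' ha'
    obtain ⟨t, rfl⟩ := e.surjective a'
    -- compatibility of `e` with the actions
    have hcomp : ∀ (g : G) (t : B' ⊗[B] A),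
        σ' g (e t) = e (((σ g).toLinearMap).lTensor B' t) := by
      intro g t
      induction t using TensorProduct.induction_on with
      | zero => simp
      | tmul b' a =>
        rw [LinearMap.lTensor_tmul, he, he, map_mul, (σ' g).commutes, hσ]
        rfl
      | add x y hx hy => rw [map_add, map_add, hx, hy, map_add, map_add]
    have hfix : ∀ g, ((σ g).toLinearMap).lTensor B' t = t := fun g =>
      e.injective ((hcomp g t).symm.trans (ha' g))
    have hzero : f.lTensor B' t = 0 := by
      apply (TensorProduct.piRight B B B' (fun _ : G => A)).injective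
      rw [map_zero]
      funext g
      have key : ∀ t : B' ⊗[B] A, (TensorProduct.piRight B B B' (fun _ : G => A))
          (f.lTensor B' t) g = ((σ g).toLinearMap).lTensor B' t - t := by
        intro t
        induction t using TensorProduct.induction_on with
        | zero => simp
        | tmul b' a =>
          rw [LinearMap.lTensor_tmul, LinearMap.lTensor_tmul, TensorProduct.piRight_apply,
            TensorProduct.piRightHom_tmul]
          show b' ⊗ₜ[B] f a g = _
          rw [hf, TensorProduct.tmul_sub]
          rfl
        | add x y hx hy =>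
          rw [map_add, map_add, Pi.add_apply, hx, hy, map_add]
          abel
      rw [key, hfix g, sub_self]
      rfl
    obtain ⟨s, hs⟩ := (hex' t).mp hzero
    obtain ⟨b', rfl⟩ := hsurjB s
    exact ⟨b', by rw [hβ, hs]⟩

end Alg

end Groth.Agent.Lib.GQuotH6
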