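import Mathlib
import Groth.Agent.Lib.GQuot5_helper6
import Groth.Agent.Lib.IsQuot4_helper8

/-!
# Quotients by finite groups commute with flat base change (helper6)
-/

set_option backward.isDefEq.respectTransparency false
set_option backward.isDefEq.respectTransparency.types false
set_option autoImplicit false

universe u

open CategoryTheory CategoryTheory.Limits AlgebraicGeometry TopologicalSpace

namespace Groth.Agent.Lib.GQuotH6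

variable {X Y X' Y' : Scheme.{u}} {G : Type u} [Group G] [Finite G]

/-- The local statement: over affine opens `V' ⊆ c⁻¹ V`. -/
theorem flat_baseChange_local (ρ : G →* Aut X) (p : X ⟶ Y) (hp : SGA1.IsQuot ρ p) (c : Y' ⟶ Y)
    [Flat c] (pX : X' ⟶ X) (p' : X' ⟶ Y') (hX : IsPullback pX p' p c)
    (ρ' : G →* Aut X') (hρ₁ : ∀ g : G, (ρ' g).hom ≫ pX = pX ≫ (ρ g).hom)
    (hρ₂ : ∀ g : G, (ρ' g).hom ≫ p' = p')
    (V : Y.Opens) (hV : IsAffineOpen V) (V' : Y'.Opens) (hV' : IsAffineOpen V')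
    (hVV' : V' ≤ c ⁻¹ᵁ V) :
    Function.Injective (p'.app V').hom ∧
    ∀ s : Γ(X', p' ⁻¹ᵁ V'), (∀ g, (IsQuotH8.act ρ' p' hρ₂ g V').hom s = s) →
      s ∈ Set.range (p'.app V').hom := by
  haveI := hp.affine
  have hUXaff : IsAffineOpen (p ⁻¹ᵁ V) := hV.preimage p
  have hUY : p' ⁻¹ᵁ V' = pX ⁻¹ᵁ (p ⁻¹ᵁ V) ⊓ p' ⁻¹ᵁ V' := by
    refine (inf_eq_right.mpr ?_).symm
    rw [← Scheme.Hom.comp_preimage, hX.w, Scheme.Hom.comp_preimage]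
    exact fun x hx => hVV' hx
  have hle1 : p' ⁻¹ᵁ V' ≤ pX ⁻¹ᵁ (p ⁻¹ᵁ V) := by
    rw [hUY]; exact inf_le_left
  haveI := isIso_pushoutSection_of_isAffineOpen hX hVV' (le_refl (p ⁻¹ᵁ V)) hUY hV hV' hUXaff
  have hpo := (isIso_pushoutSection_iff hX hVV' (le_refl (p ⁻¹ᵁ V)) hUY).mp inferInstance
  have hpo' : IsPushout (p.app V) (c.appLE V V' hVV') (pX.appLE (p ⁻¹ᵁ V) (p' ⁻¹ᵁ V') hle1)
      (p'.app V') := by
    have e1 : p.appLE V (p ⁻¹ᵁ V) (le_refl _) = p.app V := Scheme.Hom.appLE_eq_app p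
    have e2 : p'.appLE V' (p' ⁻¹ᵁ V') (le_refl _) = p'.app V' := Scheme.Hom.appLE_eq_app p'
    rw [← e1, ← e2]
    exact hpo
  letI : Algebra Γ(Y, V) Γ(X, p ⁻¹ᵁ V) := (p.app V).hom.toAlgebra
  letI : Algebra Γ(Y, V) Γ(Y', V') := (c.appLE V V' hVV').hom.toAlgebra
  letI : Algebra Γ(Y', V') Γ(X', p' ⁻¹ᵁ V') := (p'.app V').hom.toAlgebra
  letI : Algebra Γ(X, p ⁻¹ᵁ V) Γ(X', p' ⁻¹ᵁ V') :=
    (pX.appLE (p ⁻¹ᵁ V) (p' ⁻¹ᵁ V') hle1).hom.toAlgebra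
  letI : Algebra Γ(Y, V) Γ(X', p' ⁻¹ᵁ V') :=
    (p.app V ≫ pX.appLE (p ⁻¹ᵁ V) (p' ⁻¹ᵁ V') hle1).hom.toAlgebra
  haveI : IsScalarTower Γ(Y, V) Γ(X, p ⁻¹ᵁ V) Γ(X', p' ⁻¹ᵁ V') :=
    IsScalarTower.of_algebraMap_eq' rfl
  haveI : IsScalarTower Γ(Y, V) Γ(Y', V') Γ(X', p' ⁻¹ᵁ V') :=
    IsScalarTower.of_algebraMap_eq' (congrArg CommRingCat.Hom.hom hpo'.w)
  haveI hpush : Algebra.IsPushout Γ(Y, V) Γ(Y', V') Γ(X, p ⁻¹ᵁ V) Γ(X', p' ⁻¹ᵁ V') :=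
    (CommRingCat.isPushout_iff_isPushout.mp hpo').symm
  haveI : Module.Flat Γ(Y, V) Γ(Y', V') :=
    HasRingHomProperty.appLE @Flat c inferInstance ⟨V, hV⟩ ⟨V', hV'⟩ hVV'
  -- the actions
  let σ : G → Γ(X, p ⁻¹ᵁ V) →ₐ[Γ(Y, V)] Γ(X, p ⁻¹ᵁ V) := fun g =>
    { (IsQuotH8.act ρ p hp.inv g V).hom with
      commutes' := fun b => IsQuotH8.act_app ρ p hp.inv g V b }
  let σ' : G → Γ(X', p' ⁻¹ᵁ V') →ₐ[Γ(Y', V')] Γ(X', p' ⁻¹ᵁ V') := fun g =>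
    { (IsQuotH8.act ρ' p' hρ₂ g V').hom with
      commutes' := fun b => IsQuotH8.act_app ρ' p' hρ₂ g V' b }
  have hσ : ∀ (g : G) (a : Γ(X, p ⁻¹ᵁ V)),
      σ' g (algebraMap Γ(X, p ⁻¹ᵁ V) Γ(X', p' ⁻¹ᵁ V') a) =
        algebraMap Γ(X, p ⁻¹ᵁ V) Γ(X', p' ⁻¹ᵁ V') (σ g a) := by
    intro g a
    have e1 : pX.appLE (p ⁻¹ᵁ V) (p' ⁻¹ᵁ V') hle1 ≫ IsQuotH8.act ρ' p' hρ₂ g V' =
        IsQuotH8.act ρ p hp.inv g V ≫ pX.appLE (p ⁻¹ᵁ V) (p' ⁻¹ᵁ V') hle1 := by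
      unfold IsQuotH8.act
      rw [Scheme.Hom.appLE_comp_appLE, Scheme.Hom.appLE_comp_appLE]
      exact IsQuotH8.appLE_congr (hρ₁ g) _ _ _ _
    exact congrArg (fun m => m.hom a) e1
  have hmain := invariants_baseChange σ σ' hσ (hp.injective V) (fun a ha =>
    (hp.range_iff V a).mpr ha)
  exact hmain

/-- **Quotients by finite groups commute with flat base change.** -/
theorem isQuot_of_flat_baseChange (ρ : G →* Aut X) (p : X ⟶ Y) (hp : SGA1.IsQuot ρ p)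
    (c : Y' ⟶ Y) [Flat c] (pX : X' ⟶ X) (p' : X' ⟶ Y') (hX : IsPullback pX p' p c)
    (ρ' : G →* Aut X') (hρ₁ : ∀ g : G, (ρ' g).hom ≫ pX = pX ≫ (ρ g).hom)
    (hρ₂ : ∀ g : G, (ρ' g).hom ≫ p' = p') : SGA1.IsQuot ρ' p' := by
  have haff : IsAffineHom p' := MorphismProperty.of_isPullback hX hp.affine
  let 𝓑 : Set Y'.Opens :=
    {V' | IsAffineOpen V' ∧ ∃ V : Y.Opens, IsAffineOpen V ∧ V' ≤ c ⁻¹ᵁ V}
  have hB : Opens.IsBasis 𝓑 := by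
    rw [Opens.isBasis_iff_nbhd]
    intro O y' hy'
    obtain ⟨V, hV, hyV, -⟩ := exists_isAffineOpen_mem_and_subset (x := c.base y') (U := ⊤) trivial
    obtain ⟨V', hV', hy'V', hle⟩ := exists_isAffineOpen_mem_and_subset (x := y')
      (U := O ⊓ c ⁻¹ᵁ V) ⟨hy', hyV⟩
    exact ⟨V', ⟨hV', V, hV, hle.trans inf_le_right⟩, hy'V', hle.trans inf_le_left⟩
  refine IsQuotH8.isQuot_of_basis ρ' p' haff hρ₂ 𝓑 hB ?_ ?_
  · rintro V' ⟨hV', V, hV, hle⟩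
    exact (flat_baseChange_local ρ p hp c pX p' hX ρ' hρ₁ hρ₂ V hV V' hV' hle).1
  · rintro V' ⟨hV', V, hV, hle⟩
    exact (flat_baseChange_local ρ p hp c pX p' hX ρ' hρ₁ hρ₂ V hV V' hV' hle).2

end Groth.Agent.Lib.GQuotH6
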