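import Mathlib
import Groth.Prelude.Def_Found
import Groth.Prelude.Def_EGA4b
import Groth.Prelude.Def_CAlgX
import Groth.Agent.Lib.GRingFS_helper3
import Groth.Agent.Lib.GRingFinite_helper3

/-!
# Formal smoothness of generic formal fibres of localizations of finite extensions (helper3)
-/

set_option autoImplicit false
set_option maxSynthPendingDepth 3

namespace Groth.Agent.Lib.GRingFinFSH3

universe u

open TensorProduct IsLocalRing Groth.Agent.Lib.RegFlatH3 Groth.Agent.Lib.RegHomBCH3

variable (A₂ B : Type u) [CommRing A₂] [IsDomain A₂] [IsNoetherianRing A₂] [CommRing B]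
  [IsDomain B] [Algebra A₂ B] [Module.Finite A₂ B]

theorem adic_localization_cpl_of_finite (hinj : Function.Injective (algebraMap A₂ B))
    (hA₂ : ∀ (P : Ideal A₂) [P.IsPrime],
      CAlg.IsGeometricallyRegular (⊥ : Ideal (Localization.AtPrime P)).ResidueField
        (EGA4.formalFibre (Localization.AtPrime P) ⊥))
    (n : Ideal B) [n.IsPrime]
    (q : Ideal (AdicCompletion (maximalIdeal (Localization.AtPrime n)) (Localization.AtPrime n)))
    [q.IsPrime]
    [Algebra (FractionRing B) (Localization.AtPrime q)]
    (htower : ∀ b : B, algebraMap (FractionRing B) (Localization.AtPrime q)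
        (algebraMap B (FractionRing B) b) =
      algebraMap (AdicCompletion (maximalIdeal (Localization.AtPrime n)) (Localization.AtPrime n))
        (Localization.AtPrime q)
        (algebraMap B (AdicCompletion (maximalIdeal (Localization.AtPrime n))
          (Localization.AtPrime n)) b)) :
    CAlgX.IsAdicFormallySmooth (FractionRing B) (Localization.AtPrime q)
      (maximalIdeal (Localization.AtPrime q)) := by
  haveI : IsNoetherianRing B := IsNoetherianRing.of_finite A₂ B
  haveI : IsNoetherianRing (Localization.AtPrime n) :=
    IsLocalization.isNoetherianRing n.primeCompl _ inferInstance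
  obtain ⟨hloc, hnoeth, hcompl, hff, hlh, hmap⟩ :=
    AnUnramH3.completion_facts (Localization.AtPrime n)
  haveI := hnoeth
  haveI : IsNoetherianRing (Localization.AtPrime q) :=
    IsLocalization.isNoetherianRing q.primeCompl _ inferInstance
  haveI towBCCh : IsScalarTower B (Localization.AtPrime n)
      (AdicCompletion (maximalIdeal (Localization.AtPrime n)) (Localization.AtPrime n)) :=
    IsScalarTower.of_algebraMap_eq (fun _ => rfl)
  haveI towCLT : IsScalarTower (Localization.AtPrime n) (FractionRing B)
      (Localization.AtPrime q) := by
    refine IsScalarTower.of_algebraMap_eq' ?_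
    apply IsLocalization.ringHom_ext n.primeCompl
    ext b
    simp only [RingHom.comp_apply]
    rw [← IsScalarTower.algebraMap_apply B (Localization.AtPrime n) (FractionRing B), htower,
      IsScalarTower.algebraMap_apply (Localization.AtPrime n)
        (AdicCompletion (maximalIdeal (Localization.AtPrime n)) (Localization.AtPrime n))
        (Localization.AtPrime q),
      ← IsScalarTower.algebraMap_apply B (Localization.AtPrime n)
        (AdicCompletion (maximalIdeal (Localization.AtPrime n)) (Localization.AtPrime n))]
  have hgeom : CAlg.IsGeometricallyRegular (FractionRing B) (Localization.AtPrime q) := by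
    intro k' _ _ hfin
    haveI := hfin
    letI algCk : Algebra (Localization.AtPrime n) k' :=
      Algebra.compHom k' (algebraMap (Localization.AtPrime n) (FractionRing B))
    haveI towCLk : IsScalarTower (Localization.AtPrime n) (FractionRing B) k' :=
      IsScalarTower.of_algebraMap_eq (fun _ => rfl)
    letI algBk : Algebra B k' := Algebra.compHom k' (algebraMap B (FractionRing B))
    haveI towBLk : IsScalarTower B (FractionRing B) k' :=
      IsScalarTower.of_algebraMap_eq (fun _ => rfl)
    haveI towBCk : IsScalarTower B (Localization.AtPrime n) k' :=
      IsScalarTower.of_algebraMap_eq (fun b => by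
        rw [IsScalarTower.algebraMap_apply B (FractionRing B) k',
          IsScalarTower.algebraMap_apply (Localization.AtPrime n) (FractionRing B) k',
          ← IsScalarTower.algebraMap_apply B (Localization.AtPrime n) (FractionRing B)])
    letI algAk : Algebra A₂ k' := Algebra.compHom k' (algebraMap A₂ B)
    haveI towABk : IsScalarTower A₂ B k' := IsScalarTower.of_algebraMap_eq (fun _ => rfl)
    haveI : Algebra.EssFiniteType (Localization.AtPrime n) (FractionRing B) :=
      Algebra.EssFiniteType.of_isLocalization (FractionRing B)
        (nonZeroDivisors (Localization.AtPrime n))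
    haveI : Algebra.EssFiniteType (FractionRing B) k' := inferInstance
    haveI : Algebra.EssFiniteType (Localization.AtPrime n) k' :=
      Algebra.EssFiniteType.comp _ (FractionRing B) k'
    have hK : Function.Injective (algebraMap A₂ k') := by
      rw [IsScalarTower.algebraMap_eq A₂ B k', IsScalarTower.algebraMap_eq B (FractionRing B) k']
      exact ((algebraMap (FractionRing B) k').injective.comp
        (IsFractionRing.injective B (FractionRing B))).comp hinj
    haveI hreg1 : IsRegularRing (k' ⊗[Localization.AtPrime n]
        EGA4.Cpl (Localization.AtPrime n)) :=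
      Groth.Agent.Lib.GRingFiniteH3.isRegularRing_tensor_cpl_of_finite A₂ B hA₂ n.primeCompl
        (Localization.AtPrime n) k' hK
    haveI hreg2 : IsRegularRing (k' ⊗[Localization.AtPrime n] Localization.AtPrime q) :=
      isRegularRing_tensor_localization (Localization.AtPrime n) k'
        (EGA4.Cpl (Localization.AtPrime n)) q.primeCompl (Localization.AtPrime q)
    let e : k' ⊗[FractionRing B] Localization.AtPrime q ≃ₐ[FractionRing B]
        k' ⊗[Localization.AtPrime n] Localization.AtPrime q :=
      IsLocalization.algebraTensorEquiv (nonZeroDivisors (Localization.AtPrime n))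
        (FractionRing B) k' (Localization.AtPrime q)
    exact IsRegularRing.of_ringEquiv (R := k' ⊗[Localization.AtPrime n] Localization.AtPrime q)
      e.symm.toRingEquiv
  exact Groth.Agent.Lib.GRingFSH3.adic_of_isGeometricallyRegular_local (FractionRing B)
    (Localization.AtPrime q) hgeom

end Groth.Agent.Lib.GRingFinFSH3
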