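import Mathlib
import Groth.Prelude.Def_Found
import Groth.Prelude.Def_EGA4b
import Groth.Agent.Lib.GRingCore_helper3
import Groth.Agent.Lib.GRingFinite_helper3
import Groth.Agent.Lib.ComplMapIso_helper3
import Groth.Agent.Lib.FiniteFreeRes_helper3
import Groth.Agent.Lib.FSAdicCompl2_helper3
import Groth.Agent.Lib.RegHomBC_helper3
import Groth.Agent.Lib.RegFlat_helper3
import Groth.Agent.S9289

/-!
# G-rings and formal fibres of finite free algebras (helper3)

`R` Noetherian is a G-ring iff for every finite free `R`-algebra `S` all formal fibres of all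
local rings of `S` are regular rings.

* `isRegularRing_tensor_localization_of_cpl` : converse of
  `GRingCoreH3.isRegularRing_tensor_cpl_of_finite_complete`: `Cpl A₁ ≅ Ch_𝔫`.
* `exists_approx`, `comap_maximal`, `le_map_comap`, `exists_res`: structure of
  `Ch = S ⊗[R] (R_P)^`.
* `isGRing_of_forall`, `forall_of_isGRing`.
APPEND-ONLY once landed.
-/

set_option autoImplicit false

namespace Groth.Agent.Lib.GRingFreeH3

universe u

open TensorProduct IsLocalRing

section Core

variable (B A₁ : Type u) [CommRing B] [CommRing A₁] [Algebra B A₁] (M : Submonoid B)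
  [IsLocalization M A₁] [IsLocalRing A₁] [IsNoetherianRing A₁]
  (Dh Ch : Type u) [CommRing Dh] [IsLocalRing Dh] [IsNoetherianRing Dh]
  [IsAdicComplete (maximalIdeal Dh) Dh]
  [CommRing Ch] [Algebra Dh Ch] [Module.Finite Dh Ch] [Algebra B Ch] [Module.Flat B Ch]

include M Dh in
set_option maxHeartbeats 1600000 in
theorem isRegularRing_tensor_localization_of_cpl
    (𝔫 : Ideal Ch) [h𝔫 : 𝔫.IsMaximal]
    (hcomap : 𝔫.comap (algebraMap B Ch) = (maximalIdeal A₁).comap (algebraMap B A₁))
    (hgen : 𝔫 ≤ (𝔫.comap (algebraMap B Ch)).map (algebraMap B Ch))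
    (hres : ∀ w : Ch, ∃ (b : B) (s : M), algebraMap B Ch s * w - algebraMap B Ch b ∈ 𝔫)
    (K : Type u) [Field K] [Algebra B K] [Algebra A₁ K] [IsScalarTower B A₁ K]
    (hreg : IsRegularRing (K ⊗[A₁] EGA4.Cpl A₁)) :
    IsRegularRing (K ⊗[B] Localization.AtPrime 𝔫) := by
  obtain ⟨hYn, hYc⟩ := CompleteFiniteH3.isAdicComplete_localization Dh Ch ⟨𝔫, h𝔫⟩
  obtain ⟨Y, _, _, _, _, _, _, hYN, hYC, hgoal⟩ : ∃ (Y : Type u) (_ : CommRing Y) (_ : Algebra Ch Y)
      (_ : IsLocalization.AtPrime Y 𝔫) (_ : IsLocalRing Y) (_ : Algebra B Y)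
      (_ : IsScalarTower B Ch Y),
      IsNoetherianRing Y ∧ IsAdicComplete (maximalIdeal Y) Y ∧
      (IsRegularRing (K ⊗[B] Y) → IsRegularRing (K ⊗[B] Localization.AtPrime 𝔫)) :=
    ⟨Localization.AtPrime 𝔫, inferInstance, inferInstance, inferInstance, inferInstance,
      inferInstance, inferInstance, hYn, hYc, id⟩
  apply hgoal
  haveI := hYN
  haveI := hYC
  -- elements of `M` become units in `Y`
  have hM : ∀ m : M, IsUnit (algebraMap B Y m) := by
    intro m
    have h1 : (m : B) ∉ 𝔫.comap (algebraMap B Ch) := by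
      rw [hcomap, Ideal.mem_comap]
      intro hm
      exact (IsLocalRing.mem_maximalIdeal _).mp hm (IsLocalization.map_units A₁ m)
    rw [IsScalarTower.algebraMap_apply B Ch Y]
    exact IsLocalization.map_units Y (⟨algebraMap B Ch m, h1⟩ : 𝔫.primeCompl)
  letI algA₁Y : Algebra A₁ Y := (IsLocalization.lift (M := M) (g := algebraMap B Y) hM).toAlgebra
  haveI towBA₁Y : IsScalarTower B A₁ Y := IsScalarTower.of_algebraMap_eq (fun b =>
    (IsLocalization.lift_eq (M := M) hM b).symm)
  -- flatness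
  haveI : Module.Flat Ch Y := IsLocalization.flat Y 𝔫.primeCompl
  haveI : Module.Flat B Y := Module.Flat.trans B Ch Y
  haveI : Module.Flat A₁ Y := (Module.flat_iff_of_isLocalization A₁ M Y).mpr inferInstance
  -- local homomorphism
  haveI hloc : IsLocalHom (algebraMap A₁ Y) := by
    apply ((IsLocalRing.local_hom_TFAE (algebraMap A₁ Y)).out 0 2).mpr
    rw [Ideal.map_le_iff_le_comap]
    intro x hx
    obtain ⟨b, m, rfl⟩ := IsLocalization.exists_mk'_eq M x
    have hb : b ∈ (maximalIdeal A₁).comap (algebraMap B A₁) := by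
      rw [Ideal.mem_comap, ← IsLocalization.mk'_spec A₁ b m]
      exact Ideal.mul_mem_right _ _ hx
    rw [← hcomap, Ideal.mem_comap] at hb
    rw [Ideal.mem_comap]
    have h2 : algebraMap A₁ Y (IsLocalization.mk' A₁ b m) * algebraMap B Y m =
        algebraMap B Y b := by
      rw [IsScalarTower.algebraMap_apply B A₁ Y, IsScalarTower.algebraMap_apply B A₁ Y b,
        ← map_mul, IsLocalization.mk'_spec]
    have h3 : algebraMap B Y b ∈ maximalIdeal Y := by
      rw [IsScalarTower.algebraMap_apply B Ch Y, ← IsLocalization.AtPrime.map_eq_maximalIdeal 𝔫 Y]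
      exact Ideal.mem_map_of_mem _ hb
    rw [← h2] at h3
    rcases (Ideal.IsPrime.mem_or_mem (maximalIdeal.isMaximal Y).isPrime h3) with h4 | h4
    · exact h4
    · exact absurd (hM m) ((IsLocalRing.mem_maximalIdeal _).mp h4)
  -- the maximal ideal of `A₁` generates that of `Y`
  have hm : Ideal.map (algebraMap A₁ Y) (maximalIdeal A₁) = maximalIdeal Y := by
    apply le_antisymm (((IsLocalRing.local_hom_TFAE (algebraMap A₁ Y)).out 0 2).mp hloc)
    rw [← IsLocalization.AtPrime.map_eq_maximalIdeal 𝔫 Y]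
    refine (Ideal.map_mono hgen).trans ?_
    rw [Ideal.map_map, ← IsScalarTower.algebraMap_eq B Ch Y, hcomap,
      IsScalarTower.algebraMap_eq B A₁ Y, ← Ideal.map_map]
    exact Ideal.map_mono Ideal.map_comap_le
  -- residue fields
  have hk : Function.Bijective (IsLocalRing.ResidueField.map (algebraMap A₁ Y)) := by
    refine ⟨RingHom.injective _, ?_⟩
    have hB : ∀ b : B, residue Y (algebraMap B Y b) ∈
        (IsLocalRing.ResidueField.map (algebraMap A₁ Y)).fieldRange := by
      intro b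
      refine ⟨residue A₁ (algebraMap B A₁ b), ?_⟩
      rw [IsLocalRing.ResidueField.map_residue, ← IsScalarTower.algebraMap_apply B A₁ Y]
    have hCh : ∀ w : Ch, residue Y (algebraMap Ch Y w) ∈
        (IsLocalRing.ResidueField.map (algebraMap A₁ Y)).fieldRange := by
      intro w
      obtain ⟨b, s, hbs⟩ := hres w
      have h1 : algebraMap Ch Y (algebraMap B Ch s * w - algebraMap B Ch b) ∈ maximalIdeal Y := by
        rw [← IsLocalization.AtPrime.map_eq_maximalIdeal 𝔫 Y]
        exact Ideal.mem_map_of_mem _ hbs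
      have h2 : residue Y (algebraMap B Y s) * residue Y (algebraMap Ch Y w) =
          residue Y (algebraMap B Y b) := by
        rw [← sub_eq_zero, ← map_mul, ← map_sub, IsLocalRing.residue_eq_zero_iff,
          IsScalarTower.algebraMap_apply B Ch Y, IsScalarTower.algebraMap_apply B Ch Y b,
          ← map_mul, ← map_sub]
        exact h1
      have h3 : residue Y (algebraMap B Y s) ≠ 0 := by
        rw [Ne, IsLocalRing.residue_eq_zero_iff]
        exact fun h => (IsLocalRing.mem_maximalIdeal _).mp h (hM s)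
      have h4 : residue Y (algebraMap Ch Y w) =
          residue Y (algebraMap B Y b) / residue Y (algebraMap B Y s) := by
        rw [eq_div_iff h3, mul_comm]; exact h2
      rw [h4]
      exact div_mem (hB b) (hB s)
    intro y
    obtain ⟨y', rfl⟩ := IsLocalRing.residue_surjective y
    obtain ⟨w, t, rfl⟩ := IsLocalization.exists_mk'_eq 𝔫.primeCompl y'
    have h3 : residue Y (algebraMap Ch Y t) ≠ 0 := by
      rw [Ne, IsLocalRing.residue_eq_zero_iff]
      exact fun h => (IsLocalRing.mem_maximalIdeal _).mp h (IsLocalization.map_units Y t)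
    have h4 : residue Y (IsLocalization.mk' Y w t) =
        residue Y (algebraMap Ch Y w) / residue Y (algebraMap Ch Y t) := by
      rw [eq_div_iff h3, ← map_mul, IsLocalization.mk'_spec]
    have h5 := div_mem (hCh w) (hCh t)
    rw [← h4] at h5
    exact h5
  -- the completions agree
  letI := FFTransferH3.algCpl A₁ Y
  haveI := FFTransferH3.tower A₁ Y
  haveI := FFTransferH3.tower' A₁ Y
  have hψ : (FFTransferH3.psi A₁ Y).comp (algebraMap A₁ (AdicCompletion (maximalIdeal A₁) A₁)) =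
      (algebraMap Y (AdicCompletion (maximalIdeal Y) Y)).comp (algebraMap A₁ Y) := by
    refine RingHom.ext fun a => ?_
    exact FFTransferH3.psi_of A₁ Y a
  have hbij := ComplMapIsoH3.bijective_of_comp A₁ Y hm hk (FFTransferH3.psi A₁ Y) hψ
  let e₂ : EGA4.Cpl A₁ ≃ₐ[A₁] EGA4.Cpl Y :=
    AlgEquiv.ofBijective (IsScalarTower.toAlgHom A₁ (EGA4.Cpl A₁) (EGA4.Cpl Y)) hbij
  let e₀ : Y ≃ₐ[A₁] EGA4.Cpl Y :=
    (AdicCompletion.ofAlgEquiv (maximalIdeal Y)).restrictScalars A₁
  let e₁ : K ⊗[A₁] EGA4.Cpl A₁ ≃ₐ[A₁] K ⊗[A₁] Y :=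
    Algebra.TensorProduct.congr AlgEquiv.refl (e₂.trans e₀.symm)
  haveI := hreg
  have h6 : IsRegularRing (K ⊗[A₁] Y) :=
    IsRegularRing.of_ringEquiv (R := K ⊗[A₁] EGA4.Cpl A₁) e₁.toRingEquiv
  let e : K ⊗[A₁] Y ≃ₐ[A₁] K ⊗[B] Y := IsLocalization.algebraTensorEquiv M A₁ K Y
  exact IsRegularRing.of_ringEquiv (R := K ⊗[A₁] Y) e.toRingEquiv

end Core

section Tensor

variable (R S : Type u) [CommRing R] [IsNoetherianRing R] [CommRing S] [Algebra R S]
  (P : Ideal R) [P.IsPrime]

local notation "Dh" => EGA4.Cpl (Localization.AtPrime P)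

theorem map_eq_maximalIdeal_cpl :
    P.map (algebraMap R Dh) = maximalIdeal Dh := by
  obtain ⟨hloc, hnoeth, hcompl, hff, hlh, hmap⟩ :=
    AnUnramH3.completion_facts (Localization.AtPrime P)
  haveI := GRingFiniteH3.isScalarTower_cpl R P
  rw [IsScalarTower.algebraMap_eq R (Localization.AtPrime P) Dh, ← Ideal.map_map,
    Localization.AtPrime.map_eq_maximalIdeal, hmap]

theorem isUnit_algebraMap_cpl (s : R) (hs : s ∉ P) : IsUnit (algebraMap R Dh s) := by
  haveI := GRingFiniteH3.isScalarTower_cpl R P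
  rw [IsScalarTower.algebraMap_apply R (Localization.AtPrime P) Dh]
  exact (IsLocalization.map_units (Localization.AtPrime P) (⟨s, hs⟩ : P.primeCompl)).map _

theorem isUnit_algebraMap_tensor (s : R) (hs : s ∉ P) : IsUnit (algebraMap R (S ⊗[R] Dh) s) := by
  have h := (isUnit_algebraMap_cpl R P s hs).map
    (Algebra.TensorProduct.includeRight (R := R) (A := S) (B := Dh))
  rwa [AlgHom.commutes] at h

theorem tmul_mem_map (c : S) (y : Dh) (hy : y ∈ P.map (algebraMap R Dh)) :
    c ⊗ₜ[R] y ∈ P.map (algebraMap R (S ⊗[R] Dh)) := by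
  have h1 : c ⊗ₜ[R] y = (c ⊗ₜ[R] (1 : Dh)) *
      (Algebra.TensorProduct.includeRight (R := R) (A := S) (B := Dh)) y := by
    rw [Algebra.TensorProduct.includeRight_apply, Algebra.TensorProduct.tmul_mul_tmul, mul_one,
      one_mul]
  rw [h1]
  apply Ideal.mul_mem_left
  have h2 : (P.map (algebraMap R Dh)).map
      (Algebra.TensorProduct.includeRight (R := R) (A := S) (B := Dh)).toRingHom =
      P.map (algebraMap R (S ⊗[R] Dh)) := by
    rw [Ideal.map_map]
    congr 1
    exact (Algebra.TensorProduct.includeRight (R := R) (A := S) (B := Dh)).comp_algebraMap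
  rw [← h2]
  exact Ideal.mem_map_of_mem _ hy

theorem exists_approx (w : S ⊗[R] Dh) :
    ∃ (b : S) (s : R), s ∉ P ∧
      algebraMap R (S ⊗[R] Dh) s * w - algebraMap S (S ⊗[R] Dh) b ∈
        P.map (algebraMap R (S ⊗[R] Dh)) := by
  haveI := GRingFiniteH3.isScalarTower_cpl R P
  induction w using TensorProduct.induction_on with
  | zero =>
    refine ⟨0, 1, fun h => (inferInstance : P.IsPrime).ne_top ((Ideal.eq_top_iff_one _).2 h), ?_⟩
    rw [mul_zero, map_zero, sub_zero]
    exact Ideal.zero_mem _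
  | add x y hx hy =>
    obtain ⟨b₁, s₁, hs₁, h₁⟩ := hx
    obtain ⟨b₂, s₂, hs₂, h₂⟩ := hy
    refine ⟨algebraMap R S s₂ * b₁ + algebraMap R S s₁ * b₂, s₁ * s₂,
      fun h => (Ideal.IsPrime.mem_or_mem inferInstance h).elim hs₁ hs₂, ?_⟩
    have e : algebraMap R (S ⊗[R] Dh) (s₁ * s₂) * (x + y) -
        algebraMap S (S ⊗[R] Dh) (algebraMap R S s₂ * b₁ + algebraMap R S s₁ * b₂) =
        algebraMap R (S ⊗[R] Dh) s₂ *
          (algebraMap R (S ⊗[R] Dh) s₁ * x - algebraMap S (S ⊗[R] Dh) b₁) +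
        algebraMap R (S ⊗[R] Dh) s₁ *
          (algebraMap R (S ⊗[R] Dh) s₂ * y - algebraMap S (S ⊗[R] Dh) b₂) := by
      rw [map_add, map_mul, map_mul, map_mul, ← IsScalarTower.algebraMap_apply R S,
        ← IsScalarTower.algebraMap_apply R S]
      ring
    rw [e]
    exact Ideal.add_mem _ (Ideal.mul_mem_left _ _ h₁) (Ideal.mul_mem_left _ _ h₂)
  | tmul c z =>
    obtain ⟨d, hd⟩ := FSAdicComplH3.exists_sub_mem_map_pow
      (maximalIdeal (Localization.AtPrime P)) (IsNoetherian.noetherian _) 1 z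
    obtain ⟨a, s, rfl⟩ := IsLocalization.exists_mk'_eq P.primeCompl d
    refine ⟨a • c, s, s.2, ?_⟩
    have hy : algebraMap R Dh s * z - algebraMap R Dh a ∈ P.map (algebraMap R Dh) := by
      have key : algebraMap R Dh s * algebraMap (Localization.AtPrime P) Dh
          (IsLocalization.mk' (Localization.AtPrime P) a s) = algebraMap R Dh a := by
        rw [IsScalarTower.algebraMap_apply R (Localization.AtPrime P) Dh, ← map_mul, mul_comm,
          IsLocalization.mk'_spec, ← IsScalarTower.algebraMap_apply R (Localization.AtPrime P) Dh]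
      have e : algebraMap R Dh s * z - algebraMap R Dh a = algebraMap R Dh s *
          (z - algebraMap (Localization.AtPrime P) Dh
            (IsLocalization.mk' (Localization.AtPrime P) a s)) := by
        rw [mul_sub, key]
      rw [e]
      apply Ideal.mul_mem_left
      rw [pow_one] at hd
      rw [IsScalarTower.algebraMap_eq R (Localization.AtPrime P) Dh, ← Ideal.map_map,
        Localization.AtPrime.map_eq_maximalIdeal]
      exact hd
    have e2 : algebraMap R (S ⊗[R] Dh) s * (c ⊗ₜ[R] z) - algebraMap S (S ⊗[R] Dh) (a • c) =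
        c ⊗ₜ[R] (algebraMap R Dh s * z - algebraMap R Dh a) := by
      rw [TensorProduct.tmul_sub, ← Algebra.smul_def, ← Algebra.smul_def,
        Algebra.TensorProduct.algebraMap_apply, Algebra.algebraMap_self, RingHom.id_apply,
        Algebra.algebraMap_eq_smul_one a, TensorProduct.tmul_smul, TensorProduct.tmul_smul,
        TensorProduct.smul_tmul', TensorProduct.smul_tmul']
    rw [e2]
    exact tmul_mem_map R S P c _ hy

variable [Module.Finite R S]

theorem comap_maximal (𝔫 : Ideal (S ⊗[R] Dh)) [h𝔫 : 𝔫.IsMaximal] :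
    𝔫.comap (algebraMap R (S ⊗[R] Dh)) = P := by
  obtain ⟨hloc, hnoeth, hcompl, hff, hlh, hmap⟩ :=
    AnUnramH3.completion_facts (Localization.AtPrime P)
  haveI := hloc
  haveI := GRingFiniteH3.isScalarTower_cpl R P
  letI algR : Algebra Dh (S ⊗[R] Dh) := Algebra.TensorProduct.rightAlgebra
  haveI : Module.Finite Dh (S ⊗[R] Dh) :=
    Module.Finite.equiv (Algebra.TensorProduct.commRight R Dh S).toLinearEquiv
  haveI hlo := CompleteFiniteH3.liesOver_of_isMaximal Dh (S ⊗[R] Dh) 𝔫
  have h1 : 𝔫.comap (algebraMap Dh (S ⊗[R] Dh)) = maximalIdeal Dh := hlo.over.symm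
  have h2 : (maximalIdeal Dh).comap (algebraMap (Localization.AtPrime P) Dh) =
      maximalIdeal (Localization.AtPrime P) :=
    ((IsLocalRing.local_hom_TFAE (algebraMap (Localization.AtPrime P) Dh)).out 0 4).mp hlh
  have h3 : (maximalIdeal (Localization.AtPrime P)).comap
      (algebraMap R (Localization.AtPrime P)) = P :=
    IsLocalization.AtPrime.comap_maximalIdeal (Localization.AtPrime P) P
  rw [IsScalarTower.algebraMap_eq R Dh (S ⊗[R] Dh), ← Ideal.comap_comap, h1,
    IsScalarTower.algebraMap_eq R (Localization.AtPrime P) Dh, ← Ideal.comap_comap, h2, h3]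

theorem map_le_maximal (𝔫 : Ideal (S ⊗[R] Dh)) [h𝔫 : 𝔫.IsMaximal] :
    P.map (algebraMap R (S ⊗[R] Dh)) ≤ 𝔫 := by
  rw [Ideal.map_le_iff_le_comap, comap_maximal R S P 𝔫]

theorem comap_comap_maximal (𝔫 : Ideal (S ⊗[R] Dh)) [h𝔫 : 𝔫.IsMaximal] :
    (𝔫.comap (algebraMap S (S ⊗[R] Dh))).comap (algebraMap R S) = P := by
  rw [Ideal.comap_comap, ← IsScalarTower.algebraMap_eq, comap_maximal R S P 𝔫]

theorem le_map_comap (𝔫 : Ideal (S ⊗[R] Dh)) [h𝔫 : 𝔫.IsMaximal] :
    𝔫 ≤ (𝔫.comap (algebraMap S (S ⊗[R] Dh))).map (algebraMap S (S ⊗[R] Dh)) := by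
  intro w hw
  obtain ⟨b, s, hs, hbs⟩ := exists_approx R S P w
  have hb : algebraMap S (S ⊗[R] Dh) b ∈ 𝔫 := by
    have h1 := map_le_maximal R S P 𝔫 hbs
    have h2 : algebraMap S (S ⊗[R] Dh) b = algebraMap R (S ⊗[R] Dh) s * w -
        (algebraMap R (S ⊗[R] Dh) s * w - algebraMap S (S ⊗[R] Dh) b) := by ring
    rw [h2]
    exact Ideal.sub_mem _ (Ideal.mul_mem_left _ _ hw) h1
  have hP : P.map (algebraMap R (S ⊗[R] Dh)) ≤
      (𝔫.comap (algebraMap S (S ⊗[R] Dh))).map (algebraMap S (S ⊗[R] Dh)) := by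
    rw [IsScalarTower.algebraMap_eq R S (S ⊗[R] Dh), ← Ideal.map_map]
    apply Ideal.map_mono
    rw [Ideal.map_le_iff_le_comap, comap_comap_maximal R S P 𝔫]
  have h3 : algebraMap R (S ⊗[R] Dh) s * w ∈
      (𝔫.comap (algebraMap S (S ⊗[R] Dh))).map (algebraMap S (S ⊗[R] Dh)) := by
    have h2 : algebraMap R (S ⊗[R] Dh) s * w =
        (algebraMap R (S ⊗[R] Dh) s * w - algebraMap S (S ⊗[R] Dh) b) +
          algebraMap S (S ⊗[R] Dh) b := by ring
    rw [h2]
    exact Ideal.add_mem _ (hP hbs) (Ideal.mem_map_of_mem _ hb)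
  obtain ⟨u, hu⟩ := isUnit_algebraMap_tensor R S P s hs
  have h4 : w = ↑u⁻¹ * (algebraMap R (S ⊗[R] Dh) s * w) := by
    rw [← mul_assoc, ← hu, Units.inv_mul, one_mul]
  rw [h4]
  exact Ideal.mul_mem_left _ _ h3

theorem exists_res (𝔫 : Ideal (S ⊗[R] Dh)) [h𝔫 : 𝔫.IsMaximal] (w : S ⊗[R] Dh) :
    ∃ (b : S) (s : (𝔫.comap (algebraMap S (S ⊗[R] Dh))).primeCompl),
      algebraMap S (S ⊗[R] Dh) s * w - algebraMap S (S ⊗[R] Dh) b ∈ 𝔫 := by
  obtain ⟨b, s, hs, hbs⟩ := exists_approx R S P w
  refine ⟨b, ⟨algebraMap R S s, ?_⟩, ?_⟩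
  · intro h
    apply hs
    rw [← comap_comap_maximal R S P 𝔫]
    exact h
  · rw [← IsScalarTower.algebraMap_apply R S (S ⊗[R] Dh)]
    exact map_le_maximal R S P 𝔫 hbs

end Tensor

section Main

variable (R : Type u) [CommRing R] [IsNoetherianRing R]

theorem forall_of_isGRing (hG : CAlg.IsGRing R)
    (S : Type u) [CommRing S] [Algebra R S] [Module.Finite R S]
    (q : Ideal S) [q.IsPrime] (p : Ideal (Localization.AtPrime q)) [p.IsPrime] :
    IsRegularRing (EGA4.formalFibre (Localization.AtPrime q) p) := by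
  haveI : IsNoetherianRing S := IsNoetherianRing.of_finite R S
  have h := Groth.Agent.S9289.result R S q (hG.2 (q.comap (algebraMap R S)))
  exact RegFlatH3.isRegularRing_of_isGeometricallyRegular _ _ (h.2 p).2

theorem isRegularRing_of_subsingleton (T : Type u) [CommRing T] [Subsingleton T] :
    IsRegularRing T := by
  haveI : IsNoetherianRing T := inferInstance
  refine (isRegularRing_iff (R := T)).2 fun p hp => ?_
  exact absurd (Subsingleton.elim p ⊤) hp.ne_top

/-- A field generated by the image of `A₁` is the residue field of the kernel. -/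
theorem exists_algEquiv_residueField (A₁ K : Type u) [CommRing A₁] [Field K] [Algebra A₁ K]
    (hK : ∀ x : K, ∃ a b : A₁, algebraMap A₁ K b ≠ 0 ∧ x * algebraMap A₁ K b = algebraMap A₁ K a) :
    ∃ (p : Ideal A₁) (_ : p.IsPrime), Nonempty (p.ResidueField ≃ₐ[A₁] K) := by
  haveI hp : (RingHom.ker (algebraMap A₁ K)).IsPrime := RingHom.ker_isPrime _
  refine ⟨RingHom.ker (algebraMap A₁ K), hp, ?_⟩
  have hunits : (RingHom.ker (algebraMap A₁ K)).primeCompl ≤
      (IsUnit.submonoid K).comap (Algebra.ofId A₁ K) := by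
    intro x hx
    rw [Submonoid.mem_comap]
    exact isUnit_iff_ne_zero.2 hx
  let φ : (RingHom.ker (algebraMap A₁ K)).ResidueField →ₐ[A₁] K :=
    Ideal.ResidueField.liftₐ _ (Algebra.ofId A₁ K) le_rfl hunits
  have hφ : ∀ a : A₁, φ (algebraMap A₁ _ a) = algebraMap A₁ K a := fun a => φ.commutes a
  refine ⟨AlgEquiv.ofBijective φ ⟨RingHom.injective φ.toRingHom, ?_⟩⟩
  intro x
  obtain ⟨a, b, hb, hab⟩ := hK x
  refine ⟨algebraMap A₁ _ a / algebraMap A₁ _ b, ?_⟩
  rw [map_div₀, hφ, hφ, div_eq_iff hb, hab]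

/-- Regularity of a Noetherian `Λ`-algebra can be checked on localizations at the maximal ideals
of `Λ` (any model of the localization). -/
theorem isRegularRing_of_forall_maximal' (Λ T : Type u) [CommRing Λ] [CommRing T]
    [Algebra Λ T] [IsNoetherianRing T]
    (h : ∀ (n : Ideal Λ) [n.IsMaximal], ∃ (T' : Type u) (_ : CommRing T') (_ : Algebra T T'),
      IsLocalization (Algebra.algebraMapSubmonoid T n.primeCompl) T' ∧ IsRegularRing T') :
    IsRegularRing T := by
  apply Groth.Agent.Lib.GeomRegAdicH3.isRegularRing_of_forall_maximal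
  intro 𝔐 h𝔐
  haveI : 𝔐.IsPrime := h𝔐.isPrime
  let q : Ideal Λ := 𝔐.comap (algebraMap Λ T)
  have hq : q ≠ ⊤ := (Ideal.comap_ne_top _ h𝔐.ne_top)
  obtain ⟨n, hn, hqn⟩ := Ideal.exists_le_maximal q hq
  haveI := hn
  obtain ⟨T', _, _, hT'loc, hT'reg⟩ := h n
  haveI := hT'loc
  haveI := hT'reg
  let M : Submonoid T := Algebra.algebraMapSubmonoid T n.primeCompl
  have hle : M ≤ 𝔐.primeCompl := by
    rintro _ ⟨s, hs, rfl⟩
    intro hmem
    exact hs (hqn hmem)
  letI : Algebra T' (Localization.AtPrime 𝔐) :=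
    IsLocalization.localizationAlgebraOfSubmonoidLe T' (Localization.AtPrime 𝔐)
      M 𝔐.primeCompl hle
  haveI : IsScalarTower T T' (Localization.AtPrime 𝔐) :=
    IsLocalization.localization_isScalarTower_of_submonoid_le T'
      (Localization.AtPrime 𝔐) M 𝔐.primeCompl hle
  haveI : IsLocalization (𝔐.primeCompl.map (algebraMap T T'))
      (Localization.AtPrime 𝔐) :=
    IsLocalization.isLocalization_of_submonoid_le T' (Localization.AtPrime 𝔐)
      M 𝔐.primeCompl hle
  haveI : IsRegularRing (Localization.AtPrime 𝔐) :=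
    Groth.Agent.Lib.RegLocH3.isRegularRing_of_isLocalization
      (𝔐.primeCompl.map (algebraMap T T')) (Localization.AtPrime 𝔐)
  exact IsRegularLocalRing.of_isRegularRing_of_isLocalRing _

set_option maxHeartbeats 4000000 in
theorem isRegularRing_tensor_cpl
    (H : ∀ (S : Type u) [CommRing S] [Algebra R S] [Module.Finite R S] [Module.Free R S]
      (q : Ideal S) [q.IsPrime] (p : Ideal (Localization.AtPrime q)) [p.IsPrime],
      IsRegularRing (EGA4.formalFibre (Localization.AtPrime q) p))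
    (P : Ideal R) [P.IsPrime] (𝔭 : Ideal (Localization.AtPrime P)) [𝔭.IsPrime]
    (K : Type u) [Field K] [Algebra (Localization.AtPrime P) K] [Algebra 𝔭.ResidueField K]
    [IsScalarTower (Localization.AtPrime P) 𝔭.ResidueField K] [Module.Finite 𝔭.ResidueField K] :
    IsRegularRing (K ⊗[Localization.AtPrime P] EGA4.Cpl (Localization.AtPrime P)) := by
  obtain ⟨hloc, hnoeth, hcompl, hff, hlh, hmap⟩ :=
    AnUnramH3.completion_facts (Localization.AtPrime P)
  haveI := hloc
  haveI := hnoeth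
  haveI := hcompl
  haveI := hff
  haveI := GRingFiniteH3.isScalarTower_cpl R P
  -- `K` over `R`
  letI algRK : Algebra R K := Algebra.compHom K (algebraMap R (Localization.AtPrime P))
  haveI : IsScalarTower R (Localization.AtPrime P) K := IsScalarTower.of_algebraMap_eq fun _ => rfl
  obtain ⟨𝔭₀, h𝔭₀⟩ : ∃ 𝔭₀ : Ideal R, 𝔭₀ = 𝔭.comap (algebraMap R (Localization.AtPrime P)) :=
    ⟨_, rfl⟩
  haveI : 𝔭₀.IsPrime := by rw [h𝔭₀]; exact Ideal.comap_isPrime _ _
  have hb : Function.Bijective (Ideal.ResidueField.map 𝔭₀ 𝔭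
      (algebraMap R (Localization.AtPrime P)) h𝔭₀) :=
    (RingHom.surjectiveOnStalks_of_isLocalization P.primeCompl
      (Localization.AtPrime P)).residueFieldMap_bijective 𝔭₀ 𝔭 h𝔭₀
  letI algκK : Algebra 𝔭₀.ResidueField K := ((algebraMap 𝔭.ResidueField K).comp
    (Ideal.ResidueField.map 𝔭₀ 𝔭 (algebraMap R (Localization.AtPrime P)) h𝔭₀)).toAlgebra
  haveI : IsScalarTower R 𝔭₀.ResidueField K := IsScalarTower.of_algebraMap_eq fun r => by
    show algebraMap (Localization.AtPrime P) K (algebraMap R _ r) =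
      algebraMap 𝔭.ResidueField K (Ideal.ResidueField.map 𝔭₀ 𝔭 _ h𝔭₀ (algebraMap R _ r))
    rw [Ideal.ResidueField.map_algebraMap,
      ← IsScalarTower.algebraMap_apply (Localization.AtPrime P) 𝔭.ResidueField K]
  haveI : Module.Finite 𝔭₀.ResidueField K :=
    Module.Finite.of_equiv_equiv (A₁ := 𝔭.ResidueField) (B₁ := K)
      (RingEquiv.ofBijective _ hb).symm (RingEquiv.refl K) (by
        refine RingHom.ext fun x => ?_
        show algebraMap 𝔭.ResidueField K (Ideal.ResidueField.map 𝔭₀ 𝔭 _ h𝔭₀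
          ((RingEquiv.ofBijective _ hb).symm x)) = algebraMap 𝔭.ResidueField K x
        exact congrArg _ ((RingEquiv.ofBijective _ hb).apply_symm_apply x))
  obtain ⟨S, _, _, _, _, hq, e, he⟩ := FiniteFreeResH3.main R 𝔭₀ K
  haveI := hq
  haveI : IsNoetherianRing S := IsNoetherianRing.of_finite R S
  obtain ⟨q, hqdef⟩ : ∃ q : Ideal S, q = 𝔭₀.map (algebraMap R S) := ⟨_, rfl⟩
  letI algSK : Algebra S K := (e.toRingHom.comp
    (algebraMap S (𝔭₀.map (algebraMap R S)).ResidueField)).toAlgebra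
  have halgSK : ∀ s : S, algebraMap S K s =
      e (algebraMap S (𝔭₀.map (algebraMap R S)).ResidueField s) := fun _ => rfl
  haveI : IsScalarTower R S K := IsScalarTower.of_algebraMap_eq fun r => by
    rw [halgSK, ← IsScalarTower.algebraMap_apply R S, he]
  have hker : ∀ s : S, algebraMap S K s = 0 ↔ s ∈ q := by
    intro s
    rw [halgSK, map_eq_zero_iff e e.injective, Ideal.algebraMap_residueField_eq_zero, hqdef]
  have hKgen : ∀ x : K, ∃ a b : S, algebraMap S K b ≠ 0 ∧
      x * algebraMap S K b = algebraMap S K a := by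
    intro x
    obtain ⟨n, d, hd, hnd⟩ := IsFractionRing.div_surjective
      (A := S ⧸ 𝔭₀.map (algebraMap R S)) (e.symm x)
    obtain ⟨a, rfl⟩ := Ideal.Quotient.mk_surjective n
    obtain ⟨b, rfl⟩ := Ideal.Quotient.mk_surjective d
    rw [Ideal.algebraMap_quotient_residueField_mk, Ideal.algebraMap_quotient_residueField_mk]
      at hnd
    have hb0 : algebraMap S (𝔭₀.map (algebraMap R S)).ResidueField b ≠ 0 := by
      rw [← Ideal.algebraMap_quotient_residueField_mk]
      exact map_ne_zero_of_mem_nonZeroDivisors _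
        (IsFractionRing.injective _ _) hd
    refine ⟨a, b, ?_, ?_⟩
    · rw [halgSK]
      exact fun h => hb0 ((map_eq_zero_iff e e.injective).1 h)
    · rw [halgSK, halgSK, ← e.apply_symm_apply x, ← map_mul, ← hnd, div_mul_cancel₀ _ hb0]
  -- reduce to `K ⊗[S] Ch`
  let e₁ : K ⊗[Localization.AtPrime P] EGA4.Cpl (Localization.AtPrime P) ≃ₐ[Localization.AtPrime P]
      K ⊗[R] EGA4.Cpl (Localization.AtPrime P) :=
    IsLocalization.algebraTensorEquiv P.primeCompl (Localization.AtPrime P) K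
      (EGA4.Cpl (Localization.AtPrime P))
  let e₂ : K ⊗[S] (S ⊗[R] EGA4.Cpl (Localization.AtPrime P)) ≃ₐ[K]
      K ⊗[R] EGA4.Cpl (Localization.AtPrime P) :=
    Algebra.TensorProduct.cancelBaseChange R S K K (EGA4.Cpl (Localization.AtPrime P))
  haveI : IsNoetherianRing (𝔭.Fiber (EGA4.Cpl (Localization.AtPrime P))) :=
    RegFlatH3.isNoetherianRing_fiber _ _ 𝔭
  haveI hN0 : IsNoetherianRing (K ⊗[Localization.AtPrime P] EGA4.Cpl (Localization.AtPrime P)) :=
    RegFlatH3.isNoetherianRing_tensor_of_finite_residueField (Localization.AtPrime P)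
      (EGA4.Cpl (Localization.AtPrime P)) 𝔭 K
  haveI hN : IsNoetherianRing (K ⊗[S] (S ⊗[R] EGA4.Cpl (Localization.AtPrime P))) :=
    isNoetherianRing_of_ringEquiv _ (e₁.toRingEquiv.trans e₂.symm.toRingEquiv)
  suffices hmain : IsRegularRing (K ⊗[S] (S ⊗[R] EGA4.Cpl (Localization.AtPrime P))) by
    haveI := hmain
    exact IsRegularRing.of_ringEquiv
      (R := K ⊗[S] (S ⊗[R] EGA4.Cpl (Localization.AtPrime P)))
      (e₂.toRingEquiv.trans e₁.symm.toRingEquiv)
  -- structure of `Ch`
  letI algR : Algebra (EGA4.Cpl (Localization.AtPrime P))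
      (S ⊗[R] EGA4.Cpl (Localization.AtPrime P)) := Algebra.TensorProduct.rightAlgebra
  haveI : Module.Finite (EGA4.Cpl (Localization.AtPrime P))
      (S ⊗[R] EGA4.Cpl (Localization.AtPrime P)) :=
    Module.Finite.equiv
      (Algebra.TensorProduct.commRight R (EGA4.Cpl (Localization.AtPrime P)) S).toLinearEquiv
  haveI : Module.Flat R (EGA4.Cpl (Localization.AtPrime P)) :=
    Module.Flat.trans R (Localization.AtPrime P) (EGA4.Cpl (Localization.AtPrime P))
  haveI : Module.Flat S (S ⊗[R] EGA4.Cpl (Localization.AtPrime P)) := inferInstance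
  letI algT : Algebra (S ⊗[R] EGA4.Cpl (Localization.AtPrime P))
      (K ⊗[S] (S ⊗[R] EGA4.Cpl (Localization.AtPrime P))) := Algebra.TensorProduct.rightAlgebra
  apply isRegularRing_of_forall_maximal'
    (S ⊗[R] EGA4.Cpl (Localization.AtPrime P))
    (K ⊗[S] (S ⊗[R] EGA4.Cpl (Localization.AtPrime P)))
  intro 𝔫 h𝔫
  haveI := h𝔫
  haveI : 𝔫.IsPrime := h𝔫.isPrime
  -- regularity of `K ⊗[S] Ch_𝔫`
  have hY : IsRegularRing (K ⊗[S] Localization.AtPrime 𝔫) := by
    obtain ⟨𝔫₀, h𝔫₀⟩ : ∃ 𝔫₀ : Ideal S, 𝔫₀ = 𝔫.comap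
        (algebraMap S (S ⊗[R] EGA4.Cpl (Localization.AtPrime P))) := ⟨_, rfl⟩
    haveI h𝔫₀p : 𝔫₀.IsPrime := by rw [h𝔫₀]; exact Ideal.comap_isPrime _ _
    by_cases hq𝔫 : q ≤ 𝔫₀
    · -- `K` is an algebra over `A₁ = S_𝔫₀`
      have hunit : ∀ t : 𝔫₀.primeCompl, IsUnit (algebraMap S K t) := by
        intro t
        rw [isUnit_iff_ne_zero, Ne, hker]
        exact fun h => t.2 (hq𝔫 h)
      letI algA₁K : Algebra (Localization.AtPrime 𝔫₀) K :=
        (IsLocalization.lift (M := 𝔫₀.primeCompl) (g := algebraMap S K) hunit).toAlgebra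
      haveI : IsScalarTower S (Localization.AtPrime 𝔫₀) K := IsScalarTower.of_algebraMap_eq
        fun s => (IsLocalization.lift_eq (M := 𝔫₀.primeCompl) hunit s).symm
      obtain ⟨p, hp, ⟨eφ⟩⟩ := exists_algEquiv_residueField (Localization.AtPrime 𝔫₀) K (by
        intro x
        obtain ⟨a, b, hb, hab⟩ := hKgen x
        refine ⟨algebraMap S _ a, algebraMap S _ b, ?_, ?_⟩
        · rwa [← IsScalarTower.algebraMap_apply S (Localization.AtPrime 𝔫₀) K]
        · rwa [← IsScalarTower.algebraMap_apply S (Localization.AtPrime 𝔫₀) K,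
            ← IsScalarTower.algebraMap_apply S (Localization.AtPrime 𝔫₀) K])
      haveI := hp
      have hH : IsRegularRing (EGA4.formalFibre (Localization.AtPrime 𝔫₀) p) := H S 𝔫₀ p
      have hregA : IsRegularRing (K ⊗[Localization.AtPrime 𝔫₀]
          EGA4.Cpl (Localization.AtPrime 𝔫₀)) := by
        haveI := hH
        exact IsRegularRing.of_ringEquiv
          (R := p.ResidueField ⊗[Localization.AtPrime 𝔫₀] EGA4.Cpl (Localization.AtPrime 𝔫₀))
          (Algebra.TensorProduct.congr eφ AlgEquiv.refl).toRingEquiv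
      subst h𝔫₀
      exact isRegularRing_tensor_localization_of_cpl S (Localization.AtPrime _) (Ideal.primeCompl _)
        (EGA4.Cpl (Localization.AtPrime P)) (S ⊗[R] EGA4.Cpl (Localization.AtPrime P)) 𝔫
        (IsLocalization.AtPrime.comap_maximalIdeal (Localization.AtPrime _) _).symm
        (le_map_comap R S P 𝔫) (exists_res R S P 𝔫) K hregA
    · -- the tensor product is trivial
      obtain ⟨s, hsq, hs𝔫⟩ := Set.not_subset.1 hq𝔫
      have hs0 : algebraMap S K s = 0 := (hker s).2 hsq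
      have hsu : IsUnit (algebraMap S (Localization.AtPrime 𝔫) s) := by
        rw [IsScalarTower.algebraMap_apply S (S ⊗[R] EGA4.Cpl (Localization.AtPrime P))
          (Localization.AtPrime 𝔫)]
        refine IsLocalization.map_units (Localization.AtPrime 𝔫)
          (⟨algebraMap S _ s, ?_⟩ : 𝔫.primeCompl)
        intro h
        apply hs𝔫
        rw [h𝔫₀]
        exact h
      obtain ⟨u, hu⟩ := hsu
      haveI : Subsingleton (K ⊗[S] Localization.AtPrime 𝔫) := by
        refine subsingleton_of_zero_eq_one ?_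
        have h1 : (1 : K ⊗[S] Localization.AtPrime 𝔫) =
            (1 : K) ⊗ₜ[S] (s • (↑u⁻¹ : Localization.AtPrime 𝔫)) := by
          rw [Algebra.smul_def, ← hu, Units.mul_inv]
          rfl
        rw [h1, TensorProduct.tmul_smul, TensorProduct.smul_tmul', Algebra.smul_def, hs0,
          zero_mul, TensorProduct.zero_tmul]
      exact isRegularRing_of_subsingleton _
  -- the localization of the tensor product
  obtain ⟨alg, hlocT, -⟩ := RegHomBCH3.exists_isLocalization_tensor S K
    (S ⊗[R] EGA4.Cpl (Localization.AtPrime P)) 𝔫.primeCompl (Localization.AtPrime 𝔫)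
  letI := alg
  have hsub : 𝔫.primeCompl.map (Algebra.TensorProduct.includeRight (R := S) (A := K)
      (B := S ⊗[R] EGA4.Cpl (Localization.AtPrime P))) = Algebra.algebraMapSubmonoid
      (K ⊗[S] (S ⊗[R] EGA4.Cpl (Localization.AtPrime P))) 𝔫.primeCompl := rfl
  rw [hsub] at hlocT
  exact ⟨K ⊗[S] Localization.AtPrime 𝔫, inferInstance, alg, hlocT, hY⟩

theorem isGRing_of_forall
    (H : ∀ (S : Type u) [CommRing S] [Algebra R S] [Module.Finite R S] [Module.Free R S]
      (q : Ideal S) [q.IsPrime] (p : Ideal (Localization.AtPrime q)) [p.IsPrime],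
      IsRegularRing (EGA4.formalFibre (Localization.AtPrime q) p)) : CAlg.IsGRing R := by
  refine ⟨inferInstance, fun P hP => ?_⟩
  obtain ⟨hloc, hnoeth, hcompl, hff, hlh, hmap⟩ :=
    AnUnramH3.completion_facts (Localization.AtPrime P)
  haveI := hnoeth
  haveI := hff
  refine RegFlatH3.isRegularHom_of_forall_finite _ _ inferInstance
    (fun p _ => RegFlatH3.isNoetherianRing_fiber _ _ p) ?_
  intro 𝔭 h𝔭 K _ _ _ _ hfin
  haveI := hfin
  exact isRegularRing_tensor_cpl R H P 𝔭 K

theorem main :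
    CAlg.IsGRing R ↔
      ∀ (S : Type u) [CommRing S] [Algebra R S] [Module.Finite R S] [Module.Free R S]
        (q : Ideal S) [q.IsPrime] (p : Ideal (Localization.AtPrime q)) [p.IsPrime],
        IsRegularRing (EGA4.formalFibre (Localization.AtPrime q) p) :=
  ⟨fun hG S _ _ _ _ q _ p _ => forall_of_isGRing R hG S q p, isGRing_of_forall R⟩

end Main

end Groth.Agent.Lib.GRingFreeH3
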