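import Mathlib
import Groth.Prelude.Def_Found
import Groth.Prelude.Def_EGA4b
import Groth.Agent.Lib.GRingIso_helper3
import Groth.Agent.Lib.GRingCore_helper3
import Groth.Agent.Lib.GRingQF_helper3
import Groth.Agent.Lib.RegFlat_helper3
import Groth.Agent.Lib.AnUnram_helper3

set_option autoImplicit false
universe u
open TensorProduct IsLocalRing

namespace Groth.Agent.Lib.GRingGenFF

variable (R : Type u) [CommRing R] [IsNoetherianRing R]

theorem forward (h : CAlg.IsGRing R) (q : Ideal R) [q.IsPrime] (P : Ideal (R ⧸ q)) [P.IsPrime] :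
    CAlg.IsGeometricallyRegular (⊥ : Ideal (Localization.AtPrime P)).ResidueField
      (EGA4.formalFibre (Localization.AtPrime P) (⊥ : Ideal (Localization.AtPrime P))) := by
  let p : Ideal R := P.comap (Ideal.Quotient.mk q)
  haveI : p.IsPrime := Ideal.comap_isPrime _ _
  haveI : IsNoetherianRing (Localization.AtPrime p) :=
    IsLocalization.isNoetherianRing p.primeCompl _ inferInstance
  haveI : IsNoetherianRing (Localization.AtPrime P) :=
    IsLocalization.isNoetherianRing P.primeCompl _ inferInstance
  letI : Algebra (Localization.AtPrime p) (Localization.AtPrime P) :=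
    (Localization.localRingHom p P (Ideal.Quotient.mk q) rfl).toAlgebra
  have hsurj : Function.Surjective
      (algebraMap (Localization.AtPrime p) (Localization.AtPrime P)) :=
    (RingHom.surjectiveOnStalks_of_surjective
      (Ideal.Quotient.mk_surjective (I := q))).localRingHom_surjective p P rfl
  have hreg := Groth.Agent.Lib.GRingIsoH3.isRegularHom_cpl_of_surjective
    (Localization.AtPrime p) (Localization.AtPrime P) hsurj (h.2 p)
  exact (hreg.2 ⊥).2

theorem key_abs (A D : Type u) [CommRing A] [CommRing D] [IsLocalRing A] [IsNoetherianRing A]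
    [IsLocalRing D] [IsNoetherianRing D] [IsDomain D] [Algebra A D]
    (hsurj : Function.Surjective (algebraMap A D)) (Q : Ideal A) [hQ : Q.IsPrime]
    (hker1 : ∀ a : A, algebraMap A D a = 0 → a ∈ Q)
    (hker2 : ∀ a : A, a ∈ Q → algebraMap A D a = 0)
    (hgenD : CAlg.IsGeometricallyRegular (⊥ : Ideal D).ResidueField
      (EGA4.formalFibre D (⊥ : Ideal D)))
    (K : Type u) [Field K] [Algebra A K] [Algebra Q.ResidueField K]
    [IsScalarTower A Q.ResidueField K] [Module.Finite Q.ResidueField K] :
    IsRegularRing (K ⊗[A] EGA4.Cpl A) := by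
  obtain ⟨hlocA, hnoethA, -, hffA, -, -⟩ := Groth.Agent.Lib.AnUnramH3.completion_facts A
  obtain ⟨hlocD, hnoethD, -, hffD, -, -⟩ := Groth.Agent.Lib.AnUnramH3.completion_facts D
  haveI := hnoethA
  haveI := hnoethD
  have hKQ : ∀ a : A, algebraMap A K a = 0 ↔ a ∈ Q := by
    intro a
    rw [IsScalarTower.algebraMap_apply A Q.ResidueField K, map_eq_zero,
      Ideal.algebraMap_residueField_eq_zero]
  have hle : RingHom.ker (algebraMap A D) ≤ RingHom.ker (algebraMap A K) := by
    intro a ha
    rw [RingHom.mem_ker] at ha ⊢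
    exact (hKQ a).mpr (hker1 a ha)
  let g : D →+* K := (algebraMap A D).liftOfSurjective hsurj ⟨algebraMap A K, hle⟩
  have hgf : ∀ a, g (algebraMap A D a) = algebraMap A K a := fun a =>
    (algebraMap A D).liftOfSurjective_comp_apply hsurj ⟨algebraMap A K, hle⟩ a
  letI algDK : Algebra D K := g.toAlgebra
  haveI : IsScalarTower A D K :=
    IsScalarTower.of_algebraMap_eq (fun a => (hgf a).symm)
  have hkerD : RingHom.ker (algebraMap D K) = ⊥ := by
    rw [eq_bot_iff]
    intro x hx
    obtain ⟨a, rfl⟩ := hsurj x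
    rw [RingHom.mem_ker] at hx
    have hx' : algebraMap A K a = 0 := by
      rw [← hgf a]; exact hx
    rw [Ideal.mem_bot]
    exact hker2 a ((hKQ a).mp hx')
  obtain ⟨e⟩ := Groth.Agent.Lib.GRingCoreH3.exists_ringEquiv_tensor_cpl_of_surjective
    A D hsurj K
  haveI : IsNoetherianRing (Q.Fiber (EGA4.Cpl A)) :=
    Groth.Agent.Lib.RegFlatH3.isNoetherianRing_fiber _ _ Q
  haveI : IsNoetherianRing (K ⊗[A] EGA4.Cpl A) :=
    Groth.Agent.Lib.RegFlatH3.isNoetherianRing_tensor_of_finite_residueField
      A (EGA4.Cpl A) Q K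
  haveI : IsNoetherianRing (K ⊗[D] EGA4.Cpl D) :=
    isNoetherianRing_of_ringEquiv _ e
  haveI : IsNoetherianRing ((⊥ : Ideal D).Fiber (EGA4.Cpl D)) :=
    Groth.Agent.Lib.RegFlatH3.isNoetherianRing_fiber _ _ ⊥
  haveI := Groth.Agent.Lib.GRingQFH3.isRegularRing_tensor_of_fiber D
    (EGA4.Cpl D) ⊥ hgenD K hkerD
  exact IsRegularRing.of_ringEquiv e.symm

theorem key (hgen : ∀ (q : Ideal R) [q.IsPrime] (P : Ideal (R ⧸ q)) [P.IsPrime],
      CAlg.IsGeometricallyRegular (⊥ : Ideal (Localization.AtPrime P)).ResidueField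
        (EGA4.formalFibre (Localization.AtPrime P) (⊥ : Ideal (Localization.AtPrime P))))
    (p : Ideal R) [p.IsPrime] (Q : Ideal (Localization.AtPrime p)) [hQ : Q.IsPrime]
    (K : Type u) [Field K] [Algebra (Localization.AtPrime p) K] [Algebra Q.ResidueField K]
    [IsScalarTower (Localization.AtPrime p) Q.ResidueField K] [Module.Finite Q.ResidueField K] :
    IsRegularRing (K ⊗[Localization.AtPrime p] EGA4.Cpl (Localization.AtPrime p)) := by
  haveI hAN : IsNoetherianRing (Localization.AtPrime p) :=
    IsLocalization.isNoetherianRing p.primeCompl _ inferInstance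
  obtain ⟨q, hqdef⟩ : ∃ q : Ideal R, q = Q.comap (algebraMap R (Localization.AtPrime p)) :=
    ⟨_, rfl⟩
  haveI hqprime : q.IsPrime := by rw [hqdef]; exact Ideal.comap_isPrime _ _
  have hqp : q ≤ p := by
    intro x hx
    rw [hqdef] at hx
    have h1 : algebraMap R (Localization.AtPrime p) x ∈ maximalIdeal (Localization.AtPrime p) :=
      IsLocalRing.le_maximalIdeal hQ.ne_top hx
    exact (IsLocalization.AtPrime.to_map_mem_maximal_iff (Localization.AtPrime p) p x).mp h1
  obtain ⟨P, hPdef⟩ : ∃ P : Ideal (R ⧸ q), P = p.map (Ideal.Quotient.mk q) := ⟨_, rfl⟩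
  have hPcomap : p = P.comap (Ideal.Quotient.mk q) := by
    rw [hPdef, Ideal.comap_map_of_surjective _ Ideal.Quotient.mk_surjective,
      ← RingHom.ker_eq_comap_bot, Ideal.mk_ker]
    exact (sup_eq_left.mpr hqp).symm
  haveI hPprime : P.IsPrime := by
    rw [hPdef]
    exact Ideal.map_isPrime_of_surjective Ideal.Quotient.mk_surjective (by rwa [Ideal.mk_ker])
  haveI hDN : IsNoetherianRing (Localization.AtPrime P) :=
    IsLocalization.isNoetherianRing P.primeCompl _ inferInstance
  let f : Localization.AtPrime p →+* Localization.AtPrime P :=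
    Localization.localRingHom p P (Ideal.Quotient.mk q) hPcomap
  letI algAD : Algebra (Localization.AtPrime p) (Localization.AtPrime P) := f.toAlgebra
  have hsurj : Function.Surjective f :=
    (RingHom.surjectiveOnStalks_of_surjective
      (Ideal.Quotient.mk_surjective (I := q))).localRingHom_surjective p P hPcomap
  have hsurj' : Function.Surjective
      (algebraMap (Localization.AtPrime p) (Localization.AtPrime P)) := hsurj
  have hMle : P.primeCompl ≤ nonZeroDivisors (R ⧸ q) := fun y hy =>
    mem_nonZeroDivisors_of_ne_zero (fun h0 => hy (h0 ▸ P.zero_mem))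
  -- kernel of f is Q
  have hker1 : ∀ a : Localization.AtPrime p, f a = 0 → a ∈ Q := by
    intro a ha
    obtain ⟨⟨r, s⟩, hrs⟩ := IsLocalization.surj p.primeCompl a
    have h2 : f (algebraMap R _ r) = 0 := by
      rw [← hrs, map_mul, ha, zero_mul]
    rw [Localization.localRingHom_to_map,
      IsLocalization.to_map_eq_zero_iff (Localization.AtPrime P) hMle,
      Ideal.Quotient.eq_zero_iff_mem, hqdef] at h2
    have h3 : a * algebraMap R _ (s : R) ∈ Q := by
      rw [hrs]; exact h2
    refine (hQ.mem_or_mem h3).resolve_right (fun h' => hQ.ne_top ?_)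
    exact Ideal.eq_top_of_isUnit_mem _ h' (IsLocalization.map_units _ s)
  have hker2 : ∀ a : Localization.AtPrime p, a ∈ Q → f a = 0 := by
    intro a ha
    obtain ⟨⟨r, s⟩, hrs⟩ := IsLocalization.surj p.primeCompl a
    have h3 : algebraMap R (Localization.AtPrime p) r ∈ Q := by
      rw [← hrs]; exact Q.mul_mem_right _ ha
    have h4 : r ∈ q := by rw [hqdef]; exact h3
    have h5 : f (algebraMap R _ r) = 0 := by
      rw [Localization.localRingHom_to_map,
        (Ideal.Quotient.eq_zero_iff_mem (I := q)).mpr h4, map_zero]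
    have hu : IsUnit (f (algebraMap R _ (s : R))) :=
      (IsLocalization.map_units (Localization.AtPrime p) s).map f
    have h6 : f a * f (algebraMap R _ (s : R)) = 0 := by
      rw [← map_mul, hrs, h5]
    exact (hu.mul_left_eq_zero).mp h6
  exact key_abs (Localization.AtPrime p) (Localization.AtPrime P) hsurj' Q hker1 hker2
    (hgen q P) K

theorem backward (hgen : ∀ (q : Ideal R) [q.IsPrime] (P : Ideal (R ⧸ q)) [P.IsPrime],
      CAlg.IsGeometricallyRegular (⊥ : Ideal (Localization.AtPrime P)).ResidueField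
        (EGA4.formalFibre (Localization.AtPrime P) (⊥ : Ideal (Localization.AtPrime P)))) :
    CAlg.IsGRing R := by
  refine ⟨inferInstance, fun p hp => ?_⟩
  haveI hAN : IsNoetherianRing (Localization.AtPrime p) :=
    IsLocalization.isNoetherianRing p.primeCompl _ inferInstance
  obtain ⟨hloc, hnoeth, -, hff, -, -⟩ :=
    Groth.Agent.Lib.AnUnramH3.completion_facts (Localization.AtPrime p)
  haveI := hnoeth
  haveI := hff
  refine Groth.Agent.Lib.RegFlatH3.isRegularHom_of_forall_finite (Localization.AtPrime p)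
    (EGA4.Cpl (Localization.AtPrime p)) inferInstance
    (fun Q _ => Groth.Agent.Lib.RegFlatH3.isNoetherianRing_fiber _ _ Q) ?_
  intro Q hQ K _ _ _ _ hfin
  haveI := hfin
  exact key R hgen p Q K

theorem main : CAlg.IsGRing R ↔
      ∀ (q : Ideal R) [q.IsPrime] (P : Ideal (R ⧸ q)) [P.IsPrime],
        CAlg.IsGeometricallyRegular (⊥ : Ideal (Localization.AtPrime P)).ResidueField
          (EGA4.formalFibre (Localization.AtPrime P) (⊥ : Ideal (Localization.AtPrime P))) :=
  ⟨fun h q _ P _ => forward R h q P, fun h => backward R h⟩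

end Groth.Agent.Lib.GRingGenFF
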