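import Mathlib
import Groth.Prelude.Def_Found
import Groth.Agent.Lib.RegHomBC_helper3

/-!
# Transport of regular homomorphisms / G-ring conditions along ring isomorphisms (helper8)
APPEND-ONLY once landed.
-/

set_option autoImplicit false
set_option maxSynthPendingDepth 3

namespace GRingTrH8

open TensorProduct

universe u

section Transport

variable {A B A' B' : Type u} [CommRing A] [CommRing B] [CommRing A'] [CommRing B']
  [Algebra A B] [Algebra A' B']

theorem isRegularHom_of_ringEquiv (e : A ≃+* A') (ê : B ≃+* B')
    (hc : ∀ a, ê (algebraMap A B a) = algebraMap A' B' (e a)) (h : CAlg.IsRegularHom A B) :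
    CAlg.IsRegularHom A' B' := by
  letI : Algebra A A' := e.toRingHom.toAlgebra
  letI : Algebra B B' := ê.toRingHom.toAlgebra
  letI : Algebra A B' := ((algebraMap A' B').comp e.toRingHom).toAlgebra
  haveI : IsScalarTower A A' B' := IsScalarTower.of_algebraMap_eq (fun _ => rfl)
  haveI : IsScalarTower A B B' := IsScalarTower.of_algebraMap_eq (fun a => (hc a).symm)
  haveI hpo : Algebra.IsPushout A B A' B' := by
    constructor
    let eM : A ≃ₗ[A] A' :=
      { e.toAddEquiv with
        map_smul' := fun a x => by
          change e (a * x) = e a * e x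
          exact map_mul e a x }
    let eN : B ≃ₗ[B] B' :=
      { ê.toAddEquiv with
        map_smul' := fun a x => by
          change ê (a * x) = ê a * ê x
          exact map_mul ê a x }
    refine (IsBaseChange.iff_of_equiv_comm (S := B) (f := Algebra.linearMap A B)
      (f' := (IsScalarTower.toAlgHom A A' B').toLinearMap) eM eN ?_).mp (IsBaseChange.linearMap A B)
    ext
    change algebraMap A' B' (e 1) = ê (algebraMap A B 1)
    rw [hc]
  refine Groth.Agent.Lib.RegHomBCH3.isRegularHom_of_isPushout (A := A) (B := B) A' B' h ?_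
  intro p' hp'
  -- the prime of `A` below `p'`
  let p : Ideal A := p'.comap e.toRingHom
  haveI : p.IsPrime := Ideal.comap_isPrime _ _
  letI : Algebra p.ResidueField p'.ResidueField :=
    (Ideal.ResidueField.map p p' e.toRingHom rfl).toAlgebra
  haveI : IsScalarTower A A' p'.ResidueField := inferInstance
  haveI : IsScalarTower A p.ResidueField p'.ResidueField := by
    refine IsScalarTower.of_algebraMap_eq (fun a => ?_)
    change _ = Ideal.ResidueField.map p p' e.toRingHom rfl (algebraMap A p.ResidueField a)
    rw [Ideal.ResidueField.map_algebraMap]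
    rfl
  have hsurj : Function.Surjective (algebraMap p.ResidueField p'.ResidueField) :=
    ((RingHom.surjectiveOnStalks_of_surjective e.surjective).residueFieldMap_bijective
      p p' rfl).2
  haveI : Module.Finite p.ResidueField p'.ResidueField :=
    Module.Finite.of_surjective (Algebra.linearMap p.ResidueField p'.ResidueField) hsurj
  haveI := (h.2 p).1
  haveI : IsNoetherianRing (p'.ResidueField ⊗[A] B) :=
    Groth.Agent.Lib.RegFlatH3.isNoetherianRing_tensor_of_finite_residueField A B p p'.ResidueField
  let e1 : B' ⊗[A'] p'.ResidueField ≃ₐ[B] B ⊗[A] p'.ResidueField :=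
    Algebra.IsPushout.cancelBaseChangeAlg A B A' B' p'.ResidueField
  let e2 : p'.ResidueField ⊗[A'] B' ≃+* p'.ResidueField ⊗[A] B :=
    (Algebra.TensorProduct.comm A' p'.ResidueField B').toRingEquiv.trans
      (e1.toRingEquiv.trans (Algebra.TensorProduct.comm A B p'.ResidueField).toRingEquiv)
  exact isNoetherianRing_of_ringEquiv _ e2.symm

end Transport

section Compl

variable {R R' : Type u} [CommRing R] [CommRing R']

lemma pow_le_comap_pow (I : Ideal R) (I' : Ideal R') (f : R →+* R') (hf : I ≤ I'.comap f) (n : ℕ) :
    I ^ n ≤ (I' ^ n).comap f :=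
  (Ideal.pow_right_mono hf n).trans (Ideal.le_comap_pow f n)

lemma complMap_compat (I : Ideal R) (I' : Ideal R') (f : R →+* R') (hf : I ≤ I'.comap f)
    {m n : ℕ} (hle : m ≤ n) :
    (Ideal.Quotient.factorPow I' hle).comp
        ((Ideal.quotientMap (I' ^ n) f (pow_le_comap_pow I I' f hf n)).comp
          (AdicCompletion.evalₐ I n).toRingHom) =
      (Ideal.quotientMap (I' ^ m) f (pow_le_comap_pow I I' f hf m)).comp
        (AdicCompletion.evalₐ I m).toRingHom := by
  ext x
  obtain ⟨s, rfl⟩ := AdicCompletion.mk_surjective I R x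
  simp only [RingHom.coe_comp, Function.comp_apply, AlgHom.toRingHom_eq_coe, RingHom.coe_coe,
    AdicCompletion.evalₐ_mk, Ideal.quotientMap_mk]
  rw [Ideal.Quotient.factor_mk]
  rw [Ideal.Quotient.eq, ← map_sub]
  have h1 : s.val n - s.val m ∈ I ^ m := by
    have := s.prop hle
    rw [SModEq.sub_mem] at this
    have h2 : (s.val m - s.val n) ∈ I ^ m := by simpa using this
    have := (I ^ m).neg_mem h2
    simpa using this
  exact pow_le_comap_pow I I' f hf m h1

/-- The ring map induced on adic completions. -/
noncomputable def complMap (I : Ideal R) (I' : Ideal R') (f : R →+* R') (hf : I ≤ I'.comap f) :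
    AdicCompletion I R →+* AdicCompletion I' R' :=
  AdicCompletion.liftRingHom I'
    (fun n => (Ideal.quotientMap (I' ^ n) f (pow_le_comap_pow I I' f hf n)).comp
       (AdicCompletion.evalₐ I n).toRingHom)
    (fun hle => complMap_compat I I' f hf hle)

@[simp] lemma evalₐ_complMap (I : Ideal R) (I' : Ideal R') (f : R →+* R') (hf : I ≤ I'.comap f)
    (n : ℕ) (x : AdicCompletion I R) :
    AdicCompletion.evalₐ I' n (complMap I I' f hf x) =
      Ideal.quotientMap (I' ^ n) f (pow_le_comap_pow I I' f hf n) (AdicCompletion.evalₐ I n x) :=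
  AdicCompletion.evalₐ_liftRingHom I' _ (fun hle => complMap_compat I I' f hf hle) n x

lemma complMap_algebraMap (I : Ideal R) (I' : Ideal R') (f : R →+* R') (hf : I ≤ I'.comap f)
    (x : R) :
    complMap I I' f hf (algebraMap R (AdicCompletion I R) x) =
      algebraMap R' (AdicCompletion I' R') (f x) := by
  apply AdicCompletion.ext_evalₐ
  intro n
  rw [evalₐ_complMap]
  simp

lemma complMap_complMap_symm (I : Ideal R) (I' : Ideal R') (e : R ≃+* R')
    (h1 : I ≤ I'.comap (e : R →+* R')) (h2 : I' ≤ I.comap (e.symm : R' →+* R))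
    (x : AdicCompletion I R) :
    complMap I' I (e.symm : R' →+* R) h2 (complMap I I' (e : R →+* R') h1 x) = x := by
  apply AdicCompletion.ext_evalₐ
  intro n
  rw [evalₐ_complMap, evalₐ_complMap]
  obtain ⟨y, hy⟩ := Ideal.Quotient.mk_surjective (AdicCompletion.evalₐ I n x)
  rw [← hy, Ideal.quotientMap_mk, Ideal.quotientMap_mk]
  simp

/-- The ring isomorphism of adic completions induced by a ring isomorphism. -/
noncomputable def complEquiv (I : Ideal R) (I' : Ideal R') (e : R ≃+* R')
    (h : I = I'.comap (e : R →+* R')) : AdicCompletion I R ≃+* AdicCompletion I' R' :=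
  have h2 : I' ≤ I.comap (e.symm : R' →+* R) := by
    intro y hy
    rw [Ideal.mem_comap, h, Ideal.mem_comap]
    simpa using hy
  RingEquiv.ofRingHom (complMap I I' (e : R →+* R') h.le) (complMap I' I (e.symm : R' →+* R) h2)
    (by
      refine RingHom.ext (fun x => ?_)
      have := complMap_complMap_symm I' I e.symm h2 (by simpa using h.le) x
      simpa using this)
    (by
      refine RingHom.ext (fun x => ?_)
      exact complMap_complMap_symm I I' e h.le h2 x)

lemma complEquiv_algebraMap (I : Ideal R) (I' : Ideal R') (e : R ≃+* R')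
    (h : I = I'.comap (e : R →+* R')) (x : R) :
    complEquiv I I' e h (algebraMap R (AdicCompletion I R) x) =
      algebraMap R' (AdicCompletion I' R') (e x) := by
  have := complMap_algebraMap I I' (e : R →+* R') h.le x
  exact this

theorem isRegularHom_completion_of_ringEquiv [IsLocalRing R] [IsLocalRing R'] (e : R ≃+* R')
    (h : CAlg.IsRegularHom R (AdicCompletion (IsLocalRing.maximalIdeal R) R)) :
    CAlg.IsRegularHom R' (AdicCompletion (IsLocalRing.maximalIdeal R') R') := by
  have hm : IsLocalRing.maximalIdeal R = (IsLocalRing.maximalIdeal R').comap (e : R →+* R') := by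
    have h04 := (IsLocalRing.local_hom_TFAE (e : R →+* R')).out 0 4
    exact (h04.mp (inferInstance : IsLocalHom (e : R →+* R'))).symm
  exact isRegularHom_of_ringEquiv e (complEquiv _ _ e hm) (complEquiv_algebraMap _ _ e hm) h

end Compl

end GRingTrH8
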