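import Mathlib
import Groth.Prelude.Def_EGA4b
import Groth.Agent.Lib.GRingIso_helper3
import Groth.Agent.Lib.GRingMaximal_helper3
import Groth.Agent.Lib.CMClosedPt_helper6

/-!
# G-schemes: detection at closed points (helper3)
-/

set_option autoImplicit false

namespace Groth.Agent.Lib.GSchemeH3

universe u

open AlgebraicGeometry IsLocalRing

lemma cplReg_congr {R : Type u} [CommRing R] {q q' : Ideal R} [q.IsPrime] [q'.IsPrime]
    (h : q = q') :
    CAlg.IsRegularHom (Localization.AtPrime q) (EGA4.Cpl (Localization.AtPrime q)) ↔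
      CAlg.IsRegularHom (Localization.AtPrime q') (EGA4.Cpl (Localization.AtPrime q')) := by
  subst h
  exact Iff.rfl

/-- Regularity of the completion map of the local rings of a Noetherian ring is stable under
generization. -/
theorem cplReg_of_le {R : Type u} [CommRing R] [IsNoetherianRing R] (Q q : Ideal R) [Q.IsPrime]
    [q.IsPrime] (hle : q ≤ Q)
    (hQ : CAlg.IsRegularHom (Localization.AtPrime Q) (EGA4.Cpl (Localization.AtPrime Q))) :
    CAlg.IsRegularHom (Localization.AtPrime q) (EGA4.Cpl (Localization.AtPrime q)) := by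
  haveI : IsNoetherianRing (Localization.AtPrime Q) :=
    IsLocalization.isNoetherianRing Q.primeCompl _ inferInstance
  have hG : CAlg.IsGRing (Localization.AtPrime Q) :=
    Groth.Agent.Lib.GRingIsoH3.isGRing_of_isRegularHom_cpl _ hQ
  have hdisj : Disjoint (Q.primeCompl : Set R) (q : Set R) := by
    rw [Set.disjoint_left]
    intro a ha ha'
    exact ha (hle ha')
  haveI hp : (q.map (algebraMap R (Localization.AtPrime Q))).IsPrime :=
    IsLocalization.isPrime_of_isPrime_disjoint Q.primeCompl _ q inferInstance hdisj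
  have hcomap : (q.map (algebraMap R (Localization.AtPrime Q))).comap
      (algebraMap R (Localization.AtPrime Q)) = q :=
    IsLocalization.under_map_of_isPrime_disjoint Q.primeCompl _ inferInstance hdisj
  have h1 := hG.2 (q.map (algebraMap R (Localization.AtPrime Q)))
  let e := IsLocalization.localizationLocalizationAtPrimeIsoLocalization Q.primeCompl
    (q.map (algebraMap R (Localization.AtPrime Q)))
  haveI : IsNoetherianRing (Localization.AtPrime (q.map (algebraMap R (Localization.AtPrime Q)))) :=
    IsLocalization.isNoetherianRing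
      (q.map (algebraMap R (Localization.AtPrime Q))).primeCompl _ inferInstance
  haveI : IsNoetherianRing (Localization.AtPrime
      ((q.map (algebraMap R (Localization.AtPrime Q))).comap
        (algebraMap R (Localization.AtPrime Q)))) :=
    IsLocalization.isNoetherianRing
      ((q.map (algebraMap R (Localization.AtPrime Q))).comap
        (algebraMap R (Localization.AtPrime Q))).primeCompl _ inferInstance
  have h2 := Groth.Agent.Lib.GRingIsoH3.isRegularHom_cpl_of_ringEquiv e.symm.toRingEquiv h1
  exact (cplReg_congr hcomap).1 h2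

/-- Regularity of the completion map at a point of a locally Noetherian scheme passes to its
generizations. -/
theorem cplReg_of_specializes (X : Scheme.{u}) [IsLocallyNoetherian X] {x z : X} (h : x ⤳ z)
    (hz : CAlg.IsRegularHom (X.presheaf.stalk z) (EGA4.Cpl (X.presheaf.stalk z))) :
    CAlg.IsRegularHom (X.presheaf.stalk x) (EGA4.Cpl (X.presheaf.stalk x)) := by
  obtain ⟨_, ⟨U, hU, rfl⟩, hzU, -⟩ :=
    X.isBasis_affineOpens.exists_subset_of_mem_open (Set.mem_univ z) isOpen_univ
  have hU' : IsAffineOpen U := hU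
  have hxU : x ∈ U := h.mem_open U.isOpen hzU
  haveI : IsNoetherianRing Γ(X, U) := IsLocallyNoetherian.component_noetherian ⟨U, hU'⟩
  let zU : U := ⟨z, hzU⟩
  let xU : U := ⟨x, hxU⟩
  letI algz := X.presheaf.algebra_section_stalk zU
  letI algx := X.presheaf.algebra_section_stalk xU
  haveI locz := hU'.isLocalization_stalk zU
  haveI locx := hU'.isLocalization_stalk xU
  have hle : (hU'.primeIdealOf xU).asIdeal ≤ (hU'.primeIdealOf zU).asIdeal := by
    have h1 : xU ⤳ zU := (subtype_specializes_iff _ _).2 h
    have h2 := h1.map hU'.isoSpec.hom.continuous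
    exact (PrimeSpectrum.le_iff_specializes _ _).2 h2
  let σz : Localization.AtPrime (hU'.primeIdealOf zU).asIdeal ≃+* X.presheaf.stalk (zU : X) :=
    (IsLocalization.algEquiv (hU'.primeIdealOf zU).asIdeal.primeCompl
      (Localization.AtPrime (hU'.primeIdealOf zU).asIdeal) (X.presheaf.stalk (zU : X))).toRingEquiv
  let σx : Localization.AtPrime (hU'.primeIdealOf xU).asIdeal ≃+* X.presheaf.stalk (xU : X) :=
    (IsLocalization.algEquiv (hU'.primeIdealOf xU).asIdeal.primeCompl
      (Localization.AtPrime (hU'.primeIdealOf xU).asIdeal) (X.presheaf.stalk (xU : X))).toRingEquiv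
  haveI : IsNoetherianRing (Localization.AtPrime (hU'.primeIdealOf zU).asIdeal) :=
    IsLocalization.isNoetherianRing (hU'.primeIdealOf zU).asIdeal.primeCompl _ inferInstance
  haveI : IsNoetherianRing (Localization.AtPrime (hU'.primeIdealOf xU).asIdeal) :=
    IsLocalization.isNoetherianRing (hU'.primeIdealOf xU).asIdeal.primeCompl _ inferInstance
  haveI : IsNoetherianRing (X.presheaf.stalk (zU : X)) :=
    isNoetherianRing_of_ringEquiv _ σz
  haveI : IsNoetherianRing (X.presheaf.stalk (xU : X)) :=
    isNoetherianRing_of_ringEquiv _ σx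
  have hz' : CAlg.IsRegularHom (Localization.AtPrime (hU'.primeIdealOf zU).asIdeal)
      (EGA4.Cpl (Localization.AtPrime (hU'.primeIdealOf zU).asIdeal)) :=
    Groth.Agent.Lib.GRingIsoH3.isRegularHom_cpl_of_ringEquiv σz.symm hz
  have hx' := cplReg_of_le _ _ hle hz'
  exact Groth.Agent.Lib.GRingIsoH3.isRegularHom_cpl_of_ringEquiv σx hx'

/-- On an affine open with G-ring of sections, all completion maps of stalks are regular. -/
theorem cplReg_of_isGRing (X : Scheme.{u}) {U : X.Opens} (hU : IsAffineOpen U)
    (hG : CAlg.IsGRing Γ(X, U)) (x : X) (hxU : x ∈ U) :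
    CAlg.IsRegularHom (X.presheaf.stalk x) (EGA4.Cpl (X.presheaf.stalk x)) := by
  haveI : IsNoetherianRing Γ(X, U) := hG.1
  let xU : U := ⟨x, hxU⟩
  letI algx := X.presheaf.algebra_section_stalk xU
  haveI locx := hU.isLocalization_stalk xU
  let σx : Localization.AtPrime (hU.primeIdealOf xU).asIdeal ≃+* X.presheaf.stalk (xU : X) :=
    (IsLocalization.algEquiv (hU.primeIdealOf xU).asIdeal.primeCompl
      (Localization.AtPrime (hU.primeIdealOf xU).asIdeal) (X.presheaf.stalk (xU : X))).toRingEquiv
  haveI : IsNoetherianRing (Localization.AtPrime (hU.primeIdealOf xU).asIdeal) :=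
    IsLocalization.isNoetherianRing (hU.primeIdealOf xU).asIdeal.primeCompl _ inferInstance
  haveI : IsNoetherianRing (X.presheaf.stalk (xU : X)) :=
    isNoetherianRing_of_ringEquiv _ σx
  exact Groth.Agent.Lib.GRingIsoH3.isRegularHom_cpl_of_ringEquiv σx
    (hG.2 (hU.primeIdealOf xU).asIdeal)

/-- If all completion maps of stalks at points of an affine open of a locally Noetherian scheme are
regular, its ring of sections is a G-ring. -/
theorem isGRing_of_cplReg (X : Scheme.{u}) [IsLocallyNoetherian X] {U : X.Opens}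
    (hU : IsAffineOpen U)
    (H : ∀ x : X, x ∈ U →
      CAlg.IsRegularHom (X.presheaf.stalk x) (EGA4.Cpl (X.presheaf.stalk x))) :
    CAlg.IsGRing Γ(X, U) := by
  haveI : IsNoetherianRing Γ(X, U) := IsLocallyNoetherian.component_noetherian ⟨U, hU⟩
  refine ⟨inferInstance, fun p hp => ?_⟩
  let P : PrimeSpectrum Γ(X, U) := ⟨p, hp⟩
  let xU : U := hU.isoSpec.inv P
  have hP : hU.primeIdealOf xU = P := by
    change hU.isoSpec.hom (hU.isoSpec.inv P) = P
    rw [← Scheme.Hom.comp_apply, CategoryTheory.Iso.inv_hom_id]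
    rfl
  letI algx := X.presheaf.algebra_section_stalk xU
  haveI locx := hU.isLocalization_stalk xU
  let σx : Localization.AtPrime (hU.primeIdealOf xU).asIdeal ≃+* X.presheaf.stalk (xU : X) :=
    (IsLocalization.algEquiv (hU.primeIdealOf xU).asIdeal.primeCompl
      (Localization.AtPrime (hU.primeIdealOf xU).asIdeal) (X.presheaf.stalk (xU : X))).toRingEquiv
  haveI : IsNoetherianRing (Localization.AtPrime (hU.primeIdealOf xU).asIdeal) :=
    IsLocalization.isNoetherianRing (hU.primeIdealOf xU).asIdeal.primeCompl _ inferInstance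
  haveI : IsNoetherianRing (X.presheaf.stalk (xU : X)) :=
    isNoetherianRing_of_ringEquiv _ σx
  have h1 := Groth.Agent.Lib.GRingIsoH3.isRegularHom_cpl_of_ringEquiv σx.symm (H xU.1 xU.2)
  have hp' : (hU.primeIdealOf xU).asIdeal = p := by rw [hP]
  exact (cplReg_congr hp').1 h1

theorem main7393 (X : Scheme.{u}) :
    (∀ x : X, ∃ U : X.Opens, x ∈ U ∧ IsAffineOpen U ∧ CAlg.IsGRing Γ(X, U)) ↔
      IsLocallyNoetherian X ∧ ∀ x : X, IsClosed ({x} : Set X) →
        CAlg.IsRegularHom (X.presheaf.stalk x)
          (AdicCompletion (IsLocalRing.maximalIdeal (X.presheaf.stalk x))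
            (X.presheaf.stalk x)) := by
  constructor
  · intro H
    choose U hxU hU hG using H
    refine ⟨?_, fun x _ => cplReg_of_isGRing X (hU x) (hG x) x (hxU x)⟩
    refine isLocallyNoetherian_of_affine_cover (S := fun x : X => ⟨U x, hU x⟩) ?_
      (fun x => (hG x).1)
    rw [eq_top_iff]
    intro x _
    exact TopologicalSpace.Opens.mem_iSup.2 ⟨x, hxU x⟩
  · rintro ⟨hN, H⟩ x
    haveI := hN
    obtain ⟨_, ⟨U, hU, rfl⟩, hxU, -⟩ :=
      X.isBasis_affineOpens.exists_subset_of_mem_open (Set.mem_univ x) isOpen_univ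
    have hU' : IsAffineOpen U := hU
    refine ⟨U, hxU, hU', isGRing_of_cplReg X hU' (fun y _ => ?_)⟩
    obtain ⟨z, hyz, hz⟩ :=
      Groth.Agent.Lib.CMClosedPt_helper6.exists_closed_specialization_scheme X y
    exact cplReg_of_specializes X hyz (H z hz)

end Groth.Agent.Lib.GSchemeH3
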