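import Mathlib
import Groth.Prelude
import Groth.Agent.Lib.GStar1_helper5
import Groth.Agent.Lib.ModHomBasis_helper5

/-!
# The comparison map `(⨁ S_n)~ ⟶ F` on `Proj` (helper5).  APPEND-ONLY once landed.
-/

set_option autoImplicit false
universe u
open CategoryTheory CategoryTheory.Limits AlgebraicGeometry TopologicalSpace Opposite DirectSum
open HomogeneousLocalization

namespace Groth.Agent.GStar

open Groth.Agent.GrTw Groth.Agent.GrTi QcqsLoc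

section LocId
variable {A σ : Type u} [CommRing A] [SetLike σ A] [AddSubgroupClass σ A] (𝒜 : ℕ → σ)
  [GradedRing 𝒜]

theorem mk_eq_mk' {x : ProjectiveSpectrum 𝒜} (a a' : A)
    (b b' : x.asHomogeneousIdeal.toIdeal.primeCompl) (h : a * b'.1 = a' * b.1) :
    (Localization.mk a b : Localization x.asHomogeneousIdeal.toIdeal.primeCompl) =
      Localization.mk a' b' := by
  rw [Localization.mk_eq_mk_iff, Localization.r_iff_exists]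
  refine ⟨1, ?_⟩
  show (1 : A) * (b'.1 * a) = 1 * (b.1 * a')
  rw [one_mul, one_mul, mul_comm b'.1 a, h, mul_comm]

theorem mk_eq_mul2 {x : ProjectiveSpectrum 𝒜} (a a1 a2 : A)
    (b b1 b2 : x.asHomogeneousIdeal.toIdeal.primeCompl)
    (h : a * (b1.1 * b2.1) = a1 * a2 * b.1) :
    (Localization.mk a b : Localization x.asHomogeneousIdeal.toIdeal.primeCompl) =
      Localization.mk a1 b1 * Localization.mk a2 b2 := by
  rw [Localization.mk_mul]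
  exact mk_eq_mk' 𝒜 _ _ _ _ h

theorem mk_eq_mul3 {x : ProjectiveSpectrum 𝒜} (a a1 a2 a3 : A)
    (b b1 b2 b3 : x.asHomogeneousIdeal.toIdeal.primeCompl)
    (h : a * (b1.1 * b2.1 * b3.1) = a1 * a2 * a3 * b.1) :
    (Localization.mk a b : Localization x.asHomogeneousIdeal.toIdeal.primeCompl) =
      Localization.mk a1 b1 * Localization.mk a2 b2 * Localization.mk a3 b3 := by
  rw [Localization.mk_mul, Localization.mk_mul]
  exact mk_eq_mk' 𝒜 _ _ _ _ h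

theorem mk_mul_eq_mul {x : ProjectiveSpectrum 𝒜} (a1 a2 a3 a4 : A)
    (b1 b2 b3 b4 : x.asHomogeneousIdeal.toIdeal.primeCompl)
    (h : a1 * a2 * (b3.1 * b4.1) = a3 * a4 * (b1.1 * b2.1)) :
    (Localization.mk a1 b1 * Localization.mk a2 b2 :
      Localization x.asHomogeneousIdeal.toIdeal.primeCompl) =
      Localization.mk a3 b3 * Localization.mk a4 b4 := by
  rw [Localization.mk_mul, Localization.mk_mul]
  exact mk_eq_mk' 𝒜 _ _ _ _ h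

end LocId

section Alpha
variable {R A : Type u} [CommRing R] [CommRing A] [Algebra R A] {𝒜 : ℕ → Submodule R A}
  [GradedAlgebra 𝒜] {s : Finset A} {F : (Proj 𝒜).Modules} (T : Fam 𝒜 s F)

/-- The module `(⨁ S_n)~`. -/
noncomputable abbrev Mt : (Proj 𝒜).Modules := GrMod.tilde 𝒜 (deg T) 0

theorem smul_mem_deg {e n i : ℕ} {u : A} (hu : u ∈ 𝒜 e) {x : GM T} (hx : x ∈ deg T n)
    (hi : e + n = i) : u • x ∈ deg T i := by
  subst hi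
  exact SetLike.GradedSMul.smul_mem hu hx

theorem pow_mem_deg {d : ℕ} {g : A} (hg : g ∈ 𝒜 d) (k : ℕ) {e : ℕ} (he : k * d = e) :
    g ^ k ∈ 𝒜 e := by
  subst he
  have := SetLike.pow_mem_graded k hg
  rwa [smul_eq_mul] at this

/-- The section `c • (x_f)|_W`. -/
noncomputable def ev (f : Idx 𝒜 s) {W : (Proj 𝒜).Opens} (hW : W ≤ UU 𝒜 s f) (c : Γ(Proj 𝒜, W))
    (n : ℕ) (x : GM T) : Γ(F, W) :=
  c • rF F hW (cmp T n f x)

theorem ev_add (f : Idx 𝒜 s) {W : (Proj 𝒜).Opens} (hW : W ≤ UU 𝒜 s f) (c : Γ(Proj 𝒜, W))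
    (n : ℕ) (x y : GM T) : ev T f hW c n (x + y) = ev T f hW c n x + ev T f hW c n y := by
  unfold ev
  rw [cmp_add, map_add, smul_add]

theorem ev_smul (f : Idx 𝒜 s) {W : (Proj 𝒜).Opens} (hW : W ≤ UU 𝒜 s f) (c : Γ(Proj 𝒜, W))
    {e n i : ℕ} (u : A) (hu : u ∈ 𝒜 e) (x : GM T) (hx : x ∈ deg T n) (hi : e + n = i) :
    ev T f hW c i (u • x) = ev T f hW (c * rX hW (frO f e u hu)) n x := by
  subst hi
  unfold ev
  rw [cmp_smul T u hu x hx f, rF_smul, mul_smul]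

theorem smul_ev (f : Idx 𝒜 s) {W : (Proj 𝒜).Opens} (hW : W ≤ UU 𝒜 s f) (c c' : Γ(Proj 𝒜, W))
    (n : ℕ) (x : GM T) : c' • ev T f hW c n x = ev T f hW (c' * c) n x := by
  unfold ev
  rw [mul_smul]

theorem rF_ev (f : Idx 𝒜 s) {W W' : (Proj 𝒜).Opens} (hW : W ≤ UU 𝒜 s f) (h : W' ≤ W)
    (c : Γ(Proj 𝒜, W)) (n : ℕ) (x : GM T) :
    rF F h (ev T f hW c n x) = ev T f (h.trans hW) (rX h c) n x := by
  unfold ev
  rw [rF_smul, rF_rF]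

theorem ev_eq (f : Idx 𝒜 s) {W : (Proj 𝒜).Opens} (hW : W ≤ UU 𝒜 s f) (c c' c'' : Γ(Proj 𝒜, W))
    {n n' e e' : ℕ} (x x' : GM T) (hx : x ∈ deg T n) (hx' : x' ∈ deg T n') (u u' : A)
    (hu : u ∈ 𝒜 e) (hu' : u' ∈ 𝒜 e') (hD : e + n = e' + n') (h : u • x = u' • x')
    (hc : c = c'' * rX hW (frO f e u hu)) (hc' : c' = c'' * rX hW (frO f e' u' hu')) :
    ev T f hW c n x = ev T f hW c' n' x' := by
  rw [hc, hc', ← ev_smul T f hW c'' u hu x hx rfl, ← ev_smul T f hW c'' u' hu' x' hx' hD.symm, h]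

/-- The function `f^n / g^k` on `D_+(g)`. -/
noncomputable def cO (f : Idx 𝒜 s) {d : ℕ} {g : A} (hg : g ∈ 𝒜 d) (k n : ℕ) (hn : n = k * d) :
    Γ(Proj 𝒜, Proj.basicOpen 𝒜 g) :=
  fracO 𝒜 hg k (f.1 ^ n) (by
    rw [smul_eq_mul, ← hn]
    exact pow_mem_deg f.2.1 n (mul_one n))

theorem valO_cO (f : Idx 𝒜 s) {d : ℕ} {g : A} (hg : g ∈ 𝒜 d) (k n : ℕ) (hn : n = k * d)
    (y : Proj.basicOpen 𝒜 g) :
    valO 𝒜 (cO f hg k n hn) y = Localization.mk (f.1 ^ n) ⟨g ^ k, pow_nin 𝒜 k y⟩ := rfl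

theorem valO_rho (f g : Idx 𝒜 s) (y : (UU 𝒜 s f ⊓ UU 𝒜 s g : (Proj 𝒜).Opens)) :
    valO 𝒜 (rho f g) y = Localization.mk f.1 ⟨g.1 ^ 1,
      show g.1 ^ 1 ∈ y.1.asHomogeneousIdeal.toIdeal.primeCompl from
        fun h => y.2.2 (y.1.isPrime.mem_of_pow_mem _ h)⟩ := rfl

theorem exists_pow_smul_sub {d d' : ℕ} (hd' : 0 < d') {g g' : A} (hg : g ∈ 𝒜 d) (hg' : g' ∈ 𝒜 d')
    (hgg : Proj.basicOpen 𝒜 g' ≤ Proj.basicOpen 𝒜 g)
    {k k' n n' : ℕ} (hn : n = k * d) (hn' : n' = k' * d') (x x' : GM T) (hx : x ∈ deg T n)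
    (hx' : x' ∈ deg T n')
    (h : ∀ y : Proj.basicOpen 𝒜 g',
      (LocalizedModule.mk x ⟨g ^ k, pow_nin 𝒜 k ⟨y.1, hgg y.2⟩⟩ :
        GrMod.LocMod 𝒜 (M := GM T) y.1) = LocalizedModule.mk x' ⟨g' ^ k', pow_nin 𝒜 k' y⟩) :
    ∃ N : ℕ, g' ^ (N + k') • x = (g' ^ N * g ^ k) • x' := by
  have hw : g' ^ k' • x - g ^ k • x' ∈ deg T (k' * d' + n) :=
    sub_mem (smul_mem_deg T (pow_mem_deg hg' k' rfl) hx rfl)
      (smul_mem_deg T (pow_mem_deg hg k rfl) hx' (by rw [hn, hn']; ring))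
  have hzero : ∀ P : ProjectiveSpectrum 𝒜, g' ∉ P.asHomogeneousIdeal →
      ∃ u : A, u ∉ P.asHomogeneousIdeal ∧ u • (g' ^ k' • x - g ^ k • x') = 0 := by
    intro P hP
    have h1 := h ⟨P, hP⟩
    rw [LocalizedModule.mk_eq] at h1
    obtain ⟨u, hu⟩ := h1
    refine ⟨u.1, u.2, ?_⟩
    rw [smul_sub, sub_eq_zero]
    exact hu
  obtain ⟨N, hN⟩ := Groth.Agent.Lib.GrModSectH1.pow_smul_eq_zero' 𝒜 (deg T) hd' hg' _ _ hw hzero
  refine ⟨N, ?_⟩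
  rw [smul_sub, sub_eq_zero, smul_smul, smul_smul, ← pow_add] at hN
  exact hN

theorem ev_res (f : Idx 𝒜 s) {d d' : ℕ} (hd' : 0 < d') {g g' : A} (hg : g ∈ 𝒜 d)
    (hg' : g' ∈ 𝒜 d') (hgg : Proj.basicOpen 𝒜 g' ≤ Proj.basicOpen 𝒜 g)
    (hW : Proj.basicOpen 𝒜 g ≤ UU 𝒜 s f)
    {k k' n n' : ℕ} (hn : n = k * d) (hn' : n' = k' * d') (x x' : GM T) (hx : x ∈ deg T n)
    (hx' : x' ∈ deg T n')
    (h : ∀ y : Proj.basicOpen 𝒜 g',
      (LocalizedModule.mk x ⟨g ^ k, pow_nin 𝒜 k ⟨y.1, hgg y.2⟩⟩ :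
        GrMod.LocMod 𝒜 (M := GM T) y.1) = LocalizedModule.mk x' ⟨g' ^ k', pow_nin 𝒜 k' y⟩) :
    rF F hgg (ev T f hW (cO f hg k n hn) n x) =
      ev T f (hgg.trans hW) (cO f hg' k' n' hn') n' x' := by
  obtain ⟨N, hN⟩ := exists_pow_smul_sub T hd' hg hg' hgg hn hn' x x' hx hx' h
  rw [rF_ev]
  have hu : g' ^ (N + k') ∈ 𝒜 ((N + k') * d') := pow_mem_deg hg' _ rfl
  have hu' : g' ^ N * g ^ k ∈ 𝒜 (N * d' + k * d) :=
    SetLike.mul_mem_graded (pow_mem_deg hg' _ rfl) (pow_mem_deg hg _ rfl)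
  have hfe : f.1 ^ ((N + k') * d') ∈ 𝒜 ((N + k') • d') := by
    rw [smul_eq_mul]
    exact pow_mem_deg f.2.1 _ (mul_one _)
  refine ev_eq T f (hgg.trans hW) _ _
    (rX hgg (cO f hg k n hn) * fracO 𝒜 hg' (N + k') (f.1 ^ ((N + k') * d')) hfe)
    x x' hx hx' _ _ hu hu' ?_ hN ?_ ?_
  · rw [hn, hn']; ring
  · apply extO
    intro y
    rw [valO_mul, valO_mul, valO_rX, valO_rX, valO_cO, valO_frO, valO_fracO]
    exact mk_eq_mul3 𝒜 _ _ _ _ _ _ _ _ (by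
      show f.1 ^ n * (g ^ k * g' ^ (N + k') * f.1 ^ ((N + k') * d')) =
        f.1 ^ n * f.1 ^ ((N + k') * d') * g' ^ (N + k') * g ^ k
      ring)
  · apply extO
    intro y
    rw [valO_mul, valO_mul, valO_rX, valO_rX, valO_cO, valO_cO, valO_frO, valO_fracO]
    exact mk_eq_mul3 𝒜 _ _ _ _ _ _ _ _ (by
      show f.1 ^ n' * (g ^ k * g' ^ (N + k') * f.1 ^ (N * d' + k * d)) =
        f.1 ^ n * f.1 ^ ((N + k') * d') * (g' ^ N * g ^ k) * g' ^ k'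
      rw [hn, hn']
      ring)

theorem ev_change (f f' : Idx 𝒜 s) {d : ℕ} {g : A} (hg : g ∈ 𝒜 d)
    (hW : Proj.basicOpen 𝒜 g ≤ UU 𝒜 s f) (hW' : Proj.basicOpen 𝒜 g ≤ UU 𝒜 s f')
    {k n : ℕ} (hn : n = k * d) (x : GM T) (hx : x ∈ deg T n) :
    ev T f hW (cO f hg k n hn) n x = ev T f' hW' (cO f' hg k n hn) n x := by
  have hc := compat_cmp T x hx f f'
  have h1 := congrArg (rF F (le_inf hW hW')) hc
  rw [rF_rF, rF_pow_smul, rF_rF] at h1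
  unfold ev
  rw [h1, ← mul_smul]
  congr 1
  apply extO
  intro y
  rw [valO_mul, valO_pow, valO_rX, valO_rho, valO_cO, valO_cO, Localization.mk_pow]
  exact mk_eq_mul2 𝒜 _ _ _ _ _ _ (by
    show f.1 ^ n * (g ^ k * (f'.1 ^ 1) ^ n) = f'.1 ^ n * f.1 ^ n * g ^ k
    ring)

theorem rF_id (G : (Proj 𝒜).Modules) {W : (Proj 𝒜).Opens} (t : Γ(G, W)) :
    rF G (le_refl W) t = t := by
  have h := rF_rF G (le_refl W) (le_refl W) t
  have hinj : Function.Injective (rF G (le_refl W)) := by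
    have : IsIso (G.presheaf.map (homOfLE (le_refl W)).op) := by
      have : homOfLE (le_refl W) = 𝟙 W := rfl
      rw [this, op_id, G.presheaf.map_id]
      infer_instance
    exact (ConcreteCategory.bijective_of_isIso (G.presheaf.map (homOfLE (le_refl W)).op)).1
  exact hinj h

theorem ev_shift (f : Idx 𝒜 s) {d : ℕ} {g : A} (hg : g ∈ 𝒜 d)
    (hW : Proj.basicOpen 𝒜 g ≤ UU 𝒜 s f) {k n : ℕ} (hn : n = k * d) (x : GM T)
    (hx : x ∈ deg T n) (j : ℕ) {K N : ℕ} (hK : K = k + j) (hN : N = K * d) :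
    ev T f hW (cO f hg K N hN) N (g ^ j • x) = ev T f hW (cO f hg k n hn) n x := by
  rw [ev_smul T f hW _ (g ^ j) (pow_mem_deg hg j rfl) x hx (by rw [hN, hK, hn]; ring)]
  congr 1
  apply extO
  intro y
  rw [valO_mul, valO_rX, valO_cO, valO_cO, valO_frO]
  refine (mk_eq_mul2 𝒜 _ _ _ _ _ _ ?_).symm
  show f.1 ^ n * (g ^ K * f.1 ^ (j * d)) = f.1 ^ N * g ^ j * g ^ k
  rw [hN, hK, hn]
  ring

/-- A representation of a section of `(⨁ S_n)~` over `D_+(g)` as a fraction `x / g^k`. -/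
structure Rep (d : ℕ) {g : A} (σ : Γ(Mt T, Proj.basicOpen 𝒜 g)) where
  k : ℕ
  n : ℕ
  x : GM T
  hn : n = k * d
  hx : x ∈ deg T n
  hval : ∀ y : Proj.basicOpen 𝒜 g,
    GrMod.val σ y = LocalizedModule.mk x ⟨g ^ k, pow_nin 𝒜 k y⟩

theorem nonempty_rep {d : ℕ} (hd : 0 < d) {g : A} (hg : g ∈ 𝒜 d)
    (σ : Γ(Mt T, Proj.basicOpen 𝒜 g)) : Nonempty (Rep T d σ) := by
  obtain ⟨k, i, m, hm, hi, hval⟩ := exists_val_eq_mk 𝒜 (deg T) 0 hd hg σ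
  refine ⟨⟨k, i, m, ?_, hm, hval⟩⟩
  rw [add_zero] at hi
  have h2 : i = k • d := by exact_mod_cast hi
  rw [h2, smul_eq_mul]

variable (𝒜 s) in
/-- Index set of the basis: homogeneous `g` of positive degree with `D_+(g)` inside some
`D_+(f)`. -/
abbrev BIdx : Type u :=
  {p : ℕ × A // 0 < p.1 ∧ p.2 ∈ 𝒜 p.1 ∧ ∃ f : Idx 𝒜 s, Proj.basicOpen 𝒜 p.2 ≤ UU 𝒜 s f}

/-- The basis. -/
abbrev BB (i : BIdx 𝒜 s) : (Proj 𝒜).Opens := Proj.basicOpen 𝒜 i.1.2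

/-- The comparison map on a member of the basis. -/
noncomputable def alphaFun (i : BIdx 𝒜 s) (σ : Γ(Mt T, BB i)) : Γ(F, BB i) :=
  ev T i.2.2.2.choose i.2.2.2.choose_spec
    (cO i.2.2.2.choose i.2.2.1 (Classical.choice (nonempty_rep T i.2.1 i.2.2.1 σ)).k
      (Classical.choice (nonempty_rep T i.2.1 i.2.2.1 σ)).n
      (Classical.choice (nonempty_rep T i.2.1 i.2.2.1 σ)).hn)
    (Classical.choice (nonempty_rep T i.2.1 i.2.2.1 σ)).n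
    (Classical.choice (nonempty_rep T i.2.1 i.2.2.1 σ)).x

theorem alphaFun_eq (i : BIdx 𝒜 s) (σ : Γ(Mt T, BB i)) (f : Idx 𝒜 s) (hW : BB i ≤ UU 𝒜 s f)
    (r : Rep T i.1.1 σ) :
    alphaFun T i σ = ev T f hW (cO f i.2.2.1 r.k r.n r.hn) r.n r.x := by
  unfold alphaFun
  have h1 := ev_res T i.2.2.2.choose i.2.1 i.2.2.1 i.2.2.1 (le_refl _) i.2.2.2.choose_spec
    (Classical.choice (nonempty_rep T i.2.1 i.2.2.1 σ)).hn r.hn
    (Classical.choice (nonempty_rep T i.2.1 i.2.2.1 σ)).x r.x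
    (Classical.choice (nonempty_rep T i.2.1 i.2.2.1 σ)).hx r.hx
    (fun y => ((Classical.choice (nonempty_rep T i.2.1 i.2.2.1 σ)).hval y).symm.trans (r.hval y))
  rw [rF_id] at h1
  rw [h1]
  exact ev_change T _ f i.2.2.1 _ hW r.hn r.x r.hx

/-- Sum of representations. -/
noncomputable def Rep.add {d : ℕ} {g : A} (hg : g ∈ 𝒜 d) {σ₁ σ₂ : Γ(Mt T, Proj.basicOpen 𝒜 g)}
    (r₁ : Rep T d σ₁) (r₂ : Rep T d σ₂) : Rep T d (σ₁ + σ₂) where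
  k := r₁.k + r₂.k
  n := r₁.n + r₂.n
  x := g ^ r₂.k • r₁.x + g ^ r₁.k • r₂.x
  hn := by rw [r₁.hn, r₂.hn]; ring
  hx := add_mem (smul_mem_deg T (pow_mem_deg hg _ rfl) r₁.hx (by rw [r₂.hn]; ring))
    (smul_mem_deg T (pow_mem_deg hg _ rfl) r₂.hx (by rw [r₁.hn]))
  hval y := by
    rw [Groth.Agent.GrTi.val_add, r₁.hval, r₂.hval, LocalizedModule.mk_add_mk]
    congr 1
    exact Subtype.ext (pow_add g r₁.k r₂.k).symm

theorem alphaFun_add (i : BIdx 𝒜 s) (σ₁ σ₂ : Γ(Mt T, BB i)) :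
    alphaFun T i (σ₁ + σ₂) = alphaFun T i σ₁ + alphaFun T i σ₂ := by
  obtain ⟨f, hW⟩ := i.2.2.2
  obtain ⟨r₁⟩ := nonempty_rep T i.2.1 i.2.2.1 σ₁
  obtain ⟨r₂⟩ := nonempty_rep T i.2.1 i.2.2.1 σ₂
  rw [alphaFun_eq T i σ₁ f hW r₁, alphaFun_eq T i σ₂ f hW r₂,
    alphaFun_eq T i (σ₁ + σ₂) f hW (Rep.add T i.2.2.1 r₁ r₂)]
  show ev T f hW _ (r₁.n + r₂.n) (i.1.2 ^ r₂.k • r₁.x + i.1.2 ^ r₁.k • r₂.x) = _
  rw [ev_add]
  congr 1
  · exact ev_shift T f i.2.2.1 hW r₁.hn r₁.x r₁.hx r₂.k rfl _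
  · exact ev_shift T f i.2.2.1 hW r₂.hn r₂.x r₂.hx r₁.k (add_comm _ _) _

/-- Representation of a multiple. -/
noncomputable def Rep.smul {d : ℕ} {g : A} {σ : Γ(Mt T, Proj.basicOpen 𝒜 g)}
    (r : Rep T d σ) (c : Γ(Proj 𝒜, Proj.basicOpen 𝒜 g)) (j : ℕ) (a : A) (ha : a ∈ 𝒜 (j * d))
    (hc : ∀ y : Proj.basicOpen 𝒜 g, valO 𝒜 c y = Localization.mk a ⟨g ^ j, pow_nin 𝒜 j y⟩) :
    Rep T d (c • σ) where
  k := j + r.k
  n := j * d + r.n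
  x := a • r.x
  hn := by rw [r.hn]; ring
  hx := smul_mem_deg T ha r.hx rfl
  hval y := by
    rw [Groth.Agent.GrTi.val_smul, hc, r.hval, LocalizedModule.mk_smul_mk]
    congr 1
    exact Subtype.ext (pow_add g j r.k).symm

theorem alphaFun_smul (i : BIdx 𝒜 s) (c : Γ(Proj 𝒜, BB i)) (σ : Γ(Mt T, BB i)) :
    alphaFun T i (c • σ) = c • alphaFun T i σ := by
  obtain ⟨f, hW⟩ := i.2.2.2
  obtain ⟨r⟩ := nonempty_rep T i.2.1 i.2.2.1 σ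
  obtain ⟨j, a, ha, hc⟩ := exists_rep 𝒜 i.2.1 i.2.2.1 c
  rw [alphaFun_eq T i σ f hW r, alphaFun_eq T i (c • σ) f hW (Rep.smul T r c j a ha hc)]
  show ev T f hW _ (j * i.1.1 + r.n) (a • r.x) = _
  rw [ev_smul T f hW _ a ha r.x r.hx rfl, smul_ev]
  congr 1
  apply extO
  intro y
  rw [valO_mul, valO_mul, valO_rX, valO_cO, valO_cO, valO_frO, hc]
  exact mk_mul_eq_mul 𝒜 _ _ _ _ _ _ _ _ (by
    show f.1 ^ (j * i.1.1 + r.n) * a * (i.1.2 ^ j * i.1.2 ^ r.k) =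
      a * f.1 ^ r.n * (i.1.2 ^ (j + r.k) * f.1 ^ (j * i.1.1))
    ring)

theorem alphaFun_nat (i i' : BIdx 𝒜 s) (h : BB i' ≤ BB i) (σ : Γ(Mt T, BB i)) :
    alphaFun T i' (rF (Mt T) h σ) = rF F h (alphaFun T i σ) := by
  obtain ⟨f, hW⟩ := i.2.2.2
  obtain ⟨r⟩ := nonempty_rep T i.2.1 i.2.2.1 σ
  obtain ⟨r'⟩ := nonempty_rep T i'.2.1 i'.2.2.1 (rF (Mt T) h σ)
  rw [alphaFun_eq T i σ f hW r, alphaFun_eq T i' _ f (h.trans hW) r',
    ev_res T f i'.2.1 i.2.2.1 i'.2.2.1 h hW r.hn r'.hn r.x r'.x r.hx r'.hx (fun y => ?_)]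
  exact (r.hval ⟨y.1, h y.2⟩).symm.trans ((Groth.Agent.GrTi.val_rF 𝒜 (deg T) h σ y).symm.trans (r'.hval y))

theorem isBasis_BB (hcov : ∀ x : Proj 𝒜, ∃ f : Idx 𝒜 s, x ∈ UU 𝒜 s f) :
    Opens.IsBasis (Set.range (BB (𝒜 := 𝒜) (s := s))) := by
  rw [Opens.isBasis_iff_nbhd]
  intro W x hxW
  obtain ⟨f, hxf⟩ := hcov x
  obtain ⟨m, h, hm, hh, hxh, hle⟩ :=
    exists_homog_basicOpen 𝒜 (W ⊓ UU 𝒜 s f) x ⟨hxW, hxf⟩
  exact ⟨_, ⟨⟨(m, h), hm, hh, f, hle.trans inf_le_right⟩, rfl⟩, hxh, hle.trans inf_le_left⟩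

/-- **The comparison map** `(⨁ S_n)~ ⟶ F`. -/
theorem exists_alpha (hcov : ∀ x : Proj 𝒜, ∃ f : Idx 𝒜 s, x ∈ UU 𝒜 s f) :
    ∃ φ : Mt T ⟶ F, ∀ (i : BIdx 𝒜 s) (σ : Γ(Mt T, BB i)), φ.app (BB i) σ = alphaFun T i σ :=
  Groth.Agent.ModHomBasis.exists_hom_of_basis (Mt T) F BB (isBasis_BB hcov) (alphaFun T)
    (alphaFun_add T) (alphaFun_smul T) (alphaFun_nat T)

/-- The member `D_+(f)` of the basis. -/
def bOf (f : Idx 𝒜 s) : BIdx 𝒜 s := ⟨(1, f.1), one_pos, f.2.1, f, le_refl _⟩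

theorem alphaFun_bOf (f : Idx 𝒜 s) (σ : Γ(Mt T, UU 𝒜 s f)) (r : Rep T 1 σ) :
    alphaFun T (bOf f) σ = cmp T r.n f r.x := by
  rw [alphaFun_eq T (bOf f) σ f (le_refl _) r]
  unfold ev
  have h2 : rF F (le_refl (UU 𝒜 s f)) (cmp T r.n f r.x) = cmp T r.n f r.x := rF_id F _
  have h3 : cO f f.2.1 r.k r.n r.hn = 1 := by
    apply extO
    intro y
    rw [valO_cO, valO_one, ← Localization.mk_one]
    refine mk_eq_mk' 𝒜 _ _ _ _ ?_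
    show f.1 ^ r.n * 1 = 1 * f.1 ^ r.k
    rw [r.hn]
    ring
  have h4 : cO f f.2.1 r.k r.n r.hn • rF F (le_refl (UU 𝒜 s f)) (cmp T r.n f r.x) =
      cmp T r.n f r.x := by
    rw [h3, h2, one_smul]
  exact h4

end Alpha

end Groth.Agent.GStar
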