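import Mathlib
import Groth.Prelude
import Groth.Agent.Lib.GStar2_helper5

/-!
# The comparison map `(⨁ S_n)~ ⟶ F` on the charts `D_+(f)`: injectivity, and surjectivity for the
family of all twisted sections (helper5).  APPEND-ONLY once landed.
-/

set_option autoImplicit false
universe u
open CategoryTheory CategoryTheory.Limits AlgebraicGeometry TopologicalSpace Opposite DirectSum
open HomogeneousLocalization

namespace Groth.Agent.GStar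

open Groth.Agent.GrTw Groth.Agent.GrTi QcqsLoc

section Charts
variable {R A : Type u} [CommRing R] [CommRing A] [Algebra R A] {𝒜 : ℕ → Submodule R A}
  [GradedAlgebra 𝒜] {s : Finset A} {F : (Proj 𝒜).Modules}

theorem basicOpen_frO (f0 g : Idx 𝒜 s) :
    (Proj 𝒜).basicOpen (frO g 1 f0.1 f0.2.1) = UU 𝒜 s f0 ⊓ UU 𝒜 s g := by
  apply le_antisymm
  · intro x hx
    have hxg : x ∈ UU 𝒜 s g := (Proj 𝒜).basicOpen_le _ hx
    have hu := (mem_basicOpen_iff 𝒜 _ _ x hxg).mp hx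
    have h1 := (isUnit_iff_of_val 𝒜 x _ f0.1 (g.1 ^ 1) _
      (valO_frO g 1 f0.1 f0.2.1 ⟨x, hxg⟩)).mp hu
    exact ⟨h1, hxg⟩
  · rintro x ⟨hxf, hxg⟩
    exact (mem_basicOpen_iff 𝒜 _ _ x hxg).mpr
      ((isUnit_iff_of_val 𝒜 x _ f0.1 (g.1 ^ 1) _ (valO_frO g 1 f0.1 f0.2.1 ⟨x, hxg⟩)).mpr hxf)

theorem isAffineOpen_UU (f : Idx 𝒜 s) : IsAffineOpen (UU 𝒜 s f) :=
  Proj.isAffineOpen_basicOpen 𝒜 f.1 f.2.1 one_pos

theorem frO_pow (g : Idx 𝒜 s) (f0 : Idx 𝒜 s) (N : ℕ) :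
    frO g N (f0.1 ^ N) (pow_mem_deg f0.2.1 N (mul_one N)) = frO g 1 f0.1 f0.2.1 ^ N := by
  apply extO
  intro y
  rw [valO_pow, valO_frO, valO_frO, Localization.mk_pow]
  refine mk_eq_mk' 𝒜 _ _ _ _ ?_
  show f0.1 ^ N * (g.1 ^ 1) ^ N = f0.1 ^ N * g.1 ^ N
  rw [pow_one]

theorem rF_injective_of_le (G : (Proj 𝒜).Modules) {V W : (Proj 𝒜).Opens} (h : V ≤ W)
    (h' : W ≤ V) : Function.Injective (rF G h) := by
  intro a b hab
  have := congrArg (rF G h') hab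
  rwa [rF_rF, rF_rF, rF_id, rF_id] at this

variable (T : Fam 𝒜 s F)

/-- The comparison map on a member of the basis, as an additive map. -/
noncomputable def alphaHom (i : BIdx 𝒜 s) : Γ(Mt T, BB i) →+ Γ(F, BB i) :=
  AddMonoidHom.mk' (alphaFun T i) (alphaFun_add T i)

theorem pow_smul_eq_zero_of_cmp [F.IsQuasicoherent] [Finite (Idx 𝒜 s)] (f0 : Idx 𝒜 s) {n : ℕ}
    (x : GM T) (hx : x ∈ deg T n) (h : cmp T n f0 x = 0) : ∃ N : ℕ, f0.1 ^ N • x = 0 := by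
  have key : ∀ g : Idx 𝒜 s, ∃ N : ℕ, frO g 1 f0.1 f0.2.1 ^ N • cmp T n g x = 0 := by
    intro g
    have hc := compat_cmp T x hx f0 g
    rw [h, map_zero, smul_zero] at hc
    have L := RelFPAff.locData (F := F) (isAffineOpen_UU g) (frO g 1 f0.1 f0.2.1)
      (homOfLE (inf_le_right : UU 𝒜 s f0 ⊓ UU 𝒜 s g ≤ UU 𝒜 s g)) (basicOpen_frO f0 g).symm
    exact L.ker _ hc
  choose N hN using key
  obtain ⟨N0, hN0⟩ := Finite.exists_le N
  refine ⟨N0, ?_⟩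
  have hmem : f0.1 ^ N0 ∈ 𝒜 N0 := pow_mem_deg f0.2.1 N0 (mul_one N0)
  apply eq_zero_of_cmp T _ (smul_mem_deg T hmem hx rfl)
  intro g
  rw [cmp_smul T _ hmem x hx g, frO_pow, ← Nat.sub_add_cancel (hN0 g), pow_add, mul_smul, hN g,
    smul_zero]

theorem alphaFun_eq_zero [F.IsQuasicoherent] [Finite (Idx 𝒜 s)] (f0 : Idx 𝒜 s)
    (σ : Γ(Mt T, UU 𝒜 s f0)) (h : alphaFun T (bOf f0) σ = 0) : σ = 0 := by
  obtain ⟨r⟩ := nonempty_rep T one_pos f0.2.1 σ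
  rw [alphaFun_bOf T f0 σ r] at h
  obtain ⟨N, hN⟩ := pow_smul_eq_zero_of_cmp T f0 r.x r.hx h
  apply Groth.Agent.GrTi.ext_val
  intro y
  rw [r.hval y]
  refine Eq.trans ?_ (Groth.Agent.GrTi.val_zero 𝒜 (deg T) y).symm
  rw [mk_eq_zero_iff]
  exact ⟨f0.1 ^ N, pow_nin 𝒜 N y, hN⟩

theorem alphaFun_injective [F.IsQuasicoherent] [Finite (Idx 𝒜 s)] (f0 : Idx 𝒜 s) :
    Function.Injective (alphaFun T (bOf f0)) := by
  have := (injective_iff_map_eq_zero (alphaHom T (bOf f0))).mpr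
    (fun σ h => alphaFun_eq_zero T f0 σ h)
  exact this

theorem exists_alphaFun_eq_cmp (f0 : Idx 𝒜 s) {n : ℕ} (x : GM T) (hx : x ∈ deg T n) :
    ∃ σ : Γ(Mt T, UU 𝒜 s f0), alphaFun T (bOf f0) σ = cmp T n f0 x := by
  have hi : (n : ℤ) = ((n • 1 : ℕ) : ℤ) + 0 := by simp
  refine ⟨fracSecM 𝒜 (deg T) f0.2.1 0 n n x hx hi, ?_⟩
  exact alphaFun_bOf T f0 _ ⟨n, n, x, (mul_one n).symm, hx, fun y => rfl⟩

end Charts

section Ext
variable {R A : Type u} [CommRing R] [CommRing A] [Algebra R A] {𝒜 : ℕ → Submodule R A}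
  [GradedAlgebra 𝒜] {s : Finset A} {F : (Proj 𝒜).Modules}

theorem rho_mul (f0 g g' : Idx 𝒜 s) {V : (Proj 𝒜).Opens} (h0 : V ≤ UU 𝒜 s f0)
    (h1 : V ≤ UU 𝒜 s g) (h2 : V ≤ UU 𝒜 s g') :
    rX (le_inf h0 h2) (rho f0 g') = rX (le_inf h1 h2) (rho g g') * rX (le_inf h0 h1) (rho f0 g) := by
  apply extO
  intro y
  rw [valO_mul, valO_rX, valO_rX, valO_rX, valO_rho, valO_rho, valO_rho]
  exact mk_eq_mul2 𝒜 _ _ _ _ _ _ (by
    show f0.1 * (g'.1 ^ 1 * g.1 ^ 1) = g.1 * f0.1 * g'.1 ^ 1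
    ring)

theorem frO_mul_rho (f0 g g' : Idx 𝒜 s) :
    rX (inf_le_right : UU 𝒜 s g ⊓ UU 𝒜 s g' ≤ UU 𝒜 s g') (frO g' 1 f0.1 f0.2.1) =
      rho g g' * rX inf_le_left (frO g 1 f0.1 f0.2.1) := by
  apply extO
  intro y
  rw [valO_mul, valO_rX, valO_rX, valO_rho, valO_frO, valO_frO]
  exact mk_eq_mul2 𝒜 _ _ _ _ _ _ (by
    show f0.1 * (g'.1 ^ 1 * g.1 ^ 1) = g.1 * f0.1 * g'.1 ^ 1
    ring)

theorem rho_self (f0 : Idx 𝒜 s) : rho f0 f0 = 1 := by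
  apply extO
  intro y
  rw [valO_rho, valO_one, ← Localization.mk_one]
  refine mk_eq_mk' 𝒜 _ _ _ _ ?_
  show f0.1 * 1 = 1 * f0.1 ^ 1
  ring

theorem isAffineOpen_inf (g g' : Idx 𝒜 s) : IsAffineOpen (UU 𝒜 s g ⊓ UU 𝒜 s g') := by
  have h : Proj.basicOpen 𝒜 (g.1 * g'.1) = UU 𝒜 s g ⊓ UU 𝒜 s g' := Proj.basicOpen_mul 𝒜 g.1 g'.1
  rw [← h]
  exact Proj.isAffineOpen_basicOpen 𝒜 (g.1 * g'.1) (SetLike.mul_mem_graded g.2.1 g'.2.1)
    (by norm_num)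

variable (f0 : Idx 𝒜 s) (t : Γ(F, UU 𝒜 s f0))

/-- `u ∈ Γ(D_+(g), F)` agrees with `(f0/g)^N t` on `D_+(f0 g)`. -/
def IsExtT (g : Idx 𝒜 s) (N : ℕ) (u : Γ(F, UU 𝒜 s g)) : Prop :=
  rF F (inf_le_right : UU 𝒜 s f0 ⊓ UU 𝒜 s g ≤ UU 𝒜 s g) u = rho f0 g ^ N • rF F inf_le_left t

variable {f0 t}

theorem IsExtT.smul {g : Idx 𝒜 s} {N : ℕ} {u : Γ(F, UU 𝒜 s g)} (h : IsExtT f0 t g N u) (j : ℕ) :
    IsExtT f0 t g (j + N) (frO g 1 f0.1 f0.2.1 ^ j • u) := by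
  unfold IsExtT at h ⊢
  rw [rF_pow_smul, h, ← mul_smul]
  congr 1
  exact (pow_add (rho f0 g) j N).symm

variable (f0 t)

theorem exists_isExtT [F.IsQuasicoherent] (g : Idx 𝒜 s) :
    ∃ (N : ℕ) (u : Γ(F, UU 𝒜 s g)), IsExtT f0 t g N u := by
  have L := RelFPAff.locData (F := F) (isAffineOpen_UU g) (frO g 1 f0.1 f0.2.1)
    (homOfLE (inf_le_right : UU 𝒜 s f0 ⊓ UU 𝒜 s g ≤ UU 𝒜 s g)) (basicOpen_frO f0 g).symm
  obtain ⟨n, m, h⟩ := L.surj (rF F inf_le_left t)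
  exact ⟨n, m, h.symm⟩

/-- The defect of compatibility of two extensions. -/
noncomputable def delta (N : ℕ) (u : QQ 𝒜 s F) (g g' : Idx 𝒜 s) :
    Γ(F, UU 𝒜 s g ⊓ UU 𝒜 s g') :=
  rF F inf_le_right (u g') - rho g g' ^ N • rF F inf_le_left (u g)

theorem exists_pow_smul_delta [F.IsQuasicoherent] (N : ℕ) (u : QQ 𝒜 s F)
    (hu : ∀ g, IsExtT f0 t g N (u g)) (g g' : Idx 𝒜 s) :
    ∃ K : ℕ, rX (inf_le_left : UU 𝒜 s g ⊓ UU 𝒜 s g' ≤ UU 𝒜 s g) (frO g 1 f0.1 f0.2.1) ^ K •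
      delta N u g g' = 0 := by
  set b := rX (inf_le_left : UU 𝒜 s g ⊓ UU 𝒜 s g' ≤ UU 𝒜 s g) (frO g 1 f0.1 f0.2.1) with hb
  have hV3 : (Proj 𝒜).basicOpen b = (UU 𝒜 s g ⊓ UU 𝒜 s g') ⊓ (UU 𝒜 s f0 ⊓ UU 𝒜 s g) := by
    rw [hb, basicOpen_rX, basicOpen_frO]
  have h0 : (Proj 𝒜).basicOpen b ≤ UU 𝒜 s f0 := hV3.le.trans (inf_le_right.trans inf_le_left)
  have h1 : (Proj 𝒜).basicOpen b ≤ UU 𝒜 s g := hV3.le.trans (inf_le_left.trans inf_le_left)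
  have h2 : (Proj 𝒜).basicOpen b ≤ UU 𝒜 s g' := hV3.le.trans (inf_le_left.trans inf_le_right)
  have L := RelFPAff.locData (F := F) (isAffineOpen_inf g g') b
    (homOfLE ((Proj 𝒜).basicOpen_le b)) rfl
  apply L.ker
  show rF F ((Proj 𝒜).basicOpen_le b) (delta N u g g') = 0
  unfold delta
  have e1 : rF F h2 (u g') = rX (le_inf h0 h2) (rho f0 g') ^ N • rF F h0 t := by
    have := congrArg (rF F (le_inf h0 h2)) (hu g')
    rwa [rF_rF, rF_pow_smul, rF_rF] at this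
  have e2 : rF F h1 (u g) = rX (le_inf h0 h1) (rho f0 g) ^ N • rF F h0 t := by
    have := congrArg (rF F (le_inf h0 h1)) (hu g)
    rwa [rF_rF, rF_pow_smul, rF_rF] at this
  rw [map_sub, rF_pow_smul, rF_rF, rF_rF, e1, e2, ← mul_smul, ← mul_pow,
    ← rho_mul f0 g g' h0 h1 h2, sub_self]

theorem exists_compat_extension [F.IsQuasicoherent] [Finite (Idx 𝒜 s)] :
    ∃ (N : ℕ) (q : QQ 𝒜 s F), Compat N q ∧ q f0 = t := by
  choose N u hu using exists_isExtT f0 t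
  obtain ⟨N0, hN0⟩ := Finite.exists_le N
  obtain ⟨u', hu'⟩ : ∃ u' : QQ 𝒜 s F, ∀ g, IsExtT f0 t g N0 (u' g) :=
    ⟨fun g => frO g 1 f0.1 f0.2.1 ^ (N0 - N g) • u g, fun g => by
      have := (hu g).smul (N0 - N g)
      rwa [Nat.sub_add_cancel (hN0 g)] at this⟩
  choose K hK using fun p : Idx 𝒜 s × Idx 𝒜 s =>
    exists_pow_smul_delta f0 t N0 u' hu' p.1 p.2
  obtain ⟨K0, hK0⟩ := Finite.exists_le K
  have hu'' : ∀ g, IsExtT f0 t g (K0 + N0) (frO g 1 f0.1 f0.2.1 ^ K0 • u' g) :=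
    fun g => (hu' g).smul K0
  refine ⟨K0 + N0, fun g => frO g 1 f0.1 f0.2.1 ^ K0 • u' g, ?_, ?_⟩
  · intro g g'
    have hδ : rX (inf_le_left : UU 𝒜 s g ⊓ UU 𝒜 s g' ≤ UU 𝒜 s g) (frO g 1 f0.1 f0.2.1) ^ K0 •
        delta N0 u' g g' = 0 := by
      rw [← Nat.sub_add_cancel (hK0 (g, g')), pow_add, mul_smul, hK (g, g'), smul_zero]
    unfold delta at hδ
    rw [smul_sub, sub_eq_zero] at hδ
    show rF F inf_le_right (frO g' 1 f0.1 f0.2.1 ^ K0 • u' g') =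
      rho g g' ^ (K0 + N0) • rF F inf_le_left (frO g 1 f0.1 f0.2.1 ^ K0 • u' g)
    rw [rF_pow_smul, rF_pow_smul, frO_mul_rho, mul_pow, mul_smul, hδ]
    simp only [← mul_smul]
    congr 1
    ring
  · have h := hu'' f0
    unfold IsExtT at h
    rw [rho_self, one_pow, one_smul] at h
    exact rF_injective_of_le F inf_le_left (le_inf le_rfl le_rfl) h

end Ext

section Full
variable {R A : Type u} [CommRing R] [CommRing A] [Algebra R A] (𝒜 : ℕ → Submodule R A)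
  [GradedAlgebra 𝒜] (s : Finset A) (F : (Proj 𝒜).Modules)

/-- The family of all twisted sections. -/
noncomputable def fullFam : Fam 𝒜 s F where
  S n :=
    { carrier := {q | Compat n q}
      zero_mem' := fun f g => by
        show rF F inf_le_right (0 : Γ(F, UU 𝒜 s g)) = rho f g ^ n • rF F inf_le_left 0
        rw [map_zero, map_zero, smul_zero]
      add_mem' := fun {a b} ha hb f g => by
        show rF F inf_le_right (a g + b g) = rho f g ^ n • rF F inf_le_left (a f + b f)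
        rw [map_add, map_add, smul_add, ha f g, hb f g]
      neg_mem' := fun {a} ha f g => by
        show rF F inf_le_right (- a g) = rho f g ^ n • rF F inf_le_left (- a f)
        rw [map_neg, map_neg, smul_neg, ha f g] }
  closed d a ha n q hq f g := by
    show rF F inf_le_right (frO g d a ha • q g) =
      rho f g ^ (d + n) • rF F inf_le_left (frO f d a ha • q f)
    rw [rF_smul, rF_smul, hq f g, ← mul_smul, ← mul_smul]
    congr 1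
    apply extO
    intro y
    rw [valO_mul, valO_mul, valO_pow, valO_pow, valO_rX, valO_rX, valO_rho, valO_frO, valO_frO,
      Localization.mk_pow, Localization.mk_pow]
    exact mk_mul_eq_mul 𝒜 _ _ _ _ _ _ _ _ (by
      show a * f.1 ^ n * ((g.1 ^ 1) ^ (d + n) * f.1 ^ d) =
        f.1 ^ (d + n) * a * (g.1 ^ d * (g.1 ^ 1) ^ n)
      ring)
  compat n q hq := hq

variable {𝒜 s F}

theorem alphaFun_surjective_full [F.IsQuasicoherent] [Finite (Idx 𝒜 s)] (f0 : Idx 𝒜 s) :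
    Function.Surjective (alphaFun (fullFam 𝒜 s F) (bOf f0)) := by
  intro t
  obtain ⟨N, q, hq, hqt⟩ := exists_compat_extension f0 t
  obtain ⟨x, hx, hcx⟩ := exists_of_mem (fullFam 𝒜 s F) q hq
  obtain ⟨σ, hσ⟩ := exists_alphaFun_eq_cmp (fullFam 𝒜 s F) f0 x hx
  exact ⟨σ, hσ.trans ((hcx f0).trans hqt)⟩

theorem exists_cover (hs1 : ∀ f ∈ s, f ∈ 𝒜 1)
    (hs : (HomogeneousIdeal.irrelevant 𝒜).toIdeal = Ideal.span (s : Set A)) (x : Proj 𝒜) :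
    ∃ f : Idx 𝒜 s, x ∈ UU 𝒜 s f := by
  by_contra hcon
  push Not at hcon
  apply (x : ProjectiveSpectrum 𝒜).not_irrelevant_le
  intro a ha
  have ha' : a ∈ Ideal.span (s : Set A) := by
    rw [← hs]
    exact ha
  refine (Ideal.span_le.mpr ?_) ha'
  intro f hf
  by_contra hfx
  exact hcon ⟨f, hs1 f hf, hf⟩ hfx

instance finite_idx : Finite (Idx 𝒜 s) :=
  Finite.of_injective (fun f : Idx 𝒜 s => (⟨f.1, f.2.2⟩ : s))
    (fun a b h => Subtype.ext (congrArg (fun z : s => z.1) h))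

theorem iso_of_bijective (T : Fam 𝒜 s F) [F.IsQuasicoherent]
    (hcov : ∀ x : Proj 𝒜, ∃ f : Idx 𝒜 s, x ∈ UU 𝒜 s f)
    (hbij : ∀ f0 : Idx 𝒜 s, Function.Bijective (alphaFun T (bOf f0))) :
    Nonempty (Mt T ≅ F) := by
  obtain ⟨φ, hφ⟩ := exists_alpha T hcov
  haveI : (Mt T).IsQuasicoherent := isQuasicoherent_tilde 𝒜 (deg T) 0
  have hcov' : ⨆ f : Idx 𝒜 s, UU 𝒜 s f = ⊤ := by
    rw [eq_top_iff]
    intro x _
    obtain ⟨f, hf⟩ := hcov x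
    exact TopologicalSpace.Opens.mem_iSup.mpr ⟨f, hf⟩
  have : IsIso φ := QCohCrit.isIso_of_bijective_on_cover φ (fun f : Idx 𝒜 s => UU 𝒜 s f)
    isAffineOpen_UU hcov' (fun f => ?_)
  · exact ⟨asIso φ⟩
  · constructor
    · intro a b hab
      apply (hbij f).1
      exact (hφ (bOf f) a).symm.trans (hab.trans (hφ (bOf f) b))
    · intro t
      obtain ⟨σ, hσ⟩ := (hbij f).2 t
      exact ⟨σ, (hφ (bOf f) σ).trans hσ⟩

/-- **Every quasi-coherent module on `Proj` is of the form `M~`** (irrelevant ideal generated by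
finitely many elements of degree one). -/
theorem exists_iso_tilde [F.IsQuasicoherent] (hs1 : ∀ f ∈ s, f ∈ 𝒜 1)
    (hs : (HomogeneousIdeal.irrelevant 𝒜).toIdeal = Ideal.span (s : Set A)) :
    Nonempty (Mt (fullFam 𝒜 s F) ≅ F) :=
  iso_of_bijective (fullFam 𝒜 s F) (exists_cover hs1 hs)
    (fun f0 => ⟨alphaFun_injective _ f0, alphaFun_surjective_full f0⟩)

end Full

end Groth.Agent.GStar
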