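import Mathlib
import Groth.Prelude
import Groth.Agent.Lib.GStar3_helper5
import Groth.Agent.Lib.QCohFT_helper9

/-!
# Quasi-coherent modules of finite type on `Proj` come from finitely generated graded modules
(helper5).  APPEND-ONLY once landed.
-/

set_option autoImplicit false
universe u
open CategoryTheory CategoryTheory.Limits AlgebraicGeometry TopologicalSpace Opposite DirectSum
open HomogeneousLocalization

namespace Groth.Agent.GStar

open Groth.Agent.GrTw Groth.Agent.GrTi QcqsLoc

section Gen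
variable {R A : Type u} [CommRing R] [CommRing A] [Algebra R A] {𝒜 : ℕ → Submodule R A}
  [GradedAlgebra 𝒜] {s : Finset A} {F : (Proj 𝒜).Modules}
variable {J : Type u} (k : J → ℕ) (q : J → QQ 𝒜 s F)

/-- The homogeneous multiples of degree `n` of the given twisted sections. -/
def genSet (n : ℕ) : Set (QQ 𝒜 s F) :=
  {p | ∃ (j : J) (e : ℕ) (a : A) (ha : a ∈ 𝒜 e), e + k j = n ∧ p = fun f => frO f e a ha • q j f}

variable (hq : ∀ j, Compat (k j) (q j))

/-- The family generated by finitely many twisted sections. -/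
noncomputable def genFam : Fam 𝒜 s F where
  S n := AddSubgroup.closure (genSet k q n)
  closed d b hb n p hp := by
    refine AddSubgroup.closure_induction
      (p := fun p _ => (fun f => frO f d b hb • p f) ∈ AddSubgroup.closure (genSet k q (d + n)))
      ?_ ?_ ?_ ?_ hp
    · rintro _ ⟨j, e, a, ha, he, rfl⟩
      apply AddSubgroup.subset_closure
      refine ⟨j, d + e, b * a, SetLike.mul_mem_graded hb ha, by omega, ?_⟩
      funext f
      show frO f d b hb • (frO f e a ha • q j f) = frO f (d + e) (b * a) _ • q j f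
      rw [frO_mul f d e b a hb ha, mul_smul]
    · have : (fun f => frO f d b hb • (0 : QQ 𝒜 s F) f) = 0 := by
        funext f
        exact smul_zero _
      rw [this]
      exact zero_mem _
    · intro x y _ _ hx hy
      have : (fun f => frO f d b hb • (x + y) f) =
          (fun f => frO f d b hb • x f) + (fun f => frO f d b hb • y f) := by
        funext f
        exact smul_add _ _ _
      rw [this]
      exact add_mem hx hy
    · intro x _ hx
      have : (fun f => frO f d b hb • (-x) f) = -(fun f => frO f d b hb • x f) := by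
        funext f
        exact smul_neg _ _
      rw [this]
      exact neg_mem hx
  compat n p hp := by
    have hle : AddSubgroup.closure (genSet k q n) ≤ (fullFam 𝒜 s F).S n := by
      rw [AddSubgroup.closure_le]
      rintro _ ⟨j, e, a, ha, he, rfl⟩
      subst he
      exact (fullFam 𝒜 s F).closed e a ha (k j) (q j) (hq j)
    exact hle hp

theorem q_mem (j : J) : q j ∈ (genFam k q hq).S (k j) := by
  apply AddSubgroup.subset_closure
  refine ⟨j, 0, 1, SetLike.GradedOne.one_mem, zero_add _, ?_⟩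
  funext f
  rw [frO_one, one_smul]

/-- The generators. -/
noncomputable def gen (j : J) : GM (genFam k q hq) :=
  ofS (genFam k q hq) (k j) ⟨q j, q_mem k q hq j⟩

theorem gen_mem (j : J) : gen k q hq j ∈ deg (genFam k q hq) (k j) := ofS_mem _ _ _

theorem cmp_gen (j : J) (f : Idx 𝒜 s) : cmp (genFam k q hq) (k j) f (gen k q hq j) = q j f :=
  cmp_ofS _ _ _ _

theorem ofS_mem_span (n : ℕ) (p : QQ 𝒜 s F) (hp : p ∈ (genFam k q hq).S n) :
    ofS (genFam k q hq) n ⟨p, hp⟩ ∈ Submodule.span A (Set.range (gen k q hq)) := by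
  refine AddSubgroup.closure_induction
    (p := fun p hp => ofS (genFam k q hq) n ⟨p, hp⟩ ∈
      Submodule.span A (Set.range (gen k q hq))) ?_ ?_ ?_ ?_ hp
  · rintro _ ⟨j, e, a, ha, he, rfl⟩
    subst he
    have h1 := smul_ofS (genFam k q hq) a ha (k j) ⟨q j, q_mem k q hq j⟩
    have h2 : a • gen k q hq j ∈ Submodule.span A (Set.range (gen k q hq)) :=
      Submodule.smul_mem _ a (Submodule.subset_span ⟨j, rfl⟩)
    unfold gen at h2
    rw [h1] at h2
    exact h2
  · have : (⟨0, zero_mem _⟩ : (genFam k q hq).S n) = 0 := rfl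
    rw [this, map_zero]
    exact zero_mem _
  · intro x y hx hy hpx hpy
    have : (⟨x + y, add_mem hx hy⟩ : (genFam k q hq).S n) = ⟨x, hx⟩ + ⟨y, hy⟩ := rfl
    rw [this, map_add]
    exact add_mem hpx hpy
  · intro x hx hpx
    have : (⟨-x, neg_mem hx⟩ : (genFam k q hq).S n) = -⟨x, hx⟩ := rfl
    rw [this, map_neg]
    exact neg_mem hpx

theorem span_gen : Submodule.span A (Set.range (gen k q hq)) = ⊤ := by
  rw [eq_top_iff]
  intro x _
  refine DirectSum.induction_on (motive := fun x : ⨁ n : ℕ, (genFam k q hq).S n =>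
    (show GM (genFam k q hq) from x) ∈ Submodule.span A (Set.range (gen k q hq)))
    (show ⨁ n : ℕ, (genFam k q hq).S n from x) ?_ ?_ ?_
  · exact zero_mem _
  · rintro n ⟨p, hp⟩
    exact ofS_mem_span k q hq n p hp
  · intro x y hx hy
    exact add_mem hx hy

theorem finite_GM [Finite J] : Module.Finite A (GM (genFam k q hq)) := by
  rw [Module.finite_def, ← span_gen k q hq]
  exact Submodule.fg_span (Set.finite_range _)

theorem alphaFun_surjective_gen (f0 : Idx 𝒜 s)
    (hgen : Submodule.span Γ(Proj 𝒜, UU 𝒜 s f0) {t : Γ(F, UU 𝒜 s f0) | ∃ j, q j f0 = t} = ⊤) :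
    Function.Surjective (alphaFun (genFam k q hq) (bOf f0)) := by
  let L : Γ(Mt (genFam k q hq), UU 𝒜 s f0) →ₗ[Γ(Proj 𝒜, UU 𝒜 s f0)] Γ(F, UU 𝒜 s f0) :=
    IsLinearMap.mk' (alphaFun (genFam k q hq) (bOf f0))
      ⟨alphaFun_add (genFam k q hq) (bOf f0), alphaFun_smul (genFam k q hq) (bOf f0)⟩
  have hr : LinearMap.range L = ⊤ := by
    rw [eq_top_iff, ← hgen, Submodule.span_le]
    rintro t ⟨j, rfl⟩
    obtain ⟨σ, hσ⟩ := exists_alphaFun_eq_cmp (genFam k q hq) f0 (gen k q hq j) (gen_mem k q hq j)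
    exact ⟨σ, hσ.trans (cmp_gen k q hq j f0)⟩
  exact LinearMap.range_eq_top.mp hr

end Gen

section Main
variable {R A : Type u} [CommRing R] [CommRing A] [Algebra R A] {𝒜 : ℕ → Submodule R A}
  [GradedAlgebra 𝒜] {s : Finset A} {F : (Proj 𝒜).Modules}

/-- **Every quasi-coherent module of finite type on `Proj` is `N~` for a finitely generated graded
module `N`.** -/
theorem exists_finite_iso [F.IsQuasicoherent] [SheafOfModules.IsFiniteType (R := (Proj 𝒜).ringCatSheaf) F]
    (hs1 : ∀ f ∈ s, f ∈ 𝒜 1)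
    (hs : (HomogeneousIdeal.irrelevant 𝒜).toIdeal = Ideal.span (s : Set A)) :
    ∃ (J : Type u) (_ : Finite J) (k : J → ℕ) (q : J → QQ 𝒜 s F)
      (hq : ∀ j, Compat (k j) (q j)), Nonempty (Mt (genFam k q hq) ≅ F) := by
  have hfin : ∀ f : Idx 𝒜 s, ∃ G : Finset Γ(F, UU 𝒜 s f),
      Submodule.span Γ(Proj 𝒜, UU 𝒜 s f) (G : Set Γ(F, UU 𝒜 s f)) = ⊤ := by
    intro f
    have := QCohFT.finite_of_isFiniteType F (isAffineOpen_UU f)
    exact Module.finite_def.mp this
  choose G hG using hfin
  let J : Type u := Σ f : Idx 𝒜 s, {t : Γ(F, UU 𝒜 s f) // t ∈ G f}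
  have hext : ∀ j : J, ∃ (N : ℕ) (q : QQ 𝒜 s F), Compat N q ∧ q j.1 = j.2.1 :=
    fun j => exists_compat_extension j.1 j.2.1
  choose k q hq hqt using hext
  refine ⟨J, inferInstance, k, q, hq, ?_⟩
  refine iso_of_bijective (genFam k q hq) (exists_cover hs1 hs) (fun f0 => ⟨alphaFun_injective _ f0, ?_⟩)
  apply alphaFun_surjective_gen k q hq f0
  rw [eq_top_iff, ← hG f0]
  apply Submodule.span_mono
  intro t ht
  exact ⟨⟨f0, ⟨t, ht⟩⟩, hqt _⟩

end Main

end Groth.Agent.GStar
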