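import Mathlib

/-!
# Radicial points of an integral ring map via the diagonal (helper3)

For a ring map `A → B` and a prime `p` of `A` we consider the condition `Emb p`: two ring
homomorphisms from `B` to a field which agree on `A` and whose restriction to `A` has kernel `p`
are equal.  It is equivalent to "every prime of `B ⊗[A] B` over `p` contains the kernel of the
multiplication map" (so that its locus is constructible by Chevalley's theorem) and to "there is at
most one prime over `p` and its residue field extension is purely inseparable".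

APPEND-ONLY once landed.
-/

set_option autoImplicit false
universe u

open TensorProduct

namespace Groth.Agent.Lib.GUConsH3

variable {A B : Type u} [CommRing A] [CommRing B] [Algebra A B]

/-- two homomorphisms to a field agreeing on `A` with kernel `p` on `A` are equal -/
def Emb (p : Ideal A) : Prop :=
  ∀ (Ω : Type u) [Field Ω] (σ τ : B →+* Ω),
    σ.comp (algebraMap A B) = τ.comp (algebraMap A B) →
    RingHom.ker (σ.comp (algebraMap A B)) = p → σ = τ

theorem emb_of_diag (p : Ideal A)
    (h : ∀ Q : Ideal (B ⊗[A] B), Q.IsPrime → Q.comap (algebraMap A (B ⊗[A] B)) = p →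
      KaehlerDifferential.ideal A B ≤ Q) : Emb (B := B) p := by
  intro Ω _ σ τ hστ hker
  letI : Algebra A Ω := (σ.comp (algebraMap A B)).toAlgebra
  let σ' : B →ₐ[A] Ω := { σ with commutes' := fun a => rfl }
  let τ' : B →ₐ[A] Ω := { τ with commutes' := fun a => (RingHom.congr_fun hστ a).symm }
  let Φ : B ⊗[A] B →ₐ[A] Ω := Algebra.TensorProduct.productMap σ' τ'
  have hprime : (RingHom.ker Φ.toRingHom).IsPrime := RingHom.ker_isPrime _
  have hcomap : (RingHom.ker Φ.toRingHom).comap (algebraMap A (B ⊗[A] B)) = p := by
    rw [← hker]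
    ext a
    rw [Ideal.mem_comap, RingHom.mem_ker, RingHom.mem_ker]
    show Φ (algebraMap A (B ⊗[A] B) a) = 0 ↔ _
    rw [Φ.commutes]
    rfl
  have hle := h _ hprime hcomap
  ext b
  have hb := hle (KaehlerDifferential.one_smul_sub_smul_one_mem_ideal A b)
  rw [RingHom.mem_ker] at hb
  have hb' : Φ ((1 : B) ⊗ₜ[A] b - b ⊗ₜ[A] (1 : B)) = 0 := hb
  rw [map_sub, Algebra.TensorProduct.productMap_apply_tmul,
    Algebra.TensorProduct.productMap_apply_tmul, map_one, map_one, one_mul, mul_one,
    sub_eq_zero] at hb'
  exact hb'.symm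

theorem diag_of_emb (p : Ideal A) (h : Emb (B := B) p)
    (Q : Ideal (B ⊗[A] B)) (hQ : Q.IsPrime) (hQp : Q.comap (algebraMap A (B ⊗[A] B)) = p) :
    KaehlerDifferential.ideal A B ≤ Q := by
  haveI := hQ
  let Ω := FractionRing ((B ⊗[A] B) ⧸ Q)
  let π : B ⊗[A] B →+* Ω :=
    (algebraMap ((B ⊗[A] B) ⧸ Q) Ω).comp (Ideal.Quotient.mk Q)
  have hπ : ∀ x, π x = 0 ↔ x ∈ Q := by
    intro x
    show algebraMap ((B ⊗[A] B) ⧸ Q) Ω (Ideal.Quotient.mk Q x) = 0 ↔ _
    rw [map_eq_zero_iff _ (IsFractionRing.injective ((B ⊗[A] B) ⧸ Q) Ω),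
      Ideal.Quotient.eq_zero_iff_mem]
  let σ : B →+* Ω := π.comp (Algebra.TensorProduct.includeLeft (R := A) (S := A) (A := B)
    (B := B)).toRingHom
  let τ : B →+* Ω := π.comp (Algebra.TensorProduct.includeRight (R := A) (A := B)
    (B := B)).toRingHom
  have hστ : σ.comp (algebraMap A B) = τ.comp (algebraMap A B) := by
    ext a
    show π ((algebraMap A B a) ⊗ₜ[A] (1 : B)) = π ((1 : B) ⊗ₜ[A] (algebraMap A B a))
    congr 1
    rw [Algebra.algebraMap_eq_smul_one, TensorProduct.smul_tmul]
  have hker : RingHom.ker (σ.comp (algebraMap A B)) = p := by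
    rw [← hQp]
    ext a
    rw [RingHom.mem_ker, Ideal.mem_comap]
    show π ((algebraMap A B a) ⊗ₜ[A] (1 : B)) = 0 ↔ _
    rw [hπ]
    rfl
  have heq := h Ω σ τ hστ hker
  rw [← KaehlerDifferential.span_range_eq_ideal, Ideal.span_le]
  rintro _ ⟨b, rfl⟩
  show _ ∈ Q
  rw [← hπ, map_sub, sub_eq_zero]
  exact (RingHom.congr_fun heq b).symm

theorem emb_iff_diag (p : Ideal A) :
    Emb (B := B) p ↔ ∀ Q : Ideal (B ⊗[A] B), Q.IsPrime →
      Q.comap (algebraMap A (B ⊗[A] B)) = p → KaehlerDifferential.ideal A B ≤ Q :=
  ⟨fun h Q hQ hQp => diag_of_emb p h Q hQ hQp, emb_of_diag p⟩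

section Residue

variable (p : Ideal A) [p.IsPrime]

/-- at most one prime over a point satisfying `Emb` -/
theorem eq_of_emb (h : Emb (B := B) p) (P P' : Ideal B) [P.IsPrime] [P'.IsPrime]
    (hP : p = P.comap (algebraMap A B)) (hP' : p = P'.comap (algebraMap A B)) : P = P' := by
  letI alg1 : Algebra p.ResidueField P.ResidueField :=
    (Ideal.ResidueField.map p P (algebraMap A B) hP).toAlgebra
  letI alg2 : Algebra p.ResidueField P'.ResidueField :=
    (Ideal.ResidueField.map p P' (algebraMap A B) hP').toAlgebra
  haveI : Nontrivial (P.ResidueField ⊗[p.ResidueField] P'.ResidueField) :=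
    Algebra.TensorProduct.nontrivial_of_algebraMap_injective_of_flat_left _ _ _
      (algebraMap p.ResidueField P'.ResidueField).injective
  obtain ⟨m, hm⟩ := Ideal.exists_maximal (P.ResidueField ⊗[p.ResidueField] P'.ResidueField)
  letI : Field ((P.ResidueField ⊗[p.ResidueField] P'.ResidueField) ⧸ m) :=
    Ideal.Quotient.field m
  let jL : P.ResidueField →+* (P.ResidueField ⊗[p.ResidueField] P'.ResidueField) ⧸ m :=
    (Ideal.Quotient.mk m).comp (Algebra.TensorProduct.includeLeft
      (R := p.ResidueField) (S := p.ResidueField) (A := P.ResidueField)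
      (B := P'.ResidueField)).toRingHom
  let jR : P'.ResidueField →+* (P.ResidueField ⊗[p.ResidueField] P'.ResidueField) ⧸ m :=
    (Ideal.Quotient.mk m).comp (Algebra.TensorProduct.includeRight
      (R := p.ResidueField) (A := P.ResidueField) (B := P'.ResidueField)).toRingHom
  have hj : ∀ x : p.ResidueField, jL (algebraMap _ _ x) = jR (algebraMap _ _ x) := by
    intro x
    show Ideal.Quotient.mk m ((algebraMap p.ResidueField P.ResidueField x) ⊗ₜ 1) =
      Ideal.Quotient.mk m (1 ⊗ₜ (algebraMap p.ResidueField P'.ResidueField x))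
    congr 1
    rw [Algebra.algebraMap_eq_smul_one, Algebra.algebraMap_eq_smul_one, TensorProduct.smul_tmul]
  let σ : B →+* _ := jL.comp (algebraMap B P.ResidueField)
  let τ : B →+* _ := jR.comp (algebraMap B P'.ResidueField)
  have hσA : ∀ a : A, σ (algebraMap A B a) =
      jL (algebraMap p.ResidueField P.ResidueField (algebraMap A p.ResidueField a)) := by
    intro a
    show jL _ = jL _
    congr 1
    exact (Ideal.ResidueField.map_algebraMap p P (algebraMap A B) hP a).symm
  have hτA : ∀ a : A, τ (algebraMap A B a) =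
      jR (algebraMap p.ResidueField P'.ResidueField (algebraMap A p.ResidueField a)) := by
    intro a
    show jR _ = jR _
    congr 1
    exact (Ideal.ResidueField.map_algebraMap p P' (algebraMap A B) hP' a).symm
  have hστ : σ.comp (algebraMap A B) = τ.comp (algebraMap A B) := by
    ext a
    show σ (algebraMap A B a) = τ (algebraMap A B a)
    rw [hσA, hτA, hj]
  have hker : RingHom.ker (σ.comp (algebraMap A B)) = p := by
    ext a
    rw [RingHom.mem_ker]
    show σ (algebraMap A B a) = 0 ↔ _
    rw [hσA, map_eq_zero_iff _ jL.injective,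
      map_eq_zero_iff _ (algebraMap p.ResidueField P.ResidueField).injective,
      Ideal.algebraMap_residueField_eq_zero]
  have heq := h _ σ τ hστ hker
  ext b
  have h1 : b ∈ P ↔ σ b = 0 := by
    show _ ↔ jL (algebraMap B P.ResidueField b) = 0
    rw [map_eq_zero_iff _ jL.injective, Ideal.algebraMap_residueField_eq_zero]
  have h2 : b ∈ P' ↔ τ b = 0 := by
    show _ ↔ jR (algebraMap B P'.ResidueField b) = 0
    rw [map_eq_zero_iff _ jR.injective, Ideal.algebraMap_residueField_eq_zero]
  rw [h1, h2, heq]

/-- the residue field extension at a prime over a point satisfying `Emb` is purely inseparable -/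
theorem isPurelyInseparable_of_emb (h : Emb (B := B) p) (P : Ideal B) [P.IsPrime]
    (hP : p = P.comap (algebraMap A B)) :
    (Ideal.ResidueField.map p P (algebraMap A B) hP).IsPurelyInseparable := by
  letI alg1 : Algebra p.ResidueField P.ResidueField :=
    (Ideal.ResidueField.map p P (algebraMap A B) hP).toAlgebra
  show IsPurelyInseparable p.ResidueField P.ResidueField
  haveI : Nonempty (P.ResidueField →+* AlgebraicClosure P.ResidueField) := ⟨algebraMap _ _⟩
  refine IsPurelyInseparable.of_injective_comp_algebraMap p.ResidueField P.ResidueField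
    (AlgebraicClosure P.ResidueField) ?_
  intro f g hfg
  have hfg' : ∀ x : p.ResidueField, f (algebraMap _ _ x) = g (algebraMap _ _ x) :=
    fun x => RingHom.congr_fun hfg x
  apply Ideal.ResidueField.ringHom_ext
  have hA : ∀ a : A, algebraMap B P.ResidueField (algebraMap A B a) =
      algebraMap p.ResidueField P.ResidueField (algebraMap A p.ResidueField a) :=
    fun a => (Ideal.ResidueField.map_algebraMap p P (algebraMap A B) hP a).symm
  apply h (AlgebraicClosure P.ResidueField) (f.comp (algebraMap B P.ResidueField))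
    (g.comp (algebraMap B P.ResidueField))
  · ext a
    show f (algebraMap B P.ResidueField (algebraMap A B a)) =
      g (algebraMap B P.ResidueField (algebraMap A B a))
    rw [hA, hfg']
  · ext a
    rw [RingHom.mem_ker]
    show f (algebraMap B P.ResidueField (algebraMap A B a)) = 0 ↔ _
    rw [map_eq_zero_iff _ f.injective, Ideal.algebraMap_residueField_eq_zero, hP]
    rfl

/-- conversely a point with a unique prime over it and purely inseparable residue field extension
satisfies `Emb` -/
theorem emb_of_unique_of_isPurelyInseparable (P : Ideal B) [P.IsPrime]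
    (hP : p = P.comap (algebraMap A B))
    (huniq : ∀ P' : Ideal B, P'.IsPrime → P'.comap (algebraMap A B) = p → P' = P)
    (hpi : (Ideal.ResidueField.map p P (algebraMap A B) hP).IsPurelyInseparable) :
    Emb (B := B) p := by
  intro Ω _ σ τ hστ hker
  have hkerτ : RingHom.ker (τ.comp (algebraMap A B)) = p := by rw [← hστ]; exact hker
  have hσP : RingHom.ker σ = P := by
    apply huniq _ (RingHom.ker_isPrime σ)
    rw [← hker]
    rfl
  have hτP : RingHom.ker τ = P := by
    apply huniq _ (RingHom.ker_isPrime τ)
    rw [← hkerτ]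
    rfl
  have hu : ∀ (ρ : B →+* Ω), RingHom.ker ρ = P →
      P.primeCompl ≤ (IsUnit.submonoid Ω).comap ρ := by
    intro ρ hρ b hb
    rw [Submonoid.mem_comap, IsUnit.mem_submonoid_iff, isUnit_iff_ne_zero]
    intro h0
    exact hb (hρ ▸ (RingHom.mem_ker.mpr h0))
  let σ' : P.ResidueField →+* Ω := Ideal.ResidueField.lift P σ hσP.ge (hu σ hσP)
  let τ' : P.ResidueField →+* Ω := Ideal.ResidueField.lift P τ hτP.ge (hu τ hτP)
  have hσ' : ∀ b, σ' (algebraMap B P.ResidueField b) = σ b :=
    fun b => Ideal.ResidueField.lift_algebraMap P σ hσP.ge (hu σ hσP) b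
  have hτ' : ∀ b, τ' (algebraMap B P.ResidueField b) = τ b :=
    fun b => Ideal.ResidueField.lift_algebraMap P τ hτP.ge (hu τ hτP) b
  letI alg1 : Algebra p.ResidueField P.ResidueField :=
    (Ideal.ResidueField.map p P (algebraMap A B) hP).toAlgebra
  haveI : IsPurelyInseparable p.ResidueField P.ResidueField := hpi
  have hcomp : σ'.comp (algebraMap p.ResidueField P.ResidueField) =
      τ'.comp (algebraMap p.ResidueField P.ResidueField) := by
    apply Ideal.ResidueField.ringHom_ext
    ext a
    show σ' (Ideal.ResidueField.map p P (algebraMap A B) hP (algebraMap A p.ResidueField a)) =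
      τ' (Ideal.ResidueField.map p P (algebraMap A B) hP (algebraMap A p.ResidueField a))
    rw [Ideal.ResidueField.map_algebraMap, hσ', hτ']
    exact RingHom.congr_fun hστ a
  have heq : σ' = τ' :=
    IsPurelyInseparable.injective_comp_algebraMap p.ResidueField P.ResidueField Ω hcomp
  ext b
  rw [← hσ', ← hτ', heq]

end Residue

section Constructible

open PrimeSpectrum Topology

/-- the locus of `Emb` is constructible for a finite algebra over a Noetherian ring -/
theorem isConstructible_setOf_emb [IsNoetherianRing A] [Module.Finite A B] :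
    IsConstructible {p : PrimeSpectrum A | Emb (B := B) p.asIdeal} := by
  haveI : Module.Finite A (B ⊗[A] B) := inferInstance
  haveI : Algebra.FiniteType A (B ⊗[A] B) := inferInstance
  haveI : IsNoetherianRing (B ⊗[A] B) := Algebra.FiniteType.isNoetherianRing A _
  haveI : Algebra.FinitePresentation A (B ⊗[A] B) :=
    Algebra.FinitePresentation.of_finiteType.mp inferInstance
  have hfp : (algebraMap A (B ⊗[A] B)).FinitePresentation :=
    RingHom.finitePresentation_algebraMap.mpr inferInstance
  have hopen : IsConstructible ((zeroLocus (KaehlerDifferential.ideal A B :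
      Set (B ⊗[A] B)))ᶜ : Set (PrimeSpectrum (B ⊗[A] B))) := by
    apply IsRetrocompact.isConstructible
    · exact (isClosed_zeroLocus _).isOpen_compl
    · exact isRetrocompact_zeroLocus_compl_of_fg (IsNoetherian.noetherian _)
  have him := isConstructible_comap_image hfp hopen
  have hset : {p : PrimeSpectrum A | Emb (B := B) p.asIdeal} =
      (comap (algebraMap A (B ⊗[A] B)) ''
        (zeroLocus (KaehlerDifferential.ideal A B : Set (B ⊗[A] B)))ᶜ)ᶜ := by
    ext p
    rw [Set.mem_setOf_eq, emb_iff_diag, Set.mem_compl_iff, Set.mem_image]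
    constructor
    · rintro h ⟨Q, hQ, rfl⟩
      exact hQ (h Q.asIdeal Q.isPrime rfl)
    · intro h Q hQ hQp
      by_contra hcon
      exact h ⟨⟨Q, hQ⟩, hcon, PrimeSpectrum.ext hQp⟩
  rw [hset]
  exact him.compl

end Constructible

end Groth.Agent.Lib.GUConsH3
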