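import Mathlib

/-!
# Minimal primes of `A' ⊗[A] B` versus those of `B`

`A → A'` a ring map with nilpotent kernel, such that `A'` is "sandwiched" between (the image of) `A`
and a localization: there is a submonoid `S` of `A` acting injectively on `A'` and every element of
`A'` can be multiplied into the image of `A` by an element of `S`.  Then for every flat `A`-algebra `B`
contraction is a bijection from the minimal primes of `A' ⊗[A] B` onto those of `B`.
-/

open TensorProduct

namespace Groth.Agent.Lib.MinPrimesSandwichH3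

universe u v w

variable {A : Type u} [CommRing A] (A' : Type v) [CommRing A'] [Algebra A A']
  (B : Type w) [CommRing B] [Algebra A B]

/-- every element of `A' ⊗ B` can be multiplied into `1 ⊗ B` by an element of `S`. -/
theorem exists_smul_eq_one_tmul (S : Submonoid A)
    (hden : ∀ x : A', ∃ a ∈ S, ∃ y : A, a • x = algebraMap A A' y) (t : A' ⊗[A] B) :
    ∃ a ∈ S, ∃ b : B, a • t = (1 : A') ⊗ₜ[A] b := by
  induction t using TensorProduct.induction_on with
  | zero => exact ⟨1, S.one_mem, 0, by simp⟩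
  | tmul x b =>
    obtain ⟨a, ha, y, hy⟩ := hden x
    refine ⟨a, ha, y • b, ?_⟩
    rw [TensorProduct.smul_tmul', hy, Algebra.algebraMap_eq_smul_one, TensorProduct.smul_tmul]
  | add t₁ t₂ h₁ h₂ =>
    obtain ⟨a₁, ha₁, b₁, e₁⟩ := h₁
    obtain ⟨a₂, ha₂, b₂, e₂⟩ := h₂
    refine ⟨a₁ * a₂, S.mul_mem ha₁ ha₂, a₂ • b₁ + a₁ • b₂, ?_⟩
    rw [smul_add, mul_comm a₁ a₂, mul_smul, e₁, mul_comm a₂ a₁, mul_smul, e₂,
      TensorProduct.tmul_add, TensorProduct.tmul_smul, TensorProduct.tmul_smul]

/-- elements of `S` act injectively on `A' ⊗ B` when `B` is flat. -/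
theorem smul_eq_zero_imp [Module.Flat A B] (a : A)
    (hS : ∀ x : A', a • x = 0 → x = 0) (t : A' ⊗[A] B) (ht : a • t = 0) : t = 0 := by
  have hinj : Function.Injective (LinearMap.lsmul A A' a) := by
    rw [injective_iff_map_eq_zero]
    intro x hx
    exact hS x (by simpa using hx)
  have h2 := Module.Flat.rTensor_preserves_injective_linearMap (M := B) _ hinj
  have h3 : ∀ t : A' ⊗[A] B, (LinearMap.lsmul A A' a).rTensor B t = a • t := by
    intro t
    induction t using TensorProduct.induction_on with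
    | zero => simp
    | tmul x b => simp [TensorProduct.smul_tmul']
    | add t₁ t₂ h₁ h₂ => rw [map_add, h₁, h₂, smul_add]
  apply h2
  rw [h3 t, ht, map_zero]

theorem algebraMap_mem_nonZeroDivisors [Module.Flat A B] (a : A)
    (hS : ∀ x : A', a • x = 0 → x = 0) :
    algebraMap A (A' ⊗[A] B) a ∈ nonZeroDivisors (A' ⊗[A] B) := by
  rw [mem_nonZeroDivisors_iff_right]
  intro t ht
  apply smul_eq_zero_imp A' B a hS t
  rw [Algebra.smul_def, mul_comm, ht]

/-- comparison of primes of `A' ⊗ B` through their contractions to `B`. -/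
theorem le_of_comap_le (S : Submonoid A)
    (hden : ∀ x : A', ∃ a ∈ S, ∃ y : A, a • x = algebraMap A A' y)
    (Q Q' : Ideal (A' ⊗[A] B)) [Q'.IsPrime]
    (hQ' : ∀ a ∈ S, algebraMap A (A' ⊗[A] B) a ∉ Q')
    (h : Q.comap (Algebra.TensorProduct.includeRight.toRingHom : B →+* A' ⊗[A] B) ≤
      Q'.comap (Algebra.TensorProduct.includeRight.toRingHom : B →+* A' ⊗[A] B)) : Q ≤ Q' := by
  intro t ht
  obtain ⟨a, ha, b, e⟩ := exists_smul_eq_one_tmul A' B S hden t
  have h1 : (1 : A') ⊗ₜ[A] b ∈ Q := by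
    rw [← e, Algebra.smul_def]
    exact Q.mul_mem_left _ ht
  have h2 : b ∈ Q.comap (Algebra.TensorProduct.includeRight.toRingHom : B →+* A' ⊗[A] B) := h1
  have h3 : (1 : A') ⊗ₜ[A] b ∈ Q' := h h2
  rw [← e, Algebra.smul_def] at h3
  exact (Ideal.IsPrime.mem_or_mem inferInstance h3).resolve_left (hQ' a ha)

/-- the kernel of `B → A' ⊗ B` consists of nilpotents if that of `A → A'` does and `B` is flat. -/
theorem ker_includeRight_le_nilradical [Module.Flat A B]
    (hker : RingHom.ker (algebraMap A A') ≤ nilradical A) :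
    RingHom.ker (Algebra.TensorProduct.includeRight.toRingHom : B →+* A' ⊗[A] B) ≤ nilradical B := by
  intro b hb
  set I : Ideal A := RingHom.ker (algebraMap A A') with hI
  -- the injection `A ⧸ I → A'`
  let g : (A ⧸ I) →ₗ[A] A' := Submodule.liftQ I (Algebra.linearMap A A') (by
    intro x hx
    exact hx)
  have hg : Function.Injective g := by
    rw [← LinearMap.ker_eq_bot]
    apply Submodule.ker_liftQ_eq_bot
    intro x hx
    exact hx
  have h2 := Module.Flat.rTensor_preserves_injective_linearMap (M := B) g hg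
  have h3 : (1 : A ⧸ I) ⊗ₜ[A] b = 0 := by
    apply h2
    rw [map_zero, LinearMap.rTensor_tmul]
    have : g 1 = 1 := by
      change g (Submodule.Quotient.mk 1) = 1
      rw [Submodule.liftQ_apply]
      simp
    rw [this]
    exact hb
  have h4 : b ∈ (I • ⊤ : Submodule A B) := by
    have := congrArg (TensorProduct.quotTensorEquivQuotSMul B I) h3
    rw [TensorProduct.quotTensorEquivQuotSMul_mk_one_tmul, map_zero,
      Submodule.Quotient.mk_eq_zero] at this
    exact this
  refine Submodule.smul_induction_on h4 ?_ ?_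
  · intro a ha m _
    have : IsNilpotent a := hker ha
    rw [mem_nilradical, Algebra.smul_def]
    exact Commute.isNilpotent_mul_right (Commute.all _ _) (this.map (algebraMap A B))
  · intro x y hx hy
    exact (nilradical B).add_mem hx hy

/-- **Main lemma.** -/
theorem bijOn_minimalPrimes [Module.Flat A B] (S : Submonoid A)
    (hker : RingHom.ker (algebraMap A A') ≤ nilradical A)
    (hS : ∀ a ∈ S, ∀ x : A', a • x = 0 → x = 0)
    (hden : ∀ x : A', ∃ a ∈ S, ∃ y : A, a • x = algebraMap A A' y) :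
    Set.BijOn (fun P : Ideal (A' ⊗[A] B) =>
        P.comap (Algebra.TensorProduct.includeRight.toRingHom : B →+* A' ⊗[A] B))
      (minimalPrimes (A' ⊗[A] B)) (minimalPrimes B) := by
  set f : B →+* A' ⊗[A] B := Algebra.TensorProduct.includeRight.toRingHom with hf
  -- elements of `S` avoid minimal primes
  have havoid : ∀ Q ∈ minimalPrimes (A' ⊗[A] B), ∀ a ∈ S, algebraMap A (A' ⊗[A] B) a ∉ Q := by
    intro Q hQ a ha hmem
    exact Set.disjoint_left.mp (Ideal.disjoint_nonZeroDivisors_of_mem_minimalPrimes hQ) hmem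
      (algebraMap_mem_nonZeroDivisors A' B a (hS a ha))
  have hsurj : Set.SurjOn (fun P : Ideal (A' ⊗[A] B) => P.comap f)
      (minimalPrimes (A' ⊗[A] B)) (minimalPrimes B) := by
    intro p hp
    have hp' : p ∈ ((⊥ : Ideal (A' ⊗[A] B)).comap f).minimalPrimes := by
      have hle : (⊥ : Ideal (A' ⊗[A] B)).comap f ≤ p := by
        have : (⊥ : Ideal (A' ⊗[A] B)).comap f ≤ nilradical B :=
          ker_includeRight_le_nilradical A' B hker
        refine this.trans ?_
        haveI := hp.1.1
        exact nilradical_le_prime p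
      refine ⟨⟨hp.1.1, hle⟩, ?_⟩
      intro q hq hqp
      exact hp.2 ⟨hq.1, bot_le⟩ hqp
    obtain ⟨Q, hQ, e⟩ := Ideal.exists_minimalPrimes_comap_eq f p hp'
    exact ⟨Q, hQ, e⟩
  have hmaps : Set.MapsTo (fun P : Ideal (A' ⊗[A] B) => P.comap f)
      (minimalPrimes (A' ⊗[A] B)) (minimalPrimes B) := by
    intro Q hQ
    haveI := hQ.1.1
    haveI : (Q.comap f).IsPrime := Ideal.comap_isPrime f Q
    obtain ⟨p₀, hp₀, hle⟩ := Ideal.exists_minimalPrimes_le (I := ⊥) (J := Q.comap f) bot_le
    obtain ⟨Q₀, hQ₀, e₀⟩ := hsurj hp₀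
    have e₀' : Q₀.comap f = p₀ := e₀
    have h1 : Q₀ ≤ Q := le_of_comap_le A' B S hden Q₀ Q (havoid Q hQ) (by rw [e₀']; exact hle)
    have h2 : Q ≤ Q₀ := hQ.2 ⟨hQ₀.1.1, bot_le⟩ h1
    have h3 : Q = Q₀ := le_antisymm h2 h1
    change Q.comap f ∈ minimalPrimes B
    rw [h3, e₀']
    exact hp₀
  refine ⟨hmaps, ?_, hsurj⟩
  intro Q hQ Q' hQ' e
  have e' : Q.comap f = Q'.comap f := e
  haveI := hQ.1.1
  haveI := hQ'.1.1
  exact le_antisymm (le_of_comap_le A' B S hden Q Q' (havoid Q' hQ') e'.le)
    (le_of_comap_le A' B S hden Q' Q (havoid Q hQ) e'.ge)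

end Groth.Agent.Lib.MinPrimesSandwichH3
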