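import Groth.Prelude.Def_CAlg2
import Groth.Agent.Lib.MinPrimesSandwich_helper3

/-!
# Minimal primes of `normRed A ⊗[A] B` for flat `B`
-/

open TensorProduct

namespace Groth.Agent.Lib.MinPrimesSandwichH3

universe u

variable (A : Type u) [CommRing A]

/-- the elements of `A` whose image in `A_red` is a nonzerodivisor. -/
def regSubmonoid : Submonoid A :=
  Submonoid.comap (Ideal.Quotient.mk (nilradical A)) (nonZeroDivisors (CAlg2.red A))

theorem algebraMap_normRed_coe (a : A) :
    ((algebraMap A (CAlg2.normRed A) a : CAlg2.normRed A) : FractionRing (CAlg2.red A)) =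
      algebraMap (CAlg2.red A) (FractionRing (CAlg2.red A)) (Ideal.Quotient.mk (nilradical A) a) := by
  rfl

theorem ker_algebraMap_normRed_le :
    RingHom.ker (algebraMap A (CAlg2.normRed A)) ≤ nilradical A := by
  intro a ha
  rw [RingHom.mem_ker] at ha
  have h1 := congrArg (fun x : CAlg2.normRed A => (x : FractionRing (CAlg2.red A))) ha
  simp only [algebraMap_normRed_coe] at h1
  have h2 : algebraMap (CAlg2.red A) (FractionRing (CAlg2.red A))
      (Ideal.Quotient.mk (nilradical A) a) = 0 := h1
  have h3 := (IsFractionRing.injective (CAlg2.red A) (FractionRing (CAlg2.red A)))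
    (h2.trans (map_zero _).symm)
  exact Ideal.Quotient.eq_zero_iff_mem.mp h3

theorem smul_coe (a : A) (x : CAlg2.normRed A) :
    ((a • x : CAlg2.normRed A) : FractionRing (CAlg2.red A)) =
      algebraMap (CAlg2.red A) (FractionRing (CAlg2.red A)) (Ideal.Quotient.mk (nilradical A) a) *
        (x : FractionRing (CAlg2.red A)) := by
  rw [Algebra.smul_def]
  rfl

theorem regSubmonoid_smul_eq_zero (a : A) (ha : a ∈ regSubmonoid A) (x : CAlg2.normRed A)
    (hx : a • x = 0) : x = 0 := by
  have h1 := congrArg (fun x : CAlg2.normRed A => (x : FractionRing (CAlg2.red A))) hx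
  simp only [smul_coe] at h1
  have hu : IsUnit (algebraMap (CAlg2.red A) (FractionRing (CAlg2.red A))
      (Ideal.Quotient.mk (nilradical A) a)) :=
    IsLocalization.map_units (M := nonZeroDivisors (CAlg2.red A)) _ ⟨_, ha⟩
  have h2 : (x : FractionRing (CAlg2.red A)) = 0 := by
    have : algebraMap (CAlg2.red A) (FractionRing (CAlg2.red A))
      (Ideal.Quotient.mk (nilradical A) a) * (x : FractionRing (CAlg2.red A)) = 0 := h1
    exact (hu.mul_right_eq_zero).mp this
  exact Subtype.ext h2

theorem exists_regSubmonoid_smul_eq (x : CAlg2.normRed A) :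
    ∃ a ∈ regSubmonoid A, ∃ y : A, a • x = algebraMap A (CAlg2.normRed A) y := by
  obtain ⟨⟨y, s⟩, hys⟩ := IsLocalization.surj (nonZeroDivisors (CAlg2.red A))
    (x : FractionRing (CAlg2.red A))
  obtain ⟨a, ha⟩ := Ideal.Quotient.mk_surjective (s : CAlg2.red A)
  obtain ⟨y', hy'⟩ := Ideal.Quotient.mk_surjective y
  refine ⟨a, ?_, y', ?_⟩
  · change Ideal.Quotient.mk (nilradical A) a ∈ nonZeroDivisors (CAlg2.red A)
    rw [ha]
    exact s.2
  · apply Subtype.ext
    rw [smul_coe, algebraMap_normRed_coe, ha, hy', mul_comm]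
    exact hys

open CAlg2 in
/-- contraction is a bijection from minimal primes of `normRed A ⊗[A] B` to those of `B`, for every
flat `A`-algebra `B`. -/
theorem bijOn_minimalPrimes_normRed (B : Type u) [CommRing B] [Algebra A B] [Module.Flat A B] :
    Set.BijOn (fun P : Ideal ((CAlg2.normRed A) ⊗[A] B) =>
        P.comap (Algebra.TensorProduct.includeRight.toRingHom :
          B →+* (CAlg2.normRed A) ⊗[A] B))
      (minimalPrimes ((CAlg2.normRed A) ⊗[A] B))
      (minimalPrimes B) :=
  bijOn_minimalPrimes (CAlg2.normRed A) B (regSubmonoid A) (ker_algebraMap_normRed_le A)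
    (regSubmonoid_smul_eq_zero A) (exists_regSubmonoid_smul_eq A)

end Groth.Agent.Lib.MinPrimesSandwichH3
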