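import Mathlib
import Groth.Prelude.Def_CAlg2
import Groth.Agent.Lib.GeomUniB2_helper3

/-!
# Radicial integral covers and geometric unibranchness (helper3)

A local ring `R` admitting an integral homomorphism with nil kernel to a normal local domain `R'`
which is radicial on residue fields is geometrically unibranch (converse of `exists_cover`).

APPEND-ONLY once landed.
-/

set_option autoImplicit false
set_option maxSynthPendingDepth 3
universe u

namespace Groth.Agent.Lib.RadBiratH3

open IsLocalRing

section Field

variable {F E K : Type*} [Field F] [Field E] [Field K]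

theorem isPurelyInseparable_of_comp_left {f : F →+* E} {g : E →+* K}
    (h : (g.comp f).IsPurelyInseparable) : f.IsPurelyInseparable := by
  letI := f.toAlgebra
  letI := g.toAlgebra
  letI := (g.comp f).toAlgebra
  haveI : IsScalarTower F E K := IsScalarTower.of_algebraMap_eq (fun _ => rfl)
  haveI : IsPurelyInseparable F K := h
  exact IsPurelyInseparable.tower_bot F E K

theorem isPurelyInseparable_of_comp_right {f : F →+* E} {g : E →+* K}
    (h : (g.comp f).IsPurelyInseparable) : g.IsPurelyInseparable := by
  letI := f.toAlgebra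
  letI := g.toAlgebra
  letI := (g.comp f).toAlgebra
  haveI : IsScalarTower F E K := IsScalarTower.of_algebraMap_eq (fun _ => rfl)
  haveI : IsPurelyInseparable F K := h
  exact IsPurelyInseparable.tower_top F E K

end Field

section Residue

/-- the elementwise form of radiciality (as produced by `exists_cover`) gives a purely
inseparable residue field extension -/
theorem isPurelyInseparable_residue_of_pow {R R' : Type*} [CommRing R] [IsLocalRing R]
    [CommRing R'] [IsLocalRing R'] (g : R →+* R') [IsLocalHom g] (q : ℕ)
    (hq : q = 1 ∨ (q.Prime ∧ (q : R') ∈ maximalIdeal R'))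
    (hpi : ∀ x : R', ∃ (n : ℕ) (a : R), x ^ q ^ n - g a ∈ maximalIdeal R') :
    (ResidueField.map g).IsPurelyInseparable := by
  letI : Algebra (ResidueField R) (ResidueField R') := (ResidueField.map g).toAlgebra
  show IsPurelyInseparable (ResidueField R) (ResidueField R')
  have hres : ∀ x : R', ∃ (n : ℕ) (a : R),
      residue R' x ^ q ^ n = ResidueField.map g (residue R a) := by
    intro x
    obtain ⟨n, a, h⟩ := hpi x
    refine ⟨n, a, ?_⟩
    rw [ResidueField.map_residue, ← map_pow, ← sub_eq_zero, ← map_sub, residue_eq_zero_iff]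
    exact h
  rcases hq with rfl | ⟨hprime, hmem⟩
  · obtain ⟨q', hq'⟩ := ExpChar.exists (ResidueField R)
    rw [isPurelyInseparable_iff_pow_mem _ q']
    intro x
    obtain ⟨x, rfl⟩ := residue_surjective x
    obtain ⟨n, a, h⟩ := hres x
    refine ⟨0, residue R a, ?_⟩
    rw [one_pow, pow_one] at h
    rw [pow_zero, pow_one, h]
    rfl
  · have h0 : ((q : ℕ) : ResidueField R') = 0 := by
      rw [← map_natCast (residue R'), residue_eq_zero_iff]
      exact hmem
    haveI hc' : CharP (ResidueField R') q := (CharP.charP_iff_prime_eq_zero hprime).mpr h0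
    haveI : CharP (ResidueField R) q :=
      (ResidueField.map g).charP (ResidueField.map g).injective q
    haveI : ExpChar (ResidueField R) q := ExpChar.prime hprime
    rw [isPurelyInseparable_iff_pow_mem _ q]
    intro x
    obtain ⟨x, rfl⟩ := residue_surjective x
    obtain ⟨n, a, h⟩ := hres x
    exact ⟨n, residue R a, h.symm⟩

/-- integral homomorphisms of local rings with kernel in the maximal ideal are local -/
theorem isLocalHom_of_isIntegral {R R' : Type*} [CommRing R] [IsLocalRing R] [CommRing R']
    [IsLocalRing R'] [Algebra R R'] [Algebra.IsIntegral R R']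
    (hker : RingHom.ker (algebraMap R R') ≤ maximalIdeal R) : IsLocalHom (algebraMap R R') := by
  constructor
  intro x hx
  by_contra hnu
  have hxm : x ∈ maximalIdeal R := (mem_maximalIdeal x).mpr hnu
  obtain ⟨Q, hQmax, hQ⟩ :=
    Ideal.exists_ideal_over_maximal_of_isIntegral (S := R') (maximalIdeal R) hker
  have hxQ : algebraMap R R' x ∈ Q := by
    rw [← Ideal.mem_comap, hQ]
    exact hxm
  exact hQmax.ne_top (Ideal.eq_top_of_isUnit_mem _ hxQ hx)

theorem nilradical_le_maximalIdeal (R : Type*) [CommRing R] [IsLocalRing R] :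
    nilradical R ≤ maximalIdeal R := by
  rw [nilradical_eq_sInf]
  exact sInf_le (maximalIdeal.isMaximal R).isPrime

end Residue

section Cover

variable (R R' : Type u) [CommRing R] [IsLocalRing R] [CommRing R'] [IsDomain R']
  [IsIntegrallyClosed R'] [IsLocalRing R'] [Algebra R R'] [Algebra.IsIntegral R R']
  [IsLocalHom (algebraMap R R')]

/-- converse of `exists_cover` -/
theorem isGeomUnibranch_of_cover (hker : RingHom.ker (algebraMap R R') ≤ nilradical R)
    (hrad : (ResidueField.map (algebraMap R R')).IsPurelyInseparable) :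
    CAlg2.IsGeomUnibranch R := by
  classical
  have hkereq : RingHom.ker (algebraMap R R') = nilradical R := by
    refine le_antisymm hker ?_
    intro x hx
    rw [mem_nilradical] at hx
    rw [RingHom.mem_ker]
    exact (hx.map (algebraMap R R')).eq_zero
  haveI hprime : (nilradical R).IsPrime := hkereq ▸ RingHom.ker_isPrime (algebraMap R R')
  haveI hdom : IsDomain (CAlg2.red R) := Ideal.Quotient.isDomain _
  obtain ⟨gbar, hgbar⟩ : ∃ gbar : CAlg2.red R →+* R',
      ∀ r, gbar (Ideal.Quotient.mk _ r) = algebraMap R R' r :=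
    ⟨Ideal.Quotient.lift (nilradical R) (algebraMap R R')
      (fun a ha => by rw [← RingHom.mem_ker, hkereq]; exact ha),
      fun r => Ideal.Quotient.lift_mk _ _ _⟩
  have hgbar_inj : Function.Injective gbar := by
    rw [injective_iff_map_eq_zero]
    intro x hx
    obtain ⟨r, rfl⟩ := Ideal.Quotient.mk_surjective x
    rw [hgbar] at hx
    rw [Ideal.Quotient.eq_zero_iff_mem, ← hkereq]
    exact hx
  have hinjK : Function.Injective (algebraMap R' (FractionRing R')) :=
    IsFractionRing.injective R' (FractionRing R')
  have hinj2 : Function.Injective ((algebraMap R' (FractionRing R')).comp gbar) :=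
    hinjK.comp hgbar_inj
  obtain ⟨j, hj⟩ : ∃ j : FractionRing (CAlg2.red R) →+* FractionRing R',
      ∀ d, j (algebraMap _ _ d) = algebraMap R' (FractionRing R') (gbar d) :=
    ⟨IsFractionRing.lift hinj2, fun d => IsFractionRing.lift_algebraMap hinj2 d⟩
  have hmem : ∀ c : CAlg2.normRed R,
      j (c : FractionRing (CAlg2.red R)) ∈ (algebraMap R' (FractionRing R')).range := by
    intro c
    have hc : IsIntegral (CAlg2.red R) (c : FractionRing (CAlg2.red R)) := c.2
    have h2 : IsIntegral R' (j (c : FractionRing (CAlg2.red R))) := by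
      refine IsIntegral.map_of_comp_eq gbar j ?_ hc
      ext d
      simp only [RingHom.comp_apply]
      exact (hj d).symm
    exact IsIntegrallyClosed.isIntegral_iff.mp h2
  obtain ⟨e, he⟩ : ∃ e : R' ≃+* (algebraMap R' (FractionRing R')).range,
      ∀ r, (e r : FractionRing R') = algebraMap R' _ r :=
    ⟨RingEquiv.ofBijective (algebraMap R' (FractionRing R')).rangeRestrict
      ⟨fun a b h => hinjK (congrArg Subtype.val h),
        (algebraMap R' (FractionRing R')).rangeRestrict_surjective⟩, fun r => rfl⟩
  obtain ⟨ι, hι⟩ : ∃ ι : CAlg2.normRed R →+* R',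
      ∀ c, algebraMap R' (FractionRing R') (ι c) = j (c : FractionRing (CAlg2.red R)) := by
    refine ⟨(e.symm : _ →+* R').comp
      (RingHom.codRestrict (j.comp (algebraMap (CAlg2.normRed R) (FractionRing (CAlg2.red R))))
        (algebraMap R' (FractionRing R')).range hmem), fun c => ?_⟩
    rw [← he]
    simp only [RingHom.comp_apply, RingHom.coe_coe, RingEquiv.apply_symm_apply]
    rfl
  have hι_inj : Function.Injective ι := by
    rw [injective_iff_map_eq_zero]
    intro c hc
    have h1 := hι c
    rw [hc, map_zero] at h1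
    have h2 : (c : FractionRing (CAlg2.red R)) = 0 := by
      apply j.injective
      rw [map_zero, ← h1]
    exact Subtype.ext h2
  have hι_comp : ∀ r : R, ι (algebraMap (CAlg2.red R) (CAlg2.normRed R)
      (Ideal.Quotient.mk (nilradical R) r)) = algebraMap R R' r := by
    intro r
    apply hinjK
    rw [hι, ← hgbar, ← hj]
    rfl
  letI algRC : Algebra R (CAlg2.normRed R) :=
    ((algebraMap (CAlg2.red R) (CAlg2.normRed R)).comp
      (Ideal.Quotient.mk (nilradical R))).toAlgebra
  letI algCR' : Algebra (CAlg2.normRed R) R' := ι.toAlgebra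
  haveI : IsScalarTower R (CAlg2.normRed R) R' :=
    IsScalarTower.of_algebraMap_eq (fun r => (hι_comp r).symm)
  haveI hintC : Algebra.IsIntegral (CAlg2.normRed R) R' :=
    Algebra.IsIntegral.tower_top (R := R)
  have hmaxuniq : ∀ M : Ideal (CAlg2.normRed R), M.IsMaximal →
      M = (maximalIdeal R').comap (algebraMap (CAlg2.normRed R) R') := by
    intro M hM
    have hkerι : RingHom.ker (algebraMap (CAlg2.normRed R) R') = ⊥ :=
      (RingHom.injective_iff_ker_eq_bot ι).mp hι_inj
    obtain ⟨Q, hQmax, hQ⟩ := Ideal.exists_ideal_over_maximal_of_isIntegral (S := R') M (by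
      rw [hkerι]
      exact bot_le)
    rw [← hQ, IsLocalRing.eq_maximalIdeal hQmax]
  haveI hloc : IsLocalRing (CAlg2.normRed R) :=
    IsLocalRing.of_unique_max_ideal
      ⟨(maximalIdeal R').comap (algebraMap (CAlg2.normRed R) R'),
        Ideal.isMaximal_comap_of_isIntegral_of_isMaximal _, fun M hM => hmaxuniq M hM⟩
  refine ⟨⟨hdom, hloc⟩, ?_⟩
  intro m' hm'
  have hm'eq : m' = (maximalIdeal R').comap ι := hmaxuniq m' hm'
  letI : Field (CAlg2.normRed R ⧸ m') := Ideal.Quotient.field m'
  intro x
  obtain ⟨q, hqdef⟩ : ∃ q, q = ringExpChar (CAlg2.normRed R ⧸ m') := ⟨_, rfl⟩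
  rw [← hqdef]
  haveI hexp : ExpChar (CAlg2.normRed R ⧸ m') q := hqdef ▸ ringExpChar.expChar _
  obtain ⟨θ, hθ⟩ : ∃ θ : CAlg2.normRed R ⧸ m' →+* ResidueField R',
      ∀ c, θ (Ideal.Quotient.mk m' c) = residue R' (ι c) :=
    ⟨Ideal.Quotient.lift m' ((residue R').comp ι) (fun c hc => by
      rw [hm'eq] at hc
      rw [RingHom.comp_apply, residue_eq_zero_iff]
      exact hc), fun c => Ideal.Quotient.lift_mk _ _ _⟩
  haveI : ExpChar (ResidueField R') q := expChar_of_injective_ringHom θ.injective q
  haveI : ExpChar (ResidueField R) q :=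
    (ResidueField.map (algebraMap R R')).expChar (ResidueField.map (algebraMap R R')).injective q
  letI : Algebra (ResidueField R) (ResidueField R') :=
    (ResidueField.map (algebraMap R R')).toAlgebra
  haveI hpi : IsPurelyInseparable (ResidueField R) (ResidueField R') := hrad
  obtain ⟨c, rfl⟩ := Ideal.Quotient.mk_surjective x
  obtain ⟨n, rbar, hr⟩ := IsPurelyInseparable.pow_mem (ResidueField R) q (residue R' (ι c))
  obtain ⟨r, rfl⟩ := residue_surjective rbar
  refine ⟨n, r, ?_⟩
  apply θ.injective
  rw [map_pow, hθ, ← hr]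
  simp only [RingHom.comp_apply]
  rw [hθ, hι_comp]
  rfl

end Cover

end Groth.Agent.Lib.RadBiratH3
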