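import Mathlib
import Groth.Prelude.Def_CAlg2
import Groth.Agent.Lib.MinPrimesNormRed_helper3
import Groth.Agent.Lib.NormalTotalFrac_lead
import Groth.Agent.Lib.RadBirat1_helper3

/-!
# The normalisation of the reduction as a birational integral cover (helper3)

Ring maps `A → C` "sandwiched" between `A` and a localisation: nilpotent kernel, a submonoid `S`
of `A` acting injectively on `C` and making every element of `C` a fraction.  Minimal primes of
`C` and `A` correspond, and `C` is birational to `A`.  Applied to `C = normRed A`, whose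
localisations at primes are normal domains, hence geometrically unibranch.

APPEND-ONLY once landed.
-/

set_option autoImplicit false
universe u

open IsLocalRing

namespace Groth.Agent.Lib.GUConsH3

section Sandwich

variable {A C : Type u} [CommRing A] [CommRing C] [Algebra A C] (S : Submonoid A)

theorem le_of_comap_le
    (hden : ∀ x : C, ∃ s ∈ S, ∃ y : A, s • x = algebraMap A C y)
    (Q Q' : Ideal C) [Q'.IsPrime] (hS : ∀ s ∈ S, algebraMap A C s ∉ Q')
    (hle : Q.comap (algebraMap A C) ≤ Q'.comap (algebraMap A C)) : Q ≤ Q' := by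
  intro x hx
  obtain ⟨s, hs, y, hy⟩ := hden x
  have hyQ : algebraMap A C y ∈ Q := by
    rw [← hy, Algebra.smul_def]
    exact Q.mul_mem_left _ hx
  have h3 : algebraMap A C y ∈ Q' := hle hyQ
  rw [← hy, Algebra.smul_def] at h3
  exact (Ideal.IsPrime.mem_or_mem inferInstance h3).resolve_left (hS s hs)

theorem algebraMap_mem_nonZeroDivisors
    (htf : ∀ s ∈ S, ∀ x : C, s • x = 0 → x = 0) (s : A) (hs : s ∈ S) :
    algebraMap A C s ∈ nonZeroDivisors C := by
  rw [mem_nonZeroDivisors_iff_right]
  intro x hx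
  apply htf s hs x
  rw [Algebra.smul_def, mul_comm, hx]

theorem notMem_of_mem_minimalPrimes
    (htf : ∀ s ∈ S, ∀ x : C, s • x = 0 → x = 0) (Q : Ideal C) (hQ : Q ∈ minimalPrimes C)
    (s : A) (hs : s ∈ S) : algebraMap A C s ∉ Q := fun hmem =>
  Set.disjoint_left.mp (Ideal.disjoint_nonZeroDivisors_of_mem_minimalPrimes hQ) hmem
    (algebraMap_mem_nonZeroDivisors S htf s hs)

variable [Algebra.IsIntegral A C]

theorem exists_prime_over (hker : RingHom.ker (algebraMap A C) ≤ nilradical A)
    (q : Ideal A) [q.IsPrime] : ∃ Q : Ideal C, Q.IsPrime ∧ Q.comap (algebraMap A C) = q := by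
  obtain ⟨Q, -, hQp, hQ⟩ := Ideal.exists_ideal_over_prime_of_isIntegral q (⊥ : Ideal C)
    (hker.trans (nilradical_le_prime q))
  exact ⟨Q, hQp, hQ⟩

theorem comap_mem_minimalPrimes (hker : RingHom.ker (algebraMap A C) ≤ nilradical A)
    (htf : ∀ s ∈ S, ∀ x : C, s • x = 0 → x = 0)
    (hden : ∀ x : C, ∃ s ∈ S, ∃ y : A, s • x = algebraMap A C y) :
    ∀ Q ∈ minimalPrimes C, Q.comap (algebraMap A C) ∈ minimalPrimes A := by
  intro Q hQ
  haveI : Q.IsPrime := hQ.1.1
  obtain ⟨q₀, hq₀, hle⟩ := Ideal.exists_minimalPrimes_le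
    (bot_le : (⊥ : Ideal A) ≤ Q.comap (algebraMap A C))
  haveI : q₀.IsPrime := hq₀.1.1
  obtain ⟨Q₀, hQ₀prime, hQ₀⟩ := exists_prime_over hker q₀
  have hQ₀Q : Q₀ ≤ Q := le_of_comap_le S hden Q₀ Q
    (notMem_of_mem_minimalPrimes S htf Q hQ) (hQ₀ ▸ hle)
  have hQQ₀ : Q ≤ Q₀ := hQ.2 ⟨hQ₀prime, bot_le⟩ hQ₀Q
  have hQeq : Q = Q₀ := le_antisymm hQQ₀ hQ₀Q
  rw [hQeq, hQ₀]
  exact hq₀

theorem birational_of_sandwich (hker : RingHom.ker (algebraMap A C) ≤ nilradical A)
    (hden : ∀ x : C, ∃ s ∈ S, ∃ y : A, s • x = algebraMap A C y)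
    (hSmin : ∀ q ∈ minimalPrimes A, ∀ s ∈ S, s ∉ q) :
    ∀ q ∈ minimalPrimes A, ∃ Q : Ideal C, Q.IsPrime ∧ Q.comap (algebraMap A C) = q ∧
      (∀ Q' : Ideal C, Q'.IsPrime → Q'.comap (algebraMap A C) = q → Q' = Q) ∧
      ∀ b : C, ∃ a s : A, s ∉ q ∧ algebraMap A C s * b - algebraMap A C a ∈ Q := by
  intro q hq
  haveI : q.IsPrime := hq.1.1
  obtain ⟨Q, hQp, hQ⟩ := exists_prime_over hker q
  have avoid : ∀ Q'' : Ideal C, Q''.comap (algebraMap A C) = q →
      ∀ s ∈ S, algebraMap A C s ∉ Q'' := by
    intro Q'' h s hs hmem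
    apply hSmin q hq s hs
    rw [← h]
    exact hmem
  refine ⟨Q, hQp, hQ, ?_, ?_⟩
  · intro Q' hQ' hQ'c
    haveI := hQ'
    haveI := hQp
    exact le_antisymm (le_of_comap_le S hden Q' Q (avoid Q hQ) (by rw [hQ'c, hQ]))
      (le_of_comap_le S hden Q Q' (avoid Q' hQ'c) (by rw [hQ'c, hQ]))
  · intro b
    obtain ⟨s, hs, y, hy⟩ := hden b
    refine ⟨y, s, hSmin q hq s hs, ?_⟩
    rw [← Algebra.smul_def, hy, sub_self]
    exact Q.zero_mem

theorem finite_minimalPrimes_of_sandwich (hker : RingHom.ker (algebraMap A C) ≤ nilradical A)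
    (htf : ∀ s ∈ S, ∀ x : C, s • x = 0 → x = 0)
    (hden : ∀ x : C, ∃ s ∈ S, ∃ y : A, s • x = algebraMap A C y)
    (hSmin : ∀ q ∈ minimalPrimes A, ∀ s ∈ S, s ∉ q) (hfin : (minimalPrimes A).Finite) :
    (minimalPrimes C).Finite := by
  refine Set.Finite.of_injOn (f := fun Q : Ideal C => Q.comap (algebraMap A C))
    (comap_mem_minimalPrimes S hker htf hden) ?_ hfin
  intro Q hQ Q' hQ' heq
  obtain ⟨Q₀, -, -, huniq, -⟩ := birational_of_sandwich S hker hden hSmin _
    (comap_mem_minimalPrimes S hker htf hden Q hQ)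
  rw [huniq Q hQ.1.1 rfl, huniq Q' hQ'.1.1 heq.symm]

end Sandwich

section FractionRing

/-- a subalgebra of the total ring of fractions has the same total ring of fractions -/
theorem isFractionRing_subalgebra (R K : Type u) [CommRing R] [CommRing K] [Algebra R K]
    [IsFractionRing R K] (C : Subalgebra R K) : IsFractionRing C K := by
  have hinjR : Function.Injective (algebraMap R K) := IsFractionRing.injective R K
  have hnzd : ∀ x : C, IsUnit (x : K) → x ∈ nonZeroDivisors C := by
    intro x hx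
    rw [mem_nonZeroDivisors_iff_right]
    intro y hy
    have h1 : (y : K) * (x : K) = 0 := by
      have := congrArg (fun z : C => (z : K)) hy
      simpa using this
    exact Subtype.ext ((hx.mul_left_eq_zero).mp h1)
  have hRunit : ∀ s : nonZeroDivisors R, IsUnit (algebraMap R K s) :=
    fun s => IsLocalization.map_units K s
  rw [IsFractionRing, isLocalization_iff]
  refine ⟨?_, ?_, ?_⟩
  · rintro ⟨c, hc⟩
    show IsUnit (c : K)
    obtain ⟨⟨a, s⟩, has⟩ := IsLocalization.surj (nonZeroDivisors R) (c : K)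
    have has' : (c : K) * algebraMap R K s = algebraMap R K a := has
    -- `a` is a nonzerodivisor of `R`
    have ha : a ∈ nonZeroDivisors R := by
      rw [mem_nonZeroDivisors_iff_right]
      intro r hr
      have hsC : algebraMap R C s ∈ nonZeroDivisors C := hnzd _ (hRunit s)
      have h2 : algebraMap R C r * (c * algebraMap R C s) = 0 := by
        apply Subtype.ext
        show algebraMap R K r * ((c : K) * algebraMap R K s) = 0
        rw [has', ← map_mul, hr, map_zero]
      rw [← mul_assoc] at h2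
      have h3 := (mem_nonZeroDivisors_iff_right.mp hsC) _ h2
      have h4 := (mem_nonZeroDivisors_iff_right.mp hc) _ h3
      have h5 : algebraMap R K r = 0 := congrArg (fun z : C => (z : K)) h4
      exact hinjR (h5.trans (map_zero _).symm)
    have hau : IsUnit (algebraMap R K a) := hRunit ⟨a, ha⟩
    rw [← has'] at hau
    exact isUnit_of_mul_isUnit_left hau
  · intro z
    obtain ⟨⟨a, s⟩, has⟩ := IsLocalization.surj (nonZeroDivisors R) z
    exact ⟨⟨algebraMap R C a, ⟨algebraMap R C s, hnzd _ (hRunit s)⟩⟩, has⟩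
  · intro x y hxy
    exact ⟨1, by rw [Subtype.ext hxy]⟩

end FractionRing

section Normal

theorem isPurelyInseparable_of_surjective {F E : Type u} [Field F] [Field E] (f : F →+* E)
    (hf : Function.Surjective f) : f.IsPurelyInseparable := by
  letI := f.toAlgebra
  show IsPurelyInseparable F E
  rw [isPurelyInseparable_iff]
  intro x
  obtain ⟨y, rfl⟩ := hf x
  exact ⟨isIntegral_algebraMap (R := F) (A := E) (x := y), fun _ => ⟨y, rfl⟩⟩

/-- a normal local domain is geometrically unibranch -/
theorem isGeomUnibranch_of_normal (R : Type u) [CommRing R] [IsLocalRing R] [IsDomain R]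
    [IsIntegrallyClosed R] : CAlg2.IsGeomUnibranch R := by
  haveI : IsLocalHom (algebraMap R R) := by
    rw [Algebra.algebraMap_self]
    infer_instance
  refine RadBiratH3.isGeomUnibranch_of_cover R R ?_ ?_
  · intro x hx
    rw [RingHom.mem_ker] at hx
    have : x = 0 := hx
    rw [this]
    exact zero_mem _
  · apply isPurelyInseparable_of_surjective
    intro x
    obtain ⟨r, rfl⟩ := IsLocalRing.residue_surjective x
    exact ⟨IsLocalRing.residue R r, IsLocalRing.ResidueField.map_residue _ r⟩

end Normal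

section NormRed

open MinPrimesSandwichH3

variable (A : Type u) [CommRing A]

theorem regSubmonoid_notMem_minimalPrimes :
    ∀ q ∈ minimalPrimes A, ∀ s ∈ regSubmonoid A, s ∉ q := by
  intro q hq s hs hsq
  have hq' : q ∈ (nilradical A).minimalPrimes := by
    have : (nilradical A) = (⊥ : Ideal A).radical := rfl
    rw [this, Ideal.radical_minimalPrimes]
    exact hq
  obtain ⟨y, hy, hsy⟩ := Ideal.exists_mul_mem_of_mem_minimalPrimes hq' hsq
  have h1 : Ideal.Quotient.mk (nilradical A) y * Ideal.Quotient.mk (nilradical A) s = 0 := by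
    rw [← map_mul, mul_comm, Ideal.Quotient.eq_zero_iff_mem]
    exact hsy
  have hs' : Ideal.Quotient.mk (nilradical A) s ∈ nonZeroDivisors (CAlg2.red A) := hs
  have h2 := (mem_nonZeroDivisors_iff_right.mp hs') _ h1
  exact hy (Ideal.Quotient.eq_zero_iff_mem.mp h2)

instance isIntegral_normRed : Algebra.IsIntegral A (CAlg2.normRed A) := by
  haveI : Algebra.IsIntegral (CAlg2.red A) (CAlg2.normRed A) := inferInstance
  haveI : Algebra.IsIntegral A (CAlg2.red A) := Algebra.IsIntegral.of_finite A (CAlg2.red A)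
  exact Algebra.IsIntegral.trans (R := A) (CAlg2.red A)

theorem normRed_h1 : ∀ Q ∈ minimalPrimes (CAlg2.normRed A),
    Q.comap (algebraMap A (CAlg2.normRed A)) ∈ minimalPrimes A :=
  comap_mem_minimalPrimes (regSubmonoid A) (ker_algebraMap_normRed_le A)
    (regSubmonoid_smul_eq_zero A) (exists_regSubmonoid_smul_eq A)

theorem normRed_h2 : ∀ q ∈ minimalPrimes A, ∃ Q : Ideal (CAlg2.normRed A), Q.IsPrime ∧
      Q.comap (algebraMap A (CAlg2.normRed A)) = q ∧
      (∀ Q' : Ideal (CAlg2.normRed A), Q'.IsPrime →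
        Q'.comap (algebraMap A (CAlg2.normRed A)) = q → Q' = Q) ∧
      ∀ b : CAlg2.normRed A, ∃ a s : A, s ∉ q ∧
        algebraMap A (CAlg2.normRed A) s * b - algebraMap A (CAlg2.normRed A) a ∈ Q :=
  birational_of_sandwich (regSubmonoid A) (ker_algebraMap_normRed_le A)
    (exists_regSubmonoid_smul_eq A) (regSubmonoid_notMem_minimalPrimes A)

theorem normRed_surj (q : Ideal A) (hq : q.IsPrime) :
    ∃ Q : Ideal (CAlg2.normRed A), Q.IsPrime ∧ Q.comap (algebraMap A (CAlg2.normRed A)) = q :=
  haveI := hq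
  exists_prime_over (ker_algebraMap_normRed_le A) q

theorem finite_minimalPrimes_normRed (hfin : (minimalPrimes A).Finite) :
    (minimalPrimes (CAlg2.normRed A)).Finite :=
  finite_minimalPrimes_of_sandwich (regSubmonoid A) (ker_algebraMap_normRed_le A)
    (regSubmonoid_smul_eq_zero A) (exists_regSubmonoid_smul_eq A)
    (regSubmonoid_notMem_minimalPrimes A) hfin

instance isReduced_red : IsReduced (CAlg2.red A) :=
  (Ideal.isRadical_iff_quotient_reduced _).mp (Ideal.radical_isRadical _)

instance isReduced_normRed : IsReduced (CAlg2.normRed A) :=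
  isReduced_of_injective (algebraMap (CAlg2.normRed A) (FractionRing (CAlg2.red A)))
    Subtype.val_injective

/-- the localisations of `normRed A` at primes are geometrically unibranch. -/
theorem isGeomUnibranch_localization_normRed (hfin : (minimalPrimes A).Finite)
    (P : Ideal (CAlg2.normRed A)) [P.IsPrime] :
    CAlg2.IsGeomUnibranch (Localization.AtPrime P) := by
  haveI hfr : IsFractionRing (CAlg2.normRed A) (FractionRing (CAlg2.red A)) :=
    isFractionRing_subalgebra (CAlg2.red A) (FractionRing (CAlg2.red A))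
      (integralClosure (CAlg2.red A) (FractionRing (CAlg2.red A)))
  have hic : IsIntegrallyClosed (CAlg2.normRed A) :=
    (isIntegrallyClosed_iff_isIntegrallyClosedIn (FractionRing (CAlg2.red A))).mpr inferInstance
  obtain ⟨hdom, hcl⟩ := NormalTotalFrac.normal_localization
    (finite_minimalPrimes_normRed A hfin) hic P
  haveI := hdom
  haveI := hcl
  exact isGeomUnibranch_of_normal _

end NormRed

end Groth.Agent.Lib.GUConsH3
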