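import Mathlib
import Groth.Prelude.Def_CAlg2
import Groth.Agent.Lib.RadBirat1_helper3

/-!
# Geometric unibranchness along integral birational homomorphisms, ring level (helper3)

APPEND-ONLY once landed.
-/

set_option autoImplicit false
set_option maxSynthPendingDepth 3
universe u

namespace Groth.Agent.Lib.RadBiratH3

open IsLocalRing

/-- factor a ring hom through an injective algebra map when its values lie in the range -/
theorem exists_lift_of_range {T R' K' : Type*} [CommRing T] [CommRing R'] [CommRing K']
    [Algebra R' K'] (hinj : Function.Injective (algebraMap R' K')) (f : T →+* K')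
    (h : ∀ t, f t ∈ (algebraMap R' K').range) :
    ∃ g : T →+* R', ∀ t, algebraMap R' K' (g t) = f t := by
  obtain ⟨e, he⟩ : ∃ e : R' ≃+* (algebraMap R' K').range,
      ∀ r, (e r : K') = algebraMap R' _ r :=
    ⟨RingEquiv.ofBijective (algebraMap R' K').rangeRestrict
      ⟨fun a b h => hinj (congrArg Subtype.val h),
        (algebraMap R' K').rangeRestrict_surjective⟩, fun r => rfl⟩
  refine ⟨(e.symm : _ →+* R').comp (RingHom.codRestrict f (algebraMap R' K').range h),
    fun t => ?_⟩
  rw [← he]
  simp only [RingHom.comp_apply, RingHom.coe_coe, RingEquiv.apply_symm_apply]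
  rfl

section Integral

variable {A B : Type u} [CommRing A] [CommRing B] [Algebra A B] [Algebra.IsIntegral A B]

/-- if `P` is the only prime over `p`, elements outside `P` divide elements outside `p` -/
theorem exists_mul_eq_algebraMap (p : Ideal A) [p.IsPrime] (P : Ideal B) [P.IsPrime]
    (huniq : ∀ P' : Ideal B, P'.IsPrime → P'.comap (algebraMap A B) = p → P' = P)
    (s : B) (hs : s ∉ P) : ∃ (b' : B) (a : A), a ∉ p ∧ s * b' = algebraMap A B a := by
  by_contra hcon
  push_neg at hcon
  have hdisj : Disjoint ((Ideal.span {s} : Ideal B) : Set B)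
      (Algebra.algebraMapSubmonoid B p.primeCompl) := by
    rw [Set.disjoint_left]
    intro x hx hx'
    obtain ⟨b', rfl⟩ := Ideal.mem_span_singleton'.mp hx
    obtain ⟨a, ha, hax⟩ := hx'
    exact hcon b' a ha (by rw [hax]; ring)
  obtain ⟨Q, hQprime, hle, hQdisj⟩ := Ideal.exists_le_prime_disjoint _ _ hdisj
  have hcomap : Q.comap (algebraMap A B) ≤ p := by
    intro a ha
    by_contra hap
    exact Set.disjoint_left.mp hQdisj ha ⟨a, hap, rfl⟩
  obtain ⟨Q', hQ'le, hQ'prime, hQ'⟩ :=
    Ideal.exists_ideal_over_prime_of_isIntegral_of_isPrime p Q hcomap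
  have h1 := huniq Q' hQ'prime hQ'
  exact hs (h1 ▸ hQ'le (hle (Ideal.mem_span_singleton_self s)))

/-- if `P` is the only prime over `p`, then `B_P` is integral over `A_p` -/
theorem isIntegral_of_unique (p : Ideal A) [p.IsPrime] (P : Ideal B) [P.IsPrime]
    (huniq : ∀ P' : Ideal B, P'.IsPrime → P'.comap (algebraMap A B) = p → P' = P)
    (R S : Type u) [CommRing R] [CommRing S] [Algebra A R] [Algebra B S] [Algebra R S]
    [Algebra A S] [IsScalarTower A B S] [IsScalarTower A R S] [IsLocalization.AtPrime R p]
    [IsLocalization.AtPrime S P] : Algebra.IsIntegral R S := by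
  constructor
  intro x
  obtain ⟨b, s, rfl⟩ := IsLocalization.exists_mk'_eq P.primeCompl x
  obtain ⟨b', a, ha, hsb⟩ := exists_mul_eq_algebraMap p P huniq s.1 s.2
  have hunit : IsUnit (algebraMap A R a) := IsLocalization.map_units R (⟨a, ha⟩ : p.primeCompl)
  obtain ⟨u, hu⟩ := hunit
  have h1 : algebraMap B S (s : B) * algebraMap B S b' = algebraMap R S (algebraMap A R a) := by
    rw [← map_mul, hsb, ← IsScalarTower.algebraMap_apply, ← IsScalarTower.algebraMap_apply]
  have h2 : algebraMap R S (u : R) * algebraMap R S ((u⁻¹ : Rˣ) : R) = 1 := by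
    rw [← map_mul, Units.mul_inv, map_one]
  have hx : IsLocalization.mk' S b s =
      algebraMap B S (b * b') * algebraMap R S ((u⁻¹ : Rˣ) : R) := by
    rw [IsLocalization.mk'_eq_iff_eq_mul, map_mul]
    calc algebraMap B S b = algebraMap B S b *
          (algebraMap R S (u : R) * algebraMap R S ((u⁻¹ : Rˣ) : R)) := by rw [h2, mul_one]
      _ = algebraMap B S b * algebraMap B S b' * algebraMap R S ((u⁻¹ : Rˣ) : R) *
          algebraMap B S (s : B) := by rw [hu, ← h1]; ring
  rw [hx]
  refine IsIntegral.mul ?_ isIntegral_algebraMap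
  have h3 : IsIntegral A (b * b') := Algebra.IsIntegral.isIntegral _
  have h4 : IsIntegral A (algebraMap B S (b * b')) := h3.algebraMap
  exact h4.tower_top

/-- **the easy direction**: if `Spec B → Spec A` is integral and surjective, `P` is the only prime
over `p`, the residue extension is radicial and `B_P` is geometrically unibranch, then so is
`A_p`. -/
theorem isGeomUnibranch_of_fibre
    (hsurj : ∀ q : Ideal A, q.IsPrime → ∃ Q : Ideal B, Q.IsPrime ∧ Q.comap (algebraMap A B) = q)
    (p : Ideal A) [p.IsPrime] (P : Ideal B) [P.IsPrime]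
    (huniq : ∀ P' : Ideal B, P'.IsPrime → P'.comap (algebraMap A B) = p → P' = P)
    (R S : Type u) [CommRing R] [CommRing S] [IsLocalRing R] [IsLocalRing S] [Algebra A R]
    [Algebra B S] [Algebra R S] [Algebra A S] [IsScalarTower A B S] [IsScalarTower A R S]
    [IsLocalization.AtPrime R p] [IsLocalization.AtPrime S P] [IsLocalHom (algebraMap R S)]
    (hrad : (ResidueField.map (algebraMap R S)).IsPurelyInseparable)
    (hS : CAlg2.IsGeomUnibranch S) : CAlg2.IsGeomUnibranch R := by
  obtain ⟨S', _, _, _, _, _, hint, hker, q, hq, hpi⟩ := GeomUniBH3.exists_cover S hS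
  haveI := hint
  haveI hRS : Algebra.IsIntegral R S := isIntegral_of_unique p P huniq R S
  letI : Algebra R S' := ((algebraMap S S').comp (algebraMap R S)).toAlgebra
  haveI : IsScalarTower R S S' := IsScalarTower.of_algebraMap_eq (fun _ => rfl)
  haveI : Algebra.IsIntegral R S' := Algebra.IsIntegral.trans (R := R) S
  haveI hloc1 : IsLocalHom (algebraMap S S') :=
    isLocalHom_of_isIntegral (hker.trans (nilradical_le_maximalIdeal S))
  haveI hloc2 : IsLocalHom (algebraMap R S') := by
    show IsLocalHom ((algebraMap S S').comp (algebraMap R S))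
    infer_instance
  refine isGeomUnibranch_of_cover R S' ?_ ?_
  · intro r hr
    rw [nilradical_eq_sInf, Ideal.mem_sInf]
    intro Qr hQr
    haveI : Qr.IsPrime := hQr
    have hqp : Qr.comap (algebraMap A R) ≤ p := by
      intro a ha
      by_contra hap
      have hu : IsUnit (algebraMap A R a) :=
        IsLocalization.map_units R (⟨a, hap⟩ : p.primeCompl)
      exact hQr.ne_top (Ideal.eq_top_of_isUnit_mem _ ha hu)
    obtain ⟨Q, hQprime, hQ⟩ := hsurj (Qr.comap (algebraMap A R)) (Ideal.comap_isPrime _ _)
    haveI := hQprime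
    obtain ⟨P'', hle, hP''prime, hP''⟩ :=
      Ideal.exists_ideal_over_prime_of_isIntegral_of_isPrime p Q (hQ ▸ hqp)
    have hQP : Q ≤ P := (huniq P'' hP''prime hP'') ▸ hle
    obtain ⟨a, t, rfl⟩ := IsLocalization.exists_mk'_eq p.primeCompl r
    rw [IsLocalization.mk'_mem_iff]
    show a ∈ Qr.comap (algebraMap A R)
    rw [← hQ]
    show algebraMap A B a ∈ Q
    have h0 : algebraMap R S' (algebraMap A R a) = 0 := by
      rw [RingHom.mem_ker] at hr
      rw [← IsLocalization.mk'_spec R a t, map_mul, hr, zero_mul]
    have h1 : algebraMap B S (algebraMap A B a) ∈ nilradical S := by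
      apply hker
      rw [RingHom.mem_ker, ← IsScalarTower.algebraMap_apply A B S,
        IsScalarTower.algebraMap_apply A R S]
      exact h0
    obtain ⟨n, hn⟩ := mem_nilradical.mp h1
    rw [← map_pow, IsLocalization.map_eq_zero_iff P.primeCompl S] at hn
    obtain ⟨m, hm⟩ := hn
    have hmQ : (m : B) ∉ Q := fun h => m.2 (hQP h)
    have h2 : (m : B) * algebraMap A B a ^ n ∈ Q := hm ▸ Q.zero_mem
    exact hQprime.mem_of_pow_mem n ((hQprime.mem_or_mem h2).resolve_left hmQ)
  · have h := RingHom.IsPurelyInseparable.comp hrad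
      (isPurelyInseparable_residue_of_pow (algebraMap S S') q hq hpi)
    rw [← ResidueField.map_comp] at h
    exact h

end Integral

end Groth.Agent.Lib.RadBiratH3
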