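import Mathlib
import Groth.Prelude.Def_CAlg2
import Groth.Agent.Lib.RadBirat2_helper3

/-!
# Geometric unibranchness along integral birational homomorphisms, ring level II (helper3)

APPEND-ONLY once landed.
-/

set_option autoImplicit false
set_option maxSynthPendingDepth 3
universe u

namespace Groth.Agent.Lib.RadBiratH3

open IsLocalRing

section Psi

variable {A B : Type u} [CommRing A] [CommRing B] [Algebra A B] [Algebra.IsIntegral A B]

/-- the retraction `B → R'` onto the normalisation of `A_p` -/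
theorem exists_psi
    (h1 : ∀ Q ∈ minimalPrimes B, Q.comap (algebraMap A B) ∈ minimalPrimes A)
    (h2 : ∀ q ∈ minimalPrimes A, ∃ Q : Ideal B, Q.IsPrime ∧ Q.comap (algebraMap A B) = q ∧
      (∀ Q' : Ideal B, Q'.IsPrime → Q'.comap (algebraMap A B) = q → Q' = Q) ∧
      ∀ b : B, ∃ a s : A, s ∉ q ∧ algebraMap A B s * b - algebraMap A B a ∈ Q)
    (p : Ideal A) [p.IsPrime] (R : Type u) [CommRing R] [Algebra A R]
    [IsLocalization.AtPrime R p]
    (R' : Type u) [CommRing R'] [IsDomain R'] [IsIntegrallyClosed R'] [Algebra R R']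
    (hker : RingHom.ker (algebraMap R R') ≤ nilradical R) :
    ∃ ψ : B →+* R', (∀ a, ψ (algebraMap A B a) = algebraMap R R' (algebraMap A R a)) ∧
      ∀ b, ψ b = 0 → ∀ Q : Ideal B, Q.IsPrime → Q.comap (algebraMap A B) ≤ p → b ∈ Q := by
  classical
  obtain ⟨γ, hγdef⟩ : ∃ γ : A →+* R', γ = (algebraMap R R').comp (algebraMap A R) := ⟨_, rfl⟩
  have hγ : ∀ a, γ a = algebraMap R R' (algebraMap A R a) := fun a => by rw [hγdef]; rfl
  obtain ⟨q₀, hq₀def⟩ : ∃ q₀ : Ideal A, q₀ = RingHom.ker γ := ⟨_, rfl⟩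
  haveI hq₀prime : q₀.IsPrime := hq₀def ▸ RingHom.ker_isPrime γ
  -- every prime inside `p` contains `q₀`
  have hstar : ∀ q : Ideal A, q.IsPrime → q ≤ p → q₀ ≤ q := by
    intro q hq hqp a ha
    rw [hq₀def, RingHom.mem_ker, hγ] at ha
    have h3 : algebraMap A R a ∈ nilradical R := hker ha
    obtain ⟨n, hn⟩ := mem_nilradical.mp h3
    rw [← map_pow, IsLocalization.map_eq_zero_iff p.primeCompl R] at hn
    obtain ⟨m, hm⟩ := hn
    have hmq : (m : A) ∉ q := fun h => m.2 (hqp h)
    have h4 : (m : A) * a ^ n ∈ q := hm ▸ q.zero_mem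
    exact hq.mem_of_pow_mem n ((hq.mem_or_mem h4).resolve_left hmq)
  have hq₀p : q₀ ≤ p := by
    intro a ha
    by_contra hap
    rw [hq₀def, RingHom.mem_ker, hγ] at ha
    have hu : IsUnit (algebraMap A R a) := IsLocalization.map_units R (⟨a, hap⟩ : p.primeCompl)
    exact (hu.map (algebraMap R R')).ne_zero ha
  have hq₀min : q₀ ∈ minimalPrimes A :=
    ⟨⟨hq₀prime, bot_le⟩, fun q hq hle => hstar q hq.1 (hle.trans hq₀p)⟩
  obtain ⟨Q₀, hQ₀prime, hQ₀, hQ₀uniq, hbir⟩ := h2 q₀ hq₀min
  haveI := hQ₀prime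
  -- every prime of `B` whose contraction lies in `p` contains `Q₀`
  have hdag : ∀ Q : Ideal B, Q.IsPrime → Q.comap (algebraMap A B) ≤ p → Q₀ ≤ Q := by
    intro Q hQ hQp
    haveI := hQ
    obtain ⟨Qm, hQm_min, hQm_le⟩ := Ideal.exists_minimalPrimes_le (bot_le : (⊥ : Ideal B) ≤ Q)
    have hc := h1 Qm hQm_min
    have hle1 : Qm.comap (algebraMap A B) ≤ p := (Ideal.comap_mono hQm_le).trans hQp
    have hle2 : q₀ ≤ Qm.comap (algebraMap A B) := hstar _ hc.1.1 hle1
    have hle3 : Qm.comap (algebraMap A B) ≤ q₀ := hc.2 ⟨hq₀prime, bot_le⟩ hle2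
    have heq : Qm = Q₀ := hQ₀uniq Qm hQm_min.1.1 (le_antisymm hle3 hle2)
    exact heq ▸ hQm_le
  -- the fraction field of `B ⧸ Q₀` is the fraction field of `A ⧸ q₀`
  obtain ⟨ibar, hibar⟩ : ∃ ibar : A ⧸ q₀ →+* B ⧸ Q₀,
      ∀ a, ibar (Ideal.Quotient.mk q₀ a) = Ideal.Quotient.mk Q₀ (algebraMap A B a) :=
    ⟨Ideal.quotientMap Q₀ (algebraMap A B) (le_of_eq hQ₀.symm), fun a => rfl⟩
  have hibar_inj : Function.Injective ibar := by
    rw [injective_iff_map_eq_zero]
    intro x hx
    obtain ⟨a, rfl⟩ := Ideal.Quotient.mk_surjective x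
    rw [hibar, Ideal.Quotient.eq_zero_iff_mem] at hx
    rw [Ideal.Quotient.eq_zero_iff_mem, ← hQ₀]
    exact hx
  obtain ⟨α, hαdef⟩ : ∃ α : A ⧸ q₀ →+* FractionRing (B ⧸ Q₀),
      α = (algebraMap (B ⧸ Q₀) (FractionRing (B ⧸ Q₀))).comp ibar := ⟨_, rfl⟩
  have hα : ∀ a, α (Ideal.Quotient.mk q₀ a) =
      algebraMap (B ⧸ Q₀) (FractionRing (B ⧸ Q₀)) (Ideal.Quotient.mk Q₀ (algebraMap A B a)) := by
    intro a
    rw [hαdef, RingHom.comp_apply, hibar]
  have hinjL : Function.Injective (algebraMap (B ⧸ Q₀) (FractionRing (B ⧸ Q₀))) :=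
    IsFractionRing.injective _ _
  have hα_inj : Function.Injective α := by
    rw [hαdef]
    exact hinjL.comp hibar_inj
  letI algDL : Algebra (A ⧸ q₀) (FractionRing (B ⧸ Q₀)) := α.toAlgebra
  haveI : FaithfulSMul (A ⧸ q₀) (FractionRing (B ⧸ Q₀)) :=
    (faithfulSMul_iff_algebraMap_injective _ _).mpr hα_inj
  -- each element of `B ⧸ Q₀` is a fraction
  have hfrac : ∀ b : B, ∃ a s : A, s ∉ q₀ ∧
      α (Ideal.Quotient.mk q₀ s) *
        algebraMap (B ⧸ Q₀) (FractionRing (B ⧸ Q₀)) (Ideal.Quotient.mk Q₀ b) =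
      α (Ideal.Quotient.mk q₀ a) := by
    intro b
    obtain ⟨a, s, hs, hmem⟩ := hbir b
    refine ⟨a, s, hs, ?_⟩
    rw [hα, hα, ← map_mul, ← map_mul]
    congr 1
    rw [← sub_eq_zero, ← map_sub, Ideal.Quotient.eq_zero_iff_mem]
    exact hmem
  have hαne : ∀ s : A, s ∉ q₀ → α (Ideal.Quotient.mk q₀ s) ≠ 0 := by
    intro s hs h0
    rw [← map_zero α] at h0
    have := hα_inj h0
    rw [Ideal.Quotient.eq_zero_iff_mem] at this
    exact hs this
  haveI hfr : IsFractionRing (A ⧸ q₀) (FractionRing (B ⧸ Q₀)) := by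
    refine IsFractionRing.of_field _ _ (fun z => ?_)
    obtain ⟨e, e', he', rfl⟩ := IsFractionRing.div_surjective (A := B ⧸ Q₀) z
    obtain ⟨b, rfl⟩ := Ideal.Quotient.mk_surjective e
    obtain ⟨b', rfl⟩ := Ideal.Quotient.mk_surjective e'
    obtain ⟨a, s, hs, h⟩ := hfrac b
    obtain ⟨a', s', hs', h'⟩ := hfrac b'
    have hb'ne : algebraMap (B ⧸ Q₀) (FractionRing (B ⧸ Q₀)) (Ideal.Quotient.mk Q₀ b') ≠ 0 := by
      intro h0
      rw [← map_zero (algebraMap (B ⧸ Q₀) (FractionRing (B ⧸ Q₀)))] at h0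
      exact (nonZeroDivisors.ne_zero he') (hinjL h0)
    have ha'ne : α (Ideal.Quotient.mk q₀ a') ≠ 0 := by
      rw [← h']
      exact mul_ne_zero (hαne s' hs') hb'ne
    refine ⟨Ideal.Quotient.mk q₀ a * Ideal.Quotient.mk q₀ s',
      Ideal.Quotient.mk q₀ s * Ideal.Quotient.mk q₀ a', ?_⟩
    show _ = α _ / α _
    rw [map_mul, map_mul, div_eq_div_iff hb'ne (mul_ne_zero (hαne s hs) ha'ne), ← h, ← h']
    ring
  -- the map to the fraction field of `R'`
  have hinjK : Function.Injective (algebraMap R' (FractionRing R')) :=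
    IsFractionRing.injective R' (FractionRing R')
  obtain ⟨β, hβ⟩ : ∃ β : A ⧸ q₀ →+* FractionRing R',
      Function.Injective β ∧ ∀ a, β (Ideal.Quotient.mk q₀ a) =
        algebraMap R' (FractionRing R') (γ a) := by
    have hker0 : ∀ a ∈ q₀, ((algebraMap R' (FractionRing R')).comp γ) a = 0 := by
      intro a ha
      rw [hq₀def, RingHom.mem_ker] at ha
      rw [RingHom.comp_apply, ha, map_zero]
    refine ⟨Ideal.Quotient.lift q₀ ((algebraMap R' (FractionRing R')).comp γ) hker0,
      RingHom.lift_injective_of_ker_le_ideal q₀ hker0 ?_, fun a => rfl⟩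
    intro a ha
    rw [RingHom.mem_ker, RingHom.comp_apply] at ha
    rw [hq₀def, RingHom.mem_ker]
    exact hinjK (by rw [ha, map_zero])
  obtain ⟨lft, hlft⟩ : ∃ lft : FractionRing (B ⧸ Q₀) →+* FractionRing R',
      ∀ d : A ⧸ q₀, lft (α d) = β d :=
    ⟨IsFractionRing.lift (A := A ⧸ q₀) (K := FractionRing (B ⧸ Q₀)) hβ.1,
      fun d => IsFractionRing.lift_algebraMap hβ.1 d⟩
  obtain ⟨ψ₀, hψ₀def⟩ : ∃ ψ₀ : B →+* FractionRing R',
      ψ₀ = lft.comp ((algebraMap (B ⧸ Q₀) (FractionRing (B ⧸ Q₀))).comp (Ideal.Quotient.mk Q₀)) :=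
    ⟨_, rfl⟩
  have hψ₀ : ∀ a, ψ₀ (algebraMap A B a) = algebraMap R' (FractionRing R') (γ a) := by
    intro a
    rw [hψ₀def, RingHom.comp_apply, RingHom.comp_apply, ← hα, hlft, hβ.2]
  have hrange : ∀ b, ψ₀ b ∈ (algebraMap R' (FractionRing R')).range := by
    intro b
    have hb : IsIntegral A b := Algebra.IsIntegral.isIntegral b
    have h2 : IsIntegral R' (ψ₀ b) := by
      refine IsIntegral.map_of_comp_eq γ ψ₀ ?_ hb
      ext a
      simp only [RingHom.comp_apply]
      exact (hψ₀ a).symm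
    exact IsIntegrallyClosed.isIntegral_iff.mp h2
  obtain ⟨ψ, hψ⟩ := exists_lift_of_range hinjK ψ₀ hrange
  refine ⟨ψ, fun a => ?_, fun b hb Q hQ hQp => ?_⟩
  · apply hinjK
    rw [hψ, hψ₀, hγ]
  · apply hdag Q hQ hQp
    have h0 : ψ₀ b = 0 := by rw [← hψ, hb, map_zero]
    rw [hψ₀def, RingHom.comp_apply, RingHom.comp_apply, map_eq_zero_iff _ lft.injective,
      map_eq_zero_iff _ hinjL, Ideal.Quotient.eq_zero_iff_mem] at h0
    exact h0

/-- every prime of `B` over `p` is the contraction of the maximal ideal of `R'` -/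
theorem eq_comap_of_psi (p : Ideal A) [p.IsPrime] (R : Type u) [CommRing R] [IsLocalRing R]
    [Algebra A R] [IsLocalization.AtPrime R p]
    (R' : Type u) [CommRing R'] [IsLocalRing R'] [Algebra R R'] [Algebra.IsIntegral R R']
    [IsLocalHom (algebraMap R R')] (ψ : B →+* R')
    (hψ : ∀ a, ψ (algebraMap A B a) = algebraMap R R' (algebraMap A R a))
    (hψker : ∀ b, ψ b = 0 → ∀ Q : Ideal B, Q.IsPrime → Q.comap (algebraMap A B) ≤ p → b ∈ Q)
    (P : Ideal B) [P.IsPrime] (hP : P.comap (algebraMap A B) = p) :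
    P = (maximalIdeal R').comap ψ := by
  classical
  -- the contraction of the maximal ideal lies over `p`
  have hover : ((maximalIdeal R').comap ψ).comap (algebraMap A B) = p := by
    ext a
    rw [Ideal.mem_comap, Ideal.mem_comap, hψ]
    rw [← IsLocalization.AtPrime.to_map_mem_maximal_iff R p a]
    constructor
    · intro h
      by_contra hnot
      have hu : IsUnit (algebraMap A R a) := by
        by_contra hnu
        exact hnot ((mem_maximalIdeal _).mpr hnu)
      exact ((mem_maximalIdeal _).mp h) (hu.map (algebraMap R R'))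
    · intro h
      exact (mem_maximalIdeal _).mpr (map_nonunit (algebraMap R R') _ h)
  -- `P ≤` it
  have hle : P ≤ (maximalIdeal R').comap ψ := by
    intro b hb
    rw [Ideal.mem_comap]
    by_contra hnm
    have hunit : IsUnit (ψ b) := by
      by_contra hnu
      exact hnm ((mem_maximalIdeal _).mpr hnu)
    obtain ⟨v, hv⟩ := hunit
    letI algAR' : Algebra A R' := ((algebraMap R R').comp (algebraMap A R)).toAlgebra
    haveI : IsScalarTower A R R' := IsScalarTower.of_algebraMap_eq (fun _ => rfl)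
    have hint : IsIntegral R ((v⁻¹ : R'ˣ) : R') := Algebra.IsIntegral.isIntegral _
    obtain ⟨m, hm⟩ := IsIntegral.exists_multiple_integral_of_isLocalization p.primeCompl
      ((v⁻¹ : R'ˣ) : R') hint
    letI algBR' : Algebra B R' := ψ.toAlgebra
    haveI : IsScalarTower A B R' := IsScalarTower.of_algebraMap_eq (fun a => (hψ a).symm)
    obtain ⟨w, hwdef⟩ : ∃ w : R', w = m • ((v⁻¹ : R'ˣ) : R') := ⟨_, rfl⟩
    rw [← hwdef] at hm
    have hw : w * ψ b = ψ (algebraMap A B m) := by
      rw [hwdef, Submonoid.smul_def, Algebra.smul_def, mul_assoc, ← hv, Units.inv_mul, mul_one,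
        hψ]
      rfl
    have hwB : IsIntegral B w := hm.tower_top
    haveI hB1 : Algebra.IsIntegral B (Algebra.adjoin B ({w} : Set R')) :=
      Algebra.IsIntegral.adjoin (fun x hx => by
        rw [Set.mem_singleton_iff] at hx
        exact hx ▸ hwB)
    have hkerle : (⊥ : Ideal (Algebra.adjoin B ({w} : Set R'))).comap
        (algebraMap B (Algebra.adjoin B ({w} : Set R'))) ≤ P := by
      intro b' hb'
      rw [Ideal.mem_comap, Ideal.mem_bot] at hb'
      have h0 : ψ b' = 0 := congrArg Subtype.val hb'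
      exact hψker b' h0 P inferInstance (le_of_eq hP)
    obtain ⟨P₁, -, hP₁prime, hP₁⟩ := Ideal.exists_ideal_over_prime_of_isIntegral P
      (⊥ : Ideal (Algebra.adjoin B ({w} : Set R'))) hkerle
    have hb1 : algebraMap B (Algebra.adjoin B ({w} : Set R')) b ∈ P₁ := by
      rw [← Ideal.mem_comap, hP₁]
      exact hb
    have hprod : (⟨w, Algebra.subset_adjoin (Set.mem_singleton w)⟩ :
        Algebra.adjoin B ({w} : Set R')) * algebraMap B (Algebra.adjoin B ({w} : Set R')) b =
        algebraMap B (Algebra.adjoin B ({w} : Set R')) (algebraMap A B m) :=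
      Subtype.ext hw
    have hm1 : algebraMap B (Algebra.adjoin B ({w} : Set R')) (algebraMap A B m) ∈ P₁ :=
      hprod ▸ P₁.mul_mem_left _ hb1
    have hm2 : algebraMap A B m ∈ P := by
      rw [← hP₁]
      exact hm1
    have hm3 : (m : A) ∈ P.comap (algebraMap A B) := hm2
    exact m.2 (hP ▸ hm3)
  -- incomparability
  by_contra hne
  have hlt : P < (maximalIdeal R').comap ψ := lt_of_le_of_ne hle hne
  obtain ⟨-, x, hx1, hx2⟩ := SetLike.lt_iff_le_and_exists.mp hlt
  have := Ideal.comap_lt_comap_of_integral_mem_sdiff (R := A) hle ⟨hx1, hx2⟩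
    (Algebra.IsIntegral.isIntegral x)
  rw [hP, hover] at this
  exact lt_irrefl _ this

end Psi

section Main

variable {A B : Type u} [CommRing A] [CommRing B] [Algebra A B] [Algebra.IsIntegral A B]

/-- **the hard direction**: along an integral birational homomorphism, over a geometrically
unibranch point there is only one point, the residue extension is radicial and the local ring
above is geometrically unibranch -/
theorem radicial_of_isGeomUnibranch
    (h1 : ∀ Q ∈ minimalPrimes B, Q.comap (algebraMap A B) ∈ minimalPrimes A)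
    (h2 : ∀ q ∈ minimalPrimes A, ∃ Q : Ideal B, Q.IsPrime ∧ Q.comap (algebraMap A B) = q ∧
      (∀ Q' : Ideal B, Q'.IsPrime → Q'.comap (algebraMap A B) = q → Q' = Q) ∧
      ∀ b : B, ∃ a s : A, s ∉ q ∧ algebraMap A B s * b - algebraMap A B a ∈ Q)
    (p : Ideal A) [p.IsPrime] (R : Type u) [CommRing R] [IsLocalRing R] [Algebra A R]
    [IsLocalization.AtPrime R p] (hR : CAlg2.IsGeomUnibranch R) :
    (∀ P P' : Ideal B, P.IsPrime → P'.IsPrime → P.comap (algebraMap A B) = p →
      P'.comap (algebraMap A B) = p → P = P') ∧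
    ∀ (P : Ideal B) [P.IsPrime], P.comap (algebraMap A B) = p →
      ∀ (S : Type u) [CommRing S] [IsLocalRing S] [Algebra B S] [Algebra R S] [Algebra A S]
        [IsScalarTower A B S] [IsScalarTower A R S] [IsLocalization.AtPrime S P]
        [IsLocalHom (algebraMap R S)],
      (ResidueField.map (algebraMap R S)).IsPurelyInseparable ∧ CAlg2.IsGeomUnibranch S := by
  obtain ⟨R', _, _, _, _, _, hint, hker, q, hq, hpi⟩ := GeomUniBH3.exists_cover R hR
  haveI := hint
  obtain ⟨ψ, hψ, hψker⟩ := exists_psi h1 h2 p R R' hker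
  haveI hlocRR' : IsLocalHom (algebraMap R R') :=
    isLocalHom_of_isIntegral (hker.trans (nilradical_le_maximalIdeal R))
  have hcomap : ∀ (P : Ideal B) [P.IsPrime], P.comap (algebraMap A B) = p →
      P = (maximalIdeal R').comap ψ :=
    fun P _ hP => eq_comap_of_psi p R R' ψ hψ hψker P hP
  refine ⟨fun P P' hP hP' h h' => ?_, ?_⟩
  · haveI := hP
    haveI := hP'
    rw [hcomap P h, ← hcomap P' h']
  intro P _ hP S _ _ _ _ _ _ _ _ _
  have hunits : ∀ s : P.primeCompl, IsUnit (ψ s) := by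
    intro s
    by_contra hnu
    have h3 : (s : B) ∈ (maximalIdeal R').comap ψ := (mem_maximalIdeal _).mpr hnu
    rw [← hcomap P hP] at h3
    exact s.2 h3
  obtain ⟨ψP, hψP⟩ : ∃ ψP : S →+* R', ∀ b, ψP (algebraMap B S b) = ψ b :=
    ⟨IsLocalization.lift hunits, IsLocalization.lift_eq hunits⟩
  letI algSR' : Algebra S R' := ψP.toAlgebra
  have hψP' : ∀ b, algebraMap S R' (algebraMap B S b) = ψ b := hψP
  have htower : algebraMap R R' = (algebraMap S R').comp (algebraMap R S) := by
    apply IsLocalization.ringHom_ext p.primeCompl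
    ext a
    simp only [RingHom.comp_apply]
    rw [← IsScalarTower.algebraMap_apply A R S, IsScalarTower.algebraMap_apply A B S, hψP', hψ]
  haveI : IsScalarTower R S R' := IsScalarTower.of_algebraMap_eq' htower
  haveI : Algebra.IsIntegral S R' := Algebra.IsIntegral.tower_top (R := R)
  have hkerS : RingHom.ker (algebraMap S R') ≤ nilradical S := by
    intro x hx
    rw [nilradical_eq_sInf, Ideal.mem_sInf]
    intro Qs hQs
    haveI : Qs.IsPrime := hQs
    obtain ⟨b, s, rfl⟩ := IsLocalization.exists_mk'_eq P.primeCompl x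
    rw [IsLocalization.mk'_mem_iff]
    have hb : ψ b = 0 := by
      rw [RingHom.mem_ker] at hx
      have h3 : algebraMap S R' (IsLocalization.mk' S b s) *
          algebraMap S R' (algebraMap B S s) = algebraMap S R' (algebraMap B S b) := by
        rw [← map_mul, IsLocalization.mk'_spec]
      rw [hx, zero_mul] at h3
      rw [← hψP']
      exact h3.symm
    have hle : (Qs.comap (algebraMap B S)).comap (algebraMap A B) ≤ p := by
      intro a ha
      by_contra hap
      have hu : IsUnit (algebraMap A R a) :=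
        IsLocalization.map_units R (⟨a, hap⟩ : p.primeCompl)
      have hu' : IsUnit (algebraMap B S (algebraMap A B a)) := by
        rw [← IsScalarTower.algebraMap_apply, IsScalarTower.algebraMap_apply A R S]
        exact hu.map _
      exact hQs.ne_top (Ideal.eq_top_of_isUnit_mem _ ha hu')
    exact hψker b hb _ (Ideal.comap_isPrime _ _) hle
  haveI : IsLocalHom (algebraMap S R') :=
    isLocalHom_of_isIntegral (hkerS.trans (nilradical_le_maximalIdeal S))
  have hcomp : ResidueField.map (algebraMap R R') =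
      (ResidueField.map (algebraMap S R')).comp (ResidueField.map (algebraMap R S)) := by
    apply RingHom.ext
    intro x
    obtain ⟨r, rfl⟩ := residue_surjective x
    simp only [RingHom.comp_apply, ResidueField.map_residue]
    rw [IsScalarTower.algebraMap_apply R S R']
  have hradR' := isPurelyInseparable_residue_of_pow (algebraMap R R') q hq hpi
  rw [hcomp] at hradR'
  exact ⟨isPurelyInseparable_of_comp_left hradR',
    isGeomUnibranch_of_cover S R' hkerS (isPurelyInseparable_of_comp_right hradR')⟩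

end Main

end Groth.Agent.Lib.RadBiratH3
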