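import Mathlib
import Groth.Prelude.Def_CAlg2
import Groth.Agent.Lib.GUCons1_helper3
import Groth.Agent.Lib.GUCons2_helper3
import Groth.Agent.Lib.RadBirat3_helper3
import Groth.Agent.Lib.UnramGU3_helper3

/-!
# Constructibility of the geometrically unibranch locus (helper3)

APPEND-ONLY once landed.
-/

set_option autoImplicit false
set_option maxSynthPendingDepth 3
universe u

open IsLocalRing AlgebraicGeometry Topology Set.Notation

namespace Groth.Agent.Lib.GUConsH3

section Pointwise

variable {A B : Type u} [CommRing A] [CommRing B] [Algebra A B] [Algebra.IsIntegral A B]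

/-- pointwise criterion along an integral birational cover with geometrically unibranch local
rings -/
theorem gu_iff_emb
    (h1 : ∀ Q ∈ minimalPrimes B, Q.comap (algebraMap A B) ∈ minimalPrimes A)
    (h2 : ∀ q ∈ minimalPrimes A, ∃ Q : Ideal B, Q.IsPrime ∧ Q.comap (algebraMap A B) = q ∧
      (∀ Q' : Ideal B, Q'.IsPrime → Q'.comap (algebraMap A B) = q → Q' = Q) ∧
      ∀ b : B, ∃ a s : A, s ∉ q ∧ algebraMap A B s * b - algebraMap A B a ∈ Q)
    (hsurj : ∀ q : Ideal A, q.IsPrime → ∃ Q : Ideal B, Q.IsPrime ∧ Q.comap (algebraMap A B) = q)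
    (hB : ∀ (P : Ideal B) [P.IsPrime], CAlg2.IsGeomUnibranch (Localization.AtPrime P))
    (p : Ideal A) [p.IsPrime] :
    CAlg2.IsGeomUnibranch (Localization.AtPrime p) ↔ Emb (B := B) p := by
  obtain ⟨P, hPprime, hPc⟩ := hsurj p inferInstance
  haveI := hPprime
  have hP : p = P.comap (algebraMap A B) := hPc.symm
  letI algRS : Algebra (Localization.AtPrime p) (Localization.AtPrime P) :=
    (Localization.localRingHom p P (algebraMap A B) hP).toAlgebra
  haveI tow2 : IsScalarTower A (Localization.AtPrime p) (Localization.AtPrime P) :=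
    IsScalarTower.of_algebraMap_eq (fun a => by
      show algebraMap A (Localization.AtPrime P) a =
        Localization.localRingHom p P (algebraMap A B) hP (algebraMap A _ a)
      rw [Localization.localRingHom_to_map]
      exact IsScalarTower.algebraMap_apply A B (Localization.AtPrime P) a)
  haveI hloc : IsLocalHom (algebraMap (Localization.AtPrime p) (Localization.AtPrime P)) :=
    inferInstanceAs (IsLocalHom (Localization.localRingHom p P (algebraMap A B) hP))
  have hmap : ResidueField.map (algebraMap (Localization.AtPrime p) (Localization.AtPrime P)) =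
      Ideal.ResidueField.map p P (algebraMap A B) hP := rfl
  constructor
  · intro hGU
    obtain ⟨huniq, hall⟩ := RadBiratH3.radicial_of_isGeomUnibranch h1 h2 p
      (Localization.AtPrime p) hGU
    obtain ⟨hpi, -⟩ := hall P hPc (Localization.AtPrime P)
    rw [hmap] at hpi
    exact emb_of_unique_of_isPurelyInseparable p P hP
      (fun P' hP' hc => huniq P' P hP' hPprime hc hPc) hpi
  · intro hemb
    have huniq : ∀ P' : Ideal B, P'.IsPrime → P'.comap (algebraMap A B) = p → P' = P := by
      intro P' hP' hc
      haveI := hP'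
      exact (eq_of_emb p hemb P P' hP hc.symm).symm
    have hpi := isPurelyInseparable_of_emb p hemb P hP
    rw [← hmap] at hpi
    exact RadBiratH3.isGeomUnibranch_of_fibre hsurj p P huniq (Localization.AtPrime p)
      (Localization.AtPrime P) hpi (hB P)

end Pointwise

section Ring

/-- **ring level**: for a Noetherian ring whose reduction has finite normalisation the set of
primes at which the ring is geometrically unibranch is constructible. -/
theorem isConstructible_setOf_isGeomUnibranch (A : Type u) [CommRing A] [IsNoetherianRing A]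
    (hfin : Module.Finite (CAlg2.red A) (CAlg2.normRed A)) :
    IsConstructible {p : PrimeSpectrum A |
      CAlg2.IsGeomUnibranch (Localization.AtPrime p.asIdeal)} := by
  haveI := hfin
  haveI : Module.Finite A (CAlg2.red A) := inferInstance
  haveI : Module.Finite A (CAlg2.normRed A) := Module.Finite.trans (CAlg2.red A) _
  have hminfin : (minimalPrimes A).Finite := minimalPrimes.finite_of_isNoetherianRing A
  have hE := isConstructible_setOf_emb (A := A) (B := CAlg2.normRed A)
  convert hE using 1
  ext p
  exact gu_iff_emb (normRed_h1 A) (normRed_h2 A) (normRed_surj A)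
    (fun P _ => isGeomUnibranch_localization_normRed A hminfin P) p.asIdeal

end Ring

section Scheme

theorem main4826 (X : Scheme.{u}) [IsLocallyNoetherian X]
    (hfin : ∀ U : X.affineOpens,
      Module.Finite (CAlg2.red Γ(X, U.1)) (CAlg2.normRed Γ(X, U.1))) :
    IsLocallyConstructible {x : X | CAlg2.IsGeomUnibranch (X.presheaf.stalk x)} := by
  intro x
  obtain ⟨U, hU, hxU, -⟩ := exists_isAffineOpen_mem_and_subset (X := X) (x := x) (U := ⊤) trivial
  refine ⟨U, U.isOpen.mem_nhds hxU, U.isOpen, ?_⟩
  haveI : IsNoetherianRing Γ(X, U) := IsLocallyNoetherian.component_noetherian ⟨U, hU⟩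
  have hT := isConstructible_setOf_isGeomUnibranch Γ(X, U) (hfin ⟨U, hU⟩)
  let h : ↥U ≃ₜ PrimeSpectrum Γ(X, U) := Scheme.homeoOfIso hU.isoSpec
  have hpre := hT.preimage_of_isOpenEmbedding h.isOpenEmbedding
  have hset : ((U : Set X) ↓∩ {x : X | CAlg2.IsGeomUnibranch (X.presheaf.stalk x)}) =
      h ⁻¹' {p : PrimeSpectrum Γ(X, U) |
        CAlg2.IsGeomUnibranch (Localization.AtPrime p.asIdeal)} := by
    ext ⟨y, hy⟩
    simp only [Set.mem_preimage, Set.mem_setOf_eq]
    have hh : h ⟨y, hy⟩ = hU.primeIdealOf ⟨y, hy⟩ := rfl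
    rw [hh]
    letI := X.presheaf.algebra_section_stalk ⟨y, hy⟩
    haveI := hU.isLocalization_stalk ⟨y, hy⟩
    let e : Localization.AtPrime (hU.primeIdealOf ⟨y, hy⟩).asIdeal ≃+* X.presheaf.stalk y :=
      (IsLocalization.algEquiv (hU.primeIdealOf ⟨y, hy⟩).asIdeal.primeCompl _ _).toRingEquiv
    exact ⟨fun hGU => UnramGUH3.isGeomUnibranch_of_ringEquiv e.symm hGU,
      fun hGU => UnramGUH3.isGeomUnibranch_of_ringEquiv e hGU⟩
  rw [hset]
  exact hpre

end Scheme

end Groth.Agent.Lib.GUConsH3
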