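import Mathlib
import Groth.Prelude.Def_AlphaPn
import Groth.Prelude.Def_SekSuwa

set_option autoImplicit false
set_option maxHeartbeats 1000000

universe u

open TensorProduct

namespace Groth.Agent.Lib.GaDualLiftH1

section
variable (p : ℕ) [Fact p.Prime] (A : Type u) [CommRing A] [CharP A p] (n : ℕ)

/-- `Δ(y^m)` for a primitive element `y` of a commutative bialgebra. -/
lemma comul_pow_primitive {H : Type u} [CommRing H] [Bialgebra A H] (y : H)
    (hy : Coalgebra.comul (R := A) y = y ⊗ₜ[A] 1 + 1 ⊗ₜ[A] y) (m : ℕ) :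
    Coalgebra.comul (R := A) (y ^ m)
      = ∑ l ∈ Finset.range (m + 1), (m.choose l) • ((y ^ l) ⊗ₜ[A] (y ^ (m - l))) := by
  rw [Bialgebra.comul_pow, hy, add_pow]
  refine Finset.sum_congr rfl fun l _ => ?_
  rw [Algebra.TensorProduct.tmul_pow, Algebra.TensorProduct.tmul_pow, one_pow, one_pow,
    Algebra.TensorProduct.tmul_mul_tmul, mul_one, one_mul, mul_comm, ← nsmul_eq_mul]

theorem main16478 (hn : 1 ≤ n) (φ : SekSuwa.A A 0 →ₐc[A] AlphaPn.A p n A)
    (hφ : φ SekSuwa.A.t = AlphaPn.x p n A)
    (u : AlphaPn.A p n A) (hu : IsGroupLikeElem A u) :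
    ∃ g : SekSuwa.A A 0, IsGroupLikeElem A g ∧ φ g = u := by
  rcases subsingleton_or_nontrivial A with hA | hA
  · haveI : Subsingleton (SekSuwa.A A 0) := Module.subsingleton A _
    haveI : Subsingleton (AlphaPn.A p n A) := Module.subsingleton A _
    haveI : Subsingleton (SekSuwa.A A 0 ⊗[A] SekSuwa.A A 0) := Module.subsingleton A _
    exact ⟨1, ⟨Subsingleton.elim _ _, Subsingleton.elim _ _⟩, Subsingleton.elim _ _⟩
  · let b := AlphaPn.basis p n A
    let t : SekSuwa.A A 0 := SekSuwa.A.t
    let x : AlphaPn.A p n A := AlphaPn.x p n A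
    let s : AlphaPn.A p n A →ₗ[A] SekSuwa.A A 0 := b.constr A (fun i : Fin (p ^ n) => t ^ (i : ℕ))
    have hs : ∀ l, l < p ^ n → s (x ^ l) = t ^ l := by
      intro l hl
      have := b.constr_basis A (fun i : Fin (p ^ n) => t ^ (i : ℕ)) ⟨l, hl⟩
      rwa [AlphaPn.basis_apply] at this
    have ht : Coalgebra.comul (R := A) t = t ⊗ₜ[A] 1 + 1 ⊗ₜ[A] t := by
      have := SekSuwa.A.comul_t (R := A) (lam := 0)
      rw [zero_smul, add_zero] at this
      exact this
    have hx : Coalgebra.comul (R := A) x = x ⊗ₜ[A] 1 + 1 ⊗ₜ[A] x := AlphaPn.comul_x p n A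
    -- φ ∘ s = id
    have h1 : (φ : SekSuwa.A A 0 →ₗ[A] AlphaPn.A p n A) ∘ₗ s = LinearMap.id := by
      apply b.ext
      intro i
      rw [AlphaPn.basis_apply, LinearMap.comp_apply, hs _ i.2, LinearMap.id_apply]
      show φ (t ^ (i : ℕ)) = _
      rw [map_pow, hφ]
    -- comultiplication compatibility
    have h2 : (Coalgebra.comul (R := A) : SekSuwa.A A 0 →ₗ[A] _) ∘ₗ s
        = (TensorProduct.map s s) ∘ₗ (Coalgebra.comul (R := A) : AlphaPn.A p n A →ₗ[A] _) := by
      apply b.ext
      intro i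
      rw [AlphaPn.basis_apply, LinearMap.comp_apply, LinearMap.comp_apply, hs _ i.2,
        comul_pow_primitive A t ht, comul_pow_primitive A x hx, map_sum]
      refine Finset.sum_congr rfl fun l hl => ?_
      rw [Finset.mem_range] at hl
      rw [map_nsmul, TensorProduct.map_tmul, hs l (by have := i.2; omega),
        hs ((i : ℕ) - l) (by have := i.2; omega)]
    have h3 : (Coalgebra.counit (R := A) : SekSuwa.A A 0 →ₗ[A] A) ∘ₗ s
        = (Coalgebra.counit (R := A) : AlphaPn.A p n A →ₗ[A] A) := by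
      apply b.ext
      intro i
      rw [AlphaPn.basis_apply, LinearMap.comp_apply, hs _ i.2, Bialgebra.counit_pow,
        Bialgebra.counit_pow, SekSuwa.A.counit_t]
      have : Coalgebra.counit (R := A) (AlphaPn.x p n A) = 0 := AlphaPn.counit_x p n A
      rw [this]
    refine ⟨s u, ⟨?_, ?_⟩, ?_⟩
    · have := LinearMap.congr_fun h3 u
      rw [LinearMap.comp_apply] at this
      rw [this]
      exact hu.counit_eq_one
    · have := LinearMap.congr_fun h2 u
      rw [LinearMap.comp_apply, LinearMap.comp_apply, hu.comul_eq_tmul_self,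
        TensorProduct.map_tmul] at this
      exact this
    · have := LinearMap.congr_fun h1 u
      rw [LinearMap.comp_apply, LinearMap.id_apply] at this
      exact this

end

end Groth.Agent.Lib.GaDualLiftH1
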