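import Mathlib

set_option autoImplicit false
open MvPolynomial

namespace Groth.Agent.LazardP

variable {R : Type*} [CommRing R]

/-- exponent vector `(i,j)` -/
noncomputable def m2 (i j : ℕ) : Fin 2 →₀ ℕ := Finsupp.single 0 i + Finsupp.single 1 j

/-- exponent vector `(i,j,k)` -/
noncomputable def m3 (i j k : ℕ) : Fin 3 →₀ ℕ :=
  Finsupp.single 0 i + Finsupp.single 1 j + Finsupp.single 2 k

@[simp] lemma m2_zero (i j : ℕ) : m2 i j 0 = i := by simp [m2]
@[simp] lemma m2_one (i j : ℕ) : m2 i j 1 = j := by simp [m2]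
@[simp] lemma m3_zero (i j k : ℕ) : m3 i j k 0 = i := by simp [m3]
@[simp] lemma m3_one (i j k : ℕ) : m3 i j k 1 = j := by simp [m3]
@[simp] lemma m3_two (i j k : ℕ) : m3 i j k 2 = k := by simp [m3]

lemma eq_m2 (m : Fin 2 →₀ ℕ) : m = m2 (m 0) (m 1) := by
  ext a; fin_cases a <;> simp

lemma eq_m3 (m : Fin 3 →₀ ℕ) : m = m3 (m 0) (m 1) (m 2) := by
  ext a; fin_cases a <;> simp

lemma m2_inj {i j i' j' : ℕ} : m2 i j = m2 i' j' ↔ i = i' ∧ j = j' := by
  constructor
  · intro h
    have h0 := DFunLike.congr_fun h 0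
    have h1 := DFunLike.congr_fun h 1
    simp at h0 h1
    exact ⟨h0, h1⟩
  · rintro ⟨rfl, rfl⟩; rfl

lemma m3_inj {i j k i' j' k' : ℕ} : m3 i j k = m3 i' j' k' ↔ i = i' ∧ j = j' ∧ k = k' := by
  constructor
  · intro h
    have h0 := DFunLike.congr_fun h 0
    have h1 := DFunLike.congr_fun h 1
    have h2 := DFunLike.congr_fun h 2
    simp at h0 h1 h2
    exact ⟨h0, h1, h2⟩
  · rintro ⟨rfl, rfl, rfl⟩; rfl

lemma monomial_m2 (i j : ℕ) (c : R) :
    monomial (m2 i j) c = C c * X 0 ^ i * X 1 ^ j := by
  rw [m2, monomial_eq]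
  simp [Finsupp.prod_add_index', pow_add, mul_assoc]

lemma monomial_m3 (i j k : ℕ) (c : R) :
    monomial (m3 i j k) c = C c * X 0 ^ i * X 1 ^ j * X 2 ^ k := by
  rw [m3, monomial_eq]
  simp [Finsupp.prod_add_index', pow_add, mul_assoc]

/-- the four face maps -/
noncomputable def d0 : MvPolynomial (Fin 2) R →ₐ[R] MvPolynomial (Fin 3) R :=
  aeval ![X 1, X 2]
noncomputable def d1 : MvPolynomial (Fin 2) R →ₐ[R] MvPolynomial (Fin 3) R :=
  aeval ![X 0 + X 1, X 2]
noncomputable def d2 : MvPolynomial (Fin 2) R →ₐ[R] MvPolynomial (Fin 3) R :=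
  aeval ![X 0, X 1 + X 2]
noncomputable def d3 : MvPolynomial (Fin 2) R →ₐ[R] MvPolynomial (Fin 3) R :=
  aeval ![X 0, X 1]

lemma d0_monomial (a b : ℕ) (c : R) :
    d0 (monomial (m2 a b) c) = monomial (m3 0 a b) c := by
  rw [monomial_m2, monomial_m3]; simp [d0]

lemma d3_monomial (a b : ℕ) (c : R) :
    d3 (monomial (m2 a b) c) = monomial (m3 a b 0) c := by
  rw [monomial_m2, monomial_m3]; simp [d3]

lemma d2_monomial (a b : ℕ) (c : R) :
    d2 (monomial (m2 a b) c) =
      ∑ l ∈ Finset.range (b + 1), monomial (m3 a l (b - l)) (c * (b.choose l : R)) := by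
  rw [monomial_m2]
  simp only [d2, map_mul, map_pow, aeval_X, aeval_C, Matrix.cons_val_zero, Matrix.cons_val_one,
    algebraMap_eq]
  rw [add_pow, Finset.mul_sum]
  refine Finset.sum_congr rfl fun l _ => ?_
  rw [monomial_m3, C_mul, ← C_eq_coe_nat]
  ring

lemma d1_monomial (a b : ℕ) (c : R) :
    d1 (monomial (m2 a b) c) =
      ∑ l ∈ Finset.range (a + 1), monomial (m3 l (a - l) b) (c * (a.choose l : R)) := by
  rw [monomial_m2]
  simp only [d1, map_mul, map_pow, aeval_X, aeval_C, Matrix.cons_val_zero, Matrix.cons_val_one,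
    algebraMap_eq]
  rw [add_pow, Finset.mul_sum, Finset.sum_mul]
  refine Finset.sum_congr rfl fun l _ => ?_
  rw [monomial_m3, C_mul, ← C_eq_coe_nat]
  ring

lemma coeff_d0 (F : MvPolynomial (Fin 2) R) (i j k : ℕ) :
    coeff (m3 i j k) (d0 F) = if i = 0 then coeff (m2 j k) F else 0 := by
  classical
  induction F using MvPolynomial.induction_on' with
  | monomial u c =>
    rw [eq_m2 u, d0_monomial, coeff_monomial, coeff_monomial]
    simp only [m3_inj, m2_inj]
    by_cases hi : i = 0
    · subst hi; simp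
    · rw [if_neg hi, if_neg]; rintro ⟨h, -⟩; exact hi h.symm
  | add p q hp hq =>
    rw [map_add, coeff_add, hp, hq, coeff_add]; split_ifs <;> simp

lemma coeff_d3 (F : MvPolynomial (Fin 2) R) (i j k : ℕ) :
    coeff (m3 i j k) (d3 F) = if k = 0 then coeff (m2 i j) F else 0 := by
  classical
  induction F using MvPolynomial.induction_on' with
  | monomial u c =>
    rw [eq_m2 u, d3_monomial, coeff_monomial, coeff_monomial]
    simp only [m3_inj, m2_inj]
    by_cases hk : k = 0
    · subst hk; simp
    · rw [if_neg hk, if_neg]; rintro ⟨-, -, h⟩; exact hk h.symm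
  | add p q hp hq =>
    rw [map_add, coeff_add, hp, hq, coeff_add]; split_ifs <;> simp

lemma coeff_d2 (F : MvPolynomial (Fin 2) R) (i j k : ℕ) :
    coeff (m3 i j k) (d2 F) = ((j + k).choose j : R) * coeff (m2 i (j + k)) F := by
  classical
  induction F using MvPolynomial.induction_on' with
  | monomial u c =>
    rw [eq_m2 u, d2_monomial, coeff_sum, coeff_monomial]
    simp only [coeff_monomial, m3_inj, m2_inj]
    by_cases h : u 0 = i ∧ u 1 = j + k
    · obtain ⟨h0, h1⟩ := h
      rw [if_pos ⟨h0, h1⟩, Finset.sum_eq_single j]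
      · rw [if_pos ⟨h0, rfl, by omega⟩, h1]; ring
      · intro l _ hl; rw [if_neg]; rintro ⟨-, h, -⟩; exact hl h
      · intro hj; exfalso; apply hj; rw [Finset.mem_range]; omega
    · rw [if_neg h, mul_zero]
      refine Finset.sum_eq_zero fun l hl => ?_
      rw [Finset.mem_range] at hl
      rw [if_neg]; rintro ⟨h0, h1, h2⟩; apply h; exact ⟨h0, by omega⟩
  | add p q hp hq =>
    rw [map_add, coeff_add, hp, hq, coeff_add]; ring

lemma coeff_d1 (F : MvPolynomial (Fin 2) R) (i j k : ℕ) :
    coeff (m3 i j k) (d1 F) = ((i + j).choose i : R) * coeff (m2 (i + j) k) F := by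
  classical
  induction F using MvPolynomial.induction_on' with
  | monomial u c =>
    rw [eq_m2 u, d1_monomial, coeff_sum, coeff_monomial]
    simp only [coeff_monomial, m3_inj, m2_inj]
    by_cases h : u 0 = i + j ∧ u 1 = k
    · obtain ⟨h0, h1⟩ := h
      rw [if_pos ⟨h0, h1⟩, Finset.sum_eq_single i]
      · rw [if_pos ⟨rfl, by omega, h1⟩, h0]; ring
      · intro l _ hl; rw [if_neg]; rintro ⟨h, -, -⟩; exact hl h
      · intro hj; exfalso; apply hj; rw [Finset.mem_range]; omega
    · rw [if_neg h, mul_zero]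
      refine Finset.sum_eq_zero fun l hl => ?_
      rw [Finset.mem_range] at hl
      rw [if_neg]; rintro ⟨h0, h1, h2⟩; apply h; exact ⟨by omega, h2⟩
  | add p q hp hq =>
    rw [map_add, coeff_add, hp, hq, coeff_add]; ring

/-- the coefficient `a i j` of `X^i Y^j` -/
noncomputable def co (F : MvPolynomial (Fin 2) R) (i j : ℕ) : R := coeff (m2 i j) F

/-- additive cocycle expression -/
noncomputable def cocyc (F : MvPolynomial (Fin 2) R) : MvPolynomial (Fin 3) R :=
  d2 F + d0 F - d1 F - d3 F

lemma coeff_cocyc (F : MvPolynomial (Fin 2) R) (i j k : ℕ) :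
    coeff (m3 i j k) (cocyc F) =
      ((j + k).choose j : R) * co F i (j + k) + (if i = 0 then co F j k else 0)
        - ((i + j).choose i : R) * co F (i + j) k - (if k = 0 then co F i j else 0) := by
  rw [cocyc, coeff_sub, coeff_sub, coeff_add, coeff_d0, coeff_d1, coeff_d2, coeff_d3]
  rfl

lemma cocyc_eq_zero_iff (F : MvPolynomial (Fin 2) R) :
    cocyc F = 0 ↔ ∀ i j k : ℕ,
      ((j + k).choose j : R) * co F i (j + k) + (if i = 0 then co F j k else 0)
        = ((i + j).choose i : R) * co F (i + j) k + (if k = 0 then co F i j else 0) := by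
  constructor
  · intro h i j k
    have := coeff_cocyc F i j k
    rw [h, coeff_zero] at this
    linear_combination -this
  · intro h
    ext m
    rw [eq_m3 m, coeff_cocyc, coeff_zero]
    linear_combination h (m 0) (m 1) (m 2)

/-- the swap -/
noncomputable def sw : MvPolynomial (Fin 2) R →ₐ[R] MvPolynomial (Fin 2) R :=
  aeval ![X 1, X 0]

lemma sw_monomial (a b : ℕ) (c : R) : sw (monomial (m2 a b) c) = monomial (m2 b a) c := by
  rw [monomial_m2, monomial_m2]; simp [sw]; ring

lemma coeff_sw (F : MvPolynomial (Fin 2) R) (i j : ℕ) :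
    coeff (m2 i j) (sw F) = coeff (m2 j i) F := by
  classical
  induction F using MvPolynomial.induction_on' with
  | monomial u c =>
    rw [eq_m2 u, sw_monomial, coeff_monomial, coeff_monomial]
    simp only [m2_inj]
    by_cases h : u 1 = i ∧ u 0 = j
    · rw [if_pos h, if_pos ⟨h.2, h.1⟩]
    · rw [if_neg h, if_neg]; rintro ⟨h0, h1⟩; exact h ⟨h1, h0⟩
  | add p q hp hq =>
    rw [map_add, coeff_add, hp, hq, coeff_add]

lemma sw_eq_iff (F : MvPolynomial (Fin 2) R) : sw F = F ↔ ∀ i j, co F i j = co F j i := by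
  constructor
  · intro h i j
    have := coeff_sw F i j
    rw [h] at this
    exact this
  · intro h
    ext m
    rw [eq_m2 m, coeff_sw]
    exact h _ _

lemma co_add (F G : MvPolynomial (Fin 2) R) (i j : ℕ) : co (F + G) i j = co F i j + co G i j := by
  simp [co]

lemma co_sub (F G : MvPolynomial (Fin 2) R) (i j : ℕ) : co (F - G) i j = co F i j - co G i j := by
  simp [co]

lemma co_sum {ι : Type*} (s : Finset ι) (f : ι → MvPolynomial (Fin 2) R) (i j : ℕ) :
    co (∑ x ∈ s, f x) i j = ∑ x ∈ s, co (f x) i j := by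
  simp [co, coeff_sum]

lemma co_C_mul (c : R) (F : MvPolynomial (Fin 2) R) (i j : ℕ) : co (C c * F) i j = c * co F i j := by
  simp [co]

lemma co_monomial (a b : ℕ) (c : R) (i j : ℕ) :
    co (monomial (m2 a b) c) i j = if a = i ∧ b = j then c else 0 := by
  classical
  rw [co, coeff_monomial]
  simp only [m2_inj]

lemma add_pow_eq (d : ℕ) : ((X 0 + X 1 : MvPolynomial (Fin 2) R)) ^ d =
    ∑ l ∈ Finset.range (d + 1), monomial (m2 l (d - l)) ((d.choose l : ℕ) : R) := by
  rw [add_pow]
  refine Finset.sum_congr rfl fun l _ => ?_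
  rw [monomial_m2, ← C_eq_coe_nat]
  ring

lemma co_add_pow (d i j : ℕ) : co (((X 0 + X 1 : MvPolynomial (Fin 2) R)) ^ d) i j =
    if i + j = d then ((d.choose i : ℕ) : R) else 0 := by
  classical
  rw [add_pow_eq, co_sum]
  simp only [co_monomial]
  by_cases h : i + j = d
  · rw [if_pos h, Finset.sum_eq_single i]
    · rw [if_pos ⟨rfl, by omega⟩]
    · intro l _ hl; rw [if_neg]; rintro ⟨h1, -⟩; exact hl h1
    · intro hi; exfalso; apply hi; rw [Finset.mem_range]; omega
  · rw [if_neg h]
    refine Finset.sum_eq_zero fun l hl => ?_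
    rw [Finset.mem_range] at hl
    rw [if_neg]; rintro ⟨h1, h2⟩; apply h; omega

lemma co_X0_pow (d i j : ℕ) : co ((X 0 : MvPolynomial (Fin 2) R) ^ d) i j =
    if i = d ∧ j = 0 then 1 else 0 := by
  have : (X 0 : MvPolynomial (Fin 2) R) ^ d = monomial (m2 d 0) 1 := by
    rw [monomial_m2]; simp
  rw [this, co_monomial]
  by_cases h : i = d ∧ j = 0
  · rw [if_pos h, if_pos ⟨h.1.symm, h.2.symm⟩]
  · rw [if_neg h, if_neg]; rintro ⟨h1, h2⟩; exact h ⟨h1.symm, h2.symm⟩

lemma co_X1_pow (d i j : ℕ) : co ((X 1 : MvPolynomial (Fin 2) R) ^ d) i j =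
    if i = 0 ∧ j = d then 1 else 0 := by
  have : (X 1 : MvPolynomial (Fin 2) R) ^ d = monomial (m2 0 d) 1 := by
    rw [monomial_m2]; simp
  rw [this, co_monomial]
  by_cases h : i = 0 ∧ j = d
  · rw [if_pos h, if_pos ⟨h.1.symm, h.2.symm⟩]
  · rw [if_neg h, if_neg]; rintro ⟨h1, h2⟩; exact h ⟨h1.symm, h2.symm⟩

/-- additive coboundary of a one-variable polynomial -/
noncomputable def delta (G : Polynomial R) : MvPolynomial (Fin 2) R :=
  Polynomial.aeval (X 0 + X 1 : MvPolynomial (Fin 2) R) G
    - Polynomial.aeval (X 0 : MvPolynomial (Fin 2) R) G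
    - Polynomial.aeval (X 1 : MvPolynomial (Fin 2) R) G

lemma co_aeval (G : Polynomial R) (x : MvPolynomial (Fin 2) R) (i j : ℕ) :
    co (Polynomial.aeval x G) i j = ∑ d ∈ Finset.range (G.natDegree + 1), G.coeff d * co (x ^ d) i j := by
  rw [Polynomial.aeval_eq_sum_range, co_sum]
  refine Finset.sum_congr rfl fun d _ => ?_
  rw [smul_eq_C_mul, co_C_mul]

lemma co_delta (G : Polynomial R) (i j : ℕ) :
    co (delta G) i j = ((((i + j).choose i : ℕ) : R)) * G.coeff (i + j)
      - (if j = 0 then G.coeff i else 0) - (if i = 0 then G.coeff j else 0) := by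
  classical
  rw [delta, co_sub, co_sub, co_aeval, co_aeval, co_aeval]
  simp only [co_add_pow, co_X0_pow, co_X1_pow]
  have h1 : ∑ d ∈ Finset.range (G.natDegree + 1),
      G.coeff d * (if i + j = d then ((d.choose i : ℕ) : R) else 0)
      = ((((i + j).choose i : ℕ) : R)) * G.coeff (i + j) := by
    by_cases h : i + j ∈ Finset.range (G.natDegree + 1)
    · rw [Finset.sum_eq_single_of_mem (i + j) h]
      · rw [if_pos rfl]; ring
      · intro d _ hd; rw [if_neg (fun h' => hd h'.symm), mul_zero]
    · rw [Finset.sum_eq_zero, Polynomial.coeff_eq_zero_of_natDegree_lt, mul_zero]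
      · rw [Finset.mem_range] at h; omega
      · intro d hd; rw [if_neg, mul_zero]; rintro rfl; exact h hd
  have h2 : ∑ d ∈ Finset.range (G.natDegree + 1),
      G.coeff d * (if i = d ∧ j = 0 then (1 : R) else 0) = if j = 0 then G.coeff i else 0 := by
    by_cases hj : j = 0
    · rw [if_pos hj]
      by_cases h : i ∈ Finset.range (G.natDegree + 1)
      · rw [Finset.sum_eq_single_of_mem i h]
        · rw [if_pos ⟨rfl, hj⟩, mul_one]
        · intro d _ hd; rw [if_neg (fun h' => hd h'.1.symm), mul_zero]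
      · rw [Finset.sum_eq_zero, Polynomial.coeff_eq_zero_of_natDegree_lt]
        · rw [Finset.mem_range] at h; omega
        · intro d hd; rw [if_neg, mul_zero]; rintro ⟨rfl, -⟩; exact h hd
    · rw [if_neg hj]
      refine Finset.sum_eq_zero fun d _ => ?_
      rw [if_neg (fun h' => hj h'.2), mul_zero]
  have h3 : ∑ d ∈ Finset.range (G.natDegree + 1),
      G.coeff d * (if i = 0 ∧ j = d then (1 : R) else 0) = if i = 0 then G.coeff j else 0 := by
    by_cases hi : i = 0
    · rw [if_pos hi]
      by_cases h : j ∈ Finset.range (G.natDegree + 1)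
      · rw [Finset.sum_eq_single_of_mem j h]
        · rw [if_pos ⟨hi, rfl⟩, mul_one]
        · intro d _ hd; rw [if_neg (fun h' => hd h'.2.symm), mul_zero]
      · rw [Finset.sum_eq_zero, Polynomial.coeff_eq_zero_of_natDegree_lt]
        · rw [Finset.mem_range] at h; omega
        · intro d hd; rw [if_neg, mul_zero]; rintro ⟨-, rfl⟩; exact h hd
    · rw [if_neg hi]
      refine Finset.sum_eq_zero fun d _ => ?_
      rw [if_neg (fun h' => hi h'.1), mul_zero]
  rw [h1, h2, h3]

/-- coefficient of `X^i Y^(p q - i)` in `S(X^q, Y^q)` -/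
def sC (p q i : ℕ) : ℕ := if q ∣ i ∧ 0 < i ∧ i < p * q then p.choose (i / q) / p else 0

/-- the polynomial `S(X,Y) = ((X+Y)^p - X^p - Y^p)/p` -/
noncomputable def Spoly (p : ℕ) : MvPolynomial (Fin 2) R :=
  ∑ j ∈ Finset.Ioo 0 p, C ((p.choose j / p : ℕ) : R) * X 0 ^ j * X 1 ^ (p - j)

/-- Frobenius twist `F(X^q, Y^q)` -/
noncomputable def tw (q : ℕ) : MvPolynomial (Fin 2) R →ₐ[R] MvPolynomial (Fin 2) R :=
  aeval ![X 0 ^ q, X 1 ^ q]

lemma tw_Spoly (p q : ℕ) : tw q (Spoly (R := R) p) =
    ∑ j ∈ Finset.Ioo 0 p, monomial (m2 (q * j) (q * (p - j))) ((p.choose j / p : ℕ) : R) := by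
  rw [Spoly, map_sum]
  refine Finset.sum_congr rfl fun j _ => ?_
  rw [monomial_m2]
  simp [tw, pow_mul]

lemma co_tw_Spoly (p q : ℕ) (hq : 0 < q) (i j : ℕ) :
    co (tw q (Spoly (R := R) p)) i j = if i + j = p * q then ((sC p q i : ℕ) : R) else 0 := by
  classical
  rw [tw_Spoly, co_sum]
  simp only [co_monomial]
  by_cases h : i + j = p * q ∧ q ∣ i ∧ 0 < i ∧ i < p * q
  · obtain ⟨h1, ⟨l, rfl⟩, h3, h4⟩ := h
    have hl0 : 0 < l := Nat.pos_of_ne_zero (fun h0 => by simp [h0] at h3)
    have hlp : l < p := by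
      rw [mul_comm p q] at h4
      exact Nat.lt_of_mul_lt_mul_left h4
    rw [if_pos h1, Finset.sum_eq_single_of_mem l (Finset.mem_Ioo.mpr ⟨hl0, hlp⟩)]
    · have : q * (p - l) = j := by
        rw [Nat.mul_sub, mul_comm q p]; omega
      rw [if_pos ⟨rfl, this⟩, sC, if_pos ⟨dvd_mul_right _ _, h3, h4⟩, Nat.mul_div_cancel_left _ hq]
    · intro l' _ hl'
      rw [if_neg]
      rintro ⟨h5, -⟩
      exact hl' (Nat.eq_of_mul_eq_mul_left hq h5)
  · have : (if i + j = p * q then ((sC p q i : ℕ) : R) else 0) = 0 := by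
      by_cases h1 : i + j = p * q
      · rw [if_pos h1, sC, if_neg (fun h' => h ⟨h1, h'⟩), Nat.cast_zero]
      · rw [if_neg h1]
    rw [this]
    refine Finset.sum_eq_zero fun l hl => ?_
    rw [Finset.mem_Ioo] at hl
    rw [if_neg]
    rintro ⟨h1, h2⟩
    apply h
    refine ⟨?_, ⟨l, h1.symm⟩, ?_, ?_⟩
    · rw [← h1, ← h2, ← mul_add, mul_comm]; congr 1; omega
    · rw [← h1]; exact Nat.mul_pos hq hl.1
    · rw [← h1, mul_comm p q]; exact Nat.mul_lt_mul_of_pos_left hl.2 hq

section charp

variable (p : ℕ) [hp : Fact p.Prime] [CharP R p]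

omit hp in
lemma cast_eq_of_modEq {a b : ℕ} (h : a ≡ b [MOD p]) : ((a : ℕ) : R) = ((b : ℕ) : R) :=
  (CharP.natCast_eq_natCast R p).mpr h

lemma lucas_mul (a b : ℕ) : (((p * a).choose (p * b) : ℕ) : R) = ((a.choose b : ℕ) : R) := by
  apply cast_eq_of_modEq p
  have h := @Choose.choose_modEq_choose_mod_mul_choose_div_nat (p * a) (p * b) p _
  have hp0 : 0 < p := hp.out.pos
  simpa [Nat.mul_mod_right, Nat.mul_div_cancel_left _ hp0] using h

lemma lucas_zero (a i : ℕ) (hi : ¬ p ∣ i) : (((p * a).choose i : ℕ) : R) = 0 := by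
  have h := @Choose.choose_modEq_choose_mod_mul_choose_div_nat (p * a) i p _
  have hp0 : 0 < p := hp.out.pos
  have hi' : i % p ≠ 0 := fun h0 => hi (Nat.dvd_of_mod_eq_zero h0)
  have : (0 : ℕ).choose (i % p) = 0 := Nat.choose_eq_zero_of_lt (Nat.pos_of_ne_zero hi')
  rw [Nat.mul_mod_right, this, zero_mul] at h
  have := cast_eq_of_modEq (R := R) p h
  simpa using this

lemma lucas_pred (a : ℕ) (ha : 1 ≤ a) : (((p * a - 1).choose (p - 1) : ℕ) : R) = 1 := by
  have h := @Choose.choose_modEq_choose_mod_mul_choose_div_nat (p * a - 1) (p - 1) p _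
  have hp0 : 0 < p := hp.out.pos
  have hp1 : 1 < p := hp.out.one_lt
  obtain ⟨a', rfl⟩ : ∃ a', a = a' + 1 := ⟨a - 1, by omega⟩
  have e1 : p * (a' + 1) - 1 = (p - 1) + p * a' := by
    rw [mul_add, mul_one]; omega
  have e2 : (p * (a' + 1) - 1) % p = p - 1 := by
    rw [e1, Nat.add_mul_mod_self_left, Nat.mod_eq_of_lt (by omega)]
  have e3 : (p - 1) % p = p - 1 := Nat.mod_eq_of_lt (by omega)
  have e4 : (p - 1) / p = 0 := Nat.div_eq_of_lt (by omega)
  rw [e2, e3, e4, Nat.choose_self, Nat.choose_zero_right, mul_one] at h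
  have := cast_eq_of_modEq (R := R) p h
  simpa using this


include hp in
lemma sC_mul (q i : ℕ) : sC p (p * q) (p * i) = sC p q i := by
  have hp0 : 0 < p := hp.out.pos
  unfold sC
  have h1 : (p * q ∣ p * i) ↔ q ∣ i := Nat.mul_dvd_mul_iff_left hp0
  have h2 : (0 < p * i) ↔ 0 < i := by
    constructor
    · intro h; exact Nat.pos_of_ne_zero (fun h0 => by simp [h0] at h)
    · intro h; exact Nat.mul_pos hp0 h
  have h3 : (p * i < p * (p * q)) ↔ i < p * q := Nat.mul_lt_mul_left hp0
  simp only [h1, h2, h3, Nat.mul_div_mul_left _ _ hp0]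

omit hp in
lemma sC_not_dvd (q i : ℕ) (hi : ¬ p ∣ i) : sC p (p * q) i = 0 := by
  unfold sC
  rw [if_neg]
  rintro ⟨h, -, -⟩
  exact hi (dvd_trans (dvd_mul_right p q) h)

include hp in
lemma pow_succ_eq_mul {t e' : ℕ} (he : 2 ≤ e') (h : p * e' = p ^ (t + 1)) :
    ∃ s, t = s + 1 ∧ e' = p ^ (s + 1) := by
  have hp0 : 0 < p := hp.out.pos
  rw [pow_succ, mul_comm] at h
  have h' : e' = p ^ t := Nat.eq_of_mul_eq_mul_right hp0 h
  rcases t with _ | s
  · simp at h'; omega
  · exact ⟨s, rfl, h'⟩

theorem homog (d : ℕ) : ∀ (α : ℕ → R) (𝔞 : Ideal R), (∀ i, α i ∈ 𝔞) → α 0 = 0 →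
    (∀ i, i ≤ d → α i = α (d - i)) →
    (∀ i j k, i + j + k = d → 1 ≤ i → 1 ≤ k →
      (((j + k).choose j : ℕ) : R) * α i = (((i + j).choose i : ℕ) : R) * α (i + j)) →
    ∃ e ∈ 𝔞, (∀ t, d = p ^ (t + 1) → ∀ i, 0 < i → i < d → α i = e * ((sC p (p ^ t) i : ℕ) : R)) ∧
      ((∀ t, d ≠ p ^ (t + 1)) → ∀ i, 0 < i → i < d → α i = e * ((d.choose i : ℕ) : R)) := by
  induction d using Nat.strong_induction_on with
  | _ d ih =>
  intro α 𝔞 hα h0 hsym hr
  have hp0 : 0 < p := hp.out.pos
  have hp1 : 1 < p := hp.out.one_lt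
  -- the basic relation
  have hrel : ∀ i, 0 < i → i < d →
      (((d - i : ℕ)) : R) * α i = (((d - 1).choose i : ℕ) : R) * α (d - 1) := by
    intro i hi hid
    have := hr i (d - 1 - i) 1 (by omega) hi le_rfl
    rw [Nat.choose_succ_self_right] at this
    have e1 : d - 1 - i + 1 = d - i := by omega
    have e2 : i + (d - 1 - i) = d - 1 := by omega
    rw [e1, e2] at this
    exact this
  by_cases hpd : p ∣ d
  · obtain ⟨e', rfl⟩ := hpd
    by_cases he1 : e' ≤ 1
    · -- `d = 0` or `d = p`
      rcases Nat.le_one_iff_eq_zero_or_eq_one.mp he1 with rfl | rfl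
      · exact ⟨0, 𝔞.zero_mem, fun t _ i hi hid => by omega, fun _ i hi hid => by omega⟩
      · rw [mul_one] at *
        refine ⟨α (p - 1), hα _, ?_, ?_⟩
        · intro t ht i hi hid
          have ht0 : t = 0 := by
            have : p ^ 1 = p ^ (t + 1) := by rw [pow_one]; exact ht
            have := Nat.pow_right_injective hp1 this
            omega
          subst ht0
          have hrl := hrel i hi hid
          have hsc : sC p (p ^ 0) i = p.choose i / p := by
            unfold sC
            rw [pow_zero, mul_one, if_pos ⟨one_dvd _, hi, hid⟩, Nat.div_one]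
          rw [hsc]
          have hdvd : p ∣ p.choose i := hp.out.dvd_choose_self hi.ne' hid
          obtain ⟨c, hc⟩ := hdvd
          rw [hc, Nat.mul_div_cancel_left _ hp0]
          have hnat : (p - i) * c = (p - 1).choose i := by
            have h1 := Nat.choose_mul_succ_eq (p - 1) i
            have e1 : p - 1 + 1 = p := by omega
            rw [e1, hc] at h1
            have e2 : p - 1 + 1 - i = p - i := by omega
            have : p * ((p - 1).choose i) = p * ((p - i) * c) := by
              rw [mul_comm p ((p-1).choose i), h1]; ring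
            exact (Nat.eq_of_mul_eq_mul_left hp0 this).symm
          have hu : IsUnit (((p - i : ℕ)) : R) := by
            rw [CharP.isUnit_natCast_iff (p := p) hp.out]
            intro hdiv
            have := Nat.le_of_dvd (by omega) hdiv
            omega
          apply hu.mul_left_cancel
          rw [hrl, ← hnat]
          push_cast
          ring
        · intro hne
          exact absurd (pow_one p).symm (by simpa using hne 0)
    · -- descent
      have he2 : 2 ≤ e' := by omega
      -- `α (d-1) = 0`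
      have hd1 : α (p * e' - 1) = 0 := by
        have h1 := hrel (p * e' - p) (by
          have : p * 2 ≤ p * e' := Nat.mul_le_mul_left p he2
          omega) (by
          have : p * 2 ≤ p * e' := Nat.mul_le_mul_left p he2
          omega)
        have e1 : p * e' - (p * e' - p) = p := by
          have : p * 1 ≤ p * e' := Nat.mul_le_mul_left p (by omega)
          omega
        rw [e1, CharP.cast_eq_zero, zero_mul] at h1
        have e2 : (p * e' - 1).choose (p * e' - p) = (p * e' - 1).choose (p - 1) := by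
          rw [← Nat.choose_symm (by
            have : p * 1 ≤ p * e' := Nat.mul_le_mul_left p (by omega)
            omega)]
          congr 1
          have : p * 1 ≤ p * e' := Nat.mul_le_mul_left p (by omega)
          omega
        rw [e2, lucas_pred p e' (by omega), one_mul] at h1
        exact h1.symm
      have hzero : ∀ i, 0 < i → i < p * e' → ¬ p ∣ i → α i = 0 := by
        intro i hi hid hpi
        have h1 := hrel i hi hid
        rw [hd1, mul_zero] at h1
        have hu : IsUnit (((p * e' - i : ℕ)) : R) := by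
          rw [CharP.isUnit_natCast_iff (p := p) hp.out]
          intro hdiv
          apply hpi
          have := (Nat.dvd_sub_iff_right hid.le (dvd_mul_right p e')).mp hdiv
          exact this
        exact (hu.mul_right_eq_zero).mp h1
      -- the descended sequence
      have hlt : e' < p * e' := by
        calc e' = 1 * e' := (one_mul _).symm
          _ < p * e' := Nat.mul_lt_mul_of_pos_right hp1 (by omega)
      obtain ⟨e, he𝔞, hE1, hE2⟩ := ih e' hlt (fun i => α (p * i)) 𝔞 (fun i => hα _)
        (by simpa using h0)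
        (by
          intro i hi
          show α (p * i) = α (p * (e' - i))
          rw [hsym (p * i) (Nat.mul_le_mul_left p hi), Nat.mul_sub]
          )
        (by
          intro i j k hijk hi hk
          show _ * α (p * i) = _ * α (p * (i + j))
          have := hr (p * i) (p * j) (p * k) (by rw [← mul_add, ← mul_add, hijk])
            (by nlinarith) (by nlinarith)
          rw [← mul_add, ← mul_add, lucas_mul, lucas_mul] at this
          exact this)
      refine ⟨e, he𝔞, ?_, ?_⟩
      · intro t ht i hi hid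
        obtain ⟨s, rfl, hs⟩ := pow_succ_eq_mul p he2 ht
        by_cases hpi : p ∣ i
        · obtain ⟨i', rfl⟩ := hpi
          have hi' : 0 < i' := Nat.pos_of_ne_zero (fun h0 => by simp [h0] at hi)
          have hid' : i' < e' := Nat.lt_of_mul_lt_mul_left hid
          have := hE1 s hs i' hi' hid'
          rw [this, pow_succ p s, mul_comm (p ^ s) p, sC_mul]
        · rw [hzero i hi hid hpi, pow_succ p s, mul_comm (p ^ s) p, sC_not_dvd p _ _ hpi]
          simp
      · intro hne i hi hid
        have hne' : ∀ t, e' ≠ p ^ (t + 1) := by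
          intro t ht
          apply hne (t + 1)
          rw [ht, pow_succ p (t + 1), mul_comm]
        by_cases hpi : p ∣ i
        · obtain ⟨i', rfl⟩ := hpi
          have hi' : 0 < i' := Nat.pos_of_ne_zero (fun h0 => by simp [h0] at hi)
          have hid' : i' < e' := Nat.lt_of_mul_lt_mul_left hid
          have := hE2 hne' i' hi' hid'
          rw [this, lucas_mul]
        · rw [hzero i hi hid hpi, lucas_zero p _ _ hpi, mul_zero]
  · -- `p ∤ d`
    by_cases hd2 : d ≤ 1
    · exact ⟨0, 𝔞.zero_mem, fun t _ i hi hid => by omega, fun _ i hi hid => by omega⟩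
    have hud : IsUnit ((d : ℕ) : R) := (CharP.isUnit_natCast_iff (p := p) hp.out).mpr hpd
    obtain ⟨u, hu⟩ := hud.exists_left_inv
    refine ⟨u * α (d - 1), 𝔞.mul_mem_left _ (hα _), ?_, ?_⟩
    · intro t ht
      exfalso; apply hpd; rw [ht, pow_succ]; exact dvd_mul_left _ _
    · intro _
      have key : ∀ i, 0 < i → i < d → ¬ p ∣ (d - i) →
          α i = u * α (d - 1) * ((d.choose i : ℕ) : R) := by
        intro i hi hid hpi
        have hui : IsUnit (((d - i : ℕ)) : R) :=
          (CharP.isUnit_natCast_iff (p := p) hp.out).mpr hpi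
        apply hui.mul_left_cancel
        rw [hrel i hi hid]
        have hnat : (d - i) * d.choose i = d * (d - 1).choose i := by
          have h1 := Nat.choose_mul_succ_eq (d - 1) i
          have e1 : d - 1 + 1 = d := by omega
          rw [e1] at h1
          rw [mul_comm (d - i), mul_comm d, h1]
        have hnat' : (((d - i : ℕ)) : R) * ((d.choose i : ℕ) : R)
            = ((d : ℕ) : R) * (((d - 1).choose i : ℕ) : R) := by
          exact_mod_cast congrArg (Nat.cast (R := R)) hnat
        calc (((d - 1).choose i : ℕ) : R) * α (d - 1)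
            = (u * (d : R)) * ((((d - 1).choose i : ℕ) : R) * α (d - 1)) := by rw [hu, one_mul]
          _ = u * α (d - 1) * (((d : ℕ) : R) * (((d - 1).choose i : ℕ) : R)) := by ring
          _ = u * α (d - 1) * ((((d - i : ℕ)) : R) * ((d.choose i : ℕ) : R)) := by rw [hnat']
          _ = _ := by ring
      intro i hi hid
      by_cases hpi : p ∣ (d - i)
      · have hpi' : ¬ p ∣ (d - (d - i)) := by
          have e1 : d - (d - i) = i := by omega
          rw [e1]
          intro hdi
          apply hpd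
          have : d = (d - i) + i := by omega
          rw [this]
          exact dvd_add hpi hdi
        rw [hsym i hid.le, key (d - i) (by omega) (by omega) hpi', Nat.choose_symm hid.le]
      · exact key i hi hid hpi

end charp

section charp2

variable (p : ℕ) [hp : Fact p.Prime] [CharP R p]

omit [CharP R p] hp in
lemma co_eq_zero_of_totalDegree_lt (F : MvPolynomial (Fin 2) R) (i j : ℕ)
    (h : F.totalDegree < i + j) : co F i j = 0 := by
  apply coeff_eq_zero_of_totalDegree_lt
  have : ∑ x ∈ (m2 i j).support, (m2 i j) x = i + j := by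
    show (m2 i j).sum (fun _ e => e) = i + j
    rw [m2, Finsupp.sum_add_index' (by simp) (by simp)]
    simp
  rw [this]; exact h

include hp in
omit [CharP R p] in
lemma pow_succ_inj {t t' : ℕ} (h : p ^ (t + 1) = p ^ (t' + 1)) : t = t' := by
  have := Nat.pow_right_injective hp.out.two_le h
  omega

theorem lazard (F : MvPolynomial (Fin 2) R) (hsym : sw F = F) (hcoc : cocyc F = 0)
    (𝔞 : Ideal R) (h𝔞 : ∀ i j, co F i j ∈ 𝔞) :
    ∃ (G : Polynomial R) (N : ℕ) (r : ℕ → R), (∀ d, G.coeff d ∈ 𝔞) ∧ (∀ t, r t ∈ 𝔞) ∧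
      G.coeff 0 = - co F 0 0 ∧
      F = delta G + ∑ t ∈ Finset.range N, C (r t) * tw (p ^ t) (Spoly p) := by
  classical
  have hp1 : 1 < p := hp.out.one_lt
  have hp0 : 0 < p := hp.out.pos
  rw [sw_eq_iff] at hsym
  rw [cocyc_eq_zero_iff] at hcoc
  set a := co F with ha
  set D := F.totalDegree with hD
  have hbig : ∀ i j, D < i + j → a i j = 0 := fun i j h => co_eq_zero_of_totalDegree_lt F i j h
  have hi0 : ∀ i, 1 ≤ i → a i 0 = 0 := by
    intro i hi
    have := hcoc i 0 0
    rw [if_neg (by omega), if_pos rfl] at this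
    simp at this
    exact this
  have h0j : ∀ j, 1 ≤ j → a 0 j = 0 := fun j hj => by rw [hsym]; exact hi0 j hj
  have H : ∀ d, 1 ≤ d → ∃ e ∈ 𝔞,
      (∀ t, d = p ^ (t + 1) → ∀ i, 0 < i → i < d → a i (d - i) = e * ((sC p (p ^ t) i : ℕ) : R)) ∧
      ((∀ t, d ≠ p ^ (t + 1)) → ∀ i, 0 < i → i < d → a i (d - i) = e * ((d.choose i : ℕ) : R)) := by
    intro d hd
    refine homog p d (fun i => a i (d - i)) 𝔞 (fun i => h𝔞 _ _) ?_ ?_ ?_
    · show a 0 (d - 0) = 0
      exact h0j _ (by omega)
    · intro i hi
      show a i (d - i) = a (d - i) (d - (d - i))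
      rw [hsym i (d - i)]
      congr 1; omega
    · intro i j k hijk hi hk
      show _ * a i (d - i) = _ * a (i + j) (d - (i + j))
      have := hcoc i j k
      rw [if_neg (by omega), if_neg (by omega), add_zero, add_zero] at this
      have e1 : d - i = j + k := by omega
      have e2 : d - (i + j) = k := by omega
      rw [e1, e2]
      exact this
  choose! e he𝔞 hE1 hE2 using H
  let isPP : ℕ → Prop := fun d => ∃ t, d = p ^ (t + 1)
  let g : ℕ → R := fun d => if d = 0 then - a 0 0 else if D < d then 0 else if isPP d then 0 else e d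
  let G : Polynomial R := ∑ d ∈ Finset.range (D + 1), Polynomial.monomial d (g d)
  have hGc : ∀ d, G.coeff d = g d := by
    intro d
    show (∑ d' ∈ Finset.range (D + 1), Polynomial.monomial d' (g d')).coeff d = g d
    rw [Polynomial.finsetSum_coeff]
    simp only [Polynomial.coeff_monomial]
    rw [Finset.sum_ite_eq' (Finset.range (D + 1)) d]
    by_cases hd : d ∈ Finset.range (D + 1)
    · rw [if_pos hd]
    · rw [if_neg hd]
      rw [Finset.mem_range] at hd
      show 0 = if d = 0 then - a 0 0 else if D < d then 0 else if isPP d then 0 else e d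
      rw [if_neg (by omega), if_pos (by omega)]
  let r : ℕ → R := fun t => if p ^ (t + 1) ≤ D then e (p ^ (t + 1)) else 0
  have hg𝔞 : ∀ d, g d ∈ 𝔞 := by
    intro d
    show (if d = 0 then - a 0 0 else if D < d then 0 else if isPP d then 0 else e d) ∈ 𝔞
    split_ifs with h1 h2 h3
    · exact 𝔞.neg_mem (h𝔞 0 0)
    · exact 𝔞.zero_mem
    · exact 𝔞.zero_mem
    · exact he𝔞 d (by omega)
  refine ⟨G, D + 1, r, fun d => by rw [hGc]; exact hg𝔞 d, ?_, ?_, ?_⟩
  · intro t
    show (if p ^ (t + 1) ≤ D then e (p ^ (t + 1)) else 0) ∈ 𝔞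
    split_ifs
    · exact he𝔞 _ (Nat.one_le_pow _ _ hp0)
    · exact 𝔞.zero_mem
  · rw [hGc]; show (if (0:ℕ) = 0 then - a 0 0 else _) = _; rw [if_pos rfl]
  · ext m
    rw [eq_m2 m]
    set i := m 0
    set j := m 1
    show a i j = co _ i j
    rw [co_add, co_delta, co_sum]
    simp only [co_C_mul, co_tw_Spoly p _ (pow_pos hp0 _), hGc]
    by_cases hi : i = 0
    · -- `i = 0`
      have hS : ∑ t ∈ Finset.range (D + 1),
          r t * (if i + j = p * p ^ t then ((sC p (p ^ t) i : ℕ) : R) else 0) = 0 := by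
        refine Finset.sum_eq_zero fun t _ => ?_
        have : sC p (p ^ t) i = 0 := by
          rw [sC, if_neg]; rintro ⟨-, h, -⟩; omega
        rw [this]; simp
      rw [hS, if_pos hi, hi]
      by_cases hj : j = 0
      · rw [if_pos hj, hj]
        show a 0 0 = _ * g 0 - g 0 - g 0 + 0
        have : g 0 = - a 0 0 := by show (if (0:ℕ) = 0 then _ else _) = _; rw [if_pos rfl]
        rw [this]; simp
      · rw [if_neg hj, h0j j (by omega)]
        simp
    by_cases hj : j = 0
    · have hS : ∑ t ∈ Finset.range (D + 1),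
          r t * (if i + j = p * p ^ t then ((sC p (p ^ t) i : ℕ) : R) else 0) = 0 := by
        refine Finset.sum_eq_zero fun t _ => ?_
        by_cases h1 : i + j = p * p ^ t
        · have : sC p (p ^ t) i = 0 := by
            rw [sC, if_neg]; rintro ⟨-, -, h⟩; omega
          rw [this]; simp
        · rw [if_neg h1, mul_zero]
      rw [hS, if_pos hj, if_neg hi, hj, hi0 i (by omega)]
      simp
    -- `i, j ≥ 1`
    rw [if_neg hj, if_neg hi, sub_zero, sub_zero]
    by_cases hd : D < i + j
    · rw [hbig i j hd]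
      have hg0 : g (i + j) = 0 := by
        show (if i + j = 0 then _ else if D < i + j then (0:R) else _) = 0
        rw [if_neg (by omega), if_pos hd]
      rw [hg0, mul_zero, zero_add]
      symm
      refine Finset.sum_eq_zero fun t _ => ?_
      by_cases h1 : i + j = p * p ^ t
      · have : r t = 0 := by
          show (if p ^ (t + 1) ≤ D then _ else (0:R)) = 0
          rw [if_neg]; rw [pow_succ, mul_comm]; omega
        rw [this, zero_mul]
      · rw [if_neg h1, mul_zero]
    · have hdD : i + j ≤ D := by omega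
      by_cases hpp : isPP (i + j)
      · obtain ⟨t, ht⟩ := hpp
        have hg0 : g (i + j) = 0 := by
          show (if i + j = 0 then _ else if D < i + j then (0:R) else if isPP (i + j) then 0 else _) = 0
          rw [if_neg (by omega), if_neg hd, if_pos ⟨t, ht⟩]
        have htN : t ∈ Finset.range (D + 1) := by
          rw [Finset.mem_range]
          have := Nat.lt_pow_self hp1 (n := t + 1)
          omega
        rw [hg0, mul_zero, zero_add, Finset.sum_eq_single_of_mem t htN]
        · have h1 : i + j = p * p ^ t := by rw [ht, pow_succ, mul_comm]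
          rw [if_pos h1]
          have hr : r t = e (i + j) := by
            show (if p ^ (t + 1) ≤ D then e (p ^ (t + 1)) else 0) = _
            rw [if_pos (by omega), ht]
          rw [hr]
          have := hE1 (i + j) (by omega) t ht i (by omega) (by omega)
          rw [← this]
          congr 1; omega
        · intro t' _ ht'
          rw [if_neg, mul_zero]
          intro h1
          apply ht'
          apply pow_succ_inj p
          rw [← ht, h1, pow_succ, mul_comm]
      · have hg0 : g (i + j) = e (i + j) := by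
          show (if i + j = 0 then _ else if D < i + j then (0:R) else if isPP (i + j) then 0 else _) = _
          rw [if_neg (by omega), if_neg hd, if_neg hpp]
        have hS : ∑ t ∈ Finset.range (D + 1),
            r t * (if i + j = p * p ^ t then ((sC p (p ^ t) i : ℕ) : R) else 0) = 0 := by
          refine Finset.sum_eq_zero fun t _ => ?_
          rw [if_neg, mul_zero]
          intro h1
          exact hpp ⟨t, by rw [h1, pow_succ, mul_comm]⟩
        rw [hS, add_zero, hg0]
        have := hE2 (i + j) (by omega) (fun t ht => hpp ⟨t, ht⟩) i (by omega) (by omega)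
        rw [mul_comm, ← this]
        congr 1; omega

end charp2

section converse

lemma sw_delta (G : Polynomial R) : sw (delta G) = delta G := by
  simp only [delta, map_sub, sw, ← Polynomial.aeval_algHom_apply, map_add, aeval_X,
    Matrix.cons_val_zero, Matrix.cons_val_one]
  rw [add_comm (X 1) (X 0)]
  ring

lemma cocyc_delta (G : Polynomial R) : cocyc (delta G) = 0 := by
  simp only [cocyc, delta, map_sub, d0, d1, d2, d3, ← Polynomial.aeval_algHom_apply, map_add,
    aeval_X, Matrix.cons_val_zero, Matrix.cons_val_one]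
  rw [add_assoc (X 0) (X 1) (X 2)]
  ring

lemma sw_C_mul (c : R) (F : MvPolynomial (Fin 2) R) : sw (C c * F) = C c * sw F := by
  rw [map_mul]; congr 1; simp [sw]

lemma cocyc_add (F G : MvPolynomial (Fin 2) R) : cocyc (F + G) = cocyc F + cocyc G := by
  simp only [cocyc, map_add]; ring

lemma cocyc_C_mul (c : R) (F : MvPolynomial (Fin 2) R) : cocyc (C c * F) = C c * cocyc F := by
  have h : ∀ d : MvPolynomial (Fin 2) R →ₐ[R] MvPolynomial (Fin 3) R, d (C c * F) = C c * d F := by
    intro d; rw [map_mul]; congr 1; exact d.commutes c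
  simp only [cocyc, h]; ring

lemma cocyc_sum {ι : Type*} (s : Finset ι) (f : ι → MvPolynomial (Fin 2) R) :
    cocyc (∑ x ∈ s, f x) = ∑ x ∈ s, cocyc (f x) := by
  classical
  induction s using Finset.induction_on with
  | empty => simp [cocyc]
  | insert a s ha ih => rw [Finset.sum_insert ha, Finset.sum_insert ha, cocyc_add, ih]

variable (p : ℕ) [hp : Fact p.Prime]

omit hp in
lemma sC_symm (q i j : ℕ) (hq : 0 < q) (h : i + j = p * q) : sC p q i = sC p q j := by
  unfold sC
  by_cases hi : q ∣ i ∧ 0 < i ∧ i < p * q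
  · obtain ⟨⟨l, rfl⟩, h2, h3⟩ := hi
    have hj : j = q * (p - l) := by
      rw [Nat.mul_sub, mul_comm q p]; omega
    have hlp : l < p := by
      rw [mul_comm p q] at h3
      exact Nat.lt_of_mul_lt_mul_left h3
    have hl0 : 0 < l := Nat.pos_of_ne_zero (fun h0 => by simp [h0] at h2)
    rw [if_pos ⟨dvd_mul_right _ _, h2, h3⟩, if_pos, hj, Nat.mul_div_cancel_left _ hq,
      Nat.mul_div_cancel_left _ hq, Nat.choose_symm hlp.le]
    refine ⟨hj ▸ dvd_mul_right _ _, by omega, by omega⟩
  · rw [if_neg hi, if_neg]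
    rintro ⟨⟨l, rfl⟩, h2, h3⟩
    apply hi
    have hlp : l < p := by
      rw [mul_comm p q] at h3
      exact Nat.lt_of_mul_lt_mul_left h3
    have hi' : i = q * (p - l) := by
      rw [Nat.mul_sub, mul_comm q p]; omega
    refine ⟨hi' ▸ dvd_mul_right _ _, by omega, by omega⟩

omit hp in
lemma sw_tw_Spoly (q : ℕ) (hq : 0 < q) : sw (tw q (Spoly (R := R) p)) = tw q (Spoly p) := by
  rw [sw_eq_iff]
  intro i j
  rw [co_tw_Spoly p q hq, co_tw_Spoly p q hq]
  by_cases h : i + j = p * q
  · rw [if_pos h, if_pos (by omega), sC_symm p q i j hq h]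
  · rw [if_neg h, if_neg (by omega)]

omit hp in
lemma tw_one (F : MvPolynomial (Fin 2) R) : tw 1 F = F := by
  have : (tw 1 : MvPolynomial (Fin 2) R →ₐ[R] MvPolynomial (Fin 2) R) = AlgHom.id R _ := by
    apply algHom_ext
    intro i
    fin_cases i <;> simp [tw]
  rw [this]; rfl

omit hp in
lemma sC_one (i : ℕ) : sC p 1 i = if 0 < i ∧ i < p then p.choose i / p else 0 := by
  unfold sC
  simp

include hp in
lemma cocyc_Spoly : cocyc (Spoly (R := R) p) = 0 := by
  have hp0 : 0 < p := hp.out.pos
  rw [cocyc_eq_zero_iff]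
  intro i j k
  have hco : ∀ i j, co (Spoly (R := R) p) i j = if i + j = p then ((sC p 1 i : ℕ) : R) else 0 := by
    intro i j
    have := co_tw_Spoly (R := R) p 1 one_pos i j
    rw [tw_one, mul_one] at this
    exact this
  simp only [hco]
  have h0 : sC p 1 0 = 0 := by rw [sC_one]; simp
  by_cases hs : i + j + k = p
  · by_cases hi : i = 0
    · subst hi
      have hjk : j + k = p := by omega
      by_cases hk : k = 0
      · subst hk
        have hj : j = p := by omega
        simp [h0, hj]
      · simp [h0, hjk, hk]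
    · by_cases hk : k = 0
      · subst hk
        have hij : i + j = p := by omega
        have : sC p 1 p = 0 := by
          rw [sC_one, if_neg]; rintro ⟨-, h⟩; omega
        simp [hij, this, hi]
      · rw [if_neg hi, if_neg hk, add_zero, add_zero, if_pos (by omega), if_pos (by omega)]
        rw [sC_one, sC_one, if_pos ⟨by omega, by omega⟩, if_pos ⟨by omega, by omega⟩]
        obtain ⟨c1, hc1⟩ : p ∣ p.choose i := hp.out.dvd_choose_self (by omega) (by omega)
        obtain ⟨c2, hc2⟩ : p ∣ p.choose (i + j) := hp.out.dvd_choose_self (by omega) (by omega)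
        rw [hc1, hc2, Nat.mul_div_cancel_left _ hp0, Nat.mul_div_cancel_left _ hp0]
        have hnat : (j + k).choose j * c1 = (i + j).choose i * c2 := by
          have h1 := Nat.choose_mul (n := p) (k := i + j) (s := i) (by omega)
          have e1 : p - i = j + k := by omega
          have e2 : i + j - i = j := by omega
          rw [e1, e2, hc1, hc2] at h1
          have : p * ((i + j).choose i * c2) = p * ((j + k).choose j * c1) := by
            calc p * ((i + j).choose i * c2) = p * c2 * (i + j).choose i := by ring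
              _ = p * c1 * (j + k).choose j := h1
              _ = _ := by ring
          exact (Nat.eq_of_mul_eq_mul_left hp0 this).symm
        exact_mod_cast congrArg (Nat.cast (R := R)) hnat
  · have e1 : ¬ (i + (j + k) = p) := by omega
    rw [if_neg e1, if_neg hs]
    have h1 : (if i = 0 then (if j + k = p then ((sC p 1 j : ℕ) : R) else 0) else 0) = 0 := by
      by_cases hi : i = 0
      · rw [if_pos hi, if_neg (by omega)]
      · rw [if_neg hi]
    have h2 : (if k = 0 then (if i + j = p then ((sC p 1 i : ℕ) : R) else 0) else 0) = 0 := by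
      by_cases hk : k = 0
      · rw [if_pos hk, if_neg (by omega)]
      · rw [if_neg hk]
    rw [h1, h2, mul_zero, mul_zero]

/-- three-variable Frobenius twist -/
noncomputable def tw3 (q : ℕ) : MvPolynomial (Fin 3) R →ₐ[R] MvPolynomial (Fin 3) R :=
  aeval ![X 0 ^ q, X 1 ^ q, X 2 ^ q]

variable [CharP R p]

include hp in
lemma d_tw (t : ℕ) (F : MvPolynomial (Fin 2) R) :
    d0 (tw (p ^ t) F) = tw3 (p ^ t) (d0 F) ∧ d1 (tw (p ^ t) F) = tw3 (p ^ t) (d1 F) ∧
    d2 (tw (p ^ t) F) = tw3 (p ^ t) (d2 F) ∧ d3 (tw (p ^ t) F) = tw3 (p ^ t) (d3 F) := by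
  have h0 : (d0.comp (tw (p ^ t)) : MvPolynomial (Fin 2) R →ₐ[R] _) = (tw3 (p ^ t)).comp d0 := by
    apply algHom_ext; intro i; fin_cases i <;> simp [d0, tw, tw3]
  have h1 : (d1.comp (tw (p ^ t)) : MvPolynomial (Fin 2) R →ₐ[R] _) = (tw3 (p ^ t)).comp d1 := by
    apply algHom_ext; intro i; fin_cases i <;> simp [d1, tw, tw3, add_pow_char_pow]
  have h2 : (d2.comp (tw (p ^ t)) : MvPolynomial (Fin 2) R →ₐ[R] _) = (tw3 (p ^ t)).comp d2 := by
    apply algHom_ext; intro i; fin_cases i <;> simp [d2, tw, tw3, add_pow_char_pow]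
  have h3 : (d3.comp (tw (p ^ t)) : MvPolynomial (Fin 2) R →ₐ[R] _) = (tw3 (p ^ t)).comp d3 := by
    apply algHom_ext; intro i; fin_cases i <;> simp [d3, tw, tw3]
  exact ⟨DFunLike.congr_fun h0 F, DFunLike.congr_fun h1 F, DFunLike.congr_fun h2 F,
    DFunLike.congr_fun h3 F⟩

include hp in
lemma cocyc_tw (t : ℕ) (F : MvPolynomial (Fin 2) R) :
    cocyc (tw (p ^ t) F) = tw3 (p ^ t) (cocyc F) := by
  obtain ⟨h0, h1, h2, h3⟩ := d_tw p t F
  simp only [cocyc, h0, h1, h2, h3, map_sub, map_add]

include hp in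
theorem lazard_conv (G : Polynomial R) (N : ℕ) (r : ℕ → R) :
    sw (delta G + ∑ t ∈ Finset.range N, C (r t) * tw (p ^ t) (Spoly (R := R) p))
      = delta G + ∑ t ∈ Finset.range N, C (r t) * tw (p ^ t) (Spoly p) ∧
    cocyc (delta G + ∑ t ∈ Finset.range N, C (r t) * tw (p ^ t) (Spoly (R := R) p)) = 0 := by
  have hp0 : 0 < p := hp.out.pos
  constructor
  · rw [map_add, sw_delta, map_sum]
    congr 1
    refine Finset.sum_congr rfl fun t _ => ?_
    rw [sw_C_mul, sw_tw_Spoly p _ (pow_pos hp0 t)]
  · rw [cocyc_add, cocyc_delta, zero_add, cocyc_sum]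
    refine Finset.sum_eq_zero fun t _ => ?_
    rw [cocyc_C_mul, cocyc_tw, cocyc_Spoly, map_zero, mul_zero]

end converse

end Groth.Agent.LazardP
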