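import Mathlib
import Groth.Agent.Lib.LazardP_helper9

set_option autoImplicit false
open MvPolynomial

namespace Groth.Agent.GaGmExt

open Groth.Agent.LazardP

section expId

variable {A : Type*} [CommRing A] (p : ℕ) [hp : Fact p.Prime] [CharP A p]

lemma wilson_cast : (((p - 1).factorial : ℕ) : A) = -1 := by
  have h : ((((p - 1).factorial + 1 : ℕ)) : ZMod p) = 0 := by
    push_cast; rw [ZMod.wilsons_lemma]; ring
  have hdvd : p ∣ (p - 1).factorial + 1 := (ZMod.natCast_eq_zero_iff _ _).mp h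
  have : ((((p - 1).factorial + 1 : ℕ)) : A) = 0 := (CharP.cast_eq_zero_iff A p _).mpr hdvd
  push_cast at this
  linear_combination this

lemma choose_div_cast (w : ℕ → A) (hw : ∀ i < p, ((i.factorial : ℕ) : A) * w i = 1)
    (i : ℕ) (hi : 0 < i) (hip : i < p) :
    (((p.choose i / p : ℕ)) : A) = - (w i * w (p - i)) := by
  have hp0 : 0 < p := hp.out.pos
  obtain ⟨c, hc⟩ : p ∣ p.choose i := hp.out.dvd_choose_self hi.ne' hip
  rw [hc, Nat.mul_div_cancel_left _ hp0]
  have h1 := Nat.choose_mul_factorial_mul_factorial hip.le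
  have h2 : p.factorial = p * (p - 1).factorial := by
    have := Nat.mul_factorial_pred (n := p) (by omega)
    exact this.symm
  rw [hc, h2] at h1
  have h3 : c * i.factorial * (p - i).factorial = (p - 1).factorial := by
    apply Nat.eq_of_mul_eq_mul_left hp0
    rw [← h1]; ring
  have h4 : (c : A) * ((i.factorial : ℕ) : A) * (((p - i).factorial : ℕ) : A) = -1 := by
    rw [← wilson_cast (A := A) p, ← h3]; push_cast; ring
  have hwi := hw i hip
  have hwpi := hw (p - i) (by omega)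
  calc (c : A) = (c : A) * (((i.factorial : ℕ) : A) * w i) * ((((p - i).factorial : ℕ) : A) * w (p - i)) := by
        rw [hwi, hwpi]; ring
    _ = ((c : A) * ((i.factorial : ℕ) : A) * (((p - i).factorial : ℕ) : A)) * (w i * w (p - i)) := by ring
    _ = _ := by rw [h4]; ring

omit hp [CharP A p] in
lemma w_mul (w : ℕ → A) (hw : ∀ i < p, ((i.factorial : ℕ) : A) * w i = 1)
    (i j : ℕ) (hij : i + j < p) :
    w i * w j = (((i + j).choose i : ℕ) : A) * w (i + j) := by
  have h1 := hw i (by omega)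
  have h2 := hw j (by omega)
  have h3 := hw (i + j) hij
  have h4 : (i + j).choose i * i.factorial * j.factorial = (i + j).factorial := by
    have := Nat.choose_mul_factorial_mul_factorial (Nat.le_add_right i j)
    rwa [Nat.add_sub_cancel_left] at this
  have h5 : (((i + j).choose i : ℕ) : A) * ((i.factorial : ℕ) : A) * ((j.factorial : ℕ) : A)
      = (((i + j).factorial : ℕ) : A) := by
    exact_mod_cast congrArg (Nat.cast (R := A)) h4
  calc w i * w j = w i * w j * ((((i + j).factorial : ℕ) : A) * w (i + j)) := by rw [h3, mul_one]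
    _ = (((i + j).choose i : ℕ) : A) * (((i.factorial : ℕ) : A) * w i) * (((j.factorial : ℕ) : A) * w j)
          * w (i + j) := by rw [← h5]; ring
    _ = _ := by rw [h1, h2]; ring

/-- the truncated exponential identity -/
theorem expId (w : ℕ → A) (hw : ∀ i < p, ((i.factorial : ℕ) : A) * w i = 1) (x y : A)
    (hxy : ∀ i j, i < p → j < p → p < i + j → x ^ i * y ^ j = 0) :
    (∑ i ∈ Finset.range p, w i * x ^ i) * (∑ j ∈ Finset.range p, w j * y ^ j)
      = (∑ d ∈ Finset.range p, w d * (x + y) ^ d)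
        - ∑ j ∈ Finset.Ioo 0 p, (((p.choose j / p : ℕ)) : A) * x ^ j * y ^ (p - j) := by
  classical
  have hp0 : 0 < p := hp.out.pos
  have hp1 : 1 < p := hp.out.one_lt
  let P : Polynomial A := ∑ i ∈ Finset.range p, Polynomial.monomial i (w i * x ^ i)
  let Q : Polynomial A := ∑ i ∈ Finset.range p, Polynomial.monomial i (w i * y ^ i)
  have hPe : P.eval 1 = ∑ i ∈ Finset.range p, w i * x ^ i := by
    simp [P, Polynomial.eval_finsetSum]
  have hQe : Q.eval 1 = ∑ i ∈ Finset.range p, w i * y ^ i := by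
    simp [Q, Polynomial.eval_finsetSum]
  have hPc : ∀ i, P.coeff i = if i < p then w i * x ^ i else 0 := by
    intro i
    simp only [P, Polynomial.finsetSum_coeff, Polynomial.coeff_monomial]
    rw [Finset.sum_ite_eq' (Finset.range p) i]
    simp only [Finset.mem_range]
  have hQc : ∀ i, Q.coeff i = if i < p then w i * y ^ i else 0 := by
    intro i
    simp only [Q, Polynomial.finsetSum_coeff, Polynomial.coeff_monomial]
    rw [Finset.sum_ite_eq' (Finset.range p) i]
    simp only [Finset.mem_range]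
  have hPd : P.natDegree ≤ p - 1 := by
    apply Polynomial.natDegree_sum_le_of_forall_le
    intro i hi
    rw [Finset.mem_range] at hi
    exact (Polynomial.natDegree_monomial_le _).trans (by omega)
  have hQd : Q.natDegree ≤ p - 1 := by
    apply Polynomial.natDegree_sum_le_of_forall_le
    intro i hi
    rw [Finset.mem_range] at hi
    exact (Polynomial.natDegree_monomial_le _).trans (by omega)
  have hPQd : (P * Q).natDegree < 2 * p - 1 := by
    have := Polynomial.natDegree_mul_le (p := P) (q := Q)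
    omega
  rw [← hPe, ← hQe, ← Polynomial.eval_mul, Polynomial.eval_eq_sum_range' hPQd]
  simp only [one_pow, mul_one]
  -- the coefficients
  have hlow : ∀ d, d < p → (P * Q).coeff d = w d * (x + y) ^ d := by
    intro d hd
    rw [Polynomial.coeff_mul, (Commute.all x y).add_pow', Finset.mul_sum]
    refine Finset.sum_congr rfl fun m hm => ?_
    rw [Finset.HasAntidiagonal.mem_antidiagonal] at hm
    rw [hPc, hQc, if_pos (by omega), if_pos (by omega), nsmul_eq_mul]
    have := w_mul p w hw m.1 m.2 (by omega)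
    rw [hm] at this
    calc w m.1 * x ^ m.1 * (w m.2 * y ^ m.2) = (w m.1 * w m.2) * (x ^ m.1 * y ^ m.2) := by ring
      _ = _ := by rw [this]; ring
  have hmid : (P * Q).coeff p
      = - ∑ j ∈ Finset.Ioo 0 p, (((p.choose j / p : ℕ)) : A) * x ^ j * y ^ (p - j) := by
    rw [Polynomial.coeff_mul, Finset.Nat.sum_antidiagonal_eq_sum_range_succ_mk]
    simp only [hPc, hQc]
    rw [Finset.range_eq_Ico, Finset.sum_eq_sum_Ico_succ_bot (by omega), Finset.sum_Ico_succ_top (by omega)]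
    rw [if_neg (by omega : ¬ (p - 0 < p)), mul_zero, zero_add, if_neg (by omega : ¬ (p < p)), zero_mul,
      add_zero, ← Finset.sum_neg_distrib]
    have : Finset.Ico (0 + 1) p = Finset.Ioo 0 p := by
      ext a; simp [Finset.mem_Ico, Finset.mem_Ioo]; omega
    rw [this]
    refine Finset.sum_congr rfl fun j hj => ?_
    rw [Finset.mem_Ioo] at hj
    rw [if_pos hj.2, if_pos (by omega), choose_div_cast p w hw j hj.1 hj.2]
    ring
  have hhigh : ∀ d, p < d → (P * Q).coeff d = 0 := by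
    intro d hd
    rw [Polynomial.coeff_mul]
    refine Finset.sum_eq_zero fun m hm => ?_
    rw [Finset.HasAntidiagonal.mem_antidiagonal] at hm
    rw [hPc, hQc]
    by_cases h1 : m.1 < p
    · by_cases h2 : m.2 < p
      · rw [if_pos h1, if_pos h2]
        have := hxy m.1 m.2 h1 h2 (by omega)
        calc w m.1 * x ^ m.1 * (w m.2 * y ^ m.2) = (w m.1 * w m.2) * (x ^ m.1 * y ^ m.2) := by ring
          _ = 0 := by rw [this, mul_zero]
      · rw [if_neg h2, mul_zero]
    · rw [if_neg h1, zero_mul]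
  have hsplit : Finset.range (2 * p - 1) = Finset.range p ∪ Finset.Ico p (2 * p - 1) := by
    ext a; simp only [Finset.mem_range, Finset.mem_union, Finset.mem_Ico]; omega
  have hdisj : Disjoint (Finset.range p) (Finset.Ico p (2 * p - 1)) := by
    rw [Finset.disjoint_left]; intro a h1 h2
    rw [Finset.mem_range] at h1; rw [Finset.mem_Ico] at h2; omega
  rw [hsplit, Finset.sum_union hdisj, Finset.sum_congr rfl (fun d hd => hlow d (Finset.mem_range.mp hd)),
    Finset.sum_eq_sum_Ico_succ_bot (by omega), hmid]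
  rw [Finset.sum_eq_zero (fun d hd => hhigh d (by rw [Finset.mem_Ico] at hd; omega))]
  ring

end expId

section main

variable {R : Type*} [CommRing R]

/-- univariate substitutions -/
noncomputable def s1 : Polynomial R →ₐ[R] MvPolynomial (Fin 2) R :=
  Polynomial.aeval (X 0 : MvPolynomial (Fin 2) R)
noncomputable def s2 : Polynomial R →ₐ[R] MvPolynomial (Fin 2) R :=
  Polynomial.aeval (X 1 : MvPolynomial (Fin 2) R)
noncomputable def s12 : Polynomial R →ₐ[R] MvPolynomial (Fin 2) R :=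
  Polynomial.aeval (X 0 + X 1 : MvPolynomial (Fin 2) R)

/-- the normalization map `h ↦ h(X,0)` -/
noncomputable def nm : MvPolynomial (Fin 2) R →ₐ[R] MvPolynomial (Fin 2) R := aeval ![X 0, 0]

/-- normalized symmetric multiplicative 2-cocycles -/
structure IsMC (h : MvPolynomial (Fin 2) R) : Prop where
  norm : nm h = 1
  symm : sw h = h
  coc : d0 h * d2 h = d1 h * d3 h

lemma IsMC.constantCoeff {h : MvPolynomial (Fin 2) R} (hh : IsMC h) : coeff 0 h = 1 := by
  have h1 := congrArg (aeval (fun _ : Fin 2 => (0 : R))) hh.norm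
  rw [nm, ← AlgHom.comp_apply, comp_aeval, map_one] at h1
  have h2 : (fun i : Fin 2 => (aeval (fun _ : Fin 2 => (0 : R))) ((![X 0, 0] : Fin 2 → MvPolynomial (Fin 2) R) i))
      = fun _ => (0 : R) := by
    funext i; fin_cases i <;> simp
  rw [h2, aeval_zero'] at h1
  have h3 : MvPolynomial.constantCoeff h = 1 := by simpa using h1
  rwa [constantCoeff_eq] at h3

lemma isMC_one : IsMC (1 : MvPolynomial (Fin 2) R) := ⟨by simp, by simp, by simp⟩

lemma polyAeval_zero (f : Polynomial R) (hf : f.eval 0 = 1) :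
    Polynomial.aeval (0 : MvPolynomial (Fin 2) R) f = 1 := by
  rw [← Polynomial.coeff_zero_eq_aeval_zero', Polynomial.coeff_zero_eq_eval_zero, hf, map_one]

theorem IsMC.mul_delta {h : MvPolynomial (Fin 2) R} (hh : IsMC h) (f f' : Polynomial R)
    (hff : f * f' = 1) (hf0 : f.eval 0 = 1) : IsMC (h * s1 f * s2 f * s12 f') := by
  refine ⟨?_, ?_, ?_⟩
  · rw [map_mul, map_mul, map_mul, hh.norm]
    simp only [s1, s2, s12, nm, ← Polynomial.aeval_algHom_apply, map_add, aeval_X,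
      Matrix.cons_val_zero, Matrix.cons_val_one, add_zero]
    rw [polyAeval_zero f hf0, one_mul, mul_one, ← map_mul, hff, map_one]
  · rw [map_mul, map_mul, map_mul, hh.symm]
    simp only [s1, s2, s12, sw, ← Polynomial.aeval_algHom_apply, map_add, aeval_X,
      Matrix.cons_val_zero, Matrix.cons_val_one]
    rw [add_comm (X 1) (X 0)]
    ring
  · simp only [map_mul]
    simp only [s1, s2, s12, d0, d1, d2, d3, ← Polynomial.aeval_algHom_apply, map_add, aeval_X,
      Matrix.cons_val_zero, Matrix.cons_val_one]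
    have hc := hh.coc
    simp only [d0, d1, d2, d3] at hc
    rw [add_assoc (X 0) (X 1) (X 2)]
    have e1 : Polynomial.aeval (X 1 + X 2 : MvPolynomial (Fin 3) R) f
        * Polynomial.aeval (X 1 + X 2 : MvPolynomial (Fin 3) R) f' = 1 := by
      rw [← map_mul, hff, map_one]
    have e2 : Polynomial.aeval (X 0 + X 1 : MvPolynomial (Fin 3) R) f
        * Polynomial.aeval (X 0 + X 1 : MvPolynomial (Fin 3) R) f' = 1 := by
      rw [← map_mul, hff, map_one]
    generalize Polynomial.aeval (X 1 + X 2 : MvPolynomial (Fin 3) R) f = A12 at *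
    generalize Polynomial.aeval (X 1 + X 2 : MvPolynomial (Fin 3) R) f' = A12' at *
    generalize Polynomial.aeval (X 0 + X 1 : MvPolynomial (Fin 3) R) f = B01 at *
    generalize Polynomial.aeval (X 0 + X 1 : MvPolynomial (Fin 3) R) f' = B01' at *
    generalize Polynomial.aeval (X 0 + (X 1 + X 2) : MvPolynomial (Fin 3) R) f' = T' at *
    generalize Polynomial.aeval (X 0 : MvPolynomial (Fin 3) R) f = F0 at *
    generalize Polynomial.aeval (X 1 : MvPolynomial (Fin 3) R) f = F1 at *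
    generalize Polynomial.aeval (X 2 : MvPolynomial (Fin 3) R) f = F2 at *
    generalize (aeval ![(X 1 : MvPolynomial (Fin 3) R), X 2]) h = H0 at *
    generalize (aeval ![(X 0 + X 1 : MvPolynomial (Fin 3) R), X 2]) h = H1 at *
    generalize (aeval ![(X 0 : MvPolynomial (Fin 3) R), X 1 + X 2]) h = H2 at *
    generalize (aeval ![(X 0 : MvPolynomial (Fin 3) R), X 1]) h = H3 at *
    linear_combination (F0 * F1 * F2 * T' * A12 * A12') * hc + (H1 * H3 * F0 * F1 * F2 * T') * e1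
      - (H1 * H3 * F0 * F1 * F2 * T') * e2

lemma combine {h : MvPolynomial (Fin 2) R} (f f' g : Polynomial R) (hff : f * f' = 1)
    (hg : s12 g = s1 g * s2 g * (h * s1 f * s2 f * s12 f')) :
    s12 (g * f) = s1 (g * f) * s2 (g * f) * h := by
  have e : s12 f * s12 f' = 1 := by rw [← map_mul, hff, map_one]
  rw [map_mul, map_mul, map_mul, hg]
  linear_combination (s1 g * s2 g * h * s1 f * s2 f) * e

end main

section transfer

variable {R S : Type*} [CommRing R] [CommRing S] (π : R →+* S)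

lemma map_sw (F : MvPolynomial (Fin 2) R) : map π (sw F) = sw (map π F) := by
  show map π (bind₁ ![X 1, X 0] F) = bind₁ ![X 1, X 0] (map π F)
  rw [map_bind₁]
  congr 2
  funext i; fin_cases i <;> simp

lemma map_d0 (F : MvPolynomial (Fin 2) R) : map π (d0 F) = d0 (map π F) := by
  show map π (bind₁ ![X 1, X 2] F) = bind₁ ![X 1, X 2] (map π F)
  rw [map_bind₁]
  congr 2
  funext i; fin_cases i <;> simp

lemma map_d1 (F : MvPolynomial (Fin 2) R) : map π (d1 F) = d1 (map π F) := by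
  show map π (bind₁ ![X 0 + X 1, X 2] F) = bind₁ ![X 0 + X 1, X 2] (map π F)
  rw [map_bind₁]
  congr 2
  funext i; fin_cases i <;> simp

lemma map_d2 (F : MvPolynomial (Fin 2) R) : map π (d2 F) = d2 (map π F) := by
  show map π (bind₁ ![X 0, X 1 + X 2] F) = bind₁ ![X 0, X 1 + X 2] (map π F)
  rw [map_bind₁]
  congr 2
  funext i; fin_cases i <;> simp

lemma map_d3 (F : MvPolynomial (Fin 2) R) : map π (d3 F) = d3 (map π F) := by
  show map π (bind₁ ![X 0, X 1] F) = bind₁ ![X 0, X 1] (map π F)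
  rw [map_bind₁]
  congr 2
  funext i; fin_cases i <;> simp

lemma map_polyAeval {σ : Type*} (x : MvPolynomial σ R) (f : Polynomial R) :
    map π (Polynomial.aeval x f) = Polynomial.aeval (map π x) (f.map π) := by
  rw [Polynomial.aeval_def, Polynomial.aeval_def, Polynomial.hom_eval₂, Polynomial.eval₂_map]
  congr 1
  ext r
  simp [algebraMap_eq]

end transfer

section sqzero

variable {S : Type*} [CommRing S] (𝔞 : Ideal S)

lemma algHom_mem {σ τ : Type*} (φ : MvPolynomial σ S →ₐ[S] MvPolynomial τ S)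
    {P : MvPolynomial σ S} (hP : P ∈ Ideal.map (C : S →+* MvPolynomial σ S) 𝔞) :
    φ P ∈ Ideal.map (C : S →+* MvPolynomial τ S) 𝔞 := by
  have h1 : φ P ∈ Ideal.map (φ : MvPolynomial σ S →+* MvPolynomial τ S)
      (Ideal.map (C : S →+* MvPolynomial σ S) 𝔞) := Ideal.mem_map_of_mem _ hP
  rw [Ideal.map_map] at h1
  have h2 : ((φ : MvPolynomial σ S →+* MvPolynomial τ S).comp (C : S →+* MvPolynomial σ S))
      = (C : S →+* MvPolynomial τ S) := by
    ext r
    simp
  rwa [h2] at h1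

lemma mul_eq_zero_of_mem {σ : Type*} (h𝔞 : 𝔞 * 𝔞 = ⊥) {P Q : MvPolynomial σ S}
    (hP : P ∈ Ideal.map (C : S →+* MvPolynomial σ S) 𝔞)
    (hQ : Q ∈ Ideal.map (C : S →+* MvPolynomial σ S) 𝔞) : P * Q = 0 := by
  have h1 : P * Q ∈ Ideal.map (C : S →+* MvPolynomial σ S) 𝔞
      * Ideal.map (C : S →+* MvPolynomial σ S) 𝔞 := Ideal.mul_mem_mul hP hQ
  rw [← Ideal.map_mul, h𝔞, Ideal.map_bot] at h1
  exact h1

lemma polyAeval_mem {σ : Type*} (G : Polynomial S) (hG : ∀ d, G.coeff d ∈ 𝔞)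
    (x : MvPolynomial σ S) :
    Polynomial.aeval x G ∈ Ideal.map (C : S →+* MvPolynomial σ S) 𝔞 := by
  rw [Polynomial.aeval_eq_sum_range]
  refine Ideal.sum_mem _ fun d _ => ?_
  rw [smul_eq_C_mul]
  exact Ideal.mul_mem_right _ _ (Ideal.mem_map_of_mem _ (hG d))

omit 𝔞 in
lemma prod_one_add {B ι : Type*} [CommRing B] [DecidableEq ι] (s : Finset ι) (u : ι → B)
    (h : ∀ i ∈ s, ∀ j ∈ s, u i * u j = 0) : ∏ i ∈ s, (1 + u i) = 1 + ∑ i ∈ s, u i := by
  induction s using Finset.induction_on with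
  | empty => simp
  | insert a s ha ih =>
    rw [Finset.prod_insert ha, Finset.sum_insert ha,
      ih (fun i hi j hj => h i (Finset.mem_insert_of_mem hi) j (Finset.mem_insert_of_mem hj))]
    have : u a * ∑ i ∈ s, u i = 0 := by
      rw [Finset.mul_sum]
      exact Finset.sum_eq_zero fun i hi =>
        h a (Finset.mem_insert_self _ _) i (Finset.mem_insert_of_mem hi)
    linear_combination this

lemma cocyc_of_mul (h𝔞 : 𝔞 * 𝔞 = ⊥) (n : MvPolynomial (Fin 2) S)
    (hn : n ∈ Ideal.map (C : S →+* MvPolynomial (Fin 2) S) 𝔞)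
    (hc : d0 (1 + n) * d2 (1 + n) = d1 (1 + n) * d3 (1 + n)) : cocyc n = 0 := by
  have z02 := mul_eq_zero_of_mem 𝔞 h𝔞 (algHom_mem 𝔞 d0 hn) (algHom_mem 𝔞 d2 hn)
  have z13 := mul_eq_zero_of_mem 𝔞 h𝔞 (algHom_mem 𝔞 d1 hn) (algHom_mem 𝔞 d3 hn)
  simp only [map_add, map_one] at hc
  rw [cocyc]
  linear_combination hc - z02 + z13

end sqzero

section step

/-- general truncated exponential with given coefficients -/
def Eg {B : Type*} [CommRing B] (p : ℕ) (ω : ℕ → B) (z : B) : B :=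
  ∑ i ∈ Finset.range p, ω i * z ^ i

lemma Eg_eq {B : Type*} [CommRing B] (p : ℕ) (ω : ℕ → B) (z : B) (hp0 : 0 < p) :
    Eg p ω z = ω 0 + z * ∑ i ∈ Finset.range (p - 1), ω (i + 1) * z ^ i := by
  obtain ⟨q, rfl⟩ : ∃ q, p = q + 1 := ⟨p - 1, by omega⟩
  rw [Eg, Finset.sum_range_succ', Nat.add_sub_cancel, Finset.mul_sum]
  rw [pow_zero, mul_one, add_comm]
  congr 1
  refine Finset.sum_congr rfl fun i _ => ?_
  rw [pow_succ]; ring

variable {R : Type*} [CommRing R] (p : ℕ) [hp : Fact p.Prime] [CharP R p]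

theorem step (Im 𝔟 J : Ideal R)
    (hJ1 : Im * Im ≤ J) (hJ2 : Im * 𝔟 ≤ J) (hroot : ∀ a ∈ Im, ∃ b ∈ 𝔟, b ^ p = a)
    (hnil : ∀ b ∈ 𝔟, IsNilpotent b) (hJtop : J ≠ ⊤)
    (h : MvPolynomial (Fin 2) R) (hmc : IsMC h) (hh : ∀ m, coeff m (h - 1) ∈ Im) :
    ∃ f f' : Polynomial R, f * f' = 1 ∧ f.eval 0 = 1 ∧
      ∀ m, coeff m (h * s1 f * s2 f * s12 f' - 1) ∈ J := by
  classical
  have hp0 : 0 < p := hp.out.pos
  have hp1 : 1 < p := hp.out.one_lt
  have hImnil : ∀ a ∈ Im, IsNilpotent a := by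
    intro a ha
    obtain ⟨b, hb, rfl⟩ := hroot a ha
    exact (hnil b hb).pow_of_pos hp0.ne'
  -- the quotient
  let π : R →+* R ⧸ J := Ideal.Quotient.mk J
  have hπ : Function.Surjective π := Ideal.Quotient.mk_surjective
  have : CharP (R ⧸ J) p := CharP.quotient' p J (by
    intro x hx
    by_contra hne
    have hnd : ¬ p ∣ x := fun hd => hne ((CharP.cast_eq_zero_iff R p x).mpr hd)
    have hu : IsUnit (x : R) := (CharP.isUnit_natCast_iff hp.out).mpr hnd
    exact hJtop (Ideal.eq_top_of_isUnit_mem _ hx hu))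
  let 𝔞 : Ideal (R ⧸ J) := Im.map π
  have h𝔞 : 𝔞 * 𝔞 = ⊥ := by
    show Im.map π * Im.map π = ⊥
    rw [← Ideal.map_mul, Ideal.map_eq_bot_iff_le_ker, Ideal.mk_ker]
    exact hJ1
  have hkill : ∀ x ∈ J, π x = 0 := fun x hx => Ideal.Quotient.eq_zero_iff_mem.mpr hx
  set nb : MvPolynomial (Fin 2) (R ⧸ J) := map π (h - 1) with hnbdef
  have hnb1 : map π h = 1 + nb := by rw [hnbdef, map_sub, map_one]; ring
  have hnbmem : nb ∈ Ideal.map (C : (R ⧸ J) →+* MvPolynomial (Fin 2) (R ⧸ J)) 𝔞 := by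
    rw [mem_map_C_iff]
    intro m
    rw [hnbdef, coeff_map]
    exact Ideal.mem_map_of_mem π (hh m)
  have hsym : sw nb = nb := by
    rw [hnbdef, ← map_sw, map_sub, map_one, hmc.symm]
  have hcoc : cocyc nb = 0 := by
    apply cocyc_of_mul 𝔞 h𝔞 nb hnbmem
    rw [← hnb1, ← map_d0, ← map_d1, ← map_d2, ← map_d3, ← map_mul, ← map_mul, hmc.coc]
  obtain ⟨Gb, N, rb, hGb, hrb, hGb0, hnbeq⟩ :=
    lazard p nb hsym hcoc 𝔞 (fun i j => (mem_map_C_iff.mp hnbmem) _)
  have hGb0' : Gb.coeff 0 = 0 := by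
    rw [hGb0, co]
    have : m2 0 0 = 0 := by simp [m2]
    rw [this, hnbdef, coeff_map, coeff_sub, hmc.constantCoeff, coeff_zero_one, sub_self, map_zero,
      neg_zero]
  -- lifts
  have lift : ∀ s : R ⧸ J, s ∈ 𝔞 → ∃ a, a ∈ Im ∧ π a = s :=
    fun s hs => (Ideal.mem_map_iff_of_surjective π hπ).mp hs
  choose! ℓ hℓ using lift
  let g : Polynomial R := ∑ d ∈ Gb.support, Polynomial.monomial d (ℓ (Gb.coeff d))
  have hgc : ∀ d, g.coeff d = if d ∈ Gb.support then ℓ (Gb.coeff d) else 0 := by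
    intro d
    simp only [g, Polynomial.finsetSum_coeff, Polynomial.coeff_monomial]
    rw [Finset.sum_ite_eq' Gb.support d]
  have hgIm : ∀ d, g.coeff d ∈ Im := by
    intro d
    rw [hgc]
    split_ifs
    · exact (hℓ _ (hGb d)).1
    · exact Im.zero_mem
  have hgmap : g.map π = Gb := by
    ext d
    rw [Polynomial.coeff_map, hgc]
    split_ifs with hd
    · exact (hℓ _ (hGb d)).2
    · rw [map_zero]; exact (Polynomial.notMem_support_iff.mp hd).symm
  have hg0 : g.eval 0 = 0 := by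
    rw [← Polynomial.coeff_zero_eq_eval_zero, hgc, if_neg]
    rw [Polynomial.mem_support_iff]
    exact fun h => h hGb0'
  let a : ℕ → R := fun t => ℓ (rb t)
  have haIm : ∀ t, a t ∈ Im := fun t => (hℓ _ (hrb t)).1
  have haπ : ∀ t, π (a t) = rb t := fun t => (hℓ _ (hrb t)).2
  choose b hb𝔟 hbp using fun t => hroot (a t) (haIm t)
  have hbJ : ∀ t, a t * b t ∈ J := fun t => hJ2 (Ideal.mul_mem_mul (haIm t) (hb𝔟 t))
  let w : ℕ → R := fun i => Ring.inverse ((i.factorial : ℕ) : R)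
  have hw : ∀ i < p, ((i.factorial : ℕ) : R) * w i = 1 := by
    intro i hi
    apply Ring.mul_inverse_cancel
    rw [CharP.isUnit_natCast_iff hp.out]
    intro hd
    have := (hp.out.dvd_factorial).mp hd
    omega
  have hw0 : w 0 = 1 := by simp [w]
  let Z : ℕ → Polynomial R := fun t => Polynomial.C (b t) * Polynomial.X ^ (p ^ t)
  let f : Polynomial R :=
    (1 + g) * ∏ t ∈ Finset.range N, Eg p (fun i => Polynomial.C (w i)) (Z t)
  have hu1 : IsUnit (1 + g) := by
    have : IsNilpotent g := Polynomial.isNilpotent_iff.mpr (fun d => hImnil _ (hgIm d))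
    exact this.isUnit_one_add
  have hu2 : ∀ t, IsUnit (Eg p (fun i => Polynomial.C (w i)) (Z t)) := by
    intro t
    rw [Eg_eq p _ _ hp0, hw0, map_one]
    apply IsNilpotent.isUnit_one_add
    apply (Commute.all _ _).isNilpotent_mul_right
    apply (Commute.all _ _).isNilpotent_mul_right
    exact Polynomial.isNilpotent_C_iff.mpr (hnil _ (hb𝔟 t))
  have hfu : IsUnit f :=
    hu1.mul (Finset.prod_induction _ IsUnit (fun _ _ => IsUnit.mul) isUnit_one (fun t _ => hu2 t))
  obtain ⟨f', hff⟩ := hfu.exists_right_inv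
  have hf0 : f.eval 0 = 1 := by
    simp only [f, Polynomial.eval_mul, Polynomial.eval_add, Polynomial.eval_one, hg0, add_zero,
      one_mul, Polynomial.eval_prod]
    apply Finset.prod_eq_one
    intro t _
    rw [Eg_eq p _ _ hp0]
    simp [Z, hw0, zero_pow (pow_pos hp0 t).ne']
  refine ⟨f, f', hff, hf0, ?_⟩
  suffices hB : map π (s12 f) = map π h * map π (s1 f) * map π (s2 f) by
    intro m
    have h1 : map π (h * s1 f * s2 f * s12 f' - 1) = 0 := by
      rw [map_sub, map_mul, map_mul, map_mul, map_one, ← hB, ← map_mul, ← map_mul s12, hff,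
        map_one, map_one, sub_self]
    have h2 := congrArg (coeff m) h1
    rw [coeff_map, coeff_zero] at h2
    exact Ideal.Quotient.eq_zero_iff_mem.mp h2
  -- the computation over the quotient
  let ωb : ℕ → MvPolynomial (Fin 2) (R ⧸ J) := fun i => C (π (w i))
  let β : ℕ → MvPolynomial (Fin 2) (R ⧸ J) := fun t => C (π (b t))
  have hΦ : ∀ x : MvPolynomial (Fin 2) (R ⧸ J), Polynomial.aeval x (f.map π)
      = (1 + Polynomial.aeval x Gb) * ∏ t ∈ Finset.range N, Eg p ωb (β t * x ^ (p ^ t)) := by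
    intro x
    simp only [f, Polynomial.map_mul, Polynomial.map_add, Polynomial.map_one, hgmap,
      Polynomial.map_prod, map_mul, map_add, map_one, map_prod]
    congr 1
    refine Finset.prod_congr rfl fun t _ => ?_
    simp only [Eg, Z, Polynomial.map_sum, Polynomial.map_mul, Polynomial.map_pow,
      Polynomial.map_C, Polynomial.map_X, map_sum, map_mul, map_pow, Polynomial.aeval_C,
      Polynomial.aeval_X, algebraMap_eq]
    rfl
  have e12 : map π (s12 f) = Polynomial.aeval (X 0 + X 1 : MvPolynomial (Fin 2) (R ⧸ J)) (f.map π) := by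
    rw [s12, map_polyAeval]; simp
  have e1 : map π (s1 f) = Polynomial.aeval (X 0 : MvPolynomial (Fin 2) (R ⧸ J)) (f.map π) := by
    rw [s1, map_polyAeval]; simp
  have e2 : map π (s2 f) = Polynomial.aeval (X 1 : MvPolynomial (Fin 2) (R ⧸ J)) (f.map π) := by
    rw [s2, map_polyAeval]; simp
  have hωb : ∀ i < p, ((i.factorial : ℕ) : MvPolynomial (Fin 2) (R ⧸ J)) * ωb i = 1 := by
    intro i hi
    show ((i.factorial : ℕ) : MvPolynomial (Fin 2) (R ⧸ J)) * C (π (w i)) = 1
    rw [← map_natCast (C : (R ⧸ J) →+* MvPolynomial (Fin 2) (R ⧸ J)), ← map_natCast π, ← map_mul,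
      ← map_mul, hw i hi, map_one, map_one]
  have hωb0 : ωb 0 = 1 := by
    show C (π (w 0)) = 1
    rw [hw0, map_one, map_one]
  have hβp : ∀ t, β t ^ p = C (rb t) := by
    intro t
    show C (π (b t)) ^ p = C (rb t)
    rw [← map_pow, ← map_pow, hbp t, haπ t]
  have hβr : ∀ t, β t * C (rb t) = 0 := by
    intro t
    show C (π (b t)) * C (rb t) = 0
    rw [← haπ t, ← map_mul, ← map_mul, mul_comm, hkill _ (hbJ t), map_zero]
  have hβp1 : ∀ t, β t ^ (p + 1) = 0 := by
    intro t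
    rw [pow_succ, hβp, mul_comm, hβr]
  let u : ℕ → MvPolynomial (Fin 2) (R ⧸ J) := fun t => C (rb t) * tw (p ^ t) (Spoly p)
  have hu𝔄 : ∀ t, u t ∈ Ideal.map (C : (R ⧸ J) →+* MvPolynomial (Fin 2) (R ⧸ J)) 𝔞 :=
    fun t => Ideal.mul_mem_right _ _ (Ideal.mem_map_of_mem _ (hrb t))
  have hE : ∀ t, Eg p ωb (β t * (X 0 + X 1) ^ (p ^ t))
      = Eg p ωb (β t * X 0 ^ (p ^ t)) * Eg p ωb (β t * X 1 ^ (p ^ t)) * (1 + u t) := by
    intro t
    set x := β t * (X 0 : MvPolynomial (Fin 2) (R ⧸ J)) ^ (p ^ t) with hx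
    set y := β t * (X 1 : MvPolynomial (Fin 2) (R ⧸ J)) ^ (p ^ t) with hy
    have hxy : β t * (X 0 + X 1) ^ (p ^ t) = x + y := by
      rw [add_pow_char_pow, mul_add]
    have hvan : ∀ i j, i < p → j < p → p < i + j → x ^ i * y ^ j = 0 := by
      intro i j _ _ hij
      have : x ^ i * y ^ j = β t ^ (p + 1) * (β t ^ (i + j - (p + 1))
          * (X 0 ^ (p ^ t)) ^ i * (X 1 ^ (p ^ t)) ^ j) := by
        rw [hx, hy, mul_pow, mul_pow]
        have : β t ^ i * β t ^ j = β t ^ (p + 1) * β t ^ (i + j - (p + 1)) := by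
          rw [← pow_add, ← pow_add]; congr 1; omega
        linear_combination ((X 0 ^ (p ^ t)) ^ i * (X 1 ^ (p ^ t)) ^ j) * this
      rw [this, hβp1, zero_mul]
    have hid := expId p ωb hωb x y hvan
    have hsum : ∑ j ∈ Finset.Ioo 0 p, (((p.choose j / p : ℕ)) : MvPolynomial (Fin 2) (R ⧸ J))
        * x ^ j * y ^ (p - j) = u t := by
      show _ = C (rb t) * tw (p ^ t) (Spoly p)
      rw [Spoly, map_sum, Finset.mul_sum]
      refine Finset.sum_congr rfl fun j hj => ?_
      rw [Finset.mem_Ioo] at hj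
      have hβ : β t ^ j * β t ^ (p - j) = C (rb t) := by
        rw [← pow_add, ← hβp]; congr 1; omega
      simp only [tw, map_mul, map_pow, aeval_X, aeval_C, Matrix.cons_val_zero, Matrix.cons_val_one,
        algebraMap_eq]
      rw [hx, hy, mul_pow, mul_pow, map_natCast]
      linear_combination (((p.choose j / p : ℕ) : MvPolynomial (Fin 2) (R ⧸ J))
        * (X 0 ^ (p ^ t)) ^ j * (X 1 ^ (p ^ t)) ^ (p - j)) * hβ
    have hxu : x * u t = 0 := by
      show x * (C (rb t) * tw (p ^ t) (Spoly p)) = 0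
      rw [hx]
      linear_combination (X 0 ^ (p ^ t) * tw (p ^ t) (Spoly p)) * hβr t
    have hyu : y * u t = 0 := by
      show y * (C (rb t) * tw (p ^ t) (Spoly p)) = 0
      rw [hy]
      linear_combination (X 1 ^ (p ^ t) * tw (p ^ t) (Spoly p)) * hβr t
    rw [hxy]
    have ex := Eg_eq p ωb x hp0
    have ey := Eg_eq p ωb y hp0
    rw [hωb0] at ex ey
    have hid' : Eg p ωb x * Eg p ωb y = Eg p ωb (x + y) - u t := by
      rw [← hsum]; exact hid
    set vx := ∑ i ∈ Finset.range (p - 1), ωb (i + 1) * x ^ i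
    set vy := ∑ i ∈ Finset.range (p - 1), ωb (i + 1) * y ^ i
    have hz : (Eg p ωb x * Eg p ωb y - 1) * u t = 0 := by
      rw [ex, ey]
      linear_combination (vx + vx * y * vy) * hxu + vy * hyu
    linear_combination (-1 : MvPolynomial (Fin 2) (R ⧸ J)) * hid' - hz
  rw [e12, e1, e2, hΦ, hΦ, hΦ, hnb1]
  rw [Finset.prod_congr rfl (fun t _ => hE t), Finset.prod_mul_distrib, Finset.prod_mul_distrib]
  have hprod : ∏ t ∈ Finset.range N, (1 + u t) = 1 + ∑ t ∈ Finset.range N, u t := by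
    apply prod_one_add
    intro i _ j _
    exact mul_eq_zero_of_mem 𝔞 h𝔞 (hu𝔄 i) (hu𝔄 j)
  rw [hprod]
  set PX := ∏ t ∈ Finset.range N, Eg p ωb (β t * X 0 ^ (p ^ t))
  set PY := ∏ t ∈ Finset.range N, Eg p ωb (β t * X 1 ^ (p ^ t))
  set U := ∑ t ∈ Finset.range N, u t with hU
  have hU𝔄 : U ∈ Ideal.map (C : (R ⧸ J) →+* MvPolynomial (Fin 2) (R ⧸ J)) 𝔞 :=
    Ideal.sum_mem _ fun t _ => hu𝔄 t
  set y12 := Polynomial.aeval (X 0 + X 1 : MvPolynomial (Fin 2) (R ⧸ J)) Gb with hy12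
  set y1 := Polynomial.aeval (X 0 : MvPolynomial (Fin 2) (R ⧸ J)) Gb with hy1
  set y2 := Polynomial.aeval (X 1 : MvPolynomial (Fin 2) (R ⧸ J)) Gb with hy2
  have m12 := polyAeval_mem 𝔞 Gb hGb (X 0 + X 1 : MvPolynomial (Fin 2) (R ⧸ J))
  have m1 := polyAeval_mem 𝔞 Gb hGb (X 0 : MvPolynomial (Fin 2) (R ⧸ J))
  have m2' := polyAeval_mem 𝔞 Gb hGb (X 1 : MvPolynomial (Fin 2) (R ⧸ J))
  have e : nb = y12 - y1 - y2 + U := by
    rw [hnbeq]; rfl
  have z1 : y12 * U = 0 := mul_eq_zero_of_mem 𝔞 h𝔞 m12 hU𝔄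
  have z2 : nb * y1 = 0 := mul_eq_zero_of_mem 𝔞 h𝔞 hnbmem m1
  have z3 : nb * y2 = 0 := mul_eq_zero_of_mem 𝔞 h𝔞 hnbmem m2'
  have z4 : y1 * y2 = 0 := mul_eq_zero_of_mem 𝔞 h𝔞 m1 m2'
  linear_combination (PX * PY) * ((-1 : MvPolynomial (Fin 2) (R ⧸ J)) * e + z1 - z2 - z3 - z4 - y2 * z2)

end step

section final

variable {R : Type*} [CommRing R] (p : ℕ) [hp : Fact p.Prime] [CharP R p]

lemma root_of_mem_mul (hF : Function.Surjective (frobenius R p)) (𝔟 I K : Ideal R)
    (hI : ∀ a ∈ I, ∃ b ∈ 𝔟, b ^ p = a) : ∀ a ∈ I * K, ∃ b ∈ 𝔟, b ^ p = a := by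
  intro a ha
  refine Submodule.mul_induction_on ha ?_ ?_
  · intro x hx y _
    obtain ⟨ξ, hξ, rfl⟩ := hI x hx
    obtain ⟨η, hη⟩ := hF y
    refine ⟨ξ * η, 𝔟.mul_mem_right _ hξ, ?_⟩
    rw [mul_pow, ← hη]; rfl
  · rintro x y ⟨b1, h1, rfl⟩ ⟨b2, h2, rfl⟩
    exact ⟨b1 + b2, 𝔟.add_mem h1 h2, add_pow_char b1 b2 p⟩

theorem main (hF : Function.Surjective (frobenius R p)) (𝔟 I : Ideal R)
    (hI : ∀ a ∈ I, ∃ b ∈ 𝔟, b ^ p = a) :
    ∀ k m, 𝔟 ^ (m + k) = ⊥ → ∀ h : MvPolynomial (Fin 2) R, IsMC h →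
      (∀ μ, coeff μ (h - 1) ∈ I * 𝔟 ^ m) →
      ∃ f : Polynomial R, IsUnit f ∧ s12 f = s1 f * s2 f * h := by
  intro k
  induction k with
  | zero =>
    intro m hm h hmc hh
    have h1 : h = 1 := by
      have h0 : I * 𝔟 ^ m = ⊥ := by rw [add_zero] at hm; rw [hm, Ideal.mul_bot]
      have : h - 1 = 0 := by
        ext μ
        have := hh μ
        rw [h0] at this
        simpa using this
      exact sub_eq_zero.mp this
    subst h1
    exact ⟨1, isUnit_one, by simp⟩
  | succ k ih =>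
    intro m hm h hmc hh
    have hp0 := hp.out.pos
    have hI𝔟 : I ≤ 𝔟 := by
      intro a ha
      obtain ⟨b, hb, rfl⟩ := hI a ha
      exact Ideal.pow_mem_of_mem 𝔟 hb p hp0
    have h𝔟nil : ∀ b ∈ 𝔟, IsNilpotent b := by
      intro b hb
      refine ⟨m + (k + 1), ?_⟩
      have := Ideal.pow_mem_pow hb (m + (k + 1))
      rw [hm] at this
      exact this
    have hnt : Nontrivial R := CharP.nontrivial_of_char_ne_one (R := R) hp.out.ne_one
    have h𝔟top : 𝔟 ≠ ⊤ := by
      rintro rfl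
      rw [Ideal.top_pow] at hm
      exact top_ne_bot hm
    have hJ1 : (I * 𝔟 ^ m) * (I * 𝔟 ^ m) ≤ I * 𝔟 ^ (m + 1) := by
      calc (I * 𝔟 ^ m) * (I * 𝔟 ^ m) ≤ (I * 𝔟 ^ m) * 𝔟 :=
            Ideal.mul_mono_right (Ideal.mul_le_left.trans hI𝔟)
        _ = I * 𝔟 ^ (m + 1) := by rw [mul_assoc, ← pow_succ]
    have hJ2 : (I * 𝔟 ^ m) * 𝔟 ≤ I * 𝔟 ^ (m + 1) := by
      rw [mul_assoc, ← pow_succ]
    have hJtop : I * 𝔟 ^ (m + 1) ≠ ⊤ := by
      intro htop
      apply h𝔟top
      rw [eq_top_iff, ← htop]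
      exact Ideal.mul_le_left.trans hI𝔟
    obtain ⟨f, f', hff, hf0, hJ⟩ := step p (I * 𝔟 ^ m) 𝔟 (I * 𝔟 ^ (m + 1)) hJ1 hJ2
      (root_of_mem_mul p hF 𝔟 I _ hI) h𝔟nil hJtop h hmc hh
    have hmc' := hmc.mul_delta f f' hff hf0
    obtain ⟨g, hgu, hg⟩ := ih (m + 1) (by rw [← hm]; congr 1; omega) _ hmc' hJ
    exact ⟨g * f, hgu.mul (IsUnit.of_mul_eq_one _ hff), combine f f' g hff hg⟩

theorem ext_split (hF : Function.Surjective (frobenius R p))
    (h : MvPolynomial (Fin 2) R) (hu : IsUnit h) (hmc : IsMC h) :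
    ∃ f : Polynomial R, IsUnit f ∧ s12 f = s1 f * s2 f * h := by
  classical
  have hp0 := hp.out.pos
  have hnil : ∀ μ, IsNilpotent (coeff μ (h - 1)) := by
    intro μ
    by_cases hμ : μ = 0
    · subst hμ
      rw [coeff_sub, hmc.constantCoeff, coeff_zero_one, sub_self]
      exact IsNilpotent.zero
    · rw [coeff_sub, coeff_one, if_neg (Ne.symm hμ), sub_zero]
      exact (MvPolynomial.isUnit_iff.mp hu).2 μ hμ
  let T := (h - 1).support
  choose γ hγ using fun μ : Fin 2 →₀ ℕ => hF (coeff μ (h - 1))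
  let 𝔟 : Ideal R := Ideal.span (γ '' (T : Set (Fin 2 →₀ ℕ)))
  let I : Ideal R := Ideal.span ((fun μ => coeff μ (h - 1)) '' (T : Set (Fin 2 →₀ ℕ)))
  have hI : ∀ a ∈ I, ∃ b ∈ 𝔟, b ^ p = a := by
    intro a ha
    induction ha using Submodule.span_induction with
    | mem x hx =>
      obtain ⟨μ, hμ, rfl⟩ := hx
      exact ⟨γ μ, Ideal.subset_span ⟨μ, hμ, rfl⟩, hγ μ⟩
    | zero => exact ⟨0, 𝔟.zero_mem, zero_pow hp0.ne'⟩
    | add x y _ _ hx hy =>
      obtain ⟨b1, h1, rfl⟩ := hx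
      obtain ⟨b2, h2, rfl⟩ := hy
      exact ⟨b1 + b2, 𝔟.add_mem h1 h2, add_pow_char b1 b2 p⟩
    | smul r x _ hx =>
      obtain ⟨b, hb, rfl⟩ := hx
      obtain ⟨ρ, hρ⟩ := hF r
      refine ⟨ρ * b, 𝔟.mul_mem_left _ hb, ?_⟩
      rw [mul_pow, smul_eq_mul, ← hρ]; rfl
  have h𝔟fg : 𝔟.FG := ⟨T.image γ, by simp [𝔟, Finset.coe_image]⟩
  have h𝔟rad : 𝔟 ≤ (⊥ : Ideal R).radical := by
    rw [Ideal.span_le]
    rintro _ ⟨μ, _, rfl⟩
    show γ μ ∈ nilradical R
    rw [mem_nilradical]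
    have : IsNilpotent (γ μ ^ p) := by
      have := hγ μ
      rw [frobenius_def] at this
      rw [this]; exact hnil μ
    exact (IsNilpotent.pow_iff_pos hp0.ne').mp this
  obtain ⟨n, hn⟩ := Ideal.exists_pow_le_of_le_radical_of_fg h𝔟rad h𝔟fg
  have hn' : 𝔟 ^ (0 + n) = ⊥ := by rw [zero_add]; exact le_bot_iff.mp hn
  refine main p hF 𝔟 I hI n 0 hn' h hmc ?_
  intro μ
  rw [pow_zero, mul_one]
  by_cases hμ : μ ∈ T
  · exact Ideal.subset_span ⟨μ, hμ, rfl⟩
  · rw [notMem_support_iff.mp hμ]; exact I.zero_mem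

end final

end Groth.Agent.GaGmExt
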