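import Groth.Agent.Lib.GaLaw2_helper5

universe u
open CategoryTheory MonoidalCategory CartesianMonoidalCategory MonObj GrpObj AlgebraicGeometry Opposite
open Polynomial TensorProduct Limits

namespace Groth.Agent.GaIso

attribute [-instance] ULift.module

/-- `ULift ℤ`-algebra structure on a ring. -/
noncomputable local instance algZ (k : Type u) [Field k] : Algebra (ULift.{u} ℤ) k := ULift.algebra' ℤ k

/-- `ULift ℤ`-algebra structure on `k[X]`. -/
noncomputable local instance algZX (k : Type u) [Field k] : Algebra (ULift.{u} ℤ) k[X] :=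
  ULift.algebra' ℤ k[X]

lemma symm_congr_fst {X Y S : Scheme.{u}} (f f' : X ⟶ S) (g g' : Y ⟶ S) (hf : f = f') (hg : g = g') :
    (pullbackSymmetry f g).hom ≫ (pullback.congrHom hg hf).hom ≫ pullback.fst g' f' =
      pullback.snd f g := by
  subst hf hg; simp

variable (k : Type u) [Field k]

abbrev Sym := SymmetricAlgebra (ULift.{u} ℤ) (ULift.{u} ℤ)

lemma t_eq : IsTerminal.from specULiftZIsTerminal (Spec (CommRingCat.of k)) =
    Spec.map (CommRingCat.ofHom (algebraMap (ULift.{u} ℤ) k)) := specULiftZIsTerminal.hom_ext _ _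

/-- the coordinate algebra. -/
noncomputable abbrev A : CommAlgCat.{u} (CommRingCat.of k) := CommAlgCat.of k (k ⊗[ULift.{u} ℤ] Sym.{u})

noncomputable def αleft' : pullback (Spec.map (CommRingCat.ofHom (algebraMap (ULift.{u} ℤ) Sym.{u})))
      (IsTerminal.from specULiftZIsTerminal (Spec (CommRingCat.of k))) ≅
    Spec (CommRingCat.of (k ⊗[ULift.{u} ℤ] Sym.{u})) :=
  pullbackSymmetry _ _ ≪≫ pullback.congrHom (t_eq k) rfl ≪≫ pullbackSpecIso (ULift.{u} ℤ) k Sym.{u}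

lemma αleft'_w : (αleft' k).hom ≫ Spec.map (CommRingCat.ofHom (algebraMap k (k ⊗[ULift.{u} ℤ] Sym.{u}))) =
    pullback.snd _ _ := by
  simp only [αleft', Iso.trans_hom, Category.assoc]
  rw [pullbackSpecIso_hom_fst']
  exact symm_congr_fst _ _ _ _ _ _

noncomputable def α : Red.Ga (Spec (CommRingCat.of k)) ≅ (algSpec (CommRingCat.of k)).obj (op (A k)) :=
  Over.isoMk (αleft' k) (αleft'_w k)

/-- `z ↦ z • X`. -/
noncomputable def ell : ULift.{u} ℤ →ₗ[ULift.{u} ℤ] k[X] :=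
  LinearMap.toSpanSingleton (ULift.{u} ℤ) k[X] X

noncomputable def fwd : k[X] →ₐ[k] k ⊗[ULift.{u} ℤ] Sym.{u} :=
  aeval ((1 : k) ⊗ₜ[ULift.{u} ℤ] SymmetricAlgebra.ι (ULift.{u} ℤ) (ULift.{u} ℤ) (ULift.up 1))

noncomputable def bwd : k ⊗[ULift.{u} ℤ] Sym.{u} →ₐ[k] k[X] :=
  Algebra.TensorProduct.lift (Algebra.ofId k k[X]) (SymmetricAlgebra.lift (ell k))
    (fun _ _ => Commute.all _ _)

lemma bwd_fwd : (bwd k).comp (fwd k) = AlgHom.id k k[X] := by
  apply Polynomial.algHom_ext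
  have h1 : (ULift.up 1 : ULift.{u} ℤ) = 1 := rfl
  simp [fwd, bwd, ell, h1, SymmetricAlgebra.lift_ι_apply]

lemma fwd_bwd : (fwd k).comp (bwd k) = AlgHom.id k _ := by
  apply Algebra.TensorProduct.ext
  · ext
  · apply SymmetricAlgebra.algHom_ext
    ext
    have h1 : (ULift.up 1 : ULift.{u} ℤ) = 1 := rfl
    simp [fwd, bwd, ell, SymmetricAlgebra.lift_ι_apply, h1]

noncomputable def φ : k[X] ≃ₐ[k] k ⊗[ULift.{u} ℤ] Sym.{u} :=
  AlgEquiv.ofAlgHom (fwd k) (bwd k) (fwd_bwd k) (bwd_fwd k)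

theorem main (h₁ h₂ : GrpObj (Red.Ga (Spec (CommRingCat.of k)))) (e : h₁.one = h₂.one) :
    h₁.mul = h₂.mul :=
  Groth.Agent.GrpLawRed.mul_eq_of_iso (A k) (α k)
    (fun g₁ g₂ h => Groth.Agent.GaLaw2.grpObj_mul_eq_of_polyEquiv (A k) (φ k) g₁ g₂ h) h₁ h₂ e

end Groth.Agent.GaIso
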