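import Groth.Prelude.Def_Red2

/-!
# Reduction of uniqueness of group laws on an affine `k`-scheme to Hopf algebra structures (helper5)
-/

universe u
open CategoryTheory MonoidalCategory CartesianMonoidalCategory MonObj GrpObj AlgebraicGeometry Opposite

namespace Groth.Agent.GrpLawRed

variable {K : CommRingCat.{u}}

/-- Transport a group structure on `G ≅ Spec A` to a group structure on `op A`. -/
noncomputable def toOp {G : Over (Spec K)} (A : CommAlgCat.{u} K) (α : G ≅ (algSpec K).obj (op A))
    [GrpObj G] : GrpObj (op A) :=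
  letI : GrpObj ((algSpec K).obj (op A)) := GrpObj.ofIso α
  (algSpec.fullyFaithful (R := K)).grpObj (op A)

lemma toOp_one {G : Over (Spec K)} (A : CommAlgCat.{u} K) (α : G ≅ (algSpec K).obj (op A))
    [GrpObj G] : (toOp A α).one =
      (algSpec.fullyFaithful (R := K)).preimage
        (Functor.OplaxMonoidal.η (algSpec K) ≫ (η[G] ≫ α.hom)) := rfl

lemma toOp_mul {G : Over (Spec K)} (A : CommAlgCat.{u} K) (α : G ≅ (algSpec K).obj (op A))
    [GrpObj G] : (toOp A α).mul =
      (algSpec.fullyFaithful (R := K)).preimage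
        (Functor.OplaxMonoidal.δ (algSpec K) (op A) (op A) ≫
          ((α.inv ⊗ₘ α.inv) ≫ μ[G] ≫ α.hom)) := rfl

/-- If `G ≅ Spec A` over `Spec K` and group structures on `op A` (in `(CommAlgCat K)ᵒᵖ`) are determined by
their unit, then so are group structures on `G`. -/
theorem mul_eq_of_iso {G : Over (Spec K)} (A : CommAlgCat.{u} K) (α : G ≅ (algSpec K).obj (op A))
    (H : ∀ g₁ g₂ : GrpObj (op A), g₁.one = g₂.one → g₁.mul = g₂.mul)
    (h₁ h₂ : GrpObj G) (e : h₁.one = h₂.one) : h₁.mul = h₂.mul := by
  have h1 : (@toOp _ G A α h₁).one = (@toOp _ G A α h₂).one := by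
    rw [toOp_one, toOp_one, e]
  have h2 := H _ _ h1
  rw [toOp_mul, toOp_mul] at h2
  have h3 := congrArg (algSpec K).map h2
  simp only [Functor.FullyFaithful.map_preimage] at h3
  rw [cancel_epi] at h3
  rw [cancel_epi] at h3
  rwa [cancel_mono] at h3

end Groth.Agent.GrpLawRed
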