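import Groth.Agent.Lib.GaLaw_helper5
import Groth.Agent.Lib.GrpLawRed_helper5

universe u
open CategoryTheory MonoidalCategory CartesianMonoidalCategory MonObj GrpObj AlgebraicGeometry Opposite
open Polynomial TensorProduct

namespace Groth.Agent.GaLaw2

theorem grpObj_mul_eq_of_polyEquiv {k : Type u} [Field k] (A : CommAlgCat.{u} k) (φ : k[X] ≃ₐ[k] A)
    (g₁ g₂ : GrpObj (op A)) (h : g₁.one = g₂.one) : g₁.mul = g₂.mul := by
  let H₁ : HopfAlgebra k A := @instHopfAlgebraCarrierUnopCommAlgCatOfGrpObjOpposite k _ (op A) g₁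
  let H₂ : HopfAlgebra k A := @instHopfAlgebraCarrierUnopCommAlgCatOfGrpObjOpposite k _ (op A) g₂
  have c1 := @Groth.Agent.GaLaw.comul_eq k _ A _ H₁ φ
  have c2 := @Groth.Agent.GaLaw.comul_eq k _ A _ H₂ φ
  have he : @Groth.Agent.GaLaw.e k _ A _ H₁ φ = @Groth.Agent.GaLaw.e k _ A _ H₂ φ := by
    show g₁.one.unop.hom (φ X) = g₂.one.unop.hom (φ X)
    rw [h]
  apply Quiver.Hom.unop_inj
  apply CommAlgCat.hom_ext
  have key : ∀ f g : A →ₐ[k] (op A ⊗ op A).unop, f (φ X) = g (φ X) → f = g := by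
    intro f g hfg
    have : f.comp φ.toAlgHom = g.comp φ.toAlgHom := Polynomial.algHom_ext (by simpa using hfg)
    ext x
    obtain ⟨y, rfl⟩ := φ.surjective x
    exact congr($this y)
  apply key
  show @CoalgebraStruct.comul k A _ _ _ H₁.toCoalgebra.toCoalgebraStruct (φ X) = @CoalgebraStruct.comul k A _ _ _ H₂.toCoalgebra.toCoalgebraStruct (φ X)
  rw [c1, c2, he]

end Groth.Agent.GaLaw2
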