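import Mathlib

/-!
# Hopf algebra structures on a polynomial ring in one variable over a field (helper5)

For a Hopf algebra structure on `P ≅ k[X]` (as `k`-algebras), the comultiplication is
`X ↦ X ⊗ 1 + 1 ⊗ X - ε(X)`.  The proof uses the functor of points (convolution monoid on
`P →ₐ[k] B`) and the fact that right translation by the point `y` of `k[y]` is an automorphism
of `k[y][x]`, hence of degree one.
-/

universe u
open Polynomial TensorProduct WithConv Coalgebra

namespace Groth.Agent.GaLaw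

section Generic
variable {k : Type*} [CommRing k] {P : Type*} [CommRing P] [HopfAlgebra k P]
variable {B B' : Type*} [CommRing B] [Algebra k B] [CommRing B'] [Algebra k B']

/-- push a point along `θ`. -/
noncomputable def push (θ : B →ₐ[k] B') (f : WithConv (P →ₐ[k] B)) : WithConv (P →ₐ[k] B') :=
  toConv (θ.comp f.ofConv)

lemma push_mul (θ : B →ₐ[k] B') (f g : WithConv (P →ₐ[k] B)) :
    push θ (f * g) = push θ f * push θ g := by
  apply WithConv.ext
  exact AlgHom.comp_convMul_distrib θ f g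

lemma push_one (θ : B →ₐ[k] B') : push θ (1 : WithConv (P →ₐ[k] B)) = 1 := by
  apply WithConv.ext
  apply AlgHom.ext; intro x
  simp [push, AlgHom.convOne_def]

/-- the left inverse of a point. -/
noncomputable def linv (f : WithConv (P →ₐ[k] B)) : WithConv (P →ₐ[k] B) :=
  toConv (f.ofConv.comp (HopfAlgebra.antipodeAlgHom k P))

lemma linv_mul (f : WithConv (P →ₐ[k] B)) : linv f * f = 1 := by
  have h := AlgHom.antipode_id_cancel (R := k) (A := P)
  have h2 := congrArg (push f.ofConv) h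
  rw [push_mul, push_one] at h2
  have h3 : push f.ofConv (toConv (AlgHom.id k P)) = f := by
    apply WithConv.ext
    exact AlgHom.comp_id _
  rw [h3] at h2
  exact h2

lemma mul_linv_mul (a c : WithConv (P →ₐ[k] B)) : a * linv c * c = a := by
  rw [mul_assoc, linv_mul, mul_one]

lemma includeLeft_mul_includeRight :
    (toConv (Algebra.TensorProduct.includeLeft : P →ₐ[k] P ⊗[k] P)) *
      toConv (Algebra.TensorProduct.includeRight : P →ₐ[k] P ⊗[k] P) =
      toConv (Bialgebra.comulAlgHom k P) := by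
  apply WithConv.ext
  rw [AlgHom.convMul_def]
  show (Algebra.TensorProduct.lmul' k).comp
    ((Algebra.TensorProduct.map Algebra.TensorProduct.includeLeft
      Algebra.TensorProduct.includeRight).comp (Bialgebra.comulAlgHom k P)) =
      Bialgebra.comulAlgHom k P
  have : (Algebra.TensorProduct.lmul' k).comp
      (Algebra.TensorProduct.map (Algebra.TensorProduct.includeLeft : P →ₐ[k] P ⊗[k] P)
      (Algebra.TensorProduct.includeRight : P →ₐ[k] P ⊗[k] P)) = AlgHom.id k (P ⊗[k] P) := by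
    ext x <;> simp
  rw [← AlgHom.comp_assoc, this, AlgHom.id_comp]

end Generic

section Ga
variable {k : Type u} [Field k] {P : Type u} [CommRing P] [HopfAlgebra k P] (φ : k[X] ≃ₐ[k] P)
variable {B B' : Type*} [CommRing B] [Algebra k B] [CommRing B'] [Algebra k B']

/-- the point of `Spec P` with coordinate `b`. -/
noncomputable def pt (b : B) : WithConv (P →ₐ[k] B) :=
  toConv ((aeval b).comp φ.symm.toAlgHom)

/-- the coordinate of a point. -/
noncomputable def ev (f : WithConv (P →ₐ[k] B)) : B := f.ofConv (φ X)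

lemma ev_pt (b : B) : ev φ (pt φ b) = b := by simp [ev, pt]

lemma pt_ev (f : WithConv (P →ₐ[k] B)) : pt φ (ev φ f) = f := by
  apply WithConv.ext
  have : (aeval (f.ofConv (φ X)) : k[X] →ₐ[k] B) = f.ofConv.comp φ.toAlgHom := by
    apply Polynomial.algHom_ext; simp
  show (aeval (f.ofConv (φ X))).comp φ.symm.toAlgHom = f.ofConv
  rw [this]; ext x; simp

lemma push_pt (θ : B →ₐ[k] B') (b : B) : push θ (pt φ b) = pt φ (θ b) := by
  apply WithConv.ext
  show θ.comp ((aeval b).comp φ.symm.toAlgHom) = (aeval (θ b)).comp φ.symm.toAlgHom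
  rw [aeval_algHom, AlgHom.comp_assoc]

lemma ev_push (θ : B →ₐ[k] B') (f : WithConv (P →ₐ[k] B)) : ev φ (push θ f) = θ (ev φ f) := rfl

/-- the group law on coordinates. -/
noncomputable def op (a b : B) : B := ev φ (pt φ a * pt φ b)

lemma map_op (θ : B →ₐ[k] B') (a b : B) : θ (op φ a b) = op φ (θ a) (θ b) := by
  unfold op; rw [← ev_push, push_mul, push_pt, push_pt]

lemma pt_op (a b : B) : pt φ (op φ a b) = pt φ a * pt φ b := pt_ev φ _

/-- the coordinate of the unit section. -/
noncomputable def e : k := counit (R := k) (φ X)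

lemma pt_e : pt φ (algebraMap k B (e φ)) = 1 := by
  rw [← pt_ev φ (1 : WithConv (P →ₐ[k] B))]
  rfl

lemma op_e_left (a : B) : op φ (algebraMap k B (e φ)) a = a := by
  unfold op; rw [pt_e, one_mul, ev_pt]

lemma op_e_right (a : B) : op φ a (algebraMap k B (e φ)) = a := by
  unfold op; rw [pt_e, mul_one, ev_pt]

/-- substitution `x ↦ f` in `k[y][x]`. -/
noncomputable def subst (f : k[X][X]) : k[X][X] →ₐ[k] k[X][X] :=
  (aeval f : k[X][X] →ₐ[k[X]] k[X][X]).restrictScalars k

lemma subst_apply (f p : k[X][X]) : subst f p = p.comp f := rfl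

lemma subst_X (f : k[X][X]) : subst f X = f := by simp [subst]

lemma subst_C (f : k[X][X]) (d : k[X]) : subst f (C d) = C d := by simp [subst]

/-- translation: `f * d = (x * d)(f)`. -/
lemma op_C (f : k[X][X]) (d : k[X]) : op φ f (C d) = (op φ (X : k[X][X]) (C d)).comp f := by
  rw [← subst_apply, map_op, subst_X, subst_C]

/-- the coordinate of the inverse of `y`. -/
noncomputable def ii : k[X] := φ.symm (HopfAlgebra.antipodeAlgHom k P (φ X))

lemma pt_C_ii : pt φ (C (ii φ) : k[X][X]) = linv (pt φ (C X : k[X][X])) := by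
  rw [← pt_ev φ (linv (pt φ (C X : k[X][X])))]
  congr 1
  show C (ii φ) = aeval (C X : k[X][X]) (φ.symm (HopfAlgebra.antipodeAlgHom k P (φ X)))
  have := aeval_algHom_apply (CAlgHom : k[X] →ₐ[k] k[X][X]) (X : k[X]) (ii φ)
  simp only [CAlgHom_apply, aeval_X_left, AlgHom.id_apply] at this
  exact this.symm

lemma comp_eq_X : (op φ (X : k[X][X]) (C X)).comp (op φ (X : k[X][X]) (C (ii φ))) = X := by
  rw [← op_C]
  show ev φ (pt φ (op φ (X : k[X][X]) (C (ii φ))) * pt φ (C X : k[X][X])) = X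
  rw [pt_op, pt_C_ii]
  have : pt φ (X : k[X][X]) * linv (pt φ (C X : k[X][X])) * pt φ (C X : k[X][X]) = pt φ X :=
    mul_linv_mul _ _
  rw [this, ev_pt]

theorem op_X_CX : op φ (X : k[X][X]) (C X) = X + C (X - C (e φ)) := by
  set p := op φ (X : k[X][X]) (C X) with hp
  set p' := op φ (X : k[X][X]) (C (ii φ)) with hp'
  have hcomp : p.comp p' = X := comp_eq_X φ
  have hdeg : p.natDegree * p'.natDegree = 1 := by
    rw [← natDegree_comp, hcomp, natDegree_X]
  have h1 : p.natDegree = 1 := Nat.eq_one_of_mul_eq_one_right hdeg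
  have h1' : p'.natDegree = 1 := Nat.eq_one_of_mul_eq_one_left hdeg
  obtain ⟨a, b, e1⟩ : ∃ a b, p = C a * X + C b := ⟨_, _, eq_X_add_C_of_natDegree_le_one h1.le⟩
  obtain ⟨a', b', e1'⟩ : ∃ a b, p' = C a * X + C b :=
    ⟨_, _, eq_X_add_C_of_natDegree_le_one h1'.le⟩
  have haa' : a * a' = 1 := by
    have h : (C a * X + C b).comp (C a' * X + C b') = C (a * a') * X + C (a * b' + b) := by
      simp only [add_comp, mul_comp, C_comp, X_comp, C_mul, C_add]; ring
    rw [e1, e1', h] at hcomp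
    have h2 := congrArg (fun q => q.coeff 1) hcomp
    simpa using h2
  obtain ⟨u, -, hu⟩ := Polynomial.isUnit_iff.mp
    (⟨⟨a, a', haa', by rw [mul_comm]; exact haa'⟩, rfl⟩ : IsUnit a)
  subst hu
  -- step (i): evaluate `x ↦ e`
  have hb : b = X - C u * C (e φ) := by
    let θ₁ : k[X][X] →ₐ[k] k[X] :=
      (aeval (C (e φ) : k[X]) : k[X][X] →ₐ[k[X]] k[X]).restrictScalars k
    have h := map_op φ θ₁ (X : k[X][X]) (C X)
    have hX : θ₁ X = algebraMap k k[X] (e φ) := by simp [θ₁]
    have hC : θ₁ (C X) = X := by simp [θ₁]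
    rw [hX, hC, op_e_left, ← hp, e1] at h
    simp only [map_add, map_mul, θ₁, AlgHom.restrictScalars_apply, aeval_C, aeval_X,
      Algebra.algebraMap_self, RingHom.id_apply] at h
    rw [← h]; ring
  -- step (ii): evaluate `y ↦ e`
  have hu1 : u = 1 := by
    let θ₂ : k[X][X] →ₐ[k] k[X] := Polynomial.mapAlgHom (aeval (e φ) : k[X] →ₐ[k] k)
    have h := map_op φ θ₂ (X : k[X][X]) (C X)
    have hX : θ₂ X = X := by simp [θ₂]
    have hC : θ₂ (C X) = algebraMap k k[X] (e φ) := by simp [θ₂]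
    rw [hX, hC, op_e_right, ← hp, e1] at h
    have h2 := congrArg (fun q => q.coeff 1) h
    simpa [θ₂] using h2
  rw [e1, hb, hu1]
  simp

/-- The comultiplication of any Hopf algebra structure on `P ≅ k[X]` is determined by the counit. -/
theorem comul_eq : comul (R := k) (φ X) =
    φ X ⊗ₜ[k] (1 : P) + (1 : P) ⊗ₜ[k] φ X - algebraMap k (P ⊗[k] P) (e φ) := by
  let θ₃ : k[X][X] →ₐ[k] P ⊗[k] P :=
    Polynomial.eval₂AlgHom (aeval ((1 : P) ⊗ₜ[k] φ X) : k[X] →ₐ[k] P ⊗[k] P) (φ X ⊗ₜ[k] (1 : P))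
      (fun _ => Commute.all _ _)
  have h := map_op φ θ₃ (X : k[X][X]) (C X)
  have hX : θ₃ X = φ X ⊗ₜ[k] (1 : P) := by simp [θ₃]
  have hC : θ₃ (C X) = (1 : P) ⊗ₜ[k] φ X := by simp [θ₃]
  have hl : pt φ (φ X ⊗ₜ[k] (1 : P)) =
      toConv (Algebra.TensorProduct.includeLeft : P →ₐ[k] P ⊗[k] P) := by
    rw [← pt_ev φ (toConv (Algebra.TensorProduct.includeLeft : P →ₐ[k] P ⊗[k] P))]; rfl
  have hr : pt φ ((1 : P) ⊗ₜ[k] φ X) =
      toConv (Algebra.TensorProduct.includeRight : P →ₐ[k] P ⊗[k] P) := by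
    rw [← pt_ev φ (toConv (Algebra.TensorProduct.includeRight : P →ₐ[k] P ⊗[k] P))]; rfl
  have h2 : op φ (φ X ⊗ₜ[k] (1 : P)) ((1 : P) ⊗ₜ[k] φ X) = comul (R := k) (φ X) := by
    unfold op; rw [hl, hr, includeLeft_mul_includeRight]; rfl
  rw [hX, hC, h2, op_X_CX] at h
  rw [← h]
  simp only [θ₃, map_add, map_sub, eval₂AlgHom_apply, eval₂_X, eval₂_C, AlgHom.coe_toRingHom,
    aeval_X, aeval_C, Algebra.TensorProduct.algebraMap_apply, RingHom.coe_coe]
  abel

end Ga

end Groth.Agent.GaLaw
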