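import Mathlib
import Groth.Prelude
import Groth.Agent.Lib.TorusImg1_helper4
import Groth.Agent.Lib.GaGm_lead

/-!
# Homomorphisms from groups with a composition series of additive groups to tori (helper4)
-/

set_option backward.isDefEq.respectTransparency.types false
set_option autoImplicit false
set_option linter.unusedVariables false
set_option linter.unusedTactic false
set_option linter.unreachableTactic false
set_option linter.unusedSectionVars false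
set_option linter.style.haveILetI false
set_option linter.deprecated false
set_option linter.unusedSimpArgs false
set_option linter.style.longLine false
set_option maxHeartbeats 1600000

universe u

open CategoryTheory CategoryTheory.Limits MonoidalCategory CartesianMonoidalCategory MonObj GrpObj
  AlgebraicGeometry Opposite

namespace Groth.Agent.Lib.TorusQuotH4

open Groth.Agent.Lib.RedDictH8 Groth.Agent.Lib.DSDict Groth.Agent.Lib.MultGa
  Groth.Agent.Lib.MultTrivH4 Groth.Agent.Lib.ConnActH4 Groth.Agent.Lib.TwConstFinH4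
  Groth.Agent.Lib.MTHomH4

/-! ### Descending a homomorphism through a quotient -/

theorem hom_desc_of_kernel {S : Scheme.{u}} {N G Q T : Over S} [GrpObj N] [GrpObj G] [GrpObj Q]
    [GrpObj T] (i : N ⟶ G) (q : G ⟶ Q) [IsMonHom q] [EffectiveEpi q.left]
    (hepi : Epi (q ⊗ₘ q)) (hk : AlgGrp.IsKernel i q) (φ : G ⟶ T) [IsMonHom φ]
    (h : i ≫ φ = 1) : ∃ ψ : Q ⟶ T, IsMonHom ψ ∧ q ≫ ψ = φ := by
  have hf : ∀ (Z : Over S) (a₁ a₂ : Z ⟶ G), a₁ ≫ q = a₂ ≫ q → a₁ ≫ φ = a₂ ≫ φ := by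
    intro Z a₁ a₂ h12
    have h3 : (a₁ * a₂⁻¹) ≫ q = toUnit Z ≫ η[Q] := by
      rw [MonObj.mul_comp, GrpObj.inv_comp, h12, _root_.mul_inv_cancel]
      rfl
    obtain ⟨l, hl⟩ : ∃ l : Z ⟶ N, l ≫ i = a₁ * a₂⁻¹ :=
      ⟨hk.lift (a₁ * a₂⁻¹) (toUnit Z) h3, hk.lift_fst _ _ _⟩
    have h4 : (a₁ * a₂⁻¹) ≫ φ = 1 := by
      rw [← hl, Category.assoc, h, MonObj.comp_one]
    rw [MonObj.mul_comp, GrpObj.inv_comp] at h4
    exact _root_.mul_inv_eq_one.mp h4
  obtain ⟨ψ, hψ⟩ := desc_of_effEpi q φ hf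
  refine ⟨ψ, ?_, hψ⟩
  have hone : η[Q] ≫ ψ = η[T] := by
    rw [← IsMonHom.one_hom q, Category.assoc, hψ, IsMonHom.one_hom φ]
  have hmul : μ[Q] ≫ ψ = (ψ ⊗ₘ ψ) ≫ μ[T] := by
    haveI := hepi
    apply (cancel_epi (q ⊗ₘ q)).mp
    calc (q ⊗ₘ q) ≫ μ[Q] ≫ ψ = (μ[G] ≫ q) ≫ ψ := by
          rw [IsMonHom.mul_hom q, Category.assoc]
      _ = μ[G] ≫ φ := by rw [Category.assoc, hψ]
      _ = (φ ⊗ₘ φ) ≫ μ[T] := IsMonHom.mul_hom φ
      _ = ((q ≫ ψ) ⊗ₘ (q ≫ ψ)) ≫ μ[T] := by rw [hψ]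
      _ = (q ⊗ₘ q) ≫ (ψ ⊗ₘ ψ) ≫ μ[T] := by
          rw [← MonoidalCategory.tensorHom_comp_tensorHom, Category.assoc]
  exact ⟨hone, hmul⟩

theorem hom_eq_one_of_trivial {S : Scheme.{u}} {N T : Over S} [GrpObj N] [GrpObj T]
    (h0 : Red.IsTrivialGrp N) (φ : N ⟶ T) [IsMonHom φ] : φ = 1 := by
  haveI : IsIso N.hom := h0
  have h1 : 𝟙 N = toUnit N ≫ η[N] := by
    apply Over.OverMorphism.ext
    apply (cancel_mono N.hom).mp
    exact (Over.w (𝟙 N)).trans (Over.w (toUnit N ≫ η[N])).symm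
  calc φ = 𝟙 N ≫ φ := (Category.id_comp φ).symm
    _ = (toUnit N ≫ η[N]) ≫ φ := congrArg (fun k => k ≫ φ) h1
    _ = toUnit N ≫ η[T] := by rw [Category.assoc, IsMonHom.one_hom φ]
    _ = 1 := rfl

/-! ### Homomorphisms from the additive group to a torus -/

theorem ga_pts_triv {S : Scheme.{u}} {T : Over S} [GrpObj T] (ψ : Red.Ga S ⟶ T) [IsMonHom ψ]
    (K : Type u) [Field K] (jW : Spec (CommRingCat.of K) ⟶ S) {M : Type} [AddCommGroup M]
    (eT : PtIso T jW M) : (Over.pullback jW).map ψ = 1 := by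
  haveI : IsReduced (Spec (CommRingCat.of K)) := inferInstance
  obtain ⟨x₀, hx₀⟩ : ∃ x₀ : (Over.map jW).obj (Red.Ga (Spec (CommRingCat.of K))) ⟶ Red.Ga S,
      Red.gaFn x₀ = Red.gaFn (𝟙 (Red.Ga (Spec (CommRingCat.of K)))) :=
    Groth.Agent.Lib.RedDictH8.gaFn_surjective _
  have key : ∀ (T₂ : Over (Spec (CommRingCat.of K)))
      (p : T₂ ⟶ Red.Ga (Spec (CommRingCat.of K))),
      Red.gaFn ((Over.map jW).map p ≫ x₀) = Red.gaFn p := by
    intro T₂ p
    have e1 : Red.gaFn ((Over.map jW).map p ≫ x₀) =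
        ((Over.map jW).map p).left.appTop.hom (Red.gaFn x₀) :=
      Groth.Agent.Lib.TorsorInv.gaFn_comp _ _
    have e2 : Red.gaFn (p ≫ 𝟙 (Red.Ga (Spec (CommRingCat.of K)))) =
        p.left.appTop.hom (Red.gaFn (𝟙 (Red.Ga (Spec (CommRingCat.of K))))) :=
      Groth.Agent.Lib.TorsorInv.gaFn_comp _ _
    rw [Category.comp_id] at e2
    exact (e1.trans (congrArg (fun s => p.left.appTop.hom s) hx₀)).trans e2.symm
  have hmulx : ∀ (T₂ : Over (Spec (CommRingCat.of K)))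
      (p q : T₂ ⟶ Red.Ga (Spec (CommRingCat.of K))),
      (Over.map jW).map (p * q) ≫ x₀ =
        ((Over.map jW).map p ≫ x₀) * ((Over.map jW).map q ≫ x₀) := by
    intro T₂ p q
    apply Groth.Agent.Lib.RedDictH8.gaFn_injective
    have e3 := Groth.Agent.Lib.RedDictH8.gaFn_mul ((Over.map jW).map p ≫ x₀)
      ((Over.map jW).map q ≫ x₀)
    have e4 := Groth.Agent.Lib.RedDictH8.gaFn_mul p q
    exact (key T₂ (p * q)).trans (e4.trans ((congrArg₂ (fun (a b : Γ(T₂.left, ⊤)) => a + b) (key T₂ p).symm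
      (key T₂ q).symm).trans e3.symm))
  obtain ⟨y₀, hy₀def⟩ : ∃ y₀ : Red.Ga (Spec (CommRingCat.of K)) ⟶
      Red.DS (Spec (CommRingCat.of K)) M,
      y₀ = eT.toD (Red.Ga (Spec (CommRingCat.of K))) (x₀ ≫ ψ) := ⟨_, rfl⟩
  have hpt : ∀ (T₂ : Over (Spec (CommRingCat.of K)))
      (p : T₂ ⟶ Red.Ga (Spec (CommRingCat.of K))),
      p ≫ y₀ = eT.toD T₂ (((Over.map jW).map p ≫ x₀) ≫ ψ) := by
    intro T₂ p
    rw [hy₀def, Category.assoc]
    exact (eT.to_nat T₂ _ p (x₀ ≫ ψ)).symm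
  haveI : IsMonHom y₀ := isMonHom_of_pointwise y₀ (by
    intro T₂ p q
    rw [hpt T₂ (p * q), hpt T₂ p, hpt T₂ q, hmulx, MonObj.mul_comp, eT.to_mul])
  have hy₀ : y₀ = 1 := by
    apply chr_injective
    intro m
    have hφ : y₀ ≫ Red.DSmap (Spec (CommRingCat.of K)) (zmultiplesHom M m) = 1 :=
      Groth.Agent.Lib.GaGm.main (Spec (CommRingCat.of K))
        (y₀ ≫ Red.DSmap (Spec (CommRingCat.of K)) (zmultiplesHom M m))
    have e1 : chr (y₀ ≫ Red.DSmap (Spec (CommRingCat.of K)) (zmultiplesHom M m)) (1 : ℤ) =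
        chr y₀ m := by
      rw [chr_DSmap, zmultiplesHom_apply, one_smul]
    rw [← e1, hφ, chr_one, chr_one]
  have hx₀ψ : x₀ ≫ ψ = 1 := by
    apply eT.to_inj
    rw [eT.to_one, ← hy₀def, hy₀]
  rw [triv_iff_pts]
  intro T₂ x
  obtain ⟨p, hp⟩ : ∃ p : T₂ ⟶ Red.Ga (Spec (CommRingCat.of K)), Red.gaFn p = Red.gaFn x :=
    Groth.Agent.Lib.RedDictH8.gaFn_surjective _
  have hx : x = (Over.map jW).map p ≫ x₀ := by
    apply Groth.Agent.Lib.RedDictH8.gaFn_injective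
    exact hp.symm.trans (key T₂ p).symm
  rw [hx, Category.assoc, hx₀ψ, MonObj.comp_one]

theorem hom_Ga_torus_eq_one (k : Type u) [Field k] (T : Over (Spec (CommRingCat.of k)))
    [GrpObj T] (hT : Red.IsTorus T) (ψ : Red.Ga (Spec (CommRingCat.of k)) ⟶ T) [IsMonHom ψ] :
    ψ = 1 := by
  obtain ⟨S₁, f₁, hfl, hsu, hcov, hloc⟩ := hT
  obtain ⟨s₁, hs₁⟩ := hsu.surj (⟨⊥, Ideal.isPrime_bot⟩ : Spec (CommRingCat.of k))
  obtain ⟨U₁, hsU, r, ⟨eA⟩⟩ := hloc s₁
  obtain ⟨a1, ainv, ha1, hainv, h1, h2⟩ := Groth.Agent.Lib.DiagHom.iso_data eA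
  haveI := ha1
  haveI := hainv
  obtain ⟨s', hs'⟩ : ∃ s' : ↥(U₁ : Scheme.{u}), s' = ⟨s₁, hsU⟩ := ⟨_, rfl⟩
  obtain ⟨z, hz⟩ : ∃ z : Spec (CommRingCat.of ((U₁ : Scheme.{u}).residueField s')) ⟶
      (U₁ : Scheme.{u}), z = (U₁ : Scheme.{u}).fromSpecResidueField s' := ⟨_, rfl⟩
  obtain ⟨h, hh⟩ : ∃ h : Spec (CommRingCat.of ((U₁ : Scheme.{u}).residueField s')) ⟶
      Spec (CommRingCat.of k), h = z ≫ U₁.ι ≫ f₁ := ⟨_, rfl⟩
  obtain ⟨eT⟩ := exists_transport T (U₁.ι ≫ f₁) a1 ainv h1 h2 z (h ≫ 𝟙 _)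
    (by rw [hh, Category.comp_id])
  obtain ⟨hf1, hf2, hf3⟩ := flat_surj_qc_SpecMap_field (K := k)
    (L := ((U₁ : Scheme.{u}).residueField s')) (Spec.preimage h)
  rw [Spec.map_preimage] at hf1 hf2 hf3
  haveI := hf1
  haveI := hf2
  apply triv_of_id
  apply triv_desc ψ (𝟙 _) h
  exact ga_pts_triv ψ ((U₁ : Scheme.{u}).residueField s') (h ≫ 𝟙 _) eT

/-! ### The main theorem -/

theorem main17464 (k : Type u) [Field k]
    (T U : Over (Spec (CommRingCat.of k))) [GrpObj T] [GrpObj U] (hT : Red.IsTorus T)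
    [IsAffine U.left]
    (n : ℕ) (Us : Fin (n + 1) → Over (Spec (CommRingCat.of k))) [∀ i, GrpObj (Us i)]
    (h0 : Red.IsTrivialGrp (Us 0))
    (e : Us (Fin.last n) ≅ U) [IsMonHom e.hom]
    (incl : ∀ i : Fin n, Us i.castSucc ⟶ Us i.succ) [∀ i, IsMonHom (incl i)]
    [∀ i, IsClosedImmersion (incl i).left]
    (quot : ∀ i : Fin n, Us i.succ ⟶ Red.Ga (Spec (CommRingCat.of k))) [∀ i, IsMonHom (quot i)]
    [∀ i, Surjective (quot i).left] [∀ i, Flat (quot i).left]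
    (hker : ∀ i : Fin n, AlgGrp.IsKernel (incl i) (quot i))
    (f : U ⟶ T) [IsMonHom f] : f = 1 := by
  have hcpt : ∀ i : Fin (n + 1), CompactSpace ↥(Us i).left := by
    intro i
    refine Fin.reverseInduction (motive := fun i => CompactSpace ↥(Us i).left) ?_ ?_ i
    · haveI : IsIso e.hom.left :=
        (inferInstance : IsIso ((Over.forget (Spec (CommRingCat.of k))).map e.hom))
      exact QuasiCompact.compactSpace_of_compactSpace e.hom.left
    · intro i ih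
      haveI := ih
      exact QuasiCompact.compactSpace_of_compactSpace (incl i).left
  haveI hGaZ : IsAffine (Red.GaZ.{u}).left :=
    (inferInstance : IsAffine (Spec (CommRingCat.of
      (SymmetricAlgebra (ULift.{u} ℤ) (ULift.{u} ℤ)))))
  haveI hGaZh : IsAffineHom (Red.GaZ.{u}).hom := inferInstance
  haveI hGaAff : IsAffine (Red.Ga (Spec (CommRingCat.of k))).left :=
    (inferInstance : IsAffine (pullback (Red.GaZ.{u}).hom
      (Limits.IsTerminal.from specULiftZIsTerminal (Spec (CommRingCat.of k)))))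
  have hall : ∀ i : Fin (n + 1), ∀ (φ : Us i ⟶ T), IsMonHom φ → φ = 1 := by
    intro i
    refine Fin.induction (motive := fun i => ∀ (φ : Us i ⟶ T), IsMonHom φ → φ = 1) ?_ ?_ i
    · intro φ hφ
      haveI := hφ
      exact hom_eq_one_of_trivial h0 φ
    · intro i ih φ hφ
      haveI := hφ
      have h1 : incl i ≫ φ = 1 := ih (incl i ≫ φ) inferInstance
      haveI := hcpt i.succ
      haveI hqc : QuasiCompact (quot i).left := inferInstance
      have hepi : Epi (quot i ⊗ₘ quot i) := epi_tensorHom_fpqc (quot i) (quot i)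
      haveI : EffectiveEpi (quot i).left := inferInstance
      obtain ⟨ψ, hψ, hqψ⟩ := hom_desc_of_kernel (incl i) (quot i) hepi (hker i) φ h1
      haveI := hψ
      have h2 : ψ = 1 := hom_Ga_torus_eq_one k T hT ψ
      rw [← hqψ, h2, MonObj.comp_one]
  have h3 : e.hom ≫ f = 1 := hall (Fin.last n) (e.hom ≫ f) inferInstance
  calc f = e.inv ≫ (e.hom ≫ f) := by rw [← Category.assoc, e.inv_hom_id, Category.id_comp]
    _ = 1 := by rw [h3, MonObj.comp_one]

end Groth.Agent.Lib.TorusQuotH4
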