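import Mathlib
import Groth.Prelude.Def_W4c5qcohlocdualityLoc

set_option autoImplicit false
set_option linter.style.haveILetI false
set_option linter.unusedSectionVars false

universe w v₁ u₁ v u

namespace Groth.Agent.Lib.GabLocUH4

open CategoryTheory CategoryTheory.Limits ZeroObject

variable {C : Type u} [Category.{v} C] [Abelian C]

/-- `M`-coclosed objects: `Hom(X, M) = 0` and every extension of `X` by `M` splits. -/
def U (M : C) : ObjectProperty C := fun X =>
  (∀ f : X ⟶ M, f = 0) ∧
  ∀ ⦃N : C⦄ (i : M ⟶ N) (p : N ⟶ X) (hp : i ≫ p = 0),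
      (ShortComplex.mk i p hp).ShortExact → IsSplitMono i

/-- Objects all of whose subobjects are `M`-coclosed. -/
def T (M : C) : ObjectProperty C := fun X => ∀ ⦃Y : C⦄ (j : Y ⟶ X), Mono j → U M Y

theorem splitMono_of_section {M N Y : C} {i : M ⟶ N} {p : N ⟶ Y} {hp : i ≫ p = 0}
    (hS : (ShortComplex.mk i p hp).ShortExact) (s : Y ⟶ N) (hs : s ≫ p = 𝟙 Y) :
    IsSplitMono i := by
  have hm : Mono (ShortComplex.mk i p hp).f := hS.mono_f
  let sp := ShortComplex.Splitting.ofExactOfSection (ShortComplex.mk i p hp) hS.exact s hs hm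
  exact IsSplitMono.mk' ⟨sp.r, sp.f_r⟩

theorem exists_lift {M N Y Y' : C} (hY' : U M Y') (a : Y' ⟶ Y) {i : M ⟶ N} {p : N ⟶ Y}
    {hp : i ≫ p = 0} (hS : (ShortComplex.mk i p hp).ShortExact) :
    ∃ s : Y' ⟶ N, s ≫ p = a := by
  haveI : Mono i := hS.mono_f
  haveI : Epi p := hS.epi_g
  haveI : Mono (ShortComplex.mk i p hp).f := hS.mono_f
  obtain ⟨i', hi'1, hi'2⟩ : ∃ i' : M ⟶ pullback p a,
      i' ≫ pullback.fst p a = i ∧ i' ≫ pullback.snd p a = 0 :=
    ⟨pullback.lift i 0 (by rw [hp, zero_comp]), pullback.lift_fst _ _ _, pullback.lift_snd _ _ _⟩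
  haveI : Mono i' := mono_of_mono_fac hi'1
  have hex : (ShortComplex.mk i' (pullback.snd p a) hi'2).Exact := by
    rw [ShortComplex.exact_iff_exact_up_to_refinements]
    intro A x hx
    dsimp at x hx ⊢
    have h1 : (x ≫ pullback.fst p a) ≫ (ShortComplex.mk i p hp).g = 0 := by
      dsimp
      rw [Category.assoc, pullback.condition, ← Category.assoc, hx, zero_comp]
    refine ⟨A, 𝟙 A, inferInstance, hS.exact.lift (x ≫ pullback.fst p a) h1, ?_⟩
    have h2 : hS.exact.lift (x ≫ pullback.fst p a) h1 ≫ i = x ≫ pullback.fst p a :=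
      hS.exact.lift_f _ _
    rw [Category.id_comp]
    apply pullback.hom_ext
    · rw [Category.assoc, hi'1, h2]
    · rw [Category.assoc, hi'2, comp_zero, hx]
  have hS' : (ShortComplex.mk i' (pullback.snd p a) hi'2).ShortExact :=
    ShortComplex.ShortExact.mk' hex (show Mono i' from inferInstance)
      (show Epi (pullback.snd p a) from inferInstance)
  haveI := hY'.2 i' (pullback.snd p a) hi'2 hS'
  let sp := ShortComplex.Splitting.ofExactOfRetraction _ hex (retraction i') (IsSplitMono.id i')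
    (show Epi (pullback.snd p a) from inferInstance)
  refine ⟨sp.s ≫ pullback.fst p a, ?_⟩
  have h3 : sp.s ≫ pullback.snd p a = 𝟙 _ := sp.s_g
  rw [Category.assoc, pullback.condition, ← Category.assoc, h3, Category.id_comp]

theorem lift_unique {M N Y Y' : C} (h0 : ∀ f : Y' ⟶ M, f = 0) {i : M ⟶ N} {p : N ⟶ Y}
    {hp : i ≫ p = 0} (hS : (ShortComplex.mk i p hp).ShortExact) (s s' : Y' ⟶ N)
    (h : s ≫ p = s' ≫ p) : s = s' := by
  haveI : Mono (ShortComplex.mk i p hp).f := hS.mono_f
  have h1 : (s - s') ≫ (ShortComplex.mk i p hp).g = 0 := by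
    dsimp
    rw [Preadditive.sub_comp, h, sub_self]
  have h2 := hS.exact.lift_f (s - s') h1
  rw [h0 (hS.exact.lift (s - s') h1)] at h2
  dsimp at h2
  rw [zero_comp] at h2
  exact sub_eq_zero.1 h2.symm

theorem U_of_isZero (M : C) {Y : C} (hY : IsZero Y) : U M Y :=
  ⟨fun f => hY.eq_of_src f 0, fun _ _ _ _ hS => splitMono_of_section hS 0 (hY.eq_of_src _ _)⟩

theorem U_of_iso {M Y Y' : C} (e : Y' ≅ Y) (h : U M Y') : U M Y := by
  refine ⟨fun f => ?_, fun N i p hp hS => ?_⟩
  · have h1 := h.1 (e.hom ≫ f)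
    rw [← cancel_epi e.hom, h1, comp_zero]
  · obtain ⟨s, hs⟩ := exists_lift h e.hom hS
    exact splitMono_of_section hS (e.inv ≫ s) (by rw [Category.assoc, hs, e.inv_hom_id])

theorem U_of_isColimit {M : C} {A : Type u₁} [Category.{v₁} A] {D : A ⥤ C} (c : Cocone D)
    (hc : IsColimit c) (h : ∀ a, U M (D.obj a)) : U M c.pt := by
  refine ⟨fun f => hc.hom_ext (fun a => by rw [(h a).1 (c.ι.app a ≫ f), comp_zero]),
    fun N i p hp hS => ?_⟩
  choose s hs using fun a => exists_lift (h a) (c.ι.app a) hS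
  have hnat : ∀ (a b : A) (φ : a ⟶ b), D.map φ ≫ s b = s a := fun a b φ => by
    apply lift_unique (h a).1 hS
    rw [Category.assoc, hs, hs, c.w]
  have hnat' : ∀ (a b : A) (φ : a ⟶ b),
      D.map φ ≫ s b = s a ≫ ((Functor.const A).obj N).map φ := fun a b φ => by
    dsimp
    rw [Category.comp_id]
    exact hnat a b φ
  let c' : Cocone D := { pt := N, ι := { app := s, naturality := fun a b φ => hnat' a b φ } }
  refine splitMono_of_section hS (hc.desc c') (hc.hom_ext (fun a => ?_))
  rw [← Category.assoc, hc.fac, Category.comp_id]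
  exact hs a

theorem U_ext {M : C} {S : ShortComplex C} (hS' : S.ShortExact) (h₁ : U M S.X₁)
    (h₃ : U M S.X₃) : U M S.X₂ := by
  haveI : Mono S.f := hS'.mono_f
  haveI : Epi S.g := hS'.epi_g
  refine ⟨fun f => ?_, fun N i p hp hS => ?_⟩
  · have h1 : S.f ≫ f = 0 := h₁.1 _
    have h2 := hS'.exact.g_desc f h1
    rw [← h2, h₃.1 (hS'.exact.desc f h1), comp_zero]
  · haveI : Mono i := hS.mono_f
    haveI : Epi p := hS.epi_g
    haveI : Mono (ShortComplex.mk i p hp).f := hS.mono_f
    obtain ⟨s₁, hs₁⟩ := exists_lift h₁ S.f hS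
    haveI : Mono s₁ := mono_of_mono_fac hs₁
    obtain ⟨pb, hpb⟩ : ∃ pb : cokernel s₁ ⟶ S.X₃, cokernel.π s₁ ≫ pb = p ≫ S.g :=
      ⟨cokernel.desc s₁ (p ≫ S.g) (by rw [← Category.assoc, hs₁, S.zero]),
        cokernel.π_desc _ _ _⟩
    have hzero : (i ≫ cokernel.π s₁) ≫ pb = 0 := by
      rw [Category.assoc, hpb, ← Category.assoc, hp, zero_comp]
    haveI : Epi pb := epi_of_epi_fac hpb
    haveI : Mono (i ≫ cokernel.π s₁) := by
      rw [Preadditive.mono_iff_cancel_zero]
      intro T' z hz
      have hz' : (z ≫ i) ≫ cokernel.π s₁ = 0 := by rw [Category.assoc]; exact hz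
      have hy : Abelian.monoLift s₁ (z ≫ i) hz' ≫ s₁ = z ≫ i := Abelian.monoLift_comp _ _ _
      have hy0 : Abelian.monoLift s₁ (z ≫ i) hz' = 0 := by
        rw [← cancel_mono S.f, zero_comp, ← hs₁, ← Category.assoc, hy, Category.assoc, hp,
          comp_zero]
      rw [hy0, zero_comp] at hy
      rw [← cancel_mono i, zero_comp, ← hy]
    have hex : (ShortComplex.mk (i ≫ cokernel.π s₁) pb hzero).Exact := by
      rw [ShortComplex.exact_iff_exact_up_to_refinements]
      intro A x hx
      dsimp at x hx ⊢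
      obtain ⟨A', π', hπ', x', hx'⟩ := surjective_up_to_refinements_of_epi (cokernel.π s₁) x
      have h1 : (x' ≫ p) ≫ S.g = 0 := by
        rw [Category.assoc, ← hpb, ← Category.assoc, ← hx', Category.assoc, hx, comp_zero]
      have hy : hS'.exact.lift (x' ≫ p) h1 ≫ S.f = x' ≫ p := hS'.exact.lift_f _ _
      have h2 : (x' - hS'.exact.lift (x' ≫ p) h1 ≫ s₁) ≫ (ShortComplex.mk i p hp).g = 0 := by
        dsimp
        rw [Preadditive.sub_comp, Category.assoc, hs₁, hy, sub_self]
      have hm : hS.exact.lift _ h2 ≫ i = x' - hS'.exact.lift (x' ≫ p) h1 ≫ s₁ :=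
        hS.exact.lift_f _ _
      refine ⟨A', π', hπ', hS.exact.lift _ h2, ?_⟩
      rw [hx', ← Category.assoc, hm, Preadditive.sub_comp, Category.assoc, cokernel.condition,
        comp_zero, sub_zero]
    have hSb : (ShortComplex.mk (i ≫ cokernel.π s₁) pb hzero).ShortExact :=
      ShortComplex.ShortExact.mk' hex (show Mono (i ≫ cokernel.π s₁) from inferInstance)
        (show Epi pb from inferInstance)
    haveI := h₃.2 (i ≫ cokernel.π s₁) pb hzero hSb
    exact IsSplitMono.mk' ⟨cokernel.π s₁ ≫ retraction (i ≫ cokernel.π s₁), by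
      rw [← Category.assoc]; exact IsSplitMono.id (i ≫ cokernel.π s₁)⟩

theorem U_quot {M Y Y'' : C} (e : Y ⟶ Y'') [Epi e] (hY : T M Y) : U M Y'' := by
  have hUY : U M Y := hY (𝟙 Y) inferInstance
  refine ⟨fun f => ?_, fun N i p hp hS => ?_⟩
  · rw [← cancel_epi e, hUY.1 (e ≫ f), comp_zero]
  · haveI : Mono (ShortComplex.mk i p hp).f := hS.mono_f
    obtain ⟨s, hs⟩ := exists_lift hUY e hS
    have hk : kernel.ι e ≫ s = 0 := by
      have h1 : (kernel.ι e ≫ s) ≫ (ShortComplex.mk i p hp).g = 0 := by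
        dsimp
        rw [Category.assoc, hs, kernel.condition]
      have h2 := hS.exact.lift_f (kernel.ι e ≫ s) h1
      rw [(hY (kernel.ι e) inferInstance).1 (hS.exact.lift (kernel.ι e ≫ s) h1)] at h2
      dsimp at h2
      rw [zero_comp] at h2
      exact h2.symm
    refine splitMono_of_section hS (Abelian.epiDesc e s hk) ?_
    rw [← cancel_epi e, ← Category.assoc, Abelian.comp_epiDesc, hs, Category.comp_id]

instance T_containsZero (M : C) : (T M).ContainsZero :=
  ⟨⟨0, isZero_zero C, fun _ j hj => by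
    haveI := hj
    exact U_of_isZero M (IsZero.of_mono j (isZero_zero C))⟩⟩

instance T_sub (M : C) : (T M).IsClosedUnderSubobjects where
  prop_of_mono := fun f _ hY _ j hj => by
    haveI := hj
    exact hY (j ≫ f) (mono_comp j f)

instance T_quot (M : C) : (T M).IsClosedUnderQuotients where
  prop_of_epi := fun {X X''} π _ hX Y'' j hj => by
    haveI := hj
    have hT : T M (pullback j π) := fun Z k hk => by
      haveI := hk
      exact hX (k ≫ pullback.snd j π) (mono_comp _ _)
    exact U_quot (pullback.fst j π) hT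

instance T_ext (M : C) : (T M).IsClosedUnderExtensions where
  prop_X₂_of_shortExact := fun {S} hS h₁ h₃ Y j hj => by
    haveI := hj
    haveI : Mono S.f := hS.mono_f
    obtain ⟨e, he⟩ : ∃ e, e = j ≫ S.g := ⟨_, rfl⟩
    have hse : (ShortComplex.mk (kernel.ι (Abelian.factorThruImage e))
        (Abelian.factorThruImage e) (kernel.condition _)).ShortExact :=
      ShortComplex.ShortExact.mk' (ShortComplex.exact_of_f_is_kernel _ (kernelIsKernel _))
        (show Mono (kernel.ι (Abelian.factorThruImage e)) from inferInstance)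
        (show Epi (Abelian.factorThruImage e) from inferInstance)
    refine U_ext hse ?_ ?_
    · have h0 : (kernel.ι (Abelian.factorThruImage e) ≫ j) ≫ S.g = 0 := by
        rw [Category.assoc, ← he]
        have h5 : kernel.ι (Abelian.factorThruImage e) ≫
            (Abelian.factorThruImage e ≫ Abelian.image.ι e) = 0 := by
          rw [← Category.assoc, kernel.condition, zero_comp]
        rw [Abelian.image.fac] at h5
        exact h5
      have hl := hS.exact.lift_f _ h0
      haveI : Mono (hS.exact.lift _ h0) := mono_of_mono_fac hl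
      exact h₁ (hS.exact.lift _ h0) inferInstance
    · exact h₃ (Abelian.image.ι e) inferInstance

instance T_serre (M : C) : (T M).IsSerreClass where

instance T_binary (M : C) : (T M).IsClosedUnderColimitsOfShape (Discrete WalkingPair) := by
  apply ObjectProperty.IsClosedUnderColimitsOfShape.mk'
  rintro _ ⟨F, hF⟩
  have h := (T M).prop_biprod (hF ⟨WalkingPair.left⟩) (hF ⟨WalkingPair.right⟩)
  exact (T M).prop_of_iso
    ((biprod.isoCoprod _ _) ≪≫ (HasColimit.isoOfNatIso (diagramIsoPair F)).symm) h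

theorem T_finiteCoproducts (M : C) : (T M).IsClosedUnderFiniteCoproducts :=
  ObjectProperty.IsClosedUnderFiniteCoproducts.mk'

section AB5

variable [IsGrothendieckAbelian.{w} C]

attribute [local instance] IsFiltered.isConnected

theorem T_filteredColimit (M : C) {A : Type w} [SmallCategory A] [IsFiltered A]
    (D : A ⥤ C) (hD : ∀ a, T M (D.obj a)) : T M (colimit D) := by
  intro Y j₀ hj₀
  haveI := hj₀
  let α : D ⟶ (Functor.const A).obj (cokernel j₀) :=
    { app := fun a => colimit.ι D a ≫ cokernel.π j₀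
      naturality := fun a b φ => by
        dsimp
        rw [Category.comp_id, ← Category.assoc, colimit.w] }
  let S : ShortComplex (A ⥤ C) := ShortComplex.mk (kernel.ι α) α (kernel.condition α)
  have hSex : S.Exact := ShortComplex.exact_of_f_is_kernel _ (kernelIsKernel α)
  obtain ⟨f₁, hf⟩ : ∃ f₁ : colimit (kernel α) ⟶ colimit D, ∀ a,
      (colimit.cocone (kernel α)).ι.app a ≫ f₁ =
        S.f.app a ≫ (colimit.cocone D).ι.app a :=
    ⟨colimit.desc (kernel α) { pt := colimit D, ι := kernel.ι α ≫ (colimit.cocone D).ι },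
      fun a => by simp [S]⟩
  have hg : ∀ a, (colimit.cocone D).ι.app a ≫ cokernel.π j₀ =
      S.g.app a ≫ (constCocone A (cokernel j₀)).ι.app a := fun a => by
    show colimit.ι D a ≫ cokernel.π j₀ = (colimit.ι D a ≫ cokernel.π j₀) ≫ 𝟙 _
    rw [Category.comp_id]
  have hex := colim.exact_mapShortComplex hSex (colimit.isColimit (kernel α))
    (colimit.isColimit D) (isColimitConstCocone A (cokernel j₀)) f₁ (cokernel.π j₀) hf hg
  haveI : Mono f₁ := colim.map_mono' (kernel.ι α) (colimit.isColimit (kernel α))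
    (colimit.isColimit D) f₁ hf
  have hz : f₁ ≫ cokernel.π j₀ = 0 := colimit.hom_ext (fun a => by
    have h1 : colimit.ι (kernel α) a ≫ f₁ = (kernel.ι α).app a ≫ colimit.ι D a := hf a
    have h2 : (kernel.ι α).app a ≫ α.app a = 0 := by
      rw [← NatTrans.comp_app, kernel.condition]
      rfl
    rw [comp_zero, ← Category.assoc, h1, Category.assoc]
    exact h2)
  have hex' : (ShortComplex.mk f₁ (cokernel.π j₀) hz).Exact := hex
  haveI : Mono (ShortComplex.mk f₁ (cokernel.π j₀) hz).f := (show Mono f₁ from inferInstance)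
  obtain ⟨l, hl⟩ : ∃ l : Y ⟶ colimit (kernel α), l ≫ f₁ = j₀ :=
    ⟨hex'.lift j₀ (cokernel.condition j₀), hex'.lift_f _ _⟩
  obtain ⟨l', hl'⟩ : ∃ l' : colimit (kernel α) ⟶ Y, l' ≫ j₀ = f₁ :=
    ⟨Abelian.monoLift j₀ f₁ hz, Abelian.monoLift_comp _ _ _⟩
  let e : colimit (kernel α) ≅ Y :=
    ⟨l', l,
      by rw [← cancel_mono f₁, Category.assoc, hl, hl', Category.id_comp],
      by rw [← cancel_mono j₀, Category.assoc, hl', hl, Category.id_comp]⟩
  exact U_of_iso e (U_of_isColimit (colimit.cocone (kernel α)) (colimit.isColimit _)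
    (fun a => hD a ((kernel.ι α).app a) inferInstance))

theorem T_localizing (M : C) : GabLoc.IsLocalizing.{w} (T M) where
  isSerreClass := T_serre M
  isClosedUnderCoproducts := fun J => by
    haveI := T_finiteCoproducts M
    refine ⟨fun X ⟨h⟩ => ?_⟩
    have hD : ∀ S : Finset (Discrete J),
        T M ((CoproductsFromFiniteFiltered.liftToFinsetObj h.diag).obj S) := fun S =>
      (T M).prop_coproduct (fun x => h.prop_diag_obj _)
    have hX := T_filteredColimit M (CoproductsFromFiniteFiltered.liftToFinsetObj h.diag) hD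
    exact (T M).prop_of_iso (IsColimit.coconePointUniqueUpToIso
      (CoproductsFromFiniteFiltered.liftToFinsetColimitCocone h.diag).isColimit h.isColimit) hX

theorem closed_of_le_T {P : ObjectProperty C} {M : C} (hPT : P ≤ T M) :
    GabLoc.IsClosedFor (GabLoc.locClosure.{w} P) M := by
  have key : ∀ X, GabLoc.locClosure.{w} P X → U M X := fun X hX =>
    (hX (T M) (T_localizing M) hPT) (𝟙 X) inferInstance
  exact ⟨fun Y hY f => (key Y hY).1 f, fun N Y i p hp hY hS => (key Y hY).2 i p hp hS⟩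

theorem le_T_of_closed {P : ObjectProperty C} [P.IsClosedUnderSubobjects] {M : C}
    (h : GabLoc.IsClosedFor P M) : P ≤ T M := fun X hX Y j hj => by
  haveI := hj
  have hY : P Y := P.prop_of_mono j hX
  exact ⟨fun f => h.1 hY f, fun N i p hp hS => h.2 i p hp hY hS⟩

theorem main17644 (P : ObjectProperty C) [P.IsClosedUnderSubobjects] (M : C) :
    GabLoc.IsClosedFor (GabLoc.locClosure.{w} P) M ↔ GabLoc.IsClosedFor P M := by
  have hle : P ≤ GabLoc.locClosure.{w} P := fun X hX Q _ hPQ => hPQ X hX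
  constructor
  · intro h
    exact ⟨fun Y hY f => h.1 (hle Y hY) f, fun N Y i p hp hY hS => h.2 i p hp (hle Y hY) hS⟩
  · intro h
    exact closed_of_le_T (le_T_of_closed h)

theorem main17645 (Q S : ObjectProperty C) (hQ : GabLoc.IsLocalizing.{w} Q)
    (hS : GabLoc.IsLocalizing.{w} S) (M : C) (hMQ : GabLoc.IsClosedFor Q M)
    (hMS : GabLoc.IsClosedFor S M) : GabLoc.IsClosedFor (GabLoc.locClosure.{w} (Q ⊔ S)) M := by
  haveI := hQ.isSerreClass
  haveI := hS.isSerreClass
  exact closed_of_le_T (sup_le (le_T_of_closed hMQ) (le_T_of_closed hMS))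

end AB5

end Groth.Agent.Lib.GabLocUH4
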