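import Mathlib
import Groth.Prelude.Def_EtBase
import Groth.Prelude.Def_EtCore
import Groth.Agent.Lib.EtZarEquiv_helper7
import Groth.Agent.Lib.EtMVses_helper7

/-!
# Gabber's criterion, part 1: local triviality of `Ext(ℤ[W], F)` classes, Mayer–Vietoris for opens
(helper8)
APPEND-ONLY once landed.
-/

set_option autoImplicit false
set_option linter.style.haveILetI false
universe u
open CategoryTheory CategoryTheory.Limits AlgebraicGeometry Opposite Abelian

namespace Groth.Agent.Lib.GabberH8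

open Groth.Agent.Lib.EtFlasque_helper7 Groth.Agent.Lib.EtExtFr_helper7
  Groth.Agent.Lib.EtHpull0_helper7 Groth.Agent.Lib.EtSchSite_helper7
  Groth.Agent.Lib.EtMVses_helper7 Groth.Agent.Lib.EtZeroDim_helper7
  Groth.Agent.Lib.MVabs_helper7

variable {X : Scheme.{u}}

/-- classes in `Ext^{i+1}(ℤ[W₀], F)` die étale-locally on `W₀` -/
theorem loc_triv_fr (i : ℕ) : ∀ (F : EtCoh.Ab X) (W₀ : X.Etale) (x : Ext (fr W₀) F (i + 1))
    (w₀ : W₀.left), ∃ (V : X.Etale) (g : V ⟶ W₀), w₀ ∈ Set.range g.left ∧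
      (Ext.mk₀ (frMap g)).comp x (zero_add (i + 1)) = 0 := by
  induction i with
  | zero =>
    intro F W₀ x w₀
    let I : InjectivePresentation F := Classical.arbitrary _
    let S := ShortComplex.mk _ _ (cokernel.condition I.f)
    have hS : S.ShortExact := { exact := ShortComplex.exact_cokernel I.f }
    haveI : Injective S.X₂ := I.injective
    obtain ⟨y, hy⟩ : ∃ y : Ext (fr W₀) S.X₃ 0, y.comp hS.extClass rfl = x :=
      Ext.covariant_sequence_exact₁ _ hS x (Ext.eq_zero_of_injective _) rfl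
    subst hy
    obtain ⟨χ, rfl⟩ := (Ext.mk₀_bijective _ _).2 y
    haveI : Epi S.g := hS.epi_g
    have hloc : Sheaf.IsLocallySurjective S.g :=
      (Sheaf.isLocallySurjective_iff_epi' _ S.g).2 inferInstance
    have hmem := hloc.imageSieve_mem (U := W₀) (frEquiv W₀ S.X₃ χ)
    obtain ⟨V, f, ⟨t, ht⟩, hv⟩ := exists_of_mem _ hmem w₀
    refine ⟨V, f, hv, ?_⟩
    have hlift : frMap f ≫ χ = (frEquiv V S.X₂).symm t ≫ S.g := by
      apply (frEquiv V S.X₃).injective
      rw [frEquiv_map, frEquiv_comp, Equiv.apply_symm_apply]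
      exact ht.symm
    rw [Ext.mk₀_comp_mk₀_assoc, hlift, ← Ext.mk₀_comp_mk₀_assoc, hS.comp_extClass,
      Ext.comp_zero]
  | succ i ih =>
    intro F W₀ x w₀
    let I : InjectivePresentation F := Classical.arbitrary _
    let S := ShortComplex.mk _ _ (cokernel.condition I.f)
    have hS : S.ShortExact := { exact := ShortComplex.exact_cokernel I.f }
    haveI : Injective S.X₂ := I.injective
    obtain ⟨y, hy⟩ : ∃ y : Ext (fr W₀) S.X₃ (i + 1), y.comp hS.extClass rfl = x :=
      Ext.covariant_sequence_exact₁ _ hS x (Ext.eq_zero_of_injective _) rfl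
    subst hy
    obtain ⟨V, g, hv, h0⟩ := ih S.X₃ W₀ y w₀
    refine ⟨V, g, hv, ?_⟩
    have h1 := Ext.comp_assoc (Ext.mk₀ (frMap g)) y hS.extClass (zero_add (i + 1)) rfl
      (show 0 + (i + 1) + 1 = i + 1 + 1 by omega)
    rw [← h1, h0, Ext.zero_comp]

theorem frMap_comp {A B C : X.Etale} (g : A ⟶ B) (g' : B ⟶ C) :
    frMap (g ≫ g') = frMap g ≫ frMap g' := by
  apply (frEquiv A _).injective
  have h1 : frEquiv A (fr C) (frMap (g ≫ g')) =
      (fr C).obj.map (g ≫ g').op (frEquiv C (fr C) (𝟙 _)) := by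
    have h := frEquiv_map (g ≫ g') (fr C) (𝟙 _)
    rwa [Category.comp_id] at h
  have h2 : frEquiv B (fr C) (frMap g') = (fr C).obj.map g'.op (frEquiv C (fr C) (𝟙 _)) := by
    have h := frEquiv_map g' (fr C) (𝟙 _)
    rwa [Category.comp_id] at h
  rw [h1, frEquiv_map, h2, map_comp_apply]

theorem frMap_id (A : X.Etale) : frMap (𝟙 A) = 𝟙 (fr A) := by
  apply (frEquiv A _).injective
  have h := frEquiv_map (𝟙 A) (fr A) (𝟙 _)
  rw [Category.comp_id] at h
  rw [h, map_id_apply]

/-! ### Mayer–Vietoris for two opens covering a third -/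

section MV

variable (U V W : X.Opens) (hU : U ≤ W) (hV : V ≤ W)

/-- the two inclusions -/
noncomputable def famMap : ∀ b : Bool, fam U V b ⟶ EO W
  | true => oMap hU
  | false => oMap hV

variable (hW : W ≤ U ⊔ V)

include hW in
theorem cover_mem_W : Sieve.ofArrows (fam U V) (famMap U V W hU hV) ∈
    X.smallEtaleTopology (EO W) := by
  apply sieve_mem_of_forall_exists
  intro w
  have hw : W.ι w ∈ ((U ⊔ V : X.Opens) : Set X) := by
    apply hW
    have := Set.mem_range_self (f := W.ι) w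
    rw [Scheme.Opens.range_ι] at this
    exact this
  rcases hw with hw | hw
  · have hk : W.ι w ∈ Set.range U.ι := by rw [Scheme.Opens.range_ι]; exact hw
    obtain ⟨y, hy⟩ := hk
    refine ⟨EO U, oMap hU, Sieve.ofArrows_mk _ (famMap U V W hU hV) true, y, ?_⟩
    apply W.ι.isEmbedding.injective
    exact (congrArg (fun (m : U.toScheme ⟶ X) => m y) (X.homOfLE_ι hU)).trans hy
  · have hk : W.ι w ∈ Set.range V.ι := by rw [Scheme.Opens.range_ι]; exact hw
    obtain ⟨y, hy⟩ := hk
    refine ⟨EO V, oMap hV, Sieve.ofArrows_mk _ (famMap U V W hU hV) false, y, ?_⟩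
    apply W.ι.isEmbedding.injective
    exact (congrArg (fun (m : V.toScheme ⟶ X) => m y) (X.homOfLE_ι hV)).trans hy

include hW in
theorem sheafFor_W (Q : EtCoh.Ab X) :
    Presieve.IsSheafFor (Q.obj ⋙ forget AddCommGrpCat.{u + 1})
      (Presieve.ofArrows (fam U V) (famMap U V W hU hV)) := by
  have hQ : Presieve.IsSheaf X.smallEtaleTopology (Q.obj ⋙ forget AddCommGrpCat.{u + 1}) :=
    (isSheaf_iff_isSheaf_of_type _ _).1
      ((Presheaf.isSheaf_iff_isSheaf_forget _ Q.obj (forget AddCommGrpCat.{u + 1})).1 Q.2)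
  exact (Presieve.isSheafFor_iff_generate _).2 (hQ _ (cover_mem_W U V W hU hV hW))

include hW in
theorem glue_W (Q : EtCoh.Ab X) (s : Q.obj.obj (op (EO U))) (t : Q.obj.obj (op (EO V)))
    (h : Q.obj.map (oMap (inf_le_left : U ⊓ V ≤ U)).op s =
      Q.obj.map (oMap (inf_le_right : U ⊓ V ≤ V)).op t) :
    ∃ r : Q.obj.obj (op (EO W)),
      Q.obj.map (oMap hU).op r = s ∧ Q.obj.map (oMap hV).op r = t := by
  have hsh := sheafFor_W U V W hU hV hW Q
  rw [Presieve.isSheafFor_arrows_iff] at hsh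
  have hcross : ∀ (Z : X.Etale) (gi : Z ⟶ EO U) (gj : Z ⟶ EO V),
      Q.obj.map gi.op s = Q.obj.map gj.op t := by
    intro Z gi gj
    obtain ⟨k, rfl, rfl⟩ := factor_inf gi gj
    rw [map_comp_apply, map_comp_apply, h]
  obtain ⟨r, hr, -⟩ := hsh
    (fun b => match b with
      | true => s
      | false => t) (by
    rintro (_ | _) (_ | _) Z gi gj hij
    · have : gi = gj := (cancel_mono (oMap hV)).1 hij
      rw [this]
    · exact (hcross Z gj gi).symm
    · exact hcross Z gi gj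
    · have : gi = gj := (cancel_mono (oMap hU)).1 hij
      rw [this])
  exact ⟨r, hr true, hr false⟩

include hW in
theorem sep_W (Q : EtCoh.Ab X) (r r' : Q.obj.obj (op (EO W)))
    (h1 : Q.obj.map (oMap hU).op r = Q.obj.map (oMap hU).op r')
    (h2 : Q.obj.map (oMap hV).op r = Q.obj.map (oMap hV).op r') : r = r' := by
  have hsh := sheafFor_W U V W hU hV hW Q
  refine hsh.isSeparatedFor.ext ?_
  rintro Y f ⟨b⟩
  cases b
  · exact h2
  · exact h1

end MV

section SES

variable (U V W : X.Opens) (hU : U ≤ W) (hV : V ≤ W)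

theorem oMap_ext {A B : X.Opens} (a b : EO A ⟶ EO B) : a = b :=
  (cancel_mono (toTop (EO B))).1 ((EtCore.topIsTerminal X).hom_ext _ _)

theorem mvW_zero :
    biprod.lift (pU U V) (-(qV U V)) ≫ biprod.desc (frMap (oMap hU)) (frMap (oMap hV)) = 0 := by
  rw [biprod.lift_desc, Preadditive.neg_comp, ← frMap_comp, ← frMap_comp,
    oMap_ext (oMap inf_le_left ≫ oMap hU) (oMap inf_le_right ≫ oMap hV), add_neg_cancel]

variable (hW : W ≤ U ⊔ V)

include hW in
theorem mvW_shortExact :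
    (ShortComplex.mk (biprod.lift (pU U V) (-(qV U V)))
      (biprod.desc (frMap (oMap hU)) (frMap (oMap hV))) (mvW_zero U V W hU hV)).ShortExact := by
  haveI : Mono (pU U V) := mono_frMap _
  haveI hmono : Mono (biprod.lift (pU U V) (-(qV U V))) :=
    mono_of_mono_fac (biprod.lift_fst _ _)
  have hepi_aux : ∀ (G : EtCoh.Ab X) (φ : fr (EO W) ⟶ G),
      frMap (oMap hU) ≫ φ = 0 → frMap (oMap hV) ≫ φ = 0 → φ = 0 := by
    intro G φ h1 h2
    apply (frEquiv (EO W) G).injective
    apply sep_W U V W hU hV hW G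
    · rw [← frEquiv_map, ← frEquiv_map, h1, comp_zero]
    · rw [← frEquiv_map, ← frEquiv_map, h2, comp_zero]
  haveI hepi : Epi (biprod.desc (frMap (oMap hU)) (frMap (oMap hV))) := by
    apply Preadditive.epi_of_cancel_zero
    intro G φ h
    apply hepi_aux G φ
    · rw [← biprod.inl_desc (frMap (oMap hU)) (frMap (oMap hV)), Category.assoc, h, comp_zero]
    · rw [← biprod.inr_desc (frMap (oMap hU)) (frMap (oMap hV)), Category.assoc, h, comp_zero]
  have hex : ∀ {G : EtCoh.Ab X} (ι' : fr (EO U) ⊞ fr (EO V) ⟶ G),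
      biprod.lift (pU U V) (-(qV U V)) ≫ ι' = 0 →
      ∃ ψ : fr (EO W) ⟶ G, biprod.desc (frMap (oMap hU)) (frMap (oMap hV)) ≫ ψ = ι' := by
    intro G ι' h0
    have hpq : pU U V ≫ biprod.inl ≫ ι' = qV U V ≫ biprod.inr ≫ ι' := by
      have h := h0
      rw [biprod.lift_eq, Preadditive.add_comp, Preadditive.neg_comp, Preadditive.neg_comp,
        ← sub_eq_add_neg, sub_eq_zero, Category.assoc, Category.assoc] at h
      exact h
    obtain ⟨r, hr1, hr2⟩ := glue_W U V W hU hV hW G (frEquiv (EO U) G (biprod.inl ≫ ι'))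
      (frEquiv (EO V) G (biprod.inr ≫ ι')) (by
        rw [← frEquiv_map, ← frEquiv_map]
        exact congrArg _ hpq)
    refine ⟨(frEquiv (EO W) G).symm r, ?_⟩
    apply biprod.hom_ext'
    · rw [biprod.inl_desc_assoc]
      apply (frEquiv (EO U) G).injective
      rw [frEquiv_map, Equiv.apply_symm_apply, hr1]
    · rw [biprod.inr_desc_assoc]
      apply (frEquiv (EO V) G).injective
      rw [frEquiv_map, Equiv.apply_symm_apply, hr2]
  have hcok : IsColimit (CokernelCofork.ofπ (biprod.desc (frMap (oMap hU)) (frMap (oMap hV)))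
      (mvW_zero U V W hU hV)) :=
    CokernelCofork.IsColimit.ofπ _ _ (fun g' h => (hex g' h).choose)
      (fun g' h => (hex g' h).choose_spec)
      (fun g' h m hm => by
        rw [← cancel_epi (biprod.desc (frMap (oMap hU)) (frMap (oMap hV))), hm,
          (hex g' h).choose_spec])
  exact { exact := ShortComplex.exact_of_g_is_cokernel _ hcok, mono_f := hmono, epi_g := hepi }

include hW in
/-- Mayer–Vietoris vanishing: if `Ext^n(ℤ[U ∩ V], F) = 0`, a class in `Ext^{n+1}(ℤ[W], F)` which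
dies on `U` and on `V` is zero. -/
theorem eq_zero_of_mv (F : EtCoh.Ab X) (n : ℕ)
    (h0 : ∀ y : Ext (fr (EO (U ⊓ V))) F n, y = 0) (x : Ext (fr (EO W)) F (n + 1))
    (hxU : (Ext.mk₀ (frMap (oMap hU))).comp x (zero_add (n + 1)) = 0)
    (hxV : (Ext.mk₀ (frMap (oMap hV))).comp x (zero_add (n + 1)) = 0) : x = 0 := by
  have hS := mvW_shortExact U V W hU hV hW
  have hy : (Ext.mk₀ (biprod.desc (frMap (oMap hU)) (frMap (oMap hV)))).comp x
      (zero_add (n + 1)) = 0 := by
    rw [ext_biprod_decomp ((Ext.mk₀ (biprod.desc (frMap (oMap hU)) (frMap (oMap hV)))).comp x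
      (zero_add (n + 1))), inl_desc_comp, inr_desc_comp, hxU, hxV, Ext.comp_zero, Ext.comp_zero,
      add_zero]
  obtain ⟨x₁, hx₁⟩ := Ext.contravariant_sequence_exact₃ hS F x hy (add_comm 1 n)
  rw [← hx₁, h0 x₁, Ext.comp_zero]

end SES

/-- when all local rings are strictly henselian, classes in `Ext^{i+1}(ℤ[U], F)` die Zariski
locally on `U` -/
theorem zar_loc_triv
    (hS : ∀ s : X, EtCoh.IsStrictlyHenselianLocalRing (X.presheaf.stalk s))
    (F : EtCoh.Ab X) (i : ℕ) (U : X.Opens) (x : Ext (fr (EO U)) F (i + 1)) (p : X) (hp : p ∈ U) :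
    ∃ (W' : X.Opens) (h : W' ≤ U), p ∈ W' ∧
      (Ext.mk₀ (frMap (oMap h))).comp x (zero_add (i + 1)) = 0 := by
  obtain ⟨V, g, ⟨v, hv⟩, h0⟩ := loc_triv_fr i F (EO U) x (⟨p, hp⟩ : ↥U)
  obtain ⟨W', σ, ⟨y, hy⟩⟩ :=
    Groth.Agent.Lib.EtZarEquiv_helper7.exists_open_hom_through hS V v
  have h : W' ≤ U := Groth.Agent.Lib.EtZarEquiv_helper7.le_of_hom (σ ≫ g)
  have e : oMap h = σ ≫ g := oMap_ext _ _
  refine ⟨W', h, ?_, ?_⟩
  · have hw : (σ ≫ g).left ≫ U.ι = W'.ι := MorphismProperty.Over.w (σ ≫ g)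
    have h1 : W'.ι y = U.ι (⟨p, hp⟩ : ↥U) := by
      rw [← hw]
      show U.ι (g.left (σ.left y)) = _
      rw [hy, hv]
    have h2 : W'.ι y ∈ Set.range W'.ι := Set.mem_range_self y
    rw [Scheme.Opens.range_ι, h1] at h2
    exact h2
  · rw [e, frMap_comp, ← Ext.mk₀_comp_mk₀_assoc, h0, Ext.comp_zero]

end Groth.Agent.Lib.GabberH8
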