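import Mathlib
import Groth.Agent.Lib.GabberCrit1_helper8

/-!
# Gabber's criterion, part 2: the ideal argument (helper8)
APPEND-ONLY once landed.
-/

set_option autoImplicit false
set_option linter.style.haveILetI false
universe u
open CategoryTheory CategoryTheory.Limits AlgebraicGeometry Opposite Abelian

namespace Groth.Agent.Lib.GabberH8

open Groth.Agent.Lib.EtFlasque_helper7 Groth.Agent.Lib.EtExtFr_helper7
  Groth.Agent.Lib.EtHpull0_helper7 Groth.Agent.Lib.EtSchSite_helper7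
  Groth.Agent.Lib.EtMVses_helper7 Groth.Agent.Lib.EtZeroDim_helper7

variable {X : Scheme.{u}} (F : EtCoh.Ab X)

/-- restriction of `Ext` classes between opens -/
noncomputable def res {U' U : X.Opens} (h : U' ≤ U) {n : ℕ} (x : Ext (fr (EO U)) F n) :
    Ext (fr (EO U')) F n :=
  (Ext.mk₀ (frMap (oMap h))).comp x (zero_add n)

lemma res_res {U'' U' U : X.Opens} (h' : U'' ≤ U') (h : U' ≤ U) {n : ℕ}
    (x : Ext (fr (EO U)) F n) : res F h' (res F h x) = res F (h'.trans h) x := by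
  unfold res
  rw [Ext.mk₀_comp_mk₀_assoc, ← frMap_comp, oMap_ext (oMap h' ≫ oMap h) (oMap (h'.trans h))]

lemma res_zero {U' U : X.Opens} (h : U' ≤ U) {n : ℕ} :
    res F h (0 : Ext (fr (EO U)) F n) = 0 := by
  unfold res
  rw [Ext.comp_zero]

lemma res_refl {U : X.Opens} {n : ℕ} (x : Ext (fr (EO U)) F n) : res F (le_refl U) x = x := by
  unfold res
  rw [oMap_ext (oMap (le_refl U)) (𝟙 _), frMap_id, Ext.mk₀_id_comp]

lemma res_eq_zero_of_le {U'' U' U : X.Opens} (h' : U'' ≤ U') (h : U' ≤ U) {n : ℕ}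
    (x : Ext (fr (EO U)) F n) (hx : res F h x = 0) (h'' : U'' ≤ U) : res F h'' x = 0 := by
  have := res_res F h' h x
  rw [hx, res_zero] at this
  exact this.symm

lemma ext_eq_zero_of_isEmpty (W : X.Etale) [IsEmpty W.left] {n : ℕ} (x : Ext (fr W) F n) :
    x = 0 := by
  have h0 : 𝟙 (fr W) = 0 := by
    apply (frEquiv W (fr W)).injective
    exact (subsingleton_of_isEmpty (fr W) W).elim _ _
  have h1 : x = (Ext.mk₀ (𝟙 (fr W))).comp x (zero_add n) := (Ext.mk₀_id_comp x).symm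
  rw [h1, h0, Ext.mk₀_zero, Ext.zero_comp]

/-- the class `ξ` dies on the basic open `D(c)` (which lies in `U`) -/
def Dies {U : X.Opens} {n : ℕ} (ξ : Ext (fr (EO U)) F n) (c : Γ(X, ⊤)) : Prop :=
  ∃ hle : X.basicOpen c ≤ U, res F hle ξ = 0

lemma basicOpen_mul_le_right (c f : Γ(X, ⊤)) : X.basicOpen (c * f) ≤ X.basicOpen f :=
  (X.basicOpen_mul c f).trans_le inf_le_right

lemma basicOpen_mul_le_left (c f : Γ(X, ⊤)) : X.basicOpen (c * f) ≤ X.basicOpen c :=
  (X.basicOpen_mul c f).trans_le inf_le_left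

lemma dies_mul {U : X.Opens} {n : ℕ} (ξ : Ext (fr (EO U)) F n) (c f : Γ(X, ⊤))
    (hf : Dies F ξ f) : Dies F ξ (c * f) := by
  obtain ⟨hle, h0⟩ := hf
  exact ⟨(basicOpen_mul_le_right c f).trans hle,
    res_eq_zero_of_le F (basicOpen_mul_le_right c f) hle ξ h0 _⟩

lemma dies_zero {U : X.Opens} {n : ℕ} (ξ : Ext (fr (EO U)) F n) : Dies F ξ 0 := by
  have hb : X.basicOpen (0 : Γ(X, ⊤)) = ⊥ := Scheme.basicOpen_zero X ⊤
  have hle : X.basicOpen (0 : Γ(X, ⊤)) ≤ U := by rw [hb]; exact bot_le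
  refine ⟨hle, ?_⟩
  haveI : IsEmpty (EO (X.basicOpen (0 : Γ(X, ⊤)))).left := by
    show IsEmpty ↥(X.basicOpen (0 : Γ(X, ⊤)))
    rw [hb]
    exact ⟨fun z => z.2⟩
  exact ext_eq_zero_of_isEmpty F _ _

lemma basicOpen_add_le (f g : Γ(X, ⊤)) :
    X.basicOpen (f + g) ≤ X.basicOpen (f * (f + g)) ⊔ X.basicOpen (g * (f + g)) := by
  intro x hx
  have hu : IsUnit ((X.presheaf.germ ⊤ x trivial).hom (f + g)) :=
    (Scheme.mem_basicOpen_top X (f + g) x).1 hx
  rw [map_add] at hu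
  rcases IsLocalRing.isUnit_or_isUnit_of_isUnit_add hu with h | h
  · left
    rw [X.basicOpen_mul]
    exact ⟨(Scheme.mem_basicOpen_top X f x).2 h, hx⟩
  · right
    rw [X.basicOpen_mul]
    exact ⟨(Scheme.mem_basicOpen_top X g x).2 h, hx⟩

/-- the hypothesis of Gabber's criterion, in `Ext(ℤ[D(f)], F)` form -/
def Hker : Prop :=
  ∀ (f g : Γ(X, ⊤)) (e : Ext (fr (EO (X.basicOpen (f + g)))) F 1),
    res F (basicOpen_mul_le_right f (f + g)) e = 0 →
      res F (basicOpen_mul_le_right g (f + g)) e = 0 → e = 0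

lemma dies_add_one (hker : Hker F) {U : X.Opens} (ξ : Ext (fr (EO U)) F 1) (f g : Γ(X, ⊤))
    (hf : Dies F ξ f) (hg : Dies F ξ g) (hfg : X.basicOpen (f + g) ≤ U) : Dies F ξ (f + g) := by
  obtain ⟨hlef, hf0⟩ := hf
  obtain ⟨hleg, hg0⟩ := hg
  refine ⟨hfg, ?_⟩
  apply hker f g
  · rw [res_res]
    exact res_eq_zero_of_le F (basicOpen_mul_le_left f (f + g)) hlef ξ hf0 _
  · rw [res_res]
    exact res_eq_zero_of_le F (basicOpen_mul_le_left g (f + g)) hleg ξ hg0 _

lemma dies_add_succ (n : ℕ)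
    (hprev : ∀ (c : Γ(X, ⊤)) (y : Ext (fr (EO (X.basicOpen c))) F (n + 1)), y = 0)
    {U : X.Opens} (ξ : Ext (fr (EO U)) F (n + 1 + 1)) (f g : Γ(X, ⊤))
    (hf : Dies F ξ f) (hg : Dies F ξ g) (hfg : X.basicOpen (f + g) ≤ U) : Dies F ξ (f + g) := by
  obtain ⟨hlef, hf0⟩ := hf
  obtain ⟨hleg, hg0⟩ := hg
  refine ⟨hfg, ?_⟩
  have h0 : ∀ y : Ext (fr (EO (X.basicOpen (f * (f + g)) ⊓ X.basicOpen (g * (f + g))))) F (n + 1),
      y = 0 := by
    rw [← X.basicOpen_mul]
    exact hprev _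
  apply eq_zero_of_mv (X.basicOpen (f * (f + g))) (X.basicOpen (g * (f + g)))
    (X.basicOpen (f + g)) (basicOpen_mul_le_right f (f + g)) (basicOpen_mul_le_right g (f + g))
    (basicOpen_add_le f g) F (n + 1) h0
  · show res F (basicOpen_mul_le_right f (f + g)) (res F hfg ξ) = 0
    rw [res_res]
    exact res_eq_zero_of_le F (basicOpen_mul_le_left f (f + g)) hlef ξ hf0 _
  · show res F (basicOpen_mul_le_right g (f + g)) (res F hfg ξ) = 0
    rw [res_res]
    exact res_eq_zero_of_le F (basicOpen_mul_le_left g (f + g)) hleg ξ hg0 _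

section Ideal

variable [IsAffine X]
  (hS : ∀ s : X, EtCoh.IsStrictlyHenselianLocalRing (X.presheaf.stalk s))

include hS in
/-- **the ideal argument**: a class on `D(h)` such that "dying on `D(f)`" is additive in `f`
vanishes. -/
theorem vanish_of_dies (n : ℕ) (h : Γ(X, ⊤)) (ξ : Ext (fr (EO (X.basicOpen h))) F (n + 1))
    (hadd : ∀ f g : Γ(X, ⊤), Dies F ξ f → Dies F ξ g → X.basicOpen (f + g) ≤ X.basicOpen h →
      Dies F ξ (f + g)) : ξ = 0 := by
  let J : Ideal Γ(X, ⊤) :=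
    { carrier := {a | Dies F ξ (h * a)}
      add_mem' := by
        intro a b ha hb
        show Dies F ξ (h * (a + b))
        rw [mul_add]
        refine hadd _ _ ha hb ?_
        rw [← mul_add]
        exact basicOpen_mul_le_left h (a + b)
      zero_mem' := by
        show Dies F ξ (h * 0)
        rw [mul_zero]
        exact dies_zero F ξ
      smul_mem' := by
        intro c a ha
        show Dies F ξ (h * (c • a))
        rw [smul_eq_mul, mul_left_comm]
        exact dies_mul F ξ c (h * a) ha }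
  have hrad : h ∈ J.radical := by
    rw [Ideal.radical_eq_sInf, Ideal.mem_sInf]
    rintro P ⟨hJP, hPprime⟩
    by_contra hh
    let Pt : PrimeSpectrum Γ(X, ⊤) := ⟨P, hPprime⟩
    let x : X := X.isoSpec.inv Pt
    have hx : X.isoSpec.hom x = Pt := by
      show (X.isoSpec.inv ≫ X.isoSpec.hom) Pt = Pt
      rw [Iso.inv_hom_id]
      rfl
    have hmem : ∀ a : Γ(X, ⊤), x ∈ X.basicOpen a ↔ a ∉ P := by
      intro a
      rw [← Scheme.map_PrimeSpectrum_basicOpen_of_affine X a]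
      show X.isoSpec.hom x ∈ PrimeSpectrum.basicOpen a ↔ _
      rw [hx]
      rfl
    have hxh : x ∈ X.basicOpen h := (hmem h).2 hh
    obtain ⟨W', hW', hxW', h0⟩ := zar_loc_triv hS F n (X.basicOpen h) ξ x hxh
    obtain ⟨_, ⟨a, rfl⟩, hxa, haW'⟩ :=
      (TopologicalSpace.Opens.isBasis_iff_nbhd.1 (isBasis_basicOpen X)) hxW'
    have haJ : a ∈ J := by
      show Dies F ξ (h * a)
      refine ⟨basicOpen_mul_le_left h a, ?_⟩
      exact res_eq_zero_of_le F ((basicOpen_mul_le_right h a).trans haW') hW' ξ h0 _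
    exact (hmem a).1 hxa (hJP haJ)
  obtain ⟨N, hN⟩ := hrad
  obtain ⟨hle, h0⟩ : Dies F ξ (h * h ^ N) := hN
  have hge : X.basicOpen h ≤ X.basicOpen (h * h ^ N) := by
    intro x hx
    have hu : IsUnit ((X.presheaf.germ ⊤ x trivial).hom h) :=
      (Scheme.mem_basicOpen_top X h x).1 hx
    apply (Scheme.mem_basicOpen_top X (h * h ^ N) x).2
    rw [map_mul, map_pow]
    exact hu.mul (hu.pow N)
  have h1 := res_res F hge hle ξ
  rw [h0, res_zero] at h1
  rw [← res_refl F ξ]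
  exact h1.symm

include hS in
/-- **Gabber's criterion**, `Ext(ℤ[D(h)], F)` form -/
theorem gabber_vanish (hker : Hker F) : ∀ (n : ℕ) (h : Γ(X, ⊤))
    (ξ : Ext (fr (EO (X.basicOpen h))) F (n + 1)), ξ = 0 := by
  intro n
  induction n with
  | zero =>
    intro h ξ
    exact vanish_of_dies F hS 0 h ξ (fun f g hf hg hfg => dies_add_one F hker ξ f g hf hg hfg)
  | succ n ih =>
    intro h ξ
    exact vanish_of_dies F hS (n + 1) h ξ
      (fun f g hf hg hfg => dies_add_succ F n ih ξ f g hf hg hfg)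

end Ideal

end Groth.Agent.Lib.GabberH8
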