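import Mathlib
import Groth.Agent.Lib.GabberCrit2_helper8
import Groth.Agent.Lib.EtMVsq_helper7

/-!
# Gabber's criterion, part 3: translation to étale cohomology of basic opens (helper8)
APPEND-ONLY once landed.
-/

set_option autoImplicit false
set_option linter.style.haveILetI false
universe u
open CategoryTheory CategoryTheory.Limits AlgebraicGeometry Opposite Abelian

namespace Groth.Agent.Lib.GabberH8

open Groth.Agent.Lib.EtFlasque_helper7 Groth.Agent.Lib.EtExtFr_helper7
  Groth.Agent.Lib.EtHpull0_helper7 Groth.Agent.Lib.EtSchSite_helper7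
  Groth.Agent.Lib.EtMVses_helper7 Groth.Agent.Lib.EtZeroDim_helper7
  Groth.Agent.Lib.EtMVsq_helper7 EtPullExact

variable {X : Scheme.{u}} (F : EtCoh.Ab X)

/-- translation of the hypothesis -/
theorem hker_of
    (hker : ∀ (f g : Γ(X, ⊤))
      [PreservesFiniteLimits (EtCoh.pull (X.homOfLE ((X.basicOpen_mul f (f + g)).trans_le inf_le_right)))]
      [PreservesFiniteLimits (EtCoh.pull (X.homOfLE ((X.basicOpen_mul g (f + g)).trans_le inf_le_right)))]
      (ξ : EtCoh.H ↑(X.basicOpen (f + g)) ((EtCoh.pull (X.basicOpen (f + g)).ι).obj F) 1),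
      EtCore.HpullVia (X.homOfLE ((X.basicOpen_mul f (f + g)).trans_le inf_le_right))
        (X.basicOpen (f + g)).ι (X.basicOpen (f * (f + g))).ι
        (X.homOfLE_ι ((X.basicOpen_mul f (f + g)).trans_le inf_le_right)) F 1 ξ = 0 →
      EtCore.HpullVia (X.homOfLE ((X.basicOpen_mul g (f + g)).trans_le inf_le_right))
        (X.basicOpen (f + g)).ι (X.basicOpen (g * (f + g))).ι
        (X.homOfLE_ι ((X.basicOpen_mul g (f + g)).trans_le inf_le_right)) F 1 ξ = 0 →
      ξ = 0) : Hker F := by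
  intro f g e h1 h2
  haveI i1 := pull_pfl_ab (X.homOfLE ((X.basicOpen_mul f (f + g)).trans_le inf_le_right))
  haveI i2 := pull_pfl_ab (X.homOfLE ((X.basicOpen_mul g (f + g)).trans_le inf_le_right))
  apply (ΨW_bijective (EO (X.basicOpen (f + g))) F 1).1
  rw [map_zero]
  apply hker f g
  · have h := ΨW_frMap (oMap (basicOpen_mul_le_right f (f + g))) F 1 e
    refine h.symm.trans ?_
    have h1' : (Ext.mk₀ (frMap (oMap (basicOpen_mul_le_right f (f + g))))).comp e (zero_add 1) = 0 :=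
      h1
    rw [h1']
    exact map_zero _
  · have h := ΨW_frMap (oMap (basicOpen_mul_le_right g (f + g))) F 1 e
    refine h.symm.trans ?_
    have h2' : (Ext.mk₀ (frMap (oMap (basicOpen_mul_le_right g (f + g))))).comp e (zero_add 1) = 0 :=
      h2
    rw [h2']
    exact map_zero _

theorem isIso_frMap {A B : X.Etale} (g : A ⟶ B) [IsIso g] : IsIso (frMap g) :=
  ⟨frMap (inv g), by rw [← frMap_comp, IsIso.hom_inv_id, frMap_id],
    by rw [← frMap_comp, IsIso.inv_hom_id, frMap_id]⟩

theorem isIso_toTop_EO_top : IsIso (toTop (EO (⊤ : X.Opens))) :=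
  (Groth.Agent.Lib.EtZarEquiv_helper7.jIso X).isIso_inv

theorem isIso_aW_of_eq_top (U : X.Opens) (hU : U = ⊤) : IsIso (aW (EO U)) := by
  subst hU
  haveI := isIso_toTop_EO_top (X := X)
  haveI := isIso_frMap (toTop (EO (⊤ : X.Opens)))
  haveI := isIso_aW_top (X := X)
  rw [← frMap_comp_aW (toTop (EO (⊤ : X.Opens)))]
  infer_instance

/-- **Gabber's criterion** (Stacks 09AZ), for an affine scheme all of whose local rings are
strictly henselian. -/
theorem gabber_criterion [IsAffine X]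
    (hS : ∀ s : X, EtCoh.IsStrictlyHenselianLocalRing (X.presheaf.stalk s))
    (hker : ∀ (f g : Γ(X, ⊤))
      [PreservesFiniteLimits (EtCoh.pull (X.homOfLE ((X.basicOpen_mul f (f + g)).trans_le inf_le_right)))]
      [PreservesFiniteLimits (EtCoh.pull (X.homOfLE ((X.basicOpen_mul g (f + g)).trans_le inf_le_right)))]
      (ξ : EtCoh.H ↑(X.basicOpen (f + g)) ((EtCoh.pull (X.basicOpen (f + g)).ι).obj F) 1),
      EtCore.HpullVia (X.homOfLE ((X.basicOpen_mul f (f + g)).trans_le inf_le_right))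
        (X.basicOpen (f + g)).ι (X.basicOpen (f * (f + g))).ι
        (X.homOfLE_ι ((X.basicOpen_mul f (f + g)).trans_le inf_le_right)) F 1 ξ = 0 →
      EtCore.HpullVia (X.homOfLE ((X.basicOpen_mul g (f + g)).trans_le inf_le_right))
        (X.basicOpen (f + g)).ι (X.basicOpen (g * (f + g))).ι
        (X.homOfLE_ι ((X.basicOpen_mul g (f + g)).trans_le inf_le_right)) F 1 ξ = 0 →
      ξ = 0) (q : ℕ) (hq : 1 ≤ q) : Subsingleton (EtCoh.H X F q) := by
  obtain ⟨n, rfl⟩ : ∃ n, q = n + 1 := ⟨q - 1, by omega⟩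
  have hv := gabber_vanish F hS (hker_of F hker) n (1 : Γ(X, ⊤))
  haveI := isIso_aW_of_eq_top (X.basicOpen (1 : Γ(X, ⊤))) (Scheme.basicOpen_one X)
  have key : ∀ x : EtCoh.H X F (n + 1), x = 0 := by
    intro x
    have h0 := hv ((Ext.mk₀ (aW (EO (X.basicOpen (1 : Γ(X, ⊤)))))).comp x (zero_add (n + 1)))
    have h2 := congrArg (fun s => (Ext.mk₀ (inv (aW (EO (X.basicOpen (1 : Γ(X, ⊤))))))).comp s
      (zero_add (n + 1))) h0
    simp only [Ext.mk₀_comp_mk₀_assoc, IsIso.inv_hom_id, Ext.mk₀_id_comp, Ext.comp_zero] at h2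
    exact h2
  exact ⟨fun a b => (key a).trans (key b).symm⟩

end Groth.Agent.Lib.GabberH8
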