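import Mathlib
import Groth.Agent.Lib.GabberMultiHensel_lead

/-!
# Lifting coprime factorizations over a henselian pair (via the multi-variable Hensel lemma and
the Sylvester matrix)
-/

namespace Groth.Agent.Lib.GabberFactor
open Polynomial Groth.Agent.Lib.HenselPair

universe u
variable {A : Type u} [CommRing A]

/-- Hensel's lemma for quadratic systems near `0`. -/
theorem quad_solution {I : Ideal A} (hI : HenselianRing A I) {d : ℕ} (c : Fin d → A)
    (hc : ∀ k, c k ∈ I) (S : Matrix (Fin d) (Fin d) A) (hS : IsUnit (Ideal.Quotient.mk I S.det))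
    (a : Fin d → Fin d → Fin d → A) :
    ∃ w : Fin d → A, (∀ i, w i ∈ I) ∧
      ∀ k, c k + ∑ i, S k i * w i + ∑ i, ∑ j, a i j k * w i * w j = 0 := by
  classical
  let V : Fin d → MvPolynomial (Fin d) A := fun k =>
    (MvPolynomial.C (c k) + ∑ i, MvPolynomial.C (S k i) * MvPolynomial.X i) +
      ∑ i, ∑ j, MvPolynomial.C (a i j k) * MvPolynomial.X i * MvPolynomial.X j
  have hevalV : ∀ (x : Fin d → A) (k : Fin d), MvPolynomial.eval x (V k) =
      c k + ∑ i, S k i * x i + ∑ i, ∑ j, a i j k * x i * x j := by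
    intro x k
    simp only [V, map_add, map_sum, map_mul, MvPolynomial.eval_C, MvPolynomial.eval_X]
  have h0 : ∀ k, MvPolynomial.eval (0 : Fin d → A) (V k) ∈ I := by
    intro k
    rw [hevalV]
    simp only [Pi.zero_apply, mul_zero, Finset.sum_const_zero, add_zero]
    exact hc k
  have hder : ∀ l k : Fin d,
      MvPolynomial.eval (0 : Fin d → A) (MvPolynomial.pderiv l (V k)) = S k l := by
    intro l k
    have h1 : MvPolynomial.pderiv l (MvPolynomial.C (c k) +
        ∑ i, MvPolynomial.C (S k i) * MvPolynomial.X i) = MvPolynomial.C (S k l) := by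
      rw [map_add, MvPolynomial.pderiv_C, zero_add, map_sum, Finset.sum_eq_single l]
      · rw [MvPolynomial.pderiv_C_mul, MvPolynomial.pderiv_X_self, mul_one]
      · intro i _ hil
        rw [MvPolynomial.pderiv_C_mul, MvPolynomial.pderiv_X_of_ne hil, mul_zero]
      · intro h; exact absurd (Finset.mem_univ l) h
    show MvPolynomial.eval (0 : Fin d → A) (MvPolynomial.pderiv l
      ((MvPolynomial.C (c k) + ∑ i, MvPolynomial.C (S k i) * MvPolynomial.X i) +
      ∑ i, ∑ j, MvPolynomial.C (a i j k) * MvPolynomial.X i * MvPolynomial.X j)) = S k l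
    rw [map_add, map_add, h1, GabberMultiHensel.eval_pderiv_quad (fun i j => a i j k),
      MvPolynomial.eval_C]
    simp only [Pi.zero_apply, mul_zero, Finset.sum_const_zero, add_zero]
  have hJ : IsUnit (Ideal.Quotient.mk I (Matrix.det (Matrix.of fun i j : Fin d =>
      MvPolynomial.eval (0 : Fin d → A) (MvPolynomial.pderiv i (V j))))) := by
    have hmat : (Matrix.of fun i j : Fin d =>
        MvPolynomial.eval (0 : Fin d → A) (MvPolynomial.pderiv i (V j))) = S.transpose := by
      ext i j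
      rw [Matrix.of_apply, Matrix.transpose_apply, hder]
    rw [hmat, Matrix.det_transpose]
    exact hS
  obtain ⟨x, hxV, hxI⟩ := GabberMultiHensel.exists_solution hI V 0 h0 hJ
  refine ⟨x, fun i => ?_, fun k => ?_⟩
  · have := hxI i
    rwa [Pi.zero_apply, sub_zero] at this
  · rw [← hevalV]; exact hxV k

/-- **Hensel's lemma**, factorization form, for henselian pairs: a factorization of `f` mod `I`
into coprime factors, the first of which is monic, lifts. -/
theorem factor_lift {I : Ideal A} (hI : HenselianRing A I) (f : A[X]) (g₀ h₀ : (A ⧸ I)[X])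
    (hg : g₀.Monic) (hc : IsCoprime g₀ h₀) (hf : f.map (Ideal.Quotient.mk I) = g₀ * h₀) :
    ∃ g h : A[X], f = g * h ∧ g.Monic ∧ g.map (Ideal.Quotient.mk I) = g₀ ∧
      h.map (Ideal.Quotient.mk I) = h₀ := by
  classical
  rcases subsingleton_or_nontrivial A with hsub | hnt
  · haveI : Subsingleton (A ⧸ I) := (Ideal.Quotient.mk_surjective (I := I)).subsingleton
    exact ⟨1, 1, Subsingleton.elim _ _, monic_one, Subsingleton.elim _ _, Subsingleton.elim _ _⟩
  obtain ⟨gt, hgt_map, hgt_deg, hgt_monic⟩ :=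
    Polynomial.lifts_and_natDegree_eq_and_monic
      ((Polynomial.mem_lifts _).mpr
        (Polynomial.map_surjective _ Ideal.Quotient.mk_surjective g₀)) hg
  obtain ⟨ht, hht_map⟩ := Polynomial.map_surjective _ Ideal.Quotient.mk_surjective h₀
  obtain ⟨r, hr⟩ : ∃ r, r = gt.natDegree := ⟨_, rfl⟩
  obtain ⟨s, hs⟩ : ∃ s, s = max f.natDegree ht.natDegree := ⟨_, rfl⟩
  have hfs : f.natDegree ≤ s := hs ▸ le_max_left _ _
  have hts : ht.natDegree ≤ s := hs ▸ le_max_right _ _
  have hgr : gt.natDegree ≤ r := hr ▸ le_rfl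
  have htn : ht.natDegree ≤ s + 1 := Nat.le_succ_of_le hts
  let b₁ : Module.Basis (Fin (r + (s + 1))) A (A[X]_r × A[X]_(s + 1)) :=
    ((degreeLT.basis A r).prod (degreeLT.basis A (s + 1))).reindex finSumFinEquiv
  let pu : Fin (r + (s + 1)) → A[X] := fun i => ((b₁ i).1 : A[X])
  let pv : Fin (r + (s + 1)) → A[X] := fun i => ((b₁ i).2 : A[X])
  let c : Fin (r + (s + 1)) → A := fun k => (gt * ht - f).coeff k
  let S : Matrix (Fin (r + (s + 1))) (Fin (r + (s + 1))) A :=
    Matrix.of fun k i => (gt * pv i + ht * pu i).coeff k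
  let a : Fin (r + (s + 1)) → Fin (r + (s + 1)) → Fin (r + (s + 1)) → A :=
    fun i j k => (pu i * pv j).coeff k
  have hcI : ∀ k, c k ∈ I := by
    intro k
    show (gt * ht - f).coeff k ∈ I
    rw [← Ideal.Quotient.eq_zero_iff_mem, ← coeff_map, Polynomial.map_sub, Polynomial.map_mul,
      hgt_map, hht_map, hf, sub_self, coeff_zero]
  have hSyl : S = Polynomial.sylvester gt ht r (s + 1) := by
    rw [← Polynomial.toMatrix_sylvesterMap' gt ht hgr htn]
    ext k i
    rw [LinearMap.toMatrix_apply, degreeLT.basis_repr, sylvesterMap_apply_coe]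
    rfl
  have hS : IsUnit (Ideal.Quotient.mk I S.det) := by
    rw [hSyl]
    show IsUnit (Ideal.Quotient.mk I (Polynomial.resultant gt ht r (s + 1)))
    rw [← Polynomial.resultant_map_map, hgt_map, hht_map]
    have hh₀ : h₀.natDegree ≤ s + 1 := by
      rw [← hht_map]; exact natDegree_map_le.trans htn
    obtain ⟨k', hk'⟩ := Nat.exists_eq_add_of_le hh₀
    rw [hk', Polynomial.resultant_add_right_deg _ _ _ _ k' le_rfl]
    have hcoeff : g₀.coeff r = 1 := by
      rw [hr, hgt_deg]; exact hg.coeff_natDegree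
    rw [hcoeff, one_pow, one_mul, hr, hgt_deg]
    exact (Polynomial.isUnit_resultant_iff_isCoprime hg).mpr hc
  obtain ⟨w, hwI, hw⟩ := quad_solution hI c hcI S hS a
  let uv : A[X]_r × A[X]_(s + 1) := ∑ i, w i • b₁ i
  obtain ⟨u, hudef⟩ : ∃ u : A[X], u = (uv.1 : A[X]) := ⟨_, rfl⟩
  obtain ⟨v, hvdef⟩ : ∃ v : A[X], v = (uv.2 : A[X]) := ⟨_, rfl⟩
  have hu : u = ∑ i, w i • pu i := by
    rw [hudef]
    simp only [uv, pu, Prod.fst_sum, Prod.smul_fst, Submodule.coe_sum, Submodule.coe_smul]
  have hv : v = ∑ i, w i • pv i := by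
    rw [hvdef]
    simp only [uv, pv, Prod.snd_sum, Prod.smul_snd, Submodule.coe_sum, Submodule.coe_smul]
  have hudeg : u.degree < r := by rw [hudef]; exact mem_degreeLT.mp uv.1.2
  have hvdeg : v.degree < ((s + 1 : ℕ) : WithBot ℕ) := by
    rw [hvdef]; exact mem_degreeLT.mp uv.2.2
  have hvnat : v.natDegree ≤ s := by
    rcases eq_or_ne v 0 with h | h
    · rw [h]; simp
    · exact Nat.lt_succ_iff.mp ((natDegree_lt_iff_degree_lt h).mpr hvdeg)
  have hucoeff : ∀ m, u.coeff m ∈ I := by
    intro m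
    rw [hu, finset_sum_coeff]
    exact I.sum_mem fun i _ => by
      rw [coeff_smul, smul_eq_mul]; exact I.mul_mem_right _ (hwI i)
  have hvcoeff : ∀ m, v.coeff m ∈ I := by
    intro m
    rw [hv, finset_sum_coeff]
    exact I.sum_mem fun i _ => by
      rw [coeff_smul, smul_eq_mul]; exact I.mul_mem_right _ (hwI i)
  have humap : u.map (Ideal.Quotient.mk I) = 0 := by
    ext m; rw [coeff_map, coeff_zero, Ideal.Quotient.eq_zero_iff_mem]; exact hucoeff m
  have hvmap : v.map (Ideal.Quotient.mk I) = 0 := by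
    ext m; rw [coeff_map, coeff_zero, Ideal.Quotient.eq_zero_iff_mem]; exact hvcoeff m
  have hudeg' : u.degree < gt.degree := by
    rw [degree_eq_natDegree hgt_monic.ne_zero, ← hr]; exact hudeg
  have hgmonic : (gt + u).Monic := hgt_monic.add_of_left hudeg'
  have hgnat : (gt + u).natDegree = r := by
    rw [natDegree_add_eq_left_of_degree_lt hudeg', hr]
  have hhnat : (ht + v).natDegree ≤ s :=
    (natDegree_add_le _ _).trans (max_le hts hvnat)
  -- the expansion
  have hlin : gt * v + ht * u = ∑ i, w i • (gt * pv i + ht * pu i) := by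
    rw [hu, hv, Finset.mul_sum, Finset.mul_sum, ← Finset.sum_add_distrib]
    refine Finset.sum_congr rfl fun i _ => ?_
    rw [mul_smul_comm, mul_smul_comm, smul_add]
  have hquad : u * v = ∑ i, ∑ j, (w i * w j) • (pu i * pv j) := by
    rw [hu, hv, Finset.sum_mul_sum]
    refine Finset.sum_congr rfl fun i _ => Finset.sum_congr rfl fun j _ => ?_
    rw [smul_mul_smul_comm]
  have hexp : (gt + u) * (ht + v) - f = (gt * ht - f) + (gt * v + ht * u) + u * v := by ring
  have hzero : (gt + u) * (ht + v) - f = 0 := by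
    ext m
    rw [coeff_zero]
    by_cases hm : m < r + (s + 1)
    · have h1 := hw ⟨m, hm⟩
      rw [hexp, coeff_add, coeff_add, hlin, hquad, finset_sum_coeff, finset_sum_coeff]
      rw [← h1]
      congr 1
      · congr 1
        refine Finset.sum_congr rfl fun i _ => ?_
        rw [coeff_smul, smul_eq_mul, mul_comm]
        rfl
      · refine Finset.sum_congr rfl fun i _ => ?_
        rw [finset_sum_coeff]
        refine Finset.sum_congr rfl fun j _ => ?_
        rw [coeff_smul, smul_eq_mul]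
        show w i * w j * (pu i * pv j).coeff m = (pu i * pv j).coeff m * w i * w j
        ring
    · apply coeff_eq_zero_of_natDegree_lt
      have h2 : ((gt + u) * (ht + v) - f).natDegree ≤ r + s := by
        refine (natDegree_sub_le _ _).trans (max_le ?_ (hfs.trans (Nat.le_add_left _ _)))
        refine natDegree_mul_le.trans ?_
        rw [hgnat]; exact Nat.add_le_add_left hhnat r
      omega
  refine ⟨gt + u, ht + v, (sub_eq_zero.mp hzero).symm, hgmonic, ?_, ?_⟩
  · rw [Polynomial.map_add, humap, add_zero, hgt_map]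
  · rw [Polynomial.map_add, hvmap, add_zero, hht_map]

/-- The converse: lifting of coprime monic factorizations implies henselian. -/
theorem henselian_of_factor_lift (I : Ideal A) (hjac : I ≤ Ideal.jacobson ⊥)
    (H : ∀ f : A[X], f.Monic → ∀ g₀ h₀ : (A ⧸ I)[X], g₀.Monic → h₀.Monic →
        IsCoprime g₀ h₀ → Polynomial.map (Ideal.Quotient.mk I) f = g₀ * h₀ →
        ∃ g h : A[X], g.Monic ∧ h.Monic ∧ f = g * h ∧
          Polynomial.map (Ideal.Quotient.mk I) g = g₀ ∧
          Polynomial.map (Ideal.Quotient.mk I) h = h₀) :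
    HenselianRing A I := by
  refine ⟨hjac, fun f hf a₀ hfa hunit => ?_⟩
  rcases subsingleton_or_nontrivial A with hsub | hnt
  · exact ⟨a₀, Subsingleton.elim _ _, by rw [sub_self]; exact I.zero_mem⟩
  have hItop : I ≠ ⊤ := by
    intro h
    rw [h, top_le_iff, Ideal.jacobson_eq_top_iff] at hjac
    exact bot_ne_top hjac
  haveI : Nontrivial (A ⧸ I) := Ideal.Quotient.nontrivial_iff.mpr hItop
  obtain ⟨ab, hab⟩ : ∃ ab : A ⧸ I, ab = Ideal.Quotient.mk I a₀ := ⟨_, rfl⟩
  have hroot : (f.map (Ideal.Quotient.mk I)).IsRoot ab := by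
    rw [IsRoot, hab, eval_map, eval₂_at_apply]
    exact Ideal.Quotient.eq_zero_iff_mem.mpr hfa
  obtain ⟨q, hqdef⟩ : ∃ q, q = f.map (Ideal.Quotient.mk I) /ₘ (X - C ab) := ⟨_, rfl⟩
  have hq : (X - C ab) * q = f.map (Ideal.Quotient.mk I) := by
    rw [hqdef]; exact mul_divByMonic_eq_iff_isRoot.mpr hroot
  have hqeval : q.eval ab = Ideal.Quotient.mk I (f.derivative.eval a₀) := by
    have h1 := congrArg (fun p => (derivative p).eval ab) hq
    simp only [derivative_mul, derivative_sub, derivative_X, derivative_C, sub_zero, one_mul,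
      eval_add, eval_mul, eval_sub, eval_X, eval_C, sub_self, zero_mul, add_zero] at h1
    rw [h1, derivative_map, hab, eval_map, eval₂_at_apply]
  have hqunit : IsUnit (q.eval ab) := by rw [hqeval]; exact hunit
  obtain ⟨t, ht⟩ := X_sub_C_dvd_sub_C_eval (a := ab) (p := q)
  have hcop : IsCoprime (X - C ab) q := by
    refine ⟨-(C (↑hqunit.unit⁻¹ : A ⧸ I) * t), C (↑hqunit.unit⁻¹ : A ⧸ I), ?_⟩
    have h1 : C (↑hqunit.unit⁻¹ : A ⧸ I) * C (q.eval ab) = 1 := by
      rw [← C_mul, IsUnit.val_inv_mul, C_1]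
    linear_combination h1 + C (↑hqunit.unit⁻¹ : A ⧸ I) * ht
  have hqmonic : q.Monic :=
    (monic_X_sub_C ab).of_mul_monic_left (by rw [hq]; exact hf.map _)
  obtain ⟨g, h, hgm, hhm, hfgh, hgmap, hhmap⟩ :=
    H f hf (X - C ab) q (monic_X_sub_C ab) hqmonic hcop hq.symm
  have hgdeg : g.natDegree = 1 := by
    rw [← hgm.natDegree_map (Ideal.Quotient.mk I), hgmap, natDegree_X_sub_C]
  have hgform := hgm.eq_X_add_C hgdeg
  have hc0 : Ideal.Quotient.mk I (g.coeff 0) = -ab := by
    have h1 := congrArg (fun p => p.coeff 0) hgmap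
    simpa using h1
  refine ⟨-g.coeff 0, ?_, ?_⟩
  · rw [IsRoot, hfgh, eval_mul]
    have h1 : g.eval (-g.coeff 0) = 0 := by
      have h2 := congrArg (eval (-g.coeff 0)) hgform
      rw [h2]; simp
    rw [h1, zero_mul]
  · rw [← Ideal.Quotient.eq, map_neg, hc0, neg_neg, hab]

end Groth.Agent.Lib.GabberFactor
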