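import Mathlib
import Groth.Agent.Lib.GabberIdem_lead
import Groth.Agent.Lib.GabberFEt_lead

/-!
# Lifting idempotents in non-commutative finite algebras and lifting finite projective modules
over a henselian pair
-/

namespace Groth.Agent.Lib.GabberProj
open Polynomial TensorProduct Groth.Agent.Lib.HenselPair

universe u
variable {A : Type u} [CommRing A]

theorem smul_top_mul_right {E : Type*} [Ring E] [Algebra A E] (I : Ideal A) {y : E}
    (hy : y ∈ I • (⊤ : Submodule A E)) (s : E) : y * s ∈ I • (⊤ : Submodule A E) := by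
  refine Submodule.smul_induction_on hy ?_ ?_
  · intro r hr t _
    rw [smul_mul_assoc]
    exact Submodule.smul_mem_smul hr Submodule.mem_top
  · intro y z hy hz
    rw [add_mul]; exact Submodule.add_mem _ hy hz

theorem dvd_u_sub_X (d : ℕ) (hd : 0 < d) :
    (X ^ 2 - X : A[X]) ∣ (1 - (1 - X ^ d) ^ d) - X := by
  obtain ⟨d', rfl⟩ : ∃ d', d = d' + 1 := ⟨d - 1, by omega⟩
  have h1 : (X ^ 2 - X : A[X]) ∣ X ^ (d' + 1) - X := by
    have h := sub_dvd_pow_sub_pow (X : A[X]) 1 d'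
    rw [one_pow] at h
    have h' := mul_dvd_mul_left (X : A[X]) h
    have e1 : (X : A[X]) * (X - 1) = X ^ 2 - X := by ring
    have e2 : (X : A[X]) * (X ^ d' - 1) = X ^ (d' + 1) - X := by ring
    rwa [e1, e2] at h'
  have h2 : (X ^ 2 - X : A[X]) ∣ (1 - X) ^ (d' + 1) - (1 - X) := by
    have h := sub_dvd_pow_sub_pow (1 - X : A[X]) 1 d'
    rw [one_pow] at h
    have h' := mul_dvd_mul_left (1 - X : A[X]) h
    have e1 : (1 - X : A[X]) * (1 - X - 1) = X ^ 2 - X := by ring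
    have e2 : (1 - X : A[X]) * ((1 - X) ^ d' - 1) = (1 - X) ^ (d' + 1) - (1 - X) := by ring
    rwa [e1, e2] at h'
  have h3 : (X ^ 2 - X : A[X]) ∣ (1 - X ^ (d' + 1)) ^ (d' + 1) - (1 - X) ^ (d' + 1) := by
    refine dvd_trans ?_ (sub_dvd_pow_sub_pow (1 - X ^ (d' + 1) : A[X]) (1 - X) (d' + 1))
    have e : (1 - X ^ (d' + 1) : A[X]) - (1 - X) = -(X ^ (d' + 1) - X) := by ring
    rw [e]; exact (dvd_neg).mpr h1
  have e : (1 - (1 - X ^ (d' + 1)) ^ (d' + 1) : A[X]) - X =
      -(((1 - X ^ (d' + 1)) ^ (d' + 1) - (1 - X) ^ (d' + 1)) +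
        ((1 - X) ^ (d' + 1) - (1 - X))) := by ring
  rw [e]
  exact (dvd_neg).mpr (dvd_add h3 h2)

/-- Idempotents lift in (possibly non-commutative) finite algebras over a henselian pair. -/
theorem exists_idem_lift_noncomm {I : Ideal A} (hI : HenselianRing A I) {E : Type*} [Ring E]
    [Algebra A E] [Module.Finite A E] (b : E) (hb : b * b - b ∈ I • (⊤ : Submodule A E)) :
    ∃ e : E, IsIdempotentElem e ∧ e - b ∈ I • (⊤ : Submodule A E) := by
  classical
  rcases subsingleton_or_nontrivial A with hsub | hnt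
  · haveI : Subsingleton E := Module.subsingleton A _
    exact ⟨b, Subsingleton.elim _ _, by rw [sub_self]; exact Submodule.zero_mem _⟩
  have hrange : LinearMap.range (LinearMap.mulLeft A (b * b - b)) ≤
      I • (⊤ : Submodule A E) := by
    rintro _ ⟨s, rfl⟩
    exact smul_top_mul_right I hb s
  obtain ⟨P, hPm, -, hPc, hPa⟩ :=
    LinearMap.exists_monic_and_natDegree_eq_and_coeff_mem_pow_and_aeval_eq_zero A
      (LinearMap.mulLeft A (b * b - b)) I hrange
  have hPb : aeval (b * b - b) P = 0 := by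
    have h1 : aeval (Algebra.lmul A E (b * b - b)) P =
        Algebra.lmul A E (aeval (b * b - b) P) :=
      Polynomial.aeval_algHom_apply _ _ _
    have h2 : (Algebra.lmul A E (b * b - b) : Module.End A E) =
        LinearMap.mulLeft A (b * b - b) := rfl
    rw [h2, hPa] at h1
    have h3 := congrArg (fun φ : Module.End A E => φ 1) h1
    simpa using h3.symm
  obtain ⟨d, hd⟩ : ∃ d, d = P.natDegree := ⟨_, rfl⟩
  rcases Nat.eq_zero_or_pos d with hd0 | hdpos
  · have hP1 : P = 1 := by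
      have hPm' : P.Monic := hPm
      rw [← hPm'.natDegree_eq_zero, ← hd]; exact hd0
    rw [hP1, map_one] at hPb
    have hall : ∀ x : E, x = 0 := fun x => by rw [← mul_one x, hPb, mul_zero]
    refine ⟨b, ?_, by rw [sub_self]; exact Submodule.zero_mem _⟩
    rw [IsIdempotentElem, hall (b * b), hall b]
  have hq2 : (X ^ 2 - X : A[X]).Monic :=
    Polynomial.monic_X_pow_sub (by rw [degree_X]; exact_mod_cast (by norm_num : (1 : ℕ) < 2))
  have hnd2 : (X ^ 2 - X : A[X]).natDegree = 2 := by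
    rw [natDegree_sub_eq_left_of_natDegree_lt, natDegree_X_pow]
    rw [natDegree_X_pow, natDegree_X]; norm_num
  have hp₂m : (P.comp (X ^ 2 - X)).Monic := hPm.comp hq2 (by rw [hnd2]; norm_num)
  have hPmap : P.map (Ideal.Quotient.mk I) = X ^ d := by
    ext k
    rw [coeff_map, coeff_X_pow]
    rcases lt_trichotomy k d with hk | hk | hk
    · rw [if_neg (ne_of_lt hk), Ideal.Quotient.eq_zero_iff_mem]
      have h4 := hPc k
      rw [← hd] at h4
      exact Ideal.pow_le_self (Nat.sub_ne_zero_of_lt hk) h4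
    · rw [if_pos hk, hk, hd, coeff_natDegree, hPm.leadingCoeff, map_one]
    · rw [if_neg (ne_of_gt hk), coeff_eq_zero_of_natDegree_lt (hd ▸ hk), map_zero]
  have hp₂map : (P.comp (X ^ 2 - X)).map (Ideal.Quotient.mk I) =
      ((X ^ 2 - X : A[X]) ^ d).map (Ideal.Quotient.mk I) := by
    rw [Polynomial.map_comp, hPmap, X_pow_comp, Polynomial.map_pow]
  have hp₂b : aeval b (P.comp (X ^ 2 - X)) = 0 := by
    rw [aeval_comp]
    have h5 : aeval b (X ^ 2 - X : A[X]) = b * b - b := by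
      rw [map_sub, map_pow, aeval_X, sq]
    rw [h5]; exact hPb
  have hker : ∀ a : A[X], a ∈ Ideal.span {P.comp (X ^ 2 - X)} → aeval b a = 0 := by
    intro a ha
    obtain ⟨c, rfl⟩ := Ideal.mem_span_singleton.mp ha
    rw [map_mul, hp₂b, zero_mul]
  let Θ : AdjoinRoot (P.comp (X ^ 2 - X)) →ₐ[A] E :=
    Ideal.Quotient.liftₐ (Ideal.span {P.comp (X ^ 2 - X)}) (aeval b) hker
  have hΘ : ∀ q : A[X], Θ (AdjoinRoot.mk (P.comp (X ^ 2 - X)) q) = aeval b q := fun q => rfl
  haveI : Module.Finite A (AdjoinRoot (P.comp (X ^ 2 - X))) := hp₂m.finite_adjoinRoot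
  have haev₂ : aeval (AdjoinRoot.root (P.comp (X ^ 2 - X))) (P.comp (X ^ 2 - X)) = 0 := by
    rw [AdjoinRoot.aeval_eq, AdjoinRoot.mk_self]
  -- (X^2 - X)^d evaluates into I • ⊤
  have hqd : aeval (AdjoinRoot.root (P.comp (X ^ 2 - X))) ((X ^ 2 - X : A[X]) ^ d) ∈
      I • (⊤ : Submodule A (AdjoinRoot (P.comp (X ^ 2 - X)))) := by
    have hD : ∀ n, ((X ^ 2 - X : A[X]) ^ d - P.comp (X ^ 2 - X)).coeff n ∈ I := by
      intro n
      rw [← Ideal.Quotient.eq_zero_iff_mem, ← coeff_map, Polynomial.map_sub, hp₂map, sub_self,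
        coeff_zero]
    have h6 := aeval_mem_smul_top I (AdjoinRoot.root (P.comp (X ^ 2 - X))) _ hD
    rwa [map_sub, haev₂, sub_zero] at h6
  -- u
  have hu1 : (1 - (1 - X ^ d) ^ d : A[X]) = X ^ d * ∑ i ∈ Finset.range d, (1 - X ^ d : A[X]) ^ i := by
    have h7 := mul_neg_geom_sum (1 - X ^ d : A[X]) d
    rw [sub_sub_cancel] at h7
    exact h7.symm
  have hu2 : (1 - X ^ d : A[X]) = (1 - X) * ∑ i ∈ Finset.range d, (X : A[X]) ^ i :=
    (mul_neg_geom_sum (X : A[X]) d).symm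
  have hu3 : (1 - (1 - X ^ d) ^ d : A[X]) * (1 - (1 - (1 - X ^ d) ^ d)) =
      (X ^ 2 - X) ^ d * ((-1) ^ d * (∑ i ∈ Finset.range d, (1 - X ^ d : A[X]) ^ i) *
        (∑ i ∈ Finset.range d, (X : A[X]) ^ i) ^ d) := by
    rw [sub_sub_cancel]
    have hA : ((1 - X ^ d : A[X])) ^ d = (1 - X) ^ d * (∑ i ∈ Finset.range d, (X : A[X]) ^ i) ^ d := by
      rw [← mul_pow, ← hu2]
    have h8 : (X ^ 2 - X : A[X]) ^ d = (-1) ^ d * (X ^ d * (1 - X) ^ d) := by
      rw [← mul_pow, ← mul_pow]; congr 1; ring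
    rw [hu1, h8, hA]
    have hsq : ((-1 : A[X]) ^ d) * ((-1) ^ d) = 1 := by
      rw [← mul_pow]; norm_num
    linear_combination (X ^ d * (1 - X) ^ d * (∑ i ∈ Finset.range d, (1 - X ^ d : A[X]) ^ i) *
        (∑ i ∈ Finset.range d, (X : A[X]) ^ i) ^ d) * (-hsq)
  have hū : aeval (AdjoinRoot.root (P.comp (X ^ 2 - X))) (1 - (1 - X ^ d) ^ d : A[X]) *
      aeval (AdjoinRoot.root (P.comp (X ^ 2 - X))) (1 - (1 - X ^ d) ^ d : A[X]) -
      aeval (AdjoinRoot.root (P.comp (X ^ 2 - X))) (1 - (1 - X ^ d) ^ d : A[X]) ∈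
      I • (⊤ : Submodule A (AdjoinRoot (P.comp (X ^ 2 - X)))) := by
    have h9 : aeval (AdjoinRoot.root (P.comp (X ^ 2 - X))) (1 - (1 - X ^ d) ^ d : A[X]) *
        aeval (AdjoinRoot.root (P.comp (X ^ 2 - X))) (1 - (1 - X ^ d) ^ d : A[X]) -
        aeval (AdjoinRoot.root (P.comp (X ^ 2 - X))) (1 - (1 - X ^ d) ^ d : A[X]) =
        aeval (AdjoinRoot.root (P.comp (X ^ 2 - X))) ((X ^ 2 - X : A[X]) ^ d) *
          (-aeval (AdjoinRoot.root (P.comp (X ^ 2 - X)))
            ((-1) ^ d * (∑ i ∈ Finset.range d, (1 - X ^ d : A[X]) ^ i) *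
              (∑ i ∈ Finset.range d, (X : A[X]) ^ i) ^ d)) := by
      have h10 := congrArg (aeval (AdjoinRoot.root (P.comp (X ^ 2 - X)))) hu3
      simp only [map_mul, map_sub, map_one] at h10 ⊢
      linear_combination (-1 : AdjoinRoot (P.comp (X ^ 2 - X))) * h10
    rw [h9]
    exact smul_top_mul I hqd _
  obtain ⟨ε, hε, hεu⟩ := GabberIdem.exists_idem_lift_finite hI
    (aeval (AdjoinRoot.root (P.comp (X ^ 2 - X))) (1 - (1 - X ^ d) ^ d : A[X])) hū
  refine ⟨Θ ε, hε.map Θ, ?_⟩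
  have h11 := GabberFEt.linearMap_mem_smul_top I Θ.toLinearMap hεu
  have hΘu : Θ (aeval (AdjoinRoot.root (P.comp (X ^ 2 - X))) (1 - (1 - X ^ d) ^ d : A[X])) =
      aeval b (1 - (1 - X ^ d) ^ d : A[X]) := by
    rw [AdjoinRoot.aeval_eq, hΘ]
  have h12 : aeval b (1 - (1 - X ^ d) ^ d : A[X]) - b ∈ I • (⊤ : Submodule A E) := by
    obtain ⟨m, hm⟩ := dvd_u_sub_X (A := A) d hdpos
    have h13 : aeval b (1 - (1 - X ^ d) ^ d : A[X]) - b = (b * b - b) * aeval b m := by
      have h14 := congrArg (aeval b) hm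
      have h16 : aeval b (X ^ 2 - X : A[X]) = b * b - b := by
        rw [map_sub, map_pow, aeval_X, sq]
      rw [map_sub, aeval_X, map_mul, h16] at h14
      exact h14
    rw [h13]; exact smul_top_mul_right I hb _
  have h15 : Θ ε - b = Θ.toLinearMap (ε -
      aeval (AdjoinRoot.root (P.comp (X ^ 2 - X))) (1 - (1 - X ^ d) ^ d : A[X])) +
      (aeval b (1 - (1 - X ^ d) ^ d : A[X]) - b) := by
    rw [AlgHom.toLinearMap_apply, map_sub, hΘu]; abel
  rw [h15]
  exact Submodule.add_mem _ h11 h12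

section Matrices
variable {n : ℕ}

theorem matrix_mem_smul_top (I : Ideal A) (m : Matrix (Fin n) (Fin n) A) (h : ∀ i j, m i j ∈ I) :
    m ∈ I • (⊤ : Submodule A (Matrix (Fin n) (Fin n) A)) := by
  classical
  rw [Matrix.matrix_eq_sum_single m]
  refine Submodule.sum_mem _ fun i _ => Submodule.sum_mem _ fun j _ => ?_
  have h1 : Matrix.single i j (m i j) = m i j • Matrix.single i j (1 : A) := by
    rw [Matrix.smul_single, smul_eq_mul, mul_one]
  rw [h1]
  exact Submodule.smul_mem_smul (h i j) Submodule.mem_top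

theorem entry_mem_of_mem_smul_top (I : Ideal A) {m : Matrix (Fin n) (Fin n) A}
    (h : m ∈ I • (⊤ : Submodule A (Matrix (Fin n) (Fin n) A))) (i j : Fin n) : m i j ∈ I := by
  refine Submodule.smul_induction_on h ?_ ?_
  · intro r hr t _
    rw [Matrix.smul_apply, smul_eq_mul]
    exact I.mul_mem_right _ hr
  · intro x y hx hy
    rw [Matrix.add_apply]; exact I.add_mem hx hy

end Matrices

/-- Finite projective modules lift along a henselian pair. -/
theorem exists_projective_lift {I : Ideal A} (hI : HenselianRing A I) (Q : Type u) [AddCommGroup Q]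
    [Module (A ⧸ I) Q] [Module.Finite (A ⧸ I) Q] [Module.Projective (A ⧸ I) Q] :
    ∃ (P : Type u) (_ : AddCommGroup P) (_ : Module A P), Module.Finite A P ∧
      Module.Projective A P ∧ Nonempty (TensorProduct A (A ⧸ I) P ≃ₗ[A ⧸ I] Q) := by
  classical
  obtain ⟨n, fQ, gQ, hfs, hgi, hfg⟩ := Module.Finite.exists_comp_eq_id_of_projective (A ⧸ I) Q
  have hfg' : ∀ q, fQ (gQ q) = q := fun q => LinearMap.congr_fun hfg q
  have hcomp : (gQ ∘ₗ fQ) ∘ₗ (gQ ∘ₗ fQ) = gQ ∘ₗ fQ := by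
    apply LinearMap.ext; intro v; simp only [LinearMap.comp_apply, hfg']
  obtain ⟨Mb, hMbdef⟩ : ∃ Mb : Matrix (Fin n) (Fin n) (A ⧸ I),
      Mb = LinearMap.toMatrix' (gQ ∘ₗ fQ) := ⟨_, rfl⟩
  have hMb : Mb * Mb = Mb := by
    rw [hMbdef, ← LinearMap.toMatrix'_comp, hcomp]
  have hMbv : ∀ v : Fin n → A ⧸ I, Mb.mulVec v = gQ (fQ v) := by
    intro v
    rw [hMbdef, ← Matrix.toLin'_apply, Matrix.toLin'_toMatrix']
    rfl
  -- lift the matrix
  let b : Matrix (Fin n) (Fin n) A :=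
    Matrix.of fun i j => (Ideal.Quotient.mk_surjective (Mb i j)).choose
  have hbmap : ∀ i j, Ideal.Quotient.mk I (b i j) = Mb i j := fun i j =>
    (Ideal.Quotient.mk_surjective (Mb i j)).choose_spec
  have hb : b * b - b ∈ I • (⊤ : Submodule A (Matrix (Fin n) (Fin n) A)) := by
    apply matrix_mem_smul_top
    intro i j
    rw [← Ideal.Quotient.eq_zero_iff_mem, Matrix.sub_apply, map_sub, Matrix.mul_apply, map_sum]
    simp only [map_mul, hbmap]
    rw [← Matrix.mul_apply, hMb, sub_self]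
  obtain ⟨e, he, heb⟩ := exists_idem_lift_noncomm hI b hb
  have hemap : ∀ i j, Ideal.Quotient.mk I (e i j) = Mb i j := by
    intro i j
    rw [← hbmap, Ideal.Quotient.eq, ← Matrix.sub_apply]
    exact entry_mem_of_mem_smul_top I heb i j
  have hee : e * e = e := he
  have hM : e.map (Ideal.Quotient.mk I) = Mb := by
    ext i j; exact hemap i j
  let ε : (Fin n → A) →ₗ[A] (Fin n → A) := Matrix.toLin' e
  have hεε : ∀ v, ε (ε v) = ε v := by
    intro v
    show Matrix.toLin' e (Matrix.toLin' e v) = Matrix.toLin' e v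
    rw [← LinearMap.comp_apply, ← Matrix.toLin'_mul, hee]
  let red : (Fin n → A) →ₗ[A] (Fin n → A ⧸ I) := (Algebra.linearMap A (A ⧸ I)).compLeft (Fin n)
  have hred : ∀ v i, red v i = Ideal.Quotient.mk I (v i) := fun v i => rfl
  have hredsurj : Function.Surjective red := by
    intro w
    refine ⟨fun i => (Ideal.Quotient.mk_surjective (w i)).choose, ?_⟩
    ext i
    exact (Ideal.Quotient.mk_surjective (w i)).choose_spec
  have hredε : ∀ v, red (ε v) = gQ (fQ (red v)) := by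
    intro v
    rw [← hMbv]
    ext i
    rw [hred]
    show Ideal.Quotient.mk I ((e.mulVec v) i) = _
    rw [RingHom.map_mulVec, hM]
    rfl
  let P : Submodule A (Fin n → A) := LinearMap.range ε
  let s : (Fin n → A) →ₗ[A] P := ε.rangeRestrict
  have hs : ∀ v, ((s v : P) : Fin n → A) = ε v := fun v => rfl
  have hsP : ∀ p : P, s (p : Fin n → A) = p := by
    rintro ⟨_, v, rfl⟩
    apply Subtype.ext
    exact hεε v
  have hεP : ∀ p : P, ε (p : Fin n → A) = p := by
    rintro ⟨_, v, rfl⟩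
    exact hεε v
  haveI : Module.Finite A P := Module.Finite.range ε
  haveI : Module.Projective A P := Module.Projective.of_split P.subtype s (by
    apply LinearMap.ext; intro p; exact hsP p)
  letI : Module A Q := Module.compHom Q (Ideal.Quotient.mk I)
  haveI : IsScalarTower A (A ⧸ I) Q := IsScalarTower.of_algebraMap_smul fun r q => rfl
  let α₀ : P →ₗ[A] Q := (fQ.restrictScalars A) ∘ₗ red ∘ₗ P.subtype
  let α : (A ⧸ I) ⊗[A] P →ₗ[A ⧸ I] Q := LinearMap.liftBaseChange (A ⧸ I) α₀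
  have hα : ∀ (a : A ⧸ I) (p : P), α (a ⊗ₜ p) = a • fQ (red (p : Fin n → A)) := fun a p => rfl
  let tm : Fin n → (A ⧸ I) ⊗[A] P := fun i => (1 : A ⧸ I) ⊗ₜ[A] s (Pi.single i 1)
  let βb : (Fin n → A ⧸ I) →ₗ[A ⧸ I] (A ⧸ I) ⊗[A] P :=
    ∑ i, (LinearMap.proj i : (Fin n → A ⧸ I) →ₗ[A ⧸ I] A ⧸ I).smulRight (tm i)
  have hβb : ∀ v : Fin n → A, βb (red v) = (1 : A ⧸ I) ⊗ₜ[A] s v := by
    intro v
    show (∑ i, (LinearMap.proj i : (Fin n → A ⧸ I) →ₗ[A ⧸ I] A ⧸ I).smulRight (tm i)) (red v) = _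
    rw [LinearMap.sum_apply]
    simp only [LinearMap.smulRight_apply, LinearMap.proj_apply, hred]
    have h1 : ∀ i, Ideal.Quotient.mk I (v i) • tm i =
        (1 : A ⧸ I) ⊗ₜ[A] (v i • s (Pi.single i 1)) := by
      intro i
      show Ideal.Quotient.mk I (v i) • ((1 : A ⧸ I) ⊗ₜ[A] s (Pi.single i 1)) = _
      rw [TensorProduct.smul_tmul', smul_eq_mul, mul_one, TensorProduct.tmul_smul]
      rw [TensorProduct.smul_tmul', Algebra.smul_def, mul_one]
      rfl
    simp only [h1]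
    rw [← TensorProduct.tmul_sum]
    congr 1
    conv_rhs => rw [pi_eq_sum_univ' v]
    rw [map_sum]
    simp only [map_smul]
  let β : Q →ₗ[A ⧸ I] (A ⧸ I) ⊗[A] P := βb ∘ₗ gQ
  have h1 : ∀ q, α (β q) = q := by
    intro q
    obtain ⟨v, hv⟩ := hredsurj (gQ q)
    show α (βb (gQ q)) = q
    rw [← hv, hβb, hα, one_smul, hs, hredε, hv, hfg', hfg']
  have h2 : ∀ z, β (α z) = z := by
    intro z
    induction z using TensorProduct.induction_on with
    | zero => rw [map_zero, map_zero]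
    | tmul a p =>
      obtain ⟨r, rfl⟩ := Ideal.Quotient.mk_surjective a
      have h3 : (Ideal.Quotient.mk I r) ⊗ₜ[A] p = (1 : A ⧸ I) ⊗ₜ[A] (r • p) := by
        rw [TensorProduct.tmul_smul, TensorProduct.smul_tmul', Algebra.smul_def, mul_one]
        rfl
      rw [h3, hα, one_smul]
      show βb (gQ (fQ (red ((r • p : P) : Fin n → A)))) = _
      rw [← hredε, hεP, hβb, hsP]
    | add x y hx hy => rw [map_add, map_add, hx, hy]
  exact ⟨P, inferInstance, inferInstance, inferInstance, inferInstance,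
    ⟨LinearEquiv.ofLinearMap α β (LinearMap.ext h1) (LinearMap.ext h2)⟩⟩

end Groth.Agent.Lib.GabberProj
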