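import Mathlib
import Groth.Prelude
import Groth.Agent.Lib.GaetaP2b_helper9

/-!
# Gaeta resolutions on the projective plane, part 3: the evaluation map (helper9)
APPEND-ONLY once landed.
-/

set_option autoImplicit false
universe u
open CategoryTheory CategoryTheory.Limits AlgebraicGeometry TopologicalSpace Opposite Abelian
open scoped TensorProduct

namespace Groth.Agent.Gaeta

section LinAlg

variable {k : Type*} [Field k] {V W : Type*} [AddCommGroup V] [Module k V] [AddCommGroup W]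
  [Module k W]

theorem exists_sum_tmul {c : ℕ} (w : Fin c → W) (hw : Submodule.span k (Set.range w) = ⊤)
    (t : V ⊗[k] W) : ∃ ψ : Fin c → V, t = ∑ j, ψ j ⊗ₜ[k] w j := by
  induction t using TensorProduct.induction_on with
  | zero => exact ⟨fun _ => 0, by simp⟩
  | tmul v s =>
    have hs : s ∈ Submodule.span k (Set.range w) := by rw [hw]; trivial
    obtain ⟨r, hr⟩ := (Submodule.mem_span_range_iff_exists_fun k).mp hs
    refine ⟨fun j => r j • v, ?_⟩
    rw [← hr, TensorProduct.tmul_sum]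
    apply Finset.sum_congr rfl
    intro j _
    rw [TensorProduct.tmul_smul, TensorProduct.smul_tmul']
  | add x y hx hy =>
    obtain ⟨ψ, hψ⟩ := hx
    obtain ⟨ψ', hψ'⟩ := hy
    refine ⟨fun j => ψ j + ψ' j, ?_⟩
    rw [hψ, hψ', ← Finset.sum_add_distrib]
    apply Finset.sum_congr rfl
    intro j _
    rw [TensorProduct.add_tmul]

theorem sum_tmul_basis_eq_zero {c : ℕ} (bw : Module.Basis (Fin c) k W) (ψ : Fin c → V)
    (h : ∑ j, ψ j ⊗ₜ[k] bw j = 0) (i : Fin c) : ψ i = 0 := by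
  have h1 := congrArg (fun t => TensorProduct.rid k V (LinearMap.lTensor V (bw.coord i) t)) h
  simp only [map_sum, LinearMap.lTensor_tmul, TensorProduct.rid_tmul, map_zero,
    Module.Basis.coord_apply, Module.Basis.repr_self, Finsupp.single_apply] at h1
  simpa using h1

end LinAlg

section Biprod

variable {C : Type*} [Category C] [Preadditive C] [HasFiniteBiproducts C]

theorem comp_biproduct_desc {T F : C} {n : ℕ} (f : Fin n → C) (w : ∀ j, f j ⟶ F)
    (φ : T ⟶ ⨁ f) : φ ≫ biproduct.desc w = ∑ j, (φ ≫ biproduct.π f j) ≫ w j := by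
  calc φ ≫ biproduct.desc w = (φ ≫ 𝟙 _) ≫ biproduct.desc w := by rw [Category.comp_id]
    _ = (φ ≫ ∑ j, biproduct.π f j ≫ biproduct.ι f j) ≫ biproduct.desc w := by
        rw [biproduct.total]
    _ = ∑ j, (φ ≫ biproduct.π f j) ≫ w j := by
        rw [Preadditive.comp_sum, Preadditive.sum_comp]
        apply Finset.sum_congr rfl
        intro j _
        simp only [Category.assoc, biproduct.ι_desc]

end Biprod

section P2

open Groth.Agent.ProjTens Groth.Agent.CMReg Groth.Agent.ExtDual Groth.Agent.ProjCech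

variable (k : Type u) [Field k]

/-- the projective plane -/
noncomputable abbrev P2 : Scheme.{u} := CohB1.ProjSpace 2 k

/-- `O` -/
noncomputable abbrev O0 : (P2 k).Modules := Coh.structureModule (P2 k)

/-- `O(-1)` -/
noncomputable abbrev Om1 : (P2 k).Modules := Twist.twistProjSpace 2 k (-1)

/-- `O(-2)` -/
noncomputable abbrev Om2 : (P2 k).Modules := Twist.twistProjSpace 2 k (-2)

/-- multiplication `Hom(O(-1), O) ⊗ Hom(O, F) → Hom(O(-1), F)` -/
noncomputable abbrev mu (F : (P2 k).Modules) :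
    ((Om1 k ⟶ O0 k) ⊗[k] (O0 k ⟶ F)) →ₗ[k] (Om1 k ⟶ F) :=
  TensorProduct.lift (Linear.comp (Om1 k) (O0 k) F)

theorem mu_tmul (F : (P2 k).Modules) (ψ : Om1 k ⟶ O0 k) (s : O0 k ⟶ F) :
    mu k F (ψ ⊗ₜ[k] s) = ψ ≫ s := rfl

theorem nonempty_iso_O0 : Nonempty (O0 k ≅ OO 2 k 0) := by
  obtain ⟨e⟩ := twist_zero 2 k
  exact ⟨e.symm⟩

/-- the source of the evaluation map -/
noncomputable abbrev BB (b c : ℕ) : (P2 k).Modules :=
  (⨁ fun _ : Fin b => Om1 k) ⊞ (⨁ fun _ : Fin c => O0 k)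

variable {k}
variable {F : (P2 k).Modules} {b c : ℕ} (u : Fin b → (Om1 k ⟶ F)) (w : Fin c → (O0 k ⟶ F))

/-- the evaluation map -/
noncomputable def piB : BB k b c ⟶ F := biprod.desc (biproduct.desc u) (biproduct.desc w)

theorem comp_piB {T : (P2 k).Modules} (φ : T ⟶ BB k b c) :
    φ ≫ piB u w = ∑ i, (φ ≫ biprod.fst ≫ biproduct.π _ i) ≫ u i +
      ∑ j, (φ ≫ biprod.snd ≫ biproduct.π _ j) ≫ w j := by
  calc φ ≫ piB u w = (φ ≫ 𝟙 _) ≫ piB u w := by rw [Category.comp_id]
    _ = (φ ≫ (biprod.fst ≫ biprod.inl + biprod.snd ≫ biprod.inr)) ≫ piB u w := by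
        rw [biprod.total]
    _ = (φ ≫ biprod.fst) ≫ biproduct.desc u + (φ ≫ biprod.snd) ≫ biproduct.desc w := by
        simp only [piB, Preadditive.comp_add, Preadditive.add_comp, Category.assoc,
          biprod.inl_desc, biprod.inr_desc]
    _ = _ := by
        rw [comp_biproduct_desc, comp_biproduct_desc]
        simp only [Category.assoc]

theorem eq_zero_of_components {T : (P2 k).Modules} (φ : T ⟶ BB k b c)
    (h1 : ∀ i, φ ≫ biprod.fst ≫ biproduct.π _ i = 0)
    (h2 : ∀ j, φ ≫ biprod.snd ≫ biproduct.π _ j = 0) : φ = 0 := by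
  apply biprod.hom_ext
  · rw [zero_comp]
    apply biproduct.hom_ext
    intro i
    rw [zero_comp, Category.assoc]
    exact h1 i
  · rw [zero_comp]
    apply biproduct.hom_ext
    intro j
    rw [zero_comp, Category.assoc]
    exact h2 j

theorem subsingleton_hom_O0_Om1 : Subsingleton (O0 k ⟶ Om1 k) := by
  haveI := hasExt_modules (P2 k)
  obtain ⟨e0⟩ := nonempty_iso_O0 k
  rw [← subsingleton_ext_zero_iff]
  exact sub_ext_TT 2 k 0 (-1) e0 (Iso.refl _) 0 (by omega) (by omega)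

/-- Claim A, injectivity -/
theorem A_inj (hw : LinearIndependent k w) (φ : O0 k ⟶ BB k b c) (h : φ ≫ piB u w = 0) :
    φ = 0 := by
  obtain ⟨e0⟩ := nonempty_iso_O0 k
  haveI := subsingleton_hom_O0_Om1 (k := k)
  have hr : ∀ j, ∃ r : k, φ ≫ biprod.snd ≫ biproduct.π _ j = r • 𝟙 (O0 k) := fun j =>
    exists_smul_id 2 k 0 e0 _
  choose r hr using hr
  have h1 : ∀ i, φ ≫ biprod.fst ≫ biproduct.π (fun _ : Fin b => Om1 k) i = 0 :=
    fun i => Subsingleton.elim _ _
  rw [comp_piB] at h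
  have h3 : ∑ j, r j • w j = 0 := by
    rw [← h]
    have h4 : ∑ i, (φ ≫ biprod.fst ≫ biproduct.π (fun _ : Fin b => Om1 k) i) ≫ u i = 0 := by
      apply Finset.sum_eq_zero
      intro i _
      rw [h1 i, zero_comp]
    rw [h4, zero_add]
    apply Finset.sum_congr rfl
    intro j _
    rw [hr j, Linear.smul_comp, Category.id_comp]
  have h5 := Fintype.linearIndependent_iff.mp hw r h3
  apply eq_zero_of_components φ h1
  intro j
  rw [hr j, h5 j, zero_smul]

/-- Claim A, surjectivity -/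
theorem A_surj (hw : Submodule.span k (Set.range w) = ⊤) (s : O0 k ⟶ F) :
    ∃ φ : O0 k ⟶ BB k b c, φ ≫ piB u w = s := by
  have hs : s ∈ Submodule.span k (Set.range w) := by rw [hw]; trivial
  obtain ⟨r, hr⟩ := (Submodule.mem_span_range_iff_exists_fun k).mp hs
  refine ⟨∑ j, r j • (biproduct.ι (fun _ : Fin c => O0 k) j ≫ biprod.inr), ?_⟩
  rw [← hr, Preadditive.sum_comp]
  apply Finset.sum_congr rfl
  intro j _
  simp only [piB, Linear.smul_comp, Category.assoc, biprod.inr_desc, biproduct.ι_desc]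

/-- Claim B, injectivity -/
theorem B_inj (bw : Module.Basis (Fin c) k (O0 k ⟶ F)) (hu : LinearIndependent k u)
    (hμ : Function.Injective (mu k F))
    (hdisj : ∀ x ∈ Submodule.span k (Set.range u), x ∈ LinearMap.range (mu k F) → x = 0)
    (φ : Om1 k ⟶ BB k b c) (h : φ ≫ piB u (fun j => bw j) = 0) : φ = 0 := by
  have hr : ∀ i, ∃ r : k, φ ≫ biprod.fst ≫ biproduct.π _ i = r • 𝟙 (Om1 k) := fun i =>
    exists_smul_id 2 k (-1) (Iso.refl _) _
  choose r hr using hr
  rw [comp_piB] at h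
  have hx : ∑ i, (φ ≫ biprod.fst ≫ biproduct.π (fun _ : Fin b => Om1 k) i) ≫ u i =
      ∑ i, r i • u i := by
    apply Finset.sum_congr rfl
    intro i _
    rw [hr i, Linear.smul_comp, Category.id_comp]
  have hy : ∑ j, (φ ≫ biprod.snd ≫ biproduct.π (fun _ : Fin c => O0 k) j) ≫ bw j =
      mu k F (∑ j, (φ ≫ biprod.snd ≫ biproduct.π (fun _ : Fin c => O0 k) j) ⊗ₜ[k] bw j) := by
    rw [map_sum]
    apply Finset.sum_congr rfl
    intro j _
    rw [mu_tmul]
  rw [hx, hy] at h
  have hx_mem : ∑ i, r i • u i ∈ Submodule.span k (Set.range u) :=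
    Submodule.sum_mem _ (fun i _ => Submodule.smul_mem _ _ (Submodule.subset_span ⟨i, rfl⟩))
  have hx_range : ∑ i, r i • u i ∈ LinearMap.range (mu k F) := by
    refine ⟨-(∑ j, (φ ≫ biprod.snd ≫ biproduct.π (fun _ : Fin c => O0 k) j) ⊗ₜ[k] bw j), ?_⟩
    rw [map_neg]
    exact (eq_neg_of_add_eq_zero_left h).symm
  have hx0 := hdisj _ hx_mem hx_range
  have hr0 := Fintype.linearIndependent_iff.mp hu r hx0
  rw [hx0, zero_add] at h
  have ht0 := hμ (h.trans (map_zero _).symm)
  have hψ := sum_tmul_basis_eq_zero bw _ ht0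
  apply eq_zero_of_components φ
  · intro i
    rw [hr i, hr0 i, zero_smul]
  · exact hψ

/-- Claim B, surjectivity -/
theorem B_surj (hw : Submodule.span k (Set.range w) = ⊤)
    (hsup : ∀ s : Om1 k ⟶ F, ∃ (d : Fin b → k) (t : (Om1 k ⟶ O0 k) ⊗[k] (O0 k ⟶ F)),
      s = ∑ i, d i • u i + mu k F t)
    (s : Om1 k ⟶ F) : ∃ φ : Om1 k ⟶ BB k b c, φ ≫ piB u w = s := by
  obtain ⟨d, t, rfl⟩ := hsup s
  obtain ⟨ψ, rfl⟩ := exists_sum_tmul w hw t
  refine ⟨∑ i, d i • (biproduct.ι (fun _ : Fin b => Om1 k) i ≫ biprod.inl) +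
    ∑ j, ψ j ≫ biproduct.ι (fun _ : Fin c => O0 k) j ≫ biprod.inr, ?_⟩
  rw [Preadditive.add_comp, Preadditive.sum_comp, Preadditive.sum_comp, map_sum]
  congr 1
  · apply Finset.sum_congr rfl
    intro i _
    simp only [piB, Linear.smul_comp, Category.assoc, biprod.inl_desc, biproduct.ι_desc]
  · apply Finset.sum_congr rfl
    intro j _
    rw [mu_tmul]
    simp only [piB, Category.assoc, biprod.inr_desc, biproduct.ι_desc]

end P2

end Groth.Agent.Gaeta
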