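import Mathlib
import Groth.Prelude
import Groth.Agent.Lib.GaetaP2c_helper9
import Groth.Agent.Lib.Horrocks3_helper9
import Groth.Agent.Lib.CohDev8_helper8
import Groth.Agent.S0022

/-!
# Gaeta resolutions on the projective plane, part 4: construction of the resolution (helper9)
APPEND-ONLY once landed.
-/

set_option autoImplicit false
universe u
open CategoryTheory CategoryTheory.Limits AlgebraicGeometry TopologicalSpace Opposite Abelian
open scoped TensorProduct

namespace Groth.Agent.Gaeta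

open Groth.Agent.ProjTens Groth.Agent.CMReg Groth.Agent.ExtDual Groth.Agent.ProjCech

section Reg

variable (n : ℕ) (R : Type u) [CommRing R]

/-- a map to an `m`-regular module through which every map from `O(-m)` factors is an
epimorphism -/
theorem epi_of_factor {F B : (CohB1.ProjSpace n R).Modules} [F.IsQuasicoherent] (m : ℤ)
    (hreg : ∀ q : ℕ, 1 ≤ q →
      Subsingleton (Coh.HH (CohB1.ProjSpace n R) (CohB1.tensorMod F (OO n R (m - q))) q))
    (π : B ⟶ F) (hfac : ∀ φ : OO n R (-m) ⟶ F, ∃ φ' : OO n R (-m) ⟶ B, φ' ≫ π = φ) :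
    Epi π := by
  haveI := RegGGH9.epi_sigma_desc_qcoh n R m hreg
  apply Preadditive.epi_of_cancel_zero
  intro T g hg
  have h1 : Sigma.desc (fun φ : OO n R (-m) ⟶ F => φ) ≫ g = 0 := by
    apply Sigma.hom_ext
    intro φ
    obtain ⟨φ', hφ'⟩ := hfac φ
    rw [comp_zero, ← Category.assoc, Sigma.ι_desc, ← hφ', Category.assoc, hg, comp_zero]
  exact (cancel_epi _).mp (h1.trans comp_zero.symm)

end Reg

section P2

variable (k : Type u) [Field k]

/-- regularity on the plane from `Ext` vanishing -/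
theorem reg_of_ext [HasExt.{u} (P2 k).Modules] (G : (P2 k).Modules) [G.IsQuasicoherent]
    (m a₁ a₂ : ℤ) (ha₁ : a₁ = 1 - m) (ha₂ : a₂ = 2 - m)
    (h1 : Subsingleton (Ext (OO 2 k a₁) G 1)) (h2 : Subsingleton (Ext (OO 2 k a₂) G 2)) :
    ∀ q : ℕ, 1 ≤ q →
      Subsingleton (Coh.HH (P2 k) (CohB1.tensorMod G (OO 2 k (m - q))) q) := by
  intro q hq
  obtain rfl | rfl | h3 : q = 1 ∨ q = 2 ∨ 3 ≤ q := by omega
  · exact (subsingleton_ext_twist_iff 2 k a₁ (m - ((1 : ℕ) : ℤ)) (by subst ha₁; simp) G 1).mp h1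
  · exact (subsingleton_ext_twist_iff 2 k a₂ (m - ((2 : ℕ) : ℤ)) (by subst ha₂; simp) G 2).mp h2
  · haveI : Coh.IsQCoh (CohB1.tensorMod G (OO 2 k (m - q))) :=
      isQCoh_twistBy 2 k G inferInstance _
    exact Groth.Agent.S0022.result 2 k _ q (by omega)

theorem shortExact_kernel' {C : Type*} [Category C] [Abelian C] {E F : C} (φ : E ⟶ F) [Epi φ] :
    (ShortComplex.mk (kernel.ι φ) φ (kernel.condition φ)).ShortExact := by
  haveI : Mono (ShortComplex.mk (kernel.ι φ) φ (kernel.condition φ)).f :=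
    inferInstanceAs (Mono (kernel.ι φ))
  haveI : Epi (ShortComplex.mk (kernel.ι φ) φ (kernel.condition φ)).g :=
    inferInstanceAs (Epi φ)
  exact ShortComplex.ShortExact.mk (ShortComplex.exact_of_f_is_kernel _ (kernelIsKernel φ))

theorem isCoh_biproduct_fin (L : (P2 k).Modules) (hL : Coh.IsCoh L) (a : ℕ) :
    Coh.IsCoh (⨁ fun _ : Fin a => L) := by
  haveI : IsNoetherian (P2 k) := Groth.Agent.S2357.result (𝒜 2 k)
  exact CohDevH8.isCoh_of_iso (biproduct.isoCoproduct _)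
    (Groth.Agent.ProjFin.isCoh_sigma_fin L hL a)

/-- a coherent module on the plane with no maps from `O(-1)`, and no `Ext¹` from `O` and
`O(-1)`, and no `Ext²` from `O`, is a direct sum of copies of `O(-2)` -/
theorem iso_sigma_Om2 [HasExt.{u} (P2 k).Modules] (K : (P2 k).Modules) (hK : Coh.IsCoh K)
    (h01 : Subsingleton (Om1 k ⟶ K)) (h10 : Subsingleton (Ext (O0 k) K 1))
    (h11 : Subsingleton (Ext (Om1 k) K 1)) (h20 : Subsingleton (Ext (O0 k) K 2)) :
    ∃ a : ℕ, Nonempty (K ≅ ∐ fun _ : Fin a => Om2 k) := by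
  haveI : IsNoetherian (P2 k) := Groth.Agent.S2357.result (𝒜 2 k)
  haveI : K.IsQuasicoherent := hK.1
  obtain ⟨e0⟩ := nonempty_iso_O0 k
  haveI : Module.Finite k (Om2 k ⟶ K) := finite_hom 2 k (-2) (Iso.refl _) K hK
  let bκ := Module.finBasis k (Om2 k ⟶ K)
  let ev : (⨁ fun _ : Fin (Module.finrank k (Om2 k ⟶ K)) => Om2 k) ⟶ K :=
    biproduct.desc (fun l => bκ l)
  have hfac : ∀ φ : Om2 k ⟶ K,
      ∃ φ' : Om2 k ⟶ ⨁ fun _ : Fin (Module.finrank k (Om2 k ⟶ K)) => Om2 k, φ' ≫ ev = φ := by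
    intro φ
    refine ⟨∑ l, bκ.repr φ l •
      biproduct.ι (fun _ : Fin (Module.finrank k (Om2 k ⟶ K)) => Om2 k) l, ?_⟩
    rw [Preadditive.sum_comp]
    conv_rhs => rw [← bκ.sum_repr φ]
    apply Finset.sum_congr rfl
    intro l _
    rw [Linear.smul_comp, biproduct.ι_desc]
  have hinj : ∀ φ' : Om2 k ⟶ ⨁ fun _ : Fin (Module.finrank k (Om2 k ⟶ K)) => Om2 k,
      φ' ≫ ev = 0 → φ' = 0 := by
    intro φ' h
    have hr : ∀ l, ∃ r : k, φ' ≫
        biproduct.π (fun _ : Fin (Module.finrank k (Om2 k ⟶ K)) => Om2 k) l = r • 𝟙 (Om2 k) :=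
      fun l => exists_smul_id 2 k (-2) (Iso.refl _) _
    choose r hr using hr
    rw [comp_biproduct_desc] at h
    have h3 : ∑ l, r l • bκ l = 0 := by
      rw [← h]
      apply Finset.sum_congr rfl
      intro l _
      rw [hr l, Linear.smul_comp, Category.id_comp]
    have h5 := Fintype.linearIndependent_iff.mp bκ.linearIndependent r h3
    apply biproduct.hom_ext
    intro l
    rw [zero_comp, hr l, h5 l, zero_smul]
  -- regularity of `K`
  have regK := reg_of_ext k K 2 (-1) 0 (by omega) (by omega) h11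
    (sub_ext_iso_left e0.symm K 2 h20)
  haveI : Epi ev := epi_of_factor 2 k 2 regK ev hfac
  have hS := shortExact_kernel' ev
  have hA : Coh.IsCoh (⨁ fun _ : Fin (Module.finrank k (Om2 k ⟶ K)) => Om2 k) :=
    isCoh_biproduct_fin k _ (Groth.Agent.Horrocks.isCoh_OO 2 k (-2)) _
  have hN : Coh.IsCoh (kernel ev) := CohKerH8.isCoh_kernel hA hK ev
  haveI : (kernel ev).IsQuasicoherent := hN.1
  have hN0 : Subsingleton (Om2 k ⟶ kernel ev) := sub_hom_X1 hS (Om2 k) hinj
  have hN1 : Subsingleton (Ext (Om1 k) (kernel ev) 1) :=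
    sub_ext_X1_succ hS (Om1 k) 0 ((subsingleton_ext_zero_iff _ _).mpr h01)
      (sub_ext_biproduct _ _ _ (fun _ =>
        sub_ext_TT 2 k (-1) (-2) (Iso.refl _) (Iso.refl _) 1 (by omega) (by omega)))
  have hN2 : Subsingleton (Ext (O0 k) (kernel ev) 2) :=
    sub_ext_X1_succ hS (O0 k) 1 h10
      (sub_ext_biproduct _ _ _ (fun _ =>
        sub_ext_TT 2 k 0 (-2) e0 (Iso.refl _) 2 (by omega) (by omega)))
  have regN := reg_of_ext k (kernel ev) 2 (-1) 0 (by omega) (by omega) hN1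
    (sub_ext_iso_left e0.symm _ 2 hN2)
  haveI : Epi (0 : kernel ev ⟶ kernel ev) :=
    epi_of_factor 2 k 2 regN (0 : kernel ev ⟶ kernel ev)
      (fun φ => ⟨0, Subsingleton.elim _ _⟩)
  have hz : IsZero (kernel ev) := IsZero.of_epi_zero (kernel ev) (kernel ev)
  haveI : Mono ev := Preadditive.mono_of_kernel_zero (hz.eq_of_src _ _)
  haveI : IsIso ev := isIso_of_mono_of_epi ev
  exact ⟨_, ⟨(asIso ev).symm ≪≫ biproduct.isoCoproduct _⟩⟩

/-- bases adapted to the multiplication map -/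
theorem exists_data (F : (P2 k).Modules) (hF : Coh.IsCoh F) :
    ∃ (b c : ℕ) (u : Fin b → (Om1 k ⟶ F)) (bw : Module.Basis (Fin c) k (O0 k ⟶ F)),
      LinearIndependent k u ∧
      (∀ x ∈ Submodule.span k (Set.range u), x ∈ LinearMap.range (mu k F) → x = 0) ∧
      (∀ s : Om1 k ⟶ F, ∃ (d : Fin b → k) (t : (Om1 k ⟶ O0 k) ⊗[k] (O0 k ⟶ F)),
        s = ∑ i, d i • u i + mu k F t) := by
  obtain ⟨e0⟩ := nonempty_iso_O0 k
  haveI : Module.Finite k (O0 k ⟶ F) := finite_hom 2 k 0 e0 F hF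
  haveI : Module.Finite k (Om1 k ⟶ F) := finite_hom 2 k (-1) (Iso.refl _) F hF
  obtain ⟨U', hU'⟩ := Submodule.exists_isCompl (LinearMap.range (mu k F))
  let bu := Module.finBasis k U'
  have hspan : Submodule.span k (Set.range (fun i => (bu i : Om1 k ⟶ F))) = U' := by
    have h1 : Set.range (fun i => (bu i : Om1 k ⟶ F)) = U'.subtype '' Set.range bu := by
      rw [← Set.range_comp]
      rfl
    rw [h1, Submodule.span_image, bu.span_eq, Submodule.map_subtype_top]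
  refine ⟨_, _, fun i => (bu i : Om1 k ⟶ F), Module.finBasis k (O0 k ⟶ F), ?_, ?_, ?_⟩
  · exact bu.linearIndependent.map' U'.subtype (Submodule.ker_subtype U')
  · intro x hx hx'
    rw [hspan] at hx
    have h1 : x ∈ LinearMap.range (mu k F) ⊓ U' := ⟨hx', hx⟩
    rw [hU'.inf_eq_bot] at h1
    exact (Submodule.mem_bot k).mp h1
  · intro s
    have hs : s ∈ LinearMap.range (mu k F) ⊔ U' := by
      rw [hU'.sup_eq_top]
      trivial
    obtain ⟨y, ⟨t, rfl⟩, z, hz, rfl⟩ := Submodule.mem_sup.mp hs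
    rw [← hspan] at hz
    obtain ⟨d, hd⟩ := (Submodule.mem_span_range_iff_exists_fun k).mp hz
    exact ⟨d, t, by rw [hd, add_comm]⟩

/-- **existence of the Gaeta resolution** -/
theorem exists_resolution (F : (P2 k).Modules) (hF : Coh.IsCoh F)
    (h2 : Subsingleton (Coh.HH (P2 k) (CohB1.tensorMod F (Om1 k)) 2))
    (h3 : Subsingleton (Coh.HH (P2 k) F 1))
    (hμ : Function.Injective (mu k F)) :
    ∃ (α₁ α₂ α₃ : ℕ) (S : ShortComplex (P2 k).Modules), S.ShortExact ∧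
        Nonempty (S.X₁ ≅ ∐ fun _ : Fin α₁ => Om2 k) ∧
        Nonempty (S.X₂ ≅ (∐ fun _ : Fin α₂ => Om1 k) ⊞ (∐ fun _ : Fin α₃ => O0 k)) ∧
        Nonempty (S.X₃ ≅ F) := by
  haveI := hasExt_modules (P2 k)
  haveI : IsNoetherian (P2 k) := Groth.Agent.S2357.result (𝒜 2 k)
  haveI : F.IsQuasicoherent := hF.1
  obtain ⟨e0⟩ := nonempty_iso_O0 k
  obtain ⟨b, c, u, bw, hu, hdisj, hsup⟩ := exists_data k F hF
  have Asurj := A_surj u (fun j => bw j) bw.span_eq
  have Binj := B_inj u bw hu hμ hdisj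
  have Bsurj := B_surj u (fun j => bw j) bw.span_eq hsup
  have hF1 : Subsingleton (Ext (O0 k) F 1) := subsingleton_ext_unit F 1 h3
  have regF := reg_of_ext k F 1 0 1 (by omega) (by omega) (sub_ext_iso_left e0.symm F 1 hF1)
    ((subsingleton_ext_twist_iff 2 k 1 (-1) (by omega) F 2).mpr h2)
  haveI : Epi (piB u (fun j => bw j)) := epi_of_factor 2 k 1 regF _ Bsurj
  have hS := shortExact_kernel' (piB u (fun j => bw j))
  have hB : Coh.IsCoh (BB k b c) :=
    CohDevH8.isCoh_biprod (isCoh_biproduct_fin k _ (Groth.Agent.Horrocks.isCoh_OO 2 k (-1)) b)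
      (isCoh_biproduct_fin k _ (CohDevH8.isCoh_structureModule _) c)
  have hK : Coh.IsCoh (kernel (piB u (fun j => bw j))) := CohKerH8.isCoh_kernel hB hF _
  have hB10 : Subsingleton (Ext (O0 k) (BB k b c) 1) :=
    sub_ext_biprod _ _ _ 1
      (sub_ext_biproduct _ _ 1 (fun _ =>
        sub_ext_TT 2 k 0 (-1) e0 (Iso.refl _) 1 (by omega) (by omega)))
      (sub_ext_biproduct _ _ 1 (fun _ => sub_ext_TT 2 k 0 0 e0 e0 1 (by omega) (by omega)))
  have hB11 : Subsingleton (Ext (Om1 k) (BB k b c) 1) :=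
    sub_ext_biprod _ _ _ 1
      (sub_ext_biproduct _ _ 1 (fun _ =>
        sub_ext_TT 2 k (-1) (-1) (Iso.refl _) (Iso.refl _) 1 (by omega) (by omega)))
      (sub_ext_biproduct _ _ 1 (fun _ =>
        sub_ext_TT 2 k (-1) 0 (Iso.refl _) e0 1 (by omega) (by omega)))
  have hB20 : Subsingleton (Ext (O0 k) (BB k b c) 2) :=
    sub_ext_biprod _ _ _ 2
      (sub_ext_biproduct _ _ 2 (fun _ =>
        sub_ext_TT 2 k 0 (-1) e0 (Iso.refl _) 2 (by omega) (by omega)))
      (sub_ext_biproduct _ _ 2 (fun _ => sub_ext_TT 2 k 0 0 e0 e0 2 (by omega) (by omega)))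
  have h01 : Subsingleton (Om1 k ⟶ kernel (piB u (fun j => bw j))) :=
    sub_hom_X1 hS (Om1 k) Binj
  have h10 : Subsingleton (Ext (O0 k) (kernel (piB u (fun j => bw j))) 1) :=
    sub_ext_X1_one hS (O0 k) Asurj hB10
  have h11 : Subsingleton (Ext (Om1 k) (kernel (piB u (fun j => bw j))) 1) :=
    sub_ext_X1_one hS (Om1 k) Bsurj hB11
  have h20 : Subsingleton (Ext (O0 k) (kernel (piB u (fun j => bw j))) 2) :=
    sub_ext_X1_succ hS (O0 k) 1 hF1 hB20
  obtain ⟨a, ⟨eK⟩⟩ := iso_sigma_Om2 k _ hK h01 h10 h11 h20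
  exact ⟨a, b, c, _, hS, ⟨eK⟩,
    ⟨biprod.mapIso (biproduct.isoCoproduct _) (biproduct.isoCoproduct _)⟩, ⟨Iso.refl _⟩⟩

end P2

end Groth.Agent.Gaeta
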