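import Mathlib
import Groth.Prelude
import Groth.Agent.Lib.GaetaP2d_helper9

/-!
# Gaeta resolutions on the projective plane, part 5: necessity of the conditions (helper9)
APPEND-ONLY once landed.
-/

set_option autoImplicit false
universe u
open CategoryTheory CategoryTheory.Limits AlgebraicGeometry TopologicalSpace Opposite Abelian
open scoped TensorProduct

namespace Groth.Agent.Gaeta

open Groth.Agent.ProjTens Groth.Agent.CMReg Groth.Agent.ExtDual Groth.Agent.ProjCech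

section P2

variable (k : Type u) [Field k]

variable {k} in
/-- `Ext^q(T, F) = 0` for `T ≅ O(a)` when `F` has a Gaeta resolution -/
theorem ext_vanish_of_resolution [HasExt.{u} (P2 k).Modules] {F : (P2 k).Modules} {α₁ α₂ α₃ : ℕ}
    {S : ShortComplex (P2 k).Modules} (hS : S.ShortExact)
    (e₁ : S.X₁ ≅ ⨁ fun _ : Fin α₁ => Om2 k) (e₂ : S.X₂ ≅ BB k α₂ α₃) (e₃ : S.X₃ ≅ F)
    (T : (P2 k).Modules) (a : ℤ) (eT : T ≅ OO 2 k a) (q : ℕ)
    (h0 : q = 0 → 0 < a) (h1 : q = 1 → a < 1) (h2 : q = 2 → a < 2) :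
    Subsingleton (Ext T F q) := by
  obtain ⟨e0⟩ := nonempty_iso_O0 k
  apply sub_ext_iso_right T e₃.symm q
  apply sub_ext_X3 hS T q
  · apply sub_ext_iso_right T e₂ q
    apply sub_ext_biprod
    · exact sub_ext_biproduct _ _ q (fun _ =>
        sub_ext_TT 2 k a (-1) eT (Iso.refl _) q (by omega) (by omega))
    · exact sub_ext_biproduct _ _ q (fun _ =>
        sub_ext_TT 2 k a 0 eT e0 q (by omega) (by omega))
  · apply sub_ext_iso_right T e₁ (q + 1)
    exact sub_ext_biproduct _ _ (q + 1) (fun _ =>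
      sub_ext_TT 2 k a (-2) eT (Iso.refl _) (q + 1) (by omega) (by omega))

theorem sum_comp_ι_π {C : Type*} [Category C] [Preadditive C] [HasFiniteBiproducts C] {T : C}
    {n : ℕ} (f : Fin n → C) (x : ∀ l, T ⟶ f l) (j : Fin n) :
    (∑ l, x l ≫ biproduct.ι f l) ≫ biproduct.π f j = x j := by
  rw [Preadditive.sum_comp, Finset.sum_eq_single j]
  · rw [Category.assoc, biproduct.ι_π_self, Category.comp_id]
  · intro l _ hl
    rw [Category.assoc, biproduct.ι_π_ne _ hl, comp_zero]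
  · intro h
    exact absurd (Finset.mem_univ j) h

variable {k} in
/-- every map out of `BB` is an evaluation map -/
theorem eq_piB {F : (P2 k).Modules} {b c : ℕ} (g : BB k b c ⟶ F) :
    g = piB (fun i => (biproduct.ι (fun _ : Fin b => Om1 k) i ≫ biprod.inl) ≫ g)
      (fun j => (biproduct.ι (fun _ : Fin c => O0 k) j ≫ biprod.inr) ≫ g) := by
  apply biprod.hom_ext'
  · apply biproduct.hom_ext'
    intro i
    simp only [piB, biprod.inl_desc, biproduct.ι_desc, Category.assoc]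
  · apply biproduct.hom_ext'
    intro j
    simp only [piB, biprod.inr_desc, biproduct.ι_desc, Category.assoc]

variable {k} in
/-- the multiplication map of a module with a Gaeta resolution is injective -/
theorem mu_injective_of_resolution [HasExt.{u} (P2 k).Modules] {F : (P2 k).Modules}
    {α₁ α₂ α₃ : ℕ} {S : ShortComplex (P2 k).Modules} (hS : S.ShortExact)
    (e₁ : S.X₁ ≅ ⨁ fun _ : Fin α₁ => Om2 k) (e₂ : S.X₂ ≅ BB k α₂ α₃) (e₃ : S.X₃ ≅ F) :
    Function.Injective (mu k F) := by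
  obtain ⟨e0⟩ := nonempty_iso_O0 k
  haveI := subsingleton_hom_O0_Om1 (k := k)
  have hX1_1 : Subsingleton (Ext (O0 k) S.X₁ 1) :=
    sub_ext_iso_right _ e₁ 1 (sub_ext_biproduct _ _ 1 (fun _ =>
      sub_ext_TT 2 k 0 (-2) e0 (Iso.refl _) 1 (by omega) (by omega)))
  have hX1_0 : Subsingleton (Om1 k ⟶ S.X₁) := by
    rw [← subsingleton_ext_zero_iff]
    exact sub_ext_iso_right _ e₁ 0 (sub_ext_biproduct _ _ 0 (fun _ =>
      sub_ext_TT 2 k (-1) (-2) (Iso.refl _) (Iso.refl _) 0 (by omega) (by omega)))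
  obtain ⟨g', hg'⟩ : ∃ g' : BB k α₂ α₃ ⟶ F, g' = e₂.inv ≫ S.g ≫ e₃.hom := ⟨_, rfl⟩
  have hsurj : ∀ s : O0 k ⟶ F, ∃ s' : O0 k ⟶ BB k α₂ α₃, s' ≫ g' = s := by
    intro s
    obtain ⟨ψ, hψ⟩ := hom_surjective_of hS (O0 k) hX1_1 (s ≫ e₃.inv)
    refine ⟨ψ ≫ e₂.hom, ?_⟩
    rw [hg', Category.assoc, Iso.hom_inv_id_assoc, ← Category.assoc, hψ, Category.assoc,
      Iso.inv_hom_id, Category.comp_id]
  have hinj : ∀ φ : Om1 k ⟶ BB k α₂ α₃, φ ≫ g' = 0 → φ = 0 := by
    intro φ h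
    have h1 : (φ ≫ e₂.inv) ≫ S.g = 0 := by
      have h2 : ((φ ≫ e₂.inv) ≫ S.g) ≫ e₃.hom = 0 := by
        rw [← h, hg']
        simp only [Category.assoc]
      exact (cancel_mono e₃.hom).mp (h2.trans zero_comp.symm)
    have h3 := hom_injective_of hS (Om1 k) hX1_0 _ h1
    exact (cancel_mono e₂.inv).mp (h3.trans zero_comp.symm)
  have key : ∀ φ : O0 k ⟶ BB k α₂ α₃, φ ≫ g' =
      ∑ i, (φ ≫ biprod.fst ≫ biproduct.π (fun _ : Fin α₂ => Om1 k) i) ≫
        ((biproduct.ι (fun _ : Fin α₂ => Om1 k) i ≫ biprod.inl) ≫ g') +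
      ∑ j, (φ ≫ biprod.snd ≫ biproduct.π (fun _ : Fin α₃ => O0 k) j) ≫
        ((biproduct.ι (fun _ : Fin α₃ => O0 k) j ≫ biprod.inr) ≫ g') := by
    intro φ
    conv_lhs => rw [eq_piB g']
    exact comp_piB _ _ φ
  have hσ : Submodule.span k (Set.range
      (fun j => (biproduct.ι (fun _ : Fin α₃ => O0 k) j ≫ biprod.inr) ≫ g')) = ⊤ := by
    rw [eq_top_iff]
    intro s _
    obtain ⟨s', rfl⟩ := hsurj s
    have hr : ∀ j, ∃ r : k, s' ≫ biprod.snd ≫ biproduct.π (fun _ : Fin α₃ => O0 k) j =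
        r • 𝟙 (O0 k) := fun j => exists_smul_id 2 k 0 e0 _
    choose r hr using hr
    rw [key s']
    apply Submodule.add_mem
    · apply Submodule.sum_mem
      intro i _
      rw [Subsingleton.elim (s' ≫ biprod.fst ≫ biproduct.π (fun _ : Fin α₂ => Om1 k) i) 0,
        zero_comp]
      exact Submodule.zero_mem _
    · apply Submodule.sum_mem
      intro j _
      rw [hr j, Linear.smul_comp, Category.id_comp]
      exact Submodule.smul_mem _ _ (Submodule.subset_span ⟨j, rfl⟩)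
  rw [injective_iff_map_eq_zero]
  intro t ht
  obtain ⟨ψ, rfl⟩ := exists_sum_tmul _ hσ t
  rw [map_sum] at ht
  have h1 : ((∑ j, ψ j ≫ biproduct.ι (fun _ : Fin α₃ => O0 k) j) ≫ biprod.inr) ≫ g' = 0 := by
    rw [← ht, Preadditive.sum_comp, Preadditive.sum_comp]
    apply Finset.sum_congr rfl
    intro j _
    rw [mu_tmul]
    simp only [Category.assoc]
  have h2 := hinj _ h1
  apply Finset.sum_eq_zero
  intro i _
  have h3 : ψ i = ((∑ j, ψ j ≫ biproduct.ι (fun _ : Fin α₃ => O0 k) j) ≫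
      (biprod.inr : _ ⟶ BB k α₂ α₃)) ≫
      biprod.snd ≫ biproduct.π (fun _ : Fin α₃ => O0 k) i := by
    rw [Category.assoc, biprod.inr_snd_assoc, sum_comp_ι_π]
  rw [h3, h2, zero_comp, TensorProduct.zero_tmul]

/-- **necessity of the conditions** for a Gaeta resolution -/
theorem conditions_of_resolution (F : (P2 k).Modules) {α₁ α₂ α₃ : ℕ}
    (S : ShortComplex (P2 k).Modules) (hS : S.ShortExact)
    (e₁ : S.X₁ ≅ ∐ fun _ : Fin α₁ => Om2 k)
    (e₂ : S.X₂ ≅ (∐ fun _ : Fin α₂ => Om1 k) ⊞ (∐ fun _ : Fin α₃ => O0 k))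
    (e₃ : S.X₃ ≅ F) :
    Subsingleton (Coh.HH (P2 k) (CohB1.tensorMod F (Om1 k)) 0) ∧
    Subsingleton (Coh.HH (P2 k) (CohB1.tensorMod F (Om1 k)) 2) ∧
    Subsingleton (Coh.HH (P2 k) F 1) ∧ Subsingleton (Coh.HH (P2 k) F 2) ∧
    Subsingleton (Coh.HH (P2 k) (CohB1.tensorMod F (OO 2 k 1)) 1) ∧
    Subsingleton (Coh.HH (P2 k) (CohB1.tensorMod F (OO 2 k 1)) 2) ∧
    Function.Injective (mu k F) := by
  haveI := hasExt_modules (P2 k)
  obtain ⟨e0⟩ := nonempty_iso_O0 k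
  have e₁' : S.X₁ ≅ ⨁ fun _ : Fin α₁ => Om2 k := e₁ ≪≫ (biproduct.isoCoproduct _).symm
  have e₂' : S.X₂ ≅ BB k α₂ α₃ :=
    e₂ ≪≫ (biprod.mapIso (biproduct.isoCoproduct _) (biproduct.isoCoproduct _)).symm
  refine ⟨?_, ?_, ?_, ?_, ?_, ?_, ?_⟩
  · exact (subsingleton_ext_twist_iff 2 k 1 (-1) (by omega) F 0).mp
      (ext_vanish_of_resolution hS e₁' e₂' e₃ (OO 2 k 1) 1 (Iso.refl _) 0
        (by omega) (by omega) (by omega))
  · exact (subsingleton_ext_twist_iff 2 k 1 (-1) (by omega) F 2).mp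
      (ext_vanish_of_resolution hS e₁' e₂' e₃ (OO 2 k 1) 1 (Iso.refl _) 2
        (by omega) (by omega) (by omega))
  · exact subsingleton_HH_of_ext_unit F 1
      (ext_vanish_of_resolution hS e₁' e₂' e₃ (O0 k) 0 e0 1 (by omega) (by omega) (by omega))
  · exact subsingleton_HH_of_ext_unit F 2
      (ext_vanish_of_resolution hS e₁' e₂' e₃ (O0 k) 0 e0 2 (by omega) (by omega) (by omega))
  · exact (subsingleton_ext_twist_iff 2 k (-1) 1 (by omega) F 1).mp
      (ext_vanish_of_resolution hS e₁' e₂' e₃ (Om1 k) (-1) (Iso.refl _) 1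
        (by omega) (by omega) (by omega))
  · exact (subsingleton_ext_twist_iff 2 k (-1) 1 (by omega) F 2).mp
      (ext_vanish_of_resolution hS e₁' e₂' e₃ (Om1 k) (-1) (Iso.refl _) 2
        (by omega) (by omega) (by omega))
  · exact mu_injective_of_resolution hS e₁' e₂' e₃

end P2

end Groth.Agent.Gaeta
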