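import Mathlib
import Groth.Prelude.Def_Curv2
import Groth.Agent.Lib.GalAct_helper4
import Groth.Agent.Lib.GeomConnFin_helper4

set_option autoImplicit false
set_option linter.style.haveILetI false
set_option linter.unusedSectionVars false

universe u

open scoped TensorProduct
open CategoryTheory CategoryTheory.Limits AlgebraicGeometry

namespace Groth.Agent.Lib.GalStabOpenH4

open Groth.Agent.Lib.GeomConnFinH4 Groth.Agent.Lib.GalActH4

local notation:max "sm[" k ", " K "]" => Spec.map (CommRingCat.ofHom (algebraMap k K))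

theorem exists_fd_fix {k : Type u} [Field k] (A : Type u) [CommRing A] [Algebra k A]
    (K : Type u) [Field K] [Algebra k K] [Algebra.IsIntegral k K] (b : A ⊗[k] K) :
    ∃ E : IntermediateField k K, FiniteDimensional k ↥E ∧
      ∀ σ : K ≃ₐ[k] K, (∀ a : K, a ∈ E → σ a = a) → tmap A K σ b = b := by
  induction b using TensorProduct.induction_on with
  | zero => exact ⟨⊥, inferInstance, fun σ _ => map_zero (tmap A K σ)⟩
  | tmul a y =>
    refine ⟨IntermediateField.adjoin k {y},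
      IntermediateField.adjoin.finiteDimensional (Algebra.IsIntegral.isIntegral y),
      fun σ hσ => ?_⟩
    rw [tmap_tmul, hσ y (IntermediateField.mem_adjoin_simple_self k y)]
  | add x y hx hy =>
    obtain ⟨E1, hE1, h1⟩ := hx
    obtain ⟨E2, hE2, h2⟩ := hy
    refine ⟨E1 ⊔ E2, IntermediateField.finiteDimensional_sup E1 E2, fun σ hσ => ?_⟩
    rw [map_add, h1 σ (fun a ha => hσ a ((le_sup_left : E1 ≤ E1 ⊔ E2) ha)),
      h2 σ (fun a ha => hσ a ((le_sup_right : E2 ≤ E1 ⊔ E2) ha))]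

theorem exists_chart' {k : Type u} [Field k] {X : Scheme.{u}} (f : X ⟶ Spec (CommRingCat.of k))
    (K : Type u) [Field K] [Algebra k K] (z : ↥(pullback f sm[k, K])) :
    ∃ (A : Type u) (_ : CommRing A) (_ : Algebra k A)
      (ch : Spec (CommRingCat.of (A ⊗[k] K)) ⟶ pullback f sm[k, K])
      (P : PrimeSpectrum (A ⊗[k] K)),
      IsOpenImmersion ch ∧ ch.base P = z ∧ ∀ τ : K ≃ₐ[k] K,
        Spec.map (CommRingCat.ofHom (tmap A K τ).toRingHom) ≫ ch = ch ≫ gAct f K τ := by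
  obtain ⟨i, w, hw⟩ := X.affineCover.exists_eq ((pullback.fst f sm[k, K]) z)
  let c' : Spec Γ(X.affineCover.X i, ⊤) ⟶ X := (X.affineCover.X i).isoSpec.inv ≫ X.affineCover.f i
  let φ : CommRingCat.of k ⟶ Γ(X.affineCover.X i, ⊤) := Spec.preimage (c' ≫ f)
  letI : Algebra k Γ(X.affineCover.X i, ⊤) := φ.hom.toAlgebra
  have hg : sm[k, Γ(X.affineCover.X i, ⊤)] = c' ≫ f := Spec.map_preimage (c' ≫ f)
  have hw' : (pullback.fst f sm[k, K]) z = c' ((X.affineCover.X i).isoSpec.hom w) := by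
    show _ = ((X.affineCover.X i).isoSpec.inv ≫ X.affineCover.f i) _
    rw [Scheme.Hom.comp_apply, ← Scheme.Hom.comp_apply _ (X.affineCover.X i).isoSpec.inv,
      Iso.hom_inv_id]
    exact hw.symm
  obtain ⟨a, ha⟩ := mem_range_Gm f c' sm[k, Γ(X.affineCover.X i, ⊤)] hg K z _ hw'
  haveI hc'o : IsOpenImmersion c' := inferInstance
  haveI hGo : IsOpenImmersion (Gm f c' sm[k, Γ(X.affineCover.X i, ⊤)] hg K) :=
    isOpenImmersion_Gm f c' sm[k, Γ(X.affineCover.X i, ⊤)] hg K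
  refine ⟨↑Γ(X.affineCover.X i, ⊤), inferInstance, inferInstance,
    (pullbackSpecIso k ↑Γ(X.affineCover.X i, ⊤) K).inv ≫
      Gm f c' sm[k, Γ(X.affineCover.X i, ⊤)] hg K,
    (pullbackSpecIso k ↑Γ(X.affineCover.X i, ⊤) K).hom a,
    @IsOpenImmersion.comp _ _ _ (pullbackSpecIso k ↑Γ(X.affineCover.X i, ⊤) K).inv
      (Gm f c' sm[k, Γ(X.affineCover.X i, ⊤)] hg K) inferInstance hGo, ?_, fun τ => ?_⟩
  · have h1 : ((pullbackSpecIso k ↑Γ(X.affineCover.X i, ⊤) K).hom ≫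
        (pullbackSpecIso k ↑Γ(X.affineCover.X i, ⊤) K).inv ≫
          Gm f c' sm[k, Γ(X.affineCover.X i, ⊤)] hg K) a =
        (Gm f c' sm[k, Γ(X.affineCover.X i, ⊤)] hg K) a := by
      rw [Iso.hom_inv_id_assoc]
      rfl
    exact h1.trans ha
  · exact ((Category.assoc _ _ _).symm.trans
      ((congrArg (fun t => t ≫ Gm f c' sm[k, Γ(X.affineCover.X i, ⊤)] hg K)
        (gAct_affine (↑Γ(X.affineCover.X i, ⊤)) K τ).symm).trans
      ((Category.assoc _ _ _).trans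
      ((congrArg (fun t => (pullbackSpecIso k ↑Γ(X.affineCover.X i, ⊤) K).inv ≫ t)
        (Gm_gAct f c' sm[k, Γ(X.affineCover.X i, ⊤)] hg K τ).symm).trans
      (Category.assoc _ _ _).symm))))

section Main

variable {k : Type u} [Field k] {X : Scheme.{u}} (f : X ⟶ Spec (CommRingCat.of k))
  (K : Type u) [Field K] [Algebra k K] [Algebra.IsIntegral k K]

theorem local_stab (V : Set ↥(pullback f sm[k, K])) (hV : IsOpen V)
    (z : ↥(pullback f sm[k, K])) (hz : z ∈ V) :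
    ∃ (U : Set ↥(pullback f sm[k, K])) (E : IntermediateField k K),
      IsOpen U ∧ z ∈ U ∧ U ⊆ V ∧ FiniteDimensional k ↥E ∧
      ∀ σ : K ≃ₐ[k] K, (∀ a : K, a ∈ E → σ a = a) → ∀ w ∈ U, (gAct f K σ).base w ∈ U := by
  obtain ⟨A, _, _, ch, P, hcho, hP, hch⟩ := exists_chart' f K z
  have hpt : ∀ (τ : K ≃ₐ[k] K) (Q : PrimeSpectrum (A ⊗[k] K)),
      ch.base (PrimeSpectrum.comap (tmap A K τ).toRingHom Q) =
        (gAct f K τ).base (ch.base Q) := fun τ Q =>
    congrArg (fun ψ : Spec (CommRingCat.of (A ⊗[k] K)) ⟶ pullback f sm[k, K] => ψ.base Q) (hch τ)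
  have hT : IsOpen (ch.base ⁻¹' V : Set (PrimeSpectrum (A ⊗[k] K))) :=
    hV.preimage ch.continuous
  have hPT : P ∈ (ch.base ⁻¹' V : Set (PrimeSpectrum (A ⊗[k] K))) := by
    show ch.base P ∈ V
    rw [hP]
    exact hz
  obtain ⟨_, ⟨b, rfl⟩, hPb, hbT⟩ :=
    PrimeSpectrum.isTopologicalBasis_basic_opens.exists_subset_of_mem_open hPT hT
  obtain ⟨E, hE, hfix⟩ := exists_fd_fix A K b
  refine ⟨ch.base '' (PrimeSpectrum.basicOpen b : Set (PrimeSpectrum (A ⊗[k] K))), E,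
    ch.isOpenEmbedding.isOpenMap _ (PrimeSpectrum.basicOpen b).isOpen,
    ⟨P, hPb, hP⟩, ?_, hE, ?_⟩
  · rintro _ ⟨Q, hQ, rfl⟩
    exact hbT hQ
  · rintro σ hσ _ ⟨Q, hQ, rfl⟩
    refine ⟨PrimeSpectrum.comap (tmap A K σ).toRingHom Q, ?_, hpt σ Q⟩
    have hQ' : b ∉ Q.asIdeal := (PrimeSpectrum.mem_basicOpen b Q).mp hQ
    refine (PrimeSpectrum.mem_basicOpen b _).mpr ?_
    intro hb
    apply hQ'
    have hb' : (tmap A K σ).toRingHom b ∈ Q.asIdeal := hb
    have e : (tmap A K σ).toRingHom b = b := hfix σ hσ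
    rw [e] at hb'
    exact hb'

theorem stab_open (V : Set ↥(pullback f sm[k, K])) (hV : IsOpen V) (hVc : IsCompact V) :
    ∃ E : IntermediateField k K, FiniteDimensional k ↥E ∧
      ∀ σ : K ≃ₐ[k] K, (∀ a : K, a ∈ E → σ a = a) →
        ∀ z ∈ V, (gAct f K σ).base z ∈ V := by
  have hloc := fun z : ↥V => local_stab f K V hV z.1 z.2
  choose U E hUo hzU hUV hEfd hstab using hloc
  obtain ⟨t, ht⟩ := hVc.elim_finite_subcover U hUo
    (fun x hx => Set.mem_iUnion.mpr ⟨⟨x, hx⟩, hzU ⟨x, hx⟩⟩)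
  refine ⟨⨆ i ∈ t, E i, IntermediateField.finiteDimensional_iSup_of_finset'
    (fun i _ => hEfd i), fun σ hσ z hz => ?_⟩
  obtain ⟨i, hi, hzi⟩ := Set.mem_iUnion₂.mp (ht hz)
  have hle : E i ≤ ⨆ i ∈ t, E i := le_iSup₂ (f := fun i (_ : i ∈ t) => E i) i hi
  exact hUV i (hstab i σ (fun a ha => hσ a (hle ha)) z hzi)

theorem stab_open_image (V : Set ↥(pullback f sm[k, K])) (hV : IsOpen V) (hVc : IsCompact V) :
    ∃ E : IntermediateField k K, FiniteDimensional k ↥E ∧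
      ∀ σ : K ≃ₐ[k] K, (∀ a : K, a ∈ E → σ a = a) →
        (gAct f K σ).base '' V = V := by
  obtain ⟨E, hE, h⟩ := stab_open f K V hV hVc
  refine ⟨E, hE, fun σ hσ => Set.Subset.antisymm ?_ ?_⟩
  · rintro _ ⟨z, hz, rfl⟩
    exact h σ hσ z hz
  · intro z hz
    have hσ' : ∀ a : K, a ∈ E → σ⁻¹ a = a := fun a ha => by
      have h1 : σ⁻¹ (σ a) = a := σ.symm_apply_apply a
      rw [hσ a ha] at h1
      exact h1
    exact ⟨(gAct f K σ⁻¹).base z, h σ⁻¹ hσ' z hz, gAct_inv_apply f K σ z⟩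

end Main

theorem main7621 (k : Type u) [Field k] (K : Type u) [Field K] [Algebra k K] [IsGalois k K]
    (X : Scheme.{u}) [X.Over (Spec (CommRingCat.of k))] (V : Set ↥(Curv2.bc k X K))
    (hV : IsOpen V) (hVc : IsCompact V) :
    ∃ E : IntermediateField k K, FiniteDimensional k ↥E ∧
      ∀ σ : K ≃ₐ[k] K, (∀ a : K, a ∈ E → σ a = a) →
        (Curv2.galAct k X K σ).base '' V = V := by
  obtain ⟨E, hE, h⟩ := stab_open_image (X ↘ Spec (CommRingCat.of k)) K V hV hVc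
  refine ⟨E, hE, fun σ hσ => ?_⟩
  rw [galAct_eq]
  exact h σ hσ

end Groth.Agent.Lib.GalStabOpenH4
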