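import Mathlib

set_option autoImplicit false
set_option linter.style.haveILetI false
set_option linter.unusedSectionVars false

/-! A compact group acting (on the right) on a space `Y` with quotient `X` connected:
every connected component of `Y` surjects onto `X`, under "profinite-like" hypotheses. -/

namespace Groth.Agent.Lib.ProfActH4

open Set
open scoped Pointwise

variable {G : Type*} [Group G] [TopologicalSpace G] [IsTopologicalGroup G] [CompactSpace G]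
variable {Y X : Type*} [TopologicalSpace Y] [TopologicalSpace X]

/-- `W` is stable under the subgroup `M`. -/
def Stable (act : G → Y → Y) (M : Subgroup G) (W : Set Y) : Prop :=
  ∀ σ ∈ M, ∀ y, act σ y ∈ W ↔ y ∈ W

/-- saturation of `S` under `M`. -/
def sat (act : G → Y → Y) (M : Subgroup G) (S : Set Y) : Set Y :=
  {y | ∃ σ ∈ M, act σ y ∈ S}

/-- right action data -/
structure ActData (act : G → Y → Y) (p : Y → X) : Prop where
  one : ∀ y, act 1 y = y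
  mul : ∀ σ τ y, act (σ * τ) y = act τ (act σ y)
  cont : ∀ σ, Continuous (act σ)
  comm : ∀ σ y, p (act σ y) = p y
  trans : ∀ y y', p y = p y' → ∃ σ, act σ y = y'
  pcont : Continuous p
  popen : IsOpenMap p
  pclosed : IsClosedMap p
  psurj : Function.Surjective p
  stab : ∀ V : Set Y, IsOpen V → IsCompact V →
    ∃ M : Subgroup G, IsOpen (M : Set G) ∧ Stable act M V
  basis : ∀ (y : Y) (O : Set Y), IsOpen O → y ∈ O →
    ∃ V, IsOpen V ∧ IsCompact V ∧ y ∈ V ∧ V ⊆ O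
  loc : ∀ x : X, ∃ U : Set X, IsOpen U ∧ x ∈ U ∧ IsCompact (p ⁻¹' U)

variable {act : G → Y → Y} {p : Y → X}

theorem ActData.inv_left (h : ActData act p) (σ : G) (y : Y) : act σ⁻¹ (act σ y) = y := by
  rw [← h.mul, mul_inv_cancel, h.one]

theorem ActData.inv_right (h : ActData act p) (σ : G) (y : Y) : act σ (act σ⁻¹ y) = y := by
  rw [← h.mul, inv_mul_cancel, h.one]

theorem sat_stable (h : ActData act p) (M : Subgroup G) (S : Set Y) :
    Stable act M (sat act M S) := by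
  intro ν hν y
  constructor
  · rintro ⟨σ, hσ, hs⟩
    exact ⟨ν * σ, M.mul_mem hν hσ, by rw [h.mul]; exact hs⟩
  · rintro ⟨σ, hσ, hs⟩
    refine ⟨ν⁻¹ * σ, M.mul_mem (M.inv_mem hν) hσ, ?_⟩
    rw [h.mul, h.inv_left]; exact hs

theorem sat_open (h : ActData act p) (M : Subgroup G) {S : Set Y} (hS : IsOpen S) :
    IsOpen (sat act M S) := by
  have e : sat act M S = ⋃ σ ∈ M, (act σ) ⁻¹' S := by
    ext y
    simp only [sat, mem_setOf_eq, mem_iUnion, mem_preimage, exists_prop]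
  rw [e]
  exact isOpen_biUnion fun σ _ => hS.preimage (h.cont σ)

theorem isOpen_T (h : ActData act p) (N : Subgroup G) (hN : IsOpen (N : Set G)) {W : Set Y}
    (hW : Stable act N W) (y : Y) : IsOpen {σ : G | act σ y ∈ W} := by
  rw [isOpen_iff_forall_mem_open]
  intro σ hσ
  refine ⟨σ • (N : Set G), ?_, hN.leftCoset σ, ⟨1, N.one_mem, by simp⟩⟩
  rintro _ ⟨μ, hμ, rfl⟩
  show act (σ • μ) y ∈ W
  rw [smul_eq_mul, h.mul]
  exact (hW μ hμ _).mpr hσ

theorem isClosed_T (h : ActData act p) (N : Subgroup G) (hN : IsOpen (N : Set G)) {W : Set Y}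
    (hW : Stable act N W) (y : Y) : IsClosed {σ : G | act σ y ∈ W} := by
  rw [← isOpen_compl_iff]
  have hWc : Stable act N Wᶜ := fun σ hσ y => not_congr (hW σ hσ y)
  exact isOpen_T h N hN hWc y

theorem sat_closed (h : ActData act p) (M : Subgroup G) (hM : IsOpen (M : Set G)) (S : Set Y)
    (hS : IsClosed S) : IsClosed (sat act M S) := by
  rw [← isOpen_compl_iff, isOpen_iff_forall_mem_open]
  intro y hy
  have hy' : ∀ σ ∈ M, act σ y ∈ Sᶜ := fun σ hσ hs => hy ⟨σ, hσ, hs⟩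
  have hex : ∀ σ : ↥M, ∃ V : Set Y, IsOpen V ∧ IsCompact V ∧ act (σ : G) y ∈ V ∧ V ⊆ Sᶜ :=
    fun σ => h.basis _ _ hS.isOpen_compl (hy' σ σ.2)
  choose V hVo hVc hyV hVS using hex
  have hex2 : ∀ σ : ↥M, ∃ N : Subgroup G, IsOpen (N : Set G) ∧ Stable act N (V σ) :=
    fun σ => h.stab (V σ) (hVo σ) (hVc σ)
  choose N hNo hNs using hex2
  have hMc : IsCompact (M : Set G) := (M.isClosed_of_isOpen hM).isCompact
  obtain ⟨F, hF⟩ := hMc.elim_finite_subcover (fun σ : ↥M => (σ : G) • (N σ : Set G))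
    (fun σ => (hNo σ).leftCoset _)
    (fun τ hτ => mem_iUnion.mpr ⟨⟨τ, hτ⟩, ⟨1, (N _).one_mem, by simp⟩⟩)
  refine ⟨⋂ σ ∈ F, (act (σ : G)) ⁻¹' (V σ), ?_,
    isOpen_biInter_finset fun σ _ => (hVo σ).preimage (h.cont _), ?_⟩
  · rintro y' hy'O ⟨τ, hτM, hτS⟩
    obtain ⟨σ, hσF, hτσ⟩ : ∃ σ ∈ F, τ ∈ (σ : G) • (N σ : Set G) := by
      have h0 := hF hτM
      simpa only [mem_iUnion, exists_prop] using h0
    obtain ⟨μ, hμ, rfl⟩ := hτσ
    have h1 : act (σ : G) y' ∈ V σ := mem_iInter₂.mp hy'O σ hσF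
    have h2 : act ((σ : G) • μ) y' ∈ V σ := by
      rw [smul_eq_mul, h.mul]; exact (hNs σ μ hμ _).mpr h1
    exact hVS σ h2 hτS
  · exact mem_iInter₂.mpr fun σ _ => hyV σ

/-- Main abstract theorem. -/
theorem image_connectedComponent_eq_univ (h : ActData act p) [PreconnectedSpace X] (t : Y) :
    p '' connectedComponent t = univ := by
  classical
  let 𝒲 : Set (Set Y) :=
    {W | IsClopen W ∧ t ∈ W ∧ ∃ M : Subgroup G, IsOpen (M : Set G) ∧ Stable act M W}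
  let D : Set Y := ⋂₀ 𝒲
  have hD_closed : IsClosed D := isClosed_sInter fun W hW => hW.1.1
  have ht_D : t ∈ D := fun W hW => hW.2.1
  have htop : IsOpen ((⊤ : Subgroup G) : Set G) := by rw [Subgroup.coe_top]; exact isOpen_univ
  have huniv : (univ : Set Y) ∈ 𝒲 :=
    ⟨isClopen_univ, mem_univ t, ⊤, htop, fun _ _ _ => Iff.rfl⟩
  -- (1)
  have h1 : ∀ W : Set Y, IsClopen W → W.Nonempty → p '' W = univ := by
    intro W hW hne
    have hc : IsClopen (p '' W) := ⟨h.pclosed W hW.1, h.popen W hW.2⟩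
    rcases isClopen_iff.mp hc with h0 | h0
    · exact absurd h0 (hne.image p).ne_empty
    · exact h0
  -- (2)
  have h2 : ∀ W₁ ∈ 𝒲, ∀ W₂ ∈ 𝒲, W₁ ∩ W₂ ∈ 𝒲 := by
    rintro W₁ ⟨hc₁, ht₁, M₁, hM₁, hs₁⟩ W₂ ⟨hc₂, ht₂, M₂, hM₂, hs₂⟩
    refine ⟨hc₁.inter hc₂, ⟨ht₁, ht₂⟩, M₁ ⊓ M₂, ?_, ?_⟩
    · rw [Subgroup.coe_inf]; exact hM₁.inter hM₂
    · intro σ hσ y
      exact and_congr (hs₁ σ (Subgroup.mem_inf.mp hσ).1 y) (hs₂ σ (Subgroup.mem_inf.mp hσ).2 y)
  -- dichotomy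
  have hdich : ∀ S : Set Y, IsClopen S →
      (∃ M : Subgroup G, IsOpen (M : Set G) ∧ Stable act M S) → D ⊆ S ∨ D ⊆ Sᶜ := by
    intro S hS hM
    by_cases htS : t ∈ S
    · exact Or.inl (sInter_subset_of_mem ⟨hS, htS, hM⟩)
    · obtain ⟨M, hMo, hMs⟩ := hM
      exact Or.inr (sInter_subset_of_mem
        ⟨hS.compl, htS, M, hMo, fun σ hσ y => not_congr (hMs σ hσ y)⟩)
  -- compactness lemma
  have hcpt : ∀ (M : Subgroup G), IsOpen (M : Set G) → ∀ y : Y,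
      (∀ W ∈ 𝒲, ∃ τ ∈ M, act τ y ∈ W) → ∃ τ ∈ M, act τ y ∈ D := by
    intro M hMo y hne
    haveI : Nonempty ↥𝒲 := ⟨⟨univ, huniv⟩⟩
    let T : ↥𝒲 → Set G := fun i => (M : Set G) ∩ {τ | act τ y ∈ i.1}
    have hdir : Directed (· ⊇ ·) T := by
      intro i j
      refine ⟨⟨i.1 ∩ j.1, h2 i.1 i.2 j.1 j.2⟩, ?_, ?_⟩
      · rintro τ ⟨hτM, hτ⟩; exact ⟨hτM, hτ.1⟩
      · rintro τ ⟨hτM, hτ⟩; exact ⟨hτM, hτ.2⟩
    have hTne : ∀ i, (T i).Nonempty := fun i => by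
      obtain ⟨τ, hτM, hτ⟩ := hne i.1 i.2
      exact ⟨τ, hτM, hτ⟩
    have hTcl : ∀ i, IsClosed (T i) := fun i => by
      obtain ⟨-, -, N, hNo, hNs⟩ := i.2
      exact (M.isClosed_of_isOpen hMo).inter (isClosed_T h N hNo hNs y)
    obtain ⟨τ, hτ⟩ := IsCompact.nonempty_iInter_of_directed_nonempty_isCompact_isClosed T hdir hTne
      (fun i => (hTcl i).isCompact) hTcl
    rw [mem_iInter] at hτ
    exact ⟨τ, (hτ ⟨univ, huniv⟩).1, fun W hW => (hτ ⟨W, hW⟩).2⟩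
  -- (3)
  have h3 : ∀ y : Y, ∃ τ, act τ y ∈ D := by
    intro y
    obtain ⟨τ, -, hτ⟩ := hcpt ⊤ htop y (fun W hW => by
      have hne : W.Nonempty := ⟨t, hW.2.1⟩
      have hmem : p y ∈ p '' W := by rw [h1 W hW.1 hne]; exact mem_univ _
      obtain ⟨w, hwW, hw⟩ := hmem
      obtain ⟨σ, hσ⟩ := h.trans y w hw.symm
      exact ⟨σ, Subgroup.mem_top σ, hσ ▸ hwW⟩)
    exact ⟨τ, hτ⟩
  have hpD : p '' D = univ := by
    apply eq_univ_of_forall
    intro x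
    obtain ⟨y, rfl⟩ := h.psurj x
    obtain ⟨τ, hτ⟩ := h3 y
    exact ⟨act τ y, hτ, h.comm τ y⟩
  -- atoms
  have hatom : ∀ (M : Subgroup G), IsOpen (M : Set G) → IsOpen (sat act M D) := by
    intro M hMo
    let ℱ : Set (Set Y) := {W | IsClopen W ∧ t ∈ W ∧ Stable act M W}
    have hℱ𝒲 : ∀ W ∈ ℱ, W ∈ 𝒲 := fun W hW => ⟨hW.1, hW.2.1, M, hMo, hW.2.2⟩
    obtain ⟨F, hF⟩ := isCompact_univ.elim_finite_subcover (fun σ : G => σ • (M : Set G))
      (fun σ => hMo.leftCoset σ)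
      (fun σ _ => mem_iUnion.mpr ⟨σ, ⟨1, M.one_mem, by simp⟩⟩)
    let m : Set Y → ℕ := fun W => (F.filter (fun σ => act σ t ∈ W)).card
    have hstrict : ∀ W' ∈ ℱ, ∀ W ∈ ℱ, W' ⊆ W → W' ≠ W → m W' < m W := by
      intro W' hW' W hW hsub hne
      have hdiff : (W \ W').Nonempty := by
        rw [Set.nonempty_iff_ne_empty]
        intro he
        exact hne (Set.Subset.antisymm hsub (Set.diff_eq_empty.mp he))
      have hcl : IsClopen (W \ W') := hW.1.diff hW'.1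
      have hmem : p t ∈ p '' (W \ W') := by rw [h1 _ hcl hdiff]; exact mem_univ _
      obtain ⟨w, hw, hpw⟩ := hmem
      obtain ⟨ρ, hρ⟩ := h.trans t w hpw.symm
      obtain ⟨σ, hσF, hρσ⟩ : ∃ σ ∈ F, ρ ∈ σ • (M : Set G) := by
        have h0 := hF (mem_univ ρ)
        simpa only [mem_iUnion, exists_prop] using h0
      obtain ⟨μ, hμ, rfl⟩ := hρσ
      have hw' : act μ (act σ t) ∈ W \ W' := by
        have h5 : act (σ • μ) t = act μ (act σ t) := by rw [smul_eq_mul, h.mul]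
        rw [← h5, hρ]; exact hw
      have hσW : act σ t ∈ W := (hW.2.2 μ hμ _).mp hw'.1
      have hσW' : act σ t ∉ W' := fun h6 => hw'.2 ((hW'.2.2 μ hμ _).mpr h6)
      apply Finset.card_lt_card
      rw [Finset.ssubset_iff_of_subset]
      · exact ⟨σ, Finset.mem_filter.mpr ⟨hσF, hσW⟩,
          fun h7 => hσW' (Finset.mem_filter.mp h7).2⟩
      · intro τ hτ
        rw [Finset.mem_filter] at hτ ⊢
        exact ⟨hτ.1, hsub hτ.2⟩
    have hunivℱ : (univ : Set Y) ∈ ℱ := ⟨isClopen_univ, mem_univ t, fun _ _ _ => Iff.rfl⟩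
    obtain ⟨W₀, hW₀, hmin⟩ := (measure m).wf.has_min ℱ ⟨univ, hunivℱ⟩
    have hW₀min : ∀ W ∈ ℱ, W₀ ⊆ W := by
      intro W hW
      have hWW : W₀ ∩ W ∈ ℱ := ⟨hW₀.1.inter hW.1, ⟨hW₀.2.1, hW.2.1⟩,
        fun σ hσ y => and_congr (hW₀.2.2 σ hσ y) (hW.2.2 σ hσ y)⟩
      by_contra hnot
      have hne : W₀ ∩ W ≠ W₀ := fun he => hnot (Set.inter_eq_left.mp he)
      exact hmin (W₀ ∩ W) hWW (hstrict (W₀ ∩ W) hWW W₀ hW₀ Set.inter_subset_left hne)
    have hsub1 : W₀ ⊆ sat act M D := by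
      intro y hy
      obtain ⟨τ, hτM, hτ⟩ := hcpt M hMo y (fun W hW => by
        have hsatℱ : sat act M W ∈ ℱ :=
          ⟨⟨sat_closed h M hMo W hW.1.1, sat_open h M hW.1.2⟩,
            ⟨1, M.one_mem, by rw [h.one]; exact hW.2.1⟩, sat_stable h M W⟩
        exact hW₀min _ hsatℱ hy)
      exact ⟨τ, hτM, hτ⟩
    have hsub2 : sat act M D ⊆ W₀ := by
      rintro y ⟨τ, hτM, hτ⟩
      exact (hW₀.2.2 τ hτM y).mp (sInter_subset_of_mem (hℱ𝒲 W₀ hW₀) hτ)
    have e : sat act M D = W₀ := Set.Subset.antisymm hsub2 hsub1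
    rw [e]
    exact hW₀.1.2
  -- (4a)
  have h4a : ∀ (C' C'' : Set Y), IsClosed C' → IsClosed C'' → C'.Nonempty → C' ⊆ D →
      D ⊆ C' ∪ C'' → Disjoint C' C'' →
      ∀ (N : Subgroup G), IsOpen (N : Set G) → D ⊆ sat act N C' := by
    intro C' C'' hC' hC'' hne hC'D hcov hdisj N hNo
    have hScl : IsClosed (sat act N C') := sat_closed h N hNo C' hC'
    have hSst : Stable act N (sat act N C') := sat_stable h N C'
    have hSop : IsOpen (sat act N C') := by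
      rw [isOpen_iff_forall_mem_open]
      rintro y₁ ⟨ν, hνN, hc⟩
      have hcC'' : act ν y₁ ∈ C''ᶜ := fun hc2 => Set.disjoint_left.mp hdisj hc hc2
      obtain ⟨V, hVo, hVc, hcV, hVsub⟩ := h.basis (act ν y₁) C''ᶜ hC''.isOpen_compl hcC''
      obtain ⟨M₀, hM₀o, hM₀s⟩ := h.stab V hVo hVc
      have hMo : IsOpen ((M₀ ⊓ N : Subgroup G) : Set G) := by
        rw [Subgroup.coe_inf]; exact hM₀o.inter hNo
      have hWo := hatom (M₀ ⊓ N) hMo
      refine ⟨(act ν) ⁻¹' (V ∩ sat act (M₀ ⊓ N) D), ?_,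
        (hVo.inter hWo).preimage (h.cont ν), ⟨hcV, ?_⟩⟩
      · rintro y' ⟨hy'V, μ, hμ, hd⟩
        have hμ' := Subgroup.mem_inf.mp hμ
        have hdV : act μ (act ν y') ∈ V := (hM₀s μ hμ'.1 _).mpr hy'V
        have hdC' : act μ (act ν y') ∈ C' := by
          rcases hcov hd with h5 | h5
          · exact h5
          · exact absurd h5 (hVsub hdV)
        refine ⟨ν * μ, N.mul_mem hνN hμ'.2, ?_⟩
        rw [h.mul]; exact hdC'
      · exact ⟨1, Subgroup.one_mem _, by rw [h.one]; exact hC'D hc⟩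
    rcases hdich (sat act N C') ⟨hScl, hSop⟩ ⟨N, hNo, hSst⟩ with hin | hout
    · exact hin
    · obtain ⟨c, hc⟩ := hne
      exact absurd (⟨1, N.one_mem, by rw [h.one]; exact hc⟩ : c ∈ sat act N C') (hout (hC'D hc))
  -- (4b)
  have h4b : ∀ (A' B' : Set Y), IsClosed A' → IsClosed B' → B'.Nonempty →
      A' ⊆ D → B' ⊆ D → D ⊆ A' ∪ B' → Disjoint A' B' →
      ∀ b ∈ B', ∃ U : Set X, IsOpen U ∧ p b ∈ U ∧ ∀ a ∈ A', p a ∉ U := by
    intro A' B' hA' hB' hBne hAD hBD hcov hdisj b hb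
    obtain ⟨U, hUo, hbU, hPc⟩ := h.loc (p b)
    have hBPc : IsCompact (p ⁻¹' U ∩ B') := hPc.inter_right hB'
    have hOpen : IsOpen (p ⁻¹' U ∩ A'ᶜ) := (hUo.preimage h.pcont).inter hA'.isOpen_compl
    have hcovr : ∀ y : ↥(p ⁻¹' U ∩ B'), ∃ V, IsOpen V ∧ IsCompact V ∧ (y : Y) ∈ V ∧
        V ⊆ p ⁻¹' U ∩ A'ᶜ :=
      fun y => h.basis y _ hOpen ⟨y.2.1, fun hyA => Set.disjoint_left.mp hdisj hyA y.2.2⟩
    choose V hVo hVc hyV hVsub using hcovr
    obtain ⟨F, hF⟩ := hBPc.elim_finite_subcover (fun y => V y) hVo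
      (fun y hy => mem_iUnion.mpr ⟨⟨y, hy⟩, hyV ⟨y, hy⟩⟩)
    have hVVo : IsOpen (⋃ y ∈ F, V y) := isOpen_biUnion fun y _ => hVo y
    have hVVc : IsCompact (⋃ y ∈ F, V y) := F.isCompact_biUnion fun y _ => hVc y
    have hVVsub : (⋃ y ∈ F, V y) ⊆ p ⁻¹' U ∩ A'ᶜ := iUnion₂_subset fun y _ => hVsub y
    obtain ⟨M, hMo, hMs⟩ := h.stab _ hVVo hVVc
    have hsat := h4a B' A' hB' hA' hBne hBD (by rw [union_comm]; exact hcov) hdisj.symm M hMo
    refine ⟨U, hUo, hbU, fun a ha haU => ?_⟩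
    obtain ⟨μ, hμ, hμa⟩ := hsat (hAD ha)
    have h5 : act μ a ∈ p ⁻¹' U ∩ B' :=
      ⟨by show p (act μ a) ∈ U; rw [h.comm]; exact haU, hμa⟩
    have h6 : act μ a ∈ ⋃ y ∈ F, V y := hF h5
    have h7 : a ∈ ⋃ y ∈ F, V y := (hMs μ hμ a).mp h6
    exact (hVVsub h7).2 ha
  -- (4)
  have hDpre : IsPreconnected D := by
    rw [isPreconnected_closed_iff]
    intro A B hA hB hcov hAne hBne
    by_contra hemp
    rw [Set.not_nonempty_iff_eq_empty] at hemp
    have hA' : IsClosed (D ∩ A) := hD_closed.inter hA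
    have hB' : IsClosed (D ∩ B) := hD_closed.inter hB
    have hdisj : Disjoint (D ∩ A) (D ∩ B) := by
      rw [Set.disjoint_left]
      intro y hyA hyB
      have h5 : y ∈ D ∩ (A ∩ B) := ⟨hyA.1, hyA.2, hyB.2⟩
      rw [hemp] at h5
      exact h5
    have hcov' : D ⊆ (D ∩ A) ∪ (D ∩ B) := fun y hy =>
      (hcov hy).elim (fun h5 => Or.inl ⟨hy, h5⟩) (fun h5 => Or.inr ⟨hy, h5⟩)
    have hUB := h4b (D ∩ A) (D ∩ B) hA' hB' hBne inter_subset_left inter_subset_left hcov' hdisj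
    have hUA := h4b (D ∩ B) (D ∩ A) hB' hA' hAne inter_subset_left inter_subset_left
      (by rw [union_comm]; exact hcov') hdisj.symm
    have hpAo : IsOpen (p '' (D ∩ A)) := by
      rw [isOpen_iff_forall_mem_open]
      rintro x ⟨a, ha, rfl⟩
      obtain ⟨U, hUo, haU, hU⟩ := hUA a ha
      refine ⟨U, ?_, hUo, haU⟩
      intro x' hx'
      have h5 : x' ∈ p '' D := by rw [hpD]; exact mem_univ _
      obtain ⟨d, hd, rfl⟩ := h5
      rcases hcov' hd with h6 | h6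
      · exact ⟨d, h6, rfl⟩
      · exact absurd hx' (hU d h6)
    have hpBo : IsOpen (p '' (D ∩ B)) := by
      rw [isOpen_iff_forall_mem_open]
      rintro x ⟨b, hb, rfl⟩
      obtain ⟨U, hUo, hbU, hU⟩ := hUB b hb
      refine ⟨U, ?_, hUo, hbU⟩
      intro x' hx'
      have h5 : x' ∈ p '' D := by rw [hpD]; exact mem_univ _
      obtain ⟨d, hd, rfl⟩ := h5
      rcases hcov' hd with h6 | h6
      · exact absurd hx' (hU d h6)
      · exact ⟨d, h6, rfl⟩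
    have hX : IsPreconnected (univ : Set X) := isPreconnected_univ
    have hcovX : (univ : Set X) ⊆ p '' (D ∩ A) ∪ p '' (D ∩ B) := by
      intro x _
      have h5 : x ∈ p '' D := by rw [hpD]; exact mem_univ _
      obtain ⟨d, hd, rfl⟩ := h5
      rcases hcov' hd with h6 | h6
      · exact Or.inl ⟨d, h6, rfl⟩
      · exact Or.inr ⟨d, h6, rfl⟩
    obtain ⟨a₀, ha₀⟩ := hAne
    obtain ⟨b₀, hb₀⟩ := hBne
    obtain ⟨x, -, hxA, hxB⟩ := hX (p '' (D ∩ A)) (p '' (D ∩ B)) hpAo hpBo hcovX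
      ⟨p a₀, mem_univ _, a₀, ha₀, rfl⟩ ⟨p b₀, mem_univ _, b₀, hb₀, rfl⟩
    obtain ⟨a, ha, rfl⟩ := hxA
    obtain ⟨U, hUo, haU, hU⟩ := hUA a ha
    obtain ⟨b, hb, hbx⟩ := hxB
    exact hU b hb (hbx ▸ haU)
  have hsub : D ⊆ connectedComponent t := hDpre.subset_connectedComponent ht_D
  exact Set.eq_univ_of_subset (Set.image_mono hsub) hpD

end Groth.Agent.Lib.ProfActH4
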