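import Mathlib
import Groth.Prelude.Def_Curv2
import Groth.Prelude.Def_FDesc
import Groth.Agent.Lib.ProfAct_helper4
import Groth.Agent.Lib.GalAct_helper4
import Groth.Agent.Lib.GalStabOpen_helper4
import Groth.Agent.Lib.GalComps_helper4
import Groth.Agent.Lib.GeomConnFin_helper4
import Groth.Agent.Lib.GeomConnPt_helper4
import Groth.Agent.Lib.GeomIrrSch_helper4
import Groth.Agent.Lib.RatPts_helper4

set_option autoImplicit false
set_option linter.style.haveILetI false
set_option linter.unusedSectionVars false

universe u

open CategoryTheory CategoryTheory.Limits AlgebraicGeometry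

namespace Groth.Agent.Lib.GalCompImageH4

open Groth.Agent.Lib.GeomConnFinH4 Groth.Agent.Lib.GalActH4

local notation:max "sm[" k ", " K "]" => Spec.map (CommRingCat.ofHom (algebraMap k K))

section Galois

variable {k : Type u} [Field k] {X : Scheme.{u}} (f : X ⟶ Spec (CommRingCat.of k))
  (K : Type u) [Field K] [Algebra k K]

theorem fst_facts :
    IsOpenMap (pullback.fst f sm[k, K]) ∧ Function.Surjective (pullback.fst f sm[k, K]) := by
  haveI := GeomIrrSchH4.universallyOpen_specMap (k := k) K
  haveI : Surjective sm[k, K] := RatPtsH4.surjective_specMap k K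
  exact ⟨(pullback.fst f sm[k, K]).isOpenMap, (pullback.fst f sm[k, K]).surjective⟩

theorem actData [IsGalois k K] :
    ProfActH4.ActData (G := K ≃ₐ[k] K)
      (fun σ (z : ↥(pullback f sm[k, K])) => (gAct f K σ) z)
      (fun z : ↥(pullback f sm[k, K]) => (pullback.fst f sm[k, K]) z) where
  one := fun y => by
    show (gAct f K 1) y = y
    rw [gAct_one]; rfl
  mul := fun σ τ y => by
    show (gAct f K (σ * τ)) y = (gAct f K τ) ((gAct f K σ) y)
    rw [← gAct_mul, Scheme.Hom.comp_apply]
  cont := fun σ => (gAct f K σ).continuous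
  comm := fun σ y => gAct_fst_apply f K σ y
  trans := fun y y' hyy' => exists_gAct_eq f K y y' hyy'
  pcont := (pullback.fst f sm[k, K]).continuous
  popen := (fst_facts f K).1
  pclosed := by
    haveI := GeomConnPtH4.isIntegralHom_specMap k K
    exact (pullback.fst f sm[k, K]).isClosedMap
  psurj := (fst_facts f K).2
  stab := fun V hV hVc => by
    obtain ⟨E, hE, hst⟩ := GalStabOpenH4.stab_open f K V hV hVc
    haveI := hE
    refine ⟨E.fixingSubgroup, IntermediateField.fixingSubgroup_isOpen E, ?_⟩
    intro σ hσ y
    constructor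
    · intro hy
      have hσ' : ∀ a : K, a ∈ E → σ⁻¹ a = a :=
        (E.mem_fixingSubgroup_iff σ⁻¹).mp (E.fixingSubgroup.inv_mem hσ)
      have h1 : (gAct f K σ⁻¹) ((gAct f K σ) y) ∈ V := hst σ⁻¹ hσ' _ hy
      rwa [gAct_inv_apply'] at h1
    · intro hy
      exact hst σ ((E.mem_fixingSubgroup_iff σ).mp hσ) y hy
  basis := fun y O hO hy => by
    obtain ⟨V, hVaff, hyV, hVO⟩ := TopologicalSpace.Opens.isBasis_iff_nbhd.mp
      (pullback f sm[k, K]).isBasis_affineOpens (U := ⟨O, hO⟩) hy
    exact ⟨V, V.isOpen, IsAffineOpen.isCompact hVaff, hyV, fun z hz => hVO hz⟩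
  loc := fun x => by
    obtain ⟨U, hU, hxU, -⟩ := TopologicalSpace.Opens.isBasis_iff_nbhd.mp X.isBasis_affineOpens
      (TopologicalSpace.Opens.mem_top x)
    refine ⟨U, U.isOpen, hxU, ?_⟩
    exact (inferInstance : QuasiCompact (pullback.fst f sm[k, K])).isCompact_preimage U U.isOpen
      (IsAffineOpen.isCompact hU)

theorem galois_connected [IsGalois k K] [ConnectedSpace X] (t : ↥(pullback f sm[k, K])) :
    (pullback.fst f sm[k, K]) '' connectedComponent t = Set.univ :=
  ProfActH4.image_connectedComponent_eq_univ (actData f K) t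

theorem exists_closedImmersion_range (T : Set ↥X) (hT : IsClosed T) :
    ∃ (Z : Scheme.{u}) (ι : Z ⟶ X), IsClosedImmersion ι ∧ Set.range ι = T := by
  refine ⟨_, (Scheme.IdealSheafData.vanishingIdeal ⟨T, hT⟩).subschemeι, inferInstance, ?_⟩
  rw [Scheme.IdealSheafData.range_subschemeι, Scheme.IdealSheafData.coe_support_vanishingIdeal]
  rfl

theorem galois_general [IsGalois k K] (t : ↥(pullback f sm[k, K])) :
    (pullback.fst f sm[k, K]) '' connectedComponent t =
      connectedComponent ((pullback.fst f sm[k, K]) t) := by
  apply Set.Subset.antisymm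
  · exact (pullback.fst f sm[k, K]).continuous.image_connectedComponent_subset t
  · intro x₁ hx₁
    obtain ⟨Z, ι, hι, hrange⟩ := exists_closedImmersion_range
      (connectedComponent ((pullback.fst f sm[k, K]) t)) isClosed_connectedComponent
    haveI := hι
    obtain ⟨z₀, hz₀⟩ : (pullback.fst f sm[k, K]) t ∈ Set.range ι := by
      rw [hrange]; exact mem_connectedComponent
    obtain ⟨z₁, hz₁⟩ : x₁ ∈ Set.range ι := by rw [hrange]; exact hx₁
    haveI : ConnectedSpace ↥Z := by
      have hpre : _root_.IsPreconnected (Set.univ : Set ↥Z) :=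
        (ι.isClosedEmbedding.isInducing.isPreconnected_image (s := Set.univ)).mp (by
          rw [Set.image_univ, hrange]; exact isPreconnected_connectedComponent)
      exact { toPreconnectedSpace := ⟨hpre⟩, toNonempty := ⟨z₀⟩ }
    obtain ⟨a₀, ha₀⟩ := mem_range_Gm f ι (ι ≫ f) rfl K t z₀ hz₀.symm
    have hconn := galois_connected (ι ≫ f) K a₀
    obtain ⟨a₁, ha₁, ha₁z⟩ :
        z₁ ∈ (pullback.fst (ι ≫ f) sm[k, K]) '' connectedComponent a₀ := by
      rw [hconn]; exact Set.mem_univ _
    refine ⟨(Gm f ι (ι ≫ f) rfl K) a₁, ?_, ?_⟩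
    · have h1 := (Gm f ι (ι ≫ f) rfl K).continuous.image_connectedComponent_subset a₀
      rw [ha₀] at h1
      exact h1 ⟨a₁, ha₁, rfl⟩
    · rw [← Scheme.Hom.comp_apply, Gm_fst, Scheme.Hom.comp_apply, ha₁z, hz₁]

end Galois

section SepClosed

variable {k : Type u} [Field k] {X : Scheme.{u}} (f : X ⟶ Spec (CommRingCat.of k))
variable (L M : Type u) [Field L] [Field M] [Algebra k L] [Algebra k M] [Algebra L M]
  [IsScalarTower k L M]

theorem bm_props [IsSepClosed L] :
    GeometricallyConnected (bm f L M) ∧ IsOpenMap (bm f L M) := by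
  haveI := GeomIrrSchH4.geomConn_specMap (k := L) M
  haveI := GeomIrrSchH4.universallyOpen_specMap (k := L) M
  haveI : GeometricallyConnected (bm f L M) :=
    MorphismProperty.of_isPullback (P := @GeometricallyConnected)
      (isPullback_bm f L M).flip inferInstance
  haveI : UniversallyOpen (bm f L M) :=
    MorphismProperty.of_isPullback (P := @UniversallyOpen)
      (isPullback_bm f L M).flip inferInstance
  exact ⟨inferInstance, (bm f L M).isOpenMap⟩

theorem isConnected_preimage_bm [IsSepClosed L] {Z : Set ↥(pullback f sm[k, L])}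
    (hZ : _root_.IsConnected Z) : _root_.IsConnected ((bm f L M) ⁻¹' Z) := by
  obtain ⟨hgc, hopen⟩ := bm_props f L M
  haveI := hgc
  exact GeomIrrSchH4.isConnected_preimage_of_isOpenMap hopen
    (fun t => Scheme.Hom.isConnected_preimage_singleton (bm f L M) t) hZ

theorem bm_surjective : Function.Surjective (bm f L M) := by
  haveI : Surjective sm[L, M] := RatPtsH4.surjective_specMap L M
  haveI : Surjective (bm f L M) :=
    MorphismProperty.of_isPullback (P := @Surjective) (isPullback_bm f L M).flip inferInstance
  exact (bm f L M).surjective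

theorem image_cc_bm [IsSepClosed L] (z : ↥(pullback f sm[k, M])) :
    (bm f L M) '' connectedComponent z = connectedComponent ((bm f L M) z) := by
  apply Set.Subset.antisymm
  · exact (bm f L M).continuous.image_connectedComponent_subset z
  · intro w hw
    obtain ⟨w', rfl⟩ := bm_surjective f L M w
    have h1 := isConnected_preimage_bm f L M
      (isConnected_connectedComponent (x := (bm f L M) z))
    have h2 : (bm f L M) ⁻¹' connectedComponent ((bm f L M) z) ⊆ connectedComponent z :=
      h1.isPreconnected.subset_connectedComponent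
        (show z ∈ (bm f L M) ⁻¹' connectedComponent ((bm f L M) z) from mem_connectedComponent)
    exact ⟨w', h2 hw, rfl⟩

end SepClosed

section Tower

/-- An embedding of `SeparableClosure k` into the algebraic closure of `K` over `k`. -/
noncomputable def sepEmb (k : Type u) [Field k] (K : Type u) [Field K] [Algebra k K] :
    SeparableClosure k →ₐ[k] AlgebraicClosure K := IsAlgClosed.lift

end Tower

theorem main1583 (k : Type u) [Field k] (X : Scheme.{u}) [X.Over (Spec (CommRingCat.of k))]
    (K : Type u) [Field K] [Algebra k K] (x' : Curv2.bc k X K) :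
    (Curv2.bcFst k X K).base '' connectedComponent x' =
      connectedComponent (Curv2.bcFst k X K x') := by
  letI : Algebra (SeparableClosure k) (AlgebraicClosure K) := (sepEmb k K).toRingHom.toAlgebra
  haveI : IsScalarTower k (SeparableClosure k) (AlgebraicClosure K) :=
    IsScalarTower.of_algebraMap_eq (fun x => ((sepEmb k K).commutes x).symm)
  show (pullback.fst (X ↘ Spec (CommRingCat.of k)) sm[k, K]) '' connectedComponent x' =
    connectedComponent ((pullback.fst (X ↘ Spec (CommRingCat.of k)) sm[k, K]) x')
  obtain ⟨x'', hx''⟩ := bm_surjective (X ↘ Spec (CommRingCat.of k)) K (AlgebraicClosure K) x'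
  have hA := image_cc_bm (X ↘ Spec (CommRingCat.of k)) (SeparableClosure k) (AlgebraicClosure K) x''
  have hB := galois_general (X ↘ Spec (CommRingCat.of k)) (SeparableClosure k)
    ((bm (X ↘ Spec (CommRingCat.of k)) (SeparableClosure k) (AlgebraicClosure K)) x'')
  apply Set.Subset.antisymm
  · exact (pullback.fst (X ↘ Spec (CommRingCat.of k))
      sm[k, K]).continuous.image_connectedComponent_subset x'
  · intro y hy
    have e1 : (pullback.fst (X ↘ Spec (CommRingCat.of k)) sm[k, K]) x' =
        (pullback.fst (X ↘ Spec (CommRingCat.of k)) sm[k, SeparableClosure k])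
          ((bm (X ↘ Spec (CommRingCat.of k)) (SeparableClosure k) (AlgebraicClosure K)) x'') := by
      rw [← hx'', bm_fst_apply, bm_fst_apply]
    rw [e1, ← hB] at hy
    obtain ⟨a, ha, rfl⟩ := hy
    rw [← hA] at ha
    obtain ⟨w, hw, rfl⟩ := ha
    refine ⟨(bm (X ↘ Spec (CommRingCat.of k)) K (AlgebraicClosure K)) w, ?_, ?_⟩
    · have h1 := (bm (X ↘ Spec (CommRingCat.of k)) K
        (AlgebraicClosure K)).continuous.image_connectedComponent_subset x''
      rw [hx''] at h1
      exact h1 ⟨w, hw, rfl⟩
    · rw [bm_fst_apply, bm_fst_apply]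

theorem main7593 (k : Type u) [Field k] (X : Scheme.{u}) [X.Over (Spec (CommRingCat.of k))]
    (t : ↥(Curv2.bc k X (SeparableClosure k))) :
    (∀ σ : SeparableClosure k ≃ₐ[k] SeparableClosure k,
        (Curv2.galAct k X (SeparableClosure k) σ).base '' connectedComponent t =
          connectedComponent t) ↔
      ((Curv2.bcFst k X (SeparableClosure k)).base ⁻¹'
          connectedComponent (Curv2.bcFst k X (SeparableClosure k) t) = connectedComponent t ∧
        ∀ (K : Type u) [Field K] [Algebra k K],
          _root_.IsConnected ((Curv2.bcFst k X K).base ⁻¹'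
            connectedComponent (Curv2.bcFst k X (SeparableClosure k) t))) := by
  constructor
  · intro hinv
    have hinv' : ∀ σ : SeparableClosure k ≃ₐ[k] SeparableClosure k,
        (gAct (X ↘ Spec (CommRingCat.of k)) (SeparableClosure k) σ) '' connectedComponent t =
          connectedComponent t := fun σ => by
      have h0 := hinv σ
      rw [galAct_eq] at h0
      exact h0
    have h1 := GalCompsH4.preimage_image_of_invariant (X ↘ Spec (CommRingCat.of k))
      (SeparableClosure k) (connectedComponent t) hinv'
    have h2 := galois_general (X ↘ Spec (CommRingCat.of k)) (SeparableClosure k) t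
    have h3 : (pullback.fst (X ↘ Spec (CommRingCat.of k)) sm[k, SeparableClosure k]) ⁻¹'
        connectedComponent ((pullback.fst (X ↘ Spec (CommRingCat.of k))
          sm[k, SeparableClosure k]) t) = connectedComponent t := by
      rw [← h2]; exact h1
    refine ⟨h3, fun K _ _ => ?_⟩
    letI : Algebra (SeparableClosure k) (AlgebraicClosure K) := (sepEmb k K).toRingHom.toAlgebra
    haveI : IsScalarTower k (SeparableClosure k) (AlgebraicClosure K) :=
      IsScalarTower.of_algebraMap_eq (fun x => ((sepEmb k K).commutes x).symm)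
    have h4 : _root_.IsConnected
        ((bm (X ↘ Spec (CommRingCat.of k)) (SeparableClosure k) (AlgebraicClosure K)) ⁻¹'
          connectedComponent t) :=
      isConnected_preimage_bm (X ↘ Spec (CommRingCat.of k)) (SeparableClosure k)
        (AlgebraicClosure K) isConnected_connectedComponent
    have h5 : (pullback.fst (X ↘ Spec (CommRingCat.of k)) sm[k, K]) ⁻¹'
        connectedComponent ((pullback.fst (X ↘ Spec (CommRingCat.of k))
          sm[k, SeparableClosure k]) t) =
        (bm (X ↘ Spec (CommRingCat.of k)) K (AlgebraicClosure K)) ''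
          ((bm (X ↘ Spec (CommRingCat.of k)) (SeparableClosure k) (AlgebraicClosure K)) ⁻¹'
            connectedComponent t) := by
      ext y
      constructor
      · intro hy
        obtain ⟨w, rfl⟩ := bm_surjective (X ↘ Spec (CommRingCat.of k)) K (AlgebraicClosure K) y
        refine ⟨w, ?_, rfl⟩
        have hy' : (pullback.fst (X ↘ Spec (CommRingCat.of k)) sm[k, K])
            ((bm (X ↘ Spec (CommRingCat.of k)) K (AlgebraicClosure K)) w) ∈
            connectedComponent ((pullback.fst (X ↘ Spec (CommRingCat.of k))
              sm[k, SeparableClosure k]) t) := hy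
        rw [bm_fst_apply] at hy'
        have hw2 : (bm (X ↘ Spec (CommRingCat.of k)) (SeparableClosure k) (AlgebraicClosure K)) w ∈
            (pullback.fst (X ↘ Spec (CommRingCat.of k)) sm[k, SeparableClosure k]) ⁻¹'
              connectedComponent ((pullback.fst (X ↘ Spec (CommRingCat.of k))
                sm[k, SeparableClosure k]) t) := by
          show (pullback.fst (X ↘ Spec (CommRingCat.of k)) sm[k, SeparableClosure k])
            ((bm (X ↘ Spec (CommRingCat.of k)) (SeparableClosure k) (AlgebraicClosure K)) w) ∈
            connectedComponent ((pullback.fst (X ↘ Spec (CommRingCat.of k))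
                sm[k, SeparableClosure k]) t)
          rw [bm_fst_apply]; exact hy'
        rw [h3] at hw2
        exact hw2
      · rintro ⟨w, hw, rfl⟩
        have hw' : (bm (X ↘ Spec (CommRingCat.of k)) (SeparableClosure k) (AlgebraicClosure K)) w ∈
            (pullback.fst (X ↘ Spec (CommRingCat.of k)) sm[k, SeparableClosure k]) ⁻¹'
              connectedComponent ((pullback.fst (X ↘ Spec (CommRingCat.of k))
                sm[k, SeparableClosure k]) t) := by
          rw [h3]; exact hw
        have hw2 : (pullback.fst (X ↘ Spec (CommRingCat.of k)) sm[k, SeparableClosure k])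
            ((bm (X ↘ Spec (CommRingCat.of k)) (SeparableClosure k) (AlgebraicClosure K)) w) ∈
            connectedComponent ((pullback.fst (X ↘ Spec (CommRingCat.of k))
                sm[k, SeparableClosure k]) t) := hw'
        rw [bm_fst_apply] at hw2
        show (pullback.fst (X ↘ Spec (CommRingCat.of k)) sm[k, K])
          ((bm (X ↘ Spec (CommRingCat.of k)) K (AlgebraicClosure K)) w) ∈
          connectedComponent ((pullback.fst (X ↘ Spec (CommRingCat.of k))
                sm[k, SeparableClosure k]) t)
        rw [bm_fst_apply]; exact hw2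
    show _root_.IsConnected ((pullback.fst (X ↘ Spec (CommRingCat.of k)) sm[k, K]) ⁻¹'
        connectedComponent ((pullback.fst (X ↘ Spec (CommRingCat.of k))
          sm[k, SeparableClosure k]) t))
    rw [h5]
    exact h4.image _ (bm (X ↘ Spec (CommRingCat.of k)) K
      (AlgebraicClosure K)).continuous.continuousOn
  · rintro ⟨h3, -⟩ σ
    rw [galAct_eq]
    have h6 := GalCompsH4.gAct_image_preimage (X ↘ Spec (CommRingCat.of k)) (SeparableClosure k) σ
      (connectedComponent ((pullback.fst (X ↘ Spec (CommRingCat.of k))
        sm[k, SeparableClosure k]) t))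
    have h3' : (pullback.fst (X ↘ Spec (CommRingCat.of k)) sm[k, SeparableClosure k]) ⁻¹'
        connectedComponent ((pullback.fst (X ↘ Spec (CommRingCat.of k))
          sm[k, SeparableClosure k]) t) = connectedComponent t := h3
    rw [h3'] at h6
    exact h6

end Groth.Agent.Lib.GalCompImageH4
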