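import Mathlib
import Groth.Prelude.Def_GalDesc

/-!
# Galois descent for vector spaces (helper1)

`K/k` finite Galois with group `Γ = K ≃ₐ[k] K`.
* `fixed_eq_one_tmul`: the `Γ`-fixed vectors of `K ⊗[k] W` are the `1 ⊗ w`.
* `exists_linearEquiv_of_equivariant`: a `Γ`-equivariant `K`-linear isomorphism
  `K ⊗ W ≃ K ⊗ W'` comes from a `k`-linear isomorphism `W ≃ W'`.
* `desc_bijective`: for a semilinear action `T` of `Γ` on a `K`-vector space `M` and `W ↪ M`
  with image the fixed vectors, `K ⊗[k] W → M` is bijective.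
-/

set_option autoImplicit false

namespace Groth.Agent.Lib.GalDescentH1

open scoped TensorProduct

universe u v w x y

section Basic

variable {k : Type u} [Field k] {K : Type v} [Field K] [Algebra k K]
  [FiniteDimensional k K] [IsGalois k K]

theorem sum_aut_apply (c : K) :
    ∑ σ : K ≃ₐ[k] K, σ c = algebraMap k K (Algebra.trace k K c) :=
  (trace_eq_sum_automorphisms c).symm

variable {W : Type w} [AddCommGroup W] [Module k W]

omit [FiniteDimensional k K] [IsGalois k K] in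
theorem one_tmul_injective : Function.Injective (fun w : W => (1 : K) ⊗ₜ[k] w) :=
  Module.Flat.tensorProduct_mk_injective (R := k) (S := K) (M := W)

omit [FiniteDimensional k K] [IsGalois k K] in
theorem smul_smul_tmul (σ : K ≃ₐ[k] K) (c : K) (x : K ⊗[k] W) :
    σ • (c • x) = σ c • (σ • x) :=
  smul_distrib_smul σ c x

theorem fixed_eq_one_tmul (x : K ⊗[k] W) (hx : ∀ σ : K ≃ₐ[k] K, σ • x = x) :
    ∃ w : W, x = (1 : K) ⊗ₜ[k] w := by
  obtain ⟨d, hd⟩ := Algebra.trace_surjective k K 1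
  have hP : ∀ y : K ⊗[k] W, ∃ w : W, ∑ σ : K ≃ₐ[k] K, σ • (d • y) = (1 : K) ⊗ₜ[k] w := by
    intro y
    induction y using TensorProduct.induction_on with
    | zero => exact ⟨0, by simp⟩
    | tmul c w =>
      refine ⟨Algebra.trace k K (d * c) • w, ?_⟩
      have h1 : ∀ σ : K ≃ₐ[k] K, σ • (d • (c ⊗ₜ[k] w)) = (σ (d * c)) ⊗ₜ[k] w := fun σ => by
        rw [TensorProduct.smul_tmul', TensorProduct.smul_tmul', smul_eq_mul]; rfl
      rw [Finset.sum_congr rfl (fun σ _ => h1 σ), ← TensorProduct.sum_tmul, sum_aut_apply,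
        Algebra.algebraMap_eq_smul_one, TensorProduct.smul_tmul]
    | add y y' hy hy' =>
      obtain ⟨w, hw⟩ := hy
      obtain ⟨w', hw'⟩ := hy'
      refine ⟨w + w', ?_⟩
      simp only [smul_add, Finset.sum_add_distrib, hw, hw', TensorProduct.tmul_add]
  obtain ⟨w, hw⟩ := hP x
  refine ⟨w, ?_⟩
  rw [← hw]
  have h2 : ∀ σ : K ≃ₐ[k] K, σ • (d • x) = (σ d) • x := fun σ => by
    rw [smul_smul_tmul, hx σ]
  rw [Finset.sum_congr rfl (fun σ _ => h2 σ), ← Finset.sum_smul, sum_aut_apply, hd, map_one,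
    one_smul]

variable {W' : Type x} [AddCommGroup W'] [Module k W']

theorem exists_linearMap_of_equivariant (h : K ⊗[k] W →ₗ[K] K ⊗[k] W')
    (hσ : ∀ (σ : K ≃ₐ[k] K) (y : K ⊗[k] W), h (σ • y) = σ • h y) :
    ∃ e : W →ₗ[k] W', ∀ w, h ((1 : K) ⊗ₜ[k] w) = (1 : K) ⊗ₜ[k] e w := by
  have hfix : ∀ w : W, ∃ w' : W', h ((1 : K) ⊗ₜ[k] w) = (1 : K) ⊗ₜ[k] w' := by
    intro w
    apply fixed_eq_one_tmul
    intro σ
    rw [← hσ, TensorProduct.smul_tmul', smul_one]
  choose e he using hfix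
  have hinj := one_tmul_injective (k := k) (K := K) (W := W')
  refine ⟨{ toFun := e, map_add' := fun a b => hinj ?_, map_smul' := fun c a => hinj ?_ }, he⟩
  · change (1 : K) ⊗ₜ[k] e (a + b) = (1 : K) ⊗ₜ[k] (e a + e b)
    rw [← he, TensorProduct.tmul_add, map_add, he, he, TensorProduct.tmul_add]
  · change (1 : K) ⊗ₜ[k] e (c • a) = (1 : K) ⊗ₜ[k] (c • e a)
    rw [← he, TensorProduct.tmul_smul, LinearMap.map_smul_of_tower, he, TensorProduct.tmul_smul]

theorem exists_linearEquiv_of_equivariant (h : K ⊗[k] W ≃ₗ[K] K ⊗[k] W')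
    (hσ : ∀ (σ : K ≃ₐ[k] K) (y : K ⊗[k] W), h (σ • y) = σ • h y) :
    ∃ e : W ≃ₗ[k] W', ∀ w, h ((1 : K) ⊗ₜ[k] w) = (1 : K) ⊗ₜ[k] e w := by
  obtain ⟨e, he⟩ := exists_linearMap_of_equivariant (h : K ⊗[k] W →ₗ[K] K ⊗[k] W') hσ
  have he2 : ∀ w, h ((1 : K) ⊗ₜ[k] w) = (1 : K) ⊗ₜ[k] e w := fun w => he w
  have hσ' : ∀ (σ : K ≃ₐ[k] K) (y : K ⊗[k] W'), h.symm (σ • y) = σ • h.symm y := by
    intro σ y
    apply h.injective
    rw [h.apply_symm_apply, hσ, h.apply_symm_apply]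
  obtain ⟨e', he'⟩ := exists_linearMap_of_equivariant (h.symm : K ⊗[k] W' →ₗ[K] K ⊗[k] W) hσ'
  have he2' : ∀ w, h.symm ((1 : K) ⊗ₜ[k] w) = (1 : K) ⊗ₜ[k] e' w := fun w => he' w
  refine ⟨LinearEquiv.ofLinear e e' ?_ ?_, he2⟩
  · refine LinearMap.ext fun w' => one_tmul_injective (k := k) (K := K) ?_
    change (1 : K) ⊗ₜ[k] e (e' w') = (1 : K) ⊗ₜ[k] w'
    rw [← he2, ← he2', h.apply_symm_apply]
  · refine LinearMap.ext fun w' => one_tmul_injective (k := k) (K := K) ?_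
    change (1 : K) ⊗ₜ[k] e' (e w') = (1 : K) ⊗ₜ[k] w'
    rw [← he2', ← he2, h.symm_apply_apply]

end Basic

section Descent

theorem exists_dual_bases (k : Type u) [Field k] (K : Type v) [Field K] [Algebra k K]
    [FiniteDimensional k K] [IsGalois k K] [DecidableEq (K ≃ₐ[k] K)] :
    ∃ (b : Module.Basis (K ≃ₐ[k] K) k K) (b' : (K ≃ₐ[k] K) → K),
      (∀ i j, ∑ σ : K ≃ₐ[k] K, σ (b' i) * σ (b j) = if i = j then 1 else 0) ∧
      (∀ σ τ : K ≃ₐ[k] K, ∑ j, σ (b j) * τ (b' j) = if σ = τ then 1 else 0) := by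
  have hcard : Fintype.card (K ≃ₐ[k] K) = Module.finrank k K := by
    rw [← Nat.card_eq_fintype_card]; exact IsGalois.card_aut_eq_finrank k K
  let b : Module.Basis (K ≃ₐ[k] K) k K :=
    (Module.finBasis k K).reindex (Fintype.equivOfCardEq (by rw [Fintype.card_fin, hcard]))
  let b' := (Algebra.traceForm k K).dualBasis (traceForm_nondegenerate k K) b
  have hBA : ∀ i j, ∑ σ : K ≃ₐ[k] K, σ (b' i) * σ (b j) = if i = j then 1 else 0 := by
    intro i j
    simp only [← map_mul]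
    rw [sum_aut_apply, ← Algebra.traceForm_apply, LinearMap.BilinForm.apply_dualBasis_left]
    split_ifs with h1 h2 h2
    · exact map_one _
    · exact absurd h1.symm h2
    · exact absurd h2.symm h1
    · exact map_zero _
  refine ⟨b, fun i => b' i, hBA, ?_⟩
  have hmat : (Matrix.of fun i (σ : K ≃ₐ[k] K) => σ (b' i) :
        Matrix (K ≃ₐ[k] K) (K ≃ₐ[k] K) K) *
      (Matrix.of fun (σ : K ≃ₐ[k] K) j => σ (b j)) = 1 := by
    ext i j
    rw [Matrix.mul_apply, Matrix.one_apply]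
    exact hBA i j
  have hmat' := mul_eq_one_comm.mp hmat
  intro σ τ
  have h3 := congrFun (congrFun hmat' σ) τ
  rw [Matrix.mul_apply, Matrix.one_apply] at h3
  exact h3

variable {k : Type u} [Field k] {K : Type v} [Field K] [Algebra k K]
  [FiniteDimensional k K] [IsGalois k K]
variable {M : Type w} [AddCommGroup M] [Module K M] [Module k M] [IsScalarTower k K M]

theorem desc_bijective
    (T : (K ≃ₐ[k] K) → M → M)
    (hadd : ∀ σ x y, T σ (x + y) = T σ x + T σ y)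
    (hsmul : ∀ σ (c : K) x, T σ (c • x) = σ c • T σ x)
    (hone : ∀ x, T 1 x = x)
    (hmul : ∀ σ τ x, T (σ * τ) x = T σ (T τ x))
    {W : Type x} [AddCommGroup W] [Module k W] (ι : W →ₗ[k] M) (hι : Function.Injective ι)
    (hW : ∀ x, x ∈ LinearMap.range ι ↔ ∀ σ, T σ x = x) :
    Function.Bijective (ι.liftBaseChange K) := by
  classical
  obtain ⟨b, b', hBA, hAB⟩ := exists_dual_bases k K
  let Tm : (K ≃ₐ[k] K) → M →+ M := fun σ => AddMonoidHom.mk' (T σ) (hadd σ)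
  have hT0 : ∀ σ, T σ 0 = 0 := fun σ => (Tm σ).map_zero
  have hTsum : ∀ σ (f : (K ≃ₐ[k] K) → M), T σ (∑ j, f j) = ∑ j, T σ (f j) := fun σ f =>
    map_sum (Tm σ) f Finset.univ
  have hfixι : ∀ σ w, T σ (ι w) = ι w := fun σ w => (hW (ι w)).mp ⟨w, rfl⟩ σ
  constructor
  · rw [injective_iff_map_eq_zero]
    intro z hz
    obtain ⟨c, rfl⟩ := TensorProduct.eq_repr_basis_left b z
    have hzsum : (c.sum fun i n => b i ⊗ₜ[k] n) = ∑ j, b j ⊗ₜ[k] c j := by
      rw [Finsupp.sum_fintype]; intro i; exact TensorProduct.tmul_zero _ _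
    rw [hzsum] at hz ⊢
    have h0 : ∀ σ : K ≃ₐ[k] K, ∑ j, σ (b j) • ι (c j) = 0 := by
      intro σ
      have h4 := congrArg (T σ) hz
      rw [map_sum] at h4
      simp only [LinearMap.liftBaseChange_tmul] at h4
      rw [hTsum, hT0] at h4
      simpa only [hsmul, hfixι] using h4
    have hι0 : ∀ i, ι (c i) = 0 := by
      intro i
      calc ι (c i) = ∑ j, (if i = j then (1 : K) else 0) • ι (c j) := by
            simp only [ite_smul, one_smul, zero_smul, Finset.sum_ite_eq, Finset.mem_univ, if_true]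
        _ = ∑ j, (∑ σ : K ≃ₐ[k] K, σ (b' i) * σ (b j)) • ι (c j) := by simp only [hBA]
        _ = ∑ σ : K ≃ₐ[k] K, σ (b' i) • ∑ j, σ (b j) • ι (c j) := by
            simp only [Finset.sum_smul, Finset.smul_sum, mul_smul]
            exact Finset.sum_comm
        _ = 0 := by simp only [h0, smul_zero, Finset.sum_const_zero]
    have hc0 : ∀ i, c i = 0 := fun i => hι (by rw [hι0 i, map_zero])
    simp only [hc0, TensorProduct.tmul_zero, Finset.sum_const_zero]
  · intro x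
    have htfix : ∀ j τ, T τ (∑ σ, T σ (b j • x)) = ∑ σ, T σ (b j • x) := by
      intro j τ
      rw [hTsum]
      simp only [← hmul]
      exact Equiv.sum_comp (Equiv.mulLeft τ) (fun σ => T σ (b j • x))
    have hmem : ∀ j, ∃ w : W, ι w = ∑ σ, T σ (b j • x) := fun j => (hW _).mpr (htfix j)
    choose w hw using hmem
    refine ⟨∑ j, b' j ⊗ₜ[k] w j, ?_⟩
    rw [map_sum]
    simp only [LinearMap.liftBaseChange_tmul, hw, hsmul]
    calc ∑ j, b' j • ∑ σ : K ≃ₐ[k] K, σ (b j) • T σ x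
        = ∑ σ : K ≃ₐ[k] K, (∑ j, σ (b j) * (1 : K ≃ₐ[k] K) (b' j)) • T σ x := by
          simp only [Finset.smul_sum, Finset.sum_smul, smul_smul]
          rw [Finset.sum_comm]
          refine Finset.sum_congr rfl fun σ _ => Finset.sum_congr rfl fun j _ => ?_
          rw [mul_comm]; rfl
      _ = ∑ σ : K ≃ₐ[k] K, (if σ = 1 then (1 : K) else 0) • T σ x := by simp only [hAB]
      _ = x := by
          simp only [ite_smul, one_smul, zero_smul, Finset.sum_ite_eq', Finset.mem_univ, if_true,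
            hone]

end Descent

section Twisted

variable {k : Type u} [Field k] {K : Type v} [Field K] [Algebra k K]
  [FiniteDimensional k K] [IsGalois k K]
variable {V : Type w} [AddCommGroup V] [Module k V] {W : Type x} [AddCommGroup W] [Module k W]

/-- Descent along the action twisted by a cocycle with values in the `K`-linear automorphisms of
`K ⊗[k] V`: if `ι : W ↪ K ⊗[k] V` has image the twisted-fixed vectors, then `c ⊗ w ↦ c • ι w` is a
`K`-linear isomorphism `μ`, equivariant for the twisted action, and the cocycle of `μ⁻¹` is `a`. -/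
theorem twisted_desc (a : GpH1.OneCocycle (K ≃ₐ[k] K) (K ⊗[k] V ≃ₗ[K] K ⊗[k] V))
    (ι : W →ₗ[k] K ⊗[k] V) (hι : Function.Injective ι)
    (hW : LinearMap.range ι = GalDesc.fixedSub a) :
    ∃ μ : K ⊗[k] W ≃ₗ[K] K ⊗[k] V, (∀ (c : K) (w : W), μ (c ⊗ₜ[k] w) = c • ι w) ∧
      (∀ (σ : K ≃ₐ[k] K) (z : K ⊗[k] W), μ (σ • z) = a σ (σ • μ z)) ∧
      (∀ (σ : K ≃ₐ[k] K) (w : W), a σ (σ • ι w) = ι w) ∧
      GalDesc.cocycle k μ.symm = a := by
  classical
  have ha1 : a 1 = 1 := by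
    have h := a.2 1 1
    rw [one_mul, one_smul] at h
    exact mul_left_cancel (a := a 1) (by rw [mul_one]; exact h.symm)
  have hadd : ∀ (σ : K ≃ₐ[k] K) (x y : K ⊗[k] V),
      a σ (σ • (x + y)) = a σ (σ • x) + a σ (σ • y) := fun σ x y => by
    rw [smul_add, map_add]
  have hsmul : ∀ (σ : K ≃ₐ[k] K) (c : K) (x : K ⊗[k] V),
      a σ (σ • (c • x)) = σ c • a σ (σ • x) := fun σ c x => by
    rw [smul_smul_tmul, (a σ).map_smul]
  have hone : ∀ x : K ⊗[k] V, a 1 ((1 : K ≃ₐ[k] K) • x) = x := fun x => by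
    rw [ha1, one_smul]; rfl
  have hmul : ∀ (σ τ : K ≃ₐ[k] K) (x : K ⊗[k] V),
      a (σ * τ) ((σ * τ) • x) = a σ (σ • a τ (τ • x)) := fun σ τ x => by
    rw [a.2 σ τ, mul_smul]
    change a σ ((σ • a τ) (σ • τ • x)) = _
    rw [GalDesc.conj_smul_apply, inv_smul_smul]
  have hW' : ∀ x, x ∈ LinearMap.range ι ↔ ∀ σ : K ≃ₐ[k] K, a σ (σ • x) = x := fun x => by
    rw [hW]; exact GalDesc.mem_fixedSub a x
  have hfix : ∀ (σ : K ≃ₐ[k] K) (w : W), a σ (σ • ι w) = ι w := fun σ w =>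
    (hW' (ι w)).mp ⟨w, rfl⟩ σ
  have hbij := desc_bijective
    (fun (σ : K ≃ₐ[k] K) (x : K ⊗[k] V) => a σ (σ • x)) hadd hsmul hone hmul ι hι hW'
  obtain ⟨μ, hμ⟩ : ∃ μ : K ⊗[k] W ≃ₗ[K] K ⊗[k] V, ∀ (c : K) (w : W), μ (c ⊗ₜ[k] w) = c • ι w :=
    ⟨LinearEquiv.ofBijective (ι.liftBaseChange K) hbij, fun c w => rfl⟩
  have hμσ : ∀ (σ : K ≃ₐ[k] K) z, μ (σ • z) = a σ (σ • μ z) := by
    intro σ z
    induction z using TensorProduct.induction_on with
    | zero => simp only [map_zero, smul_zero]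
    | tmul c w => rw [TensorProduct.smul_tmul', hμ, hμ, hsmul, hfix]; rfl
    | add y y' hy hy' => rw [smul_add, map_add, hy, hy', map_add, smul_add, map_add]
  refine ⟨μ, hμ, hμσ, hfix, ?_⟩
  refine GpH1.OneCocycle.ext fun σ => LinearEquiv.ext fun x => ?_
  rw [GalDesc.cocycle_apply, LinearEquiv.symm_symm, hμσ, LinearEquiv.apply_symm_apply,
    smul_inv_smul]

end Twisted

end Groth.Agent.Lib.GalDescentH1
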