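import Mathlib

/-!
# Free actions of finite groups: the Chase–Harrison–Rosenberg element

`R` a `B`-algebra with an action of a finite group `G` by `B`-algebra automorphisms and
`R^G = B`.  If the stabilizer of a prime `m` is trivial, there are `b : B` not in `m` and
`e : R ⊗[B] R` with `Φ_h e = δ_{h,1} b` where `Φ_h (a ⊗ c) = a * h • c`.
-/

set_option autoImplicit false

namespace Groth.Agent.Lib.GalFreeH6

open scoped TensorProduct Pointwise

variable {B R G : Type*} [CommRing B] [CommRing R] [Algebra B R] [Group G]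
  [MulSemiringAction G R] [SMulCommClass G B R]

/-- `a ⊗ c ↦ a * h • c` -/
noncomputable def Phi (h : G) : R ⊗[B] R →ₐ[B] R :=
  Algebra.TensorProduct.productMap (AlgHom.id B R) (MulSemiringAction.toAlgHom B R h)

@[simp] theorem Phi_tmul (h : G) (a c : R) : Phi (B := B) h (a ⊗ₜ[B] c) = a * h • c := by
  simp [Phi]

theorem exists_e_single [Finite G] [Algebra.IsInvariant B R G] (m : Ideal R) [m.IsPrime]
    (hstab : ∀ g : G, g • m = m → g = 1) (g : G) (hg : g ≠ 1) :
    ∃ b : B, algebraMap B R b ∉ m ∧ ∃ e : R ⊗[B] R,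
      Phi (B := B) (1 : G) e = algebraMap B R b ∧ Phi (B := B) g e = 0 := by
  classical
  haveI : Fintype G := Fintype.ofFinite G
  let J : Ideal R := Ideal.span (Set.range fun s : R => s - g • s)
  have hJ : ∀ x ∈ J, ∃ e : R ⊗[B] R, Phi (B := B) (1 : G) e = x ∧ Phi (B := B) g e = 0 := by
    intro x hx
    induction hx using Submodule.span_induction with
    | mem x hx =>
      obtain ⟨s, rfl⟩ := hx
      refine ⟨1 ⊗ₜ s - (g • s) ⊗ₜ 1, ?_, ?_⟩
      · simp [Phi_tmul]
      · simp [Phi_tmul]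
    | zero => exact ⟨0, by simp, by simp⟩
    | add x y _ _ hx hy =>
      obtain ⟨e₁, h₁, h₁'⟩ := hx
      obtain ⟨e₂, h₂, h₂'⟩ := hy
      exact ⟨e₁ + e₂, by rw [map_add, h₁, h₂], by rw [map_add, h₁', h₂', add_zero]⟩
    | smul r x _ hx =>
      obtain ⟨e₁, h₁, h₁'⟩ := hx
      refine ⟨(r ⊗ₜ 1) * e₁, ?_, ?_⟩
      · rw [map_mul, h₁, Phi_tmul]; simp
      · rw [map_mul, h₁', mul_zero]
  have hmemJ : ∀ s : R, s - g • s ∈ J := fun s => Ideal.subset_span ⟨s, rfl⟩
  have havoid : ∃ t ∈ J, ∀ h : G, h • t ∉ m := by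
    by_contra hcon
    push_neg at hcon
    have hsub : (J : Set R) ⊆ ⋃ h ∈ ((Finset.univ : Finset G) : Set G),
        ((h • m : Ideal R) : Set R) := by
      intro t ht
      obtain ⟨h, hh⟩ := hcon t ht
      simp only [Set.mem_iUnion]
      refine ⟨h⁻¹, by simp, ?_⟩
      rw [SetLike.mem_coe, Ideal.mem_inv_pointwise_smul_iff]
      exact hh
    obtain ⟨h, -, hle⟩ := (Ideal.subset_union_prime (s := Finset.univ)
      (f := fun h : G => h • m) 1 1 (fun i _ _ _ => inferInstance)).mp hsub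
    have h1 : g • (h • m) ≤ h • m := by
      intro s hs
      rw [Ideal.mem_pointwise_smul_iff_inv_smul_mem] at hs
      have h2 : g⁻¹ • s - g • (g⁻¹ • s) ∈ h • m := hle (hmemJ _)
      rw [smul_inv_smul] at h2
      have h3 := sub_mem hs h2
      rwa [sub_sub_cancel] at h3
    have h2 : h • m ≤ g • (h • m) := by
      intro s hs
      rw [Ideal.mem_pointwise_smul_iff_inv_smul_mem]
      have h2 : g⁻¹ • s - g • (g⁻¹ • s) ∈ h • m := hle (hmemJ _)
      rw [smul_inv_smul] at h2
      have h3 := add_mem h2 hs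
      rwa [sub_add_cancel] at h3
    have h3 : g • (h • m) = h • m := le_antisymm h1 h2
    have h4 : (h⁻¹ * g * h) • m = m := by
      rw [mul_smul, mul_smul, h3, inv_smul_smul]
    have h5 := hstab _ h4
    apply hg
    have : g = h * (h⁻¹ * g * h) * h⁻¹ := by group
    rw [this, h5]; group
  obtain ⟨t, htJ, ht⟩ := havoid
  obtain ⟨b, hb⟩ := Algebra.IsInvariant.isInvariant (A := B) (G := G) (∏ h : G, h • t)
    (Finset.smul_prod_perm t)
  have hbm : algebraMap B R b ∉ m := by
    rw [hb]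
    intro hmem
    obtain ⟨h, -, hh⟩ := (Ideal.IsPrime.prod_mem_iff (p := m)).mp hmem
    exact ht h hh
  have hbJ : algebraMap B R b ∈ J := by
    rw [hb]
    obtain ⟨r, hr⟩ : t ∣ ∏ h : G, h • t := by
      have := Finset.dvd_prod_of_mem (fun h : G => h • t) (Finset.mem_univ (1 : G))
      simpa using this
    rw [hr]
    exact Ideal.mul_mem_right _ _ htJ
  obtain ⟨e, he1, heg⟩ := hJ _ hbJ
  exact ⟨b, hbm, e, he1, heg⟩

theorem exists_e [Finite G] [Algebra.IsInvariant B R G] (m : Ideal R) [m.IsPrime]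
    (hstab : ∀ g : G, g • m = m → g = 1) :
    ∃ b : B, algebraMap B R b ∉ m ∧ ∃ e : R ⊗[B] R,
      (Phi (B := B) (1 : G) e = algebraMap B R b) ∧ ∀ h : G, h ≠ 1 → Phi (B := B) h e = 0 := by
  classical
  haveI : Fintype G := Fintype.ofFinite G
  have key : ∀ g : G, ∃ b : B, algebraMap B R b ∉ m ∧ ∃ e : R ⊗[B] R,
      Phi (B := B) (1 : G) e = algebraMap B R b ∧ (g ≠ 1 → Phi (B := B) g e = 0) := by
    intro g
    by_cases hg : g = 1
    · exact ⟨1, by rw [map_one]; exact (Ideal.ne_top_iff_one m).mp (Ideal.IsPrime.ne_top ‹_›),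
        1, by simp, fun h => absurd hg h⟩
    · obtain ⟨b, hb, e, h1, h2⟩ := exists_e_single (B := B) m hstab g hg
      exact ⟨b, hb, e, h1, fun _ => h2⟩
  choose b hb e he1 heg using key
  refine ⟨∏ g : G, b g, ?_, ∏ g : G, e g, ?_⟩
  · rw [map_prod]
    intro hmem
    obtain ⟨g, -, hg⟩ := (Ideal.IsPrime.prod_mem_iff (p := m)).mp hmem
    exact hb g hg
  · refine ⟨?_, fun h hh => ?_⟩
    · rw [map_prod, map_prod]
      exact Finset.prod_congr rfl (fun g _ => he1 g)
    · rw [map_prod]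
      exact Finset.prod_eq_zero (Finset.mem_univ h) (heg h hh)

end Groth.Agent.Lib.GalFreeH6
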