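import Mathlib
import Groth.Agent.Lib.GalFree1_helper6

/-!
# Consequences of the Chase–Harrison–Rosenberg element

Given `e : R ⊗[B] R` with `Φ_1 e = b`, `Φ_h e = 0` for `h ≠ 1`:
* `b ^ 2` kills `Ω[R⁄B]`;
* the localization of `R` at `b` is flat over `B`.
-/

set_option autoImplicit false

namespace Groth.Agent.Lib.GalFreeH6

open scoped TensorProduct

section flat0

/-- A module which becomes, after inverting `b`, a retract "up to `b`" of a flat module is flat
after inverting `b`. -/
theorem flat_of_retract_localized {B : Type*} [CommRing B] {M M' F : Type*}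
    [AddCommGroup M] [Module B M] [AddCommGroup M'] [Module B M'] [AddCommGroup F] [Module B F]
    [Module.Flat B F] (b : B) (f : M →ₗ[B] M') [IsLocalizedModule (Submonoid.powers b) f]
    (α : M →ₗ[B] F) (γ : F →ₗ[B] M) (h : γ ∘ₗ α = b • LinearMap.id) : Module.Flat B M' := by
  let S := Submonoid.powers b
  haveI : Module.Flat B (LocalizedModule S F) :=
    Module.Flat.trans B (Localization S) (LocalizedModule S F)
  let g := LocalizedModule.mkLinearMap S F
  let α' : M' →ₗ[B] LocalizedModule S F := IsLocalizedModule.map S f g α
  let γ' : LocalizedModule S F →ₗ[B] M' := IsLocalizedModule.map S g f γ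
  have hcomp : γ' ∘ₗ α' = b • LinearMap.id := by
    rw [← IsLocalizedModule.map_comp' S f g f α γ, h, map_smul, IsLocalizedModule.map_id]
  have hu : IsUnit (algebraMap B (Module.End B M') b) :=
    IsLocalizedModule.map_units f ⟨b, Submonoid.mem_powers b⟩
  obtain ⟨u, hu'⟩ := hu
  refine Module.Flat.of_retract α' ((u⁻¹ : (Module.End B M')ˣ).val ∘ₗ γ') ?_
  rw [LinearMap.comp_assoc, hcomp]
  ext x
  have h1 : (u : Module.End B M') x = b • x := by rw [hu']; rfl
  have h2 : ((u⁻¹ : (Module.End B M')ˣ) : Module.End B M') ((u : Module.End B M') x) = x := by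
    rw [← Module.End.mul_apply, Units.inv_mul]; rfl
  simp only [LinearMap.comp_apply, LinearMap.smul_apply, LinearMap.id_apply]
  rw [← h1, h2]

end flat0

variable {B R G : Type*} [CommRing B] [CommRing R] [Algebra B R] [Group G]
  [MulSemiringAction G R] [SMulCommClass G B R]

theorem smul_sum_perm' [Fintype G] (r : R) (g : G) : g • ∑ h : G, h • r = ∑ h : G, h • r := by
  rw [Finset.smul_sum]
  simp_rw [← mul_smul]
  exact Fintype.sum_equiv (Equiv.mulLeft g) _ _ (fun h => rfl)

variable (B G) in
/-- the trace `R → B` -/
noncomputable def trB [Fintype G] [Algebra.IsInvariant B R G] [FaithfulSMul B R] :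
    R →ₗ[B] B where
  toFun r := Classical.choose
    (Algebra.IsInvariant.isInvariant (A := B) (G := G) (∑ h : G, h • r) (smul_sum_perm' r))
  map_add' r s := by
    apply FaithfulSMul.algebraMap_injective B R
    rw [map_add,
      Classical.choose_spec (Algebra.IsInvariant.isInvariant (A := B) (G := G) _
        (smul_sum_perm' (r + s))),
      Classical.choose_spec (Algebra.IsInvariant.isInvariant (A := B) (G := G) _
        (smul_sum_perm' r)),
      Classical.choose_spec (Algebra.IsInvariant.isInvariant (A := B) (G := G) _
        (smul_sum_perm' s)), ← Finset.sum_add_distrib]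
    simp_rw [smul_add]
  map_smul' c r := by
    apply FaithfulSMul.algebraMap_injective B R
    rw [RingHom.id_apply, smul_eq_mul, map_mul,
      Classical.choose_spec (Algebra.IsInvariant.isInvariant (A := B) (G := G) _
        (smul_sum_perm' (c • r))),
      Classical.choose_spec (Algebra.IsInvariant.isInvariant (A := B) (G := G) _
        (smul_sum_perm' r)), Finset.mul_sum]
    apply Finset.sum_congr rfl
    intro h _
    rw [smul_comm, Algebra.smul_def]

theorem algebraMap_trB [Fintype G] [Algebra.IsInvariant B R G] [FaithfulSMul B R] (r : R) :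
    algebraMap B R (trB B G r) = ∑ h : G, h • r :=
  Classical.choose_spec (Algebra.IsInvariant.isInvariant (A := B) (G := G) _ (smul_sum_perm' r))

end Groth.Agent.Lib.GalFreeH6
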