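import Mathlib
import Groth.Agent.Lib.GalFree2_helper6

/-!
# Flatness and unramifiedness from the CHR element
-/

set_option autoImplicit false

namespace Groth.Agent.Lib.GalFreeH6

open scoped TensorProduct

variable {B R G : Type*} [CommRing B] [CommRing R] [Algebra B R] [Group G]
  [MulSemiringAction G R] [SMulCommClass G B R]

theorem flat_away [Finite G] [Algebra.IsInvariant B R G] [FaithfulSMul B R]
    (b : B) (e : R ⊗[B] R) (he1 : Phi (B := B) (1 : G) e = algebraMap B R b)
    (he : ∀ h : G, h ≠ 1 → Phi (B := B) h e = 0) :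
    Module.Flat B (Localization.Away (algebraMap B R b)) := by
  classical
  haveI : Fintype G := Fintype.ofFinite G
  obtain ⟨N, x, y, hxy⟩ := TensorProduct.exists_sum_tmul_eq e
  have hPhi : ∀ h : G, Phi (B := B) h e = ∑ i, x i * h • y i := by
    intro h
    rw [hxy, map_sum]
    simp
  let α : R →ₗ[B] (Fin N → B) :=
    LinearMap.pi fun i => (trB B G) ∘ₗ (LinearMap.mulLeft B (y i))
  let γ : (Fin N → B) →ₗ[B] R := Fintype.linearCombination B x
  have hγα : γ ∘ₗ α = b • LinearMap.id := by
    ext s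
    simp only [LinearMap.comp_apply, LinearMap.smul_apply, LinearMap.id_apply, γ, α,
      Fintype.linearCombination_apply, LinearMap.pi_apply, LinearMap.mulLeft_apply]
    calc ∑ i, trB B G (y i * s) • x i
        = ∑ i, ∑ h : G, (x i * h • y i) * h • s := by
          apply Finset.sum_congr rfl
          intro i _
          rw [Algebra.smul_def, algebraMap_trB, Finset.sum_mul]
          apply Finset.sum_congr rfl
          intro h _
          rw [smul_mul']; ring
      _ = ∑ h : G, (Phi (B := B) h e) * h • s := by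
          rw [Finset.sum_comm]
          apply Finset.sum_congr rfl
          intro h _
          rw [hPhi, Finset.sum_mul]
      _ = b • s := by
          rw [Finset.sum_eq_single (1 : G)]
          · rw [he1, one_smul, Algebra.smul_def]
          · intro h _ hh
            rw [he h hh, zero_mul]
          · intro h; exact absurd (Finset.mem_univ _) h
  let f : R →ₗ[B] Localization.Away (algebraMap B R b) :=
    (IsScalarTower.toAlgHom B R (Localization.Away (algebraMap B R b))).toLinearMap
  haveI : IsLocalizedModule (Submonoid.powers b) f := by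
    rw [isLocalizedModule_iff_isLocalization]
    have : Algebra.algebraMapSubmonoid R (Submonoid.powers b) =
        Submonoid.powers (algebraMap B R b) := by
      simp [Algebra.algebraMapSubmonoid, Submonoid.map_powers]
    rw [this]; infer_instance
  exact flat_of_retract_localized b f α γ hγα

/-- `σ_h ⊗ id` -/
noncomputable def Sg (h : G) : R ⊗[B] R →ₐ[B] R ⊗[B] R :=
  Algebra.TensorProduct.map (MulSemiringAction.toAlgHom B R h) (AlgHom.id B R)

@[simp] theorem Sg_tmul (h : G) (a c : R) : Sg (B := B) h (a ⊗ₜ[B] c) = (h • a) ⊗ₜ[B] c := by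
  simp [Sg]

theorem sum_Sg [Fintype G] [Algebra.IsInvariant B R G] (w : R ⊗[B] R) :
    ∑ h : G, Sg (B := B) h w = (1 : R) ⊗ₜ[B] (∑ h : G, h • Phi (B := B) h⁻¹ w) := by
  induction w using TensorProduct.induction_on with
  | zero => simp
  | tmul x y =>
    simp only [Sg_tmul, Phi_tmul, smul_mul', smul_inv_smul]
    obtain ⟨β, hβ⟩ := Algebra.IsInvariant.isInvariant (A := B) (G := G) (∑ h : G, h • x)
      (smul_sum_perm' x)
    rw [← TensorProduct.sum_tmul, ← Finset.sum_mul, ← hβ, Algebra.algebraMap_eq_smul_one,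
      TensorProduct.smul_tmul, smul_mul_assoc, one_mul]
  | add w₁ w₂ h₁ h₂ =>
    simp only [map_add, Finset.sum_add_distrib, smul_add, TensorProduct.tmul_add, h₁, h₂]

theorem star [Fintype G] [Algebra.IsInvariant B R G]
    (b : B) (e : R ⊗[B] R) (he1 : Phi (B := B) (1 : G) e = algebraMap B R b)
    (he : ∀ h : G, h ≠ 1 → Phi (B := B) h e = 0) (z : R ⊗[B] R) :
    ∑ h : G, ((Phi (B := B) h z) ⊗ₜ[B] (1 : R)) * Sg (B := B) h e = b • z := by
  induction z using TensorProduct.induction_on with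
  | zero => simp
  | tmul a c =>
    have h1 : ∀ h : G, ((Phi (B := B) h (a ⊗ₜ[B] c)) ⊗ₜ[B] (1 : R)) * Sg (B := B) h e =
        (a ⊗ₜ[B] (1 : R)) * Sg (B := B) h ((c ⊗ₜ[B] (1 : R)) * e) := by
      intro h
      rw [map_mul, Sg_tmul, Phi_tmul, ← mul_assoc, Algebra.TensorProduct.tmul_mul_tmul, mul_one]
    simp_rw [h1]
    rw [← Finset.mul_sum, sum_Sg]
    have h2 : ∑ h : G, h • Phi (B := B) h⁻¹ ((c ⊗ₜ[B] (1 : R)) * e) = c * algebraMap B R b := by
      rw [Finset.sum_eq_single (1 : G)]
      · rw [inv_one, one_smul, map_mul, Phi_tmul, he1, one_smul, mul_one]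
      · intro h _ hh
        rw [map_mul, he h⁻¹ (inv_ne_one.mpr hh), mul_zero, smul_zero]
      · intro h; exact absurd (Finset.mem_univ _) h
    rw [h2, Algebra.TensorProduct.tmul_mul_tmul, mul_one, one_mul, TensorProduct.smul_tmul',
      mul_comm, ← Algebra.smul_def, TensorProduct.smul_tmul]
  | add z₁ z₂ h₁ h₂ =>
    simp only [map_add, TensorProduct.add_tmul, add_mul, Finset.sum_add_distrib, h₁, h₂, smul_add]

theorem smul_eq_zero_of_Phi [Fintype G] [Algebra.IsInvariant B R G]
    (b : B) (e : R ⊗[B] R) (he1 : Phi (B := B) (1 : G) e = algebraMap B R b)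
    (he : ∀ h : G, h ≠ 1 → Phi (B := B) h e = 0) (z : R ⊗[B] R)
    (hz : ∀ h : G, Phi (B := B) h z = 0) : b • z = 0 := by
  rw [← star b e he1 he z]
  apply Finset.sum_eq_zero
  intro h _
  rw [hz h, TensorProduct.zero_tmul, zero_mul]

theorem Phi_one_eq_lmul' (z : R ⊗[B] R) :
    Phi (B := B) (1 : G) z = Algebra.TensorProduct.lmul' B z := by
  induction z using TensorProduct.induction_on with
  | zero => simp
  | tmul a c => simp
  | add z₁ z₂ h₁ h₂ => simp only [map_add, h₁, h₂]

theorem sq_smul_kaehler_eq_zero [Finite G] [Algebra.IsInvariant B R G]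
    (b : B) (e : R ⊗[B] R) (he1 : Phi (B := B) (1 : G) e = algebraMap B R b)
    (he : ∀ h : G, h ≠ 1 → Phi (B := B) h e = 0) (ω : Ω[R⁄B]) :
    (algebraMap B R b) ^ 2 • ω = 0 := by
  classical
  haveI : Fintype G := Fintype.ofFinite G
  obtain ⟨⟨x, hx⟩, rfl⟩ := KaehlerDifferential.fromIdeal_surjective B R ω
  have hx0 : Algebra.TensorProduct.lmul' B x = 0 := hx
  -- `b • (x * e) = 0`
  have h1 : b • (x * e) = 0 := by
    apply smul_eq_zero_of_Phi b e he1 he
    intro h
    rw [map_mul]
    by_cases hh : h = 1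
    · rw [hh, Phi_one_eq_lmul', hx0, zero_mul]
    · rw [he h hh, mul_zero]
  -- `e ≡ b ⊗ 1` mod the ideal
  have h2 : e - (algebraMap B R b) ⊗ₜ[B] (1 : R) ∈ KaehlerDifferential.ideal B R := by
    rw [RingHom.mem_ker, map_sub, ← Phi_one_eq_lmul' (G := G), he1]
    simp
  have key : (((algebraMap B R b) ^ 2) ⊗ₜ[B] (1 : R)) * x ∈ (KaehlerDifferential.ideal B R) ^ 2 := by
    have h3 : (((algebraMap B R b) ^ 2) ⊗ₜ[B] (1 : R)) * x =
        b • (x * e) - (b • x) * (e - (algebraMap B R b) ⊗ₜ[B] (1 : R)) := by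
      have h4 : (algebraMap B R b) ⊗ₜ[B] (1 : R) = b • (1 : R ⊗[B] R) := by
        rw [Algebra.algebraMap_eq_smul_one, ← TensorProduct.smul_tmul']
        rfl
      have h5 : (((algebraMap B R b) ^ 2) ⊗ₜ[B] (1 : R)) =
          ((algebraMap B R b) ⊗ₜ[B] (1 : R)) * ((algebraMap B R b) ⊗ₜ[B] (1 : R)) := by
        rw [Algebra.TensorProduct.tmul_mul_tmul, mul_one, sq]
      rw [h5, h4]
      simp only [smul_mul_assoc, mul_smul_comm, one_mul, mul_one, mul_sub, smul_sub]
      abel
    rw [h3, h1, zero_sub]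
    apply Ideal.neg_mem_iff _ |>.mpr
    rw [sq]
    exact Ideal.mul_mem_mul (Submodule.smul_of_tower_mem _ b hx) h2
  have h6 : (algebraMap B R b) ^ 2 • KaehlerDifferential.fromIdeal B R ⟨x, hx⟩ =
      KaehlerDifferential.fromIdeal B R
        ⟨(((algebraMap B R b) ^ 2) ⊗ₜ[B] (1 : R)) * x, Ideal.mul_mem_left _ _ hx⟩ := by
    rw [← algebraMap_smul (R ⊗[B] R) ((algebraMap B R b) ^ 2)
      (KaehlerDifferential.fromIdeal B R ⟨x, hx⟩), ← map_smul]
    rfl
  rw [h6]
  exact (Ideal.toCotangent_eq_zero _ _).mpr key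

end Groth.Agent.Lib.GalFreeH6
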