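import Mathlib
import Groth.Agent.Lib.GalFree3_helper6

/-!
# A finite group quotient is étale at primes with trivial stabilizer
-/

set_option autoImplicit false

namespace Groth.Agent.Lib.GalFreeH6

open scoped TensorProduct Pointwise

variable {B R G : Type*} [CommRing B] [CommRing R] [Algebra B R] [Group G]
  [MulSemiringAction G R] [SMulCommClass G B R]

theorem formallyEtale_atPrime [Finite G] [Algebra.IsInvariant B R G] [FaithfulSMul B R]
    [Algebra.FinitePresentation B R] (m : Ideal R) [m.IsPrime]
    (hstab : ∀ g : G, g • m = m → g = 1) :
    Algebra.FormallyEtale B (Localization.AtPrime m) := by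
  obtain ⟨b, hbm, e, he1, he⟩ := exists_e (B := B) m hstab
  let R' := Localization.Away (algebraMap B R b)
  haveI : Module.Flat B R' := flat_away b e he1 he
  haveI : Algebra.FinitePresentation R R' :=
    IsLocalization.Away.finitePresentation (algebraMap B R b)
  haveI : Algebra.FinitePresentation B R' := Algebra.FinitePresentation.trans B R R'
  haveI : Algebra.FormallyUnramified B R' := by
    rw [Algebra.formallyUnramified_iff]
    rw [← (IsLocalizedModule.iso (Submonoid.powers (algebraMap B R b))
      (KaehlerDifferential.map B B R R')).subsingleton_congr, LocalizedModule.subsingleton_iff]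
    intro ω
    exact ⟨(algebraMap B R b) ^ 2, ⟨2, rfl⟩, sq_smul_kaehler_eq_zero b e he1 he ω⟩
  haveI : Algebra.Etale B R' := Algebra.Etale.of_formallyUnramified_of_flat
  -- `R_m` is a localization of `R'`
  have hunit : IsUnit (algebraMap R (Localization.AtPrime m) (algebraMap B R b)) :=
    IsLocalization.map_units (Localization.AtPrime m) (⟨algebraMap B R b, hbm⟩ : m.primeCompl)
  letI : Algebra R' (Localization.AtPrime m) :=
    (IsLocalization.Away.lift (algebraMap B R b) hunit).toAlgebra
  haveI : IsScalarTower R R' (Localization.AtPrime m) :=
    IsScalarTower.of_algebraMap_eq (fun x => (IsLocalization.Away.lift_eq _ hunit x).symm)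
  haveI : IsScalarTower B R' (Localization.AtPrime m) :=
    IsScalarTower.of_algebraMap_eq (fun x => by
      rw [IsScalarTower.algebraMap_apply B R R', ← IsScalarTower.algebraMap_apply R R',
        ← IsScalarTower.algebraMap_apply B R])
  have hle : Submonoid.powers (algebraMap B R b) ≤ m.primeCompl := by
    rintro _ ⟨n, rfl⟩
    exact fun h => hbm (Ideal.IsPrime.mem_of_pow_mem ‹m.IsPrime› n h)
  haveI : IsLocalization (m.primeCompl.map (algebraMap R R')) (Localization.AtPrime m) :=
    IsLocalization.isLocalization_of_submonoid_le R' (Localization.AtPrime m)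
      (Submonoid.powers (algebraMap B R b)) m.primeCompl hle
  haveI : Algebra.FormallyEtale R' (Localization.AtPrime m) :=
    Algebra.FormallyEtale.of_isLocalization (m.primeCompl.map (algebraMap R R'))
  exact Algebra.FormallyEtale.comp B R' (Localization.AtPrime m)

end Groth.Agent.Lib.GalFreeH6
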