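import Mathlib

/-!
# Formally unramified at a prime + trivial action on the residue field ⇒ trivial
-/

set_option autoImplicit false

namespace Groth.Agent.Lib.GalFreeH6

open scoped Pointwise

theorem eq_one_of_formallyUnramified {B R G : Type*} [CommRing B] [CommRing R] [IsDomain R]
    [IsNoetherianRing R] [Algebra B R] [Group G] [MulSemiringAction G R] [FaithfulSMul G R]
    [SMulCommClass G B R] (m : Ideal R) [m.IsPrime]
    [Algebra.FormallyUnramified B (Localization.AtPrime m)]
    (g : G) (hgm : g • m = m) (hres : ∀ r : R, g • r - r ∈ m) : g = 1 := by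
  let S := Localization.AtPrime m
  let σ : R →+* R := MulSemiringAction.toRingHom G R g
  have hcomap : m.primeCompl ≤ m.primeCompl.comap σ := by
    intro x hx hmem
    apply hx
    have h1 : g • x ∈ g • m := by rw [hgm]; exact hmem
    exact Ideal.smul_mem_pointwise_smul_iff.mp h1
  let gt : S →+* S := IsLocalization.map S σ hcomap
  have hgt : ∀ r : R, gt (algebraMap R S r) = algebraMap R S (g • r) := fun r =>
    IsLocalization.map_eq hcomap r
  let gtA : S →ₐ[B] S :=
    { gt with
      commutes' := fun c => by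
        show gt (algebraMap B S c) = algebraMap B S c
        rw [IsScalarTower.algebraMap_apply B R S, hgt, smul_algebraMap] }
  have hI : ⨅ i, (IsLocalRing.maximalIdeal S) ^ i = ⊥ :=
    Ideal.iInf_pow_eq_bot_of_isLocalRing _ (IsLocalRing.maximalIdeal.isMaximal S).ne_top
  have hH : ∀ x : S, Ideal.Quotient.mk (IsLocalRing.maximalIdeal S) (gtA x) =
      Ideal.Quotient.mk (IsLocalRing.maximalIdeal S) ((AlgHom.id B S) x) := by
    have h1 : (Ideal.Quotient.mk (IsLocalRing.maximalIdeal S)).comp gt =
        Ideal.Quotient.mk (IsLocalRing.maximalIdeal S) := by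
      apply IsLocalization.ringHom_ext m.primeCompl
      ext r
      simp only [RingHom.comp_apply]
      rw [hgt, Ideal.Quotient.eq, ← map_sub, IsLocalization.AtPrime.to_map_mem_maximal_iff S m]
      exact hres r
    intro x
    exact RingHom.congr_fun h1 x
  have hid : gtA = AlgHom.id B S := Algebra.FormallyUnramified.ext_of_iInf _ hI hH
  have hinj : Function.Injective (algebraMap R S) :=
    IsLocalization.injective S (Ideal.primeCompl_le_nonZeroDivisors m)
  apply FaithfulSMul.eq_of_smul_eq_smul (α := R)
  intro r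
  rw [one_smul]
  apply hinj
  rw [← hgt]
  exact AlgHom.congr_fun hid (algebraMap R S r)

theorem exists_sub_mem_of_isAlgClosed (k R : Type*) [Field k] [IsAlgClosed k] [CommRing R]
    [Algebra k R] [Algebra.FiniteType k R] (m : Ideal R) [m.IsMaximal] (r : R) :
    ∃ c : k, r - algebraMap k R c ∈ m := by
  letI := Ideal.Quotient.field m
  haveI : Algebra.FiniteType k (R ⧸ m) :=
    Algebra.FiniteType.of_surjective (Ideal.Quotient.mkₐ k m) Ideal.Quotient.mk_surjective
  haveI : Module.Finite k (R ⧸ m) := finite_of_finite_type_of_isJacobsonRing k (R ⧸ m)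
  haveI : Algebra.IsIntegral k (R ⧸ m) := Algebra.IsIntegral.of_finite k (R ⧸ m)
  obtain ⟨c, hc⟩ := (IsAlgClosed.algebraMap_bijective_of_isIntegral (k := k) (K := R ⧸ m)).2
    (Ideal.Quotient.mk m r)
  refine ⟨c, ?_⟩
  rw [← Ideal.Quotient.eq_zero_iff_mem, map_sub, ← hc, sub_eq_zero,
    IsScalarTower.algebraMap_apply k R (R ⧸ m)]
  rfl

end Groth.Agent.Lib.GalFreeH6
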