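import Mathlib
import Groth.Agent.Lib.GalLim_helper1
import Groth.Agent.S7724

set_option autoImplicit false
universe u

namespace Groth.Agent.Lib.GalTrivH1

open CategoryTheory CategoryTheory.Limits Opposite
open Groth.Agent.Lib.GalLimH1

open groupCohomology in
theorem torsion_cochain {k G : Type u} [CommRing k] [Group G] [Finite G] (A : Rep.{u} k G) (n : ℕ)
    (y : (Fin (n + 1) → G) → A.V) (hy : dd A (n + 1) y = 0) :
    ∃ w : (Fin n → G) → A.V, dd A n w = Nat.card G • y := by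
  let z : cocycles A (n + 1) := cocyclesMk y hy
  have hz : (iCocycles A (n + 1)).hom z = y := iCocycles_mk y hy
  have hx := Groth.Agent.S7724.result k G A (n + 1) (by omega) (groupCohomology.π A (n + 1) z)
  have hx' : (groupCohomology.π A (n + 1)) (Nat.card G • z) = 0 := by rw [map_nsmul]; exact hx
  let S : ShortComplex (ModuleCat k) :=
    ShortComplex.mk ((groupCohomology.inhomogeneousCochains A).toCycles n (n + 1))
      ((groupCohomology.inhomogeneousCochains A).homologyπ (n + 1))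
      ((groupCohomology.inhomogeneousCochains A).toCycles_comp_homologyπ n (n + 1))
  have hS : S.Exact := ShortComplex.exact_of_g_is_cokernel S
    ((groupCohomology.inhomogeneousCochains A).homologyIsCokernel n (n + 1) (by simp))
  rw [ShortComplex.moduleCat_exact_iff] at hS
  obtain ⟨w, hw⟩ := hS (Nat.card G • z) hx'
  refine ⟨w, ?_⟩
  have h1 : ((groupCohomology.inhomogeneousCochains A).iCycles (n + 1)).hom
      (((groupCohomology.inhomogeneousCochains A).toCycles n (n + 1)).hom w) =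
      ((groupCohomology.inhomogeneousCochains A).d n (n + 1)).hom w :=
    congrArg (fun φ => (ModuleCat.Hom.hom φ) w)
      ((groupCohomology.inhomogeneousCochains A).toCycles_i n (n + 1))
  have hw' : ((groupCohomology.inhomogeneousCochains A).toCycles n (n + 1)).hom w =
      Nat.card G • z := hw
  have h3 : (groupCohomology.inhomogeneousCochains A).d n (n + 1) = inhomogeneousCochains.d A n :=
    groupCohomology.inhomogeneousCochains.d_def A n
  rw [hw', map_nsmul, h3] at h1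
  have hz' : ((groupCohomology.inhomogeneousCochains A).iCycles (n + 1)).hom z = y := hz
  rw [hz'] at h1
  exact h1.symm

noncomputable def phi (Q : Type) [Group Q] {M : Type} [AddCommGroup M] (a : M) :
    Rep.trivial ℤ Q ℤ ⟶ Rep.trivial ℤ Q M :=
  Rep.ofHom ⟨LinearMap.toSpanSingleton ℤ M a, fun _ => rfl⟩

theorem phi_apply (Q : Type) [Group Q] {M : Type} [AddCommGroup M] (a : M) (m : ℤ) :
    (phi Q a).hom m = m • a := rfl

theorem triv_vanish (Q : Type) [Group Q] [Finite Q] (M : Type) [AddCommGroup M] (n : ℕ)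
    (hdiv : ∀ a : M, ∃ b : M, Nat.card Q • b = a)
    (ζ : M) (hζ0 : Nat.card Q • ζ = 0)
    (hζ1 : ∀ a : M, Nat.card Q • a = 0 → ∃ m : ℤ, m • ζ = a)
    (hζ2 : ∀ m : ℤ, m • ζ = 0 → (Nat.card Q : ℤ) ∣ m)
    (hQ : Subsingleton (groupCohomology (Rep.trivial ℤ Q ℤ) (n + 2))) :
    Subsingleton (groupCohomology (Rep.trivial ℤ Q M) (n + 1)) := by
  classical
  have hN : Nat.card Q ≠ 0 := Nat.card_pos.ne'
  have hQ' := (gc_subsingleton_iff (Rep.trivial ℤ Q ℤ) (n + 1)).1 hQ
  rw [gc_subsingleton_iff]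
  intro c hc
  obtain ⟨N, hNdef⟩ : ∃ N, N = Nat.card Q := ⟨_, rfl⟩
  rw [← hNdef] at hN hdiv hζ0 hζ1 hζ2
  -- Step 1
  obtain ⟨b, hb⟩ := torsion_cochain (Rep.trivial ℤ Q M) n c hc
  rw [← hNdef] at hb
  -- Step 2
  choose b' hb' using fun g => hdiv (b g)
  have hbb : b = N • b' := funext fun g => (hb' g).symm
  -- Step 3
  obtain ⟨c', hc'⟩ : ∃ c', c' = c - dd (Rep.trivial ℤ Q M) n b' := ⟨_, rfl⟩
  have hNc' : ∀ g, N • c' g = 0 := by
    intro g
    have : N • c' = 0 := by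
      rw [hc', smul_sub, ← map_nsmul, ← hbb, hb, sub_self]
    exact congrFun this g
  have hdc' : dd (Rep.trivial ℤ Q M) (n + 1) c' = 0 := by
    rw [hc', map_sub, hc, dd_dd, sub_zero]
  -- Step 4
  choose ct hct using fun g => hζ1 (c' g) (hNc' g)
  have hpct : push (phi Q ζ) (n + 1) ct = c' := funext hct
  -- Step 5
  have hu : ∀ g, (N : ℤ) ∣ dd (Rep.trivial ℤ Q ℤ) (n + 1) ct g := by
    intro g
    have h1 : push (phi Q ζ) (n + 1 + 1) (dd (Rep.trivial ℤ Q ℤ) (n + 1) ct) = 0 := by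
      rw [← dd_push, hpct, hdc']
    exact hζ2 _ (congrFun h1 g)
  choose t ht using hu
  have htu : dd (Rep.trivial ℤ Q ℤ) (n + 1) ct = N • t := by
    funext g
    rw [ht g]; simp
  -- Step 6
  have hdt : dd (Rep.trivial ℤ Q ℤ) (n + 1 + 1) t = 0 := by
    have h1 : N • dd (Rep.trivial ℤ Q ℤ) (n + 1 + 1) t = 0 := by
      rw [← map_nsmul, ← htu, dd_dd]
    funext g
    have h2 := congrFun h1 g
    simp only [Pi.smul_apply, Pi.zero_apply, nsmul_eq_mul] at h2
    rcases mul_eq_zero.1 h2 with h | h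
    · exact absurd (by exact_mod_cast h) hN
    · exact h
  -- Step 7
  obtain ⟨s, hs⟩ := hQ' t hdt
  -- Step 8
  obtain ⟨z, hz⟩ : ∃ z, z = ct - N • s := ⟨_, rfl⟩
  have hdz : dd (Rep.trivial ℤ Q ℤ) (n + 1) z = 0 := by
    rw [hz, map_sub, map_nsmul, hs, htu, sub_self]
  have hpz : push (phi Q ζ) (n + 1) z = c' := by
    rw [← hpct]
    funext g
    show (z g) • ζ = (ct g) • ζ
    rw [hz]
    simp only [Pi.sub_apply, Pi.smul_apply, sub_smul]
    have : (N • s g) • ζ = 0 := by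
      rw [nsmul_eq_mul, mul_comm, mul_smul, natCast_zsmul, hζ0, smul_zero]
    rw [this, sub_zero]
  -- Step 9
  obtain ⟨η, hη⟩ := hdiv ζ
  obtain ⟨y, hy⟩ : ∃ y, y = push (phi Q η) (n + 1) z := ⟨_, rfl⟩
  have hdy : dd (Rep.trivial ℤ Q M) (n + 1) y = 0 := by
    rw [hy, dd_push, hdz, push_zero]
  have hNy : N • y = c' := by
    rw [← hpz, hy]
    funext g
    show N • ((z g) • η) = (z g) • ζ
    rw [← hη, smul_comm]
  -- Step 10
  obtain ⟨w, hw⟩ := torsion_cochain (Rep.trivial ℤ Q M) n y hdy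
  rw [← hNdef] at hw
  -- Step 11
  refine ⟨w + b', ?_⟩
  rw [map_add, hw, hNy, hc']; abel

theorem main19224 (Q : Type) [Group Q] [Finite Q]
    (hQ : Subsingleton (groupCohomology (Rep.trivial ℤ Q ℤ) 3)) (k : Type) [Field k]
    [IsSepClosed k]
    (p : ℕ) [CharP k p] (hp : ¬ p ∣ Nat.card Q) :
    Subsingleton (groupCohomology (Rep.trivial ℤ Q (Additive kˣ)) 2) := by
  have hN : Nat.card Q ≠ 0 := Nat.card_pos.ne'
  have hNk : (Nat.card Q : k) ≠ 0 := fun h => hp ((CharP.cast_eq_zero_iff k p _).1 h)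
  haveI : NeZero (Nat.card Q : k) := ⟨hNk⟩
  haveI : NeZero (Nat.card Q) := ⟨hN⟩
  obtain ⟨ζ0, hζ0⟩ := HasEnoughRootsOfUnity.exists_primitiveRoot k (Nat.card Q)
  let ζu : kˣ := Units.mk0 ζ0 (hζ0.ne_zero hN)
  have hζu : IsPrimitiveRoot ζu (Nat.card Q) := IsPrimitiveRoot.coe_units_iff.1 hζ0
  refine triv_vanish Q (Additive kˣ) 1 ?_ (Additive.ofMul ζu) ?_ ?_ ?_ hQ
  · intro a
    obtain ⟨z, hz⟩ := IsSepClosed.exists_pow_nat_eq ((Additive.toMul a : kˣ) : k) (Nat.card Q)
    have hz0 : z ≠ 0 := by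
      rintro rfl
      rw [zero_pow hN] at hz
      exact (Additive.toMul a).ne_zero hz.symm
    refine ⟨Additive.ofMul (Units.mk0 z hz0), ?_⟩
    rw [← ofMul_pow]
    have : (Units.mk0 z hz0) ^ Nat.card Q = Additive.toMul a := Units.ext (by simpa using hz)
    rw [this]; rfl
  · rw [← ofMul_pow, hζu.pow_eq_one]; rfl
  · intro a ha
    have h1 : (Additive.toMul a) ^ Nat.card Q = 1 := by
      have : Additive.ofMul ((Additive.toMul a) ^ Nat.card Q) = 0 := by rw [ofMul_pow]; exact ha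
      exact this
    obtain ⟨i, -, hi⟩ := hζu.eq_pow_of_mem_rootsOfUnity ((mem_rootsOfUnity _ _).2 h1)
    refine ⟨(i : ℤ), ?_⟩
    rw [natCast_zsmul, ← ofMul_pow, hi]; rfl
  · intro m hm
    have h1 : ζu ^ m = 1 := by
      have : Additive.ofMul (ζu ^ m) = 0 := by rw [ofMul_zpow]; exact hm
      exact this
    exact (hζu.zpow_eq_one_iff_dvd m).1 h1

end Groth.Agent.Lib.GalTrivH1
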