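import Mathlib
import Groth.Agent.Lib.GalTriv_helper1

set_option autoImplicit false
universe u

namespace Groth.Agent.Lib.GalHensH1

open CategoryTheory CategoryTheory.Limits Opposite
open Groth.Agent.Lib.GalLimH1 Groth.Agent.Lib.GalTrivH1

section Bridge

variable {k G : Type u} [CommRing k] [Group G]

open groupCohomology

/-- the class of a cocycle -/
noncomputable def cls (A : Rep.{u} k G) (n : ℕ) (y : (Fin n → G) → A.V) (hy : dd A n y = 0) :
    groupCohomology A n :=
  groupCohomology.π A n (cocyclesMk y hy)

theorem iCocycles_injective (A : Rep.{u} k G) (n : ℕ) :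
    Function.Injective (iCocycles A n).hom :=
  (ModuleCat.mono_iff_injective _).1 inferInstance

theorem exists_cls (A : Rep.{u} k G) (n : ℕ) (x : groupCohomology A n) :
    ∃ (y : (Fin n → G) → A.V) (hy : dd A n y = 0), x = cls A n y hy := by
  induction x using groupCohomology_induction_on with
  | h z =>
    have hy : dd A n ((iCocycles A n).hom z) = 0 := by
      have h1 := congrArg (fun φ => (ModuleCat.Hom.hom φ) z)
        ((groupCohomology.inhomogeneousCochains A).iCycles_d n (n + 1))
      have h3 : (groupCohomology.inhomogeneousCochains A).d n (n + 1) =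
          inhomogeneousCochains.d A n := groupCohomology.inhomogeneousCochains.d_def A n
      rw [h3] at h1
      exact h1
    refine ⟨(iCocycles A n).hom z, hy, ?_⟩
    unfold cls
    congr 1
    apply iCocycles_injective
    exact (iCocycles_mk _ hy).symm

theorem toCycles_eq (A : Rep.{u} k G) (n : ℕ) (w : (Fin n → G) → A.V) :
    ((groupCohomology.inhomogeneousCochains A).toCycles n (n + 1)).hom w =
      cocyclesMk (dd A n w) (dd_dd A n w) := by
  apply iCocycles_injective
  have h1 : ((groupCohomology.inhomogeneousCochains A).iCycles (n + 1)).hom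
      (((groupCohomology.inhomogeneousCochains A).toCycles n (n + 1)).hom w) =
      ((groupCohomology.inhomogeneousCochains A).d n (n + 1)).hom w :=
    congrArg (fun φ => (ModuleCat.Hom.hom φ) w)
      ((groupCohomology.inhomogeneousCochains A).toCycles_i n (n + 1))
  have h3 : (groupCohomology.inhomogeneousCochains A).d n (n + 1) = inhomogeneousCochains.d A n :=
    groupCohomology.inhomogeneousCochains.d_def A n
  rw [h3] at h1
  refine h1.trans ?_
  exact (iCocycles_mk _ (dd_dd A n w)).symm

theorem cls_eq_zero_iff (A : Rep.{u} k G) (n : ℕ) (y : (Fin (n + 1) → G) → A.V)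
    (hy : dd A (n + 1) y = 0) : cls A (n + 1) y hy = 0 ↔ ∃ w, dd A n w = y := by
  constructor
  · intro h
    let S : ShortComplex (ModuleCat k) :=
      ShortComplex.mk ((groupCohomology.inhomogeneousCochains A).toCycles n (n + 1))
        ((groupCohomology.inhomogeneousCochains A).homologyπ (n + 1))
        ((groupCohomology.inhomogeneousCochains A).toCycles_comp_homologyπ n (n + 1))
    have hS : S.Exact := ShortComplex.exact_of_g_is_cokernel S
      ((groupCohomology.inhomogeneousCochains A).homologyIsCokernel n (n + 1) (by simp))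
    rw [ShortComplex.moduleCat_exact_iff] at hS
    obtain ⟨w, hw⟩ := hS (cocyclesMk y hy) h
    refine ⟨w, ?_⟩
    have hw' : ((groupCohomology.inhomogeneousCochains A).toCycles n (n + 1)).hom w =
        cocyclesMk y hy := hw
    rw [toCycles_eq] at hw'
    have := congrArg (iCocycles A (n + 1)).hom hw'
    rw [iCocycles_mk, iCocycles_mk] at this
    exact this
  · rintro ⟨w, rfl⟩
    unfold cls
    rw [← toCycles_eq]
    have h1 := congrArg (fun φ => (ModuleCat.Hom.hom φ) w)
      ((groupCohomology.inhomogeneousCochains A).toCycles_comp_homologyπ n (n + 1))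
    exact h1

theorem map_cls {A B : Rep.{u} k G} (φ : A ⟶ B) (n : ℕ) (y : (Fin n → G) → A.V)
    (hy : dd A n y = 0) :
    (groupCohomology.map (MonoidHom.id G) φ n).hom (cls A n y hy) =
      cls B n (push φ n y) (by rw [dd_push, hy, push_zero]) := by
  unfold cls
  have h1 := congrArg (fun ψ => (ModuleCat.Hom.hom ψ) (cocyclesMk y hy))
    (groupCohomology.π_map (MonoidHom.id G) φ n)
  refine h1.trans ?_
  show (groupCohomology.π B n).hom ((cocyclesMap (MonoidHom.id G) φ n).hom (cocyclesMk y hy)) = _
  congr 1
  apply iCocycles_injective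
  have h2 := congrArg (fun ψ => (ModuleCat.Hom.hom ψ) (cocyclesMk y hy))
    (HomologicalComplex.cyclesMap_i (cochainsMap (MonoidHom.id G) φ) n)
  refine h2.trans ?_
  rw [iCocycles_mk]
  show ((cochainsMap (MonoidHom.id G) φ).f n).hom ((iCocycles A n).hom (cocyclesMk y hy)) = _
  rw [iCocycles_mk]
  rfl

end Bridge

section Acyclic

variable {k G : Type u} [CommRing k] [Group G] [Finite G]

theorem acyclic_of_uniquely_divisible (K : Rep.{u} k G)
    (hdiv : ∀ x : K.V, ∃ y : K.V, Nat.card G • y = x)
    (htf : ∀ x : K.V, Nat.card G • x = 0 → x = 0) (m : ℕ)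
    (z : (Fin (m + 1) → G) → K.V) (hz : dd K (m + 1) z = 0) : ∃ w, dd K m w = z := by
  classical
  obtain ⟨w0, hw0⟩ := torsion_cochain K m z hz
  choose w1 hw1 using fun g => hdiv (w0 g)
  refine ⟨w1, ?_⟩
  have h1 : Nat.card G • (dd K m w1 - z) = 0 := by
    have : w0 = Nat.card G • w1 := funext fun g => (hw1 g).symm
    rw [smul_sub, ← map_nsmul, ← this, hw0, sub_self]
  funext g
  have h2 := htf ((dd K m w1 - z) g) (congrFun h1 g)
  exact sub_eq_zero.1 h2

theorem map_bijective {A B : Rep.{u} k G} (φ : A ⟶ B)
    (hφ : Function.Surjective φ.hom)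
    (hdiv : ∀ x : (kernel φ).V, ∃ y : (kernel φ).V, Nat.card G • y = x)
    (htf : ∀ x : (kernel φ).V, Nat.card G • x = 0 → x = 0)
    (m : ℕ) : Function.Bijective (groupCohomology.map (MonoidHom.id G) φ (m + 1)).hom := by
  classical
  have hK := acyclic_of_uniquely_divisible (kernel φ) hdiv htf
  constructor
  · rw [injective_iff_map_eq_zero]
    intro x hx
    obtain ⟨y, hy, rfl⟩ := exists_cls A (m + 1) x
    rw [map_cls, cls_eq_zero_iff] at hx
    obtain ⟨wb, hwb⟩ := hx
    obtain ⟨b', hb', -⟩ := step_lemma φ hφ m (hK m) y hy wb hwb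
    rw [cls_eq_zero_iff]
    exact ⟨b', hb'⟩
  · intro xb
    obtain ⟨yb, hyb, rfl⟩ := exists_cls B (m + 1) xb
    choose y0 hy0 using fun g => hφ (yb g)
    have hy0' : push φ (m + 1) y0 = yb := funext hy0
    obtain ⟨e, he⟩ : ∃ e, e = dd A (m + 1) y0 := ⟨_, rfl⟩
    have hpe : push φ (m + 1 + 1) e = 0 := by rw [he, ← dd_push, hy0', hyb]
    choose e' he' using fun g => kernel_lift φ (e g) (congrFun hpe g)
    have he'' : push (kernel.ι φ) (m + 1 + 1) e' = e := funext he'
    have hinj : Function.Injective (kernel.ι φ).hom :=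
      (Rep.mono_iff_injective _).1 inferInstance
    have hde' : dd (kernel φ) (m + 1 + 1) e' = 0 := by
      funext g
      apply hinj
      have h1 : push (kernel.ι φ) (m + 1 + 1 + 1) (dd _ (m + 1 + 1) e') =
          dd _ (m + 1 + 1) e := by rw [← dd_push, he'']
      have h2 : dd A (m + 1 + 1) e = 0 := by rw [he, dd_dd]
      have h3 := congrFun h1 g
      rw [h2] at h3
      show (kernel.ι φ).hom (dd _ _ e' g) = (kernel.ι φ).hom 0
      rw [map_zero]; exact h3
    obtain ⟨e2, he2⟩ := hK (m + 1) e' hde'
    obtain ⟨y, hy⟩ : ∃ y, y = y0 - push (kernel.ι φ) (m + 1) e2 := ⟨_, rfl⟩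
    have hdy : dd A (m + 1) y = 0 := by
      rw [hy, map_sub, dd_push, he2, he'', he, sub_self]
    have hpy : push φ (m + 1) y = yb := by
      rw [hy, push_sub, hy0', push_comp, kernel.condition, push_zero_hom, sub_zero]
    refine ⟨cls A (m + 1) y hdy, ?_⟩
    rw [map_cls]
    subst hpy
    rfl

end Acyclic

section Hensel

open IsLocalRing Polynomial

attribute [local instance] Units.mulDistribMulActionRight

set_option maxHeartbeats 400000 in
theorem main19223 (R : Type) [CommRing R]
    [HenselianLocalRing R] [IsSepClosed (IsLocalRing.ResidueField R)] (p : ℕ)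
    [CharP (IsLocalRing.ResidueField R) p]
    (G : Type) [Group G] [Finite G] [MulSemiringAction G R] (hp : ¬ p ∣ Nat.card G)
    (φ : Rep.ofMulDistribMulAction G Rˣ ⟶
      Rep.ofMulDistribMulAction G (IsLocalRing.ResidueField R)ˣ)
    (hφ : ∀ x : Rˣ, Additive.toMul (φ.hom (Additive.ofMul x)) =
      Units.map (IsLocalRing.residue R).toMonoidHom x)
    (n : ℕ) (hn : 1 ≤ n)
    (h1 : n = 1 → p ≠ 0 → ∀ (ζ : Rˣ) (m : ℕ), ζ ^ p ^ m = 1 → ζ = 1) :
    Function.Bijective ((groupCohomology.functor ℤ G n).map φ).hom := by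
  classical
  obtain ⟨m, rfl⟩ : ∃ m, n = m + 1 := ⟨n - 1, by omega⟩
  rw [groupCohomology.functor_map]
  have hN : Nat.card G ≠ 0 := Nat.card_pos.ne'
  have hNκ : (Nat.card G : ResidueField R) ≠ 0 :=
    fun h => hp ((CharP.cast_eq_zero_iff (ResidueField R) p _).1 h)
  -- characterisation of the kernel
  have hφ' : ∀ a : Additive Rˣ,
      (Additive.toMul (α := (ResidueField R)ˣ) (φ.hom a) : (ResidueField R)ˣ) =
        Units.map (IsLocalRing.residue R).toMonoidHom (Additive.toMul a) :=
    fun a => hφ (Additive.toMul a)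
  have hφ0 : ∀ a : Additive Rˣ, φ.hom a = 0 ↔ residue R ((Additive.toMul a : Rˣ) : R) = 1 := by
    intro a
    constructor
    · intro h
      have h3 : Units.map (IsLocalRing.residue R).toMonoidHom (Additive.toMul a) = 1 := by
        rw [← hφ' a, h]; rfl
      have := congrArg (fun u : (ResidueField R)ˣ => (u : ResidueField R)) h3
      simpa using this
    · intro h
      have h3 : Units.map (IsLocalRing.residue R).toMonoidHom (Additive.toMul a) = 1 := by
        apply Units.ext
        simpa using h
      rw [← hφ' a] at h3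
      exact h3
  have hinj : Function.Injective (kernel.ι φ).hom :=
    (Rep.mono_iff_injective _).1 inferInstance
  have hker : ∀ x : (kernel φ).V, φ.hom ((kernel.ι φ).hom x) = 0 := by
    intro x
    have := congrArg (fun ψ => (Rep.Hom.hom ψ) x) (kernel.condition φ)
    exact this
  refine map_bijective φ ?_ ?_ ?_ m
  · -- surjective
    intro (b : Additive (ResidueField R)ˣ)
    obtain ⟨r, hr⟩ := residue_surjective ((Additive.toMul b : (ResidueField R)ˣ) : ResidueField R)
    have hru : IsUnit r := by
      rw [← residue_ne_zero_iff_isUnit, hr]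
      exact (Additive.toMul b).ne_zero
    refine ⟨(Additive.ofMul hru.unit : Additive Rˣ), ?_⟩
    have h4 := hφ' (Additive.ofMul hru.unit : Additive Rˣ)
    have h5 : Units.map (IsLocalRing.residue R).toMonoidHom hru.unit = Additive.toMul b := by
      apply Units.ext
      show residue R (hru.unit : R) = _
      rw [IsUnit.unit_spec]; exact hr
    have h6 : (Additive.toMul (α := (ResidueField R)ˣ)
        (φ.hom (Additive.ofMul hru.unit : Additive Rˣ)) : (ResidueField R)ˣ) =
        Additive.toMul b := h4.trans h5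
    exact h6
  · -- divisible
    intro x
    obtain ⟨a, ha⟩ : ∃ a : Additive Rˣ, a = (kernel.ι φ).hom x := ⟨_, rfl⟩
    have hres : residue R ((Additive.toMul a : Rˣ) : R) = 1 := by
      rw [← hφ0, ha]; exact hker x
    obtain ⟨u, hu⟩ : ∃ u : Rˣ, u = Additive.toMul a := ⟨_, rfl⟩
    rw [← hu] at hres
    let f : R[X] := X ^ Nat.card G - C (u : R)
    have hmonic : f.Monic := monic_X_pow_sub_C _ hN
    have hf1 : f.eval 1 ∈ maximalIdeal R := by
      rw [← residue_eq_zero_iff]
      simp [f, hres]
    have hf2 : IsUnit (f.derivative.eval 1) := by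
      have : f.derivative.eval 1 = (Nat.card G : R) := by
        simp [f, derivative_X_pow]
      rw [this, ← residue_ne_zero_iff_isUnit, map_natCast]
      exact hNκ
    obtain ⟨v0, hroot, hv0⟩ := HenselianLocalRing.is_henselian f hmonic 1 hf1 hf2
    have hv0N : v0 ^ Nat.card G = (u : R) := by
      have : f.eval v0 = 0 := hroot
      simp only [f, eval_sub, eval_pow, eval_X, eval_C] at this
      exact sub_eq_zero.1 this
    have hv0u : IsUnit v0 := by
      have : IsUnit (v0 ^ Nat.card G) := by rw [hv0N]; exact u.isUnit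
      exact (isUnit_pow_iff hN).1 this
    have hv0res : residue R v0 = 1 := by
      have := (residue_eq_zero_iff _).2 hv0
      rw [map_sub, map_one, sub_eq_zero] at this
      exact this
    have hav : φ.hom (Additive.ofMul hv0u.unit : Additive Rˣ) = 0 :=
      (hφ0 _).2 (by simpa using hv0res)
    obtain ⟨y, hy⟩ := kernel_lift φ _ hav
    refine ⟨y, ?_⟩
    apply hinj
    rw [map_nsmul, hy, ← ha]
    show (Nat.card G • (Additive.ofMul hv0u.unit : Additive Rˣ)) = a
    rw [← ofMul_pow]
    have : hv0u.unit ^ Nat.card G = u := by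
      apply Units.ext
      simpa using hv0N
    rw [this, hu]; rfl
  · -- torsion free
    intro x hx
    obtain ⟨a, ha⟩ : ∃ a : Additive Rˣ, a = (kernel.ι φ).hom x := ⟨_, rfl⟩
    have hres : residue R ((Additive.toMul a : Rˣ) : R) = 1 := by
      rw [← hφ0, ha]; exact hker x
    have haN : Nat.card G • a = 0 := by
      have h0 : (kernel.ι φ).hom (Nat.card G • x) = 0 := by rw [hx, map_zero]
      rw [map_nsmul] at h0
      rw [ha]; exact h0
    obtain ⟨u, hu⟩ : ∃ u : Rˣ, u = Additive.toMul a := ⟨_, rfl⟩
    rw [← hu] at hres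
    have huN : u ^ Nat.card G = 1 := by
      have : Additive.ofMul (u ^ Nat.card G) = 0 := by
        rw [ofMul_pow, hu]; exact haN
      exact this
    have huN' : (u : R) ^ Nat.card G = 1 := by
      have := congrArg (fun w : Rˣ => (w : R)) huN
      simpa using this
    have hgs := geom_sum_mul (u : R) (Nat.card G)
    rw [huN', sub_self] at hgs
    have hSu : IsUnit (∑ i ∈ Finset.range (Nat.card G), (u : R) ^ i) := by
      rw [← residue_ne_zero_iff_isUnit, map_sum]
      simp only [map_pow, hres, one_pow, Finset.sum_const, Finset.card_range, nsmul_eq_mul,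
        mul_one]
      exact hNκ
    have hu1 : (u : R) - 1 = 0 := (hSu.mul_right_eq_zero).1 hgs
    have hu1' : u = 1 := Units.ext (sub_eq_zero.1 hu1)
    have ha0 : a = 0 := by
      have : Additive.ofMul u = 0 := by rw [hu1']; rfl
      rw [hu] at this
      exact this
    apply hinj
    rw [map_zero, ← ha, ha0]
    rfl

end Hensel

end Groth.Agent.Lib.GalHensH1
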