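import Mathlib

/-! Coflasque lattices (helper1): `H¹(Γ', Λ) = 0` for all subgroups iff every extension of a
permutation lattice by `Λ` splits. -/

set_option autoImplicit false
set_option maxHeartbeats 1000000

open CategoryTheory groupCohomology

namespace Groth.Agent.Lib.GalLatH1

universe u

/-- vanishing of `H¹` in terms of cocycles and coboundaries -/
theorem isZero_H1_iff {k G : Type u} [CommRing k] [Group G] (A : Rep k G) :
    Limits.IsZero (groupCohomology A 1) ↔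
      ∀ f : G → A.V, (∀ g h : G, f (g * h) = A.ρ g (f h) + f g) →
        ∃ x : A.V, ∀ g, f g = A.ρ g x - x := by
  constructor
  · intro hz f hf
    have hmem : f ∈ cocycles₁ A := (mem_cocycles₁_iff f).mpr hf
    have h0 : H1π A ⟨f, hmem⟩ = 0 := by
      have := (ModuleCat.isZero_iff_subsingleton).mp hz
      exact Subsingleton.elim _ _
    rw [H1π_eq_zero_iff] at h0
    obtain ⟨x, hx⟩ := h0
    refine ⟨x, fun g => ?_⟩
    have := congrFun hx g
    rw [d₀₁_hom_apply] at this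
    exact this.symm
  · intro h
    rw [ModuleCat.isZero_iff_subsingleton]
    refine ⟨fun a b => ?_⟩
    have key : ∀ x : H1 A, x = 0 := by
      intro x
      induction x using H1_induction_on with
      | h f =>
        rw [H1π_eq_zero_iff]
        obtain ⟨x, hx⟩ := h f ((mem_cocycles₁_iff f).mp f.2)
        exact ⟨x, funext fun g => by rw [d₀₁_hom_apply]; exact (hx g).symm⟩
    rw [key a, key b]

section MA

variable {R : Type*} [CommSemiring R] {X : Type*} {N : Type*} [AddCommMonoid N] [Module R N]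

theorem ma_lhom_ext {f g : MonoidAlgebra R X →ₗ[R] N}
    (h : ∀ (x : X) (n : R), f (MonoidAlgebra.single x n) = g (MonoidAlgebra.single x n)) :
    f = g := by
  apply MonoidAlgebra.lhom_ext'
  intro x
  apply LinearMap.ext
  intro n
  exact h x n

/-- the linear map out of `R[X]` with prescribed values on the basis -/
noncomputable def slin (e : X → N) : MonoidAlgebra R X →ₗ[R] N :=
  (Finsupp.linearCombination R e) ∘ₗ (MonoidAlgebra.coeffLinearEquiv R).toLinearMap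

theorem slin_single (e : X → N) (x : X) (n : R) :
    slin e (MonoidAlgebra.single x n) = n • e x := by
  unfold slin
  rw [LinearMap.comp_apply]
  show Finsupp.linearCombination R e ((MonoidAlgebra.single x n).coeff) = _
  rw [MonoidAlgebra.coeff_single, Finsupp.linearCombination_single]

theorem ma_lhom_ext1 {f g : MonoidAlgebra R X →ₗ[R] N}
    (h : ∀ (x : X), f (MonoidAlgebra.single x 1) = g (MonoidAlgebra.single x 1)) :
    f = g := by
  apply MonoidAlgebra.lhom_ext'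
  intro x
  apply LinearMap.ext_ring
  exact h x

theorem slin_single_one (e : X → N) (x : X) :
    slin (R := R) e (MonoidAlgebra.single x 1) = e x := by
  rw [slin_single, one_smul]

end MA

section Data

attribute [local instance 2000] Rep.hV2

variable {Γ : Type} [Group Γ]

/-- the elementary form of `H¹(H, A) = 0` for all subgroups -/
def Cofl (A : Rep ℤ Γ) : Prop :=
  ∀ (H : Subgroup Γ) (c : ↥H → A.V), (∀ g h : ↥H, c (g * h) = A.ρ (g : Γ) (c h) + c g) →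
    ∃ a : A.V, ∀ g : ↥H, c g = A.ρ (g : Γ) a - a

theorem cofl_iff (A : Rep ℤ Γ) :
    Cofl A ↔ ∀ Γ' : Subgroup Γ, Limits.IsZero (groupCohomology (Rep.res Γ'.subtype A) 1) := by
  constructor
  · intro h Γ'
    rw [isZero_H1_iff]
    exact h Γ'
  · intro h Γ'
    have := (isZero_H1_iff (Rep.res Γ'.subtype A)).mp (h Γ')
    exact this

theorem cofl_of_iso {A B : Rep ℤ Γ} (α : A ≅ B) (hB : Cofl B) : Cofl A := by
  intro H c hc
  have hinv : ∀ z : A.V, α.inv.hom (α.hom.hom z) = z := fun z => by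
    have h := Rep.comp_apply α.hom α.inv z
    rw [α.hom_inv_id, Rep.id_apply] at h
    exact h.symm
  obtain ⟨a, ha⟩ := hB H (fun g => α.hom.hom (c g)) (fun g h => by
    show α.hom.hom (c (g * h)) = _
    rw [hc, map_add, α.hom.hom.isIntertwining])
  refine ⟨α.inv.hom a, fun g => ?_⟩
  have h1 := congrArg α.inv.hom (ha g)
  rw [hinv, map_sub, α.inv.hom.isIntertwining] at h1
  exact h1

theorem sub_fix {M : Type*} [AddCommGroup M] {A B C D : M} (h : B - D = A - C) :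
    A - B = C - D := by
  have key : A - B = (C - D) + ((A - C) - (B - D)) := by abel
  rw [key, ← h, sub_self, add_zero]

/-- (i) ⟹ (ii) -/
theorem splitting_of_cofl (Λ : Rep ℤ Γ) (hΛ : Cofl Λ) (X : Type) [MulAction Γ X]
    (E : ShortComplex (Rep ℤ Γ)) (hE : E.ShortExact) (α : E.X₁ ≅ Λ)
    (β : E.X₃ ≅ Rep.ofMulAction ℤ Γ X) : Nonempty E.Splitting := by
  classical
  have h1 : Cofl E.X₁ := cofl_of_iso α hΛ
  have hinj : Function.Injective E.f.hom := (Rep.mono_iff_injective E.f).mp hE.mono_f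
  have hsurj : Function.Surjective E.g.hom := (Rep.epi_iff_surjective E.g).mp hE.epi_g
  have hex : LinearMap.range E.f.hom.toLinearMap = LinearMap.ker E.g.hom.toLinearMap :=
    (hE.exact.map (forget₂ (Rep ℤ Γ) (ModuleCat ℤ))).moduleCat_range_eq_ker
  have hexact : ∀ y : E.X₂.V, E.g.hom y = 0 → ∃ z : E.X₁.V, E.f.hom z = y := fun y hy => by
    have hmem : y ∈ LinearMap.ker E.g.hom.toLinearMap := hy
    rw [← hex] at hmem
    exact hmem
  have hgf : ∀ z : E.X₁.V, E.g.hom (E.f.hom z) = 0 := fun z => by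
    have hmem : E.f.hom z ∈ LinearMap.range E.f.hom.toLinearMap := ⟨z, rfl⟩
    rw [hex] at hmem
    exact hmem
  -- basis vectors
  obtain ⟨b, hb⟩ : ∃ b : X → E.X₃.V, ∀ x, b x = β.inv.hom (MonoidAlgebra.single x (1 : ℤ)) :=
    ⟨_, fun _ => rfl⟩
  have hbsmul : ∀ (γ : Γ) (x : X), E.X₃.ρ γ (b x) = b (γ • x) := fun γ x => by
    rw [hb, hb, ← β.inv.hom.isIntertwining]
    congr 1
    exact Representation.ofMulAction_single γ x 1
  -- invariant lifts
  have hA : ∀ x : X, ∃ e : E.X₂.V, E.g.hom e = b x ∧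
      ∀ γ : Γ, γ • x = x → E.X₂.ρ γ e = e := by
    intro x
    obtain ⟨e₀, he₀⟩ := hsurj (b x)
    have hz : ∀ γ : ↥(MulAction.stabilizer Γ x), ∃ z : E.X₁.V,
        E.f.hom z = E.X₂.ρ (γ : Γ) e₀ - e₀ := fun γ => by
      apply hexact
      rw [map_sub, E.g.hom.isIntertwining, he₀, hbsmul, MulAction.mem_stabilizer_iff.mp γ.2,
        sub_self]
    choose c' hc' using hz
    obtain ⟨a', ha'⟩ := h1 (MulAction.stabilizer Γ x) c' (fun γ δ => by
      apply hinj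
      rw [hc', map_add, E.f.hom.isIntertwining, hc', hc', Subgroup.coe_mul, map_mul, map_sub,
        Module.End.mul_apply]
      abel)
    refine ⟨e₀ - E.f.hom a', ?_, ?_⟩
    · rw [map_sub, hgf, sub_zero, he₀]
    · intro γ hγ
      have h2 := hc' ⟨γ, MulAction.mem_stabilizer_iff.mpr hγ⟩
      rw [ha' ⟨γ, MulAction.mem_stabilizer_iff.mpr hγ⟩, map_sub, E.f.hom.isIntertwining] at h2
      rw [map_sub]
      exact sub_fix h2
  choose e' he'g he'fix using hA
  -- orbit representatives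
  obtain ⟨r, hr⟩ : ∃ r : X → X, ∀ x, r x = (Quotient.mk (MulAction.orbitRel Γ X) x).out :=
    ⟨_, fun _ => rfl⟩
  have hr1 : ∀ x, ∃ τ : Γ, τ • r x = x := fun x => by
    have h := Quotient.mk_out (s := MulAction.orbitRel Γ X) x
    rw [MulAction.orbitRel_apply, MulAction.mem_orbit_iff] at h
    obtain ⟨g, hg⟩ := h
    exact ⟨g⁻¹, by rw [hr, ← hg, inv_smul_smul]⟩
  have hr2 : ∀ (γ : Γ) (x : X), r (γ • x) = r x := fun γ x => by
    rw [hr, hr]
    congr 1
    exact Quotient.sound ((MulAction.orbitRel_apply).mpr (MulAction.mem_orbit x γ))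
  choose t ht using hr1
  obtain ⟨e, he⟩ : ∃ e : X → E.X₂.V, ∀ x, e x = E.X₂.ρ (t x) (e' (r x)) := ⟨_, fun _ => rfl⟩
  have heg : ∀ x, E.g.hom (e x) = b x := fun x => by
    rw [he, E.g.hom.isIntertwining, he'g, hbsmul, ht]
  have hequiv : ∀ (δ : Γ) (x : X), E.X₂.ρ δ (e x) = e (δ • x) := fun δ x => by
    rw [he, he, hr2]
    have hfix : ((t (δ • x))⁻¹ * δ * t x) • r x = r x := by
      rw [mul_smul, mul_smul, ht x, inv_smul_eq_iff, ← hr2 δ x, ht]
    have h3 := he'fix (r x) _ hfix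
    calc E.X₂.ρ δ (E.X₂.ρ (t x) (e' (r x)))
        = E.X₂.ρ (t (δ • x) * ((t (δ • x))⁻¹ * δ * t x)) (e' (r x)) := by
          rw [show t (δ • x) * ((t (δ • x))⁻¹ * δ * t x) = δ * t x by group, map_mul]
          rfl
      _ = E.X₂.ρ (t (δ • x)) (E.X₂.ρ ((t (δ • x))⁻¹ * δ * t x) (e' (r x))) := by
          rw [map_mul]
          rfl
      _ = E.X₂.ρ (t (δ • x)) (e' (r x)) := by rw [h3]
  -- the section
  have hsl : ∀ γ : Γ, (slin e).comp (Representation.ofMulAction ℤ Γ X γ) =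
      (E.X₂.ρ γ).comp (slin (R := ℤ) e) := by
    intro γ
    apply ma_lhom_ext1
    intro x
    rw [LinearMap.comp_apply, LinearMap.comp_apply, Representation.ofMulAction_single,
      slin_single_one, slin_single_one, hequiv]
  let s : Rep.ofMulAction ℤ Γ X ⟶ E.X₂ := Rep.ofHom ⟨slin e, hsl⟩
  have hsg : s ≫ E.g = β.inv := by
    apply Rep.hom_ext
    apply Representation.IntertwiningMap.ext
    apply ma_lhom_ext1
    intro x
    show E.g.hom (slin e (MonoidAlgebra.single x 1)) = β.inv.hom (MonoidAlgebra.single x 1)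
    rw [slin_single_one, heg, hb]
  exact ⟨ShortComplex.Splitting.ofExactOfSection E hE.exact (β.hom ≫ s)
    (by rw [Category.assoc, hsg, β.hom_inv_id]) hE.mono_f⟩

end Data

section Ext

attribute [local instance 2000] Rep.hV2
attribute [local instance 1900] Prod.instModule
attribute [local instance 1900] MonoidAlgebra.instModule

variable {Γ : Type} [Group Γ] (Λ : Rep ℤ Γ) {X : Type} [MulAction Γ X] (d : Γ → X → Λ.V)

/-- the twisted action on `Λ × ℤ[X]` attached to a crossed cocycle `d` -/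
noncomputable def extFun (γ : Γ) :
    (Λ.V × MonoidAlgebra ℤ X) →ₗ[ℤ] (Λ.V × MonoidAlgebra ℤ X) :=
  ((Λ.ρ γ).coprod (slin (d γ))).prod
    ((Representation.ofMulAction ℤ Γ X γ).comp (LinearMap.snd ℤ Λ.V (MonoidAlgebra ℤ X)))

theorem extFun_apply (γ : Γ) (l : Λ.V) (m : MonoidAlgebra ℤ X) :
    extFun Λ d γ (l, m) =
      (Λ.ρ γ l + slin (d γ) m, Representation.ofMulAction ℤ Γ X γ m) := rfl

theorem slin_mul (hd : ∀ γ δ x, d (γ * δ) x = Λ.ρ γ (d δ x) + d γ (δ • x)) (γ δ : Γ)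
    (m : MonoidAlgebra ℤ X) :
    slin (d (γ * δ)) m =
      Λ.ρ γ (slin (d δ) m) + slin (d γ) (Representation.ofMulAction ℤ Γ X δ m) := by
  have h : slin (R := ℤ) (d (γ * δ)) =
      (Λ.ρ γ).comp (slin (d δ)) + (slin (d γ)).comp (Representation.ofMulAction ℤ Γ X δ) := by
    apply ma_lhom_ext1
    intro x
    rw [LinearMap.add_apply, LinearMap.comp_apply, LinearMap.comp_apply,
      Representation.ofMulAction_single, slin_single_one, slin_single_one, slin_single_one, hd]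
  rw [h]
  rfl

theorem slin_one (hd1 : ∀ x, d 1 x = 0) (m : MonoidAlgebra ℤ X) :
    slin (R := ℤ) (d 1) m = 0 := by
  have h : slin (R := ℤ) (d 1) = 0 := by
    apply ma_lhom_ext1
    intro x
    rw [slin_single_one, hd1, LinearMap.zero_apply]
  rw [h]
  rfl

/-- the representation on `Λ × ℤ[X]` -/
noncomputable def extRho (hd : ∀ γ δ x, d (γ * δ) x = Λ.ρ γ (d δ x) + d γ (δ • x))
    (hd1 : ∀ x, d 1 x = 0) : Representation ℤ Γ (Λ.V × MonoidAlgebra ℤ X) where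
  toFun γ := extFun Λ d γ
  map_one' := by
    show extFun Λ d 1 = 1
    apply LinearMap.ext
    rintro ⟨l, m⟩
    rw [extFun_apply, slin_one Λ d hd1, add_zero, map_one, map_one]
    rfl
  map_mul' γ δ := by
    show extFun Λ d (γ * δ) = extFun Λ d γ * extFun Λ d δ
    apply LinearMap.ext
    rintro ⟨l, m⟩
    rw [Module.End.mul_apply, extFun_apply, extFun_apply, extFun_apply, slin_mul Λ d hd,
      map_mul, map_mul, map_add]
    rw [Module.End.mul_apply, Module.End.mul_apply, add_assoc]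

variable (hd : ∀ γ δ x, d (γ * δ) x = Λ.ρ γ (d δ x) + d γ (δ • x)) (hd1 : ∀ x, d 1 x = 0)

/-- the inclusion `Λ → Λ × ℤ[X]` -/
noncomputable def extF : Λ ⟶ Rep.of (extRho Λ d hd hd1) :=
  Rep.ofHom ⟨LinearMap.inl ℤ Λ.V (MonoidAlgebra ℤ X), fun γ => by
    apply LinearMap.ext
    intro l
    show (Λ.ρ γ l, (0 : MonoidAlgebra ℤ X)) = extFun Λ d γ (l, 0)
    rw [extFun_apply, map_zero, map_zero, add_zero]⟩

/-- the projection `Λ × ℤ[X] → ℤ[X]` -/
noncomputable def extG : Rep.of (extRho Λ d hd hd1) ⟶ Rep.ofMulAction ℤ Γ X :=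
  Rep.ofHom ⟨LinearMap.snd ℤ Λ.V (MonoidAlgebra ℤ X), fun γ => by
    apply LinearMap.ext
    rintro ⟨l, m⟩
    rfl⟩

/-- the extension attached to a crossed cocycle -/
noncomputable def extSC : ShortComplex (Rep ℤ Γ) :=
  ShortComplex.mk (extF Λ d hd hd1) (extG Λ d hd hd1) (by
    apply Rep.hom_ext
    apply Representation.IntertwiningMap.ext
    apply LinearMap.ext
    intro l
    rfl)

theorem extSC_shortExact : (extSC Λ d hd hd1).ShortExact := by
  have hex : (extSC Λ d hd hd1).Exact := by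
    rw [← ShortComplex.exact_map_iff_of_faithful _ (forget₂ (Rep ℤ Γ) (ModuleCat ℤ)),
      ShortComplex.moduleCat_exact_iff_range_eq_ker]
    exact LinearMap.range_inl ℤ Λ.V (MonoidAlgebra ℤ X)
  have h1 : Mono (extSC Λ d hd hd1).f :=
    (Rep.mono_iff_injective _).mpr (fun a b h => (Prod.ext_iff.mp h).1)
  have h2 : Epi (extSC Λ d hd hd1).g :=
    (Rep.epi_iff_surjective _).mpr (fun m => ⟨((0 : Λ.V), m), rfl⟩)
  exact ShortComplex.ShortExact.mk' hex h1 h2

theorem exists_twist_of_section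
    (s : Rep.ofMulAction ℤ Γ X ⟶ Rep.of (extRho Λ d hd hd1))
    (hs : s ≫ extG Λ d hd hd1 = 𝟙 _) :
    ∃ φ : X → Λ.V, ∀ (γ : Γ) (x : X), φ (γ • x) = Λ.ρ γ (φ x) + d γ x := by
  have hs2 : ∀ m : MonoidAlgebra ℤ X,
      Prod.snd (show Λ.V × MonoidAlgebra ℤ X from s.hom m) = m := by
    intro m
    have h := Rep.comp_apply s (extG Λ d hd hd1) m
    rw [hs, Rep.id_apply] at h
    exact h.symm
  refine ⟨fun x => Prod.fst (show Λ.V × MonoidAlgebra ℤ X from
    s.hom (MonoidAlgebra.single x (1 : ℤ))), fun γ x => ?_⟩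
  have h1 := Rep.hom_comm_apply s γ (MonoidAlgebra.single x (1 : ℤ))
  have h1' : (Rep.ofMulAction ℤ Γ X).ρ γ (MonoidAlgebra.single x (1 : ℤ)) =
      MonoidAlgebra.single (γ • x) (1 : ℤ) := Representation.ofMulAction_single γ x 1
  rw [h1'] at h1
  have h2 : (show Λ.V × MonoidAlgebra ℤ X from s.hom (MonoidAlgebra.single x (1 : ℤ))) =
      (Prod.fst (show Λ.V × MonoidAlgebra ℤ X from s.hom (MonoidAlgebra.single x (1 : ℤ))),
        MonoidAlgebra.single x (1 : ℤ)) := Prod.ext rfl (hs2 _)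
  have h3 : Prod.fst (show Λ.V × MonoidAlgebra ℤ X from
      s.hom (MonoidAlgebra.single (γ • x) (1 : ℤ))) =
      Prod.fst (extFun Λ d γ (show Λ.V × MonoidAlgebra ℤ X from
        s.hom (MonoidAlgebra.single x (1 : ℤ)))) := congrArg Prod.fst h1
  rw [h2, extFun_apply, slin_single_one] at h3
  exact h3

end Ext

section Conv

attribute [local instance 2000] Rep.hV2

variable {Γ : Type} [Group Γ]

/-- (ii) ⟹ (i) -/
theorem cofl_of_splitting [Finite Γ] (Λ : Rep ℤ Γ)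
    (hsplit : ∀ (X : Type) [MulAction Γ X] [Finite X] (E : ShortComplex (Rep ℤ Γ)),
        E.ShortExact → Nonempty (E.X₁ ≅ Λ) → Nonempty (E.X₃ ≅ Rep.ofMulAction ℤ Γ X) →
          Nonempty E.Splitting) : Cofl Λ := by
  classical
  intro H c hc
  obtain ⟨ct, hct⟩ : ∃ ct : Γ → Λ.V, ∀ (g : Γ) (hg : g ∈ H), ct g = c ⟨g, hg⟩ :=
    ⟨fun g => if hg : g ∈ H then c ⟨g, hg⟩ else 0, fun g hg => dif_pos hg⟩
  have hct_mul : ∀ a b : Γ, a ∈ H → b ∈ H → ct (a * b) = Λ.ρ a (ct b) + ct a := by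
    intro a b ha hb
    rw [hct _ (H.mul_mem ha hb), hct _ ha, hct _ hb]
    exact hc ⟨a, ha⟩ ⟨b, hb⟩
  have hct_one : ct 1 = 0 := by
    have h := hct_mul 1 1 H.one_mem H.one_mem
    rw [mul_one, map_one, Module.End.one_apply] at h
    have h2 : ct 1 + 0 = ct 1 + ct 1 := by rw [add_zero]; exact h
    exact (add_left_cancel h2).symm
  have hρmul : ∀ (g h : Γ) (v : Λ.V), Λ.ρ g (Λ.ρ h v) = Λ.ρ (g * h) v := fun g h v => by
    rw [map_mul]; rfl
  obtain ⟨o, ho⟩ : ∃ o : Γ ⧸ H → Γ, ∀ x, ((o x : Γ) : Γ ⧸ H) = x :=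
    ⟨fun x => x.out, fun x => QuotientGroup.out_eq' x⟩
  have hη : ∀ (γ : Γ) (x : Γ ⧸ H), (o (γ • x))⁻¹ * (γ * o x) ∈ H := by
    intro γ x
    rw [← QuotientGroup.eq, ho]
    have h := MulAction.Quotient.smul_coe (H := H) γ (o x)
    rw [ho, smul_eq_mul] at h
    exact h
  obtain ⟨d, hdef⟩ : ∃ d : Γ → Γ ⧸ H → Λ.V, ∀ γ x,
      d γ x = Λ.ρ (o (γ • x)) (ct ((o (γ • x))⁻¹ * (γ * o x))) := ⟨_, fun _ _ => rfl⟩
  have hd : ∀ (γ δ : Γ) (x : Γ ⧸ H), d (γ * δ) x = Λ.ρ γ (d δ x) + d γ (δ • x) := by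
    intro γ δ x
    have e1 : (o ((γ * δ) • x))⁻¹ * (γ * δ * o x) =
        ((o (γ • δ • x))⁻¹ * (γ * o (δ • x))) * ((o (δ • x))⁻¹ * (δ * o x)) := by
      rw [mul_smul]; group
    have e2 : o (γ • δ • x) * ((o (γ • δ • x))⁻¹ * (γ * o (δ • x))) = γ * o (δ • x) := by
      group
    rw [hdef, hdef, hdef, e1, hct_mul _ _ (hη γ (δ • x)) (hη δ x), map_add, mul_smul,
      hρmul, hρmul, e2]
  have hd1 : ∀ x : Γ ⧸ H, d 1 x = 0 := by
    intro x
    rw [hdef, one_smul, one_mul, inv_mul_cancel, hct_one, map_zero]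
  obtain ⟨σ⟩ := hsplit (Γ ⧸ H) (extSC Λ d hd hd1) (extSC_shortExact Λ d hd hd1)
    ⟨Iso.refl _⟩ ⟨Iso.refl _⟩
  obtain ⟨φ, hφ⟩ := exists_twist_of_section Λ d hd hd1 σ.s σ.s_g
  have hu : o ((1 : Γ) : Γ ⧸ H) ∈ H := by
    have h := ho ((1 : Γ) : Γ ⧸ H)
    rw [QuotientGroup.eq, mul_one, inv_mem_iff] at h
    exact h
  have hfix : ∀ h : Γ, h ∈ H → h • ((1 : Γ) : Γ ⧸ H) = ((1 : Γ) : Γ ⧸ H) := by
    intro h hh
    rw [MulAction.Quotient.smul_coe, smul_eq_mul, mul_one, QuotientGroup.eq, mul_one]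
    exact H.inv_mem hh
  refine ⟨-(Λ.ρ (o ((1 : Γ) : Γ ⧸ H))⁻¹ (φ ((1 : Γ) : Γ ⧸ H))), fun g => ?_⟩
  obtain ⟨h', hh'⟩ := g
  have hh : o ((1 : Γ) : Γ ⧸ H) * h' * (o ((1 : Γ) : Γ ⧸ H))⁻¹ ∈ H :=
    H.mul_mem (H.mul_mem hu hh') (H.inv_mem hu)
  have key := hφ (o ((1 : Γ) : Γ ⧸ H) * h' * (o ((1 : Γ) : Γ ⧸ H))⁻¹) ((1 : Γ) : Γ ⧸ H)
  rw [hfix _ hh, hdef, hfix _ hh] at key
  have e3 : (o ((1 : Γ) : Γ ⧸ H))⁻¹ * (o ((1 : Γ) : Γ ⧸ H) * h' *
      (o ((1 : Γ) : Γ ⧸ H))⁻¹ * o ((1 : Γ) : Γ ⧸ H)) = h' := by group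
  rw [e3] at key
  have key2 := congrArg (Λ.ρ (o ((1 : Γ) : Γ ⧸ H))⁻¹) key
  rw [map_add, hρmul, hρmul] at key2
  have e4 : (o ((1 : Γ) : Γ ⧸ H))⁻¹ * (o ((1 : Γ) : Γ ⧸ H) * h' *
      (o ((1 : Γ) : Γ ⧸ H))⁻¹) = h' * (o ((1 : Γ) : Γ ⧸ H))⁻¹ := by group
  have e5 : (o ((1 : Γ) : Γ ⧸ H))⁻¹ * o ((1 : Γ) : Γ ⧸ H) = 1 := inv_mul_cancel _
  rw [e4, e5, map_one, Module.End.one_apply] at key2
  show c ⟨h', hh'⟩ = Λ.ρ h' (-(Λ.ρ (o ((1 : Γ) : Γ ⧸ H))⁻¹ (φ ((1 : Γ) : Γ ⧸ H)))) -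
    -(Λ.ρ (o ((1 : Γ) : Γ ⧸ H))⁻¹ (φ ((1 : Γ) : Γ ⧸ H)))
  rw [← hct h' hh', map_neg, hρmul, key2]
  abel

/-- the statement of S17849 -/
theorem main [Finite Γ] (Λ : Rep ℤ Γ) :
    (∀ Γ' : Subgroup Γ, Limits.IsZero (groupCohomology (Rep.res Γ'.subtype Λ) 1)) ↔
      ∀ (X : Type) [MulAction Γ X] [Finite X] (E : ShortComplex (Rep ℤ Γ)),
        E.ShortExact → Nonempty (E.X₁ ≅ Λ) → Nonempty (E.X₃ ≅ Rep.ofMulAction ℤ Γ X) →
          Nonempty E.Splitting := by
  rw [← cofl_iff]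
  constructor
  · intro h X _ _ E hE hα hβ
    obtain ⟨α⟩ := hα
    obtain ⟨β⟩ := hβ
    exact splitting_of_cofl Λ h X E hE α β
  · intro h
    exact cofl_of_splitting Λ h

end Conv

end Groth.Agent.Lib.GalLatH1
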