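import Mathlib
import Groth.Prelude

/-!
# Maximal ideals of the integral closure of a normal local domain in a finite separable extension
(helper8)  APPEND-ONLY once landed.
-/

set_option autoImplicit false
universe u
open scoped Pointwise

namespace Groth.Agent.Lib.GalMaxH8

section Lemma2

variable {B : Type u} [CommRing B] [IsDomain B] [IsIntegrallyClosed B] [IsLocalRing B]
  {K : Type u} [Field K] [Algebra B K] [IsFractionRing B K]
  {E : Type u} [Field E] [Algebra K E] [Algebra B E] [IsScalarTower B K E]
  [FiniteDimensional K E] [Algebra.IsSeparable K E]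

omit [FiniteDimensional K E] in
theorem isSeparable_normalClosure (Ω : Type u) [Field Ω] [Algebra K Ω] [Algebra E Ω]
    [IsScalarTower K E Ω] :
    Algebra.IsSeparable K (IntermediateField.normalClosure K E Ω) := by
  rw [normalClosure_def]
  haveI : ∀ i : E →ₐ[K] Ω, Algebra.IsSeparable K i.fieldRange := fun i =>
    AlgEquiv.Algebra.isSeparable (AlgEquiv.ofInjectiveField i)
  exact IntermediateField.isSeparable_iSup K Ω

omit [IsDomain B] [IsIntegrallyClosed B] [IsLocalRing B] [IsFractionRing B K]
  [FiniteDimensional K E] [Algebra.IsSeparable K E] in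
theorem isIntegral_mapIntegralClosure {N : Type u} [Field N] [Algebra K N] [Algebra B N]
    [IsScalarTower B K N] (τ : E →ₐ[K] N) :
    ((τ.restrictScalars B).mapIntegralClosure :
      integralClosure B E →+* integralClosure B N).IsIntegral := by
  apply RingHom.IsIntegral.tower_top (algebraMap B (integralClosure B E))
  have h1 : ((τ.restrictScalars B).mapIntegralClosure :
      integralClosure B E →+* integralClosure B N).comp (algebraMap B (integralClosure B E)) =
      algebraMap B (integralClosure B N) := AlgHom.comp_algebraMap _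
  rw [h1]
  exact algebraMap_isIntegral_iff.mpr inferInstance

/-- Galois case: transitivity + counting. `N/K` finite Galois, `E → N` a `K`-embedding. -/
theorem card_le_of_isGalois {N : Type u} [Field N] [Algebra K N] [Algebra B N]
    [IsScalarTower B K N] [FiniteDimensional K N] [IsGalois K N] (ι : E →ₐ[K] N) :
    Finite (MaximalSpectrum (integralClosure B E)) ∧
      Nat.card (MaximalSpectrum (integralClosure B E)) ≤ Nat.card (E →ₐ[K] N) := by
  let D := integralClosure B N
  haveI : IsFractionRing D N := integralClosure.isFractionRing_of_finite_extension K N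
  letI := IsIntegralClosure.MulSemiringAction B K N D
  haveI := Algebra.isInvariant_of_isGalois B K N D
  haveI : SMulCommClass Gal(N/K) B D := ⟨fun g b d => by
    show galRestrict B K N D g (b • d) = b • galRestrict B K N D g d
    exact map_smul _ _ _⟩
  obtain ⟨Q₀, hQ₀⟩ := Ideal.exists_maximal D
  let τC : (E →ₐ[K] N) → (integralClosure B E →+* D) := fun τ =>
    ((τ.restrictScalars B).mapIntegralClosure : integralClosure B E →+* integralClosure B N)
  have hint : ∀ τ, (τC τ).IsIntegral := fun τ => isIntegral_mapIntegralClosure τ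
  let Φ : (E →ₐ[K] N) → MaximalSpectrum (integralClosure B E) := fun τ =>
    ⟨Q₀.comap (τC τ), Ideal.isMaximal_comap_of_isIntegral_of_isMaximal' _ (hint τ) Q₀⟩
  have hΦ : Function.Surjective Φ := by
    intro q
    haveI := q.isMaximal
    have hinj : Function.Injective (τC ι) := by
      intro a b hab
      apply Subtype.ext
      apply ι.toRingHom.injective
      exact congrArg Subtype.val hab
    obtain ⟨Q, hQmax, hQ⟩ : ∃ Q : Ideal D, Q.IsMaximal ∧ Q.comap (τC ι) = q.asIdeal := by
      letI : Algebra (integralClosure B E) D := (τC ι).toAlgebra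
      haveI : Algebra.IsIntegral (integralClosure B E) D := ⟨hint ι⟩
      exact Ideal.exists_ideal_over_maximal_of_isIntegral q.asIdeal
        (by
          have h0 : RingHom.ker (algebraMap (integralClosure B E) D) = ⊥ :=
            (RingHom.injective_iff_ker_eq_bot _).mp hinj
          rw [h0]; exact bot_le)
    have hunder : Q₀.under B = Q.under B := by
      have h1 : (Q₀.under B).IsMaximal :=
        Ideal.isMaximal_comap_of_isIntegral_of_isMaximal Q₀
      have h2 : (Q.under B).IsMaximal :=
        Ideal.isMaximal_comap_of_isIntegral_of_isMaximal Q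
      rw [IsLocalRing.eq_maximalIdeal h1, IsLocalRing.eq_maximalIdeal h2]
    obtain ⟨g, hg⟩ := Algebra.IsInvariant.exists_smul_of_under_eq B D Gal(N/K) Q₀ Q hunder
    refine ⟨((g⁻¹ : Gal(N/K)) : N →ₐ[K] N).comp ι, ?_⟩
    apply MaximalSpectrum.ext
    ext c
    show τC (((g⁻¹ : Gal(N/K)) : N →ₐ[K] N).comp ι) c ∈ Q₀ ↔ c ∈ q.asIdeal
    rw [← hQ, Ideal.mem_comap, hg, Ideal.mem_pointwise_smul_iff_inv_smul_mem]
    have h3 : τC (((g⁻¹ : Gal(N/K)) : N →ₐ[K] N).comp ι) c = g⁻¹ • τC ι c := by
      apply Subtype.ext
      exact (algebraMap_galRestrict_apply B g⁻¹ (τC ι c)).symm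
    rw [h3]
  exact ⟨Finite.of_surjective Φ hΦ, Nat.card_le_card_of_surjective Φ hΦ⟩

/-- **Lemma 2.** -/
theorem card_maximalSpectrum_le_finSepDegree :
    Finite (MaximalSpectrum (integralClosure B E)) ∧
      Nat.card (MaximalSpectrum (integralClosure B E)) ≤ Field.finSepDegree K E := by
  let Ω := AlgebraicClosure E
  haveI : IsScalarTower B K Ω := inferInstance
  let N : IntermediateField K Ω := IntermediateField.normalClosure K E Ω
  haveI : Algebra.IsSeparable K N := isSeparable_normalClosure Ω
  haveI : IsGalois K N := { }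
  have h1 := card_le_of_isGalois (B := B) (K := K) (E := E) (N := N)
    (IsScalarTower.toAlgHom K E N)
  refine ⟨h1.1, h1.2.trans (le_of_eq ?_)⟩
  exact Nat.card_congr (normalClosure.algHomEquiv K E Ω)

end Lemma2

end Groth.Agent.Lib.GalMaxH8
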