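import Mathlib
import Groth.Prelude
import Groth.Agent.Lib.GalMax1_helper8

/-!
# Number of maximal ideals of an integral closure is bounded by the separable degree (helper8)
APPEND-ONLY once landed.
-/

set_option autoImplicit false
universe u

namespace Groth.Agent.Lib.GalMaxH8

theorem exists_pow_isSeparable {K L : Type*} [Field K] [Field L] [Algebra K L] (x : L)
    (hx : IsAlgebraic K x) : ∃ k : ℕ, k ≠ 0 ∧ IsSeparable K (x ^ k) := by
  haveI : ExpChar K (ringExpChar K) := ringExpChar.expChar K
  obtain ⟨g, hg, e, hge⟩ :=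
    (minpoly.irreducible hx.isIntegral).hasSeparableContraction (ringExpChar K)
  refine ⟨ringExpChar K ^ e, pow_ne_zero e (expChar_pos K (ringExpChar K)).ne', ?_⟩
  have h1 : Polynomial.aeval (x ^ (ringExpChar K ^ e)) g = 0 := by
    rw [← Polynomial.expand_aeval, hge, minpoly.aeval]
  exact hg.of_dvd (minpoly.dvd K _ h1)

section Lemma1

variable {A : Type u} [CommRing A] [IsDomain A] {K : Type u} [Field K]
    [Algebra A K] [IsFractionRing A K] {L : Type u} [Field L] [Algebra K L]

/-- separable degree is monotone for intermediate fields inside an extension of positive finite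
separable degree -/
theorem finSepDegree_le_of_le {E F : IntermediateField K L} (h : E ≤ F)
    [Algebra.IsAlgebraic K F] (hF : 0 < Field.finSepDegree K F) :
    Field.finSepDegree K E ≤ Field.finSepDegree K F := by
  letI : Algebra E F := (IntermediateField.inclusion h).toRingHom.toAlgebra
  haveI : IsScalarTower K E F := IsScalarTower.of_algebraMap_eq (fun _ => rfl)
  haveI : Algebra.IsAlgebraic E F := Algebra.IsAlgebraic.tower_top (K := K) E
  have h1 := Field.finSepDegree_mul_finSepDegree_of_isAlgebraic K E F
  have h2 : 0 < Field.finSepDegree E F := by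
    rcases Nat.eq_zero_or_pos (Field.finSepDegree E F) with h0 | h0
    · rw [h0, mul_zero] at h1; omega
    · exact h0
  calc Field.finSepDegree K E ≤ Field.finSepDegree K E * Field.finSepDegree E F :=
        Nat.le_mul_of_pos_right _ h2
    _ = _ := h1

/-- **Lemma 1.** -/
theorem card_maximalSpectrum_le (φ : A →+* L)
    (hφ : φ = (algebraMap K L).comp (algebraMap A K)) (C : Subring L)
    (hC : ∀ x, x ∈ C ↔ φ.IsIntegralElem x)
    [IsLocalRing (integralClosure A K)] (n : ℕ) (hn0 : 0 < n)
    (hn : Field.finSepDegree K (algebraicClosure K L) = n) :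
    Cardinal.mk (MaximalSpectrum C) ≤ n := by
  by_contra hlt
  rw [not_le] at hlt
  have h1 : Cardinal.lift.{u} (Cardinal.mk (Fin (n + 1))) ≤
      Cardinal.lift.{0} (Cardinal.mk (MaximalSpectrum C)) := by
    rw [Cardinal.mk_fin, Cardinal.lift_natCast, Cardinal.lift_id', Nat.cast_succ]
    exact Cardinal.natCast_add_one_le_iff.mpr hlt
  obtain ⟨m⟩ := Cardinal.lift_mk_le'.mp h1
  letI : Algebra A L := φ.toAlgebra
  haveI : IsScalarTower A K L := IsScalarTower.of_algebraMap_eq (fun a => by
    rw [RingHom.algebraMap_toAlgebra, hφ]; rfl)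
  have hC' : ∀ x, x ∈ C ↔ IsIntegral A x := hC
  -- separating separable elements
  have hd : ∀ p : Fin (n + 1) × Fin (n + 1), p.1 ≠ p.2 → ∃ d : C, d ∈ (m p.1).asIdeal ∧
      d ∉ (m p.2).asIdeal ∧ IsSeparable K (d : L) := by
    intro p hp
    have hne : (m p.1).asIdeal ≠ (m p.2).asIdeal := fun h =>
      hp (m.injective (MaximalSpectrum.ext h))
    have hnle : ¬ (m p.1).asIdeal ≤ (m p.2).asIdeal := fun hle =>
      hne ((m p.1).isMaximal.eq_of_le (m p.2).isMaximal.ne_top hle)
    obtain ⟨c, hc1, hc2⟩ := SetLike.not_le_iff_exists.mp hnle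
    have hcalg : IsAlgebraic K (c : L) :=
      ((hC' c.1).mp c.2).isAlgebraic.extendScalars (R := A) (S := K)
        (FaithfulSMul.algebraMap_injective A K)
    obtain ⟨k, hk0, hk⟩ := exists_pow_isSeparable (c : L) hcalg
    refine ⟨c ^ k, Ideal.pow_mem_of_mem _ hc1 k (Nat.pos_of_ne_zero hk0), fun h => hc2 ?_, hk⟩
    exact (m p.2).isMaximal.isPrime.mem_of_pow_mem k h
  classical
  let d : Fin (n + 1) × Fin (n + 1) → C := fun p =>
    if hp : p.1 ≠ p.2 then (hd p hp).choose else 0
  have hd1 : ∀ i j : Fin (n + 1), i ≠ j → d (i, j) ∈ (m i).asIdeal ∧ d (i, j) ∉ (m j).asIdeal := by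
    intro i j hij
    have h0 : d (i, j) = (hd (i, j) hij).choose := dif_pos hij
    rw [h0]
    exact ⟨(hd (i, j) hij).choose_spec.1, (hd (i, j) hij).choose_spec.2.1⟩
  have hd2 : ∀ p, IsSeparable K (d p : L) := by
    intro p
    by_cases hp : p.1 ≠ p.2
    · have h0 : d p = (hd p hp).choose := dif_pos hp
      rw [h0]
      exact (hd p hp).choose_spec.2.2
    · have h0 : d p = 0 := dif_neg hp
      rw [h0]
      have h00 : ((0 : C) : L) = algebraMap K L 0 := by rw [map_zero]; rfl
      rw [h00]
      exact isSeparable_algebraMap (0 : K)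
  let S : Set L := Set.range (fun p => (d p : L))
  haveI : Finite S := (Set.finite_range _).to_subtype
  let E : IntermediateField K L := IntermediateField.adjoin K S
  have hS : ∀ x ∈ S, IsSeparable K x := by
    rintro x ⟨p, rfl⟩
    exact hd2 p
  haveI : FiniteDimensional K E :=
    IntermediateField.finiteDimensional_adjoin (fun x hx => (hS x hx).isIntegral)
  haveI : Algebra.IsSeparable K E := (IntermediateField.isSeparable_adjoin_iff_isSeparable K L).mpr hS
  have hEle : E ≤ algebraicClosure K L := by
    intro x hx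
    exact mem_algebraicClosure_iff.mpr ((isAlgebraic_algebraMap_iff
      (FaithfulSMul.algebraMap_injective E L)).mpr
      (Algebra.IsAlgebraic.isAlgebraic (⟨x, hx⟩ : E)))
  have hEn : Field.finSepDegree K E ≤ n := by
    rw [← hn]
    exact finSepDegree_le_of_le hEle (by rw [hn]; exact hn0)
  -- the normal local base
  haveI : IsIntegrallyClosed (integralClosure A K) :=
    integralClosure.isIntegrallyClosedOfFiniteExtension K
  haveI : IsFractionRing (integralClosure A K) K :=
    integralClosure.isFractionRing_of_finite_extension K K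
  have hL2 := card_maximalSpectrum_le_finSepDegree (B := integralClosure A K) (K := K) (E := E)
  haveI := hL2.1
  -- integrality transfer
  haveI : IsScalarTower A E L := IsScalarTower.of_algebraMap_eq (fun a => rfl)
  have hAE : ∀ x : E, IsIntegral (integralClosure A K) x ↔ IsIntegral A (x : L) := by
    intro x
    have h1 : IsIntegral A (x : L) ↔ IsIntegral A x :=
      isIntegral_algebraMap_iff (A := E) (B := L) (FaithfulSMul.algebraMap_injective E L)
    rw [h1]
    exact ⟨fun h => isIntegral_trans x h, fun h => h.tower_top⟩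
  let ψ : integralClosure (integralClosure A K) E →+* C :=
    ((algebraMap E L).comp (algebraMap (integralClosure (integralClosure A K) E) E)).codRestrict C
      (fun x => (hC' _).mpr ((hAE x.1).mp x.2))
  have hψint : ψ.IsIntegral := by
    apply RingHom.IsIntegral.tower_top
      (algebraMap A (integralClosure (integralClosure A K) E))
    intro c
    obtain ⟨P, hP, hPc⟩ := (hC c.1).mp c.2
    refine ⟨P, hP, ?_⟩
    apply Subtype.ext
    have h2 := Polynomial.hom_eval₂ P
      (ψ.comp (algebraMap A (integralClosure (integralClosure A K) E))) C.subtype c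
    have h3 : C.subtype.comp
        (ψ.comp (algebraMap A (integralClosure (integralClosure A K) E))) = φ := by
      ext a
      show algebraMap E L (algebraMap (integralClosure (integralClosure A K) E) E
        (algebraMap A _ a)) = algebraMap A L a
      rw [← IsScalarTower.algebraMap_apply A (integralClosure (integralClosure A K) E) E,
        ← IsScalarTower.algebraMap_apply A E L]
    rw [h3] at h2
    exact h2.trans hPc
  let Ψ : Fin (n + 1) → MaximalSpectrum (integralClosure (integralClosure A K) E) := fun i =>
    ⟨(m i).asIdeal.comap ψ,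
      @Ideal.isMaximal_comap_of_isIntegral_of_isMaximal' _ _ _ _ ψ hψint _ (m i).isMaximal⟩
  have hΨ : Function.Injective Ψ := by
    intro i j hij
    by_contra hne
    obtain ⟨h1, h2⟩ := hd1 i j hne
    have hdE : (d (i, j) : L) ∈ E := IntermediateField.subset_adjoin K S ⟨(i, j), rfl⟩
    have hdint : IsIntegral (integralClosure A K) (⟨(d (i, j) : L), hdE⟩ : E) :=
      (hAE _).mpr ((hC' _).mp (d (i, j)).2)
    have h3 : ψ ⟨⟨(d (i, j) : L), hdE⟩, hdint⟩ = d (i, j) := Subtype.ext rfl
    have h4 : (⟨⟨(d (i, j) : L), hdE⟩, hdint⟩ : integralClosure (integralClosure A K) E) ∈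
        (Ψ i).asIdeal := by
      show ψ _ ∈ (m i).asIdeal
      rw [h3]; exact h1
    rw [hij] at h4
    apply h2
    rw [← h3]
    exact h4
  have h5 := Nat.card_le_card_of_injective Ψ hΨ
  rw [Nat.card_eq_fintype_card, Fintype.card_fin] at h5
  have := h5.trans (hL2.2.trans hEn)
  omega

end Lemma1

end Groth.Agent.Lib.GalMaxH8
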