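import Mathlib
import Groth.Prelude

set_option autoImplicit false
set_option linter.style.haveILetI false
set_option linter.unusedVariables false

universe u

open CategoryTheory AlgebraicGeometry TopologicalSpace

namespace Groth.Agent.Lib.GalOrbPtsH4

theorem lift_exists (F S M : Type u) [Field F] [Field S] [Field M] [Algebra F S] [Algebra F M]
    [Algebra.IsAlgebraic F S] [IsAlgClosed M] :
    ∃ σ : S →+* M, σ.comp (algebraMap F S) = algebraMap F M :=
  ⟨(IsAlgClosed.lift : S →ₐ[F] M).toRingHom,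
    RingHom.ext fun c => (IsAlgClosed.lift : S →ₐ[F] M).commutes c⟩

theorem exists_ringHom_comp {F K : Type u} [Field F] [Field K] [IsAlgClosed K]
    (φ ψ : F →+* K) (hφ : φ.IsIntegral) : ∃ σ : K →+* K, σ.comp φ = ψ := by
  have halg : @Algebra.IsAlgebraic F K _ _ φ.toAlgebra := by
    letI := φ.toAlgebra
    haveI : Algebra.IsIntegral F K := ⟨hφ⟩
    infer_instance
  exact @lift_exists F K K _ _ _ φ.toAlgebra ψ.toAlgebra halg _

theorem algebraMap_integral (k K : Type u) [Field k] [Field K] [Algebra k K]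
    [Algebra.IsAlgebraic k K] : (algebraMap k K).IsIntegral :=
  algebraMap_isIntegral_iff.mpr inferInstance

theorem ker_isMaximal {k K A : Type u} [Field k] [Field K] [Algebra k K] [Algebra.IsAlgebraic k K]
    [CommRing A] (c : k →+* A) (α : A →+* K) (hα : α.comp c = algebraMap k K) :
    (RingHom.ker α).IsMaximal := by
  have h1 : (α.comp c).IsIntegral := by
    rw [hα]
    exact algebraMap_integral k K
  have h2 : α.IsIntegral := RingHom.IsIntegral.tower_top c α h1
  haveI : (⊥ : Ideal K).IsMaximal := Ideal.bot_isMaximal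
  have h3 := Ideal.isMaximal_comap_of_isIntegral_of_isMaximal' α h2 ⊥
  rwa [← RingHom.ker_eq_comap_bot] at h3

theorem exists_hom_of_isMaximal {k K A : Type u} [Field k] [Field K] [Algebra k K] [IsAlgClosed K]
    [CommRing A] (c : k →+* A) (hc : c.FiniteType) (𝔭 : Ideal A) [h𝔭 : 𝔭.IsMaximal] :
    ∃ α : A →+* K, α.comp c = algebraMap k K ∧ RingHom.ker α = 𝔭 := by
  letI : Algebra k A := c.toAlgebra
  haveI : Algebra.FiniteType k A := hc
  letI : Field (A ⧸ 𝔭) := Ideal.Quotient.field 𝔭
  haveI : Algebra.FiniteType k (A ⧸ 𝔭) := inferInstance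
  haveI : Module.Finite k (A ⧸ 𝔭) := finite_of_finite_type_of_isJacobsonRing k (A ⧸ 𝔭)
  haveI : Algebra.IsAlgebraic k (A ⧸ 𝔭) := inferInstance
  let g : (A ⧸ 𝔭) →ₐ[k] K := IsAlgClosed.lift
  refine ⟨g.toRingHom.comp (Ideal.Quotient.mk 𝔭), ?_, ?_⟩
  · refine RingHom.ext fun x => ?_
    have e : (Ideal.Quotient.mk 𝔭) (c x) = algebraMap k (A ⧸ 𝔭) x := rfl
    show g ((Ideal.Quotient.mk 𝔭) (c x)) = algebraMap k K x
    rw [e]
    exact g.commutes x
  · ext a
    rw [RingHom.mem_ker]
    show g (Ideal.Quotient.mk 𝔭 a) = 0 ↔ a ∈ 𝔭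
    rw [map_eq_zero g, Ideal.Quotient.eq_zero_iff_mem]

theorem exists_aut {k K A : Type u} [Field k] [Field K] [Algebra k K] [IsAlgClosure k K]
    [CommRing A] (c : k →+* A) (α β : A →+* K) (hα : α.comp c = algebraMap k K)
    (hβ : β.comp c = algebraMap k K) (hker : RingHom.ker α = RingHom.ker β) :
    ∃ σ : K ≃ₐ[k] K, σ.toRingHom.comp α = β := by
  haveI : IsAlgClosed K := IsAlgClosure.isAlgClosed k
  haveI : Algebra.IsAlgebraic k K := IsAlgClosure.isAlgebraic
  haveI hmax : (RingHom.ker α).IsMaximal := ker_isMaximal c α hα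
  letI : Field (A ⧸ RingHom.ker α) := Ideal.Quotient.field _
  let φ : (A ⧸ RingHom.ker α) →+* K :=
    Ideal.Quotient.lift (RingHom.ker α) α (fun a ha => ha)
  let ψ : (A ⧸ RingHom.ker α) →+* K :=
    Ideal.Quotient.lift (RingHom.ker α) β (fun a ha => by rw [hker] at ha; exact ha)
  have hφ : φ.IsIntegral := by
    refine RingHom.IsIntegral.tower_top ((Ideal.Quotient.mk (RingHom.ker α)).comp c) φ ?_
    have e : φ.comp ((Ideal.Quotient.mk (RingHom.ker α)).comp c) = algebraMap k K := by
      rw [← hα]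
      exact RingHom.ext fun x => rfl
    rw [e]
    exact algebraMap_integral k K
  obtain ⟨σ, hσ⟩ := exists_ringHom_comp φ ψ hφ
  have hσα : ∀ a, σ (α a) = β a := fun a =>
    RingHom.congr_fun hσ (Ideal.Quotient.mk (RingHom.ker α) a)
  have e1 : ∀ x, algebraMap k K x = α (c x) := fun x => (RingHom.congr_fun hα x).symm
  have e2 : ∀ x, algebraMap k K x = β (c x) := fun x => (RingHom.congr_fun hβ x).symm
  let σA : K →ₐ[k] K := AlgHom.mk σ
    (fun x => (congrArg σ (e1 x)).trans ((hσα (c x)).trans (e2 x).symm))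
  have hbij : Function.Bijective σA := Algebra.IsAlgebraic.algHom_bijective σA
  refine ⟨AlgEquiv.ofBijective σA hbij, RingHom.ext fun a => ?_⟩
  exact hσα a

theorem closedPoint_eq {K : Type u} [Field K] (z : Spec (CommRingCat.of K)) :
    z = IsLocalRing.closedPoint K := Subsingleton.elim _ _

theorem lift_chart {X : Scheme.{u}} {A : CommRingCat.{u}} (j : Spec A ⟶ X) [IsOpenImmersion j]
    (K : Type u) [Field K] (p : Spec (CommRingCat.of K) ⟶ X) (y : Spec A)
    (hy : p.base (IsLocalRing.closedPoint K) = j.base y) :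
    ∃ α : A ⟶ CommRingCat.of K, Spec.map α ≫ j = p ∧
      (Spec.map α).base (IsLocalRing.closedPoint K) = y := by
  have hr : Set.range ⇑p ⊆ Set.range ⇑j := by
    rintro _ ⟨z, rfl⟩
    rw [closedPoint_eq z]
    exact ⟨y, hy.symm⟩
  refine ⟨Spec.preimage (IsOpenImmersion.lift j p hr), ?_, ?_⟩
  · rw [Spec.map_preimage, IsOpenImmersion.lift_fac]
  · apply j.isOpenEmbedding.injective
    rw [Spec.map_preimage]
    have e : (IsOpenImmersion.lift j p hr ≫ j).base (IsLocalRing.closedPoint K) =
        p.base (IsLocalRing.closedPoint K) := by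
      rw [IsOpenImmersion.lift_fac]
    exact e.trans hy

theorem chart (X : Scheme.{u}) (x : X) :
    ∃ (A : CommRingCat.{u}) (j : Spec A ⟶ X) (_ : IsOpenImmersion j) (y : Spec A),
      j.base y = x := by
  obtain ⟨y, hy⟩ := X.affineOpenCover.covers x
  exact ⟨X.affineOpenCover.X _, X.affineOpenCover.f _, X.affineOpenCover.map_prop _, y, hy⟩

theorem chart_hom {k : Type u} [Field k] {X : Scheme.{u}} (f : X ⟶ Spec (CommRingCat.of k))
    [LocallyOfFiniteType f] {A : CommRingCat.{u}} (j : Spec A ⟶ X) [IsOpenImmersion j] :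
    ∃ c : CommRingCat.of k ⟶ A, Spec.map c = j ≫ f ∧ c.hom.FiniteType := by
  refine ⟨Spec.preimage (j ≫ f), Spec.map_preimage _, ?_⟩
  have h : LocallyOfFiniteType (Spec.map (Spec.preimage (j ≫ f))) := by
    rw [Spec.map_preimage]; infer_instance
  exact (HasRingHomProperty.Spec_iff (P := @LocallyOfFiniteType)).mp h

theorem point_of_hom {k K : Type u} [Field k] [Field K] [Algebra k K] {X : Scheme.{u}}
    (f : X ⟶ Spec (CommRingCat.of k)) {A : CommRingCat.{u}} (j : Spec A ⟶ X)
    (c : CommRingCat.of k ⟶ A) (hc : Spec.map c = j ≫ f)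
    (α : A ⟶ CommRingCat.of K) (hα : α.hom.comp c.hom = algebraMap k K) :
    (Spec.map α ≫ j) ≫ f = Spec.map (CommRingCat.ofHom (algebraMap k K)) := by
  have e : c ≫ α = CommRingCat.ofHom (algebraMap k K) := CommRingCat.hom_ext hα
  rw [Category.assoc, ← hc, ← Spec.map_comp, e]

theorem hom_of_point {k K : Type u} [Field k] [Field K] [Algebra k K] {X : Scheme.{u}}
    (f : X ⟶ Spec (CommRingCat.of k)) {A : CommRingCat.{u}} (j : Spec A ⟶ X)
    (c : CommRingCat.of k ⟶ A) (hc : Spec.map c = j ≫ f)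
    (α : A ⟶ CommRingCat.of K)
    (h : (Spec.map α ≫ j) ≫ f = Spec.map (CommRingCat.ofHom (algebraMap k K))) :
    α.hom.comp c.hom = algebraMap k K := by
  rw [Category.assoc, ← hc, ← Spec.map_comp] at h
  have e : c ≫ α = CommRingCat.ofHom (algebraMap k K) := Spec.map_injective h
  exact congrArg CommRingCat.Hom.hom e

theorem ker_eq {A : CommRingCat.{u}} {K : Type u} [Field K] (α : A ⟶ CommRingCat.of K) :
    ((Spec.map α).base (IsLocalRing.closedPoint K)).asIdeal = RingHom.ker α.hom := by
  show Ideal.comap α.hom (IsLocalRing.maximalIdeal K) = _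
  rw [RingHom.ker_eq_comap_bot, IsLocalRing.maximalIdeal_eq_bot]

theorem closed_iff_chart {X : Scheme.{u}} [JacobsonSpace X] {A : CommRingCat.{u}}
    (j : Spec A ⟶ X) [IsOpenImmersion j] (y : Spec A) :
    IsClosed ({j.base y} : Set X) ↔ y.asIdeal.IsMaximal := by
  rw [← PrimeSpectrum.isClosed_singleton_iff_isMaximal]
  have h := j.isOpenEmbedding.preimage_closedPoints
  constructor
  · intro hx
    have : y ∈ ⇑j ⁻¹' closedPoints X := hx
    rw [h] at this
    exact this
  · intro hy
    have : y ∈ closedPoints (Spec A) := hy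
    rw [← h] at this
    exact this

theorem main (k K : Type u) [Field k] [Field K]
    [Algebra k K] [IsAlgClosure k K] {X : Scheme.{u}} (f : X ⟶ Spec (CommRingCat.of k))
    [LocallyOfFiniteType f] :
    (∀ x : X, IsClosed ({x} : Set X) ↔
        ∃ p : Spec (CommRingCat.of K) ⟶ X,
          p ≫ f = Spec.map (CommRingCat.ofHom (algebraMap k K)) ∧
          p.base (IsLocalRing.closedPoint K) = x) ∧
      ∀ p q : Spec (CommRingCat.of K) ⟶ X,
        p ≫ f = Spec.map (CommRingCat.ofHom (algebraMap k K)) →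
        q ≫ f = Spec.map (CommRingCat.ofHom (algebraMap k K)) →
          (p.base (IsLocalRing.closedPoint K) = q.base (IsLocalRing.closedPoint K) ↔
            ∃ σ : K ≃ₐ[k] K, q = Spec.map (CommRingCat.ofHom σ.toRingHom) ≫ p) := by
  haveI : IsJacobsonRing (CommRingCat.of k) := inferInstanceAs (IsJacobsonRing k)
  haveI : JacobsonSpace X := LocallyOfFiniteType.jacobsonSpace f
  haveI : IsAlgClosed K := IsAlgClosure.isAlgClosed k
  haveI : Algebra.IsAlgebraic k K := IsAlgClosure.isAlgebraic
  refine ⟨fun x => ?_, fun p q hp hq => ?_⟩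
  · obtain ⟨A, j, hj, y, hy⟩ := chart X x
    haveI := hj
    obtain ⟨c, hc, hft⟩ := chart_hom f j
    rw [← hy, closed_iff_chart j y]
    constructor
    · intro hmax
      haveI := hmax
      obtain ⟨α, hα, hker⟩ := exists_hom_of_isMaximal (K := K) c.hom hft y.asIdeal
      refine ⟨Spec.map (CommRingCat.ofHom α) ≫ j,
        point_of_hom f j c hc (CommRingCat.ofHom α) hα, ?_⟩
      have e : (Spec.map (CommRingCat.ofHom α)).base (IsLocalRing.closedPoint K) = y := by
        apply PrimeSpectrum.ext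
        rw [ker_eq]
        exact hker
      show j.base ((Spec.map (CommRingCat.ofHom α)).base (IsLocalRing.closedPoint K)) = j.base y
      rw [e]
    · rintro ⟨p, hp, hpx⟩
      obtain ⟨α, hαp, hαy⟩ := lift_chart j K p y hpx
      have hα : α.hom.comp c.hom = algebraMap k K := by
        apply hom_of_point f j c hc α
        rw [hαp]
        exact hp
      have hmax := ker_isMaximal c.hom α.hom hα
      rw [← ker_eq, hαy] at hmax
      exact hmax
  · constructor
    · intro hpq
      obtain ⟨A, j, hj, y, hy⟩ := chart X (p.base (IsLocalRing.closedPoint K))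
      haveI := hj
      obtain ⟨c, hc, hft⟩ := chart_hom f j
      obtain ⟨α, hαp, hαy⟩ := lift_chart j K p y hy.symm
      obtain ⟨β, hβq, hβy⟩ := lift_chart j K q y (hpq.symm.trans hy.symm)
      have hα : α.hom.comp c.hom = algebraMap k K := by
        apply hom_of_point f j c hc α
        rw [hαp]
        exact hp
      have hβ : β.hom.comp c.hom = algebraMap k K := by
        apply hom_of_point f j c hc β
        rw [hβq]
        exact hq
      have hker : RingHom.ker α.hom = RingHom.ker β.hom := by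
        rw [← ker_eq, ← ker_eq, hαy, hβy]
      obtain ⟨σ, hσ⟩ := exists_aut c.hom α.hom β.hom hα hβ hker
      refine ⟨σ, ?_⟩
      have e : β = α ≫ CommRingCat.ofHom σ.toRingHom := CommRingCat.hom_ext hσ.symm
      rw [← hβq, ← hαp, e, Spec.map_comp, Category.assoc]
    · rintro ⟨σ, rfl⟩
      exact congrArg (fun z => p.base z)
        (closedPoint_eq ((Spec.map (CommRingCat.ofHom σ.toRingHom)).base
          (IsLocalRing.closedPoint K))).symm

end Groth.Agent.Lib.GalOrbPtsH4
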