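import Mathlib
import Groth.Agent.Lib.GalAct_helper4

set_option autoImplicit false
set_option linter.style.haveILetI false
set_option linter.unusedSectionVars false

universe u

open CategoryTheory CategoryTheory.Limits AlgebraicGeometry

namespace Groth.Agent.Lib.GalOrbitH4

open Groth.Agent.Lib.GalActH4

local notation:max "sm[" k ", " K "]" => Spec.map (CommRingCat.ofHom (algebraMap k K))

theorem tau_eq {k : Type u} [Field k] {X : Scheme.{u}} (f : X ⟶ Spec (CommRingCat.of k))
    (K : Type u) [Field K] [Algebra k K] (σ : K ≃ₐ[k] K)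
    (t : pullback f sm[k, K] ⟶ pullback f sm[k, K])
    (h1 : t ≫ pullback.fst f sm[k, K] = pullback.fst f sm[k, K])
    (h2 : t ≫ pullback.snd f sm[k, K] =
      pullback.snd f sm[k, K] ≫ Spec.map (CommRingCat.ofHom (σ : K →+* K))) :
    t = gAct f K σ := by
  refine pullback.hom_ext (h1.trans (gAct_fst f K σ).symm) (h2.trans ?_)
  rw [gAct_snd]
  rfl

theorem main13071 {k : Type u} [Field k] [PerfectField k]
    {X : Scheme.{u}} (f : X ⟶ Spec (CommRingCat.of k))
    (τ : (AlgebraicClosure k ≃ₐ[k] AlgebraicClosure k) →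
      (pullback f sm[k, AlgebraicClosure k] ⟶ pullback f sm[k, AlgebraicClosure k]))
    (hτ1 : ∀ σ, τ σ ≫ pullback.fst f _ = pullback.fst f _)
    (hτ2 : ∀ σ, τ σ ≫ pullback.snd f sm[k, AlgebraicClosure k] =
        pullback.snd f _ ≫
          Spec.map (CommRingCat.ofHom (σ : AlgebraicClosure k →+* AlgebraicClosure k)))
    (x y : ↑(pullback f sm[k, AlgebraicClosure k])) :
    (pullback.fst f sm[k, AlgebraicClosure k]).base x =
        (pullback.fst f sm[k, AlgebraicClosure k]).base y ↔
      ∃ σ, (τ σ).base x = y := by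
  haveI : IsGalois k (AlgebraicClosure k) := ⟨⟩
  have hτ : ∀ σ, τ σ = gAct f (AlgebraicClosure k) σ := fun σ =>
    tau_eq f (AlgebraicClosure k) σ (τ σ) (hτ1 σ) (hτ2 σ)
  constructor
  · intro h
    obtain ⟨σ, hσ⟩ := exists_gAct_eq f (AlgebraicClosure k) x y h
    refine ⟨σ, ?_⟩
    rw [hτ σ]
    exact hσ
  · rintro ⟨σ, rfl⟩
    have := congrArg (fun ψ : pullback f sm[k, AlgebraicClosure k] ⟶ X => ψ.base x) (hτ1 σ)
    exact this.symm

end Groth.Agent.Lib.GalOrbitH4
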