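import Mathlib
import Groth.Agent.Lib.GalAct_helper4

set_option autoImplicit false
set_option linter.style.haveILetI false
set_option linter.unusedSectionVars false

universe u

open scoped TensorProduct

namespace Groth.Agent.Lib.GalPrimesH4

open Groth.Agent.Lib.GalActH4

theorem tmap_eq {k : Type u} [Field k] (A : Type u) [CommRing A] [Algebra k A]
    (K : Type u) [Field K] [Algebra k K] (σ : K ≃ₐ[k] K) (x : A ⊗[k] K) :
    tmap A K σ x = Algebra.TensorProduct.map (AlgHom.id k A) (σ : K →ₐ[k] K) x := by
  induction x using TensorProduct.induction_on with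
  | zero => rw [map_zero, map_zero]
  | tmul a y =>
    rw [tmap_tmul, Algebra.TensorProduct.map_tmul]
    rfl
  | add x y hx hy => rw [map_add, map_add, hx, hy]

theorem finite_spec (K B L : Type u) [Field K] [CommRing B] [IsDomain B] [Algebra K B]
    [Algebra.FiniteType K B] [Field L] [Algebra K L] [Algebra.IsIntegral K L] :
    Finite (PrimeSpectrum ((FractionRing B) ⊗[K] L)) := by
  haveI : Algebra.EssFiniteType B (FractionRing B) :=
    Algebra.EssFiniteType.of_isLocalization _ (nonZeroDivisors B)
  haveI : Algebra.EssFiniteType K (FractionRing B) :=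
    Algebra.EssFiniteType.comp K B (FractionRing B)
  haveI : Algebra.EssFiniteType L (L ⊗[K] FractionRing B) := inferInstance
  haveI : IsNoetherianRing (L ⊗[K] FractionRing B) :=
    Algebra.EssFiniteType.isNoetherianRing L _
  haveI : IsNoetherianRing (FractionRing B ⊗[K] L) :=
    isNoetherianRing_of_ringEquiv _ (Algebra.TensorProduct.comm K L (FractionRing B)).toRingEquiv
  haveI : Algebra.IsIntegral (FractionRing B) (FractionRing B ⊗[K] L) := inferInstance
  haveI : Ring.KrullDimLE 0 (FractionRing B ⊗[K] L) := Ring.KrullDimLE.mk₀ (fun I hI => by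
    haveI := hI
    refine Ideal.isMaximal_of_isIntegral_of_isMaximal_comap (R := FractionRing B) I ?_
    rw [Ideal.eq_bot_of_prime (I.comap (algebraMap (FractionRing B) (FractionRing B ⊗[K] L)))]
    exact Ideal.bot_isMaximal)
  haveI : IsArtinianRing (FractionRing B ⊗[K] L) :=
    IsNoetherianRing.isArtinianRing_of_krullDimLE_zero
  infer_instance

theorem main19477 (K B L : Type u) [Field K]
    [CommRing B] [IsDomain B] [Algebra K B] [Algebra.FiniteType K B] [Field L] [Algebra K L]
    [IsGalois K L] :
    Finite (PrimeSpectrum (TensorProduct K (FractionRing B) L)) ∧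
      ∀ P Q : PrimeSpectrum (TensorProduct K (FractionRing B) L), ∃ γ : L ≃ₐ[K] L,
        Q.asIdeal = P.asIdeal.comap
          (Algebra.TensorProduct.map (AlgHom.id K (FractionRing B)) (γ : L →ₐ[K] L)) := by
  refine ⟨finite_spec K B L, ?_⟩
  intro P Q
  obtain ⟨σ, hσ⟩ := exists_comap_eq (k := K) (FractionRing B) L P Q (Subsingleton.elim _ _)
  refine ⟨σ, ?_⟩
  rw [← hσ]
  ext x
  rw [PrimeSpectrum.comap_asIdeal, Ideal.mem_comap, Ideal.mem_comap]
  change tmap (FractionRing B) L σ x ∈ _ ↔ _
  rw [tmap_eq]

end Groth.Agent.Lib.GalPrimesH4
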