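import Mathlib

set_option autoImplicit false
open TensorProduct

namespace GalRingH8

variable {A B : Type*} [CommRing A] [CommRing B] [Algebra A B] {G : Type*} [Group G]

noncomputable def phi (act : G → B →ₐ[A] B) (g : G) : B ⊗[A] B →ₐ[A] B :=
  Algebra.TensorProduct.productMap (AlgHom.id A B) (act g)

@[simp] lemma phi_tmul (act : G → B →ₐ[A] B) (g : G) (x y : B) :
    phi act g (x ⊗ₜ[A] y) = x * act g y := by
  simp [phi]

theorem exists_eps_one (act : G → B →ₐ[A] B) (g : G) (act_one : ∀ b, act 1 b = b)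
    (hc : ∀ n : Ideal B, n.IsMaximal → ∃ b, act g b - b ∉ n) :
    ∃ e : B ⊗[A] B, phi act 1 e = 1 ∧ phi act g e = 0 := by
  have hsurj : Function.Surjective (phi act 1).toRingHom := fun b =>
    ⟨b ⊗ₜ 1, by
      show (phi act 1) (b ⊗ₜ[A] 1) = b
      rw [phi_tmul, map_one, mul_one]⟩
  by_contra hcon
  push Not at hcon
  have hJ : Ideal.map (phi act 1).toRingHom (RingHom.ker (phi act g).toRingHom) ≠ ⊤ := by
    intro htop
    have h1 : (1 : B) ∈ Ideal.map (phi act 1).toRingHom (RingHom.ker (phi act g).toRingHom) := by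
      rw [htop]; trivial
    obtain ⟨e, he, he1⟩ := (Ideal.mem_map_iff_of_surjective _ hsurj).mp h1
    exact hcon e he1 he
  obtain ⟨n, hn, hJn⟩ := Ideal.exists_le_maximal _ hJ
  obtain ⟨b, hb⟩ := hc n hn
  apply hb
  apply hJn
  have h2 : act g b - b = (phi act 1).toRingHom (act g b ⊗ₜ 1 - 1 ⊗ₜ b) := by
    show act g b - b = (phi act 1) (act g b ⊗ₜ[A] 1 - 1 ⊗ₜ[A] b)
    rw [map_sub, phi_tmul, phi_tmul, map_one, mul_one, one_mul, act_one]
  rw [h2]
  apply Ideal.mem_map_of_mem
  show (phi act g) (act g b ⊗ₜ[A] 1 - 1 ⊗ₜ[A] b) = 0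
  rw [map_sub, phi_tmul, phi_tmul, map_one, mul_one, one_mul, sub_self]

variable [Fintype G]

theorem exists_eps (act : G → B →ₐ[A] B) (act_one : ∀ b, act 1 b = b)
    (hc : ∀ g : G, g ≠ 1 → ∀ n : Ideal B, n.IsMaximal → ∃ b, act g b - b ∉ n) :
    ∃ e : B ⊗[A] B, phi act 1 e = 1 ∧ ∀ g : G, g ≠ 1 → phi act g e = 0 := by
  classical
  choose! f hf using fun g (hg : g ≠ 1) => exists_eps_one act g act_one (hc g hg)
  refine ⟨∏ g ∈ Finset.univ.erase 1, f g, ?_, ?_⟩
  · rw [map_prod]
    apply Finset.prod_eq_one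
    intro g hg
    exact (hf g (Finset.ne_of_mem_erase hg)).1
  · intro g hg
    rw [map_prod]
    exact Finset.prod_eq_zero (Finset.mem_erase.mpr ⟨hg, Finset.mem_univ _⟩) (hf g hg).2


theorem flat_and_unramified (act : G → B →ₐ[A] B) (act_one : ∀ b, act 1 b = b)
    (act_mul : ∀ g h b, act (g * h) b = act h (act g b))
    (hinj : Function.Injective (algebraMap A B))
    (hinv : ∀ b, (∀ g, act g b = b) → b ∈ Set.range (algebraMap A B))
    (hc : ∀ g : G, g ≠ 1 → ∀ n : Ideal B, n.IsMaximal → ∃ b, act g b - b ∉ n) :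
    Module.Flat A B ∧ ∃ t : B ⊗[A] B,
      (∀ s, ((1 : B) ⊗ₜ[A] s - s ⊗ₜ[A] (1 : B)) * t = 0) ∧ Algebra.TensorProduct.lmul' A t = 1 := by
  classical
  obtain ⟨ε, hε1, hεg⟩ := exists_eps act act_one hc
  obtain ⟨k, x, y, hxy⟩ := TensorProduct.exists_sum_tmul_eq ε
  have hδ : ∀ g, ∑ i, x i * act g (y i) = if g = 1 then 1 else 0 := by
    intro g
    have h1 : phi act g ε = ∑ i, x i * act g (y i) := by
      rw [hxy, map_sum]
      exact Finset.sum_congr rfl fun i _ => phi_tmul act g _ _
    rw [← h1]
    split_ifs with h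
    · rw [h]; exact hε1
    · exact hεg g h
  have hinvact : ∀ g b, act g (act g⁻¹ b) = b := by
    intro g b
    rw [← act_mul, inv_mul_cancel, act_one]
  have hδ' : ∀ g, ∑ i, act g (x i) * y i = if g = 1 then 1 else 0 := by
    intro g
    have h1 : ∑ i, act g (x i) * y i = act g (∑ i, x i * act g⁻¹ (y i)) := by
      rw [map_sum]
      exact Finset.sum_congr rfl fun i _ => by rw [map_mul, hinvact]
    rw [h1, hδ g⁻¹]
    by_cases h : g = 1
    · subst h; simp
    · have : g⁻¹ ≠ 1 := by simpa using h
      simp [h, this]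
  -- trace
  have htr_inv : ∀ b h, act h (∑ g, act g b) = ∑ g, act g b := by
    intro b h
    rw [map_sum]
    simp_rw [← act_mul]
    exact Fintype.sum_equiv (Equiv.mulRight h) _ _ (fun g => rfl)
  have hS3 : ∀ v, ∑ i, (∑ g, act g (v * x i)) * y i = v := by
    intro v
    calc ∑ i, (∑ g, act g (v * x i)) * y i
        = ∑ i, ∑ g, act g v * (act g (x i) * y i) := by
          refine Finset.sum_congr rfl fun i _ => ?_
          rw [Finset.sum_mul]
          refine Finset.sum_congr rfl fun g _ => ?_
          rw [map_mul, mul_assoc]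
      _ = ∑ g, act g v * ∑ i, act g (x i) * y i := by
          rw [Finset.sum_comm]
          refine Finset.sum_congr rfl fun g _ => ?_
          rw [Finset.mul_sum]
      _ = v := by
          simp_rw [hδ']
          simp [act_one]
  -- A-valued trace
  have htrA : ∀ b, ∃ a, algebraMap A B a = ∑ g, act g b := fun b =>
    hinv _ (htr_inv b)
  choose trA htrA' using htrA
  have trA_add : ∀ b c, trA (b + c) = trA b + trA c := by
    intro b c
    apply hinj
    rw [map_add, htrA', htrA', htrA']
    simp_rw [map_add]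
    rw [Finset.sum_add_distrib]
  have trA_smul : ∀ (a : A) b, trA (a • b) = a • trA b := by
    intro a b
    apply hinj
    rw [htrA', smul_eq_mul, map_mul, htrA', Finset.mul_sum]
    refine Finset.sum_congr rfl fun g _ => ?_
    rw [map_smul, Algebra.smul_def]
  let trL : B →ₗ[A] A :=
    { toFun := trA
      map_add' := trA_add
      map_smul' := fun a b => by rw [trA_smul]; rfl }
  refine ⟨?_, ε, ?_, ?_⟩
  · -- flatness via retract
    let i : B →ₗ[A] (Fin k → A) := LinearMap.pi fun j => trL.comp (LinearMap.mulRight A (x j))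
    let r : (Fin k → A) →ₗ[A] B := Fintype.linearCombination A y
    refine Module.Flat.of_retract i r ?_
    ext v
    show Fintype.linearCombination A y (i v) = v
    rw [Fintype.linearCombination_apply]
    have : ∀ j, i v j • y j = (∑ g, act g (v * x j)) * y j := by
      intro j
      show trA (v * x j) • y j = _
      rw [Algebra.smul_def, htrA']
    simp_rw [this]
    exact hS3 v
  · -- annihilation
    have recon : ∀ z : B ⊗[A] B, ∑ i, (∑ g, act g (x i) * phi act g z) ⊗ₜ[A] y i = z := by
      intro z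
      induction z using TensorProduct.induction_on with
      | zero => simp
      | tmul u v =>
        have h1 : ∀ i, (∑ g, act g (x i) * phi act g (u ⊗ₜ[A] v)) ⊗ₜ[A] y i =
            u ⊗ₜ[A] ((∑ g, act g (v * x i)) * y i) := by
          intro i
          have h2 : ∑ g, act g (x i) * phi act g (u ⊗ₜ[A] v) = trA (v * x i) • u := by
            rw [Algebra.smul_def, htrA', Finset.sum_mul]
            refine Finset.sum_congr rfl fun g _ => ?_
            rw [phi_tmul, map_mul]; ring
          rw [h2, TensorProduct.smul_tmul, Algebra.smul_def, htrA']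
        simp_rw [h1]
        rw [← TensorProduct.tmul_sum, hS3]
      | add z w hz hw =>
        simp_rw [map_add, mul_add, Finset.sum_add_distrib, TensorProduct.add_tmul,
          Finset.sum_add_distrib]
        rw [hz, hw]
    intro s
    rw [← recon ((1 ⊗ₜ[A] s - s ⊗ₜ[A] 1) * ε)]
    apply Finset.sum_eq_zero
    intro i _
    have : ∑ g, act g (x i) * phi act g ((1 ⊗ₜ[A] s - s ⊗ₜ[A] 1) * ε) = 0 := by
      apply Finset.sum_eq_zero
      intro g _
      rw [map_mul, map_sub, phi_tmul, phi_tmul, map_one, one_mul, mul_one]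
      by_cases h : g = 1
      · subst h; rw [act_one s, sub_self, zero_mul, mul_zero]
      · rw [hεg g h, mul_zero, mul_zero]
    rw [this, TensorProduct.zero_tmul]
  · rw [hxy, map_sum]
    have := hδ 1
    simp only [act_one, if_true] at this
    rw [← this]
    exact Finset.sum_congr rfl fun i _ => by simp

end GalRingH8
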