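import Mathlib
set_option autoImplicit false
open scoped Pointwise
universe u
namespace QuotResH8

/-- A ring hom `ψ : B → L` to a field with kernel `Q` such that every element of `L` is a
fraction of values exhibits `L` as the fraction field of `B ⧸ Q`. -/
theorem isFractionRing_of_ker {B L : Type u} [CommRing B] [Field L] (Q : Ideal B) [Q.IsPrime]
    (ψ : B →+* L) (hker : ∀ b, ψ b = 0 ↔ b ∈ Q)
    (hsurj : ∀ l : L, ∃ b s : B, ψ s ≠ 0 ∧ l = ψ b / ψ s) :
    @IsFractionRing (B ⧸ Q) _ L _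
      (Ideal.Quotient.lift Q ψ (fun b hb => (hker b).mpr hb)).toAlgebra := by
  letI : Algebra (B ⧸ Q) L := (Ideal.Quotient.lift Q ψ (fun b hb => (hker b).mpr hb)).toAlgebra
  have hinj : Function.Injective (algebraMap (B ⧸ Q) L) := by
    rw [injective_iff_map_eq_zero]
    intro x hx
    obtain ⟨b, rfl⟩ := Ideal.Quotient.mk_surjective x
    have : ψ b = 0 := hx
    rw [Ideal.Quotient.eq_zero_iff_mem]
    exact (hker b).mp this
  refine ⟨?_, ?_, ?_⟩
  · rintro ⟨x, hx⟩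
    rw [isUnit_iff_ne_zero]
    intro h0
    have : x = 0 := hinj (by rw [map_zero]; exact h0)
    exact nonZeroDivisors.ne_zero hx this
  · intro l
    obtain ⟨b, s, hs, rfl⟩ := hsurj l
    have hs' : Ideal.Quotient.mk Q s ∈ nonZeroDivisors (B ⧸ Q) := by
      rw [mem_nonZeroDivisors_iff_ne_zero]
      intro h0
      rw [Ideal.Quotient.eq_zero_iff_mem, ← hker] at h0
      exact hs h0
    refine ⟨(Ideal.Quotient.mk Q b, ⟨Ideal.Quotient.mk Q s, hs'⟩), ?_⟩
    change ψ b / ψ s * ψ s = ψ b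
    rw [div_mul_cancel₀ _ hs]
  · intro x y hxy
    exact ⟨1, by rw [hinj hxy]⟩


theorem ring_residue {A B K L : Type u} [CommRing A] [CommRing B] [Field K] [Field L]
    (φ : A →+* B) {G : Type u} [Group G] [Finite G] (σ : G → B →+* B) (h1 : ∀ b, σ 1 b = b)
    (hmul : ∀ g h b, σ (g * h) b = σ h (σ g b))
    (hrange : ∀ b, b ∈ Set.range φ ↔ ∀ g, σ g b = b)
    (Q : Ideal B) [Q.IsPrime] (ψK : A →+* K) (ψL : B →+* L) (ι : K →+* L)
    (hcomm : ∀ a, ι (ψK a) = ψL (φ a))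
    (hkerL : ∀ b, ψL b = 0 ↔ b ∈ Q)
    (hsurjK : ∀ k : K, ∃ a s : A, ψK s ≠ 0 ∧ k = ψK a / ψK s)
    (hsurjL : ∀ l : L, ∃ b s : B, ψL s ≠ 0 ∧ l = ψL b / ψL s) :
    (@Normal K L _ _ ι.toAlgebra) ∧
    ∀ τ : L ≃+* L, (∀ k, τ (ι k) = ι k) →
      ∃ g : G, Q.comap (σ g) = Q ∧ ∀ b, τ (ψL b) = ψL (σ g b) := by
  letI : Algebra A B := φ.toAlgebra
  letI act : MulSemiringAction G B :=
    { smul := fun g b => σ g⁻¹ b
      one_smul := fun b => by
        show σ (1 : G)⁻¹ b = b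
        rw [inv_one]; exact h1 b
      mul_smul := fun g h b => by
        show σ (g * h)⁻¹ b = σ g⁻¹ (σ h⁻¹ b)
        rw [mul_inv_rev]; exact hmul _ _ _
      smul_zero := fun g => map_zero (σ g⁻¹)
      smul_add := fun g a b => map_add (σ g⁻¹) a b
      smul_one := fun g => map_one (σ g⁻¹)
      smul_mul := fun g a b => map_mul (σ g⁻¹) a b }
  have hsm : ∀ (g : G) (b : B), g • b = σ g⁻¹ b := fun _ _ => rfl
  haveI : SMulCommClass G A B := ⟨fun g a b => by
    show σ g⁻¹ (φ a * b) = φ a * σ g⁻¹ b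
    rw [map_mul]
    congr 1
    exact (hrange (φ a)).mp ⟨a, rfl⟩ g⁻¹⟩
  haveI : Algebra.IsInvariant A B G := ⟨fun b hb => by
    have : b ∈ Set.range φ := (hrange b).mpr fun g => by
      have := hb g⁻¹
      rw [hsm, inv_inv] at this
      exact this
    exact this⟩
  obtain ⟨P, hP⟩ : ∃ P : Ideal A, P = Q.comap φ := ⟨_, rfl⟩
  haveI : Q.LiesOver P := ⟨hP⟩
  haveI : P.IsPrime := by rw [hP]; exact Ideal.IsPrime.comap φ
  have hkerK : ∀ a, ψK a = 0 ↔ a ∈ P := by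
    intro a
    rw [hP, Ideal.mem_comap, ← hkerL, ← hcomm]
    exact (map_eq_zero ι).symm
  letI aK : Algebra (A ⧸ P) K :=
    (Ideal.Quotient.lift P ψK (fun a ha => (hkerK a).mpr ha)).toAlgebra
  letI aL : Algebra (B ⧸ Q) L :=
    (Ideal.Quotient.lift Q ψL (fun b hb => (hkerL b).mpr hb)).toAlgebra
  letI aKL : Algebra K L := ι.toAlgebra
  letI aAL : Algebra (A ⧸ P) L := ((algebraMap K L).comp (algebraMap (A ⧸ P) K)).toAlgebra
  haveI : IsScalarTower (A ⧸ P) K L := IsScalarTower.of_algebraMap_eq (fun x => rfl)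
  haveI : IsScalarTower (A ⧸ P) (B ⧸ Q) L := IsScalarTower.of_algebraMap_eq (fun x => by
    obtain ⟨a, rfl⟩ := Ideal.Quotient.mk_surjective x
    rw [Ideal.Quotient.algebraMap_mk_of_liesOver]
    exact hcomm a)
  haveI : IsFractionRing (A ⧸ P) K := isFractionRing_of_ker P ψK hkerK hsurjK
  haveI : IsFractionRing (B ⧸ Q) L := isFractionRing_of_ker Q ψL hkerL hsurjL
  refine ⟨Ideal.IsFractionRing.normal G P Q K L, fun τ hτ => ?_⟩
  obtain ⟨g, hg⟩ := IsFractionRing.stabilizerHom_surjective G P Q K L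
    (AlgEquiv.ofRingEquiv (f := τ) hτ)
  refine ⟨g.1⁻¹, ?_, fun b => ?_⟩
  · have hgQ : g.1 • Q = Q := g.2
    ext b
    rw [Ideal.mem_comap]
    have h2 : g.1⁻¹ • Q = Q := by
      rw [inv_smul_eq_iff, hgQ]
    conv_rhs => rw [← h2]
    rw [Ideal.mem_inv_pointwise_smul_iff, hsm]
  · have h3 := IsFractionRing.stabilizerHom_apply_apply_mk G P Q K L g b
    rw [hg] at h3
    exact h3

end QuotResH8
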