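import Mathlib
import Groth.Agent.Lib.CartDim_helper8
set_option autoImplicit false
open AlgebraicGeometry CategoryTheory TopologicalSpace
universe u
namespace QuotResH8

variable {X : Scheme.{u}}

theorem evaluation_eq_zero_iff {V : X.Opens} (hV : IsAffineOpen V) (x : X) (hx : x ∈ V)
    (b : Γ(X, V)) :
    (X.evaluation V x hx).hom b = 0 ↔ b ∈ (hV.primeIdealOf ⟨x, hx⟩).asIdeal := by
  rw [CartDimH8.mem_primeIdealOf_iff hV x hx b]
  exact X.evaluation_eq_zero_iff_notMem_basicOpen x hx b

theorem evaluation_surj {V : X.Opens} (hV : IsAffineOpen V) (x : X) (hx : x ∈ V)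
    (l : X.residueField x) :
    ∃ b s : Γ(X, V), (X.evaluation V x hx).hom s ≠ 0 ∧
      l = (X.evaluation V x hx).hom b / (X.evaluation V x hx).hom s := by
  obtain ⟨z, rfl⟩ : ∃ z : X.presheaf.stalk x, (X.residue x).hom z = l :=
    IsLocalRing.residue_surjective l
  letI : Algebra Γ(X, V) (X.presheaf.stalk x) :=
    TopCat.Presheaf.algebra_section_stalk X.presheaf (⟨x, hx⟩ : V)
  haveI : IsLocalization.AtPrime (X.presheaf.stalk x) (hV.primeIdealOf ⟨x, hx⟩).asIdeal :=
    hV.isLocalization_stalk ⟨x, hx⟩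
  obtain ⟨⟨b, s⟩, hbs⟩ := IsLocalization.surj (hV.primeIdealOf ⟨x, hx⟩).asIdeal.primeCompl z
  have hs : (X.evaluation V x hx).hom s.1 ≠ 0 := by
    rw [Ne, evaluation_eq_zero_iff hV x hx]
    exact s.2
  refine ⟨b, s.1, hs, ?_⟩
  rw [eq_div_iff hs]
  have := congrArg (X.residue x).hom hbs
  rw [map_mul] at this
  exact this

theorem evaluation_res {V W : X.Opens} (i : W ⟶ V) (x : X) (hx : x ∈ W) (b : Γ(X, V)) :
    (X.evaluation W x hx).hom ((X.presheaf.map i.op).hom b) =
      (X.evaluation V x (i.le hx)).hom b := by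
  change (X.residue x).hom ((X.presheaf.germ W x hx).hom ((X.presheaf.map i.op).hom b)) =
    (X.residue x).hom ((X.presheaf.germ V x (i.le hx)).hom b)
  congr 1
  exact TopCat.Presheaf.germ_res_apply X.presheaf i x hx b

theorem evaluation_congr {V : X.Opens} {x x' : X} (e : x' = x) (hx : x ∈ V) (hx' : x' ∈ V)
    (b : Γ(X, V)) :
    (X.residueFieldCongr e).inv.hom ((X.evaluation V x hx).hom b) =
      (X.evaluation V x' hx').hom b := by
  subst e
  rfl

end QuotResH8
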