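import Mathlib
import Groth.Agent.Lib.IsQuot4_helper8
import Groth.Agent.Lib.QuotRes1_helper8
import Groth.Agent.Lib.QuotRes2_helper8
set_option autoImplicit false
open AlgebraicGeometry CategoryTheory CategoryTheory.Limits TopologicalSpace
universe u
namespace IsQuotH8

variable {X Y : Scheme.{u}} {G : Type u} [Group G]

theorem act_one (ρ : G →* Aut X) (p : X ⟶ Y) (hinv : ∀ g : G, (ρ g).hom ≫ p = p)
    (U : Y.Opens) (b : Γ(X, p ⁻¹ᵁ U)) : (act ρ p hinv 1 U).hom b = b := by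
  have h := appLE_congr (hom_one ρ) (p ⁻¹ᵁ U) (p ⁻¹ᵁ U)
    (SGA1.preimage_le_of_inv ρ p hinv 1 U) le_rfl
  change ((ρ 1).hom.appLE (p ⁻¹ᵁ U) (p ⁻¹ᵁ U) _).hom b = b
  rw [h]
  change (X.presheaf.map (𝟙 (Opposite.op (p ⁻¹ᵁ U)))).hom b = b
  rw [X.presheaf.map_id]
  rfl

theorem act_mul (ρ : G →* Aut X) (p : X ⟶ Y) (hinv : ∀ g : G, (ρ g).hom ≫ p = p)
    (U : Y.Opens) (g h : G) (b : Γ(X, p ⁻¹ᵁ U)) :
    (act ρ p hinv (g * h) U).hom b = (act ρ p hinv h U).hom ((act ρ p hinv g U).hom b) := by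
  have e2 := Scheme.Hom.appLE_comp_appLE (ρ h).hom (ρ g).hom (p ⁻¹ᵁ U) (p ⁻¹ᵁ U) (p ⁻¹ᵁ U)
    (SGA1.preimage_le_of_inv ρ p hinv g U) (SGA1.preimage_le_of_inv ρ p hinv h U)
  have e1 := appLE_congr (hom_mul ρ g h) (p ⁻¹ᵁ U) (p ⁻¹ᵁ U)
    (SGA1.preimage_le_of_inv ρ p hinv (g * h) U)
    ((SGA1.preimage_le_of_inv ρ p hinv h U).trans
      ((Opens.map (ρ h).hom.base).map (homOfLE (SGA1.preimage_le_of_inv ρ p hinv g U))).le)
  change ((ρ (g * h)).hom.appLE (p ⁻¹ᵁ U) (p ⁻¹ᵁ U) _).hom b = _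
  rw [e1, ← e2]
  rfl

/-- Evaluation of the translated section. -/
theorem evaluation_act (ρ : G →* Aut X) (p : X ⟶ Y) (hinv : ∀ g : G, (ρ g).hom ≫ p = p)
    (U : Y.Opens) (g : G) (x : X) (hx : x ∈ p ⁻¹ᵁ U) (b : Γ(X, p ⁻¹ᵁ U)) :
    (X.evaluation (p ⁻¹ᵁ U) x hx).hom ((act ρ p hinv g U).hom b) =
      ((ρ g).hom.residueFieldMap x).hom
        ((X.evaluation (p ⁻¹ᵁ U) ((ρ g).hom.base x)
          (SGA1.preimage_le_of_inv ρ p hinv g U hx)).hom b) := by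
  have h1 := Scheme.evaluation_naturality_apply (ρ g).hom (V := p ⁻¹ᵁ U) x
    (SGA1.preimage_le_of_inv ρ p hinv g U hx) b
  refine Eq.trans ?_ h1.symm
  have h2 : (act ρ p hinv g U).hom b = (X.presheaf.map
      (homOfLE (SGA1.preimage_le_of_inv ρ p hinv g U)).op).hom
        (((ρ g).hom.app (p ⁻¹ᵁ U)).hom b) := rfl
  rw [h2]
  exact QuotResH8.evaluation_res _ x hx _


theorem residue_result [Finite G] (ρ : G →* Aut X) (p : X ⟶ Y) (hp : SGA1.IsQuot ρ p) (x : X) :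
    (letI := (p.residueFieldMap x).hom.toAlgebra
     Normal (Y.residueField (p.base x)) (X.residueField x)) ∧
    ∀ τ : X.residueField x ≅ X.residueField x,
      p.residueFieldMap x ≫ τ.hom = p.residueFieldMap x →
      ∃ (g : G) (e : (ρ g).hom.base x = x),
        τ.hom = (X.residueFieldCongr e).inv ≫ (ρ g).hom.residueFieldMap x := by
  obtain ⟨_, ⟨U, hU : IsAffineOpen U, rfl⟩, hyU, -⟩ :=
    (Y.isBasis_affineOpens).exists_subset_of_mem_open (Set.mem_univ (p.base x)) isOpen_univ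
  have hV : IsAffineOpen (p ⁻¹ᵁ U) := hp.affine.isAffine_preimage U hU
  have hxV : x ∈ p ⁻¹ᵁ U := hyU
  have key := QuotResH8.ring_residue (p.app U).hom (fun g => (act ρ p hp.inv g U).hom)
    (act_one ρ p hp.inv U) (fun g h b => act_mul ρ p hp.inv U g h b) (hp.range_iff U)
    (hV.primeIdealOf ⟨x, hxV⟩).asIdeal (Y.evaluation U (p.base x) hyU).hom
    (X.evaluation (p ⁻¹ᵁ U) x hxV).hom (p.residueFieldMap x).hom
    (fun a => Scheme.evaluation_naturality_apply p x hyU a)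
    (QuotResH8.evaluation_eq_zero_iff hV x hxV)
    (QuotResH8.evaluation_surj hU (p.base x) hyU)
    (QuotResH8.evaluation_surj hV x hxV)
  refine ⟨key.1, fun τ hτ => ?_⟩
  obtain ⟨g, hgQ, hgτ⟩ := key.2 τ.commRingCatIsoToRingEquiv (fun k => by
    have := congrArg (fun m => m.hom k) hτ
    exact this)
  have hx'V : (ρ g).hom.base x ∈ p ⁻¹ᵁ U := SGA1.preimage_le_of_inv ρ p hp.inv g U hxV
  have hprime : hV.primeIdealOf ⟨(ρ g).hom.base x, hx'V⟩ = hV.primeIdealOf ⟨x, hxV⟩ := by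
    apply PrimeSpectrum.ext
    ext b
    rw [← QuotResH8.evaluation_eq_zero_iff hV _ hx'V b, ← hgQ, Ideal.mem_comap,
      ← QuotResH8.evaluation_eq_zero_iff hV x hxV, evaluation_act ρ p hp.inv U g x hxV b]
    exact (map_eq_zero _).symm
  have e : (ρ g).hom.base x = x := by
    have h1 := hV.fromSpec_primeIdealOf ⟨(ρ g).hom.base x, hx'V⟩
    have h2 := hV.fromSpec_primeIdealOf ⟨x, hxV⟩
    rw [hprime] at h1
    exact h1.symm.trans h2
  refine ⟨g, e, ?_⟩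
  apply CommRingCat.hom_ext
  apply RingHom.ext
  intro l
  obtain ⟨b, s, hs, rfl⟩ := QuotResH8.evaluation_surj hV x hxV l
  have hval : ∀ c : Γ(X, p ⁻¹ᵁ U), τ.hom.hom ((X.evaluation (p ⁻¹ᵁ U) x hxV).hom c) =
      ((X.residueFieldCongr e).inv ≫ (ρ g).hom.residueFieldMap x).hom
        ((X.evaluation (p ⁻¹ᵁ U) x hxV).hom c) := by
    intro c
    have h3 : τ.hom.hom ((X.evaluation (p ⁻¹ᵁ U) x hxV).hom c) =
        (X.evaluation (p ⁻¹ᵁ U) x hxV).hom ((act ρ p hp.inv g U).hom c) := hgτ c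
    rw [h3, evaluation_act ρ p hp.inv U g x hxV c]
    change _ = ((ρ g).hom.residueFieldMap x).hom ((X.residueFieldCongr e).inv.hom _)
    rw [QuotResH8.evaluation_congr e hxV hx'V c]
  rw [map_div₀, map_div₀, hval b, hval s]

end IsQuotH8
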