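import Mathlib
import Groth.Agent.Lib.GalRing1_helper8
import Groth.Agent.Lib.QuotRes3_helper8
import Groth.Agent.Lib.IsQuot3_helper8

set_option autoImplicit false
universe u
open CategoryTheory AlgebraicGeometry Limits TopologicalSpace

namespace GalQuotH8

theorem of_forall_affine_app {P : MorphismProperty Scheme.{u}}
    {Q : ∀ {R S : Type u} [CommRing R] [CommRing S], (R →+* S) → Prop}
    [HasRingHomProperty P Q]
    (hQ : RingHom.StableUnderCompositionWithLocalizationAwaySource Q) {X Y : Scheme.{u}}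
    (p : X ⟶ Y) [IsAffineHom p]
    (h : ∀ V : Y.Opens, IsAffineOpen V → Q (p.app V).hom) : P p := by
  refine (HasRingHomProperty.iff_exists_appLE (P := P) hQ).mpr fun x => ?_
  obtain ⟨_, ⟨V, hV : IsAffineOpen V, rfl⟩, hxV, -⟩ :=
    Y.isBasis_affineOpens.exists_subset_of_mem_open (Set.mem_univ (p.base x)) isOpen_univ
  refine ⟨⟨V, hV⟩, ⟨p ⁻¹ᵁ V, hV.preimage p⟩, hxV, le_rfl, ?_⟩
  rw [← Scheme.Hom.app_eq_appLE]
  exact h V hV

theorem flat_stable : RingHom.StableUnderCompositionWithLocalizationAwaySource RingHom.Flat := by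
  intro R S T _ _ _ _ r _ f hf
  exact (RingHom.Flat.holdsForLocalizationAway S r).comp hf

theorem unram_stable :
    RingHom.StableUnderCompositionWithLocalizationAwaySource RingHom.FormallyUnramified := by
  intro R S T _ _ _ _ r _ f hf
  exact (RingHom.FormallyUnramified.holdsForLocalizationAway S r).comp hf

variable {X Y : Scheme.{u}} {G : Type u} [Group G] [Finite G]

/-- freeness on geometric points gives the Chase–Harrison–Rosenberg condition. -/
theorem exists_not_mem_of_free (ρ : G →* Aut X) (p : X ⟶ Y) (hp : SGA1.IsQuot ρ p)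
    (hfree : ∀ (K : Type u) [Field K] [IsAlgClosed K] (ξ : Spec (CommRingCat.of K) ⟶ X) (g : G),
      ξ ≫ (ρ g).hom = ξ → g = 1)
    (V : Y.Opens) (hV : IsAffineOpen V) (g : G) (hg : g ≠ 1)
    (n : Ideal Γ(X, p ⁻¹ᵁ V)) (hn : n.IsPrime) :
    ∃ b, (IsQuotH8.act ρ p hp.inv g V).hom b - b ∉ n := by
  by_contra hcon
  push Not at hcon
  apply hg
  have hU : IsAffineOpen (p ⁻¹ᵁ V) := hp.affine.isAffine_preimage V hV
  -- the geometric point
  let Ω := AlgebraicClosure n.ResidueField
  let χ : Γ(X, p ⁻¹ᵁ V) →+* Ω :=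
    (algebraMap n.ResidueField Ω).comp (algebraMap Γ(X, p ⁻¹ᵁ V) n.ResidueField)
  have hχ : ∀ b, χ b = 0 ↔ b ∈ n := by
    intro b
    show algebraMap n.ResidueField Ω (algebraMap _ n.ResidueField b) = 0 ↔ _
    rw [map_eq_zero_iff _ (algebraMap n.ResidueField Ω).injective]
    exact Ideal.algebraMap_residueField_eq_zero
  have hχact : (IsQuotH8.act ρ p hp.inv g V) ≫ CommRingCat.ofHom χ = CommRingCat.ofHom χ := by
    ext b
    show χ ((IsQuotH8.act ρ p hp.inv g V).hom b) = χ b
    rw [← sub_eq_zero, ← map_sub, hχ]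
    exact hcon b
  refine hfree Ω (Spec.map (CommRingCat.ofHom χ) ≫ hU.fromSpec) g ?_
  rw [Category.assoc, ← IsAffineOpen.SpecMap_appLE_fromSpec (ρ g).hom hU hU
    (SGA1.preimage_le_of_inv ρ p hp.inv g V), ← Category.assoc, ← Spec.map_comp]
  congr 2


theorem flat_unramified_of_free (ρ : G →* Aut X) (p : X ⟶ Y) (hp : SGA1.IsQuot ρ p) [IsFinite p]
    (hfree : ∀ (K : Type u) [Field K] [IsAlgClosed K] (ξ : Spec (CommRingCat.of K) ⟶ X) (g : G),
      ξ ≫ (ρ g).hom = ξ → g = 1) : Flat p ∧ FormallyUnramified p := by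
  haveI : IsAffineHom p := hp.affine
  have key : ∀ V : Y.Opens, IsAffineOpen V →
      (p.app V).hom.Flat ∧ (p.app V).hom.FormallyUnramified := by
    intro V hV
    classical
    haveI : Fintype G := Fintype.ofFinite G
    letI : Algebra Γ(Y, V) Γ(X, p ⁻¹ᵁ V) := (p.app V).hom.toAlgebra
    let act' : G → Γ(X, p ⁻¹ᵁ V) →ₐ[Γ(Y, V)] Γ(X, p ⁻¹ᵁ V) := fun g =>
      { (IsQuotH8.act ρ p hp.inv g V).hom with
        commutes' := fun a => IsQuotH8.act_app ρ p hp.inv g V a }
    have h := GalRingH8.flat_and_unramified act'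
      (fun b => IsQuotH8.act_one ρ p hp.inv V b)
      (fun g h b => IsQuotH8.act_mul ρ p hp.inv V g h b)
      (hp.injective V)
      (fun b hb => (hp.range_iff V b).mpr hb)
      (fun g hg n hn => exists_not_mem_of_free ρ p hp hfree V hV g hg n hn.isPrime)
    refine ⟨h.1, ?_⟩
    haveI : Module.Finite Γ(Y, V) Γ(X, p ⁻¹ᵁ V) := IsFinite.finite_app p V hV
    exact Algebra.FormallyUnramified.iff_exists_tensorProduct.mpr h.2
  exact ⟨of_forall_affine_app (P := @Flat) flat_stable p (fun V hV => (key V hV).1),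
    of_forall_affine_app (P := @FormallyUnramified) unram_stable p (fun V hV => (key V hV).2)⟩

end GalQuotH8
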