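import Groth.Statements.S14400
import Groth.Agent.Lib.GQuot6_helper6
import Groth.Agent.S12059
import Groth.Agent.S2925

set_option backward.isDefEq.respectTransparency false
set_option backward.isDefEq.respectTransparency.types false
set_option autoImplicit false
open CategoryTheory CategoryTheory.Limits AlgebraicGeometry Opposite
universe u

namespace Groth.Agent.Lib.GalQuotH6

variable (k : Type u) [Field k] (K : Type u) [Field K] [Algebra k K]

/-- `Spec` of a `k`-automorphism of `K`. -/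
noncomputable abbrev specσ (σ : K ≃ₐ[k] K) : Spec (CommRingCat.of K) ⟶ Spec (CommRingCat.of K) :=
  Spec.map (CommRingCat.ofHom (σ : K →ₐ[k] K).toRingHom)

lemma specσ_mul (σ τ : K ≃ₐ[k] K) : specσ k K (σ * τ) = specσ k K σ ≫ specσ k K τ := by
  unfold specσ
  rw [← Spec.map_comp]
  rfl

lemma specσ_one : specσ k K 1 = 𝟙 _ := by
  unfold specσ
  exact Spec.map_id _

/-- The action of the Galois group on `Spec K`. -/
noncomputable def ρK : (K ≃ₐ[k] K) →* Aut (Spec (CommRingCat.of K)) :=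
  MonoidHom.mk' (fun σ =>
    { hom := specσ k K σ⁻¹
      inv := specσ k K σ
      hom_inv_id := by rw [← specσ_mul, inv_mul_cancel, specσ_one]
      inv_hom_id := by rw [← specσ_mul, mul_inv_cancel, specσ_one] })
    (fun σ τ => by
      apply Iso.ext
      change specσ k K (σ * τ)⁻¹ = specσ k K τ⁻¹ ≫ specσ k K σ⁻¹
      rw [mul_inv_rev, specσ_mul])

lemma ρK_hom (σ : K ≃ₐ[k] K) : ((ρK k K) σ).hom = specσ k K σ⁻¹ := rfl

variable (X : Scheme.{u}) [X.Over (Spec (CommRingCat.of k))]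

@[reassoc]
lemma galAct_fst (σ : K ≃ₐ[k] K) :
    Curv2.galAct k X K σ ≫ Curv2.bcFst k X K = Curv2.bcFst k X K := by
  unfold Curv2.galAct
  rw [pullback.lift_fst, Category.comp_id]

@[reassoc]
lemma galAct_snd (σ : K ≃ₐ[k] K) :
    Curv2.galAct k X K σ ≫ Curv2.bcSnd k X K = Curv2.bcSnd k X K ≫ specσ k K σ := by
  unfold Curv2.galAct
  rw [pullback.lift_snd]

lemma galAct_mul (σ τ : K ≃ₐ[k] K) :
    Curv2.galAct k X K (σ * τ) = Curv2.galAct k X K σ ≫ Curv2.galAct k X K τ := by
  apply pullback.hom_ext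
  · rw [Category.assoc, galAct_fst, galAct_fst, galAct_fst]
  · rw [Category.assoc, galAct_snd, galAct_snd, galAct_snd_assoc, specσ_mul]

lemma galAct_one : Curv2.galAct k X K 1 = 𝟙 _ := by
  apply pullback.hom_ext
  · rw [galAct_fst, Category.id_comp]
  · rw [galAct_snd, specσ_one, Category.comp_id, Category.id_comp]

/-- The action of the Galois group on the base change `X_K`. -/
noncomputable def ρX : (K ≃ₐ[k] K) →* Aut (Curv2.bc k X K) :=
  MonoidHom.mk' (fun σ =>
    { hom := Curv2.galAct k X K σ⁻¹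
      inv := Curv2.galAct k X K σ
      hom_inv_id := by rw [← galAct_mul, inv_mul_cancel, galAct_one]
      inv_hom_id := by rw [← galAct_mul, mul_inv_cancel, galAct_one] })
    (fun σ τ => by
      apply Iso.ext
      change Curv2.galAct k X K (σ * τ)⁻¹ = Curv2.galAct k X K τ⁻¹ ≫ Curv2.galAct k X K σ⁻¹
      rw [mul_inv_rev, galAct_mul])

lemma ρX_hom (σ : K ≃ₐ[k] K) : ((ρX k K X) σ).hom = Curv2.galAct k X K σ⁻¹ := rfl

variable [FiniteDimensional k K] [IsGalois k K]

/-- `Spec K ⟶ Spec k` is the quotient by the Galois group. -/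
theorem isQuot_ρK :
    SGA1.IsQuot (ρK k K) (Spec.map (CommRingCat.ofHom (algebraMap k K))) := by
  refine Groth.Agent.S12059.result (K ≃ₐ[k] K) K k (ρK k K) ?_
  ext f
  constructor
  · rintro ⟨σ, rfl⟩
    exact ⟨σ⁻¹, rfl⟩
  · rintro ⟨σ, rfl⟩
    refine ⟨σ⁻¹, ?_⟩
    show ((ρK k K) σ⁻¹).hom = _
    rw [ρK_hom, inv_inv]
    rfl

/-- The projection `X_K ⟶ X` is the quotient by the Galois group. -/
theorem isQuot_bcFst : SGA1.IsQuot (ρX k K X) (Curv2.bcFst k X K) := by
  haveI : Finite (K ≃ₐ[k] K) := inferInstance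
  refine Groth.Agent.Lib.GQuotH6.isQuot_of_flat_baseChange (ρK k K) _ (isQuot_ρK k K)
    (X ↘ Spec (CommRingCat.of k)) (Curv2.bcSnd k X K) (Curv2.bcFst k X K)
    (IsPullback.of_hasPullback _ _).flip (ρX k K X) ?_ ?_
  · intro σ
    rw [ρX_hom, ρK_hom, galAct_snd]
  · intro σ
    rw [ρX_hom, galAct_fst]

end Groth.Agent.Lib.GalQuotH6
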