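import Mathlib
import Groth.Prelude

set_option autoImplicit false
set_option linter.style.haveILetI false
set_option linter.unusedVariables false

universe u v

open TensorProduct Module

namespace Groth.Agent.Lib.GalSq3H4

set_option maxRecDepth 1000000 in
set_option synthInstance.maxHeartbeats 4000000 in
set_option synthInstance.maxSize 100000 in
set_option maxHeartbeats 4000000 in
theorem beta : ∀ (m00 m01 m02 m10 m11 m12 m20 m21 m22 a b c : ZMod 2),
    (m00*m11 - m01*m10) * a + (m00*m12 - m02*m10) * b + (m01*m12 - m02*m11) * c = a →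
    (m00*m21 - m01*m20) * a + (m00*m22 - m02*m20) * b + (m01*m22 - m02*m21) * c = b →
    (m10*m21 - m11*m20) * a + (m10*m22 - m12*m20) * b + (m11*m22 - m12*m21) * c = c →
    ((a+b+a*b) * m00^2 + (a+c+a*c) * m01^2 + (b+c+b*c) * m02^2 + a*m00*m01 + b*m00*m02 + c*m01*m02 = a+b+a*b) ∧
    ((a+b+a*b) * m10^2 + (a+c+a*c) * m11^2 + (b+c+b*c) * m12^2 + a*m10*m11 + b*m10*m12 + c*m11*m12 = a+c+a*c) ∧
    ((a+b+a*b) * m20^2 + (a+c+a*c) * m21^2 + (b+c+b*c) * m22^2 + a*m20*m21 + b*m20*m22 + c*m21*m22 = b+c+b*c) := by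
  decide +kernel

theorem h2 : (2 : ZMod 2) = 0 := by decide

variable {V : Type v} [AddCommGroup V] [Module (ZMod 2) V]

/-- coordinate functionals on `V ⊗ V`. -/
noncomputable def co (b : Basis (Fin 3) (ZMod 2) V) (i j : Fin 3) :
    V ⊗[ZMod 2] V →ₗ[ZMod 2] ZMod 2 :=
  (Finsupp.lapply (i, j)) ∘ₗ (b.tensorProduct b).repr.toLinearMap

theorem co_apply (b : Basis (Fin 3) (ZMod 2) V) (i j : Fin 3) (s : V ⊗[ZMod 2] V) :
    co b i j s = (b.tensorProduct b).repr s (i, j) := rfl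

theorem co_tmul (b : Basis (Fin 3) (ZMod 2) V) (i j : Fin 3) (v w : V) :
    co b i j (v ⊗ₜ[ZMod 2] w) = b.repr v i * b.repr w j := by
  rw [co_apply, Basis.tensorProduct_repr_tmul_apply, smul_eq_mul, mul_comm]

theorem expand (b : Basis (Fin 3) (ZMod 2) V) (s : V ⊗[ZMod 2] V) :
    s = ∑ i : Fin 3, ∑ j : Fin 3, co b i j s • (b i ⊗ₜ[ZMod 2] b j) := by
  have h := (b.tensorProduct b).sum_repr s
  rw [Fintype.sum_prod_type] at h
  simp only [Basis.tensorProduct_apply] at h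
  exact h.symm

theorem repr_map (b : Basis (Fin 3) (ZMod 2) V) (φ : V →ₗ[ZMod 2] V) (x : V) (k : Fin 3) :
    b.repr (φ x) k = ∑ i, b.repr (φ (b i)) k * b.repr x i := by
  conv_lhs => rw [← b.sum_repr x]
  rw [map_sum, map_sum, Finsupp.finset_sum_apply]
  refine Finset.sum_congr rfl fun i _ => ?_
  rw [map_smul, map_smul, Finsupp.smul_apply, smul_eq_mul, mul_comm]

theorem co_map (b : Basis (Fin 3) (ZMod 2) V) (φ : V →ₗ[ZMod 2] V) (s : V ⊗[ZMod 2] V)
    (k l : Fin 3) :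
    co b k l (TensorProduct.map φ φ s) =
      ∑ i : Fin 3, ∑ j : Fin 3, b.repr (φ (b i)) k * b.repr (φ (b j)) l * co b i j s := by
  induction s using TensorProduct.induction_on with
  | zero => simp
  | tmul v w =>
    rw [TensorProduct.map_tmul, co_tmul, repr_map b φ v k, repr_map b φ w l, Finset.sum_mul_sum]
    refine Finset.sum_congr rfl fun i _ => Finset.sum_congr rfl fun j _ => ?_
    rw [co_tmul]; ring
  | add s s' h h' =>
    simp only [map_add, h, h', mul_add, Finset.sum_add_distrib]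

theorem co_symm_of_mem (b : Basis (Fin 3) (ZMod 2) V) {s : V ⊗[ZMod 2] V}
    (hs : s ∈ Submodule.span (ZMod 2) (Set.range fun v : V => v ⊗ₜ[ZMod 2] v)) (k l : Fin 3) :
    co b k l s = co b l k s := by
  induction hs using Submodule.span_induction with
  | mem x hx =>
    obtain ⟨v, rfl⟩ := hx
    show co b k l (v ⊗ₜ[ZMod 2] v) = co b l k (v ⊗ₜ[ZMod 2] v)
    rw [co_tmul, co_tmul, mul_comm]
  | zero => rw [map_zero, map_zero]
  | add x y _ _ hx hy => rw [map_add, map_add, hx, hy]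
  | smul c x _ hx => rw [map_smul, map_smul, hx]

theorem co_corr (b : Basis (Fin 3) (ZMod 2) V) (d : Fin 3 → ZMod 2) (k l : Fin 3) :
    co b k l (∑ i, d i • (b i ⊗ₜ[ZMod 2] b i)) = if k = l then d k else 0 := by
  rw [map_sum]
  simp only [map_smul, smul_eq_mul, co_tmul, Basis.repr_self, Finsupp.single_apply]
  by_cases hkl : k = l
  · subst hkl
    rw [if_pos rfl, Finset.sum_eq_single k]
    · simp
    · intro i _ hik
      simp [hik]
    · intro h
      exact absurd (Finset.mem_univ k) h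
  · rw [if_neg hkl]
    apply Finset.sum_eq_zero
    intro i _
    by_cases hik : i = k
    · subst hik
      simp [hkl]
    · simp [hik]

theorem mem_Ns_of_alt (b : Basis (Fin 3) (ZMod 2) V) (s : V ⊗[ZMod 2] V)
    (h00 : co b 0 0 s = 0) (h11 : co b 1 1 s = 0) (h22 : co b 2 2 s = 0)
    (h10 : co b 1 0 s = co b 0 1 s) (h20 : co b 2 0 s = co b 0 2 s)
    (h21 : co b 2 1 s = co b 1 2 s) :
    s ∈ Submodule.span (ZMod 2)
      (Set.range fun p : V × V => p.1 ⊗ₜ[ZMod 2] p.2 + p.2 ⊗ₜ[ZMod 2] p.1) := by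
  have gen : ∀ x y : V, x ⊗ₜ[ZMod 2] y + y ⊗ₜ[ZMod 2] x ∈ Submodule.span (ZMod 2)
      (Set.range fun p : V × V => p.1 ⊗ₜ[ZMod 2] p.2 + p.2 ⊗ₜ[ZMod 2] p.1) :=
    fun x y => Submodule.subset_span ⟨(x, y), rfl⟩
  have key : s = co b 0 1 s • (b 0 ⊗ₜ[ZMod 2] b 1 + b 1 ⊗ₜ[ZMod 2] b 0) +
      co b 0 2 s • (b 0 ⊗ₜ[ZMod 2] b 2 + b 2 ⊗ₜ[ZMod 2] b 0) +
      co b 1 2 s • (b 1 ⊗ₜ[ZMod 2] b 2 + b 2 ⊗ₜ[ZMod 2] b 1) := by
    have h := expand b s
    simp only [Fin.sum_univ_three] at h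
    rw [h00, h11, h22, h10, h20, h21] at h
    refine h.trans ?_
    simp only [zero_smul, smul_add]
    abel
  rw [key]
  exact add_mem (add_mem (Submodule.smul_mem _ _ (gen _ _)) (Submodule.smul_mem _ _ (gen _ _)))
    (Submodule.smul_mem _ _ (gen _ _))

theorem main (G : Type u) [Group G] (V : Type v)
    [AddCommGroup V] [Module (ZMod 2) V] (hV : Module.finrank (ZMod 2) V = 3)
    (ρ : Representation (ZMod 2) G V) (t : V ⊗[ZMod 2] V)
    (ht : ∀ g : G, ρ.tprod ρ g t - t ∈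
      Submodule.span (ZMod 2) (Set.range fun v : V => v ⊗ₜ[ZMod 2] v)) :
    ∃ t' : V ⊗[ZMod 2] V,
      t' - t ∈ Submodule.span (ZMod 2) (Set.range fun v : V => v ⊗ₜ[ZMod 2] v) ∧
      ∀ g : G, ρ.tprod ρ g t' - t' ∈
        Submodule.span (ZMod 2)
          (Set.range fun p : V × V => p.1 ⊗ₜ[ZMod 2] p.2 + p.2 ⊗ₜ[ZMod 2] p.1) := by
  haveI : Module.Finite (ZMod 2) V := Module.finite_of_finrank_eq_succ hV
  obtain ⟨b⟩ : Nonempty (Basis (Fin 3) (ZMod 2) V) :=
    ⟨Module.finBasisOfFinrankEq (ZMod 2) V hV⟩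
  obtain ⟨T, hT⟩ : ∃ T : Fin 3 → Fin 3 → ZMod 2, ∀ i j, co b i j t = T i j :=
    ⟨fun i j => co b i j t, fun _ _ => rfl⟩
  obtain ⟨d, hd0, hd1, hd2⟩ : ∃ d : Fin 3 → ZMod 2,
      d 0 = (T 0 1 - T 1 0) + (T 0 2 - T 2 0) + (T 0 1 - T 1 0) * (T 0 2 - T 2 0) - T 0 0 ∧
      d 1 = (T 0 1 - T 1 0) + (T 1 2 - T 2 1) + (T 0 1 - T 1 0) * (T 1 2 - T 2 1) - T 1 1 ∧
      d 2 = (T 0 2 - T 2 0) + (T 1 2 - T 2 1) + (T 0 2 - T 2 0) * (T 1 2 - T 2 1) - T 2 2 :=
    ⟨![(T 0 1 - T 1 0) + (T 0 2 - T 2 0) + (T 0 1 - T 1 0) * (T 0 2 - T 2 0) - T 0 0,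
      (T 0 1 - T 1 0) + (T 1 2 - T 2 1) + (T 0 1 - T 1 0) * (T 1 2 - T 2 1) - T 1 1,
      (T 0 2 - T 2 0) + (T 1 2 - T 2 1) + (T 0 2 - T 2 0) * (T 1 2 - T 2 1) - T 2 2],
      rfl, rfl, rfl⟩
  refine ⟨t + ∑ i, d i • (b i ⊗ₜ[ZMod 2] b i), ?_, ?_⟩
  · rw [add_sub_cancel_left]
    exact Submodule.sum_mem _ fun i _ =>
      Submodule.smul_mem _ _ (Submodule.subset_span ⟨b i, rfl⟩)
  · intro g
    obtain ⟨m, hm⟩ : ∃ m : Fin 3 → Fin 3 → ZMod 2, ∀ k i, b.repr (ρ g (b i)) k = m k i :=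
      ⟨fun k i => b.repr (ρ g (b i)) k, fun _ _ => rfl⟩
    have H : ∀ k l : Fin 3,
        (∑ i, ∑ j, b.repr (ρ g (b i)) k * b.repr (ρ g (b j)) l * co b i j t) - co b k l t =
        (∑ i, ∑ j, b.repr (ρ g (b i)) l * b.repr (ρ g (b j)) k * co b i j t) - co b l k t := by
      intro k l
      have h := co_symm_of_mem b (ht g) k l
      rw [map_sub, map_sub, Representation.tprod_apply, co_map, co_map] at h
      exact h
    have H01 := H 0 1
    have H02 := H 0 2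
    have H12 := H 1 2
    simp only [Fin.sum_univ_three, hm, hT] at H01 H02 H12
    obtain ⟨B0, B1, B2⟩ := beta (m 0 0) (m 0 1) (m 0 2) (m 1 0) (m 1 1) (m 1 2)
      (m 2 0) (m 2 1) (m 2 2) (T 0 1 - T 1 0) (T 0 2 - T 2 0) (T 1 2 - T 2 1)
      (by linear_combination H01) (by linear_combination H02) (by linear_combination H12)
    have ct' : ∀ i j, co b i j (t + ∑ i, d i • (b i ⊗ₜ[ZMod 2] b i)) =
        T i j + if i = j then d i else 0 := by
      intro i j
      rw [map_add, co_corr, hT]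
    have E : ∀ k l, co b k l (ρ.tprod ρ g (t + ∑ i, d i • (b i ⊗ₜ[ZMod 2] b i)) -
        (t + ∑ i, d i • (b i ⊗ₜ[ZMod 2] b i))) =
        (∑ i, ∑ j, m k i * m l j * (T i j + if i = j then d i else 0)) -
          (T k l + if k = l then d k else 0) := by
      intro k l
      rw [map_sub, Representation.tprod_apply, co_map]
      simp only [ct', hm]
    apply mem_Ns_of_alt b
    · rw [E]
      simp only [Fin.sum_univ_three, Fin.isValue, Fin.reduceEq, ↓reduceIte, if_true, if_false,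
        add_zero, hd0, hd1, hd2]
      linear_combination B0 + (m 0 0 * m 0 1 * T 1 0 + m 0 0 * m 0 2 * T 2 0 +
        m 0 1 * m 0 2 * T 2 1) * h2
    · rw [E]
      simp only [Fin.sum_univ_three, Fin.isValue, Fin.reduceEq, ↓reduceIte, if_true, if_false,
        add_zero, hd0, hd1, hd2]
      linear_combination B1 + (m 1 0 * m 1 1 * T 1 0 + m 1 0 * m 1 2 * T 2 0 +
        m 1 1 * m 1 2 * T 2 1) * h2
    · rw [E]
      simp only [Fin.sum_univ_three, Fin.isValue, Fin.reduceEq, ↓reduceIte, if_true, if_false,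
        add_zero, hd0, hd1, hd2]
      linear_combination B2 + (m 2 0 * m 2 1 * T 1 0 + m 2 0 * m 2 2 * T 2 0 +
        m 2 1 * m 2 2 * T 2 1) * h2
    · rw [E, E]
      simp only [Fin.sum_univ_three, Fin.isValue, Fin.reduceEq, ↓reduceIte, if_true, if_false,
        add_zero, hd0, hd1, hd2]
      linear_combination (-1 : ZMod 2) * H01
    · rw [E, E]
      simp only [Fin.sum_univ_three, Fin.isValue, Fin.reduceEq, ↓reduceIte, if_true, if_false,
        add_zero, hd0, hd1, hd2]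
      linear_combination (-1 : ZMod 2) * H02
    · rw [E, E]
      simp only [Fin.sum_univ_three, Fin.isValue, Fin.reduceEq, ↓reduceIte, if_true, if_false,
        add_zero, hd0, hd1, hd2]
      linear_combination (-1 : ZMod 2) * H12

end Groth.Agent.Lib.GalSq3H4
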