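import Mathlib
import Groth.Prelude.Def_EtRam
import Groth.Agent.Lib.DvrExt5_helper8
import Groth.Agent.Lib.DvrExt2_helper8
import Groth.Agent.Lib.DvrExt3_helper8

/-!
# Galois extensions of degree prime to the residue characteristic are tame (helper8)
-/

set_option autoImplicit false
universe u

namespace Groth.Agent.Lib.GalTameH8

open IsLocalRing DvrExtH8

section sep

/-- a finite field extension of degree prime to the characteristic is separable -/
theorem isSeparable_of_finrank_coprime {F E : Type u} [Field F] [Field E] [Algebra F E]
    [FiniteDimensional F E]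
    (h : ∀ p : ℕ, p.Prime → CharP F p → ¬ p ∣ Module.finrank F E) : Algebra.IsSeparable F E := by
  obtain ⟨p, hp⟩ := CharP.exists F
  rcases CharP.char_is_prime_or_zero F p with hpp | hp0
  · haveI := hp
    constructor
    intro x
    have hint : IsIntegral F x := Algebra.IsIntegral.isIntegral x
    rcases Polynomial.separable_or p (minpoly.irreducible hint) with hs | ⟨_, g, _, hg⟩
    · exact hs
    · exfalso
      apply h p hpp hp
      have h1 := minpoly.degree_dvd (K := F) (L := E) hint
      rw [← hg, Polynomial.natDegree_expand] at h1
      exact (Dvd.intro_left _ rfl).trans h1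
  · subst hp0
    haveI : CharZero F := CharP.charP_to_charZero F
    exact Algebra.IsAlgebraic.isSeparable_of_perfectField

end sep

section efg

variable {A K L : Type u} [CommRing A] [IsDomain A] [IsDiscreteValuationRing A]
  [Field K] [Algebra A K] [IsFractionRing A K] [Field L] [Algebra K L] [Algebra A L]
  [IsScalarTower A K L] [FiniteDimensional K L] [IsGalois K L]

instance smulComm_gal : SMulCommClass (L ≃ₐ[K] L) A L where
  smul_comm g a x := by
    show g (a • x) = a • g x
    rw [← IsScalarTower.algebraMap_smul K a x, map_smul, IsScalarTower.algebraMap_smul]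

/-- efg for the integral closure: `e * f ∣ [L:K]`. -/
theorem e_mul_f_dvd (P : Ideal (integralClosure A L)) [P.IsPrime] [P.LiesOver (maximalIdeal A)] :
    P.ramificationIdx A * P.inertiaDeg A ∣ Module.finrank K L := by
  haveI : IsDedekindDomain (integralClosure A L) := integralClosure.isDedekindDomain A K L
  haveI : IsFractionRing (integralClosure A L) L :=
    integralClosure.isFractionRing_of_finite_extension K L
  haveI : Module.Finite A (integralClosure A L) := IsIntegralClosure.finite A K L _
  have hinjAL : Function.Injective (algebraMap A L) := by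
    rw [IsScalarTower.algebraMap_eq A K L]
    exact (algebraMap K L).injective.comp (IsFractionRing.injective A K)
  haveI : Module.IsTorsionFree A L := Module.isTorsionFree_iff_algebraMap_injective.mpr hinjAL
  haveI : Module.IsTorsionFree A (integralClosure A L) := inferInstance
  haveI : IsGaloisGroup (L ≃ₐ[K] L) A (integralClosure A L) :=
    IsGaloisGroup.of_isFractionRing (L ≃ₐ[K] L) A (integralClosure A L) K L
  have h := Ideal.ncard_primesOver_mul_ramificationIdxIn_mul_inertiaDegIn (maximalIdeal A)
    (integralClosure A L) (L ≃ₐ[K] L)
  rw [Ideal.ramificationIdxIn_eq_ramificationIdx (maximalIdeal A) P (L ≃ₐ[K] L),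
    Ideal.inertiaDegIn_eq_inertiaDeg (maximalIdeal A) P (L ≃ₐ[K] L),
    IsGalois.card_aut_eq_finrank] at h
  exact ⟨_, by rw [← h]; ring⟩

set_option maxHeartbeats 1600000 in
/-- **Galois of degree prime to the residue characteristic is tame.** -/
theorem tame_of_galois_coprime
    (hcop : ∀ p : ℕ, p.Prime → CharP (ResidueField A) p → ¬ p ∣ Module.finrank K L) :
    EtRam.IsTamelyRamified A (algebraMap A L) := by
  intro V hV
  letI algAV : Algebra A V := (RingHom.codRestrict (algebraMap A L) V hV.1).toAlgebra
  intro hloc
  haveI : IsDedekindDomain (integralClosure A L) := integralClosure.isDedekindDomain A K L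
  haveI : IsFractionRing (integralClosure A L) L :=
    integralClosure.isFractionRing_of_finite_extension K L
  haveI : Module.Finite A (integralClosure A L) := IsIntegralClosure.finite A K L _
  have hinjAL : Function.Injective (algebraMap A L) := by
    rw [IsScalarTower.algebraMap_eq A K L]
    exact (algebraMap K L).injective.comp (IsFractionRing.injective A K)
  haveI : Module.IsTorsionFree A L := Module.isTorsionFree_iff_algebraMap_injective.mpr hinjAL
  haveI : Module.IsTorsionFree A (integralClosure A L) := inferInstance
  haveI : IsScalarTower A V L := IsScalarTower.of_algebraMap_eq (fun _ => rfl)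
  have hBV : ∀ b : integralClosure A L, (b : L) ∈ V := by
    intro b
    have hx' : IsIntegral A (b : L) := b.2
    have hx'' : IsIntegral V (b : L) := hx'.tower_top
    obtain ⟨y, hy⟩ := IsIntegrallyClosed.algebraMap_eq_of_integral hx''
    rw [← hy]
    exact y.2
  letI algBV : Algebra (integralClosure A L) V :=
    (RingHom.codRestrict ((integralClosure A L).val : integralClosure A L →+* L) V hBV).toAlgebra
  have hBVcoe : ∀ b : integralClosure A L, ((algebraMap (integralClosure A L) V b : V) : L) = b :=
    fun b => rfl
  haveI : IsScalarTower A (integralClosure A L) V :=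
    IsScalarTower.of_algebraMap_eq (fun a => Subtype.ext rfl)
  have hBVinj : Function.Injective (algebraMap (integralClosure A L) V) := by
    intro b b' h
    apply Subtype.ext
    rw [← hBVcoe b, ← hBVcoe b', h]
  obtain ⟨P, hPdef⟩ : ∃ P : Ideal (integralClosure A L),
      P = (maximalIdeal V).comap (algebraMap (integralClosure A L) V) := ⟨_, rfl⟩
  have hmemP : ∀ b : integralClosure A L, b ∈ P ↔
      algebraMap (integralClosure A L) V b ∈ maximalIdeal V := by
    intro b; rw [hPdef]; rfl
  haveI hPprime : P.IsPrime := by rw [hPdef]; exact Ideal.comap_isPrime _ _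
  have hPA : P.under A = maximalIdeal A := by
    rw [hPdef]
    ext a
    rw [Ideal.under_def, Ideal.mem_comap, Ideal.mem_comap,
      ← IsScalarTower.algebraMap_apply A (integralClosure A L) V]
    constructor
    · intro h
      rw [mem_maximalIdeal, mem_nonunits_iff] at h ⊢
      exact fun hu => h (hu.map _)
    · intro h
      rw [mem_maximalIdeal, mem_nonunits_iff] at h ⊢
      exact fun hu => h (isUnit_of_map_unit (algebraMap A V) a hu)
  haveI hPlies : P.LiesOver (maximalIdeal A) := ⟨hPA.symm⟩
  haveI hPmax : P.IsMaximal :=
    Ideal.IsMaximal.of_liesOver_isMaximal P (maximalIdeal A)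
  -- `V` is the localization of `B` at `P`
  haveI hlocV : IsLocalization.AtPrime V P := by
    refine (isLocalization_iff _ _).mpr ⟨?_, ?_, ?_⟩
    · intro y
      have hy : (y : integralClosure A L) ∉ P := y.2
      rw [hmemP, mem_maximalIdeal, mem_nonunits_iff, not_not] at hy
      exact hy
    · intro z
      obtain ⟨c, s, hc, hs, hvs, hzs⟩ := exists_integral_frac (A := A) (K := K) V hV (z : L) z.2
      have hsP : (⟨s, hs⟩ : integralClosure A L) ∉ P := by
        rw [hmemP, ValuationSubring.valuation_lt_one_iff]
        rw [show ((algebraMap (integralClosure A L) V ⟨s, hs⟩ : V) : L) = s from rfl, hvs]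
        exact lt_irrefl _
      refine ⟨(⟨c, hc⟩, ⟨⟨s, hs⟩, hsP⟩), ?_⟩
      apply Subtype.ext
      exact hzs
    · intro x y hxy
      exact ⟨1, by rw [hBVinj hxy]⟩
  -- the ramification index
  have he : Ideal.ramificationIdx' (maximalIdeal A) (maximalIdeal V) = P.ramificationIdx A := by
    rw [← Ideal.ramificationIdx'_eq_ramificationIdx (maximalIdeal A) P
      (IsDiscreteValuationRing.not_a_field A)]
    unfold Ideal.ramificationIdx'
    congr 1
    ext n
    simp only [Set.mem_setOf_eq]
    rw [Ideal.map_le_iff_le_comap, Ideal.map_le_iff_le_comap,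
      ← IsLocalization.AtPrime.under_maximalIdeal_pow P V n, Ideal.under_def, Ideal.comap_comap,
      ← IsScalarTower.algebraMap_eq]
  -- the inertia degree
  have hf : Module.finrank (ResidueField A) (ResidueField V) = P.inertiaDeg A := by
    rw [Ideal.inertiaDeg_eq_of_isMaximal (maximalIdeal A) P]
    symm
    apply Algebra.finrank_eq_of_equiv_equiv (RingEquiv.refl (A ⧸ maximalIdeal A))
      (IsLocalization.AtPrime.equivQuotMaximalIdeal P V)
    ext x
    rfl
  have hdvd := e_mul_f_dvd (A := A) (K := K) (L := L) P
  have hfdvd : Module.finrank (ResidueField A) (ResidueField V) ∣ Module.finrank K L := by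
    rw [hf]; exact (Dvd.intro_left _ rfl).trans hdvd
  have hedvd : Ideal.ramificationIdx' (maximalIdeal A) (maximalIdeal V) ∣ Module.finrank K L := by
    rw [he]; exact (Dvd.intro _ rfl).trans hdvd
  have hfpos : 0 < Module.finrank (ResidueField A) (ResidueField V) := by
    rw [hf]; exact Ideal.inertiaDeg_pos P A
  haveI : FiniteDimensional (ResidueField A) (ResidueField V) :=
    Module.finite_of_finrank_pos hfpos
  refine ⟨isSeparable_of_finrank_coprime (fun p hp hc hd => hcop p hp hc (hd.trans hfdvd)), ?_⟩
  intro p hp hc hd
  exact hcop p hp hc (hd.trans hedvd)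

end efg



end Groth.Agent.Lib.GalTameH8
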