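import Mathlib
import Groth.Prelude.Def_EtRam
import Groth.Prelude.Def_FEt

/-!
# Residue field extensions of finite étale morphisms are finite separable (helper8)
-/

set_option autoImplicit false
universe u

namespace Groth.Agent.Lib.GalTameH8

open AlgebraicGeometry CategoryTheory Limits

section ringlevel

/-- a field receiving a finite étale `K`-algebra, surjectively on stalks, is finite separable over `K` -/
theorem finite_separable_of_etale {K E L : Type u} [Field K] [CommRing E] [Algebra K E]
    [Module.Finite K E] [Algebra.Etale K E] [Field L] [Algebra K L] (ψ : E →ₐ[K] L)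
    (hψ : (ψ : E →+* L).SurjectiveOnStalks) :
    FiniteDimensional K L ∧ Algebra.IsSeparable K L := by
  have hsurj : Function.Surjective ψ := by
    intro z
    obtain ⟨x, r, c, hc, hr, e⟩ :=
      (RingHom.surjective_localRingHom_iff (f := (ψ : E →+* L)) (⊥ : Ideal L)).mp
        (hψ ⊥ Ideal.isPrime_bot) z
    have hc0 : c ≠ 0 := fun h => hc (by rw [h]; exact Submodule.zero_mem _)
    have hr0 : ψ r ≠ 0 := fun h => hr (by
      show (ψ : E →+* L) r ∈ (⊥ : Ideal L)
      rw [Ideal.mem_bot]; exact h)
    have e' : ψ r * z = ψ x := by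
      apply mul_left_cancel₀ hc0
      rw [← mul_assoc]; exact e
    have hrmem : ψ r ∈ ψ.range := ⟨r, rfl⟩
    haveI : Algebra.IsIntegral K E := Algebra.IsIntegral.of_finite K E
    have halg : IsAlgebraic K (ψ r) := ((Algebra.IsIntegral.isIntegral (R := K) r).map ψ).isAlgebraic
    have hinv : (ψ r)⁻¹ ∈ ψ.range := ψ.range.inv_mem_of_algebraic (x := ⟨ψ r, hrmem⟩) halg
    obtain ⟨r', hr'⟩ := hinv
    have hr'' : ψ r' = (ψ r)⁻¹ := hr'
    refine ⟨r' * x, ?_⟩
    rw [map_mul, hr'', ← e', ← mul_assoc, inv_mul_cancel₀ hr0, one_mul]
  haveI : Module.Finite K L := Module.Finite.of_surjective ψ.toLinearMap hsurj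
  haveI : Algebra.FormallyUnramified K L := Algebra.FormallyUnramified.of_surjective ψ hsurj
  exact ⟨inferInstance, Algebra.FormallyUnramified.isSeparable K L⟩

end ringlevel

section fibre

variable {W X : Scheme.{u}} (h : W ⟶ X) [IsFinite h] [Etale h] (z : W)

/-- the residue field extension of a finite étale morphism is finite separable -/
theorem residue_finite_separable :
    letI : Algebra (X.residueField (h.base z)) (W.residueField z) :=
      (h.residueFieldMap z).hom.toAlgebra
    FiniteDimensional (X.residueField (h.base z)) (W.residueField z) ∧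
      Algebra.IsSeparable (X.residueField (h.base z)) (W.residueField z) := by
  letI : Algebra (X.residueField (h.base z)) (W.residueField z) :=
    (h.residueFieldMap z).hom.toAlgebra
  let ℓ : Spec (X.residueField (h.base z)) ⟶ X := X.fromSpecResidueField (h.base z)
  let q : pullback h ℓ ⟶ Spec (X.residueField (h.base z)) := pullback.snd h ℓ
  haveI : IsFinite q := inferInstance
  haveI : Etale q := inferInstance
  haveI : IsAffine (pullback h ℓ) := isAffine_of_isAffineHom q
  let B : CommRingCat := Γ(pullback h ℓ, ⊤)
  let e : pullback h ℓ ≅ Spec B := (pullback h ℓ).isoSpec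
  let φ : X.residueField (h.base z) ⟶ B := Spec.preimage (e.inv ≫ q)
  have hφ : Spec.map φ = e.inv ≫ q := Spec.map_preimage _
  have hfin : φ.hom.Finite := by
    rw [← IsFinite.SpecMap_iff, hφ]; infer_instance
  have het : φ.hom.Etale := by
    rw [← HasRingHomProperty.Spec_iff (P := @Etale), hφ]; infer_instance
  let t : Spec (W.residueField z) ⟶ pullback h ℓ := pullback.lift (W.fromSpecResidueField z)
      (Spec.map (h.residueFieldMap z)) (by
        rw [← Scheme.Hom.SpecMap_residueFieldMap_fromSpecResidueField])
  have ht1 : t ≫ pullback.fst h ℓ = W.fromSpecResidueField z := pullback.lift_fst _ _ _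
  have ht2 : t ≫ q = Spec.map (h.residueFieldMap z) := pullback.lift_snd _ _ _
  haveI : SurjectiveOnStalks (t ≫ pullback.fst h ℓ) := by rw [ht1]; infer_instance
  haveI : SurjectiveOnStalks t := SurjectiveOnStalks.of_comp t (pullback.fst h ℓ)
  let ψ : B ⟶ W.residueField z := Spec.preimage (t ≫ e.hom)
  have hψ : Spec.map ψ = t ≫ e.hom := Spec.map_preimage _
  have hψs : ψ.hom.SurjectiveOnStalks := by
    rw [← SurjectiveOnStalks.Spec_iff, hψ]; infer_instance
  have hcomp : φ ≫ ψ = h.residueFieldMap z := by
    apply Spec.map_injective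
    rw [Spec.map_comp, hψ, hφ, Category.assoc, Iso.hom_inv_id_assoc]
    exact ht2
  letI : Algebra (X.residueField (h.base z)) B := φ.hom.toAlgebra
  haveI : Module.Finite (X.residueField (h.base z)) B := hfin
  haveI : Algebra.Etale (X.residueField (h.base z)) B := het
  let ψa : B →ₐ[X.residueField (h.base z)] W.residueField z :=
    { ψ.hom with
      commutes' := fun a => by
        have := congrArg (fun f => f.hom a) hcomp
        exact this }
  exact finite_separable_of_etale ψa hψs

end fibre

end Groth.Agent.Lib.GalTameH8
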