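import Mathlib
import Groth.Prelude.Def_EtRam
import Groth.Prelude.Def_FEt
import Groth.Prelude.Def_PiSp

/-!
# Geometric points over a point and residue field embeddings (helper8)
-/

set_option autoImplicit false
universe u

namespace Groth.Agent.Lib.GalTameH8

open AlgebraicGeometry CategoryTheory Limits

section pts

variable {W : Scheme.{u}}

/-- a morphism from the spectrum of a field with image `z` factors through `Spec κ(z)` -/
theorem exists_factor (F : Type u) [Field F] (u : Spec (CommRingCat.of F) ⟶ W) (z : W)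
    (hz : u (IsLocalRing.closedPoint F) = z) :
    ∃ f : W.residueField z ⟶ CommRingCat.of F, Spec.map f ≫ W.fromSpecResidueField z = u := by
  subst hz
  exact ⟨_, Scheme.descResidueField_stalkClosedPointTo_fromSpecResidueField F W u⟩

/-- all points of the spectrum of a field map to the same point -/
theorem base_eq_of_field (F : Type u) [Field F] (u : Spec (CommRingCat.of F) ⟶ W)
    (p p' : Spec (CommRingCat.of F)) : u.base p = u.base p' := by
  have : p = p' := Subsingleton.elim _ _
  rw [this]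

end pts

section emb

variable {W X : Scheme.{u}} (h : W ⟶ X) (z : W) {Ω : Type u} [Field Ω]

/-- the geometric point of `X` attached to `ι : κ(h z) → Ω` -/
noncomputable def xi (ι : X.residueField (h.base z) →+* Ω) : Spec (CommRingCat.of Ω) ⟶ X :=
  Spec.map (CommRingCat.ofHom ι) ≫ X.fromSpecResidueField (h.base z)

/-- the geometric point of `W` attached to `τ : κ(z) → Ω` -/
noncomputable def pt (τ : W.residueField z →+* Ω) : Spec (CommRingCat.of Ω) ⟶ W :=
  Spec.map (CommRingCat.ofHom τ) ≫ W.fromSpecResidueField z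

theorem pt_comp (ι : X.residueField (h.base z) →+* Ω) (τ : W.residueField z →+* Ω)
    (hτ : τ.comp (h.residueFieldMap z).hom = ι) : pt z τ ≫ h = xi h z ι := by
  unfold pt xi
  rw [Category.assoc, ← Scheme.Hom.SpecMap_residueFieldMap_fromSpecResidueField, ← Category.assoc,
    ← Spec.map_comp, ← hτ]
  rfl

theorem pt_injective (τ τ' : W.residueField z →+* Ω) (hp : pt z τ = pt z τ') : τ = τ' := by
  unfold pt at hp
  rw [cancel_mono] at hp
  have := Spec.map_injective hp
  exact congrArg CommRingCat.Hom.hom this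

theorem pt_base (τ : W.residueField z →+* Ω) (p : Spec (CommRingCat.of Ω)) :
    (pt z τ) p = z := by
  unfold pt
  rw [Scheme.Hom.comp_apply, Scheme.fromSpecResidueField_apply]

theorem pt_surj (ι : X.residueField (h.base z) →+* Ω) (s : Spec (CommRingCat.of Ω) ⟶ W)
    (hs : s ≫ h = xi h z ι) (hz : s (IsLocalRing.closedPoint Ω) = z) :
    ∃ τ : W.residueField z →+* Ω, τ.comp (h.residueFieldMap z).hom = ι ∧ pt z τ = s := by
  obtain ⟨f, hf⟩ := exists_factor Ω s z hz
  refine ⟨f.hom, ?_, hf⟩
  have h1 : Spec.map (h.residueFieldMap z ≫ f) ≫ X.fromSpecResidueField (h.base z) =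
      Spec.map (CommRingCat.ofHom ι) ≫ X.fromSpecResidueField (h.base z) := by
    rw [Spec.map_comp, Category.assoc, Scheme.Hom.SpecMap_residueFieldMap_fromSpecResidueField,
      ← Category.assoc, hf, hs]
    rfl
  rw [cancel_mono] at h1
  have := Spec.map_injective h1
  exact congrArg CommRingCat.Hom.hom this

/-- **Key lemma**: if an endomorphism `σ` of `W` carries the point `pt τ` to `pt τ'`, then `τ' = τ ∘ f`
for a ring endomorphism `f` of `κ(z)`. -/
theorem exists_comp_of_pt (σ : W ⟶ W) (τ τ' : W.residueField z →+* Ω)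
    (hσ : pt z τ ≫ σ = pt z τ') :
    ∃ f : W.residueField z →+* W.residueField z, τ' = τ.comp f := by
  have hz : (W.fromSpecResidueField z ≫ σ)
      (IsLocalRing.closedPoint (W.residueField z)) = z := by
    have h1 := pt_base z τ' (IsLocalRing.closedPoint Ω)
    rw [← hσ] at h1
    unfold pt at h1
    rw [Scheme.Hom.comp_apply, Scheme.Hom.comp_apply, Scheme.fromSpecResidueField_apply] at h1
    rw [Scheme.Hom.comp_apply, Scheme.fromSpecResidueField_apply]
    exact h1
  obtain ⟨f, hf⟩ := exists_factor (W.residueField z) (W.fromSpecResidueField z ≫ σ) z hz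
  refine ⟨f.hom, ?_⟩
  apply pt_injective z
  rw [← hσ]
  unfold pt
  rw [Category.assoc, ← hf, ← Category.assoc, ← Spec.map_comp]
  rfl

end emb

section galois

variable {X : Scheme.{u}} (Z : FEt.Cat X) (z : Z.left) {Ω : Type u} [Field Ω] [IsAlgClosed Ω]

theorem fiber_map_val (ξ : Spec (CommRingCat.of Ω) ⟶ X) (σ : Z ⟶ Z) (s : FEt.fiberObj ξ Z) :
    ((FEt.fiber ξ).map σ s).1 = s.1 ≫ σ.left := rfl

include Ω in
/-- transitivity of the Galois group on embeddings -/
theorem exists_comp_of_galois (hZ : PiSp.IsGaloisCover Z)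
    (ι : X.residueField (Z.hom.base z) →+* Ω) (τ τ' : Z.left.residueField z →+* Ω)
    (hτ : τ.comp (Z.hom.residueFieldMap z).hom = ι)
    (hτ' : τ'.comp (Z.hom.residueFieldMap z).hom = ι) :
    ∃ f : Z.left.residueField z →+* Z.left.residueField z, τ' = τ.comp f := by
  obtain ⟨σ, hσ⟩ := hZ.2 Ω (xi Z.hom z ι) ⟨pt z τ, pt_comp Z.hom z ι τ hτ⟩
    ⟨pt z τ', pt_comp Z.hom z ι τ' hτ'⟩
  have h1 := congrArg Subtype.val hσ
  rw [fiber_map_val] at h1
  exact exists_comp_of_pt z σ.hom.left τ τ' h1

end galois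

section count

variable {X : Scheme.{u}} (Z : FEt.Cat X) (z : Z.left) {Ω : Type u} [Field Ω] [IsAlgClosed Ω]

/-- the action of the automorphism group on a geometric fibre -/
noncomputable instance fiberAction (ξ : Spec (CommRingCat.of Ω) ⟶ X) :
    MulAction (Aut Z) (FEt.fiberObj ξ Z) where
  smul σ s := (FEt.fiber ξ).map σ.hom s
  one_smul s := Subtype.ext (by
    show s.1 ≫ (𝟙 Z : Z ⟶ Z).left = s.1
    simp)
  mul_smul σ σ' s := Subtype.ext (by
    show s.1 ≫ (σ * σ').hom.left = (s.1 ≫ σ'.hom.left) ≫ σ.hom.left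
    rw [Aut.Aut_mul_def]
    simp)

theorem smul_val (ξ : Spec (CommRingCat.of Ω) ⟶ X) (σ : Aut Z) (s : FEt.fiberObj ξ Z) :
    (σ • s).1 = s.1 ≫ σ.hom.left := rfl

/-- the decomposition group of the point `z` -/
def decomp : Subgroup (Aut Z) where
  carrier := {σ | σ.hom.left z = z}
  one_mem' := by
    show (𝟙 Z : Z ⟶ Z).left z = z
    simp
  mul_mem' := by
    intro σ σ' hσ hσ'
    show (σ * σ').hom.left z = z
    rw [Aut.Aut_mul_def]
    show (σ'.hom ≫ σ.hom).left z = z
    have : (σ'.hom ≫ σ.hom).left = σ'.hom.left ≫ σ.hom.left := rfl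
    rw [this, Scheme.Hom.comp_apply]
    have h1 : σ'.hom.left z = z := hσ'
    have h2 : σ.hom.left z = z := hσ
    rw [h1, h2]
  inv_mem' := by
    intro σ hσ
    show σ⁻¹.hom.left z = z
    have h2 : σ.hom.left z = z := hσ
    have h3 : (σ.hom ≫ σ.inv).left z = z := by
      rw [Iso.hom_inv_id]; simp
    have : (σ.hom ≫ σ.inv).left = σ.hom.left ≫ σ.inv.left := rfl
    rw [this, Scheme.Hom.comp_apply, h2] at h3
    exact h3

include Ω in
/-- **Counting**: the number of embeddings `κ(z) → Ω` over `ι` divides the order of `Aut Z`. -/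
theorem card_emb_dvd (hZ : PiSp.IsGaloisCover Z)
    (ι : X.residueField (Z.hom.base z) →+* Ω) (τ₀ : Z.left.residueField z →+* Ω)
    (hτ₀ : τ₀.comp (Z.hom.residueFieldMap z).hom = ι) :
    Nat.card {τ : Z.left.residueField z →+* Ω // τ.comp (Z.hom.residueFieldMap z).hom = ι} ∣
      Nat.card (Aut Z) := by
  classical
  let s₀ : FEt.fiberObj (xi Z.hom z ι) Z := ⟨pt z τ₀, pt_comp Z.hom z ι τ₀ hτ₀⟩
  -- the orbit of `s₀` under the decomposition group
  have horb : MulAction.orbit (decomp Z z) s₀ =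
      {s : FEt.fiberObj (xi Z.hom z ι) Z | s.1 (IsLocalRing.closedPoint Ω) = z} := by
    ext s
    constructor
    · rintro ⟨σ, rfl⟩
      show ((σ : Aut Z) • s₀).1 (IsLocalRing.closedPoint Ω) = z
      rw [smul_val, Scheme.Hom.comp_apply]
      have h1 : s₀.1 (IsLocalRing.closedPoint Ω) = z := pt_base z τ₀ _
      rw [h1]
      exact σ.2
    · intro hs
      have hs' : s.1 (IsLocalRing.closedPoint Ω) = z := hs
      obtain ⟨σ, hσ⟩ := hZ.2 Ω (xi Z.hom z ι) s₀ s
      have hσ' : σ • s₀ = s := hσ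
      have hmem : σ ∈ decomp Z z := by
        show σ.hom.left z = z
        have h1 := congrArg (fun t : FEt.fiberObj (xi Z.hom z ι) Z =>
          t.1 (IsLocalRing.closedPoint Ω)) hσ'
        simp only at h1
        rw [smul_val, Scheme.Hom.comp_apply, hs'] at h1
        have h2 : s₀.1 (IsLocalRing.closedPoint Ω) = z := pt_base z τ₀ _
        rw [h2] at h1
        exact h1
      exact ⟨⟨σ, hmem⟩, hσ'⟩
  -- embeddings ↔ points of the fibre over `z`
  let e : {τ : Z.left.residueField z →+* Ω // τ.comp (Z.hom.residueFieldMap z).hom = ι} →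
      {s : FEt.fiberObj (xi Z.hom z ι) Z | s.1 (IsLocalRing.closedPoint Ω) = z} :=
    fun τ => ⟨⟨pt z τ.1, pt_comp Z.hom z ι τ.1 τ.2⟩, pt_base z τ.1 _⟩
  have he : Function.Bijective e := by
    constructor
    · intro τ τ' hττ'
      apply Subtype.ext
      apply pt_injective z
      exact congrArg (fun t => t.1.1) hττ'
    · rintro ⟨s, hs⟩
      obtain ⟨τ, hτ, hpt⟩ := pt_surj Z.hom z ι s.1 s.2 hs
      exact ⟨⟨τ, hτ⟩, Subtype.ext (Subtype.ext hpt)⟩
  rw [Nat.card_eq_of_bijective e he, ← horb, Nat.card_coe_set_eq, ← MulAction.index_stabilizer]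
  exact (Subgroup.index_dvd_card _).trans (Subgroup.card_subgroup_dvd_card _)

end count

end Groth.Agent.Lib.GalTameH8
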