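import Mathlib
import Groth.Prelude.Def_EtRam
import Groth.Prelude.Def_FEt
import Groth.Prelude.Def_PiSp
import Groth.Agent.Lib.GalTame1_helper8
import Groth.Agent.Lib.GalTame2_helper8
import Groth.Agent.Lib.GalTame3_helper8

/-!
# S18597: Galois covers of order prime to p are tame at every place (helper8)
-/

set_option autoImplicit false
universe u

namespace Groth.Agent.Lib.GalTameH8

open AlgebraicGeometry CategoryTheory Limits

section field

/-- transitivity of `End(L/K)` on embeddings implies Galois -/
theorem isGalois_of_transitive {K L Ω : Type u} [Field K] [Field L] [Field Ω] [Algebra K L]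
    [Algebra K Ω] [IsAlgClosed Ω] [FiniteDimensional K L] [Algebra.IsSeparable K L]
    (H : ∀ τ τ' : L →ₐ[K] Ω, ∃ f : L →+* L, (τ' : L →+* Ω) = (τ : L →+* Ω).comp f) :
    IsGalois K L ∧ Nat.card (L →ₐ[K] Ω) = Module.finrank K L := by
  have hcard : Nat.card (L →ₐ[K] Ω) = Module.finrank K L := by
    rw [← Field.finSepDegree_eq_of_isAlgClosed K L Ω, Field.finSepDegree_eq_finrank_of_isSeparable]
  refine ⟨?_, hcard⟩
  let τ₀ : L →ₐ[K] Ω := IsAlgClosed.lift
  let Φ : (L →ₐ[K] L) → (L →ₐ[K] Ω) := fun f => τ₀.comp f
  have hΦ : Function.Bijective Φ := by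
    constructor
    · intro f f' hff'
      ext x
      have := congrArg (fun φ : L →ₐ[K] Ω => φ x) hff'
      exact τ₀.injective this
    · intro τ'
      obtain ⟨f, hf⟩ := H τ₀ τ'
      have hfK : ∀ c : K, f (algebraMap K L c) = algebraMap K L c := by
        intro c
        apply τ₀.injective
        have h1 := congrArg (fun φ : L →+* Ω => φ (algebraMap K L c)) hf
        simp only [RingHom.comp_apply] at h1
        have h2 : (τ' : L →+* Ω) (algebraMap K L c) = algebraMap K Ω c := τ'.commutes c
        have h3 : τ₀ (algebraMap K L c) = algebraMap K Ω c := τ₀.commutes c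
        rw [h2] at h1
        show τ₀ (f (algebraMap K L c)) = τ₀ (algebraMap K L c)
        rw [h3]
        exact h1.symm
      refine ⟨{ f with commutes' := hfK }, ?_⟩
      ext x
      have h1 := congrArg (fun φ : L →+* Ω => φ x) hf
      exact h1.symm
  apply IsGalois.of_card_aut_eq_finrank
  rw [Nat.card_congr (algEquivEquivAlgHom K L).toEquiv, Nat.card_eq_of_bijective Φ hΦ, hcard]

end field

section main

/-- algebra homs to `Ω` as ring homs over `ι` -/
def algHomEquivSubtype {K L Ω : Type u} [Field K] [Field L] [Field Ω] [Algebra K L] [Algebra K Ω] :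
    (L →ₐ[K] Ω) ≃ {τ : L →+* Ω // τ.comp (algebraMap K L) = algebraMap K Ω} where
  toFun τ := ⟨τ.toRingHom, by ext c; exact τ.commutes c⟩
  invFun τ := { τ.1 with commutes' := fun c => congrArg (fun φ : K →+* Ω => φ c) τ.2 }
  left_inv τ := by ext x; rfl
  right_inv τ := by ext x; rfl

set_option maxHeartbeats 1600000 in
theorem main18597 (k : Type u) [Field k] {X : Scheme.{u}}
    (Z : FEt.Cat X) (hZ : PiSp.IsGaloisCover Z) (hn : (Nat.card (Aut Z) : k) ≠ 0) (z : Z.left)
    (A : ValuationSubring (X.residueField (Z.hom.base z))) [IsDiscreteValuationRing A]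
    (a : Spec (CommRingCat.of A) ⟶ Spec (CommRingCat.of k)) :
    EtRam.IsTamelyRamified A ((Z.hom.residueFieldMap z).hom.comp A.subtype) := by
  haveI : IsFinite Z.hom := Z.prop.1
  haveI : Etale Z.hom := Z.prop.2
  letI algKL : Algebra (X.residueField (Z.hom.base z)) (Z.left.residueField z) :=
    (Z.hom.residueFieldMap z).hom.toAlgebra
  have hfs := residue_finite_separable Z.hom z
  haveI hfd : FiniteDimensional (X.residueField (Z.hom.base z)) (Z.left.residueField z) := hfs.1
  haveI hsep : Algebra.IsSeparable (X.residueField (Z.hom.base z)) (Z.left.residueField z) := hfs.2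
  have H : ∀ τ τ' : Z.left.residueField z →ₐ[X.residueField (Z.hom.base z)]
      AlgebraicClosure (X.residueField (Z.hom.base z)),
      ∃ f : Z.left.residueField z →+* Z.left.residueField z,
        (τ' : Z.left.residueField z →+* AlgebraicClosure (X.residueField (Z.hom.base z))) =
          (τ : Z.left.residueField z →+* AlgebraicClosure (X.residueField (Z.hom.base z))).comp f := by
    intro τ τ'
    exact exists_comp_of_galois Z z hZ
      (algebraMap (X.residueField (Z.hom.base z)) (AlgebraicClosure (X.residueField (Z.hom.base z))))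
      τ τ' (by ext c; exact τ.commutes c) (by ext c; exact τ'.commutes c)
  obtain ⟨hgal, hcard⟩ := isGalois_of_transitive H
  haveI := hgal
  have hdvd : Module.finrank (X.residueField (Z.hom.base z)) (Z.left.residueField z) ∣
      Nat.card (Aut Z) := by
    rw [← hcard, Nat.card_congr algHomEquivSubtype]
    let τ₀ : Z.left.residueField z →ₐ[X.residueField (Z.hom.base z)]
      AlgebraicClosure (X.residueField (Z.hom.base z)) := IsAlgClosed.lift
    exact card_emb_dvd Z z hZ
      (algebraMap (X.residueField (Z.hom.base z)) (AlgebraicClosure (X.residueField (Z.hom.base z))))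
      (τ₀ : Z.left.residueField z →+* AlgebraicClosure (X.residueField (Z.hom.base z)))
      (by ext c; exact τ₀.commutes c)
  letI algAL : Algebra A (Z.left.residueField z) :=
    ((Z.hom.residueFieldMap z).hom.comp A.subtype).toAlgebra
  haveI : IsScalarTower A (X.residueField (Z.hom.base z)) (Z.left.residueField z) :=
    IsScalarTower.of_algebraMap_eq (fun _ => rfl)
  apply tame_of_galois_coprime (A := A) (K := X.residueField (Z.hom.base z))
    (L := Z.left.residueField z)
  intro p hp hchar hpd
  let φ : k →+* IsLocalRing.ResidueField A :=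
    (IsLocalRing.residue A).comp (Spec.preimage a).hom
  haveI : CharP k p := (φ.charP_iff_charP p).mpr hchar
  apply hn
  rw [CharP.cast_eq_zero_iff k p]
  exact hpd.trans hdvd

end main

end Groth.Agent.Lib.GalTameH8
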