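import Mathlib

/-!
# Trivial inertia implies unramified (helper3)

Let a finite group `G` act on a commutative ring `S` by `R`-algebra automorphisms such that all
traces `∑ τ, τ • s` come from `R`.  If a prime `P` of `S` has trivial inertia
(`∀ τ ≠ 1, ∃ a, τ • a - a ∉ P`), then `S` is unramified over `R` at `P`.

The proof is the elementary Chase–Harrison–Rosenberg computation in `S ⊗[R] S`.
-/

set_option autoImplicit false

namespace Groth.Agent.Lib.InertiaUnramH3

open TensorProduct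

section

variable {R S G : Type*} [CommRing R] [CommRing S] [Algebra R S] [Group G] [Fintype G]
  [MulSemiringAction G S] [SMulCommClass G R S]

variable (R) in
/-- `τ` as an `R`-algebra endomorphism -/
noncomputable def act (τ : G) : S →ₐ[R] S := MulSemiringAction.toAlgHom R S τ

@[simp] lemma act_apply (τ : G) (s : S) : act R τ s = τ • s := rfl

lemma act_one : act R (1 : G) = AlgHom.id R S := AlgHom.ext fun s => one_smul G s

variable (R) in
/-- `a ⊗ b ↦ a * τ b` -/
noncomputable def phi (τ : G) : S ⊗[R] S →ₐ[R] S :=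
  Algebra.TensorProduct.productMap (AlgHom.id R S) (act R τ)

lemma phi_tmul (τ : G) (a b : S) : phi R τ (a ⊗ₜ[R] b) = a * τ • b := rfl

lemma phi_one_eq (z : S ⊗[R] S) : phi R (1 : G) z = Algebra.TensorProduct.lmul' R z := by
  induction z using TensorProduct.induction_on with
  | zero => simp
  | tmul a b => rw [phi_tmul, one_smul]; rfl
  | add x y hx hy => rw [map_add, map_add, hx, hy]

variable (R) in
/-- `id ⊗ τ` -/
noncomputable def idTau (τ : G) : S ⊗[R] S →ₐ[R] S ⊗[R] S :=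
  Algebra.TensorProduct.map (AlgHom.id R S) (act R τ)

lemma idTau_tmul (τ : G) (a b : S) : idTau R τ (a ⊗ₜ[R] b) = a ⊗ₜ[R] (τ • b) := rfl

lemma idTau_one (w : S ⊗[R] S) : idTau R (1 : G) w = w := by
  induction w using TensorProduct.induction_on with
  | zero => simp
  | tmul a b => rw [idTau_tmul, one_smul]
  | add x y hx hy => rw [map_add, hx, hy]

variable (R) in
/-- `x ⊗ y ↦ τ y ⊗ x` -/
noncomputable def tauComm (τ : G) : S ⊗[R] S →ₐ[R] S ⊗[R] S :=
  (Algebra.TensorProduct.map (act R τ) (AlgHom.id R S)).comp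
    (Algebra.TensorProduct.comm R S S).toAlgHom

lemma tauComm_tmul (τ : G) (x y : S) : tauComm R τ (x ⊗ₜ[R] y) = (τ • y) ⊗ₜ[R] x := rfl

/-- the key identity -/
theorem key_identity (htr : ∀ s : S, ∃ r : R, algebraMap R S r = ∑ τ : G, τ • s)
    (w e : S ⊗[R] S) :
    ∑ τ : G, (phi R τ w ⊗ₜ[R] (1 : S)) * tauComm R τ e =
      ∑ τ : G, ((1 : S) ⊗ₜ[R] phi R τ e) * idTau R τ w := by
  induction w using TensorProduct.induction_on with
  | zero => simp
  | add w₁ w₂ h₁ h₂ =>
    simp only [map_add, TensorProduct.add_tmul, add_mul, mul_add, Finset.sum_add_distrib, h₁, h₂]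
  | tmul a b =>
    induction e using TensorProduct.induction_on with
    | zero => simp
    | add e₁ e₂ h₁ h₂ =>
      simp only [map_add, TensorProduct.tmul_add, add_mul, mul_add, Finset.sum_add_distrib,
        h₁, h₂]
    | tmul x y =>
      obtain ⟨r, hr⟩ := htr (b * y)
      have hL : ∑ τ : G, (phi R τ (a ⊗ₜ[R] b) ⊗ₜ[R] (1 : S)) * tauComm R τ (x ⊗ₜ[R] y) =
          (a * ∑ τ : G, τ • (b * y)) ⊗ₜ[R] x := by
        rw [Finset.mul_sum, TensorProduct.sum_tmul]
        refine Finset.sum_congr rfl fun τ _ => ?_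
        rw [phi_tmul, tauComm_tmul, Algebra.TensorProduct.tmul_mul_tmul, one_mul, smul_mul',
          mul_assoc]
      have hR : ∑ τ : G, ((1 : S) ⊗ₜ[R] phi R τ (x ⊗ₜ[R] y)) * idTau R τ (a ⊗ₜ[R] b) =
          a ⊗ₜ[R] (x * ∑ τ : G, τ • (b * y)) := by
        rw [Finset.mul_sum, TensorProduct.tmul_sum]
        refine Finset.sum_congr rfl fun τ _ => ?_
        rw [phi_tmul, idTau_tmul, Algebra.TensorProduct.tmul_mul_tmul, one_mul, smul_mul']
        congr 1
        ring
      rw [hL, hR, ← hr, mul_comm a, mul_comm x, ← Algebra.smul_def, ← Algebra.smul_def,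
        TensorProduct.smul_tmul]

theorem mul_eq_zero_of_phi_eq_zero (htr : ∀ s : S, ∃ r : R, algebraMap R S r = ∑ τ : G, τ • s)
    (e w : S ⊗[R] S) (he : ∀ τ : G, τ ≠ 1 → phi R τ e = 0) (hw : ∀ τ : G, phi R τ w = 0) :
    ((1 : S) ⊗ₜ[R] phi R (1 : G) e) * w = 0 := by
  have h := key_identity htr w e
  rw [Finset.sum_eq_zero (fun τ _ => by rw [hw τ, TensorProduct.zero_tmul, zero_mul])] at h
  rw [Finset.sum_eq_single (1 : G)
    (fun τ _ hτ => by rw [he τ hτ, TensorProduct.tmul_zero, zero_mul])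
    (fun h => absurd (Finset.mem_univ _) h), idTau_one] at h
  exact h.symm

/-- Trivial inertia at `P` gives an element outside `P` killing all differentials. -/
theorem exists_smul_eq_zero (htr : ∀ s : S, ∃ r : R, algebraMap R S r = ∑ τ : G, τ • s)
    (P : Ideal S) [P.IsPrime] (hP : ∀ τ : G, τ ≠ 1 → ∃ a : S, τ • a - a ∉ P) :
    ∃ c : S, c ∉ P ∧ ∀ ω : Ω[S⁄R], c • ω = 0 := by
  classical
  have hP' : ∀ τ : G, ∃ a : S, τ ≠ 1 → τ • a - a ∉ P := by
    intro τ
    by_cases h : τ = 1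
    · exact ⟨0, fun h' => absurd h h'⟩
    · obtain ⟨a, ha⟩ := hP τ h
      exact ⟨a, fun _ => ha⟩
  choose a ha using hP'
  let eτ : G → S ⊗[R] S := fun τ => (1 : S) ⊗ₜ[R] a τ - (τ • a τ) ⊗ₜ[R] (1 : S)
  have hphi : ∀ ρ τ : G, phi R ρ (eτ τ) = ρ • a τ - τ • a τ := by
    intro ρ τ
    simp only [eτ, map_sub, phi_tmul, one_mul, smul_one, mul_one]
  let e : S ⊗[R] S := ∏ τ ∈ Finset.univ.erase (1 : G), eτ τ
  have he : ∀ ρ : G, ρ ≠ 1 → phi R ρ e = 0 := by
    intro ρ hρ
    rw [map_prod]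
    refine Finset.prod_eq_zero (Finset.mem_erase.2 ⟨hρ, Finset.mem_univ ρ⟩) ?_
    rw [hphi, sub_self]
  set c₀ : S := phi R (1 : G) e with hc₀
  have hc₀P : c₀ ∉ P := by
    rw [hc₀, map_prod]
    intro hmem
    obtain ⟨τ, hτ, hτP⟩ := (Ideal.IsPrime.prod_mem_iff).1 hmem
    rw [hphi, one_smul] at hτP
    have := ha τ (Finset.mem_erase.1 hτ).1
    apply this
    have : τ • a τ - a τ = -(a τ - τ • a τ) := by ring
    rw [this]
    exact neg_mem hτP
  refine ⟨c₀ ^ 2, fun h => hc₀P (Ideal.IsPrime.mem_of_pow_mem inferInstance 2 h), ?_⟩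
  -- the tensor computation
  set I := KaehlerDifferential.ideal R S with hI
  have hmemI : ∀ z : S ⊗[R] S, z ∈ I ↔ phi R (1 : G) z = 0 := by
    intro z
    rw [phi_one_eq]
    exact RingHom.mem_ker (f := (Algebra.TensorProduct.lmul' R : S ⊗[R] S →ₐ[R] S))
  have key : ∀ b : S, ((c₀ ^ 2) ⊗ₜ[R] (1 : S)) * ((1 : S) ⊗ₜ[R] b - b ⊗ₜ[R] (1 : S)) ∈ I ^ 2 := by
    intro b
    set z : S ⊗[R] S := (1 : S) ⊗ₜ[R] b - b ⊗ₜ[R] (1 : S) with hz
    have hzI : z ∈ I := KaehlerDifferential.one_smul_sub_smul_one_mem_ideal R b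
    set u : S ⊗[R] S := (1 : S) ⊗ₜ[R] c₀ with hu
    have h0 : u * (e * z) = 0 := by
      refine mul_eq_zero_of_phi_eq_zero htr e (e * z) he ?_
      intro τ
      by_cases hτ : τ = 1
      · subst hτ
        rw [map_mul, (hmemI z).1 hzI, mul_zero]
      · rw [map_mul, he τ hτ, zero_mul]
    set i₁ : S ⊗[R] S := c₀ ⊗ₜ[R] (1 : S) - (1 : S) ⊗ₜ[R] c₀ with hi₁
    have hi₁I : i₁ ∈ I := by
      have := KaehlerDifferential.one_smul_sub_smul_one_mem_ideal R c₀
      have h2 : i₁ = -((1 : S) ⊗ₜ[R] c₀ - c₀ ⊗ₜ[R] (1 : S)) := by rw [hi₁]; ring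
      rw [h2]
      exact neg_mem this
    have hi₀I : e - u ∈ I := by
      rw [hmemI, map_sub, ← hc₀, hu, phi_tmul, one_smul, one_mul, sub_self]
    have hsq : ((c₀ ^ 2) ⊗ₜ[R] (1 : S) : S ⊗[R] S) = (u + i₁) ^ 2 := by
      have : u + i₁ = c₀ ⊗ₜ[R] (1 : S) := by rw [hu, hi₁]; ring
      rw [this, Algebra.TensorProduct.tmul_pow, one_pow]
    have hid : (u + i₁) ^ 2 * z = u * (e * z) - u * ((e - u) * z) + (2 * u + i₁) * (i₁ * z) := by
      ring
    rw [hsq, hid, h0, zero_sub]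
    refine Ideal.add_mem _ (neg_mem (Ideal.mul_mem_left _ _ ?_))
      (Ideal.mul_mem_left _ _ ?_)
    · rw [pow_two]; exact Ideal.mul_mem_mul hi₀I hzI
    · rw [pow_two]; exact Ideal.mul_mem_mul hi₁I hzI
  have hD : ∀ b : S, (c₀ ^ 2) • KaehlerDifferential.D R S b = 0 := by
    intro b
    have h1 : ((c₀ ^ 2) • (1 : S ⊗[R] S)) = (c₀ ^ 2) ⊗ₜ[R] (1 : S) := by
      rw [Algebra.TensorProduct.one_def, TensorProduct.smul_tmul', smul_eq_mul, mul_one]
    generalize hx : (⟨(1 : S) ⊗ₜ[R] b - b ⊗ₜ[R] (1 : S),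
      KaehlerDifferential.one_smul_sub_smul_one_mem_ideal R b⟩ :
        KaehlerDifferential.ideal R S) = x
    have hDb : KaehlerDifferential.D R S b = KaehlerDifferential.fromIdeal R S x := by
      rw [← hx]; rfl
    rw [hDb, ← smul_one_smul (S ⊗[R] S) (c₀ ^ 2) (KaehlerDifferential.fromIdeal R S x), h1,
      ← map_smul]
    show (KaehlerDifferential.ideal R S).toCotangent _ = 0
    rw [Ideal.toCotangent_eq_zero, ← hx]
    exact key b
  intro ω
  have hω : ω ∈ Submodule.span S (Set.range (KaehlerDifferential.D R S)) := by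
    rw [KaehlerDifferential.span_range_derivation]; exact Submodule.mem_top
  induction hω using Submodule.span_induction with
  | mem x hx =>
    obtain ⟨b, rfl⟩ := hx
    exact hD b
  | zero => exact smul_zero _
  | add x y _ _ hx hy => rw [smul_add, hx, hy, add_zero]
  | smul s x _ hx => rw [smul_comm, hx, smul_zero]

/-- Trivial inertia at `P` implies unramified at `P`. -/
theorem isUnramifiedAt (htr : ∀ s : S, ∃ r : R, algebraMap R S r = ∑ τ : G, τ • s)
    (P : Ideal S) [hPp : P.IsPrime] (hP : ∀ τ : G, τ ≠ 1 → ∃ a : S, τ • a - a ∉ P) :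
    Algebra.IsUnramifiedAt R P := by
  obtain ⟨c, hc, hω⟩ := exists_smul_eq_zero htr P hP
  have hmem : (⟨P, hPp⟩ : PrimeSpectrum S) ∈ Algebra.unramifiedLocus R S := by
    rw [Algebra.unramifiedLocus_eq_compl_support, Set.mem_compl_iff,
      Module.notMem_support_iff']
    intro ω
    exact ⟨c, hc, hω ω⟩
  exact hmem

end

end Groth.Agent.Lib.InertiaUnramH3
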