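import Mathlib
import Groth.Agent.Lib.InertiaUnram_helper3

/-!
# Trivial inertia implies flatness over the invariants, locally (helper3)

Let a finite group `G` act on `S` by `R`-algebra automorphisms with all traces and norms in `R`
(and `R → S` injective).  If a prime `q` of `S` over `p` has the property that all its conjugates
have trivial inertia, then `R_p → S_q` is flat.  This is the Chase–Harrison–Rosenberg argument:
we construct `e = ∑ xᵢ ⊗ yᵢ` with `∑ xᵢ τ(yᵢ) = 0` for `τ ≠ 1` and `c₀ = ∑ xᵢ yᵢ` outside all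
conjugates of `q`; then `c₀ s = ∑ tr(yᵢ s) xᵢ` exhibits `S_p` as a retract of a free `R_p`-module.
-/

set_option autoImplicit false

namespace Groth.Agent.Lib.GaloisSplitH3

open TensorProduct Groth.Agent.Lib.InertiaUnramH3

section Split

variable {R S G : Type*} [CommRing R] [CommRing S] [Algebra R S] [Group G] [Fintype G]
  [MulSemiringAction G S] [SMulCommClass G R S]

/-- for `j` in the ideal generated by the `τ a - a`, there is `e` with `φ_τ e = 0`, `φ_1 e = j` -/
lemma exists_tensor_of_mem (τ : G) (j : S)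
    (hj : j ∈ Ideal.span (Set.range fun a : S => τ • a - a)) :
    ∃ e : S ⊗[R] S, phi R τ e = 0 ∧ phi R (1 : G) e = j := by
  induction hj using Submodule.span_induction with
  | mem x hx =>
    obtain ⟨a, rfl⟩ := hx
    refine ⟨(τ • a) ⊗ₜ[R] (1 : S) - (1 : S) ⊗ₜ[R] a, ?_, ?_⟩
    · simp only [map_sub, phi_tmul, smul_one, mul_one, one_mul, sub_self]
    · simp only [map_sub, phi_tmul, smul_one, mul_one, one_mul, one_smul]
  | zero => exact ⟨0, map_zero _, map_zero _⟩
  | add x y _ _ hx hy =>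
    obtain ⟨e₁, h₁, h₁'⟩ := hx
    obtain ⟨e₂, h₂, h₂'⟩ := hy
    exact ⟨e₁ + e₂, by rw [map_add, h₁, h₂, add_zero], by rw [map_add, h₁', h₂']⟩
  | smul s x _ hx =>
    obtain ⟨e, h, h'⟩ := hx
    refine ⟨(s ⊗ₜ[R] (1 : S)) * e, by rw [map_mul, h, mul_zero], ?_⟩
    rw [map_mul, h', phi_tmul, smul_one, mul_one, smul_eq_mul]

/-- the CHR element -/
theorem exists_tensor (Q : Ideal S) [Q.IsPrime]
    (hQ : ∀ σ τ : G, τ ≠ 1 → ∃ a : S, σ • (τ • a - a) ∉ Q) :
    ∃ e : S ⊗[R] S, (∀ ρ : G, ρ ≠ 1 → phi R ρ e = 0) ∧ ∀ σ : G, σ • phi R (1 : G) e ∉ Q := by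
  classical
  have hj : ∀ τ : G, ∃ j : S, τ ≠ 1 →
      (j ∈ Ideal.span (Set.range fun a : S => τ • a - a) ∧ ∀ σ : G, σ • j ∉ Q) := by
    intro τ
    by_cases hτ : τ = 1
    · exact ⟨0, fun h => absurd hτ h⟩
    · let f : G → Ideal S := fun σ => Q.comap (MulSemiringAction.toRingHom G S σ)
      have hnot : ¬ (((Ideal.span (Set.range fun a : S => τ • a - a) : Ideal S) : Set S) ⊆
          ⋃ σ ∈ ((Finset.univ : Finset G) : Set G), f σ) := by
        rw [Ideal.subset_union_prime (1 : G) (1 : G)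
          (fun σ _ _ _ => Ideal.comap_isPrime _ _)]
        rintro ⟨σ, -, hσ⟩
        obtain ⟨a, ha⟩ := hQ σ τ hτ
        exact ha (hσ (Ideal.subset_span ⟨a, rfl⟩))
      obtain ⟨j, hjJ, hjn⟩ := Set.not_subset.1 hnot
      refine ⟨j, fun _ => ⟨hjJ, fun σ hσ => hjn ?_⟩⟩
      simp only [Set.mem_iUnion]
      exact ⟨σ, Finset.mem_coe.2 (Finset.mem_univ σ), hσ⟩
  choose j hj using hj
  have he : ∀ τ : G, ∃ e : S ⊗[R] S, τ ≠ 1 → (phi R τ e = 0 ∧ phi R (1 : G) e = j τ) := by
    intro τ
    by_cases hτ : τ = 1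
    · exact ⟨0, fun h => absurd hτ h⟩
    · obtain ⟨e, h1, h2⟩ := exists_tensor_of_mem (R := R) τ (j τ) (hj τ hτ).1
      exact ⟨e, fun _ => ⟨h1, h2⟩⟩
  choose eτ heτ using he
  refine ⟨∏ τ ∈ Finset.univ.erase (1 : G), eτ τ, ?_, ?_⟩
  · intro ρ hρ
    rw [map_prod]
    exact Finset.prod_eq_zero (Finset.mem_erase.2 ⟨hρ, Finset.mem_univ ρ⟩) (heτ ρ hρ).1
  · intro σ hmem
    have h1 : σ • phi R (1 : G) (∏ τ ∈ Finset.univ.erase (1 : G), eτ τ) =
        ∏ τ ∈ Finset.univ.erase (1 : G), σ • j τ := by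
      rw [map_prod]
      show MulSemiringAction.toRingHom G S σ _ = _
      rw [map_prod]
      refine Finset.prod_congr rfl fun τ hτ => ?_
      rw [(heτ τ (Finset.mem_erase.1 hτ).1).2]
      rfl
    rw [h1] at hmem
    obtain ⟨τ, hτ, hτQ⟩ := (Ideal.IsPrime.prod_mem_iff).1 hmem
    exact (hj τ (Finset.mem_erase.1 hτ).1).2 σ hτQ

variable (R) in
/-- the trace `S → R` -/
noncomputable def trace (hinj : Function.Injective (algebraMap R S))
    (htr : ∀ s : S, ∃ r : R, algebraMap R S r = ∑ τ : G, τ • s) : S →ₗ[R] R where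
  toFun s := (htr s).choose
  map_add' s t := hinj (by
    rw [map_add, (htr s).choose_spec, (htr t).choose_spec, (htr (s + t)).choose_spec]
    simp only [smul_add, Finset.sum_add_distrib])
  map_smul' r s := hinj (by
    rw [RingHom.id_apply, smul_eq_mul, map_mul, (htr s).choose_spec,
      (htr (r • s)).choose_spec, Finset.mul_sum]
    refine Finset.sum_congr rfl fun τ _ => ?_
    rw [smul_comm τ r s, Algebra.smul_def])

lemma algebraMap_trace (hinj : Function.Injective (algebraMap R S))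
    (htr : ∀ s : S, ∃ r : R, algebraMap R S r = ∑ τ : G, τ • s) (s : S) :
    algebraMap R S (trace R hinj htr s) = ∑ τ : G, τ • s :=
  (htr s).choose_spec

/-- the splitting up to an element outside all conjugates of `Q` -/
theorem exists_split (hinj : Function.Injective (algebraMap R S))
    (htr : ∀ s : S, ∃ r : R, algebraMap R S r = ∑ τ : G, τ • s)
    (Q : Ideal S) [Q.IsPrime]
    (hQ : ∀ σ τ : G, τ ≠ 1 → ∃ a : S, σ • (τ • a - a) ∉ Q) :
    ∃ (n : ℕ) (f : S →ₗ[R] (Fin n → R)) (x : Fin n → S) (c₀ : S),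
      (∀ σ : G, σ • c₀ ∉ Q) ∧ ∀ s : S, ∑ i, f s i • x i = c₀ * s := by
  classical
  obtain ⟨e, he0, heQ⟩ := exists_tensor (R := R) Q hQ
  obtain ⟨n, x, y, hxy⟩ := TensorProduct.exists_sum_tmul_eq e
  have hphi : ∀ ρ : G, phi R ρ e = ∑ i, x i * ρ • y i := by
    intro ρ
    rw [hxy, map_sum]
    rfl
  refine ⟨n, LinearMap.pi fun i => (trace R hinj htr).comp (LinearMap.mulLeft R (y i)), x,
    phi R (1 : G) e, heQ, fun s => ?_⟩
  have h1 : ∀ i, (LinearMap.pi fun i => (trace R hinj htr).comp (LinearMap.mulLeft R (y i))) s i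
      • x i = ∑ τ : G, x i * τ • y i * τ • s := by
    intro i
    rw [LinearMap.pi_apply, LinearMap.comp_apply, LinearMap.mulLeft_apply, Algebra.smul_def,
      algebraMap_trace, Finset.sum_mul]
    refine Finset.sum_congr rfl fun τ _ => ?_
    rw [smul_mul']
    ring
  rw [Finset.sum_congr rfl fun i _ => h1 i, Finset.sum_comm]
  have h2 : ∀ τ : G, ∑ i, x i * τ • y i * τ • s = phi R τ e * τ • s := by
    intro τ
    rw [hphi, Finset.sum_mul]
  rw [Finset.sum_congr rfl fun τ _ => h2 τ,
    Finset.sum_eq_single (1 : G)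
      (fun τ _ hτ => by rw [he0 τ hτ, zero_mul])
      (fun h => absurd (Finset.mem_univ _) h), one_smul]

end Split

section Flat

open Algebra

/-- A ring which is a retract of a free module up to an element dividing something outside `p`
becomes flat after localizing. -/
theorem flat_localRingHom_of_split {R S : Type*} [CommRing R] [CommRing S] [Algebra R S]
    (p : Ideal R) [p.IsPrime] (q : Ideal S) [q.IsPrime] [q.LiesOver p]
    (n : ℕ) (f : S →ₗ[R] (Fin n → R)) (x : Fin n → S) (c₀ c₁ : S) (N : R) (hN : N ∉ p)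
    (hc : c₀ * c₁ = algebraMap R S N) (hgf : ∀ s, ∑ i, f s i • x i = c₀ * s) :
    (Localization.localRingHom p q (algebraMap R S) Ideal.LiesOver.over).Flat := by
  classical
  let Rp := Localization.AtPrime p
  let Sp := Localization (algebraMapSubmonoid S p.primeCompl)
  let Sq := Localization.AtPrime q
  let := Localization.AtPrime.algebraOfLiesOver p q
  let φ : Sp →ₐ[S] Sq := IsLocalization.liftAlgHom (M := algebraMapSubmonoid S p.primeCompl)
        (f := Algebra.ofId _ _) (by
      rintro ⟨_, x, hx, rfl⟩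
      simpa using! IsLocalization.map_units (M := q.primeCompl) Sq ⟨algebraMap _ _ x,
        by simp_all [q.over_def p]⟩)
  algebraize [φ.toRingHom]
  have : IsScalarTower R Sp Sq := .to₁₃₄ _ S _ _
  have : IsScalarTower Rp Sp Sq := .of_algebraMap_eq' <| by
    apply IsLocalization.ringHom_ext p.primeCompl
    simp only [RingHom.comp_assoc, ← IsScalarTower.algebraMap_eq]
  have : IsLocalization (algebraMapSubmonoid Sp q.primeCompl) Sq :=
    .isLocalization_of_submonoid_le _ _ (algebraMapSubmonoid S p.primeCompl) _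
    (by rintro _ ⟨x, hx, rfl⟩; simp_all [q.over_def p])
  have hflat2 : Module.Flat Sp Sq := IsLocalization.flat _ (algebraMapSubmonoid Sp q.primeCompl)
  -- `Sp` is a retract of a free `Rp`-module
  have hloc : IsLocalizedModule p.primeCompl (IsScalarTower.toAlgHom R S Sp).toLinearMap :=
    (isLocalizedModule_iff_isLocalization).2 inferInstance
  have hB : IsBaseChange Rp (IsScalarTower.toAlgHom R S Sp).toLinearMap :=
    IsLocalizedModule.isBaseChange p.primeCompl Rp _
  -- the unit
  have hNu : IsUnit (algebraMap S Sp (algebraMap R S N)) :=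
    IsLocalization.map_units Sp (⟨algebraMap R S N, N, hN, rfl⟩ : algebraMapSubmonoid S p.primeCompl)
  have hc₀u : IsUnit (algebraMap S Sp c₀) := by
    rw [← hc, map_mul] at hNu
    exact isUnit_of_mul_isUnit_left hNu
  obtain ⟨u, hu⟩ := hc₀u
  let F : S →ₗ[R] (Fin n → Rp) :=
    LinearMap.pi fun i => (Algebra.linearMap R Rp).comp ((LinearMap.proj i).comp f)
  let fp : Sp →ₗ[Rp] (Fin n → Rp) := hB.lift F
  let gp : (Fin n → Rp) →ₗ[Rp] Sp :=
    Fintype.linearCombination Rp (fun i => (↑u⁻¹ : Sp) * algebraMap S Sp (x i))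
  have hcomp : gp.comp fp = LinearMap.id := by
    refine hB.algHom_ext _ _ fun s => ?_
    show gp (hB.lift F ((IsScalarTower.toAlgHom R S Sp).toLinearMap s)) = algebraMap S Sp s
    rw [hB.lift_eq]
    show Fintype.linearCombination Rp (fun i => (↑u⁻¹ : Sp) * algebraMap S Sp (x i)) (F s) = _
    rw [Fintype.linearCombination_apply]
    have h1 : ∀ i, F s i • ((↑u⁻¹ : Sp) * algebraMap S Sp (x i)) =
        (↑u⁻¹ : Sp) * algebraMap S Sp (f s i • x i) := by
      intro i
      show (algebraMap R Rp (f s i)) • _ = _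
      rw [algebraMap_smul, Algebra.smul_def (f s i) (x i), map_mul, Algebra.smul_def,
        ← IsScalarTower.algebraMap_apply R S Sp]
      ring
    rw [Finset.sum_congr rfl fun i _ => h1 i, ← Finset.mul_sum, ← map_sum, hgf, map_mul, ← hu,
      ← mul_assoc, Units.inv_mul, one_mul]
  have hflat1 : Module.Flat Rp Sp :=
    Module.Flat.of_retract fp gp hcomp
  exact Module.Flat.trans Rp Sp Sq

end Flat

section Main

variable {R S G : Type*} [CommRing R] [CommRing S] [Algebra R S] [Group G] [Fintype G]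
  [MulSemiringAction G S] [SMulCommClass G R S]

/-- If all conjugates of `q` have trivial inertia then `R_p → S_q` is flat. -/
theorem flat_localRingHom (hinj : Function.Injective (algebraMap R S))
    (htr : ∀ s : S, ∃ r : R, algebraMap R S r = ∑ τ : G, τ • s)
    (hnorm : ∀ s : S, ∃ r : R, algebraMap R S r = ∏ τ : G, τ • s)
    (p : Ideal R) [p.IsPrime] (q : Ideal S) [q.IsPrime] [q.LiesOver p]
    (hQ : ∀ σ τ : G, τ ≠ 1 → ∃ a : S, σ • (τ • a - a) ∉ q) :
    (Localization.localRingHom p q (algebraMap R S) Ideal.LiesOver.over).Flat := by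
  classical
  obtain ⟨n, f, x, c₀, hc₀, hgf⟩ := exists_split hinj htr q hQ
  obtain ⟨N, hN⟩ := hnorm c₀
  have hNp : N ∉ p := by
    intro hmem
    have h1 : algebraMap R S N ∈ q := by
      rw [q.over_def p] at hmem
      exact hmem
    rw [hN] at h1
    obtain ⟨τ, -, hτ⟩ := (Ideal.IsPrime.prod_mem_iff).1 h1
    exact hc₀ τ hτ
  refine flat_localRingHom_of_split p q n f x c₀
    (∏ τ ∈ Finset.univ.erase (1 : G), τ • c₀) N hNp ?_ hgf
  rw [hN, ← Finset.mul_prod_erase Finset.univ (fun τ : G => τ • c₀) (Finset.mem_univ 1), one_smul]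

end Main

end Groth.Agent.Lib.GaloisSplitH3
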