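import Mathlib

/-!
# The Galois group acts transitively on the primes of `L ⊗[k] K` (`L/k` Galois)
-/

open TensorProduct

namespace Groth.Agent.Lib.GaloisTensorH3

universe u

variable (k : Type u) [Field k] (L : Type u) [Field L] [Algebra k L] (K : Type u) [Field K]
  [Algebra k K]

theorem smul_def (σ : L ≃ₐ[k] L) (b : L ⊗[k] K) :
    σ • b = Algebra.TensorProduct.map (σ : L →ₐ[k] L) (AlgHom.id k K) b := by
  induction b using TensorProduct.induction_on with
  | zero => simp
  | tmul x y => rw [TensorProduct.smul_tmul']; simp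
  | add x y hx hy => rw [smul_add, hx, hy, map_add]

/-- the action of `Gal(L/k)` on `L ⊗[k] K` through the first factor. -/
@[reducible] noncomputable def tensorAction : MulSemiringAction (L ≃ₐ[k] L) (L ⊗[k] K) :=
  { (inferInstance : DistribMulAction (L ≃ₐ[k] L) (L ⊗[k] K)) with
    smul_one := fun σ => by rw [smul_def, map_one]
    smul_mul := fun σ a b => by rw [smul_def, smul_def, smul_def, map_mul] }

attribute [local instance] tensorAction Algebra.TensorProduct.rightAlgebra

theorem smul_tmul (σ : L ≃ₐ[k] L) (x : L) (y : K) :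
    σ • (x ⊗ₜ[k] y : L ⊗[k] K) = (σ x) ⊗ₜ[k] y := by
  rw [smul_def]; simp

theorem right_smul_def (c : K) (b : L ⊗[k] K) :
    c • b = ((1 : L) ⊗ₜ[k] c) * b := by
  rw [Algebra.smul_def]
  rfl

instance : SMulCommClass (L ≃ₐ[k] L) K (L ⊗[k] K) where
  smul_comm σ c b := by
    rw [right_smul_def, right_smul_def, smul_mul', smul_tmul, map_one]

end Groth.Agent.Lib.GaloisTensorH3

namespace Groth.Agent.Lib.GaloisTensorH3

universe u

variable (k : Type u) [Field k] (L : Type u) [Field L] [Algebra k L] (K : Type u) [Field K]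
  [Algebra k K]

attribute [local instance] tensorAction Algebra.TensorProduct.rightAlgebra

theorem algebraMap_right (a : K) : algebraMap K (L ⊗[k] K) a = (1 : L) ⊗ₜ[k] a := rfl

theorem isInvariant [IsGalois k L] : Algebra.IsInvariant K (L ⊗[k] K) (L ≃ₐ[k] L) := by
  constructor
  intro b hb
  classical
  let bas := Module.Free.chooseBasis k K
  let B := Algebra.TensorProduct.basis L bas
  have hrepr : ∀ (σ : L ≃ₐ[k] L) (b : L ⊗[k] K) i, B.repr (σ • b) i = σ (B.repr b i) := by
    intro σ b i
    induction b using TensorProduct.induction_on with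
    | zero => simp
    | tmul x y =>
      rw [smul_tmul, Algebra.TensorProduct.basis_repr_tmul, Algebra.TensorProduct.basis_repr_tmul]
      simp
    | add x y hx hy =>
      rw [smul_add, map_add, Finsupp.add_apply, hx, hy, map_add, Finsupp.add_apply, map_add]
  have hfix : ∀ i, B.repr b i ∈ Set.range (algebraMap k L) := fun i =>
    (InfiniteGalois.mem_range_algebraMap_iff_fixed _).mpr (fun σ => by rw [← hrepr, hb])
  choose d hd using hfix
  refine ⟨∑ i ∈ (B.repr b).support, d i • bas i, ?_⟩
  have h1 : b = ∑ i ∈ (B.repr b).support, B.repr b i • B i := by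
    conv_lhs => rw [← B.linearCombination_repr b]
    rw [Finsupp.linearCombination_apply, Finsupp.sum]
  conv_rhs => rw [h1]
  rw [algebraMap_right, TensorProduct.tmul_sum]
  refine Finset.sum_congr rfl fun i _ => ?_
  rw [Algebra.TensorProduct.basis_apply, ← hd i, TensorProduct.tmul_smul,
    TensorProduct.smul_tmul', TensorProduct.smul_tmul', Algebra.algebraMap_eq_smul_one,
    smul_assoc, one_smul]

end Groth.Agent.Lib.GaloisTensorH3

namespace Groth.Agent.Lib.GaloisTensorH3

universe u

variable (k : Type u) [Field k] (L : Type u) [Field L] [Algebra k L] (K : Type u) [Field K]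
  [Algebra k K]

attribute [local instance] tensorAction Algebra.TensorProduct.rightAlgebra

theorem exists_open_le_stabilizer [Algebra.IsIntegral k L] (b : L ⊗[k] K) :
    ∃ U : Subgroup (L ≃ₐ[k] L), IsOpen (U : Set (L ≃ₐ[k] L)) ∧
      U ≤ MulAction.stabilizer (L ≃ₐ[k] L) b := by
  induction b using TensorProduct.induction_on with
  | zero =>
    refine ⟨⊤, isOpen_univ, fun σ _ => ?_⟩
    rw [MulAction.mem_stabilizer_iff, smul_zero]
  | tmul x y =>
    refine ⟨MulAction.stabilizer (L ≃ₐ[k] L) x, stabilizer_isOpen_of_isIntegral x, fun σ hσ => ?_⟩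
    rw [MulAction.mem_stabilizer_iff] at hσ ⊢
    rw [smul_tmul]
    have : σ x = x := hσ
    rw [this]
  | add x y hx hy =>
    obtain ⟨U, hU, hUx⟩ := hx
    obtain ⟨V, hV, hVy⟩ := hy
    refine ⟨U ⊓ V, hU.inter hV, fun σ hσ => ?_⟩
    rw [MulAction.mem_stabilizer_iff, smul_add]
    have h1 := hUx hσ.1
    have h2 := hVy hσ.2
    rw [MulAction.mem_stabilizer_iff] at h1 h2
    rw [h1, h2]

open scoped Pointwise in
theorem exists_smul_eq [IsGalois k L] (P Q : Ideal (L ⊗[k] K)) [P.IsPrime] [Q.IsPrime] :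
    ∃ σ : L ≃ₐ[k] L, Q = σ • P := by
  letI : TopologicalSpace (L ⊗[k] K) := ⊥
  haveI : DiscreteTopology (L ⊗[k] K) := ⟨rfl⟩
  haveI : ContinuousSMul (L ≃ₐ[k] L) (L ⊗[k] K) := by
    rw [continuousSMul_iff_stabilizer_isOpen]
    intro b
    obtain ⟨U, hU, hUb⟩ := exists_open_le_stabilizer k L K b
    exact Subgroup.isOpen_mono hUb hU
  haveI := isInvariant k L K
  have hbot : ∀ (I : Ideal (L ⊗[k] K)) [I.IsPrime], I.under K = ⊥ := by
    intro I hI
    have hp : (I.under K).IsPrime := Ideal.IsPrime.under K I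
    exact (Ideal.eq_bot_or_top _).resolve_right hp.ne_top
  exact Algebra.IsInvariant.exists_smul_of_under_eq_of_profinite (A := K) (G := L ≃ₐ[k] L) P Q
    ((hbot P).trans (hbot Q).symm)

theorem exists_comap_eq [IsGalois k L] (P Q : Ideal (L ⊗[k] K)) [P.IsPrime] [Q.IsPrime] :
    ∃ σ : L ≃ₐ[k] L,
      Q = P.comap (Algebra.TensorProduct.map (σ : L →ₐ[k] L) (AlgHom.id k K)) := by
  obtain ⟨g, hg⟩ := exists_smul_eq k L K P Q
  refine ⟨g⁻¹, ?_⟩
  rw [hg, Ideal.pointwise_smul_eq_comap]
  ext x
  simp only [Ideal.mem_comap]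
  have : (MulSemiringAction.toRingAut (L ≃ₐ[k] L) (L ⊗[k] K) g).symm x = g⁻¹ • x := rfl
  rw [this, smul_def]

end Groth.Agent.Lib.GaloisTensorH3
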