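import Mathlib
import Groth.Agent.Lib.LambdaGammaAdams_helper1
import Groth.Agent.Lib.ElemExtLam_helper1

/-!
# The γ-filtration of an elementary extension `K[T]/(p_e)` (helper1)

`F^k K_e = Σ_{i ≤ r} F^{k-i}K · (ℓ - 1)^i`.
-/

set_option autoImplicit false
set_option maxHeartbeats 1000000

universe u

namespace Groth.Agent.Lib.GammaElemH1

open LambdaRing Groth.Agent.Lib.LambdaRingH1 Groth.Agent.Lib.LambdaSplitH1
  Groth.Agent.Lib.LambdaGAH1 Groth.Agent.Lib.ElemExtLgenH1 Groth.Agent.Lib.ElemExtLamH1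

/-! ### Pure algebra -/

theorem neg_one_pow_mul_mem {R : Type*} [Ring R] (H : AddSubgroup R) (j : ℕ) {z : R} (hz : z ∈ H) :
    (-1 : R) ^ j * z ∈ H := by
  rcases neg_one_pow_eq_or R j with h | h
  · rw [h, one_mul]; exact hz
  · rw [h, neg_one_mul]; exact H.neg_mem hz

/-- homogenisation identity -/
theorem fact2 {R : Type*} [CommRing R] (lam : ℕ → R) (a b : R) (m : ℕ) :
    ∑ n ∈ Finset.range (m + 1), lam n * a ^ n * (b - a) ^ (m - n) =
      ∑ i ∈ Finset.range (m + 1),
        (∑ n ∈ Finset.range (i + 1), (-1 : R) ^ (i - n) * (((m - n).choose (i - n) : ℕ) : R) * lam n) *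
          a ^ i * b ^ (m - i) := by
  have h1 : ∀ n ∈ Finset.range (m + 1), lam n * a ^ n * (b - a) ^ (m - n) =
      ∑ i ∈ Finset.Ico n (m + 1),
        (-1 : R) ^ (i - n) * (((m - n).choose (i - n) : ℕ) : R) * lam n * a ^ i * b ^ (m - i) := by
    intro n hn
    rw [Finset.mem_range] at hn
    rw [Finset.sum_Ico_eq_sum_range, sub_eq_neg_add b a, add_pow, Finset.mul_sum]
    have hmn : m + 1 - n = m - n + 1 := by omega
    rw [hmn]
    apply Finset.sum_congr rfl
    intro l hl
    rw [Finset.mem_range] at hl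
    have e1 : n + l - n = l := by omega
    have e2 : m - (n + l) = m - n - l := by omega
    rw [e1, e2, pow_add, neg_pow a l]
    ring
  rw [Finset.sum_congr rfl h1]
  rw [Finset.sum_comm' (s' := fun i => Finset.range (i + 1)) (t' := Finset.range (m + 1))]
  · apply Finset.sum_congr rfl
    intro i _
    rw [Finset.sum_mul, Finset.sum_mul]
  · intro n i
    simp only [Finset.mem_range, Finset.mem_Ico]
    omega

/-! ### γ-series of `x - m` for `x` with `λ_t(x)` of degree `≤ m` -/

section fact1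
variable {K : Type u} [CommRing K] [LambdaOps K]

theorem gammaSeries_one (h1 : ∀ k : ℕ, 2 ≤ k → LambdaOps.lam k (1 : K) = 0) :
    gammaSeries (1 : K) = PowerSeries.mk 1 := by
  rw [gammaSeries_of_line h1, map_one, one_mul, one_add_tOverOneSub]

theorem gammaSeries_natCast (h1 : ∀ k : ℕ, 2 ≤ k → LambdaOps.lam k (1 : K) = 0) (m : ℕ) :
    gammaSeries ((m : ℕ) : K) = (PowerSeries.mk 1) ^ m := by
  induction m with
  | zero => rw [Nat.cast_zero, gammaSeries_zero, pow_zero]
  | succ m ih => rw [Nat.cast_succ, gammaSeries_add, ih, gammaSeries_one h1, pow_succ]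

theorem lamSeries_eq_sum (x : K) (m : ℕ) (hx : ∀ n : ℕ, m < n → LambdaOps.lam n x = 0) :
    lamSeries x =
      ∑ n ∈ Finset.range (m + 1), PowerSeries.C (LambdaOps.lam n x) * PowerSeries.X ^ n := by
  ext k
  rw [coeff_lamSeries, map_sum]
  simp only [PowerSeries.coeff_C_mul_X_pow]
  rw [Finset.sum_ite_eq]
  split_ifs with h
  · rfl
  · rw [Finset.mem_range, not_lt] at h
    exact hx k (by omega)

theorem fact1 (h1 : ∀ k : ℕ, 2 ≤ k → LambdaOps.lam k (1 : K) = 0) (x : K) (m : ℕ)
    (hx : ∀ n : ℕ, m < n → LambdaOps.lam n x = 0) :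
    gammaSeries (x - ((m : ℕ) : K)) = ∑ n ∈ Finset.range (m + 1),
      PowerSeries.C (LambdaOps.lam n x) * PowerSeries.X ^ n * (1 - PowerSeries.X) ^ (m - n) := by
  have hT := PowerSeries.mk_one_mul_one_sub_eq_one K
  have hadd : gammaSeries (x - ((m : ℕ) : K)) * (PowerSeries.mk 1) ^ m = gammaSeries x := by
    rw [← gammaSeries_natCast h1, ← gammaSeries_add, sub_add_cancel]
  have hpow : ((PowerSeries.mk 1 : PowerSeries K)) ^ m * (1 - PowerSeries.X) ^ m = 1 := by
    rw [← mul_pow, hT, one_pow]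
  have hx1 : gammaSeries (x - ((m : ℕ) : K)) = gammaSeries x * (1 - PowerSeries.X) ^ m := by
    rw [← hadd, mul_assoc, hpow, mul_one]
  have hx2 : gammaSeries x = ∑ n ∈ Finset.range (m + 1),
      PowerSeries.C (LambdaOps.lam n x) * (PowerSeries.X * PowerSeries.mk 1) ^ n := by
    rw [gammaSeries_eq_subst, lamSeries_eq_sum x m hx,
      ← PowerSeries.coe_substAlgHom hasSubst_tOverOneSub, map_sum]
    apply Finset.sum_congr rfl
    intro n _
    rw [map_mul, map_pow, PowerSeries.coe_substAlgHom, PowerSeries.subst_X hasSubst_tOverOneSub,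
      PowerSeries.subst_C]
    rfl
  rw [hx1, hx2, Finset.sum_mul]
  apply Finset.sum_congr rfl
  intro n hn
  rw [Finset.mem_range] at hn
  have hsplit : (1 - PowerSeries.X : PowerSeries K) ^ m =
      (1 - PowerSeries.X) ^ n * (1 - PowerSeries.X) ^ (m - n) := by
    rw [← pow_add]; congr 1; omega
  have hone : (PowerSeries.mk 1 : PowerSeries K) ^ n * (1 - PowerSeries.X) ^ n = 1 := by
    rw [← mul_pow, hT, one_pow]
  rw [hsplit, mul_pow]
  calc PowerSeries.C (LambdaOps.lam n x) * (PowerSeries.X ^ n * PowerSeries.mk 1 ^ n) *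
        ((1 - PowerSeries.X) ^ n * (1 - PowerSeries.X) ^ (m - n))
      = PowerSeries.C (LambdaOps.lam n x) * PowerSeries.X ^ n *
          (PowerSeries.mk 1 ^ n * (1 - PowerSeries.X) ^ n) * (1 - PowerSeries.X) ^ (m - n) := by
        ring
    _ = _ := by rw [hone, mul_one]

theorem gamma_sub_natCast (h1 : ∀ k : ℕ, 2 ≤ k → LambdaOps.lam k (1 : K) = 0) (x : K) (m : ℕ)
    (hx : ∀ n : ℕ, m < n → LambdaOps.lam n x = 0) (i : ℕ) (hi : i ≤ m) :
    gamma i (x - ((m : ℕ) : K)) = ∑ n ∈ Finset.range (i + 1),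
      (-1 : K) ^ (i - n) * (((m - n).choose (i - n) : ℕ) : K) * LambdaOps.lam n x := by
  have hF := fact1 h1 x m hx
  have h2 := fact2 (fun n => PowerSeries.C (LambdaOps.lam n x)) (PowerSeries.X : PowerSeries K) 1 m
  simp only [one_pow, mul_one] at h2
  have hC : ∀ i' : ℕ, (∑ n ∈ Finset.range (i' + 1), (-1 : PowerSeries K) ^ (i' - n) *
      (((m - n).choose (i' - n) : ℕ) : PowerSeries K) * PowerSeries.C (LambdaOps.lam n x)) =
      PowerSeries.C (∑ n ∈ Finset.range (i' + 1), (-1 : K) ^ (i' - n) *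
        (((m - n).choose (i' - n) : ℕ) : K) * LambdaOps.lam n x) := by
    intro i'
    rw [map_sum]
    apply Finset.sum_congr rfl
    intro n _
    rw [map_mul, map_mul, map_pow, map_neg, map_one, map_natCast]
  rw [← coeff_gammaSeries, hF, h2, map_sum]
  simp only [hC, PowerSeries.coeff_C_mul_X_pow]
  rw [Finset.sum_ite_eq, if_pos (Finset.mem_range.mpr (by omega))]

end fact1

/-! ### The candidate filtration -/

section part1
variable {K : Type u} [CommRing K] [LambdaOps K] (P : PosStructure K) (e : K)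

local notation "Ke" => AdjoinRoot (KRR.extPoly P e)
local notation "φ" => AdjoinRoot.of (KRR.extPoly P e)
local notation "ℓ" => AdjoinRoot.root (KRR.extPoly P e)
local notation "uu" => (AdjoinRoot.root (KRR.extPoly P e) - 1)

/-- the candidate filtration `Σ_{i ≤ r} F^{k-i}K (ℓ-1)^i` -/
noncomputable def GG (r k : ℕ) : AddSubgroup (AdjoinRoot (KRR.extPoly P e)) :=
  ⨆ i ∈ Finset.range (r + 1), AddSubgroup.map
    ((AddMonoidHom.mulRight ((AdjoinRoot.root (KRR.extPoly P e) - 1) ^ i)).comp
      (AdjoinRoot.of (KRR.extPoly P e)).toAddMonoidHom)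
    (gammaFiltration P (k - i))

theorem mem_GG {r k i : ℕ} (hi : i ≤ r) {x : K} (hx : x ∈ gammaFiltration P (k - i)) :
    φ x * uu ^ i ∈ GG P e r k := by
  refine AddSubgroup.mem_iSup_of_mem i
    (AddSubgroup.mem_iSup_of_mem (Finset.mem_range.mpr (by omega)) ?_)
  exact ⟨x, hx, rfl⟩

theorem GG_le {r k : ℕ} (H : AddSubgroup Ke)
    (h : ∀ i ≤ r, ∀ x ∈ gammaFiltration P (k - i), φ x * uu ^ i ∈ H) : GG P e r k ≤ H := by
  refine iSup₂_le (fun i hi => ?_)
  rintro _ ⟨x, hx, rfl⟩
  exact h i (by rw [Finset.mem_range] at hi; omega) x hx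

theorem GG_anti {r a b : ℕ} (h : a ≤ b) : GG P e r b ≤ GG P e r a := by
  apply GG_le
  intro i hi x hx
  exact mem_GG P e hi (filt_mono P (by omega) hx)

theorem one_mem_GG (r : ℕ) : (1 : Ke) ∈ GG P e r 0 := by
  have := mem_GG P e (r := r) (k := 0) (i := 0) (Nat.zero_le r) (x := 1) (one_mem_filt P)
  rwa [map_one, pow_zero, mul_one] at this

variable (he : e ∈ P.pos) (r : ℕ) (hr : P.aug e = r + 1)
include he hr

theorem relation :
    ∑ i ∈ Finset.range (r + 1 + 1),
      (-1 : Ke) ^ i * φ (gamma i (e - ((r + 1 : ℕ) : K))) * uu ^ (r + 1 - i) = 0 := by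
  have h1K := lam_one_eq_zero P
  have htoNat : (P.aug e).toNat = r + 1 := by rw [hr]; omega
  have hvan : ∀ n : ℕ, r + 1 < n → LambdaOps.lam n e = 0 := by
    intro n hn
    apply P.lam_eq_zero e he
    rw [hr]; exact_mod_cast hn
  have hp : KRR.extPoly P e = ∑ i ∈ Finset.range (r + 1 + 1),
      Polynomial.C ((-1 : K) ^ i * LambdaOps.lam i e) * Polynomial.X ^ (r + 1 - i) := by
    rw [KRR.extPoly, htoNat]
  have h0 : ∀ q : Polynomial K, q = KRR.extPoly P e → Polynomial.eval₂ φ ℓ q = 0 := by
    intro q hq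
    rw [hq]
    exact AdjoinRoot.eval₂_root _
  have h0' := h0 _ hp.symm
  rw [Polynomial.eval₂_finsetSum] at h0'
  simp only [Polynomial.eval₂_mul, Polynomial.eval₂_C, Polynomial.eval₂_pow, Polynomial.eval₂_X,
    map_mul, map_pow, map_neg, map_one, Polynomial.eval₂_neg, Polynomial.eval₂_one] at h0'
  have hroot : ∑ n ∈ Finset.range (r + 1 + 1),
      φ (LambdaOps.lam n e) * (-1 : Ke) ^ n * (uu - (-1)) ^ (r + 1 - n) = 0 := by
    have hu : (uu - (-1) : Ke) = ℓ := by ring
    rw [hu, ← h0']
    apply Finset.sum_congr rfl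
    intro n _
    ring
  have h2 := fact2 (fun n => φ (LambdaOps.lam n e)) (-1 : Ke) uu (r + 1)
  beta_reduce at h2
  refine Eq.trans ?_ hroot
  rw [h2]
  apply Finset.sum_congr rfl
  intro i hi
  rw [Finset.mem_range] at hi
  have hg : φ (gamma i (e - ((r + 1 : ℕ) : K))) = ∑ n ∈ Finset.range (i + 1),
      (-1 : Ke) ^ (i - n) * (((r + 1 - n).choose (i - n) : ℕ) : Ke) * φ (LambdaOps.lam n e) := by
    rw [gamma_sub_natCast h1K e (r + 1) hvan i (by omega), map_sum]
    apply Finset.sum_congr rfl
    intro n _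
    rw [map_mul, map_mul, map_pow, map_neg, map_one, map_natCast]
  rw [hg]
  ring

theorem lemmaA : ∀ n a : ℕ, ∀ x ∈ gammaFiltration P a, φ x * uu ^ n ∈ GG P e r (a + n) := by
  intro n
  induction n using Nat.strong_induction_on with
  | _ n ih =>
    intro a x hx
    by_cases hn : n ≤ r
    · exact mem_GG P e hn (by rwa [Nat.add_sub_cancel])
    · rw [not_le] at hn
      have hrel := relation P e he r hr
      rw [Finset.sum_range_succ'] at hrel
      have h0 : (-1 : Ke) ^ 0 * φ (gamma 0 (e - ((r + 1 : ℕ) : K))) * uu ^ (r + 1 - 0) =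
          uu ^ (r + 1) := by
        rw [pow_zero, one_mul, gamma_zero_left, map_one, one_mul, Nat.sub_zero]
      rw [h0] at hrel
      have hu : uu ^ (r + 1) = -∑ i ∈ Finset.range (r + 1),
          (-1 : Ke) ^ (i + 1) * φ (gamma (i + 1) (e - ((r + 1 : ℕ) : K))) *
            uu ^ (r + 1 - (i + 1)) := by
        linear_combination hrel
      have hn' : n = (n - (r + 1)) + (r + 1) := by omega
      have hkey : φ x * uu ^ n = -∑ i ∈ Finset.range (r + 1),
          (-1 : Ke) ^ (i + 1) *
            (φ (x * gamma (i + 1) (e - ((r + 1 : ℕ) : K))) * uu ^ (n - (i + 1))) := by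
        conv_lhs => rw [hn', pow_add, hu]
        rw [mul_neg, mul_neg, Finset.mul_sum, Finset.mul_sum]
        congr 1
        apply Finset.sum_congr rfl
        intro i hi
        rw [Finset.mem_range] at hi
        have : n - (i + 1) = (n - (r + 1)) + (r + 1 - (i + 1)) := by omega
        rw [this, pow_add, map_mul]
        ring
      rw [hkey]
      apply neg_mem
      apply sum_mem
      intro i hi
      rw [Finset.mem_range] at hi
      apply neg_one_pow_mul_mem
      have haug : P.aug (e - ((r + 1 : ℕ) : K)) = 0 := by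
        rw [map_sub, map_natCast, hr]; push_cast; ring
      have hmem : x * gamma (i + 1) (e - ((r + 1 : ℕ) : K)) ∈ gammaFiltration P (a + (i + 1)) :=
        mul_mem_filt P hx (gamma_mem P (i + 1) _ haug)
      have := ih (n - (i + 1)) (by omega) (a + (i + 1)) _ hmem
      have e1 : a + (i + 1) + (n - (i + 1)) = a + n := by omega
      rwa [e1] at this

theorem GG_mul {a b : ℕ} {y z : Ke} (hy : y ∈ GG P e r a) (hz : z ∈ GG P e r b) :
    y * z ∈ GG P e r (a + b) := by
  have step1 : ∀ i ≤ r, ∀ x ∈ gammaFiltration P (a - i), ∀ j ≤ r,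
      ∀ x' ∈ gammaFiltration P (b - j),
      (φ x * uu ^ i) * (φ x' * uu ^ j) ∈ GG P e r (a + b) := by
    intro i hi x hx j hj x' hx'
    have h1 : (φ x * uu ^ i) * (φ x' * uu ^ j) = φ (x * x') * uu ^ (i + j) := by
      rw [map_mul, pow_add]; ring
    rw [h1]
    exact GG_anti P e (by omega) (lemmaA P e he r hr (i + j) _ _ (mul_mem_filt P hx hx'))
  have step2 : ∀ i ≤ r, ∀ x ∈ gammaFiltration P (a - i),
      GG P e r b ≤ (GG P e r (a + b)).comap (AddMonoidHom.mulLeft (φ x * uu ^ i)) := by
    intro i hi x hx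
    apply GG_le
    intro j hj x' hx'
    show (φ x * uu ^ i) * (φ x' * uu ^ j) ∈ GG P e r (a + b)
    exact step1 i hi x hx j hj x' hx'
  have step3 : GG P e r a ≤ (GG P e r (a + b)).comap (AddMonoidHom.mulRight z) := by
    apply GG_le
    intro i hi x hx
    show (φ x * uu ^ i) * z ∈ GG P e r (a + b)
    exact step2 i hi x hx hz
  exact step3 hy

theorem pow_mem_GG0 {y : Ke} (hy : y ∈ GG P e r 0) (n : ℕ) : y ^ n ∈ GG P e r 0 := by
  induction n with
  | zero => rw [pow_zero]; exact one_mem_GG P e r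
  | succ n ih =>
    rw [pow_succ]
    have := GG_mul P e he r hr ih hy
    rwa [add_zero] at this

theorem u_mem_GG1 : uu ∈ GG P e r 1 := by
  have := lemmaA P e he r hr 1 0 1 (one_mem_filt P)
  rwa [map_one, one_mul, pow_one, zero_add] at this

theorem root_mem_GG0 : ℓ ∈ GG P e r 0 := by
  have h1 := one_mem_GG P e r
  have h3 := GG_anti P e (r := r) (Nat.zero_le 1) (u_mem_GG1 P e he r hr)
  have : (ℓ : Ke) = 1 + (ℓ - 1) := by ring
  rw [this]
  exact add_mem h1 h3

theorem root_pow_sub_one_mem (j : ℕ) : ℓ ^ j - 1 ∈ GG P e r 1 := by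
  rw [← geom_sum_mul]
  have h1 : ∑ i ∈ Finset.range j, (ℓ : Ke) ^ i ∈ GG P e r 0 :=
    sum_mem (fun i _ => pow_mem_GG0 P e he r hr (root_mem_GG0 P e he r hr) i)
  have := GG_mul P e he r hr h1 (u_mem_GG1 P e he r hr)
  rwa [zero_add] at this

/-! ### Series with `n`-th coefficient in `GG n` -/

/-- series whose `n`-th coefficient lies in `GG n` -/
def InS (f : PowerSeries Ke) : Prop := ∀ n, PowerSeries.coeff n f ∈ GG P e r n

omit he hr in
theorem InS.one : InS P e r 1 := by
  intro n
  rw [PowerSeries.coeff_one]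
  split_ifs with h
  · subst h; exact one_mem_GG P e r
  · exact zero_mem _

omit he hr in
theorem InS.add {f g : PowerSeries Ke} (hf : InS P e r f) (hg : InS P e r g) :
    InS P e r (f + g) := by
  intro n
  rw [map_add]
  exact add_mem (hf n) (hg n)

omit he hr in
theorem InS.sum {ι : Type*} (s : Finset ι) (f : ι → PowerSeries Ke)
    (h : ∀ i ∈ s, InS P e r (f i)) : InS P e r (∑ i ∈ s, f i) := by
  intro n
  rw [map_sum]
  exact sum_mem (fun i hi => h i hi n)

theorem InS.mul {f g : PowerSeries Ke} (hf : InS P e r f) (hg : InS P e r g) :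
    InS P e r (f * g) := by
  intro n
  rw [PowerSeries.coeff_mul]
  apply sum_mem
  intro p hp
  have := GG_mul P e he r hr (hf p.1) (hg p.2)
  rwa [Finset.HasAntidiagonal.mem_antidiagonal.mp hp] at this

theorem InS.pow {f : PowerSeries Ke} (hf : InS P e r f) (n : ℕ) : InS P e r (f ^ n) := by
  induction n with
  | zero => rw [pow_zero]; exact InS.one P e r
  | succ n ih => rw [pow_succ]; exact InS.mul P e he r hr ih hf

theorem InS.C_mul_X_pow_mul {c : Ke} {i : ℕ} (hc : c ∈ GG P e r i) {f : PowerSeries Ke}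
    (hf : InS P e r f) : InS P e r (PowerSeries.C c * PowerSeries.X ^ i * f) := by
  intro n
  rw [mul_assoc, PowerSeries.coeff_C_mul, PowerSeries.coeff_X_pow_mul']
  split_ifs with h
  · have := GG_mul P e he r hr hc (hf (n - i))
    rwa [Nat.add_sub_cancel' h] at this
  · rw [mul_zero]; exact zero_mem _

theorem InS.linear {c : Ke} (hc : c ∈ GG P e r 1) :
    InS P e r (1 + PowerSeries.C c * PowerSeries.X) := by
  have h := InS.C_mul_X_pow_mul P e he r hr (i := 1) hc (InS.one P e r)
  rw [pow_one, mul_one] at h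
  exact InS.add P e r (InS.one P e r) h

theorem InS.inv {f g : PowerSeries Ke} (hf : InS P e r f)
    (hf0 : PowerSeries.constantCoeff f = 1) (hfg : f * g = 1) : InS P e r g := by
  intro n
  induction n using Nat.strong_induction_on with
  | _ n ih =>
    have h := congrArg (PowerSeries.coeff n) hfg
    rw [PowerSeries.coeff_mul, Finset.Nat.sum_antidiagonal_eq_sum_range_succ_mk,
      Finset.sum_range_succ'] at h
    simp only [Nat.sub_zero] at h
    rw [PowerSeries.coeff_zero_eq_constantCoeff_apply, hf0, one_mul] at h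
    have hg : PowerSeries.coeff n g = PowerSeries.coeff n (1 : PowerSeries Ke) -
        ∑ i ∈ Finset.range n, PowerSeries.coeff (i + 1) f * PowerSeries.coeff (n - (i + 1)) g := by
      linear_combination h
    rw [hg]
    apply sub_mem
    · exact InS.one P e r n
    · apply sum_mem
      intro i hi
      rw [Finset.mem_range] at hi
      have := GG_mul P e he r hr (hf (i + 1)) (ih (n - (i + 1)) (by omega))
      rwa [show i + 1 + (n - (i + 1)) = n by omega] at this

end part1

/-! ### The γ-operations on `K_e` -/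

section part3
variable {K : Type u} [CommRing K] [LambdaOps K] (P : PosStructure K) (e : K)
  [inst : LambdaOps (AdjoinRoot (KRR.extPoly P e))]
  (Pe : PosStructure (AdjoinRoot (KRR.extPoly P e)))

local notation "Ke" => AdjoinRoot (KRR.extPoly P e)
local notation "φ" => AdjoinRoot.of (KRR.extPoly P e)
local notation "ℓ" => AdjoinRoot.root (KRR.extPoly P e)
local notation "uu" => (AdjoinRoot.root (KRR.extPoly P e) - 1)

theorem map_filt (hext : IsExtension P Pe (AdjoinRoot.of (KRR.extPoly P e))) (n : ℕ) {x : K}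
    (hx : x ∈ gammaFiltration P n) : φ x ∈ gammaFiltration Pe n := by
  rw [Groth.Agent.S3291.filt_eq] at hx ⊢
  have : AddSubgroup.closure (Groth.Agent.S3291.G P n) ≤
      (AddSubgroup.closure (Groth.Agent.S3291.G Pe n)).comap
        (AdjoinRoot.of (KRR.extPoly P e)).toAddMonoidHom := by
    rw [AddSubgroup.closure_le]
    rintro y ⟨l, h1, h2, rfl⟩
    apply AddSubgroup.subset_closure
    refine ⟨l.map (fun p => (p.1, φ p.2)), ?_, ?_, ?_⟩
    · intro p hp
      obtain ⟨p', hp', rfl⟩ := List.mem_map.mp hp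
      show Pe.aug (φ p'.2) = 0
      rw [hext.aug_comp]; exact h1 p' hp'
    · rw [List.map_map]
      have : (Prod.fst ∘ fun p : ℕ × K => (p.1, φ p.2)) = Prod.fst := by
        funext p; rfl
      rw [this]; exact h2
    · show φ (List.prod _) = _
      rw [map_list_prod, List.map_map, List.map_map]
      congr 1
      apply List.map_congr_left
      intro p _
      simp only [Function.comp_apply]
      exact map_gamma φ hext.isLambdaHom p.1 p.2
  exact this hx

variable (he : e ∈ P.pos) (r : ℕ) (hr : P.aug e = r + 1)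
  (hext : IsExtension P Pe (AdjoinRoot.of (KRR.extPoly P e)))
  (hline : Pe.IsLine (AdjoinRoot.root (KRR.extPoly P e)))
  (hsplit : HasSplitting (AdjoinRoot (KRR.extPoly P e)) Pe)
include he hr hext hline hsplit

theorem inS_gen {w : Ke} (hw : Pe.IsLine w) (hw0 : w ∈ GG P e r 0) (hu' : w - 1 ∈ GG P e r 1)
    (p : K) (hp : p ∈ P.pos) (m : ℕ) (hm : P.aug p = m) :
    InS P e r (gammaSeries (φ p * w - ((m : ℕ) : Ke))) := by
  have h1K : ∀ k : ℕ, 2 ≤ k → LambdaOps.lam k (1 : K) = 0 := lam_one_eq_zero P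
  have h1e : ∀ k : ℕ, 2 ≤ k → LambdaOps.lam k (1 : Ke) = 0 := lam_one_eq_zero Pe
  have hpos : φ p * w ∈ Pe.pos := Pe.mul_mem _ _ (hext.pos_subset p hp) hw.1
  have haug : Pe.aug (φ p * w) = m := by rw [map_mul, hext.aug_comp, hw.2, mul_one, hm]
  have hvan : ∀ n : ℕ, m < n → LambdaOps.lam n (φ p * w) = 0 := by
    intro n hn
    apply Pe.lam_eq_zero _ hpos
    rw [haug]; exact_mod_cast hn
  have hvanK : ∀ n : ℕ, m < n → LambdaOps.lam n p = 0 := by
    intro n hn
    apply P.lam_eq_zero _ hp
    rw [hm]; exact_mod_cast hn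
  have hlam : ∀ n : ℕ, LambdaOps.lam n (φ p * w) = φ (LambdaOps.lam n p) * w ^ n := by
    intro n
    have h := lamSeries_line_mul Pe hsplit hw (φ p)
    have h2 := congrArg (PowerSeries.coeff n) h
    rw [coeff_lamSeries, PowerSeries.coeff_rescale, coeff_lamSeries] at h2
    rw [mul_comm (φ p) w, h2, hext.isLambdaHom, mul_comm]
  rw [fact1 h1e (φ p * w) m hvan]
  have hterm : ∀ n ∈ Finset.range (m + 1),
      PowerSeries.C (LambdaOps.lam n (φ p * w)) * PowerSeries.X ^ n *
        (1 - PowerSeries.X) ^ (m - n) =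
      PowerSeries.C (φ (LambdaOps.lam n p)) * (PowerSeries.C w * PowerSeries.X) ^ n *
        ((1 + PowerSeries.C (w - 1) * PowerSeries.X) - PowerSeries.C w * PowerSeries.X) ^
          (m - n) := by
    intro n _
    have hb : (1 + PowerSeries.C (w - 1) * PowerSeries.X) - PowerSeries.C w * PowerSeries.X =
        (1 - PowerSeries.X : PowerSeries Ke) := by
      rw [map_sub, map_one]; ring
    rw [hb, hlam, map_mul, map_pow, mul_pow]
    ring
  have h2 := fact2 (fun n => PowerSeries.C (φ (LambdaOps.lam n p)))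
    (PowerSeries.C w * PowerSeries.X) (1 + PowerSeries.C (w - 1) * PowerSeries.X) m
  beta_reduce at h2
  rw [Finset.sum_congr rfl hterm, h2]
  apply InS.sum
  intro i hi
  rw [Finset.mem_range] at hi
  have hinner : (∑ n ∈ Finset.range (i + 1), (-1 : PowerSeries Ke) ^ (i - n) *
      (((m - n).choose (i - n) : ℕ) : PowerSeries Ke) *
        PowerSeries.C (φ (LambdaOps.lam n p))) =
      PowerSeries.C (φ (gamma i (p - ((m : ℕ) : K)))) := by
    rw [gamma_sub_natCast h1K p m hvanK i (by omega), map_sum, map_sum]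
    apply Finset.sum_congr rfl
    intro n _
    simp only [map_mul, map_pow, map_neg, map_one, map_natCast]
  rw [hinner]
  have hform : PowerSeries.C (φ (gamma i (p - ((m : ℕ) : K)))) *
      (PowerSeries.C w * PowerSeries.X) ^ i *
        (1 + PowerSeries.C (w - 1) * PowerSeries.X) ^ (m - i) =
      PowerSeries.C (φ (gamma i (p - ((m : ℕ) : K))) * w ^ i) * PowerSeries.X ^ i *
        (1 + PowerSeries.C (w - 1) * PowerSeries.X) ^ (m - i) := by
    rw [mul_pow, map_mul, map_pow]; ring
  rw [hform]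
  apply InS.C_mul_X_pow_mul P e he r hr
  · have haug0 : P.aug (p - ((m : ℕ) : K)) = 0 := by
      rw [map_sub, map_natCast, hm, sub_self]
    have h1 : φ (gamma i (p - ((m : ℕ) : K))) ∈ GG P e r i := by
      have := mem_GG P e (r := r) (k := i) (i := 0) (Nat.zero_le r)
        (gamma_mem P i _ haug0)
      rwa [pow_zero, mul_one] at this
    have h2 : w ^ i ∈ GG P e r 0 := pow_mem_GG0 P e he r hr hw0 i
    have := GG_mul P e he r hr h1 h2
    rwa [add_zero] at this
  · exact InS.pow P e he r hr (InS.linear P e he r hr hu') (m - i)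

/-- `y - ε(y)` has γ-series in `S` -/
def Good (y : Ke) : Prop := InS P e r (gammaSeries (y - ((Pe.aug y : ℤ) : Ke)))

theorem good_add {y y' : Ke} (hy : Good P e Pe r y) (hy' : Good P e Pe r y') :
    Good P e Pe r (y + y') := by
  unfold Good at *
  have : y + y' - ((Pe.aug (y + y') : ℤ) : Ke) =
      (y - ((Pe.aug y : ℤ) : Ke)) + (y' - ((Pe.aug y' : ℤ) : Ke)) := by
    rw [map_add, Int.cast_add]; ring
  rw [this, gammaSeries_add]
  exact InS.mul P e he r hr hy hy'

theorem good_neg {y : Ke} (hy : Good P e Pe r y) : Good P e Pe r (-y) := by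
  unfold Good at *
  have : -y - ((Pe.aug (-y) : ℤ) : Ke) = -(y - ((Pe.aug y : ℤ) : Ke)) := by
    rw [map_neg, Int.cast_neg]; ring
  rw [this]
  refine InS.inv P e he r hr hy ?_ ?_
  · rw [← PowerSeries.coeff_zero_eq_constantCoeff_apply, coeff_gammaSeries, gamma_zero_left]
  · rw [← gammaSeries_add, add_neg_cancel, gammaSeries_zero]

theorem good_gen (p : K) (hp : p ∈ P.pos) (j : ℕ) : Good P e Pe r (φ p * ℓ ^ j) := by
  unfold Good
  have hm := toNat_cast P p hp
  have haug : ((Pe.aug (φ p * ℓ ^ j) : ℤ) : Ke) = (((P.aug p).toNat : ℕ) : Ke) := by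
    rw [map_mul, hext.aug_comp, map_pow, hline.2, one_pow, mul_one]
    conv_lhs => rw [← hm]
    rw [Int.cast_natCast]
  rw [haug]
  exact inS_gen P e Pe he r hr hext hline hsplit (isLine_pow Pe hline j)
    (pow_mem_GG0 P e he r hr (root_mem_GG0 P e he r hr) j)
    (root_pow_sub_one_mem P e he r hr j) p hp (P.aug p).toNat hm.symm

theorem good_mono (a : K) (j : ℕ) : Good P e Pe r (φ a * ℓ ^ j) := by
  obtain ⟨p, q, hp, hq, rfl⟩ := P.exists_sub a
  rw [map_sub, sub_mul, sub_eq_add_neg]
  exact good_add P e Pe he r hr hext hline hsplit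
    (good_gen P e Pe he r hr hext hline hsplit p hp j)
    (good_neg P e Pe he r hr hext hline hsplit
      (good_gen P e Pe he r hr hext hline hsplit q hq j))

theorem good_all (y : Ke) : Good P e Pe r y := by
  obtain ⟨q, rfl⟩ := AdjoinRoot.mk_surjective y
  induction q using Polynomial.induction_on' with
  | add p q hp hq =>
    rw [map_add]
    exact good_add P e Pe he r hr hext hline hsplit hp hq
  | monomial n a =>
    rw [← Polynomial.C_mul_X_pow_eq_monomial, map_mul, map_pow, AdjoinRoot.mk_C, AdjoinRoot.mk_X]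
    exact good_mono P e Pe he r hr hext hline hsplit a n

theorem gamma_mem_GG (y : Ke) (hy : Pe.aug y = 0) (n : ℕ) : gamma n y ∈ GG P e r n := by
  have h := good_all P e Pe he r hr hext hline hsplit y
  unfold Good at h
  rw [hy, Int.cast_zero, sub_zero] at h
  have := h n
  rwa [coeff_gammaSeries] at this

theorem main (k : ℕ) :
    gammaFiltration Pe k =
      ⨆ i ∈ Finset.range (r + 1), AddSubgroup.map
        ((AddMonoidHom.mulRight ((AdjoinRoot.root (KRR.extPoly P e) - 1) ^ i)).comp
          (AdjoinRoot.of (KRR.extPoly P e)).toAddMonoidHom)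
        (gammaFiltration P (k - i)) := by
  show gammaFiltration Pe k = GG P e r k
  apply le_antisymm
  · rw [Groth.Agent.S3291.filt_eq, AddSubgroup.closure_le]
    rintro y ⟨l, h1, h2, rfl⟩
    have hprod : ∀ l : List (ℕ × Ke), (∀ p ∈ l, Pe.aug p.2 = 0) →
        (l.map fun p => gamma p.1 p.2).prod ∈ GG P e r (l.map Prod.fst).sum := by
      intro l
      induction l with
      | nil =>
        intro _
        simp only [List.map_nil, List.prod_nil, List.sum_nil]
        exact one_mem_GG P e r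
      | cons p l ih =>
        intro h
        simp only [List.map_cons, List.prod_cons, List.sum_cons]
        exact GG_mul P e he r hr
          (gamma_mem_GG P e Pe he r hr hext hline hsplit p.2
            (h p (List.mem_cons.mpr (Or.inl rfl))) p.1)
          (ih (fun q hq => h q (List.mem_cons.mpr (Or.inr hq))))
    exact GG_anti P e h2 (hprod l h1)
  · apply GG_le
    intro i hi x hx
    have hu1 : uu ∈ gammaFiltration Pe 1 := by
      have := gamma_mem Pe 1 uu (by rw [map_sub, hline.2, map_one, sub_self])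
      rwa [Groth.Agent.S3291.gamma_one_arg] at this
    have := mul_mem_filt Pe (map_filt P e Pe hext (k - i) hx) (pow_mem_filt Pe hu1 i)
    exact filt_mono Pe (by omega) this

end part3

end Groth.Agent.Lib.GammaElemH1
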