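import Mathlib
import Groth.Prelude.Def_PolLaw2
import Groth.Prelude.Def_SymTen
import Groth.Agent.Lib.FlatTS2_helper1

/-!
# Geometrically reduced fibres of `Γ^d_A(B)` for flat `B` (helper1)

* `T^d(B)/TS^d(B)` is flat for flat `B`, hence `N ⊗ TS^d(B) → N ⊗ T^d(B)` is injective;
* tensor products of geometrically reduced algebras are (geometrically) reduced;
* the fibres of `Γ^d_A(B)` are reduced if those of `B` are.
-/

set_option autoImplicit false
universe u
open scoped TensorProduct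

namespace Groth.Agent.Lib.GammaRedH1

open Groth.Agent.Lib.GammaSpanH1 Groth.Agent.Lib.FreeCoefH1 Groth.Agent.Lib.FreeFactH1
open Groth.Agent.Lib.SymNormH1 Groth.Agent.Lib.PolarH1 Groth.Agent.Lib.FlatTSH1

section pure

variable {A : Type u} [CommRing A] {d : ℕ}

theorem exists_retraction_free {κ : Type} [Fintype κ] [DecidableEq κ] :
    ∃ ρ : (⨂[A] _ : Fin d, (κ → A)) →ₗ[A] SymTen.TS A (κ → A) d,
      ρ ∘ₗ (SymTen.TS A (κ → A) d).val.toLinearMap = LinearMap.id := by
  have e : Module.Basis (ULift.{u} κ) A (κ → A) := (Pi.basisFun A κ).reindex Equiv.ulift.symm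
  obtain ⟨ρ, hρ⟩ : ∃ ρ : (⨂[A] _ : Fin d, (κ → A)) →ₗ[A] SymTen.TS A (κ → A) d,
      PolLaw.postcomp ρ (SymTen.tpowLaw A (κ → A) d).law = (tauTS A (κ → A) d).law :=
    ⟨ftil (d := d) e (tauTS A (κ → A) d).law, postcomp_ftil e _ (tauTS A (κ → A) d).homog⟩
  refine ⟨ρ, ?_⟩
  apply LinearMap.ext_on (span_coeff_of_flat (B := κ → A) (d := d))
  rintro c ⟨S, _, _, z, ℓ, -, rfl⟩
  rw [LinearMap.comp_apply, LinearMap.id_apply]
  have h1 : (SymTen.TS A (κ → A) d).val.toLinearMap
      (ev _ ℓ ((tauTS A (κ → A) d).law.toFun' S z)) =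
      ev _ ℓ ((SymTen.tpowLaw A (κ → A) d).law.toFun' S z) := coeff_tauTS S z ℓ
  rw [h1, ← ev_lTensor]
  congr 1
  exact congrArg (fun L : (κ → A) →ₚₗ[A] SymTen.TS A (κ → A) d => L.toFun' S z) hρ

theorem flat_quot_free {κ : Type} [Fintype κ] [DecidableEq κ] :
    Module.Flat A ((⨂[A] _ : Fin d, (κ → A)) ⧸
      Subalgebra.toSubmodule (SymTen.TS A (κ → A) d)) := by
  obtain ⟨ρ, hρ⟩ := exists_retraction_free (A := A) (d := d) (κ := κ)
  have e : Module.Basis (ULift.{u} κ) A (κ → A) := (Pi.basisFun A κ).reindex Equiv.ulift.symm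
  haveI : Module.Free A (⨂[A] _ : Fin d, (κ → A)) := Module.Free.of_basis (eT (d := d) e)
  obtain ⟨TSm, hTSm⟩ : ∃ TSm : Submodule A (⨂[A] _ : Fin d, (κ → A)),
      TSm = Subalgebra.toSubmodule (SymTen.TS A (κ → A) d) := ⟨_, rfl⟩
  have hρ' : ∀ (t : ⨂[A] _ : Fin d, (κ → A)) (ht : t ∈ SymTen.TS A (κ → A) d),
      ((ρ t : SymTen.TS A (κ → A) d) : ⨂[A] _ : Fin d, (κ → A)) = t := by
    intro t ht
    have := congrArg (fun g => ((g ⟨t, ht⟩ : SymTen.TS A (κ → A) d) : ⨂[A] _ : Fin d, (κ → A))) hρ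
    exact this
  obtain ⟨j, hj⟩ : ∃ j : (⨂[A] _ : Fin d, (κ → A)) →ₗ[A] (⨂[A] _ : Fin d, (κ → A)),
      ∀ t, j t = t - ((ρ t : SymTen.TS A (κ → A) d) : ⨂[A] _ : Fin d, (κ → A)) :=
    ⟨LinearMap.id - (SymTen.TS A (κ → A) d).val.toLinearMap ∘ₗ ρ, fun t => rfl⟩
  have hker : Subalgebra.toSubmodule (SymTen.TS A (κ → A) d) ≤ LinearMap.ker j := by
    intro t ht
    rw [LinearMap.mem_ker, hj, hρ' t ht, sub_self]
  have hi : (Subalgebra.toSubmodule (SymTen.TS A (κ → A) d)).mkQ ∘ₗ
      (Subalgebra.toSubmodule (SymTen.TS A (κ → A) d)).liftQ j hker = LinearMap.id := by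
    apply Submodule.linearMap_qext
    apply LinearMap.ext
    intro t
    simp only [LinearMap.comp_apply, Submodule.mkQ_apply, Submodule.liftQ_apply, LinearMap.id_apply]
    rw [hj, Submodule.Quotient.mk_sub, sub_eq_self, Submodule.Quotient.mk_eq_zero]
    exact (ρ t).2
  exact Module.Flat.of_retract _ _ hi

variable {Y : Type u} [CommRing Y] [Algebra A Y]

theorem exists_lift_family_sum_sym [Module.Flat A Y] (l : ℕ) (z : Fin l → ⨂[A] _ : Fin d, Y)
    (f : Fin l → A) (hs : ∑ i, f i • z i ∈ SymTen.TS A Y d) :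
    ∃ (κ : Type) (_ : Fintype κ) (_ : DecidableEq κ) (y : (κ → A) →ₗ[A] Y)
      (z' : Fin l → ⨂[A] _ : Fin d, (κ → A)),
      (∀ i, lmap y (z' i) = z i) ∧ ∑ i, f i • z' i ∈ SymTen.TS A (κ → A) d := by
  obtain ⟨ι, _, _, u, z₀, hz₀⟩ := exists_lift_family l z
  obtain ⟨s₀, hs₀⟩ : ∃ s₀ : ⨂[A] _ : Fin d, (ι → A), s₀ = ∑ i, f i • z₀ i := ⟨_, rfl⟩
  have hus : lmap u s₀ = ∑ i, f i • z i := by
    rw [hs₀, map_sum]
    simp only [map_smul, hz₀]
  have hside : ∀ w ∈ (Finset.univ : Finset (Equiv.Perm (Fin d))).toList.map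
      (fun σ => PiTensorProduct.reindex A (fun _ : Fin d => ι → A) σ s₀ - s₀),
      PiTensorProduct.map (fun _ => u) w = 0 := by
    intro w hw
    obtain ⟨σ, -, rfl⟩ := List.mem_map.1 hw
    show lmap u _ = 0
    rw [map_sub, lmap_reindex, hus, sub_eq_zero]
    exact (SymTen.mem_TS_iff A Y d _).1 hs σ
  obtain ⟨κ, _, _, a, y, hu, hk⟩ := plist_all (A := A) (M := Y) d ι u _ hside
  refine ⟨κ, inferInstance, inferInstance, y, fun i => lmap a (z₀ i), ?_, ?_⟩
  · intro i
    rw [← LinearMap.comp_apply, ← lmap_comp, ← hu, hz₀]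
  · have e : ∑ i, f i • lmap a (z₀ i) = lmap a s₀ := by
      rw [hs₀, map_sum]
      simp only [map_smul]
    rw [e, SymTen.mem_TS_iff]
    intro σ
    have h := hk _ (List.mem_map.2 ⟨σ, Finset.mem_toList.2 (Finset.mem_univ _), rfl⟩)
    have h' : lmap a (PiTensorProduct.reindex A (fun _ : Fin d => ι → A) σ s₀ - s₀) = 0 := h
    rw [map_sub, sub_eq_zero, lmap_reindex] at h'
    exact h'

theorem flat_quot [Module.Flat A Y] :
    Module.Flat A ((⨂[A] _ : Fin d, Y) ⧸ Subalgebra.toSubmodule (SymTen.TS A Y d)) := by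
  apply Module.Flat.of_forall_isTrivialRelation
  intro l f x hfx
  choose t ht using fun i => Submodule.mkQ_surjective (Subalgebra.toSubmodule (SymTen.TS A Y d)) (x i)
  have hs : ∑ i, f i • t i ∈ SymTen.TS A Y d := by
    have h0 : (Subalgebra.toSubmodule (SymTen.TS A Y d)).mkQ (∑ i, f i • t i) = 0 := by
      rw [map_sum]
      simp only [map_smul, ht]
      exact hfx
    exact (Submodule.Quotient.mk_eq_zero _).1 h0
  obtain ⟨κ, _, _, y, t', ht', hs'⟩ := exists_lift_family_sum_sym l t f hs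
  haveI := flat_quot_free (A := A) (d := d) (κ := κ)
  have hrel : ∑ i, f i • ((Subalgebra.toSubmodule (SymTen.TS A (κ → A) d)).mkQ (t' i)) = 0 := by
    have h0 : (Subalgebra.toSubmodule (SymTen.TS A (κ → A) d)).mkQ (∑ i, f i • t' i) = 0 :=
      (Submodule.Quotient.mk_eq_zero _).2 hs'
    rw [map_sum] at h0
    simpa only [map_smul] using h0
  obtain ⟨k, c, y', h1, h2⟩ := Module.Flat.isTrivialRelation_of_sum_smul_eq_zero hrel
  obtain ⟨m, hm⟩ : ∃ m : ((⨂[A] _ : Fin d, (κ → A)) ⧸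
      Subalgebra.toSubmodule (SymTen.TS A (κ → A) d)) →ₗ[A]
      ((⨂[A] _ : Fin d, Y) ⧸ Subalgebra.toSubmodule (SymTen.TS A Y d)),
      ∀ w, m ((Subalgebra.toSubmodule (SymTen.TS A (κ → A) d)).mkQ w) =
        (Subalgebra.toSubmodule (SymTen.TS A Y d)).mkQ (lmap y w) :=
    ⟨Submodule.mapQ _ _ (lmap y) (fun w hw => lmap_mem_TS y w hw), fun w => rfl⟩
  refine ⟨k, c, fun j => m (y' j), fun i => ?_, h2⟩
  have h1i : (Subalgebra.toSubmodule (SymTen.TS A (κ → A) d)).mkQ (t' i) =
      ∑ j, c i j • y' j := h1 i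
  rw [← ht i, ← ht' i, ← hm, h1i, map_sum]
  simp only [map_smul]

theorem lTensor_TS_injective [Module.Flat A Y] (N : Type u) [AddCommGroup N] [Module A N] :
    Function.Injective ((Subalgebra.toSubmodule (SymTen.TS A Y d)).subtype.lTensor N) := by
  haveI := flat_quot (A := A) (d := d) (Y := Y)
  exact LinearMap.lTensor_injective_of_exact_of_flat
    (Subalgebra.toSubmodule (SymTen.TS A Y d)).mkQ (Submodule.mkQ_surjective _) _
    (Submodule.subtype_injective _) (LinearMap.exact_subtype_mkQ _) N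

end pure

section geomred

theorem isReduced_pi {ι : Type*} (R : ι → Type*) [∀ i, CommRing (R i)] [∀ i, IsReduced (R i)] :
    IsReduced (∀ i, R i) := by
  constructor
  intro x hx
  funext i
  exact (hx.map (Pi.evalRingHom R i)).eq_zero

theorem isReduced_tensor_fg (K : Type u) [Field K] (R₁ D : Type u) [CommRing R₁] [CommRing D]
    [Algebra K R₁] [Algebra K D]
    (h₁ : ∀ (L : Type u) [Field L] [Algebra K L], IsReduced (R₁ ⊗[K] L))
    [Algebra.FiniteType K D] [IsReduced D] : IsReduced (R₁ ⊗[K] D) := by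
  classical
  haveI : IsNoetherianRing D := Algebra.FiniteType.isNoetherianRing K D
  have hfin : (minimalPrimes D).Finite := minimalPrimes.finite_of_isNoetherianRing D
  haveI : Fintype (minimalPrimes D) := hfin.fintype
  haveI hprime : ∀ p : minimalPrimes D, (p : Ideal D).IsPrime :=
    fun p => Ideal.minimalPrimes_isPrime p.2
  obtain ⟨ψ, hψdef⟩ : ∃ ψ : D →ₐ[K] (∀ p : minimalPrimes D, FractionRing (D ⧸ (p : Ideal D))),
      ∀ x p, ψ x p = algebraMap (D ⧸ (p : Ideal D)) (FractionRing (D ⧸ (p : Ideal D)))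
        (Ideal.Quotient.mk (p : Ideal D) x) :=
    ⟨Pi.algHom K _ (fun p => (IsScalarTower.toAlgHom K (D ⧸ (p : Ideal D))
      (FractionRing (D ⧸ (p : Ideal D)))).comp (Ideal.Quotient.mkₐ K (p : Ideal D))),
      fun x p => rfl⟩
  have hψ : Function.Injective ψ := by
    rw [injective_iff_map_eq_zero]
    intro x hx
    have hmem : ∀ p ∈ minimalPrimes D, x ∈ p := by
      intro p hp
      have h0 := congrFun hx ⟨p, hp⟩
      rw [hψdef] at h0
      haveI : p.IsPrime := Ideal.minimalPrimes_isPrime hp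
      have h1 : Ideal.Quotient.mk p x = 0 :=
        (map_eq_zero_iff _ (IsFractionRing.injective (D ⧸ p) (FractionRing (D ⧸ p)))).1 h0
      exact Ideal.Quotient.eq_zero_iff_mem.1 h1
    have hx' : x ∈ sInf (minimalPrimes D) := Submodule.mem_sInf.2 hmem
    rw [minimalPrimes, Ideal.sInf_minimalPrimes] at hx'
    have h2 : x ∈ nilradical D := hx'
    rw [nilradical_eq_zero] at h2
    exact h2
  haveI : ∀ p : minimalPrimes D, IsReduced (R₁ ⊗[K] FractionRing (D ⧸ (p : Ideal D))) :=
    fun p => h₁ _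
  haveI : IsReduced (∀ p : minimalPrimes D, R₁ ⊗[K] FractionRing (D ⧸ (p : Ideal D))) :=
    isReduced_pi _
  have hinj1 : Function.Injective (Algebra.TensorProduct.map (AlgHom.id K R₁) ψ) :=
    Module.Flat.lTensor_preserves_injective_linearMap _ hψ
  obtain ⟨e, -⟩ : ∃ e : (R₁ ⊗[K] (∀ p : minimalPrimes D, FractionRing (D ⧸ (p : Ideal D)))) ≃ₐ[K]
      (∀ p : minimalPrimes D, R₁ ⊗[K] FractionRing (D ⧸ (p : Ideal D))), True :=
    ⟨Algebra.TensorProduct.piRight K K R₁ (fun p : minimalPrimes D =>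
      FractionRing (D ⧸ (p : Ideal D))), trivial⟩
  exact isReduced_of_injective
    (e.toAlgHom.comp (Algebra.TensorProduct.map (AlgHom.id K R₁) ψ)) (e.injective.comp hinj1)

theorem isReduced_tensor_of_geomReduced (K : Type u) [Field K] (R₁ R₂ : Type u) [CommRing R₁]
    [CommRing R₂] [Algebra K R₁] [Algebra K R₂]
    (h₁ : ∀ (L : Type u) [Field L] [Algebra K L], IsReduced (R₁ ⊗[K] L))
    [IsReduced R₂] : IsReduced (R₁ ⊗[K] R₂) := by
  apply IsReduced.tensorProduct_of_flat_of_forall_fg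
  intro D hD
  haveI : Algebra.FiniteType K D := (Subalgebra.fg_iff_finiteType D).1 hD
  haveI : IsReduced D := isReduced_of_injective D.val Subtype.val_injective
  exact isReduced_tensor_fg K R₁ D h₁

/-- all fibres over fields are reduced -/
def GRed (A X : Type u) [CommRing A] [CommRing X] [Algebra A X] : Prop :=
  ∀ (L : Type u) [Field L] [Algebra A L], IsReduced (L ⊗[A] X)

theorem GRed.tensor {A X Y : Type u} [CommRing A] [CommRing X] [Algebra A X] [CommRing Y]
    [Algebra A Y] (hX : GRed A X) (hY : GRed A Y) : GRed A (X ⊗[A] Y) := by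
  intro L _ _
  haveI : IsReduced (L ⊗[A] Y) := hY L
  have h₁ : ∀ (L' : Type u) [Field L'] [Algebra L L'], IsReduced ((L ⊗[A] X) ⊗[L] L') := by
    intro L' _ _
    letI : Algebra A L' := ((algebraMap L L').comp (algebraMap A L)).toAlgebra
    haveI : IsScalarTower A L L' := IsScalarTower.of_algebraMap_eq (fun _ => rfl)
    haveI : IsReduced (L' ⊗[A] X) := hX L'
    obtain ⟨e, -⟩ : ∃ e : ((L ⊗[A] X) ⊗[L] L') ≃+* (L' ⊗[A] X), True :=
      ⟨(Algebra.TensorProduct.comm L (L ⊗[A] X) L').toRingEquiv.trans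
        (Algebra.TensorProduct.cancelBaseChange A L L' L' X).toRingEquiv, trivial⟩
    exact isReduced_of_injective e e.injective
  haveI : IsReduced ((L ⊗[A] X) ⊗[L] (L ⊗[A] Y)) :=
    isReduced_tensor_of_geomReduced L (L ⊗[A] X) (L ⊗[A] Y) h₁
  obtain ⟨e, -⟩ : ∃ e : (L ⊗[A] (X ⊗[A] Y)) ≃+* ((L ⊗[A] X) ⊗[L] (L ⊗[A] Y)), True :=
    ⟨(Algebra.TensorProduct.assoc A A L L X Y).symm.toRingEquiv.trans
      (Algebra.TensorProduct.cancelBaseChange A L L (L ⊗[A] X) Y).symm.toRingEquiv, trivial⟩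
  exact isReduced_of_injective e e.injective

end geomred

section tpower

variable {A : Type u} [CommRing A] (B : Type u) [CommRing B] [Algebra A B]

theorem splitL_mul (d : ℕ) (x y : ⨂[A] _ : Fin (d + 1), B) :
    splitL B d (x * y) = splitL B d x * splitL B d y := by
  induction x using PiTensorProduct.induction_on with
  | smul_tprod r v =>
    induction y using PiTensorProduct.induction_on with
    | smul_tprod r' v' =>
      rw [smul_mul_smul_comm, PiTensorProduct.tprod_mul_tprod, map_smul, map_smul, map_smul,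
        splitL_tprod, splitL_tprod, splitL_tprod, smul_mul_smul_comm,
        Algebra.TensorProduct.tmul_mul_tmul, PiTensorProduct.tprod_mul_tprod]
      rfl
    | add y y' hy hy' => rw [mul_add, map_add, map_add, mul_add, hy, hy']
  | add x x' hx hx' => rw [add_mul, map_add, map_add, add_mul, hx, hx']

theorem splitL_one (d : ℕ) : splitL B d (1 : ⨂[A] _ : Fin (d + 1), B) = 1 := by
  rw [PiTensorProduct.one_def, splitL_tprod, Algebra.TensorProduct.one_def, PiTensorProduct.one_def]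
  rfl

/-- splitting off the last factor, as an algebra map -/
noncomputable def splitAlg (d : ℕ) :
    (⨂[A] _ : Fin (d + 1), B) →ₐ[A] (⨂[A] _ : Fin d, B) ⊗[A] B :=
  AlgHom.ofLinearMap (splitL B d) (splitL_one B d) (splitL_mul B d)

variable {B}

theorem gred_tpow (hB : GRed A B) : ∀ d : ℕ, GRed A (⨂[A] _ : Fin d, B) := by
  intro d
  induction d with
  | zero =>
    intro L _ _
    have hmap : ∀ r : A, algebraMap A (⨂[A] _ : Fin 0, B) r =
        (PiTensorProduct.isEmptyEquiv (R := A) (s := fun _ : Fin 0 => B) (Fin 0)).symm r := by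
      intro r
      rw [Algebra.algebraMap_eq_smul_one, PiTensorProduct.isEmptyEquiv_symm_apply,
        PiTensorProduct.one_def]
      congr 2
      funext i
      exact i.elim0
    have hbij : Function.Bijective (algebraMap A (⨂[A] _ : Fin 0, B)) := by
      have : (algebraMap A (⨂[A] _ : Fin 0, B) : A → _) =
          (PiTensorProduct.isEmptyEquiv (R := A) (s := fun _ : Fin 0 => B) (Fin 0)).symm :=
        funext hmap
      rw [this]
      exact (PiTensorProduct.isEmptyEquiv (R := A) (s := fun _ : Fin 0 => B) (Fin 0)).symm.bijective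
    obtain ⟨e₀, -⟩ : ∃ e₀ : A ≃ₐ[A] (⨂[A] _ : Fin 0, B), True :=
      ⟨AlgEquiv.ofBijective (Algebra.ofId A _) hbij, trivial⟩
    obtain ⟨e, -⟩ : ∃ e : (L ⊗[A] (⨂[A] _ : Fin 0, B)) ≃+* L, True :=
      ⟨(Algebra.TensorProduct.congr (AlgEquiv.refl : L ≃ₐ[L] L) e₀.symm).toRingEquiv.trans
        (Algebra.TensorProduct.rid A L L).toRingEquiv, trivial⟩
    exact isReduced_of_injective e e.injective
  | succ d ih =>
    intro L _ _
    haveI : IsReduced (L ⊗[A] ((⨂[A] _ : Fin d, B) ⊗[A] B)) := (ih.tensor hB) L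
    have hinj : Function.Injective ((splitL (A := A) B d).lTensor L) := by
      apply Function.LeftInverse.injective (g := (joinL (A := A) B d).lTensor L)
      intro x
      rw [← LinearMap.comp_apply, ← LinearMap.lTensor_comp]
      have : joinL (A := A) B d ∘ₗ splitL (A := A) B d = LinearMap.id :=
        LinearMap.ext (joinL_splitL B d)
      rw [this, LinearMap.lTensor_id, LinearMap.id_apply]
    exact isReduced_of_injective (Algebra.TensorProduct.map (AlgHom.id L L) (splitAlg B d)) hinj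

end tpower

section main

variable {A : Type u} [CommRing A] {B : Type u} [CommRing B] [Algebra A B] {C : Type u} [CommRing C]
  [Algebra A C] {d : ℕ}

theorem main13730 (γ : PolLaw.MulLaw A B C d) (hγ : PolLaw.IsGammaD γ) [Module.Flat A B]
    (hred : ∀ (K : Type u) [Field K] [Algebra A K], IsReduced (K ⊗[A] B)) :
    ∀ (K : Type u) [Field K] [Algebra A K], IsReduced (K ⊗[A] C) := by
  intro K _ _
  have hτ := isGammaD_tauTS (A := A) (B := B) d (Or.inl inferInstance)
  obtain ⟨φ, hφ, -⟩ := hγ _ (tauTS A B d)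
  obtain ⟨ψ, hψ, -⟩ := hτ _ γ
  obtain ⟨i0, -, huniq⟩ := hγ _ γ
  have h1 : ψ.comp φ = i0 := huniq _ (by
    show PolLaw.postcomp (ψ.comp φ).toLinearMap γ.law = γ.law
    rw [AlgHom.comp_toLinearMap, postcomp_comp]
    exact (congrArg (PolLaw.postcomp ψ.toLinearMap) hφ).trans hψ)
  have h2 : AlgHom.id A C = i0 := huniq _ (by
    show PolLaw.postcomp (AlgHom.id A C).toLinearMap γ.law = γ.law
    exact postcomp_id γ.law)
  have h3 : ψ.comp φ = AlgHom.id A C := h1.trans h2.symm
  haveI : IsReduced (K ⊗[A] (⨂[A] _ : Fin d, B)) := gred_tpow (A := A) (B := B) hred d K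
  have hφi : Function.Injective (φ.toLinearMap.lTensor K) := by
    apply Function.LeftInverse.injective (g := ψ.toLinearMap.lTensor K)
    intro x
    rw [← LinearMap.comp_apply, ← LinearMap.lTensor_comp]
    have : ψ.toLinearMap ∘ₗ φ.toLinearMap = LinearMap.id := by
      apply LinearMap.ext
      intro c
      exact congrArg (fun t : C →ₐ[A] C => t c) h3
    rw [this, LinearMap.lTensor_id, LinearMap.id_apply]
  have hι : Function.Injective ((SymTen.TS A B d).val.toLinearMap.lTensor K) :=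
    lTensor_TS_injective (A := A) (d := d) (Y := B) K
  exact isReduced_of_injective
    ((Algebra.TensorProduct.map (AlgHom.id K K) (SymTen.TS A B d).val).comp
      (Algebra.TensorProduct.map (AlgHom.id K K) φ)) (hι.comp hφi)

end main

end Groth.Agent.Lib.GammaRedH1
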