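import Mathlib
import Groth.Prelude.Def_PolLaw2
import Groth.Prelude.Def_SymTen
import Groth.Agent.Lib.GammaFT_helper1
import Groth.Agent.Lib.GammaRed_helper1

/-!
# `Γ^d_A(P/I)` as an explicit quotient of the symmetric tensors `TS^d_A(P)` of a flat cover (helper1)

For `P` flat over `A`, `π : P → B` surjective with kernel generated by `s`, the kernel of the
canonical surjection `TS^d_A(P) → Γ^d_A(B)` is the ideal `kerId d s` generated by the coefficients
of `τ(x + w·(1 ⊗ b)) − τ(x)`, `b ∈ s`, over polynomial test algebras.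
-/

set_option autoImplicit false
universe u
open scoped TensorProduct
open Module

namespace Groth.Agent.Lib.GammaFPH1

open Groth.Agent.Lib.GammaSpanH1 Groth.Agent.Lib.FlatTSH1 Groth.Agent.Lib.PolLawSurjH1
  Groth.Agent.Lib.PolLawKerH1

noncomputable section

section kernel

variable {A : Type u} [CommRing A] {P : Type u} [CommRing P] [Algebra A P] (d : ℕ)

/-- generators of the kernel of `TS^d(P) → Γ^d(P/I)`, `I = (s)` -/
def genSet (s : Set P) : Set (SymTen.TS A P d) :=
  {c | ∃ (n : ℕ) (x w : MvPolynomial (Fin n) A ⊗[A] P) (b : P)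
      (ℓ : MvPolynomial (Fin n) A →ₗ[A] A), b ∈ s ∧
      c = ev (SymTen.TS A P d) ℓ
        ((tauTS A P d).law.toFun' (MvPolynomial (Fin n) A)
            (x + w * ((1 : MvPolynomial (Fin n) A) ⊗ₜ[A] b)) -
          (tauTS A P d).law.toFun' (MvPolynomial (Fin n) A) x)}

/-- the kernel ideal -/
def kerId (s : Set P) : Ideal (SymTen.TS A P d) := Ideal.span (genSet d s)

variable {d}

set_option maxHeartbeats 1600000 in
theorem mem_of_map_eq_zero [Module.Flat A P] {B C : Type u} [CommRing B] [Algebra A B] [CommRing C]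
    [Algebra A C] (γ : PolLaw.MulLaw A B C d) (hγ : PolLaw.IsGammaD γ) (π : P →ₐ[A] B)
    (hπ : Function.Surjective π) (s : Set P) (hs : Ideal.span s = RingHom.ker π)
    (g : SymTen.TS A P d →ₐ[A] C)
    (hg : PolLaw.postcomp g.toLinearMap (tauTS A P d).law = (γ.precomp π).law)
    (J : Ideal (SymTen.TS A P d))
    (hJ : ∀ (n : ℕ) (x w : MvPolynomial (Fin n) A ⊗[A] P) (b : P)
      (ℓ : MvPolynomial (Fin n) A →ₗ[A] A), b ∈ s →
      ev (SymTen.TS A P d) ℓ
        ((tauTS A P d).law.toFun' (MvPolynomial (Fin n) A)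
            (x + w * ((1 : MvPolynomial (Fin n) A) ⊗ₜ[A] b)) -
          (tauTS A P d).law.toFun' (MvPolynomial (Fin n) A) x) ∈ J)
    (c : SymTen.TS A P d) (hc : g c = 0) : c ∈ J := by
  have hval : ∀ (S : Type u) [CommSemiring S] [Algebra A S] (y : S ⊗[A] P),
      g.toLinearMap.lTensor S ((tauTS A P d).law.toFun' S y) =
        γ.law.toFun' S (π.toLinearMap.lTensor S y) := fun S _ _ y =>
    congrArg (fun L : P →ₚₗ[A] C => L.toFun' S y) hg
  obtain ⟨q, hq⟩ : ∃ q : SymTen.TS A P d →ₐ[A] (SymTen.TS A P d ⧸ J),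
    q = Ideal.Quotient.mkₐ A J := ⟨_, rfl⟩
  have hq0 : ∀ t, t ∈ J → q t = 0 := fun t ht => by
    rw [hq]
    exact Ideal.Quotient.eq_zero_iff_mem.2 ht
  obtain ⟨F, hF⟩ : ∃ F : PolLaw.MulLaw A P (SymTen.TS A P d ⧸ J) d,
      F = PolLaw.MulLaw.postcomp q (tauTS A P d) :=
    ⟨PolLaw.MulLaw.postcomp q (tauTS A P d), rfl⟩
  have hFS : ∀ (S : Type u) [CommSemiring S] [Algebra A S] (x : S ⊗[A] P),
      F.law.toFun' S x = q.toLinearMap.lTensor S ((tauTS A P d).law.toFun' S x) := by
    intro S _ _ x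
    rw [hF]
    rfl
  have hker : RingHom.ker π ≤ PolLaw.ker F.law := by
    rw [← hs, Ideal.span_le]
    intro b hb
    apply mem_ker_of_mvPolynomial
    intro n x w
    rw [hFS, hFS, ← sub_eq_zero, ← map_sub]
    obtain ⟨U, hU⟩ : ∃ U, U = (tauTS A P d).law.toFun' (MvPolynomial (Fin n) A)
        (x + w * ((1 : MvPolynomial (Fin n) A) ⊗ₜ[A] b)) -
      (tauTS A P d).law.toFun' (MvPolynomial (Fin n) A) x := ⟨_, rfl⟩
    rw [← hU]
    obtain ⟨s₀, hs₀⟩ := exists_decomp (SymTen.TS A P d) U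
    have h1 := hs₀ s₀ subset_rfl
    have h2 : q.toLinearMap.lTensor (MvPolynomial (Fin n) A) U =
        q.toLinearMap.lTensor (MvPolynomial (Fin n) A)
          (∑ m ∈ s₀, (MvPolynomial.monomial m (1 : A)) ⊗ₜ[A]
            ev (SymTen.TS A P d) (MvPolynomial.lcoeff A m) U) := congrArg _ h1
    rw [h2, map_sum]
    apply Finset.sum_eq_zero
    intro m _
    rw [LinearMap.lTensor_tmul, AlgHom.toLinearMap_apply, hq0, TensorProduct.tmul_zero]
    rw [hU]
    exact hJ n x w b _ hb
  obtain ⟨G, hG⟩ := exists_descend F π hπ hker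
  obtain ⟨h, hh, -⟩ := hγ _ G
  have hh' : ∀ (S : Type u) [CommSemiring S] [Algebra A S] (y : S ⊗[A] B),
      h.toLinearMap.lTensor S (γ.law.toFun' S y) = G.law.toFun' S y := fun S _ _ y =>
    congrArg (fun L : B →ₚₗ[A] (SymTen.TS A P d ⧸ J) => L.toFun' S y) hh
  have hτ := isGammaD_tauTS (A := A) (B := P) d (Or.inl inferInstance)
  have huniq : h.comp g = q := by
    refine (hτ _ F).unique ?_ ?_
    · apply PolynomialLaw.ext
      funext S _ _ x
      show (h.comp g).toLinearMap.lTensor S ((tauTS A P d).law.toFun' S x) = F.law.toFun' S x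
      have h2 : (h.comp g).toLinearMap = h.toLinearMap ∘ₗ g.toLinearMap := rfl
      rw [h2, LinearMap.lTensor_comp, LinearMap.comp_apply, hval, hh', hG]
    · apply PolynomialLaw.ext
      funext S _ _ x
      show q.toLinearMap.lTensor S ((tauTS A P d).law.toFun' S x) = F.law.toFun' S x
      rw [hFS]
  have h3 : q c = 0 := by
    rw [← huniq, AlgHom.comp_apply, hc, map_zero]
  rw [hq] at h3
  exact Ideal.Quotient.eq_zero_iff_mem.1 h3

theorem map_eq_zero_of_mem {B C : Type u} [CommRing B] [Algebra A B] [CommRing C]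
    [Algebra A C] (γ : PolLaw.MulLaw A B C d) (π : P →ₐ[A] B)
    (s : Set P) (hs : Ideal.span s = RingHom.ker π)
    (g : SymTen.TS A P d →ₐ[A] C)
    (hg : PolLaw.postcomp g.toLinearMap (tauTS A P d).law = (γ.precomp π).law)
    (c : SymTen.TS A P d) (hc : c ∈ kerId d s) : g c = 0 := by
  have hval : ∀ (S : Type u) [CommSemiring S] [Algebra A S] (y : S ⊗[A] P),
      g.toLinearMap.lTensor S ((tauTS A P d).law.toFun' S y) =
        γ.law.toFun' S (π.toLinearMap.lTensor S y) := fun S _ _ y =>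
    congrArg (fun L : P →ₚₗ[A] C => L.toFun' S y) hg
  have hle : kerId d s ≤ RingHom.ker g.toRingHom := by
    rw [kerId, Ideal.span_le]
    rintro _ ⟨n, x, w, b, ℓ, hb, rfl⟩
    rw [SetLike.mem_coe, RingHom.mem_ker]
    have hb0 : π b = 0 := by
      have h1 : b ∈ RingHom.ker π := hs ▸ Ideal.subset_span hb
      exact (RingHom.mem_ker).1 h1
    have h2 : π.toLinearMap.lTensor (MvPolynomial (Fin n) A)
        (x + w * ((1 : MvPolynomial (Fin n) A) ⊗ₜ[A] b)) =
          π.toLinearMap.lTensor (MvPolynomial (Fin n) A) x := by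
      rw [PolLaw.lTensor_algHom_apply, PolLaw.lTensor_algHom_apply, map_add, map_mul,
        Algebra.TensorProduct.map_tmul, hb0, TensorProduct.tmul_zero, mul_zero, add_zero]
    have h3 := ev_lTensor (SymTen.TS A P d) ℓ g.toLinearMap
      ((tauTS A P d).law.toFun' (MvPolynomial (Fin n) A)
          (x + w * ((1 : MvPolynomial (Fin n) A) ⊗ₜ[A] b)) -
        (tauTS A P d).law.toFun' (MvPolynomial (Fin n) A) x)
    rw [map_sub, hval, hval, h2, sub_self, map_zero] at h3
    exact h3.symm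
  exact (RingHom.mem_ker).1 (hle hc)

theorem ker_eq_kerId [Module.Flat A P] {B C : Type u} [CommRing B] [Algebra A B] [CommRing C]
    [Algebra A C] (γ : PolLaw.MulLaw A B C d) (hγ : PolLaw.IsGammaD γ) (π : P →ₐ[A] B)
    (hπ : Function.Surjective π) (s : Set P) (hs : Ideal.span s = RingHom.ker π)
    (g : SymTen.TS A P d →ₐ[A] C)
    (hg : PolLaw.postcomp g.toLinearMap (tauTS A P d).law = (γ.precomp π).law)
    (c : SymTen.TS A P d) :
    g c = 0 ↔ c ∈ kerId d s :=
  ⟨mem_of_map_eq_zero γ hγ π hπ s hs g hg (kerId d s)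
    (fun n x w b ℓ hb => Ideal.subset_span ⟨n, x, w, b, ℓ, hb, rfl⟩) c,
    map_eq_zero_of_mem γ π s hs g hg c⟩

end kernel

end

end Groth.Agent.Lib.GammaFPH1
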