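import Mathlib
import Groth.Prelude.Def_PolLaw2
import Groth.Prelude.Def_SymTen
import Groth.Agent.Lib.GammaFP1_helper1

/-!
# Base change of symmetric tensors of a free algebra (helper1)

For `Q` free over `R` and any `R`-algebra `A`, `A ⊗[R] TS^d_R(Q) ≃ₐ[A] TS^d_A(A ⊗[R] Q)`.
Consequently `TS^d_A(A ⊗[R] Q)` is of finite presentation over `A` when `R` is noetherian and
`TS^d_R(Q)` is of finite type.
-/

set_option autoImplicit false
universe u
open scoped TensorProduct
open Module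

namespace Groth.Agent.Lib.GammaFPH1

open Groth.Agent.Lib.GammaSpanH1 Groth.Agent.Lib.FlatTSH1 Groth.Agent.Lib.PolLawSurjH1
  Groth.Agent.Lib.PolLawKerH1 Groth.Agent.Lib.SymBCH1 Groth.Agent.Lib.GammaFTH1
  Groth.Agent.Lib.FreeFactH1 Groth.Agent.Lib.GammaRedH1

noncomputable section

theorem smul_mul_smul_gen {A P : Type u} [CommRing A] [CommRing P] [Algebra A P] (d : ℕ)
    (a₁ a₂ : A) (x y : ⨂[A] _ : Fin d, P) : (a₁ • x) * (a₂ • y) = (a₁ * a₂) • (x * y) :=
  smul_mul_smul_comm a₁ x a₂ y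

section phi

variable (R : Type u) [CommRing R] (A : Type u) [CommRing A] [Algebra R A]
  (Q : Type u) [CommRing Q] [Algebra R Q] (d : ℕ) {I : Type u} (eR : Basis I R Q)

/-- the comparison of symmetric tensors under base change, as a ring hom -/
def jjTS : SymTen.TS R Q d →+* SymTen.TS A (A ⊗[R] Q) d where
  toFun t := ⟨JJ R A Q d t.1, fun σ => by rw [JJ_reindex, t.2 σ]⟩
  map_one' := Subtype.ext (JJ_one R A Q d)
  map_mul' x y := Subtype.ext (JJ_mul R A Q d x.1 y.1)
  map_zero' := Subtype.ext (map_zero _)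
  map_add' x y := Subtype.ext (map_add _ _ _)

theorem jjTS_val (t : SymTen.TS R Q d) :
    ((jjTS R A Q d t : SymTen.TS A (A ⊗[R] Q) d) : ⨂[A] _ : Fin d, A ⊗[R] Q) =
      JJ R A Q d t.1 := rfl

/-- the linearized comparison map on full tensor powers -/
def PhiT : A ⊗[R] (⨂[R] _ : Fin d, Q) →ₗ[A] (⨂[A] _ : Fin d, A ⊗[R] Q) :=
  LinearMap.liftBaseChange A (JJ R A Q d)

theorem PhiT_tmul (a : A) (t : ⨂[R] _ : Fin d, Q) :
    PhiT R A Q d (a ⊗ₜ[R] t) = a • JJ R A Q d t :=
  LinearMap.liftBaseChange_tmul A _ a t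

include eR in
theorem PhiT_injective : Function.Injective (PhiT R A Q d) := by
  have h : PhiT R A Q d = ((Algebra.TensorProduct.basis A (eT (d := d) eR)).equiv
      (eT (d := d) (eA R A Q eR)) (Equiv.refl _)).toLinearMap := by
    apply (Algebra.TensorProduct.basis A (eT (d := d) eR)).ext
    intro c
    have h1 : PhiT R A Q d (Algebra.TensorProduct.basis A (eT (d := d) eR) c) =
        eT (d := d) (eA R A Q eR) c := by
      rw [Algebra.TensorProduct.basis_apply, PhiT_tmul, one_smul, JJ_eT]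
    rw [h1, LinearEquiv.coe_coe, Basis.equiv_apply, Equiv.refl_apply]
  rw [h]
  exact LinearEquiv.injective _

/-- `A ⊗ TS_R(Q) → T_A(A ⊗ Q)` -/
def PhiL : A ⊗[R] (SymTen.TS R Q d) →ₗ[A] (⨂[A] _ : Fin d, A ⊗[R] Q) :=
  LinearMap.liftBaseChange A ((JJ R A Q d) ∘ₗ (SymTen.TS R Q d).val.toLinearMap)

theorem PhiL_tmul (a : A) (t : SymTen.TS R Q d) :
    PhiL R A Q d (a ⊗ₜ[R] t) = a • JJ R A Q d t.1 :=
  LinearMap.liftBaseChange_tmul A _ a t

theorem PhiL_eq (y : A ⊗[R] (SymTen.TS R Q d)) :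
    PhiL R A Q d y =
      PhiT R A Q d ((Subalgebra.toSubmodule (SymTen.TS R Q d)).subtype.lTensor A y) := by
  induction y using TensorProduct.induction_on with
  | zero => rw [map_zero, map_zero, map_zero]
  | tmul a t =>
    rw [PhiL_tmul, LinearMap.lTensor_tmul, PhiT_tmul]
    rfl
  | add x y hx hy => rw [map_add, map_add, map_add, hx, hy]

include eR in
theorem PhiL_injective : Function.Injective (PhiL R A Q d) := by
  haveI : Module.Free R Q := Module.Free.of_basis eR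
  have h1 : Function.Injective ((Subalgebra.toSubmodule (SymTen.TS R Q d)).subtype.lTensor A) :=
    lTensor_TS_injective (A := R) (Y := Q) (d := d) A
  intro y y' h
  rw [PhiL_eq, PhiL_eq] at h
  exact h1 (PhiT_injective R A Q d eR h)

theorem PhiL_mem (y : A ⊗[R] (SymTen.TS R Q d)) :
    PhiL R A Q d y ∈ SymTen.TS A (A ⊗[R] Q) d := by
  induction y using TensorProduct.induction_on with
  | zero =>
    rw [map_zero]
    exact Subalgebra.zero_mem _
  | tmul a t =>
    rw [PhiL_tmul]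
    exact Subalgebra.smul_mem _ (jjTS R A Q d t).2 a
  | add x y hx hy =>
    rw [map_add]
    exact Subalgebra.add_mem _ hx hy

/-- `PhiL` with values in the symmetric tensors -/
def PhiS : A ⊗[R] (SymTen.TS R Q d) →ₗ[A] SymTen.TS A (A ⊗[R] Q) d where
  toFun y := ⟨PhiL R A Q d y, PhiL_mem R A Q d y⟩
  map_add' _ _ := Subtype.ext (map_add _ _ _)
  map_smul' _ _ := Subtype.ext (map_smul _ _ _)

theorem PhiS_val (y : A ⊗[R] (SymTen.TS R Q d)) :
    ((PhiS R A Q d y : SymTen.TS A (A ⊗[R] Q) d) : ⨂[A] _ : Fin d, A ⊗[R] Q) =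
      PhiL R A Q d y := rfl

/-- the comparison map as an algebra hom -/
def PhiAlg : A ⊗[R] (SymTen.TS R Q d) →ₐ[A] SymTen.TS A (A ⊗[R] Q) d :=
  Algebra.TensorProduct.algHomOfLinearMapTensorProduct (PhiS R A Q d)
    (fun a₁ a₂ b₁ b₂ => by
      apply Subtype.ext
      show PhiL R A Q d ((a₁ * a₂) ⊗ₜ[R] (b₁ * b₂)) =
        PhiL R A Q d (a₁ ⊗ₜ[R] b₁) * PhiL R A Q d (a₂ ⊗ₜ[R] b₂)
      have e1 : JJ R A Q d (b₁ * b₂).1 = JJ R A Q d b₁.1 * JJ R A Q d b₂.1 :=
        JJ_mul R A Q d b₁.1 b₂.1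
      rw [PhiL_tmul, PhiL_tmul, PhiL_tmul, e1]
      exact (smul_mul_smul_gen d a₁ a₂ _ _).symm)
    (by
      apply Subtype.ext
      show PhiL R A Q d ((1 : A) ⊗ₜ[R] (1 : SymTen.TS R Q d)) = 1
      rw [PhiL_tmul, one_smul]
      exact JJ_one R A Q d)

theorem PhiAlg_apply (y : A ⊗[R] (SymTen.TS R Q d)) : PhiAlg R A Q d y = PhiS R A Q d y :=
  Algebra.TensorProduct.algHomOfLinearMapTensorProduct_apply _ _ _ y

theorem PhiAlg_tmul (a : A) (t : SymTen.TS R Q d) :
    PhiAlg R A Q d (a ⊗ₜ[R] t) = a • jjTS R A Q d t := by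
  rw [PhiAlg_apply]
  apply Subtype.ext
  show PhiL R A Q d (a ⊗ₜ[R] t) = a • JJ R A Q d t.1
  rw [PhiL_tmul]

include eR in
theorem PhiAlg_bijective : Function.Bijective (PhiAlg R A Q d) := by
  constructor
  · intro y y' h
    apply PhiL_injective R A Q d eR
    rw [PhiAlg_apply, PhiAlg_apply] at h
    exact congrArg Subtype.val h
  · intro t
    have h1 := TS_le_adjoin R A Q d eR Set.univ (Algebra.adjoin_univ R _) t.2
    have h2 : Algebra.adjoin A ((fun g : SymTen.TS R Q d => JJ R A Q d g.1) '' Set.univ) ≤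
        (PhiAlg R A Q d).range.map (SymTen.TS A (A ⊗[R] Q) d).val := by
      apply Algebra.adjoin_le
      rintro _ ⟨g, -, rfl⟩
      refine Subalgebra.mem_map.2 ⟨PhiAlg R A Q d ((1 : A) ⊗ₜ[R] g), AlgHom.mem_range_self _ _, ?_⟩
      rw [PhiAlg_tmul, one_smul]
      rfl
    obtain ⟨y, hyr, hy⟩ := Subalgebra.mem_map.1 (h2 h1)
    obtain ⟨z, rfl⟩ := (AlgHom.mem_range _).1 hyr
    exact ⟨z, Subtype.ext hy⟩

include eR in
theorem finitePresentation_TS_bc [IsNoetherianRing R]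
    (h : (⊤ : Subalgebra R (SymTen.TS R Q d)).FG) :
    Algebra.FinitePresentation A (SymTen.TS A (A ⊗[R] Q) d) := by
  haveI : Algebra.FiniteType R (SymTen.TS R Q d) := ⟨h⟩
  haveI : Algebra.FinitePresentation R (SymTen.TS R Q d) :=
    Algebra.FinitePresentation.of_finiteType.1 inferInstance
  haveI : Algebra.FinitePresentation A (A ⊗[R] SymTen.TS R Q d) :=
    Algebra.FinitePresentation.baseChange A
  exact Algebra.FinitePresentation.equiv
    (AlgEquiv.ofBijective (PhiAlg R A Q d) (PhiAlg_bijective R A Q d eR))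

end phi

end

end Groth.Agent.Lib.GammaFPH1
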