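import Mathlib
import Groth.Prelude.Def_PolLaw2
import Groth.Prelude.Def_SymTen
import Groth.Agent.Lib.GammaFP2_helper1

/-!
# `Γ^d_A(B)` is of finite presentation when `B` is (helper1)

Generic generators of the kernel of `TS^d(P) → Γ^d(P/I)` and their compatibility with base change
from a noetherian subring of coefficients.
-/

set_option autoImplicit false
universe u
open scoped TensorProduct
open Module

namespace Groth.Agent.Lib.GammaFPH1

open Groth.Agent.Lib.GammaSpanH1 Groth.Agent.Lib.FlatTSH1 Groth.Agent.Lib.PolLawSurjH1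
  Groth.Agent.Lib.PolLawKerH1 Groth.Agent.Lib.SymBCH1 Groth.Agent.Lib.GammaFTH1
  Groth.Agent.Lib.FreeFactH1 Groth.Agent.Lib.GammaRedH1 Groth.Agent.Lib.SymNormH1

noncomputable section

section generic

variable (K : Type u) [CommRing K] {X : Type u} [CommRing X] [Algebra K X] (d : ℕ)

/-- generic `x` -/
def gx (n n' : ℕ) (q : Fin n → X) : MvPolynomial (Fin (n + n')) K ⊗[K] X :=
  ∑ j, (MvPolynomial.X (Fin.castAdd n' j) : MvPolynomial (Fin (n + n')) K) ⊗ₜ[K] q j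

/-- generic `w` -/
def gw (n n' : ℕ) (q' : Fin n' → X) : MvPolynomial (Fin (n + n')) K ⊗[K] X :=
  ∑ j, (MvPolynomial.X (Fin.natAdd n j) : MvPolynomial (Fin (n + n')) K) ⊗ₜ[K] q' j

theorem gx_add_gw (n n' : ℕ) (q : Fin n → X) (q' : Fin n' → X) (f : X) :
    gx K n n' q + gw K n n' q' * ((1 : MvPolynomial (Fin (n + n')) K) ⊗ₜ[K] f) =
      ∑ j, (MvPolynomial.X j : MvPolynomial (Fin (n + n')) K) ⊗ₜ[K]
        (Fin.append q (fun j => q' j * f) j) := by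
  rw [Fin.sum_univ_add, gx, gw, Finset.sum_mul]
  congr 1
  · refine Finset.sum_congr rfl fun j _ => ?_
    rw [Fin.append_left]
  · refine Finset.sum_congr rfl fun j _ => ?_
    rw [Fin.append_right, Algebra.TensorProduct.tmul_mul_tmul, mul_one]

/-- the generic generators -/
def gg (n n' : ℕ) (q : Fin n → X) (q' : Fin n' → X) (f : X) (m : Fin (n + n') →₀ ℕ) :
    SymTen.TS K X d :=
  ev (SymTen.TS K X d) (MvPolynomial.lcoeff K m)
    ((tauTS K X d).law.toFun' (MvPolynomial (Fin (n + n')) K)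
        (gx K n n' q + gw K n n' q' * ((1 : MvPolynomial (Fin (n + n')) K) ⊗ₜ[K] f)) -
      (tauTS K X d).law.toFun' (MvPolynomial (Fin (n + n')) K) (gx K n n' q))

theorem gg_val (n n' : ℕ) (q : Fin n → X) (q' : Fin n' → X) (f : X) (m : Fin (n + n') →₀ ℕ) :
    ((gg K d n n' q q' f m : SymTen.TS K X d) : ⨂[K] _ : Fin d, X) =
      ev (⨂[K] _ : Fin d, X) (MvPolynomial.lcoeff K m)
        ((SymTen.tpowLaw K X d).law.toFun' (MvPolynomial (Fin (n + n')) K)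
          (∑ j, (MvPolynomial.X j : MvPolynomial (Fin (n + n')) K) ⊗ₜ[K]
            (Fin.append q (fun j => q' j * f) j))) -
      ev (⨂[K] _ : Fin d, X) (MvPolynomial.lcoeff K m)
        ((SymTen.tpowLaw K X d).law.toFun' (MvPolynomial (Fin (n + n')) K)
          (∑ j, (MvPolynomial.X (Fin.castAdd n' j) : MvPolynomial (Fin (n + n')) K) ⊗ₜ[K] q j)) := by
  rw [gg, map_sub, AddSubgroupClass.coe_sub, coeff_tauTS, coeff_tauTS, gx_add_gw]
  rfl

theorem coeff_prod_X {n N : ℕ} (φ : Fin n → Fin N) (c : Fin d → Fin n) (m : Fin N →₀ ℕ) :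
    MvPolynomial.coeff m (∏ i, (MvPolynomial.X (φ (c i)) : MvPolynomial (Fin N) K)) =
      if (∑ i, Finsupp.single (φ (c i)) 1) = m then 1 else 0 := by
  have h : (∏ i, (MvPolynomial.X (φ (c i)) : MvPolynomial (Fin N) K)) =
      MvPolynomial.monomial (∑ i, Finsupp.single (φ (c i)) 1) 1 :=
    (MvPolynomial.monomial_sum_one Finset.univ (fun i => Finsupp.single (φ (c i)) 1)).symm
  rw [h, MvPolynomial.coeff_monomial]

/-- tensors over a module spanned by the image of `ι` are sums of `s ⊗ ι q` -/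
theorem exists_fin_sum_span {Q : Type u} (ι : Q → X)
    (hι : Submodule.span K (Set.range ι) = ⊤) {S : Type u} [CommRing S] [Algebra K S]
    (z : S ⊗[K] X) :
    ∃ (n : ℕ) (s : Fin n → S) (q : Fin n → Q), z = ∑ j, s j ⊗ₜ[K] ι (q j) := by
  have hadd : ∀ z z' : S ⊗[K] X,
      (∃ (n : ℕ) (s : Fin n → S) (q : Fin n → Q), z = ∑ j, s j ⊗ₜ[K] ι (q j)) →
      (∃ (n : ℕ) (s : Fin n → S) (q : Fin n → Q), z' = ∑ j, s j ⊗ₜ[K] ι (q j)) →
      ∃ (n : ℕ) (s : Fin n → S) (q : Fin n → Q), z + z' = ∑ j, s j ⊗ₜ[K] ι (q j) := by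
    rintro _ _ ⟨n₁, s₁, q₁, rfl⟩ ⟨n₂, s₂, q₂, rfl⟩
    refine ⟨n₁ + n₂, Fin.append s₁ s₂, Fin.append q₁ q₂, ?_⟩
    rw [Fin.sum_univ_add]
    simp only [Fin.append_left, Fin.append_right]
  have hp : ∀ p ∈ Submodule.span K (Set.range ι), ∀ s : S,
      ∃ (n : ℕ) (s' : Fin n → S) (q : Fin n → Q), s ⊗ₜ[K] p = ∑ j, s' j ⊗ₜ[K] ι (q j) := by
    intro p hp
    induction hp using Submodule.span_induction with
    | mem p hp =>
      obtain ⟨q₀, rfl⟩ := hp
      intro s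
      exact ⟨1, fun _ => s, fun _ => q₀, by simp⟩
    | zero =>
      intro s
      exact ⟨0, Fin.elim0, Fin.elim0, by simp⟩
    | add p p' _ _ h h' =>
      intro s
      rw [TensorProduct.tmul_add]
      exact hadd _ _ (h s) (h' s)
    | smul a p _ h =>
      intro s
      obtain ⟨n, s', q, hq⟩ := h (a • s)
      refine ⟨n, s', q, ?_⟩
      rw [← hq, TensorProduct.smul_tmul]
  induction z using TensorProduct.induction_on with
  | zero => exact ⟨0, Fin.elim0, Fin.elim0, by simp⟩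
  | tmul s p => exact hp p (hι ▸ Submodule.mem_top) s
  | add x y hx hy => exact hadd _ _ hx hy

end generic

section bc

variable (R : Type u) [CommRing R] (A : Type u) [CommRing A] [Algebra R A]
  (Q : Type u) [CommRing Q] [Algebra R Q] (d : ℕ)

theorem span_one_tmul :
    Submodule.span A (Set.range (fun q : Q => (1 : A) ⊗ₜ[R] q)) = ⊤ := by
  rw [eq_top_iff]
  rintro p -
  induction p using TensorProduct.induction_on with
  | zero => exact Submodule.zero_mem _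
  | tmul a q =>
    have e : (a ⊗ₜ[R] q : A ⊗[R] Q) = a • ((1 : A) ⊗ₜ[R] q) := by
      rw [TensorProduct.smul_tmul', smul_eq_mul, mul_one]
    rw [e]
    exact Submodule.smul_mem _ _ (Submodule.subset_span ⟨q, rfl⟩)
  | add x y hx hy => exact Submodule.add_mem _ hx hy

theorem JJ_ev_gen {n N : ℕ} (φ : Fin n → Fin N) (r : Fin n → Q) (m : Fin N →₀ ℕ) :
    JJ R A Q d (ev (⨂[R] _ : Fin d, Q) (MvPolynomial.lcoeff R m)
      ((SymTen.tpowLaw R Q d).law.toFun' (MvPolynomial (Fin N) R)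
        (∑ j, (MvPolynomial.X (φ j) : MvPolynomial (Fin N) R) ⊗ₜ[R] r j))) =
    ev _ (MvPolynomial.lcoeff A m)
      ((SymTen.tpowLaw A (A ⊗[R] Q) d).law.toFun' (MvPolynomial (Fin N) A)
        (∑ j, (MvPolynomial.X (φ j) : MvPolynomial (Fin N) A) ⊗ₜ[A] ((1 : A) ⊗ₜ[R] r j))) := by
  rw [tpow_fin_sum, tpow_fin_sum, map_sum, map_sum, map_sum]
  refine Finset.sum_congr rfl fun c _ => ?_
  rw [ev_tmul, ev_tmul, map_smul, JJ_tprod, MvPolynomial.lcoeff_apply, MvPolynomial.lcoeff_apply,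
    coeff_prod_X, coeff_prod_X]
  split_ifs
  · rw [one_smul, one_smul]
  · rw [zero_smul, zero_smul]

theorem JJ_ev_gen_id {N : ℕ} (r : Fin N → Q) (m : Fin N →₀ ℕ) :
    JJ R A Q d (ev (⨂[R] _ : Fin d, Q) (MvPolynomial.lcoeff R m)
      ((SymTen.tpowLaw R Q d).law.toFun' (MvPolynomial (Fin N) R)
        (∑ j, (MvPolynomial.X j : MvPolynomial (Fin N) R) ⊗ₜ[R] r j))) =
    ev _ (MvPolynomial.lcoeff A m)
      ((SymTen.tpowLaw A (A ⊗[R] Q) d).law.toFun' (MvPolynomial (Fin N) A)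
        (∑ j, (MvPolynomial.X j : MvPolynomial (Fin N) A) ⊗ₜ[A] ((1 : A) ⊗ₜ[R] r j))) :=
  JJ_ev_gen R A Q d id r m

theorem jjTS_gg (n n' : ℕ) (q : Fin n → Q) (q' : Fin n' → Q) (f : Q) (m : Fin (n + n') →₀ ℕ) :
    jjTS R A Q d (gg R d n n' q q' f m) =
      gg A d n n' (fun j => (1 : A) ⊗ₜ[R] q j) (fun j => (1 : A) ⊗ₜ[R] q' j)
        ((1 : A) ⊗ₜ[R] f) m := by
  apply Subtype.ext
  have e : ∀ j, (1 : A) ⊗ₜ[R] Fin.append q (fun j => q' j * f) j =
      Fin.append (fun j => (1 : A) ⊗ₜ[R] q j)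
        (fun j => ((1 : A) ⊗ₜ[R] q' j) * ((1 : A) ⊗ₜ[R] f)) j := by
    intro j
    refine Fin.addCases (fun i => ?_) (fun i => ?_) j
    · rw [Fin.append_left, Fin.append_left]
    · rw [Fin.append_right, Fin.append_right, Algebra.TensorProduct.tmul_mul_tmul, mul_one]
  rw [jjTS_val, gg_val, gg_val, map_sub, JJ_ev_gen_id, JJ_ev_gen R A Q d (Fin.castAdd n')]
  simp only [e]

/-- the generic generators over the small ring -/
def genR (s₀ : Set Q) : Set (SymTen.TS R Q d) :=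
  {c | ∃ (n n' : ℕ) (q : Fin n → Q) (q' : Fin n' → Q) (f : Q) (m : Fin (n + n') →₀ ℕ),
    f ∈ s₀ ∧ c = gg R d n n' q q' f m}

theorem gen_mem (s₀ : Set Q) (k n n' : ℕ) (s : Fin n → MvPolynomial (Fin k) A) (q : Fin n → Q)
    (t : Fin n' → MvPolynomial (Fin k) A) (q' : Fin n' → Q) (f : Q) (hf : f ∈ s₀)
    (ℓ : MvPolynomial (Fin k) A →ₗ[A] A) :
    ev (SymTen.TS A (A ⊗[R] Q) d) ℓ
      ((tauTS A (A ⊗[R] Q) d).law.toFun' (MvPolynomial (Fin k) A)
          ((∑ j, s j ⊗ₜ[A] ((1 : A) ⊗ₜ[R] q j)) +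
            (∑ j, t j ⊗ₜ[A] ((1 : A) ⊗ₜ[R] q' j)) *
              ((1 : MvPolynomial (Fin k) A) ⊗ₜ[A] ((1 : A) ⊗ₜ[R] f))) -
        (tauTS A (A ⊗[R] Q) d).law.toFun' (MvPolynomial (Fin k) A)
          (∑ j, s j ⊗ₜ[A] ((1 : A) ⊗ₜ[R] q j))) ∈
      Ideal.span (jjTS R A Q d '' genR R Q d s₀) := by
  obtain ⟨θ, hθ⟩ : ∃ θ : MvPolynomial (Fin (n + n')) A →ₐ[A] MvPolynomial (Fin k) A,
    θ = MvPolynomial.aeval (Fin.append s t) := ⟨_, rfl⟩
  have hx : Algebra.TensorProduct.map θ (AlgHom.id A (A ⊗[R] Q))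
      (gx A n n' (fun j => (1 : A) ⊗ₜ[R] q j)) = ∑ j, s j ⊗ₜ[A] ((1 : A) ⊗ₜ[R] q j) := by
    rw [gx, map_sum]
    refine Finset.sum_congr rfl fun j _ => ?_
    rw [Algebra.TensorProduct.map_tmul, hθ, MvPolynomial.aeval_X, Fin.append_left]
    rfl
  have hw : Algebra.TensorProduct.map θ (AlgHom.id A (A ⊗[R] Q))
      (gw A n n' (fun j => (1 : A) ⊗ₜ[R] q' j)) = ∑ j, t j ⊗ₜ[A] ((1 : A) ⊗ₜ[R] q' j) := by
    rw [gw, map_sum]
    refine Finset.sum_congr rfl fun j _ => ?_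
    rw [Algebra.TensorProduct.map_tmul, hθ, MvPolynomial.aeval_X, Fin.append_right]
    rfl
  have h1 : (1 : MvPolynomial (Fin k) A) ⊗ₜ[A] ((1 : A) ⊗ₜ[R] f) =
      Algebra.TensorProduct.map θ (AlgHom.id A (A ⊗[R] Q))
        ((1 : MvPolynomial (Fin (n + n')) A) ⊗ₜ[A] ((1 : A) ⊗ₜ[R] f)) := by
    rw [Algebra.TensorProduct.map_tmul, map_one]
    rfl
  obtain ⟨U, hU⟩ : ∃ U, U = (tauTS A (A ⊗[R] Q) d).law.toFun' (MvPolynomial (Fin (n + n')) A)
        (gx A n n' (fun j => (1 : A) ⊗ₜ[R] q j) + gw A n n' (fun j => (1 : A) ⊗ₜ[R] q' j) *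
          ((1 : MvPolynomial (Fin (n + n')) A) ⊗ₜ[A] ((1 : A) ⊗ₜ[R] f))) -
      (tauTS A (A ⊗[R] Q) d).law.toFun' (MvPolynomial (Fin (n + n')) A)
        (gx A n n' (fun j => (1 : A) ⊗ₜ[R] q j)) := ⟨_, rfl⟩
  have hUmap : θ.toLinearMap.rTensor (SymTen.TS A (A ⊗[R] Q) d) U =
      (tauTS A (A ⊗[R] Q) d).law.toFun' (MvPolynomial (Fin k) A)
          ((∑ j, s j ⊗ₜ[A] ((1 : A) ⊗ₜ[R] q j)) +
            (∑ j, t j ⊗ₜ[A] ((1 : A) ⊗ₜ[R] q' j)) *
              ((1 : MvPolynomial (Fin k) A) ⊗ₜ[A] ((1 : A) ⊗ₜ[R] f))) -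
        (tauTS A (A ⊗[R] Q) d).law.toFun' (MvPolynomial (Fin k) A)
          (∑ j, s j ⊗ₜ[A] ((1 : A) ⊗ₜ[R] q j)) := by
    rw [rT_eq_map, hU, map_sub, compat_map, compat_map, map_add, map_mul, hx, hw, ← h1]
  rw [← hUmap, ev_rTensor]
  obtain ⟨s₁, hs₁⟩ := exists_decomp (SymTen.TS A (A ⊗[R] Q) d) U
  have h2 := hs₁ s₁ subset_rfl
  have h3 : ev (SymTen.TS A (A ⊗[R] Q) d) (ℓ ∘ₗ θ.toLinearMap) U =
      ∑ m ∈ s₁, (ℓ ∘ₗ θ.toLinearMap) (MvPolynomial.monomial m (1 : A)) •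
        ev (SymTen.TS A (A ⊗[R] Q) d) (MvPolynomial.lcoeff A m) U := by
    have h4 := congrArg (ev (SymTen.TS A (A ⊗[R] Q) d) (ℓ ∘ₗ θ.toLinearMap)) h2
    rw [map_sum] at h4
    rw [h4]
    exact Finset.sum_congr rfl fun m _ => ev_tmul _ _ _ _
  rw [h3]
  refine Ideal.sum_mem _ fun m _ => ?_
  refine Submodule.smul_of_tower_mem _ _ ?_
  apply Ideal.subset_span
  refine ⟨gg R d n n' q q' f m, ⟨n, n', q, q', f, m, hf, rfl⟩, ?_⟩
  rw [jjTS_gg, hU]
  rfl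

theorem kerId_eq_map (s₀ : Set Q) :
    kerId (A := A) (P := A ⊗[R] Q) d ((fun f : Q => (1 : A) ⊗ₜ[R] f) '' s₀) =
      Ideal.map (jjTS R A Q d) (Ideal.span (genR R Q d s₀)) := by
  rw [Ideal.map_span]
  apply le_antisymm
  · rw [kerId, Ideal.span_le]
    rintro _ ⟨k, x, w, _, ℓ, ⟨f, hf, rfl⟩, rfl⟩
    obtain ⟨n, s, q, rfl⟩ := exists_fin_sum_span A (fun q : Q => (1 : A) ⊗ₜ[R] q)
      (span_one_tmul R A Q) x
    obtain ⟨n', t, q', rfl⟩ := exists_fin_sum_span A (fun q : Q => (1 : A) ⊗ₜ[R] q)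
      (span_one_tmul R A Q) w
    exact gen_mem R A Q d s₀ k n n' s q t q' f hf ℓ
  · rw [Ideal.span_le]
    rintro _ ⟨_, ⟨n, n', q, q', f, m, hf, rfl⟩, rfl⟩
    rw [jjTS_gg]
    exact Ideal.subset_span ⟨n + n', gx A n n' (fun j => (1 : A) ⊗ₜ[R] q j),
      gw A n n' (fun j => (1 : A) ⊗ₜ[R] q' j), (1 : A) ⊗ₜ[R] f, MvPolynomial.lcoeff A m,
      ⟨f, hf, rfl⟩, rfl⟩

end bc

section main

variable (R : Type u) [CommRing R] (A : Type u) [CommRing A] [Algebra R A]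

theorem fp_of_bc [IsNoetherianRing R] (n : ℕ) {B C : Type u} [CommRing B] [Algebra A B]
    [CommRing C] [Algebra A C]
    (π : A ⊗[R] MvPolynomial (Fin n) R →ₐ[A] B) (hπ : Function.Surjective π)
    (s₀ : Set (MvPolynomial (Fin n) R))
    (hs : Ideal.span ((fun f : MvPolynomial (Fin n) R => (1 : A) ⊗ₜ[R] f) '' s₀) = RingHom.ker π)
    {d : ℕ} (γ : PolLaw.MulLaw A B C d) (hγ : PolLaw.IsGammaD γ) :
    Algebra.FinitePresentation A C := by
  have e0 : Basis (ULift.{u} (Fin n →₀ ℕ)) R (MvPolynomial (Fin n) R) :=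
    (MvPolynomial.basisMonomials (Fin n) R).reindex Equiv.ulift.symm
  haveI : Module.Free A (A ⊗[R] MvPolynomial (Fin n) R) :=
    Module.Free.of_basis (eA R A (MvPolynomial (Fin n) R) e0)
  haveI hfp := finitePresentation_TS_bc R A (MvPolynomial (Fin n) R) d e0 (fg_top_TS_mvPoly R n d)
  have hτ := isGammaD_tauTS (A := A) (B := A ⊗[R] MvPolynomial (Fin n) R) d
    (Or.inl inferInstance)
  obtain ⟨g, hg, -⟩ := hτ C (γ.precomp π)
  have hgs : Function.Surjective g := by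
    rw [← AlgHom.range_eq_top, eq_top_iff, ← adjoin_coeffSet_eq_top γ hγ]
    apply Algebra.adjoin_le
    rintro _ ⟨S, _, _, y, ℓ, -, rfl⟩
    obtain ⟨x, rfl⟩ := LinearMap.lTensor_surjective S
      (show Function.Surjective π.toLinearMap from hπ) y
    have hx : g.toLinearMap.lTensor S ((tauTS A _ d).law.toFun' S x) =
        γ.law.toFun' S (π.toLinearMap.lTensor S x) :=
      congrArg (fun L : (A ⊗[R] MvPolynomial (Fin n) R) →ₚₗ[A] C => L.toFun' S x) hg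
    rw [← hx, ev_lTensor]
    exact ⟨_, rfl⟩
  have hker : RingHom.ker g.toRingHom =
      Ideal.map (jjTS R A (MvPolynomial (Fin n) R) d)
        (Ideal.span (genR R (MvPolynomial (Fin n) R) d s₀)) := by
    rw [← kerId_eq_map]
    ext c
    rw [RingHom.mem_ker]
    exact ker_eq_kerId γ hγ π hπ _ hs g hg c
  haveI : Algebra.FiniteType R (SymTen.TS R (MvPolynomial (Fin n) R) d) :=
    ⟨fg_top_TS_mvPoly R n d⟩
  haveI : IsNoetherianRing (SymTen.TS R (MvPolynomial (Fin n) R) d) :=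
    Algebra.FiniteType.isNoetherianRing R _
  have hfg : (RingHom.ker g.toRingHom).FG := by
    rw [hker]
    exact Ideal.FG.map (IsNoetherian.noetherian _) _
  exact Algebra.FinitePresentation.of_surjective hgs hfg

end main

section final

variable {A : Type u} [CommRing A] {B : Type u} [CommRing B] [Algebra A B] {C : Type u} [CommRing C]
  [Algebra A C] {d : ℕ}

theorem main13714 (γ : PolLaw.MulLaw A B C d) (hγ : PolLaw.IsGammaD γ)
    [Algebra.FinitePresentation A B] : Algebra.FinitePresentation A C := by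
  classical
  obtain ⟨n, f, hf, G, hG⟩ := Algebra.FinitePresentation.out (R := A) (A := B)
  letI : Algebra (ULift.{u} ℤ) A := ULift.algebra' ℤ A
  haveI : IsNoetherianRing (ULift.{u} ℤ) := isNoetherianRing_of_ringEquiv ℤ ULift.ringEquiv.symm
  obtain ⟨cs, hcs⟩ : ∃ cs : Finset A, cs = G.biUnion MvPolynomial.coeffs := ⟨_, rfl⟩
  obtain ⟨R, hR⟩ : ∃ R : Subalgebra (ULift.{u} ℤ) A,
    R = Algebra.adjoin (ULift.{u} ℤ) (↑cs : Set A) := ⟨_, rfl⟩
  haveI : Algebra.FiniteType (ULift.{u} ℤ) R := by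
    rw [← Subalgebra.fg_iff_finiteType, hR]
    exact Subalgebra.fg_adjoin_finset cs
  haveI : IsNoetherianRing R := Algebra.FiniteType.isNoetherianRing (ULift.{u} ℤ) R
  have hlift : ∀ p ∈ G, ∃ p₀ : MvPolynomial (Fin n) R,
      MvPolynomial.map (algebraMap R A) p₀ = p := by
    intro p hp
    have h1 : p ∈ Set.range (MvPolynomial.map (algebraMap R A)) := by
      rw [MvPolynomial.mem_range_map_iff_coeffs_subset]
      intro c hc
      have hc' : c ∈ R := by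
        rw [hR]
        apply Algebra.subset_adjoin
        rw [hcs]
        exact Finset.mem_coe.2 (Finset.mem_biUnion.2 ⟨p, hp, hc⟩)
      exact ⟨⟨c, hc'⟩, rfl⟩
    exact h1
  obtain ⟨e, he⟩ : ∃ e : A ⊗[R] MvPolynomial (Fin n) R ≃ₐ[A] MvPolynomial (Fin n) A,
    e = MvPolynomial.algebraTensorAlgEquiv R A := ⟨_, rfl⟩
  have he1 : ∀ p₀ : MvPolynomial (Fin n) R,
      e ((1 : A) ⊗ₜ[R] p₀) = MvPolynomial.map (algebraMap R A) p₀ := by
    intro p₀
    rw [he, MvPolynomial.algebraTensorAlgEquiv_tmul, one_smul]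
  obtain ⟨s₀, hs₀⟩ : ∃ s₀ : Set (MvPolynomial (Fin n) R),
    s₀ = {p₀ | MvPolynomial.map (algebraMap R A) p₀ ∈ G} := ⟨_, rfl⟩
  refine fp_of_bc R A n (f.comp e.toAlgHom) (hf.comp e.surjective) s₀ ?_ γ hγ
  apply le_antisymm
  · rw [Ideal.span_le]
    rintro _ ⟨p₀, hp₀, rfl⟩
    rw [SetLike.mem_coe, RingHom.mem_ker]
    show f (e ((1 : A) ⊗ₜ[R] p₀)) = 0
    rw [he1]
    have h1 : MvPolynomial.map (algebraMap R A) p₀ ∈ RingHom.ker f.toRingHom := by
      rw [← hG]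
      apply Ideal.subset_span
      rw [hs₀] at hp₀
      exact hp₀
    exact (RingHom.mem_ker).1 h1
  · intro y hy
    have h1 : e y ∈ RingHom.ker f.toRingHom := by
      rw [RingHom.mem_ker]
      exact (RingHom.mem_ker).1 hy
    rw [← hG] at h1
    have h2 := Ideal.mem_map_of_mem e.symm h1
    rw [AlgEquiv.symm_apply_apply, Ideal.map_span] at h2
    refine (Ideal.span_le.2 ?_) h2
    rintro _ ⟨p, hp, rfl⟩
    obtain ⟨p₀, rfl⟩ := hlift p hp
    apply Ideal.subset_span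
    refine ⟨p₀, by rw [hs₀]; exact hp, ?_⟩
    show (1 : A) ⊗ₜ[R] p₀ = e.symm _
    rw [← he1, AlgEquiv.symm_apply_apply]

end final

end

end Groth.Agent.Lib.GammaFPH1
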