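import Mathlib
import Groth.Prelude
import Groth.Agent.Lib.GeomConn1_lead
import Groth.Agent.Lib.AAKunneth_lead
import Groth.Agent.Lib.GeomCardEt_helper4

/-!
# Geometric connectedness of a proper scheme over a field in terms of its global sections

`X` proper over `k` is geometrically connected iff `Γ(X, O_X)` is a zero-dimensional local ring
whose residue field is purely inseparable over `k`.
-/

set_option backward.isDefEq.respectTransparency false
set_option backward.isDefEq.respectTransparency.types false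
set_option autoImplicit false
set_option linter.style.haveILetI false
set_option linter.unusedVariables false
set_option linter.unusedSimpArgs false
set_option linter.unusedSectionVars false
set_option linter.style.longLine false
set_option maxHeartbeats 800000

universe u

open CategoryTheory CategoryTheory.Limits AlgebraicGeometry TopologicalSpace Opposite TensorProduct

namespace Groth.Agent.Lib.GeomConnLocH4

open Groth.Agent.Lib.GeomConn

section Algebra

variable {k : Type u} [Field k]

/-- In an integral algebra over a field with trivial idempotents every element is a unit or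
nilpotent. -/
theorem isUnit_or_isNilpotent {R : Type u} [CommRing R] [Algebra k R] [Algebra.IsIntegral k R]
    (hR : TrivIdem R) (a : R) : IsUnit a ∨ IsNilpotent a := by
  obtain ⟨p, hpm, hpa⟩ := Algebra.IsIntegral.isIntegral (R := k) a
  have hp0 : p ≠ 0 := hpm.ne_zero
  obtain ⟨g, hpg, hXg⟩ := Polynomial.exists_eq_pow_rootMultiplicity_mul_and_not_dvd p hp0 (0 : k)
  obtain ⟨m, hm⟩ : ∃ m : ℕ, m = Polynomial.rootMultiplicity (0 : k) p := ⟨_, rfl⟩
  rw [← hm] at hpg
  rw [Polynomial.C_0, sub_zero] at hpg hXg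
  have hc : g.coeff 0 ≠ 0 := fun h => hXg (Polynomial.X_dvd_iff.mpr h)
  obtain ⟨c, hcdef⟩ : ∃ c : k, c = g.coeff 0 := ⟨_, rfl⟩
  rw [← hcdef] at hc
  obtain ⟨b, hbdef⟩ : ∃ b : R, b = Polynomial.aeval a g := ⟨_, rfl⟩
  obtain ⟨h', hh'⟩ : ∃ h' : R, h' = Polynomial.aeval a g.divX := ⟨_, rfl⟩
  have hb : b = h' * a + algebraMap k R c := by
    have h1 := congrArg (Polynomial.aeval a) (Polynomial.divX_mul_X_add g)
    rw [map_add, map_mul, Polynomial.aeval_X, Polynomial.aeval_C, ← hcdef, ← hbdef, ← hh'] at h1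
    exact h1.symm
  have hab : a ^ m * b = 0 := by
    have h1 : Polynomial.aeval a p = 0 := hpa
    rw [hpg, map_mul, map_pow, Polynomial.aeval_X, ← hbdef] at h1
    exact h1
  have h1 : algebraMap k R c⁻¹ * algebraMap k R c = 1 := by
    rw [← map_mul, inv_mul_cancel₀ hc, map_one]
  have hcop : IsCoprime a b := by
    refine ⟨-(algebraMap k R c⁻¹) * h', algebraMap k R c⁻¹, ?_⟩
    rw [hb]
    linear_combination h1
  obtain ⟨u, v, huv⟩ := hcop.pow_left (m := m)
  have he : IsIdempotentElem (v * b) := by
    show v * b * (v * b) = v * b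
    linear_combination (v * b) * huv - (u * v) * hab
  rcases hR (v * b) he with h0 | h1'
  · left
    have hb0 : b = 0 := by
      linear_combination (-b) * huv + u * hab + b * h0
    refine IsUnit.of_mul_eq_one (-(algebraMap k R c⁻¹) * h') ?_
    linear_combination (algebraMap k R c⁻¹) * hb - (algebraMap k R c⁻¹) * hb0 + h1
  · right
    refine ⟨m, ?_⟩
    linear_combination (-(a ^ m)) * h1' + v * hab

theorem local_of_unit_or_nilpotent {R : Type u} [CommRing R] [Nontrivial R]
    (h : ∀ a : R, IsUnit a ∨ IsNilpotent a) :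
    IsLocalRing R ∧ ringKrullDim R = 0 := by
  have hloc : IsLocalRing R := IsLocalRing.of_isUnit_or_isUnit_one_sub_self (fun a => by
    rcases h a with ha | ha
    · exact Or.inl ha
    · exact Or.inr ha.isUnit_one_sub)
  refine ⟨hloc, ?_⟩
  have hK : Ring.KrullDimLE 0 R := Ring.KrullDimLE.mk₀ (fun I hI => by
    have hIm : I = IsLocalRing.maximalIdeal R := by
      refine le_antisymm (IsLocalRing.le_maximalIdeal hI.ne_top) ?_
      intro x hx
      rcases h x with hu | hn
      · exact absurd hu ((IsLocalRing.mem_maximalIdeal x).mp hx)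
      · obtain ⟨n, hn⟩ := hn
        exact hI.mem_of_pow_mem n (by rw [hn]; exact I.zero_mem)
    rw [hIm]
    exact IsLocalRing.maximalIdeal.isMaximal R)
  have h1 : ringKrullDim R ≤ 0 := by simpa using Ring.krullDimLE_iff.mp hK
  exact le_antisymm h1 ringKrullDim_nonneg_of_nontrivial

/-- The kernel of `R ⊗ K → κ ⊗ K` is nil when the maximal ideal of `R` is. -/
theorem ker_le_nilradical {R : Type u} [CommRing R] [Algebra k R] [IsLocalRing R]
    (K : Type u) [CommRing K] [Algebra k K]
    (hm : ∀ b ∈ IsLocalRing.maximalIdeal R, IsNilpotent b) :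
    RingHom.ker (Algebra.TensorProduct.map
      (IsScalarTower.toAlgHom k R (IsLocalRing.ResidueField R)) (AlgHom.id k K)).toRingHom
      ≤ nilradical (R ⊗[k] K) := by
  intro y hy
  have hy' : y ∈ RingHom.ker (Algebra.TensorProduct.map
      (IsScalarTower.toAlgHom k R (IsLocalRing.ResidueField R)) (AlgHom.id k K)) := hy
  rw [Algebra.TensorProduct.rTensor_ker _
    (fun x => by obtain ⟨a, ha⟩ := IsLocalRing.residue_surjective x; exact ⟨a, ha⟩)] at hy'
  refine (Ideal.map_le_iff_le_comap.2 ?_) hy'
  intro b hb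
  have hb0 : IsLocalRing.residue R b = 0 := hb
  have hb' : b ∈ IsLocalRing.maximalIdeal R := (IsLocalRing.residue_eq_zero_iff b).mp hb0
  exact mem_nilradical.2 ((hm b hb').map _)

theorem trivIdem_field (K : Type u) [Field K] : TrivIdem K :=
  fun e he => IsIdempotentElem.iff_eq_zero_or_one.mp he

/-- (⇐), algebra -/
theorem trivIdem_tensor_of_pow_sub_nilpotent {R K : Type u} [CommRing R] [Algebra k R]
    [IsLocalRing R] [Field K] [Algebra k K] (q : ℕ) [ExpChar k q]
    (hH : ∀ a : R, ∃ (n : ℕ) (c : k), IsNilpotent (a ^ q ^ n - algebraMap k R c)) :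
    TrivIdem (R ⊗[k] K) := by
  have hres : ∀ (a : R) (n : ℕ) (c : k), IsNilpotent (a ^ q ^ n - algebraMap k R c) →
      (IsLocalRing.residue R a) ^ q ^ n = algebraMap k (IsLocalRing.ResidueField R) c := by
    intro a n c hn
    have h0 := (hn.map (IsLocalRing.residue R)).eq_zero
    rw [map_sub, map_pow] at h0
    have h2 : IsLocalRing.residue R (algebraMap k R c) =
        algebraMap k (IsLocalRing.ResidueField R) c :=
      (IsScalarTower.algebraMap_apply k R (IsLocalRing.ResidueField R) c).symm
    rw [h2] at h0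
    exact sub_eq_zero.mp h0
  have hm : ∀ b ∈ IsLocalRing.maximalIdeal R, IsNilpotent b := by
    intro b hb
    obtain ⟨n, c, hn⟩ := hH b
    have h1 := hres b n c hn
    rw [(IsLocalRing.residue_eq_zero_iff b).mpr hb,
      zero_pow (pow_pos (expChar_pos k q) n).ne'] at h1
    have hc0 : c = 0 := by
      apply (algebraMap k (IsLocalRing.ResidueField R)).injective
      rw [map_zero]; exact h1.symm
    rw [hc0, map_zero, sub_zero] at hn
    exact hn.of_pow
  haveI hpi : IsPurelyInseparable k (IsLocalRing.ResidueField R) :=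
    (isPurelyInseparable_iff_pow_mem k q).mpr (fun x => by
      obtain ⟨a, rfl⟩ := IsLocalRing.residue_surjective x
      obtain ⟨n, c, hn⟩ := hH a
      exact ⟨n, c, (hres a n c hn).symm⟩)
  have hκK : TrivIdem (IsLocalRing.ResidueField R ⊗[k] K) :=
    trivIdem_tensor_of_isPurelyInseparable (k := k) (E := IsLocalRing.ResidueField R) (R := K)
      (trivIdem_field K)
  exact trivIdem_of_ker_le _ (ker_le_nilradical K hm) hκK

/-- A finite étale algebra over a separably closed field with only trivial idempotents has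
rank at most one. -/
theorem finrank_le_one_of_trivIdem (K B : Type u) [Field K] [IsSepClosed K] [CommRing B]
    [Algebra K B] [Algebra.Etale K B] [Module.Finite K B] [Nontrivial B] (hB : TrivIdem B) :
    Module.finrank K B ≤ 1 := by
  obtain ⟨hfin, hcard⟩ := Groth.Agent.Lib.GeomCardEtH4.natCard_primeSpectrum_eq_finrank K B
  haveI : IsArtinianRing B := IsArtinianRing.of_finite K B
  haveI : ConnectedSpace (PrimeSpectrum B) :=
    (Groth.Agent.Lib.SpecConn_helper3.connectedSpace_iff_idem B).2 ⟨inferInstance, hB⟩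
  haveI : Subsingleton (PrimeSpectrum B) := PreconnectedSpace.trivial_of_discrete
  haveI := hfin
  have h1 : Nat.card (PrimeSpectrum B) ≤ 1 :=
    Finite.card_le_one_iff_subsingleton.mpr inferInstance
  rwa [hcard] at h1

/-- A finite separable subextension of `κ/k` with `κ ⊗ k̄` connected is trivial. -/
theorem finrank_eq_one_of_trivIdem {κ : Type u} [Field κ] [Algebra k κ]
    (A : IntermediateField k κ) [FiniteDimensional k A] [Algebra.IsSeparable k A]
    (hκK : TrivIdem (κ ⊗[k] AlgebraicClosure k)) : Module.finrank k A = 1 := by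
  haveI : Algebra.Etale k A :=
    { formallyEtale := Algebra.FormallyEtale.of_isSeparable k A
      finitePresentation := Algebra.FinitePresentation.of_finiteType.mp inferInstance }
  haveI : Algebra.Etale (AlgebraicClosure k) (AlgebraicClosure k ⊗[k] A) := inferInstance
  have hinj : Function.Injective
      (Algebra.TensorProduct.map A.val (AlgHom.id k (AlgebraicClosure k))) :=
    Module.Flat.rTensor_preserves_injective_linearMap (M := AlgebraicClosure k)
      A.val.toLinearMap Subtype.val_injective
  have hA' : TrivIdem (AlgebraicClosure k ⊗[k] A) := by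
    refine trivIdem_of_injective
      (((Algebra.TensorProduct.map A.val (AlgHom.id k (AlgebraicClosure k))).toRingHom).comp
        (Algebra.TensorProduct.comm k (AlgebraicClosure k) A).toAlgHom.toRingHom) ?_ hκK
    intro x y hxy
    exact (Algebra.TensorProduct.comm k (AlgebraicClosure k) A).injective (hinj hxy)
  haveI : Nontrivial (AlgebraicClosure k ⊗[k] A) :=
    nontrivial_baseChange k (AlgebraicClosure k) A
  haveI : Module.Finite (AlgebraicClosure k) (AlgebraicClosure k ⊗[k] A) := inferInstance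
  have h1 := finrank_le_one_of_trivIdem (AlgebraicClosure k) (AlgebraicClosure k ⊗[k] A) hA'
  rw [Module.finrank_baseChange] at h1
  have h2 : 0 < Module.finrank k A := Module.finrank_pos
  omega

open IntermediateField in
/-- (⇒), algebra -/
theorem pow_sub_nilpotent {R : Type u} [CommRing R] [Algebra k R] [Algebra.IsIntegral k R]
    [Nontrivial R] (hR : TrivIdem R) (hRK : TrivIdem (R ⊗[k] AlgebraicClosure k))
    (q : ℕ) [ExpChar k q] (a : R) :
    ∃ (n : ℕ) (c : k), IsNilpotent (a ^ q ^ n - algebraMap k R c) := by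
  have hun := isUnit_or_isNilpotent (k := k) hR
  obtain ⟨hloc, -⟩ := local_of_unit_or_nilpotent hun
  haveI := hloc
  have hm : ∀ b ∈ IsLocalRing.maximalIdeal R, IsNilpotent b := fun b hb =>
    (hun b).resolve_left ((IsLocalRing.mem_maximalIdeal b).mp hb)
  haveI : Algebra.IsIntegral k (IsLocalRing.ResidueField R) :=
    Algebra.IsIntegral.of_surjective (IsScalarTower.toAlgHom k R (IsLocalRing.ResidueField R))
      (fun x => by obtain ⟨a, ha⟩ := IsLocalRing.residue_surjective x; exact ⟨a, ha⟩)
  haveI : Algebra.IsAlgebraic k (IsLocalRing.ResidueField R) := Algebra.IsIntegral.isAlgebraic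
  have hκK : TrivIdem (IsLocalRing.ResidueField R ⊗[k] AlgebraicClosure k) := by
    intro e he
    have hsurj : Function.Surjective (Algebra.TensorProduct.map
        (IsScalarTower.toAlgHom k R (IsLocalRing.ResidueField R))
        (AlgHom.id k (AlgebraicClosure k))) :=
      Algebra.TensorProduct.map_surjective _ _
        (fun x => by obtain ⟨a, ha⟩ := IsLocalRing.residue_surjective x; exact ⟨a, ha⟩)
        (fun x => ⟨x, rfl⟩)
    obtain ⟨e', he', hee'⟩ := exists_isIdempotentElem_eq_of_ker_isNilpotent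
      (Algebra.TensorProduct.map (IsScalarTower.toAlgHom k R (IsLocalRing.ResidueField R))
        (AlgHom.id k (AlgebraicClosure k))).toRingHom
      (fun x hx => mem_nilradical.1 (ker_le_nilradical (AlgebraicClosure k) hm hx)) e
      (RingHom.mem_range.2 (hsurj e)) he
    rcases hRK e' he' with h | h
    · left; rw [← hee', h, map_zero]
    · right; rw [← hee', h, map_one]
  have hpi : IsPurelyInseparable k (IsLocalRing.ResidueField R) := by
    apply separableClosure.eq_bot_iff.mp
    rw [eq_bot_iff]
    intro α hα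
    have hs : IsSeparable k α := mem_separableClosure_iff.mp hα
    haveI : FiniteDimensional k k⟮α⟯ := IntermediateField.adjoin.finiteDimensional hs.isIntegral
    haveI : Algebra.IsSeparable k k⟮α⟯ :=
      (IntermediateField.isSeparable_adjoin_simple_iff_isSeparable k _).mpr hs
    exact IntermediateField.finrank_adjoin_simple_eq_one_iff.mp
      (finrank_eq_one_of_trivIdem k⟮α⟯ hκK)
  obtain ⟨n, c, hc⟩ := IsPurelyInseparable.pow_mem k q (IsLocalRing.residue R a)
  refine ⟨n, c, ?_⟩
  have h0 : IsLocalRing.residue R (a ^ q ^ n - algebraMap k R c) = 0 := by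
    rw [map_sub, map_pow, ← hc]
    have h2 : IsLocalRing.residue R (algebraMap k R c) =
        algebraMap k (IsLocalRing.ResidueField R) c :=
      (IsScalarTower.algebraMap_apply k R (IsLocalRing.ResidueField R) c).symm
    rw [h2, sub_self]
  exact hm _ ((IsLocalRing.residue_eq_zero_iff _).mp h0)

end Algebra

section Geometry

/-- A connected quasi-compact scheme has only trivial idempotent global functions. -/
theorem trivIdem_of_connectedSpace (X : Scheme.{u}) [ConnectedSpace ↥X] [CompactSpace ↥X] :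
    TrivIdem Γ(X, ⊤) := by
  intro e he
  have hzero : ∀ e' : Γ(X, ⊤), IsIdempotentElem e' → X.basicOpen e' = ⊥ → e' = 0 :=
    fun e' he' hb => eq_zero_of_idem_nilpotent he'
      ((Scheme.isNilpotent_iff_basicOpen_eq_bot_of_isCompact (U := ⊤) isCompact_univ e').mpr hb)
  have hdisj : X.basicOpen e ⊓ X.basicOpen (1 - e) = ⊥ := by
    rw [← Scheme.basicOpen_mul]
    have h0 : e * (1 - e) = 0 := by rw [mul_sub, mul_one, he.eq, sub_self]
    rw [h0, Scheme.basicOpen_zero]
  have hcov : ∀ x : ↥X, x ∈ X.basicOpen e ∨ x ∈ X.basicOpen (1 - e) := by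
    intro x
    have h1 : IsUnit (X.presheaf.germ ⊤ x trivial e + X.presheaf.germ ⊤ x trivial (1 - e)) := by
      rw [← map_add, add_sub_cancel, map_one]; exact isUnit_one
    rcases IsLocalRing.isUnit_or_isUnit_of_isUnit_add h1 with h | h
    · exact Or.inl ((X.mem_basicOpen_top e x).mpr h)
    · exact Or.inr ((X.mem_basicOpen_top (1 - e) x).mpr h)
  have hUV : (X.basicOpen e : Set ↥X) = ((X.basicOpen (1 - e) : Set ↥X))ᶜ := by
    apply Set.Subset.antisymm
    · intro x hx hxV
      have hmem : x ∈ (X.basicOpen e ⊓ X.basicOpen (1 - e) : X.Opens) := ⟨hx, hxV⟩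
      rw [hdisj] at hmem
      exact hmem
    · intro x hxV
      exact (hcov x).resolve_right hxV
  have hclopen : IsClopen (X.basicOpen e : Set ↥X) := by
    refine ⟨?_, (X.basicOpen e).2⟩
    rw [hUV]; exact (X.basicOpen (1 - e)).2.isClosed_compl
  rcases isClopen_iff.mp hclopen with h | h
  · left
    exact hzero e he (TopologicalSpace.Opens.ext (h.trans TopologicalSpace.Opens.coe_bot.symm))
  · right
    have h2 : X.basicOpen (1 - e) = ⊥ := by
      refine TopologicalSpace.Opens.ext (Set.eq_empty_of_forall_notMem fun x hxV => ?_)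
      have hx : x ∈ (X.basicOpen e : Set ↥X) := h ▸ Set.mem_univ x
      rw [hUV] at hx
      exact hx hxV
    have h3 := hzero (1 - e) he.one_sub h2
    exact (sub_eq_zero.mp h3).symm

/-- A nonempty scheme whose global functions have only trivial idempotents is connected. -/
theorem connectedSpace_of_trivIdem (X : Scheme.{u}) [Nonempty ↥X] (h : TrivIdem Γ(X, ⊤)) :
    ConnectedSpace ↥X := by
  rw [connectedSpace_iff_clopen]
  refine ⟨inferInstance, fun s hs => ?_⟩
  obtain ⟨U, hU⟩ : ∃ U : X.Opens, (U : Set ↥X) = s := ⟨⟨s, hs.isOpen⟩, rfl⟩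
  obtain ⟨V, hV⟩ : ∃ V : X.Opens, (V : Set ↥X) = sᶜ := ⟨⟨sᶜ, hs.isClosed.isOpen_compl⟩, rfl⟩
  have hinf : U ⊓ V = ⊥ := by
    apply TopologicalSpace.Opens.ext
    rw [TopologicalSpace.Opens.coe_inf, hU, hV, Set.inter_compl_self]; rfl
  have hsup : U ⊔ V = ⊤ := by
    apply TopologicalSpace.Opens.ext
    rw [TopologicalSpace.Opens.coe_sup, hU, hV, Set.union_compl_self]; rfl
  haveI hsub : Subsingleton ↑(X.sheaf.obj.obj (op (U ⊓ V))) :=
    CommRingCat.subsingleton_of_isTerminal (X.sheaf.isTerminalOfEqEmpty hinf)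
  obtain ⟨e₀, he₀, hfst, hsnd⟩ : ∃ e₀ : ↑(X.sheaf.obj.obj (op (U ⊔ V))), IsIdempotentElem e₀ ∧
      (X.sheaf.obj.map (homOfLE (le_sup_left : U ≤ U ⊔ V)).op).hom e₀ = 1 ∧
      (X.sheaf.obj.map (homOfLE (le_sup_right : V ≤ U ⊔ V)).op).hom e₀ = 0 := by
    refine ⟨(X.sheaf.objSupIsoProdEqLocus U V).inv.hom ⟨(1, 0), Subsingleton.elim _ _⟩, ?_, ?_, ?_⟩
    · refine IsIdempotentElem.map ?_ (X.sheaf.objSupIsoProdEqLocus U V).inv.hom
      exact Subtype.ext (Prod.ext (mul_one 1) (mul_zero 0))
    · exact TopCat.Sheaf.objSupIsoProdEqLocus_inv_fst X.sheaf U V _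
    · exact TopCat.Sheaf.objSupIsoProdEqLocus_inv_snd X.sheaf U V _
  obtain ⟨e, hedef⟩ : ∃ e : Γ(X, ⊤), e = (X.presheaf.map (homOfLE hsup.ge).op).hom e₀ := ⟨_, rfl⟩
  have he : IsIdempotentElem e := by rw [hedef]; exact he₀.map _
  have hres : ∀ (W : X.Opens) (i : W ⟶ U ⊔ V),
      (X.presheaf.map (homOfLE (le_top : W ≤ ⊤)).op).hom e = (X.presheaf.map i.op).hom e₀ := by
    intro W i
    rw [hedef]
    show (X.presheaf.map (homOfLE hsup.ge).op ≫ X.presheaf.map (homOfLE (le_top : W ≤ ⊤)).op).hom e₀ = _
    rw [← Functor.map_comp, ← op_comp]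
    exact congrArg (fun j : W ⟶ U ⊔ V => (X.presheaf.map j.op).hom e₀) (Subsingleton.elim _ _)
  rcases h e he with h0 | h1
  · left
    by_contra hne
    obtain ⟨y, hy⟩ := Set.nonempty_iff_ne_empty.mpr hne
    haveI : Nonempty (U : X.Opens) := ⟨⟨y, (Set.ext_iff.mp hU y).mpr hy⟩⟩
    haveI := X.component_nontrivial U
    have h2 : (1 : Γ(X, U)) = 0 := by
      have h3 := hres U (homOfLE le_sup_left)
      rw [h0, map_zero] at h3
      exact hfst.symm.trans h3.symm
    exact one_ne_zero h2
  · right
    by_contra hne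
    have hne' : (sᶜ).Nonempty :=
      Set.nonempty_iff_ne_empty.mpr (fun hh => hne (Set.compl_empty_iff.mp hh))
    obtain ⟨y, hy⟩ := hne'
    haveI : Nonempty (V : X.Opens) := ⟨⟨y, (Set.ext_iff.mp hV y).mpr hy⟩⟩
    haveI := X.component_nontrivial V
    have h2 : (1 : Γ(X, V)) = 0 := by
      have h3 := hres V (homOfLE le_sup_right)
      rw [h1, map_one] at h3
      exact h3.trans hsnd
    exact one_ne_zero h2

/-- Künneth in degree zero as a ring isomorphism. -/
theorem nonempty_ringEquiv_tensor (k K : Type u) [Field k] [Field K] [Algebra k K]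
    {X : Scheme.{u}} (f : X ⟶ Spec (CommRingCat.of k)) [CompactSpace ↥X] [QuasiSeparatedSpace ↥X]
    [Algebra k Γ(X, ⊤)]
    (halg : algebraMap k Γ(X, ⊤) =
      f.appTop.hom.comp (Scheme.ΓSpecIso (CommRingCat.of k)).inv.hom) :
    Nonempty (Γ(pullback f (Spec.map (CommRingCat.ofHom (algebraMap k K))), ⊤) ≃+*
      ((Γ(X, ⊤) : Type u) ⊗[k] K)) := by
  obtain ⟨φ, hφ⟩ : ∃ φ : CommRingCat.of k ⟶ CommRingCat.of K,
      φ = CommRingCat.ofHom (algebraMap k K) := ⟨_, rfl⟩
  rw [← hφ]
  have hpo : IsPushout f.appTop (Spec.map φ).appTop (pullback.fst f (Spec.map φ)).appTop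
      (pullback.snd f (Spec.map φ)).appTop := by
    haveI : IsAffine (Over.mk (Spec.map φ)).left :=
      (inferInstance : IsAffine (Spec (CommRingCat.of K)))
    haveI : CompactSpace (Over.mk f).left := ‹CompactSpace ↥X›
    haveI : QuasiSeparatedSpace (Over.mk f).left := ‹QuasiSeparatedSpace ↥X›
    exact Groth.Agent.Lib.AAKunneth.isPushout_appTop (Over.mk f) (Over.mk (Spec.map φ))
  have hpo' : IsPushout (CommRingCat.ofHom (algebraMap k (Γ(X, ⊤) : Type u)))
      (CommRingCat.ofHom (algebraMap k K))
      (pullback.fst f (Spec.map φ)).appTop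
      ((Scheme.ΓSpecIso (CommRingCat.of K)).inv ≫ (pullback.snd f (Spec.map φ)).appTop) := by
    refine hpo.of_iso (Scheme.ΓSpecIso (CommRingCat.of k)) (Iso.refl _)
      (Scheme.ΓSpecIso (CommRingCat.of K)) (Iso.refl _) ?_ ?_ ?_ ?_
    · rw [halg]
      have h1 : CommRingCat.ofHom (f.appTop.hom.comp
          (Scheme.ΓSpecIso (CommRingCat.of k)).inv.hom) =
          (Scheme.ΓSpecIso (CommRingCat.of k)).inv ≫ f.appTop := rfl
      rw [h1, Iso.refl_hom, Category.comp_id, Iso.hom_inv_id_assoc]
    · rw [← hφ]; exact Scheme.ΓSpecIso_naturality φ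
    · simp only [Iso.refl_hom, Category.comp_id, Category.id_comp]
    · rw [Iso.refl_hom, Category.comp_id, Iso.hom_inv_id_assoc]
  exact ⟨(hpo'.isoIsPushout _ _
    (CommRingCat.isPushout_tensorProduct k (Γ(X, ⊤) : Type u) K)).commRingCatIsoToRingEquiv⟩

theorem main7856 (k : Type u) [Field k] {X : Scheme.{u}}
    (f : X ⟶ Spec (CommRingCat.of k)) [IsProper f] :
    GeometricallyConnected f ↔
      (IsLocalRing Γ(X, ⊤) ∧ ringKrullDim Γ(X, ⊤) = 0 ∧
        ∀ a : Γ(X, ⊤), ∃ (n : ℕ) (c : k),
          IsNilpotent (a ^ (ringExpChar k ^ n) -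
            f.appTop.hom ((Scheme.ΓSpecIso (CommRingCat.of k)).inv.hom c))) := by
  letI alg : Algebra k Γ(X, ⊤) :=
    (f.appTop.hom.comp (Scheme.ΓSpecIso (CommRingCat.of k)).inv.hom).toAlgebra
  have halg : algebraMap k Γ(X, ⊤) =
      f.appTop.hom.comp (Scheme.ΓSpecIso (CommRingCat.of k)).inv.hom := rfl
  haveI : IsNoetherianRing (CommRingCat.of k) := inferInstanceAs (IsNoetherianRing k)
  haveI : IsLocallyNoetherian X := LocallyOfFiniteType.isLocallyNoetherian f
  haveI : CompactSpace ↥X := QuasiCompact.compactSpace_of_compactSpace f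
  haveI : QuasiSeparatedSpace ↥X := inferInstance
  have hF : ((Scheme.ΓSpecIso (CommRingCat.of k)).inv ≫ f.appTop).hom.IsIntegral := by
    apply RingHom.isIntegral_respectsIso.2
      (e := (Scheme.ΓSpecIso (CommRingCat.of k)).symm.commRingCatIsoToRingEquiv)
    exact isIntegral_appTop_of_universallyClosed f
  haveI hint : Algebra.IsIntegral k Γ(X, ⊤) := ⟨fun x => hF x⟩
  have hsurjK : ∀ (K : Type u) [Field K] [Algebra k K],
      Surjective (Spec.map (CommRingCat.ofHom (algebraMap k K))) := by
    intro K _ _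
    refine ⟨fun y => ?_⟩
    obtain ⟨z⟩ : Nonempty ↥(Spec (CommRingCat.of K)) :=
      inferInstanceAs (Nonempty (PrimeSpectrum K))
    exact ⟨z, Subsingleton.elim (α := PrimeSpectrum k) _ _⟩
  constructor
  · intro hgc
    haveI := hgc
    haveI : Subsingleton ↥(Spec (CommRingCat.of k)) :=
      inferInstanceAs (Subsingleton (PrimeSpectrum k))
    haveI : Nonempty ↥(Spec (CommRingCat.of k)) := inferInstanceAs (Nonempty (PrimeSpectrum k))
    haveI : ConnectedSpace ↥X := GeometricallyConnected.connectedSpace_of_subsingleton f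
    have hR : TrivIdem Γ(X, ⊤) := trivIdem_of_connectedSpace X
    obtain ⟨x0⟩ : Nonempty ↥X := inferInstance
    haveI : Nonempty (⊤ : X.Opens) := ⟨⟨x0, trivial⟩⟩
    haveI : Nontrivial Γ(X, ⊤) := X.component_nontrivial ⊤
    haveI : ConnectedSpace
        ↥(pullback f (Spec.map (CommRingCat.ofHom (algebraMap k (AlgebraicClosure k))))) :=
      pullback_of_geometrically (GeometricallyConnected.geometrically_connectedSpace (f := f))
        (AlgebraicClosure k) _
    haveI : CompactSpace
        ↥(pullback f (Spec.map (CommRingCat.ofHom (algebraMap k (AlgebraicClosure k))))) :=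
      QuasiCompact.compactSpace_of_compactSpace (pullback.snd f _)
    have hYidem := trivIdem_of_connectedSpace
      (pullback f (Spec.map (CommRingCat.ofHom (algebraMap k (AlgebraicClosure k)))))
    obtain ⟨e⟩ := nonempty_ringEquiv_tensor k (AlgebraicClosure k) f halg
    have hRK : TrivIdem ((Γ(X, ⊤) : Type u) ⊗[k] AlgebraicClosure k) :=
      trivIdem_of_injective e.symm.toRingHom e.symm.injective hYidem
    have hun := isUnit_or_isNilpotent (k := k) hR
    obtain ⟨hloc, hdim⟩ := local_of_unit_or_nilpotent hun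
    refine ⟨hloc, hdim, fun a => ?_⟩
    exact pow_sub_nilpotent hR hRK (ringExpChar k) a
  · rintro ⟨hloc, hdim, hH⟩
    haveI := hloc
    rw [geometricallyConnected_iff, geometrically_iff_of_commRing_of_isClosedUnderIsomorphisms]
    intro K _ _
    show ConnectedSpace ↥(pullback f (Spec.map (CommRingCat.ofHom (algebraMap k K))))
    have hRK : TrivIdem ((Γ(X, ⊤) : Type u) ⊗[k] K) :=
      trivIdem_tensor_of_pow_sub_nilpotent (k := k) (ringExpChar k) hH
    obtain ⟨e⟩ := nonempty_ringEquiv_tensor k K f halg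
    have hY : TrivIdem Γ(pullback f (Spec.map (CommRingCat.ofHom (algebraMap k K))), ⊤) :=
      trivIdem_of_injective e.toRingHom e.injective hRK
    haveI : Nonempty ↥X := by
      by_contra hemp
      haveI : IsEmpty ↥X := not_nonempty_iff.mp hemp
      have htb : (⊤ : X.Opens) = ⊥ :=
        TopologicalSpace.Opens.ext (Set.eq_empty_of_isEmpty _)
      haveI : Subsingleton ↑(X.sheaf.obj.obj (op (⊤ : X.Opens))) :=
        CommRingCat.subsingleton_of_isTerminal (X.sheaf.isTerminalOfEqEmpty htb)
      exact (not_subsingleton (Γ(X, ⊤) : Type u)) ‹_›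
    haveI : Nonempty ↥(pullback f (Spec.map (CommRingCat.ofHom (algebraMap k K)))) := by
      haveI := hsurjK K
      haveI : Surjective (pullback.fst f (Spec.map (CommRingCat.ofHom (algebraMap k K)))) :=
        MorphismProperty.pullback_fst (P := @Surjective) f _ inferInstance
      obtain ⟨x0⟩ : Nonempty ↥X := inferInstance
      obtain ⟨y, -⟩ := (pullback.fst f
        (Spec.map (CommRingCat.ofHom (algebraMap k K)))).surjective x0
      exact ⟨y⟩
    exact connectedSpace_of_trivIdem _ hY

end Geometry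

end Groth.Agent.Lib.GeomConnLocH4
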