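import Mathlib
import Groth.Prelude
import Groth.Agent.Lib.GeomConnLoc_helper4

/-!
# Global sections of an integral proper scheme over a field

`Γ(X, O_X)` is a finite field extension of `k`; it is separable if `X` is geometrically reduced and
purely inseparable if `X` is geometrically irreducible.
-/

set_option backward.isDefEq.respectTransparency false
set_option backward.isDefEq.respectTransparency.types false
set_option autoImplicit false
set_option linter.style.haveILetI false
set_option linter.unusedVariables false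
set_option linter.unusedSimpArgs false
set_option linter.unusedSectionVars false
set_option linter.style.longLine false
set_option maxHeartbeats 800000

universe u

open CategoryTheory CategoryTheory.Limits AlgebraicGeometry TopologicalSpace Opposite TensorProduct

namespace Groth.Agent.Lib.GammaFieldH4

section Algebra

variable (k : Type u) [Field k]

/-- A polynomial over `Ω` of degree less than that of the minimal polynomial of `a` over `k`
which kills `1 ⊗ a` vanishes. -/
theorem eq_zero_of_aeval_one_tmul {S : Type u} [CommRing S] [Algebra k S] (Ω : Type u) [Field Ω]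
    [Algebra k Ω] (a : S) (p : Polynomial Ω) (hdeg : p.natDegree < (minpoly k a).natDegree)
    (hp : Polynomial.aeval ((1 : Ω) ⊗ₜ[k] a) p = 0) : p = 0 := by
  have hli : LinearIndependent Ω
      (fun i : Fin (minpoly k a).natDegree => (1 : Ω) ⊗ₜ[k] (a ^ (i : ℕ))) :=
    Module.Flat.linearIndependent_one_tmul (R := k) (S := Ω) (linearIndependent_pow (K := k) a)
  rw [Polynomial.aeval_eq_sum_range' hdeg] at hp
  have hp' : ∑ i : Fin (minpoly k a).natDegree,
      p.coeff (i : ℕ) • ((1 : Ω) ⊗ₜ[k] (a ^ (i : ℕ))) = 0 := by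
    have h1 := Fin.sum_univ_eq_sum_range (fun i => p.coeff i • ((1 : Ω) ⊗ₜ[k] (a ^ i)))
      (minpoly k a).natDegree
    refine h1.trans ?_
    rw [← hp]
    refine Finset.sum_congr rfl (fun i _ => ?_)
    rw [Algebra.TensorProduct.tmul_pow, one_pow]
  have hc := Fintype.linearIndependent_iff.mp hli (fun i => p.coeff (i : ℕ)) hp'
  by_contra hne
  have h1 : p.coeff p.natDegree = 0 := hc ⟨p.natDegree, hdeg⟩
  exact hne (Polynomial.leadingCoeff_eq_zero.mp h1)

theorem aeval_one_tmul_minpoly_map {S : Type u} [CommRing S] [Algebra k S] (Ω : Type u) [Field Ω]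
    [Algebra k Ω] (a : S) :
    Polynomial.aeval ((1 : Ω) ⊗ₜ[k] a) ((minpoly k a).map (algebraMap k Ω)) = 0 := by
  rw [Polynomial.aeval_map_algebraMap]
  have h1 : ((1 : Ω) ⊗ₜ[k] a) = (Algebra.TensorProduct.includeRight : S →ₐ[k] Ω ⊗[k] S) a := rfl
  rw [h1, Polynomial.aeval_algHom_apply, minpoly.aeval, map_zero]

/-- An integral algebra over a field whose base change to a perfect field is reduced is
separable. -/
theorem isSeparable_of_isReduced_tensor (S : Type u) [CommRing S] [Algebra k S]
    [Algebra.IsIntegral k S] (Ω : Type u) [Field Ω] [Algebra k Ω] [PerfectField Ω]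
    (h : _root_.IsReduced (Ω ⊗[k] S)) : Algebra.IsSeparable k S := by
  refine ⟨fun a => ?_⟩
  show (minpoly k a).Separable
  rw [← Polynomial.separable_map (algebraMap k Ω), PerfectField.separable_iff_squarefree]
  intro g hg
  obtain ⟨h', hh'⟩ := hg
  have hmonic : (minpoly k a).Monic := minpoly.monic (Algebra.IsIntegral.isIntegral a)
  have hne : (minpoly k a).map (algebraMap k Ω) ≠ 0 := (hmonic.map _).ne_zero
  have hdegmap : ((minpoly k a).map (algebraMap k Ω)).natDegree = (minpoly k a).natDegree :=
    hmonic.natDegree_map (algebraMap k Ω)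
  have hg0 : g ≠ 0 := by
    rintro rfl
    apply hne; rw [hh']; simp
  have hh0 : h' ≠ 0 := by
    rintro rfl
    apply hne; rw [hh']; simp
  have hy : Polynomial.aeval ((1 : Ω) ⊗ₜ[k] a) (g * h') = 0 := by
    apply IsNilpotent.eq_zero
    refine ⟨2, ?_⟩
    rw [pow_two, ← map_mul]
    have h2 : g * h' * (g * h') = (minpoly k a).map (algebraMap k Ω) * h' := by rw [hh']; ring
    rw [h2, map_mul, aeval_one_tmul_minpoly_map, zero_mul]
  by_contra hunit
  have hgdeg : 0 < g.natDegree := by
    rw [Nat.pos_iff_ne_zero]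
    intro h0
    apply hunit
    rw [Polynomial.isUnit_iff_degree_eq_zero, Polynomial.degree_eq_natDegree hg0, h0]
    rfl
  have hdeg : (g * h').natDegree < (minpoly k a).natDegree := by
    rw [← hdegmap, hh', Polynomial.natDegree_mul (mul_ne_zero hg0 hg0) hh0,
      Polynomial.natDegree_mul hg0 hg0, Polynomial.natDegree_mul hg0 hh0]
    omega
  exact mul_ne_zero hg0 hh0 (eq_zero_of_aeval_one_tmul k Ω a (g * h') hdeg hy)

end Algebra

theorem geomConn_of_geomIrr {X Y : Scheme.{u}} (f : X ⟶ Y) (h : GeometricallyIrreducible f) :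
    GeometricallyConnected f :=
  ⟨fun K _ y Z fst snd hp => by
    haveI : IrreducibleSpace ↥Z := h.geometrically_irreducibleSpace y fst snd hp
    exact (inferInstance : ConnectedSpace ↥Z)⟩

theorem main7615 (k : Type u) [Field k] (X : Scheme.{u}) (f : X ⟶ Spec (CommRingCat.of k))
    [IsIntegral X] [IsProper f] :
    letI := (f.appTop.hom.comp (Scheme.ΓSpecIso (CommRingCat.of k)).inv.hom :
      k →+* Γ(X, ⊤)).toAlgebra
    IsField ↑Γ(X, ⊤) ∧ Module.Finite k ↑Γ(X, ⊤) ∧
      (GeometricallyReduced f → Algebra.IsSeparable k ↑Γ(X, ⊤)) ∧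
      (GeometricallyIrreducible f → IsPurelyInseparable k ↑Γ(X, ⊤)) := by
  letI alg : Algebra k Γ(X, ⊤) :=
    (f.appTop.hom.comp (Scheme.ΓSpecIso (CommRingCat.of k)).inv.hom).toAlgebra
  have halg : algebraMap k Γ(X, ⊤) =
      f.appTop.hom.comp (Scheme.ΓSpecIso (CommRingCat.of k)).inv.hom := rfl
  have hfield : IsField Γ(X, ⊤) := isField_of_universallyClosed k f
  have hfin : Module.Finite k Γ(X, ⊤) := by
    show (f.appTop.hom.comp (Scheme.ΓSpecIso (CommRingCat.of k)).inv.hom).Finite
    refine RingHom.Finite.comp (finite_appTop_of_universallyClosed k f)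
      (RingHom.Finite.of_surjective _ ?_)
    exact (Scheme.ΓSpecIso (CommRingCat.of k)).symm.commRingCatIsoToRingEquiv.surjective
  haveI : IsNoetherianRing (CommRingCat.of k) := inferInstanceAs (IsNoetherianRing k)
  haveI : IsLocallyNoetherian X := LocallyOfFiniteType.isLocallyNoetherian f
  haveI : CompactSpace ↥X := QuasiCompact.compactSpace_of_compactSpace f
  haveI : QuasiSeparatedSpace ↥X := inferInstance
  refine ⟨hfield, hfin, ?_, ?_⟩
  · intro hgr
    haveI : Algebra.IsIntegral k Γ(X, ⊤) := by
      haveI := hfin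
      exact Algebra.IsIntegral.of_finite k _
    obtain ⟨e⟩ := Groth.Agent.Lib.GeomConnLocH4.nonempty_ringEquiv_tensor k (AlgebraicClosure k)
      f halg
    haveI hredX : AlgebraicGeometry.IsReduced
        (pullback f (Spec.map (CommRingCat.ofHom (algebraMap k (AlgebraicClosure k))))) :=
      pullback_of_geometrically hgr.geometrically_isReduced (AlgebraicClosure k) _
    haveI hred1 : _root_.IsReduced
        Γ(pullback f (Spec.map (CommRingCat.ofHom (algebraMap k (AlgebraicClosure k)))), ⊤) :=
      inferInstance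
    haveI hred2 : _root_.IsReduced ((Γ(X, ⊤) : Type u) ⊗[k] AlgebraicClosure k) :=
      isReduced_of_injective e.symm.toRingHom e.symm.injective
    have hred3 : _root_.IsReduced (AlgebraicClosure k ⊗[k] (Γ(X, ⊤) : Type u)) :=
      isReduced_of_injective
        (Algebra.TensorProduct.comm k (AlgebraicClosure k) (Γ(X, ⊤) : Type u)).toRingEquiv.toRingHom
        (Algebra.TensorProduct.comm k (AlgebraicClosure k) (Γ(X, ⊤) : Type u)).injective
    exact isSeparable_of_isReduced_tensor k (Γ(X, ⊤) : Type u) (AlgebraicClosure k) hred3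
  · intro hgi
    have hgc : GeometricallyConnected f := geomConn_of_geomIrr f hgi
    obtain ⟨-, -, hH⟩ := (Groth.Agent.Lib.GeomConnLocH4.main7856 k f).mp hgc
    haveI : ExpChar k (ringExpChar k) := ringExpChar.expChar k
    rw [isPurelyInseparable_iff_pow_mem k (ringExpChar k)]
    intro a
    obtain ⟨n, c, hc⟩ := hH a
    refine ⟨n, RingHom.mem_range.mpr ⟨c, ?_⟩⟩
    have h0 := hc.eq_zero
    rw [sub_eq_zero] at h0
    exact h0.symm

end Groth.Agent.Lib.GammaFieldH4
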