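import Mathlib
import Groth.Prelude.Def_LocCohZ
import Groth.Agent.Lib.LocVan_helper9
import Groth.Agent.Lib.ExtDer_helper9

/-!
# `Γ_Z(X, -)` is `Hom(ℤ_X/ℤ_U, -)`, hence `R^q Γ_Z(X, -) ≅ Ext^q(ℤ_X/ℤ_U, -)`
-/

universe u

open CategoryTheory CategoryTheory.Limits Opposite TopologicalSpace

namespace GammaZHom

open AffVanish (Sec rs apS)

variable {X : TopCat.{u}} (U : Opens X)

/-- `ℤ_X/ℤ_U`. -/
noncomputable abbrev KK : CohTop.Ab X := LocCohZ.zq (le_top : U ≤ ⊤)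

/-- The quotient map `ℤ_X ⟶ ℤ_X/ℤ_U`. -/
noncomputable abbrev pi :
    CohCx.freeSheaf (Opens.grothendieckTopology X) (⊤ : Opens X) ⟶ KK U :=
  cokernel.π (CohCx.freeSheafMap (Opens.grothendieckTopology X) (homOfLE (le_top : U ≤ ⊤)))

variable (F : CohTop.Ab X)

/-- The global section of `F` attached to a morphism `ℤ_X/ℤ_U ⟶ F`. -/
noncomputable def secOf (φ : KK U ⟶ F) : Sec F ⊤ :=
  CohFree.evalGen (Opens.grothendieckTopology X) (⊤ : Opens X) F (pi U ≫ φ)

theorem secOf_add (φ ψ : KK U ⟶ F) : secOf U F (φ + ψ) = secOf U F φ + secOf U F ψ := by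
  unfold secOf
  rw [Preadditive.comp_add, map_add]

theorem rs_secOf (φ : KK U ⟶ F) : rs F (le_top : U ≤ ⊤) (secOf U F φ) = 0 := by
  have h := CohFree.evalGen_freeSheafMap_comp (Opens.grothendieckTopology X)
    (homOfLE (le_top : U ≤ ⊤)) F (pi U ≫ φ)
  rw [cokernel.condition_assoc, zero_comp, map_zero] at h
  exact h.symm

theorem rs_VU_secOf (φ : KK U ⟶ F) : rs F (SectSupp.VU_le U ⊤) (secOf U F φ) = 0 := by
  have h := AffVanish.rs_rs F (SectSupp.VU_le_U U ⊤) (le_top : U ≤ ⊤) (secOf U F φ)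
  rw [rs_secOf, map_zero] at h
  exact h.symm

theorem exists_toG (φ : KK U ⟶ F) :
    ∃ t : Sec (CohCx.sectSupp U F) ⊤, apS (SectSupp.incl U F) ⊤ t = secOf U F φ :=
  SectSupp.exists_of_rs_eq_zero U F ⊤ _ (rs_VU_secOf U F φ)

/-- The section of `Γ_Z(F)` attached to a morphism `ℤ_X/ℤ_U ⟶ F`. -/
noncomputable def toG (φ : KK U ⟶ F) : Sec (CohCx.sectSupp U F) ⊤ := (exists_toG U F φ).choose

theorem incl_toG (φ : KK U ⟶ F) : apS (SectSupp.incl U F) ⊤ (toG U F φ) = secOf U F φ :=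
  (exists_toG U F φ).choose_spec

theorem toG_add (φ ψ : KK U ⟶ F) : toG U F (φ + ψ) = toG U F φ + toG U F ψ := by
  apply SectSupp.incl_injective U F ⊤
  rw [map_add, incl_toG, incl_toG, incl_toG, secOf_add]

theorem toG_injective : Function.Injective (toG U F) := by
  intro φ ψ h
  have h1 : secOf U F φ = secOf U F ψ := by rw [← incl_toG, ← incl_toG, h]
  have h2 : pi U ≫ φ = pi U ≫ ψ :=
    (CohFree.homEquivSect (Opens.grothendieckTopology X) (⊤ : Opens X) F).injective h1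
  exact (cancel_epi (pi U)).1 h2

theorem toG_surjective : Function.Surjective (toG U F) := by
  intro t
  have hU : U ≤ SectSupp.VU U ⊤ := fun x hx => SectSupp.mem_VU U (V := ⊤) trivial hx
  have hs : rs F (le_top : U ≤ ⊤) (apS (SectSupp.incl U F) ⊤ t) = 0 := by
    have h := AffVanish.rs_rs F hU (SectSupp.VU_le U ⊤) (apS (SectSupp.incl U F) ⊤ t)
    rw [SectSupp.rs_incl, map_zero] at h
    exact h.symm
  have hz : CohCx.freeSheafMap (Opens.grothendieckTopology X) (homOfLE (le_top : U ≤ ⊤)) ≫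
      CohFree.ofSect (Opens.grothendieckTopology X) (⊤ : Opens X) F
        (apS (SectSupp.incl U F) ⊤ t) = 0 := by
    apply (CohFree.homEquivSect (Opens.grothendieckTopology X) U F).injective
    rw [map_zero, CohFree.homEquivSect_apply, CohFree.evalGen_freeSheafMap_comp,
      CohFree.evalGen_ofSect]
    exact hs
  refine ⟨cokernel.desc _ _ hz, ?_⟩
  apply SectSupp.incl_injective U F ⊤
  rw [incl_toG]
  unfold secOf
  rw [cokernel.π_desc, CohFree.evalGen_ofSect]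

/-- The component of the comparison. -/
noncomputable def compHom : (ExtDer.hom (KK U)).obj F ⟶ (LocCohZ.gammaZF U).obj F :=
  AddCommGrpCat.ofHom (X := AddCommGrpCat.of (KK U ⟶ F))
    (Y := (CohCx.sectSupp U F).obj.obj (op ⊤))
    (AddMonoidHom.mk' (toG U F) (toG_add U F))

instance : IsIso (compHom U F) :=
  (ConcreteCategory.isIso_iff_bijective _).2 ⟨toG_injective U F, toG_surjective U F⟩

theorem compHom_naturality {F F' : CohTop.Ab X} (ψ : F ⟶ F') :
    (ExtDer.hom (KK U)).map ψ ≫ compHom U F' = compHom U F ≫ (LocCohZ.gammaZF U).map ψ := by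
  ext φ
  show toG U F' (φ ≫ ψ) = apS ((LocCohZ.sectSuppF U).map ψ) ⊤ (toG U F φ)
  apply SectSupp.incl_injective U F' ⊤
  rw [incl_toG]
  have h1 : apS (SectSupp.incl U F') ⊤ (apS ((LocCohZ.sectSuppF U).map ψ) ⊤ (toG U F φ)) =
      apS ψ ⊤ (apS (SectSupp.incl U F) ⊤ (toG U F φ)) :=
    congrArg (fun κ => apS κ ⊤ (toG U F φ)) (LocVan.map_incl U ψ)
  rw [h1, incl_toG]
  rfl

/-- `Hom(ℤ_X/ℤ_U, -) ≅ Γ_Z(X, -)`. -/
noncomputable def homIso : ExtDer.hom (KK U) ≅ LocCohZ.gammaZF U :=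
  NatIso.ofComponents (fun F => asIso (compHom U F)) (fun ψ => compHom_naturality U ψ)

/-- `R^q Γ_Z(X, -) ≅ Ext^q(ℤ_X/ℤ_U, -)` with the topos-level quotient. -/
theorem main (q : ℕ) :
    Nonempty (LocCohZ.RHZ U q ≅ ToposFin.HZFunctor (LocCohZ.openSh U) q) :=
  ⟨(ExtDer.rightDerivedIso (homIso U) q).symm ≪≫ ExtDer.natIso (KK U) q ≪≫
    ((Abelian.extFunctor.{u} q).mapIso (LocCohZ.zqIsoQuotZ U).op).symm⟩

end GammaZHom
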