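import Mathlib

namespace Groth.Agent.Lib.GaussJacobi

open Finset

variable {F : Type} [Field F] [Fintype F] [DecidableEq F] {R : Type} [CommRing R] [IsDomain R]

lemma sum_eq_add_sum_units (f : F → R) : ∑ y : F, f y = f 0 + ∑ u : Fˣ, f (u : F) := by
  rw [← Finset.add_sum_erase Finset.univ f (Finset.mem_univ 0)]
  congr 1
  have h : (Finset.univ.erase (0 : F)) = Finset.univ.image (fun u : Fˣ => (u : F)) := by
    ext y
    simp only [Finset.mem_erase, Finset.mem_univ, and_true, Finset.mem_image, true_and]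
    constructor
    · intro hy; exact ⟨Units.mk0 y hy, rfl⟩
    · rintro ⟨u, rfl⟩; exact u.ne_zero
  rw [h, Finset.sum_image]
  intro a _ b _ hab
  exact Units.ext hab

lemma mulChar_prod_apply {ι : Type*} (s : Finset ι) (ψ : ι → MulChar F R) (u : Fˣ) :
    (∏ i ∈ s, ψ i) (u : F) = ∏ i ∈ s, ψ i (u : F) := by
  classical
  induction s using Finset.induction_on with
  | empty => simp [MulChar.one_apply_coe]
  | insert a s ha ih => rw [Finset.prod_insert ha, Finset.prod_insert ha, MulChar.mul_apply, ih]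

lemma addChar_sum {ι : Type*} (Ψ : AddChar F R) (s : Finset ι) (f : ι → F) :
    Ψ (∑ i ∈ s, f i) = ∏ i ∈ s, Ψ (f i) := by
  classical
  induction s using Finset.induction_on with
  | empty => simp
  | insert a s ha ih =>
    rw [Finset.sum_insert ha, Finset.prod_insert ha, AddChar.map_add_eq_mul, ih]

lemma sum_units_addChar (Ψ : AddChar F R) (hΨ : Ψ ≠ 1) (s : F) :
    ∑ u : Fˣ, Ψ ((u : F) * s) = (if s = 0 then (Fintype.card F : R) else 0) - 1 := by
  have h1 := sum_eq_add_sum_units (fun y : F => Ψ (y * s))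
  simp only [zero_mul, AddChar.map_zero_eq_one] at h1
  have h2 : ∑ y : F, Ψ (y * s) = if s = 0 then (Fintype.card F : R) else 0 := by
    split_ifs with hs
    · subst hs; simp
    · rw [Fintype.sum_equiv (Equiv.mulRight₀ s hs) (fun y => Ψ (y * s)) (fun z => Ψ z)
        (fun y => by simp)]
      exact AddChar.sum_eq_zero_of_ne_one hΨ
  rw [h2] at h1
  rw [h1]; ring

theorem core (N : ℕ) (ψ : Fin (N + 1) → MulChar F R) (hprod : ∏ i, ψ i = 1)
    (hnt : ∃ i : Fin N, ψ i.succ ≠ 1) (Ψ : AddChar F R) (hΨ : Ψ ≠ 1) :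
    ∏ i, (∑ y : F, Ψ y * ψ i y) =
      (Fintype.card F : R) *
        ∑ x ∈ (Finset.univ : Finset (Fin N → Fˣ)).filter
          (fun x => ∑ i, ((x i : Fˣ) : F) = -1), ∏ i : Fin N, ψ i.succ ((x i : Fˣ) : F) := by
  classical
  have h1 : ∀ i, ∑ y : F, Ψ y * ψ i y = ∑ u : Fˣ, Ψ (u : F) * ψ i (u : F) := by
    intro i
    rw [sum_eq_add_sum_units (fun y => Ψ y * ψ i y), MulChar.map_zero, mul_zero, zero_add]
  simp_rw [h1]
  rw [Finset.prod_univ_sum, Fintype.piFinset_univ]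
  let e : (Fin (N + 1) → Fˣ) ≃ Fˣ × (Fin N → Fˣ) :=
    { toFun := fun y => (y 0, fun i => y i.succ / y 0)
      invFun := fun p => Fin.cons p.1 (fun i => p.1 * p.2 i)
      left_inv := fun y => by
        ext i
        refine Fin.cases ?_ (fun j => ?_) i <;> simp
      right_inv := fun p => by
        ext <;> simp }
  rw [← Equiv.sum_comp e.symm, Fintype.sum_prod_type, Finset.sum_comm]
  have hterm : ∀ (u : Fˣ) (w : Fin N → Fˣ),
      ∏ i, (Ψ ((e.symm (u, w) i : Fˣ) : F) * ψ i ((e.symm (u, w) i : Fˣ) : F)) =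
        Ψ ((u : F) * (1 + ∑ i, (w i : F))) * ∏ i : Fin N, ψ i.succ (w i : F) := by
    intro u w
    have e0 : e.symm (u, w) 0 = u := rfl
    have es : ∀ i : Fin N, e.symm (u, w) i.succ = u * w i := fun i => by simp [e]
    have hΨ' : ∏ i, Ψ ((e.symm (u, w) i : Fˣ) : F) = Ψ ((u : F) * (1 + ∑ i, (w i : F))) := by
      rw [← addChar_sum, Fin.sum_univ_succ]
      simp only [e0, es, Units.val_mul]
      rw [← Finset.mul_sum]; congr 1; ring
    have hψ' : ∏ i, ψ i ((e.symm (u, w) i : Fˣ) : F) = ∏ i : Fin N, ψ i.succ (w i : F) := by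
      rw [Fin.prod_univ_succ]
      simp only [e0, es, Units.val_mul, map_mul]
      rw [Finset.prod_mul_distrib, ← mul_assoc]
      have h3 : ψ 0 (u : F) * ∏ i : Fin N, ψ i.succ (u : F) = 1 := by
        rw [← Fin.prod_univ_succ (fun i => ψ i (u : F)), ← mulChar_prod_apply, hprod,
          MulChar.one_apply_coe]
      rw [h3, one_mul]
    rw [Finset.prod_mul_distrib, hΨ', hψ']
  simp_rw [hterm, ← Finset.sum_mul, sum_units_addChar Ψ hΨ, sub_mul, one_mul, ite_mul, zero_mul]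
  rw [Finset.sum_sub_distrib]
  have hzero : ∑ w : Fin N → Fˣ, ∏ i : Fin N, ψ i.succ (w i : F) = 0 := by
    have h4 := Finset.prod_univ_sum (fun _ : Fin N => (Finset.univ : Finset Fˣ))
      (fun i u => ψ i.succ (u : F))
    rw [Fintype.piFinset_univ] at h4
    rw [← h4]
    obtain ⟨i, hi⟩ := hnt
    apply Finset.prod_eq_zero (Finset.mem_univ i)
    have h2 := sum_eq_add_sum_units (fun y => ψ i.succ y)
    rw [MulChar.map_zero, zero_add] at h2
    rw [← h2]
    exact MulChar.sum_eq_zero_of_ne_one hi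
  rw [hzero, sub_zero, ← Finset.sum_filter, Finset.mul_sum]
  refine Finset.sum_congr ?_ (fun _ _ => rfl)
  ext w
  simp only [Finset.mem_filter, Finset.mem_univ, true_and]
  constructor <;> intro h <;> linear_combination h

theorem main (F : Type) [Field F] [Fintype F] [DecidableEq F] (R : Type) [CommRing R] [IsDomain R]
    (N : ℕ) (hN : 1 ≤ N) (χ : Fin (N + 1) → MulChar F R) (hprod : ∏ i, χ i = 1)
    (hnt : ∃ i, χ i ≠ 1)
    (Ψ : AddChar F R) (hΨ : Ψ ≠ 1) :
    (Fintype.card F : R) * ((-1) ^ (N - 1) *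
        ∑ x ∈ (Finset.univ : Finset (Fin N → Fˣ)).filter (fun x => ∑ i, ((x i : Fˣ) : F) = -1),
          ∏ i : Fin N, (χ i.succ)⁻¹ ((x i : Fˣ) : F)) =
      ∏ i : Fin (N + 1), (-(∑ y : F, Ψ y * (χ i)⁻¹ y)) := by
  obtain ⟨M, rfl⟩ : ∃ M, N = M + 1 := ⟨N - 1, by omega⟩
  have hprodψ : ∏ i, (χ i)⁻¹ = 1 := by rw [Finset.prod_inv_distrib, hprod, inv_one]
  have hntψ : ∃ i : Fin (M + 1), (χ i.succ)⁻¹ ≠ 1 := by
    by_contra hcon
    push_neg at hcon
    have h0 : (χ 0)⁻¹ = 1 := by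
      have h5 := hprodψ
      rw [Fin.prod_univ_succ] at h5
      simpa [hcon] using h5
    obtain ⟨i, hi⟩ := hnt
    apply hi
    have h6 : (χ i)⁻¹ = 1 := by
      refine Fin.cases h0 (fun j => hcon j) i
    exact inv_eq_one.mp h6
  have hcore := core (M + 1) (fun i => (χ i)⁻¹) hprodψ hntψ Ψ hΨ
  have hneg : ∏ i : Fin (M + 1 + 1), (-(∑ y : F, Ψ y * (χ i)⁻¹ y)) =
      (-1) ^ (M + 1 + 1) * ∏ i : Fin (M + 1 + 1), ∑ y : F, Ψ y * (χ i)⁻¹ y := by
    rw [Finset.prod_congr rfl (fun i _ => (neg_one_mul (∑ y : F, Ψ y * (χ i)⁻¹ y)).symm),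
      Finset.prod_mul_distrib, Finset.prod_const, Finset.card_univ, Fintype.card_fin]
  rw [hneg, hcore, Nat.add_sub_cancel]
  have h7 : (-1 : R) ^ (M + 1 + 1) = (-1) ^ M := by
    rw [pow_succ, pow_succ]; ring
  rw [h7]; ring

end Groth.Agent.Lib.GaussJacobi
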