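import Mathlib

namespace Groth.Agent.Lib.GcdPrimes

open Finset

theorem val_pow_mul {p k m : ℕ} [hp : Fact p.Prime] (hm : ¬ p ∣ m) :
    padicValNat p (p ^ k * m) = k := by
  have hm0 : m ≠ 0 := by rintro rfl; exact hm (dvd_zero _)
  rw [padicValNat.mul (pow_ne_zero _ hp.out.ne_zero) hm0, padicValNat.prime_pow,
    padicValNat.eq_zero_of_not_dvd hm, add_zero]

theorem val_prod (q : ℕ) [Fact q.Prime] {α : Type*} (T : Finset α) (f : α → ℕ)
    (hf : ∀ a ∈ T, f a ≠ 0) :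
    padicValNat q (∏ a ∈ T, f a) = ∑ a ∈ T, padicValNat q (f a) := by
  classical
  induction T using Finset.induction_on with
  | empty => simp
  | insert a T ha ih =>
    rw [Finset.prod_insert ha, Finset.sum_insert ha,
      padicValNat.mul (hf a (Finset.mem_insert_self _ _))
        (Finset.prod_ne_zero_iff.mpr fun b hb => hf b (Finset.mem_insert_of_mem hb)),
      ih fun b hb => hf b (Finset.mem_insert_of_mem hb)]

theorem val_factorial (q : ℕ) [Fact q.Prime] :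
    ∀ n : ℕ, padicValNat q n.factorial = ∑ i ∈ Icc 1 n, padicValNat q i
  | 0 => by simp
  | n + 1 => by
    rw [Nat.factorial_succ, padicValNat.mul (by omega) (Nat.factorial_ne_zero n),
      val_factorial q n, Finset.sum_Icc_succ_top (by omega), add_comm]

theorem val_two_mul (a : ℕ) (ha : a ≠ 0) : padicValNat 2 (2 * a) = 1 + padicValNat 2 a := by
  rw [padicValNat.mul two_ne_zero ha, padicValNat_self]

theorem val_prod_prime_pow (q : ℕ) [hq : Fact q.Prime] (S : Finset ℕ)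
    (hS : ∀ p ∈ S, p.Prime) (e : ℕ → ℕ) :
    padicValNat q (∏ p ∈ S, p ^ e p) = if q ∈ S then e q else 0 := by
  classical
  have aux : ∀ T : Finset ℕ, (∀ p ∈ T, p.Prime) → q ∉ T → ¬ q ∣ ∏ p ∈ T, p ^ e p := by
    intro T hT hqT hdvd
    obtain ⟨p, hp, hpd⟩ := (Prime.dvd_finset_prod_iff hq.out.prime _).mp hdvd
    have : q = p :=
      (Nat.prime_dvd_prime_iff_eq hq.out (hT p hp)).mp (hq.out.dvd_of_dvd_pow hpd)
    exact hqT (this ▸ hp)
  by_cases h : q ∈ S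
  · rw [if_pos h, ← Finset.mul_prod_erase S _ h]
    exact val_pow_mul (aux (S.erase q) (fun p hp => hS p (Finset.mem_of_mem_erase hp))
      (Finset.notMem_erase q S))
  · rw [if_neg h]
    exact padicValNat.eq_zero_of_not_dvd (aux S hS h)

def S (g : ℕ) : Finset ℕ := (Icc 3 (2 * g + 1)).filter Nat.Prime
def e (g p : ℕ) : ℕ :=
  (2 * g) / (p - 1) + ∑ i ∈ Icc 1 ((2 * g) / (p - 1)), padicValNat p i
def M (g : ℕ) : ℕ := 2 ^ (3 * g + padicValNat 2 g.factorial) * ∏ p ∈ S g, p ^ e g p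
def N (g ℓ : ℕ) : ℕ := ∏ a ∈ Icc 1 g, (ℓ ^ (2 * a) - 1)
def E (g q : ℕ) : ℕ :=
  (if q = 2 then 3 * g + padicValNat 2 g.factorial else 0) + (if q ∈ S g then e g q else 0)

theorem S_prime {g p : ℕ} (hp : p ∈ S g) : p.Prime := (Finset.mem_filter.mp hp).2
theorem S_ge {g p : ℕ} (hp : p ∈ S g) : 3 ≤ p :=
  (Finset.mem_Icc.mp (Finset.mem_filter.mp hp).1).1
theorem S_le {g p : ℕ} (hp : p ∈ S g) : p ≤ 2 * g + 1 :=
  (Finset.mem_Icc.mp (Finset.mem_filter.mp hp).1).2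
theorem mem_S {g p : ℕ} (hp : p.Prime) (h3 : 3 ≤ p) (hle : p ≤ 2 * g + 1) : p ∈ S g :=
  Finset.mem_filter.mpr ⟨Finset.mem_Icc.mpr ⟨h3, hle⟩, hp⟩

theorem prodS_ne_zero (g : ℕ) : ∏ p ∈ S g, p ^ e g p ≠ 0 :=
  Finset.prod_ne_zero_iff.mpr fun p hp => pow_ne_zero _ (S_prime hp).ne_zero

theorem M_ne_zero (g : ℕ) : M g ≠ 0 :=
  mul_ne_zero (pow_ne_zero _ two_ne_zero) (prodS_ne_zero g)

theorem val_M (g q : ℕ) [hq : Fact q.Prime] : padicValNat q (M g) = E g q := by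
  unfold M E
  rw [padicValNat.mul (pow_ne_zero _ two_ne_zero) (prodS_ne_zero g),
    val_prod_prime_pow q (S g) (fun p hp => S_prime hp)]
  congr 1
  by_cases h2 : q = 2
  · subst h2; rw [if_pos rfl, padicValNat.prime_pow]
  · rw [if_neg h2]
    apply padicValNat.eq_zero_of_not_dvd
    intro hdvd
    exact h2 ((Nat.prime_dvd_prime_iff_eq hq.out Nat.prime_two).mp
      (hq.out.dvd_of_dvd_pow hdvd))

theorem factor_ne_zero {ℓ a : ℕ} (hℓ : 2 ≤ ℓ) (ha : 1 ≤ a) : ℓ ^ (2 * a) - 1 ≠ 0 := by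
  have : 1 < ℓ ^ (2 * a) := Nat.one_lt_pow (by omega) (by omega)
  omega

theorem N_ne_zero {g ℓ : ℕ} (hℓ : 2 ≤ ℓ) : N g ℓ ≠ 0 :=
  Finset.prod_ne_zero_iff.mpr fun a ha => factor_ne_zero hℓ (Finset.mem_Icc.mp ha).1

theorem val_N (q : ℕ) [Fact q.Prime] {g ℓ : ℕ} (hℓ : 2 ≤ ℓ) :
    padicValNat q (N g ℓ) = ∑ a ∈ Icc 1 g, padicValNat q (ℓ ^ (2 * a) - 1) :=
  val_prod q _ _ fun a ha => factor_ne_zero hℓ (Finset.mem_Icc.mp ha).1

theorem sum_c (q h : ℕ) (hh : 0 < h) : ∀ g : ℕ,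
    ∑ a ∈ Icc 1 g, (if h ∣ a then 1 + padicValNat q (a / h) else 0) =
      g / h + ∑ i ∈ Icc 1 (g / h), padicValNat q i := by
  intro g
  induction g with
  | zero => simp
  | succ g ih =>
    rw [Finset.sum_Icc_succ_top (by omega : 1 ≤ g + 1), ih]
    by_cases hd : h ∣ g + 1
    · have e1 : (g + 1) / h = g / h + 1 := Nat.succ_div_of_dvd hd
      rw [if_pos hd, e1, Finset.sum_Icc_succ_top (Nat.le_add_left 1 (g / h))]; ring
    · have e1 : (g + 1) / h = g / h := Nat.succ_div_of_not_dvd hd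
      rw [if_neg hd, e1, add_zero]

theorem sum_two (g : ℕ) : 3 * g + ∑ i ∈ Icc 1 g, padicValNat 2 i =
    ∑ a ∈ Icc 1 g, (padicValNat 2 a + 3) := by
  rw [Finset.sum_add_distrib, Finset.sum_const, Nat.card_Icc]
  simp only [smul_eq_mul, Nat.add_sub_cancel]; ring

theorem fermat_dvd {q ℓ : ℕ} (hq : q.Prime) (hqℓ : ¬ q ∣ ℓ) (hℓ : 0 < ℓ) :
    q ∣ ℓ ^ (q - 1) - 1 := by
  have hcop : Nat.Coprime ℓ q := ((Nat.Prime.coprime_iff_not_dvd hq).mpr hqℓ).symm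
  have h := Nat.ModEq.pow_totient hcop
  rw [Nat.totient_prime hq] at h
  exact (Nat.modEq_iff_dvd' (Nat.one_le_pow _ _ hℓ)).mp h.symm

theorem lte_odd {q ℓ h i : ℕ} [hq : Fact q.Prime] (hodd : Odd q) (hqh : q - 1 = 2 * h)
    (hqℓ : ¬ q ∣ ℓ) (hℓ : 1 < ℓ) (hi : i ≠ 0) :
    padicValNat q (ℓ ^ (2 * (h * i)) - 1) =
      padicValNat q (ℓ ^ (q - 1) - 1) + padicValNat q i := by
  have hq2 : 2 ≤ q := hq.out.two_le
  have hx1 : 1 < ℓ ^ (q - 1) := Nat.one_lt_pow (by omega) hℓ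
  have hdvd : q ∣ ℓ ^ (q - 1) - 1 := fermat_dvd hq.out hqℓ (by omega)
  have hqx : ¬ q ∣ ℓ ^ (q - 1) := fun hh => hqℓ (hq.out.dvd_of_dvd_pow hh)
  have hLTE := padicValNat.pow_sub_pow (p := q) hodd (x := ℓ ^ (q - 1)) (y := 1) hx1 hdvd hqx
    (n := i) hi
  rw [one_pow] at hLTE
  have hpow : ℓ ^ (2 * (h * i)) = (ℓ ^ (q - 1)) ^ i := by
    rw [← pow_mul, hqh]; congr 1; ring
  rw [hpow]; exact hLTE

theorem fermat_val_ge {q ℓ : ℕ} [hq : Fact q.Prime] (hqℓ : ¬ q ∣ ℓ) (hℓ : 1 < ℓ) :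
    1 ≤ padicValNat q (ℓ ^ (q - 1) - 1) := by
  have hq2 : 2 ≤ q := hq.out.two_le
  have hx1 : 1 < ℓ ^ (q - 1) := Nat.one_lt_pow (by omega) hℓ
  exact one_le_padicValNat_of_dvd (by omega) (fermat_dvd hq.out hqℓ (by omega))

theorem lower (g B : ℕ) (hB : 2 * g + 1 ≤ B) (ℓ : ℕ) (hℓ : ℓ.Prime) (hBℓ : B < ℓ)
    (q : ℕ) [hq : Fact q.Prime] : E g q ≤ padicValNat q (N g ℓ) := by
  have hℓ2 : 2 ≤ ℓ := hℓ.two_le
  rw [val_N q hℓ2]
  by_cases h2 : q = 2
  · subst h2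
    have hnotS : (2 : ℕ) ∉ S g := fun h => by have := S_ge h; omega
    unfold E
    rw [if_pos rfl, if_neg hnotS, add_zero, val_factorial, sum_two]
    refine Finset.sum_le_sum fun a ha => ?_
    have ha1 := (Finset.mem_Icc.mp ha).1
    have hag := (Finset.mem_Icc.mp ha).2
    have hodd : ¬ 2 ∣ ℓ := by
      intro hd
      have := (Nat.prime_dvd_prime_iff_eq Nat.prime_two hℓ).mp hd
      omega
    have h1 := padicValNat.pow_two_sub_one_ge (x := ℓ) (n := 2 * a) (by omega) hodd (by omega)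
      (even_two_mul a)
    rw [val_two_mul a (by omega)] at h1
    omega
  · have hqodd : Odd q := hq.out.odd_of_ne_two h2
    unfold E
    rw [if_neg h2, zero_add]
    by_cases hS : q ∈ S g
    · rw [if_pos hS]
      obtain ⟨h, hh⟩ := hqodd
      have hq3 := S_ge hS
      have hqle := S_le hS
      have hh0 : 0 < h := by omega
      have hqh : q - 1 = 2 * h := by omega
      have hdiv : 2 * g / (q - 1) = g / h := by
        rw [hqh, Nat.mul_div_mul_left _ _ (by norm_num : 0 < 2)]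
      unfold e
      rw [hdiv, ← sum_c q h hh0 g]
      refine Finset.sum_le_sum fun a ha => ?_
      have ha1 := (Finset.mem_Icc.mp ha).1
      split_ifs with hd
      · obtain ⟨i, rfl⟩ := hd
        have hi : i ≠ 0 := by rintro rfl; simp at ha1
        rw [Nat.mul_div_cancel_left _ hh0]
        have hqℓ : ¬ q ∣ ℓ := by
          intro hd
          have := (Nat.prime_dvd_prime_iff_eq hq.out hℓ).mp hd
          omega
        rw [lte_odd ⟨h, hh⟩ hqh hqℓ (by omega) hi]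
        have := fermat_val_ge (q := q) hqℓ (by omega : 1 < ℓ)
        omega
      · exact Nat.zero_le _
    · rw [if_neg hS]; exact Nat.zero_le _

theorem two_exact {ℓ a : ℕ} (hm : ℓ % 8 = 3) (ha : 1 ≤ a) :
    padicValNat 2 (ℓ ^ (2 * a) - 1) = padicValNat 2 a + 3 := by
  have h := padicValNat.pow_two_sub_one (x := ℓ) (n := 2 * a) (by omega) (by omega) (by omega)
    (even_two_mul a)
  have e1 : padicValNat 2 (ℓ + 1) = 2 := by
    have h1 : ℓ + 1 = 4 * (2 * (ℓ / 8) + 1) := by omega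
    rw [h1, padicValNat.mul (by norm_num) (by omega), show (4 : ℕ) = 2 ^ 2 by norm_num,
      padicValNat.prime_pow, padicValNat.eq_zero_of_not_dvd (by omega)]
  have e2 : padicValNat 2 (ℓ - 1) = 1 := by
    have h1 : ℓ - 1 = 2 * (4 * (ℓ / 8) + 1) := by omega
    rw [h1, padicValNat.mul two_ne_zero (by omega), padicValNat_self,
      padicValNat.eq_zero_of_not_dvd (by omega)]
  rw [val_two_mul a (by omega)] at h
  omega

theorem upper_two (g B : ℕ) :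
    ∃ ℓ : ℕ, ℓ.Prime ∧ B < ℓ ∧ padicValNat 2 (N g ℓ) ≤ E g 2 := by
  obtain ⟨ℓ, hBℓ, hℓ, hmod⟩ := Nat.forall_exists_prime_gt_and_modEq B (q := 8) (a := 3)
    (by norm_num) (by norm_num)
  refine ⟨ℓ, hℓ, hBℓ, ?_⟩
  have hm : ℓ % 8 = 3 := by
    have := hmod
    unfold Nat.ModEq at this
    omega
  rw [val_N 2 hℓ.two_le]
  have hnotS : (2 : ℕ) ∉ S g := fun h => by have := S_ge h; omega
  unfold E
  rw [if_pos rfl, if_neg hnotS, add_zero, val_factorial, sum_two]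
  refine Finset.sum_le_sum fun a ha => ?_
  have ha1 := (Finset.mem_Icc.mp ha).1
  exact le_of_eq (two_exact hm ha1)

theorem exists_special (q : ℕ) [hq : Fact q.Prime] (hq2 : q ≠ 2) (B : ℕ) :
    ∃ ℓ : ℕ, ℓ.Prime ∧ B < ℓ ∧ ¬ q ∣ ℓ ∧ (∀ k : ℕ, q ∣ ℓ ^ k - 1 → (q - 1) ∣ k) ∧
      padicValNat q (ℓ ^ (q - 1) - 1) = 1 := by
  have hq3 : 3 ≤ q := by have := hq.out.two_le; omega
  haveI : NeZero (q ^ 2) := ⟨pow_ne_zero _ hq.out.ne_zero⟩
  haveI : Fact (1 < q ^ 2) := ⟨Nat.one_lt_pow (by norm_num) (by omega)⟩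
  haveI := ZMod.isCyclic_units_of_prime_pow q hq.out hq2 2
  obtain ⟨γ, hγ⟩ := IsCyclic.exists_generator (α := (ZMod (q ^ 2))ˣ)
  have hord : orderOf γ = q * (q - 1) := by
    rw [orderOf_eq_card_of_forall_mem_zpowers hγ, Nat.card_eq_fintype_card,
      ZMod.card_units_eq_totient, Nat.totient_prime_pow hq.out (by norm_num : 0 < 2)]
    simp
  obtain ⟨ℓ, hBℓ, hℓ, hℓγ⟩ := Nat.forall_exists_prime_gt_and_eq_mod (q := q ^ 2)
    (a := (γ : ZMod (q ^ 2))) γ.isUnit B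
  have hℓpos : 0 < ℓ := hℓ.pos
  have key : ∀ k : ℕ, q ^ 2 ∣ ℓ ^ k - 1 ↔ q * (q - 1) ∣ k := by
    intro k
    rw [← hord, orderOf_dvd_iff_pow_eq_one, ← Nat.modEq_iff_dvd' (Nat.one_le_pow _ _ hℓpos),
      ← ZMod.natCast_eq_natCast_iff]
    push_cast
    rw [hℓγ, ← Units.val_pow_eq_pow_val]
    constructor
    · intro h; apply Units.ext; rw [Units.val_one]; exact h.symm
    · intro h; rw [h, Units.val_one]
  have h1 : ¬ q ∣ ℓ := by
    intro hdiv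
    have h0 : ((ℓ ^ 2 : ℕ) : ZMod (q ^ 2)) = 0 :=
      (ZMod.natCast_eq_zero_iff _ _).mpr (pow_dvd_pow_of_dvd hdiv 2)
    push_cast at h0
    rw [hℓγ] at h0
    exact ((γ.isUnit).pow 2).ne_zero h0
  have hX1 : 1 < ℓ ^ (q - 1) := Nat.one_lt_pow (by omega) hℓ.one_lt
  have hX0 : ℓ ^ (q - 1) - 1 ≠ 0 := by omega
  have h3 : padicValNat q (ℓ ^ (q - 1) - 1) = 1 := by
    have hge : 1 ≤ padicValNat q (ℓ ^ (q - 1) - 1) := fermat_val_ge h1 hℓ.one_lt
    have hlt : ¬ 2 ≤ padicValNat q (ℓ ^ (q - 1) - 1) := by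
      intro h2
      have hdvd := (padicValNat_dvd_iff_le hX0).mpr h2
      have h4 := (key (q - 1)).mp hdvd
      have hle := Nat.le_of_dvd (by omega) h4
      have : 2 * (q - 1) ≤ q * (q - 1) := Nat.mul_le_mul_right _ (by omega)
      omega
    omega
  have h2 : ∀ k : ℕ, q ∣ ℓ ^ k - 1 → (q - 1) ∣ k := by
    intro k hk
    have hz : (q : ℤ) ∣ (ℓ : ℤ) ^ k - 1 := by
      have := Int.natCast_dvd_natCast.mpr hk
      rwa [Nat.cast_sub (Nat.one_le_pow _ _ hℓpos), Nat.cast_pow, Nat.cast_one] at this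
    have h4 := dvd_sub_pow_of_dvd_sub hz 1
    have h5 : ((q ^ 2 : ℕ) : ℤ) ∣ ((ℓ ^ (k * q) - 1 : ℕ) : ℤ) := by
      rw [Nat.cast_sub (Nat.one_le_pow _ _ hℓpos)]
      push_cast
      simpa only [pow_one, one_pow, ← pow_mul, one_add_one_eq_two] using h4
    have h6 : q ^ 2 ∣ ℓ ^ (k * q) - 1 := Int.natCast_dvd_natCast.mp h5
    have h7 := (key _).mp h6
    rw [mul_comm k q] at h7
    exact (Nat.mul_dvd_mul_iff_left hq.out.pos).mp h7
  exact ⟨ℓ, hℓ, hBℓ, h1, h2, h3⟩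

theorem upper_odd (g B q : ℕ) [hq : Fact q.Prime] (hq2 : q ≠ 2) :
    ∃ ℓ : ℕ, ℓ.Prime ∧ B < ℓ ∧ padicValNat q (N g ℓ) ≤ E g q := by
  obtain ⟨ℓ, hℓ, hBℓ, h1, h2, h3⟩ := exists_special q hq2 B
  refine ⟨ℓ, hℓ, hBℓ, ?_⟩
  have hqodd : Odd q := hq.out.odd_of_ne_two hq2
  obtain ⟨h, hh⟩ := hqodd
  have hq3 : 3 ≤ q := by have := hq.out.two_le; omega
  have hh0 : 0 < h := by omega
  have hqh : q - 1 = 2 * h := by omega
  rw [val_N q hℓ.two_le]
  have hpt : ∀ a ∈ Icc 1 g, padicValNat q (ℓ ^ (2 * a) - 1) =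
      (if h ∣ a then 1 + padicValNat q (a / h) else 0) := by
    intro a ha
    have ha1 := (Finset.mem_Icc.mp ha).1
    split_ifs with hd
    · obtain ⟨i, rfl⟩ := hd
      have hi : i ≠ 0 := by rintro rfl; simp at ha1
      rw [Nat.mul_div_cancel_left _ hh0, lte_odd ⟨h, hh⟩ hqh h1 hℓ.one_lt hi, h3]
    · apply padicValNat.eq_zero_of_not_dvd
      intro hdvd
      have h4 := h2 _ hdvd
      rw [hqh] at h4
      exact hd ((Nat.mul_dvd_mul_iff_left (by norm_num : 0 < 2)).mp h4)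
  rw [Finset.sum_congr rfl hpt, sum_c q h hh0 g]
  unfold E
  rw [if_neg hq2, zero_add]
  by_cases hS : q ∈ S g
  · rw [if_pos hS]; unfold e
    have hdiv : 2 * g / (q - 1) = g / h := by
      rw [hqh, Nat.mul_div_mul_left _ _ (by norm_num : 0 < 2)]
    rw [hdiv]
  · rw [if_neg hS]
    have hgt : 2 * g + 1 < q := by
      by_contra hle
      exact hS (mem_S hq.out hq3 (by omega))
    have h5 : g / h = 0 := Nat.div_eq_of_lt (by omega)
    rw [h5]; simp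

theorem main (g B d : ℕ) (hB : 2 * g + 1 ≤ B) :
    (∀ ℓ : ℕ, ℓ.Prime → B < ℓ → d ∣ ∏ a ∈ Icc 1 g, (ℓ ^ (2 * a) - 1)) ↔
      d ∣ 2 ^ (3 * g + padicValNat 2 g.factorial) *
        ∏ p ∈ (Icc 3 (2 * g + 1)).filter Nat.Prime,
          p ^ ((2 * g) / (p - 1) + ∑ i ∈ Icc 1 ((2 * g) / (p - 1)), padicValNat p i) := by
  change (∀ ℓ : ℕ, ℓ.Prime → B < ℓ → d ∣ N g ℓ) ↔ d ∣ M g
  constructor
  · intro hall
    obtain ⟨ℓ0, hℓ0B, hℓ0⟩ := Nat.exists_infinite_primes (B + 1)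
    have hd0 : d ≠ 0 :=
      ne_zero_of_dvd_ne_zero (N_ne_zero hℓ0.two_le) (hall ℓ0 hℓ0 (by omega))
    rw [← Nat.factorization_prime_le_iff_dvd hd0 (M_ne_zero g)]
    intro q hq
    haveI : Fact q.Prime := ⟨hq⟩
    obtain ⟨ℓ, hℓ, hBℓ, hle⟩ :
        ∃ ℓ : ℕ, ℓ.Prime ∧ B < ℓ ∧ padicValNat q (N g ℓ) ≤ E g q := by
      by_cases h2 : q = 2
      · subst h2; exact upper_two g B
      · exact upper_odd g B q h2
    have h1 := (Nat.factorization_le_iff_dvd hd0 (N_ne_zero hℓ.two_le)).mpr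
      (hall ℓ hℓ hBℓ) q
    rw [Nat.factorization_def _ hq, Nat.factorization_def _ hq] at h1
    rw [Nat.factorization_def _ hq, Nat.factorization_def _ hq, val_M]
    exact h1.trans hle
  · intro hdM ℓ hℓ hBℓ
    refine dvd_trans hdM ?_
    rw [← Nat.factorization_prime_le_iff_dvd (M_ne_zero g) (N_ne_zero hℓ.two_le)]
    intro q hq
    haveI : Fact q.Prime := ⟨hq⟩
    rw [Nat.factorization_def _ hq, Nat.factorization_def _ hq, val_M]
    exact lower g B hB ℓ hℓ hBℓ q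

end Groth.Agent.Lib.GcdPrimes
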