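import Groth.Statements.S5363
import Groth.Agent.Lib.WeilRes2_helper4

/-! # The closed subgroup generated by a rational point is commutative (lead) -/

set_option linter.unusedSimpArgs false
set_option linter.unusedVariables false
set_option linter.unusedSectionVars false
set_option linter.style.longLine false
set_option linter.style.haveILetI false
set_option maxHeartbeats 800000

universe u

open CategoryTheory CategoryTheory.Limits MonoidalCategory CartesianMonoidalCategory MonObj GrpObj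
  AlgebraicGeometry Opposite Topology

namespace Groth.Agent.Lib.GenByPoint

open Groth.Agent.Lib.WeilRes2H4 Groth.Agent.Lib.WeilResH4

variable {k : Type u} [Field k]

section

variable {G Γ : Over (Spec (CommRingCat.of k))} [GrpObj G] [GrpObj Γ]
  (g : 𝟙_ (Over (Spec (CommRingCat.of k))) ⟶ G)
  (i : Γ ⟶ G) [IsMonHom i] [IsClosedImmersion i.left]
  (g' : 𝟙_ (Over (Spec (CommRingCat.of k))) ⟶ Γ) (hg' : g' ≫ i = g)
  (hmin : ∀ (Γ' : Over (Spec (CommRingCat.of k))) (_ : GrpObj Γ') (i' : Γ' ⟶ G), IsMonHom i' →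
    IsClosedImmersion i'.left →
    (∃ f'' : 𝟙_ (Over (Spec (CommRingCat.of k))) ⟶ Γ', f'' ≫ i' = g) → ∃ j : Γ ⟶ Γ', j ≫ i' = i)

include hg' hmin in
theorem centralizes_all {X₀ : Over (Spec (CommRingCat.of k))} (u : X₀ ⟶ Γ)
    (hg : ∀ (S'' : Over (Spec (CommRingCat.of k)))
      (s : S'' ⟶ 𝟙_ (Over (Spec (CommRingCat.of k)))) (y : S'' ⟶ X₀),
      (s ≫ g') * (y ≫ u) * (s ≫ g')⁻¹ = y ≫ u) :
    ∀ (X : Over (Spec (CommRingCat.of k))) (x : X ⟶ Γ) (y : X ⟶ X₀),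
      x * (y ≫ u) * x⁻¹ = y ≫ u := by
  obtain ⟨T, t, ht, hrep⟩ := main5357 Γ X₀ u u
  haveI := ht
  haveI : Mono t.left := inferInstance
  haveI : Mono t := Over.mono_of_mono_left t
  have p1 : ∀ X : Over (Spec (CommRingCat.of k)),
      ∀ (S'' : Over (Spec (CommRingCat.of k))) (s : S'' ⟶ X) (y : S'' ⟶ X₀),
      (s ≫ (1 : X ⟶ Γ)) * (y ≫ u) * (s ≫ (1 : X ⟶ Γ))⁻¹ = y ≫ u := by
    intro X S'' s y
    rw [MonObj.comp_one]; group
  have pm : ∀ (X : Over (Spec (CommRingCat.of k))) (x₁ x₂ : X ⟶ Γ),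
      (∀ (S'' : Over (Spec (CommRingCat.of k))) (s : S'' ⟶ X) (y : S'' ⟶ X₀),
        (s ≫ x₁) * (y ≫ u) * (s ≫ x₁)⁻¹ = y ≫ u) →
      (∀ (S'' : Over (Spec (CommRingCat.of k))) (s : S'' ⟶ X) (y : S'' ⟶ X₀),
        (s ≫ x₂) * (y ≫ u) * (s ≫ x₂)⁻¹ = y ≫ u) →
      ∀ (S'' : Over (Spec (CommRingCat.of k))) (s : S'' ⟶ X) (y : S'' ⟶ X₀),
        (s ≫ (x₁ * x₂)) * (y ≫ u) * (s ≫ (x₁ * x₂))⁻¹ = y ≫ u := by
    intro X x₁ x₂ h₁ h₂ S'' s y
    have ha := h₁ S'' s y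
    have hb := h₂ S'' s y
    rw [MonObj.comp_mul]
    calc (s ≫ x₁) * (s ≫ x₂) * (y ≫ u) * ((s ≫ x₁) * (s ≫ x₂))⁻¹
        = (s ≫ x₁) * ((s ≫ x₂) * (y ≫ u) * (s ≫ x₂)⁻¹) * (s ≫ x₁)⁻¹ := by group
      _ = y ≫ u := by rw [hb, ha]
  have pi : ∀ (X : Over (Spec (CommRingCat.of k))) (x : X ⟶ Γ),
      (∀ (S'' : Over (Spec (CommRingCat.of k))) (s : S'' ⟶ X) (y : S'' ⟶ X₀),
        (s ≫ x) * (y ≫ u) * (s ≫ x)⁻¹ = y ≫ u) →
      ∀ (S'' : Over (Spec (CommRingCat.of k))) (s : S'' ⟶ X) (y : S'' ⟶ X₀),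
        (s ≫ x⁻¹) * (y ≫ u) * (s ≫ x⁻¹)⁻¹ = y ≫ u := by
    intro X x h S'' s y
    have ha := h S'' s y
    rw [GrpObj.comp_inv, _root_.inv_inv]
    calc (s ≫ x)⁻¹ * (y ≫ u) * (s ≫ x)
        = (s ≫ x)⁻¹ * ((s ≫ x) * (y ≫ u) * (s ≫ x)⁻¹) * (s ≫ x) := by rw [ha]
      _ = y ≫ u := by group
  obtain ⟨inst, hmon⟩ := subgroup_of_rep Γ T t
    (fun X x => ∀ (S'' : Over (Spec (CommRingCat.of k))) (s : S'' ⟶ X) (y : S'' ⟶ X₀),
      (s ≫ x) * (y ≫ u) * (s ≫ x)⁻¹ = y ≫ u) hrep p1 pm pi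
  letI := inst
  haveI := hmon
  obtain ⟨z, hz⟩ := (hrep _ g').2 hg
  haveI hcl : IsClosedImmersion (t ≫ i).left := by
    rw [Over.comp_left]; infer_instance
  obtain ⟨j, hj⟩ := hmin T inst (t ≫ i) inferInstance hcl
    ⟨z, by rw [← Category.assoc, hz, hg']⟩
  haveI : Mono i.left := inferInstance
  haveI : Mono i := Over.mono_of_mono_left i
  have hjt : j ≫ t = 𝟙 Γ := by
    rw [← cancel_mono i, Category.assoc, hj, Category.id_comp]
  intro X x y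
  have h1 := (hrep X x).1 ⟨x ≫ j, by rw [Category.assoc, hjt, Category.comp_id]⟩ X (𝟙 X) y
  rwa [Category.id_comp] at h1

include hg' hmin in
theorem comm_pts (X : Over (Spec (CommRingCat.of k))) (x y : X ⟶ Γ) : x * y * x⁻¹ = y := by
  have hA := centralizes_all g i g' hg' hmin g' (by
    intro S'' s y
    rw [toUnit_unique s y, _root_.mul_inv_cancel_right])
  have hB := centralizes_all g i g' hg' hmin (𝟙 Γ) (by
    intro S'' s y
    have h := hA S'' y s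
    rw [Category.comp_id]
    calc (s ≫ g') * y * (s ≫ g')⁻¹
        = (y * (s ≫ g') * y⁻¹) * y * (s ≫ g')⁻¹ := by rw [h]
      _ = y := by group)
  have h := hB X x y
  rwa [Category.comp_id] at h

include hg' hmin in
theorem comm : IsCommMonObj Γ := by
  refine ⟨?_⟩
  have hβ : (β_ Γ Γ).hom = lift (snd Γ Γ) (fst Γ Γ) := by
    apply CartesianMonoidalCategory.hom_ext <;> simp
  have h1 : μ[Γ] = fst Γ Γ * snd Γ Γ := by rw [Hom.mul_def, lift_fst_snd, Category.id_comp]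
  have h2 := comm_pts g i g' hg' hmin _ (snd Γ Γ) (fst Γ Γ)
  rw [hβ, ← Hom.mul_def, h1]
  exact mul_inv_eq_iff_eq_mul.1 h2

end

theorem main (k : Type u) [Field k] (G : Over (Spec (CommRingCat.of k))) [GrpObj G]
    (g : 𝟙_ (Over (Spec (CommRingCat.of k))) ⟶ G) (Γ : Over (Spec (CommRingCat.of k))) [GrpObj Γ] (i : Γ ⟶ G) [IsMonHom i] [IsClosedImmersion i.left]
    (hf : ∃ f' : 𝟙_ (Over (Spec (CommRingCat.of k))) ⟶ Γ, f' ≫ i = g)
    (hmin : ∀ (Γ' : Over (Spec (CommRingCat.of k))) (_ : GrpObj Γ') (i' : Γ' ⟶ G), IsMonHom i' → IsClosedImmersion i'.left →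
        (∃ f'' : 𝟙_ (Over (Spec (CommRingCat.of k))) ⟶ Γ', f'' ≫ i' = g) → ∃ j : Γ ⟶ Γ', j ≫ i' = i) :
    IsCommMonObj Γ := by
  obtain ⟨g', hg'⟩ := hf
  exact comm g i g' hg' hmin

end Groth.Agent.Lib.GenByPoint
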