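import Mathlib
import Groth.Prelude.Def_FlatMod2
import Groth.Agent.Lib.EpiLoc_helper9

set_option autoImplicit false
set_option linter.unusedSimpArgs false
set_option linter.unusedVariables false
set_option linter.unusedSectionVars false
set_option linter.style.longLine false
set_option linter.unnecessarySimpa false
set_option linter.deprecated false
set_option linter.style.haveILetI false
set_option maxHeartbeats 1600000
set_option backward.isDefEq.respectTransparency false
set_option backward.isDefEq.respectTransparency.types false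
set_option backward.defeqAttrib.useBackward true

universe u

noncomputable section

namespace Groth.Agent.Lib.GenCovL

open CategoryTheory CategoryTheory.Limits Opposite AlgebraicGeometry TopologicalSpace

section General

variable {X : Scheme.{u}}

/-- `1` as a section of the structure module. -/
def one (V : X.Opens) : Γ(Coh.structureModule X, V) := (1 : Γ(X, V))

lemma one_map {V W : X.Opens} (h : V ≤ W) :
    (Coh.structureModule X).presheaf.map (homOfLE h).op (one W) = one V :=
  map_one (X.presheaf.map (homOfLE h).op).hom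

lemma smul_one_eq {V : X.Opens} (c : Γ(Coh.structureModule X, V)) :
    (show Γ(X, V) from c) • one V = c := mul_one (show Γ(X, V) from c)

lemma app_map {A B : X.Modules} (φ : A ⟶ B) {V W : X.Opens} (h : V ≤ W) (s : Γ(A, W)) :
    φ.app V (A.presheaf.map (homOfLE h).op s) = B.presheaf.map (homOfLE h).op (φ.app W s) :=
  ConcreteCategory.congr_hom (φ.mapPresheaf.naturality (homOfLE h).op) s

lemma sum_app {A B : X.Modules} {J : Type} (s : Finset J) (g : J → (A ⟶ B)) (V : X.Opens)
    (z : Γ(A, V)) :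
    (∑ j ∈ s, g j).app V z = ∑ j ∈ s, (g j).app V z := by
  classical
  induction s using Finset.induction_on with
  | empty => rw [Finset.sum_empty, Finset.sum_empty]; rfl
  | insert j s hj ih => rw [Finset.sum_insert hj, Finset.sum_insert hj, ← ih]; rfl

variable (X) in
/-- Projection of the free module onto a factor. -/
def pr (n : ℕ) (j : Fin n) : FlatMod.freeMod X n ⟶ Coh.structureModule X :=
  Sigma.desc (f := fun _ : Fin n => Coh.structureModule X) (fun k => if k = j then 𝟙 _ else 0)

lemma total (n : ℕ) :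
    ∑ j : Fin n, pr X n j ≫ Sigma.ι (fun _ : Fin n => Coh.structureModule X) j =
      𝟙 (FlatMod.freeMod X n) := by
  apply Sigma.hom_ext
  intro k
  rw [Preadditive.comp_sum, Category.comp_id, Finset.sum_eq_single k]
  · rw [← Category.assoc]
    have : Sigma.ι (fun _ : Fin n => Coh.structureModule X) k ≫ pr X n k = 𝟙 _ := by
      simp [pr]
    rw [this, Category.id_comp]
  · intro j _ hjk
    rw [← Category.assoc]
    have : Sigma.ι (fun _ : Fin n => Coh.structureModule X) k ≫ pr X n j = 0 := by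
      simp [pr, Ne.symm hjk]
    rw [this, zero_comp]
  · intro h; exact absurd (Finset.mem_univ k) h

lemma decomp (n : ℕ) {F : X.Modules} (φ : FlatMod.freeMod X n ⟶ F) (V : X.Opens)
    (z : Γ(FlatMod.freeMod X n, V)) :
    ∃ c : Fin n → Γ(X, V), φ.app V z =
      ∑ j, c j • (Sigma.ι (fun _ : Fin n => Coh.structureModule X) j ≫ φ).app V (one V) := by
  refine ⟨fun j => (show Γ(X, V) from (pr X n j).app V z), ?_⟩
  have h1 : (∑ j, pr X n j ≫ (Sigma.ι (fun _ : Fin n => Coh.structureModule X) j ≫ φ)) = φ := by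
    have : (∑ j, pr X n j ≫ Sigma.ι (fun _ : Fin n => Coh.structureModule X) j) ≫ φ = φ := by
      rw [total, Category.id_comp]
    rw [Preadditive.sum_comp] at this
    simpa only [Category.assoc] using this
  calc φ.app V z
      = (∑ j, pr X n j ≫ (Sigma.ι (fun _ : Fin n => Coh.structureModule X) j ≫ φ)).app V z := by
        rw [h1]
    _ = ∑ j, (pr X n j ≫ (Sigma.ι (fun _ : Fin n => Coh.structureModule X) j ≫ φ)).app V z :=
        sum_app _ _ V z
    _ = _ := by
        refine Finset.sum_congr rfl fun j _ => ?_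
        show (Sigma.ι (fun _ : Fin n => Coh.structureModule X) j ≫ φ).app V ((pr X n j).app V z) = _
        rw [← Scheme.Modules.Hom.app_smul, smul_one_eq]

end General

section Alg

lemma inv_smul {R M : Type*} [CommRing R] [AddCommGroup M] [Module R M] (S : Submonoid R) (r : R)
    (hr : r ∈ S) (w : LocalizedModule S M) :
    (Localization.mk 1 ⟨r, hr⟩ : Localization S) • (r • w) = w := by
  induction w using LocalizedModule.induction_on with
  | h m s =>
    rw [LocalizedModule.smul'_mk, LocalizedModule.mk_smul_mk, one_smul]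
    exact LocalizedModule.mk_cancel_common_left ⟨r, hr⟩ s m

end Alg

section Spec

variable {R : CommRingCat.{u}} (M : ModuleCat.{u} R)

/-- Value of a section of `tilde M` at a point. -/
def ev (W : Opens (PrimeSpectrum.Top R)) (x : PrimeSpectrum.Top R) (hx : x ∈ W)
    (σ : Γ(tilde M, W)) : LocalizedModule x.asIdeal.primeCompl M :=
  (show (structureSheafInType R M).obj.obj (op W) from σ).1 ⟨x, hx⟩

lemma ev_map {W V : Opens (PrimeSpectrum.Top R)} (h : V ≤ W) (x : PrimeSpectrum.Top R)
    (hx : x ∈ V) (σ : Γ(tilde M, W)) :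
    ev M V x hx ((tilde M).presheaf.map (homOfLE h).op σ) = ev M W x (h hx) σ := rfl

lemma ev_add (W : Opens (PrimeSpectrum.Top R)) (x : PrimeSpectrum.Top R) (hx : x ∈ W)
    (σ τ : Γ(tilde M, W)) : ev M W x hx (σ + τ) = ev M W x hx σ + ev M W x hx τ := rfl

lemma ev_zero (W : Opens (PrimeSpectrum.Top R)) (x : PrimeSpectrum.Top R) (hx : x ∈ W) :
    ev M W x hx (0 : Γ(tilde M, W)) = 0 := rfl

lemma ev_smul (W : Opens (PrimeSpectrum.Top R)) (x : PrimeSpectrum.Top R) (hx : x ∈ W)
    (c : Γ(Spec R, W)) (σ : Γ(tilde M, W)) :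
    ∃ c' : Localization x.asIdeal.primeCompl, ev M W x hx (c • σ) = c' • ev M W x hx σ :=
  ⟨(show (structureSheafInType R R).obj.obj (op W) from c).1 ⟨x, hx⟩, rfl⟩

lemma ev_smul_restrict (U : (Spec R).Opens) (V : (U : Scheme.{u}).Opens) (x : PrimeSpectrum.Top R)
    (hx : x ∈ U.ι ''ᵁ V) (c : Γ((U : Scheme.{u}), V)) (σ : Γ((tilde M).restrict U.ι, V)) :
    ∃ c' : Localization x.asIdeal.primeCompl,
      ev M (U.ι ''ᵁ V) x hx (c • σ) = c' • ev M (U.ι ''ᵁ V) x hx σ :=
  ev_smul M (U.ι ''ᵁ V) x hx ((U.ι.appIso V).inv c) σ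

theorem key (U : (Spec R).Opens) (n : ℕ)
    (φ : FlatMod.freeMod (↑U) n ⟶ (tilde M).restrict U.ι) [Epi φ] (f : R)
    (hf : PrimeSpectrum.basicOpen f ≤ U) :
    ∃ a : Fin n → M, ∀ (x : PrimeSpectrum.Top R), f ∉ x.asIdeal →
      ∀ (L : Submodule (Localization x.asIdeal.primeCompl)
        (LocalizedModule x.asIdeal.primeCompl M)),
        (∀ j, LocalizedModule.mk (a j) 1 ∈ L) → ∀ m : M, LocalizedModule.mk m 1 ∈ L := by
  classical
  have hle : PrimeSpectrum.basicOpen f ≤ U.ι ''ᵁ ⊤ := by
    rw [Scheme.Opens.ι_image_top]; exact hf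
  let σ : Fin n → Γ(tilde M, U.ι ''ᵁ ⊤) := fun j =>
    (Sigma.ι (fun _ : Fin n => Coh.structureModule (↑U : Scheme.{u})) j ≫ φ).app ⊤ (one ⊤)
  have hτ : ∀ j, ∃ (a : M) (g : Submonoid.powers f),
      g • (show (structureSheafInType R M).obj.obj
          (op (PrimeSpectrum.basicOpen f)) from
        (tilde M).presheaf.map (homOfLE hle).op (σ j)) =
        StructureSheaf.toOpenₗ R M (PrimeSpectrum.basicOpen f) a := by
    intro j
    obtain ⟨⟨a, g⟩, h⟩ := IsLocalizedModule.surj (Submonoid.powers f)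
      (StructureSheaf.toOpenₗ R M (PrimeSpectrum.basicOpen f))
      (show (structureSheafInType R M).obj.obj
          (op (PrimeSpectrum.basicOpen f)) from
        (tilde M).presheaf.map (homOfLE hle).op (σ j))
    exact ⟨a, g, h⟩
  choose a g hag using hτ
  refine ⟨a, fun x hx L hL m => ?_⟩
  have hxf : x ∈ PrimeSpectrum.basicOpen f := hx
  have hxU : x ∈ U := hf hxf
  -- each σ j value lies in L
  have hσ : ∀ j, ev M (U.ι ''ᵁ ⊤) x (hle hxf) (σ j) ∈ L := by
    intro j
    have h1 := congrArg (fun s => s.1 ⟨x, hxf⟩) (hag j)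
    have h2 : ((g j : R)) • ev M (U.ι ''ᵁ ⊤) x (hle hxf) (σ j) = LocalizedModule.mk (a j) 1 := by
      rw [StructureSheaf.toOpenₗ_eq_const] at h1
      exact h1
    have hg : (g j : R) ∈ x.asIdeal.primeCompl := by
      obtain ⟨k, hk⟩ := (g j).2
      show (g j : R) ∉ x.asIdeal
      rw [← hk]
      exact fun h => hx (x.isPrime.mem_of_pow_mem k h)
    rw [← inv_smul x.asIdeal.primeCompl (g j : R) hg (ev M (U.ι ''ᵁ ⊤) x (hle hxf) (σ j)), h2]
    exact L.smul_mem _ (hL j)
  -- the section `m/1`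
  let t : Γ(tilde M, U.ι ''ᵁ ⊤) :=
    (show (structureSheafInType R M).obj.obj (op (U.ι ''ᵁ ⊤)) from
      StructureSheaf.const m 1 (U.ι ''ᵁ ⊤) (by rw [PrimeSpectrum.basicOpen_one]; exact le_top))
  obtain ⟨V, hV, hxV, z, hz⟩ := EpiLoc.exists_local_lift φ (U := ⊤) t
    (x := (⟨x, hxU⟩ : ↥U)) trivial
  have hxW : x ∈ U.ι ''ᵁ V := ⟨⟨x, hxU⟩, hxV, rfl⟩
  have hval : ev M (U.ι ''ᵁ V) x hxW (φ.app V z) = LocalizedModule.mk m 1 := by
    rw [hz]; rfl
  rw [← hval]
  obtain ⟨c, hc⟩ := decomp n φ V z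
  rw [hc]
  refine Finset.sum_induction _
    (fun s : Γ((tilde M).restrict U.ι, V) => ev M (U.ι ''ᵁ V) x hxW s ∈ L)
    (fun s₁ s₂ h₁ h₂ => ?_) ?_ (fun j _ => ?_)
  · show ev M (U.ι ''ᵁ V) x hxW s₁ + ev M (U.ι ''ᵁ V) x hxW s₂ ∈ L
    exact L.add_mem h₁ h₂
  · show (0 : LocalizedModule x.asIdeal.primeCompl M) ∈ L
    exact L.zero_mem
  · obtain ⟨c', hc'⟩ := ev_smul_restrict M U V x hxW (c j)
      ((Sigma.ι (fun _ : Fin n => Coh.structureModule (↑U : Scheme.{u})) j ≫ φ).app V (one V))
    show ev M (U.ι ''ᵁ V) x hxW (c j •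
      (Sigma.ι (fun _ : Fin n => Coh.structureModule (↑U : Scheme.{u})) j ≫ φ).app V (one V)) ∈ L
    rw [hc']
    refine L.smul_mem _ ?_
    have h3 : (Sigma.ι (fun _ : Fin n => Coh.structureModule (↑U : Scheme.{u})) j ≫ φ).app V (one V) =
        ((tilde M).restrict U.ι).presheaf.map (homOfLE hV).op (σ j) := by
      rw [← one_map hV, app_map]
    rw [h3]
    exact hσ j

end Spec

theorem main (R : CommRingCat.{u}) (M : ModuleCat.{u} R) (n m : ℕ)
    (U : Fin m → (Spec R).Opens) (hU : ⨆ i, U i = ⊤)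
    (hgen : ∀ i, ∃ φ : FlatMod.freeMod (↑(U i)) n ⟶ (tilde M).restrict (U i).ι, Epi φ) :
    ∃ s : Fin (n * m) → M, Submodule.span R (Set.range s) = ⊤ := by
  classical
  choose φ hφ using hgen
  let I : Fin m → Ideal R := fun i =>
    PrimeSpectrum.vanishingIdeal {y : PrimeSpectrum R | (show ↥(Spec R) from y) ∉ U i}
  have hI : ⨆ i, I i = ⊤ := by
    by_contra hne
    obtain ⟨P, hP, hle⟩ := Ideal.exists_le_maximal _ hne
    let x : PrimeSpectrum R := ⟨P, hP.isPrime⟩
    have hx : x ∈ ⨆ i, U i := by rw [hU]; trivial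
    obtain ⟨i, hi⟩ := TopologicalSpace.Opens.mem_iSup.mp hx
    obtain ⟨_, ⟨_, ⟨g, rfl⟩, rfl⟩, hxg, hgU⟩ :=
      PrimeSpectrum.isBasis_basic_opens.exists_subset_of_mem_open hi (U i).2
    have hgI : g ∈ I i := by
      rw [PrimeSpectrum.mem_vanishingIdeal]
      intro y hy
      by_contra hgy
      exact hy (hgU hgy)
    exact hxg (hle (le_iSup I i hgI))
  have h1 : (1 : R) ∈ ⨆ i, I i := by rw [hI]; trivial
  obtain ⟨fF, hfI, hsum⟩ := (Submodule.mem_iSup_iff_exists_finsupp I 1).mp h1
  have hfU : ∀ i, PrimeSpectrum.basicOpen (fF i) ≤ U i := by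
    intro i y hy
    by_contra hyU
    exact hy ((PrimeSpectrum.mem_vanishingIdeal _ _).mp (hfI i) y hyU)
  have hcov : ∀ x : PrimeSpectrum R, ∃ i, fF i ∉ x.asIdeal := by
    intro x
    by_contra hall
    push Not at hall
    have : (1 : R) ∈ x.asIdeal := by
      rw [← hsum]
      exact Ideal.sum_mem _ (fun i _ => hall i)
    exact x.isPrime.ne_top ((Ideal.eq_top_iff_one _).mpr this)
  have hkey := fun i => by
    haveI := hφ i
    exact key M (U i) n (φ i) (fF i) (hfU i)
  choose a ha using hkey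
  let e := finProdFinEquiv (m := n) (n := m)
  refine ⟨fun k => a (e.symm k).2 (e.symm k).1, ?_⟩
  set N := Submodule.span R (Set.range fun k => a (e.symm k).2 (e.symm k).1) with hN
  have haN : ∀ i j, a i j ∈ N := fun i j => Submodule.subset_span ⟨e (j, i), by simp⟩
  refine Submodule.eq_top_of_localization_maximal (fun P _ => Localization P.primeCompl)
    (fun P _ => LocalizedModule P.primeCompl M)
    (fun P _ => LocalizedModule.mkLinearMap P.primeCompl M) N ?_
  intro P hP
  rw [eq_top_iff]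
  intro v _
  obtain ⟨i, hi⟩ := hcov ⟨P, hP.isPrime⟩
  have hm : ∀ m' : M, LocalizedModule.mk m' 1 ∈
      N.localized' (Localization P.primeCompl) P.primeCompl
        (LocalizedModule.mkLinearMap P.primeCompl M) := by
    refine ha i ⟨P, hP.isPrime⟩ hi _ (fun j => ?_)
    exact ⟨a i j, haN i j, 1, (IsLocalizedModule.mk_eq_mk' _ _).symm⟩
  induction v using LocalizedModule.induction_on with
  | h m' s =>
    have : LocalizedModule.mk m' s =
        (Localization.mk 1 s : Localization P.primeCompl) • LocalizedModule.mk m' 1 := by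
      rw [LocalizedModule.mk_smul_mk, one_smul, mul_one]
    rw [this]
    exact Submodule.smul_mem _ _ (hm m')

end Groth.Agent.Lib.GenCovL
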