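import Mathlib
import Groth.Agent.Lib.SchFT_helper8

/-! Maximal points of a locally Noetherian scheme lie in every dense open subset. -/

universe u

open AlgebraicGeometry CategoryTheory TopologicalSpace

namespace Groth.Agent.GenDenseH8

theorem mem_of_dense_of_isMax (X : Scheme.{u}) [IsLocallyNoetherian X] (U : Set X) (hU : IsOpen U)
    (hd : Dense U) (η : X) (hη : ∀ z : X, z ⤳ η → z = η) : η ∈ U := by
  classical
  obtain ⟨_, ⟨W, hW', rfl⟩, hηW, -⟩ :=
    X.isBasis_affineOpens.exists_subset_of_mem_open (Set.mem_univ η) isOpen_univ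
  have hW : IsAffineOpen W := hW'
  haveI : IsNoetherianRing Γ(X, W) := IsLocallyNoetherian.component_noetherian ⟨W, hW⟩
  set p := hW.primeIdealOf ⟨η, hηW⟩ with hp
  -- p is a minimal prime
  have hpmin : p.asIdeal ∈ minimalPrimes Γ(X, W) := by
    obtain ⟨q, hqmin, hqp⟩ := Ideal.exists_minimalPrimes_le (I := ⊥) (J := p.asIdeal) bot_le
    have hqprime : q.IsPrime := hqmin.1.1
    have hmem := Groth.Agent.SchFTH8.fromSpec_mem hW ⟨q, hqprime⟩
    have h1 := Groth.Agent.SchFTH8.primeIdealOf_fromSpec hW ⟨q, hqprime⟩ hmem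
    have h2 : hW.fromSpec ⟨q, hqprime⟩ ⤳ η := by
      rw [Groth.Agent.SchFTH8.specializes_iff_primeIdealOf_le hW _ _ hmem hηW, h1]
      exact hqp
    have h3 := hη _ h2
    have h4 : p = ⟨q, hqprime⟩ := by
      rw [hp, ← h1]
      congr 1
      exact Subtype.ext h3.symm
    rw [h4]
    exact hqmin
  have hfin : (minimalPrimes Γ(X, W)).Finite := minimalPrimes.finite_of_isNoetherianRing _
  -- the open set D
  let C : Set X := ⋃ q ∈ (minimalPrimes Γ(X, W) \ {p.asIdeal}),
    {x : X | ∃ hx : x ∈ W, q ≤ (hW.primeIdealOf ⟨x, hx⟩).asIdeal}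
  let D : Set X := (W : Set X) \ C
  have hDopen : IsOpen D := by
    -- D is the image of an open subset of Spec Γ(X, W)
    have hDeq : D = hW.fromSpec '' (⋂ q ∈ (minimalPrimes Γ(X, W) \ {p.asIdeal}),
        (PrimeSpectrum.zeroLocus (q : Set Γ(X, W)))ᶜ) := by
      ext x
      constructor
      · rintro ⟨hxW, hxC⟩
        refine ⟨hW.primeIdealOf ⟨x, hxW⟩, ?_, hW.fromSpec_primeIdealOf ⟨x, hxW⟩⟩
        simp only [Set.mem_iInter, Set.mem_compl_iff, PrimeSpectrum.mem_zeroLocus,
          SetLike.coe_subset_coe]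
        intro q hq hle
        apply hxC
        simp only [C, Set.mem_iUnion]
        exact ⟨q, hq, hxW, hle⟩
      · rintro ⟨P, hP, rfl⟩
        have hmem := Groth.Agent.SchFTH8.fromSpec_mem hW P
        refine ⟨hmem, ?_⟩
        simp only [C, Set.mem_iUnion, not_exists]
        rintro q hq ⟨hx, hle⟩
        rw [Groth.Agent.SchFTH8.primeIdealOf_fromSpec hW P hx] at hle
        simp only [Set.mem_iInter, Set.mem_compl_iff, PrimeSpectrum.mem_zeroLocus,
          SetLike.coe_subset_coe] at hP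
        exact hP q hq hle
    rw [hDeq]
    apply hW.fromSpec.isOpenEmbedding.isOpenMap
    apply Set.Finite.isOpen_biInter (hfin.subset Set.sdiff_subset)
    intro q _
    exact (PrimeSpectrum.isClosed_zeroLocus _).isOpen_compl
  have hηD : η ∈ D := by
    refine ⟨hηW, ?_⟩
    simp only [C, Set.mem_iUnion, not_exists]
    rintro q ⟨hqmin, hqne⟩ ⟨hx, hle⟩
    apply hqne
    exact (le_antisymm hle (hpmin.2 ⟨hqmin.1.1, bot_le⟩ hle))
  obtain ⟨t, htD, htU⟩ := hd.inter_open_nonempty D hDopen ⟨η, hηD⟩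
  obtain ⟨htW, htC⟩ := htD
  -- t lies over p
  obtain ⟨q, hqmin, hqt⟩ := Ideal.exists_minimalPrimes_le (I := ⊥)
    (J := (hW.primeIdealOf ⟨t, htW⟩).asIdeal) bot_le
  have hqp : q = p.asIdeal := by
    by_contra hne
    apply htC
    simp only [C, Set.mem_iUnion]
    exact ⟨q, ⟨hqmin, hne⟩, htW, hqt⟩
  have hspec : η ⤳ t := by
    rw [Groth.Agent.SchFTH8.specializes_iff_primeIdealOf_le hW _ _ hηW htW]
    change p.asIdeal ≤ _
    rw [← hqp]
    exact hqt
  exact hspec.mem_open hU htU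

end Groth.Agent.GenDenseH8
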