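import Mathlib
import Groth.Prelude.Def_EGA43
import Groth.Prelude.Def_FDesc
import Groth.Agent.Lib.CompDims_helper8
import Groth.Agent.Lib.FibClos_helper8
import Groth.Agent.Lib.EquidimSub_helper8

/-! Dimension of the connected component of a fibre through a point, when irreducible. -/

universe u
open AlgebraicGeometry CategoryTheory TopologicalSpace IsLocalRing

namespace SecCompH8

theorem connectedComponentIn_eq_closure_inter {T : Type*} [TopologicalSpace T] (S : Set T) (p : T)
    (hp : p ∈ S) :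
    connectedComponentIn S p = closure (connectedComponentIn S p) ∩ S := by
  apply subset_antisymm
  · exact fun a ha => ⟨subset_closure ha, connectedComponentIn_subset S p ha⟩
  · rintro a ⟨ha1, ha2⟩
    rw [connectedComponentIn_eq_image hp] at ha1 ⊢
    have hcl : IsClosed (connectedComponent (⟨p, hp⟩ : S)) := isClosed_connectedComponent
    refine ⟨⟨a, ha2⟩, ?_, rfl⟩
    rw [← hcl.closure_eq, closure_subtype]
    exact ha1

variable {X Y : Scheme.{u}} (f : X ⟶ Y)

theorem isPreconnected_closure_inter (y : Y) (c : X) (hc : f.base c = y) :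
    IsPreconnected (closure {c} ∩ f.base ⁻¹' {y}) :=
  isPreconnected_singleton.subset_closure
    (Set.singleton_subset_iff.mpr ⟨subset_closure rfl, hc⟩) Set.inter_subset_left

theorem exists_generic (y : Y) (p : X) (hp : f.base p = y)
    (hirr : IsIrreducible (connectedComponentIn (f.base ⁻¹' {y}) p)) :
    ∃ c₀ : X, f.base c₀ = y ∧ c₀ ⤳ p ∧
      connectedComponentIn (f.base ⁻¹' {y}) p = closure {c₀} ∩ f.base ⁻¹' {y} ∧
      (∀ c₁ : X, f.base c₁ = y → c₁ ⤳ c₀ → c₁ = c₀) := by
  have hpS : p ∈ f.base ⁻¹' {y} := hp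
  have hpC : p ∈ connectedComponentIn (f.base ⁻¹' {y}) p := mem_connectedComponentIn hpS
  have hCS : connectedComponentIn (f.base ⁻¹' {y}) p ⊆ f.base ⁻¹' {y} :=
    connectedComponentIn_subset _ p
  obtain ⟨c₀, hc₀⟩ := QuasiSober.sober hirr.closure isClosed_closure
  have hc₀cl : closure {c₀} = closure (connectedComponentIn (f.base ⁻¹' {y}) p) := hc₀.def
  have hc₀p : c₀ ⤳ p := by
    rw [specializes_iff_mem_closure, hc₀cl]; exact subset_closure hpC
  have hfc₀ : f.base c₀ = y := by
    have h2 : f.base c₀ ⤳ y := hp ▸ hc₀p.map f.continuous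
    have h3 : y ⤳ f.base c₀ := by
      have h5 : c₀ ∈ closure (connectedComponentIn (f.base ⁻¹' {y}) p) :=
        hc₀cl ▸ subset_closure rfl
      have h4 : closure (connectedComponentIn (f.base ⁻¹' {y}) p) ⊆ f.base ⁻¹' closure {y} :=
        closure_minimal (fun a ha => subset_closure (hCS ha))
          (isClosed_closure.preimage f.continuous)
      exact specializes_iff_mem_closure.mpr (h4 h5)
    exact (h2.antisymm h3).eq
  have hCeq : connectedComponentIn (f.base ⁻¹' {y}) p = closure {c₀} ∩ f.base ⁻¹' {y} := by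
    rw [hc₀cl]; exact connectedComponentIn_eq_closure_inter _ p hpS
  refine ⟨c₀, hfc₀, hc₀p, hCeq, ?_⟩
  intro c₁ hc₁ hc₁c₀
  have hT := isPreconnected_closure_inter f y c₁ hc₁
  have hpT : p ∈ closure {c₁} ∩ f.base ⁻¹' {y} :=
    ⟨specializes_iff_mem_closure.mp (hc₁c₀.trans hc₀p), hpS⟩
  have hTC := hT.subset_connectedComponentIn hpT Set.inter_subset_right
  have h6 : c₁ ∈ connectedComponentIn (f.base ⁻¹' {y}) p := hTC ⟨subset_closure rfl, hc₁⟩
  rw [hCeq] at h6
  have h5 : c₀ ⤳ c₁ := specializes_iff_mem_closure.mpr h6.1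
  exact (hc₁c₀.antisymm h5).eq

theorem topDim_congr {T : Type*} [TopologicalSpace T] {A B : Set T} (h : A = B) :
    topologicalKrullDim ↥A = topologicalKrullDim ↥B := by subst h; rfl

/-- dimension of an irreducible connected component of a fibre. -/
theorem dim_eq_fibreDimAt [LocallyOfFiniteType f] (y : Y) (p : X) (hp : f.base p = y)
    (hirr : IsIrreducible (connectedComponentIn (f.base ⁻¹' {y}) p)) :
    topologicalKrullDim ↥(connectedComponentIn (f.base ⁻¹' {y}) p) = FlatMor.fibreDimAt f p := by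
  obtain ⟨c₀, hfc₀, hc₀p, hCeq, hmax⟩ := exists_generic f y p hp hirr
  have hmax' : ∀ x'' : X, f.base x'' = f.base c₀ → x'' ⤳ c₀ → x'' = c₀ :=
    fun x'' h1 h2 => hmax x'' (h1.trans hfc₀) h2
  have h1 : topologicalKrullDim ↥(connectedComponentIn (f.base ⁻¹' {y}) p) =
      FlatMor.fibreDimAt f c₀ := by
    rw [topDim_congr hCeq, ← hfc₀, FibClosH8.dim_closure_inter_fiber, FibCohH8.fibreDimAt_eq f c₀,
      OpenAtEqH8.fibCoh_eq_zero_of_isMax f c₀ hmax']
    simp
  rw [h1]
  apply le_antisymm (FibGenH8.fibreDimAt_le_of_specializes f hc₀p)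
  obtain ⟨ζ, hζf, hζp, hζmax, hζdim⟩ := CompDimsH8.exists_fibre_max_eq f p
  have hζy : f.base ζ = y := hζf.trans hp
  have hT := isPreconnected_closure_inter f y ζ hζy
  have hpT : p ∈ closure {ζ} ∩ f.base ⁻¹' {y} := ⟨specializes_iff_mem_closure.mp hζp, hp⟩
  have hTC := hT.subset_connectedComponentIn hpT Set.inter_subset_right
  have h6 : ζ ∈ connectedComponentIn (f.base ⁻¹' {y}) p := hTC ⟨subset_closure rfl, hζy⟩
  rw [hCeq] at h6
  have h5 : c₀ ⤳ ζ := specializes_iff_mem_closure.mpr h6.1
  have h7 : c₀ = ζ := hζmax c₀ (hfc₀.trans hp.symm) h5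
  rw [← hζdim, h7]

/-- upper semicontinuity of the dimension of the section components. -/
theorem upperSemicontinuous_dim [LocallyOfFiniteType f] (g : Y ⟶ X) (hg : g ≫ f = 𝟙 Y)
    (hirr : ∀ y : Y, IsIrreducible (connectedComponentIn (f.base ⁻¹' {y}) (g.base y))) :
    UpperSemicontinuous (fun y : Y =>
      topologicalKrullDim ↥(connectedComponentIn (f.base ⁻¹' {y}) (g.base y))) := by
  have hfg : ∀ y : Y, f.base (g.base y) = y := fun y => by
    have := congrArg (fun φ => φ.base y) hg
    exact this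
  have hdim : ∀ y : Y, topologicalKrullDim ↥(connectedComponentIn (f.base ⁻¹' {y}) (g.base y)) =
      FlatMor.fibreDimAt f (g.base y) := fun y => dim_eq_fibreDimAt f y (g.base y) (hfg y) (hirr y)
  intro y c hc
  simp only [hdim] at hc ⊢
  obtain ⟨n, hn⟩ := EquidimIrrH8.exists_nat_fibreDimAt f (g.base y)
  have hopen := (ChevH8.isOpen_fibreDimAt_le f n).preimage g.continuous
  have hy : y ∈ g.base ⁻¹' {x : X | FlatMor.fibreDimAt f x ≤ (n : WithBot ℕ∞)} := hn.le
  filter_upwards [hopen.mem_nhds hy] with z hz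
  exact lt_of_le_of_lt hz (hn ▸ hc)

theorem bcπ_surjective {k : Type u} [Field k] {F : Scheme.{u}} (φ : F ⟶ Spec (CommRingCat.of k))
    (K : Type u) [Field K] [Algebra k K] : Function.Surjective (FBase.bcπ φ K).base := by
  intro x
  obtain ⟨z, hz, -⟩ := Scheme.Pullback.exists_preimage_pullback (f := φ)
    (g := Spec.map (CommRingCat.ofHom (algebraMap k K))) x (IsLocalRing.closedPoint K)
    (Subsingleton.elim (α := PrimeSpectrum k) _ _)
  exact ⟨z, hz⟩

theorem isIrreducible_of_geom (y : Y) (C : Set X) (hC : C ⊆ f.base ⁻¹' {y})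
    (h : ∀ (K : Type u) [Field K] [Algebra (IsLocalRing.ResidueField (Y.presheaf.stalk y)) K],
      IsIrreducible ((FBase.bcπ (f.fiberToSpecResidueField y) K ≫ f.fiberι y).base ⁻¹' C)) :
    IsIrreducible C := by
  have h1 := h (IsLocalRing.ResidueField (Y.presheaf.stalk y))
  have h2 := h1.image (FBase.bcπ (f.fiberToSpecResidueField y)
    (IsLocalRing.ResidueField (Y.presheaf.stalk y)) ≫ f.fiberι y).base
    (Scheme.Hom.continuous _).continuousOn
  rw [Set.image_preimage_eq_inter_range] at h2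
  have hr : Set.range (FBase.bcπ (f.fiberToSpecResidueField y)
      (IsLocalRing.ResidueField (Y.presheaf.stalk y)) ≫ f.fiberι y).base = f.base ⁻¹' {y} := by
    rw [Scheme.Hom.comp_base, TopCat.coe_comp, Set.range_comp,
      (bcπ_surjective (f.fiberToSpecResidueField y) _).range_eq, Set.image_univ,
      Scheme.Hom.range_fiberι]
  rw [hr, Set.inter_eq_left.mpr hC] at h2
  exact h2

theorem main54 [LocallyOfFiniteType f] (g : Y ⟶ X) (hg : g ≫ f = 𝟙 Y)
    (hirr : ∀ y : Y, (∀ (K : Type u) [Field K]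
      [Algebra (IsLocalRing.ResidueField (Y.presheaf.stalk y)) K],
        IsIrreducible ((FBase.bcπ (f.fiberToSpecResidueField y) K ≫ f.fiberι y).base ⁻¹'
          connectedComponentIn (f.base ⁻¹' {y}) (g.base y)))) :
    UpperSemicontinuous (fun y : Y =>
      topologicalKrullDim ↥(connectedComponentIn (f.base ⁻¹' {y}) (g.base y))) :=
  upperSemicontinuous_dim f g hg fun y =>
    isIrreducible_of_geom f y _ (connectedComponentIn_subset _ _) (hirr y)

end SecCompH8
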