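import Mathlib
import Groth.Agent.Lib.ValFib10_helper8
import Groth.Agent.Lib.LocDimProd_helper8
import Groth.Agent.Lib.SecComp_helper8

/-! Components of the closed fibre over a valuation ring. -/

universe u

namespace Groth.Agent.Lib.ValFibH8

open AlgebraicGeometry CategoryTheory Limits

/-- the dimension of the fibre containing the generic point of an irreducible scheme. -/
theorem topDim_fiber_eq_of_generic {S X : Scheme.{u}} [IrreducibleSpace X] (f : X ⟶ S)
    [LocallyOfFiniteType f] (η : S) (hfξ : f (genericPoint X) = η) :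
    topologicalKrullDim ↥(f.fiber η) = FlatMor.fibreDimAt f (genericPoint X) := by
  set ξ := genericPoint X with hξdef
  have hξmem : ξ ∈ Set.range (f.fiberι η) := by
    rw [Scheme.Hom.range_fiberι]; exact hfξ
  obtain ⟨zξ, hzξ⟩ := hξmem
  have hall : ∀ z : ↥(f.fiber η), zξ ⤳ z := by
    intro z
    rw [← (f.fiberι η).isEmbedding.isInducing.specializes_iff, hzξ]
    exact genericPoint_specializes _
  haveI : IrreducibleSpace ↥(f.fiber η) := irreducibleSpace_of_forall_specializes zξ hall
  haveI := Groth.Agent.FibRes2H8.lft_fiber f η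
  obtain ⟨d, hd, hloc⟩ := Groth.Agent.Lib.AffDimH8.exists_dim_nat_of_irreducible
    (S.residueField η) (f.fiber η) (f.fiberToSpecResidueField η)
  rw [hd, ← hloc zξ, FieldExtH8.localDim_fiber_eq_fibreDimAt f η zξ ξ hzξ]

theorem main7624 (R : Type u) [CommRing R] [IsDomain R] [ValuationRing R]
    (X : Scheme.{u}) [IrreducibleSpace ↥X] (f : X ⟶ Spec (CommRingCat.of R))
    [LocallyOfFiniteType f] [Surjective f]
    (Z : Set ↥(f.fiber (IsLocalRing.closedPoint R)))
    (hZ : Z ∈ irreducibleComponents ↥(f.fiber (IsLocalRing.closedPoint R))) :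
    topologicalKrullDim ↥Z =
      topologicalKrullDim ↥(f.fiber (⟨⊥, Ideal.isPrime_bot⟩ : PrimeSpectrum R)) := by
  let η : Spec (CommRingCat.of R) := (⟨⊥, Ideal.isPrime_bot⟩ : PrimeSpectrum R)
  have hηall : ∀ s : Spec (CommRingCat.of R), η ⤳ s := by
    intro s
    exact (PrimeSpectrum.le_iff_specializes (⟨⊥, Ideal.isPrime_bot⟩ : PrimeSpectrum R) s).mp bot_le
  have hfξ : f (genericPoint X) = η := by
    obtain ⟨x, hx⟩ := f.surjective η
    have h1 : f (genericPoint X) ⤳ η := by
      rw [← hx]; exact (genericPoint_specializes x).map f.continuous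
    exact (h1.antisymm (hηall _)).eq
  have hZirr : IsIrreducible Z := hZ.1
  have hZcl : IsClosed Z := isClosed_of_mem_irreducibleComponents Z hZ
  obtain ⟨c, hc⟩ := QuasiSober.sober hZirr hZcl
  have hcZ : closure ({c} : Set ↥(f.fiber (IsLocalRing.closedPoint R))) = Z := hc.def
  have hcoh : Order.coheight c = 0 := by
    rw [Order.coheight_eq_zero]
    intro b hb
    have hbc : b ⤳ c := hb
    have h1 : Z ⊆ closure ({b} : Set ↥(f.fiber (IsLocalRing.closedPoint R))) := by
      rw [← hcZ]
      exact closure_minimal (by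
        intro z hz
        rw [Set.mem_singleton_iff] at hz
        rw [hz]; exact hbc.mem_closure) isClosed_closure
    have h2 := hZ.2 (isIrreducible_singleton.closure : IsIrreducible (closure ({b} : Set ↥(f.fiber (IsLocalRing.closedPoint R))))) h1
    have h3 : b ∈ closure ({c} : Set ↥(f.fiber (IsLocalRing.closedPoint R))) := by
      rw [hcZ]; exact h2 (subset_closure rfl)
    have h4 : c ⤳ b := specializes_iff_mem_closure.mpr h3
    exact h4
  letI ov : (f.fiber (IsLocalRing.closedPoint R)).Over (Spec (CommRingCat.of ((Spec (CommRingCat.of R)).residueField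
      (IsLocalRing.closedPoint R)))) := ⟨f.fiberToSpecResidueField (IsLocalRing.closedPoint R)⟩
  haveI : LocallyOfFiniteType ((f.fiber (IsLocalRing.closedPoint R)) ↘ Spec (CommRingCat.of
      ((Spec (CommRingCat.of R)).residueField (IsLocalRing.closedPoint R)))) :=
    Groth.Agent.FibRes2H8.lft_fiber f (IsLocalRing.closedPoint R)
  have h1 := LocDimProdH8.localDim_eq
    ((Spec (CommRingCat.of R)).residueField (IsLocalRing.closedPoint R)) (f.fiber (IsLocalRing.closedPoint R)) c
  rw [hcoh, zero_add] at h1
  have h2 : topologicalKrullDim ↥Z = Order.height c := by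
    rw [← Groth.Agent.ClosHtH8.topologicalKrullDim_closure_singleton (f.fiber (IsLocalRing.closedPoint R)) c]
    exact SecCompH8.topDim_congr hcZ.symm
  rw [h2, ← h1, FieldExtH8.localDim_fiber_eq_fibreDimAt f _ c _ rfl, fibreDimAt_const f,
    topDim_fiber_eq_of_generic f η hfξ]

end Groth.Agent.Lib.ValFibH8
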