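import Mathlib
import Groth.Agent.Lib.ValFib12_helper8

/-! Points of a scheme over a domain with dense generic fibre are specializations of points of
the generic fibre. -/

universe u

namespace Groth.Agent.Lib.GenDimH8

open AlgebraicGeometry CategoryTheory Limits IsLocalRing TopologicalSpace

theorem noetherianSpace_fiber {T S : Scheme.{u}} (φ : T ⟶ S) [LocallyOfFiniteType φ]
    [QuasiCompact φ] (s : S) : NoetherianSpace ↥(φ.fiber s) := by
  haveI : LocallyOfFiniteType (φ.fiberToSpecResidueField s) :=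
    Groth.Agent.FibRes2H8.lft_fiber φ s
  haveI : QuasiCompact (φ.fiberToSpecResidueField s) := by
    unfold Scheme.Hom.fiberToSpecResidueField; infer_instance
  haveI : IsLocallyNoetherian (φ.fiber s) :=
    LocallyOfFiniteType.isLocallyNoetherian (φ.fiberToSpecResidueField s)
  haveI : CompactSpace ↥(φ.fiber s) :=
    QuasiCompact.compactSpace_of_compactSpace (φ.fiberToSpecResidueField s)
  haveI : IsNoetherian (φ.fiber s) := {}
  infer_instance

theorem exists_generic_specializes {R : Type u} [CommRing R] [IsDomain R]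
    {T : Scheme.{u}} (φ : T ⟶ Spec (CommRingCat.of R)) [LocallyOfFiniteType φ] [QuasiCompact φ]
    (hd : Dense (φ ⁻¹' {(⟨⊥, Ideal.isPrime_bot⟩ : PrimeSpectrum R)})) (t : T) :
    ∃ c : T, φ c = (⟨⊥, Ideal.isPrime_bot⟩ : PrimeSpectrum R) ∧ c ⤳ t := by
  set η : Spec (CommRingCat.of R) := (⟨⊥, Ideal.isPrime_bot⟩ : PrimeSpectrum R) with hη
  haveI : NoetherianSpace ↥(φ.fiber η) := noetherianSpace_fiber φ η
  obtain ⟨F, hFfin, hFcl, hFirr, hEF⟩ := TopologicalSpace.NoetherianSpace.exists_finite_set_isClosed_irreducible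
    (isClosed_univ : IsClosed (Set.univ : Set ↥(φ.fiber η)))
  have h1 : (Set.univ : Set T) = ⋃ Z ∈ F, closure (φ.fiberι η '' Z) := by
    rw [← hFfin.closure_biUnion, ← Set.image_iUnion₂, ← Set.sUnion_eq_biUnion, ← hEF,
      Set.image_univ, Scheme.Hom.range_fiberι]
    exact hd.closure_eq.symm
  have ht : t ∈ ⋃ Z ∈ F, closure (φ.fiberι η '' Z) := h1 ▸ Set.mem_univ t
  simp only [Set.mem_iUnion] at ht
  obtain ⟨Z, hZF, htZ⟩ := ht
  have hirr : IsIrreducible (closure (φ.fiberι η '' Z)) :=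
    ((hFirr Z hZF).image _ (φ.fiberι η).continuous.continuousOn).closure
  obtain ⟨c, hc⟩ := QuasiSober.sober hirr isClosed_closure
  refine ⟨c, ?_, hc.specializes htZ⟩
  obtain ⟨z, hz⟩ := (hFirr Z hZF).nonempty
  have h2 : c ⤳ φ.fiberι η z := hc.specializes (subset_closure ⟨z, hz, rfl⟩)
  have h3 : φ c ⤳ η := by
    have := h2.map φ.continuous
    rwa [Groth.Agent.FibRes2H8.fiberι_mem] at this
  have h4 : η ⤳ φ c :=
    (PrimeSpectrum.le_iff_specializes (⟨⊥, Ideal.isPrime_bot⟩ : PrimeSpectrum R) (φ c)).mp bot_le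
  exact (h3.antisymm h4).eq

end Groth.Agent.Lib.GenDimH8
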