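import Mathlib
import Groth.Agent.Lib.ValFib12_helper8

/-! The closed fibre over a valuation ring has dimension at most that of the generic fibre,
when every point is a specialization of a point of the generic fibre. -/

universe u

namespace Groth.Agent.Lib.GenDimH8

open AlgebraicGeometry CategoryTheory Limits IsLocalRing TopologicalSpace

/-- fibres of a composite with an inducing map. -/
theorem topDim_fiber_comp_le {C T S : Scheme.{u}} (j : C ⟶ T) (φ : T ⟶ S)
    (hj : Topology.IsInducing j) (s : S) :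
    topologicalKrullDim ↥((j ≫ φ).fiber s) ≤ topologicalKrullDim ↥(φ.fiber s) := by
  have hmem : ∀ x : ↥((j ≫ φ).fiber s), j ((j ≫ φ).fiberι s x) ∈ Set.range (φ.fiberι s) := by
    intro x
    rw [Scheme.Hom.range_fiberι]
    show φ (j ((j ≫ φ).fiberι s x)) = s
    rw [← Scheme.Hom.comp_apply]
    exact Groth.Agent.FibRes2H8.fiberι_mem (j ≫ φ) s x
  choose m hm using hmem
  have hcomp : (φ.fiberι s) ∘ m = j ∘ ((j ≫ φ).fiberι s) := funext hm
  have hmc : Continuous m := by
    rw [(φ.fiberι s).isEmbedding.isInducing.continuous_iff, hcomp]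
    exact j.continuous.comp ((j ≫ φ).fiberι s).continuous
  have hind : Topology.IsInducing m := by
    refine Topology.IsInducing.of_comp hmc (φ.fiberι s).continuous ?_
    rw [hcomp]
    exact hj.comp ((j ≫ φ).fiberι s).isEmbedding.isInducing
  exact hind.topologicalKrullDim_le

theorem topDim_closedFiber_le {R : Type u} [CommRing R] [IsDomain R] [ValuationRing R]
    {T : Scheme.{u}} (φ : T ⟶ Spec (CommRingCat.of R)) [LocallyOfFiniteType φ]
    (hA : ∀ t : T, ∃ c : T, φ c = (⟨⊥, Ideal.isPrime_bot⟩ : PrimeSpectrum R) ∧ c ⤳ t) :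
    topologicalKrullDim ↥(φ.fiber (closedPoint R)) ≤
      topologicalKrullDim ↥(φ.fiber (⟨⊥, Ideal.isPrime_bot⟩ : PrimeSpectrum R)) := by
  set η : Spec (CommRingCat.of R) := (⟨⊥, Ideal.isPrime_bot⟩ : PrimeSpectrum R) with hη
  have hηall : ∀ s : Spec (CommRingCat.of R), η ⤳ s := fun s =>
    (PrimeSpectrum.le_iff_specializes (⟨⊥, Ideal.isPrime_bot⟩ : PrimeSpectrum R) s).mp bot_le
  have hηgen : genericPoint (Spec (CommRingCat.of R)) = η := by
    have hg : IsGenericPoint η (Set.univ : Set (Spec (CommRingCat.of R))) := by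
      rw [isGenericPoint_def]
      ext z
      simp only [Set.mem_univ, iff_true]
      exact (hηall z).mem_closure
    exact (genericPoint_spec _).eq hg
  set D := topologicalKrullDim ↥(φ.fiber η) with hD
  have key : ∀ q : LTSeries ↥(φ.fiber (closedPoint R)), ((q.length : ℕ∞) : WithBot ℕ∞) ≤ D := by
    intro q
    obtain ⟨c, hcη, hct⟩ := hA (φ.fiberι (closedPoint R) q.last)
    obtain ⟨C, j, hj, hirr, c', hc'1, hc'2, hrange⟩ := Groth.Agent.Lib.ValFibH8.exists_closure_subscheme c
    haveI : IsClosedImmersion j := hj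
    have hψc : (j ≫ φ) c' = η := by
      rw [Scheme.Hom.comp_apply, hc'1, hcη]
    haveI : IsDominant (j ≫ φ) := by
      refine ⟨?_⟩
      intro s
      have : s ∈ closure ({η} : Set (Spec (CommRingCat.of R))) := (hηall s).mem_closure
      refine closure_mono ?_ this
      rintro _ rfl
      exact ⟨c', hψc⟩
    have hmemj : ∀ i : Fin (q.length + 1), φ.fiberι (closedPoint R) (q i) ∈ Set.range j := by
      intro i
      rw [hrange]
      have h1 : q i ≤ q.last := q.monotone (Fin.le_last i)
      have h2 : q.last ⤳ q i := h1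
      have h3 : φ.fiberι (closedPoint R) q.last ⤳ φ.fiberι (closedPoint R) (q i) :=
        h2.map (φ.fiberι (closedPoint R)).continuous
      exact (hct.trans h3).mem_closure
    choose uu huu using hmemj
    have hmemf : ∀ i : Fin (q.length + 1), uu i ∈ Set.range ((j ≫ φ).fiberι (closedPoint R)) := by
      intro i
      rw [Scheme.Hom.range_fiberι]
      show (j ≫ φ) (uu i) = closedPoint R
      rw [Scheme.Hom.comp_apply, huu i]
      exact Groth.Agent.FibRes2H8.fiberι_mem φ _ (q i)
    choose w hw using hmemf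
    have hle : ∀ a b : Fin (q.length + 1), w a ≤ w b ↔ q a ≤ q b := by
      intro a b
      show w b ⤳ w a ↔ q b ⤳ q a
      rw [← ((j ≫ φ).fiberι (closedPoint R)).isEmbedding.isInducing.specializes_iff, hw, hw,
        ← (Scheme.Hom.isClosedEmbedding j).isEmbedding.isInducing.specializes_iff, huu, huu,
        (φ.fiberι (closedPoint R)).isEmbedding.isInducing.specializes_iff]
    have hsm : StrictMono w := by
      intro a b hab
      have := q.strictMono hab
      rw [lt_iff_le_not_ge] at this ⊢
      exact ⟨(hle a b).mpr this.1, fun h => this.2 ((hle b a).mp h)⟩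
    let W : LTSeries ↥((j ≫ φ).fiber (closedPoint R)) := LTSeries.mk q.length w hsm
    have h1 : (q.length : ℕ∞) ≤ Order.coheight (w 0) :=
      Order.length_le_coheight (p := W) (le_refl _)
    have h2 : ((Order.coheight (w 0) : ℕ∞) : WithBot ℕ∞) ≤
        topologicalKrullDim ↥((j ≫ φ).fiber (closedPoint R)) := by
      rw [Groth.Agent.BCDimSchH8.dim_eq_iSup_coheight]
      exact le_iSup (fun x : ↥((j ≫ φ).fiber (closedPoint R)) =>
        ((Order.coheight x : ℕ∞) : WithBot ℕ∞)) (w 0)
    have h3 := Groth.Agent.Lib.ValFibH8.main4932 (j ≫ φ) ⟨w 0⟩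
    rw [hηgen] at h3
    have h4 := topDim_fiber_comp_le j φ (Scheme.Hom.isClosedEmbedding j).isEmbedding.isInducing η
    calc ((q.length : ℕ∞) : WithBot ℕ∞) ≤ ((Order.coheight (w 0) : ℕ∞) : WithBot ℕ∞) :=
          WithBot.coe_le_coe.mpr h1
      _ ≤ _ := h2
      _ = _ := h3
      _ ≤ D := h4
  rw [Groth.Agent.BCDimSchH8.dim_eq_iSup_coheight]
  refine iSup_le fun z => ?_
  have h0 := key (RelSeries.singleton _ z)
  have hne : D ≠ ⊥ := by
    intro hb
    rw [hb] at h0
    simp at h0
  obtain ⟨D', hD'⟩ := WithBot.ne_bot_iff_exists.mp hne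
  rw [← hD', WithBot.coe_le_coe, Order.coheight_le_iff']
  intro q _
  have := key q
  rw [← hD', WithBot.coe_le_coe] at this
  exact this

end Groth.Agent.Lib.GenDimH8
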