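import Mathlib
import Groth.Agent.Lib.GenDim2_helper8
import Groth.Agent.Lib.GenDim3_helper8

/-! The valuation ring case in terms of subspaces. -/

universe u

namespace Groth.Agent.Lib.GenDimH8

open AlgebraicGeometry CategoryTheory Limits IsLocalRing TopologicalSpace

theorem topDim_mono {A : Type*} [TopologicalSpace A] {s t : Set A} (h : s ⊆ t) :
    topologicalKrullDim ↥s ≤ topologicalKrullDim ↥t :=
  (Topology.IsEmbedding.inclusion h).isInducing.topologicalKrullDim_le

/-- preimage under an embedding -/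
theorem topDim_preimage_embedding {A B : Type*} [TopologicalSpace A] [TopologicalSpace B]
    (i : A → B) (hi : Topology.IsEmbedding i) (Bs : Set B) :
    topologicalKrullDim ↥(i ⁻¹' Bs) = topologicalKrullDim ↥(Bs ∩ Set.range i) := by
  let g : ↥(i ⁻¹' Bs) → ↥(Bs ∩ Set.range i) := fun x => ⟨i x.1, x.2, x.1, rfl⟩
  have hgc : Continuous g := (hi.continuous.comp continuous_subtype_val).subtype_mk _
  have hge : Topology.IsEmbedding g := by
    refine Topology.IsEmbedding.of_comp hgc continuous_subtype_val ?_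
    exact hi.comp Topology.IsEmbedding.subtypeVal
  have hgs : Function.Surjective g := by
    rintro ⟨b, hb, a, rfl⟩
    exact ⟨⟨a, hb⟩, rfl⟩
  exact IsHomeomorph.topologicalKrullDim_eq g
    (isHomeomorph_iff_isEmbedding_surjective.mpr ⟨hge, hgs⟩)

/-- fibre of a composite with an embedding as a subspace -/
theorem topDim_fiber_comp_embedding {C X S : Scheme.{u}} (i : C ⟶ X) (f : X ⟶ S)
    (hi : Topology.IsEmbedding i) (s : S) :
    topologicalKrullDim ↥((i ≫ f).fiber s) = topologicalKrullDim ↥(f ⁻¹' {s} ∩ Set.range i) := by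
  rw [IsHomeomorph.topologicalKrullDim_eq _ ((i ≫ f).fiberHomeo s).isHomeomorph]
  have : ((i ≫ f) ⁻¹' {s} : Set C) = i ⁻¹' (f ⁻¹' {s}) := by
    ext x
    simp [Scheme.Hom.comp_apply]
  rw [this]
  exact topDim_preimage_embedding i hi _

theorem valuation_case {R : Type u} [CommRing R] [IsDomain R] [ValuationRing R]
    {X : Scheme.{u}} (f : X ⟶ Spec (CommRingCat.of R)) [LocallyOfFiniteType f] [QuasiCompact f]
    (E : Set X)
    (hE : ∀ e ∈ E, f e = closedPoint R →
      ∃ e' ∈ E, f e' = (⟨⊥, Ideal.isPrime_bot⟩ : PrimeSpectrum R) ∧ e' ⤳ e) :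
    topologicalKrullDim ↥(f ⁻¹' {closedPoint R} ∩ closure (E ∩ f ⁻¹' {closedPoint R})) ≤
      topologicalKrullDim ↥(f ⁻¹' {(⟨⊥, Ideal.isPrime_bot⟩ : PrimeSpectrum R)} ∩
        closure (E ∩ f ⁻¹' {(⟨⊥, Ideal.isPrime_bot⟩ : PrimeSpectrum R)})) := by
  set η : Spec (CommRingCat.of R) := (⟨⊥, Ideal.isPrime_bot⟩ : PrimeSpectrum R) with hη
  set T : Set X := closure (E ∩ f ⁻¹' {η}) with hT
  have hTcl : IsClosed T := isClosed_closure
  let Tc : TopologicalSpace.Closeds X := ⟨T, hTcl⟩
  let I : X.IdealSheafData := Scheme.IdealSheafData.vanishingIdeal Tc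
  have hsupp : (I.support : Set X) = T := rfl
  have hrange : Set.range I.subschemeι = T := by
    rw [Scheme.IdealSheafData.range_subschemeι, hsupp]
  let i := I.subschemeι
  have hie : Topology.IsEmbedding i := i.isEmbedding
  -- density of the generic fibre
  have hd : Dense ((i ≫ f) ⁻¹' {η}) := by
    have hsub : i ⁻¹' (E ∩ f ⁻¹' {η}) ⊆ (i ≫ f) ⁻¹' {η} := by
      intro x hx
      show (i ≫ f) x = η
      rw [Scheme.Hom.comp_apply]
      exact hx.2
    refine Dense.mono hsub ?_
    intro x
    rw [hie.isInducing.closure_eq_preimage_closure_image,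
      Set.image_preimage_eq_of_subset (by rw [hrange]; exact subset_closure)]
    show i x ∈ T
    rw [← hrange]
    exact ⟨x, rfl⟩
  have hA := exists_generic_specializes (i ≫ f) hd
  have hmain := topDim_closedFiber_le (i ≫ f) hA
  rw [topDim_fiber_comp_embedding i f hie, topDim_fiber_comp_embedding i f hie, hrange] at hmain
  refine le_trans (topDim_mono ?_) hmain
  refine Set.inter_subset_inter_right _ ?_
  refine closure_minimal ?_ hTcl
  rintro e ⟨heE, hes⟩
  obtain ⟨e', he'E, he'η, hsp⟩ := hE e heE hes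
  exact hsp.mem_closed hTcl (subset_closure ⟨he'E, he'η⟩)

end Groth.Agent.Lib.GenDimH8
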