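import Mathlib
import Groth.Agent.Lib.FieldExt1_helper8
import Groth.Agent.Lib.GenDim4_helper8

/-! Dimension of closures under extension of the base field. -/

universe u

namespace Groth.Agent.Lib.GenDimH8

open AlgebraicGeometry CategoryTheory Limits IsLocalRing TopologicalSpace

theorem topDim_range_embedding {A B : Type*} [TopologicalSpace A] [TopologicalSpace B]
    (i : A → B) (hi : Topology.IsEmbedding i) :
    topologicalKrullDim A = topologicalKrullDim ↥(Set.range i) :=
  IsHomeomorph.topologicalKrullDim_eq _ hi.toHomeomorph.isHomeomorph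

theorem topDim_preimage_closed_field (κ κ' : Type u) [Field κ] [Field κ'] {Z' Z : Scheme.{u}}
    (π : Z' ⟶ Z) (q' : Z' ⟶ Spec (CommRingCat.of κ')) (q : Z ⟶ Spec (CommRingCat.of κ))
    (ψ : CommRingCat.of κ ⟶ CommRingCat.of κ') (sq : IsPullback π q' q (Spec.map ψ))
    [LocallyOfFiniteType q] (W : Set Z) (hW : IsClosed W) :
    topologicalKrullDim ↥(π ⁻¹' W) = topologicalKrullDim ↥W := by
  let Wc : TopologicalSpace.Closeds Z := ⟨W, hW⟩
  let I : Z.IdealSheafData := Scheme.IdealSheafData.vanishingIdeal Wc
  have hsupp : (I.support : Set Z) = W := rfl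
  have hrange : Set.range I.subschemeι = W := by
    rw [Scheme.IdealSheafData.range_subschemeι, hsupp]
  let j := I.subschemeι
  have sqZ : IsPullback (pullback.snd j π) (pullback.fst j π) π j :=
    (IsPullback.of_hasPullback j π).flip
  have sq2 := sqZ.paste_horiz sq.flip
  let e : pullback j π ≅ pullback (j ≫ q) (Spec.map ψ) := sq2.flip.isoPullback
  have h1 := Groth.Agent.BCDimSchH8.dim_eq_of_iso e
  have h2 := Groth.Agent.BCDimSchH8.dim_pullback_field κ κ' I.subscheme (j ≫ q) ψ
  have hr : Set.range (pullback.snd j π) = π ⁻¹' W := by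
    rw [Scheme.Pullback.range_snd, hrange]
  rw [← hr, ← topDim_range_embedding _ (pullback.snd j π).isEmbedding, h1, h2,
    topDim_range_embedding _ j.isEmbedding, hrange]

theorem topDim_closure_preimage_field (κ κ' : Type u) [Field κ] [Field κ'] {Z' Z : Scheme.{u}}
    (π : Z' ⟶ Z) (q' : Z' ⟶ Spec (CommRingCat.of κ')) (q : Z ⟶ Spec (CommRingCat.of κ))
    (ψ : CommRingCat.of κ ⟶ CommRingCat.of κ') (sq : IsPullback π q' q (Spec.map ψ))
    [LocallyOfFiniteType q] (A : Set Z) :
    topologicalKrullDim ↥(closure (π ⁻¹' A)) = topologicalKrullDim ↥(closure A) := by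
  haveI : UniversallyOpen (Spec.map ψ) := inferInstance
  haveI : UniversallyOpen π := MorphismProperty.of_isPullback sq.flip inferInstance
  rw [← π.isOpenMap.preimage_closure_eq_closure_preimage π.continuous]
  exact topDim_preimage_closed_field κ κ' π q' q ψ sq _ isClosed_closure

end Groth.Agent.Lib.GenDimH8
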