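import Mathlib
import Groth.Agent.Lib.GenDim5_helper8

/-! Base change invariance of the dimension of the closure of a set in a fibre. -/

universe u

namespace Groth.Agent.Lib.GenDimH8

open AlgebraicGeometry CategoryTheory Limits IsLocalRing TopologicalSpace

/-- closure in the fibre as a subspace vs closure in the fibre scheme -/
theorem topDim_fiber_closure {X S : Scheme.{u}} (φ : X ⟶ S) (s : S) (E : Set X) :
    topologicalKrullDim ↥(φ ⁻¹' {s} ∩ closure (E ∩ φ ⁻¹' {s})) =
      topologicalKrullDim ↥(closure ((φ.fiberι s) ⁻¹' E)) := by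
  have hι := (φ.fiberι s).isEmbedding
  rw [hι.isInducing.closure_eq_preimage_closure_image, Set.image_preimage_eq_inter_range,
    topDim_preimage_embedding _ hι, Scheme.Hom.range_fiberι, Set.inter_comm]

theorem dim_baseChange_eq {X S X' S' : Scheme.{u}} (f : X ⟶ S) [LocallyOfFiniteType f]
    (g : S' ⟶ S) (g' : X' ⟶ X) (f' : X' ⟶ S') (hsq : IsPullback g' f' f g) (E : Set X)
    (s' : S') :
    topologicalKrullDim ↥(f' ⁻¹' {s'} ∩ closure (g' ⁻¹' E ∩ f' ⁻¹' {s'})) =
      topologicalKrullDim ↥(f ⁻¹' {g s'} ∩ closure (E ∩ f ⁻¹' {g s'})) := by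
  rw [topDim_fiber_closure, topDim_fiber_closure]
  have sq := isPullback_fiberToSpecResidueField_of_isPullback hsq s'
  set θ := pullback.map f' (S'.fromSpecResidueField s') f (S.fromSpecResidueField (g s'))
    g' (Spec.map (g.residueFieldMap s')) g hsq.w.symm (by simp) with hθ
  have hlft : LocallyOfFiniteType (f.fiberToSpecResidueField (g s')) :=
    Groth.Agent.FibRes2H8.lft_fiber f _
  have hι : θ ≫ f.fiberι (g s') = f'.fiberι s' ≫ g' := pullback.lift_fst _ _ _
  have hpre : (f'.fiberι s') ⁻¹' (g' ⁻¹' E) = θ ⁻¹' ((f.fiberι (g s')) ⁻¹' E) := by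
    ext z
    have h1 : g' (f'.fiberι s' z) = f.fiberι (g s') (θ z) := by
      have := congrArg (fun k : f'.fiber s' ⟶ X => k z) hι
      exact this.symm
    show g' (f'.fiberι s' z) ∈ E ↔ f.fiberι (g s') (θ z) ∈ E
    rw [h1]
  rw [hpre]
  exact @topDim_closure_preimage_field (S.residueField (g s')) (S'.residueField s') _ _ _ _
    θ (f'.fiberToSpecResidueField s') (f.fiberToSpecResidueField (g s'))
    (g.residueFieldMap s') sq hlft _

end Groth.Agent.Lib.GenDimH8
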