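import Mathlib
import Groth.Agent.S10837
import Groth.Agent.Lib.GenDim1_helper8
import Groth.Agent.Lib.GenDim6_helper8

/-! EGA IV 14.3: dimension of the closure of images in fibres does not go up under
specialization. -/

universe u

namespace Groth.Agent.Lib.GenDimH8

open AlgebraicGeometry CategoryTheory Limits IsLocalRing TopologicalSpace

theorem main4972 {X S : Scheme.{u}} (f : X ⟶ S) [LocallyOfFiniteType f]
    [QuasiCompact f] {ι : Type u} (Y : ι → Scheme.{u}) (g : ∀ i, Y i ⟶ S)
    [∀ i, UniversallyOpen (g i)]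
    (v : ∀ i, Y i ⟶ X) (hv : ∀ i, v i ≫ f = g i) (s s' : S) (hs : s' ⤳ s) :
    topologicalKrullDim ↥(f ⁻¹' {s} ∩ closure ((⋃ i, Set.range (v i)) ∩ f ⁻¹' {s})) ≤
      topologicalKrullDim ↥(f ⁻¹' {s'} ∩ closure ((⋃ i, Set.range (v i)) ∩ f ⁻¹' {s'})) := by
  obtain ⟨R, _, _, _, h, hη, hcl⟩ := exists_valuationRing_of_specializes s s' hs
  set E : Set X := ⋃ i, Set.range (v i) with hE
  have hsq : IsPullback (pullback.fst f h) (pullback.snd f h) f h := IsPullback.of_hasPullback f h
  rw [← hcl, ← hη, ← dim_baseChange_eq f h _ _ hsq E (closedPoint R),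
    ← dim_baseChange_eq f h _ _ hsq E (⟨⊥, Ideal.isPrime_bot⟩ : PrimeSpectrum R)]
  apply valuation_case
  intro e he hes
  rw [Set.mem_preimage, hE, Set.mem_iUnion] at he
  obtain ⟨i, y, hy⟩ := he
  obtain ⟨w, hw1, hw2⟩ := Scheme.Pullback.exists_preimage_pullback (f := v i)
    (g := pullback.fst f h) y e hy
  have big : IsPullback (pullback.snd (v i) (pullback.fst f h) ≫ pullback.snd f h)
      (pullback.fst (v i) (pullback.fst f h)) h (v i ≫ f) :=
    (IsPullback.of_hasPullback (v i) (pullback.fst f h)).flip.paste_horiz hsq.flip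
  rw [hv i] at big
  have hopen : IsOpenMap (pullback.snd (v i) (pullback.fst f h) ≫ pullback.snd f h) :=
    (inferInstance : UniversallyOpen (g i)).universally_isOpenMap _ _ _ big
  have hgen := Groth.Agent.S10837.result _ hopen
  have hηs : (⟨⊥, Ideal.isPrime_bot⟩ : PrimeSpectrum R) ⤳
      (pullback.snd (v i) (pullback.fst f h) ≫ pullback.snd f h) w := by
    refine (PrimeSpectrum.le_iff_specializes (⟨⊥, Ideal.isPrime_bot⟩ : PrimeSpectrum R) _).mp ?_
    exact bot_le
  obtain ⟨w', hw'1, hw'2⟩ := hgen hηs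
  refine ⟨pullback.snd (v i) (pullback.fst f h) w', ?_, ?_, ?_⟩
  · rw [Set.mem_preimage, hE, Set.mem_iUnion]
    refine ⟨i, pullback.fst (v i) (pullback.fst f h) w', ?_⟩
    rw [← Scheme.Hom.comp_apply, ← Scheme.Hom.comp_apply, pullback.condition]
  · rw [← Scheme.Hom.comp_apply]
    exact hw'2
  · rw [← hw2]
    exact hw'1.map (pullback.snd (v i) (pullback.fst f h)).continuous

end Groth.Agent.Lib.GenDimH8
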