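import Mathlib

/-!
# Generic finite presentation (helper4)

For an injective finite type map of domains `R → S` there is `g ≠ 0` in `S` with `S_g` finitely
presented over `R`.
-/

namespace Groth.Agent.Lib.GenFPH4

open Polynomial

universe u

/-- Pseudo-division by a nonzero polynomial over a domain. -/
theorem pseudo_div {A : Type*} [CommRing A] [IsDomain A] (p : A[X]) (hp : p ≠ 0) (q : A[X]) :
    ∃ (j : ℕ) (t r : A[X]), C p.leadingCoeff ^ j * q = p * t + r ∧ r.degree < p.degree := by
  refine Polynomial.degree_lt_wf.induction
    (C := fun q => ∃ (j : ℕ) (t r : A[X]),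
      C p.leadingCoeff ^ j * q = p * t + r ∧ r.degree < p.degree) q ?_
  intro q ih
  by_cases hlt : q.degree < p.degree
  · exact ⟨0, 0, q, by simp, hlt⟩
  · have hle : p.degree ≤ q.degree := not_lt.mp hlt
    have hq : q ≠ 0 := by
      rintro rfl
      rw [degree_zero] at hle
      exact hp (degree_eq_bot.mp (le_bot_iff.mp hle))
    have hnat : p.natDegree ≤ q.natDegree := natDegree_le_natDegree hle
    have ha0 : p.leadingCoeff ≠ 0 := leadingCoeff_ne_zero.mpr hp
    have hb0 : q.leadingCoeff ≠ 0 := leadingCoeff_ne_zero.mpr hq
    obtain ⟨q', hq'⟩ : ∃ q' : A[X], q' = C p.leadingCoeff * q -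
        C q.leadingCoeff * X ^ (q.natDegree - p.natDegree) * p := ⟨_, rfl⟩
    have hdeg : q'.degree < q.degree := by
      have h1 : (C p.leadingCoeff * q).degree = q.degree := degree_C_mul ha0
      have h2 : (C q.leadingCoeff * X ^ (q.natDegree - p.natDegree) * p).degree = q.degree := by
        rw [degree_mul, degree_mul, degree_C hb0, degree_X_pow, zero_add,
          degree_eq_natDegree hp, degree_eq_natDegree hq, ← Nat.cast_add,
          Nat.sub_add_cancel hnat]
      have h3 : (C p.leadingCoeff * q).leadingCoeff =
          (C q.leadingCoeff * X ^ (q.natDegree - p.natDegree) * p).leadingCoeff := by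
        simp only [leadingCoeff_mul, leadingCoeff_C, leadingCoeff_X_pow, mul_one]
        ring
      have h4 := degree_sub_lt_left (h1.trans h2.symm)
        (mul_ne_zero (C_ne_zero.mpr ha0) hq) h3
      rw [h1, ← hq'] at h4
      exact h4
    obtain ⟨j, t, r, hjr, hr⟩ := ih q' hdeg
    refine ⟨j + 1, t + C p.leadingCoeff ^ j *
      (C q.leadingCoeff * X ^ (q.natDegree - p.natDegree)), r, ?_, hr⟩
    have h5 : C p.leadingCoeff ^ (j + 1) * q = C p.leadingCoeff ^ j * q' +
        C p.leadingCoeff ^ j * (C q.leadingCoeff * X ^ (q.natDegree - p.natDegree) * p) := by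
      rw [hq']
      ring
    rw [h5, hjr]
    ring

/-- Transfer of finite presentation between two models of the same localization. -/
theorem fp_transfer {R S : Type u} [CommRing R] [CommRing S] [Algebra R S] (g : S)
    (Sg Sg' : Type u) [CommRing Sg] [CommRing Sg'] [Algebra S Sg] [Algebra S Sg']
    [Algebra R Sg] [Algebra R Sg'] [IsScalarTower R S Sg] [IsScalarTower R S Sg']
    [IsLocalization.Away g Sg] [IsLocalization.Away g Sg']
    [Algebra.FinitePresentation R Sg] : Algebra.FinitePresentation R Sg' :=
  Algebra.FinitePresentation.equiv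
    ((IsLocalization.algEquiv (Submonoid.powers g) Sg Sg').restrictScalars R)

/-- If `B` is f.p. over `A` and `A_a` is f.p. over `R`, then `B_a` is f.p. over `R`. -/
theorem fp_away_of_fp {R A B : Type u} [CommRing R] [CommRing A] [CommRing B] [Algebra R A]
    [Algebra A B] [Algebra R B] [IsScalarTower R A B]
    [Algebra.FinitePresentation A B] (a : A)
    [Algebra.FinitePresentation R (Localization.Away a)] :
    Algebra.FinitePresentation R (Localization.Away (algebraMap A B a)) := by
  haveI : Algebra.FinitePresentation B (Localization.Away (algebraMap A B a)) :=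
    IsLocalization.Away.finitePresentation (algebraMap A B a)
  haveI : Algebra.FinitePresentation A (Localization.Away (algebraMap A B a)) :=
    Algebra.FinitePresentation.trans A B _
  haveI : Algebra.FinitePresentation A (Localization.Away a) :=
    IsLocalization.Away.finitePresentation a
  have hu : IsUnit ((algebraMap A (Localization.Away (algebraMap A B a))) a) := by
    rw [IsScalarTower.algebraMap_apply A B (Localization.Away (algebraMap A B a))]
    exact IsLocalization.Away.algebraMap_isUnit _
  letI : Algebra (Localization.Away a) (Localization.Away (algebraMap A B a)) :=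
    (IsLocalization.Away.lift a hu).toAlgebra
  haveI : IsScalarTower A (Localization.Away a) (Localization.Away (algebraMap A B a)) :=
    IsScalarTower.of_algebraMap_eq (fun y => (IsLocalization.Away.lift_eq a hu y).symm)
  haveI : IsScalarTower R (Localization.Away a) (Localization.Away (algebraMap A B a)) := by
    apply IsScalarTower.of_algebraMap_eq
    intro r
    rw [IsScalarTower.algebraMap_apply R A (Localization.Away a),
      ← IsScalarTower.algebraMap_apply A (Localization.Away a)
        (Localization.Away (algebraMap A B a)),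
      ← IsScalarTower.algebraMap_apply R A (Localization.Away (algebraMap A B a))]
  haveI : Algebra.FinitePresentation (Localization.Away a)
      (Localization.Away (algebraMap A B a)) :=
    Algebra.FinitePresentation.of_restrict_scalars_finitePresentation A _ _
  exact Algebra.FinitePresentation.trans R (Localization.Away a) _

set_option maxHeartbeats 1600000 in
/-- One generator: `B = A[x]` domains; then `B_a` is f.p. over `A` for some `a ≠ 0`. -/
theorem one_gen {A B : Type u} [CommRing A] [IsDomain A] [CommRing B] [IsDomain B] [Algebra A B]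
    (hinj : Function.Injective (algebraMap A B)) (x : B) (hx : Algebra.adjoin A {x} = ⊤) :
    ∃ a : A, a ≠ 0 ∧ Algebra.FinitePresentation A (Localization.Away (algebraMap A B a)) := by
  classical
  have hsurj : Function.Surjective (Polynomial.aeval (R := A) x) := by
    rw [← AlgHom.range_eq_top, ← Algebra.adjoin_singleton_eq_range_aeval, hx]
  by_cases hI : RingHom.ker (Polynomial.aeval (R := A) x).toRingHom = ⊥
  · haveI : Algebra.FinitePresentation A B :=
      Algebra.FinitePresentation.of_surjective hsurj (by rw [hI]; exact Submodule.fg_bot)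
    refine ⟨1, one_ne_zero, ?_⟩
    haveI : Algebra.FinitePresentation B (Localization.Away (algebraMap A B 1)) :=
      IsLocalization.Away.finitePresentation (algebraMap A B 1)
    exact Algebra.FinitePresentation.trans A B _
  · obtain ⟨p₀, hp₀I, hp₀0⟩ := Submodule.exists_mem_ne_zero_of_ne_bot hI
    obtain ⟨p, ⟨hpI, hp0⟩, hmin⟩ := Polynomial.degree_lt_wf.has_min
      {q : A[X] | q ∈ RingHom.ker (Polynomial.aeval (R := A) x).toRingHom ∧ q ≠ 0}
      ⟨p₀, hp₀I, hp₀0⟩
    have hpx : Polynomial.aeval x p = 0 := RingHom.mem_ker.mp hpI
    obtain ⟨a, ha_def⟩ : ∃ a : A, a = p.leadingCoeff := ⟨_, rfl⟩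
    have ha0 : a ≠ 0 := by
      rw [ha_def]
      exact Polynomial.leadingCoeff_ne_zero.mpr hp0
    have hα0 : algebraMap A B a ≠ 0 := fun h => ha0 (hinj (by rw [h, map_zero]))
    refine ⟨a, ha0, ?_⟩
    have hBinj : Function.Injective (algebraMap B (Localization.Away (algebraMap A B a))) :=
      IsLocalization.injective _ (powers_le_nonZeroDivisors_of_noZeroDivisors hα0)
    haveI : Algebra.FinitePresentation A[X] (Localization.Away (Polynomial.C a : A[X])) :=
      IsLocalization.Away.finitePresentation (Polynomial.C a : A[X])
    haveI : Algebra.FinitePresentation A (Localization.Away (Polynomial.C a : A[X])) :=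
      Algebra.FinitePresentation.trans A A[X] _
    obtain ⟨G, hG⟩ : ∃ G : A[X] →+* Localization.Away (algebraMap A B a),
        ∀ q, G q = algebraMap B (Localization.Away (algebraMap A B a))
          (Polynomial.aeval x q) :=
      ⟨(algebraMap B _).comp (Polynomial.aeval (R := A) x).toRingHom, fun q => rfl⟩
    have hαu : IsUnit (algebraMap B (Localization.Away (algebraMap A B a))
        (algebraMap A B a)) := IsLocalization.Away.algebraMap_isUnit _
    have hGu : IsUnit (G (Polynomial.C a)) := by
      rw [hG, Polynomial.aeval_C]
      exact hαu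
    obtain ⟨F₀, hF₀⟩ : ∃ F₀ : Localization.Away (Polynomial.C a : A[X]) →+*
        Localization.Away (algebraMap A B a),
        ∀ q : A[X], F₀ (algebraMap A[X] (Localization.Away (Polynomial.C a : A[X])) q) =
          algebraMap B (Localization.Away (algebraMap A B a)) (Polynomial.aeval x q) :=
      ⟨IsLocalization.Away.lift (Polynomial.C a) hGu,
        fun q => by rw [IsLocalization.Away.lift_eq, hG]⟩
    have hcomm : ∀ r : A, F₀ (algebraMap A (Localization.Away (Polynomial.C a : A[X])) r) =
        algebraMap A (Localization.Away (algebraMap A B a)) r := by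
      intro r
      rw [IsScalarTower.algebraMap_apply A A[X] (Localization.Away (Polynomial.C a : A[X])), hF₀,
        ← Polynomial.C_eq_algebraMap, Polynomial.aeval_C,
        ← IsScalarTower.algebraMap_apply A B]
    let F : Localization.Away (Polynomial.C a : A[X]) →ₐ[A]
        Localization.Away (algebraMap A B a) :=
      { F₀ with commutes' := hcomm }
    obtain ⟨ca, hca_def⟩ : ∃ ca : Localization.Away (Polynomial.C a : A[X]),
        ca = algebraMap A[X] (Localization.Away (Polynomial.C a : A[X])) (Polynomial.C a) :=
      ⟨_, rfl⟩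
    have hca : IsUnit ca := by
      rw [hca_def]
      exact IsLocalization.Away.algebraMap_isUnit _
    obtain ⟨ci, hci⟩ : ∃ ci, ca * ci = 1 := ⟨↑hca.unit⁻¹, hca.mul_val_inv⟩
    have hFca : F₀ ca = algebraMap B (Localization.Away (algebraMap A B a))
        (algebraMap A B a) := by
      rw [hca_def, hF₀, Polynomial.aeval_C]
    have hFci : algebraMap B (Localization.Away (algebraMap A B a)) (algebraMap A B a) * F₀ ci
        = 1 := by
      rw [← hFca, ← map_mul, hci, map_one]
    have hFsurj : Function.Surjective F := by
      intro w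
      obtain ⟨k, b, hkb⟩ := IsLocalization.Away.surj (algebraMap A B a) w
      obtain ⟨q, rfl⟩ := hsurj b
      refine ⟨algebraMap A[X] _ q * ci ^ k, ?_⟩
      have h3 : F₀ ci ^ k * algebraMap B (Localization.Away (algebraMap A B a))
          (algebraMap A B a) ^ k = 1 := by
        rw [← mul_pow, mul_comm, hFci, one_pow]
      have h4 : F₀ (algebraMap A[X] _ q * ci ^ k) *
          algebraMap B (Localization.Away (algebraMap A B a)) (algebraMap A B a) ^ k =
          w * algebraMap B (Localization.Away (algebraMap A B a)) (algebraMap A B a) ^ k := by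
        rw [hkb, map_mul, map_pow, hF₀, mul_assoc, h3, mul_one]
      exact (hαu.pow k).mul_left_injective h4
    have hker : RingHom.ker F.toRingHom =
        Ideal.span {algebraMap A[X] (Localization.Away (Polynomial.C a : A[X])) p} := by
      apply le_antisymm
      · intro z hz
        have hz' : F₀ z = 0 := RingHom.mem_ker.mp hz
        obtain ⟨k, q, hkq⟩ := IsLocalization.Away.surj (Polynomial.C a : A[X]) z
        rw [← hca_def] at hkq
        have h1 : algebraMap B (Localization.Away (algebraMap A B a))
            (Polynomial.aeval x q) = 0 := by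
          rw [← hF₀, ← hkq, map_mul, hz', zero_mul]
        have h2 : Polynomial.aeval x q = 0 := hBinj (by rw [h1, map_zero])
        obtain ⟨j, t, r, hjr, hr⟩ := pseudo_div p hp0 q
        have h3 : Polynomial.aeval x r = 0 := by
          have h4 := congrArg (Polynomial.aeval x) hjr
          rw [map_mul, map_add, map_mul, h2, hpx, mul_zero, zero_mul, zero_add] at h4
          exact h4.symm
        have hr0 : r = 0 := by
          by_contra hr0
          exact hmin r ⟨RingHom.mem_ker.mpr h3, hr0⟩ hr
        rw [hr0, add_zero, ← ha_def] at hjr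
        rw [Ideal.mem_span_singleton']
        refine ⟨algebraMap A[X] _ t * ci ^ (k + j), ?_⟩
        have h5 := congrArg (algebraMap A[X] (Localization.Away (Polynomial.C a : A[X]))) hjr
        rw [map_mul, map_mul, map_pow, ← hca_def] at h5
        have h6 : ci ^ (k + j) * ca ^ (k + j) = 1 := by
          rw [← mul_pow, mul_comm, hci, one_pow]
        linear_combination (-(ci ^ (k + j))) * h5 - (ci ^ (k + j) * ca ^ j) * hkq + z * h6
      · rw [Ideal.span_le, Set.singleton_subset_iff, SetLike.mem_coe, RingHom.mem_ker]
        show F₀ (algebraMap A[X] _ p) = 0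
        rw [hF₀, hpx, map_zero]
    exact Algebra.FinitePresentation.of_surjective hFsurj
      (by rw [hker]; exact Submodule.fg_span_singleton _)

theorem gen_sub {R S : Type u} [CommRing R] [CommRing S] [Algebra R S] {n : ℕ}
    (s' : Fin n → S) :
    ∃ t : Fin n → ↥(Algebra.adjoin R (Set.range s')), Algebra.adjoin R (Set.range t) = ⊤ := by
  refine ⟨fun i => ⟨s' i, Algebra.subset_adjoin (Set.mem_range_self i)⟩, ?_⟩
  have h : Set.range (fun i => (⟨s' i, Algebra.subset_adjoin (Set.mem_range_self i)⟩ :
      ↥(Algebra.adjoin R (Set.range s'))))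
      = ((↑) : ↥(Algebra.adjoin R (Set.range s')) → S) ⁻¹' (Set.range s') := by
    ext y
    constructor
    · rintro ⟨i, rfl⟩
      exact ⟨i, rfl⟩
    · rintro ⟨i, hi⟩
      exact ⟨i, Subtype.ext hi⟩
  rw [h]
  exact Algebra.adjoin_adjoin_coe_preimage

theorem gen_last {R S : Type u} [CommRing R] [CommRing S] [Algebra R S] {n : ℕ}
    (s : Fin (n + 1) → S) (hs : Algebra.adjoin R (Set.range s) = ⊤) :
    Algebra.adjoin ↥(Algebra.adjoin R (Set.range (s ∘ Fin.castSucc))) {s (Fin.last n)} = ⊤ := by
  rw [eq_top_iff]
  intro y _
  have h1 : Algebra.adjoin R (Set.range s) ≤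
      (Algebra.adjoin ↥(Algebra.adjoin R (Set.range (s ∘ Fin.castSucc)))
        {s (Fin.last n)}).restrictScalars R := by
    apply Algebra.adjoin_le
    rintro _ ⟨i, rfl⟩
    induction i using Fin.lastCases with
    | last => exact Algebra.subset_adjoin (Set.mem_singleton _)
    | cast j =>
      have h2 : s (Fin.castSucc j) ∈ Algebra.adjoin R (Set.range (s ∘ Fin.castSucc)) :=
        Algebra.subset_adjoin ⟨j, rfl⟩
      have h4 := Subalgebra.algebraMap_mem
        (Algebra.adjoin ↥(Algebra.adjoin R (Set.range (s ∘ Fin.castSucc))) {s (Fin.last n)})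
        (⟨s (Fin.castSucc j), h2⟩ : ↥(Algebra.adjoin R (Set.range (s ∘ Fin.castSucc))))
      exact h4
  have h3 : y ∈ Algebra.adjoin R (Set.range s) := by
    rw [hs]
    exact Algebra.mem_top
  exact h1 h3

/-- The inductive step, with the intermediate ring abstract. -/
theorem step {R A S : Type u} [CommRing R] [CommRing A] [CommRing S] [IsDomain S] [Algebra R A]
    [Algebra A S] [Algebra R S] [IsScalarTower R A S]
    (hAinj : Function.Injective (algebraMap A S)) (g' : A) (hg' : g' ≠ 0)
    [Algebra.FinitePresentation R (Localization.Away g')] (a : A) (ha : a ≠ 0)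
    [Algebra.FinitePresentation A (Localization.Away (algebraMap A S a))] :
    ∃ g : S, g ≠ 0 ∧ Algebra.FinitePresentation R (Localization.Away g) := by
  haveI h1 : Algebra.FinitePresentation R
      (Localization.Away (algebraMap A (Localization.Away (algebraMap A S a)) g')) :=
    fp_away_of_fp (R := R) (A := A) (B := Localization.Away (algebraMap A S a)) g'
  have e1 : algebraMap A (Localization.Away (algebraMap A S a)) g' =
      algebraMap S (Localization.Away (algebraMap A S a)) (algebraMap A S g') :=
    IsScalarTower.algebraMap_apply A S _ g'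
  haveI h2 : IsLocalization.Away
      (algebraMap S (Localization.Away (algebraMap A S a)) (algebraMap A S g'))
      (Localization.Away (algebraMap A (Localization.Away (algebraMap A S a)) g')) := by
    rw [← e1]
    infer_instance
  haveI h3 : IsLocalization.Away (algebraMap A S a * algebraMap A S g')
      (Localization.Away (algebraMap A (Localization.Away (algebraMap A S a)) g')) :=
    IsLocalization.Away.mul' (Localization.Away (algebraMap A S a)) _ _ _
  refine ⟨algebraMap A S a * algebraMap A S g', mul_ne_zero ?_ ?_, ?_⟩
  · exact fun h => ha (hAinj (by rw [h, map_zero]))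
  · exact fun h => hg' (hAinj (by rw [h, map_zero]))
  · exact fp_transfer (algebraMap A S a * algebraMap A S g')
      (Localization.Away (algebraMap A (Localization.Away (algebraMap A S a)) g'))
      (Localization.Away (algebraMap A S a * algebraMap A S g'))

theorem main_ind : ∀ (n : ℕ) (R S : Type u) [CommRing R] [IsDomain R] [CommRing S] [IsDomain S]
    [Algebra R S], Function.Injective (algebraMap R S) → ∀ s : Fin n → S,
    Algebra.adjoin R (Set.range s) = ⊤ →
    ∃ g : S, g ≠ 0 ∧ Algebra.FinitePresentation R (Localization.Away g) := by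
  intro n
  induction n with
  | zero =>
    intro R S _ _ _ _ _ hinj s hs
    have hbot : (⊥ : Subalgebra R S) = ⊤ := by
      rw [← hs, Set.range_eq_empty s, Algebra.adjoin_empty]
    have hsurj : Function.Surjective (Algebra.ofId R S) := by
      intro y
      have hy : y ∈ (⊥ : Subalgebra R S) := by
        rw [hbot]
        exact Algebra.mem_top
      obtain ⟨r, hr⟩ := Algebra.mem_bot.mp hy
      exact ⟨r, hr⟩
    have hker : RingHom.ker (Algebra.ofId R S).toRingHom = ⊥ :=
      (RingHom.injective_iff_ker_eq_bot _).mp hinj
    haveI : Algebra.FinitePresentation R S :=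
      Algebra.FinitePresentation.of_surjective hsurj (by rw [hker]; exact Submodule.fg_bot)
    refine ⟨1, one_ne_zero, ?_⟩
    haveI : Algebra.FinitePresentation S (Localization.Away (1 : S)) :=
      IsLocalization.Away.finitePresentation (1 : S)
    exact Algebra.FinitePresentation.trans R S _
  | succ n ih =>
    intro R S _ _ _ _ _ hinj s hs
    obtain ⟨t, ht⟩ := gen_sub (R := R) (s ∘ Fin.castSucc)
    have hx := gen_last s hs
    have hinj' : Function.Injective
        (algebraMap ↥(Algebra.adjoin R (Set.range (s ∘ Fin.castSucc))) S) :=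
      fun y z h => Subtype.ext h
    have hinjR : Function.Injective
        (algebraMap R ↥(Algebra.adjoin R (Set.range (s ∘ Fin.castSucc)))) := by
      intro r₁ r₂ h
      apply hinj
      have h1 := congrArg (algebraMap ↥(Algebra.adjoin R (Set.range (s ∘ Fin.castSucc))) S) h
      rwa [← IsScalarTower.algebraMap_apply, ← IsScalarTower.algebraMap_apply] at h1
    obtain ⟨g', hg'0, hfp'⟩ :=
      ih R ↥(Algebra.adjoin R (Set.range (s ∘ Fin.castSucc))) hinjR t ht
    obtain ⟨a, ha0, hfpa⟩ := one_gen hinj' (s (Fin.last n)) hx
    haveI := hfp'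
    haveI := hfpa
    exact step (R := R) hinj' g' hg'0 a ha0

theorem main {R S : Type u} [CommRing R] [IsDomain R] [CommRing S] [IsDomain S]
    [Algebra R S] [Algebra.FiniteType R S] (hinj : Function.Injective (algebraMap R S)) :
    ∃ (f : R) (g : S), f ≠ 0 ∧ g ≠ 0 ∧
      ∀ (Rf Sfg : Type u) [CommRing Rf] [CommRing Sfg] [Algebra R Rf] [IsLocalization.Away f Rf]
        [Algebra S Sfg] [IsLocalization.Away (algebraMap R S f * g) Sfg] [Algebra Rf Sfg]
        [Algebra R Sfg] [IsScalarTower R S Sfg] [IsScalarTower R Rf Sfg],
        Algebra.FinitePresentation Rf Sfg := by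
  obtain ⟨n, s, hs⟩ : ∃ (n : ℕ) (s : Fin n → S), Algebra.adjoin R (Set.range s) = ⊤ := by
    obtain ⟨n, f, hf⟩ :=
      Algebra.FiniteType.iff_quotient_mvPolynomial''.mp ‹Algebra.FiniteType R S›
    refine ⟨n, fun i => f (MvPolynomial.X i), ?_⟩
    rw [Algebra.adjoin_range_eq_range_aeval]
    have h1 : MvPolynomial.aeval (fun i => f (MvPolynomial.X i)) = f := by
      apply MvPolynomial.algHom_ext
      intro i
      rw [MvPolynomial.aeval_X]
    rw [h1, AlgHom.range_eq_top]
    exact hf
  obtain ⟨g, hg0, hfp⟩ := main_ind n R S hinj s hs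
  refine ⟨1, g, one_ne_zero, hg0, ?_⟩
  intro Rf Sfg _ _ _ _ _ hloc _ _ _ _
  have h1 : algebraMap R S 1 * g = g := by rw [map_one, one_mul]
  haveI : IsLocalization.Away g Sfg := h1 ▸ hloc
  haveI : Algebra.FinitePresentation R Sfg := fp_transfer g (Localization.Away g) Sfg
  haveI : Algebra.FinitePresentation R Rf := IsLocalization.Away.finitePresentation (1 : R)
  exact Algebra.FinitePresentation.of_restrict_scalars_finitePresentation R Rf Sfg

end Groth.Agent.Lib.GenFPH4
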