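import Mathlib
import Groth.Prelude
import Groth.Agent.Lib.ConstrNoeth_lead

set_option autoImplicit false
set_option linter.style.haveILetI false
set_option linter.unusedVariables false

universe u

open CategoryTheory AlgebraicGeometry TopologicalSpace Topology

namespace Groth.Agent.Lib.GenFibIrredH4

/-- Topological core: a map from a Noetherian space to an irreducible space, with constructible
images of opens, irreducible fibres over closed points of a nonempty open, and all irreducible
components dominating, has irreducible source. -/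
theorem topo_main {Y Z : Type u} [TopologicalSpace Y] [TopologicalSpace Z] [NoetherianSpace Y]
    [IrreducibleSpace Z] (φ : Y → Z) (hφ : Continuous φ)
    (h1 : ∀ O : Set Y, IsOpen O → IsConstructible (φ '' O))
    (V : Set Z) (hV : IsOpen V) (hVne : V.Nonempty)
    (h2 : ∀ z ∈ V, IsClosed ({z} : Set Z) → IsIrreducible (φ ⁻¹' {z}))
    (h3 : ∀ U : Set Z, IsOpen U → U.Nonempty → ∃ z ∈ U, IsClosed ({z} : Set Z))
    (h4 : ∀ W ∈ irreducibleComponents Y, Dense (φ '' W)) : IrreducibleSpace Y := by
  classical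
  have hfin : (irreducibleComponents Y).Finite := NoetherianSpace.finite_irreducibleComponents
  have hCclosed : ∀ W ∈ irreducibleComponents Y, IsClosed W :=
    fun W hW => isClosed_of_mem_irreducibleComponents W hW
  have hCirr : ∀ W ∈ irreducibleComponents Y, IsIrreducible W := fun W hW => hW.prop
  let O : Set Y → Set Y := fun W => (⋃ W' ∈ irreducibleComponents Y \ {W}, W')ᶜ
  have hOopen : ∀ W, IsOpen (O W) := fun W =>
    ((hfin.subset Set.diff_subset).isClosed_biUnion
      (fun W' hW' => hCclosed W' hW'.1)).isOpen_compl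
  have hOsub : ∀ W ∈ irreducibleComponents Y, O W ⊆ W := by
    intro W hW y hy
    by_contra hyW
    apply hy
    refine Set.mem_biUnion (x := irreducibleComponent y)
      ⟨irreducibleComponent_mem_irreducibleComponents y, ?_⟩ mem_irreducibleComponent
    intro heq
    have heq' : irreducibleComponent y = W := heq
    exact hyW (heq' ▸ mem_irreducibleComponent)
  have hOne : ∀ W ∈ irreducibleComponents Y, (O W).Nonempty := by
    intro W hW
    by_contra hempty
    rw [Set.not_nonempty_iff_eq_empty] at hempty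
    have hfinW : (irreducibleComponents Y \ {W}).Finite := hfin.subset Set.diff_subset
    have hcov : W ⊆ ⋃₀ (hfinW.toFinset : Set (Set Y)) := by
      intro y _
      have hy : y ∈ ⋃ W' ∈ irreducibleComponents Y \ {W}, W' := by
        by_contra hy
        have hyO : y ∈ O W := hy
        rw [hempty] at hyO
        exact hyO
      obtain ⟨W', hW', hyW'⟩ := Set.mem_iUnion₂.mp hy
      refine Set.mem_sUnion.mpr ⟨W', ?_, hyW'⟩
      rw [Set.Finite.coe_toFinset]
      exact hW'
    obtain ⟨W', hW', hWW'⟩ := (isIrreducible_iff_sUnion_isClosed.mp (hCirr W hW)) hfinW.toFinset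
      (fun W' hW' => hCclosed W' ((Set.Finite.mem_toFinset hfinW).mp hW').1) hcov
    have hW'2 := (Set.Finite.mem_toFinset hfinW).mp hW'
    have heq : W = W' := hW.eq_of_subset (hCirr W' hW'2.1) hWW'
    exact hW'2.2 heq.symm
  have hOdisj : ∀ W ∈ irreducibleComponents Y, ∀ W' ∈ irreducibleComponents Y, W ≠ W' →
      ∀ y, y ∈ O W → y ∈ O W' → False := by
    intro W hW W' hW' hne y hy1 hy2
    apply hy2
    exact Set.mem_biUnion (x := W) ⟨hW, fun h => hne h⟩ (hOsub W hW hy1)
  have hU : ∀ W ∈ irreducibleComponents Y,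
      ∃ U : Set Z, IsOpen U ∧ U.Nonempty ∧ U ⊆ φ '' O W := by
    intro W hW
    have hWcl : W ⊆ closure (O W) := by
      intro y hy
      rw [mem_closure_iff]
      intro N hN hyN
      obtain ⟨y', hy'O⟩ := hOne W hW
      obtain ⟨w, -, hw⟩ := (hCirr W hW).isPreirreducible N (O W) hN (hOopen W) ⟨y, hy, hyN⟩
        ⟨y', hOsub W hW hy'O, hy'O⟩
      exact ⟨w, hw⟩
    have hdense : Dense (φ '' O W) := by
      intro z
      have hsub : φ '' W ⊆ closure (φ '' O W) :=
        (Set.image_mono hWcl).trans (image_closure_subset_closure_image hφ)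
      exact closure_minimal hsub isClosed_closure (h4 W hW z)
    obtain ⟨U, hUo, hUne, hUor⟩ :=
      Groth.Agent.Lib.ConstrNoeth_lead.exists_open_inter_subset_or (h1 (O W) (hOopen W))
        (IrreducibleSpace.isIrreducible_univ Z)
    rw [Set.inter_univ] at hUne hUor
    rcases hUor with h | h
    · exact ⟨U, hUo, hUne, h⟩
    · exfalso
      obtain ⟨z, hzU, hzE⟩ := hdense.inter_open_nonempty U hUo hUne
      exact h hzU hzE
  have huniq : ∀ W₁ ∈ irreducibleComponents Y, ∀ W₂ ∈ irreducibleComponents Y, W₁ = W₂ := by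
    intro W₁ hW₁ W₂ hW₂
    by_contra hne
    obtain ⟨U₁, hU₁o, hU₁ne, hU₁⟩ := hU W₁ hW₁
    obtain ⟨U₂, hU₂o, hU₂ne, hU₂⟩ := hU W₂ hW₂
    have hne1 : (V ∩ U₁).Nonempty := nonempty_preirreducible_inter hV hU₁o hVne hU₁ne
    have hne2 : ((V ∩ U₁) ∩ U₂).Nonempty :=
      nonempty_preirreducible_inter (hV.inter hU₁o) hU₂o hne1 hU₂ne
    obtain ⟨z, ⟨⟨hzV, hzU₁⟩, hzU₂⟩, hzcl⟩ := h3 _ ((hV.inter hU₁o).inter hU₂o) hne2
    have hF := h2 z hzV hzcl
    obtain ⟨y₁, hy₁, hy₁z⟩ := hU₁ hzU₁
    obtain ⟨y₂, hy₂, hy₂z⟩ := hU₂ hzU₂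
    obtain ⟨w, -, hw⟩ := hF.isPreirreducible (O W₁) (O W₂) (hOopen W₁) (hOopen W₂)
      ⟨y₁, hy₁z, hy₁⟩ ⟨y₂, hy₂z, hy₂⟩
    exact hOdisj W₁ hW₁ W₂ hW₂ hne w hw.1 hw.2
  obtain ⟨z₀, hz₀V, hz₀cl⟩ := h3 V hV hVne
  obtain ⟨y₀, -⟩ := (h2 z₀ hz₀V hz₀cl).nonempty
  have huniv : irreducibleComponent y₀ = Set.univ := by
    apply Set.eq_univ_of_forall
    intro y
    rw [huniq _ (irreducibleComponent_mem_irreducibleComponents y₀) _
      (irreducibleComponent_mem_irreducibleComponents y)]
    exact mem_irreducibleComponent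
  have hirr : IsIrreducible (Set.univ : Set Y) := huniv ▸ isIrreducible_irreducibleComponent
  exact (irreducibleSpace_def Y).mpr hirr

theorem exists_closed_point {Z : Type u} [TopologicalSpace Z] [JacobsonSpace Z]
    (U : Set Z) (hU : IsOpen U) (hUne : U.Nonempty) : ∃ z ∈ U, IsClosed ({z} : Set Z) := by
  by_contra hno
  push_neg at hno
  have hcl : closure (Set.univ ∩ closedPoints Z) = Set.univ :=
    closure_inter_closedPoints isClosed_univ
  have hsub : Set.univ ∩ closedPoints Z ⊆ Uᶜ :=
    fun z hz hzU => hno z hzU (mem_closedPoints_iff.mp hz.2)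
  have huniv : (Set.univ : Set Z) ⊆ Uᶜ := hcl ▸ closure_minimal hsub hU.isClosed_compl
  obtain ⟨z, hz⟩ := hUne
  exact huniv (Set.mem_univ z) hz

theorem main (Y Z : Scheme.{0}) (g : Z ⟶ Spec (CommRingCat.of ℂ)) (f : Y ⟶ Z)
    [LocallyOfFiniteType g] [QuasiCompact g] [LocallyOfFiniteType f] [QuasiCompact f]
    [IrreducibleSpace Z]
    (hgen : ∃ V : Z.Opens, (V : Set Z).Nonempty ∧
      ∀ z ∈ V, IsClosed ({z} : Set Z) → IsIrreducible (f.base ⁻¹' {z}))
    (hdom : ∀ W ∈ irreducibleComponents Y, Dense (f.base '' W)) :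
    IrreducibleSpace Y := by
  haveI : IsJacobsonRing (CommRingCat.of ℂ) := inferInstanceAs (IsJacobsonRing ℂ)
  haveI : IsLocallyNoetherian Z := LocallyOfFiniteType.isLocallyNoetherian g
  haveI : CompactSpace Z := QuasiCompact.compactSpace_of_compactSpace g
  haveI : JacobsonSpace Z := LocallyOfFiniteType.jacobsonSpace g
  haveI : IsLocallyNoetherian Y := LocallyOfFiniteType.isLocallyNoetherian f
  haveI : CompactSpace Y := QuasiCompact.compactSpace_of_compactSpace f
  haveI : IsNoetherian Y := {}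
  haveI : IsNoetherian Z := {}
  haveI : NoetherianSpace Y := inferInstance
  haveI : QuasiSeparatedSpace Y := inferInstance
  haveI : QuasiSeparatedSpace Z := inferInstance
  haveI : LocallyOfFinitePresentation f := inferInstance
  obtain ⟨V, hVne, hV⟩ := hgen
  refine topo_main (⇑f) f.continuous ?_ (V : Set Z) V.isOpen hVne hV ?_ hdom
  · intro O hO
    exact f.isConstructible_image ((NoetherianSpace.isCompact O).isConstructible hO)
  · intro U hU hUne
    exact exists_closed_point U hU hUne

end Groth.Agent.Lib.GenFibIrredH4
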