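import Mathlib
import Groth.Prelude

set_option autoImplicit false
set_option linter.style.haveILetI false
set_option linter.unusedVariables false

universe u

open CategoryTheory CategoryTheory.Limits AlgebraicGeometry TopologicalSpace Opposite

namespace Groth.Agent.Lib.GenFibreSubH4

variable {X Y : Scheme.{u}}

theorem quasiFiniteAt_of_finite_fiber (f : X ⟶ Y) [LocallyOfFiniteType f] (x₀ : X)
    (hfin : Finite ↥(f.fiber (f x₀))) : f.QuasiFiniteAt x₀ := by
  haveI := hfin
  haveI : LocallyOfFiniteType (f.fiberToSpecResidueField (f x₀)) :=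
    MorphismProperty.pullback_snd _ _ inferInstance
  haveI : LocallyQuasiFinite (f.fiberToSpecResidueField (f x₀)) :=
    LocallyQuasiFinite.of_finite_preimage_singleton _ (fun _ => Set.toFinite _)
  haveI : IsLocallyArtinian (Spec (Y.residueField (f x₀))) :=
    Scheme.isLocallyArtinianScheme_Spec.mpr inferInstance
  haveI : IsLocallyArtinian (f.fiber (f x₀)) :=
    IsLocallyArtinian.of_locallyQuasiFinite (f.fiberToSpecResidueField (f x₀))
  rw [Scheme.Hom.quasiFiniteAt_iff_isOpen_singleton_asFiber]
  exact isOpen_discrete _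

theorem eq_generic_of_same_fiber [IrreducibleSpace X] (f : X ⟶ Y) [LocallyOfFiniteType f]
    (hq : f.QuasiFiniteAt (genericPoint X)) (x : X) (hx : f x = f (genericPoint X)) :
    x = genericPoint X := by
  have hcl : IsClosed ({f.asFiber (genericPoint X)} : Set (f.fiber (f (genericPoint X)))) :=
    hq.isClopen_singleton_asFiber.1
  have hcl2 : IsClosed ((f.fiberHomeo (f (genericPoint X))) '' {f.asFiber (genericPoint X)}) :=
    (f.fiberHomeo _).isClosed_image.mpr hcl
  have himg : (f.fiberHomeo (f (genericPoint X))) '' {f.asFiber (genericPoint X)} =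
      {⟨genericPoint X, rfl⟩} := by
    rw [Set.image_singleton]
    congr 1
    exact (f.fiberHomeo _).apply_symm_apply _
  rw [himg] at hcl2
  have hsp : (⟨genericPoint X, rfl⟩ : f ⁻¹' {f (genericPoint X)}) ⤳ ⟨x, hx⟩ :=
    (subtype_specializes_iff _ _).mpr (genericPoint_specializes x)
  have h3 := hsp.mem_closed hcl2 (Set.mem_singleton _)
  exact congrArg Subtype.val (Set.mem_singleton_iff.mp h3)

theorem main11561 {X Y : Scheme.{u}} (f : X ⟶ Y)
    [IsLocallyNoetherian Y] [IrreducibleSpace ↥Y] [IrreducibleSpace ↥X] [LocallyOfFiniteType f]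
    [QuasiCompact f] (y : Y) [Nonempty ↥(f.fiber y)] [Finite ↥(f.fiber y)] :
    Subsingleton ↥(f.fiber (genericPoint ↥Y)) := by
  obtain ⟨z⟩ := ‹Nonempty ↥(f.fiber y)›
  have hx₀ : f (f.fiberι y z) = y := by
    have h1 : f.fiberι y z ∈ Set.range (f.fiberι y) := ⟨z, rfl⟩
    rw [f.range_fiberι y] at h1
    exact h1
  have hq0 : f.QuasiFiniteAt (f.fiberι y z) := by
    apply quasiFiniteAt_of_finite_fiber
    rw [hx₀]; infer_instance
  have hopen := f.isOpen_quasiFiniteAt
  have hq : f.QuasiFiniteAt (genericPoint X) := by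
    have h2 := (genericPoint_spec (α := X)).mem_open_set_iff hopen
    exact h2.mpr ⟨f.fiberι y z, Set.mem_univ _, hq0⟩
  have key : ∀ w : f.fiber (genericPoint Y), f.fiberι _ w = genericPoint X := by
    intro w
    have hw : f (f.fiberι _ w) = genericPoint Y := by
      have h1 : f.fiberι _ w ∈ Set.range (f.fiberι (genericPoint Y)) := ⟨w, rfl⟩
      rw [f.range_fiberι] at h1
      exact h1
    have hgen : f (genericPoint X) = genericPoint Y := by
      have h1 : f (genericPoint X) ⤳ f (f.fiberι _ w) :=
        (genericPoint_specializes _).map f.continuous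
      rw [hw] at h1
      exact (h1.antisymm (genericPoint_specializes _)).eq
    exact eq_generic_of_same_fiber f hq _ (hw.trans hgen.symm)
  constructor
  intro z₁ z₂
  exact (f.fiberι _).isEmbedding.injective ((key z₁).trans (key z₂).symm)

end Groth.Agent.Lib.GenFibreSubH4
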