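import Mathlib
import Groth.Agent.Lib.TrdegBound_helper8
import Groth.Agent.Lib.DimGenFib_helper8

universe u
open AlgebraicGeometry CategoryTheory

namespace GenFinH8

/-- If all points of a fibre of a quasi-compact morphism locally of finite type have residue field
of transcendence degree zero over the residue field of the base point, then the fibre is finite. -/
theorem finite_preimage_of_trdeg_zero {X Y : Scheme.{u}} (f : X ⟶ Y) [LocallyOfFiniteType f]
    [QuasiCompact f] (y : Y)
    (h : ∀ x : X, f x = y → @Algebra.trdeg (Y.residueField (f x)) (X.residueField x) _ _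
        (f.residueFieldMap x).hom.toAlgebra = 0) :
    (f ⁻¹' {y}).Finite := by
  have hdim : topologicalKrullDim ↥(f.fiber y) ≤ 0 := by
    rw [Groth.Agent.ClosHtH8.topologicalKrullDim_eq_iSup_height]
    refine iSup_le fun z => ?_
    have hz := Groth.Agent.FibRes2H8.fiberι_mem f y z
    have hht := Groth.Agent.FlatFibDimH8.height_fiber_eq f _ y hz z rfl 0 (by
      have := h _ hz
      simpa using this)
    rw [hht]
    simp
  haveI : LocallyOfFiniteType (f.fiberToSpecResidueField y) :=
    Groth.Agent.FibRes2H8.lft_fiber f y
  haveI : IsLocallyNoetherian (f.fiber y) :=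
    LocallyOfFiniteType.isLocallyNoetherian (f.fiberToSpecResidueField y)
  haveI : IsLocallyArtinian (f.fiber y) := IsLocallyArtinian.of_topologicalKrullDim_le_zero hdim
  haveI : IsArtinianScheme (f.fiber y) := ⟨⟩
  haveI : Finite (f.fiber y) := inferInstance
  exact Set.finite_coe_iff.mp ((f.fiberHomeo y).finite_iff.mp inferInstance)

/-- A proper, generically finite morphism of integral schemes has finite fibres over
codimension-one points. -/
theorem finite_preimage_of_codim_one {X Y : Scheme.{u}} [IsIntegral X] [IsIntegral Y]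
    [IsLocallyNoetherian Y] (f : X ⟶ Y) [LocallyOfFiniteType f] [QuasiCompact f]
    (hgen : f (genericPoint X) = genericPoint Y)
    (hfin : (f.residueFieldMap (genericPoint X)).hom.Finite) (ξ : Y)
    (hξ : ringKrullDim (Y.presheaf.stalk ξ) = 1) : (f ⁻¹' {ξ}).Finite := by
  apply finite_preimage_of_trdeg_zero
  intro x hx
  have hη : ∀ x' : X, genericPoint X ⤳ x' := fun x' =>
    (genericPoint_spec X).specializes (Set.mem_univ _)
  have hηY : ∀ y' : Y, genericPoint Y ⤳ y' := fun y' =>
    (genericPoint_spec Y).specializes (Set.mem_univ _)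
  -- trdeg at the generic point is zero
  have hE : @Algebra.trdeg (Y.residueField (f (genericPoint X))) (X.residueField (genericPoint X))
      _ _ (f.residueFieldMap (genericPoint X)).hom.toAlgebra = 0 := by
    letI := (f.residueFieldMap (genericPoint X)).hom.toAlgebra
    haveI : Module.Finite (Y.residueField (f (genericPoint X)))
      (X.residueField (genericPoint X)) := hfin
    exact _root_.trdeg_eq_zero
  obtain ⟨n, hn⟩ := Groth.Agent.ResQuot2H8.exists_trdeg_nat f x
  have h := Groth.Agent.S9687.result f x n 0 hn (fun ξ' hξ' _ => by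
    have := Groth.Agent.DimGenFibH8.eq_of_closure_mem_irreducibleComponents (genericPoint X) ξ' hη hξ'
    subst this
    exact le_of_eq (by simpa using hE))
  -- x is not the generic point
  have hxne : x ≠ genericPoint X := by
    intro hxe
    subst hxe
    have h1 : ξ = genericPoint Y := hx.symm.trans hgen
    subst h1
    rw [AlgebraicGeometry.ringKrullDim_stalk_eq_coheight] at hξ
    have hmax : IsMax (genericPoint Y) := fun b _ => hηY b
    rw [Order.coheight_eq_zero.mpr hmax] at hξ
    norm_num at hξ
  have hnotmax : ¬ IsMax x := by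
    intro hmax
    apply hxne
    have h1 : x ≤ genericPoint X := hη x
    have h2 : genericPoint X ≤ x := hmax h1
    exact ((show x ⤳ genericPoint X from h2).antisymm (hη x)).eq
  have hpos : 0 < Order.coheight x := Order.coheight_pos.mpr hnotmax
  have hfx : f.base x = ξ := hx
  rw [AlgebraicGeometry.ringKrullDim_stalk_eq_coheight, hfx, hξ] at h
  have hn0 : n = 0 := by
    by_contra hne
    have hn1 : 1 ≤ n := Nat.one_le_iff_ne_zero.mpr hne
    have hc1 : (1 : ℕ∞) ≤ Order.coheight x := Order.one_le_iff_pos.mpr hpos
    have : ((2 : ℕ∞) : WithBot ℕ∞) ≤ ((Order.coheight x : ℕ∞) : WithBot ℕ∞) + ((n : ℕ) : WithBot ℕ∞) := by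
      have h2 : (2 : ℕ∞) ≤ Order.coheight x + (n : ℕ∞) := by
        calc (2 : ℕ∞) = 1 + 1 := by norm_num
          _ ≤ Order.coheight x + (n : ℕ∞) := add_le_add hc1 (by exact_mod_cast hn1)
      exact_mod_cast WithBot.coe_le_coe.mpr h2
    have h3 := this.trans h
    norm_num at h3
  rw [hn, hn0]
  simp

end GenFinH8
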