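import Mathlib
import Groth.Agent.Lib.LocAwayLim2_helper7
import Groth.Agent.Lib.LimFlatDesc_helper7

/-!
# Flatness spreads out from a localization; generic flatness at maximal points (helper7)
-/

set_option autoImplicit false
set_option linter.style.haveILetI false
set_option backward.isDefEq.respectTransparency false
universe u
open CategoryTheory CategoryTheory.Limits AlgebraicGeometry TopologicalSpace

namespace Groth.Agent.Lib.GenFlatMaxH7

open Groth.Agent.Lib

theorem exists_isPullback_comp {X Y Y' Y'' : Scheme.{u}} (f : X ⟶ Y) (h : Y' ⟶ Y) (a : Y'' ⟶ Y') :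
    ∃ b : pullback f (a ≫ h) ⟶ pullback f h,
      b ≫ pullback.fst f h = pullback.fst f (a ≫ h) ∧
      IsPullback b (pullback.snd f (a ≫ h)) (pullback.snd f h) a := by
  have w : pullback.fst f (a ≫ h) ≫ f = (pullback.snd f (a ≫ h) ≫ a) ≫ h := by
    rw [pullback.condition, Category.assoc]
  refine ⟨pullback.lift _ _ w, pullback.lift_fst _ _ _, ?_⟩
  refine IsPullback.of_right ?_ (pullback.lift_snd _ _ _) (IsPullback.of_hasPullback f h)
  rw [pullback.lift_fst]
  exact IsPullback.of_hasPullback f (a ≫ h)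

/-- pointwise criterion for flatness of a restriction -/
theorem flat_restrict_iff {X Y : Scheme.{u}} (f : X ⟶ Y) (U : Y.Opens) :
    Flat (f ∣_ U) ↔ ∀ x : X, f x ∈ U → (f.stalkMap x).hom.Flat := by
  rw [Flat.iff_flat_stalkMap]
  constructor
  · intro h x hx
    exact (RingHom.Flat.respectsIso.arrow_mk_iso_iff
      (morphismRestrictStalkMap f U ⟨x, hx⟩)).mp (h ⟨x, hx⟩)
  · intro h x
    exact (RingHom.Flat.respectsIso.arrow_mk_iso_iff
      (morphismRestrictStalkMap f U x)).mpr (h x.1 x.2)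

open Groth.Agent.Lib.LocAwayLimH7 in
/-- If the base change of `f` to the localization `L = A_𝔭` (of an affine open `Spec A` of the
base) is flat, then `f` is flat over a quasi-compact open neighbourhood of the image of
`Spec L`. -/
theorem exists_open_flat_of_loc {X Y : Scheme.{u}} (f : X ⟶ Y)
    [QuasiCompact f] [LocallyOfFinitePresentation f]
    (A : Type u) [CommRing A] (𝔭 : Ideal A) [𝔭.IsPrime] (L : Type u) [CommRing L] [Algebra A L]
    [IsLocalization.AtPrime L 𝔭]
    (φ₀ : Spec (CommRingCat.of A) ⟶ Y) [IsOpenImmersion φ₀]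
    (hL : Flat (pullback.snd f (Spec.map (CommRingCat.ofHom (algebraMap A L)) ≫ φ₀))) :
    ∃ W : Y.Opens, (∀ t, (Spec.map (CommRingCat.ofHom (algebraMap A L)) ≫ φ₀) t ∈ W) ∧
      IsCompact (W : Set Y) ∧ Flat (f ∣_ W) := by
  obtain ⟨e, he⟩ : ∃ e : ∀ i : (Idx A 𝔭)ᵒᵖ, (DS A 𝔭).obj i ⟶ Y,
      ∀ i, e i = (toBase A 𝔭).app i ≫ φ₀ := ⟨_, fun _ => rfl⟩
  have hnat : ∀ {i j : (Idx A 𝔭)ᵒᵖ} (φ : i ⟶ j), (DS A 𝔭).map φ ≫ e j = e i := by
    intro i j φ
    rw [he, he, ← Category.assoc, (toBase A 𝔭).naturality φ]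
    simp
  obtain ⟨π, hπ⟩ : ∃ π : ∀ i : (Idx A 𝔭)ᵒᵖ, Spec (CommRingCat.of L) ⟶ (DS A 𝔭).obj i,
      ∀ i, π i = (coneSL A 𝔭 L).π.app i := ⟨fun i => (coneSL A 𝔭 L).π.app i, fun _ => rfl⟩
  have hcone : ∀ i, π i ≫ e i =
      Spec.map (CommRingCat.ofHom (algebraMap A L)) ≫ φ₀ := by
    intro i
    rw [he, hπ, ← Category.assoc]
    exact congrArg (· ≫ φ₀) (coneSL_π_toBase A 𝔭 L i)
  haveI heopen : ∀ i, IsOpenImmersion (e i) := fun i => by
    rw [he]
    show IsOpenImmersion (Spec.map (CommRingCat.ofHom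
      (algebraMap A (Localization.Away i.unop.val))) ≫ φ₀)
    infer_instance
  obtain ⟨i₀, hi₀⟩ : ∃ i₀ : (Idx A 𝔭)ᵒᵖ, i₀ = Opposite.op (one A 𝔭) := ⟨_, rfl⟩
  rw [← hcone i₀] at hL
  obtain ⟨qX, hqX, sqX⟩ := exists_isPullback_comp f (e i₀) (π i₀)
  haveI := hL
  haveI : CompactSpace ↥(pullback f (e i₀)) :=
    QuasiCompact.compactSpace_of_compactSpace (pullback.snd f (e i₀))
  have sqY : IsPullback (π i₀) (𝟙 (Spec (CommRingCat.of L))) (𝟙 ((DS A 𝔭).obj i₀))
      ((coneSL A 𝔭 L).π.app i₀) := by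
    rw [← hπ i₀]; exact IsPullback.id_vert (π i₀)
  obtain ⟨i, φ, Xi, Yi, fi, gi, pY, pX, h1, h2, hfi⟩ :=
    LimFlatDescH7.exists_flat_descend (DS A 𝔭) (coneSL A 𝔭 L) (isLimitConeSL A 𝔭 L) i₀
      (pullback.snd f (e i₀)) (𝟙 _)
      (pullback.snd f (π i₀ ≫ e i₀)) (𝟙 _) (π i₀) qX sqY sqX
  haveI := hfi
  haveI : IsIso gi := h1.isIso_snd_of_isIso
  have sqXi : IsPullback (pX ≫ pullback.fst f (e i₀)) fi f (pY ≫ e i₀) :=
    h2.paste_horiz (IsPullback.of_hasPullback f (e i₀))
  have hr : pY ≫ e i₀ = gi ≫ e i := by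
    have := h1.w
    rw [Category.comp_id] at this
    rw [this, Category.assoc, hnat φ]
  rw [hr] at sqXi
  refine ⟨(e i).opensRange, ?_, ?_, ?_⟩
  · intro t
    rw [← hcone i, Scheme.Hom.comp_apply]
    exact ⟨_, rfl⟩
  · show IsCompact (Set.range (e i))
    exact isCompact_range (e i).continuous
  · have hθrange : Set.range ((e i).opensRange).ι = Set.range (gi ≫ e i) := by
      rw [Scheme.Opens.range_ι]
      ext y
      constructor
      · rintro ⟨x, rfl⟩
        refine ⟨(inv gi) x, ?_⟩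
        rw [← Scheme.Hom.comp_apply, IsIso.inv_hom_id_assoc]
      · rintro ⟨x, rfl⟩
        rw [Scheme.Hom.comp_apply]
        exact ⟨_, rfl⟩
    obtain ⟨θ, hθ⟩ : ∃ θ : ((e i).opensRange : Scheme.{u}) ⟶ Yi,
        θ ≫ (gi ≫ e i) = ((e i).opensRange).ι :=
      ⟨(IsOpenImmersion.isoOfRangeEq ((e i).opensRange).ι (gi ≫ e i) hθrange).hom,
        IsOpenImmersion.isoOfRangeEq_hom_fac _ _ _⟩
    have w : (f ⁻¹ᵁ (e i).opensRange).ι ≫ f =
        (f ∣_ (e i).opensRange ≫ θ) ≫ (gi ≫ e i) := by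
      rw [Category.assoc, hθ, morphismRestrict_ι]
    have big : IsPullback (sqXi.lift _ _ w ≫ pX ≫ pullback.fst f (e i₀))
        (f ∣_ (e i).opensRange) f (θ ≫ (gi ≫ e i)) := by
      rw [sqXi.lift_fst, hθ]
      exact (isPullback_morphismRestrict f ((e i).opensRange)).flip
    have left := IsPullback.of_right big (sqXi.lift_snd _ _ w) sqXi
    exact MorphismProperty.of_isPullback (P := @Flat) left hfi

/-- the closure of a point without proper generizations is an irreducible component -/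
theorem closure_mem_irreducibleComponents_of_maximal {Y : Scheme.{u}} (η : Y)
    (hη : ∀ y' : Y, y' ⤳ η → y' = η) : closure {η} ∈ irreducibleComponents Y := by
  have hZ := irreducibleComponent_mem_irreducibleComponents η
  have hgen := (isIrreducible_irreducibleComponent (x := η)).isGenericPoint_genericPoint
    isClosed_irreducibleComponent
  have h1 := hgen.specializes mem_irreducibleComponent
  have h2 := hη _ h1
  have h3 := hgen.def
  rw [h2] at h3
  rw [h3]
  exact hZ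

/-- every point has a generization without proper generizations -/
theorem exists_maximal_generization {Y : Scheme.{u}} (y : Y) :
    ∃ η : Y, η ⤳ y ∧ ∀ y' : Y, y' ⤳ η → y' = η := by
  have hgen := (isIrreducible_irreducibleComponent (x := y)).isGenericPoint_genericPoint
    isClosed_irreducibleComponent
  refine ⟨_, hgen.specializes mem_irreducibleComponent, fun y' hy' => ?_⟩
  have hZ := irreducibleComponent_mem_irreducibleComponents y
  have h1 : irreducibleComponent y ⊆ closure {y'} := by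
    rw [← hgen.def]
    exact specializes_iff_closure_subset.mp hy'
  have h2 : closure {y'} ⊆ irreducibleComponent y :=
    hZ.2 (isIrreducible_singleton.closure) h1
  have h3 : IsGenericPoint y' (irreducibleComponent y) := le_antisymm h2 h1
  exact h3.eq hgen

/-- flatness over a quasi-compact open neighbourhood of a maximal point of a reduced scheme -/
theorem exists_flat_nhd {X Y : Scheme.{u}} [IsReduced Y] (f : X ⟶ Y)
    [LocallyOfFinitePresentation f] [QuasiCompact f]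
    (η : Y) (hη : ∀ y' : Y, y' ⤳ η → y' = η) :
    ∃ W : Y.Opens, η ∈ W ∧ IsCompact (W : Set Y) ∧ Flat (f ∣_ W) := by
  obtain ⟨V, hV, hηV⟩ : ∃ V : Y.Opens, IsAffineOpen V ∧ η ∈ V := by
    obtain ⟨_, ⟨V, hV, rfl⟩, hηV, -⟩ :=
      Y.isBasis_affineOpens.exists_subset_of_mem_open (Set.mem_univ η) isOpen_univ
    exact ⟨V, hV, hηV⟩
  letI : Algebra ↑Γ(Y, V) ↑(Y.presheaf.stalk η) :=
    TopCat.Presheaf.algebra_section_stalk Y.presheaf ⟨η, hηV⟩
  haveI : IsLocalization.AtPrime ↑(Y.presheaf.stalk η) (hV.primeIdealOf ⟨η, hηV⟩).asIdeal :=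
    hV.isLocalization_stalk ⟨η, hηV⟩
  have hσeq : Spec.map (CommRingCat.ofHom (algebraMap ↑Γ(Y, V) ↑(Y.presheaf.stalk η))) ≫
      hV.fromSpec = Y.fromSpecStalk η := hV.fromSpecStalk_eq_fromSpecStalk hηV
  have hF : IsField (Y.presheaf.stalk η) :=
    isField_stalk_of_closure_mem_irreducibleComponents Y η
      (closure_mem_irreducibleComponents_of_maximal η hη)
  haveI : IsDomain (Y.presheaf.stalk η) := hF.isDomain
  haveI : IsReduced (Y.presheaf.stalk η) := inferInstance
  haveI hsub : Subsingleton (PrimeSpectrum (Y.presheaf.stalk η)) :=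
    PrimeSpectrum.subsingleton_iff_isField_of_isReduced.mpr hF
  haveI : Subsingleton ↥(Spec (Y.presheaf.stalk η)) := hsub
  have hL : Flat (pullback.snd f (Y.fromSpecStalk η)) := inferInstance
  rw [← hσeq] at hL
  obtain ⟨W, hW, hcpt, hflat⟩ := exists_open_flat_of_loc f Γ(Y, V)
    (hV.primeIdealOf ⟨η, hηV⟩).asIdeal (Y.presheaf.stalk η) hV.fromSpec hL
  refine ⟨W, ?_, hcpt, hflat⟩
  have h0 := hW (IsLocalRing.closedPoint (Y.presheaf.stalk η))
  rw [hσeq] at h0
  have h1 := Scheme.fromSpecStalk_closedPoint (X := Y) (x := η)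
  convert h0 using 1
  exact h1.symm

theorem main14790 {X Y : Scheme.{u}} [IsReduced Y]
    (hgen : IsCompact {y : Y | ∀ y' : Y, y' ⤳ y → y' = y})
    (f : X ⟶ Y) [LocallyOfFinitePresentation f] [QuasiCompact f] :
    ∃ U : Y.Opens, Dense (U : Set Y) ∧ IsCompact (U : Set Y) ∧ Flat (f ∣_ U) := by
  classical
  have key : ∀ η : {y : Y | ∀ y' : Y, y' ⤳ y → y' = y},
      ∃ W : Y.Opens, η.1 ∈ W ∧ IsCompact (W : Set Y) ∧ Flat (f ∣_ W) :=
    fun η => exists_flat_nhd f η.1 η.2
  choose W hW1 hW2 hW3 using key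
  obtain ⟨t, ht⟩ := hgen.elim_finite_subcover (fun η => (W η : Set Y)) (fun η => (W η).isOpen)
    (fun y hy => Set.mem_iUnion.mpr ⟨⟨y, hy⟩, hW1 ⟨y, hy⟩⟩)
  refine ⟨⨆ η ∈ t, W η, ?_, ?_, ?_⟩
  · rw [dense_iff_inter_open]
    rintro O hO ⟨y, hy⟩
    obtain ⟨η, hηy, hηmax⟩ := exists_maximal_generization y
    refine ⟨η, hηy.mem_open hO hy, ?_⟩
    have := ht hηmax
    simp only [Set.mem_iUnion] at this
    obtain ⟨η', hη't, hη'⟩ := this
    simp only [Opens.coe_iSup, Set.mem_iUnion]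
    exact ⟨η', hη't, hη'⟩
  · simp only [Opens.coe_iSup]
    exact t.isCompact_biUnion (fun η _ => hW2 η)
  · rw [flat_restrict_iff]
    intro x hx
    simp only [Opens.mem_iSup] at hx
    obtain ⟨η', hη't, hη'⟩ := hx
    exact (flat_restrict_iff f (W η')).mp (hW3 η') x hη'

end Groth.Agent.Lib.GenFlatMaxH7
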