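import Groth.Agent.Lib.InvRey_helper9

/-!
# Hilbert finiteness for graded coactions on polynomial rings over a Noetherian base (helper1)

Generalises `GradedInv_helper9` from `k[σ]` to `B[σ]`, `B` a Noetherian `k`-algebra: if the coaction
on `B[σ]` sends constants to degree `0` and variables to degree `1`, the invariants are generated
by the invariant constants and finitely many invariants.
-/

set_option autoImplicit false

universe u v w w'

open TensorProduct MvPolynomial

namespace Groth.Agent.Lib.GenHilbH1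

open Groth.Agent.Lib.LinRed_helper9 Groth.Agent.Lib.InvRey_helper9 Groth.Agent.Lib.Comod_helper9

section Graded

variable (k : Type u) [Field k] (H : Type v) [CommRing H] [HopfAlgebra k H]
variable (B : Type w) [CommRing B] [Algebra k B] (σ : Type w')

/-- degree-`d` part of `B[σ] ⊗ H` -/
noncomputable def Q (d : ℕ) : Submodule k (MvPolynomial σ B ⊗[k] H) :=
  LinearMap.range (((homogeneousSubmodule σ B d).restrictScalars k).subtype.rTensor H)

theorem tmul_mem_Q (d : ℕ) (p : MvPolynomial σ B) (hp : p ∈ homogeneousSubmodule σ B d) (a : H) :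
    p ⊗ₜ[k] a ∈ Q k H B σ d :=
  ⟨(⟨p, hp⟩ : (homogeneousSubmodule σ B d).restrictScalars k) ⊗ₜ[k] a, by
    rw [LinearMap.rTensor_tmul]; rfl⟩

theorem mul_mem_Q (d e : ℕ) (x y : MvPolynomial σ B ⊗[k] H) (hx : x ∈ Q k H B σ d)
    (hy : y ∈ Q k H B σ e) : x * y ∈ Q k H B σ (d + e) := by
  obtain ⟨x', rfl⟩ := hx
  obtain ⟨y', rfl⟩ := hy
  induction x' using TensorProduct.induction_on with
  | zero => rw [map_zero, zero_mul]; exact Submodule.zero_mem _
  | add x1 x2 h1 h2 => rw [map_add, add_mul]; exact Submodule.add_mem _ h1 h2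
  | tmul p a =>
    induction y' using TensorProduct.induction_on with
    | zero => rw [map_zero, mul_zero]; exact Submodule.zero_mem _
    | add y1 y2 h1 h2 => rw [map_add, mul_add]; exact Submodule.add_mem _ h1 h2
    | tmul q b =>
      rw [LinearMap.rTensor_tmul, LinearMap.rTensor_tmul, Algebra.TensorProduct.tmul_mul_tmul]
      exact tmul_mem_Q k H B σ (d + e) _ (IsHomogeneous.mul p.2 q.2) _

theorem one_mem_Q : (1 : MvPolynomial σ B ⊗[k] H) ∈ Q k H B σ 0 := by
  rw [Algebra.TensorProduct.one_def]
  exact tmul_mem_Q k H B σ 0 1 (isHomogeneous_one σ B) 1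

theorem pow_mem_Q (e m : ℕ) (x : MvPolynomial σ B ⊗[k] H) (hx : x ∈ Q k H B σ e) :
    x ^ m ∈ Q k H B σ (m * e) := by
  induction m with
  | zero => rw [pow_zero, Nat.zero_mul]; exact one_mem_Q k H B σ
  | succ m ih => rw [pow_succ, Nat.succ_mul]; exact mul_mem_Q k H B σ _ _ _ _ ih hx

theorem prod_mem_Q {ι : Type*} (t : Finset ι) (f : ι → MvPolynomial σ B ⊗[k] H) (dd : ι → ℕ)
    (h : ∀ i ∈ t, f i ∈ Q k H B σ (dd i)) : ∏ i ∈ t, f i ∈ Q k H B σ (∑ i ∈ t, dd i) := by
  classical
  induction t using Finset.induction_on with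
  | empty => rw [Finset.prod_empty, Finset.sum_empty]; exact one_mem_Q k H B σ
  | insert a t ha ih =>
    rw [Finset.prod_insert ha, Finset.sum_insert ha]
    exact mul_mem_Q k H B σ _ _ _ _ (h a (Finset.mem_insert_self a t))
      (ih fun i hi => h i (Finset.mem_insert_of_mem hi))

variable [HopfRep.Comod k H (MvPolynomial σ B)] [GLin.IsCoactAlg k H (MvPolynomial σ B)]

theorem coact_monomial_mem
    (hlinX : ∀ i : σ, HopfRep.Comod.coact (k := k) (A := H) (X i : MvPolynomial σ B) ∈
      Q k H B σ 1)
    (hlinC : ∀ b : B, HopfRep.Comod.coact (k := k) (A := H) (C b : MvPolynomial σ B) ∈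
      Q k H B σ 0)
    (s : σ →₀ ℕ) (c : B) :
    HopfRep.Comod.coact (k := k) (A := H) (monomial s c : MvPolynomial σ B) ∈
      Q k H B σ (s.degree) := by
  rw [monomial_eq, GLin.IsCoactAlg.coact_mul]
  have h1 : HopfRep.Comod.coact (k := k) (A := H)
      (s.prod fun i e => (X i : MvPolynomial σ B) ^ e) =
      ∏ i ∈ s.support, (HopfRep.Comod.coact (k := k) (A := H) (X i : MvPolynomial σ B)) ^ (s i) := by
    have h0 := map_prod (GLin.coactAlgHom k H (MvPolynomial σ B))
      (fun i => (X i : MvPolynomial σ B) ^ (s i)) s.support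
    simp only [map_pow, GLin.coactAlgHom_apply] at h0
    exact h0
  rw [h1]
  have h2 := prod_mem_Q k H B σ s.support
    (fun i => (HopfRep.Comod.coact (k := k) (A := H) (X i : MvPolynomial σ B)) ^ (s i))
    (fun i => s i * 1) (fun i _ => pow_mem_Q k H B σ 1 (s i) _ (hlinX i))
  have h3 : 0 + ∑ i ∈ s.support, s i * 1 = s.degree := by
    simp only [zero_add, mul_one]; rfl
  rw [← h3]
  exact mul_mem_Q k H B σ 0 _ _ _ (hlinC c) h2

theorem coact_mem_Q
    (hlinX : ∀ i : σ, HopfRep.Comod.coact (k := k) (A := H) (X i : MvPolynomial σ B) ∈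
      Q k H B σ 1)
    (hlinC : ∀ b : B, HopfRep.Comod.coact (k := k) (A := H) (C b : MvPolynomial σ B) ∈
      Q k H B σ 0)
    (d : ℕ) (p : MvPolynomial σ B) (hp : p ∈ homogeneousSubmodule σ B d) :
    HopfRep.Comod.coact (k := k) (A := H) p ∈ Q k H B σ d := by
  have hsum : HopfRep.Comod.coact (k := k) (A := H) p =
      ∑ s ∈ p.support, HopfRep.Comod.coact (k := k) (A := H) (monomial s (coeff s p)) := by
    rw [← map_sum, support_sum_monomial_coeff]
  rw [hsum]
  refine Submodule.sum_mem _ fun s hs => ?_
  have hdeg : s.degree = d := by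
    by_contra hne
    exact (mem_support_iff.1 hs) (IsHomogeneous.coeff_eq_zero hp hne)
  rw [← hdeg]
  exact coact_monomial_mem k H B σ hlinX hlinC s _

/-- the homogeneous component as a `k`-linear map -/
noncomputable def hcK (d : ℕ) : MvPolynomial σ B →ₗ[k] MvPolynomial σ B :=
  (homogeneousComponent d : MvPolynomial σ B →ₗ[B] MvPolynomial σ B).restrictScalars k

omit [HopfRep.Comod k H (MvPolynomial σ B)] [GLin.IsCoactAlg k H (MvPolynomial σ B)] in
theorem hcK_apply (d : ℕ) (p : MvPolynomial σ B) : hcK k B σ d p = homogeneousComponent d p := rfl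

omit [HopfRep.Comod k H (MvPolynomial σ B)] [GLin.IsCoactAlg k H (MvPolynomial σ B)] in
theorem rTensor_hc_self (d : ℕ) (x : MvPolynomial σ B ⊗[k] H) (hx : x ∈ Q k H B σ d) :
    (hcK k B σ d).rTensor H x = x := by
  obtain ⟨y, rfl⟩ := hx
  induction y using TensorProduct.induction_on with
  | zero => simp
  | add y z hy hz => rw [map_add, map_add, hy, hz]
  | tmul p a =>
    rw [LinearMap.rTensor_tmul, LinearMap.rTensor_tmul, Submodule.subtype_apply, hcK_apply,
      homogeneousComponent_of_mem p.2, if_pos rfl]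

omit [HopfRep.Comod k H (MvPolynomial σ B)] [GLin.IsCoactAlg k H (MvPolynomial σ B)] in
theorem rTensor_hc_ne (d e : ℕ) (x : MvPolynomial σ B ⊗[k] H) (hx : x ∈ Q k H B σ e)
    (hde : d ≠ e) : (hcK k B σ d).rTensor H x = 0 := by
  obtain ⟨y, rfl⟩ := hx
  induction y using TensorProduct.induction_on with
  | zero => simp
  | add y z hy hz => rw [map_add, map_add, hy, hz, add_zero]
  | tmul p a =>
    rw [LinearMap.rTensor_tmul, LinearMap.rTensor_tmul, Submodule.subtype_apply, hcK_apply,
      homogeneousComponent_of_mem p.2, if_neg hde, zero_tmul]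

/-- the homogeneous components are comodule maps -/
theorem coact_hc
    (hlinX : ∀ i : σ, HopfRep.Comod.coact (k := k) (A := H) (X i : MvPolynomial σ B) ∈
      Q k H B σ 1)
    (hlinC : ∀ b : B, HopfRep.Comod.coact (k := k) (A := H) (C b : MvPolynomial σ B) ∈
      Q k H B σ 0)
    (d : ℕ) (p : MvPolynomial σ B) :
    HopfRep.Comod.coact (k := k) (A := H) (homogeneousComponent d p) =
      (hcK k B σ d).rTensor H (HopfRep.Comod.coact (k := k) (A := H) p) := by
  have key : ∀ (e : ℕ) (q : MvPolynomial σ B), q ∈ homogeneousSubmodule σ B e →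
      HopfRep.Comod.coact (k := k) (A := H) (homogeneousComponent d q) =
        (hcK k B σ d).rTensor H (HopfRep.Comod.coact (k := k) (A := H) q) := by
    intro e q hq
    have hQ := coact_mem_Q k H B σ hlinX hlinC e q hq
    by_cases hde : d = e
    · subst hde
      rw [rTensor_hc_self k H B σ d _ hQ, homogeneousComponent_of_mem hq, if_pos rfl]
    · rw [rTensor_hc_ne k H B σ d e _ hQ hde, homogeneousComponent_of_mem hq, if_neg hde,
        map_zero]
  have h2 : ∀ s : Finset ℕ,
      HopfRep.Comod.coact (k := k) (A := H)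
          (homogeneousComponent d (∑ i ∈ s, homogeneousComponent i p)) =
        (hcK k B σ d).rTensor H
          (HopfRep.Comod.coact (k := k) (A := H) (∑ i ∈ s, homogeneousComponent i p)) := by
    intro s
    rw [map_sum, map_sum, map_sum, map_sum]
    exact Finset.sum_congr rfl (fun i _ => key i _ (homogeneousComponent_mem i p))
  have h3 := h2 (Finset.range (p.totalDegree + 1))
  rwa [sum_homogeneousComponent] at h3

theorem hc_mem_fixedPts
    (hlinX : ∀ i : σ, HopfRep.Comod.coact (k := k) (A := H) (X i : MvPolynomial σ B) ∈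
      Q k H B σ 1)
    (hlinC : ∀ b : B, HopfRep.Comod.coact (k := k) (A := H) (C b : MvPolynomial σ B) ∈
      Q k H B σ 0)
    (d : ℕ) (f : MvPolynomial σ B) (hf : f ∈ HopfRep.fixedPts k H (MvPolynomial σ B)) :
    homogeneousComponent d f ∈ HopfRep.fixedPts k H (MvPolynomial σ B) := by
  have hf' : HopfRep.Comod.coact (k := k) (A := H) f = f ⊗ₜ[k] (1 : H) := hf
  show HopfRep.Comod.coact (k := k) (A := H) (homogeneousComponent d f) =
    homogeneousComponent d f ⊗ₜ[k] (1 : H)
  rw [coact_hc k H B σ hlinX hlinC, hf', LinearMap.rTensor_tmul, hcK_apply]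

end Graded

section Hilbert

variable (k : Type u) [Field k] (H : Type v) [CommRing H] [HopfAlgebra k H]
variable (B : Type w) [CommRing B] [Algebra k B] [IsNoetherianRing B]
variable (σ : Type w') [Finite σ]
variable [HopfRep.Comod k H (MvPolynomial σ B)] [GLin.IsCoactAlg k H (MvPolynomial σ B)]

/-- Hilbert's finiteness theorem over a Noetherian base: the invariants of `B[σ]` are generated by
the invariants of degree `0` and finitely many invariants. -/
theorem exists_finset_adjoin_base (hG : HopfRep.IsLinearlyReductive k H)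
    (hlinX : ∀ i : σ, HopfRep.Comod.coact (k := k) (A := H) (X i : MvPolynomial σ B) ∈
      Q k H B σ 1)
    (hlinC : ∀ b : B, HopfRep.Comod.coact (k := k) (A := H) (C b : MvPolynomial σ B) ∈
      Q k H B σ 0) :
    ∃ s : Finset (MvPolynomial σ B),
      (∀ f ∈ s, f ∈ HopfRep.fixedPts k H (MvPolynomial σ B)) ∧
      ∀ f ∈ HopfRep.fixedPts k H (MvPolynomial σ B),
        f ∈ Algebra.adjoin k
          ({f | f ∈ HopfRep.fixedPts k H (MvPolynomial σ B) ∧ f.IsHomogeneous 0} ∪
            (s : Set (MvPolynomial σ B))) := by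
  classical
  obtain ⟨β, hβ, h1⟩ := exists_leftIntegral k H hG
  let S : Set (MvPolynomial σ B) :=
    {f | f ∈ HopfRep.fixedPts k H (MvPolynomial σ B) ∧ ∃ d : ℕ, 0 < d ∧ f.IsHomogeneous d}
  have hfg : (Submodule.span (MvPolynomial σ B) S).FG := IsNoetherian.noetherian _
  obtain ⟨s, hsS, hs⟩ := (Submodule.fg_span_iff_fg_span_finset_subset S).mp hfg
  refine ⟨s, fun f hf => (hsS hf).1, ?_⟩
  have hom : ∀ d : ℕ, ∀ f : MvPolynomial σ B, f ∈ HopfRep.fixedPts k H (MvPolynomial σ B) →
      f.IsHomogeneous d → f ∈ Algebra.adjoin k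
        ({f | f ∈ HopfRep.fixedPts k H (MvPolynomial σ B) ∧ f.IsHomogeneous 0} ∪
          (s : Set (MvPolynomial σ B))) := by
    intro d
    induction d using Nat.strong_induction_on with
    | _ d ih =>
      intro f hf hd
      rcases Nat.eq_zero_or_pos d with rfl | hpos
      · exact Algebra.subset_adjoin (Or.inl ⟨hf, hd⟩)
      · have hfS : f ∈ S := ⟨hf, d, hpos, hd⟩
        have hfJ : f ∈ Submodule.span (MvPolynomial σ B) (s : Set (MvPolynomial σ B)) := by
          rw [← hs]; exact Submodule.subset_span hfS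
        obtain ⟨a, -, ha⟩ := Submodule.mem_span_finset.mp hfJ
        have h2 : ∑ g ∈ s, rey k H β (MvPolynomial σ B) (a g) * g = f := by
          calc ∑ g ∈ s, rey k H β (MvPolynomial σ B) (a g) * g
              = ∑ g ∈ s, rey k H β (MvPolynomial σ B) (a g • g) := by
                refine Finset.sum_congr rfl (fun g hg => ?_)
                rw [smul_eq_mul, mul_comm (a g) g,
                  rey_mul_of_fixed k H β (MvPolynomial σ B) g (hsS hg).1, mul_comm]
            _ = rey k H β (MvPolynomial σ B) (∑ g ∈ s, a g • g) := (map_sum _ _ _).symm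
            _ = rey k H β (MvPolynomial σ B) f := by rw [ha]
            _ = f := rey_of_mem_fixedPts k H β (MvPolynomial σ B) h1 f hf
        have h3 : homogeneousComponent d
            (∑ g ∈ s, rey k H β (MvPolynomial σ B) (a g) * g) = f := by
          rw [h2]; exact homogeneousComponent_eq_self hd
        rw [← h3, map_sum]
        refine Subalgebra.sum_mem _ (fun g hg => ?_)
        obtain ⟨hgfix, e, hepos, hge⟩ := hsS hg
        have hb : rey k H β (MvPolynomial σ B) (a g) ∈ HopfRep.fixedPts k H (MvPolynomial σ B) :=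
          rey_mem_fixedPts k H β (MvPolynomial σ B) hβ (a g)
        have h4 : rey k H β (MvPolynomial σ B) (a g) * g =
            ∑ i ∈ Finset.range ((rey k H β (MvPolynomial σ B) (a g)).totalDegree + 1),
              homogeneousComponent i (rey k H β (MvPolynomial σ B) (a g)) * g := by
          rw [← Finset.sum_mul, sum_homogeneousComponent]
        rw [h4, map_sum]
        refine Subalgebra.sum_mem _ (fun i _ => ?_)
        have hmem : homogeneousComponent i (rey k H β (MvPolynomial σ B) (a g)) * g ∈
            homogeneousSubmodule σ B (i + e) :=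
          (homogeneousComponent_isHomogeneous i (rey k H β (MvPolynomial σ B) (a g))).mul hge
        rw [homogeneousComponent_of_mem hmem]
        split_ifs with hdi
        · have hi : i < d := by omega
          exact Subalgebra.mul_mem _
            (ih i hi _ (hc_mem_fixedPts k H B σ hlinX hlinC i _ hb)
              (homogeneousComponent_isHomogeneous i _))
            (Algebra.subset_adjoin (Or.inr hg))
        · exact Subalgebra.zero_mem _
  intro f hf
  rw [← sum_homogeneousComponent f]
  exact Subalgebra.sum_mem _ (fun i _ => hom i _ (hc_mem_fixedPts k H B σ hlinX hlinC i f hf)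
    (homogeneousComponent_isHomogeneous i f))

end Hilbert

end Groth.Agent.Lib.GenHilbH1
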