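import Groth.Agent.Lib.GradedInv_helper9
import Groth.Agent.Lib.ComodFlag_helper9

/-!
# A finitely generated comodule algebra is an equivariant quotient of a polynomial ring with linear
coaction; Hilbert finiteness for finitely generated comodule algebras.

helper9.  APPEND-ONLY once landed.
-/

set_option autoImplicit false

universe u v w w'

open TensorProduct MvPolynomial

namespace Groth.Agent.Lib.SymComod_helper9

open Groth.Agent.Lib.LinRed_helper9 Groth.Agent.Lib.InvRey_helper9 Groth.Agent.Lib.Comod_helper9
  Groth.Agent.Lib.GradedInv_helper9 Groth.Agent.Lib.ComodDual_helper9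
  Groth.Agent.Lib.ComodFlag_helper9

section Bridge

variable (k : Type u) [CommRing k] (A : Type v) [CommRing A] [Bialgebra k A]
variable {R : Type w} [CommRing R] [Algebra k R] {S : Type w'} [CommRing S] [Algebra k S]

theorem map_id_apply (ρ : R →ₐ[k] S) (y : R ⊗[k] A) :
    Algebra.TensorProduct.map ρ (AlgHom.id k A) y = ρ.toLinearMap.rTensor A y := by
  induction y using TensorProduct.induction_on with
  | zero => rw [map_zero, map_zero]
  | add x y hx hy => rw [map_add, map_add, hx, hy]
  | tmul r a => rfl

theorem algAssoc_apply (z : (R ⊗[k] A) ⊗[k] A) :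
    Algebra.TensorProduct.assoc k k k R A A z = TensorProduct.assoc k R A A z := by
  induction z using TensorProduct.induction_on with
  | zero => rw [map_zero, map_zero]
  | add x y hx hy => rw [map_add, map_add, hx, hy]
  | tmul y a =>
    induction y using TensorProduct.induction_on with
    | zero => rw [zero_tmul, map_zero, map_zero]
    | add x y hx hy => rw [add_tmul, map_add, map_add, hx, hy]
    | tmul r a' => rfl

theorem map_comul_apply (y : R ⊗[k] A) :
    Algebra.TensorProduct.map (AlgHom.id k R) (Bialgebra.comulAlgHom k A) y =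
      (CoalgebraStruct.comul (R := k) (A := A)).lTensor R y := by
  induction y using TensorProduct.induction_on with
  | zero => rw [map_zero, map_zero]
  | add x y hx hy => rw [map_add, map_add, hx, hy]
  | tmul r a => rfl

theorem map_counit_apply (y : R ⊗[k] A) :
    Algebra.TensorProduct.map (AlgHom.id k R) (Bialgebra.counitAlgHom k A) y =
      (CoalgebraStruct.counit (R := k) (A := A)).lTensor R y := by
  induction y using TensorProduct.induction_on with
  | zero => rw [map_zero, map_zero]
  | add x y hx hy => rw [map_add, map_add, hx, hy]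
  | tmul r a => rfl

variable (σ : Type w)

/-- A comodule structure on `k[σ]` from an algebra map coassociative and counital on the variables. -/
@[reducible] noncomputable def polyComod
    (ρ : MvPolynomial σ k →ₐ[k] MvPolynomial σ k ⊗[k] A)
    (hco : ∀ i : σ, TensorProduct.assoc k (MvPolynomial σ k) A A
        (ρ.toLinearMap.rTensor A (ρ (X i))) =
      (CoalgebraStruct.comul (R := k) (A := A)).lTensor (MvPolynomial σ k) (ρ (X i)))
    (hcu : ∀ i : σ, (CoalgebraStruct.counit (R := k) (A := A)).lTensor (MvPolynomial σ k) (ρ (X i)) =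
      (X i : MvPolynomial σ k) ⊗ₜ[k] (1 : k)) :
    HopfRep.Comod k A (MvPolynomial σ k) where
  coact := ρ.toLinearMap
  coassoc := by
    have hΦ : ((Algebra.TensorProduct.assoc k k k (MvPolynomial σ k) A A).toAlgHom.comp
        ((Algebra.TensorProduct.map ρ (AlgHom.id k A)).comp ρ)) =
        (Algebra.TensorProduct.map (AlgHom.id k (MvPolynomial σ k))
          (Bialgebra.comulAlgHom k A)).comp ρ := by
      apply MvPolynomial.algHom_ext
      intro i
      show Algebra.TensorProduct.assoc k k k (MvPolynomial σ k) A A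
          (Algebra.TensorProduct.map ρ (AlgHom.id k A) (ρ (X i))) =
        Algebra.TensorProduct.map (AlgHom.id k (MvPolynomial σ k)) (Bialgebra.comulAlgHom k A)
          (ρ (X i))
      rw [map_id_apply, algAssoc_apply, map_comul_apply]
      exact hco i
    apply LinearMap.ext
    intro p
    show TensorProduct.assoc k (MvPolynomial σ k) A A (ρ.toLinearMap.rTensor A (ρ p)) =
      (CoalgebraStruct.comul (R := k) (A := A)).lTensor (MvPolynomial σ k) (ρ p)
    rw [← map_id_apply k A ρ, ← algAssoc_apply k A, ← map_comul_apply k A]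
    exact DFunLike.congr_fun hΦ p
  counit_comp := by
    have hΨ : (Algebra.TensorProduct.map (AlgHom.id k (MvPolynomial σ k))
        (Bialgebra.counitAlgHom k A)).comp ρ =
        (Algebra.TensorProduct.includeLeft :
          MvPolynomial σ k →ₐ[k] MvPolynomial σ k ⊗[k] k) := by
      apply MvPolynomial.algHom_ext
      intro i
      show Algebra.TensorProduct.map (AlgHom.id k (MvPolynomial σ k)) (Bialgebra.counitAlgHom k A)
          (ρ (X i)) = (X i : MvPolynomial σ k) ⊗ₜ[k] (1 : k)
      rw [map_counit_apply]
      exact hcu i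
    apply LinearMap.ext
    intro p
    show (CoalgebraStruct.counit (R := k) (A := A)).lTensor (MvPolynomial σ k) (ρ p) =
      p ⊗ₜ[k] (1 : k)
    rw [← map_counit_apply k A]
    exact DFunLike.congr_fun hΨ p

end Bridge

section FinSub

variable {k : Type u} [Field k] {C : Type v} [AddCommGroup C] [Module k C] [Coalgebra k C]
variable {V : Type w} [AddCommGroup V] [Module k V] [HopfRep.Comod k C V]

theorem exists_finite_subcomod_finset (T : Finset V) :
    ∃ W : Submodule k V, Module.Finite k W ∧ HopfRep.IsSubcomod (k := k) (A := C) W ∧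
      ∀ r ∈ T, r ∈ W := by
  classical
  induction T using Finset.induction_on with
  | empty => exact ⟨⊥, inferInstance, isSubcomod_bot, by simp⟩
  | insert r T hr ih =>
    obtain ⟨W, hfin, hW, hmem⟩ := ih
    obtain ⟨W', hfin', hr', hW'⟩ := exists_finite_subcomod_mem (k := k) (C := C) r
    refine ⟨W ⊔ W', ?_, isSubcomod_sup W W' hW hW', ?_⟩
    · haveI := hfin; haveI := hfin'; infer_instance
    · intro x hx
      rcases Finset.mem_insert.mp hx with rfl | hx
      · exact Submodule.mem_sup_right hr'
      · exact Submodule.mem_sup_left (hmem x hx)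

end FinSub

section Sym

variable (k : Type u) [Field k] (A : Type v) [CommRing A] [HopfAlgebra k A]
variable (R : Type w) [CommRing R] [Algebra k R] [c : HopfRep.Comod k A R]
variable (V : Submodule k R) (hV : HopfRep.IsSubcomod (k := k) (A := A) V)
variable {n : ℕ} (b : Module.Basis (Fin n) k V)

omit [HopfAlgebra k A] c in
/-- `v_i ↦ X_i` -/
noncomputable def iotaV : V →ₗ[k] MvPolynomial (Fin n) k :=
  b.constr k (fun i => (X i : MvPolynomial (Fin n) k))

omit [HopfAlgebra k A] c in
theorem iotaV_basis (i : Fin n) : iotaV k R V b (b i) = X i := by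
  unfold iotaV; exact b.constr_basis k _ i

omit [HopfAlgebra k A] c in
theorem iotaV_mem (v : V) : iotaV k R V b v ∈ homogeneousSubmodule (Fin n) k 1 := by
  rw [homogeneousSubmodule_one_eq_span_X, ← b.constr_range (S := k)]
  exact LinearMap.mem_range_self _ v

/-- the coaction on the polynomial ring on a basis of `V` -/
noncomputable def rhoP : MvPolynomial (Fin n) k →ₐ[k] MvPolynomial (Fin n) k ⊗[k] A :=
  aeval (fun i => (iotaV k R V b).rTensor A ((ComodSub.Comod.restr c V hV).coact (b i)))

theorem rhoP_X (i : Fin n) :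
    rhoP k A R V hV b (X i) =
      (iotaV k R V b).rTensor A ((ComodSub.Comod.restr c V hV).coact (b i)) := by
  unfold rhoP; rw [aeval_X]

theorem rhoP_comp_iotaV :
    (rhoP k A R V hV b).toLinearMap ∘ₗ iotaV k R V b =
      (iotaV k R V b).rTensor A ∘ₗ (ComodSub.Comod.restr c V hV).coact := by
  apply b.ext
  intro i
  show rhoP k A R V hV b (iotaV k R V b (b i)) =
    (iotaV k R V b).rTensor A ((ComodSub.Comod.restr c V hV).coact (b i))
  rw [iotaV_basis, rhoP_X]

theorem rhoP_coassoc (i : Fin n) :
    TensorProduct.assoc k (MvPolynomial (Fin n) k) A A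
      ((rhoP k A R V hV b).toLinearMap.rTensor A (rhoP k A R V hV b (X i))) =
    (CoalgebraStruct.comul (R := k) (A := A)).lTensor (MvPolynomial (Fin n) k)
      (rhoP k A R V hV b (X i)) := by
  rw [rhoP_X, ← LinearMap.rTensor_comp_apply, rhoP_comp_iotaV, LinearMap.rTensor_comp_apply,
    ComodTens.assoc_rTensor_rTensor, ComodTens.lTensor_rTensor_comm]
  exact congrArg _ (LinearMap.congr_fun (ComodSub.Comod.restr c V hV).coassoc (b i))

theorem rhoP_counit (i : Fin n) :
    (CoalgebraStruct.counit (R := k) (A := A)).lTensor (MvPolynomial (Fin n) k)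
      (rhoP k A R V hV b (X i)) = (X i : MvPolynomial (Fin n) k) ⊗ₜ[k] (1 : k) := by
  have h3 : (CoalgebraStruct.counit (R := k) (A := A)).lTensor V
      ((ComodSub.Comod.restr c V hV).coact (b i)) = (b i) ⊗ₜ[k] (1 : k) :=
    LinearMap.congr_fun (ComodSub.Comod.restr c V hV).counit_comp (b i)
  rw [rhoP_X, ComodTens.lTensor_rTensor_comm, h3, LinearMap.rTensor_tmul, iotaV_basis]

theorem rhoP_X_mem_Q (i : Fin n) : rhoP k A R V hV b (X i) ∈ Q k A (Fin n) 1 := by
  rw [rhoP_X]
  have : ∀ y : V ⊗[k] A, (iotaV k R V b).rTensor A y ∈ Q k A (Fin n) 1 := by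
    intro y
    induction y using TensorProduct.induction_on with
    | zero => rw [map_zero]; exact Submodule.zero_mem _
    | add y z hy hz => rw [map_add]; exact Submodule.add_mem _ hy hz
    | tmul v a =>
      rw [LinearMap.rTensor_tmul]
      exact tmul_mem_Q k A (Fin n) 1 _ (iotaV_mem k R V b v) a
  exact this _

omit [HopfAlgebra k A] c in
/-- `X_i ↦ v_i` -/
noncomputable def phi : MvPolynomial (Fin n) k →ₐ[k] R := aeval (fun i => ((b i : V) : R))

omit [HopfAlgebra k A] c in
theorem phi_comp_iotaV : (phi k R V b).toLinearMap ∘ₗ iotaV k R V b = V.subtype := by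
  apply b.ext
  intro i
  show phi k R V b (iotaV k R V b (b i)) = ((b i : V) : R)
  rw [iotaV_basis]; unfold phi; rw [aeval_X]

omit [HopfAlgebra k A] c in
theorem phi_iotaV (v : V) : phi k R V b (iotaV k R V b v) = (v : R) :=
  LinearMap.congr_fun (phi_comp_iotaV k R V b) v

theorem coact_phi [GLin.IsCoactAlg k A R] (p : MvPolynomial (Fin n) k) :
    HopfRep.Comod.coact (k := k) (A := A) (phi k R V b p) =
      (phi k R V b).toLinearMap.rTensor A (rhoP k A R V hV b p) := by
  have hΦ : (GLin.coactAlgHom k A R).comp (phi k R V b) =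
      (Algebra.TensorProduct.map (phi k R V b) (AlgHom.id k A)).comp (rhoP k A R V hV b) := by
    apply MvPolynomial.algHom_ext
    intro i
    show HopfRep.Comod.coact (k := k) (A := A) (phi k R V b (X i)) =
      Algebra.TensorProduct.map (phi k R V b) (AlgHom.id k A) (rhoP k A R V hV b (X i))
    rw [map_id_apply, rhoP_X, ← LinearMap.rTensor_comp_apply, phi_comp_iotaV]
    unfold phi
    rw [aeval_X]
    exact (ComodSub.restr_coact_coe c V hV (b i)).symm
  rw [← map_id_apply k A]
  exact DFunLike.congr_fun hΦ p

end Sym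

section Main

variable (k : Type u) [Field k] (A : Type v) [CommRing A] [HopfAlgebra k A]
variable (R : Type w) [CommRing R] [Algebra k R] [c : HopfRep.Comod k A R] [GLin.IsCoactAlg k A R]

/-- Hilbert's finiteness theorem for finitely generated comodule algebras. -/
theorem exists_finset_adjoin_of_finiteType [Algebra.FiniteType k R]
    (hG : HopfRep.IsLinearlyReductive k A) :
    ∃ s : Finset R, (∀ f ∈ s, f ∈ HopfRep.fixedPts k A R) ∧
      ∀ f ∈ HopfRep.fixedPts k A R, f ∈ Algebra.adjoin k (s : Set R) := by
  classical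
  obtain ⟨T, hT⟩ := (Algebra.FiniteType.out : (⊤ : Subalgebra k R).FG)
  obtain ⟨V, hfin, hV, hTV⟩ := exists_finite_subcomod_finset (k := k) (C := A) T
  haveI := hfin
  let b : Module.Basis (Fin (Module.finrank k V)) k V := Module.finBasis k V
  obtain ⟨β, hβ, h1⟩ := exists_leftIntegral k A hG
  letI cP : HopfRep.Comod k A (MvPolynomial (Fin (Module.finrank k V)) k) :=
    polyComod k A (Fin (Module.finrank k V)) (rhoP k A R V hV b)
      (rhoP_coassoc k A R V hV b) (rhoP_counit k A R V hV b)
  haveI hca : GLin.IsCoactAlg k A (MvPolynomial (Fin (Module.finrank k V)) k) :=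
    ⟨map_one (rhoP k A R V hV b), map_mul (rhoP k A R V hV b)⟩
  obtain ⟨s, hs1, hs2⟩ := exists_finset_adjoin k A (Fin (Module.finrank k V)) hG
    (fun i => rhoP_X_mem_Q k A R V hV b i)
  have hφ : Hoch.IsComodHom A (phi k R V b).toLinearMap :=
    LinearMap.ext (fun p => coact_phi k A R V hV b p)
  have hsurj : ∀ f : R, ∃ p, phi k R V b p = f := by
    have hle : Algebra.adjoin k (T : Set R) ≤ (phi k R V b).range := by
      apply Algebra.adjoin_le
      intro r hr
      exact ⟨iotaV k R V b ⟨r, hTV r hr⟩, phi_iotaV k R V b ⟨r, hTV r hr⟩⟩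
    rw [hT] at hle
    intro f
    exact hle (Algebra.mem_top : f ∈ (⊤ : Subalgebra k R))
  refine ⟨s.image (phi k R V b), ?_, ?_⟩
  · intro f hf
    obtain ⟨g, hg, rfl⟩ := Finset.mem_image.mp hf
    have hg' : HopfRep.Comod.coact (k := k) (A := A) g = g ⊗ₜ[k] (1 : A) := hs1 g hg
    show HopfRep.Comod.coact (k := k) (A := A) (phi k R V b g) = phi k R V b g ⊗ₜ[k] (1 : A)
    have h2 := isComodHom_apply hφ g
    rw [hg', LinearMap.rTensor_tmul] at h2
    exact h2
  · intro f hf
    obtain ⟨p, rfl⟩ := hsurj f
    have h2 : phi k R V b (rey k A β (MvPolynomial (Fin (Module.finrank k V)) k) p) =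
        rey k A β R (phi k R V b p) :=
      rey_natural k A β (MvPolynomial (Fin (Module.finrank k V)) k)
        (phi k R V b).toLinearMap hφ p
    rw [rey_of_mem_fixedPts k A β R h1 _ hf] at h2
    have h3 : rey k A β (MvPolynomial (Fin (Module.finrank k V)) k) p ∈
        Algebra.adjoin k (s : Set (MvPolynomial (Fin (Module.finrank k V)) k)) :=
      hs2 _ (rey_mem_fixedPts k A β _ hβ p)
    rw [Finset.coe_image, ← AlgHom.map_adjoin]
    exact ⟨_, h3, h2⟩

end Main

end Groth.Agent.Lib.SymComod_helper9
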