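import Groth.Agent.Lib.GenHilb1_helper1
import Groth.Agent.Lib.SymComod_helper9

/-!
# Hilbert finiteness for finitely generated comodule algebras over a Noetherian comodule algebra
(helper1)

If `G = Spec H` is linearly reductive, `B` a Noetherian comodule algebra and `R` a finitely
generated `B`-algebra with compatible coaction, then `R^G` is generated by the image of `B^G` and
finitely many invariants.  The proof presents `R` as an equivariant quotient of `B[x₁,…,xₙ]` with a
coaction which is the given one on `B` and linear on the variables.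
-/

set_option autoImplicit false

universe u v w w'

open TensorProduct MvPolynomial

namespace Groth.Agent.Lib.GenHilbH1

open Groth.Agent.Lib.LinRed_helper9 Groth.Agent.Lib.InvRey_helper9 Groth.Agent.Lib.Comod_helper9
  Groth.Agent.Lib.SymComod_helper9

theorem algHom_ext_CX {k : Type*} [CommSemiring k] {B : Type*} [CommSemiring B] [Algebra k B]
    {σ : Type*} {T : Type*} [Semiring T] [Algebra k T] (f g : MvPolynomial σ B →ₐ[k] T)
    (hC : ∀ x, f (C x) = g (C x)) (hX : ∀ i, f (X i) = g (X i)) : f = g := by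
  have h : (f : MvPolynomial σ B →+* T) = (g : MvPolynomial σ B →+* T) :=
    MvPolynomial.ringHom_ext (fun r => hC r) (fun i => hX i)
  exact AlgHom.ext fun p => RingHom.congr_fun h p

section Sym

variable (k : Type u) [Field k] (H : Type v) [CommRing H] [HopfAlgebra k H]
variable (B : Type w) [CommRing B] [Algebra k B] [cB : HopfRep.Comod k H B]
  [GLin.IsCoactAlg k H B]
variable (R : Type w') [CommRing R] [Algebra k R] [c : HopfRep.Comod k H R]
variable (V : Submodule k R) (hV : HopfRep.IsSubcomod (k := k) (A := H) V)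
variable {n : ℕ} (b : Module.Basis (Fin n) k V)

omit [HopfAlgebra k H] cB [GLin.IsCoactAlg k H B] in
/-- constants, as a `k`-algebra map -/
noncomputable def Cmap (n : ℕ) : B →ₐ[k] MvPolynomial (Fin n) B :=
  IsScalarTower.toAlgHom k B (MvPolynomial (Fin n) B)

omit [HopfAlgebra k H] cB [GLin.IsCoactAlg k H B] in
theorem Cmap_apply (x : B) : Cmap k B n x = C x := rfl

omit [HopfAlgebra k H] cB [GLin.IsCoactAlg k H B] c in
/-- `v_i ↦ X_i` -/
noncomputable def iotaV : V →ₗ[k] MvPolynomial (Fin n) B :=
  b.constr k (fun i => (X i : MvPolynomial (Fin n) B))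

omit [HopfAlgebra k H] cB [GLin.IsCoactAlg k H B] c in
theorem iotaV_basis (i : Fin n) : iotaV k B R V b (b i) = X i := by
  unfold iotaV; exact b.constr_basis k _ i

omit [HopfAlgebra k H] cB [GLin.IsCoactAlg k H B] c in
theorem iotaV_mem (v : V) : iotaV k B R V b v ∈ homogeneousSubmodule (Fin n) B 1 := by
  unfold iotaV
  rw [Module.Basis.constr_apply_fintype]
  refine Submodule.sum_mem _ fun i _ => ?_
  rw [← algebraMap_smul B ((b.equivFun v) i) (X i : MvPolynomial (Fin n) B)]
  exact Submodule.smul_mem _ _ (isHomogeneous_X B i)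

/-- the coaction on `B[x₁,…,xₙ]` -/
noncomputable def rhoS : MvPolynomial (Fin n) B →ₐ[k] MvPolynomial (Fin n) B ⊗[k] H :=
  { toRingHom := eval₂Hom
      ((Algebra.TensorProduct.map (Cmap k B n) (AlgHom.id k H)).toRingHom.comp
        (GLin.coactAlgHom k H B).toRingHom)
      (fun i => (iotaV k B R V b).rTensor H ((ComodSub.Comod.restr c V hV).coact (b i)))
    commutes' := fun r => by
      show eval₂Hom _ _ (algebraMap k (MvPolynomial (Fin n) B) r) = _
      rw [MvPolynomial.algebraMap_apply, eval₂Hom_C]
      show Algebra.TensorProduct.map (Cmap k B n) (AlgHom.id k H)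
        (GLin.coactAlgHom k H B (algebraMap k B r)) = _
      rw [AlgHom.commutes, AlgHom.commutes] }

theorem rhoS_X (i : Fin n) :
    rhoS k H B R V hV b (X i) =
      (iotaV k B R V b).rTensor H ((ComodSub.Comod.restr c V hV).coact (b i)) :=
  eval₂Hom_X' _ _ i

theorem rhoS_C (x : B) :
    rhoS k H B R V hV b (C x) =
      (Cmap k B n).toLinearMap.rTensor H (HopfRep.Comod.coact (k := k) (A := H) x) := by
  have h1 : rhoS k H B R V hV b (C x) =
      Algebra.TensorProduct.map (Cmap k B n) (AlgHom.id k H) (GLin.coactAlgHom k H B x) :=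
    eval₂Hom_C _ _ x
  rw [h1, map_id_apply, GLin.coactAlgHom_apply]

theorem rhoS_comp_Cmap :
    (rhoS k H B R V hV b).toLinearMap ∘ₗ (Cmap k B n).toLinearMap =
      (Cmap k B n).toLinearMap.rTensor H ∘ₗ HopfRep.Comod.coact (k := k) (A := H) :=
  LinearMap.ext fun x => rhoS_C k H B R V hV b x

theorem rhoS_comp_iotaV :
    (rhoS k H B R V hV b).toLinearMap ∘ₗ iotaV k B R V b =
      (iotaV k B R V b).rTensor H ∘ₗ (ComodSub.Comod.restr c V hV).coact := by
  apply b.ext
  intro i
  show rhoS k H B R V hV b (iotaV k B R V b (b i)) =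
    (iotaV k B R V b).rTensor H ((ComodSub.Comod.restr c V hV).coact (b i))
  rw [iotaV_basis, rhoS_X]

theorem rhoS_coassoc_X (i : Fin n) :
    TensorProduct.assoc k (MvPolynomial (Fin n) B) H H
      ((rhoS k H B R V hV b).toLinearMap.rTensor H (rhoS k H B R V hV b (X i))) =
    (CoalgebraStruct.comul (R := k) (A := H)).lTensor (MvPolynomial (Fin n) B)
      (rhoS k H B R V hV b (X i)) := by
  rw [rhoS_X, ← LinearMap.rTensor_comp_apply, rhoS_comp_iotaV, LinearMap.rTensor_comp_apply,
    ComodTens.assoc_rTensor_rTensor, ComodTens.lTensor_rTensor_comm]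
  exact congrArg _ (LinearMap.congr_fun (ComodSub.Comod.restr c V hV).coassoc (b i))

theorem rhoS_coassoc_C (x : B) :
    TensorProduct.assoc k (MvPolynomial (Fin n) B) H H
      ((rhoS k H B R V hV b).toLinearMap.rTensor H (rhoS k H B R V hV b (C x))) =
    (CoalgebraStruct.comul (R := k) (A := H)).lTensor (MvPolynomial (Fin n) B)
      (rhoS k H B R V hV b (C x)) := by
  rw [rhoS_C, ← LinearMap.rTensor_comp_apply, rhoS_comp_Cmap, LinearMap.rTensor_comp_apply,
    ComodTens.assoc_rTensor_rTensor, ComodTens.lTensor_rTensor_comm]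
  exact congrArg _ (LinearMap.congr_fun cB.coassoc x)

theorem rhoS_counit_X (i : Fin n) :
    (CoalgebraStruct.counit (R := k) (A := H)).lTensor (MvPolynomial (Fin n) B)
      (rhoS k H B R V hV b (X i)) = (X i : MvPolynomial (Fin n) B) ⊗ₜ[k] (1 : k) := by
  have h3 : (CoalgebraStruct.counit (R := k) (A := H)).lTensor V
      ((ComodSub.Comod.restr c V hV).coact (b i)) = (b i) ⊗ₜ[k] (1 : k) :=
    LinearMap.congr_fun (ComodSub.Comod.restr c V hV).counit_comp (b i)
  rw [rhoS_X, ComodTens.lTensor_rTensor_comm, h3, LinearMap.rTensor_tmul, iotaV_basis]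

theorem rhoS_counit_C (x : B) :
    (CoalgebraStruct.counit (R := k) (A := H)).lTensor (MvPolynomial (Fin n) B)
      (rhoS k H B R V hV b (C x)) = (C x : MvPolynomial (Fin n) B) ⊗ₜ[k] (1 : k) := by
  have h3 : (CoalgebraStruct.counit (R := k) (A := H)).lTensor B
      (HopfRep.Comod.coact (k := k) (A := H) x) = x ⊗ₜ[k] (1 : k) :=
    LinearMap.congr_fun cB.counit_comp x
  rw [rhoS_C, ComodTens.lTensor_rTensor_comm, h3, LinearMap.rTensor_tmul]
  rfl

/-- the comodule structure on `B[x₁,…,xₙ]` -/
@[reducible] noncomputable def polyComodB : HopfRep.Comod k H (MvPolynomial (Fin n) B) where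
  coact := (rhoS k H B R V hV b).toLinearMap
  coassoc := by
    have hΦ : ((Algebra.TensorProduct.assoc k k k (MvPolynomial (Fin n) B) H H).toAlgHom.comp
        ((Algebra.TensorProduct.map (rhoS k H B R V hV b) (AlgHom.id k H)).comp
          (rhoS k H B R V hV b))) =
        (Algebra.TensorProduct.map (AlgHom.id k (MvPolynomial (Fin n) B))
          (Bialgebra.comulAlgHom k H)).comp (rhoS k H B R V hV b) := by
      apply algHom_ext_CX
      · intro x
        show Algebra.TensorProduct.assoc k k k (MvPolynomial (Fin n) B) H H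
            (Algebra.TensorProduct.map (rhoS k H B R V hV b) (AlgHom.id k H)
              (rhoS k H B R V hV b (C x))) =
          Algebra.TensorProduct.map (AlgHom.id k (MvPolynomial (Fin n) B))
            (Bialgebra.comulAlgHom k H) (rhoS k H B R V hV b (C x))
        rw [map_id_apply, algAssoc_apply, map_comul_apply]
        exact rhoS_coassoc_C k H B R V hV b x
      · intro i
        show Algebra.TensorProduct.assoc k k k (MvPolynomial (Fin n) B) H H
            (Algebra.TensorProduct.map (rhoS k H B R V hV b) (AlgHom.id k H)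
              (rhoS k H B R V hV b (X i))) =
          Algebra.TensorProduct.map (AlgHom.id k (MvPolynomial (Fin n) B))
            (Bialgebra.comulAlgHom k H) (rhoS k H B R V hV b (X i))
        rw [map_id_apply, algAssoc_apply, map_comul_apply]
        exact rhoS_coassoc_X k H B R V hV b i
    apply LinearMap.ext
    intro p
    show TensorProduct.assoc k (MvPolynomial (Fin n) B) H H
        ((rhoS k H B R V hV b).toLinearMap.rTensor H (rhoS k H B R V hV b p)) =
      (CoalgebraStruct.comul (R := k) (A := H)).lTensor (MvPolynomial (Fin n) B)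
        (rhoS k H B R V hV b p)
    rw [← map_id_apply k H (rhoS k H B R V hV b), ← algAssoc_apply k H, ← map_comul_apply k H]
    exact DFunLike.congr_fun hΦ p
  counit_comp := by
    have hΨ : (Algebra.TensorProduct.map (AlgHom.id k (MvPolynomial (Fin n) B))
        (Bialgebra.counitAlgHom k H)).comp (rhoS k H B R V hV b) =
        (Algebra.TensorProduct.includeLeft :
          MvPolynomial (Fin n) B →ₐ[k] MvPolynomial (Fin n) B ⊗[k] k) := by
      apply algHom_ext_CX
      · intro x
        show Algebra.TensorProduct.map (AlgHom.id k (MvPolynomial (Fin n) B))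
            (Bialgebra.counitAlgHom k H) (rhoS k H B R V hV b (C x)) =
          (C x : MvPolynomial (Fin n) B) ⊗ₜ[k] (1 : k)
        rw [map_counit_apply]
        exact rhoS_counit_C k H B R V hV b x
      · intro i
        show Algebra.TensorProduct.map (AlgHom.id k (MvPolynomial (Fin n) B))
            (Bialgebra.counitAlgHom k H) (rhoS k H B R V hV b (X i)) =
          (X i : MvPolynomial (Fin n) B) ⊗ₜ[k] (1 : k)
        rw [map_counit_apply]
        exact rhoS_counit_X k H B R V hV b i
    apply LinearMap.ext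
    intro p
    show (CoalgebraStruct.counit (R := k) (A := H)).lTensor (MvPolynomial (Fin n) B)
        (rhoS k H B R V hV b p) = p ⊗ₜ[k] (1 : k)
    rw [← map_counit_apply k H]
    exact DFunLike.congr_fun hΨ p

theorem rhoS_X_mem_Q (i : Fin n) : rhoS k H B R V hV b (X i) ∈ Q k H B (Fin n) 1 := by
  rw [rhoS_X]
  have : ∀ y : V ⊗[k] H, (iotaV k B R V b).rTensor H y ∈ Q k H B (Fin n) 1 := by
    intro y
    induction y using TensorProduct.induction_on with
    | zero => rw [map_zero]; exact Submodule.zero_mem _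
    | add y z hy hz => rw [map_add]; exact Submodule.add_mem _ hy hz
    | tmul v a =>
      rw [LinearMap.rTensor_tmul]
      exact tmul_mem_Q k H B (Fin n) 1 _ (iotaV_mem k B R V b v) a
  exact this _

theorem rhoS_C_mem_Q (x : B) : rhoS k H B R V hV b (C x) ∈ Q k H B (Fin n) 0 := by
  rw [rhoS_C]
  have : ∀ y : B ⊗[k] H, (Cmap k B n).toLinearMap.rTensor H y ∈ Q k H B (Fin n) 0 := by
    intro y
    induction y using TensorProduct.induction_on with
    | zero => rw [map_zero]; exact Submodule.zero_mem _
    | add y z hy hz => rw [map_add]; exact Submodule.add_mem _ hy hz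
    | tmul v a =>
      rw [LinearMap.rTensor_tmul]
      exact tmul_mem_Q k H B (Fin n) 0 _ (isHomogeneous_C _ v) a
  exact this _

variable [Algebra B R] [IsScalarTower k B R]

omit [HopfAlgebra k H] cB [GLin.IsCoactAlg k H B] c in
/-- `X_i ↦ v_i` -/
noncomputable def phi : MvPolynomial (Fin n) B →ₐ[k] R :=
  (aeval (fun i => ((b i : V) : R)) : MvPolynomial (Fin n) B →ₐ[B] R).restrictScalars k

omit [HopfAlgebra k H] cB [GLin.IsCoactAlg k H B] c in
theorem phi_X (i : Fin n) : phi k B R V b (X i) = ((b i : V) : R) := by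
  unfold phi; exact aeval_X _ i

omit [HopfAlgebra k H] cB [GLin.IsCoactAlg k H B] c in
theorem phi_C (x : B) : phi k B R V b (C x) = algebraMap B R x := by
  unfold phi; exact aeval_C _ x

omit [HopfAlgebra k H] cB [GLin.IsCoactAlg k H B] c in
theorem phi_comp_iotaV : (phi k B R V b).toLinearMap ∘ₗ iotaV k B R V b = V.subtype := by
  apply b.ext
  intro i
  show phi k B R V b (iotaV k B R V b (b i)) = ((b i : V) : R)
  rw [iotaV_basis, phi_X]

omit [HopfAlgebra k H] cB [GLin.IsCoactAlg k H B] c in
theorem phi_iotaV (v : V) : phi k B R V b (iotaV k B R V b v) = (v : R) :=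
  LinearMap.congr_fun (phi_comp_iotaV k B R V b) v

omit [HopfAlgebra k H] cB [GLin.IsCoactAlg k H B] c in
theorem phi_comp_Cmap : (phi k B R V b).toLinearMap ∘ₗ (Cmap k B n).toLinearMap =
    (IsScalarTower.toAlgHom k B R).toLinearMap :=
  LinearMap.ext fun x => phi_C k B R V b x

theorem coact_phi [GLin.IsCoactAlg k H R]
    (hAC : Hoch.IsComodHom H (IsScalarTower.toAlgHom k B R).toLinearMap)
    (p : MvPolynomial (Fin n) B) :
    HopfRep.Comod.coact (k := k) (A := H) (phi k B R V b p) =
      (phi k B R V b).toLinearMap.rTensor H (rhoS k H B R V hV b p) := by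
  have hΦ : (GLin.coactAlgHom k H R).comp (phi k B R V b) =
      (Algebra.TensorProduct.map (phi k B R V b) (AlgHom.id k H)).comp (rhoS k H B R V hV b) := by
    apply algHom_ext_CX
    · intro x
      show HopfRep.Comod.coact (k := k) (A := H) (phi k B R V b (C x)) =
        Algebra.TensorProduct.map (phi k B R V b) (AlgHom.id k H) (rhoS k H B R V hV b (C x))
      rw [map_id_apply, rhoS_C, ← LinearMap.rTensor_comp_apply, phi_comp_Cmap, phi_C]
      exact isComodHom_apply hAC x
    · intro i
      show HopfRep.Comod.coact (k := k) (A := H) (phi k B R V b (X i)) =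
        Algebra.TensorProduct.map (phi k B R V b) (AlgHom.id k H) (rhoS k H B R V hV b (X i))
      rw [map_id_apply, rhoS_X, ← LinearMap.rTensor_comp_apply, phi_comp_iotaV, phi_X]
      exact (ComodSub.restr_coact_coe c V hV (b i)).symm
  rw [← map_id_apply k H]
  exact DFunLike.congr_fun hΦ p

end Sym

section Main

variable (k : Type u) [Field k] (H : Type v) [CommRing H] [HopfAlgebra k H]
variable (B : Type w) [CommRing B] [Algebra k B] [IsNoetherianRing B] [cB : HopfRep.Comod k H B]
  [GLin.IsCoactAlg k H B]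
variable (R : Type w') [CommRing R] [Algebra k R] [c : HopfRep.Comod k H R]
  [GLin.IsCoactAlg k H R]
variable [Algebra B R] [IsScalarTower k B R]

/-- Hilbert finiteness over a Noetherian comodule algebra base. -/
theorem exists_finset_adjoin_of_finiteType_base [Algebra.FiniteType B R]
    (hAC : Hoch.IsComodHom H (IsScalarTower.toAlgHom k B R).toLinearMap)
    (hG : HopfRep.IsLinearlyReductive k H) :
    ∃ s : Finset R, (∀ f ∈ s, f ∈ HopfRep.fixedPts k H R) ∧
      ∀ f ∈ HopfRep.fixedPts k H R,
        f ∈ Algebra.adjoin k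
          (⇑(algebraMap B R) '' (HopfRep.fixedPts k H B : Set B) ∪ (s : Set R)) := by
  classical
  obtain ⟨T, hT⟩ := (Algebra.FiniteType.out : (⊤ : Subalgebra B R).FG)
  obtain ⟨V, hfin, hV, hTV⟩ := exists_finite_subcomod_finset (k := k) (C := H) T
  haveI := hfin
  let b : Module.Basis (Fin (Module.finrank k V)) k V := Module.finBasis k V
  obtain ⟨β, hβ, h1⟩ := exists_leftIntegral k H hG
  letI cP : HopfRep.Comod k H (MvPolynomial (Fin (Module.finrank k V)) B) :=
    polyComodB k H B R V hV b
  haveI hca : GLin.IsCoactAlg k H (MvPolynomial (Fin (Module.finrank k V)) B) :=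
    ⟨map_one (rhoS k H B R V hV b), map_mul (rhoS k H B R V hV b)⟩
  obtain ⟨s, hs1, hs2⟩ := exists_finset_adjoin_base k H B (Fin (Module.finrank k V)) hG
    (fun i => rhoS_X_mem_Q k H B R V hV b i) (fun x => rhoS_C_mem_Q k H B R V hV b x)
  have hφ : Hoch.IsComodHom H (phi k B R V b).toLinearMap :=
    LinearMap.ext (fun p => coact_phi k H B R V hV b hAC p)
  have hsurj : ∀ f : R, ∃ p, phi k B R V b p = f := by
    have hle : Algebra.adjoin B (T : Set R) ≤
        (aeval (fun i => ((b i : V) : R)) : MvPolynomial (Fin (Module.finrank k V)) B →ₐ[B] R).range := by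
      apply Algebra.adjoin_le
      intro r hr
      exact ⟨iotaV k B R V b ⟨r, hTV r hr⟩, phi_iotaV k B R V b ⟨r, hTV r hr⟩⟩
    rw [hT] at hle
    intro f
    obtain ⟨p, hp⟩ := hle (Algebra.mem_top : f ∈ (⊤ : Subalgebra B R))
    exact ⟨p, hp⟩
  -- invariant constants
  have hZ : ∀ f : MvPolynomial (Fin (Module.finrank k V)) B,
      f ∈ HopfRep.fixedPts k H (MvPolynomial (Fin (Module.finrank k V)) B) →
      f.IsHomogeneous 0 → phi k B R V b f ∈ ⇑(algebraMap B R) '' (HopfRep.fixedPts k H B : Set B) := by
    intro f hf hf0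
    have hf0' : f ∈ homogeneousSubmodule (Fin (Module.finrank k V)) B 0 := hf0
    rw [homogeneousSubmodule_zero, Submodule.mem_one] at hf0'
    obtain ⟨x, rfl⟩ := hf0'
    rw [MvPolynomial.algebraMap_eq] at hf ⊢
    refine ⟨x, ?_, (phi_C k B R V b x).symm⟩
    have hf' : rhoS k H B R V hV b (C x) =
        (C x : MvPolynomial (Fin (Module.finrank k V)) B) ⊗ₜ[k] (1 : H) := hf
    rw [rhoS_C] at hf'
    have hinj : Function.Injective ((Cmap k B (Module.finrank k V)).toLinearMap.rTensor H) :=
      Module.Flat.rTensor_preserves_injective_linearMap _ (fun x y hxy => C_injective _ _ hxy)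
    apply hinj
    rw [hf', LinearMap.rTensor_tmul]
    rfl
  refine ⟨s.image (phi k B R V b), ?_, ?_⟩
  · intro f hf
    obtain ⟨g, hg, rfl⟩ := Finset.mem_image.mp hf
    have hg' : HopfRep.Comod.coact (k := k) (A := H) g = g ⊗ₜ[k] (1 : H) := hs1 g hg
    show HopfRep.Comod.coact (k := k) (A := H) (phi k B R V b g) = phi k B R V b g ⊗ₜ[k] (1 : H)
    have h2 := isComodHom_apply hφ g
    rw [hg', LinearMap.rTensor_tmul] at h2
    exact h2
  · intro f hf
    obtain ⟨p, rfl⟩ := hsurj f
    have h2 : phi k B R V b (rey k H β (MvPolynomial (Fin (Module.finrank k V)) B) p) =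
        rey k H β R (phi k B R V b p) :=
      rey_natural k H β (MvPolynomial (Fin (Module.finrank k V)) B)
        (phi k B R V b).toLinearMap hφ p
    rw [rey_of_mem_fixedPts k H β R h1 _ hf] at h2
    have h3 := hs2 _ (rey_mem_fixedPts k H β (MvPolynomial (Fin (Module.finrank k V)) B) hβ p)
    have h4 : phi k B R V b (rey k H β (MvPolynomial (Fin (Module.finrank k V)) B) p) ∈
        (Algebra.adjoin k
          ({f | f ∈ HopfRep.fixedPts k H (MvPolynomial (Fin (Module.finrank k V)) B) ∧
              f.IsHomogeneous 0} ∪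
            (s : Set (MvPolynomial (Fin (Module.finrank k V)) B)))).map (phi k B R V b) :=
      ⟨_, h3, rfl⟩
    rw [AlgHom.map_adjoin] at h4
    rw [← h2]
    refine Algebra.adjoin_mono ?_ h4
    rintro _ ⟨g, hg | hg, rfl⟩
    · exact Or.inl (hZ g hg.1 hg.2)
    · exact Or.inr (Finset.mem_coe.2 (Finset.mem_image_of_mem _ hg))

end Main

end Groth.Agent.Lib.GenHilbH1
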