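import Groth.Agent.Lib.GenHilb2_helper1
import Groth.Agent.Lib.Untwist_helper9

/-!
# A Noetherian comodule algebra over a linearly reductive group of finite type is of finite type
over its invariants (helper1)

For a comodule algebra `B` the coaction `ρ : B → B ⊗ H` makes `B ⊗ H` (with the coaction `id ⊗ Δ`)
a `B`-algebra of finite type (generated by `1 ⊗ h_j`, by the untwisting identity), equivariantly.
Its invariants contain `B ⊗ 1`, and by `exists_finset_adjoin_of_finiteType_base` they are generated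
by `ρ(B^G)` and finitely many elements; applying `id ⊗ ε` gives that `B` is generated over `B^G` by
finitely many elements.
-/

set_option autoImplicit false

universe u v w

open TensorProduct

namespace Groth.Agent.Lib.GenHilbH1

open Groth.Agent.Lib.LinRed_helper9 Groth.Agent.Lib.InvRey_helper9 Groth.Agent.Lib.Comod_helper9
  Groth.Agent.Lib.SymComod_helper9 Groth.Agent.Lib.Untwist_helper9
  Groth.Agent.Lib.Integral_helper9

section Def

variable (k : Type u) [CommRing k] (H : Type v) [CommRing H] [Algebra k H]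
  (B : Type w) [CommRing B] [Algebra k B]

/-- `B ⊗ H` as an algebra; it will carry the coaction `id ⊗ Δ`. -/
def IndAlg : Type (max w v) := B ⊗[k] H

noncomputable instance IndAlg.instCommRing : CommRing (IndAlg k H B) :=
  inferInstanceAs (CommRing (B ⊗[k] H))

noncomputable instance IndAlg.instAlgebra : Algebra k (IndAlg k H B) :=
  inferInstanceAs (Algebra k (B ⊗[k] H))

end Def

section Ind

variable (k : Type u) [Field k] (H : Type v) [CommRing H] [HopfAlgebra k H]
variable (B : Type w) [CommRing B] [Algebra k B]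

theorem algAssoc_symm_apply (t : B ⊗[k] (H ⊗[k] H)) :
    (Algebra.TensorProduct.assoc k k k B H H).symm t = (TensorProduct.assoc k B H H).symm t := by
  rw [AlgEquiv.symm_apply_eq, algAssoc_apply, LinearEquiv.apply_symm_apply]

/-- `id ⊗ Δ` as an algebra map -/
noncomputable def PsiAlg : B ⊗[k] H →ₐ[k] (B ⊗[k] H) ⊗[k] H :=
  (Algebra.TensorProduct.assoc k k k B H H).symm.toAlgHom.comp
    (Algebra.TensorProduct.map (AlgHom.id k B) (Bialgebra.comulAlgHom k H))

theorem coactAux_eq_Psi (y : B ⊗[k] H) : Hoch.Ind.coactAux k H B y = PsiAlg k H B y := by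
  show (TensorProduct.assoc k B H H).symm
      ((CoalgebraStruct.comul (R := k) (A := H)).lTensor B y) =
    (Algebra.TensorProduct.assoc k k k B H H).symm
      (Algebra.TensorProduct.map (AlgHom.id k B) (Bialgebra.comulAlgHom k H) y)
  rw [map_comul_apply, algAssoc_symm_apply]

theorem coactAux_mul (f g : B ⊗[k] H) :
    Hoch.Ind.coactAux k H B (f * g) =
      Hoch.Ind.coactAux k H B f * Hoch.Ind.coactAux k H B g := by
  rw [coactAux_eq_Psi, coactAux_eq_Psi, coactAux_eq_Psi, map_mul]

theorem coactAux_one : Hoch.Ind.coactAux k H B 1 = 1 := by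
  rw [coactAux_eq_Psi, map_one]

noncomputable instance IndAlg.comod : HopfRep.Comod k H (IndAlg k H B) where
  coact := Hoch.Ind.coactAux k H B
  coassoc := (Hoch.Ind.comod k H B).coassoc
  counit_comp := (Hoch.Ind.comod k H B).counit_comp

instance IndAlg.isCoactAlg : GLin.IsCoactAlg k H (IndAlg k H B) where
  coact_one := coactAux_one k H B
  coact_mul := fun f g => coactAux_mul k H B f g

/-- `id ⊗ ε` as an algebra map -/
noncomputable def eps : IndAlg k H B →ₐ[k] B :=
  (Algebra.TensorProduct.rid k k B).toAlgHom.comp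
    (Algebra.TensorProduct.map (AlgHom.id k B) (Bialgebra.counitAlgHom k H))

theorem eps_tmul (b : B) (h : H) :
    eps k H B (b ⊗ₜ[k] h) = CoalgebraStruct.counit (R := k) h • b := by
  show Algebra.TensorProduct.rid k k B
    (Algebra.TensorProduct.map (AlgHom.id k B) (Bialgebra.counitAlgHom k H) (b ⊗ₜ[k] h)) = _
  rw [Algebra.TensorProduct.map_tmul, Algebra.TensorProduct.rid_tmul]
  rfl

theorem IndAlg.tmul_one_mem_fixedPts (x : B) :
    ((x ⊗ₜ[k] (1 : H) : B ⊗[k] H) : IndAlg k H B) ∈ HopfRep.fixedPts k H (IndAlg k H B) := by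
  show Hoch.Ind.coactAux k H B (x ⊗ₜ[k] (1 : H)) = (x ⊗ₜ[k] (1 : H)) ⊗ₜ[k] (1 : H)
  rw [Hoch.Ind.coactAux_tmul, Bialgebra.comul_one, Algebra.TensorProduct.one_def,
    TensorProduct.assoc_symm_tmul]

variable [cB : HopfRep.Comod k H B] [GLin.IsCoactAlg k H B]

theorem eps_coact (x : B) :
    eps k H B (HopfRep.Comod.coact (k := k) (A := H) x) = x := by
  have hc := LinearMap.congr_fun (HopfRep.Comod.counit_comp (k := k) (A := H) (V := B)) x
  have hc' : (CoalgebraStruct.counit (R := k) (A := H)).lTensor B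
      (HopfRep.Comod.coact (k := k) (A := H) x) = x ⊗ₜ[k] (1 : k) := hc
  show Algebra.TensorProduct.rid k k B
    (Algebra.TensorProduct.map (AlgHom.id k B) (Bialgebra.counitAlgHom k H)
      (HopfRep.Comod.coact (k := k) (A := H) x)) = x
  rw [map_counit_apply, hc', Algebra.TensorProduct.rid_tmul, one_smul]

/-- `B ⊗ H` as a `B`-algebra through the coaction. -/
noncomputable instance IndAlg.instAlgebraB : Algebra B (IndAlg k H B) :=
  (GLin.coactAlgHom k H B).toRingHom.toAlgebra

theorem IndAlg.algebraMap_apply (x : B) :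
    algebraMap B (IndAlg k H B) x = HopfRep.Comod.coact (k := k) (A := H) x := rfl

instance IndAlg.isScalarTower : IsScalarTower k B (IndAlg k H B) :=
  IsScalarTower.of_algebraMap_eq (fun r => ((GLin.coactAlgHom k H B).commutes r).symm)

theorem IndAlg.hAC :
    Hoch.IsComodHom H (IsScalarTower.toAlgHom k B (IndAlg k H B)).toLinearMap := by
  have hf : (IsScalarTower.toAlgHom k B (IndAlg k H B)).toLinearMap =
      (HopfRep.Comod.coact (k := k) (A := H) (V := B)) := LinearMap.ext fun _ => rfl
  unfold Hoch.IsComodHom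
  rw [hf]
  apply LinearMap.ext
  intro x
  exact coassoc_apply k H B x

theorem IndAlg.finiteType [Algebra.FiniteType k H] : Algebra.FiniteType B (IndAlg k H B) := by
  classical
  obtain ⟨T, hT⟩ := (Algebra.FiniteType.out : (⊤ : Subalgebra k H).FG)
  obtain ⟨incR, hincR⟩ : ∃ incR : H →ₐ[k] IndAlg k H B,
      incR = (Algebra.TensorProduct.includeRight : H →ₐ[k] B ⊗[k] H) := ⟨_, rfl⟩
  have hinc : ∀ h : H, incR h = ((1 : B) ⊗ₜ[k] h : B ⊗[k] H) := by
    intro h
    rw [hincR]
    rfl
  refine ⟨⟨T.image incR, ?_⟩⟩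
  rw [Finset.coe_image]
  obtain ⟨𝒰, h𝒰⟩ : ∃ 𝒰 : Subalgebra B (IndAlg k H B),
      𝒰 = Algebra.adjoin B (⇑incR '' (T : Set H)) := ⟨_, rfl⟩
  rw [← h𝒰]
  have hH : ∀ h : H, incR h ∈ 𝒰 := by
    intro h
    have hle : Algebra.adjoin k (T : Set H) ≤ (𝒰.restrictScalars k).comap incR := by
      apply Algebra.adjoin_le
      intro t ht
      show incR t ∈ 𝒰
      rw [h𝒰]
      exact Algebra.subset_adjoin ⟨t, ht, rfl⟩
    rw [hT] at hle
    exact hle Algebra.mem_top
  have hρ : ∀ x : B, (HopfRep.Comod.coact (k := k) (A := H) x : IndAlg k H B) ∈ 𝒰 :=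
    fun x => 𝒰.algebraMap_mem x
  have hΨ : ∀ z : B ⊗[k] H,
      (Psi2 k H B ((HopfRep.Comod.coact (k := k) (A := H) (V := B)).rTensor H z) :
        IndAlg k H B) ∈ 𝒰 := by
    intro z
    induction z using TensorProduct.induction_on with
    | zero =>
      simp only [map_zero]
      exact 𝒰.zero_mem
    | add x y hx hy =>
      rw [map_add, map_add]
      exact 𝒰.add_mem hx hy
    | tmul b h =>
      rw [LinearMap.rTensor_tmul, Psi2_tmul]
      have h2 := hH (HopfAlgebraStruct.antipode k h)
      rw [hinc] at h2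
      exact 𝒰.mul_mem (hρ b) h2
  have hB : ∀ x : B, ((x ⊗ₜ[k] (1 : H) : B ⊗[k] H) : IndAlg k H B) ∈ 𝒰 := by
    intro x
    have := hΨ (HopfRep.Comod.coact (k := k) (A := H) x)
    rwa [untwist] at this
  have hall : ∀ z : B ⊗[k] H, (z : IndAlg k H B) ∈ 𝒰 := by
    intro z
    induction z using TensorProduct.induction_on with
    | zero => exact 𝒰.zero_mem
    | add x y hx hy => exact 𝒰.add_mem hx hy
    | tmul b h =>
      have h1 : (b ⊗ₜ[k] h : B ⊗[k] H) = (b ⊗ₜ[k] (1 : H)) * ((1 : B) ⊗ₜ[k] h) := by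
        rw [Algebra.TensorProduct.tmul_mul_tmul, mul_one, one_mul]
      rw [h1]
      have h2 := hH h
      rw [hinc] at h2
      exact 𝒰.mul_mem (hB b) h2
  rw [eq_top_iff]
  intro z _
  exact hall z

/-- A Noetherian comodule algebra over a linearly reductive group of finite type is of finite type
over its ring of invariants. -/
theorem main16107 [Algebra.FiniteType k H] [IsNoetherianRing B]
    (hG : HopfRep.IsLinearlyReductive k H) :
    Algebra.FiniteType ↥(GLin.invariants k H B) B := by
  classical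
  haveI : Algebra.FiniteType B (IndAlg k H B) := IndAlg.finiteType k H B
  obtain ⟨s, _, hs2⟩ := exists_finset_adjoin_of_finiteType_base k H B (IndAlg k H B)
    (IndAlg.hAC k H B) hG
  refine ⟨⟨s.image (eps k H B), ?_⟩⟩
  rw [eq_top_iff]
  intro x _
  have h1 := hs2 _ (IndAlg.tmul_one_mem_fixedPts k H B x)
  have h2 : eps k H B (x ⊗ₜ[k] (1 : H)) ∈
      (Algebra.adjoin k (⇑(algebraMap B (IndAlg k H B)) '' (HopfRep.fixedPts k H B : Set B) ∪
        (s : Set (IndAlg k H B)))).map (eps k H B) := ⟨_, h1, rfl⟩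
  rw [AlgHom.map_adjoin, eps_tmul, Bialgebra.counit_one, one_smul] at h2
  have hle : Algebra.adjoin k (⇑(eps k H B) ''
      (⇑(algebraMap B (IndAlg k H B)) '' (HopfRep.fixedPts k H B : Set B) ∪
        (s : Set (IndAlg k H B)))) ≤
      (Algebra.adjoin ↥(GLin.invariants k H B)
        ((s.image (eps k H B) : Finset B) : Set B)).restrictScalars k := by
    apply Algebra.adjoin_le
    rintro _ ⟨y, hy | hy, rfl⟩
    · obtain ⟨b, hb, rfl⟩ := hy
      have h3 : eps k H B (algebraMap B (IndAlg k H B) b) = b := eps_coact k H B b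
      rw [h3]
      have hb' : b ∈ GLin.invariants k H B := hb
      rw [SetLike.mem_coe, Subalgebra.mem_restrictScalars]
      exact Subalgebra.algebraMap_mem _ (⟨b, hb'⟩ : ↥(GLin.invariants k H B))
    · rw [SetLike.mem_coe, Subalgebra.mem_restrictScalars]
      exact Algebra.subset_adjoin
        (Finset.mem_coe.2 (Finset.mem_image_of_mem _ (Finset.mem_coe.1 hy)))
  exact hle h2

end Ind

end Groth.Agent.Lib.GenHilbH1
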