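import Mathlib
import Groth.Agent.Lib.GenFreeG_helper8

/-! A submodule of a module with generically free quotient: injectivity of `K/uK → F/uF`
after localization at primes not containing the generic element. -/

namespace GenInjSubH8

open GenFreeH8

variable {A : Type*} [CommRing A] {KA FA : Type*} [AddCommGroup KA] [Module A KA]
  [AddCommGroup FA] [Module A FA]

theorem exists_smul_mem (j : KA →ₗ[A] FA) (hj : Function.Injective j) (a : A)
    (hQ : GFW A (FA ⧸ LinearMap.range j) a) (u : Ideal A) [u.IsPrime] (ha : a ∉ u)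
    (m : KA) (s : A) (hs : s ∉ u) (hm : s • j m ∈ u • (⊤ : Submodule A FA)) :
    ∃ s' : A, s' ∉ u ∧ s' • m ∈ u • (⊤ : Submodule A KA) := by
  classical
  obtain ⟨S, hS, hsp⟩ := hQ
  set π : FA →ₗ[A] (FA ⧸ LinearMap.range j) := (LinearMap.range j).mkQ with hπ
  choose σ hσ using fun e : S => (LinearMap.range j).mkQ_surjective (e : FA ⧸ LinearMap.range j)
  set Φ : (S →₀ A) →ₗ[A] FA := Finsupp.linearCombination A σ with hΦ
  have hπΦ : ∀ l, π (Φ l) = Finsupp.linearCombination A ((↑) : S → FA ⧸ LinearMap.range j) l := by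
    intro l
    rw [hΦ, Finsupp.apply_linearCombination]
    have : (⇑π ∘ σ) = ((↑) : S → FA ⧸ LinearMap.range j) := by
      funext e
      exact hσ e
    rw [this]
  have hinj : ∀ l, π (Φ l) = 0 → l = 0 := by
    intro l hl
    rw [hπΦ] at hl
    exact (linearIndependent_iff.mp hS) l hl
  have hcov : ∀ y : FA, ∃ (k : ℕ) (l : S →₀ A) (w : KA), a ^ k • y = Φ l + j w := by
    intro y
    obtain ⟨k, hk⟩ := hsp (π y)
    rw [← Subtype.range_coe (s := S), ← Finsupp.range_linearCombination] at hk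
    obtain ⟨l, hl⟩ := hk
    have h0 : π (a ^ k • y - Φ l) = 0 := by
      rw [map_sub, map_smul, hπΦ, hl, sub_self]
    rw [hπ, Submodule.mkQ_apply, Submodule.Quotient.mk_eq_zero] at h0
    obtain ⟨w, hw⟩ := h0
    exact ⟨k, l, w, by rw [hw]; abel⟩
  have key : ∀ z ∈ u • (⊤ : Submodule A FA), ∃ (k : ℕ) (l : S →₀ A) (w : KA),
      w ∈ u • (⊤ : Submodule A KA) ∧ a ^ k • z = Φ l + j w := by
    intro z hz
    induction hz using Submodule.smul_induction_on' with
    | smul c hc y _ =>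
      obtain ⟨k, l, w, h⟩ := hcov y
      refine ⟨k, c • l, c • w, Submodule.smul_mem_smul hc Submodule.mem_top, ?_⟩
      rw [smul_comm, h, smul_add, map_smul, map_smul]
    | add z₁ _ z₂ _ h₁ h₂ =>
      obtain ⟨k₁, l₁, w₁, hw₁, e₁⟩ := h₁
      obtain ⟨k₂, l₂, w₂, hw₂, e₂⟩ := h₂
      refine ⟨k₁ + k₂, a ^ k₂ • l₁ + a ^ k₁ • l₂, a ^ k₂ • w₁ + a ^ k₁ • w₂,
        Submodule.add_mem _ (Submodule.smul_mem _ _ hw₁) (Submodule.smul_mem _ _ hw₂), ?_⟩
      rw [smul_add, pow_add, mul_comm (a ^ k₁) (a ^ k₂), mul_smul, e₁,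
        mul_comm (a ^ k₂) (a ^ k₁), mul_smul, e₂]
      simp only [map_add, map_smul, smul_add]
      abel
  obtain ⟨k, l, w, hw, e⟩ := key _ hm
  have hl : l = 0 := by
    apply hinj
    have : Φ l = j (a ^ k • s • m - w) := by
      rw [map_sub, map_smul, map_smul, e]; abel
    rw [this, hπ, Submodule.mkQ_apply, Submodule.Quotient.mk_eq_zero]
    exact ⟨_, rfl⟩
  rw [hl, map_zero, zero_add, ← map_smul, ← map_smul] at e
  have e' := hj e
  refine ⟨a ^ k * s, ?_, ?_⟩
  · intro h
    rcases Ideal.IsPrime.mem_or_mem inferInstance h with h | h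
    · exact ha (Ideal.IsPrime.mem_of_pow_mem inferInstance k h)
    · exact hs h
  · rw [mul_smul, e']; exact hw

end GenInjSubH8
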