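import Mathlib
import Groth.Prelude
import Groth.Agent.Lib.FlatDedekind_helper4

set_option autoImplicit false
set_option linter.style.haveILetI false
set_option linter.unusedVariables false

universe u
open CategoryTheory CategoryTheory.Limits AlgebraicGeometry TopologicalSpace Opposite

namespace Groth.Agent.Lib.GenIsoFlatH4

open Groth.Agent.Lib

theorem flat_fromSpecStalk (X : Scheme.{u}) (x : X) : Flat (X.fromSpecStalk x) := by
  obtain ⟨_, ⟨U, hU, rfl⟩, hxU, -⟩ := X.isBasis_affineOpens.exists_subset_of_mem_open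
    (Set.mem_univ x) isOpen_univ
  rw [← IsAffineOpen.fromSpecStalk_eq_fromSpecStalk hU hxU, IsAffineOpen.fromSpecStalk]
  haveI : Flat (Spec.map (X.presheaf.germ U x hxU)) := by
    rw [Flat.SpecMap_iff]
    letI := TopCat.Presheaf.algebra_section_stalk X.presheaf (⟨x, hxU⟩ : U)
    haveI := hU.isLocalization_stalk ⟨x, hxU⟩
    have hfl : Module.Flat Γ(X, U) (X.presheaf.stalk x) :=
      IsLocalization.flat _ (hU.primeIdealOf ⟨x, hxU⟩).asIdeal.primeCompl
    exact RingHom.flat_algebraMap_iff.mpr hfl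
  infer_instance

theorem injective_of_flat_local {A B : Type*} [CommRing A] [CommRing B] [IsLocalRing A]
    [IsLocalRing B] (φ : A →+* B) [IsLocalHom φ] (h : φ.Flat) : Function.Injective φ := by
  letI := φ.toAlgebra
  haveI : Module.Flat A B := h
  haveI : IsLocalHom (algebraMap A B) := ‹IsLocalHom φ›
  haveI : Module.FaithfullyFlat A B := Module.FaithfullyFlat.of_flat_of_isLocalHom
  exact FaithfulSMul.algebraMap_injective A B

theorem exists_germ_ne_zero {X : Scheme.{u}} [IsLocallyNoetherian X] {W : X.Opens}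
    (hW : IsAffineOpen W) (b : Γ(X, W)) (hb : b ≠ 0) :
    ∃ (p : X) (hp : p ∈ W), X.presheaf.germ W p hp b ≠ 0 ∧
      IsAssociatedPrime (IsLocalRing.maximalIdeal (X.presheaf.stalk p)) (X.presheaf.stalk p) := by
  haveI : IsNoetherianRing Γ(X, W) := IsLocallyNoetherian.component_noetherian ⟨W, hW⟩
  obtain ⟨Q, hQ, hle⟩ := exists_le_isAssociatedPrime_of_isNoetherianRing (R := Γ(X, W)) b hb
  haveI hQp : Q.IsPrime := IsAssociatedPrime.isPrime hQ
  obtain ⟨P₀, hP₀⟩ : ∃ P₀ : Spec Γ(X, W), P₀.asIdeal = Q :=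
    ⟨(⟨Q, hQp⟩ : PrimeSpectrum Γ(X, W)), rfl⟩
  have hp : hW.fromSpec P₀ ∈ W := AssPtH8.fromSpec_mem hW P₀
  have hprim : hW.primeIdealOf ⟨hW.fromSpec P₀, hp⟩ = P₀ :=
    AssPtH8.primeIdealOf_fromSpec hW P₀ hp
  have e : (hW.primeIdealOf ⟨hW.fromSpec P₀, hp⟩).asIdeal = Q := by rw [hprim, hP₀]
  refine ⟨hW.fromSpec P₀, hp, ?_, ?_⟩
  · intro h0
    letI := TopCat.Presheaf.algebra_section_stalk X.presheaf (⟨hW.fromSpec P₀, hp⟩ : W)
    haveI : IsLocalization.AtPrime (X.presheaf.stalk (hW.fromSpec P₀))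
        (hW.primeIdealOf ⟨hW.fromSpec P₀, hp⟩).asIdeal :=
      hW.isLocalization_stalk ⟨hW.fromSpec P₀, hp⟩
    have h1 : algebraMap Γ(X, W) (X.presheaf.stalk (hW.fromSpec P₀)) b = 0 := h0
    obtain ⟨m, hm⟩ := (IsLocalization.map_eq_zero_iff
      (hW.primeIdealOf ⟨hW.fromSpec P₀, hp⟩).asIdeal.primeCompl
      (X.presheaf.stalk (hW.fromSpec P₀)) b).mp h1
    have hmQ : (m : Γ(X, W)) ∈ Q := by
      apply hle
      rw [Submodule.mem_colon_singleton, Submodule.mem_bot, smul_eq_mul]
      exact hm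
    exact m.2 ((SetLike.ext_iff.mp e (m : Γ(X, W))).mpr hmQ)
  · rw [AssPtH8.isAssociatedPrime_stalk_iff hW hp, hprim, hP₀]
    exact hQ

theorem app_eq_zero_of_fac {Y Z T : Scheme.{u}} (φ : Y ⟶ T) (r : Z ⟶ Y) (q : Z ⟶ T)
    (hq : q = r ≫ φ) (W : T.Opens) (b : Γ(T, W)) (hb : (φ.app W).hom b = 0) :
    (q.app W).hom b = 0 := by
  subst hq
  change (r.app (φ ⁻¹ᵁ W)).hom ((φ.app W).hom b) = 0
  rw [hb, map_zero]

theorem main19967
    {S S' C C' : Scheme.{u}} [IsLocallyNoetherian S] [IsLocallyNoetherian S']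
    (f : S' ⟶ S) [Flat f] (i : C ⟶ S) [IsClosedImmersion i] [IsIntegral C]
    (i' : C' ⟶ S') [IsClosedImmersion i'] [IsIntegral C']
    (g : C' ⟶ C) (hsq : g ≫ i = i' ≫ f)
    (hgen : IsIso (pullback.snd (pullback.lift g i' hsq)
      (pullback.fst (pullback.fst i f ≫ i) (S.fromSpecStalk (i.base (genericPoint C)))))) :
    IsIso (pullback.lift g i' hsq) := by
  haveI hci1 : IsClosedImmersion (pullback.lift g i' hsq ≫ pullback.snd i f) := by
    rw [pullback.lift_snd]; infer_instance
  haveI hci : IsClosedImmersion (pullback.lift g i' hsq) :=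
    IsClosedImmersion.of_comp (pullback.lift g i' hsq) (pullback.snd i f)
  haveI : IsLocallyNoetherian C := LocallyOfFiniteType.isLocallyNoetherian i
  haveI : IsLocallyNoetherian (pullback i f) := inferInstance
  haveI hflq : Flat (pullback.fst (pullback.fst i f ≫ i)
      (S.fromSpecStalk (i.base (genericPoint C)))) := by
    haveI := flat_fromSpecStalk S (i.base (genericPoint C))
    infer_instance
  apply IsZariskiLocalAtTarget.of_forall_exists_morphismRestrict
    (P := MorphismProperty.isomorphisms Scheme.{u})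
  intro x
  obtain ⟨_, ⟨W, hW, rfl⟩, hxW, -⟩ :=
    (pullback i f).isBasis_affineOpens.exists_subset_of_mem_open (Set.mem_univ x) isOpen_univ
  refine ⟨W, hxW, ?_⟩
  change IsIso (pullback.lift g i' hsq ∣_ W)
  rw [isIso_morphismRestrict_iff_isIso_app _ hW, ConcreteCategory.isIso_iff_bijective]
  refine ⟨(injective_iff_map_eq_zero ((pullback.lift g i' hsq).app W).hom).mpr ?_,
    Scheme.Hom.app_surjective _ W hW⟩
  intro b hb
  by_contra hb0
  obtain ⟨p, hp, hgerm, hass⟩ := exists_germ_ne_zero hW b hb0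
  -- p maps to the generic point of C
  have hfl : ((pullback.fst i f).stalkMap p).hom.Flat :=
    (Flat.iff_flat_stalkMap (pullback.fst i f)).mp inferInstance p
  have h1 : IsAssociatedPrime
      (IsLocalRing.maximalIdeal (C.presheaf.stalk ((pullback.fst i f) p)))
      (C.presheaf.stalk ((pullback.fst i f) p)) :=
    AssPtH8.maximalIdeal_isAssociatedPrime_of_flat ((pullback.fst i f).stalkMap p).hom hfl hass
  have hc : (pullback.fst i f) p = genericPoint C :=
    FlatDedekindH4.eq_genericPoint_of_maxIdeal_eq_bot _ (FlatDedekindH4.maxIdeal_eq_bot_of_ass h1)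
  have e1 : (pullback.fst i f ≫ i) p = i.base (genericPoint C) := by
    rw [Scheme.Hom.comp_apply, hc] <;> rfl
  have hpr : p ∈ Set.range (pullback.fst (pullback.fst i f ≫ i)
      (S.fromSpecStalk (i.base (genericPoint C)))) := by
    rw [Scheme.Pullback.range_fst]
    refine Set.mem_preimage.mpr ⟨IsLocalRing.closedPoint _, ?_⟩
    rw [Scheme.fromSpecStalk_closedPoint]
    exact e1.symm
  obtain ⟨t, ht⟩ := hpr
  have hflq' : ((pullback.fst (pullback.fst i f ≫ i)
      (S.fromSpecStalk (i.base (genericPoint C)))).stalkMap t).hom.Flat :=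
    (Flat.iff_flat_stalkMap _).mp hflq t
  have hinj := injective_of_flat_local _ hflq'
  haveI : IsIso (pullback.snd (pullback.lift g i' hsq)
      (pullback.fst (pullback.fst i f ≫ i) (S.fromSpecStalk (i.base (genericPoint C))))) := hgen
  have hqb : ((pullback.fst (pullback.fst i f ≫ i)
      (S.fromSpecStalk (i.base (genericPoint C)))).app W).hom b = 0 :=
    app_eq_zero_of_fac (pullback.lift g i' hsq)
      (inv (pullback.snd (pullback.lift g i' hsq)
        (pullback.fst (pullback.fst i f ≫ i) (S.fromSpecStalk (i.base (genericPoint C))))) ≫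
        pullback.fst (pullback.lift g i' hsq)
        (pullback.fst (pullback.fst i f ≫ i) (S.fromSpecStalk (i.base (genericPoint C)))))
      _ (by rw [Category.assoc, IsIso.eq_inv_comp]; exact pullback.condition.symm) W b hb
  have hWt : (pullback.fst (pullback.fst i f ≫ i)
      (S.fromSpecStalk (i.base (genericPoint C)))) t ∈ W := by rw [ht]; exact hp
  have e2 : (pullback (pullback.fst i f ≫ i)
      (S.fromSpecStalk (i.base (genericPoint C)))).presheaf.germ
      ((pullback.fst (pullback.fst i f ≫ i)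
        (S.fromSpecStalk (i.base (genericPoint C)))) ⁻¹ᵁ W) t hWt
      (((pullback.fst (pullback.fst i f ≫ i)
        (S.fromSpecStalk (i.base (genericPoint C)))).app W).hom b) = 0 := by
    rw [hqb, map_zero]
  have hg0 : (pullback i f).presheaf.germ W _ hWt b = 0 := by
    apply hinj
    exact (Scheme.Hom.germ_stalkMap_apply _ W t hWt b).trans (e2.trans (map_zero _).symm)
  have key : ∀ (p' : ↥(pullback i f)) (hp' : p' ∈ W), p' = p →
      (pullback i f).presheaf.germ W p' hp' b ≠ 0 := by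
    rintro p' hp' rfl
    exact hgerm
  exact key _ hWt ht hg0

end Groth.Agent.Lib.GenIsoFlatH4
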