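import Mathlib

/-!
# Generic Noether normalization (helper4)

For a domain `R` and an injective finite type map `R → S`: Noether normalization of `K ⊗ S`
over `K = Frac R`, spread out to `S` after clearing denominators.
-/

namespace Groth.Agent.Lib.GenNoetherH4

open TensorProduct

universe u

/-- Rescaling the variables of a Noether normalization. -/
theorem exists_scaled {K' A : Type*} [Field K'] [CommRing A] [Algebra K' A] {d : ℕ}
    (g : MvPolynomial (Fin d) K' →ₐ[K'] A) (hginj : Function.Injective g)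
    (hgint : g.IsIntegral) (c : K') (hc : c ≠ 0) :
    ∃ g' : MvPolynomial (Fin d) K' →ₐ[K'] A, Function.Injective g' ∧ g'.IsIntegral ∧
      ∀ i, g' (MvPolynomial.X i) = c • g (MvPolynomial.X i) := by
  obtain ⟨σ, hσ⟩ : ∃ σ : MvPolynomial (Fin d) K' →ₐ[K'] MvPolynomial (Fin d) K',
      ∀ i, σ (MvPolynomial.X i) = MvPolynomial.C c * MvPolynomial.X i :=
    ⟨MvPolynomial.aeval (fun i => MvPolynomial.C c * MvPolynomial.X i),
      fun i => MvPolynomial.aeval_X _ i⟩
  obtain ⟨τ, hτ⟩ : ∃ τ : MvPolynomial (Fin d) K' →ₐ[K'] MvPolynomial (Fin d) K',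
      ∀ i, τ (MvPolynomial.X i) = MvPolynomial.C c⁻¹ * MvPolynomial.X i :=
    ⟨MvPolynomial.aeval (fun i => MvPolynomial.C c⁻¹ * MvPolynomial.X i),
      fun i => MvPolynomial.aeval_X _ i⟩
  have hτσ : τ.comp σ = AlgHom.id K' _ := by
    apply MvPolynomial.algHom_ext
    intro i
    rw [AlgHom.comp_apply, hσ, map_mul, hτ, AlgHom.id_apply, ← MvPolynomial.algebraMap_eq,
      AlgHom.commutes, ← mul_assoc, ← map_mul, mul_inv_cancel₀ hc, map_one, one_mul]
  have hστ : σ.comp τ = AlgHom.id K' _ := by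
    apply MvPolynomial.algHom_ext
    intro i
    rw [AlgHom.comp_apply, hτ, map_mul, hσ, AlgHom.id_apply, ← MvPolynomial.algebraMap_eq,
      AlgHom.commutes, ← mul_assoc, ← map_mul, inv_mul_cancel₀ hc, map_one, one_mul]
  have h1 : ∀ x, τ (σ x) = x := fun x => AlgHom.congr_fun hτσ x
  have h2 : ∀ x, σ (τ x) = x := fun x => AlgHom.congr_fun hστ x
  refine ⟨g.comp σ, ?_, fun z => ?_, ?_⟩
  · intro a b hab
    have h3 : σ a = σ b := hginj hab
    have h4 := congrArg τ h3
    rwa [h1, h1] at h4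
  · obtain ⟨p, hpm, hpz⟩ := hgint z
    refine ⟨p.map τ.toRingHom, hpm.map _, ?_⟩
    rw [Polynomial.eval₂_map]
    have h5 : ((g.comp σ).toRingHom.comp τ.toRingHom) = g.toRingHom := by
      apply RingHom.ext
      intro x
      show g (σ (τ x)) = g x
      rw [h2]
    rw [h5]
    exact hpz
  · intro i
    rw [AlgHom.comp_apply, hσ, map_mul, ← MvPolynomial.algebraMap_eq, AlgHom.commutes,
      ← Algebra.smul_def]

section

variable {R S : Type u} [CommRing R] [IsDomain R] [CommRing S] [Algebra R S]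

/-- the inclusion `S → K ⊗ S` -/
noncomputable abbrev ι (R S : Type u) [CommRing R] [IsDomain R] [CommRing S] [Algebra R S] :
    S →ₐ[R] FractionRing R ⊗[R] S := Algebra.TensorProduct.includeRight

theorem exists_denom (z : FractionRing R ⊗[R] S) :
    ∃ c : R, c ≠ 0 ∧ ∃ s : S, c • z = ι R S s := by
  obtain ⟨⟨s, c⟩, h⟩ := IsLocalizedModule.surj (nonZeroDivisors R)
    (TensorProduct.mk R (FractionRing R) S 1) z
  refine ⟨(c : R), nonZeroDivisors.ne_zero c.2, s, ?_⟩
  have h' : (c : R) • z = (TensorProduct.mk R (FractionRing R) S 1) s := h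
  rw [h']
  rfl

theorem exists_tors {s : S} (h : ι R S s = 0) : ∃ c : R, c ≠ 0 ∧ c • s = 0 := by
  have h' : (TensorProduct.mk R (FractionRing R) S 1) s = 0 := h
  obtain ⟨c, hc⟩ := (IsLocalizedModule.eq_zero_iff (nonZeroDivisors R)
    (TensorProduct.mk R (FractionRing R) S 1)).mp h'
  exact ⟨(c : R), nonZeroDivisors.ne_zero c.2, hc⟩

theorem smul_eq (c : R) (z : FractionRing R ⊗[R] S) :
    c • z = algebraMap R (FractionRing R ⊗[R] S) c * z :=
  Algebra.smul_def c z

theorem nontrivial_SK (hinj : Function.Injective (algebraMap R S)) :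
    Nontrivial (FractionRing R ⊗[R] S) := by
  refine nontrivial_of_ne (1 : FractionRing R ⊗[R] S) 0 ?_
  intro h
  have h1 : ι R S 1 = 0 := by
    rw [map_one]
    exact h
  obtain ⟨c, hc0, hc⟩ := exists_tors h1
  apply hc0
  apply hinj
  have h2 : algebraMap R S c = 0 := by
    rw [← mul_one (algebraMap R S c), ← Algebra.smul_def]
    exact hc
  rw [h2, map_zero]

variable {d : ℕ} (g : MvPolynomial (Fin d) (FractionRing R) →ₐ[FractionRing R]
    FractionRing R ⊗[R] S) (y : Fin d → S)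
  (hgy : ∀ i, g (MvPolynomial.X i) = ι R S (y i))

include hgy in
theorem g_map (P : MvPolynomial (Fin d) R) :
    g (MvPolynomial.map (algebraMap R (FractionRing R)) P) = ι R S (MvPolynomial.aeval y P) := by
  induction P using MvPolynomial.induction_on with
  | C r =>
    rw [MvPolynomial.map_C, MvPolynomial.aeval_C, ← MvPolynomial.algebraMap_eq, AlgHom.commutes,
      AlgHom.commutes, ← IsScalarTower.algebraMap_apply]
  | add P Q hP hQ =>
    simp only [map_add, hP, hQ]
  | mul_X P i hP =>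
    simp only [map_mul, MvPolynomial.map_X, MvPolynomial.aeval_X, hP, hgy]

include hgy in
theorem algIndep (hginj : Function.Injective g) : AlgebraicIndependent R y := by
  rw [algebraicIndependent_iff_injective_aeval, injective_iff_map_eq_zero]
  intro P hP
  have h1 : g (MvPolynomial.map (algebraMap R (FractionRing R)) P) = 0 := by
    rw [g_map g y hgy, hP, map_zero]
  have h2 : MvPolynomial.map (algebraMap R (FractionRing R)) P = 0 :=
    hginj (h1.trans (map_zero g).symm)
  exact MvPolynomial.map_injective _ (IsFractionRing.injective R (FractionRing R))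
    (h2.trans (map_zero (MvPolynomial.map (algebraMap R (FractionRing R)))).symm)

include hgy in
theorem exists_denom_poly (Q : MvPolynomial (Fin d) (FractionRing R)) :
    ∃ e : R, e ≠ 0 ∧ ∃ b ∈ Algebra.adjoin R (Set.range y), e • g Q = ι R S b := by
  induction Q using MvPolynomial.induction_on with
  | C k =>
    obtain ⟨⟨a, e⟩, hae⟩ := IsLocalization.surj (nonZeroDivisors R) k
    have hae' : k * algebraMap R (FractionRing R) (e : R) = algebraMap R (FractionRing R) a :=
      hae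
    refine ⟨(e : R), nonZeroDivisors.ne_zero e.2, algebraMap R S a,
      Subalgebra.algebraMap_mem _ a, ?_⟩
    rw [← MvPolynomial.algebraMap_eq, AlgHom.commutes, AlgHom.commutes, smul_eq,
      IsScalarTower.algebraMap_apply R (FractionRing R) (FractionRing R ⊗[R] S) (e : R),
      ← map_mul, mul_comm (algebraMap R (FractionRing R) (e : R)) k, hae',
      ← IsScalarTower.algebraMap_apply]
  | add Q₁ Q₂ ih₁ ih₂ =>
    obtain ⟨e₁, he₁, b₁, hb₁, h₁⟩ := ih₁
    obtain ⟨e₂, he₂, b₂, hb₂, h₂⟩ := ih₂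
    refine ⟨e₁ * e₂, mul_ne_zero he₁ he₂, e₂ • b₁ + e₁ • b₂,
      add_mem (Subalgebra.smul_mem _ hb₁ _) (Subalgebra.smul_mem _ hb₂ _), ?_⟩
    rw [map_add, smul_add, map_add, map_smul, map_smul, ← h₁, ← h₂, smul_smul, smul_smul,
      mul_comm e₂ e₁]
  | mul_X Q i ih =>
    obtain ⟨e, he, b, hb, h⟩ := ih
    refine ⟨e, he, b * y i, mul_mem hb (Algebra.subset_adjoin ⟨i, rfl⟩), ?_⟩
    rw [map_mul, map_mul, hgy, ← h, smul_mul_assoc]

set_option maxHeartbeats 1600000 in
include hgy in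
theorem exists_integral_multiple (hinj : Function.Injective (algebraMap R S))
    (hgint : g.IsIntegral) (s : S) :
    ∃ f : R, f ≠ 0 ∧ IsIntegral ↥(Algebra.adjoin R (Set.range y)) (f • s) := by
  classical
  obtain ⟨p, hpm, hps⟩ := hgint (ι R S s)
  have hD : ∀ k : ℕ, ∃ e : R, e ≠ 0 ∧ ∃ b ∈ Algebra.adjoin R (Set.range y),
      e • g (p.coeff k) = ι R S b :=
    fun k => exists_denom_poly g y hgy (p.coeff k)
  choose e0 he0 b0 hb0 heb0 using hD
  obtain ⟨e, he_def⟩ : ∃ e : R, e = ∏ k ∈ Finset.range p.natDegree, e0 k := ⟨_, rfl⟩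
  have he : e ≠ 0 := by
    rw [he_def]
    exact Finset.prod_ne_zero_iff.mpr (fun k _ => he0 k)
  have hcoef : ∀ k < p.natDegree, ∃ b ∈ Algebra.adjoin R (Set.range y),
      e • g (p.coeff k) = ι R S b := by
    intro k hk
    have hk' : k ∈ Finset.range p.natDegree := Finset.mem_range.mpr hk
    refine ⟨(∏ j ∈ (Finset.range p.natDegree).erase k, e0 j) • b0 k,
      Subalgebra.smul_mem _ (hb0 k) _, ?_⟩
    rw [map_smul, ← heb0 k, smul_smul, he_def, ← Finset.mul_prod_erase _ _ hk',
      mul_comm (e0 k)]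
  obtain ⟨eK, heK⟩ : ∃ eK : FractionRing R, eK = algebraMap R (FractionRing R) e := ⟨_, rfl⟩
  obtain ⟨q, hq_def⟩ : ∃ q, q = Polynomial.scaleRoots p (MvPolynomial.C eK) := ⟨_, rfl⟩
  have hqm : q.Monic := by
    rw [hq_def]
    exact (Polynomial.monic_scaleRoots_iff _).mpr hpm
  have hgCe : g (MvPolynomial.C eK) = algebraMap R (FractionRing R ⊗[R] S) e := by
    rw [← MvPolynomial.algebraMap_eq, AlgHom.commutes, heK, ← IsScalarTower.algebraMap_apply]
  have hq0 : Polynomial.eval₂ g.toRingHom (ι R S (e • s)) q = 0 := by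
    have h1 := Polynomial.scaleRoots_eval₂_eq_zero g.toRingHom (s := MvPolynomial.C eK) hps
    have h2 : ι R S (e • s) = g.toRingHom (MvPolynomial.C eK) * ι R S s := by
      show ι R S (e • s) = g (MvPolynomial.C eK) * ι R S s
      rw [hgCe, map_smul, smul_eq]
    rw [hq_def, h2]
    exact h1
  obtain ⟨ι₀, hι₀def⟩ : ∃ ι₀ : ↥(Algebra.adjoin R (Set.range y)) →+* FractionRing R ⊗[R] S,
      ι₀ = (ι R S).toRingHom.comp (algebraMap ↥(Algebra.adjoin R (Set.range y)) S) := ⟨_, rfl⟩
  have hι₀ : ∀ b : ↥(Algebra.adjoin R (Set.range y)), ι₀ b = ι R S (b : S) := by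
    intro b
    rw [hι₀def]
    rfl
  have hlift : q.map g.toRingHom ∈ Polynomial.lifts ι₀ := by
    rw [Polynomial.lifts_iff_coeff_lifts]
    intro k
    rw [Polynomial.coeff_map, hq_def, Polynomial.coeff_scaleRoots]
    rcases lt_trichotomy k p.natDegree with hk | hk | hk
    · obtain ⟨b, hb, hbe⟩ := hcoef k hk
      obtain ⟨j, hj⟩ : ∃ j, p.natDegree - k = j + 1 := ⟨p.natDegree - k - 1, by omega⟩
      refine ⟨⟨b, hb⟩ * (algebraMap R ↥(Algebra.adjoin R (Set.range y)) e) ^ j, ?_⟩
      have h2 : algebraMap R (FractionRing R ⊗[R] S) e * g (p.coeff k) = ι R S b := by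
        rw [← smul_eq]
        exact hbe
      rw [hι₀, Subalgebra.coe_mul, Subalgebra.coe_pow, Subalgebra.coe_algebraMap]
      show ι R S (b * algebraMap R S e ^ j) =
        g (p.coeff k * MvPolynomial.C eK ^ (p.natDegree - k))
      rw [hj, pow_succ]
      simp only [map_mul, map_pow]
      rw [hgCe, AlgHom.commutes, ← h2]
      ring
    · refine ⟨1, ?_⟩
      rw [hk, Nat.sub_self, pow_zero, mul_one, Polynomial.Monic.coeff_natDegree hpm, map_one,
        map_one]
    · refine ⟨0, ?_⟩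
      rw [Polynomial.coeff_eq_zero_of_natDegree_lt hk, zero_mul, map_zero, map_zero]
  obtain ⟨q₀, hq₀map, -, hq₀m⟩ :=
    Polynomial.lifts_and_natDegree_eq_and_monic hlift (hqm.map _)
  have h4 : ι R S (Polynomial.aeval (e • s) q₀) = 0 := by
    have h5 : Polynomial.eval₂ ι₀ (ι R S (e • s)) q₀ = 0 := by
      rw [← Polynomial.eval_map, hq₀map, Polynomial.eval_map]
      exact hq0
    rw [hι₀def] at h5
    rw [Polynomial.aeval_def]
    exact (Polynomial.hom_eval₂ q₀ (algebraMap ↥(Algebra.adjoin R (Set.range y)) S)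
      (ι R S).toRingHom (e • s)).trans h5
  obtain ⟨c', hc'0, hc'⟩ := exists_tors h4
  refine ⟨c' * e, mul_ne_zero hc'0 he, ?_⟩
  have hnd : q₀.natDegree ≠ 0 := by
    intro h0
    have h1 : q₀ = 1 := (hq₀m.natDegree_eq_zero).mp h0
    rw [h1, map_one] at hc'
    apply hc'0
    apply hinj
    have h2 : algebraMap R S c' = 0 := by
      rw [← mul_one (algebraMap R S c'), ← Algebra.smul_def]
      exact hc'
    rw [h2, map_zero]
  obtain ⟨m', hm'⟩ := Nat.exists_eq_succ_of_ne_zero hnd
  refine ⟨Polynomial.scaleRoots q₀ (algebraMap R ↥(Algebra.adjoin R (Set.range y)) c'),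
    (Polynomial.monic_scaleRoots_iff _).mpr hq₀m, ?_⟩
  have h6 := Polynomial.scaleRoots_eval₂_mul (p := q₀)
    (algebraMap ↥(Algebra.adjoin R (Set.range y)) S) (e • s)
    (algebraMap R ↥(Algebra.adjoin R (Set.range y)) c')
  have h7 : algebraMap ↥(Algebra.adjoin R (Set.range y)) S
      (algebraMap R ↥(Algebra.adjoin R (Set.range y)) c') = algebraMap R S c' :=
    (IsScalarTower.algebraMap_apply R ↥(Algebra.adjoin R (Set.range y)) S c').symm
  rw [h7] at h6
  have h8 : (c' * e) • s = algebraMap R S c' * (e • s) := by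
    rw [mul_smul, Algebra.smul_def]
  rw [h8, h6, hm', pow_succ, mul_assoc, ← Polynomial.aeval_def, ← Algebra.smul_def, hc',
    mul_zero]

end

set_option maxHeartbeats 1600000 in
theorem main {R S : Type u} [CommRing R] [IsDomain R] [CommRing S] [Algebra R S]
    [Algebra.FiniteType R S] (hinj : Function.Injective (algebraMap R S)) :
    ∃ (d : ℕ) (y : Fin d → S) (S' : Subalgebra R S), AlgebraicIndependent R y ∧
      (∀ i, y i ∈ S') ∧ S'.FG ∧
      (∀ s ∈ S', IsIntegral (Algebra.adjoin R (Set.range y)) s) ∧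
      ∃ f : R, f ≠ 0 ∧ ∀ s : S, ∃ n : ℕ, (f ^ n) • s ∈ S' := by
  classical
  haveI := nontrivial_SK (R := R) (S := S) hinj
  obtain ⟨d, g₀, hg₀inj, hg₀int⟩ :=
    exists_integral_inj_algHom_of_fg (FractionRing R) (FractionRing R ⊗[R] S)
  have hx : ∀ i : Fin d, ∃ c : R, c ≠ 0 ∧ ∃ s : S,
      c • g₀ (MvPolynomial.X i) = ι R S s := fun i => exists_denom _
  choose c0 hc0 y0 hy0 using hx
  obtain ⟨c, hc_def⟩ : ∃ c : R, c = ∏ i, c0 i := ⟨_, rfl⟩
  have hc : c ≠ 0 := by
    rw [hc_def]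
    exact Finset.prod_ne_zero_iff.mpr (fun i _ => hc0 i)
  obtain ⟨y, hy_def⟩ : ∃ y : Fin d → S,
      ∀ i, y i = (∏ j ∈ Finset.univ.erase i, c0 j) • y0 i := ⟨fun i => _, fun i => rfl⟩
  have hy : ∀ i, c • g₀ (MvPolynomial.X i) = ι R S (y i) := by
    intro i
    rw [hy_def i, map_smul, ← hy0 i, smul_smul, hc_def,
      ← Finset.mul_prod_erase _ _ (Finset.mem_univ i), mul_comm (c0 i)]
  have hcK : algebraMap R (FractionRing R) c ≠ 0 := by
    intro h
    exact hc (IsFractionRing.injective R (FractionRing R) (by rw [h, map_zero]))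
  obtain ⟨g, hginj, hgint, hgX⟩ :=
    exists_scaled g₀ hg₀inj hg₀int (algebraMap R (FractionRing R) c) hcK
  have hgy : ∀ i, g (MvPolynomial.X i) = ι R S (y i) := by
    intro i
    rw [hgX, algebraMap_smul, hy]
  obtain ⟨n, sgen, hsgen⟩ : ∃ (n : ℕ) (s : Fin n → S), Algebra.adjoin R (Set.range s) = ⊤ := by
    obtain ⟨n, f, hf⟩ :=
      Algebra.FiniteType.iff_quotient_mvPolynomial''.mp ‹Algebra.FiniteType R S›
    refine ⟨n, fun i => f (MvPolynomial.X i), ?_⟩
    rw [Algebra.adjoin_range_eq_range_aeval]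
    have h1 : MvPolynomial.aeval (fun i => f (MvPolynomial.X i)) = f := by
      apply MvPolynomial.algHom_ext
      intro i
      rw [MvPolynomial.aeval_X]
    rw [h1, AlgHom.range_eq_top]
    exact hf
  have hE : ∀ j : Fin n, ∃ f : R, f ≠ 0 ∧
      IsIntegral ↥(Algebra.adjoin R (Set.range y)) (f • sgen j) :=
    fun j => exists_integral_multiple g y hgy hinj hgint (sgen j)
  choose f0 hf0 hf0int using hE
  obtain ⟨f, hf_def⟩ : ∃ f : R, f = ∏ j, f0 j := ⟨_, rfl⟩
  have hf : f ≠ 0 := by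
    rw [hf_def]
    exact Finset.prod_ne_zero_iff.mpr (fun j _ => hf0 j)
  have hfint : ∀ j, IsIntegral ↥(Algebra.adjoin R (Set.range y)) (f • sgen j) := by
    intro j
    have h1 : f • sgen j = (∏ l ∈ Finset.univ.erase j, f0 l) • (f0 j • sgen j) := by
      rw [smul_smul, hf_def, ← Finset.mul_prod_erase _ _ (Finset.mem_univ j), mul_comm (f0 j)]
    rw [h1]
    exact IsIntegral.smul _ (hf0int j)
  refine ⟨d, y, Algebra.adjoin R (Set.range y ∪ Set.range (fun j => f • sgen j)),
    algIndep g y hgy hginj, ?_, ?_, ?_, f, hf, ?_⟩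
  · intro i
    exact Algebra.subset_adjoin (Or.inl ⟨i, rfl⟩)
  · exact Subalgebra.fg_def.mpr ⟨_, (Set.finite_range _).union (Set.finite_range _), rfl⟩
  · intro s hs
    have hle : Algebra.adjoin R (Set.range y ∪ Set.range (fun j => f • sgen j)) ≤
        (integralClosure ↥(Algebra.adjoin R (Set.range y)) S).restrictScalars R := by
      apply Algebra.adjoin_le
      rintro x (⟨i, rfl⟩ | ⟨j, rfl⟩)
      · exact (isIntegral_algebraMap (R := ↥(Algebra.adjoin R (Set.range y)))
          (x := ⟨y i, Algebra.subset_adjoin ⟨i, rfl⟩⟩) :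
          IsIntegral _ (algebraMap ↥(Algebra.adjoin R (Set.range y)) S _))
      · exact hfint j
    exact hle hs
  · intro s
    have hs : s ∈ Algebra.adjoin R (Set.range sgen) := by
      rw [hsgen]
      exact Algebra.mem_top
    induction hs using Algebra.adjoin_induction with
    | mem x hx =>
      obtain ⟨j, rfl⟩ := hx
      exact ⟨1, by rw [pow_one]; exact Algebra.subset_adjoin (Or.inr ⟨j, rfl⟩)⟩
    | algebraMap r =>
      exact ⟨0, by rw [pow_zero, one_smul]; exact Subalgebra.algebraMap_mem _ r⟩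
    | add a b _ _ ha hb =>
      obtain ⟨n₁, h₁⟩ := ha
      obtain ⟨n₂, h₂⟩ := hb
      refine ⟨n₁ + n₂, ?_⟩
      have h3 : f ^ (n₁ + n₂) • (a + b) = f ^ n₂ • (f ^ n₁ • a) + f ^ n₁ • (f ^ n₂ • b) := by
        simp only [Algebra.smul_def, map_pow]
        ring
      rw [h3]
      exact add_mem (Subalgebra.smul_mem _ h₁ _) (Subalgebra.smul_mem _ h₂ _)
    | mul a b _ _ ha hb =>
      obtain ⟨n₁, h₁⟩ := ha
      obtain ⟨n₂, h₂⟩ := hb
      refine ⟨n₁ + n₂, ?_⟩
      have h3 : f ^ (n₁ + n₂) • (a * b) = (f ^ n₁ • a) * (f ^ n₂ • b) := by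
        simp only [Algebra.smul_def, map_pow]
        ring
      rw [h3]
      exact mul_mem h₁ h₂

end Groth.Agent.Lib.GenNoetherH4
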