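import Groth.Agent.Lib.GenPtQF_helper7
import Groth.Agent.Lib.FibGen2_helper8
import Groth.Agent.Lib.ResTrdeg1_helper8

/-!
# S10486: residue transcendence degree zero at the generic point iff unique point over the generic
point (helper7)
-/

set_option autoImplicit false
set_option linter.style.haveILetI false
universe u
open CategoryTheory CategoryTheory.Limits AlgebraicGeometry Opposite MorphismProperty
open AlgSp Groth.Agent.Lib.AlgSpQC2_helper7 Groth.Agent.Lib.AlgSpPoints_helper7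
  Groth.Agent.Lib.AlgSpQC_helper7 Groth.Agent.Lib.AlgSpDiag_helper7 Groth.Agent.Lib.AlgSpTop_helper7
  Groth.Agent.Lib.AlgSpPullback_helper7 Groth.Agent.Lib.AlgSpSep_helper7
  Groth.Agent.Lib.AlgSpLocP_helper7 Groth.Agent.Lib.AlgSpUniv_helper7
  Groth.Agent.Lib.AlgSpFpqc_helper7 Groth.Agent.Lib.AlgSpFpqc2_helper7
  Groth.Agent.Lib.AlgSpDescent_helper7 Groth.Agent.Lib.AlgSpEtale_helper7
  Groth.Agent.Lib.AlgSpLocP2_helper7 Groth.Agent.Lib.AlgSpEpi_helper7
  Groth.Agent.Lib.SchSrcLocal_helper7 Groth.Agent.Lib.AlgSpLocP4_helper7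
  Groth.Agent.Lib.LqfDiscreteFibresH7 Groth.Agent.Lib.LftFieldPtsH7
  Groth.Agent.Lib.FibreLocNoethH7 Groth.Agent.Lib.LftFieldPts2H7 Groth.Agent.Lib.GenPtQFH7

namespace Groth.Agent.Lib.GenPtQF2H7

theorem main10486 {S : Scheme.{u}} {X Y : AlgSp.Space S} (hXi : AlgSp.IsIntegralSp X.obj) (hYi : AlgSp.IsIntegralSp Y.obj)
    (f : X ⟶ Y) (hft : AlgSp.LocP @LocallyOfFiniteType f.hom) (hd : AlgSp.IsDominantMor f.hom)
    (x : AlgSp.Points X.obj) (hx : IsGenericPoint x (Set.univ : Set (AlgSp.Points X.obj)))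
    (y : AlgSp.Points Y.obj) (hy : IsGenericPoint y (Set.univ : Set (AlgSp.Points Y.obj))) :
    AlgSp.HasAtMor (fun _ _ h u => Dual3.resTrdeg h u = 0) f.hom x ↔ (∀ x' : AlgSp.Points X.obj, AlgSp.Points.map f.hom x' = y → x' = x) := by
  rw [← main10485 hXi hYi f hft hd x hx y hy]
  constructor
  · rintro ⟨U, V, a, b, h, u, hae, hbe, comm, hu, htr⟩
    obtain ⟨-, hdX, -⟩ := hXi
    haveI : T0Space (Points X.obj) :=
      Groth.Agent.Lib.AlgSpT0_helper6.t0Space_points_of_isDecent X.property hdX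
    haveI hlft : LocallyOfFiniteType h.left := hft a b h hae hbe comm
    have hgen : ∀ ξ' : U.left, ξ' ⤳ u → ξ' = u := by
      intro ξ' hξ'
      have h1 : Points.ofPt a ξ' ⤳ Points.ofPt a u := hξ'.map (Points.continuous_ofPt a)
      rw [hu] at h1
      have h2 : x ⤳ Points.ofPt a ξ' := hx.specializes (Set.mem_univ _)
      have h3 : Points.ofPt a ξ' = x := (h1.antisymm h2).eq
      exact (Groth.Agent.Lib.AlgSpFibre_helper6.eq_of_specializes_of_isDecent hdX a hae u ξ'
        (hu.trans h3.symm) hξ').symm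
    have hdim := FibGenH8.fibreDimAt_of_isMax h.left u hgen
    rw [htr] at hdim
    have hdim0 : FlatMor.localDim ↥(h.left.fiber (h.left u)) (h.left.asFiber u) = 0 := by
      have : FlatMor.fibreDimAt h.left u = 0 := by
        rw [hdim]
        simp
      exact this
    haveI : LocallyOfFiniteType (h.left.fiberToSpecResidueField (h.left u)) :=
      (inferInstance : LocallyOfFiniteType
        (pullback.snd h.left (V.left.fromSpecResidueField (h.left u))))
    haveI : IsLocallyNoetherian (h.left.fiber (h.left u)) :=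
      LocallyOfFiniteType.isLocallyNoetherian (h.left.fiberToSpecResidueField (h.left u))
    obtain ⟨O, huO, hO⟩ :=
      ChevH8.exists_opens_topDim_le_of_localDim_le (h.left.asFiber u) 0 hdim0.le
    have hopen : IsOpen ({h.left.asFiber u} : Set ↥(h.left.fiber (h.left u))) :=
      isOpen_singleton_of_topDim_le_zero O hO huO
    have hqf : h.left.QuasiFiniteAt u :=
      Scheme.Hom.quasiFiniteAt_iff_isOpen_singleton_asFiber.mpr hopen
    obtain ⟨W, huW, h1, h2⟩ := exists_opens_lqf_of_quasiFiniteAt h.left u hqf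
    exact ⟨U, V, a, b, h, u, hae, hbe, comm, hu, W, huW, h1, h2⟩
  · rintro ⟨U, V, a, b, h, u, hae, hbe, comm, hu, W, huW, hlqf, hlft⟩
    refine ⟨U, V, a, b, h, u, hae, hbe, comm, hu, ?_⟩
    obtain ⟨w, hw⟩ : ∃ w : ↥(W : Scheme), W.ι w = u := by
      have : u ∈ Set.range W.ι := by
        rw [Scheme.Opens.range_ι]
        exact huW
      exact this
    haveI := hlqf
    haveI := hlft
    have h0 := ResTrdegH8.resTrdeg_eq_zero_of_lqf (W.ι ≫ h.left) w
    rw [ResTrdegH8.resTrdeg_etale_comp W.ι h.left w, hw] at h0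
    exact h0

end Groth.Agent.Lib.GenPtQF2H7
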