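import Mathlib
import Groth.Prelude

set_option autoImplicit false
universe u

open CategoryTheory AlgebraicGeometry TopologicalSpace Opposite

namespace GenPtH8

variable {P : Scheme.{u}} (hdom : ∀ q : P, IsDomain (P.presheaf.stalk q))

/-- The generic point of the local ring at `q` (a domain), as a point of `P`. -/
noncomputable def gen (q : P) : P :=
  letI := hdom q
  (P.fromSpecStalk q)
    (show ↥(Spec (P.presheaf.stalk q)) from (⊥ : PrimeSpectrum (P.presheaf.stalk q)))

theorem gen_specializes (q : P) : gen hdom q ⤳ q := by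
  have : gen hdom q ∈ Set.range (P.fromSpecStalk q) := ⟨_, rfl⟩
  rw [Scheme.range_fromSpecStalk] at this
  exact this

theorem gen_specializes_of (q t : P) (ht : t ⤳ q) : gen hdom q ⤳ t := by
  letI := hdom q
  have : t ∈ Set.range (P.fromSpecStalk q) := by
    rw [Scheme.range_fromSpecStalk]; exact ht
  obtain ⟨Q, rfl⟩ := this
  apply Specializes.map _ (P.fromSpecStalk q).continuous
  have : (⊥ : PrimeSpectrum (P.presheaf.stalk q)) ⤳
      (show PrimeSpectrum (P.presheaf.stalk q) from Q) := by
    rw [← PrimeSpectrum.le_iff_specializes]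
    exact bot_le
  exact this

theorem closure_gen_mem (q : P) :
    closure {gen hdom q} ∈ irreducibleComponents (P : Type u) := by
  refine ⟨isIrreducible_singleton.closure, ?_⟩
  intro T' hT' hTT'
  have hcl : IsIrreducible (closure T') := hT'.closure
  obtain ⟨ξ', hξ'⟩ := QuasiSober.sober hcl isClosed_closure
  have h2 : ξ' ⤳ gen hdom q := by
    rw [specializes_iff_mem_closure, hξ'.def]
    exact subset_closure (hTT' (subset_closure rfl))
  have h3 : gen hdom q ⤳ ξ' := gen_specializes_of hdom q ξ' (h2.trans (gen_specializes hdom q))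
  have h4 : closure T' ⊆ closure {gen hdom q} := by
    rw [← hξ'.def]
    exact closure_minimal (Set.singleton_subset_iff.mpr (specializes_iff_mem_closure.mp h3))
      isClosed_closure
  exact subset_closure.trans h4

/-- The component through `q` is the only one containing `q`. -/
theorem eq_of_mem_component (q : P) (T : Set P) (hT : T ∈ irreducibleComponents (P : Type u))
    (hq : q ∈ T) : T = closure {gen hdom q} := by
  have hTcl : IsClosed T := isClosed_of_mem_irreducibleComponents T hT
  obtain ⟨ξ, hξ⟩ := QuasiSober.sober hT.1 hTcl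
  have h1 : ξ ⤳ q := by
    rw [specializes_iff_mem_closure, hξ.def]; exact hq
  have h2 : gen hdom q ⤳ ξ := gen_specializes_of hdom q ξ h1
  have h3 : T ⊆ closure {gen hdom q} := by
    rw [← hξ.def]
    exact closure_minimal (Set.singleton_subset_iff.mpr (specializes_iff_mem_closure.mp h2))
      isClosed_closure
  exact le_antisymm h3 (hT.2 isIrreducible_singleton.closure h3)

theorem gen_eq_of_mem (q q' : P) (h : q' ∈ closure {gen hdom q}) : gen hdom q' = gen hdom q := by
  have h1 := eq_of_mem_component hdom q' _ (closure_gen_mem hdom q) h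
  -- closure {gen q} = closure {gen q'}
  have hg1 : IsGenericPoint (gen hdom q) (closure {gen hdom q}) := rfl
  have hg2 : IsGenericPoint (gen hdom q') (closure {gen hdom q}) := by
    rw [h1]; rfl
  exact hg2.eq hg1

/-- Locally constancy of `gen`. -/
theorem exists_nhd_gen_eq [NoetherianSpace P] (q₀ : P) :
    ∃ W : Set P, IsOpen W ∧ q₀ ∈ W ∧ ∀ q ∈ W, gen hdom q = gen hdom q₀ := by
  classical
  have hfin : (irreducibleComponents (P : Type u)).Finite :=
    NoetherianSpace.finite_irreducibleComponents
  set T₀ := closure {gen hdom q₀} with hT₀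
  set Z : Set P := ⋃ T ∈ (irreducibleComponents (P : Type u)) \ {T₀}, T with hZ
  have hZcl : IsClosed Z := by
    apply Set.Finite.isClosed_biUnion (hfin.subset Set.diff_subset)
    intro T hT
    exact isClosed_of_mem_irreducibleComponents T hT.1
  refine ⟨Zᶜ, hZcl.isOpen_compl, ?_, ?_⟩
  · intro hq₀
    simp only [hZ, Set.mem_iUnion] at hq₀
    obtain ⟨T, hT, hqT⟩ := hq₀
    exact hT.2 (eq_of_mem_component hdom q₀ T hT.1 hqT)
  · intro q hq
    apply gen_eq_of_mem
    by_contra hnot
    apply hq
    simp only [hZ, Set.mem_iUnion]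
    refine ⟨closure {gen hdom q}, ⟨closure_gen_mem hdom q, ?_⟩,
      specializes_iff_mem_closure.mp (gen_specializes hdom q)⟩
    intro heq
    rw [Set.mem_singleton_iff] at heq
    apply hnot
    rw [← hT₀, ← heq]
    exact specializes_iff_mem_closure.mp (gen_specializes hdom q)

end GenPtH8
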