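import Mathlib
import Groth.Prelude
import Groth.Agent.Lib.VATens11_helper5
import Groth.Agent.Lib.PBBC1_helper5

/-!
# External tensor products of very ample modules  (helper5).  APPEND-ONLY once landed.
-/

set_option autoImplicit false
universe u
open CategoryTheory CategoryTheory.Limits AlgebraicGeometry TopologicalSpace Opposite
open scoped HomogeneousIdeal

noncomputable section

namespace Groth.Agent.VATens

open QcqsLoc QCohExtn GenLocH8 TensH8 Scheme.Modules Groth.Agent.UPB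

/-- Very-ample data, with the projective bundle packaged as a `PB`. -/
theorem exists_PB_data_of_veryAmple {X Y : Scheme.{u}} (q : X ⟶ Y) (L : X.Modules)
    (hva : RelProj.IsRelVeryAmple q L) :
    ∃ (E : Y.Modules) (_ : E.IsQuasicoherent) (B : PB E) (i : X ⟶ B.P) (_ : i ≫ B.p = q)
      (_ : IsImmersion i), Nonempty (L ≅ (Scheme.Modules.pullback i).obj B.O1) := by
  obtain ⟨E, hE, 𝒮, j, hj, P, p, chart, hP, O1, lam, hO1, i, himm, hip, ⟨ι₀⟩⟩ := hva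
  haveI : E.IsQuasicoherent := hE
  obtain ⟨φ, hφ⟩ := Groth.Agent.CanPhi.exists_canPhi hP hO1 j hj.2
  exact ⟨E, hE, ⟨𝒮, j, hj, P, p, chart, hP, O1, lam, hO1, φ, hφ⟩, i, hip, himm, ⟨ι₀⟩⟩

/-- Base change of very-ample data along a commutative square. -/
theorem exists_baseChange_data {X Y X' Y' : Scheme.{u}} (f : X ⟶ Y) (g : Y' ⟶ Y) (g' : X' ⟶ X)
    (f' : X' ⟶ Y') (hsq : g' ≫ f = f' ≫ g) {E : Y.Modules} [E.IsQuasicoherent] (B : PB E)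
    (i : X ⟶ B.P) (hi : i ≫ B.p = f) {L : X.Modules}
    (e : L ≅ (Scheme.Modules.pullback i).obj B.O1) :
    ∃ (B' : PB ((Scheme.Modules.pullback g).obj E)) (hb : B'.P ⟶ B.P) (i' : X' ⟶ B'.P),
      IsPullback hb B'.p B.p g ∧ i' ≫ hb = g' ≫ i ∧ ∃ (_ : i' ≫ B'.p = f'),
        Nonempty ((Scheme.Modules.pullback g').obj L ≅ (Scheme.Modules.pullback i').obj B'.O1) := by
  haveI hE' : ((Scheme.Modules.pullback g).obj E).IsQuasicoherent :=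
    PBH8.isQuasicoherent_pullback g E
  obtain ⟨𝒮', j', hj', P', p', chart', hP', O1', lam', hO1', φ', hφ', -, -⟩ :=
    Groth.Agent.PBundle.exists_projBundle ((Scheme.Modules.pullback g).obj E)
  obtain ⟨h, hh, τ, hpb, -⟩ := Groth.Agent.PBBC.exists_bc g E B.𝒮 B.j B.hj B.p B.chart B.hP B.O1
    B.lam B.hO1 B.φ B.hφ 𝒮' j' hj' p' chart' hP' O1' lam' hO1' φ' hφ'
  have hw : (g' ≫ i) ≫ B.p = f' ≫ g := by rw [Category.assoc, hi, hsq]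
  have h1 : hpb.lift (g' ≫ i) f' hw ≫ h = g' ≫ i := hpb.lift_fst _ _ hw
  have h2 : hpb.lift (g' ≫ i) f' hw ≫ p' = f' := hpb.lift_snd _ _ hw
  refine ⟨⟨𝒮', j', hj', P', p', chart', hP', O1', lam', hO1', φ', hφ'⟩, h,
    hpb.lift (g' ≫ i) f' hw, hpb, h1, h2, ⟨?_⟩⟩
  exact (Scheme.Modules.pullback g').mapIso e ≪≫ (Scheme.Modules.pullbackComp g' i).app B.O1 ≪≫
    (Scheme.Modules.pullbackCongr h1.symm).app B.O1 ≪≫
    (Scheme.Modules.pullbackComp (hpb.lift (g' ≫ i) f' hw) h).symm.app B.O1 ≪≫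
    (Scheme.Modules.pullback (hpb.lift (g' ≫ i) f' hw)).mapIso τ

/-- **EGA II 4.4.10 (iv)**: the external tensor product of very ample modules is very ample
relative to the product morphism. -/
theorem isRelVeryAmple_externalTensor {S X₁ X₂ Y₁ Y₂ P Q : Scheme.{u}} (y₁ : Y₁ ⟶ S)
    (y₂ : Y₂ ⟶ S) (f₁ : X₁ ⟶ Y₁) (f₂ : X₂ ⟶ Y₂) (p₁ : P ⟶ X₁) (p₂ : P ⟶ X₂)
    (hP : IsPullback p₁ p₂ (f₁ ≫ y₁) (f₂ ≫ y₂))
    (q₁ : Q ⟶ Y₁) (q₂ : Q ⟶ Y₂) (hQ : IsPullback q₁ q₂ y₁ y₂) (h : P ⟶ Q)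
    (hh₁ : h ≫ q₁ = p₁ ≫ f₁) (hh₂ : h ≫ q₂ = p₂ ≫ f₂)
    (L₁ : X₁.Modules) (hL₁ : PicF.IsInvertible L₁) (hva₁ : RelProj.IsRelVeryAmple f₁ L₁)
    (L₂ : X₂.Modules) (hL₂ : PicF.IsInvertible L₂) (hva₂ : RelProj.IsRelVeryAmple f₂ L₂) :
    RelProj.IsRelVeryAmple h
      (CohB1.tensorMod ((Scheme.Modules.pullback p₁).obj L₁)
        ((Scheme.Modules.pullback p₂).obj L₂)) := by
  obtain ⟨E₁, hE₁, B₁, i₁, hi₁, himm₁, ⟨e₁⟩⟩ := exists_PB_data_of_veryAmple f₁ L₁ hva₁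
  obtain ⟨E₂, hE₂, B₂, i₂, hi₂, himm₂, ⟨e₂⟩⟩ := exists_PB_data_of_veryAmple f₂ L₂ hva₂
  haveI := hE₁
  haveI := hE₂
  obtain ⟨B₁', hb₁, i₁', hpb₁, hib₁, hip₁, ⟨ι₁⟩⟩ :=
    exists_baseChange_data f₁ q₁ p₁ h hh₁.symm B₁ i₁ hi₁ e₁
  obtain ⟨B₂', hb₂, i₂', hpb₂, hib₂, hip₂, ⟨ι₂⟩⟩ :=
    exists_baseChange_data f₂ q₂ p₂ h hh₂.symm B₂ i₂ hi₂ e₂
  haveI : ((Scheme.Modules.pullback q₁).obj E₁).IsQuasicoherent :=
    PBH8.isQuasicoherent_pullback q₁ E₁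
  haveI : ((Scheme.Modules.pullback q₂).obj E₂).IsQuasicoherent :=
    PBH8.isQuasicoherent_pullback q₂ E₂
  refine isRelVeryAmple_tensor_joint h (isInvertible_pullback p₁ hL₁) (isInvertible_pullback p₂ hL₂)
    B₁' B₂' i₁' hip₁ ι₁ i₂' hip₂ ι₂ ?_
  -- the joint morphism is an immersion: compose with the projection to `P(E₁) ×_S P(E₂)`
  have eq₁ : B₁'.p ≫ (q₁ ≫ y₁) = hb₁ ≫ (B₁.p ≫ y₁) := by
    rw [← Category.assoc, ← hpb₁.w, Category.assoc]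
  have eq₂ : B₂'.p ≫ (q₁ ≫ y₁) = hb₂ ≫ (B₂.p ≫ y₂) := by
    rw [hQ.w, ← Category.assoc, ← hpb₂.w, Category.assoc]
  have hcomp : pullback.lift i₁' i₂' (hip₁.trans hip₂.symm) ≫
      pullback.map B₁'.p B₂'.p (B₁.p ≫ y₁) (B₂.p ≫ y₂) hb₁ hb₂ (q₁ ≫ y₁) eq₁ eq₂ =
      hP.isoPullback.hom ≫ pullback.map (f₁ ≫ y₁) (f₂ ≫ y₂) (B₁.p ≫ y₁) (B₂.p ≫ y₂) i₁ i₂ (𝟙 S)
        ((Category.comp_id _).trans (by rw [← Category.assoc, hi₁]))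
        ((Category.comp_id _).trans (by rw [← Category.assoc, hi₂])) := by
    have m1 : pullback.map B₁'.p B₂'.p (B₁.p ≫ y₁) (B₂.p ≫ y₂) hb₁ hb₂ (q₁ ≫ y₁) eq₁ eq₂ ≫
        pullback.fst (B₁.p ≫ y₁) (B₂.p ≫ y₂) = pullback.fst B₁'.p B₂'.p ≫ hb₁ :=
      pullback.lift_fst _ _ _
    have m2 : pullback.map B₁'.p B₂'.p (B₁.p ≫ y₁) (B₂.p ≫ y₂) hb₁ hb₂ (q₁ ≫ y₁) eq₁ eq₂ ≫
        pullback.snd (B₁.p ≫ y₁) (B₂.p ≫ y₂) = pullback.snd B₁'.p B₂'.p ≫ hb₂ :=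
      pullback.lift_snd _ _ _
    have n1 : pullback.map (f₁ ≫ y₁) (f₂ ≫ y₂) (B₁.p ≫ y₁) (B₂.p ≫ y₂) i₁ i₂ (𝟙 S)
        ((Category.comp_id _).trans (by rw [← Category.assoc, hi₁]))
        ((Category.comp_id _).trans (by rw [← Category.assoc, hi₂])) ≫
        pullback.fst (B₁.p ≫ y₁) (B₂.p ≫ y₂) = pullback.fst (f₁ ≫ y₁) (f₂ ≫ y₂) ≫ i₁ :=
      pullback.lift_fst _ _ _
    have n2 : pullback.map (f₁ ≫ y₁) (f₂ ≫ y₂) (B₁.p ≫ y₁) (B₂.p ≫ y₂) i₁ i₂ (𝟙 S)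
        ((Category.comp_id _).trans (by rw [← Category.assoc, hi₁]))
        ((Category.comp_id _).trans (by rw [← Category.assoc, hi₂])) ≫
        pullback.snd (B₁.p ≫ y₁) (B₂.p ≫ y₂) = pullback.snd (f₁ ≫ y₁) (f₂ ≫ y₂) ≫ i₂ :=
      pullback.lift_snd _ _ _
    apply pullback.hom_ext
    · rw [Category.assoc, Category.assoc, m1, n1, pullback.lift_fst_assoc, hib₁,
        hP.isoPullback_hom_fst_assoc]
    · rw [Category.assoc, Category.assoc, m2, n2, pullback.lift_snd_assoc, hib₂,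
        hP.isoPullback_hom_snd_assoc]
  haveI : IsImmersion (pullback.map (f₁ ≫ y₁) (f₂ ≫ y₂) (B₁.p ≫ y₁) (B₂.p ≫ y₂) i₁ i₂ (𝟙 S)
      ((Category.comp_id _).trans (by rw [← Category.assoc, hi₁]))
      ((Category.comp_id _).trans (by rw [← Category.assoc, hi₂]))) :=
    MorphismProperty.pullbackMap (P := @IsImmersion) himm₁ himm₂
      (by rw [← Category.assoc, hi₁]) (by rw [← Category.assoc, hi₂])
  haveI : IsImmersion (pullback.lift i₁' i₂' (hip₁.trans hip₂.symm) ≫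
      pullback.map B₁'.p B₂'.p (B₁.p ≫ y₁) (B₂.p ≫ y₂) hb₁ hb₂ (q₁ ≫ y₁) eq₁ eq₂) := by
    rw [hcomp]; infer_instance
  exact IsImmersion.of_comp (pullback.lift i₁' i₂' (hip₁.trans hip₂.symm))
    (pullback.map B₁'.p B₂'.p (B₁.p ≫ y₁) (B₂.p ≫ y₂) hb₁ hb₂ (q₁ ≫ y₁) eq₁ eq₂)

end Groth.Agent.VATens
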