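import Mathlib
import Groth.Prelude
import Groth.Agent.Lib.VATens12_helper5
import Groth.Agent.Lib.VAPn1_helper5
import Groth.Agent.Lib.Tens32_helper8
import Groth.Agent.Lib.Tens45_helper8

/-!
# Sections of a very ample module over an infinite field generating at finitely many points
(helper5).  APPEND-ONLY once landed.

For an invertible module `A` on a scheme `X` and a point `y`, the global sections of `A` that do
*not* generate `A` at `y` are closed under addition and multiplication by functions.  For `X` over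
an infinite field `k` with a quotient `f^*E ⟶ A`, the sections `σ♭(v)`, `v ∈ Γ(E)`, not generating
at `y` form a proper `k`-subspace of `Γ(E)`; finitely many proper subspaces do not cover.
-/

set_option autoImplicit false
universe u
open CategoryTheory AlgebraicGeometry TopologicalSpace Opposite

noncomputable section

namespace Groth.Agent.GenPtsVA

open QcqsLoc QCohExtn GenLocH8 TensH8 Scheme.Modules Groth.Agent.UPB Groth.Agent.VATens
  Groth.Agent.VAPn

section NonGen
variable {X : Scheme.{u}} {A : X.Modules}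

/-- Membership of `y` in the locus of the global section `m`, in terms of the coefficient of `m`
with respect to a local generator. -/
theorem mem_genLocus_secHom_iff {W : X.Opens} {e : Γ(A, W)} (he : IsGen A W e)
    (y : X) (hy : y ∈ W) (m : Γ(A, ⊤)) (c : Γ(X, W)) (hc : rF A (le_top : W ≤ ⊤) m = c • e) :
    y ∈ CohB1.genLocus A (secHom A m) ↔ y ∈ X.basicOpen c := by
  have h := genLocus_inf_eq (secHom A m) he c ((val_secHom A m W).trans hc)
  rw [← h]
  exact ⟨fun h1 => ⟨h1, hy⟩, fun h1 => h1.1⟩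

theorem not_mem_add (hA : PicF.IsInvertible A) (y : X) {m m' : Γ(A, ⊤)}
    (hm : y ∉ CohB1.genLocus A (secHom A m)) (hm' : y ∉ CohB1.genLocus A (secHom A m')) :
    y ∉ CohB1.genLocus A (secHom A (m + m')) := by
  obtain ⟨W, -, hy, e, he⟩ := exists_isGen hA y
  obtain ⟨c, hc⟩ := he.exists_coef (rF A (le_top : W ≤ ⊤) m)
  obtain ⟨c', hc'⟩ := he.exists_coef (rF A (le_top : W ≤ ⊤) m')
  have hcc : rF A (le_top : W ≤ ⊤) (m + m') = (c + c') • e := by
    rw [map_add, hc, hc', add_smul]
  rw [mem_genLocus_secHom_iff he y hy _ _ hc] at hm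
  rw [mem_genLocus_secHom_iff he y hy _ _ hc'] at hm'
  rw [mem_genLocus_secHom_iff he y hy _ _ hcc]
  intro h
  rcases X.basicOpen_add_le _ _ h with h | h
  exacts [hm h, hm' h]

theorem not_mem_smul (hA : PicF.IsInvertible A) (y : X) (a : Γ(X, ⊤)) {m : Γ(A, ⊤)}
    (hm : y ∉ CohB1.genLocus A (secHom A m)) :
    y ∉ CohB1.genLocus A (secHom A (a • m)) := by
  obtain ⟨W, -, hy, e, he⟩ := exists_isGen hA y
  obtain ⟨c, hc⟩ := he.exists_coef (rF A (le_top : W ≤ ⊤) m)
  have hcc : rF A (le_top : W ≤ ⊤) (a • m) = (rX (le_top : W ≤ ⊤) a * c) • e := by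
    rw [rF_smul, hc, mul_smul]
  rw [mem_genLocus_secHom_iff he y hy _ _ hc] at hm
  rw [mem_genLocus_secHom_iff he y hy _ _ hcc, Scheme.basicOpen_mul]
  intro h
  exact hm h.2

theorem not_mem_zero (hA : PicF.IsInvertible A) (y : X) :
    y ∉ CohB1.genLocus A (secHom A (0 : Γ(A, ⊤))) := by
  obtain ⟨W, -, hy, e, he⟩ := exists_isGen hA y
  have hcc : rF A (le_top : W ≤ ⊤) (0 : Γ(A, ⊤)) = (0 : Γ(X, W)) • e := by
    rw [map_zero, zero_smul]
  rw [mem_genLocus_secHom_iff he y hy _ _ hcc, Scheme.basicOpen_zero]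
  exact fun h => h

end NonGen

section Field
variable (k : Type u) [Field k] [Infinite k] {Y : Scheme.{u}}
  (f : Y ⟶ Spec (CommRingCat.of k)) {A : Y.Modules} (E : (Spec (CommRingCat.of k)).Modules)
  [E.IsQuasicoherent] (σ : (Scheme.Modules.pullback f).obj E ⟶ A) [Epi σ]

/-- The global section `σ♭(v)` of `A`. -/
def tau (v : Γ(E, ⊤)) : Γ(A, ⊤) :=
  rF A (le_of_eq rfl : (⊤ : Y.Opens) ≤ f ⁻¹ᵁ ⊤) (sb f E A σ ⊤ v)

theorem tau_add (v v' : Γ(E, ⊤)) : tau k f E σ (v + v') = tau k f E σ v + tau k f E σ v' := by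
  unfold tau
  rw [sb_add, map_add]

theorem tau_smul (r : Γ(Spec (CommRingCat.of k), ⊤)) (v : Γ(E, ⊤)) :
    tau k f E σ (r • v) =
      rX (le_of_eq rfl : (⊤ : Y.Opens) ≤ f ⁻¹ᵁ ⊤) ((f.app ⊤).hom r) • tau k f E σ v := by
  unfold tau
  rw [sb_smul, rF_smul]

theorem tau_zero : tau k f E σ 0 = 0 := by
  have h := tau_add k f E σ 0 0
  rw [add_zero] at h
  exact left_eq_add.mp h

include k f E σ in
/-- **Sections generating at finitely many points.** -/
theorem exists_section_of_epi (hA : PicF.IsInvertible A) (ι : Type) [Finite ι] (y : ι → ↥Y) :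
    ∃ s : Coh.structureModule Y ⟶ A, ∀ i : ι, y i ∈ CohB1.genLocus A s := by
  classical
  letI : Module k Γ(E, ⊤) :=
    Module.compHom Γ(E, ⊤) ((Scheme.ΓSpecIso (CommRingCat.of k)).inv.hom)
  let H : ι → Submodule k Γ(E, ⊤) := fun i =>
    { carrier := {v | y i ∉ CohB1.genLocus A (secHom A (tau k f E σ v))}
      add_mem' := by
        intro v v' hv hv'
        show y i ∉ CohB1.genLocus A (secHom A (tau k f E σ (v + v')))
        rw [tau_add]
        exact not_mem_add hA (y i) hv hv'
      zero_mem' := by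
        show y i ∉ CohB1.genLocus A (secHom A (tau k f E σ 0))
        rw [tau_zero]
        exact not_mem_zero hA (y i)
      smul_mem' := by
        intro a v hv
        show y i ∉ CohB1.genLocus A (secHom A (tau k f E σ
          (((Scheme.ΓSpecIso (CommRingCat.of k)).inv.hom a) • v)))
        rw [tau_smul]
        exact not_mem_smul hA (y i) _ hv }
  have hH : ∀ i, H i ≠ ⊤ := by
    intro i hcon
    obtain ⟨v, W, hW, hyW, hgen⟩ := exists_isGen_sb (σ := σ) hA ⊤
      (isAffineOpen_top (Spec (CommRingCat.of k))) (y i) trivial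
    have hv : v ∈ H i := hcon ▸ Submodule.mem_top
    apply hv
    have hcc : rF A (le_top : W ≤ ⊤) (tau k f E σ v) =
        (1 : Γ(Y, W)) • rF A hW (sb f E A σ ⊤ v) := by
      rw [one_smul]
      unfold tau
      exact rF_rF A _ _ _
    rw [mem_genLocus_secHom_iff hgen (y i) hyW _ _ hcc,
      Scheme.basicOpen_of_isUnit _ isUnit_one]
    exact hyW
  obtain ⟨v, hv⟩ := Submodule.exists_forall_notMem_of_forall_ne_top H hH
  exact ⟨secHom A (tau k f E σ v), fun i => not_not.mp (hv i)⟩

end Field

/-- **Sections of a very ample module generating at finitely many points** (infinite base field). -/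
theorem exists_section_of_veryAmple (k : Type u) [Field k] [Infinite k] (Y : Scheme.{u})
    (f : Y ⟶ Spec (CommRingCat.of k)) (A : Y.Modules) (hA : RelProj.IsRelVeryAmple f A)
    (ι : Type) [Finite ι] (y : ι → ↥Y) :
    ∃ s : Coh.structureModule Y ⟶ A, ∀ i : ι, y i ∈ CohB1.genLocus A s := by
  obtain ⟨E, hE, B, i, hi, himm, ⟨ι₀⟩⟩ := exists_PB_data_of_veryAmple f A hA
  haveI := hE
  have hAinv : PicF.IsInvertible A :=
    isInvertible_of_iso' ι₀.symm (isInvertible_pullback i B.isInvertible_O1)
  exact exists_section_of_epi k f E (sigOf B i hi ι₀) hAinv ι y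

end Groth.Agent.GenPtsVA
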