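import Mathlib
import Groth.Agent.Lib.SmoothRegHom_helper3
import Groth.Agent.Lib.Regular_helper5

/-!
# Generic reducedness over `ℤ` (helper3)

For a reduced ring `A` of finite type over `ℤ`, the reduction `A / pA` is reduced for all but
finitely many prime numbers `p`.

Strategy: reduce to domains through `A ↪ ∏ A/P` (minimal primes) and an integer killing the
`ℤ`-torsion of the cokernel; for a domain of characteristic zero the generic point is a smooth
point over `ℤ` (`ℚ` is perfect), so some `A_g` is smooth over `ℤ`, its reductions are smooth over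
`𝔽_p` hence reduced, and `g` is a nonzerodivisor modulo `p` for almost all `p`.
-/

set_option autoImplicit false
universe u

namespace Groth.Agent.Lib.GenRedH3

open TensorProduct

/-- In a Noetherian module, a single nonzero integer bounds the `ℤ`-torsion: for all primes `p`
not dividing it, the module has no `p`-torsion. -/
theorem exists_int_torsion_bound (A M : Type*) [CommRing A] [AddCommGroup M] [Module A M]
    [IsNoetherian A M] :
    ∃ N : ℤ, N ≠ 0 ∧ ∀ p : ℕ, p.Prime → ¬ ((p : ℤ) ∣ N) → ∀ m : M, (p : ℤ) • m = 0 → m = 0 := by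
  classical
  let T : Submodule A M :=
    { carrier := {m | ∃ n : ℤ, n ≠ 0 ∧ n • m = 0}
      add_mem' := by
        rintro a b ⟨n, hn, hna⟩ ⟨n', hn', hnb⟩
        refine ⟨n * n', mul_ne_zero hn hn', ?_⟩
        have h1 : (n * n') • a = 0 := by rw [mul_comm, mul_smul, hna, smul_zero]
        have h2 : (n * n') • b = 0 := by rw [mul_smul, hnb, smul_zero]
        rw [smul_add, h1, h2, add_zero]
      zero_mem' := ⟨1, one_ne_zero, smul_zero _⟩
      smul_mem' := by
        rintro c m ⟨n, hn, hnm⟩
        exact ⟨n, hn, by rw [smul_comm, hnm, smul_zero]⟩ }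
  have hfg : T.FG := IsNoetherian.noetherian T
  obtain ⟨s, hs⟩ := hfg
  have hsT : ∀ t ∈ s, t ∈ T := fun t ht => hs ▸ Submodule.subset_span ht
  have hex : ∀ t : M, t ∈ T → ∃ n : ℤ, n ≠ 0 ∧ n • t = 0 := fun t ht => ht
  choose! n hn using hex
  refine ⟨∏ t ∈ s, n t, Finset.prod_ne_zero_iff.mpr (fun t ht => (hn t (hsT t ht)).1), ?_⟩
  have hN : ∀ m ∈ T, (∏ t ∈ s, n t) • m = 0 := by
    intro m hm
    rw [← hs] at hm
    induction hm using Submodule.span_induction with
    | mem t ht =>
      obtain ⟨c, hc⟩ := Finset.dvd_prod_of_mem n ht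
      rw [hc, mul_comm, mul_smul, (hn t (hsT t ht)).2, smul_zero]
    | zero => exact smul_zero _
    | add x y _ _ hx hy => rw [smul_add, hx, hy, add_zero]
    | smul a x _ hx => rw [smul_comm, hx, smul_zero]
  intro p hp hpN m hm
  have hmT : m ∈ T := ⟨(p : ℤ), by exact_mod_cast hp.ne_zero, hm⟩
  have hNm := hN m hmT
  have hcop : IsCoprime (p : ℤ) (∏ t ∈ s, n t) :=
    (Nat.prime_iff_prime_int.mp hp).irreducible.coprime_iff_not_dvd.mpr hpN
  obtain ⟨u, v, huv⟩ := hcop
  calc m = (1 : ℤ) • m := (one_smul _ _).symm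
    _ = (u * (p : ℤ) + v * ∏ t ∈ s, n t) • m := by rw [huv]
    _ = 0 := by rw [add_smul, mul_smul, mul_smul, hm, hNm, smul_zero, smul_zero, add_zero]

/-- `p` is good for `A` if `pA` is a radical ideal, i.e. `A / pA` is reduced. -/
def Good (A : Type*) [CommRing A] (p : ℕ) : Prop := (Ideal.span {(p : A)}).IsRadical

lemma good_iff (A : Type*) [CommRing A] (p : ℕ) :
    Good A p ↔ IsReduced (A ⧸ Ideal.span {(p : A)}) :=
  Ideal.isRadical_iff_quotient_reduced _

lemma good_iff_dvd {A : Type*} [CommRing A] {p : ℕ} :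
    Good A p ↔ ∀ (x : A) (n : ℕ), (p : A) ∣ x ^ n → (p : A) ∣ x := by
  unfold Good
  constructor
  · intro h x n hx
    rw [← Ideal.mem_span_singleton] at hx ⊢
    exact h ⟨n, hx⟩
  · rintro h x ⟨n, hx⟩
    rw [Ideal.mem_span_singleton] at hx ⊢
    exact h x n hx

lemma good_of_hom {A B : Type*} [CommRing A] [CommRing B] (φ : A →+* B) (p : ℕ)
    (hsat : ∀ a : A, (p : B) ∣ φ a → (p : A) ∣ a) (hB : Good B p) : Good A p := by
  rw [good_iff_dvd] at hB ⊢
  intro x n hx
  apply hsat
  apply hB (φ x) n
  rw [← map_pow]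
  obtain ⟨c, hc⟩ := hx
  exact ⟨φ c, by rw [hc, map_mul, map_natCast]⟩

lemma good_of_isUnit {A : Type*} [CommRing A] {p : ℕ} (h : IsUnit (p : A)) : Good A p := by
  rw [good_iff_dvd]
  intro x n _
  exact h.dvd

/-- If a nonzero integer vanishes in `A`, almost all primes are units in `A`. -/
lemma finite_bad_of_int_eq_zero (A : Type*) [CommRing A] (n : ℤ) (hn : n ≠ 0)
    (h : (n : A) = 0) : {p : ℕ | p.Prime ∧ ¬ Good A p}.Finite := by
  apply Set.Finite.subset (Finset.finite_toSet n.natAbs.divisors)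
  rintro p ⟨hp, hbad⟩
  simp only [Finset.mem_coe, Nat.mem_divisors]
  refine ⟨?_, Int.natAbs_ne_zero.mpr hn⟩
  by_contra hdvd
  apply hbad
  have hcop : IsCoprime (p : ℤ) n :=
    (Nat.prime_iff_prime_int.mp hp).irreducible.coprime_iff_not_dvd.mpr
      (by rwa [Int.natCast_dvd])
  obtain ⟨u, v, huv⟩ := hcop
  have h1 : (u : A) * (p : A) = 1 := by
    have := congrArg (Int.cast : ℤ → A) huv
    push_cast at this
    rw [h, mul_zero, add_zero] at this
    exact this
  exact good_of_isUnit (IsUnit.of_mul_eq_one _ (by rw [mul_comm]; exact h1))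

lemma isReduced_of_isRegularRing (R : Type u) [CommRing R] [IsRegularRing R] : IsReduced R := by
  apply isReduced_ofLocalizationMaximal
  intro J hJ
  haveI : IsDomain (Localization.AtPrime J) := Groth.Agent.RegularLib.isDomain _
  infer_instance

lemma isReduced_of_ringEquiv_smooth_field {k S T' : Type u} [Field k] [CommRing S] [CommRing T']
    [Algebra k T'] [Algebra.Smooth k T'] (e : S ≃+* T') : IsReduced S := by
  haveI : IsRegularRing T' := Groth.Agent.Lib.SmoothRegHomH3.isRegularRing_of_smooth_field k T'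
  haveI : IsReduced T' := isReduced_of_isRegularRing T'
  exact isReduced_of_injective e.toRingHom e.injective

/-- All primes are good for a smooth `ℤ`-algebra. -/
theorem good_of_smooth (T : Type) [CommRing T] [Algebra ℤ T] [Algebra.Smooth ℤ T] (p : ℕ)
    (hp : p.Prime) :
    Good T p := by
  rw [good_iff]
  let I : Ideal ℤ := Ideal.span {(p : ℤ)}
  haveI : I.IsMaximal :=
    PrincipalIdealRing.isMaximal_of_irreducible (Nat.prime_iff_prime_int.mp hp).irreducible
  letI : Field (ℤ ⧸ I) := Ideal.Quotient.field I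
  have hmap : I.map (algebraMap ℤ T) = Ideal.span {(p : T)} := by
    rw [Ideal.map_span, Set.image_singleton]
    simp
  have : IsReduced (T ⧸ I.map (algebraMap ℤ T)) :=
    isReduced_of_ringEquiv_smooth_field (k := ℤ ⧸ I)
      (Algebra.TensorProduct.quotIdealMapEquivQuotTensor T I).toRingEquiv
  rwa [hmap] at this

/-- The generic point of a domain of characteristic zero of finite type over `ℤ` is a smooth
point. -/
theorem smoothAt_bot (A : Type*) [CommRing A] [IsDomain A] [Algebra ℤ A] [Algebra.FiniteType ℤ A]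
    [CharZero A] :
    Algebra.IsSmoothAt ℤ (⊥ : Ideal A) := by
  let K := FractionRing A
  haveI : CharZero K := charZero_of_injective_algebraMap (IsFractionRing.injective A K)
  haveI : Algebra.EssFiniteType A K := Algebra.EssFiniteType.of_isLocalization K (nonZeroDivisors A)
  haveI : Algebra.EssFiniteType ℤ K := Algebra.EssFiniteType.comp ℤ A K
  haveI : @IsScalarTower ℤ ℚ K Algebra.toSMul Algebra.toSMul Algebra.toSMul :=
    IsScalarTower.of_algebraMap_eq' (Subsingleton.elim _ _)
  haveI : Algebra.EssFiniteType ℚ K := Algebra.EssFiniteType.of_comp ℤ ℚ K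
  haveI : Algebra.FormallySmooth ℚ K := inferInstance
  haveI : Algebra.FormallySmooth ℤ ℚ := Algebra.FormallySmooth.of_isLocalization (nonZeroDivisors ℤ)
  haveI : Algebra.FormallySmooth ℤ K := Algebra.FormallySmooth.comp ℤ ℚ K
  haveI : IsFractionRing A (Localization.AtPrime (⊥ : Ideal A)) := by
    have : (⊥ : Ideal A).primeCompl = nonZeroDivisors A := by
      ext x
      simp [Ideal.primeCompl, mem_nonZeroDivisors_iff_ne_zero]
    show IsLocalization (nonZeroDivisors A) _
    rw [← this]
    infer_instance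
  let e : K ≃ₐ[A] Localization.AtPrime (⊥ : Ideal A) :=
    IsLocalization.algEquiv (nonZeroDivisors A) _ _
  exact Algebra.FormallySmooth.of_equiv (e.restrictScalars ℤ)

/-- Domains of finite type over `ℤ`. -/
theorem finite_bad_of_domain (A : Type) [CommRing A] [IsDomain A] [Algebra ℤ A]
    [Algebra.FiniteType ℤ A] :
    {p : ℕ | p.Prime ∧ ¬ Good A p}.Finite := by
  by_cases hinj : Function.Injective (algebraMap ℤ A)
  · haveI : IsNoetherianRing A := Algebra.FiniteType.isNoetherianRing ℤ A
    haveI : Algebra.FinitePresentation ℤ A :=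
      Algebra.FinitePresentation.of_finiteType.mp inferInstance
    haveI : CharZero A := charZero_of_injective_algebraMap hinj
    haveI hsm : Algebra.IsSmoothAt ℤ (⊥ : Ideal A) := smoothAt_bot A
    obtain ⟨g, hg, hgs⟩ := Algebra.IsSmoothAt.exists_notMem_smooth ℤ (⊥ : Ideal A)
    have hg0 : g ≠ 0 := fun h => hg (h ▸ Ideal.zero_mem _)
    obtain ⟨N, hN0, hN⟩ := exists_int_torsion_bound A (A ⧸ Ideal.span {g})
    apply Set.Finite.subset (Finset.finite_toSet N.natAbs.divisors)
    rintro p ⟨hp, hbad⟩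
    simp only [Finset.mem_coe, Nat.mem_divisors]
    refine ⟨?_, Int.natAbs_ne_zero.mpr hN0⟩
    by_contra hdvd
    apply hbad
    have hpN : ¬ (p : ℤ) ∣ N := by rwa [Int.natCast_dvd]
    -- `g` is a nonzerodivisor modulo `p`
    have hgp : ∀ b : A, (p : A) ∣ g * b → (p : A) ∣ b := by
      rintro b ⟨a, ha⟩
      have h1 : (p : ℤ) • (Ideal.Quotient.mk (Ideal.span {g}) a) = 0 := by
        have : (p : ℤ) • (Ideal.Quotient.mk (Ideal.span {g}) a) =
            Ideal.Quotient.mk (Ideal.span {g}) (g * b) := by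
          rw [ha, zsmul_eq_mul, map_mul, Int.cast_natCast, map_natCast]
        rw [this]
        exact Ideal.Quotient.eq_zero_iff_mem.mpr
          (Ideal.mem_span_singleton.mpr (dvd_mul_right g b))
      have h2 := hN p hp hpN _ h1
      rw [Ideal.Quotient.eq_zero_iff_mem, Ideal.mem_span_singleton] at h2
      obtain ⟨a', rfl⟩ := h2
      refine ⟨a', mul_left_cancel₀ hg0 ?_⟩
      rw [ha]
      ring
    have h5 : ∀ m : ℕ, ∀ x : A, (p : A) ∣ g ^ m * x → (p : A) ∣ x := by
      intro m
      induction m with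
      | zero => intro x hx; simpa using hx
      | succ m ih =>
        intro x hx
        apply ih
        apply hgp
        rw [← mul_assoc, ← pow_succ']
        exact hx
    haveI := hgs
    have hT := good_of_smooth (Localization.Away g) p hp
    rw [good_iff_dvd] at hT ⊢
    intro x n hx
    have h3 : (p : Localization.Away g) ∣ (algebraMap A (Localization.Away g) x) ^ n := by
      obtain ⟨c, hc⟩ := hx
      exact ⟨algebraMap A _ c, by rw [← map_pow, hc, map_mul, map_natCast]⟩
    obtain ⟨y, hy⟩ := hT _ n h3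
    obtain ⟨⟨a, s⟩, has⟩ := IsLocalization.surj (Submonoid.powers g) y
    obtain ⟨m, hm⟩ := s.2
    have h4 : g ^ m * x = (p : A) * a := by
      apply IsLocalization.injective (Localization.Away g)
        (powers_le_nonZeroDivisors_of_noZeroDivisors hg0)
      rw [map_mul, hy, map_mul, map_natCast, ← has]
      simp only [← hm]
      ring
    exact h5 m x ⟨a, h4⟩
  · rw [injective_iff_map_eq_zero] at hinj
    push_neg at hinj
    obtain ⟨n, hn0, hn⟩ := hinj
    exact finite_bad_of_int_eq_zero A n hn (by rw [← eq_intCast (algebraMap ℤ A) n]; exact hn0)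

/-- Reduced rings of finite type over `ℤ` (in `Type`). -/
theorem finite_bad_of_reduced (A : Type) [CommRing A] [IsReduced A] [Algebra ℤ A]
    [Algebra.FiniteType ℤ A] :
    {p : ℕ | p.Prime ∧ ¬ Good A p}.Finite := by
  haveI : IsNoetherianRing A := Algebra.FiniteType.isNoetherianRing ℤ A
  have hfin : (minimalPrimes A).Finite := minimalPrimes.finite_of_isNoetherianRing A
  haveI : Finite (minimalPrimes A) := hfin.to_subtype
  haveI : ∀ P : minimalPrimes A, P.1.IsPrime := fun P => Ideal.minimalPrimes_isPrime P.2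
  haveI : ∀ P : minimalPrimes A, Algebra.FiniteType ℤ (A ⧸ P.1) := fun P =>
    Algebra.FiniteType.of_surjective (Ideal.Quotient.mkₐ ℤ P.1)
      (Ideal.Quotient.mkₐ_surjective ℤ P.1)
  have hP : ∀ P : minimalPrimes A, {p : ℕ | p.Prime ∧ ¬ Good (A ⧸ P.1) p}.Finite :=
    fun P => finite_bad_of_domain (A ⧸ P.1)
  let B := ∀ P : minimalPrimes A, A ⧸ P.1
  have hinj : Function.Injective (algebraMap A B) := by
    rw [injective_iff_map_eq_zero]
    intro a ha
    have hnil : IsNilpotent a := by
      rw [nilpotent_iff_mem_prime]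
      intro J hJ
      obtain ⟨P, hPm, hPJ⟩ := Ideal.exists_minimalPrimes_le (bot_le : (⊥ : Ideal A) ≤ J)
      apply hPJ
      have := congrFun ha ⟨P, hPm⟩
      exact Ideal.Quotient.eq_zero_iff_mem.mp this
    exact hnil.eq_zero
  obtain ⟨N, hN0, hN⟩ :=
    exists_int_torsion_bound A (B ⧸ LinearMap.range (Algebra.linearMap A B))
  apply Set.Finite.subset
    ((Finset.finite_toSet N.natAbs.divisors).union (Set.finite_iUnion hP))
  rintro p ⟨hp, hbad⟩
  by_contra hnot
  simp only [Set.mem_union, Finset.mem_coe, Nat.mem_divisors, Set.mem_iUnion, Set.mem_setOf_eq,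
    not_or, not_exists, not_and, not_not] at hnot
  obtain ⟨h1, h2⟩ := hnot
  apply hbad
  have hpN : ¬ (p : ℤ) ∣ N := by
    rw [Int.natCast_dvd]
    intro h
    exact (Int.natAbs_ne_zero.mpr hN0) (h1 h)
  have hgood : ∀ P : minimalPrimes A, Good (A ⧸ P.1) p := fun P => h2 P hp
  have hB : Good B p := by
    rw [good_iff_dvd]
    intro x n hx
    obtain ⟨c, hc⟩ := hx
    have hall : ∀ P : minimalPrimes A, (p : A ⧸ P.1) ∣ x P := by
      intro P
      have hPg := hgood P
      rw [good_iff_dvd] at hPg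
      apply hPg (x P) n
      exact ⟨c P, congrFun hc P⟩
    choose z hz using hall
    exact ⟨z, funext fun P => hz P⟩
  apply good_of_hom (algebraMap A B) p _ hB
  rintro a ⟨b, hb⟩
  have h3 : (p : ℤ) • (Submodule.Quotient.mk b :
      B ⧸ LinearMap.range (Algebra.linearMap A B)) = 0 := by
    rw [← Submodule.Quotient.mk_smul, Submodule.Quotient.mk_eq_zero]
    exact ⟨a, by rw [Algebra.linearMap_apply, hb, zsmul_eq_mul, Int.cast_natCast]⟩
  have h4 := hN p hp hpN _ h3
  rw [Submodule.Quotient.mk_eq_zero] at h4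
  obtain ⟨a', ha'⟩ := h4
  refine ⟨a', hinj ?_⟩
  rw [hb, map_mul, map_natCast, ← ha']
  rfl

/-- Generic reducedness over `ℤ`. -/
theorem main (A : Type u) [CommRing A] [Algebra ℤ A] [Algebra.FiniteType ℤ A] [IsReduced A] :
    {p : ℕ | p.Prime ∧ ¬ IsReduced (A ⧸ Ideal.span {(p : A)})}.Finite := by
  obtain ⟨n, f, hf⟩ := Algebra.FiniteType.iff_quotient_mvPolynomial''.mp
    (inferInstance : Algebra.FiniteType ℤ A)
  let A₀ := MvPolynomial (Fin n) ℤ ⧸ RingHom.ker f.toRingHom
  let e : A₀ ≃+* A := RingHom.quotientKerEquivOfSurjective hf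
  haveI : IsReduced A₀ := isReduced_of_injective e.toRingHom e.injective
  haveI : Algebra.FiniteType ℤ A₀ :=
    Algebra.FiniteType.of_surjective (Ideal.Quotient.mkₐ ℤ (RingHom.ker f.toRingHom))
      (Ideal.Quotient.mkₐ_surjective ℤ _)
  have h0 := finite_bad_of_reduced A₀
  apply h0.subset
  rintro p ⟨hp, hbad⟩
  refine ⟨hp, fun hgood => hbad ?_⟩
  rw [← good_iff]
  apply good_of_hom e.symm.toRingHom p _ hgood
  rintro a ⟨c, hc⟩
  refine ⟨e c, ?_⟩
  have := congrArg e hc
  simpa using this

end Groth.Agent.Lib.GenRedH3
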