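import Mathlib

/-! Relative dimension of a standard smooth algebra via the generic fibre (helper8).
APPEND-ONLY once landed. -/

set_option autoImplicit false
universe u

namespace Groth.Agent.Lib.GenSmH8

open KaehlerDifferential TensorProduct

theorem relDim_of_generic {R K₀ T L : Type u} [CommRing R] [Field K₀] [CommRing T] [Field L]
    [Algebra R K₀] [Algebra R T] [Algebra K₀ L] [Algebra T L] [Algebra R L]
    [IsScalarTower R K₀ L] [IsScalarTower R T L]
    [Algebra.FormallyUnramified R K₀] [Algebra.FormallyEtale T L]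
    [Algebra.IsStandardSmooth R T] [Module.Finite L (Ω[L⁄K₀])] (n : ℕ)
    (hn : Module.finrank L (Ω[L⁄K₀]) = n) :
    Algebra.IsStandardSmoothOfRelativeDimension n R T := by
  haveI : Nontrivial T := (algebraMap T L).domain_nontrivial
  rw [Algebra.IsStandardSmoothOfRelativeDimension.iff_of_isStandardSmooth]
  have h1 : Module.rank L (L ⊗[T] Ω[T⁄R]) = Module.rank T (Ω[T⁄R]) := by
    rw [Module.rank_baseChange, Cardinal.lift_id]
  have h2 : Module.rank L (L ⊗[T] Ω[T⁄R]) = Module.rank L (Ω[L⁄R]) :=
    (tensorKaehlerEquivOfFormallyEtale R T L).rank_eq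
  have hinj : Function.Injective (KaehlerDifferential.map R K₀ L L) := by
    rw [← LinearMap.ker_eq_bot, ← range_mapBaseChange, LinearMap.range_eq_bot]
    haveI : Subsingleton (Ω[K₀⁄R]) := inferInstance
    exact Subsingleton.elim _ _
  have h3 : Module.rank L (Ω[L⁄R]) = Module.rank L (Ω[L⁄K₀]) :=
    (LinearEquiv.ofBijective (KaehlerDifferential.map R K₀ L L)
      ⟨hinj, KaehlerDifferential.map_surjective R K₀ L⟩).rank_eq
  rw [← h1, h2, h3, ← Module.finrank_eq_rank, hn]

end Groth.Agent.Lib.GenSmH8
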