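import Mathlib
import Groth.Agent.Lib.GenSmA_helper8
import Groth.Agent.Lib.KaehlerReg_helper3

/-! Generic smoothness on the source in characteristic zero (helper8).
APPEND-ONLY once landed. -/

set_option autoImplicit false
universe u

namespace Groth.Agent.Lib.GenSmH8

open AlgebraicGeometry CategoryTheory Limits KaehlerDifferential

/-- the stalk of an integral scheme at a point equal to the generic point is a field -/
theorem isField_stalk_of_eq_genericPoint {Y : Scheme.{u}} [IsIntegral Y] (y : Y)
    (hy : y = genericPoint Y) : IsField (Y.presheaf.stalk y) := by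
  subst hy
  exact Field.toIsField Y.functionField

theorem main14417
    (X Y : Scheme.{u}) [IsIntegral X] [IsIntegral Y] [IsNoetherian X] [IsNoetherian Y]
    (π : X ⟶ Y) [LocallyOfFiniteType π] [QuasiCompact π]
    (hdom : π.base (genericPoint X) = genericPoint Y) [CharZero Y.functionField]
    (n : ℕ) (hn : @Algebra.trdeg (Y.presheaf.stalk (π.base (genericPoint X))) X.functionField _ _
      (π.stalkMap (genericPoint X)).hom.toAlgebra = n) :
    ∃ U : X.Opens, (U : Set X).Nonempty ∧ SmoothOfRelativeDimension n (U.ι ≫ π) := by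
  set η := genericPoint X with hη
  letI : Field (Y.presheaf.stalk (π.base η)) :=
    (isField_stalk_of_eq_genericPoint (π.base η) hdom).toField
  haveI : CharZero (Y.presheaf.stalk (π.base η)) := by
    have : ∀ (y : Y) (hy : y = genericPoint Y), CharZero (Y.presheaf.stalk y) := by
      intro y hy; subst hy; exact ‹CharZero Y.functionField›
    exact this _ hdom
  have hess := LocallyOfFiniteType.stalkMap π η
  algebraize [(π.stalkMap η).hom]
  letI : Field (X.presheaf.stalk η) := inferInstanceAs (Field X.functionField)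
  have hfs : (π.stalkMap η).hom.FormallySmooth := by
    change Algebra.FormallySmooth (Y.presheaf.stalk (π.base η)) (X.presheaf.stalk η)
    exact Algebra.FormallySmooth.of_perfectField
  have hfin := Groth.Agent.Lib.KaehlerRegH3.finrank_kaehler_eq_trdeg
    (Y.presheaf.stalk (π.base η)) (X.presheaf.stalk η)
  obtain ⟨U, hU, V, hV, hVU, hxV, hsm⟩ := exists_smooth_of_formallySmooth_stalk π η hfs
  have hfinrank : Module.finrank (X.presheaf.stalk η) (Ω[X.presheaf.stalk η⁄Y.presheaf.stalk (π.base η)]) = n := by
    rw [hfin.2, hn, Cardinal.toNat_natCast]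
  haveI := hfin.1
  algebraize [(π.appLE U V hVU).hom]
  haveI : (hV.primeIdealOf ⟨η, hxV⟩).asIdeal.IsPrime := inferInstance
  haveI : Algebra.IsSmoothAt Γ(Y, U) (hV.primeIdealOf ⟨η, hxV⟩).asIdeal :=
    Algebra.FormallySmooth.comp Γ(Y, U) Γ(X, V) _
  obtain ⟨r, hrq, hstd⟩ := Algebra.IsSmoothAt.exists_notMem_isStandardSmooth Γ(Y, U)
    (hV.primeIdealOf ⟨η, hxV⟩).asIdeal
  -- algebra structures
  letI : Algebra Γ(Y, U) (Y.presheaf.stalk (π.base η)) :=
    Y.presheaf.algebra_section_stalk (U := U) ⟨π.base η, hVU hxV⟩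
  letI : Algebra Γ(X, V) (X.presheaf.stalk η) := X.presheaf.algebra_section_stalk (U := V) ⟨η, hxV⟩
  haveI hlocY := hU.isLocalization_stalk ⟨π.base η, hVU hxV⟩
  haveI hlocX := hV.isLocalization_stalk ⟨η, hxV⟩
  letI : Algebra Γ(Y, U) (X.presheaf.stalk η) :=
    ((algebraMap Γ(X, V) (X.presheaf.stalk η)).comp (algebraMap Γ(Y, U) Γ(X, V))).toAlgebra
  haveI : IsScalarTower Γ(Y, U) Γ(X, V) (X.presheaf.stalk η) := .of_algebraMap_eq' rfl
  haveI : IsScalarTower Γ(Y, U) (Y.presheaf.stalk (π.base η)) (X.presheaf.stalk η) := by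
    refine .of_algebraMap_eq' ?_
    have h1 : Y.presheaf.germ U (π.base η) (hVU hxV) ≫ π.stalkMap η =
        π.appLE U V hVU ≫ X.presheaf.germ V η hxV := by
      rw [Scheme.Hom.germ_stalkMap, Scheme.Hom.appLE, Category.assoc, X.presheaf.germ_res]
    exact congrArg CommRingCat.Hom.hom h1.symm
  have hunit : IsUnit (algebraMap Γ(X, V) (X.presheaf.stalk η) r) :=
    IsLocalization.map_units (M := (hV.primeIdealOf ⟨η, hxV⟩).asIdeal.primeCompl) _ ⟨r, hrq⟩
  letI : Algebra (Localization.Away r) (X.presheaf.stalk η) :=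
    (IsLocalization.Away.lift r hunit).toAlgebra
  haveI : IsScalarTower Γ(X, V) (Localization.Away r) (X.presheaf.stalk η) :=
    .of_algebraMap_eq' (IsLocalization.Away.lift_comp r hunit).symm
  haveI : IsScalarTower Γ(Y, U) (Localization.Away r) (X.presheaf.stalk η) := by
    refine .of_algebraMap_eq' ?_
    rw [IsScalarTower.algebraMap_eq Γ(Y, U) Γ(X, V) (Localization.Away r), ← RingHom.comp_assoc,
      ← IsScalarTower.algebraMap_eq Γ(X, V) (Localization.Away r) (X.presheaf.stalk η)]
    rfl
  haveI : Algebra.FormallyUnramified Γ(Y, U) (Y.presheaf.stalk (π.base η)) :=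
    Algebra.FormallyUnramified.of_isLocalization
      (hU.primeIdealOf ⟨π.base η, hVU hxV⟩).asIdeal.primeCompl
  haveI : Algebra.FormallyEtale Γ(X, V) (X.presheaf.stalk η) :=
    Algebra.FormallyEtale.of_isLocalization (hV.primeIdealOf ⟨η, hxV⟩).asIdeal.primeCompl
  haveI : Algebra.FormallyUnramified Γ(X, V) (Localization.Away r) :=
    Algebra.FormallyUnramified.of_isLocalization (Submonoid.powers r)
  haveI : Algebra.FormallyEtale (Localization.Away r) (X.presheaf.stalk η) :=
    Algebra.FormallyEtale.of_restrictScalars (R := Γ(X, V))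
  have hrel : Algebra.IsStandardSmoothOfRelativeDimension n Γ(Y, U) (Localization.Away r) :=
    relDim_of_generic (K₀ := Y.presheaf.stalk (π.base η)) (L := X.presheaf.stalk η) n hfinrank
  -- geometric wrap-up
  haveI : Nontrivial (Localization.Away r) :=
    (algebraMap (Localization.Away r) (X.presheaf.stalk η)).domain_nontrivial
  let j : Spec (.of (Localization.Away r)) ⟶ X :=
    Spec.map (CommRingCat.ofHom (algebraMap Γ(X, V) (Localization.Away r))) ≫ hV.fromSpec
  refine ⟨j.opensRange, ?_, ?_⟩
  · obtain ⟨z⟩ : Nonempty (Spec (.of (Localization.Away r))) :=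
      inferInstanceAs (Nonempty (PrimeSpectrum (Localization.Away r)))
    exact ⟨j z, z, rfl⟩
  · have hj : j ≫ π = Spec.map (CommRingCat.ofHom (algebraMap Γ(Y, U) (Localization.Away r))) ≫
        hU.fromSpec := by
      simp only [j, Category.assoc]
      rw [← IsAffineOpen.SpecMap_appLE_fromSpec π hU hV hVU, ← Category.assoc, ← Spec.map_comp]
      rfl
    have hP : SmoothOfRelativeDimension n
        (Spec.map (CommRingCat.ofHom (algebraMap Γ(Y, U) (Localization.Away r)))) := by
      rw [HasRingHomProperty.Spec_iff (P := @SmoothOfRelativeDimension n)]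
      exact RingHom.locally_of RingHom.isStandardSmoothOfRelativeDimension_respectsIso _
        ((RingHom.isStandardSmoothOfRelativeDimension_algebraMap n).mpr hrel)
    have hP2 : SmoothOfRelativeDimension n (j ≫ π) := by
      rw [hj]
      exact inferInstanceAs (SmoothOfRelativeDimension (n + 0) _)
    have : j.opensRange.ι ≫ π = j.isoOpensRange.inv ≫ j ≫ π := by
      rw [← Category.assoc, Scheme.Hom.isoOpensRange_inv_comp]
    rw [this]
    exact (MorphismProperty.cancel_left_of_respectsIso (@SmoothOfRelativeDimension n) _ _).mpr hP2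

end Groth.Agent.Lib.GenSmH8
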