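import Mathlib
import Groth.Prelude
import Groth.Agent.Lib.GenSmoothReg_helper6
import Groth.Agent.Lib.JacDimSch2_helper3

/-!
# Generic smoothness in characteristic zero for a nonsingular source (helper3)
APPEND-ONLY once landed.
-/

set_option autoImplicit false
set_option maxHeartbeats 1600000
universe u

open CategoryTheory CategoryTheory.Limits AlgebraicGeometry TopologicalSpace Opposite

namespace Groth.Agent.Lib.GenSmVarH3

theorem main10930 (k : Type u) [Field k] [CharZero k]
    {X Y : Scheme.{u}} (qX : X ⟶ Spec (CommRingCat.of k)) (qY : Y ⟶ Spec (CommRingCat.of k))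
    [LocallyOfFiniteType qX] [QuasiCompact qX] [Smooth qX]
    [LocallyOfFiniteType qY] [IsSeparated qY]
    [IsIntegral X] [IsIntegral Y] (f : X ⟶ Y) (hf : f ≫ qY = qX) :
    ∃ V : Y.Opens, (V : Set ↥Y).Nonempty ∧ Smooth (f ∣_ V) := by
  classical
  haveI : LocallyOfFiniteType (f ≫ qY) := by rw [hf]; infer_instance
  haveI : LocallyOfFiniteType f := locallyOfFiniteType_of_comp f qY
  haveI : QuasiCompact (f ≫ qY) := by rw [hf]; infer_instance
  haveI : QuasiCompact f := QuasiCompact.of_comp f qY
  haveI : IsLocallyNoetherian Y := LocallyOfFiniteType.isLocallyNoetherian qY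
  haveI : IsLocallyNoetherian X := LocallyOfFiniteType.isLocallyNoetherian qX
  haveI : LocallyOfFinitePresentation f := by
    rw [HasRingHomProperty.iff_appLE (P := @LocallyOfFinitePresentation)]
    intro U V e
    have h1 := HasRingHomProperty.appLE (P := @LocallyOfFiniteType) f inferInstance U V e
    haveI : IsNoetherianRing Γ(Y, U.1) := IsLocallyNoetherian.component_noetherian U
    exact RingHom.FinitePresentation.of_finiteType.1 h1
  have hreg : ∀ x : X, IsRegularLocalRing (X.presheaf.stalk x) :=
    Groth.Agent.Lib.JacDimSchH3.regular_stalk_of_smooth_field k qX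
  -- the function field has characteristic zero
  obtain ⟨φ, -⟩ := Groth.Agent.Lib.SmoothRegFieldH3.exists_bijective_stalk_spec_field k
    (qY (genericPoint Y))
  let ψ : k →+* Y.functionField := (qY.stalkMap (genericPoint Y)).hom.comp φ
  haveI : CharZero Y.functionField := charZero_of_injective_ringHom ψ.injective
  haveI : PerfectField Y.functionField := PerfectField.ofCharZero
  obtain ⟨V, hηV, hVle⟩ := Groth.Agent.Lib.GenSmoothRegH6.exists_open_preimage_le f f.smoothLocus
    (fun x hx => Groth.Agent.Lib.GenSmoothRegH6.mem_smoothLocus_of_regular_of_perfect f x hx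
      (hreg x))
  refine ⟨V, ⟨genericPoint Y, hηV⟩, ?_⟩
  rw [← Scheme.Hom.smoothLocus_eq_top_iff, eq_top_iff]
  rintro x -
  rw [Scheme.Hom.mem_smoothLocus]
  have hx : x.1 ∈ f.smoothLocus := hVle x.2
  rw [Scheme.Hom.mem_smoothLocus] at hx
  exact (RingHom.FormallySmooth.respectsIso.arrow_mk_iso_iff
    (morphismRestrictStalkMap f V x)).2 hx

end Groth.Agent.Lib.GenSmVarH3
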