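import Mathlib

namespace Groth.Agent.Lib.GenSmoothH4

universe u v

theorem frac_of_closure {K : Type u} [Field K] (s : Set K) (hs : Subfield.closure s = ⊤)
    {R : Type v} [CommRing R] [Algebra R K] (A₀ : Subalgebra R K) (hsA : s ⊆ A₀) (z : K) :
    ∃ x y : A₀, z = algebraMap A₀ K x / algebraMap A₀ K y := by
  have hz : z ∈ Subfield.closure s := by rw [hs]; exact Subfield.mem_top z
  obtain ⟨y, hy, w, hw, rfl⟩ := Subfield.mem_closure_iff.mp hz
  have hle : Subring.closure s ≤ A₀.toSubring := Subring.closure_le.mpr hsA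
  exact ⟨⟨y, hle hy⟩, ⟨w, hle hw⟩, rfl⟩

theorem isFractionRing_of_frac {R : Type v} {K : Type u} [CommRing R] [Field K] [Algebra R K]
    (A : Subalgebra R K) (hfrac : ∀ z : K, ∃ x y : A, z = algebraMap A K x / algebraMap A K y) :
    IsFractionRing A K := by
  haveI : FaithfulSMul A K :=
    (faithfulSMul_iff_algebraMap_injective A K).mpr (fun a b h => Subtype.ext h)
  exact IsFractionRing.of_field (R := A) (K := K) hfrac

theorem exists_smooth_subalgebra {R : Type v} {K : Type u} [CommRing R] [Field K] [Algebra R K]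
    (A₀ : Subalgebra R K) [Algebra.FinitePresentation R A₀]
    (hfrac : ∀ z : K, ∃ x y : A₀, z = algebraMap A₀ K x / algebraMap A₀ K y)
    [Algebra.FormallySmooth R K] :
    ∃ A : Subalgebra R K, Algebra.FiniteType R A ∧ Algebra.Smooth R A ∧
      ∀ z : K, ∃ x y : A, z = algebraMap A K x / algebraMap A K y := by
  classical
  haveI hA₀K : IsFractionRing A₀ K := isFractionRing_of_frac A₀ hfrac
  haveI : (⊥ : Ideal A₀).IsPrime := Ideal.bot_prime
  haveI hloc : IsFractionRing A₀ (Localization.AtPrime (⊥ : Ideal A₀)) := by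
    simpa [Ideal.primeCompl_bot] using
      Localization.isLocalization (M := (⊥ : Ideal A₀).primeCompl)
  haveI : Algebra.IsSmoothAt R (⊥ : Ideal A₀) :=
    Algebra.FormallySmooth.of_equiv
      ((IsLocalization.algEquiv (nonZeroDivisors A₀) K
        (Localization.AtPrime (⊥ : Ideal A₀))).restrictScalars R)
  obtain ⟨f, hf, hsm⟩ := Algebra.IsSmoothAt.exists_notMem_smooth R (⊥ : Ideal A₀)
  have hf0 : f ≠ 0 := fun h => hf (by rw [h]; exact Ideal.zero_mem _)
  have hfK : A₀.val f ≠ 0 := fun h => hf0 (Subtype.ext h)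
  have hunit : ∀ y : Submonoid.powers f, IsUnit (A₀.val (y : A₀)) := by
    rintro ⟨y, n, rfl⟩
    apply IsUnit.mk0
    rw [map_pow]
    exact pow_ne_zero n hfK
  have hinj0 : Function.Injective (algebraMap A₀ (Localization.Away f)) :=
    IsLocalization.injective (Localization.Away f)
      (powers_le_nonZeroDivisors_of_noZeroDivisors hf0)
  have hφinj' : Function.Injective
      (IsLocalization.lift (M := Submonoid.powers f) (S := Localization.Away f)
        (g := (A₀.val : A₀ →+* K)) hunit) := by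
    rw [IsLocalization.lift_injective_iff]
    intro x y
    constructor
    · intro h
      rw [hinj0 h]
    · intro h
      have : x = y := Subtype.ext h
      rw [this]
  obtain ⟨φ, hφ⟩ : ∃ φ : Localization.Away f →ₐ[R] K,
      φ = IsLocalization.liftAlgHom (M := Submonoid.powers f) (f := A₀.val) hunit := ⟨_, rfl⟩
  have hφinj : Function.Injective φ := by
    rw [hφ]
    exact hφinj'
  have hφalg : ∀ x : A₀, φ (algebraMap A₀ (Localization.Away f) x) = A₀.val x := by
    intro x
    rw [hφ]
    exact IsLocalization.lift_eq hunit x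
  refine ⟨φ.range, ?_, ?_, ?_⟩
  · haveI := hsm.finitePresentation
    have h1 : Algebra.FiniteType R (Localization.Away f) :=
      Algebra.FiniteType.of_finitePresentation
    exact h1.equiv (AlgEquiv.ofInjective φ hφinj)
  · exact Algebra.Smooth.of_equiv (AlgEquiv.ofInjective φ hφinj)
  · intro z
    obtain ⟨x, y, hxy⟩ := hfrac z
    exact ⟨⟨A₀.val x, ⟨algebraMap A₀ (Localization.Away f) x, hφalg x⟩⟩,
      ⟨A₀.val y, ⟨algebraMap A₀ (Localization.Away f) y, hφalg y⟩⟩, hxy⟩

theorem exists_smooth_of_closure {R : Type v} {K : Type u} [CommRing R] [IsNoetherianRing R]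
    [Field K] [Algebra R K] (s : Finset K) (hs : Subfield.closure (↑s : Set K) = ⊤)
    (hsm : ∀ [Algebra.EssFiniteType R K], Algebra.FormallySmooth R K) :
    ∃ A : Subalgebra R K, Algebra.FiniteType R A ∧ Algebra.Smooth R A ∧ IsFractionRing A K := by
  classical
  obtain ⟨A₀, hA₀⟩ : ∃ A₀ : Subalgebra R K, A₀ = Algebra.adjoin R (↑s : Set K) := ⟨_, rfl⟩
  haveI hft : Algebra.FiniteType R A₀ := by
    rw [hA₀]
    exact (Subalgebra.fg_iff_finiteType _).mp (Subalgebra.fg_adjoin_finset s)
  haveI : Algebra.FinitePresentation R A₀ := Algebra.FinitePresentation.of_finiteType.mp hft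
  have hfrac : ∀ z : K, ∃ x y : A₀, z = algebraMap A₀ K x / algebraMap A₀ K y :=
    frac_of_closure (↑s : Set K) hs A₀ (by rw [hA₀]; exact Algebra.subset_adjoin)
  haveI : IsFractionRing A₀ K := isFractionRing_of_frac A₀ hfrac
  haveI : Algebra.EssFiniteType A₀ K :=
    Algebra.EssFiniteType.of_isLocalization K (nonZeroDivisors A₀)
  haveI : Algebra.EssFiniteType R K := Algebra.EssFiniteType.comp R A₀ K
  haveI : Algebra.FormallySmooth R K := hsm
  obtain ⟨A, hA1, hA2, hA3⟩ := exists_smooth_subalgebra A₀ hfrac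
  exact ⟨A, hA1, hA2, isFractionRing_of_frac A hA3⟩

theorem main14732 (K : Type u) [Field K] (p : ℕ) [Fact p.Prime] [CharP K p] (s : Finset K)
    (hs : Subfield.closure (↑s : Set K) = ⊤) :
    ∃ A : Subalgebra (⊥ : Subfield K) K, Algebra.FiniteType (⊥ : Subfield K) A ∧
      Algebra.Smooth (⊥ : Subfield K) A ∧ IsFractionRing A K := by
  apply exists_smooth_of_closure s hs
  intro _
  haveI := Subfield.fintypeBot K p
  haveI : PerfectField (⊥ : Subfield K) := PerfectField.ofFinite
  exact Algebra.FormallySmooth.of_perfectField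

theorem main14731 (K : Type u) [Field K] [CharZero K] (s : Finset K)
    (hs : Subfield.closure (↑s : Set K) = ⊤) :
    ∃ A : Subring K, Algebra.FiniteType ℤ A ∧ Algebra.Smooth ℤ A ∧ IsFractionRing A K := by
  classical
  obtain ⟨A, hA1, hA2, hA3⟩ : ∃ A : Subalgebra ℤ K, Algebra.FiniteType ℤ A ∧
      Algebra.Smooth ℤ A ∧ IsFractionRing A K := by
    apply exists_smooth_of_closure s hs
    intro _
    haveI : Algebra.EssFiniteType ℚ K := Algebra.EssFiniteType.of_comp ℤ ℚ K
    haveI : Algebra.FormallySmooth ℚ K := Algebra.FormallySmooth.of_perfectField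
    haveI : Algebra.FormallySmooth ℤ ℚ :=
      Algebra.FormallySmooth.of_isLocalization (nonZeroDivisors ℤ)
    exact Algebra.FormallySmooth.comp ℤ ℚ K
  let e0 : A ≃+* A.toSubring :=
    { toFun := fun x => ⟨x.1, x.2⟩
      invFun := fun x => ⟨x.1, x.2⟩
      left_inv := fun _ => rfl
      right_inv := fun _ => rfl
      map_mul' := fun _ _ => rfl
      map_add' := fun _ _ => rfl }
  let e : A ≃ₐ[ℤ] A.toSubring :=
    { e0 with
      commutes' := fun r => RingHom.congr_fun
        (Subsingleton.elim ((e0 : A →+* A.toSubring).comp (algebraMap ℤ A))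
          (algebraMap ℤ A.toSubring)) r }
  refine ⟨A.toSubring, hA1.equiv e, Algebra.Smooth.of_equiv e, ?_⟩
  haveI : FaithfulSMul A.toSubring K :=
    (faithfulSMul_iff_algebraMap_injective A.toSubring K).mpr (fun a b h => Subtype.ext h)
  refine IsFractionRing.of_field (R := A.toSubring) (K := K) (fun z => ?_)
  obtain ⟨⟨x, y⟩, hxy⟩ := IsLocalization.surj (nonZeroDivisors A) z
  have hy0 : algebraMap A K y ≠ 0 :=
    IsFractionRing.to_map_ne_zero_of_mem_nonZeroDivisors y.2
  refine ⟨⟨x.1, x.2⟩, ⟨y.1.1, y.1.2⟩, ?_⟩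
  rw [eq_div_iff]
  · exact hxy
  · exact hy0

end Groth.Agent.Lib.GenSmoothH4
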