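import Mathlib
import Groth.Prelude.Def_PolLaw2
import Groth.Agent.Lib.RelCH_helper1

/-!
# The image of a family of zero cycles is universally generizing over the base (helper1)
-/

set_option autoImplicit false
universe u
open scoped TensorProduct
open Module

namespace Groth.Agent.Lib.GenerizingH1

open Groth.Agent.Lib.PolLawKerH1 Groth.Agent.Lib.PolLawSurjH1 Groth.Agent.Lib.RelCHH1

variable {A : Type u} [CommRing A] {B : Type u} [CommRing B] [Algebra A B] {d : ℕ}

theorem mem_of_map_mem {R S F : Type*} [CommRing R] [CommRing S] [FunLike F R S]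
    [RingHomClass F R S] (f : F) (hf : Function.Surjective f) (I : Ideal R)
    (hk : RingHom.ker f ≤ I) {x : R} (hx : f x ∈ I.map f) : x ∈ I := by
  obtain ⟨y, hy, hxy⟩ := (Ideal.mem_map_iff_of_surjective f hf).1 hx
  have h1 : x - y ∈ RingHom.ker f := by
    rw [RingHom.mem_ker, map_sub, hxy, sub_self]
  have h2 := I.add_mem (hk h1) hy
  simpa using h2

theorem ker_mkₐ' {R : Type u} [CommRing R] [Algebra A R] (I : Ideal R) :
    RingHom.ker (Ideal.Quotient.mkₐ A I) = I := by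
  ext x
  rw [RingHom.mem_ker, Ideal.Quotient.mkₐ_eq_mk, Ideal.Quotient.eq_zero_iff_mem]

section TF

variable (F : PolLaw.MulLaw A B A d) (D : Type u) [CommRing D] [Algebra A D]

theorem mem_kerBC_of_mvPolynomial (β : D ⊗[A] B)
    (h : ∀ (n : ℕ) (x w : MvPolynomial (Fin n) D ⊗[A] B),
      F.law.toFun' (MvPolynomial (Fin n) D) (x + w * Algebra.TensorProduct.map
        (IsScalarTower.toAlgHom A D (MvPolynomial (Fin n) D)) (AlgHom.id A B) β) =
        F.law.toFun' (MvPolynomial (Fin n) D) x) :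
    β ∈ PolLaw.kerBC F.law D := by
  rw [mem_kerBC_iff]
  intro R _ _ _ _ x w
  obtain ⟨n, ψA, x₀, w₀, rfl, rfl⟩ := exists_lift₂ x w
  obtain ⟨ι, hι⟩ : ∃ ι : MvPolynomial (Fin n) A →ₐ[A] MvPolynomial (Fin n) D,
    ι = MvPolynomial.mapAlgHom (Algebra.ofId A D) := ⟨_, rfl⟩
  obtain ⟨ψD, hψD⟩ : ∃ ψD : MvPolynomial (Fin n) D →ₐ[D] R,
    ψD = MvPolynomial.aeval (fun i => ψA (MvPolynomial.X i)) := ⟨_, rfl⟩
  obtain ⟨ψ, hψ⟩ : ∃ ψ : MvPolynomial (Fin n) D →ₐ[A] R, ψ = ψD.restrictScalars A := ⟨_, rfl⟩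
  have hcomp : ψ.comp ι = ψA := by
    apply MvPolynomial.algHom_ext
    intro i
    rw [AlgHom.comp_apply, hι, MvPolynomial.mapAlgHom_apply, MvPolynomial.map_X, hψ,
      AlgHom.restrictScalars_apply, hψD, MvPolynomial.aeval_X]
  have htow : IsScalarTower.toAlgHom A D R =
      ψ.comp (IsScalarTower.toAlgHom A D (MvPolynomial (Fin n) D)) := by
    apply AlgHom.ext
    intro x
    rw [AlgHom.comp_apply, IsScalarTower.toAlgHom_apply, IsScalarTower.toAlgHom_apply, hψ,
      AlgHom.restrictScalars_apply, AlgHom.commutes]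
  rw [← hcomp, ← map_map_left, ← map_map_left, htow, ← map_map_left, ← map_mul, ← map_add,
    ← compat_map, ← compat_map, h]

variable [IsDomain D]

theorem mem_kerBC_of_smul_mem {a : D} (ha : a ≠ 0) {β : D ⊗[A] B}
    (hab : algebraMap D (D ⊗[A] B) a * β ∈ PolLaw.kerBC F.law D) :
    β ∈ PolLaw.kerBC F.law D := by
  apply mem_kerBC_of_mvPolynomial
  intro n x w
  obtain ⟨s, hs⟩ : ∃ s : MvPolynomial (Fin n) D, s = algebraMap D (MvPolynomial (Fin n) D) a :=
    ⟨_, rfl⟩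
  have hs0 : s ≠ 0 := by
    rw [hs, MvPolynomial.algebraMap_eq]
    intro h
    exact ha (MvPolynomial.C_eq_zero.1 h)
  have key := (mem_kerBC_iff F.law D _).1 hab (MvPolynomial (Fin n) D) (s • x) w
  have e1 : Algebra.TensorProduct.map (IsScalarTower.toAlgHom A D (MvPolynomial (Fin n) D))
      (AlgHom.id A B) (algebraMap D (D ⊗[A] B) a * β) =
      s • Algebra.TensorProduct.map (IsScalarTower.toAlgHom A D (MvPolynomial (Fin n) D))
        (AlgHom.id A B) β := by
    rw [map_mul, Algebra.TensorProduct.algebraMap_apply, Algebra.TensorProduct.map_tmul, map_one,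
      ← tmul_one_mul, hs]
    rfl
  rw [e1, mul_smul_comm, ← smul_add, F.homog, F.homog] at key
  have h2 := congr_arg (Algebra.TensorProduct.rid A (MvPolynomial (Fin n) D)
    (MvPolynomial (Fin n) D)) key
  rw [map_smul, map_smul, smul_eq_mul, smul_eq_mul] at h2
  exact (Algebra.TensorProduct.rid A (MvPolynomial (Fin n) D)
    (MvPolynomial (Fin n) D)).injective (mul_left_cancel₀ (pow_ne_zero d hs0) h2)

theorem comap_eq_bot_of_minimalPrimes {P : Ideal (D ⊗[A] B)}
    (hP : P ∈ (PolLaw.kerBC F.law D).minimalPrimes) :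
    P.comap (algebraMap D (D ⊗[A] B)) = ⊥ := by
  rw [eq_bot_iff]
  intro a ha
  rw [Ideal.mem_comap] at ha
  rw [Ideal.mem_bot]
  by_contra ha0
  obtain ⟨y, hy, hay⟩ := Ideal.exists_mul_mem_of_mem_minimalPrimes hP ha
  exact hy (mem_kerBC_of_smul_mem F D ha0 hay)

end TF

theorem hasGoingDown (F : PolLaw.MulLaw A B A d) (A' : Type u) [CommRing A'] [Algebra A A'] :
    Algebra.HasGoingDown A' (A' ⊗[A] PolLaw.image F.law) := by
  constructor
  intro p hp Q hQ hlt
  -- the maps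
  obtain ⟨σ, hσ⟩ : ∃ σ : A' ⊗[A] B →ₐ[A] A' ⊗[A] PolLaw.image F.law,
    σ = Algebra.TensorProduct.map (AlgHom.id A A') (Ideal.Quotient.mkₐ A (PolLaw.ker F.law)) :=
    ⟨_, rfl⟩
  have hσsurj : Function.Surjective σ := by
    rw [hσ]
    exact Algebra.TensorProduct.map_surjective _ _ (fun x => ⟨x, rfl⟩)
      (Ideal.Quotient.mkₐ_surjective A _)
  have hkerσ : RingHom.ker σ = (PolLaw.ker F.law).map
      (Algebra.TensorProduct.includeRight : B →ₐ[A] A' ⊗[A] B) := by
    rw [hσ, Algebra.TensorProduct.lTensor_ker _ (Ideal.Quotient.mkₐ_surjective A _), ker_mkₐ']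
  obtain ⟨πD, hπD⟩ : ∃ πD : A' ⊗[A] B →ₐ[A] (A' ⧸ p) ⊗[A] B,
    πD = Algebra.TensorProduct.map (Ideal.Quotient.mkₐ A p) (AlgHom.id A B) := ⟨_, rfl⟩
  have hπsurj : Function.Surjective πD := by
    rw [hπD]
    exact Algebra.TensorProduct.map_surjective _ _ (Ideal.Quotient.mkₐ_surjective A _)
      (fun x => ⟨x, rfl⟩)
  have hkerπ : RingHom.ker πD = p.map
      (Algebra.TensorProduct.includeLeft : A' →ₐ[A] A' ⊗[A] B) := by
    rw [hπD, Algebra.TensorProduct.rTensor_ker _ (Ideal.Quotient.mkₐ_surjective A _), ker_mkₐ']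
  have hσalg : ∀ a : A', σ (a ⊗ₜ[A] (1 : B)) = algebraMap A' (A' ⊗[A] PolLaw.image F.law) a := by
    intro a
    rw [hσ, Algebra.TensorProduct.map_tmul, map_one, Algebra.TensorProduct.algebraMap_apply]
    rfl
  -- the prime upstairs
  obtain ⟨Qt, hQt⟩ : ∃ Qt : Ideal (A' ⊗[A] B), Qt = Q.comap σ := ⟨_, rfl⟩
  haveI hQtprime : Qt.IsPrime := by
    rw [hQt]
    exact Ideal.comap_isPrime _ _
  have hkerσQ : RingHom.ker σ ≤ Qt := by
    rw [hQt]
    exact Ideal.ker_le_comap _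
  have hkerπQ : RingHom.ker πD ≤ Qt := by
    rw [hkerπ, Ideal.map_le_iff_le_comap]
    intro a ha
    rw [Ideal.mem_comap, hQt, Ideal.mem_comap, Algebra.TensorProduct.includeLeft_apply, hσalg]
    exact hlt.le ha
  obtain ⟨QD, hQD⟩ : ∃ QD : Ideal ((A' ⧸ p) ⊗[A] B), QD = Qt.map πD := ⟨_, rfl⟩
  haveI hQDprime : QD.IsPrime := by
    rw [hQD]
    exact Ideal.map_isPrime_of_surjective hπsurj hkerπQ
  -- kerBC ≤ QD
  have hextD : (PolLaw.ker F.law).map
      (Algebra.TensorProduct.includeRight : B →ₐ[A] (A' ⧸ p) ⊗[A] B) ≤ QD := by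
    rw [Ideal.map_le_iff_le_comap]
    intro b hb
    rw [Ideal.mem_comap, Algebra.TensorProduct.includeRight_apply, hQD]
    have h1 : πD ((1 : A') ⊗ₜ[A] b) = (1 : A' ⧸ p) ⊗ₜ[A] b := by
      rw [hπD, Algebra.TensorProduct.map_tmul, map_one]
      rfl
    rw [← h1]
    apply Ideal.mem_map_of_mem
    apply hkerσQ
    rw [hkerσ]
    exact Ideal.mem_map_of_mem _ hb
  have hBC : PolLaw.kerBC F.law (A' ⧸ p) ≤ QD := by
    refine Ideal.le_radical.trans ?_
    rw [main13697 F (A' ⧸ p)]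
    exact hQDprime.radical_le_iff.2 hextD
  obtain ⟨PD, hPDmin, hPDle⟩ := Ideal.exists_minimalPrimes_le hBC
  haveI hPDprime : PD.IsPrime := hPDmin.1.1
  have hPDbot := comap_eq_bot_of_minimalPrimes F (A' ⧸ p) hPDmin
  -- pull back
  obtain ⟨Pt, hPt⟩ : ∃ Pt : Ideal (A' ⊗[A] B), Pt = PD.comap πD := ⟨_, rfl⟩
  haveI hPtprime : Pt.IsPrime := by
    rw [hPt]
    exact Ideal.comap_isPrime _ _
  have hPtQt : Pt ≤ Qt := by
    intro x hx
    rw [hPt, Ideal.mem_comap] at hx
    apply mem_of_map_mem πD hπsurj Qt hkerπQ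
    rw [← hQD]
    exact hPDle hx
  have hkerσP : RingHom.ker σ ≤ Pt := by
    rw [hkerσ, Ideal.map_le_iff_le_comap]
    intro b hb
    rw [Ideal.mem_comap, hPt, Ideal.mem_comap, Algebra.TensorProduct.includeRight_apply, hπD,
      Algebra.TensorProduct.map_tmul, map_one]
    apply hPDmin.1.2
    apply map_ker_le_kerBC F.law (A' ⧸ p)
    exact Ideal.mem_map_of_mem _ hb
  refine ⟨Pt.map σ, ?_, Ideal.map_isPrime_of_surjective hσsurj hkerσP, ⟨?_⟩⟩
  · have h1 : Qt.map σ = Q := by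
      rw [hQt]
      exact Ideal.map_comap_of_surjective σ hσsurj Q
    rw [← h1]
    exact Ideal.map_mono hPtQt
  · ext a
    rw [Ideal.under, Ideal.mem_comap, ← hσalg]
    constructor
    · intro ha
      apply Ideal.mem_map_of_mem
      rw [hPt, Ideal.mem_comap, hπD, Algebra.TensorProduct.map_tmul, map_one]
      have h2 : Ideal.Quotient.mkₐ A p a = 0 := by
        rw [Ideal.Quotient.mkₐ_eq_mk, Ideal.Quotient.eq_zero_iff_mem]
        exact ha
      rw [h2, TensorProduct.zero_tmul]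
      exact PD.zero_mem
    · intro ha
      have h3 := mem_of_map_mem σ hσsurj Pt hkerσP ha
      rw [hPt, Ideal.mem_comap, hπD, Algebra.TensorProduct.map_tmul, map_one] at h3
      have h4 : Ideal.Quotient.mkₐ A p a ∈ PD.comap (algebraMap (A' ⧸ p) ((A' ⧸ p) ⊗[A] B)) := by
        rw [Ideal.mem_comap, Algebra.TensorProduct.algebraMap_apply]
        exact h3
      rw [hPDbot, Ideal.mem_bot, Ideal.Quotient.mkₐ_eq_mk, Ideal.Quotient.eq_zero_iff_mem] at h4
      exact h4

theorem main13704 (F : PolLaw.MulLaw A B A d) (A' : Type u) [CommRing A'] [Algebra A A'] :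
    GeneralizingMap (PrimeSpectrum.comap (algebraMap A' (A' ⊗[A] PolLaw.image F.law))) := by
  rw [← Algebra.HasGoingDown.iff_generalizingMap_primeSpectrumComap]
  exact hasGoingDown F A'

end Groth.Agent.Lib.GenerizingH1
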