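import Groth.Agent.Lib.GeomBC_helper4
import Mathlib.AlgebraicGeometry.ResidueField

/-!
# Geometric properties descend along a surjective base change (helper4)

If `g : Y' ⟶ Y` is surjective and the base change of `f : X ⟶ Y` along `g` is geometrically `P`,
then so is `f`, for `P` descending along flat surjective morphisms.
-/

set_option autoImplicit false
set_option linter.style.haveILetI false
universe u

open CategoryTheory AlgebraicGeometry CategoryTheory.Limits

namespace Groth.Agent.Lib.GeomBC2_helper4

open Groth.Agent.Lib.GeomBC_helper4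

theorem geometrically_of_surjective_baseChange {P : ObjectProperty Scheme.{u}}
    (hP : DescendsFlatSurj P) {X Y Y' : Scheme.{u}} (f : X ⟶ Y) (g : Y' ⟶ Y) [Surjective g]
    (h : geometrically P (pullback.snd f g)) : geometrically P f := by
  intro K _ y Z fst snd hZ
  -- a point of `Spec K ×_Y Y'`
  obtain ⟨y', hy'⟩ := g.surjective (y (default : ↥(Spec (CommRingCat.of K))))
  obtain ⟨t, -, -⟩ := Scheme.Pullback.exists_preimage_pullback (f := y) (g := g)
    (default : ↥(Spec (CommRingCat.of K))) y' hy'.symm
  let T := pullback y g
  let M : Type u := T.residueField t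
  let a : Spec (CommRingCat.of M) ⟶ Spec (CommRingCat.of K) :=
    T.fromSpecResidueField t ≫ pullback.fst y g
  let b : Spec (CommRingCat.of M) ⟶ Y' := T.fromSpecResidueField t ≫ pullback.snd y g
  have hab : a ≫ y = b ≫ g := by
    simp only [a, b, Category.assoc, pullback.condition]
  let ZM := pullback snd a
  -- big rectangle
  have hbig : IsPullback (pullback.fst snd a ≫ fst) (pullback.snd snd a) f (a ≫ y) :=
    (IsPullback.of_hasPullback snd a).paste_horiz hZ
  rw [hab] at hbig
  have hR : IsPullback (pullback.fst f g) (pullback.snd f g) f g := IsPullback.of_hasPullback f g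
  let s : ZM ⟶ pullback f g := hR.lift (pullback.fst snd a ≫ fst) (pullback.snd snd a ≫ b)
    (hbig.w.trans (Category.assoc _ _ _).symm)
  have hs1 : s ≫ pullback.fst f g = pullback.fst snd a ≫ fst := hR.lift_fst _ _ _
  have hs2 : s ≫ pullback.snd f g = pullback.snd snd a ≫ b := hR.lift_snd _ _ _
  have hleft : IsPullback s (pullback.snd snd a) (pullback.snd f g) b := by
    refine IsPullback.of_right ?_ hs2 hR
    rw [hs1]
    exact hbig
  have hPZM : P ZM := h b s _ hleft
  haveI : Flat a := by
    obtain ⟨φ, hφ⟩ := Spec.map_surjective a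
    rw [← hφ, Flat.SpecMap_iff]
    exact RingHom.Flat.of_isField (Field.toIsField K) _
  haveI : Surjective a := ⟨Function.surjective_to_subsingleton _⟩
  exact hP (pullback.fst snd a) hPZM

end Groth.Agent.Lib.GeomBC2_helper4
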