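import Mathlib
import Groth.Prelude.Def_Curv2
import Groth.Prelude.Def_FDesc
import Groth.Agent.Lib.GeomConnPt2_helper4

set_option autoImplicit false
set_option linter.style.haveILetI false
set_option linter.unusedSectionVars false
universe u
open scoped TensorProduct
open CategoryTheory CategoryTheory.Limits AlgebraicGeometry

namespace Groth.Agent.Lib.GeomConnGalH4

local notation:max "sm[" k ", " K "]" => Spec.map (CommRingCat.ofHom (algebraMap k K))

/-- For `K/k` algebraic: if `T_K` is connected, `T → X` a `k`-morphism and `X` connected, then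
`X_K` is connected. -/
theorem connectedSpace_bc_of_map (k : Type u) [Field k] (K : Type u) [Field K] [Algebra k K]
    [Algebra.IsIntegral k K]
    (T X : Scheme.{u}) [T.Over (Spec (CommRingCat.of k))] [X.Over (Spec (CommRingCat.of k))]
    (f : T ⟶ X) [f.IsOver (Spec (CommRingCat.of k))]
    [hT : ConnectedSpace ↥(Curv2.bc k T K)] [ConnectedSpace ↥X] :
    ConnectedSpace ↥(Curv2.bc k X K) := by
  have e : f ≫ (X ↘ Spec (CommRingCat.of k)) = T ↘ Spec (CommRingCat.of k) := comp_over f _
  have hT' : ConnectedSpace ↥(pullback (f ≫ (X ↘ Spec (CommRingCat.of k))) sm[k, K]) := by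
    rw [e]; exact hT
  haveI := hT'
  obtain ⟨G, hG1, hG⟩ := GeomConnPt2H4.exists_G f (X ↘ Spec (CommRingCat.of k)) K
  obtain ⟨t0⟩ : Nonempty ↥(pullback (f ≫ (X ↘ Spec (CommRingCat.of k))) sm[k, K]) :=
    inferInstance
  exact GeomConnPtH4.connectedSpace_bc_of_fibre k X K
    (f ((pullback.fst (f ≫ (X ↘ Spec (CommRingCat.of k))) sm[k, K]) t0)) (Set.range G)
    (isPreconnected_range G.continuous) (hG _)

theorem main7592 (k : Type u) [Field k] (K : Type u) [Field K] [Algebra k K] [IsGalois k K]
    (T X : Scheme.{u}) [T.Over (Spec (CommRingCat.of k))] [X.Over (Spec (CommRingCat.of k))]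
    (f : T ⟶ X) [f.IsOver (Spec (CommRingCat.of k))]
    [ConnectedSpace ↥(Curv2.bc k T K)] (hX : ¬ ConnectedSpace ↥(Curv2.bc k X K)) :
    ¬ ConnectedSpace ↥X := by
  intro hXc
  haveI := hXc
  haveI : Algebra.IsSeparable k K := inferInstance
  haveI : Algebra.IsAlgebraic k K := inferInstance
  haveI : Algebra.IsIntegral k K := inferInstance
  exact hX (connectedSpace_bc_of_map k K T X f)

end Groth.Agent.Lib.GeomConnGalH4
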