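import Mathlib
import Groth.Agent.Lib.GeomConnE_helper8
import Groth.Agent.Lib.EtResExt_helper8
import Groth.Agent.Lib.GeomConnFin_helper4

/-!
# Geometric connectedness of a fibre via étale base change (S1355), helper8
APPEND-ONLY once landed.
-/

set_option autoImplicit false
set_option linter.style.haveILetI false
universe u
open CategoryTheory CategoryTheory.Limits AlgebraicGeometry

namespace GeomConnH8

/-- S1355 -/
theorem main1355 {X S : Scheme.{u}} (f : X ⟶ S) (s : S) :
    GeometricallyConnected (f.fiberToSpecResidueField s) ↔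
      ∀ (U : Scheme.{u}) (g : U ⟶ S) (u : U), Etale g → g u = s →
        ConnectedSpace ↑((pullback.snd f g).fiber u) := by
  constructor
  · intro h U g u _ hgu
    subst hgu
    have key : ∀ (L : Type u) [Field L] (t : Spec (CommRingCat.of L) ⟶ U),
        t (IsLocalRing.closedPoint L) = u → ConnectedSpace ↥(pullback f (t ≫ g)) := by
      intro L _ t ht
      apply pullback_of_geometrically_fiber f (ConnectedSpace ·)
      rw [Scheme.Hom.comp_apply, ht]
      exact h.geometrically_connectedSpace
    have h1 := key (U.residueField u) (U.fromSpecResidueField u)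
      (Scheme.fromSpecResidueField_apply _ _)
    exact (pullbackLeftPullbackSndIso f g
      (U.fromSpecResidueField u)).hom.homeomorph.connectedSpace_iff.mpr h1
  · intro h
    refine Groth.Agent.Lib.GeomConnFinH4.main2523 (k := S.residueField s)
      (f.fiberToSpecResidueField s) ?_
    intro K _ _ _ _
    obtain ⟨U, g, tK, hg, hcomp, hbij⟩ := EtResExtH8.exists_etale_nbhd_of_finite_separable S s K
    obtain ⟨u, ψ, hfac, hbij'⟩ : ∃ (u : U) (ψ : U.residueField u ⟶ CommRingCat.of K),
        Spec.map ψ ≫ U.fromSpecResidueField u = tK ∧ Function.Bijective ψ.hom :=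
      ⟨_, _, (Scheme.SpecToEquivOfField K U).symm_apply_apply tK, hbij⟩
    subst hfac
    have hgu : g u = s := by
      have h0 : (Spec.map ψ ≫ U.fromSpecResidueField u) (IsLocalRing.closedPoint K) = u := by
        rw [Scheme.Hom.comp_apply, Scheme.fromSpecResidueField_apply]
      rw [← h0, ← Scheme.Hom.comp_apply, hcomp, Scheme.Hom.comp_apply,
        Scheme.fromSpecResidueField_apply]
    have h1 := h U g u hg hgu
    have h2 : ConnectedSpace ↥(pullback f (U.fromSpecResidueField u ≫ g)) :=
      (pullbackLeftPullbackSndIso f g
        (U.fromSpecResidueField u)).hom.homeomorph.connectedSpace_iff.mp h1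
    haveI : IsIso ψ := (ConcreteCategory.isIso_iff_bijective ψ).mpr hbij'
    have h3 : ConnectedSpace ↥(pullback f ((Spec.map ψ ≫ U.fromSpecResidueField u) ≫ g)) := by
      let r : Spec (U.residueField u) ⟶ Spec (CommRingCat.of K) := Spec.map (inv ψ)
      apply connectedSpace_pullback_of_lift (K' := U.residueField u) f
        ((Spec.map ψ ≫ U.fromSpecResidueField u) ≫ g) r
      have h4 : r ≫ (Spec.map ψ ≫ U.fromSpecResidueField u) ≫ g =
          U.fromSpecResidueField u ≫ g := by
        show Spec.map (inv ψ) ≫ (Spec.map ψ ≫ U.fromSpecResidueField u) ≫ g = _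
        rw [← Category.assoc, ← Category.assoc, ← Spec.map_comp, IsIso.hom_inv_id, Spec.map_id,
          Category.id_comp]
      rw [h4]
      exact h2
    rw [hcomp] at h3
    exact (pullbackLeftPullbackSndIso f (S.fromSpecResidueField s)
      (Spec.map (CommRingCat.ofHom (algebraMap (S.residueField s)
        K)))).hom.homeomorph.connectedSpace_iff.mpr h3

end GeomConnH8
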