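import Mathlib
import Groth.Agent.Lib.KosH1_helper8
import Groth.Agent.Lib.KosH2_helper8
import Groth.Agent.Lib.CIInv_helper8
import Groth.Agent.Lib.CIInvB_helper8
import Groth.Agent.Lib.AnUnram_helper3

/-!
# Geometric depth under flat local homomorphisms with `m_A A' = m_A'` (helper1)
APPEND-ONLY once landed.

`Gen x m` (first Koszul homology of the family `x` generated by `≤ m` classes, helper8) ascends
along flat maps and descends along faithfully flat maps to a local ring.
-/

set_option autoImplicit false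
set_option maxHeartbeats 400000
universe u

namespace Groth.Agent.Lib.GeomDepthFlatH1

open IsLocalRing TensorProduct Groth.Agent.Lib.KosH1H8 Groth.Agent.Lib.CIInvH8

section flat
variable {C C' : Type u} [CommRing C] [CommRing C'] [Algebra C C'] {ι : Type}

/-- Coordinatewise base change `C^ι → C'^ι`. -/
def PhiL : (ι → C) →ₗ[C] (ι → C') where
  toFun a := fun t => algebraMap C C' (a t)
  map_add' a b := by funext t; simp
  map_smul' c a := by funext t; simp [Algebra.smul_def]

@[simp] theorem PhiL_apply (a : ι → C) :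
    (PhiL a : ι → C') = fun t => algebraMap C C' (a t) := rfl

theorem PhiL_mem_Z [Fintype ι] [DecidableEq ι] {x : ι → C} {a : ι → C} (ha : a ∈ Z x) :
    (PhiL a : ι → C') ∈ Z (fun t => algebraMap C C' (x t)) := by
  rw [mem_Z] at ha ⊢
  simp only [PhiL_apply, ← map_mul, ← map_sum, ha, map_zero]

theorem PhiL_span_subset (T : Set (ι → C)) {b : ι → C} (hb : b ∈ Submodule.span C T) :
    (PhiL b : ι → C') ∈ Submodule.span C' ((PhiL : (ι → C) →ₗ[C] (ι → C')) '' T) := by
  induction hb using Submodule.span_induction with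
  | mem b h => exact Submodule.subset_span ⟨b, h, rfl⟩
  | zero => rw [map_zero]; exact Submodule.zero_mem _
  | add a b _ _ ha hb => rw [map_add]; exact Submodule.add_mem _ ha hb
  | smul r a _ ha =>
    have : (PhiL (r • a) : ι → C') = algebraMap C C' r • (PhiL a : ι → C') := by
      funext t
      simp [Algebra.smul_def]
    rw [this]
    exact Submodule.smul_mem _ _ ha

theorem Z_map_le [Fintype ι] [DecidableEq ι] [Module.Flat C C'] (x : ι → C) :
    Z (fun t => algebraMap C C' (x t)) ≤
      Submodule.span C' ((PhiL : (ι → C) →ₗ[C] (ι → C')) '' (Z x : Set (ι → C))) := by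
  intro a' ha'
  rw [mem_Z] at ha'
  have h0 : ∑ i, x i • a' i = 0 := by
    rw [← ha']
    refine Finset.sum_congr rfl fun i _ => ?_
    rw [Algebra.smul_def, mul_comm]
  obtain ⟨k, c, y, hy, hc⟩ :=
    Module.Flat.isTrivialRelation_of_sum_smul_eq_zero (R := C) (M := C') (f := x) (x := a') h0
  have hmem : ∀ j, (fun i => c i j) ∈ Z x := by
    intro j
    rw [mem_Z, ← hc j]
    exact Finset.sum_congr rfl fun i _ => mul_comm _ _
  have hrep : a' = ∑ j, y j • (PhiL (fun i => c i j) : ι → C') := by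
    funext i
    rw [hy i, Finset.sum_apply]
    refine Finset.sum_congr rfl fun j _ => ?_
    simp [Algebra.smul_def, mul_comm]
  rw [hrep]
  exact Submodule.sum_mem _ fun j _ =>
    Submodule.smul_mem _ _ (Submodule.subset_span ⟨_, hmem j, rfl⟩)

/-- Ascent of `Gen` along a flat ring map. -/
theorem gen_map_of_flat [Fintype ι] [DecidableEq ι] [Module.Flat C C'] {x : ι → C} {m : ℕ}
    (h : Gen x m) : Gen (fun t => algebraMap C C' (x t)) m := by
  classical
  obtain ⟨s, hs, h1, h2⟩ := h
  refine ⟨s.image (PhiL : (ι → C) →ₗ[C] (ι → C')), Finset.card_image_le.trans hs, ?_, ?_⟩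
  · intro a' ha'
    rw [Finset.coe_image] at ha'
    obtain ⟨a, ha, rfl⟩ := ha'
    exact PhiL_mem_Z (h1 ha)
  · refine (Z_map_le x).trans (Submodule.span_le.2 ?_)
    rintro _ ⟨b, hb, rfl⟩
    obtain ⟨b1, hb1, b2, hb2, rfl⟩ := Submodule.mem_sup.1 (h2 hb)
    rw [map_add]
    refine Submodule.add_mem _ (Submodule.mem_sup_left ?_) (Submodule.mem_sup_right ?_)
    · exact comp_mem_B (algebraMap C C') x hb1
    · rw [Finset.coe_image]
      exact PhiL_span_subset _ hb2

/-- Faithfully flat descent of membership in a submodule of `C^ι`. -/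
theorem mem_of_PhiL_mem [Fintype ι] [DecidableEq ι] [Module.FaithfullyFlat C C']
    (N : Submodule C (ι → C)) (h : ι → C)
    (hh : (PhiL h : ι → C') ∈
      Submodule.span C' ((PhiL : (ι → C) →ₗ[C] (ι → C')) '' (N : Set (ι → C)))) :
    h ∈ N := by
  let Ψ : (ι → C') →ₗ[C'] C' ⊗[C] ((ι → C) ⧸ N) :=
    Fintype.linearCombination C' (fun i : ι => (1 : C') ⊗ₜ[C] N.mkQ (Pi.single i 1))
  have hΨ : ∀ b : ι → C, Ψ (PhiL b) = (1 : C') ⊗ₜ[C] N.mkQ b := by
    intro b
    have hb : b = ∑ i, b i • (Pi.single i 1 : ι → C) := by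
      funext t
      simp [Finset.sum_apply, Pi.single_apply]
    have key : N.mkQ b = ∑ i, b i • N.mkQ (Pi.single i 1) := by
      conv_lhs => rw [hb]
      simp only [map_sum, map_smul]
    rw [key, TensorProduct.tmul_sum]
    simp only [Ψ, Fintype.linearCombination_apply, PhiL_apply]
    refine Finset.sum_congr rfl fun i _ => ?_
    rw [TensorProduct.tmul_smul, TensorProduct.smul_tmul', TensorProduct.smul_tmul',
      smul_eq_mul, mul_one, Algebra.smul_def, mul_one]
  have hker : Submodule.span C' ((PhiL : (ι → C) →ₗ[C] (ι → C')) '' (N : Set (ι → C))) ≤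
      LinearMap.ker Ψ := by
    refine Submodule.span_le.2 ?_
    rintro _ ⟨b, hb, rfl⟩
    rw [SetLike.mem_coe, LinearMap.mem_ker, hΨ, Submodule.mkQ_apply,
      (Submodule.Quotient.mk_eq_zero N).2 hb, TensorProduct.tmul_zero]
  have h0 := hker hh
  rw [LinearMap.mem_ker, hΨ] at h0
  have hinj := Module.FaithfullyFlat.tensorProduct_mk_injective (A := C) (B := C') ((ι → C) ⧸ N)
  have h1 : N.mkQ h = 0 := hinj (by simpa using h0)
  exact (Submodule.Quotient.mk_eq_zero N).1 h1

/-- Descent of `Gen` along a faithfully flat map to a local ring. -/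
theorem gen_of_map [Fintype ι] [DecidableEq ι] [Module.FaithfullyFlat C C'] [IsLocalRing C']
    [IsNoetherianRing C] {x : ι → C} {m : ℕ}
    (h : Gen (fun t => algebraMap C C' (x t)) m) : Gen x m := by
  classical
  obtain ⟨s', hs', h1', h2'⟩ := h
  set x' : ι → C' := fun t => algebraMap C C' (x t) with hx'
  obtain ⟨S, hS⟩ : (Z x).FG := IsNoetherian.noetherian _
  have hSsub : (S : Set (ι → C)) ⊆ Z x := by
    rw [← hS]; exact Submodule.subset_span
  have hZ' : Z x' =
      Submodule.span C' ((PhiL : (ι → C) →ₗ[C] (ι → C')) '' (S : Set (ι → C))) := by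
    apply le_antisymm
    · refine (Z_map_le x).trans (Submodule.span_le.2 ?_)
      rintro _ ⟨b, hb, rfl⟩
      rw [SetLike.mem_coe, ← hS] at hb
      exact PhiL_span_subset _ hb
    · refine Submodule.span_le.2 ?_
      rintro _ ⟨b, hb, rfl⟩
      exact PhiL_mem_Z (hSsub hb)
  have hZeq : Z x' = B x' ⊔ Submodule.span C' (s' : Set (ι → C')) :=
    le_antisymm h2' (sup_le (B_le_Z x') (Submodule.span_le.2 h1'))
  let Nq : Submodule C' ((ι → C') ⧸ B x') := (Z x').map (B x').mkQ
  have hNq1 : Nq = Submodule.span C' ((B x').mkQ '' (s' : Set (ι → C'))) := by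
    show (Z x').map (B x').mkQ = _
    rw [hZeq, Submodule.map_sup, Submodule.mkQ_map_self, bot_sup_eq, Submodule.map_span]
  have hNqfin : ((B x').mkQ '' (s' : Set (ι → C'))).Finite := (s'.finite_toSet).image _
  have fgNq : Nq.FG := by
    rw [hNq1]; exact Submodule.fg_span hNqfin
  have hNqle : Nq.spanFinrank ≤ m := by
    rw [hNq1]
    refine (Submodule.spanFinrank_span_le_ncard_of_finite hNqfin).trans ?_
    refine (Set.ncard_image_le s'.finite_toSet).trans ?_
    rw [Set.ncard_coe_finset]; exact hs'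
  have hNq2 : Nq = Submodule.span C'
      (Set.range fun a : S => (B x').mkQ (PhiL (a : ι → C) : ι → C')) := by
    show (Z x').map (B x').mkQ = _
    rw [hZ', Submodule.map_span]
    congr 1
    ext q
    constructor
    · rintro ⟨_, ⟨a, ha, rfl⟩, rfl⟩
      exact ⟨⟨a, Finset.mem_coe.1 ha⟩, rfl⟩
    · rintro ⟨a, rfl⟩
      exact ⟨_, ⟨a.1, Finset.mem_coe.2 a.2, rfl⟩, rfl⟩
  let v : S → Nq := fun a =>
    ⟨(B x').mkQ (PhiL (a : ι → C) : ι → C'),
      Submodule.mem_map_of_mem (PhiL_mem_Z (hSsub (Finset.mem_coe.2 a.2)))⟩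
  have hv : Submodule.span C' (Set.range v) = ⊤ := by
    apply Submodule.map_injective_of_injective Nq.injective_subtype
    rw [Submodule.map_span, Submodule.map_top, Submodule.range_subtype, ← Set.range_comp]
    exact hNq2.symm
  obtain ⟨κ, _, a, hcard, hspan⟩ := exists_sub_family Nq fgNq v hv
  refine ⟨Finset.univ.image (fun k : κ => ((a k : S) : ι → C)), ?_, ?_, ?_⟩
  · exact (Finset.card_image_le).trans (by rw [Finset.card_univ, hcard]; exact hNqle)
  · intro b hb
    rw [Finset.coe_image] at hb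
    obtain ⟨k, -, rfl⟩ := hb
    exact hSsub (Finset.mem_coe.2 (a k).2)
  · intro h hh
    apply mem_of_PhiL_mem (C' := C')
    set N : Submodule C (ι → C) := B x ⊔ Submodule.span C
      ((Finset.univ.image (fun k : κ => ((a k : S) : ι → C)) : Finset (ι → C)) :
        Set (ι → C)) with hN
    have hq : (B x').mkQ (PhiL h : ι → C') ∈ Nq := Submodule.mem_map_of_mem (PhiL_mem_Z hh)
    have h3 : (⟨_, hq⟩ : Nq) ∈ Submodule.span C' (Set.range (v ∘ a)) := by
      rw [hspan]; exact Submodule.mem_top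
    have h4 := Submodule.mem_map_of_mem (f := Nq.subtype) h3
    rw [Submodule.map_span, ← Set.range_comp] at h4
    have h5 : Set.range (⇑Nq.subtype ∘ v ∘ a) = (B x').mkQ ''
        (Set.range fun k : κ => (PhiL ((a k : S) : ι → C) : ι → C')) := by
      rw [← Set.range_comp]; rfl
    rw [h5, ← Submodule.map_span] at h4
    obtain ⟨t, ht, hteq⟩ := h4
    have hsub : (PhiL h : ι → C') - t ∈ B x' := by
      rw [← Submodule.Quotient.mk_eq_zero, Submodule.Quotient.mk_sub]
      exact sub_eq_zero.2 hteq.symm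
    have hBle : B x' ≤
        Submodule.span C' ((PhiL : (ι → C) →ₗ[C] (ι → C')) '' (N : Set (ι → C))) := by
      refine Submodule.span_le.2 ?_
      rintro _ ⟨p, rfl⟩
      refine Submodule.subset_span
        ⟨kos x p.1 p.2, Submodule.mem_sup_left (kos_mem_B x p.1 p.2), ?_⟩
      exact comp_kos (algebraMap C C') x p.1 p.2
    have htle : t ∈
        Submodule.span C' ((PhiL : (ι → C) →ₗ[C] (ι → C')) '' (N : Set (ι → C))) := by
      refine Submodule.span_mono ?_ ht
      rintro _ ⟨k, rfl⟩
      exact ⟨_, Submodule.mem_sup_right (Submodule.subset_span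
        (Finset.mem_coe.2 (Finset.mem_image_of_mem _ (Finset.mem_univ k)))), rfl⟩
    have := Submodule.add_mem _ (hBle hsub) htle
    rwa [sub_add_cancel] at this

theorem gen_iff [Fintype ι] [DecidableEq ι] [Module.FaithfullyFlat C C'] [IsLocalRing C']
    [IsNoetherianRing C] (x : ι → C) (m : ℕ) :
    Gen x m ↔ Gen (fun t => algebraMap C C' (x t)) m :=
  ⟨gen_map_of_flat, gen_of_map⟩

end flat

section main

theorem span_range_map {R S : Type*} [CommRing R] [CommRing S] (f : R →+* S) {n : ℕ}
    (z : Fin n → R) :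
    Ideal.span (Set.range fun i => f (z i)) = (Ideal.span (Set.range z)).map f := by
  rw [Ideal.map_span]
  congr 1
  ext a
  simp

theorem exists_gens (A : Type u) [CommRing A] [IsLocalRing A] [IsNoetherianRing A] :
    ∃ (n : ℕ) (z : Fin n → A), Ideal.span (Set.range z) = maximalIdeal A := by
  classical
  obtain ⟨S, hS⟩ := (IsNoetherian.noetherian (maximalIdeal A) : (maximalIdeal A).FG)
  refine ⟨S.card, fun i => ((S.equivFin.symm i : S) : A), Eq.trans ?_ hS⟩
  show Submodule.span A _ = Submodule.span A _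
  congr 1
  ext a
  constructor
  · rintro ⟨i, rfl⟩
    exact Finset.mem_coe.2 (S.equivFin.symm i).2
  · intro ha
    exact ⟨S.equivFin ⟨a, Finset.mem_coe.1 ha⟩, by simp⟩

/-- One inequality between the invariants `μ(ker) - dim` of two presentations whose targets
have comparable first Koszul homology. -/
theorem pres_le {C₁ C₂ B₁ B₂ : Type u} [CommRing C₁] [CommRing C₂] [CommRing B₁] [CommRing B₂]
    [IsLocalRing C₁] [IsNoetherianRing C₁] [IsLocalRing C₂] [IsNoetherianRing C₂]
    [IsRegularLocalRing B₁] [IsRegularLocalRing B₂]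
    (g₁ : B₁ →+* C₁) (hg₁ : Function.Surjective g₁) (g₂ : B₂ →+* C₂)
    (hg₂ : Function.Surjective g₂)
    {n : ℕ} (z₁ : Fin n → C₁) (z₂ : Fin n → C₂)
    (hz₁ : Ideal.span (Set.range z₁) = maximalIdeal C₁)
    (hz₂ : Ideal.span (Set.range z₂) = maximalIdeal C₂)
    (H : ∀ m, Gen z₁ m → Gen z₂ m) (e₁ e₂ : ℕ)
    (he₁ : ringKrullDim B₁ = (e₁ : WithBot ℕ∞)) (he₂ : ringKrullDim B₂ = (e₂ : WithBot ℕ∞)) :
    ((RingHom.ker g₂).spanFinrank : ℤ) - e₂ ≤ ((RingHom.ker g₁).spanFinrank : ℤ) - e₁ := by
  classical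
  obtain ⟨xs, hxs, hxlen, hxreg⟩ := exists_rsop B₁
  obtain ⟨ys, hys, hylen, hyreg⟩ := exists_rsop B₂
  have hZBx := Z_le_B_of_isWeaklyRegular xs hxreg
  have hxspan : Ideal.span (Set.range fun i : Fin xs.length => xs[i]) = maximalIdeal B₁ := by
    rw [span_range_getElem, hxs]
  have hyspan : Ideal.span (Set.range fun i : Fin ys.length => ys[i]) = maximalIdeal B₂ := by
    rw [span_range_getElem, hys]
  have hkg₁ : RingHom.ker g₁ ≤ maximalIdeal B₁ :=
    IsLocalRing.le_maximalIdeal (RingHom.ker_ne_top g₁)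
  have hkg₂ : RingHom.ker g₂ ≤ maximalIdeal B₂ :=
    IsLocalRing.le_maximalIdeal (RingHom.ker_ne_top g₂)
  have hgx : Ideal.span (Set.range fun i : Fin xs.length => g₁ xs[i]) = maximalIdeal C₁ := by
    have h1 := map_maximalIdeal_of_surjective g₁ hg₁
    rw [← h1, ← hxspan, Ideal.map_span]
    congr 1
    ext a
    simp
  have hgy : Ideal.span (Set.range fun i : Fin ys.length => g₂ ys[i]) = maximalIdeal C₂ := by
    have h1 := map_maximalIdeal_of_surjective g₂ hg₂
    rw [← h1, ← hyspan, Ideal.map_span]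
    congr 1
    ext a
    simp
  -- a minimal generating list of `ker g₁`
  obtain ⟨s, hscard, hsspan⟩ := Submodule.FG.exists_span_finset_card_eq_spanFinrank
    (IsNoetherian.noetherian (RingHom.ker g₁))
  have hl : Ideal.ofList s.toList = RingHom.ker g₁ := by
    rw [← hsspan, Ideal.ofList]
    congr 1
    ext r
    simp
  have hlen : s.toList.length = (RingHom.ker g₁).spanFinrank := by
    rw [Finset.length_toList, hscard]
  have hG1 : Gen (fun i : Fin xs.length => g₁ xs[i]) s.toList.length :=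
    Gen.of_ker g₁ hg₁ (fun i : Fin xs.length => xs[i]) hZBx s.toList hl
      (by rw [hxspan]; exact hkg₁)
  obtain ⟨hle, hGz⟩ := Gen.transfer z₁ (fun i : Fin xs.length => g₁ xs[i]) hz₁ hgx hG1
  have hGz₂ := H _ hGz
  obtain ⟨hle2, hGy⟩ := Gen.transfer (fun i : Fin ys.length => g₂ ys[i]) z₂ hgy hz₂ hGz₂
  obtain ⟨l', hl'len, hl'ker⟩ :=
    Gen.ker_fg g₂ hg₂ (fun i : Fin ys.length => ys[i]) hyspan hkg₂ hGy
  have hμ₂ : (RingHom.ker g₂).spanFinrank ≤ l'.length := by
    rw [← hl'ker, Ideal.ofList]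
    refine (Submodule.spanFinrank_span_le_ncard_of_finite (List.finite_toSet l')).trans ?_
    have : {r | r ∈ l'} = (l'.toFinset : Set _) := by
      ext r
      simp
    rw [this, Set.ncard_coe_finset]
    exact List.toFinset_card_le l'
  have hx1 : xs.length = e₁ := by
    have := hxlen.trans he₁
    exact_mod_cast this
  have hy1 : ys.length = e₂ := by
    have := hylen.trans he₂
    exact_mod_cast this
  omega

theorem main5179 (A A' : Type u) [CommRing A] [IsLocalRing A] [IsNoetherianRing A] [CommRing A']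
    [IsLocalRing A'] [IsNoetherianRing A'] [Algebra A A'] [IsLocalHom (algebraMap A A')]
    [Module.Flat A A']
    (hmax : Ideal.map (algebraMap A A') (maximalIdeal A) = maximalIdeal A')
    (B B' : Type u) [CommRing B] [IsRegularLocalRing B] [CommRing B'] [IsRegularLocalRing B']
    (I : Ideal B) (I' : Ideal B')
    (hpres : Nonempty (AdicCompletion (maximalIdeal A) A ≃+* B ⧸ I))
    (hpres' : Nonempty (AdicCompletion (maximalIdeal A') A' ≃+* B' ⧸ I'))
    (e e' : ℕ) (he : ringKrullDim B = (e : WithBot ℕ∞))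
    (he' : ringKrullDim B' = (e' : WithBot ℕ∞)) :
    (e : ℤ) - (I.spanFinrank : ℤ) = (e' : ℤ) - (I'.spanFinrank : ℤ) := by
  classical
  obtain ⟨hloc, hnoeth, -, hff, -, hm1⟩ := Groth.Agent.Lib.AnUnramH3.completion_facts A
  obtain ⟨hloc', hnoeth', -, hff', -, hm1'⟩ := Groth.Agent.Lib.AnUnramH3.completion_facts A'
  haveI := hloc
  haveI := hnoeth
  haveI := hff
  haveI := hloc'
  haveI := hnoeth'
  haveI := hff'
  haveI : Module.FaithfullyFlat A A' := Module.FaithfullyFlat.of_flat_of_isLocalHom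
  obtain ⟨e₀⟩ := hpres
  obtain ⟨e₀'⟩ := hpres'
  -- presentations
  have hg : Function.Surjective (e₀.symm.toRingHom.comp (Ideal.Quotient.mk I)) :=
    e₀.symm.surjective.comp Ideal.Quotient.mk_surjective
  have hkg : RingHom.ker (e₀.symm.toRingHom.comp (Ideal.Quotient.mk I)) = I := by
    ext b
    rw [RingHom.mem_ker, RingHom.comp_apply]
    change e₀.symm _ = 0 ↔ _
    rw [map_eq_zero_iff _ e₀.symm.injective, Ideal.Quotient.eq_zero_iff_mem]
  have hg' : Function.Surjective (e₀'.symm.toRingHom.comp (Ideal.Quotient.mk I')) :=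
    e₀'.symm.surjective.comp Ideal.Quotient.mk_surjective
  have hkg' : RingHom.ker (e₀'.symm.toRingHom.comp (Ideal.Quotient.mk I')) = I' := by
    ext b
    rw [RingHom.mem_ker, RingHom.comp_apply]
    change e₀'.symm _ = 0 ↔ _
    rw [map_eq_zero_iff _ e₀'.symm.injective, Ideal.Quotient.eq_zero_iff_mem]
  obtain ⟨n, z, hz⟩ := exists_gens A
  have hz₁ : Ideal.span (Set.range fun i =>
      algebraMap A (AdicCompletion (maximalIdeal A) A) (z i)) = maximalIdeal _ := by
    rw [span_range_map (algebraMap A (AdicCompletion (maximalIdeal A) A)) z, hz, hm1]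
  have hz' : Ideal.span (Set.range fun i => algebraMap A A' (z i)) = maximalIdeal A' := by
    rw [span_range_map (algebraMap A A') z, hz, hmax]
  have hz'' : Ideal.span (Set.range fun i =>
      algebraMap A' (AdicCompletion (maximalIdeal A') A') (algebraMap A A' (z i))) =
      maximalIdeal _ := by
    rw [span_range_map (algebraMap A' (AdicCompletion (maximalIdeal A') A'))
      (fun i => algebraMap A A' (z i)), hz', hm1']
  have iff1 : ∀ m, Gen (fun i => algebraMap A (AdicCompletion (maximalIdeal A) A) (z i)) m ↔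
      Gen z m := fun m => (gen_iff z m).symm
  have iff2 : ∀ m, Gen (fun i => algebraMap A A' (z i)) m ↔ Gen z m :=
    fun m => (gen_iff z m).symm
  have iff3 : ∀ m, Gen (fun i =>
      algebraMap A' (AdicCompletion (maximalIdeal A') A') (algebraMap A A' (z i))) m ↔
      Gen (fun i => algebraMap A A' (z i)) m :=
    fun m => (gen_iff (fun i => algebraMap A A' (z i)) m).symm
  have key1 := pres_le _ hg _ hg' _ _ hz₁ hz''
    (fun m h => (iff3 m).2 ((iff2 m).2 ((iff1 m).1 h))) e e' he he'
  have key2 := pres_le _ hg' _ hg _ _ hz'' hz₁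
    (fun m h => (iff1 m).2 ((iff2 m).1 ((iff3 m).1 h))) e' e he' he
  rw [hkg, hkg'] at key1 key2
  omega

end main

end Groth.Agent.Lib.GeomDepthFlatH1
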