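import Mathlib
import Groth.Agent.Lib.CIInv_helper8

/-! The invariant `dim B - μ(ker (B → A))` of a Noetherian local ring `A` presented as a quotient of
a regular local ring `B` does not depend on the presentation (helper1; on top of helper8's
Koszul-`H₁` machinery `KosH1/KosH2/CIInv`). -/

set_option autoImplicit false
set_option maxHeartbeats 400000
universe u

namespace Groth.Agent.Lib.GeomDepthH1

open IsLocalRing RingTheory.Sequence Groth.Agent.DepthLib Groth.Agent.Lib.KosH1H8
  Groth.Agent.Lib.CIInvH8

theorem spanFinrank_ofList_le {R : Type*} [CommRing R] (l : List R) :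
    (Ideal.ofList l).spanFinrank ≤ l.length := by
  classical
  have h1 : Ideal.ofList l = Submodule.span R (↑l.toFinset : Set R) := by
    rw [Ideal.ofList]
    congr 1
    ext r
    simp
  rw [h1]
  calc (Submodule.span R (↑l.toFinset : Set R)).spanFinrank
      ≤ (↑l.toFinset : Set R).ncard :=
        Submodule.spanFinrank_span_le_ncard_of_finite (Finset.finite_toSet _)
    _ = l.toFinset.card := Set.ncard_coe_finset _
    _ ≤ l.length := List.toFinset_card_le l

theorem exists_list_eq_spanFinrank {R : Type*} [CommRing R] [IsNoetherianRing R] (I : Ideal R) :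
    ∃ l : List R, Ideal.ofList l = I ∧ l.length = I.spanFinrank := by
  classical
  have hfg : (I : Submodule R R).FG := IsNoetherian.noetherian _
  obtain ⟨s, hcard, hspan⟩ := Submodule.FG.exists_span_finset_card_eq_spanFinrank hfg
  refine ⟨s.toList, ?_, ?_⟩
  · rw [← hspan, Ideal.ofList]
    congr 1
    ext r
    simp
  · rw [Finset.length_toList, hcard]

/-- one inequality -/
theorem key {A B B' : Type u} [CommRing A] [IsLocalRing A] [IsNoetherianRing A]
    [CommRing B] [CommRing B'] [IsRegularLocalRing B] [IsRegularLocalRing B']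
    (f : B →+* A) (hf : Function.Surjective f) (f' : B' →+* A) (hf' : Function.Surjective f')
    (d d' : ℕ) (hd : ringKrullDim B = d) (hd' : ringKrullDim B' = d') :
    (RingHom.ker f').spanFinrank + d ≤ (RingHom.ker f).spanFinrank + d' := by
  classical
  obtain ⟨xs, hxs, hxlen, hxreg⟩ := exists_rsop B
  obtain ⟨ys, hys, hylen, hyreg⟩ := exists_rsop B'
  have hZBx := Z_le_B_of_isWeaklyRegular xs hxreg
  have hxspan : Ideal.span (Set.range fun i : Fin xs.length => xs[i]) = maximalIdeal B := by
    rw [span_range_getElem, hxs]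
  have hyspan : Ideal.span (Set.range fun i : Fin ys.length => ys[i]) = maximalIdeal B' := by
    rw [span_range_getElem, hys]
  have hkf : RingHom.ker f ≤ maximalIdeal B :=
    IsLocalRing.le_maximalIdeal (RingHom.ker_ne_top f)
  have hkf' : RingHom.ker f' ≤ maximalIdeal B' :=
    IsLocalRing.le_maximalIdeal (RingHom.ker_ne_top f')
  have hfx : Ideal.span (Set.range fun i : Fin xs.length => f xs[i]) = maximalIdeal A := by
    have h1 := map_maximalIdeal_of_surjective f hf
    rw [← h1, ← hxspan, Ideal.map_span]
    congr 1
    ext a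
    simp
  have hfy : Ideal.span (Set.range fun i : Fin ys.length => f' ys[i]) = maximalIdeal A := by
    have h1 := map_maximalIdeal_of_surjective f' hf'
    rw [← h1, ← hyspan, Ideal.map_span]
    congr 1
    ext a
    simp
  obtain ⟨l, hl, hllen⟩ := exists_list_eq_spanFinrank (RingHom.ker f)
  have hGx : Gen (fun i : Fin xs.length => f xs[i]) l.length :=
    Gen.of_ker f hf (fun i : Fin xs.length => xs[i]) hZBx l hl
      (by rw [hxspan]; exact hkf)
  obtain ⟨hle, hGy⟩ := Gen.transfer (fun i : Fin ys.length => f' ys[i])
    (fun i : Fin xs.length => f xs[i]) hfy hfx hGx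
  obtain ⟨l', hl'len, hl'ker⟩ := Gen.ker_fg f' hf' (fun i : Fin ys.length => ys[i]) hyspan hkf' hGy
  have h1 : (RingHom.ker f').spanFinrank ≤ l'.length := by
    rw [← hl'ker]
    exact spanFinrank_ofList_le l'
  have hx : xs.length = d := by
    rw [hd] at hxlen
    exact_mod_cast hxlen
  have hy : ys.length = d' := by
    rw [hd'] at hylen
    exact_mod_cast hylen
  omega

theorem main2941 (A : Type u) [CommRing A] [IsLocalRing A] [IsNoetherianRing A] (B B' : Type u)
    [CommRing B] [CommRing B'] [IsRegularLocalRing B] [IsRegularLocalRing B'] (f : B →+* A)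
    (hf : Function.Surjective f) (f' : B' →+* A) (hf' : Function.Surjective f') (d d' : ℕ)
    (hd : ringKrullDim B = d) (hd' : ringKrullDim B' = d') :
    (d : ℤ) - ((RingHom.ker f).spanFinrank : ℤ) = (d' : ℤ) - ((RingHom.ker f').spanFinrank : ℤ) := by
  have h1 := key f hf f' hf' d d' hd hd'
  have h2 := key f' hf' f hf d' d hd' hd
  omega

end Groth.Agent.Lib.GeomDepthH1
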