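import Mathlib

/-!
# Geometric properties of fibres are insensitive to base change

`geometrically P` of a morphism to the spectrum of a field can be checked after a field extension,
provided `P` descends along base changes of field extensions.
-/

open CategoryTheory AlgebraicGeometry Limits TensorProduct

universe u

namespace Groth.Agent.Lib.GeomFibreBC

/-- Descent of `geometrically P` along a field extension. -/
theorem geometrically_of_isPullback_field {P : ObjectProperty Scheme.{u}}
    (hdesc : ∀ (L Ω : Type u) [Field L] [Field Ω] (ψ : L →+* Ω) (Z W : Scheme.{u})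
      (snd : Z ⟶ Spec (.of L)) (p1 : W ⟶ Z) (p2 : W ⟶ Spec (.of Ω)),
      IsPullback p1 p2 snd (Spec.map (CommRingCat.ofHom ψ)) → P W → P Z)
    {K K' : Type u} [Field K] [Field K'] (φ : K →+* K') {F F' : Scheme.{u}}
    (q : F ⟶ Spec (.of K)) (q' : F' ⟶ Spec (.of K')) (r : F' ⟶ F)
    (h : IsPullback r q' q (Spec.map (CommRingCat.ofHom φ))) (hq' : geometrically P q') :
    geometrically P q := by
  intro L _ a Z fst snd hZ
  obtain ⟨α, rfl⟩ := Spec.map_surjective a
  letI : Algebra K L := α.hom.toAlgebra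
  letI : Algebra K K' := φ.toAlgebra
  let T := L ⊗[K] K'
  obtain ⟨m, hm⟩ := Ideal.exists_maximal T
  let Ω := T ⧸ m
  letI : Field Ω := Ideal.Quotient.field m
  let ψ : L →+* Ω := (Ideal.Quotient.mk m).comp Algebra.TensorProduct.includeLeftRingHom
  let ψ' : K' →+* Ω :=
    (Ideal.Quotient.mk m).comp (Algebra.TensorProduct.includeRight (R := K) (A := L) (B := K')).toRingHom
  have hcomm : ψ.comp α.hom = ψ'.comp φ := by
    ext x
    simp only [ψ, ψ', RingHom.comp_apply, AlgHom.toRingHom_eq_coe, RingHom.coe_coe,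
      Algebra.TensorProduct.includeLeftRingHom_apply, Algebra.TensorProduct.includeRight_apply]
    congr 1
    have h1 : α.hom x = algebraMap K L x := rfl
    have h2 : φ x = algebraMap K K' x := rfl
    rw [h1, h2, Algebra.algebraMap_eq_smul_one, Algebra.algebraMap_eq_smul_one]
    show (x • (1 : L)) ⊗ₜ[K] (1 : K') = (1 : L) ⊗ₜ[K] (x • (1 : K'))
    rw [TensorProduct.smul_tmul]
  have hcomm' : Spec.map (CommRingCat.ofHom ψ) ≫ Spec.map α =
      Spec.map (CommRingCat.ofHom ψ') ≫ Spec.map (CommRingCat.ofHom φ) := by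
    rw [← Spec.map_comp, ← Spec.map_comp]
    congr 1
    ext x
    exact congr($hcomm x)
  let W := pullback snd (Spec.map (CommRingCat.ofHom ψ))
  have hW : IsPullback (pullback.fst snd (Spec.map (CommRingCat.ofHom ψ)))
      (pullback.snd snd (Spec.map (CommRingCat.ofHom ψ))) snd (Spec.map (CommRingCat.ofHom ψ)) :=
    .of_hasPullback _ _
  apply hdesc L Ω ψ Z W snd _ _ hW
  have hbig := hW.paste_horiz hZ
  rw [hcomm'] at hbig
  let l : W ⟶ F' := h.lift (pullback.fst _ _ ≫ fst)
    (pullback.snd _ _ ≫ Spec.map (CommRingCat.ofHom ψ')) (by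
      rw [Category.assoc, Category.assoc, ← hcomm', hZ.w, pullback.condition_assoc])
  have hl1 : l ≫ r = pullback.fst _ _ ≫ fst := h.lift_fst _ _ _
  have hl2 : l ≫ q' = pullback.snd _ _ ≫ Spec.map (CommRingCat.ofHom ψ') := h.lift_snd _ _ _
  have hl : IsPullback l (pullback.snd snd (Spec.map (CommRingCat.ofHom ψ))) q'
      (Spec.map (CommRingCat.ofHom ψ')) := by
    refine IsPullback.of_right ?_ hl2 h
    rw [hl1]
    exact hbig
  exact hq' _ _ _ hl

theorem surjective_specMap_field {L Ω : Type u} [Field L] [Field Ω] (ψ : L →+* Ω) :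
    Surjective (Spec.map (CommRingCat.ofHom ψ)) := by
  constructor
  intro x
  obtain ⟨y⟩ : Nonempty (Spec (CommRingCat.of Ω)) := inferInstance
  refine ⟨y, ?_⟩
  exact Subsingleton.elim (α := PrimeSpectrum L) _ _

theorem geometrically_fiber_iff {P : ObjectProperty Scheme.{u}}
    (hdesc : ∀ (L Ω : Type u) [Field L] [Field Ω] (ψ : L →+* Ω) (Z W : Scheme.{u})
      (snd : Z ⟶ Spec (.of L)) (p1 : W ⟶ Z) (p2 : W ⟶ Spec (.of Ω)),
      IsPullback p1 p2 snd (Spec.map (CommRingCat.ofHom ψ)) → P W → P Z)
    {X Y X' Y' : Scheme.{u}} (f : X ⟶ Y) (g : Y' ⟶ Y) (f' : X' ⟶ Y') (g' : X' ⟶ X)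
    (hc : IsPullback g' f' f g) (y' : Y') :
    geometrically P (f'.fiberToSpecResidueField y') ↔
      geometrically P (f.fiberToSpecResidueField (g y')) := by
  have hpb := isPullback_fiberToSpecResidueField_of_isPullback hc y'
  constructor
  · intro h
    exact geometrically_of_isPullback_field hdesc (g.residueFieldMap y').hom _ _ _ hpb h
  · intro h
    exact MorphismProperty.of_isPullback (P := geometrically P) hpb h

theorem hdesc_reduced : ∀ (L Ω : Type u) [Field L] [Field Ω] (ψ : L →+* Ω) (Z W : Scheme.{u})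
      (snd : Z ⟶ Spec (.of L)) (p1 : W ⟶ Z) (p2 : W ⟶ Spec (.of Ω)),
      IsPullback p1 p2 snd (Spec.map (CommRingCat.ofHom ψ)) → IsReduced W → IsReduced Z := by
  intro L Ω _ _ ψ Z W snd p1 p2 hW hred
  have hs := surjective_specMap_field ψ
  have : IsSchemeTheoreticallyDominant (Spec.map (CommRingCat.ofHom ψ)) := .of_isDominant _
  have : IsSchemeTheoreticallyDominant p1 := IsSchemeTheoreticallyDominant.of_isPullback hW.flip
  have : QuasiCompact p1 := MorphismProperty.of_isPullback (P := @QuasiCompact) hW.flip inferInstance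
  exact IsSchemeTheoreticallyDominant.isReduced p1

theorem hdesc_irred : ∀ (L Ω : Type u) [Field L] [Field Ω] (ψ : L →+* Ω) (Z W : Scheme.{u})
      (snd : Z ⟶ Spec (.of L)) (p1 : W ⟶ Z) (p2 : W ⟶ Spec (.of Ω)),
      IsPullback p1 p2 snd (Spec.map (CommRingCat.ofHom ψ)) → IrreducibleSpace W → IrreducibleSpace Z := by
  intro L Ω _ _ ψ Z W snd p1 p2 hW hirr
  have hs := surjective_specMap_field ψ
  have : Surjective p1 := MorphismProperty.of_isPullback (P := @Surjective) hW.flip inferInstance
  have h1 : IsIrreducible (Set.univ : Set W) := IrreducibleSpace.isIrreducible_univ _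
  have h2 := h1.image p1 p1.continuous.continuousOn
  rw [Set.image_univ, p1.surjective.range_eq] at h2
  exact (irreducibleSpace_def Z).mpr h2

theorem hdesc_conn : ∀ (L Ω : Type u) [Field L] [Field Ω] (ψ : L →+* Ω) (Z W : Scheme.{u})
      (snd : Z ⟶ Spec (.of L)) (p1 : W ⟶ Z) (p2 : W ⟶ Spec (.of Ω)),
      IsPullback p1 p2 snd (Spec.map (CommRingCat.ofHom ψ)) → ConnectedSpace W → ConnectedSpace Z := by
  intro L Ω _ _ ψ Z W snd p1 p2 hW hconn
  have hs := surjective_specMap_field ψ
  have : Surjective p1 := MorphismProperty.of_isPullback (P := @Surjective) hW.flip inferInstance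
  exact p1.surjective.connectedSpace p1.continuous

end Groth.Agent.Lib.GeomFibreBC
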