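import Groth.Agent.Lib.AlgSpBCTop_helper7
import Groth.Agent.Lib.AlgSpQC_helper7
import Groth.Agent.Lib.AlgSpPullback_helper7
import Groth.Agent.Lib.AlgSpPoints_helper7

/-!
# Number of connected components of geometric fibres (helper7)

A general topological base change lemma for algebraic spaces (`bc_top`): the base change of a
universally open geometrically connected morphism of schemes is open, surjective with connected
fibres on spaces of points.  Application: the number of connected components of a geometric fibre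
is well defined.
-/

set_option autoImplicit false
set_option linter.style.haveILetI false
universe u
open CategoryTheory CategoryTheory.Limits AlgebraicGeometry Opposite

namespace Groth.Agent.Lib.GeomFibreCCH7

open AlgSp Groth.Agent.Lib.AlgSpPoints_helper7 Groth.Agent.Lib.AlgSpBCTopH7
  Groth.Agent.Lib.GeomRedBC2H7 Groth.Agent.Lib.AlgSpQC_helper7
  Groth.Agent.Lib.AlgSpPullback_helper7 Groth.Agent.Lib.GeomIrrSchH4

variable {S : Scheme.{u}}

/-- Base change of a universally open, geometrically connected morphism of schemes to an algebraic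
space: open, surjective, with connected fibres on points. -/
theorem bc_top {P P' : Sp S} (hP : IsAlgSpace P) {T T' : Over S} (c : T' ⟶ T)
    [UniversallyOpen c.left] [GeometricallyConnected c.left]
    {b : P ⟶ (yon S).obj T} {g : P' ⟶ P} {b' : P' ⟶ (yon S).obj T'}
    (sq : IsPullback g b' b ((yon S).map c)) :
    IsOpenMap (Points.map g) ∧ Function.Surjective (Points.map g) ∧
      ∀ x, IsConnected (Points.map g ⁻¹' {x}) := by
  obtain ⟨U, p, hpe, hps⟩ := hP.atlas
  obtain ⟨β, hβ⟩ := (yon S).map_surjective (p ≫ b)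
  have sqO := IsPullback.of_hasPullback β c
  have sqY := sqO.map (yon S)
  have sqL : IsPullback (pullback.fst β c).left (pullback.snd β c).left β.left c.left :=
    sqO.map (Over.forget S)
  haveI : UniversallyOpen (pullback.fst β c).left :=
    MorphismProperty.of_isPullback (P := @UniversallyOpen) sqL.flip inferInstance
  haveI : GeometricallyConnected (pullback.fst β c).left :=
    MorphismProperty.of_isPullback (P := @GeometricallyConnected) sqL.flip inferInstance
  have hw : ((yon S).map (pullback.fst β c) ≫ p) ≫ b =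
      (yon S).map (pullback.snd β c) ≫ (yon S).map c := by
    rw [Category.assoc, ← hβ]; exact sqY.w
  let g' : (yon S).obj (pullback β c) ⟶ P' :=
    sq.lift ((yon S).map (pullback.fst β c) ≫ p) ((yon S).map (pullback.snd β c)) hw
  have hg1 : g' ≫ g = (yon S).map (pullback.fst β c) ≫ p := sq.lift_fst _ _ _
  have hg2 : g' ≫ b' = (yon S).map (pullback.snd β c) := sq.lift_snd _ _ _
  have sqc : IsPullback ((yon S).map (pullback.fst β c)) g' p g := by
    refine IsPullback.of_bot ?_ hg1.symm sq
    rw [hg2, ← hβ]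
    exact sqY
  exact top_lemma (Points.ofPt g') (fun w => (pullback.fst β c).left w) (Points.ofPt p) _
    (fun w => by rw [Points.map_ofPt, hg1, ofPt_comp]) (Points.continuous_ofPt _)
    (ofPt_surjective _ (repWith_snd_of_isPullback _ sqc hps))
    (isOpenMap_ofPt_of_etale p hpe) (ofPt_surjective p hps)
    (pullback.fst β c).left.isOpenMap
    (fun u => Scheme.Hom.isConnected_preimage_singleton _ u)
    (fun u y' h => exists_pt_of_isPullback sqc u y' h)

theorem card_cc_bc {P P' : Sp S} (hP : IsAlgSpace P) {T T' : Over S} (c : T' ⟶ T)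
    [UniversallyOpen c.left] [GeometricallyConnected c.left]
    {b : P ⟶ (yon S).obj T} {g : P' ⟶ P} {b' : P' ⟶ (yon S).obj T'}
    (sq : IsPullback g b' b ((yon S).map c)) :
    ENat.card (ConnectedComponents (Points P')) = ENat.card (ConnectedComponents (Points P)) := by
  obtain ⟨ho, hs, hf⟩ := bc_top hP c sq
  have hco : Topology.IsCoinducing (Points.map g) :=
    (ho.isQuotientMap (Points.continuous_map _) hs).isCoinducing
  exact ENat.card_congr (Equiv.ofBijective _ (hco.connectedComponentsMap_bijective hf))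

/-- The fibre over a geometric point and over a field extension of it have the same number of
connected components. -/
theorem card_cc_ext {X Y : Sp S} (hX : IsAlgSpace X) (hY : IsAlgSpace Y) (f : X ⟶ Y)
    (k : FieldPt Y) (hk : k.IsGeometric)
    {Ω : Type u} [Field Ω] {w : Spec (CommRingCat.of Ω) ⟶ S} (α : Over.mk w ⟶ k.pt)
    {P P' : Sp S} {a : P ⟶ X} {b : P ⟶ (yon S).obj k.pt} (sq : IsPullback a b f k.toHom)
    {a' : P' ⟶ X} {b' : P' ⟶ (yon S).obj (Over.mk w)}
    (sq' : IsPullback a' b' f ((yon S).map α ≫ k.toHom)) :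
    ENat.card (ConnectedComponents (Points P')) = ENat.card (ConnectedComponents (Points P)) := by
  haveI : IsAlgClosed k.K := hk
  have hP : IsAlgSpace P := isAlgSpace_of_isPullback hY.diag hX (IsAlgSpace.yon_obj _) sq
  letI : Algebra k.K Ω := (Spec.preimage α.left).hom.toAlgebra
  have hα : α.left = Spec.map (CommRingCat.ofHom (algebraMap k.K Ω)) :=
    (Spec.map_preimage α.left).symm
  haveI : UniversallyOpen α.left := by rw [hα]; exact universallyOpen_specMap (k := k.K) Ω
  haveI : GeometricallyConnected α.left := by rw [hα]; exact geomConn_specMap (k := k.K) Ω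
  have hw : a' ≫ f = (b' ≫ (yon S).map α) ≫ k.toHom := by rw [Category.assoc]; exact sq'.w
  let g : P' ⟶ P := sq.lift a' (b' ≫ (yon S).map α) hw
  have hg1 : g ≫ a = a' := sq.lift_fst _ _ _
  have hg2 : g ≫ b = b' ≫ (yon S).map α := sq.lift_snd _ _ _
  have sqg : IsPullback g b' b ((yon S).map α) := by
    refine IsPullback.of_right ?_ hg2 sq
    rw [hg1]; exact sq'
  exact card_cc_bc hP α sqg

theorem card_cc_two {X Y : Sp S} (hX : IsAlgSpace X) (hY : IsAlgSpace Y) (f : X ⟶ Y)
    (k₁ : FieldPt Y) (h₁ : k₁.IsGeometric) (k₂ : FieldPt Y) (h₂ : k₂.IsGeometric)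
    (hk : Points.mk k₁ = Points.mk k₂)
    {P₁ P₂ : Sp S} {a₁ : P₁ ⟶ X} {b₁ : P₁ ⟶ (yon S).obj k₁.pt} (sq₁ : IsPullback a₁ b₁ f k₁.toHom)
    {a₂ : P₂ ⟶ X} {b₂ : P₂ ⟶ (yon S).obj k₂.pt} (sq₂ : IsPullback a₂ b₂ f k₂.toHom) :
    ENat.card (ConnectedComponents (Points P₁)) = ENat.card (ConnectedComponents (Points P₂)) := by
  obtain ⟨Ω, _, w, α, β, hαβ⟩ := (rel_iff k₁ k₂).1 (Points.mk_eq_mk_iff.1 hk)
  have sqΩ := IsPullback.of_hasPullback f ((yon S).map α ≫ k₁.toHom)
  have e1 := card_cc_ext hX hY f k₁ h₁ α sq₁ sqΩ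
  have sqΩ' : IsPullback (pullback.fst f ((yon S).map α ≫ k₁.toHom))
      (pullback.snd f ((yon S).map α ≫ k₁.toHom)) f ((yon S).map β ≫ k₂.toHom) := by
    rw [← hαβ]; exact sqΩ
  have e2 := card_cc_ext hX hY f k₂ h₂ β sq₂ sqΩ'
  rw [← e1, e2]

theorem main10670 {X Y X' Y' : AlgSp.Space S} (f : X ⟶ Y) (g : Y' ⟶ Y) (gX : X' ⟶ X) (f' : X' ⟶ Y')
    (hsq : IsPullback gX.hom f'.hom f.hom g.hom)
    (k' : AlgSp.FieldPt Y'.obj) (hk' : k'.IsGeometric) (k : AlgSp.FieldPt Y.obj) (hk : k.IsGeometric)
    (hkk : AlgSp.Points.mk k = AlgSp.Points.map g.hom (AlgSp.Points.mk k'))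
    (Xk' : AlgSp.Sp S) (a' : Xk' ⟶ X'.obj) (b' : Xk' ⟶ (AlgSp.yon S).obj k'.pt) (h' : IsPullback a' b' f'.hom k'.toHom)
    (Xk : AlgSp.Sp S) (a : Xk ⟶ X.obj) (b : Xk ⟶ (AlgSp.yon S).obj k.pt) (h : IsPullback a b f.hom k.toHom) :
    ENat.card (_root_.ConnectedComponents (AlgSp.Points Xk')) = ENat.card (_root_.ConnectedComponents (AlgSp.Points Xk)) := by
  have h'' : IsPullback (a' ≫ gX.hom) b' f.hom (k'.toHom ≫ g.hom) := h'.paste_horiz hsq
  have e : (k'.map g.hom).toHom = k'.toHom ≫ g.hom := FieldPt.toHom_map g.hom k'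
  have h3 : IsPullback (a' ≫ gX.hom) (b' : Xk' ⟶ (yon S).obj (k'.map g.hom).pt) f.hom
      (k'.map g.hom).toHom := by rw [e]; exact h''
  have hk'' : (k'.map g.hom).IsGeometric := hk'
  rw [Points.map_mk] at hkk
  exact card_cc_two X.property Y.property f.hom (k'.map g.hom) hk'' k hk hkk.symm h3 h

end Groth.Agent.Lib.GeomFibreCCH7
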