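import Mathlib
import Groth.Prelude.Def_W4c2ratsingkovacsGH

/-!
# Geometric height of homogeneous ideals (helper1)

Homogeneous prime avoidance for `ℕ`-graded rings, the correspondence between primes of the
degree-zero localization `A_(f)` and homogeneous primes of `A` not containing `f`
(taken from Mathlib's `Proj` construction), and the resulting height estimates for
`locIdeal`.
-/

set_option autoImplicit false
universe u v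

namespace Groth.Agent.Lib.GeomHtH1

open W4c2ratsingkovacs AlgebraicGeometry

variable {R : Type u} {A : Type v} [CommRing R] [CommRing A] [Algebra R A]
  (𝒜 : ℕ → Submodule R A) [GradedRing 𝒜]

/-! ### homogeneous prime avoidance -/

theorem hpa (I : Ideal A) :
    ∀ S : Finset (Ideal A), (∀ Q ∈ S, Q.IsPrime) →
      (∀ Q ∈ S, ∃ t : ℕ, 0 < t ∧ ∃ y ∈ 𝒜 t, y ∈ I ∧ y ∉ Q) →
      ∃ t : ℕ, 0 < t ∧ ∃ x ∈ 𝒜 t, x ∈ I ∧ ∀ Q ∈ S, x ∉ Q := by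
  classical
  intro S
  induction S using Finset.strongInduction with
  | H S ih =>
    intro hS h
    have key : ∀ Q ∈ S, ∃ t : ℕ, 0 < t ∧ ∃ x ∈ 𝒜 t, x ∈ I ∧ ∀ Q' ∈ S.erase Q, x ∉ Q' :=
      fun Q hQ => ih (S.erase Q) (Finset.erase_ssubset hQ)
        (fun Q' h' => hS Q' (Finset.mem_of_mem_erase h'))
        (fun Q' h' => h Q' (Finset.mem_of_mem_erase h'))
    choose t ht x hx hxI hxav using key
    by_cases hgood : ∃ Q, ∃ hQ : Q ∈ S, x Q hQ ∉ Q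
    · obtain ⟨Q, hQ, hn⟩ := hgood
      refine ⟨t Q hQ, ht Q hQ, x Q hQ, hx Q hQ, hxI Q hQ, fun Q' hQ' => ?_⟩
      by_cases e : Q' = Q
      · rw [e]
        exact hn
      · exact hxav Q hQ Q' (Finset.mem_erase.2 ⟨e, hQ'⟩)
    · have hgood' : ∀ Q (hQ : Q ∈ S), x Q hQ ∈ Q := fun Q hQ => by
        by_contra hc
        exact hgood ⟨Q, hQ, hc⟩
      rcases S.eq_empty_or_nonempty with hemp | ⟨Q₁, hQ₁⟩
      · refine ⟨1, one_pos, 0, zero_mem _, zero_mem _, fun Q hQ => ?_⟩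
        rw [hemp] at hQ
        exact absurd hQ (Finset.notMem_empty _)
      by_cases hS1 : S.erase Q₁ = ∅
      · obtain ⟨t₀, ht₀, y, hy, hyI, hyQ⟩ := h Q₁ hQ₁
        refine ⟨t₀, ht₀, y, hy, hyI, fun Q hQ => ?_⟩
        have : Q = Q₁ := by
          by_contra hne
          have hmem : Q ∈ S.erase Q₁ := Finset.mem_erase.2 ⟨hne, hQ⟩
          rw [hS1] at hmem
          exact absurd hmem (Finset.notMem_empty _)
        rw [this]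
        exact hyQ
      · have hne : (S.erase Q₁).Nonempty := Finset.nonempty_iff_ne_empty.2 hS1
        have hmem : ∀ Q : {Q // Q ∈ S.erase Q₁}, Q.1 ∈ S := fun Q => Finset.mem_of_mem_erase Q.2
        obtain ⟨w, hwdef⟩ : ∃ w : A, w = ∏ Q ∈ (S.erase Q₁).attach, x Q.1 (hmem Q) := ⟨_, rfl⟩
        obtain ⟨tw, htwdef⟩ : ∃ tw : ℕ, tw = ∑ Q ∈ (S.erase Q₁).attach, t Q.1 (hmem Q) := ⟨_, rfl⟩
        have htw : 0 < tw := by
          rw [htwdef]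
          exact Finset.sum_pos (fun Q _ => ht Q.1 (hmem Q)) (Finset.attach_nonempty_iff.2 hne)
        have hw : w ∈ 𝒜 tw := by
          rw [hwdef, htwdef]
          exact SetLike.prod_mem_graded 𝒜 (fun Q : {Q // Q ∈ S.erase Q₁} => t Q.1 (hmem Q))
            (fun Q => x Q.1 (hmem Q)) (fun Q _ => hx Q.1 (hmem Q))
        obtain ⟨Q₂, hQ₂⟩ := hne
        have hwI : w ∈ I := by
          rw [hwdef]
          exact Ideal.prod_mem I (Finset.mem_attach _ ⟨Q₂, hQ₂⟩) (hxI Q₂ (hmem ⟨Q₂, hQ₂⟩))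
        have hwQ₁ : w ∉ Q₁ := by
          haveI := hS Q₁ hQ₁
          intro hc
          rw [hwdef] at hc
          obtain ⟨Q, _, hQc⟩ := (Ideal.IsPrime.prod_mem_iff).1 hc
          have h1 : Q₁ ∈ S.erase Q.1 :=
            Finset.mem_erase.2 ⟨fun e => (Finset.mem_erase.1 Q.2).1 e.symm, hQ₁⟩
          exact hxav Q.1 (hmem Q) Q₁ h1 hQc
        have hwQ : ∀ Q ∈ S.erase Q₁, w ∈ Q := fun Q hQ => by
          rw [hwdef]
          exact Ideal.prod_mem Q (Finset.mem_attach _ ⟨Q, hQ⟩) (hgood' Q (hmem ⟨Q, hQ⟩))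
        have ht₁ : 0 < t Q₁ hQ₁ := ht Q₁ hQ₁
        have hx₁Q₁ : x Q₁ hQ₁ ∈ Q₁ := hgood' Q₁ hQ₁
        have hx₁Q : ∀ Q ∈ S.erase Q₁, x Q₁ hQ₁ ∉ Q := fun Q hQ => hxav Q₁ hQ₁ Q hQ
        have h1 : x Q₁ hQ₁ ^ tw ∈ 𝒜 (tw * t Q₁ hQ₁) := by
          have := SetLike.pow_mem_graded tw (hx Q₁ hQ₁)
          rwa [smul_eq_mul] at this
        have h2 : w ^ (t Q₁ hQ₁) ∈ 𝒜 (tw * t Q₁ hQ₁) := by
          have := SetLike.pow_mem_graded (t Q₁ hQ₁) hw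
          rwa [smul_eq_mul, mul_comm] at this
        refine ⟨tw * t Q₁ hQ₁, Nat.mul_pos htw ht₁, x Q₁ hQ₁ ^ tw + w ^ (t Q₁ hQ₁),
          add_mem h1 h2,
          I.add_mem (Ideal.pow_mem_of_mem I (hxI Q₁ hQ₁) tw htw)
            (Ideal.pow_mem_of_mem I hwI _ ht₁),
          fun Q hQ => ?_⟩
        by_cases e : Q = Q₁
        · rw [e]
          intro hc
          have h3 : w ^ (t Q₁ hQ₁) ∈ Q₁ := by
            have := Q₁.sub_mem hc (Ideal.pow_mem_of_mem Q₁ hx₁Q₁ tw htw)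
            rwa [add_sub_cancel_left] at this
          exact hwQ₁ ((hS Q₁ hQ₁).mem_of_pow_mem _ h3)
        · have hQ' : Q ∈ S.erase Q₁ := Finset.mem_erase.2 ⟨e, hQ⟩
          intro hc
          have h3 : x Q₁ hQ₁ ^ tw ∈ Q := by
            have := Q.sub_mem hc (Ideal.pow_mem_of_mem Q (hwQ Q hQ') _ ht₁)
            rwa [add_sub_cancel_right] at this
          exact hx₁Q Q hQ' ((hS Q hQ).mem_of_pow_mem tw h3)

/-- A prime containing neither a homogeneous ideal `J` nor the irrelevant ideal misses a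
homogeneous element of `J` of positive degree. -/
theorem exists_pos_homog_notMem {J : Ideal A} (hJ : J.IsHomogeneous 𝒜) (q : Ideal A)
    [hq : q.IsPrime] (h1 : ¬ J ≤ q) (h2 : ¬ (HomogeneousIdeal.irrelevant 𝒜).toIdeal ≤ q) :
    ∃ t : ℕ, 0 < t ∧ ∃ y ∈ 𝒜 t, y ∈ J ∧ y ∉ q := by
  classical
  obtain ⟨x, hxJ, hxq⟩ := SetLike.not_le_iff_exists.1 h1
  have h3 : ∃ i, (DirectSum.decompose 𝒜 x i : A) ∉ q := by
    by_contra hcon
    apply hxq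
    rw [← DirectSum.sum_support_decompose 𝒜 x]
    refine Ideal.sum_mem _ fun i _ => ?_
    by_contra hi
    exact hcon ⟨i, hi⟩
  obtain ⟨i, hi⟩ := h3
  have h4 : ∃ e, 0 < e ∧ ∃ b ∈ 𝒜 e, b ∉ q := by
    by_contra hcon
    apply h2
    rw [HomogeneousIdeal.toIdeal_irrelevant_le]
    intro e he b hb
    change b ∈ q
    by_contra hbq
    exact hcon ⟨e, he, b, hb, hbq⟩
  obtain ⟨e, he, b, hb, hbq⟩ := h4
  refine ⟨i + e, by omega, (DirectSum.decompose 𝒜 x i : A) * b,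
    SetLike.mul_mem_graded (SetLike.coe_mem _) hb, J.mul_mem_right _ (hJ i hxJ), ?_⟩
  intro hc
  rcases hq.mem_or_mem hc with h | h
  · exact hi h
  · exact hbq h

/-! ### basic facts on `locIdeal` -/

theorem loc_mono {I I' : Ideal A} (h : I ≤ I') (f : A) : locIdeal 𝒜 I f ≤ locIdeal 𝒜 I' f :=
  Ideal.comap_mono (Ideal.map_mono h)

theorem mk_mem_loc_iff' (I : Ideal A) (f : A)
    (z : HomogeneousLocalization.NumDenSameDeg 𝒜 (Submonoid.powers f)) :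
    HomogeneousLocalization.mk z ∈ locIdeal 𝒜 I f ↔
      ∃ s ∈ Submonoid.powers f, s * z.num.1 ∈ I := by
  rw [locIdeal, Ideal.mem_comap, HomogeneousLocalization.algebraMap_apply,
    HomogeneousLocalization.val_mk, Localization.mk_eq_mk']
  exact IsLocalization.mk'_mem_map_algebraMap_iff (Submonoid.powers f) _ I _ _

theorem mk_mem_loc_of_num_mem (I : Ideal A) (f : A)
    (z : HomogeneousLocalization.NumDenSameDeg 𝒜 (Submonoid.powers f)) (h : z.num.1 ∈ I) :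
    HomogeneousLocalization.mk z ∈ locIdeal 𝒜 I f :=
  (mk_mem_loc_iff' 𝒜 I f z).2 ⟨1, one_mem _, by rwa [one_mul]⟩

theorem mk_mem_loc_iff (𝔓 : Ideal A) [h𝔓 : 𝔓.IsPrime] (f : A) (hf : f ∉ 𝔓)
    (z : HomogeneousLocalization.NumDenSameDeg 𝒜 (Submonoid.powers f)) :
    HomogeneousLocalization.mk z ∈ locIdeal 𝒜 𝔓 f ↔ z.num.1 ∈ 𝔓 := by
  refine ⟨fun h => ?_, mk_mem_loc_of_num_mem 𝒜 𝔓 f z⟩
  obtain ⟨s, ⟨k, rfl⟩, hs⟩ := (mk_mem_loc_iff' 𝒜 𝔓 f z).1 h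
  rcases h𝔓.mem_or_mem hs with h1 | h1
  · exact absurd (h𝔓.mem_of_pow_mem k h1) hf
  · exact h1

theorem loc_prime (𝔓 : Ideal A) [h𝔓 : 𝔓.IsPrime] (f : A) (hf : f ∉ 𝔓) :
    (locIdeal 𝒜 𝔓 f).IsPrime := by
  unfold locIdeal
  haveI : (Ideal.map (algebraMap A (Localization.Away f)) 𝔓).IsPrime :=
    IsLocalization.isPrime_of_isPrime_disjoint (Submonoid.powers f) _ _ h𝔓
      ((Ideal.disjoint_powers_iff_notMem_of_isPrime _).mpr hf)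
  exact Ideal.comap_isPrime _ _

theorem loc_ne_top (J : Ideal A) (f : A) (hf : f ∉ J.radical) : locIdeal 𝒜 J f ≠ ⊤ := by
  unfold locIdeal
  apply Ideal.comap_ne_top
  rw [IsLocalization.map_algebraMap_ne_top_iff_disjoint (Submonoid.powers f), Set.disjoint_left]
  rintro x ⟨k, rfl⟩ hx
  exact hf ⟨k, hx⟩

/-! ### lifting primes of `A_(f)` to homogeneous primes of `A` -/

section lift

variable {f : A} {m : ℕ} (f_deg : f ∈ 𝒜 m) (hm : 0 < m)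

/-- The lift of a prime of `A_(f)` to a homogeneous prime of `A` (Mathlib's `FromSpec.carrier`). -/
noncomputable def gI (q : PrimeSpectrum (HomogeneousLocalization.Away 𝒜 f)) : Ideal A :=
  ProjIsoSpecTopComponent.FromSpec.carrier.asIdeal f_deg hm q

theorem gI_prime (q : PrimeSpectrum (HomogeneousLocalization.Away 𝒜 f)) :
    (gI 𝒜 f_deg hm q).IsPrime :=
  ProjIsoSpecTopComponent.FromSpec.carrier.asIdeal.prime f_deg hm q

theorem gI_homog (q : PrimeSpectrum (HomogeneousLocalization.Away 𝒜 f)) :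
    (gI 𝒜 f_deg hm q).IsHomogeneous 𝒜 :=
  ProjIsoSpecTopComponent.FromSpec.carrier.asIdeal.homogeneous f_deg hm q

theorem gI_notMem (q : PrimeSpectrum (HomogeneousLocalization.Away 𝒜 f)) :
    f ∉ gI 𝒜 f_deg hm q :=
  ProjIsoSpecTopComponent.FromSpec.carrier.denom_notMem f_deg hm q

theorem loc_gI (q : PrimeSpectrum (HomogeneousLocalization.Away 𝒜 f)) :
    locIdeal 𝒜 (gI 𝒜 f_deg hm q) f = q.asIdeal := by
  haveI := gI_prime 𝒜 f_deg hm q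
  ext z
  obtain ⟨z, rfl⟩ := HomogeneousLocalization.mk_surjective z
  rw [mk_mem_loc_iff 𝒜 _ f (gI_notMem 𝒜 f_deg hm q) z]
  exact ProjIsoSpecTopComponent.FromSpec.num_mem_carrier_iff f_deg hm q z

theorem gI_mono {q q' : PrimeSpectrum (HomogeneousLocalization.Away 𝒜 f)} (h : q ≤ q') :
    gI 𝒜 f_deg hm q ≤ gI 𝒜 f_deg hm q' :=
  fun _ ha i => (PrimeSpectrum.asIdeal_le_asIdeal q q').2 h (ha i)

theorem height_le_gI (q : PrimeSpectrum (HomogeneousLocalization.Away 𝒜 f)) :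
    q.asIdeal.height ≤ (gI 𝒜 f_deg hm q).height := by
  let g : PrimeSpectrum (HomogeneousLocalization.Away 𝒜 f) → PrimeSpectrum A :=
    fun q => ⟨gI 𝒜 f_deg hm q, gI_prime 𝒜 f_deg hm q⟩
  have hg : StrictMono g := by
    intro q q' hlt
    refine lt_of_le_of_ne ?_ ?_
    · exact (PrimeSpectrum.asIdeal_le_asIdeal _ _).1 (gI_mono 𝒜 f_deg hm hlt.le)
    · intro heq
      apply hlt.ne
      have h1 : gI 𝒜 f_deg hm q = gI 𝒜 f_deg hm q' := congrArg PrimeSpectrum.asIdeal heq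
      apply PrimeSpectrum.ext
      rw [← loc_gI 𝒜 f_deg hm q, ← loc_gI 𝒜 f_deg hm q', h1]
  have := Order.height_le_height_apply_of_strictMono g hg q
  rw [← PrimeSpectrum.height_eq_orderHeight, ← PrimeSpectrum.height_eq_orderHeight] at this
  exact this

include f_deg hm in
theorem exists_lift (𝔮 : Ideal (HomogeneousLocalization.Away 𝒜 f)) (h𝔮 : 𝔮.IsPrime) :
    ∃ 𝔔 : Ideal A, 𝔔.IsPrime ∧ 𝔔.IsHomogeneous 𝒜 ∧ f ∉ 𝔔 ∧ locIdeal 𝒜 𝔔 f = 𝔮 ∧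
      𝔮.height ≤ 𝔔.height :=
  ⟨gI 𝒜 f_deg hm ⟨𝔮, h𝔮⟩, gI_prime 𝒜 f_deg hm _, gI_homog 𝒜 f_deg hm _, gI_notMem 𝒜 f_deg hm _,
    loc_gI 𝒜 f_deg hm ⟨𝔮, h𝔮⟩, height_le_gI 𝒜 f_deg hm ⟨𝔮, h𝔮⟩⟩

/-- The degree-zero fraction `x^m / f^d` for `x` homogeneous of degree `d`. -/
def zfrac (x : A) (d : ℕ) (hx : x ∈ 𝒜 d) :
    HomogeneousLocalization.NumDenSameDeg 𝒜 (Submonoid.powers f) :=
  ⟨m * d, ⟨x ^ m, by rw [← smul_eq_mul]; exact SetLike.pow_mem_graded m hx⟩,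
    ⟨f ^ d, by rw [mul_comm, ← smul_eq_mul]; exact SetLike.pow_mem_graded d f_deg⟩, ⟨d, rfl⟩⟩

include hm in
theorem zfrac_mem_iff (𝔓 : Ideal A) [h𝔓 : 𝔓.IsPrime] (hf : f ∉ 𝔓) (x : A) (d : ℕ)
    (hx : x ∈ 𝒜 d) :
    HomogeneousLocalization.mk (zfrac 𝒜 f_deg x d hx) ∈ locIdeal 𝒜 𝔓 f ↔ x ∈ 𝔓 := by
  rw [mk_mem_loc_iff 𝒜 𝔓 f hf]
  exact h𝔓.pow_mem_iff_mem m hm

include hm in
theorem zfrac_mem_of_mem (I : Ideal A) (x : A) (d : ℕ) (hx : x ∈ 𝒜 d) (h : x ∈ I) :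
    HomogeneousLocalization.mk (zfrac 𝒜 f_deg x d hx) ∈ locIdeal 𝒜 I f :=
  mk_mem_loc_of_num_mem 𝒜 I f _ (Ideal.pow_mem_of_mem I h m hm)

include hm f_deg in
theorem le_of_loc_le {I 𝔔 : Ideal A} (hI : I.IsHomogeneous 𝒜) [𝔔.IsPrime] (hf : f ∉ 𝔔)
    (h : locIdeal 𝒜 I f ≤ locIdeal 𝒜 𝔔 f) : I ≤ 𝔔 := by
  classical
  intro x hx
  rw [← DirectSum.sum_support_decompose 𝒜 x]
  refine Ideal.sum_mem _ fun i _ => ?_
  have h1 : (DirectSum.decompose 𝒜 x i : A) ∈ I := hI i hx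
  exact (zfrac_mem_iff 𝒜 f_deg hm 𝔔 hf _ i (SetLike.coe_mem _)).1
    (h (zfrac_mem_of_mem 𝒜 f_deg hm I _ i (SetLike.coe_mem _) h1))

include hm f_deg in
theorem ofList_le_of_loc_le {zs : List A} (hzs : ∀ z ∈ zs, ∃ d, z ∈ 𝒜 d) {𝔔 : Ideal A}
    [𝔔.IsPrime] (hf : f ∉ 𝔔)
    (h : locIdeal 𝒜 (Ideal.ofList zs) f ≤ locIdeal 𝒜 𝔔 f) : Ideal.ofList zs ≤ 𝔔 := by
  rw [Ideal.span_le]
  intro z hz
  obtain ⟨d, hd⟩ := hzs z hz
  exact (zfrac_mem_iff 𝒜 f_deg hm 𝔔 hf z d hd).1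
    (h (zfrac_mem_of_mem 𝒜 f_deg hm _ z d hd (Ideal.subset_span hz)))

include hm f_deg in
theorem le_of_forall_pos_homog_mem {J 𝔓 : Ideal A} (hJ : J.IsHomogeneous 𝒜) [h𝔓 : 𝔓.IsPrime]
    (hf : f ∉ 𝔓) (h : ∀ t, 0 < t → ∀ y ∈ 𝒜 t, y ∈ J → y ∈ 𝔓) : J ≤ 𝔓 := by
  classical
  intro x hx
  rw [← DirectSum.sum_support_decompose 𝒜 x]
  refine Ideal.sum_mem _ fun i _ => ?_
  have h1 : (DirectSum.decompose 𝒜 x i : A) ∈ J := hJ i hx
  have h2 : f * (DirectSum.decompose 𝒜 x i : A) ∈ 𝔓 :=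
    h (m + i) (by omega) _ (SetLike.mul_mem_graded f_deg (SetLike.coe_mem _))
      (J.mul_mem_left f h1)
  exact (h𝔓.mem_or_mem h2).resolve_left hf

include f_deg hm in
/-- Upper bound: the homogeneous localization of an ideal generated by `j` homogeneous
elements has height at most `j` (when proper). -/
theorem height_loc_le [IsNoetherianRing A] (zs : List A) (hzs : ∀ w ∈ zs, ∃ d, w ∈ 𝒜 d)
    (hne : locIdeal 𝒜 (Ideal.ofList zs) f ≠ ⊤) :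
    geomHeight 𝒜 (Ideal.ofList zs) f ≤ zs.length := by
  classical
  obtain ⟨⟨𝔮, h𝔮⟩⟩ := Ideal.nonempty_minimalPrimes hne
  have h𝔮p : 𝔮.IsPrime := h𝔮.1.1
  obtain ⟨𝔔, h𝔔p, h𝔔h, hf𝔔, h𝔔e, h𝔔ht⟩ := exists_lift 𝒜 f_deg hm 𝔮 h𝔮p
  haveI := h𝔔p
  have hI𝔔 : Ideal.ofList zs ≤ 𝔔 :=
    ofList_le_of_loc_le 𝒜 f_deg hm hzs hf𝔔 (by rw [h𝔔e]; exact h𝔮.1.2)
  obtain ⟨𝔓₁, h𝔓₁, h𝔓₁le⟩ := Ideal.exists_minimalPrimes_le hI𝔔
  haveI h𝔓₁p : 𝔓₁.IsPrime := h𝔓₁.1.1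
  have hf1 : f ∉ 𝔓₁ := fun hc => hf𝔔 (h𝔓₁le hc)
  have hloc1 : locIdeal 𝒜 𝔓₁ f ≤ 𝔮 := (loc_mono 𝒜 h𝔓₁le f).trans h𝔔e.le
  have hq1 : 𝔮 ≤ locIdeal 𝒜 𝔓₁ f :=
    h𝔮.2 ⟨loc_prime 𝒜 𝔓₁ f hf1, loc_mono 𝒜 h𝔓₁.1.2 f⟩ hloc1
  have h𝔔1 : 𝔔 ≤ 𝔓₁ := le_of_loc_le 𝒜 f_deg hm h𝔔h hf1 (by rw [h𝔔e]; exact hq1)
  have heq : 𝔔 = 𝔓₁ := le_antisymm h𝔔1 h𝔓₁le
  have hspan : Ideal.span ((zs.toFinset : Finset A) : Set A) = Ideal.ofList zs := by
    rw [List.coe_toFinset]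
  have hK : 𝔓₁.height ≤ zs.toFinset.card :=
    Ideal.height_le_card_of_mem_minimalPrimes_span_finset (by rw [hspan]; exact h𝔓₁)
  show (locIdeal 𝒜 (Ideal.ofList zs) f).height ≤ _
  calc (locIdeal 𝒜 (Ideal.ofList zs) f).height ≤ 𝔮.height := Ideal.height_mono h𝔮.1.2
    _ ≤ 𝔔.height := h𝔔ht
    _ = 𝔓₁.height := by rw [heq]
    _ ≤ zs.toFinset.card := hK
    _ ≤ zs.length := by exact_mod_cast List.toFinset_card_le zs

include f_deg hm in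
/-- Lower bound, inductive step. -/
theorem le_height_step
    (J : Ideal A) (hJ : J.IsHomogeneous 𝒜) (h : ℕ) (hJh : geomHeight 𝒜 J f = h)
    (zs : List A) (hzs : ∀ w ∈ zs, ∃ d, w ∈ 𝒜 d) (z : A) (d : ℕ) (hz : z ∈ 𝒜 d)
    (hav : ∀ 𝔓 ∈ (Ideal.ofList zs).minimalPrimes,
      (∃ t : ℕ, 0 < t ∧ ∃ y ∈ 𝒜 t, y ∈ J ∧ y ∉ 𝔓) → z ∉ 𝔓)
    (j : ℕ) (hj : j + 1 ≤ h)
    (IH : ∀ 𝔮 : Ideal (HomogeneousLocalization.Away 𝒜 f), 𝔮.IsPrime →
      locIdeal 𝒜 (Ideal.ofList zs) f ≤ 𝔮 → (j : ℕ∞) ≤ 𝔮.height)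
    (𝔮 : Ideal (HomogeneousLocalization.Away 𝒜 f)) (h𝔮 : 𝔮.IsPrime)
    (hle : locIdeal 𝒜 (Ideal.ofList (zs ++ [z])) f ≤ 𝔮) :
    ((j + 1 : ℕ) : ℕ∞) ≤ 𝔮.height := by
  classical
  obtain ⟨𝔔, h𝔔p, -, hf𝔔, h𝔔e, -⟩ := exists_lift 𝒜 f_deg hm 𝔮 h𝔮
  haveI := h𝔔p
  have hzs' : ∀ w ∈ zs ++ [z], ∃ d, w ∈ 𝒜 d := by
    intro w hw
    rcases List.mem_append.1 hw with hw | hw
    · exact hzs w hw
    · rw [List.mem_singleton] at hw
      exact ⟨d, hw ▸ hz⟩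
  have hI𝔔 : Ideal.ofList (zs ++ [z]) ≤ 𝔔 :=
    ofList_le_of_loc_le 𝒜 f_deg hm hzs' hf𝔔 (by rw [h𝔔e]; exact hle)
  have hz𝔔 : z ∈ 𝔔 := hI𝔔 (Ideal.subset_span (by simp))
  have hI𝔔' : Ideal.ofList zs ≤ 𝔔 :=
    le_trans (Ideal.span_mono (fun w hw => List.mem_append_left _ hw)) hI𝔔
  obtain ⟨𝔓₁, h𝔓₁, h𝔓₁le⟩ := Ideal.exists_minimalPrimes_le hI𝔔'
  haveI h𝔓₁p : 𝔓₁.IsPrime := h𝔓₁.1.1
  have hf1 : f ∉ 𝔓₁ := fun hc => hf𝔔 (h𝔓₁le hc)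
  have hloc1 : locIdeal 𝒜 𝔓₁ f ≤ 𝔮 := (loc_mono 𝒜 h𝔓₁le f).trans h𝔔e.le
  by_cases hc : ∃ t : ℕ, 0 < t ∧ ∃ y ∈ 𝒜 t, y ∈ J ∧ y ∉ 𝔓₁
  · have hz1 : z ∉ 𝔓₁ := hav 𝔓₁ h𝔓₁ hc
    haveI hp1 : (locIdeal 𝒜 𝔓₁ f).IsPrime := loc_prime 𝒜 𝔓₁ f hf1
    have hlt : locIdeal 𝒜 𝔓₁ f < 𝔮 := by
      refine lt_of_le_of_ne hloc1 ?_
      intro heq
      apply hz1
      rw [← zfrac_mem_iff 𝒜 f_deg hm 𝔓₁ hf1 z d hz, heq, ← h𝔔e,
        zfrac_mem_iff 𝒜 f_deg hm 𝔔 hf𝔔 z d hz]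
      exact hz𝔔
    have h1 := IH _ hp1 (loc_mono 𝒜 h𝔓₁.1.2 f)
    have h2 := Ideal.height_add_one_le_of_lt_of_isPrime hlt
    calc ((j + 1 : ℕ) : ℕ∞) = (j : ℕ∞) + 1 := by push_cast; rfl
      _ ≤ (locIdeal 𝒜 𝔓₁ f).height + 1 := by gcongr
      _ ≤ 𝔮.height := h2
  · have hall : ∀ t, 0 < t → ∀ y ∈ 𝒜 t, y ∈ J → y ∈ 𝔓₁ := by
      intro t ht y hy hyJ
      by_contra hn
      exact hc ⟨t, ht, y, hy, hyJ, hn⟩
    have hJ1 : J ≤ 𝔓₁ := le_of_forall_pos_homog_mem 𝒜 f_deg hm hJ hf1 hall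
    have h3 : (h : ℕ∞) ≤ 𝔮.height := by
      rw [← hJh]
      exact Ideal.height_mono ((loc_mono 𝒜 hJ1 f).trans hloc1)
    exact le_trans (by exact_mod_cast hj) h3

end lift

/-! ### the main theorem -/

theorem main [IsNoetherianRing A] (J : Ideal A) (hJ : J.IsHomogeneous 𝒜) (h : ℕ)
    (hJh : HasUniformGeomHeight 𝒜 J h) (P : Finset (Ideal A))
    (hP : ∀ q ∈ P, q.IsPrime ∧ ¬ J ≤ q ∧ ¬ (HomogeneousIdeal.irrelevant 𝒜).toIdeal ≤ q) :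
    ∃ zs : List A, zs.length = h ∧
      (∀ z ∈ zs, (∃ n : ℕ, 0 < n ∧ z ∈ 𝒜 n) ∧ z ∈ J ∧ ∀ q ∈ P, z ∉ q) ∧
      ∀ (f : A) (n : ℕ), 0 < n → f ∈ 𝒜 n → f ∉ J.radical →
        ∀ j : ℕ, 1 ≤ j → j ≤ h → geomHeight 𝒜 (Ideal.ofList (zs.take j)) f = j := by
  classical
  have key : ∀ n : ℕ, n ≤ h → ∃ zs : List A, zs.length = n ∧
      (∀ z ∈ zs, (∃ n : ℕ, 0 < n ∧ z ∈ 𝒜 n) ∧ z ∈ J ∧ ∀ q ∈ P, z ∉ q) ∧
      ∀ (f : A) (k : ℕ), 0 < k → f ∈ 𝒜 k → f ∉ J.radical → ∀ j : ℕ, j ≤ n →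
        ∀ 𝔮 : Ideal (HomogeneousLocalization.Away 𝒜 f), 𝔮.IsPrime →
          locIdeal 𝒜 (Ideal.ofList (zs.take j)) f ≤ 𝔮 → (j : ℕ∞) ≤ 𝔮.height := by
    intro n
    induction n with
    | zero =>
      intro _
      refine ⟨[], rfl, fun z hz => absurd hz List.not_mem_nil, ?_⟩
      intro f k _ _ _ j hj 𝔮 _ _
      have : j = 0 := by omega
      subst this
      simp
    | succ n ih =>
      intro hn
      obtain ⟨zs, hlen, hbasic, hLB⟩ := ih (by omega)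
      have hfin := Ideal.finite_minimalPrimes_of_isNoetherianRing A (Ideal.ofList zs)
      let S : Finset (Ideal A) := P ∪ hfin.toFinset.filter
        (fun 𝔓 => ∃ t : ℕ, 0 < t ∧ ∃ y ∈ 𝒜 t, y ∈ J ∧ y ∉ 𝔓)
      have hS1 : ∀ Q ∈ S, Q.IsPrime := by
        intro Q hQ
        rcases Finset.mem_union.1 hQ with hQ | hQ
        · exact (hP Q hQ).1
        · exact ((hfin.mem_toFinset).1 (Finset.mem_filter.1 hQ).1).1.1
      have hS2 : ∀ Q ∈ S, ∃ t : ℕ, 0 < t ∧ ∃ y ∈ 𝒜 t, y ∈ J ∧ y ∉ Q := by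
        intro Q hQ
        rcases Finset.mem_union.1 hQ with hQ | hQ
        · haveI := (hP Q hQ).1
          exact exists_pos_homog_notMem 𝒜 hJ Q (hP Q hQ).2.1 (hP Q hQ).2.2
        · exact (Finset.mem_filter.1 hQ).2
      obtain ⟨t, ht, z, hzt, hzJ, hzS⟩ := hpa 𝒜 J S hS1 hS2
      refine ⟨zs ++ [z], by simp [hlen], ?_, ?_⟩
      · intro w hw
        rcases List.mem_append.1 hw with hw | hw
        · exact hbasic w hw
        · rw [List.mem_singleton] at hw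
          subst hw
          exact ⟨⟨t, ht, hzt⟩, hzJ, fun q hq => hzS q (Finset.mem_union_left _ hq)⟩
      · intro f k hk hfk hfJ j hj 𝔮 h𝔮 hle
        rcases Nat.lt_or_ge j (n + 1) with hjn | hjn
        · have hj' : j ≤ zs.length := by omega
          rw [List.take_append_of_le_length hj'] at hle
          exact hLB f k hk hfk hfJ j (by omega) 𝔮 h𝔮 hle
        · have hj1 : j = n + 1 := by omega
          subst hj1
          have htake : (zs ++ [z]).take (n + 1) = zs ++ [z] :=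
            List.take_of_length_le (by simp [hlen])
          rw [htake] at hle
          have hzs_h : ∀ w ∈ zs, ∃ d, w ∈ 𝒜 d := fun w hw => by
            obtain ⟨⟨d, _, hd⟩, _⟩ := hbasic w hw
            exact ⟨d, hd⟩
          have htk : zs.take n = zs := List.take_of_length_le (by omega)
          refine le_height_step 𝒜 hfk hk J hJ h (hJh f k hk hfk hfJ) zs hzs_h z t hzt ?_ n hn ?_
            𝔮 h𝔮 hle
          · intro 𝔓 h𝔓 hex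
            exact hzS 𝔓 (Finset.mem_union_right _
              (Finset.mem_filter.2 ⟨(hfin.mem_toFinset).2 h𝔓, hex⟩))
          · intro 𝔮' h𝔮' hle'
            have := hLB f k hk hfk hfJ n le_rfl 𝔮' h𝔮'
            rw [htk] at this
            exact this hle'
  obtain ⟨zs, hlen, hbasic, hLB⟩ := key h le_rfl
  refine ⟨zs, hlen, hbasic, ?_⟩
  intro f n hn hfn hfJ j _ hjh
  have hzs_h : ∀ w ∈ zs.take j, ∃ d, w ∈ 𝒜 d := fun w hw => by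
    obtain ⟨⟨d, _, hd⟩, _⟩ := hbasic w (List.mem_of_mem_take hw)
    exact ⟨d, hd⟩
  have hleJ : Ideal.ofList (zs.take j) ≤ J := by
    rw [Ideal.span_le]
    intro w hw
    exact (hbasic w (List.mem_of_mem_take hw)).2.1
  have hne : locIdeal 𝒜 (Ideal.ofList (zs.take j)) f ≠ ⊤ := fun htop =>
    loc_ne_top 𝒜 J f hfJ (top_le_iff.1 (htop ▸ loc_mono 𝒜 hleJ f))
  apply le_antisymm
  · have := height_loc_le 𝒜 hfn hn (zs.take j) hzs_h hne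
    rw [List.length_take, hlen, min_eq_left hjh] at this
    exact this
  · show (j : ℕ∞) ≤ (locIdeal 𝒜 (Ideal.ofList (zs.take j)) f).height
    rw [Ideal.height_eq_inf_minimalPrimes]
    refine le_iInf₂ fun 𝔮 h𝔮 => ?_
    exact hLB f n hn hfn hfJ j hjh 𝔮 h𝔮.1.1 h𝔮.1.2

end Groth.Agent.Lib.GeomHtH1
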