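import Mathlib
import Groth.Prelude
import Groth.Agent.Lib.GPI6_helper8
import Groth.Agent.Lib.GeomConnG_helper8

/-!
# Geometric integrality of a fibre = geometric pointwise integrality + geometric connectedness
(helper8)
APPEND-ONLY once landed.
-/

set_option autoImplicit false
set_option linter.all false
set_option maxHeartbeats 1600000

universe u

open CategoryTheory AlgebraicGeometry CategoryTheory.Limits Topology

namespace Groth.Agent.Lib.GeomIntH8

open Groth.Agent.Lib.GPIH8

theorem connectedSpace_of_card_eq_one {α : Type*} [TopologicalSpace α]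
    (h : ENat.card (_root_.ConnectedComponents α) = 1) : ConnectedSpace α := by
  rw [ENat.card_eq_one_iff_unique] at h
  obtain ⟨hu⟩ := h
  obtain ⟨x₀, hx₀⟩ := ConnectedComponents.surjective_coe (α := α) hu.default
  have huniv : connectedComponent x₀ = Set.univ := by
    ext y
    simp only [Set.mem_univ, iff_true]
    have : (y : _root_.ConnectedComponents α) = x₀ := by
      rw [hu.uniq (y : _root_.ConnectedComponents α), hu.uniq (x₀ : _root_.ConnectedComponents α)]
    exact ConnectedComponents.coe_eq_coe'.mp this
  have hp : IsPreconnected (Set.univ : Set α) := huniv ▸ isPreconnected_connectedComponent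
  exact { isPreconnected_univ := hp, toNonempty := ⟨x₀⟩ }

theorem card_eq_one_of_connectedSpace {α : Type*} [TopologicalSpace α] [ConnectedSpace α] :
    ENat.card (_root_.ConnectedComponents α) = 1 := by
  rw [ENat.card_eq_one_iff_unique]
  obtain ⟨x₀⟩ : Nonempty α := inferInstance
  exact ⟨{ default := (x₀ : _root_.ConnectedComponents α), uniq := fun a => Subsingleton.elim _ _ }⟩

theorem connectedSpace_of_surjective {α β : Type*} [TopologicalSpace α] [TopologicalSpace β]
    [ConnectedSpace α] (p : α → β) (hp : Continuous p) (hs : Function.Surjective p) :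
    ConnectedSpace β := by
  obtain ⟨x₀⟩ : Nonempty α := inferInstance
  have h1 : IsPreconnected (Set.range p) := isPreconnected_range hp
  rw [hs.range_eq] at h1
  exact { isPreconnected_univ := h1, toNonempty := ⟨p x₀⟩ }

/-- a connected scheme with finitely many irreducible components all of whose local rings are
domains is integral -/
theorem isIntegral_of_connected_of_stalks (W : Scheme.{u}) [ConnectedSpace W]
    (hfin : (irreducibleComponents W).Finite) (h : ∀ w : W, IsDomain (W.presheaf.stalk w)) :
    IsIntegral W := by
  haveI : ∀ w : W, _root_.IsReduced (W.presheaf.stalk w) := fun w => by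
    haveI := h w; infer_instance
  haveI : IsReduced W := isReduced_of_isReduced_stalk W
  obtain ⟨w₀⟩ : Nonempty W := inferInstance
  have hZ := irreducibleComponent_mem_irreducibleComponents w₀
  have huniq : ∀ w : W, ∀ Z₁ ∈ irreducibleComponents W, ∀ Z₂ ∈ irreducibleComponents W,
      w ∈ Z₁ → w ∈ Z₂ → Z₁ = Z₂ := fun w => ((stalk_isDomain_iff W w).mp (h w)).2
  have hcompl : (irreducibleComponent w₀)ᶜ =
      ⋃₀ (irreducibleComponents W \ {irreducibleComponent w₀}) := by
    ext w
    simp only [Set.mem_compl_iff, Set.mem_sUnion, Set.mem_diff, Set.mem_singleton_iff]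
    constructor
    · intro hw
      refine ⟨irreducibleComponent w, ⟨irreducibleComponent_mem_irreducibleComponents w, ?_⟩,
        mem_irreducibleComponent⟩
      intro heq
      exact hw (heq ▸ mem_irreducibleComponent)
    · rintro ⟨Z', ⟨hZ', hne⟩, hwZ'⟩ hw
      exact hne (huniq w Z' hZ' _ hZ hwZ' hw)
  have hopen : IsOpen (irreducibleComponent w₀) := by
    rw [← isClosed_compl_iff, hcompl]
    rw [Set.sUnion_eq_biUnion]
    exact (hfin.subset Set.diff_subset).isClosed_biUnion
      (fun Z' hZ' => isClosed_of_mem_irreducibleComponents Z' hZ'.1)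
  have hclopen : IsClopen (irreducibleComponent w₀) := ⟨isClosed_irreducibleComponent, hopen⟩
  have huniv := hclopen.eq_univ ⟨w₀, mem_irreducibleComponent⟩
  haveI : IrreducibleSpace W := by
    have h1 : IsIrreducible (Set.univ : Set W) := huniv ▸ isIrreducible_irreducibleComponent
    exact (irreducibleSpace_def W).mpr h1
  exact isIntegral_of_irreducibleSpace_of_isReduced W

end Groth.Agent.Lib.GeomIntH8
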