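import Mathlib
import Groth.Prelude
import Groth.Agent.Lib.GeomInt1_helper8

/-!
# Geometric integrality of a fibre = geometric pointwise integrality + geometric connectedness,
part 2 (helper8)
APPEND-ONLY once landed.
-/

set_option autoImplicit false
set_option linter.all false
set_option maxHeartbeats 1600000

universe u

open CategoryTheory AlgebraicGeometry CategoryTheory.Limits Topology

namespace Groth.Agent.Lib.GeomIntH8

open Groth.Agent.Lib.GPIH8

theorem isIntegral_pullback_of_PG {X Y : Scheme.{u}} (f : X ⟶ Y) [LocallyOfFiniteType f]
    [QuasiCompact f] (K : Type u) [Field K] (t : Spec (CommRingCat.of K) ⟶ Y)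
    (hPG : ∀ x, f x = t (IsLocalRing.closedPoint K) → PG (fun R _ => IsDomain R) f x)
    (hn : MoreMor.nGeomConnComp f (t (IsLocalRing.closedPoint K)) = 1) :
    IsIntegral (pullback f t) := by
  haveI hsub : Subsingleton ↥(Spec (CommRingCat.of K)) :=
    (inferInstance : Subsingleton (PrimeSpectrum K))
  haveI : IsLocallyNoetherian (pullback f t) := inferInstance
  haveI : CompactSpace ↥(pullback f t) :=
    QuasiCompact.compactSpace_of_compactSpace (pullback.snd f t)
  haveI : IsNoetherian (pullback f t) := {}
  have hfin := finite_irreducibleComponents_of_isNoetherian (X := pullback f t)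
  -- connectedness
  obtain ⟨i, hi⟩ : ∃ i : Spec (CommRingCat.of (AlgebraicClosure K)) ⟶ Spec (CommRingCat.of K),
      i = Spec.map (CommRingCat.ofHom (algebraMap K (AlgebraicClosure K))) := ⟨_, rfl⟩
  have hcard : ENat.card (_root_.ConnectedComponents ↥(pullback f (i ≫ t))) = 1 := by
    rw [GeomConnH8.card_cc_pullback_eq_nGeomConnComp' f (AlgebraicClosure K) (i ≫ t)]
    have h1 : (i ≫ t) (IsLocalRing.closedPoint (AlgebraicClosure K)) =
        t (IsLocalRing.closedPoint K) := by
      rw [Scheme.Hom.comp_apply]
      congr 1
      exact Subsingleton.elim _ _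
    rw [h1]
    exact hn
  haveI : ConnectedSpace ↥(pullback f (i ≫ t)) := connectedSpace_of_card_eq_one hcard
  haveI : ConnectedSpace ↥(pullback (pullback.snd f t) i) :=
    connectedSpace_of_surjective (pullbackLeftPullbackSndIso f t i).inv
      (pullbackLeftPullbackSndIso f t i).inv.continuous
      (pullbackLeftPullbackSndIso f t i).inv.homeomorph.surjective
  haveI : Surjective i :=
    ⟨fun x => ⟨IsLocalRing.closedPoint (AlgebraicClosure K), Subsingleton.elim _ _⟩⟩
  haveI : Surjective (pullback.fst (pullback.snd f t) i) :=
    MorphismProperty.pullback_fst _ _ inferInstance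
  haveI : ConnectedSpace ↥(pullback f t) :=
    connectedSpace_of_surjective (pullback.fst (pullback.snd f t) i)
      (pullback.fst (pullback.snd f t) i).continuous
      (pullback.fst (pullback.snd f t) i).surjective
  apply isIntegral_of_connected_of_stalks _ hfin
  intro w
  refine hPG (pullback.fst f t w) ?_ K t w rfl
  rw [← Scheme.Hom.comp_apply, pullback.condition, Scheme.Hom.comp_apply]
  congr 1
  exact Subsingleton.elim _ _

theorem isIntegral_of_iso {W W' : Scheme.{u}} (e : W ≅ W') [IsIntegral W'] : IsIntegral W := by
  haveI : Nonempty W := ⟨e.inv (Nonempty.some inferInstance)⟩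
  exact isIntegral_of_isOpenImmersion e.hom

/-- **geometric integrality of a fibre**: geometric pointwise integrality at all points of the fibre
plus geometric connectedness. -/
theorem geometricallyIntegral_fiber_iff {X Y : Scheme.{u}} (f : X ⟶ Y) [LocallyOfFiniteType f]
    [QuasiCompact f] (y : Y) :
    GeometricallyIntegral (f.fiberToSpecResidueField y) ↔
      (∀ x, f x = y → PG (fun R _ => IsDomain R) f x) ∧ MoreMor.nGeomConnComp f y = 1 := by
  constructor
  · intro hGI
    haveI := hGI
    constructor
    · apply (forall_fiber_iff (fun R _ => IsDomain R) descInj_isDomain f y).1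
      intro z K _ _ x' _
      haveI : IsIntegral (FBase.bc (f.fiberToSpecResidueField y) K) :=
        hGI.geometrically_isIntegral _ _ _ (IsPullback.of_hasPullback
          (f.fiberToSpecResidueField y)
          (Spec.map (CommRingCat.ofHom
            (algebraMap (IsLocalRing.ResidueField ↑(Y.presheaf.stalk y)) K))))
      infer_instance
    · haveI : IsIntegral (MoreMor.geomFiber f y) :=
        hGI.geometrically_isIntegral _ _ _ (IsPullback.of_hasPullback
          (f.fiberToSpecResidueField y)
          (Spec.map (CommRingCat.ofHom (algebraMap (Y.residueField y)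
            (SeparableClosure (Y.residueField y))))))
      haveI : ConnectedSpace ↥(MoreMor.geomFiber f y) := inferInstance
      exact card_eq_one_of_connectedSpace
  · rintro ⟨hPG, hn⟩
    refine ⟨fun K _ t' Z fst snd sq => ?_⟩
    have hpt : (t' ≫ Y.fromSpecResidueField y) (IsLocalRing.closedPoint K) = y := by
      rw [Scheme.Hom.comp_apply]
      exact Scheme.fromSpecResidueField_apply _ _
    have sq2 : IsPullback (fst ≫ f.fiberι y) snd f (t' ≫ Y.fromSpecResidueField y) :=
      sq.paste_horiz (IsPullback.of_hasPullback f (Y.fromSpecResidueField y))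
    haveI : IsIntegral (pullback f (t' ≫ Y.fromSpecResidueField y)) :=
      isIntegral_pullback_of_PG f K (t' ≫ Y.fromSpecResidueField y)
        (fun x hx => hPG x (hx.trans hpt)) (by rw [hpt]; exact hn)
    exact isIntegral_of_iso sq2.isoPullback

end Groth.Agent.Lib.GeomIntH8
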