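import Mathlib
import Groth.Agent.Lib.CohenLift_helper3
import Groth.Agent.Lib.PerfectGR_helper3

/-!
# Geometrically reduced field extensions: base change to arbitrary fields (helper8)
APPEND-ONLY once landed.
-/

set_option autoImplicit false
set_option linter.all false
set_option maxHeartbeats 1600000

universe u

open TensorProduct

namespace Groth.Agent.Lib.GeomRedFieldH8

section AlgClosed

variable (κ Ω R : Type u) [Field κ] [IsAlgClosed κ] [Field Ω] [Algebra κ Ω] [CommRing R] [Algebra κ R]

theorem isReduced_tensor_of_isAlgClosed_fg [Algebra.FiniteType κ R] [IsReduced R] :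
    IsReduced (Ω ⊗[κ] R) := by
  classical
  let b := Module.Basis.ofVectorSpace κ Ω
  let e := TensorProduct.equivFinsuppOfBasisLeft (N := R) b
  haveI : IsJacobsonRing R := isJacobsonRing_of_finiteType (A := κ) (B := R)
  refine ⟨fun ξ hξ => ?_⟩
  have key : ∀ (m : Ideal R), m.IsMaximal → ∀ i, e ξ i ∈ m := by
    intro m hm i
    letI : Field (R ⧸ m) := Ideal.Quotient.field m
    haveI : Module.Finite κ (R ⧸ m) := finite_of_finite_type_of_isJacobsonRing κ (R ⧸ m)
    have hbij : Function.Bijective (algebraMap κ (R ⧸ m)) :=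
      IsAlgClosed.algebraMap_bijective_of_isIntegral (k := κ)
    let ψ' : (R ⧸ m) ≃ₐ[κ] κ := (AlgEquiv.ofBijective (Algebra.ofId κ (R ⧸ m)) hbij).symm
    let ψ : R →ₐ[κ] κ := ψ'.toAlgHom.comp (Ideal.Quotient.mkₐ κ m)
    let Φ : Ω ⊗[κ] R →ₐ[κ] Ω :=
      Algebra.TensorProduct.productMap (AlgHom.id κ Ω) ((Algebra.ofId κ Ω).comp ψ)
    have h0 : Φ ξ = 0 := (hξ.map Φ).eq_zero
    have hξe : ξ = (e ξ).sum fun i n => b i ⊗ₜ[κ] n := by
      conv_lhs => rw [← e.symm_apply_apply ξ]
      exact TensorProduct.equivFinsuppOfBasisLeft_symm_apply b (e ξ)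
    have h1 : Φ ξ = Finsupp.linearCombination κ b ((e ξ).mapRange ψ (map_zero ψ)) := by
      conv_lhs => rw [hξe]
      rw [Finsupp.sum, map_sum, Finsupp.linearCombination_apply, Finsupp.sum_mapRange_index
        (fun i => by simp)]
      rw [Finsupp.sum]
      refine Finset.sum_congr rfl fun i _ => ?_
      simp only [Φ, Algebra.TensorProduct.productMap_apply_tmul, AlgHom.coe_id, id_eq,
        AlgHom.coe_comp, Function.comp_apply, Algebra.ofId_apply]
      rw [Algebra.smul_def, mul_comm]
    rw [h1] at h0
    have h2 := (linearIndependent_iff.1 b.linearIndependent) _ h0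
    have h3 : ψ (e ξ i) = 0 := by
      have := DFunLike.congr_fun h2 i
      simpa using this
    have h4 : ψ' (Ideal.Quotient.mk m (e ξ i)) = 0 := h3
    have h5 : Ideal.Quotient.mk m (e ξ i) = 0 := by
      have := congrArg ψ'.symm h4
      simpa using this
    exact Ideal.Quotient.eq_zero_iff_mem.1 h5
  have hjac : (⊥ : Ideal R).jacobson = ⊥ :=
    IsJacobsonRing.out' _ Ideal.isRadical_bot
  have h6 : e ξ = 0 := by
    ext i
    have : e ξ i ∈ (⊥ : Ideal R).jacobson := by
      rw [Ideal.jacobson, Ideal.mem_sInf]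
      rintro m ⟨-, hm⟩
      exact key m hm i
    rw [hjac] at this
    simpa using this
  exact e.injective (by rw [h6, map_zero])

theorem isReduced_tensor_of_isAlgClosed [IsReduced R] : IsReduced (Ω ⊗[κ] R) := by
  apply IsReduced.tensorProduct_of_flat_of_forall_fg
  intro B hB
  haveI : Algebra.FiniteType κ B := (Subalgebra.fg_iff_finiteType B).1 hB
  haveI : IsReduced B := isReduced_of_injective B.val Subtype.val_injective
  exact isReduced_tensor_of_isAlgClosed_fg κ Ω B

end AlgClosed

section General

variable (k L : Type u) [Field k] [Field L] [Algebra k L]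

theorem isReduced_tensor_aux [Algebra.IsGeometricallyReduced k L]
    (κ Ω : Type u) [Field κ] [Algebra k κ] [Algebra.IsAlgebraic k κ] [IsAlgClosed κ] [Field Ω]
    [Algebra κ Ω] [Algebra k Ω] [IsScalarTower k κ Ω] : IsReduced (Ω ⊗[k] L) := by
  haveI h1 : IsReduced (κ ⊗[k] L) := inferInstance
  haveI h2 : IsReduced (Ω ⊗[κ] (κ ⊗[k] L)) := isReduced_tensor_of_isAlgClosed κ Ω (κ ⊗[k] L)
  let e := Algebra.TensorProduct.cancelBaseChange k κ κ Ω L
  exact isReduced_of_injective e.symm.toAlgHom e.symm.injective

/-- Mathlib TODO: a geometrically reduced field extension stays reduced after base change to any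
field. -/
theorem isReduced_tensor_of_isGeometricallyReduced [Algebra.IsGeometricallyReduced k L]
    (K : Type u) [Field K] [Algebra k K] : IsReduced (K ⊗[k] L) := by
  haveI : IsAlgClosure k (algebraicClosure k (AlgebraicClosure K)) :=
    algebraicClosure.isAlgClosure k (AlgebraicClosure K)
  haveI : IsAlgClosed (algebraicClosure k (AlgebraicClosure K)) := IsAlgClosure.isAlgClosed k
  haveI : Algebra.IsAlgebraic k (algebraicClosure k (AlgebraicClosure K)) :=
    IsAlgClosure.isAlgebraic
  haveI h3 : IsReduced ((AlgebraicClosure K) ⊗[k] L) :=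
    isReduced_tensor_aux k L (algebraicClosure k (AlgebraicClosure K)) (AlgebraicClosure K)
  exact isReduced_of_injective
    (Algebra.TensorProduct.map (IsScalarTower.toAlgHom k K (AlgebraicClosure K)) (AlgHom.id k L))
    (Module.Flat.rTensor_preserves_injective_linearMap _ (RingHom.injective _))

end General

section PI

variable (k L : Type u) [Field k] [Field L] [Algebra k L]

theorem coeff_eq_zero_aux (k' : Type u) [Field k'] [Algebra k k'] [IsReduced (k' ⊗[k] L)]
    (p : ℕ) [hp : Fact p.Prime] [CharP k p]
    {J : Type*} [Fintype J] (s : J → L) (hs : LinearIndependent k s) (c : J → k)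
    (hc : ∑ i, c i • s i ^ p = 0) (γ' : J → k') (hγ' : ∀ j, γ' j ^ p = algebraMap k k' (c j))
    (i : J) : c i = 0 := by
  classical
  haveI : Nontrivial (k' ⊗[k] L) :=
    (Algebra.TensorProduct.includeLeft_injective (S := k)
      (algebraMap k L).injective : Function.Injective
        (Algebra.TensorProduct.includeLeft : k' →ₐ[k] _)).nontrivial
  haveI : CharP (k' ⊗[k] L) p :=
    charP_of_injective_algebraMap (algebraMap k (k' ⊗[k] L)).injective p
  have hz : (∑ x : J, γ' x ⊗ₜ[k] (s x)) ^ p = 0 := by
    rw [sum_pow_char]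
    simp_rw [Algebra.TensorProduct.tmul_pow, hγ']
    have : ∀ x : J, (algebraMap k k' (c x)) ⊗ₜ[k] ((s x) ^ p) =
        (1 : k') ⊗ₜ[k] (c x • (s x) ^ p) := by
      intro x
      rw [Algebra.algebraMap_eq_smul_one, TensorProduct.smul_tmul]
    simp_rw [this]
    rw [← TensorProduct.tmul_sum, hc, TensorProduct.tmul_zero]
  have hz0 : (∑ x : J, γ' x ⊗ₜ[k] (s x)) = 0 := IsReduced.eq_zero _ ⟨p, hz⟩
  have hli := Module.Flat.linearIndependent_one_tmul (S := k') hs
  rw [Fintype.linearIndependent_iff] at hli
  have h0 := hli γ' (by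
    rw [← hz0]
    refine Finset.sum_congr rfl fun x _ => ?_
    rw [TensorProduct.smul_tmul', smul_eq_mul, mul_one]) i
  have h1 := hγ' i
  rw [h0, zero_pow hp.out.ne_zero] at h1
  exact (map_eq_zero _).mp h1.symm

theorem linearIndependent_pow_fintype (p : ℕ) [hp : Fact p.Prime] [CharP k p]
    (H : ∀ (k' : Type u) [Field k'] [Algebra k k'] [FiniteDimensional k k']
      [IsPurelyInseparable k k'], IsReduced (k' ⊗[k] L))
    {J : Type*} [Fintype J] (s : J → L) (hs : LinearIndependent k s) :
    LinearIndependent k (fun j => s j ^ p) := by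
  classical
  rw [Fintype.linearIndependent_iff]
  intro c hc i
  have hγ : ∀ x : J, ∃ γ : AlgebraicClosure k,
      γ ^ p = algebraMap k (AlgebraicClosure k) (c x) :=
    fun x => IsAlgClosed.exists_pow_nat_eq _ hp.out.pos
  choose γ hγ using hγ
  haveI : FiniteDimensional k (IntermediateField.adjoin k (Set.range γ)) :=
    IntermediateField.finiteDimensional_adjoin (fun x _ => Algebra.IsIntegral.isIntegral x)
  haveI : ExpChar k p := ExpChar.prime hp.out
  haveI : IsPurelyInseparable k (IntermediateField.adjoin k (Set.range γ)) := by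
    rw [IntermediateField.isPurelyInseparable_adjoin_iff_pow_mem k _ p]
    rintro x ⟨j, rfl⟩
    exact ⟨1, c j, by rw [pow_one, hγ]⟩
  haveI : IsReduced ((IntermediateField.adjoin k (Set.range γ)) ⊗[k] L) :=
    H (IntermediateField.adjoin k (Set.range γ))
  exact coeff_eq_zero_aux k L (IntermediateField.adjoin k (Set.range γ)) p s hs c hc
    (fun j => ⟨γ j, IntermediateField.subset_adjoin k _ ⟨j, rfl⟩⟩)
    (fun j => Subtype.ext (hγ j)) i

theorem isGeometricallyReduced_of_forall_purelyInseparable
    (H : ∀ (k' : Type u) [Field k'] [Algebra k k'] [FiniteDimensional k k']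
      [IsPurelyInseparable k k'], IsReduced (k' ⊗[k] L)) :
    Algebra.IsGeometricallyReduced k L := by
  obtain ⟨p, hp⟩ := CharP.exists k
  rcases CharP.char_is_prime_or_zero k p with hpp | rfl
  · haveI : Fact p.Prime := ⟨hpp⟩
    refine Groth.Agent.Lib.CohenLiftH3.isGeometricallyReduced_of_linearIndependent_pow p k L ?_
    intro s hs
    rw [linearIndependent_iff_finset_linearIndependent]
    intro t
    have hs' : LinearIndependent k (s ∘ (Subtype.val : t → _)) :=
      hs.comp _ Subtype.val_injective
    exact linearIndependent_pow_fintype k L p H _ hs'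
  · haveI : CharZero k := CharP.charP_to_charZero k
    exact Groth.Agent.Lib.PerfectGRH3.isGeometricallyReduced_of_perfectField k L

/-- the main field-theoretic input: if `k' ⊗ L` is reduced for all finite purely inseparable
`k'/k`, then `K ⊗ L` is reduced for every field extension `K/k`. -/
theorem isReduced_tensor_of_forall_purelyInseparable
    (H : ∀ (k' : Type u) [Field k'] [Algebra k k'] [FiniteDimensional k k']
      [IsPurelyInseparable k k'], IsReduced (k' ⊗[k] L))
    (K : Type u) [Field K] [Algebra k K] : IsReduced (K ⊗[k] L) := by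
  haveI := isGeometricallyReduced_of_forall_purelyInseparable k L H
  exact isReduced_tensor_of_isGeometricallyReduced k L K

end PI

end Groth.Agent.Lib.GeomRedFieldH8
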