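import Mathlib
import Groth.Agent.Lib.GeomRedField_helper8

/-!
# Geometrically integral field extensions: base change to arbitrary fields (helper8)
APPEND-ONLY once landed.
-/

set_option autoImplicit false
set_option linter.all false
set_option maxHeartbeats 1600000

universe u

open TensorProduct

namespace Groth.Agent.Lib.GeomIntFieldH8

section FG

/-- two elements of a tensor product come from a finitely generated subalgebra of the right
factor. -/
lemma exists_fg_and_mem_baseChange₂ {R A B : Type*} [CommSemiring R]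
    [CommSemiring A] [Semiring B] [Algebra R A] [Algebra R B] (x y : A ⊗[R] B) :
    ∃ C : Subalgebra R B, C.FG ∧ x ∈ C.baseChange A ∧ y ∈ C.baseChange A := by
  obtain ⟨S, hS⟩ := TensorProduct.exists_finset x
  obtain ⟨T, hT⟩ := TensorProduct.exists_finset y
  classical
  refine ⟨Algebra.adjoin R ((S ∪ T).image fun j ↦ j.2), ?_, ?_, ?_⟩
  · exact Subalgebra.fg_adjoin_finset _
  · exact hS ▸ Subalgebra.sum_mem _ fun s hs ↦ (Subalgebra.tmul_mem_baseChange
      (Algebra.subset_adjoin (Finset.mem_image_of_mem _ (Finset.mem_union_left _ hs))) s.1)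
  · exact hT ▸ Subalgebra.sum_mem _ fun s hs ↦ (Subalgebra.tmul_mem_baseChange
      (Algebra.subset_adjoin (Finset.mem_image_of_mem _ (Finset.mem_union_right _ hs))) s.1)

theorem noZeroDivisors_tensor_of_forall_fg {R C A : Type*}
    [CommRing R] [CommRing C] [CommRing A] [Algebra R A] [Algebra R C] [Module.Flat R C]
    (h : ∀ B : Subalgebra R A, B.FG → NoZeroDivisors (C ⊗[R] B)) :
    NoZeroDivisors (C ⊗[R] A) := by
  refine ⟨fun {x y} hxy => ?_⟩
  obtain ⟨D, hDfg, hx, hy⟩ := exists_fg_and_mem_baseChange₂ x y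
  have h_inj : Function.Injective
      (Algebra.TensorProduct.map (AlgHom.id C C) D.val) :=
    Module.Flat.lTensor_preserves_injective_linearMap _ Subtype.val_injective
  obtain ⟨x', rfl⟩ := hx
  obtain ⟨y', rfl⟩ := hy
  haveI := h D hDfg
  have h0 : x' * y' = 0 := by
    apply h_inj
    rw [map_mul, map_zero]
    exact hxy
  rcases mul_eq_zero.1 h0 with h1 | h1
  · left; rw [h1, map_zero]
  · right; rw [h1, map_zero]

end FG

section AlgClosed

variable (κ Ω R : Type u) [Field κ] [IsAlgClosed κ] [Field Ω] [Algebra κ Ω] [CommRing R] [Algebra κ R]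

/-- evaluation at a maximal ideal of a finitely generated algebra over an algebraically closed
field, extended to `Ω ⊗ R → Ω`; it detects coefficients in the maximal ideal. -/
theorem exists_eval [Algebra.FiniteType κ R] [DecidableEq (Module.Basis.ofVectorSpaceIndex κ Ω)]
    (m : Ideal R) (hm : m.IsMaximal) :
    ∃ Φ : Ω ⊗[κ] R →ₐ[κ] Ω, ∀ ξ : Ω ⊗[κ] R, Φ ξ = 0 →
      ∀ i, TensorProduct.equivFinsuppOfBasisLeft (N := R) (Module.Basis.ofVectorSpace κ Ω) ξ i ∈ m := by
  let b := Module.Basis.ofVectorSpace κ Ω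
  let e := TensorProduct.equivFinsuppOfBasisLeft (N := R) b
  haveI : IsJacobsonRing R := isJacobsonRing_of_finiteType (A := κ) (B := R)
  letI : Field (R ⧸ m) := Ideal.Quotient.field m
  haveI : Module.Finite κ (R ⧸ m) := finite_of_finite_type_of_isJacobsonRing κ (R ⧸ m)
  have hbij : Function.Bijective (algebraMap κ (R ⧸ m)) :=
    IsAlgClosed.algebraMap_bijective_of_isIntegral (k := κ)
  let ψ' : (R ⧸ m) ≃ₐ[κ] κ := (AlgEquiv.ofBijective (Algebra.ofId κ (R ⧸ m)) hbij).symm
  let ψ : R →ₐ[κ] κ := ψ'.toAlgHom.comp (Ideal.Quotient.mkₐ κ m)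
  let Φ : Ω ⊗[κ] R →ₐ[κ] Ω :=
    Algebra.TensorProduct.productMap (AlgHom.id κ Ω) ((Algebra.ofId κ Ω).comp ψ)
  refine ⟨Φ, fun ξ h0 i => ?_⟩
  have hξe : ξ = (e ξ).sum fun i n => b i ⊗ₜ[κ] n := by
    conv_lhs => rw [← e.symm_apply_apply ξ]
    exact TensorProduct.equivFinsuppOfBasisLeft_symm_apply b (e ξ)
  have h1 : Φ ξ = Finsupp.linearCombination κ b ((e ξ).mapRange ψ (map_zero ψ)) := by
    conv_lhs => rw [hξe]
    rw [Finsupp.sum, map_sum, Finsupp.linearCombination_apply, Finsupp.sum_mapRange_index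
      (fun i => by simp)]
    rw [Finsupp.sum]
    refine Finset.sum_congr rfl fun i _ => ?_
    simp only [Φ, Algebra.TensorProduct.productMap_apply_tmul, AlgHom.coe_id, id_eq,
      AlgHom.coe_comp, Function.comp_apply, Algebra.ofId_apply]
    rw [Algebra.smul_def, mul_comm]
  rw [h1] at h0
  have h2 := (linearIndependent_iff.1 b.linearIndependent) _ h0
  have h3 : ψ (e ξ i) = 0 := by
    have := DFunLike.congr_fun h2 i
    simpa using this
  have h4 : ψ' (Ideal.Quotient.mk m (e ξ i)) = 0 := h3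
  have h5 : Ideal.Quotient.mk m (e ξ i) = 0 := by
    have := congrArg ψ'.symm h4
    simpa using this
  exact Ideal.Quotient.eq_zero_iff_mem.1 h5

theorem noZeroDivisors_tensor_of_isAlgClosed_fg [Algebra.FiniteType κ R] [IsDomain R] :
    NoZeroDivisors (Ω ⊗[κ] R) := by
  classical
  let b := Module.Basis.ofVectorSpace κ Ω
  let e := TensorProduct.equivFinsuppOfBasisLeft (N := R) b
  haveI : IsJacobsonRing R := isJacobsonRing_of_finiteType (A := κ) (B := R)
  have hjac : (⊥ : Ideal R).jacobson = ⊥ := IsJacobsonRing.out' _ Ideal.isRadical_bot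
  refine ⟨fun {ξ η} hξη => ?_⟩
  by_contra hne
  rw [not_or] at hne
  obtain ⟨hξ, hη⟩ := hne
  have hξ' : e ξ ≠ 0 := fun h => hξ (e.injective (by rw [h, map_zero]))
  have hη' : e η ≠ 0 := fun h => hη (e.injective (by rw [h, map_zero]))
  obtain ⟨i₀, hi₀⟩ := Finsupp.ne_iff.1 hξ'
  obtain ⟨j₀, hj₀⟩ := Finsupp.ne_iff.1 hη'
  have hr : e ξ i₀ * e η j₀ ≠ 0 := mul_ne_zero hi₀ hj₀
  have hr' : e ξ i₀ * e η j₀ ∉ (⊥ : Ideal R).jacobson := by
    rw [hjac]
    exact hr
  rw [Ideal.jacobson, Ideal.mem_sInf] at hr'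
  simp only [not_forall] at hr'
  obtain ⟨m, ⟨-, hm⟩, hrm⟩ := hr'
  obtain ⟨Φ, hΦ⟩ := exists_eval κ Ω R m hm
  have h0 : Φ ξ * Φ η = 0 := by rw [← map_mul, hξη, map_zero]
  rcases mul_eq_zero.1 h0 with h1 | h1
  · exact hrm (m.mul_mem_right _ (hΦ ξ h1 i₀))
  · exact hrm (m.mul_mem_left _ (hΦ η h1 j₀))

theorem noZeroDivisors_tensor_of_isAlgClosed [IsDomain R] : NoZeroDivisors (Ω ⊗[κ] R) := by
  apply noZeroDivisors_tensor_of_forall_fg
  intro B hB
  haveI : Algebra.FiniteType κ B := (Subalgebra.fg_iff_finiteType B).1 hB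
  exact noZeroDivisors_tensor_of_isAlgClosed_fg κ Ω B

end AlgClosed

section General

variable (k L : Type u) [Field k] [Field L] [Algebra k L]

theorem nontrivial_tensor (K : Type u) [Field K] [Algebra k K] : Nontrivial (K ⊗[k] L) :=
  (Algebra.TensorProduct.includeLeft_injective (S := k)
    (algebraMap k L).injective : Function.Injective
      (Algebra.TensorProduct.includeLeft : K →ₐ[k] _)).nontrivial

theorem noZeroDivisors_tensor_of_algebraic
    (H : ∀ (k' : Type u) [Field k'] [Algebra k k'] [FiniteDimensional k k'],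
      IsDomain (k' ⊗[k] L))
    (κ : Type u) [Field κ] [Algebra k κ] [Algebra.IsAlgebraic k κ] :
    NoZeroDivisors (κ ⊗[k] L) := by
  haveI h1 : NoZeroDivisors (L ⊗[k] κ) := by
    apply noZeroDivisors_tensor_of_forall_fg
    intro B hB
    have hfield : IsField B := Subalgebra.isField_of_algebraic B
    letI := hfield.toField
    haveI : Algebra.IsAlgebraic k B := Algebra.IsAlgebraic.of_injective B.val Subtype.val_injective
    haveI : Algebra.FiniteType k B := (Subalgebra.fg_iff_finiteType B).1 hB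
    haveI : Algebra.IsIntegral k B := inferInstance
    haveI : Module.Finite k B := Algebra.IsIntegral.finite
    haveI := H B
    exact (Algebra.TensorProduct.comm k L B).injective.noZeroDivisors _ (map_zero _) (map_mul _)
  exact (Algebra.TensorProduct.comm k κ L).injective.noZeroDivisors _ (map_zero _) (map_mul _)

theorem noZeroDivisors_tensor_aux
    (H : ∀ (k' : Type u) [Field k'] [Algebra k k'] [FiniteDimensional k k'],
      IsDomain (k' ⊗[k] L))
    (κ Ω : Type u) [Field κ] [Algebra k κ] [Algebra.IsAlgebraic k κ] [IsAlgClosed κ] [Field Ω]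
    [Algebra κ Ω] [Algebra k Ω] [IsScalarTower k κ Ω] : NoZeroDivisors (Ω ⊗[k] L) := by
  haveI h1 : NoZeroDivisors (κ ⊗[k] L) := noZeroDivisors_tensor_of_algebraic k L H κ
  haveI : Nontrivial (κ ⊗[k] L) := nontrivial_tensor k L κ
  haveI : IsDomain (κ ⊗[k] L) := {}
  haveI h2 : NoZeroDivisors (Ω ⊗[κ] (κ ⊗[k] L)) :=
    noZeroDivisors_tensor_of_isAlgClosed κ Ω (κ ⊗[k] L)
  let e := Algebra.TensorProduct.cancelBaseChange k κ κ Ω L
  exact e.symm.injective.noZeroDivisors _ (map_zero _) (map_mul _)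

/-- if `k' ⊗ L` is a domain for all finite extensions `k'/k`, then `K ⊗ L` is a domain for every
field extension `K/k`. -/
theorem isDomain_tensor_of_forall_finite
    (H : ∀ (k' : Type u) [Field k'] [Algebra k k'] [FiniteDimensional k k'],
      IsDomain (k' ⊗[k] L))
    (K : Type u) [Field K] [Algebra k K] : IsDomain (K ⊗[k] L) := by
  haveI : IsAlgClosure k (algebraicClosure k (AlgebraicClosure K)) :=
    algebraicClosure.isAlgClosure k (AlgebraicClosure K)
  haveI : IsAlgClosed (algebraicClosure k (AlgebraicClosure K)) := IsAlgClosure.isAlgClosed k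
  haveI : Algebra.IsAlgebraic k (algebraicClosure k (AlgebraicClosure K)) :=
    IsAlgClosure.isAlgebraic
  haveI h3 : NoZeroDivisors ((AlgebraicClosure K) ⊗[k] L) :=
    noZeroDivisors_tensor_aux k L H (algebraicClosure k (AlgebraicClosure K)) (AlgebraicClosure K)
  have hinj : Function.Injective
      (Algebra.TensorProduct.map (IsScalarTower.toAlgHom k K (AlgebraicClosure K)) (AlgHom.id k L)) :=
    Module.Flat.rTensor_preserves_injective_linearMap _ (RingHom.injective _)
  haveI : NoZeroDivisors (K ⊗[k] L) := hinj.noZeroDivisors _ (map_zero _) (map_mul _)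
  haveI : Nontrivial (K ⊗[k] L) := nontrivial_tensor k L K
  exact {}

end General

end Groth.Agent.Lib.GeomIntFieldH8
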