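import Mathlib
import Groth.Prelude.Def_EGA4b
import Groth.Agent.Lib.NormalComplDomain_helper3
import Groth.Agent.Lib.FFNagata_helper3
import Groth.Agent.Lib.ReducedN1_helper3
import Groth.Agent.Lib.AnUnramNagata_helper3
import Groth.Agent.Lib.Japanese_helper9
import Groth.Agent.Lib.HensIntDom_lead

/-!
# Formal fibres of a henselian local ring with geometrically normal formal fibres (helper3)

* `isDomain_tensor_cpl_of_finite_normal_local`: for `A` Noetherian local with geometrically normal
  formal fibres and `C` a finite `A`-algebra which is a normal local domain, `C ⊗[A] Â` is a domain.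
* `isDomain_tensor_of_finite`: for `A` a henselian Noetherian local domain with geometrically normal
  formal fibres and `E` a finite extension of `Frac A`, `E ⊗[A] Â` is a domain.
-/

set_option autoImplicit false
set_option maxSynthPendingDepth 3

namespace Groth.Agent.Lib.GeomIntegralFFH3

universe u

open TensorProduct IsLocalRing

section L0

variable (A : Type u) [CommRing A] [IsNoetherianRing A] [IsLocalRing A]

theorem isDomain_tensor_cpl_of_finite_normal_local (hA : EGA4.HasGeomNormalFormalFibres A)
    (C : Type u) [CommRing C] [IsDomain C] [Algebra A C] [Module.Finite A C] [IsLocalRing C]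
    [IsIntegrallyClosed C] : IsDomain (C ⊗[A] EGA4.Cpl A) := by
  obtain ⟨hloc, hnoeth, hcompl, hff, hlh, hmap⟩ := Groth.Agent.Lib.AnUnramH3.completion_facts A
  haveI := hloc
  haveI := hnoeth
  haveI := hff
  haveI hflat : Module.Flat A (EGA4.Cpl A) := inferInstance
  haveI : IsNoetherianRing C := IsNoetherianRing.of_finite A _
  have hC : EGA4.IsNormalRing C :=
    Groth.Agent.Lib.NormalSmoothBCH3.isNormalRing_of_isIntegrallyClosed _
  haveI : IsNoetherianRing (C ⊗[A] EGA4.Cpl A) :=
    Groth.Agent.Lib.RegFlatH3.isNoetherianRing_tensor_of_essFiniteType' A (EGA4.Cpl A) C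
  have hnormal : EGA4.IsNormalRing (C ⊗[A] EGA4.Cpl A) :=
    Groth.Agent.Lib.GeomNormal2H3.isNormalRing_baseChange' A (EGA4.Cpl A) ⟨hflat, hA⟩ _ hC
  haveI : Algebra.IsIntegral A C := Algebra.IsIntegral.of_finite A _
  haveI hlh' : IsLocalHom (algebraMap A C) :=
    Groth.Agent.Lib.HensIntDom.isLocalHom_of_integral A _
  have h1 : (maximalIdeal A).map (algebraMap A C) ≤ maximalIdeal C :=
    ((IsLocalRing.local_hom_TFAE (algebraMap A C)).out 0 2).mp hlh'
  obtain ⟨k, hk⟩ := Groth.Agent.Lib.ComplTensorH3.exists_jacobson_pow_le A C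
  rw [IsLocalRing.jacobson_eq_maximalIdeal ⊥ bot_ne_top] at hk
  obtain ⟨e, -⟩ := Groth.Agent.Lib.ComplTensorH3.exists_ringEquiv A C (maximalIdeal C) k h1 hk
  obtain ⟨hloc', -, -, -, -, -⟩ := Groth.Agent.Lib.AnUnramH3.completion_facts C
  haveI : IsLocalRing (C ⊗[A] EGA4.Cpl A) :=
    haveI := hloc'
    e.isLocalRing
  exact Groth.Agent.Lib.NormalComplDomainH3.isDomain_of_isNormalRing_of_isLocalRing _ hnormal

end L0

section FiniteExt

variable (A : Type u) [CommRing A] [IsNoetherianRing A] [HenselianLocalRing A] [IsDomain A]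

theorem isDomain_tensor_of_finite (hA : EGA4.HasGeomNormalFormalFibres A)
    (k E : Type u) [Field k] [Field E] [Algebra A k] [IsFractionRing A k] [Algebra A E]
    [Algebra k E] [IsScalarTower A k E] [FiniteDimensional k E] :
    IsDomain (E ⊗[A] EGA4.Cpl A) := by
  obtain ⟨hloc, hnoeth, hcompl, hff, hlh, hmap⟩ := Groth.Agent.Lib.AnUnramH3.completion_facts A
  haveI := hff
  have hred := Groth.Agent.Lib.ReducedN1H3.hasGeomReducedFormalFibres_of_normal A hA
  have hNag := Groth.Agent.Lib.FFNagataH3.isNagata_of_geomReducedFormalFibres A hred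
  have hN2 : CAlg.IsN2 A := Groth.Agent.Lib.AnUnramNagataH3.isN2_of_isNagata_domain A hNag
  have hN2' := (Groth.Agent.Lib.Japanese.isN2_iff_isN2' A).mp hN2
  haveI hfin : Module.Finite A (integralClosure A E) := hN2' k E inferInstance
  haveI : IsIntegrallyClosed (integralClosure A E) :=
    integralClosure.isIntegrallyClosedOfFiniteExtension k
  haveI : IsFractionRing (integralClosure A E) E :=
    integralClosure.isFractionRing_of_finite_extension k E
  haveI : IsLocalRing (integralClosure A E) :=
    Groth.Agent.Lib.HensIntDom.isLocalRing_of_finite_domain A _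
  haveI hdomT := isDomain_tensor_cpl_of_finite_normal_local A hA (integralClosure A E)
  haveI : Module.FaithfullyFlat (integralClosure A E) (integralClosure A E ⊗[A] EGA4.Cpl A) :=
    inferInstance
  have hinjCT : Function.Injective
      (algebraMap (integralClosure A E) (integralClosure A E ⊗[A] EGA4.Cpl A)) :=
    FaithfulSMul.algebraMap_injective _ _
  haveI : IsLocalization (Algebra.algebraMapSubmonoid (integralClosure A E ⊗[A] EGA4.Cpl A)
      (nonZeroDivisors (integralClosure A E)))
      ((integralClosure A E ⊗[A] EGA4.Cpl A) ⊗[integralClosure A E] E) := inferInstance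
  haveI : IsDomain ((integralClosure A E ⊗[A] EGA4.Cpl A) ⊗[integralClosure A E] E) := by
    refine IsLocalization.isDomain_of_le_nonZeroDivisors _
      (M := Algebra.algebraMapSubmonoid (integralClosure A E ⊗[A] EGA4.Cpl A)
        (nonZeroDivisors (integralClosure A E))) ?_
    rintro _ ⟨d, hd, rfl⟩
    exact mem_nonZeroDivisors_of_ne_zero
      ((map_ne_zero_iff _ hinjCT).mpr (nonZeroDivisors.ne_zero hd))
  let e1 : (integralClosure A E ⊗[A] EGA4.Cpl A) ⊗[integralClosure A E] E ≃ₐ[integralClosure A E]
      E ⊗[integralClosure A E] (integralClosure A E ⊗[A] EGA4.Cpl A) :=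
    Algebra.TensorProduct.comm _ _ _
  let e2 : E ⊗[integralClosure A E] (integralClosure A E ⊗[A] EGA4.Cpl A)
      ≃ₐ[integralClosure A E] E ⊗[A] EGA4.Cpl A :=
    Algebra.TensorProduct.cancelBaseChange A (integralClosure A E) (integralClosure A E) E
      (EGA4.Cpl A)
  exact (e1.trans e2).symm.toRingEquiv.toMulEquiv.isDomain _

end FiniteExt

end Groth.Agent.Lib.GeomIntegralFFH3
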