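import Mathlib
import Groth.Agent.Lib.GeomIrr2_lead

set_option maxSynthPendingDepth 3

universe u
open TensorProduct

namespace Groth.Agent.Lib.GeomIrr

/-- If the fibre of `T` over `p` has prime nilradical, there is a least prime of `T` over `p`. -/
theorem exists_least_prime_over {R T : Type u} [CommRing R] [CommRing T] [Algebra R T]
    (p : Ideal R) [p.IsPrime] (hF : (nilradical (p.Fiber T)).IsPrime) :
    ∃ P : Ideal T, P.IsPrime ∧ P.comap (algebraMap R T) = p ∧
      ∀ Q : Ideal T, Q.IsPrime → Q.comap (algebraMap R T) = p → P ≤ Q := by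
  classical
  let e := PrimeSpectrum.primesOverOrderIsoFiber R T p
  let b : PrimeSpectrum (p.Fiber T) := ⟨nilradical (p.Fiber T), hF⟩
  have hb : ∀ x : PrimeSpectrum (p.Fiber T), b ≤ x := fun x => by
    haveI := x.2
    show nilradical (p.Fiber T) ≤ x.asIdeal
    exact nilradical_le_prime x.asIdeal
  refine ⟨(e.symm b).1, (e.symm b).2.1, ?_, ?_⟩
  · have h := (e.symm b).2.2
    exact (h.over).symm
  · intro Q hQ hQp
    have hQmem : Q ∈ p.primesOver T := ⟨hQ, ⟨hQp.symm⟩⟩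
    have h1 : e.symm b ≤ ⟨Q, hQmem⟩ := by
      rw [OrderIso.symm_apply_le]
      exact hb _
    exact h1

theorem nilradical_fiber_isPrime {k R S : Type u} [Field k] [CommRing R] [CommRing S]
    [Algebra k R] [Algebra k S]
    (hS : ∀ (k' : Type u) [Field k'] [Algebra k k'], IrreducibleSpace (PrimeSpectrum (k' ⊗[k] S)))
    (p : Ideal R) [p.IsPrime] : (nilradical (p.Fiber (R ⊗[k] S))).IsPrime := by
  have h1 : (nilradical (p.ResidueField ⊗[k] S)).IsPrime :=
    PrimeSpectrum.irreducibleSpace_iff_isPrime_nilradical.1 (hS p.ResidueField)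
  let g := Algebra.TensorProduct.cancelBaseChange k R R p.ResidueField S
  exact nilradical_isPrime_of_injective g.toRingEquiv.toRingHom g.injective h1

theorem main_S9626 {k R S : Type u} [Field k] [CommRing R] [CommRing S] [Algebra k R]
    [Algebra k S]
    (hS : ∀ (k' : Type u) [Field k'] [Algebra k k'], IrreducibleSpace (PrimeSpectrum (k' ⊗[k] S))) :
    Set.BijOn (Ideal.comap (algebraMap R (R ⊗[k] S))) (minimalPrimes (R ⊗[k] S))
      (minimalPrimes R) := by
  have hleast : ∀ (p : Ideal R) [p.IsPrime], ∃ P : Ideal (R ⊗[k] S), P.IsPrime ∧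
      P.comap (algebraMap R (R ⊗[k] S)) = p ∧
      ∀ Q : Ideal (R ⊗[k] S), Q.IsPrime → Q.comap (algebraMap R (R ⊗[k] S)) = p → P ≤ Q :=
    fun p _ => exists_least_prime_over p (nilradical_fiber_isPrime hS p)
  haveI : Module.Flat R (R ⊗[k] S) := inferInstance
  haveI : Algebra.HasGoingDown R (R ⊗[k] S) := inferInstance
  refine ⟨?_, ?_, ?_⟩
  · -- maps to
    intro Q hQ
    have hQp : Q.IsPrime := Ideal.IsMinimalPrime.isPrime hQ
    haveI := hQp
    rw [minimalPrimes_eq_minimals] at hQ ⊢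
    refine ⟨Ideal.comap_isPrime _ Q, fun p' hp' hle => ?_⟩
    haveI := hp'
    haveI : Q.LiesOver (Q.comap (algebraMap R (R ⊗[k] S))) := ⟨rfl⟩
    obtain ⟨Q', hQ'le, hQ'prime, hQ'over⟩ := Ideal.exists_ideal_le_liesOver_of_le (p := p')
      (q := Q.comap (algebraMap R (R ⊗[k] S))) Q hle
    have hge : Q ≤ Q' := hQ.2 hQ'prime hQ'le
    have hEq : Q' = Q := le_antisymm hQ'le hge
    have h2 : p' = Q'.comap (algebraMap R (R ⊗[k] S)) := hQ'over.over
    rw [h2, hEq]
  · -- injective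
    intro Q₁ hQ₁ Q₂ hQ₂ hEq
    have hQ₁p : Q₁.IsPrime := Ideal.IsMinimalPrime.isPrime hQ₁
    have hQ₂p : Q₂.IsPrime := Ideal.IsMinimalPrime.isPrime hQ₂
    haveI := hQ₁p
    haveI := hQ₂p
    haveI : (Q₁.comap (algebraMap R (R ⊗[k] S))).IsPrime := Ideal.comap_isPrime _ Q₁
    obtain ⟨P, hP, hPc, hPle⟩ := hleast (Q₁.comap (algebraMap R (R ⊗[k] S)))
    rw [minimalPrimes_eq_minimals] at hQ₁ hQ₂
    have h1 : P ≤ Q₁ := hPle Q₁ hQ₁p rfl
    have h2 : P ≤ Q₂ := hPle Q₂ hQ₂p hEq.symm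
    have h1' : Q₁ = P := le_antisymm (hQ₁.2 hP h1) h1
    have h2' : Q₂ = P := le_antisymm (hQ₂.2 hP h2) h2
    rw [h1', h2']
  · -- surjective
    intro p hp
    have hpp : p.IsPrime := Ideal.IsMinimalPrime.isPrime hp
    haveI := hpp
    obtain ⟨P, hP, hPc, hPle⟩ := hleast p
    haveI := hP
    obtain ⟨Q, hQ, hQle⟩ := Ideal.exists_minimalPrimes_le (I := (⊥ : Ideal (R ⊗[k] S))) (J := P)
      bot_le
    refine ⟨Q, hQ, ?_⟩
    have hQp : Q.IsPrime := Ideal.IsMinimalPrime.isPrime hQ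
    haveI := hQp
    have hle : Q.comap (algebraMap R (R ⊗[k] S)) ≤ p := by
      rw [← hPc]; exact Ideal.comap_mono hQle
    rw [minimalPrimes_eq_minimals] at hp
    exact le_antisymm hle (hp.2 (Ideal.comap_isPrime _ Q) hle)

end Groth.Agent.Lib.GeomIrr
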