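import Mathlib
import Groth.Agent.Lib.GeomIrr4_lead

set_option maxSynthPendingDepth 3

universe u v w
open TensorProduct Polynomial

namespace Groth.Agent.Lib.GeomIrr

theorem nilradical_isPrime_of_injective_of_units {A : Type u} {B : Type v} [CommRing A]
    [CommRing B] (φ : A →+* B) (hφ : Function.Injective φ) (hA : (nilradical A).IsPrime)
    (h : ∀ b : B, ∃ u : B, IsUnit u ∧ ∃ a : A, φ a = b * u) : (nilradical B).IsPrime := by
  rw [Ideal.isPrime_iff]
  refine ⟨?_, ?_⟩
  · intro htop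
    have h1 : (1 : B) ∈ nilradical B := by rw [htop]; exact Submodule.mem_top
    have h2 : (1 : A) ∈ nilradical A := by
      rw [mem_nilradical] at h1 ⊢
      obtain ⟨n, hn⟩ := h1
      exact ⟨n, hφ (by rw [map_pow, map_one, map_zero]; exact hn)⟩
    exact hA.ne_top ((Ideal.eq_top_iff_one _).mpr h2)
  · intro x y hxy
    obtain ⟨u, hu, a, ha⟩ := h x
    obtain ⟨v, hv, a', ha'⟩ := h y
    have h3 : a * a' ∈ nilradical A := by
      rw [mem_nilradical] at hxy ⊢
      obtain ⟨n, hn⟩ := hxy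
      refine ⟨n, hφ ?_⟩
      rw [map_pow, map_mul, ha, ha', map_zero]
      calc (x * u * (y * v)) ^ n = (x * y) ^ n * (u * v) ^ n := by ring
        _ = 0 := by rw [hn, zero_mul]
    rcases hA.mem_or_mem h3 with h4 | h4
    · left
      rw [mem_nilradical] at h4 ⊢
      obtain ⟨n, hn⟩ := h4
      have h5 : (x * u) ^ n = 0 := by rw [← ha, ← map_pow, hn, map_zero]
      rw [mul_pow] at h5
      exact ⟨n, (hu.pow n).mul_left_eq_zero.mp h5⟩
    · right
      rw [mem_nilradical] at h4 ⊢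
      obtain ⟨n, hn⟩ := h4
      have h5 : (y * v) ^ n = 0 := by rw [← ha', ← map_pow, hn, map_zero]
      rw [mul_pow] at h5
      exact ⟨n, (hv.pow n).mul_left_eq_zero.mp h5⟩

theorem injective_of_basis_linearIndependent {R : Type u} {M : Type v} {N : Type w} {ι : Type*}
    [CommRing R] [AddCommGroup M] [AddCommGroup N] [Module R M] [Module R N]
    (b : Module.Basis ι R M) (f : M →ₗ[R] N) (h : LinearIndependent R (fun i => f (b i))) :
    Function.Injective f := by
  rw [← LinearMap.ker_eq_bot, LinearMap.ker_eq_bot']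
  intro x hx
  have h1 : f x = Finsupp.linearCombination R (fun i => f (b i)) (b.repr x) := by
    conv_lhs => rw [← b.linearCombination_repr x]
    rw [Finsupp.apply_linearCombination]
    rfl
  rw [hx] at h1
  have h2 := (linearIndependent_iff.mp h) (b.repr x) h1.symm
  exact b.repr.map_eq_zero_iff.mp h2

lemma one_tmul_algebraMap {kt : Type u} {L : Type v} {Kt : Type w} [CommRing kt] [CommRing L]
    [CommRing Kt] [Algebra kt L] [Algebra kt Kt] (a : kt) :
    (1 : L) ⊗ₜ[kt] (algebraMap kt Kt a) = (algebraMap kt L a) ⊗ₜ[kt] (1 : Kt) := by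
  rw [Algebra.algebraMap_eq_smul_one, Algebra.algebraMap_eq_smul_one, TensorProduct.tmul_smul,
    TensorProduct.smul_tmul']

theorem linearIndependent_fraction {k K kt Kt : Type u} [Field k] [Field K] [Algebra k K]
    [Field kt] [Field Kt] [Algebra k[X] kt] [IsFractionRing k[X] kt] [Algebra K[X] Kt]
    [IsFractionRing K[X] Kt] [Algebra kt Kt] [Algebra K Kt] [IsScalarTower K K[X] Kt]
    (hcompat : ∀ p : k[X], algebraMap kt Kt (algebraMap k[X] kt p) =
      algebraMap K[X] Kt (p.map (algebraMap k K)))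
    {ι : Type*} (e : Module.Basis ι k K) :
    LinearIndependent kt (fun i => algebraMap K Kt (e i)) := by
  classical
  letI : Algebra k[X] Kt := ((algebraMap kt Kt).comp (algebraMap k[X] kt)).toAlgebra
  haveI : IsScalarTower k[X] kt Kt := IsScalarTower.of_algebraMap_eq (fun x => rfl)
  rw [← LinearIndependent.iff_fractionRing k[X] kt]
  rw [linearIndependent_iff']
  intro s g hg i hi
  have h1 : algebraMap K[X] Kt (∑ j ∈ s, (g j).map (algebraMap k K) * C (e j)) = 0 := by
    rw [map_sum, ← hg]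
    apply Finset.sum_congr rfl
    intro j _
    rw [map_mul, ← hcompat, Algebra.smul_def, Polynomial.C_eq_algebraMap,
      ← IsScalarTower.algebraMap_apply K K[X] Kt]
    rfl
  have h2 : ∑ j ∈ s, (g j).map (algebraMap k K) * C (e j) = 0 :=
    (IsFractionRing.injective K[X] Kt) (by rw [h1, map_zero])
  ext n
  have h3 := congrArg (fun p => Polynomial.coeff p n) h2
  simp only [Polynomial.finsetSum_coeff, Polynomial.coeff_mul_C, Polynomial.coeff_map,
    Polynomial.coeff_zero] at h3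
  have h4 : ∑ j ∈ s, ((g j).coeff n) • e j = 0 := by
    rw [← h3]; apply Finset.sum_congr rfl; intro j _; rw [Algebra.smul_def]
  have h5 := linearIndependent_iff'.mp e.linearIndependent s (fun j => (g j).coeff n) h4 i hi
  rw [Polynomial.coeff_zero]; exact h5

theorem fwd {k K kt Kt : Type u} [Field k] [Field K] [Algebra k K]
    [Field kt] [Field Kt] [Algebra k[X] kt] [IsFractionRing k[X] kt] [Algebra K[X] Kt]
    [IsFractionRing K[X] Kt] [Algebra kt Kt] [Algebra k kt] [Algebra k Kt] [Algebra K Kt]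
    [IsScalarTower k kt Kt] [IsScalarTower k K Kt] [IsScalarTower K K[X] Kt]
    (hcompat : ∀ p : k[X], algebraMap kt Kt (algebraMap k[X] kt p) =
      algebraMap K[X] Kt (p.map (algebraMap k K)))
    (hK : ∀ (k' : Type u) [Field k'] [Algebra k k'], (nilradical (k' ⊗[k] K)).IsPrime)
    (L : Type u) [Field L] [Algebra kt L] [Algebra k L] [IsScalarTower k kt L] :
    (nilradical (L ⊗[kt] Kt)).IsPrime := by
  classical
  let e := Module.Basis.ofVectorSpace k K
  have hli : LinearIndependent kt (fun i => algebraMap K Kt (e i)) :=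
    linearIndependent_fraction hcompat e
  have hli' : LinearIndependent L (fun i => (1 : L) ⊗ₜ[kt] (algebraMap K Kt (e i))) :=
    Module.Flat.linearIndependent_one_tmul hli
  let g : K →ₐ[k] L ⊗[kt] Kt :=
    { toRingHom := (Algebra.TensorProduct.includeRight :
        Kt →ₐ[kt] L ⊗[kt] Kt).toRingHom.comp (algebraMap K Kt)
      commutes' := fun c => by
        show (1 : L) ⊗ₜ[kt] (algebraMap K Kt (algebraMap k K c)) = algebraMap k (L ⊗[kt] Kt) c
        rw [Algebra.TensorProduct.algebraMap_apply, ← IsScalarTower.algebraMap_apply k K Kt,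
          IsScalarTower.algebraMap_apply k kt Kt, one_tmul_algebraMap,
          ← IsScalarTower.algebraMap_apply k kt L] }
  have hg : ∀ x : K, g x = (1 : L) ⊗ₜ[kt] (algebraMap K Kt x) := fun x => rfl
  let φ : L ⊗[k] K →ₐ[L] L ⊗[kt] Kt :=
    Algebra.TensorProduct.lift (Algebra.TensorProduct.includeLeft) g (fun _ _ => Commute.all _ _)
  have hφ_tmul : ∀ (ℓ : L) (x : K), φ (ℓ ⊗ₜ x) = ℓ ⊗ₜ[kt] (algebraMap K Kt x) := by
    intro ℓ x
    rw [show φ (ℓ ⊗ₜ[k] x) = (ℓ ⊗ₜ[kt] (1 : Kt)) * g x from rfl, hg,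
      Algebra.TensorProduct.tmul_mul_tmul, mul_one, one_mul]
  have hφinj : Function.Injective φ := by
    have hfun : (fun i => φ.toLinearMap (Algebra.TensorProduct.basis L e i)) =
        (fun i => (1 : L) ⊗ₜ[kt] (algebraMap K Kt (e i))) := by
      funext i
      rw [Algebra.TensorProduct.basis_apply]
      exact hφ_tmul 1 (e i)
    have := injective_of_basis_linearIndependent (Algebra.TensorProduct.basis L e) φ.toLinearMap
      (by rw [hfun]; exact hli')
    exact this
  have F1 : ∀ (ℓ : L) (x : K), ℓ ⊗ₜ[kt] (algebraMap K Kt x) ∈ φ.range :=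
    fun ℓ x => ⟨ℓ ⊗ₜ x, hφ_tmul ℓ x⟩
  have F2 : ∀ (ℓ : L) (a : kt), ℓ ⊗ₜ[kt] (algebraMap kt Kt a) ∈ φ.range := by
    intro ℓ a
    have h1 : ℓ ⊗ₜ[kt] (algebraMap kt Kt a) = (a • ℓ) ⊗ₜ[kt] (algebraMap K Kt 1) := by
      rw [map_one, Algebra.algebraMap_eq_smul_one, TensorProduct.tmul_smul,
        TensorProduct.smul_tmul']
    rw [h1]; exact F1 _ _
  have hX : algebraMap K[X] Kt X = algebraMap kt Kt (algebraMap k[X] kt X) := by
    rw [hcompat, Polynomial.map_X]
  have F3 : ∀ (p : K[X]) (ℓ : L), ℓ ⊗ₜ[kt] (algebraMap K[X] Kt p) ∈ φ.range := by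
    intro p
    refine Polynomial.induction_on p ?_ ?_ ?_
    · intro a ℓ
      rw [Polynomial.C_eq_algebraMap, ← IsScalarTower.algebraMap_apply K K[X] Kt]
      exact F1 ℓ a
    · intro p q hp hq ℓ
      rw [map_add, TensorProduct.tmul_add]
      exact add_mem (hp ℓ) (hq ℓ)
    · intro n a ih ℓ
      have h1 : ℓ ⊗ₜ[kt] (algebraMap K[X] Kt (C a * X ^ (n + 1))) =
          (ℓ ⊗ₜ[kt] (algebraMap K[X] Kt (C a * X ^ n))) *
            ((1 : L) ⊗ₜ[kt] (algebraMap K[X] Kt X)) := by
        rw [Algebra.TensorProduct.tmul_mul_tmul, mul_one, ← map_mul, pow_succ, mul_assoc]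
      rw [h1, hX]
      exact mul_mem (ih ℓ) (F2 1 _)
  have hne : ∀ q : K[X], q ≠ 0 → algebraMap K[X] Kt q ≠ 0 := by
    intro q hq h0
    exact hq ((IsFractionRing.injective K[X] Kt) (by rw [h0, map_zero]))
  have F4 : ∀ b : L ⊗[kt] Kt, ∃ q : K[X], q ≠ 0 ∧
      b * ((1 : L) ⊗ₜ[kt] (algebraMap K[X] Kt q)) ∈ φ.range := by
    intro b
    induction b using TensorProduct.induction_on with
    | zero => exact ⟨1, one_ne_zero, by rw [zero_mul]; exact zero_mem _⟩
    | tmul ℓ z =>
      obtain ⟨p, q, hq, rfl⟩ := IsFractionRing.div_surjective (A := K[X]) z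
      have hq0 : q ≠ 0 := nonZeroDivisors.ne_zero hq
      refine ⟨q, hq0, ?_⟩
      rw [Algebra.TensorProduct.tmul_mul_tmul, mul_one, div_mul_cancel₀ _ (hne q hq0)]
      exact F3 p ℓ
    | add b₁ b₂ h₁ h₂ =>
      obtain ⟨q₁, hq₁, hm₁⟩ := h₁
      obtain ⟨q₂, hq₂, hm₂⟩ := h₂
      refine ⟨q₁ * q₂, mul_ne_zero hq₁ hq₂, ?_⟩
      have e1 : (1 : L) ⊗ₜ[kt] (algebraMap K[X] Kt (q₁ * q₂)) =
          ((1 : L) ⊗ₜ[kt] (algebraMap K[X] Kt q₁)) * ((1 : L) ⊗ₜ[kt] (algebraMap K[X] Kt q₂)) := by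
        rw [Algebra.TensorProduct.tmul_mul_tmul, mul_one, map_mul]
      have e2 : (b₁ + b₂) * ((1 : L) ⊗ₜ[kt] (algebraMap K[X] Kt (q₁ * q₂))) =
          (b₁ * ((1 : L) ⊗ₜ[kt] (algebraMap K[X] Kt q₁))) *
            ((1 : L) ⊗ₜ[kt] (algebraMap K[X] Kt q₂)) +
          (b₂ * ((1 : L) ⊗ₜ[kt] (algebraMap K[X] Kt q₂))) *
            ((1 : L) ⊗ₜ[kt] (algebraMap K[X] Kt q₁)) := by
        rw [e1]; ring
      rw [e2]
      exact add_mem (mul_mem hm₁ (F3 q₂ 1)) (mul_mem hm₂ (F3 q₁ 1))
  apply nilradical_isPrime_of_injective_of_units φ.toRingHom hφinj (hK L)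
  intro b
  obtain ⟨q, hq, hm⟩ := F4 b
  refine ⟨(1 : L) ⊗ₜ[kt] (algebraMap K[X] Kt q), ?_, ?_⟩
  · exact (Ne.isUnit (hne q hq)).map (Algebra.TensorProduct.includeRight : Kt →ₐ[kt] L ⊗[kt] Kt)
  · obtain ⟨a, ha⟩ := hm
    exact ⟨a, ha⟩

theorem bwd {k K kt Kt : Type u} [Field k] [Field K] [Algebra k K]
    [Field kt] [Field Kt] [Algebra k[X] kt] [IsFractionRing k[X] kt] [Algebra K[X] Kt]
    [IsFractionRing K[X] Kt] [Algebra kt Kt] [Algebra k kt] [Algebra k Kt] [Algebra K Kt]
    [IsScalarTower k kt Kt] [IsScalarTower k K Kt] [IsScalarTower K K[X] Kt]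
    (hcompat : ∀ p : k[X], algebraMap kt Kt (algebraMap k[X] kt p) =
      algebraMap K[X] Kt (p.map (algebraMap k K)))
    (h' : ∀ β : Kt, IsSeparable kt β → β ∈ Set.range (algebraMap kt Kt)) :
    ∀ α : K, IsSeparable k α → α ∈ Set.range (algebraMap k K) := by
  intro α hα
  have h1 : IsSeparable k (algebraMap K Kt α) :=
    hα.map (IsScalarTower.toAlgHom k K Kt) (fun a b hab => (algebraMap K Kt).injective hab)
  have h2 : IsSeparable kt (algebraMap K Kt α) := IsSeparable.tower_top kt h1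
  obtain ⟨z, hz⟩ := h' _ h2
  obtain ⟨p, q, hq, rfl⟩ := IsFractionRing.div_surjective (A := k[X]) z
  have hq0 : q ≠ 0 := nonZeroDivisors.ne_zero hq
  have hq1 : algebraMap k[X] kt q ≠ 0 :=
    fun h0 => hq0 ((IsFractionRing.injective k[X] kt) (by rw [h0, map_zero]))
  have h3 : algebraMap kt Kt (algebraMap k[X] kt p) =
      algebraMap K Kt α * algebraMap kt Kt (algebraMap k[X] kt q) := by
    rw [← hz, ← map_mul, div_mul_cancel₀ _ hq1]
  rw [hcompat, hcompat, IsScalarTower.algebraMap_apply K K[X] Kt, ← map_mul] at h3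
  have h4 : p.map (algebraMap k K) = algebraMap K K[X] α * q.map (algebraMap k K) :=
    IsFractionRing.injective K[X] Kt h3
  have h5 := congrArg (fun f => Polynomial.coeff f q.natDegree) h4
  simp only [Polynomial.coeff_map, ← Polynomial.C_eq_algebraMap, Polynomial.coeff_C_mul] at h5
  have hlc : q.coeff q.natDegree ≠ 0 := by
    rw [Polynomial.coeff_natDegree]; exact Polynomial.leadingCoeff_ne_zero.mpr hq0
  refine ⟨p.coeff q.natDegree / q.coeff q.natDegree, ?_⟩
  rw [map_div₀, h5, mul_div_assoc, div_self ((map_ne_zero (algebraMap k K)).mpr hlc), mul_one]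

theorem main_S9657 {k K : Type u} [Field k] [Field K] [Algebra k K]
    (kt Kt : Type u) [Field kt] [Field Kt] [Algebra (Polynomial k) kt]
    [IsFractionRing (Polynomial k) kt] [Algebra (Polynomial K) Kt]
    [IsFractionRing (Polynomial K) Kt] [Algebra kt Kt]
    (hcompat : ∀ p : Polynomial k, algebraMap kt Kt (algebraMap (Polynomial k) kt p) =
      algebraMap (Polynomial K) Kt (Polynomial.map (algebraMap k K) p)) :
    (∀ (k' : Type u) [Field k'] [Algebra k k'], IrreducibleSpace (PrimeSpectrum (k' ⊗[k] K))) ↔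
      ∀ (L : Type u) [Field L] [Algebra kt L], IrreducibleSpace (PrimeSpectrum (L ⊗[kt] Kt)) := by
  letI i1 : Algebra k kt := ((algebraMap k[X] kt).comp (algebraMap k k[X])).toAlgebra
  letI i2 : Algebra K Kt := ((algebraMap K[X] Kt).comp (algebraMap K K[X])).toAlgebra
  letI i3 : Algebra k Kt := ((algebraMap kt Kt).comp (algebraMap k kt)).toAlgebra
  haveI t2 : IsScalarTower K K[X] Kt := IsScalarTower.of_algebraMap_eq (fun x => rfl)
  haveI t3 : IsScalarTower k kt Kt := IsScalarTower.of_algebraMap_eq (fun x => rfl)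
  haveI t4 : IsScalarTower k K Kt := IsScalarTower.of_algebraMap_eq (fun x => by
    show algebraMap kt Kt (algebraMap k[X] kt (algebraMap k k[X] x)) =
      algebraMap K[X] Kt (algebraMap K K[X] (algebraMap k K x))
    rw [hcompat, ← Polynomial.C_eq_algebraMap, Polynomial.map_C, Polynomial.C_eq_algebraMap])
  constructor
  · intro h L _ _
    letI : Algebra k L := ((algebraMap kt L).comp (algebraMap k kt)).toAlgebra
    haveI : IsScalarTower k kt L := IsScalarTower.of_algebraMap_eq (fun x => rfl)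
    rw [PrimeSpectrum.irreducibleSpace_iff_isPrime_nilradical]
    exact fwd hcompat
      (fun k' _ _ => PrimeSpectrum.irreducibleSpace_iff_isPrime_nilradical.1 (h k')) L
  · intro h
    rw [main_S2150]
    have h' := (main_S2150 (k := kt) (K := Kt)).mp h
    exact bwd hcompat h'

end Groth.Agent.Lib.GeomIrr
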