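import Mathlib
import Groth.Agent.Lib.GeomIrr5_helper8
import Groth.Agent.Lib.GeomIrr1_helper8
import Groth.Agent.Lib.GeomIrr1_lead
import Groth.Agent.Lib.GeomBC_helper4

/-!
# Absolute irreducibility of polynomials: from one algebraically closed field to all fields (helper8)
APPEND-ONLY once landed.
-/

set_option autoImplicit false
set_option linter.style.haveILetI false
universe u
open scoped TensorProduct

namespace GeomIrrH8

section Abs

theorem irreducible_of_irreducible_map {Ω M : Type*} [Field Ω] [Field M] (φ : Ω →+* M)
    {σ : Type*} (P : MvPolynomial σ Ω) (h : Irreducible (MvPolynomial.map φ P)) :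
    Irreducible P := by
  haveI : IsLocalHom (MvPolynomial.map (σ := σ) φ) := by
    constructor
    intro a ha
    rw [MvPolynomial.isUnit_iff_totalDegree_of_isReduced] at ha ⊢
    obtain ⟨h1, h2⟩ := ha
    rw [MvPolynomial.coeff_map] at h1
    refine ⟨?_, ?_⟩
    · rw [isUnit_iff_ne_zero] at h1 ⊢
      intro h0
      apply h1
      rw [h0, map_zero]
    · rw [← h2]
      unfold MvPolynomial.totalDegree
      rw [MvPolynomial.support_map_of_injective _ φ.injective]
  exact Irreducible.of_map (f := MvPolynomial.map (σ := σ) φ) h

theorem irreducible_map_of_isAlgClosed {K M : Type u} [Field K] [IsAlgClosed K] [Field M]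
    [Algebra K M] {σ : Type} (Q : MvPolynomial σ K) (hQ : Irreducible Q) :
    Irreducible (MvPolynomial.map (algebraMap K M) Q) := by
  have hprime : Prime Q := UniqueFactorizationMonoid.irreducible_iff_prime.mp hQ
  haveI : (Ideal.span {Q}).IsPrime := (Ideal.span_singleton_prime hQ.ne_zero).mpr hprime
  haveI : IsDomain ((MvPolynomial σ K ⧸ Ideal.span {Q}) ⊗[K] M) :=
    Groth.Agent.Lib.GeomIrr.isDomain_tensor_of_isAlgClosed K _ M
  haveI : IsDomain (MvPolynomial σ M ⧸ Ideal.span {MvPolynomial.map (algebraMap K M) Q}) :=
    (quotTensorEquiv Q M).symm.toMulEquiv.isDomain ((MvPolynomial σ K ⧸ Ideal.span {Q}) ⊗[K] M)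
  have hne : MvPolynomial.map (algebraMap K M) Q ≠ 0 := by
    intro h0
    apply hQ.ne_zero
    apply MvPolynomial.map_injective _ (algebraMap K M).injective
    rw [h0, map_zero]
  have h2 : (Ideal.span {MvPolynomial.map (algebraMap K M) Q}).IsPrime :=
    (Ideal.Quotient.isDomain_iff_prime _).mp inferInstance
  exact ((Ideal.span_singleton_prime hne).mp h2).irreducible

end Abs

section S1352

/-- S1352 -/
theorem main1352 {A : Type u} [CommRing A] [IsDomain A] {n : ℕ} (P : MvPolynomial (Fin n) A)
    (hP : Irreducible (MvPolynomial.map (algebraMap A (AlgebraicClosure (FractionRing A))) P)) :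
    ∃ f : A, f ≠ 0 ∧ ∀ (κ : Type u) [Field κ] (φ : Localization.Away f →+* κ),
      Irreducible (MvPolynomial.map (φ.comp (algebraMap A (Localization.Away f))) P) := by
  have h : ∀ (Ω : Type u) [Field Ω] [Algebra A Ω], Function.Injective (algebraMap A Ω) →
      Irreducible (MvPolynomial.map (algebraMap A Ω) P) := by
    intro Ω _ _ hinj
    letI : Algebra (FractionRing A) Ω := (IsFractionRing.lift hinj).toAlgebra
    haveI : IsScalarTower A (FractionRing A) Ω :=
      IsScalarTower.of_algebraMap_eq (fun r => (IsFractionRing.lift_algebraMap hinj r).symm)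
    obtain ⟨M, _, iΩ, iK, hcomp⟩ := Groth.Agent.Lib.GeomBC_helper4.exists_compositum
      (FractionRing A) Ω (AlgebraicClosure (FractionRing A))
    letI : Algebra (AlgebraicClosure (FractionRing A)) M := iK.toAlgebra
    have h1 := irreducible_map_of_isAlgClosed (M := M) _ hP
    apply irreducible_of_irreducible_map iΩ
    rw [MvPolynomial.map_map] at h1 ⊢
    have heq : iΩ.comp (algebraMap A Ω) =
        (algebraMap (AlgebraicClosure (FractionRing A)) M).comp
          (algebraMap A (AlgebraicClosure (FractionRing A))) := by
      ext a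
      show iΩ (algebraMap A Ω a) = iK (algebraMap A (AlgebraicClosure (FractionRing A)) a)
      rw [IsScalarTower.algebraMap_apply A (FractionRing A) Ω,
        IsScalarTower.algebraMap_apply A (FractionRing A) (AlgebraicClosure (FractionRing A))]
      exact RingHom.congr_fun hcomp _
    rw [heq]
    exact h1
  obtain ⟨a, ha, H⟩ := exists_ne_zero_forall_irreducible P h
  refine ⟨a, ha, fun κ _ φ => ?_⟩
  letI : Algebra A κ := (φ.comp (algebraMap A (Localization.Away a))).toAlgebra
  refine H κ ?_
  show φ (algebraMap A (Localization.Away a) a) ≠ 0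
  exact ((IsLocalization.Away.algebraMap_isUnit (S := Localization.Away a) a).map φ).ne_zero

end S1352

end GeomIrrH8
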