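import Mathlib
import Groth.Prelude.Def_FEt

open AlgebraicGeometry CategoryTheory CategoryTheory.Limits

universe u

namespace Groth.Agent.Lib.GeomIrrConnH4

/-- If `q` is generalizing, the target has a generic point with finite fibre, then a subset of the
source stable under generalization and specialization is closed. -/
theorem isClosed_of_stable {Z X : Type*} [TopologicalSpace Z] [TopologicalSpace X] (q : Z → X)
    (hq : GeneralizingMap q) (η : X) (hη : ∀ x, η ⤳ x) (hfin : (q ⁻¹' {η}).Finite)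
    (A : Set Z) (hgen : ∀ z z', z' ⤳ z → z ∈ A → z' ∈ A)
    (hspec : ∀ z z', z ⤳ z' → z ∈ A → z' ∈ A) : IsClosed A := by
  have hA : A = ⋃ g ∈ (q ⁻¹' {η}) ∩ A, closure ({g} : Set Z) := by
    ext z
    rw [Set.mem_iUnion₂]
    constructor
    · intro hz
      obtain ⟨g, hg1, hg2⟩ := hq (a := z) (b := η) (hη (q z))
      exact ⟨g, ⟨hg2, hgen z g hg1 hz⟩, hg1.mem_closure⟩
    · rintro ⟨g, ⟨-, hgA⟩, hz⟩
      exact hspec g z (specializes_iff_mem_closure.mpr hz) hgA
  rw [hA]
  exact Set.Finite.isClosed_biUnion (hfin.subset Set.inter_subset_left)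
    (fun _ _ => isClosed_closure)

theorem image_clopen {T Z : Type*} [TopologicalSpace T] [TopologicalSpace Z] (p : T → Z)
    (hp : GeneralizingMap p)
    (hfib : ∀ z, IsPreconnected (p ⁻¹' {z})) (A : Set T) (hA : IsClopen A) :
    p ⁻¹' (p '' A) = A ∧ (∀ z z', z' ⤳ z → z ∈ p '' A → z' ∈ p '' A) := by
  refine ⟨Set.Subset.antisymm ?_ (Set.subset_preimage_image p A), ?_⟩
  · rintro t ⟨a, ha, hat⟩
    have h1 : p ⁻¹' {p a} ⊆ A := (hfib (p a)).subset_isClopen hA ⟨a, rfl, ha⟩
    exact h1 hat.symm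
  · rintro z z' hzz ⟨a, ha, rfl⟩
    obtain ⟨a', ha1, ha2⟩ := hp (a := a) (b := z') hzz
    exact ⟨a', ha1.mem_open hA.2 ha, ha2⟩

theorem connectedSpace_of_generalizing {T Z X : Type*} [TopologicalSpace T] [TopologicalSpace Z]
    [TopologicalSpace X] [ConnectedSpace Z] (p : T → Z) (q : Z → X)
    (hp : GeneralizingMap p) (hsurj : Function.Surjective p)
    (hfib : ∀ z, IsPreconnected (p ⁻¹' {z}))
    (hq : GeneralizingMap q) (η : X) (hη : ∀ x, η ⤳ x) (hfin : (q ⁻¹' {η}).Finite) :
    ConnectedSpace T := by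
  haveI : Nonempty T := by
    obtain ⟨z⟩ : Nonempty Z := inferInstance
    obtain ⟨t, -⟩ := hsurj z
    exact ⟨t⟩
  haveI : PreconnectedSpace T := by
    rw [preconnectedSpace_iff_clopen]
    intro A hA
    obtain ⟨h1, h2⟩ := image_clopen p hp hfib A hA
    obtain ⟨h1', h2'⟩ := image_clopen p hp hfib Aᶜ hA.compl
    have hcompl : (p '' A)ᶜ = p '' Aᶜ := by
      ext z
      constructor
      · intro hz
        obtain ⟨t, rfl⟩ := hsurj z
        exact ⟨t, fun ht => hz ⟨t, ht, rfl⟩, rfl⟩
      · rintro ⟨t, ht, rfl⟩ hz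
        have : t ∈ p ⁻¹' (p '' A) := hz
        rw [h1] at this
        exact ht this
    have hspec : ∀ z z', z ⤳ z' → z ∈ p '' A → z' ∈ p '' A := by
      intro z z' hzz hz
      by_contra hz'
      have h3 : z' ∈ p '' Aᶜ := hcompl ▸ hz'
      have h4 : z ∈ p '' Aᶜ := h2' z' z hzz h3
      rw [← hcompl] at h4
      exact h4 hz
    have hspec' : ∀ z z', z ⤳ z' → z ∈ p '' Aᶜ → z' ∈ p '' Aᶜ := by
      intro z z' hzz hz
      by_contra hz'
      have h3 : z' ∈ p '' A := by
        rw [← hcompl] at hz'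
        exact not_not.mp hz'
      have h4 : z ∈ p '' A := h2 z' z hzz h3
      rw [← hcompl] at hz
      exact hz h4
    have hc1 : IsClosed (p '' A) := isClosed_of_stable q hq η hη hfin _ h2 hspec
    have hc2 : IsClosed (p '' Aᶜ) := isClosed_of_stable q hq η hη hfin _ h2' hspec'
    have hclopen : IsClopen (p '' A) := by
      refine ⟨hc1, ?_⟩
      rw [← isClosed_compl_iff, hcompl]
      exact hc2
    rcases isClopen_iff.mp hclopen with h | h
    · left
      rw [← h1, h, Set.preimage_empty]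
    · right
      rw [← h1, h, Set.preimage_univ]
  exact { toNonempty := inferInstance }

theorem main18402 {X W : Scheme.{u}} [IrreducibleSpace X] (π : W ⟶ X) [Flat π]
    [GeometricallyIrreducible π] (Z : FEt.Cat X) [ConnectedSpace Z.left] :
    ConnectedSpace ↥(pullback Z.hom π) := by
  haveI : IsFinite Z.hom := Z.prop.1
  haveI : Etale Z.hom := Z.prop.2
  haveI : Flat Z.hom := inferInstance
  haveI : Flat (pullback.fst Z.hom π) :=
    MorphismProperty.pullback_fst (P := @Flat) _ _ inferInstance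
  haveI : GeometricallyIrreducible (pullback.fst Z.hom π) := inferInstance
  refine connectedSpace_of_generalizing (T := ↥(pullback Z.hom π)) (Z := ↥Z.left) (X := ↥X)
    (pullback.fst Z.hom π) Z.hom (Flat.generalizingMap _) (pullback.fst Z.hom π).surjective
    (fun z => ?_) (Flat.generalizingMap _) (genericPoint ↥X) (fun x => genericPoint_specializes x)
    (Scheme.Hom.finite_preimage_singleton Z.hom _)
  rw [← Scheme.Hom.range_fiberι]
  exact isPreconnected_range ((pullback.fst Z.hom π).fiberι z).continuous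

end Groth.Agent.Lib.GeomIrrConnH4
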