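import Mathlib
import Groth.Prelude.Def_Curv2
import Groth.Agent.Lib.GeomIrrGen_helper4

set_option autoImplicit false
set_option linter.style.haveILetI false
set_option linter.unusedSectionVars false
universe u
open scoped TensorProduct
open CategoryTheory CategoryTheory.Limits AlgebraicGeometry

namespace Groth.Agent.Lib.GeomIrrFibH4

theorem alg_core {k E L M : Type u} [Field k] [Field E] [Field L] [Field M]
    [Algebra k E] [Algebra E M] [Algebra k L]
    (φ : L →+* M) (hφ : φ.comp (algebraMap k L) = (algebraMap E M).comp (algebraMap k E))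
    (hE : ∀ b : E, IsSeparable k b → b ∈ Set.range (algebraMap k E))
    (hM : ∀ a' : M, IsSeparable E a' → a' ∈ Set.range (algebraMap E M))
    (a : L) (ha : IsSeparable k a) : a ∈ Set.range (algebraMap k L) := by
  letI : Algebra k M := ((algebraMap E M).comp (algebraMap k E)).toAlgebra
  haveI : IsScalarTower k E M := IsScalarTower.of_algebraMap_eq (fun _ => rfl)
  let φa : L →ₐ[k] M := { φ with commutes' := fun r => RingHom.congr_fun hφ r }
  have hφa : ∀ x, φa x = φ x := fun _ => rfl
  have h1 : minpoly k (φa a) = minpoly k a := minpoly.algHom_eq φa φ.injective a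
  have h2 : IsSeparable k (φa a) := by unfold IsSeparable; rw [h1]; exact ha
  have h3 : IsSeparable E (φa a) := IsSeparable.tower_top (L := E) h2
  obtain ⟨b, hb⟩ := hM (φa a) h3
  have h4 : minpoly k (algebraMap E M b) = minpoly k b :=
    minpoly.algebraMap_eq (algebraMap E M).injective b
  have h5 : IsSeparable k b := by unfold IsSeparable; rw [← h4, hb]; exact h2
  obtain ⟨c, hc⟩ := hE b h5
  refine ⟨c, φ.injective ?_⟩
  have h6 : φ (algebraMap k L c) = algebraMap E M (algebraMap k E c) := RingHom.congr_fun hφ c
  rw [h6, hc, hb, hφa]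

attribute [local instance] Curv2.resAlgebra

theorem main17181 (k : Type u) [Field k]
    (X C : Scheme.{u}) [X.Over (Spec (CommRingCat.of k))] [C.Over (Spec (CommRingCat.of k))]
    (f : X ⟶ C) [f.IsOver (Spec (CommRingCat.of k))] [IrreducibleSpace X] [IrreducibleSpace C]
    [hC : GeometricallyIrreducible (C ↘ Spec (CommRingCat.of k))]
    [hgen : GeometricallyIrreducible (f.fiberToSpecResidueField (genericPoint C))] :
    GeometricallyIrreducible (X ↘ Spec (CommRingCat.of k)) := by
  letI ovF : (f.fiber (genericPoint ↥C)).Over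
      (Spec (CommRingCat.of (C.residueField (genericPoint ↥C)))) :=
    ⟨f.fiberToSpecResidueField (genericPoint ↥C)⟩
  have hgen' : GeometricallyIrreducible ((f.fiber (genericPoint ↥C)) ↘
      Spec (CommRingCat.of (C.residueField (genericPoint ↥C)))) := hgen
  haveI : Subsingleton ↥(Spec (C.residueField (genericPoint ↥C))) :=
    inferInstanceAs (Subsingleton (PrimeSpectrum (C.residueField (genericPoint ↥C))))
  haveI : Nonempty ↥(Spec (C.residueField (genericPoint ↥C))) :=
    inferInstanceAs (Nonempty (PrimeSpectrum (C.residueField (genericPoint ↥C))))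
  haveI hirrF : IrreducibleSpace ↥(f.fiber (genericPoint ↥C)) :=
    GeometricallyIrreducible.irreducibleSpace_of_subsingleton
      (f.fiberToSpecResidueField (genericPoint ↥C))
  have hrange : ∀ z : ↥(f.fiber (genericPoint ↥C)),
      f ((f.fiberι (genericPoint ↥C)) z) = genericPoint ↥C := fun z => by
    have h0 : (f.fiberι (genericPoint ↥C)) z ∈ f ⁻¹' {genericPoint ↥C} := by
      rw [← Scheme.Hom.range_fiberι]; exact ⟨z, rfl⟩
    exact h0
  have hfξ : f (genericPoint ↥X) = genericPoint ↥C := by
    have h1 : genericPoint ↥X ⤳ (f.fiberι (genericPoint ↥C))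
        (genericPoint ↥(f.fiber (genericPoint ↥C))) := genericPoint_specializes _
    have h2 := h1.map f.continuous
    rw [hrange] at h2
    exact (h2.antisymm (genericPoint_specializes _)).eq
  have hgξ : (f.fiberι (genericPoint ↥C)) (genericPoint ↥(f.fiber (genericPoint ↥C))) =
      genericPoint ↥X := by
    have hmem : genericPoint ↥X ∈ Set.range (f.fiberι (genericPoint ↥C)) := by
      rw [Scheme.Hom.range_fiberι]; exact hfξ
    obtain ⟨z, hz⟩ := hmem
    have h1 : genericPoint ↥(f.fiber (genericPoint ↥C)) ⤳ z := genericPoint_specializes z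
    have h2 := h1.map (f.fiberι (genericPoint ↥C)).continuous
    rw [hz] at h2
    exact (h2.antisymm (genericPoint_specializes _)).eq
  have hE : ∀ b : C.residueField (genericPoint ↥C), IsSeparable k b →
      b ∈ Set.range (algebraMap k (C.residueField (genericPoint ↥C))) :=
    (GeomIrrGenH4.main1540 k C).mp hC
  have hM : ∀ a' : (f.fiber (genericPoint ↥C)).residueField
        (genericPoint ↥(f.fiber (genericPoint ↥C))),
      IsSeparable (C.residueField (genericPoint ↥C)) a' →
        a' ∈ Set.range (algebraMap (C.residueField (genericPoint ↥C))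
          ((f.fiber (genericPoint ↥C)).residueField
            (genericPoint ↥(f.fiber (genericPoint ↥C))))) :=
    (GeomIrrGenH4.main1540 (C.residueField (genericPoint ↥C)) (f.fiber (genericPoint ↥C))).mp hgen'
  refine (GeomIrrGenH4.main1540 k X).mpr ?_
  have key : ∀ x : ↥X, (f.fiberι (genericPoint ↥C))
      (genericPoint ↥(f.fiber (genericPoint ↥C))) = x →
      ∀ a : X.residueField x, IsSeparable k a →
        a ∈ Set.range (algebraMap k (X.residueField x)) := by
    rintro x rfl a ha
    have e1 := RatPtsH4.fromSpecResidueField_comp k X ((f.fiberι (genericPoint ↥C))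
      (genericPoint ↥(f.fiber (genericPoint ↥C))))
    have e2 := RatPtsH4.fromSpecResidueField_comp k C (genericPoint ↥C)
    have e3 := RatPtsH4.fromSpecResidueField_comp (C.residueField (genericPoint ↥C))
      (f.fiber (genericPoint ↥C)) (genericPoint ↥(f.fiber (genericPoint ↥C)))
    have e4 := Scheme.Hom.SpecMap_residueFieldMap_fromSpecResidueField
      (f.fiberι (genericPoint ↥C)) (genericPoint ↥(f.fiber (genericPoint ↥C)))
    have e5 : f.fiberι (genericPoint ↥C) ≫ f = f.fiberToSpecResidueField (genericPoint ↥C) ≫
        C.fromSpecResidueField (genericPoint ↥C) := f.fiber_fac (genericPoint ↥C)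
    have e6 : f ≫ (C ↘ Spec (CommRingCat.of k)) = X ↘ Spec (CommRingCat.of k) :=
      comp_over f _
    have hcat : CommRingCat.ofHom (Curv2.resMap k X ((f.fiberι (genericPoint ↥C))
          (genericPoint ↥(f.fiber (genericPoint ↥C))))) ≫
          (f.fiberι (genericPoint ↥C)).residueFieldMap
            (genericPoint ↥(f.fiber (genericPoint ↥C))) =
        CommRingCat.ofHom (Curv2.resMap k C (genericPoint ↥C)) ≫
          CommRingCat.ofHom (Curv2.resMap (C.residueField (genericPoint ↥C))
            (f.fiber (genericPoint ↥C)) (genericPoint ↥(f.fiber (genericPoint ↥C)))) := by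
      apply Spec.map_injective
      rw [Spec.map_comp, Spec.map_comp, ← e1, ← e2, ← e3, ← Category.assoc, e4, Category.assoc,
        ← e6, ← Category.assoc (f.fiberι (genericPoint ↥C)), e5]
      simp only [Category.assoc]
      rfl
    exact alg_core ((f.fiberι (genericPoint ↥C)).residueFieldMap
      (genericPoint ↥(f.fiber (genericPoint ↥C)))).hom
      (congrArg CommRingCat.Hom.hom hcat) hE hM a ha
  exact key _ hgξ

end Groth.Agent.Lib.GeomIrrFibH4
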