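import Mathlib
import Groth.Prelude
import Groth.Agent.Lib.GeomIrr1_lead
import Groth.Agent.Lib.GeomIrr3_lead

set_option autoImplicit false
set_option linter.style.haveILetI false
set_option linter.unusedVariables false
set_option maxSynthPendingDepth 3
universe u
open CategoryTheory CategoryTheory.Limits AlgebraicGeometry TopologicalSpace Opposite
open scoped TensorProduct

namespace Groth.Agent.Lib.GeomIrrPolyH4

theorem isDomain_iff_prime_of_ker {R B G : Type*} [CommRing R] [CommRing B] [FunLike G R B]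
    [RingHomClass G R B] (Φ : G)
    (hΦ : Function.Surjective Φ) (p : R) (hp0 : p ≠ 0) (hker : ∀ z, Φ z = 0 ↔ p ∣ z) :
    IsDomain B ↔ Prime p := by
  constructor
  · intro hB
    haveI := hB
    refine ⟨hp0, ?_, ?_⟩
    · intro hu
      have h1 : Φ 1 = 0 := (hker 1).mpr hu.dvd
      rw [map_one] at h1
      exact one_ne_zero h1
    · intro a b hab
      have h1 : Φ (a * b) = 0 := (hker _).mpr hab
      rw [map_mul] at h1
      rcases mul_eq_zero.mp h1 with h2 | h2
      · exact Or.inl ((hker a).mp h2)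
      · exact Or.inr ((hker b).mp h2)
  · intro hp
    haveI : Nontrivial B := by
      refine ⟨⟨0, 1, fun h01 => ?_⟩⟩
      have h1 : Φ 1 = 0 := by rw [map_one]; exact h01.symm
      exact hp.not_unit (isUnit_of_dvd_one ((hker 1).mp h1))
    haveI : NoZeroDivisors B := by
      refine ⟨fun {x y} hxy => ?_⟩
      obtain ⟨a, rfl⟩ := hΦ x
      obtain ⟨b, rfl⟩ := hΦ y
      rw [← map_mul] at hxy
      rcases hp.dvd_or_dvd ((hker _).mp hxy) with h2 | h2
      · exact Or.inl ((hker a).mpr h2)
      · exact Or.inr ((hker b).mpr h2)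
    exact NoZeroDivisors.to_isDomain B

theorem isDomain_tensor_quotient_iff {k K : Type u} [Field k] [Field K] [Algebra k K] {n : ℕ}
    (F : MvPolynomial (Fin n) k) (hF : 0 < F.totalDegree) :
    IsDomain (K ⊗[k] (MvPolynomial (Fin n) k ⧸
        Ideal.span ({F} : Set (MvPolynomial (Fin n) k)))) ↔
      Irreducible (MvPolynomial.map (algebraMap k K) F) := by
  have hFK0 : MvPolynomial.map (algebraMap k K) F ≠ 0 := by
    intro h0
    have h1 : F = 0 := MvPolynomial.map_injective (algebraMap k K) (algebraMap k K).injective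
      (h0.trans (map_zero _).symm)
    rw [h1, MvPolynomial.totalDegree_zero] at hF
    exact lt_irrefl _ hF
  have he : MvPolynomial.algebraTensorAlgEquiv k K ((1 : K) ⊗ₜ[k] F) =
      MvPolynomial.map (algebraMap k K) F := by
    rw [MvPolynomial.algebraTensorAlgEquiv_tmul, one_smul]
  have hp0 : ((1 : K) ⊗ₜ[k] F : K ⊗[k] MvPolynomial (Fin n) k) ≠ 0 := by
    intro h0
    apply hFK0
    rw [← he, h0, map_zero]
  have hgs : Function.Surjective (Ideal.Quotient.mkₐ k
      (Ideal.span ({F} : Set (MvPolynomial (Fin n) k)))) := Ideal.Quotient.mkₐ_surjective k _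
  have hsurj : Function.Surjective (Algebra.TensorProduct.map (AlgHom.id k K)
      (Ideal.Quotient.mkₐ k (Ideal.span ({F} : Set (MvPolynomial (Fin n) k))))) :=
    LinearMap.lTensor_surjective K
      (g := (Ideal.Quotient.mkₐ k (Ideal.span ({F} : Set (MvPolynomial (Fin n) k)))).toLinearMap)
      hgs
  have hk : RingHom.ker (Ideal.Quotient.mkₐ k
      (Ideal.span ({F} : Set (MvPolynomial (Fin n) k)))) =
      Ideal.span ({F} : Set (MvPolynomial (Fin n) k)) := by
    ext x
    rw [RingHom.mem_ker]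
    exact Ideal.Quotient.eq_zero_iff_mem
  have hker : ∀ z, (Algebra.TensorProduct.map (AlgHom.id k K)
      (Ideal.Quotient.mkₐ k (Ideal.span ({F} : Set (MvPolynomial (Fin n) k))))) z = 0 ↔
      ((1 : K) ⊗ₜ[k] F : K ⊗[k] MvPolynomial (Fin n) k) ∣ z := by
    intro z
    rw [← RingHom.mem_ker, Algebra.TensorProduct.lTensor_ker _ hgs, hk, Ideal.map_span,
      Set.image_singleton, Ideal.mem_span_singleton]
    rfl
  have h1 := isDomain_iff_prime_of_ker (Algebra.TensorProduct.map (AlgHom.id k K)
      (Ideal.Quotient.mkₐ k (Ideal.span ({F} : Set (MvPolynomial (Fin n) k))))) hsurj _ hp0 hker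
  have h2 : Prime ((1 : K) ⊗ₜ[k] F : K ⊗[k] MvPolynomial (Fin n) k) ↔
      Prime (MvPolynomial.map (algebraMap k K) F) := by
    rw [← he]
    exact (MulEquiv.prime_iff (MvPolynomial.algebraTensorAlgEquiv k K)).symm
  exact h1.trans (h2.trans UniqueFactorizationMonoid.irreducible_iff_prime.symm)

theorem isDomain_tensor_of_isAlgClosed_ext {k Ω S : Type u} [Field k] [Field Ω] [Algebra k Ω]
    [IsAlgClosed Ω] [CommRing S] [Algebra k S] (h : IsDomain (Ω ⊗[k] S)) (k' : Type u) [Field k']
    [Algebra k k'] : IsDomain (k' ⊗[k] S) := by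
  haveI := h
  haveI := Groth.Agent.Lib.GeomIrr.nontrivial_tensor_field k Ω k'
  obtain ⟨m, hm⟩ := Ideal.exists_maximal (Ω ⊗[k] k')
  haveI := hm
  haveI : IsDomain ((Ω ⊗[k] k') ⧸ m) := Ideal.Quotient.isDomain m
  haveI : IsDomain (((Ω ⊗[k] k') ⧸ m) ⊗[Ω] (Ω ⊗[k] S)) :=
    Groth.Agent.Lib.GeomIrr.isDomain_tensor_of_isAlgClosed _ _ _
  obtain ⟨ψ, hψ⟩ := Groth.Agent.Lib.GeomIrr.exists_injective_to_common_ext (R := S) m
  exact Function.Injective.isDomain ψ hψ

theorem geomIntegral_iff {k A : Type u} [Field k] [CommRing A] [Algebra k A] :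
    GeometricallyIntegral (Spec.map (CommRingCat.ofHom (algebraMap k A))) ↔
      ∀ (K : Type u) [Field K] [Algebra k K], IsDomain (K ⊗[k] A) := by
  have hsq : ∀ (K : Type u) [Field K] [Algebra k K],
      IsPullback
        (Spec.map (CommRingCat.ofHom (S := K ⊗[k] A)
          (Algebra.TensorProduct.includeRight.toRingHom)))
        (Spec.map (CommRingCat.ofHom (S := K ⊗[k] A)
          (Algebra.TensorProduct.includeLeftRingHom)))
        (Spec.map (CommRingCat.ofHom (algebraMap k A)))
        (Spec.map (CommRingCat.ofHom (algebraMap k K))) := by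
    intro K _ _
    exact isPullback_SpecMap_of_isPushout _ _ _ _ (CommRingCat.isPushout_tensorProduct k K A).flip
  rw [geometricallyIntegral_iff, geometrically_iff_of_commRing]
  constructor
  · intro h K _ _
    have h1 : IsIntegral (Spec (CommRingCat.of (K ⊗[k] A))) := @h K _ _ _ _ _ (hsq K)
    exact (affine_isIntegral_iff _).mp h1
  · intro h K _ _ Y fst snd hY
    haveI : IsDomain (K ⊗[k] A) := h K
    haveI : IsIntegral (Spec (CommRingCat.of (K ⊗[k] A))) :=
      (affine_isIntegral_iff _).mpr inferInstance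
    have e := hY.isoIsPullback _ _ (hsq K)
    haveI : Nonempty Y :=
      ⟨e.inv (Classical.arbitrary (Spec (CommRingCat.of (K ⊗[k] A))))⟩
    exact isIntegral_of_isOpenImmersion e.hom

theorem main4824 {k : Type u} [Field k] (Ω : Type u) [Field Ω] [Algebra k Ω]
    [IsAlgClosed Ω] {n : ℕ} (F : MvPolynomial (Fin n) k) (hF : 0 < F.totalDegree) :
    List.TFAE [
      GeometricallyIntegral (Spec.map (CommRingCat.ofHom
        (algebraMap k (MvPolynomial (Fin n) k ⧸ Ideal.span ({F} : Set (MvPolynomial (Fin n) k)))))),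
      ∀ (K : Type u) [Field K] [Algebra k K], Irreducible (MvPolynomial.map (algebraMap k K) F),
      Irreducible (MvPolynomial.map (algebraMap k Ω) F)] := by
  have hGI := geomIntegral_iff (k := k)
    (A := MvPolynomial (Fin n) k ⧸ Ideal.span ({F} : Set (MvPolynomial (Fin n) k)))
  tfae_have 1 → 3 := by
    intro h
    exact (isDomain_tensor_quotient_iff F hF).mp (hGI.mp h Ω)
  tfae_have 3 → 2 := by
    intro h K _ _
    have h1 : IsDomain (Ω ⊗[k] (MvPolynomial (Fin n) k ⧸
        Ideal.span ({F} : Set (MvPolynomial (Fin n) k)))) :=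
      (isDomain_tensor_quotient_iff F hF).mpr h
    exact (isDomain_tensor_quotient_iff F hF).mp (isDomain_tensor_of_isAlgClosed_ext h1 K)
  tfae_have 2 → 1 := by
    intro h
    exact hGI.mpr (fun K _ _ => (isDomain_tensor_quotient_iff F hF).mpr (h K))
  tfae_finish

end Groth.Agent.Lib.GeomIrrPolyH4
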