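import Mathlib
import Groth.Agent.Lib.GeomIrrSch_helper4

set_option autoImplicit false
set_option linter.style.haveILetI false
set_option linter.unusedSectionVars false
universe u
open scoped TensorProduct
open CategoryTheory CategoryTheory.Limits AlgebraicGeometry

namespace Groth.Agent.Lib.GeomIrrSch2H4

open Groth.Agent.Lib.GeomIrrSchH4

theorem main7590 (k : Type u) [Field k] [IsSepClosed k] (X : Scheme.{u})
    [X.Over (Spec (CommRingCat.of k))] (K : Type u) [Field K] [Algebra k K] :
    Function.Bijective (Continuous.connectedComponentsMap (Curv2.bcFst k X K).continuous) := by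
  haveI := geomConn_specMap (k := k) K
  haveI := universallyOpen_specMap (k := k) K
  have hopen : IsOpenMap (Curv2.bcFst k X K) := (Curv2.bcFst k X K).isOpenMap
  have hco : Topology.IsCoinducing (Curv2.bcFst k X K) :=
    (hopen.isQuotientMap (Curv2.bcFst k X K).continuous
      (Curv2.bcFst k X K).surjective).isCoinducing
  exact hco.connectedComponentsMap_bijective
    (fun y => Scheme.Hom.isConnected_preimage_singleton (Curv2.bcFst k X K) y)

end Groth.Agent.Lib.GeomIrrSch2H4
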