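import Mathlib
import Groth.Prelude
import Groth.Agent.Lib.GeomConnM_helper8
import Groth.Agent.Lib.GeomConnG_helper8
import Groth.Agent.Lib.GeomCountSch_helper4

/-!
# Geometric number of points of quasi-finite morphisms (helper8), I
The geometric number of points of a fibre is attained over a finite separable extension.
APPEND-ONLY once landed.
-/

set_option autoImplicit false
set_option linter.all false
set_option maxHeartbeats 1600000

universe u

open CategoryTheory AlgebraicGeometry CategoryTheory.Limits Topology IsLocalRing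

namespace Groth.Agent.Lib.GeomPtsH8

/-- in a discrete space every singleton is an irreducible component -/
theorem singleton_mem_irreducibleComponents {α : Type*} [TopologicalSpace α] [DiscreteTopology α]
    (z : α) : ({z} : Set α) ∈ irreducibleComponents α := by
  refine ⟨isIrreducible_singleton, ?_⟩
  intro s hs hzs
  obtain ⟨x, rfl⟩ := isIrreducible_iff_singleton.mp hs
  have hzx : z = x := by simpa using hzs
  rw [hzx]

/-- **finite level attainment** of the geometric number of points -/
theorem exists_finite_sep_count {X Y : Scheme.{u}} (f : X ⟶ Y) [LocallyQuasiFinite f]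
    [LocallyOfFiniteType f] [QuasiCompact f] {k₀ : Type u} [Field k₀]
    (t₀ : Spec (CommRingCat.of k₀) ⟶ Y) :
    ∃ (L : Type u) (_ : Field L) (_ : Algebra k₀ L), FiniteDimensional k₀ L ∧
      Algebra.IsSeparable k₀ L ∧
      ∀ (K : Type u) [Field K] (ψ : L →+* K),
        ENat.card ↥(pullback f (Spec.map (CommRingCat.ofHom (ψ.comp (algebraMap k₀ L))) ≫ t₀)) =
          MoreMor.nGeomConnComp f (t₀ (IsLocalRing.closedPoint k₀)) := by
  obtain ⟨f₀, hf₀⟩ : ∃ f₀ : pullback f t₀ ⟶ Spec (CommRingCat.of k₀), f₀ = pullback.snd f t₀ :=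
    ⟨_, rfl⟩
  haveI : LocallyOfFiniteType f₀ := by
    rw [hf₀]; exact MorphismProperty.pullback_snd _ _ inferInstance
  haveI : QuasiCompact f₀ := by
    rw [hf₀]; exact MorphismProperty.pullback_snd _ _ inferInstance
  haveI : LocallyQuasiFinite f₀ := by
    rw [hf₀]; exact MorphismProperty.pullback_snd _ _ inferInstance
  obtain ⟨L, _, _, hfd, hsep, hL⟩ := GeomConnH8.exists_finite_sep_ext_irr f₀
  refine ⟨L, inferInstance, inferInstance, hfd, hsep, ?_⟩
  haveI hsubL : Subsingleton ↥(Spec (CommRingCat.of L)) :=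
    (inferInstance : Subsingleton (PrimeSpectrum L))
  haveI : LocallyQuasiFinite (FBase.bcStr f₀ L) := by
    show LocallyQuasiFinite (pullback.snd f₀ _)
    exact MorphismProperty.pullback_snd _ _ inferInstance
  haveI hdL : DiscreteTopology ↥(FBase.bc f₀ L) :=
    Groth.Agent.Lib.GeomCountH4.discreteTopology_of_lqf (FBase.bcStr f₀ L)
  -- bijectivity of the further base changes
  have key : ∀ (K : Type u) [Field K] [Algebra L K],
      Function.Bijective (FBase.bcπ (FBase.bcStr f₀ L) K) := by
    intro K _ _
    haveI hsubK : Subsingleton ↥(Spec (CommRingCat.of K)) :=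
      (inferInstance : Subsingleton (PrimeSpectrum K))
    haveI : LocallyQuasiFinite (FBase.bcStr (FBase.bcStr f₀ L) K) := by
      show LocallyQuasiFinite (pullback.snd (FBase.bcStr f₀ L) _)
      exact MorphismProperty.pullback_snd _ _ inferInstance
    haveI hdK : DiscreteTopology ↥(FBase.bc (FBase.bcStr f₀ L) K) :=
      Groth.Agent.Lib.GeomCountH4.discreteTopology_of_lqf (FBase.bcStr (FBase.bcStr f₀ L) K)
    constructor
    · intro a b hab
      have hirr := hL K {FBase.bcπ (FBase.bcStr f₀ L) K a}
        (singleton_mem_irreducibleComponents _)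
      obtain ⟨c, hc⟩ := isIrreducible_iff_singleton.mp hirr
      have ha : a ∈ (FBase.bcπ (FBase.bcStr f₀ L) K) ⁻¹'
          {FBase.bcπ (FBase.bcStr f₀ L) K a} := rfl
      have hb : b ∈ (FBase.bcπ (FBase.bcStr f₀ L) K) ⁻¹'
          {FBase.bcπ (FBase.bcStr f₀ L) K a} := hab.symm
      rw [hc] at ha hb
      rw [Set.mem_singleton_iff] at ha hb
      rw [ha, hb]
    · intro z
      obtain ⟨pt⟩ : Nonempty ↥(Spec (CommRingCat.of K)) := inferInstance
      obtain ⟨w, hw1, -⟩ := Scheme.Pullback.exists_preimage_pullback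
        (f := FBase.bcStr f₀ L) (g := Spec.map (CommRingCat.ofHom (algebraMap L K))) z pt
        (Subsingleton.elim _ _)
      exact ⟨w, hw1⟩
  -- identification with a base change of `f`
  have hiso : ∀ (K : Type u) [Field K] [Algebra L K],
      Nonempty (↥(FBase.bc (FBase.bcStr f₀ L) K) ≃ₜ
        ↥(pullback f ((Spec.map (CommRingCat.ofHom (algebraMap L K)) ≫
          Spec.map (CommRingCat.ofHom (algebraMap k₀ L))) ≫ t₀))) := by
    intro K _ _
    have e1 := pullbackLeftPullbackSndIso f₀ (Spec.map (CommRingCat.ofHom (algebraMap k₀ L)))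
      (Spec.map (CommRingCat.ofHom (algebraMap L K)))
    subst hf₀
    have e2 := pullbackLeftPullbackSndIso f t₀ (Spec.map (CommRingCat.ofHom (algebraMap L K)) ≫
      Spec.map (CommRingCat.ofHom (algebraMap k₀ L)))
    exact ⟨(e1 ≪≫ e2).hom.homeomorph⟩
  have hcardL : ∀ (K : Type u) [Field K] [Algebra L K],
      ENat.card ↥(FBase.bc (FBase.bcStr f₀ L) K) = ENat.card ↥(FBase.bc f₀ L) := by
    intro K _ _
    exact ENat.card_congr (Equiv.ofBijective _ (key K))
  have hn : ENat.card ↥(FBase.bc f₀ L) =
      MoreMor.nGeomConnComp f (t₀ (IsLocalRing.closedPoint k₀)) := by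
    rw [← hcardL (SeparableClosure L)]
    obtain ⟨e⟩ := hiso (SeparableClosure L)
    rw [ENat.card_congr e.toEquiv]
    have h1 := GeomConnH8.card_cc_pullback_eq_nGeomConnComp' f (SeparableClosure L)
      ((Spec.map (CommRingCat.ofHom (algebraMap L (SeparableClosure L))) ≫
          Spec.map (CommRingCat.ofHom (algebraMap k₀ L))) ≫ t₀)
    haveI hsubS : Subsingleton ↥(Spec (CommRingCat.of (SeparableClosure L))) :=
      (inferInstance : Subsingleton (PrimeSpectrum (SeparableClosure L)))
    haveI : LocallyQuasiFinite (pullback.snd f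
        ((Spec.map (CommRingCat.ofHom (algebraMap L (SeparableClosure L))) ≫
          Spec.map (CommRingCat.ofHom (algebraMap k₀ L))) ≫ t₀)) :=
      MorphismProperty.pullback_snd _ _ inferInstance
    haveI : DiscreteTopology ↥(pullback f
        ((Spec.map (CommRingCat.ofHom (algebraMap L (SeparableClosure L))) ≫
          Spec.map (CommRingCat.ofHom (algebraMap k₀ L))) ≫ t₀)) :=
      Groth.Agent.Lib.GeomCountH4.discreteTopology_of_lqf (pullback.snd f
        ((Spec.map (CommRingCat.ofHom (algebraMap L (SeparableClosure L))) ≫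
          Spec.map (CommRingCat.ofHom (algebraMap k₀ L))) ≫ t₀))
    rw [Groth.Agent.Lib.GeomCountH4.card_connectedComponents_of_discrete] at h1
    rw [h1, Scheme.Hom.comp_apply]
    haveI hsub0 : Subsingleton ↥(Spec (CommRingCat.of k₀)) :=
      (inferInstance : Subsingleton (PrimeSpectrum k₀))
    congr 2
    exact Subsingleton.elim _ _
  intro K _ ψ
  letI : Algebra L K := ψ.toAlgebra
  obtain ⟨e⟩ := hiso K
  have h2 : Spec.map (CommRingCat.ofHom (ψ.comp (algebraMap k₀ L))) =
      Spec.map (CommRingCat.ofHom (algebraMap L K)) ≫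
          Spec.map (CommRingCat.ofHom (algebraMap k₀ L)) := by
    rw [← Spec.map_comp]
    rfl
  rw [h2, ← ENat.card_congr e.toEquiv, hcardL K, hn]

end Groth.Agent.Lib.GeomPtsH8
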