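import Mathlib

/-!
# Geometric number of points of quasi-finite morphisms (helper8), II
Ring-level lemmas: finite domains over a ring containing roots of prescribed monic polynomials,
and homomorphisms out of simple field extensions.
APPEND-ONLY once landed.
-/

set_option autoImplicit false
set_option linter.all false
set_option maxHeartbeats 1600000

universe u

open IsLocalRing Polynomial IntermediateField

namespace Groth.Agent.Lib.GeomPtsH8

/-- a root of the minimal polynomial of a primitive element gives a homomorphism -/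
theorem exists_algHom_of_root {F E K : Type*} [Field F] [Field E] [Field K] [Algebra F E]
    [Algebra F K] (α : E) (htop : F⟮α⟯ = ⊤) (hint : IsIntegral F α) (r : K)
    (hr : Polynomial.aeval r (minpoly F α) = 0) : Nonempty (E →ₐ[F] K) := by
  have hmem : r ∈ (minpoly F α).aroots K := by
    rw [Polynomial.mem_aroots]; exact ⟨minpoly.ne_zero hint, hr⟩
  let φ := (IntermediateField.algHomAdjoinIntegralEquiv F hint).symm ⟨r, hmem⟩
  exact ⟨φ.comp ((IntermediateField.equivOfEq htop.symm).toAlgHom.comp
    (IntermediateField.topEquiv.symm).toAlgHom)⟩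

/-- **closed side**: a monic polynomial over a local ring whose roots, at points over the closed
point, generate a given finite separable extension of the residue field -/
theorem exists_monic_closed (A₀ : Type u) [CommRing A₀] [IsLocalRing A₀] (Lc : Type u) [Field Lc]
    [Algebra (ResidueField A₀) Lc] [FiniteDimensional (ResidueField A₀) Lc]
    [Algebra.IsSeparable (ResidueField A₀) Lc] :
    ∃ G : A₀[X], G.Monic ∧ G.natDegree ≠ 0 ∧
      ∀ (D : Type u) [CommRing D] [Algebra A₀ D] (r : D), Polynomial.aeval r G = 0 →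
        ∀ (K : Type u) [Field K] (ξ : D →+* K),
          (∀ a ∈ maximalIdeal A₀, ξ (algebraMap A₀ D a) = 0) →
          ∃ ψ : Lc →+* K, ∀ a : A₀,
            ψ (algebraMap (ResidueField A₀) Lc (residue A₀ a)) = ξ (algebraMap A₀ D a) := by
  obtain ⟨α, hα⟩ := Field.exists_primitive_element (ResidueField A₀) Lc
  have hint : IsIntegral (ResidueField A₀) α := Algebra.IsIntegral.isIntegral α
  obtain ⟨G, hGmap, hGdeg, hGmonic⟩ := lifts_and_natDegree_eq_and_monic
    (mem_lifts_of_surjective (residue_surjective (R := A₀)) (minpoly (ResidueField A₀) α))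
    (minpoly.monic hint)
  refine ⟨G, hGmonic, ?_, ?_⟩
  · rw [hGdeg]
    exact (minpoly.natDegree_pos hint).ne'
  · intro D _ _ r hr K _ ξ hξ
    obtain ⟨ρ, hρ⟩ : ∃ ρ : ResidueField A₀ →+* K, ∀ a : A₀,
        ρ (residue A₀ a) = ξ (algebraMap A₀ D a) :=
      ⟨Ideal.Quotient.lift (maximalIdeal A₀) (ξ.comp (algebraMap A₀ D)) hξ, fun a => rfl⟩
    letI : Algebra (ResidueField A₀) K := ρ.toAlgebra
    have hroot : Polynomial.aeval (ξ r) (minpoly (ResidueField A₀) α) = 0 := by
      rw [← hGmap, Polynomial.aeval_def, Polynomial.eval₂_map]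
      have h1 : (algebraMap (ResidueField A₀) K).comp (residue A₀) =
          ξ.comp (algebraMap A₀ D) := by
        ext a
        exact hρ a
      rw [h1, ← Polynomial.hom_eval₂, ← Polynomial.aeval_def, hr, map_zero]
    obtain ⟨ψ⟩ := exists_algHom_of_root α hα hint (ξ r) hroot
    refine ⟨ψ.toRingHom, fun a => ?_⟩
    show ψ (algebraMap (ResidueField A₀) Lc (residue A₀ a)) = _
    rw [ψ.commutes]
    exact hρ a

/-- **generic side**: a monic polynomial over an integrally closed domain whose roots generate a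
given finite separable extension of the fraction field -/
theorem exists_monic_generic (A₀ : Type u) [CommRing A₀] [IsDomain A₀] [IsIntegrallyClosed A₀]
    (Lg : Type u) [Field Lg] [Algebra (FractionRing A₀) Lg]
    [FiniteDimensional (FractionRing A₀) Lg] [Algebra.IsSeparable (FractionRing A₀) Lg] :
    ∃ H : A₀[X], H.Monic ∧ H.natDegree ≠ 0 ∧
      ∀ (D : Type u) [CommRing D] [Algebra A₀ D] (r : D), Polynomial.aeval r H = 0 →
        ∀ (K : Type u) [Field K] (ξ : D →+* K),
          Function.Injective (ξ.comp (algebraMap A₀ D)) →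
          ∃ ψ : Lg →+* K, ∀ a : A₀,
            ψ (algebraMap (FractionRing A₀) Lg (algebraMap A₀ (FractionRing A₀) a)) =
              ξ (algebraMap A₀ D a) := by
  letI : Algebra A₀ Lg :=
    ((algebraMap (FractionRing A₀) Lg).comp (algebraMap A₀ (FractionRing A₀))).toAlgebra
  haveI : IsScalarTower A₀ (FractionRing A₀) Lg := IsScalarTower.of_algebraMap_eq (fun _ => rfl)
  obtain ⟨β₀, hβ₀⟩ := Field.exists_primitive_element (FractionRing A₀) Lg
  haveI : Algebra.IsAlgebraic A₀ (FractionRing A₀) :=
    IsLocalization.isAlgebraic (FractionRing A₀) (nonZeroDivisors A₀)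
  haveI : Algebra.IsAlgebraic A₀ Lg := Algebra.IsAlgebraic.trans A₀ (FractionRing A₀) Lg
  obtain ⟨y, hy0, hyint⟩ := (Algebra.IsAlgebraic.isAlgebraic (R := A₀) β₀).exists_integral_multiple
  obtain ⟨β, hβdef⟩ : ∃ β : Lg, β = y • β₀ := ⟨_, rfl⟩
  rw [← hβdef] at hyint
  have hc0 : algebraMap A₀ (FractionRing A₀) y ≠ 0 := by
    intro h0
    exact hy0 ((map_eq_zero_iff _ (IsFractionRing.injective A₀ (FractionRing A₀))).1 h0)
  have hβtop : (FractionRing A₀)⟮β⟯ = ⊤ := by
    rw [eq_top_iff, ← hβ₀, IntermediateField.adjoin_simple_le_iff]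
    have h1 : β₀ = (algebraMap A₀ (FractionRing A₀) y)⁻¹ • β := by
      rw [hβdef, ← algebraMap_smul (FractionRing A₀) y β₀, smul_smul, inv_mul_cancel₀ hc0,
        one_smul]
    rw [h1]
    exact IntermediateField.smul_mem _ (IntermediateField.mem_adjoin_simple_self _ β)
  have hintK : IsIntegral (FractionRing A₀) β := Algebra.IsIntegral.isIntegral β
  have hminpoly : minpoly (FractionRing A₀) β =
      (minpoly A₀ β).map (algebraMap A₀ (FractionRing A₀)) :=
    minpoly.isIntegrallyClosed_eq_field_fractions' (FractionRing A₀) hyint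
  refine ⟨minpoly A₀ β, minpoly.monic hyint, (minpoly.natDegree_pos hyint).ne', ?_⟩
  intro D _ _ r hr K _ ξ hξ
  obtain ⟨ρ, hρ⟩ : ∃ ρ : FractionRing A₀ →+* K, ∀ a : A₀,
      ρ (algebraMap A₀ (FractionRing A₀) a) = ξ (algebraMap A₀ D a) :=
    ⟨IsFractionRing.lift hξ, fun a => IsFractionRing.lift_algebraMap hξ a⟩
  letI : Algebra (FractionRing A₀) K := ρ.toAlgebra
  have hroot : Polynomial.aeval (ξ r) (minpoly (FractionRing A₀) β) = 0 := by
    rw [hminpoly, Polynomial.aeval_def, Polynomial.eval₂_map]
    have h1 : (algebraMap (FractionRing A₀) K).comp (algebraMap A₀ (FractionRing A₀)) =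
        ξ.comp (algebraMap A₀ D) := by
      ext a
      exact hρ a
    rw [h1, ← Polynomial.hom_eval₂, ← Polynomial.aeval_def, hr, map_zero]
  obtain ⟨ψ⟩ := exists_algHom_of_root β hβtop hintK (ξ r) hroot
  refine ⟨ψ.toRingHom, fun a => ?_⟩
  show ψ (algebraMap (FractionRing A₀) Lg (algebraMap A₀ (FractionRing A₀) a)) = _
  rw [ψ.commutes]
  exact hρ a

/-- a domain, finite over `A₀`, containing roots of two monic polynomials -/
theorem exists_finite_domain_roots (A₀ : Type u) [CommRing A₀] [IsDomain A₀] (G H : A₀[X])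
    (hG : G.Monic) (hG0 : G.natDegree ≠ 0) (hH : H.Monic) (hH0 : H.natDegree ≠ 0) :
    ∃ (D : Type u) (_ : CommRing D) (_ : IsDomain D) (_ : Algebra A₀ D),
      Module.Finite A₀ D ∧ Function.Injective (algebraMap A₀ D) ∧
      ∃ rG rH : D, Polynomial.aeval rG G = 0 ∧ Polynomial.aeval rH H = 0 := by
  have hinjF : Function.Injective
      (algebraMap A₀ (AlgebraicClosure (FractionRing A₀))) := by
    rw [IsScalarTower.algebraMap_eq A₀ (FractionRing A₀) (AlgebraicClosure (FractionRing A₀))]
    exact (algebraMap (FractionRing A₀) (AlgebraicClosure (FractionRing A₀))).injective.comp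
      (IsFractionRing.injective A₀ (FractionRing A₀))
  have hroot : ∀ P : A₀[X], P.Monic → P.natDegree ≠ 0 →
      ∃ r : AlgebraicClosure (FractionRing A₀), Polynomial.aeval r P = 0 := by
    intro P hP hP0
    have hdeg : (P.map (algebraMap A₀ (AlgebraicClosure (FractionRing A₀)))).degree ≠ 0 := by
      rw [Polynomial.degree_map_eq_of_injective hinjF, Polynomial.degree_eq_natDegree hP.ne_zero]
      exact_mod_cast hP0
    obtain ⟨r, hr⟩ := IsAlgClosed.exists_root _ hdeg
    refine ⟨r, ?_⟩
    rw [Polynomial.aeval_def, Polynomial.eval₂_eq_eval_map]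
    exact hr
  obtain ⟨rG, hrG⟩ := hroot G hG hG0
  obtain ⟨rH, hrH⟩ := hroot H hH hH0
  have hintG : IsIntegral A₀ rG := ⟨G, hG, by rw [← Polynomial.aeval_def]; exact hrG⟩
  have hintH : IsIntegral A₀ rH := ⟨H, hH, by rw [← Polynomial.aeval_def]; exact hrH⟩
  have hfg : (Algebra.adjoin A₀
      ({rG, rH} : Set (AlgebraicClosure (FractionRing A₀)))).toSubmodule.FG := by
    apply _root_.fg_adjoin_of_finite (Set.toFinite _)
    intro x hx
    rcases hx with rfl | rfl
    · exact hintG
    · exact hintH
  refine ⟨↥(Algebra.adjoin A₀ ({rG, rH} : Set (AlgebraicClosure (FractionRing A₀)))),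
    inferInstance, inferInstance, inferInstance, ?_, ?_, ?_⟩
  · exact Module.Finite.iff_fg.mpr hfg
  · have h1 : (Algebra.adjoin A₀
        ({rG, rH} : Set (AlgebraicClosure (FractionRing A₀)))).val.toRingHom.comp
        (algebraMap A₀ ↥(Algebra.adjoin A₀
          ({rG, rH} : Set (AlgebraicClosure (FractionRing A₀))))) =
        algebraMap A₀ (AlgebraicClosure (FractionRing A₀)) := by
      ext a; rfl
    have h2 : Function.Injective ((Algebra.adjoin A₀
        ({rG, rH} : Set (AlgebraicClosure (FractionRing A₀)))).val.toRingHom.comp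
        (algebraMap A₀ ↥(Algebra.adjoin A₀
          ({rG, rH} : Set (AlgebraicClosure (FractionRing A₀)))))) := by
      rw [h1]; exact hinjF
    exact Function.Injective.of_comp (f := (Algebra.adjoin A₀
        ({rG, rH} : Set (AlgebraicClosure (FractionRing A₀)))).val) h2
  · refine ⟨⟨rG, Algebra.subset_adjoin (by simp)⟩, ⟨rH, Algebra.subset_adjoin (by simp)⟩, ?_, ?_⟩
    · apply Subtype.val_injective
      rw [← Subalgebra.aeval_coe]
      exact hrG
    · apply Subtype.val_injective
      rw [← Subalgebra.aeval_coe]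
      exact hrH

end Groth.Agent.Lib.GeomPtsH8
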