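import Mathlib
import Groth.Agent.Lib.ProperBirat2_helper7
import Groth.Agent.Lib.CurveFlat_helper7
import Groth.Agent.Lib.SectionExt_helper7

/-!
# Rational maps are defined at normal points over which the graph has an isolated point (helper7)
-/

set_option autoImplicit false
universe u
open CategoryTheory CategoryTheory.Limits AlgebraicGeometry TopologicalSpace

namespace Groth.Agent.Lib.GraphExtH7

open Groth.Agent.Lib.NormalBiratH7 Groth.Agent.Lib

/-- A separated birational morphism of finite type between integral schemes which is quasi-finite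
at a point `y` over a normal point is a local isomorphism at `y`. -/
theorem exists_isOpenImmersion_of_quasiFiniteAt {X Y : Scheme.{u}} [IsIntegral X] [IsIntegral Y]
    (f : Y ⟶ X) [LocallyOfFiniteType f] [IsSeparated f] [QuasiCompact f]
    (hfgen : f (genericPoint Y) = genericPoint X)
    (hfstalk : IsIso (f.stalkMap (genericPoint Y)))
    (y : Y) (hx : IsIntegrallyClosed (X.presheaf.stalk (f y))) (hq : f.QuasiFiniteAt y) :
    ∃ U : Y.Opens, y ∈ U ∧ IsOpenImmersion (U.ι ≫ f) := by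
  obtain ⟨τ, hτ⟩ : ∃ τ : Y ⟶ f.normalization, τ = f.toNormalization := ⟨_, rfl⟩
  obtain ⟨ν, hν⟩ : ∃ ν : f.normalization ⟶ X, ν = f.fromNormalization := ⟨_, rfl⟩
  have hτν : τ ≫ ν = f := by rw [hτ, hν]; exact f.toNormalization_fromNormalization
  haveI : IsIntegralHom ν := by rw [hν]; infer_instance
  haveI : IsDominant τ := by rw [hτ]; infer_instance
  haveI : IsIntegral f.normalization := inferInstance
  obtain ⟨U₀, hU₀, e⟩ := f.exists_isIso_morphismRestrict_toNormalization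
  rw [← hτ] at hU₀ e
  have hyU₀ : y ∈ τ ⁻¹ᵁ U₀ := by
    have : y ∈ (τ ⁻¹ᵁ U₀).carrier := by
      rw [e]; exact hq
    exact this
  haveI : IsOpenImmersion ((τ ⁻¹ᵁ U₀).ι ≫ τ) := by
    rw [← morphismRestrict_ι]; infer_instance
  have hξU₀ : genericPoint Y ∈ τ ⁻¹ᵁ U₀ :=
    (genericPoint_specializes y).mem_open (τ ⁻¹ᵁ U₀).2 hyU₀
  have hτstalk : ∀ y' ∈ τ ⁻¹ᵁ U₀, IsIso (τ.stalkMap y') := fun y' hy' =>
    LocOpenImmH7.isIso_stalkMap_of_isOpenImmersion_ι_comp τ (τ ⁻¹ᵁ U₀) y' hy'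
  have hτgen : τ (genericPoint Y) = genericPoint f.normalization := by
    have h1 : IsGenericPoint (τ (genericPoint Y)) (closure (τ '' Set.univ)) :=
      (genericPoint_spec Y).image τ.continuous
    rw [Set.image_univ, τ.denseRange.closure_range] at h1
    exact h1.eq (genericPoint_spec _)
  have key : ∀ (m : Y ⟶ X) (_ : m = τ ≫ ν) (y' : Y), IsIso (τ.stalkMap y') →
      (IsIso (m.stalkMap y') ↔ IsIso (ν.stalkMap (τ y'))) := by
    rintro _ rfl y' h1
    rw [Scheme.Hom.stalkMap_comp]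
    constructor
    · intro hm
      exact @IsIso.of_isIso_comp_right _ _ _ _ _ (ν.stalkMap (τ y')) (τ.stalkMap y') h1 hm
    · intro hm
      exact @IsIso.comp_isIso _ _ _ _ _ _ _ hm h1
  have hνstalk : IsIso (ν.stalkMap (τ (genericPoint Y))) :=
    (key f hτν.symm _ (hτstalk _ hξU₀)).mp hfstalk
  have hνgen : ν (τ (genericPoint Y)) = genericPoint X := by
    rw [← Scheme.Hom.comp_apply, hτν]; exact hfgen
  have hνy : ν (τ y) = f y := by rw [← Scheme.Hom.comp_apply, hτν]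
  have hx' : IsIntegrallyClosed (X.presheaf.stalk (ν (τ y))) := by rw [hνy]; exact hx
  have hνstalk_y : IsIso (ν.stalkMap (τ y)) :=
    isIso_stalkMap_of_isIntegrallyClosed ν _ hτgen hνgen hνstalk (τ y) hx'
  haveI hfstalk_y : IsIso (f.stalkMap y) := (key f hτν.symm y (hτstalk y hyU₀)).mpr hνstalk_y
  exact BiratMor2H7.exists_local_iso f y (BiratMor2H7.hasLocalSection_of_germInj f y)

/-- Criterion for the stalk map at the generic point to be an isomorphism. -/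
theorem isIso_stalkMap_of_generic {Z W : Scheme.{u}} [IsIntegral Z] [IsIntegral W] (f : Z ⟶ W)
    (ζ : Z) (hζ : ζ = genericPoint Z) (w : W) (hfw : f ζ = w)
    (K : CommRingCat.{u}) [Nontrivial K] (α : Z.presheaf.stalk ζ ⟶ K)
    (ψ : W.presheaf.stalk w ⟶ K) [IsIso ψ]
    (hcomp : Spec.map α ≫ Z.fromSpecStalk ζ ≫ f = Spec.map ψ ≫ W.fromSpecStalk w) :
    IsIso (f.stalkMap ζ) := by
  subst hfw
  have h1 : f.stalkMap ζ ≫ α = ψ := by
    apply Spec.map_injective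
    rw [← cancel_mono (W.fromSpecStalk (f ζ)), Spec.map_comp, Category.assoc,
      Scheme.SpecMap_stalkMap_fromSpecStalk, hcomp]
  have hαinj : Function.Injective α.hom := CurveFlatH7.injective_of_eq_genericPoint ζ hζ α
  have hψbij := ConcreteCategory.bijective_of_isIso ψ
  have hαsurj : Function.Surjective α.hom := by
    intro k
    obtain ⟨b, hb⟩ := hψbij.2 k
    refine ⟨(f.stalkMap ζ).hom b, ?_⟩
    rw [← hb, ← h1]
    rfl
  haveI : IsIso α := (ConcreteCategory.isIso_iff_bijective α).mpr ⟨hαinj, hαsurj⟩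
  have h2 : f.stalkMap ζ = ψ ≫ inv α := by
    rw [← h1, Category.assoc, IsIso.hom_inv_id, Category.comp_id]
  rw [h2]
  infer_instance


/-- Main theorem: a rational map is defined at a normal point over which the closure of its graph
has an isolated point. -/
theorem extends_of_isolated {X Y S : Scheme.{u}} (pX : X ⟶ S) (pY : Y ⟶ S)
    [LocallyOfFiniteType pY] [IsSeparated pY]
    (hX : ∀ y : X, ∃ W : X.Opens, y ∈ W ∧ IsIntegral (W : Scheme.{u}))
    (U : X.Opens) (h : (U : Scheme.{u}) ⟶ Y) (hh : U.ι ≫ pX = h ≫ pY)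
    (x : X) (hx : IsIntegrallyClosed (X.presheaf.stalk x))
    (z : ↥(pullback pX pY)) (hz : pullback.fst pX pY z = x)
    (hzΓ : z ∈ closure (Set.range (pullback.lift U.ι h hh)))
    (hiso : ∃ W : (pullback pX pY).Opens, (W : Set ↥(pullback pX pY)) ∩
      closure (Set.range (pullback.lift U.ι h hh)) ∩ (pullback.fst pX pY) ⁻¹' {x} = {z}) :
    ∃ (V : X.Opens) (v : (V : Scheme.{u}) ⟶ Y), x ∈ V ∧ v ≫ pY = V.ι ≫ pX ∧
      X.homOfLE (inf_le_right : U ⊓ V ≤ V) ≫ v = X.homOfLE (inf_le_left : U ⊓ V ≤ U) ≫ h := by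
  obtain ⟨π₁, hπ₁⟩ : ∃ π₁ : pullback pX pY ⟶ X, π₁ = pullback.fst pX pY := ⟨_, rfl⟩
  obtain ⟨π₂, hπ₂⟩ : ∃ π₂ : pullback pX pY ⟶ Y, π₂ = pullback.snd pX pY := ⟨_, rfl⟩
  obtain ⟨γ, hγ⟩ : ∃ γ : U.toScheme ⟶ pullback pX pY, γ = pullback.lift U.ι h hh := ⟨_, rfl⟩
  rw [← hπ₁] at hz hiso
  rw [← hγ] at hzΓ hiso
  have hγ₁ : γ ≫ π₁ = U.ι := by rw [hγ, hπ₁]; exact pullback.lift_fst _ _ _
  have hγ₂ : γ ≫ π₂ = h := by rw [hγ, hπ₂]; exact pullback.lift_snd _ _ _
  have hcond : π₁ ≫ pX = π₂ ≫ pY := by rw [hπ₁, hπ₂]; exact pullback.condition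
  haveI : LocallyOfFiniteType π₁ := by rw [hπ₁]; infer_instance
  obtain ⟨W_P, hW_P⟩ := hiso
  obtain ⟨W₁, hxW₁, hW₁int⟩ := hX x
  obtain ⟨_, ⟨(W : X.Opens), hWaff, rfl⟩, hxW, hWW₁⟩ :=
    X.isBasis_affineOpens.exists_subset_of_mem_open hxW₁ W₁.2
  haveI : Nonempty W.toScheme := ⟨⟨x, hxW⟩⟩
  haveI := hW₁int
  haveI : IsIntegral W.toScheme := isIntegral_of_isOpenImmersion (X.homOfLE hWW₁)
  haveI : IsAffine W.toScheme := hWaff
  have hzW_P : z ∈ W_P := by
    have h1 : z ∈ (W_P : Set _) ∩ closure (Set.range γ) ∩ π₁ ⁻¹' {x} := by rw [hW_P]; rfl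
    exact h1.1.1
  have hzmem : z ∈ ((W_P ⊓ π₁ ⁻¹ᵁ W : (pullback pX pY).Opens) : Set _) :=
    ⟨hzW_P, by change π₁ z ∈ W; rw [hz]; exact hxW⟩
  obtain ⟨_, ⟨(P₀ : (pullback pX pY).Opens), hP₀aff, rfl⟩, hzP₀, hP₀le⟩ :=
    (pullback pX pY).isBasis_affineOpens.exists_subset_of_mem_open hzmem (W_P ⊓ π₁ ⁻¹ᵁ W).2
  haveI : IsAffine P₀.toScheme := hP₀aff
  have hP₀W_P : ∀ p ∈ P₀, p ∈ W_P := fun p hp => (hP₀le hp).1
  have hP₀W : ∀ p ∈ P₀, π₁ p ∈ W := fun p hp => (hP₀le hp).2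
  -- the open U₃ of X
  obtain ⟨U₃, hU₃⟩ : ∃ U₃ : X.Opens, ∀ u : X, u ∈ U₃ ↔
      ∃ u' : U.toScheme, γ u' ∈ P₀ ∧ U.ι u' = u :=
    ⟨U.ι ''ᵁ (γ ⁻¹ᵁ P₀), fun u => Iff.rfl⟩
  have hU₃U : U₃ ≤ U := by
    intro u hu
    obtain ⟨u', -, rfl⟩ := (hU₃ u).mp hu
    exact u'.2
  have hU₃γ : ∀ u : U₃.toScheme, γ (X.homOfLE hU₃U u) ∈ P₀ := by
    intro u
    obtain ⟨u', hu', hu'eq⟩ := (hU₃ u.1).mp u.2
    have h1 : X.homOfLE hU₃U u = u' := by
      apply Subtype.ext
      rw [Scheme.homOfLE_apply]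
      exact hu'eq.symm
    rw [h1]
    exact hu'
  have hU₃W : U₃ ≤ W := by
    intro u hu
    have h1 := hP₀W _ (hU₃γ ⟨u, hu⟩)
    rw [← Scheme.Hom.comp_apply, hγ₁] at h1
    have h2 : U.ι (X.homOfLE hU₃U ⟨u, hu⟩) = u := Scheme.homOfLE_apply _ _
    rw [h2] at h1
    exact h1
  obtain ⟨_, hp₀, ⟨u₀, rfl⟩⟩ := mem_closure_iff.mp hzΓ P₀ P₀.2 hzP₀
  have hu₀ : U.ι u₀ ∈ U₃ := (hU₃ _).mpr ⟨u₀, hp₀, rfl⟩
  haveI : Nonempty U₃.toScheme := ⟨⟨U.ι u₀, hu₀⟩⟩
  haveI : IsIntegral U₃.toScheme := isIntegral_of_isOpenImmersion (X.homOfLE hU₃W)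
  have hr3 : Set.range (X.homOfLE hU₃U ≫ γ) ⊆ Set.range P₀.ι := by
    rintro _ ⟨u, rfl⟩
    rw [Scheme.Opens.range_ι, Scheme.Hom.comp_apply]
    exact hU₃γ u
  obtain ⟨γ₃, hγ₃⟩ : ∃ γ₃ : U₃.toScheme ⟶ P₀.toScheme, γ₃ ≫ P₀.ι = X.homOfLE hU₃U ≫ γ :=
    ⟨IsOpenImmersion.lift _ _ hr3, IsOpenImmersion.lift_fac _ _ _⟩
  -- the generic point morphism
  obtain ⟨ιK, hιK⟩ : ∃ ιK : Spec U₃.toScheme.functionField ⟶ U₃.toScheme,
      ιK = U₃.toScheme.fromSpecStalk (genericPoint U₃.toScheme) := ⟨_, rfl⟩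
  obtain ⟨t₀, ht₀⟩ : ∃ t₀ : Spec U₃.toScheme.functionField,
      t₀ = IsLocalRing.closedPoint U₃.toScheme.functionField := ⟨_, rfl⟩
  have hιK0 : ιK t₀ = genericPoint U₃.toScheme := by
    rw [hιK, ht₀]; exact Scheme.fromSpecStalk_closedPoint
  haveI hsubK : Subsingleton (Spec U₃.toScheme.functionField) :=
    (inferInstance : Subsingleton (PrimeSpectrum U₃.toScheme.functionField))
  obtain ⟨g, hg⟩ : ∃ g : Spec U₃.toScheme.functionField ⟶ P₀.toScheme, g = ιK ≫ γ₃ := ⟨_, rfl⟩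
  haveI : QuasiCompact g := SectionExtH7.quasiCompact_of_subsingleton g
  haveI : IsIntegral g.image := SectionExtH7.isIntegral_image g
  haveI : IsAffine g.image := isAffine_of_isAffineHom g.imageι
  have hrW : Set.range (g.imageι ≫ P₀.ι ≫ π₁) ⊆ Set.range W.ι := by
    rintro _ ⟨t, rfl⟩
    rw [Scheme.Opens.range_ι]
    simp only [Scheme.Hom.comp_apply]
    exact hP₀W _ (g.imageι t).2
  obtain ⟨fW, hfW⟩ : ∃ fW : g.image ⟶ W.toScheme, fW ≫ W.ι = g.imageι ≫ P₀.ι ≫ π₁ :=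
    ⟨IsOpenImmersion.lift _ _ hrW, IsOpenImmersion.lift_fac _ _ _⟩
  haveI : LocallyOfFiniteType (fW ≫ W.ι) := by rw [hfW]; infer_instance
  haveI : LocallyOfFiniteType fW := locallyOfFiniteType_of_comp fW W.ι
  haveI : IsAffineHom fW := isAffineHom_of_isAffine fW
  haveI : IsSeparated fW := IsSeparated.of_isAffineHom fW
  have hζ : g.toImage t₀ = genericPoint g.image := by
    have h1 : IsGenericPoint (g.toImage t₀) (closure (Set.range g.toImage)) := by
      have h2 : Set.range g.toImage = {g.toImage t₀} := by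
        ext q
        constructor
        · rintro ⟨t, rfl⟩
          rw [Subsingleton.elim t t₀]; rfl
        · rintro rfl
          exact ⟨t₀, rfl⟩
      rw [h2]
      exact isGenericPoint_closure
    rw [g.toImage.denseRange.closure_range] at h1
    exact h1.eq (genericPoint_spec _)
  have e1 : g ≫ P₀.ι ≫ π₁ = ιK ≫ U₃.ι := by
    rw [hg, Category.assoc, ← Category.assoc γ₃, hγ₃, Category.assoc, hγ₁, Scheme.homOfLE_ι]
  have hc : g.toImage ≫ fW = ιK ≫ X.homOfLE hU₃W := by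
    rw [← cancel_mono W.ι, Category.assoc, hfW, Scheme.Hom.toImage_imageι_assoc, e1,
      Category.assoc, Scheme.homOfLE_ι]
  have hjη : X.homOfLE hU₃W (genericPoint U₃.toScheme) = genericPoint W.toScheme :=
    genericPoint_eq_of_isOpenImmersion (X.homOfLE hU₃W)
  have hfζ : fW (genericPoint g.image) = X.homOfLE hU₃W (genericPoint U₃.toScheme) := by
    rw [← hζ, ← Scheme.Hom.comp_apply, hc, Scheme.Hom.comp_apply, hιK0]
  have hfgen : fW (genericPoint g.image) = genericPoint W.toScheme := hfζ.trans hjη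
  obtain ⟨α, hα⟩ := BiratStalkH7.exists_stalkHom (R := U₃.toScheme.functionField) g.toImage
    (genericPoint g.image) (by rw [← ht₀]; exact hζ)
  have hfstalk : IsIso (fW.stalkMap (genericPoint g.image)) := by
    refine isIso_stalkMap_of_generic fW (genericPoint g.image) rfl _ hfζ
      U₃.toScheme.functionField α ((X.homOfLE hU₃W).stalkMap (genericPoint U₃.toScheme)) ?_
    rw [← Category.assoc, hα, hc, Scheme.SpecMap_stalkMap_fromSpecStalk, hιK]
  -- the point of the image over z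
  have hzcl : (⟨z, hzP₀⟩ : P₀.toScheme) ∈ Set.range g.imageι := by
    rw [Scheme.IdealSheafData.range_subschemeι, Scheme.Hom.support_ker]
    refine mem_closure_iff.mpr ?_
    intro O hO hzO
    have hO' : IsOpen (P₀.ι '' O) := P₀.ι.isOpenEmbedding.isOpenMap O hO
    obtain ⟨_, ⟨o, hoO, rfl⟩, ⟨u, hu⟩⟩ := mem_closure_iff.mp hzΓ _ hO' ⟨_, hzO, rfl⟩
    have hγu : γ u ∈ P₀ := by rw [hu]; exact o.2
    have huU₃ : U.ι u ∈ U₃ := (hU₃ _).mpr ⟨u, hγu, rfl⟩
    have h1 : γ₃ ⟨U.ι u, huU₃⟩ = o := by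
      apply P₀.ι.isEmbedding.injective
      have h0 : X.homOfLE hU₃U ⟨U.ι u, huU₃⟩ = u := Subtype.ext (Scheme.homOfLE_apply _ _)
      rw [← Scheme.Hom.comp_apply, hγ₃, Scheme.Hom.comp_apply, h0, hu]
    have h2 : g t₀ ⤳ o := by
      rw [← h1, hg, Scheme.Hom.comp_apply, hιK0]
      exact (genericPoint_specializes _).map γ₃.continuous
    exact ⟨g t₀, h2.mem_open hO hoO, ⟨t₀, rfl⟩⟩
  obtain ⟨z', hz'⟩ := hzcl
  have hfz' : W.ι (fW z') = x := by
    rw [← Scheme.Hom.comp_apply, hfW]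
    simp only [Scheme.Hom.comp_apply]
    rw [hz']
    exact hz
  have hfib : ∀ z'' : g.image, fW z'' = fW z' → z'' = z' := by
    intro z'' hz''
    apply g.imageι.isEmbedding.injective
    rw [hz']
    apply Subtype.ext
    have hmem : P₀.ι (g.imageι z'') ∈ (W_P : Set _) ∩ closure (Set.range γ) ∩ π₁ ⁻¹' {x} := by
      refine ⟨⟨hP₀W_P _ (g.imageι z'').2, ?_⟩, ?_⟩
      · have h1 : g.imageι z'' ∈ closure (Set.range g) := by
          rw [← Scheme.Hom.support_ker, ← Scheme.IdealSheafData.range_subschemeι]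
          exact ⟨z'', rfl⟩
        have h2 := image_closure_subset_closure_image P₀.ι.continuous ⟨_, h1, rfl⟩
        refine closure_mono ?_ h2
        rintro _ ⟨_, ⟨t, rfl⟩, rfl⟩
        rw [hg, ← Scheme.Hom.comp_apply, Category.assoc, hγ₃, ← Category.assoc,
          Scheme.Hom.comp_apply]
        exact ⟨_, rfl⟩
      · change π₁ (P₀.ι (g.imageι z'')) = x
        have h3 := congrArg W.ι hz''
        rw [hfz', ← Scheme.Hom.comp_apply, hfW] at h3
        simpa only [Scheme.Hom.comp_apply] using h3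
    rw [hW_P] at hmem
    exact hmem
  have hq : fW.QuasiFiniteAt z' := by
    rw [Scheme.Hom.quasiFiniteAt_iff_isOpen_singleton_asFiber]
    have hfibmem : ∀ a : fW.fiber (fW z'), fW.fiberι (fW z') a = z' := by
      intro a
      apply hfib
      have h1 : fW.fiberι (fW z') a ∈ Set.range (fW.fiberι (fW z')) := ⟨a, rfl⟩
      rw [fW.range_fiberι] at h1
      exact h1
    have hsub : ∀ a b : fW.fiber (fW z'), a = b := by
      intro a b
      apply (fW.fiberι (fW z')).isEmbedding.injective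
      rw [hfibmem a, hfibmem b]
    have h2 : ({fW.asFiber z'} : Set (fW.fiber (fW z'))) = Set.univ := by
      ext q
      simp only [Set.mem_singleton_iff, Set.mem_univ, iff_true]
      exact hsub _ _
    rw [h2]
    exact isOpen_univ
  have hx'' : IsIntegrallyClosed (X.presheaf.stalk (W.ι (fW z'))) := by rw [hfz']; exact hx
  have hx' : IsIntegrallyClosed (W.toScheme.presheaf.stalk (fW z')) := by
    haveI := hx''
    exact IsIntegrallyClosed.of_equiv (asIso (W.ι.stalkMap (fW z'))).commRingCatIsoToRingEquiv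
  obtain ⟨Z', hz'Z', hZ'⟩ := exists_isOpenImmersion_of_quasiFiniteAt fW hfgen hfstalk z' hx' hq
  haveI := hZ'
  obtain ⟨m, hm⟩ : ∃ m : Z'.toScheme ⟶ X, m = (Z'.ι ≫ fW) ≫ W.ι := ⟨_, rfl⟩
  haveI : IsOpenImmersion m := by rw [hm]; infer_instance
  obtain ⟨v, hv⟩ : ∃ v : m.opensRange.toScheme ⟶ Y,
      v = m.isoOpensRange.inv ≫ Z'.ι ≫ g.imageι ≫ P₀.ι ≫ π₂ := ⟨_, rfl⟩
  have hvS : v ≫ pY = m.opensRange.ι ≫ pX := by
    have e2 : m ≫ pX = (Z'.ι ≫ g.imageι ≫ P₀.ι ≫ π₂) ≫ pY := by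
      have e2' : m = Z'.ι ≫ (fW ≫ W.ι) := by rw [hm, Category.assoc]
      rw [e2', hfW]
      simp only [Category.assoc]
      rw [hcond]
    rw [hv, Category.assoc, ← e2, ← Category.assoc, Scheme.Hom.isoOpensRange_inv_comp]
  have hxV : x ∈ m.opensRange := by
    refine ⟨⟨z', hz'Z'⟩, ?_⟩
    rw [hm]
    simp only [Scheme.Hom.comp_apply]
    exact hfz'
  refine ⟨m.opensRange, v, hxV, hvS, ?_⟩
  -- agreement on U ⊓ V
  have hζZ' : genericPoint g.image ∈ Z' :=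
    (genericPoint_specializes z').mem_open Z'.2 hz'Z'
  have hra : Set.range g.toImage ⊆ Set.range Z'.ι := by
    rintro _ ⟨t, rfl⟩
    rw [Scheme.Opens.range_ι, Subsingleton.elim t t₀, hζ]
    exact hζZ'
  obtain ⟨a', ha'⟩ : ∃ a' : Spec U₃.toScheme.functionField ⟶ Z'.toScheme,
      a' ≫ Z'.ι = g.toImage := ⟨IsOpenImmersion.lift _ _ hra, IsOpenImmersion.lift_fac _ _ _⟩
  have ha'm : a' ≫ m = ιK ≫ U₃.ι := by
    rw [hm, ← Category.assoc, ← Category.assoc, ha', hc, Category.assoc, Scheme.homOfLE_ι]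
  have hrT : Set.range (ιK ≫ U₃.ι) ⊆ Set.range (U ⊓ m.opensRange).ι := by
    rintro _ ⟨t, rfl⟩
    rw [Scheme.Opens.range_ι]
    constructor
    · rw [Scheme.Hom.comp_apply]
      exact hU₃U (ιK t).2
    · rw [← ha'm]
      exact ⟨a' t, rfl⟩
  obtain ⟨ιT, hιT⟩ : ∃ ιT : Spec U₃.toScheme.functionField ⟶ (U ⊓ m.opensRange).toScheme,
      ιT ≫ (U ⊓ m.opensRange).ι = ιK ≫ U₃.ι :=
    ⟨IsOpenImmersion.lift _ _ hrT, IsOpenImmersion.lift_fac _ _ _⟩
  haveI : IsDominant ιT := by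
    constructor
    intro q
    have hq' : ιT t₀ ⤳ q := by
      rw [← (U ⊓ m.opensRange).ι.isEmbedding.isInducing.specializes_iff]
      have h1 : (U ⊓ m.opensRange).ι (ιT t₀) = U₃.ι (genericPoint U₃.toScheme) := by
        rw [← Scheme.Hom.comp_apply, hιT, Scheme.Hom.comp_apply, hιK0]
      rw [h1]
      obtain ⟨q', hq'⟩ := q.2.2
      have h2 : (U ⊓ m.opensRange).ι q = W.ι ((Z'.ι ≫ fW) q') := by
        rw [← Scheme.Hom.comp_apply, ← hm]
        exact hq'.symm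
      rw [h2]
      have h3 : U₃.ι (genericPoint U₃.toScheme) = W.ι (genericPoint W.toScheme) := by
        rw [← hjη, ← Scheme.Hom.comp_apply, Scheme.homOfLE_ι]
      rw [h3]
      exact (genericPoint_specializes _).map W.ι.continuous
    exact closure_mono (Set.singleton_subset_iff.mpr (Set.mem_range_self t₀))
      (specializes_iff_mem_closure.mp hq')
  haveI : IsReduced m.opensRange.toScheme := isReduced_of_isOpenImmersion m.isoOpensRange.inv
  haveI : IsReduced (U ⊓ m.opensRange).toScheme :=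
    isReduced_of_isOpenImmersion (X.homOfLE (inf_le_right : U ⊓ m.opensRange ≤ m.opensRange))
  apply ext_of_isDominant_of_isSeparated pY ?_ ιT ?_
  · rw [Category.assoc, hvS, ← Category.assoc, Scheme.homOfLE_ι, Category.assoc, ← hh,
      ← Category.assoc, Scheme.homOfLE_ι]
  · have e3 : ιT ≫ X.homOfLE (inf_le_left : U ⊓ m.opensRange ≤ U) = ιK ≫ X.homOfLE hU₃U := by
      rw [← cancel_mono U.ι, Category.assoc, Scheme.homOfLE_ι, hιT, Category.assoc,
        Scheme.homOfLE_ι]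
    have e4 : ιT ≫ X.homOfLE (inf_le_right : U ⊓ m.opensRange ≤ m.opensRange) ≫
        m.isoOpensRange.inv = a' := by
      rw [← cancel_mono m, Category.assoc, Category.assoc, Scheme.Hom.isoOpensRange_inv_comp,
        Scheme.homOfLE_ι, hιT, ha'm]
    have e5 : g ≫ P₀.ι ≫ π₂ = ιK ≫ X.homOfLE hU₃U ≫ h := by
      rw [hg, Category.assoc, ← Category.assoc γ₃, hγ₃, Category.assoc, hγ₂]
    calc ιT ≫ X.homOfLE (inf_le_right : U ⊓ m.opensRange ≤ m.opensRange) ≫ v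
        = (ιT ≫ X.homOfLE (inf_le_right : U ⊓ m.opensRange ≤ m.opensRange) ≫
            m.isoOpensRange.inv) ≫ Z'.ι ≫ g.imageι ≫ P₀.ι ≫ π₂ := by
          rw [hv]; simp only [Category.assoc]
      _ = (a' ≫ Z'.ι) ≫ g.imageι ≫ P₀.ι ≫ π₂ := by rw [e4, Category.assoc]
      _ = g ≫ P₀.ι ≫ π₂ := by rw [ha', Scheme.Hom.toImage_imageι_assoc]
      _ = (ιK ≫ X.homOfLE hU₃U) ≫ h := by rw [e5, Category.assoc]
      _ = ιT ≫ X.homOfLE (inf_le_left : U ⊓ m.opensRange ≤ U) ≫ h := by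
          rw [← e3, Category.assoc]

end Groth.Agent.Lib.GraphExtH7
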