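import Mathlib
import Groth.Agent.Lib.GraphExt_helper7
import Groth.Agent.Lib.RatExt_helper7
import Groth.Agent.Lib.BiratQF_helper7

/-!
# Extending a section at a normal point (helper8)

A wrapper around helper7's `extends_of_isolated`, for sections of `q : Y ⟶ X` and a point `x` having
an integral open neighbourhood `N`.
-/

set_option autoImplicit false
universe u
open CategoryTheory CategoryTheory.Limits AlgebraicGeometry TopologicalSpace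

namespace RatSecH8

variable {X Y : Scheme.{u}}

theorem resSec_comp (q : Y ⟶ X) (U N : X.Opens) (h : (U : Scheme.{u}) ⟶ Y) (hh : h ≫ q = U.ι) :
    (N.ι ⁻¹ᵁ U).ι ≫ N.ι = ((N.ι ∣_ U) ≫ h) ≫ q := by
  rw [Category.assoc, hh, morphismRestrict_ι]

theorem section_extends_at (q : Y ⟶ X) [LocallyOfFiniteType q] [IsSeparated q] (U : X.Opens)
    (h : (U : Scheme.{u}) ⟶ Y) (hh : h ≫ q = U.ι) (x : X) (N : X.Opens) (hxN : x ∈ N)
    [IsIntegral N.toScheme] (hx : IsIntegrallyClosed (X.presheaf.stalk x))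
    (z : ↥(pullback N.ι q)) (hz : pullback.fst N.ι q z = ⟨x, hxN⟩)
    (hzΓ : z ∈ closure (Set.range (pullback.lift (N.ι ⁻¹ᵁ U).ι ((N.ι ∣_ U) ≫ h)
      (resSec_comp q U N h hh))))
    (hiso : ∃ W : (pullback N.ι q).Opens, (W : Set ↥(pullback N.ι q)) ∩
      closure (Set.range (pullback.lift (N.ι ⁻¹ᵁ U).ι ((N.ι ∣_ U) ≫ h)
        (resSec_comp q U N h hh))) ∩ (pullback.fst N.ι q) ⁻¹' {⟨x, hxN⟩} = {z}) :
    ∃ (V : X.Opens) (v : (V : Scheme.{u}) ⟶ Y), x ∈ V ∧ v ≫ q = V.ι ∧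
      X.homOfLE (inf_le_right : U ⊓ V ≤ V) ≫ v = X.homOfLE (inf_le_left : U ⊓ V ≤ U) ≫ h := by
  have hX : ∀ y : N.toScheme, ∃ W : N.toScheme.Opens, y ∈ W ∧ IsIntegral (W : Scheme.{u}) := by
    intro y
    haveI : Nonempty ((⊤ : N.toScheme.Opens) : Scheme.{u}) := ⟨⟨y, trivial⟩⟩
    exact ⟨⊤, trivial, inferInstance⟩
  have hx' : IsIntegrallyClosed (N.toScheme.presheaf.stalk ⟨x, hxN⟩) := by
    haveI : IsIntegrallyClosed (X.presheaf.stalk (N.ι ⟨x, hxN⟩)) := hx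
    exact IsIntegrallyClosed.of_equiv
      (asIso (N.ι.stalkMap ⟨x, hxN⟩)).commRingCatIsoToRingEquiv
  obtain ⟨V, v, hxV, hvq, hag⟩ := Groth.Agent.Lib.GraphExtH7.extends_of_isolated N.ι q hX
    (N.ι ⁻¹ᵁ U) ((N.ι ∣_ U) ≫ h) (resSec_comp q U N h hh) ⟨x, hxN⟩ hx' z hz hzΓ hiso
  refine ⟨N.ι ''ᵁ V, (N.ι.isoImage V).inv ≫ v, ⟨⟨x, hxN⟩, hxV, rfl⟩, ?_, ?_⟩
  · rw [Category.assoc, hvq, Scheme.Hom.isoImage_inv_ι]
  · -- transport of the agreement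
    have hle : N.ι ''ᵁ (N.ι ⁻¹ᵁ U ⊓ V) = U ⊓ N.ι ''ᵁ V := by
      ext p
      constructor
      · rintro ⟨a, ⟨haU, haV⟩, rfl⟩
        exact ⟨haU, ⟨a, haV, rfl⟩⟩
      · rintro ⟨hpU, ⟨a, haV, rfl⟩⟩
        exact ⟨a, ⟨hpU, haV⟩, rfl⟩
    have hiso : IsIso (X.homOfLE hle.le) :=
      ⟨X.homOfLE hle.ge, by simp, by simp⟩
    rw [← cancel_epi (X.homOfLE hle.le), ← cancel_epi (N.ι.isoImage (N.ι ⁻¹ᵁ U ⊓ V)).hom]
    have e1 : (N.ι.isoImage (N.ι ⁻¹ᵁ U ⊓ V)).hom ≫ X.homOfLE hle.le ≫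
        X.homOfLE (inf_le_right : U ⊓ N.ι ''ᵁ V ≤ N.ι ''ᵁ V) ≫ (N.ι.isoImage V).inv ≫ v =
        N.toScheme.homOfLE (inf_le_right : N.ι ⁻¹ᵁ U ⊓ V ≤ V) ≫ v := by
      rw [← Category.assoc (X.homOfLE _) (X.homOfLE _), Scheme.homOfLE_homOfLE,
        ← Category.assoc, ← Category.assoc]
      congr 1
      rw [← cancel_mono (N.ι.isoImage V).hom, Category.assoc, Iso.inv_hom_id, Category.comp_id,
        ← cancel_mono (N.ι ''ᵁ V).ι]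
      simp
    have e2 : (N.ι.isoImage (N.ι ⁻¹ᵁ U ⊓ V)).hom ≫ X.homOfLE hle.le ≫
        X.homOfLE (inf_le_left : U ⊓ N.ι ''ᵁ V ≤ U) ≫ h =
        N.toScheme.homOfLE (inf_le_left : N.ι ⁻¹ᵁ U ⊓ V ≤ N.ι ⁻¹ᵁ U) ≫ (N.ι ∣_ U) ≫ h := by
      rw [← Category.assoc (X.homOfLE _) (X.homOfLE _), Scheme.homOfLE_homOfLE,
        ← Category.assoc, ← Category.assoc (N.toScheme.homOfLE _)]
      congr 1
      rw [← cancel_mono U.ι]
      simp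
    rw [e1, e2]
    exact hag

end RatSecH8
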