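import Mathlib
import Groth.Agent.Lib.RatSec1_helper8

/-!
# A DVR-point of the graph closure (helper8)
-/

set_option autoImplicit false
universe u
open CategoryTheory CategoryTheory.Limits AlgebraicGeometry TopologicalSpace

namespace RatSecH8

variable {X Y : Scheme.{u}}

/-- every point of the spectrum of a local ring specializes to the closed point -/
theorem specializes_closedPoint' (R : Type u) [CommRing R] [IsLocalRing R]
    (p : ↥(Spec (CommRingCat.of R))) :
    p ⤳ (IsLocalRing.closedPoint R : ↥(Spec (CommRingCat.of R))) := by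
  exact IsLocalRing.specializes_closedPoint (R := R) p

/-- a morphism from a local spectrum whose closed point lands in an open factors through it -/
theorem exists_lift_of_closedPoint_mem (R : Type u) [CommRing R] [IsLocalRing R]
    (u : Spec (CommRingCat.of R) ⟶ X) (N : X.Opens)
    (hN : u (IsLocalRing.closedPoint R) ∈ N) :
    ∃ uN : Spec (CommRingCat.of R) ⟶ N.toScheme, uN ≫ N.ι = u := by
  have hr : Set.range u ⊆ Set.range N.ι := by
    rintro _ ⟨p, rfl⟩
    rw [Scheme.Opens.range_ι]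
    exact ((specializes_closedPoint' R p).map u.continuous).mem_open N.2 hN
  exact ⟨IsOpenImmersion.lift N.ι u hr, IsOpenImmersion.lift_fac _ _ _⟩

theorem exists_point_of_dvr (q : Y ⟶ X) (U : X.Opens) (h : (U : Scheme.{u}) ⟶ Y)
    (hh : h ≫ q = U.ι) (x : X) (N : X.Opens) (hxN : x ∈ N)
    (R : Type u) [CommRing R] [IsDomain R] [IsLocalRing R]
    (u : Spec (CommRingCat.of R) ⟶ X) (hu : u (IsLocalRing.closedPoint R) = x)
    (ub : Spec (CommRingCat.of (FractionRing R)) ⟶ (U : Scheme.{u}))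
    (hub : ub ≫ U.ι = Spec.map (CommRingCat.ofHom (algebraMap R (FractionRing R))) ≫ u)
    (h₁ : Spec (CommRingCat.of R) ⟶ Y) (h₁q : h₁ ≫ q = u)
    (h₁b : Spec.map (CommRingCat.ofHom (algebraMap R (FractionRing R))) ≫ h₁ = ub ≫ h) :
    ∃ z : ↥(pullback N.ι q), pullback.fst N.ι q z = ⟨x, hxN⟩ ∧
      pullback.snd N.ι q z = h₁ (IsLocalRing.closedPoint R) ∧
      z ∈ closure (Set.range (pullback.lift (N.ι ⁻¹ᵁ U).ι ((N.ι ∣_ U) ≫ h)
        (resSec_comp q U N h hh))) := by
  obtain ⟨uN, huN⟩ := exists_lift_of_closedPoint_mem R u N (by rw [hu]; exact hxN)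
  obtain ⟨t, ht⟩ : ∃ t : Spec (CommRingCat.of R) ⟶ pullback N.ι q,
      t = pullback.lift uN h₁ (by rw [huN, h₁q]) := ⟨_, rfl⟩
  have ht1 : t ≫ pullback.fst N.ι q = uN := by rw [ht]; exact pullback.lift_fst _ _ _
  have ht2 : t ≫ pullback.snd N.ι q = h₁ := by rw [ht]; exact pullback.lift_snd _ _ _
  refine ⟨t (IsLocalRing.closedPoint R), ?_, ?_, ?_⟩
  · rw [← Scheme.Hom.comp_apply, ht1]
    apply Subtype.ext
    change N.ι (uN _) = x
    rw [← Scheme.Hom.comp_apply, huN, hu]
  · rw [← Scheme.Hom.comp_apply, ht2]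
  · -- the generic point
    obtain ⟨pt, hpt⟩ : ∃ pt : ↥(Spec (CommRingCat.of (FractionRing R))), True := ⟨⟨⊥, Ideal.isPrime_bot⟩, trivial⟩
    obtain ⟨η, hη⟩ : ∃ η : ↥(Spec (CommRingCat.of R)),
        η = Spec.map (CommRingCat.ofHom (algebraMap R (FractionRing R))) pt := ⟨_, rfl⟩
    have hspec : t η ⤳ t (IsLocalRing.closedPoint R) :=
      (specializes_closedPoint' R η).map t.continuous
    have hmem : t η ∈ Set.range (pullback.lift (N.ι ⁻¹ᵁ U).ι ((N.ι ∣_ U) ≫ h)
        (resSec_comp q U N h hh)) := by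
      -- the point of `N.ι ⁻¹ᵁ U`
      have ha : U.ι (ub pt) = u η := by
        rw [← Scheme.Hom.comp_apply, hub, Scheme.Hom.comp_apply, hη]
      have haN : U.ι (ub pt) ∈ N := by
        rw [ha]
        exact ((specializes_closedPoint' R η).map u.continuous).mem_open N.2 (by rw [hu]; exact hxN)
      have haU : N.ι ⟨U.ι (ub pt), haN⟩ ∈ U := (ub pt).2
      refine ⟨⟨⟨U.ι (ub pt), haN⟩, haU⟩, ?_⟩
      apply (pullback.snd N.ι q).isOpenEmbedding.injective
      have e1 : (N.ι ∣_ U) ⟨⟨U.ι (ub pt), haN⟩, haU⟩ = ub pt := by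
        apply U.ι.isOpenEmbedding.injective
        rw [← Scheme.Hom.comp_apply, morphismRestrict_ι]
        rfl
      have e2 : h₁ η = h (ub pt) := by
        rw [hη, ← Scheme.Hom.comp_apply, h₁b, Scheme.Hom.comp_apply]
      have e3 : (pullback.snd N.ι q) (t η) = h₁ η := by
        rw [← Scheme.Hom.comp_apply, ht2]
      have e4 : (pullback.snd N.ι q) ((pullback.lift (N.ι ⁻¹ᵁ U).ι ((N.ι ∣_ U) ≫ h)
          (resSec_comp q U N h hh)) ⟨⟨U.ι (ub pt), haN⟩, haU⟩) =
          h ((N.ι ∣_ U) ⟨⟨U.ι (ub pt), haN⟩, haU⟩) := by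
        rw [← Scheme.Hom.comp_apply, pullback.lift_snd, Scheme.Hom.comp_apply]
      rw [e4, e3, e2, e1]
    exact hspec.mem_closed isClosed_closure (subset_closure hmem)

end RatSecH8
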