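import Mathlib
import Groth.Agent.Lib.RatSec2_helper8
import Groth.Agent.Lib.UnramLocal_helper7

/-!
# DVRs through a point with prescribed generic point in an open (helper8)
-/

set_option autoImplicit false
universe u
open CategoryTheory CategoryTheory.Limits AlgebraicGeometry TopologicalSpace

namespace RatSecH8

variable {X Y : Scheme.{u}}

theorem specMap_fractionRing_apply (A : Type u) [CommRing A] [IsDomain A]
    (η : ↥(Spec (CommRingCat.of A))) (hη : PrimeSpectrum.asIdeal η = ⊥)
    (pt : ↥(Spec (CommRingCat.of (FractionRing A)))) :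
    Spec.map (CommRingCat.ofHom (algebraMap A (FractionRing A))) pt = η := by
  apply PrimeSpectrum.ext
  rw [hη]
  change Ideal.comap (algebraMap A (FractionRing A)) (PrimeSpectrum.asIdeal pt) = ⊥
  have h0 : PrimeSpectrum.asIdeal pt = ⊥ :=
    (Ideal.eq_bot_or_top _).resolve_right pt.2.ne_top
  rw [h0, Ideal.comap_bot_of_injective _ (IsFractionRing.injective A (FractionRing A))]

theorem exists_dvr_of_specializes_mem [IsLocallyNoetherian X] (U : X.Opens) (b x : X)
    (hbU : b ∈ U) (hbx : b ⤳ x) (hne : b ≠ x) :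
    ∃ (R : Type u) (_ : CommRing R) (_ : IsDomain R) (_ : IsDiscreteValuationRing R)
      (u : Spec (CommRingCat.of R) ⟶ X)
      (ub : Spec (CommRingCat.of (FractionRing R)) ⟶ (U : Scheme.{u})),
      u (IsLocalRing.closedPoint R) = x ∧
        ub ≫ U.ι = Spec.map (CommRingCat.ofHom (algebraMap R (FractionRing R))) ≫ u ∧
        ∀ pt, U.ι (ub pt) = b := by
  obtain ⟨A, iA, iD, iV, a, η, hη, hacl, haη⟩ :=
    Groth.Agent.Lib.UnramLocal_helper7.exists_dvr_of_specializes b x hbx hne
  have hpt : ∀ pt : ↥(Spec (CommRingCat.of (FractionRing A))),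
      (Spec.map (CommRingCat.ofHom (algebraMap A (FractionRing A))) ≫ a) pt = b := by
    intro pt
    rw [Scheme.Hom.comp_apply, specMap_fractionRing_apply A η hη pt, haη]
  have hr : Set.range (Spec.map (CommRingCat.ofHom (algebraMap A (FractionRing A))) ≫ a) ⊆
      Set.range U.ι := by
    rintro _ ⟨pt, rfl⟩
    rw [Scheme.Opens.range_ι, hpt]
    exact hbU
  refine ⟨A, iA, iD, iV, a, IsOpenImmersion.lift U.ι _ hr, hacl,
    IsOpenImmersion.lift_fac _ _ _, ?_⟩
  intro pt
  rw [← Scheme.Hom.comp_apply, IsOpenImmersion.lift_fac, hpt]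

/-- the generic point of an integral open lies in every dense open -/
theorem generic_mem_of_dense (U N : X.Opens) (hU : Dense (U : Set X)) [IsIntegral N.toScheme] :
    N.ι (genericPoint N.toScheme) ∈ U := by
  obtain ⟨y, hyN, hyU⟩ := hU.inter_open_nonempty (N : Set X) N.2
    ⟨N.ι (genericPoint N.toScheme), (genericPoint N.toScheme).2⟩
  have h1 : (⟨y, hyN⟩ : N.toScheme) ∈ (N.ι ⁻¹ᵁ U) := hyU
  have h2 : genericPoint N.toScheme ∈ (N.ι ⁻¹ᵁ U) :=
    ((genericPoint_spec N.toScheme).specializes (Set.mem_univ _)).mem_open (N.ι ⁻¹ᵁ U).2 h1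
  exact h2

theorem generic_specializes (N : X.Opens) [IsIntegral N.toScheme] (x : X) (hxN : x ∈ N) :
    N.ι (genericPoint N.toScheme) ⤳ x := by
  have h := ((genericPoint_spec N.toScheme).specializes
    (Set.mem_univ (⟨x, hxN⟩ : N.toScheme))).map N.ι.continuous
  exact h

end RatSecH8
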