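import Mathlib
import Groth.Prelude
import Groth.Agent.Lib.GeomPts1_helper8
import Groth.Agent.Lib.GeomPts2_helper8
import Groth.Agent.Lib.UnramLocal_helper7
import Groth.Agent.Lib.RatSec3_helper8

/-!
# Geometric number of points of quasi-finite morphisms (helper8), III
A discrete valuation ring through a specialization computing both geometric numbers of points
(EGA IV 15.5.?; S4950).
APPEND-ONLY once landed.
-/

set_option autoImplicit false
set_option linter.all false
set_option maxHeartbeats 1600000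

universe u

open CategoryTheory AlgebraicGeometry CategoryTheory.Limits Topology IsLocalRing

namespace Groth.Agent.Lib.GeomPtsH8

/-- a field valued point of an affine scheme, as a ring homomorphism, with its kernel -/
theorem exists_ringHom_of_field_point {D : Type u} [CommRing D] {κ : CommRingCat.{u}}
    (τ : Spec κ ⟶ Spec (CommRingCat.of D)) (pt : ↥(Spec κ)) (hpt : pt.asIdeal = ⊥) :
    ∃ ξ : D →+* κ, Spec.map (CommRingCat.ofHom ξ) = τ ∧ RingHom.ker ξ = (τ pt).asIdeal := by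
  refine ⟨(Spec.preimage τ).hom, ?_, ?_⟩
  · rw [CommRingCat.ofHom_hom, Spec.map_preimage]
  · have h1 : τ = Spec.map (Spec.preimage τ) := (Spec.map_preimage τ).symm
    rw [h1]
    show _ = Ideal.comap (Spec.preimage τ).hom pt.asIdeal
    rw [hpt, ← RingHom.ker_eq_comap_bot]
    rw [Spec.preimage_map]

/-- the points of the fibre over `c` of a base change are the points of the base change to the
residue field -/
theorem card_fiber_eq {X Y S : Scheme.{u}} (f : X ⟶ Y) (g : S ⟶ Y) (c : S) :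
    ENat.card ↥((pullback.snd f g).fiber c) =
      ENat.card ↥(pullback f (S.fromSpecResidueField c ≫ g)) :=
  ENat.card_congr (pullbackLeftPullbackSndIso f g (S.fromSpecResidueField c)).hom.homeomorph.toEquiv

/-- the count at a point of `Spec A` mapping into `Spec D` over a prime where the residue field
factorisation is available -/
theorem card_fiber_of_factor {X Y : Scheme.{u}} (f : X ⟶ Y) {A₀ D k₀ L : Type u} [CommRing A₀]
    [CommRing D] [Algebra A₀ D] [Field k₀] [Field L] [Algebra k₀ L]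
    (a₀ : Spec (CommRingCat.of A₀) ⟶ Y) (χ : A₀ →+* k₀) (n : ℕ∞)
    (hcount : ∀ (K : Type u) [Field K] (ψ : L →+* K),
      ENat.card ↥(pullback f (Spec.map (CommRingCat.ofHom (ψ.comp (algebraMap k₀ L))) ≫
        Spec.map (CommRingCat.ofHom χ) ≫ a₀)) = n)
    {S : Scheme.{u}} (a : S ⟶ Spec (CommRingCat.of D)) (c : S)
    (hfac : ∀ (K : Type u) [Field K] (ξ : D →+* K), RingHom.ker ξ = (a c).asIdeal →
      ∃ ψ : L →+* K, ∀ x : A₀, ψ (algebraMap k₀ L (χ x)) = ξ (algebraMap A₀ D x)) :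
    ENat.card ↥((pullback.snd f (a ≫ Spec.map (CommRingCat.ofHom (algebraMap A₀ D)) ≫ a₀)).fiber c)
      = n := by
  rw [card_fiber_eq]
  obtain ⟨pt⟩ : Nonempty ↥(Spec (S.residueField c)) := inferInstance
  have hpt : pt.asIdeal = ⊥ :=
    (Ideal.eq_bot_or_top pt.asIdeal).resolve_right pt.2.ne_top
  obtain ⟨ξ, hξ1, hξ2⟩ := exists_ringHom_of_field_point (S.fromSpecResidueField c ≫ a) pt hpt
  rw [Scheme.Hom.comp_apply, Scheme.fromSpecResidueField_apply] at hξ2
  obtain ⟨ψ, hψ⟩ := hfac (S.residueField c) ξ hξ2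
  have heq : S.fromSpecResidueField c ≫ a ≫ Spec.map (CommRingCat.ofHom (algebraMap A₀ D)) ≫ a₀ =
      Spec.map (CommRingCat.ofHom (ψ.comp (algebraMap k₀ L))) ≫
        Spec.map (CommRingCat.ofHom χ) ≫ a₀ := by
    rw [← Category.assoc, ← hξ1, ← Category.assoc, ← Category.assoc, ← Spec.map_comp,
      ← Spec.map_comp, ← CommRingCat.ofHom_comp, ← CommRingCat.ofHom_comp]
    congr 3
    ext x
    exact (hψ x).symm
  rw [heq]
  exact hcount (S.residueField c) ψ

theorem main4950 {X Y : Scheme.{u}} [IsLocallyNoetherian Y] (f : X ⟶ Y)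
    [LocallyQuasiFinite f] [LocallyOfFiniteType f] [QuasiCompact f] (y y' : Y) (hne : y' ≠ y)
    (hgen : y' ⤳ y) :
    ∃ (A : Type u) (_ : CommRing A) (_ : IsDomain A) (_ : IsDiscreteValuationRing A)
      (g : Spec (CommRingCat.of A) ⟶ Y),
      g.base (IsLocalRing.closedPoint A) = y ∧
      g.base (genericPoint (Spec (CommRingCat.of A))) = y' ∧
      MoreMor.nGeomConnComp f y =
        ENat.card ↥((pullback.snd f g).fiber (IsLocalRing.closedPoint A)) ∧
      MoreMor.nGeomConnComp f y' =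
        ENat.card ↥((pullback.snd f g).fiber (genericPoint (Spec (CommRingCat.of A)))) := by
  obtain ⟨A₀, _, _, _, a₀, η₀, hη₀, ha₀c, ha₀g⟩ :=
    Groth.Agent.Lib.UnramLocal_helper7.exists_dvr_of_specializes y' y hgen hne
  -- the two field points
  have htc_pt : (Spec.map (CommRingCat.ofHom (residue A₀)) ≫ a₀)
      (closedPoint (ResidueField A₀)) = y := by
    rw [Scheme.Hom.comp_apply]
    have h1 : Spec.map (CommRingCat.ofHom (residue A₀)) (closedPoint (ResidueField A₀)) =
        closedPoint A₀ := IsLocalRing.PrimeSpectrum.comap_residue A₀ _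
    rw [h1, ha₀c]
  have htg_pt : (Spec.map (CommRingCat.ofHom (algebraMap A₀ (FractionRing A₀))) ≫ a₀)
      (closedPoint (FractionRing A₀)) = y' := by
    rw [Scheme.Hom.comp_apply, RatSecH8.specMap_fractionRing_apply A₀ η₀ hη₀, ha₀g]
  obtain ⟨Lc, _, _, hLcfd, hLcsep, hLc⟩ := exists_finite_sep_count f
    (Spec.map (CommRingCat.ofHom (residue A₀)) ≫ a₀)
  obtain ⟨Lg, _, _, hLgfd, hLgsep, hLg⟩ := exists_finite_sep_count f
    (Spec.map (CommRingCat.ofHom (algebraMap A₀ (FractionRing A₀))) ≫ a₀)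
  rw [htc_pt] at hLc
  rw [htg_pt] at hLg
  haveI := hLcfd
  haveI := hLcsep
  haveI := hLgfd
  haveI := hLgsep
  obtain ⟨G, hGm, hG0, hGprop⟩ := exists_monic_closed A₀ Lc
  obtain ⟨H, hHm, hH0, hHprop⟩ := exists_monic_generic A₀ Lg
  obtain ⟨D, _, _, _, hDfin, hDinj, rG, rH, hrG, hrH⟩ :=
    exists_finite_domain_roots A₀ G H hGm hG0 hHm hH0
  haveI := hDfin
  haveI : IsNoetherianRing D := Algebra.FiniteType.isNoetherianRing A₀ D
  have hker : RingHom.ker (algebraMap A₀ D) = ⊥ := (RingHom.injective_iff_ker_eq_bot _).1 hDinj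
  obtain ⟨𝔫, h𝔫max, h𝔫over⟩ := Ideal.exists_ideal_over_maximal_of_isIntegral (S := D)
    (maximalIdeal A₀) (by rw [hker]; exact bot_le)
  haveI := h𝔫max.isPrime
  obtain ⟨w, hw⟩ : ∃ w : ↥(Spec (CommRingCat.of D)), w.asIdeal = 𝔫 := ⟨⟨𝔫, inferInstance⟩, rfl⟩
  obtain ⟨w', hw'⟩ : ∃ w' : ↥(Spec (CommRingCat.of D)), w'.asIdeal = ⊥ :=
    ⟨⟨⊥, Ideal.isPrime_bot⟩, rfl⟩
  have hspec : w' ⤳ w := by
    refine (PrimeSpectrum.le_iff_specializes (R := D) w' w).1 ?_
    show w'.asIdeal ≤ w.asIdeal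
    rw [hw']
    exact bot_le
  have hneW : w' ≠ w := by
    intro h
    have h1 : 𝔫 = ⊥ := by rw [← hw, ← hw', h]
    have h2 : maximalIdeal A₀ = ⊥ := by
      rw [← h𝔫over, h1, ← RingHom.ker_eq_comap_bot, hker]
    exact IsDiscreteValuationRing.not_a_field A₀ h2
  obtain ⟨A, _, _, _, a, η, hη, hac, haη⟩ :=
    Groth.Agent.Lib.UnramLocal_helper7.exists_dvr_of_specializes w' w hspec hneW
  have hπw : (Spec.map (CommRingCat.ofHom (algebraMap A₀ D)) ≫ a₀) w = y := by
    rw [Scheme.Hom.comp_apply]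
    have h1 : Spec.map (CommRingCat.ofHom (algebraMap A₀ D)) w = closedPoint A₀ := by
      apply PrimeSpectrum.ext
      show Ideal.comap (algebraMap A₀ D) w.asIdeal = maximalIdeal A₀
      rw [hw, h𝔫over]
    rw [h1, ha₀c]
  have hπw' : (Spec.map (CommRingCat.ofHom (algebraMap A₀ D)) ≫ a₀) w' = y' := by
    rw [Scheme.Hom.comp_apply]
    have h1 : Spec.map (CommRingCat.ofHom (algebraMap A₀ D)) w' = η₀ := by
      apply PrimeSpectrum.ext
      show Ideal.comap (algebraMap A₀ D) w'.asIdeal = η₀.asIdeal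
      rw [hw', hη₀, ← RingHom.ker_eq_comap_bot, hker]
    rw [h1, ha₀g]
  have hηgen : genericPoint ↥(Spec (CommRingCat.of A)) = η := by
    rw [genericPoint_eq_bot_of_affine]
    apply PrimeSpectrum.ext
    rw [hη]
    rfl
  refine ⟨A, inferInstance, inferInstance, inferInstance,
    a ≫ Spec.map (CommRingCat.ofHom (algebraMap A₀ D)) ≫ a₀, ?_, ?_, ?_, ?_⟩
  · show (a ≫ Spec.map (CommRingCat.ofHom (algebraMap A₀ D)) ≫ a₀) (closedPoint A) = y
    rw [Scheme.Hom.comp_apply, hac, hπw]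
  · show (a ≫ Spec.map (CommRingCat.ofHom (algebraMap A₀ D)) ≫ a₀)
      (genericPoint ↥(Spec (CommRingCat.of A))) = y'
    rw [hηgen, Scheme.Hom.comp_apply, haη, hπw']
  · symm
    refine card_fiber_of_factor f a₀ (residue A₀) _ hLc a (closedPoint A) ?_
    intro K _ ξ hξ
    rw [hac, hw] at hξ
    refine hGprop D rG hrG K ξ ?_
    intro x hx
    have h1 : algebraMap A₀ D x ∈ RingHom.ker ξ := by
      rw [hξ, ← Ideal.mem_comap, h𝔫over]
      exact hx
    exact h1
  · symm
    rw [hηgen]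
    refine card_fiber_of_factor f a₀ (algebraMap A₀ (FractionRing A₀)) _ hLg a η ?_
    intro K _ ξ hξ
    rw [haη, hw'] at hξ
    refine hHprop D rH hrH K ξ ?_
    exact ((RingHom.injective_iff_ker_eq_bot _).2 hξ).comp hDinj

end Groth.Agent.Lib.GeomPtsH8
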