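import Groth.Agent.Lib.EtCharts_helper7
import Mathlib.AlgebraicGeometry.AlgClosed.Basic
import Mathlib.FieldTheory.IsAlgClosed.AlgebraicClosure

/-!
# Surjectivity of morphisms locally of finite type via geometric points (helper7)
-/

set_option autoImplicit false
universe u
open CategoryTheory CategoryTheory.Limits AlgebraicGeometry Opposite TopologicalSpace

namespace Groth.Agent.Lib.GeomPtsH7

open AlgSp Groth.Agent.Lib.AlgSpPoints_helper7 Groth.Agent.Lib.AlgSpTop_helper7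
  Groth.Agent.Lib.AlgSpPullback_helper7 Groth.Agent.Lib.AlgSpBasic_helper7
  Groth.Agent.Lib.AlgSpOpen_helper7 Groth.Agent.Lib.AlgSpOpenSub_helper7
  Groth.Agent.Lib.AlgSpSmST_helper7 Groth.Agent.Lib.AlgSpLocP4_helper7
  Groth.Agent.Lib.AlgSpLocP10_helper7 Groth.Agent.Lib.AlgSpLocP7_helper7
  Groth.Agent.Lib.AlgSpEtale_helper7 Groth.Agent.Lib.AlgSpLocP3_helper7
  Groth.Agent.Lib.AlgSpFpqc3_helper7 Groth.Agent.Lib.AlgSpFpqc_helper7
  Groth.Agent.Lib.AlgSpQC_helper7 Groth.Agent.Lib.AlgSpQC2_helper7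
  Groth.Agent.Lib.AlgSpLocP_helper7 Groth.Agent.Lib.AlgSpLocP6_helper7
  Groth.Agent.Lib.AlgSpLocP5_helper7 Groth.Agent.Lib.AlgSpLocP2_helper7

variable {S : Scheme.{u}}

theorem exists_lift_of_surjective_lft {X Y : Sp S} (hX : IsAlgSpace X) (hY : IsAlgSpace Y)
    (f : X ⟶ Y) (hf : LocP @LocallyOfFiniteType f) (hs : IsSurjectiveMor f) (k : Type u) [Field k]
    [IsAlgClosed k] (str : Spec (CommRingCat.of k) ⟶ S) (y : (yon S).obj (Over.mk str) ⟶ Y) :
    ∃ x : (yon S).obj (Over.mk str) ⟶ X, x ≫ f = y := by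
  have sq := IsPullback.of_hasPullback f y
  have hP : IsAlgSpace (pullback f y) :=
    isAlgSpace_of_isPullback hY.diag hX (IsAlgSpace.yon_obj (Over.mk str)) sq
  have hsnd : LocP @LocallyOfFiniteType (pullback.snd f y) :=
    locP_baseChange etLocal_locallyOfFiniteType hX hY (IsAlgSpace.yon_obj (Over.mk str)) f y _ _ sq hf
  have hne : Nonempty ↥(Spec (CommRingCat.of k)) :=
    show Nonempty (PrimeSpectrum k) from inferInstance
  obtain ⟨x, hx⟩ := hs (Points.map y (Points.ofScheme (Over.mk str) hne.some))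
  obtain ⟨z, -, -⟩ := exists_of_isPullback sq x _ hx
  obtain ⟨U, a, hae, has⟩ := hP.atlas
  obtain ⟨u, -⟩ := ofPt_surjective a has z
  obtain ⟨m, hm⟩ := (yon S).map_surjective (a ≫ pullback.snd f y)
  haveI : LocallyOfFiniteType m.left :=
    hsnd a (𝟙 _) m hae (repWith_id _ (Over.mk str)) (by rw [hm, Category.comp_id])
  have hJ : JacobsonSpace ↥U.left :=
    LocallyOfFiniteType.jacobsonSpace (Y := Spec (CommRingCat.of k)) m.left
  obtain ⟨x₀, -, hx₀⟩ := nonempty_inter_closedPoints (X := ↥U.left) (Z := Set.univ) ⟨u, trivial⟩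
    isOpen_univ.isLocallyClosed
  have hσ : pointOfClosedPoint (K := k) m.left x₀ hx₀ ≫ m.left = 𝟙 _ :=
    pointOfClosedPoint_comp (K := k) m.left x₀ hx₀
  let σ' : Over.mk str ⟶ U := Over.homMk (pointOfClosedPoint (K := k) m.left x₀ hx₀) (by
    rw [← Over.w m, ← Category.assoc, hσ]
    exact Category.id_comp _)
  have hσ' : σ' ≫ m = 𝟙 _ := by
    ext : 1
    exact hσ
  refine ⟨(yon S).map σ' ≫ a ≫ pullback.fst f y, ?_⟩
  rw [Category.assoc, Category.assoc, pullback.condition, ← Category.assoc a, ← hm,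
    ← Category.assoc, ← Functor.map_comp, hσ', CategoryTheory.Functor.map_id]
  exact Category.id_comp _

theorem isSurjectiveMor_of_lift {X Y : Sp S} (f : X ⟶ Y)
    (h : ∀ (k : Type u) [Field k] [IsAlgClosed k] (str : Spec (CommRingCat.of k) ⟶ S)
      (y : (yon S).obj (Over.mk str) ⟶ Y), ∃ x : (yon S).obj (Over.mk str) ⟶ X, x ≫ f = y) :
    IsSurjectiveMor f := by
  intro y
  obtain ⟨K, _, sK, m, rfl⟩ := mk_surjective' y
  let a : Over.mk (Spec.map (CommRingCat.ofHom (algebraMap K (AlgebraicClosure K))) ≫ sK) ⟶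
      Over.mk sK := Over.homMk (Spec.map (CommRingCat.ofHom (algebraMap K (AlgebraicClosure K)))) rfl
  obtain ⟨x, hx⟩ := h (AlgebraicClosure K) _ ((yon S).map a ≫ m)
  refine ⟨Points.mk (ofHom x), ?_⟩
  rw [map_mk_ofHom, hx, mk_ofHom_comp]

end Groth.Agent.Lib.GeomPtsH7
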