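import Groth.Statements.S18504

/-! # Geometric quotients are universally open (lead) -/

set_option backward.isDefEq.respectTransparency false
set_option backward.isDefEq.respectTransparency.types false
set_option linter.unusedSimpArgs false
set_option linter.unusedVariables false
set_option linter.unusedSectionVars false
set_option linter.style.longLine false
set_option linter.style.haveILetI false
set_option maxHeartbeats 800000

universe u

open CategoryTheory CategoryTheory.Limits MonoidalCategory CartesianMonoidalCategory MonObj GrpObj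
  AlgebraicGeometry Opposite Topology

namespace Groth.Agent.Lib.GeomQuotOpen

theorem main {S : Scheme.{u}} {G X Y : Over S} [GrpObj G] [UniversallyOpen G.hom]
    (a : AlgGrp.Action G X) (φ : X ⟶ Y) (h : GIT.IsGeomQuot a φ) : UniversallyOpen φ.left := by
  refine ⟨fun X' Y' i₁ i₂ f' hpb => ?_⟩
  have hq : IsQuotientMap f' := h.subm i₁ i₂ f' hpb
  obtain ⟨s, hsdef⟩ : ∃ s : (G ⊗ X).left ⟶ X.left, s = a.act.left := ⟨_, rfl⟩
  obtain ⟨p, hpdef⟩ : ∃ p : (G ⊗ X).left ⟶ X.left, p = (snd G X).left := ⟨_, rfl⟩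
  have hinv : s ≫ φ.left = p ≫ φ.left := by rw [hsdef, hpdef]; exact h.inv.left
  haveI : UniversallyOpen p := by rw [hpdef, Over.snd_left]; infer_instance
  obtain ⟨Ψ, hΨ1, hΨ2, hΨs⟩ : ∃ Ψ : (G ⊗ X).left ⟶ pullback φ.left φ.left,
      Ψ ≫ pullback.fst _ _ = s ∧ Ψ ≫ pullback.snd _ _ = p ∧ Function.Surjective Ψ :=
    ⟨GIT.PsiY a φ h.inv, by rw [hsdef]; exact pullback.lift_fst _ _ _,
      by rw [hpdef]; exact pullback.lift_snd _ _ _, h.orbit⟩
  have hw : (pullback.snd p i₁ ≫ f') ≫ i₂ = (pullback.fst p i₁ ≫ s) ≫ φ.left := by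
    calc (pullback.snd p i₁ ≫ f') ≫ i₂ = pullback.snd p i₁ ≫ i₁ ≫ φ.left := by
          rw [Category.assoc, hpb.w]
      _ = (pullback.fst p i₁ ≫ p) ≫ φ.left := by rw [pullback.condition, Category.assoc]
      _ = (pullback.fst p i₁ ≫ s) ≫ φ.left := by rw [Category.assoc, Category.assoc, hinv]
  obtain ⟨s', hs'1, hs'2⟩ : ∃ s' : pullback p i₁ ⟶ X', s' ≫ f' = pullback.snd p i₁ ≫ f' ∧
      s' ≫ i₁ = pullback.fst p i₁ ≫ s :=
    ⟨hpb.lift _ _ hw, hpb.lift_fst _ _ _, hpb.lift_snd _ _ _⟩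
  have hqw : (pullback.fst f' f' ≫ i₁) ≫ φ.left = (pullback.snd f' f' ≫ i₁) ≫ φ.left := by
    calc (pullback.fst f' f' ≫ i₁) ≫ φ.left = (pullback.fst f' f' ≫ f') ≫ i₂ := by
          rw [Category.assoc, Category.assoc, hpb.w]
      _ = (pullback.snd f' f' ≫ f') ≫ i₂ := by rw [pullback.condition]
      _ = (pullback.snd f' f' ≫ i₁) ≫ φ.left := by rw [Category.assoc, Category.assoc, hpb.w]
  obtain ⟨q, hq1, hq2⟩ : ∃ q : pullback f' f' ⟶ pullback φ.left φ.left,
      q ≫ pullback.fst _ _ = pullback.fst f' f' ≫ i₁ ∧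
      q ≫ pullback.snd _ _ = pullback.snd f' f' ≫ i₁ :=
    ⟨pullback.lift _ _ hqw, pullback.lift_fst _ _ _, pullback.lift_snd _ _ _⟩
  have hm : pullback.fst Ψ q ≫ p = (pullback.snd Ψ q ≫ pullback.snd f' f') ≫ i₁ := by
    calc pullback.fst Ψ q ≫ p = (pullback.fst Ψ q ≫ Ψ) ≫ pullback.snd _ _ := by
          rw [Category.assoc, hΨ2]
      _ = (pullback.snd Ψ q ≫ q) ≫ pullback.snd _ _ := by rw [pullback.condition]
      _ = (pullback.snd Ψ q ≫ pullback.snd f' f') ≫ i₁ := by
          rw [Category.assoc, hq2, Category.assoc]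
  obtain ⟨m, hm1, hm2⟩ : ∃ m : pullback Ψ q ⟶ pullback p i₁,
      m ≫ pullback.fst p i₁ = pullback.fst Ψ q ∧
      m ≫ pullback.snd p i₁ = pullback.snd Ψ q ≫ pullback.snd f' f' :=
    ⟨pullback.lift _ _ hm, pullback.lift_fst _ _ _, pullback.lift_snd _ _ _⟩
  have e : m ≫ s' = pullback.snd Ψ q ≫ pullback.fst f' f' := by
    apply hpb.hom_ext
    · calc (m ≫ s') ≫ f' = (m ≫ pullback.snd p i₁) ≫ f' := by
            rw [Category.assoc, hs'1, Category.assoc]
        _ = (pullback.snd Ψ q ≫ pullback.fst f' f') ≫ f' := by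
            rw [hm2, Category.assoc, Category.assoc, pullback.condition]
    · calc (m ≫ s') ≫ i₁ = (m ≫ pullback.fst p i₁) ≫ s := by
            rw [Category.assoc, hs'2, Category.assoc]
        _ = (pullback.fst Ψ q ≫ Ψ) ≫ pullback.fst _ _ := by rw [hm1, Category.assoc, hΨ1]
        _ = (pullback.snd Ψ q ≫ q) ≫ pullback.fst _ _ := by rw [pullback.condition]
        _ = (pullback.snd Ψ q ≫ pullback.fst f' f') ≫ i₁ := by
            rw [Category.assoc, hq1, Category.assoc]
  have key : ∀ U' : Set X', f' ⁻¹' (f' '' U') = pullback.snd p i₁ '' (s' ⁻¹' U') := by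
    intro U'
    ext x
    constructor
    · rintro ⟨u, hu, hux⟩
      obtain ⟨z, hz1, hz2⟩ := Scheme.Pullback.exists_preimage_pullback (f := f') (g := f') u x hux
      obtain ⟨r, hr⟩ := hΨs (q z)
      obtain ⟨t, ht1, ht2⟩ := Scheme.Pullback.exists_preimage_pullback (f := Ψ) (g := q) r z hr
      refine ⟨m t, ?_, ?_⟩
      · have : s' (m t) = u := by
          rw [← Scheme.Hom.comp_apply, e, Scheme.Hom.comp_apply, ht2]
          exact hz1
        show s' (m t) ∈ U'
        rw [this]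
        exact hu
      · rw [← Scheme.Hom.comp_apply, hm2, Scheme.Hom.comp_apply, ht2]
        exact hz2
    · rintro ⟨r', hr', rfl⟩
      refine ⟨s' r', hr', ?_⟩
      rw [← Scheme.Hom.comp_apply, hs'1, Scheme.Hom.comp_apply]
  intro U' hU'
  rw [← hq.isOpen_preimage, key]
  exact (pullback.snd p i₁).isOpenMap _ (hU'.preimage s'.continuous)

end Groth.Agent.Lib.GeomQuotOpen
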