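import Groth.Prelude.Def_AlgSp4
import Groth.Prelude.Def_AlgSpDec
import Groth.Agent.Lib.AlgSpReduced_helper7
import Groth.Agent.Lib.AlgSpPoints_helper7
import Groth.Agent.Lib.AlgSpPullback_helper7
import Groth.Agent.Lib.AlgSpQC_helper7
import Groth.Agent.Lib.AlgSpLocP_helper7
import Groth.Agent.Lib.GeomFibreBC_helper9

/-!
# Geometrically reduced fibres of a morphism of algebraic spaces: independence of the field point
(helper7)
-/

set_option autoImplicit false
universe u
open CategoryTheory CategoryTheory.Limits AlgebraicGeometry Opposite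

namespace Groth.Agent.Lib.GeomRedFibreTFAEH7

open AlgSp Groth.Agent.Lib.AlgSpPoints_helper7 Groth.Agent.Lib.AlgSpPullback_helper7
  Groth.Agent.Lib.AlgSpReduced_helper7 Groth.Agent.Lib.AlgSpLocP_helper7
  Groth.Agent.Lib.AlgSpQC_helper7 Groth.Agent.Lib.GeomFibreBC

variable {S : Scheme.{u}}

theorem flat_specMap_field {L Ω : Type u} [Field L] [Field Ω] (ψ : L →+* Ω) :
    Flat (Spec.map (CommRingCat.ofHom ψ)) := by
  rw [Flat.SpecMap_iff]
  letI := ψ.toAlgebra
  change (algebraMap L Ω).Flat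
  rw [RingHom.flat_algebraMap_iff]
  infer_instance

/-- Descent of reducedness of the fibre along a flat surjective change of the base point. -/
theorem reduced_fibre_descend {X Y : Sp S} (hX : IsAlgSpace X) (hY : IsAlgSpace Y) (f : X ⟶ Y)
    {T T' : Over S} (c : T' ⟶ T) [Flat c.left] [Surjective c.left]
    (t : (yon S).obj T ⟶ Y) (t' : (yon S).obj T' ⟶ Y) (ht : t' = (yon S).map c ≫ t)
    {P P' : Sp S} {a : P ⟶ X} {b : P ⟶ (yon S).obj T} (sq : IsPullback a b f t)
    {a' : P' ⟶ X} {b' : P' ⟶ (yon S).obj T'} (sq' : IsPullback a' b' f t')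
    (h : EtaleLocally (fun U => IsReduced U) P') : EtaleLocally (fun U => IsReduced U) P := by
  subst ht
  have hP : IsAlgSpace P := isAlgSpace_of_isPullback hY.diag hX (IsAlgSpace.yon_obj T) sq
  have hw : a' ≫ f = (b' ≫ (yon S).map c) ≫ t := by rw [Category.assoc]; exact sq'.w
  let g : P' ⟶ P := sq.lift a' (b' ≫ (yon S).map c) hw
  have hg1 : g ≫ a = a' := sq.lift_fst _ _ _
  have hg2 : g ≫ b = b' ≫ (yon S).map c := sq.lift_snd _ _ _
  have sqg : IsPullback g b' b ((yon S).map c) := by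
    refine IsPullback.of_right ?_ hg2 sq
    rw [hg1]
    exact sq'
  have hfl : RepWith @Flat g :=
    repWith_fst_of_isPullback _ sqg ((repWith_yon_map_iff @Flat c).2 inferInstance)
  have hsu : RepWith @Surjective g :=
    repWith_fst_of_isPullback _ sqg ((repWith_yon_map_iff @Surjective c).2 inferInstance)
  exact isReducedSp_of_flat_surjective hP g
    (locP_of_repWith @Flat (fun _ _ g hg => inferInstance) _ hfl)
    (isSurjectiveMor_of_repWith _ hsu) h

theorem main10686 {X Y : AlgSp.Space S} (f : X ⟶ Y) (y : AlgSp.Points Y.obj) :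
    [∃ (k : AlgSp.FieldPt Y.obj), AlgSp.Points.mk k = y ∧
        ∀ (k' : Type u) [Field k'] (φ : k.K →+* k') (Xk' : AlgSp.Sp S) (a : Xk' ⟶ X.obj)
          (b : Xk' ⟶ (AlgSp.yon S).obj (Over.mk (Spec.map (CommRingCat.ofHom φ) ≫ k.str))),
          IsPullback a b f.hom ((AlgSp.yon S).map (Over.homMk (Spec.map (CommRingCat.ofHom φ)) rfl :
            Over.mk (Spec.map (CommRingCat.ofHom φ) ≫ k.str) ⟶ k.pt) ≫ k.toHom) →
          AlgSp.EtaleLocally (fun U => IsReduced U) Xk',
      ∀ (k : AlgSp.FieldPt Y.obj), AlgSp.Points.mk k = y →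
        ∀ (k' : Type u) [Field k'] (φ : k.K →+* k') (Xk' : AlgSp.Sp S) (a : Xk' ⟶ X.obj)
          (b : Xk' ⟶ (AlgSp.yon S).obj (Over.mk (Spec.map (CommRingCat.ofHom φ) ≫ k.str))),
          IsPullback a b f.hom ((AlgSp.yon S).map (Over.homMk (Spec.map (CommRingCat.ofHom φ)) rfl :
            Over.mk (Spec.map (CommRingCat.ofHom φ) ≫ k.str) ⟶ k.pt) ≫ k.toHom) →
          AlgSp.EtaleLocally (fun U => IsReduced U) Xk',
      ∀ (k : AlgSp.FieldPt Y.obj), AlgSp.Points.mk k = y →
        ∀ (Xk : AlgSp.Sp S) (a : Xk ⟶ X.obj) (b : Xk ⟶ (AlgSp.yon S).obj k.pt), IsPullback a b f.hom k.toHom →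
          AlgSp.EtaleLocally (fun U => IsReduced U) Xk].TFAE := by
  tfae_have 2 → 1 := by
    intro h2
    obtain ⟨k, hk⟩ := Points.mk_surjective y
    exact ⟨k, hk, h2 k hk⟩
  tfae_have 2 → 3 := by
    intro h2 k hk Xk a b sq
    let m : Over.mk (Spec.map (CommRingCat.ofHom (RingHom.id k.K)) ≫ k.str) ⟶ k.pt :=
      Over.homMk (Spec.map (CommRingCat.ofHom (RingHom.id k.K))) rfl
    haveI : Flat m.left := flat_specMap_field (RingHom.id k.K)
    haveI : Surjective m.left := surjective_specMap_field (RingHom.id k.K)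
    have sq' := IsPullback.of_hasPullback f.hom ((yon S).map m ≫ k.toHom)
    have hred := h2 k hk k.K (RingHom.id k.K) _ _ _ sq'
    exact reduced_fibre_descend X.property Y.property f.hom m k.toHom _ rfl sq sq' hred
  tfae_have 3 → 2 := by
    intro h3 k hk k' _ φ Xk' a b sq
    let m : Over.mk (Spec.map (CommRingCat.ofHom φ) ≫ k.str) ⟶ k.pt :=
      Over.homMk (Spec.map (CommRingCat.ofHom φ)) rfl
    have hk2 : Points.mk (ofHom ((yon S).map m ≫ k.toHom)) = y := by
      rw [mk_ofHom_comp, ofHom_toHom]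
      exact hk
    have e : (ofHom ((yon S).map m ≫ k.toHom)).toHom = (yon S).map m ≫ k.toHom := toHom_ofHom _
    have h := h3 (ofHom ((yon S).map m ≫ k.toHom)) hk2 Xk' a b
    rw [e] at h
    exact h sq
  tfae_have 1 → 2 := by
    rintro ⟨k, hk, hGR⟩ k2 hk2 k' _ φ Xk' a b sq
    have hrel : FieldPt.Rel k k2 := Points.mk_eq_mk_iff.1 (hk.trans hk2.symm)
    obtain ⟨Ω, _, w, α, β, hαβ⟩ := (rel_iff k k2).1 hrel
    obtain ⟨Ω', _, i₁, i₂, hi⟩ := FieldPt.exists_amalgamation (Spec.preimage β.left).hom φ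
    let φ' : k.K →+* Ω' := i₁.comp (Spec.preimage α.left).hom
    have hφ' : Spec.map (CommRingCat.ofHom φ') = Spec.map (CommRingCat.ofHom i₁) ≫ α.left := by
      conv_rhs => rw [← Spec.map_preimage α.left]
      rw [← Spec.map_comp]
      rfl
    have hβ : Spec.map (CommRingCat.ofHom i₂) ≫ Spec.map (CommRingCat.ofHom φ) =
        Spec.map (CommRingCat.ofHom i₁) ≫ β.left := by
      conv_rhs => rw [← Spec.map_preimage β.left]
      rw [← Spec.map_comp, ← Spec.map_comp]
      congr 1
      exact CommRingCat.hom_ext hi.symm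
    have hαw : α.left ≫ k.str = w := Over.w α
    have hβw : β.left ≫ k2.str = w := Over.w β
    let d : Over.mk (Spec.map (CommRingCat.ofHom φ') ≫ k.str) ⟶ Over.mk w :=
      Over.homMk (Spec.map (CommRingCat.ofHom i₁)) (by
        change Spec.map (CommRingCat.ofHom i₁) ≫ w = Spec.map (CommRingCat.ofHom φ') ≫ k.str
        rw [hφ', Category.assoc, hαw])
    let mφ' : Over.mk (Spec.map (CommRingCat.ofHom φ') ≫ k.str) ⟶ k.pt :=
      Over.homMk (Spec.map (CommRingCat.ofHom φ')) rfl
    let mφ : Over.mk (Spec.map (CommRingCat.ofHom φ) ≫ k2.str) ⟶ k2.pt :=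
      Over.homMk (Spec.map (CommRingCat.ofHom φ)) rfl
    let c : Over.mk (Spec.map (CommRingCat.ofHom φ') ≫ k.str) ⟶
        Over.mk (Spec.map (CommRingCat.ofHom φ) ≫ k2.str) :=
      Over.homMk (Spec.map (CommRingCat.ofHom i₂)) (by
        change Spec.map (CommRingCat.ofHom i₂) ≫ Spec.map (CommRingCat.ofHom φ) ≫ k2.str =
          Spec.map (CommRingCat.ofHom φ') ≫ k.str
        rw [← Category.assoc, hβ, Category.assoc, hβw, hφ', Category.assoc, hαw])
    have h1 : mφ' = d ≫ α := Over.OverMorphism.ext (by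
      change Spec.map (CommRingCat.ofHom φ') = Spec.map (CommRingCat.ofHom i₁) ≫ α.left
      exact hφ')
    have h2 : c ≫ mφ = d ≫ β := Over.OverMorphism.ext (by
      change Spec.map (CommRingCat.ofHom i₂) ≫ Spec.map (CommRingCat.ofHom φ) =
        Spec.map (CommRingCat.ofHom i₁) ≫ β.left
      exact hβ)
    have hleg : (yon S).map mφ' ≫ k.toHom = (yon S).map c ≫ (yon S).map mφ ≫ k2.toHom := by
      rw [h1, Functor.map_comp, Category.assoc, hαβ, ← Category.assoc, ← Functor.map_comp, ← h2,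
        Functor.map_comp, Category.assoc]
    haveI : Flat c.left := flat_specMap_field i₂
    haveI : Surjective c.left := surjective_specMap_field i₂
    have sq'' := IsPullback.of_hasPullback f.hom ((yon S).map mφ' ≫ k.toHom)
    have hred := hGR Ω' φ' _ _ _ sq''
    exact reduced_fibre_descend X.property Y.property f.hom c ((yon S).map mφ ≫ k2.toHom)
      ((yon S).map mφ' ≫ k.toHom) hleg sq sq'' hred
  tfae_finish

end Groth.Agent.Lib.GeomRedFibreTFAEH7
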