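import Mathlib
import Groth.Prelude.Def_Curv2
import Groth.Prelude.Def_FDesc
import Groth.Agent.Lib.BCPoint_helper4
import Groth.Agent.Lib.GeomRegDesc_helper4

/-!
# Geometric regularity at a point descends along a field extension (finitely generated test
extensions) (helper5): S7607.  Built on helper4's `BCPointH4` framework.  APPEND-ONLY once landed.
-/

set_option autoImplicit false
set_option linter.unusedSectionVars false
universe u

namespace Groth.Agent.GeomRegFG

open CategoryTheory CategoryTheory.Limits AlgebraicGeometry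
open Groth.Agent.Lib.BCPointH4 Groth.Agent.Lib.FlatPtBCH4

section ring

lemma isUnit_of_faithfullyFlat {R S : Type u} [CommRing R] [CommRing S] (φ : S →+* R)
    (hφ : φ.FaithfullyFlat) (a : S) (ha : IsUnit (φ a)) : IsUnit a := by
  by_contra hna
  obtain ⟨n, hn, han⟩ := exists_max_ideal_of_mem_nonunits (show a ∈ nonunits S from hna)
  have hsurj := (RingHom.FaithfullyFlat.iff_flat_and_comap_surjective.mp hφ).2
  obtain ⟨q, hq⟩ := hsurj ⟨n, hn.isPrime⟩
  have hmem : φ a ∈ q.asIdeal := by
    have h1 : a ∈ (PrimeSpectrum.comap φ q).asIdeal := by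
      rw [hq]
      exact han
    exact h1
  exact q.isPrime.ne_top (Ideal.eq_top_of_isUnit_mem _ hmem ha)

lemma isLocalRing_of_faithfullyFlat {R S : Type u} [CommRing R] [CommRing S] [IsLocalRing R]
    (φ : S →+* R) (hφ : φ.FaithfullyFlat) : IsLocalRing S := by
  haveI : Nontrivial S := φ.domain_nontrivial
  refine IsLocalRing.of_nonunits_add ?_
  intro a b ha hb
  have ha' : φ a ∈ nonunits R := fun h => ha (isUnit_of_faithfullyFlat φ hφ a h)
  have hb' : φ b ∈ nonunits R := fun h => hb (isUnit_of_faithfullyFlat φ hφ b h)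
  have hab := IsLocalRing.nonunits_add ha' hb'
  intro hu
  exact hab (by rw [← map_add]; exact hu.map φ)

theorem descends_regular :
    Descends (fun (R : Type u) [CommRing R] => IsRegularLocalRing R) := by
  intro R S _ _ φ hφ hR
  haveI : IsRegularLocalRing R := hR
  haveI : IsLocalRing S := isLocalRing_of_faithfullyFlat φ hφ
  exact Groth.Agent.Lib.GeomRegDescH4.regular_of_flat_local' φ
    ⟨fun a ha => isUnit_of_faithfullyFlat φ hφ a ha⟩ hφ.flat

end ring

section bc

variable {k : Type u} [Field k] {X : Scheme.{u}} (f : X ⟶ Spec (CommRingCat.of k))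

theorem bcMap_comp (K M Ω : Type u) [Field K] [Field M] [Field Ω] [Algebra k K] [Algebra k M]
    [Algebra k Ω] [Algebra K M] [Algebra M Ω] [Algebra K Ω] [IsScalarTower k K M]
    [IsScalarTower k M Ω] [IsScalarTower k K Ω] [IsScalarTower K M Ω] :
    bcMap f M Ω ≫ bcMap f K M = bcMap f K Ω := by
  apply pullback.hom_ext
  · change (bcMap f M Ω ≫ bcMap f K M) ≫ FBase.bcπ f K = bcMap f K Ω ≫ FBase.bcπ f K
    rw [Category.assoc, bcMap_fst, bcMap_fst, bcMap_fst]
  · change (bcMap f M Ω ≫ bcMap f K M) ≫ FBase.bcStr f K = bcMap f K Ω ≫ FBase.bcStr f K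
    rw [Category.assoc, bcMap_snd f K M, ← Category.assoc, bcMap_snd f M Ω, Category.assoc,
      bcMap_snd f K Ω, specMap_comp_eq (k := K) M Ω]

theorem descend_pt_fg {P : ∀ (R : Type u) [CommRing R], Prop} (hP : Descends P)
    (K : Type u) [Field K] [Algebra k K] (x' : ↥(FBase.bc f K))
    (h : ∀ (M : Type u) [Field M] [Algebra K M], (⊤ : IntermediateField K M).FG →
      ∀ (x'' : ↥(FBase.bc (FBase.bcStr f K) M)),
      (FBase.bcπ (FBase.bcStr f K) M) x'' = x' →
        P ((FBase.bc (FBase.bcStr f K) M).presheaf.stalk x''))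
    (L : Type u) [Field L] [Algebra k L] (hL : (⊤ : IntermediateField k L).FG)
    (y : ↥(FBase.bc f L))
    (hy : (FBase.bcπ f L) y = (FBase.bcπ f K) x') : P ((FBase.bc f L).presheaf.stalk y) := by
  classical
  obtain ⟨Ω, _, ak, aK, aL, tK, tL, zΩ, hz1, hz2⟩ := exists_compositum_pt f K L x' y hy
  obtain ⟨s, hs⟩ := hL
  let M : IntermediateField K Ω :=
    IntermediateField.adjoin K (↑(s.image (algebraMap L Ω)) : Set Ω)
  have hMFG : M.FG := IntermediateField.fg_adjoin_finset _
  have hrange : ∀ l : L, algebraMap L Ω l ∈ M := by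
    intro l
    have hl : l ∈ IntermediateField.adjoin k (↑s : Set L) := by
      rw [hs]
      trivial
    refine IntermediateField.adjoin_induction k (p := fun x _ => algebraMap L Ω x ∈ M)
      ?_ ?_ ?_ ?_ ?_ hl
    · intro x hx
      refine IntermediateField.subset_adjoin K _ ?_
      rw [Finset.coe_image]
      exact ⟨x, hx, rfl⟩
    · intro a
      rw [← IsScalarTower.algebraMap_apply k L Ω, IsScalarTower.algebraMap_apply k K Ω]
      exact M.algebraMap_mem _
    · intro x y _ _ hx hy
      rw [map_add]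
      exact add_mem hx hy
    · intro x _ hx
      rw [map_inv₀]
      exact inv_mem hx
    · intro x y _ _ hx hy
      rw [map_mul]
      exact mul_mem hx hy
  haveI tkMΩ : IsScalarTower k ↥M Ω := IsScalarTower.of_algebraMap_eq (fun _ => rfl)
  letI algLM : Algebra L ↥M := (RingHom.codRestrict (algebraMap L Ω) M hrange).toAlgebra
  haveI tLMΩ : IsScalarTower L ↥M Ω := IsScalarTower.of_algebraMap_eq (fun _ => rfl)
  haveI tkLM : IsScalarTower k L ↥M := IsScalarTower.of_algebraMap_eq (fun a => by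
    apply Subtype.ext
    exact IsScalarTower.algebraMap_apply k L Ω a)
  have hMtop : (⊤ : IntermediateField K ↥M).FG :=
    IntermediateField.fg_top_iff.mpr (IntermediateField.essFiniteType_iff.mpr hMFG)
  let z : ↥(FBase.bc f ↥M) := bcMap f ↥M Ω zΩ
  have hzK : bcMap f K ↥M z = x' := by
    show bcMap f K ↥M (bcMap f ↥M Ω zΩ) = x'
    rw [← Scheme.Hom.comp_apply, bcMap_comp f K ↥M Ω, hz1]
  have hzL : bcMap f L ↥M z = y := by
    show bcMap f L ↥M (bcMap f ↥M Ω zΩ) = y
    rw [← Scheme.Hom.comp_apply, bcMap_comp f L ↥M Ω, hz2]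
  have hx'' : (FBase.bcπ (FBase.bcStr f K) ↥M) ((eBC f K ↥M).hom z) = x' := by
    rw [← Scheme.Hom.comp_apply, eBC_hom_fst, hzK]
  have hPz : P ((FBase.bc f ↥M).presheaf.stalk z) :=
    (P_iso hP (eBC f K ↥M) z).mpr (h ↥M hMtop _ hx'')
  have h3 := descend_flat f L ↥M hP z hPz
  exact hzL ▸ h3

end bc

theorem main7607 (k : Type u) [Field k] (X : Scheme.{u}) [X.Over (Spec (CommRingCat.of k))]
    (k' : Type u) [Field k'] [Algebra k k']
    (x' : ↥(Curv2.bc k X k'))
    (h : @Curv2.IsGeomRegularAt k' _ (Curv2.bc k X k') ⟨Curv2.bcSnd k X k'⟩ x') :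
    Curv2.IsGeomRegularAt k X (Curv2.bcFst k X k' x') := by
  intro L _ _ hL y hy
  exact descend_pt_fg (X ↘ Spec (CommRingCat.of k)) descends_regular k' x'
    (fun M _ _ hM x'' hx'' => h M hM x'' hx'') L hL y hy

end Groth.Agent.GeomRegFG
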