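import Mathlib
import Groth.Prelude.Def_Curv2
import Groth.Prelude.Def_Found
import Groth.Agent.Lib.StalkDict7_helper4
import Groth.Agent.Lib.Serre_helper5
import Groth.Agent.S2672

/-!
# Geometric regularity at a point of a `k`-scheme: points of base changes vs. the local ring (helper6).
Combines S2672 (helper3) with the stalk dictionary of helper4.
-/

set_option autoImplicit false
set_option linter.style.haveILetI false
universe u
open scoped TensorProduct
open CategoryTheory CategoryTheory.Limits AlgebraicGeometry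

attribute [local instance] Curv2.stalkAlgebra

namespace Groth.Agent.Lib.GeomRegPt_helper6

variable (k : Type u) [Field k] (X : Scheme.{u}) [X.Over (Spec (CommRingCat.of k))]

theorem geomRegularAt_of_stalk [IsLocallyNoetherian X] (x : X)
    (h3 : CAlg.IsGeometricallyRegular k (X.presheaf.stalk x)) : Curv2.IsGeomRegularAt k X x := by
  have hS := Groth.Agent.S2672.result k (X.presheaf.stalk x)
  intro K _ _ hfg x' hx'
  haveI : Algebra.EssFiniteType k K := IntermediateField.fg_top_iff.1 hfg
  have hreg : IsRegularRing (K ⊗[k] X.presheaf.stalk x) := hS.2.1 h3 K inferInstance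
  obtain ⟨q, -, ⟨e⟩⟩ := Groth.Agent.Lib.StalkDict6H4.exists_prime k X K x x' hx'
  haveI : IsRegularRing (X.presheaf.stalk x ⊗[k] K) :=
    IsRegularRing.of_ringEquiv (Algebra.TensorProduct.comm k K _).toRingEquiv
  haveI : IsRegularLocalRing (Localization.AtPrime q.asIdeal) :=
    IsRegularRing.isRegularLocalRing_localization _
  exact IsRegularLocalRing.of_ringEquiv e

theorem stalk_of_forall_pi [IsLocallyNoetherian X] (x : X)
    (h2 : ∀ (k' : Type u) [Field k'] [Algebra k k'] [FiniteDimensional k k']
      [IsPurelyInseparable k k'] (x' : ↥(Curv2.bc k X k')),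
        Curv2.bcFst k X k' x' = x → IsRegularLocalRing ↥((Curv2.bc k X k').presheaf.stalk x')) :
    CAlg.IsGeometricallyRegular k (X.presheaf.stalk x) := by
  have hS := Groth.Agent.S2672.result k (X.presheaf.stalk x)
  refine hS.1.2 ?_
  intro k' _ _ hfin hpi
  haveI := hfin
  haveI := hpi
  haveI hloc : IsLocalRing (X.presheaf.stalk x ⊗[k] k') :=
    Groth.Agent.Lib.StalkDict7H4.isLocalRing_tensor_pi (X.presheaf.stalk x) k'
  let Q : PrimeSpectrum (X.presheaf.stalk x ⊗[k] k') := IsLocalRing.closedPoint _
  have hQ : Q.asIdeal.comap (algebraMap (X.presheaf.stalk x) (X.presheaf.stalk x ⊗[k] k')) =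
      IsLocalRing.maximalIdeal _ := by
    haveI hmax : (Ideal.comap (algebraMap (X.presheaf.stalk x) (X.presheaf.stalk x ⊗[k] k'))
        (IsLocalRing.maximalIdeal (X.presheaf.stalk x ⊗[k] k'))).IsMaximal :=
      Ideal.isMaximal_comap_of_isIntegral_of_isMaximal (R := X.presheaf.stalk x)
        (IsLocalRing.maximalIdeal (X.presheaf.stalk x ⊗[k] k'))
    exact IsLocalRing.eq_maximalIdeal hmax
  obtain ⟨x', hx', ⟨e⟩⟩ := Groth.Agent.Lib.StalkDict7H4.exists_pt_of_prime k X k' x Q
  haveI := h2 k' x' (hx' hQ)
  haveI hL : IsRegularLocalRing (Localization.AtPrime Q.asIdeal) :=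
    IsRegularLocalRing.of_ringEquiv e.symm
  let eB : (X.presheaf.stalk x ⊗[k] k') ≃ₐ[X.presheaf.stalk x ⊗[k] k']
      Localization.AtPrime Q.asIdeal :=
    IsLocalization.atUnits _ Q.asIdeal.primeCompl
      (fun y hy => IsLocalRing.notMem_maximalIdeal.mp hy)
  haveI hB : IsRegularLocalRing (X.presheaf.stalk x ⊗[k] k') :=
    IsRegularLocalRing.of_ringEquiv eB.symm.toRingEquiv
  haveI : IsRegularRing (X.presheaf.stalk x ⊗[k] k') :=
    { toIsNoetherian := inferInstance
      isRegularLocalRing_localization := fun p hp =>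
        Groth.Agent.Serre.localization_regular _ p }
  exact IsRegularRing.of_ringEquiv (Algebra.TensorProduct.comm k _ k').toRingEquiv

theorem main7606 [IsLocallyNoetherian X] (x : X) :
    (Curv2.IsGeomRegularAt k X x ↔
      ∀ (k' : Type u) [Field k'] [Algebra k k'] [FiniteDimensional k k']
        [IsPurelyInseparable k k'] (x' : ↥(Curv2.bc k X k')),
        Curv2.bcFst k X k' x' = x → IsRegularLocalRing ↥((Curv2.bc k X k').presheaf.stalk x')) ∧
    ((∀ (k' : Type u) [Field k'] [Algebra k k'] [FiniteDimensional k k']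
        [IsPurelyInseparable k k'] (x' : ↥(Curv2.bc k X k')),
        Curv2.bcFst k X k' x' = x → IsRegularLocalRing ↥((Curv2.bc k X k').presheaf.stalk x')) ↔
      CAlg.IsGeometricallyRegular k ↥(X.presheaf.stalk x)) := by
  have h12 : Curv2.IsGeomRegularAt k X x →
      ∀ (k' : Type u) [Field k'] [Algebra k k'] [FiniteDimensional k k']
        [IsPurelyInseparable k k'] (x' : ↥(Curv2.bc k X k')),
        Curv2.bcFst k X k' x' = x →
          IsRegularLocalRing ↥((Curv2.bc k X k').presheaf.stalk x') := by
    intro h1 k' _ _ _ _ x' hx'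
    exact h1 k' ((⊤ : IntermediateField k k').fg_of_noetherian) x' hx'
  exact ⟨⟨h12, fun h2 => geomRegularAt_of_stalk k X x (stalk_of_forall_pi k X x h2)⟩,
    ⟨stalk_of_forall_pi k X x, fun h3 => h12 (geomRegularAt_of_stalk k X x h3)⟩⟩

end Groth.Agent.Lib.GeomRegPt_helper6
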