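import Mathlib
import Groth.Prelude.Def_CAlg2
import Groth.Agent.Lib.UnivHomeo12_helper6
set_option autoImplicit false
universe u

/-!
# Integral closure of a geometrically unibranch domain is radicial

For a domain `A` all of whose localizations at primes are geometrically unibranch, and a field `R`
purely inseparable over the fraction field of `A`, field-valued points of the integral closure of
`A` in `R` are determined by their restriction to `A`.
-/

namespace Groth.Agent.Lib.UnivHomeo

theorem eq_of_pow_expChar_pow_eq {Ω : Type*} [Field Ω] (q : ℕ)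
    (hq : q = 1 ∨ (q.Prime ∧ (q : Ω) = 0)) (n : ℕ) {x y : Ω} (h : x ^ q ^ n = y ^ q ^ n) :
    x = y := by
  rcases hq with rfl | ⟨hp, h0⟩
  · simpa using h
  · haveI : CharP Ω q := (CharP.charP_iff_prime_eq_zero hp).mpr h0
    haveI : ExpChar Ω q := ExpChar.prime hp
    apply iterateFrobenius_inj Ω q n
    simpa [iterateFrobenius_def] using h

theorem eq_of_geomUnibranch {A K D Ω : Type u} [CommRing A] [IsDomain A] [Field K] [Algebra A K]
    [IsFractionRing A K] (𝔭 : Ideal A) [𝔭.IsPrime] [CommRing D] [IsLocalRing D] [Algebra A D]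
    [IsLocalization.AtPrime D 𝔭] (hGU : CAlg2.IsGeomUnibranch D) [Field Ω]
    (ψ₁ ψ₂ : integralClosure A K →+* Ω)
    (hag : ψ₁.comp (algebraMap A (integralClosure A K)) =
      ψ₂.comp (algebraMap A (integralClosure A K)))
    (hker : RingHom.ker (ψ₁.comp (algebraMap A (integralClosure A K))) = 𝔭) : ψ₁ = ψ₂ := by
  classical
  obtain ⟨⟨hdom, hloc⟩, hpi⟩ := hGU
  haveI : IsDomain (CAlg2.red D) := hdom
  haveI : IsLocalRing (CAlg2.normRed D) := hloc
  haveI : IsDomain D :=
    IsLocalization.isDomain_of_le_nonZeroDivisors D (M := 𝔭.primeCompl)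
      (Ideal.primeCompl_le_nonZeroDivisors 𝔭)
  have hunit : ∀ y : 𝔭.primeCompl, IsUnit (algebraMap A K y) := fun y => by
    refine IsUnit.mk0 _ ?_
    rw [Ne, map_eq_zero_iff _ (IsFractionRing.injective A K)]
    intro h
    exact y.2 (h ▸ 𝔭.zero_mem)
  letI algDK : Algebra D K := (IsLocalization.lift (M := 𝔭.primeCompl) (S := D) hunit).toAlgebra
  haveI : IsScalarTower A D K :=
    IsScalarTower.of_algebraMap_eq fun a => (IsLocalization.lift_eq hunit a).symm
  haveI : IsFractionRing D K :=
    IsFractionRing.isFractionRing_of_isDomain_of_isLocalization 𝔭.primeCompl D K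
  -- the fraction field of `red D`
  obtain ⟨g, hg⟩ : ∃ g : D →+* FractionRing (CAlg2.red D),
      g = (algebraMap (CAlg2.red D) (FractionRing (CAlg2.red D))).comp
        (Ideal.Quotient.mk (nilradical D)) := ⟨_, rfl⟩
  have hmkinj : Function.Injective (Ideal.Quotient.mk (nilradical D)) := by
    rw [RingHom.injective_iff_ker_eq_bot, Ideal.mk_ker]
    exact nilradical_eq_zero D
  have hginj : Function.Injective g := by
    rw [hg]
    exact (IsFractionRing.injective (CAlg2.red D) (FractionRing (CAlg2.red D))).comp hmkinj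
  obtain ⟨j, hj⟩ : ∃ j : K →+* FractionRing (CAlg2.red D), ∀ d : D, j (algebraMap D K d) = g d :=
    ⟨IsFractionRing.lift hginj, fun d => IsFractionRing.lift_algebraMap hginj d⟩
  obtain ⟨e, he⟩ : ∃ e : D ≃+* CAlg2.red D, ∀ d, e d = Ideal.Quotient.mk (nilradical D) d :=
    ⟨RingEquiv.ofBijective (Ideal.Quotient.mk (nilradical D))
      ⟨hmkinj, Ideal.Quotient.mk_surjective⟩, fun d => rfl⟩
  have hg'inj : Function.Injective ((algebraMap D K).comp e.symm.toRingHom) :=
    (IsFractionRing.injective D K).comp e.symm.injective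
  obtain ⟨j', hj'⟩ : ∃ j' : FractionRing (CAlg2.red D) →+* K, ∀ r : CAlg2.red D,
      j' (algebraMap (CAlg2.red D) (FractionRing (CAlg2.red D)) r) = algebraMap D K (e.symm r) :=
    ⟨IsFractionRing.lift hg'inj, fun r => IsFractionRing.lift_algebraMap hg'inj r⟩
  have hj'j : ∀ x : K, j' (j x) = x := by
    have : j'.comp j = RingHom.id K := by
      apply IsFractionRing.ringHom_ext (A := D)
      intro d
      rw [RingHom.comp_apply, hj, hg, RingHom.comp_apply, hj', ← he, e.symm_apply_apply]
      rfl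
    intro x
    exact RingHom.congr_fun this x
  -- the map to `normRed D`
  have hιint : ∀ b : integralClosure A K, IsIntegral (CAlg2.red D) (j b.1) := fun b =>
    IsIntegral.map_of_comp_eq (R := A) (S := K) (T := CAlg2.red D)
      (U := FractionRing (CAlg2.red D))
      ((Ideal.Quotient.mk (nilradical D)).comp (algebraMap A D)) j (by
        ext a
        rw [RingHom.comp_apply, RingHom.comp_apply, RingHom.comp_apply,
          IsScalarTower.algebraMap_apply A D K, hj, hg, RingHom.comp_apply]) b.2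
  obtain ⟨ι, hι⟩ : ∃ ι : integralClosure A K →+* CAlg2.normRed D,
      ∀ b, ((ι b : CAlg2.normRed D) : FractionRing (CAlg2.red D)) = j b.1 :=
    ⟨{ toFun := fun b => ⟨j b.1, hιint b⟩
       map_one' := Subtype.ext (map_one j)
       map_mul' := fun x y => Subtype.ext (map_mul j x.1 y.1)
       map_zero' := Subtype.ext (map_zero j)
       map_add' := fun x y => Subtype.ext (map_add j x.1 y.1) }, fun b => rfl⟩
  obtain ⟨γ, hγ⟩ : ∃ γ : D →+* CAlg2.normRed D,
      γ = (algebraMap (CAlg2.red D) (CAlg2.normRed D)).comp (Ideal.Quotient.mk (nilradical D)) :=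
    ⟨_, rfl⟩
  have hιalg : ∀ a : A, ι (algebraMap A (integralClosure A K) a) = γ (algebraMap A D a) := by
    intro a
    apply Subtype.ext
    rw [hι, hγ]
    show j (algebraMap A K a) = algebraMap (CAlg2.red D) (FractionRing (CAlg2.red D))
      (Ideal.Quotient.mk (nilradical D) (algebraMap A D a))
    rw [IsScalarTower.algebraMap_apply A D K, hj, hg, RingHom.comp_apply]
  obtain ⟨𝔪, h𝔪⟩ : ∃ 𝔪 : Ideal (CAlg2.normRed D), 𝔪 = IsLocalRing.maximalIdeal _ := ⟨_, rfl⟩
  haveI h𝔪max : 𝔪.IsMaximal := h𝔪 ▸ IsLocalRing.maximalIdeal.isMaximal _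
  -- kernels
  have hkerψ : ∀ ψ : integralClosure A K →+* Ω,
      RingHom.ker (ψ.comp (algebraMap A (integralClosure A K))) = 𝔭 →
      RingHom.ker ψ = 𝔪.comap ι := by
    intro ψ hψ
    have h1 : RingHom.ker ψ ≤ 𝔪.comap ι := by
      intro b hb
      rw [RingHom.mem_ker] at hb
      rw [Ideal.mem_comap]
      by_contra hnot
      rw [h𝔪, IsLocalRing.notMem_maximalIdeal] at hnot
      obtain ⟨ν, hν⟩ := hnot.exists_right_inv
      have hν' : j b.1 * ν.1 = 1 := by
        have := congrArg (fun z : CAlg2.normRed D => (z : FractionRing (CAlg2.red D))) hν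
        simpa [hι] using this
      obtain ⟨x, hx⟩ : ∃ x : K, x = j' ν.1 := ⟨_, rfl⟩
      have hbx : b.1 * x = 1 := by
        rw [hx, ← hj'j b.1, ← map_mul, hν', map_one]
      have hxint : IsIntegral D x := by
        rw [hx]
        exact IsIntegral.map_of_comp_eq (R := CAlg2.red D) (S := FractionRing (CAlg2.red D))
          (T := D) (U := K) e.symm.toRingHom j' (by
            refine RingHom.ext fun r => ?_
            rw [RingHom.comp_apply, RingHom.comp_apply, hj']
            rfl) ν.2
      obtain ⟨m, hm⟩ := IsIntegral.exists_multiple_integral_of_isLocalization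
        (R := A) 𝔭.primeCompl (Rₘ := D) x hxint
      have hmul : (⟨m • x, hm⟩ : integralClosure A K) * b =
          algebraMap A (integralClosure A K) (m : A) := by
        apply Subtype.ext
        show (m • x) * b.1 = algebraMap A K (m : A)
        rw [Submonoid.smul_def, Algebra.smul_def, mul_assoc, mul_comm x, hbx, mul_one]
      have h0 : ψ (algebraMap A (integralClosure A K) (m : A)) = 0 := by
        rw [← hmul, map_mul, hb, mul_zero]
      have hmem : (m : A) ∈ RingHom.ker (ψ.comp (algebraMap A (integralClosure A K))) := by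
        rw [RingHom.mem_ker, RingHom.comp_apply]
        exact h0
      rw [hψ] at hmem
      exact m.2 hmem
    have h2 : (𝔪.comap ι).comap (algebraMap A (integralClosure A K)) = 𝔭 := by
      apply le_antisymm
      · intro a ha
        by_contra hnot
        rw [Ideal.mem_comap, Ideal.mem_comap, hιalg] at ha
        have hu : IsUnit (γ (algebraMap A D a)) :=
          (IsLocalization.map_units D (⟨a, hnot⟩ : 𝔭.primeCompl)).map γ
        rw [h𝔪] at ha
        exact (IsLocalRing.notMem_maximalIdeal.mpr hu) ha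
      · intro a ha
        rw [← hψ, RingHom.mem_ker, RingHom.comp_apply] at ha
        exact h1 ha
    by_contra hne
    haveI : (RingHom.ker ψ).IsPrime := RingHom.ker_isPrime ψ
    have hlt : RingHom.ker ψ < 𝔪.comap ι := lt_of_le_of_ne h1 hne
    have := Ideal.IsIntegral.comap_lt_comap (R := A) hlt
    rw [h2, RingHom.comap_ker, hψ] at this
    exact lt_irrefl _ this
  have hker₂ : RingHom.ker (ψ₂.comp (algebraMap A (integralClosure A K))) = 𝔭 := hag ▸ hker
  have hk1 := hkerψ ψ₁ hker
  have hk2 := hkerψ ψ₂ hker₂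
  have hagx : ∀ a : A, ψ₁ (algebraMap A _ a) = ψ₂ (algebraMap A _ a) :=
    fun a => RingHom.congr_fun hag a
  -- the exponent
  obtain ⟨q, hq⟩ : ∃ q, q = ringExpChar (CAlg2.normRed D ⧸ 𝔪) := ⟨_, rfl⟩
  have hE : ExpChar (CAlg2.normRed D ⧸ 𝔪) q := hq ▸ ringExpChar.expChar _
  have hqΩ : q = 1 ∨ (q.Prime ∧ (q : Ω) = 0) := by
    cases hE with
    | zero => exact Or.inl rfl
    | prime hp =>
      refine Or.inr ⟨hp, ?_⟩
      have h0 : ((q : CAlg2.normRed D ⧸ 𝔪)) = 0 := CharP.cast_eq_zero _ q
      have hmem : ((q : ℕ) : CAlg2.normRed D) ∈ 𝔪 := by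
        rw [← Ideal.Quotient.eq_zero_iff_mem, map_natCast]
        exact h0
      have hmem' : ((q : ℕ) : integralClosure A K) ∈ RingHom.ker ψ₁ := by
        rw [hk1, Ideal.mem_comap, map_natCast]
        exact hmem
      rw [RingHom.mem_ker, map_natCast] at hmem'
      exact hmem'
  ext c
  obtain ⟨n, d, hd⟩ := hpi 𝔪 (Ideal.Quotient.mk 𝔪 (ι c))
  rw [← hq] at hd
  have hd' : (ι c) ^ q ^ n - γ d ∈ 𝔪 := by
    rw [← Ideal.Quotient.eq, map_pow, hγ]
    exact hd.symm
  obtain ⟨⟨a, s⟩, has⟩ := IsLocalization.surj 𝔭.primeCompl d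
  have hw : algebraMap A (integralClosure A K) (s : A) * c ^ q ^ n -
      algebraMap A (integralClosure A K) a ∈ 𝔪.comap ι := by
    rw [Ideal.mem_comap]
    have : ι (algebraMap A (integralClosure A K) (s : A) * c ^ q ^ n -
        algebraMap A (integralClosure A K) a) =
        γ (algebraMap A D (s : A)) * ((ι c) ^ q ^ n - γ d) := by
      rw [map_sub, map_mul, map_pow, hιalg, hιalg, mul_sub, ← map_mul γ, mul_comm _ d]
      simp only at has
      rw [has]
    rw [this]
    exact Ideal.mul_mem_left _ _ hd'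
  have hw1 : ψ₁ (algebraMap A (integralClosure A K) (s : A)) * ψ₁ c ^ q ^ n =
      ψ₁ (algebraMap A (integralClosure A K) a) := by
    have := hw
    rw [← hk1, RingHom.mem_ker, map_sub, map_mul, map_pow, sub_eq_zero] at this
    exact this
  have hw2 : ψ₂ (algebraMap A (integralClosure A K) (s : A)) * ψ₂ c ^ q ^ n =
      ψ₂ (algebraMap A (integralClosure A K) a) := by
    have := hw
    rw [← hk2, RingHom.mem_ker, map_sub, map_mul, map_pow, sub_eq_zero] at this
    exact this
  have hs0 : ψ₁ (algebraMap A (integralClosure A K) (s : A)) ≠ 0 := by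
    intro h0
    have : (s : A) ∈ RingHom.ker (ψ₁.comp (algebraMap A (integralClosure A K))) := by
      rw [RingHom.mem_ker, RingHom.comp_apply]
      exact h0
    rw [hker] at this
    exact s.2 this
  have hpow : ψ₁ c ^ q ^ n = ψ₂ c ^ q ^ n := by
    apply mul_left_cancel₀ hs0
    rw [hw1, hagx a, ← hw2, hagx]
  exact eq_of_pow_expChar_pow_eq q hqΩ n hpow

theorem PU_integralClosure_of_geomUnibranch {A R : Type u} [CommRing A] [IsDomain A] [CommRing R]
    [Algebra A R] (hR : IsField R) (hinj : Function.Injective (algebraMap A R)) (q : ℕ)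
    (hq : q = 1 ∨ (q.Prime ∧ (q : A) = 0))
    (hrad : ∀ x : R, ∃ (n : ℕ) (a s : A), s ≠ 0 ∧
      x ^ q ^ n * algebraMap A R s = algebraMap A R a)
    (hGU : ∀ (𝔭 : Ideal A) [𝔭.IsPrime], ∃ (D : Type u) (_ : CommRing D) (_ : IsLocalRing D)
      (_ : Algebra A D), IsLocalization.AtPrime D 𝔭 ∧ CAlg2.IsGeomUnibranch D) :
    PU A (integralClosure A R) := by
  intro Ω _ ψ₁ ψ₂ h
  letI := hR.toField
  obtain ⟨lam, hlam⟩ : ∃ lam : FractionRing A →ₐ[A] R, True :=
    ⟨IsFractionRing.liftAlgHom (g := Algebra.ofId A R) hinj, trivial⟩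
  have hlaminj : Function.Injective lam := (lam : FractionRing A →+* R).injective
  obtain ⟨ιK, hιK⟩ : ∃ ιK : integralClosure A (FractionRing A) →ₐ[A] integralClosure A R,
      ∀ b, ((ιK b : integralClosure A R) : R) = lam b.1 :=
    ⟨lam.mapIntegralClosure, fun b => rfl⟩
  have hag : (ψ₁.comp ιK.toRingHom).comp (algebraMap A (integralClosure A (FractionRing A))) =
      (ψ₂.comp ιK.toRingHom).comp (algebraMap A (integralClosure A (FractionRing A))) := by
    ext a
    simp only [RingHom.comp_apply, AlgHom.toRingHom_eq_coe, RingHom.coe_coe, AlgHom.commutes]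
    exact RingHom.congr_fun h a
  obtain ⟨𝔭, h𝔭⟩ : ∃ 𝔭 : Ideal A, 𝔭 = RingHom.ker
      ((ψ₁.comp ιK.toRingHom).comp (algebraMap A (integralClosure A (FractionRing A)))) :=
    ⟨_, rfl⟩
  haveI : 𝔭.IsPrime := h𝔭 ▸ RingHom.ker_isPrime _
  obtain ⟨D, _, _, _, hD, hGUD⟩ := hGU 𝔭
  have key := eq_of_geomUnibranch (K := FractionRing A) 𝔭 hGUD (ψ₁.comp ιK.toRingHom)
    (ψ₂.comp ιK.toRingHom) hag h𝔭.symm
  have hqΩ : q = 1 ∨ (q.Prime ∧ (q : Ω) = 0) := by
    rcases hq with h1 | ⟨hp, h0⟩
    · exact Or.inl h1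
    · refine Or.inr ⟨hp, ?_⟩
      have : ψ₁ (algebraMap A (integralClosure A R) (q : A)) = 0 := by rw [h0, map_zero, map_zero]
      rw [map_natCast, map_natCast] at this
      exact this
  ext b
  obtain ⟨n, a, s, hs, hx⟩ := hrad b.1
  have hs' : algebraMap A (FractionRing A) s ≠ 0 := by
    rw [Ne, map_eq_zero_iff _ (IsFractionRing.injective A (FractionRing A))]
    exact hs
  obtain ⟨c₀, hc₀⟩ : ∃ c₀ : FractionRing A,
      c₀ = algebraMap A (FractionRing A) a / algebraMap A (FractionRing A) s := ⟨_, rfl⟩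
  have hlc : lam c₀ = b.1 ^ q ^ n := by
    have hsR : algebraMap A R s ≠ 0 := by
      rw [Ne, map_eq_zero_iff _ hinj]
      exact hs
    rw [hc₀, map_div₀, AlgHom.commutes, AlgHom.commutes, ← hx, mul_div_assoc, div_self hsR,
      mul_one]
  have hc₀int : IsIntegral A c₀ := by
    rw [← isIntegral_algHom_iff lam hlaminj, hlc]
    exact b.2.pow _
  have hιc : ιK ⟨c₀, hc₀int⟩ = b ^ q ^ n := by
    apply Subtype.ext
    rw [hιK]
    exact hlc
  have hpow : ψ₁ b ^ q ^ n = ψ₂ b ^ q ^ n := by
    rw [← map_pow, ← map_pow, ← hιc]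
    exact RingHom.congr_fun key ⟨c₀, hc₀int⟩
  exact eq_of_pow_expChar_pow_eq q hqΩ n hpow

end Groth.Agent.Lib.UnivHomeo
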