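import Mathlib
import Groth.Prelude.Def_CAlg2
import Groth.Agent.Lib.UnivHomeo12_helper6
import Groth.Agent.Lib.GeomUnibranch_helper6
set_option autoImplicit false
universe u

/-!
# Converse: if the integral closure of a domain is radicial over it, the local rings are
geometrically unibranch.
-/

namespace Groth.Agent.Lib.UnivHomeo

open AlgebraicGeometry CategoryTheory

theorem comap_injective_of_PU {A B : Type u} [CommRing A] [CommRing B] [Algebra A B]
    (hPU : PU A B) : Function.Injective (PrimeSpectrum.comap (algebraMap A B)) := by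
  haveI : UniversallyInjective (Spec.map (CommRingCat.ofHom (algebraMap A B))) :=
    (universallyInjective_SpecMap_iff _).mpr hPU
  have hinj := (Spec.map (CommRingCat.ofHom (algebraMap A B))).injective
  intro x y h
  exact hinj h

theorem isGeomUnibranch_of_PU {A D : Type u} [CommRing A] [IsDomain A] (p : Ideal A) [p.IsPrime]
    [CommRing D] [IsLocalRing D] [Algebra A D] [IsLocalization.AtPrime D p]
    (hPU : PU A (integralClosure A (FractionRing A))) : CAlg2.IsGeomUnibranch D := by
  classical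
  have hinjSpec := comap_injective_of_PU hPU
  haveI : IsDomain D :=
    IsLocalization.isDomain_of_le_nonZeroDivisors D (M := p.primeCompl)
      (Ideal.primeCompl_le_nonZeroDivisors p)
  haveI : (nilradical D).IsPrime := by
    rw [nilradical_eq_zero, Ideal.zero_eq_bot]; exact Ideal.bot_prime
  haveI hdomred : IsDomain (CAlg2.red D) := Ideal.Quotient.isDomain _
  have hunit : ∀ y : p.primeCompl, IsUnit (algebraMap A (FractionRing A) y) := fun y => by
    refine IsUnit.mk0 _ ?_
    rw [Ne, map_eq_zero_iff _ (IsFractionRing.injective A (FractionRing A))]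
    intro h
    exact y.2 (h ▸ p.zero_mem)
  letI algDK : Algebra D (FractionRing A) :=
    (IsLocalization.lift (M := p.primeCompl) (S := D) hunit).toAlgebra
  haveI : IsScalarTower A D (FractionRing A) :=
    IsScalarTower.of_algebraMap_eq fun a => (IsLocalization.lift_eq hunit a).symm
  haveI : IsFractionRing D (FractionRing A) :=
    IsFractionRing.isFractionRing_of_isDomain_of_isLocalization p.primeCompl D (FractionRing A)
  obtain ⟨g, hg⟩ : ∃ g : D →+* FractionRing (CAlg2.red D),
      g = (algebraMap (CAlg2.red D) (FractionRing (CAlg2.red D))).comp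
        (Ideal.Quotient.mk (nilradical D)) := ⟨_, rfl⟩
  have hmkinj : Function.Injective (Ideal.Quotient.mk (nilradical D)) := by
    rw [RingHom.injective_iff_ker_eq_bot, Ideal.mk_ker]
    exact nilradical_eq_zero D
  have hginj : Function.Injective g := by
    rw [hg]
    exact (IsFractionRing.injective (CAlg2.red D) (FractionRing (CAlg2.red D))).comp hmkinj
  obtain ⟨j, hj⟩ : ∃ j : FractionRing A →+* FractionRing (CAlg2.red D),
      ∀ d : D, j (algebraMap D (FractionRing A) d) = g d :=
    ⟨IsFractionRing.lift hginj, fun d => IsFractionRing.lift_algebraMap hginj d⟩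
  obtain ⟨e, he⟩ : ∃ e : D ≃+* CAlg2.red D, ∀ d, e d = Ideal.Quotient.mk (nilradical D) d :=
    ⟨RingEquiv.ofBijective (Ideal.Quotient.mk (nilradical D))
      ⟨hmkinj, Ideal.Quotient.mk_surjective⟩, fun d => rfl⟩
  have hg'inj : Function.Injective ((algebraMap D (FractionRing A)).comp e.symm.toRingHom) :=
    (IsFractionRing.injective D (FractionRing A)).comp e.symm.injective
  obtain ⟨j', hj'⟩ : ∃ j' : FractionRing (CAlg2.red D) →+* FractionRing A, ∀ r : CAlg2.red D,
      j' (algebraMap (CAlg2.red D) (FractionRing (CAlg2.red D)) r) =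
        algebraMap D (FractionRing A) (e.symm r) :=
    ⟨IsFractionRing.lift hg'inj, fun r => IsFractionRing.lift_algebraMap hg'inj r⟩
  have hjj' : ∀ y : FractionRing (CAlg2.red D), j (j' y) = y := by
    have : j.comp j' = RingHom.id _ := by
      apply IsFractionRing.ringHom_ext (A := CAlg2.red D)
      intro r
      rw [RingHom.comp_apply, hj', hj, hg, RingHom.comp_apply, ← he, e.apply_symm_apply]
      rfl
    intro y
    exact RingHom.congr_fun this y
  have hιint : ∀ b : integralClosure A (FractionRing A), IsIntegral (CAlg2.red D) (j b.1) :=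
    fun b => IsIntegral.map_of_comp_eq (R := A) (S := FractionRing A) (T := CAlg2.red D)
      (U := FractionRing (CAlg2.red D))
      ((Ideal.Quotient.mk (nilradical D)).comp (algebraMap A D)) j (by
        ext a
        rw [RingHom.comp_apply, RingHom.comp_apply, RingHom.comp_apply,
          IsScalarTower.algebraMap_apply A D (FractionRing A), hj, hg, RingHom.comp_apply]) b.2
  obtain ⟨ι, hι⟩ : ∃ ι : integralClosure A (FractionRing A) →+* CAlg2.normRed D,
      ∀ b, ((ι b : CAlg2.normRed D) : FractionRing (CAlg2.red D)) = j b.1 :=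
    ⟨{ toFun := fun b => ⟨j b.1, hιint b⟩
       map_one' := Subtype.ext (map_one j)
       map_mul' := fun x y => Subtype.ext (map_mul j x.1 y.1)
       map_zero' := Subtype.ext (map_zero j)
       map_add' := fun x y => Subtype.ext (map_add j x.1 y.1) }, fun b => rfl⟩
  obtain ⟨γ, hγ⟩ : ∃ γ : D →+* CAlg2.normRed D,
      γ = (algebraMap (CAlg2.red D) (CAlg2.normRed D)).comp (Ideal.Quotient.mk (nilradical D)) :=
    ⟨_, rfl⟩
  have hγval : ∀ d : D, ((γ d : CAlg2.normRed D) : FractionRing (CAlg2.red D)) = g d := by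
    intro d; rw [hγ, hg]; rfl
  have hιalg : ∀ a : A, ι (algebraMap A (integralClosure A (FractionRing A)) a) =
      γ (algebraMap A D a) := by
    intro a
    apply Subtype.ext
    rw [hι, hγval]
    show j (algebraMap A (FractionRing A) a) = _
    rw [IsScalarTower.algebraMap_apply A D (FractionRing A), hj]
  -- every element of `normRed D` is a fraction
  have hloc : ∀ ν : CAlg2.normRed D, ∃ (s : p.primeCompl)
      (b : integralClosure A (FractionRing A)), γ (algebraMap A D s) * ν = ι b := by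
    intro ν
    have hxint : IsIntegral D (j' ν.1) :=
      IsIntegral.map_of_comp_eq (R := CAlg2.red D) (S := FractionRing (CAlg2.red D))
        (T := D) (U := FractionRing A) e.symm.toRingHom j' (by
          refine RingHom.ext fun r => ?_
          rw [RingHom.comp_apply, RingHom.comp_apply, hj']
          rfl) ν.2
    obtain ⟨m, hm⟩ := IsIntegral.exists_multiple_integral_of_isLocalization
      (R := A) p.primeCompl (Rₘ := D) (j' ν.1) hxint
    refine ⟨m, ⟨m • j' ν.1, hm⟩, ?_⟩
    apply Subtype.ext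
    rw [hι]
    show ((γ (algebraMap A D m) : CAlg2.normRed D) : FractionRing (CAlg2.red D)) * ν.1 =
      j (m • j' ν.1)
    rw [hγval, Submonoid.smul_def, Algebra.smul_def, map_mul, hjj',
      IsScalarTower.algebraMap_apply A D (FractionRing A), hj]
  have hcomapγ : ∀ 𝔫 : Ideal (CAlg2.normRed D), 𝔫.IsMaximal →
      𝔫.comap γ = IsLocalRing.maximalIdeal D := by
    intro 𝔫 h𝔫
    haveI := h𝔫
    haveI h1 : (𝔫.comap (algebraMap (CAlg2.red D) (CAlg2.normRed D))).IsMaximal :=
      Ideal.isMaximal_comap_of_isIntegral_of_isMaximal 𝔫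
    haveI h2 : ((𝔫.comap (algebraMap (CAlg2.red D) (CAlg2.normRed D))).comap
        (Ideal.Quotient.mk (nilradical D))).IsMaximal :=
      Ideal.comap_isMaximal_of_surjective _ Ideal.Quotient.mk_surjective
    rw [hγ, ← Ideal.comap_comap]
    exact IsLocalRing.eq_maximalIdeal h2
  have hunitγ : ∀ (𝔫 : Ideal (CAlg2.normRed D)), 𝔫.IsMaximal → ∀ s : p.primeCompl,
      γ (algebraMap A D s) ∉ 𝔫 := by
    intro 𝔫 h𝔫 s hs
    have : algebraMap A D s ∈ 𝔫.comap γ := hs
    rw [hcomapγ 𝔫 h𝔫] at this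
    exact (IsLocalRing.notMem_maximalIdeal.mpr (IsLocalization.map_units D s)) this
  have hcomapA : ∀ 𝔫 : Ideal (CAlg2.normRed D), 𝔫.IsMaximal →
      (𝔫.comap ι).comap (algebraMap A (integralClosure A (FractionRing A))) = p := by
    intro 𝔫 h𝔫
    ext a
    rw [Ideal.mem_comap, Ideal.mem_comap, hιalg, ← Ideal.mem_comap, hcomapγ 𝔫 h𝔫,
      IsLocalization.AtPrime.to_map_mem_maximal_iff D p]
  have hsame : ∀ 𝔫₁ 𝔫₂ : Ideal (CAlg2.normRed D), 𝔫₁.IsMaximal → 𝔫₂.IsMaximal →
      𝔫₁.comap ι = 𝔫₂.comap ι := by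
    intro 𝔫₁ 𝔫₂ h1 h2
    haveI := h1
    haveI := h2
    have := @hinjSpec ⟨𝔫₁.comap ι, inferInstance⟩ ⟨𝔫₂.comap ι, inferInstance⟩
      (PrimeSpectrum.ext ((hcomapA 𝔫₁ h1).trans (hcomapA 𝔫₂ h2).symm))
    exact congrArg PrimeSpectrum.asIdeal this
  have hle : ∀ 𝔫₁ 𝔫₂ : Ideal (CAlg2.normRed D), 𝔫₁.IsMaximal → 𝔫₂.IsMaximal → 𝔫₁ ≤ 𝔫₂ := by
    intro 𝔫₁ 𝔫₂ h1 h2 ν hν
    obtain ⟨s, b, hsb⟩ := hloc ν
    have hb1 : b ∈ 𝔫₁.comap ι := by
      rw [Ideal.mem_comap, ← hsb]
      exact Ideal.mul_mem_left _ _ hν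
    rw [hsame 𝔫₁ 𝔫₂ h1 h2, Ideal.mem_comap, ← hsb] at hb1
    haveI := h2
    rcases (Ideal.IsPrime.mem_or_mem inferInstance hb1) with h | h
    · exact absurd h (hunitγ 𝔫₂ h2 s)
    · exact h
  haveI hlocal : IsLocalRing (CAlg2.normRed D) := by
    obtain ⟨𝔫₀, h₀⟩ := Ideal.exists_maximal (CAlg2.normRed D)
    exact IsLocalRing.of_unique_max_ideal
      ⟨𝔫₀, h₀, fun 𝔫 h => le_antisymm (hle 𝔫 𝔫₀ h h₀) (hle 𝔫₀ 𝔫 h₀ h)⟩
  refine ⟨⟨hdomred, hlocal⟩, ?_⟩
  intro m' hm' x
  rw [← hγ]
  letI : Field (CAlg2.normRed D ⧸ m') := Ideal.Quotient.field m'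
  obtain ⟨f, hf⟩ : ∃ f : D →+* CAlg2.normRed D ⧸ m', f = (Ideal.Quotient.mk m').comp γ :=
    ⟨_, rfl⟩
  have hfker : ∀ d : D, f d = 0 ↔ d ∈ IsLocalRing.maximalIdeal D := by
    intro d
    rw [hf, RingHom.comp_apply, Ideal.Quotient.eq_zero_iff_mem, ← Ideal.mem_comap,
      hcomapγ m' hm']
  haveI : IsLocalHom f := ⟨fun d hd => by
    by_contra hnu
    have : d ∈ IsLocalRing.maximalIdeal D := hnu
    rw [← hfker] at this
    rw [this] at hd
    exact not_isUnit_zero hd⟩
  obtain ⟨fbar, hfbar⟩ : ∃ fbar : IsLocalRing.ResidueField D →+* CAlg2.normRed D ⧸ m',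
      ∀ d, fbar (IsLocalRing.residue D d) = f d :=
    ⟨IsLocalRing.ResidueField.lift f, fun d => rfl⟩
  letI : Algebra (IsLocalRing.ResidueField D) (CAlg2.normRed D ⧸ m') := fbar.toAlgebra
  have hfs : ∀ s : p.primeCompl, f (algebraMap A D s) ≠ 0 := by
    intro s h0
    rw [hfker] at h0
    exact (IsLocalRing.notMem_maximalIdeal.mpr (IsLocalization.map_units D s)) h0
  haveI : IsPurelyInseparable (IsLocalRing.ResidueField D) (CAlg2.normRed D ⧸ m') := by
    haveI : Nonempty (CAlg2.normRed D ⧸ m' →+* AlgebraicClosure (CAlg2.normRed D ⧸ m')) :=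
      ⟨algebraMap _ _⟩
    apply IsPurelyInseparable.of_injective_comp_algebraMap _ _
      (AlgebraicClosure (CAlg2.normRed D ⧸ m'))
    intro f₁ f₂ h12
    have h12' : ∀ d : D, f₁ (f d) = f₂ (f d) := by
      intro d
      have := RingHom.congr_fun h12 (IsLocalRing.residue D d)
      simpa [RingHom.algebraMap_toAlgebra, hfbar] using this
    have hψ := hPU (AlgebraicClosure (CAlg2.normRed D ⧸ m'))
      (f₁.comp ((Ideal.Quotient.mk m').comp ι)) (f₂.comp ((Ideal.Quotient.mk m').comp ι)) (by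
        ext a
        simp only [RingHom.comp_apply]
        rw [hιalg]
        have := h12' (algebraMap A D a)
        rw [hf] at this
        exact this)
    refine RingHom.ext fun y => ?_
    obtain ⟨ν, rfl⟩ := Ideal.Quotient.mk_surjective y
    obtain ⟨s, b, hsb⟩ := hloc ν
    have hmk : f (algebraMap A D s) * Ideal.Quotient.mk m' ν = Ideal.Quotient.mk m' (ι b) := by
      rw [← hsb, map_mul, hf]; rfl
    have h1 : f₁ (f (algebraMap A D s)) * f₁ (Ideal.Quotient.mk m' ν) =
        f₂ (f (algebraMap A D s)) * f₂ (Ideal.Quotient.mk m' ν) := by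
      rw [← map_mul, ← map_mul, hmk]
      exact RingHom.congr_fun hψ b
    rw [h12'] at h1
    have hne : f₂ (f (algebraMap A D s)) ≠ 0 := by
      rw [Ne, map_eq_zero_iff _ f₂.injective]
      exact hfs s
    exact mul_left_cancel₀ hne h1
  haveI : ExpChar (IsLocalRing.ResidueField D) (ringExpChar (CAlg2.normRed D ⧸ m')) :=
    RingHom.expChar fbar fbar.injective _
  obtain ⟨n, y, hy⟩ := IsPurelyInseparable.pow_mem (IsLocalRing.ResidueField D)
    (ringExpChar (CAlg2.normRed D ⧸ m')) x
  obtain ⟨d, rfl⟩ := IsLocalRing.residue_surjective y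
  refine ⟨n, d, ?_⟩
  rw [← hy]
  show ((Ideal.Quotient.mk m').comp γ) d = fbar (IsLocalRing.residue D d)
  rw [hfbar, hf]

end Groth.Agent.Lib.UnivHomeo
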