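import Mathlib
import Groth.Prelude.Def_StGerb
import Groth.Agent.Lib.StkEquiv_helper9

set_option autoImplicit false
set_option linter.style.haveILetI false
set_option linter.unusedSectionVars false

universe v₄ u₄ v₃ u₃ v₂ u₂ v u

namespace Groth.Agent.Lib.GerbH4

open CategoryTheory FibCat Gerb Functor

variable {C : Type u} [Category.{v} C] (J : GrothendieckTopology C)
  {𝒳 : BasedCategory.{v₂, u₂} C} {𝒴 : BasedCategory.{v₃, u₃} C} {𝒵 : BasedCategory.{v₄, u₄} C}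

/-- flexible form of `LocSurjObj` -/
lemma flexObj {F : 𝒳 ⥤ᵇ 𝒴} (hF : LocSurjObj J F) (y : 𝒴.obj) (U : C) (hy : 𝒴.p.obj y = U) :
    ∃ R ∈ J U, ∀ ⦃V : C⦄ (f : V ⟶ U), R f →
      ∃ (x : 𝒳.obj) (g : F.obj x ⟶ y), 𝒴.p.IsHomLift f g := by
  subst hy; exact hF y

/-- flexible form of `LocSurjHom` -/
lemma flexHom {F : 𝒳 ⥤ᵇ 𝒴} (hF : LocSurjHom J F) (x x' : 𝒳.obj) (U : C) (hx : 𝒳.p.obj x = U)
    (b : F.obj x ⟶ F.obj x') (hb : 𝒴.p.IsHomLift (𝟙 U) b) :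
    ∃ R ∈ J U, ∀ ⦃V : C⦄ (f : V ⟶ U), R f →
      ∃ (x₀ : 𝒳.obj) (φ : x₀ ⟶ x) (ψ : x₀ ⟶ x'),
        𝒳.p.IsHomLift f φ ∧ 𝒳.p.IsHomLift f ψ ∧ F.map φ ≫ b = F.map ψ := by
  subst hx; exact hF x x' b hb

/-- local connectedness (flexible form) -/
def LocConn (𝒴 : BasedCategory.{v₃, u₃} C) : Prop :=
  ∀ (x x' : 𝒴.obj) (U : C), 𝒴.p.obj x = U → 𝒴.p.obj x' = U →
    ∃ R ∈ J U, ∀ ⦃V : C⦄ (f : V ⟶ U), R f →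
      ∃ (x₀ : 𝒴.obj) (φ : x₀ ⟶ x) (ψ : x₀ ⟶ x'), 𝒴.p.IsHomLift f φ ∧ 𝒴.p.IsHomLift f ψ

lemma auto_eq {𝒴' : Type u₃} [Category.{v₃} 𝒴'] (p : 𝒴' ⥤ C) {V U : C} {x₀ x x' : 𝒴'}
    (f : V ⟶ U) (φ : x₀ ⟶ x) (ψ : x₀ ⟶ x') [p.IsHomLift f φ] [p.IsHomLift f ψ]
    (b : p.obj x ⟶ p.obj x') (hb : (𝟭 C).IsHomLift (𝟙 U) b) : p.map φ ≫ b = p.map ψ := by
  rw [IsHomLift.fac' p f φ, IsHomLift.fac' p f ψ]
  have := IsHomLift.fac' (𝟭 C) (𝟙 U) b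
  rw [Functor.id_map] at this
  rw [this]
  simp

lemma locSurjHom_toSelf_iff : LocSurjHom J (toSelf 𝒴) ↔ LocConn J 𝒴 := by
  constructor
  · intro h x x' U hx hx'
    subst hx
    have hb : (selfOver C).p.IsHomLift (𝟙 (𝒴.p.obj x))
        (eqToHom hx'.symm : (toSelf 𝒴).obj x ⟶ (toSelf 𝒴).obj x') :=
      IsHomLift.eqToHom_domain_lift_id hx'.symm rfl
    obtain ⟨R, hR, hR'⟩ := h x x' (eqToHom hx'.symm) hb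
    refine ⟨R, hR, fun V f hf => ?_⟩
    obtain ⟨x₀, φ, ψ, h1, h2, -⟩ := hR' f hf
    exact ⟨x₀, φ, ψ, h1, h2⟩
  · intro h x x' b hb
    haveI := hb
    have hxx' : 𝒴.p.obj x' = 𝒴.p.obj x :=
      @IsHomLift.codomain_eq _ _ _ _ (selfOver C).p _ _ _ _ (𝟙 (𝒴.p.obj x)) b hb
    obtain ⟨R, hR, hR'⟩ := h x x' (𝒴.p.obj x) rfl hxx'
    refine ⟨R, hR, fun V f hf => ?_⟩
    obtain ⟨x₀, φ, ψ, h1, h2⟩ := hR' f hf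
    haveI := h1
    haveI := h2
    exact ⟨x₀, φ, ψ, h1, h2, auto_eq 𝒴.p f φ ψ b hb⟩

lemma locSurjObj_toSelf_map (F : 𝒳 ⥤ᵇ 𝒴) (h : LocSurjObj J (toSelf 𝒳)) :
    LocSurjObj J (toSelf 𝒴) := by
  intro y
  obtain ⟨R, hR, hR'⟩ := h y
  refine ⟨R, hR, fun V f hf => ?_⟩
  obtain ⟨x, g, hg⟩ := hR' f hf
  have hx : 𝒴.p.obj (F.obj x) = 𝒳.p.obj x := F.w_obj x
  exact ⟨F.obj x, eqToHom hx ≫ g,
    (IsHomLift.comp_eqToHom_lift_iff (p := (selfOver C).p) f g hx).mpr hg⟩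

lemma locConn_map (F : 𝒳 ⥤ᵇ 𝒴) (hF : IsEquivOver F) (h : LocConn J 𝒳) : LocConn J 𝒴 := by
  intro y y' U hy hy'
  obtain ⟨x, e, he⟩ := Groth.Agent.Lib.FibCat3_helper6.essSurjOver_of_isEquivOver hF y
  obtain ⟨x', e', he'⟩ := Groth.Agent.Lib.FibCat3_helper6.essSurjOver_of_isEquivOver hF y'
  haveI heU : 𝒴.p.IsHomLift (𝟙 U) e.hom :=
    Groth.Agent.Lib.FibCat3_helper6.isHomLift_id_of_eq hy e.hom he
  haveI heU' : 𝒴.p.IsHomLift (𝟙 U) e'.hom :=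
    Groth.Agent.Lib.FibCat3_helper6.isHomLift_id_of_eq hy' e'.hom he'
  have hx : 𝒳.p.obj x = U := by
    rw [← F.w_obj x]; exact IsHomLift.domain_eq 𝒴.p (𝟙 U) e.hom
  have hx' : 𝒳.p.obj x' = U := by
    rw [← F.w_obj x']; exact IsHomLift.domain_eq 𝒴.p (𝟙 U) e'.hom
  obtain ⟨R, hR, hR'⟩ := h x x' U hx hx'
  refine ⟨R, hR, fun V f hf => ?_⟩
  obtain ⟨x₀, φ, ψ, h1, h2⟩ := hR' f hf
  haveI := h1
  haveI := h2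
  exact ⟨F.obj x₀, F.map φ ≫ e.hom, F.map ψ ≫ e'.hom, inferInstance, inferInstance⟩

theorem isGerbe_of_isEquivOver {𝒜 : BasedCategory.{v₂, u₂} C} {ℬ : BasedCategory.{v₃, u₃} C}
    (F : 𝒜 ⥤ᵇ ℬ) (hF : IsEquivOver F) (h : IsGerbe J 𝒜) : IsGerbe J ℬ := by
  refine ⟨(Groth.Agent.StkEquiv.isStack_iff J hF).mp h.1, locSurjObj_toSelf_map J F h.2.1, ?_⟩
  rw [locSurjHom_toSelf_iff]
  exact locConn_map J F hF ((locSurjHom_toSelf_iff J).mp h.2.2)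

theorem main16885 {𝒮₁ 𝒮₂ : BasedCategory.{v, max u v} C} (F : 𝒮₁ ⥤ᵇ 𝒮₂)
    (hF : FibCat.IsEquivOver F) : Gerb.IsGerbe J 𝒮₁ ↔ Gerb.IsGerbe J 𝒮₂ := by
  obtain ⟨G, hG⟩ := Groth.Agent.StkEquiv.isEquivOver_symm hF
  exact ⟨isGerbe_of_isEquivOver J F hF, isGerbe_of_isEquivOver J G hG⟩

/-! ### composition -/

lemma locSurjObj_comp (F : 𝒳 ⥤ᵇ 𝒴) (G : 𝒴 ⥤ᵇ 𝒵) (hF : LocSurjObj J F) (hG : LocSurjObj J G) :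
    LocSurjObj J (BasedFunctor.comp F G) := by
  intro z
  obtain ⟨R, hR, hR'⟩ := hG z
  have key : ∀ ⦃V : C⦄ (f : V ⟶ 𝒵.p.obj z), R f → ∃ R' ∈ J V, ∀ ⦃W : C⦄ (h : W ⟶ V), R' h →
      ∃ (x : 𝒳.obj) (m : G.obj (F.obj x) ⟶ z), 𝒵.p.IsHomLift (h ≫ f) m := by
    intro V f hf
    obtain ⟨y, g, hg⟩ := hR' f hf
    have hV : 𝒴.p.obj y = V := by
      rw [← G.w_obj y]; exact IsHomLift.domain_eq 𝒵.p f g
    obtain ⟨R₁, hR₁, hR₁'⟩ := flexObj J hF y V hV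
    refine ⟨R₁, hR₁, fun W h hh => ?_⟩
    obtain ⟨x, k, hk⟩ := hR₁' h hh
    haveI := hk
    haveI := hg
    exact ⟨x, G.map k ≫ g, inferInstance⟩
  choose R' hR'1 hR'2 using key
  refine ⟨Sieve.bind R (fun _ _ hf => R' _ hf),
    J.bind_covering hR (fun _ _ hf => hR'1 _ hf), ?_⟩
  rintro W k ⟨V, h, f, hf, hh, rfl⟩
  exact hR'2 f hf h hh

lemma locSurjHom_comp (h𝒳 : IsFibGrpd 𝒳.p) (h𝒴 : IsFibGrpd 𝒴.p) (F : 𝒳 ⥤ᵇ 𝒴) (G : 𝒴 ⥤ᵇ 𝒵)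
    (hF : LocSurjHom J F) (hG : LocSurjHom J G) : LocSurjHom J (BasedFunctor.comp F G) := by
  intro x x' b hb
  have hx' : 𝒳.p.obj x' = 𝒳.p.obj x := by
    have := IsHomLift.codomain_eq 𝒵.p (𝟙 (𝒳.p.obj x)) b
    rw [← F.w_obj x', ← G.w_obj (F.obj x')]; exact this
  obtain ⟨R₁, hR₁, hR₁'⟩ := flexHom J hG (F.obj x) (F.obj x') (𝒳.p.obj x) (F.w_obj x) b hb
  have key : ∀ ⦃V : C⦄ (f : V ⟶ 𝒳.p.obj x), R₁ f → ∃ R' ∈ J V, ∀ ⦃W : C⦄ (h : W ⟶ V), R' h →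
      ∃ (x₀ : 𝒳.obj) (φ : x₀ ⟶ x) (ψ : x₀ ⟶ x'), 𝒳.p.IsHomLift (h ≫ f) φ ∧
        𝒳.p.IsHomLift (h ≫ f) ψ ∧ G.map (F.map φ) ≫ b = G.map (F.map ψ) := by
    intro V f hf
    obtain ⟨y₀, φ₁, ψ₁, hφ₁, hψ₁, e₁⟩ := hR₁' f hf
    obtain ⟨xV, α, hα⟩ := h𝒳.exists_lift f
    obtain ⟨xV', α', hα'⟩ :=
      Groth.Agent.Lib.FibCat_helper6.exists_lift_of_isFibGrpd h𝒳 hx' f
    haveI := hα
    haveI := hα'
    haveI := hφ₁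
    haveI := hψ₁
    haveI : 𝒴.p.IsHomLift f (F.map α) := inferInstance
    haveI : 𝒴.p.IsHomLift f (F.map α') := inferInstance
    haveI sc : 𝒴.p.IsStronglyCartesian f (F.map α) :=
      Groth.Agent.Lib.FibCat_helper6.isStronglyCartesian_of_isFibGrpd h𝒴 f (F.map α)
    haveI sc' : 𝒴.p.IsStronglyCartesian f (F.map α') :=
      Groth.Agent.Lib.FibCat_helper6.isStronglyCartesian_of_isFibGrpd h𝒴 f (F.map α')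
    obtain ⟨θ, ⟨hθ1, hθ2⟩, -⟩ := IsStronglyCartesian.universal_property 𝒴.p f (F.map α)
      (𝟙 V) f (Category.id_comp f).symm φ₁
    obtain ⟨θ', ⟨hθ'1, hθ'2⟩, -⟩ := IsStronglyCartesian.universal_property 𝒴.p f (F.map α')
      (𝟙 V) f (Category.id_comp f).symm ψ₁
    haveI := hθ1
    haveI := hθ'1
    haveI : IsIso θ := Groth.Agent.Lib.FibCat_helper6.isIso_of_isFibGrpd_id h𝒴 (R := V) θ
    have hxV : 𝒳.p.obj xV = V := IsHomLift.domain_eq 𝒳.p f α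
    haveI : 𝒴.p.IsHomLift (𝟙 V) (inv θ) := inferInstance
    haveI hbV : 𝒴.p.IsHomLift (𝟙 V) (inv θ ≫ θ') := inferInstance
    obtain ⟨R₂, hR₂, hR₂'⟩ := flexHom J hF xV xV' V hxV (inv θ ≫ θ') hbV
    refine ⟨R₂, hR₂, fun W h hh => ?_⟩
    obtain ⟨x₀, φ₀, ψ₀, hφ₀, hψ₀, e₀⟩ := hR₂' h hh
    haveI := hφ₀
    haveI := hψ₀
    refine ⟨x₀, φ₀ ≫ α, ψ₀ ≫ α', inferInstance, inferInstance, ?_⟩
    have e2 : F.map (ψ₀ ≫ α') = F.map φ₀ ≫ inv θ ≫ ψ₁ := by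
      rw [F.map_comp, ← e₀, ← hθ'2]; simp only [Category.assoc]
    have e3 : F.map (φ₀ ≫ α) = F.map φ₀ ≫ inv θ ≫ φ₁ := by
      rw [F.map_comp, ← hθ2]; simp
    rw [e2, e3]
    simp only [Functor.map_comp, Category.assoc]
    exact congrArg (fun t => G.map (F.map φ₀) ≫ G.map (inv θ) ≫ t) e₁
  choose R' hR'1 hR'2 using key
  refine ⟨Sieve.bind R₁ (fun _ _ hf => R' _ hf),
    J.bind_covering hR₁ (fun _ _ hf => hR'1 _ hf), ?_⟩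
  rintro W k ⟨V, h, f, hf, hh, rfl⟩
  exact hR'2 f hf h hh

theorem main16883 {𝒳 𝒴 𝒵 : BasedCategory.{v, max u v} C}
    (h𝒳 : Stk.IsStack J 𝒳) (h𝒴 : Stk.IsStack J 𝒴)
    (F : 𝒳 ⥤ᵇ 𝒴) (G : 𝒴 ⥤ᵇ 𝒵)
    (hF : Gerb.IsGerbeOver J F) (hG : Gerb.IsGerbeOver J G) :
    Gerb.IsGerbeOver J (BasedFunctor.comp F G) :=
  ⟨locSurjObj_comp J F G hF.1 hG.1, locSurjHom_comp J h𝒳.1 h𝒴.1 F G hF.2 hG.2⟩

end Groth.Agent.Lib.GerbH4
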