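import Mathlib
import Groth.Prelude.Def_StGerb
import Groth.Agent.Lib.GerbBasic_helper4
import Groth.Agent.Lib.FibCat12_helper6

set_option autoImplicit false
set_option linter.style.haveILetI false
set_option linter.unusedSectionVars false

universe v₅ u₅ v₄ u₄ v₃ u₃ v₂ u₂ v u

namespace Groth.Agent.Lib.GerbBCH4

open CategoryTheory FibCat Gerb Functor
open Groth.Agent.Lib.FibCat_helper6 Groth.Agent.Lib.GerbH4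

variable {C : Type u} [Category.{v} C] (J : GrothendieckTopology C)
  {𝒳 : BasedCategory.{v₂, u₂} C} {𝒴 : BasedCategory.{v₃, u₃} C} {𝒴' : BasedCategory.{v₄, u₄} C}
  {𝒲 : BasedCategory.{v₅, u₅} C}

/-! ### an equivalence is a gerbe -/

lemma locSurjObj_of_isEquivOver (h𝒳 : IsFibGrpd 𝒳.p) (H : 𝒳 ⥤ᵇ 𝒴) (hH : IsEquivOver H) :
    LocSurjObj J H := by
  intro y
  refine ⟨⊤, J.top_mem _, fun V f _ => ?_⟩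
  obtain ⟨x, e, he⟩ := Groth.Agent.Lib.FibCat3_helper6.essSurjOver_of_isEquivOver hH y
  haveI := he
  have hx : 𝒳.p.obj x = 𝒴.p.obj y := by
    rw [← H.w_obj x]; exact IsHomLift.domain_eq 𝒴.p (𝟙 (𝒴.p.obj y)) e.hom
  obtain ⟨xV, α, hα⟩ := exists_lift_of_isFibGrpd h𝒳 hx f
  haveI := hα
  haveI : 𝒴.p.IsHomLift f (H.map α) := inferInstance
  exact ⟨xV, H.map α ≫ e.hom, inferInstance⟩

lemma locSurjHom_of_isEquivOver (h𝒳 : IsFibGrpd 𝒳.p) (H : 𝒳 ⥤ᵇ 𝒴) (hH : IsEquivOver H) :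
    LocSurjHom J H := by
  intro x x' b hb
  refine ⟨⊤, J.top_mem _, fun V f _ => ?_⟩
  haveI := Groth.Agent.Lib.FibCat3_helper6.full_of_isEquivOver hH
  obtain ⟨a, ha⟩ := H.toFunctor.map_surjective b
  have ha1 : 𝒴.p.IsHomLift (𝟙 (𝒳.p.obj x)) (H.map a) := by rw [ha]; exact hb
  have ha' : 𝒳.p.IsHomLift (𝟙 (𝒳.p.obj x)) a := (BasedFunctor.isHomLift_iff H _ a).mp ha1
  obtain ⟨x₀, φ, hφ⟩ := h𝒳.exists_lift f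
  haveI := hφ
  haveI := ha'
  refine ⟨x₀, φ, φ ≫ a, hφ, inferInstance, ?_⟩
  rw [H.map_comp]
  exact congrArg (fun t => H.map φ ≫ t) ha.symm

/-! ### base change -/

section BC

variable (G : 𝒴' ⥤ᵇ 𝒴) (F : 𝒳 ⥤ᵇ 𝒴)

lemma flexObj_fpFst (h : LocSurjObj J (fpFst G F)) (y' : 𝒴'.obj) (U : C) (hy : 𝒴'.p.obj y' = U) :
    ∃ R ∈ J U, ∀ ⦃V : C⦄ (f : V ⟶ U), R f →
      ∃ (z : (fp G F).obj) (m : z.obj.fst ⟶ y'), 𝒴'.p.IsHomLift f m :=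
  flexObj J h y' U hy

lemma flexHom_fpFst (h : LocSurjHom J (fpFst G F)) (z z' : (fp G F).obj) (U : C)
    (hz : 𝒴'.p.obj z.obj.fst = U) (b : z.obj.fst ⟶ z'.obj.fst) (hb : 𝒴'.p.IsHomLift (𝟙 U) b) :
    ∃ R ∈ J U, ∀ ⦃V : C⦄ (f : V ⟶ U), R f →
      ∃ (z₀ : (fp G F).obj) (φ : z₀ ⟶ z) (ψ : z₀ ⟶ z'),
        (fp G F).p.IsHomLift f φ ∧ (fp G F).p.IsHomLift f ψ ∧ φ.hom.fst ≫ b = ψ.hom.fst :=
  flexHom J h z z' U hz b hb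

lemma locSurjObj_fpFst (h𝒴 : IsFibGrpd 𝒴.p) (h𝒴' : IsFibGrpd 𝒴'.p) (hF : LocSurjObj J F) :
    LocSurjObj J (fpFst G F) := by
  intro y'
  obtain ⟨R, hR, hR'⟩ := flexObj J hF (G.obj y') (𝒴'.p.obj y') (G.w_obj y')
  refine ⟨R, hR, fun V f hf => ?_⟩
  obtain ⟨x, g, hg⟩ := hR' f hf
  obtain ⟨yV, α, hα⟩ := h𝒴'.exists_lift f
  haveI := hα
  haveI := hg
  haveI : 𝒴.p.IsHomLift f (G.map α) := inferInstance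
  haveI sc : 𝒴.p.IsStronglyCartesian f (G.map α) :=
    isStronglyCartesian_of_isFibGrpd h𝒴 f (G.map α)
  obtain ⟨θ, ⟨hθ1, hθ2⟩, -⟩ := IsStronglyCartesian.universal_property 𝒴.p f (G.map α)
    (𝟙 V) f (Category.id_comp f).symm g
  haveI := hθ1
  haveI : IsIso θ := isIso_of_isFibGrpd_id h𝒴 (R := V) θ
  have hyV : 𝒴'.p.obj yV = V := IsHomLift.domain_eq 𝒴'.p f α
  haveI : 𝒴.p.IsHomLift (𝟙 V) (inv θ) := inferInstance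
  have hprop : 𝒴.p.IsHomLift (𝟙 (𝒴'.p.obj yV)) (inv θ) :=
    Groth.Agent.Lib.FibCat3_helper6.isHomLift_id_of_eq hyV.symm (inv θ) inferInstance
  exact ⟨⟨{ fst := yV, snd := x, iso := (asIso θ).symm }, hprop⟩, α, hα⟩

lemma locSurjHom_fpFst_aux (h𝒴 : IsFibGrpd 𝒴.p) (h𝒴' : IsFibGrpd 𝒴'.p) (hF : LocSurjHom J F)
    (z z' : (fp G F).obj) (b : z.obj.fst ⟶ z'.obj.fst)
    (hb : 𝒴'.p.IsHomLift (𝟙 (𝒴'.p.obj z.obj.fst)) b) :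
    ∃ R ∈ J (𝒴'.p.obj z.obj.fst), ∀ ⦃V : C⦄ (f : V ⟶ 𝒴'.p.obj z.obj.fst), R f →
      ∃ (z₀ : (fp G F).obj) (φ : z₀ ⟶ z) (ψ : z₀ ⟶ z'),
        𝒴'.p.IsHomLift f φ.hom.fst ∧ 𝒴'.p.IsHomLift f ψ.hom.fst ∧
          φ.hom.fst ≫ b = ψ.hom.fst := by
  haveI := hb
  haveI hz : 𝒴.p.IsHomLift (𝟙 (𝒴'.p.obj z.obj.fst)) z.obj.iso.hom := z.property
  have hz' : 𝒴.p.IsHomLift (𝟙 (𝒴'.p.obj z'.obj.fst)) z'.obj.iso.hom := z'.property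
  have hUU' : 𝒴'.p.obj z'.obj.fst = 𝒴'.p.obj z.obj.fst :=
    IsHomLift.codomain_eq 𝒴'.p (𝟙 (𝒴'.p.obj z.obj.fst)) b
  haveI hz'' : 𝒴.p.IsHomLift (𝟙 (𝒴'.p.obj z.obj.fst)) z'.obj.iso.hom :=
    Groth.Agent.Lib.FibCat3_helper6.isHomLift_id_of_eq hUU' _ hz'
  have hx₁ : 𝒳.p.obj z.obj.snd = 𝒴'.p.obj z.obj.fst := fp_obj_snd_proj z
  haveI : 𝒴.p.IsHomLift (𝟙 (𝒴'.p.obj z.obj.fst)) (G.map b) := inferInstance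
  haveI : 𝒴.p.IsHomLift (𝟙 (𝒴'.p.obj z.obj.fst)) z.obj.iso.inv := inferInstance
  haveI : 𝒴.p.IsHomLift (𝟙 (𝒴'.p.obj z.obj.fst)) (G.map b ≫ z'.obj.iso.hom) := inferInstance
  have hβ : 𝒴.p.IsHomLift (𝟙 (𝒴'.p.obj z.obj.fst))
      (z.obj.iso.inv ≫ G.map b ≫ z'.obj.iso.hom) := inferInstance
  obtain ⟨R, hR, hR'⟩ := flexHom J hF z.obj.snd z'.obj.snd (𝒴'.p.obj z.obj.fst) hx₁
    (z.obj.iso.inv ≫ G.map b ≫ z'.obj.iso.hom) hβ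
  refine ⟨R, hR, fun V f hf => ?_⟩
  obtain ⟨x₀, φ₁, ψ₁, hφ₁, hψ₁, e₁⟩ := hR' f hf
  obtain ⟨y₀, α, hα⟩ := h𝒴'.exists_lift f
  haveI := hα
  haveI := hφ₁
  haveI := hψ₁
  haveI : 𝒴.p.IsHomLift f (F.map φ₁) := inferInstance
  haveI sc : 𝒴.p.IsStronglyCartesian f (F.map φ₁) :=
    isStronglyCartesian_of_isFibGrpd h𝒴 f (F.map φ₁)
  haveI : 𝒴.p.IsHomLift f (G.map α) := inferInstance
  haveI : 𝒴.p.IsHomLift f (G.map α ≫ z.obj.iso.hom) := inferInstance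
  obtain ⟨θ, ⟨hθ1, hθ2⟩, -⟩ := IsStronglyCartesian.universal_property 𝒴.p f (F.map φ₁)
    (𝟙 V) f (Category.id_comp f).symm (G.map α ≫ z.obj.iso.hom)
  haveI := hθ1
  haveI : IsIso θ := isIso_of_isFibGrpd_id h𝒴 (R := V) θ
  have hy₀ : 𝒴'.p.obj y₀ = V := IsHomLift.domain_eq 𝒴'.p f α
  have hprop : 𝒴.p.IsHomLift (𝟙 (𝒴'.p.obj y₀)) θ :=
    Groth.Agent.Lib.FibCat3_helper6.isHomLift_id_of_eq hy₀.symm θ hθ1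
  have w2 : G.map (α ≫ b) ≫ z'.obj.iso.hom = θ ≫ F.map ψ₁ := by
    rw [← e₁, ← Category.assoc θ, hθ2]
    simp
  have hαb : 𝒴'.p.IsHomLift f (α ≫ b) := inferInstance
  exact ⟨⟨{ fst := y₀, snd := x₀, iso := asIso θ }, hprop⟩,
    ObjectProperty.homMk { fst := α, snd := φ₁, w := hθ2.symm },
    ObjectProperty.homMk { fst := α ≫ b, snd := ψ₁, w := w2 }, hα, hαb, rfl⟩

lemma locSurjHom_fpFst (h𝒴 : IsFibGrpd 𝒴.p) (h𝒴' : IsFibGrpd 𝒴'.p) (hF : LocSurjHom J F) :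
    LocSurjHom J (fpFst G F) := by
  intro z z' b hb
  obtain ⟨R, hR, h⟩ := locSurjHom_fpFst_aux J G F h𝒴 h𝒴' hF z z' b hb
  refine ⟨R, hR, fun V f hf => ?_⟩
  obtain ⟨z₀, φ, ψ, h1, h2, h3⟩ := h f hf
  exact ⟨z₀, φ, ψ, fp_isHomLift_of_fst φ f h1, fp_isHomLift_of_fst ψ f h2, h3⟩

theorem isGerbeOver_fpFst (h𝒴 : IsFibGrpd 𝒴.p) (h𝒴' : IsFibGrpd 𝒴'.p)
    (hF : IsGerbeOver J F) : IsGerbeOver J (fpFst G F) :=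
  ⟨locSurjObj_fpFst J G F h𝒴 h𝒴' hF.1, locSurjHom_fpFst J G F h𝒴 h𝒴' hF.2⟩

/-! ### descent -/

lemma locSurjObj_descent (hG : LocSurjObj J G) (h : LocSurjObj J (fpFst G F)) :
    LocSurjObj J F := by
  intro y
  obtain ⟨R, hR, hR'⟩ := hG y
  have key : ∀ ⦃V : C⦄ (f : V ⟶ 𝒴.p.obj y), R f → ∃ R' ∈ J V, ∀ ⦃W : C⦄ (k : W ⟶ V), R' k →
      ∃ (x : 𝒳.obj) (m : F.obj x ⟶ y), 𝒴.p.IsHomLift (k ≫ f) m := by
    intro V f hf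
    obtain ⟨y', g, hg⟩ := hR' f hf
    haveI := hg
    have hV : 𝒴'.p.obj y' = V := by
      rw [← G.w_obj y']; exact IsHomLift.domain_eq 𝒴.p f g
    obtain ⟨R₁, hR₁, hR₁'⟩ := flexObj_fpFst J G F h y' V hV
    refine ⟨R₁, hR₁, fun W k hk => ?_⟩
    obtain ⟨z, m, hm⟩ := hR₁' k hk
    haveI := hm
    have hW : 𝒴'.p.obj z.obj.fst = W := IsHomLift.domain_eq 𝒴'.p k m
    haveI : 𝒴.p.IsHomLift (𝟙 W) z.obj.iso.hom := fp_obj_iso_isHomLift' z hW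
    haveI : 𝒴.p.IsHomLift (𝟙 W) z.obj.iso.inv := inferInstance
    haveI : 𝒴.p.IsHomLift k (G.map m) := inferInstance
    haveI : 𝒴.p.IsHomLift (k ≫ f) (G.map m ≫ g) := inferInstance
    exact ⟨z.obj.snd, z.obj.iso.inv ≫ G.map m ≫ g, inferInstance⟩
  choose R' hR'1 hR'2 using key
  refine ⟨Sieve.bind R (fun _ _ hf => R' _ hf),
    J.bind_covering hR (fun _ _ hf => hR'1 _ hf), ?_⟩
  rintro W k ⟨V, h, f, hf, hh, rfl⟩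
  exact hR'2 f hf h hh

lemma locSurjHom_descent (h𝒳 : IsFibGrpd 𝒳.p) (h𝒴 : IsFibGrpd 𝒴.p) (hG : LocSurjObj J G)
    (h : LocSurjHom J (fpFst G F)) : LocSurjHom J F := by
  intro x₁ x₂ b hb
  haveI := hb
  have hx₂ : 𝒳.p.obj x₂ = 𝒳.p.obj x₁ :=
    (F.w_obj x₂).symm.trans (IsHomLift.codomain_eq 𝒴.p (𝟙 (𝒳.p.obj x₁)) b)
  obtain ⟨R, hR, hR'⟩ := flexObj J hG (F.obj x₁) (𝒳.p.obj x₁) (F.w_obj x₁)
  have key : ∀ ⦃V : C⦄ (f : V ⟶ 𝒳.p.obj x₁), R f → ∃ R' ∈ J V, ∀ ⦃W : C⦄ (k : W ⟶ V), R' k →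
      ∃ (x₀ : 𝒳.obj) (φ : x₀ ⟶ x₁) (ψ : x₀ ⟶ x₂), 𝒳.p.IsHomLift (k ≫ f) φ ∧
        𝒳.p.IsHomLift (k ≫ f) ψ ∧ F.map φ ≫ b = F.map ψ := by
    intro V f hf
    obtain ⟨y', g, hg⟩ := hR' f hf
    haveI := hg
    have hy' : 𝒴'.p.obj y' = V := by
      rw [← G.w_obj y']; exact IsHomLift.domain_eq 𝒴.p f g
    obtain ⟨xV₁, α₁, hα₁⟩ := h𝒳.exists_lift f
    obtain ⟨xV₂, α₂, hα₂⟩ := exists_lift_of_isFibGrpd h𝒳 hx₂ f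
    haveI := hα₁
    haveI := hα₂
    haveI : 𝒴.p.IsHomLift f (F.map α₁) := inferInstance
    haveI : 𝒴.p.IsHomLift f (F.map α₂) := inferInstance
    haveI sc₁ : 𝒴.p.IsStronglyCartesian f (F.map α₁) :=
      isStronglyCartesian_of_isFibGrpd h𝒴 f (F.map α₁)
    haveI sc₂ : 𝒴.p.IsStronglyCartesian f (F.map α₂) :=
      isStronglyCartesian_of_isFibGrpd h𝒴 f (F.map α₂)
    haveI : 𝒴.p.IsHomLift f (g ≫ b) := inferInstance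
    obtain ⟨θ₁, ⟨hθ₁1, hθ₁2⟩, -⟩ := IsStronglyCartesian.universal_property 𝒴.p f (F.map α₁)
      (𝟙 V) f (Category.id_comp f).symm g
    obtain ⟨θ₂, ⟨hθ₂1, hθ₂2⟩, -⟩ := IsStronglyCartesian.universal_property 𝒴.p f (F.map α₂)
      (𝟙 V) f (Category.id_comp f).symm (g ≫ b)
    haveI := hθ₁1
    haveI := hθ₂1
    haveI : IsIso θ₁ := isIso_of_isFibGrpd_id h𝒴 (R := V) θ₁
    haveI : IsIso θ₂ := isIso_of_isFibGrpd_id h𝒴 (R := V) θ₂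
    have hp₁ : 𝒴.p.IsHomLift (𝟙 (𝒴'.p.obj y')) θ₁ :=
      Groth.Agent.Lib.FibCat3_helper6.isHomLift_id_of_eq hy'.symm θ₁ hθ₁1
    have hp₂ : 𝒴.p.IsHomLift (𝟙 (𝒴'.p.obj y')) θ₂ :=
      Groth.Agent.Lib.FibCat3_helper6.isHomLift_id_of_eq hy'.symm θ₂ hθ₂1
    have h1 : 𝒴'.p.IsHomLift (𝟙 V) (𝟙 y') := IsHomLift.id hy'
    obtain ⟨R₁, hR₁, hR₁'⟩ := flexHom_fpFst J G F h
      ⟨{ fst := y', snd := xV₁, iso := asIso θ₁ }, hp₁⟩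
      ⟨{ fst := y', snd := xV₂, iso := asIso θ₂ }, hp₂⟩ V hy' (𝟙 y') h1
    refine ⟨R₁, hR₁, fun W k hk => ?_⟩
    obtain ⟨z₀, φ, ψ, hφ, hψ, e₀⟩ := hR₁' k hk
    haveI := hφ
    haveI := hψ
    haveI hφ2 : 𝒳.p.IsHomLift k φ.hom.snd := fp_isHomLift_snd' φ k
    haveI hψ2 : 𝒳.p.IsHomLift k ψ.hom.snd := fp_isHomLift_snd' ψ k
    have e₀' : φ.hom.fst = ψ.hom.fst := (Category.comp_id _).symm.trans e₀
    have wφ : G.map φ.hom.fst ≫ θ₁ = z₀.obj.iso.hom ≫ F.map φ.hom.snd := φ.hom.w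
    have wψ : G.map ψ.hom.fst ≫ θ₂ = z₀.obj.iso.hom ≫ F.map ψ.hom.snd := ψ.hom.w
    refine ⟨z₀.obj.snd, φ.hom.snd ≫ α₁, ψ.hom.snd ≫ α₂, inferInstance, inferInstance, ?_⟩
    rw [← cancel_epi z₀.obj.iso.hom]
    calc z₀.obj.iso.hom ≫ F.map (φ.hom.snd ≫ α₁) ≫ b
        = (z₀.obj.iso.hom ≫ F.map φ.hom.snd) ≫ F.map α₁ ≫ b := by
          rw [F.map_comp]; simp only [Category.assoc]
      _ = G.map φ.hom.fst ≫ (θ₁ ≫ F.map α₁) ≫ b := by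
          rw [← wφ]; simp only [Category.assoc]
      _ = G.map ψ.hom.fst ≫ (θ₂ ≫ F.map α₂) := by rw [hθ₁2, hθ₂2, e₀']
      _ = (z₀.obj.iso.hom ≫ F.map ψ.hom.snd) ≫ F.map α₂ := by
          rw [← wψ]; simp only [Category.assoc]
      _ = z₀.obj.iso.hom ≫ F.map (ψ.hom.snd ≫ α₂) := by
          rw [F.map_comp]; simp only [Category.assoc]
  choose R' hR'1 hR'2 using key
  refine ⟨Sieve.bind R (fun _ _ hf => R' _ hf),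
    J.bind_covering hR (fun _ _ hf => hR'1 _ hf), ?_⟩
  rintro W k ⟨V, h, f, hf, hh, rfl⟩
  exact hR'2 f hf h hh

end BC

/-! ### precomposition with an equivalence -/

lemma locSurjObj_of_comp (L : 𝒲 ⥤ᵇ 𝒳) (K : 𝒳 ⥤ᵇ 𝒴)
    (h : LocSurjObj J (BasedFunctor.comp L K)) : LocSurjObj J K := by
  intro y
  obtain ⟨R, hR, hR'⟩ := h y
  refine ⟨R, hR, fun V f hf => ?_⟩
  obtain ⟨w, g, hg⟩ := hR' f hf
  exact ⟨L.obj w, g, hg⟩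

lemma locSurjHom_of_comp_equiv (L : 𝒲 ⥤ᵇ 𝒳) (hL : IsEquivOver L) (K : 𝒳 ⥤ᵇ 𝒴)
    (h : LocSurjHom J (BasedFunctor.comp L K)) : LocSurjHom J K := by
  intro z z' b hb
  obtain ⟨w, e, he⟩ := Groth.Agent.Lib.FibCat3_helper6.essSurjOver_of_isEquivOver hL z
  obtain ⟨w', e', he'⟩ := Groth.Agent.Lib.FibCat3_helper6.essSurjOver_of_isEquivOver hL z'
  haveI := hb
  have hzz' : 𝒳.p.obj z' = 𝒳.p.obj z :=
    (K.w_obj z').symm.trans (IsHomLift.codomain_eq 𝒴.p (𝟙 (𝒳.p.obj z)) b)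
  haveI heU : 𝒳.p.IsHomLift (𝟙 (𝒳.p.obj z)) e.hom := he
  haveI heU' : 𝒳.p.IsHomLift (𝟙 (𝒳.p.obj z)) e'.hom :=
    Groth.Agent.Lib.FibCat3_helper6.isHomLift_id_of_eq hzz' e'.hom he'
  have hw : 𝒲.p.obj w = 𝒳.p.obj z := by
    rw [← L.w_obj w]; exact IsHomLift.domain_eq 𝒳.p (𝟙 (𝒳.p.obj z)) e.hom
  haveI : 𝒴.p.IsHomLift (𝟙 (𝒳.p.obj z)) (K.map e.hom) := inferInstance
  haveI : 𝒳.p.IsHomLift (𝟙 (𝒳.p.obj z)) e'.inv := inferInstance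
  haveI : 𝒴.p.IsHomLift (𝟙 (𝒳.p.obj z)) (K.map e'.inv) := inferInstance
  haveI : 𝒴.p.IsHomLift (𝟙 (𝒳.p.obj z)) (b ≫ K.map e'.inv) := inferInstance
  have hb' : 𝒴.p.IsHomLift (𝟙 (𝒳.p.obj z)) (K.map e.hom ≫ b ≫ K.map e'.inv) := inferInstance
  obtain ⟨R, hR, hR'⟩ := flexHom J h w w' (𝒳.p.obj z) hw (K.map e.hom ≫ b ≫ K.map e'.inv) hb'
  refine ⟨R, hR, fun V f hf => ?_⟩
  obtain ⟨w₀, φ, ψ, hφ, hψ, eq⟩ := hR' f hf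
  haveI := hφ
  haveI := hψ
  haveI : 𝒳.p.IsHomLift f (L.map φ) := inferInstance
  haveI : 𝒳.p.IsHomLift f (L.map ψ) := inferInstance
  refine ⟨L.obj w₀, L.map φ ≫ e.hom, L.map ψ ≫ e'.hom, inferInstance, inferInstance, ?_⟩
  have eq' : K.map (L.map φ) ≫ K.map e.hom ≫ b ≫ K.map e'.inv = K.map (L.map ψ) := eq
  have h1 : K.map e'.inv ≫ K.map e'.hom = 𝟙 _ := by
    rw [← K.map_comp, Iso.inv_hom_id, K.map_id]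
  calc K.map (L.map φ ≫ e.hom) ≫ b = K.map (L.map φ) ≫ K.map e.hom ≫ b := by
        rw [K.map_comp, Category.assoc]
    _ = K.map (L.map φ) ≫ K.map e.hom ≫ b ≫ K.map e'.inv ≫ K.map e'.hom := by
        rw [h1, Category.comp_id]
    _ = (K.map (L.map φ) ≫ K.map e.hom ≫ b ≫ K.map e'.inv) ≫ K.map e'.hom := by
        simp only [Category.assoc]
    _ = K.map (L.map ψ) ≫ K.map e'.hom := by rw [eq']
    _ = K.map (L.map ψ ≫ e'.hom) := by rw [K.map_comp]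

/-! ### main statements -/

theorem main16882 {𝒳 𝒴 𝒳' 𝒴' : BasedCategory.{v, max u v} C}
    (h𝒳 : Stk.IsStack J 𝒳) (h𝒴 : Stk.IsStack J 𝒴) (h𝒳' : Stk.IsStack J 𝒳') (h𝒴' : Stk.IsStack J 𝒴')
    (F : 𝒳 ⥤ᵇ 𝒴) (G : 𝒴' ⥤ᵇ 𝒴) (F' : 𝒳' ⥤ᵇ 𝒴') (G' : 𝒳' ⥤ᵇ 𝒳)
    (e : BasedFunctor.comp F' G ≅ BasedFunctor.comp G' F) (hc : FibCat.IsTwoCartOver F' G' e)
    (hF : Gerb.IsGerbeOver J F) : Gerb.IsGerbeOver J F' := by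
  have hfp : IsFibGrpd (fp G F).p :=
    Groth.Agent.Lib.FibCat12_helper6.isFibGrpd_fp G F h𝒴'.1 h𝒳.1 h𝒴.1
  have h1 : IsGerbeOver J (fpLift F' G' e) :=
    ⟨locSurjObj_of_isEquivOver J h𝒳'.1 _ hc, locSurjHom_of_isEquivOver J h𝒳'.1 _ hc⟩
  have h2 : IsGerbeOver J (fpFst G F) := isGerbeOver_fpFst J G F h𝒴.1 h𝒴'.1 hF
  have h3 : IsGerbeOver J (BasedFunctor.comp (fpLift F' G' e) (fpFst G F)) :=
    ⟨locSurjObj_comp J _ _ h1.1 h2.1, locSurjHom_comp J h𝒳'.1 hfp _ _ h1.2 h2.2⟩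
  exact h3

theorem main16884 {𝒳 𝒴 𝒳' 𝒴' : BasedCategory.{v, max u v} C}
    (h𝒳 : Stk.IsStack J 𝒳) (h𝒴 : Stk.IsStack J 𝒴) (h𝒳' : Stk.IsStack J 𝒳') (h𝒴' : Stk.IsStack J 𝒴')
    (F : 𝒳 ⥤ᵇ 𝒴) (G : 𝒴' ⥤ᵇ 𝒴) (F' : 𝒳' ⥤ᵇ 𝒴') (G' : 𝒳' ⥤ᵇ 𝒳)
    (e : BasedFunctor.comp F' G ≅ BasedFunctor.comp G' F) (hc : FibCat.IsTwoCartOver F' G' e)
    (hG : Gerb.LocSurjObj J G) (hF' : Gerb.IsGerbeOver J F') : Gerb.IsGerbeOver J F := by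
  have h1 : IsGerbeOver J (BasedFunctor.comp (fpLift F' G' e) (fpFst G F)) := hF'
  have h2 : IsGerbeOver J (fpFst G F) :=
    ⟨locSurjObj_of_comp J _ _ h1.1, locSurjHom_of_comp_equiv J _ hc _ h1.2⟩
  exact ⟨locSurjObj_descent J G F hG h2.1, locSurjHom_descent J G F h𝒳.1 h𝒴.1 hG h2.2⟩

end Groth.Agent.Lib.GerbBCH4
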