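import Mathlib
import Groth.Prelude.Def_StGerb2
import Groth.Agent.Lib.FibCatYoneda_helper6
import Groth.Agent.Lib.FibCat_helper6
import Groth.Agent.Lib.StkLocal_helper9
import Groth.Agent.Lib.GerbBasic_helper4

set_option autoImplicit false
set_option linter.style.haveILetI false
set_option linter.unusedSectionVars false

universe v₃ u₃ v₂ u₂ v u

namespace Groth.Agent.Lib.GerbGlueH4

open CategoryTheory FibCat Gerb Functor Groth.Agent.Lib.FibCat_helper6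
  Groth.Agent.Lib.FibCatYoneda_helper6 Functor.IsPreFibered

variable {C : Type u} [Category.{v} C] {𝒳 : BasedCategory.{v₂, u₂} C}

lemma isHomLift_of_eq {V U : C} {f f' : V ⟶ U} (h : f = f') {a b : 𝒳.obj} (φ : a ⟶ b)
    (hφ : 𝒳.p.IsHomLift f φ) : 𝒳.p.IsHomLift f' φ := h ▸ hφ

lemma isHomLift_base {a b : 𝒳.obj} (θ : a ⟶ b) {R S : C} (ha : 𝒳.p.obj a = R)
    (hb : 𝒳.p.obj b = S) :
    𝒳.p.IsHomLift (eqToHom ha.symm ≫ 𝒳.p.map θ ≫ eqToHom hb) θ :=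
  IsHomLift.of_fac 𝒳.p _ _ ha hb rfl

lemma isHomLift_id_obj {x y : 𝒳.obj} {V : C} (β : x ⟶ y) (hβ : 𝒳.p.IsHomLift (𝟙 V) β) :
    𝒳.p.IsHomLift (𝟙 (𝒳.p.obj x)) β := by
  have h := IsHomLift.domain_eq 𝒳.p (𝟙 V) β
  subst h; exact hβ

lemma isHomLift_id_of_obj {x y : 𝒳.obj} {V : C} (hx : 𝒳.p.obj x = V) (β : x ⟶ y)
    (hβ : 𝒳.p.IsHomLift (𝟙 (𝒳.p.obj x)) β) : 𝒳.p.IsHomLift (𝟙 V) β := by
  subst hx; exact hβ

/-- factorisation through a morphism of a category fibred in groupoids -/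
theorem exists_factor (hfib : IsFibGrpd 𝒳.p) {V U W : C} {y x z : 𝒳.obj} (f : V ⟶ U) (ψ : y ⟶ x)
    (hψ : 𝒳.p.IsHomLift f ψ) (g : W ⟶ V) (χ : z ⟶ x) (hχ : 𝒳.p.IsHomLift (g ≫ f) χ) :
    ∃ k : z ⟶ y, 𝒳.p.IsHomLift g k ∧ k ≫ ψ = χ := by
  haveI := hψ
  haveI := hχ
  haveI := isStronglyCartesian_of_isFibGrpd hfib f ψ
  exact ⟨Functor.IsStronglyCartesian.map 𝒳.p f ψ (g := g) (f' := g ≫ f) rfl χ, inferInstance,
    Functor.IsStronglyCartesian.fac _ _ _ _ _⟩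

theorem factor_unique (hfib : IsFibGrpd 𝒳.p) {V U W : C} {y x z : 𝒳.obj} (f : V ⟶ U) (ψ : y ⟶ x)
    (hψ : 𝒳.p.IsHomLift f ψ) (g : W ⟶ V) (k k' : z ⟶ y) (hk : 𝒳.p.IsHomLift g k)
    (hk' : 𝒳.p.IsHomLift g k') (h : k ≫ ψ = k' ≫ ψ) : k = k' := by
  haveI := hψ
  haveI := hk
  haveI := hk'
  haveI := isStronglyCartesian_of_isFibGrpd hfib f ψ
  exact Functor.IsStronglyCartesian.ext 𝒳.p f ψ g h

/-- an automorphism over the identity as an element of `AutO` -/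
noncomputable def mkAutO (hfib : IsFibGrpd 𝒳.p) (x : 𝒳.obj) (β : x ⟶ x)
    (hβ : 𝒳.p.IsHomLift (𝟙 (𝒳.p.obj x)) β) : AutO x :=
  haveI := hβ
  haveI : IsIso β := isIso_of_isFibGrpd_id hfib (R := 𝒳.p.obj x) β
  { hom := ⟨β, hβ⟩
    inv := ⟨inv β, inferInstance⟩
    hom_inv_id := by
      apply Functor.Fiber.hom_ext
      change β ≫ inv β = 𝟙 x
      exact IsIso.hom_inv_id β
    inv_hom_id := by
      apply Functor.Fiber.hom_ext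
      change inv β ≫ β = 𝟙 x
      exact IsIso.inv_hom_id β }

lemma mkAutO_hom (hfib : IsFibGrpd 𝒳.p) (x : 𝒳.obj) (β : x ⟶ x)
    (hβ : 𝒳.p.IsHomLift (𝟙 (𝒳.p.obj x)) β) : (mkAutO hfib x β hβ).hom.1 = β := rfl

/-- gluing of morphisms along a sieve for which restriction is full -/
theorem glue_hom (hfib : IsFibGrpd 𝒳.p) {V : C} (R : Sieve V) (hR : (Stk.resSieve R 𝒳).Full)
    {a b : 𝒳.obj} (ha : 𝒳.p.obj a = V) (hb : 𝒳.p.obj b = V)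
    (Rel : ∀ ⦃a' : 𝒳.obj⦄, (a' ⟶ a) → (a' ⟶ b) → Prop)
    (hex : ∀ ⦃V' : C⦄ (g : V' ⟶ V), R g → ∀ (a' : 𝒳.obj) (κ : a' ⟶ a), 𝒳.p.IsHomLift g κ →
        ∃ t : a' ⟶ b, 𝒳.p.IsHomLift g t ∧ Rel κ t)
    (huniq : ∀ ⦃V' : C⦄ (g : V' ⟶ V), R g → ∀ (a' : 𝒳.obj) (κ : a' ⟶ a) (t t' : a' ⟶ b),
        𝒳.p.IsHomLift g κ → 𝒳.p.IsHomLift g t → 𝒳.p.IsHomLift g t' → Rel κ t → Rel κ t' → t = t')
    (hcomp : ∀ ⦃a' a'' : 𝒳.obj⦄ (h : a'' ⟶ a') (κ : a' ⟶ a) (t : a' ⟶ b), Rel κ t →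
        Rel (h ≫ κ) (h ≫ t)) :
    ∃ Θ : a ⟶ b, 𝒳.p.IsHomLift (𝟙 V) Θ ∧
      ∀ ⦃V' : C⦄ (g : V' ⟶ V), R g → ∀ (a' : 𝒳.obj) (κ : a' ⟶ a), 𝒳.p.IsHomLift g κ →
        Rel κ (κ ≫ Θ) := by
  haveI : 𝒳.p.IsFibered := isFibered_of_isFibGrpd hfib
  let A : overCat V ⥤ᵇ 𝒳 := yonedaFunctor ha
  let B : overCat V ⥤ᵇ 𝒳 := yonedaFunctor hb
  let κA : ∀ c : Over V, A.obj c ⟶ a := fun c => pullbackMap ha (ohom V c)
  let πB : ∀ c : Over V, B.obj c ⟶ b := fun c => pullbackMap hb (ohom V c)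
  have hκA : ∀ c : Over V, 𝒳.p.IsHomLift (ohom V c) (κA c) := fun c =>
    (inferInstance : 𝒳.p.IsHomLift (ohom V c) (pullbackMap ha (ohom V c)))
  have hπB : ∀ c : Over V, 𝒳.p.IsHomLift (ohom V c) (πB c) := fun c =>
    (inferInstance : 𝒳.p.IsHomLift (ohom V c) (pullbackMap hb (ohom V c)))
  have eA : ∀ {c c' : Over V} (h : c ⟶ c'), A.map h ≫ κA c' = κA c :=
    fun {c c'} h => pbMap_fac ha (ohom V c') (ohom V c) h.left (left_comp_ohom V h)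
  have eB : ∀ {c c' : Over V} (h : c ⟶ c'), B.map h ≫ πB c' = πB c :=
    fun {c c'} h => pbMap_fac hb (ohom V c') (ohom V c) h.left (left_comp_ohom V h)
  have hex' : ∀ c : (Stk.sieveCat R).obj, ∃ t : A.obj c.obj ⟶ b,
      𝒳.p.IsHomLift (ohom V c.obj) t ∧ Rel (κA c.obj) t :=
    fun c => hex (ohom V c.obj) c.property _ (κA c.obj) (hκA c.obj)
  choose t ht hRel using hex'
  have hΨ : ∀ c : (Stk.sieveCat R).obj, ∃ ψ : A.obj c.obj ⟶ B.obj c.obj,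
      𝒳.p.IsHomLift (𝟙 c.obj.left) ψ ∧ ψ ≫ πB c.obj = t c := fun c =>
    exists_factor hfib (ohom V c.obj) (πB c.obj) (hπB c.obj) (𝟙 _) (t c)
      (isHomLift_of_eq (Category.id_comp _).symm _ (ht c))
  choose Ψ hΨl hΨf using hΨ
  have hnat : ∀ {c c' : (Stk.sieveCat R).obj} (u : c ⟶ c'),
      A.map u.hom ≫ Ψ c' = Ψ c ≫ B.map u.hom := by
    intro c c' u
    have hu : u.hom.left ≫ ohom V c'.obj = ohom V c.obj := left_comp_ohom V u.hom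
    haveI hAu : 𝒳.p.IsHomLift u.hom.left (A.map u.hom) := map_isHomLift A u.hom
    haveI hBu : 𝒳.p.IsHomLift u.hom.left (B.map u.hom) := map_isHomLift B u.hom
    haveI := hΨl c
    haveI := hΨl c'
    apply factor_unique hfib (ohom V c'.obj) (πB c'.obj) (hπB c'.obj) u.hom.left _ _
      inferInstance inferInstance
    rw [Category.assoc, Category.assoc, hΨf, eB, hΨf]
    symm
    refine huniq (ohom V c.obj) c.property _ (κA c.obj) (t c) (A.map u.hom ≫ t c') (hκA c.obj)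
      (ht c) ?_ (hRel c) ?_
    · haveI := ht c'
      exact isHomLift_of_eq hu _ inferInstance
    · have := hcomp (A.map u.hom) (κA c'.obj) (t c') (hRel c')
      rwa [eA] at this
  let Ψ' : (Stk.resSieve R 𝒳).obj A ⟶ (Stk.resSieve R 𝒳).obj B :=
    { toNatTrans := { app := fun c => Ψ c, naturality := fun c c' u => hnat u }
      isHomLift' := fun c => hΨl c }
  haveI := hR
  obtain ⟨Θ', hΘ'⟩ := (Stk.resSieve R 𝒳).map_surjective Ψ'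
  have hΘc : ∀ c : (Stk.sieveCat R).obj, Θ'.toNatTrans.app c.obj = Ψ c := fun c => by
    have := congrArg (fun α => α.toNatTrans.app c) hΘ'
    exact this
  let πA0 : A.obj (Over.mk (𝟙 V)) ⟶ a := pullbackMap ha (ohom V (Over.mk (𝟙 V)))
  let ιA : a ⟶ A.obj (Over.mk (𝟙 V)) := pullbackMapIdInv ha
  let πB0 : B.obj (Over.mk (𝟙 V)) ⟶ b := pullbackMap hb (ohom V (Over.mk (𝟙 V)))
  haveI hιA : 𝒳.p.IsHomLift (𝟙 V) ιA := pullbackMapIdInv_isHomLift ha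
  haveI hπB0 : 𝒳.p.IsHomLift (𝟙 V) πB0 := pullbackMap_id_isHomLift hb
  haveI hΘ0 : 𝒳.p.IsHomLift (𝟙 V) (Θ'.toNatTrans.app (Over.mk (𝟙 V))) :=
    app_isHomLift Θ' (Over.mk (𝟙 V))
  refine ⟨ιA ≫ Θ'.toNatTrans.app (Over.mk (𝟙 V)) ≫ πB0, inferInstance, ?_⟩
  intro V' g hg a' κ hκ
  let c : (Stk.sieveCat R).obj := ⟨Over.mk g, hg⟩
  obtain ⟨k, hk, hkf⟩ := exists_factor hfib g (κA c.obj) (hκA c.obj) (𝟙 V') κ
    (isHomLift_of_eq (Category.id_comp g).symm _ hκ)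
  have key : κA c.obj ≫ ιA ≫ Θ'.toNatTrans.app (Over.mk (𝟙 V)) ≫ πB0 = t c := by
    have e1 : A.map (toId V c.obj) ≫ πA0 = κA c.obj := eA _
    have e2 : πA0 ≫ ιA = 𝟙 _ := pullbackMap_comp_idInv ha
    have e3 := app_naturality Θ' (toId V c.obj)
    have e4 : B.map (toId V c.obj) ≫ πB0 = πB c.obj := eB _
    rw [← e1, Category.assoc, ← Category.assoc πA0, e2, Category.id_comp, ← Category.assoc, e3,
      Category.assoc, e4, hΘc c, hΨf]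
  have hθ : κ ≫ ιA ≫ Θ'.toNatTrans.app (Over.mk (𝟙 V)) ≫ πB0 = k ≫ t c := by
    rw [← hkf, Category.assoc, key]
  have := hcomp k (κA c.obj) (t c) (hRel c)
  rw [hkf] at this
  rw [hθ]
  exact this

section Cover

variable (J : GrothendieckTopology C)

theorem cover_s (hfib : IsFibGrpd 𝒳.p) (hconn : GerbH4.LocConn J 𝒳) {s : 𝒳.obj}
    (hT : Limits.IsTerminal (𝒳.p.obj s)) (a : 𝒳.obj) (U : C) (ha : 𝒳.p.obj a = U) :
    ∃ R ∈ J U, ∀ ⦃V : C⦄ (f : V ⟶ U), R f →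
      ∃ (x₀ : 𝒳.obj) (μ : x₀ ⟶ a) (_ : x₀ ⟶ s), 𝒳.p.IsHomLift f μ := by
  obtain ⟨sU, σ, hσ⟩ := hfib.exists_lift (hT.from U)
  have hsU : 𝒳.p.obj sU = U := IsHomLift.domain_eq 𝒳.p (hT.from U) σ
  obtain ⟨R, hR, hR'⟩ := hconn a sU U ha hsU
  refine ⟨R, hR, fun V f hf => ?_⟩
  obtain ⟨x₀, φ, ψ, hφ, -⟩ := hR' f hf
  exact ⟨x₀, φ, ψ ≫ σ, hφ⟩

theorem cover2 (hfib : IsFibGrpd 𝒳.p) (hconn : GerbH4.LocConn J 𝒳) {s : 𝒳.obj}
    (hT : Limits.IsTerminal (𝒳.p.obj s)) (a b : 𝒳.obj) (U : C) (ha : 𝒳.p.obj a = U)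
    (hb : 𝒳.p.obj b = U) :
    ∃ R ∈ J U, ∀ ⦃V : C⦄ (f : V ⟶ U), R f →
      ∃ (x₀ : 𝒳.obj) (μ : x₀ ⟶ a) (ν : x₀ ⟶ b) (_ : x₀ ⟶ s),
        𝒳.p.IsHomLift f μ ∧ 𝒳.p.IsHomLift f ν := by
  obtain ⟨R₁, hR₁, h₁⟩ := hconn a b U ha hb
  obtain ⟨R₂, hR₂, h₂⟩ := cover_s J hfib hconn hT a U ha
  refine ⟨R₁ ⊓ R₂, J.intersection_covering hR₁ hR₂, fun V f hf => ?_⟩
  obtain ⟨x₀, φ, ψ, hφ, hψ⟩ := h₁ f hf.1
  obtain ⟨x₁, μ, c, hμ⟩ := h₂ f hf.2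
  obtain ⟨k, -, -⟩ := exists_factor hfib f μ hμ (𝟙 V) φ
    (isHomLift_of_eq (Category.id_comp f).symm _ hφ)
  exact ⟨x₀, φ, ψ, k ≫ c, hφ, hψ⟩

end Cover

end Groth.Agent.Lib.GerbGlueH4
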