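import Mathlib
import Groth.Prelude.Def_AlgSt
import Groth.Agent.Lib.FibCat_helper6

/-!
# The topology inherited by a category fibred in groupoids
-/

set_option autoImplicit false

universe v₂ u₂ v u

open CategoryTheory FibCat

namespace Groth.Agent.StkTop

open Groth.Agent.Lib.FibCat_helper6

variable {C : Type u} [Category.{v} C] {𝒳 : Type u₂} [Category.{v₂} 𝒳] (p : 𝒳 ⥤ C)

/-- Key fact: for `p` fibred in groupoids, the pullback of the pushed-forward sieve is contained in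
the pushforward of the pulled-back sieve. -/
lemma pullback_functorPushforward_le (hp : IsFibGrpd p) {X Y : 𝒳} (S : Sieve X) (f : Y ⟶ X) :
    (S.functorPushforward p).pullback (p.map f) ≤ (S.pullback f).functorPushforward p := by
  intro V g hg
  obtain ⟨z, s, h, hs, hgh⟩ := hg
  -- lift `h` to `z' ⟶ z`
  obtain ⟨z', ζ, hζ⟩ := hp.exists_lift (x := z) h
  -- lift `g` to `y' ⟶ Y`
  obtain ⟨y', ψ, hψ⟩ := hp.exists_lift (x := Y) g
  have hφ : p.IsHomLift (g ≫ p.map f) (ζ ≫ s) := by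
    rw [hgh]
    infer_instance
  have hψf : p.IsHomLift (g ≫ p.map f) (ψ ≫ f) := inferInstance
  have hcart : p.IsStronglyCartesian (g ≫ p.map f) (ψ ≫ f) :=
    isStronglyCartesian_of_isFibGrpd hp _ _
  -- `ζ ≫ s = χ ≫ ψ ≫ f` with `χ` over the identity
  have hh : g ≫ p.map f = 𝟙 V ≫ g ≫ p.map f := by simp
  let χ : z' ⟶ y' := Functor.IsStronglyCartesian.map p (g ≫ p.map f) (ψ ≫ f) hh (ζ ≫ s)
  have hχ : p.IsHomLift (𝟙 V) χ :=
    Functor.IsStronglyCartesian.map_isHomLift p (g ≫ p.map f) (ψ ≫ f) hh (ζ ≫ s)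
  have hfac : χ ≫ ψ ≫ f = ζ ≫ s :=
    Functor.IsStronglyCartesian.fac p (g ≫ p.map f) (ψ ≫ f) hh (ζ ≫ s)
  have hiso : IsIso χ := isIso_of_isFibGrpd_id hp (R := V) χ
  have hmem : S (ψ ≫ f) := by
    have : ψ ≫ f = inv χ ≫ ζ ≫ s := by rw [← hfac, IsIso.inv_hom_id_assoc]
    rw [this]
    exact S.downward_closed (S.downward_closed hs ζ) (inv χ)
  have hdom : p.obj y' = V := IsHomLift.domain_eq p g ψ
  refine ⟨y', ψ, eqToHom hdom.symm, hmem, ?_⟩
  have := IsHomLift.fac p g ψ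
  simpa using this

theorem mem_restrictedTopology_iff (hp : IsFibGrpd p) (J : GrothendieckTopology C) {x : 𝒳}
    (S : Sieve x) :
    S ∈ p.restrictedTopology J x ↔ S.functorPushforward p ∈ J (p.obj x) := by
  refine ⟨fun hS => ?_, Functor.mem_restrictedTopology_of_functorPushforward_mem⟩
  change (Precoverage.comap p J.toPrecoverage).Saturate x S at hS
  induction hS with
  | of X R hR =>
    rw [← Sieve.generate_map_eq_functorPushforward]
    exact hR
  | top X =>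
    convert J.top_mem (p.obj X)
    rw [eq_top_iff]
    intro V g _
    exact ⟨X, 𝟙 X, g, trivial, by simp⟩
  | pullback X S _ Y f ih =>
    exact J.superset_covering (pullback_functorPushforward_le p hp S f)
      (J.pullback_stable (p.map f) ih)
  | transitive X S R _ _ ih1 ih2 =>
    refine J.transitive ih1 _ ?_
    intro V g hg
    obtain ⟨z, s, h, hs, rfl⟩ := hg
    refine J.superset_covering ?_ (J.pullback_stable h (ih2 hs))
    intro W k hk
    obtain ⟨w, r', h', hr', hkh⟩ := hk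
    refine ⟨w, r' ≫ s, h', hr', ?_⟩
    simp only [Sieve.pullback_apply] at *
    rw [Functor.map_comp, ← Category.assoc h', ← hkh, Category.assoc]


/-- For `p` fibred in groupoids, a morphism whose image lies in the pushed-forward sieve lies in
the sieve. -/
lemma functorPushforward_map_iff (hp : IsFibGrpd p) {X Y : 𝒳} (S : Sieve X) (ψ : Y ⟶ X) :
    (S.functorPushforward p).arrows (p.map ψ) ↔ S.arrows ψ := by
  refine ⟨fun hg => ?_, fun h => Sieve.image_mem_functorPushforward p S h⟩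
  obtain ⟨z, s, h, hs, hgh⟩ := hg
  obtain ⟨z', ζ, hζ⟩ := hp.exists_lift (x := z) h
  have hφ : p.IsHomLift (p.map ψ) (ζ ≫ s) := by
    rw [hgh]
    infer_instance
  have hcart : p.IsStronglyCartesian (p.map ψ) ψ := hp.isStronglyCartesian ψ
  have hh : p.map ψ = 𝟙 _ ≫ p.map ψ := by simp
  let χ : z' ⟶ Y := Functor.IsStronglyCartesian.map p (p.map ψ) ψ hh (ζ ≫ s)
  have hχ : p.IsHomLift (𝟙 _) χ :=
    Functor.IsStronglyCartesian.map_isHomLift p (p.map ψ) ψ hh (ζ ≫ s)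
  have hfac : χ ≫ ψ = ζ ≫ s :=
    Functor.IsStronglyCartesian.fac p (p.map ψ) ψ hh (ζ ≫ s)
  have hiso : IsIso χ := isIso_of_isFibGrpd_id hp (R := p.obj Y) χ
  have : ψ = inv χ ≫ ζ ≫ s := by rw [← hfac, IsIso.inv_hom_id_assoc]
  rw [this]
  exact S.downward_closed (S.downward_closed hs ζ) (inv χ)

section Functoriality

universe w

variable {𝒴 : Type*} [Category 𝒴] (q : 𝒴 ⥤ C) (F : 𝒳 ⥤ 𝒴)

lemma isHomLift_map_of_comp {R S : C} {a b : 𝒳} (f : R ⟶ S) (φ : a ⟶ b)
    [h : (F ⋙ q).IsHomLift f φ] : q.IsHomLift f (F.map φ) := by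
  cases h
  show q.IsHomLift (q.map (F.map φ)) (F.map φ)
  infer_instance

/-- A functor over `C` between categories fibred in groupoids preserves covers for the inherited
topologies. -/
theorem coverPreserving (hp : IsFibGrpd p) (hq : IsFibGrpd q) (hF : F ⋙ q = p)
    (J : GrothendieckTopology C) :
    CoverPreserving (p.restrictedTopology J) (q.restrictedTopology J) F := by
  subst hF
  refine ⟨fun {x S} hS => ?_⟩
  rw [mem_restrictedTopology_iff q hq J, ← Sieve.functorPushforward_comp]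
  exact (mem_restrictedTopology_iff (F ⋙ q) hp J S).1 hS

/-- A functor over `C` between categories fibred in groupoids is cocontinuous for the inherited
topologies. -/
theorem isCocontinuous (hp : IsFibGrpd p) (hq : IsFibGrpd q) (hF : F ⋙ q = p)
    (J : GrothendieckTopology C) :
    F.IsCocontinuous (p.restrictedTopology J) (q.restrictedTopology J) := by
  subst hF
  refine ⟨fun {x S} hS => ?_⟩
  rw [mem_restrictedTopology_iff (F ⋙ q) hp J]
  have hT := (mem_restrictedTopology_iff q hq J S).1 hS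
  refine J.superset_covering ?_ hT
  intro V g hg
  obtain ⟨y', ψ, hψ⟩ := hp.exists_lift (x := x) (show V ⟶ (F ⋙ q).obj x from g)
  have hdom : (F ⋙ q).obj y' = V := IsHomLift.domain_eq (F ⋙ q) g ψ
  have hfac := IsHomLift.fac (F ⋙ q) g ψ
  have hmem : (S.functorPushforward q).arrows (q.map (F.map ψ)) := by
    have : q.map (F.map ψ) = eqToHom hdom ≫ g := by
      have := IsHomLift.fac' (F ⋙ q) g ψ
      simpa using this
    rw [this]
    exact (S.functorPushforward q).downward_closed hg _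
  have hS' : S.arrows (F.map ψ) := (functorPushforward_map_iff q hq S (F.map ψ)).1 hmem
  refine ⟨y', ψ, eqToHom hdom.symm, hS', ?_⟩
  simpa using hfac

/-- A functor over `C` between categories fibred in groupoids preserves compatible families. -/
theorem compatiblePreserving (hp : IsFibGrpd p) (hq : IsFibGrpd q) (hF : F ⋙ q = p)
    (K : GrothendieckTopology 𝒴) : CompatiblePreserving.{w} K F := by
  subst hF
  constructor
  intro ℱ Z T x hx Y₁ Y₂ X f₁ f₂ g₁ g₂ hg₁ hg₂ e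
  -- lifts of the images of `f₁`, `f₂`
  obtain ⟨z₁, ζ₁, hζ₁⟩ := hp.exists_lift (x := Y₁) (show q.obj X ⟶ (F ⋙ q).obj Y₁ from q.map f₁)
  obtain ⟨z₂, ζ₂, hζ₂⟩ := hp.exists_lift (x := Y₂) (show q.obj X ⟶ (F ⋙ q).obj Y₂ from q.map f₂)
  have hFζ₁ : q.IsHomLift (q.map f₁) (F.map ζ₁) := isHomLift_map_of_comp q F _ ζ₁
  have hFζ₂ : q.IsHomLift (q.map f₂) (F.map ζ₂) := isHomLift_map_of_comp q F _ ζ₂
  have hc₁ : q.IsStronglyCartesian (q.map f₁) (F.map ζ₁) :=
    isStronglyCartesian_of_isFibGrpd hq _ _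
  have hc₂ : q.IsStronglyCartesian (q.map f₂) (F.map ζ₂) :=
    isStronglyCartesian_of_isFibGrpd hq _ _
  have hh₁ : q.map f₁ = 𝟙 _ ≫ q.map f₁ := by simp
  have hh₂ : q.map f₂ = 𝟙 _ ≫ q.map f₂ := by simp
  let χ₁ : X ⟶ F.obj z₁ := Functor.IsStronglyCartesian.map q (q.map f₁) (F.map ζ₁) hh₁ f₁
  have hχ₁ : q.IsHomLift (𝟙 _) χ₁ :=
    Functor.IsStronglyCartesian.map_isHomLift q (q.map f₁) (F.map ζ₁) hh₁ f₁
  have hfac₁ : χ₁ ≫ F.map ζ₁ = f₁ :=
    Functor.IsStronglyCartesian.fac q (q.map f₁) (F.map ζ₁) hh₁ f₁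
  let χ₂ : X ⟶ F.obj z₂ := Functor.IsStronglyCartesian.map q (q.map f₂) (F.map ζ₂) hh₂ f₂
  have hχ₂ : q.IsHomLift (𝟙 _) χ₂ :=
    Functor.IsStronglyCartesian.map_isHomLift q (q.map f₂) (F.map ζ₂) hh₂ f₂
  have hfac₂ : χ₂ ≫ F.map ζ₂ = f₂ :=
    Functor.IsStronglyCartesian.fac q (q.map f₂) (F.map ζ₂) hh₂ f₂
  -- compare `ζ₁ ≫ g₁` and `ζ₂ ≫ g₂`
  have hbase : q.map f₁ ≫ (F ⋙ q).map g₁ = q.map f₂ ≫ (F ⋙ q).map g₂ := by
    have := congrArg q.map e
    simpa using this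
  have hl₁ : (F ⋙ q).IsHomLift (q.map f₂ ≫ (F ⋙ q).map g₂) (ζ₁ ≫ g₁) := by
    rw [← hbase]
    infer_instance
  have hl₂ : (F ⋙ q).IsHomLift (q.map f₂ ≫ (F ⋙ q).map g₂) (ζ₂ ≫ g₂) := inferInstance
  have hc : (F ⋙ q).IsStronglyCartesian (q.map f₂ ≫ (F ⋙ q).map g₂) (ζ₂ ≫ g₂) :=
    isStronglyCartesian_of_isFibGrpd hp _ _
  have hh : q.map f₂ ≫ (F ⋙ q).map g₂ = 𝟙 _ ≫ q.map f₂ ≫ (F ⋙ q).map g₂ := by simp
  let θ : z₁ ⟶ z₂ := Functor.IsStronglyCartesian.map (F ⋙ q) _ (ζ₂ ≫ g₂) hh (ζ₁ ≫ g₁)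
  have hθ : (F ⋙ q).IsHomLift (𝟙 (q.obj X)) θ :=
    Functor.IsStronglyCartesian.map_isHomLift (F ⋙ q) _ (ζ₂ ≫ g₂) hh (ζ₁ ≫ g₁)
  have hfacθ : θ ≫ ζ₂ ≫ g₂ = ζ₁ ≫ g₁ :=
    Functor.IsStronglyCartesian.fac (F ⋙ q) _ (ζ₂ ≫ g₂) hh (ζ₁ ≫ g₁)
  have hFθ : q.IsHomLift (𝟙 (q.obj X)) (F.map θ) := isHomLift_map_of_comp q F (𝟙 (q.obj X)) θ
  -- `χ₁ ≫ F θ = χ₂`
  have hcF : q.IsStronglyCartesian (q.map f₂ ≫ (F ⋙ q).map g₂) (F.map (ζ₂ ≫ g₂)) := by
    have : q.IsHomLift (q.map f₂ ≫ (F ⋙ q).map g₂) (F.map (ζ₂ ≫ g₂)) :=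
      isHomLift_map_of_comp q F _ _
    exact isStronglyCartesian_of_isFibGrpd hq _ _
  have hl : q.IsHomLift (𝟙 (q.obj X)) (χ₁ ≫ F.map θ) := by
    have : q.IsHomLift (𝟙 (q.obj X) ≫ 𝟙 (q.obj X)) (χ₁ ≫ F.map θ) := inferInstance
    simpa using this
  have hχ : χ₁ ≫ F.map θ = χ₂ := by
    refine Functor.IsStronglyCartesian.ext q (q.map f₂ ≫ (F ⋙ q).map g₂) (F.map (ζ₂ ≫ g₂))
      (𝟙 (q.obj X)) ?_
    rw [Category.assoc, ← F.map_comp, hfacθ, F.map_comp, ← Category.assoc, hfac₁, e,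
      F.map_comp, ← Category.assoc, hfac₂]
  have hcomp := hx ζ₁ (θ ≫ ζ₂) hg₁ hg₂ (by rw [Category.assoc, hfacθ])
  have e₁ : f₁ = χ₁ ≫ F.map ζ₁ := hfac₁.symm
  have e₂ : f₂ = χ₁ ≫ F.map (θ ≫ ζ₂) := by
    rw [F.map_comp, ← Category.assoc, hχ, hfac₂]
  have hcomp' : ℱ.obj.map (F.map ζ₁).op (x g₁ hg₁) =
      ℱ.obj.map (F.map (θ ≫ ζ₂)).op (x g₂ hg₂) := hcomp
  have h₁ : ℱ.obj.map f₁.op (x g₁ hg₁) =
      ℱ.obj.map χ₁.op (ℱ.obj.map (F.map ζ₁).op (x g₁ hg₁)) := by
    rw [← hfac₁, op_comp, Functor.map_comp]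
    rfl
  have h₂ : ℱ.obj.map f₂.op (x g₂ hg₂) =
      ℱ.obj.map χ₁.op (ℱ.obj.map (F.map (θ ≫ ζ₂)).op (x g₂ hg₂)) := by
    rw [e₂, op_comp, Functor.map_comp]
    rfl
  rw [h₁, h₂, hcomp']

/-- A functor over `C` between categories fibred in groupoids is continuous for the inherited
topologies. -/
theorem isContinuous {𝒴 : Type u₂} [Category.{v₂} 𝒴] (q : 𝒴 ⥤ C) (F : 𝒳 ⥤ 𝒴)
    (hp : IsFibGrpd p) (hq : IsFibGrpd q) (hF : F ⋙ q = p)
    (J : GrothendieckTopology C) :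
    F.IsContinuous (p.restrictedTopology J) (q.restrictedTopology J) :=
  Functor.isContinuous_of_coverPreserving (compatiblePreserving p q F hp hq hF _)
    (coverPreserving p q F hp hq hF J)

end Functoriality


section OverPost

theorem over_post_faithful (hp : IsFibGrpd p) (x : 𝒳) :
    (Over.post p : Over x ⥤ Over (p.obj x)).Faithful := by
  refine ⟨fun {a b} f g h => ?_⟩
  have hl : p.map f.left = p.map g.left := congrArg CommaMorphism.left h
  have hc : p.IsStronglyCartesian (p.map b.hom) b.hom := hp.isStronglyCartesian b.hom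
  have h1 : p.IsHomLift (p.map f.left) f.left := inferInstance
  have h2 : p.IsHomLift (p.map f.left) g.left := by
    rw [hl]
    infer_instance
  apply Over.OverMorphism.ext
  refine Functor.IsStronglyCartesian.ext p (p.map b.hom) b.hom (p.map f.left) ?_
  rw [Over.w f, Over.w g]

theorem over_post_full (hp : IsFibGrpd p) (x : 𝒳) :
    (Over.post p : Over x ⥤ Over (p.obj x)).Full := by
  refine ⟨fun {a b} h => ?_⟩
  have hc : p.IsStronglyCartesian (p.map b.hom) b.hom := hp.isStronglyCartesian b.hom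
  have hw : p.map a.hom = h.left ≫ p.map b.hom := (Over.w h).symm
  have hl : p.IsHomLift (p.map a.hom) a.hom := inferInstance
  let ψ : a.left ⟶ b.left := Functor.IsStronglyCartesian.map p (p.map b.hom) b.hom hw a.hom
  have hψ : p.IsHomLift h.left ψ :=
    Functor.IsStronglyCartesian.map_isHomLift p (p.map b.hom) b.hom hw a.hom
  have hfac : ψ ≫ b.hom = a.hom :=
    Functor.IsStronglyCartesian.fac p (p.map b.hom) b.hom hw a.hom
  refine ⟨Over.homMk ψ hfac, ?_⟩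
  apply Over.OverMorphism.ext
  exact (IsHomLift.eq_of_isHomLift p h.left ψ).symm

theorem over_post_essSurj (hp : IsFibGrpd p) (x : 𝒳) :
    (Over.post p : Over x ⥤ Over (p.obj x)).EssSurj := by
  refine ⟨fun b => ?_⟩
  obtain ⟨y, ψ, hψ⟩ := hp.exists_lift (x := x) b.hom
  have hdom : p.obj y = b.left := IsHomLift.domain_eq p b.hom ψ
  refine ⟨Over.mk ψ, ⟨Over.isoMk (eqToIso hdom) ?_⟩⟩
  have := IsHomLift.fac' p b.hom ψ
  change eqToHom hdom ≫ b.hom = p.map ψ
  simpa using this.symm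

theorem over_post_isEquivalence (hp : IsFibGrpd p) (x : 𝒳) :
    (Over.post p : Over x ⥤ Over (p.obj x)).IsEquivalence := by
  have := over_post_faithful p hp x
  have := over_post_full p hp x
  have := over_post_essSurj p hp x
  exact { }

theorem mem_over_iff (hp : IsFibGrpd p) (J : GrothendieckTopology C) (x : 𝒳) (a : Over x)
    (S : Sieve a) :
    S ∈ (p.restrictedTopology J).over x a ↔
      S.functorPushforward (Over.post p) ∈ (J.over (p.obj x)) ((Over.post p).obj a) := by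
  rw [GrothendieckTopology.mem_over_iff, GrothendieckTopology.mem_over_iff,
    Sieve.overEquiv_functorPushforward_post, mem_restrictedTopology_iff p hp J]
  rfl

end OverPost

end Groth.Agent.StkTop
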