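import Mathlib
import Groth.Prelude.Def_AlgSt
import Groth.Prelude.Def_FibCat2
import Groth.Agent.Lib.StkTop_helper9

/-!
# Restriction functors along equivalences, strictification (lead) — part A

General lemmas on categories fibred in groupoids and on `Stk.restr`:
* `exists_strictify`: a functor to a category fibred in groupoids lying over `T` up to a natural
  isomorphism can be replaced by an isomorphic one lying strictly over `T`;
* `restr_isEquivalence_of_isEquivalence`: restriction along a functor over `C` which is an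
  equivalence of the underlying categories is an equivalence, for a target fibred in groupoids;
* `restr_isEquivalence_of_square`, `lift_isEquivalence`.
-/

set_option autoImplicit false
set_option linter.unusedSimpArgs false
set_option linter.unusedVariables false
set_option linter.unusedSectionVars false
set_option linter.style.longLine false
set_option linter.unnecessarySimpa false
set_option linter.style.haveILetI false
set_option maxHeartbeats 1600000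
set_option backward.isDefEq.respectTransparency false
set_option backward.isDefEq.respectTransparency.types false
set_option backward.defeqAttrib.useBackward true

universe v₅ u₅ v₄ u₄ v₃ u₃ v₂ u₂ v₁ u₁ v u

open CategoryTheory CategoryTheory.Functor FibCat

namespace Groth.Agent.Lib.StkFib

section Plain

variable {B : Type u₁} [Category.{v₁} B] {E : Type u₂} [Category.{v₂} E]

theorem lift_comp (p : E ⥤ B) {R S T : B} {a b c : E} (f : R ⟶ S) (g : S ⟶ T) (φ : a ⟶ b)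
    (ψ : b ⟶ c) (h1 : p.IsHomLift f φ) (h2 : p.IsHomLift g ψ) :
    p.IsHomLift (f ≫ g) (φ ≫ ψ) := by
  haveI := h1
  haveI := h2
  infer_instance

theorem lift_of_eq (p : E ⥤ B) {R S : B} {a b : E} {f f' : R ⟶ S} (h : f = f') (φ : a ⟶ b)
    (h1 : p.IsHomLift f φ) : p.IsHomLift f' φ := h ▸ h1

theorem lift_id_of_eq (p : E ⥤ B) {R R' : B} (h : R = R') {a b : E} (φ : a ⟶ b)
    (h1 : p.IsHomLift (𝟙 R) φ) : p.IsHomLift (𝟙 R') φ := by
  subst h
  exact h1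

theorem lift_id_comp (p : E ⥤ B) (R : B) {a b c : E} (φ : a ⟶ b) (ψ : b ⟶ c)
    (h1 : p.IsHomLift (𝟙 R) φ) (h2 : p.IsHomLift (𝟙 R) ψ) : p.IsHomLift (𝟙 R) (φ ≫ ψ) := by
  haveI := h1
  haveI := h2
  infer_instance

theorem lift_of_eq_map (p : E ⥤ B) {a b : E} (φ : a ⟶ b) (g : p.obj a ⟶ p.obj b)
    (h : p.map φ = g) : p.IsHomLift g φ := by
  subst h
  infer_instance

theorem lift_map_of_eq {p p' : E ⥤ B} (h : p' = p) {a b : E} (u : a ⟶ b) :
    p.IsHomLift (p'.map u) u := by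
  subst h
  infer_instance

theorem lift_of_lift_comp_eqToHom (p : E ⥤ B) {R S S' : B} {a b : E} (f : R ⟶ S) (φ : a ⟶ b)
    (h : S = S') (hφ : p.IsHomLift (f ≫ eqToHom h) φ) : p.IsHomLift f φ :=
  (IsHomLift.lift_comp_eqToHom_iff p f φ h).1 hφ

theorem lift_comp_eqToHom_of_lift (p : E ⥤ B) {R S S' : B} {a b : E} (f : R ⟶ S) (φ : a ⟶ b)
    (h : S = S') (hφ : p.IsHomLift f φ) : p.IsHomLift (f ≫ eqToHom h) φ :=
  (IsHomLift.lift_comp_eqToHom_iff p f φ h).2 hφ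

theorem map_eq_eqToHom_of_lift_id (p : E ⥤ B) {R : B} {a b : E} (φ : a ⟶ b)
    (h : p.IsHomLift (𝟙 R) φ) (hab : p.obj a = p.obj b) : p.map φ = eqToHom hab := by
  haveI := h
  rw [IsHomLift.fac' p (𝟙 R) φ]
  simp

theorem lift_id_of_map_eq_eqToHom (p : E ⥤ B) {a b : E} (φ : a ⟶ b) (hab : p.obj a = p.obj b)
    (h : p.map φ = eqToHom hab) {R : B} (hR : p.obj a = R) : p.IsHomLift (𝟙 R) φ := by
  apply IsHomLift.of_fac' p (𝟙 R) φ hR (hab.symm.trans hR)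
  rw [h]
  simp

theorem isHomLift_comp_of {B' : Type u₃} [Category.{v₃} B'] (p : E ⥤ B') (q : B' ⥤ B)
    {R S : B} {R' S' : B'} (f : R ⟶ S) (g : R' ⟶ S') {a b : E} (φ : a ⟶ b)
    (h1 : p.IsHomLift g φ) (h2 : q.IsHomLift f g) : (p ⋙ q).IsHomLift f φ := by
  cases h1
  cases h2
  exact IsHomLift.map (p ⋙ q) φ

theorem isHomLift_comp_id {B' : Type u₃} [Category.{v₃} B'] (p : E ⥤ B') (q : B' ⥤ B)
    {R' : B'} {a b : E} (φ : a ⟶ b) (h1 : p.IsHomLift (𝟙 R') φ) :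
    (p ⋙ q).IsHomLift (𝟙 (q.obj R')) φ :=
  isHomLift_comp_of p q _ _ φ h1 (IsHomLift.id rfl)

theorem isHomLift_of_comp {B' : Type u₃} [Category.{v₃} B'] (p : E ⥤ B') (q : B' ⥤ B)
    {R S : B} (f : R ⟶ S) {a b : E} (φ : a ⟶ b) (h : (p ⋙ q).IsHomLift f φ) :
    q.IsHomLift f (p.map φ) := by
  cases h
  exact IsHomLift.map q (p.map φ)

theorem theta_nat_aux {X X' Y Y' Z Z' : B} (u : X ⟶ X') (hX : X = Y) (hX' : X' = Y') (v : Y ⟶ Y')
    (hu : u = eqToHom hX ≫ v ≫ eqToHom hX'.symm) (c : Y ⟶ Z) (c' : Y' ⟶ Z') (w : Z ⟶ Z')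
    (hv : v ≫ c' = c ≫ w) : u ≫ (eqToHom hX' ≫ c') = (eqToHom hX ≫ c) ≫ w := by
  subst hX hX'
  simp only [eqToHom_refl, Category.id_comp, Category.comp_id] at hu ⊢
  rw [hu]
  exact hv

theorem eqToHom_conj_aux {X X' Y Y' : B} (u : X ⟶ X') (hX : X = Y) (hX' : X' = Y') (v : Y ⟶ Y')
    (hu : u = eqToHom hX ≫ v ≫ eqToHom hX'.symm) : u ≫ eqToHom hX' = eqToHom hX ≫ v := by
  subst hX hX'
  simpa using hu

variable {p : E ⥤ B}

theorem sc_of (hp : IsFibGrpd p) {R S : B} (f : R ⟶ S) {a b : E} (φ : a ⟶ b)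
    (h : p.IsHomLift f φ) : p.IsStronglyCartesian f φ := by
  haveI := h
  exact Groth.Agent.Lib.FibCat_helper6.isStronglyCartesian_of_isFibGrpd hp f φ

theorem isIso_of (hp : IsFibGrpd p) {R S : B} (f : R ⟶ S) (hf : IsIso f) {a b : E} (φ : a ⟶ b)
    (h : p.IsHomLift f φ) : IsIso φ := by
  haveI := sc_of hp f φ h
  haveI := hf
  exact Functor.IsStronglyCartesian.isIso_of_base_isIso p f φ

theorem exists_unique_map (hp : IsFibGrpd p) {a b a' : E} (φ : a ⟶ b) (φ' : a' ⟶ b)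
    (g : p.obj a' ⟶ p.obj a) (h : g ≫ p.map φ = p.map φ') :
    ∃ χ : a' ⟶ a, (p.map χ = g ∧ χ ≫ φ = φ') ∧
      ∀ χ' : a' ⟶ a, p.map χ' = g → χ' ≫ φ = φ' → χ' = χ := by
  haveI := hp.isStronglyCartesian φ
  obtain ⟨χ, ⟨hχ1, hχ2⟩, huniq⟩ :=
    Functor.IsStronglyCartesian.universal_property p (p.map φ) φ g (p.map φ') h.symm φ'
  haveI := hχ1
  refine ⟨χ, ⟨(IsHomLift.eq_of_isHomLift p g χ).symm, hχ2⟩, fun χ' h1 h2 => ?_⟩
  exact huniq χ' ⟨lift_of_eq_map p χ' g h1, h2⟩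

theorem exists_lift' (hp : IsFibGrpd p) {x : E} {V : B} (f : V ⟶ p.obj x) :
    ∃ (y : E) (φ : y ⟶ x) (e : p.obj y = V), p.map φ = eqToHom e ≫ f := by
  obtain ⟨y, φ, hφ⟩ := hp.exists_lift f
  haveI := hφ
  refine ⟨y, φ, IsHomLift.domain_eq p f φ, ?_⟩
  have h := IsHomLift.fac' p f φ
  rw [h]
  simp

theorem comp_isFibGrpd {B' : Type u₃} [Category.{v₃} B'] (p : E ⥤ B') (q : B' ⥤ B)
    (hp : IsFibGrpd p) (hq : IsFibGrpd q) : IsFibGrpd (p ⋙ q) where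
  exists_lift := by
    intro x V f
    obtain ⟨b, φ₁, e₁, h₁⟩ := exists_lift' hq (x := p.obj x) f
    obtain ⟨y, φ₂, e₂, h₂⟩ := exists_lift' hp (x := x) φ₁
    refine ⟨y, φ₂, ?_⟩
    have ha : (p ⋙ q).obj y = V := by rw [Functor.comp_obj, e₂, e₁]
    apply IsHomLift.of_fac' (p ⋙ q) f φ₂ ha rfl
    rw [Functor.comp_map, h₂, Functor.map_comp, h₁, eqToHom_map]
    simp
  isStronglyCartesian := by
    intro y x φ
    refine { universal_property' := ?_ }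
    intro a' g φ' hφ'
    have hfac : g ≫ q.map (p.map φ) = q.map (p.map φ') :=
      IsHomLift.eq_of_isHomLift (p ⋙ q) (g ≫ (p ⋙ q).map φ) φ'
    obtain ⟨β, ⟨hβ1, hβ2⟩, hβu⟩ := exists_unique_map hq (p.map φ) (p.map φ') g hfac
    obtain ⟨χ, ⟨hχ1, hχ2⟩, hχu⟩ := exists_unique_map hp φ φ' β hβ2
    refine ⟨χ, ⟨lift_of_eq_map (p ⋙ q) χ g ?_, hχ2⟩, ?_⟩
    · show q.map (p.map χ) = g
      rw [hχ1, hβ1]
    · rintro χ' ⟨h1, h2⟩
      haveI := h1
      have h3 : q.map (p.map χ') = g :=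
        (IsHomLift.eq_of_isHomLift (p ⋙ q) g χ').symm
      have h4 : p.map χ' = β := hβu (p.map χ') h3 (by rw [← Functor.map_comp, h2])
      exact hχu χ' h4 h2

end Plain

section Strictify

variable {B : Type u₁} [Category.{v₁} B] {E : Type u₂} [Category.{v₂} E]
  {A : Type u₃} [Category.{v₃} A]

/-- Conjugate of a functor by a family of isomorphisms. -/
def conjFunctor (G' : A ⥤ E) (Go : A → E) (Ξ : ∀ a, Go a ≅ G'.obj a) : A ⥤ E where
  obj := Go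
  map {a b} m := (Ξ a).hom ≫ G'.map m ≫ (Ξ b).inv
  map_id a := by simp
  map_comp m n := by simp

/-- The conjugate functor is isomorphic to the original one. -/
def conjIso (G' : A ⥤ E) (Go : A → E) (Ξ : ∀ a, Go a ≅ G'.obj a) : conjFunctor G' Go Ξ ≅ G' :=
  NatIso.ofComponents Ξ (by intro a b m; simp [conjFunctor])

theorem exists_strictify {p : E ⥤ B} (hp : IsFibGrpd p) (T : A ⥤ B) (G' : A ⥤ E)
    (θ : G' ⋙ p ≅ T) :
    ∃ (G : A ⥤ E) (_ : G ⋙ p = T) (ξ : G ≅ G'),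
      ∀ a, p.IsHomLift (θ.inv.app a) (ξ.hom.app a) := by
  have h1 : ∀ a : A, ∃ (y : E) (φ : y ⟶ G'.obj a), p.IsHomLift (θ.inv.app a) φ :=
    fun a => hp.exists_lift (x := G'.obj a) (θ.inv.app a)
  choose Go Ξ hΞ using h1
  have hiso : ∀ a, IsIso (Ξ a) := fun a =>
    isIso_of hp (θ.inv.app a) inferInstance (Ξ a) (hΞ a)
  let Ξi : ∀ a, Go a ≅ G'.obj a := fun a => @asIso _ _ _ _ (Ξ a) (hiso a)
  have hΞinv : ∀ a, p.IsHomLift (θ.hom.app a) (Ξi a).inv := fun a => by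
    haveI : p.IsHomLift (θ.app a).symm.hom (Ξi a).hom := hΞ a
    exact IsHomLift.inv_lift_inv p (θ.app a).symm (Ξi a)
  have hlift : ∀ {a b : A} (m : a ⟶ b),
      p.IsHomLift (T.map m) ((Ξi a).hom ≫ G'.map m ≫ (Ξi b).inv) := by
    intro a b m
    have e : θ.inv.app a ≫ p.map (G'.map m) ≫ θ.hom.app b = T.map m := by
      have := θ.inv.naturality m
      calc θ.inv.app a ≫ p.map (G'.map m) ≫ θ.hom.app b
          = (θ.inv.app a ≫ (G' ⋙ p).map m) ≫ θ.hom.app b := by simp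
        _ = (T.map m ≫ θ.inv.app b) ≫ θ.hom.app b := by rw [this]
        _ = T.map m := by rw [Category.assoc, Iso.inv_hom_id_app, Category.comp_id]
    refine lift_of_eq p e _ ?_
    exact lift_comp p _ _ _ _ (hΞ a)
      (lift_comp p _ _ _ _ (IsHomLift.map p (G'.map m)) (hΞinv b))
  have hobj : ∀ a, (conjFunctor G' Go Ξi ⋙ p).obj a = T.obj a := fun a => by
    haveI := hΞ a
    exact IsHomLift.domain_eq p (θ.inv.app a) (Ξ a)
  have hw : conjFunctor G' Go Ξi ⋙ p = T := by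
    refine CategoryTheory.Functor.ext hobj ?_
    intro a b m
    haveI := hlift m
    exact IsHomLift.fac' p (T.map m) ((Ξi a).hom ≫ G'.map m ≫ (Ξi b).inv)
  exact ⟨conjFunctor G' Go Ξi, hw, conjIso G' Go Ξi, fun a => hΞ a⟩

theorem exists_based_strictify {C : Type u} [Category.{v} C] (ℰ : BasedCategory.{v₂, u₂} C)
    (hℰ : IsFibGrpd ℰ.p) (ℬ : BasedCategory.{v₃, u₃} C) (G' : ℬ.obj ⥤ ℰ.obj)
    (θ : G' ⋙ ℰ.p ≅ ℬ.p) :
    ∃ (G : ℬ ⥤ᵇ ℰ) (ξ : G.toFunctor ≅ G'),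
      ∀ b, ℰ.p.IsHomLift (θ.inv.app b) (ξ.hom.app b) := by
  obtain ⟨G, hG, ξ, hξ⟩ := exists_strictify hℰ ℬ.p G' θ
  exact ⟨⟨G, hG⟩, ξ, hξ⟩

end Strictify

section Based

variable {C : Type u} [Category.{v} C] {𝒜 : BasedCategory.{v₂, u₂} C}
  {ℬ : BasedCategory.{v₃, u₃} C}

theorem based_map_eq (F : 𝒜 ⥤ᵇ ℬ) {a b : 𝒜.obj} (m : a ⟶ b) :
    ℬ.p.map (F.toFunctor.map m) =
      eqToHom (F.w_obj a) ≫ 𝒜.p.map m ≫ eqToHom (F.w_obj b).symm :=
  Functor.congr_hom F.w m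

theorem basedFunctor_ext {F G : 𝒜 ⥤ᵇ ℬ} (h : F.toFunctor = G.toFunctor) : F = G := by
  obtain ⟨F, hF⟩ := F
  obtain ⟨G, hG⟩ := G
  dsimp only at h
  subst h
  rfl

theorem isIso_basedNatTrans {ℰ : BasedCategory.{v₄, u₄} C} (hℰ : IsFibGrpd ℰ.p) {F G : 𝒜 ⥤ᵇ ℰ}
    (α : F ⟶ G) : IsIso α := by
  haveI : ∀ a, IsIso (α.toNatTrans.app a) := fun a =>
    isIso_of hℰ (𝟙 (𝒜.p.obj a)) inferInstance _ (α.isHomLift' a)
  haveI : IsIso (X := F.toFunctor) α.toNatTrans := NatIso.isIso_of_isIso_app _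
  exact BasedNatIso.isIso_of_toNatTrans_isIso α

/-- The 2-morphism between two based functors with the same underlying functor. -/
def eqHom {ℰ : BasedCategory.{v₄, u₄} C} (F F' : 𝒜 ⥤ᵇ ℰ) (h : F.toFunctor = F'.toFunctor) :
    F ⟶ F' where
  toNatTrans := eqToHom h
  isHomLift' := fun a => by
    rw [eqToHom_app]
    exact IsHomLift.eqToHom_domain_lift_id _ (F.w_obj a)

theorem restr_faithful_of_essSurj (ι : 𝒜 ⥤ᵇ ℬ) (hι : ι.toFunctor.EssSurj)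
    (ℰ : BasedCategory.{v₄, u₄} C) : (Stk.restr ι ℰ).Faithful := by
  haveI := hι
  refine ⟨fun {G G'} α β h => ?_⟩
  apply BasedNatTrans.ext
  apply NatTrans.ext
  funext b
  have hb : ∀ a, α.toNatTrans.app (ι.toFunctor.obj a) = β.toNatTrans.app (ι.toFunctor.obj a) :=
    fun a => congrArg (fun γ => γ.toNatTrans.app a) h
  have h1 := α.toNatTrans.naturality (ι.toFunctor.objObjPreimageIso b).inv
  have h2 := β.toNatTrans.naturality (ι.toFunctor.objObjPreimageIso b).inv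
  haveI : IsIso (G'.toFunctor.map (ι.toFunctor.objObjPreimageIso b).inv) := inferInstance
  refine (cancel_mono (G'.toFunctor.map (ι.toFunctor.objObjPreimageIso b).inv)).1 ?_
  rw [← h1, ← h2, hb]

theorem restr_full_of_isEquivalence (ι : 𝒜 ⥤ᵇ ℬ) (hι : ι.toFunctor.IsEquivalence)
    (ℰ : BasedCategory.{v₄, u₄} C) : (Stk.restr ι ℰ).Full := by
  haveI := hι
  refine ⟨fun {G G'} γ => ?_⟩
  obtain ⟨α₀, hα₀⟩ := ((whiskeringLeft 𝒜.obj ℬ.obj ℰ.obj).obj ι.toFunctor).map_surjective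
    (X := G.toFunctor) (Y := G'.toFunctor) γ.toNatTrans
  have happ : ∀ a, α₀.app (ι.toFunctor.obj a) = γ.toNatTrans.app a :=
    fun a => NatTrans.congr_app hα₀ a
  have hl : ∀ b, ℰ.p.IsHomLift (𝟙 (ℬ.p.obj b)) (α₀.app b) := by
    intro b
    obtain ⟨a, ⟨e⟩⟩ : ∃ a, Nonempty (ι.toFunctor.obj a ≅ b) :=
      ⟨ι.toFunctor.objPreimage b, ⟨ι.toFunctor.objObjPreimageIso b⟩⟩
    have hnat : α₀.app b =
        G.toFunctor.map e.inv ≫ γ.toNatTrans.app a ≫ G'.toFunctor.map e.hom := by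
      have := α₀.naturality e.hom
      rw [← happ a, ← this, ← Category.assoc, ← Functor.map_comp, e.inv_hom_id,
        CategoryTheory.Functor.map_id, Category.id_comp]
    have h1 : ℰ.p.IsHomLift (ℬ.p.map e.inv) (G.toFunctor.map e.inv) := inferInstance
    have h2 : ℰ.p.IsHomLift (𝟙 (ℬ.p.obj (ι.toFunctor.obj a))) (γ.toNatTrans.app a) :=
      γ.isHomLift (ι.w_obj a).symm
    have h3 : ℰ.p.IsHomLift (ℬ.p.map e.hom) (G'.toFunctor.map e.hom) := inferInstance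
    have h4 := lift_comp ℰ.p _ _ _ _ h1 (lift_comp ℰ.p _ _ _ _ h2 h3)
    rw [hnat]
    refine lift_of_eq ℰ.p ?_ _ h4
    rw [Category.id_comp, ← Functor.map_comp, e.inv_hom_id, CategoryTheory.Functor.map_id]
  refine ⟨(⟨α₀, hl⟩ : BasedNatTrans G G'), ?_⟩
  apply BasedNatTrans.ext
  exact hα₀

theorem restr_essSurj_of_equiv (e : 𝒜.obj ≌ ℬ.obj) (hw : e.functor ⋙ ℬ.p = 𝒜.p)
    (ℰ : BasedCategory.{v₄, u₄} C) (hℰ : IsFibGrpd ℰ.p) :
    (Stk.restr (⟨e.functor, hw⟩ : 𝒜 ⥤ᵇ ℬ) ℰ).EssSurj := by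
  refine ⟨fun K => ?_⟩
  have hwobj : ∀ a, ℬ.p.obj (e.functor.obj a) = 𝒜.p.obj a := fun a => Functor.congr_obj hw a
  have hKι : K.toFunctor ⋙ ℰ.p = e.functor ⋙ ℬ.p := K.w.trans hw.symm
  have hobj : ∀ b, ℰ.p.obj (K.toFunctor.obj (e.inverse.obj b)) =
      ℬ.p.obj (e.functor.obj (e.inverse.obj b)) :=
    fun b => Functor.congr_obj hKι (e.inverse.obj b)
  let θ : (e.inverse ⋙ K.toFunctor) ⋙ ℰ.p ≅ ℬ.p :=
    NatIso.ofComponents (fun b => eqToIso (hobj b) ≪≫ ℬ.p.mapIso (e.counitIso.app b)) (by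
      intro b b' m
      have hv : ℬ.p.map (e.functor.map (e.inverse.map m)) ≫ ℬ.p.map (e.counit.app b') =
          ℬ.p.map (e.counit.app b) ≫ ℬ.p.map m :=
        (ℬ.p.map_comp _ _).symm.trans
          ((congrArg (fun t => ℬ.p.map t) (e.counit_naturality m)).trans (ℬ.p.map_comp _ _))
      exact theta_nat_aux (ℰ.p.map (K.toFunctor.map (e.inverse.map m))) (hobj b) (hobj b')
        (ℬ.p.map (e.functor.map (e.inverse.map m)))
        (Functor.congr_hom hKι (e.inverse.map m)) _ _ _ hv)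
  obtain ⟨G, ξ, hξ⟩ := exists_based_strictify ℰ hℰ ℬ (e.inverse ⋙ K.toFunctor) θ
  have hξ' : ∀ b, ℰ.p.IsHomLift (ℬ.p.map (e.counitInv.app b)) (ξ.hom.app b) := fun b => by
    have h : ℰ.p.IsHomLift (ℬ.p.map (e.counitInv.app b) ≫ eqToHom (hobj b).symm)
        (ξ.hom.app b) := hξ b
    exact lift_of_lift_comp_eqToHom ℰ.p _ _ _ h
  let ζ : e.functor ⋙ G.toFunctor ≅ K.toFunctor :=
    isoWhiskerLeft e.functor ξ ≪≫ (Functor.associator e.functor e.inverse K.toFunctor).symm ≪≫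
      isoWhiskerRight e.unitIso.symm K.toFunctor ≪≫ K.toFunctor.leftUnitor
  have hζ : ∀ a, ζ.hom.app a =
      ξ.hom.app (e.functor.obj a) ≫ K.toFunctor.map (e.unitInv.app a) := fun a => by
    show ξ.hom.app (e.functor.obj a) ≫ 𝟙 _ ≫ K.toFunctor.map (e.unitInv.app a) ≫ 𝟙 _ = _
    simp
  have hlift : ∀ a, ℰ.p.IsHomLift (𝟙 (𝒜.p.obj a)) (ζ.hom.app a) := fun a => by
    rw [hζ a]
    have h1 := hξ' (e.functor.obj a)
    have h0 : 𝒜.p.IsHomLift (ℬ.p.map (e.functor.map (e.unitInv.app a))) (e.unitInv.app a) :=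
      lift_map_of_eq hw (e.unitInv.app a)
    have h2 : ℰ.p.IsHomLift (ℬ.p.map (e.functor.map (e.unitInv.app a)))
        (K.toFunctor.map (e.unitInv.app a)) := by
      haveI := h0
      infer_instance
    have h3 := lift_comp ℰ.p _ _ _ _ h1 h2
    have h4 : ℬ.p.map (e.counitInv.app (e.functor.obj a)) ≫
        ℬ.p.map (e.functor.map (e.unitInv.app a)) = 𝟙 (ℬ.p.obj (e.functor.obj a)) :=
      (ℬ.p.map_comp _ _).symm.trans
        ((congrArg (fun t => ℬ.p.map t) (e.counitInv_functor_comp a)).trans (ℬ.p.map_id _))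
    exact lift_id_of_eq ℰ.p (hwobj a) _ (lift_of_eq ℰ.p h4 _ h3)
  exact ⟨G, ⟨BasedNatIso.mkNatIso ζ hlift⟩⟩

theorem restr_isEquivalence_of_isEquivalence (ι : 𝒜 ⥤ᵇ ℬ) (hι : ι.toFunctor.IsEquivalence)
    (ℰ : BasedCategory.{v₄, u₄} C) (hℰ : IsFibGrpd ℰ.p) : (Stk.restr ι ℰ).IsEquivalence := by
  haveI := hι
  haveI : (Stk.restr ι ℰ).Faithful := restr_faithful_of_essSurj ι inferInstance ℰ
  haveI : (Stk.restr ι ℰ).Full := restr_full_of_isEquivalence ι hι ℰ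
  haveI : (Stk.restr ι ℰ).EssSurj :=
    restr_essSurj_of_equiv ι.toFunctor.asEquivalence ι.w ℰ hℰ
  exact { }

theorem restr_isEquivalence_of_square {𝒜' : BasedCategory.{v₄, u₄} C}
    {ℬ' : BasedCategory.{v₅, u₅} C} (ι₁ : 𝒜 ⥤ᵇ ℬ) (π : ℬ ⥤ᵇ ℬ') (π' : 𝒜 ⥤ᵇ 𝒜')
    (ι₂ : 𝒜' ⥤ᵇ ℬ') (h : BasedFunctor.comp ι₁ π = BasedFunctor.comp π' ι₂)
    (𝒵 : BasedCategory.{v₁, u₁} C) (hπ : (Stk.restr π 𝒵).IsEquivalence)
    (hπ' : (Stk.restr π' 𝒵).IsEquivalence) (hι₂ : (Stk.restr ι₂ 𝒵).IsEquivalence) :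
    (Stk.restr ι₁ 𝒵).IsEquivalence := by
  have e1 : Stk.restr π 𝒵 ⋙ Stk.restr ι₁ 𝒵 = Stk.restr (BasedFunctor.comp ι₁ π) 𝒵 := rfl
  have e2 : Stk.restr ι₂ 𝒵 ⋙ Stk.restr π' 𝒵 = Stk.restr (BasedFunctor.comp π' ι₂) 𝒵 := rfl
  haveI : (Stk.restr π 𝒵 ⋙ Stk.restr ι₁ 𝒵).IsEquivalence := by
    rw [e1, h, ← e2]
    infer_instance
  exact Functor.isEquivalence_of_comp_left (Stk.restr π 𝒵) (Stk.restr ι₁ 𝒵)

end Based

section Lift

variable {PP : Type u₁} [Category.{v₁} PP] {QQ : Type u₂} [Category.{v₂} QQ]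

theorem lift_isEquivalence (Φ : PP ⥤ QQ) (hΦ : Φ.IsEquivalence) (P : ObjectProperty PP)
    (Q : ObjectProperty QQ) (h1 : ∀ a : P.FullSubcategory, Q ((P.ι ⋙ Φ).obj a))
    (h2 : ∀ (a : PP) (b : QQ), Q b → (Φ.obj a ≅ b) → P a) :
    (Q.lift (P.ι ⋙ Φ) h1).IsEquivalence := by
  haveI := hΦ
  haveI : (Q.lift (P.ι ⋙ Φ) h1).EssSurj := by
    refine ⟨fun b => ?_⟩
    exact ⟨⟨Φ.objPreimage b.obj, h2 _ b.obj b.property (Φ.objObjPreimageIso b.obj)⟩,
      ⟨Q.isoMk (Φ.objObjPreimageIso b.obj)⟩⟩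
  exact { }

end Lift

end Groth.Agent.Lib.StkFib
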