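import Mathlib
import Groth.Prelude.Def_StGerb
import Groth.Agent.Lib.GerbGlue_helper4
import Groth.Agent.Lib.StkFibA_lead

/-!
# Extension of natural families of automorphisms from a covering class of pairs (lead)

For a stack in groupoids `𝒮` over `(C, J)` and `U : C`, a family of automorphisms
`b y f : y ⟶ y` (over identities) indexed by pairs `(y, f : p y ⟶ U)`, defined and natural on a
class `D` of pairs that is closed under precomposition and locally contains every pair, extends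
uniquely to a natural family on all pairs.
-/

set_option autoImplicit false
set_option linter.unusedSimpArgs false
set_option linter.unusedVariables false
set_option linter.unusedSectionVars false
set_option linter.style.longLine false
set_option linter.unnecessarySimpa false
set_option linter.style.haveILetI false
set_option maxHeartbeats 1600000
set_option backward.isDefEq.respectTransparency false
set_option backward.isDefEq.respectTransparency.types false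
set_option backward.defeqAttrib.useBackward true

universe v₆ u₆ v₅ u₅ v₄ u₄ v₃ u₃ v₂ u₂ v₁ u₁ v u

open CategoryTheory FibCat Gerb Groth.Agent.Lib.StkFib Groth.Agent.Lib.GerbGlueH4

namespace Groth.Agent.Lib.GerbBand

variable {C : Type u} [Category.{v} C] (J : GrothendieckTopology C)
  {𝒮 : BasedCategory.{v₂, u₂} C} {U : C}

/-- A family is natural (and over identities) on the class `D` of pairs. -/
structure IsPartialNat (D : ∀ y : 𝒮.obj, (𝒮.p.obj y ⟶ U) → Prop)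
    (b : ∀ y : 𝒮.obj, (𝒮.p.obj y ⟶ U) → (y ⟶ y)) : Prop where
  lift : ∀ y f, D y f → 𝒮.p.IsHomLift (𝟙 (𝒮.p.obj y)) (b y f)
  nat : ∀ {y' y : 𝒮.obj} (φ : y' ⟶ y) (f : 𝒮.p.obj y ⟶ U), D y f →
    b y' (𝒮.p.map φ ≫ f) ≫ φ = φ ≫ b y f

/-- The class `D` of pairs is closed under precomposition and locally contains every pair. -/
structure IsCovering (D : ∀ y : 𝒮.obj, (𝒮.p.obj y ⟶ U) → Prop) : Prop where
  closed : ∀ {y' y : 𝒮.obj} (φ : y' ⟶ y) (f : 𝒮.p.obj y ⟶ U), D y f → D y' (𝒮.p.map φ ≫ f)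
  cover : ∀ (y : 𝒮.obj) (f : 𝒮.p.obj y ⟶ U), ∃ R ∈ J (𝒮.p.obj y),
    ∀ ⦃W : C⦄ (h : W ⟶ 𝒮.p.obj y), R h → ∀ (y' : 𝒮.obj) (κ : y' ⟶ y), 𝒮.p.IsHomLift h κ →
      D y' (𝒮.p.map κ ≫ f)

variable (hfib : IsFibGrpd 𝒮.p)
  (hst : ∀ ⦃V : C⦄ (R : Sieve V), R ∈ J V → Stk.IsStackFor R 𝒮)
  (D : ∀ y : 𝒮.obj, (𝒮.p.obj y ⟶ U) → Prop) (hD : IsCovering J D)

include hfib hst hD in
theorem stepA (b : ∀ y : 𝒮.obj, (𝒮.p.obj y ⟶ U) → (y ⟶ y)) (hb : IsPartialNat D b)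
    (y : 𝒮.obj) (f : 𝒮.p.obj y ⟶ U) :
    ∃ Θ : y ⟶ y, 𝒮.p.IsHomLift (𝟙 (𝒮.p.obj y)) Θ ∧ ∃ R ∈ J (𝒮.p.obj y),
      (∀ ⦃W : C⦄ (h : W ⟶ 𝒮.p.obj y), R h → ∀ (y' : 𝒮.obj) (κ : y' ⟶ y), 𝒮.p.IsHomLift h κ →
        D y' (𝒮.p.map κ ≫ f)) ∧
      ∀ ⦃W : C⦄ (g : W ⟶ 𝒮.p.obj y), R g → ∀ (a' : 𝒮.obj) (κ : a' ⟶ y), 𝒮.p.IsHomLift g κ →
        ∀ (a'' : 𝒮.obj) (h : a'' ⟶ a'), D a'' (𝒮.p.map (h ≫ κ) ≫ f) →
          h ≫ κ ≫ Θ = b a'' (𝒮.p.map (h ≫ κ) ≫ f) ≫ h ≫ κ := by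
  obtain ⟨R, hR, hcov⟩ := hD.cover y f
  haveI : (Stk.resSieve R 𝒮).IsEquivalence := hst R hR
  have hfull : (Stk.resSieve R 𝒮).Full := inferInstance
  have hex : ∀ ⦃V' : C⦄ (g : V' ⟶ 𝒮.p.obj y), R g → ∀ (a' : 𝒮.obj) (κ : a' ⟶ y),
      𝒮.p.IsHomLift g κ → ∃ t : a' ⟶ y, 𝒮.p.IsHomLift g t ∧
        ∀ (a'' : 𝒮.obj) (h : a'' ⟶ a'), D a'' (𝒮.p.map (h ≫ κ) ≫ f) →
          h ≫ t = b a'' (𝒮.p.map (h ≫ κ) ≫ f) ≫ h ≫ κ := by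
    intro V' g hg a' κ hκ
    have hD0 : D a' (𝒮.p.map κ ≫ f) := hcov g hg a' κ hκ
    have e : 𝒮.p.obj a' = V' := by
      haveI := hκ
      exact IsHomLift.domain_eq 𝒮.p g κ
    refine ⟨b a' (𝒮.p.map κ ≫ f) ≫ κ, ?_, ?_⟩
    · exact lift_of_eq 𝒮.p (Category.id_comp g) _
        (lift_comp 𝒮.p _ _ _ _ (lift_id_of_eq 𝒮.p e _ (hb.lift _ _ hD0)) hκ)
    · intro a'' h hDh
      have n := hb.nat h (𝒮.p.map κ ≫ f) hD0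
      have ie : 𝒮.p.map (h ≫ κ) ≫ f = 𝒮.p.map h ≫ 𝒮.p.map κ ≫ f := by
        rw [𝒮.p.map_comp, Category.assoc]
      calc h ≫ b a' (𝒮.p.map κ ≫ f) ≫ κ = (h ≫ b a' (𝒮.p.map κ ≫ f)) ≫ κ :=
            (Category.assoc _ _ _).symm
        _ = (b a'' (𝒮.p.map h ≫ 𝒮.p.map κ ≫ f) ≫ h) ≫ κ := by rw [n]
        _ = b a'' (𝒮.p.map h ≫ 𝒮.p.map κ ≫ f) ≫ h ≫ κ := Category.assoc _ _ _
        _ = b a'' (𝒮.p.map (h ≫ κ) ≫ f) ≫ h ≫ κ := by rw [ie]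
  have huniq : ∀ ⦃V' : C⦄ (g : V' ⟶ 𝒮.p.obj y), R g → ∀ (a' : 𝒮.obj) (κ : a' ⟶ y)
      (t t' : a' ⟶ y), 𝒮.p.IsHomLift g κ → 𝒮.p.IsHomLift g t → 𝒮.p.IsHomLift g t' →
      (∀ (a'' : 𝒮.obj) (h : a'' ⟶ a'), D a'' (𝒮.p.map (h ≫ κ) ≫ f) →
          h ≫ t = b a'' (𝒮.p.map (h ≫ κ) ≫ f) ≫ h ≫ κ) →
      (∀ (a'' : 𝒮.obj) (h : a'' ⟶ a'), D a'' (𝒮.p.map (h ≫ κ) ≫ f) →
          h ≫ t' = b a'' (𝒮.p.map (h ≫ κ) ≫ f) ≫ h ≫ κ) → t = t' := by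
    intro V' g hg a' κ t t' hκ _ _ h1 h2
    have hD0 : D a' (𝒮.p.map κ ≫ f) := hcov g hg a' κ hκ
    have hD1 : D a' (𝒮.p.map (𝟙 a' ≫ κ) ≫ f) := by
      rw [Category.id_comp]
      exact hD0
    have e1 := h1 a' (𝟙 a') hD1
    have e2 := h2 a' (𝟙 a') hD1
    exact (Category.id_comp t).symm.trans (e1.trans (e2.symm.trans (Category.id_comp t')))
  have hcomp : ∀ ⦃a' a'' : 𝒮.obj⦄ (h₁ : a'' ⟶ a') (κ : a' ⟶ y) (t : a' ⟶ y),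
      (∀ (a₃ : 𝒮.obj) (h : a₃ ⟶ a'), D a₃ (𝒮.p.map (h ≫ κ) ≫ f) →
          h ≫ t = b a₃ (𝒮.p.map (h ≫ κ) ≫ f) ≫ h ≫ κ) →
      (∀ (a₃ : 𝒮.obj) (h : a₃ ⟶ a''), D a₃ (𝒮.p.map (h ≫ h₁ ≫ κ) ≫ f) →
          h ≫ h₁ ≫ t = b a₃ (𝒮.p.map (h ≫ h₁ ≫ κ) ≫ f) ≫ h ≫ h₁ ≫ κ) := by
    intro a' a'' h₁ κ t hrel a₃ h₂ hDh
    have ie : (h₂ ≫ h₁) ≫ κ = h₂ ≫ h₁ ≫ κ := Category.assoc _ _ _
    have hD' : D a₃ (𝒮.p.map ((h₂ ≫ h₁) ≫ κ) ≫ f) := by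
      rw [ie]
      exact hDh
    have e := hrel a₃ (h₂ ≫ h₁) hD'
    calc h₂ ≫ h₁ ≫ t = (h₂ ≫ h₁) ≫ t := (Category.assoc _ _ _).symm
      _ = b a₃ (𝒮.p.map ((h₂ ≫ h₁) ≫ κ) ≫ f) ≫ (h₂ ≫ h₁) ≫ κ := e
      _ = b a₃ (𝒮.p.map (h₂ ≫ h₁ ≫ κ) ≫ f) ≫ h₂ ≫ h₁ ≫ κ := by rw [ie]
  obtain ⟨Θ, hΘ, hΘ2⟩ := glue_hom hfib R hfull (a := y) (b := y) rfl rfl
    (fun a' κ t => ∀ (a'' : 𝒮.obj) (h : a'' ⟶ a'), D a'' (𝒮.p.map (h ≫ κ) ≫ f) →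
      h ≫ t = b a'' (𝒮.p.map (h ≫ κ) ≫ f) ≫ h ≫ κ) hex huniq hcomp
  exact ⟨Θ, hΘ, R, hR, hcov, fun W g hg a' κ hκ a'' h hDh => hΘ2 g hg a' κ hκ a'' h hDh⟩

include hfib hst hD in
theorem exists_extension (b : ∀ y : 𝒮.obj, (𝒮.p.obj y ⟶ U) → (y ⟶ y))
    (hb : IsPartialNat D b) :
    ∃ a : ∀ y : 𝒮.obj, (𝒮.p.obj y ⟶ U) → (y ⟶ y),
      IsPartialNat (fun _ _ => True) a ∧ ∀ y f, D y f → a y f = b y f := by
  choose a ha1 R hR hcov ha2 using stepA J hfib hst D hD b hb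
  have hP : ∀ (y : 𝒮.obj) (f : 𝒮.p.obj y ⟶ U) (y' : 𝒮.obj) (κ : y' ⟶ y),
      D y' (𝒮.p.map κ ≫ f) → κ ≫ a y f = b y' (𝒮.p.map κ ≫ f) ≫ κ := by
    intro y f y' κ hDκ
    have hκ : 𝒮.p.IsHomLift (𝒮.p.map κ) κ := IsHomLift.map 𝒮.p κ
    obtain ⟨ε, hε, hεf⟩ := exists_factor hfib (𝒮.p.map κ) κ hκ (𝟙 _) (κ ≫ a y f)
      (lift_of_eq 𝒮.p ((Category.comp_id _).trans (Category.id_comp _).symm) _
        (lift_comp 𝒮.p _ _ _ _ hκ (ha1 y f)))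
    have hR' : (R y f).pullback (𝒮.p.map κ) ∈ J (𝒮.p.obj y') := J.pullback_stable _ (hR y f)
    haveI : (Stk.resSieve ((R y f).pullback (𝒮.p.map κ)) 𝒮).IsEquivalence := hst _ hR'
    have hfaith : (Stk.resSieve ((R y f).pullback (𝒮.p.map κ)) 𝒮).Faithful := inferInstance
    have hεb : ε = b y' (𝒮.p.map κ ≫ f) := by
      refine Groth.Agent.StkLocal.eq_of_locally_eq hfib _ hfaith rfl rfl ε _ hε
        (hb.lift _ _ hDκ) ?_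
      intro W g' hg' w lam hlam
      have hlk : 𝒮.p.IsHomLift (g' ≫ 𝒮.p.map κ) (lam ≫ κ) := lift_comp 𝒮.p _ _ _ _ hlam hκ
      have ie : 𝒮.p.map (𝟙 w ≫ lam ≫ κ) ≫ f = 𝒮.p.map lam ≫ 𝒮.p.map κ ≫ f := by
        rw [Category.id_comp, 𝒮.p.map_comp, Category.assoc]
      have hDw : D w (𝒮.p.map (𝟙 w ≫ lam ≫ κ) ≫ f) := by
        rw [ie]
        exact hD.closed lam (𝒮.p.map κ ≫ f) hDκ
      have e1 := ha2 y f (g' ≫ 𝒮.p.map κ) hg' w (lam ≫ κ) hlk w (𝟙 w) hDw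
      have n := hb.nat lam (𝒮.p.map κ ≫ f) hDκ
      refine factor_unique hfib (𝒮.p.map κ) κ hκ g' _ _ ?_ ?_ ?_
      · exact lift_of_eq 𝒮.p (Category.comp_id g') _ (lift_comp 𝒮.p _ _ _ _ hlam hε)
      · exact lift_of_eq 𝒮.p (Category.comp_id g') _
          (lift_comp 𝒮.p _ _ _ _ hlam (hb.lift _ _ hDκ))
      · calc (lam ≫ ε) ≫ κ = lam ≫ κ ≫ a y f := by rw [Category.assoc, hεf]
          _ = 𝟙 w ≫ (lam ≫ κ) ≫ a y f := by rw [Category.id_comp, Category.assoc]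
          _ = b w (𝒮.p.map (𝟙 w ≫ lam ≫ κ) ≫ f) ≫ 𝟙 w ≫ lam ≫ κ := e1
          _ = b w (𝒮.p.map lam ≫ 𝒮.p.map κ ≫ f) ≫ lam ≫ κ := by rw [ie, Category.id_comp]
          _ = (b w (𝒮.p.map lam ≫ 𝒮.p.map κ ≫ f) ≫ lam) ≫ κ := (Category.assoc _ _ _).symm
          _ = (lam ≫ b y' (𝒮.p.map κ ≫ f)) ≫ κ := by rw [n]
    rw [← hεf, hεb]
  have hE : ∀ y f, D y f → a y f = b y f := by
    intro y f hDf
    have ie : 𝒮.p.map (𝟙 y) ≫ f = f := by rw [𝒮.p.map_id, Category.id_comp]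
    have hD1 : D y (𝒮.p.map (𝟙 y) ≫ f) := by
      rw [ie]
      exact hDf
    have e := hP y f y (𝟙 y) hD1
    rw [ie, Category.id_comp, Category.comp_id] at e
    exact e
  have hN : ∀ {y₁ y₂ : 𝒮.obj} (φ : y₁ ⟶ y₂) (f : 𝒮.p.obj y₂ ⟶ U),
      a y₁ (𝒮.p.map φ ≫ f) ≫ φ = φ ≫ a y₂ f := by
    intro y₁ y₂ φ f
    have hφ : 𝒮.p.IsHomLift (𝒮.p.map φ) φ := IsHomLift.map 𝒮.p φ
    obtain ⟨ε, hε, hεf⟩ := exists_factor hfib (𝒮.p.map φ) φ hφ (𝟙 _) (φ ≫ a y₂ f)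
      (lift_of_eq 𝒮.p ((Category.comp_id _).trans (Category.id_comp _).symm) _
        (lift_comp 𝒮.p _ _ _ _ hφ (ha1 y₂ f)))
    haveI : (Stk.resSieve (R y₁ (𝒮.p.map φ ≫ f)) 𝒮).IsEquivalence :=
      hst _ (hR y₁ (𝒮.p.map φ ≫ f))
    have hfaith : (Stk.resSieve (R y₁ (𝒮.p.map φ ≫ f)) 𝒮).Faithful := inferInstance
    have hεa : ε = a y₁ (𝒮.p.map φ ≫ f) := by
      refine Groth.Agent.StkLocal.eq_of_locally_eq hfib _ hfaith rfl rfl ε _ hε (ha1 _ _) ?_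
      intro W g hg w lam hlam
      have hD1 : D w (𝒮.p.map lam ≫ 𝒮.p.map φ ≫ f) :=
        hcov y₁ (𝒮.p.map φ ≫ f) g hg w lam hlam
      have ie : 𝒮.p.map (lam ≫ φ) ≫ f = 𝒮.p.map lam ≫ 𝒮.p.map φ ≫ f := by
        rw [𝒮.p.map_comp, Category.assoc]
      have hD2 : D w (𝒮.p.map (lam ≫ φ) ≫ f) := by
        rw [ie]
        exact hD1
      have e1 := hP y₂ f w (lam ≫ φ) hD2
      have e2 := hP y₁ (𝒮.p.map φ ≫ f) w lam hD1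
      refine factor_unique hfib (𝒮.p.map φ) φ hφ g _ _ ?_ ?_ ?_
      · exact lift_of_eq 𝒮.p (Category.comp_id g) _ (lift_comp 𝒮.p _ _ _ _ hlam hε)
      · exact lift_of_eq 𝒮.p (Category.comp_id g) _ (lift_comp 𝒮.p _ _ _ _ hlam (ha1 _ _))
      · calc (lam ≫ ε) ≫ φ = lam ≫ φ ≫ a y₂ f := by rw [Category.assoc, hεf]
          _ = (lam ≫ φ) ≫ a y₂ f := (Category.assoc _ _ _).symm
          _ = b w (𝒮.p.map (lam ≫ φ) ≫ f) ≫ lam ≫ φ := e1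
          _ = b w (𝒮.p.map lam ≫ 𝒮.p.map φ ≫ f) ≫ lam ≫ φ := by rw [ie]
          _ = (b w (𝒮.p.map lam ≫ 𝒮.p.map φ ≫ f) ≫ lam) ≫ φ := (Category.assoc _ _ _).symm
          _ = (lam ≫ a y₁ (𝒮.p.map φ ≫ f)) ≫ φ := by rw [e2]
    rw [← hεa, hεf]
  exact ⟨a, ⟨fun y f _ => ha1 y f, fun φ f _ => hN φ f⟩, hE⟩

include hfib hst hD in
theorem extension_unique (a a' : ∀ y : 𝒮.obj, (𝒮.p.obj y ⟶ U) → (y ⟶ y))
    (ha : IsPartialNat (fun _ _ => True) a) (ha' : IsPartialNat (fun _ _ => True) a')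
    (h : ∀ y f, D y f → a y f = a' y f) : a = a' := by
  funext y f
  obtain ⟨R, hR, hcov⟩ := hD.cover y f
  haveI : (Stk.resSieve R 𝒮).IsEquivalence := hst R hR
  have hfaith : (Stk.resSieve R 𝒮).Faithful := inferInstance
  refine Groth.Agent.StkLocal.eq_of_locally_eq hfib R hfaith rfl rfl _ _
    (ha.lift y f trivial) (ha'.lift y f trivial) ?_
  intro W g hg y' κ hκ
  rw [← ha.nat κ f trivial, ← ha'.nat κ f trivial, h y' _ (hcov g hg y' κ hκ)]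

end Groth.Agent.Lib.GerbBand
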