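import Mathlib
import Groth.Prelude.Def_StGerb
import Groth.Agent.Lib.GerbBandA_lead

/-!
# The sheaf of natural families of automorphisms of a stack in groupoids (lead)
-/

set_option autoImplicit false
set_option linter.unusedSimpArgs false
set_option linter.unusedVariables false
set_option linter.unusedSectionVars false
set_option linter.style.longLine false
set_option linter.unnecessarySimpa false
set_option linter.style.haveILetI false
set_option maxHeartbeats 1600000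
set_option backward.isDefEq.respectTransparency false
set_option backward.isDefEq.respectTransparency.types false
set_option backward.defeqAttrib.useBackward true

universe v₆ u₆ v₅ u₅ v₄ u₄ v₃ u₃ v₂ u₂ v₁ u₁ v u

open CategoryTheory Opposite FibCat Gerb Groth.Agent.Lib.StkFib Groth.Agent.Lib.GerbGlueH4

namespace Groth.Agent.Lib.GerbBand

variable {C : Type u} [Category.{v} C] (J : GrothendieckTopology C)
  (𝒮 : BasedCategory.{v₂, u₂} C)

/-- The group of natural families of automorphisms over identities, indexed by pairs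
`(y, f : p y ⟶ U)`. -/
def natSub (U : C) : Subgroup (∀ (y : 𝒮.obj), (𝒮.p.obj y ⟶ U) → AutO y) where
  carrier := {a | ∀ (y' y : 𝒮.obj) (φ : y' ⟶ y) (f : 𝒮.p.obj y ⟶ U),
    (a y' (𝒮.p.map φ ≫ f)).hom.1 ≫ φ = φ ≫ (a y f).hom.1}
  mul_mem' := by
    intro a b ha hb y' y φ f
    show ((b y' (𝒮.p.map φ ≫ f)).hom.1 ≫ (a y' (𝒮.p.map φ ≫ f)).hom.1) ≫ φ =
      φ ≫ ((b y f).hom.1 ≫ (a y f).hom.1)
    rw [Category.assoc, ha y' y φ f, ← Category.assoc, hb y' y φ f, Category.assoc]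
  one_mem' := by
    intro y' y φ f
    show 𝟙 y' ≫ φ = φ ≫ 𝟙 y
    rw [Category.id_comp, Category.comp_id]
  inv_mem' := by
    intro a ha y' y φ f
    show (a y' (𝒮.p.map φ ≫ f)).inv.1 ≫ φ = φ ≫ (a y f).inv.1
    have h1 : (a y' (𝒮.p.map φ ≫ f)).inv.1 ≫ (a y' (𝒮.p.map φ ≫ f)).hom.1 = 𝟙 y' :=
      congrArg Subtype.val (a y' (𝒮.p.map φ ≫ f)).inv_hom_id
    have h2 : (a y f).hom.1 ≫ (a y f).inv.1 = 𝟙 y := congrArg Subtype.val (a y f).hom_inv_id
    calc (a y' (𝒮.p.map φ ≫ f)).inv.1 ≫ φ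
        = (a y' (𝒮.p.map φ ≫ f)).inv.1 ≫ φ ≫ ((a y f).hom.1 ≫ (a y f).inv.1) := by
          rw [h2, Category.comp_id]
      _ = (a y' (𝒮.p.map φ ≫ f)).inv.1 ≫ (φ ≫ (a y f).hom.1) ≫ (a y f).inv.1 := by
          simp only [Category.assoc]
      _ = (a y' (𝒮.p.map φ ≫ f)).inv.1 ≫ ((a y' (𝒮.p.map φ ≫ f)).hom.1 ≫ φ) ≫
            (a y f).inv.1 := by
          rw [ha y' y φ f]
      _ = ((a y' (𝒮.p.map φ ≫ f)).inv.1 ≫ (a y' (𝒮.p.map φ ≫ f)).hom.1) ≫ φ ≫
            (a y f).inv.1 := by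
          simp only [Category.assoc]
      _ = φ ≫ (a y f).inv.1 := by rw [h1, Category.id_comp]

variable {𝒮}

theorem natSub_ext {U : C} {A A' : natSub 𝒮 U}
    (h : ∀ y f, (A.1 y f).hom.1 = (A'.1 y f).hom.1) : A = A' := by
  apply Subtype.ext
  funext y f
  exact Iso.ext (Functor.Fiber.hom_ext (h y f))

theorem natSub_isNat {U : C} (A : natSub 𝒮 U) :
    IsPartialNat (fun _ _ => True) (fun y f => (A.1 y f).hom.1) :=
  ⟨fun y f _ => (A.1 y f).hom.2, fun φ f _ => A.2 _ _ φ f⟩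

/-- A natural family of raw automorphisms as an element of `natSub`. -/
noncomputable def ofRaw (hfib : IsFibGrpd 𝒮.p) {U : C}
    (a : ∀ y : 𝒮.obj, (𝒮.p.obj y ⟶ U) → (y ⟶ y)) (ha : IsPartialNat (fun _ _ => True) a) :
    natSub 𝒮 U :=
  ⟨fun y f => mkAutO hfib y (a y f) (ha.lift y f trivial), fun y' y φ f => ha.nat φ f trivial⟩

theorem ofRaw_hom (hfib : IsFibGrpd 𝒮.p) {U : C}
    (a : ∀ y : 𝒮.obj, (𝒮.p.obj y ⟶ U) → (y ⟶ y)) (ha : IsPartialNat (fun _ _ => True) a)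
    (y : 𝒮.obj) (f : 𝒮.p.obj y ⟶ U) : ((ofRaw hfib a ha).1 y f).hom.1 = a y f := rfl

/-- Restriction of natural families. -/
def resHom {U U' : C} (g : U' ⟶ U) : natSub 𝒮 U →* natSub 𝒮 U' where
  toFun A := ⟨fun y f => A.1 y (f ≫ g), fun y' y φ f => by
    have h := A.2 y' y φ (f ≫ g)
    have ie : (𝒮.p.map φ ≫ f) ≫ g = 𝒮.p.map φ ≫ f ≫ g := Category.assoc _ _ _
    show (A.1 y' ((𝒮.p.map φ ≫ f) ≫ g)).hom.1 ≫ φ = φ ≫ (A.1 y (f ≫ g)).hom.1
    rw [ie]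
    exact h⟩
  map_one' := rfl
  map_mul' _ _ := rfl

theorem resHom_apply {U U' : C} (g : U' ⟶ U) (A : natSub 𝒮 U) (y : 𝒮.obj)
    (f : 𝒮.p.obj y ⟶ U') : (resHom g A).1 y f = A.1 y (f ≫ g) := rfl

variable (𝒮) in
/-- The presheaf of groups of natural families. -/
def Gpsh : Cᵒᵖ ⥤ GrpCat where
  obj U := GrpCat.of (natSub 𝒮 U.unop)
  map g := GrpCat.ofHom (resHom g.unop)
  map_id U := by
    apply GrpCat.hom_ext
    apply MonoidHom.ext
    intro A
    refine natSub_ext (fun y f => ?_)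
    show (A.1 y (f ≫ 𝟙 _)).hom.1 = (A.1 y f).hom.1
    rw [Category.comp_id]
  map_comp g g' := by
    apply GrpCat.hom_ext
    apply MonoidHom.ext
    intro A
    refine natSub_ext (fun y f => ?_)
    show (A.1 y (f ≫ (g'.unop ≫ g.unop))).hom.1 = (A.1 y ((f ≫ g'.unop) ≫ g.unop)).hom.1
    rw [Category.assoc]

theorem gforget_map {U U' : C} (g : U' ⟶ U) (t : natSub 𝒮 U) :
    ((Gpsh 𝒮 ⋙ forget GrpCat).map g.op t : natSub 𝒮 U') = resHom g t := rfl

theorem sieve_of_lift {U : C} (S : Sieve U) {y' y : 𝒮.obj} (κ : y' ⟶ y) {W : C}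
    (h : W ⟶ 𝒮.p.obj y) (hκ : 𝒮.p.IsHomLift h κ) (f : 𝒮.p.obj y ⟶ U) (hS : S.arrows (h ≫ f)) :
    S.arrows (𝒮.p.map κ ≫ f) := by
  haveI := hκ
  have e := IsHomLift.domain_eq 𝒮.p h κ
  subst e
  have : 𝒮.p.map κ = h := by
    rw [IsHomLift.fac' 𝒮.p h κ]
    simp
  rw [this]
  exact hS

variable (hfib : IsFibGrpd 𝒮.p)
  (hst : ∀ ⦃V : C⦄ (R : Sieve V), R ∈ J V → Stk.IsStackFor R 𝒮)

include hfib hst in
theorem isSheaf_Gpsh : Presieve.IsSheaf J (Gpsh 𝒮 ⋙ forget GrpCat) := by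
  intro U S hS x hx
  have hx' := (Presieve.compatible_iff_sieveCompatible x).1 hx
  classical
  -- the family as elements of `natSub`
  let X : ∀ ⦃Y : C⦄ (f : Y ⟶ U), S.arrows f → natSub 𝒮 Y := fun Y f hf => x f hf
  have hXc : ∀ ⦃Y Z : C⦄ (f : Y ⟶ U) (g : Z ⟶ Y) (hf : S.arrows f),
      X (g ≫ f) (S.downward_closed hf g) = resHom g (X f hf) := fun Y Z f g hf => hx' f g hf
  let D : ∀ y : 𝒮.obj, (𝒮.p.obj y ⟶ U) → Prop := fun y f => S.arrows f
  let b : ∀ y : 𝒮.obj, (𝒮.p.obj y ⟶ U) → (y ⟶ y) := fun y f =>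
    if h : S.arrows f then ((X f h).1 y (𝟙 _)).hom.1 else 𝟙 y
  have hbpos : ∀ (y : 𝒮.obj) (f : 𝒮.p.obj y ⟶ U) (h : S.arrows f),
      b y f = ((X f h).1 y (𝟙 _)).hom.1 := fun y f h => dif_pos h
  have hDcov : IsCovering J D := by
    refine ⟨fun φ f hf => S.downward_closed hf _, fun y f => ?_⟩
    refine ⟨S.pullback f, J.pullback_stable f hS, fun W h hh y' κ hκ => ?_⟩
    exact sieve_of_lift S κ h hκ f hh
  have hb : IsPartialNat D b := by
    refine ⟨fun y f hf => ?_, fun {y' y} φ f hf => ?_⟩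
    · rw [hbpos y f hf]
      exact ((X f hf).1 y (𝟙 _)).hom.2
    · have hf' : S.arrows (𝒮.p.map φ ≫ f) := S.downward_closed hf _
      rw [hbpos y f hf, hbpos y' _ hf']
      have e1 : X (𝒮.p.map φ ≫ f) hf' = resHom (𝒮.p.map φ) (X f hf) := hXc f (𝒮.p.map φ) hf
      have e2 : (X (𝒮.p.map φ ≫ f) hf').1 y' (𝟙 _) = (X f hf).1 y' (𝟙 _ ≫ 𝒮.p.map φ) := by
        rw [e1]
        rfl
      have e3 := (X f hf).2 y' y φ (𝟙 _)
      have ie : 𝟙 (𝒮.p.obj y') ≫ 𝒮.p.map φ = 𝒮.p.map φ ≫ 𝟙 (𝒮.p.obj y) := by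
        rw [Category.id_comp, Category.comp_id]
      rw [e2, ie]
      exact e3
  obtain ⟨a, ha, hab⟩ := exists_extension J hfib hst D hDcov b hb
  have hval : ∀ ⦃Y : C⦄ (g : Y ⟶ U) (hg : S.arrows g) (y : 𝒮.obj) (f' : 𝒮.p.obj y ⟶ Y),
      ((X g hg).1 y f').hom.1 = b y (f' ≫ g) := by
    intro Y g hg y f'
    have hfg : S.arrows (f' ≫ g) := S.downward_closed hg f'
    rw [hbpos y _ hfg]
    have e1 : X (f' ≫ g) hfg = resHom f' (X g hg) := hXc g f' hg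
    have e2 : (X (f' ≫ g) hfg).1 y (𝟙 _) = (X g hg).1 y (𝟙 _ ≫ f') := by
      rw [e1]
      rfl
    rw [e2, Category.id_comp]
  refine ⟨(ofRaw hfib a ha : natSub 𝒮 U), ?_, ?_⟩
  · intro Y g hg
    show (resHom g (ofRaw hfib a ha) : natSub 𝒮 Y) = X g hg
    refine natSub_ext (fun y f' => ?_)
    show a y (f' ≫ g) = ((X g hg).1 y f').hom.1
    rw [hval g hg y f', hab y _ (S.downward_closed hg f')]
  · intro t' ht'
    have ht'' : ∀ ⦃Y : C⦄ (g : Y ⟶ U) (hg : S.arrows g), resHom g (t' : natSub 𝒮 U) = X g hg :=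
      fun Y g hg => ht' g hg
    show (t' : natSub 𝒮 U) = ofRaw hfib a ha
    refine natSub_ext (fun y f => ?_)
    have hraw := extension_unique J hfib hst D hDcov
      (fun y f => ((t' : natSub 𝒮 U).1 y f).hom.1) a (natSub_isNat _) ha (fun y f hf => by
        rw [hab y f hf]
        have e1 := hval f hf y (𝟙 _)
        rw [Category.id_comp] at e1
        rw [← e1, ← ht'' f hf]
        show ((t' : natSub 𝒮 U).1 y f).hom.1 = ((t' : natSub 𝒮 U).1 y (𝟙 _ ≫ f)).hom.1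
        rw [Category.id_comp])
    exact congrFun (congrFun hraw y) f

end Groth.Agent.Lib.GerbBand
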