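import Mathlib
import Groth.Prelude.Def_StGerb
import Groth.Agent.Lib.GerbBandB_lead

/-!
# A gerbe with commutative automorphism groups is banded by a sheaf of abelian groups (lead)
-/

set_option autoImplicit false
set_option linter.unusedSimpArgs false
set_option linter.unusedVariables false
set_option linter.unusedSectionVars false
set_option linter.style.longLine false
set_option linter.unnecessarySimpa false
set_option linter.style.haveILetI false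
set_option maxHeartbeats 1600000
set_option backward.isDefEq.respectTransparency false
set_option backward.isDefEq.respectTransparency.types false
set_option backward.defeqAttrib.useBackward true

universe v₆ u₆ v₅ u₅ v₄ u₄ v₃ u₃ v₂ u₂ v₁ u₁ v u

open CategoryTheory Opposite FibCat Gerb Groth.Agent.Lib.StkFib Groth.Agent.Lib.GerbGlueH4

namespace Groth.Agent.Lib.GerbBand

variable {C : Type u} [Category.{v} C] (J : GrothendieckTopology C)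
  {𝒮 : BasedCategory.{v₂, u₂} C}

theorem map_eq_of_lifts {W : C} {y' y x : 𝒮.obj} (κ : y' ⟶ y) (τ : y' ⟶ x)
    (h : W ⟶ 𝒮.p.obj y) (f : 𝒮.p.obj y ⟶ 𝒮.p.obj x) (hκ : 𝒮.p.IsHomLift h κ)
    (hτ : 𝒮.p.IsHomLift (h ≫ f) τ) : 𝒮.p.map τ = 𝒮.p.map κ ≫ f := by
  haveI := hκ
  haveI := hτ
  have e := IsHomLift.domain_eq 𝒮.p h κ
  subst e
  rw [IsHomLift.fac' 𝒮.p h κ, IsHomLift.fac' 𝒮.p (h ≫ f) τ]
  simp

/-- The class of pairs `(y, f)` such that `f` is the image of a morphism `y ⟶ x`. -/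
def Dx (x : 𝒮.obj) : ∀ y : 𝒮.obj, (𝒮.p.obj y ⟶ 𝒮.p.obj x) → Prop :=
  fun y f => ∃ τ : y ⟶ x, 𝒮.p.map τ = f

variable (hfib : IsFibGrpd 𝒮.p)
  (hst : ∀ ⦃V : C⦄ (R : Sieve V), R ∈ J V → Stk.IsStackFor R 𝒮)
  (hconn : Groth.Agent.Lib.GerbH4.LocConn J 𝒮)
  (hcomm : ∀ (x : 𝒮.obj) (α β : AutO x), α * β = β * α)

include hfib hconn in
theorem dx_covering (x : 𝒮.obj) : IsCovering J (Dx (𝒮 := 𝒮) x) := by
  refine ⟨fun {y' y} φ f hf => ?_, fun y f => ?_⟩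
  · obtain ⟨τ, hτ⟩ := hf
    exact ⟨φ ≫ τ, by rw [𝒮.p.map_comp, hτ]⟩
  · obtain ⟨y₁, σ, hσ⟩ := hfib.exists_lift (x := x) f
    have e₁ : 𝒮.p.obj y₁ = 𝒮.p.obj y := by
      haveI := hσ
      exact IsHomLift.domain_eq 𝒮.p f σ
    obtain ⟨R, hR, hR'⟩ := hconn y y₁ (𝒮.p.obj y) rfl e₁
    refine ⟨R, hR, fun W h hh y' κ hκ => ?_⟩
    obtain ⟨z, μ, ν, hμ, hν⟩ := hR' h hh
    obtain ⟨k, hk, hkf⟩ := exists_factor hfib h μ hμ (𝟙 W) κ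
      (lift_of_eq 𝒮.p (Category.id_comp h).symm κ hκ)
    refine ⟨k ≫ ν ≫ σ, map_eq_of_lifts κ _ h f hκ ?_⟩
    exact lift_of_eq 𝒮.p (Category.id_comp _) _
      (lift_comp 𝒮.p (𝟙 W) (h ≫ f) k (ν ≫ σ) hk (lift_comp 𝒮.p h f ν σ hν hσ))

include hfib hcomm in
theorem comm_of {y : 𝒮.obj} (ε δ : y ⟶ y) (hε : 𝒮.p.IsHomLift (𝟙 (𝒮.p.obj y)) ε)
    (hδ : 𝒮.p.IsHomLift (𝟙 (𝒮.p.obj y)) δ) : ε ≫ δ = δ ≫ ε := by
  have h := hcomm y (mkAutO hfib y δ hδ) (mkAutO hfib y ε hε)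
  exact congrArg (fun t : AutO y => t.hom.1) h

include hfib hcomm in
theorem exists_tr {x : 𝒮.obj} (β : x ⟶ x) (hβ : 𝒮.p.IsHomLift (𝟙 (𝒮.p.obj x)) β) (y : 𝒮.obj)
    (f : 𝒮.p.obj y ⟶ 𝒮.p.obj x) (hD : Dx x y f) :
    ∃ ε : y ⟶ y, 𝒮.p.IsHomLift (𝟙 (𝒮.p.obj y)) ε ∧
      ∀ τ : y ⟶ x, 𝒮.p.map τ = f → ε ≫ τ = τ ≫ β := by
  obtain ⟨τ₀, hτ₀⟩ := hD
  have hτl : 𝒮.p.IsHomLift (𝒮.p.map τ₀) τ₀ := IsHomLift.map 𝒮.p τ₀
  obtain ⟨ε, hε, hεf⟩ := exists_factor hfib (𝒮.p.map τ₀) τ₀ hτl (𝟙 _) (τ₀ ≫ β)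
    (lift_of_eq 𝒮.p ((Category.comp_id _).trans (Category.id_comp _).symm) _
      (lift_comp 𝒮.p _ _ τ₀ β hτl hβ))
  refine ⟨ε, hε, fun τ hτ => ?_⟩
  have hτl' : 𝒮.p.IsHomLift (𝟙 _ ≫ 𝒮.p.map τ₀) τ :=
    lift_of_eq 𝒮.p (hτ.trans (hτ₀.symm.trans (Category.id_comp _).symm)) τ
      (IsHomLift.map 𝒮.p τ)
  obtain ⟨δ, hδ, hδf⟩ := exists_factor hfib (𝒮.p.map τ₀) τ₀ hτl (𝟙 _) τ hτl'
  have hc : ε ≫ δ = δ ≫ ε := comm_of hfib hcomm ε δ hε hδ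
  calc ε ≫ τ = ε ≫ δ ≫ τ₀ := by rw [hδf]
    _ = (ε ≫ δ) ≫ τ₀ := (Category.assoc _ _ _).symm
    _ = (δ ≫ ε) ≫ τ₀ := by rw [hc]
    _ = δ ≫ ε ≫ τ₀ := Category.assoc _ _ _
    _ = δ ≫ τ₀ ≫ β := by rw [hεf]
    _ = (δ ≫ τ₀) ≫ β := (Category.assoc _ _ _).symm
    _ = τ ≫ β := by rw [hδf]

include hfib hst hconn hcomm in
theorem ev_surj (x : 𝒮.obj) (β : AutO x) :
    ∃ A : natSub 𝒮 (𝒮.p.obj x), A.1 x (𝟙 _) = β := by
  classical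
  have hβ : 𝒮.p.IsHomLift (𝟙 (𝒮.p.obj x)) β.hom.1 := β.hom.2
  have hex := exists_tr hfib hcomm β.hom.1 hβ
  let b : ∀ y : 𝒮.obj, (𝒮.p.obj y ⟶ 𝒮.p.obj x) → (y ⟶ y) := fun y f =>
    if h : Dx x y f then Classical.choose (hex y f h) else 𝟙 y
  have hb1 : ∀ y f (h : Dx x y f), 𝒮.p.IsHomLift (𝟙 (𝒮.p.obj y)) (b y f) := fun y f h => by
    have : b y f = Classical.choose (hex y f h) := dif_pos h
    rw [this]
    exact (Classical.choose_spec (hex y f h)).1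
  have hb2 : ∀ y f (h : Dx x y f) (τ : y ⟶ x), 𝒮.p.map τ = f → b y f ≫ τ = τ ≫ β.hom.1 :=
      fun y f h τ hτ => by
    have : b y f = Classical.choose (hex y f h) := dif_pos h
    rw [this]
    exact (Classical.choose_spec (hex y f h)).2 τ hτ
  have hcov := dx_covering J hfib hconn x
  have hb : IsPartialNat (Dx x) b := by
    refine ⟨fun y f hf => hb1 y f hf, fun {y' y} φ f hf => ?_⟩
    obtain ⟨τ, hτ⟩ := hf
    have hf' : Dx x y' (𝒮.p.map φ ≫ f) := hcov.closed φ f ⟨τ, hτ⟩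
    have hτl : 𝒮.p.IsHomLift (𝒮.p.map τ) τ := IsHomLift.map 𝒮.p τ
    have hφl : 𝒮.p.IsHomLift (𝒮.p.map φ) φ := IsHomLift.map 𝒮.p φ
    refine factor_unique hfib (𝒮.p.map τ) τ hτl (𝒮.p.map φ) _ _ ?_ ?_ ?_
    · exact lift_of_eq 𝒮.p (Category.id_comp _) _
        (lift_comp 𝒮.p _ _ _ _ (hb1 y' _ hf') hφl)
    · exact lift_of_eq 𝒮.p (Category.comp_id _) _
        (lift_comp 𝒮.p _ _ _ _ hφl (hb1 y f ⟨τ, hτ⟩))
    · have e1 := hb2 y' _ hf' (φ ≫ τ) (by rw [𝒮.p.map_comp, hτ])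
      have e2 := hb2 y f ⟨τ, hτ⟩ τ hτ
      calc (b y' (𝒮.p.map φ ≫ f) ≫ φ) ≫ τ = b y' (𝒮.p.map φ ≫ f) ≫ φ ≫ τ :=
            Category.assoc _ _ _
        _ = (φ ≫ τ) ≫ β.hom.1 := e1
        _ = φ ≫ τ ≫ β.hom.1 := Category.assoc _ _ _
        _ = φ ≫ b y f ≫ τ := by rw [e2]
        _ = (φ ≫ b y f) ≫ τ := (Category.assoc _ _ _).symm
  obtain ⟨a, ha, hab⟩ := exists_extension J hfib hst (Dx x) hcov b hb
  refine ⟨ofRaw hfib a ha, ?_⟩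
  apply Iso.ext
  apply Functor.Fiber.hom_ext
  show a x (𝟙 _) = β.hom.1
  have hD0 : Dx x x (𝟙 (𝒮.p.obj x)) := ⟨𝟙 x, 𝒮.p.map_id x⟩
  rw [hab x _ hD0]
  have e := hb2 x _ hD0 (𝟙 x) (𝒮.p.map_id x)
  rw [Category.comp_id, Category.id_comp] at e
  exact e

include hfib hst hconn in
theorem ev_inj (x : 𝒮.obj) (A A' : natSub 𝒮 (𝒮.p.obj x))
    (h : A.1 x (𝟙 _) = A'.1 x (𝟙 _)) : A = A' := by
  have hcov := dx_covering J hfib hconn x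
  have hraw := extension_unique J hfib hst (Dx x) hcov
    (fun y f => (A.1 y f).hom.1) (fun y f => (A'.1 y f).hom.1) (natSub_isNat A)
    (natSub_isNat A') (fun y f hf => by
      obtain ⟨τ, hτ⟩ := hf
      have n := A.2 y x τ (𝟙 _)
      have n' := A'.2 y x τ (𝟙 _)
      have ie : 𝒮.p.map τ ≫ 𝟙 (𝒮.p.obj x) = f := by rw [Category.comp_id, hτ]
      rw [ie] at n n'
      have hh : (A.1 x (𝟙 _)).hom.1 = (A'.1 x (𝟙 _)).hom.1 :=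
        congrArg (fun t : AutO x => t.hom.1) h
      have hτl : 𝒮.p.IsHomLift (𝒮.p.map τ) τ := IsHomLift.map 𝒮.p τ
      refine factor_unique hfib (𝒮.p.map τ) τ hτl (𝟙 _) _ _ (A.1 y f).hom.2 (A'.1 y f).hom.2 ?_
      rw [n, n', hh])
  exact natSub_ext (fun y f => congrFun (congrFun hraw y) f)

/-- Evaluation at `(x, 𝟙)`. -/
def evHom (x : 𝒮.obj) : natSub 𝒮 (𝒮.p.obj x) →* AutO x where
  toFun A := A.1 x (𝟙 _)
  map_one' := rfl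
  map_mul' _ _ := rfl

/-- The banding of a gerbe with commutative automorphism groups by the sheaf of natural
families. -/
noncomputable def banding : Gerb.Banding 𝒮 (Gpsh 𝒮) where
  iso x := (MulEquiv.ofBijective (evHom x)
    ⟨fun A A' h => ev_inj J hfib hst hconn x A A' h,
      fun β => ev_surj J hfib hst hconn hcomm x β⟩ :
      natSub 𝒮 (𝒮.p.obj x) ≃* AutO x)
  natural {x' x} φ a := by
    have n := (a : natSub 𝒮 (𝒮.p.obj x)).2 x' x φ (𝟙 _)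
    have ie : 𝟙 (𝒮.p.obj x') ≫ 𝒮.p.map φ = 𝒮.p.map φ ≫ 𝟙 (𝒮.p.obj x) := by
      rw [Category.id_comp, Category.comp_id]
    show ((a : natSub 𝒮 (𝒮.p.obj x)).1 x' (𝟙 _ ≫ 𝒮.p.map φ)).hom.1 ≫ φ =
      φ ≫ ((a : natSub 𝒮 (𝒮.p.obj x)).1 x (𝟙 _)).hom.1
    rw [ie]
    exact n

end Groth.Agent.Lib.GerbBand

namespace Groth.Agent.Lib.GerbBand

theorem main16887 {C : Type u} [Category.{v} C] (J : GrothendieckTopology C)
    (𝒮 : BasedCategory.{v, max u v} C) (h𝒮 : Gerb.IsGerbe J 𝒮)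
    (hcomm : ∀ (x : 𝒮.obj) (α β : Gerb.AutO x), α * β = β * α) :
    ∃ G : Sheaf J GrpCat.{max u v}, (∀ (U : C) (a b : G.obj.obj (op U)), a * b = b * a) ∧
      Nonempty (Gerb.Banding 𝒮 G.obj) := by
  have hfib := h𝒮.1.1
  have hst := h𝒮.1.2
  have hconn : Groth.Agent.Lib.GerbH4.LocConn J 𝒮 :=
    (Groth.Agent.Lib.GerbH4.locSurjHom_toSelf_iff J).1 h𝒮.2.2
  have hsh : Presheaf.IsSheaf J (Gpsh 𝒮) :=
    (Presheaf.isSheaf_iff_isSheaf_forget J (Gpsh 𝒮) (forget GrpCat)).2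
      ((isSheaf_iff_isSheaf_of_type J _).2 (isSheaf_Gpsh J hfib hst))
  refine ⟨⟨Gpsh 𝒮, hsh⟩, ?_, ⟨banding J hfib hst hconn hcomm⟩⟩
  intro U a b
  show (a : natSub 𝒮 U) * (b : natSub 𝒮 U) = (b : natSub 𝒮 U) * (a : natSub 𝒮 U)
  apply Subtype.ext
  funext y f
  exact hcomm y _ _

end Groth.Agent.Lib.GerbBand
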