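import Groth.Agent.Lib.QuotStCart_lead
import Groth.Agent.Lib.AlgStDiagSurj_lead

/-! # Points of `[X/G]` over an algebraically closed field (lead) -/

set_option backward.isDefEq.respectTransparency false
set_option backward.isDefEq.respectTransparency.types false
set_option linter.unusedSimpArgs false
set_option linter.unusedVariables false
set_option linter.unusedSectionVars false
set_option linter.style.longLine false
set_option maxHeartbeats 800000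

universe w v u

open CategoryTheory CategoryTheory.Limits MonoidalCategory CartesianMonoidalCategory MonObj GrpObj AlgebraicGeometry Opposite

namespace Groth.Agent.Lib.QuotStPts

open AlgSt FibCat Stk Groth.Agent.Lib.QuotStBasic Groth.Agent.Lib.QuotStCart

variable {S : Scheme.{u}} {K : Precoverage Scheme.{u}} {G : Over S} [GrpObj G] {X : Over S}
  {aX : AlgGrp.Action G X}

theorem exists_g_of_hom {A B : QuotObj K G aX} {T : Over S} (tA : T ⟶ A.P) (tB : T ⟶ B.P)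
    (h : A ⟶ B) (hb : (tA ≫ A.π) ≫ h.base = tB ≫ B.π) :
    ∃ g : T ⟶ G, lift g (tA ≫ A.φ) ≫ aX.act = tB ≫ B.φ := by
  have hc : tB ≫ B.π = (tA ≫ h.top) ≫ B.π := by
    rw [Category.assoc, h.cart.w, ← Category.assoc, hb]
  obtain ⟨u, hu1, hu2⟩ : ∃ u : T ⟶ G ⊗ B.P, u ≫ B.act.act = tB ∧ u ≫ snd G B.P = tA ≫ h.top :=
    ⟨B.cart.lift tB (tA ≫ h.top) hc, B.cart.lift_fst _ _ _, B.cart.lift_snd _ _ _⟩
  refine ⟨u ≫ fst G B.P, ?_⟩
  have e1 : lift (u ≫ fst G B.P) (tA ≫ A.φ) = u ≫ (G ◁ B.φ) := by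
    apply CartesianMonoidalCategory.hom_ext
    · simp only [lift_fst, Category.assoc, whiskerLeft_fst]
    · simp only [lift_snd, Category.assoc, whiskerLeft_snd, reassoc_of% hu2, h.wφ]
  rw [e1, Category.assoc, ← B.eqv, reassoc_of% hu1]

theorem exists_iso_of_g [K.HasIsos] {A B : QuotObj K G aX} {T : Over S} (tA : T ⟶ A.P)
    (tB : T ⟶ B.P) [IsIso (tA ≫ A.π)] [IsIso (tB ≫ B.π)] (g : T ⟶ G)
    (hg : lift g (tA ≫ A.φ) ≫ aX.act = tB ≫ B.φ) :
    ∃ h : A ≅ B, (tA ≫ A.π) ≫ h.hom.base = tB ≫ B.π := by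
  obtain ⟨hA, hAb⟩ : ∃ hA : (quotMap K G aX).obj ((ofOverCat X).obj (Over.mk (tA ≫ A.φ))) ⟶ A,
      hA.base = tA ≫ A.π := ⟨trivHom A tA, rfl⟩
  obtain ⟨hB, hBb⟩ : ∃ hB : (quotMap K G aX).obj ((ofOverCat X).obj (Over.mk (tB ≫ B.φ))) ⟶ B,
      hB.base = tB ≫ B.π := ⟨trivHom B tB, rfl⟩
  obtain ⟨m, hmb⟩ : ∃ m : (quotMap K G aX).obj ((ofOverCat X).obj (Over.mk (tB ≫ B.φ))) ⟶
      (quotMap K G aX).obj ((ofOverCat X).obj (Over.mk (tA ≫ A.φ))), m.base = 𝟙 T :=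
    ⟨rightMulHom (K := K) (aX := aX) (𝟙 T) (tB ≫ B.φ) (tA ≫ A.φ) g (by
      rw [Category.id_comp]; exact hg), rfl⟩
  have i1 : IsIso hA.base := by rw [hAb]; assumption
  have i2 : IsIso hB.base := by rw [hBb]; assumption
  have i3 : IsIso m.base := by rw [hmb]; exact IsIso.id T
  have j1 := isIso_of_isIso_base hA
  have j2 := isIso_of_isIso_base hB
  have j3 := isIso_of_isIso_base m
  refine ⟨(asIso hA).symm ≪≫ (asIso m).symm ≪≫ asIso hB, ?_⟩
  have k0 : m.base ≫ (inv m).base = 𝟙 _ := congrArg QuotObj.Hom.base (IsIso.hom_inv_id m)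
  have k1 : (inv m).base = 𝟙 T := by
    rw [hmb] at k0
    exact (Category.id_comp _).symm.trans k0
  have k2 : hA ≫ (inv hA ≫ inv m ≫ hB) = inv m ≫ hB := IsIso.hom_inv_id_assoc hA _
  have k3 : hA.base ≫ (inv hA ≫ inv m ≫ hB).base = (inv m).base ≫ hB.base :=
    congrArg QuotObj.Hom.base k2
  rw [hAb, k1, hBb] at k3
  exact k3.trans (Category.id_comp _)

theorem exists_section_algClosed {Ω : Type u} [Field Ω] [IsAlgClosed Ω]
    (t₀ : Spec (CommRingCat.of Ω) ⟶ S) (A : QuotObj Scheme.etalePrecoverage G aX)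
    (hA : A.base = Over.mk t₀) : ∃ t : Over.mk t₀ ⟶ A.P, t ≫ A.π = eqToHom hA.symm := by
  obtain ⟨base, P, act, π, cart, loc, φ, eqv⟩ := A
  dsimp only at hA
  subst hA
  obtain ⟨R, hR, hsec⟩ := loc
  haveI : Scheme.JointlySurjective Scheme.etalePrecoverage.{u} := by
    unfold Scheme.etalePrecoverage
    infer_instance
  obtain ⟨W, g, hg, ⟨w, -⟩⟩ := Scheme.JointlySurjective.exists_eq R hR
    (IsLocalRing.closedPoint Ω : ↥(Spec (CommRingCat.of Ω)))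
  haveI : Etale g := hR.2 hg
  haveI : Nonempty ↥W := ⟨w⟩
  obtain ⟨τ, hτ⟩ := Groth.Agent.Lib.AlgStLocQ.exists_section_of_lft_algClosed g
  obtain ⟨s, hs⟩ := hsec g hg
  have hs' : s ≫ π.left = g := hs
  have h1 : π.left ≫ t₀ = P.hom := Over.w π
  refine ⟨Over.homMk (τ ≫ s) ?_, ?_⟩
  · show (τ ≫ s) ≫ P.hom = t₀
    rw [← h1, Category.assoc, reassoc_of% hs', reassoc_of% hτ]
  · rw [eqToHom_refl]
    ext
    show (τ ≫ s) ≫ π.left = 𝟙 _
    rw [Category.assoc, hs', hτ]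

theorem fiber_main {Ω : Type u} [Field Ω] [IsAlgClosed Ω] (t₀ : Spec (CommRingCat.of Ω) ⟶ S) :
    (∀ A : (QuotObj.forget Scheme.etalePrecoverage G aX).Fiber (Over.mk t₀),
        ∃ t : Over.mk t₀ ⟶ A.1.P, t ≫ A.1.π = eqToHom A.2.symm) ∧
    (∀ (A B : (QuotObj.forget Scheme.etalePrecoverage G aX).Fiber (Over.mk t₀))
        (tA : Over.mk t₀ ⟶ A.1.P) (tB : Over.mk t₀ ⟶ B.1.P),
        tA ≫ A.1.π = eqToHom A.2.symm → tB ≫ B.1.π = eqToHom B.2.symm →
        (Nonempty (A ≅ B) ↔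
          ∃ g : Over.mk t₀ ⟶ G, lift g (tA ≫ A.1.φ) ≫ aX.act = tB ≫ B.1.φ)) ∧
    (∀ x : Over.mk t₀ ⟶ X,
        ∃ (A : (QuotObj.forget Scheme.etalePrecoverage G aX).Fiber (Over.mk t₀))
          (t : Over.mk t₀ ⟶ A.1.P), t ≫ A.1.π = eqToHom A.2.symm ∧ t ≫ A.1.φ = x) := by
  refine ⟨fun A => exists_section_algClosed t₀ A.1 A.2, ?_, ?_⟩
  · intro A B tA tB htA htB
    constructor
    · rintro ⟨α⟩
      obtain ⟨h, hh⟩ := α.hom
      have hfac : h.base = eqToHom A.2 ≫ 𝟙 _ ≫ eqToHom B.2.symm :=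
        IsHomLift.fac' (QuotObj.forget Scheme.etalePrecoverage G aX) (𝟙 (Over.mk t₀)) h
      refine exists_g_of_hom tA tB h ?_
      rw [htA, htB, hfac]
      simp
    · rintro ⟨g, hg⟩
      haveI : IsIso (tA ≫ A.1.π) := by rw [htA]; infer_instance
      haveI : IsIso (tB ≫ B.1.π) := by rw [htB]; infer_instance
      obtain ⟨h, hh⟩ := exists_iso_of_g tA tB g hg
      have hb : h.hom.base = eqToHom A.2 ≫ 𝟙 _ ≫ eqToHom B.2.symm := by
        rw [htA, htB] at hh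
        rw [← cancel_epi (eqToHom A.2.symm), hh]
        simp
      have hlift : (QuotObj.forget Scheme.etalePrecoverage G aX).IsHomLift (𝟙 (Over.mk t₀)) h.hom :=
        IsHomLift.of_fac' _ _ _ A.2 B.2 hb
      have hlift' : (QuotObj.forget Scheme.etalePrecoverage G aX).IsHomLift (𝟙 (Over.mk t₀)) h.inv :=
        IsHomLift.lift_id_inv (QuotObj.forget Scheme.etalePrecoverage G aX) (Over.mk t₀) h
      exact ⟨⟨⟨h.hom, hlift⟩, ⟨h.inv, hlift'⟩, Subtype.ext h.hom_inv_id, Subtype.ext h.inv_hom_id⟩⟩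
  · intro x
    refine ⟨⟨(quotMap Scheme.etalePrecoverage G aX).obj ⟨Over.mk t₀, ⟨x⟩⟩, rfl⟩,
      unitSec (Over.mk t₀), ?_, ?_⟩
    · rw [eqToHom_refl]
      exact unitSec_snd _
    · exact unitSec_whisker_act x

end Groth.Agent.Lib.QuotStPts
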