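import Groth.Agent.Lib.QuotStDesc_lead
import Groth.Agent.Lib.QuotStPts_lead
import Groth.Agent.Lib.AlgStDiagRep2_lead
import Groth.Prelude.Def_StCoarse
import Groth.Prelude.Def_W4bk4git07Quot

/-! # `[X/G] ⟶ Y` as a categorical / coarse moduli space (lead) -/

set_option backward.isDefEq.respectTransparency false
set_option backward.isDefEq.respectTransparency.types false
set_option linter.unusedSimpArgs false
set_option linter.unusedVariables false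
set_option linter.unusedSectionVars false
set_option linter.style.longLine false
set_option maxHeartbeats 800000

universe w v₂ u₂ v u

open CategoryTheory CategoryTheory.Limits MonoidalCategory CartesianMonoidalCategory MonObj GrpObj AlgebraicGeometry Opposite

namespace Groth.Agent.Lib.QuotStModuli

open AlgSt FibCat Stk Groth.Agent.Lib.QuotStBasic Groth.Agent.Lib.QuotStCart
  Groth.Agent.Lib.QuotStDesc Groth.Agent.Lib.QuotStPts Groth.Agent.Lib.OfPshCalc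

section generic

variable {C : Type u} [Category.{v} C] {𝒳 : BasedCategory.{v₂, u₂} C} {Q : Cᵒᵖ ⥤ Type w}

theorem gsec_congr {Φ Ψ : 𝒳 ⥤ᵇ ofPsh Q} (α : Φ ≅ Ψ) (a : 𝒳.obj) : gsec Φ a = gsec Ψ a := by
  have hn : (ofPsh Q).p.IsHomLift (𝟙 (𝒳.p.obj a)) (α.hom.toNatTrans.app a) :=
    α.hom.isHomLift' a
  have h1 : (α.hom.toNatTrans.app a).hom =
      eqToHom (gbase_eq Φ a) ≫ 𝟙 _ ≫ eqToHom (gbase_eq Ψ a).symm :=
    IsHomLift.fac' (ofPsh Q).p (𝟙 (𝒳.p.obj a)) (α.hom.toNatTrans.app a)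
  have h2 : eqToHom (gbase_eq Φ a).symm ≫ (α.hom.toNatTrans.app a).hom =
      eqToHom (gbase_eq Ψ a).symm := by
    rw [h1]; simp
  unfold gsec
  rw [← (α.hom.toNatTrans.app a).map_sec, ← map_comp_op_apply, h2]

/-- isomorphic functors over the base into the category of a presheaf are equal -/
theorem eq_of_iso {Φ Ψ : 𝒳 ⥤ᵇ ofPsh Q} (α : Φ ≅ Ψ) : Φ = Ψ := ext_of_gsec Φ Ψ (gsec_congr α)

end generic

section desc

variable {S : Scheme.{u}} {K : Precoverage Scheme.{u}} [K.HasIsos] {G : Over S} [GrpObj G] {X : Over S}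
  {aX : AlgGrp.Action G X} {Mp : (Over S)ᵒᵖ ⥤ Type (u + 1)}

/-- `X ⟶ [X/G]` is an epimorphism for functors into sheaves -/
theorem q_epi (hM : Presieve.IsSheaf (QuotSh.J K S) Mp) (Φ Ψ : QuotSt K G aX ⥤ᵇ Stk.ofPsh Mp)
    (h : BasedFunctor.comp (quotMap K G aX) Φ = BasedFunctor.comp (quotMap K G aX) Ψ) : Φ = Ψ := by
  apply ext_of_gsec
  intro A
  apply (hM _ (secSieve_mem A)).isSeparatedFor.ext
  rintro T' t ⟨s, rfl⟩
  have h1 := gsec_map Φ (trivHom A s)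
  have h2 := gsec_map Ψ (trivHom A s)
  have e : gsec Φ ((quotMap K G aX).obj ((ofOverCat X).obj (Over.mk (s ≫ A.φ)))) =
      gsec Ψ ((quotMap K G aX).obj ((ofOverCat X).obj (Over.mk (s ≫ A.φ)))) :=
    congrArg (fun F : ofSch X ⥤ᵇ Stk.ofPsh Mp =>
      gsec F ((ofOverCat X).obj (Over.mk (s ≫ A.φ)))) h
  exact h1.trans (e.trans h2.symm)

theorem inv_of_factor (Φ : QuotSt K G aX ⥤ᵇ Stk.ofPsh Mp) (f₀ : ((AlgSp.yon S).obj X).obj ⟶ Mp)
    (h : BasedFunctor.comp (quotMap K G aX) Φ = Stk.ofPshMap f₀) (T : Over S) (v : T ⟶ G ⊗ X) :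
    f₀.app (op T) ⟨v ≫ aX.act⟩ = f₀.app (op T) ⟨v ≫ snd G X⟩ := by
  have key : ∀ x : T ⟶ X,
      f₀.app (op T) ⟨x⟩ = gsec Φ ((quotMap K G aX).obj (⟨T, ⟨x⟩⟩ : (ofSch X).obj)) := by
    intro x
    have h1 : gsec Φ ((quotMap K G aX).obj (⟨T, ⟨x⟩⟩ : (ofSch X).obj)) =
        gsec (BasedFunctor.comp (quotMap K G aX) Φ) (⟨T, ⟨x⟩⟩ : (ofSch X).obj) := rfl
    rw [h1, h, gsec_ofPshMap]
  rw [key, key]
  have h2 := gsec_map Φ (epsHom K G aX (⟨T, ⟨v⟩⟩ : (ofSch (G ⊗ X)).obj))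
  have h3 : Mp.map (𝟙 T).op
      (gsec Φ ((quotMap K G aX).obj (⟨T, ⟨v ≫ snd G X⟩⟩ : (ofSch X).obj))) =
      gsec Φ ((quotMap K G aX).obj (⟨T, ⟨v ≫ aX.act⟩⟩ : (ofSch X).obj)) := h2
  exact h3.symm.trans (map_id_op_apply Mp _ _)

theorem factor_eq (Ψ : ofSch X ⥤ᵇ Stk.ofPsh Mp) : Ψ = Stk.ofPshMap (mapOf Ψ) :=
  eq_of_iso (isoOf Ψ)

end desc

section moduli

variable {S : Scheme.{u}} {G : Over S} [GrpObj G] {X Y : Over S} {aX : AlgGrp.Action G X}

theorem sheafOf (N : AlgSp.Sp S) : Presieve.IsSheaf (QuotSh.J Scheme.fppfPrecoverage S) N.obj :=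
  (isSheaf_iff_isSheaf_of_type _ _).1 N.property

omit [GrpObj G] in
theorem ofSpMap_injective {A N : AlgSp.Sp S} (a b : A ⟶ N) (h : ofSpMap a = ofSpMap b) : a = b := by
  apply ObjectProperty.hom_ext
  have h1 : mapOf (Stk.ofPshMap a.hom) = mapOf (Stk.ofPshMap b.hom) := congrArg mapOf h
  rwa [mapOf_ofPshMap, mapOf_ofPshMap] at h1

/-- the map of sheaves `h_X ⟶ N` determined by a functor `[X/G] ⟶ N` -/
noncomputable def mOfFun (N : AlgSp.Sp S) (φ : QuotSt Scheme.fppfPrecoverage G aX ⥤ᵇ ofSp N) :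
    (AlgSp.yon S).obj X ⟶ N :=
  ObjectProperty.homMk (mapOf (BasedFunctor.comp (quotMap Scheme.fppfPrecoverage G aX) φ))

theorem comp_q_eq (N : AlgSp.Sp S) (φ : QuotSt Scheme.fppfPrecoverage G aX ⥤ᵇ ofSp N) :
    BasedFunctor.comp (quotMap Scheme.fppfPrecoverage G aX) φ = ofSpMap (mOfFun N φ) :=
  factor_eq _

theorem mOfFun_inv (N : AlgSp.Sp S) (φ : QuotSt Scheme.fppfPrecoverage G aX ⥤ᵇ ofSp N) :
    (AlgSp.yon S).map aX.act ≫ mOfFun N φ = (AlgSp.yon S).map (snd G X) ≫ mOfFun N φ := by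
  apply ObjectProperty.hom_ext
  apply NatTrans.ext
  funext T
  ext v
  exact inv_of_factor φ (mOfFun N φ).hom (comp_q_eq N φ) T.unop v.down

variable (π : QuotSt Scheme.fppfPrecoverage G aX ⥤ᵇ ofSch Y) (f : X ⟶ Y)
  (hπ : BasedFunctor.comp (quotMap Scheme.fppfPrecoverage G aX) π = ofSpMap ((AlgSp.yon S).map f))

include hπ in
theorem factor_iff (N : AlgSp.Sp S) (φ : QuotSt Scheme.fppfPrecoverage G aX ⥤ᵇ ofSp N)
    (g : (AlgSp.yon S).obj Y ⟶ N) :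
    Nonempty (BasedFunctor.comp π (ofSpMap g) ≅ φ) ↔ (AlgSp.yon S).map f ≫ g = mOfFun N φ := by
  have hc : BasedFunctor.comp (quotMap Scheme.fppfPrecoverage G aX)
      (BasedFunctor.comp π (ofSpMap g)) = ofSpMap ((AlgSp.yon S).map f ≫ g) := by
    have h1 : BasedFunctor.comp (quotMap Scheme.fppfPrecoverage G aX)
        (BasedFunctor.comp π (ofSpMap g)) =
        BasedFunctor.comp (BasedFunctor.comp (quotMap Scheme.fppfPrecoverage G aX) π)
          (ofSpMap g) := rfl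
    rw [h1, hπ]
    rfl
  constructor
  · rintro ⟨α⟩
    have e := eq_of_iso α
    apply ofSpMap_injective
    rw [← hc, e, comp_q_eq]
  · intro h
    have e : BasedFunctor.comp π (ofSpMap g) = φ := by
      apply q_epi (sheafOf N)
      rw [hc, h, ← comp_q_eq]
    exact ⟨eqToIso e⟩

include hπ in
theorem invariant_f : aX.act ≫ f = snd G X ≫ f := by
  have h1 := inv_of_factor π ((AlgSp.yon S).map f).hom hπ (G ⊗ X) (𝟙 _)
  have h2 : (𝟙 (G ⊗ X) ≫ aX.act) ≫ f = (𝟙 (G ⊗ X) ≫ snd G X) ≫ f := congrArg ULift.down h1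
  rw [Category.id_comp, Category.id_comp] at h2
  exact h2

include hπ in
theorem catModuliSch_iff : AlgSt.IsCatModuliSch π ↔ GIT.IsCatQuot aX f := by
  constructor
  · intro hcm
    obtain ⟨-, huniv⟩ := hcm
    refine ⟨invariant_f π f hπ, fun Z ψ hψ => ?_⟩
    have hψ' : aX.act ≫ ψ = snd G X ≫ ψ := hψ
    have hpt : ∀ (T : Over S) (v : T ⟶ G ⊗ X),
        ((AlgSp.yon S).map ψ).hom.app (op T) ⟨v ≫ aX.act⟩ =
          ((AlgSp.yon S).map ψ).hom.app (op T) ⟨v ≫ snd G X⟩ := by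
      intro T v
      apply ULift.ext
      show (v ≫ aX.act) ≫ ψ = (v ≫ snd G X) ≫ ψ
      rw [Category.assoc, Category.assoc, hψ']
    obtain ⟨φ, hφ, -⟩ := existsUnique_descFun (sheafOf ((AlgSp.yon S).obj Z))
      ((AlgSp.yon S).map ψ).hom hpt
    have hm : mOfFun ((AlgSp.yon S).obj Z) φ = (AlgSp.yon S).map ψ := by
      apply ofSpMap_injective
      rw [← comp_q_eq]
      exact hφ
    obtain ⟨g, hg, huniq⟩ := huniv ((AlgSp.yon S).obj Z)
      (AlgSp.representableByOfIso (Iso.refl _)).isRepresentable φ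
    obtain ⟨χ, rfl⟩ := (AlgSp.yon S).map_surjective g
    have h1 := (factor_iff π f hπ _ φ _).1 hg
    rw [hm, ← CategoryTheory.Functor.map_comp] at h1
    refine ⟨χ, (AlgSp.yon S).map_injective h1, fun χ' hχ' => ?_⟩
    have h2 : Nonempty (BasedFunctor.comp π (ofSpMap ((AlgSp.yon S).map χ')) ≅ φ) :=
      (factor_iff π f hπ _ φ _).2 (by rw [hm, ← CategoryTheory.Functor.map_comp, hχ'])
    exact (AlgSp.yon S).map_injective (huniq _ h2)
  · intro hcq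
    obtain ⟨-, huniv⟩ := hcq
    refine ⟨(AlgSp.representableByOfIso (Iso.refl _)).isRepresentable, fun N hN φ => ?_⟩
    obtain ⟨Z, ⟨rep⟩⟩ := hN.has_representation
    obtain ⟨e, -⟩ : ∃ e : (AlgSp.yon S).obj Z ≅ N, True := ⟨AlgSp.isoOfRepresentableBy rep, trivial⟩
    obtain ⟨ψ, hψ⟩ := (AlgSp.yon S).map_surjective (mOfFun N φ ≫ e.inv)
    have hψinv : GIT.IsInvariant aX ψ := by
      show aX.act ≫ ψ = snd G X ≫ ψ
      apply (AlgSp.yon S).map_injective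
      rw [CategoryTheory.Functor.map_comp, CategoryTheory.Functor.map_comp, hψ, ← Category.assoc,
        ← Category.assoc, mOfFun_inv]
    obtain ⟨χ, hχ, hχu⟩ := huniv Z ψ hψinv
    have hχ' : f ≫ χ = ψ := hχ
    refine ⟨(AlgSp.yon S).map χ ≫ e.hom, ?_, ?_⟩
    · show Nonempty (BasedFunctor.comp π (ofSpMap ((AlgSp.yon S).map χ ≫ e.hom)) ≅ φ)
      apply (factor_iff π f hπ N φ _).2
      rw [← Category.assoc, ← CategoryTheory.Functor.map_comp, hχ', hψ, Category.assoc,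
        e.inv_hom_id, Category.comp_id]
    · intro g' hg'
      have h1 := (factor_iff π f hπ N φ g').1 hg'
      obtain ⟨χ₂, hχ₂⟩ := (AlgSp.yon S).map_surjective (g' ≫ e.inv)
      have h2 : f ≫ χ₂ = ψ := by
        apply (AlgSp.yon S).map_injective
        rw [CategoryTheory.Functor.map_comp, hχ₂, ← Category.assoc, h1, hψ]
      have h3 : χ₂ = χ := hχu χ₂ h2
      rw [← h3, hχ₂, Category.assoc, e.inv_hom_id, Category.comp_id]

/-! ### coarse moduli -/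

theorem exists_section_algClosed_fppf {Ω : Type u} [Field Ω] [IsAlgClosed Ω]
    (t₀ : Spec (CommRingCat.of Ω) ⟶ S) (A : QuotObj Scheme.fppfPrecoverage G aX)
    (hA : A.base = Over.mk t₀) : ∃ t : Over.mk t₀ ⟶ A.P, t ≫ A.π = eqToHom hA.symm := by
  obtain ⟨base, P, act, π, cart, loc, φ, eqv⟩ := A
  dsimp only at hA
  subst hA
  obtain ⟨R, hR, hsec⟩ := loc
  haveI : Scheme.JointlySurjective Scheme.fppfPrecoverage.{u} := by
    unfold Scheme.fppfPrecoverage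
    infer_instance
  obtain ⟨W, g, hg, ⟨w, -⟩⟩ := Scheme.JointlySurjective.exists_eq R hR
    (IsLocalRing.closedPoint Ω : ↥(Spec (CommRingCat.of Ω)))
  haveI : LocallyOfFinitePresentation g := (hR.2 hg).2
  haveI : Nonempty ↥W := ⟨w⟩
  obtain ⟨τ, hτ⟩ := Groth.Agent.Lib.AlgStLocQ.exists_section_of_lft_algClosed g
  obtain ⟨s, hs⟩ := hsec g hg
  have hs' : s ≫ π.left = g := hs
  have h1 : π.left ≫ t₀ = P.hom := Over.w π
  refine ⟨Over.homMk (τ ≫ s) ?_, ?_⟩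
  · show (τ ≫ s) ≫ P.hom = t₀
    rw [← h1, Category.assoc, reassoc_of% hs', reassoc_of% hτ]
  · rw [eqToHom_refl]
    ext
    show (τ ≫ s) ≫ π.left = 𝟙 _
    rw [Category.assoc, hs', hτ]

theorem fiber_iso_of_g {K : Precoverage Scheme.{u}} [K.HasIsos] {T : Over S}
    (A B : (QuotObj.forget K G aX).Fiber T)
    (tA : T ⟶ A.1.P) (tB : T ⟶ B.1.P) (htA : tA ≫ A.1.π = eqToHom A.2.symm)
    (htB : tB ≫ B.1.π = eqToHom B.2.symm)
    (g : T ⟶ G) (hg : lift g (tA ≫ A.1.φ) ≫ aX.act = tB ≫ B.1.φ) : Nonempty (A ≅ B) := by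
  haveI : IsIso (tA ≫ A.1.π) := by rw [htA]; infer_instance
  haveI : IsIso (tB ≫ B.1.π) := by rw [htB]; infer_instance
  obtain ⟨h, hh⟩ := exists_iso_of_g tA tB g hg
  have hb : h.hom.base = eqToHom A.2 ≫ 𝟙 _ ≫ eqToHom B.2.symm := by
    rw [htA, htB] at hh
    rw [← cancel_epi (eqToHom A.2.symm), hh]
    simp
  have hlift : (QuotObj.forget K G aX).IsHomLift (𝟙 T) h.hom :=
    IsHomLift.of_fac' _ _ _ A.2 B.2 hb
  have hlift' : (QuotObj.forget K G aX).IsHomLift (𝟙 T) h.inv :=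
    IsHomLift.lift_id_inv (QuotObj.forget K G aX) T h
  exact ⟨⟨⟨h.hom, hlift⟩, ⟨h.inv, hlift'⟩, Subtype.ext h.hom_inv_id, Subtype.ext h.inv_hom_id⟩⟩

include hπ in
theorem fibSec_of_section {T : Over S} (x : (QuotSt Scheme.fppfPrecoverage G aX).p.Fiber T)
    (s : T ⟶ x.1.P) (hs : s ≫ x.1.π = eqToHom x.2.symm) :
    fibSec π x = ⟨(s ≫ x.1.φ) ≫ f⟩ := by
  have h1 := gsec_map π (trivHom x.1 s)
  have h2 : gsec π ((quotMap Scheme.fppfPrecoverage G aX).obj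
        ((ofOverCat X).obj (Over.mk (s ≫ x.1.φ)))) =
      gsec (BasedFunctor.comp (quotMap Scheme.fppfPrecoverage G aX) π)
        ((ofOverCat X).obj (Over.mk (s ≫ x.1.φ))) := rfl
  rw [h2, hπ, gsec_ofPshMap] at h1
  have h3 : (QuotSt Scheme.fppfPrecoverage G aX).p.map (trivHom x.1 s) = eqToHom x.2.symm := hs
  rw [h3] at h1
  have h4 : fibSec π x =
      ((AlgSp.yon S).obj Y).obj.map (eqToHom x.2.symm).op (gsec π x.1) := by
    unfold fibSec gsec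
    rw [← map_comp_op_apply, eqToHom_trans]
    rfl
  exact h4.trans (h1.trans rfl)

include hπ in
theorem geomPtBij
    (horb : ∀ (Ω : Type u) [Field Ω] [IsAlgClosed Ω] (t : Spec (CommRingCat.of Ω) ⟶ S),
      (∀ y : Over.mk t ⟶ Y, ∃ x : Over.mk t ⟶ X, x ≫ f = y) ∧
      (∀ x x' : Over.mk t ⟶ X, x ≫ f = x' ≫ f → ∃ g : Over.mk t ⟶ G, lift g x' ≫ aX.act = x)) :
    AlgSt.GeomPtBij π := by
  intro Ω _ _ t
  refine ⟨fun m => ?_, fun x y hxy => ?_⟩
  · obtain ⟨x₀, hx₀⟩ := (horb Ω t).1 m.down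
    let x : (QuotSt Scheme.fppfPrecoverage G aX).p.Fiber (Over.mk t) :=
      ⟨(quotMap Scheme.fppfPrecoverage G aX).obj ⟨Over.mk t, ⟨x₀⟩⟩, rfl⟩
    have hs : unitSec (G := G) (Over.mk t) ≫ x.1.π = eqToHom x.2.symm := by
      rw [eqToHom_refl]
      exact unitSec_snd _
    refine ⟨x, ?_⟩
    rw [fibSec_of_section π f hπ x (unitSec (Over.mk t)) hs]
    apply ULift.ext
    show (unitSec (Over.mk t) ≫ (G ◁ x₀) ≫ aX.act) ≫ f = m.down
    rw [unitSec_whisker_act, hx₀]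
  · obtain ⟨tA, htA⟩ := exists_section_algClosed_fppf t x.1 x.2
    obtain ⟨tB, htB⟩ := exists_section_algClosed_fppf t y.1 y.2
    rw [fibSec_of_section π f hπ x tA htA, fibSec_of_section π f hπ y tB htB] at hxy
    have h1 : (tA ≫ x.1.φ) ≫ f = (tB ≫ y.1.φ) ≫ f := congrArg ULift.down hxy
    obtain ⟨g, hg⟩ := (horb Ω t).2 (tB ≫ y.1.φ) (tA ≫ x.1.φ) h1.symm
    exact fiber_iso_of_g x y tA tB htA htB g hg

include hπ in
theorem coarseModuli
    (horb : ∀ (Ω : Type u) [Field Ω] [IsAlgClosed Ω] (t : Spec (CommRingCat.of Ω) ⟶ S),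
      (∀ y : Over.mk t ⟶ Y, ∃ x : Over.mk t ⟶ X, x ≫ f = y) ∧
      (∀ x x' : Over.mk t ⟶ X, x ≫ f = x' ≫ f → ∃ g : Over.mk t ⟶ G, lift g x' ≫ aX.act = x))
    (hcat : ∀ (N : AlgSp.Space S) (ψ : (AlgSp.yon S).obj X ⟶ N.obj),
      (AlgSp.yon S).map aX.act ≫ ψ = (AlgSp.yon S).map (snd G X) ≫ ψ →
        ∃! χ : (AlgSp.yon S).obj Y ⟶ N.obj, (AlgSp.yon S).map f ≫ χ = ψ) :
    AlgSt.IsCoarseModuli π := by
  refine ⟨⟨AlgSp.IsAlgSpace.yon_obj Y, fun N hN φ => ?_⟩, geomPtBij π f hπ horb⟩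
  obtain ⟨χ, hχ, hχu⟩ := hcat ⟨N, hN⟩ (mOfFun N φ) (mOfFun_inv N φ)
  exact ⟨χ, (factor_iff π f hπ N φ χ).2 hχ, fun g' hg' => hχu g' ((factor_iff π f hπ N φ g').1 hg')⟩

end moduli

end Groth.Agent.Lib.QuotStModuli
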