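import Mathlib
import Groth.Prelude.Def_StCoarse
import Groth.Prelude.Def_StGerb
import Groth.Agent.Lib.QuotStModuli_lead
import Groth.Agent.Lib.AlgStDiagSurj_lead

/-! # Coarse moduli spaces along a gerbe (lead) -/

set_option autoImplicit false
set_option linter.unusedSimpArgs false
set_option linter.unusedVariables false
set_option linter.unusedSectionVars false
set_option linter.style.longLine false
set_option linter.unnecessarySimpa false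
set_option maxHeartbeats 1600000
set_option backward.isDefEq.respectTransparency false
set_option backward.isDefEq.respectTransparency.types false
set_option backward.defeqAttrib.useBackward true

universe u

open CategoryTheory CategoryTheory.Limits AlgebraicGeometry Opposite

namespace Groth.Agent.Lib.GerbCoarse

open AlgSt FibCat Stk Gerb Groth.Agent.Lib.OfPshCalc Groth.Agent.Lib.QuotStDesc
  Groth.Agent.Lib.QuotStModuli Groth.Agent.Lib.FibCat_helper6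

variable {S : Scheme.{u}}

/-- every fppf covering sieve of the spectrum of an algebraically closed field contains the
identity -/
theorem id_mem_of_mem_J {Ω : Type u} [Field Ω] [IsAlgClosed Ω] (t : Spec (CommRingCat.of Ω) ⟶ S)
    (R : Sieve (Over.mk t)) (hR : R ∈ QuotSh.J Scheme.fppfPrecoverage S (Over.mk t)) :
    R (𝟙 (Over.mk t)) := by
  have hR0 : R ∈ AlgSp.J S (Over.mk t) := hR
  rw [AlgSp.J_eq, GrothendieckTopology.mem_over_iff] at hR0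
  haveI : (@Flat ⊓ @LocallyOfFinitePresentation : MorphismProperty Scheme.{u}).IsMultiplicative :=
    { id_mem := fun X => ⟨inferInstance, inferInstance⟩
      comp_mem := fun f g hf hg =>
        ⟨by haveI := hf.1; haveI := hg.1; exact (inferInstance : Flat (f ≫ g)),
          by haveI := hf.2; haveI := hg.2
             exact (inferInstance : LocallyOfFinitePresentation (f ≫ g))⟩ }
  have hR' : Sieve.overEquiv (Over.mk t) R ∈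
      Scheme.grothendieckTopology (@Flat ⊓ @LocallyOfFinitePresentation) (Over.mk t).left := hR0
  obtain ⟨𝒰, h𝒰⟩ := Scheme.exists_cover_of_mem_grothendieckTopology hR'
  obtain ⟨i, x, hx⟩ := 𝒰.exists_eq (IsLocalRing.closedPoint Ω : ↥(Spec (CommRingCat.of Ω)))
  have h1 : (Sieve.overEquiv (Over.mk t) R) (𝒰.f i) := h𝒰 _ _ (Presieve.ofArrows.mk i)
  haveI : LocallyOfFinitePresentation (𝒰.f i) := (𝒰.map_prop i).2
  haveI : Nonempty ↥(𝒰.X i) := ⟨x⟩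
  obtain ⟨τ, hτ⟩ := Groth.Agent.Lib.AlgStLocQ.exists_section_of_lft_algClosed (k := Ω)
    (𝒰.f i : 𝒰.X i ⟶ Spec (CommRingCat.of Ω))
  have h2 : (Sieve.overEquiv (Over.mk t) R) (τ ≫ 𝒰.f i) :=
    (Sieve.overEquiv (Over.mk t) R).downward_closed h1 τ
  have h3 : R = (Sieve.overEquiv (Over.mk t)).symm (Sieve.overEquiv (Over.mk t) R) :=
    (OrderIso.symm_apply_apply _ _).symm
  rw [h3, Sieve.overEquiv_symm_iff]
  have h4 : τ ≫ 𝒰.f i = Over.Hom.left (𝟙 (Over.mk t)) := hτ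
  rw [← h4]
  exact h2

section

variable {𝒳 𝒴 : AlgSt.Cat S}

/-- image of an object of a fibre -/
abbrev mapFib (F : 𝒳 ⥤ᵇ 𝒴) {T : Over S} (x : 𝒳.p.Fiber T) : 𝒴.p.Fiber T :=
  ⟨F.obj x.1, (F.w_obj x.1).trans x.2⟩

theorem fibSec_eq {M : AlgSp.Sp S} (π : 𝒳 ⥤ᵇ ofSp M) {T : Over S} (x : 𝒳.p.Fiber T) :
    fibSec π x = M.obj.map (eqToHom x.2.symm).op (gsec π x.1) := by
  unfold fibSec gsec
  rw [← map_comp_op_apply, eqToHom_trans]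
  rfl

theorem fibSec_eq_of_hom {M : AlgSp.Sp S} (π : 𝒳 ⥤ᵇ ofSp M) {T : Over S} (a b : 𝒳.p.Fiber T)
    (g : a.1 ⟶ b.1) (hg : 𝒳.p.IsHomLift (𝟙 T) g) : fibSec π a = fibSec π b := by
  haveI := hg
  have h1 : 𝒳.p.map g = eqToHom a.2 ≫ 𝟙 T ≫ eqToHom b.2.symm := IsHomLift.fac' 𝒳.p (𝟙 T) g
  have h2 : eqToHom a.2.symm ≫ 𝒳.p.map g = eqToHom b.2.symm := by rw [h1]; simp
  calc fibSec π a = M.obj.map (eqToHom a.2.symm).op (gsec π a.1) := fibSec_eq π a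
    _ = M.obj.map (eqToHom a.2.symm).op (M.obj.map (𝒳.p.map g).op (gsec π b.1)) := by
        rw [gsec_map π g]
    _ = M.obj.map (eqToHom a.2.symm ≫ 𝒳.p.map g).op (gsec π b.1) :=
        (map_comp_op_apply M.obj _ _ _).symm
    _ = M.obj.map (eqToHom b.2.symm).op (gsec π b.1) := by rw [h2]
    _ = fibSec π b := (fibSec_eq π b).symm

theorem fibSec_comp {M : AlgSp.Sp S} (F : 𝒳 ⥤ᵇ 𝒴) (π : 𝒴 ⥤ᵇ ofSp M) {T : Over S}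
    (x : 𝒳.p.Fiber T) : fibSec (BasedFunctor.comp F π) x = fibSec π (mapFib F x) := rfl

theorem fiber_iso_of_hom (h : IsFibGrpd 𝒳.p) {T : Over S} (a b : 𝒳.p.Fiber T) (g : a.1 ⟶ b.1)
    (hg : 𝒳.p.IsHomLift (𝟙 T) g) : Nonempty (a ≅ b) := by
  haveI := hg
  haveI : IsIso g := isIso_of_isFibGrpd_id h (R := T) g
  have hinv : 𝒳.p.IsHomLift (𝟙 T) (inv g) := inferInstance
  exact ⟨⟨⟨g, hg⟩, ⟨inv g, hinv⟩, Subtype.ext (IsIso.hom_inv_id g),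
    Subtype.ext (IsIso.inv_hom_id g)⟩⟩

variable (F : 𝒳 ⥤ᵇ 𝒴) {T : Over S}

theorem exists_lift_obj (hF : LocSurjObj (QuotSh.J Scheme.fppfPrecoverage S) F)
    (hT : ∀ R ∈ QuotSh.J Scheme.fppfPrecoverage S T, R (𝟙 T)) (y : 𝒴.p.Fiber T) :
    ∃ (x : 𝒳.p.Fiber T) (g : (mapFib F x).1 ⟶ y.1), 𝒴.p.IsHomLift (𝟙 T) g := by
  obtain ⟨y0, hy⟩ := y
  subst hy
  obtain ⟨R, hR, h⟩ := hF y0
  obtain ⟨x, g, hg⟩ := h (𝟙 _) (hT R hR)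
  haveI := hg
  exact ⟨⟨x, (F.w_obj x).symm.trans (IsHomLift.domain_eq 𝒴.p (𝟙 _) g)⟩, g, hg⟩

theorem exists_lift_hom (h𝒳 : IsFibGrpd 𝒳.p)
    (hF : LocSurjHom (QuotSh.J Scheme.fppfPrecoverage S) F)
    (hT : ∀ R ∈ QuotSh.J Scheme.fppfPrecoverage S T, R (𝟙 T)) (x x' : 𝒳.p.Fiber T)
    (b : F.obj x.1 ⟶ F.obj x'.1) (hb : 𝒴.p.IsHomLift (𝟙 T) b) :
    ∃ g : x.1 ⟶ x'.1, 𝒳.p.IsHomLift (𝟙 T) g := by
  obtain ⟨x0, hx⟩ := x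
  subst hx
  obtain ⟨R, hR, h⟩ := hF x0 x'.1 b hb
  obtain ⟨x₀, φ, ψ, hφ, hψ, -⟩ := h (𝟙 _) (hT R hR)
  haveI := hφ
  haveI := hψ
  haveI : IsIso φ := isIso_of_isFibGrpd_id h𝒳 (R := 𝒳.p.obj x0) φ
  exact ⟨inv φ ≫ ψ, inferInstance⟩

/-- the cleaned-up universal property of `F` -/
def HU (F : 𝒳 ⥤ᵇ 𝒴) : Prop :=
  ∀ (N : AlgSp.Sp S), AlgSp.IsAlgSpace N → ∀ φ : 𝒳 ⥤ᵇ AlgSt.ofSp N,
    ∃ ψ : 𝒴 ⥤ᵇ AlgSt.ofSp N, BasedFunctor.comp F ψ = φ ∧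
      ∀ ψ' : 𝒴 ⥤ᵇ AlgSt.ofSp N, BasedFunctor.comp F ψ' = φ → ψ' = ψ

theorem hu_of_huniv
    (huniv : ∀ (N : AlgSp.Sp S), AlgSp.IsAlgSpace N → ∀ φ : 𝒳 ⥤ᵇ AlgSt.ofSp N,
      ∃ ψ : 𝒴 ⥤ᵇ AlgSt.ofSp N, Nonempty (BasedFunctor.comp F ψ ≅ φ) ∧
        ∀ ψ' : 𝒴 ⥤ᵇ AlgSt.ofSp N, Nonempty (BasedFunctor.comp F ψ' ≅ φ) → Nonempty (ψ' ≅ ψ)) :
    HU F := by
  intro N hN φ
  obtain ⟨ψ, ⟨e⟩, hu⟩ := huniv N hN φ
  refine ⟨ψ, eq_of_iso e, fun ψ' h => ?_⟩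
  obtain ⟨e'⟩ := hu ψ' ⟨eqToIso h⟩
  exact eq_of_iso e'

theorem catModuli_comp (hU : HU F) {M : AlgSp.Sp S} (π : 𝒴 ⥤ᵇ ofSp M)
    (hπ : IsCatModuliIn (AlgSp.IsAlgSpace (S := S)) π) :
    IsCatModuliIn (AlgSp.IsAlgSpace (S := S)) (BasedFunctor.comp F π) := by
  refine ⟨hπ.1, fun N hN φ => ?_⟩
  obtain ⟨ψ, hψ, hψu⟩ := hU N hN φ
  obtain ⟨g, ⟨eg⟩, hgu⟩ := hπ.2 N hN ψ
  have hg : BasedFunctor.comp π (ofSpMap g) = ψ := eq_of_iso eg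
  have h0 : BasedFunctor.comp (BasedFunctor.comp F π) (ofSpMap g) = φ := by
    show BasedFunctor.comp F (BasedFunctor.comp π (ofSpMap g)) = φ
    rw [hg, hψ]
  refine ⟨g, ⟨eqToIso h0⟩, ?_⟩
  rintro g' ⟨eg'⟩
  have h1 : BasedFunctor.comp (BasedFunctor.comp F π) (ofSpMap g') = φ := eq_of_iso eg'
  have h2 : BasedFunctor.comp π (ofSpMap g') = ψ := hψu _ h1
  exact hgu g' ⟨eqToIso h2⟩

theorem catModuli_desc (hU : HU F) {M : AlgSp.Sp S} (ψ : 𝒴 ⥤ᵇ ofSp M)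
    (hπ : IsCatModuliIn (AlgSp.IsAlgSpace (S := S)) (BasedFunctor.comp F ψ)) :
    IsCatModuliIn (AlgSp.IsAlgSpace (S := S)) ψ := by
  refine ⟨hπ.1, fun N hN φ => ?_⟩
  obtain ⟨g, ⟨eg⟩, hgu⟩ := hπ.2 N hN (BasedFunctor.comp F φ)
  have hg : BasedFunctor.comp (BasedFunctor.comp F ψ) (ofSpMap g) = BasedFunctor.comp F φ :=
    eq_of_iso eg
  obtain ⟨ψ₀, -, hψ₀u⟩ := hU N hN (BasedFunctor.comp F φ)
  have h1 : BasedFunctor.comp ψ (ofSpMap g) = ψ₀ := hψ₀u _ hg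
  have h2 : φ = ψ₀ := hψ₀u _ rfl
  refine ⟨g, ⟨eqToIso (h1.trans h2.symm)⟩, ?_⟩
  rintro g' ⟨eg'⟩
  have h3 : BasedFunctor.comp ψ (ofSpMap g') = φ := eq_of_iso eg'
  have h4 : BasedFunctor.comp (BasedFunctor.comp F ψ) (ofSpMap g') = BasedFunctor.comp F φ := by
    rw [← h3]; rfl
  exact hgu g' ⟨eqToIso h4⟩

theorem geomPtBij_comp (h𝒳 : IsFibGrpd 𝒳.p)
    (hF : IsGerbeOver (QuotSh.J Scheme.fppfPrecoverage S) F) {M : AlgSp.Sp S}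
    (π : 𝒴 ⥤ᵇ ofSp M) (hπ : GeomPtBij π) : GeomPtBij (BasedFunctor.comp F π) := by
  intro Ω _ _ t
  have hT := id_mem_of_mem_J t
  obtain ⟨hs, hi⟩ := hπ Ω t
  refine ⟨fun m => ?_, fun x x' hxx' => ?_⟩
  · obtain ⟨y, hy⟩ := hs m
    obtain ⟨x, g, hg⟩ := exists_lift_obj F hF.1 hT y
    refine ⟨x, ?_⟩
    rw [fibSec_comp, fibSec_eq_of_hom π (mapFib F x) y g hg, hy]
  · rw [fibSec_comp, fibSec_comp] at hxx'
    obtain ⟨e⟩ := hi _ _ hxx'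
    obtain ⟨g, hg⟩ := exists_lift_hom F h𝒳 hF.2 hT x x' e.hom.1 e.hom.2
    exact fiber_iso_of_hom h𝒳 x x' g hg

theorem geomPtBij_desc (h𝒴 : IsFibGrpd 𝒴.p)
    (hF : IsGerbeOver (QuotSh.J Scheme.fppfPrecoverage S) F) {M : AlgSp.Sp S}
    (ψ : 𝒴 ⥤ᵇ ofSp M) (hπ : GeomPtBij (BasedFunctor.comp F ψ)) : GeomPtBij ψ := by
  intro Ω _ _ t
  have hT := id_mem_of_mem_J t
  obtain ⟨hs, hi⟩ := hπ Ω t
  refine ⟨fun m => ?_, fun y y' hyy' => ?_⟩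
  · obtain ⟨x, hx⟩ := hs m
    exact ⟨mapFib F x, hx⟩
  · obtain ⟨x, g, hg⟩ := exists_lift_obj F hF.1 hT y
    obtain ⟨x', g', hg'⟩ := exists_lift_obj F hF.1 hT y'
    have h1 : fibSec (BasedFunctor.comp F ψ) x = fibSec (BasedFunctor.comp F ψ) x' := by
      rw [fibSec_comp, fibSec_comp, fibSec_eq_of_hom ψ (mapFib F x) y g hg,
        fibSec_eq_of_hom ψ (mapFib F x') y' g' hg', hyy']
    obtain ⟨e⟩ := hi x x' h1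
    haveI := e.hom.2
    have hFe : 𝒴.p.IsHomLift (𝟙 (Over.mk t)) (F.map e.hom.1) := inferInstance
    obtain ⟨i1⟩ := fiber_iso_of_hom h𝒴 (mapFib F x) y g hg
    obtain ⟨i2⟩ := fiber_iso_of_hom h𝒴 (mapFib F x') y' g' hg'
    obtain ⟨i3⟩ := fiber_iso_of_hom h𝒴 (mapFib F x) (mapFib F x') (F.map e.hom.1) hFe
    exact ⟨i1.symm ≪≫ i3 ≪≫ i2⟩

theorem main (h𝒳 : IsFibGrpd 𝒳.p) (h𝒴 : IsFibGrpd 𝒴.p)
    (hF : Gerb.IsGerbeOver (QuotSh.J Scheme.fppfPrecoverage S) F)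
    (huniv : ∀ (N : AlgSp.Sp S), AlgSp.IsAlgSpace N → ∀ φ : 𝒳 ⥤ᵇ AlgSt.ofSp N,
      ∃ ψ : 𝒴 ⥤ᵇ AlgSt.ofSp N, Nonempty (BasedFunctor.comp F ψ ≅ φ) ∧
        ∀ ψ' : 𝒴 ⥤ᵇ AlgSt.ofSp N, Nonempty (BasedFunctor.comp F ψ' ≅ φ) → Nonempty (ψ' ≅ ψ)) :
    ((∃ (M : AlgSp.Sp S) (π : 𝒴 ⥤ᵇ AlgSt.ofSp M), AlgSt.IsCoarseModuli π) ↔
        ∃ (M : AlgSp.Sp S) (π : 𝒳 ⥤ᵇ AlgSt.ofSp M), AlgSt.IsCoarseModuli π) ∧
      ∀ (M : AlgSp.Sp S) (π : 𝒴 ⥤ᵇ AlgSt.ofSp M), AlgSt.IsCoarseModuli π →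
        AlgSt.IsCoarseModuli (BasedFunctor.comp F π) := by
  have hU := hu_of_huniv F huniv
  have h2 : ∀ (M : AlgSp.Sp S) (π : 𝒴 ⥤ᵇ AlgSt.ofSp M), AlgSt.IsCoarseModuli π →
      AlgSt.IsCoarseModuli (BasedFunctor.comp F π) := fun M π hπ =>
    ⟨catModuli_comp F hU π hπ.1, geomPtBij_comp F h𝒳 hF π hπ.2⟩
  refine ⟨⟨?_, ?_⟩, h2⟩
  · rintro ⟨M, π, hπ⟩
    exact ⟨M, BasedFunctor.comp F π, h2 M π hπ⟩
  · rintro ⟨M, π, hπ⟩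
    obtain ⟨ψ, hψ, -⟩ := hU M hπ.1.1 π
    subst hψ
    exact ⟨M, ψ, catModuli_desc F hU ψ hπ.1, geomPtBij_desc F h𝒴 hF ψ hπ.2⟩

end

end Groth.Agent.Lib.GerbCoarse
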