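import Mathlib
import Groth.Agent.Lib.GerbGlue_helper4

set_option autoImplicit false
set_option linter.style.haveILetI false
set_option linter.unusedSectionVars false

universe v₃ u₃ v₂ u₂ v u

namespace Groth.Agent.Lib.GerbConjH4

open CategoryTheory FibCat Gerb Functor Groth.Agent.Lib.FibCat_helper6
  Groth.Agent.Lib.GerbGlueH4

variable {C : Type u} [Category.{v} C] {𝒳 : BasedCategory.{v₂, u₂} C}
  (J : GrothendieckTopology C) (hfib : IsFibGrpd 𝒳.p) (F : 𝒳 ⥤ᵇ 𝒳) {x : 𝒳.obj}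
  (hT : Limits.IsTerminal (𝒳.p.obj x))
  (g : F.obj x ⟶ x) (hg : 𝒳.p.IsHomLift (𝟙 (𝒳.p.obj x)) g)
  (hconj : ∀ (x' : 𝒳.obj) (c : x' ⟶ x) (g' : F.obj x' ⟶ x'),
    𝒳.p.IsHomLift (𝟙 (𝒳.p.obj x')) g' →
      F.map c ≫ g = g' ≫ c → ∀ α : Gerb.AutO x', F.map α.hom.1 ≫ g' = g' ≫ α.hom.1)

lemma isHomLift_id_of_eq {U V : C} (h : U = V) {a b : 𝒳.obj} (β : a ⟶ b)
    (hβ : 𝒳.p.IsHomLift (𝟙 U) β) : 𝒳.p.IsHomLift (𝟙 V) β := by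
  subst h; exact hβ

/-- a morphism over the identity compatible with `g` along `c` -/
def ConjPair (x₀ : 𝒳.obj) (c : x₀ ⟶ x) (g' : F.obj x₀ ⟶ x₀) : Prop :=
  𝒳.p.IsHomLift (𝟙 (𝒳.p.obj x₀)) g' ∧ F.map c ≫ g = g' ≫ c

include hfib hg in
lemma exists_conjPair (x₀ : 𝒳.obj) (c : x₀ ⟶ x) : ∃ g', ConjPair F g x₀ c g' := by
  haveI := hg
  have h1 : 𝒳.p.IsHomLift (𝟙 (𝒳.p.obj x₀) ≫ 𝒳.p.map c) (F.map c ≫ g) := inferInstance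
  obtain ⟨g', hg', e⟩ := exists_factor hfib (𝒳.p.map c) c inferInstance (𝟙 _) (F.map c ≫ g) h1
  exact ⟨g', hg', e.symm⟩

include hfib hT hconj in
lemma conj_natural {x₀ x₀' : 𝒳.obj} {c : x₀ ⟶ x} {c' : x₀' ⟶ x} {g' : F.obj x₀ ⟶ x₀}
    {g'' : F.obj x₀' ⟶ x₀'} (h : ConjPair F g x₀ c g') (h' : ConjPair F g x₀' c' g'')
    (e : x₀ ⟶ x₀') : g' ≫ e = F.map e ≫ g'' := by
  haveI := h.1
  haveI := h'.1
  have h1 : 𝒳.p.IsHomLift (𝟙 (𝒳.p.obj x₀) ≫ 𝒳.p.map e) (F.map e ≫ g'') := inferInstance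
  obtain ⟨g₁, hg₁, e₁⟩ := exists_factor hfib (𝒳.p.map e) e inferInstance (𝟙 _) (F.map e ≫ g'') h1
  have hc₁ : F.map (e ≫ c') ≫ g = g₁ ≫ e ≫ c' := by
    rw [Functor.map_comp, Category.assoc, h'.2, ← Category.assoc, ← e₁, Category.assoc]
  have hbase : 𝒳.p.map (e ≫ c') = 𝒳.p.map c := hT.hom_ext _ _
  have h3 : 𝒳.p.IsHomLift (𝟙 (𝒳.p.obj x₀) ≫ 𝒳.p.map (e ≫ c')) c := by
    rw [hbase]; infer_instance
  obtain ⟨α, hα, eα⟩ := exists_factor hfib (𝒳.p.map (e ≫ c')) (e ≫ c') inferInstance (𝟙 _) c h3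
  have h4 := hconj x₀ (e ≫ c') g₁ hg₁ hc₁ (mkAutO hfib x₀ α hα)
  change F.map α ≫ g₁ = g₁ ≫ α at h4
  have h5 : g' = g₁ := by
    apply factor_unique hfib (𝒳.p.map c) c inferInstance (𝟙 _) g' g₁ h.1 hg₁
    rw [← h.2, ← eα, Functor.map_comp, Category.assoc, hc₁, ← Category.assoc, h4, Category.assoc]
  rw [h5, e₁]

/-- the relation used for gluing -/
def TestRel (y : 𝒳.obj) ⦃a' : 𝒳.obj⦄ (κ : a' ⟶ F.obj y) (t : a' ⟶ y) : Prop :=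
  ∀ (x₂ : 𝒳.obj) (ν : x₂ ⟶ y) (c₂ : x₂ ⟶ x) (g₂ : F.obj x₂ ⟶ x₂), ConjPair F g x₂ c₂ g₂ →
    ∀ (l : F.obj x₂ ⟶ a'), l ≫ κ = F.map ν → l ≫ t = g₂ ≫ ν

include hfib hT hg hconj in
theorem key (h𝒳 : IsGerbe J 𝒳) (y : 𝒳.obj) :
    ∃ ρ : F.obj y ⟶ y, 𝒳.p.IsHomLift (𝟙 (𝒳.p.obj y)) ρ ∧ ∀ (U : C) (_ : 𝒳.p.obj y = U),
      ∃ R ∈ J U, (∀ ⦃V : C⦄ (f : V ⟶ U), R f →
          ∃ (x₀ : 𝒳.obj) (μ : x₀ ⟶ y) (_ : x₀ ⟶ x), 𝒳.p.IsHomLift f μ) ∧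
        ∀ ⦃V : C⦄ (f : V ⟶ U), R f → ∀ (x₀ : 𝒳.obj) (μ : x₀ ⟶ y) (c : x₀ ⟶ x)
          (g' : F.obj x₀ ⟶ x₀), 𝒳.p.IsHomLift f μ → ConjPair F g x₀ c g' →
            F.map μ ≫ ρ = g' ≫ μ := by
  have hconn : GerbH4.LocConn J 𝒳 := (GerbH4.locSurjHom_toSelf_iff J).mp h𝒳.2.2
  obtain ⟨R, hR, hchart⟩ := cover_s J hfib hconn hT y (𝒳.p.obj y) rfl
  haveI : (Stk.resSieve R 𝒳).IsEquivalence := h𝒳.1.2 R hR
  have hfull : (Stk.resSieve R 𝒳).Full := inferInstance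
  have hex : ∀ ⦃V' : C⦄ (f : V' ⟶ 𝒳.p.obj y), R f → ∀ (a' : 𝒳.obj) (κ : a' ⟶ F.obj y),
      𝒳.p.IsHomLift f κ → ∃ t : a' ⟶ y, 𝒳.p.IsHomLift f t ∧ TestRel F g y κ t := by
    intro V' f hf a' κ hκ
    obtain ⟨x₀, μ, c, hμ⟩ := hchart f hf
    obtain ⟨g', hcj⟩ := exists_conjPair hfib F g hg x₀ c
    haveI := hμ
    have hx₀ : 𝒳.p.obj x₀ = V' := IsHomLift.domain_eq 𝒳.p f μ
    have hFμ : 𝒳.p.IsHomLift f (F.map μ) := inferInstance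
    obtain ⟨k, hk, hkf⟩ := exists_factor hfib f (F.map μ) hFμ (𝟙 V') κ
      (isHomLift_of_eq (Category.id_comp f).symm _ hκ)
    haveI := hk
    haveI hg'V : 𝒳.p.IsHomLift (𝟙 V') g' := isHomLift_id_of_eq hx₀ g' hcj.1
    refine ⟨k ≫ g' ≫ μ, inferInstance, ?_⟩
    intro x₂ ν c₂ g₂ hcj₂ l hl
    let θ : F.obj x₂ ⟶ F.obj x₀ := l ≫ k
    let w₂ : 𝒳.p.obj x₂ ⟶ 𝒳.p.obj x₀ :=
      eqToHom (F.w_obj x₂).symm ≫ 𝒳.p.map θ ≫ eqToHom (F.w_obj x₀)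
    haveI hθ : 𝒳.p.IsHomLift w₂ θ := isHomLift_base θ (F.w_obj x₂) (F.w_obj x₀)
    have hθμ : θ ≫ F.map μ = F.map ν := by
      change (l ≫ k) ≫ F.map μ = F.map ν
      rw [Category.assoc, hkf, hl]
    have hν : 𝒳.p.IsHomLift (w₂ ≫ 𝒳.p.map μ) ν := by
      have h1 : 𝒳.p.IsHomLift (w₂ ≫ 𝒳.p.map μ) (θ ≫ F.map μ) := inferInstance
      rw [hθμ] at h1
      exact BasedFunctor.isHomLift_map F _ ν
    obtain ⟨e₂, he₂, he₂f⟩ := exists_factor hfib (𝒳.p.map μ) μ inferInstance w₂ ν hν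
    haveI := he₂
    have hFe₂ : F.map e₂ = θ := by
      apply factor_unique hfib (𝒳.p.map μ) (F.map μ) inferInstance w₂ (F.map e₂) θ inferInstance hθ
      rw [← Functor.map_comp, he₂f, hθμ]
    have nat := conj_natural hfib F hT g hconj hcj₂ hcj e₂
    calc l ≫ k ≫ g' ≫ μ = θ ≫ g' ≫ μ := by simp only [θ, Category.assoc]
      _ = F.map e₂ ≫ g' ≫ μ := by rw [hFe₂]
      _ = g₂ ≫ e₂ ≫ μ := by rw [← Category.assoc, ← nat, Category.assoc]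
      _ = g₂ ≫ ν := by rw [he₂f]
  have huniq : ∀ ⦃V' : C⦄ (f : V' ⟶ 𝒳.p.obj y), R f → ∀ (a' : 𝒳.obj) (κ : a' ⟶ F.obj y)
      (t t' : a' ⟶ y), 𝒳.p.IsHomLift f κ → 𝒳.p.IsHomLift f t → 𝒳.p.IsHomLift f t' →
      TestRel F g y κ t → TestRel F g y κ t' → t = t' := by
    intro V' f hf a' κ t t' hκ ht ht' hrel hrel'
    obtain ⟨x₀, μ, c, hμ⟩ := hchart f hf
    obtain ⟨g', hcj⟩ := exists_conjPair hfib F g hg x₀ c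
    haveI := hμ
    have hFμ : 𝒳.p.IsHomLift (𝟙 V' ≫ f) (F.map μ) := inferInstance
    obtain ⟨l, hl, hlf⟩ := exists_factor hfib f κ hκ (𝟙 V') (F.map μ) hFμ
    haveI := hl
    haveI : IsIso l := isIso_of_isFibGrpd_id hfib (R := V') l
    have e1 := hrel x₀ μ c g' hcj l hlf
    have e2 := hrel' x₀ μ c g' hcj l hlf
    exact (cancel_epi l).mp (e1.trans e2.symm)
  have hcomp : ∀ ⦃a' a'' : 𝒳.obj⦄ (h : a'' ⟶ a') (κ : a' ⟶ F.obj y) (t : a' ⟶ y),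
      TestRel F g y κ t → TestRel F g y (h ≫ κ) (h ≫ t) := by
    intro a' a'' h κ t hrel x₂ ν c₂ g₂ hcj l hl
    have := hrel x₂ ν c₂ g₂ hcj (l ≫ h) (by rw [Category.assoc, hl])
    rw [Category.assoc] at this
    exact this
  obtain ⟨ρ, hρ, hspec⟩ := glue_hom hfib R hfull (F.w_obj y) rfl (TestRel F g y) hex huniq hcomp
  refine ⟨ρ, hρ, ?_⟩
  intro U hU
  subst hU
  refine ⟨R, hR, hchart, ?_⟩
  intro V f hf x₀ μ c g' hμ hcj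
  haveI := hμ
  have hFμ : 𝒳.p.IsHomLift f (F.map μ) := inferInstance
  have := hspec f hf (F.obj x₀) (F.map μ) hFμ x₀ μ c g' hcj (𝟙 _) (Category.id_comp _)
  rw [Category.id_comp] at this
  exact this

include hfib hT hg hconj in
theorem main17912 (h𝒳 : IsGerbe J 𝒳) :
    ∃ ρ : ∀ y : 𝒳.obj, F.obj y ⟶ y,
      (∀ y, IsIso (ρ y) ∧ 𝒳.p.IsHomLift (𝟙 (𝒳.p.obj y)) (ρ y)) ∧
      (∀ (y y' : 𝒳.obj) (f : y ⟶ y'), 𝒳.p.IsHomLift (𝟙 (𝒳.p.obj y)) f →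
        F.map f ≫ ρ y' = ρ y ≫ f) := by
  choose ρ hρ hP using key J hfib F hT g hg hconj h𝒳
  refine ⟨ρ, fun y => ⟨?_, hρ y⟩, ?_⟩
  · haveI := hρ y
    exact isIso_of_isFibGrpd_id hfib (R := 𝒳.p.obj y) (ρ y)
  · intro y y' f hf
    haveI := hf
    have hy' : 𝒳.p.obj y' = 𝒳.p.obj y := IsHomLift.codomain_eq 𝒳.p (𝟙 (𝒳.p.obj y)) f
    obtain ⟨R₁, hR₁, hch₁, hP₁⟩ := hP y (𝒳.p.obj y) rfl
    obtain ⟨R₂, hR₂, -, hP₂⟩ := hP y' (𝒳.p.obj y) hy'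
    haveI : (Stk.resSieve (R₁ ⊓ R₂) 𝒳).IsEquivalence :=
      h𝒳.1.2 (R₁ ⊓ R₂) (J.intersection_covering hR₁ hR₂)
    have hfaith : (Stk.resSieve (R₁ ⊓ R₂) 𝒳).Faithful := inferInstance
    haveI := hρ y
    haveI hρ' : 𝒳.p.IsHomLift (𝟙 (𝒳.p.obj y)) (ρ y') := isHomLift_id_of_eq hy' _ (hρ y')
    have hFf : 𝒳.p.IsHomLift (𝟙 (𝒳.p.obj y)) (F.map f) := inferInstance
    refine Groth.Agent.StkLocal.eq_of_locally_eq hfib (R₁ ⊓ R₂) hfaith (F.w_obj y) hy' _ _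
      inferInstance inferInstance ?_
    intro V' f' hf' a' κ hκ
    obtain ⟨x₀, μ, c, hμ⟩ := hch₁ f' hf'.1
    obtain ⟨g', hcj⟩ := exists_conjPair hfib F g hg x₀ c
    haveI := hμ
    have hFμ : 𝒳.p.IsHomLift f' (F.map μ) := inferInstance
    obtain ⟨k, hk, hkf⟩ := exists_factor hfib f' (F.map μ) hFμ (𝟙 V') κ
      (isHomLift_of_eq (Category.id_comp f').symm _ hκ)
    have hμf : 𝒳.p.IsHomLift f' (μ ≫ f) := inferInstance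
    have e1 := hP₁ f' hf'.1 x₀ μ c g' hμ hcj
    have e2 := hP₂ f' hf'.2 x₀ (μ ≫ f) c g' hμf hcj
    rw [← hkf]
    calc (k ≫ F.map μ) ≫ F.map f ≫ ρ y' = k ≫ F.map (μ ≫ f) ≫ ρ y' := by
          rw [Functor.map_comp]; simp only [Category.assoc]
      _ = k ≫ g' ≫ μ ≫ f := by rw [e2]
      _ = k ≫ (F.map μ ≫ ρ y) ≫ f := by rw [e1]; simp only [Category.assoc]
      _ = (k ≫ F.map μ) ≫ ρ y ≫ f := by simp only [Category.assoc]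

end Groth.Agent.Lib.GerbConjH4
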