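import Mathlib
import Groth.Agent.Lib.GerbConj_helper4

set_option autoImplicit false
set_option linter.style.haveILetI false
set_option linter.unusedSectionVars false

universe v₃ u₃ v₂ u₂ v u

namespace Groth.Agent.Lib.GerbConj2H4

open CategoryTheory FibCat Gerb Functor Groth.Agent.Lib.FibCat_helper6
  Groth.Agent.Lib.GerbGlueH4 Groth.Agent.Lib.GerbConjH4

variable {C : Type u} [Category.{v} C] {𝒳 : BasedCategory.{v₂, u₂} C}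
  {𝒴 : BasedCategory.{v₃, u₃} C}
  (J : GrothendieckTopology C) (h𝒳 : IsFibGrpd 𝒳.p) (h𝒴 : IsFibGrpd 𝒴.p)
  (φ : 𝒳 ⥤ᵇ 𝒴) (ψ : 𝒴 ⥤ᵇ 𝒳) {x : 𝒳.obj}
  (hT : Limits.IsTerminal (𝒳.p.obj x))
  (hsurj : ∀ (x' : 𝒳.obj) (_ : x' ⟶ x), Function.Surjective (Gerb.autMap φ x'))
  (g : ψ.obj (φ.obj x) ⟶ x) (hg : 𝒳.p.IsHomLift (𝟙 (𝒳.p.obj x)) g)
  (hconj : ∀ (x' : 𝒳.obj) (c : x' ⟶ x) (g' : ψ.obj (φ.obj x') ⟶ x'),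
    𝒳.p.IsHomLift (𝟙 (𝒳.p.obj x')) g' →
      ψ.map (φ.map c) ≫ g = g' ≫ c →
        ∀ α : Gerb.AutO x', ψ.map (φ.map α.hom.1) ≫ g' = g' ≫ α.hom.1)

include h𝒳 h𝒴 hT hsurj in
lemma exists_lift_hom {x₂ x₀ : 𝒳.obj} (c₂ : x₂ ⟶ x) (c : x₀ ⟶ x)
    (w : 𝒳.p.obj x₂ ⟶ 𝒳.p.obj x₀) (d : φ.obj x₂ ⟶ φ.obj x₀) (hd : 𝒴.p.IsHomLift w d) :
    ∃ e₂ : x₂ ⟶ x₀, 𝒳.p.IsHomLift w e₂ ∧ φ.map e₂ = d := by
  obtain ⟨x₂', e, he⟩ := exists_lift_of_isFibGrpd h𝒳 (rfl : 𝒳.p.obj x₀ = 𝒳.p.obj x₀) w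
  haveI := he
  have hec : 𝒳.p.IsHomLift (w ≫ 𝒳.p.map c) (e ≫ c) := inferInstance
  have hbase : 𝒳.p.map c₂ = 𝟙 _ ≫ w ≫ 𝒳.p.map c := hT.hom_ext _ _
  have hc₂ : 𝒳.p.IsHomLift (𝟙 (𝒳.p.obj x₂) ≫ w ≫ 𝒳.p.map c) c₂ := by
    rw [← hbase]; infer_instance
  obtain ⟨ε, hε, hεf⟩ := exists_factor h𝒳 (w ≫ 𝒳.p.map c) (e ≫ c) hec (𝟙 _) c₂ hc₂
  haveI := hε
  have he₁ : 𝒳.p.IsHomLift w (ε ≫ e) := inferInstance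
  have hφe₁ : 𝒴.p.IsHomLift w (φ.map (ε ≫ e)) := inferInstance
  haveI := hd
  have hd' : 𝒴.p.IsHomLift (𝟙 (𝒳.p.obj x₂) ≫ w) d := inferInstance
  obtain ⟨β, hβ, hβf⟩ := exists_factor h𝒴 w (φ.map (ε ≫ e)) hφe₁ (𝟙 _) d hd'
  have hβ' : 𝒴.p.IsHomLift (𝟙 (𝒴.p.obj (φ.obj x₂))) β := isHomLift_id_obj β hβ
  obtain ⟨α, hα⟩ := hsurj x₂ c₂ (mkAutO h𝒴 (φ.obj x₂) β hβ')
  have hφα : φ.map α.hom.1 = β := by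
    have := congrArg (fun γ : AutO (φ.obj x₂) => γ.hom.1) hα
    exact this
  haveI : 𝒳.p.IsHomLift (𝟙 (𝒳.p.obj x₂)) α.hom.1 := α.hom.2
  refine ⟨α.hom.1 ≫ ε ≫ e, inferInstance, ?_⟩
  rw [Functor.map_comp, hφα, hβf]

include h𝒳 h𝒴 hT in
lemma chart_cover (hconn𝒴 : GerbH4.LocConn J 𝒴) (z : 𝒴.obj) (U : C) (hz : 𝒴.p.obj z = U) :
    ∃ R ∈ J U, ∀ ⦃V : C⦄ (f : V ⟶ U), R f →
      ∃ (x₀ : 𝒳.obj) (m : φ.obj x₀ ⟶ z) (_ : x₀ ⟶ x), 𝒴.p.IsHomLift f m := by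
  obtain ⟨sU, σ, hσ⟩ := h𝒳.exists_lift (hT.from U)
  haveI := hσ
  have hsU : 𝒳.p.obj sU = U := IsHomLift.domain_eq 𝒳.p (hT.from U) σ
  obtain ⟨R, hR, hR'⟩ := hconn𝒴 z (φ.obj sU) U hz ((φ.w_obj sU).trans hsU)
  refine ⟨R, hR, fun V f hf => ?_⟩
  obtain ⟨z₀, φ₁, ψ₁, hφ₁, hψ₁⟩ := hR' f hf
  obtain ⟨x₁, μ₁, hμ₁⟩ := exists_lift_of_isFibGrpd h𝒳 hsU f
  haveI := hμ₁
  have hFμ₁ : 𝒴.p.IsHomLift (𝟙 V ≫ f) (φ.map μ₁) := inferInstance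
  obtain ⟨k, hk, -⟩ := exists_factor h𝒴 f ψ₁ hψ₁ (𝟙 V) (φ.map μ₁) hFμ₁
  haveI := hk
  haveI := hφ₁
  exact ⟨x₁, k ≫ φ₁, μ₁ ≫ σ, inferInstance⟩

/-- the relation used for gluing -/
def TestRel2 (z : 𝒴.obj) ⦃a' : 𝒴.obj⦄ (κ : a' ⟶ φ.obj (ψ.obj z)) (t : a' ⟶ z) : Prop :=
  ∀ (x₂ : 𝒳.obj) (ν : φ.obj x₂ ⟶ z) (c₂ : x₂ ⟶ x) (g₂ : ψ.obj (φ.obj x₂) ⟶ x₂),
    ConjPair (BasedFunctor.comp φ ψ) g x₂ c₂ g₂ →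
    ∀ (l : φ.obj (ψ.obj (φ.obj x₂)) ⟶ a'), l ≫ κ = φ.map (ψ.map ν) → l ≫ t = φ.map g₂ ≫ ν

include h𝒳 h𝒴 hT hsurj hg hconj in
theorem key2 (h𝒴g : IsGerbe J 𝒴) (z : 𝒴.obj) :
    ∃ σ : φ.obj (ψ.obj z) ⟶ z, 𝒴.p.IsHomLift (𝟙 (𝒴.p.obj z)) σ ∧
      ∀ (U : C) (_ : 𝒴.p.obj z = U),
      ∃ R ∈ J U, (∀ ⦃V : C⦄ (f : V ⟶ U), R f →
          ∃ (x₀ : 𝒳.obj) (m : φ.obj x₀ ⟶ z) (_ : x₀ ⟶ x), 𝒴.p.IsHomLift f m) ∧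
        ∀ ⦃V : C⦄ (f : V ⟶ U), R f → ∀ (x₀ : 𝒳.obj) (m : φ.obj x₀ ⟶ z) (c : x₀ ⟶ x)
          (g' : ψ.obj (φ.obj x₀) ⟶ x₀), 𝒴.p.IsHomLift f m →
          ConjPair (BasedFunctor.comp φ ψ) g x₀ c g' →
            φ.map (ψ.map m) ≫ σ = φ.map g' ≫ m := by
  have hconn𝒴 : GerbH4.LocConn J 𝒴 := (GerbH4.locSurjHom_toSelf_iff J).mp h𝒴g.2.2
  obtain ⟨R, hR, hchart⟩ := chart_cover J h𝒳 h𝒴 φ hT hconn𝒴 z (𝒴.p.obj z) rfl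
  haveI : (Stk.resSieve R 𝒴).IsEquivalence := h𝒴g.1.2 R hR
  have hfull : (Stk.resSieve R 𝒴).Full := inferInstance
  have hGz : 𝒴.p.obj (φ.obj (ψ.obj z)) = 𝒴.p.obj z := (φ.w_obj _).trans (ψ.w_obj z)
  have hex : ∀ ⦃V' : C⦄ (f : V' ⟶ 𝒴.p.obj z), R f → ∀ (a' : 𝒴.obj)
      (κ : a' ⟶ φ.obj (ψ.obj z)),
      𝒴.p.IsHomLift f κ → ∃ t : a' ⟶ z, 𝒴.p.IsHomLift f t ∧ TestRel2 φ ψ g z κ t := by
    intro V' f hf a' κ hκ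
    obtain ⟨x₀, m, c, hm⟩ := hchart f hf
    obtain ⟨(g' : ψ.obj (φ.obj x₀) ⟶ x₀), hcj⟩ :=
      exists_conjPair h𝒳 (BasedFunctor.comp φ ψ) g hg x₀ c
    haveI := hm
    have hx₀ : 𝒳.p.obj x₀ = V' := (φ.w_obj x₀).symm.trans (IsHomLift.domain_eq 𝒴.p f m)
    subst hx₀
    have hGm : 𝒴.p.IsHomLift f (φ.map (ψ.map m)) := inferInstance
    obtain ⟨k, hk, hkf⟩ := exists_factor h𝒴 f (φ.map (ψ.map m)) hGm (𝟙 _) κ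
      (isHomLift_of_eq (Category.id_comp f).symm _ hκ)
    haveI := hk
    haveI hg'V : 𝒳.p.IsHomLift (𝟙 (𝒳.p.obj x₀)) g' := hcj.1
    have hφg' : 𝒴.p.IsHomLift (𝟙 (𝒳.p.obj x₀)) (φ.map g') := inferInstance
    have hh1 : 𝒴.p.IsHomLift f (φ.map g' ≫ m) := inferInstance
    have hh2 : 𝒴.p.IsHomLift f (k ≫ φ.map g' ≫ m) := inferInstance
    refine ⟨k ≫ φ.map g' ≫ m, hh2, ?_⟩
    intro x₂ ν c₂ g₂ hcj₂ l hl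
    let θ : φ.obj (ψ.obj (φ.obj x₂)) ⟶ φ.obj (ψ.obj (φ.obj x₀)) := l ≫ k
    have h₂ : 𝒴.p.obj (φ.obj (ψ.obj (φ.obj x₂))) = 𝒳.p.obj x₂ :=
      ((φ.w_obj _).trans (ψ.w_obj _)).trans (φ.w_obj x₂)
    have h₀ : 𝒴.p.obj (φ.obj (ψ.obj (φ.obj x₀))) = 𝒳.p.obj x₀ :=
      ((φ.w_obj _).trans (ψ.w_obj _)).trans (φ.w_obj x₀)
    let w₂ : 𝒳.p.obj x₂ ⟶ 𝒳.p.obj x₀ := eqToHom h₂.symm ≫ 𝒴.p.map θ ≫ eqToHom h₀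
    haveI hθ : 𝒴.p.IsHomLift w₂ θ := isHomLift_base θ h₂ h₀
    have hθm : θ ≫ φ.map (ψ.map m) = φ.map (ψ.map ν) := by
      change (l ≫ k) ≫ φ.map (ψ.map m) = φ.map (ψ.map ν)
      rw [Category.assoc, hkf, hl]
    have hν : 𝒴.p.IsHomLift (w₂ ≫ f) ν := by
      have h1 : 𝒴.p.IsHomLift (w₂ ≫ f) (θ ≫ φ.map (ψ.map m)) := inferInstance
      rw [hθm] at h1
      haveI := h1
      haveI : 𝒳.p.IsHomLift (w₂ ≫ f) (ψ.map ν) := BasedFunctor.isHomLift_map φ _ (ψ.map ν)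
      exact BasedFunctor.isHomLift_map ψ _ ν
    obtain ⟨d, hd, hdf⟩ := exists_factor h𝒴 f m hm w₂ ν hν
    obtain ⟨e₂, he₂, hφe₂⟩ := exists_lift_hom h𝒳 h𝒴 φ hT hsurj c₂ c w₂ d hd
    haveI := he₂
    have hGe : φ.map (ψ.map (φ.map e₂)) = θ := by
      apply factor_unique h𝒴 f (φ.map (ψ.map m)) hGm w₂ _ θ inferInstance hθ
      rw [← Functor.map_comp, ← Functor.map_comp, hφe₂, hdf, hθm]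
    have nat : g₂ ≫ e₂ = ψ.map (φ.map e₂) ≫ g' :=
      conj_natural h𝒳 (BasedFunctor.comp φ ψ) hT g hconj hcj₂ hcj e₂
    calc l ≫ k ≫ φ.map g' ≫ m = θ ≫ φ.map g' ≫ m := by simp only [θ, Category.assoc]
      _ = φ.map (ψ.map (φ.map e₂)) ≫ φ.map g' ≫ m := by rw [hGe]
      _ = φ.map (g₂ ≫ e₂) ≫ m := by rw [nat, Functor.map_comp, Category.assoc]
      _ = φ.map g₂ ≫ ν := by rw [Functor.map_comp, Category.assoc, hφe₂, hdf]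
  have huniq : ∀ ⦃V' : C⦄ (f : V' ⟶ 𝒴.p.obj z), R f → ∀ (a' : 𝒴.obj)
      (κ : a' ⟶ φ.obj (ψ.obj z)) (t t' : a' ⟶ z), 𝒴.p.IsHomLift f κ → 𝒴.p.IsHomLift f t →
      𝒴.p.IsHomLift f t' → TestRel2 φ ψ g z κ t → TestRel2 φ ψ g z κ t' → t = t' := by
    intro V' f hf a' κ t t' hκ ht ht' hrel hrel'
    obtain ⟨x₀, m, c, hm⟩ := hchart f hf
    obtain ⟨(g' : ψ.obj (φ.obj x₀) ⟶ x₀), hcj⟩ :=
      exists_conjPair h𝒳 (BasedFunctor.comp φ ψ) g hg x₀ c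
    haveI := hm
    have hGm : 𝒴.p.IsHomLift (𝟙 V' ≫ f) (φ.map (ψ.map m)) := inferInstance
    obtain ⟨l, hl, hlf⟩ := exists_factor h𝒴 f κ hκ (𝟙 V') (φ.map (ψ.map m)) hGm
    haveI := hl
    haveI : IsIso l := isIso_of_isFibGrpd_id h𝒴 (R := V') l
    have e1 := hrel x₀ m c g' hcj l hlf
    have e2 := hrel' x₀ m c g' hcj l hlf
    exact (cancel_epi l).mp (e1.trans e2.symm)
  have hcomp : ∀ ⦃a' a'' : 𝒴.obj⦄ (h : a'' ⟶ a') (κ : a' ⟶ φ.obj (ψ.obj z)) (t : a' ⟶ z),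
      TestRel2 φ ψ g z κ t → TestRel2 φ ψ g z (h ≫ κ) (h ≫ t) := by
    intro a' a'' h κ t hrel x₂ ν c₂ g₂ hcj l hl
    have := hrel x₂ ν c₂ g₂ hcj (l ≫ h) (by rw [Category.assoc, hl])
    rw [Category.assoc] at this
    exact this
  obtain ⟨σ, hσ, hspec⟩ := glue_hom h𝒴 R hfull hGz rfl (TestRel2 φ ψ g z) hex huniq hcomp
  refine ⟨σ, hσ, ?_⟩
  intro U hU
  subst hU
  refine ⟨R, hR, hchart, ?_⟩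
  intro V f hf x₀ m c g' hm hcj
  haveI := hm
  have hGm : 𝒴.p.IsHomLift f (φ.map (ψ.map m)) := inferInstance
  have := hspec f hf _ (φ.map (ψ.map m)) hGm x₀ m c g' hcj (𝟙 _) (Category.id_comp _)
  rw [Category.id_comp] at this
  exact this

include h𝒳 h𝒴 hT hsurj hg hconj in
theorem main17913 (h𝒴g : IsGerbe J 𝒴) :
    ∃ σ : ∀ z : 𝒴.obj, φ.obj (ψ.obj z) ⟶ z,
      (∀ z, IsIso (σ z) ∧ 𝒴.p.IsHomLift (𝟙 (𝒴.p.obj z)) (σ z)) ∧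
      (∀ (z z' : 𝒴.obj) (f : z ⟶ z'), 𝒴.p.IsHomLift (𝟙 (𝒴.p.obj z)) f →
        φ.map (ψ.map f) ≫ σ z' = σ z ≫ f) := by
  choose σ hσ hP using key2 J h𝒳 h𝒴 φ ψ hT hsurj g hg hconj h𝒴g
  refine ⟨σ, fun z => ⟨?_, hσ z⟩, ?_⟩
  · haveI := hσ z
    exact isIso_of_isFibGrpd_id h𝒴 (R := 𝒴.p.obj z) (σ z)
  · intro z z' f hf
    haveI := hf
    have hz' : 𝒴.p.obj z' = 𝒴.p.obj z := IsHomLift.codomain_eq 𝒴.p (𝟙 (𝒴.p.obj z)) f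
    obtain ⟨R₁, hR₁, hch₁, hP₁⟩ := hP z (𝒴.p.obj z) rfl
    obtain ⟨R₂, hR₂, -, hP₂⟩ := hP z' (𝒴.p.obj z) hz'
    haveI : (Stk.resSieve (R₁ ⊓ R₂) 𝒴).IsEquivalence :=
      h𝒴g.1.2 (R₁ ⊓ R₂) (J.intersection_covering hR₁ hR₂)
    have hfaith : (Stk.resSieve (R₁ ⊓ R₂) 𝒴).Faithful := inferInstance
    haveI := hσ z
    haveI hσ' : 𝒴.p.IsHomLift (𝟙 (𝒴.p.obj z)) (σ z') := isHomLift_id_of_eq hz' _ (hσ z')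
    have hGf : 𝒴.p.IsHomLift (𝟙 (𝒴.p.obj z)) (φ.map (ψ.map f)) := inferInstance
    have hGz : 𝒴.p.obj (φ.obj (ψ.obj z)) = 𝒴.p.obj z := (φ.w_obj _).trans (ψ.w_obj z)
    refine Groth.Agent.StkLocal.eq_of_locally_eq h𝒴 (R₁ ⊓ R₂) hfaith hGz hz' _ _
      inferInstance inferInstance ?_
    intro V' f' hf' a' κ hκ
    obtain ⟨x₀, m, c, hm⟩ := hch₁ f' hf'.1
    obtain ⟨(g' : ψ.obj (φ.obj x₀) ⟶ x₀), hcj⟩ :=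
      exists_conjPair h𝒳 (BasedFunctor.comp φ ψ) g hg x₀ c
    haveI := hm
    have hGm : 𝒴.p.IsHomLift f' (φ.map (ψ.map m)) := inferInstance
    obtain ⟨k, hk, hkf⟩ := exists_factor h𝒴 f' (φ.map (ψ.map m)) hGm (𝟙 V') κ
      (isHomLift_of_eq (Category.id_comp f').symm _ hκ)
    have hmf : 𝒴.p.IsHomLift f' (m ≫ f) := inferInstance
    have e1 := hP₁ f' hf'.1 x₀ m c g' hm hcj
    have e2 := hP₂ f' hf'.2 x₀ (m ≫ f) c g' hmf hcj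
    rw [← hkf]
    calc (k ≫ φ.map (ψ.map m)) ≫ φ.map (ψ.map f) ≫ σ z'
        = k ≫ φ.map (ψ.map (m ≫ f)) ≫ σ z' := by
          rw [Functor.map_comp, Functor.map_comp]; simp only [Category.assoc]
      _ = k ≫ φ.map g' ≫ m ≫ f := by rw [e2]
      _ = k ≫ (φ.map (ψ.map m) ≫ σ z) ≫ f := by rw [e1]; simp only [Category.assoc]
      _ = (k ≫ φ.map (ψ.map m)) ≫ σ z ≫ f := by simp only [Category.assoc]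

end Groth.Agent.Lib.GerbConj2H4
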