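import Mathlib
import Groth.Prelude.Def_AlgSt
import Groth.Agent.Lib.FibCat6_helper6
import Groth.Agent.Lib.StkEquiv_helper9
import Groth.Agent.S6409

set_option autoImplicit false
set_option linter.style.haveILetI false
set_option linter.unusedSectionVars false

universe v₆ u₆ v₅ u₅ v₄ u₄ v₃ u₃ v₂ u₂ v u

open CategoryTheory FibCat Functor

namespace Groth.Agent.Lib.StkLocEssH4

open Groth.Agent.Lib.FibCat_helper6 Groth.Agent.Lib.FibCat3_helper6 Groth.Agent.StkEquiv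

section Lift

variable {C : Type u} [Category.{v} C] {𝒜 : BasedCategory.{v₅, u₅} C}
  {𝒳 : BasedCategory.{v₂, u₂} C} {𝒴 : BasedCategory.{v₃, u₃} C}

/-- A functor over `C` whose values are, over identities, isomorphic to values of a fully faithful
functor `F` over `C` factors through `F` up to an isomorphism over `C`. -/
theorem exists_lift_of_fullyFaithful (F : 𝒳 ⥤ᵇ 𝒴) [F.toFunctor.Full] [F.toFunctor.Faithful]
    (G : 𝒜 ⥤ᵇ 𝒴)
    (h : ∀ a : 𝒜.obj, ∃ (x : 𝒳.obj) (θ : F.obj x ≅ G.obj a),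
      𝒴.p.IsHomLift (𝟙 (𝒜.p.obj a)) θ.hom) :
    ∃ D : 𝒜 ⥤ᵇ 𝒳, Nonempty (BasedFunctor.comp D F ≅ G) := by
  choose x θ hθ using h
  let D₀ : 𝒜.obj ⥤ 𝒳.obj :=
    { obj := x
      map := fun {a b} g => F.toFunctor.preimage ((θ a).hom ≫ G.map g ≫ (θ b).inv)
      map_id := fun a => by
        apply F.toFunctor.map_injective
        simp
      map_comp := fun {a b c} g g' => by
        apply F.toFunctor.map_injective
        simp }
  have hD₀ : ∀ {a b : 𝒜.obj} (g : a ⟶ b),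
      F.map (D₀.map g) = (θ a).hom ≫ G.map g ≫ (θ b).inv := fun g => Functor.map_preimage _ _
  have hlift : ∀ {a b : 𝒜.obj} (g : a ⟶ b), 𝒳.p.IsHomLift (𝒜.p.map g) (D₀.map g) := by
    intro a b g
    rw [← BasedFunctor.isHomLift_iff F, hD₀]
    haveI := hθ a
    haveI := hθ b
    haveI : 𝒴.p.IsHomLift (𝟙 (𝒜.p.obj b)) (θ b).inv := IsHomLift.lift_id_inv 𝒴.p _ (θ b)
    haveI : 𝒴.p.IsHomLift (𝒜.p.map g) (G.map g) := inferInstance
    infer_instance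
  let D : 𝒜 ⥤ᵇ 𝒳 :=
    { toFunctor := D₀
      w := CategoryTheory.Functor.ext
        (fun a => by
          haveI := hlift (𝟙 a)
          exact IsHomLift.domain_eq 𝒳.p (𝒜.p.map (𝟙 a)) (D₀.map (𝟙 a)))
        (fun a b g => by
          haveI := hlift g
          exact IsHomLift.fac' 𝒳.p (𝒜.p.map g) (D₀.map g)) }
  refine ⟨D, ⟨BasedNatIso.mkNatIso (NatIso.ofComponents (fun a => θ a) ?_) (fun a => hθ a)⟩⟩
  intro a b g
  show F.map (D₀.map g) ≫ (θ b).hom = (θ a).hom ≫ G.map g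
  rw [hD₀]
  simp

end Lift

section Main

variable {C : Type u} [Category.{v} C]

theorem main12794 (J : GrothendieckTopology C) {𝒳 𝒴 : BasedCategory.{v, max u v} C}
    (h𝒳 : Stk.IsStack J 𝒳) (h𝒴 : Stk.IsStack J 𝒴) (F : 𝒳 ⥤ᵇ 𝒴) [F.toFunctor.Full]
    [F.toFunctor.Faithful] :
    FibCat.IsEquivOver F ↔
      ∀ y : 𝒴.obj, ∃ R ∈ J (𝒴.p.obj y), ∀ ⦃V : C⦄ (f : V ⟶ 𝒴.p.obj y), R f →
        ∃ (x : 𝒳.obj) (φ : F.obj x ⟶ y), 𝒴.p.IsHomLift f φ := by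
  constructor
  · intro hF y
    refine ⟨⊤, J.top_mem _, fun V f _ => ?_⟩
    obtain ⟨y', ψ, hψ⟩ := h𝒴.1.exists_lift f
    obtain ⟨x, φ, hφ⟩ := essSurjOver_of_isEquivOver hF y'
    haveI := hψ
    haveI : 𝒴.p.IsHomLift (𝟙 V) φ.hom :=
      isHomLift_id_of_eq (IsHomLift.domain_eq 𝒴.p f ψ) φ.hom hφ
    exact ⟨x, φ.hom ≫ ψ, inferInstance⟩
  · intro h
    apply isEquivOver_of_fullyFaithful F
    intro y
    obtain ⟨R, hR, hloc⟩ := h y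
    haveI : (FibCat.evalAtId 𝒴 (𝒴.p.obj y)).IsEquivalence := Groth.Agent.S6409.result h𝒴.1 _
    let y₀ : 𝒴.p.Fiber (𝒴.p.obj y) := ⟨y, rfl⟩
    let Y : overCat (𝒴.p.obj y) ⥤ᵇ 𝒴 := (FibCat.evalAtId 𝒴 (𝒴.p.obj y)).objPreimage y₀
    let ε : (FibCat.evalAtId 𝒴 (𝒴.p.obj y)).obj Y ≅ y₀ :=
      (FibCat.evalAtId 𝒴 (𝒴.p.obj y)).objObjPreimageIso y₀
    have hG : ∀ a : (Stk.sieveCat R).obj, ∃ (x : 𝒳.obj)
        (θ : F.obj x ≅ (BasedFunctor.comp (Stk.sieveIncl R) Y).obj a),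
        𝒴.p.IsHomLift (𝟙 ((Stk.sieveCat R).p.obj a)) θ.hom := by
      intro a
      obtain ⟨f, hf⟩ : ∃ f : a.obj.left ⟶ 𝒴.p.obj y, f = a.obj.hom := ⟨_, rfl⟩
      obtain ⟨x, φ, hφ⟩ := hloc f (by rw [hf]; exact a.property)
      have hw : f ≫ (Over.mk (𝟙 (𝒴.p.obj y))).hom = a.obj.hom := by
        rw [hf]
        exact Category.comp_id _
      have h1 : (overCat (𝒴.p.obj y)).p.IsHomLift f
          (Over.homMk f hw : a.obj ⟶ Over.mk (𝟙 (𝒴.p.obj y))) :=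
        IsHomLift.map (overCat (𝒴.p.obj y)).p
          (Over.homMk f hw : a.obj ⟶ Over.mk (𝟙 (𝒴.p.obj y)))
      haveI := h1
      obtain ⟨e0, he0⟩ : ∃ e0 : Y.obj (Over.mk (𝟙 (𝒴.p.obj y))) ⟶ y,
          𝒴.p.IsHomLift (𝟙 (𝒴.p.obj y)) e0 := ⟨ε.hom.1, ε.hom.2⟩
      haveI := he0
      haveI : 𝒴.p.IsHomLift f
          (Y.map (Over.homMk f hw : a.obj ⟶ Over.mk (𝟙 (𝒴.p.obj y)))) := inferInstance
      obtain ⟨m, hm⟩ : ∃ m : Y.obj a.obj ⟶ y,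
          m = Y.map (Over.homMk f hw : a.obj ⟶ Over.mk (𝟙 (𝒴.p.obj y))) ≫ e0 := ⟨_, rfl⟩
      haveI : 𝒴.p.IsHomLift f m := by
        rw [hm]
        infer_instance
      haveI := isStronglyCartesian_of_isFibGrpd h𝒴.1 f m
      haveI := hφ
      haveI := isStronglyCartesian_of_isFibGrpd h𝒴.1 f φ
      have hθ : 𝒴.p.IsHomLift (𝟙 a.obj.left) (IsCartesian.domainUniqueUpToIso 𝒴.p f m φ).hom :=
        inferInstance
      exact ⟨x, IsCartesian.domainUniqueUpToIso 𝒴.p f m φ, hθ⟩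
    obtain ⟨D, ⟨e1⟩⟩ := exists_lift_of_fullyFaithful F _ hG
    haveI : (Stk.resSieve R 𝒳).IsEquivalence := h𝒳.2 R hR
    haveI : (Stk.resSieve R 𝒴).IsEquivalence := h𝒴.2 R hR
    let H : overCat (𝒴.p.obj y) ⥤ᵇ 𝒳 := (Stk.resSieve R 𝒳).objPreimage D
    let e2 : (Stk.resSieve R 𝒳).obj H ≅ D := (Stk.resSieve R 𝒳).objObjPreimageIso D
    let e3 : (Stk.resSieve R 𝒴).obj (BasedFunctor.comp H F) ≅ (Stk.resSieve R 𝒴).obj Y :=
      (post _ F).mapIso e2 ≪≫ e1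
    let e4 : BasedFunctor.comp H F ≅ Y := (Stk.resSieve R 𝒴).preimageIso e3
    let e5 : (FibCat.evalAtId 𝒴 (𝒴.p.obj y)).obj (BasedFunctor.comp H F) ≅ y₀ :=
      (FibCat.evalAtId 𝒴 (𝒴.p.obj y)).mapIso e4 ≪≫ ε
    exact ⟨H.obj (Over.mk (𝟙 (𝒴.p.obj y))), Functor.Fiber.fiberInclusion.mapIso e5, e5.hom.2⟩

end Main

end Groth.Agent.Lib.StkLocEssH4
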