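import Mathlib
import Groth.Agent.Lib.GerbGlue_helper4
import Groth.Agent.Lib.GerbConj_helper4
import Groth.Agent.Lib.StkLocEss_helper4
import Groth.Agent.Lib.FibCat8_helper6

set_option autoImplicit false
set_option linter.style.haveILetI false
set_option linter.unusedSectionVars false

universe v₃ u₃ v₂ u₂ v u

namespace Groth.Agent.Lib.GerbEquivH4

open CategoryTheory FibCat Gerb Functor Groth.Agent.Lib.FibCat_helper6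
  Groth.Agent.Lib.GerbGlueH4 Groth.Agent.Lib.GerbConjH4 Groth.Agent.Lib.FibCat8_helper6

section

variable {C : Type u} [Category.{v} C] {𝒳 : BasedCategory.{v₂, u₂} C}
  {𝒴 : BasedCategory.{v₃, u₃} C}
  (J : GrothendieckTopology C) (F : 𝒳 ⥤ᵇ 𝒴) {s : 𝒳.obj}
  (hT : Limits.IsTerminal (𝒳.p.obj s))

lemma loc_uniq (h𝒳 : IsFibGrpd 𝒳.p) (h𝒴 : IsFibGrpd 𝒴.p)
    (hinj : ∀ (x : 𝒳.obj) (_ : x ⟶ s), Function.Injective (Gerb.autMap F x))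
    {a' b : 𝒳.obj} {V' U : C} (f : V' ⟶ U) (t t' : a' ⟶ b) (ht : 𝒳.p.IsHomLift f t)
    (ht' : 𝒳.p.IsHomLift f t') (c : a' ⟶ s) (h : F.map t = F.map t') : t = t' := by
  obtain ⟨β, hβ, hβf⟩ := exists_factor h𝒳 f t ht (𝟙 V') t'
    (isHomLift_of_eq (Category.id_comp f).symm _ ht')
  haveI := ht
  haveI := hβ
  have ha' : 𝒳.p.obj a' = V' := IsHomLift.domain_eq 𝒳.p f t
  have hβ' : 𝒳.p.IsHomLift (𝟙 (𝒳.p.obj a')) β := isHomLift_id_obj β hβ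
  have hFβ : F.map β = 𝟙 (F.obj a') := by
    have h1 : 𝒴.p.IsHomLift f (F.map t) := inferInstance
    have h2 : 𝒴.p.IsHomLift (𝟙 V') (F.map β) := inferInstance
    have h3 : 𝒴.p.IsHomLift (𝟙 V') (𝟙 (F.obj a')) := IsHomLift.id ((F.w_obj a').trans ha')
    apply factor_unique h𝒴 f (F.map t) h1 (𝟙 V') _ _ h2 h3
    rw [← Functor.map_comp, hβf, Category.id_comp, h]
  have hone : Gerb.autMap F a' (mkAutO h𝒳 a' β hβ') = 1 := by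
    apply Aut.ext
    apply Functor.Fiber.hom_ext
    change F.map β = 𝟙 (F.obj a')
    exact hFβ
  have h1 : mkAutO h𝒳 a' β hβ' = 1 := hinj a' c (hone.trans (map_one _).symm)
  have hβ1 : β = 𝟙 a' := by
    have := congrArg (fun α : AutO a' => α.hom.1) h1
    exact this
  rw [← hβf, hβ1, Category.id_comp]

include hT in
theorem fibFaithful (h𝒳g : IsGerbe J 𝒳) (h𝒴 : IsFibGrpd 𝒴.p)
    (hinj : ∀ (x : 𝒳.obj) (_ : x ⟶ s), Function.Injective (Gerb.autMap F x)) :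
    FibFaithful F := by
  intro U a b φ ψ hφ hψ h
  have h𝒳 := h𝒳g.1.1
  have hconn : GerbH4.LocConn J 𝒳 := (GerbH4.locSurjHom_toSelf_iff J).mp h𝒳g.2.2
  haveI := hφ
  have ha : 𝒳.p.obj a = U := IsHomLift.domain_eq 𝒳.p (𝟙 U) φ
  have hb : 𝒳.p.obj b = U := IsHomLift.codomain_eq 𝒳.p (𝟙 U) φ
  obtain ⟨R, hR, hch⟩ := cover_s J h𝒳 hconn hT a U ha
  haveI : (Stk.resSieve R 𝒳).IsEquivalence := h𝒳g.1.2 R hR
  refine Groth.Agent.StkLocal.eq_of_locally_eq h𝒳 R inferInstance ha hb φ ψ hφ hψ ?_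
  intro V' g hg a' κ hκ
  obtain ⟨x₀, μ, c, hμ⟩ := hch g hg
  obtain ⟨k, -, -⟩ := exists_factor h𝒳 g μ hμ (𝟙 V') κ
    (isHomLift_of_eq (Category.id_comp g).symm _ hκ)
  haveI := hκ
  haveI := hψ
  have h1 : 𝒳.p.IsHomLift g (κ ≫ φ) := inferInstance
  have h2 : 𝒳.p.IsHomLift g (κ ≫ ψ) := inferInstance
  exact loc_uniq F h𝒳 h𝒴 hinj g _ _ h1 h2 (k ≫ c)
    (by rw [Functor.map_comp, Functor.map_comp, h])

include hT in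
theorem fibFull (h𝒳g : IsGerbe J 𝒳) (h𝒴g : IsGerbe J 𝒴)
    (hbij : ∀ (x : 𝒳.obj) (_ : x ⟶ s), Function.Bijective (Gerb.autMap F x)) :
    FibFull F := by
  intro U a b ha hb m hm
  have h𝒳 := h𝒳g.1.1
  have h𝒴 := h𝒴g.1.1
  have hconn : GerbH4.LocConn J 𝒳 := (GerbH4.locSurjHom_toSelf_iff J).mp h𝒳g.2.2
  have hinj : ∀ (x : 𝒳.obj) (_ : x ⟶ s), Function.Injective (Gerb.autMap F x) :=
    fun x c => (hbij x c).1
  obtain ⟨R, hR, hch⟩ := cover2 J h𝒳 hconn hT a b U ha hb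
  haveI : (Stk.resSieve R 𝒳).IsEquivalence := h𝒳g.1.2 R hR
  haveI : (Stk.resSieve R 𝒴).IsEquivalence := h𝒴g.1.2 R hR
  have hex : ∀ ⦃V' : C⦄ (g : V' ⟶ U), R g → ∀ (a' : 𝒳.obj) (κ : a' ⟶ a), 𝒳.p.IsHomLift g κ →
      ∃ t : a' ⟶ b, 𝒳.p.IsHomLift g t ∧ F.map t = F.map κ ≫ m := by
    intro V' g hg a' κ hκ
    obtain ⟨x₀, μ, ν, c, hμ, hν⟩ := hch g hg
    haveI := hμ
    haveI := hν
    haveI := hm
    have hx₀ : 𝒳.p.obj x₀ = V' := IsHomLift.domain_eq 𝒳.p g μ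
    obtain ⟨k, hk, hkf⟩ := exists_factor h𝒳 g μ hμ (𝟙 V') κ
      (isHomLift_of_eq (Category.id_comp g).symm _ hκ)
    have hFν : 𝒴.p.IsHomLift g (F.map ν) := inferInstance
    have hFμm : 𝒴.p.IsHomLift (𝟙 V' ≫ g) (F.map μ ≫ m) := inferInstance
    obtain ⟨m₀, hm₀, hm₀f⟩ := exists_factor h𝒴 g (F.map ν) hFν (𝟙 V') (F.map μ ≫ m) hFμm
    have hm₀' : 𝒴.p.IsHomLift (𝟙 (𝒴.p.obj (F.obj x₀))) m₀ := isHomLift_id_obj m₀ hm₀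
    obtain ⟨α, hα⟩ := (hbij x₀ c).2 (mkAutO h𝒴 (F.obj x₀) m₀ hm₀')
    have hFα : F.map α.hom.1 = m₀ := by
      have := congrArg (fun β : AutO (F.obj x₀) => β.hom.1) hα
      exact this
    have hαl : 𝒳.p.IsHomLift (𝟙 V') α.hom.1 := isHomLift_id_of_eq hx₀ _ α.hom.2
    haveI := hk
    haveI := hαl
    refine ⟨k ≫ α.hom.1 ≫ ν, inferInstance, ?_⟩
    rw [Functor.map_comp, Functor.map_comp, hFα, hm₀f, ← Category.assoc, ← Functor.map_comp, hkf]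
  have huniq : ∀ ⦃V' : C⦄ (g : V' ⟶ U), R g → ∀ (a' : 𝒳.obj) (κ : a' ⟶ a) (t t' : a' ⟶ b),
      𝒳.p.IsHomLift g κ → 𝒳.p.IsHomLift g t → 𝒳.p.IsHomLift g t' →
      F.map t = F.map κ ≫ m → F.map t' = F.map κ ≫ m → t = t' := by
    intro V' g hg a' κ t t' hκ ht ht' e e'
    obtain ⟨x₀, μ, ν, c, hμ, hν⟩ := hch g hg
    obtain ⟨k, -, -⟩ := exists_factor h𝒳 g μ hμ (𝟙 V') κ
      (isHomLift_of_eq (Category.id_comp g).symm _ hκ)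
    exact loc_uniq F h𝒳 h𝒴 hinj g t t' ht ht' (k ≫ c) (e.trans e'.symm)
  have hcomp : ∀ ⦃a' a'' : 𝒳.obj⦄ (h : a'' ⟶ a') (κ : a' ⟶ a) (t : a' ⟶ b),
      F.map t = F.map κ ≫ m → F.map (h ≫ t) = F.map (h ≫ κ) ≫ m := by
    intro a' a'' h κ t e
    rw [Functor.map_comp, Functor.map_comp, e, Category.assoc]
  obtain ⟨Θ, hΘ, hspec⟩ := glue_hom h𝒳 R inferInstance ha hb
    (fun ⦃a'⦄ (κ : a' ⟶ a) (t : a' ⟶ b) => F.map t = F.map κ ≫ m) hex huniq hcomp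
  refine ⟨Θ, hΘ, ?_⟩
  haveI := hΘ
  haveI := hm
  have hFΘ : 𝒴.p.IsHomLift (𝟙 U) (F.map Θ) := inferInstance
  refine Groth.Agent.StkLocal.eq_of_locally_eq h𝒴 R inferInstance ((F.w_obj a).trans ha)
    ((F.w_obj b).trans hb) (F.map Θ) m hFΘ hm ?_
  intro V' g hg z κ' hκ'
  obtain ⟨x₁, μ₁, hμ₁⟩ := exists_lift_of_isFibGrpd h𝒳 ha g
  haveI := hμ₁
  have hFμ₁ : 𝒴.p.IsHomLift g (F.map μ₁) := inferInstance
  obtain ⟨k', hk', hk'f⟩ := exists_factor h𝒴 g (F.map μ₁) hFμ₁ (𝟙 V') κ'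
    (isHomLift_of_eq (Category.id_comp g).symm _ hκ')
  have := hspec g hg x₁ μ₁ hμ₁
  rw [← hk'f, Category.assoc, Category.assoc, ← Functor.map_comp, this]

end

section Main

variable {C : Type u} [Category.{v} C] (J : GrothendieckTopology C)

theorem main17911 {𝒳 𝒴 : BasedCategory.{v, max u v} C} (h𝒳 : IsGerbe J 𝒳) (h𝒴 : IsGerbe J 𝒴)
    (F : 𝒳 ⥤ᵇ 𝒴) (s : 𝒳.obj) (hT : Limits.IsTerminal (𝒳.p.obj s))
    (hbij : ∀ (x : 𝒳.obj) (_ : x ⟶ s), Function.Bijective (Gerb.autMap F x)) :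
    FibCat.IsEquivOver F := by
  have hfib𝒳 := h𝒳.1.1
  have hfib𝒴 := h𝒴.1.1
  haveI : 𝒳.p.IsFibered := isFibered_of_isFibGrpd hfib𝒳
  have hpc : PresCart F := presCart_of_isFibGrpd F hfib𝒴
  haveI : F.toFunctor.Faithful :=
    faithful_of_fibFaithful hpc (fibFaithful J F hT h𝒳 hfib𝒴 (fun x c => (hbij x c).1))
  haveI : F.toFunctor.Full := full_of_fibFull hpc (fibFull J F hT h𝒳 h𝒴 hbij)
  rw [Groth.Agent.Lib.StkLocEssH4.main12794 J h𝒳.1 h𝒴.1 F]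
  intro y
  obtain ⟨sU, σ, hσ⟩ := hfib𝒳.exists_lift (hT.from (𝒴.p.obj y))
  haveI := hσ
  have hsU : 𝒳.p.obj sU = 𝒴.p.obj y := IsHomLift.domain_eq 𝒳.p (hT.from (𝒴.p.obj y)) σ
  have hconn𝒴 : GerbH4.LocConn J 𝒴 := (GerbH4.locSurjHom_toSelf_iff J).mp h𝒴.2.2
  obtain ⟨R, hR, hR'⟩ := hconn𝒴 y (F.obj sU) (𝒴.p.obj y) rfl ((F.w_obj sU).trans hsU)
  refine ⟨R, hR, fun V f hf => ?_⟩
  obtain ⟨z₀, φ₁, ψ₁, hφ₁, hψ₁⟩ := hR' f hf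
  obtain ⟨x₁, μ₁, hμ₁⟩ := exists_lift_of_isFibGrpd hfib𝒳 hsU f
  haveI := hμ₁
  have hFμ₁ : 𝒴.p.IsHomLift (𝟙 V ≫ f) (F.map μ₁) := inferInstance
  obtain ⟨k, hk, -⟩ := exists_factor hfib𝒴 f ψ₁ hψ₁ (𝟙 V) (F.map μ₁) hFμ₁
  haveI := hk
  haveI := hφ₁
  exact ⟨x₁, k ≫ φ₁, inferInstance⟩

end Main

end Groth.Agent.Lib.GerbEquivH4
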