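import Mathlib
import Groth.Prelude.Def_StGerb2
import Groth.Agent.Lib.StkPsh_helper9
import Groth.Agent.Lib.GerbBasic_helper4

set_option autoImplicit false
set_option linter.style.haveILetI false
set_option linter.unusedSectionVars false

universe v₂ u₂ v u

namespace Groth.Agent.Lib.GerbIsoClH4

open CategoryTheory FibCat Gerb Opposite Groth.Agent.StkPsh

variable {C : Type u} [Category.{v} C] (J : GrothendieckTopology C)
  {𝒳 : BasedCategory.{v₂, u₂} C} [IsFibGrpd 𝒳.p] {P : Cᵒᵖ ⥤ Type u₂}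
  (π : 𝒳 ⥤ᵇ Stk.ofPsh P)

/-- the section attached to an object of a fibre -/
def secF {U : C} (a : 𝒳.p.Fiber U) : P.obj (op U) := P.map (eqToHom a.2.symm).op (sec π a.1)

lemma sec_of_lift {y x : 𝒳.obj} (ψ : y ⟶ x) {V U : C} (f : V ⟶ U) (h : 𝒳.p.IsHomLift f ψ)
    (hy : 𝒳.p.obj y = V) (hx : 𝒳.p.obj x = U) :
    P.map f.op (P.map (eqToHom hx.symm).op (sec π x)) = P.map (eqToHom hy.symm).op (sec π y) := by
  subst hy hx
  have hf : 𝒳.p.map ψ = f := by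
    have := IsHomLift.fac' 𝒳.p f ψ
    simpa using this
  subst hf
  simp only [eqToHom_refl, op_id, FunctorToTypes.map_id_apply]
  exact sec_map π ψ

lemma secF_of_hom {U : C} (a a' : 𝒳.p.Fiber U) (φ : a ⟶ a') : secF π a = secF π a' := by
  have := sec_of_lift π φ.1 (𝟙 U) φ.2 a.2 a'.2
  simp only [op_id, FunctorToTypes.map_id_apply] at this
  exact this.symm

lemma secF_pullFib {U V : C} (f : V ⟶ U) (a : 𝒳.p.Fiber U) :
    secF π (pullFib 𝒳 f a) = P.map f.op (secF π a) := by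
  obtain ⟨x, hx⟩ := a
  subst hx
  have h := pullHom_isHomLift 𝒳 x (f ≫ eqToHom (rfl : 𝒳.p.obj x = 𝒳.p.obj x).symm)
  have h' : 𝒳.p.IsHomLift f (pullHom 𝒳 x (f ≫ eqToHom (rfl : 𝒳.p.obj x = 𝒳.p.obj x).symm)) := by
    simpa using h
  exact (sec_of_lift π _ f h' (pull_over 𝒳 x _) rfl).symm

/-- the map from isomorphism classes to sections -/
noncomputable def cMap : isoClPsh 𝒳 ⟶ P where
  app U := ↾(Quot.lift (fun a : 𝒳.p.Fiber U.unop => secF π a)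
    (fun a a' ⟨φ⟩ => secF_of_hom π a a' φ))
  naturality U V f := by
    ext a
    obtain ⟨a⟩ := a
    exact secF_pullFib π f.unop a

lemma cMap_mk {U : C} (a : 𝒳.p.Fiber U) :
    (cMap π).app (op U) (Quot.mk _ a) = secF π a := rfl

lemma cMap_fib (x : 𝒳.obj) :
    (cMap π).app (op (𝒳.p.obj x)) (Quot.mk _ (Gerb.fib x)) =
      P.map (eqToHom (π.w_obj x).symm).op (π.obj x).sec := by
  rw [cMap_mk]
  simp only [secF, eqToHom_refl, op_id, FunctorToTypes.map_id_apply]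
  rfl

theorem cMap_locSurj (hπ : LocSurjObj J π) : Presheaf.IsLocallySurjective J (cMap π) := by
  refine ⟨fun {U} s => ?_⟩
  obtain ⟨R, hR, hR'⟩ := Groth.Agent.Lib.GerbH4.flexObj J hπ (⟨U, s⟩ : Stk.EltObj P) U rfl
  refine J.superset_covering ?_ hR
  intro V f hf
  obtain ⟨x, g, hg⟩ := hR' f hf
  have hxV : 𝒳.p.obj x = V := by
    rw [← π.w_obj x]
    exact IsHomLift.domain_eq (Stk.ofPsh P).p f g
  refine ⟨Quot.mk _ ⟨x, hxV⟩, ?_⟩
  rw [cMap_mk]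
  have hgh : g.hom = eqToHom ((π.w_obj x).trans hxV) ≫ f := by
    have := IsHomLift.fac' (Stk.ofPsh P).p f g
    simpa using this
  have hs := g.map_sec
  simp only [secF, sec]
  rw [← hs]
  simp only [← FunctorToTypes.map_comp_apply, ← op_comp]
  congr 2
  rw [hgh]
  simp

theorem cMap_locInj (hπ : LocSurjHom J π) : Presheaf.IsLocallyInjective J (cMap π) := by
  refine ⟨fun {X} a b hab => ?_⟩
  obtain ⟨U⟩ := X
  obtain ⟨a⟩ := a
  obtain ⟨b⟩ := b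
  change secF π a = secF π b at hab
  obtain ⟨xa, ha⟩ := a
  obtain ⟨xb, hb⟩ := b
  -- a morphism between the images lying over the identity
  have hba : (π.obj xa).base = U := (π.w_obj xa).trans ha
  have hbb : (π.obj xb).base = U := (π.w_obj xb).trans hb
  let m : π.obj xa ⟶ π.obj xb :=
    ⟨eqToHom (hba.trans hbb.symm), by
      simp only [secF, sec] at hab
      have h1 : (π.obj xa).sec = P.map (eqToHom hba).op
          (P.map (eqToHom ha.symm).op (P.map (eqToHom (baseEq π xa).symm).op (π.obj xa).sec)) := by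
        simp only [← FunctorToTypes.map_comp_apply, ← op_comp, eqToHom_trans, eqToHom_refl, op_id,
          FunctorToTypes.map_id_apply]
      rw [h1, hab]
      simp only [← FunctorToTypes.map_comp_apply, ← op_comp, eqToHom_trans]⟩
  have hm : (Stk.ofPsh P).p.IsHomLift (𝟙 U) m := by
    refine IsHomLift.of_fac' _ _ _ hba hbb ?_
    change eqToHom (hba.trans hbb.symm) = _
    simp
  obtain ⟨R, hR, hR'⟩ := Groth.Agent.Lib.GerbH4.flexHom J hπ xa xb U ha m hm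
  refine J.superset_covering ?_ hR
  intro V f hf
  obtain ⟨x₀, φ, ψ, hφ, hψ, -⟩ := hR' f hf
  change Quot.mk _ (pullFib 𝒳 f ⟨xa, ha⟩) = Quot.mk _ (pullFib 𝒳 f ⟨xb, hb⟩)
  have hφ' : 𝒳.p.IsHomLift (f ≫ eqToHom ha.symm) φ := by
    haveI := hφ
    refine IsHomLift.of_fac' 𝒳.p _ _ (IsHomLift.domain_eq 𝒳.p f φ) rfl ?_
    rw [IsHomLift.fac' 𝒳.p f φ]; simp
  have hψ' : 𝒳.p.IsHomLift (f ≫ eqToHom hb.symm) ψ := by
    haveI := hψ
    refine IsHomLift.of_fac' 𝒳.p _ _ (IsHomLift.domain_eq 𝒳.p f ψ) rfl ?_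
    rw [IsHomLift.fac' 𝒳.p f ψ]; simp
  obtain ⟨χ, hχ, -⟩ := exists_hom_pull 𝒳 xa (f ≫ eqToHom ha.symm) φ hφ'
  obtain ⟨χ', hχ', -⟩ := exists_hom_pull 𝒳 xb (f ≫ eqToHom hb.symm) ψ hψ'
  have hx₀ : 𝒳.p.obj x₀ = V := IsHomLift.domain_eq 𝒳.p f φ
  have e1 : Quot.mk (IsoRel 𝒳 V) ⟨x₀, hx₀⟩ = Quot.mk _ (pullFib 𝒳 f ⟨xa, ha⟩) :=
    Quot.sound ⟨⟨χ, hχ⟩⟩
  have e2 : Quot.mk (IsoRel 𝒳 V) ⟨x₀, hx₀⟩ = Quot.mk _ (pullFib 𝒳 f ⟨xb, hb⟩) :=
    Quot.sound ⟨⟨χ', hχ'⟩⟩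
  exact e1.symm.trans e2

theorem main16877 (hπ : IsGerbeOver J π) :
    ∃ c : isoClPsh 𝒳 ⟶ P,
      (∀ x : 𝒳.obj, c.app (op (𝒳.p.obj x)) (Quot.mk _ (Gerb.fib x)) =
          P.map (eqToHom (π.w_obj x).symm).op (π.obj x).sec) ∧
      Presheaf.IsLocallySurjective J c ∧ Presheaf.IsLocallyInjective J c :=
  ⟨cMap π, cMap_fib π, cMap_locSurj J π hπ.1, cMap_locInj J π hπ.2⟩

end Groth.Agent.Lib.GerbIsoClH4
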