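import Mathlib
import Groth.Agent.Lib.MinPrimeColim_helper7

/-!
# Rings of germs as directed unions of local rings: the comparison maps (helper7)

Abstract setting: rings `Γ i` with primes `𝔭 i`, localizations `A i`, compatible maps
`φ i : Γ i → R` into a local ring `R` (units/non-units detected by `𝔭 i`), and "transition data".
* `exists_sigma`: the induced maps `σ i : A i → R` are injective, local, flat, and every finite
  subset of `R` lies in the image of some `σ j` with `j` refining a given `i`;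
* `isReduced_of_exists`, `isReduced_of_isReduced`: reducedness;
* `ringKrullDim_eq`: Krull dimension;
* `ringKrullDim_le_of_quasiFinite`.
-/

set_option autoImplicit false
set_option backward.isDefEq.respectTransparency false
set_option backward.isDefEq.respectTransparency.types false
set_option linter.style.haveILetI false
set_option linter.unusedSectionVars false
set_option linter.unusedVariables false
set_option maxHeartbeats 1600000

universe u v w

namespace Groth.Agent.Lib.GermColimH7

open Groth.Agent.Lib.MinPrimeColimH7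

section Dim

/-- quasi-finite algebras do not raise the Krull dimension -/
theorem ringKrullDim_le_of_quasiFinite (A : Type u) (B : Type v) [CommRing A] [CommRing B]
    [Algebra A B] [Algebra.QuasiFinite A B] : ringKrullDim B ≤ ringKrullDim A := by
  refine Order.krullDim_le_of_strictMono (PrimeSpectrum.comap (algebraMap A B)) ?_
  intro a b hab
  have hle : a.asIdeal ≤ b.asIdeal := hab.le
  refine lt_of_le_of_ne (Ideal.comap_mono hle) fun heq => ?_
  have h1 : a.asIdeal.under A = b.asIdeal.under A := congrArg PrimeSpectrum.asIdeal heq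
  have h2 := Algebra.QuasiFinite.eq_of_le_of_under_eq (R := A) a.asIdeal b.asIdeal hle h1
  exact hab.ne (PrimeSpectrum.ext h2)

/-- faithfully flat algebras do not lower the Krull dimension -/
theorem ringKrullDim_le_of_faithfullyFlat (A : Type u) (B : Type v) [CommRing A] [CommRing B]
    [Algebra A B] [Module.FaithfullyFlat A B] : ringKrullDim A ≤ ringKrullDim B := by
  unfold ringKrullDim Order.krullDim
  refine iSup_le fun l => ?_
  obtain ⟨P, hP, hPl⟩ := Ideal.exists_isPrime_liesOver_of_faithfullyFlat (B := B) l.last.asIdeal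
  obtain ⟨L, hlen, -, -⟩ := Ideal.exists_ltSeries_of_hasGoingDown l P
  rw [← hlen]
  exact Order.LTSeries.length_le_krullDim L

end Dim

section Germs

variable {R : Type v} [CommRing R] {ι : Type w}
  (Γ : ι → Type u) [∀ i, CommRing (Γ i)] (𝔭 : ∀ i, Ideal (Γ i)) [∀ i, (𝔭 i).IsPrime]
  (A : ι → Type u) [∀ i, CommRing (A i)] [∀ i, Algebra (Γ i) (A i)]
  [∀ i, IsLocalization.AtPrime (A i) (𝔭 i)]
  (φ : ∀ i, Γ i →+* R)

/-- transition data between two members of the system -/
structure TransData (i j : ι) (t : Γ i →+* Γ j) (τ : A i →+* A j) : Prop where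
  comp : (φ j).comp t = φ i
  flat : τ.Flat
  loc : ∀ a : A i, IsUnit (τ a) → IsUnit a
  alg : ∀ f : Γ i, τ (algebraMap (Γ i) (A i) f) = algebraMap (Γ j) (A j) (t f)
  red : IsReduced (A i) → IsReduced (A j)
  dim : ringKrullDim (A j) ≤ ringKrullDim (A i)

variable [IsLocalRing R] (hunit : ∀ i (f : Γ i), f ∉ 𝔭 i → IsUnit (φ i f))
  (hnon : ∀ i (f : Γ i), f ∈ 𝔭 i → ¬ IsUnit (φ i f))
  (h1 : ∀ (i : ι) (s : Finset R), ∃ (j : ι) (t : Γ i →+* Γ j) (τ : A i →+* A j),
    TransData Γ A φ i j t τ ∧ (s : Set R) ⊆ Set.range (φ j))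
  (h3 : ∀ (i : ι) (f : Γ i), φ i f = 0 → ∃ (j : ι) (t : Γ i →+* Γ j) (τ : A i →+* A j),
    TransData Γ A φ i j t τ ∧ t f = 0)

include hunit hnon h1 h3 in
/-- the comparison maps -/
theorem exists_sigma :
    ∃ σ : ∀ i, A i →+* R, (∀ i (f : Γ i), σ i (algebraMap (Γ i) (A i) f) = φ i f) ∧
      (∀ i, Function.Injective (σ i)) ∧ (∀ i, IsLocalHom (σ i)) ∧ (∀ i, (σ i).Flat) ∧
      ∀ (i : ι) (s : Finset R), ∃ (j : ι) (t : Γ i →+* Γ j) (τ : A i →+* A j),
        TransData Γ A φ i j t τ ∧ (σ j).comp τ = σ i ∧ (s : Set R) ⊆ Set.range (σ j) := by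
  classical
  haveI hAloc : ∀ i, IsLocalRing (A i) := fun i => IsLocalization.AtPrime.isLocalRing (A i) (𝔭 i)
  have hu' : ∀ i (y : (𝔭 i).primeCompl), IsUnit (φ i y) := fun i y => hunit i y y.2
  obtain ⟨σ, hσdef⟩ : ∃ σ : ∀ i, A i →+* R, σ = fun i => IsLocalization.lift (hu' i) :=
    ⟨_, rfl⟩
  have hσ : ∀ i (f : Γ i), σ i (algebraMap (Γ i) (A i) f) = φ i f := by
    intro i f
    rw [hσdef]
    exact IsLocalization.lift_eq (hu' i) f
  have hpres : ∀ i (a : A i), ∃ (f : Γ i) (s : Γ i), s ∉ 𝔭 i ∧
      a * algebraMap (Γ i) (A i) s = algebraMap (Γ i) (A i) f := by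
    intro i a
    obtain ⟨⟨f, s⟩, hfs⟩ := IsLocalization.surj (𝔭 i).primeCompl a
    exact ⟨f, s.1, s.2, hfs⟩
  have halgunit : ∀ i (s : Γ i), s ∉ 𝔭 i → IsUnit (algebraMap (Γ i) (A i) s) := by
    intro i s hs
    exact IsLocalization.map_units (A i) (⟨s, hs⟩ : (𝔭 i).primeCompl)
  have hcompat : ∀ (i j : ι) (t : Γ i →+* Γ j) (τ : A i →+* A j), TransData Γ A φ i j t τ →
      (σ j).comp τ = σ i := by
    intro i j t τ hd
    apply IsLocalization.ringHom_ext (𝔭 i).primeCompl
    ext f
    show σ j (τ (algebraMap (Γ i) (A i) f)) = σ i (algebraMap (Γ i) (A i) f)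
    rw [hd.alg, hσ, hσ, ← hd.comp]
    rfl
  have hinj : ∀ i, Function.Injective (σ i) := by
    intro i
    rw [injective_iff_map_eq_zero]
    intro a ha
    obtain ⟨f, s, hs, hfs⟩ := hpres i a
    have hφf : φ i f = 0 := by
      rw [← hσ, ← hfs, map_mul, ha, zero_mul]
    obtain ⟨j, t, τ, hd, htf⟩ := h3 i f hφf
    have hτinj : Function.Injective τ := injective_of_flat_local τ hd.flat ⟨hd.loc⟩
    apply hτinj
    rw [map_zero]
    have h4 : τ a * algebraMap (Γ j) (A j) (t s) = 0 := by
      rw [← hd.alg, ← map_mul, hfs, hd.alg, htf, map_zero]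
    have hts : t s ∉ 𝔭 j := by
      intro hmem
      apply hnon j (t s) hmem
      have : φ j (t s) = φ i s := by rw [← hd.comp]; rfl
      rw [this]
      exact hunit i s hs
    exact (halgunit j (t s) hts).mul_left_eq_zero.1 h4
  have hσloc : ∀ i, IsLocalHom (σ i) := by
    intro i
    refine ⟨fun a ha => ?_⟩
    obtain ⟨f, s, hs, hfs⟩ := hpres i a
    have h5 : IsUnit (φ i f) := by
      rw [← hσ, ← hfs, map_mul, hσ]
      exact ha.mul (hunit i s hs)
    have hf : f ∉ 𝔭 i := fun hmem => hnon i f hmem h5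
    have h6 : IsUnit (a * algebraMap (Γ i) (A i) s) := by
      rw [hfs]; exact halgunit i f hf
    exact isUnit_of_mul_isUnit_left h6
  have hrange : ∀ i, Set.range (φ i) ⊆ Set.range (σ i) := by
    rintro i _ ⟨f, rfl⟩
    exact ⟨algebraMap (Γ i) (A i) f, hσ i f⟩
  have hlast : ∀ (i : ι) (s : Finset R), ∃ (j : ι) (t : Γ i →+* Γ j) (τ : A i →+* A j),
      TransData Γ A φ i j t τ ∧ (σ j).comp τ = σ i ∧ (s : Set R) ⊆ Set.range (σ j) := by
    intro i s
    obtain ⟨j, t, τ, hd, hj⟩ := h1 i s
    exact ⟨j, t, τ, hd, hcompat i j t τ hd, hj.trans (hrange j)⟩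
  have hflat : ∀ i, (σ i).Flat := by
    intro i
    apply flat_of_forall_exists.{u, v, u} (σ i)
    intro l x
    obtain ⟨j, t, τ, hd, hc, hj⟩ := hlast i (Finset.univ.image x)
    refine ⟨A j, inferInstance, τ, σ j, hd.flat, hc, hinj j, fun k => ?_⟩
    apply hj
    rw [Finset.coe_image]
    exact ⟨k, Finset.mem_coe.2 (Finset.mem_univ k), rfl⟩
  exact ⟨σ, hσ, hinj, hσloc, hflat, hlast⟩

include hunit hnon h1 h3 in
/-- reducedness descends to the members -/
theorem isReduced_of_isReduced [IsReduced R] (i : ι) : IsReduced (A i) := by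
  obtain ⟨σ, -, hinj, -, -, -⟩ := exists_sigma Γ 𝔭 A φ hunit hnon h1 h3
  exact isReduced_of_injective (σ i) (hinj i)

include hunit hnon h1 h3 in
/-- reducedness of one member implies reducedness of the ring of germs -/
theorem isReduced_of_exists (i : ι) (hi : IsReduced (A i)) : IsReduced R := by
  obtain ⟨σ, -, hinj, -, -, hlast⟩ := exists_sigma Γ 𝔭 A φ hunit hnon h1 h3
  refine ⟨fun r hr => ?_⟩
  obtain ⟨n, hn⟩ := hr
  obtain ⟨j, t, τ, hd, -, hj⟩ := hlast i {r}
  obtain ⟨a, rfl⟩ := hj (Finset.mem_coe.2 (Finset.mem_singleton_self r))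
  haveI : IsReduced (A j) := hd.red hi
  have h0 : a ^ n = 0 := by
    apply hinj j
    rw [map_pow, hn, map_zero]
  have ha : a = 0 := IsReduced.eq_zero a ⟨n, h0⟩
  rw [ha, map_zero]

include hunit hnon h1 h3 in
/-- the Krull dimension of the ring of germs is that of each member -/
theorem ringKrullDim_eq (i : ι) : ringKrullDim R = ringKrullDim (A i) := by
  classical
  haveI hAloc : ∀ i, IsLocalRing (A i) := fun i => IsLocalization.AtPrime.isLocalRing (A i) (𝔭 i)
  obtain ⟨σ, -, hinj, hloc, hflat, hlast⟩ := exists_sigma Γ 𝔭 A φ hunit hnon h1 h3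
  apply le_antisymm
  · unfold ringKrullDim Order.krullDim
    refine iSup_le fun l => ?_
    -- separating elements
    have hsep : ∀ k : Fin l.length, ∃ x : R, x ∈ (l k.succ).asIdeal ∧ x ∉ (l k.castSucc).asIdeal := by
      intro k
      have hlt : (l k.castSucc).asIdeal < (l k.succ).asIdeal := l.step k
      obtain ⟨x, hx1, hx2⟩ := SetLike.exists_of_lt hlt
      exact ⟨x, hx1, hx2⟩
    choose x hx1 hx2 using hsep
    obtain ⟨j, t, τ, hd, -, hj⟩ := hlast i (Finset.univ.image x)
    have hmem : ∀ k, x k ∈ Set.range (σ j) := by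
      intro k
      apply hj
      rw [Finset.coe_image]
      exact ⟨k, Finset.mem_coe.2 (Finset.mem_univ k), rfl⟩
    let L : LTSeries (PrimeSpectrum (A j)) :=
      { length := l.length
        toFun := fun k => PrimeSpectrum.comap (σ j) (l k)
        step := by
          intro k
          obtain ⟨y, hy⟩ := hmem k
          have hle : (l k.castSucc).asIdeal ≤ (l k.succ).asIdeal := (l.step k).le
          refine lt_of_le_of_ne (Ideal.comap_mono hle) fun heq => ?_
          have h1' : ((l k.castSucc).asIdeal).comap (σ j) = ((l k.succ).asIdeal).comap (σ j) :=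
            heq
          have hy1 : y ∈ ((l k.succ).asIdeal).comap (σ j) := by
            rw [Ideal.mem_comap, hy]; exact hx1 k
          rw [← h1', Ideal.mem_comap, hy] at hy1
          exact hx2 k hy1 }
    have hL : (l.length : WithBot ℕ∞) ≤ ringKrullDim (A j) :=
      Order.LTSeries.length_le_krullDim L
    exact hL.trans hd.dim
  · letI algB : Algebra (A i) R := (σ i).toAlgebra
    haveI : Module.FaithfullyFlat (A i) R := faithfullyFlat_of_flat_local (σ i) (hflat i) (hloc i)
    exact ringKrullDim_le_of_faithfullyFlat (A i) R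

end Germs

end Groth.Agent.Lib.GermColimH7
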