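import Mathlib
import Groth.Agent.Lib.GermColim_helper7
import Groth.Agent.Lib.NoethApprox_helper3
import Groth.Agent.Lib.EtStalk_helper8

/-!
# Rings of germs: Noetherianity and regularity (helper7)

Continuation of `GermColim_helper7`: with "unramified" transition maps (`𝔪_i A_j = 𝔪_j`),
* `exists_sigma2`: moreover `𝔪_{A_i} R = 𝔪_R`;
* `isNoetherianRing_of_germs`: `R` is Noetherian as soon as one member is;
* `isNoetherianRing_member`: conversely;
* `isRegularLocalRing_iff`.
-/

set_option autoImplicit false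
set_option backward.isDefEq.respectTransparency false
set_option backward.isDefEq.respectTransparency.types false
set_option linter.style.haveILetI false
set_option linter.unusedSectionVars false
set_option linter.unusedVariables false
set_option maxHeartbeats 1600000

universe u v w

namespace Groth.Agent.Lib.GermColimH7

open Groth.Agent.Lib.MinPrimeColimH7 IsLocalRing

theorem isNoetherianRing_of_faithfullyFlat' {A : Type u} {B : Type v} [CommRing A] [CommRing B]
    [Algebra A B] [Module.FaithfullyFlat A B] [IsNoetherianRing B] : IsNoetherianRing A := by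
  have hinj : Function.Injective (Ideal.map (algebraMap A B)) := by
    intro I J h
    rw [← Ideal.comap_map_eq_self_of_faithfullyFlat (B := B) I, h,
      Ideal.comap_map_eq_self_of_faithfullyFlat]
  have hmono : StrictMono (Ideal.map (algebraMap A B)) :=
    Monotone.strictMono_of_injective (fun _ _ h => Ideal.map_mono h) hinj
  have : WellFoundedGT (Ideal B) := isNoetherian_iff'.mp inferInstance
  exact isNoetherian_iff'.mpr hmono.wellFoundedGT

section Germs

variable {R : Type v} [CommRing R] {ι : Type w}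
  (Γ : ι → Type u) [∀ i, CommRing (Γ i)] (𝔭 : ∀ i, Ideal (Γ i)) [∀ i, (𝔭 i).IsPrime]
  (A : ι → Type u) [∀ i, CommRing (A i)] [∀ i, Algebra (Γ i) (A i)]
  [∀ i, IsLocalization.AtPrime (A i) (𝔭 i)]
  (φ : ∀ i, Γ i →+* R)

/-- transition data with unramifiedness -/
structure TransData2 (i j : ι) (t : Γ i →+* Γ j) (τ : A i →+* A j) : Prop where
  base : TransData Γ A φ i j t τ
  unr : ∀ b : A j, ¬ IsUnit b → b ∈ Ideal.map τ (Ideal.map (algebraMap (Γ i) (A i)) (𝔭 i))
  noeth : IsNoetherianRing (A i) → IsNoetherianRing (A j)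

variable [IsLocalRing R] (hunit : ∀ i (f : Γ i), f ∉ 𝔭 i → IsUnit (φ i f))
  (hnon : ∀ i (f : Γ i), f ∈ 𝔭 i → ¬ IsUnit (φ i f))
  (h1 : ∀ (i : ι) (s : Finset R), ∃ (j : ι) (t : Γ i →+* Γ j) (τ : A i →+* A j),
    TransData2 Γ 𝔭 A φ i j t τ ∧ (s : Set R) ⊆ Set.range (φ j))
  (h3 : ∀ (i : ι) (f : Γ i), φ i f = 0 → ∃ (j : ι) (t : Γ i →+* Γ j) (τ : A i →+* A j),
    TransData Γ A φ i j t τ ∧ t f = 0)

include hunit hnon h1 h3 in
/-- the comparison maps, with the maximal ideals -/
theorem exists_sigma2 :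
    ∃ σ : ∀ i, A i →+* R, (∀ i (f : Γ i), σ i (algebraMap (Γ i) (A i) f) = φ i f) ∧
      (∀ i, Function.Injective (σ i)) ∧ (∀ i, IsLocalHom (σ i)) ∧ (∀ i, (σ i).Flat) ∧
      (∀ (i : ι) (s : Finset R), ∃ (j : ι) (t : Γ i →+* Γ j) (τ : A i →+* A j),
        TransData2 Γ 𝔭 A φ i j t τ ∧ (σ j).comp τ = σ i ∧ (s : Set R) ⊆ Set.range (σ j)) ∧
      ∀ i, Ideal.map (σ i) (Ideal.map (algebraMap (Γ i) (A i)) (𝔭 i)) = maximalIdeal R := by
  classical
  haveI hAloc : ∀ i, IsLocalRing (A i) := fun i => IsLocalization.AtPrime.isLocalRing (A i) (𝔭 i)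
  have h1' : ∀ (i : ι) (s : Finset R), ∃ (j : ι) (t : Γ i →+* Γ j) (τ : A i →+* A j),
      TransData Γ A φ i j t τ ∧ (s : Set R) ⊆ Set.range (φ j) := by
    intro i s
    obtain ⟨j, t, τ, hd, hs⟩ := h1 i s
    exact ⟨j, t, τ, hd.base, hs⟩
  obtain ⟨σ, hσ, hinj, hloc, hflat, -⟩ := exists_sigma Γ 𝔭 A φ hunit hnon h1' h3
  have hcompat : ∀ (i j : ι) (t : Γ i →+* Γ j) (τ : A i →+* A j), TransData Γ A φ i j t τ →
      (σ j).comp τ = σ i := by
    intro i j t τ hd
    apply IsLocalization.ringHom_ext (𝔭 i).primeCompl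
    ext f
    show σ j (τ (algebraMap (Γ i) (A i) f)) = σ i (algebraMap (Γ i) (A i) f)
    rw [hd.alg, hσ, hσ, ← hd.comp]
    rfl
  have hrange : ∀ i, Set.range (φ i) ⊆ Set.range (σ i) := by
    rintro i _ ⟨f, rfl⟩
    exact ⟨algebraMap (Γ i) (A i) f, hσ i f⟩
  have hlast : ∀ (i : ι) (s : Finset R), ∃ (j : ι) (t : Γ i →+* Γ j) (τ : A i →+* A j),
      TransData2 Γ 𝔭 A φ i j t τ ∧ (σ j).comp τ = σ i ∧ (s : Set R) ⊆ Set.range (σ j) := by
    intro i s
    obtain ⟨j, t, τ, hd, hj⟩ := h1 i s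
    exact ⟨j, t, τ, hd, hcompat i j t τ hd.base, hj.trans (hrange j)⟩
  refine ⟨σ, hσ, hinj, hloc, hflat, hlast, fun i => ?_⟩
  have hmax : Ideal.map (algebraMap (Γ i) (A i)) (𝔭 i) = maximalIdeal (A i) :=
    IsLocalization.AtPrime.map_eq_maximalIdeal (𝔭 i) (A i)
  apply le_antisymm
  · rw [hmax, Ideal.map_le_iff_le_comap]
    intro a ha
    rw [Ideal.mem_comap, mem_maximalIdeal, mem_nonunits_iff]
    intro hu
    haveI := hloc i
    exact (mem_nonunits_iff.1 ((mem_maximalIdeal a).1 ha)) (isUnit_of_map_unit (σ i) a hu)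
  · intro z hz
    obtain ⟨j, t, τ, hd, hc, hj⟩ := hlast i {z}
    obtain ⟨b, rfl⟩ := hj (Finset.mem_coe.2 (Finset.mem_singleton_self z))
    have hb : ¬ IsUnit b := fun hu =>
      (mem_nonunits_iff.1 ((mem_maximalIdeal _).1 hz)) (hu.map (σ j))
    have h5 := Ideal.mem_map_of_mem (σ j) (hd.unr b hb)
    rw [Ideal.map_map, hc] at h5
    exact h5

include hunit hnon h1 h3 in
/-- Noetherianity of the members when the ring of germs is Noetherian -/
theorem isNoetherianRing_member [IsNoetherianRing R] (i : ι) : IsNoetherianRing (A i) := by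
  haveI hAloc : ∀ i, IsLocalRing (A i) := fun i => IsLocalization.AtPrime.isLocalRing (A i) (𝔭 i)
  obtain ⟨σ, -, -, hloc, hflat, -, -⟩ := exists_sigma2 Γ 𝔭 A φ hunit hnon h1 h3
  letI algB : Algebra (A i) R := (σ i).toAlgebra
  haveI : Module.FaithfullyFlat (A i) R := faithfullyFlat_of_flat_local (σ i) (hflat i) (hloc i)
  exact isNoetherianRing_of_faithfullyFlat' (A := A i) (B := R)

include hunit hnon h1 h3 in
/-- the ring of germs is Noetherian as soon as one member is -/
theorem isNoetherianRing_of_germs (i₀ : ι) (hN : IsNoetherianRing (A i₀)) :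
    IsNoetherianRing R := by
  classical
  haveI hAloc : ∀ i, IsLocalRing (A i) := fun i => IsLocalization.AtPrime.isLocalRing (A i) (𝔭 i)
  obtain ⟨σ, hσ, hinj, hloc, hflat, hlast, hmaxR⟩ := exists_sigma2 Γ 𝔭 A φ hunit hnon h1 h3
  have hmaxA : ∀ i, Ideal.map (algebraMap (Γ i) (A i)) (𝔭 i) = maximalIdeal (A i) := fun i =>
    IsLocalization.AtPrime.map_eq_maximalIdeal (𝔭 i) (A i)
  have hmax : ∀ i, (maximalIdeal (A i)).map (σ i) = maximalIdeal R := by
    intro i
    rw [← hmaxA i]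
    exact hmaxR i
  apply Groth.Agent.Lib.NoethApproxH3.isNoetherianRing_of_closed
  · rw [← hmax i₀]
    exact Ideal.FG.map (IsNoetherian.noetherian _) _
  · intro 𝔞 h𝔞 x hx
    obtain ⟨l, g, hg⟩ := Submodule.fg_iff_exists_fin_generating_family.mp h𝔞
    obtain ⟨j, t, τ, hd, -, hj⟩ := hlast i₀ (Finset.univ.image (Fin.cons x g : Fin (l + 1) → R))
    haveI hNj : IsNoetherianRing (A j) := hd.noeth hN
    have hmem : ∀ k : Fin (l + 1), (Fin.cons x g : Fin (l + 1) → R) k ∈ Set.range (σ j) := by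
      intro k
      apply hj
      rw [Finset.coe_image]
      exact ⟨k, Finset.mem_coe.2 (Finset.mem_univ k), rfl⟩
    choose a ha using hmem
    have ha0 : σ j (a 0) = x := by rw [ha 0]; rfl
    have hak : ∀ k : Fin l, σ j (a k.succ) = g k := fun k => by rw [ha k.succ]; rfl
    let 𝔞j : Ideal (A j) := Ideal.span (Set.range (fun k : Fin l => a k.succ))
    have hmap : 𝔞j.map (σ j) = 𝔞 := by
      rw [Ideal.map_span, ← Set.range_comp, ← hg]
      congr 2
      ext k
      exact hak k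
    letI algB : Algebra (A j) R := (σ j).toAlgebra
    haveI : Module.FaithfullyFlat (A j) R := faithfullyFlat_of_flat_local (σ j) (hflat j) (hloc j)
    have hcomap : ∀ K : Ideal (A j), (K.map (σ j)).comap (σ j) = K := fun K =>
      Ideal.comap_map_eq_self_of_faithfullyFlat (B := R) K
    have hx' : ∀ n, a 0 ∈ 𝔞j ⊔ maximalIdeal (A j) ^ n := by
      intro n
      rw [← hcomap (𝔞j ⊔ maximalIdeal (A j) ^ n), Ideal.mem_comap, Ideal.map_sup, Ideal.map_pow,
        hmap, hmax j, ha0]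
      exact hx n
    have h1'' := Groth.Agent.Lib.NoethApproxH3.mem_of_forall_mem_sup_pow 𝔞j (a 0) hx'
    rw [← ha0, ← hmap]
    exact Ideal.mem_map_of_mem _ h1''

include hunit hnon h1 h3 in
/-- regularity of the ring of germs and of a Noetherian member -/
theorem isRegularLocalRing_iff (i : ι) (hN : IsNoetherianRing (A i)) :
    IsRegularLocalRing R ↔ IsRegularLocalRing (A i) := by
  haveI hAloc : ∀ i, IsLocalRing (A i) := fun i => IsLocalization.AtPrime.isLocalRing (A i) (𝔭 i)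
  haveI hNR : IsNoetherianRing R := isNoetherianRing_of_germs Γ 𝔭 A φ hunit hnon h1 h3 i hN
  obtain ⟨σ, hσ, hinj, hloc, hflat, hlast, hmaxR⟩ := exists_sigma2 Γ 𝔭 A φ hunit hnon h1 h3
  letI algB : Algebra (A i) R := (σ i).toAlgebra
  haveI : Module.Flat (A i) R := hflat i
  haveI : IsLocalHom (algebraMap (A i) R) := hloc i
  have hmax : (maximalIdeal (A i)).map (algebraMap (A i) R) = maximalIdeal R := by
    rw [← IsLocalization.AtPrime.map_eq_maximalIdeal (𝔭 i) (A i)]
    exact hmaxR i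
  exact Groth.Agent.EtStalk.isRegularLocalRing_iff_of_flat hmax

end Germs

end Groth.Agent.Lib.GermColimH7
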