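import Mathlib
import Groth.Prelude.Def_SGA4a

set_option backward.isDefEq.respectTransparency false
set_option backward.isDefEq.respectTransparency.types false
set_option linter.style.haveILetI false
set_option linter.unusedSectionVars false
set_option autoImplicit false

/-!
# Giraud's theorem, part A: covers for the canonical topology and images (helper7)
-/

open CategoryTheory Limits Opposite

namespace Groth.Agent.Lib.GiraudH7

universe v u

variable {E : Type v} [Category.{u} E]

/-- A morphism all of whose base changes are effective epimorphisms generates a covering sieve for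
the canonical topology. -/
lemma singleton_mem [HasPullbacks E] {A B : E} (π : A ⟶ B)
    (h : ∀ (B' : E) (g : B' ⟶ B), EffectiveEpi (pullback.snd π g)) :
    Sieve.generate (Presieve.singleton π) ∈ Sheaf.canonicalTopology E B := by
  apply Sheaf.mem_finestTopology_of_forall_isSheafFor
  rintro _ ⟨W, rfl⟩ Y f
  rw [← Sieve.pullbackArrows_comm, Presieve.pullback_singleton]
  have h1 : (Presieve.singleton (pullback.snd π f)).EffectiveEpimorphic :=
    (Sieve.effectiveEpimorphic_singleton _).2 (h Y f)
  exact (Sieve.forallYonedaIsSheaf_iff_colimit _).2 h1 W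

/-- The coprojections of a universal coproduct generate a covering sieve for the canonical
topology. -/
lemma ofArrows_mem [HasPullbacks E] {ι : Type*} {X : ι → E} (c : Cofan X)
    (hc : IsUniversalColimit c) :
    Sieve.ofArrows X c.inj ∈ Sheaf.canonicalTopology E c.pt := by
  apply Sheaf.mem_finestTopology_of_forall_isSheafFor
  rintro _ ⟨W, rfl⟩ Y f
  -- the pulled back cofan is a colimit
  let c' : Cofan (fun i => pullback f (c.inj i)) := Cofan.mk Y (fun i => pullback.fst f (c.inj i))
  have hc' : Nonempty (IsColimit c') := by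
    refine hc c' (Discrete.natTrans fun i => pullback.snd f (c.inj i.as)) f ?_
      (NatTrans.Equifibered.of_discrete _) (fun j => ?_)
    · ext ⟨i⟩
      exact pullback.condition.symm
    · exact IsPullback.of_hasPullback f (c.inj j.as)
  obtain ⟨hc'⟩ := hc'
  -- the pulled back sieve is generated by the pulled back coprojections
  have hS : (Sieve.ofArrows X c.inj).pullback f =
      Sieve.ofArrows (fun i => pullback f (c.inj i)) (fun i => pullback.fst f (c.inj i)) := by
    ext T g
    constructor
    · intro hg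
      obtain ⟨i, a, ha⟩ := (Sieve.mem_ofArrows_iff _ _ _).1 hg
      rw [Sieve.mem_ofArrows_iff]
      exact ⟨i, pullback.lift g a ha, by simp⟩
    · intro hg
      obtain ⟨i, a, ha⟩ := (Sieve.mem_ofArrows_iff _ _ _).1 hg
      change (Sieve.ofArrows X c.inj) (g ≫ f)
      rw [Sieve.mem_ofArrows_iff]
      exact ⟨i, a ≫ pullback.snd f (c.inj i), by rw [ha, Category.assoc, Category.assoc,
        pullback.condition]⟩
  rw [hS]
  change Presieve.IsSheafFor _ (Sieve.generate (Presieve.ofArrows _ _)).arrows
  rw [← Presieve.isSheafFor_iff_generate, Presieve.isSheafFor_arrows_iff]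
  intro x _
  refine ⟨Cofan.IsColimit.desc hc' x, fun i => ?_, fun t ht => ?_⟩
  · exact Cofan.IsColimit.fac hc' x i
  · exact Cofan.IsColimit.hom_ext hc' _ _ (fun i => (ht i).trans (Cofan.IsColimit.fac hc' x i).symm)


variable [HasFiniteLimits E]

/-- Giraud's axioms (b) and (c). -/
structure Axioms (E : Type v) [Category.{u} E] [HasFiniteLimits E] : Prop where
  hb : SGA4.HasDisjointUniversalCoproducts.{v, u} E
  hc : ∀ (R A : E) (p₁ p₂ : R ⟶ A), SGA4.IsEquivRel p₁ p₂ →
    SGA4.IsEffectiveUniversalEquivRel p₁ p₂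

/-- The empty sieve covers any object mapping to the empty coproduct. -/
lemma bot_mem (h : Axioms E) {T : E} {ι : Type u} [IsEmpty ι] {X : ι → E} (c : Cofan X)
    (hc : IsUniversalColimit c) (f : T ⟶ c.pt) :
    (⊥ : Sieve T) ∈ Sheaf.canonicalTopology E T := by
  have h1 := (Sheaf.canonicalTopology E).pullback_stable f (ofArrows_mem c hc)
  refine (Sheaf.canonicalTopology E).superset_covering ?_ h1
  intro Y g hg
  obtain ⟨i, _⟩ := (Sieve.mem_ofArrows_iff _ _ _).1 hg
  exact (IsEmpty.false i).elim

lemma subsingleton_of_bot_mem {F : Eᵒᵖ ⥤ Type u}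
    (hF : Presieve.IsSheaf (Sheaf.canonicalTopology E) F) {T : E}
    (hT : (⊥ : Sieve T) ∈ Sheaf.canonicalTopology E T) : Subsingleton (F.obj (op T)) :=
  ⟨fun _ _ => (hF ⊥ hT).isSeparatedFor.ext (fun _ _ hf => hf.elim)⟩

/-- Image factorisation under Giraud's axiom (c). -/
lemma exists_image (h : Axioms E) {V W : E} (f : V ⟶ W) :
    ∃ (I : E) (q : V ⟶ I) (m : I ⟶ W), q ≫ m = f ∧ Mono m ∧
      ∀ (B' : E) (g : B' ⟶ I), EffectiveEpi (pullback.snd q g) := by
  have hrel : SGA4.IsEquivRel (pullback.fst f f) (pullback.snd f f) := by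
    intro T
    constructor
    · intro a b hab
      simp only [Prod.mk.injEq] at hab
      exact pullback.hom_ext hab.1 hab.2
    · have key : ∀ a b : T ⟶ V, (∃ k : T ⟶ pullback f f,
          k ≫ pullback.fst f f = a ∧ k ≫ pullback.snd f f = b) ↔ a ≫ f = b ≫ f := by
        intro a b
        constructor
        · rintro ⟨k, rfl, rfl⟩
          simp [pullback.condition]
        · intro hab
          exact ⟨pullback.lift a b hab, by simp, by simp⟩
      exact ⟨fun a => (key a a).2 rfl, fun {a b} hab => (key b a).2 ((key a b).1 hab).symm,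
        fun {a b c} hab hbc => (key a c).2 (((key a b).1 hab).trans ((key b c).1 hbc))⟩
  obtain ⟨B, π, hpb, hpo, heff⟩ := h.hc _ _ _ _ hrel
  let m : B ⟶ W := hpo.desc f f pullback.condition
  have hm : π ≫ m = f := hpo.inl_desc f f pullback.condition
  refine ⟨B, π, m, hm, ?_, heff⟩
  constructor
  intro T a b hab
  have e1 : EffectiveEpi (pullback.snd π a) := heff T a
  have e2 : EffectiveEpi (pullback.snd π (pullback.snd π a ≫ b)) := heff _ _
  let a' : pullback π (pullback.snd π a ≫ b) ⟶ V :=
    pullback.snd π (pullback.snd π a ≫ b) ≫ pullback.fst π a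
  let b' : pullback π (pullback.snd π a ≫ b) ⟶ V := pullback.fst π (pullback.snd π a ≫ b)
  have ha' : a' ≫ π = pullback.snd π (pullback.snd π a ≫ b) ≫ pullback.snd π a ≫ a := by
    simp [a', pullback.condition]
  have hb' : b' ≫ π = pullback.snd π (pullback.snd π a ≫ b) ≫ pullback.snd π a ≫ b :=
    pullback.condition
  have hf : a' ≫ f = b' ≫ f := by
    rw [← hm, ← Category.assoc, ha', ← Category.assoc b', hb']
    simp [hab]
  have h3 : a' ≫ π = b' ≫ π := by
    calc a' ≫ π = (pullback.lift a' b' hf ≫ pullback.fst f f) ≫ π := by simp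
      _ = (pullback.lift a' b' hf ≫ pullback.snd f f) ≫ π := by
          rw [Category.assoc, hpb.w, ← Category.assoc]
      _ = b' ≫ π := by simp
  rw [ha', hb'] at h3
  exact (cancel_epi _).1 ((cancel_epi _).1 h3)

/-- The sieve of arrows factoring through an object of `P`. -/
def genSieve (P : ObjectProperty E) (X : E) : Sieve X where
  arrows T f := ∃ (G : E) (_ : P G) (a : T ⟶ G) (g : G ⟶ X), a ≫ g = f
  downward_closed := by
    rintro Y Z f ⟨G, hG, a, g, rfl⟩ k
    exact ⟨G, hG, k ≫ a, g, by simp⟩

/-- The generators, indexed by a small type. -/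
noncomputable def gobj (P : ObjectProperty E) [ObjectProperty.Small.{u} P]
    (a : Shrink.{u} (Subtype P)) : E := ((equivShrink (Subtype P)).symm a).1

lemma gobj_prop (P : ObjectProperty E) [ObjectProperty.Small.{u} P]
    (a : Shrink.{u} (Subtype P)) : P (gobj P a) := ((equivShrink (Subtype P)).symm a).2

/-- Every object is covered by the generators. -/
lemma genSieve_mem (h : Axioms E) (P : ObjectProperty E) [ObjectProperty.Small.{u} P]
    (hP : P.IsDetecting) (X : E) : genSieve P X ∈ Sheaf.canonicalTopology E X := by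
  let ι : Type u := Σ (a : Shrink.{u} (Subtype P)), (gobj P a ⟶ X)
  obtain ⟨c, hcol, _, hu⟩ := h.hb ι (fun i => gobj P i.1)
  let ε : c.pt ⟶ X := Cofan.IsColimit.desc hcol (fun i => i.2)
  have hε : ∀ i : ι, c.inj i ≫ ε = i.2 := fun i => Cofan.IsColimit.fac hcol _ i
  obtain ⟨I, q, m, hqm, hmono, heff⟩ := exists_image h ε
  have hiso : IsIso m := by
    apply hP
    intro G hG g
    obtain ⟨a, ha⟩ := (equivShrink (Subtype P)).symm.surjective ⟨G, hG⟩
    have hG' : gobj P a = G := congrArg Subtype.val ha
    subst hG'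
    refine ⟨c.inj ⟨a, g⟩ ≫ q, ?_, fun y hy => ?_⟩
    · change (c.inj ⟨a, g⟩ ≫ q) ≫ m = g
      rw [Category.assoc, hqm]
      exact hε ⟨a, g⟩
    · rw [← cancel_mono m]
      change y ≫ m = (c.inj ⟨a, g⟩ ≫ q) ≫ m
      rw [hy, Category.assoc, hqm]
      exact (hε ⟨a, g⟩).symm
  have h1 : Sieve.generate (Presieve.singleton q) ∈ Sheaf.canonicalTopology E I :=
    singleton_mem q heff
  have h2 := (Sheaf.canonicalTopology E).pullback_stable (inv m) h1
  refine (Sheaf.canonicalTopology E).transitive h2 (genSieve P X) ?_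
  intro T f hf
  obtain ⟨Y, a, g, hg, hfac⟩ := hf
  cases hg
  have hfa : f = a ≫ ε := by
    rw [← hqm, ← Category.assoc, hfac]
    simp
  have h3 : Sieve.ofArrows (fun i : ι => gobj P i.1) c.inj ≤ (genSieve P X).pullback ε := by
    rw [Sieve.ofArrows, Sieve.generate_le_iff]
    rintro _ _ ⟨i⟩
    change (genSieve P X) (c.inj i ≫ ε)
    rw [hε]
    exact ⟨gobj P i.1, gobj_prop P i.1, 𝟙 _, i.2, by simp⟩
  have h4 := (Sheaf.canonicalTopology E).superset_covering h3 (ofArrows_mem c hu)
  have h5 := (Sheaf.canonicalTopology E).pullback_stable a h4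
  rw [hfa, Sieve.pullback_comp]
  exact h5

end Groth.Agent.Lib.GiraudH7
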