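import Mathlib
import Groth.Prelude.Def_SGA4a
import Groth.Agent.Lib.GiraudA_helper7

set_option backward.isDefEq.respectTransparency false
set_option backward.isDefEq.respectTransparency.types false
set_option linter.style.haveILetI false
set_option linter.unusedSectionVars false
set_option autoImplicit false

/-!
# Giraud's theorem, part B: sheaves for the canonical topology are representable (helper7)
-/

open CategoryTheory Limits Opposite

namespace Groth.Agent.Lib.GiraudH7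

universe v u

variable {E : Type v} [Category.{u} E] [HasFiniteLimits E]

section Glue

/-- Morphisms into a fixed object can be glued along covers of the canonical topology. -/
lemma glue {T Z : E} {S : Sieve T} (hS : S ∈ Sheaf.canonicalTopology E T)
    (x : ∀ ⦃Y : E⦄ (f : Y ⟶ T), S f → (Y ⟶ Z))
    (hx : ∀ ⦃Y Y' : E⦄ (f : Y ⟶ T) (hf : S f) (g : Y' ⟶ Y),
      x (g ≫ f) (S.downward_closed hf g) = g ≫ x f hf) :
    ∃ c : T ⟶ Z, ∀ ⦃Y : E⦄ (f : Y ⟶ T) (hf : S f), f ≫ c = x f hf := by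
  have hsh := Sheaf.isSheaf_yoneda_obj Z S hS
  let fam : Presieve.FamilyOfElements (yoneda.obj Z) S.arrows := fun Y f hf => x f hf
  have hcomp : fam.Compatible := by
    rw [Presieve.compatible_iff_sieveCompatible]
    intro Y Y' f g hf
    exact hx f hf g
  obtain ⟨c, hc, _⟩ := hsh fam hcomp
  exact ⟨c, fun Y f hf => hc f hf⟩

lemma hom_ext_of_mem {T Z : E} {S : Sieve T} (hS : S ∈ Sheaf.canonicalTopology E T)
    (c c' : T ⟶ Z) (hcc : ∀ ⦃Y : E⦄ (f : Y ⟶ T), S f → f ≫ c = f ≫ c') : c = c' :=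
  (Sheaf.isSheaf_yoneda_obj Z S hS).isSeparatedFor.ext (fun _ f hf => hcc f hf)

lemma sec_ext {F : Eᵒᵖ ⥤ Type u} (hF : Presieve.IsSheaf (Sheaf.canonicalTopology E) F)
    {T : E} {S : Sieve T} (hS : S ∈ Sheaf.canonicalTopology E T) (t t' : F.obj (op T))
    (htt : ∀ ⦃Y : E⦄ (f : Y ⟶ T), S f → F.map f.op t = F.map f.op t') : t = t' :=
  (hF S hS).isSeparatedFor.ext (fun _ f hf => htt f hf)

lemma map_comp_app (F : Eᵒᵖ ⥤ Type u) {T T' T'' : E} (f : T'' ⟶ T') (a : T' ⟶ T)
    (s : F.obj (op T)) : F.map (f ≫ a).op s = F.map f.op (F.map a.op s) := by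
  simp

end Glue


lemma bot_mem_of_isInitial (h : Axioms E) {T Z : E} (hZ : IsInitial Z) (f : T ⟶ Z) :
    (⊥ : Sieve T) ∈ Sheaf.canonicalTopology E T := by
  obtain ⟨c, _, _, hu⟩ := h.hb PEmpty.{u + 1} (fun e => e.elim)
  exact bot_mem h c hu (f ≫ hZ.to _)

section Rep

variable (h : Axioms E) (P : ObjectProperty E) [ObjectProperty.Small.{u} P]
  (hP : P.IsDetecting)
  (F : Eᵒᵖ ⥤ Type u) (hF : Presieve.IsSheaf (Sheaf.canonicalTopology E) F)

include h hF in
/-- Step 1: a "universal" section over a coproduct of generators. -/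
lemma exists_sigma : ∃ (U : E) (σ : F.obj (op U)),
    ∀ (a : Shrink.{u} (Subtype P)) (s : F.obj (op (gobj P a))),
      ∃ j : gobj P a ⟶ U, F.map j.op σ = s := by
  let α : Type u := Σ (a : Shrink.{u} (Subtype P)), F.obj (op (gobj P a))
  obtain ⟨c, hcol, hdisj, hu⟩ := h.hb α (fun i => gobj P i.1)
  have hsh : Presieve.IsSheafFor F (Presieve.ofArrows (fun i : α => gobj P i.1) c.inj) := by
    rw [Presieve.isSheafFor_iff_generate]
    exact hF _ (ofArrows_mem c hu)
  have hcompat : Presieve.Arrows.Compatible F c.inj (fun i : α => i.2) := by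
    intro i j Z gi gj hij
    by_cases hne : i = j
    · subst hne
      have : Mono (c.inj i) := Mono.of_coproductDisjoint hcol i
      rw [(cancel_mono (c.inj i)).1 hij]
    · have hinit : IsInitial (pullback (c.inj i) (c.inj j)) :=
        IsInitial.ofCoproductDisjointOfIsColimitOfIsLimit hne hcol (pullback.isLimit _ _)
      have hbot := bot_mem_of_isInitial h hinit (pullback.lift gi gj hij)
      have := subsingleton_of_bot_mem hF hbot
      exact Subsingleton.elim _ _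
  obtain ⟨σ, hσ, _⟩ := (Presieve.isSheafFor_arrows_iff F c.inj).1 hsh (fun i => i.2) hcompat
  exact ⟨c.pt, σ, fun a s => ⟨c.inj ⟨a, s⟩, hσ ⟨a, s⟩⟩⟩

variable {F} in
/-- The relation "the two pullbacks of `σ` agree". -/
def Rel {U : E} (σ : F.obj (op U)) {T : E} (a b : T ⟶ U) : Prop :=
  F.map a.op σ = F.map b.op σ

variable {F} in
lemma Rel.precomp {U : E} {σ : F.obj (op U)} {T T' : E} {a b : T ⟶ U} (hab : Rel σ a b)
    (f : T' ⟶ T) : Rel σ (f ≫ a) (f ≫ b) := by
  unfold Rel at hab ⊢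
  rw [map_comp_app, map_comp_app, hab]

include hF in
variable {F} in
lemma rel_of_local {U : E} {σ : F.obj (op U)} {T : E} {a b : T ⟶ U} {S : Sieve T}
    (hS : S ∈ Sheaf.canonicalTopology E T)
    (hloc : ∀ ⦃Y : E⦄ (f : Y ⟶ T), S f → Rel σ (f ≫ a) (f ≫ b)) : Rel σ a b := by
  apply sec_ext hF hS
  intro Y f hf
  have := hloc f hf
  unfold Rel at this
  rw [map_comp_app, map_comp_app] at this
  exact this

include h hP hF in
/-- Step 3: the relation is representable by a subobject of `U ⨯ U`. -/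
lemma exists_relObj {U : E} (σ : F.obj (op U)) : ∃ (I : E) (r₁ r₂ : I ⟶ U),
    (∀ ⦃T : E⦄ (c : T ⟶ I), Rel σ (c ≫ r₁) (c ≫ r₂)) ∧
    (∀ ⦃T : E⦄ (a b : T ⟶ U), Rel σ a b → ∃ c : T ⟶ I, c ≫ r₁ = a ∧ c ≫ r₂ = b) ∧
    (∀ ⦃T : E⦄ (c c' : T ⟶ I), c ≫ r₁ = c' ≫ r₁ → c ≫ r₂ = c' ≫ r₂ → c = c') := by
  let β : Type u := Σ (a : Shrink.{u} (Subtype P)),
    {ab : (gobj P a ⟶ U) × (gobj P a ⟶ U) // Rel σ ab.1 ab.2}
  obtain ⟨cV, hcol, _, hu⟩ := h.hb β (fun i => gobj P i.1)
  let v : cV.pt ⟶ U ⨯ U :=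
    Cofan.IsColimit.desc hcol (fun i : β => prod.lift i.2.1.1 i.2.1.2)
  have hv : ∀ i : β, cV.inj i ≫ v = prod.lift i.2.1.1 i.2.1.2 :=
    fun i => Cofan.IsColimit.fac hcol _ i
  obtain ⟨I, q, m, hqm, hmono, heff⟩ := exists_image h v
  -- sub-claim A0
  have hA0 : ∀ ⦃Y : E⦄ (a' : Y ⟶ cV.pt), Rel σ (a' ≫ v ≫ prod.fst) (a' ≫ v ≫ prod.snd) := by
    intro Y a'
    have hS2 := (Sheaf.canonicalTopology E).pullback_stable a' (ofArrows_mem cV hu)
    apply rel_of_local hF hS2
    intro Y' f' hf'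
    obtain ⟨i, k, hk⟩ := (Sieve.mem_ofArrows_iff _ _ _).1 hf'
    have e1 : f' ≫ a' ≫ v ≫ prod.fst = k ≫ i.2.1.1 := by
      rw [← Category.assoc, hk, Category.assoc, ← Category.assoc (cV.inj i), hv]
      simp
    have e2 : f' ≫ a' ≫ v ≫ prod.snd = k ≫ i.2.1.2 := by
      rw [← Category.assoc, hk, Category.assoc, ← Category.assoc (cV.inj i), hv]
      simp
    rw [e1, e2]
    exact i.2.2.precomp k
  refine ⟨I, m ≫ prod.fst, m ≫ prod.snd, ?_, ?_, ?_⟩
  · -- Claim A
    intro T c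
    have hS1 := (Sheaf.canonicalTopology E).pullback_stable c (singleton_mem q heff)
    apply rel_of_local hF hS1
    intro Y f hf
    obtain ⟨Y', a', g, hg, hfac⟩ := hf
    cases hg
    have e1 : f ≫ c ≫ m ≫ prod.fst = a' ≫ v ≫ prod.fst := by
      rw [← Category.assoc, ← hfac, Category.assoc, ← Category.assoc q, hqm]
    have e2 : f ≫ c ≫ m ≫ prod.snd = a' ≫ v ≫ prod.snd := by
      rw [← Category.assoc, ← hfac, Category.assoc, ← Category.assoc q, hqm]
    rw [e1, e2]
    exact hA0 a'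
  · -- Claim B
    intro T a b hab
    have hex : ∀ ⦃Y : E⦄ (f : Y ⟶ T), genSieve P T f →
        ∃ x : Y ⟶ I, x ≫ m = f ≫ prod.lift a b := by
      intro Y f hf
      obtain ⟨G, hG, a₀, g, hfac⟩ := hf
      obtain ⟨a', ha'⟩ := (equivShrink (Subtype P)).symm.surjective ⟨G, hG⟩
      have hG' : gobj P a' = G := congrArg Subtype.val ha'
      subst hG'
      let i : β := ⟨a', ⟨(g ≫ a, g ≫ b), hab.precomp g⟩⟩
      refine ⟨a₀ ≫ cV.inj i ≫ q, ?_⟩
      have e0 : cV.inj i ≫ v = prod.lift (g ≫ a) (g ≫ b) := hv i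
      rw [Category.assoc, Category.assoc, hqm, e0, ← hfac]
      ext <;> simp
    have hS := genSieve_mem h P hP T
    obtain ⟨c, hc⟩ := glue (Z := I) hS (fun Y f hf => (hex f hf).choose) (by
      intro Y Y' f hf g
      rw [← cancel_mono m]
      rw [(hex (g ≫ f) ((genSieve P T).downward_closed hf g)).choose_spec, Category.assoc,
        Category.assoc, (hex f hf).choose_spec])
    have hcm : c ≫ m = prod.lift a b := by
      apply hom_ext_of_mem hS
      intro Y f hf
      rw [← Category.assoc, hc f hf, (hex f hf).choose_spec]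
    refine ⟨c, ?_, ?_⟩
    · rw [← Category.assoc, hcm]; simp
    · rw [← Category.assoc, hcm]; simp
  · intro T c c' h1 h2
    rw [← cancel_mono m]
    ext
    · simpa using h1
    · simpa using h2

end Rep

end Groth.Agent.Lib.GiraudH7
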