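import Mathlib
import Groth.Prelude.Def_SGA4a
import Groth.Agent.Lib.GiraudB_helper7

set_option backward.isDefEq.respectTransparency false
set_option backward.isDefEq.respectTransparency.types false
set_option linter.style.haveILetI false
set_option linter.unusedSectionVars false
set_option autoImplicit false

/-!
# Giraud's theorem, part C: representability and the equivalence (helper7)
-/

open CategoryTheory Limits Opposite

namespace Groth.Agent.Lib.GiraudH7

universe v u

variable {E : Type v} [Category.{u} E] [HasFiniteLimits E]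

section Rep

variable (h : Axioms E) (P : ObjectProperty E) [ObjectProperty.Small.{u} P]
  (hP : P.IsDetecting)
  (F : Eᵒᵖ ⥤ Type u) (hF : Presieve.IsSheaf (Sheaf.canonicalTopology E) F)

include h hP hF in
/-- Every sheaf of small sets for the canonical topology is representable. -/
theorem exists_rep : ∃ (X : E), Nonempty (yoneda.obj X ≅ F) := by
  obtain ⟨U, σ, hσ⟩ := exists_sigma h P F hF
  obtain ⟨I, r₁, r₂, hA, hB, hC⟩ := exists_relObj h P hP F hF σ
  have hrel : SGA4.IsEquivRel r₁ r₂ := by
    intro T
    constructor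
    · intro c c' hcc
      simp only [Prod.mk.injEq] at hcc
      exact hC c c' hcc.1 hcc.2
    · have key : ∀ a b : T ⟶ U, (∃ k : T ⟶ I, k ≫ r₁ = a ∧ k ≫ r₂ = b) ↔ Rel σ a b := by
        intro a b
        constructor
        · rintro ⟨k, rfl, rfl⟩
          exact hA k
        · exact fun hab => hB a b hab
      exact ⟨fun a => (key a a).2 rfl, fun {a b} hab => (key b a).2 ((key a b).1 hab).symm,
        fun {a b c} hab hbc => (key a c).2 (((key a b).1 hab).trans ((key b c).1 hbc))⟩
  obtain ⟨X, π, hpb, hpo, heff⟩ := h.hc _ _ _ _ hrel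
  have hπ : Sieve.generate (Presieve.singleton π) ∈ Sheaf.canonicalTopology E X :=
    singleton_mem π heff
  have hsh : Presieve.IsSheafFor F (Presieve.singleton π) := by
    rw [Presieve.isSheafFor_iff_generate]
    exact hF _ hπ
  obtain ⟨τ, hτ, _⟩ := Presieve.isSheafFor_singleton.1 hsh σ (by
    intro Z p₁ p₂ hp
    have h0 := hA (hpb.lift p₁ p₂ hp)
    rw [hpb.lift_fst, hpb.lift_snd] at h0
    exact h0)
  -- injectivity
  have hinj : ∀ ⦃T : E⦄ (a b : T ⟶ X), F.map a.op τ = F.map b.op τ → a = b := by
    intro T a b hab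
    have e1 : EffectiveEpi (pullback.snd π a) := heff T a
    have e2 : EffectiveEpi (pullback.snd π (pullback.snd π a ≫ b)) := heff _ _
    let a' : pullback π (pullback.snd π a ≫ b) ⟶ U :=
      pullback.snd π (pullback.snd π a ≫ b) ≫ pullback.fst π a
    let b' : pullback π (pullback.snd π a ≫ b) ⟶ U := pullback.fst π (pullback.snd π a ≫ b)
    have ha' : a' ≫ π = pullback.snd π (pullback.snd π a ≫ b) ≫ pullback.snd π a ≫ a := by
      simp [a', pullback.condition]
    have hb' : b' ≫ π = pullback.snd π (pullback.snd π a ≫ b) ≫ pullback.snd π a ≫ b :=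
      pullback.condition
    have hr : Rel σ a' b' := by
      unfold Rel
      rw [← hτ, ← map_comp_app, ← map_comp_app, ha', hb', map_comp_app, map_comp_app,
        map_comp_app, map_comp_app, hab]
    obtain ⟨c, hc1, hc2⟩ := hB a' b' hr
    have h3 : a' ≫ π = b' ≫ π := by
      rw [← hc1, ← hc2, Category.assoc, Category.assoc, hpb.w]
    rw [ha', hb'] at h3
    exact (cancel_epi _).1 ((cancel_epi _).1 h3)
  -- surjectivity
  have hsurj : ∀ ⦃T : E⦄ (t : F.obj (op T)), ∃ c : T ⟶ X, F.map c.op τ = t := by
    intro T t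
    have hex : ∀ ⦃Y : E⦄ (f : Y ⟶ T), genSieve P T f →
        ∃ x : Y ⟶ X, F.map x.op τ = F.map f.op t := by
      intro Y f hf
      obtain ⟨G, hG, a₀, g, hfac⟩ := hf
      obtain ⟨a', ha'⟩ := (equivShrink (Subtype P)).symm.surjective ⟨G, hG⟩
      have hG' : gobj P a' = G := congrArg Subtype.val ha'
      subst hG'
      obtain ⟨j, hj⟩ := hσ a' (F.map g.op t)
      refine ⟨a₀ ≫ j ≫ π, ?_⟩
      rw [map_comp_app, map_comp_app, hτ, hj, ← map_comp_app, hfac]
    have hS := genSieve_mem h P hP T
    obtain ⟨c, hc⟩ := glue (Z := X) hS (fun Y f hf => (hex f hf).choose) (by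
      intro Y Y' f hf g
      apply hinj
      rw [(hex (g ≫ f) ((genSieve P T).downward_closed hf g)).choose_spec, map_comp_app,
        map_comp_app, (hex f hf).choose_spec])
    refine ⟨c, ?_⟩
    apply sec_ext hF hS
    intro Y f hf
    rw [← map_comp_app, hc f hf, (hex f hf).choose_spec]
  -- the isomorphism
  refine ⟨X, ⟨?_⟩⟩
  have hiso : IsIso (yonedaEquiv.symm τ : yoneda.obj X ⟶ F) := by
    rw [NatTrans.isIso_iff_isIso_app]
    intro T
    rw [isIso_iff_bijective]
    constructor
    · intro a b hab
      apply hinj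
      simpa [yonedaEquiv_symm_app_apply] using hab
    · intro t
      obtain ⟨c, hc⟩ := hsurj t
      exact ⟨c, by simpa [yonedaEquiv_symm_app_apply] using hc⟩
  exact asIso (yonedaEquiv.symm τ)

end Rep

end Groth.Agent.Lib.GiraudH7
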