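import Mathlib
import Groth.Prelude.Def_SGA4a
import Groth.Agent.Lib.GiraudC_helper7

set_option backward.isDefEq.respectTransparency false
set_option backward.isDefEq.respectTransparency.types false
set_option linter.style.haveILetI false
set_option linter.unusedSectionVars false
set_option autoImplicit false

/-!
# Giraud's theorem, part D: the equivalence with sheaves on a small site (helper7)
-/

open CategoryTheory Limits Opposite

namespace Groth.Agent.Lib.GiraudH7

universe v u

variable {E : Type v} [Category.{u} E] [HasFiniteLimits E]

section Main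

variable (h : Axioms E) (P : ObjectProperty E) [ObjectProperty.Small.{u} P]
  (hP : P.IsDetecting)

include h hP in
lemma essSurj_yoneda : (Sheaf.canonicalTopology E).yoneda.EssSurj where
  mem_essImage F := by
    obtain ⟨X, ⟨e⟩⟩ := exists_rep h P hP F.obj ((isSheaf_iff_isSheaf_of_type _ _).1 F.property)
    exact ⟨X, ⟨(fullyFaithfulSheafToPresheaf _ _).preimageIso e⟩⟩

/-- The small category of generators. -/
abbrev GenCat (P : ObjectProperty E) [ObjectProperty.Small.{u} P] : Type u :=
  InducedCategory E (gobj P)

include h hP in
lemma isCoverDense_gen :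
    (inducedFunctor (gobj P)).IsCoverDense (Sheaf.canonicalTopology E) where
  is_cover X := by
    refine (Sheaf.canonicalTopology E).superset_covering ?_ (genSieve_mem h P hP X)
    intro Y f hf
    obtain ⟨G, hG, a₀, g, hfac⟩ := hf
    obtain ⟨a', ha'⟩ := (equivShrink (Subtype P)).symm.surjective ⟨G, hG⟩
    have hG' : gobj P a' = G := congrArg Subtype.val ha'
    subst hG'
    exact ⟨⟨a', a₀, g, hfac⟩⟩

include h hP in
theorem isTopos : SGA4.IsTopos.{v, u} E := by
  have h1 := essSurj_yoneda h P hP
  have h2 : (Sheaf.canonicalTopology E).yoneda.IsEquivalence := { }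
  let e1 : E ≌ Sheaf (Sheaf.canonicalTopology E) (Type u) :=
    (Sheaf.canonicalTopology E).yoneda.asEquivalence
  have h3 := isCoverDense_gen h P hP
  let e2 := Functor.sheafInducedTopologyEquivOfIsCoverDense (inducedFunctor (gobj P))
    (Sheaf.canonicalTopology E) (Type u)
  exact ⟨GenCat P, inferInstance, _, ⟨e1.trans e2.symm⟩⟩

end Main

end Groth.Agent.Lib.GiraudH7
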