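import Groth.Agent.Lib.GitChain_lead

namespace Groth.Agent.Lib.GitChain2

open Finset Groth.Agent.Lib.GitChain

theorem chainNat {f : ℕ → ℕ → ℝ} {n a : ℕ} {v : ℝ} (h : Reach f n a v) :
    ∃ (l : ℕ) (s : ℕ → ℕ), s 0 = a ∧ s l = n ∧ (∀ k, k < l → s k < s (k + 1)) ∧
      ∑ k ∈ Finset.range l, f (s k) (s (k + 1)) = v := by
  induction h with
  | base =>
    exact ⟨0, fun _ => n, rfl, rfl, fun k hk => absurd hk (Nat.not_lt_zero k), by simp⟩
  | @step a b v hab hbn hr ih =>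
    obtain ⟨l, s, hs0, hsl, hmono, hsum⟩ := ih
    obtain ⟨s', hs'0, hs'S⟩ : ∃ s' : ℕ → ℕ, s' 0 = a ∧ ∀ k, s' (k + 1) = s k :=
      ⟨fun k => match k with
        | 0 => a
        | k' + 1 => s k', rfl, fun _ => rfl⟩
    refine ⟨l + 1, s', hs'0, ?_, ?_, ?_⟩
    · rw [hs'S, hsl]
    · intro k hk
      cases k with
      | zero => rw [hs'0, hs'S, hs0]; exact hab
      | succ k => rw [hs'S, hs'S]; exact hmono k (by omega)
    · rw [Finset.sum_range_succ']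
      have e : ∀ k, f (s' (k + 1)) (s' (k + 1 + 1)) = f (s k) (s (k + 1)) := by
        intro k; rw [hs'S, hs'S]
      rw [Finset.sum_congr rfl (fun k _ => e k), hsum, hs'0, hs'S, hs0]; ring

theorem reach_shift {f f' : ℕ → ℕ → ℝ} (g : ℕ → ℝ)
    (hff : ∀ a b, f' a b = f a b + g a - g b) {n a : ℕ} {v : ℝ} (h : Reach f n a v) :
    Reach f' n a (v + g a - g n) := by
  induction h with
  | base =>
    have e : (0 : ℝ) + g n - g n = 0 := by ring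
    rw [e]; exact Reach.base
  | @step a b v hab hbn hr ih =>
    have e : f a b + v + g a - g n = f' a b + (v + g b - g n) := by rw [hff]; ring
    rw [e]; exact Reach.step hab hbn ih

/-- convex sequences: slope bound -/
theorem conv_D (ℓ : ℕ → ℝ) (n : ℕ)
    (hc : ∀ j, j + 2 ≤ n → ℓ (j + 1) - ℓ j ≤ ℓ (j + 2) - ℓ (j + 1)) :
    ∀ m, m + 1 ≤ n → ℓ m - ℓ 0 ≤ (m : ℝ) * (ℓ (m + 1) - ℓ m) := by
  intro m
  induction m with
  | zero => intro _; simp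
  | succ m ih =>
    intro hm
    have h1 := ih (by omega)
    have h2 := hc m (by omega)
    have h3 : (0 : ℝ) ≤ (m : ℝ) + 1 := by positivity
    have h4 : 0 ≤ ((m : ℝ) + 1) * ((ℓ (m + 2) - ℓ (m + 1)) - (ℓ (m + 1) - ℓ m)) :=
      mul_nonneg h3 (by linarith)
    push_cast
    show ℓ (m + 1) - ℓ 0 ≤ ((m : ℝ) + 1) * (ℓ (m + 2) - ℓ (m + 1))
    nlinarith [h1, h4]

theorem conv_C (ℓ : ℕ → ℝ) (n : ℕ)
    (hc : ∀ j, j + 2 ≤ n → ℓ (j + 1) - ℓ j ≤ ℓ (j + 2) - ℓ (j + 1)) :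
    ∀ m, m ≤ n → 2 * ∑ i ∈ Finset.range (m + 1), ℓ i ≤ ((m : ℝ) + 1) * (ℓ 0 + ℓ m) := by
  intro m
  induction m with
  | zero => intro _; simp; linarith
  | succ m ih =>
    intro hm
    have h1 := ih (by omega)
    have h2 := conv_D ℓ n hc m hm
    have e1 : ∑ i ∈ Finset.range (m + 1 + 1), ℓ i =
        ∑ i ∈ Finset.range (m + 1), ℓ i + ℓ (m + 1) := Finset.sum_range_succ _ _
    rw [e1]
    push_cast
    nlinarith [h1, h2]

theorem trap_sum (ℓ : ℕ → ℝ) : ∀ m, ∑ i ∈ Finset.range m, (ℓ i + ℓ (i + 1)) =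
    2 * ∑ i ∈ Finset.range (m + 1), ℓ i - ℓ 0 - ℓ m := by
  intro m
  induction m with
  | zero => simp; ring
  | succ m ih =>
    have e1 : ∑ i ∈ Finset.range (m + 1 + 1), ℓ i =
        ∑ i ∈ Finset.range (m + 1), ℓ i + ℓ (m + 1) := Finset.sum_range_succ _ _
    rw [Finset.sum_range_succ, ih, e1]; ring

theorem main (n : ℕ) (hn : 1 ≤ n) (p : ℕ → ℝ)
    (hp : ∀ i j : ℕ, i ≤ j → j ≤ n → p j ≤ p i) (hpn : p n = 0) :
    ∃ (l : ℕ) (s : ℕ → ℕ), s 0 = 0 ∧ s l = n ∧ (∀ k : ℕ, k < l → s k < s (k + 1)) ∧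
      (∑ k ∈ Finset.range l, (p (s k) - p (s (k + 1))) * ((s k : ℝ) + (s (k + 1) : ℝ))) ≤
        2 * (n : ℝ) / ((n : ℝ) + 1) * ∑ i ∈ Finset.range (n + 1), p i := by
  obtain ⟨x, hx⟩ : ∃ x : ℕ → ℝ, ∀ i, x i = (i : ℝ) := ⟨_, fun _ => rfl⟩
  have hxs : ∀ i j, i < j → j ≤ n → x i < x j := by
    intro i j hij _
    rw [hx, hx]; exact_mod_cast hij
  obtain ⟨v, ℓ, hR, hℓ0, hℓn, hℓle, hℓconv, hℓmin, hv⟩ := hull n x p hxs n 0 (by omega)
  -- shift the cost function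
  have hR' := reach_shift (f' := fun a b => (p a - p b) * ((a : ℝ) + (b : ℝ)))
    (fun a => 2 * (a : ℝ) * p a)
    (fun a b => by simp only [hx]; ring) hR
  obtain ⟨l, s, hs0, hsl, hmono, hsum⟩ := chainNat hR'
  refine ⟨l, s, hs0, hsl, hmono, ?_⟩
  have hsum' : ∑ k ∈ Finset.range l, (p (s k) - p (s (k + 1))) * ((s k : ℝ) + (s (k + 1) : ℝ)) =
      v := by
    rw [hsum, hpn]; simp
  rw [hsum']
  -- convexity in unit spacing
  have hc : ∀ j, j + 2 ≤ n → ℓ (j + 1) - ℓ j ≤ ℓ (j + 2) - ℓ (j + 1) := by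
    intro j hj
    have h := hℓconv (j + 1) (Nat.succ_pos j) (by omega)
    simp only [Nat.add_sub_cancel, hx] at h
    push_cast at h
    have e1 : ((j : ℝ) + 1 + 1 - ((j : ℝ) + 1)) = 1 := by ring
    have e2 : ((j : ℝ) + 1 - (j : ℝ)) = 1 := by ring
    rw [e1, e2, mul_one, mul_one] at h
    exact h
  have hC := conv_C ℓ n hc n le_rfl
  have hv2 : v = 2 * ∑ i ∈ Finset.range (n + 1), ℓ i - ℓ 0 - ℓ n := by
    rw [hv, ← trap_sum ℓ n]
    refine Finset.sum_congr (by ext i; simp) (fun i _ => ?_)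
    rw [hx, hx]; push_cast; ring
  have hSP : ∑ i ∈ Finset.range (n + 1), ℓ i ≤ ∑ i ∈ Finset.range (n + 1), p i :=
    Finset.sum_le_sum (fun i hi => hℓle i (Nat.zero_le i)
      (by have := Finset.mem_range.mp hi; omega))
  have hnpos : (0 : ℝ) < (n : ℝ) + 1 := by positivity
  have hn0 : (0 : ℝ) ≤ (n : ℝ) := Nat.cast_nonneg n
  have e : 2 * (n : ℝ) / ((n : ℝ) + 1) * ∑ i ∈ Finset.range (n + 1), p i =
      (2 * (n : ℝ) * ∑ i ∈ Finset.range (n + 1), p i) / ((n : ℝ) + 1) := by ring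
  rw [e, le_div_iff₀ hnpos, hv2]
  nlinarith [hC, mul_nonneg hn0 (sub_nonneg.mpr hSP)]

end Groth.Agent.Lib.GitChain2
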