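import Mathlib

namespace Groth.Agent.Lib.GitChain

open Finset

/-- reachability with accumulated cost -/
inductive Reach (f : ℕ → ℕ → ℝ) (n : ℕ) : ℕ → ℝ → Prop
  | base : Reach f n n 0
  | step {a b : ℕ} {v : ℝ} : a < b → b ≤ n → Reach f n b v → Reach f n a (f a b + v)

theorem Reach.chain {f : ℕ → ℕ → ℝ} {n a : ℕ} {v : ℝ} (h : Reach f n a v) :
    ∃ (μ : ℕ) (c : Fin (μ + 1) → Fin (n + 1)), StrictMono c ∧ ((c 0 : Fin (n + 1)) : ℕ) = a ∧
      c (Fin.last μ) = Fin.last n ∧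
      ∑ j : Fin μ, f (c j.castSucc : ℕ) (c j.succ : ℕ) = v := by
  induction h with
  | base =>
    refine ⟨0, fun _ => Fin.last n, ?_, rfl, rfl, ?_⟩
    · intro i j hij
      exfalso
      have h1 := i.isLt
      have h2 := j.isLt
      have h3 : i.val < j.val := hij
      omega
    · simp
  | @step a b v hab hbn hr ih =>
    obtain ⟨μ, c, hc, hc0, hcl, hsum⟩ := ih
    have han : a < n + 1 := by omega
    obtain ⟨g, hg⟩ : ∃ g : Fin (μ + 1 + 1) → Fin (n + 1),
        g = Fin.cons (α := fun _ => Fin (n + 1)) ⟨a, han⟩ c := ⟨_, rfl⟩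
    have hg0 : g 0 = ⟨a, han⟩ := by rw [hg]; rfl
    have hgs : ∀ i : Fin (μ + 1), g i.succ = c i := by
      intro i; rw [hg]; exact Fin.cons_succ _ _ _
    refine ⟨μ + 1, g, ?_, ?_, ?_, ?_⟩
    · rw [Fin.strictMono_iff_lt_succ]
      intro i
      rw [hgs]
      induction i using Fin.cases with
      | zero =>
        show g 0 < c 0
        rw [hg0]
        show a < ((c 0 : Fin (n + 1)) : ℕ)
        rw [hc0]; exact hab
      | succ k =>
        show g (k.castSucc.succ) < c k.succ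
        rw [hgs]
        exact hc Fin.castSucc_lt_succ
    · rw [hg0]
    · rw [← Fin.succ_last, hgs, hcl]
    · rw [Fin.sum_univ_succ]
      have e0 : f (g (Fin.castSucc 0) : ℕ) (g (Fin.succ 0) : ℕ) = f a b := by
        show f (g 0 : ℕ) (g (Fin.succ 0) : ℕ) = f a b
        rw [hg0, hgs, hc0]
      have e1 : ∀ j : Fin μ, f (g (Fin.castSucc j.succ) : ℕ) (g j.succ.succ : ℕ) =
          f (c j.castSucc : ℕ) (c j.succ : ℕ) := by
        intro j
        show f (g (j.castSucc.succ) : ℕ) (g j.succ.succ : ℕ) = _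
        rw [hgs, hgs]
      rw [e0, Finset.sum_congr rfl (fun j _ => e1 j), hsum]

theorem reach_mono (n : ℕ) (u e r : ℕ → ℝ) (hd : ∀ i, i ≤ n → e i ≤ u i) (hn : u n = e n)
    (hr : ∀ i j, i ≤ j → r j ≤ r i) {a : ℕ} {v : ℝ}
    (h : Reach (fun a b => (u b - u a) * (r b + r a)) n a v) :
    ∃ v', Reach (fun a b => (e b - e a) * (r b + r a)) n a v' ∧
      v' ≤ v + 2 * (u a - e a) * r a := by
  induction h with
  | base => exact ⟨0, Reach.base, by rw [hn]; simp⟩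
  | @step a b v hab hbn hr' ih =>
    obtain ⟨v', hv', hle⟩ := ih
    refine ⟨(e b - e a) * (r b + r a) + v', Reach.step hab hbn hv', ?_⟩
    have hda : 0 ≤ u a - e a := sub_nonneg.mpr (hd a (by omega))
    have hdb : 0 ≤ u b - e b := sub_nonneg.mpr (hd b hbn)
    have hrab : 0 ≤ r a - r b := sub_nonneg.mpr (hr a b hab.le)
    nlinarith [mul_nonneg (add_nonneg hda hdb) hrab]

theorem tele (G : ℕ → ℝ) (a b : ℕ) (hab : a ≤ b) :
    ∑ i ∈ Finset.Ico a b, (G (i + 1) - G i) = G b - G a := by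
  induction b, hab using Nat.le_induction with
  | base => simp
  | succ b hab ih => rw [Finset.sum_Ico_succ_top hab, ih]; ring

theorem tele_range (G : ℕ → ℝ) (n : ℕ) :
    ∑ i ∈ Finset.range n, (G (i + 1) - G i) = G n - G 0 := by
  induction n with
  | zero => simp
  | succ n ih => rw [Finset.sum_range_succ, ih]; ring

theorem hull (n : ℕ) (x y : ℕ → ℝ) (hx : ∀ i j, i < j → j ≤ n → x i < x j) :
    ∀ k a, a + k = n → ∃ (v : ℝ) (ℓ : ℕ → ℝ),
      Reach (fun a b => (x b - x a) * (y b + y a)) n a v ∧ ℓ a = y a ∧ ℓ n = y n ∧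
      (∀ i, a ≤ i → i ≤ n → ℓ i ≤ y i) ∧
      (∀ i, a < i → i < n →
        (ℓ i - ℓ (i - 1)) * (x (i + 1) - x i) ≤ (ℓ (i + 1) - ℓ i) * (x i - x (i - 1))) ∧
      (∀ α β : ℝ, (∀ j, a ≤ j → j ≤ n → α + β * x j ≤ y j) →
        ∀ i, a ≤ i → i ≤ n → α + β * x i ≤ ℓ i) ∧
      v = ∑ i ∈ Finset.Ico a n, (x (i + 1) - x i) * (ℓ i + ℓ (i + 1)) := by
  intro k
  induction k using Nat.strong_induction_on with
  | _ k IH =>
  intro a hak
  rcases Nat.eq_zero_or_pos k with hk | hk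
  · have han : a = n := by omega
    rw [han]
    refine ⟨0, y, Reach.base, rfl, rfl, fun i _ _ => le_rfl, ?_, ?_, ?_⟩
    · intro i h1 h2; exact absurd (lt_trans h1 h2) (lt_irrefl n)
    · intro α β h i h1 h2; exact h i h1 h2
    · simp
  · have han : a < n := by omega
    have hxmono : ∀ i j, i ≤ j → j ≤ n → x i ≤ x j := by
      intro i j hij hjn
      rcases Nat.eq_or_lt_of_le hij with h | h
      · rw [h]
      · exact (hx i j h hjn).le
    obtain ⟨s, hs⟩ : ∃ s : ℕ → ℝ, ∀ j, s j = (y j - y a) / (x j - x a) := ⟨_, fun _ => rfl⟩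
    have hne : (Finset.Ioc a n).Nonempty := ⟨n, Finset.mem_Ioc.mpr ⟨han, le_rfl⟩⟩
    obtain ⟨b, hb, hbmin⟩ := Finset.exists_min_image (Finset.Ioc a n) s hne
    obtain ⟨hab, hbn⟩ := Finset.mem_Ioc.mp hb
    have hxpos : ∀ j, a < j → j ≤ n → 0 < x j - x a :=
      fun j h1 h2 => sub_pos.mpr (hx a j h1 h2)
    have hsmul : ∀ j, a < j → j ≤ n → s j * (x j - x a) = y j - y a := by
      intro j h1 h2
      rw [hs, div_mul_cancel₀ _ (hxpos j h1 h2).ne']
    have hline : ∀ j, a ≤ j → j ≤ n → y a + s b * (x j - x a) ≤ y j := by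
      intro j h1 h2
      rcases Nat.eq_or_lt_of_le h1 with h | h
      · rw [← h]; simp
      · have hsj := hbmin j (Finset.mem_Ioc.mpr ⟨h, h2⟩)
        have hp := hxpos j h h2
        have h3 := mul_le_mul_of_nonneg_right hsj hp.le
        rw [hsmul j h h2] at h3
        linarith
    obtain ⟨vb, ℓb, hRb, hℓbb, hℓbn, hℓble, hℓbconv, hℓbmin, hvb⟩ :=
      IH (n - b) (by omega) b (by omega)
    obtain ⟨ℓ, hℓ⟩ : ∃ ℓ : ℕ → ℝ,
        ∀ i, ℓ i = if i ≤ b then y a + s b * (x i - x a) else ℓb i := ⟨_, fun _ => rfl⟩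
    have hℓ_le : ∀ i, i ≤ b → ℓ i = y a + s b * (x i - x a) := fun i h => by
      rw [hℓ, if_pos h]
    have hsb := hsmul b hab hbn
    have hℓ_ge : ∀ i, b ≤ i → ℓ i = ℓb i := by
      intro i h
      rcases Nat.eq_or_lt_of_le h with h' | h'
      · rw [← h', hℓ_le b le_rfl, hsb, hℓbb]; ring
      · rw [hℓ, if_neg (by omega : ¬ i ≤ b)]
    refine ⟨(x b - x a) * (y b + y a) + vb, ℓ, Reach.step hab hbn hRb, ?_, ?_, ?_, ?_, ?_, ?_⟩
    · rw [hℓ_le a hab.le]; ring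
    · rw [hℓ_ge n hbn, hℓbn]
    · intro i h1 h2
      by_cases h : i ≤ b
      · rw [hℓ_le i h]; exact hline i h1 h2
      · rw [hℓ_ge i (by omega)]; exact hℓble i (by omega) h2
    · intro i h1 h2
      rcases lt_trichotomy i b with h | h | h
      · rw [hℓ_le (i - 1) (by omega), hℓ_le i h.le, hℓ_le (i + 1) (by omega)]
        exact le_of_eq (by ring)
      · have hmin := hℓbmin (y a - s b * x a) (s b)
          (fun j hj1 hj2 => by have := hline j (by omega) hj2; linarith)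
          (b + 1) (by omega) (by omega)
        have hwp : 0 < x b - x (b - 1) := sub_pos.mpr (hx (b - 1) b (by omega) hbn)
        rw [h, hℓ_le (b - 1) (by omega), hℓ_le b le_rfl, hℓ_ge (b + 1) (by omega)]
        have hA : 0 ≤ ℓb (b + 1) - (y a + s b * (x (b + 1) - x a)) := by linarith
        nlinarith [mul_nonneg hA hwp.le]
      · rw [hℓ_ge (i - 1) (by omega), hℓ_ge i h.le, hℓ_ge (i + 1) (by omega)]
        exact hℓbconv i h h2
    · intro α β hαβ i h1 h2
      by_cases h : i ≤ b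
      · rw [hℓ_le i h]
        have hA := hαβ a le_rfl (by omega)
        have hB := hαβ b hab.le hbn
        have ht : 0 ≤ x i - x a := sub_nonneg.mpr (hxmono a i h1 h2)
        have hTt : 0 ≤ x b - x i := sub_nonneg.mpr (hxmono i b h hbn)
        have hT := hxpos b hab hbn
        have m1 := mul_le_mul_of_nonneg_left hA hTt
        have m2 := mul_le_mul_of_nonneg_left hB ht
        have key : (x b - x a) * (α + β * x i) ≤ (x b - x a) * (y a + s b * (x i - x a)) := by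
          have e : (x b - x a) * (y a + s b * (x i - x a)) =
              (x b - x a) * y a + (s b * (x b - x a)) * (x i - x a) := by ring
          rw [e, hsb]
          nlinarith [m1, m2]
        exact le_of_mul_le_mul_left key hT
      · rw [hℓ_ge i (by omega)]
        exact hℓbmin α β (fun j hj1 hj2 => hαβ j (by omega) hj2) i (by omega) h2
    · rw [← Finset.sum_Ico_consecutive _ hab.le hbn]
      congr 1
      · obtain ⟨G, hG⟩ : ∃ G : ℕ → ℝ,
            ∀ j, G j = (2 * y a - 2 * s b * x a) * x j + s b * (x j) ^ 2 := ⟨_, fun _ => rfl⟩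
        have e1 : ∑ i ∈ Finset.Ico a b, (x (i + 1) - x i) * (ℓ i + ℓ (i + 1)) =
            ∑ i ∈ Finset.Ico a b, (G (i + 1) - G i) := by
          refine Finset.sum_congr rfl (fun i hi => ?_)
          obtain ⟨hi1, hi2⟩ := Finset.mem_Ico.mp hi
          rw [hℓ_le i hi2.le, hℓ_le (i + 1) hi2, hG, hG]; ring
        rw [e1, tele G a b hab.le, hG, hG]
        linear_combination (-(x b - x a)) * hsb
      · rw [hvb]
        refine Finset.sum_congr rfl (fun i hi => ?_)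
        obtain ⟨hi1, hi2⟩ := Finset.mem_Ico.mp hi
        rw [hℓ_ge i hi1, hℓ_ge (i + 1) (by omega)]

theorem abel_ineq (Ξ τ : ℕ → ℝ) (n : ℕ) (hn : 1 ≤ n) (ε : ℝ) (hΞ0 : Ξ 0 = 0)
    (hΞ : ∀ j, 1 ≤ j → j ≤ n → ε ≤ Ξ j)
    (hτ : ∀ k, k + 1 < n → τ (k + 1) ≤ τ k) (hτl : 0 ≤ τ (n - 1)) :
    ε * τ 0 ≤ ∑ k ∈ Finset.range n, (Ξ (k + 1) - Ξ k) * τ k := by
  have key : ∀ j, 1 ≤ j → j ≤ n →
      ε * τ 0 + (Ξ j - ε) * τ (j - 1) ≤ ∑ k ∈ Finset.range j, (Ξ (k + 1) - Ξ k) * τ k := by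
    intro j hj
    induction j, hj using Nat.le_induction with
    | base =>
      intro _
      simp only [Nat.sub_self, zero_add, Finset.sum_range_one, hΞ0]
      exact le_of_eq (by ring)
    | succ j hj ih =>
      intro hjn
      have ih' := ih (by omega)
      rw [Finset.sum_range_succ]
      have h1 : τ j ≤ τ (j - 1) := by
        have := hτ (j - 1) (by omega)
        rwa [Nat.sub_add_cancel hj] at this
      have h2 : 0 ≤ Ξ j - ε := sub_nonneg.mpr (hΞ j hj (by omega))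
      have h3 : (Ξ j - ε) * τ j ≤ (Ξ j - ε) * τ (j - 1) := mul_le_mul_of_nonneg_left h1 h2
      simp only [Nat.add_sub_cancel]
      nlinarith [h3, ih']
  have h1 := key n hn le_rfl
  have h2 : 0 ≤ (Ξ n - ε) * τ (n - 1) :=
    mul_nonneg (sub_nonneg.mpr (hΞ n hn le_rfl)) hτl
  linarith

theorem final (n g : ℕ) (hg : 1 ≤ g) (hn : 2 * g ≤ n) (ℓ u : ℕ → ℝ)
    (hu : ∀ i : ℕ, u i = if i ≤ n - g then (i : ℝ) else (i : ℝ) + g)
    (hconv : ∀ i, 0 < i → i < n →
      (ℓ i - ℓ (i - 1)) * (u (i + 1) - u i) ≤ (ℓ (i + 1) - ℓ i) * (u i - u (i - 1)))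
    (hlast : ∀ i, i ≤ n → ℓ n ≤ ℓ i)
    (hsum : ∑ i ∈ Finset.range (n + 1), ℓ i ≤ 0) (hne : ℓ n < ℓ 0) :
    ∑ i ∈ Finset.range n, (u (i + 1) - u i) * (ℓ i + ℓ (i + 1)) < 0 := by
  obtain ⟨m, hm⟩ : ∃ m, m + g = n := ⟨n - g, by omega⟩
  have hmg : n - g = m := by omega
  have hn1 : 1 ≤ n := by omega
  have hnR : (n : ℝ) = m + g := by rw [← hm]; push_cast; ring
  have hgR : (1 : ℝ) ≤ g := by exact_mod_cast hg
  have hmR : (g : ℝ) ≤ m := by exact_mod_cast (by omega : g ≤ m)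
  have hm0 : (0 : ℝ) ≤ m := Nat.cast_nonneg m
  have hu1 : ∀ i, i ≤ m → u i = i := fun i h => by rw [hu, hmg, if_pos h]
  have hu2 : ∀ i, m < i → u i = i + g := fun i h => by
    rw [hu, hmg, if_neg (by omega : ¬ i ≤ m)]
  have hu0 : u 0 = 0 := by rw [hu1 0 (Nat.zero_le m)]; simp
  obtain ⟨N, hN⟩ : ∃ N : ℝ, N = (n : ℝ) + g := ⟨_, rfl⟩
  have hun : u n = N := by rw [hu2 n (by omega), hN]
  have hNpos : 0 ≤ N := by rw [hN, hnR]; linarith
  obtain ⟨w, hw⟩ : ∃ w : ℕ → ℝ, ∀ k, w k = u (k + 1) - u k := ⟨_, fun _ => rfl⟩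
  have hw1 : ∀ k, k < m → w k = 1 := by
    intro k h; rw [hw, hu1 k h.le, hu1 (k + 1) h]; push_cast; ring
  have hw2 : w m = g + 1 := by
    rw [hw, hu1 m le_rfl, hu2 (m + 1) (by omega)]; push_cast; ring
  have hw3 : ∀ k, m < k → w k = 1 := by
    intro k h; rw [hw, hu2 k h, hu2 (k + 1) (by omega)]; push_cast; ring
  have hwpos : ∀ k, 0 < w k := by
    intro k
    rcases lt_trichotomy k m with h | h | h
    · rw [hw1 k h]; exact one_pos
    · rw [h, hw2]; linarith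
    · rw [hw3 k h]; exact one_pos
  obtain ⟨τ, hτ⟩ : ∃ τ : ℕ → ℝ, ∀ k, τ k = (ℓ k - ℓ (k + 1)) / w k := ⟨_, fun _ => rfl⟩
  have hτw : ∀ k, w k * τ k = ℓ k - ℓ (k + 1) := by
    intro k; rw [hτ, mul_comm, div_mul_cancel₀ _ (hwpos k).ne']
  -- identity 1
  have I1 : ∀ j, ∑ i ∈ Finset.range (j + 1), ℓ i =
      ((j : ℝ) + 1) * ℓ j + ∑ k ∈ Finset.range j, ((k : ℝ) + 1) * (w k * τ k) := by
    intro j
    induction j with
    | zero => simp
    | succ j ih =>
      have e1 : ∑ i ∈ Finset.range (j + 1 + 1), ℓ i =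
          ∑ i ∈ Finset.range (j + 1), ℓ i + ℓ (j + 1) := Finset.sum_range_succ _ _
      have e2 : ∑ k ∈ Finset.range (j + 1), ((k : ℝ) + 1) * (w k * τ k) =
          ∑ k ∈ Finset.range j, ((k : ℝ) + 1) * (w k * τ k) + ((j : ℝ) + 1) * (w j * τ j) :=
        Finset.sum_range_succ _ _
      rw [e1, ih, e2, hτw j]; push_cast; ring
  -- identity 2
  have I2 : ∀ j, ∑ i ∈ Finset.range j, w i * (ℓ i + ℓ (i + 1)) =
      2 * u j * ℓ j + ∑ k ∈ Finset.range j, τ k * (u (k + 1) ^ 2 - u k ^ 2) := by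
    intro j
    induction j with
    | zero => simp [hu0]
    | succ j ih =>
      have e1 : ∑ i ∈ Finset.range (j + 1), w i * (ℓ i + ℓ (i + 1)) =
          ∑ i ∈ Finset.range j, w i * (ℓ i + ℓ (i + 1)) + w j * (ℓ j + ℓ (j + 1)) :=
        Finset.sum_range_succ _ _
      have e2 : ∑ k ∈ Finset.range (j + 1), τ k * (u (k + 1) ^ 2 - u k ^ 2) =
          ∑ k ∈ Finset.range j, τ k * (u (k + 1) ^ 2 - u k ^ 2) +
            τ j * (u (j + 1) ^ 2 - u j ^ 2) := Finset.sum_range_succ _ _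
      rw [e1, ih, e2]
      have h1 := hτw j
      have h2 := hw j
      have h3 : ℓ j = ℓ (j + 1) + w j * τ j := by linarith
      have h4 : u (j + 1) = u j + w j := by linarith
      rw [h3, h4]; ring
  -- closed form of partial sums
  obtain ⟨Ξ, hΞ⟩ : ∃ Ξ : ℕ → ℝ, ∀ j, Ξ j =
      N * ((j : ℝ) * ((j : ℝ) + 1) + (if m < j then 2 * (g : ℝ) * ((m : ℝ) + 1) else 0)) -
        ((n : ℝ) + 1) * (u j) ^ 2 := ⟨_, fun _ => rfl⟩
  have hΞ0 : Ξ 0 = 0 := by
    rw [hΞ, if_neg (Nat.not_lt_zero m), hu0]; simp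
  have hΩ : ∀ k : ℕ, 2 * N * ((k : ℝ) + 1) * w k - ((n : ℝ) + 1) * (u (k + 1) ^ 2 - u k ^ 2) =
      Ξ (k + 1) - Ξ k := by
    intro k
    rw [hΞ (k + 1), hΞ k]
    rcases lt_trichotomy k m with h | h | h
    · rw [if_neg (by omega : ¬ m < k + 1), if_neg (by omega : ¬ m < k), hw1 k h]
      push_cast; ring
    · rw [h, if_pos (by omega : m < m + 1), if_neg (by omega : ¬ m < m), hw2]
      push_cast; ring
    · rw [if_pos (by omega : m < k + 1), if_pos h, hw3 k h]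
      push_cast; ring
  have hΞpos : ∀ j, 1 ≤ j → j ≤ n → (1 : ℝ) ≤ Ξ j := by
    intro j hj hjn
    have hj1 : (1 : ℝ) ≤ j := by exact_mod_cast hj
    have hjn' : (j : ℝ) ≤ n := by exact_mod_cast hjn
    by_cases h : j ≤ m
    · rw [hΞ, if_neg (by omega : ¬ m < j), hu1 j h, hN]
      have a1 : 0 ≤ ((g : ℝ) - 1) * (j : ℝ) ^ 2 := mul_nonneg (by linarith) (sq_nonneg _)
      have a2 : 1 ≤ ((n : ℝ) + g) * j := by
        nlinarith [mul_nonneg (by linarith : (0 : ℝ) ≤ (n : ℝ) + g - 1)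
          (by linarith : (0 : ℝ) ≤ (j : ℝ) - 1)]
      nlinarith [a1, a2]
    · have h' : m < j := by omega
      have e : Ξ j = ((n : ℝ) - j) * (g * ((n : ℝ) - j) + g + j) +
          g * ((n : ℝ) + g) * ((n : ℝ) - 2 * g + 1) := by
        rw [hΞ, if_pos h', hu2 j h', hN]
        rw [show (m : ℝ) = (n : ℝ) - g by linarith]
        ring
      rw [e]
      have c1 : 0 ≤ ((n : ℝ) - j) * (g * ((n : ℝ) - j) + g + j) :=
        mul_nonneg (by linarith) (by nlinarith)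
      have c2 : (1 : ℝ) ≤ (n : ℝ) - 2 * g + 1 := by
        have : ((2 * g : ℕ) : ℝ) ≤ n := by exact_mod_cast hn
        push_cast at this; linarith
      have b1 : 1 ≤ (g : ℝ) * ((n : ℝ) + g) := by
        nlinarith [mul_nonneg (sub_nonneg.mpr hgR) (by linarith : (0 : ℝ) ≤ (n : ℝ) + g - 1)]
      have b2 : 1 ≤ (g : ℝ) * ((n : ℝ) + g) * ((n : ℝ) - 2 * g + 1) := by
        nlinarith [mul_nonneg (sub_nonneg.mpr b1) (sub_nonneg.mpr c2)]
      linarith
  -- τ antitone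
  have hτanti : ∀ k, k + 1 < n → τ (k + 1) ≤ τ k := by
    intro k hk
    have hc := hconv (k + 1) (Nat.succ_pos k) hk
    simp only [Nat.add_sub_cancel] at hc
    rw [← hw (k + 1), ← hw k] at hc
    have h1 := hτw k
    have h2 := hτw (k + 1)
    have e1 : ℓ (k + 1) - ℓ k = -(w k * τ k) := by linarith
    have e2 : ℓ (k + 1 + 1) - ℓ (k + 1) = -(w (k + 1) * τ (k + 1)) := by linarith
    rw [e1, e2] at hc
    have hpos := mul_pos (hwpos k) (hwpos (k + 1))
    by_contra hcon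
    push_neg at hcon
    have h3 : 0 < w k * w (k + 1) * (τ (k + 1) - τ k) := mul_pos hpos (sub_pos.mpr hcon)
    nlinarith [h3, hc]
  have hτlast : 0 ≤ τ (n - 1) := by
    rw [hτ]
    apply div_nonneg _ (hwpos _).le
    rw [Nat.sub_add_cancel hn1]
    linarith [hlast (n - 1) (by omega)]
  have hτ0 : ∀ k, k < n → τ k ≤ τ 0 := by
    intro k
    induction k with
    | zero => intro _; exact le_rfl
    | succ k ih => intro h; exact (hτanti k h).trans (ih (by omega))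
  have hτ0pos : 0 < τ 0 := by
    have hs1 : ∑ k ∈ Finset.range n, w k * τ k = ℓ 0 - ℓ n := by
      rw [Finset.sum_congr rfl (fun k _ => hτw k)]
      have := tele_range (fun i => - ℓ i) n
      have e : ∑ i ∈ Finset.range n, (ℓ i - ℓ (i + 1)) =
          ∑ i ∈ Finset.range n, (-ℓ (i + 1) - -ℓ i) :=
        Finset.sum_congr rfl (fun i _ => by ring)
      rw [e, this]; ring
    have hs2 : ∑ k ∈ Finset.range n, w k * τ k ≤ ∑ k ∈ Finset.range n, w k * τ 0 :=
      Finset.sum_le_sum (fun k hk =>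
        mul_le_mul_of_nonneg_left (hτ0 k (Finset.mem_range.mp hk)) (hwpos k).le)
    have hs3 : ∑ k ∈ Finset.range n, w k * τ 0 = (u n - u 0) * τ 0 := by
      rw [← Finset.sum_mul, Finset.sum_congr rfl (fun k _ => hw k), tele_range]
    by_contra hc
    push_neg at hc
    have h4 : (u n - u 0) * τ 0 ≤ 0 :=
      mul_nonpos_of_nonneg_of_nonpos (by rw [hun, hu0]; linarith) hc
    linarith
  -- assemble
  have hv : ∑ i ∈ Finset.range n, (u (i + 1) - u i) * (ℓ i + ℓ (i + 1)) =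
      ∑ i ∈ Finset.range n, w i * (ℓ i + ℓ (i + 1)) :=
    Finset.sum_congr rfl (fun i _ => by rw [hw])
  rw [hv]
  have hΨ : 2 * N * ∑ i ∈ Finset.range (n + 1), ℓ i -
      ((n : ℝ) + 1) * ∑ i ∈ Finset.range n, w i * (ℓ i + ℓ (i + 1)) =
      ∑ k ∈ Finset.range n, (Ξ (k + 1) - Ξ k) * τ k := by
    have e3 : ∑ k ∈ Finset.range n, (Ξ (k + 1) - Ξ k) * τ k =
        2 * N * ∑ k ∈ Finset.range n, ((k : ℝ) + 1) * (w k * τ k) -
          ((n : ℝ) + 1) * ∑ k ∈ Finset.range n, τ k * (u (k + 1) ^ 2 - u k ^ 2) := by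
      rw [Finset.mul_sum, Finset.mul_sum, ← Finset.sum_sub_distrib]
      refine Finset.sum_congr rfl (fun k _ => ?_)
      rw [← hΩ k]; ring
    rw [e3, I1 n, I2 n, hun]; ring
  have habel := abel_ineq Ξ τ n hn1 1 hΞ0 hΞpos hτanti hτlast
  have h5 : 2 * N * ∑ i ∈ Finset.range (n + 1), ℓ i ≤ 0 :=
    mul_nonpos_of_nonneg_of_nonpos (by linarith) hsum
  by_contra hV
  push_neg at hV
  have h6 : 0 ≤ ((n : ℝ) + 1) * ∑ i ∈ Finset.range n, w i * (ℓ i + ℓ (i + 1)) :=
    mul_nonneg (by positivity) hV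
  linarith

theorem main (n g : ℕ) (hg : 1 ≤ g) (hn : 2 * g ≤ n)
    (e : Fin (n + 1) → ℕ) (he0 : e 0 = 0) (hen : e (Fin.last n) = n + g)
    (hle : ∀ i : Fin (n + 1), (i : ℕ) ≤ n - g → e i ≤ (i : ℕ))
    (hle' : ∀ i : Fin (n + 1), e i ≤ (i : ℕ) + g)
    (r : Fin (n + 1) → ℝ) (hanti : Antitone r) (hsum : ∑ i, r i = 0) (hr : r ≠ 0) :
    ∃ (μ : ℕ) (c : Fin (μ + 1) → Fin (n + 1)), StrictMono c ∧ c 0 = 0 ∧
      c (Fin.last μ) = Fin.last n ∧
      ∑ j : Fin μ, ((e (c j.succ) : ℝ) - (e (c j.castSucc) : ℝ)) *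
        (r (c j.succ) + r (c j.castSucc)) < 0 := by
  have hlt : ∀ i : ℕ, min i n < n + 1 := fun i => Nat.lt_succ_of_le (Nat.min_le_right i n)
  obtain ⟨r', hr'⟩ : ∃ r' : ℕ → ℝ, ∀ i, r' i = r ⟨min i n, hlt i⟩ := ⟨_, fun _ => rfl⟩
  obtain ⟨e', he'⟩ : ∃ e' : ℕ → ℝ, ∀ i, e' i = (e ⟨min i n, hlt i⟩ : ℝ) := ⟨_, fun _ => rfl⟩
  obtain ⟨u, hu⟩ : ∃ u : ℕ → ℝ,
      ∀ i : ℕ, u i = if i ≤ n - g then (i : ℝ) else (i : ℝ) + g := ⟨_, fun _ => rfl⟩
  have hιval : ∀ x : Fin (n + 1), (⟨min (x : ℕ) n, hlt x⟩ : Fin (n + 1)) = x :=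
    fun x => Fin.ext (Nat.min_eq_left (Nat.le_of_lt_succ x.isLt))
  have hr'val : ∀ x : Fin (n + 1), r' (x : ℕ) = r x := fun x => by rw [hr', hιval]
  have he'val : ∀ x : Fin (n + 1), e' (x : ℕ) = (e x : ℝ) := fun x => by rw [he', hιval]
  have hr'0 : r' 0 = r 0 := by have := hr'val 0; simpa using this
  have hr'n : r' n = r (Fin.last n) := by have := hr'val (Fin.last n); simpa using this
  have he'0 : e' 0 = 0 := by
    have := he'val 0
    rw [he0] at this
    simpa using this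
  have he'n : e' n = (n : ℝ) + g := by
    have := he'val (Fin.last n)
    rw [hen] at this
    simpa using this
  have hr'anti : ∀ i j, i ≤ j → r' j ≤ r' i := fun i j h => by
    rw [hr', hr']
    exact hanti (Fin.mk_le_mk.mpr (min_le_min_right n h))
  have hd : ∀ i, i ≤ n → e' i ≤ u i := by
    intro i hi
    have hι : (⟨min i n, hlt i⟩ : Fin (n + 1)) = ⟨i, Nat.lt_succ_of_le hi⟩ :=
      Fin.ext (Nat.min_eq_left hi)
    rw [he', hu, hι]
    split_ifs with h
    · exact_mod_cast hle ⟨i, Nat.lt_succ_of_le hi⟩ h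
    · exact_mod_cast hle' ⟨i, Nat.lt_succ_of_le hi⟩
  have hun : u n = e' n := by
    rw [hu, if_neg (by omega : ¬ n ≤ n - g), he'n]
  have hu0 : u 0 = 0 := by rw [hu, if_pos (Nat.zero_le _)]; simp
  have hxu : ∀ i j, i < j → j ≤ n → u i < u j := by
    intro i j hij hjn
    have hij' : (i : ℝ) < j := by exact_mod_cast hij
    have hg0 : (0 : ℝ) ≤ g := Nat.cast_nonneg g
    rw [hu i, hu j]
    split_ifs with h1 h2 h2
    · exact hij'
    · linarith
    · exfalso; omega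
    · linarith
  have hr0n : r (Fin.last n) < r 0 := by
    by_contra hcon
    push_neg at hcon
    apply hr
    have hall : ∀ i, r i = r 0 := fun i =>
      le_antisymm (hanti (Fin.zero_le i)) (le_trans hcon (hanti (Fin.le_last i)))
    have h0 : r 0 = 0 := by
      have h1 : ∑ i : Fin (n + 1), r i = (n + 1 : ℕ) • r 0 := by
        rw [Finset.sum_congr rfl (fun i _ => hall i), Finset.sum_const, Finset.card_univ,
          Fintype.card_fin]
      rw [hsum] at h1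
      have h2 : ((n + 1 : ℕ) : ℝ) * r 0 = 0 := by rw [← nsmul_eq_mul]; exact h1.symm
      rcases mul_eq_zero.mp h2 with h | h
      · exact absurd h (Nat.cast_ne_zero.mpr (Nat.succ_ne_zero n))
      · exact h
    funext i
    rw [hall i, h0]; rfl
  obtain ⟨v, ℓ, hR, hℓ0, hℓn, hℓle, hℓconv, hℓmin, hv⟩ := hull n u r' hxu n 0 (by omega)
  have hvneg : v < 0 := by
    rw [hv]
    have hIco : ∑ i ∈ Finset.Ico 0 n, (u (i + 1) - u i) * (ℓ i + ℓ (i + 1)) =
        ∑ i ∈ Finset.range n, (u (i + 1) - u i) * (ℓ i + ℓ (i + 1)) :=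
      Finset.sum_congr (by ext i; simp) (fun _ _ => rfl)
    rw [hIco]
    apply final n g hg hn ℓ u hu hℓconv
    · intro i hi
      have := hℓmin (r' n) 0 (fun j _ hj => by simpa using hr'anti j n hj) i (Nat.zero_le i) hi
      rw [hℓn]; simpa using this
    · calc ∑ i ∈ Finset.range (n + 1), ℓ i ≤ ∑ i ∈ Finset.range (n + 1), r' i :=
            Finset.sum_le_sum (fun i hi => hℓle i (Nat.zero_le i)
              (by have := Finset.mem_range.mp hi; omega))
        _ = 0 := by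
            rw [Finset.sum_range, ← hsum]
            exact Finset.sum_congr rfl (fun x _ => hr'val x)
    · rw [hℓ0, hℓn, hr'0, hr'n]; exact hr0n
  obtain ⟨v', hR', hv'⟩ := reach_mono n u e' r' hd hun hr'anti hR
  have hv'neg : v' < 0 := by
    rw [hu0, he'0] at hv'
    linarith
  obtain ⟨μ, c, hc, hc0, hcl, hsumc⟩ := hR'.chain
  refine ⟨μ, c, hc, Fin.ext (by rw [hc0]; simp), hcl, ?_⟩
  have hfin : ∑ j : Fin μ, ((e (c j.succ) : ℝ) - (e (c j.castSucc) : ℝ)) *
      (r (c j.succ) + r (c j.castSucc)) = v' := by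
    rw [← hsumc]
    refine Finset.sum_congr rfl (fun j _ => ?_)
    simp only [he'val, hr'val]
  rw [hfin]; exact hv'neg

end Groth.Agent.Lib.GitChain
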