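import Groth.Agent.Lib.Rado_helper1

set_option autoImplicit false
set_option maxHeartbeats 1000000

/-!
Stability of point configurations in projective space in terms of monomials in determinant
sections (GIT), via the base covering theorem for linear matroids.
-/

namespace Groth.Agent.Lib.GitConfH1

open Module Groth.Agent.Lib.RadoH1

universe u

theorem double_count {ι : Type*} [DecidableEq ι] (P : Multiset (Finset ι)) (C : Finset ι) :
    (P.map (fun S => (S ∩ C).card)).sum
      = ∑ j ∈ C, Multiset.card (P.filter (fun S => j ∈ S)) := by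
  induction P using Multiset.induction_on with
  | empty => simp
  | cons S P ih =>
    rw [Multiset.map_cons, Multiset.sum_cons, ih]
    have hcons : ∀ j, Multiset.card ((S ::ₘ P).filter (fun S => j ∈ S))
        = (if j ∈ S then 1 else 0) + Multiset.card (P.filter (fun S => j ∈ S)) := by
      intro j
      rw [Multiset.filter_cons, Multiset.card_add]
      split_ifs <;> simp
    simp only [hcons]
    rw [Finset.sum_add_distrib, ← Finset.card_filter, Finset.filter_mem_eq_inter,
      Finset.inter_comm]

theorem main12552 (K : Type u) [Field K]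
    (V : Type u) [AddCommGroup V] [Module K V] [FiniteDimensional K V]
    (m : ℕ) (x : Fin (m + 1) → V) (hx : ∀ i, x i ≠ 0) :
    (∀ L : Submodule K V, L ≠ ⊥ → L ≠ ⊤ →
        Set.ncard {i : Fin (m + 1) | x i ∈ L} * Module.finrank K V
          < Module.finrank K L * (m + 1)) ↔
      ∃ N N₀ : ℕ, 0 < N₀ ∧ N₀ ≤ N ∧
        ∀ i : Fin (m + 1), ∃ P : Multiset (Finset (Fin (m + 1))), P ≠ 0 ∧
          (∀ S ∈ P, S.card = Module.finrank K V ∧ LinearIndependent K (fun j : S => x j)) ∧
          ∀ j : Fin (m + 1),
            Multiset.card (P.filter (fun S => j ∈ S)) = if j = i then N - N₀ else N := by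
  classical
  obtain ⟨n, hn⟩ : ∃ n, n = Module.finrank K V := ⟨_, rfl⟩
  rw [← hn]
  have hnpos : 0 < n := by
    rw [hn]; exact Module.finrank_pos_iff_exists_ne_zero.mpr ⟨x 0, hx 0⟩
  constructor
  · intro hst
    obtain ⟨t, ht⟩ : ∃ t, t + 1 = (m + 1) * (2 * n) := ⟨(m + 1) * (2 * n) - 1, by
      have : 1 ≤ (m + 1) * (2 * n) := Nat.mul_pos (Nat.succ_pos m) (by omega)
      omega⟩
    have htpos : 1 ≤ t := by
      have : 2 ≤ (m + 1) * (2 * n) := by nlinarith
      omega
    obtain ⟨N, hN⟩ : ∃ N, N = 2 * n * n := ⟨_, rfl⟩
    have hnN : n ≤ N := by rw [hN]; nlinarith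
    refine ⟨N, n, hnpos, hnN, fun i => ?_⟩
    obtain ⟨w, hwi, hwne⟩ : ∃ w : Fin (m + 1) → ℕ, w i = N - n ∧ ∀ j, j ≠ i → w j = N :=
      ⟨fun j => if j = i then N - n else N, if_pos rfl, fun j hj => if_neg hj⟩
    have hwle : ∀ j, w j ≤ N := by
      intro j
      by_cases hj : j = i
      · rw [hj, hwi]; omega
      · rw [hwne j hj]
    have h5 : t * n + n = m * N + N := by
      calc t * n + n = (t + 1) * n := by ring
        _ = (m + 1) * (2 * n) * n := by rw [ht]
        _ = m * N + N := by rw [hN]; ring
    have hsum : ∑ j, w j = t * n := by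
      have h1 : ∑ j, w j = w i + ∑ j ∈ Finset.univ.erase i, w j :=
        (Finset.add_sum_erase Finset.univ w (Finset.mem_univ i)).symm
      have h2 : ∑ j ∈ Finset.univ.erase i, w j = ∑ _j ∈ Finset.univ.erase i, N :=
        Finset.sum_congr rfl (fun j hj => hwne j (Finset.ne_of_mem_erase hj))
      rw [h1, h2, hwi, Finset.sum_const, Finset.card_erase_of_mem (Finset.mem_univ i),
        Finset.card_univ, Fintype.card_fin, smul_eq_mul, Nat.add_sub_cancel]
      omega
    have hw : ∀ T : Finset (Fin (m + 1)),
        ∑ j ∈ T, w j ≤ t * finrank K (Submodule.span K (x '' (T : Set (Fin (m + 1))))) := by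
      intro T
      rcases T.eq_empty_or_nonempty with hTe | hTne
      · rw [hTe]; simp
      obtain ⟨L, hL⟩ : ∃ L, L = Submodule.span K (x '' (T : Set (Fin (m + 1)))) := ⟨_, rfl⟩
      rw [← hL]
      by_cases hLtop : L = ⊤
      · rw [hLtop, finrank_top, ← hn, ← hsum]
        exact Finset.sum_le_sum_of_subset (Finset.subset_univ T)
      · have hLbot : L ≠ ⊥ := by
          obtain ⟨j, hj⟩ := hTne
          intro hbot
          have hmem : x j ∈ L := by rw [hL]; exact Submodule.subset_span ⟨j, hj, rfl⟩
          rw [hbot, Submodule.mem_bot] at hmem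
          exact hx j hmem
        have hs := hst L hLbot hLtop
        have hcard : T.card ≤ Set.ncard {i : Fin (m + 1) | x i ∈ L} := by
          have hsub : (T : Set (Fin (m + 1))) ⊆ {i | x i ∈ L} := by
            intro j hj
            show x j ∈ L
            rw [hL]; exact Submodule.subset_span ⟨j, hj, rfl⟩
          have h := Set.ncard_le_ncard hsub (Set.toFinite _)
          rwa [Set.ncard_coe_finset] at h
        have hℓ : finrank K L ≤ n := by rw [hn]; exact Submodule.finrank_le L
        have h1 : ∑ j ∈ T, w j ≤ T.card * N := by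
          have := Finset.sum_le_card_nsmul T w N (fun j _ => hwle j)
          simpa using this
        have h2 : T.card * n + 1 ≤ finrank K L * (m + 1) := by
          have := Nat.mul_le_mul_right n hcard
          omega
        have h3 : (t + 1) * finrank K L = (m + 1) * (2 * n) * finrank K L := by rw [ht]
        have h4 := Nat.mul_le_mul_right (2 * n) h2
        rw [hN] at h1
        nlinarith [h1, h3, h4, hℓ]
    rw [hn] at hsum
    obtain ⟨S, hS1, hS2⟩ := exists_bases_of_weights K x w t hsum hw
    refine ⟨Finset.univ.val.map S, ?_, ?_, ?_⟩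
    · intro h0
      have h1 := congrArg Multiset.card h0
      rw [Multiset.card_map, Multiset.card_zero, ← Finset.card_def, Finset.card_univ,
        Fintype.card_fin] at h1
      omega
    · intro S' hS'
      obtain ⟨s, _, rfl⟩ := Multiset.mem_map.mp hS'
      rw [hn]
      exact ⟨(hS1 s).1, (hS1 s).2⟩
    · intro j
      rw [Multiset.filter_map, Multiset.card_map, ← Finset.filter_val, ← Finset.card_def]
      have := hS2 j
      by_cases hj : j = i
      · rw [if_pos hj, ← hwi, ← hj]; exact this
      · rw [if_neg hj, ← hwne j hj]; exact this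
  · rintro ⟨N, N₀, hN₀, hNN, hP⟩
    intro L hLbot hLtop
    obtain ⟨C, hC⟩ : ∃ C : Finset (Fin (m + 1)), C = Finset.univ.filter (fun j => x j ∈ L) :=
      ⟨_, rfl⟩
    have hCmem : ∀ j, j ∈ C ↔ x j ∈ L := by
      intro j; rw [hC, Finset.mem_filter]; exact ⟨fun h => h.2, fun h => ⟨Finset.mem_univ _, h⟩⟩
    have hnc : Set.ncard {i : Fin (m + 1) | x i ∈ L} = C.card := by
      rw [← Set.ncard_coe_finset C]
      congr 1
      ext j
      rw [Finset.mem_coe, hCmem]
      rfl
    rw [hnc]
    have hℓpos : 0 < finrank K L := by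
      rw [Module.finrank_pos_iff_exists_ne_zero]
      obtain ⟨v, hv, hv0⟩ := Submodule.exists_mem_ne_zero_of_ne_bot hLbot
      exact ⟨⟨v, hv⟩, fun h => hv0 (congrArg Subtype.val h)⟩
    have hbase : ∀ S : Finset (Fin (m + 1)), LinearIndependent K (fun j : S => x j) →
        (S ∩ C).card ≤ finrank K L := by
      intro S hS
      have h1 : LinearIndependent K (fun j : (S ∩ C : Finset (Fin (m + 1))) => x j) :=
        hS.comp (fun j : (S ∩ C : Finset (Fin (m + 1))) =>
          (⟨j.1, (Finset.mem_inter.mp j.2).1⟩ : S))
          (fun a b hab => Subtype.ext (congrArg (fun z : S => (z : Fin (m + 1))) hab))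
      have hmem : ∀ j : (S ∩ C : Finset (Fin (m + 1))), x j ∈ L :=
        fun j => (hCmem j.1).mp (Finset.mem_inter.mp j.2).2
      have h2 : LinearIndependent K
          (fun j : (S ∩ C : Finset (Fin (m + 1))) => (⟨x j, hmem j⟩ : L)) := by
        apply LinearIndependent.of_comp L.subtype
        exact h1
      have := h2.fintype_card_le_finrank
      rwa [Fintype.card_coe] at this
    by_cases hC0 : C.card = 0
    · rw [hC0, Nat.zero_mul]; exact Nat.mul_pos hℓpos (Nat.succ_pos m)
    have hout : ∃ i, x i ∉ L := by
      by_contra hall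
      push Not at hall
      obtain ⟨P, hP0, hPb, _⟩ := hP 0
      obtain ⟨S, hS⟩ := Multiset.exists_mem_of_ne_zero hP0
      obtain ⟨hScard, hSli⟩ := hPb S hS
      have hSC : S ∩ C = S := by
        apply Finset.inter_eq_left.mpr
        intro j _
        exact (hCmem j).mpr (hall j)
      have h1 := hbase S hSli
      rw [hSC, hScard] at h1
      have hlt : finrank K L < finrank K V := Submodule.finrank_lt hLtop
      omega
    obtain ⟨i, hi⟩ := hout
    obtain ⟨P, hP0, hPb, hPc⟩ := hP i
    have hdc := double_count P C
    have hsumC : ∑ j ∈ C, Multiset.card (P.filter (fun S => j ∈ S)) = C.card * N := by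
      have hall : ∀ j ∈ C, Multiset.card (P.filter (fun S => j ∈ S)) = N := by
        intro j hj
        rw [hPc j, if_neg]
        rintro rfl
        exact hi ((hCmem j).mp hj)
      rw [Finset.sum_congr rfl hall, Finset.sum_const, smul_eq_mul]
    have hle : (P.map (fun S => (S ∩ C).card)).sum ≤ Multiset.card P * finrank K L := by
      have h1 := Multiset.sum_le_card_nsmul (P.map (fun S => (S ∩ C).card)) (finrank K L) (by
        intro c hc
        obtain ⟨S, hS, rfl⟩ := Multiset.mem_map.mp hc
        exact hbase S (hPb S hS).2)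
      simpa using h1
    have hdu := double_count P Finset.univ
    have hsumU : ∑ j, Multiset.card (P.filter (fun S => j ∈ S)) + N₀ = (m + 1) * N := by
      simp only [hPc]
      have h1 : ∑ j, (if j = i then N - N₀ else N)
          = (N - N₀) + ∑ j ∈ Finset.univ.erase i, (if j = i then N - N₀ else N) := by
        rw [← Finset.add_sum_erase Finset.univ _ (Finset.mem_univ i), if_pos rfl]
      have h2 : ∑ j ∈ Finset.univ.erase i, (if j = i then N - N₀ else N)
          = ∑ _j ∈ Finset.univ.erase i, N :=
        Finset.sum_congr rfl (fun j hj => if_neg (Finset.ne_of_mem_erase hj))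
      rw [h1, h2, Finset.sum_const, Finset.card_erase_of_mem (Finset.mem_univ i),
        Finset.card_univ, Fintype.card_fin, smul_eq_mul, Nat.add_sub_cancel]
      have h3 : (m + 1) * N = m * N + N := by ring
      omega
    have hPn : (P.map (fun S => (S ∩ Finset.univ).card)).sum = Multiset.card P * n := by
      have h1 : P.map (fun S => (S ∩ Finset.univ).card) = P.map (fun _ => n) := by
        apply Multiset.map_congr rfl
        intro S hS
        rw [Finset.inter_univ]; exact (hPb S hS).1
      rw [h1, Multiset.map_const', Multiset.sum_replicate, smul_eq_mul]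
    rw [hPn] at hdu
    rw [hdc, hsumC] at hle
    apply Nat.lt_of_mul_lt_mul_right (a := N)
    have e1 : C.card * N * n ≤ Multiset.card P * finrank K L * n := Nat.mul_le_mul_right n hle
    have e2 : finrank K L * (Multiset.card P * n + N₀) = finrank K L * ((m + 1) * N) := by
      rw [hdu, hsumU]
    have e3 : 0 < finrank K L * N₀ := Nat.mul_pos hℓpos hN₀
    nlinarith [e1, e2, e3]

end Groth.Agent.Lib.GitConfH1
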