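import Groth.Agent.Lib.GlDim_helper5
import Groth.Agent.Lib.TorBal2_helper5

/-!
# Global dimension criteria (helper5)

* `gldim_of_cyclic`: if every cyclic module `A/I` has projective dimension `≤ n`, every module does
  (Auslander).
* `gldim_of_residueField`: over a Noetherian local ring, `pd κ ≤ n` implies every module has
  projective dimension `≤ n`.
-/

set_option autoImplicit false
universe u
open CategoryTheory CategoryTheory.Limits Abelian IsLocalRing

namespace Groth.Agent.GlDim

open Groth.Agent.TorLES Groth.Agent.TorBal

/-- Auslander: global dimension is detected on cyclic modules. -/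
theorem gldim_of_cyclic (A : Type u) [CommRing A] (n : ℕ)
    (h : ∀ I : Ideal A, HasProjectiveDimensionLT (ModuleCat.of A (A ⧸ I)) (n + 1)) (M : Type u)
    [AddCommGroup M] [Module A M] : HasProjectiveDimensionLT (ModuleCat.of A M) (n + 1) := by
  rw [hasProjectiveDimensionLT_iff]
  intro i hi Y e
  haveI : HasInjectiveDimensionLT Y (n + 1) :=
    hasInjectiveDimensionLT_of_ext_quot n Y (fun I e => by
      haveI := h I
      exact e.eq_zero_of_hasProjectiveDimensionLT (n + 1) le_rfl)
  exact e.eq_zero_of_hasInjectiveDimensionLT (n + 1) hi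

/-- over a Noetherian local ring, `pd κ ≤ n` bounds the global dimension. -/
theorem gldim_of_residueField (A : Type u) [CommRing A] [IsLocalRing A] [IsNoetherianRing A] (n : ℕ)
    (hk : HasProjectiveDimensionLT (ModuleCat.of A (ResidueField A)) (n + 1)) (M : Type u)
    [AddCommGroup M] [Module A M] : HasProjectiveDimensionLT (ModuleCat.of A M) (n + 1) := by
  apply gldim_of_cyclic A n
  intro I
  apply Groth.Agent.TorPd.pd_of_tor A n (A ⧸ I)
  have h1 : TorZero A (n + 1) (A ⧸ I) (ResidueField A) :=
    Groth.Agent.TorShift2.isZero_tor_of_projDim (ModuleCat.of A (A ⧸ I)) n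
      (ModuleCat.of A (ResidueField A)) (n + 1) (Nat.lt_succ_self n)
  exact (torZero_symm (n + 1) (A ⧸ I) (ResidueField A)).mp h1

end Groth.Agent.GlDim
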