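import Groth.Agent.Lib.GlDim2_helper5
import Groth.Agent.Lib.TorBC_helper9

/-!
# Global dimension descends along flat local homomorphisms (helper5)
-/

set_option autoImplicit false
universe u
open CategoryTheory CategoryTheory.Limits Abelian IsLocalRing TensorProduct

namespace Groth.Agent.GlDim

open Groth.Agent.TorLES Groth.Agent.TorBal TorBC9 Groth.Agent.ExtendScalarsLib

theorem gldim_descent (A B : Type u) [CommRing A] [CommRing B] [IsLocalRing A]
    [IsLocalRing B] [IsNoetherianRing A] [IsNoetherianRing B] [Algebra A B]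
    [IsLocalHom (algebraMap A B)] [Module.Flat A B] (n : ℕ)
    (hB : ∀ (N : Type u) [AddCommGroup N] [Module B N],
      HasProjectiveDimensionLT (ModuleCat.of B N) (n + 1))
    (M : Type u) [AddCommGroup M] [Module A M] :
    HasProjectiveDimensionLT (ModuleCat.of A M) (n + 1) := by
  apply gldim_of_residueField A n
  apply Groth.Agent.TorPd.pd_of_tor A n (ResidueField A)
  set κ := ModuleCat.of A (ResidueField A) with hκ
  set T := ((Tor (ModuleCat.{u} A) (n + 1)).obj κ).obj κ with hT
  change IsZero T
  have hff : Module.FaithfullyFlat A B := Module.FaithfullyFlat.of_flat_of_isLocalHom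
  have h1 : IsZero (((Tor (ModuleCat.{u} B) (n + 1)).obj ((E A B).obj κ)).obj ((E A B).obj κ)) := by
    haveI : HasProjectiveDimensionLT ((E A B).obj κ) (n + 1) := hB ((E A B).obj κ)
    exact Groth.Agent.TorShift2.isZero_tor_of_projDim _ n _ (n + 1) (Nat.lt_succ_self n)
  have h2 : IsZero ((E A B).obj T) := h1.of_iso (torIso A B κ κ (n + 1)).symm
  have h3 : Subsingleton (B ⊗[A] T) :=
    (extendScalarsEquivTensor (S := B) T).symm.toEquiv.subsingleton_congr.mpr
      (ModuleCat.subsingleton_of_isZero h2)
  haveI := h3
  have h4 : Subsingleton T := Module.FaithfullyFlat.lTensor_reflects_triviality A B T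
  exact ModuleCat.isZero_of_subsingleton T

end Groth.Agent.GlDim
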