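import Mathlib
import Groth.Agent.Lib.DiagNil3_helper4
import Groth.Agent.Lib.GmTorsA_helper4

/-!
# Cocycles for the group `G^(λ)` (law `s + t + λ s t`), algebra (helper4)

`K → C` faithfully flat, `λ ∈ K`.
* `amitsur_mod`: an element `l` of `C` with `l ⊗ 1 ≡ 1 ⊗ l` modulo `λ` is congruent modulo `λ` to an
  element of `K`.
* `exists_normalised`: let `u = 1 + λ τ ∈ (C ⊗ C)ˣ` be a multiplicative cocycle.  Around every prime
  of `K` there are a basic open `D(f)`, `l ∈ C` with `u (l ⊗ 1) = 1 ⊗ l`, a unit `ε` of `K_f` and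
  `h ∈ K_f ⊗ C` with `1 + λ h = ε (1 ⊗ l)` invertible.
-/

set_option autoImplicit false
set_option linter.style.haveILetI false
set_option linter.unusedSectionVars false
universe u
open TensorProduct

namespace Groth.Agent.Lib.GlamH4

open Groth.Agent.Lib.GmTorsH4

section Amitsur

variable {K C : Type u} [CommRing K] [CommRing C] [Algebra K C]

theorem amitsur_mod [Module.FaithfullyFlat K C] (lamK : K) (l : C) (w : C ⊗[K] C)
    (h : l ⊗ₜ[K] (1 : C) - (1 : C) ⊗ₜ[K] l = lamK • w) :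
    ∃ (v : K) (c : C), l = algebraMap K C v + lamK • c := by
  obtain ⟨I, hI⟩ : ∃ I : Ideal K, I = Ideal.span {lamK} := ⟨_, rfl⟩
  obtain ⟨z, hz⟩ : ∃ z : C ⊗[K] (K ⧸ I), z = l ⊗ₜ[K] (1 : K ⧸ I) := ⟨_, rfl⟩
  have hlam : (lamK • (1 : K ⧸ I)) = 0 := by
    rw [Algebra.smul_def, mul_one]
    change Ideal.Quotient.mk I lamK = 0
    rw [Ideal.Quotient.eq_zero_iff_mem, hI]
    exact Ideal.subset_span rfl
  have hd : Groth.Agent.Lib.DiagNilH4.dL z = Groth.Agent.Lib.DiagNilH4.dR z := by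
    rw [hz, Groth.Agent.Lib.DiagNilH4.dL_tmul, Groth.Agent.Lib.DiagNilH4.dR_tmul, ← sub_eq_zero,
      ← TensorProduct.sub_tmul, h, TensorProduct.smul_tmul, hlam, TensorProduct.tmul_zero]
  obtain ⟨x, hx⟩ := Groth.Agent.Lib.DiagNilH4.amitsur z hd
  obtain ⟨v, rfl⟩ := Ideal.Quotient.mk_surjective x
  have h1 := congrArg (TensorProduct.tensorQuotEquivQuotSMul C I) hx
  rw [hz, TensorProduct.tensorQuotEquivQuotSMul_tmul_mk] at h1
  have h2 : TensorProduct.tensorQuotEquivQuotSMul C I (l ⊗ₜ[K] (1 : K ⧸ I)) =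
      Submodule.Quotient.mk ((1 : K) • l) := by
    rw [← map_one (Ideal.Quotient.mk I)]
    exact TensorProduct.tensorQuotEquivQuotSMul_tmul_mk I l 1
  rw [h2, one_smul, Submodule.Quotient.eq, hI, Submodule.ideal_span_singleton_smul,
    Submodule.mem_smul_pointwise_iff_exists] at h1
  obtain ⟨c, -, hc⟩ := h1
  refine ⟨v, -c, ?_⟩
  rw [Algebra.algebraMap_eq_smul_one, smul_neg, hc]
  abel

end Amitsur

section Normalise

variable {K C : Type u} [CommRing K] [CommRing C] [Algebra K C]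

theorem isUnit_one_tmul (K' : Type u) [CommRing K'] [Algebra K K'] (f : K) (l m : C) (n : ℕ)
    (hlm : l * m = (algebraMap K C f) ^ n) (hf : IsUnit (algebraMap K K' f)) :
    IsUnit ((1 : K') ⊗ₜ[K] l) := by
  have h1 : ((1 : K') ⊗ₜ[K] l) * ((1 : K') ⊗ₜ[K] m) =
      Algebra.TensorProduct.includeLeftRingHom (R := K) (A := K') (B := C)
        (algebraMap K K' f ^ n) := by
    rw [Algebra.TensorProduct.tmul_mul_tmul, one_mul, hlm, ← map_pow, ← map_pow]
    change (1 : K') ⊗ₜ[K] algebraMap K C (f ^ n) = (algebraMap K K' (f ^ n)) ⊗ₜ[K] (1 : C)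
    rw [Algebra.algebraMap_eq_smul_one, Algebra.algebraMap_eq_smul_one, TensorProduct.tmul_smul,
      TensorProduct.smul_tmul']
  have h2 : IsUnit (Algebra.TensorProduct.includeLeftRingHom (R := K) (A := K') (B := C)
      (algebraMap K K' f ^ n)) := (hf.pow n).map _
  rw [← h1] at h2
  exact isUnit_of_mul_isUnit_left h2

theorem caseB_eq (K' : Type u) [CommRing K'] [Algebra K K'] (lamK v : K) (ν : K')
    (hν : algebraMap K K' v * ν = 1) (l c : C) (hvc : l = algebraMap K C v + lamK • c) :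
    ν • ((1 : K') ⊗ₜ[K] l) = 1 + lamK • (ν • ((1 : K') ⊗ₜ[K] c)) := by
  rw [hvc, TensorProduct.tmul_add, smul_add, TensorProduct.tmul_smul, smul_comm ν lamK]
  congr 1
  rw [Algebra.algebraMap_eq_smul_one, TensorProduct.tmul_smul, ← algebraMap_smul K' v, smul_smul,
    mul_comm, hν, one_smul]
  rfl

theorem caseA_eq (K' : Type u) [CommRing K'] [Algebra K K'] (lamK : K) (μ : K')
    (hμ : algebraMap K K' lamK * μ = 1) (x : K' ⊗[K] C) :
    1 + lamK • (μ • (x - 1)) = (1 : K') • x := by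
  rw [← algebraMap_smul K' lamK, smul_smul, hμ, one_smul, one_smul]
  abel

theorem isUnit_smul_one_tmul (K' : Type u) [CommRing K'] [Algebra K K'] (ν : K') (hν : IsUnit ν)
    (l : C) (hl : IsUnit ((1 : K') ⊗ₜ[K] l)) : IsUnit (ν • ((1 : K') ⊗ₜ[K] l)) := by
  have h1 : ν • ((1 : K') ⊗ₜ[K] l) = (ν ⊗ₜ[K] (1 : C)) * ((1 : K') ⊗ₜ[K] l) := by
    rw [TensorProduct.smul_tmul', smul_eq_mul, mul_one, Algebra.TensorProduct.tmul_mul_tmul, mul_one,
      one_mul]
  rw [h1]
  exact IsUnit.mul (hν.map (Algebra.TensorProduct.includeLeftRingHom (R := K) (A := K') (B := C))) hl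

theorem exists_normalised [Module.FaithfullyFlat K C] (lamK : K) (τ : C ⊗[K] C)
    (hu : IsUnit (1 + lamK • τ))
    (hcoc : d1 (1 + lamK • τ) = d2 (1 + lamK • τ) * d0 (1 + lamK • τ))
    (𝔭 : PrimeSpectrum K) :
    ∃ (f : K) (l : C) (ε : Localization.Away f) (h : Localization.Away f ⊗[K] C),
      f ∉ 𝔭.asIdeal ∧ (1 + lamK • τ) * (l ⊗ₜ[K] 1) = 1 ⊗ₜ[K] l ∧
      1 + lamK • h = ε • ((1 : Localization.Away f) ⊗ₜ[K] l) ∧ IsUnit (1 + lamK • h) := by
  obtain ⟨f, l, m, n, hf, hrel, hlm⟩ := hilbert90_local (1 + lamK • τ) hu hcoc 𝔭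
  by_cases hlam : lamK ∈ 𝔭.asIdeal
  · -- `λ` vanishes at the prime: normalise `l` modulo `λ`
    have hw : l ⊗ₜ[K] (1 : C) - (1 : C) ⊗ₜ[K] l = lamK • (-(τ * (l ⊗ₜ[K] 1))) := by
      rw [← hrel, add_mul, one_mul, smul_mul_assoc, smul_neg]
      abel
    obtain ⟨v, c, hvc⟩ := amitsur_mod lamK l _ hw
    have hv : v ∉ 𝔭.asIdeal := by
      intro hv
      obtain ⟨𝔮, h𝔮⟩ := PrimeSpectrum.comap_surjective_of_faithfullyFlat (A := K) (B := C) 𝔭
      have hmem : ∀ k : K, k ∈ 𝔭.asIdeal → algebraMap K C k ∈ 𝔮.asIdeal := by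
        intro k hk
        rw [← h𝔮] at hk
        exact hk
      have hl : l ∈ 𝔮.asIdeal := by
        rw [hvc, Algebra.smul_def]
        exact Ideal.add_mem _ (hmem v hv) (Ideal.mul_mem_right _ _ (hmem lamK hlam))
      have hfn : (algebraMap K C f) ^ n ∈ 𝔮.asIdeal := by
        rw [← hlm]
        exact Ideal.mul_mem_right _ _ hl
      have hf' : algebraMap K C f ∈ 𝔮.asIdeal := 𝔮.isPrime.mem_of_pow_mem n hfn
      apply hf
      rw [← h𝔮]
      exact hf'
    have hfv : f * v ∉ 𝔭.asIdeal := fun hmem =>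
      (𝔭.isPrime.mem_or_mem hmem).elim hf hv
    have hunit := IsLocalization.Away.algebraMap_isUnit (S := Localization.Away (f * v)) (f * v)
    rw [map_mul] at hunit
    have hfu : IsUnit (algebraMap K (Localization.Away (f * v)) f) := isUnit_of_mul_isUnit_left hunit
    have hvu : IsUnit (algebraMap K (Localization.Away (f * v)) v) := isUnit_of_mul_isUnit_right hunit
    obtain ⟨ν, hν⟩ := hvu.exists_right_inv
    have hone := caseB_eq (C := C) (Localization.Away (f * v)) lamK v ν hν l c hvc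
    refine ⟨f * v, l, ν, ν • ((1 : Localization.Away (f * v)) ⊗ₜ[K] c), hfv, hrel, hone.symm, ?_⟩
    rw [← hone]
    have hνu : IsUnit ν := IsUnit.of_mul_eq_one _ ((mul_comm _ _).trans hν)
    exact isUnit_smul_one_tmul _ ν hνu l (isUnit_one_tmul _ f l m n hlm hfu)
  · -- `λ` is invertible near the prime
    have hfl : f * lamK ∉ 𝔭.asIdeal := fun hmem =>
      (𝔭.isPrime.mem_or_mem hmem).elim hf hlam
    have hunit := IsLocalization.Away.algebraMap_isUnit (S := Localization.Away (f * lamK))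
      (f * lamK)
    rw [map_mul] at hunit
    have hfu : IsUnit (algebraMap K (Localization.Away (f * lamK)) f) :=
      isUnit_of_mul_isUnit_left hunit
    have hlu : IsUnit (algebraMap K (Localization.Away (f * lamK)) lamK) :=
      isUnit_of_mul_isUnit_right hunit
    obtain ⟨μ, hμ⟩ := hlu.exists_right_inv
    have hone := caseA_eq (C := C) (Localization.Away (f * lamK)) lamK μ hμ
      ((1 : Localization.Away (f * lamK)) ⊗ₜ[K] l)
    refine ⟨f * lamK, l, 1, μ • (((1 : Localization.Away (f * lamK)) ⊗ₜ[K] l) - 1), hfl, hrel,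
      hone, ?_⟩
    rw [hone, one_smul]
    exact isUnit_one_tmul _ f l m n hlm hfu

end Normalise

end Groth.Agent.Lib.GlamH4
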