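import Mathlib
import Groth.Agent.Lib.GmTorsB_helper4
import Groth.Agent.Lib.GlamA_helper4

/-!
# fpqc torsors under the group `G^(λ)` (law `s + t + λ s t`), part B (helper4)

* `desc_pair`: descent of a morphism along a covering, tested on a single pull-back square.
* `fnB_mulF`: the group law on points with values in an affine scheme.
* `core_lam`: descent of a modified point along a localised cover.
-/

set_option autoImplicit false
set_option linter.style.haveILetI false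
set_option linter.unusedSectionVars false
universe u
open CategoryTheory CategoryTheory.Limits AlgebraicGeometry MonoidalCategory
  CartesianMonoidalCategory MonObj TensorProduct

namespace Groth.Agent.Lib.GlamH4

open SchFpqcCovH7 Groth.Agent.Lib.RedDictH8 Groth.Agent.Lib.GaTorsH4 Groth.Agent.Lib.GmTorsH4

section DescPair

variable {S : Scheme.{u}}

theorem desc_pair {A B P X : Over S} (c : A ⟶ B) (hc : IsCov c.left) (π₁ π₂ : P ⟶ A)
    (hpb : IsPullback π₁.left π₂.left c.left c.left) (x' : A ⟶ X) (h : π₁ ≫ x' = π₂ ≫ x') :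
    ∃ f' : B ⟶ X, c ≫ f' = x' := by
  apply desc_of_isCov c hc x'
  intro T a₁ a₂ hcomm
  have hcl : a₁.left ≫ c.left = a₂.left ≫ c.left := congrArg (fun t => t.left) hcomm
  obtain ⟨s₀, hs1, hs2⟩ : ∃ s₀ : T.left ⟶ P.left, s₀ ≫ π₁.left = a₁.left ∧ s₀ ≫ π₂.left = a₂.left :=
    ⟨hpb.lift a₁.left a₂.left hcl, hpb.lift_fst _ _ _, hpb.lift_snd _ _ _⟩
  have hw : s₀ ≫ P.hom = T.hom := by
    rw [← Over.w π₁, ← Category.assoc, hs1, Over.w a₁]
  obtain ⟨s, hs⟩ : ∃ s : T ⟶ P, s = Over.homMk s₀ hw := ⟨_, rfl⟩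
  have e1 : s ≫ π₁ = a₁ := by
    apply Over.OverMorphism.ext
    rw [hs]
    exact hs1
  have e2 : s ≫ π₂ = a₂ := by
    apply Over.OverMorphism.ext
    rw [hs]
    exact hs2
  rw [← e1, ← e2, Category.assoc, Category.assoc, h]

end DescPair

section FnBMul

variable {K : Type u} [CommRing K] {G : Over (Spec (CommRingCat.of K))} [GrpObj G]
  (fn : ∀ T : Over (Spec (CommRingCat.of K)), (T ⟶ G) → Γ(T.left, ⊤)) (lamK : K)

theorem iso_ev_hom (B : Type u) [CommRing B] [Algebra K B] (k : K) :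
    (Scheme.ΓSpecIso (CommRingCat.of B)).hom.hom
      (ev (B := CommRingCat.of K) (SpO K B).hom k) = algebraMap K B k := by
  unfold ev
  have h := Scheme.ΓSpecIso_inv_naturality (CommRingCat.ofHom (algebraMap K B))
  have h2 := congrArg (fun ψ => ψ.hom k) h
  simp only [CommRingCat.hom_comp, RingHom.coe_comp, Function.comp_apply] at h2
  change (Scheme.ΓSpecIso (CommRingCat.of B)).hom.hom
    ((Spec.map (CommRingCat.ofHom (algebraMap K B))).appTop.hom
      ((Scheme.ΓSpecIso (CommRingCat.of K)).inv.hom k)) = _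
  rw [← h2]
  simp

theorem iso_inv_algebraMap (B : Type u) [CommRing B] [Algebra K B] (k : K) :
    (Scheme.ΓSpecIso (CommRingCat.of B)).inv.hom (algebraMap K B k) =
      ev (B := CommRingCat.of K) (SpO K B).hom k := by
  rw [← iso_ev_hom B k]
  simp

theorem fnB_mulF
    (hmulF : ∀ (T : Over (Spec (CommRingCat.of K))) (x y : T ⟶ G),
      fn T (x * y) = fn T x + fn T y + ev (B := CommRingCat.of K) T.hom lamK * (fn T x * fn T y))
    (B : Type u) [CommRing B] [Algebra K B] (x y : SpO K B ⟶ G) :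
    fnB fn B (x * y) = fnB fn B x + fnB fn B y + lamK • (fnB fn B x * fnB fn B y) := by
  unfold fnB
  rw [hmulF, map_add, map_add, map_mul, map_mul, iso_ev_hom, Algebra.smul_def]

end FnBMul

section Alg

variable (K K' C : Type u) [CommRing K] [CommRing K'] [CommRing C] [Algebra K K'] [Algebra K C]

/-- the second Čech term of the localised cover -/
noncomputable abbrev DD := (K' ⊗[K] C) ⊗[K'] (K' ⊗[K] C)

/-- first inclusion `K' ⊗ C → DD` -/
noncomputable def i0 : K' ⊗[K] C →ₐ[K] DD K K' C := Algebra.TensorProduct.includeLeft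

/-- second inclusion `K' ⊗ C → DD` -/
noncomputable def i1 : K' ⊗[K] C →ₐ[K] DD K K' C :=
  (Algebra.TensorProduct.includeRight : K' ⊗[K] C →ₐ[K'] DD K K' C).restrictScalars K

/-- `C → K' ⊗ C` -/
noncomputable def th : C →ₐ[K] K' ⊗[K] C := Algebra.TensorProduct.includeRight

/-- `C ⊗ C → DD` -/
noncomputable def rho : C ⊗[K] C →ₐ[K] DD K K' C :=
  Algebra.TensorProduct.productMap ((i0 K K' C).comp (th K K' C)) ((i1 K K' C).comp (th K K' C))

variable {K K' C}

theorem sd (lamK : K) (x : DD K K' C) : lamK • x = algebraMap K (DD K K' C) lamK * x :=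
  Algebra.smul_def lamK x

theorem sd' (ε : K') (x : DD K K' C) : ε • x = algebraMap K' (DD K K' C) ε * x :=
  Algebra.smul_def ε x

theorem i0_smul (ε : K') (z : K' ⊗[K] C) : i0 K K' C (ε • z) = ε • i0 K K' C z := rfl

theorem i1_smul (ε : K') (z : K' ⊗[K] C) : i1 K K' C (ε • z) = ε • i1 K K' C z := by
  unfold i1
  simp

theorem rho_left (c : C) : rho K K' C (c ⊗ₜ[K] 1) = i0 K K' C (1 ⊗ₜ[K] c) := by
  unfold rho
  rw [Algebra.TensorProduct.productMap_left_apply]
  rfl

theorem rho_right (c : C) : rho K K' C (1 ⊗ₜ[K] c) = i1 K K' C (1 ⊗ₜ[K] c) := by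
  unfold rho
  rw [Algebra.TensorProduct.productMap_right_apply]
  rfl

theorem ring_key (lamK : K) (h : K' ⊗[K] C) (τ : C ⊗[K] C) (l : C) (ε : K')
    (hone : 1 + lamK • h = ε • ((1 : K') ⊗ₜ[K] l))
    (hrel : (1 + lamK • τ) * (l ⊗ₜ[K] 1) = 1 ⊗ₜ[K] l)
    (hreg : IsSMulRegular (DD K K' C) lamK) :
    i0 K K' C h + rho K K' C τ + lamK • (i0 K K' C h * rho K K' C τ) = i1 K K' C h := by
  have e0 : 1 + algebraMap K (DD K K' C) lamK * i0 K K' C h =
      algebraMap K' (DD K K' C) ε * i0 K K' C (1 ⊗ₜ[K] l) := by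
    rw [← sd, ← sd', ← i0_smul, ← hone, map_add, map_one, map_smul]
  have e1 : 1 + algebraMap K (DD K K' C) lamK * i1 K K' C h =
      algebraMap K' (DD K K' C) ε * i1 K K' C (1 ⊗ₜ[K] l) := by
    rw [← sd, ← sd', ← i1_smul, ← hone, map_add, map_one, map_smul]
  have e2 : (1 + algebraMap K (DD K K' C) lamK * rho K K' C τ) * i0 K K' C (1 ⊗ₜ[K] l) =
      i1 K K' C (1 ⊗ₜ[K] l) := by
    have := congrArg (rho K K' C) hrel
    rw [map_mul, map_add, map_one, map_smul, rho_left, rho_right, sd] at this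
    exact this
  apply hreg
  change lamK • _ = lamK • _
  rw [sd, sd, sd]
  linear_combination (1 + algebraMap K (DD K K' C) lamK * rho K K' C τ) * e0 - e1 +
    algebraMap K' (DD K K' C) ε * e2

variable (K K' C)

theorem isPullback_DD :
    IsPullback (spMap K (i0 K K' C)).left (spMap K (i1 K K' C)).left
      (spMap K (Algebra.TensorProduct.includeLeft : K' →ₐ[K] K' ⊗[K] C)).left
      (spMap K (Algebra.TensorProduct.includeLeft : K' →ₐ[K] K' ⊗[K] C)).left :=
  isPullback_SpecMap_of_isPushout _ _ _ _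
    (CommRingCat.isPushout_tensorProduct K' (K' ⊗[K] C) (K' ⊗[K] C))

theorem spMap_rho_pL : spMap K (rho K K' C) ≫ pL K C = spMap K (i0 K K' C) ≫ spMap K (th K K' C) := by
  unfold pL
  rw [spMap_comp, spMap_comp]
  congr 1
  exact Algebra.TensorProduct.productMap_left _ _

theorem spMap_rho_pR : spMap K (rho K K' C) ≫ pR K C = spMap K (i1 K K' C) ≫ spMap K (th K K' C) := by
  unfold pR
  rw [spMap_comp, spMap_comp]
  congr 1
  exact Algebra.TensorProduct.productMap_right _ _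

end Alg

section CoreLam

variable {K : Type u} [CommRing K] {G X : Over (Spec (CommRingCat.of K))} [GrpObj G]
  (a : AlgGrp.Action G X)
  (fn : ∀ T : Over (Spec (CommRingCat.of K)), (T ⟶ G) → Γ(T.left, ⊤)) (lamK : K)

theorem core_lam
    (hcomp : ∀ (T' T : Over (Spec (CommRingCat.of K))) (t : T' ⟶ T) (x : T ⟶ G),
      fn T' (t ≫ x) = t.left.appTop.hom (fn T x))
    (hmulF : ∀ (T : Over (Spec (CommRingCat.of K))) (x y : T ⟶ G),
      fn T (x * y) = fn T x + fn T y + ev (B := CommRingCat.of K) T.hom lamK * (fn T x * fn T y))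
    (hinj : ∀ T, Function.Injective (fn T))
    (C : Type u) [CommRing C] [Algebra K C] (x₀ : SpO K C ⟶ X)
    (g₂ : SpO K (C ⊗[K] C) ⟶ G) (hg₂ : lift g₂ (pR K C ≫ x₀) ≫ a.act = pL K C ≫ x₀)
    (K' : Type u) [CommRing K'] [Algebra K K']
    (hcov : IsCov (spMap K (Algebra.TensorProduct.includeLeft : K' →ₐ[K] K' ⊗[K] C)).left)
    (hh : SpO K (K' ⊗[K] C) ⟶ G) (l : C) (ε : K')
    (hone : 1 + lamK • fnB fn (K' ⊗[K] C) hh = ε • ((1 : K') ⊗ₜ[K] l))
    (hrel : (1 + lamK • fnB fn (C ⊗[K] C) g₂) * (l ⊗ₜ[K] 1) = 1 ⊗ₜ[K] l)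
    (hreg : IsSMulRegular (DD K K' C) lamK) :
    Nonempty (SpO K K' ⟶ X) := by
  obtain ⟨w, hw⟩ : ∃ w : SpO K (K' ⊗[K] C) ⟶ SpO K C, w = spMap K (th K K' C) := ⟨_, rfl⟩
  obtain ⟨x', hx'⟩ : ∃ x' : SpO K (K' ⊗[K] C) ⟶ X, x' = lift hh (w ≫ x₀) ≫ a.act := ⟨_, rfl⟩
  have hkey : (spMap K (i0 K K' C) ≫ hh) * (spMap K (rho K K' C) ≫ g₂) =
      spMap K (i1 K K' C) ≫ hh := by
    apply fnB_inj fn hinj
    rw [fnB_mulF fn lamK hmulF, fnB_spMap fn hcomp, fnB_spMap fn hcomp, fnB_spMap fn hcomp]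
    exact ring_key lamK _ _ l ε hone hrel hreg
  have hdesc : spMap K (i0 K K' C) ≫ x' = spMap K (i1 K K' C) ≫ x' := by
    calc spMap K (i0 K K' C) ≫ x'
        = lift (spMap K (i0 K K' C) ≫ hh) (spMap K (i0 K K' C) ≫ w ≫ x₀) ≫ a.act := by
          rw [hx', comp_lift_assoc]
      _ = lift (spMap K (i0 K K' C) ≫ hh) (spMap K (rho K K' C) ≫ pL K C ≫ x₀) ≫ a.act := by
          rw [hw, ← Category.assoc (spMap K (i0 K K' C)), ← spMap_rho_pL, Category.assoc]
      _ = lift (spMap K (i0 K K' C) ≫ hh)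
            (lift (spMap K (rho K K' C) ≫ g₂) (spMap K (rho K K' C) ≫ pR K C ≫ x₀) ≫ a.act) ≫
              a.act := by
          rw [← hg₂, comp_lift_assoc]
      _ = lift ((spMap K (i0 K K' C) ≫ hh) * (spMap K (rho K K' C) ≫ g₂))
            (spMap K (rho K K' C) ≫ pR K C ≫ x₀) ≫ a.act := by
          rw [AlgGrp.Action.lift_mul_act]
      _ = lift (spMap K (i1 K K' C) ≫ hh) (spMap K (i1 K K' C) ≫ w ≫ x₀) ≫ a.act := by
          rw [hkey, hw, ← Category.assoc (spMap K (rho K K' C)), spMap_rho_pR, Category.assoc]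
      _ = spMap K (i1 K K' C) ≫ x' := by rw [hx', comp_lift_assoc]
  obtain ⟨f', -⟩ := desc_pair
    (spMap K (Algebra.TensorProduct.includeLeft : K' →ₐ[K] K' ⊗[K] C)) hcov
    (spMap K (i0 K K' C)) (spMap K (i1 K K' C)) (isPullback_DD K K' C) x' hdesc
  exact ⟨f'⟩

end CoreLam

end Groth.Agent.Lib.GlamH4
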