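import Mathlib
import Groth.Prelude.Def_SekSuwa
import Groth.Agent.Lib.GlamB_helper4
import Groth.Agent.Lib.GaTorsC_helper4

/-!
# fpqc torsors under the group `G^(λ)` (law `s + t + λ s t`), part C (helper4)

The dictionary between points of (base changes of) `G^(λ) = Spec R[t, 1/(1+λt)]` and functions `b`
with `1 + λ b` invertible.
-/

set_option autoImplicit false
set_option linter.style.haveILetI false
set_option linter.unusedSectionVars false
universe u
open CategoryTheory CategoryTheory.Limits AlgebraicGeometry MonoidalCategory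
  CartesianMonoidalCategory MonObj TensorProduct

namespace Groth.Agent.Lib.GlamH4

open SchFpqcCovH7 Groth.Agent.Lib.MultGa Groth.Agent.Lib.RedDictH8 Groth.Agent.Lib.GaTorsH4
  Groth.Agent.Lib.GmTorsH4 SekSuwa

section Dict

variable {R : Type u} [CommRing R] (lam : R) {X : Scheme.{u}} (f : X ⟶ Spec (CommRingCat.of R))

/-- the coordinate `t` of a point of `G^(λ)_X` -/
noncomputable def tOf {X' : Over X} (x : X' ⟶ Red.bc f (SekSuwa.G R lam)) : Γ(X'.left, ⊤) :=
  ev (B := CommRingCat.of (A R lam)) (x.left ≫ pullback.fst _ _) A.t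

/-- the function `λ` on an `X`-scheme -/
noncomputable def lamOf (X' : Over X) : Γ(X'.left, ⊤) :=
  ev (B := CommRingCat.of R) (X'.hom ≫ f) lam

theorem struct_eq {X' : Over X} (x : X' ⟶ Red.bc f (SekSuwa.G R lam)) :
    (x.left ≫ pullback.fst _ _) ≫ Spec.map (CommRingCat.ofHom (algebraMap R (A R lam))) =
      X'.hom ≫ f := by
  have hx : x.left ≫ pullback.snd _ _ = X'.hom := Over.w x
  rw [← hx, Category.assoc, Category.assoc]
  congr 1
  exact pullback.condition

theorem ev_algebraMap {X' : Over X} (x : X' ⟶ Red.bc f (SekSuwa.G R lam)) (r : R) :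
    ev (B := CommRingCat.of (A R lam)) (x.left ≫ pullback.fst _ _) (algebraMap R (A R lam) r) =
      ev (B := CommRingCat.of R) (X'.hom ≫ f) r := by
  rw [← struct_eq lam f x]
  exact (ev_comp_specMap (B := CommRingCat.of R) (B' := CommRingCat.of (A R lam))
    (x.left ≫ pullback.fst _ _) (CommRingCat.ofHom (algebraMap R (A R lam))) r).symm

theorem tOf_mul {X' : Over X} (x y : X' ⟶ Red.bc f (SekSuwa.G R lam)) :
    tOf lam f (x * y) = tOf lam f x + tOf lam f y + lamOf lam f X' * (tOf lam f x * tOf lam f y) := by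
  have h0 := lift_cond (R := CommRingCat.of R) (A := CommRingCat.of (A R lam)) f x y
  have h1 := congrArg (fun m => ev (B := CommRingCat.of (A R lam)) m A.t)
    (mul_left_fst (R := CommRingCat.of R) (A := CommRingCat.of (A R lam)) f x y)
  have h2 := ev_lift_mul_left (R := R) (A := A R lam) (x.left ≫ pullback.fst _ _)
    (y.left ≫ pullback.fst _ _) h0 A.t
  have h3 : pullback.lift (x.left ≫ pullback.fst _ _) (y.left ≫ pullback.fst _ _) h0 ≫
      μ[SekSuwa.G R lam].left =
      (pullback.lift (x.left ≫ pullback.fst _ _) (y.left ≫ pullback.fst _ _) h0 ≫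
        (pullbackSpecIso R (A R lam) (A R lam)).hom) ≫
        Spec.map (CommRingCat.ofHom (RingHomClass.toRingHom
          (Bialgebra.comulAlgHom R (A R lam)))) := by
    rw [mul_spec_asOver_spec_left, Category.assoc]
    rfl
  unfold tOf lamOf
  refine h1.trans ((congrArg (fun m => ev (B := CommRingCat.of (A R lam)) m A.t) h3).trans
    (h2.trans ?_))
  rw [A.comul_t, ev_add, ev_add, ev_lift_tmul, ev_lift_tmul, ev_one, ev_one, _root_.mul_one,
    _root_.one_mul, TensorProduct.smul_tmul', ev_lift_tmul, Algebra.smul_def, ev_mul,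
    ev_algebraMap, _root_.mul_assoc]

theorem tOf_comp {X'' X' : Over X} (g : X'' ⟶ X') (x : X' ⟶ Red.bc f (SekSuwa.G R lam)) :
    tOf lam f (g ≫ x) = g.left.appTop.hom (tOf lam f x) := by
  unfold tOf
  rw [Over.comp_left, Category.assoc]
  exact ev_comp _ _ _

theorem ev_u {X' : Over X} (x : X' ⟶ Red.bc f (SekSuwa.G R lam)) :
    ev (B := CommRingCat.of (A R lam)) (x.left ≫ pullback.fst _ _) A.u =
      1 + lamOf lam f X' * tOf lam f x := by
  unfold tOf lamOf
  rw [A.u_def, ev_add, ev_one, ev_mul, ev_algebraMap]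

theorem ev_u_mul_inv {X' : Over X} (x : X' ⟶ Red.bc f (SekSuwa.G R lam)) :
    ev (B := CommRingCat.of (A R lam)) (x.left ≫ pullback.fst _ _) A.u *
      ev (B := CommRingCat.of (A R lam)) (x.left ≫ pullback.fst _ _) A.inv = 1 := by
  rw [← ev_mul, A.u_mul_inv, ev_one]

theorem isUnit_tOf {X' : Over X} (x : X' ⟶ Red.bc f (SekSuwa.G R lam)) :
    IsUnit (1 + lamOf lam f X' * tOf lam f x) := by
  rw [← ev_u]
  exact IsUnit.of_mul_eq_one _ (ev_u_mul_inv lam f x)

theorem tOf_inj {X' : Over X} (x y : X' ⟶ Red.bc f (SekSuwa.G R lam))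
    (h : tOf lam f x = tOf lam f y) : x = y := by
  apply over_point_ext (R := CommRingCat.of R) (A := CommRingCat.of (A R lam)) f
  letI : Algebra R Γ(X'.left, ⊤) := (evHom (B := CommRingCat.of R) (X'.hom ≫ f)).toAlgebra
  obtain ⟨ψa, hψa⟩ : ∃ ψ : A R lam →ₐ[R] Γ(X'.left, ⊤),
      ∀ s, ψ s = ev (B := CommRingCat.of (A R lam)) (x.left ≫ pullback.fst _ _) s :=
    ⟨{ evHom (B := CommRingCat.of (A R lam)) (x.left ≫ pullback.fst _ _) with
        commutes' := fun r => ev_algebraMap lam f x r }, fun s => rfl⟩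
  obtain ⟨ψb, hψb⟩ : ∃ ψ : A R lam →ₐ[R] Γ(X'.left, ⊤),
      ∀ s, ψ s = ev (B := CommRingCat.of (A R lam)) (y.left ≫ pullback.fst _ _) s :=
    ⟨{ evHom (B := CommRingCat.of (A R lam)) (y.left ≫ pullback.fst _ _) with
        commutes' := fun r => ev_algebraMap lam f y r }, fun s => rfl⟩
  have hu : ev (B := CommRingCat.of (A R lam)) (x.left ≫ pullback.fst _ _) A.u =
      ev (B := CommRingCat.of (A R lam)) (y.left ≫ pullback.fst _ _) A.u := by
    rw [ev_u, ev_u, h]
  have hinv : ev (B := CommRingCat.of (A R lam)) (x.left ≫ pullback.fst _ _) A.inv =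
      ev (B := CommRingCat.of (A R lam)) (y.left ≫ pullback.fst _ _) A.inv := by
    have h1 := ev_u_mul_inv lam f x
    have h2 := ev_u_mul_inv lam f y
    rw [hu] at h1
    calc ev (B := CommRingCat.of (A R lam)) (x.left ≫ pullback.fst _ _) A.inv
        = (ev (B := CommRingCat.of (A R lam)) (y.left ≫ pullback.fst _ _) A.u *
            ev (B := CommRingCat.of (A R lam)) (y.left ≫ pullback.fst _ _) A.inv) *
            ev (B := CommRingCat.of (A R lam)) (x.left ≫ pullback.fst _ _) A.inv := by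
          rw [h2, _root_.one_mul]
      _ = (ev (B := CommRingCat.of (A R lam)) (y.left ≫ pullback.fst _ _) A.u *
            ev (B := CommRingCat.of (A R lam)) (x.left ≫ pullback.fst _ _) A.inv) *
            ev (B := CommRingCat.of (A R lam)) (y.left ≫ pullback.fst _ _) A.inv := by ring
      _ = ev (B := CommRingCat.of (A R lam)) (y.left ≫ pullback.fst _ _) A.inv := by
          rw [h1, _root_.one_mul]
  have hψ : ψa = ψb := by
    apply A.algHom_ext
    · rw [hψa, hψb]
      exact h
    · rw [hψa, hψb]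
      exact hinv
  apply point_ext (B := CommRingCat.of (A R lam))
  intro s
  exact (hψa s).symm.trans ((congrArg (fun ψ => ψ s) hψ).trans (hψb s))

theorem tOf_surj {X' : Over X} (r : Γ(X'.left, ⊤)) (hr : IsUnit (1 + lamOf lam f X' * r)) :
    ∃ x : X' ⟶ Red.bc f (SekSuwa.G R lam), tOf lam f x = r := by
  letI : Algebra R Γ(X'.left, ⊤) := (evHom (B := CommRingCat.of R) (X'.hom ≫ f)).toAlgebra
  obtain ⟨c, hc⟩ := hr.exists_right_inv
  have hc' : (1 + lam • r) * c = 1 := by
    rw [Algebra.smul_def]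
    exact hc
  obtain ⟨a, ha⟩ := exists_point (B := CommRingCat.of (A R lam)) X'.left
    (CommRingCat.ofHom (A.lift R lam r c hc').toRingHom)
  have ha' : ∀ s : A R lam, ev a s = A.lift R lam r c hc' s := ha
  have hw : a ≫ (SekSuwa.G R lam).hom = X'.hom ≫ f := by
    apply point_ext (B := CommRingCat.of R)
    intro r'
    change ev (a ≫ Spec.map (CommRingCat.ofHom (algebraMap R (A R lam)))) r' = _
    rw [ev_comp_specMap]
    change ev a (algebraMap R (A R lam) r') = _
    rw [ha', AlgHom.commutes]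
    rfl
  obtain ⟨x, hx⟩ := exists_over_point (R := CommRingCat.of R) (A := CommRingCat.of (A R lam)) f a hw
  refine ⟨x, ?_⟩
  have h1 : tOf lam f x = ev a A.t := congrArg (fun m => ev (B := CommRingCat.of (A R lam)) m A.t) hx
  rw [h1, ha', A.lift_t]

end Dict

section Chart

variable {R : Type u} [CommRing R] (lam : R) {X U : Scheme.{u}} (f : X ⟶ Spec (CommRingCat.of R))
  (j : U ⟶ X)

/-- the coordinate of a point of `G^(λ)_X ×_X U` over `U` -/
noncomputable def fnG (T' : Over U) (x' : T' ⟶ Red.bc j (Red.bc f (SekSuwa.G R lam))) :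
    Γ(T'.left, ⊤) :=
  tOf lam f (X' := (Over.map j).obj T') (chk j x')

theorem fnG_comp (T'' T' : Over U) (t : T'' ⟶ T')
    (x' : T' ⟶ Red.bc j (Red.bc f (SekSuwa.G R lam))) :
    fnG lam f j T'' (t ≫ x') = t.left.appTop.hom (fnG lam f j T' x') := by
  unfold fnG
  rw [chk_comp]
  exact tOf_comp lam f ((Over.map j).map t) (chk j x')

/-- the function `λ` on a `U`-scheme -/
noncomputable def lamU (T' : Over U) : Γ(T'.left, ⊤) :=
  ev (B := CommRingCat.of R) (T'.hom ≫ j ≫ f) lam

theorem lamOf_map (T' : Over U) :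
    (lamOf lam f ((Over.map j).obj T') : Γ(T'.left, ⊤)) = lamU lam f j T' := by
  unfold lamOf lamU
  congr 1

theorem fnG_mul (T' : Over U) (x' y' : T' ⟶ Red.bc j (Red.bc f (SekSuwa.G R lam))) :
    fnG lam f j T' (x' * y') = fnG lam f j T' x' + fnG lam f j T' y' +
      lamU lam f j T' * (fnG lam f j T' x' * fnG lam f j T' y') := by
  unfold fnG
  rw [chk_mul, ← lamOf_map]
  exact tOf_mul lam f _ _

theorem fnG_inj (T' : Over U) : Function.Injective (fnG lam f j T') := by
  intro x' y' h
  exact chk_injective j x' y' (tOf_inj lam f _ _ h)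

theorem fnG_surj (T' : Over U) (r : Γ(T'.left, ⊤))
    (hr : IsUnit (1 + lamU lam f j T' * r)) :
    ∃ x' : T' ⟶ Red.bc j (Red.bc f (SekSuwa.G R lam)), fnG lam f j T' x' = r := by
  rw [← lamOf_map] at hr
  obtain ⟨y, hy⟩ := tOf_surj lam f (X' := (Over.map j).obj T') r hr
  obtain ⟨x', hx'⟩ := chk_surjective j y
  refine ⟨x', ?_⟩
  unfold fnG
  rw [hx']
  exact hy

theorem isUnit_fnG (T' : Over U) (x' : T' ⟶ Red.bc j (Red.bc f (SekSuwa.G R lam))) :
    IsUnit (1 + lamU lam f j T' * fnG lam f j T' x') := by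
  rw [← lamOf_map]
  exact isUnit_tOf lam f (X' := (Over.map j).obj T') (chk j x')

end Chart

end Groth.Agent.Lib.GlamH4
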