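import Mathlib
import Groth.Agent.Lib.GlamC_helper4
import Groth.Agent.Lib.GmTorsC_helper4

/-!
# fpqc torsors under the group `G^(λ)` (law `s + t + λ s t`), part D (helper4)

`main14684`: over a flat `R`-scheme (`λ` a non-zero-divisor of `R`), every fpqc torsor under
`G^(λ)` is Zariski-locally trivial.
-/

set_option autoImplicit false
set_option linter.style.haveILetI false
set_option linter.unusedSectionVars false
universe u
open CategoryTheory CategoryTheory.Limits AlgebraicGeometry MonoidalCategory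
  CartesianMonoidalCategory MonObj TensorProduct

namespace Groth.Agent.Lib.GlamH4

open SchFpqcCovH7 Groth.Agent.Lib.MultGa Groth.Agent.Lib.RedDictH8 Groth.Agent.Lib.GaTorsH4
  Groth.Agent.Lib.GmTorsH4 SekSuwa

section Local

variable {R : Type u} [CommRing R] (lam : R) {X : Scheme.{u}} (f : X ⟶ Spec (CommRingCat.of R))
  {K : Type u} [CommRing K] (j : Spec (CommRingCat.of K) ⟶ X)

/-- `λ` as an element of the coordinate ring of an affine chart -/
noncomputable def lamK : K := (Spec.preimage (j ≫ f)).hom lam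

theorem lamU_eq (T : Over (Spec (CommRingCat.of K))) :
    lamU lam f j T = ev (B := CommRingCat.of K) T.hom (lamK lam f j) := by
  unfold lamU lamK
  rw [← ev_comp_specMap, Spec.map_preimage]

theorem fnG_mulF (T : Over (Spec (CommRingCat.of K)))
    (x y : T ⟶ Red.bc j (Red.bc f (SekSuwa.G R lam))) :
    fnG lam f j T (x * y) = fnG lam f j T x + fnG lam f j T y +
      ev (B := CommRingCat.of K) T.hom (lamK lam f j) * (fnG lam f j T x * fnG lam f j T y) := by
  rw [← lamU_eq]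
  exact fnG_mul lam f j T x y

theorem isUnit_fnB (B : Type u) [CommRing B] [Algebra K B]
    (x : SpO K B ⟶ Red.bc j (Red.bc f (SekSuwa.G R lam))) :
    IsUnit (1 + lamK lam f j • fnB (fnG lam f j) B x) := by
  have h := (isUnit_fnG lam f j (SpO K B) x).map (Scheme.ΓSpecIso (CommRingCat.of B)).hom.hom
  rw [map_add, map_one, map_mul, lamU_eq, iso_ev_hom, ← Algebra.smul_def] at h
  exact h

theorem fnB_surj_unit (B : Type u) [CommRing B] [Algebra K B] (b : B)
    (hb : IsUnit (1 + lamK lam f j • b)) :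
    ∃ x : SpO K B ⟶ Red.bc j (Red.bc f (SekSuwa.G R lam)), fnB (fnG lam f j) B x = b := by
  have h := hb.map (Scheme.ΓSpecIso (CommRingCat.of B)).inv.hom
  rw [Algebra.smul_def, map_add, map_one, map_mul, iso_inv_algebraMap, ← lamU_eq] at h
  obtain ⟨x, hx⟩ := fnG_surj lam f j (SpO K B) _ h
  refine ⟨x, ?_⟩
  unfold fnB
  rw [hx]
  simp

end Local

section Cocycle

variable {K : Type u} [CommRing K] {G X : Over (Spec (CommRingCat.of K))} [GrpObj G]
  (a : AlgGrp.Action G X)
  (fn : ∀ T : Over (Spec (CommRingCat.of K)), (T ⟶ G) → Γ(T.left, ⊤)) (lamK : K)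

theorem cocycle_pt (ha : NonAbH1.IsPseudoTorsorSch a)
    (C : Type u) [CommRing C] [Algebra K C] (x₀ : SpO K C ⟶ X)
    (g₂ : SpO K (C ⊗[K] C) ⟶ G) (hg₂ : lift g₂ (pR K C ≫ x₀) ≫ a.act = pL K C ≫ x₀) :
    spMap K (d1 (K := K) (C := C)) ≫ g₂ =
      (spMap K (d2 (K := K) (C := C)) ≫ g₂) * (spMap K (d0 (K := K) (C := C)) ≫ g₂) := by
  have h00 : spMap K (d0 (K := K) (C := C)) ≫ pL K C = spMap K (d2 (K := K) (C := C)) ≫ pR K C := by
    unfold pL pR
    rw [spMap_comp, spMap_comp]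
    congr 1
  have h01 : spMap K (d0 (K := K) (C := C)) ≫ pR K C = spMap K (d1 (K := K) (C := C)) ≫ pR K C := by
    unfold pR
    rw [spMap_comp, spMap_comp]
    congr 1
  have h10 : spMap K (d1 (K := K) (C := C)) ≫ pL K C = spMap K (d2 (K := K) (C := C)) ≫ pL K C := by
    unfold pL
    rw [spMap_comp, spMap_comp]
    congr 1
  exact cocycle_of_point a ha (pL K C) (pR K C) (spMap K d0) (spMap K d1) (spMap K d2)
    h00 h01 h10 x₀ g₂ hg₂

theorem one_add_smul_mul {E : Type u} [CommRing E] [Algebra K E] (A B : E) :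
    1 + lamK • (A + B + lamK • (A * B)) = (1 + lamK • A) * (1 + lamK • B) := by
  simp only [Algebra.smul_def]
  ring

theorem cocycle_lam (ha : NonAbH1.IsPseudoTorsorSch a)
    (hcomp : ∀ (T' T : Over (Spec (CommRingCat.of K))) (t : T' ⟶ T) (x : T ⟶ G),
      fn T' (t ≫ x) = t.left.appTop.hom (fn T x))
    (hmulF : ∀ (T : Over (Spec (CommRingCat.of K))) (x y : T ⟶ G),
      fn T (x * y) = fn T x + fn T y + ev (B := CommRingCat.of K) T.hom lamK * (fn T x * fn T y))
    (C : Type u) [CommRing C] [Algebra K C] (x₀ : SpO K C ⟶ X)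
    (g₂ : SpO K (C ⊗[K] C) ⟶ G) (hg₂ : lift g₂ (pR K C ≫ x₀) ≫ a.act = pL K C ≫ x₀) :
    d1 (1 + lamK • fnB fn (C ⊗[K] C) g₂) =
      d2 (1 + lamK • fnB fn (C ⊗[K] C) g₂) * d0 (1 + lamK • fnB fn (C ⊗[K] C) g₂) := by
  have h := congrArg (fnB fn (C ⊗[K] (C ⊗[K] C))) (cocycle_pt a ha C x₀ g₂ hg₂)
  rw [fnB_mulF fn lamK hmulF, fnB_spMap fn hcomp, fnB_spMap fn hcomp, fnB_spMap fn hcomp] at h
  rw [map_add, map_add, map_add, map_one, map_one, map_one, map_smul, map_smul, map_smul, h]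
  exact one_add_smul_mul lamK _ _

end Cocycle

section Main

variable {R : Type u} [CommRing R] (lam : R) {X : Scheme.{u}} (f : X ⟶ Spec (CommRingCat.of R))

theorem hasSection_local_lam {K : Type u} [CommRing K] (j : Spec (CommRingCat.of K) ⟶ X)
    (P : Over X) (a : AlgGrp.Action (Red.bc f (SekSuwa.G R lam)) P)
    (h : NonAbH1.IsTorsorFor Scheme.fpqcPrecoverage a)
    (hnzd : lamK lam f j ∈ nonZeroDivisors K) (𝔭 : PrimeSpectrum K) :
    ∃ f' : K, f' ∉ 𝔭.asIdeal ∧ NonAbH1.HasSectionOver P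
      (Spec.map (CommRingCat.ofHom (algebraMap K (Localization.Away f'))) ≫ j) := by
  have hbc := NonAbH1.isTorsorFor_bc j Scheme.fpqcPrecoverage h
  obtain ⟨C, instC, instA, hff, hcov, x, hx⟩ := exists_ff_cover hbc.2
  obtain ⟨x₀, hx₀⟩ : ∃ x₀ : SpO K C ⟶ Red.bc j P, x₀ = Over.homMk x hx := ⟨_, rfl⟩
  obtain ⟨g₂, hg₂⟩ := exists_diff (a.bc j) hbc.1 (pR K C ≫ x₀) (pL K C ≫ x₀)
  obtain ⟨τ, hτ⟩ : ∃ τ : C ⊗[K] C, τ = fnB (fnG lam f j) (C ⊗[K] C) g₂ := ⟨_, rfl⟩
  have hu : IsUnit (1 + lamK lam f j • τ) := by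
    rw [hτ]
    exact isUnit_fnB lam f j _ g₂
  have hcoc : d1 (1 + lamK lam f j • τ) = d2 (1 + lamK lam f j • τ) * d0 (1 + lamK lam f j • τ) := by
    rw [hτ]
    exact cocycle_lam (a.bc j) (fnG lam f j) (lamK lam f j) hbc.1 (fnG_comp lam f j)
      (fnG_mulF lam f j) C x₀ g₂ hg₂
  obtain ⟨f', l, ε, hfn, hf', hrel, hone, hunit⟩ :=
    exists_normalised (lamK lam f j) τ hu hcoc 𝔭
  obtain ⟨hh, hhh⟩ := fnB_surj_unit lam f j (Localization.Away f' ⊗[K] C) hfn hunit
  have hcov' : IsCov (spMap K (Algebra.TensorProduct.includeLeft :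
      Localization.Away f' →ₐ[K] Localization.Away f' ⊗[K] C)).left := by
    have hpb := (isPullback_SpecMap_of_isPushout _ _ _ _
      (CommRingCat.isPushout_tensorProduct K (Localization.Away f') C)).flip
    exact IsCov.of_isPullback hpb hcov
  have hreg : IsSMulRegular (DD K (Localization.Away f') C) (lamK lam f j) := by
    haveI : Module.Flat K (DD K (Localization.Away f') C) :=
      Module.Flat.trans K (Localization.Away f') (DD K (Localization.Away f') C)
    exact Module.Flat.isSMulRegular_of_nonZeroDivisors (M := DD K (Localization.Away f') C) hnzd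
  obtain ⟨σ⟩ := core_lam (a.bc j) (fnG lam f j) (lamK lam f j) (fnG_comp lam f j)
    (fnG_mulF lam f j) (fnG_inj lam f j) C x₀ g₂ hg₂ (Localization.Away f') hcov' hh l ε
    (by rw [hhh]; exact hone) (by rw [← hτ]; exact hrel) hreg
  refine ⟨f', hf', σ.left ≫ pullback.fst _ _, ?_⟩
  have hσ : σ.left ≫ pullback.snd P.hom j =
      Spec.map (CommRingCat.ofHom (algebraMap K (Localization.Away f'))) := Over.w σ
  rw [Category.assoc, pullback.condition, ← Category.assoc, hσ]

theorem lamK_mem_nonZeroDivisors [IsDomain R] (hlam : lam ≠ 0) {K : Type u} [CommRing K]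
    (j : Spec (CommRingCat.of K) ⟶ X) [Flat (j ≫ f)] : lamK lam f j ∈ nonZeroDivisors K := by
  obtain ⟨φ, hφ⟩ : ∃ φ : CommRingCat.of R ⟶ CommRingCat.of K, φ = Spec.preimage (j ≫ f) := ⟨_, rfl⟩
  have hfl : Flat (Spec.map φ) := by
    rw [hφ, Spec.map_preimage]
    infer_instance
  have h1 : φ.hom.Flat := (HasRingHomProperty.Spec_iff (P := @Flat)).1 hfl
  letI : Algebra R K := φ.hom.toAlgebra
  haveI : Module.Flat R K := h1
  have hreg : IsSMulRegular K lam :=
    Module.Flat.isSMulRegular_of_nonZeroDivisors (mem_nonZeroDivisors_of_ne_zero hlam)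
  have hmul : ∀ x : K, lamK lam f j * x = 0 → x = 0 := by
    intro x hx
    apply hreg
    change lam • x = lam • (0 : K)
    rw [smul_zero, Algebra.smul_def]
    change φ.hom lam * x = 0
    rw [hφ]
    exact hx
  rw [mem_nonZeroDivisors_iff]
  exact ⟨hmul, fun x hx => hmul x ((mul_comm _ _).trans hx)⟩

theorem main14684 [IsDomain R] (hlam : lam ≠ 0) [Flat f]
    (P : Over X) (a : AlgGrp.Action (Red.bc f (SekSuwa.G R lam)) P)
    (hP : NonAbH1.IsTorsorFor Scheme.fppfPrecoverage a) :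
    NonAbH1.IsTorsorFor Scheme.zariskiPrecoverage a := by
  have h : NonAbH1.IsTorsorFor Scheme.fpqcPrecoverage a := by
    obtain ⟨h1, Rr, hR, hsec⟩ := hP
    exact ⟨h1, Rr, Scheme.fppfPrecoverage_le_fpqcPrecoverage _ hR, hsec⟩
  have key0 : ∀ (K : CommRingCat.{u}) (j : Spec K ⟶ X) (_ : IsOpenImmersion j) (y : Spec K),
      ∃ (W : Scheme.{u}) (g : W ⟶ X), IsOpenImmersion g ∧
        j y ∈ Set.range g ∧ NonAbH1.HasSectionOver P g := by
    intro K j hj y
    haveI : Flat (j ≫ f) := inferInstance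
    have hnzd := lamK_mem_nonZeroDivisors lam f hlam (K := K) j
    obtain ⟨f', hf', hsec⟩ := hasSection_local_lam lam f (K := K) j P a h hnzd y
    refine ⟨_, Spec.map (CommRingCat.ofHom (algebraMap K (Localization.Away f'))) ≫ j,
      inferInstance, ?_, hsec⟩
    have hrange := PrimeSpectrum.localization_away_comap_range (Localization.Away f') f'
    have hy : y ∈ Set.range (PrimeSpectrum.comap (algebraMap K (Localization.Away f'))) := by
      rw [hrange]
      exact hf'
    obtain ⟨y', hy'⟩ := hy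
    refine ⟨y', ?_⟩
    rw [Scheme.Hom.comp_apply]
    congr 1
  have key : ∀ s : X, ∃ (W : Scheme.{u}) (g : W ⟶ X), IsOpenImmersion g ∧
      s ∈ Set.range g ∧ NonAbH1.HasSectionOver P g := by
    intro s
    obtain ⟨y, hy⟩ := X.affineCover.covers s
    obtain ⟨W, g, h1, h2, h3⟩ := key0 _ (X.affineCover.f (X.affineCover.idx s))
      (X.affineCover.map_prop _) y
    exact ⟨W, g, h1, hy ▸ h2, h3⟩
  choose W g hopen hmem hsec using key
  refine ⟨h.1, Presieve.ofArrows W g, ?_, ?_⟩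
  · rw [Scheme.ofArrows_mem_precoverage_iff]
    exact ⟨fun s => ⟨s, hmem s⟩, hopen⟩
  · rintro S' f ⟨s⟩
    exact hsec s

end Main

end Groth.Agent.Lib.GlamH4
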