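import Mathlib

/-!
# Gleason covers: minimal extremally disconnected covers of compact Hausdorff spaces (lead)
-/

open Set Function

namespace Groth.Agent.Gleason

universe u

/-- a discrete copy of a type -/
def Disc (X : Type u) : Type u := X

instance (X : Type u) : TopologicalSpace (Disc X) := ⊥

instance (X : Type u) : DiscreteTopology (Disc X) := ⟨rfl⟩

/-- An endomorphism of an irreducible cover over the base is the identity. -/
theorem eq_id_of_irreducible {E A : Type*} [TopologicalSpace E] [T2Space E]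
    {p : E → A} (hmin : ∀ E₀ : Set E, IsClosed E₀ → E₀ ≠ univ → p '' E₀ ≠ univ)
    {f : E → E} (hf : Continuous f) (hpf : ∀ e, p (f e) = p e) (hp : Surjective p) : f = id := by
  funext e
  by_contra hne
  obtain ⟨G₂, G₁, hG₂, hG₁, he₂, he₁, hdisj⟩ := t2_separation hne
  have hGo : IsOpen (G₁ ∩ f ⁻¹' G₂) := hG₁.inter (hG₂.preimage hf)
  have heG : e ∈ G₁ ∩ f ⁻¹' G₂ := ⟨he₁, he₂⟩
  apply hmin (G₁ ∩ f ⁻¹' G₂)ᶜ hGo.isClosed_compl
  · intro h
    have : e ∈ (G₁ ∩ f ⁻¹' G₂)ᶜ := by rw [h]; trivial
    exact this heG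
  · apply eq_univ_of_forall
    intro x
    obtain ⟨e', rfl⟩ := hp x
    by_cases he' : e' ∈ G₁ ∩ f ⁻¹' G₂
    · refine ⟨f e', ?_, hpf e'⟩
      intro hfe'
      exact Set.disjoint_left.mp hdisj he'.2 hfe'.1
    · exact ⟨e', he', rfl⟩

theorem projective_of_retract {D E : Type u} [TopologicalSpace D] [TopologicalSpace E]
    (hD : CompactT2.Projective D) (i : E → D) (r : D → E) (hi : Continuous i) (hr : Continuous r)
    (hri : ∀ e, r (i e) = e) : CompactT2.Projective E := by
  intro Y Z _ _ _ _ _ _ f g hf hg hgs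
  obtain ⟨h, hh, hgh⟩ := hD (hf.comp hr) hg hgs
  refine ⟨h ∘ i, hh.comp hi, ?_⟩
  funext e
  have := congrFun hgh (i e)
  simp only [comp_apply] at this ⊢
  rw [this, hri]

theorem exists_cover (X : Type u) [TopologicalSpace X] [CompactSpace X] [T2Space X] :
    ∃ (X' : Type u) (_ : TopologicalSpace X') (_ : CompactSpace X') (_ : T2Space X')
      (_ : ExtremallyDisconnected X') (p : X' → X), Continuous p ∧ Function.Surjective p ∧
      ∀ E : Set X', IsClosed E → E ≠ Set.univ → p '' E ≠ Set.univ := by
  let f : Disc X → X := fun x => x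
  have hf : Continuous f := continuous_of_discreteTopology
  have hπ : Continuous (stoneCechExtend hf) := continuous_stoneCechExtend hf
  have hπs : Surjective (stoneCechExtend hf) := fun x =>
    ⟨stoneCechUnit (x : Disc X), stoneCechExtend_stoneCechUnit hf x⟩
  obtain ⟨E, hEc, hEonto, hEmin⟩ := exists_compact_surjective_zorn_subset hπ hπs
  have hp : Continuous (E.domRestrict (stoneCechExtend hf)) := hπ.continuousOn.domRestrict
  have hps : Surjective (E.domRestrict (stoneCechExtend hf)) := fun a => by
    rcases (hEonto ▸ mem_univ a : a ∈ stoneCechExtend hf '' E) with ⟨d, hd, rfl⟩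
    exact ⟨⟨d, hd⟩, rfl⟩
  have hD : CompactT2.Projective (StoneCech (Disc X)) := StoneCech.projective
  obtain ⟨r, hr, hpr⟩ := hD hπ hp hps
  have hmin' : ∀ E₀ : Set E, IsClosed E₀ → E₀ ≠ univ →
      E.domRestrict (stoneCechExtend hf) '' E₀ ≠ univ := fun E₀ h1 h2 => hEmin E₀ h2 h1
  have hri : r ∘ (Subtype.val : E → StoneCech (Disc X)) = id :=
    eq_id_of_irreducible hmin' (hr.comp continuous_subtype_val)
      (fun e => congrFun hpr e.1) hps
  have hproj : CompactT2.Projective E :=
    projective_of_retract hD Subtype.val r continuous_subtype_val hr (fun e => congrFun hri e)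
  exact ⟨E, inferInstance, hEc, inferInstance, hproj.extremallyDisconnected,
    E.domRestrict (stoneCechExtend hf), hp, hps, hmin'⟩

theorem cover_unique {X X' X'' : Type u} [TopologicalSpace X] [CompactSpace X] [T2Space X]
    [TopologicalSpace X'] [CompactSpace X'] [T2Space X'] [ExtremallyDisconnected X']
    [TopologicalSpace X''] [CompactSpace X''] [T2Space X''] [ExtremallyDisconnected X'']
    (p : X' → X) (q : X'' → X) (hp : Continuous p) (hps : Surjective p)
    (hpm : ∀ E : Set X', IsClosed E → E ≠ univ → p '' E ≠ univ)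
    (hq : Continuous q) (hqs : Surjective q)
    (hqm : ∀ E : Set X'', IsClosed E → E ≠ univ → q '' E ≠ univ) :
    ∃ h : X' ≃ₜ X'', q ∘ h = p := by
  obtain ⟨h, hh, hqh⟩ := (CompactT2.ExtremallyDisconnected.projective (A := X')) hp hq hqs
  obtain ⟨h', hh', hph'⟩ := (CompactT2.ExtremallyDisconnected.projective (A := X'')) hq hp hps
  have e1 : h' ∘ h = id := eq_id_of_irreducible hpm (hh'.comp hh)
    (fun x => by
      have a := congrFun hph' (h x)
      have b := congrFun hqh x
      simp only [comp_apply] at a b ⊢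
      rw [a, b]) hps
  have e2 : h ∘ h' = id := eq_id_of_irreducible hqm (hh.comp hh')
    (fun x => by
      have a := congrFun hqh (h' x)
      have b := congrFun hph' x
      simp only [comp_apply] at a b ⊢
      rw [a, b]) hqs
  exact ⟨⟨⟨h, h', congrFun e1, congrFun e2⟩, hh, hh'⟩, hqh⟩

end Groth.Agent.Gleason
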