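import Mathlib

/-!
# Kernel of the right leg of a flat pushout of rings (helper3)
-/

universe u

open TensorProduct CategoryTheory

namespace Groth.Agent.Lib.PushoutKerH3

theorem mem_map_of_tmul_eq_zero (R R₀ T : Type u) [CommRing R] [CommRing R₀] [CommRing T]
    [Algebra R R₀] [Algebra R T] [Module.Flat R T] (t : T)
    (h : (1 : R₀) ⊗ₜ[R] t = 0) :
    t ∈ (RingHom.ker (algebraMap R R₀)).map (algebraMap R T) := by
  set J : Ideal R := RingHom.ker (algebraMap R R₀) with hJ
  let ι : (R ⧸ J) →ₗ[R] R₀ :=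
    (Ideal.Quotient.liftₐ J (Algebra.ofId R R₀) (fun a ha => ha)).toLinearMap
  have hι : Function.Injective ι := by
    intro x y hxy
    obtain ⟨a, rfl⟩ := Ideal.Quotient.mk_surjective x
    obtain ⟨b, rfl⟩ := Ideal.Quotient.mk_surjective y
    have h1 : algebraMap R R₀ a = algebraMap R R₀ b := hxy
    rw [Ideal.Quotient.eq, hJ, RingHom.mem_ker, map_sub, h1, sub_self]
  have hinj := Module.Flat.rTensor_preserves_injective_linearMap (M := T) ι hι
  have h1 : (ι.rTensor T) ((1 : R ⧸ J) ⊗ₜ[R] t) = 0 := by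
    rw [LinearMap.rTensor_tmul]
    have : ι 1 = 1 := map_one (Ideal.Quotient.liftₐ J (Algebra.ofId R R₀) (fun a ha => ha))
    rw [this, h]
  have h2 : ((1 : R ⧸ J) ⊗ₜ[R] t) = 0 := hinj (h1.trans (map_zero _).symm)
  have h3 := congrArg (TensorProduct.quotTensorEquivQuotSMul T J) h2
  rw [map_zero] at h3
  have h4 : TensorProduct.quotTensorEquivQuotSMul T J ((1 : R ⧸ J) ⊗ₜ[R] t) =
      Submodule.Quotient.mk ((1 : R) • t) :=
    TensorProduct.quotTensorEquivQuotSMul_mk_tmul J 1 t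
  rw [h4, one_smul, Submodule.Quotient.mk_eq_zero, Ideal.smul_top_eq_map] at h3
  exact h3

theorem mem_map_ker_of_isPushout {R R₀ R' P : CommRingCat.{u}} (a : R ⟶ R₀) (c : R ⟶ R')
    (inl : R₀ ⟶ P) (inr : R' ⟶ P) (h : IsPushout a c inl inr) (hflat : c.hom.Flat)
    (t : R') (ht : inr.hom t = 0) :
    t ∈ (RingHom.ker a.hom).map c.hom := by
  letI : Algebra R R₀ := a.hom.toAlgebra
  letI : Algebra R R' := c.hom.toAlgebra
  letI : Algebra R₀ P := inl.hom.toAlgebra
  letI : Algebra R' P := inr.hom.toAlgebra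
  letI : Algebra R P := (a ≫ inl).hom.toAlgebra
  haveI : IsScalarTower R R₀ P := IsScalarTower.of_algebraMap_eq fun _ => rfl
  haveI : IsScalarTower R R' P := IsScalarTower.of_algebraMap_eq fun x => by
    show (a ≫ inl).hom x = (c ≫ inr).hom x
    rw [h.w]
  haveI : Module.Flat R R' := hflat
  have h' : IsPushout (CommRingCat.ofHom (algebraMap R R₀)) (CommRingCat.ofHom (algebraMap R R'))
      (CommRingCat.ofHom (algebraMap R₀ P)) (CommRingCat.ofHom (algebraMap R' P)) := h
  haveI : Algebra.IsPushout R R₀ R' P := CommRingCat.isPushout_iff_isPushout.1 h'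
  have h1 : (Algebra.IsPushout.equiv R R₀ R' P) ((1 : R₀) ⊗ₜ[R] t) = 0 := by
    rw [Algebra.IsPushout.equiv_tmul, map_one, one_mul]
    exact ht
  have h2 : ((1 : R₀) ⊗ₜ[R] t) = 0 :=
    (Algebra.IsPushout.equiv R R₀ R' P).injective (h1.trans (map_zero _).symm)
  exact mem_map_of_tmul_eq_zero R R₀ R' t h2

end Groth.Agent.Lib.PushoutKerH3
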