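import Mathlib
import Groth.Agent.Lib.SchemeIdem_helper3
import Groth.Agent.Lib.PushoutKer_helper3
import Groth.Agent.Lib.HenselPair_lead

/-!
# Henselian couples of qcqs schemes give henselian pairs of global sections (helper3)
-/

universe u

open AlgebraicGeometry CategoryTheory Limits TopologicalSpace Polynomial

namespace Groth.Agent.Lib.HensCoupleH3

variable {X X₀ : Scheme.{u}} (i : X₀ ⟶ X)

/-- The couple condition. -/
def Couple : Prop :=
  ∀ (Y : Scheme.{u}) (g : Y ⟶ X), IsFinite g →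
    ∀ V : Set ↥(pullback g i), IsClopen V →
      ∃! U : Set ↥Y, IsClopen U ∧ (pullback.fst g i).base ⁻¹' U = V

theorem isUnit_of_basicOpen_eq_top (u : Γ(X, ⊤)) (h : X.basicOpen u = ⊤) : IsUnit u := by
  have hunit := X.toRingedSpace.isUnit_res_basicOpen u
  have hiso : IsIso (X.presheaf.map (homOfLE (X.basicOpen_le u)).op) := by
    have : homOfLE (X.basicOpen_le u) = eqToHom h := Subsingleton.elim _ _
    rw [this]
    infer_instance
  have h2 := hunit.map (inv (X.presheaf.map (homOfLE (X.basicOpen_le u)).op)).hom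
  have h3 : (inv (X.presheaf.map (homOfLE (X.basicOpen_le u)).op)).hom
      ((X.presheaf.map (homOfLE (X.basicOpen_le u)).op).hom u) = u := by
    rw [← CommRingCat.comp_apply, IsIso.hom_inv_id]
    rfl
  rw [← h3]
  exact h2

theorem isUnit_one_add (hX : Couple i) (s : Γ(X, ⊤)) (hs : i.appTop.hom s = 0) :
    IsUnit (1 + s) := by
  set u : Γ(X, ⊤) := 1 + s with hu
  let Z : TopologicalSpace.Closeds X :=
    ⟨(X.basicOpen u : Set X)ᶜ, (X.basicOpen u).2.isClosed_compl⟩
  let I := Scheme.IdealSheafData.vanishingIdeal Z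
  have hrange : Set.range I.subschemeι = (X.basicOpen u : Set X)ᶜ := by
    rw [Scheme.IdealSheafData.range_subschemeι, Scheme.IdealSheafData.coe_support_vanishingIdeal]
    rfl
  have hpre : i ⁻¹ᵁ X.basicOpen u = ⊤ := by
    rw [Scheme.preimage_basicOpen_top, hu, map_add, map_one]
    have : i.appTop s = 0 := hs
    rw [this, add_zero, Scheme.basicOpen_one]
  have hempty : IsEmpty ↥(pullback I.subschemeι i) := by
    constructor
    intro z
    have h1 : I.subschemeι ((pullback.fst I.subschemeι i) z) = i ((pullback.snd I.subschemeι i) z) := by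
      have := congrArg (fun h : pullback I.subschemeι i ⟶ X => h z)
        (pullback.condition (f := I.subschemeι) (g := i))
      simpa using this
    have h2 : I.subschemeι ((pullback.fst I.subschemeι i) z) ∈ (X.basicOpen u : Set X)ᶜ := by
      rw [← hrange]; exact Set.mem_range_self _
    have h3 : i ((pullback.snd I.subschemeι i) z) ∈ X.basicOpen u := by
      have hm : (pullback.snd I.subschemeι i) z ∈ i ⁻¹ᵁ X.basicOpen u := by rw [hpre]; trivial
      exact hm
    exact h2 (h1 ▸ h3)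
  obtain ⟨U, -, hU⟩ := hX I.subscheme I.subschemeι inferInstance ∅ isClopen_empty
  have e1 : (∅ : Set I.subscheme) = U := hU ∅ ⟨isClopen_empty, Set.preimage_empty⟩
  have e2 : (Set.univ : Set I.subscheme) = U :=
    hU Set.univ ⟨isClopen_univ, Set.eq_empty_of_isEmpty _⟩
  have hYempty : IsEmpty I.subscheme := by
    constructor
    intro y
    have : y ∈ (∅ : Set I.subscheme) := by rw [e1, ← e2]; trivial
    exact this
  have htop : X.basicOpen u = ⊤ := by
    apply Opens.ext
    have : (X.basicOpen u : Set X)ᶜ = ∅ := by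
      rw [← hrange]
      exact Set.range_eq_empty _
    rw [Set.compl_empty_iff] at this
    exact this
  exact isUnit_of_basicOpen_eq_top u htop

theorem le_jacobson (hX : Couple i) :
    RingHom.ker i.appTop.hom ≤ Ideal.jacobson (⊥ : Ideal Γ(X, ⊤)) := by
  intro s hs
  rw [Ideal.mem_jacobson_bot]
  intro y
  have h1 : s * y ∈ RingHom.ker i.appTop.hom := Ideal.mul_mem_right _ _ hs
  have := isUnit_one_add i hX (s * y) (RingHom.mem_ker.1 h1)
  rwa [add_comm] at this

theorem isPushout_appTop {W P : Scheme.{u}} [CompactSpace W] [QuasiSeparatedSpace W]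
    {R R' : CommRingCat.{u}} (φ : R ⟶ R') (hφ : φ.hom.Flat) (w : W ⟶ Spec R)
    (g' : P ⟶ W) (iY' : P ⟶ Spec R') (H : IsPullback g' iY' w (Spec.map φ)) :
    IsPushout ((Scheme.ΓSpecIso R).inv ≫ w.appTop) φ g'.appTop
      ((Scheme.ΓSpecIso R').inv ≫ iY'.appTop) := by
  haveI : Flat (Spec.map φ) := Flat.SpecMap_iff.2 hφ
  have h1 := isIso_pushoutSection_of_isQuasiSeparated_of_flat_right H
    (US := ⊤) (UT := ⊤) (UX := ⊤) (UY := ⊤) (by simp) (by simp) (by simp)
    (isAffineOpen_top _) (isAffineOpen_top _) CompactSpace.isCompact_univ isQuasiSeparated_univ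
  have h2 := (isIso_pushoutSection_iff H _ _ _).1 h1
  have h3 : IsPushout w.appTop (Spec.map φ).appTop g'.appTop iY'.appTop := by
    convert h2 using 1 <;> exact Scheme.Hom.app_eq_appLE _
  refine h3.of_iso (Scheme.ΓSpecIso R) (Iso.refl _) (Scheme.ΓSpecIso R') (Iso.refl _) ?_ ?_ ?_ ?_
  · simp
  · exact Scheme.ΓSpecIso_naturality φ
  · simp
  · simp

set_option maxHeartbeats 800000 in
theorem surjOn_idem [IsClosedImmersion i] [CompactSpace X] [QuasiSeparatedSpace X]
    (hX : Couple i) (p : Polynomial Γ(X, ⊤)) (hp : p.Monic) :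
    Set.SurjOn (Ideal.Quotient.mk
        (Ideal.map (algebraMap Γ(X, ⊤) (AdjoinRoot p)) (RingHom.ker i.appTop.hom)))
      {e : AdjoinRoot p | IsIdempotentElem e} {e | IsIdempotentElem e} := by
  let R : CommRingCat.{u} := Γ(X, ⊤)
  let R' : CommRingCat.{u} := CommRingCat.of (AdjoinRoot p)
  let φ : R ⟶ R' := CommRingCat.ofHom (algebraMap Γ(X, ⊤) (AdjoinRoot p))
  haveI : Module.Finite Γ(X, ⊤) (AdjoinRoot p) := hp.finite_adjoinRoot
  haveI : Module.Free Γ(X, ⊤) (AdjoinRoot p) := hp.free_adjoinRoot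
  have hφflat : φ.hom.Flat := RingHom.flat_algebraMap_iff.2 inferInstance
  have hφfin : φ.hom.Finite := RingHom.finite_algebraMap.2 inferInstance
  let f := Spec.map φ
  haveI : IsFinite f := (IsFinite.SpecMap_iff φ).2 hφfin
  let g := pullback.fst X.toSpecΓ f
  let iY := pullback.snd X.toSpecΓ f
  haveI : IsFinite g := inferInstance
  have H : IsPullback g iY X.toSpecΓ f := IsPullback.of_hasPullback _ _
  have hP := isPushout_appTop φ hφflat X.toSpecΓ g iY H
  have hleft : (Scheme.ΓSpecIso R).inv ≫ X.toSpecΓ.appTop = 𝟙 R := by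
    rw [Scheme.toSpecΓ_appTop]; exact Iso.inv_hom_id _
  rw [hleft] at hP
  let β' : R' ⟶ Γ(pullback X.toSpecΓ f, ⊤) := (Scheme.ΓSpecIso R').inv ≫ iY.appTop
  haveI : IsIso β' := hP.isIso_inr_of_isIso
  have hβ : Function.Bijective β'.hom := ConcreteCategory.bijective_of_isIso β'
  -- second square
  let fst := pullback.fst g i
  let snd := pullback.snd g i
  haveI : CompactSpace X₀ := QuasiCompact.compactSpace_of_compactSpace i
  haveI : QuasiSeparatedSpace X₀ := quasiSeparatedSpace_of_quasiSeparated i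
  have H₀ : IsPullback snd (fst ≫ iY) (i ≫ X.toSpecΓ) f :=
    ((IsPullback.of_hasPullback g i).paste_horiz H.flip).flip
  have hP₀ := isPushout_appTop φ hφflat (i ≫ X.toSpecΓ) snd (fst ≫ iY) H₀
  have hleft₀ : (Scheme.ΓSpecIso R).inv ≫ (i ≫ X.toSpecΓ).appTop = i.appTop := by
    rw [Scheme.Hom.comp_appTop, Scheme.toSpecΓ_appTop, Iso.inv_hom_id_assoc]
  rw [hleft₀] at hP₀
  let β₀' : R' ⟶ Γ(pullback g i, ⊤) := (Scheme.ΓSpecIso R').inv ≫ (fst ≫ iY).appTop
  have hβ₀ : β₀' = β' ≫ fst.appTop := by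
    simp only [β₀', β', Scheme.Hom.comp_appTop, Category.assoc]
  have hF2 : ∀ t : AdjoinRoot p, β₀'.hom t = 0 →
      t ∈ (RingHom.ker i.appTop.hom).map (algebraMap Γ(X, ⊤) (AdjoinRoot p)) :=
    fun t ht => Groth.Agent.Lib.PushoutKerH3.mem_map_ker_of_isPushout i.appTop φ snd.appTop β₀'
      hP₀ hφflat t ht
  have hF4 : ∀ t ∈ (RingHom.ker i.appTop.hom).map (algebraMap Γ(X, ⊤) (AdjoinRoot p)),
      β₀'.hom t = 0 := by
    have hle : (RingHom.ker i.appTop.hom).map (algebraMap Γ(X, ⊤) (AdjoinRoot p)) ≤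
        RingHom.ker β₀'.hom := by
      rw [Ideal.map_le_iff_le_comap]
      intro b hb
      rw [Ideal.mem_comap, RingHom.mem_ker]
      have h1 : (i.appTop ≫ snd.appTop).hom b = (φ ≫ β₀').hom b := by rw [hP₀.w]
      have h2 : i.appTop.hom b = 0 := RingHom.mem_ker.1 hb
      have h3 : (i.appTop ≫ snd.appTop).hom b = snd.appTop.hom (i.appTop.hom b) := rfl
      rw [h3, h2, map_zero] at h1
      exact h1.symm
    intro t ht
    exact RingHom.mem_ker.1 (hle ht)
  rintro ebar (hebar : IsIdempotentElem ebar)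
  obtain ⟨b, rfl⟩ := Ideal.Quotient.mk_surjective ebar
  have hb0 : IsIdempotentElem (β₀'.hom b) := by
    have h1 : b * b - b ∈ (RingHom.ker i.appTop.hom).map (algebraMap Γ(X, ⊤) (AdjoinRoot p)) := by
      rw [← Ideal.Quotient.eq, map_mul]
      exact hebar
    have h2 := hF4 _ h1
    rw [map_sub, map_mul, sub_eq_zero] at h2
    exact h2
  have hV₀ := Groth.Agent.Lib.SchemeIdemH3.isClopen_basicOpen (pullback g i) hb0
  obtain ⟨U, ⟨hUclopen, hUpre⟩, -⟩ := hX (pullback X.toSpecΓ f) g inferInstance _ hV₀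
  obtain ⟨eU, heU, heUU⟩ := Groth.Agent.Lib.SchemeIdemH3.exists_idem_of_isClopen _ U hUclopen
  obtain ⟨e, rfl⟩ := hβ.2 eU
  have he : IsIdempotentElem e := hβ.1 (by rw [map_mul]; exact heU)
  refine ⟨e, he, ?_⟩
  have h3 : β₀'.hom e = β₀'.hom b := by
    apply Groth.Agent.Lib.SchemeIdemH3.eq_of_basicOpen_eq (pullback g i) (he.map β₀'.hom) hb0
    have h4 : (pullback g i).basicOpen (β₀'.hom e) =
        fst ⁻¹ᵁ (pullback X.toSpecΓ f).basicOpen (β'.hom e) := by
      rw [Scheme.preimage_basicOpen_top, hβ₀]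
      rfl
    apply Opens.ext
    rw [h4]
    show fst.base ⁻¹' ((pullback X.toSpecΓ f).basicOpen (β'.hom e) : Set _) = _
    rw [heUU, hUpre]
  have h5 : e - b ∈ (RingHom.ker i.appTop.hom).map (algebraMap Γ(X, ⊤) (AdjoinRoot p)) :=
    hF2 _ (by rw [map_sub, h3, sub_self])
  exact Ideal.Quotient.eq.2 h5

theorem main [IsClosedImmersion i] [CompactSpace X] [QuasiSeparatedSpace X] (hX : Couple i) :
    HenselianRing (Γ(X, ⊤) : Type u) (RingHom.ker i.appTop.hom) :=
  Groth.Agent.Lib.HenselPair.henselian_of_idem_lift _ (le_jacobson i hX)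
    (fun _ p hp _ => surjOn_idem i hX p hp)

end Groth.Agent.Lib.HensCoupleH3
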