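import Mathlib
import Groth.Prelude
import Groth.Agent.Lib.EtaleReduced_helper7
import Groth.Agent.Lib.HensCouple_helper3
import Groth.Agent.Lib.SteinFin_helper3

/-!
# The differential kills global functions on a smooth proper scheme over a field (helper8)
APPEND-ONLY once landed.
-/

set_option autoImplicit false

universe u

open CategoryTheory CategoryTheory.Limits AlgebraicGeometry Opposite TopologicalSpace TensorProduct
open Polynomial

namespace Groth.Agent.Lib.GlobDiffH8

section Alg

/-- In a finite algebra over a field which stays reduced after base change to a perfect field,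
every element is separable. -/
theorem separable_minpoly_of_isReduced_tensor (k : Type u) [Field k] (A : Type u) [CommRing A]
    [Algebra k A] [Module.Finite k A] (K : Type u) [Field K] [Algebra k K] [PerfectField K]
    (hred : IsReduced (K ⊗[k] A)) (s : A) : (minpoly k s).Separable := by
  have hs : IsIntegral k s := Algebra.IsIntegral.isIntegral s
  set P := minpoly k s with hP
  set t : K ⊗[k] A := (1 : K) ⊗ₜ[k] s with ht
  haveI : Module.Finite K (K ⊗[k] A) := inferInstance
  have htint : IsIntegral K t := Algebra.IsIntegral.isIntegral t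
  have hpow : ∀ i : ℕ, t ^ i = (1 : K) ⊗ₜ[k] (s ^ i) := by
    intro i
    rw [ht, Algebra.TensorProduct.tmul_pow, one_pow]
  -- `P.map` kills `t`
  have hPt : aeval t (P.map (algebraMap k K)) = 0 := by
    rw [aeval_map_algebraMap]
    have h1 : aeval t P = (Algebra.TensorProduct.includeRight : A →ₐ[k] K ⊗[k] A) (aeval s P) := by
      rw [← aeval_algHom_apply]
      rfl
    rw [h1, hP, minpoly.aeval, map_zero]
  have hdvd : minpoly K t ∣ P.map (algebraMap k K) := minpoly.dvd K t hPt
  -- linear independence of the powers of `t`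
  have hli : LinearIndependent K (fun i : Fin P.natDegree => t ^ (i : ℕ)) := by
    have h1 := Module.Flat.linearIndependent_one_tmul (S := K) (linearIndependent_pow (K := k) s)
    have h2 : (fun i : Fin P.natDegree => t ^ (i : ℕ)) =
        fun i : Fin P.natDegree => (1 : K) ⊗ₜ[k] (s ^ (i : ℕ)) := funext fun i => hpow i
    rw [h2]
    exact h1
  have hdeg : P.natDegree ≤ (minpoly K t).natDegree := by
    by_contra h'
    have h := not_le.mp h'
    have h0 : aeval t (minpoly K t) = 0 := minpoly.aeval K t
    rw [Polynomial.aeval_eq_sum_range' h t, ← Fin.sum_univ_eq_sum_range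
      (fun i => (minpoly K t).coeff i • t ^ i) P.natDegree] at h0
    have h1 := Fintype.linearIndependent_iff.mp hli (fun i => (minpoly K t).coeff i) h0
    apply minpoly.ne_zero htint
    ext i
    rw [coeff_zero]
    by_cases hi : i < P.natDegree
    · exact h1 ⟨i, hi⟩
    · exact coeff_eq_zero_of_natDegree_lt (lt_of_lt_of_le h (not_lt.mp hi))
  have hPmonic : (P.map (algebraMap k K)).Monic := (minpoly.monic hs).map _
  have heq : P.map (algebraMap k K) = minpoly K t :=
    Polynomial.eq_of_monic_of_dvd_of_natDegree_le (minpoly.monic htint) hPmonic hdvd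
      (by rw [natDegree_map]; exact hdeg)
  haveI := hred
  have hsq : Squarefree (minpoly K t) :=
    (minpoly.isRadical K t).squarefree (minpoly.ne_zero htint)
  have hsep : (P.map (algebraMap k K)).Separable := by
    rw [heq]
    exact PerfectField.separable_iff_squarefree.mpr hsq
  exact (Polynomial.separable_map (algebraMap k K)).mp hsep

end Alg


section Geom

variable (k : Type u) [Field k] (X : Scheme.{u}) (f : X ⟶ Spec (CommRingCat.of k))

/-- the `k`-algebra structure on the global functions -/
noncomputable abbrev algΓ : Algebra k Γ(X, ⊤) :=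
  ((Scheme.ΓSpecIso (CommRingCat.of k)).inv ≫ f.appTop).hom.toAlgebra

/-- for `X` smooth and qcqs over `k`, the global functions stay reduced after base change to an
algebraic closure. -/
theorem isReduced_tensor_of_smooth [Smooth f] [CompactSpace X] [QuasiSeparatedSpace X] :
    letI := algΓ k X f
    IsReduced (AlgebraicClosure k ⊗[k] Γ(X, ⊤)) := by
  letI := algΓ k X f
  let K := AlgebraicClosure k
  let φ : CommRingCat.of k ⟶ CommRingCat.of K := CommRingCat.ofHom (algebraMap k K)
  have hφ : φ.hom.Flat := RingHom.flat_algebraMap_iff.2 inferInstance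
  have H : IsPullback (pullback.fst f (Spec.map φ)) (pullback.snd f (Spec.map φ)) f (Spec.map φ) :=
    IsPullback.of_hasPullback _ _
  haveI : Smooth (pullback.snd f (Spec.map φ)) :=
    MorphismProperty.of_isPullback (P := @Smooth) H inferInstance
  haveI : IsReduced (pullback f (Spec.map φ)) :=
    Groth.Agent.Lib.EtaleReduced_helper7.isReduced_of_smooth_scheme (pullback.snd f (Spec.map φ))
  have hP := Groth.Agent.Lib.HensCoupleH3.isPushout_appTop φ hφ f _ _ H
  -- compare with the tensor product
  have hT := CommRingCat.isPushout_tensorProduct k Γ(X, ⊤) K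
  have hP' : IsPushout (CommRingCat.ofHom (algebraMap k Γ(X, ⊤)))
      (CommRingCat.ofHom (algebraMap k K)) (pullback.fst f (Spec.map φ)).appTop
      ((Scheme.ΓSpecIso (CommRingCat.of K)).inv ≫ (pullback.snd f (Spec.map φ)).appTop) := hP
  let e : Γ(X, ⊤) ⊗[k] K ≃+* Γ(pullback f (Spec.map φ), ⊤) :=
    (hT.isoPushout ≪≫ hP'.isoPushout.symm).commRingCatIsoToRingEquiv
  haveI : IsReduced (Γ(X, ⊤) ⊗[k] K) := isReduced_of_injective e.toRingHom e.injective
  exact isReduced_of_injective (Algebra.TensorProduct.comm k K Γ(X, ⊤)).toRingEquiv.toRingHom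
    (Algebra.TensorProduct.comm k K Γ(X, ⊤)).injective

end Geom


section Der

variable (k : Type u) [Field k] (X : Scheme.{u}) (f : X ⟶ Spec (CommRingCat.of k))

/-- **The differential of a smooth proper `k`-scheme kills the global functions.** -/
theorem dOmega_appTop_eq_zero [IsProper f] [Smooth f] (s : Γ(X, ⊤)) :
    (OmegaSh.dOmega f).app ⊤ s = 0 := by
  letI := algΓ k X f
  haveI : CompactSpace X := QuasiCompact.compactSpace_of_compactSpace f
  haveI : QuasiSeparatedSpace X := quasiSeparatedSpace_of_quasiSeparated f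
  haveI : Module.Finite k Γ(X, ⊤) := SteinFinH3.finite_comp_of_isProper k f
  have hred := isReduced_tensor_of_smooth k X f
  have hsep := separable_minpoly_of_isReduced_tensor k Γ(X, ⊤) (AlgebraicClosure k) hred s
  -- the derivation
  letI modk : Module k Γ(Omega.sheaf f, ⊤) := Module.compHom _ (algebraMap k Γ(X, ⊤))
  haveI : IsScalarTower k Γ(X, ⊤) Γ(Omega.sheaf f, ⊤) :=
    IsScalarTower.of_algebraMap_smul fun _ _ => rfl
  have hmul : ∀ a b : Γ(X, ⊤), (OmegaSh.dOmega f).app ⊤ (a * b) =
      a • (OmegaSh.dOmega f).app ⊤ b + b • (OmegaSh.dOmega f).app ⊤ a :=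
    fun a b => OmegaSh.dSect_mul f ⊤ a b
  have hconst : ∀ c : k, (OmegaSh.dOmega f).app ⊤ (algebraMap k Γ(X, ⊤) c) = 0 :=
    fun c => OmegaSh.dSect_app f ⊤ ((Scheme.ΓSpecIso (CommRingCat.of k)).inv c)
  let L : Γ(X, ⊤) →ₗ[k] Γ(Omega.sheaf f, ⊤) :=
    { toFun := fun a => (OmegaSh.dOmega f).app ⊤ a
      map_add' := fun a b => map_add _ a b
      map_smul' := fun c a => by
        show (OmegaSh.dOmega f).app ⊤ (c • a) = algebraMap k Γ(X, ⊤) c • (OmegaSh.dOmega f).app ⊤ a
        rw [Algebra.smul_def, hmul, hconst, smul_zero, add_zero] }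
  let D : Derivation k Γ(X, ⊤) Γ(Omega.sheaf f, ⊤) := Derivation.mk' L hmul
  have h1 : D (aeval s (minpoly k s)) = aeval s (derivative (minpoly k s)) • D s :=
    Derivation.map_aeval D (minpoly k s) s
  rw [minpoly.aeval, map_zero] at h1
  obtain ⟨a, b, hab⟩ := hsep
  have h2 := congrArg (aeval s) hab
  rw [map_add, map_mul, map_mul, minpoly.aeval, mul_zero, zero_add, map_one] at h2
  show D s = 0
  calc D s = (aeval s b * aeval s (derivative (minpoly k s))) • D s := by rw [h2, one_smul]
    _ = aeval s b • (aeval s (derivative (minpoly k s)) • D s) := mul_smul _ _ _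
    _ = 0 := by rw [← h1, smul_zero]

end Der

end Groth.Agent.Lib.GlobDiffH8
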