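import Mathlib
import Groth.Prelude
import Groth.Agent.Lib.SSCollapse2_helper2
import Groth.Agent.Lib.ModLocGlob_helper2
import Groth.Agent.Lib.ExtDepth3_helper2
import Groth.Agent.Lib.ExtPd2_helper2
import Groth.Agent.Lib.SmoothFibDim_helper4
import Groth.Agent.Lib.SupportCoh_helper9
import Groth.Agent.S1535

/-!
# Vanishing of global Ext groups from vanishing of the local Ext sheaves; Ext vanishing below the
codimension of the support on a smooth scheme over a field (helper2)
APPEND-ONLY once landed.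
-/

set_option autoImplicit false
set_option linter.style.haveILetI false
open AlgebraicGeometry CategoryTheory CategoryTheory.Limits TopologicalSpace Opposite Abelian

universe v u

namespace Groth.Agent.Lib.SSCollapseH2

variable {C : Type u} [Category.{v} C] [Abelian C]

/-- **vanishing of the abutment in total degree `n`** when the whole `n`-th diagonal of the second
page vanishes -/
theorem isZero_abut_of_isZero_diag (E : E₂CohomologicalSpectralSequence C) (H : ℤ → C)
    (a : SpSeq.Abutment E H) (n : ℤ) (ha : a.IsFinite n)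
    (h0 : ∀ p : ℤ, IsZero ((E.page 2 le_rfl).X (p, n - p))) : IsZero (H n) := by
  have key1 : ∀ p : ℤ, a.fil n (p + 1) = a.fil n p := by
    intro p
    have hz := h0 p
    have h1 : ∀ (pq : ℤ × ℤ) (m : ℤ), pq.1 + pq.2 = m → IsZero ((E.page 2 le_rfl).X pq) →
        a.fil m (pq.1 + 1) = a.fil m pq.1 := by
      intro pq m hm hz
      subst hm
      apply fil_eq_of_isZero_grPiece (a.fil _) (a.anti _) pq.1
      exact IsZero.of_iso (isZero_page_of_isZero E pq hz (a.rk pq) (a.stat pq).1) (a.β pq).symm
    exact h1 (p, n - p) n (by simp) hz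
  have htop : a.fil n 0 = ⊤ := fil_eq_top (a.fil n) (a.anti n) 0 ha.1 (fun i _ => key1 i)
  have hbot : a.fil n (0 + 1) = ⊥ := fil_eq_bot (a.fil n) (a.anti n) 0 ha.2 (fun i _ => key1 i)
  have htb : (⊤ : Subobject (H n)) = ⊥ := by rw [← htop, ← hbot, key1 0]
  have hz : IsZero ((⊤ : Subobject (H n)) : C) := by
    rw [htb]
    exact (isZero_zero C).of_iso Subobject.botCoeIsoZero
  exact hz.of_iso (asIso (⊤ : Subobject (H n)).arrow).symm

end Groth.Agent.Lib.SSCollapseH2

namespace Groth.Agent.Lib.GlobExtH2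

open ModSite

section Site

variable {C : Type u} [SmallCategory C] {J : GrothendieckTopology C}
  (O : Sheaf J CommRingCat.{u})

/-- the cohomology of a zero module vanishes -/
theorem subsingleton_HC_of_isZero (Z : Mod O) (hZ : IsZero Z) (p : ℕ) :
    Subsingleton (ModSite.HC O Z p) := by
  have h1 : IsZero (toAb Z) := (SheafOfModules.toSheaf (ringSh O)).map_isZero hZ
  refine ⟨fun x y => ?_⟩
  have key : ∀ e : ModSite.HC O Z p, e = 0 := by
    intro e
    have h2 : (𝟙 (toAb Z)) = 0 := h1.eq_of_src _ _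
    have h3 := Ext.comp_mk₀_id e
    rw [h2, Ext.mk₀_zero, Ext.comp_zero] at h3
    exact h3.symm
  rw [key x, key y]

/-- **local vanishing implies global vanishing** -/
theorem subsingleton_ext_of_isZero_extSh (M N : Mod O) [HasSheafHom M]
    [HasInjectiveResolutions (Mod O)] [HasExt.{u} (Mod O)] (p : ℕ)
    (hz : ∀ q : ℕ, q < p → IsZero ((ModSite.extSh M q).obj N)) (i : ℕ) (hi : i < p) :
    Subsingleton (Abelian.Ext.{u} M N i) := by
  obtain ⟨E, a, hfin, -, hE2⟩ := Groth.Agent.Lib.ModFree.locToGlob_ss O M N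
  have h0 : ∀ p' : ℤ, IsZero ((E.page 2 le_rfl).X (p', (i : ℤ) - p')) := by
    intro p'
    obtain ⟨e⟩ := hE2 p' ((i : ℤ) - p')
    refine IsZero.of_iso ?_ e
    by_cases hc : 0 ≤ p' ∧ 0 ≤ (i : ℤ) - p'
    · rw [if_pos hc]
      have hq : ((i : ℤ) - p').toNat < p := by omega
      haveI := subsingleton_HC_of_isZero O _ (hz _ hq) p'.toNat
      exact AddCommGrpCat.isZero_of_subsingleton _
    · rw [if_neg hc]
      exact AddCommGrpCat.isZero_of_subsingleton _
  have h1 := Groth.Agent.Lib.SSCollapseH2.isZero_abut_of_isZero_diag E _ a (i : ℤ) (hfin _) h0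
  rw [if_pos (by omega : (0 : ℤ) ≤ (i : ℤ))] at h1
  simp only [Int.toNat_natCast] at h1
  exact AddCommGrpCat.subsingleton_of_isZero h1

end Site

section Smooth

open Groth.Agent.Lib.ExtDepthH2 Groth.Agent.Lib.ExtPdH2

attribute [local instance] Groth.Agent.Lib.RelExtSchH2.hsh Groth.Agent.Lib.ExtShCohH2.hir

/-- on a quasi-compact scheme smooth of relative dimension `n` over a field, the local rings at
the points of a closed subset of dimension `≤ n - p` have dimension `≥ p` -/
theorem le_ringKrullDim_stalk_of_smooth (k : Type u) [Field k] (n : ℕ) (X : Scheme.{u})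
    [X.Over (Spec (CommRingCat.of k))] [SmoothOfRelativeDimension n (X ↘ Spec (CommRingCat.of k))]
    [CompactSpace X] (S : Set X) (hS : IsClosed S) (p : ℕ)
    (hsupp : topologicalKrullDim ↥S + p ≤ n) (x : X) (hx : x ∈ S) :
    (p : WithBot ℕ∞) ≤ ringKrullDim (X.presheaf.stalk x) := by
  haveI : Smooth (X ↘ Spec (CommRingCat.of k)) :=
    SmoothOfRelativeDimension.smooth (n := n) (f := X ↘ Spec (CommRingCat.of k))
  haveI : IsLocallyNoetherian X :=
    LocallyOfFiniteType.isLocallyNoetherian (X ↘ Spec (CommRingCat.of k))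
  haveI : IsNoetherian X := {}
  obtain ⟨ξ, a, r, hξ, -, ha, hr, hdim⟩ := Groth.Agent.IrrDim2H8.irr_dim2 k X x
  obtain ⟨N, hN, hdimN⟩ := Groth.Agent.IrrDim2H8.dim_closure_eq_trdeg k X x
  have hrN : r = N := by
    have : ((r : ℕ) : Cardinal) = ((N : ℕ) : Cardinal) := by rw [← hr, hN]
    exact_mod_cast this
  -- the closure of `x` lies in `S`
  have hsub : closure ({x} : Set X) ⊆ S := hS.closure_subset_iff.2 (Set.singleton_subset_iff.2 hx)
  have h1 : topologicalKrullDim ↥(closure ({x} : Set X)) ≤ topologicalKrullDim ↥S :=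
    (Topology.IsEmbedding.inclusion hsub).isInducing.topologicalKrullDim_le
  -- the component through `x` has dimension at least `n`
  obtain ⟨o, ho, ⟨y, hy⟩, hoZ⟩ :=
    NoetherianSpace.exists_isOpen_nonempty_subset_irreducibleComponent _ hξ
  have h2 : (n : WithBot ℕ∞) ≤ topologicalKrullDim ↥(closure ({ξ} : Set X)) := by
    have hl := Groth.Agent.Lib.SmoothFibDimH4.localDim_eq n k (X ↘ Spec (CommRingCat.of k)) y
    have h3 : FlatMor.localDim X y ≤ topologicalKrullDim ↥o := by
      unfold FlatMor.localDim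
      exact iInf_le _ (⟨⟨o, ho⟩, hy⟩ : {U : TopologicalSpace.Opens X // y ∈ U})
    rw [hl] at h3
    exact h3.trans (Topology.IsEmbedding.inclusion hoZ).isInducing.topologicalKrullDim_le
  rw [hdim] at h2
  rw [hdimN] at h1
  have h4 : ((N + p : ℕ) : WithBot ℕ∞) ≤ (n : WithBot ℕ∞) := by
    refine le_trans ?_ hsupp
    push_cast
    exact add_le_add_left h1 _
  have h5 : N + p ≤ n := by exact_mod_cast h4
  have h6 : n ≤ a + r := by exact_mod_cast h2
  rw [ha]
  have : p ≤ a := by omega
  exact_mod_cast this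

/-- **S5674, lib form** -/
theorem subsingleton_ext_of_smooth (k : Type u) [Field k] (n : ℕ) (X : Scheme.{u})
    [X.Over (Spec (CommRingCat.of k))] [SmoothOfRelativeDimension n (X ↘ Spec (CommRingCat.of k))]
    [CompactSpace X] [HasExt.{u} X.Modules] (F : X.Modules) (hF : Coh.IsCoh F) (L : X.Modules)
    (hL : FlatMod.IsFinLocFree L) (p : ℕ)
    (hsupp : topologicalKrullDim ↥(CohB1.support F) + p ≤ n) (i : ℕ) (hi : i < p) :
    Subsingleton (Abelian.Ext F L i) := by
  haveI : Smooth (X ↘ Spec (CommRingCat.of k)) :=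
    SmoothOfRelativeDimension.smooth (n := n) (f := X ↘ Spec (CommRingCat.of k))
  haveI : IsLocallyNoetherian X :=
    LocallyOfFiniteType.isLocallyNoetherian (X ↘ Spec (CommRingCat.of k))
  haveI : F.IsQuasicoherent := hF.1
  haveI : SheafOfModules.IsFiniteType (R := X.ringCatSheaf) F := hF.2
  have hS : IsClosed (CohB1.support F) := SupportCoh.isClosed_support F
  have hz : ∀ q : ℕ, q < p → IsZero ((ModSite.extSh (O := X.sheaf) F q).obj L) := by
    intro q hq
    exact isZero_extSh_of_finLocFree_of_regular L F hL hF p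
      (fun x _ => Groth.Agent.S1535.result k X x)
      (fun x hx => le_ringKrullDim_stalk_of_smooth k n X _ hS p hsupp x hx) q hq
  have hExt : HasExt.{u} (ModSite.Mod X.sheaf) := ‹HasExt.{u} X.Modules›
  exact @subsingleton_ext_of_isZero_extSh _ _ _ X.sheaf F L _ _ hExt p hz i hi

end Smooth

end Groth.Agent.Lib.GlobExtH2
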