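import Mathlib

/-!
# A semi-local subring all of whose units lie in a valuation ring (helper6)

`le_of_units_mem`: if `A ⊆ K` is semi-local and every unit of `A` lies in the valuation subring `B`,
then `A ⊆ B`.
-/

set_option autoImplicit false
universe u

namespace Groth.Agent.Lib.GlueDVR

theorem rad_mem_of_units_mem (K : Type u) [Field K] (A : Subring K) (B : ValuationSubring K)
    (hu : ∀ u : A, IsUnit u → (u : K) ∈ B) (x : A) (hx : x ∈ (⊥ : Ideal A).jacobson) :
    (x : K) ∈ B := by
  have h1 : IsUnit (x * 1 + 1) := Ideal.mem_jacobson_bot.1 hx 1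
  have h2 : ((x * 1 + 1 : A) : K) ∈ B := hu _ h1
  have h3 : (x : K) = ((x * 1 + 1 : A) : K) - 1 := by push_cast; ring
  rw [h3]
  exact B.sub_mem h2 B.one_mem

theorem le_of_units_mem (K : Type u) [Field K] (A : Subring K)
    (hsl : Finite (MaximalSpectrum A)) (B : ValuationSubring K)
    (hu : ∀ u : A, IsUnit u → (u : K) ∈ B) : A ≤ B.toSubring := by
  classical
  haveI := hsl
  intro a ha
  by_contra hnB
  have hcop : Pairwise (Function.onFun IsCoprime fun m : MaximalSpectrum A => m.asIdeal) := by
    intro m m' hmm'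
    show IsCoprime m.asIdeal m'.asIdeal
    rw [Ideal.isCoprime_iff_sup_eq]
    apply Ideal.IsMaximal.coprime_of_ne m.isMaximal m'.isMaximal
    intro h
    exact hmm' (MaximalSpectrum.ext h)
  obtain ⟨e, he⟩ := Ideal.exists_forall_sub_mem_ideal hcop
    (fun m : MaximalSpectrum A => if (⟨a, ha⟩ : A) ∈ m.asIdeal then (1 : A) else 0)
  have he1 : ∀ m : MaximalSpectrum A, (⟨a, ha⟩ : A) ∈ m.asIdeal → e - 1 ∈ m.asIdeal := by
    intro m hm
    have := he m
    rwa [if_pos hm] at this
  have he0 : ∀ m : MaximalSpectrum A, (⟨a, ha⟩ : A) ∉ m.asIdeal → e ∈ m.asIdeal := by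
    intro m hm
    have := he m
    rwa [if_neg hm, sub_zero] at this
  -- `a + e` is a unit
  have hz : IsUnit ((⟨a, ha⟩ : A) + e) := by
    by_contra hnu
    obtain ⟨I, hI, hzI⟩ := exists_max_ideal_of_mem_nonunits (mem_nonunits_iff.2 hnu)
    by_cases haI : (⟨a, ha⟩ : A) ∈ I
    · have h1 : e - 1 ∈ I := he1 ⟨I, hI⟩ haI
      have h2 : e ∈ I := by
        have := I.sub_mem hzI haI
        rwa [add_sub_cancel_left] at this
      have h3 : (1 : A) ∈ I := by
        have := I.sub_mem h2 h1
        rwa [sub_sub_cancel] at this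
      exact hI.ne_top ((Ideal.eq_top_iff_one _).2 h3)
    · have h1 : e ∈ I := he0 ⟨I, hI⟩ haI
      apply haI
      have := I.sub_mem hzI h1
      rwa [add_sub_cancel_right] at this
  -- `e (1 - e)` lies in the radical
  have hrad : e * (1 - e) ∈ (⊥ : Ideal A).jacobson := by
    rw [Ideal.jacobson, Ideal.mem_sInf]
    rintro I ⟨-, hI⟩
    by_cases haI : (⟨a, ha⟩ : A) ∈ I
    · have h1 : e - 1 ∈ I := he1 ⟨I, hI⟩ haI
      have h2 : 1 - e ∈ I := by
        have := I.neg_mem h1
        rwa [neg_sub] at this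
      exact I.mul_mem_left _ h2
    · exact I.mul_mem_right _ (he0 ⟨I, hI⟩ haI)
  have hradB : ((e * (1 - e) : A) : K) ∈ B := rad_mem_of_units_mem K A B hu _ hrad
  have hzB : (((⟨a, ha⟩ : A) + e : A) : K) ∈ B := hu _ hz
  -- valuations
  have hva : 1 < B.valuation a := by
    rw [← not_le, B.valuation_le_one_iff]
    exact hnB
  have hvz : B.valuation (a + (e : K)) ≤ 1 := by
    rw [B.valuation_le_one_iff]
    exact hzB
  have hve : B.valuation (e : K) = B.valuation a := by
    have h1 : (e : K) = (a + (e : K)) - a := by ring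
    rw [h1]
    exact Valuation.map_sub_eq_of_lt_right _ (lt_of_le_of_lt hvz hva)
  have hve1 : 1 < B.valuation (e : K) := hve ▸ hva
  have hv1e : B.valuation (1 - (e : K)) = B.valuation (e : K) := by
    apply Valuation.map_sub_eq_of_lt_right
    rw [map_one]
    exact hve1
  have hprod : B.valuation ((e : K) * (1 - (e : K))) ≤ 1 := by
    rw [B.valuation_le_one_iff]
    have : ((e * (1 - e) : A) : K) = (e : K) * (1 - (e : K)) := by push_cast; ring
    rw [← this]
    exact hradB
  rw [map_mul, hv1e] at hprod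
  have : (1 : B.ValueGroup) < B.valuation (e : K) * B.valuation (e : K) := by
    calc (1 : B.ValueGroup) = 1 * 1 := (one_mul 1).symm
      _ < B.valuation (e : K) * B.valuation (e : K) := by
        exact mul_lt_mul'' hve1 hve1 zero_le_one zero_le_one
  exact absurd hprod (not_le.2 this)

end Groth.Agent.Lib.GlueDVR
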