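import Mathlib
import Groth.Agent.Lib.GlueDimOne3_helper6

/-!
# Glueing one-dimensional semi-local rings, part 4 (helper6)

`glue`: the formal glueing statement for two subrings `A`, `B` of a field `K` and elements
`f + g = 1` of `A ∩ B` with `A = (A ∩ B)[1/f]`, `B = (A ∩ B)[1/g]`, `K = A[1/g]`.
-/

set_option autoImplicit false
universe u

namespace Groth.Agent.Lib.GlueDimOne

open CategoryTheory CategoryTheory.Limits AlgebraicGeometry

theorem isLocalization_away_inf_left (K : Type u) [Field K] (A B : Subring K) (f : K)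
    (hfA : f ∈ A) (hfA' : f⁻¹ ∈ A) (hfB : f ∈ B) (hf0 : f ≠ 0)
    (hA : ∀ a ∈ A, ∃ n : ℕ, f ^ n * a ∈ B) :
    letI : Algebra (A ⊓ B : Subring K) A := (Subring.inclusion (inf_le_left : A ⊓ B ≤ A)).toAlgebra
    IsLocalization.Away (⟨f, hfA, hfB⟩ : (A ⊓ B : Subring K)) A := by
  letI : Algebra (A ⊓ B : Subring K) A := (Subring.inclusion (inf_le_left : A ⊓ B ≤ A)).toAlgebra
  apply isLocalization_of_forall_exists
  · exact Subring.inclusion_injective _
  · rintro _ ⟨n, rfl⟩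
    rw [map_pow]
    apply IsUnit.pow
    refine IsUnit.of_mul_eq_one (⟨f⁻¹, hfA'⟩ : A) ?_
    apply Subtype.ext
    show f * f⁻¹ = 1
    exact mul_inv_cancel₀ hf0
  · intro a
    obtain ⟨n, hn⟩ := hA a a.2
    refine ⟨(⟨f, hfA, hfB⟩ : (A ⊓ B : Subring K)) ^ n, ⟨n, rfl⟩,
      ⟨f ^ n * a, A.mul_mem (A.pow_mem hfA n) a.2, hn⟩, ?_⟩
    apply Subtype.ext
    show f ^ n * (a : K) = _
    rw [map_pow]
    rfl

theorem glue (K : Type u) [Field K] (A B : Subring K) (f g : K) (hfg : f + g = 1)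
    (hf0 : f ≠ 0) (hg0 : g ≠ 0)
    (hfA : f ∈ A) (hfA' : f⁻¹ ∈ A) (hfB : f ∈ B)
    (hgB : g ∈ B) (hgB' : g⁻¹ ∈ B) (hgA : g ∈ A)
    (hA : ∀ a ∈ A, ∃ n : ℕ, f ^ n * a ∈ B)
    (hB : ∀ b ∈ B, ∃ n : ℕ, g ^ n * b ∈ A)
    (hK : ∀ w : K, ∃ n : ℕ, g ^ n * w ∈ A) :
    IsOpenImmersion (Spec.map (CommRingCat.ofHom (Subring.inclusion (inf_le_left : A ⊓ B ≤ A)))) ∧
      IsOpenImmersion (Spec.map (CommRingCat.ofHom (Subring.inclusion (inf_le_right : A ⊓ B ≤ B)))) ∧
      Set.range (Spec.map (CommRingCat.ofHom (Subring.inclusion (inf_le_left : A ⊓ B ≤ A)))).base ∪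
        Set.range (Spec.map (CommRingCat.ofHom (Subring.inclusion (inf_le_right : A ⊓ B ≤ B)))).base = Set.univ ∧
      IsPushout (CommRingCat.ofHom (Subring.inclusion (inf_le_left : A ⊓ B ≤ A)))
        (CommRingCat.ofHom (Subring.inclusion (inf_le_right : A ⊓ B ≤ B)))
        (CommRingCat.ofHom A.subtype) (CommRingCat.ofHom B.subtype) := by
  letI algA : Algebra (A ⊓ B : Subring K) A :=
    (Subring.inclusion (inf_le_left : A ⊓ B ≤ A)).toAlgebra
  letI algB : Algebra (A ⊓ B : Subring K) B :=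
    (Subring.inclusion (inf_le_right : A ⊓ B ≤ B)).toAlgebra
  haveI locA : IsLocalization.Away (⟨f, hfA, hfB⟩ : (A ⊓ B : Subring K)) A :=
    isLocalization_away_inf_left K A B f hfA hfA' hfB hf0 hA
  haveI locB : IsLocalization.Away (⟨g, hgA, hgB⟩ : (A ⊓ B : Subring K)) B := by
    apply isLocalization_of_forall_exists
    · exact Subring.inclusion_injective _
    · rintro _ ⟨n, rfl⟩
      rw [map_pow]
      apply IsUnit.pow
      refine IsUnit.of_mul_eq_one (⟨g⁻¹, hgB'⟩ : B) ?_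
      apply Subtype.ext
      show g * g⁻¹ = 1
      exact mul_inv_cancel₀ hg0
    · intro b
      obtain ⟨n, hn⟩ := hB b b.2
      refine ⟨(⟨g, hgA, hgB⟩ : (A ⊓ B : Subring K)) ^ n, ⟨n, rfl⟩,
        ⟨g ^ n * b, hn, B.mul_mem (B.pow_mem hgB n) b.2⟩, ?_⟩
      apply Subtype.ext
      show g ^ n * (b : K) = _
      rw [map_pow]
      rfl
  have hopenA : IsOpenImmersion (Spec.map (CommRingCat.ofHom
      (Subring.inclusion (inf_le_left : A ⊓ B ≤ A)))) :=
    IsOpenImmersion.of_isLocalization (R := (A ⊓ B : Subring K)) (S := A) ⟨f, hfA, hfB⟩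
  have hopenB : IsOpenImmersion (Spec.map (CommRingCat.ofHom
      (Subring.inclusion (inf_le_right : A ⊓ B ≤ B)))) :=
    IsOpenImmersion.of_isLocalization (R := (A ⊓ B : Subring K)) (S := B) ⟨g, hgA, hgB⟩
  refine ⟨hopenA, hopenB, ?_, ?_⟩
  · have hrA : ∀ P : PrimeSpectrum (A ⊓ B : Subring K),
        (⟨f, hfA, hfB⟩ : (A ⊓ B : Subring K)) ∉ P.asIdeal →
        P ∈ Set.range (PrimeSpectrum.comap (algebraMap (A ⊓ B : Subring K) A)) := by
      intro P hP
      rw [PrimeSpectrum.localization_away_comap_range (R := (A ⊓ B : Subring K)) A ⟨f, hfA, hfB⟩]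
      exact hP
    have hrB : ∀ P : PrimeSpectrum (A ⊓ B : Subring K),
        (⟨g, hgA, hgB⟩ : (A ⊓ B : Subring K)) ∉ P.asIdeal →
        P ∈ Set.range (PrimeSpectrum.comap (algebraMap (A ⊓ B : Subring K) B)) := by
      intro P hP
      rw [PrimeSpectrum.localization_away_comap_range (R := (A ⊓ B : Subring K)) B ⟨g, hgA, hgB⟩]
      exact hP
    apply Set.eq_univ_of_forall
    intro P
    by_cases hP : (⟨f, hfA, hfB⟩ : (A ⊓ B : Subring K)) ∈ PrimeSpectrum.asIdeal P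
    · right
      refine hrB P ?_
      intro hg
      have h1 : (1 : (A ⊓ B : Subring K)) ∈ PrimeSpectrum.asIdeal P := by
        have : (1 : (A ⊓ B : Subring K)) = ⟨f, hfA, hfB⟩ + ⟨g, hgA, hgB⟩ :=
          Subtype.ext hfg.symm
        rw [this]
        exact (PrimeSpectrum.asIdeal P).add_mem hP hg
      exact (PrimeSpectrum.isPrime P).ne_top ((Ideal.eq_top_iff_one _).2 h1)
    · left
      exact hrA P hP
  · haveI locK : IsLocalization ((Submonoid.powers (⟨g, hgA, hgB⟩ : (A ⊓ B : Subring K))).map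
        (Subring.inclusion (inf_le_left : A ⊓ B ≤ A))) K := by
      apply isLocalization_of_forall_exists
      · exact Subtype.val_injective
      · rintro _ ⟨_, ⟨n, rfl⟩, rfl⟩
        rw [map_pow, map_pow]
        apply IsUnit.pow
        exact (isUnit_iff_ne_zero).2 hg0
      · intro w
        obtain ⟨n, hn⟩ := hK w
        refine ⟨(⟨g, hgA⟩ : A) ^ n, ⟨(⟨g, hgA, hgB⟩ : (A ⊓ B : Subring K)) ^ n, ⟨n, rfl⟩, ?_⟩,
          ⟨g ^ n * w, hn⟩, ?_⟩
        · rw [map_pow]; rfl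
        · rw [map_pow]; rfl
    exact CommRingCat.isPushout_of_isLocalization
      (Subring.inclusion (inf_le_left : A ⊓ B ≤ A)) B.subtype (by rfl)
      (Submonoid.powers (⟨g, hgA, hgB⟩ : (A ⊓ B : Subring K)))

end Groth.Agent.Lib.GlueDimOne
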