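import Mathlib

/-!
# Glueing a finite extension along an isomorphism modulo a power of a nonzerodivisor (helper3)

`A' ⊆ A` finite, `f ∈ A'` a nonzerodivisor on `A`, `A'_f = A_f`.  Then `f^c A ⊆ A'` for some `c`, and
for `n ≥ 2c+1`, an isomorphism `A'/f^n ≅ B'/g^n` (with `g` a nonzerodivisor, `f ↦ g`) lets one build a
finite extension `B' ⊆ B ⊆ B'_g` with `A/fA ≅ B/gB`.
-/

universe u

namespace GlueFinExtH3

open Ideal

section step1
variable {A' A : Type u} [CommRing A'] [CommRing A] [Algebra A' A]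

theorem exists_pow_mul_eq (f : A') (hf : algebraMap A' A f ∈ nonZeroDivisors A)
    (hloc : Function.Surjective (IsLocalization.Away.map (Localization.Away f)
      (Localization.Away (algebraMap A' A f)) (algebraMap A' A) f)) (a : A) :
    ∃ k : ℕ, ∃ a' : A', algebraMap A' A a' = (algebraMap A' A f) ^ k * a := by
  obtain ⟨z, hz⟩ := hloc (algebraMap A (Localization.Away (algebraMap A' A f)) a)
  obtain ⟨⟨a', s⟩, hs⟩ := IsLocalization.surj (Submonoid.powers f) z
  obtain ⟨k, hk⟩ := s.2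
  refine ⟨k, a', ?_⟩
  have hinjA : Function.Injective (algebraMap A (Localization.Away (algebraMap A' A f))) :=
    IsLocalization.injective _ (Submonoid.powers_le.mpr hf)
  apply hinjA
  have h2 := congrArg (IsLocalization.Away.map (Localization.Away f)
      (Localization.Away (algebraMap A' A f)) (algebraMap A' A) f) hs
  simp only [map_mul, hz] at h2
  simp only [IsLocalization.Away.map, IsLocalization.map_eq] at h2
  rw [← h2, ← hk]
  simp only [map_mul, map_pow]
  ring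

theorem exists_c [Module.Finite A' A] (f : A') (hf : algebraMap A' A f ∈ nonZeroDivisors A)
    (hloc : Function.Surjective (IsLocalization.Away.map (Localization.Away f)
      (Localization.Away (algebraMap A' A f)) (algebraMap A' A) f)) :
    ∃ c : ℕ, ∀ a : A, ∃ a' : A', algebraMap A' A a' = (algebraMap A' A f) ^ c * a := by
  classical
  obtain ⟨s, hs⟩ := (Module.Finite.fg_top : (⊤ : Submodule A' A).FG)
  choose k a' hk using exists_pow_mul_eq f hf hloc
  refine ⟨s.sup k, fun a => ?_⟩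
  have hmem : a ∈ Submodule.span A' (s : Set A) := by rw [hs]; trivial
  induction hmem using Submodule.span_induction with
  | mem x hx =>
    have hle : k x ≤ s.sup k := Finset.le_sup hx
    obtain ⟨d, hd⟩ := Nat.exists_eq_add_of_le hle
    refine ⟨f ^ d * a' x, ?_⟩
    rw [map_mul, map_pow, hk, hd, pow_add]; ring
  | zero => exact ⟨0, by simp⟩
  | add x y _ _ hx hy =>
    obtain ⟨x', hx'⟩ := hx; obtain ⟨y', hy'⟩ := hy
    exact ⟨x' + y', by rw [map_add, hx', hy']; ring⟩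
  | smul r x _ hx =>
    obtain ⟨x', hx'⟩ := hx
    exact ⟨r * x', by rw [map_mul, hx', Algebra.smul_def]; ring⟩

end step1

/-- The data of the glueing situation, with `n = 2c+1+m`. -/
structure Data (A' A B' : Type u) [CommRing A'] [CommRing A] [Algebra A' A] [CommRing B'] where
  f : A'
  g : B'
  c : ℕ
  m : ℕ
  φ' : (A' ⧸ Ideal.span {f ^ (2 * c + 1 + m)}) ≃+* (B' ⧸ Ideal.span {g ^ (2 * c + 1 + m)})
  hinj : Function.Injective (algebraMap A' A)
  hf : algebraMap A' A f ∈ nonZeroDivisors A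
  hc : ∀ a : A, ∃ a' : A', algebraMap A' A a' = (algebraMap A' A f) ^ c * a
  hg : g ∈ nonZeroDivisors B'
  hφ : φ' (Ideal.Quotient.mk _ f) = Ideal.Quotient.mk _ g

namespace Data

variable {A' A B' : Type u} [CommRing A'] [CommRing A] [Algebra A' A] [CommRing B']
  (D : Data A' A B')

theorem al_inj : Function.Injective (algebraMap B' (Localization.Away D.g)) :=
  IsLocalization.injective _ (Submonoid.powers_le.mpr D.hg)

theorem isUnit_u : IsUnit (algebraMap B' (Localization.Away D.g) D.g) :=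
  IsLocalization.Away.algebraMap_isUnit D.g

/-- The correspondence between `A` and `B'_g`. -/
def Rel (a : A) (x : Localization.Away D.g) : Prop :=
  ∃ (i : A') (j : B'), algebraMap A' A i = (algebraMap A' A D.f) ^ D.c * a ∧
    algebraMap B' (Localization.Away D.g) j
      = (algebraMap B' (Localization.Away D.g) D.g) ^ D.c * x ∧
    D.φ' (Ideal.Quotient.mk _ i) = Ideal.Quotient.mk _ j

theorem rel_of_lift (a' : A') (b' : B')
    (h : D.φ' (Ideal.Quotient.mk _ a') = Ideal.Quotient.mk _ b') :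
    D.Rel (algebraMap A' A a') (algebraMap B' _ b') :=
  ⟨D.f ^ D.c * a', D.g ^ D.c * b', by rw [map_mul, map_pow], by rw [map_mul, map_pow],
    by simp only [map_mul, map_pow, D.hφ, h]⟩

theorem rel_smul {a : A} {x : Localization.Away D.g} (hR : D.Rel a x) (a' : A') (b' : B')
    (h : D.φ' (Ideal.Quotient.mk _ a') = Ideal.Quotient.mk _ b') :
    D.Rel (algebraMap A' A a' * a) (algebraMap B' _ b' * x) := by
  obtain ⟨i, j, hi, hj, hij⟩ := hR
  refine ⟨a' * i, b' * j, ?_, ?_, ?_⟩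
  · rw [map_mul, hi]; ring
  · rw [map_mul, hj]; ring
  · simp only [map_mul, h, hij]

theorem rel_add {a a2 : A} {x x2 : Localization.Away D.g} (h1 : D.Rel a x) (h2 : D.Rel a2 x2) :
    D.Rel (a + a2) (x + x2) := by
  obtain ⟨i, j, hi, hj, hij⟩ := h1
  obtain ⟨i2, j2, hi2, hj2, hij2⟩ := h2
  refine ⟨i + i2, j + j2, ?_, ?_, ?_⟩
  · rw [map_add, hi, hi2]; ring
  · rw [map_add, hj, hj2]; ring
  · simp only [map_add, hij, hij2]

theorem rel_neg {a : A} {x : Localization.Away D.g} (h1 : D.Rel a x) : D.Rel (-a) (-x) := by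
  obtain ⟨i, j, hi, hj, hij⟩ := h1
  refine ⟨-i, -j, ?_, ?_, ?_⟩
  · rw [map_neg, hi]; ring
  · rw [map_neg, hj]; ring
  · simp only [map_neg, hij]

theorem rel_sub {a a2 : A} {x x2 : Localization.Away D.g} (h1 : D.Rel a x) (h2 : D.Rel a2 x2) :
    D.Rel (a - a2) (x - x2) := by
  have := D.rel_add h1 (D.rel_neg h2)
  simpa [sub_eq_add_neg] using this

theorem rel_zero : D.Rel 0 0 := ⟨0, 0, by simp, by simp, by simp⟩

theorem rel_one : D.Rel 1 1 := by
  have := D.rel_of_lift 1 1 (by simp)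
  simpa using this

theorem rel_fg {a : A} {x : Localization.Away D.g} (hR : D.Rel a x) :
    D.Rel (algebraMap A' A D.f * a) (algebraMap B' _ D.g * x) :=
  D.rel_smul hR D.f D.g D.hφ

theorem exists_rel (a : A) : ∃ x, D.Rel a x := by
  obtain ⟨i, hi⟩ := D.hc a
  obtain ⟨j, hj⟩ := Ideal.Quotient.mk_surjective (D.φ' (Ideal.Quotient.mk _ i))
  obtain ⟨v, hv⟩ := (D.isUnit_u.pow D.c).exists_left_inv
  refine ⟨v * algebraMap B' _ j, i, j, hi, ?_, hj.symm⟩
  linear_combination (-(algebraMap B' (Localization.Away D.g) j)) * hv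

theorem rel_mul {a a2 : A} {x x2 : Localization.Away D.g} (h1 : D.Rel a x) (h2 : D.Rel a2 x2) :
    ∃ b' : B', D.Rel (a * a2) (x * x2 + algebraMap B' _ (D.g * b')) := by
  obtain ⟨i, j, hi, hj, hij⟩ := h1
  obtain ⟨i2, j2, hi2, hj2, hij2⟩ := h2
  obtain ⟨i3, hi3⟩ := D.hc (a * a2)
  have hii : i * i2 = D.f ^ D.c * i3 := by
    apply D.hinj
    rw [map_mul, map_mul, map_pow, hi, hi2, hi3]; ring
  obtain ⟨j3, hj3⟩ := Ideal.Quotient.mk_surjective (D.φ' (Ideal.Quotient.mk _ i3))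
  have hmk : Ideal.Quotient.mk (Ideal.span {D.g ^ (2 * D.c + 1 + D.m)}) (j * j2 - D.g ^ D.c * j3)
      = 0 := by
    have e1 : D.φ' (Ideal.Quotient.mk _ (i * i2)) = Ideal.Quotient.mk _ (j * j2) := by
      simp only [map_mul, hij, hij2]
    rw [hii] at e1
    simp only [map_mul, map_pow, D.hφ] at e1
    rw [map_sub, map_mul, map_mul, map_pow, ← e1, hj3]
    ring
  rw [Ideal.Quotient.eq_zero_iff_mem, Ideal.mem_span_singleton'] at hmk
  obtain ⟨b, hb⟩ := hmk
  refine ⟨-(D.g ^ D.m * b), i3, j3, hi3, ?_, hj3.symm⟩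
  apply (D.isUnit_u.pow D.c).mul_left_cancel
  have hb' := congrArg (algebraMap B' (Localization.Away D.g)) hb
  simp only [map_mul, map_pow, map_sub, map_neg] at hb' ⊢
  linear_combination hb' +
    (algebraMap B' (Localization.Away D.g) j2) * hj +
    ((algebraMap B' (Localization.Away D.g) D.g) ^ D.c * x) * hj2

theorem rel_zero_left {y : Localization.Away D.g} (h : D.Rel 0 y) :
    ∃ b' : B', y = algebraMap B' _ (D.g * b') := by
  obtain ⟨i, j, hi, hj, hij⟩ := h
  have hi0 : i = 0 := by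
    apply D.hinj
    rw [hi, map_zero, mul_zero]
  rw [hi0, map_zero, map_zero] at hij
  have hmk := hij.symm
  rw [Ideal.Quotient.eq_zero_iff_mem, Ideal.mem_span_singleton'] at hmk
  obtain ⟨b, hb⟩ := hmk
  refine ⟨D.g ^ (D.c + D.m) * b, ?_⟩
  apply (D.isUnit_u.pow D.c).mul_left_cancel
  have hb' := congrArg (algebraMap B' (Localization.Away D.g)) hb
  simp only [map_mul, map_pow] at hb' ⊢
  linear_combination (-1 : Localization.Away D.g) * hj - hb'

theorem rel_zero_right {a : A} (h : D.Rel a 0) : ∃ a0 : A, a = algebraMap A' A D.f * a0 := by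
  obtain ⟨i, j, hi, hj, hij⟩ := h
  have hj0 : j = 0 := by
    apply D.al_inj
    rw [hj, map_zero, mul_zero]
  rw [hj0, map_zero] at hij
  have hmk : Ideal.Quotient.mk (Ideal.span {D.f ^ (2 * D.c + 1 + D.m)}) i = 0 :=
    (map_eq_zero_iff D.φ' D.φ'.injective).mp hij
  rw [Ideal.Quotient.eq_zero_iff_mem, Ideal.mem_span_singleton'] at hmk
  obtain ⟨t, ht⟩ := hmk
  refine ⟨(algebraMap A' A D.f) ^ (D.c + D.m) * algebraMap A' A t, ?_⟩
  have hnz : (algebraMap A' A D.f) ^ D.c ∈ nonZeroDivisors A := pow_mem D.hf _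
  rw [← mul_cancel_left_mem_nonZeroDivisors hnz, ← hi, ← ht, map_mul, map_pow]
  ring

/-- The finite extension `B ⊆ B'_g`. -/
def Bsub : Subalgebra B' (Localization.Away D.g) where
  carrier := {x | ∃ a, D.Rel a x}
  mul_mem' := by
    rintro x x2 ⟨a, h1⟩ ⟨a2, h2⟩
    obtain ⟨b', hb'⟩ := D.rel_mul h1 h2
    obtain ⟨a', ha'⟩ := Ideal.Quotient.mk_surjective (D.φ'.symm (Ideal.Quotient.mk _ (D.g * b')))
    have h3 : D.Rel (algebraMap A' A a') (algebraMap B' _ (D.g * b')) :=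
      D.rel_of_lift a' _ (by rw [ha', RingEquiv.apply_symm_apply])
    have := D.rel_sub hb' h3
    rw [add_sub_cancel_right] at this
    exact ⟨_, this⟩
  one_mem' := ⟨1, D.rel_one⟩
  add_mem' := by
    rintro x x2 ⟨a, h1⟩ ⟨a2, h2⟩
    exact ⟨_, D.rel_add h1 h2⟩
  zero_mem' := ⟨0, D.rel_zero⟩
  algebraMap_mem' := by
    intro b'
    obtain ⟨a', ha'⟩ := Ideal.Quotient.mk_surjective (D.φ'.symm (Ideal.Quotient.mk _ b'))
    exact ⟨_, D.rel_of_lift a' b' (by rw [ha', RingEquiv.apply_symm_apply])⟩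

theorem mem_Bsub {x : Localization.Away D.g} : x ∈ D.Bsub ↔ ∃ a, D.Rel a x := Iff.rfl

theorem algebraMap_Bsub_inj : Function.Injective (algebraMap B' D.Bsub) := by
  intro x y h
  apply D.al_inj
  exact congrArg Subtype.val h

/-- The ideal `gB`. -/
def gB : Ideal D.Bsub := Ideal.span {algebraMap B' D.Bsub D.g}

theorem sub_mem_gB {a : A} {x x2 : Localization.Away D.g} (h1 : D.Rel a x) (h2 : D.Rel a x2) :
    (⟨x, ⟨a, h1⟩⟩ : D.Bsub) - ⟨x2, ⟨a, h2⟩⟩ ∈ D.gB := by
  have h0 := D.rel_sub h1 h2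
  rw [sub_self] at h0
  obtain ⟨b', hb'⟩ := D.rel_zero_left h0
  rw [gB, Ideal.mem_span_singleton']
  refine ⟨algebraMap B' D.Bsub b', ?_⟩
  apply Subtype.ext
  change algebraMap B' _ b' * algebraMap B' _ D.g = x - x2
  rw [hb', map_mul]; ring

/-- The map `A → B/gB` (as a function). -/
noncomputable def PhiFun (a : A) : D.Bsub ⧸ D.gB :=
  Ideal.Quotient.mk _ ⟨(D.exists_rel a).choose, ⟨a, (D.exists_rel a).choose_spec⟩⟩

theorem PhiFun_eq {a : A} {x : Localization.Away D.g} (h : D.Rel a x) :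
    D.PhiFun a = Ideal.Quotient.mk _ ⟨x, ⟨a, h⟩⟩ := by
  unfold PhiFun
  rw [Ideal.Quotient.eq]
  exact D.sub_mem_gB (a := a) (D.exists_rel a).choose_spec h

theorem mk_g_eq_zero : Ideal.Quotient.mk D.gB (algebraMap B' D.Bsub D.g) = 0 := by
  rw [Ideal.Quotient.eq_zero_iff_mem]
  exact Ideal.subset_span rfl

/-- The ring hom `A → B/gB`. -/
noncomputable def Phi : A →+* D.Bsub ⧸ D.gB where
  toFun := D.PhiFun
  map_one' := by
    rw [D.PhiFun_eq D.rel_one]
    rfl
  map_mul' := by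
    intro a a2
    obtain ⟨x, hx⟩ := D.exists_rel a
    obtain ⟨x2, hx2⟩ := D.exists_rel a2
    obtain ⟨b', hb'⟩ := D.rel_mul hx hx2
    rw [D.PhiFun_eq hx, D.PhiFun_eq hx2, D.PhiFun_eq hb', ← map_mul]
    have e : (⟨x * x2 + algebraMap B' _ (D.g * b'), ⟨a * a2, hb'⟩⟩ : D.Bsub)
        = ⟨x, ⟨a, hx⟩⟩ * ⟨x2, ⟨a2, hx2⟩⟩ + algebraMap B' D.Bsub D.g * algebraMap B' D.Bsub b' := by
      apply Subtype.ext
      change x * x2 + algebraMap B' _ (D.g * b') = x * x2 + algebraMap B' _ D.g * algebraMap B' _ b'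
      rw [map_mul]
    rw [e, map_add, map_mul _ (algebraMap B' D.Bsub D.g), D.mk_g_eq_zero, zero_mul, add_zero]
  map_zero' := by
    rw [D.PhiFun_eq D.rel_zero]
    rfl
  map_add' := by
    intro a a2
    obtain ⟨x, hx⟩ := D.exists_rel a
    obtain ⟨x2, hx2⟩ := D.exists_rel a2
    rw [D.PhiFun_eq hx, D.PhiFun_eq hx2, D.PhiFun_eq (D.rel_add hx hx2), ← map_add]
    rfl

theorem Phi_eq {a : A} {x : Localization.Away D.g} (h : D.Rel a x) :
    D.Phi a = Ideal.Quotient.mk _ ⟨x, ⟨a, h⟩⟩ := D.PhiFun_eq h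

theorem Phi_surjective : Function.Surjective D.Phi := by
  intro y
  obtain ⟨⟨x, a, hx⟩, rfl⟩ := Ideal.Quotient.mk_surjective y
  exact ⟨a, D.Phi_eq hx⟩

theorem Phi_eq_zero_iff (a : A) :
    D.Phi a = 0 ↔ a ∈ Ideal.span {algebraMap A' A D.f} := by
  rw [Ideal.mem_span_singleton']
  constructor
  · intro h
    obtain ⟨x, hx⟩ := D.exists_rel a
    rw [D.Phi_eq hx, Ideal.Quotient.eq_zero_iff_mem, gB, Ideal.mem_span_singleton'] at h
    obtain ⟨⟨y, a0, hy⟩, hyx⟩ := h
    have hyx' : y * algebraMap B' _ D.g = x := congrArg Subtype.val hyx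
    have h1 := D.rel_fg hy
    rw [mul_comm _ y, hyx'] at h1
    have h2 := D.rel_sub hx h1
    rw [sub_self] at h2
    obtain ⟨a1, ha1⟩ := D.rel_zero_right h2
    refine ⟨a0 + a1, ?_⟩
    linear_combination (-1 : A) * ha1
  · rintro ⟨a0, rfl⟩
    obtain ⟨x0, hx0⟩ := D.exists_rel a0
    have h1 := D.rel_fg hx0
    rw [mul_comm a0, D.Phi_eq h1]
    have e : (⟨algebraMap B' _ D.g * x0, ⟨_, h1⟩⟩ : D.Bsub)
        = algebraMap B' D.Bsub D.g * ⟨x0, ⟨a0, hx0⟩⟩ := by
      apply Subtype.ext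
      rfl
    rw [e, map_mul, D.mk_g_eq_zero, zero_mul]

/-- The isomorphism `A/fA ≅ B/gB`. -/
noncomputable def phi : (A ⧸ Ideal.span {algebraMap A' A D.f}) ≃+* (D.Bsub ⧸ D.gB) :=
  RingEquiv.ofBijective
    (Ideal.Quotient.lift _ D.Phi (fun a ha => (D.Phi_eq_zero_iff a).mpr ha))
    ⟨by
      rw [injective_iff_map_eq_zero]
      intro y hy
      obtain ⟨a, rfl⟩ := Ideal.Quotient.mk_surjective y
      rw [Ideal.Quotient.lift_mk] at hy
      rw [Ideal.Quotient.eq_zero_iff_mem]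
      exact (D.Phi_eq_zero_iff a).mp hy,
     by
      intro y
      obtain ⟨a, rfl⟩ := D.Phi_surjective y
      exact ⟨Ideal.Quotient.mk _ a, Ideal.Quotient.lift_mk _ _ _⟩⟩

theorem phi_mk (a : A) : D.phi (Ideal.Quotient.mk _ a) = D.Phi a := by
  unfold phi
  rw [RingEquiv.ofBijective_apply, Ideal.Quotient.lift_mk]

theorem phi_compat (a' : A') (b' : B')
    (h : D.φ' (Ideal.Quotient.mk _ a') = Ideal.Quotient.mk _ b') :
    D.phi (Ideal.Quotient.mk _ (algebraMap A' A a'))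
      = Ideal.Quotient.mk D.gB (algebraMap B' D.Bsub b') := by
  rw [D.phi_mk, D.Phi_eq (D.rel_of_lift a' b' h)]
  rfl

theorem finite_Bsub [Module.Finite A' A] : Module.Finite B' D.Bsub := by
  classical
  obtain ⟨s, hs⟩ := (Module.Finite.fg_top : (⊤ : Submodule A' A).FG)
  choose xs hxs using D.exists_rel
  let T : Set D.Bsub := insert 1 (Set.range (fun a : s => (⟨xs a, ⟨a, hxs a⟩⟩ : D.Bsub)))
  have hT : T.Finite := Set.Finite.insert _ (Set.finite_range _)
  have key : ∀ a : A, ∃ y : D.Bsub, y ∈ Submodule.span B' T ∧ D.Rel a y.1 := by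
    intro a
    have hmem : a ∈ Submodule.span A' (s : Set A) := by rw [hs]; trivial
    induction hmem using Submodule.span_induction with
    | mem x hx =>
      refine ⟨⟨xs x, ⟨x, hxs x⟩⟩, Submodule.subset_span ?_, hxs x⟩
      exact Set.mem_insert_of_mem _ ⟨⟨x, hx⟩, rfl⟩
    | zero => exact ⟨0, Submodule.zero_mem _, D.rel_zero⟩
    | add x y _ _ hx hy =>
      obtain ⟨x', hx', hx''⟩ := hx; obtain ⟨y', hy', hy''⟩ := hy
      exact ⟨x' + y', Submodule.add_mem _ hx' hy', D.rel_add hx'' hy''⟩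
    | smul r x _ hx =>
      obtain ⟨x', hx', hx''⟩ := hx
      obtain ⟨b', hb'⟩ := Ideal.Quotient.mk_surjective (D.φ' (Ideal.Quotient.mk _ r))
      refine ⟨b' • x', Submodule.smul_mem _ _ hx', ?_⟩
      have := D.rel_smul hx'' r b' hb'.symm
      have e : ((b' • x' : D.Bsub) : Localization.Away D.g) = algebraMap B' _ b' * x'.1 := by
        rw [← Algebra.smul_def]; rfl
      rw [Algebra.smul_def, e]
      exact this
  refine ⟨(Submodule.fg_def).mpr ⟨T, hT, ?_⟩⟩
  rw [eq_top_iff]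
  rintro ⟨y, a, hy⟩ -
  obtain ⟨y', hy', hy''⟩ := key a
  have h0 := D.rel_sub hy hy''
  rw [sub_self] at h0
  obtain ⟨b', hb'⟩ := D.rel_zero_left h0
  have e : (⟨y, ⟨a, hy⟩⟩ : D.Bsub) = y' + (D.g * b') • (1 : D.Bsub) := by
    apply Subtype.ext
    change y = y'.1 + (D.g * b') • (1 : Localization.Away D.g)
    rw [Algebra.smul_def, mul_one, ← hb']; ring
  rw [e]
  exact Submodule.add_mem _ hy' (Submodule.smul_mem _ _ (Submodule.subset_span (Set.mem_insert _ _)))

end Data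

/-- The main theorem. -/
theorem main (A' A : Type u) [CommRing A'] [CommRing A] [Algebra A' A]
    (hinj : Function.Injective (algebraMap A' A)) [Module.Finite A' A] (f : A')
    (hf : algebraMap A' A f ∈ nonZeroDivisors A)
    (hloc : Function.Bijective (IsLocalization.Away.map (Localization.Away f)
      (Localization.Away (algebraMap A' A f)) (algebraMap A' A) f)) :
    ∃ n₀ : ℕ, 0 < n₀ ∧ ∀ n : ℕ, n₀ ≤ n →
      ∀ (B' : Type u) [CommRing B'] (g : B'), g ∈ nonZeroDivisors B' →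
        ∀ φ' : (A' ⧸ Ideal.span {f ^ n}) ≃+* (B' ⧸ Ideal.span {g ^ n}),
        φ' (Ideal.Quotient.mk (Ideal.span {f ^ n}) f) = Ideal.Quotient.mk (Ideal.span {g ^ n}) g →
        ∃ (B : Type u) (_ : CommRing B) (_ : Algebra B' B),
          Function.Injective (algebraMap B' B) ∧ Module.Finite B' B ∧
          ∃ φ : (A ⧸ Ideal.span {algebraMap A' A f}) ≃+* (B ⧸ Ideal.span {algebraMap B' B g}),
            ∀ (a' : A') (b' : B'),
              φ' (Ideal.Quotient.mk (Ideal.span {f ^ n}) a') = Ideal.Quotient.mk (Ideal.span {g ^ n}) b' →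
              φ (Ideal.Quotient.mk (Ideal.span {algebraMap A' A f}) (algebraMap A' A a')) =
                Ideal.Quotient.mk (Ideal.span {algebraMap B' B g}) (algebraMap B' B b') := by
  obtain ⟨c, hc⟩ := exists_c f hf hloc.2
  refine ⟨2 * c + 1, by omega, ?_⟩
  intro n hn B' _ g hg φ' hφ
  obtain ⟨m, rfl⟩ := Nat.exists_eq_add_of_le hn
  let D : Data A' A B' := ⟨f, g, c, m, φ', hinj, hf, hc, hg, hφ⟩
  exact ⟨D.Bsub, inferInstance, inferInstance, D.algebraMap_Bsub_inj, D.finite_Bsub, D.phi,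
    fun a' b' h => D.phi_compat a' b' h⟩

end GlueFinExtH3
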