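import Mathlib

set_option autoImplicit false
set_option maxHeartbeats 1000000

universe u

open TensorProduct

namespace Groth.Agent.Lib.GlueMaxH1

section Basic

variable {A : Type u} [CommRing A]

theorem smul_eq_zero_of_notMem {P : Ideal A} [P.IsPrime] {N : Type*} [AddCommGroup N] [Module A N]
    [Module (Localization.AtPrime P) N] [IsScalarTower A (Localization.AtPrime P) N]
    {s : A} (hs : s ∉ P) {z : N} (h : s • z = 0) : z = 0 := by
  have hu : IsUnit (algebraMap A (Localization.AtPrime P) s) :=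
    IsLocalization.map_units (Localization.AtPrime P) (⟨s, hs⟩ : P.primeCompl)
  rw [← algebraMap_smul (Localization.AtPrime P) s z] at h
  exact hu.smul_eq_zero.mp h

variable {r : ℕ} (m : Fin r → Ideal A) [hm : ∀ i, (m i).IsMaximal]

theorem pow_not_le (hinj : Function.Injective m) (i j : Fin r) (hij : i ≠ j) (n : ℕ) :
    ¬ (m i) ^ n ≤ m j := by
  intro h
  have h1 : m i ≤ m j := Ideal.IsPrime.le_of_pow_le h
  have h2 : m i = m j := (hm i).eq_of_le (hm j).ne_top h1
  exact hij (hinj h2)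

theorem inf_le_prime {P : Ideal A} [P.IsPrime] {M : ℕ} (h : (⨅ i, m i) ^ M ≤ P) :
    ∃ i, m i ≤ P := by
  have h1 : (⨅ i, m i) ≤ P := Ideal.IsPrime.le_of_pow_le h
  have h2 : Finset.univ.prod m ≤ P := by
    refine le_trans (le_trans Ideal.prod_le_inf ?_) h1
    rw [Finset.inf_univ_eq_iInf]
  obtain ⟨i, -, hi⟩ := (Ideal.IsPrime.prod_le inferInstance).mp h2
  exact ⟨i, hi⟩

/-- The other maximal ideals. -/
abbrev Oth : Type u := {𝔫 : Ideal A // 𝔫.IsMaximal ∧ ∀ i, 𝔫 ≠ m i}

instance (𝔫 : Oth m) : 𝔫.1.IsMaximal := 𝔫.2.1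

theorem pow_not_le_oth (i : Fin r) (𝔫 : Oth m) (n : ℕ) : ¬ (m i) ^ n ≤ 𝔫.1 := by
  intro h
  have h1 : m i ≤ 𝔫.1 := Ideal.IsPrime.le_of_pow_le h
  exact 𝔫.2.2 i ((hm i).eq_of_le 𝔫.2.1.ne_top h1).symm

theorem Ipow_not_le_oth (𝔫 : Oth m) (M : ℕ) : ¬ (⨅ i, m i) ^ M ≤ 𝔫.1 := by
  intro h
  obtain ⟨i, hi⟩ := inf_le_prime m h
  exact 𝔫.2.2 i ((hm i).eq_of_le 𝔫.2.1.ne_top hi).symm

theorem prod_notMem {ι : Type*} (P : Ideal A) [P.IsPrime] (s : Finset ι) (f : ι → A)
    (h : ∀ x ∈ s, f x ∉ P) : ∏ x ∈ s, f x ∉ P := by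
  rw [Ideal.IsPrime.prod_mem_iff]
  push_neg
  exact h

end Basic

section Setup

variable {A : Type u} [CommRing A] {r : ℕ} (m : Fin r → Ideal A) [hm : ∀ i, (m i).IsMaximal]
  (B : Fin r → Type u) [∀ i, CommRing (B i)] [∀ i, Algebra (Localization.AtPrime (m i)) (B i)]
  [∀ i, Algebra A (B i)] [∀ i, IsScalarTower A (Localization.AtPrime (m i)) (B i)]

/-- The ambient product. -/
abbrev X : Type u := (∀ i, B i) × (∀ 𝔫 : Oth m, Localization.AtPrime 𝔫.1)

/-- The conductor-like ideal of `x` into the image of `A`. -/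
def colon (x : X m B) : Ideal A :=
  (LinearMap.range (Algebra.linearMap A (X m B))).comap (LinearMap.toSpanSingleton A (X m B) x)

theorem mem_colon {x : X m B} {g : A} :
    g ∈ colon m B x ↔ ∃ a : A, algebraMap A (X m B) a = g • x := by
  unfold colon
  rw [Submodule.mem_comap, LinearMap.toSpanSingleton_apply, LinearMap.mem_range]
  rfl

theorem algebraMap_fst (a : A) (i : Fin r) : (algebraMap A (X m B) a).1 i = algebraMap A (B i) a := rfl

theorem algebraMap_snd (a : A) (𝔫 : Oth m) :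
    (algebraMap A (X m B) a).2 𝔫 = algebraMap A (Localization.AtPrime 𝔫.1) a := rfl

variable [IsNoetherianRing A]

/-- Lemma K. -/
theorem exists_smul_map_eq_zero (hinj : Function.Injective m)
    (hker : ∀ i, ∃ n : ℕ, ∀ x ∈ RingHom.ker (algebraMap (Localization.AtPrime (m i)) (B i)),
      ∀ y ∈ Ideal.map (algebraMap A (Localization.AtPrime (m i))) (m i) ^ n, y * x = 0)
    (i : Fin r) (a : A) (ha : algebraMap A (B i) a = 0) :
    ∃ v : A, v ∉ m i ∧ algebraMap A (X m B) (v * a) = 0 := by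
  classical
  obtain ⟨n, hn⟩ := hker i
  have ha' : algebraMap A (Localization.AtPrime (m i)) a ∈
      RingHom.ker (algebraMap (Localization.AtPrime (m i)) (B i)) := by
    rw [RingHom.mem_ker, ← IsScalarTower.algebraMap_apply]; exact ha
  obtain ⟨G, hG⟩ : ∃ G : Finset A, Ideal.span (G : Set A) = (m i) ^ n :=
    (IsNoetherian.noetherian ((m i) ^ n))
  have h1 : ∀ g ∈ G, ∃ w : A, w ∉ m i ∧ w * (g * a) = 0 := by
    intro g hg
    have hgm : g ∈ (m i) ^ n := hG ▸ Ideal.subset_span hg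
    have h0 : algebraMap A (Localization.AtPrime (m i)) g *
        algebraMap A (Localization.AtPrime (m i)) a = 0 :=
      hn _ ha' _ (by rw [← Ideal.map_pow]; exact Ideal.mem_map_of_mem _ hgm)
    rw [← map_mul, IsLocalization.map_eq_zero_iff (m i).primeCompl] at h0
    obtain ⟨w, hw⟩ := h0
    exact ⟨w.1, w.2, hw⟩
  choose! w hw1 hw2 using h1
  obtain ⟨W, hWdef⟩ : ∃ W : A, W = ∏ g ∈ G, w g := ⟨_, rfl⟩
  have hW : W ∉ m i := hWdef ▸ prod_notMem (m i) G w hw1
  have hWg : ∀ g ∈ G, W * (g * a) = 0 := by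
    intro g hg
    rw [hWdef, ← Finset.mul_prod_erase G w hg]
    have e : w g * (∏ x ∈ G.erase g, w x) * (g * a) = (∏ x ∈ G.erase g, w x) * (w g * (g * a)) := by
      ring
    rw [e, hw2 g hg, mul_zero]
  have hann : (m i) ^ n ≤ LinearMap.ker (LinearMap.toSpanSingleton A A (W * a)) := by
    rw [← hG]
    refine Ideal.span_le.mpr (fun g hg => ?_)
    simp only [SetLike.mem_coe, LinearMap.mem_ker, LinearMap.toSpanSingleton_apply, smul_eq_mul]
    have := hWg g hg
    linear_combination this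
  refine ⟨W, hW, ?_⟩
  apply Prod.ext
  · funext j
    change algebraMap A (B j) (W * a) = 0
    by_cases hj : j = i
    · subst hj; rw [map_mul, ha, mul_zero]
    · obtain ⟨g, hg, hgj⟩ := SetLike.not_le_iff_exists.mp (pow_not_le m hinj i j (Ne.symm hj) n)
      have h0 : g * (W * a) = 0 := by
        have := hann hg
        simpa only [LinearMap.mem_ker, LinearMap.toSpanSingleton_apply, smul_eq_mul] using this
      have h2 : g • algebraMap A (B j) (W * a) = 0 := by
        rw [Algebra.smul_def, ← map_mul, h0, map_zero]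
      exact smul_eq_zero_of_notMem (P := m j) hgj h2
  · funext 𝔫
    change algebraMap A (Localization.AtPrime 𝔫.1) (W * a) = 0
    obtain ⟨g, hg, hg𝔫⟩ := SetLike.not_le_iff_exists.mp (pow_not_le_oth m i 𝔫 n)
    have h0 : g * (W * a) = 0 := by
      have := hann hg
      simpa only [LinearMap.mem_ker, LinearMap.toSpanSingleton_apply, smul_eq_mul] using this
    have h2 : g • algebraMap A (Localization.AtPrime 𝔫.1) (W * a) = 0 := by
      rw [Algebra.smul_def, ← map_mul, h0, map_zero]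
    exact smul_eq_zero_of_notMem (P := 𝔫.1) hg𝔫 h2

/-- Lemma T'. -/
theorem exists_smul_eq_zero (hinj : Function.Injective m)
    (hker : ∀ i, ∃ n : ℕ, ∀ x ∈ RingHom.ker (algebraMap (Localization.AtPrime (m i)) (B i)),
      ∀ y ∈ Ideal.map (algebraMap A (Localization.AtPrime (m i))) (m i) ^ n, y * x = 0)
    (i : Fin r) (x : X m B) (hx : x.1 i = 0) (M : ℕ) (hM : (⨅ i, m i) ^ M ≤ colon m B x) :
    ∃ v : A, v ∉ m i ∧ v • x = 0 := by
  classical
  obtain ⟨G, hG⟩ : ∃ G : Finset A, Ideal.span (G : Set A) = (⨅ i, m i) ^ M :=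
    (IsNoetherian.noetherian ((⨅ i, m i) ^ M))
  have h1 : ∀ g ∈ G, ∃ v : A, v ∉ m i ∧ (v * g) • x = 0 := by
    intro g hg
    have hgI : g ∈ (⨅ i, m i) ^ M := hG ▸ Ideal.subset_span hg
    obtain ⟨a, ha⟩ := (mem_colon m B).mp (hM hgI)
    have hai : algebraMap A (B i) a = 0 := by
      have h2 := congrArg (fun z : X m B => z.1 i) ha
      have h3 : (g • x).1 i = 0 := by
        change g • x.1 i = 0
        rw [hx, smul_zero]
      exact h2.trans h3
    obtain ⟨v, hv, hva⟩ := exists_smul_map_eq_zero m B hinj hker i a hai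
    refine ⟨v, hv, ?_⟩
    rw [mul_smul, ← ha, Algebra.smul_def, ← map_mul, hva]
  choose! v hv1 hv2 using h1
  obtain ⟨V, hVdef⟩ : ∃ V : A, V = ∏ g ∈ G, v g := ⟨_, rfl⟩
  have hV : V ∉ m i := hVdef ▸ prod_notMem (m i) G v hv1
  have hVg : ∀ g ∈ G, (V * g) • x = 0 := by
    intro g hg
    rw [hVdef, ← Finset.mul_prod_erase G v hg]
    have e : v g * (∏ x ∈ G.erase g, v x) * g = (∏ x ∈ G.erase g, v x) * (v g * g) := by ring
    rw [e, mul_smul, hv2 g hg, smul_zero]
  obtain ⟨y, hy⟩ : ∃ y : X m B, y = V • x := ⟨_, rfl⟩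
  have hann : (⨅ i, m i) ^ M ≤ LinearMap.ker (LinearMap.toSpanSingleton A (X m B) y) := by
    rw [← hG]
    refine Ideal.span_le.mpr (fun g hg => ?_)
    simp only [SetLike.mem_coe, LinearMap.mem_ker, LinearMap.toSpanSingleton_apply]
    rw [hy, smul_smul, mul_comm]
    exact hVg g hg
  obtain ⟨ε, hε, hεi⟩ : ∃ ε ∈ ∏ l ∈ Finset.univ.erase i, m l, ε ∉ m i := by
    apply SetLike.not_le_iff_exists.mp
    intro h
    obtain ⟨l, hl, hli⟩ := (Ideal.IsPrime.prod_le (inferInstance : (m i).IsPrime)).mp h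
    have h2 : m l = m i := (hm l).eq_of_le (hm i).ne_top hli
    exact (Finset.ne_of_mem_erase hl) (hinj h2)
  refine ⟨ε ^ M * V, ?_, ?_⟩
  · intro h
    rcases (inferInstance : (m i).IsPrime).mem_or_mem h with h | h
    · exact hεi ((inferInstance : (m i).IsPrime).mem_of_pow_mem M h)
    · exact hV h
  · rw [mul_smul, ← hy]
    apply Prod.ext
    · funext j
      change ε ^ M • y.1 j = 0
      by_cases hj : j = i
      · subst hj
        have : y.1 j = 0 := by
          rw [hy]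
          change V • x.1 j = 0
          rw [hx, smul_zero]
        rw [this, smul_zero]
      · have hnle : ¬ m i ≤ m j := fun h =>
          hj (hinj ((hm i).eq_of_le (hm j).ne_top h)).symm
        obtain ⟨g, hg, hgj⟩ := SetLike.not_le_iff_exists.mp hnle
        have hgεI : g * ε ∈ ⨅ i, m i := by
          have h2 : g * ε ∈ ∏ l, m l := by
            rw [← Finset.mul_prod_erase Finset.univ m (Finset.mem_univ i)]
            exact Ideal.mul_mem_mul hg hε
          have h3 : ∏ l, m l ≤ ⨅ i, m i := by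
            refine le_trans Ideal.prod_le_inf ?_
            rw [Finset.inf_univ_eq_iInf]
          exact h3 h2
        have h0 := hann (Ideal.pow_mem_pow hgεI M)
        rw [LinearMap.mem_ker, LinearMap.toSpanSingleton_apply, mul_pow, mul_smul] at h0
        have h1 : g ^ M • (ε ^ M • y.1 j) = 0 := congrArg (fun z : X m B => z.1 j) h0
        exact smul_eq_zero_of_notMem (P := m j)
          (fun h => hgj ((inferInstance : (m j).IsPrime).mem_of_pow_mem M h)) h1
    · funext 𝔫
      change ε ^ M • y.2 𝔫 = 0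
      obtain ⟨g, hg, hg𝔫⟩ := SetLike.not_le_iff_exists.mp (Ipow_not_le_oth m 𝔫 M)
      have h0 := hann hg
      rw [LinearMap.mem_ker, LinearMap.toSpanSingleton_apply] at h0
      have h1 : g • y.2 𝔫 = 0 := congrArg (fun z : X m B => z.2 𝔫) h0
      have h2 : y.2 𝔫 = 0 := smul_eq_zero_of_notMem (P := 𝔫.1) hg𝔫 h1
      rw [h2, smul_zero]

/-- Lemma T. -/
theorem mem_range_of_pow_le_colon (hinj : Function.Injective m)
    (hker : ∀ i, ∃ n : ℕ, ∀ x ∈ RingHom.ker (algebraMap (Localization.AtPrime (m i)) (B i)),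
      ∀ y ∈ Ideal.map (algebraMap A (Localization.AtPrime (m i))) (m i) ^ n, y * x = 0)
    (x : X m B)
    (hx : ∀ i, x.1 i ∈ Set.range (algebraMap (Localization.AtPrime (m i)) (B i)))
    (M : ℕ) (hM : (⨅ i, m i) ^ M ≤ colon m B x) :
    x ∈ Set.range (algebraMap A (X m B)) := by
  by_contra hne
  have hc : colon m B x ≠ ⊤ := by
    intro h
    apply hne
    have h1 : (1 : A) ∈ colon m B x := h ▸ Submodule.mem_top
    obtain ⟨a, ha⟩ := (mem_colon m B).mp h1
    exact ⟨a, by rw [ha, one_smul]⟩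
  obtain ⟨P, hP, hcP⟩ := Ideal.exists_le_maximal _ hc
  haveI := hP.isPrime
  obtain ⟨i, hi⟩ := inf_le_prime m (hM.trans hcP)
  have hPi : m i = P := (hm i).eq_of_le hP.ne_top hi
  obtain ⟨d, hd⟩ := hx i
  obtain ⟨a₀, u, hu⟩ := IsLocalization.exists_mk'_eq (m i).primeCompl d
  have hx'i : ((u : A) • x - algebraMap A (X m B) a₀).1 i = 0 := by
    change (u : A) • x.1 i - algebraMap A (B i) a₀ = 0
    rw [← hd, ← hu, ← algebraMap_smul (Localization.AtPrime (m i)) (u : A)
      (algebraMap _ (B i) (IsLocalization.mk' _ a₀ u)), Algebra.smul_def, ← map_mul,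
      IsLocalization.mk'_spec', ← IsScalarTower.algebraMap_apply, sub_self]
  have hM' : (⨅ i, m i) ^ M ≤ colon m B ((u : A) • x - algebraMap A (X m B) a₀) := by
    intro g hg
    obtain ⟨a, ha⟩ := (mem_colon m B).mp (hM hg)
    refine (mem_colon m B).mpr ⟨(u : A) * a - g * a₀, ?_⟩
    rw [smul_sub, smul_comm, ← ha, map_sub, map_mul, map_mul, Algebra.smul_def, Algebra.smul_def]
  obtain ⟨v, hv, hvx⟩ := exists_smul_eq_zero m B hinj hker i _ hx'i M hM'
  have hmem : v * (u : A) ∈ colon m B x := by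
    refine (mem_colon m B).mpr ⟨v * a₀, ?_⟩
    rw [smul_sub, sub_eq_zero] at hvx
    rw [mul_smul, hvx, Algebra.smul_def, map_mul]
  have hle : P ≤ m i := hPi.ge
  have hmem' : v * (u : A) ∈ m i := hle (hcP hmem)
  rcases (hm i).isPrime.mem_or_mem hmem' with h | h
  · exact hv h
  · exact u.2 h

end Setup

end Groth.Agent.Lib.GlueMaxH1
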