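import Groth.Agent.Lib.FinExtPrin1_helper1
import Groth.Agent.Lib.GlueMax1_helper1

set_option autoImplicit false
set_option maxHeartbeats 1000000

universe u

namespace Groth.Agent.Lib.GlueHtH1

open IsLocalRing Groth.Agent.Lib.GlueMaxH1

section dimle

variable {R : Type u} [CommRing R] [IsNoetherianRing R]

theorem isArtinianRing_quot_le (hR : ringKrullDim R ≤ 1) {d : R} (hd : d ∈ nonZeroDivisors R) :
    IsArtinianRing (R ⧸ Ideal.span {d}) := by
  have h := (ringKrullDim_quotient_succ_le_of_nonZeroDivisor hd).trans hR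
  have h0 : ringKrullDim (R ⧸ Ideal.span {d}) ≤ 0 := by
    generalize ringKrullDim (R ⧸ Ideal.span {d}) = x at h
    induction x using WithBot.recBotCoe with
    | bot => exact bot_le
    | coe x =>
      have h' : ((x + 1 : ℕ∞) : WithBot ℕ∞) ≤ ((1 : ℕ∞) : WithBot ℕ∞) := by exact_mod_cast h
      rw [WithBot.coe_le_coe] at h'
      have hx0 : x = 0 := by
        induction x using ENat.recTopCoe with
        | top => simp at h'
        | coe n =>
          have : n + 1 ≤ 1 := by exact_mod_cast h'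
          have : n = 0 := by omega
          subst this; rfl
      subst hx0
      exact le_rfl
  haveI : Ring.KrullDimLE 0 (R ⧸ Ideal.span {d}) := Ring.krullDimLE_iff.mpr (by exact_mod_cast h0)
  exact IsNoetherianRing.isArtinianRing_of_krullDimLE_zero

theorem exists_pow_le_span_le [IsLocalRing R] (hR : ringKrullDim R ≤ 1) {d : R}
    (hd : d ∈ nonZeroDivisors R) : ∃ n : ℕ, maximalIdeal R ^ n ≤ Ideal.span {d} := by
  haveI := isArtinianRing_quot_le hR hd
  obtain ⟨n, hn⟩ := IsArtinianRing.isNilpotent_jacobson_bot (R := R ⧸ Ideal.span {d})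
  refine ⟨n, ?_⟩
  have hle : (maximalIdeal R).map (Ideal.Quotient.mk (Ideal.span {d})) ≤
      (⊥ : Ideal (R ⧸ Ideal.span {d})).jacobson := by
    rw [Ideal.jacobson]
    refine le_sInf ?_
    rintro J ⟨-, hJ⟩
    rw [Ideal.map_le_iff_le_comap]
    haveI := hJ
    have hc : (J.comap (Ideal.Quotient.mk (Ideal.span {d}))).IsMaximal :=
      Ideal.comap_isMaximal_of_surjective _ Ideal.Quotient.mk_surjective
    rw [IsLocalRing.eq_maximalIdeal hc]
  have h2 : (maximalIdeal R ^ n).map (Ideal.Quotient.mk (Ideal.span {d})) ≤ ⊥ := by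
    rw [Ideal.map_pow]
    calc _ ≤ (⊥ : Ideal (R ⧸ Ideal.span {d})).jacobson ^ n := Ideal.pow_right_mono hle n
      _ = ⊥ := hn
  rw [Ideal.map_le_iff_le_comap] at h2
  intro x hx
  have := h2 hx
  rw [Ideal.mem_comap, Ideal.mem_bot, Ideal.Quotient.eq_zero_iff_mem] at this
  exact this

end dimle

section Setup

variable {A : Type u} [CommRing A] [IsNoetherianRing A] [IsLocalRing A] (t : A) {r : ℕ}
  (q : Fin r → Ideal A) [hq : ∀ i, (q i).IsPrime]

theorem height_le_one (hA : ringKrullDim A = 2) (hqm : ∀ i, q i ≠ maximalIdeal A) (j : Fin r) :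
    (q j).height ≤ 1 := by
  have hltm : q j < maximalIdeal A :=
    lt_of_le_of_ne (IsLocalRing.le_maximalIdeal (hq j).ne_top) (hqm j)
  have h2 : (q j).height + 1 ≤ (maximalIdeal A).height :=
    Ideal.height_add_one_le_of_lt_of_isPrime hltm
  have h3 : (maximalIdeal A).height = 2 := by
    have h := IsLocalRing.maximalIdeal_height_eq_ringKrullDim (R := A)
    rw [hA] at h
    have h' : (((maximalIdeal A).height : ℕ∞) : WithBot ℕ∞) = ((2 : ℕ∞) : WithBot ℕ∞) := by
      rw [h]; rfl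
    exact WithBot.coe_injective h'
  rw [h3] at h2
  generalize (q j).height = x at h2
  induction x using ENat.recTopCoe with
  | top => simp at h2
  | coe k =>
    have : k + 1 ≤ 2 := by exact_mod_cast h2
    have : k ≤ 1 := by omega
    exact_mod_cast this

theorem inc (hA : ringKrullDim A = 2) (htnz : t ∈ nonZeroDivisors A) (hinj : Function.Injective q)
    (hqm : ∀ i, q i ≠ maximalIdeal A) (htq : ∀ i, t ∈ q i) {i j : Fin r} (h : q i ≤ q j) :
    i = j := by
  by_contra hij
  have hlt : q i < q j := lt_of_le_of_ne h (fun e => hij (hinj e))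
  have h1 : (q i).height + 1 ≤ (q j).height := Ideal.height_add_one_le_of_lt_of_isPrime hlt
  have h2 := height_le_one q hA hqm j
  have h0 : (q i).height ≠ 0 := by
    rw [Ne, Ideal.height_eq_zero_iff]
    intro hmin
    exact (notMem_nonZeroDivisors_of_mem_mem_minimalPrimes (htq i) hmin) htnz
  have h3 := h1.trans h2
  generalize (q i).height = x at h3 h0
  induction x using ENat.recTopCoe with
  | top => simp at h3
  | coe k =>
    have h4 : k + 1 ≤ 1 := by exact_mod_cast h3
    have h5 : k ≠ 0 := by exact_mod_cast h0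
    omega

theorem ringKrullDim_localization_le (hA : ringKrullDim A = 2) (hqm : ∀ i, q i ≠ maximalIdeal A)
    (j : Fin r) : ringKrullDim (Localization.AtPrime (q j)) ≤ 1 := by
  rw [IsLocalization.AtPrime.ringKrullDim_eq_height (q j)]
  exact_mod_cast height_le_one q hA hqm j

theorem map_pow_mem_nonZeroDivisors (htnz : t ∈ nonZeroDivisors A) (j : Fin r) (n : ℕ) :
    (algebraMap A (Localization.AtPrime (q j)) t) ^ n ∈
      nonZeroDivisors (Localization.AtPrime (q j)) := by
  have h : algebraMap A (Localization.AtPrime (q j)) t ∈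
      nonZeroDivisors (Localization.AtPrime (q j)) :=
    IsLocalization.map_nonZeroDivisors_le (q j).primeCompl _ (Submonoid.mem_map_of_mem _ htnz)
  exact pow_mem h n

variable (B : Fin r → Type u) [∀ i, CommRing (B i)]
  [∀ i, Algebra (Localization.AtPrime (q i)) (B i)]
  [∀ i, Algebra A (B i)] [∀ i, IsScalarTower A (Localization.AtPrime (q i)) (B i)] (n : ℕ)

/-- Numerators (over `t^n`) of elements of `B j`. -/
def aId (j : Fin r) : Ideal A where
  carrier := {a | ∃ b : B j, algebraMap A (B j) a = t ^ n • b}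
  add_mem' := by
    rintro a a' ⟨b, hb⟩ ⟨b', hb'⟩
    exact ⟨b + b', by rw [map_add, hb, hb', smul_add]⟩
  zero_mem' := ⟨0, by rw [map_zero, smul_zero]⟩
  smul_mem' := by
    rintro c a ⟨b, hb⟩
    exact ⟨c • b, by rw [smul_eq_mul, map_mul, hb, ← Algebra.smul_def, smul_comm]⟩

theorem mem_aId {j : Fin r} {a : A} :
    a ∈ aId t B n j ↔ ∃ b : B j, algebraMap A (B j) a = t ^ n • b := Iff.rfl

/-- Numerators over `t^n` of the module `M`. -/
def Mnum : Ideal A := ⨅ j, aId t B n j

theorem mem_Mnum {a : A} :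
    a ∈ Mnum t B n ↔ ∀ j, ∃ b : B j, algebraMap A (B j) a = t ^ n • b := by
  unfold Mnum
  rw [Ideal.mem_iInf]
  rfl

theorem pow_mul_mem_Mnum (a : A) : t ^ n * a ∈ Mnum t B n := by
  rw [mem_Mnum]
  intro j
  exact ⟨algebraMap A (B j) a, by rw [map_mul, ← Algebra.smul_def]⟩

theorem mul_mem_Mnum_add {a a' : A} (ha : a ∈ Mnum t B n) (ha' : a' ∈ Mnum t B n) :
    a * a' ∈ Mnum t B (n + n) := by
  rw [mem_Mnum] at ha ha' ⊢
  intro j
  obtain ⟨b, hb⟩ := ha j
  obtain ⟨b', hb'⟩ := ha' j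
  exact ⟨b * b', by rw [map_mul, hb, hb', smul_mul_smul_comm, pow_add]⟩

theorem Mnum_add_le : Mnum t B (n + n) ≤ Mnum t B n := by
  intro a ha
  rw [mem_Mnum] at ha ⊢
  intro j
  obtain ⟨b, hb⟩ := ha j
  exact ⟨t ^ n • b, by rw [hb, pow_add, mul_smul]⟩

theorem exists_pow_le_aId (hA : ringKrullDim A = 2) (htnz : t ∈ nonZeroDivisors A)
    (hqm : ∀ i, q i ≠ maximalIdeal A) (j : Fin r) : ∃ N : ℕ, (q j) ^ N ≤ aId t B n j := by
  obtain ⟨N, hN⟩ := exists_pow_le_span_le (R := Localization.AtPrime (q j))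
    (ringKrullDim_localization_le q hA hqm j) (map_pow_mem_nonZeroDivisors t q htnz j n)
  refine ⟨N, fun a ha => ?_⟩
  have h1 : algebraMap A (Localization.AtPrime (q j)) a ∈
      maximalIdeal (Localization.AtPrime (q j)) ^ N := by
    rw [← Localization.AtPrime.map_eq_maximalIdeal, ← Ideal.map_pow]
    exact Ideal.mem_map_of_mem _ ha
  obtain ⟨c, hc⟩ := Ideal.mem_span_singleton'.mp (hN h1)
  refine ⟨algebraMap (Localization.AtPrime (q j)) (B j) c, ?_⟩
  rw [IsScalarTower.algebraMap_apply A (Localization.AtPrime (q j)) (B j), ← hc, map_mul, map_pow,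
    ← IsScalarTower.algebraMap_apply, mul_comm, ← map_pow, ← Algebra.smul_def]

/-- Lemma L2. -/
theorem exists_mem_Mnum (hA : ringKrullDim A = 2) (htnz : t ∈ nonZeroDivisors A)
    (hinj : Function.Injective q) (hqm : ∀ i, q i ≠ maximalIdeal A) (htq : ∀ i, t ∈ q i)
    (hBn : ∀ i (b : B i), ∃ d : Localization.AtPrime (q i), algebraMap _ (B i) d = t ^ n • b)
    (i : Fin r) (b : B i) :
    ∃ s : A, s ∉ q i ∧ ∃ a ∈ Mnum t B n, algebraMap A (B i) a = t ^ n • (s • b) := by
  classical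
  obtain ⟨d, hd⟩ := hBn i b
  obtain ⟨a₀, s₀, hs₀⟩ := IsLocalization.exists_mk'_eq (q i).primeCompl d
  have ha₀ : algebraMap A (B i) a₀ = t ^ n • ((s₀ : A) • b) := by
    rw [smul_comm, ← hd, ← hs₀, ← algebraMap_smul (Localization.AtPrime (q i)) (s₀ : A)
      (algebraMap _ (B i) (IsLocalization.mk' _ a₀ s₀)), Algebra.smul_def, ← map_mul,
      IsLocalization.mk'_spec', ← IsScalarTower.algebraMap_apply]
  have hN : ∀ j, ∃ N : ℕ, (q j) ^ N ≤ aId t B n j :=
    fun j => exists_pow_le_aId t q B n hA htnz hqm j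
  choose N hN using hN
  have hu : ∀ j, ∃ u : A, j ≠ i → u ∈ q j ∧ u ∉ q i := by
    intro j
    by_cases hj : j = i
    · exact ⟨0, fun h => absurd hj h⟩
    · have hnle : ¬ q j ≤ q i := fun h => hj (inc t q hA htnz hinj hqm htq h)
      obtain ⟨u, hu1, hu2⟩ := SetLike.not_le_iff_exists.mp hnle
      exact ⟨u, fun _ => ⟨hu1, hu2⟩⟩
  choose u hu using hu
  obtain ⟨s₂, hs₂def⟩ : ∃ s₂ : A, s₂ = ∏ j ∈ Finset.univ.erase i, u j ^ N j := ⟨_, rfl⟩
  have hs₂i : s₂ ∉ q i := by
    rw [hs₂def]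
    apply prod_notMem
    intro j hj
    have hji : j ≠ i := Finset.ne_of_mem_erase hj
    exact fun h => (hu j hji).2 ((hq i).mem_of_pow_mem _ h)
  have hs₂j : ∀ j, j ≠ i → s₂ ∈ aId t B n j := by
    intro j hji
    have hmem : j ∈ Finset.univ.erase i := Finset.mem_erase.mpr ⟨hji, Finset.mem_univ j⟩
    rw [hs₂def, ← Finset.mul_prod_erase _ _ hmem]
    exact Ideal.mul_mem_right _ _ (hN j (Ideal.pow_mem_pow (hu j hji).1 (N j)))
  refine ⟨s₂ * (s₀ : A), ?_, s₂ * a₀, ?_, ?_⟩
  · intro h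
    rcases (hq i).mem_or_mem h with h | h
    · exact hs₂i h
    · exact s₀.2 h
  · rw [mem_Mnum]
    intro j
    by_cases hj : j = i
    · subst hj
      exact ⟨s₂ • ((s₀ : A) • b), by rw [map_mul, ha₀, ← Algebra.smul_def, smul_comm]⟩
    · exact (mem_aId t B n).mp (Ideal.mul_mem_right _ _ (hs₂j j hj))
  · rw [map_mul, ha₀, ← Algebra.smul_def, smul_comm, mul_smul]

end Setup

end Groth.Agent.Lib.GlueHtH1
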