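import Groth.Agent.Lib.GlueHt1_helper1

set_option autoImplicit false
set_option maxHeartbeats 1000000

universe u

namespace Groth.Agent.Lib.GlueHtH1

open IsLocalRing Groth.Agent.Lib.GlueMaxH1

section Setup

variable {A : Type u} [CommRing A] [IsNoetherianRing A] [IsLocalRing A] (t : A) {r : ℕ}
  (q : Fin r → Ideal A) [hq : ∀ i, (q i).IsPrime]
  (B : Fin r → Type u) [∀ i, CommRing (B i)]
  [∀ i, Algebra (Localization.AtPrime (q i)) (B i)]
  [∀ i, Algebra A (B i)] [∀ i, IsScalarTower A (Localization.AtPrime (q i)) (B i)] (n : ℕ)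

/-- Lemma L3. -/
theorem exists_pow_mul_le (hA : ringKrullDim A = 2) (htnz : t ∈ nonZeroDivisors A)
    (hinj : Function.Injective q) (hqm : ∀ i, q i ≠ maximalIdeal A) (htq : ∀ i, t ∈ q i)
    (hV : ∀ p : Ideal A, p.IsPrime → t ∈ p → p = maximalIdeal A ∨ ∃ i, p = q i)
    (hBinj : ∀ i, Function.Injective (algebraMap (Localization.AtPrime (q i)) (B i)))
    (hBn : ∀ i (b : B i), ∃ d : Localization.AtPrime (q i), algebraMap _ (B i) d = t ^ n • b) :
    ∃ c : ℕ, maximalIdeal A ^ c * Mnum t B (n + n) ≤ Ideal.span {t ^ n} * Mnum t B n := by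
  classical
  obtain ⟨J, hJdef⟩ : ∃ J : Ideal A, J = Ideal.span {t ^ n} * Mnum t B n := ⟨_, rfl⟩
  rw [← hJdef]
  obtain ⟨𝔟, h𝔟def⟩ : ∃ 𝔟 : Ideal A, 𝔟 = Submodule.colon J (Mnum t B (n + n) : Set A) := ⟨_, rfl⟩
  have hrad : maximalIdeal A ≤ 𝔟.radical := by
    rw [Ideal.radical_eq_sInf]
    refine le_sInf ?_
    rintro P ⟨h𝔟P, hP⟩
    by_contra hnle
    obtain ⟨G, hG⟩ : ∃ G : Finset A, Ideal.span (G : Set A) = Mnum t B (n + n) :=
      (IsNoetherian.noetherian (Mnum t B (n + n)))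
    have h1 : ∀ a' ∈ G, ∃ s : A, s ∉ P ∧ s * a' ∈ J := by
      intro a' ha'G
      have ha' : a' ∈ Mnum t B (n + n) := hG ▸ Ideal.subset_span ha'G
      by_cases htP : t ∈ P
      · rcases hV P hP htP with hPm | ⟨i, hPi⟩
        · exact absurd hPm.ge hnle
        · subst hPi
          obtain ⟨b, hb⟩ := (mem_Mnum t B (n + n)).mp ha' i
          obtain ⟨s, hs, a, haM, ha⟩ := exists_mem_Mnum t q B n hA htnz hinj hqm htq hBn i b
          have e : algebraMap A (B i) (t ^ n * a - s * a') = 0 := by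
            rw [map_sub, map_mul, map_mul, ha, hb, ← Algebra.smul_def, ← Algebra.smul_def, pow_add,
              mul_smul, smul_comm s (t ^ n), smul_comm s (t ^ n), sub_self]
          have e' : algebraMap A (Localization.AtPrime (q i)) (t ^ n * a - s * a') = 0 := by
            apply hBinj i
            rw [map_zero, ← IsScalarTower.algebraMap_apply]
            exact e
          obtain ⟨s₁, hs₁⟩ := (IsLocalization.map_eq_zero_iff (q i).primeCompl _ _).mp e'
          refine ⟨(s₁ : A) * s, ?_, ?_⟩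
          · intro h
            rcases (hq i).mem_or_mem h with h | h
            · exact s₁.2 h
            · exact hs h
          · have e2 : (s₁ : A) * s * a' = t ^ n * ((s₁ : A) * a) := by
              linear_combination (-1 : A) * hs₁
            rw [e2, hJdef]
            exact Ideal.mul_mem_mul (Ideal.mem_span_singleton_self _) (Ideal.mul_mem_left _ _ haM)
      · refine ⟨t ^ n, fun h => htP (hP.mem_of_pow_mem _ h), ?_⟩
        rw [hJdef]
        exact Ideal.mul_mem_mul (Ideal.mem_span_singleton_self _) (Mnum_add_le t B n ha')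
    choose! s hs1 hs2 using h1
    obtain ⟨g, hgdef⟩ : ∃ g : A, g = ∏ a' ∈ G, s a' := ⟨_, rfl⟩
    haveI := hP
    have hgP : g ∉ P := hgdef ▸ prod_notMem P G s hs1
    have hg𝔟 : g ∈ 𝔟 := by
      rw [h𝔟def, Submodule.mem_colon]
      intro a' ha'
      rw [SetLike.mem_coe, ← hG] at ha'
      refine Submodule.span_induction (p := fun a' _ => g • a' ∈ J) ?_ ?_ ?_ ?_ ha'
      · intro a' ha'G
        rw [smul_eq_mul, hgdef, ← Finset.mul_prod_erase G s ha'G]
        have e : s a' * (∏ x ∈ G.erase a', s x) * a' = (∏ x ∈ G.erase a', s x) * (s a' * a') := by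
          ring
        rw [e]
        exact Ideal.mul_mem_left _ _ (hs2 a' ha'G)
      · rw [smul_zero]; exact Submodule.zero_mem _
      · intro x y _ _ hx hy
        rw [smul_add]; exact Submodule.add_mem _ hx hy
      · intro c x _ hx
        rw [smul_comm]; exact Submodule.smul_mem _ c hx
    exact hgP (h𝔟P hg𝔟)
  obtain ⟨c, hc⟩ := Ideal.exists_pow_le_of_le_radical_of_fg hrad
    (IsNoetherian.noetherian (maximalIdeal A))
  refine ⟨c, Ideal.mul_le.mpr (fun g hg a' ha' => ?_)⟩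
  have := hc hg
  rw [h𝔟def, Submodule.mem_colon] at this
  exact this a' ha'

/-- The ideal of numerators of the glued algebra. -/
def numId (c : ℕ) : Ideal A := Ideal.span {t ^ n} ⊔ maximalIdeal A ^ (c + 1) * Mnum t B n

theorem span_le_numId (c : ℕ) : Ideal.span {t ^ n} ≤ numId t B n c := le_sup_left

theorem numId_le_Mnum (c : ℕ) : numId t B n c ≤ Mnum t B n := by
  refine sup_le ?_ Ideal.mul_le_right
  rw [Ideal.span_le, Set.singleton_subset_iff]
  have := pow_mul_mem_Mnum t B n 1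
  rwa [mul_one] at this

theorem numId_mul_le (c : ℕ)
    (hc : maximalIdeal A ^ c * Mnum t B (n + n) ≤ Ideal.span {t ^ n} * Mnum t B n) :
    numId t B n c * numId t B n c ≤ Ideal.span {t ^ n} * numId t B n c := by
  obtain ⟨T, hT⟩ : ∃ T : Ideal A, T = Ideal.span {t ^ n} := ⟨_, rfl⟩
  obtain ⟨M, hM⟩ : ∃ M : Ideal A, M = Mnum t B n := ⟨_, rfl⟩
  obtain ⟨M2, hM2⟩ : ∃ M2 : Ideal A, M2 = Mnum t B (n + n) := ⟨_, rfl⟩
  obtain ⟨𝔪, h𝔪⟩ : ∃ 𝔪 : Ideal A, 𝔪 = maximalIdeal A := ⟨_, rfl⟩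
  have hMM : M * M ≤ M2 := by
    rw [hM, hM2]
    exact Ideal.mul_le.mpr (fun a ha a' ha' => mul_mem_Mnum_add t B n ha ha')
  unfold numId
  rw [← hT, ← hM, ← h𝔪]
  rw [← hT, ← hM, ← hM2, ← h𝔪] at hc
  have hKK : (𝔪 ^ (c + 1) * M) * (𝔪 ^ (c + 1) * M) ≤ T * (𝔪 ^ (c + 1) * M) := by
    calc (𝔪 ^ (c + 1) * M) * (𝔪 ^ (c + 1) * M)
        = (𝔪 ^ (c + 1) * 𝔪 ^ (c + 1)) * (M * M) := by rw [mul_mul_mul_comm]
      _ = (𝔪 ^ (c + 2) * 𝔪 ^ c) * (M * M) := by
          rw [← pow_add, ← pow_add]; congr 2; omega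
      _ ≤ (𝔪 ^ (c + 2) * 𝔪 ^ c) * M2 := Ideal.mul_mono_right hMM
      _ = 𝔪 ^ (c + 2) * (𝔪 ^ c * M2) := by rw [mul_assoc]
      _ ≤ 𝔪 ^ (c + 2) * (T * M) := Ideal.mul_mono_right hc
      _ = T * (𝔪 ^ (c + 2) * M) := by rw [mul_left_comm]
      _ ≤ T * (𝔪 ^ (c + 1) * M) :=
          Ideal.mul_mono_right (Ideal.mul_mono_left (Ideal.pow_le_pow_right (by omega)))
  rw [Ideal.sup_mul, Ideal.mul_sup (I := 𝔪 ^ (c + 1) * M)]
  refine sup_le le_rfl (sup_le ?_ ?_)
  · rw [mul_comm]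
    exact Ideal.mul_mono_right le_sup_right
  · exact hKK.trans (Ideal.mul_mono_right le_sup_right)

/-- The glued algebra as a subalgebra of `A[1/t]`. -/
def Csub (𝔅 : Ideal A) (hT : Ideal.span {t ^ n} ≤ 𝔅)
    (hmul : 𝔅 * 𝔅 ≤ Ideal.span {t ^ n} * 𝔅) : Subalgebra A (Localization.Away t) where
  carrier := {x | ∃ z ∈ 𝔅, x * algebraMap A (Localization.Away t) (t ^ n) =
    algebraMap A (Localization.Away t) z}
  mul_mem' := by
    rintro x x' ⟨z, hz, hx⟩ ⟨z', hz', hx'⟩
    obtain ⟨z'', hz'', e⟩ := Ideal.mem_span_singleton_mul.mp (hmul (Ideal.mul_mem_mul hz hz'))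
    refine ⟨z'', hz'', ?_⟩
    have hu : IsUnit (algebraMap A (Localization.Away t) (t ^ n)) := by
      rw [map_pow]; exact (IsLocalization.Away.algebraMap_isUnit t).pow n
    apply hu.mul_right_cancel
    calc x * x' * algebraMap A (Localization.Away t) (t ^ n) *
          algebraMap A (Localization.Away t) (t ^ n)
        = (x * algebraMap A (Localization.Away t) (t ^ n)) *
          (x' * algebraMap A (Localization.Away t) (t ^ n)) := by ring
      _ = algebraMap A (Localization.Away t) z * algebraMap A (Localization.Away t) z' := by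
          rw [hx, hx']
      _ = algebraMap A (Localization.Away t) z'' * algebraMap A (Localization.Away t) (t ^ n) := by
          rw [← map_mul, ← e, map_mul, mul_comm]
  one_mem' := ⟨t ^ n, hT (Ideal.mem_span_singleton_self _), by rw [one_mul]⟩
  add_mem' := by
    rintro x x' ⟨z, hz, hx⟩ ⟨z', hz', hx'⟩
    exact ⟨z + z', add_mem hz hz', by rw [add_mul, hx, hx', map_add]⟩
  zero_mem' := ⟨0, zero_mem _, by rw [zero_mul, map_zero]⟩
  algebraMap_mem' := fun a =>
    ⟨t ^ n * a, Ideal.mul_mem_right _ _ (hT (Ideal.mem_span_singleton_self _)), by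
      rw [map_mul, mul_comm]⟩

variable {t n}

theorem mem_Csub {𝔅 : Ideal A} {hT : Ideal.span {t ^ n} ≤ 𝔅}
    {hmul : 𝔅 * 𝔅 ≤ Ideal.span {t ^ n} * 𝔅} {x : Localization.Away t} :
    x ∈ Csub t n 𝔅 hT hmul ↔ ∃ z ∈ 𝔅, x * algebraMap A (Localization.Away t) (t ^ n) =
      algebraMap A (Localization.Away t) z := Iff.rfl

theorem Csub_injective (htnz : t ∈ nonZeroDivisors A) (𝔅 : Ideal A)
    (hT : Ideal.span {t ^ n} ≤ 𝔅) (hmul : 𝔅 * 𝔅 ≤ Ideal.span {t ^ n} * 𝔅) :
    Function.Injective (algebraMap A (Csub t n 𝔅 hT hmul)) := by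
  intro a a' h
  have h' : algebraMap A (Localization.Away t) a = algebraMap A (Localization.Away t) a' :=
    congrArg Subtype.val h
  exact IsLocalization.injective (Localization.Away t) (Submonoid.powers_le.mpr htnz) h'

theorem Csub_finite (𝔅 : Ideal A)
    (hT : Ideal.span {t ^ n} ≤ 𝔅) (hmul : 𝔅 * 𝔅 ≤ Ideal.span {t ^ n} * 𝔅) :
    Module.Finite A (Csub t n 𝔅 hT hmul) := by
  have hu : IsUnit (algebraMap A (Localization.Away t) (t ^ n)) := by
    rw [map_pow]; exact (IsLocalization.Away.algebraMap_isUnit t).pow n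
  obtain ⟨w, hw⟩ := hu
  have hmem : ∀ z : 𝔅, algebraMap A (Localization.Away t) (z : A) * (↑w⁻¹ : Localization.Away t) ∈
      Csub t n 𝔅 hT hmul := by
    intro z
    refine ⟨z, z.2, ?_⟩
    rw [← hw, mul_assoc, Units.inv_mul, mul_one]
  let f : 𝔅 →ₗ[A] Csub t n 𝔅 hT hmul :=
    { toFun := fun z => ⟨_, hmem z⟩
      map_add' := fun z z' => Subtype.ext (by
        change algebraMap A (Localization.Away t) ((z : A) + (z' : A)) * _ = _ * _ + _ * _
        rw [map_add, add_mul])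
      map_smul' := fun a z => Subtype.ext (by
        change algebraMap A (Localization.Away t) (a • (z : A)) * _ = a • (_ * _)
        rw [smul_eq_mul, map_mul, Algebra.smul_def, mul_assoc]) }
  have hf : Function.Surjective f := by
    rintro ⟨x, z, hz, hx⟩
    refine ⟨⟨z, hz⟩, Subtype.ext ?_⟩
    change algebraMap A (Localization.Away t) z * (↑w⁻¹ : Localization.Away t) = x
    rw [← hx, ← hw, mul_assoc, Units.mul_inv, mul_one]
  exact Module.Finite.of_surjective f hf

theorem Csub_smul_mem (𝔅 : Ideal A)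
    (hT : Ideal.span {t ^ n} ≤ 𝔅) (hmul : 𝔅 * 𝔅 ≤ Ideal.span {t ^ n} * 𝔅)
    (x : A) (hx : x ∈ Ideal.span {t} ^ n) (c : Csub t n 𝔅 hT hmul) :
    x • c ∈ (algebraMap A (Csub t n 𝔅 hT hmul)).range := by
  rw [Ideal.span_singleton_pow] at hx
  obtain ⟨a', rfl⟩ := Ideal.mem_span_singleton'.mp hx
  obtain ⟨y, z, hz, hy⟩ := c
  refine ⟨a' * z, Subtype.ext ?_⟩
  change algebraMap A (Localization.Away t) (a' * z) = (a' * t ^ n) • y
  rw [map_mul, ← hy, Algebra.smul_def, map_mul]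
  ring

end Setup

end Groth.Agent.Lib.GlueHtH1
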