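import Groth.Agent.Lib.GlueHt2_helper1

set_option autoImplicit false
set_option maxHeartbeats 1000000

universe u

open TensorProduct

namespace Groth.Agent.Lib.GlueHtH1

open IsLocalRing Groth.Agent.Lib.GlueMaxH1

section Setup

variable {A : Type u} [CommRing A] [IsNoetherianRing A] [IsLocalRing A] {t : A} {r : ℕ}
  {q : Fin r → Ideal A} [hq : ∀ i, (q i).IsPrime]
  {B : Fin r → Type u} [∀ i, CommRing (B i)]
  [∀ i, Algebra (Localization.AtPrime (q i)) (B i)]
  [∀ i, Algebra A (B i)] [∀ i, IsScalarTower A (Localization.AtPrime (q i)) (B i)] {n : ℕ}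

theorem pow_smul_eq_zero {i : Fin r} (hreg : ∀ i (b : B i), t • b = 0 → b = 0) (k : ℕ) (b : B i)
    (h : t ^ k • b = 0) : b = 0 := by
  induction k generalizing b with
  | zero => rwa [pow_zero, one_smul] at h
  | succ k ih =>
    rw [pow_succ, mul_smul] at h
    exact hreg i b (ih (t • b) h)

theorem pow_smul_cancel {i : Fin r} (hreg : ∀ i (b : B i), t • b = 0 → b = 0) (k : ℕ) (b b' : B i)
    (h : t ^ k • b = t ^ k • b') : b = b' := by
  rw [← sub_eq_zero]
  apply pow_smul_eq_zero hreg k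
  rw [smul_sub, h, sub_self]

variable {𝔅 : Ideal A} {hT : Ideal.span {t ^ n} ≤ 𝔅} {hmul : 𝔅 * 𝔅 ≤ Ideal.span {t ^ n} * 𝔅}

theorem exists_psi (h𝔅M : 𝔅 ≤ Mnum t B n) (i : Fin r) (x : Csub t n 𝔅 hT hmul) :
    ∃ b : B i, ∃ z ∈ 𝔅, (x : Localization.Away t) * algebraMap A (Localization.Away t) (t ^ n) =
      algebraMap A (Localization.Away t) z ∧ algebraMap A (B i) z = t ^ n • b := by
  obtain ⟨z, hz, hx⟩ := x.2
  obtain ⟨b, hb⟩ := (mem_Mnum t B n).mp (h𝔅M hz) i
  exact ⟨b, z, hz, hx, hb⟩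

/-- The map to the `i`-th local algebra, as a function. -/
noncomputable def psiFun (h𝔅M : 𝔅 ≤ Mnum t B n) (i : Fin r) (x : Csub t n 𝔅 hT hmul) : B i :=
  Classical.choose (exists_psi h𝔅M i x)

theorem psiFun_eq (htnz : t ∈ nonZeroDivisors A) (hreg : ∀ i (b : B i), t • b = 0 → b = 0)
    (h𝔅M : 𝔅 ≤ Mnum t B n) (i : Fin r) (x : Csub t n 𝔅 hT hmul) (z : A) (b : B i)
    (hx : (x : Localization.Away t) * algebraMap A (Localization.Away t) (t ^ n) =
      algebraMap A (Localization.Away t) z) (hb : algebraMap A (B i) z = t ^ n • b) :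
    psiFun h𝔅M i x = b := by
  obtain ⟨z', -, hx', hb'⟩ := Classical.choose_spec (exists_psi h𝔅M i x)
  have hzz : z' = z :=
    IsLocalization.injective (Localization.Away t) (Submonoid.powers_le.mpr htnz)
      (hx'.symm.trans hx)
  rw [hzz, hb] at hb'
  exact (pow_smul_cancel hreg n _ _ hb').symm

theorem psiFun_spec (h𝔅M : 𝔅 ≤ Mnum t B n) (i : Fin r) (x : Csub t n 𝔅 hT hmul) :
    ∃ z ∈ 𝔅, (x : Localization.Away t) * algebraMap A (Localization.Away t) (t ^ n) =
      algebraMap A (Localization.Away t) z ∧ algebraMap A (B i) z = t ^ n • psiFun h𝔅M i x :=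
  Classical.choose_spec (exists_psi h𝔅M i x)

/-- The map to the `i`-th local algebra, as a linear map. -/
noncomputable def psi (htnz : t ∈ nonZeroDivisors A) (hreg : ∀ i (b : B i), t • b = 0 → b = 0)
    (h𝔅M : 𝔅 ≤ Mnum t B n) (i : Fin r) : Csub t n 𝔅 hT hmul →ₗ[A] B i where
  toFun := psiFun h𝔅M i
  map_add' := fun x x' => by
    obtain ⟨z, -, hx, hb⟩ := psiFun_spec h𝔅M i x
    obtain ⟨z', -, hx', hb'⟩ := psiFun_spec h𝔅M i x'
    apply psiFun_eq htnz hreg h𝔅M i (x + x') (z + z')
    · change ((x : Localization.Away t) + (x' : Localization.Away t)) * _ = _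
      rw [add_mul, hx, hx', map_add]
    · rw [map_add, hb, hb', smul_add]
  map_smul' := fun a x => by
    obtain ⟨z, -, hx, hb⟩ := psiFun_spec h𝔅M i x
    apply psiFun_eq htnz hreg h𝔅M i (a • x) (a * z)
    · change (a • (x : Localization.Away t)) * _ = _
      rw [smul_mul_assoc, hx, map_mul, Algebra.smul_def]
    · rw [map_mul, hb, ← Algebra.smul_def, smul_comm]
      rfl

theorem psi_eq (htnz : t ∈ nonZeroDivisors A) (hreg : ∀ i (b : B i), t • b = 0 → b = 0)
    (h𝔅M : 𝔅 ≤ Mnum t B n) (i : Fin r) (x : Csub t n 𝔅 hT hmul) (z : A) (b : B i)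
    (hx : (x : Localization.Away t) * algebraMap A (Localization.Away t) (t ^ n) =
      algebraMap A (Localization.Away t) z) (hb : algebraMap A (B i) z = t ^ n • b) :
    psi htnz hreg h𝔅M i x = b := psiFun_eq htnz hreg h𝔅M i x z b hx hb

theorem psi_spec (htnz : t ∈ nonZeroDivisors A) (hreg : ∀ i (b : B i), t • b = 0 → b = 0)
    (h𝔅M : 𝔅 ≤ Mnum t B n) (i : Fin r) (x : Csub t n 𝔅 hT hmul) :
    ∃ z ∈ 𝔅, (x : Localization.Away t) * algebraMap A (Localization.Away t) (t ^ n) =
      algebraMap A (Localization.Away t) z ∧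
      algebraMap A (B i) z = t ^ n • psi htnz hreg h𝔅M i x := psiFun_spec h𝔅M i x

theorem psi_one (htnz : t ∈ nonZeroDivisors A) (hreg : ∀ i (b : B i), t • b = 0 → b = 0)
    (h𝔅M : 𝔅 ≤ Mnum t B n) (i : Fin r) :
    psi htnz hreg h𝔅M i (1 : Csub t n 𝔅 hT hmul) = 1 := by
  apply psi_eq htnz hreg h𝔅M i 1 (t ^ n)
  · change (1 : Localization.Away t) * _ = _
    rw [one_mul]
  · rw [Algebra.algebraMap_eq_smul_one]

theorem psi_mul (htnz : t ∈ nonZeroDivisors A) (hreg : ∀ i (b : B i), t • b = 0 → b = 0)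
    (h𝔅M : 𝔅 ≤ Mnum t B n) (i : Fin r) (x x' : Csub t n 𝔅 hT hmul) :
    psi htnz hreg h𝔅M i (x * x') = psi htnz hreg h𝔅M i x * psi htnz hreg h𝔅M i x' := by
  obtain ⟨z, hz, hx, hb⟩ := psi_spec htnz hreg h𝔅M i x
  obtain ⟨z', hz', hx', hb'⟩ := psi_spec htnz hreg h𝔅M i x'
  obtain ⟨z'', -, e⟩ := Ideal.mem_span_singleton_mul.mp (hmul (Ideal.mul_mem_mul hz hz'))
  apply psi_eq htnz hreg h𝔅M i (x * x') z''
  · have hu : IsUnit (algebraMap A (Localization.Away t) (t ^ n)) := by
      rw [map_pow]; exact (IsLocalization.Away.algebraMap_isUnit t).pow n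
    apply hu.mul_right_cancel
    change (x : Localization.Away t) * (x' : Localization.Away t) * _ * _ = _
    calc (x : Localization.Away t) * (x' : Localization.Away t) *
          algebraMap A (Localization.Away t) (t ^ n) * algebraMap A (Localization.Away t) (t ^ n)
        = ((x : Localization.Away t) * algebraMap A (Localization.Away t) (t ^ n)) *
          ((x' : Localization.Away t) * algebraMap A (Localization.Away t) (t ^ n)) := by ring
      _ = algebraMap A (Localization.Away t) z * algebraMap A (Localization.Away t) z' := by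
          rw [hx, hx']
      _ = algebraMap A (Localization.Away t) z'' * algebraMap A (Localization.Away t) (t ^ n) := by
          rw [← map_mul, ← e, map_mul, mul_comm]
  · apply pow_smul_cancel hreg n
    rw [Algebra.smul_def, ← map_mul, e, map_mul, hb, hb', smul_mul_smul_comm, mul_smul]

theorem isLocalizedModule_psi (hA : ringKrullDim A = 2) (htnz : t ∈ nonZeroDivisors A)
    (hinj : Function.Injective q) (hqm : ∀ i, q i ≠ maximalIdeal A) (htq : ∀ i, t ∈ q i)
    (hBinj : ∀ i, Function.Injective (algebraMap (Localization.AtPrime (q i)) (B i)))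
    (hBn : ∀ i (b : B i), ∃ d : Localization.AtPrime (q i), algebraMap _ (B i) d = t ^ n • b)
    (hreg : ∀ i (b : B i), t • b = 0 → b = 0)
    (h𝔅M : 𝔅 ≤ Mnum t B n) (c : ℕ) (hK : maximalIdeal A ^ (c + 1) * Mnum t B n ≤ 𝔅) (i : Fin r) :
    IsLocalizedModule (q i).primeCompl (psi (hT := hT) (hmul := hmul) htnz hreg h𝔅M i) where
  map_units := fun s => by
    rw [← (Algebra.lsmul A (A := Localization.AtPrime (q i)) A (B i)).commutes]
    exact (IsLocalization.map_units (Localization.AtPrime (q i)) s).map _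
  surj := fun b => by
    obtain ⟨s, hs, a, haM, ha⟩ := exists_mem_Mnum t q B n hA htnz hinj hqm htq hBn i b
    have hnle : ¬ maximalIdeal A ^ (c + 1) ≤ q i := by
      intro h
      have h1 : maximalIdeal A ≤ q i := Ideal.IsPrime.le_of_pow_le h
      exact hqm i ((maximalIdeal.isMaximal A).eq_of_le (hq i).ne_top h1).symm
    obtain ⟨g, hg, hgq⟩ := SetLike.not_le_iff_exists.mp hnle
    have hu : IsUnit (algebraMap A (Localization.Away t) (t ^ n)) := by
      rw [map_pow]; exact (IsLocalization.Away.algebraMap_isUnit t).pow n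
    obtain ⟨w, hw⟩ := hu
    have hz : g * a ∈ 𝔅 := hK (Ideal.mul_mem_mul hg haM)
    have hxτ : algebraMap A (Localization.Away t) (g * a) * (↑w⁻¹ : Localization.Away t) *
        algebraMap A (Localization.Away t) (t ^ n) = algebraMap A (Localization.Away t) (g * a) := by
      rw [← hw, mul_assoc, Units.inv_mul, mul_one]
    have hxC : algebraMap A (Localization.Away t) (g * a) * (↑w⁻¹ : Localization.Away t) ∈
        Csub t n 𝔅 hT hmul := ⟨g * a, hz, hxτ⟩
    have hgs : g * s ∉ q i := by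
      intro h
      rcases (hq i).mem_or_mem h with h | h
      · exact hgq h
      · exact hs h
    have key : psi (hT := hT) (hmul := hmul) htnz hreg h𝔅M i ⟨_, hxC⟩ = (g * s) • b := by
      apply psi_eq htnz hreg h𝔅M i _ (g * a) _ hxτ
      rw [map_mul, ha, ← Algebra.smul_def, smul_comm, mul_smul]
    exact ⟨(⟨_, hxC⟩, ⟨g * s, Ideal.mem_primeCompl_iff.mpr hgs⟩), key.symm⟩
  exists_of_eq := fun {x₁ x₂} h => by
    have h0 : psi (hT := hT) (hmul := hmul) htnz hreg h𝔅M i (x₁ - x₂) = 0 := by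
      rw [map_sub, h, sub_self]
    obtain ⟨z, -, hx, hb⟩ := psi_spec htnz hreg h𝔅M i (x₁ - x₂)
    rw [h0, smul_zero] at hb
    have hz0 : algebraMap A (Localization.AtPrime (q i)) z = 0 := by
      apply hBinj i
      rw [map_zero, ← IsScalarTower.algebraMap_apply]
      exact hb
    obtain ⟨s, hs⟩ := (IsLocalization.map_eq_zero_iff (q i).primeCompl _ _).mp hz0
    refine ⟨s, ?_⟩
    have hu : IsUnit (algebraMap A (Localization.Away t) (t ^ n)) := by
      rw [map_pow]; exact (IsLocalization.Away.algebraMap_isUnit t).pow n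
    have h1 : (s : A) • (x₁ - x₂) = 0 := by
      apply Subtype.ext
      apply hu.mul_right_cancel
      change ((s : A) • ((x₁ - x₂ : Csub t n 𝔅 hT hmul) : Localization.Away t)) * _ = 0 * _
      rw [smul_mul_assoc, hx, zero_mul, Algebra.smul_def, ← map_mul, hs, map_zero]
    rw [smul_sub, sub_eq_zero] at h1
    exact h1

theorem nonempty_algEquiv (hA : ringKrullDim A = 2) (htnz : t ∈ nonZeroDivisors A)
    (hinj : Function.Injective q) (hqm : ∀ i, q i ≠ maximalIdeal A) (htq : ∀ i, t ∈ q i)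
    (hBinj : ∀ i, Function.Injective (algebraMap (Localization.AtPrime (q i)) (B i)))
    (hBn : ∀ i (b : B i), ∃ d : Localization.AtPrime (q i), algebraMap _ (B i) d = t ^ n • b)
    (hreg : ∀ i (b : B i), t • b = 0 → b = 0)
    (h𝔅M : 𝔅 ≤ Mnum t B n) (c : ℕ) (hK : maximalIdeal A ^ (c + 1) * Mnum t B n ≤ 𝔅) (i : Fin r) :
    Nonempty (TensorProduct A (Localization.AtPrime (q i)) (Csub t n 𝔅 hT hmul)
      ≃ₐ[Localization.AtPrime (q i)] B i) := by
  haveI := isLocalizedModule_psi (hT := hT) (hmul := hmul) hA htnz hinj hqm htq hBinj hBn hreg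
    h𝔅M c hK i
  have hbc : IsBaseChange (Localization.AtPrime (q i))
      (psi (hT := hT) (hmul := hmul) htnz hreg h𝔅M i) :=
    IsLocalizedModule.isBaseChange (q i).primeCompl _ _
  refine ⟨Algebra.TensorProduct.algEquivOfLinearEquivTensorProduct hbc.equiv ?_ ?_⟩
  · intro a₁ a₂ c₁ c₂
    rw [IsBaseChange.equiv_tmul, IsBaseChange.equiv_tmul, IsBaseChange.equiv_tmul, psi_mul,
      smul_mul_smul_comm]
  · rw [IsBaseChange.equiv_tmul, one_smul, psi_one]

end Setup

section Main

theorem main6481 (A : Type u) [CommRing A] [IsNoetherianRing A] [IsLocalRing A]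
    (hA : ringKrullDim A = 2) (t : A) (htnz : t ∈ nonZeroDivisors A) (r : ℕ)
    (q : Fin r → Ideal A) [hq : ∀ i, (q i).IsPrime] (hinj : Function.Injective q)
    (hqm : ∀ i, q i ≠ maximalIdeal A) (htq : ∀ i, t ∈ q i)
    (hV : ∀ p : Ideal A, p.IsPrime → t ∈ p → p = maximalIdeal A ∨ ∃ i, p = q i)
    (B : Fin r → Type u) [∀ i, CommRing (B i)] [∀ i, Algebra (Localization.AtPrime (q i)) (B i)]
    [∀ i, Algebra A (B i)] [∀ i, IsScalarTower A (Localization.AtPrime (q i)) (B i)]
    (hBinj : ∀ i, Function.Injective (algebraMap (Localization.AtPrime (q i)) (B i)))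
    (n : ℕ)
    (hBn : ∀ i (b : B i), ∃ d : Localization.AtPrime (q i), algebraMap _ (B i) d = t ^ n • b)
    (hreg : ∀ i (b : B i), t • b = 0 → b = 0) :
    ∃ (C : Type u) (_ : CommRing C) (_ : Algebra A C),
      (Function.Injective (algebraMap A C) ∧ Module.Finite A C ∧
        ∃ k : ℕ, ∀ x ∈ Ideal.span {t} ^ k, ∀ c : C, x • c ∈ (algebraMap A C).range) ∧
      ∀ i, Nonempty (TensorProduct A (Localization.AtPrime (q i)) C
        ≃ₐ[Localization.AtPrime (q i)] B i) := by
  obtain ⟨c, hc⟩ := exists_pow_mul_le t q B n hA htnz hinj hqm htq hV hBinj hBn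
  have hT := span_le_numId t B n c
  have hmul := numId_mul_le t B n c hc
  have h𝔅M := numId_le_Mnum t B n c
  have hK : maximalIdeal A ^ (c + 1) * Mnum t B n ≤ numId t B n c := le_sup_right
  refine ⟨Csub t n (numId t B n c) hT hmul, inferInstance, inferInstance,
    ⟨Csub_injective htnz _ hT hmul, Csub_finite _ hT hmul, n,
      fun x hx c => Csub_smul_mem _ hT hmul x hx c⟩,
    fun i => nonempty_algEquiv hA htnz hinj hqm htq hBinj hBn hreg h𝔅M c hK i⟩

end Main

end Groth.Agent.Lib.GlueHtH1
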