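import Mathlib
import Groth.Prelude.Def_EtGlue
import Groth.Agent.Lib.EtGlue2_helper4

/-!
# Glueable modules for a glueing pair: flat ascent (helper7)
-/

set_option autoImplicit false
set_option linter.unusedSectionVars false

namespace Groth.Agent.Lib.GlueLocal1H7

open TensorProduct Groth.Agent.Lib.EtGlueH4

universe u

variable {R R' : Type u} [CommRing R] [CommRing R'] [Algebra R R'] {f : R}

/-- Glueability ascends along flat ring maps. -/
theorem glueable_of_flat (hRR : EtGlue.IsGlueingPair R R' f) (A B : Type u) [CommRing A]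
    [Algebra R A] [CommRing B] [Algebra R B] [Algebra A B] [IsScalarTower R A B]
    [Module.Flat A B] (hA : EtGlue.IsGlueable R R' f A) : EtGlue.IsGlueable R R' f B := by
  rw [glueable_iff_of_pair A hRR] at hA
  rw [glueable_iff_of_pair B hRR]
  rintro b ⟨n, hn⟩ hb
  obtain ⟨a, ha⟩ : ∃ a : A, a = algebraMap R A (f ^ n) := ⟨_, rfl⟩
  let L : A →ₗ[A] A := LinearMap.lsmul A A a
  let T : Submodule A A := LinearMap.ker L
  let ι : A →ₗ[A] A ⊗[R] R' :=
    (Algebra.TensorProduct.includeLeft (R := R) (S := A) (A := A) (B := R')).toLinearMap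
  let j : T →ₗ[A] A ⊗[R] R' := ι ∘ₗ T.subtype
  have hj : Function.Injective j := by
    rw [injective_iff_map_eq_zero]
    intro t ht
    have ht0 : (t : A) ⊗ₜ[R] (1 : R') = 0 := ht
    have h1 : (1 : R') ⊗ₜ[R] (t : A) = 0 := by
      have := congrArg (TensorProduct.comm R A R') ht0
      simpa using this
    have h2 : f ^ n • (t : A) = 0 := by
      have h3 : L (t : A) = 0 := t.2
      rw [Algebra.smul_def, ← ha]
      exact h3
    exact Subtype.ext (hA t ⟨n, h2⟩ h1)
  have hjB := Module.Flat.lTensor_preserves_injective_linearMap (M := B) j hj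
  have hex : Function.Exact (T.subtype.lTensor B) (L.lTensor B) :=
    Module.Flat.lTensor_exact B (LinearMap.exact_subtype_ker_map L)
  have hab : a • b = 0 := by
    rw [ha, algebraMap_smul]
    exact hn
  have hb1 : L.lTensor B (b ⊗ₜ[A] (1 : A)) = 0 := by
    rw [LinearMap.lTensor_tmul]
    have h4 : L 1 = a • (1 : A) := rfl
    rw [h4, TensorProduct.tmul_smul, TensorProduct.smul_tmul', hab, TensorProduct.zero_tmul]
  obtain ⟨τ, hτ⟩ := (hex _).mp hb1
  have hτ0 : j.lTensor B τ = 0 := by
    have h5 : j.lTensor B τ = ι.lTensor B (T.subtype.lTensor B τ) := by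
      change (ι ∘ₗ T.subtype).lTensor B τ = _
      rw [LinearMap.lTensor_comp]
      rfl
    rw [h5, hτ, LinearMap.lTensor_tmul]
    have hι : ι 1 = (1 : A) ⊗ₜ[R] (1 : R') := rfl
    rw [hι]
    apply (TensorProduct.AlgebraTensorModule.cancelBaseChange R A A B R').injective
    rw [TensorProduct.AlgebraTensorModule.cancelBaseChange_tmul, one_smul, map_zero]
    have := congrArg (TensorProduct.comm R R' B) hb
    simpa using this
  have hτ' : τ = 0 := hjB (by rw [hτ0, map_zero])
  rw [hτ', map_zero] at hτ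
  have := congrArg (TensorProduct.rid A B) hτ.symm
  simpa using this

/-- The image of a torsion element killed in `R' ⊗ -` under an `R`-linear ring map to a glueable
algebra vanishes. -/
theorem map_eq_zero_of_glueable (hRR : EtGlue.IsGlueingPair R R' f) (B C : Type u) [CommRing B]
    [Algebra R B] [CommRing C] [Algebra R C] (ψ : B →ₐ[R] C) (hC : EtGlue.IsGlueable R R' f C)
    (b : B) (hb : ∃ n : ℕ, f ^ n • b = 0) (hb' : (1 : R') ⊗ₜ[R] b = 0) : ψ b = 0 := by
  rw [glueable_iff_of_pair C hRR] at hC
  obtain ⟨n, hn⟩ := hb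
  apply hC (ψ b) ⟨n, by rw [← map_smul, hn, map_zero]⟩
  have := congrArg (LinearMap.lTensor R' ψ.toLinearMap) hb'
  simpa using this

end Groth.Agent.Lib.GlueLocal1H7
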