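import Groth.Agent.Lib.GlueLocal1_helper7
import Groth.Agent.Lib.FpqcRefine2_helper7
import Groth.Agent.Lib.AlgSpReduced_helper7

/-!
# Glueability of an algebraic space over a glueing pair is étale local (helper7)
-/

set_option autoImplicit false
set_option linter.style.haveILetI false
universe u
open CategoryTheory CategoryTheory.Limits AlgebraicGeometry Opposite MorphismProperty TensorProduct
open AlgSp Groth.Agent.Lib.AlgSpPoints_helper7 Groth.Agent.Lib.EtGlueH4
  Groth.Agent.Lib.GlueLocal1H7 Groth.Agent.Lib.AlgSpPullback_helper7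

namespace Groth.Agent.Lib.GlueLocal2H7

/-- A global section vanishing on a jointly surjective family of flat morphisms vanishes. -/
theorem section_eq_zero_of_flat_cover {T : Scheme.{u}} (a : Γ(T, ⊤))
    (H : ∀ t : T, ∃ (W : Scheme.{u}) (p : W ⟶ T) (_ : Flat p) (w : W),
      p w = t ∧ p.appTop.hom a = 0) : a = 0 := by
  apply TopCat.Presheaf.section_ext T.sheaf ⊤ a 0
  intro t ht
  obtain ⟨W, p, hp, w, rfl, h0⟩ := H t
  apply Groth.Agent.Lib.AlgSpReduced_helper7.stalkMap_injective_of_flat p w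
  have e1 := Scheme.Hom.germ_stalkMap_apply p ⊤ w ht a
  have h0' : (p.app ⊤).hom a = 0 := h0
  rw [h0', map_zero] at e1
  simp only [map_zero]
  exact e1.trans (map_zero _).symm

/-- Ring version. -/
theorem eq_zero_of_flat_cover (B : Type u) [CommRing B] (b : B)
    (H : ∀ t : ↥(Spec (CommRingCat.of B)), ∃ (C : CommRingCat.{u}) (ψ : CommRingCat.of B ⟶ C),
      Flat (Spec.map ψ) ∧ t ∈ Set.range (Spec.map ψ) ∧ ψ.hom b = 0) : b = 0 := by
  have h0 : (Scheme.ΓSpecIso (CommRingCat.of B)).inv.hom b = 0 := by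
    apply section_eq_zero_of_flat_cover
    intro t
    obtain ⟨C, ψ, hfl, ⟨w, hw⟩, hb⟩ := H t
    refine ⟨Spec C, Spec.map ψ, hfl, w, hw, ?_⟩
    have h2 := congrArg (fun m => m.hom b) (Scheme.ΓSpecIso_inv_naturality ψ)
    simp only [CommRingCat.hom_comp, RingHom.comp_apply] at h2
    rw [← h2, hb, map_zero]
  have := congrArg (Scheme.ΓSpecIso (CommRingCat.of B)).hom.hom h0
  simpa using this

variable (R : Type u) [CommRing R] (R' : Type u) [CommRing R'] [Algebra R R'] (f : R)

theorem glueable_of_cover (hRR' : EtGlue.IsGlueingPair R R' f)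
    (Y : AlgSp.Space (Spec (CommRingCat.of R)))
    {ι : Type u} (A : ι → Type u) [∀ k, CommRing (A k)] [∀ k, Algebra R (A k)]
    (g : ∀ k, (AlgSp.yon (Spec (CommRingCat.of R))).obj
      (Over.mk (Spec.map (CommRingCat.ofHom (algebraMap R (A k)))) :
        Over (Spec (CommRingCat.of R))) ⟶ Y.obj)
    (hg : ∀ k, AlgSp.RepWith @Etale (g k))
    (hsurj : ∀ y : AlgSp.Points Y.obj, ∃ k, y ∈ Set.range (AlgSp.Points.map (g k)))
    (hgl : ∀ k, EtGlue.IsGlueable R R' f (A k))
    (B : Type u) [CommRing B] [Algebra R B]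
    (gB : (AlgSp.yon (Spec (CommRingCat.of R))).obj
      (Over.mk (Spec.map (CommRingCat.ofHom (algebraMap R B))) :
        Over (Spec (CommRingCat.of R))) ⟶ Y.obj)
    (hgB : AlgSp.RepWith @Etale gB) : EtGlue.IsGlueable R R' f B := by
  rw [glueable_iff_of_pair B hRR']
  rintro b hbt hb
  apply eq_zero_of_flat_cover B b
  intro t
  obtain ⟨k, z, hz⟩ := hsurj (Points.ofPt gB t)
  obtain ⟨v, rfl⟩ := ofScheme_surjective _ z
  have hz' : Points.ofPt (g k) v = Points.ofPt gB t := by
    rw [Points.ofPt_eq_map_ofScheme]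
    exact hz
  let snd := (hg k).rep.snd gB
  let q := (hg k).rep.fst' gB
  have sq : IsPullback ((yon _).map q) ((yon _).map snd) (g k) gB := (hg k).rep.isPullback' gB
  haveI hsnd : Etale snd.left := (hg k).property_snd gB
  haveI hq : Etale q.left := hgB.property (g k) ((yon _).map snd) q sq.flip
  obtain ⟨p, hp1, hp2⟩ := exists_ofPt_eq_of_isPullback sq v t hz'
  obtain ⟨C, i, hi, ⟨w, hw⟩, -⟩ :=
    Scheme.exists_affine_mem_range_and_range_subset (x := p) (U := ⊤)
      (TopologicalSpace.Opens.mem_top p)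
  haveI := hi
  let ψB : CommRingCat.of B ⟶ C := Spec.preimage (i ≫ snd.left)
  let ψA : CommRingCat.of (A k) ⟶ C := Spec.preimage (i ≫ q.left)
  have hψB : Spec.map ψB = i ≫ snd.left := Spec.map_preimage _
  have hψA : Spec.map ψA = i ≫ q.left := Spec.map_preimage _
  have hcomp : CommRingCat.ofHom (algebraMap R B) ≫ ψB =
      CommRingCat.ofHom (algebraMap R (A k)) ≫ ψA := by
    apply Spec.map_injective
    rw [Spec.map_comp, Spec.map_comp, hψB, hψA, Category.assoc, Category.assoc]
    congr 1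
    exact (Over.w snd).trans (Over.w q).symm
  refine ⟨C, ψB, ?_, ⟨w, ?_⟩, ?_⟩
  · rw [hψB]
    infer_instance
  · have h1 : (Spec.map ψB) w = (i ≫ snd.left) w := by rw [hψB]
    rw [h1, Scheme.Hom.comp_apply, hw]
    exact hp2
  · letI algAC : Algebra (A k) C := ψA.hom.toAlgebra
    letI algRC : Algebra R C := (CommRingCat.ofHom (algebraMap R (A k)) ≫ ψA).hom.toAlgebra
    haveI : IsScalarTower R (A k) C := IsScalarTower.of_algebraMap_eq (fun _ => rfl)
    haveI : Module.Flat (A k) C := by
      have h2 : Flat (Spec.map ψA) := by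
        rw [hψA]
        infer_instance
      exact Flat.SpecMap_iff.mp h2
    have hC : EtGlue.IsGlueable R R' f C := glueable_of_flat hRR' (A k) C (hgl k)
    let ψ : B →ₐ[R] C :=
      { ψB.hom with
        commutes' := fun r => by
          have h3 := congrArg (fun m => m.hom r) hcomp
          exact h3 }
    exact map_eq_zero_of_glueable hRR' B C ψ hC b hbt hb

theorem exists_cover_of_forall (Y : AlgSp.Space (Spec (CommRingCat.of R)))
    (h2 : ∀ (A : Type u) [CommRing A] [Algebra R A]
      (g : (AlgSp.yon (Spec (CommRingCat.of R))).obj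
        (Over.mk (Spec.map (CommRingCat.ofHom (algebraMap R A))) :
          Over (Spec (CommRingCat.of R))) ⟶ Y.obj),
      AlgSp.RepWith @Etale g → EtGlue.IsGlueable R R' f A) :
    ∃ (ι : Type u) (A : ι → Type u) (_ : ∀ k, CommRing (A k)) (_ : ∀ k, Algebra R (A k))
      (g : ∀ k, (AlgSp.yon (Spec (CommRingCat.of R))).obj
        (Over.mk (Spec.map (CommRingCat.ofHom (algebraMap R (A k)))) :
          Over (Spec (CommRingCat.of R))) ⟶ Y.obj),
      (∀ k, AlgSp.RepWith @Etale (g k)) ∧
        (∀ y : AlgSp.Points Y.obj, ∃ k, y ∈ Set.range (AlgSp.Points.map (g k))) ∧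
          ∀ k, EtGlue.IsGlueable R R' f (A k) := by
  obtain ⟨κ, A, s, r, hr, hs⟩ := Groth.Agent.Lib.FpqcRefine2H7.exists_spec_charts Y.property
  let alg : ∀ k, Algebra R (A k) := fun k => (Spec.preimage (s k)).hom.toAlgebra
  have e : ∀ k, Spec.map (CommRingCat.ofHom (@algebraMap R (A k) _ _ (alg k))) = s k :=
    fun k => Spec.map_preimage (s k)
  let φ : ∀ k, (Over.mk (Spec.map (CommRingCat.ofHom (@algebraMap R (A k) _ _ (alg k)))) :
      Over (Spec (CommRingCat.of R))) ⟶ Over.mk (s k) :=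
    fun k => Over.homMk (𝟙 _) (by
      show 𝟙 _ ≫ s k = _
      rw [Category.id_comp]
      exact (e k).symm)
  have hg : ∀ k, RepWith @Etale ((yon _).map (φ k) ≫ r k) := by
    intro k
    have h1 : RepWith @Etale ((yon (Spec (CommRingCat.of R))).map (φ k)) := by
      refine (repWith_yon_map_iff @Etale (φ k)).2 ?_
      change Etale (𝟙 _)
      infer_instance
    exact repWith_comp _ h1 (hr k)
  refine ⟨κ, fun k => A k, fun k => inferInstance, alg, fun k => (yon _).map (φ k) ≫ r k, hg,
    ?_, ?_⟩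
  · intro y
    obtain ⟨k, v, rfl⟩ := hs y
    refine ⟨k, Points.ofScheme _ v, ?_⟩
    rw [← Points.ofPt_eq_map_ofScheme, ofPt_comp]
    rfl
  · intro k
    exact @h2 (A k) _ (alg k) ((yon _).map (φ k) ≫ r k) (hg k)

end Groth.Agent.Lib.GlueLocal2H7
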