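import Mathlib
import Groth.Prelude.Def_EtGlue
import Groth.Agent.S7065

/-!
# A monomorphism locally of finite type to the spectrum of a glueing pair which has sections over
both pieces is an isomorphism (helper7)
-/

set_option autoImplicit false
set_option linter.style.haveILetI false
universe u
open CategoryTheory CategoryTheory.Limits AlgebraicGeometry Opposite

namespace Groth.Agent.Lib.GlueLocal3H7

theorem awayMap_algebraMap {A A' : Type u} [CommRing A] [CommRing A'] (φ : A →+* A') (g a : A) :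
    Localization.awayMap φ g (algebraMap A (Localization.Away g) a) =
      algebraMap A' (Localization.Away (φ g)) (φ a) :=
  IsLocalization.map_eq _ _

theorem isIso_of_mono_of_sections {A A' : Type u} [CommRing A] [CommRing A'] [Algebra A A'] (g : A)
    (hG : EtGlue.IsGlueingPair A A' g) {E : Scheme.{u}} (e : E ⟶ Spec (CommRingCat.of A)) [Mono e]
    [LocallyOfFiniteType e]
    (σ₁ : Spec (CommRingCat.of (Localization.Away g)) ⟶ E)
    (h₁ : σ₁ ≫ e = Spec.map (CommRingCat.ofHom (algebraMap A (Localization.Away g))))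
    (σ₂ : Spec (CommRingCat.of A') ⟶ E)
    (h₂ : σ₂ ≫ e = Spec.map (CommRingCat.ofHom (algebraMap A A'))) : IsIso e := by
  obtain ⟨hq, hinj, hmid, -⟩ := hG
  have einj : Function.Injective e := e.injective
  have key : ∀ x : A, x = g → Function.Bijective
      (Ideal.quotientMap (Ideal.map (algebraMap A A') (Ideal.span {x})) (algebraMap A A')
        Ideal.le_comap_map) → Function.Bijective
      (Ideal.quotientMap (Ideal.map (algebraMap A A') (Ideal.span {g})) (algebraMap A A')
        Ideal.le_comap_map) := by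
    rintro x rfl h
    exact h
  have hq1 := key (g ^ 1) (pow_one g) (hq 1 Nat.one_pos)
  have hcovp : ∀ p : ↥(Spec (CommRingCat.of A)),
      (∃ q : ↥(Spec (CommRingCat.of A')),
        (Spec.map (CommRingCat.ofHom (algebraMap A A'))) q = p) ∨
      (∃ q : ↥(Spec (CommRingCat.of (Localization.Away g))),
        (Spec.map (CommRingCat.ofHom (algebraMap A (Localization.Away g)))) q = p) :=
    fun p => Groth.Agent.S7065.result g hq1 p
  have hE : ∀ x : E, x ∈ Set.range σ₁ ∪ Set.range σ₂ := by
    intro x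
    rcases hcovp (e x) with ⟨q, hq'⟩ | ⟨q, hq'⟩
    · right
      refine ⟨q, einj ?_⟩
      rw [← Scheme.Hom.comp_apply, h₂]
      exact hq'
    · left
      refine ⟨q, einj ?_⟩
      rw [← Scheme.Hom.comp_apply, h₁]
      exact hq'
  haveI : CompactSpace E := ⟨by
    rw [show (Set.univ : Set E) = Set.range σ₁ ∪ Set.range σ₂ from
      (Set.eq_univ_of_forall hE).symm]
    exact (isCompact_range σ₁.continuous).union (isCompact_range σ₂.continuous)⟩
  haveI : QuasiCompact e := (quasiCompact_iff_compactSpace e).mpr ‹_›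
  haveI : LocallyQuasiFinite e := LocallyQuasiFinite.of_injective einj
  haveI : IsOpenImmersion e.toNormalization := inferInstance
  haveI : IsAffine e.normalization := isAffine_of_isAffineHom e.fromNormalization
  let B : CommRingCat.{u} := Γ(e.normalization, ⊤)
  obtain ⟨j, hjdef⟩ : ∃ j : E ⟶ Spec B, j = e.toNormalization ≫ e.normalization.isoSpec.hom :=
    ⟨_, rfl⟩
  obtain ⟨π, hπdef⟩ : ∃ π : Spec B ⟶ Spec (CommRingCat.of A),
    π = e.normalization.isoSpec.inv ≫ e.fromNormalization := ⟨_, rfl⟩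
  haveI : IsOpenImmersion j := by
    rw [hjdef]
    infer_instance
  have hjπ : j ≫ π = e := by
    rw [hjdef, hπdef]
    simp only [Category.assoc, Iso.hom_inv_id_assoc,
      Scheme.Hom.toNormalization_fromNormalization]
  obtain ⟨ρ, hρ⟩ : ∃ ρ : CommRingCat.of A ⟶ B, Spec.map ρ = π :=
    ⟨Spec.preimage π, Spec.map_preimage π⟩
  obtain ⟨β₁, hβ₁⟩ : ∃ β₁ : B ⟶ CommRingCat.of (Localization.Away g), Spec.map β₁ = σ₁ ≫ j :=
    ⟨Spec.preimage _, Spec.map_preimage _⟩
  obtain ⟨β₂, hβ₂⟩ : ∃ β₂ : B ⟶ CommRingCat.of A', Spec.map β₂ = σ₂ ≫ j :=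
    ⟨Spec.preimage _, Spec.map_preimage _⟩
  have hρ1 : ρ ≫ β₁ = CommRingCat.ofHom (algebraMap A (Localization.Away g)) := by
    apply Spec.map_injective
    rw [Spec.map_comp, hρ, hβ₁, Category.assoc, hjπ, h₁]
  have hρ2 : ρ ≫ β₂ = CommRingCat.ofHom (algebraMap A A') := by
    apply Spec.map_injective
    rw [Spec.map_comp, hρ, hβ₂, Category.assoc, hjπ, h₂]
  have hcompat : β₂ ≫ CommRingCat.ofHom (algebraMap A' (Localization.Away (algebraMap A A' g))) =
      β₁ ≫ CommRingCat.ofHom (Localization.awayMap (algebraMap A A') g) := by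
    have hs : Spec.map (CommRingCat.ofHom
          (algebraMap A' (Localization.Away (algebraMap A A' g)))) ≫ σ₂ =
        Spec.map (CommRingCat.ofHom (Localization.awayMap (algebraMap A A') g)) ≫ σ₁ := by
      rw [← cancel_mono e, Category.assoc, Category.assoc, h₁, h₂, ← Spec.map_comp,
        ← Spec.map_comp]
      refine congrArg Spec.map ?_
      ext a
      exact (awayMap_algebraMap (algebraMap A A') g a).symm
    apply Spec.map_injective
    rw [Spec.map_comp, Spec.map_comp, hβ₁, hβ₂, ← Category.assoc, ← Category.assoc, hs]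
  have hex : ∀ b : B, ∃ a : A, algebraMap A A' a = β₂.hom b ∧
      algebraMap A (Localization.Away g) a = β₁.hom b := fun b =>
    hmid (β₂.hom b) (β₁.hom b) (congrArg (fun m => m.hom b) hcompat)
  choose θf hθ2 hθ1 using hex
  have hinj' : ∀ a a' : A, algebraMap A A' a = algebraMap A A' a' →
      algebraMap A (Localization.Away g) a = algebraMap A (Localization.Away g) a' → a = a' :=
    fun a a' h h' => hinj (Prod.ext h h')
  let θ : B →+* A :=
    { toFun := θf
      map_one' := hinj' _ _ (by rw [hθ2, map_one, map_one]) (by rw [hθ1, map_one, map_one])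
      map_mul' := fun x y => hinj' _ _ (by rw [hθ2, map_mul, map_mul, hθ2, hθ2])
        (by rw [hθ1, map_mul, map_mul, hθ1, hθ1])
      map_zero' := hinj' _ _ (by rw [hθ2, map_zero, map_zero]) (by rw [hθ1, map_zero, map_zero])
      map_add' := fun x y => hinj' _ _ (by rw [hθ2, map_add, map_add, hθ2, hθ2])
        (by rw [hθ1, map_add, map_add, hθ1, hθ1]) }
  have hθρ : ∀ a, θ (ρ.hom a) = a := fun a =>
    hinj' _ _ ((hθ2 _).trans (congrArg (fun m => m.hom a) hρ2))
      ((hθ1 _).trans (congrArg (fun m => m.hom a) hρ1))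
  let τ : Spec (CommRingCat.of A) ⟶ Spec B := Spec.map (CommRingCat.ofHom θ)
  have hτπ : τ ≫ π = 𝟙 _ := by
    have h3 : ρ ≫ CommRingCat.ofHom θ = 𝟙 _ := by
      ext a
      exact hθρ a
    rw [← hρ, ← Spec.map_comp, h3, Spec.map_id]
  have hτ1 : Spec.map (CommRingCat.ofHom (algebraMap A (Localization.Away g))) ≫ τ = σ₁ ≫ j := by
    rw [← hβ₁, ← Spec.map_comp]
    refine congrArg Spec.map ?_
    ext b
    exact hθ1 b
  have hτ2 : Spec.map (CommRingCat.ofHom (algebraMap A A')) ≫ τ = σ₂ ≫ j := by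
    rw [← hβ₂, ← Spec.map_comp]
    refine congrArg Spec.map ?_
    ext b
    exact hθ2 b
  have hrange : Set.range τ ⊆ Set.range j := by
    rintro _ ⟨p, rfl⟩
    rcases hcovp p with ⟨q, rfl⟩ | ⟨q, rfl⟩
    · refine ⟨σ₂ q, ?_⟩
      rw [← Scheme.Hom.comp_apply, ← Scheme.Hom.comp_apply, hτ2]
    · refine ⟨σ₁ q, ?_⟩
      rw [← Scheme.Hom.comp_apply, ← Scheme.Hom.comp_apply, hτ1]
  let σ : Spec (CommRingCat.of A) ⟶ E := IsOpenImmersion.lift j τ hrange
  have hσ : σ ≫ e = 𝟙 _ := by
    rw [← hjπ, ← Category.assoc, IsOpenImmersion.lift_fac, hτπ]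
  have hσ' : e ≫ σ = 𝟙 _ := by
    rw [← cancel_mono e, Category.assoc, hσ, Category.comp_id, Category.id_comp]
  exact ⟨σ, hσ', hσ⟩

end Groth.Agent.Lib.GlueLocal3H7
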