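import Mathlib
import Groth.Prelude.Def_EtGlue
import Groth.Agent.Lib.EtGlue_helper4
import Groth.Agent.Lib.EtGlue2_helper4

/-!
# Glueing pairs: base change of a glueing pair along a glueable algebra (helper8)
APPEND-ONLY once landed.
-/

set_option autoImplicit false

open TensorProduct

namespace GluePairH8

universe u

attribute [local instance] Algebra.TensorProduct.rightAlgebra

variable {R R' : Type u} [CommRing R] [CommRing R'] [Algebra R R'] {f : R}
  (A : Type u) [CommRing A] [Algebra R A]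

theorem one_tmul_pow_eq (n : ℕ) :
    ((1 : R') ⊗ₜ[R] (algebraMap R A f ^ n) : R' ⊗[R] A) = f ^ n • (1 : R' ⊗[R] A) := by
  rw [← map_pow, Algebra.algebraMap_eq_smul_one, TensorProduct.tmul_smul]
  rfl

theorem quotPowBijective_tensor (hq : EtGlue.QuotPowBijective R R' f) :
    EtGlue.QuotPowBijective A (R' ⊗[R] A) (algebraMap R A f) := by
  intro n hn
  have hmap : ∀ a : A, algebraMap A (R' ⊗[R] A) a = (1 : R') ⊗ₜ[R] a := fun a => rfl
  have hspan : Ideal.map (algebraMap A (R' ⊗[R] A)) (Ideal.span {algebraMap R A f ^ n}) =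
      Ideal.span {(1 : R') ⊗ₜ[R] (algebraMap R A f ^ n)} := by
    rw [Ideal.map_span, Set.image_singleton]
    rfl
  constructor
  · rw [injective_iff_map_eq_zero]
    intro x hx
    obtain ⟨a, rfl⟩ := Ideal.Quotient.mk_surjective x
    rw [Ideal.quotientMap_mk, Ideal.Quotient.eq_zero_iff_mem, hspan,
      Ideal.mem_span_singleton'] at hx
    obtain ⟨w, hw⟩ := hx
    have h1 : (1 : R') ⊗ₜ[R] a = f ^ n • w := by
      rw [← hmap, ← hw, one_tmul_pow_eq, mul_smul_comm, mul_one]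
    obtain ⟨a₁, ha₁⟩ := Groth.Agent.Lib.EtGlueH4.exists_eq_pow_smul A hq n a w h1
    rw [Ideal.Quotient.eq_zero_iff_mem, Ideal.mem_span_singleton']
    exact ⟨a₁, by rw [ha₁, Algebra.smul_def, map_pow]; ring⟩
  · intro y
    obtain ⟨w, rfl⟩ := Ideal.Quotient.mk_surjective y
    obtain ⟨k, w₂, hw⟩ := Groth.Agent.Lib.EtGlueH4.decomp A hq n w
    refine ⟨Ideal.Quotient.mk _ k, ?_⟩
    rw [Ideal.quotientMap_mk, Ideal.Quotient.eq, hspan, Ideal.mem_span_singleton']
    refine ⟨-w₂, ?_⟩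
    rw [hw, hmap, one_tmul_pow_eq, mul_smul_comm, mul_one, smul_neg]
    abel

theorem tb_tensor (hA : EtGlue.IsGlueable R R' f A) :
    Groth.Agent.Lib.EtGlueH4.TB A (R' ⊗[R] A) (algebraMap R A f) := by
  have hmap : ∀ a : A, algebraMap A (R' ⊗[R] A) a = (1 : R') ⊗ₜ[R] a := fun a => rfl
  obtain ⟨h1, h2⟩ := Groth.Agent.Lib.EtGlueH4.torsion_of_glueable A hA
  have e1 : ∀ (n : ℕ) (a : A), algebraMap R A f ^ n * a = f ^ n • a := fun n a => by
    rw [Algebra.smul_def, map_pow]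
  have e2 : ∀ (n : ℕ) (w : R' ⊗[R] A),
      algebraMap A (R' ⊗[R] A) (algebraMap R A f) ^ n * w = f ^ n • w := fun n w => by
    rw [← map_pow, hmap, one_tmul_pow_eq, smul_mul_assoc, one_mul]
  constructor
  · rintro x ⟨n, hn⟩ hx
    exact h1 x ⟨n, by rw [← e1, hn]⟩ (by rw [← hmap, hx])
  · rintro x' ⟨n, hn⟩
    obtain ⟨m, ⟨k, hk⟩, hm⟩ := h2 x' ⟨n, by rw [← e2, hn]⟩
    exact ⟨m, ⟨k, by rw [e1, hk]⟩, by rw [hmap, hm]⟩

theorem glueingPair_tensor (hRR' : EtGlue.IsGlueingPair R R' f)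
    (hA : EtGlue.IsGlueable R R' f A) :
    EtGlue.IsGlueingPair A (R' ⊗[R] A) (algebraMap R A f) :=
  Groth.Agent.Lib.EtGlueH4.glueingPair_of_tb (quotPowBijective_tensor A hRR'.1) (tb_tensor A hA)

end GluePairH8
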