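import Groth.Agent.Lib.GlueLocal2_helper7
import Groth.Agent.Lib.GlueLocal3_helper7
import Groth.Agent.Lib.GluePair1_helper8
import Groth.Agent.Lib.AlgSpDiag_helper7
import Groth.Agent.Lib.AlgSpFormal_helper7
import Groth.Agent.Lib.AlgSpFormal5_helper7

/-!
# Faithfulness of the glueing functor for a glueing pair on glueable algebraic spaces (helper7)
-/

set_option autoImplicit false
set_option linter.style.haveILetI false
universe u
open CategoryTheory CategoryTheory.Limits AlgebraicGeometry Opposite MorphismProperty TensorProduct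
open AlgSp Groth.Agent.Lib.AlgSpPoints_helper7 Groth.Agent.Lib.AlgSpPullback_helper7
  Groth.Agent.Lib.GlueLocal3H7 Groth.Agent.Lib.AlgSpDiag_helper7
  Groth.Agent.Lib.AlgSpFormal_helper7

namespace Groth.Agent.Lib.GlueLocal4H7

attribute [local instance] Algebra.TensorProduct.rightAlgebra

variable {S : Scheme.{u}}

/-- `h_S` is terminal. -/
theorem hom_to_yon_id_ext {F : Sp S} (u v : F ⟶ (yon S).obj (Over.mk (𝟙 S))) : u = v := by
  apply ObjectProperty.hom_ext
  ext T x
  apply ULift.ext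
  exact Over.mkIdTerminal.hom_ext _ _

/-- Two maps out of an algebraic space agreeing on a jointly surjective family of étale charts
agree. -/
theorem hom_ext_of_charts {Y F : Sp S} {κ : Type u} (T : κ → Over S)
    (r : ∀ k, (yon S).obj (T k) ⟶ Y) (hr : ∀ k, RepWith @Etale (r k))
    (hs : ∀ y : Points Y, ∃ (k : κ) (t : ↥(T k).left), Points.ofPt (r k) t = y)
    (a b : Y ⟶ F) (h : ∀ k, r k ≫ a = r k ≫ b) : a = b := by
  apply Groth.Agent.Lib.AlgSpFormal5_helper7.hom_ext_yon
  intro V x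
  let W : κ → Over S := fun k => (hr k).rep.pullback x
  let c : ∀ k, W k ⟶ V := fun k => (hr k).rep.snd x
  have sq : ∀ k, IsPullback ((yon S).map ((hr k).rep.fst' x)) ((yon S).map (c k)) (r k) x :=
    fun k => (hr k).rep.isPullback' x
  have hce : ∀ k, Etale (c k).left := fun k => (hr k).property_snd x
  apply hom_ext_of_fppf_family W c (fun k => by haveI := hce k; infer_instance)
    (fun k => by haveI := hce k; infer_instance)
  · intro v
    obtain ⟨k, t, ht⟩ := hs (Points.ofPt x v)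
    obtain ⟨w, -, hw⟩ := exists_ofPt_eq_of_isPullback (sq k) t v ht
    exact ⟨k, w, hw⟩
  · intro k
    rw [← Category.assoc, ← Category.assoc, ← (sq k).w, Category.assoc, Category.assoc, h k]

variable (R : Type u) [CommRing R] (R' : Type u) [CommRing R'] [Algebra R R'] (f : R)

/-- The chart case. -/
theorem chart_eq (hRR' : EtGlue.IsGlueingPair R R' f)
    {Y Z YU YX' : AlgSp.Space (Spec (CommRingCat.of R))}
    (a b : Y ⟶ Z)
    (πZ : Z.obj ⟶ (AlgSp.yon (Spec (CommRingCat.of R))).obj (Over.mk (𝟙 _)))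
    (inU : (Over.mk (Spec.map (CommRingCat.ofHom (algebraMap R (Localization.Away f)))) :
      Over (Spec (CommRingCat.of R))) ⟶ Over.mk (𝟙 _))
    (uY : YU ⟶ Y) (vY : YU.obj ⟶ (AlgSp.yon (Spec (CommRingCat.of R))).obj
      (Over.mk (Spec.map (CommRingCat.ofHom (algebraMap R (Localization.Away f)))) :
        Over (Spec (CommRingCat.of R))))
    (hYU : IsPullback uY.hom vY (a.hom ≫ πZ) ((AlgSp.yon (Spec (CommRingCat.of R))).map inU))
    (inX' : (Over.mk (Spec.map (CommRingCat.ofHom (algebraMap R R'))) :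
      Over (Spec (CommRingCat.of R))) ⟶ Over.mk (𝟙 _))
    (uY' : YX' ⟶ Y) (vY' : YX'.obj ⟶ (AlgSp.yon (Spec (CommRingCat.of R))).obj
      (Over.mk (Spec.map (CommRingCat.ofHom (algebraMap R R'))) : Over (Spec (CommRingCat.of R))))
    (hYX' : IsPullback uY'.hom vY' (a.hom ≫ πZ)
      ((AlgSp.yon (Spec (CommRingCat.of R))).map inX'))
    (haU : uY ≫ a = uY ≫ b) (haX' : uY' ≫ a = uY' ≫ b)
    (A : Type u) [CommRing A] [Algebra R A]
    (c : (AlgSp.yon (Spec (CommRingCat.of R))).obj
      (Over.mk (Spec.map (CommRingCat.ofHom (algebraMap R A))) :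
        Over (Spec (CommRingCat.of R))) ⟶ Y.obj)
    (hA : EtGlue.IsGlueable R R' f A) : c ≫ a.hom = c ≫ b.hom := by
  have hG : EtGlue.IsGlueingPair A (R' ⊗[R] A) (algebraMap R A f) :=
    GluePairH8.glueingPair_tensor A hRR' hA
  obtain ⟨hlft, hmono, -, -⟩ := diag_properties Z.property
  let TA : Over (Spec (CommRingCat.of R)) :=
    Over.mk (Spec.map (CommRingCat.ofHom (algebraMap R A)))
  obtain ⟨m, hm⟩ : ∃ m : (yon _).obj TA ⟶ Z.obj ⨯ Z.obj,
    m = prod.lift (c ≫ a.hom) (c ≫ b.hom) := ⟨_, rfl⟩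
  have hm1 : m ≫ prod.fst = c ≫ a.hom := by
    rw [hm]
    erw [prod.lift_fst]
  have hm2 : m ≫ prod.snd = c ≫ b.hom := by
    rw [hm]
    erw [prod.lift_snd]
  have hd1 : Limits.diag Z.obj ≫ prod.fst = 𝟙 _ := by
    erw [prod.lift_fst]
  have hd2 : Limits.diag Z.obj ≫ prod.snd = 𝟙 _ := by
    erw [prod.lift_snd]
  let snd := hlft.rep.snd m
  let fst := hlft.rep.fst m
  have sq : IsPullback fst ((yon _).map snd) (Limits.diag Z.obj) m := hlft.rep.isPullback m
  haveI : LocallyOfFiniteType snd.left := hlft.property_snd m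
  haveI : Mono snd.left := hmono.property m fst snd sq
  have e1 : fst = (yon _).map snd ≫ c ≫ a.hom := by
    have := sq.w =≫ prod.fst
    rwa [Category.assoc, Category.assoc, hd1, hm1, Category.comp_id] at this
  have e2 : fst = (yon _).map snd ≫ c ≫ b.hom := by
    have := sq.w =≫ prod.snd
    rwa [Category.assoc, Category.assoc, hd2, hm2, Category.comp_id] at this
  -- sections
  have hsec : ∀ (T₀ : Over (Spec (CommRingCat.of R))) (x : T₀ ⟶ TA),
      (yon _).map x ≫ c ≫ a.hom = (yon _).map x ≫ c ≫ b.hom →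
      ∃ s : T₀ ⟶ hlft.rep.pullback m, s ≫ snd = x := by
    intro T₀ x hx
    refine ⟨hlft.rep.lift ((yon _).map x ≫ c ≫ a.hom) x ?_, hlft.rep.lift_snd _ _ _⟩
    apply Limits.prod.hom_ext
    · simp only [Category.assoc, hd1, hm1, Category.comp_id]
    · simp only [Category.assoc, hd2, hm2, Category.comp_id]
      exact hx
  -- the open piece
  let x₁ : (Over.mk (Spec.map (CommRingCat.ofHom
      (algebraMap A (Localization.Away (algebraMap R A f)))) ≫ TA.hom) :
      Over (Spec (CommRingCat.of R))) ⟶ TA := Over.homMk (Spec.map (CommRingCat.ofHom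
      (algebraMap A (Localization.Away (algebraMap R A f))))) rfl
  let w₁ : (Over.mk (Spec.map (CommRingCat.ofHom
      (algebraMap A (Localization.Away (algebraMap R A f)))) ≫ TA.hom) :
      Over (Spec (CommRingCat.of R))) ⟶
      Over.mk (Spec.map (CommRingCat.ofHom (algebraMap R (Localization.Away f)))) :=
    Over.homMk (Spec.map (CommRingCat.ofHom (Localization.awayMap (algebraMap R A) f))) (by
      show Spec.map _ ≫ Spec.map _ = Spec.map _ ≫ Spec.map _
      rw [← Spec.map_comp, ← Spec.map_comp]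
      refine congrArg Spec.map ?_
      ext r
      exact awayMap_algebraMap (algebraMap R A) f r)
  have hx₁ : (yon _).map x₁ ≫ c ≫ a.hom = (yon _).map x₁ ≫ c ≫ b.hom := by
    let l := hYU.lift ((yon _).map x₁ ≫ c) ((yon _).map w₁) (hom_to_yon_id_ext _ _)
    have hl : l ≫ uY.hom = (yon _).map x₁ ≫ c := hYU.lift_fst _ _ _
    have h3 : uY.hom ≫ a.hom = uY.hom ≫ b.hom := congrArg (fun q => q.hom) haU
    rw [← Category.assoc, ← Category.assoc, ← hl, Category.assoc, Category.assoc, h3]
  obtain ⟨s₁, hs₁⟩ := hsec _ x₁ hx₁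
  -- the modification piece
  let x₂ : (Over.mk (Spec.map (CommRingCat.ofHom (algebraMap A (R' ⊗[R] A))) ≫ TA.hom) :
      Over (Spec (CommRingCat.of R))) ⟶ TA :=
    Over.homMk (Spec.map (CommRingCat.ofHom (algebraMap A (R' ⊗[R] A)))) rfl
  let w₂ : (Over.mk (Spec.map (CommRingCat.ofHom (algebraMap A (R' ⊗[R] A))) ≫ TA.hom) :
      Over (Spec (CommRingCat.of R))) ⟶
      Over.mk (Spec.map (CommRingCat.ofHom (algebraMap R R'))) :=
    Over.homMk (Spec.map (CommRingCat.ofHom
      (Algebra.TensorProduct.includeLeftRingHom : R' →+* R' ⊗[R] A))) (by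
      show Spec.map _ ≫ Spec.map _ = Spec.map _ ≫ Spec.map _
      rw [← Spec.map_comp, ← Spec.map_comp]
      refine congrArg Spec.map ?_
      ext r
      show (algebraMap R R' r) ⊗ₜ[R] (1 : A) = (1 : R') ⊗ₜ[R] (algebraMap R A r)
      rw [Algebra.algebraMap_eq_smul_one, Algebra.algebraMap_eq_smul_one, TensorProduct.smul_tmul])
  have hx₂ : (yon _).map x₂ ≫ c ≫ a.hom = (yon _).map x₂ ≫ c ≫ b.hom := by
    let l := hYX'.lift ((yon _).map x₂ ≫ c) ((yon _).map w₂) (hom_to_yon_id_ext _ _)
    have hl : l ≫ uY'.hom = (yon _).map x₂ ≫ c := hYX'.lift_fst _ _ _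
    have h3 : uY'.hom ≫ a.hom = uY'.hom ≫ b.hom := congrArg (fun q => q.hom) haX'
    rw [← Category.assoc, ← Category.assoc, ← hl, Category.assoc, Category.assoc, h3]
  obtain ⟨s₂, hs₂⟩ := hsec _ x₂ hx₂
  haveI : IsIso snd.left :=
    isIso_of_mono_of_sections (A := A) (A' := R' ⊗[R] A) (algebraMap R A f) hG snd.left
      s₁.left (congrArg CommaMorphism.left hs₁) s₂.left (congrArg CommaMorphism.left hs₂)
  haveI : IsIso ((Over.forget (Spec (CommRingCat.of R))).map snd) := ‹IsIso snd.left›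
  haveI : IsIso snd := isIso_of_reflects_iso snd (Over.forget _)
  rw [← cancel_epi ((yon _).map snd), ← e1, ← e2]

theorem main10707 (hRR' : EtGlue.IsGlueingPair R R' f)
    {Y Z YU YX' : AlgSp.Space (Spec (CommRingCat.of R))}
    (hY : (∀ (A : Type u) [CommRing A] [Algebra R A]
      (g : (AlgSp.yon (Spec (CommRingCat.of R))).obj
        (Over.mk (Spec.map (CommRingCat.ofHom (algebraMap R A))) :
          Over (Spec (CommRingCat.of R))) ⟶ Y.obj),
      AlgSp.RepWith @Etale g → EtGlue.IsGlueable R R' f A))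
    (a b : Y ⟶ Z)
    (πZ : Z.obj ⟶ (AlgSp.yon (Spec (CommRingCat.of R))).obj (Over.mk (𝟙 _)))
    (inU : (Over.mk (Spec.map (CommRingCat.ofHom (algebraMap R (Localization.Away f)))) :
      Over (Spec (CommRingCat.of R))) ⟶ Over.mk (𝟙 _))
    (uY : YU ⟶ Y) (vY : YU.obj ⟶ (AlgSp.yon (Spec (CommRingCat.of R))).obj
      (Over.mk (Spec.map (CommRingCat.ofHom (algebraMap R (Localization.Away f)))) :
        Over (Spec (CommRingCat.of R))))
    (hYU : IsPullback uY.hom vY (a.hom ≫ πZ) ((AlgSp.yon (Spec (CommRingCat.of R))).map inU))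
    (inX' : (Over.mk (Spec.map (CommRingCat.ofHom (algebraMap R R'))) :
      Over (Spec (CommRingCat.of R))) ⟶ Over.mk (𝟙 _))
    (uY' : YX' ⟶ Y) (vY' : YX'.obj ⟶ (AlgSp.yon (Spec (CommRingCat.of R))).obj
      (Over.mk (Spec.map (CommRingCat.ofHom (algebraMap R R'))) : Over (Spec (CommRingCat.of R))))
    (hYX' : IsPullback uY'.hom vY' (a.hom ≫ πZ)
      ((AlgSp.yon (Spec (CommRingCat.of R))).map inX'))
    (haU : uY ≫ a = uY ≫ b) (haX' : uY' ≫ a = uY' ≫ b) : a = b := by
  apply ObjectProperty.hom_ext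
  obtain ⟨κ, A, s, r, hr, hs⟩ := Groth.Agent.Lib.FpqcRefine2H7.exists_spec_charts Y.property
  apply hom_ext_of_charts (fun k => Over.mk (s k)) r hr hs
  intro k
  letI alg : Algebra R (A k) := (Spec.preimage (s k)).hom.toAlgebra
  have e : Spec.map (CommRingCat.ofHom (algebraMap R (A k))) = s k := Spec.map_preimage (s k)
  let φ : (Over.mk (Spec.map (CommRingCat.ofHom (algebraMap R (A k)))) :
      Over (Spec (CommRingCat.of R))) ⟶ Over.mk (s k) :=
    Over.homMk (𝟙 _) (by
      show 𝟙 _ ≫ s k = _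
      rw [Category.id_comp]
      exact e.symm)
  let ψ : Over.mk (s k) ⟶ (Over.mk (Spec.map (CommRingCat.ofHom (algebraMap R (A k)))) :
      Over (Spec (CommRingCat.of R))) :=
    Over.homMk (𝟙 _) (by
      show 𝟙 _ ≫ _ = s k
      rw [Category.id_comp]
      exact e)
  have hψφ : ψ ≫ φ = 𝟙 _ := by
    ext
    exact Category.id_comp _
  have hc : RepWith @Etale ((yon _).map φ ≫ r k) := by
    have h1 : RepWith @Etale ((yon (Spec (CommRingCat.of R))).map φ) := by
      refine (repWith_yon_map_iff @Etale φ).2 ?_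
      change Etale (𝟙 _)
      infer_instance
    exact repWith_comp _ h1 (hr k)
  have hA : EtGlue.IsGlueable R R' f (A k) := hY (A k) ((yon _).map φ ≫ r k) hc
  have key := chart_eq R R' f hRR' a b πZ inU uY vY hYU inX' uY' vY' hYX' haU haX' (A k)
    ((yon _).map φ ≫ r k) hA
  have h5 : r k = (yon _).map ψ ≫ (yon _).map φ ≫ r k := by
    rw [← Category.assoc, ← CategoryTheory.Functor.map_comp, hψφ, CategoryTheory.Functor.map_id,
      Category.id_comp]
  rw [h5, Category.assoc, Category.assoc, Category.assoc, Category.assoc]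
  rw [Category.assoc, Category.assoc] at key
  rw [key]

end Groth.Agent.Lib.GlueLocal4H7
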