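import Groth.Agent.Lib.GlueMax1_helper1

set_option autoImplicit false
set_option maxHeartbeats 1000000

universe u

open TensorProduct

namespace Groth.Agent.Lib.GlueMaxH1

section Setup

variable {A : Type u} [CommRing A] {r : ℕ} (m : Fin r → Ideal A) [hm : ∀ i, (m i).IsMaximal]
  (B : Fin r → Type u) [∀ i, CommRing (B i)] [∀ i, Algebra (Localization.AtPrime (m i)) (B i)]
  [∀ i, Algebra A (B i)] [∀ i, IsScalarTower A (Localization.AtPrime (m i)) (B i)]

/-- The glued algebra: saturation of the image of `A` in the ambient product. -/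
def Csub : Subalgebra A (X m B) where
  carrier := {x | ∃ M : ℕ, (⨅ i, m i) ^ M ≤ colon m B x}
  mul_mem' := by
    rintro x y ⟨M₁, h₁⟩ ⟨M₂, h₂⟩
    refine ⟨M₁ + M₂, ?_⟩
    rw [pow_add]
    refine Ideal.mul_le.mpr (fun g₁ hg₁ g₂ hg₂ => ?_)
    obtain ⟨a₁, ha₁⟩ := (mem_colon m B).mp (h₁ hg₁)
    obtain ⟨a₂, ha₂⟩ := (mem_colon m B).mp (h₂ hg₂)
    exact (mem_colon m B).mpr ⟨a₁ * a₂, by rw [map_mul, ha₁, ha₂, smul_mul_smul_comm]⟩
  one_mem' := ⟨0, fun g _ => (mem_colon m B).mpr ⟨g, by rw [Algebra.algebraMap_eq_smul_one]⟩⟩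
  add_mem' := by
    rintro x y ⟨M₁, h₁⟩ ⟨M₂, h₂⟩
    refine ⟨max M₁ M₂, fun g hg => ?_⟩
    obtain ⟨a₁, ha₁⟩ := (mem_colon m B).mp (h₁ (Ideal.pow_le_pow_right (le_max_left _ _) hg))
    obtain ⟨a₂, ha₂⟩ := (mem_colon m B).mp (h₂ (Ideal.pow_le_pow_right (le_max_right _ _) hg))
    exact (mem_colon m B).mpr ⟨a₁ + a₂, by rw [map_add, ha₁, ha₂, smul_add]⟩
  zero_mem' := ⟨0, fun g _ => (mem_colon m B).mpr ⟨0, by rw [map_zero, smul_zero]⟩⟩
  algebraMap_mem' := fun a =>
    ⟨0, fun g _ => (mem_colon m B).mpr ⟨g * a, by rw [map_mul, Algebra.smul_def]⟩⟩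

theorem mem_Csub {x : X m B} : x ∈ Csub m B ↔ ∃ M : ℕ, (⨅ i, m i) ^ M ≤ colon m B x := Iff.rfl

/-- The projection to the `i`-th local algebra. -/
def prC (i : Fin r) : Csub m B →ₗ[A] B i :=
  ((LinearMap.proj i : (∀ i, B i) →ₗ[A] B i) ∘ₗ
    LinearMap.fst A (∀ i, B i) (∀ 𝔫 : Oth m, Localization.AtPrime 𝔫.1)) ∘ₗ
    (Csub m B).val.toLinearMap

theorem prC_apply (i : Fin r) (c : Csub m B) : prC m B i c = c.1.1 i := rfl

variable [IsNoetherianRing A]

/-- Lemma S. -/
theorem exists_mem_Csub_fst (hinj : Function.Injective m)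
    (hker : ∀ i, ∃ n : ℕ, ∀ x ∈ RingHom.ker (algebraMap (Localization.AtPrime (m i)) (B i)),
      ∀ y ∈ Ideal.map (algebraMap A (Localization.AtPrime (m i))) (m i) ^ n, y * x = 0)
    (hcoker : ∀ i, ∃ n : ℕ,
      ∀ y ∈ Ideal.map (algebraMap A (Localization.AtPrime (m i))) (m i) ^ n, ∀ b : B i,
        y • b ∈ (algebraMap (Localization.AtPrime (m i)) (B i)).range)
    (i : Fin r) (b : B i) :
    ∃ x : X m B, ∃ u : A, u ∉ m i ∧ x.1 i = u • b ∧ ∃ n : ℕ, (m i) ^ n ≤ colon m B x := by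
  classical
  obtain ⟨n, hn⟩ := hcoker i
  obtain ⟨G, hG⟩ : ∃ G : Finset A, Ideal.span (G : Set A) = (m i) ^ n :=
    (IsNoetherian.noetherian ((m i) ^ n))
  have h1 : ∀ g ∈ G, ∃ d : Localization.AtPrime (m i), algebraMap _ (B i) d = g • b := by
    intro g hg
    have hgm : g ∈ (m i) ^ n := hG ▸ Ideal.subset_span hg
    have h0 := hn (algebraMap A (Localization.AtPrime (m i)) g)
      (by rw [← Ideal.map_pow]; exact Ideal.mem_map_of_mem _ hgm) b
    obtain ⟨d, hd⟩ := h0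
    exact ⟨d, by rw [hd, algebraMap_smul]⟩
  choose! d hd using h1
  obtain ⟨u₀, hu₀⟩ := IsLocalization.exist_integer_multiples_of_finset (m i).primeCompl (G.image d)
  have h2 : ∀ g ∈ G, ∃ a : A, algebraMap A (B i) a = g • ((u₀ : A) • b) := by
    intro g hg
    obtain ⟨a, ha⟩ := hu₀ (d g) (Finset.mem_image_of_mem d hg)
    refine ⟨a, ?_⟩
    rw [IsScalarTower.algebraMap_apply A (Localization.AtPrime (m i)) (B i), ha, Algebra.smul_def,
      map_mul, ← IsScalarTower.algebraMap_apply, hd g hg, ← Algebra.smul_def, smul_comm]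
  choose! a' ha' using h2
  have h3 : ∀ p ∈ G ×ˢ G, ∃ v : A, v ∉ m i ∧
      algebraMap A (X m B) (v * (p.1 * a' p.2 - p.2 * a' p.1)) = 0 := by
    intro p hp
    obtain ⟨hp1, hp2⟩ := Finset.mem_product.mp hp
    apply exists_smul_map_eq_zero m B hinj hker i
    rw [map_sub, map_mul, map_mul, ha' _ hp2, ha' _ hp1, ← Algebra.smul_def, ← Algebra.smul_def,
      smul_comm p.1 p.2, sub_self]
  choose! vv hvv1 hvv2 using h3
  obtain ⟨v, hvdef⟩ : ∃ v : A, v = ∏ p ∈ G ×ˢ G, vv p := ⟨_, rfl⟩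
  have hv : v ∉ m i := hvdef ▸ prod_notMem (m i) (G ×ˢ G) vv hvv1
  have hK : ∀ g ∈ G, ∀ g' ∈ G, algebraMap A (X m B) (g * (v * a' g')) =
      algebraMap A (X m B) (g' * (v * a' g)) := by
    intro g hg g' hg'
    have hp : (g, g') ∈ G ×ˢ G := Finset.mem_product.mpr ⟨hg, hg'⟩
    have h0 := hvv2 _ hp
    rw [← sub_eq_zero, ← map_sub]
    have e : g * (v * a' g') - g' * (v * a' g) =
        (∏ q ∈ (G ×ˢ G).erase (g, g'), vv q) * (vv (g, g') * (g * a' g' - g' * a' g)) := by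
      rw [hvdef, ← Finset.mul_prod_erase _ vv hp]; ring
    rw [e, map_mul, h0, mul_zero]
  have hai : ∀ g ∈ G, algebraMap A (B i) (v * a' g) = g • ((v * (u₀ : A)) • b) := by
    intro g hg
    rw [map_mul, ha' g hg, ← Algebra.smul_def, mul_smul, smul_comm]
  have hcompB : ∀ j, ∃ z : B j, j ≠ i → ∀ g' ∈ G, g' • z = algebraMap A (B j) (v * a' g') := by
    intro j
    by_cases hj : j = i
    · exact ⟨0, fun h => absurd hj h⟩
    · obtain ⟨g, hgG, hgj⟩ : ∃ g ∈ G, g ∉ m j := by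
        by_contra hcon
        push_neg at hcon
        exact pow_not_le m hinj i j (Ne.symm hj) n (by rw [← hG]; exact Ideal.span_le.mpr hcon)
      have hunit : IsUnit (algebraMap A (Localization.AtPrime (m j)) g) :=
        IsLocalization.map_units _ (⟨g, hgj⟩ : (m j).primeCompl)
      obtain ⟨w, hw⟩ := hunit
      refine ⟨((↑w⁻¹ : Localization.AtPrime (m j))) • algebraMap A (B j) (v * a' g),
        fun _ g' hg' => ?_⟩
      have hk : algebraMap A (B j) (g' * (v * a' g)) = algebraMap A (B j) (g * (v * a' g')) :=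
        congrArg (fun z : X m B => z.1 j) (hK g' hg' g hgG)
      rw [smul_comm, Algebra.smul_def g', ← map_mul, hk, map_mul, ← Algebra.smul_def,
        ← algebraMap_smul (Localization.AtPrime (m j)) g, ← hw, smul_smul, Units.inv_mul, one_smul]
  have hcompO : ∀ 𝔫 : Oth m, ∃ z : Localization.AtPrime 𝔫.1,
      ∀ g' ∈ G, g' • z = algebraMap A (Localization.AtPrime 𝔫.1) (v * a' g') := by
    intro 𝔫
    obtain ⟨g, hgG, hg𝔫⟩ : ∃ g ∈ G, g ∉ 𝔫.1 := by
      by_contra hcon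
      push_neg at hcon
      exact pow_not_le_oth m i 𝔫 n (by rw [← hG]; exact Ideal.span_le.mpr hcon)
    have hunit : IsUnit (algebraMap A (Localization.AtPrime 𝔫.1) g) :=
      IsLocalization.map_units _ (⟨g, hg𝔫⟩ : (𝔫.1).primeCompl)
    obtain ⟨w, hw⟩ := hunit
    refine ⟨((↑w⁻¹ : Localization.AtPrime 𝔫.1)) * algebraMap A (Localization.AtPrime 𝔫.1) (v * a' g),
      fun g' hg' => ?_⟩
    have hk : algebraMap A (Localization.AtPrime 𝔫.1) (g' * (v * a' g)) =
        algebraMap A (Localization.AtPrime 𝔫.1) (g * (v * a' g')) :=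
      congrArg (fun z : X m B => z.2 𝔫) (hK g' hg' g hgG)
    rw [Algebra.smul_def, mul_left_comm, ← map_mul, hk, map_mul, ← hw, ← mul_assoc, Units.inv_mul,
      one_mul]
  choose z₀ hz₀ using hcompB
  choose z₁ hz₁ using hcompO
  refine ⟨(Function.update z₀ i ((v * (u₀ : A)) • b), z₁), v * (u₀ : A), ?_, ?_, n, ?_⟩
  · intro h
    rcases (hm i).isPrime.mem_or_mem h with h | h
    · exact hv h
    · exact u₀.2 h
  · change Function.update z₀ i ((v * (u₀ : A)) • b) i = _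
    rw [Function.update_self]
  · rw [← hG]
    refine Ideal.span_le.mpr (fun g' hg' => ?_)
    refine (mem_colon m B).mpr ⟨v * a' g', ?_⟩
    apply Prod.ext
    · funext j
      change algebraMap A (B j) (v * a' g') = g' • Function.update z₀ i ((v * (u₀ : A)) • b) j
      by_cases hj : j = i
      · subst hj
        rw [Function.update_self]
        exact hai g' hg'
      · rw [Function.update_of_ne hj]
        exact (hz₀ j hj g' hg').symm
    · funext 𝔫
      exact (hz₁ 𝔫 g' hg').symm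

theorem isLocalizedModule_prC (hinj : Function.Injective m)
    (hker : ∀ i, ∃ n : ℕ, ∀ x ∈ RingHom.ker (algebraMap (Localization.AtPrime (m i)) (B i)),
      ∀ y ∈ Ideal.map (algebraMap A (Localization.AtPrime (m i))) (m i) ^ n, y * x = 0)
    (hcoker : ∀ i, ∃ n : ℕ,
      ∀ y ∈ Ideal.map (algebraMap A (Localization.AtPrime (m i))) (m i) ^ n, ∀ b : B i,
        y • b ∈ (algebraMap (Localization.AtPrime (m i)) (B i)).range)
    (i : Fin r) : IsLocalizedModule (m i).primeCompl (prC m B i) where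
  map_units := fun s => by
    rw [← (Algebra.lsmul A (A := Localization.AtPrime (m i)) A (B i)).commutes]
    exact (IsLocalization.map_units (Localization.AtPrime (m i)) s).map _
  surj := fun b => by
    obtain ⟨x, u, hu, hxu, n, hn⟩ := exists_mem_Csub_fst m B hinj hker hcoker i b
    have hxC : x ∈ Csub m B := ⟨n, (Ideal.pow_right_mono (iInf_le m i) n).trans hn⟩
    exact ⟨(⟨x, hxC⟩, ⟨u, hu⟩), hxu.symm⟩
  exists_of_eq := fun {c₁ c₂} h => by
    obtain ⟨M, hM⟩ := (c₁ - c₂).2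
    have hx : ((c₁ - c₂ : Csub m B) : X m B).1 i = 0 := by
      change c₁.1.1 i - c₂.1.1 i = 0
      rw [sub_eq_zero]; exact h
    obtain ⟨v, hv, hvx⟩ := exists_smul_eq_zero m B hinj hker i _ hx M hM
    refine ⟨⟨v, hv⟩, ?_⟩
    have h0 : v • (c₁ - c₂) = 0 := Subtype.ext hvx
    rw [smul_sub, sub_eq_zero] at h0
    exact h0

theorem nonempty_algEquiv (hinj : Function.Injective m)
    (hker : ∀ i, ∃ n : ℕ, ∀ x ∈ RingHom.ker (algebraMap (Localization.AtPrime (m i)) (B i)),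
      ∀ y ∈ Ideal.map (algebraMap A (Localization.AtPrime (m i))) (m i) ^ n, y * x = 0)
    (hcoker : ∀ i, ∃ n : ℕ,
      ∀ y ∈ Ideal.map (algebraMap A (Localization.AtPrime (m i))) (m i) ^ n, ∀ b : B i,
        y • b ∈ (algebraMap (Localization.AtPrime (m i)) (B i)).range)
    (i : Fin r) :
    Nonempty ((Localization.AtPrime (m i)) ⊗[A] (Csub m B) ≃ₐ[Localization.AtPrime (m i)] B i) := by
  haveI := isLocalizedModule_prC m B hinj hker hcoker i
  have hbc : IsBaseChange (Localization.AtPrime (m i)) (prC m B i) :=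
    IsLocalizedModule.isBaseChange (m i).primeCompl _ _
  refine ⟨Algebra.TensorProduct.algEquivOfLinearEquivTensorProduct hbc.equiv ?_ ?_⟩
  · intro a₁ a₂ c₁ c₂
    rw [IsBaseChange.equiv_tmul, IsBaseChange.equiv_tmul, IsBaseChange.equiv_tmul]
    change (a₁ * a₂) • (c₁.1.1 i * c₂.1.1 i) = (a₁ • c₁.1.1 i) * (a₂ • c₂.1.1 i)
    rw [smul_mul_smul_comm]
  · rw [IsBaseChange.equiv_tmul, one_smul]
    rfl

end Setup

end Groth.Agent.Lib.GlueMaxH1
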