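import Groth.Agent.Lib.GlueMax2_helper1

set_option autoImplicit false
set_option maxHeartbeats 1000000

universe u

open TensorProduct

namespace Groth.Agent.Lib.GlueMaxH1

section Setup

variable {A : Type u} [CommRing A] {r : ℕ} (m : Fin r → Ideal A) [hm : ∀ i, (m i).IsMaximal]
  (B : Fin r → Type u) [∀ i, CommRing (B i)] [∀ i, Algebra (Localization.AtPrime (m i)) (B i)]
  [∀ i, Algebra A (B i)] [∀ i, IsScalarTower A (Localization.AtPrime (m i)) (B i)]

/-- Lemma D: approximate elements of the localization by elements of `A`. -/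
theorem exists_sub_mem_pow (i : Fin r) (d : Localization.AtPrime (m i)) (n : ℕ) :
    ∃ a : A, d - algebraMap A (Localization.AtPrime (m i)) a ∈
      Ideal.map (algebraMap A (Localization.AtPrime (m i))) (m i) ^ n := by
  obtain ⟨a₀, s, rfl⟩ := IsLocalization.exists_mk'_eq (m i).primeCompl d
  obtain ⟨y, t, ht, hyt⟩ := Ideal.IsMaximal.exists_inv_pow (m i) s.2 n
  refine ⟨a₀ * y, ?_⟩
  have key : IsLocalization.mk' (Localization.AtPrime (m i)) a₀ s -
      algebraMap A (Localization.AtPrime (m i)) (a₀ * y) =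
      IsLocalization.mk' (Localization.AtPrime (m i)) a₀ s *
        algebraMap A (Localization.AtPrime (m i)) t := by
    have ht' : t = 1 - y * (s : A) := by rw [← hyt]; ring
    have h1 : algebraMap A (Localization.AtPrime (m i)) a₀ =
        IsLocalization.mk' (Localization.AtPrime (m i)) a₀ s *
          algebraMap A (Localization.AtPrime (m i)) (s : A) :=
      (IsLocalization.mk'_spec _ a₀ s).symm
    rw [ht', map_sub, map_one, map_mul, map_mul, h1]
    ring
  rw [key, ← Ideal.map_pow]
  exact Ideal.mul_mem_left _ _ (Ideal.mem_map_of_mem _ ht)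

/-- The image of the localization in `B i`, as an `A`-submodule. -/
def Ri (i : Fin r) : Submodule A (B i) :=
  LinearMap.range (IsScalarTower.toAlgHom A (Localization.AtPrime (m i)) (B i)).toLinearMap

theorem mem_Ri {i : Fin r} {b : B i} :
    b ∈ Ri m B i ↔ ∃ d : Localization.AtPrime (m i), algebraMap _ (B i) d = b := by
  unfold Ri
  rw [LinearMap.mem_range]
  rfl

theorem finite_quot_Ri (i : Fin r) [Module.Finite (Localization.AtPrime (m i)) (B i)] (n : ℕ)
    (hn : ∀ y ∈ Ideal.map (algebraMap A (Localization.AtPrime (m i))) (m i) ^ n, ∀ b : B i,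
        y • b ∈ (algebraMap (Localization.AtPrime (m i)) (B i)).range) :
    Module.Finite A (B i ⧸ Ri m B i) := by
  classical
  obtain ⟨T, hT⟩ := (Module.Finite.fg_top :
    (⊤ : Submodule (Localization.AtPrime (m i)) (B i)).FG)
  have key : ∀ b ∈ Submodule.span (Localization.AtPrime (m i)) (T : Set (B i)),
      (Ri m B i).mkQ b ∈ Submodule.span A ((Ri m B i).mkQ '' (T : Set (B i))) := by
    intro b hb
    refine Submodule.span_induction (p := fun b _ =>
      (Ri m B i).mkQ b ∈ Submodule.span A ((Ri m B i).mkQ '' (T : Set (B i)))) ?_ ?_ ?_ ?_ hb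
    · intro b hb
      exact Submodule.subset_span ⟨b, hb, rfl⟩
    · rw [map_zero]; exact Submodule.zero_mem _
    · intro b b' _ _ h h'
      rw [map_add]; exact Submodule.add_mem _ h h'
    · intro d b _ h
      obtain ⟨a, ha⟩ := exists_sub_mem_pow m i d n
      have e : (Ri m B i).mkQ (d • b) = a • (Ri m B i).mkQ b := by
        rw [← map_smul, ← sub_eq_zero, ← map_sub, Submodule.mkQ_apply,
          Submodule.Quotient.mk_eq_zero]
        have e2 : d • b - a • b = (d - algebraMap A (Localization.AtPrime (m i)) a) • b := by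
          rw [sub_smul, algebraMap_smul]
        rw [e2]
        obtain ⟨d', hd'⟩ := hn _ ha b
        exact (mem_Ri m B).mpr ⟨d', hd'⟩
      rw [e]
      exact Submodule.smul_mem _ a h
  refine ⟨⟨T.image (Ri m B i).mkQ, ?_⟩⟩
  rw [eq_top_iff]
  rintro q -
  obtain ⟨b, rfl⟩ := (Ri m B i).mkQ_surjective q
  rw [Finset.coe_image]
  exact key b (hT ▸ Submodule.mem_top)

variable [IsNoetherianRing A]

theorem main (hinj : Function.Injective m)
    (hker : ∀ i, ∃ n : ℕ, ∀ x ∈ RingHom.ker (algebraMap (Localization.AtPrime (m i)) (B i)),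
      ∀ y ∈ Ideal.map (algebraMap A (Localization.AtPrime (m i))) (m i) ^ n, y * x = 0)
    (hcoker : ∀ i, ∃ n : ℕ,
      ∀ y ∈ Ideal.map (algebraMap A (Localization.AtPrime (m i))) (m i) ^ n, ∀ b : B i,
        y • b ∈ (algebraMap (Localization.AtPrime (m i)) (B i)).range) :
    ∃ (C : Type u) (_ : CommRing C) (_ : Algebra A C),
      (∀ i, Nonempty ((Localization.AtPrime (m i)) ⊗[A] C ≃ₐ[Localization.AtPrime (m i)] B i)) ∧
      (∃ n : ℕ, (∀ x ∈ RingHom.ker (algebraMap A C), ∀ y ∈ (⨅ i, m i) ^ n, y * x = 0) ∧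
        (∀ y ∈ (⨅ i, m i) ^ n, ∀ c : C, y • c ∈ (algebraMap A C).range)) ∧
      ((∀ i, (algebraMap (Localization.AtPrime (m i)) (B i)).Finite) → (algebraMap A C).Finite) ∧
      ((∀ i, Function.Injective (algebraMap (Localization.AtPrime (m i)) (B i))) →
        Function.Injective (algebraMap A C)) ∧
      ((∀ i, Function.Surjective (algebraMap (Localization.AtPrime (m i)) (B i))) →
        Function.Surjective (algebraMap A C)) := by
  classical
  choose nK hnK using hker
  choose nQ hnQ using hcoker
  have hker : ∀ i, ∃ n : ℕ, ∀ x ∈ RingHom.ker (algebraMap (Localization.AtPrime (m i)) (B i)),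
      ∀ y ∈ Ideal.map (algebraMap A (Localization.AtPrime (m i))) (m i) ^ n, y * x = 0 :=
    fun i => ⟨nK i, hnK i⟩
  have hcoker : ∀ i, ∃ n : ℕ,
      ∀ y ∈ Ideal.map (algebraMap A (Localization.AtPrime (m i))) (m i) ^ n, ∀ b : B i,
        y • b ∈ (algebraMap (Localization.AtPrime (m i)) (B i)).range :=
    fun i => ⟨nQ i, hnQ i⟩
  obtain ⟨N, hNdef⟩ : ∃ N : ℕ, N = Finset.univ.sup (fun i => nK i + nQ i) := ⟨_, rfl⟩
  have hNK : ∀ i, nK i ≤ N := fun i =>
    le_trans (Nat.le_add_right _ _)
      (hNdef ▸ Finset.le_sup (f := fun i => nK i + nQ i) (Finset.mem_univ i))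
  have hNQ : ∀ i, nQ i ≤ N := fun i =>
    le_trans (Nat.le_add_left _ _)
      (hNdef ▸ Finset.le_sup (f := fun i => nK i + nQ i) (Finset.mem_univ i))
  -- membership transfer
  have hmap : ∀ (i : Fin r) (k : ℕ) (y : A), k ≤ N → y ∈ (⨅ i, m i) ^ N →
      algebraMap A (Localization.AtPrime (m i)) y ∈
        Ideal.map (algebraMap A (Localization.AtPrime (m i))) (m i) ^ k := by
    intro i k y hk hy
    rw [← Ideal.map_pow]
    apply Ideal.mem_map_of_mem
    exact Ideal.pow_le_pow_right hk (Ideal.pow_right_mono (iInf_le m i) N hy)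
  -- vanishing criterion
  have hzero : ∀ a : A, algebraMap A (X m B) a = 0 →
      (∀ i, algebraMap A (B i) a = 0 → algebraMap A (Localization.AtPrime (m i)) a = 0) →
      a = 0 := by
    intro a ha hloc
    apply eq_zero_of_localization
    intro J hJ
    by_cases h : ∃ i, J = m i
    · obtain ⟨i, rfl⟩ := h
      exact hloc i (congrArg (fun z : X m B => z.1 i) ha)
    · push_neg at h
      exact congrArg (fun z : X m B => z.2 ⟨J, hJ, h⟩) ha
  have hval : ∀ a : A, ((algebraMap A (Csub m B) a : Csub m B) : X m B) = algebraMap A (X m B) a :=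
    fun _ => rfl
  refine ⟨Csub m B, inferInstance, inferInstance,
    fun i => nonempty_algEquiv m B hinj hker hcoker i, ⟨N, ?_, ?_⟩, ?_, ?_, ?_⟩
  · -- kernel
    intro x hx y hy
    have hx0 : algebraMap A (X m B) x = 0 := by
      rw [← hval]; rw [RingHom.mem_ker] at hx; rw [hx]; rfl
    have hyx0 : algebraMap A (X m B) (y * x) = 0 := by rw [map_mul, hx0, mul_zero]
    apply hzero _ hyx0
    intro i _
    have hxi : algebraMap A (B i) x = 0 := congrArg (fun z : X m B => z.1 i) hx0
    have hxk : algebraMap A (Localization.AtPrime (m i)) x ∈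
        RingHom.ker (algebraMap (Localization.AtPrime (m i)) (B i)) := by
      rw [RingHom.mem_ker, ← IsScalarTower.algebraMap_apply]; exact hxi
    rw [map_mul]
    exact hnK i _ hxk _ (hmap i (nK i) y (hNK i) hy)
  · -- cokernel
    intro y hy c
    obtain ⟨M, hM⟩ := c.2
    have hx : ∀ i, ((y • c : Csub m B) : X m B).1 i ∈
        Set.range (algebraMap (Localization.AtPrime (m i)) (B i)) := by
      intro i
      obtain ⟨d, hd⟩ := hnQ i _ (hmap i (nQ i) y (hNQ i) hy) (c.1.1 i)
      refine ⟨d, ?_⟩
      rw [hd, algebraMap_smul]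
      rfl
    have hM' : (⨅ i, m i) ^ M ≤ colon m B ((y • c : Csub m B) : X m B) := by
      intro g hg
      obtain ⟨a, ha⟩ := (mem_colon m B).mp (hM hg)
      refine (mem_colon m B).mpr ⟨y * a, ?_⟩
      change algebraMap A (X m B) (y * a) = g • (y • (c : X m B))
      rw [map_mul, ha, ← Algebra.smul_def, smul_comm]
    obtain ⟨a, ha⟩ := mem_range_of_pow_le_colon m B hinj hker _ hx M hM'
    exact ⟨a, Subtype.ext ha⟩
  · -- finite
    intro hfin
    haveI : ∀ i, Module.Finite (Localization.AtPrime (m i)) (B i) := fun i =>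
      RingHom.finite_algebraMap.mp (hfin i)
    haveI : ∀ i, Module.Finite A (B i ⧸ Ri m B i) := fun i =>
      finite_quot_Ri m B i (nQ i) (hnQ i)
    rw [RingHom.finite_algebraMap]
    let g : Csub m B →ₗ[A] (∀ i, B i ⧸ Ri m B i) :=
      LinearMap.pi (fun i => (Ri m B i).mkQ ∘ₗ prC m B i)
    have hg : LinearMap.range (Algebra.linearMap A (Csub m B)) = LinearMap.ker g := by
      apply le_antisymm
      · rintro _ ⟨a, rfl⟩
        rw [LinearMap.mem_ker]
        funext i
        change (Ri m B i).mkQ (algebraMap A (B i) a) = 0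
        rw [Submodule.mkQ_apply, Submodule.Quotient.mk_eq_zero]
        exact (mem_Ri m B).mpr ⟨algebraMap A _ a, (IsScalarTower.algebraMap_apply _ _ _ _).symm⟩
      · intro c hc
        rw [LinearMap.mem_ker] at hc
        obtain ⟨M, hM⟩ := c.2
        have hx : ∀ i, c.1.1 i ∈ Set.range (algebraMap (Localization.AtPrime (m i)) (B i)) := by
          intro i
          have h0 : (Ri m B i).mkQ (c.1.1 i) = 0 := congrFun hc i
          rw [Submodule.mkQ_apply, Submodule.Quotient.mk_eq_zero] at h0
          exact (mem_Ri m B).mp h0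
        obtain ⟨a, ha⟩ := mem_range_of_pow_le_colon m B hinj hker _ hx M hM
        exact ⟨a, Subtype.ext ha⟩
    haveI : IsNoetherian A (∀ i, B i ⧸ Ri m B i) := isNoetherian_of_isNoetherianRing_of_finite A _
    haveI : IsNoetherian A (Csub m B) :=
      isNoetherian_of_range_eq_ker (Algebra.linearMap A (Csub m B)) g hg
    infer_instance
  · -- injective
    intro hinjB
    rw [injective_iff_map_eq_zero]
    intro a ha
    have ha0 : algebraMap A (X m B) a = 0 := by rw [← hval, ha]; rfl
    apply hzero a ha0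
    intro i hi
    apply hinjB i
    rw [map_zero, ← IsScalarTower.algebraMap_apply]
    exact hi
  · -- surjective
    intro hsurjB c
    obtain ⟨M, hM⟩ := c.2
    have hx : ∀ i, c.1.1 i ∈ Set.range (algebraMap (Localization.AtPrime (m i)) (B i)) :=
      fun i => hsurjB i _
    obtain ⟨a, ha⟩ := mem_range_of_pow_le_colon m B hinj hker _ hx M hM
    exact ⟨a, Subtype.ext ha⟩

end Setup

end Groth.Agent.Lib.GlueMaxH1
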