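import Mathlib
import Groth.Prelude.Def_EtGlue
import Groth.Agent.Lib.EtGlue_helper4
import Groth.Agent.Lib.EtGlue2_helper4
import Groth.Agent.Lib.GlueFlat_helper5
import Groth.Agent.Lib.Flat23_helper8

/-!
# Glueing pairs detect flat + finitely presented and formally unramified algebras (tensor form)
(helper8)  APPEND-ONLY once landed.
-/

set_option autoImplicit false

open TensorProduct

namespace GluePairH8

universe u

variable {A A' B : Type u} [CommRing A] [CommRing A'] [Algebra A A'] [CommRing B] [Algebra A B]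
  (g : A)

/-- Flatness glues. -/
theorem flat_of_tensor (h : EtGlue.IsGlueingPair A A' g) [Module.Flat A' (A' ⊗[A] B)]
    [Module.Flat (Localization.Away g) (Localization.Away g ⊗[A] B)] : Module.Flat A B := by
  refine Groth.Agent.GlueFlat.flat_of_glueing g h B inferInstance ?_
  exact Module.Flat.of_linearEquiv (LocalizedModule.equivTensorProduct (Submonoid.powers g) B)

theorem exists_pow_smul_eq_zero {M : Type u} [AddCommGroup M] [Module A M] (m : M)
    (h : (1 : Localization.Away g) ⊗ₜ[A] m = 0) : ∃ n : ℕ, g ^ n • m = 0 := by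
  have h1 := congrArg (LocalizedModule.equivTensorProduct (Submonoid.powers g) M).symm h
  rw [LocalizedModule.equivTensorProduct_symm_apply_tmul_one, map_zero] at h1
  have h2 : LocalizedModule.mkLinearMap (Submonoid.powers g) M m = 0 := h1
  exact Groth.Agent.Lib.EtGlueH4.torsion_of_mk_eq_zero h2

section fp

variable {n : ℕ} (π : MvPolynomial (Fin n) A →ₐ[A] B)

theorem exists_finset_ker (hπ : Function.Surjective π)
    (A'' : Type u) [CommRing A''] [Algebra A A'']
    [Algebra.FinitePresentation A'' (A'' ⊗[A] B)] :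
    ∃ T : Finset (MvPolynomial (Fin n) A), (T : Set (MvPolynomial (Fin n) A)) ⊆ RingHom.ker π ∧
      ∀ N : Ideal (MvPolynomial (Fin n) A), (T : Set (MvPolynomial (Fin n) A)) ⊆ N →
        ∀ k ∈ RingHom.ker π,
          (1 : A'') ⊗ₜ[A] ((Ideal.Quotient.mkₐ A N).toLinearMap k) = 0 := by
  classical
  let Ψ : A'' ⊗[A] MvPolynomial (Fin n) A →ₐ[A''] A'' ⊗[A] B :=
    Algebra.TensorProduct.map (AlgHom.id A'' A'') π
  have hΨ : Function.Surjective Ψ := LinearMap.lTensor_surjective A'' (g := π.toLinearMap) hπ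
  have hfg : (RingHom.ker Ψ.toRingHom).FG :=
    Algebra.FinitePresentation.ker_fG_of_surjective Ψ hΨ
  have hker : RingHom.ker Ψ.toRingHom = (RingHom.ker π).map
      (Algebra.TensorProduct.includeRight :
        MvPolynomial (Fin n) A →ₐ[A] A'' ⊗[A] MvPolynomial (Fin n) A) := by
    rw [← Algebra.TensorProduct.lTensor_ker π hπ]
    ext x
    rfl
  rw [hker, Ideal.map, ← Ideal.submodule_span_eq] at hfg
  have hfg' : (Submodule.span (A'' ⊗[A] MvPolynomial (Fin n) A)
      ((Algebra.TensorProduct.includeRight :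
        MvPolynomial (Fin n) A →ₐ[A] A'' ⊗[A] MvPolynomial (Fin n) A) ''
          (RingHom.ker π : Set (MvPolynomial (Fin n) A)))).FG := hfg
  rw [Submodule.fg_span_iff_fg_span_finset_subset] at hfg'
  obtain ⟨s', hs', hspan⟩ := hfg'
  rw [Finset.subset_set_image_iff] at hs'
  obtain ⟨T, hT, rfl⟩ := hs'
  refine ⟨T, hT, fun N hN k hk => ?_⟩
  have h1 : (1 : A'') ⊗ₜ[A] k ∈ N.map (Algebra.TensorProduct.includeRight :
        MvPolynomial (Fin n) A →ₐ[A] A'' ⊗[A] MvPolynomial (Fin n) A) := by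
    have h0 : (1 : A'') ⊗ₜ[A] k ∈ (RingHom.ker π).map (Algebra.TensorProduct.includeRight :
        MvPolynomial (Fin n) A →ₐ[A] A'' ⊗[A] MvPolynomial (Fin n) A) :=
      Ideal.mem_map_of_mem _ hk
    rw [Ideal.map, ← Ideal.submodule_span_eq, hspan] at h0
    refine (Submodule.span_le.mpr ?_) h0
    intro y hy
    rw [Finset.coe_image] at hy
    obtain ⟨t, ht, rfl⟩ := hy
    exact Ideal.mem_map_of_mem _ (hN ht)
  have h2 : (1 : A'') ⊗ₜ[A] k ∈ (N.map (Algebra.TensorProduct.includeRight :
        MvPolynomial (Fin n) A →ₐ[A] A'' ⊗[A] MvPolynomial (Fin n) A)).restrictScalars A := h1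
  rw [Ideal.map_includeRight_eq] at h2
  obtain ⟨z, hz⟩ := h2
  have h3 := congrArg (LinearMap.lTensor A'' (Ideal.Quotient.mkₐ A N).toLinearMap) hz
  rw [← LinearMap.comp_apply, ← LinearMap.lTensor_comp] at h3
  have h4 : (Ideal.Quotient.mkₐ A N).toLinearMap ∘ₗ (N.restrictScalars A).subtype = 0 := by
    ext x
    have : (x : MvPolynomial (Fin n) A) ∈ N := x.2
    simpa [Ideal.Quotient.eq_zero_iff_mem] using this
  rw [h4, LinearMap.lTensor_zero, LinearMap.zero_apply, LinearMap.lTensor_tmul] at h3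
  exact h3.symm

end fp

/-- Finite presentation glues for flat algebras of finite type. -/
theorem fp_of_tensor (h : EtGlue.IsGlueingPair A A' g) [Algebra.FiniteType A B] [Module.Flat A B]
    [Algebra.FinitePresentation A' (A' ⊗[A] B)]
    [Algebra.FinitePresentation (Localization.Away g) (Localization.Away g ⊗[A] B)] :
    Algebra.FinitePresentation A B := by
  classical
  obtain ⟨n, π, hπ⟩ := Algebra.FiniteType.iff_quotient_mvPolynomial''.mp
    (inferInstance : Algebra.FiniteType A B)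
  obtain ⟨T1, hT1, h1⟩ := exists_finset_ker π hπ A'
  obtain ⟨T2, hT2, h2⟩ := exists_finset_ker π hπ (Localization.Away g)
  let N : Ideal (MvPolynomial (Fin n) A) :=
    Ideal.span ((T1 ∪ T2 : Finset (MvPolynomial (Fin n) A)) : Set (MvPolynomial (Fin n) A))
  have hN1 : (T1 : Set (MvPolynomial (Fin n) A)) ⊆ N := fun t ht =>
    Ideal.subset_span (by simp [Finset.mem_coe.mp ht])
  have hN2 : (T2 : Set (MvPolynomial (Fin n) A)) ⊆ N := fun t ht =>
    Ideal.subset_span (by simp [Finset.mem_coe.mp ht])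
  have hNK : N ≤ RingHom.ker π := Ideal.span_le.mpr (by
    rw [Finset.coe_union]
    exact Set.union_subset hT1 hT2)
  let πbar : (MvPolynomial (Fin n) A ⧸ N) →ₐ[A] B :=
    Ideal.Quotient.liftₐ N π (fun a ha => hNK ha)
  have hπbar : ∀ p, πbar ((Ideal.Quotient.mkₐ A N).toLinearMap p) = π p := fun p => by
    simp [πbar]
  let Q : Submodule A (MvPolynomial (Fin n) A ⧸ N) := LinearMap.ker πbar.toLinearMap
  have hsurj : Function.Surjective πbar.toLinearMap := fun b => by
    obtain ⟨p, rfl⟩ := hπ b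
    exact ⟨(Ideal.Quotient.mkₐ A N).toLinearMap p, hπbar p⟩
  have hex : Function.Exact Q.subtype πbar.toLinearMap := LinearMap.exact_subtype_ker_map _
  have hinj := Flat23H8.lTensor_injective_of_flat_cokernel Q.subtype πbar.toLinearMap
    Q.injective_subtype hsurj hex A'
  have hQ : ∀ q : Q, ∃ k ∈ RingHom.ker π, (Ideal.Quotient.mkₐ A N).toLinearMap k = q.1 := by
    intro q
    obtain ⟨p, hp⟩ := Ideal.Quotient.mk_surjective q.1
    refine ⟨p, ?_, hp⟩
    have hq2 : πbar q.1 = 0 := q.2
    rw [← hp] at hq2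
    rw [RingHom.mem_ker]
    rw [← hq2]
    exact (hπbar p).symm
  have htors : ∀ q : Q, ∃ m : ℕ, g ^ m • q = 0 := by
    intro q
    obtain ⟨k, hk, hkq⟩ := hQ q
    obtain ⟨m, hm⟩ := exists_pow_smul_eq_zero g _ (h2 N hN2 k hk)
    exact ⟨m, Subtype.ext (by rw [Submodule.coe_smul, ← hkq, hm]; rfl)⟩
  have hzero : ∀ q : Q, q = 0 := by
    intro q
    apply Groth.Agent.Lib.EtGlueH4.eq_zero_of_one_tmul_eq_zero Q h.1 htors
    apply hinj
    rw [LinearMap.lTensor_tmul, map_zero]
    obtain ⟨k, hk, hkq⟩ := hQ q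
    rw [Submodule.subtype_apply, ← hkq]
    exact h1 N hN1 k hk
  have hKN : RingHom.ker π ≤ N := by
    intro k hk
    have hq : (Ideal.Quotient.mkₐ A N).toLinearMap k ∈ Q := by
      rw [LinearMap.mem_ker]
      exact (hπbar k).trans hk
    have h0 := congrArg Subtype.val (hzero ⟨_, hq⟩)
    have h0' : Ideal.Quotient.mk N k = 0 := h0
    exact Ideal.Quotient.eq_zero_iff_mem.mp h0'
  refine ⟨n, π, hπ, ?_⟩
  have hKeq : RingHom.ker π.toRingHom = N := le_antisymm hKN hNK
  rw [hKeq]
  exact ⟨T1 ∪ T2, rfl⟩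

/-- Formal unramifiedness: the module of differentials dies after base change. -/
theorem subsingleton_tensor_kaehler (A'' : Type u) [CommRing A''] [Algebra A A'']
    [Algebra.FormallyUnramified A'' (A'' ⊗[A] B)] : Subsingleton (A'' ⊗[A] Ω[B⁄A]) := by
  letI : Algebra B (A'' ⊗[A] B) := Algebra.TensorProduct.rightAlgebra
  exact (KaehlerDifferential.tensorKaehlerEquivBase A A'' B (A'' ⊗[A] B)).toEquiv.subsingleton

/-- Formal unramifiedness glues. -/
theorem formallyUnramified_of_tensor (h : EtGlue.IsGlueingPair A A' g)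
    [Algebra.FormallyUnramified A' (A' ⊗[A] B)]
    [Algebra.FormallyUnramified (Localization.Away g) (Localization.Away g ⊗[A] B)] :
    Algebra.FormallyUnramified A B := by
  haveI h1 := subsingleton_tensor_kaehler (A := A) (B := B) A'
  haveI h2 := subsingleton_tensor_kaehler (A := A) (B := B) (Localization.Away g)
  have htors : ∀ ω : Ω[B⁄A], ∃ m : ℕ, g ^ m • ω = 0 := fun ω =>
    exists_pow_smul_eq_zero g ω (Subsingleton.elim _ _)
  refine ⟨⟨fun ω ω' => ?_⟩⟩
  have : ∀ ω : Ω[B⁄A], ω = 0 := fun ω =>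
    Groth.Agent.Lib.EtGlueH4.eq_zero_of_one_tmul_eq_zero Ω[B⁄A] h.1 htors (Subsingleton.elim _ _)
  rw [this ω, this ω']

end GluePairH8
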