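import Mathlib
import Groth.Prelude.Def_EtGlue
import Groth.Agent.Lib.GluePair1_helper8
import Groth.Agent.Lib.GluePair2_helper8
import Groth.Agent.Lib.EtGlue4_helper4

/-!
# Glueing pairs detect flat + finitely presented / étale algebra maps (helper8)
APPEND-ONLY once landed.
-/

set_option autoImplicit false

open TensorProduct

namespace GluePairH8

universe u

attribute [local instance] Algebra.TensorProduct.rightAlgebra

section bridges

variable {Q : ∀ {X Y : Type u} [CommRing X] [CommRing Y], (X →+* Y) → Prop}

theorem tensor_bridge (hQ : RingHom.RespectsIso @Q)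
    {R R' A B : Type u} [CommRing R] [CommRing R'] [Algebra R R'] [CommRing A] [Algebra R A]
    [CommRing B] [Algebra R B] [Algebra A B] [IsScalarTower R A B]
    (φ : A →ₐ[R] B) (hφ : ∀ a, φ a = algebraMap A B a) :
    Q (Algebra.TensorProduct.map (AlgHom.id R R') φ).toRingHom ↔
      Q (algebraMap (R' ⊗[R] A) ((R' ⊗[R] A) ⊗[A] B)) := by
  let e : (R' ⊗[R] A) ⊗[A] B ≃ₐ[R'] R' ⊗[R] B :=
    Algebra.IsPushout.cancelBaseChangeAlg R R' A (R' ⊗[R] A) B
  have key : ∀ x : R' ⊗[R] A, e.symm ((Algebra.TensorProduct.map (AlgHom.id R R') φ) x) =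
      algebraMap (R' ⊗[R] A) ((R' ⊗[R] A) ⊗[A] B) x := by
    intro x
    induction x using TensorProduct.induction_on with
    | zero => simp
    | add x y hx hy => rw [map_add, map_add, hx, hy, map_add]
    | tmul r a =>
      rw [Algebra.TensorProduct.map_tmul, AlgHom.id_apply,
        Algebra.IsPushout.cancelBaseChangeAlg_symm_tmul, hφ, Algebra.algebraMap_eq_smul_one a,
        TensorProduct.tmul_smul, TensorProduct.smul_tmul', Algebra.TensorProduct.algebraMap_apply,
        Algebra.TensorProduct.algebraMap_apply]
      congr 1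
      rw [Algebra.smul_def, Algebra.TensorProduct.right_algebraMap_apply,
        Algebra.TensorProduct.tmul_mul_tmul]
      simp
  have h1 : (Algebra.TensorProduct.map (AlgHom.id R R') φ).toRingHom =
      e.toRingEquiv.toRingHom.comp (algebraMap (R' ⊗[R] A) ((R' ⊗[R] A) ⊗[A] B)) := by
    refine RingHom.ext fun x => ?_
    show _ = e (algebraMap (R' ⊗[R] A) ((R' ⊗[R] A) ⊗[A] B) x)
    rw [← key x, AlgEquiv.apply_symm_apply]
    rfl
  have h2 : algebraMap (R' ⊗[R] A) ((R' ⊗[R] A) ⊗[A] B) =
      e.symm.toRingEquiv.toRingHom.comp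
        (Algebra.TensorProduct.map (AlgHom.id R R') φ).toRingHom := by
    refine RingHom.ext fun x => ?_
    exact (key x).symm
  constructor
  · intro h
    rw [h2]
    exact hQ.1 _ _ h
  · intro h
    rw [h1]
    exact hQ.1 _ _ h

theorem away_bridge (hQ : RingHom.RespectsIso @Q)
    {A B : Type u} [CommRing A] [CommRing B] [Algebra A B] (g : A) :
    Q (Localization.awayMap (algebraMap A B) g) ↔
      Q (algebraMap (Localization.Away g) (Localization.Away g ⊗[A] B)) := by
  letI : Algebra (Localization.Away g) (Localization.Away (algebraMap A B g)) :=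
    (Localization.awayMap (algebraMap A B) g).toAlgebra
  haveI : IsScalarTower A (Localization.Away g) (Localization.Away (algebraMap A B g)) :=
    .of_algebraMap_eq' (by
      rw [RingHom.algebraMap_toAlgebra, IsScalarTower.algebraMap_eq A B
        (Localization.Away (algebraMap A B g))]
      exact (IsLocalization.map_comp _).symm)
  haveI : IsLocalization (Algebra.algebraMapSubmonoid B (Submonoid.powers g))
      (Localization.Away (algebraMap A B g)) := by
    rw [Algebra.algebraMapSubmonoid_powers]
    infer_instance
  haveI hpo : Algebra.IsPushout A (Localization.Away g) B (Localization.Away (algebraMap A B g)) :=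
    (Algebra.isPushout_of_isLocalization (Submonoid.powers g) (Localization.Away g) B
      (Localization.Away (algebraMap A B g))).symm
  let e : Localization.Away g ⊗[A] B ≃ₐ[Localization.Away g]
      Localization.Away (algebraMap A B g) :=
    Algebra.IsPushout.equiv A (Localization.Away g) B (Localization.Away (algebraMap A B g))
  have h1 : Localization.awayMap (algebraMap A B) g =
      e.toRingEquiv.toRingHom.comp
        (algebraMap (Localization.Away g) (Localization.Away g ⊗[A] B)) := by
    refine RingHom.ext fun x => ?_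
    show _ = e (algebraMap (Localization.Away g) (Localization.Away g ⊗[A] B) x)
    rw [e.commutes]
    rfl
  have h2 : algebraMap (Localization.Away g) (Localization.Away g ⊗[A] B) =
      e.symm.toRingEquiv.toRingHom.comp (Localization.awayMap (algebraMap A B) g) := by
    refine RingHom.ext fun x => ?_
    show _ = e.symm (algebraMap (Localization.Away g) (Localization.Away (algebraMap A B g)) x)
    rw [e.symm.commutes]
  constructor
  · intro h
    rw [h2]
    exact hQ.1 _ _ h
  · intro h
    rw [h1]
    exact hQ.1 _ _ h

end bridges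

section main

variable {R R' : Type u} [CommRing R] [CommRing R'] [Algebra R R'] {f : R}
  {A B : Type u} [CommRing A] [Algebra R A] [CommRing B] [Algebra R B]

/-- Forward direction for any property stable under base change. -/
theorem forward {Q : ∀ {X Y : Type u} [CommRing X] [CommRing Y], (X →+* Y) → Prop}
    (hQ : RingHom.IsStableUnderBaseChange @Q) (hQi : RingHom.RespectsIso @Q) (φ : A →ₐ[R] B)
    (h : Q φ.toRingHom) :
    Q (Localization.awayMap φ.toRingHom (algebraMap R A f)) ∧
      Q (Algebra.TensorProduct.map (AlgHom.id R R') φ).toRingHom := by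
  refine ⟨hQ.localizationPreserves.away φ.toRingHom (algebraMap R A f) _ _ h, ?_⟩
  letI : Algebra A B := φ.toRingHom.toAlgebra
  haveI : IsScalarTower R A B := .of_algebraMap_eq' (by
    refine RingHom.ext fun r => ?_
    exact (φ.commutes r).symm)
  rw [tensor_bridge hQi φ (fun _ => rfl)]
  exact hQ A B (R' ⊗[R] A) ((R' ⊗[R] A) ⊗[A] B) h

theorem flat_fp_of (hRR' : EtGlue.IsGlueingPair R R' f) (hA : EtGlue.IsGlueable R R' f A)
    (φ : A →ₐ[R] B)
    (h1 : (Localization.awayMap φ.toRingHom (algebraMap R A f)).Flat)
    (h1' : (Localization.awayMap φ.toRingHom (algebraMap R A f)).FinitePresentation)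
    (h2 : (Algebra.TensorProduct.map (AlgHom.id R R') φ).toRingHom.Flat)
    (h2' : (Algebra.TensorProduct.map (AlgHom.id R R') φ).toRingHom.FinitePresentation) :
    φ.toRingHom.Flat ∧ φ.toRingHom.FinitePresentation := by
  have hft : φ.toRingHom.FiniteType := Groth.Agent.Lib.EtGlueH4.finiteType_of φ hRR'.1
    (RingHom.FiniteType.of_finitePresentation h1') (RingHom.FiniteType.of_finitePresentation h2')
  letI : Algebra A B := φ.toRingHom.toAlgebra
  haveI : IsScalarTower R A B := .of_algebraMap_eq' (by
    refine RingHom.ext fun r => ?_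
    exact (φ.commutes r).symm)
  have hpair := glueingPair_tensor A hRR' hA
  haveI hft' : Algebra.FiniteType A B := RingHom.finiteType_algebraMap.mp hft
  haveI e1 : Module.Flat (R' ⊗[R] A) ((R' ⊗[R] A) ⊗[A] B) :=
    RingHom.flat_algebraMap_iff.mp
      ((tensor_bridge RingHom.Flat.respectsIso φ (fun _ => rfl)).mp h2)
  haveI e2 : Algebra.FinitePresentation (R' ⊗[R] A) ((R' ⊗[R] A) ⊗[A] B) :=
    RingHom.finitePresentation_algebraMap.mp
      ((tensor_bridge RingHom.finitePresentation_respectsIso φ (fun _ => rfl)).mp h2')
  haveI e3 : Module.Flat (Localization.Away (algebraMap R A f))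
      (Localization.Away (algebraMap R A f) ⊗[A] B) :=
    RingHom.flat_algebraMap_iff.mp
      ((away_bridge RingHom.Flat.respectsIso (algebraMap R A f)).mp h1)
  haveI e4 : Algebra.FinitePresentation (Localization.Away (algebraMap R A f))
      (Localization.Away (algebraMap R A f) ⊗[A] B) :=
    RingHom.finitePresentation_algebraMap.mp
      ((away_bridge RingHom.finitePresentation_respectsIso (algebraMap R A f)).mp h1')
  haveI hflat : Module.Flat A B := flat_of_tensor (algebraMap R A f) hpair
  have hfp : Algebra.FinitePresentation A B := fp_of_tensor (algebraMap R A f) hpair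
  exact ⟨RingHom.flat_algebraMap_iff.mpr hflat, RingHom.finitePresentation_algebraMap.mpr hfp⟩

theorem flat_fp_iff (hRR' : EtGlue.IsGlueingPair R R' f) (hA : EtGlue.IsGlueable R R' f A)
    (φ : A →ₐ[R] B) :
    (φ.toRingHom.Flat ∧ φ.toRingHom.FinitePresentation) ↔
      ((Localization.awayMap φ.toRingHom (algebraMap R A f)).Flat ∧
        (Localization.awayMap φ.toRingHom (algebraMap R A f)).FinitePresentation) ∧
      ((Algebra.TensorProduct.map (AlgHom.id R R') φ).toRingHom.Flat ∧
        (Algebra.TensorProduct.map (AlgHom.id R R') φ).toRingHom.FinitePresentation) := by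
  constructor
  · rintro ⟨h, h'⟩
    have a := forward (R' := R') (f := f) RingHom.Flat.isStableUnderBaseChange
      RingHom.Flat.respectsIso φ h
    have b := forward (R' := R') (f := f) RingHom.finitePresentation_isStableUnderBaseChange
      RingHom.finitePresentation_respectsIso φ h'
    exact ⟨⟨a.1, b.1⟩, ⟨a.2, b.2⟩⟩
  · rintro ⟨⟨h1, h1'⟩, ⟨h2, h2'⟩⟩
    exact flat_fp_of hRR' hA φ h1 h1' h2 h2'

theorem etale_iff (hRR' : EtGlue.IsGlueingPair R R' f) (hA : EtGlue.IsGlueable R R' f A)
    (φ : A →ₐ[R] B) :
    φ.toRingHom.Etale ↔ (Localization.awayMap φ.toRingHom (algebraMap R A f)).Etale ∧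
      (Algebra.TensorProduct.map (AlgHom.id R R') φ).toRingHom.Etale := by
  constructor
  · intro h
    exact forward (R' := R') (f := f) RingHom.Etale.isStableUnderBaseChange
      RingHom.Etale.respectsIso φ h
  · rintro ⟨h1, h2⟩
    rw [RingHom.Etale.iff_flat_and_formallyUnramified] at h1 h2 ⊢
    obtain ⟨hfl, hfp⟩ := flat_fp_of hRR' hA φ h1.1 h1.2.2 h2.1 h2.2.2
    refine ⟨hfl, ?_, hfp⟩
    letI : Algebra A B := φ.toRingHom.toAlgebra
    haveI : IsScalarTower R A B := .of_algebraMap_eq' (by
      refine RingHom.ext fun r => ?_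
      exact (φ.commutes r).symm)
    have hpair := glueingPair_tensor A hRR' hA
    haveI e1 : Algebra.FormallyUnramified (R' ⊗[R] A) ((R' ⊗[R] A) ⊗[A] B) :=
      RingHom.formallyUnramified_algebraMap.mp
        ((tensor_bridge RingHom.FormallyUnramified.respectsIso φ (fun _ => rfl)).mp h2.2.1)
    haveI e2 : Algebra.FormallyUnramified (Localization.Away (algebraMap R A f))
        (Localization.Away (algebraMap R A f) ⊗[A] B) :=
      RingHom.formallyUnramified_algebraMap.mp
        ((away_bridge RingHom.FormallyUnramified.respectsIso (algebraMap R A f)).mp h1.2.1)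
    have := formallyUnramified_of_tensor (B := B) (algebraMap R A f) hpair
    exact RingHom.formallyUnramified_algebraMap.mpr this

end main

end GluePairH8
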