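import Mathlib
import Groth.Prelude.Def_EtGlue
import Groth.Agent.Lib.GlueFlat_helper5

/-!
# Finite projective modules glue along a glueing pair (helper5)
-/

set_option autoImplicit false
universe u
open TensorProduct

namespace Groth.Agent.GlueProj

open Groth.Agent.TorLES

section loc

variable {R : Type u} [CommRing R] (S : Submonoid R)

/-- The localization of the kernel of a surjection from a finite module onto a module whose
localization is finitely presented is finite. -/
theorem finite_localizedModule_ker {F M : Type u} [AddCommGroup F] [Module R F] [AddCommGroup M]
    [Module R M] [Module.Finite R F] (π : F →ₗ[R] M) (hπ : Function.Surjective π)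
    [Module.FinitePresentation (Localization S) (LocalizedModule S M)] :
    Module.Finite (Localization S) (LocalizedModule S ↥(LinearMap.ker π)) := by
  let ℓF := LocalizedModule.mkLinearMap S F
  let ℓM := LocalizedModule.mkLinearMap S M
  let πf : LocalizedModule S F →ₗ[Localization S] LocalizedModule S M :=
    (IsLocalizedModule.map S ℓF ℓM π).extendScalarsOfIsLocalization S (Localization S)
  have hπf : Function.Surjective πf := IsLocalizedModule.map_surjective S ℓF ℓM π hπ
  have hfg : (LinearMap.ker πf).FG := Module.FinitePresentation.fg_ker πf hπf
  have heq : (LinearMap.ker π).localized' (Localization S) S ℓF = LinearMap.ker πf :=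
    LinearMap.localized'_ker_eq_ker_localizedMap (Localization S) S ℓF ℓM π
  haveI : Module.Finite (Localization S) ↥((LinearMap.ker π).localized S) := by
    rw [Module.Finite.iff_fg]
    show ((LinearMap.ker π).localized' (Localization S) S ℓF).FG
    rw [heq]
    exact hfg
  exact Module.Finite.equiv (Submodule.localizedEquiv S (LinearMap.ker π))

end loc

variable {R R' : Type u} [CommRing R] [CommRing R'] [Algebra R R']

/-- base change of the kernel of a presentation of a flat module with finitely presented base
change is finite. -/
theorem finite_baseChange_ker {n : ℕ} {M : Type u} [AddCommGroup M] [Module R M]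
    [Module.Flat R M] (π : (Fin n → R) →ₗ[R] M) (hπ : Function.Surjective π)
    [Module.FinitePresentation R' (R' ⊗[R] M)] :
    Module.Finite R' (R' ⊗[R] ↥(LinearMap.ker π)) := by
  set ι := (LinearMap.ker π).subtype with hι
  have hιi : Function.Injective ι := Submodule.injective_subtype _
  have hex : Function.Exact ι π := LinearMap.exact_subtype_ker_map _
  have h1 : Function.Injective (ι.rTensor R') := by
    have := @rTensor_injective_of_torZero_one R _ (↥(LinearMap.ker π)) (Fin n → R) M
      _ _ _ _ _ _ ι π R' _ _ hιi hex hπ
    exact this (torZero_succ_of_flat_left R' M 0)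
  have h2 : Function.Injective (ι.lTensor R') :=
    (LinearMap.lTensor_inj_iff_rTensor_inj _ _).mpr h1
  have hinj : Function.Injective (ι.baseChange R') := by
    rw [LinearMap.baseChange_eq_ltensor]
    exact h2
  have hex' : Function.Exact (ι.baseChange R') (π.baseChange R') :=
    lTensor_exact R' hex hπ
  have hsurj' : Function.Surjective (π.baseChange R') := LinearMap.lTensor_surjective R' hπ
  have hfg : (LinearMap.ker (π.baseChange R')).FG := Module.FinitePresentation.fg_ker _ hsurj'
  rw [LinearMap.exact_iff.mp hex', LinearMap.range_eq_map] at hfg
  exact ⟨Submodule.fg_of_fg_map_injective _ hinj hfg⟩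

/-- **Finite projective modules glue along a glueing pair**, given the finiteness criterion. -/
theorem finite_projective_of_glueing (f : R) (h : EtGlue.IsGlueingPair R R' f)
    (hfin : ∀ (N : Type u) [AddCommGroup N] [Module R N], Module.Finite R' (R' ⊗[R] N) →
      Module.Finite (Localization.Away f) (LocalizedModule (Submonoid.powers f) N) →
      Module.Finite R N)
    (M : Type u) [AddCommGroup M] [Module R M]
    (h1 : Module.Finite R' (R' ⊗[R] M)) (h2 : Module.Projective R' (R' ⊗[R] M))
    (h3 : Module.Finite (Localization.Away f) (LocalizedModule (Submonoid.powers f) M))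
    (h4 : Module.Projective (Localization.Away f) (LocalizedModule (Submonoid.powers f) M)) :
    Module.Finite R M ∧ Module.Projective R M := by
  haveI := h1
  haveI := h2
  haveI := h3
  haveI := h4
  haveI hflat : Module.Flat R M :=
    Groth.Agent.GlueFlat.flat_of_glueing f h M inferInstance inferInstance
  haveI hMfin : Module.Finite R M := hfin M h1 h3
  obtain ⟨n, π, hπ⟩ := Module.Finite.exists_fin' R M
  haveI : Module.FinitePresentation R' (R' ⊗[R] M) :=
    Module.finitePresentation_of_projective R' _
  haveI : Module.FinitePresentation (Localization (Submonoid.powers f))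
      (LocalizedModule (Submonoid.powers f) M) :=
    Module.finitePresentation_of_projective _ _
  have hK : Module.Finite R ↥(LinearMap.ker π) :=
    hfin _ (finite_baseChange_ker π hπ) (finite_localizedModule_ker (Submonoid.powers f) π hπ)
  haveI : Module.FinitePresentation R M :=
    Module.finitePresentation_of_free_of_surjective π hπ (Module.Finite.iff_fg.mp hK)
  exact ⟨hMfin, Module.Flat.projective_of_finitePresentation⟩

end Groth.Agent.GlueProj
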