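import Mathlib

/-!
# Points of quasi-affine schemes over a glueing pair (S15769)
-/

set_option autoImplicit false

open CategoryTheory AlgebraicGeometry

namespace Groth.Agent.Lib.GluePtsH1

universe u

section Alg

variable {A A' : Type u} [CommRing A] [CommRing A'] (φ : A →+* A') (t : A)

theorem algebraMap_away_eq_zero_iff {R : Type u} [CommRing R] (r : R) (a : R) :
    algebraMap R (Localization.Away r) a = 0 ↔ ∃ m : ℕ, r ^ m * a = 0 := by
  rw [IsLocalization.map_eq_zero_iff (Submonoid.powers r)]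
  constructor
  · rintro ⟨⟨_, m, rfl⟩, h⟩
    exact ⟨m, h⟩
  · rintro ⟨m, h⟩
    exact ⟨⟨r ^ m, m, rfl⟩, h⟩

theorem awayMap_algebraMap (c : A) :
    Localization.awayMap φ t (algebraMap A (Localization.Away t) c) =
      algebraMap A' (Localization.Away (φ t)) (φ c) := by
  simp [Localization.awayMap, IsLocalization.Away.map, IsLocalization.map_eq]

theorem joint_injective
    (htor : ∀ a' : A', (∃ m : ℕ, φ t ^ m * a' = 0) →
      ∃! a : A, (∃ m : ℕ, t ^ m * a = 0) ∧ φ a = a')
    (a b : A) (h1 : φ a = φ b)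
    (h2 : algebraMap A (Localization.Away t) a = algebraMap A (Localization.Away t) b) :
    a = b := by
  have h3 : ∃ m : ℕ, t ^ m * (a - b) = 0 :=
    (algebraMap_away_eq_zero_iff t _).mp (by rw [map_sub, h2, sub_self])
  obtain ⟨z, _, hz⟩ := htor 0 ⟨0, by simp⟩
  have e1 : a - b = z := hz _ ⟨h3, by rw [map_sub, h1, sub_self]⟩
  have e2 : (0 : A) = z := hz _ ⟨⟨0, by simp⟩, map_zero φ⟩
  rw [← sub_eq_zero, e1, ← e2]

theorem exists_glue
    (hq : ∀ m : ℕ, Function.Injective
      (Ideal.quotientMap (Ideal.map φ (Ideal.span {t} ^ m)) φ Ideal.le_comap_map))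
    (htor : ∀ a' : A', (∃ m : ℕ, φ t ^ m * a' = 0) →
      ∃! a : A, (∃ m : ℕ, t ^ m * a = 0) ∧ φ a = a')
    (a' : A') (b : Localization.Away t)
    (hab : algebraMap A' (Localization.Away (φ t)) a' = Localization.awayMap φ t b) :
    ∃ a : A, φ a = a' ∧ algebraMap A (Localization.Away t) a = b := by
  obtain ⟨k, c, hc⟩ := IsLocalization.Away.surj t b
  have h1 : algebraMap A' (Localization.Away (φ t)) (φ t ^ k * a' - φ c) = 0 := by
    have e1 : algebraMap A' (Localization.Away (φ t)) (φ c) =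
        Localization.awayMap φ t b * algebraMap A' (Localization.Away (φ t)) (φ t) ^ k := by
      rw [← awayMap_algebraMap, ← hc, map_mul, map_pow, awayMap_algebraMap]
    rw [map_sub, map_mul, map_pow, hab, e1]
    ring
  obtain ⟨N, hN⟩ := (algebraMap_away_eq_zero_iff (φ t) _).mp h1
  obtain ⟨d, ⟨hd1, hd2⟩, _⟩ := htor _ ⟨N, hN⟩
  have hdz : algebraMap A (Localization.Away t) d = 0 := (algebraMap_away_eq_zero_iff t _).mpr hd1
  have hφc : φ (c + d) = φ t ^ k * a' := by rw [map_add, hd2]; ring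
  have hmem : φ (c + d) ∈ Ideal.map φ (Ideal.span {t} ^ k) := by
    rw [hφc, ← map_pow]
    exact Ideal.mul_mem_right _ _
      (Ideal.mem_map_of_mem φ (Ideal.pow_mem_pow (Ideal.mem_span_singleton_self t) k))
  have hzero : Ideal.quotientMap (Ideal.map φ (Ideal.span {t} ^ k)) φ Ideal.le_comap_map
      (Ideal.Quotient.mk _ (c + d)) = 0 := by
    rw [Ideal.quotientMap_mk]
    exact Ideal.Quotient.eq_zero_iff_mem.mpr hmem
  have hc₁ : c + d ∈ Ideal.span {t} ^ k :=
    Ideal.Quotient.eq_zero_iff_mem.mp (hq k (hzero.trans (map_zero _).symm))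
  rw [Ideal.span_singleton_pow, Ideal.mem_span_singleton'] at hc₁
  obtain ⟨a₀, ha₀⟩ := hc₁
  have h2 : φ t ^ k * (a' - φ a₀) = 0 := by
    have : φ a₀ * φ t ^ k = φ t ^ k * a' := by rw [← map_pow, ← map_mul, ha₀, hφc, map_pow]
    rw [mul_sub, ← this]
    ring
  obtain ⟨d₂, ⟨hd21, hd22⟩, _⟩ := htor (a' - φ a₀) ⟨k, h2⟩
  have hd2z : algebraMap A (Localization.Away t) d₂ = 0 :=
    (algebraMap_away_eq_zero_iff t _).mpr hd21
  refine ⟨a₀ + d₂, by rw [map_add, hd22]; ring, ?_⟩
  have hunit : IsUnit (algebraMap A (Localization.Away t) t ^ k) :=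
    (IsLocalization.Away.algebraMap_isUnit t).pow k
  apply hunit.mul_left_injective
  show algebraMap A (Localization.Away t) (a₀ + d₂) * algebraMap A (Localization.Away t) t ^ k =
    b * algebraMap A (Localization.Away t) t ^ k
  rw [map_add, hd2z, add_zero, hc, ← map_pow, ← map_mul, ha₀, map_add, hdz, add_zero]

theorem exists_prime_over
    (hq1 : Function.Bijective
      (Ideal.quotientMap (Ideal.map φ (Ideal.span {t} ^ 1)) φ Ideal.le_comap_map))
    (𝔭 : Ideal A) [h𝔭 : 𝔭.IsPrime] (ht : t ∈ 𝔭) :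
    ∃ 𝔭' : Ideal A', 𝔭'.IsPrime ∧ 𝔭'.comap φ = 𝔭 := by
  have hle : Ideal.span {t} ^ 1 ≤ 𝔭 := by
    rw [pow_one, Ideal.span_singleton_le_iff_mem]
    exact ht
  let ē := RingEquiv.ofBijective _ hq1
  have hP : (Ideal.map (Ideal.Quotient.mk (Ideal.span {t} ^ 1)) 𝔭).IsPrime :=
    Ideal.map_isPrime_of_surjective Ideal.Quotient.mk_surjective (by
      rw [Ideal.mk_ker]; exact hle)
  refine ⟨((Ideal.map (Ideal.Quotient.mk (Ideal.span {t} ^ 1)) 𝔭).comap
    ē.symm.toRingHom).comap (Ideal.Quotient.mk _), ?_, ?_⟩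
  · haveI := hP
    exact Ideal.comap_isPrime _ _
  · ext a
    simp only [Ideal.mem_comap]
    have h1 : ē.symm (Ideal.Quotient.mk (Ideal.map φ (Ideal.span {t} ^ 1)) (φ a)) =
        Ideal.Quotient.mk (Ideal.span {t} ^ 1) a := by
      rw [RingEquiv.symm_apply_eq]
      exact (Ideal.quotientMap_mk (f := φ) (H := Ideal.le_comap_map)).symm
    change ē.symm (Ideal.Quotient.mk (Ideal.map φ (Ideal.span {t} ^ 1)) (φ a)) ∈ _ ↔ _
    rw [h1]
    constructor
    · intro h
      have := Ideal.mem_comap.mpr h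
      rw [Ideal.comap_map_mk hle] at this
      exact this
    · intro h
      exact Ideal.mem_map_of_mem _ h

end Alg

section Sch

variable (A A' : Type u) [CommRing A] [CommRing A'] (φ : A →+* A') (t : A)

theorem spec_joint_mono
    (htor : ∀ a' : A', (∃ m : ℕ, φ t ^ m * a' = 0) →
      ∃! a : A, (∃ m : ℕ, t ^ m * a = 0) ∧ φ a = a')
    (B : CommRingCat.{u}) (f g : Spec (CommRingCat.of A) ⟶ Spec B)
    (h1 : Spec.map (CommRingCat.ofHom φ) ≫ f = Spec.map (CommRingCat.ofHom φ) ≫ g)
    (h2 : Spec.map (CommRingCat.ofHom (algebraMap A (Localization.Away t))) ≫ f =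
      Spec.map (CommRingCat.ofHom (algebraMap A (Localization.Away t))) ≫ g) : f = g := by
  obtain ⟨ψ₁, rfl⟩ := Spec.map_surjective f
  obtain ⟨ψ₂, rfl⟩ := Spec.map_surjective g
  rw [← Spec.map_comp, ← Spec.map_comp, Spec.map_inj] at h1 h2
  rw [Spec.map_inj]
  ext b
  apply joint_injective φ t htor
  · exact congrArg (fun h => h.hom b) h1
  · exact congrArg (fun h => h.hom b) h2

theorem main15769
    (hq : ∀ m : ℕ, Function.Bijective
      (Ideal.quotientMap (Ideal.map φ (Ideal.span {t} ^ m)) φ Ideal.le_comap_map))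
    (htor : ∀ a' : A', (∃ m : ℕ, φ t ^ m * a' = 0) →
      ∃! a : A, (∃ m : ℕ, t ^ m * a = 0) ∧ φ a = a')
    (X : Scheme.{u}) [X.IsQuasiAffine] (p : X ⟶ Spec (CommRingCat.of A)) :
    (∀ s₁ s₂ : Spec (CommRingCat.of A) ⟶ X, s₁ ≫ p = 𝟙 _ → s₂ ≫ p = 𝟙 _ →
        Spec.map (CommRingCat.ofHom φ) ≫ s₁ = Spec.map (CommRingCat.ofHom φ) ≫ s₂ →
        Spec.map (CommRingCat.ofHom (algebraMap A (Localization.Away t))) ≫ s₁ =
          Spec.map (CommRingCat.ofHom (algebraMap A (Localization.Away t))) ≫ s₂ →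
        s₁ = s₂) ∧
    (∀ (x' : Spec (CommRingCat.of A') ⟶ X)
        (xt : Spec (CommRingCat.of (Localization.Away t)) ⟶ X),
        x' ≫ p = Spec.map (CommRingCat.ofHom φ) →
        xt ≫ p = Spec.map (CommRingCat.ofHom (algebraMap A (Localization.Away t))) →
        Spec.map (CommRingCat.ofHom (algebraMap A' (Localization.Away (φ t)))) ≫ x' =
          Spec.map (CommRingCat.ofHom (Localization.awayMap φ t)) ≫ xt →
        ∃ s : Spec (CommRingCat.of A) ⟶ X, s ≫ p = 𝟙 _ ∧
          Spec.map (CommRingCat.ofHom φ) ≫ s = x' ∧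
          Spec.map (CommRingCat.ofHom (algebraMap A (Localization.Away t))) ≫ s = xt) := by
  refine ⟨?_, ?_⟩
  · intro s₁ s₂ _ _ h1 h2
    rw [← cancel_mono X.toSpecΓ]
    apply spec_joint_mono A A' φ t htor
    · rw [← Category.assoc, h1, Category.assoc]
    · rw [← Category.assoc, h2, Category.assoc]
  · intro x' xt hx' hxt hcomp
    obtain ⟨θ', hθ'⟩ := Spec.map_surjective (x' ≫ X.toSpecΓ)
    obtain ⟨θt, hθt⟩ := Spec.map_surjective (xt ≫ X.toSpecΓ)
    have hcompat : θ' ≫ CommRingCat.ofHom (algebraMap A' (Localization.Away (φ t))) =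
        θt ≫ CommRingCat.ofHom (Localization.awayMap φ t) := by
      rw [← Spec.map_inj, Spec.map_comp, Spec.map_comp, hθ', hθt, ← Category.assoc, hcomp,
        Category.assoc]
    have hb : ∀ b : Γ(X, ⊤), algebraMap A' (Localization.Away (φ t)) (θ'.hom b) =
        Localization.awayMap φ t (θt.hom b) := fun b => congrArg (fun h => h.hom b) hcompat
    have hex := fun b => exists_glue φ t (fun m => (hq m).1) htor _ _ (hb b)
    choose θf hθf1 hθf2 using hex
    let θ : Γ(X, ⊤) →+* A :=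
      { toFun := θf
        map_one' := joint_injective φ t htor _ _ (by rw [hθf1, map_one, map_one])
          (by rw [hθf2, map_one, map_one])
        map_mul' := fun a b => joint_injective φ t htor _ _
          (by rw [hθf1, map_mul, map_mul, hθf1, hθf1])
          (by rw [hθf2, map_mul, map_mul, hθf2, hθf2])
        map_zero' := joint_injective φ t htor _ _ (by rw [hθf1, map_zero, map_zero])
          (by rw [hθf2, map_zero, map_zero])
        map_add' := fun a b => joint_injective φ t htor _ _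
          (by rw [hθf1, map_add, map_add, hθf1, hθf1])
          (by rw [hθf2, map_add, map_add, hθf2, hθf2]) }
    let s₀ : Spec (CommRingCat.of A) ⟶ Spec Γ(X, ⊤) := Spec.map (CommRingCat.ofHom θ)
    have hs₀φ : Spec.map (CommRingCat.ofHom φ) ≫ s₀ = x' ≫ X.toSpecΓ := by
      rw [← hθ']
      show Spec.map (CommRingCat.ofHom φ) ≫ Spec.map (CommRingCat.ofHom θ) = _
      rw [← Spec.map_comp, Spec.map_inj]
      ext b
      exact hθf1 b
    have hs₀t : Spec.map (CommRingCat.ofHom (algebraMap A (Localization.Away t))) ≫ s₀ =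
        xt ≫ X.toSpecΓ := by
      rw [← hθt]
      show Spec.map (CommRingCat.ofHom (algebraMap A (Localization.Away t))) ≫
        Spec.map (CommRingCat.ofHom θ) = _
      rw [← Spec.map_comp, Spec.map_inj]
      ext b
      exact hθf2 b
    have hrange : Set.range s₀ ⊆ Set.range X.toSpecΓ := by
      rintro _ ⟨y, rfl⟩
      by_cases ht : t ∈ (show PrimeSpectrum A from y).asIdeal
      · obtain ⟨𝔭', h𝔭', hcm⟩ := exists_prime_over φ t (hq 1) _ ht
        let y' : Spec (CommRingCat.of A') := (⟨𝔭', h𝔭'⟩ : PrimeSpectrum A')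
        have hy : Spec.map (CommRingCat.ofHom φ) y' = y := PrimeSpectrum.ext hcm
        rw [← hy, ← Scheme.Hom.comp_apply, hs₀φ, Scheme.Hom.comp_apply]
        exact ⟨_, rfl⟩
      · have hy : (show PrimeSpectrum A from y) ∈
            Set.range (PrimeSpectrum.comap (algebraMap A (Localization.Away t))) := by
          rw [PrimeSpectrum.localization_away_comap_range (Localization.Away t) t]
          exact ht
        obtain ⟨y', hy'⟩ := hy
        have hy2 : Spec.map (CommRingCat.ofHom (algebraMap A (Localization.Away t))) y' = y :=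
          hy'
        rw [← hy2, ← Scheme.Hom.comp_apply, hs₀t, Scheme.Hom.comp_apply]
        exact ⟨_, rfl⟩
    have hs : IsOpenImmersion.lift X.toSpecΓ s₀ hrange ≫ X.toSpecΓ = s₀ :=
      IsOpenImmersion.lift_fac _ _ _
    have hsφ : Spec.map (CommRingCat.ofHom φ) ≫ IsOpenImmersion.lift X.toSpecΓ s₀ hrange =
        x' := by
      rw [← cancel_mono X.toSpecΓ, Category.assoc, hs, hs₀φ]
    have hst : Spec.map (CommRingCat.ofHom (algebraMap A (Localization.Away t))) ≫
        IsOpenImmersion.lift X.toSpecΓ s₀ hrange = xt := by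
      rw [← cancel_mono X.toSpecΓ, Category.assoc, hs, hs₀t]
    refine ⟨IsOpenImmersion.lift X.toSpecΓ s₀ hrange, ?_, hsφ, hst⟩
    apply spec_joint_mono A A' φ t htor
    · rw [← Category.assoc, hsφ, hx', Category.comp_id]
    · rw [← Category.assoc, hst, hxt, Category.comp_id]

end Sch

end Groth.Agent.Lib.GluePtsH1
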