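import Mathlib
import Groth.Agent.Lib.ClosedCompl_helper8

set_option autoImplicit false

/-! Artin gluing: a category with a subterminal `U` is equivalent to the glued category of the
open part `Over U` and the closed complement of `U`. -/

namespace Groth.Agent.Lib.GlueH8
open CategoryTheory CategoryTheory.Limits

universe v u

lemma comma_isIso {A B T : Type*} [Category A] [Category B] [Category T]
    {L' : A ⥤ T} {R' : B ⥤ T} {X Y : Comma L' R'} (f : X ⟶ Y)
    (h1 : IsIso f.left) (h2 : IsIso f.right) : IsIso f := by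
  refine ⟨⟨{ left := inv f.left, right := inv f.right, w := ?_ }, ?_, ?_⟩⟩
  · rw [Functor.map_inv, Functor.map_inv, IsIso.inv_comp_eq, ← Category.assoc, IsIso.eq_comp_inv]
    exact f.w.symm
  · apply Comma.hom_ext
    · exact IsIso.hom_inv_id f.left
    · exact IsIso.hom_inv_id f.right
  · apply Comma.hom_ext
    · exact IsIso.inv_hom_id f.left
    · exact IsIso.inv_hom_id f.right

variable {E : Type u} [Category.{v} E] [HasBinaryProducts E] [HasPullbacks E] (U : E)
variable (L : E ⥤ (SGA4.closedCompl U).FullSubcategory) (adjL : L ⊣ (SGA4.closedCompl U).ι)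
variable {Js : Over U ⥤ E} (adjJ : Over.star U ⊣ Js)

lemma compat1 {A : E} {Y : (SGA4.closedCompl U).FullSubcategory} {X : Over U}
    (φ : Y ⟶ L.obj (Js.obj X)) (a : L.obj A ⟶ Y) (b : (Over.star U).obj A ⟶ X)
    (hw : a ≫ φ = L.map (adjJ.unit.app A) ≫ L.map (Js.map b)) :
    adjL.homEquiv _ _ a ≫ (SGA4.closedCompl U).ι.map φ =
      adjJ.homEquiv _ _ b ≫ adjL.unit.app (Js.obj X) := by
  calc adjL.homEquiv _ _ a ≫ (SGA4.closedCompl U).ι.map φ
      = adjL.homEquiv _ _ (a ≫ φ) := (adjL.homEquiv_naturality_right _ _).symm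
    _ = adjL.homEquiv _ _ (L.map (adjJ.homEquiv _ _ b)) := by
      have e1 : adjJ.homEquiv _ _ b = adjJ.unit.app A ≫ Js.map b := adjJ.homEquiv_unit _ _ _
      rw [hw, ← L.map_comp, e1]
    _ = adjJ.homEquiv _ _ b ≫ adjL.unit.app _ := by
      rw [Adjunction.homEquiv_unit]
      exact (adjL.unit.naturality _).symm

lemma compat2 {A : E} {Y : (SGA4.closedCompl U).FullSubcategory} {X : Over U}
    (φ : Y ⟶ L.obj (Js.obj X)) (a' : A ⟶ (SGA4.closedCompl U).ι.obj Y) (b' : A ⟶ Js.obj X)
    (h : a' ≫ (SGA4.closedCompl U).ι.map φ = b' ≫ adjL.unit.app (Js.obj X)) :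
    (adjL.homEquiv _ _).symm a' ≫ φ =
      L.map (adjJ.unit.app A) ≫ L.map (Js.map ((adjJ.homEquiv _ _).symm b')) := by
  apply (adjL.homEquiv _ _).injective
  calc adjL.homEquiv _ _ ((adjL.homEquiv _ _).symm a' ≫ φ)
      = a' ≫ (SGA4.closedCompl U).ι.map φ := by
        rw [Adjunction.homEquiv_naturality_right, Equiv.apply_symm_apply]
    _ = b' ≫ adjL.unit.app (Js.obj X) := h
    _ = adjL.homEquiv _ _ (L.map b') := by
        rw [Adjunction.homEquiv_unit]
        exact adjL.unit.naturality _
    _ = adjL.homEquiv _ _ (L.map (adjJ.unit.app A) ≫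
          L.map (Js.map ((adjJ.homEquiv _ _).symm b'))) := by
        have e2 : adjJ.homEquiv _ _ ((adjJ.homEquiv _ _).symm b') =
            adjJ.unit.app A ≫ Js.map ((adjJ.homEquiv _ _).symm b') := adjJ.homEquiv_unit _ _ _
        rw [Equiv.apply_symm_apply] at e2
        rw [← L.map_comp, ← e2]
        rfl

/-- the gluing functor `A ↦ (L A, U × A, L(A → j_* j^* A))` -/
noncomputable def Phi : E ⥤ Comma (𝟭 (SGA4.closedCompl U).FullSubcategory) (Js ⋙ L) where
  obj A := { left := L.obj A, right := (Over.star U).obj A, hom := L.map (adjJ.unit.app A) }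
  map {A B} f :=
    { left := L.map f
      right := (Over.star U).map f
      w := by
        show L.map f ≫ L.map (adjJ.unit.app B) =
          L.map (adjJ.unit.app A) ≫ L.map (Js.map ((Over.star U).map f))
        rw [← L.map_comp, ← L.map_comp]
        congr 1
        exact adjJ.unit.naturality f }
  map_id A := Comma.hom_ext _ _ (L.map_id A) ((Over.star U).map_id A)
  map_comp f g := Comma.hom_ext _ _ (L.map_comp f g) ((Over.star U).map_comp f g)

/-- the object part of the right adjoint -/
noncomputable abbrev PsiObj (T : Comma (𝟭 (SGA4.closedCompl U).FullSubcategory) (Js ⋙ L)) : E :=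
  pullback ((SGA4.closedCompl U).ι.map T.hom) (adjL.unit.app (Js.obj T.right))

/-- the hom-set bijection -/
noncomputable def equiv (A : E) (T : Comma (𝟭 (SGA4.closedCompl U).FullSubcategory) (Js ⋙ L)) :
    ((Phi U L adjJ).obj A ⟶ T) ≃ (A ⟶ PsiObj U L adjL T) where
  toFun g := pullback.lift (adjL.homEquiv _ _ g.left) (adjJ.homEquiv _ _ g.right)
    (compat1 U L adjL adjJ T.hom g.left g.right g.w)
  invFun h :=
    { left := (adjL.homEquiv _ _).symm (h ≫ pullback.fst _ _)
      right := (adjJ.homEquiv _ _).symm (h ≫ pullback.snd _ _)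
      w := compat2 U L adjL adjJ T.hom (h ≫ pullback.fst _ _) (h ≫ pullback.snd _ _) (by
        rw [Category.assoc, Category.assoc]
        congr 1
        exact pullback.condition) }
  left_inv g := by
    apply Comma.hom_ext
    · show (adjL.homEquiv _ _).symm (pullback.lift _ _ _ ≫ pullback.fst _ _) = g.left
      rw [pullback.lift_fst]
      exact Equiv.symm_apply_apply _ _
    · show (adjJ.homEquiv _ _).symm (pullback.lift _ _ _ ≫ pullback.snd _ _) = g.right
      rw [pullback.lift_snd]
      exact Equiv.symm_apply_apply _ _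
  right_inv h := by
    apply pullback.hom_ext
    · rw [pullback.lift_fst]
      exact Equiv.apply_symm_apply _ _
    · rw [pullback.lift_snd]
      exact Equiv.apply_symm_apply _ _

lemma equiv_nat (A' A : E) (T : Comma (𝟭 (SGA4.closedCompl U).FullSubcategory) (Js ⋙ L))
    (f : A' ⟶ A) (g : (Phi U L adjJ).obj A ⟶ T) :
    equiv U L adjL adjJ A' T ((Phi U L adjJ).map f ≫ g) = f ≫ equiv U L adjL adjJ A T g := by
  apply pullback.hom_ext
  · rw [Category.assoc]
    show pullback.lift _ _ _ ≫ pullback.fst _ _ = f ≫ pullback.lift _ _ _ ≫ pullback.fst _ _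
    rw [pullback.lift_fst, pullback.lift_fst]
    exact adjL.homEquiv_naturality_left f g.left
  · rw [Category.assoc]
    show pullback.lift _ _ _ ≫ pullback.snd _ _ = f ≫ pullback.lift _ _ _ ≫ pullback.snd _ _
    rw [pullback.lift_snd, pullback.lift_snd]
    exact adjJ.homEquiv_naturality_left f g.right

/-- the right adjoint -/
noncomputable def Psi : Comma (𝟭 (SGA4.closedCompl U).FullSubcategory) (Js ⋙ L) ⥤ E :=
  Adjunction.rightAdjointOfEquiv (equiv U L adjL adjJ) (equiv_nat U L adjL adjJ)

/-- the gluing adjunction -/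
noncomputable def adjPhi : Phi U L adjJ ⊣ Psi U L adjL adjJ :=
  Adjunction.adjunctionOfEquivRight (equiv U L adjL adjJ) (equiv_nat U L adjL adjJ)


section equivalence

lemma isIso_L_unit (X : E) : IsIso (L.map (adjL.unit.app X)) := by
  have h := adjL.left_triangle_components X
  haveI : IsIso (L.map (adjL.unit.app X) ≫ adjL.counit.app (L.obj X)) := by
    rw [h]
    exact IsIso.id _
  exact IsIso.of_isIso_comp_right _ (adjL.counit.app (L.obj X))

lemma isIso_star_map {Y Y' : E} (hY : IsIso (prod.fst : U ⨯ Y ⟶ U))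
    (hY' : IsIso (prod.fst : U ⨯ Y' ⟶ U)) (φ : Y ⟶ Y') : IsIso ((Over.star U).map φ) := by
  haveI : IsIso ((Over.forget U).map ((Over.star U).map φ)) := by
    have h1 : prod.map (𝟙 U) φ = (prod.fst : U ⨯ Y ⟶ U) ≫
        inv (prod.fst : U ⨯ Y' ⟶ U) := by
      rw [IsIso.eq_comp_inv, prod.map_fst, Category.comp_id]
    have h2 : IsIso (prod.map (𝟙 U) φ) := by
      rw [h1]
      infer_instance
    exact (congrArg (fun m : (U ⨯ Y ⟶ U ⨯ Y') => IsIso m) (Over.star_map_left U φ)).mpr h2
  exact isIso_of_reflects_iso _ (Over.forget U)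

variable (hsub : ∀ (T : E) (a b : T ⟶ U), a = b)

include hsub in
lemma isIso_counitJ (X : Over U) : IsIso (adjJ.counit.app X) := by
  let t : Adjunction.Triple (Over.forget U) (Over.star U) Js := ⟨Over.forgetAdjStar U, adjJ⟩
  haveI : (Over.forget U).Full := ⟨fun {X Y} f => ⟨Over.homMk f (hsub _ _ _), rfl⟩⟩
  haveI : IsIso t.adj₁.unit := inferInstance
  haveI : IsIso t.adj₂.counit := t.isIso_unit_iff_isIso_counit.1 inferInstance
  exact (inferInstance : IsIso (t.adj₂.counit.app X))

variable [PreservesLimitsOfShape WalkingCospan L]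

include hsub in
lemma isIso_counit (T : Comma (𝟭 (SGA4.closedCompl U).FullSubcategory) (Js ⋙ L)) :
    IsIso ((adjPhi U L adjL adjJ).counit.app T) := by
  apply comma_isIso
  · show IsIso ((adjL.homEquiv _ _).symm (𝟙 _ ≫ pullback.fst _ _))
    rw [Category.id_comp, Adjunction.homEquiv_counit]
    have hpb := (IsPullback.of_hasPullback ((SGA4.closedCompl U).ι.map T.hom)
      (adjL.unit.app (Js.obj T.right))).map L
    haveI := isIso_L_unit U L adjL (Js.obj T.right)
    haveI : IsIso (L.map (pullback.fst ((SGA4.closedCompl U).ι.map T.hom)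
      (adjL.unit.app (Js.obj T.right)))) := hpb.isIso_fst_of_isIso
    infer_instance
  · show IsIso ((adjJ.homEquiv _ _).symm (𝟙 _ ≫ pullback.snd _ _))
    rw [Category.id_comp, Adjunction.homEquiv_counit]
    have hpb := (IsPullback.of_hasPullback ((SGA4.closedCompl U).ι.map T.hom)
      (adjL.unit.app (Js.obj T.right))).map (Over.star U)
    haveI : IsIso ((Over.star U).map ((SGA4.closedCompl U).ι.map T.hom)) :=
      isIso_star_map U T.left.property (L.obj (Js.obj T.right)).property _
    haveI : IsIso ((Over.star U).map (pullback.snd ((SGA4.closedCompl U).ι.map T.hom)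
      (adjL.unit.app (Js.obj T.right)))) := hpb.isIso_snd_of_isIso
    haveI := isIso_counitJ U adjJ hsub T.right
    show IsIso ((Over.star U).map (pullback.snd ((SGA4.closedCompl U).ι.map T.hom)
      (adjL.unit.app (Js.obj T.right))) ≫ adjJ.counit.app T.right)
    infer_instance

variable [HasPushouts E] [Adhesive E] [PreservesColimitsOfShape WalkingSpan (prod.functor.obj U)]

include hsub in
lemma isIso_unit (A : E) : IsIso ((adjPhi U L adjL adjJ).unit.app A) := by
  have htri := (adjPhi U L adjL adjJ).left_triangle_components A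
  haveI := isIso_counit U L adjL adjJ hsub ((Phi U L adjJ).obj A)
  haveI : IsIso ((Phi U L adjJ).map ((adjPhi U L adjL adjJ).unit.app A)) := by
    haveI : IsIso ((Phi U L adjJ).map ((adjPhi U L adjL adjJ).unit.app A) ≫
        (adjPhi U L adjL adjJ).counit.app ((Phi U L adjJ).obj A)) := by
      rw [htri]
      exact IsIso.id _
    exact IsIso.of_isIso_comp_right _
      ((adjPhi U L adjL adjJ).counit.app ((Phi U L adjJ).obj A))
  have h1 : IsIso (L.map ((adjPhi U L adjL adjJ).unit.app A)) :=
    (inferInstance : IsIso ((Phi U L adjJ).map ((adjPhi U L adjL adjJ).unit.app A)).left)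
  have h2 : IsIso ((Over.star U).map ((adjPhi U L adjL adjJ).unit.app A)) :=
    (inferInstance : IsIso ((Phi U L adjJ).map ((adjPhi U L adjL adjJ).unit.app A)).right)
  have h2' : IsIso (prod.map (𝟙 U) ((adjPhi U L adjL adjJ).unit.app A)) := by
    have := (Over.forget U).map_isIso ((Over.star U).map ((adjPhi U L adjL adjJ).unit.app A))
    exact this
  exact ClosedComplH8.isIso_of_isIso_prod_of_isIso_refl U hsub L adjL _ h2' h1

include hsub adjL adjJ in
/-- Artin gluing. -/
theorem glue_equivalence :
    Nonempty (E ≌ Comma (𝟭 (SGA4.closedCompl U).FullSubcategory) (Js ⋙ L)) := by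
  haveI : ∀ A, IsIso ((adjPhi U L adjL adjJ).unit.app A) := isIso_unit U L adjL adjJ hsub
  haveI : ∀ T, IsIso ((adjPhi U L adjL adjJ).counit.app T) := isIso_counit U L adjL adjJ hsub
  exact ⟨(adjPhi U L adjL adjJ).toEquivalence⟩

end equivalence

end Groth.Agent.Lib.GlueH8
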