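import Groth.Agent.Lib.GmIso_helper5

/-!
# The coordinate of a product on a group scheme with underlying scheme `Spec k[T;T⁻¹]` (helper5): S14637.
APPEND-ONLY once landed.
-/

universe u
open CategoryTheory MonoidalCategory CartesianMonoidalCategory MonObj GrpObj AlgebraicGeometry Opposite
open TensorProduct Limits
open scoped LaurentPolynomial
open LaurentPolynomial (T)

namespace Groth.Agent.GmCoord

variable {k : Type u} [Field k]

/-- instance synthesis does not find `braidedAlgSpec` for `CommRingCat.of k` by itself. -/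
noncomputable local instance instBraided (k : Type u) [Field k] :
    (algSpec (CommRingCat.of k)).Braided := braidedAlgSpec (R := CommRingCat.of k)

/-- the coordinate algebra. -/
noncomputable abbrev AL (k : Type u) [Field k] : CommAlgCat.{u} (CommRingCat.of k) :=
  CommAlgCat.of k k[T;T⁻¹]

lemma ΓSpecIso_inv_mul (R : CommRingCat.{u}) (a b c : R) (h : a = b * c) :
    (Scheme.ΓSpecIso R).inv.hom a =
      (Scheme.ΓSpecIso R).inv.hom b * (Scheme.ΓSpecIso R).inv.hom c := by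
  rw [h, _root_.map_mul]

variable (G : Over (Spec (CommRingCat.of k)))
  (α : G ≅ (algSpec (CommRingCat.of k)).obj (op (AL k)))

/-- The `T`-coordinate of a point. -/
noncomputable def coord {S : Over (Spec (CommRingCat.of k))} (y : S ⟶ G) : Γ(S.left, ⊤) :=
  (y ≫ α.hom).left.appTop.hom
    ((Scheme.ΓSpecIso (CommRingCat.of k[T;T⁻¹])).inv.hom (T 1))

lemma coord_comp {S S' : Over (Spec (CommRingCat.of k))} (x : S' ⟶ S) (y : S ⟶ G) :
    coord G α (x ≫ y) = x.left.appTop.hom (coord G α y) := by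
  unfold coord
  rw [Category.assoc, Over.comp_left, Scheme.Hom.comp_appTop]
  rfl

/-- The coordinate of a point of `Spec B` given by an algebra map. -/
lemma coord_of_map {B : CommAlgCat.{u} (CommRingCat.of k)}
    (y : (algSpec (CommRingCat.of k)).obj (op B) ⟶ G) (m : op B ⟶ op (AL k))
    (hy : y ≫ α.hom = (algSpec (CommRingCat.of k)).map m) :
    coord G α y = (Scheme.ΓSpecIso (CommRingCat.of B)).inv.hom (m.unop.hom (T 1)) := by
  unfold coord
  rw [hy, algSpec_map_left]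
  have h := Scheme.ΓSpecIso_inv_naturality
    ((commAlgCatEquivUnder (CommRingCat.of k)).functor.map m.unop).right
  exact (congr($h (T 1))).symm

variable [GrpObj G]

lemma map_mul : (algSpec (CommRingCat.of k)).map (Groth.Agent.GrpLawRed.toOp (AL k) α).mul =
    Functor.OplaxMonoidal.δ (algSpec (CommRingCat.of k)) (op (AL k)) (op (AL k)) ≫
      ((α.inv ⊗ₘ α.inv) ≫ μ[G] ≫ α.hom) := by
  rw [Groth.Agent.GrpLawRed.toOp_mul, Functor.FullyFaithful.map_preimage]

lemma map_one : (algSpec (CommRingCat.of k)).map (Groth.Agent.GrpLawRed.toOp (AL k) α).one =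
    Functor.OplaxMonoidal.η (algSpec (CommRingCat.of k)) ≫ (η[G] ≫ α.hom) := by
  rw [Groth.Agent.GrpLawRed.toOp_one, Functor.FullyFaithful.map_preimage]

/-- the Hopf algebra structure. -/
noncomputable def hopf : HopfAlgebra k k[T;T⁻¹] :=
  @instHopfAlgebraCarrierUnopCommAlgCatOfGrpObjOpposite k _ (op (AL k))
    (Groth.Agent.GrpLawRed.toOp (AL k) α)

lemma counit_T (hunit : coord G α η[G] = 1) :
    @Coalgebra.counit k k[T;T⁻¹] _ _ _ (hopf G α).toCoalgebra.toCoalgebraStruct (T 1) = 1 := by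
  show (Groth.Agent.GrpLawRed.toOp (AL k) α).one.unop.hom (T 1) = 1
  have h1 := coord_of_map G α
    (Functor.OplaxMonoidal.η (algSpec (CommRingCat.of k)) ≫ η[G])
    (Groth.Agent.GrpLawRed.toOp (AL k) α).one (by rw [Category.assoc, map_one])
  rw [coord_comp, hunit] at h1
  have h2 : (Scheme.ΓSpecIso (CommRingCat.of k)).inv.hom
      ((Groth.Agent.GrpLawRed.toOp (AL k) α).one.unop.hom (T 1)) = 1 :=
    h1.symm.trans (_root_.map_one _)
  have hinj : Function.Injective (Scheme.ΓSpecIso (CommRingCat.of k)).inv.hom := by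
    intro a b hab
    have := congrArg (Scheme.ΓSpecIso (CommRingCat.of k)).hom.hom hab
    simpa using this
  exact hinj (h2.trans (_root_.map_one _).symm)

lemma comul_T (hunit : coord G α η[G] = 1) :
    (Groth.Agent.GrpLawRed.toOp (AL k) α).mul.unop.hom (T 1) =
      ((T 1 : k[T;T⁻¹]) ⊗ₜ[k] (T 1 : k[T;T⁻¹])) := by
  have h := @Groth.Agent.GmLaw.comul_eq k _ k[T;T⁻¹] _ (hopf G α) AlgEquiv.refl
  have h' : @CoalgebraStruct.comul k k[T;T⁻¹] _ _ _ (hopf G α).toCoalgebra.toCoalgebraStruct (T 1) =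
      (@Coalgebra.counit k k[T;T⁻¹] _ _ _ (hopf G α).toCoalgebra.toCoalgebraStruct (T 1))⁻¹ •
        ((T 1 : k[T;T⁻¹]) ⊗ₜ[k] (T 1 : k[T;T⁻¹])) := h
  rw [counit_T G α hunit, inv_one, one_smul] at h'
  exact h'

theorem coord_mul_univ (hunit : coord G α η[G] = 1) :
    coord G α μ[G] = coord G α (fst G G) * coord G α (snd G G) := by
  let ψ : (algSpec (CommRingCat.of k)).obj (op (AL k) ⊗ op (AL k)) ⟶ G ⊗ G :=
    Functor.OplaxMonoidal.δ (algSpec (CommRingCat.of k)) (op (AL k)) (op (AL k)) ≫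
      (α.inv ⊗ₘ α.inv)
  have hψμ : (ψ ≫ μ[G]) ≫ α.hom = (algSpec (CommRingCat.of k)).map
      (Groth.Agent.GrpLawRed.toOp (AL k) α).mul := by
    rw [map_mul]
    simp only [ψ, Category.assoc]
  have hψ1 : (ψ ≫ fst G G) ≫ α.hom = (algSpec (CommRingCat.of k)).map
      (fst (op (AL k)) (op (AL k))) := by
    simp only [ψ, Category.assoc]
    rw [tensorHom_fst_assoc, Iso.inv_hom_id, Category.comp_id, Functor.OplaxMonoidal.δ_fst]
  have hψ2 : (ψ ≫ snd G G) ≫ α.hom = (algSpec (CommRingCat.of k)).map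
      (snd (op (AL k)) (op (AL k))) := by
    simp only [ψ, Category.assoc]
    rw [tensorHom_snd_assoc, Iso.inv_hom_id, Category.comp_id, Functor.OplaxMonoidal.δ_snd]
  have c0 := coord_of_map G α (ψ ≫ μ[G]) _ hψμ
  have c1 := coord_of_map G α (ψ ≫ fst G G) _ hψ1
  have c2 := coord_of_map G α (ψ ≫ snd G G) _ hψ2
  rw [comul_T G α hunit] at c0
  rw [CommAlgCat.fst_unop_hom] at c1
  rw [CommAlgCat.snd_unop_hom] at c2
  have h3 : ((T 1 : k[T;T⁻¹]) ⊗ₜ[k] (T 1 : k[T;T⁻¹]) : k[T;T⁻¹] ⊗[k] k[T;T⁻¹]) =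
      (Algebra.TensorProduct.includeLeft : k[T;T⁻¹] →ₐ[k] k[T;T⁻¹] ⊗[k] k[T;T⁻¹]) (T 1) *
        (Algebra.TensorProduct.includeRight : k[T;T⁻¹] →ₐ[k] k[T;T⁻¹] ⊗[k] k[T;T⁻¹]) (T 1) := by
    show _ = ((T 1 : k[T;T⁻¹]) ⊗ₜ[k] (1 : k[T;T⁻¹])) * ((1 : k[T;T⁻¹]) ⊗ₜ[k] (T 1 : k[T;T⁻¹]))
    rw [Algebra.TensorProduct.tmul_mul_tmul, _root_.mul_one, _root_.one_mul]
  have hprod : coord G α (ψ ≫ μ[G]) = coord G α (ψ ≫ fst G G) * coord G α (ψ ≫ snd G G) :=
    (c0.trans (ΓSpecIso_inv_mul _ _ _ _ h3)).trans (congrArg₂ (· * ·) c1.symm c2.symm)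
  haveI : IsIso ψ := by dsimp only [ψ]; infer_instance
  have hinv : ∀ y : G ⊗ G ⟶ G, coord G α y = (inv ψ).left.appTop.hom (coord G α (ψ ≫ y)) := by
    intro y
    rw [← coord_comp, IsIso.inv_hom_id_assoc]
  rw [hinv μ[G], hinv (fst G G), hinv (snd G G), hprod, _root_.map_mul]

theorem coord_mul (hunit : coord G α η[G] = 1) {S : Over (Spec (CommRingCat.of k))}
    (g h : S ⟶ G) : coord G α (g * h) = coord G α g * coord G α h := by
  rw [Hom.mul_def, coord_comp, coord_mul_univ G α hunit, _root_.map_mul, ← coord_comp, ← coord_comp,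
    lift_fst, lift_snd]

end Groth.Agent.GmCoord
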