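import Mathlib
import Groth.Agent.Lib.GaLaw_helper5

/-!
# Hopf algebra structures on a Laurent polynomial ring in one variable over a field (helper5)

For a Hopf algebra structure on `P ≅ k[T;T⁻¹]` (as `k`-algebras), the comultiplication is
`T ↦ ε(T)⁻¹ • T ⊗ T`.
-/

universe u
open TensorProduct WithConv Coalgebra
open scoped LaurentPolynomial
open LaurentPolynomial (T C)

namespace Groth.Agent.GmLaw

open Groth.Agent.GaLaw (push push_mul push_one includeLeft_mul_includeRight)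

section Units
variable {D : Type*} [CommRing D] [IsDomain D]

/-- Units of a Laurent polynomial ring over a domain are monomials. -/
theorem laurent_isUnit (f : D[T;T⁻¹]) (hf : IsUnit f) :
    ∃ (d : D) (n : ℤ), IsUnit d ∧ f = C d * T n := by
  obtain ⟨g, hfg⟩ := hf.exists_right_inv
  obtain ⟨N, P, hP⟩ := f.exists_T_pow
  obtain ⟨M, Q, hQ⟩ := g.exists_T_pow
  have h1 : P * Q = Polynomial.X ^ (N + M) := by
    apply Polynomial.toLaurent_injective
    rw [map_mul, hP, hQ, Polynomial.toLaurent_X_pow]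
    calc f * T N * (g * T M) = (f * g) * (T N * T M) := by ring
      _ = T ((N + M : ℕ) : ℤ) := by
        rw [hfg, one_mul, ← LaurentPolynomial.T_add]; push_cast; rfl
  obtain ⟨i, -, hi⟩ := (dvd_prime_pow Polynomial.prime_X _).mp (Dvd.intro _ h1)
  obtain ⟨u, hu⟩ := hi.symm
  obtain ⟨d, hd, hdu⟩ := Polynomial.isUnit_iff.mp u.isUnit
  refine ⟨d, i - N, hd, ?_⟩
  have h2 : f * T N = C d * T i := by
    rw [← hP, ← hu, ← hdu, map_mul, Polynomial.toLaurent_X_pow, Polynomial.toLaurent_C, mul_comm]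
  calc f = f * T N * T (-N) := by
        rw [LaurentPolynomial.mul_T_assoc, add_neg_cancel, LaurentPolynomial.T_zero, mul_one]
    _ = C d * T (i - N) := by rw [h2, LaurentPolynomial.mul_T_assoc, sub_eq_add_neg]

lemma C_mul_T_eq_T_one {a : D} {l : ℤ} (h : C a * T l = (T 1 : D[T;T⁻¹])) : l = 1 ∧ a = 1 := by
  rw [← LaurentPolynomial.single_eq_C_mul_T] at h
  have h2 : (AddMonoidAlgebra.single l a : D[T;T⁻¹]) = AddMonoidAlgebra.single 1 1 := h
  have h3 := congrArg (fun f => f.coeff 1) h2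
  simp only [AddMonoidAlgebra.coeff_single, Finsupp.single_apply] at h3
  by_cases hl : l = 1
  · subst hl; simpa using h3
  · simp [hl] at h3

end Units

section Gm
variable {k : Type u} [Field k] {P : Type u} [CommRing P] [HopfAlgebra k P]
variable (φ : k[T;T⁻¹] ≃ₐ[k] P)
variable {B B' : Type*} [CommRing B] [Algebra k B] [CommRing B'] [Algebra k B']

/-- `T` as a unit. -/
noncomputable def uT (R : Type*) [CommRing R] : (R[T;T⁻¹])ˣ :=
  ⟨T 1, T (-1), by rw [← LaurentPolynomial.T_add]; simp, by rw [← LaurentPolynomial.T_add]; simp⟩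

@[simp] lemma uT_val (R : Type*) [CommRing R] : ((uT R : (R[T;T⁻¹])ˣ) : R[T;T⁻¹]) = T 1 := rfl

/-- the algebra hom `T ↦ b`. -/
noncomputable def aevalU (b : Bˣ) : k[T;T⁻¹] →ₐ[k] B :=
  { LaurentPolynomial.eval₂ (algebraMap k B) b with
    commutes' := fun r => by
      show LaurentPolynomial.eval₂ (algebraMap k B) b (C r) = _
      rw [LaurentPolynomial.eval₂_C] }

lemma aevalU_apply (b : Bˣ) (f : k[T;T⁻¹]) :
    aevalU b f = LaurentPolynomial.eval₂ (algebraMap k B) b f := rfl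

@[simp] lemma aevalU_T (b : Bˣ) : aevalU (k := k) b (T 1) = b := by
  rw [aevalU_apply]; simp

lemma laurent_algHom_ext {f g : k[T;T⁻¹] →ₐ[k] B} (h : f (T 1) = g (T 1)) : f = g := by
  have hpos : ∀ n : ℕ, f (T n) = g (T n) := by
    intro n
    have : (T (n : ℤ) : k[T;T⁻¹]) = T 1 ^ n := by rw [LaurentPolynomial.T_pow, mul_one]
    rw [this, map_pow, map_pow, h]
  have hneg : ∀ n : ℕ, f (T (-(n:ℤ))) = g (T (-(n:ℤ))) := by
    intro n
    have h1 : f (T (-(n:ℤ))) * f (T n) = 1 := by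
      rw [← map_mul, ← LaurentPolynomial.T_add]; simp
    have h2 : g (T n) * g (T (-(n:ℤ))) = 1 := by
      rw [← map_mul, ← LaurentPolynomial.T_add]; simp
    calc f (T (-(n:ℤ))) = f (T (-(n:ℤ))) * (g (T n) * g (T (-(n:ℤ)))) := by rw [h2, mul_one]
      _ = (f (T (-(n:ℤ))) * f (T n)) * g (T (-(n:ℤ))) := by rw [hpos n]; ring
      _ = g (T (-(n:ℤ))) := by rw [h1, one_mul]
  apply AddMonoidAlgebra.algHom_ext
  · intro n
    show f (T n) = g (T n)
    obtain ⟨m, rfl | rfl⟩ := Int.eq_nat_or_neg n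
    · exact hpos m
    · exact hneg m
  · ext r

/-- the point with coordinate `b`. -/
noncomputable def pt (b : Bˣ) : WithConv (P →ₐ[k] B) :=
  toConv ((aevalU b).comp φ.symm.toAlgHom)

/-- the coordinate of a point. -/
noncomputable def ev (f : WithConv (P →ₐ[k] B)) : B := f.ofConv (φ (T 1))

/-- the coordinate function as a unit of `P`. -/
noncomputable def unitP : Pˣ := Units.map (φ : k[T;T⁻¹] →* P) (uT k)

/-- the coordinate of a point, as a unit. -/
noncomputable def evU (f : WithConv (P →ₐ[k] B)) : Bˣ :=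
  Units.map (f.ofConv : P →* B) (unitP φ)

lemma evU_val (f : WithConv (P →ₐ[k] B)) : (evU φ f : B) = ev φ f := rfl

lemma isUnit_ev (f : WithConv (P →ₐ[k] B)) : IsUnit (ev φ f) := (evU φ f).isUnit

lemma ev_pt (b : Bˣ) : ev φ (pt φ b) = b := by simp [ev, pt]

lemma pt_evU (f : WithConv (P →ₐ[k] B)) : pt φ (evU φ f) = f := by
  apply WithConv.ext
  have : (aevalU (evU φ f) : k[T;T⁻¹] →ₐ[k] B) = f.ofConv.comp φ.toAlgHom := by
    apply laurent_algHom_ext; rw [aevalU_T]; rfl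
  show (aevalU (evU φ f)).comp φ.symm.toAlgHom = f.ofConv
  rw [this]; ext x; simp

lemma push_pt (θ : B →ₐ[k] B') (b : Bˣ) :
    push θ (pt φ b) = pt φ (Units.map (θ : B →* B') b) := by
  apply WithConv.ext
  show θ.comp ((aevalU b).comp φ.symm.toAlgHom) =
    (aevalU (Units.map (θ : B →* B') b)).comp φ.symm.toAlgHom
  have : θ.comp (aevalU b) = aevalU (Units.map (θ : B →* B') b) := by
    apply laurent_algHom_ext; simp
  rw [← this, AlgHom.comp_assoc]

lemma ev_push (θ : B →ₐ[k] B') (f : WithConv (P →ₐ[k] B)) : ev φ (push θ f) = θ (ev φ f) := rfl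

/-- the (value of the) group law on coordinates. -/
noncomputable def opv (a b : Bˣ) : B := ev φ (pt φ a * pt φ b)

lemma map_opv (θ : B →ₐ[k] B') (a b : Bˣ) :
    θ (opv φ a b) = opv φ (Units.map (θ : B →* B') a) (Units.map (θ : B →* B') b) := by
  unfold opv; rw [← ev_push, push_mul, push_pt, push_pt]

lemma isUnit_opv (a b : Bˣ) : IsUnit (opv φ a b) := isUnit_ev φ _

/-- the coordinate of the unit section. -/
noncomputable def eU : kˣ := evU φ (1 : WithConv (P →ₐ[k] k))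

lemma eU_val : (eU φ : k) = counit (R := k) (φ (T 1)) := rfl

/-- the unit section in `B`. -/
noncomputable def eB : Bˣ := Units.map ((Algebra.ofId k B : k →ₐ[k] B) : k →* B) (eU φ)

lemma eB_val : ((eB φ : Bˣ) : B) = algebraMap k B (eU φ) := rfl

lemma pt_eB : pt φ (eB φ : Bˣ) = 1 := by
  unfold eB
  rw [← push_pt, eU, pt_evU, push_one]

lemma opv_e_left (a : Bˣ) : opv φ (eB φ) a = a := by
  unfold opv; rw [pt_eB, one_mul, ev_pt]

lemma opv_e_right (a : Bˣ) : opv φ a (eB φ) = a := by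
  unfold opv; rw [pt_eB, mul_one, ev_pt]

end Gm

section Main
variable {k : Type u} [Field k] {P : Type u} [CommRing P] [HopfAlgebra k P]
variable (φ : k[T;T⁻¹] ≃ₐ[k] P)
variable {B : Type*} [CommRing B] [Algebra k B]

lemma uT_zpow (R : Type*) [CommRing R] (n : ℤ) : (((uT R) ^ n : (R[T;T⁻¹])ˣ) : R[T;T⁻¹]) = T n := by
  have hpos : ∀ m : ℕ, (((uT R) ^ (m : ℤ) : (R[T;T⁻¹])ˣ) : R[T;T⁻¹]) = T m := by
    intro m
    rw [zpow_natCast, Units.val_pow_eq_pow_val, uT_val, LaurentPolynomial.T_pow, mul_one]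
  obtain ⟨m, rfl | rfl⟩ := Int.eq_nat_or_neg n
  · exact hpos m
  · rw [zpow_neg]
    apply Units.inv_eq_of_mul_eq_one_right
    rw [hpos m, ← LaurentPolynomial.T_add]; simp

/-- `x`, the outer variable. -/
noncomputable def xx (k : Type u) [Field k] : (k[T;T⁻¹][T;T⁻¹])ˣ := uT (k[T;T⁻¹])

/-- `y`, the inner variable. -/
noncomputable def yy (k : Type u) [Field k] : (k[T;T⁻¹][T;T⁻¹])ˣ :=
  Units.map ((C : k[T;T⁻¹] →+* k[T;T⁻¹][T;T⁻¹]) : k[T;T⁻¹] →* k[T;T⁻¹][T;T⁻¹]) (uT k)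

/-- the `k`-algebra hom out of `k[y^±][x^±]` given by `g` on `k[y^±]` and `x ↦ b`. -/
noncomputable def evalBB (g : k[T;T⁻¹] →ₐ[k] B) (b : Bˣ) : k[T;T⁻¹][T;T⁻¹] →ₐ[k] B :=
  { LaurentPolynomial.eval₂ (g : k[T;T⁻¹] →+* B) b with
    commutes' := fun r => by
      show LaurentPolynomial.eval₂ (g : k[T;T⁻¹] →+* B) b (C (C r)) = _
      rw [LaurentPolynomial.eval₂_C]; exact g.commutes r }

lemma evalBB_apply (g : k[T;T⁻¹] →ₐ[k] B) (b : Bˣ) (f : k[T;T⁻¹][T;T⁻¹]) :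
    evalBB g b f = LaurentPolynomial.eval₂ (g : k[T;T⁻¹] →+* B) b f := rfl

lemma evalBB_xx (g : k[T;T⁻¹] →ₐ[k] B) (b : Bˣ) :
    Units.map (evalBB g b : k[T;T⁻¹][T;T⁻¹] →* B) (xx k) = b :=
  Units.ext (by simp [xx, evalBB_apply])

lemma evalBB_yy (g : k[T;T⁻¹] →ₐ[k] B) (b : Bˣ) :
    Units.map (evalBB g b : k[T;T⁻¹][T;T⁻¹] →* B) (yy k) = Units.map (g : k[T;T⁻¹] →* B) (uT k) :=
  Units.ext (by simp [yy, evalBB_apply])

lemma evalBB_C_mul_T (g : k[T;T⁻¹] →ₐ[k] B) (b : Bˣ) (d : k[T;T⁻¹]) (n : ℤ) :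
    evalBB g b (C d * T n) = g d * ((b ^ n : Bˣ) : B) := by
  rw [evalBB_apply]; simp

lemma aevalU_C_mul_T (b : Bˣ) (u : k) (l : ℤ) :
    aevalU b (C u * T l) = algebraMap k B u * ((b ^ l : Bˣ) : B) := by
  rw [aevalU_apply]; simp

lemma eB_zpow (n : ℤ) : (((eB φ : Bˣ) ^ n : Bˣ) : B) = algebraMap k B (((eU φ) ^ n : kˣ) : k) := by
  unfold eB
  rw [← map_zpow]; rfl

/-- The comultiplication of any Hopf algebra structure on `P ≅ k[T;T⁻¹]` is determined by the counit. -/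
theorem comul_eq : comul (R := k) (φ (T 1)) =
    (counit (R := k) (φ (T 1)))⁻¹ • (φ (T 1) ⊗ₜ[k] φ (T 1)) := by
  set p := opv φ (xx k) (yy k) with hp
  obtain ⟨d, n, hd, hpd⟩ := laurent_isUnit p (isUnit_opv φ _ _)
  obtain ⟨u, l, hu, hdu⟩ := laurent_isUnit d hd
  -- step (i): `x ↦ e`
  have h1 := map_opv φ (evalBB (AlgHom.id k _) (eB φ)) (xx k) (yy k)
  rw [evalBB_xx, evalBB_yy, ← hp, hpd, evalBB_C_mul_T, opv_e_left, eB_zpow, hdu] at h1
  have h1' : C (u * (((eU φ) ^ n : kˣ) : k)) * T l = (T 1 : k[T;T⁻¹]) := by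
    rw [map_mul]
    simp only [AlgHom.id_apply, LaurentPolynomial.algebraMap_apply, Algebra.algebraMap_self,
      RingHom.id_apply] at h1
    calc C u * C (((eU φ) ^ n : kˣ) : k) * T l = C u * T l * C (((eU φ) ^ n : kˣ) : k) := by ring
      _ = _ := h1
      _ = T 1 := rfl
  obtain ⟨hl, -⟩ := C_mul_T_eq_T_one h1'
  subst hl
  -- step (ii): `y ↦ e`
  have h2 := map_opv φ (evalBB ((Algebra.ofId k _).comp (aevalU (eU φ))) (uT k)) (xx k) (yy k)
  have hy : Units.map (((Algebra.ofId k k[T;T⁻¹]).comp (aevalU (eU φ)) : k[T;T⁻¹] →ₐ[k] k[T;T⁻¹]) :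
      k[T;T⁻¹] →* k[T;T⁻¹]) (uT k) = eB φ := Units.ext (by simp [eB_val])
  rw [evalBB_xx, evalBB_yy, ← hp, hpd, evalBB_C_mul_T, hy, opv_e_right, uT_zpow, hdu] at h2
  have h2' : C (u * (((eU φ) ^ (1 : ℤ) : kˣ) : k)) * T n = (T 1 : k[T;T⁻¹]) := by
    calc C (u * (((eU φ) ^ (1 : ℤ) : kˣ) : k)) * T n
        = ((Algebra.ofId k k[T;T⁻¹]).comp (aevalU (eU φ))) (C u * T 1) * T n := by
          simp [aevalU_C_mul_T, LaurentPolynomial.algebraMap_apply]
      _ = _ := h2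
      _ = T 1 := rfl
  obtain ⟨hn, hue⟩ := C_mul_T_eq_T_one h2'
  subst hn
  rw [zpow_one] at hue
  -- step (iii): the universal point
  let unitL : (P ⊗[k] P)ˣ :=
    Units.map ((Algebra.TensorProduct.includeLeft : P →ₐ[k] P ⊗[k] P) : P →* P ⊗[k] P) (unitP φ)
  let unitR : (P ⊗[k] P)ˣ :=
    Units.map ((Algebra.TensorProduct.includeRight : P →ₐ[k] P ⊗[k] P) : P →* P ⊗[k] P) (unitP φ)
  have h3 := map_opv φ (evalBB (aevalU unitR) unitL) (xx k) (yy k)
  have hy3 : Units.map ((aevalU unitR : k[T;T⁻¹] →ₐ[k] P ⊗[k] P) : k[T;T⁻¹] →* P ⊗[k] P) (uT k) =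
      unitR := Units.ext (by simp)
  have hl : pt φ unitL = toConv (Algebra.TensorProduct.includeLeft : P →ₐ[k] P ⊗[k] P) :=
    pt_evU φ (toConv (Algebra.TensorProduct.includeLeft : P →ₐ[k] P ⊗[k] P))
  have hr : pt φ unitR = toConv (Algebra.TensorProduct.includeRight : P →ₐ[k] P ⊗[k] P) :=
    pt_evU φ (toConv (Algebra.TensorProduct.includeRight : P →ₐ[k] P ⊗[k] P))
  have h4 : opv φ unitL unitR = comul (R := k) (φ (T 1)) := by
    unfold opv; rw [hl, hr, includeLeft_mul_includeRight]; rfl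
  rw [evalBB_xx, evalBB_yy, ← hp, hpd, evalBB_C_mul_T, hy3, h4, hdu, aevalU_C_mul_T, zpow_one,
    zpow_one] at h3
  rw [← h3]
  have hu' : (counit (R := k) (φ (T 1)))⁻¹ = u := by
    rw [← eU_val]
    exact (eq_inv_of_mul_eq_one_left hue).symm
  rw [hu']
  show algebraMap k (P ⊗[k] P) u * ((1 : P) ⊗ₜ[k] φ (T 1)) * (φ (T 1) ⊗ₜ[k] (1 : P)) = _
  rw [Algebra.TensorProduct.algebraMap_apply, Algebra.TensorProduct.tmul_mul_tmul,
    Algebra.TensorProduct.tmul_mul_tmul, one_mul, mul_one, mul_one, Algebra.algebraMap_eq_smul_one,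
    smul_mul_assoc, one_mul, TensorProduct.smul_tmul']

end Main

end Groth.Agent.GmLaw
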