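import Groth.Agent.Lib.GaIso_helper5
import Groth.Agent.Lib.GmLaw_helper5

/-!
# Group laws on `𝔾_m` over a field are determined by their unit (helper5)
-/

universe u
open CategoryTheory MonoidalCategory CartesianMonoidalCategory MonObj GrpObj AlgebraicGeometry Opposite
open TensorProduct Limits
open scoped LaurentPolynomial
open LaurentPolynomial (T)

namespace Groth.Agent.GmIso

attribute [-instance] ULift.module

/-- `ULift ℤ`-algebra structure on a field. -/
noncomputable local instance algZ (k : Type u) [Field k] : Algebra (ULift.{u} ℤ) k :=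
  ULift.algebra' ℤ k

/-- Group structures on `op A`, `A ≅ k[T;T⁻¹]`, are determined by the unit. -/
theorem grpObj_mul_eq_of_laurentEquiv {k : Type u} [Field k] (A : CommAlgCat.{u} k)
    (φ : k[T;T⁻¹] ≃ₐ[k] A) (g₁ g₂ : GrpObj (op A)) (h : g₁.one = g₂.one) : g₁.mul = g₂.mul := by
  let H₁ : HopfAlgebra k A := @instHopfAlgebraCarrierUnopCommAlgCatOfGrpObjOpposite k _ (op A) g₁
  let H₂ : HopfAlgebra k A := @instHopfAlgebraCarrierUnopCommAlgCatOfGrpObjOpposite k _ (op A) g₂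
  have c1 := @Groth.Agent.GmLaw.comul_eq k _ A _ H₁ φ
  have c2 := @Groth.Agent.GmLaw.comul_eq k _ A _ H₂ φ
  have he : @Coalgebra.counit k A _ _ _ H₁.toCoalgebra.toCoalgebraStruct (φ (T 1)) =
      @Coalgebra.counit k A _ _ _ H₂.toCoalgebra.toCoalgebraStruct (φ (T 1)) := by
    show g₁.one.unop.hom (φ (T 1)) = g₂.one.unop.hom (φ (T 1))
    rw [h]
  apply Quiver.Hom.unop_inj
  apply CommAlgCat.hom_ext
  have key : ∀ f g : A →ₐ[k] (op A ⊗ op A).unop, f (φ (T 1)) = g (φ (T 1)) → f = g := by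
    intro f g hfg
    have : f.comp φ.toAlgHom = g.comp φ.toAlgHom :=
      Groth.Agent.GmLaw.laurent_algHom_ext (by simpa using hfg)
    ext x
    obtain ⟨y, rfl⟩ := φ.surjective x
    exact congr($this y)
  apply key
  show @CoalgebraStruct.comul k A _ _ _ H₁.toCoalgebra.toCoalgebraStruct (φ (T 1)) =
    @CoalgebraStruct.comul k A _ _ _ H₂.toCoalgebra.toCoalgebraStruct (φ (T 1))
  rw [c1, c2, he]

variable (k : Type u) [Field k] (S : Type u) [CommRing S] [Algebra (ULift.{u} ℤ) S]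

/-- the coordinate algebra of the base change. -/
noncomputable abbrev AS : CommAlgCat.{u} (CommRingCat.of k) :=
  CommAlgCat.of k (k ⊗[ULift.{u} ℤ] S)

/-- `Spec S ×_{Spec ℤ} Spec k ≅ Spec (k ⊗ S)`. -/
noncomputable def αleft :
    pullback (Spec.map (CommRingCat.ofHom (algebraMap (ULift.{u} ℤ) S)))
      (IsTerminal.from specULiftZIsTerminal (Spec (CommRingCat.of k))) ≅
    Spec (CommRingCat.of (k ⊗[ULift.{u} ℤ] S)) :=
  pullbackSymmetry _ _ ≪≫ pullback.congrHom (Groth.Agent.GaIso.t_eq k) rfl ≪≫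
    pullbackSpecIso (ULift.{u} ℤ) k S

lemma αleft_w : (αleft k S).hom ≫
    Spec.map (CommRingCat.ofHom (algebraMap k (k ⊗[ULift.{u} ℤ] S))) = pullback.snd _ _ := by
  simp only [αleft, Iso.trans_hom, Category.assoc]
  rw [pullbackSpecIso_hom_fst']
  exact Groth.Agent.GaIso.symm_congr_fst _ _ _ _ _ _

/-- The base change of `Spec S` to `Spec k` is `Spec (k ⊗ S)`, over `Spec k`. -/
noncomputable def αS :
    Red.bc (IsTerminal.from specULiftZIsTerminal (Spec (CommRingCat.of k)))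
      ((Spec (CommRingCat.of S)).asOver (Spec (CommRingCat.of (ULift.{u} ℤ)))) ≅
    (algSpec (CommRingCat.of k)).obj (op (AS k S)) :=
  Over.isoMk (αleft k S) (αleft_w k S)

/-- `k[T;T⁻¹] ≃ k ⊗ ℤ[ℤ]`. -/
noncomputable def φ : k[T;T⁻¹] ≃ₐ[k]
    k ⊗[ULift.{u} ℤ] MonoidAlgebra (ULift.{u} ℤ) (Multiplicative ℤ) :=
  (AddMonoidAlgebra.toMultiplicativeAlgEquiv k k ℤ).trans
    (MonoidAlgebra.scalarTensorEquiv (ULift.{u} ℤ) k).symm

theorem main (h₁ h₂ : GrpObj (Red.Gm (Spec (CommRingCat.of k)))) (e : h₁.one = h₂.one) :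
    h₁.mul = h₂.mul :=
  Groth.Agent.GrpLawRed.mul_eq_of_iso (AS k (MonoidAlgebra (ULift.{u} ℤ) (Multiplicative ℤ)))
    (αS k (MonoidAlgebra (ULift.{u} ℤ) (Multiplicative ℤ)))
    (fun g₁ g₂ h => grpObj_mul_eq_of_laurentEquiv _ (φ k) g₁ g₂ h) h₁ h₂ e

end Groth.Agent.GmIso
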