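import Mathlib

/-!
# The extension `R[π^{1/e}]` of a discrete valuation ring (helper1, for S14123)
-/

open Polynomial IsLocalRing

universe v

namespace Groth.Agent.Lib.RootExtH1

section

variable {R : Type v} [CommRing R] [IsDomain R] [IsDiscreteValuationRing R]

theorem poly_irreducible {π : R} (hπ : Irreducible π) {e : ℕ} (he : 0 < e) :
    Irreducible (X ^ e - C π : R[X]) := by
  have hmπ : maximalIdeal R = Ideal.span {π} := hπ.maximalIdeal_eq
  have hcm : π ∈ maximalIdeal R := by rw [hmπ]; exact Ideal.mem_span_singleton_self π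
  have hcm2 : π ∉ maximalIdeal R ^ 2 := by
    rw [hmπ, Ideal.span_singleton_pow, Ideal.mem_span_singleton]
    rintro ⟨d, hd⟩
    have h1 : π * d = 1 := by
      apply mul_left_cancel₀ hπ.ne_zero
      rw [mul_one, ← mul_assoc, ← pow_two]
      exact hd.symm
    exact hπ.not_isUnit (IsUnit.of_mul_eq_one d h1)
  apply Polynomial.irreducible_of_eisenstein_criterion (P := maximalIdeal R) inferInstance
  · rw [Polynomial.leadingCoeff_X_pow_sub_C he]
    exact fun h => (IsLocalRing.maximalIdeal.isMaximal R).ne_top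
      ((Ideal.eq_top_iff_one _).mpr h)
  · intro k hk
    rw [Polynomial.degree_X_pow_sub_C he π] at hk
    have hk' : k < e := by exact_mod_cast hk
    rw [Polynomial.coeff_sub, Polynomial.coeff_X_pow, Polynomial.coeff_C, if_neg hk'.ne]
    by_cases hk0 : k = 0
    · rw [if_pos hk0, zero_sub]; exact Ideal.neg_mem_iff _ |>.mpr hcm
    · rw [if_neg hk0, sub_zero]; exact Ideal.zero_mem _
  · rw [Polynomial.degree_X_pow_sub_C he π]; exact_mod_cast he
  · rw [Polynomial.coeff_sub, Polynomial.coeff_X_pow, Polynomial.coeff_C, if_neg he.ne,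
      if_pos rfl, zero_sub, Ideal.neg_mem_iff]
    exact hcm2
  · exact (Polynomial.monic_X_pow_sub_C π he.ne').isPrimitive

theorem poly_prime {π : R} (hπ : Irreducible π) {e : ℕ} (he : 0 < e) :
    Prime (X ^ e - C π : R[X]) :=
  (UniqueFactorizationMonoid.irreducible_iff_prime).mp (poly_irreducible hπ he)

variable (π : R) (e : ℕ)

/-- The ring `R[X]/(X^e - π)`. -/
abbrev Rp : Type v := AdjoinRoot (X ^ e - C π : R[X])

/-- The root `π^{1/e}`. -/
noncomputable abbrev rt : Rp π e := AdjoinRoot.root (X ^ e - C π : R[X])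

theorem root_pow : (rt π e) ^ e = algebraMap R (Rp π e) π := by
  have h := AdjoinRoot.mk_self (f := (X ^ e - C π : R[X]))
  rw [map_sub, map_pow, AdjoinRoot.mk_X] at h
  exact sub_eq_zero.mp h

theorem decomp (x : Rp π e) :
    ∃ (r : R) (y : Rp π e), x = algebraMap R (Rp π e) r + rt π e * y := by
  obtain ⟨f, rfl⟩ := AdjoinRoot.mk_surjective x
  refine ⟨f.coeff 0, AdjoinRoot.mk _ f.divX, ?_⟩
  conv_lhs => rw [← Polynomial.divX_mul_X_add f]
  rw [map_add, map_mul, AdjoinRoot.mk_X, add_comm, mul_comm]
  rfl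

variable {π} (hπ : Irreducible π) {e} (he : 0 < e)
include hπ he

theorem finite_Rp : Module.Finite R (Rp π e) :=
  (Polynomial.monic_X_pow_sub_C π he.ne').finite_adjoinRoot

theorem root_mem_of_isMaximal (M' : Ideal (Rp π e)) [M'.IsMaximal] : rt π e ∈ M' := by
  haveI : Module.Finite R (Rp π e) := finite_Rp hπ he
  have h1 : (M'.comap (algebraMap R (Rp π e))).IsMaximal :=
    Ideal.isMaximal_comap_of_isIntegral_of_isMaximal (R := R) M'
  have h2 : M'.comap (algebraMap R (Rp π e)) = maximalIdeal R := IsLocalRing.eq_maximalIdeal h1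
  have h3 : π ∈ M'.comap (algebraMap R (Rp π e)) := by
    rw [h2, hπ.maximalIdeal_eq]; exact Ideal.mem_span_singleton_self π
  have h4 : (rt π e) ^ e ∈ M' := by rw [root_pow]; exact h3
  exact (Ideal.IsMaximal.isPrime inferInstance).mem_of_pow_mem e h4

theorem isUnit_add (u : R) (hu : IsUnit u) (y : Rp π e) :
    IsUnit (algebraMap R (Rp π e) u + rt π e * y) := by
  by_contra hnu
  obtain ⟨M', hM', hmem⟩ := exists_max_ideal_of_mem_nonunits hnu
  haveI := hM'
  have h1 : rt π e * y ∈ M' := Ideal.mul_mem_right _ _ (root_mem_of_isMaximal hπ he M')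
  have h2 : algebraMap R (Rp π e) u ∈ M' := by
    have h3 := Ideal.sub_mem _ hmem h1
    rwa [add_sub_cancel_right] at h3
  exact hM'.ne_top (Ideal.eq_top_of_isUnit_mem _ h2 (hu.map _))

theorem root_pow_mem_span (y : Rp π e) : (rt π e) ^ e * y ∈ Ideal.span {rt π e} := by
  have h1 : (rt π e) ^ e = rt π e * (rt π e) ^ (e - 1) := by
    rw [← pow_succ', Nat.sub_add_cancel he]
  rw [h1, mul_assoc]
  exact Ideal.mul_mem_right _ _ (Ideal.mem_span_singleton_self _)

theorem mem_or_isUnit (x : Rp π e) : x ∈ Ideal.span {rt π e} ∨ IsUnit x := by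
  obtain ⟨r, y, rfl⟩ := decomp π e x
  by_cases hr : IsUnit r
  · right; exact isUnit_add hπ he r hr y
  · left
    have hrm : r ∈ maximalIdeal R := (mem_maximalIdeal r).mpr hr
    rw [hπ.maximalIdeal_eq, Ideal.mem_span_singleton] at hrm
    obtain ⟨s, rfl⟩ := hrm
    apply Ideal.add_mem
    · rw [map_mul, ← root_pow]
      exact root_pow_mem_span hπ he _
    · exact Ideal.mul_mem_right _ _ (Ideal.mem_span_singleton_self _)

theorem root_not_isUnit [Nontrivial (Rp π e)] : ¬ IsUnit (rt π e) := by
  intro hu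
  obtain ⟨M', hM'⟩ := Ideal.exists_maximal (Rp π e)
  haveI := hM'
  exact hM'.ne_top (Ideal.eq_top_of_isUnit_mem _ (root_mem_of_isMaximal hπ he M') hu)

theorem isLocalRing_Rp [Nontrivial (Rp π e)] : IsLocalRing (Rp π e) := by
  apply IsLocalRing.of_nonunits_add
  intro a b ha hb hab
  have ha' := (mem_or_isUnit hπ he a).resolve_right ha
  have hb' := (mem_or_isUnit hπ he b).resolve_right hb
  have h1 : a + b ∈ Ideal.span {rt π e} := Ideal.add_mem _ ha' hb'
  have h2 := Ideal.eq_top_of_isUnit_mem _ h1 hab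
  exact root_not_isUnit hπ he (Ideal.span_singleton_eq_top.mp h2)

theorem maximalIdeal_Rp [Nontrivial (Rp π e)] [IsLocalRing (Rp π e)] :
    maximalIdeal (Rp π e) = Ideal.span {rt π e} := by
  apply le_antisymm
  · intro x hx
    exact (mem_or_isUnit hπ he x).resolve_right ((mem_maximalIdeal x).mp hx)
  · rw [Ideal.span_le, Set.singleton_subset_iff]
    exact (mem_maximalIdeal _).mpr (root_not_isUnit hπ he)

omit hπ in
theorem of_injective : Function.Injective (algebraMap R (Rp π e)) := by
  apply AdjoinRoot.of.injective_of_degree_ne_zero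
  rw [Polynomial.degree_X_pow_sub_C he π]
  exact_mod_cast he.ne'

theorem isDomain_Rp : IsDomain (Rp π e) := AdjoinRoot.isDomain_of_prime (poly_prime hπ he)

theorem isDVR_Rp [IsDomain (Rp π e)] : IsDiscreteValuationRing (Rp π e) := by
  haveI := isLocalRing_Rp hπ he
  have hmax := maximalIdeal_Rp hπ he
  have hnf : ¬ IsField (Rp π e) := by
    intro hf
    have h0 : rt π e ≠ 0 := by
      intro h
      have h1 := root_pow π e
      rw [h, zero_pow he.ne'] at h1
      exact hπ.ne_zero (of_injective he (h1.symm.trans (map_zero _).symm))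
    obtain ⟨b, hb⟩ := hf.mul_inv_cancel h0
    exact root_not_isUnit hπ he (IsUnit.of_mul_eq_one b hb)
  exact ((IsDiscreteValuationRing.TFAE (Rp π e) hnf).out 4 0).mp
    (⟨⟨rt π e, by rw [hmax]⟩⟩ : (maximalIdeal (Rp π e)).IsPrincipal)

theorem isLocalHom_Rp [Nontrivial (Rp π e)] [IsLocalRing (Rp π e)] :
    IsLocalHom (algebraMap R (Rp π e)) := by
  have hmax := maximalIdeal_Rp hπ he
  constructor
  intro r hr
  by_contra hnr
  have hrm : r ∈ maximalIdeal R := (mem_maximalIdeal r).mpr hnr
  rw [hπ.maximalIdeal_eq, Ideal.mem_span_singleton] at hrm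
  obtain ⟨s, rfl⟩ := hrm
  have h1 : algebraMap R (Rp π e) (π * s) ∈ maximalIdeal (Rp π e) := by
    rw [hmax, map_mul, ← root_pow]
    exact root_pow_mem_span hπ he _
  exact (mem_maximalIdeal _).mp h1 hr

end

/-- The root extension packaged abstractly. -/
theorem exists_root_extension (R : Type v) [CommRing R] [IsDomain R] [IsDiscreteValuationRing R]
    (K : Type v) [Field K] [Algebra R K] [IsFractionRing R K] (π : R) (hπ : Irreducible π)
    (e : ℕ) (he : 0 < e) :
    ∃ (R' : Type v) (_ : CommRing R') (_ : IsDomain R') (_ : IsDiscreteValuationRing R')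
      (K' : Type v) (_ : Field K') (_ : Algebra R' K') (_ : IsFractionRing R' K')
      (_ : Algebra R R') (_ : Algebra K K') (_ : Algebra R K')
      (_ : IsScalarTower R R' K') (_ : IsScalarTower R K K')
      (_ : Module.Finite K K') (_ : IsLocalHom (algebraMap R R')) (τ : R'),
      τ ^ e = algebraMap R R' π ∧ τ ∈ maximalIdeal R' := by
  haveI hdom : IsDomain (Rp π e) := isDomain_Rp hπ he
  haveI hdvr : IsDiscreteValuationRing (Rp π e) := isDVR_Rp hπ he
  haveI hfin : Module.Finite R (Rp π e) := finite_Rp hπ he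
  have hinj1 : Function.Injective (algebraMap R (Rp π e)) := of_injective he
  have hinj : Function.Injective (algebraMap R (FractionRing (Rp π e))) := by
    rw [IsScalarTower.algebraMap_eq R (Rp π e) (FractionRing (Rp π e))]
    exact (IsFractionRing.injective (Rp π e) (FractionRing (Rp π e))).comp hinj1
  letI algKK' : Algebra K (FractionRing (Rp π e)) := (IsFractionRing.lift hinj).toAlgebra
  haveI tower : IsScalarTower R K (FractionRing (Rp π e)) :=
    IsScalarTower.of_algebraMap_eq (fun r => (IsFractionRing.lift_algebraMap hinj r).symm)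
  haveI : Algebra.IsAlgebraic K (FractionRing (Rp π e)) :=
    isAlgebraic_of_isFractionRing R (Rp π e) K (FractionRing (Rp π e))
  haveI : IsLocalization (Algebra.algebraMapSubmonoid (Rp π e) (nonZeroDivisors R))
      (FractionRing (Rp π e)) :=
    IsIntegralClosure.isLocalization R K (FractionRing (Rp π e)) (Rp π e)
  have fin : Module.Finite K (FractionRing (Rp π e)) :=
    Module.Finite.of_isLocalization R (Rp π e) (nonZeroDivisors R)
  exact ⟨Rp π e, inferInstance, hdom, hdvr, FractionRing (Rp π e), inferInstance, inferInstance,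
    inferInstance, inferInstance, algKK', inferInstance, inferInstance, tower, fin,
    isLocalHom_Rp hπ he, rt π e, root_pow π e, (mem_maximalIdeal _).mpr (root_not_isUnit hπ he)⟩

end Groth.Agent.Lib.RootExtH1
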