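import Mathlib
import Groth.Agent.Lib.RootExt_helper1

/-!
# Rescaling a point of a graded ring through a root extension of a DVR (helper1, S14123)
-/

open IsLocalRing

universe u v

namespace Groth.Agent.Lib.RootExtH1

theorem star {A : Type u} [CommRing A] (𝒜 : ℤ → AddSubgroup A) [GradedRing 𝒜] {B : Type*}
    [CommRing B] (ψ : A →+* B) (ϖ : B) (T : Finset A) (deg : A → ℕ)
    (hdeg : ∀ t ∈ T, 0 < deg t ∧ t ∈ 𝒜 (deg t : ℤ))
    (hspan : ∀ (a : A) (d : ℤ), 0 < d → a ∈ 𝒜 d → a ∈ Ideal.span (T : Set A))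
    (hT : ∀ t ∈ T, ϖ ^ deg t ∣ ψ t) :
    ∀ n : ℕ, 0 < n → ∀ a ∈ 𝒜 (n : ℤ), ϖ ^ n ∣ ψ a := by
  intro n
  induction n using Nat.strong_induction_on with
  | _ n ih =>
    intro hn a ha
    have hmem := hspan a n (by exact_mod_cast hn) ha
    obtain ⟨b, -, hb⟩ := Submodule.mem_span_finset.mp hmem
    have ha' : a = ∑ t ∈ T, GradedRing.proj 𝒜 ((n : ℤ) - deg t) (b t) * t := by
      have h1 : GradedRing.proj 𝒜 (n : ℤ) a = a := by
        rw [GradedRing.proj_apply]; exact DirectSum.decompose_of_mem_same 𝒜 ha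
      rw [← h1, ← hb, map_sum]
      apply Finset.sum_congr rfl
      intro t ht
      rw [smul_eq_mul, GradedRing.proj_apply, GradedRing.proj_apply]
      have h2 := DirectSum.coe_decompose_mul_add_of_right_mem 𝒜 (i := (n : ℤ) - deg t)
        (a := b t) (hdeg t ht).2
      rw [sub_add_cancel] at h2
      exact h2
    rw [ha', map_sum]
    apply Finset.dvd_sum
    intro t ht
    rw [map_mul]
    by_cases hlt : deg t < n
    · have hcast : ((n : ℤ) - deg t) = ((n - deg t : ℕ) : ℤ) := by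
        rw [Nat.cast_sub hlt.le]
      have hpos : 0 < deg t := (hdeg t ht).1
      have hmem' : GradedRing.proj 𝒜 ((n : ℤ) - deg t) (b t) ∈ 𝒜 ((n - deg t : ℕ) : ℤ) := by
        rw [← hcast, GradedRing.proj_apply]; exact SetLike.coe_mem _
      have h1 := ih (n - deg t) (by omega) (by omega) _ hmem'
      have h3 := mul_dvd_mul h1 (hT t ht)
      rwa [← pow_add, Nat.sub_add_cancel hlt.le] at h3
    · have hle : n ≤ deg t := not_lt.mp hlt
      exact Dvd.dvd.mul_left ((pow_dvd_pow ϖ hle).trans (hT t ht)) _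

theorem main14123
    {A : Type u} [CommRing A] (𝒜 : ℤ → AddSubgroup A) [GradedRing 𝒜]
    (hfg : (Ideal.span {a : A | ∃ d : ℤ, 0 < d ∧ a ∈ 𝒜 d}).FG)
    (R : Type v) [CommRing R] [IsDomain R] [IsDiscreteValuationRing R]
    (K : Type v) [Field K] [Algebra R K] [IsFractionRing R K]
    (φ : A →+* R)
    (hle : Ideal.map φ (Ideal.span {a : A | ∃ d : ℤ, 0 < d ∧ a ∈ 𝒜 d}) ≤ IsLocalRing.maximalIdeal R)
    (hne : Ideal.map φ (Ideal.span {a : A | ∃ d : ℤ, 0 < d ∧ a ∈ 𝒜 d}) ≠ ⊥) :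
    ∃ (R' : Type v) (_ : CommRing R') (_ : IsDomain R') (_ : IsDiscreteValuationRing R')
      (K' : Type v) (_ : Field K') (_ : Algebra R' K') (_ : IsFractionRing R' K')
      (_ : Algebra R R') (_ : Algebra K K') (_ : Algebra R K')
      (_ : IsScalarTower R R' K') (_ : IsScalarTower R K K')
      (_ : Module.Finite K K') (_ : IsLocalHom (algebraMap R R'))
      (ϖ : R') (g : A →+* R'),
      ϖ ≠ 0 ∧ ϖ ∈ IsLocalRing.maximalIdeal R' ∧
      (∀ (d : ℤ) (a : A), a ∈ 𝒜 d →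
        algebraMap R' K' (g a) * algebraMap R' K' ϖ ^ d = algebraMap R K' (φ a)) ∧
      Ideal.map g (Ideal.span {a : A | ∃ d : ℤ, 0 < d ∧ a ∈ 𝒜 d}) = ⊤ := by
  classical
  obtain ⟨S, hS⟩ : ∃ S : Set A, S = {a : A | ∃ d : ℤ, 0 < d ∧ a ∈ 𝒜 d} := ⟨_, rfl⟩
  rw [← hS] at hfg hle hne ⊢
  have hSmem : ∀ a, a ∈ S ↔ ∃ d : ℤ, 0 < d ∧ a ∈ 𝒜 d := by intro a; rw [hS]; rfl
  obtain ⟨T, hTS, hspan⟩ := (Submodule.fg_span_iff_fg_span_finset_subset S).mp hfg
  have hspan' : Ideal.span S = Ideal.span (T : Set A) := hspan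
  have hdeg : ∀ t : A, ∃ n : ℕ, t ∈ T → (0 < n ∧ t ∈ 𝒜 (n : ℤ)) := by
    intro t
    by_cases ht : t ∈ T
    · obtain ⟨d, hd, htd⟩ := (hSmem t).mp (hTS (Finset.mem_coe.mpr ht))
      refine ⟨d.toNat, fun _ => ⟨by omega, ?_⟩⟩
      rwa [Int.toNat_of_nonneg hd.le]
    · exact ⟨0, fun h => absurd h ht⟩
  choose deg hdeg using hdeg
  obtain ⟨π, hπ⟩ := IsDiscreteValuationRing.exists_irreducible R
  have hval : ∀ t : A, ∃ n : ℕ, ∃ w : Rˣ, φ t ≠ 0 → t ∈ T → (0 < n ∧ φ t = w * π ^ n) := by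
    intro t
    by_cases h0 : φ t = 0
    · exact ⟨0, 1, fun h => absurd h0 h⟩
    · obtain ⟨n, w, hw⟩ := IsDiscreteValuationRing.eq_unit_mul_pow_irreducible h0 hπ
      refine ⟨n, w, fun _ ht => ⟨?_, hw⟩⟩
      by_contra hn
      have hn0 : n = 0 := by omega
      have hmem : φ t ∈ maximalIdeal R :=
        hle (Ideal.mem_map_of_mem φ (Ideal.subset_span (hTS (Finset.mem_coe.mpr ht))))
      rw [hw, hn0, pow_zero, mul_one] at hmem
      exact (mem_maximalIdeal _).mp hmem w.isUnit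
  choose val unt hval using hval
  obtain ⟨e, he_def⟩ : ∃ e, e = ∏ t ∈ T, deg t := ⟨_, rfl⟩
  have he : 0 < e := by rw [he_def]; exact Finset.prod_pos (fun t ht => (hdeg t ht).1)
  have hdvd : ∀ t ∈ T, deg t ∣ e := fun t ht => by
    rw [he_def]; exact Finset.dvd_prod_of_mem deg ht
  obtain ⟨T', hT'⟩ : ∃ T' : Finset A, T' = T.filter (fun t => φ t ≠ 0) := ⟨_, rfl⟩
  have hT'mem : ∀ t, t ∈ T' ↔ t ∈ T ∧ φ t ≠ 0 := by intro t; rw [hT', Finset.mem_filter]
  have hT'ne : T'.Nonempty := by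
    by_contra hemp
    rw [Finset.not_nonempty_iff_eq_empty] at hemp
    apply hne
    rw [hspan', Ideal.map_span, Ideal.span_eq_bot]
    rintro _ ⟨t, ht, rfl⟩
    by_contra h0
    have h1 : t ∈ T' := (hT'mem t).mpr ⟨Finset.mem_coe.mp ht, h0⟩
    rw [hemp] at h1
    exact absurd h1 (Finset.notMem_empty t)
  obtain ⟨t₀, ht₀, hmin⟩ := Finset.exists_min_image T' (fun t => (e / deg t) * val t) hT'ne
  have ht₀T : t₀ ∈ T := ((hT'mem t₀).mp ht₀).1
  have hφt₀ : φ t₀ ≠ 0 := ((hT'mem t₀).mp ht₀).2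
  obtain ⟨c, hc⟩ : ∃ c, c = (e / deg t₀) * val t₀ := ⟨_, rfl⟩
  have hc0 : 0 < c := by
    rw [hc]
    exact Nat.mul_pos (Nat.div_pos (Nat.le_of_dvd he (hdvd t₀ ht₀T)) (hdeg t₀ ht₀T).1)
      (hval t₀ hφt₀ ht₀T).1
  have hcle : ∀ t ∈ T', c * deg t ≤ e * val t := by
    intro t ht
    have htT := ((hT'mem t).mp ht).1
    calc c * deg t ≤ (e / deg t) * val t * deg t :=
          Nat.mul_le_mul_right _ (by rw [hc]; exact hmin t ht)
      _ = e * val t := by rw [mul_right_comm, Nat.div_mul_cancel (hdvd t htT)]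
  have hceq : c * deg t₀ = e * val t₀ := by
    rw [hc, mul_right_comm, Nat.div_mul_cancel (hdvd t₀ ht₀T)]
  obtain ⟨R', i1, i2, i3, K', i4, i5, i6, i7, i8, i9, i10, i11, i12, i13, τ, hτ, hτm⟩ :=
    exists_root_extension R K π hπ e he
  obtain ⟨ψ, hψ⟩ : ∃ ψ : A →+* R', ψ = (algebraMap R R').comp φ := ⟨_, rfl⟩
  obtain ⟨ϖ, hϖ⟩ : ∃ ϖ : R', ϖ = τ ^ c := ⟨_, rfl⟩
  have hinjRR' : Function.Injective (algebraMap R R') := by
    have h1 : Function.Injective (algebraMap R K') := by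
      rw [IsScalarTower.algebraMap_eq R K K', RingHom.coe_comp]
      exact (algebraMap K K').injective.comp (IsFractionRing.injective R K)
    rw [IsScalarTower.algebraMap_eq R R' K', RingHom.coe_comp] at h1
    exact Function.Injective.of_comp h1
  have hτ0 : τ ≠ 0 := by
    intro h
    rw [h, zero_pow he.ne'] at hτ
    exact hπ.ne_zero (hinjRR' (hτ.symm.trans (map_zero _).symm))
  have hϖ0 : ϖ ≠ 0 := by rw [hϖ]; exact pow_ne_zero _ hτ0
  have hϖm : ϖ ∈ maximalIdeal R' := by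
    rw [hϖ]; exact Ideal.pow_mem_of_mem _ hτm c hc0
  have hTdvd : ∀ t ∈ T, ϖ ^ deg t ∣ ψ t := by
    intro t ht
    by_cases h0 : φ t = 0
    · rw [hψ, RingHom.comp_apply, h0, map_zero]; exact dvd_zero _
    · have ht' : t ∈ T' := (hT'mem t).mpr ⟨ht, h0⟩
      have h1 := (hval t h0 ht).2
      rw [hψ, RingHom.comp_apply, h1, map_mul, map_pow, ← hτ, ← pow_mul, hϖ, ← pow_mul]
      exact Dvd.dvd.mul_left (pow_dvd_pow τ (hcle t ht')) _
  have hstar := star 𝒜 ψ ϖ T deg hdeg (fun a d hd ha => by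
      rw [← hspan']; exact Ideal.subset_span ((hSmem a).mpr ⟨d, hd, ha⟩)) hTdvd
  obtain ⟨P, hP⟩ : ∃ P : K', P = algebraMap R' K' ϖ := ⟨_, rfl⟩
  have hinjK : Function.Injective (algebraMap R' K') := IsFractionRing.injective R' K'
  have hP0 : P ≠ 0 := by
    rw [hP]; exact (map_ne_zero_iff _ hinjK).mpr hϖ0
  let f : ∀ d : ℤ, (𝒜 d) →+ K' := fun d =>
    { toFun := fun x => algebraMap R' K' (ψ (x : A)) * P ^ (-d)
      map_zero' := by simp
      map_add' := fun x y => by simp [add_mul] }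
  have hone : f 0 (@GradedMonoid.GOne.one ℤ (fun i => 𝒜 i) _ _) = 1 := by
    show algebraMap R' K' (ψ ((@GradedMonoid.GOne.one ℤ (fun i => 𝒜 i) _ _ : 𝒜 0) : A)) * P ^ (-(0 : ℤ)) = 1
    rw [SetLike.coe_gOne, map_one, map_one, neg_zero, zpow_zero, mul_one]
  have hmul : ∀ {i j : ℤ} (ai : 𝒜 i) (aj : 𝒜 j),
      f (i + j) (@GradedMonoid.GMul.mul ℤ (fun i => 𝒜 i) _ _ _ _ ai aj) = f i ai * f j aj := by
    intro i j ai aj
    show algebraMap R' K' (ψ ((@GradedMonoid.GMul.mul ℤ (fun i => 𝒜 i) _ _ _ _ ai aj : 𝒜 (i + j)) : A)) * P ^ (-(i + j)) =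
      (algebraMap R' K' (ψ (ai : A)) * P ^ (-i)) * (algebraMap R' K' (ψ (aj : A)) * P ^ (-j))
    rw [SetLike.coe_gMul, map_mul, map_mul, neg_add, zpow_add₀ hP0]
    ring
  let G : A →+* K' := (DirectSum.toSemiring f hone hmul).comp
    (DirectSum.decomposeRingEquiv 𝒜).toRingHom
  have hG : ∀ (d : ℤ) (a : A), a ∈ 𝒜 d → G a = algebraMap R' K' (ψ a) * P ^ (-d) := by
    intro d a ha
    have h1 : G a = DirectSum.toSemiring f hone hmul (DirectSum.decompose 𝒜 a) := rfl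
    rw [h1, DirectSum.decompose_of_mem 𝒜 ha, DirectSum.toSemiring_of]
    rfl
  have hrange : ∀ a : A, ∃ y : R', algebraMap R' K' y = G a := by
    apply DirectSum.Decomposition.inductionOn 𝒜
      (motive := fun a => ∃ y : R', algebraMap R' K' y = G a)
    · exact ⟨0, by rw [map_zero, map_zero]⟩
    · intro d m
      rw [hG d m m.2]
      by_cases hd : 0 < d
      · obtain ⟨y, hy⟩ := hstar d.toNat (by omega) (m : A)
          (by rw [Int.toNat_of_nonneg hd.le]; exact m.2)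
        refine ⟨y, ?_⟩
        have h1 : P ^ d.toNat * P ^ (-d) = 1 := by
          rw [← zpow_natCast, Int.toNat_of_nonneg hd.le, ← zpow_add₀ hP0, add_neg_cancel,
            zpow_zero]
        rw [hy, map_mul, map_pow, ← hP, mul_comm (P ^ d.toNat), mul_assoc, h1, mul_one]
      · refine ⟨ψ (m : A) * ϖ ^ (-d).toNat, ?_⟩
        rw [map_mul, map_pow, ← hP, ← zpow_natCast, Int.toNat_of_nonneg (by omega)]
    · intro a b ha hb
      obtain ⟨y, hy⟩ := ha
      obtain ⟨z, hz⟩ := hb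
      exact ⟨y + z, by rw [map_add, map_add, hy, hz]⟩
  choose g₀ hg₀ using hrange
  let g : A →+* R' :=
    { toFun := g₀
      map_one' := hinjK (by rw [hg₀, map_one, map_one])
      map_mul' := fun a b => hinjK (by rw [hg₀, map_mul, map_mul, hg₀, hg₀])
      map_zero' := hinjK (by rw [hg₀, map_zero, map_zero])
      map_add' := fun a b => hinjK (by rw [hg₀, map_add, map_add, hg₀, hg₀]) }
  have hg : ∀ a, algebraMap R' K' (g a) = G a := hg₀
  refine ⟨R', i1, i2, i3, K', i4, i5, i6, i7, i8, i9, i10, i11, i12, i13, ϖ, g, hϖ0, hϖm, ?_, ?_⟩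
  · intro d a ha
    rw [hg, hG d a ha, hψ, RingHom.comp_apply, ← hP, mul_assoc, ← zpow_add₀ hP0, neg_add_cancel,
      zpow_zero, mul_one, ← IsScalarTower.algebraMap_apply]
  · have h1 : g t₀ = algebraMap R R' (unt t₀ : R) := by
      apply hinjK
      have hd0 := hdeg t₀ ht₀T
      rw [hg, hG (deg t₀ : ℤ) t₀ hd0.2, hψ, RingHom.comp_apply, (hval t₀ hφt₀ ht₀T).2, map_mul,
        map_pow, ← hτ, ← pow_mul, ← hceq, pow_mul, ← hϖ, map_mul, map_pow, ← hP, mul_assoc,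
        zpow_neg, zpow_natCast, mul_inv_cancel₀ (pow_ne_zero _ hP0), mul_one]
    apply Ideal.eq_top_of_isUnit_mem _
      (Ideal.mem_map_of_mem g (Ideal.subset_span (hTS (Finset.mem_coe.mpr ht₀T))))
    rw [h1]
    exact (unt t₀).isUnit.map _

end Groth.Agent.Lib.RootExtH1
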