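import Mathlib
import Groth.Prelude.Def_GLin
import Groth.Prelude.Def_HopfRep

namespace Groth.Agent.Lib.GmStab

open TensorProduct LaurentPolynomial

universe u

section Generic

variable {k : Type u} [Field k] {ι : Type u} [Fintype ι]

/-- polynomial extension of a torus orbit with non-negative weights on the non-zero coordinates -/
noncomputable def polyExt (v : ι → k) (s : ι → ℤ) : MvPolynomial ι k →ₐ[k] Polynomial k :=
  MvPolynomial.aeval (fun i => v i • (Polynomial.X : Polynomial k) ^ (s i).toNat)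

theorem toLaurent_polyExt (Θ : MvPolynomial ι k →ₐ[k] k[T;T⁻¹]) (v : ι → k) (s : ι → ℤ)
    (hΘ : ∀ i, Θ (MvPolynomial.X i) = v i • (T (s i) : k[T;T⁻¹]))
    (hs : ∀ i, v i ≠ 0 → 0 ≤ s i) :
    (Polynomial.toLaurentAlg (R := k)).comp (polyExt v s) = Θ := by
  apply MvPolynomial.algHom_ext
  intro i
  rw [AlgHom.comp_apply, polyExt, MvPolynomial.aeval_X, map_smul, map_pow,
    Polynomial.toLaurentAlg_apply, Polynomial.toLaurent_X, T_pow, mul_one, hΘ]
  by_cases hv : v i = 0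
  · rw [hv, zero_smul, zero_smul]
  · rw [Int.toNat_of_nonneg (hs i hv)]

theorem aeval_zero_polyExt_X (v : ι → k) (s : ι → ℤ) (i : ι) :
    (Polynomial.aeval (0:k)) (polyExt v s (MvPolynomial.X i)) =
      if (s i).toNat = 0 then v i else 0 := by
  rw [polyExt, MvPolynomial.aeval_X, map_smul, map_pow, Polynomial.aeval_X]
  split_ifs with h
  · rw [h, pow_zero, smul_eq_mul, mul_one]
  · rw [zero_pow h, smul_zero]

theorem const_eq_zero (Θ : MvPolynomial ι k →ₐ[k] k[T;T⁻¹]) (v : ι → k) (s : ι → ℤ)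
    (hΘ : ∀ i, Θ (MvPolynomial.X i) = v i • (T (s i) : k[T;T⁻¹]))
    (hs : ∀ i, v i ≠ 0 → 0 < s i) (F : MvPolynomial ι k) (d : ℕ) (hd : 0 < d)
    (hF : F.IsHomogeneous d) (c : k) (hc : Θ F = c • (1 : k[T;T⁻¹])) : c = 0 := by
  have hcomp := toLaurent_polyExt Θ v s hΘ (fun i hv => (hs i hv).le)
  have h1 : Polynomial.toLaurent (polyExt v s F) =
      Polynomial.toLaurent (c • (1 : Polynomial k)) := by
    rw [← Polynomial.toLaurentAlg_apply, ← Polynomial.toLaurentAlg_apply, ← AlgHom.comp_apply,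
      hcomp, hc, map_smul, map_one]
  have h2 : polyExt v s F = c • 1 := Polynomial.toLaurent_injective h1
  have h3 : (Polynomial.aeval (0:k)) (polyExt v s F) = c := by
    rw [h2, map_smul, map_one, smul_eq_mul, mul_one]
  have h4 : (Polynomial.aeval (0:k)).comp (polyExt v s) =
      MvPolynomial.aeval (fun _ : ι => (0:k)) := by
    apply MvPolynomial.algHom_ext
    intro i
    rw [AlgHom.comp_apply, aeval_zero_polyExt_X, MvPolynomial.aeval_X]
    by_cases hv : v i = 0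
    · rw [hv]; simp
    · have := hs i hv
      have hn : ¬ (s i).toNat = 0 := by omega
      rw [if_neg hn]
  have h5 : MvPolynomial.aeval (fun _ : ι => (0:k)) F = 0 := by
    rw [MvPolynomial.aeval_zero', MvPolynomial.constantCoeff_eq]
    have : MvPolynomial.coeff 0 F = 0 := by
      by_contra hne
      have := hF hne
      simp at this
      omega
    rw [this, map_zero]
  rw [← h3, ← AlgHom.comp_apply, h4, h5]

theorem not_isClosed_range (Θ : MvPolynomial ι k →ₐ[k] k[T;T⁻¹]) (v : ι → k) (s : ι → ℤ)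
    (hΘ : ∀ i, Θ (MvPolynomial.X i) = v i • (T (s i) : k[T;T⁻¹]))
    (hs : ∀ i, v i ≠ 0 → 0 ≤ s i) (i1 : ι) (hv1 : v i1 ≠ 0) (hs1 : 0 < s i1) :
    ¬ IsClosed (Set.range (PrimeSpectrum.comap Θ.toRingHom)) := by
  intro hcl
  have hcomp := toLaurent_polyExt Θ v s hΘ hs
  let y : MvPolynomial ι k →ₐ[k] k := (Polynomial.aeval (0:k)).comp (polyExt v s)
  have hker : RingHom.ker Θ.toRingHom ≤ RingHom.ker y.toRingHom := by
    intro f hf
    rw [RingHom.mem_ker] at hf ⊢
    have h1 : Polynomial.toLaurent (polyExt v s f) = 0 := by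
      rw [← Polynomial.toLaurentAlg_apply, ← AlgHom.comp_apply, hcomp]
      exact hf
    have h2 : polyExt v s f = 0 := by
      apply Polynomial.toLaurent_injective
      rw [h1, map_zero]
    show (Polynomial.aeval (0:k)) (polyExt v s f) = 0
    rw [h2, map_zero]
  haveI : (RingHom.ker y.toRingHom).IsPrime := RingHom.ker_isPrime y.toRingHom
  let py : PrimeSpectrum (MvPolynomial ι k) := ⟨RingHom.ker y.toRingHom, inferInstance⟩
  have hmem : py ∈ closure (Set.range (PrimeSpectrum.comap Θ.toRingHom)) := by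
    rw [PrimeSpectrum.closure_range_comap, PrimeSpectrum.mem_zeroLocus]
    intro f hf
    exact hker hf
  rw [hcl.closure_eq] at hmem
  obtain ⟨q, hq⟩ := hmem
  have hX : (MvPolynomial.X i1 : MvPolynomial ι k) ∈ py.asIdeal := by
    show MvPolynomial.X i1 ∈ RingHom.ker y.toRingHom
    rw [RingHom.mem_ker]
    show (Polynomial.aeval (0:k)) (polyExt v s (MvPolynomial.X i1)) = 0
    have hn : ¬ (s i1).toNat = 0 := by omega
    rw [aeval_zero_polyExt_X, if_neg hn]
  rw [← hq, PrimeSpectrum.comap_asIdeal, Ideal.mem_comap] at hX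
  have hunit : IsUnit (Θ.toRingHom (MvPolynomial.X i1)) := by
    show IsUnit (Θ (MvPolynomial.X i1))
    rw [hΘ, smul_eq_C_mul]
    exact (IsUnit.map C (IsUnit.mk0 _ hv1)).mul (isUnit_T _)
  exact q.isPrime.ne_top (Ideal.eq_top_of_isUnit_mem _ hX hunit)

theorem not_finite_laurent : ¬ Module.Finite k k[T;T⁻¹] := by
  intro h
  have : Finite ℤ := Module.Finite.finite_basis (AddMonoidAlgebra.basis ℤ k)
  exact not_finite ℤ

theorem not_hasFiniteStab (Θ : MvPolynomial ι k →ₐ[k] k[T;T⁻¹]) (x : MvPolynomial ι k →ₐ[k] k)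
    (hΘ : Θ = (Algebra.ofId k k[T;T⁻¹]).comp x) :
    ¬ Module.Finite k (k[T;T⁻¹] ⧸ Ideal.map Θ (RingHom.ker x)) := by
  intro hfin
  have hbot : Ideal.map Θ (RingHom.ker x) = ⊥ := by
    rw [eq_bot_iff, Ideal.map_le_iff_le_comap]
    intro f hf
    rw [Ideal.mem_comap, Ideal.mem_bot, hΘ, AlgHom.comp_apply, (RingHom.mem_ker).mp hf, map_zero]
  apply not_finite_laurent (k := k)
  have e : (k[T;T⁻¹] ⧸ Ideal.map Θ (RingHom.ker x)) ≃ₗ[k] k[T;T⁻¹] :=
    (Submodule.quotEquivOfEqBot _ hbot).restrictScalars k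
  exact Module.Finite.equiv e

theorem finite_quot_of_T_sub_one_mem (I : Ideal k[T;T⁻¹]) (a : ℕ) (ha : 0 < a)
    (hI : (T (a:ℤ) - 1 : k[T;T⁻¹]) ∈ I) :
    Module.Finite k (k[T;T⁻¹] ⧸ I) := by
  have hstep : ∀ n : ℤ, Ideal.Quotient.mk I (T (n + a)) = Ideal.Quotient.mk I (T n) := by
    intro n
    rw [Ideal.Quotient.eq]
    have : (T (n + a) - T n : k[T;T⁻¹]) = T n * (T (a:ℤ) - 1) := by
      rw [T_add]; ring
    rw [this]
    exact I.mul_mem_left _ hI
  have hq : ∀ q m : ℤ, Ideal.Quotient.mk I (T (m + q * a)) = Ideal.Quotient.mk I (T m) := by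
    intro q
    refine Int.induction_on q ?_ ?_ ?_
    · intro m
      rw [zero_mul, add_zero]
    · intro q ih m
      rw [show m + ((q:ℤ) + 1) * a = (m + q * a) + a by ring, hstep, ih]
    · intro q ih m
      rw [← hstep (m + (-(q:ℤ) - 1) * a),
        show m + (-(q:ℤ) - 1) * a + a = m + (-(q:ℤ)) * a by ring, ih]
  have hT : ∀ n : ℤ, Ideal.Quotient.mk I (T n) ∈
      Submodule.span k (Set.range fun m : Fin a => Ideal.Quotient.mk I (T ((m : ℕ) : ℤ))) := by
    intro n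
    have ha' : (a:ℤ) ≠ 0 := by omega
    have h1 : n = n % a + (n / a) * a := by
      have := Int.emod_add_mul_ediv n (a:ℤ)
      linarith
    have h0 : 0 ≤ n % a := Int.emod_nonneg n ha'
    have hlt : n % a < a := Int.emod_lt_of_pos n (by omega)
    obtain ⟨m, hm⟩ : ∃ m : ℕ, (m : ℤ) = n % a := ⟨(n % a).toNat, Int.toNat_of_nonneg h0⟩
    have hm' : (m:ℤ) < a := hm ▸ hlt
    have hm'' : m < a := by exact_mod_cast hm'
    rw [h1, hq, ← hm]
    exact Submodule.subset_span ⟨⟨m, hm''⟩, rfl⟩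
  have htop : Submodule.span k (Set.range fun m : Fin a =>
      Ideal.Quotient.mk I (T ((m : ℕ) : ℤ))) = ⊤ := by
    rw [eq_top_iff]
    rintro x -
    obtain ⟨f, rfl⟩ := Ideal.Quotient.mk_surjective x
    induction f using LaurentPolynomial.induction_on' with
    | add p q hp hq => rw [map_add]; exact Submodule.add_mem _ hp hq
    | C_mul_T n c =>
      have : Ideal.Quotient.mk I (C c * T n) = c • Ideal.Quotient.mk I (T n) := by
        rw [← smul_eq_C_mul]; rfl
      rw [this]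
      exact Submodule.smul_mem _ c (hT n)
  exact ⟨by rw [← htop]; exact Submodule.fg_span (Set.finite_range _)⟩

theorem isIntegral_orbit (Θ : MvPolynomial ι k →ₐ[k] k[T;T⁻¹]) (v : ι → k) (r : ι → ℤ)
    (hΘ : ∀ i, Θ (MvPolynomial.X i) = v i • (T (r i) : k[T;T⁻¹]))
    (i j : ι) (hvi : v i ≠ 0) (hvj : v j ≠ 0) (hri : r i < 0) (hrj : 0 < r j) :
    Θ.toRingHom.IsIntegral := by
  letI : Algebra (MvPolynomial ι k) k[T;T⁻¹] := Θ.toRingHom.toAlgebra
  have hmap : ∀ f, algebraMap (MvPolynomial ι k) k[T;T⁻¹] f = Θ f := fun f => rfl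
  have hTl : ∀ l, v l ≠ 0 → (T (r l) : k[T;T⁻¹]) =
      algebraMap (MvPolynomial ι k) k[T;T⁻¹] ((v l)⁻¹ • MvPolynomial.X l) := by
    intro l hl
    rw [hmap, map_smul, hΘ, smul_smul, inv_mul_cancel₀ hl, one_smul]
  obtain ⟨a, ha⟩ : ∃ a : ℕ, (a : ℤ) = r j := ⟨(r j).toNat, Int.toNat_of_nonneg hrj.le⟩
  obtain ⟨b, hb⟩ : ∃ b : ℕ, (b : ℤ) = - r i := ⟨(- r i).toNat, Int.toNat_of_nonneg (by omega)⟩
  have ha0 : a ≠ 0 := by omega
  have hb0 : b ≠ 0 := by omega
  have h1 : IsIntegral (MvPolynomial ι k) (T 1 : k[T;T⁻¹]) := by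
    apply IsIntegral.of_pow (Nat.pos_of_ne_zero ha0)
    rw [T_pow, mul_one, ha, hTl j hvj]
    exact isIntegral_algebraMap
  have h2 : IsIntegral (MvPolynomial ι k) (T (-1) : k[T;T⁻¹]) := by
    apply IsIntegral.of_pow (Nat.pos_of_ne_zero hb0)
    rw [T_pow, hb, show -r i * -1 = r i by ring, hTl i hvi]
    exact isIntegral_algebraMap
  have hT : ∀ n : ℤ, IsIntegral (MvPolynomial ι k) (T n : k[T;T⁻¹]) := by
    intro n
    rcases le_total 0 n with hn | hn
    · obtain ⟨m, rfl⟩ := Int.eq_ofNat_of_zero_le hn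
      have : (T (m:ℤ) : k[T;T⁻¹]) = T 1 ^ m := by rw [T_pow, mul_one]
      rw [this]
      exact h1.pow m
    · obtain ⟨m, hm⟩ := Int.eq_ofNat_of_zero_le (neg_nonneg.mpr hn)
      have : (T n : k[T;T⁻¹]) = T (-1) ^ m := by
        rw [T_pow, ← hm]
        congr 1
        ring
      rw [this]
      exact h2.pow m
  intro f
  show IsIntegral (MvPolynomial ι k) f
  induction f using LaurentPolynomial.induction_on' with
  | add p q hp hq => exact hp.add hq
  | C_mul_T n c =>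
    have : (C c * T n : k[T;T⁻¹]) =
        algebraMap (MvPolynomial ι k) k[T;T⁻¹] (c • 1) * T n := by
      rw [hmap, map_smul, map_one, smul_mul_assoc, one_mul, smul_eq_C_mul]
    rw [this]
    exact isIntegral_algebraMap.mul (hT n)

theorem hasFiniteStab_of (Θ : MvPolynomial ι k →ₐ[k] k[T;T⁻¹]) (x : MvPolynomial ι k →ₐ[k] k)
    (v : ι → k) (r : ι → ℤ) (hx : ∀ i, x (MvPolynomial.X i) = v i)
    (hΘ : ∀ i, Θ (MvPolynomial.X i) = v i • (T (r i) : k[T;T⁻¹]))
    (j : ι) (hvj : v j ≠ 0) (hrj : 0 < r j) :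
    Module.Finite k (k[T;T⁻¹] ⧸ Ideal.map Θ (RingHom.ker x)) := by
  obtain ⟨a, ha⟩ : ∃ a : ℕ, (a : ℤ) = r j := ⟨(r j).toNat, Int.toNat_of_nonneg hrj.le⟩
  apply finite_quot_of_T_sub_one_mem _ a (by omega)
  have hmem : (MvPolynomial.X j - v j • (1 : MvPolynomial ι k)) ∈ RingHom.ker x := by
    rw [RingHom.mem_ker, map_sub, hx, map_smul, map_one, smul_eq_mul, mul_one, sub_self]
  have h1 : Θ (MvPolynomial.X j - v j • (1 : MvPolynomial ι k)) ∈
      Ideal.map Θ (RingHom.ker x) := Ideal.mem_map_of_mem _ hmem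
  rw [map_sub, hΘ, map_smul, map_one, ← smul_sub] at h1
  have h2 := Submodule.smul_of_tower_mem (Ideal.map Θ (RingHom.ker x)) (v j)⁻¹ h1
  rwa [smul_smul, inv_mul_cancel₀ hvj, one_smul, ← ha] at h2

end Generic

section Comod

variable {k : Type u} [Field k] {ι : Type u} [Fintype ι]
  [HopfRep.Comod k k[T;T⁻¹] (MvPolynomial ι k)]
  [GLin.IsCoactAlg k k[T;T⁻¹] (MvPolynomial ι k)]

theorem orbit_X (r : ι → ℤ)
    (hr : ∀ i : ι, HopfRep.Comod.coact (k := k) (A := k[T;T⁻¹])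
      (MvPolynomial.X i : MvPolynomial ι k) =
      (MvPolynomial.X i : MvPolynomial ι k) ⊗ₜ[k] (T (r i) : k[T;T⁻¹]))
    (v : ι → k) (i : ι) :
    GLin.orbitHom k k[T;T⁻¹] (GLin.vecPt k ι v) (MvPolynomial.X i) =
      v i • (T (r i) : k[T;T⁻¹]) := by
  simp [GLin.orbitHom, hr]

theorem orbit_inv (v : ι → k) (F : MvPolynomial ι k)
    (hF : F ∈ GLin.invariants k k[T;T⁻¹] (MvPolynomial ι k)) :
    GLin.orbitHom k k[T;T⁻¹] (GLin.vecPt k ι v) F =
      (MvPolynomial.eval v F) • (1 : k[T;T⁻¹]) := by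
  rw [GLin.mem_invariants_iff] at hF
  simp [GLin.orbitHom, hF]

theorem main22 (k : Type u) [Field k]
    (ι : Type u) [Fintype ι] [HopfRep.Comod k k[T;T⁻¹] (MvPolynomial ι k)]
    [GLin.IsCoactAlg k k[T;T⁻¹] (MvPolynomial ι k)]
    (r : ι → ℤ)
    (hr : ∀ i : ι, HopfRep.Comod.coact (k := k) (A := k[T;T⁻¹])
      (MvPolynomial.X i : MvPolynomial ι k) =
      (MvPolynomial.X i : MvPolynomial ι k) ⊗ₜ[k] (T (r i) : k[T;T⁻¹]))
    (v : ι → k) :
    GLin.IsSemistableVec k k[T;T⁻¹] v ↔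
      ∃ i j : ι, v i ≠ 0 ∧ v j ≠ 0 ∧ r i ≤ 0 ∧ 0 ≤ r j := by
  unfold GLin.IsSemistableVec GLin.IsNullform
  constructor
  · intro hss
    by_contra hno
    apply hss
    intro F hFinv d hd hFd
    have hΘF := orbit_inv v F hFinv
    by_cases hcase : ∀ i, v i ≠ 0 → 0 < r i
    · exact const_eq_zero _ v r (orbit_X r hr v) hcase F d hd hFd _ hΘF
    · push_neg at hcase
      obtain ⟨i0, hv0, hr0⟩ := hcase
      have hneg : ∀ j, v j ≠ 0 → 0 < - r j := by
        intro j hvj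
        by_contra hcon
        exact hno ⟨i0, j, hv0, hvj, hr0, by omega⟩
      refine const_eq_zero ((invert (R := k)).toAlgHom.comp
        (GLin.orbitHom k k[T;T⁻¹] (GLin.vecPt k ι v))) v (fun i => - r i) ?_ hneg F d hd hFd _ ?_
      · intro i
        rw [AlgHom.comp_apply, orbit_X r hr v i]
        simp
      · rw [AlgHom.comp_apply, hΘF]
        simp
  · rintro ⟨i, j, hvi, hvj, hri, hrj⟩ hnull
    have hXinv : ∀ l, r l = 0 → (MvPolynomial.X l : MvPolynomial ι k) ∈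
        GLin.invariants k k[T;T⁻¹] (MvPolynomial ι k) := by
      intro l hl
      rw [GLin.mem_invariants_iff, hr, hl, T_zero]
    rcases eq_or_lt_of_le hri with h0 | hlt
    · have := hnull _ (hXinv i h0) 1 one_pos (MvPolynomial.isHomogeneous_X k i)
      rw [MvPolynomial.eval_X] at this
      exact hvi this
    rcases eq_or_lt_of_le hrj with h0 | hgt
    · have := hnull _ (hXinv j h0.symm) 1 one_pos (MvPolynomial.isHomogeneous_X k j)
      rw [MvPolynomial.eval_X] at this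
      exact hvj this
    obtain ⟨a, ha⟩ : ∃ a : ℕ, (a : ℤ) = r j := ⟨(r j).toNat, Int.toNat_of_nonneg hrj⟩
    obtain ⟨b, hb⟩ : ∃ b : ℕ, (b : ℤ) = - r i :=
      ⟨(- r i).toNat, Int.toNat_of_nonneg (by omega)⟩
    have hinv : (MvPolynomial.X i ^ a * MvPolynomial.X j ^ b : MvPolynomial ι k) ∈
        GLin.invariants k k[T;T⁻¹] (MvPolynomial ι k) := by
      rw [GLin.mem_invariants_iff, ← GLin.coactAlgHom_apply k k[T;T⁻¹] (MvPolynomial ι k),
        map_mul, map_pow, map_pow, GLin.coactAlgHom_apply, GLin.coactAlgHom_apply, hr, hr,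
        Algebra.TensorProduct.tmul_pow, Algebra.TensorProduct.tmul_pow,
        Algebra.TensorProduct.tmul_mul_tmul, T_pow, T_pow, ← T_add]
      have : (a : ℤ) * r i + (b : ℤ) * r j = 0 := by rw [ha, hb]; ring
      rw [this, T_zero]
    have := hnull _ hinv (1 * a + 1 * b) (by omega)
      (((MvPolynomial.isHomogeneous_X k i).pow a).mul ((MvPolynomial.isHomogeneous_X k j).pow b))
    rw [map_mul, map_pow, map_pow, MvPolynomial.eval_X, MvPolynomial.eval_X] at this
    exact mul_ne_zero (pow_ne_zero _ hvi) (pow_ne_zero _ hvj) this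

theorem main23 (k : Type u) [Field k]
    (ι : Type u) [Fintype ι] [HopfRep.Comod k k[T;T⁻¹] (MvPolynomial ι k)]
    [GLin.IsCoactAlg k k[T;T⁻¹] (MvPolynomial ι k)]
    (r : ι → ℤ)
    (hr : ∀ i : ι, HopfRep.Comod.coact (k := k) (A := k[T;T⁻¹])
      (MvPolynomial.X i : MvPolynomial ι k) =
      (MvPolynomial.X i : MvPolynomial ι k) ⊗ₜ[k] (T (r i) : k[T;T⁻¹]))
    (v : ι → k) :
    GLin.IsStableVec k k[T;T⁻¹] v ↔
      ∃ i j : ι, v i ≠ 0 ∧ v j ≠ 0 ∧ r i < 0 ∧ 0 < r j := by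
  obtain ⟨Θ, hΘdef⟩ : ∃ Θ, Θ = GLin.orbitHom k k[T;T⁻¹] (GLin.vecPt k ι v) := ⟨_, rfl⟩
  have hΘ : ∀ i, Θ (MvPolynomial.X i) = v i • (T (r i) : k[T;T⁻¹]) := by
    intro i
    rw [hΘdef]
    exact orbit_X r hr v i
  have hiff : GLin.IsStableVec k k[T;T⁻¹] v ↔
      (IsClosed (Set.range (PrimeSpectrum.comap Θ.toRingHom)) ∧
        Module.Finite k (k[T;T⁻¹] ⧸ Ideal.map Θ (RingHom.ker (GLin.vecPt k ι v)))) := by
    rw [hΘdef]
    exact Iff.rfl
  rw [hiff]
  have hinv : ∀ g : k[T;T⁻¹], invert (invert g) = g := fun g => by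
    have := (invert (R := k)).symm_apply_apply g
    rwa [invert_symm] at this
  constructor
  · rintro ⟨hcl, hfin⟩
    by_contra hno
    by_cases hA : ∀ i, v i ≠ 0 → 0 ≤ r i
    · by_cases hA1 : ∀ i, v i ≠ 0 → r i = 0
      · apply not_hasFiniteStab Θ (GLin.vecPt k ι v) ?_ hfin
        apply MvPolynomial.algHom_ext
        intro i
        rw [hΘ, AlgHom.comp_apply, MvPolynomial.aeval_X]
        by_cases hv : v i = 0
        · rw [hv, zero_smul, map_zero]
        · rw [hA1 i hv, T_zero, Algebra.ofId_apply, Algebra.algebraMap_eq_smul_one]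
      · push_neg at hA1
        obtain ⟨i1, hv1, hr1⟩ := hA1
        have : 0 < r i1 := lt_of_le_of_ne (hA i1 hv1) (Ne.symm hr1)
        exact not_isClosed_range Θ v r hΘ hA i1 hv1 this hcl
    · push_neg at hA
      obtain ⟨i0, hv0, hr0⟩ := hA
      have hB : ∀ j, v j ≠ 0 → 0 ≤ - r j := by
        intro j hvj
        by_contra hcon
        exact hno ⟨i0, j, hv0, hvj, hr0, by omega⟩
      have hΘ' : ∀ i, ((invert (R := k)).toAlgHom.comp Θ) (MvPolynomial.X i) =
          v i • (T (- r i) : k[T;T⁻¹]) := by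
        intro i
        rw [AlgHom.comp_apply, hΘ]
        simp
      apply not_isClosed_range ((invert (R := k)).toAlgHom.comp Θ) v (fun i => - r i) hΘ' hB
        i0 hv0 (by omega)
      have hrange : Set.range (PrimeSpectrum.comap ((invert (R := k)).toAlgHom.comp Θ).toRingHom)
          = Set.range (PrimeSpectrum.comap Θ.toRingHom) := by
        apply Set.Subset.antisymm
        · rintro _ ⟨q, rfl⟩
          refine ⟨PrimeSpectrum.comap (invert (R := k)).toAlgHom.toRingHom q, ?_⟩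
          apply PrimeSpectrum.ext
          ext f
          rfl
        · rintro _ ⟨q, rfl⟩
          refine ⟨PrimeSpectrum.comap (invert (R := k)).toAlgHom.toRingHom q, ?_⟩
          apply PrimeSpectrum.ext
          ext f
          simp only [PrimeSpectrum.comap_asIdeal, Ideal.mem_comap]
          show (invert (R := k)) ((invert (R := k)) (Θ f)) ∈ q.asIdeal ↔ Θ f ∈ q.asIdeal
          rw [hinv]
      rw [hrange]
      exact hcl
  · rintro ⟨i, j, hvi, hvj, hri, hrj⟩
    exact ⟨(PrimeSpectrum.isClosedMap_comap_of_isIntegral _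
      (isIntegral_orbit Θ v r hΘ i j hvi hvj hri hrj)).isClosed_range,
      hasFiniteStab_of Θ (GLin.vecPt k ι v) v r (fun i => MvPolynomial.aeval_X v i) hΘ j hvj hrj⟩

end Comod

end Groth.Agent.Lib.GmStab
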