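import Mathlib
import Groth.Prelude.Def_CohCx
import Groth.Agent.Lib.CobarTot_helper7
import Groth.Agent.Lib.GodementStep_helper9
import Groth.Agent.Lib.Leray_helper9
import Groth.Agent.Lib.TopPullStalk_helper7

/-!
# Godement-type flasque resolutions of bounded below complexes of abelian sheaves (helper7)

For a bounded below complex `F` of abelian sheaves on a space `X` we take the total complex of the
cobar double complex of the adjunction `f⁻¹ ⊣ f_*` for `f : X_disc ⟶ X`.  It is a bounded below
complex of flasque sheaves, quasi-isomorphic to `F`, and the map on the complexes of stalks at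
every point is a homotopy equivalence.
-/

set_option autoImplicit false
set_option backward.isDefEq.respectTransparency false
set_option backward.isDefEq.respectTransparency.types false
set_option linter.style.haveILetI false
set_option linter.unusedSectionVars false

universe u

open CategoryTheory CategoryTheory.Limits TopologicalSpace Opposite

namespace Groth.Agent.Lib.GodResH7

open Groth.Agent.Lib.CobarTotH7 Groth.Agent.Lib.NatIntTotH7 Groth.Agent.Lib.GodementStep

variable (X : TopCat.{u})

/-- the identity map from the discrete space -/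
abbrev f : Xd X ⟶ X := fd X

/-- the inverse image -/
noncomputable abbrev L : CohTop.Ab X ⥤ CohTop.Ab (Xd X) := CohTop.pull (f X)

/-- the direct image -/
noncomputable abbrev R : CohTop.Ab (Xd X) ⥤ CohTop.Ab X := CohTop.push (f X)

/-- the adjunction -/
noncomputable abbrev adj : L X ⊣ R X :=
  TopCat.Sheaf.pullbackPushforwardAdjunction AddCommGrpCat.{u} (f X)

instance additive_L : (L X).Additive := (adj X).left_adjoint_additive

instance pfl_L : PreservesFiniteLimits (L X) := Leray.preservesFiniteLimits_pull (f X)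

instance pfc_L : PreservesFiniteColimits (L X) := by
  haveI : PreservesColimitsOfSize.{0, 0} (L X) := (adj X).leftAdjoint_preservesColimits
  exact PreservesColimitsOfSize.preservesFiniteColimits _

instance mono_unit_app (F : CohTop.Ab X) : Mono ((adj X).unit.app F) := mono_unit F

instance faithful_L : (L X).Faithful := (adj X).faithful_L_of_mono_unit_app

instance reflectsIso_L : (L X).ReflectsIsomorphisms := inferInstance

instance preservesHomology_L : (L X).PreservesHomology := inferInstance

/-! ### Sections -/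

/-- sections over `U` -/
def Γ (U : (Opens X)ᵒᵖ) : CohTop.Ab X ⥤ AddCommGrpCat.{u} where
  obj F := F.obj.obj U
  map φ := φ.hom.app U

instance additive_Γ (U : (Opens X)ᵒᵖ) : (Γ X U).Additive where

/-- the restriction -/
def res {U V : (Opens X)ᵒᵖ} (i : U ⟶ V) : Γ X U ⟶ Γ X V where
  app F := F.obj.map i
  naturality _ _ φ := (φ.hom.naturality i).symm

variable {X}
variable (F : CochainComplex (CohTop.Ab X) ℤ)

theorem isFlasque_KK (q : ℕ) (p : ℤ) :
    TopCat.Sheaf.IsFlasque (((KK (adj X) F).X q).X p) :=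
  isFlasque_push_pull ((XX (L := L X) (R := R X) F q).X p)

theorem isFlasque_G (a : ℤ) (hF : ∀ p : ℤ, p < a → IsZero (F.X p))
    [(KK (adj X) F).HasTotal (ComplexShape.up ℤ)] (n : ℤ) :
    TopCat.Sheaf.IsFlasque ((G (adj X) F).X n) where
  epi {U V} i := by
    have h := epi_app_total (KK (adj X) F) (Γ X U) (Γ X V) (res X i) a (bdd_KK (adj X) F a hF)
      (fun q p => (isFlasque_KK F q p).epi i) n
    exact h

/-! ### Stalks -/

/-- the stalk functor at `x` -/
noncomputable abbrev S (x : X) : CohTop.Ab X ⥤ AddCommGrpCat.{u} :=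
  sheafToPresheaf (Opens.grothendieckTopology X) AddCommGrpCat.{u} ⋙
    TopCat.Presheaf.stalkFunctor AddCommGrpCat.{u} x

/-- the stalk functor at `x` on the discrete space -/
noncomputable abbrev Sd (x : X) : CohTop.Ab (Xd X) ⥤ AddCommGrpCat.{u} :=
  sheafToPresheaf (Opens.grothendieckTopology (Xd X)) AddCommGrpCat.{u} ⋙
    TopCat.Presheaf.stalkFunctor AddCommGrpCat.{u} (toXd x)

instance additive_Sd (x : X) : (Sd x).Additive := by
  have h1 : (sheafToPresheaf (Opens.grothendieckTopology (Xd X)) AddCommGrpCat.{u}).Additive :=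
    inferInstance
  have h2 : (TopCat.Presheaf.stalkFunctor AddCommGrpCat.{u} (toXd x)).Additive := inferInstance
  constructor
  intro F G φ ψ
  show (TopCat.Presheaf.stalkFunctor AddCommGrpCat.{u} (toXd x)).map
    ((sheafToPresheaf _ _).map (φ + ψ)) = _
  rw [Functor.map_add, Functor.map_add]
  rfl

/-- the comparison of stalks -/
noncomputable def cx (x : X) (H : CohTop.Ab X) : (S x).obj H ⟶ (Sd x).obj ((L X).obj H) :=
  TopPullStalk_helper7.c (f X) H (toXd x)

instance isIso_cx (x : X) (H : CohTop.Ab X) : IsIso (cx x H) := by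
  rw [ConcreteCategory.isIso_iff_bijective]
  exact TopPullStalk_helper7.c_bijective (f X) H (toXd x)

theorem cx_germ (x : X) (H : CohTop.Ab X) (U : Opens X) (h : x ∈ U) :
    TopCat.Presheaf.germ H.obj U x h ≫ cx x H =
      ((adj X).unit.app H).hom.app (op U) ≫
        TopCat.Presheaf.germ ((L X).obj H).obj ((Opens.map (f X)).obj U) (toXd x) h :=
  TopPullStalk_helper7.c_germ (f X) H (toXd x) U h

theorem cx_naturality (x : X) {H H' : CohTop.Ab X} (ψ : H ⟶ H') :
    (S x).map ψ ≫ cx x H' = cx x H ≫ (Sd x).map ((L X).map ψ) := by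
  refine TopCat.Presheaf.stalk_hom_ext _ (fun U hU => ?_)
  have h1 : TopCat.Presheaf.germ H.obj U x hU ≫ (S x).map ψ =
      ψ.hom.app (op U) ≫ TopCat.Presheaf.germ H'.obj U x hU :=
    TopCat.Presheaf.stalkFunctor_map_germ U x hU ψ.hom
  have h2 := cx_germ x H' U hU
  have h3 := cx_germ x H U hU
  have h4 : TopCat.Presheaf.germ ((L X).obj H).obj ((Opens.map (f X)).obj U) (toXd x) hU ≫
      (Sd x).map ((L X).map ψ) =
      ((L X).map ψ).hom.app (op ((Opens.map (f X)).obj U)) ≫
        TopCat.Presheaf.germ ((L X).obj H').obj ((Opens.map (f X)).obj U) (toXd x) hU :=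
    TopCat.Presheaf.stalkFunctor_map_germ ((Opens.map (f X)).obj U) (toXd x) hU
      ((L X).map ψ).hom
  have h5 : ψ.hom.app (op U) ≫ ((adj X).unit.app H').hom.app (op U) =
      ((adj X).unit.app H).hom.app (op U) ≫
        ((L X).map ψ).hom.app (op ((Opens.map (f X)).obj U)) := by
    have := (adj X).unit.naturality ψ
    have h6 := congrArg (fun k => k.hom.app (op U)) this
    exact h6
  calc TopCat.Presheaf.germ H.obj U x hU ≫ (S x).map ψ ≫ cx x H'
      = (TopCat.Presheaf.germ H.obj U x hU ≫ (S x).map ψ) ≫ cx x H' :=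
        (Category.assoc _ _ _).symm
    _ = ψ.hom.app (op U) ≫ TopCat.Presheaf.germ H'.obj U x hU ≫ cx x H' := by
        rw [h1, Category.assoc]
    _ = (ψ.hom.app (op U) ≫ ((adj X).unit.app H').hom.app (op U)) ≫
          TopCat.Presheaf.germ ((L X).obj H').obj ((Opens.map (f X)).obj U) (toXd x) hU := by
        rw [h2, Category.assoc]
    _ = ((adj X).unit.app H).hom.app (op U) ≫
          (TopCat.Presheaf.germ ((L X).obj H).obj ((Opens.map (f X)).obj U) (toXd x) hU ≫
            (Sd x).map ((L X).map ψ)) := by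
        rw [h5, h4, Category.assoc]
    _ = (TopCat.Presheaf.germ H.obj U x hU ≫ cx x H) ≫ (Sd x).map ((L X).map ψ) := by
        rw [h3, Category.assoc]
    _ = TopCat.Presheaf.germ H.obj U x hU ≫ cx x H ≫ (Sd x).map ((L X).map ψ) :=
        Category.assoc _ _ _

/-- the comparison of the complexes of stalks -/
noncomputable def stalkIso (x : X) (F : CochainComplex (CohTop.Ab X) ℤ) :
    (CohCx.stalkCx x).obj F ≅
      ((Sd x).mapHomologicalComplex (ComplexShape.up ℤ)).obj ((Lc (L X)).obj F) :=
  HomologicalComplex.Hom.isoOfComponents (fun n => asIso (cx x (F.X n)))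
    (fun i j _ => (cx_naturality x (F.d i j)).symm)

theorem stalkIso_hom_f (x : X) (F : CochainComplex (CohTop.Ab X) ℤ) (n : ℤ) :
    (stalkIso x F).hom.f n = cx x (F.X n) := rfl

theorem stalkIso_naturality (x : X) {F F' : CochainComplex (CohTop.Ab X) ℤ} (ψ : F ⟶ F') :
    (CohCx.stalkCx x).map ψ ≫ (stalkIso x F').hom =
      (stalkIso x F).hom ≫
        ((Sd x).mapHomologicalComplex (ComplexShape.up ℤ)).map ((Lc (L X)).map ψ) := by
  refine HomologicalComplex.hom_ext _ _ (fun n => ?_)
  exact cx_naturality x (ψ.f n)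

/-! ### The main theorem -/

theorem main (a : ℤ) (hF : F.IsStrictlyGE a) :
    ∃ (G : CochainComplex (CohTop.Ab X) ℤ) (φ : F ⟶ G), G.IsStrictlyGE a ∧ QuasiIso φ ∧
      (∀ n : ℤ, TopCat.Sheaf.IsFlasque (G.X n)) ∧
      ∀ x : X, ∃ e : HomotopyEquiv ((CohCx.stalkCx x).obj F) ((CohCx.stalkCx x).obj G),
        e.hom = (CohCx.stalkCx x).map φ := by
  have hF' : ∀ p : ℤ, p < a → IsZero (F.X p) := fun p hp => F.isZero_of_isStrictlyGE a p hp
  haveI : (KK (adj X) F).HasTotal (ComplexShape.up ℤ) :=
    hasTotal_of_bdd (KK (adj X) F) a (bdd_KK (adj X) F a hF')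
  refine ⟨G (adj X) F, φ (adj X) F, isStrictlyGE_G (adj X) F a hF', quasiIso_φ (adj X) F,
    fun n => isFlasque_G F a hF' n, fun x => ?_⟩
  let e1 := HomotopyEquiv.ofIso (stalkIso x F)
  let e2 := (Sd x).mapHomotopyEquiv (homotopyEquiv (adj X) F)
  let e3 := HomotopyEquiv.ofIso (stalkIso x (G (adj X) F)).symm
  refine ⟨(e1.trans e2).trans e3, ?_⟩
  show ((stalkIso x F).hom ≫
      ((Sd x).mapHomologicalComplex (ComplexShape.up ℤ)).map ((Lc (L X)).map (φ (adj X) F))) ≫
      (stalkIso x (G (adj X) F)).inv = _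
  rw [← stalkIso_naturality, Category.assoc, Iso.hom_inv_id, Category.comp_id]

end Groth.Agent.Lib.GodResH7
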