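import Mathlib
import Groth.Agent.Lib.NakayamaBC_helper9

/-! Going down for the support of a finite module flat over the base. -/

namespace Groth.Agent.Lib.GoingDownSupp

open TensorProduct

/-- `N / pN` is torsion free over `R / p` when `N` is flat over `R`. -/
lemma mem_smul_top_of_smul_mem {R : Type*} [CommRing R] {N : Type*} [AddCommGroup N] [Module R N]
    [Module.Flat R N] (p : Ideal R) [p.IsPrime] {r : R} (hr : r ∉ p) {x : N}
    (h : r • x ∈ p • (⊤ : Submodule R N)) : x ∈ p • (⊤ : Submodule R N) := by
  have hinj : Function.Injective (LinearMap.lsmul R (R ⧸ p) r) := by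
    intro a b hab
    simp only [LinearMap.lsmul_apply] at hab
    obtain ⟨a, rfl⟩ := Ideal.Quotient.mk_surjective a
    obtain ⟨b, rfl⟩ := Ideal.Quotient.mk_surjective b
    rw [← sub_eq_zero, ← smul_sub, ← map_sub, Algebra.smul_def, Ideal.Quotient.algebraMap_eq,
      ← map_mul, Ideal.Quotient.eq_zero_iff_mem] at hab
    rw [← sub_eq_zero, ← map_sub, Ideal.Quotient.eq_zero_iff_mem]
    exact (Ideal.IsPrime.mem_or_mem ‹_› hab).resolve_left hr
  have h2 := Module.Flat.rTensor_preserves_injective_linearMap (M := N) _ hinj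
  rw [← Groth.Agent.Lib.NakayamaBC_helper9.one_tmul_eq_zero_iff] at h ⊢
  apply h2
  rw [map_zero, LinearMap.rTensor_tmul, LinearMap.lsmul_apply, ← h, TensorProduct.smul_tmul]

theorem exists_prime {R S : Type*} [CommRing R] [CommRing S] [Algebra R S] (N : Type*)
    [AddCommGroup N] [Module S N] [Module R N] [IsScalarTower R S N] [Module.Finite S N]
    [Module.Flat R N] (p p' : Ideal R) [p.IsPrime] [p'.IsPrime] (hle : p ≤ p')
    (q' : PrimeSpectrum S) (hq' : q' ∈ Module.support S N) (hover : q'.asIdeal.under R = p') :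
    ∃ q : PrimeSpectrum S, q ≤ q' ∧ q ∈ Module.support S N ∧ q.asIdeal.under R = p := by
  -- `q'` is in the support of `N / p' N`
  have hsupp : q' ∈ Module.support S (N ⧸ ((p'.map (algebraMap R S)) • ⊤ : Submodule S N)) := by
    rw [Module.support_quotient]
    refine ⟨hq', ?_⟩
    rw [PrimeSpectrum.mem_zeroLocus, SetLike.coe_subset_coe, Ideal.map_le_iff_le_comap, ← hover]
  -- the ideal and the multiplicative set
  set I : Ideal S := p.map (algebraMap R S) ⊔ Module.annihilator S N with hI
  set W : Submonoid S := p.primeCompl.map (algebraMap R S) ⊔ q'.asIdeal.primeCompl with hW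
  have hdisj : Disjoint (I : Set S) W := by
    rw [Set.disjoint_left]
    intro z hzI hzW
    obtain ⟨y, hy, s, hs, rfl⟩ := Submonoid.mem_sup.mp hzW
    obtain ⟨r, hr, rfl⟩ := hy
    obtain ⟨a, ha, b, hb, hab⟩ := Submodule.mem_sup.mp hzI
    -- `r s N ⊆ p N`
    have h1 : ∀ x : N, r • (s • x) ∈ p • (⊤ : Submodule R N) := by
      intro x
      have h2 : r • (s • x) = a • x := by
        rw [← algebraMap_smul S r (s • x), smul_smul, ← hab, add_smul,
          Module.mem_annihilator.mp hb x, add_zero]
      rw [h2]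
      have h3 : a • x ∈ (p.map (algebraMap R S)) • (⊤ : Submodule S N) :=
        Submodule.smul_mem_smul ha trivial
      have h4 := Ideal.smul_restrictScalars p (⊤ : Submodule S N)
      rw [Submodule.restrictScalars_top] at h4
      rw [← h4]
      exact h3
    have h5 : ∀ x : N, s • x ∈ p • (⊤ : Submodule R N) := fun x =>
      mem_smul_top_of_smul_mem p hr (h1 x)
    -- `s` kills `N / p' N`
    have h6 : s ∈ Module.annihilator S (N ⧸ ((p'.map (algebraMap R S)) • ⊤ : Submodule S N)) := by
      rw [Module.mem_annihilator]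
      intro y
      obtain ⟨x, rfl⟩ := Submodule.Quotient.mk_surjective _ y
      rw [← Submodule.Quotient.mk_smul, Submodule.Quotient.mk_eq_zero]
      have h7 := Ideal.smul_restrictScalars p' (⊤ : Submodule S N)
      rw [Submodule.restrictScalars_top] at h7
      have h8 : s • x ∈ p' • (⊤ : Submodule R N) := Submodule.smul_mono_left hle (h5 x)
      rw [← h7] at h8
      exact h8
    exact hs (Module.annihilator_le_of_mem_support hsupp h6)
  obtain ⟨Q, hQ, hIQ, hQW⟩ := Ideal.exists_le_prime_disjoint I W hdisj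
  refine ⟨⟨Q, hQ⟩, ?_, ?_, ?_⟩
  · intro z hz
    by_contra hzq
    exact Set.disjoint_left.mp hQW hz (Submonoid.mem_sup_right hzq)
  · rw [Module.mem_support_iff_of_finite]
    exact le_sup_right.trans hIQ
  · apply le_antisymm
    · intro r hr
      by_contra hrp
      exact Set.disjoint_left.mp hQW (Ideal.mem_comap.mp hr)
        (Submonoid.mem_sup_left ⟨r, hrp, rfl⟩)
    · intro r hr
      exact Ideal.mem_comap.mpr (hIQ (Submodule.mem_sup_left (Ideal.mem_map_of_mem _ hr)))

end Groth.Agent.Lib.GoingDownSupp
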