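import Mathlib.Topology.NoetherianSpace
import Mathlib.Topology.LocallyClosed
import Mathlib.Topology.Sets.Closeds
import Mathlib.Data.Fintype.Sum
import Mathlib.Data.Fintype.Option
import Mathlib.Data.Finite.Sum
import Mathlib.Data.Finite.Prod

/-!
# Good stratifications of Noetherian spaces (lead)
-/

universe u

namespace Groth.Agent.Lib.GoodStrat_lead

open Set Topology TopologicalSpace

variable {X : Type u} [TopologicalSpace X]

/-- A nonempty set covered by finitely many locally closed sets has a nonempty relatively open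
subset contained in one of them. -/
theorem exists_open_inter_subset_of_finite_cover (n : ℕ) :
    ∀ (P : Fin n → Set X), (∀ k, IsLocallyClosed (P k)) → ∀ A : Set X, A.Nonempty →
      A ⊆ ⋃ k, P k → ∃ (k : Fin n) (W : Set X), IsOpen W ∧ (W ∩ A).Nonempty ∧ W ∩ A ⊆ P k := by
  induction n with
  | zero =>
    intro P _ A hA hcov
    obtain ⟨x, hx⟩ := hA
    obtain ⟨k, -⟩ := mem_iUnion.1 (hcov hx)
    exact k.elim0
  | succ n ih =>
    intro P hP A hA hcov
    obtain ⟨O, C, hO, hC, hPn⟩ := hP (Fin.last n)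
    by_cases hsub : A ⊆ closure (P (Fin.last n))
    · by_cases hAO : (O ∩ A).Nonempty
      · refine ⟨Fin.last n, O, hO, hAO, ?_⟩
        rintro x ⟨hxO, hxA⟩
        rw [hPn]
        refine ⟨hxO, ?_⟩
        have : closure (P (Fin.last n)) ⊆ C := by
          rw [hPn]; exact closure_minimal inter_subset_right hC
        exact this (hsub hxA)
      · have hcov' : A ⊆ ⋃ k : Fin n, P (Fin.castSucc k) := by
          intro x hx
          obtain ⟨k, hk⟩ := mem_iUnion.1 (hcov hx)
          induction k using Fin.lastCases with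
          | last =>
            exfalso
            rw [hPn] at hk
            exact hAO ⟨x, hk.1, hx⟩
          | cast k => exact mem_iUnion.2 ⟨k, hk⟩
        obtain ⟨k, W, hW, hne, hWP⟩ :=
          ih (fun k => P (Fin.castSucc k)) (fun k => hP _) A hA hcov'
        exact ⟨Fin.castSucc k, W, hW, hne, hWP⟩
    · rw [not_subset] at hsub
      obtain ⟨a, haA, hacl⟩ := hsub
      set W1 : Set X := (closure (P (Fin.last n)))ᶜ with hW1
      have hW1o : IsOpen W1 := isClosed_closure.isOpen_compl
      have hcov' : W1 ∩ A ⊆ ⋃ k : Fin n, P (Fin.castSucc k) := by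
        rintro x ⟨hxW, hxA⟩
        obtain ⟨k, hk⟩ := mem_iUnion.1 (hcov hxA)
        induction k using Fin.lastCases with
        | last => exact absurd (subset_closure hk) hxW
        | cast k => exact mem_iUnion.2 ⟨k, hk⟩
      obtain ⟨k, W, hW, hne, hWP⟩ :=
        ih (fun k => P (Fin.castSucc k)) (fun k => hP _) (W1 ∩ A) ⟨a, hacl, haA⟩ hcov'
      refine ⟨Fin.castSucc k, W ∩ W1, hW.inter hW1o, ?_, ?_⟩
      · obtain ⟨x, hxW, hxW1, hxA⟩ := hne
        exact ⟨x, ⟨hxW, hxW1⟩, hxA⟩
      · rintro x ⟨⟨hxW, hxW1⟩, hxA⟩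
        exact hWP ⟨hxW, hxW1, hxA⟩

/-- Version for arbitrary finite index types. -/
theorem exists_open_inter_subset_of_finite_cover' {ι : Type} [Finite ι] (P : ι → Set X)
    (hP : ∀ k, IsLocallyClosed (P k)) (A : Set X) (hA : A.Nonempty) (hcov : A ⊆ ⋃ k, P k) :
    ∃ (k : ι) (W : Set X), IsOpen W ∧ (W ∩ A).Nonempty ∧ W ∩ A ⊆ P k := by
  obtain ⟨n, ⟨e⟩⟩ := Finite.exists_equiv_fin ι
  have hcov' : A ⊆ ⋃ k : Fin n, P (e.symm k) := by
    intro x hx
    obtain ⟨k, hk⟩ := mem_iUnion.1 (hcov hx)
    exact mem_iUnion.2 ⟨e k, by simpa using hk⟩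
  obtain ⟨k, W, hW, hne, hWP⟩ :=
    exists_open_inter_subset_of_finite_cover n (fun k => P (e.symm k)) (fun k => hP _) A hA hcov'
  exact ⟨e.symm k, W, hW, hne, hWP⟩

/-- The property proved by Noetherian induction. -/
def HasGoodStrat (Z : Set X) : Prop :=
  ∀ (ι : Type) [Finite ι] (P : ι → Set X), (∀ k, IsLocallyClosed (P k)) → (⋃ k, P k = Z) →
    (∀ k k', k ≠ k' → Disjoint (P k) (P k')) →
    ∃ (κ : Type) (_ : Finite κ) (S : κ → Set X), (∀ i, IsLocallyClosed (S i)) ∧
      (⋃ i, S i = Z) ∧ (∀ i j, i ≠ j → Disjoint (S i) (S j)) ∧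
      (∀ i j, (S i ∩ closure (S j)).Nonempty → S i ⊆ closure (S j)) ∧
      (∀ i k, (S i ∩ P k).Nonempty → S i ⊆ P k)

theorem hasGoodStrat_step {Z : Set X} (hZ : IsClosed Z)
    (ih : ∀ Z' : Set X, IsClosed Z' → Z' ⊂ Z → HasGoodStrat Z') : HasGoodStrat Z := by
  classical
  intro ι _ P hP hcov hdisj
  by_cases hne : Z.Nonempty
  · obtain ⟨k0, W, hW, hUne, hUP⟩ :=
      exists_open_inter_subset_of_finite_cover' P hP Z hne hcov.ge
    set U : Set X := W ∩ Z with hUdef
    have hZ'cl : IsClosed (Z \ W) := hZ.sdiff hW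
    have hZ'lt : Z \ W ⊂ Z := by
      refine ⟨sdiff_subset, fun h => ?_⟩
      obtain ⟨x, hxW, hxZ⟩ := hUne
      exact (h hxZ).2 hxW
    have hPZ : ∀ k, P k ⊆ Z := fun k => by rw [← hcov]; exact subset_iUnion P k
    let Q : ι × Bool → Set X := fun p =>
      if p.2 then P p.1 ∩ (closure U ∩ Wᶜ) else P p.1 ∩ (closure U)ᶜ
    have hQt : ∀ k, Q (k, true) = P k ∩ (closure U ∩ Wᶜ) := fun k => rfl
    have hQf : ∀ k, Q (k, false) = P k ∩ (closure U)ᶜ := fun k => rfl
    have hQlc : ∀ p, IsLocallyClosed (Q p) := by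
      rintro ⟨k, b⟩
      cases b
      · rw [hQf]
        exact (hP k).inter isClosed_closure.isOpen_compl.isLocallyClosed
      · rw [hQt]
        exact (hP k).inter (isClosed_closure.inter hW.isClosed_compl).isLocallyClosed
    have hQmem : ∀ x ∈ Z \ W, ∀ k, x ∈ P k → x ∈ Q (k, decide (x ∈ closure U)) := by
      intro x hx k hk
      by_cases hxc : x ∈ closure U
      · simp only [hxc, decide_true]
        rw [hQt]; exact ⟨hk, hxc, hx.2⟩
      · simp only [hxc, decide_false]
        rw [hQf]; exact ⟨hk, hxc⟩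
    have hQsub : ∀ p, Q p ⊆ P p.1 := by
      rintro ⟨k, b⟩
      cases b
      · rw [hQf]; exact inter_subset_left
      · rw [hQt]; exact inter_subset_left
    have hQcov : ⋃ p, Q p = Z \ W := by
      apply Subset.antisymm
      · apply iUnion_subset
        rintro ⟨k, b⟩ x hx
        cases b
        · rw [hQf] at hx
          refine ⟨hPZ k hx.1, fun hxW => hx.2 (subset_closure ⟨hxW, hPZ k hx.1⟩)⟩
        · rw [hQt] at hx
          exact ⟨hPZ k hx.1, hx.2.2⟩
      · intro x hx
        have hxZ : x ∈ ⋃ k, P k := by rw [hcov]; exact hx.1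
        obtain ⟨k, hk⟩ := mem_iUnion.1 hxZ
        exact mem_iUnion.2 ⟨_, hQmem x hx k hk⟩
    have hQdisj : ∀ p p', p ≠ p' → Disjoint (Q p) (Q p') := by
      rintro ⟨k, b⟩ ⟨k', b'⟩ hne
      by_cases hk : k = k'
      · subst hk
        have hb : b ≠ b' := fun h => hne (by rw [h])
        rw [Set.disjoint_left]
        intro x hx hx'
        cases b <;> cases b'
        · exact hb rfl
        · rw [hQf] at hx; rw [hQt] at hx'; exact hx.2 hx'.2.1
        · rw [hQt] at hx; rw [hQf] at hx'; exact hx'.2 hx.2.1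
        · exact hb rfl
      · exact (hdisj k k' hk).mono (hQsub _) (hQsub _)
    obtain ⟨κ', hκ', T, hTlc, hTcov, hTdisj, hTgood, hTref⟩ :=
      ih (Z \ W) hZ'cl hZ'lt (ι × Bool) Q hQlc hQcov hQdisj
    have hTsub : ∀ α, T α ⊆ Z \ W := fun α => by rw [← hTcov]; exact subset_iUnion T α
    have hTclosure : ∀ α, closure (T α) ⊆ Z \ W := fun α => closure_minimal (hTsub α) hZ'cl
    refine ⟨Option κ', inferInstance, fun o => o.elim U T, ?_, ?_, ?_, ?_, ?_⟩
    · rintro (_ | α)
      · exact hW.isLocallyClosed.inter hZ.isLocallyClosed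
      · exact hTlc α
    · rw [iUnion_option]
      change U ∪ ⋃ α, T α = Z
      rw [hTcov]
      ext x
      constructor
      · rintro (hx | hx)
        · exact hx.2
        · exact hx.1
      · intro hx
        by_cases hxW : x ∈ W
        · exact Or.inl ⟨hxW, hx⟩
        · exact Or.inr ⟨hx, hxW⟩
    · rintro (_ | α) (_ | β) hne
      · exact absurd rfl hne
      · rw [Set.disjoint_left]
        intro x hx hx'
        exact (hTsub β hx').2 hx.1
      · rw [Set.disjoint_left]
        intro x hx hx'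
        exact (hTsub α hx).2 hx'.1
      · exact hTdisj α β (fun h => hne (by rw [h]))
    · rintro (_ | α) (_ | β) hne
      · exact subset_closure
      · exfalso
        obtain ⟨x, hxU, hxcl⟩ := hne
        exact (hTclosure β hxcl).2 hxU.1
      · obtain ⟨x, hxT, hxcl⟩ := hne
        change T α ⊆ closure U
        change x ∈ closure U at hxcl
        change x ∈ T α at hxT
        have hxZ' := hTsub α hxT
        have hxZ : x ∈ ⋃ k, P k := by rw [hcov]; exact hxZ'.1
        obtain ⟨k, hk⟩ := mem_iUnion.1 hxZ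
        have hxQ := hQmem x hxZ' k hk
        rw [decide_eq_true hxcl] at hxQ
        have := hTref α (k, true) ⟨x, hxT, hxQ⟩
        rw [hQt] at this
        exact fun y hy => (this hy).2.1
      · exact hTgood α β hne
    · rintro (_ | α) k hne
      · obtain ⟨x, hxU, hxP⟩ := hne
        change U ⊆ P k
        have hk : k = k0 := by
          by_contra hk
          exact (Set.disjoint_left.1 (hdisj k k0 hk)) hxP (hUP hxU)
        rw [hk]; exact hUP
      · obtain ⟨x, hxT, hxP⟩ := hne
        change T α ⊆ P k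
        have hxZ' := hTsub α hxT
        have hxQ := hQmem x hxZ' k hxP
        exact (hTref α _ ⟨x, hxT, hxQ⟩).trans (hQsub _)
  · rw [not_nonempty_iff_eq_empty] at hne
    subst hne
    refine ⟨Empty, inferInstance, fun e => e.elim, fun e => e.elim, ?_, fun e => e.elim,
      fun e => e.elim, fun e => e.elim⟩
    simp

theorem hasGoodStrat_of_isClosed [NoetherianSpace X] (Z : Set X) (hZ : IsClosed Z) :
    HasGoodStrat Z := by
  suffices h : ∀ Z : Closeds X, HasGoodStrat (Z : Set X) from h ⟨Z, hZ⟩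
  intro Z
  induction Z using WellFoundedLT.induction with
  | ind Z ih =>
  exact hasGoodStrat_step Z.isClosed fun Z' hZ' hlt => ih ⟨Z', hZ'⟩ hlt

end Groth.Agent.Lib.GoodStrat_lead
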