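import Groth.Agent.Lib.KFlatGen2_helper2
import Groth.Agent.Lib.TruncTower_helper2

/-!
# Complexes `N` with `Tot F(L, N)` acyclic for a fixed complex `L` (helper2)

If `F(L^•, M)` is acyclic for every object `M`, then `Tot F(L, N)` is acyclic for every complex `N`.
-/

set_option autoImplicit false
universe v u
open CategoryTheory Limits ZeroObject

namespace Groth.Agent.Lib.GoodTensor

open Groth.Agent.Lib.BifCone Groth.Agent.Lib.BrutalTrunc Groth.Agent.Lib.KFlatGen

variable {𝒜 : Type u} [Category.{v} 𝒜] [Abelian 𝒜]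
  (F : 𝒜 ⥤ 𝒜 ⥤ 𝒜) [F.Additive] [∀ X, (F.obj X).Additive]
  [∀ (K₁ K₂ : CochainComplex 𝒜 ℤ), CochainComplex.HasMapBifunctor K₁ K₂ F]
  (L : CochainComplex 𝒜 ℤ)

/-- `Tot F(L, N)` is acyclic -/
def Good (N : CochainComplex 𝒜 ℤ) : Prop :=
  (HomologicalComplex.mapBifunctor L N F (ComplexShape.up ℤ)).Acyclic

variable {F L}

theorem good_of_isZero_X (N : CochainComplex 𝒜 ℤ) (hN : ∀ n, IsZero (N.X n)) : Good F L N := by
  have hN' : IsZero N := by
    rw [IsZero.iff_id_eq_zero]
    refine HomologicalComplex.hom_ext _ _ (fun n => ?_)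
    exact (hN n).eq_of_src _ _
  exact acyclic_of_isZero (Functor.map_isZero (F.map₂CochainComplex.obj L) hN')

/-- a short exact sequence with an end term zero stays short exact under an additive functor -/
lemma shortExact_map_of_isZero {B : Type*} [Category B] [Abelian B] (S : ShortComplex 𝒜)
    (hS : S.ShortExact) (h : IsZero S.X₁ ∨ IsZero S.X₃) (G : 𝒜 ⥤ B) [G.Additive] :
    (S.map G).ShortExact := by
  haveI := hS.mono_f
  haveI := hS.epi_g
  rcases h with h | h
  · have hf : S.f = 0 := h.eq_of_src _ _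
    haveI : Mono S.g := (S.exact_iff_mono hf).1 hS.exact
    haveI : IsIso S.g := isIso_of_mono_of_epi _
    have hZ : IsZero (S.map G).X₁ := G.map_isZero h
    haveI : IsIso (S.map G).g := inferInstanceAs (IsIso (G.map S.g))
    exact
      { exact := ((S.map G).exact_iff_mono (hZ.eq_of_src _ _)).2 inferInstance
        mono_f := hZ.mono _
        epi_g := inferInstance }
  · have hg : S.g = 0 := h.eq_of_tgt _ _
    haveI : Epi S.f := (S.exact_iff_epi hg).1 hS.exact
    haveI : IsIso S.f := isIso_of_mono_of_epi _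
    have hZ : IsZero (S.map G).X₃ := G.map_isZero h
    haveI : IsIso (S.map G).f := inferInstanceAs (IsIso (G.map S.f))
    exact
      { exact := ((S.map G).exact_iff_epi (hZ.eq_of_tgt _ _)).2 inferInstance
        mono_f := inferInstance
        epi_g := hZ.epi _ }

section SES

variable [HasCoproducts.{0} 𝒜]
  [∀ n : ℤ, HasExactColimitsOfShape (Discrete (BifSES.Idx n)) 𝒜]

theorem good_shortExact (S : ShortComplex (CochainComplex 𝒜 ℤ)) (hS : S.ShortExact)
    (hz : ∀ q : ℤ, IsZero (S.X₁.X q) ∨ IsZero (S.X₃.X q))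
    (h1 : Good F L S.X₁) (h3 : Good F L S.X₃) : Good F L S.X₂ := by
  have key : (S.map (F.map₂CochainComplex.obj L)).ShortExact := by
    apply BifSES.shortExact_mapBifunctor₂ F L S
    intro p q
    exact shortExact_map_of_isZero _
      ((HomologicalComplex.shortExact_iff_degreewise_shortExact S).1 hS q) (hz q) (F.obj (L.X p))
  intro i
  exact key.exactAt_X₂ i (h1 i) (h3 i)

omit [HasCoproducts.{0} 𝒜] [∀ n : ℤ, HasExactColimitsOfShape (Discrete (BifSES.Idx n)) 𝒜] in
/-- an object placed in a single degree -/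
theorem good_single (M : 𝒜) (a : ℤ)
    (h : (((F.flip.obj M).mapHomologicalComplex (ComplexShape.up ℤ)).obj L).Acyclic) :
    Good F L ((HomologicalComplex.single 𝒜 (ComplexShape.up ℤ) a).obj M) := by
  intro n
  rw [HomologicalComplex.exactAt_iff' _ (n - 1) n (n + 1) (by simp) (by simp)]
  have hLe' : ((L.sc' (n - a - 1) (n - a) (n - a + 1)).map (F.flip.obj M)).Exact :=
    (HomologicalComplex.exactAt_iff' _ (n - a - 1) (n - a) (n - a + 1) (by simp) (by simp)).1
      (h (n - a))
  have h1 : n - a - 1 + a = n - 1 := by omega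
  have h2 : n - a + a = n := by omega
  have h3 : n - a + 1 + a = n + 1 := by omega
  haveI := BifSingle.isIso_θ F L M a _ _ h1
  haveI := BifSingle.isIso_θ F L M a _ _ h2
  haveI := BifSingle.isIso_θ F L M a _ _ h3
  let e1 := asIso (BifSingle.θ F L M a (n - a - 1) (n - 1) h1)
  let e2 := asIso (BifSingle.θ F L M a (n - a) n h2)
  let e3 := asIso (BifSingle.θ F L M a (n - a + 1) (n + 1) h3)
  refine ShortComplex.exact_of_iso (ShortComplex.isoMk e1 e2 e3 ?_ ?_) hLe'
  · exact BifSingle.θ_d F L M a (n - a - 1) (n - 1) (n - a) n h1 (by omega) (by omega)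
  · exact BifSingle.θ_d F L M a (n - a) n (n - a + 1) (n + 1) h2 (by omega) (by omega)

/-- brutal truncations of a bounded above complex -/
theorem good_sigmaGE (N : CochainComplex 𝒜 ℤ) (b : ℤ) [N.IsStrictlyLE b]
    (hs : ∀ n : ℤ, Good F L ((HomologicalComplex.single 𝒜 (ComplexShape.up ℤ) n).obj (N.X n)))
    (m : ℤ) : Good F L (sigmaGE N m) := by
  suffices H : ∀ (k : ℕ) (m : ℤ), b + 1 - m ≤ k → Good F L (sigmaGE N m) from
    H (b + 1 - m).toNat m (by omega)
  intro k
  induction k with
  | zero =>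
    intro m hm
    apply good_of_isZero_X
    intro n
    by_cases hn : m ≤ n
    · exact isZero_sigmaGE_X' N m n (N.isZero_of_isStrictlyLE b n (by omega))
    · exact isZero_sigmaGE_X N hn
  | succ k ih =>
    intro m hm
    by_cases hm' : b + 1 - m ≤ k
    · exact ih m hm'
    · have h1 : Good F L (sigmaGE N (m + 1)) := ih (m + 1) (by omega)
      have hS := sc_shortExact N m (m + 1) rfl
      refine good_shortExact (sc N m (m + 1) rfl) hS ?_ h1 (hs m)
      intro q
      by_cases hq : q = m
      · subst hq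
        left
        exact isZero_sigmaGE_X N (by omega)
      · right
        exact HomologicalComplex.isZero_single_obj_X (ComplexShape.up ℤ) _ _ _ hq

end SES

section Colim

variable [HasColimitsOfShape ℕ 𝒜] [HasExactColimitsOfShape ℕ 𝒜]
  [∀ X : 𝒜, PreservesColimitsOfShape ℕ (F.obj X)]

theorem good_of_isColimit (D : ℕ ⥤ CochainComplex 𝒜 ℤ) (hD : ∀ j, Good F L (D.obj j))
    {c : Cocone D} (hc : IsColimit c) : Good F L c.pt := by
  haveI := BifColim.preservesColimitsOfShape_map₂_obj F ℕ L
  exact BifColim.acyclic_of_isColimit (D ⋙ F.map₂CochainComplex.obj L)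
    (fun j => hD j) (isColimitOfPreserves (F.map₂CochainComplex.obj L) hc)

variable [HasCoproducts.{0} 𝒜]
  [∀ n : ℤ, HasExactColimitsOfShape (Discrete (BifSES.Idx n)) 𝒜]

theorem good_of_isStrictlyLE (N : CochainComplex 𝒜 ℤ) (b : ℤ) [N.IsStrictlyLE b]
    (hs : ∀ n : ℤ, Good F L ((HomologicalComplex.single 𝒜 (ComplexShape.up ℤ) n).obj (N.X n))) :
    Good F L N :=
  good_of_isColimit (tower N b) (fun k => good_sigmaGE N b hs (b - k))
    (c := towerCocone N b) (isColimitTowerCocone N b)

/-- **if `F(L^•, M)` is acyclic for every object `M`, then `Tot F(L, N)` is acyclic for every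
complex `N`** -/
theorem good_all
    (hs : ∀ (M : 𝒜),
      (((F.flip.obj M).mapHomologicalComplex (ComplexShape.up ℤ)).obj L).Acyclic)
    (N : CochainComplex 𝒜 ℤ) : Good F L N := by
  refine good_of_isColimit (Groth.Agent.Lib.TruncTower.tower N) (fun k => ?_)
    (c := Groth.Agent.Lib.TruncTower.towerCocone N)
    (Groth.Agent.Lib.TruncTower.isColimitTowerCocone N)
  haveI : ((Groth.Agent.Lib.TruncTower.tower N).obj k).IsStrictlyLE ((k : ℤ) + 1) :=
    inferInstanceAs ((N.truncLE ((k : ℤ) + 1)).IsStrictlyLE ((k : ℤ) + 1))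
  exact good_of_isStrictlyLE _ ((k : ℤ) + 1) (fun n => good_single _ n (hs _))

end Colim

end Groth.Agent.Lib.GoodTensor
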