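import Mathlib
import Groth.Agent.Lib.GorBC2_helper2
import Groth.Agent.Lib.PolyDual3_helper2
import Groth.Agent.Lib.GorField2_helper9

/-!
# Base change of dualizing complexes along field extensions (helper2)

* `ringKrullDim_lt_top_of_finiteType'`: finite type algebras over a Noetherian ring of finite Krull
  dimension have finite Krull dimension;
* `isDualizing_bcD_tensor_field`: `ω ⊗_A (A ⊗_k K)` is dualizing for `A` of finite type over `k`;
* `S8932_main`.
-/

set_option autoImplicit false
universe u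
open CategoryTheory CategoryTheory.Limits DerivedCategory
open scoped TensorProduct

attribute [local instance] HasDerivedCategory.standard

namespace Groth.Agent.Lib.GorBC

open Groth.Agent.Lib.DMod_helper6 DRing Groth.Agent.Lib.FlatHom Groth.Agent.ExtendScalarsLib
open Groth.Agent.Lib.FormalGor Groth.Agent.Lib.PolyDual

/-- finite Krull dimension of finite type algebras over a Noetherian ring of finite Krull dimension -/
theorem ringKrullDim_lt_top_of_finiteType' (A B : Type u) [CommRing A] [CommRing B] [Algebra A B]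
    [IsNoetherianRing A] [Algebra.FiniteType A B] (h : ringKrullDim A < ⊤) :
    ringKrullDim B < ⊤ := by
  obtain ⟨n, f, hf⟩ := Algebra.FiniteType.iff_quotient_mvPolynomial''.1
    (inferInstance : Algebra.FiniteType A B)
  obtain ⟨D₀, hD₀⟩ := exists_nat_ge_of_lt_top h
  have h1 : ringKrullDim B ≤ ringKrullDim (MvPolynomial (Fin n) A) :=
    ringKrullDim_le_of_surjective f.toRingHom hf
  have h2 : ringKrullDim (MvPolynomial (Fin n) A) = ringKrullDim A + n := by
    rw [MvPolynomial.ringKrullDim_of_isNoetherianRing, Nat.card_fin]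
  have h3 : ringKrullDim A + (n : WithBot ℕ∞) ≤ ((D₀ + n : ℕ) : WithBot ℕ∞) := by
    push_cast
    exact add_le_add hD₀ le_rfl
  refine lt_of_le_of_lt (h1.trans (h2 ▸ h3)) ?_
  exact WithBot.coe_lt_coe.2 (ENat.natCast_lt_top _)

/-- `ω ⊗_A (A ⊗_k K)` is dualizing for `A` of finite type over the field `k` -/
theorem isDualizing_bcD_tensor_field (k K : Type u) [Field k] [Field K] [Algebra k K] (A : Type u)
    [CommRing A] [Algebra k A] [Algebra.FiniteType k A] [IsNoetherianRing A]
    [IsNoetherianRing (A ⊗[k] K)] (ω : Dual.D A) (hω : Dual.IsDualizing A ω) :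
    Dual.IsDualizing (A ⊗[k] K) ((bcD A (A ⊗[k] K)).obj ω) := by
  have hdimK : ringKrullDim K < ⊤ := by
    rw [ringKrullDim_eq_zero_of_field]
    exact WithBot.coe_lt_coe.2 (by simp)
  haveI : Algebra.FiniteType K (K ⊗[k] A) := inferInstance
  have hdim1 : ringKrullDim (K ⊗[k] A) < ⊤ := ringKrullDim_lt_top_of_finiteType' K _ hdimK
  have hdim : ringKrullDim (A ⊗[k] K) < ⊤ := by
    rw [ringKrullDim_eq_of_ringEquiv (Algebra.TensorProduct.comm k A K).toRingEquiv]
    exact hdim1
  refine isDualizing_bcD_of_gorenstein_fibres A (A ⊗[k] K) ω hω (fun Q hQ => ?_) hdim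
  haveI : Algebra.EssFiniteType k A := inferInstance
  haveI := Groth.Agent.GorFlat9.isGorRing_fiber_tensor_left k K A
    (Q.comap (algebraMap A (A ⊗[k] K)))
  exact Groth.Agent.GorFlat9.isGor_fibLocRing_of_fiber A (A ⊗[k] K) Q

/-- S8932. -/
theorem S8932_main (k K : Type u) [Field k] [Field K] [Algebra k K] (A : Type u) [CommRing A]
    [Algebra k A] [Algebra.FiniteType k A]
    [DRing.HasLBaseChange (Algebra.TensorProduct.includeRight : A →ₐ[k] K ⊗[k] A).toRingHom]
    (ω : Dual.D A) (hω : Dual.IsDualizing A ω) :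
    Dual.IsDualizing (K ⊗[k] A)
      ((DRing.LBaseChange
        (Algebra.TensorProduct.includeRight : A →ₐ[k] K ⊗[k] A).toRingHom).obj ω) := by
  haveI : IsNoetherianRing A := Algebra.FiniteType.isNoetherianRing k A
  haveI : Algebra.FiniteType K (K ⊗[k] A) := inferInstance
  haveI hN : IsNoetherianRing (K ⊗[k] A) := Algebra.FiniteType.isNoetherianRing K _
  haveI : IsNoetherianRing (A ⊗[k] K) :=
    isNoetherianRing_of_ringEquiv _ (Algebra.TensorProduct.comm k K A).toRingEquiv
  have h1 := isDualizing_bcD_tensor_field k K A ω hω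
  letI : Algebra A (K ⊗[k] A) :=
    (Algebra.TensorProduct.includeRight : A →ₐ[k] K ⊗[k] A).toRingHom.toAlgebra
  let e : (A ⊗[k] K) ≃ₐ[A] (K ⊗[k] A) :=
    AlgEquiv.ofRingEquiv (f := (Algebra.TensorProduct.comm k A K).toRingEquiv) (fun a => by
      show (Algebra.TensorProduct.comm k A K) (algebraMap A (A ⊗[k] K) a) = (1 : K) ⊗ₜ[k] a
      rw [Algebra.TensorProduct.algebraMap_apply]
      exact Algebra.TensorProduct.comm_tmul _ _ _)
  haveI : Module.Flat A (K ⊗[k] A) := Module.Flat.of_linearEquiv e.symm.toLinearEquiv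
  have h2 : Dual.IsDualizing (K ⊗[k] A) ((bcD A (K ⊗[k] A)).obj ω) :=
    isDualizing_bcD_of_algEquiv e ω h1
  haveI : HasLBaseChange (algebraMap A (K ⊗[k] A)) :=
    ‹DRing.HasLBaseChange (Algebra.TensorProduct.includeRight : A →ₐ[k] K ⊗[k] A).toRingHom›
  obtain ⟨c⟩ := nonempty_lBaseChange_iso_bcD (A := A) (B := K ⊗[k] A)
  exact isDualizing_of_iso (c.app ω).symm h2

end Groth.Agent.Lib.GorBC
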