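import Mathlib
import Groth.Prelude.Def_CAlg
import Groth.Agent.Lib.GorFlat_helper9
import Groth.Agent.Lib.GorFlat3_helper9
import Groth.Agent.S0342

/-!
# Truncated polynomial extensions `A[X]/(X^N)` (helper5)

For a local ring `A` and `N ≥ 1` the ring `A[X]/(X^N)` is local, finite free over `A`, and
Gorenstein when `A` is.  Iterating, every local homomorphism from a Gorenstein local ring can be
enlarged to hit finitely many given nilpotent elements.
-/

set_option autoImplicit false
set_option linter.style.haveILetI false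
universe u

namespace Groth.Agent.Lib.GorFact

open Polynomial IsLocalRing

section Trunc

variable (A : Type u) [CommRing A] (N : ℕ)

/-- the polynomial `X^N` -/
noncomputable abbrev xN : A[X] := (X : A[X]) ^ N

theorem monic_xN : (xN A N).Monic := monic_X_pow N

/-- evaluation at zero on `A[X]/(X^N)` -/
noncomputable def ev0 (hN : 0 < N) : AdjoinRoot (xN A N) →+* A :=
  AdjoinRoot.lift (RingHom.id A) 0 (by
    rw [xN, eval₂_pow, eval₂_X, zero_pow hN.ne'])

theorem ev0_of (hN : 0 < N) (a : A) : ev0 A N hN (AdjoinRoot.of _ a) = a := by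
  rw [ev0, AdjoinRoot.lift_of]
  rfl

theorem ev0_mk (hN : 0 < N) (g : A[X]) : ev0 A N hN (AdjoinRoot.mk _ g) = g.coeff 0 := by
  rw [ev0, AdjoinRoot.lift_mk, coeff_zero_eq_eval_zero]
  rfl

theorem root_pow : (AdjoinRoot.root (xN A N)) ^ N = 0 := by
  rw [← AdjoinRoot.mk_X, ← map_pow]
  exact AdjoinRoot.mk_self

theorem mk_eq (g : A[X]) :
    AdjoinRoot.mk (xN A N) g =
      AdjoinRoot.mk (xN A N) g.divX * AdjoinRoot.root (xN A N) + AdjoinRoot.of _ (g.coeff 0) := by
  conv_lhs => rw [← divX_mul_X_add g]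
  rw [map_add, map_mul, AdjoinRoot.mk_X, AdjoinRoot.mk_C]

theorem isUnit_mk_of_coeff (g : A[X]) (h : IsUnit (g.coeff 0)) :
    IsUnit (AdjoinRoot.mk (xN A N) g) := by
  rw [mk_eq]
  refine IsNilpotent.isUnit_add_right_of_commute ?_ (h.map (AdjoinRoot.of _)) (Commute.all _ _)
  exact (Commute.all _ _).isNilpotent_mul_left
    (⟨N, root_pow A N⟩ : IsNilpotent (AdjoinRoot.root (xN A N)))

theorem isLocalHom_ev0 (hN : 0 < N) : IsLocalHom (ev0 A N hN) := by
  constructor
  intro b hb
  obtain ⟨g, rfl⟩ := AdjoinRoot.mk_surjective b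
  rw [ev0_mk] at hb
  exact isUnit_mk_of_coeff A N g hb

theorem isLocalRing_trunc [IsLocalRing A] (hN : 0 < N) : IsLocalRing (AdjoinRoot (xN A N)) := by
  haveI := isLocalHom_ev0 A N hN
  exact RingHom.domain_isLocalRing (ev0 A N hN)

theorem isLocalHom_of [IsLocalRing A] (hN : 0 < N) :
    IsLocalHom (AdjoinRoot.of (xN A N)) := by
  constructor
  intro a ha
  have := ha.map (ev0 A N hN)
  rwa [ev0_of] at this

end Trunc

section Field

variable (K : Type u) [Field K] (N : ℕ)

theorem ringKrullDim_eq_zero_of_artinian (B : Type u) [CommRing B] [IsArtinianRing B]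
    [Nontrivial B] : ringKrullDim B = 0 :=
  ringKrullDimZero_iff_ringKrullDim_eq_zero.1 inferInstance

/-- `K[X]/(X^N)` is a Gorenstein (Artinian) local ring. -/
theorem gorenstein_trunc_field (hN : 0 < N) :
    ∃ (_ : IsLocalRing (AdjoinRoot (xN K N))),
      LocCoh.IsGorensteinLocalRing (AdjoinRoot (xN K N)) := by
  haveI hloc : IsLocalRing (AdjoinRoot (xN K N)) := isLocalRing_trunc K N hN
  refine ⟨hloc, ?_⟩
  haveI : Module.Finite K (AdjoinRoot (xN K N)) := (monic_xN K N).finite_adjoinRoot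
  haveI : IsArtinianRing (AdjoinRoot (xN K N)) := IsArtinianRing.of_finite K _
  haveI : IsNoetherianRing (AdjoinRoot (xN K N)) := inferInstance
  have h0 : ringKrullDim (AdjoinRoot (xN K N)) = 0 := ringKrullDim_eq_zero_of_artinian _
  rw [Groth.Agent.GorFlat9.gorenstein_iff_typeOne _ h0]
  obtain ⟨M, rfl⟩ : ∃ M, N = M + 1 := ⟨N - 1, by omega⟩
  refine ⟨AdjoinRoot.root _ ^ M, ?_, ?_, ?_⟩
  · rw [← AdjoinRoot.mk_X, ← map_pow, Ne, AdjoinRoot.mk_eq_zero]
    intro hdvd
    have := (Polynomial.X_pow_dvd_iff).1 hdvd M (Nat.lt_succ_self M)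
    simp at this
  · intro a ha
    obtain ⟨g, rfl⟩ := AdjoinRoot.mk_surjective a
    have hc : g.coeff 0 = 0 := by
      by_contra hne
      exact ha (isUnit_mk_of_coeff K _ g (isUnit_iff_ne_zero.2 hne))
    rw [← AdjoinRoot.mk_X, ← map_pow, ← map_mul, AdjoinRoot.mk_eq_zero]
    have hg : g = g.divX * X := by
      conv_lhs => rw [← divX_mul_X_add g, hc, C_0, add_zero]
    rw [hg, mul_assoc, ← pow_succ']
    exact Dvd.intro_left _ rfl
  · intro x hx
    obtain ⟨g, rfl⟩ := AdjoinRoot.mk_surjective x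
    have hroot : AdjoinRoot.root (xN K (M + 1)) ∈ maximalIdeal (AdjoinRoot (xN K (M + 1))) := by
      rw [mem_maximalIdeal, mem_nonunits_iff]
      intro hu
      exact hu.not_isNilpotent ⟨M + 1, root_pow K (M + 1)⟩
    have h1 := hx _ hroot
    rw [← AdjoinRoot.mk_X, ← map_mul, AdjoinRoot.mk_eq_zero, xN, pow_succ'] at h1
    have h2 : (X : K[X]) ^ M ∣ g := (mul_dvd_mul_iff_left X_ne_zero).1 h1
    obtain ⟨h, rfl⟩ := h2
    refine ⟨AdjoinRoot.mk _ h, ?_⟩
    rw [map_mul, map_pow, AdjoinRoot.mk_X, mul_comm]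

end Field

section Step

variable (C : Type u) [CommRing C] [IsLocalRing C] (N : ℕ)

/-- `C[X]/(X^N)` is Gorenstein local when `C` is. -/
theorem gorenstein_trunc (hN : 0 < N) (hC : LocCoh.IsGorensteinLocalRing C) :
    ∃ (_ : IsLocalRing (AdjoinRoot (xN C N))),
      LocCoh.IsGorensteinLocalRing (AdjoinRoot (xN C N)) := by
  haveI hloc : IsLocalRing (AdjoinRoot (xN C N)) := isLocalRing_trunc C N hN
  refine ⟨hloc, ?_⟩
  haveI : IsNoetherianRing C := hC.toIsNoetherian
  haveI : Module.Finite C (AdjoinRoot (xN C N)) := (monic_xN C N).finite_adjoinRoot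
  haveI : Module.Free C (AdjoinRoot (xN C N)) := (monic_xN C N).free_adjoinRoot
  haveI : IsNoetherianRing (AdjoinRoot (xN C N)) := IsNoetherianRing.of_finite C _
  haveI : IsLocalHom (algebraMap C (AdjoinRoot (xN C N))) := isLocalHom_of C N hN
  rw [Groth.Agent.GorFlat9.gorenstein_iff C (AdjoinRoot (xN C N))]
  refine ⟨hC, ?_⟩
  letI : Field (C ⧸ maximalIdeal C) := Ideal.Quotient.field _
  obtain ⟨hlocK, hK⟩ := gorenstein_trunc_field (C ⧸ maximalIdeal C) N hN
  have e : EGA4.FibRing C (AdjoinRoot (xN C N)) ≃+* AdjoinRoot (xN (C ⧸ maximalIdeal C) N) :=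
    (AdjoinRoot.quotAdjoinRootEquivQuotPolynomialQuot (maximalIdeal C) (xN C N)).trans
      (Ideal.quotEquivOfEq (by rw [xN, Polynomial.map_pow, Polynomial.map_X]))
  exact (Groth.Agent.GorFlat9.gorenstein_congr e).2 hK

end Step

section Iterate

variable (W : Type u) [CommRing W] (S : Type u) [CommRing S] [Algebra W S]

/-- Enlarging a finite free Gorenstein local `W`-algebra mapping to `S` so that finitely many
given nilpotent elements are hit. -/
theorem exists_good : ∀ (n : ℕ) (C : Type u) [CommRing C] [Algebra W C] [Module.Finite W C]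
    [Module.Free W C] [IsLocalRing C] (_ : LocCoh.IsGorensteinLocalRing C) (g : C →ₐ[W] S)
    (x : Fin n → S) (_ : ∀ i, IsNilpotent (x i)),
    ∃ (C' : Type u) (_ : CommRing C') (_ : Algebra W C') (_ : Module.Finite W C')
      (_ : Module.Free W C') (_ : IsLocalRing C'), LocCoh.IsGorensteinLocalRing C' ∧
        ∃ g' : C' →ₐ[W] S, (∀ i, x i ∈ g'.range) ∧ g.range ≤ g'.range := by
  intro n
  induction n with
  | zero =>
    intro C _ _ _ _ _ hG g x hx
    exact ⟨C, inferInstance, inferInstance, inferInstance, inferInstance, inferInstance, hG, g,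
      fun i => i.elim0, le_rfl⟩
  | succ n ih =>
    intro C _ _ _ _ _ hG g x hx
    obtain ⟨N, hN⟩ := hx 0
    have hN' : x 0 ^ (N + 1) = 0 := by rw [pow_succ, hN, zero_mul]
    obtain ⟨hloc, hG'⟩ := gorenstein_trunc C (N + 1) (Nat.succ_pos N) hG
    haveI := hloc
    haveI : Module.Finite C (AdjoinRoot (xN C (N + 1))) := (monic_xN C _).finite_adjoinRoot
    haveI : Module.Free C (AdjoinRoot (xN C (N + 1))) := (monic_xN C _).free_adjoinRoot
    haveI : Module.Finite W (AdjoinRoot (xN C (N + 1))) := Module.Finite.trans C _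
    haveI : Module.Free W (AdjoinRoot (xN C (N + 1))) := Module.Free.trans (S := C)
    let g₁ : AdjoinRoot (xN C (N + 1)) →ₐ[W] S :=
      AdjoinRoot.liftAlgHom (xN C (N + 1)) g (x 0) (by rw [xN, eval₂_pow, eval₂_X, hN'])
    obtain ⟨C', i1, i2, i3, i4, i5, hG'', g', hx', hle⟩ :=
      ih (AdjoinRoot (xN C (N + 1))) hG' g₁ (fun i => x i.succ) (fun i => hx _)
    refine ⟨C', i1, i2, i3, i4, i5, hG'', g', ?_, ?_⟩
    · intro i
      refine Fin.cases ?_ (fun j => hx' j) i
      exact hle ⟨AdjoinRoot.root _, AdjoinRoot.liftAlgHom_root _ _ _ _⟩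
    · rintro _ ⟨c, rfl⟩
      exact hle ⟨AdjoinRoot.of _ c, AdjoinRoot.liftAlgHom_of _ _ _ _ _⟩

end Iterate

section Surj

variable {W S : Type u} [CommRing W] [CommRing S] [IsLocalRing S] [Algebra W S]

/-- A subalgebra of a local ring with nilpotent maximal ideal which covers the residue field and
contains generators of the maximal ideal is everything. -/
theorem subalgebra_eq_top
    (hres : ∀ s : S, ∃ a : W, s - algebraMap W S a ∈ maximalIdeal S)
    (A : Subalgebra W S) (n : ℕ) (x : Fin n → S)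
    (hspan : Ideal.span (Set.range x) = maximalIdeal S) (hxA : ∀ i, x i ∈ A)
    (N : ℕ) (hN : maximalIdeal S ^ N = ⊥) : A = ⊤ := by
  classical
  -- successive approximation
  have Q : ∀ j : ℕ, ∀ t ∈ maximalIdeal S ^ j, ∃ s₀ ∈ A, t - s₀ ∈ maximalIdeal S ^ (j + 1) := by
    intro j
    induction j with
    | zero =>
      intro t _
      obtain ⟨a, ha⟩ := hres t
      exact ⟨algebraMap W S a, A.algebraMap_mem a, by rwa [zero_add, pow_one]⟩
    | succ j ih =>
      intro t ht
      have ht' : t ∈ maximalIdeal S ^ j • Ideal.span (Set.range x) := by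
        rw [hspan, smul_eq_mul, ← pow_succ]
        exact ht
      rw [Submodule.mem_ideal_smul_span_iff_exists_sum] at ht'
      obtain ⟨a, ha, rfl⟩ := ht'
      choose s hsA hs using fun i => ih (a i) (ha i)
      refine ⟨∑ i, s i * x i, A.sum_mem (fun i _ => A.mul_mem (hsA i) (hxA i)), ?_⟩
      rw [Finsupp.sum_fintype _ _ (fun i => by rw [zero_smul]), ← Finset.sum_sub_distrib]
      refine Ideal.sum_mem _ (fun i _ => ?_)
      rw [smul_eq_mul, ← sub_mul, pow_succ _ (j + 1)]
      refine Ideal.mul_mem_mul (hs i) ?_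
      rw [← hspan]
      exact Ideal.subset_span ⟨i, rfl⟩
  have Rj : ∀ j : ℕ, j ≤ N → ∀ t ∈ maximalIdeal S ^ (N - j), t ∈ A := by
    intro j
    induction j with
    | zero =>
      intro _ t ht
      rw [Nat.sub_zero, hN, Ideal.mem_bot] at ht
      rw [ht]
      exact A.zero_mem
    | succ j ih =>
      intro hj t ht
      obtain ⟨s₀, hs₀, hts⟩ := Q _ t ht
      have h1 : N - (j + 1) + 1 = N - j := by omega
      rw [h1] at hts
      have := ih (by omega) _ hts
      have h2 : t = s₀ + (t - s₀) := by ring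
      rw [h2]
      exact A.add_mem hs₀ this
  rw [eq_top_iff]
  intro t _
  refine Rj N le_rfl t ?_
  rw [Nat.sub_self, pow_zero, Ideal.one_eq_top]
  trivial

end Surj

end Groth.Agent.Lib.GorFact
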