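import Mathlib
import Groth.Prelude.Def_CAlg
import Groth.Agent.Lib.GorFlat3_helper9

/-!
# Base change `R ⊗_V C` of a flat Gorenstein local `V`-algebra along `V → R` (helper5)

`V → R` a local homomorphism onto the residue field of the Artinian local ring `R`, `C` a flat local
Noetherian Gorenstein `V`-algebra with Artinian closed fibre: then `R ⊗_V C` is an Artinian local
flat `R`-algebra with Gorenstein closed fibre.
-/

set_option autoImplicit false
set_option linter.style.haveILetI false
universe u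

namespace Groth.Agent.Lib.GorFact

open IsLocalRing TensorProduct

section Tensor

variable (V R C : Type u) [CommRing V] [CommRing R] [CommRing C]
  [IsLocalRing V] [IsLocalRing R] [IsLocalRing C]
  [Algebra V R] [Algebra V C]

/-- the kernel of `V → R/m_R` is `m_V` when the map is onto -/
theorem ker_eq_maximalIdeal
    (hsurj : Function.Surjective (algebraMap V (R ⧸ maximalIdeal R))) :
    RingHom.ker (Algebra.ofId V (R ⧸ maximalIdeal R)) = maximalIdeal V := by
  letI : Field (R ⧸ maximalIdeal R) := Ideal.Quotient.field _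
  haveI : (RingHom.ker (algebraMap V (R ⧸ maximalIdeal R))).IsMaximal :=
    RingHom.ker_isMaximal_of_surjective _ hsurj
  exact IsLocalRing.eq_maximalIdeal this

/-- the closed fibre of `R → R ⊗_V C` is the closed fibre of `V → C` -/
noncomputable def fibEquiv
    (hsurj : Function.Surjective (algebraMap V (R ⧸ maximalIdeal R))) :
    ((R ⊗[V] C) ⧸ (maximalIdeal R).map (algebraMap R (R ⊗[V] C))) ≃+*
      (C ⧸ (maximalIdeal V).map (algebraMap V C)) :=
  let e₀ : (V ⧸ maximalIdeal V) ≃ₐ[V] (R ⧸ maximalIdeal R) :=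
    (Ideal.quotientEquivAlgOfEq V (ker_eq_maximalIdeal V R hsurj).symm).trans
      (Ideal.quotientKerAlgEquivOfSurjective (f := Algebra.ofId V (R ⧸ maximalIdeal R)) hsurj)
  ((Algebra.TensorProduct.quotientTensorEquiv (R := V) R C R (maximalIdeal R)).symm.toRingEquiv.trans
    (Algebra.TensorProduct.congr e₀.symm (AlgEquiv.refl (R := V) (A₁ := C))).toRingEquiv).trans
    (Algebra.TensorProduct.quotIdealMapEquivQuotTensor C (maximalIdeal V)).symm.toRingEquiv

/-- an Artinian local ring is finite over a local ring mapping onto its residue field -/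
theorem finite_of_residue_surjective [IsArtinianRing R]
    (hsurj : Function.Surjective (algebraMap V (R ⧸ maximalIdeal R))) : Module.Finite V R := by
  haveI : Module.Finite V (R ⧸ maximalIdeal R) :=
    Module.Finite.of_surjective (Algebra.linearMap V (R ⧸ maximalIdeal R)) hsurj
  refine Module.finite_of_surjective_of_ker_le_nilradical (Ideal.Quotient.mkₐ V (maximalIdeal R))
    Ideal.Quotient.mk_surjective ?_ ?_
  · rw [← RingHom.ker_coe_toRingHom, Ideal.Quotient.mkₐ_ker]
    intro x hx
    exact (Ring.KrullDimLE.isNilpotent_iff_mem_maximalIdeal).2 hx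
  · rw [← RingHom.ker_coe_toRingHom, Ideal.Quotient.mkₐ_ker]
    exact (inferInstance : IsNoetherianRing R).noetherian _

variable [IsArtinianRing R] [IsNoetherianRing V] [IsNoetherianRing C] [Module.Flat V C]
  [IsLocalHom (algebraMap V C)]

theorem tensor_main (S : Type u) [CommRing S] [Algebra V S] [Algebra R S] [IsScalarTower V R S]
    (hsurj : Function.Surjective (algebraMap V (R ⧸ maximalIdeal R)))
    (hGor : LocCoh.IsGorensteinLocalRing C)
    (hArt : IsArtinianRing (C ⧸ (maximalIdeal V).map (algebraMap V C)))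
    (g : C →ₐ[V] S) (hg : Function.Surjective g) :
    ∃ (R' : Type u) (_ : CommRing R') (_ : Algebra R R'), IsArtinianRing R' ∧ IsLocalRing R' ∧
      Module.Flat R R' ∧ IsLocalHom (algebraMap R R') ∧
      LocCoh.IsGorensteinLocalRing (R' ⧸ (maximalIdeal R).map (algebraMap R R')) ∧
      ∃ g' : R' →ₐ[R] S, Function.Surjective g' := by
  classical
  have e := fibEquiv V R C hsurj
  haveI : IsLocalRing (C ⧸ (maximalIdeal V).map (algebraMap V C)) :=
    EGA4.isLocalRing_fibRing V C
  haveI hlocq : IsLocalRing ((R ⊗[V] C) ⧸ (maximalIdeal R).map (algebraMap R (R ⊗[V] C))) :=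
    e.symm.isLocalRing
  haveI hArtq : IsArtinianRing ((R ⊗[V] C) ⧸ (maximalIdeal R).map (algebraMap R (R ⊗[V] C))) :=
    e.symm.isArtinianRing
  -- nilpotency of `m_R R'`
  obtain ⟨M, hM⟩ : ∃ M : ℕ, maximalIdeal R ^ M = ⊥ := by
    have h := IsArtinianRing.isNilpotent_jacobson_bot (R := R)
    rwa [IsLocalRing.jacobson_eq_maximalIdeal ⊥ bot_ne_top] at h
  have hIM : ((maximalIdeal R).map (algebraMap R (R ⊗[V] C))) ^ M = ⊥ := by
    rw [← Ideal.map_pow, hM, Ideal.map_bot]
  have hIjac : (maximalIdeal R).map (algebraMap R (R ⊗[V] C)) ≤ Ideal.jacobson ⊥ := by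
    intro x hx
    have h1 : x ^ M ∈ ((maximalIdeal R).map (algebraMap R (R ⊗[V] C))) ^ M :=
      Ideal.pow_mem_pow hx M
    rw [hIM, Ideal.mem_bot] at h1
    have h2 : x ∈ nilradical (R ⊗[V] C) := ⟨M, h1⟩
    exact (Ideal.radical_le_jacobson (I := (⊥ : Ideal (R ⊗[V] C)))) h2
  haveI : IsLocalHom (Ideal.Quotient.mk ((maximalIdeal R).map (algebraMap R (R ⊗[V] C)))) :=
    isLocalHom_of_le_jacobson_bot _ hIjac
  haveI hloc : IsLocalRing (R ⊗[V] C) :=
    RingHom.domain_isLocalRing
      (Ideal.Quotient.mk ((maximalIdeal R).map (algebraMap R (R ⊗[V] C))))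
  have hIne : (maximalIdeal R).map (algebraMap R (R ⊗[V] C)) ≠ ⊤ :=
    Ideal.Quotient.nontrivial_iff.1 inferInstance
  -- Noetherian
  haveI : Module.Finite V R := finite_of_residue_surjective V R hsurj
  haveI : IsNoetherianRing (C ⊗[V] R) := IsNoetherianRing.of_finite C _
  haveI : IsNoetherianRing (R ⊗[V] C) :=
    isNoetherianRing_of_ringEquiv (C ⊗[V] R) (Algebra.TensorProduct.comm V C R).toRingEquiv
  -- local hom
  have hlh : IsLocalHom (algebraMap R (R ⊗[V] C)) := ⟨fun r hr => by
    by_contra hnu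
    have hr' : r ∈ maximalIdeal R := hnu
    have h1 : algebraMap R (R ⊗[V] C) r ∈ (maximalIdeal R).map (algebraMap R (R ⊗[V] C)) :=
      Ideal.mem_map_of_mem _ hr'
    exact (IsLocalRing.le_maximalIdeal hIne h1) hr⟩
  -- Artinian
  have hArtR' : IsArtinianRing (R ⊗[V] C) := by
    rw [isArtinianRing_iff_isNilpotent_maximalIdeal]
    obtain ⟨a, ha⟩ : ∃ a : ℕ, maximalIdeal
        ((R ⊗[V] C) ⧸ (maximalIdeal R).map (algebraMap R (R ⊗[V] C))) ^ a = ⊥ := by
      have h := IsArtinianRing.isNilpotent_jacobson_bot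
        (R := (R ⊗[V] C) ⧸ (maximalIdeal R).map (algebraMap R (R ⊗[V] C)))
      rwa [IsLocalRing.jacobson_eq_maximalIdeal ⊥ bot_ne_top] at h
    have hle : maximalIdeal (R ⊗[V] C) ^ a ≤ (maximalIdeal R).map (algebraMap R (R ⊗[V] C)) := by
      intro x hx
      have h1 : Ideal.Quotient.mk ((maximalIdeal R).map (algebraMap R (R ⊗[V] C))) x ∈
          (maximalIdeal (R ⊗[V] C) ^ a).map
            (Ideal.Quotient.mk ((maximalIdeal R).map (algebraMap R (R ⊗[V] C)))) :=
        Ideal.mem_map_of_mem _ hx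
      rw [Ideal.map_pow] at h1
      have h2 := Ideal.pow_right_mono (IsLocalRing.map_maximalIdeal_le
        (Ideal.Quotient.mk ((maximalIdeal R).map (algebraMap R (R ⊗[V] C))))) a h1
      rw [ha, Ideal.mem_bot] at h2
      exact Ideal.Quotient.eq_zero_iff_mem.1 h2
    refine ⟨a * M, ?_⟩
    rw [pow_mul, Ideal.zero_eq_bot, ← le_bot_iff, ← hIM]
    exact Ideal.pow_right_mono hle M
  -- Gorenstein fibre
  have hGorF : LocCoh.IsGorensteinLocalRing
      ((R ⊗[V] C) ⧸ (maximalIdeal R).map (algebraMap R (R ⊗[V] C))) :=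
    (Groth.Agent.GorFlat9.gorenstein_congr e).2
      ((Groth.Agent.GorFlat9.gorenstein_iff V C).1 hGor).2
  -- the map to `S`
  let g' : (R ⊗[V] C) →ₐ[R] S :=
    Algebra.TensorProduct.lift (Algebra.ofId R S) g (fun _ _ => Commute.all _ _)
  have hg' : Function.Surjective g' := by
    intro s
    obtain ⟨c, rfl⟩ := hg s
    refine ⟨1 ⊗ₜ[V] c, ?_⟩
    rw [Algebra.TensorProduct.lift_tmul, map_one, one_mul]
  exact ⟨R ⊗[V] C, inferInstance, inferInstance, hArtR', hloc, inferInstance, hlh, hGorF, g', hg'⟩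

end Tensor

end Groth.Agent.Lib.GorFact
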