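import Mathlib
import Groth.Prelude.Def_CAlg
import Groth.Agent.Lib.GorFact1_helper5
import Groth.Agent.Lib.GorFact2_helper5
import Groth.Agent.Lib.CohenStruct_helper3
import Groth.Agent.Lib.CohenLift3_helper3
import Groth.Agent.Lib.CompleteIC_helper3
import Groth.Agent.S0342

/-!
# Gorenstein factorizations of local homomorphisms of Artinian local rings (helper5)

`R → S` local, `R`, `S` Artinian local.  With Cohen rings `V → R`, `W → S`, a finite free
Gorenstein local `W`-algebra `C = W[T_1, …, T_n]/(T_i^{N_i})` surjecting onto `S`, and a lift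
`V → C` of `V → R → S`, the ring `R' = R ⊗_V C` does the job.
-/

set_option autoImplicit false
set_option linter.style.haveILetI false
universe u

namespace Groth.Agent.Lib.GorFact

open IsLocalRing TensorProduct EGA41

theorem isAdicComplete_of_pow_eq_bot' {A : Type*} [CommRing A] (J : Ideal A) (n : ℕ)
    (h : J ^ n = ⊥) : IsAdicComplete J A := by
  refine { haus' := fun x hx => ?_, prec' := fun f hf => ⟨f n, fun k => ?_⟩ }
  · have h1 := hx n
    rw [h, Submodule.bot_smul, SModEq.bot] at h1
    exact h1
  · rcases le_total k n with hkn | hnk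
    · exact hf hkn
    · have h1 := hf hnk
      rw [h, Submodule.bot_smul, SModEq.bot] at h1
      rw [h1]

theorem exists_pow_maximalIdeal_eq_bot (A : Type u) [CommRing A] [IsLocalRing A]
    [IsArtinianRing A] : ∃ M : ℕ, maximalIdeal A ^ M = ⊥ := by
  have h := IsArtinianRing.isNilpotent_jacobson_bot (R := A)
  rwa [IsLocalRing.jacobson_eq_maximalIdeal ⊥ bot_ne_top] at h

theorem isAdicComplete_of_artinian (A : Type u) [CommRing A] [IsLocalRing A]
    [IsArtinianRing A] : IsAdicComplete (maximalIdeal A) A := by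
  obtain ⟨M, hM⟩ := exists_pow_maximalIdeal_eq_bot A
  exact isAdicComplete_of_pow_eq_bot' _ M hM

/-- a Cohen ring (or a field of characteristic zero) with prescribed residue field -/
theorem exists_cohenEGA (k : Type u) [Field k] :
    ∃ (V : Type u) (_ : CommRing V) (_ : IsLocalRing V), IsCohenRingEGA V ∧
      Nonempty (ResidueField V ≃+* k) := by
  obtain ⟨p, hp⟩ := CharP.exists k
  rcases CharP.char_is_prime_or_zero k p with hpp | rfl
  · haveI : Fact p.Prime := ⟨hpp⟩
    obtain ⟨V, i1, i2, hV, he⟩ := Groth.Agent.Lib.CohenRingH3.exists_cohenRing p k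
    exact ⟨V, i1, i2, Or.inr hV, he⟩
  · haveI : CharZero k := CharP.charP_to_charZero k
    refine ⟨k, inferInstance, inferInstance, Or.inl ⟨Field.toIsField k, inferInstance⟩, ⟨?_⟩⟩
    exact (RingEquiv.ofBijective (residue k) ⟨(residue k).injective, residue_surjective⟩).symm

/-- a Cohen ring mapping to a complete local ring, onto the residue field -/
theorem exists_cohen_to (A : Type u) [CommRing A] [IsLocalRing A]
    [IsAdicComplete (maximalIdeal A) A] :
    ∃ (V : Type u) (_ : CommRing V) (_ : IsLocalRing V) (v : V →+* A), IsCohenRingEGA V ∧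
      IsLocalHom v ∧ Function.Surjective ((residue A).comp v) := by
  obtain ⟨V, i1, i2, hV, ⟨e⟩⟩ := exists_cohenEGA (ResidueField A)
  let u : V →+* A ⧸ maximalIdeal A := (e : ResidueField V →+* ResidueField A).comp (residue V)
  haveI hu : IsLocalHom u := ⟨fun a ha => by
    by_contra hna
    have h1 : residue V a = 0 := (residue_eq_zero_iff a).2 ((mem_maximalIdeal a).2 hna)
    have h2 : u a = 0 := by
      show e (residue V a) = 0
      rw [h1, map_zero]
    rw [h2] at ha
    haveI : Nontrivial (A ⧸ maximalIdeal A) :=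
      Ideal.Quotient.nontrivial_iff.2 (maximalIdeal.isMaximal A).ne_top
    exact not_isUnit_zero ha⟩
  obtain ⟨v, hv⟩ := Groth.Agent.Lib.CohenStructH3.exists_lift_residue hV u
  have hvu : ∀ a, residue A (v a) = e (residue V a) := fun a => RingHom.congr_fun hv a
  refine ⟨V, i1, i2, v, hV, ⟨fun a ha => ?_⟩, fun y => ?_⟩
  · have h1 : IsUnit (u a) := by
      have := ha.map (residue A)
      rwa [hvu] at this
    exact hu.map_nonunit a h1
  · obtain ⟨z, hz⟩ := e.surjective y
    obtain ⟨a, rfl⟩ := residue_surjective z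
    exact ⟨a, (hvu a).trans hz⟩

theorem cohenEGA_domain_pid {W : Type u} [CommRing W] (hW : IsCohenRingEGA W) :
    IsDomain W ∧ IsPrincipalIdealRing W := by
  rcases hW with ⟨hfield, _⟩ | ⟨hdom, hdvr, _⟩
  · letI := hfield.toField
    exact ⟨inferInstance, inferInstance⟩
  · haveI := hdom
    haveI := hdvr
    exact ⟨inferInstance, inferInstance⟩

/-- flatness of a finite free `W`-algebra over a Cohen ring `V`, both of residue characteristic
`p` -/
theorem flat_of_cohen {V W C : Type u} [CommRing V] [IsLocalRing V] [CommRing W] [IsLocalRing W]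
    [CommRing C] [Algebra V C] [Algebra W C] [Module.Free W C]
    (hV : IsCohenRingEGA V) (hW : IsCohenRingEGA W) (p : ℕ) [CharP (ResidueField V) p]
    [CharP (ResidueField W) p] : Module.Flat V C := by
  obtain ⟨hVnoeth, hVcomp, hVmax, hVpow⟩ := Groth.Agent.Lib.CohenLiftH3.cohen_basic hV p
  obtain ⟨hWnoeth, hWcomp, hWmax, hWpow⟩ := Groth.Agent.Lib.CohenLiftH3.cohen_basic hW p
  obtain ⟨hWdom, hWpid⟩ := cohenEGA_domain_pid hW
  obtain ⟨hVdom, hVpid⟩ := cohenEGA_domain_pid hV
  haveI := hVcomp
  rw [Module.Flat.flat_iff_torsion_eq_bot_of_isBezout, Submodule.eq_bot_iff]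
  intro c hc
  rw [Submodule.mem_torsion_iff] at hc
  obtain ⟨a, ha⟩ := hc
  obtain ⟨m, y, hy, hay⟩ := Groth.Agent.Lib.CohenLiftH3.exists_unit_mul_pow p hVmax (a : V)
    (nonZeroDivisors.ne_zero a.2)
  have h1 : (p : C) ^ m * c = 0 := by
    have h2 : algebraMap V C ((p : V) ^ m * y) * c = 0 := by
      rw [← hay, ← Algebra.smul_def]
      exact ha
    rw [map_mul, map_pow, map_natCast, mul_right_comm] at h2
    exact (hy.map (algebraMap V C)).mul_left_eq_zero.1 h2
  have hpm : (p : W) ^ m ≠ 0 := by
    by_cases hp0 : p = 0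
    · subst hp0
      rcases Nat.eq_zero_or_pos m with hm | hm
      · rw [hm, pow_zero]
        exact one_ne_zero
      · exfalso
        have : (a : V) = 0 := by
          rw [hay, Nat.cast_zero, zero_pow hm.ne', zero_mul]
        exact nonZeroDivisors.ne_zero a.2 this
    · exact hWpow hp0 m
  have h3 : ((p : W) ^ m) • c = 0 := by
    rw [Algebra.smul_def, map_pow, map_natCast]
    exact h1
  exact (smul_eq_zero.1 h3).resolve_left hpm

/-- **Gorenstein factorization** of a local homomorphism of Artinian local rings. -/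
theorem main (R S : Type u) [CommRing R] [CommRing S] [IsArtinianRing R] [IsLocalRing R]
    [IsArtinianRing S] [IsLocalRing S] [Algebra R S] [IsLocalHom (algebraMap R S)] :
    ∃ (R' : Type u) (_ : CommRing R') (_ : Algebra R R'), IsArtinianRing R' ∧ IsLocalRing R' ∧
      Module.Flat R R' ∧ IsLocalHom (algebraMap R R') ∧
      LocCoh.IsGorensteinLocalRing (R' ⧸ (maximalIdeal R).map (algebraMap R R')) ∧
      ∃ g : R' →ₐ[R] S, Function.Surjective g := by
  classical
  haveI : IsAdicComplete (maximalIdeal R) R := isAdicComplete_of_artinian R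
  haveI : IsAdicComplete (maximalIdeal S) S := isAdicComplete_of_artinian S
  obtain ⟨V, iV1, iV2, vR, hV, hvRloc, hvRsurj⟩ := exists_cohen_to R
  obtain ⟨W, iW1, iW2, wS, hW, hwSloc, hwSsurj⟩ := exists_cohen_to S
  -- the common residue characteristic
  obtain ⟨p, hpV⟩ := CharP.exists (ResidueField V)
  haveI := hpV
  haveI hpR : CharP (ResidueField R) p :=
    (RingHom.charP_iff (ResidueField.map vR) (ResidueField.map vR).injective p).1 hpV
  haveI hpS : CharP (ResidueField S) p :=
    (RingHom.charP_iff (ResidueField.map (algebraMap R S))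
      (ResidueField.map (algebraMap R S)).injective p).1 hpR
  haveI hpW : CharP (ResidueField W) p :=
    (RingHom.charP_iff (ResidueField.map wS) (ResidueField.map wS).injective p).2 hpS
  obtain ⟨hVnoeth, hVcomp, hVmax, hVpow⟩ := Groth.Agent.Lib.CohenLiftH3.cohen_basic hV p
  obtain ⟨hWnoeth, hWcomp, hWmax, hWpow⟩ := Groth.Agent.Lib.CohenLiftH3.cohen_basic hW p
  obtain ⟨hWdom, hWpid⟩ := cohenEGA_domain_pid hW
  haveI := hVnoeth
  haveI := hWnoeth
  haveI := hVcomp
  haveI := hWcomp
  -- `S` as a `W`-algebra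
  letI : Algebra W S := wS.toAlgebra
  obtain ⟨n, x, hx⟩ := Submodule.fg_iff_exists_fin_generating_family.1
    ((inferInstance : IsNoetherianRing S).noetherian (maximalIdeal S))
  obtain ⟨N, hN⟩ := exists_pow_maximalIdeal_eq_bot S
  have hxm : ∀ i, x i ∈ maximalIdeal S := fun i => hx ▸ Ideal.subset_span ⟨i, rfl⟩
  have hxnil : ∀ i, IsNilpotent (x i) := fun i => ⟨N, by
    have := Ideal.pow_mem_pow (hxm i) N
    rwa [hN, Ideal.mem_bot] at this⟩
  have hGW : LocCoh.IsGorensteinLocalRing W := Groth.Agent.S0342.result W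
  obtain ⟨C, iC1, iC2, iC3, iC4, iC5, hGC, g, hgx, hgle⟩ :=
    exists_good W S n W hGW (Algebra.ofId W S) x hxnil
  -- surjectivity
  have hres : ∀ s : S, ∃ a : W, s - algebraMap W S a ∈ maximalIdeal S := by
    intro s
    obtain ⟨a, ha⟩ := hwSsurj (residue S s)
    refine ⟨a, ?_⟩
    rw [← residue_eq_zero_iff, map_sub, sub_eq_zero]
    exact ha.symm
  have hrange : g.range = ⊤ := subalgebra_eq_top hres g.range n x hx hgx N hN
  have hgsurj : Function.Surjective g := by
    intro s
    have : s ∈ g.range := hrange ▸ Algebra.mem_top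
    exact this
  -- `C` is a complete Noetherian local ring
  haveI : IsNoetherianRing C := hGC.toIsNoetherian
  haveI : IsAdicComplete (maximalIdeal C) C :=
    Groth.Agent.Lib.CompleteICH3.isAdicComplete_of_finite_local W C
  -- lifting `V → S` to `V → C`
  obtain ⟨eJ, heJ⟩ : ∃ e : C ⧸ RingHom.ker (g : C →+* S) ≃+* S,
      ∀ c, e (Ideal.Quotient.mk _ c) = g c :=
    ⟨RingHom.quotientKerEquivOfSurjective (f := (g : C →+* S)) hgsurj, fun c => rfl⟩
  haveI : IsLocalRing (C ⧸ RingHom.ker (g : C →+* S)) := eJ.symm.isLocalRing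
  let u : V →+* C ⧸ RingHom.ker (g : C →+* S) :=
    (eJ.symm : S →+* C ⧸ RingHom.ker (g : C →+* S)).comp ((algebraMap R S).comp vR)
  haveI hu : IsLocalHom u := ⟨fun a ha => by
    have h1 : IsUnit (eJ (u a)) := ha.map eJ
    have h2 : eJ (u a) = algebraMap R S (vR a) := by
      show eJ (eJ.symm (algebraMap R S (vR a))) = _
      rw [RingEquiv.apply_symm_apply]
    rw [h2] at h1
    exact hvRloc.map_nonunit a (IsLocalHom.map_nonunit (f := algebraMap R S) _ h1)⟩
  have hJ : RingHom.ker (g : C →+* S) ≠ ⊤ := RingHom.ker_ne_top _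
  obtain ⟨vC, hvCloc, hvC⟩ :=
    Groth.Agent.Lib.CohenLiftH3.exists_lift_to_complete hV (RingHom.ker (g : C →+* S)) hJ u
  have hcompat : ∀ a, g (vC a) = algebraMap R S (vR a) := by
    intro a
    have h1 : Ideal.Quotient.mk (RingHom.ker (g : C →+* S)) (vC a) = u a :=
      RingHom.congr_fun hvC a
    have h2 : eJ (u a) = algebraMap R S (vR a) := by
      show eJ (eJ.symm (algebraMap R S (vR a))) = _
      rw [RingEquiv.apply_symm_apply]
    rw [← heJ, h1, h2]
  -- the algebra structures over `V`
  letI : Algebra V R := vR.toAlgebra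
  letI : Algebra V C := vC.toAlgebra
  letI : Algebra V S := ((algebraMap R S).comp vR).toAlgebra
  haveI : IsScalarTower V R S := IsScalarTower.of_algebraMap_eq (fun a => rfl)
  let gV : C →ₐ[V] S := { (g : C →+* S) with commutes' := hcompat }
  haveI : IsLocalHom (algebraMap V C) := hvCloc
  haveI : Module.Flat V C := flat_of_cohen hV hW p
  have hsurj : Function.Surjective (algebraMap V (R ⧸ maximalIdeal R)) := hvRsurj
  have hArt : IsArtinianRing (C ⧸ (maximalIdeal V).map (algebraMap V C)) := by
    have hle : (maximalIdeal W).map (algebraMap W C) ≤ (maximalIdeal V).map (algebraMap V C) := by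
      rw [hWmax, Ideal.map_span, Set.image_singleton, Ideal.span_le, Set.singleton_subset_iff,
        map_natCast, SetLike.mem_coe]
      have h1 : (p : C) = algebraMap V C (p : V) := (map_natCast _ p).symm
      rw [h1]
      refine Ideal.mem_map_of_mem _ ?_
      rw [hVmax]
      exact Ideal.subset_span rfl
    haveI : IsArtinianRing (C ⧸ (maximalIdeal W).map (algebraMap W C)) := by
      letI : Field (W ⧸ maximalIdeal W) := Ideal.Quotient.field _
      haveI : Module.Finite W (C ⧸ (maximalIdeal W).map (algebraMap W C)) :=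
        Module.Finite.of_surjective (Ideal.Quotient.mkₐ W _).toLinearMap
          (Ideal.Quotient.mkₐ_surjective W _)
      haveI : Module.Finite (W ⧸ maximalIdeal W) (C ⧸ (maximalIdeal W).map (algebraMap W C)) :=
        Module.Finite.of_restrictScalars_finite W _ _
      exact IsArtinianRing.of_finite (W ⧸ maximalIdeal W) _
    exact (Ideal.Quotient.factor_surjective hle).isArtinianRing
  exact tensor_main V R C S hsurj hGC hArt gV hgsurj

end Groth.Agent.Lib.GorFact
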