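import Groth.Agent.Lib.GorFlat_helper9

/-!
# Gorenstein finite algebras over a field are Frobenius (helper6), part 1: local forms
APPEND-ONLY once landed.
-/

set_option autoImplicit false
universe u

namespace Groth.Agent.Lib.GorFrobH6

open IsLocalRing

section Local

variable (κ : Type u) [Field κ] (D : Type u) [CommRing D] [IsLocalRing D] [Algebra κ D]

/-- In an Artinian local ring of type one every nonzero element has a multiple equal to the socle
generator. -/
theorem exists_mul_eq_socle [IsNoetherianRing D] (h0 : ringKrullDim D = 0) (s : D)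
    (hs : ∀ a ∈ maximalIdeal D, a * s = 0)
    (hgen : ∀ x : D, (∀ a ∈ maximalIdeal D, a * x = 0) → ∃ c, x = c * s)
    (x : D) (hx : x ≠ 0) : ∃ d : D, d * x = s := by
  classical
  obtain ⟨n, hn⟩ := Groth.Agent.GorFlat9.isNilpotent_maximalIdeal D h0
  have hex : ∃ j, ∀ a ∈ maximalIdeal D ^ j, a * x = 0 := ⟨n, fun a ha => by
    rw [hn] at ha
    have : a = 0 := by simpa using ha
    rw [this, zero_mul]⟩
  have hj0 : Nat.find hex ≠ 0 := by
    intro h0'
    have := Nat.find_spec hex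
    rw [h0', pow_zero, Ideal.one_eq_top] at this
    exact hx (by simpa using this 1 Submodule.mem_top)
  obtain ⟨j, hj⟩ := Nat.exists_eq_succ_of_ne_zero hj0
  have hmin : ¬ ∀ a ∈ maximalIdeal D ^ j, a * x = 0 :=
    Nat.find_min hex (by rw [hj]; exact Nat.lt_succ_self j)
  push Not at hmin
  obtain ⟨d, hd, hdx⟩ := hmin
  have hsoc : ∀ a ∈ maximalIdeal D, a * (d * x) = 0 := by
    intro a ha
    have h1 := Nat.find_spec hex
    rw [hj, pow_succ'] at h1
    rw [← mul_assoc]
    exact h1 _ (Ideal.mul_mem_mul ha hd)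
  obtain ⟨c, hc⟩ := hgen (d * x) hsoc
  have hcu : IsUnit c := by
    by_contra hnu
    apply hdx
    rw [hc]
    exact hs c ((IsLocalRing.mem_maximalIdeal c).2 hnu)
  obtain ⟨u, rfl⟩ := hcu
  refine ⟨(↑u⁻¹ : D) * d, ?_⟩
  rw [mul_assoc, hc, ← mul_assoc, Units.inv_mul, one_mul]

/-- a linear form on a type-one Artinian local `κ`-algebra whose kernel contains no nonzero
ideal -/
theorem exists_form_of_typeOne [IsNoetherianRing D] (h0 : ringKrullDim D = 0)
    (h : Groth.Agent.GorFlat9.TypeOne D) :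
    ∃ φ : D →ₗ[κ] κ, ∀ x : D, x ≠ 0 → ∃ d : D, φ (d * x) ≠ 0 := by
  obtain ⟨s, hs0, hs, hgen⟩ := h
  have hφ : ∃ φ : Module.Dual κ D, φ s ≠ 0 := by
    by_contra hcon
    push Not at hcon
    exact hs0 ((Module.forall_dual_apply_eq_zero_iff κ s).1 hcon)
  obtain ⟨φ, hφs⟩ := hφ
  refine ⟨φ, fun x hx => ?_⟩
  obtain ⟨d, hd⟩ := exists_mul_eq_socle D h0 s hs hgen x hx
  exact ⟨d, by rw [hd]; exact hφs⟩

end Local

end Groth.Agent.Lib.GorFrobH6
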