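import Groth.Agent.Lib.GorFrob1_helper6
import Groth.Prelude.Def_Disc

/-!
# Gorenstein finite algebras over a field are Frobenius (helper6), part 2: global form
APPEND-ONLY once landed.
-/

set_option autoImplicit false
universe u

namespace Groth.Agent.Lib.GorFrobH6

open IsLocalRing

section Global

variable (κ : Type u) [Field κ] (C : Type u) [CommRing C] [Algebra κ C] [Module.Finite κ C]

theorem exists_form (hG : LocCoh.IsGorensteinRing C) :
    ∃ φ : C →ₗ[κ] κ, ∀ c : C, c ≠ 0 → ∃ d : C, φ (d * c) ≠ 0 := by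
  classical
  have : IsArtinianRing C := IsArtinianRing.of_finite κ C
  have : Fintype (PrimeSpectrum C) := Fintype.ofFinite _
  have hloc : ∀ Q : PrimeSpectrum C, ∃ φ : Localization.AtPrime Q.asIdeal →ₗ[κ] κ,
      ∀ x : Localization.AtPrime Q.asIdeal, x ≠ 0 → ∃ d, φ (d * x) ≠ 0 := by
    intro Q
    have : IsNoetherianRing (Localization.AtPrime Q.asIdeal) :=
      IsLocalization.isNoetherianRing Q.asIdeal.primeCompl _ inferInstance
    have h0 : ringKrullDim (Localization.AtPrime Q.asIdeal) = 0 :=
      ringKrullDimZero_iff_ringKrullDim_eq_zero.1 inferInstance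
    exact exists_form_of_typeOne κ _ h0
      ((Groth.Agent.GorFlat9.gorenstein_iff_typeOne _ h0).1
        (hG.isGorensteinLocalRing_localization Q.asIdeal))
  choose φQ hφQ using hloc
  let ι : ∀ Q : PrimeSpectrum C, C →ₗ[κ] Localization.AtPrime Q.asIdeal := fun Q =>
    (IsScalarTower.toAlgHom κ C (Localization.AtPrime Q.asIdeal)).toLinearMap
  refine ⟨∑ Q, (φQ Q).comp (ι Q), fun c hc => ?_⟩
  -- a prime where `c` survives
  have hex : ∃ Q : PrimeSpectrum C, algebraMap C (Localization.AtPrime Q.asIdeal) c ≠ 0 := by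
    by_contra hcon
    push Not at hcon
    apply hc
    apply PrimeSpectrum.toPiLocalization_injective C
    funext Q
    rw [map_zero]
    exact hcon Q
  obtain ⟨Q, hQ⟩ := hex
  obtain ⟨d', hd'⟩ := hφQ Q _ hQ
  obtain ⟨d, rfl⟩ := IsArtinianRing.localization_surjective Q.asIdeal.primeCompl
    (Localization.AtPrime Q.asIdeal) d'
  obtain ⟨r, hrQ, hridem, hr⟩ := IsArtinianRing.exists_not_mem_forall_mem_of_ne Q.asIdeal
  have hr1 : algebraMap C (Localization.AtPrime Q.asIdeal) r = 1 := by
    have hu : IsUnit (algebraMap C (Localization.AtPrime Q.asIdeal) r) :=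
      IsLocalization.map_units _ (⟨r, hrQ⟩ : Q.asIdeal.primeCompl)
    exact (IsIdempotentElem.iff_eq_one_of_isUnit hu).1 (hridem.map _)
  have hr0 : ∀ Q' : PrimeSpectrum C, Q' ≠ Q →
      algebraMap C (Localization.AtPrime Q'.asIdeal) r = 0 := by
    intro Q' hne
    have hmem : r ∈ Q'.asIdeal := hr Q'.asIdeal Q'.isPrime (fun h => hne (PrimeSpectrum.ext h))
    have hmax : algebraMap C (Localization.AtPrime Q'.asIdeal) r ∈
        maximalIdeal (Localization.AtPrime Q'.asIdeal) :=
      (IsLocalization.AtPrime.to_map_mem_maximal_iff _ Q'.asIdeal r).2 hmem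
    have hidem : IsIdempotentElem (algebraMap C (Localization.AtPrime Q'.asIdeal) r) :=
      hridem.map _
    set e := algebraMap C (Localization.AtPrime Q'.asIdeal) r with he
    have hu : IsUnit (1 - e) := by
      by_contra hnu
      have h1 : (1 - e) ∈ maximalIdeal (Localization.AtPrime Q'.asIdeal) :=
        (IsLocalRing.mem_maximalIdeal _).2 hnu
      have h2 := Ideal.add_mem _ h1 hmax
      rw [sub_add_cancel] at h2
      exact (Ideal.ne_top_iff_one _).1 (maximalIdeal.isMaximal _).ne_top h2
    have h3 : (1 - e) * e = 0 := by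
      rw [sub_mul, one_mul, hidem.eq, sub_self]
    exact hu.mul_right_eq_zero.1 h3
  refine ⟨d * r, ?_⟩
  rw [LinearMap.sum_apply, Finset.sum_eq_single Q]
  · show φQ Q (algebraMap C _ (d * r * c)) ≠ 0
    rw [RingHom.map_mul, RingHom.map_mul, hr1, mul_one]
    exact hd'
  · intro Q' _ hne
    show φQ Q' (algebraMap C _ (d * r * c)) = 0
    rw [RingHom.map_mul, RingHom.map_mul, hr0 Q' hne, mul_zero, zero_mul, map_zero]
  · intro h
    exact absurd (Finset.mem_univ Q) h

end Global

end Groth.Agent.Lib.GorFrobH6
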