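import Mathlib
import Groth.Prelude

set_option autoImplicit false
set_option linter.style.haveILetI false

universe u

open TensorProduct QFDual

namespace Groth.Agent.Lib.OmegaBCH4

/-- `A`-module structure on `Hom_A(B', A)` through `A → B'`. -/
@[reducible] def modA (A B' : Type u) [CommRing A] [CommRing B'] [Algebra A B'] :
    Module A (Disc.Omega A B') :=
  Module.compHom _ (algebraMap A B')

attribute [local instance] modA

section

variable {A B' : Type u} [CommRing A] [CommRing B'] [Algebra A B']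

instance towerA : IsScalarTower A B' (Disc.Omega A B') := ⟨fun a b φ => by
  show (a • b) • φ = algebraMap A B' a • (b • φ)
  rw [Algebra.smul_def, mul_smul]⟩

lemma smulA_toLinearMap (a : A) (φ : Disc.Omega A B') :
    (a • φ).toLinearMap = a • φ.toLinearMap := by
  apply LinearMap.ext
  intro x
  show φ.toLinearMap (algebraMap A B' a * x) = a • φ.toLinearMap x
  rw [← Algebra.smul_def, map_smul]

/-- Unwrapping `Disc.Omega`. -/
def unwrap (A B' : Type u) [CommRing A] [CommRing B'] [Algebra A B'] :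
    Disc.Omega A B' ≃ₗ[A] (B' →ₗ[A] A) where
  toFun φ := φ.toLinearMap
  invFun f := ⟨f⟩
  map_add' _ _ := rfl
  map_smul' a φ := smulA_toLinearMap a φ
  left_inv _ := rfl
  right_inv _ := rfl

end

variable {A B' A₁ B'₁ : Type u} [CommRing A] [CommRing B'] [CommRing A₁] [CommRing B'₁]
  [Algebra A B'] [Algebra A A₁] [Algebra B' B'₁] [Algebra A₁ B'₁] [Algebra A B'₁]
  [IsScalarTower A A₁ B'₁] [IsScalarTower A B' B'₁]

theorem isBaseChange_toDual [Module.Flat A A₁] [Module.FinitePresentation A B']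
    (h : Algebra.IsPushout A A₁ B' B'₁) : IsBaseChange A₁ (h.out.toDual) := by
  have ibc0 := Module.FinitePresentation.isBaseChange_map A B' A A₁
  refine IsBaseChange.of_equiv (ibc0.equiv ≪≫ₗ
    LinearEquiv.arrowCongr h.out.equiv (AlgebraTensorModule.rid A A₁ A₁)) (fun f => ?_)
  apply h.out.algHom_ext
  intro b'
  rw [IsBaseChange.toDual_comp_apply]
  show (AlgebraTensorModule.rid A A₁ A₁) ((ibc0.equiv (1 ⊗ₜ f))
    (h.out.equiv.symm ((IsScalarTower.toAlgHom A B' B'₁).toLinearMap b'))) = _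
  rw [IsBaseChange.equiv_symm_apply, IsBaseChange.equiv_tmul, one_smul]
  simp [Algebra.algebraMap_eq_smul_one]

/-- `B'`-module structure on `Hom_{A₁}(B'₁, A₁)` through `B' → B'₁`. -/
@[reducible] def modB' (B' A₁ B'₁ : Type u) [CommRing B'] [CommRing A₁] [CommRing B'₁]
    [Algebra B' B'₁] [Algebra A₁ B'₁] : Module B' (Disc.Omega A₁ B'₁) :=
  Module.compHom _ (algebraMap B' B'₁)

attribute [local instance] modB'

instance towerB' : IsScalarTower B' B'₁ (Disc.Omega A₁ B'₁) := ⟨fun b c ω => by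
  show (b • c) • ω = algebraMap B' B'₁ b • (c • ω)
  rw [Algebra.smul_def, mul_smul]⟩

section

variable [Module.Flat A A₁] [Module.FinitePresentation A B'] (h : Algebra.IsPushout A A₁ B' B'₁)

/-- The base change isomorphism for linear forms. -/
noncomputable def Θ : A₁ ⊗[A] (B' →ₗ[A] A) ≃ₗ[A₁] (B'₁ →ₗ[A₁] A₁) :=
  (isBaseChange_toDual h).equiv

lemma Θ_tmul (a : A₁) (f : B' →ₗ[A] A) : Θ h (a ⊗ₜ f) = a • h.out.toDual f :=
  IsBaseChange.equiv_tmul _ _ _

omit [Module.Flat A A₁] [Module.FinitePresentation A B'] in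
/-- `bcFin` as a `B'`-linear map. -/
noncomputable def ℓ : Disc.Omega A B' →ₗ[B'] Disc.Omega A₁ B'₁ where
  toFun := bcFin h
  map_add' := (bcFin h).map_add
  map_smul' b φ := (bcFin h).map_smulₛₗ b φ

/-- The induced `B'₁`-linear map. -/
noncomputable def β₀ : B'₁ ⊗[B'] Disc.Omega A B' →ₗ[B'₁] Disc.Omega A₁ B'₁ :=
  LinearMap.liftBaseChange B'₁ (ℓ h)

omit [Module.Flat A A₁] [Module.FinitePresentation A B'] in
lemma β₀_tmul (c : B'₁) (φ : Disc.Omega A B') : β₀ h (c ⊗ₜ φ) = c • bcFin h φ := rfl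

lemma β₀_eq (y : A₁ ⊗[A] Disc.Omega A B') :
    β₀ h ((Algebra.IsPushout.cancelBaseChange A A₁ B' B'₁ (Disc.Omega A B')).symm y) =
      (⟨Θ h ((unwrap A B').baseChange A A₁ _ _ y)⟩ : Disc.Omega A₁ B'₁) := by
  induction y using TensorProduct.induction_on with
  | zero =>
    rw [map_zero, map_zero, map_zero, map_zero]
    rfl
  | tmul a φ =>
    rw [Algebra.IsPushout.cancelBaseChange_symm_tmul, β₀_tmul, LinearEquiv.baseChange_tmul, Θ_tmul]
    apply Disc.Omega.ext
    apply LinearMap.ext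
    intro x
    show (bcFin h φ).toLinearMap (algebraMap A₁ B'₁ a * x) = a • (h.out.toDual φ.toLinearMap) x
    rw [← Algebra.smul_def, map_smul]
    rfl
  | add x y hx hy =>
    rw [map_add, map_add, map_add, map_add, hx, hy]
    rfl

theorem β₀_bij : Function.Bijective (β₀ h) := by
  have e : ⇑(β₀ h) = (fun f : B'₁ →ₗ[A₁] A₁ => (⟨f⟩ : Disc.Omega A₁ B'₁)) ∘ ⇑(Θ h) ∘
      ⇑((unwrap A B').baseChange A A₁ _ _) ∘
      ⇑(Algebra.IsPushout.cancelBaseChange A A₁ B' B'₁ (Disc.Omega A B')) := by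
    funext x
    have hx := β₀_eq h (Algebra.IsPushout.cancelBaseChange A A₁ B' B'₁ (Disc.Omega A B') x)
    rw [LinearEquiv.symm_apply_apply] at hx
    exact hx
  rw [e]
  have hW : Function.Bijective (fun f : B'₁ →ₗ[A₁] A₁ => (⟨f⟩ : Disc.Omega A₁ B'₁)) :=
    Function.bijective_iff_has_inverse.2 ⟨fun ω => ω.toLinearMap, fun _ => rfl, fun _ => rfl⟩
  exact hW.comp ((LinearEquiv.bijective _).comp
    ((LinearEquiv.bijective _).comp (LinearEquiv.bijective _)))

theorem main (B₁ : Type u) [CommRing B₁] [Algebra B'₁ B₁] [Algebra B' B₁]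
    [IsScalarTower B' B'₁ B₁] : Function.Bijective (omegaBC (B₁ := B₁) h) := by
  obtain ⟨β, hβ⟩ : ∃ β : (B'₁ ⊗[B'] Disc.Omega A B') ≃ₗ[B'₁] Disc.Omega A₁ B'₁,
      ∀ x, β x = β₀ h x := ⟨LinearEquiv.ofBijective (β₀ h) (β₀_bij h), fun _ => rfl⟩
  have key : ∀ x, omegaBC (B₁ := B₁) h x = (LinearEquiv.lTensor B₁ β)
      ((AlgebraTensorModule.cancelBaseChange B' B'₁ B'₁ B₁ (Disc.Omega A B')).symm x) := by
    intro x
    induction x using TensorProduct.induction_on with
    | zero => rw [map_zero, map_zero, map_zero]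
    | tmul b φ =>
      rw [omegaBC_tmul, AlgebraTensorModule.cancelBaseChange_symm_tmul, LinearEquiv.lTensor_tmul,
        hβ, β₀_tmul, one_smul]
    | add x y hx hy => rw [map_add, map_add, map_add, hx, hy]
  have e : ⇑(omegaBC (B₁ := B₁) h) = ⇑(LinearEquiv.lTensor B₁ β) ∘
      ⇑(AlgebraTensorModule.cancelBaseChange B' B'₁ B'₁ B₁ (Disc.Omega A B')).symm := funext key
  rw [e]
  exact (LinearEquiv.bijective _).comp (LinearEquiv.bijective _)

end

end Groth.Agent.Lib.OmegaBCH4
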