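import Groth.Agent.Lib.GorFrob2_helper6
import Groth.Agent.Lib.OmegaBC_helper4

/-!
# Gorenstein finite algebras over a field are exactly the Frobenius ones (helper6), part 3

`exists_equiv_of_gorenstein`: `C` Gorenstein ⇒ `C ≃ₗ[C] Hom_κ(C, κ)`;
`injective_omega`: `Hom_κ(C, κ)` is an injective `C`-module;
`isGorensteinRing_of_equiv`: `C ≃ₗ[C] Hom_κ(C, κ)` ⇒ `C` Gorenstein.
APPEND-ONLY once landed.
-/

set_option autoImplicit false
set_option linter.style.haveILetI false
universe u

namespace Groth.Agent.Lib.GorFrobH6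

open IsLocalRing CategoryTheory

section Equiv

variable (κ : Type u) [Field κ] (C : Type u) [CommRing C] [Algebra κ C] [Module.Finite κ C]

attribute [local instance] Groth.Agent.Lib.OmegaBCH4.modA

/-- a form whose kernel contains no nonzero ideal gives `C ≃ ω_{C/κ}` -/
theorem exists_equiv_of_form (φ : C →ₗ[κ] κ) (hφ : ∀ c : C, c ≠ 0 → ∃ d : C, φ (d * c) ≠ 0) :
    Nonempty (C ≃ₗ[C] Disc.Omega κ C) := by
  let f : C →ₗ[C] Disc.Omega κ C := LinearMap.toSpanSingleton C (Disc.Omega κ C) ⟨φ⟩
  have hf : ∀ c x : C, (f c).toLinearMap x = φ (c * x) := fun c x => rfl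
  have hinj : Function.Injective f := by
    rw [← LinearMap.ker_eq_bot, LinearMap.ker_eq_bot']
    intro c hc
    by_contra hc0
    obtain ⟨d, hd⟩ := hφ c hc0
    apply hd
    rw [mul_comm, ← hf, hc]
    rfl
  let F : C →ₗ[κ] (C →ₗ[κ] κ) :=
    (Groth.Agent.Lib.OmegaBCH4.unwrap κ C).toLinearMap.comp (f.restrictScalars κ)
  have hFinj : Function.Injective F :=
    (Groth.Agent.Lib.OmegaBCH4.unwrap κ C).injective.comp hinj
  have hFsurj : Function.Surjective F :=
    (LinearMap.injective_iff_surjective_of_finrank_eq_finrank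
      (Subspace.dual_finrank_eq (K := κ) (V := C)).symm).1 hFinj
  have hsurj : Function.Surjective f := by
    intro ω
    obtain ⟨c, hc⟩ := hFsurj ω.toLinearMap
    exact ⟨c, Disc.Omega.ext hc⟩
  exact ⟨LinearEquiv.ofBijective f ⟨hinj, hsurj⟩⟩

/-- **Gorenstein ⇒ Frobenius** for finite algebras over a field -/
theorem exists_equiv_of_gorenstein (hG : LocCoh.IsGorensteinRing C) :
    Nonempty (C ≃ₗ[C] Disc.Omega κ C) := by
  obtain ⟨φ, hφ⟩ := exists_form κ C hG
  exact exists_equiv_of_form κ C φ hφ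

omit [Module.Finite κ C] in
/-- `ω_{C/κ} = Hom_κ(C, κ)` is an injective `C`-module -/
theorem injective_omega : Module.Injective C (Disc.Omega κ C) := by
  apply Module.Baer.injective
  intro I g
  -- the κ-linear form `x ↦ g(x)(1)` on `I`
  let ψ : (I.restrictScalars κ) →ₗ[κ] κ :=
    { toFun := fun x => (g ⟨x.1, x.2⟩).toLinearMap 1
      map_add' := fun x y => by
        have : (⟨(x + y).1, (x + y).2⟩ : I) = ⟨x.1, x.2⟩ + ⟨y.1, y.2⟩ := rfl
        rw [this, map_add]
        rfl
      map_smul' := fun a x => by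
        have : (⟨(a • x).1, (a • x).2⟩ : I) = (algebraMap κ C a) • (⟨x.1, x.2⟩ : I) := by
          apply Subtype.ext
          show a • x.1 = algebraMap κ C a * x.1
          rw [Algebra.smul_def]
        rw [this, map_smul, RingHom.id_apply]
        show (g ⟨x.1, x.2⟩).toLinearMap (algebraMap κ C a * 1) = a • _
        rw [← Algebra.smul_def, map_smul] }
  obtain ⟨Ψ, hΨ⟩ := LinearMap.exists_extend ψ
  refine ⟨LinearMap.toSpanSingleton C (Disc.Omega κ C) ⟨Ψ⟩, fun x hx => ?_⟩
  apply Disc.Omega.ext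
  apply LinearMap.ext
  intro c
  show Ψ (x * c) = (g ⟨x, hx⟩).toLinearMap c
  have hxc : x * c ∈ I := I.mul_mem_right c hx
  have h1 : Ψ (x * c) = ψ ⟨x * c, hxc⟩ := by
    rw [← hΨ]
    rfl
  rw [h1]
  show (g ⟨x * c, hxc⟩).toLinearMap 1 = _
  have h2 : (⟨x * c, hxc⟩ : I) = c • (⟨x, hx⟩ : I) := by
    apply Subtype.ext
    show x * c = c * x
    rw [mul_comm]
  rw [h2, map_smul]
  show (g ⟨x, hx⟩).toLinearMap (c * 1) = _
  rw [mul_one]

/-- **Frobenius ⇒ Gorenstein** for finite algebras over a field -/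
theorem isGorensteinRing_of_equiv (e : C ≃ₗ[C] Disc.Omega κ C) : LocCoh.IsGorensteinRing C := by
  haveI : IsArtinianRing C := IsArtinianRing.of_finite κ C
  haveI : IsNoetherianRing C := inferInstance
  haveI := injective_omega κ C
  have hinj : Module.Injective C C := Groth.Agent.Matlis.injective_of_linearEquiv e
  haveI : Injective (ModuleCat.of C C) := Module.injective_object_of_injective_module C C
  have h1 : HasInjectiveDimensionLT (ModuleCat.of C C) (0 + 1) :=
    injective_iff_hasInjectiveDimensionLT_one.1 inferInstance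
  refine ⟨fun Q hQ => ?_⟩
  haveI : IsNoetherianRing (Localization.AtPrime Q) :=
    IsLocalization.isNoetherianRing Q.primeCompl _ inferInstance
  exact { exists_hasInjectiveDimensionLT := ⟨0 + 1, Groth.Agent.Gor.injDim_localization 0 h1 Q⟩ }

end Equiv

end Groth.Agent.Lib.GorFrobH6
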