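import Mathlib
import Groth.Agent.Lib.GorLCI_helper9
import Groth.Agent.Lib.SchDual_helper6
import Groth.Prelude.Def_Dual3

/-!
# Gorenstein schemes: affine-local description (helper9)
APPEND-ONLY once landed.
-/

set_option autoImplicit false
universe u

namespace Groth.Agent.GorSch9

open AlgebraicGeometry CategoryTheory Limits IsLocalRing
open Groth.Agent.GorFlat9

variable {X : Scheme.{u}}

/-- sections over an affine open of a Gorenstein scheme form a Gorenstein ring -/
theorem isGorRing_of_isGorenstein (hX : Dual3.IsGorenstein X) (V : X.Opens) (hV : IsAffineOpen V) :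
    LocCoh.IsGorensteinRing Γ(X, V) := by
  haveI := hX.1
  haveI : IsNoetherianRing Γ(X, V) :=
    Groth.Agent.Lib.SchDual_helper6.isNoetherianRing_of_chart (A := Γ(X, V)) hV.fromSpec
  refine { isGorensteinLocalRing_localization := fun p hp => ?_ }
  have e := Groth.Agent.Lib.SchDual_helper6.stalkEquiv (A := Γ(X, V)) hV.fromSpec ⟨p, hp⟩
  exact (gorenstein_congr e).1 (hX.2 _)

/-- stalks at points of an affine open with Gorenstein ring of sections are Gorenstein -/
theorem gor_stalk_of_isGorRing (V : X.Opens) (hV : IsAffineOpen V)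
    (h : LocCoh.IsGorensteinRing Γ(X, V)) (x : X) (hx : x ∈ V) :
    LocCoh.IsGorensteinLocalRing (X.presheaf.stalk x) := by
  obtain ⟨p, rfl⟩ : ∃ p, hV.fromSpec p = x :=
    ⟨hV.primeIdealOf ⟨x, hx⟩, hV.fromSpec_primeIdealOf ⟨x, hx⟩⟩
  have e := Groth.Agent.Lib.SchDual_helper6.stalkEquiv (A := Γ(X, V)) hV.fromSpec p
  exact (gorenstein_congr e).2 (h.isGorensteinLocalRing_localization p.asIdeal)

/-- a scheme covered by affine opens with Gorenstein rings of sections is Gorenstein -/
theorem isGorenstein_of_cover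
    (h : ∀ x : X, ∃ U : X.affineOpens, x ∈ U.1 ∧ LocCoh.IsGorensteinRing Γ(X, U.1)) :
    Dual3.IsGorenstein X := by
  choose U hxU hU using h
  refine ⟨?_, fun x => gor_stalk_of_isGorRing (U x).1 (U x).2 (hU x) x (hxU x)⟩
  refine isLocallyNoetherian_of_affine_cover (S := U) ?_ (fun x => (hU x).toIsNoetherian)
  rw [eq_top_iff]
  intro x _
  exact TopologicalSpace.Opens.mem_iSup.2 ⟨x, hxU x⟩

end Groth.Agent.GorSch9
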