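import Groth.Agent.Lib.Gorenstein_helper5

/-!
# More on Gorenstein rings (helper5)

* `depth_pos_iff`: over a Gorenstein local ring of dimension `n`, `depth M > 0 ↔ Ext^n(M, R) = 0`;
* `ext_one_reflexive`: if `id_S S ≤ 1` then `Ext¹(M, S) = 0` for finite reflexive `M`.
-/

set_option autoImplicit false
set_option maxHeartbeats 400000
universe u
open CategoryTheory CategoryTheory.Limits Abelian IsLocalRing RingTheory.Sequence
open Pointwise

namespace Groth.Agent.Gor

open Groth.Agent.TorLES Groth.Agent.DepthLib Groth.Agent.Serre Groth.Agent.InjDimLocal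
  Groth.Agent.GlDim Groth.Agent.RegularLib

theorem depth_pos_iff (R : Type u) [CommRing R] [IsLocalRing R] [IsNoetherianRing R]
    (hinj : ∃ N, HasInjectiveDimensionLT (ModuleCat.of R R) N) (n : ℕ)
    (hn : ringKrullDim R = n) (M : Type u) [AddCommGroup M] [Module R M] [Module.Finite R M]
    [Nontrivial M] :
    0 < LocCoh.depth R M ↔ Subsingleton (Ext (ModuleCat.of R M) (ModuleCat.of R R) n) := by
  obtain ⟨r, hr1, hr2⟩ := exists_injDim R R hinj
  obtain ⟨t, ht⟩ := depth_exists R
  have h1 := injDim_le_depth R R t r ht hr1 hr2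
  have h2 := depth_lt_of_hasInjectiveDimensionLT R R t (r + 1) ht hr1
  have hrt : r = t := by omega
  have h3 := dim_eq_depth t R hinj ht
  have hnt : n = t := by
    rw [hn] at h3
    exact_mod_cast h3
  subst hrt
  subst hnt
  have hne : maximalIdeal R • (⊤ : Submodule R M) ≠ ⊤ :=
    fun h => not_subsingleton M (Groth.Agent.AB.subsingleton_of_smul_top R M h)
  constructor
  · intro hpos
    have h1' : 1 ≤ LocCoh.idealDepth (maximalIdeal R) M := Order.one_le_iff_pos.mpr hpos
    rw [one_le_idealDepth_iff] at h1'
    rcases h1' with htop | ⟨x, hx, hreg⟩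
    · exact absurd htop hne
    have hS := hreg.smulShortComplex_shortExact (M := ModuleCat.of R M)
    have hall : ∀ e : Ext (ModuleCat.of R M) (ModuleCat.of R R) n, ∃ e' :
        Ext (ModuleCat.of R M) (ModuleCat.of R R) n, x • e' = e := by
      intro e
      obtain ⟨e', he'⟩ := Ext.contravariant_sequence_exact₁ hS (ModuleCat.of R R) e
        (add_comm 1 n)
        ((hasInjectiveDimensionLT_iff (X := ModuleCat.of R R) (n := n + 1)).mp hr1
          (n + 1) le_rfl _)
      exact ⟨e', (mk₀_smul_id_comp x n e').symm.trans he'⟩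
    haveI : Module.Finite R (ModuleCat.of R M) := inferInstanceAs (Module.Finite R M)
    haveI : Module.Finite R (ModuleCat.of R R) := inferInstanceAs (Module.Finite R R)
    have hfin : Module.Finite R (Ext (ModuleCat.of R M) (ModuleCat.of R R) n) :=
      ModuleCat.finite_ext R _ _ n
    have hbot : (⊤ : Submodule R (Ext (ModuleCat.of R M) (ModuleCat.of R R) n)) = ⊥ := by
      apply Submodule.eq_bot_of_le_smul_of_le_jacobson_bot (maximalIdeal R) _ hfin.fg_top
      · intro e _
        obtain ⟨e', rfl⟩ := hall e
        exact Submodule.smul_mem_smul hx trivial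
      · exact IsLocalRing.maximalIdeal_le_jacobson ⊥
    exact (Submodule.subsingleton_iff R).mp (subsingleton_of_bot_eq_top hbot.symm)
  · intro hsub
    by_contra hpos
    have h0 : ¬ 1 ≤ LocCoh.idealDepth (maximalIdeal R) M :=
      fun h => hpos (Order.one_le_iff_pos.mp h)
    obtain ⟨z, hz, hmz⟩ := Groth.Agent.AB.exists_socle_of_depth_zero R M h0
    obtain ⟨ι, hι⟩ := exists_injective_residue z hz hmz
    apply not_subsingleton_ext_top R R n hr1 hr2
    refine ⟨fun a b => ?_⟩
    have key : ∀ e : Ext (ModuleCat.of R (ResidueField R)) (ModuleCat.of R R) n, e = 0 := by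
      intro e
      have hex := LinearMap.exact_map_mkQ_range ι
      have hp := Submodule.mkQ_surjective (LinearMap.range ι)
      have hS := mk_shortExact ι (LinearMap.range ι).mkQ hι hex hp
      obtain ⟨e₂, he₂⟩ := Ext.contravariant_sequence_exact₁ hS (ModuleCat.of R R) e
        (add_comm 1 n)
        ((hasInjectiveDimensionLT_iff (X := ModuleCat.of R R) (n := n + 1)).mp hr1
          (n + 1) le_rfl _)
      have h0 : e₂ = 0 := @Subsingleton.elim _ hsub _ _
      rw [← he₂, h0, Ext.comp_zero]
      rfl
    rw [key a, key b]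

theorem ext_one_reflexive (S : Type u) [CommRing S] [IsNoetherianRing S]
    (hinj : HasInjectiveDimensionLT (ModuleCat.of S S) 2)
    (M : Type u) [AddCommGroup M] [Module S M] [Module.Finite S M] [Module.IsReflexive S M] :
    Subsingleton (Ext (ModuleCat.of S M) (ModuleCat.of S S) 1) := by
  haveI : IsNoetherian S (Module.Dual S M) := isNoetherian_linearMap S S M
  haveI : Module.Finite S (Module.Dual S M) := Module.IsNoetherian.finite S _
  obtain ⟨b, π, hπ⟩ := Module.Finite.exists_fin' S (Module.Dual S M)
  let j : M →ₗ[S] Module.Dual S (Fin b → S) :=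
    π.dualMap ∘ₗ (Module.evalEquiv S M).toLinearMap
  have hj : Function.Injective j :=
    (LinearMap.dualMap_injective_of_surjective hπ).comp (Module.evalEquiv S M).injective
  haveI : Module.Free S (Module.Dual S (Fin b → S)) :=
    inferInstanceAs (Module.Free S ((Fin b → S) →ₗ[S] S))
  haveI : Projective (ModuleCat.of S (Module.Dual S (Fin b → S))) :=
    (IsProjective.iff_projective (R := S) (P := Module.Dual S (Fin b → S))).mp inferInstance
  have hex := LinearMap.exact_map_mkQ_range j
  have hp := Submodule.mkQ_surjective (LinearMap.range j)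
  have hS := mk_shortExact j (LinearMap.range j).mkQ hj hex hp
  refine ⟨fun a c => ?_⟩
  have key : ∀ e : Ext (ModuleCat.of S M) (ModuleCat.of S S) 1, e = 0 := by
    intro e
    obtain ⟨e₂, he₂⟩ := Ext.contravariant_sequence_exact₁ hS (ModuleCat.of S S) e
      (rfl : 1 + 1 = 2)
      ((hasInjectiveDimensionLT_iff (X := ModuleCat.of S S) (n := 2)).mp hinj 2 le_rfl _)
    have h0 : e₂ = 0 :=
      (hasProjectiveDimensionLT_iff (X := ModuleCat.of S (Module.Dual S (Fin b → S)))
        (n := 1)).mp inferInstance 1 le_rfl e₂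
    rw [← he₂, h0, Ext.comp_zero]
    rfl
  rw [key a, key c]

end Groth.Agent.Gor
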