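import Mathlib

/-!
# Graded completeness of finitely generated projective graded modules
-/

namespace Groth.Agent.Lib.GrComplete

open DirectSum

universe u v

variable {S : Type u} [CommRing S] (𝒜 : ℤ → AddSubgroup S) [GradedRing 𝒜]
  {M : Type v} [AddCommGroup M] [Module S M] (ℳ : ℤ → AddSubgroup M)
  [DirectSum.Decomposition ℳ] [SetLike.GradedSMul 𝒜 ℳ]

/-- degree-`n` component of `y • x` for `x` homogeneous of degree `d` -/
lemma decompose_smul_of_mem (y : S) {x : M} {d : ℤ} (hx : x ∈ ℳ d) (n : ℤ) :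
    ((decompose ℳ (y • x)) n : M) = ((decompose 𝒜 y) (n - d) : S) • x := by
  classical
  induction y using DirectSum.Decomposition.inductionOn 𝒜 with
  | zero => simp
  | @homogeneous j a =>
    have hax : (a : S) • x ∈ ℳ (j + d) := by
      have := SetLike.GradedSMul.smul_mem (A := 𝒜) (B := ℳ) a.2 hx
      simpa [vadd_eq_add] using this
    by_cases h : j + d = n
    · subst h
      rw [decompose_of_mem_same ℳ hax, add_sub_cancel_right, decompose_of_mem_same 𝒜 a.2]
    · have h' : j ≠ n - d := fun e => h (by omega)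
      rw [decompose_of_mem_ne ℳ hax h, decompose_of_mem_ne 𝒜 a.2 h', zero_smul]
  | add a b ha hb =>
    rw [add_smul, decompose_add, DirectSum.add_apply, AddMemClass.coe_add, ha, hb, decompose_add,
      DirectSum.add_apply, AddMemClass.coe_add, add_smul]

theorem graded_complete (V : ℕ → HomogeneousIdeal 𝒜)
    (hsep : ∀ (n : ℤ) (s : S), s ∈ 𝒜 n → (∀ m, s ∈ (V m).toIdeal) → s = 0)
    (hcpl : ∀ (n : ℤ) (f : ℕ → S), (∀ m, f m ∈ 𝒜 n) →
      (∀ m, f (m + 1) - f m ∈ (V m).toIdeal) → ∃ s ∈ 𝒜 n, ∀ m, s - f m ∈ (V m).toIdeal)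
    [Module.Finite S M] [Module.Projective S M] :
    (∀ (n : ℤ) (x : M), x ∈ ℳ n → (∀ m, x ∈ (V m).toIdeal • (⊤ : Submodule S M)) → x = 0) ∧
    (∀ (n : ℤ) (g : ℕ → M), (∀ m, g m ∈ ℳ n) →
      (∀ m, g (m + 1) - g m ∈ (V m).toIdeal • (⊤ : Submodule S M)) →
      ∃ x ∈ ℳ n, ∀ m, x - g m ∈ (V m).toIdeal • (⊤ : Submodule S M)) := by
  classical
  obtain ⟨T, hT⟩ := (Module.finite_def.mp (inferInstance : Module.Finite S M))
  let D : Finset ℤ := T.biUnion (fun t => (decompose ℳ t).support)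
  let x : (↥T × ↥D) → M := fun p => ((decompose ℳ (p.1 : M)) (p.2 : ℤ) : M)
  have hxmem : ∀ p : (↥T × ↥D), x p ∈ ℳ (p.2 : ℤ) := fun p => SetLike.coe_mem _
  have hspan : Submodule.span S (Set.range x) = ⊤ := by
    rw [eq_top_iff, ← hT, Submodule.span_le]
    intro t ht
    have h1 : (∑ j ∈ (decompose ℳ t).support, ((decompose ℳ t) j : M)) ∈
        Submodule.span S (Set.range x) := by
      refine Submodule.sum_mem _ fun j hj => Submodule.subset_span ?_
      exact ⟨(⟨t, ht⟩, ⟨j, Finset.mem_biUnion.mpr ⟨t, ht, hj⟩⟩), rfl⟩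
    rwa [DirectSum.sum_support_decompose] at h1
  have hπ : Function.Surjective (Fintype.linearCombination S x) := by
    rw [← LinearMap.range_eq_top, Fintype.range_linearCombination, hspan]
  obtain ⟨σ, hσ⟩ := Module.projective_lifting_property (Fintype.linearCombination S x)
    LinearMap.id hπ
  have hσ' : ∀ z, ∑ i, σ z i • x i = z := fun z => by
    have := LinearMap.congr_fun hσ z
    simpa [Fintype.linearCombination_apply] using this
  have hcoord : ∀ (m : ℕ) (z : M), z ∈ (V m).toIdeal • (⊤ : Submodule S M) →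
      ∀ i, σ z i ∈ (V m).toIdeal := by
    intro m z hz
    refine Submodule.smul_induction_on hz ?_ ?_
    · intro v hv y _ i
      rw [map_smul, Pi.smul_apply, smul_eq_mul]
      exact Ideal.mul_mem_right _ _ hv
    · intro a b ha hb i
      rw [map_add, Pi.add_apply]
      exact Ideal.add_mem _ (ha i) (hb i)
  have hcomp : ∀ (m : ℕ) (y : S), y ∈ (V m).toIdeal → ∀ j,
      ((decompose 𝒜 y) j : S) ∈ (V m).toIdeal := fun m y hy j => (V m).isHomogeneous j hy
  have hdeg : ∀ (n : ℤ) (z : M), z ∈ ℳ n →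
      z = ∑ i, ((decompose 𝒜 (σ z i)) (n - (i.2 : ℤ)) : S) • x i := by
    intro n z hz
    calc z = ((decompose ℳ z) n : M) := (decompose_of_mem_same ℳ hz).symm
      _ = ((decompose ℳ (∑ i, σ z i • x i)) n : M) := by rw [hσ' z]
      _ = ∑ i, ((decompose 𝒜 (σ z i)) (n - (i.2 : ℤ)) : S) • x i := by
        rw [decompose_sum, DFinsupp.finsetSum_apply, AddSubmonoidClass.coe_finsetSum]
        refine Finset.sum_congr rfl fun i _ => ?_
        exact decompose_smul_of_mem 𝒜 ℳ (σ z i) (hxmem i) n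
  refine ⟨?_, ?_⟩
  · intro n z _ hzV
    have h0 : ∀ i, σ z i = 0 := by
      intro i
      have h2 : ∀ j, ((decompose 𝒜 (σ z i)) j : S) = 0 := fun j =>
        hsep j _ (SetLike.coe_mem _) (fun m => hcomp m _ (hcoord m z (hzV m) i) j)
      rw [← DirectSum.sum_support_decompose 𝒜 (σ z i)]
      exact Finset.sum_eq_zero fun j _ => h2 j
    rw [← hσ' z]
    simp [h0]
  · intro n g hg hgV
    have hex : ∀ i : (↥T × ↥D), ∃ s ∈ 𝒜 (n - (i.2 : ℤ)), ∀ m,
        s - ((decompose 𝒜 (σ (g m) i)) (n - (i.2 : ℤ)) : S) ∈ (V m).toIdeal := by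
      intro i
      apply hcpl (n - (i.2 : ℤ)) (fun m => ((decompose 𝒜 (σ (g m) i)) (n - (i.2 : ℤ)) : S))
      · intro m
        exact SetLike.coe_mem _
      · intro m
        have h1 := hcomp m _ (hcoord m _ (hgV m) i) (n - (i.2 : ℤ))
        rw [map_sub, Pi.sub_apply, decompose_sub, DirectSum.sub_apply,
          AddSubgroupClass.coe_sub] at h1
        exact h1
    choose s hs hsV using hex
    refine ⟨∑ i, s i • x i, ?_, ?_⟩
    · refine sum_mem fun i _ => ?_
      have := SetLike.GradedSMul.smul_mem (A := 𝒜) (B := ℳ) (hs i) (hxmem i)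
      simpa [vadd_eq_add] using this
    · intro m
      rw [hdeg n (g m) (hg m), ← Finset.sum_sub_distrib]
      refine Submodule.sum_mem _ fun i _ => ?_
      rw [← sub_smul]
      exact Submodule.smul_mem_smul (hsV i m) Submodule.mem_top

end Groth.Agent.Lib.GrComplete
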