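import Mathlib

namespace Groth.Agent.Lib.GrDeg

open Finset

variable {R A : Type*} [CommRing R] [CommRing A] [Algebra R A]
  (𝒜 : ℕ → Submodule R A) [GradedAlgebra 𝒜]
variable {s : ℕ} (f : Fin s → A) (deg : Fin s → ℕ)

/-- monomial -/
def mon (a : Fin s → ℕ) : A := ∏ i, f i ^ a i

theorem gmul (i j : ℕ) : 𝒜 i * 𝒜 j ≤ 𝒜 (i + j) :=
  Submodule.mul_le.mpr fun _ hx _ hy => SetLike.mul_mem_graded hx hy

theorem mon_mem (hf : ∀ i, f i ∈ 𝒜 (deg i)) (a : Fin s → ℕ) :
    mon f a ∈ 𝒜 (∑ i, a i * deg i) := by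
  unfold mon
  refine SetLike.prod_mem_graded 𝒜 (fun i => a i * deg i) (fun i => f i ^ a i) (fun i _ => ?_)
  have := SetLike.pow_mem_graded (A := 𝒜) (a i) (hf i)
  rwa [smul_eq_mul] at this

theorem span_mon (hf : ∀ i, f i ∈ 𝒜 (deg i))
    (hgen : Algebra.adjoin R (Set.range f) = ⊤) (m : ℕ) :
    𝒜 m ≤ Submodule.span R {μ | ∃ a : Fin s → ℕ, μ = mon f a ∧ ∑ i, a i * deg i = m} := by
  classical
  intro x hx
  have hx_top : x ∈ Subalgebra.toSubmodule (Algebra.adjoin R (Set.range f)) := by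
    rw [hgen, Algebra.top_toSubmodule]; exact Submodule.mem_top
  rw [Algebra.adjoin_eq_span] at hx_top
  have hproj : GradedAlgebra.proj 𝒜 m x = x := by
    rw [GradedAlgebra.proj_apply, DirectSum.decompose_of_mem_same 𝒜 hx]
  have hcl : ∀ y ∈ Submonoid.closure (Set.range f), ∃ a : Fin s → ℕ, y = mon f a := by
    let T : Submonoid A :=
      { carrier := {y | ∃ a : Fin s → ℕ, y = mon f a}
        one_mem' := ⟨0, by simp [mon]⟩
        mul_mem' := by
          rintro _ _ ⟨a, rfl⟩ ⟨b, rfl⟩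
          exact ⟨a + b, by simp [mon, pow_add, Finset.prod_mul_distrib]⟩ }
    have hT : Submonoid.closure (Set.range f) ≤ T := by
      rw [Submonoid.closure_le]
      rintro _ ⟨i, rfl⟩
      refine ⟨Pi.single i 1, ?_⟩
      rw [mon, Finset.prod_eq_single i
        (fun j _ hji => by rw [Pi.single_eq_of_ne hji, pow_zero])
        (fun h => absurd (Finset.mem_univ i) h), Pi.single_eq_same, pow_one]
    exact fun y hy => hT hy
  have hle : Submodule.span R (Submonoid.closure (Set.range f) : Set A) ≤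
      (Submodule.span R {μ | ∃ a : Fin s → ℕ, μ = mon f a ∧ ∑ i, a i * deg i = m}).comap
        (GradedAlgebra.proj 𝒜 m) := by
    rw [Submodule.span_le]
    intro y hy
    obtain ⟨a, rfl⟩ := hcl y hy
    show GradedAlgebra.proj 𝒜 m (mon f a) ∈
      Submodule.span R {μ | ∃ a : Fin s → ℕ, μ = mon f a ∧ ∑ i, a i * deg i = m}
    by_cases h : ∑ i, a i * deg i = m
    · have hm := mon_mem 𝒜 f deg hf a
      rw [h] at hm
      rw [GradedAlgebra.proj_apply, DirectSum.decompose_of_mem_same 𝒜 hm]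
      exact Submodule.subset_span ⟨a, rfl, h⟩
    · rw [GradedAlgebra.proj_apply,
        DirectSum.decompose_of_mem_ne 𝒜 (mon_mem 𝒜 f deg hf a) h]
      exact Submodule.zero_mem _
  have h3 := hle hx_top
  rw [Submodule.mem_comap, hproj] at h3
  exact h3

theorem fact (hf : ∀ i, f i ∈ 𝒜 (deg i)) (L : ℕ) (hLpos : 0 < L) (hdvd : ∀ i, deg i ∣ L)
    (hdeg : ∀ i, 0 < deg i) (n : ℕ) (hn : (s - 1) * (L - 1) ≤ n) (a : Fin s → ℕ)
    (ha : ∑ i, a i * deg i = n + L) : mon f a ∈ 𝒜 n * 𝒜 L := by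
  classical
  obtain ⟨i, hi⟩ : ∃ i, L ≤ a i * deg i := by
    by_contra hcon
    push_neg at hcon
    have h1 : ∑ i, a i * deg i ≤ (Finset.univ : Finset (Fin s)).card • (L - 1) :=
      Finset.sum_le_card_nsmul _ _ _ (fun i _ => by have := hcon i; omega)
    rw [Finset.card_univ, Fintype.card_fin, smul_eq_mul, ha] at h1
    rcases Nat.eq_zero_or_pos s with hs | hs
    · rw [hs, zero_mul] at h1; omega
    · have hs' : s = (s - 1) + 1 := by omega
      have h2 : s * (L - 1) = (s - 1) * (L - 1) + (L - 1) := by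
        conv_lhs => rw [hs']
        ring
      rw [h2] at h1
      omega
  have hmL : L / deg i * deg i = L := Nat.div_mul_cancel (hdvd i)
  obtain ⟨m, hm⟩ : ∃ m, m = L / deg i := ⟨_, rfl⟩
  rw [← hm] at hmL
  have ham : m ≤ a i := by
    have : m * deg i ≤ a i * deg i := by rw [hmL]; exact hi
    exact Nat.le_of_mul_le_mul_right this (hdeg i)
  let a' : Fin s → ℕ := fun j => if j = i then a i - m else a j
  have haa : ∀ j, a j = a' j + (if j = i then m else 0) := by
    intro j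
    by_cases h : j = i
    · rw [h]
      show a i = (if i = i then a i - m else a i) + (if i = i then m else 0)
      rw [if_pos rfl, if_pos rfl]; omega
    · show a j = (if j = i then a i - m else a j) + (if j = i then m else 0)
      rw [if_neg h, if_neg h, add_zero]
  have hprod : mon f a = mon f a' * f i ^ m := by
    unfold mon
    have h4 : ∀ j, f j ^ a j = f j ^ a' j * f j ^ (if j = i then m else 0) := by
      intro j; rw [← pow_add, ← haa j]
    rw [Finset.prod_congr rfl (fun j _ => h4 j), Finset.prod_mul_distrib]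
    congr 1
    rw [Finset.prod_eq_single i (fun j _ hji => by rw [if_neg hji, pow_zero])
      (fun h => absurd (Finset.mem_univ i) h), if_pos rfl]
  have hsum : ∑ j, a' j * deg j = n := by
    have h1 : ∑ j, a j * deg j = ∑ j, a' j * deg j + m * deg i := by
      have h5 : ∀ j, a j * deg j = a' j * deg j + (if j = i then m * deg j else 0) := by
        intro j
        by_cases h : j = i
        · rw [if_pos h]; conv_lhs => rw [haa j, if_pos h]
          ring
        · rw [if_neg h]; conv_lhs => rw [haa j, if_neg h]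
          ring
      rw [Finset.sum_congr rfl (fun j _ => h5 j), Finset.sum_add_distrib,
        Finset.sum_ite_eq' Finset.univ i, if_pos (Finset.mem_univ i)]
    rw [ha, hmL] at h1
    omega
  rw [hprod]
  refine Submodule.mul_mem_mul ?_ ?_
  · have := mon_mem 𝒜 f deg hf a'
    rwa [hsum] at this
  · have := SetLike.pow_mem_graded (A := 𝒜) m (hf i)
    rwa [smul_eq_mul, hmL] at this

theorem main1' (hf : ∀ i, f i ∈ 𝒜 (deg i)) (hgen : Algebra.adjoin R (Set.range f) = ⊤)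
    (L : ℕ) (hLpos : 0 < L) (hdvd : ∀ i, deg i ∣ L)
    (hdeg : ∀ i, 0 < deg i) (n : ℕ) (hn : (s - 1) * (L - 1) ≤ n) :
    𝒜 (n + L) = 𝒜 n * 𝒜 L := by
  apply le_antisymm
  · intro x hx
    have h1 := span_mon 𝒜 f deg hf hgen (n + L) hx
    refine (Submodule.span_le.mpr ?_) h1
    rintro _ ⟨a, rfl, ha⟩
    exact fact 𝒜 f deg hf L hLpos hdvd hdeg n hn a ha
  · exact gmul 𝒜 n L

theorem lcm_pos (hdeg : ∀ i, 0 < deg i) : 0 < Finset.univ.lcm deg := by
  apply Nat.pos_of_ne_zero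
  rw [Ne, Finset.lcm_eq_zero_iff]
  rintro ⟨i, _, hi⟩
  exact (hdeg i).ne' hi

theorem main1 (hdeg : ∀ i, 0 < deg i) (hf : ∀ i, f i ∈ 𝒜 (deg i))
    (hgen : Algebra.adjoin R (Set.range f) = ⊤) (n : ℕ)
    (hn : (s - 1) * (Finset.univ.lcm deg - 1) ≤ n) :
    𝒜 (n + Finset.univ.lcm deg) = 𝒜 n * 𝒜 (Finset.univ.lcm deg) :=
  main1' 𝒜 f deg hf hgen _ (lcm_pos deg hdeg)
    (fun i => Finset.dvd_lcm (Finset.mem_univ i)) hdeg n hn

theorem iter (hf : ∀ i, f i ∈ 𝒜 (deg i)) (hgen : Algebra.adjoin R (Set.range f) = ⊤)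
    (L : ℕ) (hLpos : 0 < L) (hdvd : ∀ i, deg i ∣ L)
    (hdeg : ∀ i, 0 < deg i) (n : ℕ) (hn : (s - 1) * (L - 1) ≤ n) :
    ∀ b : ℕ, 𝒜 (n + b * L) = 𝒜 n * (𝒜 L) ^ b := by
  intro b
  induction b with
  | zero => simp
  | succ b ih =>
    have h1 : n + (b + 1) * L = (n + b * L) + L := by ring
    rw [h1, main1' 𝒜 f deg hf hgen L hLpos hdvd hdeg (n + b * L) (by omega), ih, pow_succ,
      mul_assoc]

theorem pow_le (L : ℕ) : ∀ b : ℕ, (𝒜 L) ^ b ≤ 𝒜 (b * L) := by
  intro b
  induction b with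
  | zero => rw [pow_zero, zero_mul, Submodule.one_le]; exact SetLike.one_mem_graded 𝒜
  | succ b ih =>
    rw [pow_succ, show (b + 1) * L = b * L + L by ring]
    exact (Submodule.mul_le.mpr fun x hx y hy => Submodule.mul_mem_mul (ih hx) hy).trans (gmul 𝒜 _ _)

theorem deg_zero (hf : ∀ i, f i ∈ 𝒜 (deg i)) (hgen : Algebra.adjoin R (Set.range f) = ⊤)
    (hdeg : ∀ i, 0 < deg i) : 𝒜 0 = 1 := by
  apply le_antisymm
  · intro x hx
    have h1 := span_mon 𝒜 f deg hf hgen 0 hx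
    refine (Submodule.span_le.mpr ?_) h1
    rintro _ ⟨a, rfl, ha⟩
    have ha0 : ∀ i, a i = 0 := by
      intro i
      have := (Finset.sum_eq_zero_iff.mp ha) i (Finset.mem_univ i)
      rcases Nat.mul_eq_zero.mp this with h | h
      · exact h
      · exact absurd h (hdeg i).ne'
    have h2 : mon f a = 1 := by unfold mon; simp [ha0]
    rw [h2]; exact Submodule.one_le.mp le_rfl
  · rw [Submodule.one_le]; exact SetLike.one_mem_graded 𝒜

theorem main2' (hf : ∀ i, f i ∈ 𝒜 (deg i)) (hgen : Algebra.adjoin R (Set.range f) = ⊤)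
    (L : ℕ) (hLpos : 0 < L) (hdvd : ∀ i, deg i ∣ L)
    (hdeg : ∀ i, 0 < deg i) (a : ℕ) (ha : s - 1 ≤ a) (k : ℕ) :
    𝒜 (k * (a * L)) = 𝒜 (a * L) ^ k := by
  rcases k with _ | k
  · rw [zero_mul, pow_zero]; exact deg_zero 𝒜 f deg hf hgen hdeg
  · induction k with
    | zero => rw [zero_add, one_mul, pow_one]
    | succ k ih =>
      have hthr : (s - 1) * (L - 1) ≤ (k + 1) * (a * L) :=
        (Nat.mul_le_mul ha (Nat.sub_le L 1)).trans
          (Nat.le_mul_of_pos_left _ (Nat.succ_pos k))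
      have h1 : (k + 1 + 1) * (a * L) = (k + 1) * (a * L) + a * L := by ring
      have h2 : 𝒜 ((k + 1) * (a * L) + a * L) = 𝒜 ((k + 1) * (a * L)) * 𝒜 (a * L) := by
        apply le_antisymm
        · rw [iter 𝒜 f deg hf hgen L hLpos hdvd hdeg _ hthr a]
          exact Submodule.mul_le.mpr fun x hx y hy => Submodule.mul_mem_mul hx (pow_le 𝒜 L a hy)
        · exact gmul 𝒜 _ _
      rw [h1, h2, ih, ← pow_succ]

theorem main2 (hdeg : ∀ i, 0 < deg i) (hf : ∀ i, f i ∈ 𝒜 (deg i))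
    (hgen : Algebra.adjoin R (Set.range f) = ⊤) (a : ℕ) (ha : s - 1 ≤ a) (k : ℕ) :
    𝒜 (k * (a * Finset.univ.lcm deg)) = 𝒜 (a * Finset.univ.lcm deg) ^ k :=
  main2' 𝒜 f deg hf hgen _ (lcm_pos deg hdeg)
    (fun i => Finset.dvd_lcm (Finset.mem_univ i)) hdeg a ha k

end Groth.Agent.Lib.GrDeg
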