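import Mathlib
import Groth.Prelude.Def_GrLC
import Groth.Prelude.Def_GrSeg
import Groth.Agent.Lib.GrDual_helper1
import Groth.Agent.Lib.GrExt_helper1
import Groth.Agent.Lib.GrLaurent_helper1

/-! Graded duals over a positively graded algebra over a field: finite-dimensionality of the pieces and
the duality on morphisms (helper1). -/

set_option autoImplicit false

namespace Groth.Agent.Lib.GrDual2H1

open DirectSum GrLC

universe u

section basics

variable {k : Type u} [Field k] {R : Type u} [CommRing R] [Algebra k R]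
  (𝒜 : ℤ → Submodule k R) [GradedAlgebra 𝒜]
variable {M : Type u} [AddCommGroup M] [Module R M] [Module k M] [IsScalarTower k R M]
  (ℳ : ℤ → AddSubgroup M) [Decomposition ℳ] [SetLike.GradedSMul 𝒜 ℳ]

omit [Module k M] [IsScalarTower k R M] [Decomposition ℳ] in
theorem smul_mem_gr {r : R} {a : ℤ} (hr : r ∈ 𝒜 a) {x : M} {n : ℤ} (hx : x ∈ ℳ n) :
    r • x ∈ ℳ (a + n) := by
  have := SetLike.GradedSMul.smul_mem (A := 𝒜) (B := ℳ) hr hx
  rwa [vadd_eq_add] at this

theorem algebraMap_mem_zero (c : k) : algebraMap k R c ∈ 𝒜 0 := by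
  rw [Algebra.algebraMap_eq_smul_one]
  exact (𝒜 0).smul_mem c SetLike.GradedOne.one_mem

/-- the pieces as `k`-subspaces -/
def compk (n : ℤ) : Submodule k M where
  carrier := ℳ n
  add_mem' := fun ha hb => add_mem ha hb
  zero_mem' := zero_mem _
  smul_mem' := fun c x hx => by
    show c • x ∈ ℳ n
    rw [← algebraMap_smul R c x]
    have := smul_mem_gr 𝒜 ℳ (algebraMap_mem_zero 𝒜 c) hx
    rwa [zero_add] at this

omit [Module k M] [IsScalarTower k R M] in
theorem decompose_smul_of_mem {x : M} {g : ℤ} (hx : x ∈ ℳ g) (s : R) (n : ℤ) :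
    (decompose ℳ (s • x) n : M) = (decompose 𝒜 s (n - g) : R) • x := by
  induction s using DirectSum.Decomposition.inductionOn 𝒜 with
  | zero => simp
  | @homogeneous i m =>
    by_cases e : i + g = n
    · subst e
      rw [decompose_of_mem_same ℳ (smul_mem_gr 𝒜 ℳ m.2 hx), add_sub_cancel_right,
        decompose_of_mem_same 𝒜 m.2]
    · rw [decompose_of_mem_ne ℳ (smul_mem_gr 𝒜 ℳ m.2 hx) e,
        decompose_of_mem_ne 𝒜 m.2 (fun h => e (by rw [h, sub_add_cancel])), zero_smul]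
  | add m m' hm hm' =>
    rw [add_smul, decompose_add, DirectSum.add_apply, AddSubgroup.coe_add, hm, hm', decompose_add,
      DirectSum.add_apply, Submodule.coe_add, add_smul]

end basics

section fd

variable {k : Type u} [Field k] {R : Type u} [CommRing R] [Algebra k R]
  (𝒜 : ℤ → Submodule k R) [GradedAlgebra 𝒜] [Algebra.FiniteType k R]
  (hposR : ∀ n : ℤ, n < 0 → 𝒜 n = ⊥) (h0R : 𝒜 0 = Submodule.span k {(1 : R)})

include hposR h0R

theorem finiteDimensional_piece_ring : ∀ n : ℤ, FiniteDimensional k (𝒜 n) := by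
  classical
  haveI : IsNoetherianRing R := Algebra.FiniteType.isNoetherianRing k R
  have hneg : ∀ {j : ℤ} (z : R), z ∈ 𝒜 j → j < 0 → z = 0 := fun {j} z hz hj => by
    rw [hposR j hj] at hz
    exact (Submodule.mem_bot k).mp hz
  let I : Ideal R := Ideal.span (⋃ n ∈ Set.Ioi (0 : ℤ), (𝒜 n : Set R))
  have hIhom : I.IsHomogeneous 𝒜 := Ideal.homogeneous_span 𝒜 _ (by
    intro x hx
    obtain ⟨n, _, hxn⟩ := Set.mem_iUnion₂.mp hx
    exact ⟨n, hxn⟩)
  let mR : HomogeneousIdeal 𝒜 := ⟨I, hIhom⟩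
  have hzero : ∀ x ∈ I, (decompose 𝒜 x 0 : R) = 0 := fun x hx =>
    GrDualH1.decompose_zero_eq_zero_of_mem 𝒜 hposR mR rfl hx
  obtain ⟨S, hS⟩ := (IsNoetherian.noetherian I : I.FG)
  let T : Finset (R × ℤ) := S.biUnion
    (fun x => (decompose 𝒜 x).support.image (fun i => ((decompose 𝒜 x i : R), i)))
  have hT : ∀ p ∈ T, p.1 ∈ 𝒜 p.2 ∧ 0 < p.2 := by
    intro p hp
    obtain ⟨x, hxS, hp⟩ := Finset.mem_biUnion.mp hp
    obtain ⟨i, hi, rfl⟩ := Finset.mem_image.mp hp
    have hxI : x ∈ I := by rw [← hS]; exact Submodule.subset_span hxS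
    refine ⟨(decompose 𝒜 x i).2, ?_⟩
    have hne : (decompose 𝒜 x i : R) ≠ 0 := by
      rw [DFinsupp.mem_support_iff] at hi
      intro h; exact hi (Subtype.ext h)
    by_contra hle
    rcases lt_or_eq_of_le (not_lt.mp hle) with h | h
    · exact hne (hneg _ (decompose 𝒜 x i).2 h)
    · apply hne
      have hi0 : i = 0 := h
      rw [hi0]
      exact hzero x hxI
  have hspan : I ≤ Submodule.span R (Set.range (fun p : T => p.1.1)) := by
    rw [← hS, Submodule.span_le]
    intro x hx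
    rw [SetLike.mem_coe, ← DirectSum.sum_support_decompose 𝒜 x]
    refine Submodule.sum_mem _ (fun i hi => Submodule.subset_span ?_)
    have hp : ((decompose 𝒜 x i : R), i) ∈ T :=
      Finset.mem_biUnion.mpr ⟨x, hx, Finset.mem_image.mpr ⟨i, hi, rfl⟩⟩
    exact ⟨⟨_, hp⟩, rfl⟩
  have key : ∀ N : ℕ, ∀ n : ℤ, n ≤ N → FiniteDimensional k (𝒜 n) := by
    intro N
    induction N with
    | zero =>
      intro n hn
      rcases lt_or_eq_of_le hn with h | h
      · rw [hposR n (by exact_mod_cast h)]; infer_instance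
      · have hn0 : n = 0 := by exact_mod_cast h
        rw [hn0, h0R]; infer_instance
    | succ N ih =>
      intro n hn
      by_cases hnN : n ≤ N
      · exact ih n hnN
      · have hnpos : 0 < n := by omega
        haveI : ∀ p : T, FiniteDimensional k (𝒜 (n - p.1.2)) := fun p =>
          ih _ (by have := (hT p.1 p.2).2; push_cast at hn; omega)
        let W : Submodule k R := ⨆ p : T, (𝒜 (n - p.1.2)).map (LinearMap.mulRight k p.1.1)
        haveI : FiniteDimensional k W := inferInstance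
        have hle : 𝒜 n ≤ W := by
          intro y hy
          have hyI : y ∈ I :=
            Ideal.subset_span (Set.mem_biUnion (show n ∈ Set.Ioi (0 : ℤ) from hnpos) hy)
          obtain ⟨c, hc⟩ := (Submodule.mem_span_range_iff_exists_fun R).mp (hspan hyI)
          have hy2 : y = ∑ p : T, (decompose 𝒜 (c p) (n - p.1.2) : R) * p.1.1 := by
            conv_lhs => rw [← decompose_of_mem_same 𝒜 hy, ← hc]
            have h1 : (decompose 𝒜 (∑ p : T, c p • p.1.1) n : R)
                = ∑ p : T, (decompose 𝒜 (c p • p.1.1) n : R) := by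
              simpa [GradedRing.proj_apply] using
                map_sum (GradedRing.proj 𝒜 n) (fun p : T => c p • p.1.1) Finset.univ
            rw [h1]
            refine Finset.sum_congr rfl (fun p _ => ?_)
            have := coe_decompose_mul_add_of_right_mem 𝒜 (i := n - p.1.2) (a := c p)
              (hT p.1 p.2).1
            rw [sub_add_cancel] at this
            rw [smul_eq_mul]; exact this
          rw [hy2]
          refine Submodule.sum_mem _ (fun p _ => ?_)
          exact Submodule.mem_iSup_of_mem p ⟨_, (decompose 𝒜 (c p) (n - p.1.2)).2, rfl⟩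
        exact Submodule.finiteDimensional_of_le hle
  intro n
  exact key n.toNat n (Int.self_le_toNat n)

variable {M : Type u} [AddCommGroup M] [Module R M] [Module k M] [IsScalarTower k R M]
  (ℳ : ℤ → AddSubgroup M) [Decomposition ℳ] [SetLike.GradedSMul 𝒜 ℳ] [Module.Finite R M]

theorem finiteDimensional_piece (n : ℤ) : FiniteDimensional k (compk 𝒜 ℳ n) := by
  classical
  obtain ⟨m, dg, s, hs, hspan⟩ := GrExtH1.exists_homog_generators (R := R) ℳ
  haveI := fun j : Fin m => finiteDimensional_piece_ring 𝒜 hposR h0R (n - dg j)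
  let W : Submodule k M := ⨆ j : Fin m,
    (𝒜 (n - dg j)).map ((LinearMap.toSpanSingleton R M (s j)).restrictScalars k)
  haveI : FiniteDimensional k W := inferInstance
  have hle : compk 𝒜 ℳ n ≤ W := by
    intro x hx
    have hx' : x ∈ ℳ n := hx
    have hxs : x ∈ Submodule.span R (Set.range s) := by rw [hspan]; trivial
    obtain ⟨c, hc⟩ := (Submodule.mem_span_range_iff_exists_fun R).mp hxs
    have hx2 : x = ∑ j, (decompose 𝒜 (c j) (n - dg j) : R) • s j := by
      conv_lhs => rw [← decompose_of_mem_same ℳ hx', ← hc]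
      rw [GrLaurentH1.coe_decompose_sum]
      exact Finset.sum_congr rfl (fun j _ => decompose_smul_of_mem 𝒜 ℳ (hs j) (c j) n)
    rw [hx2]
    exact Submodule.sum_mem _ (fun j _ =>
      Submodule.mem_iSup_of_mem j ⟨_, (decompose 𝒜 (c j) (n - dg j)).2, rfl⟩)
  exact Submodule.finiteDimensional_of_le hle

end fd

section dual

variable {k : Type u} [Field k] {R : Type u} [CommRing R] [Algebra k R]
  (𝒜 : ℤ → Submodule k R) [GradedAlgebra 𝒜]
variable {M : Type u} [AddCommGroup M] [Module R M] [Module k M] [IsScalarTower k R M]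
  (ℳ : ℤ → AddSubgroup M) [Decomposition ℳ] [SetLike.GradedSMul 𝒜 ℳ]
variable {D : Type u} [AddCommGroup D] [Module R D] [Module k D] [IsScalarTower k R D]
  (𝒟 : ℤ → AddSubgroup D) [Decomposition 𝒟] [SetLike.GradedSMul 𝒜 𝒟]
variable (β : D →ₗ[k] M →ₗ[k] k) (hD : GrSeg.IsGDual R ℳ 𝒟 β)

include hD

omit [SetLike.GradedSMul 𝒜 ℳ] [SetLike.GradedSMul 𝒜 𝒟] in
theorem sep {m : ℤ} {z : M} (hz : z ∈ ℳ m) (hz0 : z ≠ 0) : ∃ d ∈ 𝒟 (-m), β d z ≠ 0 := by
  obtain ⟨ψ, hψ⟩ : ∃ ψ : Module.Dual k M, ψ z ≠ 0 := by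
    by_contra hcon
    push_neg at hcon
    exact hz0 ((Module.forall_dual_apply_eq_zero_iff k z).mp hcon)
  obtain ⟨d, hd, hdψ⟩ := hD.exists_eq (-m) ψ
  refine ⟨d, hd, ?_⟩
  rw [hdψ z (by rwa [neg_neg])]
  exact hψ

omit [SetLike.GradedSMul 𝒜 ℳ] [SetLike.GradedSMul 𝒜 𝒟] in
theorem eq_of_pair {n : ℤ} {y y' : M} (hy : y ∈ ℳ n) (hy' : y' ∈ ℳ n)
    (h : ∀ d ∈ 𝒟 (-n), β d y = β d y') : y = y' := by
  by_contra hne
  obtain ⟨d, hd, hdz⟩ := sep ℳ 𝒟 β hD (sub_mem hy hy') (sub_ne_zero.mpr hne)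
  apply hdz
  rw [map_sub, h d hd, sub_self]

omit [SetLike.GradedSMul 𝒜 ℳ] [SetLike.GradedSMul 𝒜 𝒟] in
theorem sep_all {z : M} (hz0 : z ≠ 0) : ∃ d : D, β d z ≠ 0 := by
  classical
  obtain ⟨m, hm⟩ : ∃ m, (decompose ℳ z m : M) ≠ 0 := by
    by_contra hcon
    push_neg at hcon
    apply hz0
    rw [← DirectSum.sum_support_decompose ℳ z]
    exact Finset.sum_eq_zero (fun i _ => hcon i)
  obtain ⟨d, hd, hdz⟩ := sep ℳ 𝒟 β hD (decompose ℳ z m).2 hm
  refine ⟨d, ?_⟩
  have h1 : β d z = β d (decompose ℳ z m : M) := by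
    conv_lhs => rw [← DirectSum.sum_support_decompose ℳ z]
    rw [map_sum]
    apply Finset.sum_eq_single m
    · intro j _ hj
      exact hD.vanish (-m) d hd j (by rw [neg_neg]; exact hj) _ (decompose ℳ z j).2
    · intro hm'
      rw [DFinsupp.notMem_support_iff] at hm'
      rw [hm', ZeroMemClass.coe_zero, map_zero]
  rw [h1]
  exact hdz

theorem exists_rep (n : ℤ) [FiniteDimensional k (compk 𝒜 ℳ n)] (θ : D →ₗ[k] k) :
    ∃ y ∈ ℳ n, ∀ d ∈ 𝒟 (-n), β d y = θ d := by
  let V := compk 𝒜 ℳ n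
  let W := compk 𝒜 𝒟 (-n)
  let p : W →ₗ[k] Module.Dual k V := ((LinearMap.lcomp k k V.subtype) ∘ₗ β) ∘ₗ W.subtype
  have hp : ∀ (d : W) (y : V), p d y = β d.1 y.1 := fun d y => rfl
  have hpinj : Function.Injective p := by
    rw [injective_iff_map_eq_zero]
    intro d hd
    apply Subtype.ext
    apply hD.eq_zero (-n) d.1 d.2
    intro x hx
    rw [neg_neg] at hx
    exact LinearMap.congr_fun hd ⟨x, hx⟩
  have hpsurj : Function.Surjective p := by
    intro ψ
    obtain ⟨ψ', hψ'⟩ := LinearMap.exists_extend ψ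
    obtain ⟨d, hd, hdψ⟩ := hD.exists_eq (-n) ψ'
    refine ⟨⟨d, hd⟩, ?_⟩
    apply LinearMap.ext
    intro y
    rw [hp, hdψ y.1 (by rw [neg_neg]; exact y.2)]
    exact LinearMap.congr_fun hψ' y
  let pe : W ≃ₗ[k] Module.Dual k V := LinearEquiv.ofBijective p ⟨hpinj, hpsurj⟩
  let Θ : Module.Dual k (Module.Dual k V) := (θ ∘ₗ W.subtype) ∘ₗ pe.symm.toLinearMap
  let y : V := (Module.evalEquiv k V).symm Θ
  refine ⟨y.1, y.2, fun d hd => ?_⟩
  have h1 : (pe ⟨d, hd⟩) y = Θ (pe ⟨d, hd⟩) := Module.apply_evalEquiv_symm_apply k V _ Θ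
  have h2 : Θ (pe ⟨d, hd⟩) = θ d := by
    show θ (W.subtype (pe.symm (pe ⟨d, hd⟩))) = θ d
    rw [LinearEquiv.symm_apply_apply]
    rfl
  rw [← h2, ← h1]
  rfl

end dual

theorem main19762 (k : Type u) [Field k] (R : Type u) [CommRing R] [Algebra k R]
    (𝒜 : ℤ → Submodule k R) [GradedAlgebra 𝒜] (hposR : ∀ n : ℤ, n < 0 → 𝒜 n = ⊥)
    (h0R : 𝒜 0 = Submodule.span k {(1 : R)}) [Algebra.FiniteType k R]
    (F : Type u) [AddCommGroup F] [Module R F] [Module k F] [IsScalarTower k R F]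
    (ℱ : ℤ → AddSubgroup F) [DirectSum.Decomposition ℱ] [SetLike.GradedSMul 𝒜 ℱ] [Module.Finite R F]
    (M : Type u) [AddCommGroup M] [Module R M] [Module k M] [IsScalarTower k R M]
    (ℳ : ℤ → AddSubgroup M) [DirectSum.Decomposition ℳ] [SetLike.GradedSMul 𝒜 ℳ] [Module.Finite R M]
    (DM : Type u) [AddCommGroup DM] [Module R DM] [Module k DM] [IsScalarTower k R DM]
    (𝒟M : ℤ → AddSubgroup DM) [DirectSum.Decomposition 𝒟M] [SetLike.GradedSMul 𝒜 𝒟M]
    (βM : DM →ₗ[k] M →ₗ[k] k) (hDM : GrSeg.IsGDual R ℳ 𝒟M βM)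
    (DF : Type u) [AddCommGroup DF] [Module R DF] [Module k DF] [IsScalarTower k R DF]
    (𝒟F : ℤ → AddSubgroup DF) [DirectSum.Decomposition 𝒟F] [SetLike.GradedSMul 𝒜 𝒟F]
    (βF : DF →ₗ[k] F →ₗ[k] k) (hDF : GrSeg.IsGDual R ℱ 𝒟F βF)
    (g : DM →ₗ[R] DF) (hg : GrLC.IsGrHom 𝒟M 𝒟F g) :
    ∃! f : F →ₗ[R] M, GrLC.IsGrHom ℱ ℳ f ∧ GrSeg.IsGDualMap βM βF f g := by
  classical
  haveI fd : ∀ n, FiniteDimensional k (compk 𝒜 ℳ n) :=
    fun n => finiteDimensional_piece 𝒜 hposR h0R ℳ n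
  let gk : DM →ₗ[k] DF := g.restrictScalars k
  let θ : F → (DM →ₗ[k] k) := fun x => (βF.flip x) ∘ₗ gk
  have hθ : ∀ x d, θ x d = βF (g d) x := fun x d => rfl
  have hex : ∀ (n : ℤ) (x : F), ∃ y ∈ ℳ n, ∀ d ∈ 𝒟M (-n), βM d y = θ x d :=
    fun n x => exists_rep 𝒜 ℳ 𝒟M βM hDM n (θ x)
  choose rep hrep_mem hrep using hex
  let fn : ∀ n : ℤ, ℱ n →+ M := fun n =>
    { toFun := fun x => rep n x.1
      map_zero' := by
        apply eq_of_pair ℳ 𝒟M βM hDM (hrep_mem n _) (zero_mem _)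
        intro d hd
        rw [hrep n _ d hd, hθ]
        simp
      map_add' := fun x x' => by
        apply eq_of_pair ℳ 𝒟M βM hDM (hrep_mem n _) (add_mem (hrep_mem n _) (hrep_mem n _))
        intro d hd
        rw [map_add, hrep n _ d hd, hrep n _ d hd, hrep n _ d hd, hθ, hθ, hθ, AddSubgroup.coe_add,
          map_add] }
  let fAdd : F →+ M := (DirectSum.toAddMonoid fn).comp (decomposeAddEquiv ℱ).toAddMonoidHom
  have fAdd_of_mem : ∀ {n : ℤ} {x : F} (_ : x ∈ ℱ n), fAdd x = rep n x := by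
    intro n x hx
    show DirectSum.toAddMonoid fn (decompose ℱ x) = _
    rw [decompose_of_mem ℱ hx, DirectSum.toAddMonoid_of]
    rfl
  have hsmul : ∀ (r : R) (x : F), fAdd (r • x) = r • fAdd x := by
    intro r x
    induction r using DirectSum.Decomposition.inductionOn 𝒜 with
    | zero => simp
    | @homogeneous a r =>
      induction x using DirectSum.Decomposition.inductionOn ℱ with
      | zero => simp
      | @homogeneous n x =>
        have hrx : (r : R) • (x : F) ∈ ℱ (a + n) := smul_mem_gr 𝒜 ℱ r.2 x.2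
        rw [fAdd_of_mem hrx, fAdd_of_mem x.2]
        apply eq_of_pair ℳ 𝒟M βM hDM (hrep_mem _ _) (smul_mem_gr 𝒜 ℳ r.2 (hrep_mem n _))
        intro d hd
        have hrd : (r : R) • d ∈ 𝒟M (-n) := by
          have := smul_mem_gr 𝒜 𝒟M r.2 hd
          rwa [show a + -(a + n) = -n by ring] at this
        rw [hrep _ _ d hd, hθ, ← hDM.map_smul, hrep n _ _ hrd, hθ, g.map_smul, hDF.map_smul]
      | add x x' hx hx' => rw [smul_add, map_add, map_add, hx, hx', smul_add]
    | add r r' hr hr' => rw [add_smul, map_add, hr, hr', add_smul]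
  let f : F →ₗ[R] M :=
    { toFun := fAdd, map_add' := fAdd.map_add, map_smul' := fun r x => hsmul r x }
  have hfgr : GrLC.IsGrHom ℱ ℳ f := by
    intro n x hx
    show fAdd x ∈ ℳ n
    rw [fAdd_of_mem hx]
    exact hrep_mem n x
  have hfdual : GrSeg.IsGDualMap βM βF f g := by
    intro d x
    show βF (g d) x = βM d (fAdd x)
    induction x using DirectSum.Decomposition.inductionOn ℱ with
    | zero => simp
    | @homogeneous n x =>
      rw [fAdd_of_mem x.2]
      induction d using DirectSum.Decomposition.inductionOn 𝒟M with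
      | zero => simp
      | @homogeneous j d =>
        by_cases hj : j = -n
        · subst hj
          rw [hrep n _ d d.2, hθ]
        · have hnj : n ≠ -j := fun h => hj (by rw [h, neg_neg])
          rw [hDM.vanish j d d.2 n hnj _ (hrep_mem n _),
            hDF.vanish j (g d) (hg j d d.2) n hnj _ x.2]
      | add d d' hd hd' =>
        rw [map_add, map_add, LinearMap.add_apply, map_add, LinearMap.add_apply, hd, hd']
    | add x x' hx hx' => rw [map_add, map_add, map_add, hx, hx']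
  refine ⟨f, ⟨hfgr, hfdual⟩, ?_⟩
  rintro f' ⟨_, hf'dual⟩
  apply LinearMap.ext
  intro x
  by_contra hne
  obtain ⟨d, hd⟩ := sep_all ℳ 𝒟M βM hDM (sub_ne_zero.mpr hne)
  apply hd
  rw [map_sub, ← hf'dual d x, ← hfdual d x, sub_self]

end Groth.Agent.Lib.GrDual2H1
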