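import Mathlib
import Groth.Prelude.Def_GrLC
import Groth.Prelude.Def_GrSeg
import Groth.Agent.Lib.GrDual_helper1
import Groth.Agent.Lib.GrDual2_helper1
import Groth.Agent.Lib.GrStar_helper1

/-! Minimal surjections dualize to *essential injections (helper1). -/

set_option autoImplicit false

namespace Groth.Agent.Lib.GrDual3H1

open DirectSum GrLC Groth.Agent.Lib.GrDual2H1

universe u

section dual

variable {k : Type u} [Field k] {R : Type u} [CommRing R] [Algebra k R]
  (𝒜 : ℤ → Submodule k R) [GradedAlgebra 𝒜]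
variable {M : Type u} [AddCommGroup M] [Module R M] [Module k M] [IsScalarTower k R M]
  (ℳ : ℤ → AddSubgroup M) [Decomposition ℳ] [SetLike.GradedSMul 𝒜 ℳ]
variable {D : Type u} [AddCommGroup D] [Module R D] [Module k D] [IsScalarTower k R D]
  (𝒟 : ℤ → AddSubgroup D) [Decomposition 𝒟] [SetLike.GradedSMul 𝒜 𝒟]
variable (β : D →ₗ[k] M →ₗ[k] k) (hD : GrSeg.IsGDual R ℳ 𝒟 β)

include hD

omit [SetLike.GradedSMul 𝒜 ℳ] [SetLike.GradedSMul 𝒜 𝒟] in
theorem eq_of_agree' {n : ℤ} {d d' : D} (hd : d ∈ 𝒟 n) (hd' : d' ∈ 𝒟 n)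
    (h : ∀ x ∈ ℳ (-n), β d x = β d' x) : d = d' := by
  have := hD.eq_zero n (d - d') (sub_mem hd hd')
    (fun x hx => by rw [map_sub, LinearMap.sub_apply, h x hx, sub_self])
  exact sub_eq_zero.mp this

omit [SetLike.GradedSMul 𝒜 ℳ] [SetLike.GradedSMul 𝒜 𝒟] in
/-- pairing with a homogeneous element only sees one component -/
theorem pair_comp (e : D) {m : ℤ} {x : M} (hx : x ∈ ℳ m) :
    β e x = β (decompose 𝒟 e (-m) : D) x := by
  classical
  conv_lhs => rw [← DirectSum.sum_support_decompose 𝒟 e]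
  rw [map_sum, LinearMap.sum_apply]
  apply Finset.sum_eq_single (-m)
  · intro j _ hj
    exact hD.vanish j _ (decompose 𝒟 e j).2 m (fun h => hj (by rw [h, neg_neg])) x hx
  · intro hm'
    rw [DFinsupp.notMem_support_iff] at hm'
    rw [hm', ZeroMemClass.coe_zero, map_zero, LinearMap.zero_apply]

omit [SetLike.GradedSMul 𝒜 ℳ] [SetLike.GradedSMul 𝒜 𝒟] in
theorem eq_zero_of_pair_zero {e : D} (h : ∀ x, β e x = 0) : e = 0 := by
  classical
  rw [← DirectSum.sum_support_decompose 𝒟 e]
  apply Finset.sum_eq_zero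
  intro j _
  apply hD.eq_zero j _ (decompose 𝒟 e j).2
  intro x hx
  have := pair_comp ℳ 𝒟 β hD e hx
  rw [neg_neg] at this
  rw [← this]
  exact h x

end dual

section bound

variable {k : Type u} [Field k] {R : Type u} [CommRing R] [Algebra k R]
  (𝒜 : ℤ → Submodule k R) [GradedAlgebra 𝒜] (hposR : ∀ n : ℤ, n < 0 → 𝒜 n = ⊥)
variable {F : Type u} [AddCommGroup F] [Module R F]
  (ℱ : ℤ → AddSubgroup F) [Decomposition ℱ] [SetLike.GradedSMul 𝒜 ℱ] [Module.Finite R F]

include hposR in
theorem exists_lower_bound : ∃ n₀ : ℤ, ∀ n : ℤ, n < n₀ → ∀ x ∈ ℱ n, x = 0 := by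
  classical
  obtain ⟨m, dg, s, hs, hspan⟩ := GrExtH1.exists_homog_generators (R := R) ℱ
  have hneg : ∀ {j : ℤ} (z : R), z ∈ 𝒜 j → j < 0 → z = 0 := fun {j} z hz hj => by
    rw [hposR j hj] at hz
    exact (Submodule.mem_bot k).mp hz
  obtain ⟨n₀, hn₀⟩ : ∃ n₀ : ℤ, ∀ j : Fin m, n₀ ≤ dg j := by
    by_cases hm : m = 0
    · subst hm; exact ⟨0, fun j => j.elim0⟩
    · haveI : Nonempty (Fin m) := ⟨⟨0, Nat.pos_of_ne_zero hm⟩⟩
      exact ⟨Finset.univ.inf' Finset.univ_nonempty dg, fun j => Finset.inf'_le _ (Finset.mem_univ j)⟩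
  refine ⟨n₀, fun n hn x hx => ?_⟩
  have hxs : x ∈ Submodule.span R (Set.range s) := by rw [hspan]; trivial
  obtain ⟨c, hc⟩ := (Submodule.mem_span_range_iff_exists_fun R).mp hxs
  have hx2 : x = ∑ j, (decompose 𝒜 (c j) (n - dg j) : R) • s j := by
    conv_lhs => rw [← decompose_of_mem_same ℱ hx, ← hc]
    rw [GrLaurentH1.coe_decompose_sum]
    exact Finset.sum_congr rfl (fun j _ => decompose_smul_of_mem 𝒜 ℱ (hs j) (c j) n)
  rw [hx2]
  apply Finset.sum_eq_zero
  intro j _
  rw [hneg _ (decompose 𝒜 (c j) (n - dg j)).2 (by have := hn₀ j; omega), zero_smul]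

end bound

set_option maxHeartbeats 3200000 in
theorem main19751 (k : Type u) [Field k] (R : Type u) [CommRing R] [Algebra k R]
    (𝒜 : ℤ → Submodule k R) [GradedAlgebra 𝒜] (hposR : ∀ n : ℤ, n < 0 → 𝒜 n = ⊥)
    (h0R : 𝒜 0 = Submodule.span k {(1 : R)}) [Algebra.FiniteType k R] (mR : HomogeneousIdeal 𝒜)
    (hmR : mR.toIdeal = Ideal.span (⋃ n ∈ Set.Ioi (0 : ℤ), (𝒜 n : Set R)))
    (F : Type u) [AddCommGroup F] [Module R F] [Module k F] [IsScalarTower k R F]
    (ℱ : ℤ → AddSubgroup F) [DirectSum.Decomposition ℱ] [SetLike.GradedSMul 𝒜 ℱ] [Module.Finite R F]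
    (M : Type u) [AddCommGroup M] [Module R M] [Module k M] [IsScalarTower k R M]
    (ℳ : ℤ → AddSubgroup M) [DirectSum.Decomposition ℳ] [SetLike.GradedSMul 𝒜 ℳ] [Module.Finite R M]
    (f : F →ₗ[R] M) (hf : Function.Surjective f) (hfgr : GrLC.IsGrHom ℱ ℳ f)
    (DM : Type u) [AddCommGroup DM] [Module R DM] [Module k DM] [IsScalarTower k R DM]
    (𝒟M : ℤ → AddSubgroup DM) [DirectSum.Decomposition 𝒟M] [SetLike.GradedSMul 𝒜 𝒟M]
    (βM : DM →ₗ[k] M →ₗ[k] k) (hDM : GrSeg.IsGDual R ℳ 𝒟M βM)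
    (DF : Type u) [AddCommGroup DF] [Module R DF] [Module k DF] [IsScalarTower k R DF]
    (𝒟F : ℤ → AddSubgroup DF) [DirectSum.Decomposition 𝒟F] [SetLike.GradedSMul 𝒜 𝒟F]
    (βF : DF →ₗ[k] F →ₗ[k] k) (hDF : GrSeg.IsGDual R ℱ 𝒟F βF)
    (g : DM →ₗ[R] DF) (hg : GrSeg.IsGDualMap βM βF f g) :
    LinearMap.ker f ≤ mR.toIdeal • (⊤ : Submodule R F) ↔ GrLC.IsStarEss 𝒟M 𝒟F g := by
  classical
  have hneg : ∀ {j : ℤ} (z : R), z ∈ 𝒜 j → j < 0 → z = 0 := fun {j} z hz hj => by
    rw [hposR j hj] at hz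
    exact (Submodule.mem_bot k).mp hz
  -- `g` is injective
  have hginj : Function.Injective g := by
    rw [injective_iff_map_eq_zero]
    intro d hd
    apply eq_zero_of_pair_zero ℳ 𝒟M βM hDM
    intro y
    obtain ⟨x, rfl⟩ := hf y
    rw [← hg d x, hd, map_zero, LinearMap.zero_apply]
  -- `g` is graded
  have hggr : GrLC.IsGrHom 𝒟M 𝒟F g := by
    intro n d hd
    have hcomp : ∀ j, j ≠ n → (decompose 𝒟F (g d) j : DF) = 0 := by
      intro j hj
      apply hDF.eq_zero j _ (decompose 𝒟F (g d) j).2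
      intro x hx
      have h1 := pair_comp ℱ 𝒟F βF hDF (g d) hx
      rw [neg_neg] at h1
      rw [← h1, hg d x]
      exact hDM.vanish n d hd (-j) (fun h => hj (neg_injective h)) (f x) (hfgr (-j) x hx)
    have : g d = (decompose 𝒟F (g d) n : DF) := by
      conv_lhs => rw [← DirectSum.sum_support_decompose 𝒟F (g d)]
      apply Finset.sum_eq_single n
      · intro j _ hj; exact hcomp j hj
      · intro hn
        rw [DFinsupp.notMem_support_iff] at hn
        rw [hn, ZeroMemClass.coe_zero]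
    rw [this]
    exact (decompose 𝒟F (g d) n).2
  -- characterization of the range on homogeneous elements
  have hrange : ∀ (j : ℤ) (e : DF), e ∈ 𝒟F j → (∀ x ∈ LinearMap.ker f, βF e x = 0) →
      e ∈ LinearMap.range g := by
    intro j e he hvan
    let fk : F →ₗ[k] M := f.restrictScalars k
    have hker : LinearMap.ker fk ≤ LinearMap.ker (βF e) := by
      intro x hx
      have hx' : f x = 0 := hx
      exact hvan x hx'
    let ψ : M →ₗ[k] k := ((LinearMap.ker fk).liftQ (βF e) hker) ∘ₗ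
      (fk.quotKerEquivOfSurjective hf).symm.toLinearMap
    have hψ : ∀ x, ψ (f x) = βF e x := by
      intro x
      show (LinearMap.ker fk).liftQ (βF e) hker ((fk.quotKerEquivOfSurjective hf).symm (fk x)) = _
      have : (fk.quotKerEquivOfSurjective hf).symm (fk x) = (LinearMap.ker fk).mkQ x := by
        rw [LinearEquiv.symm_apply_eq]
        rfl
      rw [this]
      rfl
    obtain ⟨d, hd, hdψ⟩ := hDM.exists_eq j ψ
    refine ⟨d, ?_⟩
    apply eq_of_agree' ℱ 𝒟F βF hDF (hggr j d hd) he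
    intro x hx
    rw [hg d x, hdψ (f x) (hfgr (-j) x hx), hψ]
  constructor
  · -- minimal ⇒ essential
    intro hmin
    refine ⟨hginj, hggr, fun P hP hP0 => ?_⟩
    obtain ⟨n₀, hn₀⟩ := exists_lower_bound 𝒜 hposR ℱ
    obtain ⟨y, hyP, hy0⟩ := Submodule.exists_mem_ne_zero_of_ne_bot hP0
    obtain ⟨n, hn⟩ : ∃ n, (decompose 𝒟F y n : DF) ≠ 0 := by
      by_contra hcon
      push_neg at hcon
      apply hy0
      rw [← DirectSum.sum_support_decompose 𝒟F y]
      exact Finset.sum_eq_zero (fun i _ => hcon i)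
    obtain ⟨e, he⟩ : ∃ e : DF, e = (decompose 𝒟F y n : DF) := ⟨_, rfl⟩
    have heP : e ∈ P := by rw [he]; exact hP n hyP
    have hen : e ∈ 𝒟F n := by rw [he]; exact (decompose 𝒟F y n).2
    have he0 : e ≠ 0 := by rw [he]; exact hn
    -- degrees of `DF` are bounded above
    have hDFb : ∀ (j : ℤ) (e' : DF), e' ∈ 𝒟F j → e' ≠ 0 → j ≤ -n₀ := by
      intro j e' he' he'0
      by_contra hj
      apply he'0
      apply hDF.eq_zero j e' he'
      intro x hx
      rw [hn₀ (-j) (by omega) x hx, map_zero]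
    obtain ⟨a, ⟨r, hr, hre⟩, hamax⟩ := Int.exists_greatest_of_bdd
      (P := fun a => ∃ r ∈ 𝒜 a, r • e ≠ 0)
      ⟨-n₀ - n, fun a ⟨r, hr, hre⟩ => by
        have := hDFb (a + n) (r • e) (smul_mem_gr 𝒜 𝒟F hr hen) hre
        omega⟩
      ⟨0, 1, SetLike.GradedOne.one_mem, by rw [one_smul]; exact he0⟩
    obtain ⟨e', he'⟩ : ∃ e' : DF, e' = r • e := ⟨_, rfl⟩
    have he'P : e' ∈ P := by rw [he']; exact P.smul_mem r heP
    have he'n : e' ∈ 𝒟F (a + n) := by rw [he']; exact smul_mem_gr 𝒜 𝒟F hr hen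
    have he'0 : e' ≠ 0 := by rw [he']; exact hre
    have hann : ∀ s ∈ mR.toIdeal, s • e' = 0 := by
      intro s hs
      have hle : mR.toIdeal ≤ (Submodule.span R {e'}).annihilator := by
        rw [hmR, Ideal.span_le]
        intro s hs
        obtain ⟨b, hb, hsb⟩ := Set.mem_iUnion₂.mp hs
        rw [SetLike.mem_coe, Submodule.mem_annihilator_span_singleton, he', smul_smul]
        by_contra hne
        have := hamax (b + a) ⟨s * r, SetLike.mul_mem_graded hsb hr, hne⟩
        have hb' : 0 < b := hb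
        omega
      have := hle hs
      rwa [Submodule.mem_annihilator_span_singleton] at this
    have hvan : ∀ x ∈ mR.toIdeal • (⊤ : Submodule R F), βF e' x = 0 := by
      intro x hx
      refine Submodule.smul_induction_on hx (fun s hs y _ => ?_) (fun x y hx hy => ?_)
      · rw [← hDF.map_smul, hann s hs, map_zero, LinearMap.zero_apply]
      · rw [map_add, hx, hy, add_zero]
    have hmem := hrange (a + n) e' he'n (fun x hx => hvan x (hmin hx))
    intro hbot
    apply he'0
    have : e' ∈ P ⊓ LinearMap.range g := ⟨he'P, hmem⟩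
    rw [hbot] at this
    exact (Submodule.mem_bot R).mp this
  · -- essential ⇒ minimal
    intro hess
    have key : ∀ (n : ℤ) (x : F), x ∈ ℱ n → f x = 0 → x ∈ mR.toIdeal • (⊤ : Submodule R F) := by
      intro n x hxn hfx
      by_contra hxm
      let U : Submodule k F := (mR.toIdeal • (⊤ : Submodule R F)).restrictScalars k ⊓ compk 𝒜 ℱ n
      have hxU : x ∉ U := fun h => hxm h.1
      obtain ⟨ψ, hψx, hψU⟩ : ∃ ψ : F →ₗ[k] k, ψ x ≠ 0 ∧ ∀ y ∈ U, ψ y = 0 := by
        have hmk : U.mkQ x ≠ 0 := by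
          rw [Ne, Submodule.mkQ_apply, Submodule.Quotient.mk_eq_zero]; exact hxU
        obtain ⟨φ, hφ⟩ : ∃ φ : Module.Dual k (F ⧸ U), φ (U.mkQ x) ≠ 0 := by
          by_contra hcon
          push_neg at hcon
          exact hmk ((Module.forall_dual_apply_eq_zero_iff k _).mp hcon)
        refine ⟨φ ∘ₗ U.mkQ, hφ, fun y hy => ?_⟩
        rw [LinearMap.comp_apply, Submodule.mkQ_apply, (Submodule.Quotient.mk_eq_zero U).mpr hy,
          map_zero]
      obtain ⟨e, hen, heψ⟩ := hDF.exists_eq (-n) ψ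
      have heψ' : ∀ y ∈ ℱ n, βF e y = ψ y := fun y hy => heψ y (by rw [neg_neg]; exact hy)
      have hann : ∀ s ∈ mR.toIdeal, s • e = 0 := by
        intro s hs
        have hle : mR.toIdeal ≤ (Submodule.span R {e}).annihilator := by
          rw [hmR, Ideal.span_le]
          intro s hs
          obtain ⟨b, hb, hsb⟩ := Set.mem_iUnion₂.mp hs
          rw [SetLike.mem_coe, Submodule.mem_annihilator_span_singleton]
          apply hDF.eq_zero (b + -n) (s • e) (smul_mem_gr 𝒜 𝒟F hsb hen)
          intro y hy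
          have hsy : s • y ∈ ℱ n := by
            have := smul_mem_gr 𝒜 ℱ hsb hy
            rwa [show b + -(b + -n) = n by ring] at this
          have hsm : s ∈ mR.toIdeal := by
            rw [hmR]; exact Ideal.subset_span hs
          rw [hDF.map_smul, heψ' _ hsy]
          exact hψU _ ⟨Submodule.smul_mem_smul hsm (Submodule.mem_top), hsy⟩
        have := hle hs
        rwa [Submodule.mem_annihilator_span_singleton] at this
      have he0 : e ≠ 0 := by
        intro h
        apply hψx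
        rw [← heψ' x hxn, h, map_zero, LinearMap.zero_apply]
      -- the span of `e` is homogeneous
      have hPhom : (Submodule.span R {e}).IsHomogeneous 𝒟F := by
        intro j z hz
        obtain ⟨r, rfl⟩ := Submodule.mem_span_singleton.mp hz
        rw [decompose_smul_of_mem 𝒜 𝒟F hen r j]
        exact Submodule.mem_span_singleton.mpr ⟨_, rfl⟩
      have hP0 : Submodule.span R {e} ≠ ⊥ := by
        intro h
        apply he0
        have : e ∈ Submodule.span R {e} := Submodule.mem_span_singleton_self e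
        rw [h] at this
        exact (Submodule.mem_bot R).mp this
      have hne := hess.essential _ hPhom hP0
      obtain ⟨z, hz, hz0⟩ := Submodule.exists_mem_ne_zero_of_ne_bot hne
      obtain ⟨r, rfl⟩ := Submodule.mem_span_singleton.mp hz.1
      obtain ⟨d, hd⟩ := hz.2
      -- `r • e = r₀ • e`
      have hr0 : r • e = (decompose 𝒜 r 0 : R) • e := by
        conv_lhs => rw [← DirectSum.sum_support_decompose 𝒜 r]
        rw [Finset.sum_smul]
        apply Finset.sum_eq_single 0
        · intro j _ hj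
          rcases lt_or_gt_of_ne hj with h | h
          · rw [hneg _ (decompose 𝒜 r j).2 h, zero_smul]
          · apply hann
            rw [hmR]
            exact Ideal.subset_span (Set.mem_biUnion (show j ∈ Set.Ioi (0 : ℤ) from h)
              (decompose 𝒜 r j).2)
        · intro h0
          rw [DFinsupp.notMem_support_iff] at h0
          rw [h0, ZeroMemClass.coe_zero, zero_smul]
      obtain ⟨c, hc⟩ : ∃ c : k, c • (1 : R) = (decompose 𝒜 r 0 : R) := by
        have h0' : ∀ z : R, z ∈ 𝒜 0 → ∃ c : k, c • (1 : R) = z := fun z hz => by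
          rw [h0R] at hz
          exact Submodule.mem_span_singleton.mp hz
        exact h0' _ (decompose 𝒜 r 0).2
      have hce : r • e = c • e := by
        rw [hr0, ← hc, smul_assoc, one_smul]
      have h1 : βF (r • e) x = c * βF e x := by
        rw [hce, map_smul, LinearMap.smul_apply, smul_eq_mul]
      have h2 : βF (r • e) x = 0 := by
        rw [← hd, hg d x, hfx, map_zero]
      have hc0 : c = 0 := by
        rw [h1] at h2
        rcases mul_eq_zero.mp h2 with h | h
        · exact h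
        · exact absurd (by rw [← heψ' x hxn]; exact h) hψx
      apply hz0
      rw [hce, hc0, zero_smul]
    intro x hx
    have hfx : f x = 0 := hx
    rw [← DirectSum.sum_support_decompose ℱ x]
    refine Submodule.sum_mem _ (fun n _ => ?_)
    apply key n _ (decompose ℱ x n).2
    have := GrStarH1.decompose_map ℱ ℳ hfgr x n
    rw [← this, hfx, decompose_zero]
    rfl

end Groth.Agent.Lib.GrDual3H1
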