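import Mathlib
import Groth.Prelude.Def_GrLC
import Groth.Prelude.Def_GrSeg
import Groth.Agent.Lib.GrDual3_helper1

/-! Graded duals over a positively graded algebra over a field: Noetherian ↔ Artinian under the graded
dual, reflexivity (helper1). -/

set_option autoImplicit false

namespace Groth.Agent.Lib.GrDualArtH1

open DirectSum GrLC Groth.Agent.Lib.GrDual2H1 Groth.Agent.Lib.GrDual3H1

universe u

section basics

variable {k : Type u} [Field k] {R : Type u} [CommRing R] [Algebra k R]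
  (𝒜 : ℤ → Submodule k R) [GradedAlgebra 𝒜]
variable {M : Type u} [AddCommGroup M] [Module R M]
  (ℳ : ℤ → AddSubgroup M) [Decomposition ℳ] [SetLike.GradedSMul 𝒜 ℳ]

/-- component of `r • x` for homogeneous `r` -/
theorem decompose_homog_smul {r : R} {a : ℤ} (hr : r ∈ 𝒜 a) (x : M) (j : ℤ) :
    (decompose ℳ (r • x) j : M) = r • (decompose ℳ x (j - a) : M) := by
  induction x using DirectSum.Decomposition.inductionOn ℳ with
  | zero => simp
  | @homogeneous g x =>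
    have hrx : r • (x : M) ∈ ℳ (a + g) := smul_mem_gr 𝒜 ℳ hr x.2
    by_cases e : a + g = j
    · subst e
      rw [decompose_of_mem_same ℳ hrx, add_sub_cancel_left, decompose_of_mem_same ℳ x.2]
    · rw [decompose_of_mem_ne ℳ hrx e,
        decompose_of_mem_ne ℳ x.2 (fun h => e (by rw [h]; ring)), smul_zero]
  | add x x' hx hx' =>
    rw [smul_add, decompose_add, DirectSum.add_apply, AddSubgroup.coe_add, hx, hx', decompose_add,
      DirectSum.add_apply, AddSubgroup.coe_add, smul_add]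

variable (hposR : ∀ n : ℤ, n < 0 → 𝒜 n = ⊥)

/-- elements whose components in degrees `≤ n` vanish -/
def up (n : ℤ) : Submodule R M where
  carrier := {x | ∀ j : ℤ, j ≤ n → (decompose ℳ x j : M) = 0}
  add_mem' := fun {x y} hx hy j hj => by
    rw [decompose_add, DirectSum.add_apply, AddSubgroup.coe_add, hx j hj, hy j hj, add_zero]
  zero_mem' := fun j _ => by rw [decompose_zero, DirectSum.zero_apply, ZeroMemClass.coe_zero]
  smul_mem' := fun r x hx => by
    show ∀ j : ℤ, j ≤ n → (decompose ℳ (r • x) j : M) = 0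
    induction r using DirectSum.Decomposition.inductionOn 𝒜 with
    | zero =>
      intro j _
      rw [zero_smul, decompose_zero, DirectSum.zero_apply, ZeroMemClass.coe_zero]
    | @homogeneous a r =>
      intro j hj
      by_cases ha : a < 0
      · have : (r : R) = 0 := by
          have h : (r : R) ∈ (⊥ : Submodule k R) := by
            rw [← hposR a ha]
            exact r.2
          exact (Submodule.mem_bot k).mp h
        rw [this, zero_smul, decompose_zero, DirectSum.zero_apply, ZeroMemClass.coe_zero]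
      · rw [decompose_homog_smul 𝒜 ℳ r.2 x j, hx (j - a) (by omega), smul_zero]
    | add r r' hr hr' =>
      intro j hj
      rw [add_smul, decompose_add, DirectSum.add_apply, AddSubgroup.coe_add, hr j hj, hr' j hj,
        add_zero]

theorem mem_up {n : ℤ} {x : M} :
    x ∈ up 𝒜 ℳ hposR n ↔ ∀ j : ℤ, j ≤ n → (decompose ℳ x j : M) = 0 := Iff.rfl

theorem up_anti {n n' : ℤ} (h : n ≤ n') : up 𝒜 ℳ hposR n' ≤ up 𝒜 ℳ hposR n :=
  fun _ hx j hj => hx j (le_trans hj h)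

theorem homog_mem_up {i n : ℤ} {x : M} (hx : x ∈ ℳ i) (hn : n < i) : x ∈ up 𝒜 ℳ hposR n :=
  fun j hj => decompose_of_mem_ne ℳ hx (by omega)

theorem exists_mem_up (x : M) : ∃ j₀ : ℤ, x ∈ up 𝒜 ℳ hposR j₀ := by
  induction x using DirectSum.Decomposition.inductionOn ℳ with
  | zero => exact ⟨0, Submodule.zero_mem _⟩
  | @homogeneous i x => exact ⟨i - 1, homog_mem_up 𝒜 ℳ hposR x.2 (by omega)⟩
  | add x x' hx hx' =>
    obtain ⟨j, hj⟩ := hx
    obtain ⟨j', hj'⟩ := hx'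
    exact ⟨min j j', Submodule.add_mem _ (up_anti 𝒜 ℳ hposR (min_le_left _ _) hj)
      (up_anti 𝒜 ℳ hposR (min_le_right _ _) hj')⟩

theorem eq_zero_of_up {n₀ : ℤ} (hb : ∀ n, n₀ < n → ∀ x ∈ ℳ n, x = 0) {x : M}
    (hx : x ∈ up 𝒜 ℳ hposR n₀) : x = 0 := by
  classical
  rw [← DirectSum.sum_support_decompose ℳ x]
  apply Finset.sum_eq_zero
  intro j _
  by_cases hj : j ≤ n₀
  · exact hx j hj
  · exact hb j (by omega) _ (decompose ℳ x j).2

theorem sub_comp_mem_up {x : M} {n : ℤ} (hx : x ∈ up 𝒜 ℳ hposR (n - 1)) :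
    x - (decompose ℳ x n : M) ∈ up 𝒜 ℳ hposR n := by
  refine (mem_up 𝒜 ℳ hposR).mpr fun j hj => ?_
  rw [decompose_sub, DirectSum.sub_apply, AddSubgroup.coe_sub]
  by_cases hjn : j = n
  · subst hjn
    rw [decompose_of_mem_same ℳ (decompose ℳ x j).2, sub_self]
  · rw [hx j (by omega), decompose_of_mem_ne ℳ (decompose ℳ x n).2 (Ne.symm hjn), sub_zero]

/-- the bottom-form set of a submodule -/
def iniSet (N : Submodule R M) : Set M :=
  {z | ∀ n : ℤ, ∃ y ∈ N, y - (decompose ℳ z n : M) ∈ up 𝒜 ℳ hposR n}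

theorem iniSet_zero (N : Submodule R M) : (0 : M) ∈ iniSet 𝒜 ℳ hposR N := fun n =>
  ⟨0, N.zero_mem, by
    rw [decompose_zero, DirectSum.zero_apply, ZeroMemClass.coe_zero, sub_zero]
    exact Submodule.zero_mem _⟩

theorem iniSet_add (N : Submodule R M) {z z' : M} (hz : z ∈ iniSet 𝒜 ℳ hposR N)
    (hz' : z' ∈ iniSet 𝒜 ℳ hposR N) : z + z' ∈ iniSet 𝒜 ℳ hposR N := fun n => by
  obtain ⟨y, hy, hyz⟩ := hz n
  obtain ⟨y', hy', hyz'⟩ := hz' n
  refine ⟨y + y', N.add_mem hy hy', ?_⟩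
  rw [decompose_add, DirectSum.add_apply, AddSubgroup.coe_add]
  have : y + y' - ((decompose ℳ z n : M) + (decompose ℳ z' n : M)) =
      (y - (decompose ℳ z n : M)) + (y' - (decompose ℳ z' n : M)) := by abel
  rw [this]
  exact Submodule.add_mem _ hyz hyz'

theorem iniSet_smul_homog (N : Submodule R M) {a : ℤ} {r : R} (hr : r ∈ 𝒜 a) {z : M}
    (hz : z ∈ iniSet 𝒜 ℳ hposR N) : r • z ∈ iniSet 𝒜 ℳ hposR N := fun n => by
  obtain ⟨y, hy, hyz⟩ := hz (n - a)
  refine ⟨r • y, N.smul_mem r hy, ?_⟩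
  rw [decompose_homog_smul 𝒜 ℳ hr z n, ← smul_sub]
  by_cases ha : a < 0
  · have : r = 0 := by
      rw [hposR a ha] at hr
      exact (Submodule.mem_bot k).mp hr
    rw [this, zero_smul]
    exact Submodule.zero_mem _
  · refine (mem_up 𝒜 ℳ hposR).mpr fun j hj => ?_
    rw [decompose_homog_smul 𝒜 ℳ hr _ j, hyz (j - a) (by omega), smul_zero]

theorem iniSet_smul (N : Submodule R M) (r : R) {z : M} (hz : z ∈ iniSet 𝒜 ℳ hposR N) :
    r • z ∈ iniSet 𝒜 ℳ hposR N := by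
  induction r using DirectSum.Decomposition.inductionOn 𝒜 with
  | zero => rw [zero_smul]; exact iniSet_zero 𝒜 ℳ hposR N
  | @homogeneous a r => exact iniSet_smul_homog 𝒜 ℳ hposR N r.2 hz
  | add r r' hr hr' => rw [add_smul]; exact iniSet_add 𝒜 ℳ hposR N hr hr'

/-- the bottom-form submodule -/
def ini (N : Submodule R M) : Submodule R M where
  carrier := iniSet 𝒜 ℳ hposR N
  add_mem' := fun hz hz' => iniSet_add 𝒜 ℳ hposR N hz hz'
  zero_mem' := iniSet_zero 𝒜 ℳ hposR N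
  smul_mem' := fun r _ hz => iniSet_smul 𝒜 ℳ hposR N r hz

theorem mem_ini {N : Submodule R M} {z : M} : z ∈ ini 𝒜 ℳ hposR N ↔
    ∀ n : ℤ, ∃ y ∈ N, y - (decompose ℳ z n : M) ∈ up 𝒜 ℳ hposR n := Iff.rfl

theorem ini_isHomogeneous (N : Submodule R M) : (ini 𝒜 ℳ hposR N).IsHomogeneous ℳ := by
  intro i z hz
  rw [mem_ini] at hz ⊢
  intro n
  by_cases h : i = n
  · subst h
    obtain ⟨y, hy, hyz⟩ := hz i
    refine ⟨y, hy, ?_⟩
    rw [decompose_of_mem_same ℳ (decompose ℳ z i).2]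
    exact hyz
  · refine ⟨0, N.zero_mem, ?_⟩
    rw [decompose_of_mem_ne ℳ (decompose ℳ z i).2 h, sub_zero]
    exact Submodule.zero_mem _

theorem ini_mono {N N' : Submodule R M} (h : N ≤ N') : ini 𝒜 ℳ hposR N ≤ ini 𝒜 ℳ hposR N' :=
  fun z hz => (mem_ini 𝒜 ℳ hposR).mpr fun n => by
    obtain ⟨y, hy, hyz⟩ := (mem_ini 𝒜 ℳ hposR).mp hz n
    exact ⟨y, h hy, hyz⟩

theorem le_of_ini_le {n₀ : ℤ} (hb : ∀ n, n₀ < n → ∀ x ∈ ℳ n, x = 0) {N N' : Submodule R M}
    (hNN' : N ≤ N') (hini : ini 𝒜 ℳ hposR N' ≤ ini 𝒜 ℳ hposR N) : N' ≤ N := by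
  have claim : ∀ t : ℕ, ∀ x ∈ N', x ∈ up 𝒜 ℳ hposR (n₀ - t) → x ∈ N := by
    intro t
    induction t with
    | zero =>
      intro x _ hx
      have : x = 0 := eq_zero_of_up 𝒜 ℳ hposR hb (by simpa using hx)
      rw [this]
      exact N.zero_mem
    | succ t ih =>
      intro x hxN' hx
      obtain ⟨n, hn⟩ : ∃ n : ℤ, n = n₀ - t := ⟨_, rfl⟩
      have hx' : x ∈ up 𝒜 ℳ hposR (n - 1) := by
        have : n - 1 = n₀ - ((t + 1 : ℕ) : ℤ) := by rw [hn]; push_cast; ring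
        rw [this]
        exact hx
      have h1 : x - (decompose ℳ x n : M) ∈ up 𝒜 ℳ hposR n := sub_comp_mem_up 𝒜 ℳ hposR hx'
      have hc : (decompose ℳ x n : M) ∈ ini 𝒜 ℳ hposR N' := by
        refine (mem_ini 𝒜 ℳ hposR).mpr fun n' => ?_
        by_cases h : n = n'
        · subst h
          refine ⟨x, hxN', ?_⟩
          rw [decompose_of_mem_same ℳ (decompose ℳ x n).2]
          exact h1
        · refine ⟨0, N'.zero_mem, ?_⟩
          rw [decompose_of_mem_ne ℳ (decompose ℳ x n).2 h, sub_zero]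
          exact Submodule.zero_mem _
      obtain ⟨y, hyN, hyc⟩ := (mem_ini 𝒜 ℳ hposR).mp (hini hc) n
      rw [decompose_of_mem_same ℳ (decompose ℳ x n).2] at hyc
      have hxy : x - y ∈ N := by
        apply ih (x - y) (N'.sub_mem hxN' (hNN' hyN))
        rw [← hn]
        have : x - y = (x - (decompose ℳ x n : M)) - (y - (decompose ℳ x n : M)) := by abel
        rw [this]
        exact Submodule.sub_mem _ h1 hyc
      have : x = (x - y) + y := by abel
      rw [this]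
      exact N.add_mem hxy hyN
  intro x hx
  obtain ⟨j₀, hj₀⟩ := exists_mem_up 𝒜 ℳ hposR x
  apply claim (n₀ - j₀).toNat x hx
  apply up_anti 𝒜 ℳ hposR _ hj₀
  have := Int.self_le_toNat (n₀ - j₀)
  omega

include 𝒜 hposR in
/-- an Artinian graded module is bounded above -/
theorem exists_upper_bound [IsArtinian R M] :
    ∃ n₁ : ℤ, ∀ n : ℤ, n₁ < n → ∀ x ∈ ℳ n, x = 0 := by
  let f : ℕ →o (Submodule R M)ᵒᵈ :=
    ⟨fun t => OrderDual.toDual (up 𝒜 ℳ hposR (t : ℤ)), fun s t hst =>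
      OrderDual.toDual_le_toDual.mpr (up_anti 𝒜 ℳ hposR (by exact_mod_cast hst))⟩
  obtain ⟨t₀, ht₀⟩ := IsArtinian.monotone_stabilizes f
  refine ⟨t₀, fun n hn x hx => ?_⟩
  have hn0 : 0 ≤ n := by omega
  have h1 : x ∈ up 𝒜 ℳ hposR (t₀ : ℤ) := homog_mem_up 𝒜 ℳ hposR hx hn
  have h2 : up 𝒜 ℳ hposR (t₀ : ℤ) = up 𝒜 ℳ hposR ((n.toNat : ℕ) : ℤ) := by
    have := ht₀ n.toNat (by omega)
    exact congrArg OrderDual.ofDual this
  rw [h2, Int.toNat_of_nonneg hn0] at h1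
  have := h1 n le_rfl
  rwa [decompose_of_mem_same ℳ hx] at this

end basics

section art

variable {k : Type u} [Field k] {R : Type u} [CommRing R] [Algebra k R]
  (𝒜 : ℤ → Submodule k R) [GradedAlgebra 𝒜]
variable {M : Type u} [AddCommGroup M] [Module R M] [Module k M] [IsScalarTower k R M]
  (ℳ : ℤ → AddSubgroup M) [Decomposition ℳ] [SetLike.GradedSMul 𝒜 ℳ]
variable (hposR : ∀ n : ℤ, n < 0 → 𝒜 n = ⊥) (h0R : 𝒜 0 = Submodule.span k {(1 : R)})

def phiSet (n : ℤ) (U : Submodule k M) : Set M :=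
  {x | (decompose ℳ x n : M) ∈ U ∧ ∀ j : ℤ, j < n → (decompose ℳ x j : M) = 0}

omit [SetLike.GradedSMul 𝒜 ℳ] in
theorem phiSet_zero (n : ℤ) (U : Submodule k M) : (0 : M) ∈ phiSet ℳ n U := by
  refine ⟨?_, fun j _ => ?_⟩
  · rw [decompose_zero, DirectSum.zero_apply, ZeroMemClass.coe_zero]
    exact U.zero_mem
  · rw [decompose_zero, DirectSum.zero_apply, ZeroMemClass.coe_zero]

omit [SetLike.GradedSMul 𝒜 ℳ] in
theorem phiSet_add (n : ℤ) (U : Submodule k M) {x y : M} (hx : x ∈ phiSet ℳ n U)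
    (hy : y ∈ phiSet ℳ n U) : x + y ∈ phiSet ℳ n U := by
  refine ⟨?_, fun j hj => ?_⟩
  · rw [decompose_add, DirectSum.add_apply, AddSubgroup.coe_add]
    exact U.add_mem hx.1 hy.1
  · rw [decompose_add, DirectSum.add_apply, AddSubgroup.coe_add, hx.2 j hj, hy.2 j hj, add_zero]

include hposR h0R in
theorem phiSet_smul_homog (n : ℤ) (U : Submodule k M) {a : ℤ} {r : R} (hr : r ∈ 𝒜 a) {x : M}
    (hx : x ∈ phiSet ℳ n U) : r • x ∈ phiSet ℳ n U := by
  rcases lt_trichotomy a 0 with ha | ha | ha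
  · have : r = 0 := by
      rw [hposR a ha] at hr
      exact (Submodule.mem_bot k).mp hr
    rw [this, zero_smul]
    exact phiSet_zero ℳ n U
  · subst ha
    have hr' := hr
    rw [h0R] at hr'
    obtain ⟨c, hc⟩ := Submodule.mem_span_singleton.mp hr'
    have hcv : ∀ v : M, r • v = c • v := fun v => by rw [← hc, smul_assoc, one_smul]
    refine ⟨?_, fun j hj => ?_⟩
    · rw [decompose_homog_smul 𝒜 ℳ hr x n, sub_zero, hcv]
      exact U.smul_mem c hx.1
    · rw [decompose_homog_smul 𝒜 ℳ hr x j, sub_zero, hx.2 j hj, smul_zero]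
  · refine ⟨?_, fun j hj => ?_⟩
    · rw [decompose_homog_smul 𝒜 ℳ hr x n, hx.2 (n - a) (by omega), smul_zero]
      exact U.zero_mem
    · rw [decompose_homog_smul 𝒜 ℳ hr x j, hx.2 (j - a) (by omega), smul_zero]

include hposR h0R in
theorem phiSet_smul (n : ℤ) (U : Submodule k M) (r : R) {x : M} (hx : x ∈ phiSet ℳ n U) :
    r • x ∈ phiSet ℳ n U := by
  induction r using DirectSum.Decomposition.inductionOn 𝒜 with
  | zero => rw [zero_smul]; exact phiSet_zero ℳ n U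
  | @homogeneous a r => exact phiSet_smul_homog 𝒜 ℳ hposR h0R n U r.2 hx
  | add r r' hr hr' => rw [add_smul]; exact phiSet_add ℳ n U hr hr'

def Phi (n : ℤ) (U : Submodule k M) : Submodule R M where
  carrier := phiSet ℳ n U
  add_mem' := fun hx hy => phiSet_add ℳ n U hx hy
  zero_mem' := phiSet_zero ℳ n U
  smul_mem' := fun r _ hx => phiSet_smul 𝒜 ℳ hposR h0R n U r hx

include hposR h0R in
theorem finiteDimensional_piece_of_artinian [IsArtinian R M] (n : ℤ) :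
    FiniteDimensional k (compk 𝒜 ℳ n) := by
  have hsm : StrictMono (fun U : Submodule k (compk 𝒜 ℳ n) =>
      Phi 𝒜 ℳ hposR h0R n (U.map (compk 𝒜 ℳ n).subtype)) := by
    intro U U' hlt
    show Phi 𝒜 ℳ hposR h0R n (U.map (compk 𝒜 ℳ n).subtype) <
      Phi 𝒜 ℳ hposR h0R n (U'.map (compk 𝒜 ℳ n).subtype)
    refine lt_of_le_of_ne ?_ ?_
    · intro x hx
      exact ⟨Submodule.map_mono hlt.le hx.1, hx.2⟩
    · intro heq
      apply not_le_of_gt hlt
      intro u hu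
      have hun : (u : M) ∈ ℳ n := u.2
      have hu1 : (u : M) ∈ Phi 𝒜 ℳ hposR h0R n (U'.map (compk 𝒜 ℳ n).subtype) := by
        refine ⟨?_, fun j hj => ?_⟩
        · rw [decompose_of_mem_same ℳ hun]
          exact ⟨u, hu, rfl⟩
        · exact decompose_of_mem_ne ℳ hun (by omega)
      rw [← heq] at hu1
      obtain ⟨u₀, hu₀, hu₀u⟩ := hu1.1
      rw [decompose_of_mem_same ℳ hun] at hu₀u
      have : u₀ = u := Subtype.ext hu₀u
      rw [← this]
      exact hu₀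
  have hart : IsArtinian k (compk 𝒜 ℳ n) := hsm.wellFoundedLT
  have h := (IsSemisimpleModule.finite_tfae (R := k) (M := compk 𝒜 ℳ n)).out 0 2
  exact h.mpr hart

end art

section dual

variable {k : Type u} [Field k] {R : Type u} [CommRing R] [Algebra k R]
  (𝒜 : ℤ → Submodule k R) [GradedAlgebra 𝒜]
variable {M : Type u} [AddCommGroup M] [Module R M] [Module k M] [IsScalarTower k R M]
  (ℳ : ℤ → AddSubgroup M) [Decomposition ℳ] [SetLike.GradedSMul 𝒜 ℳ]
variable {D : Type u} [AddCommGroup D] [Module R D] [Module k D] [IsScalarTower k R D]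
  (𝒟 : ℤ → AddSubgroup D) [Decomposition 𝒟] [SetLike.GradedSMul 𝒜 𝒟]
variable (β : D →ₗ[k] M →ₗ[k] k) (hD : GrSeg.IsGDual R ℳ 𝒟 β)

include hD in
theorem flip_isGDual (hfd : ∀ n, FiniteDimensional k (compk 𝒜 ℳ n)) :
    GrSeg.IsGDual R 𝒟 ℳ β.flip where
  map_smul := fun r x d => by
    rw [LinearMap.flip_apply, LinearMap.flip_apply]
    exact (hD.map_smul r d x).symm
  vanish := fun n x hx m hm d hd => by
    rw [LinearMap.flip_apply]
    exact hD.vanish m d hd n (fun h => hm (by rw [h, neg_neg])) x hx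
  eq_zero := fun n x hx h => by
    by_contra hne
    obtain ⟨d, hd, hdx⟩ := sep ℳ 𝒟 β hD hx hne
    exact hdx (by have := h d hd; rwa [LinearMap.flip_apply] at this)
  exists_eq := fun n g => by
    haveI := hfd n
    obtain ⟨y, hy, hyg⟩ := exists_rep 𝒜 ℳ 𝒟 β hD n g
    exact ⟨y, hy, fun d hd => by rw [LinearMap.flip_apply]; exact hyg d hd⟩

theorem bot_homog : (⊥ : Submodule R D).IsHomogeneous 𝒟 := by
  intro i x hx
  rw [Submodule.mem_bot] at hx
  rw [hx, decompose_zero, DirectSum.zero_apply, ZeroMemClass.coe_zero]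
  exact Submodule.zero_mem _

theorem sup_homog {G G' : Submodule R D} (h : G.IsHomogeneous 𝒟) (h' : G'.IsHomogeneous 𝒟) :
    (G ⊔ G').IsHomogeneous 𝒟 := by
  intro i x hx
  obtain ⟨a, ha, b, hb, rfl⟩ := Submodule.mem_sup.mp hx
  rw [decompose_add, DirectSum.add_apply, AddSubgroup.coe_add]
  exact Submodule.add_mem_sup (h i ha) (h' i hb)

include 𝒜 in
theorem span_singleton_homog {c : D} {g : ℤ} (hc : c ∈ 𝒟 g) :
    (Submodule.span R {c}).IsHomogeneous 𝒟 := by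
  intro i x hx
  obtain ⟨s, rfl⟩ := Submodule.mem_span_singleton.mp hx
  rw [decompose_smul_of_mem 𝒜 𝒟 hc s i]
  exact Submodule.smul_mem _ _ (Submodule.mem_span_singleton_self c)

/-- the annihilator in `M` of a submodule of the dual -/
def perp (G : Submodule R D) : Submodule R M where
  carrier := {x | ∀ z ∈ G, β z x = 0}
  add_mem' := fun {x y} hx hy z hz => by rw [map_add, hx z hz, hy z hz, add_zero]
  zero_mem' := fun z _ => map_zero _
  smul_mem' := fun r x hx z hz => by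
    show β z (r • x) = 0
    rw [← hD.map_smul]
    exact hx _ (G.smul_mem r hz)

theorem perp_anti {G G' : Submodule R D} (h : G ≤ G') :
    perp ℳ 𝒟 β hD G' ≤ perp ℳ 𝒟 β hD G := fun _ hx z hz => hx z (h hz)

theorem le_of_perp_le (hfd : ∀ n, FiniteDimensional k (compk 𝒜 ℳ n)) {G G' : Submodule R D}
    (hG : G.IsHomogeneous 𝒟) (hG' : G'.IsHomogeneous 𝒟)
    (h : perp ℳ 𝒟 β hD G ≤ perp ℳ 𝒟 β hD G') : G' ≤ G := by
  classical
  intro z hz
  rw [← DirectSum.sum_support_decompose 𝒟 z]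
  apply Submodule.sum_mem
  intro n _
  obtain ⟨c, hc⟩ : ∃ c : D, c = (decompose 𝒟 z n : D) := ⟨_, rfl⟩
  rw [← hc]
  have hcn : c ∈ 𝒟 n := hc ▸ (decompose 𝒟 z n).2
  have hcG' : c ∈ G' := hc ▸ hG' n hz
  by_contra hcG
  haveI := hfd (-n)
  let V := compk 𝒜 ℳ (-n)
  let W := compk 𝒜 𝒟 n
  let p : W →ₗ[k] Module.Dual k V := ((LinearMap.lcomp k k V.subtype) ∘ₗ β) ∘ₗ W.subtype
  have hp : ∀ (d : W) (y : V), p d y = β d.1 y.1 := fun d y => rfl
  have hpinj : Function.Injective p := by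
    rw [injective_iff_map_eq_zero]
    intro d hd
    apply Subtype.ext
    apply hD.eq_zero n d.1 d.2
    intro x hx
    exact LinearMap.congr_fun hd ⟨x, hx⟩
  let U : Submodule k W :=
    { carrier := {w | w.1 ∈ G}
      add_mem' := fun ha hb => G.add_mem ha hb
      zero_mem' := G.zero_mem
      smul_mem' := fun a w hw => by
        show (a • w).1 ∈ G
        have : (a • w).1 = algebraMap k R a • w.1 := by rw [algebraMap_smul]; rfl
        rw [this]
        exact G.smul_mem _ hw }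
  let U' : Submodule k (Module.Dual k V) := U.map p
  have hnot : p ⟨c, hcn⟩ ∉ U' := by
    rintro ⟨w, hw, hwc⟩
    have hwe : w = ⟨c, hcn⟩ := hpinj hwc
    apply hcG
    have h2 : w.1 ∈ G := hw
    rw [hwe] at h2
    exact h2
  have hnot' : p ⟨c, hcn⟩ ∉ U'.dualCoannihilator.dualAnnihilator := by
    rw [Subspace.dualCoannihilator_dualAnnihilator_eq]
    exact hnot
  rw [Submodule.mem_dualAnnihilator] at hnot'
  push_neg at hnot'
  obtain ⟨y, hy, hyc⟩ := hnot'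
  rw [Submodule.mem_dualCoannihilator] at hy
  have hyn : y.1 ∈ ℳ (-n) := y.2
  have hyperp : y.1 ∈ perp ℳ 𝒟 β hD G := by
    intro g hg
    rw [pair_comp ℳ 𝒟 β hD g hyn, neg_neg]
    have hgn : (decompose 𝒟 g n : D) ∈ G := hG n hg
    exact hy (p ⟨_, (decompose 𝒟 g n).2⟩) ⟨⟨_, (decompose 𝒟 g n).2⟩, hgn, rfl⟩
  apply hyc
  rw [hp]
  exact h hyperp c hcG'

include β hD in
theorem isArtinian_dual (hposR : ∀ n : ℤ, n < 0 → 𝒜 n = ⊥)
    (hfd : ∀ n, FiniteDimensional k (compk 𝒜 ℳ n)) [IsNoetherian R M] {n₀ : ℤ}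
    (hb : ∀ n, n₀ < n → ∀ x ∈ 𝒟 n, x = 0) : IsArtinian R D := by
  haveI : WellFoundedGT (Submodule R M) := isNoetherian_iff'.mp inferInstance
  have hΨ : StrictAnti (fun N : Submodule R D => perp ℳ 𝒟 β hD (ini 𝒜 𝒟 hposR N)) := by
    intro N N' hlt
    show perp ℳ 𝒟 β hD (ini 𝒜 𝒟 hposR N') < perp ℳ 𝒟 β hD (ini 𝒜 𝒟 hposR N)
    have hle : ini 𝒜 𝒟 hposR N ≤ ini 𝒜 𝒟 hposR N' := ini_mono 𝒜 𝒟 hposR hlt.le
    refine lt_of_le_of_ne (perp_anti ℳ 𝒟 β hD hle) ?_
    intro heq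
    have h1 : ini 𝒜 𝒟 hposR N' ≤ ini 𝒜 𝒟 hposR N :=
      le_of_perp_le 𝒜 ℳ 𝒟 β hD hfd (ini_isHomogeneous 𝒜 𝒟 hposR N)
        (ini_isHomogeneous 𝒜 𝒟 hposR N') heq.ge
    exact absurd (le_of_ini_le 𝒜 𝒟 hposR hb hlt.le h1) (not_le_of_gt hlt)
  exact hΨ.wellFoundedLT

include 𝒟 β hD in
theorem finite_dual_of_artinian (hfd : ∀ n, FiniteDimensional k (compk 𝒜 ℳ n))
    [IsArtinian R M] : Module.Finite R D := by
  classical
  let S : Set (Submodule R M) :=
    {P | ∃ G : Submodule R D, G.IsHomogeneous 𝒟 ∧ G.FG ∧ P = perp ℳ 𝒟 β hD G}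
  have hne : S.Nonempty := ⟨_, ⊥, bot_homog 𝒟, Submodule.fg_bot, rfl⟩
  obtain ⟨P, ⟨G, hGh, hGfg, rfl⟩, hmin⟩ := wellFounded_lt.has_min S hne
  have htop : G = ⊤ := by
    by_contra hne
    obtain ⟨z, hz⟩ : ∃ z, z ∉ G := by
      by_contra h
      push_neg at h
      exact hne (eq_top_iff.mpr fun z _ => h z)
    obtain ⟨i, hi⟩ : ∃ i, (decompose 𝒟 z i : D) ∉ G := by
      by_contra h
      push_neg at h
      apply hz
      rw [← DirectSum.sum_support_decompose 𝒟 z]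
      exact Submodule.sum_mem _ fun i _ => h i
    obtain ⟨G₁, hG₁⟩ : ∃ G₁ : Submodule R D,
      G₁ = G ⊔ Submodule.span R {(decompose 𝒟 z i : D)} := ⟨_, rfl⟩
    have hG₁h : G₁.IsHomogeneous 𝒟 := by
      rw [hG₁]
      exact sup_homog 𝒟 hGh (span_singleton_homog 𝒜 𝒟 (decompose 𝒟 z i).2)
    have hG₁fg : G₁.FG := by
      rw [hG₁]
      exact hGfg.sup (Submodule.fg_span_singleton _)
    have hle : G ≤ G₁ := by rw [hG₁]; exact le_sup_left
    have hmem : (decompose 𝒟 z i : D) ∈ G₁ := by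
      rw [hG₁]
      exact (le_sup_right : _ ≤ G ⊔ Submodule.span R {(decompose 𝒟 z i : D)})
        (Submodule.mem_span_singleton_self _)
    have hnle : ¬ G₁ ≤ G := fun h => hi (h hmem)
    have : perp ℳ 𝒟 β hD G₁ < perp ℳ 𝒟 β hD G := by
      refine lt_of_le_of_ne (perp_anti ℳ 𝒟 β hD hle) fun heq => ?_
      exact hnle (le_of_perp_le 𝒜 ℳ 𝒟 β hD hfd hGh hG₁h heq.ge)
    exact hmin _ ⟨G₁, hG₁h, hG₁fg, rfl⟩ this
  rw [Module.finite_def, ← htop]
  exact hGfg

end dual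

theorem main19761 (k : Type u) [Field k] (R : Type u) [CommRing R] [Algebra k R]
    (𝒜 : ℤ → Submodule k R) [GradedAlgebra 𝒜] (hposR : ∀ n : ℤ, n < 0 → 𝒜 n = ⊥)
    (h0R : 𝒜 0 = Submodule.span k {(1 : R)}) [Algebra.FiniteType k R]
    (M : Type u) [AddCommGroup M] [Module R M] [Module k M] [IsScalarTower k R M]
    (ℳ : ℤ → AddSubgroup M) [DirectSum.Decomposition ℳ] [SetLike.GradedSMul 𝒜 ℳ]
    (D : Type u) [AddCommGroup D] [Module R D] [Module k D] [IsScalarTower k R D]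
    (𝒟 : ℤ → AddSubgroup D) [DirectSum.Decomposition 𝒟] [SetLike.GradedSMul 𝒜 𝒟]
    (β : D →ₗ[k] M →ₗ[k] k) (hD : GrSeg.IsGDual R ℳ 𝒟 β) :
    (Module.Finite R M → IsArtinian R D ∧ GrSeg.IsGDual R 𝒟 ℳ β.flip) ∧
      (IsArtinian R M → Module.Finite R D ∧ GrSeg.IsGDual R 𝒟 ℳ β.flip) := by
  haveI : IsNoetherianRing R := Algebra.FiniteType.isNoetherianRing k R
  constructor
  · intro hfin
    haveI := hfin
    have hfd : ∀ n, FiniteDimensional k (compk 𝒜 ℳ n) :=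
      fun n => finiteDimensional_piece 𝒜 hposR h0R ℳ n
    refine ⟨?_, flip_isGDual 𝒜 ℳ 𝒟 β hD hfd⟩
    haveI : IsNoetherian R M := isNoetherian_of_isNoetherianRing_of_finite R M
    obtain ⟨n₀, hn₀⟩ := exists_lower_bound 𝒜 hposR ℳ
    have hb : ∀ n, -n₀ < n → ∀ x ∈ 𝒟 n, x = 0 := by
      intro n hn d hd
      apply hD.eq_zero n d hd
      intro x hx
      rw [hn₀ (-n) (by omega) x hx, map_zero]
    exact isArtinian_dual 𝒜 ℳ 𝒟 β hD hposR hfd hb
  · intro hart
    haveI := hart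
    have hfd : ∀ n, FiniteDimensional k (compk 𝒜 ℳ n) :=
      fun n => finiteDimensional_piece_of_artinian 𝒜 ℳ hposR h0R n
    exact ⟨finite_dual_of_artinian 𝒜 ℳ 𝒟 β hD hfd, flip_isGDual 𝒜 ℳ 𝒟 β hD hfd⟩

end Groth.Agent.Lib.GrDualArtH1
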