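import Mathlib
import Groth.Prelude.Def_GrLC
import Groth.Prelude.Def_GrSeg
import Groth.Agent.Lib.GrDualArt_helper1

/-! Artinian graded modules embed in finite sums of shifted graded duals of the ring (helper1). -/

set_option autoImplicit false

namespace Groth.Agent.Lib.GrDualEmbH1

open DirectSum GrLC Groth.Agent.Lib.GrDual2H1 Groth.Agent.Lib.GrDual3H1
  Groth.Agent.Lib.GrDualArtH1 Groth.Agent.Lib

universe u

section conv

variable {k : Type u} [Field k] {R : Type u} [CommRing R] [Algebra k R]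
  (𝒜 : ℤ → Submodule k R) [GradedAlgebra 𝒜]

/-- the pieces of the ring as additive subgroups -/
def toAS (n : ℤ) : AddSubgroup R := (𝒜 n).toAddSubgroup

def cvt (n : ℤ) : 𝒜 n →+ toAS 𝒜 n where
  toFun a := ⟨a.1, a.2⟩
  map_zero' := rfl
  map_add' _ _ := rfl

theorem coe_map_cvt (y : ⨁ n, 𝒜 n) :
    DirectSum.coeAddMonoidHom (toAS 𝒜) (DirectSum.map (cvt 𝒜) y) =
      DirectSum.coeAddMonoidHom 𝒜 y := by
  induction y using DirectSum.induction_on with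
  | zero => rw [map_zero, map_zero, map_zero]
  | of g a =>
    rw [DirectSum.map_of, DirectSum.coeAddMonoidHom_of, DirectSum.coeAddMonoidHom_of]
    rfl
  | add y y' hy hy' => rw [map_add, map_add, map_add, hy, hy']

noncomputable def decAS : Decomposition (toAS 𝒜) :=
  Decomposition.ofAddHom _ ((DirectSum.map (cvt 𝒜)).comp (decomposeAddEquiv 𝒜).toAddMonoidHom)
    (by
      apply AddMonoidHom.ext
      intro x
      rw [AddMonoidHom.comp_apply, AddMonoidHom.comp_apply, coe_map_cvt, AddMonoidHom.id_apply]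
      exact Decomposition.left_inv x)
    (by
      apply DirectSum.addHom_ext
      rintro n ⟨x, hx⟩
      rw [AddMonoidHom.comp_apply, DirectSum.coeAddMonoidHom_of, AddMonoidHom.id_apply,
        AddMonoidHom.comp_apply]
      have hx' : x ∈ 𝒜 n := hx
      show DirectSum.map (cvt 𝒜) (decompose 𝒜 x) = _
      rw [decompose_of_mem 𝒜 hx', DirectSum.map_of]
      rfl)

theorem gsmulAS : SetLike.GradedSMul 𝒜 (toAS 𝒜) where
  smul_mem := fun _ _ _ _ hr hx => SetLike.GradedMul.mul_mem (A := 𝒜) hr hx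

variable [Algebra.FiniteType k R]
variable {D : Type u} [AddCommGroup D] [Module R D] [Module k D] [IsScalarTower k R D]
  (𝒟 : ℤ → AddSubgroup D) [Decomposition 𝒟] [SetLike.GradedSMul 𝒜 𝒟]

theorem isArtinian_dual_ring (hposR : ∀ n : ℤ, n < 0 → 𝒜 n = ⊥)
    (h0R : 𝒜 0 = Submodule.span k {(1 : R)}) (β : D →ₗ[k] R →ₗ[k] k)
    (hD : GrSeg.IsGDual R 𝒜 𝒟 β) : IsArtinian R D := by
  letI := decAS 𝒜
  haveI := gsmulAS 𝒜
  have hD' : GrSeg.IsGDual R (toAS 𝒜) 𝒟 β := ⟨hD.map_smul, hD.vanish, hD.eq_zero, hD.exists_eq⟩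
  exact ((main19761 k R 𝒜 hposR h0R R (toAS 𝒜) D 𝒟 β hD').1 inferInstance).1

end conv

section emb

variable {k : Type u} [Field k] {R : Type u} [CommRing R] [Algebra k R]
  (𝒜 : ℤ → Submodule k R) [GradedAlgebra 𝒜]
variable {M : Type u} [AddCommGroup M] [Module R M] [Module k M] [IsScalarTower k R M]
  (ℳ : ℤ → AddSubgroup M) [Decomposition ℳ] [SetLike.GradedSMul 𝒜 ℳ]
variable {D : Type u} [AddCommGroup D] [Module R D] [Module k D] [IsScalarTower k R D]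
  (𝒟 : ℤ → AddSubgroup D) [Decomposition 𝒟] [SetLike.GradedSMul 𝒜 𝒟]
variable (β : D →ₗ[k] R →ₗ[k] k) (hD : GrSeg.IsGDual R 𝒜 𝒟 β)

/-- `k`-linear projection to a component -/
noncomputable def projk (g : ℤ) : M →ₗ[k] M where
  toFun x := (decompose ℳ x g : M)
  map_add' x y := by rw [decompose_add, DirectSum.add_apply, AddSubgroup.coe_add]
  map_smul' c x := by
    rw [RingHom.id_apply, ← algebraMap_smul R c x,
      decompose_homog_smul 𝒜 ℳ (algebraMap_mem_zero 𝒜 c) x g, sub_zero, algebraMap_smul]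

theorem projk_apply (g : ℤ) (x : M) : projk 𝒜 ℳ g x = (decompose ℳ x g : M) := rfl

variable (lam : M →ₗ[k] k) (e : ℤ)

/-- the functional `r ↦ λ(r • x)` -/
noncomputable def funcOf (x : M) : R →ₗ[k] k :=
  lam ∘ₗ ((LinearMap.toSpanSingleton R M x).restrictScalars k)

theorem funcOf_apply (x : M) (r : R) : funcOf lam x r = lam (r • x) := rfl

/-- the element of `D_{g-e}` representing `r ↦ λ(r • x)` -/
noncomputable def rep (g : ℤ) (x : M) : D := GrDualH1.mk 𝒜 𝒟 β hD (g - e) (funcOf lam x)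

theorem rep_mem (g : ℤ) (x : M) : rep 𝒜 𝒟 β hD lam e g x ∈ 𝒟 (g - e) := GrDualH1.mk_mem 𝒜 𝒟 β hD _ _

theorem rep_apply (g : ℤ) (x : M) {r : R} (hr : r ∈ 𝒜 (-(g - e))) :
    β (rep 𝒜 𝒟 β hD lam e g x) r = lam (r • x) := by
  unfold rep
  rw [GrDualH1.mk_apply 𝒜 𝒟 β hD _ _ hr, funcOf_apply]

/-- additive map on a piece -/
noncomputable def fn (g : ℤ) : ℳ g →+ D where
  toFun x := rep 𝒜 𝒟 β hD lam e g x.1
  map_zero' := by
    apply GrDualH1.eq_of_agree 𝒜 𝒟 β hD (rep_mem 𝒜 𝒟 β hD lam e g _) (zero_mem _)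
    intro r hr
    rw [rep_apply 𝒜 𝒟 β hD lam e g _ hr, ZeroMemClass.coe_zero, smul_zero, map_zero, map_zero,
      LinearMap.zero_apply]
  map_add' x x' := by
    apply GrDualH1.eq_of_agree 𝒜 𝒟 β hD (rep_mem 𝒜 𝒟 β hD lam e g _)
      (add_mem (rep_mem 𝒜 𝒟 β hD lam e g _) (rep_mem 𝒜 𝒟 β hD lam e g _))
    intro r hr
    rw [map_add, LinearMap.add_apply, rep_apply 𝒜 𝒟 β hD lam e g _ hr,
      rep_apply 𝒜 𝒟 β hD lam e g _ hr, rep_apply 𝒜 𝒟 β hD lam e g _ hr, AddSubgroup.coe_add,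
      smul_add, map_add]

noncomputable def fAdd : M →+ D :=
  (DirectSum.toAddMonoid (fn 𝒜 ℳ 𝒟 β hD lam e)).comp (decomposeAddEquiv ℳ).toAddMonoidHom

theorem fAdd_of_mem {g : ℤ} {x : M} (hx : x ∈ ℳ g) :
    fAdd 𝒜 ℳ 𝒟 β hD lam e x = rep 𝒜 𝒟 β hD lam e g x := by
  show DirectSum.toAddMonoid (fn 𝒜 ℳ 𝒟 β hD lam e) (decompose ℳ x) = _
  rw [decompose_of_mem ℳ hx, DirectSum.toAddMonoid_of]
  rfl

theorem fAdd_smul (r : R) (x : M) :
    fAdd 𝒜 ℳ 𝒟 β hD lam e (r • x) = r • fAdd 𝒜 ℳ 𝒟 β hD lam e x := by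
  induction r using DirectSum.Decomposition.inductionOn 𝒜 with
  | zero => simp
  | @homogeneous a r =>
    induction x using DirectSum.Decomposition.inductionOn ℳ with
    | zero => simp
    | @homogeneous g x =>
      have hrx : (r : R) • (x : M) ∈ ℳ (a + g) := smul_mem_gr 𝒜 ℳ r.2 x.2
      rw [fAdd_of_mem 𝒜 ℳ 𝒟 β hD lam e hrx, fAdd_of_mem 𝒜 ℳ 𝒟 β hD lam e x.2]
      have hmem : (r : R) • rep 𝒜 𝒟 β hD lam e g (x : M) ∈ 𝒟 (a + g - e) := by
        have := smul_mem_gr 𝒜 𝒟 r.2 (rep_mem 𝒜 𝒟 β hD lam e g (x : M))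
        rwa [show a + (g - e) = a + g - e by ring] at this
      apply GrDualH1.eq_of_agree 𝒜 𝒟 β hD (rep_mem 𝒜 𝒟 β hD lam e (a + g) _) hmem
      intro s hs
      have hrs : (r : R) * s ∈ 𝒜 (-(g - e)) := by
        have := SetLike.GradedMul.mul_mem r.2 hs
        rwa [show a + -(a + g - e) = -(g - e) by ring] at this
      rw [rep_apply 𝒜 𝒟 β hD lam e (a + g) _ hs, hD.map_smul, smul_eq_mul,
        rep_apply 𝒜 𝒟 β hD lam e g _ hrs, smul_smul, mul_comm]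
    | add x x' hx hx' => rw [smul_add, map_add, map_add, hx, hx', smul_add]
  | add r r' hr hr' => rw [add_smul, map_add, hr, hr', add_smul]

/-- the `R`-linear map `M → D` attached to a homogeneous functional -/
noncomputable def fLin : M →ₗ[R] D where
  toFun := fAdd 𝒜 ℳ 𝒟 β hD lam e
  map_add' := (fAdd 𝒜 ℳ 𝒟 β hD lam e).map_add
  map_smul' := fun r x => fAdd_smul 𝒜 ℳ 𝒟 β hD lam e r x

theorem fLin_mem {g : ℤ} {x : M} (hx : x ∈ ℳ g) : fLin 𝒜 ℳ 𝒟 β hD lam e x ∈ 𝒟 (g - e) := by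
  show fAdd 𝒜 ℳ 𝒟 β hD lam e x ∈ _
  rw [fAdd_of_mem 𝒜 ℳ 𝒟 β hD lam e hx]
  exact rep_mem 𝒜 𝒟 β hD lam e g x

theorem pair_fLin (hlam : ∀ j : ℤ, j ≠ e → ∀ x ∈ ℳ j, lam x = 0) (x : M) (r : R) :
    β (fLin 𝒜 ℳ 𝒟 β hD lam e x) r = lam (r • x) := by
  induction x using DirectSum.Decomposition.inductionOn ℳ with
  | zero => simp
  | @homogeneous g x =>
    induction r using DirectSum.Decomposition.inductionOn 𝒜 with
    | zero => simp
    | @homogeneous a r =>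
      by_cases ha : a = -(g - e)
      · have hr : (r : R) ∈ 𝒜 (-(g - e)) := ha ▸ r.2
        show β (fAdd 𝒜 ℳ 𝒟 β hD lam e x) r = _
        rw [fAdd_of_mem 𝒜 ℳ 𝒟 β hD lam e x.2, rep_apply 𝒜 𝒟 β hD lam e g _ hr]
      · rw [hD.vanish (g - e) _ (fLin_mem 𝒜 ℳ 𝒟 β hD lam e x.2) a ha r r.2,
          hlam (a + g) (fun h => ha (by omega)) _ (smul_mem_gr 𝒜 ℳ r.2 x.2)]
    | add r r' hr hr' => rw [map_add, hr, hr', add_smul, map_add]
  | add x x' hx hx' => rw [map_add, map_add, LinearMap.add_apply, hx, hx', smul_add, map_add]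

include 𝒜 β hD in
theorem exists_embedding [IsArtinian R M] :
    ∃ (t : ℕ) (sh : Fin t → ℤ) (f : M →ₗ[R] (Fin t → D)), Function.Injective f ∧
      ∀ (i : Fin t) (g : ℤ) (x : M), x ∈ ℳ g → f x i ∈ 𝒟 (g + sh i) := by
  classical
  let S : Set (Submodule R M) := {K | ∃ (t : ℕ) (sh : Fin t → ℤ) (f : M →ₗ[R] (Fin t → D)),
    K = LinearMap.ker f ∧ ∀ (i : Fin t) (g : ℤ) (x : M), x ∈ ℳ g → f x i ∈ 𝒟 (g + sh i)}
  have hne : S.Nonempty :=
    ⟨⊤, 0, Fin.elim0, 0, by rw [LinearMap.ker_zero], fun i => i.elim0⟩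
  obtain ⟨K, ⟨t, sh, f, rfl, hf⟩, hmin⟩ := wellFounded_lt.has_min S hne
  refine ⟨t, sh, f, ?_, hf⟩
  rw [← LinearMap.ker_eq_bot]
  by_contra hK
  obtain ⟨x, hxK, hx0⟩ := Submodule.exists_mem_ne_zero_of_ne_bot hK
  obtain ⟨g, hg⟩ : ∃ g, (decompose ℳ x g : M) ≠ 0 := by
    by_contra hcon
    push_neg at hcon
    apply hx0
    rw [← DirectSum.sum_support_decompose ℳ x]
    exact Finset.sum_eq_zero (fun i _ => hcon i)
  obtain ⟨ψ, hψ⟩ : ∃ ψ : Module.Dual k M, ψ (decompose ℳ x g : M) ≠ 0 := by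
    by_contra hcon
    push_neg at hcon
    exact hg ((Module.forall_dual_apply_eq_zero_iff k _).mp hcon)
  obtain ⟨lam, hlamdef⟩ : ∃ lam : M →ₗ[k] k, lam = ψ ∘ₗ projk 𝒜 ℳ g := ⟨_, rfl⟩
  have hlam_apply : ∀ y, lam y = ψ (decompose ℳ y g : M) := fun y => by rw [hlamdef]; rfl
  have hlam : ∀ j : ℤ, j ≠ g → ∀ y ∈ ℳ j, lam y = 0 := fun j hj y hy => by
    rw [hlam_apply, decompose_of_mem_ne ℳ hy hj, map_zero]
  obtain ⟨fl, hfl⟩ : ∃ fl : M →ₗ[R] D, fl = fLin 𝒜 ℳ 𝒟 β hD lam g := ⟨_, rfl⟩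
  obtain ⟨fam, hfam⟩ : ∃ fam : Fin (t + 1) → (M →ₗ[R] D),
    fam = Fin.cons fl (fun i => (LinearMap.proj i).comp f) := ⟨_, rfl⟩
  have hfam0 : fam 0 = fl := by rw [hfam, Fin.cons_zero]
  have hfams : ∀ j : Fin t, fam j.succ = (LinearMap.proj j).comp f := fun j => by
    rw [hfam, Fin.cons_succ]
  obtain ⟨f', hf'⟩ : ∃ f' : M →ₗ[R] (Fin (t + 1) → D), f' = LinearMap.pi fam := ⟨_, rfl⟩
  have hf'0 : ∀ y, f' y 0 = fl y := fun y => by
    rw [hf', LinearMap.pi_apply, hfam0]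
  have hf's : ∀ y (j : Fin t), f' y j.succ = f y j := fun y j => by
    rw [hf', LinearMap.pi_apply, hfams]
    rfl
  obtain ⟨sh', hsh'⟩ : ∃ sh' : Fin (t + 1) → ℤ, sh' = Fin.cons (-g) sh := ⟨_, rfl⟩
  have hK'S : LinearMap.ker f' ∈ S := by
    refine ⟨t + 1, sh', f', rfl, fun i g' y hy => ?_⟩
    refine Fin.cases ?_ (fun j => ?_) i
    · rw [hf'0, hsh', Fin.cons_zero, hfl, ← sub_eq_add_neg]
      exact fLin_mem 𝒜 ℳ 𝒟 β hD lam g hy
    · rw [hf's, hsh', Fin.cons_succ]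
      exact hf j g' y hy
  have hlt : LinearMap.ker f' < LinearMap.ker f := by
    refine lt_of_le_of_ne ?_ ?_
    · intro y hy
      rw [LinearMap.mem_ker] at hy ⊢
      funext j
      rw [← hf's, hy]
      rfl
    · intro heq
      have hx' : x ∈ LinearMap.ker f' := by rw [heq]; exact hxK
      rw [LinearMap.mem_ker] at hx'
      have h0 : fl x = 0 := by rw [← hf'0, hx']; rfl
      have h1 := pair_fLin 𝒜 ℳ 𝒟 β hD lam g hlam x 1
      rw [← hfl, h0, map_zero, LinearMap.zero_apply, one_smul, hlam_apply] at h1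
      exact hψ h1.symm
  exact hmin _ hK'S hlt

end emb

theorem main19760 (k : Type u) [Field k] (R : Type u) [CommRing R] [Algebra k R]
    (𝒜 : ℤ → Submodule k R) [GradedAlgebra 𝒜] (hposR : ∀ n : ℤ, n < 0 → 𝒜 n = ⊥)
    (h0R : 𝒜 0 = Submodule.span k {(1 : R)}) [Algebra.FiniteType k R]
    (D : Type u) [AddCommGroup D] [Module R D] [Module k D] [IsScalarTower k R D]
    (𝒟 : ℤ → AddSubgroup D) [DirectSum.Decomposition 𝒟] [SetLike.GradedSMul 𝒜 𝒟]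
    (β : D →ₗ[k] R →ₗ[k] k) (hD : GrSeg.IsGDual R 𝒜 𝒟 β)
    (M : Type u) [AddCommGroup M] [Module R M] [Module k M] [IsScalarTower k R M]
    (ℳ : ℤ → AddSubgroup M) [DirectSum.Decomposition ℳ] [SetLike.GradedSMul 𝒜 ℳ] :
    IsArtinian R M ↔ ∃ (t : ℕ) (sh : Fin t → ℤ) (f : M →ₗ[R] (Fin t → D)),
      Function.Injective f ∧ ∀ (i : Fin t) (g : ℤ) (x : M), x ∈ ℳ g → f x i ∈ 𝒟 (g + sh i) := by
  constructor
  · intro h
    haveI := h
    exact exists_embedding 𝒜 ℳ 𝒟 β hD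
  · rintro ⟨t, sh, f, hf, _⟩
    haveI : IsArtinian R D := isArtinian_dual_ring 𝒜 𝒟 hposR h0R β hD
    exact isArtinian_of_injective f hf

end Groth.Agent.Lib.GrDualEmbH1
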