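import Mathlib
import Groth.Prelude.Def_GrLC
import Groth.Prelude.Def_GrSyz
import Groth.Agent.Lib.GrEG2_helper1

/-! Syzygies of a graded free resolution, regularity of the resolution bounds the local
cohomology, and Hilbert's syzygy theorem for minimal resolutions (helper1). -/

set_option autoImplicit false

namespace Groth.Agent.Lib.GrEG3H1

open DirectSum GrLC Groth.Agent.Lib.GrStarH1 Groth.Agent.Lib.GrStar2H1 Groth.Agent.Lib.GrStar3H1
  Groth.Agent.Lib.GrLES1H1 Groth.Agent.Lib.GrLES2H1 Groth.Agent.Lib.GrLES3H1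
  Groth.Agent.Lib.GrHDecH1 Groth.Agent.Lib.GrEG1H1 Groth.Agent.Lib.GrLES4H1
  Groth.Agent.Lib.GrSyz2H1 Groth.Agent.Lib.GrConvH1 Groth.Agent.Lib.GrSyzH1
  Groth.Agent.Lib.GrEG2H1 Groth.Agent.Lib.GrExtH1

universe u

attribute [local instance] freeDecomp free_gsmul

/-! ### the first syzygy and the tail of a resolution -/
section tail

variable {R : Type u} [CommRing R] (𝒜 : ℤ → AddSubgroup R) [GradedRing 𝒜]
variable {M : Type u} [AddCommGroup M] [Module R M] (ℳ : ℤ → AddSubgroup M) [Decomposition ℳ]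
  [SetLike.GradedSMul 𝒜 ℳ] (F : GrSyz.FreeRes 𝒜 ℳ)

theorem dLin_gr (i : ℕ) :
    IsGrHom (freeGr 𝒜 (F.deg (i + 1))) (freeGr 𝒜 (F.deg i)) (F.dLin i) :=
  mulVecLin_gr 𝒜 (F.deg (i + 1)) (F.deg i) (F.d i) (F.d_mem i)

/-- the first syzygy module -/
def K1 : Submodule R (Fin (F.rk 0) → R) := LinearMap.range (F.dLin 0)

theorem K1_homog : (K1 𝒜 ℳ F).IsHomogeneous (freeGr 𝒜 (F.deg 0)) :=
  range_isHomogeneous (freeGr 𝒜 (F.deg 1)) (freeGr 𝒜 (F.deg 0)) (dLin_gr 𝒜 ℳ F 0)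

/-- the grading of the first syzygy module -/
abbrev KG : ℤ → AddSubgroup ↥(K1 𝒜 ℳ F) := subGr (freeGr 𝒜 (F.deg 0)) (K1 𝒜 ℳ F)

noncomputable local instance K1Dec : Decomposition (KG 𝒜 ℳ F) :=
  subDecomp (freeGr 𝒜 (F.deg 0)) (K1 𝒜 ℳ F) (K1_homog 𝒜 ℳ F)

local instance K1GS : SetLike.GradedSMul 𝒜 (KG 𝒜 ℳ F) :=
  sub_gsmul 𝒜 (freeGr 𝒜 (F.deg 0)) (K1 𝒜 ℳ F)

/-- the images of the basis vectors of `F₁` in the first syzygy -/
def tailAug (b : Fin (F.rk 1)) : ↥(K1 𝒜 ℳ F) := ⟨F.dLin 0 (Pi.single b 1), ⟨_, rfl⟩⟩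

theorem sum_smul_single {n : ℕ} (v : Fin n → R) :
    ∑ b, v b • (Pi.single b (1 : R) : Fin n → R) = v := by
  funext c
  rw [Finset.sum_apply]
  simp only [Pi.smul_apply, smul_eq_mul, Pi.single_apply, mul_ite, mul_one, mul_zero]
  rw [Finset.sum_ite_eq]
  simp

theorem tailAug_coe (v : Fin (F.rk 1) → R) :
    ((Fintype.linearCombination R (tailAug 𝒜 ℳ F) v : ↥(K1 𝒜 ℳ F)) : Fin (F.rk 0) → R) =
      F.dLin 0 v := by
  rw [Fintype.linearCombination_apply, Submodule.coe_sum]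
  simp only [Submodule.coe_smul]
  show ∑ b, v b • F.dLin 0 (Pi.single b 1) = _
  simp only [← map_smul]
  rw [← map_sum, sum_smul_single]

/-- the tail of a resolution: a resolution of the first syzygy -/
noncomputable def tail : GrSyz.FreeRes 𝒜 (KG 𝒜 ℳ F) where
  rk i := F.rk (i + 1)
  deg i := F.deg (i + 1)
  d i := F.d (i + 1)
  aug := tailAug 𝒜 ℳ F
  d_mem i := F.d_mem (i + 1)
  aug_mem b := by
    have h1 : (Pi.single b (1 : R) : Fin (F.rk 1) → R) ∈ freeGr 𝒜 (F.deg 1) (0 + F.deg 1 b) :=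
      single_mem_freeGr 𝒜 (F.deg 1) b SetLike.GradedOne.one_mem
    rw [zero_add] at h1
    exact dLin_gr 𝒜 ℳ F 0 _ _ h1
  aug_surjective := by
    rintro ⟨y, v, rfl⟩
    exact ⟨v, Subtype.ext (tailAug_coe 𝒜 ℳ F v)⟩
  exact_zero := by
    ext v
    rw [LinearMap.mem_ker, ← F.exact_succ 0, LinearMap.mem_ker]
    constructor
    · intro h
      rw [← tailAug_coe 𝒜 ℳ F v, h]
      rfl
    · intro h
      apply Subtype.ext
      rw [tailAug_coe 𝒜 ℳ F v, h]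
      rfl
  exact_succ i := F.exact_succ (i + 1)

theorem tail_rk (i : ℕ) : (tail 𝒜 ℳ F).rk i = F.rk (i + 1) := rfl

theorem tail_isGenLE (d : ℤ) (h : F.IsGenLE d) : (tail 𝒜 ℳ F).IsGenLE (d + 1) := by
  intro i b
  have := h (i + 1) b
  show F.deg (i + 1) b ≤ d + 1 + i
  push_cast at this
  linarith

theorem tail_isMinimal (𝔪 : Ideal R) (h : F.IsMinimal 𝔪) : (tail 𝒜 ℳ F).IsMinimal 𝔪 :=
  fun i a b => h (i + 1) a b

/-- the short exact sequence `0 → K₁ → F₀ → M → 0` -/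
noncomputable def ses0 : SES R (KG 𝒜 ℳ F) (freeGr 𝒜 (F.deg 0)) ℳ where
  u := (K1 𝒜 ℳ F).subtype
  p := F.augLin
  hu := subtype_isGrHom _ _
  hp := linComb_isGrHom 𝒜 (F.deg 0) ℳ F.aug F.aug_mem
  inj := Subtype.val_injective
  surj := F.aug_surjective
  exact := by
    rw [F.exact_zero, Submodule.range_subtype]
    rfl

theorem subtype_comp_aug :
    (K1 𝒜 ℳ F).subtype ∘ₗ (ses0 𝒜 (KG 𝒜 ℳ F) (tail 𝒜 ℳ F)).p =
      (Matrix.mulVecLin (F.d 0) :
        (Fin ((tail 𝒜 ℳ F).rk 0) → R) →ₗ[R] (Fin (F.rk 0) → R)) := by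
  apply LinearMap.ext
  intro v
  exact tailAug_coe 𝒜 ℳ F v

theorem d0_gr : IsGrHom (freeGr 𝒜 ((tail 𝒜 ℳ F).deg 0)) (freeGr 𝒜 (F.deg 0))
    (Matrix.mulVecLin (F.d 0) :
      (Fin ((tail 𝒜 ℳ F).rk 0) → R) →ₗ[R] (Fin (F.rk 0) → R)) :=
  dLin_gr 𝒜 ℳ F 0

theorem dd_zero (i : ℕ) (v : Fin (F.rk (i + 2)) → R) : F.dLin i (F.dLin (i + 1) v) = 0 := by
  have : F.dLin (i + 1) v ∈ LinearMap.ker (F.dLin i) := by
    rw [F.exact_succ i]
    exact ⟨v, rfl⟩
  exact this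

theorem dLin_mem_of_mem (P : Ideal R) (i : ℕ) (p : Fin (F.rk (i + 1)) → R) (hp : ∀ b, p b ∈ P)
    (a : Fin (F.rk i)) : F.dLin i p a ∈ P := by
  rw [Matrix.mulVecLin_apply, Matrix.mulVec, dotProduct]
  exact sum_mem (fun b _ => Ideal.mul_mem_left _ _ (hp b))

/-- vanishing of the homology of `F/PF` above `c` -/
def HP (P : Ideal R) (c : ℕ) : Prop :=
  ∀ i, c ≤ i → ∀ v : Fin (F.rk (i + 1)) → R, (∀ a, F.dLin i v a ∈ P) →
    ∃ w : Fin (F.rk (i + 2)) → R, ∀ b, (v - F.dLin (i + 1) w) b ∈ P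

theorem HP_bot : HP 𝒜 ℳ F ⊥ 0 := by
  intro i _ v hv
  have h0 : F.dLin i v = 0 := funext (fun a => (Submodule.mem_bot _).1 (hv a))
  have h1 : v ∈ LinearMap.ker (F.dLin i) := h0
  rw [F.exact_succ i] at h1
  obtain ⟨w, hw⟩ := h1
  refine ⟨w, fun b => ?_⟩
  rw [hw, sub_self]
  exact zero_mem _

theorem HP_step (P : Ideal R) (x : R) (hx : ∀ q, x * q ∈ P → q ∈ P) (c : ℕ)
    (h : HP 𝒜 ℳ F P c) : HP 𝒜 ℳ F (P ⊔ Ideal.span {x}) (c + 1) := by
  intro i hi v hv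
  have hdec : ∀ a', ∃ p ∈ P, ∃ t : R, F.dLin i v a' = p + t * x := by
    intro a'
    obtain ⟨p, hp, y, hy, hpy⟩ := Submodule.mem_sup.1 (hv a')
    obtain ⟨t, rfl⟩ := Ideal.mem_span_singleton'.1 hy
    exact ⟨p, hp, t, hpy.symm⟩
  choose p hp t ht using hdec
  obtain ⟨i', rfl⟩ : ∃ i', i = i' + 1 := ⟨i - 1, by omega⟩
  have h0 := dd_zero 𝒜 ℳ F i' v
  have e1 : F.dLin (i' + 1) v = p + x • t := funext (fun a' => by
    rw [ht a', Pi.add_apply, Pi.smul_apply, smul_eq_mul, mul_comm])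
  have h1 : ∀ a'', F.dLin i' t a'' ∈ P := by
    intro a''
    apply hx
    have e2 : F.dLin i' (p + x • t) = 0 := by rw [← e1]; exact h0
    rw [map_add, map_smul] at e2
    have e3 : x * F.dLin i' t a'' = - F.dLin i' p a'' := by
      have := congrFun e2 a''
      rw [Pi.add_apply, Pi.smul_apply, smul_eq_mul, Pi.zero_apply] at this
      linear_combination this
    rw [e3]
    exact neg_mem (dLin_mem_of_mem 𝒜 ℳ F P i' p hp a'')
  obtain ⟨t', ht'⟩ := h i' (by omega) t h1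
  have h2 : ∀ a', F.dLin (i' + 1) (v - x • t') a' ∈ P := by
    intro a'
    rw [map_sub, map_smul, Pi.sub_apply, Pi.smul_apply, ht a', smul_eq_mul]
    have : p a' + t a' * x - x * F.dLin (i' + 1) t' a' =
        p a' + x * (t - F.dLin (i' + 1) t') a' := by
      rw [Pi.sub_apply]
      ring
    rw [this]
    exact add_mem (hp a') (Ideal.mul_mem_left _ _ (ht' a'))
  obtain ⟨w, hw⟩ := h (i' + 1) (by omega) (v - x • t') h2
  refine ⟨w, fun b => ?_⟩
  have : (v - F.dLin (i' + 1 + 1) w) b =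
      (v - x • t' - F.dLin (i' + 1 + 1) w) b + t' b * x := by
    simp only [Pi.sub_apply, Pi.smul_apply, smul_eq_mul]
    ring
  rw [this]
  exact add_mem (Ideal.mem_sup_left (hw b))
    (Ideal.mem_sup_right (Ideal.mem_span_singleton'.2 ⟨t' b, rfl⟩))

end tail

/-! ### polynomial rings -/
section poly

open MvPolynomial

variable (k : Type u) [Field k] (r : ℕ)

local notation "S" => MvPolynomial (Fin (r + 1)) k
local notation "𝒮" => toAG (GrSyz.stdGr k (Fin (r + 1)))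

attribute [local instance] convGradedRing K1Dec K1GS

/-- regularity of the resolution bounds the local cohomology -/
theorem thmA : ∀ (m i : ℕ), r + 2 ≤ i + m →
    ∀ (M : Type u) [AddCommGroup M] [Module S M] (ℳ : ℤ → AddSubgroup M) [Decomposition ℳ]
      [SetLike.GradedSMul 𝒮 ℳ] (F : GrSyz.FreeRes 𝒮 ℳ) (d : ℤ), F.IsGenLE d →
      ∀ n : ℤ, d - i < n → Van 𝒮 ℳ (mm k r) i n := by
  intro m
  induction m with
  | zero =>
    intro i hi M _ _ ℳ _ _ F d _ n _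
    exact van_cd k r ℳ i (by omega) n
  | succ m ih =>
    intro i hi M _ _ ℳ _ _ F d hF n hn
    by_cases hi' : r + 2 ≤ i
    · exact van_cd k r ℳ i (by omega) n
    · apply van_right 𝒮 (ses0 𝒮 ℳ F) (mm k r) i n
      · apply van_free
        intro b
        apply van_S
        by_cases h1 : i = r + 1
        · right
          have := hF 0 b
          subst h1
          push_cast at hn this ⊢
          linarith
        · exact Or.inl h1
      · exact ih (i + 1) (by omega) ↥(K1 𝒮 ℳ F) (KG 𝒮 ℳ F) (tail 𝒮 ℳ F) (d + 1)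
          (tail_isGenLE 𝒮 ℳ F d hF) n (by push_cast; linarith)

variable {M : Type u} [AddCommGroup M] [Module (MvPolynomial (Fin (r + 1)) k) M]
  (ℳ : ℤ → AddSubgroup M) [Decomposition ℳ]
  [SetLike.GradedSMul (toAG (GrSyz.stdGr k (Fin (r + 1)))) ℳ]
  (F : GrSyz.FreeRes (toAG (GrSyz.stdGr k (Fin (r + 1)))) ℳ)

theorem HP_all : ∀ t : ℕ, t ≤ r + 1 → HP 𝒮 ℳ F (II k r (r + 1 - t)) t := by
  intro t
  induction t with
  | zero =>
    intro _
    rw [Nat.sub_zero, II_last]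
    exact HP_bot 𝒮 ℳ F
  | succ t ih =>
    intro ht
    obtain ⟨j, hj⟩ : ∃ j, j + t = r := ⟨r - t, by omega⟩
    have hjr : j < r + 1 := by omega
    have e1 : r + 1 - t = j + 1 := by omega
    have e2 : r + 1 - (t + 1) = j := by omega
    have h1 := ih (by omega)
    rw [e1] at h1
    rw [e2, II_succ k r j hjr]
    exact HP_step 𝒮 ℳ F (II k r (j + 1)) (X ⟨j, hjr⟩) (X_reg k r j hjr) t h1

/-- Hilbert's syzygy theorem for minimal resolutions -/
theorem HS (hF : F.IsMinimal (irr k (Fin (r + 1)))) (j : ℕ) (hj : r + 2 ≤ j) : F.rk j = 0 := by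
  obtain ⟨i, rfl⟩ : ∃ i, j = i + 1 := ⟨j - 1, by omega⟩
  by_contra hne
  have b : Fin (F.rk (i + 1)) := ⟨0, Nat.pos_of_ne_zero hne⟩
  have key := HP_all k r ℳ F (r + 1) le_rfl
  rw [Nat.sub_self, II_zero] at key
  have hmin : ∀ (i : ℕ) (v : Fin (F.rk (i + 1)) → S) (a : Fin (F.rk i)),
      F.dLin i v a ∈ irr k (Fin (r + 1)) := by
    intro i v a
    rw [Matrix.mulVecLin_apply, Matrix.mulVec, dotProduct]
    exact sum_mem (fun b _ => Ideal.mul_mem_right _ _ (hF i a b))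
  obtain ⟨w, hw⟩ := key i (by omega) (Pi.single b 1) (hmin i _)
  have h1 := hw b
  rw [Pi.sub_apply, Pi.single_eq_same] at h1
  have h2 := hmin (i + 1) w b
  have h3 : (1 : S) ∈ irr k (Fin (r + 1)) := by
    have := add_mem h1 h2
    rwa [sub_add_cancel] at this
  exact one_not_mem_irr h3

end poly

end Groth.Agent.Lib.GrEG3H1
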