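import Mathlib
import Groth.Prelude.Def_GrLC
import Groth.Prelude.Def_GrSyz
import Groth.Agent.Lib.GrEG3_helper1

/-! The Eisenbud–Goto theorem: the regularity of a minimal graded free resolution over a
polynomial ring is the regularity read off from graded local cohomology (helper1). -/

set_option autoImplicit false

namespace Groth.Agent.Lib.GrEG4H1

open DirectSum GrLC Groth.Agent.Lib.GrStarH1 Groth.Agent.Lib.GrStar2H1 Groth.Agent.Lib.GrStar3H1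
  Groth.Agent.Lib.GrLES1H1 Groth.Agent.Lib.GrLES2H1 Groth.Agent.Lib.GrLES3H1
  Groth.Agent.Lib.GrHDecH1 Groth.Agent.Lib.GrEG1H1 Groth.Agent.Lib.GrLES4H1
  Groth.Agent.Lib.GrSyz2H1 Groth.Agent.Lib.GrConvH1 Groth.Agent.Lib.GrSyzH1
  Groth.Agent.Lib.GrEG2H1 Groth.Agent.Lib.GrExtH1 Groth.Agent.Lib.GrEG3H1

universe u

attribute [local instance] freeDecomp free_gsmul convGradedRing K1Dec K1GS

section poly

open MvPolynomial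

variable (k : Type u) [Field k] (r : ℕ)

local notation "S" => MvPolynomial (Fin (r + 1)) k
local notation "𝒮" => toAG (GrSyz.stdGr k (Fin (r + 1)))

section fixed

variable {M : Type u} [AddCommGroup M] [Module (MvPolynomial (Fin (r + 1)) k) M]
  (ℳ : ℤ → AddSubgroup M) [Decomposition ℳ]
  [SetLike.GradedSMul (toAG (GrSyz.stdGr k (Fin (r + 1)))) ℳ]
  (F : GrSyz.FreeRes (toAG (GrSyz.stdGr k (Fin (r + 1)))) ℳ)

theorem hcase (hF : F.IsMinimal (irr k (Fin (r + 1)))) (i : ℕ) (n : ℤ)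
    (hn : ∀ b : Fin (F.rk (i + 1)), F.deg (i + 1) b ≤ n + ((r : ℤ) + 1)) (c : Fin (F.rk i))
    (b : Fin (F.rk (i + 1))) :
    F.d i c b = 0 ∨ Van 𝒮 𝒮 (mm k r) (r + 1) (-F.deg (i + 1) b + n) ∨
      Van 𝒮 𝒮 (mm k r) (r + 1) (-F.deg i c + n) := by
  by_cases h1 : F.deg (i + 1) b < n + ((r : ℤ) + 1)
  · right
    left
    exact van_S k r (r + 1) _ (Or.inr (by omega))
  · have h1' : F.deg (i + 1) b = n + ((r : ℤ) + 1) := le_antisymm (hn b) (not_lt.1 h1)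
    by_cases h2 : F.deg i c < F.deg (i + 1) b
    · right
      right
      exact van_S k r (r + 1) _ (Or.inr (by omega))
    · left
      exact entry_zero (F.d_mem i c b) (by omega) (hF i c b)

theorem lemU (hF : F.IsMinimal (irr k (Fin (r + 1)))) (n : ℤ)
    (hn : ∀ b : Fin (F.rk 1), F.deg 1 b ≤ n + ((r : ℤ) + 1))
    (η : HH 𝒮 (KG 𝒮 ℳ F) (mm k r) (r + 1)) (hη : η ∈ HHgr 𝒮 (KG 𝒮 ℳ F) (mm k r) (r + 1) n) :
    Hm 𝒮 (K1 𝒮 ℳ F).subtype (subtype_isGrHom _ _) (mm k r) (r + 1) η = 0 := by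
  have hvan : Van 𝒮 (KG 𝒮 (KG 𝒮 ℳ F) (tail 𝒮 ℳ F)) (mm k r) (r + 1 + 1) n :=
    van_cd k r (KG 𝒮 (KG 𝒮 ℳ F) (tail 𝒮 ℳ F)) (r + 1 + 1) (by omega) n
  have hs := surj_right 𝒮 (ses0 𝒮 (KG 𝒮 ℳ F) (tail 𝒮 ℳ F)) (mm k r) (r + 1) n hvan η hη
  obtain ⟨ζ, hζ, hζη⟩ := hs
  rw [← hζη]
  have hgr : IsGrHom (freeGr 𝒮 ((tail 𝒮 ℳ F).deg 0)) (freeGr 𝒮 (F.deg 0))
      ((K1 𝒮 ℳ F).subtype ∘ₗ (ses0 𝒮 (KG 𝒮 ℳ F) (tail 𝒮 ℳ F)).p) :=
    isGrHom_comp _ _ _ (subtype_isGrHom _ _) (ses0 𝒮 (KG 𝒮 ℳ F) (tail 𝒮 ℳ F)).hp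
  have h1 := Hm_comp_apply 𝒮 (ses0 𝒮 (KG 𝒮 ℳ F) (tail 𝒮 ℳ F)).p
    (ses0 𝒮 (KG 𝒮 ℳ F) (tail 𝒮 ℳ F)).hp (K1 𝒮 ℳ F).subtype (subtype_isGrHom _ _) hgr
    (mm k r) (r + 1) ζ
  have h2 := Hm_congr 𝒮 (subtype_comp_aug 𝒮 ℳ F) hgr (d0_gr 𝒮 ℳ F) (mm k r) (r + 1)
  have h3 := Hm_matrix_eq_zero 𝒮 ((tail 𝒮 ℳ F).deg 0) (mm k r) (r + 1) (F.deg 0) (F.d 0)
    (F.d_mem 0) n (fun c b => hcase k r ℳ F hF 0 n hn c b) ζ hζ
  exact h1.symm.trans ((LinearMap.congr_fun h2 ζ).trans h3)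

theorem X0inj (hF : F.IsMinimal (irr k (Fin (r + 1)))) (b₀ : Fin (F.rk 0))
    (h1 : ∀ b' : Fin (F.rk 1), F.deg 1 b' ≤ F.deg 0 b₀)
    (ξ : HH 𝒮 (freeGr 𝒮 (F.deg 0)) (mm k r) (r + 1))
    (hξ : ξ ∈ HHgr 𝒮 (freeGr 𝒮 (F.deg 0)) (mm k r) (r + 1) (F.deg 0 b₀ - ((r : ℤ) + 1)))
    (h0 : Hm 𝒮 (ses0 𝒮 ℳ F).p (ses0 𝒮 ℳ F).hp (mm k r) (r + 1) ξ = 0) : ξ = 0 :=
  inj_mid 𝒮 (ses0 𝒮 ℳ F) (mm k r) (r + 1) _
    (fun η hη => lemU k r ℳ F hF _ (fun b' => by have := h1 b'; omega) η hη) ξ hξ h0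

theorem X0 (hF : F.IsMinimal (irr k (Fin (r + 1)))) (b₀ : Fin (F.rk 0))
    (h1 : ∀ b' : Fin (F.rk 1), F.deg 1 b' ≤ F.deg 0 b₀) :
    ¬ Van 𝒮 ℳ (mm k r) (r + 1) (F.deg 0 b₀ - ((r : ℤ) + 1)) := by
  intro hv
  apply not_van_free 𝒮 (F.deg 0) (mm k r) (r + 1) (F.deg 0 b₀ - ((r : ℤ) + 1)) b₀ (by
    have : -F.deg 0 b₀ + (F.deg 0 b₀ - ((r : ℤ) + 1)) = -((r : ℤ) + 1) := by ring
    rw [this]
    exact not_van_S k r)
  intro ξ hξ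
  exact X0inj k r ℳ F hF b₀ h1 ξ hξ
    (hv _ (Hm_gr 𝒮 (ses0 𝒮 ℳ F).p (ses0 𝒮 ℳ F).hp (mm k r) (r + 1) _ ξ hξ))

theorem X1 (hF : F.IsMinimal (irr k (Fin (r + 1)))) (b₁ : Fin (F.rk 1))
    (htop : ∀ b : Fin (F.rk 1), F.deg 1 b ≤ F.deg 1 b₁)
    (h2 : ∀ b' : Fin (F.rk 2), F.deg 2 b' ≤ F.deg 1 b₁) :
    ¬ Van 𝒮 ℳ (mm k r) r (F.deg 1 b₁ - ((r : ℤ) + 1)) := by
  intro hv
  have hK : Van 𝒮 (KG 𝒮 ℳ F) (mm k r) (r + 1) (F.deg 1 b₁ - ((r : ℤ) + 1)) :=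
    van_left' 𝒮 (ses0 𝒮 ℳ F) (mm k r) r _ hv
      (fun y hy => lemU k r ℳ F hF _ (fun b => by have := htop b; omega) y hy)
  exact X0 k r (KG 𝒮 ℳ F) (tail 𝒮 ℳ F) (tail_isMinimal 𝒮 ℳ F _ hF) b₁ h2 hK

end fixed

theorem XP : ∀ (j i : ℕ), i + j = r + 1 →
    ∀ (M : Type u) [AddCommGroup M] [Module S M] (ℳ : ℤ → AddSubgroup M) [Decomposition ℳ]
      [SetLike.GradedSMul 𝒮 ℳ] (F : GrSyz.FreeRes 𝒮 ℳ), F.IsMinimal (irr k (Fin (r + 1))) →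
      ∀ b₀ : Fin (F.rk j), (∀ b, F.deg j b ≤ F.deg j b₀) →
        (∀ b' : Fin (F.rk (j + 1)), F.deg (j + 1) b' ≤ F.deg j b₀) →
        ¬ Van 𝒮 ℳ (mm k r) i (F.deg j b₀ - ((r : ℤ) + 1)) := by
  intro j
  induction j with
  | zero =>
    intro i hi M _ _ ℳ _ _ F hF b₀ _ h1
    obtain rfl : i = r + 1 := by omega
    exact X0 k r ℳ F hF b₀ h1
  | succ j ih =>
    intro i hi M _ _ ℳ _ _ F hF b₀ htop h1
    cases j with
    | zero =>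
      obtain rfl : i = r := by omega
      exact X1 k i ℳ F hF b₀ htop h1
    | succ j' =>
      intro hv
      have hK : Van 𝒮 (KG 𝒮 ℳ F) (mm k r) (i + 1) (F.deg (j' + 1 + 1) b₀ - ((r : ℤ) + 1)) :=
        van_left 𝒮 (ses0 𝒮 ℳ F) (mm k r) i _ hv
          (van_free 𝒮 (F.deg 0) (mm k r) (i + 1) _
            (fun b => van_S k r (i + 1) _ (Or.inl (by omega))))
      exact ih (i + 1) (by omega) ↥(K1 𝒮 ℳ F) (KG 𝒮 ℳ F) (tail 𝒮 ℳ F)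
        (tail_isMinimal 𝒮 ℳ F _ hF) b₀ htop h1 hK

variable {M : Type u} [AddCommGroup M] [Module (MvPolynomial (Fin (r + 1)) k) M]
  (ℳ : ℤ → AddSubgroup M) [Decomposition ℳ]
  [SetLike.GradedSMul (toAG (GrSyz.stdGr k (Fin (r + 1)))) ℳ]
  (F : GrSyz.FreeRes (toAG (GrSyz.stdGr k (Fin (r + 1)))) ℳ)

/-- vanishing of local cohomology above the diagonal bounds the generator degrees -/
theorem thmB (hF : F.IsMinimal (irr k (Fin (r + 1)))) (d : ℤ)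
    (hyp : ∀ (i : ℕ) (n : ℤ), d - i < n → Van 𝒮 ℳ (mm k r) i n) : F.IsGenLE d := by
  classical
  by_contra hcon
  unfold GrSyz.FreeRes.IsGenLE at hcon
  push_neg at hcon
  have hbad : ∀ j, (∃ b : Fin (F.rk j), d + j < F.deg j b) → j ≤ r + 1 := by
    rintro j ⟨b, _⟩
    by_contra hj
    have h0 := HS k r ℳ F hF j (by omega)
    rw [h0] at b
    exact Fin.elim0 b
  obtain ⟨j₀, b, hb⟩ := hcon
  let P : ℕ → Prop := fun j => ∃ b : Fin (F.rk j), d + j < F.deg j b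
  have hP0 : P j₀ := ⟨b, hb⟩
  have hPJ : P (Nat.findGreatest P (r + 1)) := Nat.findGreatest_spec (hbad j₀ hP0) hP0
  have hmax : ∀ j, Nat.findGreatest P (r + 1) < j → ¬ P j := by
    intro j hj hPj
    exact absurd (Nat.le_findGreatest (hbad j hPj) hPj) (not_le.2 hj)
  have hJle : Nat.findGreatest P (r + 1) ≤ r + 1 := Nat.findGreatest_le (r + 1)
  generalize Nat.findGreatest P (r + 1) = J at hPJ hmax hJle
  obtain ⟨bJ, hbJ⟩ := hPJ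
  haveI : Nonempty (Fin (F.rk J)) := ⟨bJ⟩
  obtain ⟨b₀, -, htop⟩ := Finset.exists_max_image Finset.univ
    (fun b : Fin (F.rk J) => F.deg J b) Finset.univ_nonempty
  have htop' : ∀ b, F.deg J b ≤ F.deg J b₀ := fun b => htop b (Finset.mem_univ b)
  have hb₀ : d + J < F.deg J b₀ := lt_of_lt_of_le hbJ (htop' bJ)
  have h1 : ∀ b' : Fin (F.rk (J + 1)), F.deg (J + 1) b' ≤ F.deg J b₀ := by
    intro b'
    by_contra hlt
    push_neg at hlt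
    exact hmax (J + 1) (Nat.lt_succ_self J) ⟨b', by push_cast; omega⟩
  obtain ⟨i, hi⟩ : ∃ i, i + J = r + 1 := ⟨r + 1 - J, by omega⟩
  apply XP k r J i hi M ℳ F hF b₀ htop' h1
  apply hyp
  have : (i : ℤ) + J = r + 1 := by exact_mod_cast hi
  omega

theorem main_iff (hF : F.IsMinimal (irr k (Fin (r + 1)))) (d : ℤ) :
    F.IsGenLE d ↔ ∀ (i : ℕ) (n : ℤ), d - i < n → Van 𝒮 ℳ (mm k r) i n :=
  ⟨fun h i n hn => thmA k r (r + 2) i (by omega) M ℳ F d h n hn, thmB k r ℳ F hF d⟩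

end poly

/-! ### the statement for `Submodule`-valued gradings -/
section final

attribute [local instance] convDecomp conv_gsmul

variable (k : Type u) [Field k] (r : ℕ)
    (M : Type u) [AddCommGroup M] [Module k M] [Module (MvPolynomial (Fin (r + 1)) k) M]
    (ℳ : ℤ → Submodule k M) [DirectSum.Decomposition ℳ]
    [SetLike.GradedSMul (GrSyz.stdGr k (Fin (r + 1))) ℳ]

theorem Hgr_eq_bot_iff (E : GrLC.StarInjRes (GrSyz.stdGr k (Fin (r + 1))) ℳ) (i : ℕ) (n : ℤ) :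
    E.Hgr (GrSyz.irrel (GrSyz.stdGr k (Fin (r + 1)))) i n = ⊥ ↔
      Van (toAG (GrSyz.stdGr k (Fin (r + 1)))) (toAG ℳ) (mm k r) i n := by
  rw [← Hcomp_eq_bot_iff (toAG (GrSyz.stdGr k (Fin (r + 1))))
    (convRes (GrSyz.stdGr k (Fin (r + 1))) ℳ E) (mm k r) i n]
  have h0 := Hcomp_conv (GrSyz.stdGr k (Fin (r + 1))) ℳ E
    (GrSyz.irrel (GrSyz.stdGr k (Fin (r + 1)))) i n
  refine Iff.trans ?_ h0
  constructor
  · intro h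
    rw [Submodule.eq_bot_iff]
    intro y hy
    have hy' : y ∈ E.Hgr (GrSyz.irrel (GrSyz.stdGr k (Fin (r + 1)))) i n := hy
    rw [h] at hy'
    exact hy'
  · intro h
    rw [eq_bot_iff]
    intro y hy
    have hy' : y ∈ E.Hcomp (GrSyz.irrel (GrSyz.stdGr k (Fin (r + 1)))) i n := hy
    rw [h] at hy'
    exact hy'

theorem main15417 (F : GrSyz.FreeRes (GrSyz.stdGr k (Fin (r + 1))) ℳ)
    (hF : F.IsMinimal (GrSyz.irrel (GrSyz.stdGr k (Fin (r + 1)))).toIdeal)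
    (E : GrLC.StarInjRes (GrSyz.stdGr k (Fin (r + 1))) ℳ) (d : ℤ) :
    F.IsGenLE d ↔ ∀ i : ℕ, GrLC.endDeg (E.Hgr (GrSyz.irrel (GrSyz.stdGr k (Fin (r + 1)))) i) +
      (((i : ℤ) : WithTop ℤ) : WithBot (WithTop ℤ)) ≤ ((d : WithTop ℤ) : WithBot (WithTop ℤ)) := by
  have h1 := main_iff k r (toAG ℳ) (convFree (GrSyz.stdGr k (Fin (r + 1))) ℳ F) hF d
  have h2 : F.IsGenLE d ↔ (convFree (GrSyz.stdGr k (Fin (r + 1))) ℳ F).IsGenLE d := Iff.rfl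
  rw [h2, h1]
  constructor
  · intro h i
    rw [endDeg_add_le_iff]
    intro n hn
    exact (Hgr_eq_bot_iff k r M ℳ E i n).2 (h i n hn)
  · intro h i n hn
    have := h i
    rw [endDeg_add_le_iff] at this
    exact (Hgr_eq_bot_iff k r M ℳ E i n).1 (this n hn)

end final

end Groth.Agent.Lib.GrEG4H1
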