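import Mathlib
import Groth.Prelude.Def_GrLC
import Groth.Prelude.Def_GrSyz
import Groth.Agent.Lib.GrSyz_helper1

/-! Hilbert functions from finite graded free resolutions (helper1). -/

set_option autoImplicit false

namespace Groth.Agent.Lib.GrSyz3H1

open DirectSum

universe u

/-! ### alternating sums along an exact sequence of finite dimensional spaces -/
section altsum

theorem alt_sum {k : Type u} [Field k] (V : ℕ → Type u) [∀ i, AddCommGroup (V i)]
    [∀ i, Module k (V i)] [∀ i, FiniteDimensional k (V i)] (W : Type u) [AddCommGroup W]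
    [Module k W] (f : ∀ i, V (i + 1) →ₗ[k] V i) (ε : V 0 →ₗ[k] W) (hε : Function.Surjective ε)
    (h0 : LinearMap.ker ε = LinearMap.range (f 0))
    (hs : ∀ i, LinearMap.ker (f i) = LinearMap.range (f (i + 1))) (m : ℕ)
    (hm : ∀ i, m < i → Module.finrank k (V i) = 0) :
    (Module.finrank k W : ℤ) =
      ∑ i ∈ Finset.range (m + 1), (-1 : ℤ) ^ i * (Module.finrank k (V i) : ℤ) := by
  let z : ℕ → ℕ := fun i => Module.finrank k (LinearMap.range (f i))
  have e0 : Module.finrank k (V 0) = Module.finrank k W + z 0 := by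
    have h1 := LinearMap.finrank_range_add_finrank_ker ε
    rw [LinearMap.range_eq_top.mpr hε, finrank_top, h0] at h1
    exact h1.symm
  have es : ∀ i, Module.finrank k (V (i + 1)) = z i + z (i + 1) := by
    intro i
    have h1 := LinearMap.finrank_range_add_finrank_ker (f i)
    rw [hs i] at h1
    exact h1.symm
  have zm : z m = 0 := by
    have h1 : z m ≤ Module.finrank k (V (m + 1)) := LinearMap.finrank_range_le (f m)
    rw [hm (m + 1) (Nat.lt_succ_self m)] at h1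
    exact Nat.le_zero.mp h1
  have key : ∀ n : ℕ, ∑ i ∈ Finset.range (n + 1), (-1 : ℤ) ^ i * (Module.finrank k (V i) : ℤ) =
      (Module.finrank k W : ℤ) + (-1 : ℤ) ^ n * (z n : ℤ) := by
    intro n
    induction n with
    | zero =>
      rw [Finset.sum_range_one, pow_zero, one_mul, one_mul, e0]
      push_cast; ring
    | succ n ih =>
      rw [Finset.sum_range_succ, ih, es n]
      push_cast; ring
  rw [key m, zm]
  simp

end altsum

/-! ### dimension of the pieces of a polynomial ring -/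
section polydim

variable (k : Type u) [Field k] (r : ℕ)

theorem weight_one (d : Fin (r + 1) →₀ ℕ) :
    Finsupp.weight (fun _ : Fin (r + 1) => (1 : ℤ)) d = ((Finset.univ.sum d : ℕ) : ℤ) := by
  rw [Finsupp.weight_apply, Finsupp.sum_fintype d (fun _ c => c • (1 : ℤ)) (fun i => zero_smul _ _)]
  simp

/-- coefficients of a homogeneous polynomial -/
noncomputable def coeffMap (e : ℤ) : ↥(GrSyz.stdGr k (Fin (r + 1)) e) →ₗ[k]
    (↥(Finset.univ.finsuppAntidiag e.toNat : Finset (Fin (r + 1) →₀ ℕ)) → k) where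
  toFun p := fun d => MvPolynomial.coeff d.1 p.1
  map_add' := by intros; ext; simp
  map_smul' := by intros; ext; simp

theorem coeffMap_injective (e : ℤ) : Function.Injective (coeffMap k r e) := by
  rw [← LinearMap.ker_eq_bot, LinearMap.ker_eq_bot']
  intro p hp
  apply Subtype.ext
  rw [ZeroMemClass.coe_zero]
  ext d
  rw [MvPolynomial.coeff_zero]
  by_contra hd
  have h1 : Finsupp.weight (fun _ : Fin (r + 1) => (1 : ℤ)) d = e := p.2 hd
  rw [weight_one] at h1
  have hdT : d ∈ (Finset.univ.finsuppAntidiag e.toNat : Finset (Fin (r + 1) →₀ ℕ)) := by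
    rw [Finset.mem_finsuppAntidiag]
    refine ⟨?_, Finset.subset_univ _⟩
    omega
  exact hd (congrFun hp ⟨d, hdT⟩)

theorem coeffMap_surjective (e : ℤ) (he : 0 ≤ e) : Function.Surjective (coeffMap k r e) := by
  classical
  intro c
  have hmem : ∀ d : ↥(Finset.univ.finsuppAntidiag e.toNat : Finset (Fin (r + 1) →₀ ℕ)),
      MvPolynomial.monomial d.1 (c d) ∈ GrSyz.stdGr k (Fin (r + 1)) e := by
    intro d
    apply MvPolynomial.isWeightedHomogeneous_monomial
    rw [weight_one]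
    have := (Finset.mem_finsuppAntidiag.mp d.2).1
    rw [this]
    exact Int.toNat_of_nonneg he
  refine ⟨⟨∑ d, MvPolynomial.monomial d.1 (c d), Submodule.sum_mem _ (fun d _ => hmem d)⟩, ?_⟩
  funext d'
  show MvPolynomial.coeff d'.1 (∑ d, MvPolynomial.monomial d.1 (c d)) = c d'
  rw [MvPolynomial.coeff_sum]
  simp only [MvPolynomial.coeff_monomial]
  rw [Finset.sum_eq_single d']
  · rw [if_pos rfl]
  · intro b _ hb
    rw [if_neg (fun h => hb (Subtype.ext h))]
  · intro h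
    exact absurd (Finset.mem_univ _) h

instance finite_stdGr (e : ℤ) : Module.Finite k ↥(GrSyz.stdGr k (Fin (r + 1)) e) :=
  Module.Finite.of_injective (coeffMap k r e) (coeffMap_injective k r e)

theorem finrank_stdGr (e : ℤ) : Module.finrank k ↥(GrSyz.stdGr k (Fin (r + 1)) e) =
    if 0 ≤ e then (r + e.toNat).choose r else 0 := by
  split_ifs with he
  · have eq := LinearEquiv.ofBijective (coeffMap k r e)
      ⟨coeffMap_injective k r e, coeffMap_surjective k r e he⟩
    rw [eq.finrank_eq, Module.finrank_fintype_fun_eq_card, Fintype.card_coe,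
      Finset.card_finsuppAntidiag_nat_eq_choose, Finset.card_univ, Fintype.card_fin]
    have h1 : r + 1 + e.toNat - 1 = e.toNat + r := by omega
    rw [h1, Nat.choose_symm_add, add_comm]
  · rw [GrSyzH1.stdGr_neg k _ (not_le.mp he)]
    exact finrank_bot k _

end polydim

/-! ### the strand of degree `d` of a graded free resolution -/
section strand

variable {k : Type u} [Field k] {S : Type u} [CommRing S] [Algebra k S] (𝒜 : ℤ → Submodule k S)
  [GradedAlgebra 𝒜]

section dec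

variable {X : Type u} [AddCommGroup X] [Module k X] (𝒳 : ℤ → Submodule k X) [Decomposition 𝒳]

theorem coe_decompose_sum' {κ : Type*} (s : Finset κ) (f : κ → X) (N : ℤ) :
    (decompose 𝒳 (∑ i ∈ s, f i) N : X) = ∑ i ∈ s, (decompose 𝒳 (f i) N : X) := by
  classical
  induction s using Finset.induction_on with
  | empty => simp
  | insert a s ha ih =>
    rw [Finset.sum_insert ha, Finset.sum_insert ha, decompose_add, DirectSum.add_apply,
      Submodule.coe_add, ih]

end dec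

variable {M : Type u} [AddCommGroup M] [Module k M] [Module S M] [IsScalarTower k S M]
  (ℳ : ℤ → Submodule k M) [Decomposition ℳ] [SetLike.GradedSMul 𝒜 ℳ]

omit [IsScalarTower k S M] [Decomposition ℳ] in
theorem smul_mem_gr' {s : S} {a : ℤ} (hs : s ∈ 𝒜 a) {x : M} {n : ℤ} (hx : x ∈ ℳ n) :
    s • x ∈ ℳ (a + n) := by
  have := SetLike.GradedSMul.smul_mem (A := 𝒜) (B := ℳ) hs hx
  rwa [vadd_eq_add] at this

omit [IsScalarTower k S M] in
theorem decompose_smul_of_mem' {x : M} {g : ℤ} (hx : x ∈ ℳ g) (s : S) (n : ℤ) :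
    (decompose ℳ (s • x) n : M) = (decompose 𝒜 s (n - g) : S) • x := by
  induction s using DirectSum.Decomposition.inductionOn 𝒜 with
  | zero => simp
  | @homogeneous i m =>
    by_cases e : i + g = n
    · subst e
      rw [decompose_of_mem_same ℳ (smul_mem_gr' 𝒜 ℳ m.2 hx), add_sub_cancel_right,
        decompose_of_mem_same 𝒜 m.2]
    · rw [decompose_of_mem_ne ℳ (smul_mem_gr' 𝒜 ℳ m.2 hx) e,
        decompose_of_mem_ne 𝒜 m.2 (fun h => e (by rw [h, sub_add_cancel])), zero_smul]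
  | add m m' hm hm' =>
    rw [add_smul, decompose_add, DirectSum.add_apply, Submodule.coe_add, hm, hm', decompose_add,
      DirectSum.add_apply, Submodule.coe_add, add_smul]

/-- the piece of degree `d` of the graded free module with basis degrees `dg` -/
def piece {n : ℕ} (dg : Fin n → ℤ) (d : ℤ) : Submodule k (Fin n → S) :=
  Submodule.pi Set.univ (fun b => 𝒜 (d - dg b))

omit [GradedAlgebra 𝒜] in
theorem mem_piece {n : ℕ} {dg : Fin n → ℤ} {d : ℤ} {v : Fin n → S} :
    v ∈ piece 𝒜 dg d ↔ ∀ b, v b ∈ 𝒜 (d - dg b) := by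
  simp [piece, Submodule.mem_pi]

/-- the piece is the product of the pieces of the ring -/
def pieceEquiv {n : ℕ} (dg : Fin n → ℤ) (d : ℤ) :
    ↥(piece 𝒜 dg d) ≃ₗ[k] (∀ b : Fin n, ↥(𝒜 (d - dg b))) where
  toFun v := fun b => ⟨v.1 b, (mem_piece 𝒜).mp v.2 b⟩
  invFun f := ⟨fun b => (f b).1, (mem_piece 𝒜).mpr (fun b => (f b).2)⟩
  map_add' _ _ := rfl
  map_smul' _ _ := rfl
  left_inv _ := rfl
  right_inv _ := rfl

/-- the component of degree `d` of a vector -/
def comp {n : ℕ} (dg : Fin n → ℤ) (d : ℤ) (w : Fin n → S) : Fin n → S :=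
  fun b => (decompose 𝒜 (w b) (d - dg b) : S)

theorem comp_mem {n : ℕ} (dg : Fin n → ℤ) (d : ℤ) (w : Fin n → S) :
    comp 𝒜 dg d w ∈ piece 𝒜 dg d :=
  (mem_piece 𝒜).mpr (fun b => (decompose 𝒜 (w b) (d - dg b)).2)

theorem comp_of_mem {n : ℕ} {dg : Fin n → ℤ} {d : ℤ} {v : Fin n → S} (hv : v ∈ piece 𝒜 dg d) :
    comp 𝒜 dg d v = v := by
  funext b
  exact decompose_of_mem_same 𝒜 ((mem_piece 𝒜).mp hv b)

theorem mulVec_comp {n n' : ℕ} {dg : Fin n → ℤ} {dg' : Fin n' → ℤ} (D : Matrix (Fin n) (Fin n') S)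
    (hD : ∀ a b, D a b ∈ 𝒜 (dg' b - dg a)) (d : ℤ) (w : Fin n' → S) :
    D.mulVec (comp 𝒜 dg' d w) = comp 𝒜 dg d (D.mulVec w) := by
  funext a
  show ∑ b, D a b * (decompose 𝒜 (w b) (d - dg' b) : S) =
    (decompose 𝒜 (∑ b, D a b * w b) (d - dg a) : S)
  rw [coe_decompose_sum' 𝒜]
  refine Finset.sum_congr rfl (fun b _ => ?_)
  have e : d - dg a = (dg' b - dg a) + (d - dg' b) := by ring
  rw [e, DirectSum.coe_decompose_mul_add_of_left_mem 𝒜 (hD a b)]

theorem mulVec_mem_piece {n n' : ℕ} {dg : Fin n → ℤ} {dg' : Fin n' → ℤ}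
    (D : Matrix (Fin n) (Fin n') S) (hD : ∀ a b, D a b ∈ 𝒜 (dg' b - dg a)) {d : ℤ}
    {v : Fin n' → S} (hv : v ∈ piece 𝒜 dg' d) : D.mulVec v ∈ piece 𝒜 dg d := by
  rw [← comp_of_mem 𝒜 hv, mulVec_comp 𝒜 D hD]
  exact comp_mem 𝒜 dg d _

omit [IsScalarTower k S M] in
theorem linComb_comp {n : ℕ} {dg : Fin n → ℤ} (s : Fin n → M) (hs : ∀ b, s b ∈ ℳ (dg b)) (d : ℤ)
    (w : Fin n → S) :
    ∑ b, (comp 𝒜 dg d w) b • s b = (decompose ℳ (∑ b, w b • s b) d : M) := by
  rw [coe_decompose_sum' ℳ]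
  refine Finset.sum_congr rfl (fun b _ => ?_)
  rw [decompose_smul_of_mem' 𝒜 ℳ (hs b)]
  rfl

omit [IsScalarTower k S M] in
theorem linComb_mem {n : ℕ} {dg : Fin n → ℤ} (s : Fin n → M) (hs : ∀ b, s b ∈ ℳ (dg b)) {d : ℤ}
    {v : Fin n → S} (hv : v ∈ piece 𝒜 dg d) : ∑ b, v b • s b ∈ ℳ d := by
  rw [← comp_of_mem 𝒜 hv, linComb_comp 𝒜 ℳ s hs]
  exact (decompose ℳ _ d).2

variable (F : GrSyz.FreeRes 𝒜 ℳ)

/-- the differential on the strand of degree `d` -/
noncomputable def dres (i : ℕ) (d : ℤ) :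
    ↥(piece 𝒜 (F.deg (i + 1)) d) →ₗ[k] ↥(piece 𝒜 (F.deg i) d) :=
  ((Matrix.mulVecLin (F.d i)).restrictScalars k).restrict
    (fun v hv => mulVec_mem_piece 𝒜 (F.d i) (F.d_mem i) hv)

/-- the augmentation on the strand of degree `d` -/
noncomputable def augres (d : ℤ) : ↥(piece 𝒜 (F.deg 0) d) →ₗ[k] ↥(ℳ d) :=
  ((Fintype.linearCombination S F.aug).restrictScalars k).restrict
    (fun v hv => by
      show Fintype.linearCombination S F.aug v ∈ ℳ d
      rw [Fintype.linearCombination_apply]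
      exact linComb_mem 𝒜 ℳ F.aug F.aug_mem hv)

theorem augres_surjective (d : ℤ) : Function.Surjective (augres 𝒜 ℳ F d) := by
  rintro ⟨m, hm⟩
  obtain ⟨w, hw⟩ := F.aug_surjective m
  rw [Fintype.linearCombination_apply] at hw
  refine ⟨⟨comp 𝒜 (F.deg 0) d w, comp_mem 𝒜 _ d w⟩, Subtype.ext ?_⟩
  show Fintype.linearCombination S F.aug (comp 𝒜 (F.deg 0) d w) = m
  rw [Fintype.linearCombination_apply, linComb_comp 𝒜 ℳ F.aug F.aug_mem, hw,
    decompose_of_mem_same ℳ hm]

theorem exact_augres (d : ℤ) :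
    LinearMap.ker (augres 𝒜 ℳ F d) = LinearMap.range (dres 𝒜 ℳ F 0 d) := by
  ext v
  rw [LinearMap.mem_ker, LinearMap.mem_range]
  constructor
  · intro hv
    have hv' : v.1 ∈ LinearMap.ker (Fintype.linearCombination S F.aug) := by
      rw [LinearMap.mem_ker]
      exact congrArg Subtype.val hv
    rw [F.exact_zero] at hv'
    obtain ⟨w, hw⟩ := hv'
    refine ⟨⟨comp 𝒜 (F.deg 1) d w, comp_mem 𝒜 _ d w⟩, Subtype.ext ?_⟩
    show (F.d 0).mulVec (comp 𝒜 (F.deg 1) d w) = v.1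
    rw [mulVec_comp 𝒜 (F.d 0) (F.d_mem 0)]
    rw [Matrix.mulVecLin_apply] at hw
    rw [hw, comp_of_mem 𝒜 v.2]
  · rintro ⟨w, rfl⟩
    apply Subtype.ext
    show Fintype.linearCombination S F.aug ((F.d 0).mulVec w.1) = 0
    have : (F.d 0).mulVec w.1 ∈ LinearMap.ker (Fintype.linearCombination S F.aug) := by
      rw [F.exact_zero]
      exact ⟨w.1, rfl⟩
    exact this

theorem exact_dres (i : ℕ) (d : ℤ) :
    LinearMap.ker (dres 𝒜 ℳ F i d) = LinearMap.range (dres 𝒜 ℳ F (i + 1) d) := by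
  ext v
  rw [LinearMap.mem_ker, LinearMap.mem_range]
  constructor
  · intro hv
    have hv' : v.1 ∈ LinearMap.ker (Matrix.mulVecLin (F.d i)) := by
      rw [LinearMap.mem_ker]
      exact congrArg Subtype.val hv
    rw [F.exact_succ i] at hv'
    obtain ⟨w, hw⟩ := hv'
    refine ⟨⟨comp 𝒜 (F.deg (i + 2)) d w, comp_mem 𝒜 _ d w⟩, Subtype.ext ?_⟩
    show (F.d (i + 1)).mulVec (comp 𝒜 (F.deg (i + 2)) d w) = v.1
    rw [mulVec_comp 𝒜 (F.d (i + 1)) (F.d_mem (i + 1))]
    rw [Matrix.mulVecLin_apply] at hw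
    rw [hw, comp_of_mem 𝒜 v.2]
  · rintro ⟨w, rfl⟩
    apply Subtype.ext
    show (F.d i).mulVec ((F.d (i + 1)).mulVec w.1) = 0
    have : (F.d (i + 1)).mulVec w.1 ∈ LinearMap.ker (Matrix.mulVecLin (F.d i)) := by
      rw [F.exact_succ i]
      exact ⟨w.1, rfl⟩
    exact this

variable [∀ e, Module.Finite k ↥(𝒜 e)]

instance finite_piece {n : ℕ} (dg : Fin n → ℤ) (d : ℤ) : Module.Finite k ↥(piece 𝒜 dg d) :=
  Module.Finite.equiv (pieceEquiv 𝒜 dg d).symm

theorem finrank_piece {n : ℕ} (dg : Fin n → ℤ) (d : ℤ) :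
    Module.finrank k ↥(piece 𝒜 dg d) = ∑ b, Module.finrank k ↥(𝒜 (d - dg b)) := by
  rw [(pieceEquiv 𝒜 dg d).finrank_eq, Module.finrank_pi_fintype]

theorem hilbert_alt (m : ℕ) (hF : F.HasLengthLE m) (d : ℤ) :
    (Module.finrank k ↥(ℳ d) : ℤ) =
      ∑ i ∈ Finset.range (m + 1), (-1 : ℤ) ^ i *
        ∑ b : Fin (F.rk i), (Module.finrank k ↥(𝒜 (d - F.deg i b)) : ℤ) := by
  have h := alt_sum (fun i => ↥(piece 𝒜 (F.deg i) d)) ↥(ℳ d) (fun i => dres 𝒜 ℳ F i d)
    (augres 𝒜 ℳ F d) (augres_surjective 𝒜 ℳ F d) (exact_augres 𝒜 ℳ F d)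
    (fun i => exact_dres 𝒜 ℳ F i d) m (by
      intro i hi
      have h0 : F.rk i = 0 := hF i hi
      haveI : IsEmpty (Fin (F.rk i)) := by rw [h0]; infer_instance
      exact Module.finrank_zero_of_subsingleton)
  rw [h]
  refine Finset.sum_congr rfl (fun i _ => ?_)
  rw [finrank_piece]
  push_cast
  rfl

end strand

/-! ### the rows -/
section rows

variable (k : Type u) [Field k] (r : ℕ)
    (M : Type u) [AddCommGroup M] [Module k M] [Module (MvPolynomial (Fin (r + 1)) k) M]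
    [IsScalarTower k (MvPolynomial (Fin (r + 1)) k) M]
    (ℳ : ℤ → Submodule k M) [DirectSum.Decomposition ℳ]
    [SetLike.GradedSMul (GrSyz.stdGr k (Fin (r + 1))) ℳ]
    (F : GrSyz.FreeRes (GrSyz.stdGr k (Fin (r + 1))) ℳ)

/-- the Hilbert function of the polynomial ring, shifted -/
def hfun (d a : ℤ) : ℤ := if a ≤ d then ((Nat.choose (r + (d - a).toNat) r : ℕ) : ℤ) else 0

theorem finrank_stdGr_sub (d a : ℤ) :
    (Module.finrank k ↥(GrSyz.stdGr k (Fin (r + 1)) (d - a)) : ℤ) = hfun r d a := by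
  rw [finrank_stdGr, hfun]
  by_cases h : a ≤ d
  · rw [if_pos h, if_pos (by omega)]
  · rw [if_neg h, if_neg (by omega)]
    rfl

theorem main15428 (m : ℕ) (hF : F.HasLengthLE m) (d : ℤ) :
    (Module.finrank k ↥(ℳ d) : ℤ) =
      ∑ i ∈ Finset.range (m + 1), (-1 : ℤ) ^ i * ∑ b : Fin (F.rk i),
        (if F.deg i b ≤ d then ((Nat.choose (r + (d - F.deg i b).toNat) r : ℕ) : ℤ) else 0) := by
  rw [hilbert_alt (GrSyz.stdGr k (Fin (r + 1))) ℳ F m hF d]
  refine Finset.sum_congr rfl (fun i _ => ?_)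
  congr 1
  refine Finset.sum_congr rfl (fun b _ => ?_)
  exact finrank_stdGr_sub k r d (F.deg i b)

end rows

end Groth.Agent.Lib.GrSyz3H1
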