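import Mathlib
import Groth.Prelude.Def_GrLC
import Groth.Prelude.Def_GrSyz
import Groth.Agent.Lib.GrSyz3_helper1

/-! Comparison of minimal graded free resolutions: uniqueness of graded Betti numbers (helper1). -/

set_option autoImplicit false

namespace Groth.Agent.Lib.GrSyz5H1

open DirectSum Groth.Agent.Lib.GrSyz3H1 Groth.Agent.Lib.GrSyzH1

universe u

section mats

variable {k : Type u} [Field k] {S : Type u} [CommRing S] [Algebra k S] (𝒜 : ℤ → Submodule k S)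
  [GradedAlgebra 𝒜]

/-- a matrix which is homogeneous of degree zero for the given row and column degrees -/
def IsGrMat {p n : ℕ} (dgR : Fin p → ℤ) (dgC : Fin n → ℤ) (A : Matrix (Fin p) (Fin n) S) : Prop :=
  ∀ a b, A a b ∈ 𝒜 (dgC b - dgR a)

variable {𝒜}

theorem isGrMat_mul {p q n : ℕ} {dgp : Fin p → ℤ} {dgq : Fin q → ℤ} {dgn : Fin n → ℤ}
    {A : Matrix (Fin p) (Fin q) S} {B : Matrix (Fin q) (Fin n) S} (hA : IsGrMat 𝒜 dgp dgq A)
    (hB : IsGrMat 𝒜 dgq dgn B) : IsGrMat 𝒜 dgp dgn (A * B) := by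
  intro a b
  rw [Matrix.mul_apply]
  refine Submodule.sum_mem _ (fun c _ => ?_)
  have := SetLike.GradedMul.mul_mem (A := 𝒜) (hA a c) (hB c b)
  have e : dgq c - dgp a + (dgn b - dgq c) = dgn b - dgp a := by ring
  rwa [e] at this

theorem isGrMat_one {n : ℕ} (dg : Fin n → ℤ) : IsGrMat 𝒜 dg dg (1 : Matrix (Fin n) (Fin n) S) := by
  intro a b
  by_cases h : a = b
  · subst h
    rw [Matrix.one_apply_eq, sub_self]
    exact SetLike.GradedOne.one_mem
  · rw [Matrix.one_apply_ne h]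
    exact Submodule.zero_mem _

omit [GradedAlgebra 𝒜] in
theorem isGrMat_sub {p n : ℕ} {dgp : Fin p → ℤ} {dgn : Fin n → ℤ} {A B : Matrix (Fin p) (Fin n) S}
    (hA : IsGrMat 𝒜 dgp dgn A) (hB : IsGrMat 𝒜 dgp dgn B) : IsGrMat 𝒜 dgp dgn (A - B) :=
  fun a b => Submodule.sub_mem _ (hA a b) (hB a b)

theorem mulVec_eq_sum_col {p n : ℕ} (A : Matrix (Fin p) (Fin n) S) (v : Fin n → S) :
    A.mulVec v = ∑ b, v b • (fun a => A a b) := (sum_smul_col A v).symm

theorem lift_mat {p q n : ℕ} {dgp : Fin p → ℤ} {dgq : Fin q → ℤ} {dgn : Fin n → ℤ}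
    (D : Matrix (Fin p) (Fin q) S) (hD : IsGrMat 𝒜 dgp dgq D) (A : Matrix (Fin p) (Fin n) S)
    (hA : IsGrMat 𝒜 dgp dgn A)
    (hcol : ∀ b, (fun a => A a b) ∈ LinearMap.range (Matrix.mulVecLin D)) :
    ∃ B : Matrix (Fin q) (Fin n) S, IsGrMat 𝒜 dgq dgn B ∧ D * B = A := by
  choose w hw using hcol
  refine ⟨Matrix.of (fun c b => comp 𝒜 dgq (dgn b) (w b) c),
    fun c b => (decompose 𝒜 (w b c) (dgn b - dgq c)).2, ?_⟩
  ext a b
  have h1 := congrFun (mulVec_comp 𝒜 D hD (dgn b) (w b)) a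
  have h2 : D.mulVec (w b) = fun a => A a b := hw b
  have h3 : (fun a => A a b) ∈ piece 𝒜 dgp (dgn b) := (mem_piece 𝒜).mpr (fun a => hA a b)
  rw [h2, comp_of_mem 𝒜 h3] at h1
  rw [Matrix.mul_apply]
  exact h1

end mats

section res

variable {k : Type u} [Field k] {S : Type u} [CommRing S] [Algebra k S] {𝒜 : ℤ → Submodule k S}
  [GradedAlgebra 𝒜]
variable {M : Type u} [AddCommGroup M] [Module k M] [Module S M] [IsScalarTower k S M]
  {ℳ : ℤ → Submodule k M} [Decomposition ℳ] [SetLike.GradedSMul 𝒜 ℳ]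

/-- the cycles of the resolution -/
def Zk (F : GrSyz.FreeRes 𝒜 ℳ) : (i : ℕ) → Submodule S (Fin (F.rk i) → S)
  | 0 => LinearMap.ker (Fintype.linearCombination S F.aug)
  | i + 1 => LinearMap.ker (Matrix.mulVecLin (F.d i))

theorem Zk_eq (F : GrSyz.FreeRes 𝒜 ℳ) (i : ℕ) :
    Zk F i = LinearMap.range (Matrix.mulVecLin (F.d i)) := by
  cases i with
  | zero => exact F.exact_zero
  | succ i => exact F.exact_succ i

theorem col_mem_Zk (F : GrSyz.FreeRes 𝒜 ℳ) (i : ℕ) (b : Fin (F.rk (i + 1))) :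
    (fun a => F.d i a b) ∈ Zk F i := by
  rw [Zk_eq]
  exact ⟨Pi.single b 1, by rw [Matrix.mulVecLin_apply, mulVec_single_one']⟩

omit [IsScalarTower k S M] in
theorem d_isGrMat (F : GrSyz.FreeRes 𝒜 ℳ) (i : ℕ) : IsGrMat 𝒜 (F.deg i) (F.deg (i + 1)) (F.d i) :=
  F.d_mem i

theorem exists_lift_aug (F : GrSyz.FreeRes 𝒜 ℳ) {d : ℤ} {m : M} (hm : m ∈ ℳ d) :
    ∃ w : Fin (F.rk 0) → S, w ∈ piece 𝒜 (F.deg 0) d ∧ Fintype.linearCombination S F.aug w = m := by
  obtain ⟨w, hw⟩ := augres_surjective 𝒜 ℳ F d ⟨m, hm⟩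
  exact ⟨w.1, w.2, congrArg Subtype.val hw⟩

omit [IsScalarTower k S M] in
theorem linComb_mulVec (F : GrSyz.FreeRes 𝒜 ℳ) {n : ℕ} (A : Matrix (Fin (F.rk 0)) (Fin n) S)
    (v : Fin n → S) :
    Fintype.linearCombination S F.aug (A.mulVec v) =
      ∑ b, v b • Fintype.linearCombination S F.aug (fun a => A a b) := by
  rw [mulVec_eq_sum_col, map_sum]
  exact Finset.sum_congr rfl (fun b _ => map_smul _ _ _)

/-! #### chain maps over the identity -/

/-- the invariant for the construction of a chain map -/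
def CmP (F F' : GrSyz.FreeRes 𝒜 ℳ) (i : ℕ) (A : Matrix (Fin (F'.rk i)) (Fin (F.rk i)) S) : Prop :=
  IsGrMat 𝒜 (F'.deg i) (F.deg i) A ∧ ∀ v ∈ Zk F i, A.mulVec v ∈ Zk F' i

theorem cm_base (F F' : GrSyz.FreeRes 𝒜 ℳ) :
    ∃ A : Matrix (Fin (F'.rk 0)) (Fin (F.rk 0)) S, CmP F F' 0 A ∧
      ∀ v, Fintype.linearCombination S F'.aug (A.mulVec v) = Fintype.linearCombination S F.aug v := by
  choose w hw1 hw2 using fun b => exists_lift_aug F' (F.aug_mem b)
  have hA : ∀ v, Fintype.linearCombination S F'.aug ((Matrix.of fun a b => w b a).mulVec v) =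
      Fintype.linearCombination S F.aug v := by
    intro v
    rw [linComb_mulVec, Fintype.linearCombination_apply]
    refine Finset.sum_congr rfl (fun b _ => ?_)
    congr 1
    exact hw2 b
  refine ⟨Matrix.of fun a b => w b a, ⟨fun a b => (mem_piece 𝒜).mp (hw1 b) a, ?_⟩, hA⟩
  intro v hv
  show _ ∈ LinearMap.ker _
  rw [LinearMap.mem_ker, hA]
  exact hv

theorem cm_step (F F' : GrSyz.FreeRes 𝒜 ℳ) (i : ℕ) (A : Matrix (Fin (F'.rk i)) (Fin (F.rk i)) S)
    (hA : CmP F F' i A) :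
    ∃ B : Matrix (Fin (F'.rk (i + 1))) (Fin (F.rk (i + 1))) S, CmP F F' (i + 1) B ∧
      F'.d i * B = A * F.d i := by
  have hC : IsGrMat 𝒜 (F'.deg i) (F.deg (i + 1)) (A * F.d i) := isGrMat_mul hA.1 (d_isGrMat F i)
  have hcol : ∀ b, (fun a => (A * F.d i) a b) ∈ LinearMap.range (Matrix.mulVecLin (F'.d i)) := by
    intro b
    rw [← Zk_eq]
    have h1 : (fun a => (A * F.d i) a b) = A.mulVec (fun a => F.d i a b) := by
      funext a
      rw [Matrix.mul_apply]
      rfl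
    rw [h1]
    exact hA.2 _ (col_mem_Zk F i b)
  obtain ⟨B, hB, hDB⟩ := lift_mat (F'.d i) (d_isGrMat F' i) (A * F.d i) hC hcol
  refine ⟨B, ⟨hB, ?_⟩, hDB⟩
  intro v hv
  show B.mulVec v ∈ LinearMap.ker (Matrix.mulVecLin (F'.d i))
  have hv' : (F.d i).mulVec v = 0 := hv
  rw [LinearMap.mem_ker, Matrix.mulVecLin_apply, Matrix.mulVec_mulVec, hDB, ← Matrix.mulVec_mulVec,
    hv', Matrix.mulVec_zero]

/-- the sequence of matrices of a chain map over the identity -/
noncomputable def cmSeq (F F' : GrSyz.FreeRes 𝒜 ℳ) :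
    (i : ℕ) → {A : Matrix (Fin (F'.rk i)) (Fin (F.rk i)) S // CmP F F' i A}
  | 0 => ⟨(cm_base F F').choose, (cm_base F F').choose_spec.1⟩
  | i + 1 => ⟨(cm_step F F' i (cmSeq F F' i).1 (cmSeq F F' i).2).choose,
      (cm_step F F' i (cmSeq F F' i).1 (cmSeq F F' i).2).choose_spec.1⟩

/-- the chain map -/
noncomputable def cm (F F' : GrSyz.FreeRes 𝒜 ℳ) (i : ℕ) :
    Matrix (Fin (F'.rk i)) (Fin (F.rk i)) S := (cmSeq F F' i).1

theorem cm_gr (F F' : GrSyz.FreeRes 𝒜 ℳ) (i : ℕ) : IsGrMat 𝒜 (F'.deg i) (F.deg i) (cm F F' i) :=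
  (cmSeq F F' i).2.1

theorem cm_aug (F F' : GrSyz.FreeRes 𝒜 ℳ) (v : Fin (F.rk 0) → S) :
    Fintype.linearCombination S F'.aug ((cm F F' 0).mulVec v) =
      Fintype.linearCombination S F.aug v :=
  (cm_base F F').choose_spec.2 v

theorem cm_comm (F F' : GrSyz.FreeRes 𝒜 ℳ) (i : ℕ) :
    F'.d i * cm F F' (i + 1) = cm F F' i * F.d i :=
  (cm_step F F' i (cmSeq F F' i).1 (cmSeq F F' i).2).choose_spec.2

/-! #### null-homotopies -/

variable (F : GrSyz.FreeRes 𝒜 ℳ) (θ : (i : ℕ) → Matrix (Fin (F.rk i)) (Fin (F.rk i)) S)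

/-- the invariant for the construction of a null-homotopy -/
def NhP (i : ℕ) (s : Matrix (Fin (F.rk (i + 1))) (Fin (F.rk i)) S) : Prop :=
  IsGrMat 𝒜 (F.deg (i + 1)) (F.deg i) s ∧ ∀ v ∈ Zk F i, (θ i - F.d i * s).mulVec v = 0

variable (hgr : ∀ i, IsGrMat 𝒜 (F.deg i) (F.deg i) (θ i))
  (hcomm : ∀ i, F.d i * θ (i + 1) = θ i * F.d i)
  (haug : ∀ v, Fintype.linearCombination S F.aug ((θ 0).mulVec v) = 0)

include hgr haug in
theorem nh_base : ∃ s : Matrix (Fin (F.rk 1)) (Fin (F.rk 0)) S, NhP F θ 0 s ∧ θ 0 = F.d 0 * s := by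
  have hcol : ∀ b, (fun a => θ 0 a b) ∈ LinearMap.range (Matrix.mulVecLin (F.d 0)) := by
    intro b
    rw [← F.exact_zero, LinearMap.mem_ker]
    have := haug (Pi.single b 1)
    rwa [mulVec_single_one'] at this
  obtain ⟨s, hs, hDs⟩ := lift_mat (F.d 0) (d_isGrMat F 0) (θ 0) (hgr 0) hcol
  refine ⟨s, ⟨hs, fun v _ => ?_⟩, hDs.symm⟩
  rw [hDs, sub_self, Matrix.zero_mulVec]

include hgr hcomm in
theorem nh_step (i : ℕ) (s : Matrix (Fin (F.rk (i + 1))) (Fin (F.rk i)) S) (hs : NhP F θ i s) :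
    ∃ s' : Matrix (Fin (F.rk (i + 2))) (Fin (F.rk (i + 1))) S, NhP F θ (i + 1) s' ∧
      θ (i + 1) = F.d (i + 1) * s' + s * F.d i := by
  have hC : IsGrMat 𝒜 (F.deg (i + 1)) (F.deg (i + 1)) (θ (i + 1) - s * F.d i) :=
    isGrMat_sub (hgr (i + 1)) (isGrMat_mul hs.1 (d_isGrMat F i))
  have hcol : ∀ b, (fun a => (θ (i + 1) - s * F.d i) a b) ∈
      LinearMap.range (Matrix.mulVecLin (F.d (i + 1))) := by
    intro b
    rw [← F.exact_succ i, LinearMap.mem_ker, Matrix.mulVecLin_apply]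
    have h1 : (fun a => (θ (i + 1) - s * F.d i) a b) =
        (θ (i + 1) - s * F.d i).mulVec (Pi.single b 1) := (mulVec_single_one' _ b).symm
    rw [h1, Matrix.mulVec_mulVec, Matrix.mul_sub, hcomm i, ← Matrix.mul_assoc, ← Matrix.sub_mul,
      ← Matrix.mulVec_mulVec, mulVec_single_one']
    exact hs.2 _ (col_mem_Zk F i b)
  obtain ⟨s', hs', hDs'⟩ := lift_mat (F.d (i + 1)) (d_isGrMat F (i + 1)) _ hC hcol
  refine ⟨s', ⟨hs', ?_⟩, ?_⟩
  · intro v hv
    have hv' : (F.d i).mulVec v = 0 := hv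
    rw [hDs']
    have : θ (i + 1) - (θ (i + 1) - s * F.d i) = s * F.d i := by abel
    rw [this, ← Matrix.mulVec_mulVec, hv', Matrix.mulVec_zero]
  · rw [hDs']; abel

/-- the sequence of a null-homotopy -/
noncomputable def nhSeq :
    (i : ℕ) → {s : Matrix (Fin (F.rk (i + 1))) (Fin (F.rk i)) S // NhP F θ i s}
  | 0 => ⟨(nh_base F θ hgr haug).choose, (nh_base F θ hgr haug).choose_spec.1⟩
  | i + 1 => ⟨(nh_step F θ hgr hcomm i (nhSeq i).1 (nhSeq i).2).choose,
      (nh_step F θ hgr hcomm i (nhSeq i).1 (nhSeq i).2).choose_spec.1⟩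

include hgr hcomm haug in
theorem entries_mem_of_null (𝔪 : Ideal S) (hF : F.IsMinimal 𝔪) (i : ℕ) (a b : Fin (F.rk i)) :
    θ i a b ∈ 𝔪 := by
  have h0 : θ 0 = F.d 0 * (nhSeq F θ hgr hcomm haug 0).1 := (nh_base F θ hgr haug).choose_spec.2
  have hs : ∀ i, θ (i + 1) = F.d (i + 1) * (nhSeq F θ hgr hcomm haug (i + 1)).1 +
      (nhSeq F θ hgr hcomm haug i).1 * F.d i := fun i =>
    (nh_step F θ hgr hcomm i (nhSeq F θ hgr hcomm haug i).1
      (nhSeq F θ hgr hcomm haug i).2).choose_spec.2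
  cases i with
  | zero =>
    rw [h0, Matrix.mul_apply]
    exact Ideal.sum_mem _ (fun c _ => Ideal.mul_mem_right _ _ (hF 0 a c))
  | succ i =>
    rw [hs i, Matrix.add_apply, Matrix.mul_apply, Matrix.mul_apply]
    refine Ideal.add_mem _ (Ideal.sum_mem _ (fun c _ => Ideal.mul_mem_right _ _ (hF (i + 1) a c)))
      (Ideal.sum_mem _ (fun c _ => Ideal.mul_mem_left _ _ (hF i c b)))

end res

section compare

variable {k : Type u} [Field k] {S : Type u} [CommRing S] [Algebra k S] {𝒜 : ℤ → Submodule k S}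
  [GradedAlgebra 𝒜]
variable {M : Type u} [AddCommGroup M] [Module k M] [Module S M] [IsScalarTower k S M]
  {ℳ : ℤ → Submodule k M} [Decomposition ℳ] [SetLike.GradedSMul 𝒜 ℳ]

/-- composing the two comparison maps gives the identity modulo `𝔪` -/
theorem comp_cm_sub_one_mem (F F' : GrSyz.FreeRes 𝒜 ℳ) (𝔪 : Ideal S) (hF : F.IsMinimal 𝔪) (i : ℕ)
    (a b : Fin (F.rk i)) :
    (cm F' F i * cm F F' i - 1 : Matrix (Fin (F.rk i)) (Fin (F.rk i)) S) a b ∈ 𝔪 := by
  refine entries_mem_of_null F (fun i => cm F' F i * cm F F' i - 1) ?_ ?_ ?_ 𝔪 hF i a b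
  · intro i
    exact isGrMat_sub (isGrMat_mul (cm_gr F' F i) (cm_gr F F' i)) (isGrMat_one _)
  · intro i
    rw [Matrix.mul_sub, Matrix.sub_mul, Matrix.mul_one, Matrix.one_mul, ← Matrix.mul_assoc,
      cm_comm F' F i, Matrix.mul_assoc, cm_comm F F' i, Matrix.mul_assoc]
  · intro v
    rw [Matrix.sub_mulVec, Matrix.one_mulVec, map_sub, ← Matrix.mulVec_mulVec, cm_aug F' F,
      cm_aug F F', sub_self]

end compare

/-! ### the polynomial ring -/
section poly

variable (k : Type u) [Field k] (r : ℕ)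

theorem constantCoeff_of_mem_ne {p : MvPolynomial (Fin (r + 1)) k} {e : ℤ}
    (hp : p ∈ GrSyz.stdGr k (Fin (r + 1)) e) (he : e ≠ 0) : MvPolynomial.constantCoeff p = 0 := by
  by_contra h
  have h1 : Finsupp.weight (fun _ : Fin (r + 1) => (1 : ℤ)) (0 : Fin (r + 1) →₀ ℕ) = e := hp h
  rw [map_zero] at h1
  exact he h1.symm

theorem constantCoeff_of_mem_irr {p : MvPolynomial (Fin (r + 1)) k} (hp : p ∈ irr k (Fin (r + 1))) :
    MvPolynomial.constantCoeff p = 0 := by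
  have hle : irr k (Fin (r + 1)) ≤ RingHom.ker (MvPolynomial.constantCoeff (R := k)
      (σ := Fin (r + 1))) := by
    apply Ideal.span_le.mpr
    rintro q ⟨n, hn, hq⟩
    exact constantCoeff_of_mem_ne k r hq (ne_of_gt hn)
  exact hle hp

variable (M : Type u) [AddCommGroup M] [Module k M] [Module (MvPolynomial (Fin (r + 1)) k) M]
    [IsScalarTower k (MvPolynomial (Fin (r + 1)) k) M]
    (ℳ : ℤ → Submodule k M) [DirectSum.Decomposition ℳ]
    [SetLike.GradedSMul (GrSyz.stdGr k (Fin (r + 1))) ℳ]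
    (F F' : GrSyz.FreeRes (GrSyz.stdGr k (Fin (r + 1))) ℳ)

/-- the comparison map reduced modulo the irrelevant ideal -/
noncomputable def cmBar (i : ℕ) : Matrix (Fin (F'.rk i)) (Fin (F.rk i)) k :=
  (cm F F' i).map MvPolynomial.constantCoeff

theorem cmBar_eq_zero (i : ℕ) (a : Fin (F'.rk i)) (b : Fin (F.rk i)) (h : F.deg i b ≠ F'.deg i a) :
    cmBar k r M ℳ F F' i a b = 0 :=
  constantCoeff_of_mem_ne k r (cm_gr F F' i a b) (sub_ne_zero.mpr h)

theorem cmBar_mul (hF : F.IsMinimal (GrSyz.irrel (GrSyz.stdGr k (Fin (r + 1)))).toIdeal) (i : ℕ) :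
    cmBar k r M ℳ F' F i * cmBar k r M ℳ F F' i = 1 := by
  unfold cmBar
  rw [← Matrix.map_mul]
  ext a b
  have h := comp_cm_sub_one_mem F F' _ hF i a b
  have h2 := constantCoeff_of_mem_irr k r h
  rw [Matrix.sub_apply, map_sub, sub_eq_zero] at h2
  rw [Matrix.map_apply, h2]
  by_cases hab : a = b
  · subst hab; simp
  · simp [Matrix.one_apply_ne hab]

theorem betti_le (hF : F.IsMinimal (GrSyz.irrel (GrSyz.stdGr k (Fin (r + 1)))).toIdeal) (i : ℕ)
    (j : ℤ) : F.betti i j ≤ F'.betti i j := by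
  classical
  -- the blocks of degree `j`
  let B := {b : Fin (F.rk i) // F.deg i b = j}
  let B' := {a : Fin (F'.rk i) // F'.deg i a = j}
  have hB : F.betti i j = Fintype.card B := by
    unfold GrSyz.FreeRes.betti
    rw [Fintype.card_subtype]
  have hB' : F'.betti i j = Fintype.card B' := by
    unfold GrSyz.FreeRes.betti
    rw [Fintype.card_subtype]
  let Φ : Matrix B' B k := (cmBar k r M ℳ F F' i).submatrix Subtype.val Subtype.val
  let Ψ : Matrix B B' k := (cmBar k r M ℳ F' F i).submatrix Subtype.val Subtype.val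
  have hΨΦ : Ψ * Φ = 1 := by
    ext b1 b2
    rw [Matrix.mul_apply]
    have h1 := congrFun (congrFun (cmBar_mul k r M ℳ F F' hF i) b1.1) b2.1
    rw [Matrix.mul_apply] at h1
    have h2 : ∑ a : Fin (F'.rk i), cmBar k r M ℳ F' F i b1.1 a * cmBar k r M ℳ F F' i a b2.1 =
        ∑ a : B', cmBar k r M ℳ F' F i b1.1 a.1 * cmBar k r M ℳ F F' i a.1 b2.1 := by
      have e1 := Finset.sum_subtype (Finset.univ.filter (fun a => F'.deg i a = j))
        (p := fun a => F'.deg i a = j) (F := inferInstance) (fun x => by simp)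
        (fun a => cmBar k r M ℳ F' F i b1.1 a * cmBar k r M ℳ F F' i a b2.1)
      calc ∑ a : Fin (F'.rk i), cmBar k r M ℳ F' F i b1.1 a * cmBar k r M ℳ F F' i a b2.1
          = ∑ a ∈ Finset.univ.filter (fun a => F'.deg i a = j),
              cmBar k r M ℳ F' F i b1.1 a * cmBar k r M ℳ F F' i a b2.1 := by
            symm
            apply Finset.sum_subset (Finset.filter_subset _ _)
            intro a _ ha
            rw [Finset.mem_filter] at ha
            have : F.deg i b2.1 ≠ F'.deg i a := by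
              rw [b2.2]
              intro h; exact ha ⟨Finset.mem_univ _, h.symm⟩
            rw [cmBar_eq_zero k r M ℳ F F' i a b2.1 this, mul_zero]
        _ = ∑ a : B', cmBar k r M ℳ F' F i b1.1 a.1 * cmBar k r M ℳ F F' i a.1 b2.1 := e1
    rw [h2] at h1
    show ∑ a : B', cmBar k r M ℳ F' F i b1.1 a.1 * cmBar k r M ℳ F F' i a.1 b2.1 = _
    rw [h1]
    by_cases hb : b1 = b2
    · subst hb; simp
    · rw [Matrix.one_apply_ne hb, Matrix.one_apply_ne (fun h => hb (Subtype.ext h))]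
  have hinj : Function.Injective (Matrix.toLin' Φ) := by
    apply Function.LeftInverse.injective (g := Matrix.toLin' Ψ)
    intro v
    rw [← LinearMap.comp_apply, ← Matrix.toLin'_mul, hΨΦ, Matrix.toLin'_one, LinearMap.id_apply]
  have := LinearMap.finrank_le_finrank_of_injective hinj
  rw [Module.finrank_fintype_fun_eq_card, Module.finrank_fintype_fun_eq_card] at this
  rw [hB, hB']
  exact this

theorem main16321 (k : Type u) [Field k] (n : ℕ)
    (M : Type u) [AddCommGroup M] [Module k M] [Module (MvPolynomial (Fin (n + 1)) k) M]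
    [IsScalarTower k (MvPolynomial (Fin (n + 1)) k) M]
    (ℳ : ℤ → Submodule k M) [DirectSum.Decomposition ℳ]
    [SetLike.GradedSMul (GrSyz.stdGr k (Fin (n + 1))) ℳ]
    (F F' : GrSyz.FreeRes (GrSyz.stdGr k (Fin (n + 1))) ℳ)
    (hF : F.IsMinimal (GrSyz.irrel (GrSyz.stdGr k (Fin (n + 1)))).toIdeal)
    (hF' : F'.IsMinimal (GrSyz.irrel (GrSyz.stdGr k (Fin (n + 1)))).toIdeal) (i : ℕ) (j : ℤ) :
    F.betti i j = F'.betti i j :=
  le_antisymm (betti_le k n M ℳ F F' hF i j) (betti_le k n M ℳ F' F hF' i j)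

end poly

/-! ### regularity from a minimal resolution -/
section reg

variable (k : Type u) [Field k] (r : ℕ)
    (M : Type u) [AddCommGroup M] [Module k M] [Module (MvPolynomial (Fin (r + 1)) k) M]
    [IsScalarTower k (MvPolynomial (Fin (r + 1)) k) M]
    (ℳ : ℤ → Submodule k M) [DirectSum.Decomposition ℳ]
    [SetLike.GradedSMul (GrSyz.stdGr k (Fin (r + 1))) ℳ]
    (F F' : GrSyz.FreeRes (GrSyz.stdGr k (Fin (r + 1))) ℳ)

theorem isGenLE_of_isGenLE
    (hF : F.IsMinimal (GrSyz.irrel (GrSyz.stdGr k (Fin (r + 1)))).toIdeal)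
    (hF' : F'.IsMinimal (GrSyz.irrel (GrSyz.stdGr k (Fin (r + 1)))).toIdeal) (s : ℤ)
    (h : F'.IsGenLE s) : F.IsGenLE s := by
  classical
  intro i b
  have hpos : 0 < F.betti i (F.deg i b) :=
    Finset.card_pos.mpr ⟨b, Finset.mem_filter.mpr ⟨Finset.mem_univ _, rfl⟩⟩
  rw [main16321 k r M ℳ F F' hF hF' i _] at hpos
  obtain ⟨b', hb'⟩ := Finset.card_pos.mp hpos
  rw [Finset.mem_filter] at hb'
  rw [← hb'.2]
  exact h i b'

theorem isRegLE_iff (hF : F.IsMinimal (GrSyz.irrel (GrSyz.stdGr k (Fin (r + 1)))).toIdeal) (s : ℤ) :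
    GrSyz.IsRegLE (GrSyz.stdGr k (Fin (r + 1))) ℳ
      (GrSyz.irrel (GrSyz.stdGr k (Fin (r + 1)))).toIdeal s ↔ F.IsGenLE s :=
  ⟨fun ⟨F', hF', h⟩ => isGenLE_of_isGenLE k r M ℳ F F' hF hF' s h, fun h => ⟨F, hF, h⟩⟩

omit [IsScalarTower k (MvPolynomial (Fin (r + 1)) k) M] in
theorem map_maxGenDeg_le (i : ℕ) (s : ℤ) :
    WithBot.map (fun t : ℤ => ((t - (i : ℤ) : ℤ) : WithTop ℤ)) (F.maxGenDeg i) ≤
      (((s : ℤ) : WithTop ℤ) : WithBot (WithTop ℤ)) ↔ ∀ b, F.deg i b ≤ s + i := by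
  have h1 : F.maxGenDeg i ≤ ((s + i : ℤ) : WithBot ℤ) ↔ ∀ b, F.deg i b ≤ s + i := by
    unfold GrSyz.FreeRes.maxGenDeg
    rw [Finset.sup_le_iff]
    constructor
    · intro h b
      exact WithBot.coe_le_coe.mp (h b (Finset.mem_univ _))
    · intro h b _
      exact WithBot.coe_le_coe.mpr (h b)
  rw [← h1]
  induction F.maxGenDeg i using WithBot.recBotCoe with
  | bot => simp
  | coe t =>
    rw [WithBot.map_coe, WithBot.coe_le_coe, WithBot.coe_le_coe, WithTop.coe_le_coe]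
    constructor <;> intro h <;> linarith

theorem main15423 (hF : F.IsMinimal (GrSyz.irrel (GrSyz.stdGr k (Fin (r + 1)))).toIdeal) :
    GrSyz.reg (GrSyz.stdGr k (Fin (r + 1))) ℳ (GrSyz.irrel (GrSyz.stdGr k (Fin (r + 1)))).toIdeal =
      ⨆ i : ℕ, WithBot.map (fun t : ℤ => ((t - (i : ℤ) : ℤ) : WithTop ℤ)) (F.maxGenDeg i) := by
  unfold GrSyz.reg
  apply le_antisymm
  · have hle : ∀ i : ℕ, WithBot.map (fun t : ℤ => ((t - (i : ℤ) : ℤ) : WithTop ℤ)) (F.maxGenDeg i) ≤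
        ⨆ i : ℕ, WithBot.map (fun t : ℤ => ((t - (i : ℤ) : ℤ) : WithTop ℤ)) (F.maxGenDeg i) :=
      fun i => le_iSup (fun i : ℕ =>
        WithBot.map (fun t : ℤ => ((t - (i : ℤ) : ℤ) : WithTop ℤ)) (F.maxGenDeg i)) i
    generalize (⨆ i : ℕ, WithBot.map (fun t : ℤ => ((t - (i : ℤ) : ℤ) : WithTop ℤ))
      (F.maxGenDeg i)) = T at hle ⊢
    induction T using WithBot.recBotCoe with
    | bot =>
      have hall : ∀ s : ℤ, GrSyz.IsRegLE (GrSyz.stdGr k (Fin (r + 1))) ℳ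
          (GrSyz.irrel (GrSyz.stdGr k (Fin (r + 1)))).toIdeal s := by
        intro s
        rw [isRegLE_iff k r M ℳ F hF]
        intro i b
        exact (map_maxGenDeg_le k r M ℳ F i s).mp ((hle i).trans bot_le) b
      have hreg : ∀ s : ℤ, (⨅ (r_1 : ℤ) (_ : GrSyz.IsRegLE (GrSyz.stdGr k (Fin (r + 1))) ℳ
          (GrSyz.irrel (GrSyz.stdGr k (Fin (r + 1)))).toIdeal r_1),
          (((r_1 : ℤ) : WithTop ℤ) : WithBot (WithTop ℤ))) ≤ (((s : ℤ) : WithTop ℤ) : WithBot (WithTop ℤ)) :=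
        fun s => iInf₂_le s (hall s)
      generalize (⨅ (r_1 : ℤ) (_ : GrSyz.IsRegLE (GrSyz.stdGr k (Fin (r + 1))) ℳ
          (GrSyz.irrel (GrSyz.stdGr k (Fin (r + 1)))).toIdeal r_1),
          (((r_1 : ℤ) : WithTop ℤ) : WithBot (WithTop ℤ))) = x at hreg ⊢
      induction x using WithBot.recBotCoe with
      | bot => exact le_rfl
      | coe y =>
        exfalso
        induction y using WithTop.recTopCoe with
        | top =>
          have := hreg 0
          rw [WithBot.coe_le_coe] at this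
          exact absurd (top_le_iff.mp this) (WithTop.coe_ne_top)
        | coe n =>
          have := hreg (n - 1)
          rw [WithBot.coe_le_coe, WithTop.coe_le_coe] at this
          linarith
    | coe y =>
      induction y using WithTop.recTopCoe with
      | top => exact le_top
      | coe n =>
        have hn : GrSyz.IsRegLE (GrSyz.stdGr k (Fin (r + 1))) ℳ
            (GrSyz.irrel (GrSyz.stdGr k (Fin (r + 1)))).toIdeal n := by
          rw [isRegLE_iff k r M ℳ F hF]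
          intro i b
          exact (map_maxGenDeg_le k r M ℳ F i n).mp (hle i) b
        exact iInf₂_le n hn
  · apply iSup_le
    intro i
    apply le_iInf₂
    intro s hs
    rw [isRegLE_iff k r M ℳ F hF] at hs
    exact (map_maxGenDeg_le k r M ℳ F i s).mpr (fun b => hs i b)

end reg

end Groth.Agent.Lib.GrSyz5H1
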