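import Mathlib
import Groth.Prelude.Def_GrLC
import Groth.Prelude.Def_GrSyz
import Groth.Agent.Lib.GrEG4_helper1
import Groth.Agent.Lib.GrSyz5_helper1

/-! Regularity as the supremum of the ends of graded local cohomology; modules of finite length
(helper1). -/

set_option autoImplicit false

namespace Groth.Agent.Lib.GrEG5H1

open DirectSum GrLC Groth.Agent.Lib.GrStarH1 Groth.Agent.Lib.GrStar2H1 Groth.Agent.Lib.GrStar3H1
  Groth.Agent.Lib.GrLES1H1 Groth.Agent.Lib.GrLES2H1 Groth.Agent.Lib.GrLES3H1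
  Groth.Agent.Lib.GrHDecH1 Groth.Agent.Lib.GrEG1H1 Groth.Agent.Lib.GrLES4H1
  Groth.Agent.Lib.GrSyz2H1 Groth.Agent.Lib.GrConvH1 Groth.Agent.Lib.GrSyzH1
  Groth.Agent.Lib.GrEG2H1 Groth.Agent.Lib.GrExtH1 Groth.Agent.Lib.GrEG3H1 Groth.Agent.Lib.GrEG4H1

universe u

/-! ### order lemmas in `WithBot (WithTop ℤ)` -/
section order

theorem iInf_eq_iSup (T : ℕ → WithBot (WithTop ℤ)) (P : ℤ → Prop)
    (h : ∀ s : ℤ, P s ↔ ∀ i, T i ≤ ((s : WithTop ℤ) : WithBot (WithTop ℤ))) :
    (⨅ (s : ℤ) (_ : P s), ((s : WithTop ℤ) : WithBot (WithTop ℤ))) = ⨆ i, T i := by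
  apply le_antisymm
  · have hle : ∀ i, T i ≤ ⨆ i, T i := le_iSup T
    generalize (⨆ i, T i) = U at hle ⊢
    induction U using WithBot.recBotCoe with
    | bot =>
      have hall : ∀ s, P s := fun s => (h s).2 (fun i => (hle i).trans bot_le)
      have hreg : ∀ s : ℤ, (⨅ (s : ℤ) (_ : P s), ((s : WithTop ℤ) : WithBot (WithTop ℤ))) ≤
          ((s : WithTop ℤ) : WithBot (WithTop ℤ)) := fun s => iInf₂_le s (hall s)
      generalize (⨅ (s : ℤ) (_ : P s), ((s : WithTop ℤ) : WithBot (WithTop ℤ))) = x at hreg ⊢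
      induction x using WithBot.recBotCoe with
      | bot => exact le_rfl
      | coe y =>
        exfalso
        induction y using WithTop.recTopCoe with
        | top =>
          have := hreg 0
          rw [WithBot.coe_le_coe] at this
          exact absurd (top_le_iff.mp this) (WithTop.coe_ne_top)
        | coe n =>
          have := hreg (n - 1)
          rw [WithBot.coe_le_coe, WithTop.coe_le_coe] at this
          linarith
    | coe y =>
      induction y using WithTop.recTopCoe with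
      | top => exact le_top
      | coe n => exact iInf₂_le n ((h n).2 hle)
  · apply iSup_le
    intro i
    apply le_iInf₂
    intro s hs
    exact (h s).1 hs i

theorem endDeg_congr {X Y : Type u} [AddCommGroup X] [AddCommGroup Y] (𝒳 : ℤ → AddSubgroup X)
    (𝒴 : ℤ → AddSubgroup Y) (h : ∀ n, 𝒳 n = ⊥ ↔ 𝒴 n = ⊥) : endDeg 𝒳 = endDeg 𝒴 := by
  unfold endDeg
  apply le_antisymm
  · apply iSup_le
    intro n
    apply iSup_le
    intro hn
    exact le_iSup₂_of_le n (fun h' => hn ((h n).2 h')) le_rfl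
  · apply iSup_le
    intro n
    apply iSup_le
    intro hn
    exact le_iSup₂_of_le n (fun h' => hn ((h n).1 h')) le_rfl

end order

/-! ### S15424 -/
section s15424

variable (k : Type u) [Field k] (r : ℕ)
    (M : Type u) [AddCommGroup M] [Module k M] [Module (MvPolynomial (Fin (r + 1)) k) M]
    [IsScalarTower k (MvPolynomial (Fin (r + 1)) k) M]
    [Module.Finite (MvPolynomial (Fin (r + 1)) k) M]
    (ℳ : ℤ → Submodule k M) [DirectSum.Decomposition ℳ]
    [SetLike.GradedSMul (GrSyz.stdGr k (Fin (r + 1))) ℳ]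

theorem main15424 (E : GrLC.StarInjRes (GrSyz.stdGr k (Fin (r + 1))) ℳ) :
    GrSyz.reg (GrSyz.stdGr k (Fin (r + 1))) ℳ (GrSyz.irrel (GrSyz.stdGr k (Fin (r + 1)))).toIdeal =
      ⨆ i : ℕ, (GrLC.endDeg (E.Hgr (GrSyz.irrel (GrSyz.stdGr k (Fin (r + 1)))) i) +
        (((i : ℤ) : WithTop ℤ) : WithBot (WithTop ℤ))) := by
  obtain ⟨F, hF⟩ := Groth.Agent.Lib.GrSyz2H1.main15416 k r M ℳ
  unfold GrSyz.reg
  exact iInf_eq_iSup _ _ (fun s => by
    rw [Groth.Agent.Lib.GrSyz5H1.isRegLE_iff k r M ℳ F hF s]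
    exact main15417 k r M ℳ F hF E s)

end s15424

end Groth.Agent.Lib.GrEG5H1
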