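import Mathlib
import Groth.Prelude.Def_GrLC
import Groth.Prelude.Def_GrSyz
import Groth.Agent.Lib.GrEG5_helper1
import Groth.Agent.Lib.GrNak_helper1

/-! Quasi-regular linear forms and regularity; modules of finite length (helper1). -/

set_option autoImplicit false

namespace Groth.Agent.Lib.GrEG6H1

open DirectSum GrLC Groth.Agent.Lib.GrStarH1 Groth.Agent.Lib.GrStar2H1 Groth.Agent.Lib.GrStar3H1
  Groth.Agent.Lib.GrLES1H1 Groth.Agent.Lib.GrLES2H1 Groth.Agent.Lib.GrLES3H1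
  Groth.Agent.Lib.GrHDecH1 Groth.Agent.Lib.GrEG1H1 Groth.Agent.Lib.GrLES4H1
  Groth.Agent.Lib.GrSyz2H1 Groth.Agent.Lib.GrConvH1 Groth.Agent.Lib.GrSyzH1
  Groth.Agent.Lib.GrEG2H1 Groth.Agent.Lib.GrExtH1 Groth.Agent.Lib.GrEG3H1 Groth.Agent.Lib.GrEG4H1
  Groth.Agent.Lib.GrEG5H1

universe u

/-! ### order -/
section order

theorem le_of_forall_int {x y : WithBot (WithTop ℤ)}
    (h : ∀ d : ℤ, y ≤ ((d : WithTop ℤ) : WithBot (WithTop ℤ)) →
      x ≤ ((d : WithTop ℤ) : WithBot (WithTop ℤ))) : x ≤ y := by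
  induction y using WithBot.recBotCoe with
  | bot =>
    have hx : ∀ d : ℤ, x ≤ ((d : WithTop ℤ) : WithBot (WithTop ℤ)) := fun d => h d bot_le
    induction x using WithBot.recBotCoe with
    | bot => exact le_rfl
    | coe z =>
      exfalso
      induction z using WithTop.recTopCoe with
      | top =>
        have := hx 0
        rw [WithBot.coe_le_coe] at this
        exact absurd (top_le_iff.mp this) WithTop.coe_ne_top
      | coe n =>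
        have := hx (n - 1)
        rw [WithBot.coe_le_coe, WithTop.coe_le_coe] at this
        linarith
  | coe z =>
    induction z using WithTop.recTopCoe with
    | top => exact le_top
    | coe n => exact h n le_rfl

theorem eq_of_forall_le_int {x y : WithBot (WithTop ℤ)}
    (h : ∀ d : ℤ, x ≤ ((d : WithTop ℤ) : WithBot (WithTop ℤ)) ↔
      y ≤ ((d : WithTop ℤ) : WithBot (WithTop ℤ))) : x = y :=
  le_antisymm (le_of_forall_int fun d hd => (h d).2 hd) (le_of_forall_int fun d hd => (h d).1 hd)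

end order

/-! ### resolutions for `SetLike` gradings -/
section unconv

attribute [local instance] convDecomp convGradedRing conv_gsmul

variable {ι : Type} [AddCommGroup ι] [DecidableEq ι]
variable {R : Type u} [CommRing R] {σ : Type u} [SetLike σ R] [AddSubgroupClass σ R]
  (𝒜 : ι → σ) [GradedRing 𝒜]

theorem unconv_starInj {X : Type u} [AddCommGroup X] [Module R X] (𝒳 : ι → AddSubgroup X)
    [Decomposition 𝒳] [SetLike.GradedSMul (toAG 𝒜) 𝒳] (h : IsStarInj (toAG 𝒜) 𝒳) :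
    @IsStarInj ι _ _ R _ σ _ _ 𝒜 _ X _ _ (AddSubgroup X) _ _ 𝒳 _ (unconv_gsmul' 𝒜 𝒳) := by
  intro A B f hf hinj g hg
  exact h (convGMod 𝒜 A) (convGMod 𝒜 B) f hf hinj g hg

variable {M : Type u} [AddCommGroup M] [Module R M] {τ : Type u} [SetLike τ M]
  [AddSubgroupClass τ M] (ℳ : ι → τ) [Decomposition ℳ] [SetLike.GradedSMul 𝒜 ℳ]

/-- a *injective resolution over `toAG 𝒜` as one over `𝒜` -/
noncomputable def unconvRes (E : StarInjRes (toAG 𝒜) (toAG ℳ)) : StarInjRes 𝒜 ℳ where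
  X n := unconvGMod 𝒜 (E.X n)
  d n := E.d n
  ε := E.ε
  d_grHom n := E.d_grHom n
  ε_grHom := fun g m hm => E.ε_grHom g m hm
  ε_injective := E.ε_injective
  exact_zero := E.exact_zero
  exact_succ := E.exact_succ
  starInj n := unconv_starInj 𝒜 (E.X n).gr (E.starInj n)

theorem exists_res : Nonempty (StarInjRes 𝒜 ℳ) :=
  ⟨unconvRes 𝒜 ℳ (sRes (toAG 𝒜) (toAG ℳ))⟩

end unconv

/-! ### `H⁰` -/
section H0

variable {ι : Type} [AddCommGroup ι] [DecidableEq ι]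
variable {R : Type u} [CommRing R] (𝒜 : ι → AddSubgroup R) [GradedRing 𝒜]
variable {M : Type u} [AddCommGroup M] [Module R M] (ℳ : ι → AddSubgroup M) [Decomposition ℳ]
  [SetLike.GradedSMul 𝒜 ℳ] (a : HomogeneousIdeal 𝒜)

theorem van_zero_iff (n : ι) :
    Van 𝒜 ℳ a 0 n ↔ ∀ t ∈ ℳ n, t ∈ gam a.toIdeal M → t = 0 := by
  constructor
  · intro hv t ht htg
    have hz : (sRes 𝒜 ℳ).ε t ∈ (sRes 𝒜 ℳ).cocyc a 0 :=
      ⟨map_mem_gam (sRes 𝒜 ℳ).ε htg, d_ε (sRes 𝒜 ℳ) t⟩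
    have h1 : (sRes 𝒜 ℳ).toH a 0 ⟨(sRes 𝒜 ℳ).ε t, hz⟩ ∈ (sRes 𝒜 ℳ).Hgr a 0 n :=
      ⟨⟨(sRes 𝒜 ℳ).ε t, hz⟩, (sRes 𝒜 ℳ).ε_grHom n t ht, rfl⟩
    have h2 := hv _ h1
    rw [toH_eq_zero_iff] at h2
    have h3 : (sRes 𝒜 ℳ).ε t = 0 := (mem_cobdy_zero a (sRes 𝒜 ℳ) _).1 h2
    exact (sRes 𝒜 ℳ).ε_injective (by rw [h3, map_zero])
  · intro h y hy
    have h1 : Psi0 (sRes 𝒜 ℳ) a y ∈ ℳ n := Psi0_mem_gr (sRes 𝒜 ℳ) a n y hy
    have h2 := h _ h1 (Psi0_mem_gam (sRes 𝒜 ℳ) a y)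
    exact Psi0_injective (sRes 𝒜 ℳ) a (by rw [h2, map_zero])

end H0

/-! ### shifting chain maps -/
section shiftC

attribute [local instance] shiftDecomp shift_gsmul

variable {ι : Type} [AddCommGroup ι] [DecidableEq ι]
variable {R : Type u} [CommRing R] (𝒜 : ι → AddSubgroup R) [GradedRing 𝒜]
variable {M : Type u} [AddCommGroup M] [Module R M] {ℳ : ι → AddSubgroup M} [Decomposition ℳ]
  [SetLike.GradedSMul 𝒜 ℳ]
variable {N : Type u} [AddCommGroup N] [Module R N] {𝒩 : ι → AddSubgroup N} [Decomposition 𝒩]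
  [SetLike.GradedSMul 𝒜 𝒩]

/-- a chain map between shifted resolutions -/
noncomputable def shiftCMap {E : StarInjRes 𝒜 ℳ} {F : StarInjRes 𝒜 𝒩} (ψ : CMap E F) (s : ι) :
    CMap (shiftRes 𝒜 E s) (shiftRes 𝒜 F s) where
  f := ψ.f
  gr := fun n k z hz => ψ.gr n (s + k) z hz
  comm := ψ.comm

theorem shiftCMap_H {E : StarInjRes 𝒜 ℳ} {F : StarInjRes 𝒜 𝒩} (ψ : CMap E F) (s : ι)
    (a : HomogeneousIdeal 𝒜) (i : ℕ) (y : E.H a i) :
    (shiftCMap 𝒜 ψ s).H a i y = ψ.H a i y := by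
  obtain ⟨z, rfl⟩ := toH_surjective a E i y
  rfl

end shiftC

/-! ### two short exact sequences -/
section abstract

attribute [local instance] shiftDecomp shift_gsmul

variable {R : Type u} [CommRing R] [IsNoetherianRing R] (𝒜 : ℤ → AddSubgroup R) [GradedRing 𝒜]
  (a : HomogeneousIdeal 𝒜)
variable {K : Type u} [AddCommGroup K] [Module R K] {𝒦 : ℤ → AddSubgroup K} [Decomposition 𝒦]
  [SetLike.GradedSMul 𝒜 𝒦]
variable {M : Type u} [AddCommGroup M] [Module R M] {ℳ : ℤ → AddSubgroup M} [Decomposition ℳ]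
  [SetLike.GradedSMul 𝒜 ℳ]
variable {Q : Type u} [AddCommGroup Q] [Module R Q] {𝒬 : ℤ → AddSubgroup Q} [Decomposition 𝒬]
  [SetLike.GradedSMul 𝒜 𝒬]
variable {N : Type u} [AddCommGroup N] [Module R N] {𝒩 : ℤ → AddSubgroup N} [Decomposition 𝒩]
  [SetLike.GradedSMul 𝒜 𝒩]

theorem van_Q_iff (S₁ : SES R 𝒦 ℳ 𝒬)
    (htors : ∀ m : K, ∃ n : ℕ, ∀ r ∈ a.toIdeal ^ n, r • m = 0) (i : ℕ) (n : ℤ) :
    Van 𝒜 𝒬 a (i + 1) n ↔ Van 𝒜 ℳ a (i + 1) n :=
  ⟨fun h => van_mid 𝒜 S₁ a (i + 1) n (van_of_torsion 𝒜 a 𝒦 htors i n) h,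
    fun h => van_right 𝒜 S₁ a (i + 1) n h (van_of_torsion 𝒜 a 𝒦 htors (i + 1) n)⟩

theorem R1 (S₁ : SES R 𝒦 ℳ 𝒬) (S₂ : SES R (shiftGr 𝒬 (-1)) ℳ 𝒩)
    (htors : ∀ m : K, ∃ n : ℕ, ∀ r ∈ a.toIdeal ^ n, r • m = 0) (i : ℕ) (n : ℤ)
    (h1 : Van 𝒜 ℳ a i n) (h2 : Van 𝒜 ℳ a (i + 1) (n - 1)) : Van 𝒜 𝒩 a i n := by
  apply van_right 𝒜 S₂ a i n h1
  rw [van_shift]
  have e : (-1 : ℤ) + n = n - 1 := by ring
  rw [e]
  exact (van_Q_iff 𝒜 a S₁ htors i (n - 1)).2 h2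

theorem inj_x (S₁ : SES R 𝒦 ℳ 𝒬) (S₂ : SES R (shiftGr 𝒬 (-1)) ℳ 𝒩)
    (htors : ∀ m : K, ∃ n : ℕ, ∀ r ∈ a.toIdeal ^ n, r • m = 0) {x : R} (hx : x ∈ 𝒜 1)
    (hcomp : ∀ m, S₂.u (S₁.p m) = x • m) (i : ℕ) (n : ℤ)
    (hN : Van 𝒜 𝒩 a i (n + 1)) (y : HH 𝒜 ℳ a (i + 1)) (hy : y ∈ HHgr 𝒜 ℳ a (i + 1) n)
    (hxy : x • y = 0) : y = 0 := by
  obtain ⟨φ, hφ⟩ := exists_lift (shiftRes 𝒜 (sRes 𝒜 𝒬) (-1)) (sRes 𝒜 ℳ) S₂.u S₂.hu
  obtain ⟨ψ', hψ'⟩ := exists_lift (sRes 𝒜 ℳ) (sRes 𝒜 𝒩) S₂.p S₂.hp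
  obtain ⟨ψq, hψq⟩ := exists_lift (sRes 𝒜 ℳ) (sRes 𝒜 𝒬) S₁.p S₁.hp
  have hles := les S₂ (shiftRes 𝒜 (sRes 𝒜 𝒬) (-1)) (sRes 𝒜 ℳ) (sRes 𝒜 𝒩) φ hφ ψ' hψ' a
  obtain ⟨-, δ, hδgr, -, hleft⟩ := hles.2 i
  have hcmp : ∀ (j : ℕ) (y : (sRes 𝒜 ℳ).H a j), φ.H a j (ψq.H a j y) = x • y := by
    intro j y
    have h1 := H_unique (φ.comp (shiftCMap 𝒜 ψq (-1))) (mulMap 𝒜 (sRes 𝒜 ℳ) hx) (fun m => by
      show φ.f 0 (ψq.f 0 ((sRes 𝒜 ℳ).ε m)) = x • (sRes 𝒜 ℳ).ε m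
      exact (congrArg (φ.f 0) (hψq m)).trans ((hφ (S₁.p m)).trans (by rw [hcomp, map_smul]))) a j
    have h2 : (φ.comp (shiftCMap 𝒜 ψq (-1))).H a j y = (mulMap 𝒜 (sRes 𝒜 ℳ) hx).H a j y :=
      LinearMap.congr_fun h1 y
    have h3 : (φ.comp (shiftCMap 𝒜 ψq (-1))).H a j y =
        φ.H a j ((shiftCMap 𝒜 ψq (-1)).H a j y) :=
      LinearMap.congr_fun (CMap.H_comp (shiftCMap 𝒜 ψq (-1)) a φ j) y
    exact ((congrArg (φ.H a j) (shiftCMap_H 𝒜 ψq (-1) a j y)).symm.trans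
      (h3.symm.trans h2)).trans (mulMap_H 𝒜 (sRes 𝒜 ℳ) hx a j y)
  have hw : ψq.H a (i + 1) y ∈ (sRes 𝒜 𝒬).Hgr a (i + 1) n := ψq.H_gr a (i + 1) n y hy
  have hw' : ψq.H a (i + 1) y ∈ (shiftRes 𝒜 (sRes 𝒜 𝒬) (-1)).Hgr a (i + 1) (n + 1) :=
    mem_congr ((sRes 𝒜 𝒬).Hgr a (i + 1)) (by ring : n = -1 + (n + 1)) hw
  have hφw : φ.H a (i + 1) (ψq.H a (i + 1) y) = 0 := (hcmp (i + 1) y).trans hxy
  letI := HDecomp 𝒜 𝒩 a (sRes 𝒜 𝒩) i
  letI := HDecomp 𝒜 (shiftGr 𝒬 (-1)) a (shiftRes 𝒜 (sRes 𝒜 𝒬) (-1)) (i + 1)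
  obtain ⟨v, hv, hvw⟩ := piece_exact ((sRes 𝒜 𝒩).Hgr a i)
    ((shiftRes 𝒜 (sRes 𝒜 𝒬) (-1)).Hgr a (i + 1)) δ (φ.H a (i + 1)) hδgr hleft hw' hφw
  have hv0 : v = 0 := hN v hv
  have hw0 : ψq.H a (i + 1) y = 0 := hvw.symm.trans ((congrArg δ hv0).trans (map_zero δ))
  have hHm : ψq.H a (i + 1) = Hm 𝒜 S₁.p S₁.hp a (i + 1) := Hm_eq 𝒜 S₁.p S₁.hp ψq hψq a (i + 1)
  exact inj_mid 𝒜 S₁ a (i + 1) n
    (fun η hη => by rw [van_of_torsion 𝒜 a 𝒦 htors i n η hη, map_zero]) y hy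
    (by rw [← hHm]; exact hw0)

theorem R2 (S₁ : SES R 𝒦 ℳ 𝒬) (S₂ : SES R (shiftGr 𝒬 (-1)) ℳ 𝒩)
    (htors : ∀ m : K, ∃ n : ℕ, ∀ r ∈ a.toIdeal ^ n, r • m = 0) {x : R} (hx : x ∈ 𝒜 1)
    (hxa : x ∈ a.toIdeal) (hcomp : ∀ m, S₂.u (S₁.p m) = x • m) (i : ℕ) (n : ℤ)
    (hN : ∀ m : ℤ, n ≤ m → Van 𝒜 𝒩 a i (m + 1)) : Van 𝒜 ℳ a (i + 1) n := by
  have hvan : ∀ (k : ℕ) (m : ℤ), n ≤ m → ∀ y ∈ HHgr 𝒜 ℳ a (i + 1) m, x ^ k • y = 0 → y = 0 := by
    intro k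
    induction k with
    | zero =>
      intro m _ y _ h
      rwa [pow_zero, one_smul] at h
    | succ k ih =>
      intro m hm y hy h
      letI := HDecomp 𝒜 ℳ a (sRes 𝒜 ℳ) (i + 1)
      haveI := HGSMul 𝒜 ℳ a (sRes 𝒜 ℳ) (i + 1)
      have hxy : x • y ∈ HHgr 𝒜 ℳ a (i + 1) (1 + m) :=
        smul_mem_gr 𝒜 (HHgr 𝒜 ℳ a (i + 1)) hx hy
      have h1 : x • y = 0 := ih (1 + m) (by omega) _ hxy (by
        rw [smul_smul, ← pow_succ]
        exact h)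
      exact inj_x 𝒜 a S₁ S₂ htors hx hcomp i m (hN m hm) y hy h1
  intro y hy
  obtain ⟨k, hk⟩ := H_torsion (sRes 𝒜 ℳ) a (i + 1) y hxa
  exact hvan k n le_rfl y hy hk

end abstract

/-! ### the sequences attached to a homogeneous element of degree one -/
section concrete

attribute [local instance] shiftDecomp shift_gsmul

variable {R : Type u} [CommRing R] [IsNoetherianRing R] (𝒜 : ℤ → AddSubgroup R) [GradedRing 𝒜]
  (a : HomogeneousIdeal 𝒜)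
variable {M : Type u} [AddCommGroup M] [Module R M] (ℳ : ℤ → AddSubgroup M) [Decomposition ℳ]
  [SetLike.GradedSMul 𝒜 ℳ]
variable {N : Type u} [AddCommGroup N] [Module R N] (𝒩 : ℤ → AddSubgroup N) [Decomposition 𝒩]
  [SetLike.GradedSMul 𝒜 𝒩]

omit [IsNoetherianRing R] in
theorem torsionBy_homog {x : R} (hx : x ∈ 𝒜 1) : (Submodule.torsionBy R M x).IsHomogeneous ℳ := by
  intro g m hm
  rw [Submodule.mem_torsionBy_iff] at hm ⊢
  rw [← decompose_smul_homog 𝒜 ℳ hx m g, hm, decompose_zero, DirectSum.zero_apply,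
    ZeroMemClass.coe_zero]

/-- multiplication by `x` on `M ⧸ ker x` -/
noncomputable def xbar (x : R) : (M ⧸ Submodule.torsionBy R M x) →ₗ[R] M :=
  (Submodule.torsionBy R M x).liftQ (LinearMap.lsmul R M x)
    (fun m hm => by
      rw [LinearMap.mem_ker]
      exact (Submodule.mem_torsionBy_iff _ _).1 hm)

omit [IsNoetherianRing R] in
theorem xbar_inj (x : R) : Function.Injective (xbar (M := M) x) := by
  rw [← LinearMap.ker_eq_bot]
  apply Submodule.ker_liftQ_eq_bot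
  intro m hm
  exact (Submodule.mem_torsionBy_iff _ _).2 hm

omit [IsNoetherianRing R] in
theorem xbar_range (x : R) :
    LinearMap.range (xbar (M := M) x) = LinearMap.range (LinearMap.lsmul R M x) :=
  Submodule.range_liftQ _ _ _

theorem qreg_main {x : R} (hx : x ∈ 𝒜 1) (π : M →ₗ[R] N) (hπg : IsGrHom ℳ 𝒩 π)
    (hπ : Function.Surjective π)
    (hker : LinearMap.ker π = LinearMap.range (LinearMap.lsmul R M x))
    (htors : ∀ m : Submodule.torsionBy R M x, ∃ n : ℕ, ∀ r ∈ a.toIdeal ^ n, r • m = 0) :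
    (∀ (i : ℕ) (n : ℤ), Van 𝒜 ℳ a i n → Van 𝒜 ℳ a (i + 1) (n - 1) → Van 𝒜 𝒩 a i n) ∧
    (x ∈ a.toIdeal → ∀ (i : ℕ) (n : ℤ), (∀ m : ℤ, n ≤ m → Van 𝒜 𝒩 a i (m + 1)) →
      Van 𝒜 ℳ a (i + 1) n) := by
  have hKh := torsionBy_homog 𝒜 ℳ hx
  letI := subDecomp ℳ (Submodule.torsionBy R M x) hKh
  haveI := sub_gsmul 𝒜 ℳ (Submodule.torsionBy R M x)
  letI := quotDecomp ℳ (Submodule.torsionBy R M x) hKh
  haveI := quot_gsmul 𝒜 ℳ (Submodule.torsionBy R M x)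
  let S₁ : SES R (subGr ℳ (Submodule.torsionBy R M x)) ℳ
      (GrStar2H1.quotGr ℳ (Submodule.torsionBy R M x)) :=
    { u := (Submodule.torsionBy R M x).subtype
      p := (Submodule.torsionBy R M x).mkQ
      hu := subtype_isGrHom ℳ _
      hp := mkQ_isGrHom ℳ _
      inj := Subtype.val_injective
      surj := Submodule.mkQ_surjective _
      exact := by rw [Submodule.ker_mkQ, Submodule.range_subtype] }
  let S₂ : SES R (shiftGr (GrStar2H1.quotGr ℳ (Submodule.torsionBy R M x)) (-1)) ℳ 𝒩 :=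
    { u := xbar x
      p := π
      hu := fun k q hq => by
        change q ∈ GrStar2H1.quotGr ℳ (Submodule.torsionBy R M x) (-1 + k) at hq
        obtain ⟨m, hm, rfl⟩ := hq
        show x • m ∈ ℳ k
        exact mem_congr ℳ (add_neg_cancel_left 1 k) (smul_mem_gr 𝒜 ℳ hx hm)
      hp := hπg
      inj := xbar_inj x
      surj := hπ
      exact := by rw [hker, xbar_range] }
  have hcomp : ∀ m, S₂.u (S₁.p m) = x • m := fun m => rfl
  exact ⟨fun i n h1 h2 => R1 𝒜 a S₁ S₂ htors i n h1 h2,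
    fun hxa i n h => R2 𝒜 a S₁ S₂ htors hx hxa hcomp i n h⟩

end concrete

/-! ### the polynomial ring -/
section poly

open MvPolynomial

variable (k : Type u) [Field k] (r : ℕ)

local notation "S" => MvPolynomial (Fin (r + 1)) k
local notation "𝒮" => toAG (GrSyz.stdGr k (Fin (r + 1)))

attribute [local instance] convGradedRing

theorem mm_eq_span_one : (mm k r).toIdeal = Ideal.span ((𝒮 1 : AddSubgroup S) : Set S) := by
  rw [mm_toIdeal, irr_eq_span_X]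
  apply le_antisymm
  · apply Ideal.span_mono
    rintro _ ⟨i, rfl⟩
    exact X_mem_one k r i
  · rw [Ideal.span_le]
    intro p hp
    rw [← irr_eq_span_X]
    exact mem_irr_of_pos hp one_pos

theorem tors_of_artinian {X : Type u} [AddCommGroup X] [Module S X] (𝒳 : ℤ → AddSubgroup X)
    [Decomposition 𝒳] [SetLike.GradedSMul 𝒮 𝒳] [IsArtinian S X] (m : X) :
    ∃ n : ℕ, ∀ p ∈ (mm k r).toIdeal ^ n, p • m = 0 := by
  obtain ⟨N, hN⟩ := bounded_above_of_artinian 𝒮 𝒳 (hposS k r)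
  have h := Groth.Agent.Lib.GrNakH1.torsion_of_bounded 𝒮 𝒳 (mm k r).toIdeal
    (mm_eq_span_one k r) N hN
  have hm : m ∈ gam (mm k r).toIdeal X := by
    rw [h]
    trivial
  exact hm

end poly

/-! ### statements for `Submodule`-valued gradings -/
section final

attribute [local instance] convDecomp conv_gsmul convGradedRing

variable (k : Type u) [Field k] (r : ℕ)
    (M : Type u) [AddCommGroup M] [Module k M] [Module (MvPolynomial (Fin (r + 1)) k) M]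
    [IsScalarTower k (MvPolynomial (Fin (r + 1)) k) M]
    [Module.Finite (MvPolynomial (Fin (r + 1)) k) M]
    (ℳ : ℤ → Submodule k M) [DirectSum.Decomposition ℳ]
    [SetLike.GradedSMul (GrSyz.stdGr k (Fin (r + 1))) ℳ]

omit [IsScalarTower k (MvPolynomial (Fin (r + 1)) k) M]
  [Module.Finite (MvPolynomial (Fin (r + 1)) k) M] in
theorem Hcomp_eq_bot_iff' (E : GrLC.StarInjRes (GrSyz.stdGr k (Fin (r + 1))) ℳ) (i : ℕ) (n : ℤ) :
    E.Hcomp (GrSyz.irrel (GrSyz.stdGr k (Fin (r + 1)))) i n = ⊥ ↔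
      Van (toAG (GrSyz.stdGr k (Fin (r + 1)))) (toAG ℳ) (mm k r) i n :=
  (Hcomp_conv (GrSyz.stdGr k (Fin (r + 1))) ℳ E
    (GrSyz.irrel (GrSyz.stdGr k (Fin (r + 1)))) i n).trans
    (Hcomp_eq_bot_iff (toAG (GrSyz.stdGr k (Fin (r + 1))))
      (convRes (GrSyz.stdGr k (Fin (r + 1))) ℳ E) (mm k r) i n)

theorem reg_le_iff (d : ℤ) :
    GrSyz.reg (GrSyz.stdGr k (Fin (r + 1))) ℳ (GrSyz.irrel (GrSyz.stdGr k (Fin (r + 1)))).toIdeal ≤
      ((d : WithTop ℤ) : WithBot (WithTop ℤ)) ↔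
      ∀ (i : ℕ) (n : ℤ), d - i < n →
        Van (toAG (GrSyz.stdGr k (Fin (r + 1)))) (toAG ℳ) (mm k r) i n := by
  obtain ⟨E⟩ := exists_res (GrSyz.stdGr k (Fin (r + 1))) ℳ
  rw [main15424 k r M ℳ E, iSup_le_iff]
  constructor
  · intro h i n hn
    have := h i
    rw [endDeg_add_le_iff] at this
    exact (Hgr_eq_bot_iff k r M ℳ E i n).1 (this n hn)
  · intro h i
    rw [endDeg_add_le_iff]
    intro n hn
    exact (Hgr_eq_bot_iff k r M ℳ E i n).2 (h i n hn)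

theorem main15422 (hM : IsFiniteLength (MvPolynomial (Fin (r + 1)) k) M) :
    GrSyz.reg (GrSyz.stdGr k (Fin (r + 1))) ℳ (GrSyz.irrel (GrSyz.stdGr k (Fin (r + 1)))).toIdeal =
      GrLC.endDeg (fun n => (ℳ n).toAddSubgroup) := by
  apply eq_of_forall_le_int
  intro d
  rw [reg_le_iff, endDeg_le_iff]
  haveI : IsArtinian (MvPolynomial (Fin (r + 1)) k) M :=
    ((isFiniteLength_iff_isNoetherian_isArtinian).1 hM).2
  have htors := tors_of_artinian k r (toAG ℳ)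
  constructor
  · intro h n hn
    have h0 := h 0 n (by simpa using hn)
    rw [van_zero_iff] at h0
    rw [AddSubgroup.eq_bot_iff_forall]
    intro t ht
    exact h0 t ht (htors t)
  · intro h i n hn
    cases i with
    | zero =>
      rw [van_zero_iff]
      intro t ht _
      have := h n (by simpa using hn)
      rw [AddSubgroup.eq_bot_iff_forall] at this
      exact this t ht
    | succ i => exact van_of_torsion (toAG (GrSyz.stdGr k (Fin (r + 1)))) (mm k r) (toAG ℳ) htors i n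

variable (x : MvPolynomial (Fin (r + 1)) k) (hx : x ∈ GrSyz.stdGr k (Fin (r + 1)) 1)
    (hq : IsFiniteLength (MvPolynomial (Fin (r + 1)) k)
      ↥(Submodule.torsionBy (MvPolynomial (Fin (r + 1)) k) M x))
    (N : Type u) [AddCommGroup N] [Module k N] [Module (MvPolynomial (Fin (r + 1)) k) N]
    [IsScalarTower k (MvPolynomial (Fin (r + 1)) k) N]
    [Module.Finite (MvPolynomial (Fin (r + 1)) k) N]
    (𝒩 : ℤ → Submodule k N) [DirectSum.Decomposition 𝒩]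
    [SetLike.GradedSMul (GrSyz.stdGr k (Fin (r + 1))) 𝒩]
    (π : M →ₗ[MvPolynomial (Fin (r + 1)) k] N) (hπ : Function.Surjective π)
    (hπg : GrLC.IsGrHom ℳ 𝒩 π)
    (hker : LinearMap.ker π =
      LinearMap.range (x • (LinearMap.id : M →ₗ[MvPolynomial (Fin (r + 1)) k] M)))

include hx hq hπ hπg hker in
omit [IsScalarTower k (MvPolynomial (Fin (r + 1)) k) M]
  [Module.Finite (MvPolynomial (Fin (r + 1)) k) M]
  [IsScalarTower k (MvPolynomial (Fin (r + 1)) k) N]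
  [Module.Finite (MvPolynomial (Fin (r + 1)) k) N] in
theorem qreg_poly :
    (∀ (i : ℕ) (n : ℤ), Van (toAG (GrSyz.stdGr k (Fin (r + 1)))) (toAG ℳ) (mm k r) i n →
      Van (toAG (GrSyz.stdGr k (Fin (r + 1)))) (toAG ℳ) (mm k r) (i + 1) (n - 1) →
      Van (toAG (GrSyz.stdGr k (Fin (r + 1)))) (toAG 𝒩) (mm k r) i n) ∧
    (∀ (i : ℕ) (n : ℤ),
      (∀ m : ℤ, n ≤ m → Van (toAG (GrSyz.stdGr k (Fin (r + 1)))) (toAG 𝒩) (mm k r) i (m + 1)) →
      Van (toAG (GrSyz.stdGr k (Fin (r + 1)))) (toAG ℳ) (mm k r) (i + 1) n) := by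
  have hx' : x ∈ toAG (GrSyz.stdGr k (Fin (r + 1))) 1 := hx
  have hKh := torsionBy_homog (toAG (GrSyz.stdGr k (Fin (r + 1)))) (toAG ℳ) hx'
  have htors : ∀ m : Submodule.torsionBy (MvPolynomial (Fin (r + 1)) k) M x,
      ∃ n : ℕ, ∀ p ∈ (mm k r).toIdeal ^ n, p • m = 0 := by
    letI := subDecomp (toAG ℳ) (Submodule.torsionBy (MvPolynomial (Fin (r + 1)) k) M x) hKh
    haveI := sub_gsmul (toAG (GrSyz.stdGr k (Fin (r + 1)))) (toAG ℳ)
      (Submodule.torsionBy (MvPolynomial (Fin (r + 1)) k) M x)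
    haveI : IsArtinian (MvPolynomial (Fin (r + 1)) k)
        (Submodule.torsionBy (MvPolynomial (Fin (r + 1)) k) M x) :=
      ((isFiniteLength_iff_isNoetherian_isArtinian).1 hq).2
    exact tors_of_artinian k r
      (subGr (toAG ℳ) (Submodule.torsionBy (MvPolynomial (Fin (r + 1)) k) M x))
  have hker' : LinearMap.ker π =
      LinearMap.range (LinearMap.lsmul (MvPolynomial (Fin (r + 1)) k) M x) := by
    rw [hker]
    rfl
  obtain ⟨h1, h2⟩ := qreg_main (toAG (GrSyz.stdGr k (Fin (r + 1)))) (mm k r) (toAG ℳ) (toAG 𝒩) hx' π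
    (fun g m hm => hπg g m hm) hπ hker' htors
  exact ⟨h1, h2 (mem_irr_of_pos hx' one_pos)⟩

include hx hq hπ hπg hker in
omit [IsScalarTower k (MvPolynomial (Fin (r + 1)) k) M]
  [Module.Finite (MvPolynomial (Fin (r + 1)) k) M]
  [IsScalarTower k (MvPolynomial (Fin (r + 1)) k) N]
  [Module.Finite (MvPolynomial (Fin (r + 1)) k) N] in
theorem main15419 (E : GrLC.StarInjRes (GrSyz.stdGr k (Fin (r + 1))) ℳ)
    (E' : GrLC.StarInjRes (GrSyz.stdGr k (Fin (r + 1))) 𝒩) (d : ℤ)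
    (hM : ∀ i : ℕ, 0 < i →
      E.Hcomp (GrSyz.irrel (GrSyz.stdGr k (Fin (r + 1)))) i (d - (i : ℤ) + 1) = ⊥)
    (i : ℕ) (hi : 0 < i) :
    E'.Hcomp (GrSyz.irrel (GrSyz.stdGr k (Fin (r + 1)))) i (d - (i : ℤ) + 1) = ⊥ := by
  obtain ⟨h1, -⟩ := qreg_poly k r M ℳ x hx hq N 𝒩 π hπ hπg hker
  rw [Hcomp_eq_bot_iff' k r N 𝒩 E' i _]
  apply h1 i _
  · exact (Hcomp_eq_bot_iff' k r M ℳ E i _).1 (hM i hi)
  · have h3 := (Hcomp_eq_bot_iff' k r M ℳ E (i + 1) _).1 (hM (i + 1) (Nat.succ_pos i))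
    have e : d - ((i + 1 : ℕ) : ℤ) + 1 = d - (i : ℤ) + 1 - 1 := by
      push_cast
      ring
    rw [← e]
    exact h3

include hx hq hπ hπg hker in
theorem main15421 (E : GrLC.StarInjRes (GrSyz.stdGr k (Fin (r + 1))) ℳ) :
    GrSyz.reg (GrSyz.stdGr k (Fin (r + 1))) ℳ (GrSyz.irrel (GrSyz.stdGr k (Fin (r + 1)))).toIdeal =
      GrLC.endDeg (E.Hgr (GrSyz.irrel (GrSyz.stdGr k (Fin (r + 1)))) 0) ⊔
        GrSyz.reg (GrSyz.stdGr k (Fin (r + 1))) 𝒩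
          (GrSyz.irrel (GrSyz.stdGr k (Fin (r + 1)))).toIdeal := by
  obtain ⟨h1, h2⟩ := qreg_poly k r M ℳ x hx hq N 𝒩 π hπ hπg hker
  apply eq_of_forall_le_int
  intro d
  rw [sup_le_iff, reg_le_iff k r M ℳ d, reg_le_iff k r N 𝒩 d, endDeg_le_iff]
  constructor
  · intro h
    refine ⟨fun n hn => (Hgr_eq_bot_iff k r M ℳ E 0 n).2 (h 0 n (by simpa using hn)),
      fun i n hn => h1 i n (h i n hn) (h (i + 1) (n - 1) (by push_cast; omega))⟩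
  · rintro ⟨h0, hN⟩ i n hn
    cases i with
    | zero => exact (Hgr_eq_bot_iff k r M ℳ E 0 n).1 (h0 n (by simpa using hn))
    | succ i =>
      exact h2 i n (fun m hm => hN i (m + 1) (by push_cast at hn; omega))

end final

end Groth.Agent.Lib.GrEG6H1
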