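import Mathlib
import Groth.Prelude.Def_GrLC
import Groth.Prelude.Def_GrSyz
import Groth.Agent.Lib.GrEG6_helper1

/-! Regularity and regular sequences of linear forms (helper1). -/

set_option autoImplicit false

namespace Groth.Agent.Lib.GrEG7H1

open DirectSum GrLC Groth.Agent.Lib.GrStarH1 Groth.Agent.Lib.GrStar2H1 Groth.Agent.Lib.GrStar3H1
  Groth.Agent.Lib.GrLES1H1 Groth.Agent.Lib.GrLES2H1 Groth.Agent.Lib.GrLES3H1
  Groth.Agent.Lib.GrHDecH1 Groth.Agent.Lib.GrEG1H1 Groth.Agent.Lib.GrLES4H1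
  Groth.Agent.Lib.GrSyz2H1 Groth.Agent.Lib.GrConvH1 Groth.Agent.Lib.GrSyzH1
  Groth.Agent.Lib.GrEG2H1 Groth.Agent.Lib.GrExtH1 Groth.Agent.Lib.GrEG3H1 Groth.Agent.Lib.GrEG4H1
  Groth.Agent.Lib.GrEG5H1 Groth.Agent.Lib.GrEG6H1

universe u

open Pointwise

/-! ### invariance under graded isomorphisms -/
section iso

variable {ι : Type} [AddCommGroup ι] [DecidableEq ι]
variable {R : Type u} [CommRing R] (𝒜 : ι → AddSubgroup R) [GradedRing 𝒜]
variable {M : Type u} [AddCommGroup M] [Module R M] {ℳ : ι → AddSubgroup M} [Decomposition ℳ]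
  [SetLike.GradedSMul 𝒜 ℳ]
variable {N : Type u} [AddCommGroup N] [Module R N] {𝒩 : ι → AddSubgroup N} [Decomposition 𝒩]
  [SetLike.GradedSMul 𝒜 𝒩]

theorem van_of_leftInv (u : M →ₗ[R] N) (hu : IsGrHom ℳ 𝒩 u) (v : N →ₗ[R] M) (hv : IsGrHom 𝒩 ℳ v)
    (hvu : v ∘ₗ u = LinearMap.id) (a : HomogeneousIdeal 𝒜) (i : ℕ) (n : ι)
    (h : Van 𝒜 𝒩 a i n) : Van 𝒜 ℳ a i n := by
  intro y hy
  have h1 : Hm 𝒜 u hu a i y = 0 := h _ (Hm_gr 𝒜 u hu a i n y hy)
  have hid : IsGrHom ℳ ℳ (v ∘ₗ u) := isGrHom_comp _ _ _ hv hu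
  have h2 := Hm_comp_apply 𝒜 u hu v hv hid a i y
  have h3 := Hm_congr 𝒜 hvu hid (fun _ _ h => h) a i
  have h4 := Hm_id 𝒜 (ℳ := ℳ) a i
  calc y = Hm 𝒜 (v ∘ₗ u) hid a i y := by rw [h3, h4]; rfl
    _ = Hm 𝒜 v hv a i (Hm 𝒜 u hu a i y) := h2
    _ = 0 := by rw [h1, map_zero]

theorem van_iso (π : M →ₗ[R] N) (hπg : IsGrHom ℳ 𝒩 π) (hinj : Function.Injective π)
    (hsurj : Function.Surjective π) (a : HomogeneousIdeal 𝒜) (i : ℕ) (n : ι) :
    Van 𝒜 ℳ a i n ↔ Van 𝒜 𝒩 a i n := by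
  let e := LinearEquiv.ofBijective π ⟨hinj, hsurj⟩
  have hv : IsGrHom 𝒩 ℳ e.symm.toLinearMap := fun g n' hn' => by
    apply mem_of_map_mem ℳ 𝒩 hπg hinj
    have : π (e.symm n') = n' := e.apply_symm_apply n'
    show π (e.symm n') ∈ 𝒩 g
    rw [this]
    exact hn'
  have h1 : e.symm.toLinearMap ∘ₗ π = LinearMap.id := LinearMap.ext fun m => e.symm_apply_apply m
  have h2 : π ∘ₗ e.symm.toLinearMap = LinearMap.id :=
    LinearMap.ext fun n' => e.apply_symm_apply n'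
  exact ⟨van_of_leftInv 𝒜 e.symm.toLinearMap hv π hπg h2 a i n,
    van_of_leftInv 𝒜 π hπg e.symm.toLinearMap hv h1 a i n⟩

end iso

/-! ### regular elements of degree one -/
section regstep

attribute [local instance] shiftDecomp shift_gsmul

variable {R : Type u} [CommRing R] [IsNoetherianRing R] (𝒜 : ℤ → AddSubgroup R) [GradedRing 𝒜]
  (a : HomogeneousIdeal 𝒜)
variable {M : Type u} [AddCommGroup M] [Module R M] (ℳ : ℤ → AddSubgroup M) [Decomposition ℳ]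
  [SetLike.GradedSMul 𝒜 ℳ]
variable {N : Type u} [AddCommGroup N] [Module R N] (𝒩 : ℤ → AddSubgroup N) [Decomposition 𝒩]
  [SetLike.GradedSMul 𝒜 𝒩]

/-- `H^i_a(M)_n = 0` for `n > d - i` -/
def RegLE (d : ℤ) : Prop := ∀ (i : ℕ) (n : ℤ), d - i < n → Van 𝒜 ℳ a i n

theorem regLE_step {x : R} (hx : x ∈ 𝒜 1) (hxa : x ∈ a.toIdeal) (hreg : IsSMulRegular M x)
    (π : M →ₗ[R] N) (hπg : IsGrHom ℳ 𝒩 π) (hπ : Function.Surjective π)
    (hker : LinearMap.ker π = LinearMap.range (LinearMap.lsmul R M x)) (d : ℤ) :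
    RegLE 𝒜 a ℳ d ↔ RegLE 𝒜 a 𝒩 d := by
  have htors : ∀ m : Submodule.torsionBy R M x, ∃ n : ℕ, ∀ r ∈ a.toIdeal ^ n, r • m = 0 := by
    intro m
    have hm : x • (m : M) = 0 := (Submodule.mem_torsionBy_iff _ _).1 m.2
    have hm0 : (m : M) = 0 := hreg (show x • (m : M) = x • (0 : M) by rw [hm, smul_zero])
    have hm1 : m = 0 := Subtype.ext hm0
    exact ⟨0, fun r _ => by rw [hm1, smul_zero]⟩
  obtain ⟨h1, h2⟩ := qreg_main 𝒜 a ℳ 𝒩 hx π hπg hπ hker htors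
  have h0 : ∀ n, Van 𝒜 ℳ a 0 n := by
    intro n
    rw [van_zero_iff]
    rintro t _ ⟨j, hj⟩
    have h3 : x ^ j • t = 0 := hj _ (Ideal.pow_mem_pow hxa j)
    exact (hreg.pow j) (show x ^ j • t = x ^ j • (0 : M) by rw [h3, smul_zero])
  constructor
  · intro h i n hn
    exact h1 i n (h i n hn) (h (i + 1) (n - 1) (by push_cast; omega))
  · intro h i n hn
    cases i with
    | zero => exact h0 n
    | succ i => exact h2 hxa i n (fun m hm => h i (m + 1) (by push_cast at hn; omega))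

theorem regLE_regseq : ∀ (ys : List R), (∀ y ∈ ys, y ∈ 𝒜 1 ∧ y ∈ a.toIdeal) →
    ∀ {X : Type u} [AddCommGroup X] [Module R X] (𝒳 : ℤ → AddSubgroup X) [Decomposition 𝒳]
      [SetLike.GradedSMul 𝒜 𝒳], RingTheory.Sequence.IsWeaklyRegular X ys →
    ∀ {N : Type u} [AddCommGroup N] [Module R N] (𝒩 : ℤ → AddSubgroup N) [Decomposition 𝒩]
      [SetLike.GradedSMul 𝒜 𝒩] (π : X →ₗ[R] N), IsGrHom 𝒳 𝒩 π → Function.Surjective π →
      LinearMap.ker π = Ideal.ofList ys • (⊤ : Submodule R X) →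
      ∀ d : ℤ, RegLE 𝒜 a 𝒳 d ↔ RegLE 𝒜 a 𝒩 d := by
  intro ys
  induction ys with
  | nil =>
    intro _ X _ _ 𝒳 _ _ _ N _ _ 𝒩 _ _ π hπg hπ hker d
    have hinj : Function.Injective π := by
      rw [← LinearMap.ker_eq_bot, hker, Ideal.ofList_nil, Submodule.bot_smul]
    constructor
    · intro h i n hn
      exact (van_iso 𝒜 π hπg hinj hπ a i n).1 (h i n hn)
    · intro h i n hn
      exact (van_iso 𝒜 π hπg hinj hπ a i n).2 (h i n hn)
  | cons y ys ih =>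
    intro hys X _ _ 𝒳 _ _ hreg N _ _ 𝒩 _ _ π hπg hπ hker d
    obtain ⟨hy1, hy2⟩ := (RingTheory.Sequence.isWeaklyRegular_cons_iff X y ys).1 hreg
    obtain ⟨hyA, hya⟩ := hys y List.mem_cons_self
    have hP : (y • (⊤ : Submodule R X)) = LinearMap.range (LinearMap.lsmul R X y) := by
      ext m
      rw [Submodule.mem_smul_pointwise_iff_exists]
      constructor
      · rintro ⟨b, -, rfl⟩
        exact ⟨b, rfl⟩
      · rintro ⟨b, rfl⟩
        exact ⟨b, trivial, rfl⟩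
    have hPh : (y • (⊤ : Submodule R X)).IsHomogeneous 𝒳 := by
      rw [hP]
      exact range_isHomogeneous (shiftGr 𝒳 (-1)) 𝒳
        (fun k m hm => mem_congr 𝒳 (add_neg_cancel_left 1 k) (smul_mem_gr 𝒜 𝒳 hyA hm))
    letI := quotDecomp 𝒳 (y • (⊤ : Submodule R X)) hPh
    haveI := quot_gsmul 𝒜 𝒳 (y • (⊤ : Submodule R X))
    have hstep := regLE_step 𝒜 a 𝒳 (GrStar2H1.quotGr 𝒳 (y • (⊤ : Submodule R X))) hyA hya hy1
      (y • (⊤ : Submodule R X)).mkQ (mkQ_isGrHom 𝒳 _) (Submodule.mkQ_surjective _)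
      (by rw [Submodule.ker_mkQ, hP]) d
    have hle : (y • (⊤ : Submodule R X)) ≤ LinearMap.ker π := by
      rw [hker, Ideal.ofList_cons_smul]
      exact le_sup_left
    have hih := ih (fun z hz => hys z (List.mem_cons_of_mem _ hz))
      (X := QuotSMulTop y X) (GrStar2H1.quotGr 𝒳 (y • (⊤ : Submodule R X))) hy2 𝒩
      ((y • (⊤ : Submodule R X)).liftQ π hle)
      (fun g q hq => by
        obtain ⟨m, hm, rfl⟩ := hq
        exact hπg g m hm)
      (fun n' => by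
        obtain ⟨m, rfl⟩ := hπ n'
        exact ⟨(y • (⊤ : Submodule R X)).mkQ m, rfl⟩)
      (by
        rw [Submodule.ker_liftQ, hker, Ideal.ofList_cons_smul, Submodule.map_sup,
          Submodule.mkQ_map_self, bot_sup_eq, Submodule.map_smul'', Submodule.map_top,
          Submodule.range_mkQ]) d
    exact hstep.trans hih

end regstep

/-! ### statements for `Submodule`-valued gradings -/
section final

attribute [local instance] convDecomp conv_gsmul convGradedRing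

variable (k : Type u) [Field k] (r : ℕ)
    (M : Type u) [AddCommGroup M] [Module k M] [Module (MvPolynomial (Fin (r + 1)) k) M]
    [IsScalarTower k (MvPolynomial (Fin (r + 1)) k) M]
    [Module.Finite (MvPolynomial (Fin (r + 1)) k) M]
    (ℳ : ℤ → Submodule k M) [DirectSum.Decomposition ℳ]
    [SetLike.GradedSMul (GrSyz.stdGr k (Fin (r + 1))) ℳ]

theorem main15425 (ys : List (MvPolynomial (Fin (r + 1)) k))
    (hys : ∀ y ∈ ys, y ∈ GrSyz.stdGr k (Fin (r + 1)) 1)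
    (hreg : RingTheory.Sequence.IsWeaklyRegular M ys)
    (N : Type u) [AddCommGroup N] [Module k N] [Module (MvPolynomial (Fin (r + 1)) k) N]
    [IsScalarTower k (MvPolynomial (Fin (r + 1)) k) N]
    [Module.Finite (MvPolynomial (Fin (r + 1)) k) N]
    (𝒩 : ℤ → Submodule k N) [DirectSum.Decomposition 𝒩]
    [SetLike.GradedSMul (GrSyz.stdGr k (Fin (r + 1))) 𝒩]
    (π : M →ₗ[MvPolynomial (Fin (r + 1)) k] N) (hπ : Function.Surjective π)
    (hπg : GrLC.IsGrHom ℳ 𝒩 π)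
    (hker : LinearMap.ker π =
      Ideal.ofList ys • (⊤ : Submodule (MvPolynomial (Fin (r + 1)) k) M))
    (hN : IsFiniteLength (MvPolynomial (Fin (r + 1)) k) N) :
    GrSyz.reg (GrSyz.stdGr k (Fin (r + 1))) ℳ (GrSyz.irrel (GrSyz.stdGr k (Fin (r + 1)))).toIdeal =
      GrLC.endDeg (fun n => (𝒩 n).toAddSubgroup) := by
  rw [← main15422 k r N 𝒩 hN]
  apply eq_of_forall_le_int
  intro d
  rw [reg_le_iff k r M ℳ d, reg_le_iff k r N 𝒩 d]
  exact regLE_regseq (toAG (GrSyz.stdGr k (Fin (r + 1)))) (mm k r) ys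
    (fun y hy => ⟨hys y hy, mem_irr_of_pos (hys y hy) one_pos⟩) (toAG ℳ) hreg (toAG 𝒩) π
    (fun g m hm => hπg g m hm) hπ hker d

end final

end Groth.Agent.Lib.GrEG7H1
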