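import Mathlib
import Groth.Prelude.Def_GrLC
import Groth.Prelude.Def_GrSyz
import Groth.Agent.Lib.GrSyz3_helper1

/-! Hilbert polynomial and Betti-number form of the Hilbert function (helper1). -/

set_option autoImplicit false

namespace Groth.Agent.Lib.GrSyz4H1

open DirectSum Groth.Agent.Lib.GrSyz3H1

universe u

/-! ### binomial polynomials -/
section binom

open Nat Polynomial

theorem choose_eq_poch (r e : ℕ) :
    ((r + e).choose r : ℚ) = (ascPochhammer ℚ r).eval ((e : ℚ) + 1) / (r ! : ℚ) := by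
  rcases r with _ | r
  · simp
  · rw [Nat.cast_choose_eq_ascPochhammer_div]
    have : r + 1 + e - (r + 1 - 1) = e + 1 := by omega
    rw [this]
    push_cast
    rfl

theorem poch_zero (r : ℕ) (e : ℤ) (h1 : e < 0) (h2 : -(r : ℤ) ≤ e) :
    (ascPochhammer ℚ r).eval ((e : ℚ) + 1) = 0 := by
  have h3 : (e : ℚ) + 1 = -(((-e - 1).toNat : ℕ) : ℚ) := by
    have : (((-e - 1).toNat : ℕ) : ℤ) = -e - 1 := Int.toNat_of_nonneg (by omega)
    have h4 : (((-e - 1).toNat : ℕ) : ℚ) = ((-e - 1 : ℤ) : ℚ) := by rw [← this]; simp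
    rw [h4]; push_cast; ring
  rw [h3]
  apply ascPochhammer_eval_neg_coe_nat_of_lt
  omega

/-- the polynomial `d ↦ C(r + d - a, r)` -/
noncomputable def Q (r : ℕ) (a : ℤ) : Polynomial ℚ :=
  C (1 / (r ! : ℚ)) * (ascPochhammer ℚ r).comp (X - C (a : ℚ) + 1)

theorem eval_Q (r : ℕ) (a d : ℤ) :
    (Q r a).eval (d : ℚ) = (ascPochhammer ℚ r).eval (((d - a : ℤ) : ℚ) + 1) / (r ! : ℚ) := by
  unfold Q
  rw [eval_mul, eval_C, eval_comp, eval_add, eval_sub, eval_X, eval_C, eval_one]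
  push_cast
  ring

theorem hfun_eq_eval (r : ℕ) (a d : ℤ) (h : a - r ≤ d) :
    ((hfun r d a : ℤ) : ℚ) = (Q r a).eval (d : ℚ) := by
  rw [eval_Q, hfun]
  by_cases had : a ≤ d
  · rw [if_pos had]
    have h1 : (((d - a).toNat : ℕ) : ℤ) = d - a := Int.toNat_of_nonneg (by omega)
    rw [← h1]
    push_cast
    exact choose_eq_poch r _
  · rw [if_neg had, poch_zero r (d - a) (by omega) (by omega)]
    simp

end binom

section rows

variable (k : Type u) [Field k] (r : ℕ)
    (M : Type u) [AddCommGroup M] [Module k M] [Module (MvPolynomial (Fin (r + 1)) k) M]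
    [IsScalarTower k (MvPolynomial (Fin (r + 1)) k) M]
    (ℳ : ℤ → Submodule k M) [DirectSum.Decomposition ℳ]
    [SetLike.GradedSMul (GrSyz.stdGr k (Fin (r + 1))) ℳ]
    (F : GrSyz.FreeRes (GrSyz.stdGr k (Fin (r + 1))) ℳ)

theorem hilbert_hfun (m : ℕ) (hF : F.HasLengthLE m) (d : ℤ) :
    (Module.finrank k ↥(ℳ d) : ℤ) =
      ∑ i ∈ Finset.range (m + 1), (-1 : ℤ) ^ i * ∑ b : Fin (F.rk i), hfun r d (F.deg i b) :=
  main15428 k r M ℳ F m hF d

theorem main15429 (m : ℕ) (hF : F.HasLengthLE m) :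
    ∃ P : Polynomial ℚ, ∀ d : ℤ, (∀ (i : ℕ) (b : Fin (F.rk i)), F.deg i b - (r : ℤ) ≤ d) →
      ((Module.finrank k ↥(ℳ d) : ℤ) : ℚ) = P.eval (d : ℚ) := by
  refine ⟨∑ i ∈ Finset.range (m + 1), Polynomial.C ((-1 : ℚ) ^ i) *
    ∑ b : Fin (F.rk i), Q r (F.deg i b), fun d hd => ?_⟩
  rw [hilbert_hfun k r M ℳ F m hF d, Polynomial.eval_finset_sum]
  push_cast
  refine Finset.sum_congr rfl (fun i _ => ?_)
  rw [Polynomial.eval_mul, Polynomial.eval_C, Polynomial.eval_finset_sum]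
  congr 1
  refine Finset.sum_congr rfl (fun b _ => ?_)
  exact hfun_eq_eval r _ d (hd i b)

/-- alternating sums of the numbers of basis vectors of a given degree -/
noncomputable def Bsum (m : ℕ) (j : ℤ) : ℤ := ∑ i ∈ Finset.range (m + 1), (-1 : ℤ) ^ i * (F.betti i j : ℤ)

/-- all degrees of basis vectors -/
noncomputable def degs (m : ℕ) : Finset ℤ :=
  (Finset.range (m + 1)).biUnion (fun i => Finset.univ.image (F.deg i))

omit [IsScalarTower k (MvPolynomial (Fin (r + 1)) k) M] in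
theorem betti_eq_zero {m i : ℕ} {j : ℤ} (hi : i ∈ Finset.range (m + 1)) (hj : j ∉ degs k r M ℳ F m) :
    F.betti i j = 0 := by
  unfold GrSyz.FreeRes.betti
  rw [Finset.card_eq_zero, Finset.filter_eq_empty_iff]
  intro b _ hb
  apply hj
  exact Finset.mem_biUnion.mpr ⟨i, hi, Finset.mem_image.mpr ⟨b, Finset.mem_univ _, hb⟩⟩

omit [IsScalarTower k (MvPolynomial (Fin (r + 1)) k) M] in
theorem Bsum_eq_zero {m : ℕ} {j : ℤ} (hj : j ∉ degs k r M ℳ F m) : Bsum k r M ℳ F m j = 0 :=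
  Finset.sum_eq_zero (fun i hi => by rw [betti_eq_zero k r M ℳ F hi hj]; simp)

omit [IsScalarTower k (MvPolynomial (Fin (r + 1)) k) M] in
theorem sum_deg_eq (m i : ℕ) (hi : i ∈ Finset.range (m + 1)) (g : ℤ → ℤ) :
    ∑ b, g (F.deg i b) = ∑ j ∈ degs k r M ℳ F m, (F.betti i j : ℤ) * g j := by
  classical
  have h1 : ∀ j, (F.betti i j : ℤ) = ∑ b : Fin (F.rk i), if F.deg i b = j then 1 else 0 := by
    intro j
    unfold GrSyz.FreeRes.betti
    rw [Finset.card_filter]
    push_cast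
    rfl
  simp_rw [h1, Finset.sum_mul]
  rw [Finset.sum_comm]
  refine Finset.sum_congr rfl (fun b _ => ?_)
  simp_rw [ite_mul, one_mul, zero_mul]
  rw [Finset.sum_ite_eq, if_pos]
  exact Finset.mem_biUnion.mpr ⟨i, hi, Finset.mem_image.mpr ⟨b, Finset.mem_univ _, rfl⟩⟩

theorem hilbert_betti (m : ℕ) (hF : F.HasLengthLE m) (d : ℤ) :
    (Module.finrank k ↥(ℳ d) : ℤ) =
      ∑ j ∈ degs k r M ℳ F m, Bsum k r M ℳ F m j * hfun r d j := by
  rw [hilbert_hfun k r M ℳ F m hF d]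
  have h1 : ∀ i ∈ Finset.range (m + 1), (-1 : ℤ) ^ i * ∑ b : Fin (F.rk i), hfun r d (F.deg i b) =
      ∑ j ∈ degs k r M ℳ F m, (-1 : ℤ) ^ i * (F.betti i j : ℤ) * hfun r d j := by
    intro i hi
    rw [sum_deg_eq k r M ℳ F m i hi (fun a => hfun r d a), Finset.mul_sum]
    exact Finset.sum_congr rfl (fun j _ => by ring)
  rw [Finset.sum_congr rfl h1, Finset.sum_comm]
  refine Finset.sum_congr rfl (fun j _ => ?_)
  unfold Bsum
  rw [Finset.sum_mul]

theorem main15437 (m : ℕ) (hF : F.HasLengthLE m) :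
    (∀ d : ℤ, (Module.finrank k ↥(ℳ d) : ℤ) =
        ∑ᶠ j : ℤ, (∑ i ∈ Finset.range (m + 1), (-1 : ℤ) ^ i * (F.betti i j : ℤ)) *
          (if j ≤ d then ((Nat.choose (r + (d - j).toNat) r : ℕ) : ℤ) else 0)) ∧
      ∀ j : ℤ, (∑ i ∈ Finset.range (m + 1), (-1 : ℤ) ^ i * (F.betti i j : ℤ)) =
        (Module.finrank k ↥(ℳ j) : ℤ) -
          ∑ᶠ n : ℤ, (if n < j then (∑ i ∈ Finset.range (m + 1), (-1 : ℤ) ^ i * (F.betti i n : ℤ)) *
            ((Nat.choose (r + (j - n).toNat) r : ℕ) : ℤ) else 0) := by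
  classical
  constructor
  · intro d
    have hsupp : Function.support (fun j : ℤ => Bsum k r M ℳ F m j * hfun r d j) ⊆
        ↑(degs k r M ℳ F m) := by
      intro j hj
      by_contra hjJ
      apply hj
      show Bsum k r M ℳ F m j * hfun r d j = 0
      rw [Bsum_eq_zero k r M ℳ F hjJ, zero_mul]
    have := finsum_eq_sum_of_support_subset _ hsupp
    rw [hilbert_betti k r M ℳ F m hF d, ← this]
    rfl
  · intro j
    have hsupp : Function.support (fun n : ℤ => if n < j then Bsum k r M ℳ F m n *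
        ((Nat.choose (r + (j - n).toNat) r : ℕ) : ℤ) else 0) ⊆ ↑(degs k r M ℳ F m) := by
      intro n hn
      by_contra hnJ
      apply hn
      show (if n < j then Bsum k r M ℳ F m n * ((Nat.choose (r + (j - n).toNat) r : ℕ) : ℤ)
        else 0) = 0
      rw [Bsum_eq_zero k r M ℳ F hnJ, zero_mul, ite_self]
    have hfs := finsum_eq_sum_of_support_subset _ hsupp
    have h1 := hilbert_betti k r M ℳ F m hF j
    have h2 : ∀ n ∈ degs k r M ℳ F m, Bsum k r M ℳ F m n * hfun r j n =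
        (if n < j then Bsum k r M ℳ F m n * ((Nat.choose (r + (j - n).toNat) r : ℕ) : ℤ) else 0) +
          (if j = n then Bsum k r M ℳ F m n else 0) := by
      intro n _
      unfold hfun
      rcases lt_trichotomy n j with h | h | h
      · rw [if_pos (le_of_lt h), if_pos h, if_neg (ne_of_gt h), add_zero]
      · subst h
        rw [if_pos le_rfl, if_neg (lt_irrefl _), if_pos rfl, sub_self, Int.toNat_zero, add_zero,
          Nat.choose_self, Nat.cast_one, mul_one, zero_add]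
      · rw [if_neg (not_le.mpr h), if_neg (not_lt.mpr (le_of_lt h)), if_neg (ne_of_lt h), mul_zero,
          add_zero]
    rw [Finset.sum_congr rfl h2, Finset.sum_add_distrib, Finset.sum_ite_eq] at h1
    have h3 : (if j ∈ degs k r M ℳ F m then Bsum k r M ℳ F m j else 0) = Bsum k r M ℳ F m j := by
      split_ifs with hj
      · rfl
      · exact (Bsum_eq_zero k r M ℳ F hj).symm
    rw [h3, ← hfs] at h1
    show Bsum k r M ℳ F m j = _ - ∑ᶠ n : ℤ, (if n < j then Bsum k r M ℳ F m n *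
        ((Nat.choose (r + (j - n).toNat) r : ℕ) : ℤ) else 0)
    rw [h1]
    ring

end rows

end Groth.Agent.Lib.GrSyz4H1
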