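import Mathlib
import Groth.Prelude.Def_GrLC
import Groth.Prelude.Def_GrSyz
import Groth.Prelude.Def_CAlg
import Groth.Agent.Lib.GrEG9_helper1
import Groth.Agent.Lib.GrSyz4_helper1

/-! Sharpness of the bound beyond which the Hilbert function of a Cohen–Macaulay graded module
is the Hilbert polynomial (helper1). -/

set_option autoImplicit false

namespace Groth.Agent.Lib.GrEG10H1

open DirectSum GrLC Groth.Agent.Lib.GrStarH1 Groth.Agent.Lib.GrStar2H1 Groth.Agent.Lib.GrStar3H1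
  Groth.Agent.Lib.GrLES1H1 Groth.Agent.Lib.GrLES2H1 Groth.Agent.Lib.GrLES3H1
  Groth.Agent.Lib.GrHDecH1 Groth.Agent.Lib.GrEG1H1 Groth.Agent.Lib.GrLES4H1
  Groth.Agent.Lib.GrSyz2H1 Groth.Agent.Lib.GrConvH1 Groth.Agent.Lib.GrSyzH1
  Groth.Agent.Lib.GrEG2H1 Groth.Agent.Lib.GrExtH1 Groth.Agent.Lib.GrEG3H1 Groth.Agent.Lib.GrEG4H1
  Groth.Agent.Lib.GrEG5H1 Groth.Agent.Lib.GrEG6H1 Groth.Agent.Lib.GrEG7H1 Groth.Agent.Lib.GrEG9H1

universe u

section poly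

open MvPolynomial

variable (k : Type u) [Field k] (r : ℕ)

local notation "S" => MvPolynomial (Fin (r + 1)) k
local notation "𝒮" => toAG (GrSyz.stdGr k (Fin (r + 1)))

attribute [local instance] freeDecomp free_gsmul convGradedRing K1Dec K1GS

variable {M : Type u} [AddCommGroup M] [Module (MvPolynomial (Fin (r + 1)) k) M]
  (ℳ : ℤ → AddSubgroup M) [Decomposition ℳ]
  [SetLike.GradedSMul (toAG (GrSyz.stdGr k (Fin (r + 1)))) ℳ]
  (F : GrSyz.FreeRes (toAG (GrSyz.stdGr k (Fin (r + 1)))) ℳ)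
  [Module.Finite (MvPolynomial (Fin (r + 1)) k) M]

theorem depth_eq (hF : F.IsMinimal (irr k (Fin (r + 1)))) (ℓ : ℕ) (hlen : F.HasLengthLE ℓ)
    (hne : F.rk ℓ ≠ 0) :
    LocCoh.idealDepth (mm k r).toIdeal M = ((r + 1 - ℓ : ℕ) : ℕ∞) := by
  have h := depth_formula k r ℳ F hF ℓ hlen hne
  rcases hx : LocCoh.idealDepth (mm k r).toIdeal M with _ | m
  · exfalso
    have hx' : LocCoh.idealDepth (mm k r).toIdeal M = ⊤ := hx
    rw [hx', add_top] at h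
    exact ENat.top_ne_coe _ h
  · have hx' : LocCoh.idealDepth (mm k r).toIdeal M = (m : ℕ) := hx
    rw [hx'] at h
    have h2 : ℓ + m = r + 1 := by exact_mod_cast h
    show ((m : ℕ) : ℕ∞) = _
    have : m = r + 1 - ℓ := by omega
    rw [this]

theorem van_ne_of_CM (hF : F.IsMinimal (irr k (Fin (r + 1)))) (ℓ : ℕ) (hlen : F.HasLengthLE ℓ)
    (hne : F.rk ℓ ≠ 0)
    (hCM : Module.supportDim (MvPolynomial (Fin (r + 1)) k) M =
      ((LocCoh.idealDepth (mm k r).toIdeal M : ℕ∞) : WithBot ℕ∞))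
    (i : ℕ) (hi : i ≠ r + 1 - ℓ) (n : ℤ) : Van 𝒮 ℳ (mm k r) i n := by
  have hle := (not_van_top k r ℳ F hF ℓ hlen hne).1
  rcases Nat.lt_or_gt_of_ne hi with h | h
  · exact van_below k r ℓ M ℳ F hlen i (by omega) n
  · have hd := depth_eq k r ℳ F hF ℓ hlen hne
    have hdim : Module.supportDim S M ≤ ((r + 1 - ℓ : ℕ) : WithBot ℕ∞) := by
      rw [hCM, hd]
      rfl
    haveI := Groth.Agent.Lib.LocCohGVH7.GV_fin (mm k r).toIdeal (r + 1 - ℓ) M hdim i h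
    obtain ⟨e⟩ := GrStarLCH1.main13224 S 𝒮 (mm k r) M ℳ (sRes 𝒮 ℳ) i
    haveI : Subsingleton (HH 𝒮 ℳ (mm k r) i) := e.toEquiv.subsingleton
    intro y _
    exact Subsingleton.elim y 0

theorem top_attained (hF : F.IsMinimal (irr k (Fin (r + 1)))) (ℓ : ℕ) (hlen : F.HasLengthLE ℓ)
    (hne : F.rk ℓ ≠ 0)
    (hCM : Module.supportDim (MvPolynomial (Fin (r + 1)) k) M =
      ((LocCoh.idealDepth (mm k r).toIdeal M : ℕ∞) : WithBot ℕ∞))
    (ρ : ℤ) (hρ : F.IsGenLE ρ) (hρ' : ∃ (i : ℕ) (b : Fin (F.rk i)), F.deg i b = ρ + i) :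
    ∃ b : Fin (F.rk ℓ), F.deg ℓ b = ρ + ℓ := by
  classical
  have hle := (not_van_top k r ℳ F hF ℓ hlen hne).1
  let P : ℕ → Prop := fun j => ∃ b : Fin (F.rk j), F.deg j b = ρ + j
  have hbad : ∀ j, P j → j ≤ ℓ := by
    rintro j ⟨b, _⟩
    by_contra hj
    exact (Fin.cast (hlen j (by omega)) b).elim0
  obtain ⟨i₀, hi₀⟩ := hρ'
  have hP0 : P i₀ := hi₀
  have hPJ : P (Nat.findGreatest P ℓ) := Nat.findGreatest_spec (hbad i₀ hP0) hP0
  have hmax : ∀ j, Nat.findGreatest P ℓ < j → ¬ P j := by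
    intro j hj hPj
    exact absurd (Nat.le_findGreatest (hbad j hPj) hPj) (not_le.2 hj)
  have hJle : Nat.findGreatest P ℓ ≤ ℓ := Nat.findGreatest_le ℓ
  generalize Nat.findGreatest P ℓ = J at hPJ hmax hJle
  obtain ⟨b₀, hb₀⟩ := hPJ
  have htop : ∀ b, F.deg J b ≤ F.deg J b₀ := fun b => by
    rw [hb₀]
    exact hρ J b
  have h1 : ∀ b' : Fin (F.rk (J + 1)), F.deg (J + 1) b' ≤ F.deg J b₀ := by
    intro b'
    have h2 := hρ (J + 1) b'
    have h3 : F.deg (J + 1) b' ≠ ρ + ((J + 1 : ℕ) : ℤ) := fun h => hmax (J + 1) (Nat.lt_succ_self J) ⟨b', h⟩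
    rw [hb₀]
    push_cast at h2 h3
    omega
  have hX := XP k r J (r + 1 - J) (by omega) M ℳ F hF b₀ htop h1
  have hJ : J = ℓ := by
    by_contra hJ
    exact hX (van_ne_of_CM k r ℳ F hF ℓ hlen hne hCM (r + 1 - J) (by omega) _)
  subst hJ
  exact ⟨b₀, hb₀⟩

end poly

/-! ### the polynomial -/
section binom

open Polynomial Groth.Agent.Lib.GrSyz4H1 Groth.Agent.Lib.GrSyz3H1

theorem Q_eval_top (r : ℕ) (a d : ℤ) (h : d - a = -(r : ℤ) - 1) :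
    (Q r a).eval (d : ℚ) = (-1) ^ r := by
  rw [eval_Q, h]
  have e : (((-(r : ℤ) - 1 : ℤ) : ℚ) + 1) = -((r : ℕ) : ℚ) := by
    push_cast
    ring
  rw [e, ascPochhammer_eval_neg_eq_descPochhammer, descPochhammer_eval_eq_descFactorial,
    Nat.descFactorial_self, mul_div_assoc,
    div_self (Nat.cast_ne_zero.2 (Nat.factorial_ne_zero r)), mul_one]

end binom

/-! ### the statement -/
section final

open Polynomial Groth.Agent.Lib.GrSyz4H1 Groth.Agent.Lib.GrSyz3H1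

attribute [local instance] convDecomp conv_gsmul convGradedRing

variable (k : Type u) [Field k] (r : ℕ)
    (M : Type u) [AddCommGroup M] [Module k M] [Module (MvPolynomial (Fin (r + 1)) k) M]
    [IsScalarTower k (MvPolynomial (Fin (r + 1)) k) M]
    [Module.Finite (MvPolynomial (Fin (r + 1)) k) M]
    (ℳ : ℤ → Submodule k M) [DirectSum.Decomposition ℳ]
    [SetLike.GradedSMul (GrSyz.stdGr k (Fin (r + 1))) ℳ]

theorem main16324
    (hCM : Module.supportDim (MvPolynomial (Fin (r + 1)) k) M =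
      ((LocCoh.idealDepth (GrSyz.irrel (GrSyz.stdGr k (Fin (r + 1)))).toIdeal M : ℕ∞) :
        WithBot ℕ∞))
    (F : GrSyz.FreeRes (GrSyz.stdGr k (Fin (r + 1))) ℳ)
    (hF : F.IsMinimal (GrSyz.irrel (GrSyz.stdGr k (Fin (r + 1)))).toIdeal)
    (ℓ : ℕ) (hℓ : F.HasLengthLE ℓ) (hℓ' : F.rk ℓ ≠ 0)
    (ρ : ℤ) (hρ : F.IsGenLE ρ) (hρ' : ∃ (i : ℕ) (b : Fin (F.rk i)), F.deg i b = ρ + i)
    (P : Polynomial ℚ)
    (hP : ∃ d₁ : ℤ, ∀ d : ℤ, d₁ ≤ d →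
      ((Module.finrank k ↥(ℳ d) : ℤ) : ℚ) = P.eval (d : ℚ)) :
    ((Module.finrank k ↥(ℳ (ρ + ℓ - r - 1)) : ℤ) : ℚ) ≠
      P.eval ((ρ + ℓ - r - 1 : ℤ) : ℚ) := by
  classical
  obtain ⟨b₁, hb₁⟩ := top_attained k r (toAG ℳ) (convFree (GrSyz.stdGr k (Fin (r + 1))) ℳ F) hF ℓ
    hℓ hℓ' hCM ρ hρ hρ'
  have hb₁' : F.deg ℓ b₁ = ρ + ℓ := hb₁
  set PF : Polynomial ℚ := ∑ i ∈ Finset.range (ℓ + 1), Polynomial.C ((-1 : ℚ) ^ i) *
    ∑ b : Fin (F.rk i), Q r (F.deg i b) with hPF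
  have hfin : ∀ d : ℤ, ((Module.finrank k ↥(ℳ d) : ℤ) : ℚ) =
      ∑ i ∈ Finset.range (ℓ + 1), (-1 : ℚ) ^ i * ∑ b : Fin (F.rk i),
        ((hfun r d (F.deg i b) : ℤ) : ℚ) := by
    intro d
    rw [hilbert_hfun k r M ℳ F ℓ hℓ d]
    push_cast
    rfl
  have hPFe : ∀ d : ℤ, PF.eval (d : ℚ) =
      ∑ i ∈ Finset.range (ℓ + 1), (-1 : ℚ) ^ i * ∑ b : Fin (F.rk i),
        (Q r (F.deg i b)).eval (d : ℚ) := by
    intro d
    rw [hPF, Polynomial.eval_finsetSum]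
    refine Finset.sum_congr rfl (fun i _ => ?_)
    rw [Polynomial.eval_mul, Polynomial.eval_C, Polynomial.eval_finsetSum]
  have hdeg : ∀ (i : ℕ) (b : Fin (F.rk i)), i ≤ ℓ ∧ F.deg i b ≤ ρ + i := by
    intro i b
    refine ⟨?_, hρ i b⟩
    by_contra hi
    exact (Fin.cast (hℓ i (by omega)) b).elim0
  have hPFeval : ∀ d : ℤ, ρ + ℓ ≤ d → ((Module.finrank k ↥(ℳ d) : ℤ) : ℚ) = PF.eval (d : ℚ) := by
    intro d hd
    rw [hfin, hPFe]
    refine Finset.sum_congr rfl (fun i _ => ?_)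
    congr 1
    refine Finset.sum_congr rfl (fun b _ => ?_)
    apply hfun_eq_eval
    obtain ⟨h1, h2⟩ := hdeg i b
    have h3 : (i : ℤ) ≤ ℓ := by exact_mod_cast h1
    have h4 : (0 : ℤ) ≤ r := by positivity
    omega
  have hPeq : P = PF := by
    obtain ⟨d₁, hd₁⟩ := hP
    apply Polynomial.eq_of_infinite_eval_eq
    apply Set.infinite_of_injective_forall_mem
      (f := fun m : ℕ => (((max d₁ (ρ + ℓ) + (m : ℤ) : ℤ)) : ℚ))
    · intro a b hab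
      have hab' : (((max d₁ (ρ + ℓ) + (a : ℤ) : ℤ)) : ℚ) = (((max d₁ (ρ + ℓ) + (b : ℤ) : ℤ)) : ℚ) :=
        hab
      have h1 : (max d₁ (ρ + ℓ) + (a : ℤ) : ℤ) = max d₁ (ρ + ℓ) + (b : ℤ) := by
        exact_mod_cast hab'
      omega
    · intro m
      show P.eval _ = PF.eval _
      rw [← hd₁ _ (by have := le_max_left d₁ (ρ + ℓ); omega),
        ← hPFeval _ (by have := le_max_right d₁ (ρ + ℓ); omega)]
  rw [hPeq, hfin, hPFe, Finset.sum_range_succ, Finset.sum_range_succ]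
  have hlow : ∑ i ∈ Finset.range ℓ, (-1 : ℚ) ^ i * ∑ b : Fin (F.rk i),
        ((hfun r (ρ + ℓ - r - 1) (F.deg i b) : ℤ) : ℚ) =
      ∑ i ∈ Finset.range ℓ, (-1 : ℚ) ^ i * ∑ b : Fin (F.rk i),
        (Q r (F.deg i b)).eval ((ρ + ℓ - r - 1 : ℤ) : ℚ) := by
    refine Finset.sum_congr rfl (fun i hi => ?_)
    congr 1
    refine Finset.sum_congr rfl (fun b _ => ?_)
    apply hfun_eq_eval
    have h1 := Finset.mem_range.1 hi
    have h2 := hρ i b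
    have h3 : (i : ℤ) + 1 ≤ ℓ := by exact_mod_cast h1
    omega
  have htop : ∀ b : Fin (F.rk ℓ), (Q r (F.deg ℓ b)).eval ((ρ + ℓ - r - 1 : ℤ) : ℚ) -
      ((hfun r (ρ + ℓ - r - 1) (F.deg ℓ b) : ℤ) : ℚ) =
        if F.deg ℓ b = ρ + ℓ then (-1 : ℚ) ^ r else 0 := by
    intro b
    have h2 := hρ ℓ b
    by_cases hb : F.deg ℓ b = ρ + ℓ
    · have h4 : (0 : ℤ) ≤ r := by positivity
      have h5 : ¬ F.deg ℓ b ≤ ρ + ℓ - r - 1 := by
        rw [hb]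
        omega
      have h6 : (ρ + ℓ - r - 1 : ℤ) - F.deg ℓ b = -(r : ℤ) - 1 := by
        rw [hb]
        ring
      rw [if_pos hb, Q_eval_top r _ _ h6, hfun, if_neg h5]
      simp
    · rw [if_neg hb, hfun_eq_eval r _ _ (by omega), sub_self]
  rw [hlow]
  intro heq
  have h5 : (-1 : ℚ) ^ ℓ * ∑ b : Fin (F.rk ℓ), ((Q r (F.deg ℓ b)).eval ((ρ + ℓ - r - 1 : ℤ) : ℚ) -
      ((hfun r (ρ + ℓ - r - 1) (F.deg ℓ b) : ℤ) : ℚ)) = 0 := by
    rw [Finset.sum_sub_distrib, mul_sub]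
    linarith
  simp only [htop] at h5
  rw [Finset.sum_ite, Finset.sum_const_zero, add_zero, Finset.sum_const, nsmul_eq_mul] at h5
  have h6 : ((Finset.univ.filter (fun b : Fin (F.rk ℓ) => F.deg ℓ b = ρ + ℓ)).card : ℚ) ≠ 0 := by
    rw [Nat.cast_ne_zero]
    exact Finset.card_ne_zero.2 ⟨b₁, Finset.mem_filter.2 ⟨Finset.mem_univ _, hb₁'⟩⟩
  exact (mul_ne_zero (pow_ne_zero ℓ (by norm_num)) (mul_ne_zero h6 (pow_ne_zero r (by norm_num)))) h5

end final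

end Groth.Agent.Lib.GrEG10H1
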