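import Mathlib
import Groth.Agent.Lib.GenFreeG_helper8
import Groth.Agent.Lib.GenFreeE_helper8
import Groth.Agent.Lib.NormFlat_helper3

/-!
# Generic flatness of the graded pieces of an adic filtration, part 1 (helper8)

APPEND-ONLY once landed.
-/

set_option autoImplicit false
open TensorProduct

namespace Groth.Agent.Lib.GrFlatH8

universe u

section Abs

/-- Generic flatness for a family of retracts of a finite module over a finite type algebra. -/
theorem exists_flat_of_retract {R : Type u} [CommRing R] [IsDomain R] (S : Type u) [CommRing S]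
    [Algebra R S] [Algebra.FiniteType R S] {T : Type u} [AddCommGroup T] [Module S T] [Module R T]
    [IsScalarTower R S T] [Module.Finite S T] {X : ℕ → Type u} [∀ n, AddCommGroup (X n)] [∀ n, Module R (X n)]
    (ι : ∀ n, X n →ₗ[R] T) (π : ∀ n, T →ₗ[R] X n) (hπι : ∀ n x, π n (ι n x) = x) :
    ∃ a : R, a ≠ 0 ∧ ∀ (A : Type u) [CommRing A] [Algebra R A] (h : R)
      [IsLocalization.Away (a * h) A] (n : ℕ), Module.Flat A (A ⊗[R] X n) := by
  obtain ⟨a, ha, hG, -⟩ := GenFreeH8.main (R := R) (S := S) T
  refine ⟨a, ha, ?_⟩
  intro A _ _ h _ n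
  have hG' : GenFreeH8.GFW R T (a * h) := hG.mono h
  haveI : Module.Free A (A ⊗[R] T) := hG'.free (TensorProduct.mk R A T 1)
  have h2 : ((π n).baseChange A) ∘ₗ ((ι n).baseChange A) = LinearMap.id := by
    rw [← LinearMap.baseChange_comp]
    have : π n ∘ₗ ι n = LinearMap.id := LinearMap.ext (hπι n)
    rw [this, LinearMap.baseChange_id]
  haveI : Module.Projective A (A ⊗[R] X n) := Module.Projective.of_split _ _ h2
  infer_instance

end Abs

section Conc

open Groth.Agent.Lib.NormFlatH3

/-- **Generic flatness of the graded pieces** `J^n N / J^{n+1} N` over a Noetherian domain `R`,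
for `N` finite over a finite type `R`-algebra `B`. -/
theorem exists_flat_X {R : Type u} [CommRing R] [IsDomain R] [IsNoetherianRing R]
    {B : Type u} [CommRing B] [Algebra R B] [Algebra.FiniteType R B] (J : Ideal B)
    (N : Type u) [AddCommGroup N] [Module B N] [Module R N] [IsScalarTower R B N]
    [Module.Finite B N] :
    ∃ a : R, a ≠ 0 ∧ ∀ (A : Type u) [CommRing A] [Algebra R A] (h : R)
      [IsLocalization.Away (a * h) A] (n : ℕ), Module.Flat A (A ⊗[R] X J N n) := by
  haveI : IsNoetherianRing B := Algebra.FiniteType.isNoetherianRing R B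
  letI algRA : Algebra R (RA J) := ((algebraMap B (RA J)).comp (algebraMap R B)).toAlgebra
  haveI : IsScalarTower R B (RA J) := IsScalarTower.of_algebraMap_eq fun _ => rfl
  haveI : Algebra.FiniteType B (RA J) := finiteType_RA J
  haveI : Algebra.FiniteType R (RA J) := Algebra.FiniteType.trans ‹_› ‹_›
  haveI : Algebra.FiniteType R (SS J) :=
    Algebra.FiniteType.of_surjective (Ideal.Quotient.mkₐ R (JJ J))
      (Ideal.Quotient.mkₐ_surjective R (JJ J))
  letI : Module R (TT J N) := Module.compHom (TT J N) (algebraMap R B)
  haveI : IsScalarTower R B (TT J N) := ⟨fun x y z => by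
    change (x • y) • z = algebraMap R B x • (y • z)
    rw [Algebra.smul_def, mul_smul]⟩
  haveI := towerTT'' J N
  haveI : IsScalarTower R (SS J) (TT J N) := by
    refine IsScalarTower.of_algebraMap_smul fun r t => ?_
    induction t using Submodule.Quotient.induction_on with
    | H y =>
      change (Ideal.Quotient.mk (JJ J) (algebraMap B (RA J) (algebraMap R B r))) •
        (Submodule.Quotient.mk y : TT J N) = algebraMap R B r • (Submodule.Quotient.mk y : TT J N)
      rw [Module.Quotient.mk_smul_mk, algebraMap_smul, Submodule.Quotient.mk_smul]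
  haveI : Module.Finite (RA J) ↥(NN J N) := Module.Finite.iff_fg.2 (NN_fg J N)
  haveI : Module.Finite (RA J) (TT J N) := inferInstance
  haveI : Module.Finite (SS J) (TT J N) :=
    Module.Finite.of_restrictScalars_finite (RA J) (SS J) (TT J N)
  exact exists_flat_of_retract (SS J) (T := TT J N) (X := X J N)
    (fun n => (ιA J N n).restrictScalars R) (fun n => (πA J N n).restrictScalars R)
    (fun n x => πA_ιA J N n x)

end Conc

end Groth.Agent.Lib.GrFlatH8
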