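import Mathlib

/-!
# Generic flatness of the graded pieces of an adic filtration, part 2: flat base change of
subquotients (helper8)

APPEND-ONLY once landed.
-/

set_option autoImplicit false
open TensorProduct

namespace Groth.Agent.Lib.GrFlatH8

universe u

section General

variable {R A : Type*} [CommRing R] [CommRing A] [Algebra R A]
  {V : Type*} [AddCommGroup V] [Module R V]

/-- the image of `A ⊗ P → A ⊗ V` is the `A`-span of the pure tensors `1 ⊗ p`. -/
theorem range_baseChange_subtype (P : Submodule R V) :
    LinearMap.range (LinearMap.baseChange A P.subtype) =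
      Submodule.span A ((TensorProduct.mk R A V 1) '' (P : Set V)) := by
  apply le_antisymm
  · rintro _ ⟨x, rfl⟩
    induction x using TensorProduct.induction_on with
    | zero => simp
    | add x y hx hy => rw [map_add]; exact Submodule.add_mem _ hx hy
    | tmul a p =>
      rw [LinearMap.baseChange_tmul]
      have : a ⊗ₜ[R] (P.subtype p) = a • ((1 : A) ⊗ₜ[R] (p : V)) := by
        rw [TensorProduct.smul_tmul', smul_eq_mul, mul_one]
        rfl
      rw [this]
      exact Submodule.smul_mem _ _ (Submodule.subset_span ⟨p, p.2, rfl⟩)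
  · rw [Submodule.span_le]
    rintro _ ⟨p, hp, rfl⟩
    exact ⟨(1 : A) ⊗ₜ[R] (⟨p, hp⟩ : P), by simp⟩

/-- pure tensors of an `R`-span -/
theorem span_mk_image_span (S : Set V) :
    Submodule.span A ((TensorProduct.mk R A V 1) '' (Submodule.span R S : Set V)) =
      Submodule.span A ((TensorProduct.mk R A V 1) '' S) := by
  apply le_antisymm
  · rw [Submodule.span_le]
    rintro _ ⟨y, hy, rfl⟩
    induction hy using Submodule.span_induction with
    | mem x hx => exact Submodule.subset_span ⟨x, hx, rfl⟩
    | zero => simp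
    | add x y _ _ hx hy => rw [map_add]; exact Submodule.add_mem _ hx hy
    | smul r x _ hx =>
      have : (TensorProduct.mk R A V 1) (r • x) = (algebraMap R A r) • (TensorProduct.mk R A V 1 x) := by
        rw [map_smul, algebraMap_smul]
      rw [this]
      exact Submodule.smul_mem _ _ hx
  · exact Submodule.span_mono (Set.image_mono Submodule.subset_span)

end General

section Transport

variable {A : Type*} [CommRing A] {W W' : Type*} [AddCommGroup W] [Module A W]
  [AddCommGroup W'] [Module A W']

/-- transport of a subquotient along a linear equivalence -/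
noncomputable def subquotEquiv (e : W ≃ₗ[A] W') (Q₁ Q₀ : Submodule A W) :
    ↥(Submodule.map Q₁.mkQ Q₀) ≃ₗ[A]
      ↥(Submodule.map (Submodule.map e.toLinearMap Q₁).mkQ (Submodule.map e.toLinearMap Q₀)) := by
  let θ : (W ⧸ Q₁) ≃ₗ[A] (W' ⧸ Submodule.map e.toLinearMap Q₁) :=
    Submodule.Quotient.equiv Q₁ (Submodule.map e.toLinearMap Q₁) e rfl
  have h : Submodule.map θ.toLinearMap (Submodule.map Q₁.mkQ Q₀) =
      Submodule.map (Submodule.map e.toLinearMap Q₁).mkQ (Submodule.map e.toLinearMap Q₀) := by
    rw [← Submodule.map_comp, ← Submodule.map_comp]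
    congr 1
  exact (θ.submoduleMap (Submodule.map Q₁.mkQ Q₀)).trans (LinearEquiv.ofEq _ _ h)

end Transport

section Flat

variable {R A : Type*} [CommRing R] [CommRing A] [Algebra R A]
  {V : Type*} [AddCommGroup V] [Module R V]

theorem ker_baseChange_mkQ (P : Submodule R V) :
    LinearMap.ker (LinearMap.baseChange A P.mkQ) =
      LinearMap.range (LinearMap.baseChange A P.subtype) := by
  ext x
  have h1 := lTensor_mkQ (R := R) A P
  have h2 : x ∈ LinearMap.ker (LinearMap.lTensor A P.mkQ) ↔
      x ∈ LinearMap.range (LinearMap.lTensor A P.subtype) := by rw [h1]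
  simp only [LinearMap.mem_ker, LinearMap.mem_range] at h2 ⊢
  simp only [← LinearMap.baseChange_eq_ltensor] at h2
  exact h2

theorem baseChange_surjective {V' : Type*} [AddCommGroup V'] [Module R V'] (f : V →ₗ[R] V')
    (hf : Function.Surjective f) : Function.Surjective (LinearMap.baseChange A f) := by
  rw [LinearMap.baseChange_eq_ltensor]
  exact LinearMap.lTensor_surjective A hf

theorem baseChange_injective_of_flat [Module.Flat R A] {V' : Type*} [AddCommGroup V']
    [Module R V'] (f : V →ₗ[R] V') (hf : Function.Injective f) :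
    Function.Injective (LinearMap.baseChange A f) := by
  rw [LinearMap.baseChange_eq_ltensor]
  exact Module.Flat.lTensor_preserves_injective_linearMap f hf

/-- **Flat base change of a subquotient.** -/
noncomputable def flatSubquotEquiv [Module.Flat R A] (P₁ P₀ : Submodule R V) :
    ↥(Submodule.map (LinearMap.range (LinearMap.baseChange A P₁.subtype)).mkQ
        (LinearMap.range (LinearMap.baseChange A P₀.subtype))) ≃ₗ[A]
      A ⊗[R] ↥(Submodule.map P₁.mkQ P₀) := by
  let σ : A ⊗[R] V →ₗ[A] A ⊗[R] (V ⧸ P₁) := LinearMap.baseChange A P₁.mkQ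
  have hσs : Function.Surjective σ := baseChange_surjective _ P₁.mkQ_surjective
  have hσk : LinearMap.range (LinearMap.baseChange A P₁.subtype) = LinearMap.ker σ :=
    (ker_baseChange_mkQ P₁).symm
  let θ : ((A ⊗[R] V) ⧸ LinearMap.range (LinearMap.baseChange A P₁.subtype)) ≃ₗ[A]
      A ⊗[R] (V ⧸ P₁) :=
    (Submodule.quotEquivOfEq _ _ hσk).trans (σ.quotKerEquivOfSurjective hσs)
  have hθ : θ.toLinearMap ∘ₗ (LinearMap.range (LinearMap.baseChange A P₁.subtype)).mkQ = σ := by
    ext x
    rfl
  let ψ : A ⊗[R] ↥(Submodule.map P₁.mkQ P₀) →ₗ[A] A ⊗[R] (V ⧸ P₁) :=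
    LinearMap.baseChange A (Submodule.map P₁.mkQ P₀).subtype
  have hψ : Function.Injective ψ :=
    baseChange_injective_of_flat _ (Submodule.map P₁.mkQ P₀).injective_subtype
  let γ : P₀ →ₗ[R] ↥(Submodule.map P₁.mkQ P₀) := P₁.mkQ.submoduleMap P₀
  have hγ : Function.Surjective γ := P₁.mkQ.submoduleMap_surjective P₀
  have hcomm : ψ ∘ₗ LinearMap.baseChange A γ = σ ∘ₗ LinearMap.baseChange A P₀.subtype := by
    rw [← LinearMap.baseChange_comp, ← LinearMap.baseChange_comp]
    rfl
  have hr : Submodule.map θ.toLinearMap
      (Submodule.map (LinearMap.range (LinearMap.baseChange A P₁.subtype)).mkQ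
        (LinearMap.range (LinearMap.baseChange A P₀.subtype))) = LinearMap.range ψ := by
    rw [← Submodule.map_comp, hθ, ← LinearMap.range_comp, ← hcomm,
      LinearMap.range_comp_of_range_eq_top]
    exact LinearMap.range_eq_top.2 (baseChange_surjective γ hγ)
  exact (θ.submoduleMap _).trans ((LinearEquiv.ofEq _ _ hr).trans
    (LinearEquiv.ofInjective ψ hψ).symm)

end Flat

end Groth.Agent.Lib.GrFlatH8
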