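import Mathlib
import Groth.Agent.Lib.NormFlat_helper3
import Groth.Agent.Lib.GrFlat1_helper8
import Groth.Agent.Lib.GrFlat2_helper8
import Groth.Agent.Lib.ConsExact2_helper8

/-!
# Generic flatness of the graded pieces of an adic filtration, part 3: dictionary (helper8)

APPEND-ONLY once landed.
-/

set_option autoImplicit false
open TensorProduct

namespace Groth.Agent.Lib.GrFlatH8

universe u

open Groth.Agent.Lib.NormFlatH3

section XEquiv

variable {R : Type u} [CommRing R] {B : Type u} [CommRing B] [Algebra R B] (J : Ideal B)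
  (N : Type u) [AddCommGroup N] [Module B N] [Module R N] [IsScalarTower R B N]

theorem mem_smul_top_P (n : ℕ) (x : ↥(P J N n)) :
    x ∈ (J • ⊤ : Submodule B ↥(P J N n)) ↔ (x : N) ∈ P J N (n + 1) := by
  have h1 : Submodule.map (P J N n).subtype (J • ⊤ : Submodule B ↥(P J N n)) = P J N (n + 1) := by
    rw [Submodule.map_smul'', Submodule.map_subtype_top]
    change J • (J ^ n • (⊤ : Submodule B N)) = J ^ (n + 1) • (⊤ : Submodule B N)
    rw [pow_succ', mul_smul]
  rw [← h1]
  constructor
  · intro hx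
    exact ⟨x, hx, rfl⟩
  · rintro ⟨y, hy, hyx⟩
    have : y = x := Subtype.ext hyx
    rw [← this]; exact hy

/-- the graded piece `J^n N / J^{n+1} N` in the two presentations -/
noncomputable def XEquiv (n : ℕ) :
    X J N n ≃ₗ[R] ↥(Submodule.map ((P J N (n + 1)).restrictScalars R).mkQ
      ((P J N n).restrictScalars R)) := by
  let μ : ↥(P J N n) →ₗ[R] N ⧸ (P J N (n + 1)).restrictScalars R :=
    ((P J N (n + 1)).restrictScalars R).mkQ ∘ₗ ((P J N n).subtype.restrictScalars R)
  have hker : ((J • ⊤ : Submodule B ↥(P J N n)).restrictScalars R) = LinearMap.ker μ := by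
    ext x
    rw [Submodule.restrictScalars_mem, mem_smul_top_P, LinearMap.mem_ker]
    change _ ↔ Submodule.Quotient.mk (x : N) = 0
    rw [Submodule.Quotient.mk_eq_zero, Submodule.restrictScalars_mem]
  have hrange : LinearMap.range μ = Submodule.map ((P J N (n + 1)).restrictScalars R).mkQ
      ((P J N n).restrictScalars R) := by
    rw [LinearMap.range_comp]
    congr 1
    ext x
    simp
  exact ((Submodule.Quotient.restrictScalarsEquiv R (J • ⊤ : Submodule B ↥(P J N n))).symm.trans
    (Submodule.quotEquivOfEq _ _ hker)).trans (μ.quotKerEquivRange.trans (LinearEquiv.ofEq _ _ hrange))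

end XEquiv

section Aux

variable {A₀ B₀ Ab Bb : Type u} [CommRing A₀] [CommRing B₀] [CommRing Ab] [CommRing Bb]
  [Algebra A₀ Ab] [Algebra A₀ B₀] [Algebra A₀ Bb] [Algebra Ab Bb] [Algebra B₀ Bb]
  [IsScalarTower A₀ Ab Bb] [IsScalarTower A₀ B₀ Bb]
  {M₀ : Type u} [AddCommGroup M₀] [Module B₀ M₀] [Module A₀ M₀] [IsScalarTower A₀ B₀ M₀]
  {Nb : Type u} [AddCommGroup Nb] [Module Bb Nb] [Module B₀ Nb] [IsScalarTower B₀ Bb Nb]
  [Module Ab Nb] [IsScalarTower Ab Bb Nb] [Module A₀ Nb] [IsScalarTower A₀ Ab Nb]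
  [IsScalarTower A₀ B₀ Nb]

omit [Algebra A₀ Bb] [IsScalarTower A₀ Ab Bb] [IsScalarTower A₀ B₀ Bb] in
/-- the extended ideal times the base-changed module is spanned by the image -/
theorem map_smul_top_eq_span (f : M₀ →ₗ[B₀] Nb) (hb : IsBaseChange Ab (f.restrictScalars A₀))
    (I₀ : Ideal B₀) :
    ((I₀.map (algebraMap B₀ Bb)) • (⊤ : Submodule Bb Nb)).restrictScalars Ab =
      Submodule.span Ab ((f.restrictScalars A₀) '' ((I₀ • (⊤ : Submodule B₀ M₀) :
        Submodule B₀ M₀) : Set M₀)) := by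
  have hcomm : ∀ (a : Ab) (b : B₀) (x : Nb), a • b • x = b • a • x := by
    intro a b x
    rw [← algebraMap_smul Bb a (b • x), ← algebraMap_smul Bb b x, ← algebraMap_smul Bb a x,
      ← algebraMap_smul Bb b, smul_comm]
  apply le_antisymm
  · intro x hx
    rw [Submodule.restrictScalars_mem] at hx
    have hx' : x ∈ ((I₀.map (algebraMap B₀ Bb)) • (⊤ : Submodule Bb Nb)).restrictScalars B₀ := hx
    rw [Ideal.smul_restrictScalars, Submodule.restrictScalars_top] at hx'
    refine Submodule.smul_induction_on hx' ?_ ?_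
    · intro r hr y _
      refine hb.inductionOn y _ ?_ ?_ ?_ ?_
      · rw [smul_zero]; exact Submodule.zero_mem _
      · intro m
        refine Submodule.subset_span ⟨r • m, Submodule.smul_mem_smul hr Submodule.mem_top, ?_⟩
        simp
      · intro a y' hy'
        rw [← hcomm]
        exact Submodule.smul_mem _ _ hy'
      · intro y₁ y₂ h₁ h₂
        rw [smul_add]; exact Submodule.add_mem _ h₁ h₂
    · intro y₁ y₂ h₁ h₂
      exact Submodule.add_mem _ h₁ h₂
  · rw [Submodule.span_le]
    rintro _ ⟨m, hm, rfl⟩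
    rw [SetLike.mem_coe, Submodule.restrictScalars_mem]
    refine Submodule.smul_induction_on hm ?_ ?_
    · intro r hr m' _
      have : (f.restrictScalars A₀) (r • m') = algebraMap B₀ Bb r • f m' := by
        rw [LinearMap.restrictScalars_apply, map_smul, algebraMap_smul]
      rw [this]
      exact Submodule.smul_mem_smul (Ideal.mem_map_of_mem _ hr) Submodule.mem_top
    · intro m₁ m₂ h₁ h₂
      rw [map_add]; exact Submodule.add_mem _ h₁ h₂

/-- **Local lemma, abstract form.** -/
theorem local_aux [IsDomain Ab] [IsNoetherianRing Ab] [Algebra.FiniteType Ab Bb]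
    [Module.Finite Bb Nb] [Algebra.IsPushout A₀ Ab B₀ Bb]
    (f : M₀ →ₗ[B₀] Nb) (hf : IsBaseChange Bb f) (J₀ : Ideal B₀) :
    ∃ a : Ab, a ≠ 0 ∧ ∀ (A : Type u) [CommRing A] [Algebra Ab A] [Algebra A₀ A]
      [IsScalarTower A₀ Ab A] (h : Ab) [IsLocalization.Away (a * h) A] (n : ℕ),
      Module.Flat A ↥(Submodule.map
            (LinearMap.range (LinearMap.baseChange A
              ((J₀ ^ (n + 1) • (⊤ : Submodule B₀ M₀)).restrictScalars A₀).subtype)).mkQ
            (LinearMap.range (LinearMap.baseChange A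
              ((J₀ ^ n • (⊤ : Submodule B₀ M₀)).restrictScalars A₀).subtype))) := by
  obtain ⟨a, ha, H⟩ := exists_flat_X (R := Ab) (B := Bb) (J₀.map (algebraMap B₀ Bb)) Nb
  refine ⟨a, ha, ?_⟩
  intro A _ _ _ _ h _ n
  haveI hflatX := H A h n
  haveI : Module.Flat Ab A := IsLocalization.flat A (Submonoid.powers (a * h))
  have hb : IsBaseChange Ab (f.restrictScalars A₀) :=
    Groth.Agent.Lib.ConsExactH8.isBaseChange_of_isPushout hf
  have hA := hb.comp (TensorProduct.isBaseChange Ab Nb A)
  set e : A ⊗[A₀] M₀ ≃ₗ[A] A ⊗[Ab] Nb := hA.equiv with he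
  -- the key identification of the filtration steps
  have key : ∀ k : ℕ, Submodule.map e.toLinearMap
      (LinearMap.range (LinearMap.baseChange A
        ((J₀ ^ k • (⊤ : Submodule B₀ M₀)).restrictScalars A₀).subtype)) =
      LinearMap.range (LinearMap.baseChange A
        ((P (J₀.map (algebraMap B₀ Bb)) Nb k).restrictScalars Ab).subtype) := by
    intro k
    rw [range_baseChange_subtype, range_baseChange_subtype, Submodule.map_span]
    have h1 : (P (J₀.map (algebraMap B₀ Bb)) Nb k).restrictScalars Ab =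
        Submodule.span Ab ((f.restrictScalars A₀) '' ((J₀ ^ k • (⊤ : Submodule B₀ M₀) :
          Submodule B₀ M₀) : Set M₀)) := by
      rw [← map_smul_top_eq_span (Bb := Bb) f hb (J₀ ^ k), Ideal.map_pow]
    rw [h1, span_mk_image_span, ← Set.image_comp, ← Set.image_comp]
    congr 1
    apply Set.image_congr
    intro m _
    simp only [Function.comp_apply, LinearEquiv.coe_coe, he]
    rw [TensorProduct.mk_apply, IsBaseChange.equiv_tmul, one_smul]
    rfl
  have e1 := subquotEquiv e
    (LinearMap.range (LinearMap.baseChange A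
      ((J₀ ^ (n + 1) • (⊤ : Submodule B₀ M₀)).restrictScalars A₀).subtype))
    (LinearMap.range (LinearMap.baseChange A
      ((J₀ ^ n • (⊤ : Submodule B₀ M₀)).restrictScalars A₀).subtype))
  rw [key (n + 1), key n] at e1
  have e2 := flatSubquotEquiv (A := A)
    ((P (J₀.map (algebraMap B₀ Bb)) Nb (n + 1)).restrictScalars Ab)
    ((P (J₀.map (algebraMap B₀ Bb)) Nb n).restrictScalars Ab)
  have e3 := (XEquiv (R := Ab) (B := Bb) (J₀.map (algebraMap B₀ Bb)) Nb n).baseChange Ab A
  exact Module.Flat.of_linearEquiv ((e1.trans e2).trans e3.symm)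

end Aux

section Conc

attribute [local instance] Algebra.TensorProduct.rightAlgebra

/-- **Local lemma**: generic flatness of the graded pieces over a Noetherian domain `Ab` over
`A₀` (typically `A₀ ⧸ 𝔭`). -/
theorem local_lemma {A₀ : Type u} [CommRing A₀] {B₀ : Type u} [CommRing B₀]
    [Algebra A₀ B₀] [Algebra.FiniteType A₀ B₀] (J₀ : Ideal B₀) (M₀ : Type u) [AddCommGroup M₀]
    [Module B₀ M₀] [Module A₀ M₀] [IsScalarTower A₀ B₀ M₀] [Module.Finite B₀ M₀]
    (Ab : Type u) [CommRing Ab] [IsDomain Ab] [IsNoetherianRing Ab] [Algebra A₀ Ab] :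
    ∃ a : Ab, a ≠ 0 ∧ ∀ (A : Type u) [CommRing A] [Algebra Ab A] [Algebra A₀ A]
      [IsScalarTower A₀ Ab A] (h : Ab) [IsLocalization.Away (a * h) A] (n : ℕ),
      Module.Flat A ↥(Submodule.map
            (LinearMap.range (LinearMap.baseChange A
              ((J₀ ^ (n + 1) • (⊤ : Submodule B₀ M₀)).restrictScalars A₀).subtype)).mkQ
            (LinearMap.range (LinearMap.baseChange A
              ((J₀ ^ n • (⊤ : Submodule B₀ M₀)).restrictScalars A₀).subtype))) :=
  local_aux (Ab := Ab) (Bb := Ab ⊗[A₀] B₀)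
    (Nb := (Ab ⊗[A₀] B₀) ⊗[B₀] M₀)
    (TensorProduct.mk B₀ (Ab ⊗[A₀] B₀) M₀ 1)
    (TensorProduct.isBaseChange B₀ M₀ (Ab ⊗[A₀] B₀)) J₀

end Conc

end Groth.Agent.Lib.GrFlatH8
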