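import Mathlib

/-!
# A generic affine stratification principle over a Noetherian ring (helper8)

APPEND-ONLY once landed.
-/

set_option autoImplicit false
open TensorProduct AlgebraicGeometry CategoryTheory

namespace Groth.Agent.Lib.GrFlatH8

universe u

section Strat

variable (A₀ : Type u) [CommRing A₀]

/-- a bundled `A₀`-algebra -/
structure Stratum where
  A : Type u
  [cr : CommRing A]
  [alg : Algebra A₀ A]

attribute [instance] Stratum.cr Stratum.alg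

variable {A₀}

/-- the image of the spectrum of a stratum -/
abbrev Stratum.rng (s : Stratum A₀) : Set (PrimeSpectrum A₀) :=
  Set.range (Spec.map (CommRingCat.ofHom (algebraMap A₀ s.A)))

theorem mem_rng_iff (s : Stratum A₀) (x : PrimeSpectrum A₀) :
    x ∈ s.rng ↔ ∃ y : PrimeSpectrum s.A, PrimeSpectrum.comap (algebraMap A₀ s.A) y = x :=
  Iff.rfl

/-- the range of `Spec (A₀/𝔭)_x → Spec A₀` -/
theorem rng_locQuot (𝔭 : Ideal A₀) (g : A₀) :
    (Stratum.mk (A₀ := A₀) (Localization.Away (Ideal.Quotient.mk 𝔭 g))).rng =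
      {x | 𝔭 ≤ x.asIdeal ∧ g ∉ x.asIdeal} := by
  ext x
  rw [mem_rng_iff]
  have hcomp : ∀ y : PrimeSpectrum (Localization.Away (Ideal.Quotient.mk 𝔭 g)),
      PrimeSpectrum.comap (algebraMap A₀ (Localization.Away (Ideal.Quotient.mk 𝔭 g))) y =
      PrimeSpectrum.comap (algebraMap A₀ (A₀ ⧸ 𝔭)) (PrimeSpectrum.comap
        (algebraMap (A₀ ⧸ 𝔭) (Localization.Away (Ideal.Quotient.mk 𝔭 g))) y) := by
    intro y
    rw [IsScalarTower.algebraMap_eq A₀ (A₀ ⧸ 𝔭) (Localization.Away (Ideal.Quotient.mk 𝔭 g))]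
    rfl
  have hr1 := PrimeSpectrum.localization_away_comap_range
    (Localization.Away (Ideal.Quotient.mk 𝔭 g)) (Ideal.Quotient.mk 𝔭 g)
  have hr2 := range_comap_of_surjective (A₀ ⧸ 𝔭) (algebraMap A₀ (A₀ ⧸ 𝔭))
    Ideal.Quotient.mk_surjective
  rw [Ideal.Quotient.algebraMap_eq, Ideal.mk_ker] at hr2
  constructor
  · rintro ⟨y, rfl⟩
    rw [hcomp]
    set z := PrimeSpectrum.comap
        (algebraMap (A₀ ⧸ 𝔭) (Localization.Away (Ideal.Quotient.mk 𝔭 g))) y with hz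
    have hz1 : z ∈ (PrimeSpectrum.basicOpen (Ideal.Quotient.mk 𝔭 g) :
        Set (PrimeSpectrum (A₀ ⧸ 𝔭))) := by
      rw [← hr1]; exact ⟨y, rfl⟩
    have hz2 : PrimeSpectrum.comap (algebraMap A₀ (A₀ ⧸ 𝔭)) z ∈ PrimeSpectrum.zeroLocus (𝔭 : Set A₀) := by
      rw [← hr2]; exact ⟨z, rfl⟩
    refine ⟨fun a ha => hz2 ha, ?_⟩
    intro hg
    exact hz1 hg
  · rintro ⟨h1, h2⟩
    have hx : x ∈ PrimeSpectrum.zeroLocus (𝔭 : Set A₀) := fun a ha => h1 ha
    rw [← hr2] at hx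
    obtain ⟨z, rfl⟩ := hx
    have hz1 : z ∈ (PrimeSpectrum.basicOpen (Ideal.Quotient.mk 𝔭 g) :
        Set (PrimeSpectrum (A₀ ⧸ 𝔭))) := h2
    rw [← hr1] at hz1
    obtain ⟨y, rfl⟩ := hz1
    exact ⟨y, hcomp y⟩

theorem isImmersion_locQuot (𝔭 : Ideal A₀) (x : A₀ ⧸ 𝔭) :
    IsImmersion (Spec.map (CommRingCat.ofHom (algebraMap A₀ (Localization.Away x)))) := by
  have h : algebraMap A₀ (Localization.Away x) =
      (algebraMap (A₀ ⧸ 𝔭) (Localization.Away x)).comp (algebraMap A₀ (A₀ ⧸ 𝔭)) :=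
    IsScalarTower.algebraMap_eq _ _ _
  rw [h, CommRingCat.ofHom_comp, Spec.map_comp]
  haveI : IsClosedImmersion (Spec.map (CommRingCat.ofHom (algebraMap A₀ (A₀ ⧸ 𝔭)))) :=
    IsClosedImmersion.spec_of_surjective _ Ideal.Quotient.mk_surjective
  infer_instance

/-- **Generic affine stratification**: if a property `good` of `A₀`-algebras holds generically on
every integral closed subscheme (for all small enough principal localizations of `A₀ ⧸ 𝔭`), then
`Spec A₀` has a finite stratification by affine locally closed strata which are all `good`. -/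
theorem exists_strat [IsNoetherianRing A₀]
    (good : ∀ (A : Type u) [CommRing A] [Algebra A₀ A], Prop)
    (H : ∀ (𝔭 : Ideal A₀) [𝔭.IsPrime], ∃ a : A₀ ⧸ 𝔭, a ≠ 0 ∧
      ∀ h : A₀ ⧸ 𝔭, good (Localization.Away (a * h)))
    (I : Ideal A₀) :
    ∃ (m : ℕ) (s : Fin m → Stratum A₀),
      (∀ i, IsImmersion (Spec.map (CommRingCat.ofHom (algebraMap A₀ (s i).A)))) ∧
      (∀ i j, i ≠ j → Disjoint (s i).rng (s j).rng) ∧
      (⋃ i, (s i).rng = PrimeSpectrum.zeroLocus (I : Set A₀)) ∧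
      (∀ i, ∃ U : Set (PrimeSpectrum A₀), IsOpen U ∧
        U ∩ (⋃ j, ⋃ (_ : i ≤ j), (s j).rng) = (s i).rng) ∧
      ∀ i, good (s i).A := by
  refine IsNoetherian.induction (P := fun I : Ideal A₀ => ∃ (m : ℕ) (s : Fin m → Stratum A₀),
      (∀ i, IsImmersion (Spec.map (CommRingCat.ofHom (algebraMap A₀ (s i).A)))) ∧
      (∀ i j, i ≠ j → Disjoint (s i).rng (s j).rng) ∧
      (⋃ i, (s i).rng = PrimeSpectrum.zeroLocus (I : Set A₀)) ∧
      (∀ i, ∃ U : Set (PrimeSpectrum A₀), IsOpen U ∧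
        U ∩ (⋃ j, ⋃ (_ : i ≤ j), (s j).rng) = (s i).rng) ∧
      ∀ i, good (s i).A) (fun (I : Ideal A₀) IH => ?_) I
  by_cases hI : I = ⊤
  · subst hI
    refine ⟨0, Fin.elim0, fun i => i.elim0, fun i => i.elim0, ?_, fun i => i.elim0,
      fun i => i.elim0⟩
    simp
  · obtain ⟨𝔭, h𝔭⟩ := Ideal.nonempty_minimalPrimes hI
    haveI h𝔭prime : 𝔭.IsPrime := h𝔭.1.1
    have hI𝔭 : I ≤ 𝔭 := h𝔭.1.2
    have hfin := Ideal.finite_minimalPrimes_of_isNoetherianRing A₀ I
    obtain ⟨h', hh'𝔭, hh'⟩ : ∃ h' : A₀, h' ∉ 𝔭 ∧ ∀ 𝔮 ∈ I.minimalPrimes, 𝔮 ≠ 𝔭 → h' ∈ 𝔮 := by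
      classical
      by_contra hcon
      simp only [not_exists, not_and] at hcon
      have hle : (hfin.toFinset.erase 𝔭).inf id ≤ 𝔭 := by
        intro x hx
        by_contra hx𝔭
        apply hcon x hx𝔭
        intro 𝔮 h𝔮 hne
        have h1 : (hfin.toFinset.erase 𝔭).inf id ≤ 𝔮 :=
          Finset.inf_le (f := id) (Finset.mem_erase.2 ⟨hne, hfin.mem_toFinset.2 h𝔮⟩)
        exact h1 hx
      obtain ⟨𝔮, h𝔮, h𝔮𝔭⟩ := (Ideal.IsPrime.inf_le' h𝔭prime).1 hle
      rw [Finset.mem_erase, Set.Finite.mem_toFinset] at h𝔮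
      exact h𝔮.1 (le_antisymm h𝔮𝔭 (h𝔭.2 h𝔮.2.1 h𝔮𝔭))
    obtain ⟨a, ha, Hgood⟩ := H 𝔭
    obtain ⟨g, rfl⟩ := Ideal.Quotient.mk_surjective a
    have hg𝔭 : g ∉ 𝔭 := fun h => ha (Ideal.Quotient.eq_zero_iff_mem.2 h)
    have hgh : g * h' ∉ 𝔭 := fun h => (h𝔭prime.mem_or_mem h).elim hg𝔭 hh'𝔭
    set s₀ : Stratum A₀ := ⟨Localization.Away (Ideal.Quotient.mk 𝔭 (g * h'))⟩ with hs₀
    have hgood₀ : good s₀.A := by
      have h1 := Hgood (Ideal.Quotient.mk 𝔭 h')
      rw [← map_mul] at h1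
      exact h1
    have hrng₀ : s₀.rng = {x | 𝔭 ≤ x.asIdeal ∧ g * h' ∉ x.asIdeal} := rng_locQuot 𝔭 (g * h')
    have hkey : ∀ x : PrimeSpectrum A₀, x ∈ s₀.rng ↔
        (x ∈ PrimeSpectrum.zeroLocus (I : Set A₀) ∧ g * h' ∉ x.asIdeal) := by
      intro x
      rw [hrng₀]
      constructor
      · rintro ⟨h1, h2⟩
        exact ⟨fun a ha => h1 (hI𝔭 ha), h2⟩
      · rintro ⟨h1, h2⟩
        refine ⟨?_, h2⟩
        have hIx : I ≤ x.asIdeal := h1
        obtain ⟨𝔮, h𝔮, h𝔮x⟩ := Ideal.exists_minimalPrimes_le hIx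
        by_cases hq : 𝔮 = 𝔭
        · rw [← hq]; exact h𝔮x
        · exact absurd (x.asIdeal.mul_mem_left g (h𝔮x (hh' 𝔮 h𝔮 hq))) h2
    set J : Ideal A₀ := I ⊔ Ideal.span {g * h'} with hJ
    have hIJ : I < J := by
      refine lt_of_le_of_ne le_sup_left ?_
      intro h
      have h1 : g * h' ∈ I := by
        rw [h]; exact Ideal.mem_sup_right (Ideal.subset_span rfl)
      exact hgh (hI𝔭 h1)
    have hzJ : ∀ x : PrimeSpectrum A₀, x ∈ PrimeSpectrum.zeroLocus (J : Set A₀) ↔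
        (x ∈ PrimeSpectrum.zeroLocus (I : Set A₀) ∧ g * h' ∈ x.asIdeal) := by
      intro x
      rw [PrimeSpectrum.mem_zeroLocus, PrimeSpectrum.mem_zeroLocus, SetLike.coe_subset_coe,
        SetLike.coe_subset_coe, hJ, sup_le_iff, Ideal.span_singleton_le_iff_mem]
    obtain ⟨m₁, s₁, himm, hdisj, hcov, hopen, hgood⟩ := IH J hIJ
    have hcov' : ∀ x, (∃ j, x ∈ (s₁ j).rng) ↔ x ∈ PrimeSpectrum.zeroLocus (J : Set A₀) := by
      intro x; rw [← hcov, Set.mem_iUnion]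
    have hcovI : ∀ x, (∃ i, x ∈ (Fin.cons (α := fun _ => Stratum A₀) s₀ s₁ i).rng) ↔
        x ∈ PrimeSpectrum.zeroLocus (I : Set A₀) := by
      intro x
      rw [Fin.exists_fin_succ]
      simp only [Fin.cons_zero, Fin.cons_succ]
      rw [hcov', hkey, hzJ]
      tauto
    refine ⟨m₁ + 1, Fin.cons (α := fun _ => Stratum A₀) s₀ s₁, ?_, ?_, ?_, ?_, ?_⟩
    · intro i
      refine Fin.cases ?_ (fun j => ?_) i
      · exact isImmersion_locQuot 𝔭 _
      · exact himm j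
    · intro i j hij
      rw [Set.disjoint_left]
      intro x hxi hxj
      revert hxi hxj hij
      refine Fin.cases ?_ (fun i' => ?_) i <;> refine Fin.cases ?_ (fun j' => ?_) j
      · intro hij; exact absurd rfl hij
      · intro _ hxi hxj
        simp only [Fin.cons_zero] at hxi
        simp only [Fin.cons_succ] at hxj
        have h1 := ((hzJ x).1 ((hcov' x).1 ⟨j', hxj⟩)).2
        exact ((hkey x).1 hxi).2 h1
      · intro _ hxi hxj
        simp only [Fin.cons_zero] at hxj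
        simp only [Fin.cons_succ] at hxi
        have h1 := ((hzJ x).1 ((hcov' x).1 ⟨i', hxi⟩)).2
        exact ((hkey x).1 hxj).2 h1
      · intro hij hxi hxj
        simp only [Fin.cons_succ] at hxi hxj
        have hne : i' ≠ j' := fun h => hij (by rw [h])
        exact (Set.disjoint_left.1 (hdisj i' j' hne)) hxi hxj
    · ext x
      rw [Set.mem_iUnion]
      exact hcovI x
    · intro i
      refine Fin.cases ?_ (fun k => ?_) i
      · refine ⟨(PrimeSpectrum.basicOpen (g * h') : Set (PrimeSpectrum A₀)),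
          (PrimeSpectrum.basicOpen (g * h')).isOpen, ?_⟩
        ext x
        simp only [Set.mem_inter_iff, Set.mem_iUnion, Fin.zero_le, exists_prop, true_and,
          Fin.cons_zero]
        rw [hcovI, hkey]
        exact ⟨fun h => ⟨h.2, h.1⟩, fun h => ⟨h.2, h.1⟩⟩
      · obtain ⟨U, hU, hUeq⟩ := hopen k
        refine ⟨U, hU, ?_⟩
        ext x
        have hx := Set.ext_iff.1 hUeq x
        simp only [Set.mem_inter_iff, Set.mem_iUnion, exists_prop] at hx ⊢
        rw [Fin.cons_succ, ← hx, Fin.exists_fin_succ]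
        simp only [Fin.cons_succ, Fin.succ_le_succ_iff]
        constructor
        · rintro ⟨hxU, h | h⟩
          · exact absurd h.1 (by simp [Fin.succ_ne_zero])
          · exact ⟨hxU, h⟩
        · rintro ⟨hxU, h⟩
          exact ⟨hxU, Or.inr h⟩
    · intro i
      refine Fin.cases ?_ (fun j => ?_) i
      · exact hgood₀
      · exact hgood j

end Strat

end Groth.Agent.Lib.GrFlatH8
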