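import Mathlib
import Groth.Agent.Lib.ProjMap_helper3

/-! Graded rings generated in degree one (no finiteness): `𝒜_{n+1}` is additively spanned by `𝒜_1 · 𝒜_n`;
a graded homomorphism onto the degree-one part of such a ring is onto in all positive degrees, and then induces
a closed immersion of `Proj`'s. -/

universe u
open AlgebraicGeometry CategoryTheory HomogeneousLocalization

namespace Groth.Agent.GrGenOne

section ring
variable {A σ : Type*} [CommRing A] [SetLike σ A] [AddSubgroupClass σ A] (𝒜 : ℕ → σ) [GradedRing 𝒜]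

/-- A monomial in elements of degree `0` and `1` is of degree `0` or a product `a * b` with `a` of degree one and
`b` homogeneous. -/
theorem monomial_cases (m : A) (hm : m ∈ Submonoid.closure ((𝒜 0 : Set A) ∪ (𝒜 1 : Set A))) :
    m ∈ 𝒜 0 ∨ ∃ n : ℕ, ∃ a ∈ 𝒜 1, ∃ b ∈ 𝒜 n, a * b = m := by
  refine Submonoid.closure_induction
    (motive := fun m _ => m ∈ 𝒜 0 ∨ ∃ n : ℕ, ∃ a ∈ 𝒜 1, ∃ b ∈ 𝒜 n, a * b = m) ?_ ?_ ?_ hm
  · rintro x (hx | hx)
    · exact Or.inl hx
    · exact Or.inr ⟨0, x, hx, 1, SetLike.GradedOne.one_mem, mul_one x⟩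
  · exact Or.inl SetLike.GradedOne.one_mem
  · rintro x y _ _ (hx | ⟨n, a, ha, b, hb, rfl⟩) (hy | ⟨k, a', ha', b', hb', rfl⟩)
    · left
      have := SetLike.mul_mem_graded hx hy
      rwa [zero_add] at this
    · right
      refine ⟨k, x * a', ?_, b', hb', mul_assoc _ _ _⟩
      have := SetLike.mul_mem_graded hx ha'
      rwa [zero_add] at this
    · right
      refine ⟨n, a, ha, b * y, ?_, (mul_assoc _ _ _).symm⟩
      have := SetLike.mul_mem_graded hb hy
      rwa [add_zero] at this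
    · right
      exact ⟨n + (1 + k), a, ha, b * (a' * b'),
        SetLike.mul_mem_graded hb (SetLike.mul_mem_graded ha' hb'), (mul_assoc _ _ _).symm⟩

/-- If `𝒜` is generated by `𝒜_0` and `𝒜_1`, then `𝒜_{n+1}` is additively spanned by the products `𝒜_1 · 𝒜_n`. -/
theorem mem_closure_mul (hgen : Subring.closure ((𝒜 0 : Set A) ∪ (𝒜 1 : Set A)) = ⊤) (n : ℕ) (x : A)
    (hx : x ∈ 𝒜 (n + 1)) :
    x ∈ AddSubgroup.closure {c : A | ∃ a ∈ 𝒜 1, ∃ b ∈ 𝒜 n, a * b = c} := by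
  classical
  have hx' : x ∈ Subring.closure ((𝒜 0 : Set A) ∪ (𝒜 1 : Set A)) := by rw [hgen]; trivial
  rw [Subring.mem_closure_iff] at hx'
  have key : ∀ y ∈ AddSubgroup.closure (↑(Submonoid.closure ((𝒜 0 : Set A) ∪ (𝒜 1 : Set A))) : Set A), ∀ n : ℕ,
      (GradedRing.proj 𝒜 (n + 1) y) ∈ AddSubgroup.closure {c : A | ∃ a ∈ 𝒜 1, ∃ b ∈ 𝒜 n, a * b = c} := by
    intro y hy
    refine AddSubgroup.closure_induction (p := fun y _ => ∀ n : ℕ,
      (GradedRing.proj 𝒜 (n + 1) y) ∈ AddSubgroup.closure {c : A | ∃ a ∈ 𝒜 1, ∃ b ∈ 𝒜 n, a * b = c})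
      ?_ ?_ ?_ ?_ hy
    · intro m hm n
      rcases monomial_cases 𝒜 m hm with h0 | ⟨k, a, ha, b, hb, rfl⟩
      · rw [GradedRing.proj_apply, DirectSum.decompose_of_mem_ne 𝒜 h0 (by omega)]
        exact zero_mem _
      · have hab : a * b ∈ 𝒜 (k + 1) := by
          have := SetLike.mul_mem_graded ha hb
          rwa [add_comm] at this
        by_cases hk : k = n
        · subst hk
          rw [GradedRing.proj_apply, DirectSum.decompose_of_mem_same 𝒜 hab]
          exact AddSubgroup.subset_closure ⟨a, ha, b, hb, rfl⟩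
        · rw [GradedRing.proj_apply, DirectSum.decompose_of_mem_ne 𝒜 hab (by omega)]
          exact zero_mem _
    · intro n
      rw [map_zero]
      exact zero_mem _
    · intro y z _ _ hy hz n
      rw [map_add]
      exact add_mem (hy n) (hz n)
    · intro y _ hy n
      rw [map_neg]
      exact neg_mem (hy n)
  have := key x hx' n
  rwa [GradedRing.proj_apply, DirectSum.decompose_of_mem_same 𝒜 hx] at this

end ring

section hom
variable {A B σ τ : Type*} [CommRing A] [SetLike σ A] [AddSubgroupClass σ A] [CommRing B] [SetLike τ B]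
  [AddSubgroupClass τ B] (𝒜 : ℕ → σ) [GradedRing 𝒜] (ℬ : ℕ → τ) [GradedRing ℬ]

/-- A graded homomorphism onto the degree-one part of a graded ring generated in degree one is onto in every
positive degree. -/
theorem surj_pos (φ : 𝒜 →+*ᵍ ℬ) (hgen : Subring.closure ((ℬ 0 : Set B) ∪ (ℬ 1 : Set B)) = ⊤)
    (h1 : ∀ b ∈ ℬ 1, ∃ a ∈ 𝒜 1, φ a = b) :
    ∀ n : ℕ, 0 < n → ∀ b ∈ ℬ n, ∃ a ∈ 𝒜 n, φ a = b := by
  have key : ∀ n : ℕ, ∀ b ∈ ℬ (n + 1), ∃ a ∈ 𝒜 (n + 1), φ a = b := by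
    intro n
    induction n with
    | zero =>
      intro b hb
      rw [zero_add] at hb ⊢
      exact h1 b hb
    | succ n ih =>
      intro b hb
      have hb' := mem_closure_mul ℬ hgen (n + 1) b hb
      refine AddSubgroup.closure_induction (p := fun b _ => ∃ a ∈ 𝒜 (n + 1 + 1), φ a = b) ?_ ?_ ?_ ?_ hb'
      · rintro _ ⟨s, hs, c, hc, rfl⟩
        obtain ⟨a1, ha1, rfl⟩ := h1 s hs
        obtain ⟨a2, ha2, rfl⟩ := ih c hc
        refine ⟨a1 * a2, ?_, map_mul φ a1 a2⟩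
        have := SetLike.mul_mem_graded ha1 ha2
        rwa [add_comm] at this
      · exact ⟨0, zero_mem _, map_zero φ⟩
      · rintro _ _ _ _ ⟨a, ha, rfl⟩ ⟨a', ha', rfl⟩
        exact ⟨a + a', add_mem ha ha', map_add φ a a'⟩
      · rintro _ _ ⟨a, ha, rfl⟩
        exact ⟨-a, neg_mem ha, map_neg φ a⟩
  intro n hn b hb
  obtain ⟨k, rfl⟩ : ∃ k, n = k + 1 := ⟨n - 1, by omega⟩
  exact key k b hb

end hom

section proj
variable {A B σ τ : Type u} [CommRing A] [SetLike σ A] [AddSubgroupClass σ A] [CommRing B] [SetLike τ B]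
  [AddSubgroupClass τ B] (𝒜 : ℕ → σ) [GradedRing 𝒜] (ℬ : ℕ → τ) [GradedRing ℬ]

/-- If `φ` is onto in positive degrees, the induced maps of degree-zero localisations at elements of positive degree
are onto. -/
theorem away_map_surjective_pos (φ : 𝒜 →+*ᵍ ℬ)
    (hsurj : ∀ n : ℕ, 0 < n → ∀ b ∈ ℬ n, ∃ a ∈ 𝒜 n, φ a = b) {i : ℕ} (hi : 0 < i) (s : A) (hs : s ∈ 𝒜 i) :
    Function.Surjective (Away.map φ s) := by
  intro x
  obtain ⟨n, b, hb, rfl⟩ := Away.mk_surjective ℬ (φ.2 hs) x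
  have hb' : b * φ s ∈ ℬ ((n + 1) • i) := by
    have := SetLike.mul_mem_graded hb (φ.2 hs)
    rwa [show n • i + i = (n + 1) • i by rw [add_smul, one_smul]] at this
  have hpos : 0 < (n + 1) • i := by
    rw [smul_eq_mul]
    exact Nat.mul_pos (Nat.succ_pos n) hi
  obtain ⟨a, ha, hab⟩ := hsurj _ hpos _ hb'
  refine ⟨Away.mk 𝒜 hs (n + 1) a ha, ?_⟩
  rw [Away.map_mk, HomogeneousLocalization.ext_iff_val, Away.val_mk, Away.val_mk, Localization.mk_eq_mk_iff,
    Localization.r_iff_exists]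
  refine ⟨1, ?_⟩
  simp only [OneMemClass.coe_one, one_mul, hab]
  show φ s ^ n * (b * φ s) = φ s ^ (n + 1) * b
  ring

theorem map_isClosedImmersion_pos (φ : 𝒜 →+*ᵍ ℬ)
    (hsurj : ∀ n : ℕ, 0 < n → ∀ b ∈ ℬ n, ∃ a ∈ 𝒜 n, φ a = b)
    (hφ : HomogeneousIdeal.irrelevant ℬ ≤ (HomogeneousIdeal.irrelevant 𝒜).map φ) :
    IsClosedImmersion (Proj.map φ hφ) :=
  Groth.Agent.Lib.ProjMap_helper3.map_of_away 𝒜 ℬ @IsClosedImmersion φ hφ fun _ hi s hs =>
    IsClosedImmersion.spec_of_surjective _ (away_map_surjective_pos 𝒜 ℬ φ hsurj hi s hs)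

end proj

end Groth.Agent.GrGenOne
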