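import Mathlib
import Groth.Prelude.Def_GrLC
import Groth.Prelude.Def_GrSyz
import Groth.Agent.Lib.GrSyz3_helper1

/-! Numerical consequences of the Hilbert–Burch shape of the minimal resolution of a finite set of
points in the projective plane (helper1). -/

set_option autoImplicit false

namespace Groth.Agent.Lib.GrHBH1

open DirectSum Groth.Agent.Lib.GrSyzH1 Groth.Agent.Lib.GrSyz3H1

universe u

/-! ### linear algebra over a domain -/
section linalg

variable {S : Type u} [CommRing S] [IsDomain S]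

theorem card_le_of_support {n m : ℕ} (A : Matrix (Fin n) (Fin m) S)
    (hli : ∀ c : Fin m → S, A.mulVec c = 0 → c = 0) (P : Finset (Fin n)) (Q : Finset (Fin m))
    (hPQ : ∀ p, p ∉ P → ∀ q ∈ Q, A p q = 0) : Q.card ≤ P.card := by
  classical
  have h := card_le_of_injective S
    ((LinearMap.funLeft S S (Subtype.val : P → Fin n)) ∘ₗ A.mulVecLin ∘ₗ
      (Function.ExtendByZero.linearMap S (Subtype.val : Q → Fin m))) ?_
  · rwa [Fintype.card_coe, Fintype.card_coe] at h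
  · rw [← LinearMap.ker_eq_bot, LinearMap.ker_eq_bot']
    intro c hc
    have hext : ∀ q : Fin m, q ∉ Q → Function.extend (Subtype.val : Q → Fin m) c 0 q = 0 := by
      intro q hq
      rw [Function.extend_apply']
      · rfl
      · rintro ⟨⟨q', hq'⟩, rfl⟩
        exact hq hq'
    have h0 : A.mulVec (Function.extend (Subtype.val : Q → Fin m) c 0) = 0 := by
      funext p
      by_cases hp : p ∈ P
      · exact congrFun hc ⟨p, hp⟩
      · show ∑ q, A p q * Function.extend (Subtype.val : Q → Fin m) c 0 q = 0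
        refine Finset.sum_eq_zero (fun q _ => ?_)
        by_cases hq : q ∈ Q
        · rw [hPQ p hp q hq, zero_mul]
        · rw [hext q hq, mul_zero]
    have h1 := hli _ h0
    funext q
    have := congrFun h1 q.1
    rw [Subtype.val_injective.extend_apply] at this
    exact this

theorem card_succ_le_of_support {n m : ℕ} (A : Matrix (Fin n) (Fin m) S)
    (hli : ∀ c : Fin m → S, A.mulVec c = 0 → c = 0) (P : Finset (Fin n)) (Q : Finset (Fin m))
    (hPQ : ∀ p, p ∉ P → ∀ q ∈ Q, A p q = 0) (g : Fin n → S) (hg : ∀ q, ∑ p, g p * A p q = 0)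
    (p0 : Fin n) (hp0 : p0 ∈ P) (hgp0 : g p0 ≠ 0) : Q.card + 1 ≤ P.card := by
  classical
  let A' : Matrix (Fin n) (Fin (m + 1)) S := fun p => Fin.cons (if p = p0 then 1 else 0) (A p)
  have hA'0 : ∀ p, A' p 0 = if p = p0 then 1 else 0 := fun p => rfl
  have hA's : ∀ p (q : Fin m), A' p q.succ = A p q := fun p q => by
    show (Fin.cons (if p = p0 then 1 else 0) (A p) : Fin (m + 1) → S) q.succ = _
    rw [Fin.cons_succ]
  have key : ∀ (c : Fin (m + 1) → S) (p : Fin n), A'.mulVec c p =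
      (if p = p0 then 1 else 0) * c 0 + ∑ q : Fin m, A p q * c q.succ := by
    intro c p
    show ∑ q, A' p q * c q = _
    rw [Fin.sum_univ_succ, hA'0]
    simp only [hA's]
  have h := card_le_of_support A' ?_ P (insert 0 (Q.map (Fin.succEmb m))) ?_
  · rw [Finset.card_insert_of_notMem, Finset.card_map] at h
    · exact h
    · rw [Finset.mem_map]
      rintro ⟨q, _, hq⟩
      exact Fin.succ_ne_zero q hq
  · intro c hc
    have h1 : ∀ p, (if p = p0 then 1 else 0) * c 0 + ∑ q : Fin m, A p q * c q.succ = 0 := fun p => by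
      rw [← key c p, hc]
      rfl
    have h3 : g p0 * c 0 = 0 := by
      have h2 : ∑ p, g p * ((if p = p0 then 1 else 0) * c 0 + ∑ q : Fin m, A p q * c q.succ) = 0 :=
        Finset.sum_eq_zero (fun p _ => by rw [h1 p, mul_zero])
      have e1 : ∑ p, g p * ((if p = p0 then (1 : S) else 0) * c 0) = g p0 * c 0 := by
        rw [Finset.sum_eq_single p0]
        · rw [if_pos rfl, one_mul]
        · intro b _ hb
          rw [if_neg hb, zero_mul, mul_zero]
        · intro h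
          exact absurd (Finset.mem_univ p0) h
      have e2 : ∑ p, g p * ∑ q : Fin m, A p q * c q.succ = 0 := by
        simp only [Finset.mul_sum]
        rw [Finset.sum_comm]
        refine Finset.sum_eq_zero (fun q _ => ?_)
        have : ∑ p, g p * (A p q * c (Fin.succ q)) = (∑ p, g p * A p q) * c (Fin.succ q) := by
          rw [Finset.sum_mul]
          exact Finset.sum_congr rfl (fun p _ => (mul_assoc _ _ _).symm)
        rw [this, hg q, zero_mul]
      simp only [mul_add, Finset.sum_add_distrib] at h2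
      rw [e1, e2, add_zero] at h2
      exact h2
    have hc0 : c 0 = 0 := (mul_eq_zero.1 h3).resolve_left hgp0
    have hcs : (fun q : Fin m => c q.succ) = 0 := hli _ (by
      funext p
      have := h1 p
      rw [hc0, mul_zero, zero_add] at this
      exact this)
    funext q
    refine Fin.cases hc0 (fun q' => congrFun hcs q') q
  · intro p hp q hq
    rw [Finset.mem_insert, Finset.mem_map] at hq
    rcases hq with rfl | ⟨q', hq', rfl⟩
    · rw [hA'0, if_neg]
      rintro rfl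
      exact hp hp0
    · show A' p q'.succ = 0
      rw [hA's]
      exact hPQ p hp q' hq'

end linalg

/-! ### bounded quadratic functions on the integers -/
section quad

theorem lin_bounded {c1 c0 B D : ℤ} (hB : 0 ≤ B)
    (h : ∀ d : ℤ, D ≤ d → 0 ≤ c1 * d + c0 ∧ c1 * d + c0 ≤ B) : c1 = 0 := by
  have h1 := h D le_rfl
  have h2 := h (D + (B + 1)) (by linarith)
  by_contra hc
  rcases lt_or_gt_of_ne hc with hneg | hpos
  · have h3 : c1 * (B + 1) ≤ -(B + 1) := by nlinarith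
    nlinarith [h1.1, h1.2, h2.1, h2.2]
  · have h3 : (B + 1) ≤ c1 * (B + 1) := by nlinarith
    nlinarith [h1.1, h1.2, h2.1, h2.2]

theorem quad_bounded {c2 c1 c0 B D : ℤ} (hB : 0 ≤ B)
    (h : ∀ d : ℤ, D ≤ d → 0 ≤ c2 * d ^ 2 + c1 * d + c0 ∧ c2 * d ^ 2 + c1 * d + c0 ≤ B) :
    c2 = 0 ∧ c1 = 0 := by
  have hc2 : c2 = 0 := by
    have h1 := h D le_rfl
    have h2 := h (D + (B + 1)) (by linarith)
    have h3 := h (D + 2 * (B + 1)) (by linarith)
    have e : (c2 * (D + 2 * (B + 1)) ^ 2 + c1 * (D + 2 * (B + 1)) + c0) -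
        2 * (c2 * (D + (B + 1)) ^ 2 + c1 * (D + (B + 1)) + c0) + (c2 * D ^ 2 + c1 * D + c0) =
        2 * (c2 * (B + 1) ^ 2) := by ring
    have h5 : (B + 1) ≤ (B + 1) ^ 2 := by nlinarith
    by_contra hc
    rcases lt_or_gt_of_ne hc with hneg | hpos
    · have h4 : c2 * (B + 1) ^ 2 ≤ -(B + 1) ^ 2 := by nlinarith [sq_nonneg (B + 1)]
      linarith [h1.1, h1.2, h2.1, h2.2, h3.1, h3.2]
    · have h4 : (B + 1) ^ 2 ≤ c2 * (B + 1) ^ 2 := by nlinarith [sq_nonneg (B + 1)]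
      linarith [h1.1, h1.2, h2.1, h2.2, h3.1, h3.2]
  refine ⟨hc2, lin_bounded (c0 := c0) (D := D) hB (fun d hd => ?_)⟩
  have := h d hd
  rw [hc2, zero_mul, zero_add] at this
  exact this

theorem two_mul_choose (e : ℕ) :
    2 * ((Nat.choose (2 + e) 2 : ℕ) : ℤ) = ((e : ℤ) + 2) * ((e : ℤ) + 1) := by
  induction e with
  | zero => norm_num [Nat.choose]
  | succ e ih =>
    have h : Nat.choose (2 + (e + 1)) 2 = (2 + e) + Nat.choose (2 + e) 2 := by
      rw [show 2 + (e + 1) = (2 + e) + 1 by ring, Nat.choose_succ_succ' (2 + e) 1,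
        Nat.choose_one_right]
    rw [h]
    push_cast
    linarith [ih]

end quad

/-! ### facts about a minimal resolution -/
section res

variable (k : Type u) [Field k] (σ : Type)
  (M : Type u) [AddCommGroup M] [Module k M] [Module (MvPolynomial σ k) M]
  [IsScalarTower k (MvPolynomial σ k) M]
  (ℳ : ℤ → Submodule k M) [Decomposition ℳ] [SetLike.GradedSMul (GrSyz.stdGr k σ) ℳ]
  (F : GrSyz.FreeRes (GrSyz.stdGr k σ) ℳ)
  (hF : F.IsMinimal (GrSyz.irrel (GrSyz.stdGr k σ)).toIdeal)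

theorem inj_d1 (hlen : F.HasLengthLE 2) (c : Fin (F.rk 2) → MvPolynomial σ k)
    (hc : (F.d 1).mulVec c = 0) : c = 0 := by
  have h1 : c ∈ LinearMap.ker (Matrix.mulVecLin (F.d 1)) := by
    rw [LinearMap.mem_ker, Matrix.mulVecLin_apply]
    exact hc
  rw [F.exact_succ 1] at h1
  obtain ⟨w, rfl⟩ := h1
  haveI : IsEmpty (Fin (F.rk (1 + 1 + 1))) := by
    rw [hlen (1 + 1 + 1) (by norm_num)]
    infer_instance
  rw [Subsingleton.elim w 0, map_zero]

theorem rel_d0_d1 (b0 : Fin (F.rk 0)) (q : Fin (F.rk 2)) :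
    ∑ p, F.d 0 b0 p * F.d 1 p q = 0 := by
  have h1 : (F.d 1).mulVec (Pi.single q 1) ∈ LinearMap.range (Matrix.mulVecLin (F.d 1)) :=
    ⟨Pi.single q 1, rfl⟩
  have h2 : (F.d 1).mulVec (Pi.single q 1) ∈ LinearMap.ker (Matrix.mulVecLin (F.d 0)) := by
    rw [F.exact_succ 0]
    exact h1
  rw [LinearMap.mem_ker, Matrix.mulVecLin_apply, mulVec_single_one'] at h2
  exact congrFun h2 b0

include hF in
theorem exists_ne_zero (p : Fin (F.rk 1)) : ∃ b0, F.d 0 b0 p ≠ 0 := by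
  by_contra h
  push_neg at h
  have hker : (Pi.single p 1 : Fin (F.rk 1) → MvPolynomial σ k) ∈
      LinearMap.ker (Matrix.mulVecLin (F.d 0)) := by
    rw [LinearMap.mem_ker, Matrix.mulVecLin_apply, mulVec_single_one']
    funext a
    exact h a
  rw [F.exact_succ 0] at hker
  obtain ⟨w, hw⟩ := hker
  have h1 := congrFun hw p
  rw [Pi.single_eq_same] at h1
  apply one_not_mem_irr (k := k) (σ := σ)
  rw [← h1]
  show ∑ c, F.d 1 p c * w c ∈ _
  exact Ideal.sum_mem _ (fun c _ => Ideal.mul_mem_right _ _ (hF 1 p c))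

include hF in
theorem aug_ne_zero (b : Fin (F.rk 0)) : F.aug b ≠ 0 := by
  classical
  intro h
  have hker : (Pi.single b 1 : Fin (F.rk 0) → MvPolynomial σ k) ∈
      LinearMap.ker (Fintype.linearCombination (MvPolynomial σ k) F.aug) := by
    rw [LinearMap.mem_ker, Fintype.linearCombination_apply, Finset.sum_eq_single b]
    · rw [h, smul_zero]
    · intro b' _ hb'
      rw [Pi.single_eq_of_ne hb', zero_smul]
    · intro hh
      exact absurd (Finset.mem_univ b) hh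
  rw [F.exact_zero] at hker
  obtain ⟨w, hw⟩ := hker
  have h1 := congrFun hw b
  rw [Pi.single_eq_same] at h1
  apply one_not_mem_irr (k := k) (σ := σ)
  rw [← h1]
  show ∑ c, F.d 0 b c * w c ∈ _
  exact Ideal.sum_mem _ (fun c _ => Ideal.mul_mem_right _ _ (hF 0 b c))

variable (π : MvPolynomial σ k →ₗ[MvPolynomial σ k] M) (hπ : Function.Surjective π)
  (hπg : GrLC.IsGrHom (GrSyz.stdGr k σ) ℳ π)

include hπg in
theorem pi_decompose (s : MvPolynomial σ k) (n : ℤ) :
    (decompose ℳ (π s) n : M) = π (decompose (GrSyz.stdGr k σ) s n) := by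
  have h1 : π 1 ∈ ℳ 0 := hπg 0 1 (SetLike.GradedOne.one_mem (A := GrSyz.stdGr k σ))
  have h2 : ∀ s : MvPolynomial σ k, π s = s • π 1 := fun s => by
    rw [← map_smul, smul_eq_mul, mul_one]
  rw [h2 s, decompose_smul_of_mem' (GrSyz.stdGr k σ) ℳ h1 s n, sub_zero, ← h2]

include hπ hπg in
theorem neg_piece_eq_bot (n : ℤ) (hn : n < 0) (y : M) (hy : y ∈ ℳ n) : y = 0 := by
  obtain ⟨s, rfl⟩ := hπ y
  have h3 := pi_decompose k σ M ℳ π hπg s n
  rw [decompose_of_mem_same ℳ hy] at h3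
  have hbot : ∀ x ∈ GrSyz.stdGr k σ n, x = 0 := fun x hx => by
    rw [stdGr_neg k σ hn] at hx
    exact (Submodule.mem_bot k).mp hx
  have h4 : (decompose (GrSyz.stdGr k σ) s n : MvPolynomial σ k) = 0 :=
    hbot _ (decompose (GrSyz.stdGr k σ) s n).2
  rw [h3, h4, map_zero]

include hF hπ hπg in
theorem deg0_eq_zero (hπ1 : π 1 ≠ 0) (hrk0 : F.rk 0 = 1) (b : Fin (F.rk 0)) : F.deg 0 b = 0 := by
  have hall : ∀ b' : Fin (F.rk 0), b' = b := fun b' => Fin.ext (by
    have := b'.2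
    have := b.2
    omega)
  apply le_antisymm
  · by_contra hpos
    rw [not_le] at hpos
    apply hπ1
    obtain ⟨v, hv⟩ := F.aug_surjective (π 1)
    rw [Fintype.linearCombination_apply] at hv
    have h1 : π 1 ∈ ℳ 0 := hπg 0 1 (SetLike.GradedOne.one_mem (A := GrSyz.stdGr k σ))
    have h2 : (decompose ℳ (π 1) 0 : M) = 0 := by
      rw [← hv, coe_decompose_sum' ℳ]
      refine Finset.sum_eq_zero (fun b' _ => ?_)
      rw [decompose_smul_of_mem' (GrSyz.stdGr k σ) ℳ (F.aug_mem b') (v b') 0]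
      have hbot : ∀ x ∈ GrSyz.stdGr k σ (0 - F.deg 0 b'), x = 0 := fun x hx => by
        rw [stdGr_neg k σ (by rw [hall b']; omega)] at hx
        exact (Submodule.mem_bot k).mp hx
      have h4 : (decompose (GrSyz.stdGr k σ) (v b') (0 - F.deg 0 b') : MvPolynomial σ k) = 0 :=
        hbot _ (decompose (GrSyz.stdGr k σ) (v b') (0 - F.deg 0 b')).2
      rw [h4, zero_smul]
    rw [← decompose_of_mem_same ℳ h1]
    exact h2
  · by_contra hneg
    rw [not_le] at hneg
    exact aug_ne_zero k σ M ℳ F hF b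
      (neg_piece_eq_bot k σ M ℳ π hπ hπg _ hneg _ (F.aug_mem b))

include hF in
theorem main_ef (hlen : F.HasLengthLE 2) (t : ℕ) (h1 : F.rk 1 = t + 1) (h2 : F.rk 2 = t)
    (ha : ∀ i j : Fin (t + 1), i ≤ j →
      F.deg 1 (Fin.cast h1.symm j) ≤ F.deg 1 (Fin.cast h1.symm i))
    (hb : ∀ i j : Fin t, i ≤ j → F.deg 2 (Fin.cast h2.symm j) ≤ F.deg 2 (Fin.cast h2.symm i))
    (i : Fin t) :
    1 ≤ F.deg 2 (Fin.cast h2.symm i) - F.deg 1 (Fin.cast h1.symm i.castSucc) ∧
      1 ≤ F.deg 2 (Fin.cast h2.symm i) - F.deg 1 (Fin.cast h1.symm i.succ) := by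
  classical
  have hzero : ∀ (a : Fin (t + 1)),
      F.deg 2 (Fin.cast h2.symm i) - F.deg 1 (Fin.cast h1.symm a) ≤ 0 →
      ∀ p : Fin (F.rk 1), p ∉ Finset.Ioi (Fin.cast h1.symm a) →
      ∀ q ∈ Finset.Ici (Fin.cast h2.symm i), F.d 1 p q = 0 := by
    intro a hle p hp q hq
    rw [Finset.mem_Ioi, not_lt] at hp
    rw [Finset.mem_Ici] at hq
    have hp' : Fin.cast h1 p ≤ a := hp
    have hq' : i ≤ Fin.cast h2 q := hq
    have e1 := ha (Fin.cast h1 p) a hp'
    have e2 := hb i (Fin.cast h2 q) hq'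
    have c1 : Fin.cast h1.symm (Fin.cast h1 p) = p := Fin.ext rfl
    have c2 : Fin.cast h2.symm (Fin.cast h2 q) = q := Fin.ext rfl
    rw [c1] at e1
    rw [c2] at e2
    have hm : F.d 1 p q ∈ GrSyz.stdGr k σ (F.deg 2 q - F.deg 1 p) := F.d_mem 1 p q
    exact entry_zero hm (by linarith) (hF 1 p q)
  have hP0 : ∀ a : Fin (t + 1), (a : ℕ) < t →
      ∃ p0 ∈ Finset.Ioi (Fin.cast h1.symm a), ∃ b0, F.d 0 b0 p0 ≠ 0 := by
    intro a hat
    refine ⟨Fin.cast h1.symm (Fin.last t), ?_, exists_ne_zero k σ M ℳ F hF _⟩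
    rw [Finset.mem_Ioi]
    exact hat
  constructor
  · by_contra hcon
    rw [not_le] at hcon
    have hle : F.deg 2 (Fin.cast h2.symm i) - F.deg 1 (Fin.cast h1.symm i.castSucc) ≤ 0 := by
      omega
    obtain ⟨p0, hp0, b0, hb0⟩ := hP0 i.castSucc (by simp)
    have h := card_succ_le_of_support (n := F.rk 1) (m := F.rk 2) (F.d 1)
      (inj_d1 k σ M ℳ F hlen) (Finset.Ioi (Fin.cast h1.symm i.castSucc))
      (Finset.Ici (Fin.cast h2.symm i)) (hzero i.castSucc hle) (fun p => F.d 0 b0 p)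
      (fun q => rel_d0_d1 k σ M ℳ F b0 q) p0 hp0 hb0
    rw [Fin.card_Ici, Fin.card_Ioi] at h
    simp only [Fin.coe_cast, Fin.coe_castSucc] at h
    have := i.2
    omega
  · by_contra hcon
    rw [not_le] at hcon
    have hle : F.deg 2 (Fin.cast h2.symm i) - F.deg 1 (Fin.cast h1.symm i.succ) ≤ 0 := by
      omega
    have h := card_le_of_support (n := F.rk 1) (m := F.rk 2) (F.d 1)
      (inj_d1 k σ M ℳ F hlen) (Finset.Ioi (Fin.cast h1.symm i.succ))
      (Finset.Ici (Fin.cast h2.symm i)) (hzero i.succ hle)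
    rw [Fin.card_Ici, Fin.card_Ioi] at h
    simp only [Fin.coe_cast, Fin.val_succ] at h
    have := i.2
    omega

end res

/-! ### the Hilbert function of a finite set of points -/
section pts

variable (k : Type u) [Field k] (σ : Type)
  (M : Type u) [AddCommGroup M] [Module k M] [Module (MvPolynomial σ k) M]
  [IsScalarTower k (MvPolynomial σ k) M]
  (ℳ : ℤ → Submodule k M) [Decomposition ℳ] [SetLike.GradedSMul (GrSyz.stdGr k σ) ℳ]

omit [Module k M] [IsScalarTower k (MvPolynomial σ k) M] in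
theorem isHomogeneous_of_mem_stdGr {p : MvPolynomial σ k} {n : ℕ}
    (hp : p ∈ GrSyz.stdGr k σ (n : ℤ)) : p.IsHomogeneous n := by
  intro d hd
  have h1 : Finsupp.weight (fun _ : σ => (1 : ℤ)) d = (n : ℤ) := hp hd
  have h2 : Finsupp.weight (fun _ : σ => (1 : ℤ)) d =
      ((Finsupp.weight (1 : σ → ℕ) d : ℕ) : ℤ) := by
    simp [Finsupp.weight_apply, Finsupp.sum]
  rw [h2] at h1
  exact_mod_cast h1

variable (Z : Finset (σ → k)) (I : Ideal (MvPolynomial σ k))
  (hI : ∀ f : MvPolynomial σ k, f ∈ I ↔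
    ∀ p ∈ Z, ∀ j : ℕ, MvPolynomial.eval p (MvPolynomial.homogeneousComponent j f) = 0)
  (π : MvPolynomial σ k →ₗ[MvPolynomial σ k] M) (hπ : Function.Surjective π)
  (hπg : GrLC.IsGrHom (GrSyz.stdGr k σ) ℳ π) (hker : LinearMap.ker π = I)

include hI hker in
theorem pi_one_ne_zero (hZne : Z.Nonempty) : π 1 ≠ 0 := by
  intro h
  have h1 : (1 : MvPolynomial σ k) ∈ I := by
    rw [← hker, LinearMap.mem_ker]
    exact h
  obtain ⟨p, hp⟩ := hZne
  have h2 := (hI 1).1 h1 p hp 0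
  simp [MvPolynomial.homogeneousComponent_zero] at h2

include hI hπ hπg hker in
theorem finrank_le_card (d : ℤ) : Module.finrank k ↥(ℳ d) ≤ Z.card := by
  rcases lt_or_ge d 0 with hd | hd
  · have h0 : ∀ y : ↥(ℳ d), y = 0 := fun y =>
      Subtype.ext (neg_piece_eq_bot k σ M ℳ π hπ hπg d hd y.1 y.2)
    haveI : Subsingleton ↥(ℳ d) := ⟨fun a b => by rw [h0 a, h0 b]⟩
    rw [Module.finrank_zero_of_subsingleton]
    exact Nat.zero_le _
  · obtain ⟨n, rfl⟩ := Int.eq_ofNat_of_zero_le hd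
    let ev : MvPolynomial σ k →ₗ[k] (Z → k) :=
      LinearMap.pi (fun z => (MvPolynomial.aeval (z.1 : σ → k)).toLinearMap)
    let πd : ↥(GrSyz.stdGr k σ (n : ℤ)) →ₗ[k] ↥(ℳ (n : ℤ)) :=
      (π.restrictScalars k).restrict (fun s hs => hπg _ s hs)
    let evd : ↥(GrSyz.stdGr k σ (n : ℤ)) →ₗ[k] (Z → k) :=
      ev ∘ₗ (GrSyz.stdGr k σ (n : ℤ)).subtype
    have hsurj : Function.Surjective πd := by
      rintro ⟨y, hy⟩
      obtain ⟨s, rfl⟩ := hπ y
      refine ⟨⟨decompose (GrSyz.stdGr k σ) s n, (decompose (GrSyz.stdGr k σ) s n).2⟩,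
        Subtype.ext ?_⟩
      show π (decompose (GrSyz.stdGr k σ) s n) = π s
      rw [← pi_decompose k σ M ℳ π hπg s n, decompose_of_mem_same ℳ hy]
    have hkeq : LinearMap.ker πd = LinearMap.ker evd := by
      ext ⟨s, hs⟩
      have hom := isHomogeneous_of_mem_stdGr k σ hs
      rw [LinearMap.mem_ker, LinearMap.mem_ker]
      have e1 : πd ⟨s, hs⟩ = 0 ↔ s ∈ I := by
        rw [← hker, LinearMap.mem_ker]
        exact Subtype.ext_iff
      have e2 : evd ⟨s, hs⟩ = 0 ↔ ∀ p ∈ Z, MvPolynomial.eval p s = 0 := by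
        constructor
        · intro h p hp
          have := congrFun h ⟨p, hp⟩
          simpa [ev, evd, MvPolynomial.aeval_eq_eval] using this
        · intro h
          funext z
          have := h z.1 z.2
          simpa [ev, evd, MvPolynomial.aeval_eq_eval] using this
      rw [e1, e2, hI]
      constructor
      · intro h p hp
        have := h p hp n
        rwa [MvPolynomial.homogeneousComponent_of_mem hom, if_pos rfl] at this
      · intro h p hp j
        rw [MvPolynomial.homogeneousComponent_of_mem hom]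
        split_ifs
        · exact h p hp
        · exact map_zero _
    have e : ↥(ℳ (n : ℤ)) ≃ₗ[k] ↥(LinearMap.range evd) :=
      (πd.quotKerEquivOfSurjective hsurj).symm.trans
        ((Submodule.quotEquivOfEq _ _ hkeq).trans evd.quotKerEquivRange)
    rw [e.finrank_eq]
    refine le_trans (Submodule.finrank_le _) ?_
    rw [Module.finrank_fintype_fun_eq_card, Fintype.card_coe]

end pts

/-! ### the statement -/
section final

variable (k : Type u) [Field k]
  (Z : Finset (Fin 3 → k)) (hZne : Z.Nonempty) (I : Ideal (MvPolynomial (Fin 3) k))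
  (hI : ∀ f : MvPolynomial (Fin 3) k, f ∈ I ↔
    ∀ p ∈ Z, ∀ j : ℕ, MvPolynomial.eval p (MvPolynomial.homogeneousComponent j f) = 0)
  (M : Type u) [AddCommGroup M] [Module k M] [Module (MvPolynomial (Fin 3) k) M]
  [IsScalarTower k (MvPolynomial (Fin 3) k) M]
  (ℳ : ℤ → Submodule k M) [DirectSum.Decomposition ℳ]
  [SetLike.GradedSMul (GrSyz.stdGr k (Fin 3)) ℳ]
  (π : MvPolynomial (Fin 3) k →ₗ[MvPolynomial (Fin 3) k] M) (hπ : Function.Surjective π)
  (hπg : GrLC.IsGrHom (GrSyz.stdGr k (Fin 3)) ℳ π) (hker : LinearMap.ker π = I)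
  (F : GrSyz.FreeRes (GrSyz.stdGr k (Fin 3)) ℳ)
  (hF : F.IsMinimal (GrSyz.irrel (GrSyz.stdGr k (Fin 3))).toIdeal) (hlen : F.HasLengthLE 2)

include hZne hI hπ hπg hker hF hlen in
theorem main_sum (t : ℕ) (h1 : F.rk 1 = t + 1) (h2 : F.rk 2 = t) :
    ∑ p : Fin (F.rk 1), F.deg 1 p = ∑ q : Fin (F.rk 2), F.deg 2 q := by
  obtain ⟨D, hD⟩ : ∃ D : ℤ, ∀ i ∈ Finset.range 3, ∀ b : Fin (F.rk i), F.deg i b ≤ D := by
    refine ⟨∑ i ∈ Finset.range 3, ∑ b : Fin (F.rk i), |F.deg i b|, fun i hi b => ?_⟩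
    refine le_trans (le_abs_self _) (le_trans ?_
      (Finset.single_le_sum (f := fun i => ∑ b : Fin (F.rk i), |F.deg i b|)
        (fun i _ => Finset.sum_nonneg (fun b _ => abs_nonneg _)) hi))
    exact Finset.single_le_sum (f := fun b => |F.deg i b|) (fun b _ => abs_nonneg _)
      (Finset.mem_univ b)
  have hterm : ∀ i ∈ Finset.range 3, ∀ d : ℤ, D ≤ d →
      2 * ∑ b : Fin (F.rk i),
        (if F.deg i b ≤ d then ((Nat.choose (2 + (d - F.deg i b).toNat) 2 : ℕ) : ℤ) else 0) =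
      (F.rk i : ℤ) * d ^ 2 + (3 * (F.rk i : ℤ) - 2 * ∑ b : Fin (F.rk i), F.deg i b) * d +
        ∑ b : Fin (F.rk i), ((F.deg i b) ^ 2 - 3 * F.deg i b + 2) := by
    intro i hi d hd
    have hb : ∀ b : Fin (F.rk i),
        2 * (if F.deg i b ≤ d then ((Nat.choose (2 + (d - F.deg i b).toNat) 2 : ℕ) : ℤ) else 0) =
        d ^ 2 + (3 * d - 2 * d * F.deg i b) + ((F.deg i b) ^ 2 - 3 * F.deg i b + 2) := by
      intro b
      have hle : F.deg i b ≤ d := le_trans (hD i hi b) hd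
      rw [if_pos hle]
      have e := two_mul_choose (d - F.deg i b).toNat
      rw [Int.toNat_of_nonneg (by linarith)] at e
      rw [e]
      ring
    rw [Finset.mul_sum, Finset.sum_congr rfl (fun b _ => hb b), Finset.sum_add_distrib,
      Finset.sum_add_distrib, Finset.sum_sub_distrib, Finset.sum_const, Finset.sum_const,
      Finset.card_univ, Fintype.card_fin, ← Finset.mul_sum]
    simp only [nsmul_eq_mul]
    ring
  have key : ∀ d : ℤ, D ≤ d → 2 * (Module.finrank k ↥(ℳ d) : ℤ) =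
      ((F.rk 0 : ℤ) - (F.rk 1 : ℤ) + (F.rk 2 : ℤ)) * d ^ 2 +
      ((3 * (F.rk 0 : ℤ) - 2 * ∑ b : Fin (F.rk 0), F.deg 0 b) -
        (3 * (F.rk 1 : ℤ) - 2 * ∑ b : Fin (F.rk 1), F.deg 1 b) +
        (3 * (F.rk 2 : ℤ) - 2 * ∑ b : Fin (F.rk 2), F.deg 2 b)) * d +
      ((∑ b : Fin (F.rk 0), ((F.deg 0 b) ^ 2 - 3 * F.deg 0 b + 2)) -
        (∑ b : Fin (F.rk 1), ((F.deg 1 b) ^ 2 - 3 * F.deg 1 b + 2)) +
        (∑ b : Fin (F.rk 2), ((F.deg 2 b) ^ 2 - 3 * F.deg 2 b + 2))) := by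
    intro d hd
    have hm := main15428 k 2 M ℳ F 2 hlen d
    have t0 := hterm 0 (by simp) d hd
    have t1 := hterm 1 (by simp) d hd
    have t2 := hterm 2 (by simp) d hd
    rw [hm, Finset.sum_range_succ, Finset.sum_range_succ, Finset.sum_range_succ,
      Finset.sum_range_zero]
    linarith [t0, t1, t2]
  have hbound : ∀ d : ℤ, D ≤ d →
      0 ≤ ((F.rk 0 : ℤ) - (F.rk 1 : ℤ) + (F.rk 2 : ℤ)) * d ^ 2 +
      ((3 * (F.rk 0 : ℤ) - 2 * ∑ b : Fin (F.rk 0), F.deg 0 b) -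
        (3 * (F.rk 1 : ℤ) - 2 * ∑ b : Fin (F.rk 1), F.deg 1 b) +
        (3 * (F.rk 2 : ℤ) - 2 * ∑ b : Fin (F.rk 2), F.deg 2 b)) * d +
      ((∑ b : Fin (F.rk 0), ((F.deg 0 b) ^ 2 - 3 * F.deg 0 b + 2)) -
        (∑ b : Fin (F.rk 1), ((F.deg 1 b) ^ 2 - 3 * F.deg 1 b + 2)) +
        (∑ b : Fin (F.rk 2), ((F.deg 2 b) ^ 2 - 3 * F.deg 2 b + 2))) ∧
      ((F.rk 0 : ℤ) - (F.rk 1 : ℤ) + (F.rk 2 : ℤ)) * d ^ 2 +
      ((3 * (F.rk 0 : ℤ) - 2 * ∑ b : Fin (F.rk 0), F.deg 0 b) -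
        (3 * (F.rk 1 : ℤ) - 2 * ∑ b : Fin (F.rk 1), F.deg 1 b) +
        (3 * (F.rk 2 : ℤ) - 2 * ∑ b : Fin (F.rk 2), F.deg 2 b)) * d +
      ((∑ b : Fin (F.rk 0), ((F.deg 0 b) ^ 2 - 3 * F.deg 0 b + 2)) -
        (∑ b : Fin (F.rk 1), ((F.deg 1 b) ^ 2 - 3 * F.deg 1 b + 2)) +
        (∑ b : Fin (F.rk 2), ((F.deg 2 b) ^ 2 - 3 * F.deg 2 b + 2))) ≤ 2 * (Z.card : ℤ) := by
    intro d hd
    rw [← key d hd]
    have hle := finrank_le_card k (Fin 3) M ℳ Z I hI π hπ hπg hker d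
    have hle' : (Module.finrank k ↥(ℳ d) : ℤ) ≤ (Z.card : ℤ) := by exact_mod_cast hle
    have hnn : (0 : ℤ) ≤ (Module.finrank k ↥(ℳ d) : ℤ) := Int.natCast_nonneg _
    constructor <;> linarith
  obtain ⟨hc2, hc1⟩ := quad_bounded (by positivity) hbound
  have hrk0 : F.rk 0 = 1 := by
    have h1' : (F.rk 1 : ℤ) = t + 1 := by exact_mod_cast h1
    have h2' : (F.rk 2 : ℤ) = t := by exact_mod_cast h2
    have : (F.rk 0 : ℤ) = 1 := by linarith
    exact_mod_cast this
  have hπ1 := pi_one_ne_zero k (Fin 3) M Z I hI π hker hZne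
  have hA0 : ∑ b : Fin (F.rk 0), F.deg 0 b = 0 :=
    Finset.sum_eq_zero (fun b _ => deg0_eq_zero k (Fin 3) M ℳ F hF π hπ hπg hπ1 hrk0 b)
  linarith

include hZne hI hπ hπg hker hF hlen in
theorem main15432 (t : ℕ) (h1 : F.rk 1 = t + 1) (h2 : F.rk 2 = t)
    (ha : ∀ i j : Fin (t + 1), i ≤ j →
      F.deg 1 (Fin.cast h1.symm j) ≤ F.deg 1 (Fin.cast h1.symm i))
    (hb : ∀ i j : Fin t, i ≤ j → F.deg 2 (Fin.cast h2.symm j) ≤ F.deg 2 (Fin.cast h2.symm i)) :
    (∀ i : Fin t, 1 ≤ F.deg 2 (Fin.cast h2.symm i) - F.deg 1 (Fin.cast h1.symm i.castSucc) ∧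
        1 ≤ F.deg 2 (Fin.cast h2.symm i) - F.deg 1 (Fin.cast h1.symm i.succ)) ∧
      ∑ i : Fin (t + 1), F.deg 1 (Fin.cast h1.symm i) =
        ∑ j : Fin t, F.deg 2 (Fin.cast h2.symm j) := by
  refine ⟨fun i => main_ef k (Fin 3) M ℳ F hF hlen t h1 h2 ha hb i, ?_⟩
  rw [Fin.sum_congr' (F.deg 1) h1.symm, Fin.sum_congr' (F.deg 2) h2.symm]
  exact main_sum k Z hZne I hI M ℳ π hπ hπg hker F hF hlen t h1 h2

end final

end Groth.Agent.Lib.GrHBH1
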