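import Mathlib
import Groth.Prelude.Def_GrLC
import Groth.Prelude.Def_GrSyz
import Groth.Agent.Lib.GrHB_helper1
import Groth.Agent.Lib.GrEG9_helper1

/-! The ideal of a finite set of points of the projective plane lying on a curve of degree `d`
is generated by at most `d + 1` elements (helper1). -/

set_option autoImplicit false

namespace Groth.Agent.Lib.GrHB2H1

open DirectSum Groth.Agent.Lib.GrSyzH1 Groth.Agent.Lib.GrSyz3H1 Groth.Agent.Lib.GrHBH1
  Groth.Agent.Lib.GrSyz2H1 Groth.Agent.Lib.GrConvH1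

universe u

/-! ### a counting lemma -/
section comb

theorem comb {n t : ℕ} (hn : n = t + 1) (a : Fin n → ℤ) (b : Fin t → ℤ)
    (h1 : ∀ β : ℤ, (Finset.univ.filter (fun q => b q ≤ β)).card ≤
      (Finset.univ.filter (fun p => a p < β)).card)
    (h2 : ∀ β : ℤ, (∃ p, a p < β) → (Finset.univ.filter (fun q => b q ≤ β)).card + 1 ≤
      (Finset.univ.filter (fun p => a p < β)).card)
    (hs : ∑ p, a p = ∑ q, b q) (p : Fin n) : (t : ℤ) ≤ a p := by
  classical
  haveI : Nonempty (Fin n) := ⟨⟨0, by omega⟩⟩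
  obtain ⟨p₁, -, hmin⟩ := Finset.exists_min_image Finset.univ a Finset.univ_nonempty
  have hmin' : ∀ p, a p₁ ≤ a p := fun p => hmin p (Finset.mem_univ p)
  have hn' : (n : ℤ) = t + 1 := by exact_mod_cast hn
  have hb : ∀ q, a p₁ < b q := by
    intro q
    by_contra hcon
    rw [not_lt] at hcon
    have hq : q ∈ Finset.univ.filter (fun q => b q ≤ a p₁) := by
      rw [Finset.mem_filter]
      exact ⟨Finset.mem_univ q, hcon⟩
    have hA : (Finset.univ.filter (fun p => a p < a p₁)) = ∅ := by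
      rw [Finset.filter_eq_empty_iff]
      intro p _
      exact not_lt.2 (hmin' p)
    have h := h1 (a p₁)
    rw [hA, Finset.card_empty, Nat.le_zero, Finset.card_eq_zero] at h
    rw [h] at hq
    exact absurd hq (Finset.notMem_empty q)
  have stepa : ∀ β : ℤ, ∑ p, min (a p) (β + 1) =
      ∑ p, min (a p) β + (n : ℤ) -
        ((Finset.univ.filter (fun p => a p < β + 1)).card : ℤ) := by
    intro β
    have e : ∀ p, min (a p) (β + 1) = min (a p) β + 1 - (if a p < β + 1 then 1 else 0) := by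
      intro p
      split_ifs with h
      · rw [min_eq_left (by omega), min_eq_left (by omega)]
        ring
      · rw [min_eq_right (by omega), min_eq_right (by omega)]
        ring
    rw [Finset.sum_congr rfl (fun p _ => e p), Finset.sum_sub_distrib, Finset.sum_add_distrib,
      Finset.sum_const, Finset.card_univ, Fintype.card_fin, Finset.sum_boole]
    simp
  have stepb : ∀ β : ℤ, ∑ q, min (b q) (β + 1) =
      ∑ q, min (b q) β + (t : ℤ) -
        ((Finset.univ.filter (fun q => b q ≤ β)).card : ℤ) := by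
    intro β
    have e : ∀ q, min (b q) (β + 1) = min (b q) β + 1 - (if b q ≤ β then 1 else 0) := by
      intro q
      split_ifs with h
      · rw [min_eq_left (by omega), min_eq_left (by omega)]
        ring
      · rw [min_eq_right (by omega), min_eq_right (by omega)]
        ring
    rw [Finset.sum_congr rfl (fun q _ => e q), Finset.sum_sub_distrib, Finset.sum_add_distrib,
      Finset.sum_const, Finset.card_univ, Fintype.card_fin, Finset.sum_boole]
    simp
  have key : ∀ β : ℤ, a p₁ + 1 ≤ β →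
      ∑ p, min (a p) β - ∑ q, min (b q) β +
        ((Finset.univ.filter (fun p => a p < β)).card : ℤ) ≤ a p₁ + 1 := by
    intro β hβ
    induction β, hβ using Int.le_induction with
    | base =>
      rw [stepa (a p₁), stepb (a p₁)]
      have e1 : ∑ p, min (a p) (a p₁) = (n : ℤ) * a p₁ := by
        rw [Finset.sum_congr rfl (fun p _ => min_eq_right (hmin' p)), Finset.sum_const,
          Finset.card_univ, Fintype.card_fin, nsmul_eq_mul]
      have e2 : ∑ q, min (b q) (a p₁) = (t : ℤ) * a p₁ := by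
        rw [Finset.sum_congr rfl (fun q _ => min_eq_right (le_of_lt (hb q))), Finset.sum_const,
          Finset.card_univ, Fintype.card_fin, nsmul_eq_mul]
      have e3 : ((Finset.univ.filter (fun q => b q ≤ a p₁)).card : ℤ) = 0 := by
        have : (Finset.univ.filter (fun q => b q ≤ a p₁)) = ∅ := by
          rw [Finset.filter_eq_empty_iff]
          intro q _
          exact not_le.2 (hb q)
        rw [this, Finset.card_empty, Nat.cast_zero]
      rw [e1, e2, e3, hn']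
      have : ((t : ℤ) + 1) * a p₁ + ((t : ℤ) + 1) -
          ((Finset.univ.filter (fun p => a p < a p₁ + 1)).card : ℤ) -
          ((t : ℤ) * a p₁ + (t : ℤ) - 0) +
          ((Finset.univ.filter (fun p => a p < a p₁ + 1)).card : ℤ) = a p₁ + 1 := by ring
      rw [this]
    | succ β hβ ih =>
      rw [stepa β, stepb β]
      have h := h2 β ⟨p₁, by omega⟩
      have h' : ((Finset.univ.filter (fun q => b q ≤ β)).card : ℤ) + 1 ≤
          ((Finset.univ.filter (fun p => a p < β)).card : ℤ) := by exact_mod_cast h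
      linarith
  obtain ⟨U, hUa, hUb, hUm⟩ : ∃ U : ℤ, (∀ p, a p < U) ∧ (∀ q, b q ≤ U) ∧ a p₁ + 1 ≤ U := by
    have ha : ∀ p, a p ≤ ∑ p, |a p| := fun p =>
      le_trans (le_abs_self _) (Finset.single_le_sum (f := fun p => |a p|)
        (fun p _ => abs_nonneg _) (Finset.mem_univ p))
    have hb' : ∀ q, b q ≤ ∑ q, |b q| := fun q =>
      le_trans (le_abs_self _) (Finset.single_le_sum (f := fun q => |b q|)
        (fun q _ => abs_nonneg _) (Finset.mem_univ q))
    have ha0 : 0 ≤ ∑ p, |a p| := Finset.sum_nonneg (fun p _ => abs_nonneg _)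
    have hb0 : 0 ≤ ∑ q, |b q| := Finset.sum_nonneg (fun q _ => abs_nonneg _)
    refine ⟨∑ p, |a p| + ∑ q, |b q| + 1, fun p => ?_, fun q => ?_, ?_⟩
    · linarith [ha p]
    · linarith [hb' q]
    · linarith [ha p₁]
  have hk := key U hUm
  have e1 : ∑ p, min (a p) U = ∑ p, a p :=
    Finset.sum_congr rfl (fun p _ => min_eq_left (le_of_lt (hUa p)))
  have e2 : ∑ q, min (b q) U = ∑ q, b q :=
    Finset.sum_congr rfl (fun q _ => min_eq_left (hUb q))
  have e3 : (Finset.univ.filter (fun p => a p < U)) = Finset.univ := by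
    rw [Finset.filter_eq_self]
    intro p _
    exact hUa p
  rw [e1, e2, e3, Finset.card_univ, Fintype.card_fin, hs, sub_self, zero_add] at hk
  have := hmin' p
  linarith

end comb

/-! ### homogeneous components and the standard grading -/
section poly

variable (k : Type u) [Field k] (σ : Type)

theorem mem_stdGr_of_isHomogeneous {p : MvPolynomial σ k} {n : ℕ} (hp : p.IsHomogeneous n) :
    p ∈ GrSyz.stdGr k σ (n : ℤ) := by
  intro d hd
  have h1 : Finsupp.weight (1 : σ → ℕ) d = n := hp hd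
  have h2 : Finsupp.weight (fun _ : σ => (1 : ℤ)) d =
      ((Finsupp.weight (1 : σ → ℕ) d : ℕ) : ℤ) := by
    simp [Finsupp.weight_apply, Finsupp.sum]
  rw [h2, h1]

theorem hc_of_mem {x : MvPolynomial σ k} {i : ℤ} (hx : x ∈ GrSyz.stdGr k σ i) (j : ℕ) :
    MvPolynomial.homogeneousComponent j x = if (j : ℤ) = i then x else 0 := by
  rcases lt_or_ge i 0 with hi | hi
  · rw [stdGr_neg k σ hi, Submodule.mem_bot] at hx
    rw [hx, map_zero]
    simp
  · obtain ⟨n, rfl⟩ := Int.eq_ofNat_of_zero_le hi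
    rw [MvPolynomial.homogeneousComponent_of_mem (isHomogeneous_of_mem_stdGr k σ hx)]
    simp only [Nat.cast_inj]

theorem hc_eq_decompose (f : MvPolynomial σ k) (j : ℕ) :
    MvPolynomial.homogeneousComponent j f =
      (decompose (GrSyz.stdGr k σ) f (j : ℤ) : MvPolynomial σ k) := by
  classical
  conv_lhs => rw [← DirectSum.sum_support_decompose (GrSyz.stdGr k σ) f]
  rw [map_sum, Finset.sum_congr rfl
    (fun i _ => hc_of_mem k σ (decompose (GrSyz.stdGr k σ) f i).2 j), Finset.sum_ite_eq]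
  split_ifs with h
  · rfl
  · rw [DFinsupp.notMem_support_iff] at h
    rw [h]
    rfl

theorem X_pow_mem (i : σ) (N : ℕ) :
    (MvPolynomial.X i ^ N : MvPolynomial σ k) ∈ GrSyz.stdGr k σ (N : ℤ) := by
  have hX : (MvPolynomial.X i : MvPolynomial σ k) ∈ GrSyz.stdGr k σ 1 :=
    MvPolynomial.isWeightedHomogeneous_X k (fun _ : σ => (1 : ℤ)) i
  have h := SetLike.pow_mem_graded (A := GrSyz.stdGr k σ) N hX
  rwa [nsmul_one] at h

theorem X_mem_irr (i : σ) : (MvPolynomial.X i : MvPolynomial σ k) ∈ irr k σ := by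
  have hX : (MvPolynomial.X i : MvPolynomial σ k) ∈ GrSyz.stdGr k σ 1 :=
    MvPolynomial.isWeightedHomogeneous_X k (fun _ : σ => (1 : ℤ)) i
  exact mem_irr_of_pos hX one_pos

variable (Z : Finset (σ → k)) (I : Ideal (MvPolynomial σ k))
  (hI : ∀ f : MvPolynomial σ k, f ∈ I ↔
    ∀ p ∈ Z, ∀ j : ℕ, MvPolynomial.eval p (MvPolynomial.homogeneousComponent j f) = 0)

include hI in
theorem I_homog (i : ℤ) (f : MvPolynomial σ k) (hf : f ∈ I) :
    (decompose (GrSyz.stdGr k σ) f i : MvPolynomial σ k) ∈ I := by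
  rw [hI]
  intro p hp j
  rw [hc_of_mem k σ (decompose (GrSyz.stdGr k σ) f i).2 j]
  split_ifs with h
  · subst h
    rw [← hc_eq_decompose]
    exact (hI f).1 hf p hp j
  · exact map_zero _

end poly

/-! ### the abstract setting -/
section pts

attribute [local instance] convDecomp conv_gsmul convGradedRing

variable (k : Type u) [Field k]
  (Z : Finset (Fin 3 → k)) (hZ : ∀ p ∈ Z, p ≠ 0) (hZne : Z.Nonempty)
  (I : Ideal (MvPolynomial (Fin 3) k))
  (hI : ∀ f : MvPolynomial (Fin 3) k, f ∈ I ↔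
    ∀ p ∈ Z, ∀ j : ℕ, MvPolynomial.eval p (MvPolynomial.homogeneousComponent j f) = 0)
  (M : Type u) [AddCommGroup M] [Module k M] [Module (MvPolynomial (Fin 3) k) M]
  [IsScalarTower k (MvPolynomial (Fin 3) k) M]
  (ℳ : ℤ → Submodule k M) [DirectSum.Decomposition ℳ]
  [SetLike.GradedSMul (GrSyz.stdGr k (Fin 3)) ℳ]
  (π : MvPolynomial (Fin 3) k →ₗ[MvPolynomial (Fin 3) k] M) (hπ : Function.Surjective π)
  (hπg : GrLC.IsGrHom (GrSyz.stdGr k (Fin 3)) ℳ π) (hker : LinearMap.ker π = I)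
  (F : GrSyz.FreeRes (GrSyz.stdGr k (Fin 3)) ℳ)
  (hF : F.IsMinimal (GrSyz.irrel (GrSyz.stdGr k (Fin 3))).toIdeal)

include hZ hI hπ hker in
theorem gam_eq_zero (m : M) (hm : m ∈ GrLC.gam (irr k (Fin 3)) M) : m = 0 := by
  obtain ⟨f, rfl⟩ := hπ m
  obtain ⟨N, hN⟩ := hm
  have hfI : f ∈ I := by
    rw [hI]
    intro p hp j
    obtain ⟨i, hi⟩ : ∃ i, p i ≠ 0 := by
      by_contra h
      push_neg at h
      exact hZ p hp (funext h)
    have hXN := X_pow_mem k (Fin 3) i N
    have h1 : MvPolynomial.X i ^ N * f ∈ I := by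
      rw [← hker, LinearMap.mem_ker, ← smul_eq_mul, map_smul]
      exact hN _ (Ideal.pow_mem_pow (X_mem_irr k (Fin 3) i) N)
    have h2 := (hI _).1 h1 p hp (N + j)
    have h3 : MvPolynomial.homogeneousComponent (N + j) (MvPolynomial.X i ^ N * f) =
        MvPolynomial.X i ^ N * MvPolynomial.homogeneousComponent j f := by
      rw [hc_eq_decompose, hc_eq_decompose, Nat.cast_add]
      exact DirectSum.coe_decompose_mul_add_of_left_mem (GrSyz.stdGr k (Fin 3)) hXN
    rw [h3, map_mul, map_pow, MvPolynomial.eval_X] at h2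
    exact (mul_eq_zero.1 h2).resolve_left (pow_ne_zero _ hi)
  have h : f ∈ LinearMap.ker π := by
    rw [hker]
    exact hfI
  exact LinearMap.mem_ker.1 h

include hZ hI hπ hker hF in
theorem len2 : F.HasLengthLE 2 := by
  intro i hi
  by_cases h4 : 4 ≤ i
  · exact GrEG3H1.HS k 2 (toAG ℳ) (convFree (GrSyz.stdGr k (Fin 3)) ℳ F) hF i h4
  · have hi3 : i = 3 := by omega
    subst hi3
    by_contra hne
    have hlen3 : (convFree (GrSyz.stdGr k (Fin 3)) ℳ F).HasLengthLE 3 := fun j hj =>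
      GrEG3H1.HS k 2 (toAG ℳ) (convFree (GrSyz.stdGr k (Fin 3)) ℳ F) hF j (by omega)
    obtain ⟨-, n, hn⟩ := GrEG9H1.not_van_top k 2 (toAG ℳ)
      (convFree (GrSyz.stdGr k (Fin 3)) ℳ F) hF 3 hlen3 hne
    apply hn
    intro y _
    apply GrLES4H1.Psi0_injective (GrEG1H1.sRes (toAG (GrSyz.stdGr k (Fin 3))) (toAG ℳ))
      (GrEG2H1.mm k 2)
    rw [map_zero]
    exact gam_eq_zero k Z hZ I hI M π hπ hker _
      (GrLES4H1.Psi0_mem_gam (GrEG1H1.sRes (toAG (GrSyz.stdGr k (Fin 3))) (toAG ℳ))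
        (GrEG2H1.mm k 2) y)

include hZne hI hπ hker hF in
theorem rk0 : F.rk 0 = 1 := by
  classical
  have hπ1 := pi_one_ne_zero k (Fin 3) M Z I hI π hker hZne
  have hu : ∀ u ∈ irr k (Fin 3), (1 - u) ∉ I := by
    intro u hu h1
    obtain ⟨p, hp⟩ := hZne
    have h2 := (hI _).1 h1 p hp 0
    rw [map_sub, hc_eq_decompose k _ u 0, Nat.cast_zero, decompose_zero_of_mem_irr hu,
      sub_zero] at h2
    simp [MvPolynomial.homogeneousComponent_zero] at h2
  obtain ⟨v, hv⟩ := F.aug_surjective (π 1)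
  rw [Fintype.linearCombination_apply] at hv
  choose s hs using fun b => hπ (F.aug b)
  have h1 : (1 - ∑ b, v b * s b) ∈ I := by
    rw [← hker, LinearMap.mem_ker, map_sub, map_sum, sub_eq_zero, ← hv]
    refine Finset.sum_congr rfl (fun b _ => ?_)
    rw [← hs b, ← smul_eq_mul, map_smul]
  have h2 : ∑ b, v b * s b ∉ irr k (Fin 3) := fun h => hu _ h h1
  obtain ⟨b₁, hb₁⟩ : ∃ b₁, s b₁ ∉ irr k (Fin 3) := by
    by_contra hcon
    push_neg at hcon
    exact h2 (Ideal.sum_mem _ (fun b _ => Ideal.mul_mem_left _ _ (hcon b)))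
  have hall : ∀ b, b = b₁ := by
    intro b
    by_contra hne
    have hw : (Pi.single b₁ (s b) - Pi.single b (s b₁) :
        Fin (F.rk 0) → MvPolynomial (Fin 3) k) ∈
        LinearMap.ker (Fintype.linearCombination (MvPolynomial (Fin 3) k) F.aug) := by
      rw [LinearMap.mem_ker, map_sub, Fintype.linearCombination_apply_single,
        Fintype.linearCombination_apply_single, ← hs b₁, ← hs b, ← map_smul, ← map_smul,
        smul_eq_mul, smul_eq_mul, mul_comm, sub_self]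
    rw [F.exact_zero] at hw
    have h3 := range_le_irr k 2 M ℳ F hF 0 _ hw b
    rw [Pi.sub_apply, Pi.single_eq_of_ne hne, Pi.single_eq_same, zero_sub] at h3
    exact hb₁ ((Ideal.neg_mem_iff _).1 h3)
  have hle : Fintype.card (Fin (F.rk 0)) ≤ 1 :=
    Fintype.card_le_one_iff.2 (fun a b => by rw [hall a, hall b])
  have hpos : F.rk 0 ≠ 0 := by
    intro h0
    apply hπ1
    rw [← hv]
    haveI : IsEmpty (Fin (F.rk 0)) := by
      rw [h0]
      infer_instance
    exact Finset.sum_of_isEmpty _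
  rw [Fintype.card_fin] at hle
  omega

include hI hπ hπg hker in
theorem main_c (hlen : F.HasLengthLE 2) :
    ((F.rk 0 : ℤ) - (F.rk 1 : ℤ) + (F.rk 2 : ℤ) = 0) ∧
    ((3 * (F.rk 0 : ℤ) - 2 * ∑ b : Fin (F.rk 0), F.deg 0 b) -
      (3 * (F.rk 1 : ℤ) - 2 * ∑ b : Fin (F.rk 1), F.deg 1 b) +
      (3 * (F.rk 2 : ℤ) - 2 * ∑ b : Fin (F.rk 2), F.deg 2 b) = 0) := by
  obtain ⟨D, hD⟩ : ∃ D : ℤ, ∀ i ∈ Finset.range 3, ∀ b : Fin (F.rk i), F.deg i b ≤ D := by
    refine ⟨∑ i ∈ Finset.range 3, ∑ b : Fin (F.rk i), |F.deg i b|, fun i hi b => ?_⟩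
    refine le_trans (le_abs_self _) (le_trans ?_
      (Finset.single_le_sum (f := fun i => ∑ b : Fin (F.rk i), |F.deg i b|)
        (fun i _ => Finset.sum_nonneg (fun b _ => abs_nonneg _)) hi))
    exact Finset.single_le_sum (f := fun b => |F.deg i b|) (fun b _ => abs_nonneg _)
      (Finset.mem_univ b)
  have hterm : ∀ i ∈ Finset.range 3, ∀ d : ℤ, D ≤ d →
      2 * ∑ b : Fin (F.rk i),
        (if F.deg i b ≤ d then ((Nat.choose (2 + (d - F.deg i b).toNat) 2 : ℕ) : ℤ) else 0) =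
      (F.rk i : ℤ) * d ^ 2 + (3 * (F.rk i : ℤ) - 2 * ∑ b : Fin (F.rk i), F.deg i b) * d +
        ∑ b : Fin (F.rk i), ((F.deg i b) ^ 2 - 3 * F.deg i b + 2) := by
    intro i hi d hd
    have hb : ∀ b : Fin (F.rk i),
        2 * (if F.deg i b ≤ d then ((Nat.choose (2 + (d - F.deg i b).toNat) 2 : ℕ) : ℤ) else 0) =
        d ^ 2 + (3 * d - 2 * d * F.deg i b) + ((F.deg i b) ^ 2 - 3 * F.deg i b + 2) := by
      intro b
      have hle : F.deg i b ≤ d := le_trans (hD i hi b) hd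
      rw [if_pos hle]
      have e := two_mul_choose (d - F.deg i b).toNat
      rw [Int.toNat_of_nonneg (by linarith)] at e
      rw [e]
      ring
    rw [Finset.mul_sum, Finset.sum_congr rfl (fun b _ => hb b), Finset.sum_add_distrib,
      Finset.sum_add_distrib, Finset.sum_sub_distrib, Finset.sum_const, Finset.sum_const,
      Finset.card_univ, Fintype.card_fin, ← Finset.mul_sum]
    simp only [nsmul_eq_mul]
    ring
  have key : ∀ d : ℤ, D ≤ d → 2 * (Module.finrank k ↥(ℳ d) : ℤ) =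
      ((F.rk 0 : ℤ) - (F.rk 1 : ℤ) + (F.rk 2 : ℤ)) * d ^ 2 +
      ((3 * (F.rk 0 : ℤ) - 2 * ∑ b : Fin (F.rk 0), F.deg 0 b) -
        (3 * (F.rk 1 : ℤ) - 2 * ∑ b : Fin (F.rk 1), F.deg 1 b) +
        (3 * (F.rk 2 : ℤ) - 2 * ∑ b : Fin (F.rk 2), F.deg 2 b)) * d +
      ((∑ b : Fin (F.rk 0), ((F.deg 0 b) ^ 2 - 3 * F.deg 0 b + 2)) -
        (∑ b : Fin (F.rk 1), ((F.deg 1 b) ^ 2 - 3 * F.deg 1 b + 2)) +
        (∑ b : Fin (F.rk 2), ((F.deg 2 b) ^ 2 - 3 * F.deg 2 b + 2))) := by
    intro d hd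
    have hm := main15428 k 2 M ℳ F 2 hlen d
    have t0 := hterm 0 (by simp) d hd
    have t1 := hterm 1 (by simp) d hd
    have t2 := hterm 2 (by simp) d hd
    rw [hm, Finset.sum_range_succ, Finset.sum_range_succ, Finset.sum_range_succ,
      Finset.sum_range_zero]
    linarith [t0, t1, t2]
  have hbound : ∀ d : ℤ, D ≤ d →
      0 ≤ ((F.rk 0 : ℤ) - (F.rk 1 : ℤ) + (F.rk 2 : ℤ)) * d ^ 2 +
      ((3 * (F.rk 0 : ℤ) - 2 * ∑ b : Fin (F.rk 0), F.deg 0 b) -
        (3 * (F.rk 1 : ℤ) - 2 * ∑ b : Fin (F.rk 1), F.deg 1 b) +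
        (3 * (F.rk 2 : ℤ) - 2 * ∑ b : Fin (F.rk 2), F.deg 2 b)) * d +
      ((∑ b : Fin (F.rk 0), ((F.deg 0 b) ^ 2 - 3 * F.deg 0 b + 2)) -
        (∑ b : Fin (F.rk 1), ((F.deg 1 b) ^ 2 - 3 * F.deg 1 b + 2)) +
        (∑ b : Fin (F.rk 2), ((F.deg 2 b) ^ 2 - 3 * F.deg 2 b + 2))) ∧
      ((F.rk 0 : ℤ) - (F.rk 1 : ℤ) + (F.rk 2 : ℤ)) * d ^ 2 +
      ((3 * (F.rk 0 : ℤ) - 2 * ∑ b : Fin (F.rk 0), F.deg 0 b) -
        (3 * (F.rk 1 : ℤ) - 2 * ∑ b : Fin (F.rk 1), F.deg 1 b) +
        (3 * (F.rk 2 : ℤ) - 2 * ∑ b : Fin (F.rk 2), F.deg 2 b)) * d +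
      ((∑ b : Fin (F.rk 0), ((F.deg 0 b) ^ 2 - 3 * F.deg 0 b + 2)) -
        (∑ b : Fin (F.rk 1), ((F.deg 1 b) ^ 2 - 3 * F.deg 1 b + 2)) +
        (∑ b : Fin (F.rk 2), ((F.deg 2 b) ^ 2 - 3 * F.deg 2 b + 2))) ≤ 2 * (Z.card : ℤ) := by
    intro d hd
    rw [← key d hd]
    have hle := finrank_le_card k (Fin 3) M ℳ Z I hI π hπ hπg hker d
    have hle' : (Module.finrank k ↥(ℳ d) : ℤ) ≤ (Z.card : ℤ) := by exact_mod_cast hle
    have hnn : (0 : ℤ) ≤ (Module.finrank k ↥(ℳ d) : ℤ) := Int.natCast_nonneg _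
    constructor <;> linarith
  exact quad_bounded (by positivity) hbound

include hF in
theorem count1 (hlen : F.HasLengthLE 2) (β : ℤ) :
    (Finset.univ.filter (fun q : Fin (F.rk 2) => F.deg 2 q ≤ β)).card ≤
      (Finset.univ.filter (fun p : Fin (F.rk 1) => F.deg 1 p < β)).card := by
  classical
  refine card_le_of_support (n := F.rk 1) (m := F.rk 2) (F.d 1)
    (inj_d1 k (Fin 3) M ℳ F hlen) _ _ ?_
  intro p hp q hq
  rw [Finset.mem_filter] at hp hq
  have hp' : β ≤ F.deg 1 p := by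
    by_contra h
    exact hp ⟨Finset.mem_univ p, not_le.1 h⟩
  have hm : F.d 1 p q ∈ GrSyz.stdGr k (Fin 3) (F.deg 2 q - F.deg 1 p) := F.d_mem 1 p q
  exact entry_zero hm (by linarith [hq.2]) (hF 1 p q)

include hF in
theorem count2 (hlen : F.HasLengthLE 2) (β : ℤ) (hex : ∃ p : Fin (F.rk 1), F.deg 1 p < β) :
    (Finset.univ.filter (fun q : Fin (F.rk 2) => F.deg 2 q ≤ β)).card + 1 ≤
      (Finset.univ.filter (fun p : Fin (F.rk 1) => F.deg 1 p < β)).card := by
  classical
  obtain ⟨p0, hp0⟩ := hex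
  obtain ⟨b0, hb0⟩ := exists_ne_zero k (Fin 3) M ℳ F hF p0
  refine card_succ_le_of_support (n := F.rk 1) (m := F.rk 2) (F.d 1)
    (inj_d1 k (Fin 3) M ℳ F hlen) _ _ ?_ (fun p => F.d 0 b0 p)
    (fun q => rel_d0_d1 k (Fin 3) M ℳ F b0 q) p0
    (by rw [Finset.mem_filter]; exact ⟨Finset.mem_univ _, hp0⟩) hb0
  intro p hp q hq
  rw [Finset.mem_filter] at hp hq
  have hp' : β ≤ F.deg 1 p := by
    by_contra h
    exact hp ⟨Finset.mem_univ p, not_le.1 h⟩
  have hm : F.d 1 p q ∈ GrSyz.stdGr k (Fin 3) (F.deg 2 q - F.deg 1 p) := F.d_mem 1 p q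
  exact entry_zero hm (by linarith [hq.2]) (hF 1 p q)

include hπ hker in
theorem exists_comb (b0 : Fin (F.rk 0)) (f : MvPolynomial (Fin 3) k) (hfI : f ∈ I) :
    ∃ w : Fin (F.rk 1) → MvPolynomial (Fin 3) k, ∑ p, F.d 0 b0 p * w p = f := by
  classical
  obtain ⟨s₀, hs₀⟩ := hπ (F.aug b0)
  have hf0 : π f = 0 := by
    have h : f ∈ LinearMap.ker π := by
      rw [hker]
      exact hfI
    exact LinearMap.mem_ker.1 h
  have hk : (Pi.single b0 f : Fin (F.rk 0) → MvPolynomial (Fin 3) k) ∈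
      LinearMap.ker (Fintype.linearCombination (MvPolynomial (Fin 3) k) F.aug) := by
    rw [LinearMap.mem_ker, Fintype.linearCombination_apply_single, ← hs₀, ← map_smul, smul_eq_mul,
      mul_comm, ← smul_eq_mul, map_smul, hf0, smul_zero]
  rw [F.exact_zero] at hk
  obtain ⟨w, hw⟩ := hk
  refine ⟨w, ?_⟩
  have h := congrFun hw b0
  rw [Pi.single_eq_same] at h
  exact h

include hπ hker in
theorem exists_deg_le (hrk0 : F.rk 0 = 1) (hdeg0 : ∀ b, F.deg 0 b = 0) (d : ℕ)
    (f : MvPolynomial (Fin 3) k) (hfI : f ∈ I) (hfh : f.IsHomogeneous d) (hf0 : f ≠ 0) :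
    ∃ p : Fin (F.rk 1), F.deg 1 p ≤ d := by
  by_contra hcon
  push_neg at hcon
  apply hf0
  have b0 : Fin (F.rk 0) := ⟨0, by omega⟩
  obtain ⟨w, hw⟩ := exists_comb k I M ℳ π hπ hker F b0 f hfI
  have hfd := mem_stdGr_of_isHomogeneous k (Fin 3) hfh
  have e : (decompose (GrSyz.stdGr k (Fin 3)) (∑ p, F.d 0 b0 p * w p) (d : ℤ) :
      MvPolynomial (Fin 3) k) = 0 := by
    rw [coe_decompose_sum']
    refine Finset.sum_eq_zero (fun p _ => ?_)
    have hm : F.d 0 b0 p ∈ GrSyz.stdGr k (Fin 3) (F.deg 1 p - F.deg 0 b0) := F.d_mem 0 b0 p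
    have hd : (d : ℤ) = (F.deg 1 p - F.deg 0 b0) + ((d : ℤ) - F.deg 1 p) := by
      rw [hdeg0]
      ring
    have hbot : ∀ x ∈ GrSyz.stdGr k (Fin 3) ((d : ℤ) - F.deg 1 p), x = 0 := fun x hx => by
      rw [stdGr_neg k (Fin 3) (by linarith [hcon p])] at hx
      exact (Submodule.mem_bot k).1 hx
    rw [hd, DirectSum.coe_decompose_mul_add_of_left_mem (GrSyz.stdGr k (Fin 3)) hm,
      hbot _ (decompose (GrSyz.stdGr k (Fin 3)) (w p) ((d : ℤ) - F.deg 1 p)).2, mul_zero]
  rw [hw, decompose_of_mem_same _ hfd] at e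
  exact e

include hπ hker in
theorem I_eq_span (hrk0 : F.rk 0 = 1) (b0 : Fin (F.rk 0)) :
    I = Ideal.span (Set.range (fun p : Fin (F.rk 1) => F.d 0 b0 p)) := by
  classical
  apply le_antisymm
  · intro f hf
    obtain ⟨w, hw⟩ := exists_comb k I M ℳ π hπ hker F b0 f hf
    rw [← hw]
    exact Ideal.sum_mem _ (fun p _ => Ideal.mul_mem_right _ _ (Ideal.subset_span ⟨p, rfl⟩))
  · rw [Ideal.span_le]
    rintro _ ⟨p, rfl⟩
    show F.d 0 b0 p ∈ I
    rw [← hker, LinearMap.mem_ker]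
    have hall : ∀ b : Fin (F.rk 0), b = b0 := fun b => Fin.ext (by
      have := b.2
      have := b0.2
      omega)
    obtain ⟨v, hv⟩ := F.aug_surjective (π 1)
    rw [Fintype.linearCombination_apply] at hv
    have h0 : F.d 0 b0 p • F.aug b0 = 0 := by
      have h1 : (F.d 0).mulVec (Pi.single p 1) ∈ LinearMap.range (Matrix.mulVecLin (F.d 0)) :=
        ⟨Pi.single p 1, rfl⟩
      rw [← F.exact_zero, LinearMap.mem_ker, Fintype.linearCombination_apply,
        mulVec_single_one'] at h1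
      rw [Fintype.sum_eq_single b0 (fun b hb => absurd (hall b) hb)] at h1
      exact h1
    have h2 : π (F.d 0 b0 p) = F.d 0 b0 p • π 1 := by
      rw [← map_smul, smul_eq_mul, mul_one]
    rw [h2, ← hv, Fintype.sum_eq_single b0 (fun b hb => absurd (hall b) hb), smul_comm, h0,
      smul_zero]

include hZ hZne hI hπ hπg hker hF in
theorem main_abs (d : ℕ) (f : MvPolynomial (Fin 3) k) (hfI : f ∈ I) (hfh : f.IsHomogeneous d)
    (hf0 : f ≠ 0) : Submodule.spanFinrank I ≤ d + 1 := by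
  classical
  have hlen := len2 k Z hZ I hI M ℳ π hπ hker F hF
  have hrk0 := rk0 k Z hZne I hI M ℳ π hπ hker F hF
  obtain ⟨hc2, hc1⟩ := main_c k Z I hI M ℳ π hπ hπg hker F hlen
  have hπ1 := pi_one_ne_zero k (Fin 3) M Z I hI π hker hZne
  have hdeg0 : ∀ b, F.deg 0 b = 0 := fun b =>
    deg0_eq_zero k (Fin 3) M ℳ F hF π hπ hπg hπ1 hrk0 b
  have hA0 : ∑ b : Fin (F.rk 0), F.deg 0 b = 0 := Finset.sum_eq_zero (fun b _ => hdeg0 b)
  have hrk0' : (F.rk 0 : ℤ) = 1 := by exact_mod_cast hrk0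
  have h1' : (F.rk 1 : ℤ) = F.rk 2 + 1 := by linarith
  have h1 : F.rk 1 = F.rk 2 + 1 := by exact_mod_cast h1'
  have hsum : ∑ p : Fin (F.rk 1), F.deg 1 p = ∑ q : Fin (F.rk 2), F.deg 2 q := by linarith
  have hcomb := comb h1 (F.deg 1) (F.deg 2) (count1 k M ℳ F hF hlen) (count2 k M ℳ F hF hlen) hsum
  obtain ⟨p, hp⟩ := exists_deg_le k I M ℳ π hπ hker F hrk0 hdeg0 d f hfI hfh hf0
  have ht : (F.rk 2 : ℤ) ≤ d := le_trans (hcomb p) hp
  have ht' : F.rk 2 ≤ d := by exact_mod_cast ht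
  have b0 : Fin (F.rk 0) := ⟨0, by omega⟩
  rw [I_eq_span k I M ℳ π hπ hker F hrk0 b0]
  show Submodule.spanFinrank (Submodule.span (MvPolynomial (Fin 3) k)
    (Set.range (fun p : Fin (F.rk 1) => F.d 0 b0 p))) ≤ d + 1
  refine le_trans (Submodule.spanFinrank_span_le_ncard_of_finite (Set.finite_range _)) ?_
  have hcard : (Set.range (fun p : Fin (F.rk 1) => F.d 0 b0 p)).ncard ≤ F.rk 1 := by
    rw [← Set.image_univ]
    refine le_trans (Set.ncard_image_le Set.finite_univ) ?_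
    rw [Set.ncard_univ, Nat.card_eq_fintype_card, Fintype.card_fin]
  omega

end pts

/-! ### transport of a decomposition along an equality of pieces -/
section transport

variable {ι : Type} [DecidableEq ι] {X : Type u} [AddCommGroup X]
  (𝒳 : ι → AddSubgroup X) [Decomposition 𝒳]
  {τ : Type u} [SetLike τ X] [AddSubgroupClass τ X] (𝒴 : ι → τ)
  (h : ∀ i x, x ∈ 𝒴 i ↔ x ∈ 𝒳 i)

/-- the component maps -/
def trComp (i : ι) : 𝒳 i →+ 𝒴 i where
  toFun x := ⟨x.1, (h i x.1).2 x.2⟩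
  map_zero' := Subtype.ext rfl
  map_add' _ _ := Subtype.ext rfl

/-- a family of subobjects with the same underlying sets as a decomposition is a decomposition -/
noncomputable def transportDecomp : Decomposition 𝒴 :=
  Decomposition.ofAddHom _
    ((DirectSum.map (trComp 𝒳 𝒴 h)).comp (decomposeAddEquiv 𝒳).toAddMonoidHom)
    (by
      apply AddMonoidHom.ext
      intro x
      rw [AddMonoidHom.comp_apply, AddMonoidHom.comp_apply, AddMonoidHom.id_apply]
      change DirectSum.coeAddMonoidHom 𝒴 (DirectSum.map (trComp 𝒳 𝒴 h) (decompose 𝒳 x)) = x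
      induction x using DirectSum.Decomposition.inductionOn 𝒳 with
      | zero => simp
      | @homogeneous i m =>
        rw [decompose_coe, DirectSum.map_of, DirectSum.coeAddMonoidHom_of]
        rfl
      | add m m' hm hm' => rw [decompose_add, map_add, map_add, hm, hm'])
    (by
      apply DirectSum.addHom_ext
      rintro i ⟨y, hy⟩
      rw [AddMonoidHom.comp_apply, AddMonoidHom.comp_apply, DirectSum.coeAddMonoidHom_of,
        AddMonoidHom.id_apply]
      change DirectSum.map (trComp 𝒳 𝒴 h) (decompose 𝒳 y) = _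
      rw [decompose_of_mem 𝒳 ((h i y).1 hy), DirectSum.map_of]
      rfl)

end transport

/-! ### the quotient by the ideal, as a graded module with vector-space pieces -/
section quotient

attribute [local instance] convDecomp conv_gsmul convGradedRing

variable (k : Type u) [Field k] (σ : Type) (I : Ideal (MvPolynomial σ k))

/-- the pieces of the quotient ring -/
noncomputable def qGr (n : ℤ) : Submodule k (MvPolynomial σ k ⧸ I) :=
  (GrSyz.stdGr k σ n).map ((Submodule.mkQ I).restrictScalars k)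

theorem mem_qGr (n : ℤ) (x : MvPolynomial σ k ⧸ I) :
    x ∈ qGr k σ I n ↔
      x ∈ GrStar2H1.quotGr (toAG (GrSyz.stdGr k σ)) I n := by
  constructor
  · rintro ⟨m, hm, rfl⟩
    exact ⟨m, hm, rfl⟩
  · rintro ⟨m, hm, rfl⟩
    exact ⟨m, hm, rfl⟩

/-- the decomposition of the quotient -/
noncomputable def qDecomp (hI : ∀ (i : ℤ) (f : MvPolynomial σ k), f ∈ I →
    (decompose (GrSyz.stdGr k σ) f i : MvPolynomial σ k) ∈ I) : Decomposition (qGr k σ I) :=
  letI := GrStar2H1.quotDecomp (toAG (GrSyz.stdGr k σ)) (I : Submodule (MvPolynomial σ k) _)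
    (fun i f hf => by
      rw [coe_decompose_conv]
      exact hI i f hf)
  transportDecomp (GrStar2H1.quotGr (toAG (GrSyz.stdGr k σ)) I) (qGr k σ I) (mem_qGr k σ I)

theorem q_gsmul : SetLike.GradedSMul (GrSyz.stdGr k σ) (qGr k σ I) where
  smul_mem := by
    rintro i j r _ hr ⟨m, hm, rfl⟩
    refine ⟨r * m, SetLike.GradedMul.mul_mem hr hm, ?_⟩
    show (Submodule.mkQ I) (r * m) = r • (Submodule.mkQ I) m
    rw [← smul_eq_mul, map_smul]

end quotient

/-! ### the statement -/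
section final

theorem main12914 (k : Type u) [Field k]
    (Z : Finset (Fin 3 → k)) (hZ : ∀ p ∈ Z, p ≠ 0) (I : Ideal (MvPolynomial (Fin 3) k))
    (hI : ∀ f : MvPolynomial (Fin 3) k, f ∈ I ↔
      ∀ p ∈ Z, ∀ j : ℕ, MvPolynomial.eval p (MvPolynomial.homogeneousComponent j f) = 0)
    (d : ℕ) (hf : ∃ f ∈ I, MvPolynomial.IsHomogeneous f d ∧ f ≠ 0) :
    Submodule.spanFinrank I ≤ d + 1 := by
  rcases Z.eq_empty_or_nonempty with hZe | hZne
  · have htop : I = Ideal.span {1} := by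
      rw [Ideal.span_singleton_one, eq_top_iff]
      intro f _
      rw [hI]
      intro p hp
      rw [hZe] at hp
      exact absurd hp (Finset.notMem_empty p)
    rw [htop]
    show Submodule.spanFinrank (Submodule.span (MvPolynomial (Fin 3) k) {1}) ≤ d + 1
    refine le_trans (Submodule.spanFinrank_span_le_ncard_of_finite (Set.finite_singleton _)) ?_
    rw [Set.ncard_singleton]
    omega
  · obtain ⟨f, hfI, hfh, hf0⟩ := hf
    letI : Decomposition (qGr k (Fin 3) I) := qDecomp k (Fin 3) I (I_homog k (Fin 3) Z I hI)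
    haveI : SetLike.GradedSMul (GrSyz.stdGr k (Fin 3)) (qGr k (Fin 3) I) := q_gsmul k (Fin 3) I
    obtain ⟨F, hF⟩ := main15416 k 2 (MvPolynomial (Fin 3) k ⧸ I) (qGr k (Fin 3) I)
    exact main_abs k Z hZ hZne I hI (MvPolynomial (Fin 3) k ⧸ I) (qGr k (Fin 3) I)
      (Submodule.mkQ I) (Submodule.mkQ_surjective I)
      (fun g m hm => ⟨m, hm, rfl⟩) (Submodule.ker_mkQ I) F hF d f hfI hfh hf0

end final

end Groth.Agent.Lib.GrHB2H1
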