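import Mathlib
import Groth.Prelude.Def_GrLC
import Groth.Prelude.Def_GrSyz
import Groth.Agent.Lib.GrHB2_helper1

/-! The ideal of a finite set of points of the projective plane has a free resolution of length
one (helper1). -/

set_option autoImplicit false

namespace Groth.Agent.Lib.GrHB3H1

open DirectSum Groth.Agent.Lib.GrSyzH1 Groth.Agent.Lib.GrSyz3H1 Groth.Agent.Lib.GrHBH1
  Groth.Agent.Lib.GrSyz2H1 Groth.Agent.Lib.GrConvH1 Groth.Agent.Lib.GrHB2H1

universe u

section pts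

variable (k : Type u) [Field k]
  (Z : Finset (Fin 3 → k)) (hZ : ∀ p ∈ Z, p ≠ 0) (hZne : Z.Nonempty)
  (I : Ideal (MvPolynomial (Fin 3) k))
  (hI : ∀ f : MvPolynomial (Fin 3) k, f ∈ I ↔
    ∀ p ∈ Z, ∀ j : ℕ, MvPolynomial.eval p (MvPolynomial.homogeneousComponent j f) = 0)
  (M : Type u) [AddCommGroup M] [Module k M] [Module (MvPolynomial (Fin 3) k) M]
  [IsScalarTower k (MvPolynomial (Fin 3) k) M]
  (ℳ : ℤ → Submodule k M) [DirectSum.Decomposition ℳ]
  [SetLike.GradedSMul (GrSyz.stdGr k (Fin 3)) ℳ]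
  (π : MvPolynomial (Fin 3) k →ₗ[MvPolynomial (Fin 3) k] M) (hπ : Function.Surjective π)
  (hπg : GrLC.IsGrHom (GrSyz.stdGr k (Fin 3)) ℳ π) (hker : LinearMap.ker π = I)
  (F : GrSyz.FreeRes (GrSyz.stdGr k (Fin 3)) ℳ)
  (hF : F.IsMinimal (GrSyz.irrel (GrSyz.stdGr k (Fin 3))).toIdeal)

include hZ hZne hI hπ hπg hker hF in
theorem main_abs17 :
    ∃ (t : ℕ) (Ψ : Matrix (Fin (t + 1)) (Fin t) (MvPolynomial (Fin 3) k))
      (π' : (Fin (t + 1) → MvPolynomial (Fin 3) k) →ₗ[MvPolynomial (Fin 3) k]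
        MvPolynomial (Fin 3) k),
      LinearMap.ker Ψ.mulVecLin = ⊥ ∧ LinearMap.ker π' = LinearMap.range Ψ.mulVecLin ∧
        LinearMap.range π' = I := by
  classical
  have hlen := len2 k Z hZ I hI M ℳ π hπ hker F hF
  have hrk0 := rk0 k Z hZne I hI M ℳ π hπ hker F hF
  obtain ⟨hc2, -⟩ := main_c k Z I hI M ℳ π hπ hπg hker F hlen
  have hrk0' : (F.rk 0 : ℤ) = 1 := by exact_mod_cast hrk0
  have h1' : (F.rk 1 : ℤ) = F.rk 2 + 1 := by linarith
  have h1 : F.rk 1 = F.rk 2 + 1 := by exact_mod_cast h1'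
  have b0 : Fin (F.rk 0) := ⟨0, by omega⟩
  have hall : ∀ b : Fin (F.rk 0), b = b0 := fun b => Fin.ext (by
    have := b.2
    have := b0.2
    omega)
  let e : Fin (F.rk 2 + 1) ≃ Fin (F.rk 1) := finCongr h1.symm
  refine ⟨F.rk 2, fun i j => F.d 1 (e i) j,
    Fintype.linearCombination (MvPolynomial (Fin 3) k) (fun i => F.d 0 b0 (e i)), ?_, ?_, ?_⟩
  · rw [LinearMap.ker_eq_bot']
    intro c hc
    apply inj_d1 k (Fin 3) M ℳ F hlen c
    funext p
    have h := congrFun hc (e.symm p)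
    change ∑ j, F.d 1 (e (e.symm p)) j * c j = 0 at h
    rw [Equiv.apply_symm_apply] at h
    exact h
  · ext v
    rw [LinearMap.mem_ker, LinearMap.mem_range, Fintype.linearCombination_apply]
    constructor
    · intro hv
      have hv' : (fun p => v (e.symm p)) ∈ LinearMap.ker (Matrix.mulVecLin (F.d 0)) := by
        rw [LinearMap.mem_ker]
        funext b
        rw [hall b]
        show ∑ p, F.d 0 b0 p * v (e.symm p) = 0
        rw [← Equiv.sum_comp e (fun p => F.d 0 b0 p * v (e.symm p)), ← hv]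
        refine Finset.sum_congr rfl (fun i _ => ?_)
        rw [Equiv.symm_apply_apply, smul_eq_mul, mul_comm]
      rw [F.exact_succ 0] at hv'
      obtain ⟨c, hc⟩ := hv'
      refine ⟨c, ?_⟩
      funext i
      have h := congrFun hc (e i)
      rw [Equiv.symm_apply_apply] at h
      exact h
    · rintro ⟨c, rfl⟩
      have h2 : (F.d 1).mulVec c ∈ LinearMap.ker (Matrix.mulVecLin (F.d 0)) := by
        rw [F.exact_succ 0]
        exact ⟨c, rfl⟩
      rw [LinearMap.mem_ker] at h2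
      have h3 := congrFun h2 b0
      change ∑ p, F.d 0 b0 p * ((F.d 1).mulVec c) p = 0 at h3
      rw [← Equiv.sum_comp e (fun p => F.d 0 b0 p * ((F.d 1).mulVec c) p)] at h3
      rw [← h3]
      refine Finset.sum_congr rfl (fun i _ => ?_)
      rw [smul_eq_mul, mul_comm]
      rfl
  · rw [Fintype.range_linearCombination, I_eq_span k I M ℳ π hπ hker F hrk0 b0]
    show Submodule.span _ (Set.range ((fun p => F.d 0 b0 p) ∘ e)) = _
    rw [e.surjective.range_comp]

end pts

section final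

theorem main12917 (k : Type u) [Field k]
    (Z : Finset (Fin 3 → k)) (hZ : ∀ p ∈ Z, p ≠ 0) (I : Ideal (MvPolynomial (Fin 3) k))
    (hI : ∀ f : MvPolynomial (Fin 3) k, f ∈ I ↔
      ∀ p ∈ Z, ∀ j : ℕ, MvPolynomial.eval p (MvPolynomial.homogeneousComponent j f) = 0) :
    ∃ (t : ℕ) (Ψ : Matrix (Fin (t + 1)) (Fin t) (MvPolynomial (Fin 3) k))
      (π : (Fin (t + 1) → MvPolynomial (Fin 3) k) →ₗ[MvPolynomial (Fin 3) k]
        MvPolynomial (Fin 3) k),
      LinearMap.ker Ψ.mulVecLin = ⊥ ∧ LinearMap.ker π = LinearMap.range Ψ.mulVecLin ∧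
        LinearMap.range π = I := by
  rcases Z.eq_empty_or_nonempty with hZe | hZne
  · have htop : I = ⊤ := by
      rw [eq_top_iff]
      intro f _
      rw [hI]
      intro p hp
      rw [hZe] at hp
      exact absurd hp (Finset.notMem_empty p)
    refine ⟨0, 0, LinearMap.proj 0, ?_, ?_, ?_⟩
    · rw [LinearMap.ker_eq_bot]
      intro a b _
      exact Subsingleton.elim a b
    · ext v
      rw [LinearMap.mem_ker, LinearMap.mem_range]
      constructor
      · intro hv
        refine ⟨0, ?_⟩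
        rw [map_zero]
        funext i
        have hi : i = 0 := Fin.ext (by have := i.2; omega)
        rw [hi]
        exact hv.symm
      · rintro ⟨c, rfl⟩
        rw [Subsingleton.elim c 0, map_zero, map_zero]
    · rw [htop, LinearMap.range_eq_top]
      intro s
      exact ⟨fun _ => s, rfl⟩
  · letI : Decomposition (qGr k (Fin 3) I) := qDecomp k (Fin 3) I (I_homog k (Fin 3) Z I hI)
    haveI : SetLike.GradedSMul (GrSyz.stdGr k (Fin 3)) (qGr k (Fin 3) I) := q_gsmul k (Fin 3) I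
    obtain ⟨F, hF⟩ := main15416 k 2 (MvPolynomial (Fin 3) k ⧸ I) (qGr k (Fin 3) I)
    exact main_abs17 k Z hZ hZne I hI (MvPolynomial (Fin 3) k ⧸ I) (qGr k (Fin 3) I)
      (Submodule.mkQ I) (Submodule.mkQ_surjective I)
      (fun g m hm => ⟨m, hm, rfl⟩) (Submodule.ker_mkQ I) F hF

end final

end Groth.Agent.Lib.GrHB3H1
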