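import Mathlib

/-!
# Graded Jordan normal form of a homogeneous nilpotent endomorphism
-/

set_option autoImplicit false
universe u v w

namespace Groth.Agent.Lib.GrJordanH3

open Module

section

variable {k : Type u} [Field k] {Λ : Type v} [AddCommGroup Λ] [DecidableEq Λ]
  {V : Type w} [AddCommGroup V] [Module k V]
  (𝒱 : Λ → Submodule k V) [DirectSum.Decomposition 𝒱]
  (A : Module.End k V) (χ : Λ)

/-- Projection to the `μ`-component. -/
noncomputable def proj (μ : Λ) : V →ₗ[k] V :=
  (𝒱 μ).subtype ∘ₗ DirectSum.component k Λ (fun i => 𝒱 i) μ ∘ₗ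
    (DirectSum.decomposeLinearEquiv 𝒱).toLinearMap

theorem proj_apply (μ : Λ) (x : V) : proj 𝒱 μ x = (DirectSum.decompose 𝒱 x μ : V) := rfl

theorem proj_mem (μ : Λ) (x : V) : proj 𝒱 μ x ∈ 𝒱 μ := (DirectSum.decompose 𝒱 x μ).2

theorem proj_same {μ : Λ} {x : V} (hx : x ∈ 𝒱 μ) : proj 𝒱 μ x = x :=
  DirectSum.decompose_of_mem_same 𝒱 hx

theorem proj_ne {μ ν : Λ} {x : V} (hx : x ∈ 𝒱 ν) (h : ν ≠ μ) : proj 𝒱 μ x = 0 :=
  DirectSum.decompose_of_mem_ne 𝒱 hx h

theorem sum_proj (x : V) : ∃ s : Finset Λ, ∑ μ ∈ s, proj 𝒱 μ x = x := by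
  classical
  exact ⟨_, DirectSum.sum_support_decompose 𝒱 x⟩

/-- Homogeneous (graded) submodules. -/
def IsGr (C : Submodule k V) : Prop := ∀ μ, ∀ x ∈ C, proj 𝒱 μ x ∈ C

/-- The family of Jordan chains attached to top vectors `u i` and lengths `n i`. -/
def chainFam {ι : Type*} (u : ι → V) (n : ι → ℕ) : (Σ i : ι, Fin (n i + 1)) → V :=
  fun p => (A ^ (n p.1 - (p.2 : ℕ))) (u p.1)

theorem antitri {x : V} {m' : ℕ} (hv : (A ^ (m' + 1)) x = 0) (φ : V →ₗ[k] k)
    (hφ : φ ((A ^ m') x) ≠ 0) (c : Fin (m' + 1) → k)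
    (hc : ∀ j : Fin (m' + 1), φ ((A ^ (j : ℕ)) (∑ i, c i • (A ^ (i : ℕ)) x)) = 0) : c = 0 := by
  have key : ∀ (j : ℕ) (hj : j < m' + 1), c ⟨j, hj⟩ = 0 := by
    intro j
    induction j using Nat.strong_induction_on with
    | _ j ih =>
      intro hj
      have h1 := hc ⟨m' - j, by omega⟩
      simp only [map_sum, map_smul, smul_eq_mul] at h1
      rw [Finset.sum_eq_single ⟨j, hj⟩] at h1
      · rw [← Module.End.mul_apply, ← pow_add, Nat.sub_add_cancel (by omega)] at h1
        exact (mul_eq_zero.mp h1).resolve_right hφ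
      · intro i _ hij
        rcases lt_or_gt_of_ne (show (i : ℕ) ≠ j from fun h => hij (Fin.ext h)) with h | h
        · have := ih i h i.2
          rw [Fin.eta] at this
          rw [this, zero_mul]
        · have h0 : (A ^ (m' - j)) ((A ^ (i : ℕ)) x) = 0 := by
            rw [← Module.End.mul_apply, ← pow_add]
            have he : m' - j + i = (m' - j + i - (m' + 1)) + (m' + 1) := by omega
            rw [he, pow_add, Module.End.mul_apply, hv, map_zero]
          rw [h0, map_zero, mul_zero]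
      · intro h
        exact absurd (Finset.mem_univ _) h
  funext j
  exact key j j.2

variable (hhom : ∀ (μ : Λ) (x : V), x ∈ 𝒱 μ → A x ∈ 𝒱 (μ + χ))
include hhom

theorem comm (μ : Λ) : A ∘ₗ proj 𝒱 μ = proj 𝒱 (μ + χ) ∘ₗ A := by
  apply DirectSum.decompose_lhom_ext 𝒱
  intro ν
  ext ⟨x, hx⟩
  simp only [LinearMap.comp_apply, Submodule.subtype_apply]
  by_cases h : ν = μ
  · subst h
    rw [proj_same 𝒱 hx, proj_same 𝒱 (hhom _ _ hx)]
  · rw [proj_ne 𝒱 hx h, map_zero, proj_ne 𝒱 (hhom _ _ hx) (by simpa using h)]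

theorem pow_mem (j : ℕ) {μ : Λ} {x : V} (hx : x ∈ 𝒱 μ) : (A ^ j) x ∈ 𝒱 (μ + j • χ) := by
  induction j with
  | zero => simpa using hx
  | succ j ih =>
    rw [pow_succ', Module.End.mul_apply]
    have h := hhom _ _ ih
    have he : μ + (j + 1) • χ = μ + j • χ + χ := by rw [succ_nsmul, add_assoc]
    rw [he]
    exact h

theorem pow_comm (j : ℕ) (μ : Λ) (x : V) :
    (A ^ j) (proj 𝒱 μ x) = proj 𝒱 (μ + j • χ) ((A ^ j) x) := by
  induction j with
  | zero => simp
  | succ j ih =>
    rw [pow_succ', Module.End.mul_apply, Module.End.mul_apply, ih]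
    have h := LinearMap.congr_fun (comm 𝒱 A χ hhom (μ + j • χ)) ((A ^ j) x)
    simp only [LinearMap.comp_apply] at h
    rw [h, succ_nsmul, add_assoc]

theorem exists_chains [FiniteDimensional k V] (hA : IsNilpotent A) :
    ∀ (d : ℕ) (C : Submodule k V), finrank k C = d → (∀ x ∈ C, A x ∈ C) → IsGr 𝒱 C →
      ∃ (ι : Type w) (_ : Finite ι) (u : ι → V) (n : ι → ℕ),
        (∀ i, ∃ μ, u i ∈ 𝒱 μ) ∧ (∀ i, (A ^ (n i + 1)) (u i) = 0) ∧
        LinearIndependent k (chainFam A u n) ∧
        Submodule.span k (Set.range (chainFam A u n)) = C := by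
  classical
  intro d
  induction d using Nat.strong_induction_on with
  | _ d ih =>
    intro C hd hstab hgr
    by_cases hC0 : C = ⊥
    · refine ⟨PEmpty.{w + 1}, inferInstance, PEmpty.elim, PEmpty.elim, fun i => i.elim,
        fun i => i.elim, ?_, ?_⟩
      · haveI : IsEmpty (Σ i : PEmpty.{w + 1}, Fin ((PEmpty.elim i : ℕ) + 1)) :=
          ⟨fun p => p.1.elim⟩
        exact linearIndependent_empty_type
      · haveI : IsEmpty (Σ i : PEmpty.{w + 1}, Fin ((PEmpty.elim i : ℕ) + 1)) :=
          ⟨fun p => p.1.elim⟩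
        rw [Set.range_eq_empty, Submodule.span_empty, hC0]
    · -- stability under powers
      have hstabpow : ∀ (j : ℕ) (x : V), x ∈ C → (A ^ j) x ∈ C := by
        intro j
        induction j with
        | zero => intro x hx; simpa using hx
        | succ j ihj =>
          intro x hx
          rw [pow_succ', Module.End.mul_apply]
          exact hstab _ (ihj x hx)
      obtain ⟨N, hN⟩ := hA
      have hex : ∃ j, ∀ x ∈ C, (A ^ j) x = 0 := ⟨N, fun x _ => by rw [hN]; rfl⟩
      set m := Nat.find hex with hm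
      have hmspec : ∀ x ∈ C, (A ^ m) x = 0 := Nat.find_spec hex
      have hm0 : m ≠ 0 := by
        intro h0
        apply hC0
        rw [eq_bot_iff]
        intro x hx
        have := hmspec x hx
        rw [h0] at this
        simpa using this
      obtain ⟨m', hm'⟩ : ∃ m', m = m' + 1 := ⟨m - 1, by omega⟩
      have hmin : ¬ ∀ x ∈ C, (A ^ m') x = 0 := Nat.find_min hex (by omega)
      push_neg at hmin
      obtain ⟨y, hyC, hy⟩ := hmin
      -- a homogeneous such vector
      obtain ⟨μ, hμ⟩ : ∃ μ, (A ^ m') (proj 𝒱 μ y) ≠ 0 := by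
        by_contra hcon
        push_neg at hcon
        obtain ⟨s, hs⟩ := sum_proj 𝒱 y
        apply hy
        rw [← hs, map_sum]
        exact Finset.sum_eq_zero fun μ _ => hcon μ
      set x := proj 𝒱 μ y with hx
      have hxC : x ∈ C := hgr μ y hyC
      have hxμ : x ∈ 𝒱 μ := proj_mem 𝒱 μ y
      have hxnil : (A ^ (m' + 1)) x = 0 := by rw [← hm']; exact hmspec x hxC
      have hCnil : ∀ z ∈ C, (A ^ (m' + 1)) z = 0 := by
        intro z hz
        rw [← hm']; exact hmspec z hz
      set ν := μ + m' • χ with hν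
      have hx0ν : (A ^ m') x ∈ 𝒱 ν := pow_mem 𝒱 A χ hhom m' hxμ
      obtain ⟨ψ, hψ⟩ : ∃ ψ : Module.Dual k V, ψ ((A ^ m') x) ≠ 0 := by
        by_contra hcon
        push_neg at hcon
        exact hμ ((Module.forall_dual_apply_eq_zero_iff k _).mp hcon)
      set φ : V →ₗ[k] k := ψ ∘ₗ proj 𝒱 ν with hφ
      have hφx0 : φ ((A ^ m') x) ≠ 0 := by
        rw [hφ, LinearMap.comp_apply, proj_same 𝒱 hx0ν]
        exact hψ
      set Φ : V →ₗ[k] (Fin (m' + 1) → k) := LinearMap.pi fun j => φ ∘ₗ (A ^ (j : ℕ)) with hΦ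
      have hΦapp : ∀ (z : V) (j : Fin (m' + 1)), Φ z j = φ ((A ^ (j : ℕ)) z) := fun z j => rfl
      set Ψ : (Fin (m' + 1) → k) →ₗ[k] V :=
        Fintype.linearCombination k (fun j : Fin (m' + 1) => (A ^ (j : ℕ)) x) with hΨ
      have hΨapp : ∀ c, Ψ c = ∑ i, c i • (A ^ (i : ℕ)) x := fun c => by
        rw [hΨ, Fintype.linearCombination_apply]
      have hΨC : ∀ c, Ψ c ∈ C := by
        intro c
        rw [hΨapp]
        exact Submodule.sum_mem _ fun i _ => Submodule.smul_mem _ _ (hstabpow _ x hxC)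
      have hinj : ∀ c, Φ (Ψ c) = 0 → c = 0 := by
        intro c hc
        apply antitri A hxnil φ hφx0 c
        intro j
        rw [← hΨapp, ← hΦapp, hc]
        rfl
      set C' : Submodule k V := C ⊓ LinearMap.ker Φ with hC'
      -- C' is stable
      have hC'stab : ∀ z ∈ C', A z ∈ C' := by
        intro z hz
        refine Submodule.mem_inf.mpr ⟨hstab z hz.1, ?_⟩
        rw [LinearMap.mem_ker]
        funext j
        rw [hΦapp, Pi.zero_apply, ← Module.End.mul_apply, ← pow_succ]
        by_cases hj : (j : ℕ) + 1 < m' + 1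
        · have h1 := congrFun (LinearMap.mem_ker.mp hz.2) ⟨(j : ℕ) + 1, hj⟩
          rw [hΦapp] at h1
          exact h1
        · have : (j : ℕ) + 1 = m' + 1 := by have := j.2; omega
          rw [this, hCnil z hz.1, map_zero]
      -- C' is graded
      have hC'gr : IsGr 𝒱 C' := by
        intro μ' z hz
        refine Submodule.mem_inf.mpr ⟨hgr μ' z hz.1, ?_⟩
        rw [LinearMap.mem_ker]
        funext j
        rw [hΦapp, Pi.zero_apply, pow_comm 𝒱 A χ hhom, hφ, LinearMap.comp_apply]
        by_cases hνμ : μ' + (j : ℕ) • χ = ν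
        · rw [hνμ, proj_same 𝒱 (proj_mem 𝒱 ν _)]
          have h1 := congrFun (LinearMap.mem_ker.mp hz.2) j
          rw [hΦapp, hφ, LinearMap.comp_apply] at h1
          exact h1
        · rw [proj_ne 𝒱 (proj_mem 𝒱 _ _) hνμ, map_zero]
      -- x ∉ C'
      have hxC' : x ∉ C' := by
        intro hxmem
        have h1 : Ψ (Pi.single 0 1) = x := by
          rw [hΨapp, Finset.sum_eq_single 0]
          · simp
          · intro i _ hi
            rw [Pi.single_eq_of_ne hi, zero_smul]
          · intro h; exact absurd (Finset.mem_univ _) h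
        have h2 := hinj (Pi.single 0 1) (by rw [h1]; exact LinearMap.mem_ker.mp hxmem.2)
        have h3 := congrFun h2 0
        simp at h3
      have hlt : finrank k C' < d := by
        rw [← hd]
        apply Submodule.finrank_lt_finrank_of_lt
        exact lt_of_le_of_ne inf_le_left (fun h => hxC' (h ▸ hxC))
      obtain ⟨ι, hιfin, u, n, hu, hnil, hli, hspan⟩ := ih _ hlt C' rfl hC'stab hC'gr
      -- the chain of x
      have hZ0 : LinearIndependent k (fun j : Fin (m' + 1) => (A ^ (j : ℕ)) x) := by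
        rw [Fintype.linearIndependent_iff]
        intro c hc
        have := hinj c (by rw [hΨapp, hc, map_zero])
        intro i
        rw [this]; rfl
      set Zfam : Fin (m' + 1) → V := fun l => (A ^ (m' - (l : ℕ))) x with hZfam
      have hZfam_eq : Zfam = (fun j : Fin (m' + 1) => (A ^ (j : ℕ)) x) ∘ Fin.rev := by
        funext l
        simp only [hZfam, Function.comp_apply, Fin.val_rev]
        congr 2
        omega
      have hZ : LinearIndependent k Zfam := by
        rw [hZfam_eq]
        exact hZ0.comp _ Fin.rev_injective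
      have hZrange : Set.range Zfam = Set.range (fun j : Fin (m' + 1) => (A ^ (j : ℕ)) x) := by
        rw [hZfam_eq, Set.range_comp, Set.range_eq_univ.mpr Fin.rev_surjective, Set.image_univ]
      have hZspan : ∀ z, z ∈ Submodule.span k (Set.range Zfam) ↔ ∃ c, Ψ c = z := by
        intro z
        rw [hZrange, Submodule.mem_span_range_iff_exists_fun]
        constructor
        · rintro ⟨c, hc⟩
          exact ⟨c, by rw [hΨapp, hc]⟩
        · rintro ⟨c, hc⟩
          exact ⟨c, by rw [← hΨapp, hc]⟩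
      have hdisj : Disjoint (Submodule.span k (Set.range Zfam))
          (Submodule.span k (Set.range (chainFam A u n))) := by
        rw [hspan, Submodule.disjoint_def]
        intro z hz1 hz2
        obtain ⟨c, rfl⟩ := (hZspan z).mp hz1
        have := hinj c (LinearMap.mem_ker.mp hz2.2)
        rw [this, map_zero]
      have hsup : Submodule.span k (Set.range Zfam) ⊔ C' = C := by
        apply le_antisymm
        · apply sup_le
          · rw [Submodule.span_le]
            rintro _ ⟨l, rfl⟩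
            exact hstabpow _ x hxC
          · exact inf_le_left
        · intro z hz
          have hTinj : Function.Injective (Φ ∘ₗ Ψ) := by
            rw [← LinearMap.ker_eq_bot, LinearMap.ker_eq_bot']
            intro c hc
            exact hinj c hc
          have hTsurj : Function.Surjective (Φ ∘ₗ Ψ) := LinearMap.injective_iff_surjective.mp hTinj
          obtain ⟨c, hc⟩ := hTsurj (Φ z)
          have hz' : z = Ψ c + (z - Ψ c) := by abel
          rw [hz']
          apply Submodule.add_mem_sup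
          · exact (hZspan _).mpr ⟨c, rfl⟩
          · refine Submodule.mem_inf.mpr ⟨Submodule.sub_mem _ hz (hΨC c), ?_⟩
            rw [LinearMap.mem_ker, map_sub, sub_eq_zero]
            exact hc.symm
      -- assemble
      set u' : Option ι → V := fun o => o.elim x u with hu'
      set n' : Option ι → ℕ := fun o => o.elim m' n with hn'
      let σ : (Fin (m' + 1) ⊕ (Σ i : ι, Fin (n i + 1))) ≃ (Σ o : Option ι, Fin (n' o + 1)) :=
        { toFun := Sum.elim (fun l => ⟨none, l⟩) (fun p => ⟨some p.1, p.2⟩)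
          invFun := fun p => match p with
            | ⟨none, l⟩ => Sum.inl l
            | ⟨some i, l⟩ => Sum.inr ⟨i, l⟩
          left_inv := by
            rintro (l | ⟨i, l⟩) <;> rfl
          right_inv := by
            rintro ⟨(_ | i), l⟩ <;> rfl }
      have hσ : chainFam A u' n' ∘ σ = Sum.elim Zfam (chainFam A u n) := by
        funext p
        rcases p with l | ⟨i, l⟩ <;> rfl
      refine ⟨Option ι, inferInstance, u', n', ?_, ?_, ?_, ?_⟩
      · rintro (_ | i)
        · exact ⟨μ, hxμ⟩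
        · exact hu i
      · rintro (_ | i)
        · exact hxnil
        · exact hnil i
      · rw [← linearIndependent_equiv σ, hσ]
        exact LinearIndependent.sum_type hZ hli hdisj
      · rw [← σ.surjective.range_comp (chainFam A u' n'), hσ, Set.Sum.elim_range, Submodule.span_union,
          hspan, hsup]

end

theorem main
    (k : Type u) [Field k] (Λ : Type v) [AddCommGroup Λ] [DecidableEq Λ]
    (V : Type w) [AddCommGroup V] [Module k V] [FiniteDimensional k V]
    (𝒱 : Λ → Submodule k V) (h𝒱 : DirectSum.IsInternal 𝒱)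
    (A : Module.End k V) (hA : IsNilpotent A) (χ : Λ)
    (hhom : ∀ (μ : Λ) (v : V), v ∈ 𝒱 μ → A v ∈ 𝒱 (μ + χ)) :
    ∃ (ι : Type w) (_ : Finite ι) (n : ι → ℕ) (b : Module.Basis (Σ i : ι, Fin (n i + 1)) k V),
      (∀ (i : ι) (l : Fin (n i + 1)), ∃ μ : Λ, b ⟨i, l⟩ ∈ 𝒱 μ) ∧
      (∀ i : ι, A (b ⟨i, 0⟩) = 0) ∧
      ∀ (i : ι) (l : Fin (n i)), A (b ⟨i, l.succ⟩) = b ⟨i, l.castSucc⟩ := by
  classical
  letI := h𝒱.chooseDecomposition
  obtain ⟨ι, hιfin, u, n, hu, hnil, hli, hspan⟩ :=
    exists_chains 𝒱 A χ hhom hA _ ⊤ rfl (fun _ _ => Submodule.mem_top)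
      (fun _ _ _ => Submodule.mem_top)
  set b : Module.Basis (Σ i : ι, Fin (n i + 1)) k V := Module.Basis.mk hli hspan.ge with hb
  have hbapp : ∀ p, b p = (A ^ (n p.1 - (p.2 : ℕ))) (u p.1) := by
    intro p
    rw [hb, Module.Basis.mk_apply]
    rfl
  refine ⟨ι, hιfin, n, b, ?_, ?_, ?_⟩
  · intro i l
    obtain ⟨μ, hμ⟩ := hu i
    exact ⟨_, by rw [hbapp]; exact pow_mem 𝒱 A χ hhom _ hμ⟩
  · intro i
    rw [hbapp]
    simp only [Fin.val_zero, Nat.sub_zero]
    rw [← Module.End.mul_apply, ← pow_succ']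
    exact hnil i
  · intro i l
    rw [hbapp, hbapp, ← Module.End.mul_apply, ← pow_succ']
    congr 2
    simp only [Fin.val_succ, Fin.val_castSucc]
    have := l.2
    omega

end Groth.Agent.Lib.GrJordanH3
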