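import Mathlib
import Groth.Prelude.Def_GrLC
import Groth.Prelude.Def_GrSyz
import Groth.Agent.Lib.GrHB_helper1
import Groth.Agent.Lib.GrEG7_helper1

/-! Lengths of graded modules over a polynomial ring and the bound
`reg M + codim ≤ length` for the Artinian reduction (helper1). -/

set_option autoImplicit false

namespace Groth.Agent.Lib.GrLenH1

open DirectSum Groth.Agent.Lib.GrSyzH1 Groth.Agent.Lib.GrSyz3H1 Groth.Agent.Lib.GrHBH1
  Groth.Agent.Lib.GrSyz2H1 Groth.Agent.Lib.GrConvH1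

universe u

/-! ### a lower bound for the length -/
section LB

variable (k : Type u) [Field k] (σ : Type)
  (N : Type u) [AddCommGroup N] [Module k N] [Module (MvPolynomial σ k) N]
  [IsScalarTower k (MvPolynomial σ k) N]
  (𝒩 : ℤ → Submodule k N) [Decomposition 𝒩] [SetLike.GradedSMul (GrSyz.stdGr k σ) 𝒩]

theorem not_mem_span_of_min {ι : Type} [DecidableEq ι] (u : ι → N) (dg : ι → ℤ)
    (hu : ∀ i, u i ∈ 𝒩 (dg i)) (t : Finset ι) (i₀ : ι) (hmin : ∀ i ∈ t, dg i₀ ≤ dg i)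
    (hind : u i₀ ∉ Submodule.span k (u '' {j | j ∈ t ∧ j ≠ i₀ ∧ dg j = dg i₀})) :
    u i₀ ∉ Submodule.span (MvPolynomial σ k) (u '' ↑(t.erase i₀)) := by
  intro hmem
  apply hind
  rw [Finsupp.mem_span_image_iff_linearCombination] at hmem
  obtain ⟨l, hl, hlu⟩ := hmem
  rw [Finsupp.linearCombination_apply] at hlu
  have h1 : u i₀ = (decompose 𝒩 (l.sum fun i a => a • u i) (dg i₀) : N) := by
    rw [hlu, decompose_of_mem_same 𝒩 (hu i₀)]
  rw [h1, Finsupp.sum, coe_decompose_sum']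
  refine Submodule.sum_mem _ (fun i hi => ?_)
  rw [decompose_smul_of_mem' (GrSyz.stdGr k σ) 𝒩 (hu i) (l i) (dg i₀)]
  have hit : i ∈ t.erase i₀ := by
    have := (Finsupp.mem_supported _ _).1 hl hi
    exact_mod_cast this
  have hi_t : i ∈ t := Finset.mem_of_mem_erase hit
  have hi_ne : i ≠ i₀ := Finset.ne_of_mem_erase hit
  rcases lt_or_eq_of_le (hmin i hi_t) with hlt | heq
  · have hbot : ∀ x ∈ GrSyz.stdGr k σ (dg i₀ - dg i), x = 0 := fun x hx => by
      rw [stdGr_neg k σ (by omega)] at hx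
      exact (Submodule.mem_bot k).1 hx
    rw [hbot _ (decompose (GrSyz.stdGr k σ) (l i) (dg i₀ - dg i)).2, zero_smul]
    exact zero_mem _
  · have h0 : (decompose (GrSyz.stdGr k σ) (l i) (dg i₀ - dg i) : MvPolynomial σ k) ∈
        GrSyz.stdGr k σ 0 := by
      exact (show ∀ a : ℤ, a = 0 → ∀ x ∈ GrSyz.stdGr k σ a, x ∈ GrSyz.stdGr k σ 0 from
        fun a ha x hx => ha ▸ hx) _ (by omega) _
        (decompose (GrSyz.stdGr k σ) (l i) (dg i₀ - dg i)).2
    rw [eq_C_of_mem_zero h0, ← MvPolynomial.algebraMap_eq, algebraMap_smul]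
    exact Submodule.smul_mem _ _ (Submodule.subset_span ⟨i, ⟨hi_t, hi_ne, heq.symm⟩, rfl⟩)

theorem card_le_height {ι : Type} [DecidableEq ι] (u : ι → N) (dg : ι → ℤ)
    (hu : ∀ i, u i ∈ 𝒩 (dg i)) :
    ∀ (m : ℕ) (t : Finset ι), t.card = m →
      (∀ i ∈ t, u i ∉ Submodule.span k (u '' {j | j ∈ t ∧ j ≠ i ∧ dg j = dg i})) →
      ∀ P : Submodule (MvPolynomial σ k) N, (∀ i ∈ t, u i ∈ P) → (m : ℕ∞) ≤ Order.height P := by
  intro m
  induction m with
  | zero =>
    intro t _ _ P _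
    simp
  | succ m ih =>
    intro t ht hind P hP
    have hne : t.Nonempty := by
      rw [← Finset.card_pos, ht]
      omega
    obtain ⟨i₀, hi₀, hmin⟩ := Finset.exists_min_image t dg hne
    have hP'P : Submodule.span (MvPolynomial σ k) (u '' ↑(t.erase i₀)) ≤ P :=
      Submodule.span_le.2 (by
        rintro _ ⟨i, hi, rfl⟩
        exact hP i (Finset.mem_of_mem_erase (by exact_mod_cast hi)))
    have hnot := not_mem_span_of_min k σ N 𝒩 u dg hu t i₀ hmin (hind i₀ hi₀)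
    have hlt : Submodule.span (MvPolynomial σ k) (u '' ↑(t.erase i₀)) < P :=
      lt_of_le_of_ne hP'P (fun h => hnot (by rw [h]; exact hP i₀ hi₀))
    have h1 := ih (t.erase i₀) (by rw [Finset.card_erase_of_mem hi₀, ht]; rfl) (by
      intro i hi hmem
      apply hind i (Finset.mem_of_mem_erase hi)
      refine Submodule.span_mono ?_ hmem
      rintro _ ⟨j, ⟨hj, hji, hdj⟩, rfl⟩
      exact ⟨j, ⟨Finset.mem_of_mem_erase hj, hji, hdj⟩, rfl⟩)
      (Submodule.span (MvPolynomial σ k) (u '' ↑(t.erase i₀)))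
      (fun i hi => Submodule.subset_span ⟨i, by exact_mod_cast hi, rfl⟩)
    have h2 := Order.height_add_one_le hlt
    calc ((m + 1 : ℕ) : ℕ∞) = (m : ℕ∞) + 1 := by push_cast; rfl
      _ ≤ Order.height (Submodule.span (MvPolynomial σ k) (u '' ↑(t.erase i₀))) + 1 := by
        gcongr
      _ ≤ Order.height P := h2

theorem sum_finrank_le_length (D : Finset ℤ) [∀ j, Module.Finite k (𝒩 j)] :
    ((∑ j ∈ D, Module.finrank k (𝒩 j) : ℕ) : ℕ∞) ≤ Module.length (MvPolynomial σ k) N := by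
  classical
  let u : (Σ j : {x // x ∈ D}, Fin (Module.finrank k (𝒩 j.1))) → N :=
    fun i => ((Module.finBasis k (𝒩 i.1.1) i.2 : 𝒩 i.1.1) : N)
  let dg : (Σ j : {x // x ∈ D}, Fin (Module.finrank k (𝒩 j.1))) → ℤ := fun i => i.1.1
  have hu : ∀ i, u i ∈ 𝒩 (dg i) := fun i => (Module.finBasis k (𝒩 i.1.1) i.2).2
  have hli : ∀ j : {x // x ∈ D}, LinearIndependent k
      (fun q : Fin (Module.finrank k (𝒩 j.1)) => ((Module.finBasis k (𝒩 j.1) q : 𝒩 j.1) : N)) :=
    fun j => (Module.finBasis k (𝒩 j.1)).linearIndependent.map' (𝒩 j.1).subtype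
      (Submodule.ker_subtype _)
  have h := card_le_height k σ N 𝒩 u dg hu
    (Finset.univ : Finset (Σ j : {x // x ∈ D}, Fin (Module.finrank k (𝒩 j.1)))).card
    Finset.univ rfl (by
      rintro ⟨j, q⟩ _ hmem
      apply (hli j).notMem_span_image (s := {q' | q' ≠ q}) (x := q) (by simp)
      refine Submodule.span_mono ?_ hmem
      rintro _ ⟨⟨j', q'⟩, ⟨-, hne, hdj⟩, rfl⟩
      have hjj : j' = j := Subtype.ext hdj
      subst hjj
      exact ⟨q', fun h => hne (by rw [h]), rfl⟩) ⊤ (fun i _ => trivial)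
  rw [Module.length_eq_height]
  have hcard : (Finset.univ : Finset (Σ j : {x // x ∈ D},
      Fin (Module.finrank k (𝒩 j.1)))).card = ∑ j ∈ D, Module.finrank k (𝒩 j) := by
    rw [Finset.card_univ, Fintype.card_sigma]
    simp only [Fintype.card_fin]
    exact Finset.sum_coe_sort D (fun j => Module.finrank k (𝒩 j))
  rw [← hcard]
  exact h

end LB

/-! ### graded cyclic modules -/
section cyclic

attribute [local instance] convDecomp conv_gsmul convGradedRing

variable (k : Type u) [Field k] (r : ℕ)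
  (N : Type u) [AddCommGroup N] [Module k N] [Module (MvPolynomial (Fin (r + 1)) k) N]
  [IsScalarTower k (MvPolynomial (Fin (r + 1)) k) N]
  (𝒩 : ℤ → Submodule k N) [Decomposition 𝒩]
  [SetLike.GradedSMul (GrSyz.stdGr k (Fin (r + 1))) 𝒩]
  (τ : MvPolynomial (Fin (r + 1)) k →ₗ[MvPolynomial (Fin (r + 1)) k] N)
  (hτ : Function.Surjective τ) (hτg : GrLC.IsGrHom (GrSyz.stdGr k (Fin (r + 1))) 𝒩 τ)

include hτ hτg in
theorem piece_surj (j : ℤ) (y : N) (hy : y ∈ 𝒩 j) :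
    ∃ s ∈ GrSyz.stdGr k (Fin (r + 1)) j, τ s = y := by
  obtain ⟨s, rfl⟩ := hτ y
  refine ⟨decompose (GrSyz.stdGr k (Fin (r + 1))) s j,
    (decompose (GrSyz.stdGr k (Fin (r + 1))) s j).2, ?_⟩
  rw [← pi_decompose k (Fin (r + 1)) N 𝒩 τ hτg s j, decompose_of_mem_same 𝒩 hy]

include hτ hτg in
theorem piece_finite (j : ℤ) : Module.Finite k (𝒩 j) := by
  let ψ : ↥(GrSyz.stdGr k (Fin (r + 1)) j) →ₗ[k] ↥(𝒩 j) :=
    (τ.restrictScalars k).restrict (fun s hs => hτg _ s hs)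
  have hsurj : Function.Surjective ψ := by
    rintro ⟨y, hy⟩
    obtain ⟨s, hs, rfl⟩ := piece_surj k r N 𝒩 τ hτ hτg j y hy
    exact ⟨⟨s, hs⟩, Subtype.ext rfl⟩
  exact Module.Finite.of_surjective ψ hsurj

include hτ hτg in
theorem next_piece_eq_bot (m : ℕ) (h : ∀ y ∈ 𝒩 (m : ℤ), y = 0) :
    ∀ y ∈ 𝒩 ((m : ℤ) + 1), y = 0 := by
  intro y hy
  obtain ⟨s, hs, rfl⟩ := piece_surj k r N 𝒩 τ hτ hτg _ y hy
  have hs' : s ∈ toAG (GrSyz.stdGr k (Fin (r + 1))) (((m + 1 : ℕ) : ℤ)) := by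
    push_cast
    exact hs
  have h1 := Groth.Agent.Lib.GrNakH1.piece_le_pow (toAG (GrSyz.stdGr k (Fin (r + 1))))
    (GrEG2H1.mm k r).toIdeal (GrEG6H1.mm_eq_span_one k r) (GrEG2H1.ha_mm k r) (m + 1) s hs'
  have h2 : s ∈ (GrEG2H1.mm k r).toIdeal ^ m := Ideal.pow_le_pow_right (Nat.le_succ m) h1
  have h3 := Groth.Agent.Lib.GrNakH1.pow_le_span (toAG (GrSyz.stdGr k (Fin (r + 1))))
    (GrEG2H1.mm k r).toIdeal (GrEG6H1.mm_eq_span_one k r) m h2
  have h4 : Ideal.span ((toAG (GrSyz.stdGr k (Fin (r + 1))) (m : ℤ) : AddSubgroup _) :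
      Set (MvPolynomial (Fin (r + 1)) k)) ≤ LinearMap.ker τ := by
    rw [Ideal.span_le]
    intro x hx
    exact LinearMap.mem_ker.2 (h _ (hτg _ x hx))
  exact LinearMap.mem_ker.1 (h4 h3)

include hτ hτg in
theorem piece_ne_bot_of_le (n : ℕ) (hn : ∃ y ∈ 𝒩 (n : ℤ), y ≠ 0) (j : ℕ) (hj : j ≤ n) :
    ∃ y ∈ 𝒩 (j : ℤ), y ≠ 0 := by
  by_contra hcon
  push_neg at hcon
  have key : ∀ i : ℕ, ∀ y ∈ 𝒩 ((j + i : ℕ) : ℤ), y = 0 := by
    intro i
    induction i with
    | zero => exact hcon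
    | succ i ih =>
      have := next_piece_eq_bot k r N 𝒩 τ hτ hτg (j + i) ih
      intro y hy
      apply this y
      have e : ((j + (i + 1) : ℕ) : ℤ) = ((j + i : ℕ) : ℤ) + 1 := by push_cast; ring
      rwa [e] at hy
  obtain ⟨y, hy, hy0⟩ := hn
  obtain ⟨i, rfl⟩ := Nat.exists_eq_add_of_le hj
  exact hy0 (key i y hy)

end cyclic

/-! ### the degree-one piece of the reduction -/
section one

variable (k : Type u) [Field k] (r : ℕ)
  (M : Type u) [AddCommGroup M] [Module k M] [Module (MvPolynomial (Fin (r + 1)) k) M]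
  [IsScalarTower k (MvPolynomial (Fin (r + 1)) k) M]
  (ℳ : ℤ → Submodule k M) [Decomposition ℳ]
  [SetLike.GradedSMul (GrSyz.stdGr k (Fin (r + 1))) ℳ]

omit [IsScalarTower k (MvPolynomial (Fin (r + 1)) k) M] in
theorem decompose_smul_homog' {s : MvPolynomial (Fin (r + 1)) k} {h : ℤ}
    (hs : s ∈ GrSyz.stdGr k (Fin (r + 1)) h) (x : M) (g : ℤ) :
    (decompose ℳ (s • x) (h + g) : M) = s • (decompose ℳ x g : M) := by
  induction x using DirectSum.Decomposition.inductionOn ℳ with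
  | zero => simp
  | @homogeneous i m =>
    by_cases e : i = g
    · subst e
      rw [decompose_of_mem_same ℳ (smul_mem_gr' (GrSyz.stdGr k (Fin (r + 1))) ℳ hs m.2),
        decompose_of_mem_same ℳ m.2]
    · rw [decompose_of_mem_ne ℳ (smul_mem_gr' (GrSyz.stdGr k (Fin (r + 1))) ℳ hs m.2)
        (fun h' => e (add_left_cancel h')), decompose_of_mem_ne ℳ m.2 e, smul_zero]
  | add m m' hm hm' =>
    rw [smul_add, decompose_add, DirectSum.add_apply, Submodule.coe_add, hm, hm', decompose_add,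
      DirectSum.add_apply, Submodule.coe_add, smul_add]

variable (π : MvPolynomial (Fin (r + 1)) k →ₗ[MvPolynomial (Fin (r + 1)) k] M)
  (hπ : Function.Surjective π)
  (hπg : GrLC.IsGrHom (GrSyz.stdGr k (Fin (r + 1))) ℳ π)
  (ys : List (MvPolynomial (Fin (r + 1)) k)) (hys : ∀ y ∈ ys, y ∈ GrSyz.stdGr k (Fin (r + 1)) 1)

include hπ hπg hys in
theorem smul_top_deg_one (z : M)
    (hz : z ∈ Ideal.ofList ys • (⊤ : Submodule (MvPolynomial (Fin (r + 1)) k) M)) :
    (decompose ℳ z 1 : M) ∈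
      (Submodule.span k {y | y ∈ ys}).map (π.restrictScalars k) := by
  have key : ∀ a ∈ Ideal.ofList ys, ∀ m : M, (decompose ℳ (a • m) 1 : M) ∈
      (Submodule.span k {y | y ∈ ys}).map (π.restrictScalars k) := by
    intro a ha
    unfold Ideal.ofList at ha
    induction ha using Submodule.span_induction with
    | mem a ha =>
      intro m
      have hy1 := hys a ha
      have e := decompose_smul_homog' k r M ℳ hy1 m 0
      rw [add_zero] at e
      rw [e]
      obtain ⟨c, hc, hcm⟩ := piece_surj k r M ℳ π hπ hπg 0 _ (decompose ℳ m 0).2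
      rw [← hcm, eq_C_of_mem_zero hc, ← map_smul, smul_eq_mul, mul_comm,
        ← MvPolynomial.algebraMap_eq, ← Algebra.smul_def]
      exact ⟨_, Submodule.smul_mem _ _ (Submodule.subset_span ha), rfl⟩
    | zero =>
      intro m
      rw [zero_smul, decompose_zero, DirectSum.zero_apply, ZeroMemClass.coe_zero]
      exact zero_mem _
    | add a b _ _ ha hb =>
      intro m
      rw [add_smul, decompose_add, DirectSum.add_apply, Submodule.coe_add]
      exact add_mem (ha m) (hb m)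
    | smul b a _ ha =>
      intro m
      rw [smul_eq_mul, mul_comm, mul_smul]
      exact ha (b • m)
  refine Submodule.smul_induction_on (p := fun z => (decompose ℳ z 1 : M) ∈
    (Submodule.span k {y | y ∈ ys}).map (π.restrictScalars k)) hz
    (fun a ha m _ => key a ha m) (fun x y hx hy => ?_)
  show (decompose ℳ (x + y) 1 : M) ∈ _
  rw [decompose_add, DirectSum.add_apply, Submodule.coe_add]
  exact add_mem hx hy

variable (hlin : ∀ x : MvPolynomial (Fin (r + 1)) k, x ∈ GrSyz.stdGr k (Fin (r + 1)) 1 →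
    π x = 0 → x = 0)
  (N : Type u) [AddCommGroup N] [Module k N] [Module (MvPolynomial (Fin (r + 1)) k) N]
  [IsScalarTower k (MvPolynomial (Fin (r + 1)) k) N]
  (𝒩 : ℤ → Submodule k N) [Decomposition 𝒩]
  [SetLike.GradedSMul (GrSyz.stdGr k (Fin (r + 1))) 𝒩]
  (σ : M →ₗ[MvPolynomial (Fin (r + 1)) k] N) (hσ : Function.Surjective σ)
  (hσg : GrLC.IsGrHom ℳ 𝒩 σ)
  (hker : LinearMap.ker σ =
    Ideal.ofList ys • (⊤ : Submodule (MvPolynomial (Fin (r + 1)) k) M))

include hπ hπg hys hlin hker in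
theorem ker_deg_one (x : MvPolynomial (Fin (r + 1)) k)
    (hx : x ∈ GrSyz.stdGr k (Fin (r + 1)) 1) (hx0 : σ (π x) = 0) :
    x ∈ Submodule.span k {y | y ∈ ys} := by
  have h1 : π x ∈ Ideal.ofList ys • (⊤ : Submodule (MvPolynomial (Fin (r + 1)) k) M) := by
    rw [← hker]
    exact LinearMap.mem_ker.2 hx0
  have h2 := smul_top_deg_one k r M ℳ π hπ hπg ys hys (π x) h1
  rw [decompose_of_mem_same ℳ (hπg 1 x hx)] at h2
  obtain ⟨y', hy', hy'x⟩ := h2
  have hy'1 : y' ∈ GrSyz.stdGr k (Fin (r + 1)) 1 :=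
    (Submodule.span_le (p := GrSyz.stdGr k (Fin (r + 1)) 1)).2 (fun y hy => hys y hy) hy'
  have h3 : x - y' = 0 := by
    apply hlin _ (sub_mem hx hy'1)
    rw [map_sub, sub_eq_zero]
    exact hy'x.symm
  rw [sub_eq_zero] at h3
  rw [h3]
  exact hy'

include hπ hπg hys hlin hσ hσg hker in
theorem finrank_one_ge [Module.Finite k (𝒩 1)] :
    r + 1 ≤ ys.length + Module.finrank k (𝒩 1) := by
  classical
  let ψ : ↥(GrSyz.stdGr k (Fin (r + 1)) 1) →ₗ[k] ↥(𝒩 1) :=
    ((σ ∘ₗ π).restrictScalars k).restrict (fun s hs => hσg _ _ (hπg _ s hs))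
  have hY : ∀ x : ↥(LinearMap.ker ψ), ((x : ↥(GrSyz.stdGr k (Fin (r + 1)) 1)) :
      MvPolynomial (Fin (r + 1)) k) ∈
      Submodule.span k ((ys.toFinset : Finset (MvPolynomial (Fin (r + 1)) k)) :
        Set (MvPolynomial (Fin (r + 1)) k)) := by
    intro x
    have hx0 : ψ x.1 = 0 := LinearMap.mem_ker.1 x.2
    have hx1 : σ (π (x.1 : MvPolynomial (Fin (r + 1)) k)) = 0 := congrArg Subtype.val hx0
    have h := ker_deg_one k r M ℳ π hπ hπg ys hys hlin N σ hker _ x.1.2 hx1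
    rw [List.coe_toFinset]
    exact h
  have hιinj : Function.Injective (LinearMap.codRestrict
      (Submodule.span k ((ys.toFinset : Finset (MvPolynomial (Fin (r + 1)) k)) :
        Set (MvPolynomial (Fin (r + 1)) k)))
      ((GrSyz.stdGr k (Fin (r + 1)) 1).subtype ∘ₗ (LinearMap.ker ψ).subtype) hY) := by
    intro a b hab
    apply Subtype.ext
    apply Subtype.ext
    have h := congrArg Subtype.val hab
    exact h
  have h1 := LinearMap.finrank_le_finrank_of_injective hιinj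
  have h2 : Module.finrank k ↥(Submodule.span k
      ((ys.toFinset : Finset (MvPolynomial (Fin (r + 1)) k)) :
        Set (MvPolynomial (Fin (r + 1)) k))) ≤ ys.length :=
    le_trans (finrank_span_finset_le_card (R := k) ys.toFinset) (List.toFinset_card_le ys)
  have h3 := LinearMap.finrank_range_add_finrank_ker ψ
  have h4 : Module.finrank k ↥(LinearMap.range ψ) ≤ Module.finrank k ↥(𝒩 1) :=
    Submodule.finrank_le _
  have h5 : Module.finrank k ↥(GrSyz.stdGr k (Fin (r + 1)) 1) = r + 1 := by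
    rw [finrank_stdGr, if_pos (by norm_num)]
    simp
  omega

end one

/-! ### the statement -/
section final

theorem main15433 (k : Type u) [Field k] (r : ℕ)
    (M : Type u) [AddCommGroup M] [Module k M] [Module (MvPolynomial (Fin (r + 1)) k) M]
    [IsScalarTower k (MvPolynomial (Fin (r + 1)) k) M]
    [Module.Finite (MvPolynomial (Fin (r + 1)) k) M]
    (ℳ : ℤ → Submodule k M) [DirectSum.Decomposition ℳ]
    [SetLike.GradedSMul (GrSyz.stdGr k (Fin (r + 1))) ℳ]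
    (π : MvPolynomial (Fin (r + 1)) k →ₗ[MvPolynomial (Fin (r + 1)) k] M)
    (hπ : Function.Surjective π)
    (hπg : GrLC.IsGrHom (GrSyz.stdGr k (Fin (r + 1))) ℳ π)
    (hlin : ∀ x : MvPolynomial (Fin (r + 1)) k, x ∈ GrSyz.stdGr k (Fin (r + 1)) 1 →
      π x = 0 → x = 0)
    (ys : List (MvPolynomial (Fin (r + 1)) k))
    (hys : ∀ y ∈ ys, y ∈ GrSyz.stdGr k (Fin (r + 1)) 1)
    (hreg : RingTheory.Sequence.IsWeaklyRegular M ys)
    (N : Type u) [AddCommGroup N] [Module k N] [Module (MvPolynomial (Fin (r + 1)) k) N]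
    [IsScalarTower k (MvPolynomial (Fin (r + 1)) k) N]
    (𝒩 : ℤ → Submodule k N) [DirectSum.Decomposition 𝒩]
    [SetLike.GradedSMul (GrSyz.stdGr k (Fin (r + 1))) 𝒩]
    (σ : M →ₗ[MvPolynomial (Fin (r + 1)) k] N) (hσ : Function.Surjective σ)
    (hσg : GrLC.IsGrHom ℳ 𝒩 σ)
    (hker : LinearMap.ker σ =
      Ideal.ofList ys • (⊤ : Submodule (MvPolynomial (Fin (r + 1)) k) M))
    (ℓ : ℕ) (hℓ : Module.length (MvPolynomial (Fin (r + 1)) k) N = (ℓ : ℕ∞)) :
    GrSyz.reg (GrSyz.stdGr k (Fin (r + 1))) ℳ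
        (GrSyz.irrel (GrSyz.stdGr k (Fin (r + 1)))).toIdeal +
      ((((r : ℤ) + 1 - (ys.length : ℤ) : ℤ) : WithTop ℤ) : WithBot (WithTop ℤ)) ≤
      (((ℓ : ℤ) : WithTop ℤ) : WithBot (WithTop ℤ)) := by
  classical
  haveI : Module.Finite (MvPolynomial (Fin (r + 1)) k) N := Module.Finite.of_surjective σ hσ
  have hN : IsFiniteLength (MvPolynomial (Fin (r + 1)) k) N := by
    rw [← Module.length_ne_top_iff, hℓ]
    exact ENat.coe_ne_top ℓ
  rw [GrEG7H1.main15425 k r M ℳ ys hys hreg N 𝒩 σ hσ hσg hker hN, add_le_iff, endDeg_le_iff]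
  intro n hn
  by_contra hne
  rw [AddSubgroup.eq_bot_iff_forall] at hne
  push_neg at hne
  obtain ⟨y, hy, hy0⟩ := hne
  have hy' : y ∈ 𝒩 n := hy
  -- the cyclic structure
  have hτ : Function.Surjective (σ ∘ₗ π) := hσ.comp hπ
  have hτg : GrLC.IsGrHom (GrSyz.stdGr k (Fin (r + 1))) 𝒩 (σ ∘ₗ π) :=
    fun g s hs => hσg _ _ (hπg _ s hs)
  haveI : ∀ j, Module.Finite k (𝒩 j) := fun j => piece_finite k r N 𝒩 (σ ∘ₗ π) hτ hτg j
  have hn0 : 0 ≤ n := by
    by_contra hneg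
    rw [not_le] at hneg
    exact hy0 (neg_piece_eq_bot k (Fin (r + 1)) N 𝒩 (σ ∘ₗ π) hτ hτg n hneg y hy')
  obtain ⟨n₀, rfl⟩ := Int.eq_ofNat_of_zero_le hn0
  have hpos : ∀ j ∈ Finset.Icc (0 : ℤ) (n₀ : ℤ), 1 ≤ Module.finrank k (𝒩 j) := by
    intro j hj
    rw [Finset.mem_Icc] at hj
    obtain ⟨j₀, rfl⟩ := Int.eq_ofNat_of_zero_le hj.1
    obtain ⟨z, hz, hz0⟩ := piece_ne_bot_of_le k r N 𝒩 (σ ∘ₗ π) hτ hτg n₀ ⟨y, hy', hy0⟩ j₀
      (by exact_mod_cast hj.2)
    exact Module.finrank_pos_iff_exists_ne_zero.2 ⟨⟨z, hz⟩, fun h => hz0 (congrArg Subtype.val h)⟩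
  have hLB := sum_finrank_le_length k (Fin (r + 1)) N 𝒩 (insert 1 (Finset.Icc (0 : ℤ) (n₀ : ℤ)))
  rw [hℓ] at hLB
  have hLB' : ∑ j ∈ insert 1 (Finset.Icc (0 : ℤ) (n₀ : ℤ)), Module.finrank k (𝒩 j) ≤ ℓ := by
    exact_mod_cast hLB
  have h1mem : (1 : ℤ) ∈ insert 1 (Finset.Icc (0 : ℤ) (n₀ : ℤ)) := Finset.mem_insert_self _ _
  rw [← Finset.add_sum_erase _ _ h1mem] at hLB'
  have hcard : n₀ ≤ ((insert 1 (Finset.Icc (0 : ℤ) (n₀ : ℤ))).erase 1).card := by
    have h1 : (Finset.Icc (0 : ℤ) (n₀ : ℤ)).card = n₀ + 1 := by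
      rw [Int.card_Icc]
      omega
    have h2 : (Finset.Icc (0 : ℤ) (n₀ : ℤ)).card ≤
        (insert 1 (Finset.Icc (0 : ℤ) (n₀ : ℤ))).card :=
      Finset.card_le_card (Finset.subset_insert _ _)
    have h3 := Finset.pred_card_le_card_erase (s := insert 1 (Finset.Icc (0 : ℤ) (n₀ : ℤ)))
      (a := (1 : ℤ))
    omega
  have hsum : ((insert 1 (Finset.Icc (0 : ℤ) (n₀ : ℤ))).erase 1).card ≤
      ∑ j ∈ (insert 1 (Finset.Icc (0 : ℤ) (n₀ : ℤ))).erase 1, Module.finrank k (𝒩 j) := by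
    have := Finset.card_nsmul_le_sum ((insert 1 (Finset.Icc (0 : ℤ) (n₀ : ℤ))).erase 1)
      (fun j => Module.finrank k (𝒩 j)) 1 (by
        intro j hj
        rw [Finset.mem_erase, Finset.mem_insert] at hj
        rcases hj.2 with h | h
        · exact absurd h hj.1
        · exact hpos j h)
    simpa using this
  have hone := finrank_one_ge k r M ℳ π hπ hπg ys hys hlin N 𝒩 σ hσ hσg hker
  omega

end final

end Groth.Agent.Lib.GrLenH1
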