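import Mathlib
import Groth.Prelude.Def_GrMap

/-! Degreewise criteria for injectivity / surjectivity of `AssocGr.map`. -/

universe u v

open Polynomial

namespace Groth.Agent.Lib.GrMapDeg

variable {A : Type u} {B : Type v} [CommRing A] [CommRing B]
  {φ : A →+* B} {𝓕 : FiltBl.IdealFiltration A} {𝓖 : FiltBl.IdealFiltration B}

theorem map_injective_of_piece (h : AssocGr.IsFiltHom φ 𝓕 𝓖)
    (hinj : ∀ n, ∀ a ∈ 𝓕.F n, φ a ∈ 𝓖.F (n + 1) → a ∈ 𝓕.F (n + 1)) :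
    Function.Injective (AssocGr.map h) := by
  rw [injective_iff_map_eq_zero]
  intro x hx
  obtain ⟨f, rfl⟩ := AssocGr.mkG_surjective 𝓕 x
  rw [AssocGr.map_mkG, AssocGr.mkG_eq_zero_iff] at hx
  rw [AssocGr.mkG_eq_zero_iff]
  intro n
  have h1 := hx n
  rw [AssocGr.coe_reesMap, Polynomial.coeff_map] at h1
  exact hinj n _ (f.2 n) h1

theorem piece_of_map_injective (h : AssocGr.IsFiltHom φ 𝓕 𝓖)
    (hinj : Function.Injective (AssocGr.map h)) :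
    ∀ n, ∀ a ∈ 𝓕.F n, φ a ∈ 𝓖.F (n + 1) → a ∈ 𝓕.F (n + 1) := by
  intro n a ha hφ
  have h1 : AssocGr.map h (AssocGr.inDeg 𝓕 n ⟨a, ha⟩ : AssocGr.GrRing 𝓕) = 0 := by
    rw [AssocGr.map_inDeg]
    have : AssocGr.inDeg 𝓖 n ⟨φ a, h.apply_mem ha⟩ = 0 :=
      (AssocGr.inDeg_eq_zero_iff 𝓖 n _).2 hφ
    rw [this]; rfl
  have h2 : (AssocGr.inDeg 𝓕 n ⟨a, ha⟩ : AssocGr.GrRing 𝓕) = 0 := by
    apply hinj
    rw [h1, map_zero]
  exact (AssocGr.inDeg_eq_zero_iff 𝓕 n ⟨a, ha⟩).1 (Subtype.ext h2)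

theorem map_surjective_of_piece (h : AssocGr.IsFiltHom φ 𝓕 𝓖)
    (hsurj : ∀ n, ∀ b ∈ 𝓖.F n, ∃ a ∈ 𝓕.F n, b - φ a ∈ 𝓖.F (n + 1)) :
    Function.Surjective (AssocGr.map h) := by
  intro y
  obtain ⟨g, rfl⟩ := AssocGr.mkG_surjective 𝓖 y
  have hex : ∀ n : ℕ, ∃ a : A, a ∈ 𝓕.F n ∧ (g : B[X]).coeff n - φ a ∈ 𝓖.F (n + 1) := by
    intro n
    obtain ⟨a, ha, hb⟩ := hsurj n _ (g.2 n)
    exact ⟨a, ha, hb⟩
  choose c hc1 hc2 using hex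
  let f0 : A[X] := ∑ n ∈ (g : B[X]).support, Polynomial.monomial n (c n)
  have hf0 : ∀ n, f0.coeff n = if n ∈ (g : B[X]).support then c n else 0 := by
    intro n
    simp only [f0, Polynomial.finset_sum_coeff, Polynomial.coeff_monomial]
    rw [Finset.sum_ite_eq' (g : B[X]).support n (fun i => c i)]
  have hf0mem : f0 ∈ 𝓕.rees := by
    intro n
    rw [hf0]
    split_ifs
    · exact hc1 n
    · exact Ideal.zero_mem _
  refine ⟨AssocGr.mkG 𝓕 ⟨f0, hf0mem⟩, ?_⟩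
  rw [AssocGr.map_mkG, ← sub_eq_zero, ← map_sub, AssocGr.mkG_eq_zero_iff]
  intro n
  rw [Subalgebra.coe_sub, Polynomial.coeff_sub, AssocGr.coe_reesMap, Polynomial.coeff_map]
  change φ (f0.coeff n) - (g : B[X]).coeff n ∈ 𝓖.F (n + 1)
  rw [hf0]
  split_ifs with hn
  · have := hc2 n
    rw [← neg_sub]
    exact Ideal.neg_mem_iff _ |>.2 this
  · rw [Polynomial.notMem_support_iff.1 hn, map_zero, sub_zero]
    exact Ideal.zero_mem _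

theorem piece_of_map_surjective (h : AssocGr.IsFiltHom φ 𝓕 𝓖)
    (hsurj : Function.Surjective (AssocGr.map h)) :
    ∀ n, ∀ b ∈ 𝓖.F n, ∃ a ∈ 𝓕.F n, b - φ a ∈ 𝓖.F (n + 1) := by
  intro n b hb
  obtain ⟨x, hx⟩ := hsurj (AssocGr.inDeg 𝓖 n ⟨b, hb⟩ : AssocGr.GrRing 𝓖)
  obtain ⟨f, rfl⟩ := AssocGr.mkG_surjective 𝓕 x
  rw [AssocGr.map_mkG, AssocGr.coe_inDeg, ← sub_eq_zero, ← map_sub, AssocGr.mkG_eq_zero_iff] at hx
  have h1 := hx n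
  rw [Subalgebra.coe_sub, Polynomial.coeff_sub, AssocGr.coe_reesMap, Polynomial.coeff_map,
    AssocGr.coe_coe_monom, Polynomial.coeff_monomial, if_pos rfl] at h1
  refine ⟨(f : A[X]).coeff n, f.2 n, ?_⟩
  rw [← neg_sub]
  exact (Ideal.neg_mem_iff _).2 h1

end Groth.Agent.Lib.GrMapDeg
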