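import Mathlib

namespace Groth.Agent.Lib.GrMat

variable {R : Type*} [CommRing R] {ι : Type*} [AddCommGroup ι]
    (E : ι → AddSubgroup R) (h0 : E 0 = ⊤)
    (hmul : ∀ a b : ι, ∀ x ∈ E a, ∀ y ∈ E b, x * y ∈ E (a + b))

include h0 hmul in
theorem prod_mem {α : Type*} (S : Finset α) (x : α → R) (a : α → ι)
    (h : ∀ l ∈ S, x l ∈ E (a l)) : ∏ l ∈ S, x l ∈ E (∑ l ∈ S, a l) := by
  classical
  induction S using Finset.induction_on with
  | empty => simp [h0]
  | insert l S hl ih =>
    rw [Finset.prod_insert hl, Finset.sum_insert hl]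
    exact hmul _ _ _ (h l (Finset.mem_insert_self _ _)) _
      (ih fun l' hl' => h l' (Finset.mem_insert_of_mem hl'))

include h0 hmul in
theorem adj_mem {r : ℕ} (wβ wγ : Fin r → ι) (hsum : ∑ j, wβ j = ∑ i, wγ i)
    (ϑ : Matrix (Fin r) (Fin r) R) (hϑ : ∀ i j, ϑ i j ∈ E (wγ i - wβ j)) (i j : Fin r) :
    Matrix.adjugate ϑ j i ∈ E (wβ j - wγ i) := by
  classical
  rw [Matrix.adjugate_apply, Matrix.det_apply']
  refine AddSubgroup.sum_mem _ fun σ _ => ?_
  have key : ∏ l, (ϑ.updateRow i (Pi.single j 1)) (σ l) l ∈ E (wβ j - wγ i) := by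
    by_cases hσ : σ j = i
    · have h1 : ∀ l ∈ Finset.univ, (ϑ.updateRow i (Pi.single j 1)) (σ l) l ∈
          E (if l = j then 0 else wγ (σ l) - wβ l) := by
        intro l _
        by_cases hl : l = j
        · rw [hl, if_pos rfl, hσ, Matrix.updateRow_self, Pi.single_eq_same, h0]
          exact AddSubgroup.mem_top _
        · rw [if_neg hl, Matrix.updateRow_ne (fun h => hl (σ.injective (h.trans hσ.symm)))]
          exact hϑ _ _
      have h2 := prod_mem E h0 hmul Finset.univ _ _ h1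
      have h3 : ∑ l, (if l = j then (0:ι) else wγ (σ l) - wβ l) = wβ j - wγ i := by
        have h4 : ∀ l, (if l = j then (0:ι) else wγ (σ l) - wβ l) =
            (wγ (σ l) - wβ l) - (if l = j then wγ (σ j) - wβ j else 0) := by
          intro l; split_ifs with h
          · rw [h]; simp
          · simp
        simp_rw [h4]
        rw [Finset.sum_sub_distrib, Finset.sum_sub_distrib, Finset.sum_ite_eq',
          Equiv.sum_comp σ wγ, hσ, ← hsum, if_pos (Finset.mem_univ _)]
        abel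
      rwa [h3] at h2
    · have h5 : ∏ l, (ϑ.updateRow i (Pi.single j 1)) (σ l) l = 0 := by
        refine Finset.prod_eq_zero (Finset.mem_univ (σ.symm i)) ?_
        rw [Equiv.apply_symm_apply, Matrix.updateRow_self, Pi.single_eq_of_ne]
        intro h; apply hσ; rw [← h]; simp
      rw [h5]; exact (E _).zero_mem
  rcases Int.units_eq_one_or (Equiv.Perm.sign σ) with h | h <;> rw [h]
  · simpa using key
  · simpa using (E _).neg_mem key

include h0 hmul in
theorem main {r : ℕ} (wβ wγ : Fin r → ι) (hsum : ∑ j, wβ j = ∑ i, wγ i)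
    (ϑ : Matrix (Fin r) (Fin r) R) (hϑ : ∀ i j, ϑ i j ∈ E (wγ i - wβ j))
    (hdet : IsUnit ϑ.det) (u : Fin r → R) :
    (∀ j, u j ∈ E (wβ j)) ↔ ∀ i, ϑ.mulVec u i ∈ E (wγ i) := by
  classical
  constructor
  · intro hu i
    change ∑ j, ϑ i j * u j ∈ E (wγ i)
    refine AddSubgroup.sum_mem _ fun j _ => ?_
    have := hmul _ _ _ (hϑ i j) _ (hu j)
    rwa [sub_add_cancel] at this
  · intro hv j
    obtain ⟨d, hd⟩ := hdet
    have h1 : (Matrix.adjugate ϑ).mulVec (ϑ.mulVec u) = ϑ.det • u := by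
      rw [Matrix.mulVec_mulVec, Matrix.adjugate_mul, Matrix.smul_mulVec, Matrix.one_mulVec]
    have h2 : ϑ.det * u j ∈ E (wβ j) := by
      have h6 := congrFun h1 j
      rw [Pi.smul_apply, smul_eq_mul] at h6
      rw [← h6]
      change ∑ i, Matrix.adjugate ϑ j i * (ϑ.mulVec u) i ∈ E (wβ j)
      refine AddSubgroup.sum_mem _ fun i _ => ?_
      have := hmul _ _ _ (adj_mem E h0 hmul wβ wγ hsum ϑ hϑ i j) _ (hv i)
      rwa [sub_add_cancel] at this
    have h3 : u j = (↑d⁻¹ : R) * (ϑ.det * u j) := by rw [← hd]; simp [← mul_assoc]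
    rw [h3]
    have := hmul 0 (wβ j) (↑d⁻¹ : R) (by rw [h0]; exact AddSubgroup.mem_top _) _ h2
    rwa [zero_add] at this

end Groth.Agent.Lib.GrMat
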