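import Mathlib
import Groth.Prelude.Def_GrLC
import Groth.Agent.Lib.Socle_helper1
import Groth.Agent.Lib.CanShift_helper1

/-! Graded Matlis duality over a positively graded ring `R` with `R₀` a field, in the form needed to
recognize `*Hom_R(X, E)` (`E` the *injective hull of the residue field): homogeneous maps `X → E` of
degree `j` are the same as `R₀`-linear functionals on `X_{-j}`, and a graded module `H` with finite
pieces carrying a balanced nondegenerate pairing `X_{-j} × H_j → E₀` is `*Hom_R(X, E)` (helper1).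
APPEND-ONLY once landed. -/

set_option autoImplicit false

namespace Groth.Agent.Lib.GrMatlisH1

open DirectSum GrLC Groth.Agent.Lib.GrStarH1 Groth.Agent.Lib.GrStar2H1 Groth.Agent.Lib.GrStar3H1
  Groth.Agent.Lib.GrHDecH1 Groth.Agent.Lib.GrHS3H1 Groth.Agent.Lib.SocleH1

universe u

attribute [local instance] shiftDecomp shift_gsmul

variable {R : Type u} [CommRing R] (𝒜 : ℤ → AddSubgroup R) [GradedRing 𝒜]
variable (hpos : ∀ n : ℤ, n < 0 → 𝒜 n = ⊥) (h0 : IsField (deg0 𝒜))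
variable (m : HomogeneousIdeal 𝒜)
  (hmsp : m.toIdeal = Ideal.span (⋃ n ∈ Set.Ioi (0 : ℤ), (𝒜 n : Set R)))
variable {E : Type u} [AddCommGroup E] [Module R E] (𝓔 : ℤ → AddSubgroup E) [Decomposition 𝓔]
  [SetLike.GradedSMul 𝒜 𝓔] (e : (R ⧸ m.toIdeal) →ₗ[R] E)
  (he : IsStarInjHull 𝒜 (GrLC.quotGr 𝒜 m) 𝓔 e)
variable {X : Type u} [AddCommGroup X] [Module R X] (𝒳 : ℤ → AddSubgroup X) [Decomposition 𝒳]
  [SetLike.GradedSMul 𝒜 𝒳]

include hpos h0 hmsp he in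
/-- every `R₀`-linear functional on a piece of a graded module with values in `E₀` extends to a
homogeneous map to `E` -/
theorem exists_ext_deg (i : ℤ) (lam : X → E)
    (hmem : ∀ x ∈ 𝒳 i, lam x ∈ 𝓔 0)
    (hadd : ∀ x ∈ 𝒳 i, ∀ x' ∈ 𝒳 i, lam (x + x') = lam x + lam x')
    (hsmul : ∀ a ∈ 𝒜 0, ∀ x ∈ 𝒳 i, lam (a • x) = a • lam x) :
    ∃ f : X →ₗ[R] E, IsGrHomDeg 𝒳 𝓔 f (-i) ∧ ∀ x ∈ 𝒳 i, f x = lam x := by
  classical
  have hlam0 : lam 0 = 0 := by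
    have h1 := hadd 0 (zero_mem _) 0 (zero_mem _)
    rw [add_zero] at h1
    exact left_eq_add.1 h1
  obtain ⟨J, hJdef⟩ : ∃ J : Submodule R X, J = tail 𝒜 𝒳 hpos i := ⟨_, rfl⟩
  have hJ : J.IsHomogeneous 𝒳 := by
    rw [hJdef]
    exact tail_isHomogeneous 𝒜 hpos 𝒳 i
  have hJmem : ∀ x : ↥J, (x : X) ∈ tail 𝒜 𝒳 hpos i := fun x => hJdef ▸ x.2
  have hdec : ∀ (s : R) (x : X), x ∈ tail 𝒜 𝒳 hpos i →
      (decompose 𝒳 (s • x) i : X) = (decompose 𝒜 s 0 : R) • (decompose 𝒳 x i : X) := by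
    intro s x hx
    rw [decompose_smul_eq_sum 𝒜 𝒳 s x i, Finset.sum_eq_single 0]
    · rw [sub_zero]
    · intro l _ hl
      by_cases hl0 : l < 0
      · rw [coe_eq_zero_of_bot 𝒜 (hpos l hl0) _ (decompose 𝒜 s l).2, zero_smul]
      · have h2 : (decompose 𝒳 x (i - l) : X) = 0 := hx (i - l) (by omega)
        rw [h2, smul_zero]
    · intro hl
      rw [DFinsupp.mem_support_toFun, not_not] at hl
      rw [hl, ZeroMemClass.coe_zero, zero_smul]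
  let g0 : ↥J →ₗ[R] E :=
    { toFun := fun x => lam (decompose 𝒳 (x : X) i : X)
      map_add' := fun x y => by
        show lam (decompose 𝒳 ((x : X) + (y : X)) i : X) =
          lam (decompose 𝒳 (x : X) i : X) + lam (decompose 𝒳 (y : X) i : X)
        rw [decompose_add, DirectSum.add_apply, AddSubgroup.coe_add]
        exact hadd _ (decompose 𝒳 (x : X) i).2 _ (decompose 𝒳 (y : X) i).2
      map_smul' := fun s x => by
        show lam (decompose 𝒳 (s • (x : X)) i : X) = s • lam (decompose 𝒳 (x : X) i : X)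
        rw [hdec s _ (hJmem x), hsmul _ (decompose 𝒜 s 0).2 _ (decompose 𝒳 (x : X) i).2]
        exact (smul_deg0_eq 𝒜 hpos h0 m hmsp 𝓔 e he s
          (hmem _ (decompose 𝒳 (x : X) i).2)).symm }
  have hg0 : ∀ x : ↥J, g0 x = lam (decompose 𝒳 (x : X) i : X) := fun _ => rfl
  letI := subDecomp 𝒳 J hJ
  letI := sub_gsmul 𝒜 𝒳 J
  have hg0gr : IsGrHom (subGr 𝒳 J) (shiftGr 𝓔 (-i)) g0 := by
    intro l x hx
    have hx' : (x : X) ∈ 𝒳 l := (mem_subGr 𝒳 J).1 hx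
    show g0 x ∈ 𝓔 (-i + l)
    rw [hg0]
    by_cases hl : l = i
    · have h1 : -i + l = 0 := by omega
      rw [h1]
      exact hmem _ (decompose 𝒳 (x : X) i).2
    · rw [decompose_of_mem_ne 𝒳 hx' hl, hlam0]
      exact zero_mem _
  obtain ⟨h, hhgr, hh⟩ := starInj_ext 𝒜 (subGr 𝒳 J) 𝒳
    (Groth.Agent.Lib.GrLES3H1.shift_starInj 𝒜 𝓔 he.starInj (-i))
    J.subtype (subtype_isGrHom 𝒳 J) J.injective_subtype g0 hg0gr
  refine ⟨h, fun g x hx => ?_, fun x hx => ?_⟩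
  · have h2 : h x ∈ 𝓔 (-i + g) := hhgr g x hx
    exact mem_of_eq 𝓔 (by ring) h2
  · have hxJ : x ∈ J := by
      rw [hJdef]
      exact gr_le_tail 𝒜 𝒳 hpos le_rfl hx
    have h3 : h x = g0 ⟨x, hxJ⟩ := LinearMap.congr_fun hh ⟨x, hxJ⟩
    rw [h3, hg0]
    show lam (decompose 𝒳 x i : X) = lam x
    rw [decompose_of_mem_same 𝒳 hx]

include hpos h0 hmsp he in
/-- a homogeneous map to `E` of degree `j` is determined by its restriction to `X_{-j}` -/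
theorem hom_ext_deg {j : ℤ} {f f' : X →ₗ[R] E} (hf : IsGrHomDeg 𝒳 𝓔 f j)
    (hf' : IsGrHomDeg 𝒳 𝓔 f' j) (h : ∀ x ∈ 𝒳 (-j), f x = f' x) : f = f' := by
  classical
  have key : ∀ (g : ℤ) (x : X), x ∈ 𝒳 g → f x = f' x := by
    intro g x hx
    by_contra hne
    have hy : f x - f' x ∈ 𝓔 (g + j) := sub_mem (hf g x hx) (hf' g x hx)
    have hy0 : f x - f' x ≠ 0 := sub_ne_zero.2 hne
    obtain ⟨r, hr, hru⟩ := exists_smul_eq_u 𝒜 hpos h0 m hmsp 𝓔 e he hy hy0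
    have hrx : r • x ∈ 𝒳 (-j) := mem_of_eq 𝒳 (by ring) (smul_mem_gr 𝒜 𝒳 hr hx)
    have h1 := h _ hrx
    rw [map_smul, map_smul] at h1
    apply u_ne 𝒜 hpos h0 m hmsp 𝓔 e he
    rw [← hru, smul_sub, h1, sub_self]
  apply LinearMap.ext
  intro x
  rw [← DirectSum.sum_support_decompose 𝒳 x, map_sum, map_sum]
  exact Finset.sum_congr rfl (fun g _ => key g _ (decompose 𝒳 x g).2)

/-! ### the recognition principle -/

variable [IsNoetherianRing R] [Module.Finite R X]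
variable {H : Type u} [AddCommGroup H] [Module R H] (𝓗 : ℤ → AddSubgroup H) [Decomposition 𝓗]
  [SetLike.GradedSMul 𝒜 𝓗]

include hpos h0 hmsp he in
/-- A graded module `H` with finite pieces carrying a balanced pairing `X_{-j} × H_j → E₀`,
nondegenerate in `H`, with `dim X_{-j} = dim H_j`, is `*Hom_R(X, E)`. -/
theorem recognize_hom (b : ℤ → X → H → E)
    (b_mem : ∀ j : ℤ, ∀ x ∈ 𝒳 (-j), ∀ h ∈ 𝓗 j, b j x h ∈ 𝓔 0)
    (b_addx : ∀ j : ℤ, ∀ x ∈ 𝒳 (-j), ∀ x' ∈ 𝒳 (-j), ∀ h ∈ 𝓗 j,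
      b j (x + x') h = b j x h + b j x' h)
    (b_smulx : ∀ j : ℤ, ∀ a ∈ 𝒜 0, ∀ x ∈ 𝒳 (-j), ∀ h ∈ 𝓗 j, b j (a • x) h = a • b j x h)
    (b_addh : ∀ j : ℤ, ∀ x ∈ 𝒳 (-j), ∀ h ∈ 𝓗 j, ∀ h' ∈ 𝓗 j,
      b j x (h + h') = b j x h + b j x h')
    (b_bal : ∀ (i j : ℤ), ∀ t ∈ 𝒜 i, ∀ x ∈ 𝒳 (-(i + j)), ∀ h ∈ 𝓗 j,
      b j (t • x) h = b (i + j) x (t • h))
    (b_nondeg : ∀ j : ℤ, ∀ h ∈ 𝓗 j, (∀ x ∈ 𝒳 (-j), b j x h = 0) → h = 0)
    (b_dim : ∀ j : ℤ, Module.finrank (deg0 𝒜) ↥(comp 𝒜 𝒳 (-j)) =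
      Module.finrank (deg0 𝒜) ↥(comp 𝒜 𝓗 j))
    (hfinH : ∀ j : ℤ, Module.Finite (deg0 𝒜) ↥(comp 𝒜 𝓗 j)) :
    ∃ φ : (X →ₗ[R] E) ≃ₗ[R] H,
      IsGrHom (fun d => (homDeg 𝒜 𝒳 𝓔 d).toAddSubgroup) 𝓗 φ.toLinearMap := by
  classical
  -- the homogeneous map attached to a homogeneous element of `H`
  have hex : ∀ (j : ℤ) (h : ↥(𝓗 j)), ∃ f : X →ₗ[R] E, IsGrHomDeg 𝒳 𝓔 f j ∧
      ∀ x ∈ 𝒳 (-j), f x = b j x (h : H) := by
    intro j h
    obtain ⟨f, hf, hfx⟩ := exists_ext_deg 𝒜 hpos h0 m hmsp 𝓔 e he 𝒳 (-j)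
      (fun x => b j x (h : H))
      (fun x hx => b_mem j x hx _ h.2) (fun x hx x' hx' => b_addx j x hx x' hx' _ h.2)
      (fun a ha x hx => b_smulx j a ha x hx _ h.2)
    refine ⟨f, ?_, hfx⟩
    rw [neg_neg] at hf
    exact hf
  choose L hLdeg hLval using hex
  have hLadd : ∀ (j : ℤ) (h h' : ↥(𝓗 j)), L j (h + h') = L j h + L j h' := by
    intro j h h'
    refine hom_ext_deg 𝒜 hpos h0 m hmsp 𝓔 e he 𝒳 (hLdeg j _)
      ((homDeg 𝒜 𝒳 𝓔 j).add_mem (hLdeg j h) (hLdeg j h')) (fun x hx => ?_)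
    rw [LinearMap.add_apply, hLval j _ x hx, hLval j h x hx, hLval j h' x hx]
    show b j x ((h : H) + (h' : H)) = _
    exact b_addh j x hx _ h.2 _ h'.2
  obtain ⟨LA, hLA⟩ : ∃ LA : ∀ j : ℤ, ↥(𝓗 j) →+ (X →ₗ[R] E), ∀ j h, LA j h = L j h :=
    ⟨fun j => AddMonoidHom.mk' (L j) (hLadd j), fun _ _ => rfl⟩
  obtain ⟨Λ, hΛdef⟩ : ∃ Λ : H →+ (X →ₗ[R] E),
      ∀ h, Λ h = DirectSum.toAddMonoid LA (decompose 𝓗 h) :=
    ⟨(DirectSum.toAddMonoid LA).comp (decomposeAddEquiv 𝓗).toAddMonoidHom, fun _ => rfl⟩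
  have hΛ_of : ∀ {j : ℤ} {h : H} (hh : h ∈ 𝓗 j), Λ h = L j ⟨h, hh⟩ := by
    intro j h hh
    rw [hΛdef, decompose_of_mem 𝓗 hh, DirectSum.toAddMonoid_of, hLA]
  -- `R`-linearity
  have hΛsmul : ∀ (r : R) (h : H), Λ (r • h) = r • Λ h := by
    intro r h
    induction r using DirectSum.Decomposition.inductionOn 𝒜 with
    | zero => rw [zero_smul, map_zero, zero_smul]
    | @homogeneous i t =>
      induction h using DirectSum.Decomposition.inductionOn 𝓗 with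
      | zero => rw [smul_zero, map_zero, smul_zero]
      | @homogeneous j h =>
        have hth : (t : R) • (h : H) ∈ 𝓗 (i + j) := smul_mem_gr 𝒜 𝓗 t.2 h.2
        rw [hΛ_of hth, hΛ_of h.2]
        refine hom_ext_deg 𝒜 hpos h0 m hmsp 𝓔 e he 𝒳 (hLdeg (i + j) _) ?_ (fun x hx => ?_)
        · intro g x hx
          rw [LinearMap.smul_apply]
          exact mem_of_eq 𝓔 (by ring) (smul_mem_gr 𝒜 𝓔 t.2 (hLdeg j ⟨(h : H), h.2⟩ g x hx))
        · rw [hLval (i + j) _ x hx, LinearMap.smul_apply, ← map_smul]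
          have htx : (t : R) • x ∈ 𝒳 (-j) :=
            mem_of_eq 𝒳 (by ring) (smul_mem_gr 𝒜 𝒳 t.2 hx)
          rw [hLval j _ _ htx]
          exact (b_bal i j t t.2 x hx h h.2).symm
      | add h h' ih ih' => rw [smul_add, map_add, map_add, ih, ih', smul_add]
    | add r r' ih ih' => rw [add_smul, map_add, ih, ih', add_smul]
  -- homogeneous components
  have hcomp : ∀ (h : H) (d g : ℤ) (x : X), x ∈ 𝒳 g →
      (decompose 𝓔 (Λ h x) (g + d) : E) = Λ ((decompose 𝓗 h d : 𝓗 d) : H) x := by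
    intro h d g x hx
    induction h using DirectSum.Decomposition.inductionOn 𝓗 with
    | zero =>
      simp only [map_zero, LinearMap.zero_apply, decompose_zero, DirectSum.zero_apply,
        ZeroMemClass.coe_zero]
    | @homogeneous j h =>
      have h1 : Λ (h : H) x ∈ 𝓔 (g + j) := by
        rw [hΛ_of h.2]
        exact hLdeg j _ g x hx
      by_cases hjd : j = d
      · subst hjd
        rw [decompose_of_mem_same 𝓔 h1, decompose_of_mem_same 𝓗 h.2]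
      · have hne : g + j ≠ g + d := fun h' => hjd (by omega)
        rw [decompose_of_mem_ne 𝓔 h1 hne, decompose_of_mem_ne 𝓗 h.2 hjd, map_zero,
          LinearMap.zero_apply]
    | add h h' ih ih' =>
      simp only [map_add, LinearMap.add_apply, decompose_add, DirectSum.add_apply,
        AddSubgroup.coe_add, ih, ih']
  -- injectivity
  have hinj : Function.Injective Λ := by
    rw [injective_iff_map_eq_zero]
    intro h hh
    have hz : ∀ d, ((decompose 𝓗 h d : 𝓗 d) : H) = 0 := by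
      intro d
      apply b_nondeg d _ (decompose 𝓗 h d).2
      intro x hx
      have h1 := hcomp h d (-d) x hx
      rw [hh, LinearMap.zero_apply, decompose_zero, DirectSum.zero_apply,
        ZeroMemClass.coe_zero] at h1
      rw [hΛ_of (decompose 𝓗 h d).2, hLval d _ x hx] at h1
      exact h1.symm
    rw [← DirectSum.sum_support_decompose 𝓗 h]
    exact Finset.sum_eq_zero (fun d _ => hz d)
  -- surjectivity onto the homogeneous maps
  have hsurj_deg : ∀ (d : ℤ) (f : X →ₗ[R] E), IsGrHomDeg 𝒳 𝓔 f d → ∃ h ∈ 𝓗 d, Λ h = f := by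
    intro d f hf
    letI : Field (deg0 𝒜) := h0.toField
    haveI finW : Module.Finite (deg0 𝒜) ↥(comp 𝒜 𝒳 (-d)) :=
      Module.Finite.iff_fg.2
        (Groth.Agent.Lib.GrLES4H1.piece_fg 𝒜 hpos 𝒳 (-d) (comp 𝒜 𝒳 (-d)) (fun _ => Iff.rfl))
    haveI finV : Module.Finite (deg0 𝒜) ↥(comp 𝒜 𝓗 d) := hfinH d
    have hL1 : Module.finrank (deg0 𝒜) ↥(comp 𝒜 𝓔 0) = 1 :=
      finrank_deg0 𝒜 hpos h0 m hmsp 𝓔 e he
    haveI finL : Module.Finite (deg0 𝒜) ↥(comp 𝒜 𝓔 0) :=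
      Module.finite_of_finrank_pos (by rw [hL1]; exact one_pos)
    have hbs : ∀ a ∈ 𝒜 0, ∀ x ∈ 𝒳 (-d), ∀ h ∈ 𝓗 d, b d x (a • h) = a • b d x h := by
      intro a ha x hx h hh
      have hx' : x ∈ 𝒳 (-(0 + d)) := by
        rw [zero_add]
        exact hx
      have h1 := b_bal 0 d a ha x hx' h hh
      rw [zero_add] at h1
      rw [← h1]
      exact b_smulx d a ha x hx h hh
    let Θ : ↥(comp 𝒜 𝓗 d) →ₗ[deg0 𝒜] ↥(comp 𝒜 𝒳 (-d)) →ₗ[deg0 𝒜] ↥(comp 𝒜 𝓔 0) :=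
      LinearMap.mk₂ (deg0 𝒜)
        (fun h x => ⟨b d (x : X) (h : H),
          b_mem d _ (mem_of_comp 𝒜 𝒳 x) _ (mem_of_comp 𝒜 𝓗 h)⟩)
        (fun h h' x => Subtype.ext (by
          show b d (x : X) ((h : H) + (h' : H)) = b d (x : X) (h : H) + b d (x : X) (h' : H)
          exact b_addh d _ (mem_of_comp 𝒜 𝒳 x) _ (mem_of_comp 𝒜 𝓗 h) _ (mem_of_comp 𝒜 𝓗 h')))
        (fun a h x => Subtype.ext (by
          show b d (x : X) ((a : R) • (h : H)) = (a : R) • b d (x : X) (h : H)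
          exact hbs _ (show (a : R) ∈ 𝒜 0 from a.2) _ (mem_of_comp 𝒜 𝒳 x) _
            (mem_of_comp 𝒜 𝓗 h)))
        (fun h x x' => Subtype.ext (by
          show b d ((x : X) + (x' : X)) (h : H) = b d (x : X) (h : H) + b d (x' : X) (h : H)
          exact b_addx d _ (mem_of_comp 𝒜 𝒳 x) _ (mem_of_comp 𝒜 𝒳 x') _ (mem_of_comp 𝒜 𝓗 h)))
        (fun a h x => Subtype.ext (by
          show b d ((a : R) • (x : X)) (h : H) = (a : R) • b d (x : X) (h : H)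
          exact b_smulx d _ (show (a : R) ∈ 𝒜 0 from a.2) _ (mem_of_comp 𝒜 𝒳 x) _
            (mem_of_comp 𝒜 𝓗 h)))
    have hΘ : ∀ (h : ↥(comp 𝒜 𝓗 d)) (x : ↥(comp 𝒜 𝒳 (-d))),
        ((Θ h x : ↥(comp 𝒜 𝓔 0)) : E) = b d (x : X) (h : H) := fun _ _ => rfl
    have hΘinj : Function.Injective Θ := by
      rw [injective_iff_map_eq_zero]
      intro h hh0
      apply Subtype.ext
      refine b_nondeg d _ (mem_of_comp 𝒜 𝓗 h) (fun x hx => ?_)
      have h1 := hΘ h ⟨x, hx⟩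
      rw [hh0, LinearMap.zero_apply, Submodule.coe_zero] at h1
      exact h1.symm
    have e2 : Module.finrank (deg0 𝒜) (↥(comp 𝒜 𝒳 (-d)) →ₗ[deg0 𝒜] ↥(comp 𝒜 𝓔 0)) =
        Module.finrank (deg0 𝒜) ↥(comp 𝒜 𝒳 (-d)) := by
      rw [Module.finrank_linearMap, hL1, mul_one]
    have heq : Module.finrank (deg0 𝒜) ↥(comp 𝒜 𝓗 d) =
        Module.finrank (deg0 𝒜) (↥(comp 𝒜 𝒳 (-d)) →ₗ[deg0 𝒜] ↥(comp 𝒜 𝓔 0)) := by
      rw [e2]
      exact (b_dim d).symm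
    have hΘsurj : Function.Surjective Θ := by
      have h := @LinearMap.injective_iff_surjective_of_finrank_eq_finrank (deg0 𝒜)
        ↥(comp 𝒜 𝓗 d) _ _ _
        (↥(comp 𝒜 𝒳 (-d)) →ₗ[deg0 𝒜] ↥(comp 𝒜 𝓔 0)) _ _ _ _ heq Θ
      exact h.1 hΘinj
    let lamf : ↥(comp 𝒜 𝒳 (-d)) →ₗ[deg0 𝒜] ↥(comp 𝒜 𝓔 0) :=
      { toFun := fun x => ⟨f (x : X),
          mem_of_eq 𝓔 (neg_add_cancel d) (hf (-d) _ (mem_of_comp 𝒜 𝒳 x))⟩
        map_add' := fun x x' => Subtype.ext (map_add f _ _)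
        map_smul' := fun a x => Subtype.ext (map_smul f (a : R) (x : X)) }
    have hlamf : ∀ x : ↥(comp 𝒜 𝒳 (-d)), ((lamf x : ↥(comp 𝒜 𝓔 0)) : E) = f (x : X) :=
      fun _ => rfl
    obtain ⟨h, hh⟩ := hΘsurj lamf
    refine ⟨(h : H), mem_of_comp 𝒜 𝓗 h, ?_⟩
    rw [hΛ_of (mem_of_comp 𝒜 𝓗 h)]
    refine hom_ext_deg 𝒜 hpos h0 m hmsp 𝓔 e he 𝒳 (hLdeg d _) hf (fun x hx => ?_)
    rw [hLval d _ x hx]
    have h1 := hΘ h ⟨x, hx⟩
    rw [hh, hlamf] at h1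
    exact h1.symm
  have hsurj : Function.Surjective Λ := by
    intro f
    obtain ⟨D, hD⟩ := Groth.Agent.Lib.CanShiftH1.exists_finset_sum_compLin 𝒜 𝒳 𝓔 f
    have hmem : ∀ d, Groth.Agent.Lib.CanShiftH1.compLin 𝒜 𝒳 𝓔 f d ∈ AddMonoidHom.range Λ := by
      intro d
      obtain ⟨h, -, hh⟩ := hsurj_deg d _
        (Groth.Agent.Lib.CanShiftH1.isGrHomDeg_compLin 𝒜 𝒳 𝓔 f d)
      exact ⟨h, hh⟩
    have h2 : f ∈ AddMonoidHom.range Λ := by
      rw [hD]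
      exact AddSubgroup.sum_mem _ (fun d _ => hmem d)
    exact h2
  obtain ⟨Λl, hΛl⟩ : ∃ Λl : H →ₗ[R] (X →ₗ[R] E), ∀ h, Λl h = Λ h :=
    ⟨{ toFun := Λ, map_add' := Λ.map_add, map_smul' := hΛsmul }, fun _ => rfl⟩
  have hbij : Function.Bijective Λl := by
    constructor
    · intro h h' hhh
      rw [hΛl, hΛl] at hhh
      exact hinj hhh
    · intro f
      obtain ⟨h, hh⟩ := hsurj f
      exact ⟨h, by rw [hΛl, hh]⟩
  refine ⟨(LinearEquiv.ofBijective Λl hbij).symm, ?_⟩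
  intro d f hf
  obtain ⟨h, hh, hΛh⟩ := hsurj_deg d f hf
  have e1 : (LinearEquiv.ofBijective Λl hbij) h = f := by
    rw [LinearEquiv.ofBijective_apply, hΛl, hΛh]
  show (LinearEquiv.ofBijective Λl hbij).symm f ∈ 𝓗 d
  rw [← e1, LinearEquiv.symm_apply_apply]
  exact hh

end Groth.Agent.Lib.GrMatlisH1
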