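import Mathlib

/-!
# A graded module attached to a module over a homogeneous localization (lead, for S12095)

`S` an `ℕ`-graded `R`-algebra, `f ∈ S_1`, `T = S_(f)`.  Part 1: the ring homomorphism
`phi : S → T[X]`, `s ↦ ∑ (s_d / f^d) X^d`, and the induced `S`-module structure on `M[X]`
for a `T`-module `M`.
-/

set_option autoImplicit false
set_option linter.all false
set_option maxHeartbeats 1600000

universe u

open Polynomial DirectSum

namespace Groth.Agent.Lib.GrModL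

noncomputable section

variable {R : Type u} [CommRing R] {S : Type u} [CommRing S] [Algebra R S]
  (𝒜 : ℕ → Submodule R S) [GradedAlgebra 𝒜] {f : S}

/-- `s / f^d` for `s ∈ 𝒜 d`. -/
def frac (hf : f ∈ 𝒜 1) (d : ℕ) (s : S) (hs : s ∈ 𝒜 d) : HomogeneousLocalization.Away 𝒜 f :=
  HomogeneousLocalization.Away.mk 𝒜 hf d s (by rwa [smul_eq_mul, mul_one])

lemma val_frac (hf : f ∈ 𝒜 1) (d : ℕ) (s : S) (hs : s ∈ 𝒜 d) :
    (frac 𝒜 hf d s hs).val = Localization.mk s (⟨f ^ d, ⟨d, rfl⟩⟩ : Submonoid.powers f) := rfl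

lemma frac_congr (hf : f ∈ 𝒜 1) (d : ℕ) {s s' : S} (h : s = s') (hs : s ∈ 𝒜 d) (hs' : s' ∈ 𝒜 d) :
    frac 𝒜 hf d s hs = frac 𝒜 hf d s' hs' := by
  subst h
  rfl

lemma frac_congr' (hf : f ∈ 𝒜 1) {d d' : ℕ} (hd : d = d') {s : S} (hs : s ∈ 𝒜 d) (hs' : s ∈ 𝒜 d') :
    frac 𝒜 hf d s hs = frac 𝒜 hf d' s hs' := by
  subst hd
  rfl

lemma frac_zero (hf : f ∈ 𝒜 1) (d : ℕ) : frac 𝒜 hf d 0 (zero_mem _) = 0 := by
  apply HomogeneousLocalization.val_injective
  rw [HomogeneousLocalization.val_zero, val_frac, Localization.mk_zero]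

lemma frac_add (hf : f ∈ 𝒜 1) (d : ℕ) (s s' : S) (hs : s ∈ 𝒜 d) (hs' : s' ∈ 𝒜 d) :
    frac 𝒜 hf d (s + s') (add_mem hs hs') = frac 𝒜 hf d s hs + frac 𝒜 hf d s' hs' := by
  apply HomogeneousLocalization.val_injective
  rw [HomogeneousLocalization.val_add, val_frac, val_frac, val_frac, Localization.add_mk_self]

lemma frac_mul (hf : f ∈ 𝒜 1) (d d' : ℕ) (s s' : S) (hs : s ∈ 𝒜 d) (hs' : s' ∈ 𝒜 d') :
    frac 𝒜 hf (d + d') (s * s') (SetLike.mul_mem_graded hs hs')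
      = frac 𝒜 hf d s hs * frac 𝒜 hf d' s' hs' := by
  apply HomogeneousLocalization.val_injective
  rw [HomogeneousLocalization.val_mul, val_frac, val_frac, val_frac, Localization.mk_mul]
  congr 1
  apply Subtype.ext
  exact pow_add f d d'

lemma frac_one (hf : f ∈ 𝒜 1) : frac 𝒜 hf 0 1 (SetLike.GradedOne.one_mem) = 1 := by
  apply HomogeneousLocalization.val_injective
  rw [HomogeneousLocalization.val_one, val_frac]
  have h : (⟨f ^ 0, ⟨0, rfl⟩⟩ : Submonoid.powers f) = 1 := Subtype.ext (pow_zero f)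
  rw [h]
  exact Localization.mk_one

lemma hfpow (hf : f ∈ 𝒜 1) (k : ℕ) : f ^ k ∈ 𝒜 k := by
  have h := SetLike.pow_mem_graded k hf
  rwa [smul_eq_mul, mul_one] at h

lemma frac_pow_self (hf : f ∈ 𝒜 1) (k : ℕ) : frac 𝒜 hf k (f ^ k) (hfpow 𝒜 hf k) = 1 := by
  apply HomogeneousLocalization.val_injective
  rw [HomogeneousLocalization.val_one, val_frac]
  exact Localization.mk_self (⟨f ^ k, ⟨k, rfl⟩⟩ : Submonoid.powers f)

lemma frac_self (hf : f ∈ 𝒜 1) : frac 𝒜 hf 1 f hf = 1 := by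
  have h := frac_pow_self 𝒜 hf 1
  rw [← h]
  exact frac_congr 𝒜 hf 1 (pow_one f).symm _ _

/-- Every element of `S_(f)` is some `s / f^d`. -/
lemma exists_frac (hf : f ∈ 𝒜 1) (t : HomogeneousLocalization.Away 𝒜 f) :
    ∃ (d : ℕ) (s : S) (hs : s ∈ 𝒜 d), frac 𝒜 hf d s hs = t := by
  obtain ⟨n, a, ha, h⟩ := HomogeneousLocalization.Away.mk_surjective 𝒜 hf t
  have ha' : a ∈ 𝒜 n := by rwa [smul_eq_mul, mul_one] at ha
  exact ⟨n, a, ha', h⟩

/-- The degree `d` component of `phi`. -/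
def phiD (hf : f ∈ 𝒜 1) (d : ℕ) : 𝒜 d →+ (HomogeneousLocalization.Away 𝒜 f)[X] where
  toFun s := monomial d (frac 𝒜 hf d s.1 s.2)
  map_zero' := by
    show monomial d (frac 𝒜 hf d 0 (zero_mem _)) = 0
    rw [frac_zero, map_zero]
  map_add' a b := by
    show monomial d (frac 𝒜 hf d (a.1 + b.1) (add_mem a.2 b.2))
      = monomial d (frac 𝒜 hf d a.1 a.2) + monomial d (frac 𝒜 hf d b.1 b.2)
    rw [frac_add, map_add]

/-- `phi` on the direct sum. -/
def phiDS (hf : f ∈ 𝒜 1) : (⨁ d, 𝒜 d) →+* (HomogeneousLocalization.Away 𝒜 f)[X] :=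
  DirectSum.toSemiring (fun d => phiD 𝒜 hf d)
    (by
      show monomial 0 (frac 𝒜 hf 0 1 SetLike.GradedOne.one_mem) = 1
      rw [frac_one]
      rfl)
    (by
      intro i j a b
      show monomial (i + j) (frac 𝒜 hf (i + j) (a.1 * b.1) (SetLike.mul_mem_graded a.2 b.2))
        = monomial i (frac 𝒜 hf i a.1 a.2) * monomial j (frac 𝒜 hf j b.1 b.2)
      rw [frac_mul, Polynomial.monomial_mul_monomial])

/-- The ring homomorphism `S → S_(f)[X]`, `s ↦ ∑ (s_d / f^d) X^d`. -/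
def phi (hf : f ∈ 𝒜 1) : S →+* (HomogeneousLocalization.Away 𝒜 f)[X] :=
  (phiDS 𝒜 hf).comp (DirectSum.decomposeRingEquiv 𝒜).toRingHom

lemma phi_of_mem (hf : f ∈ 𝒜 1) (d : ℕ) (s : S) (hs : s ∈ 𝒜 d) :
    phi 𝒜 hf s = monomial d (frac 𝒜 hf d s hs) := by
  show phiDS 𝒜 hf (DirectSum.decompose 𝒜 s) = _
  rw [DirectSum.decompose_of_mem 𝒜 hs]
  unfold phiDS
  rw [DirectSum.toSemiring_of]
  rfl

/-- Evaluation at `X = 1`: the ring homomorphism `S → S_(f)`, `s ↦ ∑ s_d / f^d`. -/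
def eps (hf : f ∈ 𝒜 1) : S →+* HomogeneousLocalization.Away 𝒜 f :=
  (Polynomial.evalRingHom 1).comp (phi 𝒜 hf)

lemma eps_of_mem (hf : f ∈ 𝒜 1) (d : ℕ) (s : S) (hs : s ∈ 𝒜 d) : eps 𝒜 hf s = frac 𝒜 hf d s hs := by
  show Polynomial.eval 1 (phi 𝒜 hf s) = _
  rw [phi_of_mem 𝒜 hf d s hs, Polynomial.eval_monomial, one_pow, mul_one]

section W

/-- `M[X]` with its `S`-module structure through `phi`. -/
def W (hf : f ∈ 𝒜 1) (M : Type u) [AddCommGroup M] [Module (HomogeneousLocalization.Away 𝒜 f) M] :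
    Type u := PolynomialModule (HomogeneousLocalization.Away 𝒜 f) M

variable (hf : f ∈ 𝒜 1)
variable (M : Type u) [AddCommGroup M] [Module (HomogeneousLocalization.Away 𝒜 f) M]

instance : AddCommGroup (W 𝒜 hf M) :=
  inferInstanceAs (AddCommGroup (PolynomialModule (HomogeneousLocalization.Away 𝒜 f) M))

instance instModuleSW : Module S (W 𝒜 hf M) :=
  Module.compHom (PolynomialModule (HomogeneousLocalization.Away 𝒜 f) M) (phi 𝒜 hf)

instance instModuleRW : Module R (W 𝒜 hf M) :=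
  Module.compHom (PolynomialModule (HomogeneousLocalization.Away 𝒜 f) M)
    ((phi 𝒜 hf).comp (algebraMap R S))

instance : IsScalarTower R S (W 𝒜 hf M) := by
  refine ⟨fun r s w => ?_⟩
  show (phi 𝒜 hf (r • s)) • (show PolynomialModule (HomogeneousLocalization.Away 𝒜 f) M from w)
    = (phi 𝒜 hf (algebraMap R S r)) •
      ((phi 𝒜 hf s) • (show PolynomialModule (HomogeneousLocalization.Away 𝒜 f) M from w))
  rw [Algebra.smul_def, map_mul, mul_smul]

variable {M}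

/-- The monomial `m X^k`. -/
def sg (k : ℕ) (m : M) : W 𝒜 hf M :=
  PolynomialModule.single (HomogeneousLocalization.Away 𝒜 f) k m

/-- The coefficient of `X^k`. -/
def cf (w : W 𝒜 hf M) (k : ℕ) : M :=
  PolynomialModule.coeff (show PolynomialModule (HomogeneousLocalization.Away 𝒜 f) M from w) k

include hf in
lemma cf_sg (k : ℕ) (m : M) (j : ℕ) : cf 𝒜 hf (sg 𝒜 hf k m) j = if k = j then m else 0 := by
  show (Finsupp.single k m) j = _
  exact Finsupp.single_apply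

include hf in
lemma cf_add (w w' : W 𝒜 hf M) (k : ℕ) : cf 𝒜 hf (w + w') k = cf 𝒜 hf w k + cf 𝒜 hf w' k := rfl

include hf in
lemma cf_zero (k : ℕ) : cf 𝒜 hf (0 : W 𝒜 hf M) k = 0 := rfl

include hf in
lemma ext_cf {w w' : W 𝒜 hf M} (h : ∀ k, cf 𝒜 hf w k = cf 𝒜 hf w' k) : w = w' := by
  apply PolynomialModule.ext (R := HomogeneousLocalization.Away 𝒜 f)
  exact Finsupp.ext h

include hf in
lemma sg_add (k : ℕ) (m m' : M) : sg 𝒜 hf k (m + m') = sg 𝒜 hf k m + sg 𝒜 hf k m' :=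
  PolynomialModule.single_add k m m'

include hf in
lemma sg_zero (k : ℕ) : sg 𝒜 hf k (0 : M) = 0 :=
  PolynomialModule.single_zero k

include hf in
lemma sg_injective (k : ℕ) {m m' : M} (h : sg 𝒜 hf k m = sg 𝒜 hf k m') : m = m' := by
  have h1 := congrArg (fun w => cf 𝒜 hf w k) h
  simp only [cf_sg, if_true] at h1
  exact h1

include hf in
lemma smul_sg (d : ℕ) (s : S) (hs : s ∈ 𝒜 d) (k : ℕ) (m : M) :
    s • sg 𝒜 hf k m = sg 𝒜 hf (d + k) (frac 𝒜 hf d s hs • m) := by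
  show (phi 𝒜 hf s) • PolynomialModule.single (HomogeneousLocalization.Away 𝒜 f) k m = _
  rw [phi_of_mem 𝒜 hf d s hs, PolynomialModule.monomial_smul_single]
  rfl

include hf in
lemma cf_smul (d : ℕ) (s : S) (hs : s ∈ 𝒜 d) (w : W 𝒜 hf M) (k : ℕ) :
    cf 𝒜 hf (s • w) k = if d ≤ k then frac 𝒜 hf d s hs • cf 𝒜 hf w (k - d) else 0 := by
  show PolynomialModule.coeff ((phi 𝒜 hf s) •
    (show PolynomialModule (HomogeneousLocalization.Away 𝒜 f) M from w)) k = _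
  rw [phi_of_mem 𝒜 hf d s hs, PolynomialModule.monomial_smul_apply]
  rfl

/-- The support of an element of `M[X]`. -/
def spt (w : W 𝒜 hf M) : Finset ℕ :=
  (PolynomialModule.coeff
    (show PolynomialModule (HomogeneousLocalization.Away 𝒜 f) M from w)).support

lemma mem_spt (w : W 𝒜 hf M) (j : ℕ) : j ∈ spt 𝒜 hf w ↔ cf 𝒜 hf w j ≠ 0 :=
  Finsupp.mem_support_iff

/-- The coefficient map as an additive homomorphism. -/
def cfHom (j : ℕ) : W 𝒜 hf M →+ M where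
  toFun w := cf 𝒜 hf w j
  map_zero' := rfl
  map_add' _ _ := rfl

lemma cf_sum {ι : Type*} (s : Finset ι) (g : ι → W 𝒜 hf M) (j : ℕ) :
    cf 𝒜 hf (∑ i ∈ s, g i) j = ∑ i ∈ s, cf 𝒜 hf (g i) j :=
  map_sum (cfHom 𝒜 hf j) g s

lemma eq_sum_sg (w : W 𝒜 hf M) :
    w = ∑ k ∈ spt 𝒜 hf w, sg 𝒜 hf k (cf 𝒜 hf w k) := by
  classical
  apply ext_cf 𝒜 hf
  intro j
  rw [cf_sum]
  simp only [cf_sg]
  rw [Finset.sum_ite_eq']
  split_ifs with h
  · rfl
  · by_contra hne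
    exact h ((mem_spt 𝒜 hf w j).2 hne)

end W

end

end Groth.Agent.Lib.GrModL
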