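import Mathlib
import Groth.Agent.Lib.GrMod1_lead

/-!
# Part 2: the graded submodule generated by constants (lead, for S12095)
-/

set_option autoImplicit false
set_option linter.all false
set_option maxHeartbeats 1600000

universe u

open Polynomial DirectSum

namespace Groth.Agent.Lib.GrModL

noncomputable section

variable {R : Type u} [CommRing R] {S : Type u} [CommRing S] [Algebra R S]
  (𝒜 : ℕ → Submodule R S) [GradedAlgebra 𝒜] {f : S} (hf : f ∈ 𝒜 1)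
  {M : Type u} [AddCommGroup M] [Module (HomogeneousLocalization.Away 𝒜 f) M] (G : Set M)

/-- The `S`-submodule of `M[X]` generated by the constants in `G`. -/
def Nsub : Submodule S (W 𝒜 hf M) := Submodule.span S ((fun m => sg 𝒜 hf 0 m) '' G)

lemma sg_mem_Nsub {m : M} (hm : m ∈ G) : sg 𝒜 hf 0 m ∈ Nsub 𝒜 hf G :=
  Submodule.subset_span ⟨m, hm, rfl⟩

/-- All homogeneous components lie in `Nsub`. -/
def Hmg (w : W 𝒜 hf M) : Prop := ∀ k, sg 𝒜 hf k (cf 𝒜 hf w k) ∈ Nsub 𝒜 hf G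

lemma hmg_smul (s : S) : ∀ w : W 𝒜 hf M, Hmg 𝒜 hf G w → Hmg 𝒜 hf G (s • w) := by
  refine DirectSum.Decomposition.inductionOn 𝒜
    (motive := fun s => ∀ w : W 𝒜 hf M, Hmg 𝒜 hf G w → Hmg 𝒜 hf G (s • w)) ?_ ?_ ?_ s
  · intro w hw k
    rw [zero_smul, cf_zero, sg_zero]
    exact zero_mem _
  · intro d m w hw k
    rw [cf_smul 𝒜 hf d m.1 m.2]
    split_ifs with h
    · have h1 : sg 𝒜 hf k (frac 𝒜 hf d m.1 m.2 • cf 𝒜 hf w (k - d))
          = (m.1 : S) • sg 𝒜 hf (k - d) (cf 𝒜 hf w (k - d)) := by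
        rw [smul_sg 𝒜 hf d m.1 m.2, Nat.add_sub_cancel' h]
      rw [h1]
      exact Submodule.smul_mem _ _ (hw (k - d))
    · rw [sg_zero]
      exact zero_mem _
  · intro s s' hs hs' w hw k
    rw [add_smul, cf_add, sg_add]
    exact add_mem (hs w hw k) (hs' w hw k)

lemma hmg_of_mem {w : W 𝒜 hf M} (hw : w ∈ Nsub 𝒜 hf G) : Hmg 𝒜 hf G w := by
  induction hw using Submodule.span_induction with
  | mem x hx =>
    obtain ⟨m, hm, rfl⟩ := hx
    intro k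
    show sg 𝒜 hf k (cf 𝒜 hf (sg 𝒜 hf 0 m) k) ∈ Nsub 𝒜 hf G
    rw [cf_sg]
    split_ifs with h
    · subst h
      exact sg_mem_Nsub 𝒜 hf G hm
    · rw [sg_zero]
      exact zero_mem _
  | zero =>
    intro k
    rw [cf_zero, sg_zero]
    exact zero_mem _
  | add x y _ _ hx hy =>
    intro k
    rw [cf_add, sg_add]
    exact add_mem (hx k) (hy k)
  | smul s x _ hx => exact hmg_smul 𝒜 hf G s x hx

/-- The module `N`. -/
abbrev NN : Type u := ↥(Nsub 𝒜 hf G)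

lemma coe_smulR (r : R) (n : NN 𝒜 hf G) :
    ((r • n : NN 𝒜 hf G) : W 𝒜 hf M) = (algebraMap R S r) • (n : W 𝒜 hf M) := rfl

/-- The degree `k` part of `N`. -/
def grade (k : ℕ) : Submodule R (NN 𝒜 hf G) where
  carrier := {n | ∃ m : M, (n : W 𝒜 hf M) = sg 𝒜 hf k m}
  add_mem' := by
    rintro a b ⟨m, hm⟩ ⟨m', hm'⟩
    exact ⟨m + m', by rw [Submodule.coe_add, hm, hm', sg_add]⟩
  zero_mem' := ⟨0, by rw [Submodule.coe_zero, sg_zero]⟩
  smul_mem' := by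
    rintro r a ⟨m, hm⟩
    refine ⟨frac 𝒜 hf 0 (algebraMap R S r) (SetLike.algebraMap_mem_graded 𝒜 r) • m, ?_⟩
    rw [coe_smulR, hm, smul_sg 𝒜 hf 0 _ (SetLike.algebraMap_mem_graded 𝒜 r), zero_add]

lemma mem_grade {k : ℕ} {n : NN 𝒜 hf G} :
    n ∈ grade 𝒜 hf G k ↔ ∃ m : M, (n : W 𝒜 hf M) = sg 𝒜 hf k m := Iff.rfl

instance instGradedSMul : SetLike.GradedSMul 𝒜 (grade 𝒜 hf G) where
  smul_mem := by
    intro i j s n hs hn
    obtain ⟨m, hm⟩ := hn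
    refine ⟨frac 𝒜 hf i s hs • m, ?_⟩
    show ((s • n : NN 𝒜 hf G) : W 𝒜 hf M) = sg 𝒜 hf (i + j) _
    rw [Submodule.coe_smul, hm, smul_sg 𝒜 hf i s hs]

lemma iSup_grade : ⨆ k, grade 𝒜 hf G k = ⊤ := by
  rw [eq_top_iff]
  rintro n -
  have hH := hmg_of_mem 𝒜 hf G n.2
  have hsum : n = ∑ k ∈ spt 𝒜 hf n.1,
      (⟨sg 𝒜 hf k (cf 𝒜 hf n.1 k), hH k⟩ : NN 𝒜 hf G) := by
    apply Subtype.ext
    rw [Submodule.coe_sum]
    exact eq_sum_sg 𝒜 hf n.1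
  rw [hsum]
  exact Submodule.sum_mem _ (fun k _ => Submodule.mem_iSup_of_mem k ⟨_, rfl⟩)

/-- The coefficient map on `N`. -/
def cfN (i : ℕ) : NN 𝒜 hf G →+ M where
  toFun n := cf 𝒜 hf n.1 i
  map_zero' := rfl
  map_add' _ _ := rfl

lemma cfN_of_mem_ne {i j : ℕ} (hij : j ≠ i) {n : NN 𝒜 hf G} (hn : n ∈ grade 𝒜 hf G j) :
    cfN 𝒜 hf G i n = 0 := by
  obtain ⟨m, hm⟩ := hn
  show cf 𝒜 hf n.1 i = 0
  rw [hm, cf_sg, if_neg hij]

lemma indep_grade : iSupIndep (grade 𝒜 hf G) := by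
  classical
  rw [iSupIndep_iff_forall_dfinsupp]
  intro i x v hv
  obtain ⟨m, hm⟩ := x.2
  have hsum : (DFinsupp.lsum ℕ (fun j => (grade 𝒜 hf G j).subtype)) (DFinsupp.erase i v)
      = ∑ j ∈ (DFinsupp.erase i v).support,
        (((DFinsupp.erase i v) j : grade 𝒜 hf G j) : NN 𝒜 hf G) := by
    rw [DFinsupp.lsum_apply_apply, DFinsupp.sumAddHom_apply]
    rfl
  have h0 : cfN 𝒜 hf G i ((DFinsupp.lsum ℕ (fun j => (grade 𝒜 hf G j).subtype))
      (DFinsupp.erase i v)) = 0 := by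
    rw [hsum, map_sum]
    apply Finset.sum_eq_zero
    intro j hj
    have hji : j ≠ i := by
      intro h
      subst h
      rw [DFinsupp.mem_support_toFun, DFinsupp.erase_same] at hj
      exact hj rfl
    exact cfN_of_mem_ne 𝒜 hf G hji (Subtype.mem _)
  rw [hv] at h0
  have h1 : cf 𝒜 hf (x : NN 𝒜 hf G).1 i = 0 := h0
  rw [hm, cf_sg, if_pos rfl] at h1
  apply Subtype.ext
  apply Subtype.ext
  show ((x : NN 𝒜 hf G) : W 𝒜 hf M) = 0
  rw [hm, h1, sg_zero]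

lemma isInternal_grade : DirectSum.IsInternal (grade 𝒜 hf G) :=
  DirectSum.isInternal_submodule_of_iSupIndep_of_iSup_eq_top (indep_grade 𝒜 hf G)
    (iSup_grade 𝒜 hf G)

/-- The decomposition of `N` into its graded pieces. -/
def decomp : DirectSum.Decomposition (grade 𝒜 hf G) :=
  (isInternal_grade 𝒜 hf G).chooseDecomposition

lemma finite_NN (hG : G.Finite) : Module.Finite S (NN 𝒜 hf G) :=
  Module.Finite.iff_fg.2 (Submodule.fg_span (hG.image _))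

/-- The generator `m X^0` of `N`. -/
def gen {m : M} (hm : m ∈ G) : NN 𝒜 hf G := ⟨sg 𝒜 hf 0 m, sg_mem_Nsub 𝒜 hf G hm⟩

lemma gen_mem_grade {m : M} (hm : m ∈ G) : gen 𝒜 hf G hm ∈ grade 𝒜 hf G 0 := ⟨m, rfl⟩

/-- The sum of the coefficients. -/
def Phi : NN 𝒜 hf G →+ M where
  toFun n := ∑ k ∈ spt 𝒜 hf n.1, cf 𝒜 hf n.1 k
  map_zero' := by
    apply Finset.sum_eq_zero
    intro k _
    rfl
  map_add' a b := by
    classical
    have key : ∀ (w : W 𝒜 hf M) (s : Finset ℕ), spt 𝒜 hf w ⊆ s →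
        ∑ k ∈ spt 𝒜 hf w, cf 𝒜 hf w k = ∑ k ∈ s, cf 𝒜 hf w k := by
      intro w s hs
      apply Finset.sum_subset hs
      intro k _ hk
      by_contra hne
      exact hk ((mem_spt 𝒜 hf w k).2 hne)
    show ∑ k ∈ spt 𝒜 hf (a + b).1, cf 𝒜 hf (a + b).1 k
      = ∑ k ∈ spt 𝒜 hf a.1, cf 𝒜 hf a.1 k + ∑ k ∈ spt 𝒜 hf b.1, cf 𝒜 hf b.1 k
    rw [key (a + b).1 (spt 𝒜 hf (a + b).1 ∪ spt 𝒜 hf a.1 ∪ spt 𝒜 hf b.1)
        (fun k hk => Finset.mem_union_left _ (Finset.mem_union_left _ hk)),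
      key a.1 (spt 𝒜 hf (a + b).1 ∪ spt 𝒜 hf a.1 ∪ spt 𝒜 hf b.1)
        (fun k hk => Finset.mem_union_left _ (Finset.mem_union_right _ hk)),
      key b.1 (spt 𝒜 hf (a + b).1 ∪ spt 𝒜 hf a.1 ∪ spt 𝒜 hf b.1)
        (fun k hk => Finset.mem_union_right _ hk),
      ← Finset.sum_add_distrib]
    rfl

lemma Phi_of_mem_grade {k : ℕ} {n : NN 𝒜 hf G} {m : M} (hm : (n : W 𝒜 hf M) = sg 𝒜 hf k m) :
    Phi 𝒜 hf G n = m := by
  classical
  show ∑ j ∈ spt 𝒜 hf n.1, cf 𝒜 hf n.1 j = m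
  have h1 : ∀ j, cf 𝒜 hf n.1 j = if k = j then m else 0 := by
    intro j
    rw [hm, cf_sg]
  simp only [h1]
  rw [Finset.sum_ite_eq]
  split_ifs with h
  · rfl
  · by_contra hne
    apply h
    rw [mem_spt, h1, if_pos rfl]
    exact fun h0 => hne h0.symm

end

end Groth.Agent.Lib.GrModL
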