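import Mathlib
import Groth.Agent.Lib.GrMod2_lead

/-!
# Part 3: the degree zero localization of `N` is `M` (lead, for S12095)
-/

set_option autoImplicit false
set_option linter.all false
set_option maxHeartbeats 1600000

universe u

open Polynomial DirectSum

namespace Groth.Agent.Lib.GrModL

noncomputable section

variable {R : Type u} [CommRing R] {S : Type u} [CommRing S] [Algebra R S]
  (𝒜 : ℕ → Submodule R S) [GradedAlgebra 𝒜] {f : S}

/-- `M` with the `S`-module structure through `eps`. -/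
def Me (hf : f ∈ 𝒜 1) (M : Type u) [AddCommGroup M]
    [Module (HomogeneousLocalization.Away 𝒜 f) M] : Type u := M

variable (hf : f ∈ 𝒜 1)
  {M : Type u} [AddCommGroup M] [Module (HomogeneousLocalization.Away 𝒜 f) M] (G : Set M)

instance : AddCommGroup (Me 𝒜 hf M) := inferInstanceAs (AddCommGroup M)

instance instModuleSMe : Module S (Me 𝒜 hf M) := Module.compHom M (eps 𝒜 hf)

/-- The identity `Me → M`. -/
def ofMe (x : Me 𝒜 hf M) : M := x

/-- The identity `M → Me`. -/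
def toMe (m : M) : Me 𝒜 hf M := m

lemma ofMe_toMe (m : M) : ofMe 𝒜 hf (toMe 𝒜 hf m) = m := rfl

lemma ofMe_add (x y : Me 𝒜 hf M) : ofMe 𝒜 hf (x + y) = ofMe 𝒜 hf x + ofMe 𝒜 hf y := rfl

lemma ofMe_zero : ofMe 𝒜 hf (0 : Me 𝒜 hf M) = 0 := rfl

lemma smul_Me (s : S) (x : Me 𝒜 hf M) :
    ofMe 𝒜 hf (s • x) = (eps 𝒜 hf s) • ofMe 𝒜 hf x := rfl

/-- Evaluation at `X = 1` on `M[X]`. -/
def evW (w : W 𝒜 hf M) : M :=
  PolynomialModule.eval (1 : HomogeneousLocalization.Away 𝒜 f)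
    (show PolynomialModule (HomogeneousLocalization.Away 𝒜 f) M from w)

lemma evW_add (w w' : W 𝒜 hf M) : evW 𝒜 hf (w + w') = evW 𝒜 hf w + evW 𝒜 hf w' :=
  map_add (PolynomialModule.eval (1 : HomogeneousLocalization.Away 𝒜 f)) _ _

lemma evW_sg (k : ℕ) (m : M) : evW 𝒜 hf (sg 𝒜 hf k m) = m := by
  show PolynomialModule.eval (1 : HomogeneousLocalization.Away 𝒜 f)
    (PolynomialModule.single (HomogeneousLocalization.Away 𝒜 f) k m) = m
  rw [PolynomialModule.eval_single, one_pow, one_smul]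

lemma evW_smul (s : S) (w : W 𝒜 hf M) : evW 𝒜 hf (s • w) = eps 𝒜 hf s • evW 𝒜 hf w := by
  show PolynomialModule.eval (1 : HomogeneousLocalization.Away 𝒜 f)
    ((phi 𝒜 hf s) • (show PolynomialModule (HomogeneousLocalization.Away 𝒜 f) M from w)) = _
  rw [PolynomialModule.eval_smul]
  rfl

/-- Evaluation at `X = 1` as an `S`-linear map `N → M`. -/
def PhiS : NN 𝒜 hf G →ₗ[S] Me 𝒜 hf M where
  toFun n := toMe 𝒜 hf (evW 𝒜 hf n.1)
  map_add' a b := by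
    show toMe 𝒜 hf (evW 𝒜 hf (a.1 + b.1)) = _
    rw [evW_add]
    rfl
  map_smul' s n := by
    show toMe 𝒜 hf (evW 𝒜 hf (s • n.1)) = s • toMe 𝒜 hf (evW 𝒜 hf n.1)
    rw [evW_smul]
    rfl

lemma PhiS_apply (n : NN 𝒜 hf G) : ofMe 𝒜 hf (PhiS 𝒜 hf G n) = evW 𝒜 hf n.1 := rfl

lemma eps_pow (k : ℕ) : eps 𝒜 hf (f ^ k) = 1 := by
  rw [eps_of_mem 𝒜 hf k (f ^ k) (hfpow 𝒜 hf k), frac_pow_self]

lemma eps_powers (t : Submonoid.powers f) : eps 𝒜 hf (t : S) = 1 := by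
  obtain ⟨k, hk⟩ := t.2
  rw [← hk]
  exact eps_pow 𝒜 hf k

lemma smul_powers_Me (t : Submonoid.powers f) (x : Me 𝒜 hf M) : (t : S) • x = x := by
  have h : ofMe 𝒜 hf ((t : S) • x) = ofMe 𝒜 hf x := by
    rw [smul_Me, eps_powers, one_smul]
  exact h

lemma hunit (t : Submonoid.powers f) :
    IsUnit ((algebraMap S (Module.End S (Me 𝒜 hf M))) t) := by
  have h1 : (algebraMap S (Module.End S (Me 𝒜 hf M))) t = 1 := by
    apply LinearMap.ext
    intro x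
    show (t : S) • x = x
    exact smul_powers_Me 𝒜 hf t x
  rw [h1]
  exact isUnit_one

/-- The induced map on the localization. -/
def Psi : LocalizedModule (Submonoid.powers f) (NN 𝒜 hf G) →ₗ[S] Me 𝒜 hf M :=
  LocalizedModule.lift (Submonoid.powers f) (PhiS 𝒜 hf G) (hunit 𝒜 hf)

lemma Psi_mk_one (n : NN 𝒜 hf G) :
    Psi 𝒜 hf G (LocalizedModule.mk n 1) = PhiS 𝒜 hf G n :=
  LocalizedModule.lift_mk_one (Submonoid.powers f) (PhiS 𝒜 hf G) (hunit 𝒜 hf) n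

lemma smulS_mk (s : S) (n : NN 𝒜 hf G) (t : Submonoid.powers f) :
    s • LocalizedModule.mk n t = LocalizedModule.mk (s • n) t :=
  LocalizedModule.smul'_mk s n t

lemma Psi_mk (n : NN 𝒜 hf G) (t : Submonoid.powers f) :
    Psi 𝒜 hf G (LocalizedModule.mk n t) = PhiS 𝒜 hf G n := by
  have h1 : (t : S) • LocalizedModule.mk n t
      = (LocalizedModule.mk n 1 : LocalizedModule (Submonoid.powers f) (NN 𝒜 hf G)) := by
    rw [smulS_mk]
    exact LocalizedModule.mk_cancel t n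
  have h2 : Psi 𝒜 hf G ((t : S) • LocalizedModule.mk n t)
      = Psi 𝒜 hf G (LocalizedModule.mk n t) := by
    rw [map_smul]
    exact smul_powers_Me 𝒜 hf t _
  rw [← h2, h1, Psi_mk_one]

lemma smul_pow_injective (k : ℕ) (x y : LocalizedModule (Submonoid.powers f) (NN 𝒜 hf G))
    (h : f ^ k • x = f ^ k • y) : x = y := by
  have hinj := IsLocalizedModule.smul_injective
    (LocalizedModule.mkLinearMap (Submonoid.powers f) (NN 𝒜 hf G))
    (⟨f ^ k, ⟨k, rfl⟩⟩ : Submonoid.powers f)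
  exact hinj h

lemma pow_smul_mk (k : ℕ) (n : NN 𝒜 hf G) :
    f ^ k • LocalizedModule.mk n (⟨f ^ k, ⟨k, rfl⟩⟩ : Submonoid.powers f)
      = (LocalizedModule.mk n 1 : LocalizedModule (Submonoid.powers f) (NN 𝒜 hf G)) := by
  rw [smulS_mk]
  exact LocalizedModule.mk_cancel (⟨f ^ k, ⟨k, rfl⟩⟩ : Submonoid.powers f) n

lemma eq_mk_of_smul_eq (k : ℕ) (n : NN 𝒜 hf G)
    (x : LocalizedModule (Submonoid.powers f) (NN 𝒜 hf G))
    (h : f ^ k • x = LocalizedModule.mk n 1) :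
    x = LocalizedModule.mk n (⟨f ^ k, ⟨k, rfl⟩⟩ : Submonoid.powers f) := by
  apply smul_pow_injective 𝒜 hf G k
  rw [h, pow_smul_mk]

lemma smul_mem_grade {d : ℕ} {s : S} (hs : s ∈ 𝒜 d) {k : ℕ} {n : NN 𝒜 hf G}
    (hn : n ∈ grade 𝒜 hf G k) {j : ℕ} (hj : d + k = j) : s • n ∈ grade 𝒜 hf G j := by
  subst hj
  obtain ⟨m, hm⟩ := hn
  refine ⟨frac 𝒜 hf d s hs • m, ?_⟩
  show ((s • n : NN 𝒜 hf G) : W 𝒜 hf M) = sg 𝒜 hf (d + k) _
  rw [Submodule.coe_smul, hm, smul_sg 𝒜 hf d s hs]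

lemma smulR_eq (r : R) (x : LocalizedModule (Submonoid.powers f) (NN 𝒜 hf G)) :
    r • x = (algebraMap R S r) • x := by
  induction x using LocalizedModule.induction_on with
  | h n t =>
    rw [LocalizedModule.smul'_mk, LocalizedModule.smul'_mk]
    congr 1

lemma mk_add_one (a b : NN 𝒜 hf G) :
    (LocalizedModule.mk (a + b) 1 : LocalizedModule (Submonoid.powers f) (NN 𝒜 hf G))
      = LocalizedModule.mk a 1 + LocalizedModule.mk b 1 :=
  map_add (LocalizedModule.mkLinearMap (Submonoid.powers f) (NN 𝒜 hf G)) a b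

/-- The degree zero part of the localization. -/
def Nf : Submodule R (LocalizedModule (Submonoid.powers f) (NN 𝒜 hf G)) where
  carrier := {x | ∃ k : ℕ, ∃ n ∈ grade 𝒜 hf G k, f ^ k • x = LocalizedModule.mk n 1}
  add_mem' := by
    rintro x y ⟨k, n, hn, hx⟩ ⟨k', n', hn', hy⟩
    refine ⟨k + k', f ^ k' • n + f ^ k • n', ?_, ?_⟩
    · exact add_mem (smul_mem_grade 𝒜 hf G (hfpow 𝒜 hf k') hn (add_comm k' k))
        (smul_mem_grade 𝒜 hf G (hfpow 𝒜 hf k) hn' rfl)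
    · have e1 : f ^ (k + k') • x = f ^ k' • (f ^ k • x) := by
        rw [smul_smul, ← pow_add, add_comm]
      have e2 : f ^ (k + k') • y = f ^ k • (f ^ k' • y) := by
        rw [smul_smul, ← pow_add]
      rw [smul_add, e1, e2, hx, hy, smulS_mk, smulS_mk, mk_add_one]
  zero_mem' := ⟨0, 0, zero_mem _, by rw [smul_zero, LocalizedModule.zero_mk]⟩
  smul_mem' := by
    rintro r x ⟨k, n, hn, hx⟩
    refine ⟨k, r • n, Submodule.smul_mem _ r hn, ?_⟩
    rw [smulR_eq, smul_comm, hx, smulS_mk]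
    congr 1

lemma mem_Nf {x : LocalizedModule (Submonoid.powers f) (NN 𝒜 hf G)} :
    x ∈ Nf 𝒜 hf G ↔ ∃ k : ℕ, ∃ n ∈ grade 𝒜 hf G k, f ^ k • x = LocalizedModule.mk n 1 :=
  Iff.rfl

variable [Module R M]
  (hcompat : ∀ (r : R) (m : M),
    frac 𝒜 hf 0 (algebraMap R S r) (SetLike.algebraMap_mem_graded 𝒜 r) • m = r • m)

include hcompat in
/-- `Psi` restricted to `Nf`, as an `R`-linear map to `M`. -/
def psiR : Nf 𝒜 hf G →ₗ[R] M where
  toFun x := ofMe 𝒜 hf (Psi 𝒜 hf G x.1)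
  map_add' a b := by
    show ofMe 𝒜 hf (Psi 𝒜 hf G (a.1 + b.1)) = _
    rw [map_add]
    rfl
  map_smul' r x := by
    show ofMe 𝒜 hf (Psi 𝒜 hf G (r • x.1)) = r • ofMe 𝒜 hf (Psi 𝒜 hf G x.1)
    rw [smulR_eq, map_smul, smul_Me,
      eps_of_mem 𝒜 hf 0 _ (SetLike.algebraMap_mem_graded 𝒜 r), hcompat]

lemma psiR_apply (x : Nf 𝒜 hf G) :
    psiR 𝒜 hf G hcompat x = ofMe 𝒜 hf (Psi 𝒜 hf G x.1) := rfl

/-- Values of `Psi` on `Nf` in terms of a representative. -/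
lemma Psi_of_rep {x : LocalizedModule (Submonoid.powers f) (NN 𝒜 hf G)} {k : ℕ}
    {n : NN 𝒜 hf G} {m : M} (hm : (n : W 𝒜 hf M) = sg 𝒜 hf k m)
    (hx : f ^ k • x = LocalizedModule.mk n 1) : ofMe 𝒜 hf (Psi 𝒜 hf G x) = m := by
  rw [eq_mk_of_smul_eq 𝒜 hf G k n x hx, Psi_mk, PhiS_apply, hm, evW_sg]

lemma psiR_injective : Function.Injective (psiR 𝒜 hf G hcompat) := by
  rw [injective_iff_map_eq_zero]
  intro x hx
  obtain ⟨k, n, ⟨m, hm⟩, hxk⟩ := x.2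
  have h1 : ofMe 𝒜 hf (Psi 𝒜 hf G x.1) = m := Psi_of_rep 𝒜 hf G hm hxk
  have h2 : m = 0 := by
    rw [← h1]
    exact hx
  have hn : n = 0 := by
    apply Subtype.ext
    rw [hm, h2, sg_zero]
    rfl
  apply Subtype.ext
  apply smul_pow_injective 𝒜 hf G k
  rw [hxk, hn, LocalizedModule.zero_mk]
  show _ = f ^ k • (0 : LocalizedModule (Submonoid.powers f) (NN 𝒜 hf G))
  rw [smul_zero]

/-- Closure of `Nf` under `S_(f)` and semilinearity of `Psi`. -/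
lemma val_smul_mem (a : HomogeneousLocalization.Away 𝒜 f)
    {x : LocalizedModule (Submonoid.powers f) (NN 𝒜 hf G)} (hx : x ∈ Nf 𝒜 hf G) :
    a.val • x ∈ Nf 𝒜 hf G ∧
      ofMe 𝒜 hf (Psi 𝒜 hf G (a.val • x)) = a • ofMe 𝒜 hf (Psi 𝒜 hf G x) := by
  obtain ⟨d, s, hs, rfl⟩ := exists_frac 𝒜 hf a
  obtain ⟨k, n, hn, hxk⟩ := hx
  obtain ⟨m, hm⟩ := hn
  have hxrep := eq_mk_of_smul_eq 𝒜 hf G k n x hxk
  have hval : (frac 𝒜 hf d s hs).val • x
      = LocalizedModule.mk (s • n) ((⟨f ^ d, ⟨d, rfl⟩⟩ : Submonoid.powers f)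
        * (⟨f ^ k, ⟨k, rfl⟩⟩ : Submonoid.powers f)) := by
    rw [val_frac, hxrep, LocalizedModule.mk_smul_mk]
  have hsn : ((s • n : NN 𝒜 hf G) : W 𝒜 hf M) = sg 𝒜 hf (d + k) (frac 𝒜 hf d s hs • m) := by
    rw [Submodule.coe_smul, hm, smul_sg 𝒜 hf d s hs]
  have hpow : f ^ (d + k) • ((frac 𝒜 hf d s hs).val • x)
      = LocalizedModule.mk (s • n) 1 := by
    rw [hval, smulS_mk]
    have h3 : f ^ (d + k) • (s • n)
        = ((⟨f ^ d, ⟨d, rfl⟩⟩ : Submonoid.powers f) * (⟨f ^ k, ⟨k, rfl⟩⟩ : Submonoid.powers f))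
          • (s • n) := by
      rw [Submonoid.smul_def, Submonoid.coe_mul, pow_add]
    rw [h3]
    exact LocalizedModule.mk_cancel _ _
  refine ⟨⟨d + k, s • n, ⟨_, hsn⟩, hpow⟩, ?_⟩
  rw [Psi_of_rep 𝒜 hf G hsn hpow, Psi_of_rep 𝒜 hf G hm hxk]

include hcompat in
lemma psiR_surjective (hspan : Submodule.span (HomogeneousLocalization.Away 𝒜 f) G = ⊤) :
    Function.Surjective (psiR 𝒜 hf G hcompat) := by
  intro m
  have hm : m ∈ Submodule.span (HomogeneousLocalization.Away 𝒜 f) G := by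
    rw [hspan]
    exact Submodule.mem_top
  induction hm using Submodule.span_induction with
  | mem m hm =>
    have hmem : (LocalizedModule.mk (gen 𝒜 hf G hm) 1 :
        LocalizedModule (Submonoid.powers f) (NN 𝒜 hf G)) ∈ Nf 𝒜 hf G :=
      ⟨0, gen 𝒜 hf G hm, gen_mem_grade 𝒜 hf G hm, by rw [pow_zero, one_smul]⟩
    refine ⟨⟨_, hmem⟩, ?_⟩
    rw [psiR_apply]
    show ofMe 𝒜 hf (Psi 𝒜 hf G (LocalizedModule.mk (gen 𝒜 hf G hm) 1)) = m
    rw [Psi_mk_one, PhiS_apply]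
    exact evW_sg 𝒜 hf 0 m
  | zero => exact ⟨0, map_zero _⟩
  | add a b _ _ ha hb =>
    obtain ⟨x, rfl⟩ := ha
    obtain ⟨y, rfl⟩ := hb
    exact ⟨x + y, map_add _ _ _⟩
  | smul t a _ ha =>
    obtain ⟨x, rfl⟩ := ha
    obtain ⟨h1, h2⟩ := val_smul_mem 𝒜 hf G t x.2
    exact ⟨⟨_, h1⟩, h2⟩

/-- The identification of the degree zero localization with `M`. -/
def ePrime (hspan : Submodule.span (HomogeneousLocalization.Away 𝒜 f) G = ⊤) :
    Nf 𝒜 hf G ≃ₗ[R] M :=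
  LinearEquiv.ofBijective (psiR 𝒜 hf G hcompat)
    ⟨psiR_injective 𝒜 hf G hcompat, psiR_surjective 𝒜 hf G hcompat hspan⟩

lemma ePrime_apply (hspan : Submodule.span (HomogeneousLocalization.Away 𝒜 f) G = ⊤)
    (x : Nf 𝒜 hf G) : ePrime 𝒜 hf G hcompat hspan x = ofMe 𝒜 hf (Psi 𝒜 hf G x.1) := rfl

lemma ePrime_semilinear (hspan : Submodule.span (HomogeneousLocalization.Away 𝒜 f) G = ⊤)
    (a : HomogeneousLocalization.Away 𝒜 f) (x y : Nf 𝒜 hf G)
    (h : a.val • (x : LocalizedModule (Submonoid.powers f) (NN 𝒜 hf G)) = y) :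
    ePrime 𝒜 hf G hcompat hspan y = a • ePrime 𝒜 hf G hcompat hspan x := by
  rw [ePrime_apply, ePrime_apply, ← h]
  exact (val_smul_mem 𝒜 hf G a x.2).2

end

end Groth.Agent.Lib.GrModL
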