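import Mathlib
import Groth.Prelude.Def_AssocGrMod

/-! Generation of a filtered module over a complete ring from generation of its associated graded
module (Bourbaki AC III §2 no. 9). -/

universe u

open Polynomial

namespace Groth.Agent.Lib.GrModGen

variable {A : Type u} [CommRing A] {I : Ideal A} {M : Type u} [AddCommGroup M] [Module A M]
  (F : I.Filtration M)

theorem coeff_sub (y y' : AssocGr.ReesM F) (n : ℕ) :
    AssocGr.ReesM.coeff F (y - y') n = AssocGr.ReesM.coeff F y n - AssocGr.ReesM.coeff F y' n := by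
  rw [← AssocGr.ReesM.coeffHom_apply, map_sub]; rfl

theorem coeff_sum {ι : Type*} (s : Finset ι) (y : ι → AssocGr.ReesM F) (n : ℕ) :
    AssocGr.ReesM.coeff F (∑ i ∈ s, y i) n = ∑ i ∈ s, AssocGr.ReesM.coeff F (y i) n := by
  rw [← AssocGr.ReesM.coeffHom_apply, map_sum]; rfl

theorem coeff_smul_monomM (f : ↥(FiltBl.IdealFiltration.adic I).rees) (d : ℕ) (x : F.N d) (n : ℕ) :
    AssocGr.ReesM.coeff F (f • AssocGr.monomM F d x) n =
      if d ≤ n then (f : A[X]).coeff (n - d) • (x : M) else 0 := by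
  rw [AssocGr.ReesM.coeff_smul]
  simp only [AssocGr.ReesM.coeff_monomM, smul_ite, smul_zero]
  split_ifs with hdn
  · rw [Finset.sum_eq_single (n - d, d)]
    · rw [if_pos rfl]
    · rintro ⟨p, q⟩ hpq hne
      rw [Finset.HasAntidiagonal.mem_antidiagonal] at hpq
      simp only at hpq
      rw [if_neg]
      intro hq
      apply hne
      simp only [Prod.mk.injEq]
      omega
    · intro hh
      exfalso; apply hh
      rw [Finset.HasAntidiagonal.mem_antidiagonal]
      simp only
      omega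
  · refine Finset.sum_eq_zero fun p hp => ?_
    rw [Finset.HasAntidiagonal.mem_antidiagonal] at hp
    rw [if_neg]
    omega

theorem exists_approx {ι : Type*} [Fintype ι] (d : ι → ℕ) (x : (i : ι) → F.N (d i)) (n : ℕ)
    (y : F.N n)
    (hy : (AssocGr.inDegM F n y : AssocGr.GrMod F) ∈
      Submodule.span (AssocGr.GrRing (FiltBl.IdealFiltration.adic I))
        (Set.range fun i => (AssocGr.inDegM F (d i) (x i) : AssocGr.GrMod F))) :
    ∃ a : ι → A, (∀ i, a i ∈ I ^ (n - d i)) ∧
      (y : M) - ∑ i, a i • (x i : M) ∈ F.N (n + 1) := by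
  rw [Submodule.mem_span_range_iff_exists_fun] at hy
  obtain ⟨c, hc⟩ := hy
  have hf : ∀ i, ∃ f : ↥(FiltBl.IdealFiltration.adic I).rees,
      AssocGr.mkG (FiltBl.IdealFiltration.adic I) f = c i :=
    fun i => AssocGr.mkG_surjective _ (c i)
  choose f hf using hf
  have hc2 : AssocGr.mkGM F (AssocGr.monomM F n y -
      ∑ i, f i • AssocGr.monomM F (d i) (x i)) = 0 := by
    rw [map_sub, map_sum, sub_eq_zero, ← AssocGr.coe_inDegM, ← hc]
    refine Finset.sum_congr rfl fun i _ => ?_
    rw [← hf i, AssocGr.coe_inDegM, AssocGr.mkG_smul_mkGM]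
  rw [AssocGr.mkGM_eq_zero_iff] at hc2
  have h1 := hc2 n
  rw [coeff_sub, coeff_sum, AssocGr.ReesM.coeff_monomM, if_pos rfl] at h1
  refine ⟨fun i => if d i ≤ n then (f i : A[X]).coeff (n - d i) else 0, fun i => ?_, ?_⟩
  · dsimp only
    split_ifs
    · exact (f i).2 (n - d i)
    · exact Ideal.zero_mem _
  · convert h1 using 2
    refine Finset.sum_congr rfl fun i _ => ?_
    rw [coeff_smul_monomM]
    dsimp only
    split_ifs
    · rfl
    · rw [zero_smul]

section Complete

variable [IsPrecomplete I A]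

/-- Shifted partial sums of a sequence whose `k`-th term lies in `I ^ (k - D)` converge. -/
theorem exists_limit (D : ℕ) (a : ℕ → A) (ha : ∀ k, a k ∈ I ^ (k - D)) :
    ∃ L : A, ∀ k, (∑ j ∈ Finset.range (k + D), a j) - L ∈ I ^ k := by
  have hcauchy : AdicCompletion.IsAdicCauchy I A (fun k => ∑ j ∈ Finset.range (k + D), a j) := by
    rw [AdicCompletion.isAdicCauchy_iff]
    intro k
    rw [SModEq.sub_mem, smul_eq_mul, Ideal.mul_top]
    have : (∑ j ∈ Finset.range (k + D), a j) - ∑ j ∈ Finset.range (k + 1 + D), a j =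
        - a (k + D) := by
      rw [show k + 1 + D = (k + D) + 1 by ring, Finset.sum_range_succ]; ring
    rw [this]
    have := ha (k + D)
    rw [Nat.add_sub_cancel] at this
    exact (Ideal.neg_mem_iff _).2 this
  obtain ⟨L, hL⟩ := IsPrecomplete.prec ‹IsPrecomplete I A› hcauchy
  refine ⟨L, fun k => ?_⟩
  have := hL k
  rw [SModEq.sub_mem, smul_eq_mul, Ideal.mul_top] at this
  exact this

theorem smul_mem_of_pow {k e : ℕ} {c : A} {x : M} (hc : c ∈ I ^ k) (hx : x ∈ F.N e) :
    c • x ∈ F.N k :=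
  F.antitone (Nat.le_add_right k e) (F.pow_smul_le k e (Submodule.smul_mem_smul hc hx))

theorem strict_gen (hsep : ⨅ n, F.N n = ⊥) (P : Submodule A M) {ι : Type*} [Fintype ι]
    (d : ι → ℕ) (x : ι → M) (hxP : ∀ i, x i ∈ P) (hxN : ∀ i, x i ∈ F.N (d i))
    (H : ∀ n, ∀ y ∈ P, y ∈ F.N n → ∃ a : ι → A, (∀ i, a i ∈ I ^ (n - d i)) ∧
      y - ∑ i, a i • x i ∈ F.N (n + 1)) :
    ∀ n, ∀ y ∈ P, y ∈ F.N n → ∃ c : ι → A, (∀ i, c i ∈ I ^ (n - d i)) ∧ y = ∑ i, c i • x i := by
  intro n y hyP hyN
  have hex : ∀ (m : ℕ) (z : M), ∃ a : ι → A, z ∈ P → z ∈ F.N m →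
      (∀ i, a i ∈ I ^ (m - d i)) ∧ z - ∑ i, a i • x i ∈ F.N (m + 1) := by
    intro m z
    by_cases hz : z ∈ P ∧ z ∈ F.N m
    · obtain ⟨a, ha1, ha2⟩ := H m z hz.1 hz.2
      exact ⟨a, fun _ _ => ⟨ha1, ha2⟩⟩
    · exact ⟨0, fun h1 h2 => absurd ⟨h1, h2⟩ hz⟩
  choose g hg using hex
  let ys : ℕ → M := fun k => Nat.rec y (fun k yk => yk - ∑ i, g (n + k) yk i • x i) k
  have ysS : ∀ k, ys (k + 1) = ys k - ∑ i, g (n + k) (ys k) i • x i := fun k => rfl
  have hys : ∀ k, ys k ∈ P ∧ ys k ∈ F.N (n + k) := by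
    intro k
    induction k with
    | zero => exact ⟨hyP, hyN⟩
    | succ k ih =>
      refine ⟨?_, ?_⟩
      · rw [ysS]
        exact P.sub_mem ih.1 (P.sum_mem fun i _ => P.smul_mem _ (hxP i))
      · rw [ysS]; exact (hg (n + k) (ys k) ih.1 ih.2).2
  let as : ℕ → ι → A := fun k i => g (n + k) (ys k) i
  have has : ∀ k i, as k i ∈ I ^ (n + k - d i) := fun k i =>
    (hg (n + k) (ys k) (hys k).1 (hys k).2).1 i
  have hs : ∀ k, y - ∑ i, (∑ j ∈ Finset.range k, as j i) • x i = ys k := by
    intro k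
    induction k with
    | zero => simp [ys]
    | succ k ih =>
      have e1 : ys (k + 1) = ys k - ∑ i, as k i • x i := rfl
      rw [e1, ← ih, sub_sub, ← Finset.sum_add_distrib]
      congr 1
      refine Finset.sum_congr rfl fun i _ => ?_
      rw [Finset.sum_range_succ, add_smul]
  let D : ℕ := Finset.univ.sup d
  have hD : ∀ i, d i ≤ D := fun i => Finset.le_sup (Finset.mem_univ i)
  have hlim : ∀ i, ∃ L : A, ∀ k, (∑ j ∈ Finset.range (k + D), as j i) - L ∈ I ^ k := by
    intro i
    apply exists_limit D (fun k => as k i)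
    intro k
    exact Ideal.pow_le_pow_right (by have := hD i; omega) (has k i)
  choose L hL using hlim
  refine ⟨L, fun i => ?_, ?_⟩
  · have h1 := hL i n
    have h2 : L i = (∑ j ∈ Finset.range (n + D), as j i) -
        ((∑ j ∈ Finset.range (n + D), as j i) - L i) := by ring
    rw [h2]
    apply Ideal.sub_mem
    · apply Ideal.sum_mem
      intro j _
      exact Ideal.pow_le_pow_right (by omega) (has j i)
    · exact Ideal.pow_le_pow_right (Nat.sub_le n (d i)) h1
  · rw [← sub_eq_zero]
    have hmem : y - ∑ i, L i • x i ∈ ⨅ k, F.N k := by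
      rw [Submodule.mem_iInf]
      intro k
      have h3 : y - ∑ i, L i • x i =
          ys (k + D) + ∑ i, ((∑ j ∈ Finset.range (k + D), as j i) - L i) • x i := by
        rw [← hs (k + D)]
        simp only [sub_smul, Finset.sum_sub_distrib]
        abel
      rw [h3]
      apply Submodule.add_mem
      · exact F.antitone (by omega) (hys (k + D)).2
      · apply Submodule.sum_mem
        intro i _
        exact smul_mem_of_pow F (hL i k) (hxN i)
    rw [hsep] at hmem
    exact (Submodule.mem_bot A).1 hmem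

theorem closed_of_strict (hsep : ⨅ n, F.N n = ⊥) (h0 : F.N 0 = ⊤) (P : Submodule A M)
    {ι : Type*} [Fintype ι]
    (d : ι → ℕ) (x : ι → M) (hxP : ∀ i, x i ∈ P) (hxN : ∀ i, x i ∈ F.N (d i))
    (S : ∀ n, ∀ y ∈ P, y ∈ F.N n → ∃ c : ι → A, (∀ i, c i ∈ I ^ (n - d i)) ∧
      y = ∑ i, c i • x i) :
    ⨅ n, P ⊔ F.N n = P := by
  apply le_antisymm
  · intro z hz
    rw [Submodule.mem_iInf] at hz
    have hz' : ∀ n, ∃ m ∈ P, ∃ r ∈ F.N n, m + r = z := fun n => Submodule.mem_sup.1 (hz n)
    choose m hmP r hrN hmr using hz'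
    have hw : ∀ n, m (n + 1) - m n ∈ F.N n := by
      intro n
      have : m (n + 1) - m n = r n - r (n + 1) := by
        have h1 := hmr n
        have h2 := hmr (n + 1)
        rw [sub_eq_sub_iff_add_eq_add, h2, add_comm, h1]
      rw [this]
      exact Submodule.sub_mem _ (hrN n) (F.antitone (Nat.le_succ n) (hrN (n + 1)))
    have hc : ∀ n, ∃ c : ι → A, (∀ i, c i ∈ I ^ (n - d i)) ∧ m (n + 1) - m n = ∑ i, c i • x i :=
      fun n => S n _ (P.sub_mem (hmP (n + 1)) (hmP n)) (hw n)
    choose c hc1 hc2 using hc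
    obtain ⟨c0, -, hc0⟩ := S 0 (m 0) (hmP 0) (by rw [h0]; trivial)
    have hg : ∀ k, m k = ∑ i, (c0 i + ∑ j ∈ Finset.range k, c j i) • x i := by
      intro k
      induction k with
      | zero => simpa using hc0
      | succ k ih =>
        have : m (k + 1) = m k + (m (k + 1) - m k) := by abel
        rw [this, hc2 k, ih, ← Finset.sum_add_distrib]
        refine Finset.sum_congr rfl fun i _ => ?_
        rw [Finset.sum_range_succ, ← add_smul, add_assoc]
    let D : ℕ := Finset.univ.sup d
    have hD : ∀ i, d i ≤ D := fun i => Finset.le_sup (Finset.mem_univ i)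
    have hlim : ∀ i, ∃ L : A, ∀ k, (∑ j ∈ Finset.range (k + D), c j i) - L ∈ I ^ k := by
      intro i
      apply exists_limit D (fun k => c k i)
      intro k
      exact Ideal.pow_le_pow_right (by have := hD i; omega) (hc1 k i)
    choose L hL using hlim
    have hzz : z = ∑ i, (c0 i + L i) • x i := by
      rw [← sub_eq_zero]
      have hmem : z - ∑ i, (c0 i + L i) • x i ∈ ⨅ k, F.N k := by
        rw [Submodule.mem_iInf]
        intro k
        have h3 : z - ∑ i, (c0 i + L i) • x i =
            r (k + D) + ∑ i, ((∑ j ∈ Finset.range (k + D), c j i) - L i) • x i := by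
          rw [← hmr (k + D), hg (k + D)]
          simp only [sub_smul, add_smul, Finset.sum_sub_distrib, Finset.sum_add_distrib]
          abel
        rw [h3]
        apply Submodule.add_mem
        · exact F.antitone (by omega) (hrN (k + D))
        · apply Submodule.sum_mem
          intro i _
          exact smul_mem_of_pow F (hL i k) (hxN i)
      rw [hsep] at hmem
      exact (Submodule.mem_bot A).1 hmem
    rw [hzz]
    exact P.sum_mem fun i _ => P.smul_mem _ (hxP i)
  · exact le_iInf fun n => le_sup_left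

end Complete

end Groth.Agent.Lib.GrModGen
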