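import Mathlib
import Groth.Agent.Lib.GrModGen_helper6

/-! Finite generation and closedness of submodules from the associated graded module. -/

universe u

open Polynomial

namespace Groth.Agent.Lib.GrModGen

variable {A : Type u} [CommRing A] {I : Ideal A} {M : Type u} [AddCommGroup M] [Module A M]
  (F : I.Filtration M)

/-- The set of homogeneous classes of elements of a submodule `P`. -/
def classSet (P : Submodule A M) : Set (AssocGr.GrMod F) :=
  {g | ∃ n, ∃ y : F.N n, (y : M) ∈ P ∧ g = (AssocGr.inDegM F n y : AssocGr.GrMod F)}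

theorem span_classSet_top :
    Submodule.span (AssocGr.GrRing (FiltBl.IdealFiltration.adic I)) (classSet F ⊤) = ⊤ := by
  rw [eq_top_iff]
  intro g _
  obtain ⟨y, rfl⟩ := AssocGr.mkGM_surjective F g
  rw [← AssocGr.sum_termM F y, map_sum]
  refine Submodule.sum_mem _ fun n _ => Submodule.subset_span ?_
  exact ⟨n, ⟨AssocGr.ReesM.coeff F y n, AssocGr.ReesM.coeff_mem F y n⟩, trivial, rfl⟩

theorem fg_and_closed [IsPrecomplete I A] (hsep : ⨅ n, F.N n = ⊥) (h0 : F.N 0 = ⊤)
    (P : Submodule A M)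
    (hfg : (Submodule.span (AssocGr.GrRing (FiltBl.IdealFiltration.adic I)) (classSet F P)).FG) :
    P.FG ∧ ⨅ n, P ⊔ F.N n = P := by
  classical
  rw [Submodule.fg_span_iff_fg_span_finset_subset] at hfg
  obtain ⟨s', hs's, hspan⟩ := hfg
  have hch : ∀ g : s', ∃ n, ∃ y : F.N n, (y : M) ∈ P ∧
      (g : AssocGr.GrMod F) = (AssocGr.inDegM F n y : AssocGr.GrMod F) := fun g => hs's g.2
  choose d x hxP hx using hch
  have hrange : (Set.range fun i : s' => (AssocGr.inDegM F (d i) (x i) : AssocGr.GrMod F)) =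
      (s' : Set (AssocGr.GrMod F)) := by
    ext g
    constructor
    · rintro ⟨i, rfl⟩
      dsimp only
      rw [← hx i]; exact i.2
    · intro hg
      exact ⟨⟨g, hg⟩, (hx ⟨g, hg⟩).symm⟩
  have H : ∀ n, ∀ y ∈ P, y ∈ F.N n → ∃ a : s' → A,
      (∀ i, a i ∈ I ^ (n - d i)) ∧ y - ∑ i, a i • (x i : M) ∈ F.N (n + 1) := by
    intro n y hyP hy
    apply exists_approx F d x n ⟨y, hy⟩
    rw [hrange, ← hspan]
    exact Submodule.subset_span ⟨n, ⟨y, hy⟩, hyP, rfl⟩
  have S := strict_gen F hsep P d (fun i => (x i : M)) hxP (fun i => (x i).2) H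
  refine ⟨?_, closed_of_strict F hsep h0 P d (fun i => (x i : M)) hxP (fun i => (x i).2) S⟩
  have hP : P = Submodule.span A (Set.range fun i : s' => (x i : M)) := by
    apply le_antisymm
    · intro y hy
      obtain ⟨c, _, hc⟩ := S 0 y hy (by rw [h0]; trivial)
      rw [hc]
      exact Submodule.sum_mem _ fun i _ =>
        Submodule.smul_mem _ _ (Submodule.subset_span ⟨i, rfl⟩)
    · rw [Submodule.span_le]
      rintro _ ⟨i, rfl⟩
      exact hxP i
  rw [hP]
  exact Submodule.fg_span (Set.finite_range _)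

end Groth.Agent.Lib.GrModGen
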