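import Mathlib

/-!
# Uniformity for flatness of adic truncations, part 1: stabilisation of adic systems of ideals
(helper8)

APPEND-ONLY once landed.
-/

set_option autoImplicit false

namespace Groth.Agent.Lib.GrUnifH8

open Polynomial

section Stab

variable {R : Type*} [CommRing R] (I : Ideal R)

theorem smul_D_le (D : ℕ → Ideal R) (hI : ∀ n, I ^ n ≤ D n)
    (hsup : ∀ n, D n ≤ D (n + 1) ⊔ I ^ n) (a n : ℕ) :
    I ^ a * D n ≤ D (n + a) := by
  induction a generalizing n with
  | zero => simp
  | succ a ih =>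
    have h1 : I * D n ≤ D (n + 1) := by
      calc I * D n ≤ I * (D (n + 1) ⊔ I ^ n) := Ideal.mul_mono_right (hsup n)
        _ = I * D (n + 1) ⊔ I * I ^ n := Ideal.mul_sup _ _ _
        _ ≤ D (n + 1) := by
          refine sup_le Ideal.mul_le_right ?_
          rw [← pow_succ']
          exact hI (n + 1)
    calc I ^ (a + 1) * D n = I ^ a * (I * D n) := by rw [pow_succ, mul_assoc]
      _ ≤ I ^ a * D (n + 1) := Ideal.mul_mono_right h1
      _ ≤ D (n + 1 + a) := ih (n + 1)
      _ = D (n + (a + 1)) := by rw [add_assoc, add_comm 1 a]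

/-- the ideal of the Rees algebra attached to an adic system of ideals -/
def reesIdeal (D : ℕ → Ideal R) (hI : ∀ n, I ^ n ≤ D n)
    (hsup : ∀ n, D n ≤ D (n + 1) ⊔ I ^ n) : Ideal (reesAlgebra I) where
  carrier := {f | ∀ m, (f : R[X]).coeff m ∈ D (m + 1)}
  add_mem' := by
    intro f g hf hg m
    simp only [Subalgebra.coe_add, coeff_add]
    exact Ideal.add_mem _ (hf m) (hg m)
  zero_mem' := by
    intro m
    simp
  smul_mem' := by
    intro g f hf m
    simp only [smul_eq_mul, Subalgebra.coe_mul, coeff_mul]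
    refine Ideal.sum_mem _ ?_
    rintro ⟨a, b⟩ hab
    have hab' : a + b = m := Finset.HasAntidiagonal.mem_antidiagonal.mp hab
    have h1 : (g : R[X]).coeff a ∈ I ^ a := g.2 a
    have h2 : (f : R[X]).coeff b ∈ D (b + 1) := hf b
    have h3 := smul_D_le I D hI hsup a (b + 1) (Ideal.mul_mem_mul h1 h2)
    have : b + 1 + a = m + 1 := by omega
    rw [this] at h3
    exact h3

theorem mem_reesIdeal (D : ℕ → Ideal R) (hI : ∀ n, I ^ n ≤ D n)
    (hsup : ∀ n, D n ≤ D (n + 1) ⊔ I ^ n) (f : reesAlgebra I) :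
    f ∈ reesIdeal I D hI hsup ↔ ∀ m, (f : R[X]).coeff m ∈ D (m + 1) := Iff.rfl

/-- **Stabilisation**: an increasing sequence of adic systems of ideals in a Noetherian ring is
stationary, uniformly in the level. -/
theorem adic_stab [IsNoetherianRing R] (D : ℕ → ℕ → Ideal R)
    (hmono : ∀ N N' n, N ≤ N' → D N n ≤ D N' n)
    (hI : ∀ N n, I ^ n ≤ D N n)
    (hdec : ∀ N n, D N (n + 1) ≤ D N n)
    (hsup : ∀ N n, D N n ≤ D N (n + 1) ⊔ I ^ n) :
    ∃ N₀, ∀ N, N₀ ≤ N → ∀ n, D N n = D N₀ n := by
  let F : ℕ →o Ideal (reesAlgebra I) :=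
    { toFun := fun N => reesIdeal I (D N) (hI N) (hsup N)
      monotone' := by
        intro N N' h f hf m
        exact hmono N N' (m + 1) h (hf m) }
  obtain ⟨N₀, hN₀⟩ := monotone_stabilizes_iff_noetherian.mpr
    (inferInstance : IsNoetherian (reesAlgebra I) (reesAlgebra I)) F
  refine ⟨N₀, fun N hN n => ?_⟩
  induction n with
  | zero =>
    have h1 : D N 0 = ⊤ := top_le_iff.mp (by simpa using hI N 0)
    have h2 : D N₀ 0 = ⊤ := top_le_iff.mp (by simpa using hI N₀ 0)
    rw [h1, h2]
  | succ n ih =>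
    apply le_antisymm
    · intro x hx
      have hx1 : x ∈ D N₀ n := ih ▸ hdec N n hx
      obtain ⟨y, hy, z, hz, hyz⟩ := Submodule.mem_sup.mp (hsup N₀ n hx1)
      have hzN : z ∈ D N (n + 1) := by
        have : z = x - y := by rw [← hyz]; ring
        rw [this]
        exact Ideal.sub_mem _ hx (hmono N₀ N (n + 1) hN hy)
      let g : reesAlgebra I := ⟨monomial n z, reesAlgebra.monomial_mem.mpr hz⟩
      have hg : g ∈ F N := by
        intro m
        show (monomial n z : R[X]).coeff m ∈ D N (m + 1)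
        rw [coeff_monomial]
        split_ifs with h
        · subst h; exact hzN
        · exact Ideal.zero_mem _
      rw [← hN₀ N hN] at hg
      have := hg n
      have h4 : (monomial n z : R[X]).coeff n = z := by simp
      change (monomial n z : R[X]).coeff n ∈ D N₀ (n + 1) at this
      rw [h4] at this
      rw [← hyz]
      exact Ideal.add_mem _ hy this
    · exact hmono N₀ N (n + 1) hN

end Stab

end Groth.Agent.Lib.GrUnifH8
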