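import Mathlib

/-!
# Uniformity for flatness of adic truncations, part 2: Eilenberg swindle (helper8)

APPEND-ONLY once landed.
-/

set_option autoImplicit false

namespace Groth.Agent.Lib.GrUnifH8

universe u v

section Swindle

variable {R : Type u} [CommRing R]

/-- finitely supported functions into a product -/
noncomputable def finsuppProdCodomain (α : Type*) (M N : Type*) [AddCommGroup M] [Module R M]
    [AddCommGroup N] [Module R N] : (α →₀ M × N) ≃ₗ[R] (α →₀ M) × (α →₀ N) :=
  LinearEquiv.ofLinearMap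
    (LinearMap.prod (Finsupp.mapRange.linearMap (LinearMap.fst R M N))
      (Finsupp.mapRange.linearMap (LinearMap.snd R M N)))
    (LinearMap.coprod (Finsupp.mapRange.linearMap (LinearMap.inl R M N))
      (Finsupp.mapRange.linearMap (LinearMap.inr R M N)))
    (by
      apply LinearMap.ext
      rintro ⟨f, g⟩
      apply Prod.ext
      · ext a
        simp
      · ext a
        simp)
    (by
      apply LinearMap.ext
      intro f
      ext a
      · simp
      · simp)

/-- shifting: `P × (ℕ →₀ P) ≃ (ℕ →₀ P)` -/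
noncomputable def shiftEquiv (P : Type*) [AddCommGroup P] [Module R P] :
    (P × (ℕ →₀ P)) ≃ₗ[R] (ℕ →₀ P) :=
  ((LinearEquiv.prodCongr (Finsupp.uniqueLinearEquiv R P PUnit.unit.{1}).symm
      (LinearEquiv.refl R (ℕ →₀ P))).trans
    (Finsupp.sumFinsuppLEquivProdFinsupp R).symm).trans
    (Finsupp.domLCongr ((Equiv.sumComm PUnit.{1} ℕ).trans Equiv.natSumPUnitEquivNat))

/-- **Eilenberg swindle**: a projective module becomes free after adding a free module. -/
theorem exists_free_prod_free (P : Type u) [AddCommGroup P] [Module R P] [Module.Projective R P] :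
    ∃ ι : Type u, Module.Free R (P × (ι →₀ R)) := by
  obtain ⟨s, hs⟩ := Module.projective_def'.mp (inferInstance : Module.Projective R P)
  set π : (P →₀ R) →ₗ[R] P := Finsupp.linearCombination R id with hπ
  have hπs : ∀ x, π (s x) = x := fun x => LinearMap.congr_fun hs x
  -- the idempotent
  let e : (P →₀ R) →ₗ[R] (P →₀ R) := s ∘ₗ π
  have he : IsIdempotentElem e := by
    apply LinearMap.ext
    intro x
    show s (π (s (π x))) = s (π x)
    rw [hπs]
  have hcompl : IsCompl (LinearMap.range e) (LinearMap.ker e) := LinearMap.IsIdempotentElem.isCompl he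
  have hsinj : Function.Injective s := fun x y h => by
    have := congrArg π h
    rwa [hπs, hπs] at this
  have hrange : LinearMap.range e = LinearMap.range s := by
    apply le_antisymm
    · rintro _ ⟨x, rfl⟩
      exact ⟨π x, rfl⟩
    · rintro _ ⟨x, rfl⟩
      exact ⟨s x, by show s (π (s x)) = s x; rw [hπs]⟩
  -- `F ≃ P × Q`
  let Q := LinearMap.ker e
  have e1 : (P × Q) ≃ₗ[R] (P →₀ R) :=
    (LinearEquiv.prodCongr ((LinearEquiv.ofInjective s hsinj).trans
      (LinearEquiv.ofEq _ _ hrange.symm)) (LinearEquiv.refl R Q)).trans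
      (Submodule.prodEquivOfIsCompl _ _ hcompl)
  -- `G = ℕ →₀ F`
  have e2 : (ℕ →₀ (P →₀ R)) ≃ₗ[R] (ℕ →₀ P) × (ℕ →₀ Q) :=
    (Finsupp.mapRange.linearEquiv e1.symm).trans (finsuppProdCodomain ℕ P Q)
  have e3 : (P × (ℕ →₀ (P →₀ R))) ≃ₗ[R] (ℕ →₀ (P →₀ R)) :=
    (((LinearEquiv.prodCongr (LinearEquiv.refl R P) e2).trans
      (LinearEquiv.prodAssoc R P (ℕ →₀ P) (ℕ →₀ Q)).symm).trans
      (LinearEquiv.prodCongr (shiftEquiv P) (LinearEquiv.refl R (ℕ →₀ Q)))).trans e2.symm
  have e4 : ((ℕ × P) →₀ R) ≃ₗ[R] (ℕ →₀ (P →₀ R)) := Finsupp.curryLinearEquiv R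
  refine ⟨ℕ × P, ?_⟩
  have e5 : (P × ((ℕ × P) →₀ R)) ≃ₗ[R] ((ℕ × P) →₀ R) :=
    ((LinearEquiv.prodCongr (LinearEquiv.refl R P) e4).trans e3).trans e4.symm
  exact Module.Free.of_equiv e5.symm

end Swindle

end Groth.Agent.Lib.GrUnifH8
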