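import Mathlib
import Groth.Agent.Lib.LeastFree_helper9
import Groth.Agent.Lib.LocalCrit8_helper9
import Groth.Agent.Lib.LocalCrit11_helper9
import Groth.Agent.Lib.GrUnif2_helper8

/-!
# Uniformity for flatness of adic truncations, part 3: universal flattening ideals over a
nilpotent thickening (helper8)

APPEND-ONLY once landed.
-/

set_option autoImplicit false
open TensorProduct

namespace Groth.Agent.Lib.GrUnifH8

universe u

section Flattening

/-- transport of freeness of a base change along an isomorphism of algebras -/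
theorem free_of_algEquiv {A K K' : Type u} [CommRing A] [CommRing K] [CommRing K'] [Algebra A K]
    [Algebra A K'] (e : K ≃ₐ[A] K') (M : Type u) [AddCommGroup M] [Module A M]
    [Module.Free K (K ⊗[A] M)] : Module.Free K' (K' ⊗[A] M) := by
  letI : Algebra K K' := e.toAlgHom.toRingHom.toAlgebra
  haveI : IsScalarTower A K K' := IsScalarTower.of_algebraMap_eq (fun x => (e.commutes x).symm)
  exact Module.Free.of_equiv (AlgebraTensorModule.cancelBaseChange A K K' K' M)

/-- flattening ideal, free reduction, abstract quotient -/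
theorem exists_flattening_ideal_free {A K : Type u} [CommRing A] [CommRing K] [Algebra A K]
    (hsurj : Function.Surjective (algebraMap A K))
    (hnil : IsNilpotent (RingHom.ker (algebraMap A K)))
    (M : Type u) [AddCommGroup M] [Module A M] [Module.Free K (K ⊗[A] M)] :
    ∃ d : Ideal A, ∀ (A' : Type u) [CommRing A'] [Algebra A A'],
      Module.Flat A' (A' ⊗[A] M) ↔ d.map (algebraMap A A') = ⊥ := by
  have e : (A ⧸ RingHom.ker (Algebra.ofId A K : A →ₐ[A] K)) ≃ₐ[A] K :=
    Ideal.quotientKerAlgEquivOfSurjective (f := (Algebra.ofId A K : A →ₐ[A] K)) hsurj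
  have hker : RingHom.ker (Algebra.ofId A K : A →ₐ[A] K) = RingHom.ker (algebraMap A K) := rfl
  rw [hker] at e
  haveI : Module.Free (A ⧸ RingHom.ker (algebraMap A K))
      ((A ⧸ RingHom.ker (algebraMap A K)) ⊗[A] M) := free_of_algEquiv e.symm M
  obtain ⟨d, hd⟩ := LeastFree9.main (M := M) (J := RingHom.ker (algebraMap A K)) hnil inferInstance
  exact ⟨d, fun A' _ _ => (hd A').2⟩

/-- flattening ideal, projective reduction, abstract quotient -/
theorem exists_flattening_ideal_proj {A K : Type u} [CommRing A] [CommRing K] [Algebra A K]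
    (hsurj : Function.Surjective (algebraMap A K))
    (hnil : IsNilpotent (RingHom.ker (algebraMap A K)))
    (M : Type u) [AddCommGroup M] [Module A M] [Module.Projective K (K ⊗[A] M)] :
    ∃ d : Ideal A, ∀ (A' : Type u) [CommRing A'] [Algebra A A'],
      Module.Flat A' (A' ⊗[A] M) ↔ d.map (algebraMap A A') = ⊥ := by
  classical
  obtain ⟨ι, hι⟩ := exists_free_prod_free (R := K) (K ⊗[A] M)
  have e1 : K ⊗[A] (M × (ι →₀ A)) ≃ₗ[K] (K ⊗[A] M) × (ι →₀ K) :=
    (TensorProduct.prodRight A K K M (ι →₀ A)).trans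
      (LinearEquiv.prodCongr (LinearEquiv.refl K _) (TensorProduct.finsuppScalarRight A K K ι))
  haveI : Module.Free K (K ⊗[A] (M × (ι →₀ A))) := Module.Free.of_equiv e1.symm
  obtain ⟨d, hd⟩ := exists_flattening_ideal_free hsurj hnil (M × (ι →₀ A))
  refine ⟨d, fun A' _ _ => ?_⟩
  rw [← hd A']
  have e2 : A' ⊗[A] (M × (ι →₀ A)) ≃ₗ[A'] (A' ⊗[A] M) × (ι →₀ A') :=
    (TensorProduct.prodRight A A' A' M (ι →₀ A)).trans
      (LinearEquiv.prodCongr (LinearEquiv.refl A' _) (TensorProduct.finsuppScalarRight A A' A' ι))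
  constructor
  · intro h
    haveI : Module.Flat A' ((A' ⊗[A] M) × (ι →₀ A')) :=
      Groth.Agent.Lib.LocalCrit11.flat_prod _ _
    exact Module.Flat.of_linearEquiv e2
  · intro h
    haveI : Module.Flat A' ((A' ⊗[A] M) × (ι →₀ A')) := Module.Flat.of_linearEquiv e2.symm
    exact Module.Flat.of_retract (LinearMap.inl A' (A' ⊗[A] M) (ι →₀ A'))
      (LinearMap.fst A' (A' ⊗[A] M) (ι →₀ A')) (by ext; simp)

/-- pulling a flattening ideal back along a surjection -/
theorem flattening_comap {R A : Type u} [CommRing R] [CommRing A] [Algebra R A]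
    (hsurj : Function.Surjective (algebraMap R A)) (Y : Type u) [AddCommGroup Y] [Module R Y]
    (d₀ : Ideal A)
    (h : ∀ (A' : Type u) [CommRing A'] [Algebra A A'],
      Module.Flat A' (A' ⊗[A] (A ⊗[R] Y)) ↔ d₀.map (algebraMap A A') = ⊥)
    (C : Type u) [CommRing C] [Algebra R C]
    (hC : RingHom.ker (algebraMap R A) ≤ RingHom.ker (algebraMap R C)) :
    Module.Flat C (C ⊗[R] Y) ↔ (d₀.comap (algebraMap R A)).map (algebraMap R C) = ⊥ := by
  let φ : A →+* C := RingHom.liftOfSurjective (algebraMap R A) hsurj ⟨algebraMap R C, hC⟩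
  have hφ : ∀ r, φ (algebraMap R A r) = algebraMap R C r := fun r =>
    RingHom.liftOfRightInverse_comp_apply _ _ _ _ r
  letI : Algebra A C := φ.toAlgebra
  haveI : IsScalarTower R A C := IsScalarTower.of_algebraMap_eq (fun r => (hφ r).symm)
  have h1 : (d₀.comap (algebraMap R A)).map (algebraMap R C) = d₀.map (algebraMap A C) := by
    rw [IsScalarTower.algebraMap_eq R A C, ← Ideal.map_map, Ideal.map_comap_of_surjective _ hsurj]
  rw [h1, ← h C]
  constructor
  · intro _
    exact Groth.Agent.Lib.LocalCrit8.flat_baseChange_baseChange R A C Y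
  · intro _
    exact Module.Flat.of_linearEquiv (AlgebraTensorModule.cancelBaseChange R A C C Y).symm

end Flattening

end Groth.Agent.Lib.GrUnifH8
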