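import Mathlib
import Groth.Agent.Lib.GrUnif1_helper8
import Groth.Agent.Lib.GrUnif3_helper8

/-!
# Uniformity for flatness of adic truncations, part 4: uniformity over one stratum (helper8)

APPEND-ONLY once landed.
-/

set_option autoImplicit false
open TensorProduct

namespace Groth.Agent.Lib.GrUnifH8

universe u

section Stratum

/-- abstract form of the flattening ideal over a nilpotent thickening -/
theorem exists_flattening_ideal_aux {R A K : Type u} [CommRing R] [CommRing A] [CommRing K]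
    [Algebra R A] [Algebra R K] [Algebra A K] [IsScalarTower R A K]
    (hRA : Function.Surjective (algebraMap R A)) (hAK : Function.Surjective (algebraMap A K))
    (hnil : IsNilpotent (RingHom.ker (algebraMap A K)))
    (Y : Type u) [AddCommGroup Y] [Module R Y] [Module.Projective K (K ⊗[R] Y)] :
    ∃ d : Ideal R, RingHom.ker (algebraMap R A) ≤ d ∧
      ∀ (C : Type u) [CommRing C] [Algebra R C],
        RingHom.ker (algebraMap R A) ≤ RingHom.ker (algebraMap R C) →
        (Module.Flat C (C ⊗[R] Y) ↔ d.map (algebraMap R C) = ⊥) := by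
  haveI : Module.Projective K (K ⊗[A] (A ⊗[R] Y)) :=
    Module.Projective.of_equiv (AlgebraTensorModule.cancelBaseChange R A K K Y).symm
  obtain ⟨d₀, hd₀⟩ := exists_flattening_ideal_proj hAK hnil (A ⊗[R] Y)
  refine ⟨d₀.comap (algebraMap R A), ?_, ?_⟩
  · intro x hx
    rw [Ideal.mem_comap, RingHom.mem_ker.mp hx]
    exact Ideal.zero_mem _
  · intro C _ _ hC
    exact flattening_comap hRA Y d₀ hd₀ C hC

/-- **Universal flattening ideal** of level `n` for a module with projective reduction modulo `I`. -/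
theorem exists_flattening_ideal {R : Type u} [CommRing R] (I : Ideal R) (n : ℕ) (Y : Type u)
    [AddCommGroup Y] [Module R Y] [Module.Projective (R ⧸ I) ((R ⧸ I) ⊗[R] Y)] :
    ∃ d : Ideal R, I ^ n ≤ d ∧ ∀ (C : Type u) [CommRing C] [Algebra R C],
      (I ^ n).map (algebraMap R C) = ⊥ →
        (Module.Flat C (C ⊗[R] Y) ↔ d.map (algebraMap R C) = ⊥) := by
  rcases Nat.eq_zero_or_pos n with hn | hn
  · subst hn
    refine ⟨⊤, le_top, fun C _ _ hC => ?_⟩
    rw [pow_zero, Ideal.one_eq_top, Ideal.map_top] at hC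
    haveI : Subsingleton C := by
      rw [← subsingleton_iff_zero_eq_one]
      have : (1 : C) ∈ (⊤ : Ideal C) := Submodule.mem_top
      rw [hC] at this
      exact (Ideal.mem_bot.mp this).symm
    constructor
    · intro _
      exact Subsingleton.elim _ _
    · intro _
      infer_instance
  · have hle : I ^ n ≤ I := Ideal.pow_le_self (Nat.pos_iff_ne_zero.mp hn)
    letI : Algebra (R ⧸ I ^ n) (R ⧸ I) := (Ideal.Quotient.factor hle).toAlgebra
    haveI : IsScalarTower R (R ⧸ I ^ n) (R ⧸ I) := IsScalarTower.of_algebraMap_eq (fun x => rfl)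
    have hker : RingHom.ker (algebraMap (R ⧸ I ^ n) (R ⧸ I)) = I.map (Ideal.Quotient.mk (I ^ n)) :=
      Ideal.Quotient.factor_ker hle
    have hnil : IsNilpotent (RingHom.ker (algebraMap (R ⧸ I ^ n) (R ⧸ I))) := by
      refine ⟨n, ?_⟩
      rw [hker, ← Ideal.map_pow, Ideal.map_quotient_self, Ideal.zero_eq_bot]
    obtain ⟨d, hd1, hd2⟩ := exists_flattening_ideal_aux (R := R) (A := R ⧸ I ^ n) (K := R ⧸ I)
      Ideal.Quotient.mk_surjective (Ideal.Quotient.factor_surjective hle) hnil Y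
    have hk : RingHom.ker (algebraMap R (R ⧸ I ^ n)) = I ^ n := Ideal.mk_ker
    rw [hk] at hd1 hd2
    refine ⟨d, hd1, fun C _ _ hC => hd2 C ?_⟩
    exact (Ideal.map_eq_bot_iff_le_ker _).mp hC

variable {R : Type u} [CommRing R]

private theorem map_mk_eq_bot (𝔞 𝔟 : Ideal R) (h : 𝔞 ≤ 𝔟) :
    𝔞.map (algebraMap R (R ⧸ 𝔟)) = ⊥ := by
  rw [Ideal.map_eq_bot_iff_le_ker]
  show 𝔞 ≤ RingHom.ker (Ideal.Quotient.mk 𝔟)
  rw [Ideal.mk_ker]
  exact h

private theorem le_of_map_mk_eq_bot (𝔞 𝔟 : Ideal R) (h : 𝔞.map (algebraMap R (R ⧸ 𝔟)) = ⊥) :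
    𝔞 ≤ 𝔟 := by
  rw [Ideal.map_eq_bot_iff_le_ker] at h
  have h2 : RingHom.ker (algebraMap R (R ⧸ 𝔟)) = 𝔟 := Ideal.mk_ker
  rw [h2] at h
  exact h

/-- **Uniformity over a stratum.** -/
theorem stratum_unif [IsNoetherianRing R] (I : Ideal R) (Y : ℕ → Type u)
    [∀ k, AddCommGroup (Y k)] [∀ k, Module R (Y k)]
    (hproj : ∀ k, Module.Projective (R ⧸ I) ((R ⧸ I) ⊗[R] Y k)) :
    ∃ N : ℕ, ∀ (C : Type u) [CommRing C] [Algebra R C],
      (∃ n, (I ^ n).map (algebraMap R C) = ⊥) →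
      (∀ k ≤ N, Module.Flat C (C ⊗[R] Y k)) → ∀ k, Module.Flat C (C ⊗[R] Y k) := by
  have H := fun k n => exists_flattening_ideal I n (Y k)
  choose d hd1 hd2 using H
  have hdec : ∀ k n, d k (n + 1) ≤ d k n := by
    intro k n
    apply le_of_map_mk_eq_bot
    have hC1 : (I ^ (n + 1)).map (algebraMap R (R ⧸ d k n)) = ⊥ :=
      map_mk_eq_bot _ _ ((Ideal.pow_le_pow_right (Nat.le_succ n)).trans (hd1 k n))
    have hC0 : (I ^ n).map (algebraMap R (R ⧸ d k n)) = ⊥ := map_mk_eq_bot _ _ (hd1 k n)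
    rw [← hd2 k (n + 1) _ hC1, hd2 k n _ hC0]
    exact map_mk_eq_bot _ _ le_rfl
  have hsup : ∀ k n, d k n ≤ d k (n + 1) ⊔ I ^ n := by
    intro k n
    apply le_of_map_mk_eq_bot
    have hC1 : (I ^ (n + 1)).map (algebraMap R (R ⧸ (d k (n + 1) ⊔ I ^ n))) = ⊥ :=
      map_mk_eq_bot _ _ ((Ideal.pow_le_pow_right (Nat.le_succ n)).trans le_sup_right)
    have hC0 : (I ^ n).map (algebraMap R (R ⧸ (d k (n + 1) ⊔ I ^ n))) = ⊥ :=
      map_mk_eq_bot _ _ le_sup_right
    rw [← hd2 k n _ hC0, hd2 k (n + 1) _ hC1]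
    exact map_mk_eq_bot _ _ le_sup_left
  let D : ℕ → ℕ → Ideal R := fun N n => (Finset.range (N + 1)).sup (fun k => d k n)
  obtain ⟨N₀, hN₀⟩ := adic_stab I D
    (fun N N' n h => Finset.sup_mono (Finset.range_mono (Nat.succ_le_succ h)))
    (fun N n => (hd1 0 n).trans (Finset.le_sup (f := fun k => d k n)
      (Finset.mem_range.mpr (Nat.succ_pos N))))
    (fun N n => Finset.sup_le fun k hk => (hdec k n).trans (Finset.le_sup (f := fun k => d k n) hk))
    (fun N n => Finset.sup_le fun k hk => (hsup k n).trans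
      (sup_le_sup_right (Finset.le_sup (f := fun k => d k (n + 1)) hk) _))
  refine ⟨N₀, ?_⟩
  intro C _ _ ⟨n, hn⟩ hflat k
  have h1 : D N₀ n ≤ RingHom.ker (algebraMap R C) := by
    refine Finset.sup_le fun j hj => ?_
    rw [← Ideal.map_eq_bot_iff_le_ker, ← hd2 j n C hn]
    exact hflat j (Nat.lt_succ_iff.mp (Finset.mem_range.mp hj))
  rw [hd2 k n C hn, Ideal.map_eq_bot_iff_le_ker]
  have h2 : d k n ≤ D (max k N₀) n :=
    Finset.le_sup (f := fun k => d k n) (Finset.mem_range.mpr (Nat.lt_succ_of_le (le_max_left k N₀)))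
  rw [hN₀ (max k N₀) (le_max_right k N₀) n] at h2
  exact h2.trans h1

end Stratum

end Groth.Agent.Lib.GrUnifH8
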