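import Mathlib
import Groth.Agent.Lib.GrUnif4_helper8

/-!
# Uniformity for flatness of adic truncations, part 5: local rings with nilpotent maximal ideal
(helper8)

APPEND-ONLY once landed.
-/

set_option autoImplicit false
open TensorProduct

namespace Groth.Agent.Lib.GrUnifH8

universe u

section Local

variable {A₁ : Type u} [CommRing A₁] (Q : ℕ → Type u) [∀ k, AddCommGroup (Q k)]
  [∀ k, Module A₁ (Q k)]

/-- generic projectivity of the family, uniformly in `k` -/
def GenProj : Prop := ∀ 𝔭 : Ideal A₁, 𝔭.IsPrime → ∃ h : A₁, h ∉ 𝔭 ∧ ∀ k,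
  Module.Projective (Localization.Away h ⧸ 𝔭.map (algebraMap A₁ (Localization.Away h)))
    ((Localization.Away h ⧸ 𝔭.map (algebraMap A₁ (Localization.Away h))) ⊗[A₁] Q k)

/-- transfer of flatness through an intermediate ring -/
theorem flat_tower_iff (R C : Type u) [CommRing R] [CommRing C] [Algebra A₁ R] [Algebra A₁ C]
    [Algebra R C] [IsScalarTower A₁ R C] (X : Type u) [AddCommGroup X] [Module A₁ X] :
    Module.Flat C (C ⊗[R] (R ⊗[A₁] X)) ↔ Module.Flat C (C ⊗[A₁] X) :=
  ⟨fun _ => Module.Flat.of_linearEquiv (AlgebraTensorModule.cancelBaseChange A₁ R C C X).symm,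
   fun _ => Module.Flat.of_linearEquiv (AlgebraTensorModule.cancelBaseChange A₁ R C C X)⟩

/-- the step for a stratum, abstract in the localisation `R` -/
theorem stratum_step (R : Type u) [CommRing R] [IsNoetherianRing R] [Algebra A₁ R] (h : A₁)
    [IsLocalization.Away h R] (𝔭 : Ideal A₁)
    (hproj : ∀ k, Module.Projective (R ⧸ 𝔭.map (algebraMap A₁ R))
      ((R ⧸ 𝔭.map (algebraMap A₁ R)) ⊗[A₁] Q k)) :
    ∃ N : ℕ, ∀ (C : Type u) [CommRing C] [Algebra A₁ C] [IsLocalRing C],
      IsNilpotent (IsLocalRing.maximalIdeal C) →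
      𝔭.map (algebraMap A₁ C) ≤ IsLocalRing.maximalIdeal C → IsUnit (algebraMap A₁ C h) →
      (∀ k ≤ N, Module.Flat C (C ⊗[A₁] Q k)) → ∀ k, Module.Flat C (C ⊗[A₁] Q k) := by
  have hproj' : ∀ k, Module.Projective (R ⧸ 𝔭.map (algebraMap A₁ R))
      ((R ⧸ 𝔭.map (algebraMap A₁ R)) ⊗[R] (R ⊗[A₁] Q k)) := fun k =>
    haveI := hproj k
    Module.Projective.of_equiv
      (AlgebraTensorModule.cancelBaseChange A₁ R (R ⧸ 𝔭.map (algebraMap A₁ R))
        (R ⧸ 𝔭.map (algebraMap A₁ R)) (Q k)).symm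
  obtain ⟨N, hN⟩ := stratum_unif (𝔭.map (algebraMap A₁ R)) (fun k => R ⊗[A₁] Q k) hproj'
  refine ⟨N, ?_⟩
  intro C _ _ _ hnil hle hu hflat k
  letI : Algebra R C := (IsLocalization.Away.lift (S := R) h hu).toAlgebra
  haveI : IsScalarTower A₁ R C := IsScalarTower.of_algebraMap_eq (fun x =>
    (IsLocalization.Away.lift_eq (S := R) h hu x).symm)
  have hex : ∃ n, ((𝔭.map (algebraMap A₁ R)) ^ n).map (algebraMap R C) = ⊥ := by
    obtain ⟨n, hn⟩ := hnil
    refine ⟨n, ?_⟩
    rw [Ideal.map_pow, Ideal.map_map, ← IsScalarTower.algebraMap_eq, ← le_bot_iff]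
    calc (𝔭.map (algebraMap A₁ C)) ^ n ≤ (IsLocalRing.maximalIdeal C) ^ n :=
          Ideal.pow_right_mono hle n
      _ = ⊥ := by rw [hn, Ideal.zero_eq_bot]
  have := hN C hex (fun j hj => (flat_tower_iff (A₁ := A₁) R C (Q j)).mpr (hflat j hj)) k
  exact (flat_tower_iff (A₁ := A₁) R C (Q k)).mp this

variable [IsNoetherianRing A₁]

/-- **Uniformity for local rings with nilpotent maximal ideal.** -/
theorem local_unif (hQ : GenProj (A₁ := A₁) Q) :
    ∃ N : ℕ, ∀ (C : Type u) [CommRing C] [Algebra A₁ C] [IsLocalRing C],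
      IsNilpotent (IsLocalRing.maximalIdeal C) →
      (∀ k ≤ N, Module.Flat C (C ⊗[A₁] Q k)) → ∀ k, Module.Flat C (C ⊗[A₁] Q k) := by
  have key : ∀ 𝔞 : Ideal A₁, ∃ N : ℕ, ∀ (C : Type u) [CommRing C] [Algebra A₁ C] [IsLocalRing C],
      IsNilpotent (IsLocalRing.maximalIdeal C) →
      𝔞.map (algebraMap A₁ C) ≤ IsLocalRing.maximalIdeal C →
      (∀ k ≤ N, Module.Flat C (C ⊗[A₁] Q k)) → ∀ k, Module.Flat C (C ⊗[A₁] Q k) := by
    intro 𝔞
    refine IsNoetherian.induction (P := fun 𝔞 : Ideal A₁ => ∃ N : ℕ, ∀ (C : Type u) [CommRing C]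
      [Algebra A₁ C] [IsLocalRing C], IsNilpotent (IsLocalRing.maximalIdeal C) →
      𝔞.map (algebraMap A₁ C) ≤ IsLocalRing.maximalIdeal C →
      (∀ k ≤ N, Module.Flat C (C ⊗[A₁] Q k)) → ∀ k, Module.Flat C (C ⊗[A₁] Q k)) ?_ 𝔞
    intro (𝔞 : Ideal A₁) ih
    by_cases hprime : Ideal.IsPrime 𝔞
    · obtain ⟨h, hh, hproj⟩ := hQ 𝔞 hprime
      haveI : IsNoetherianRing (Localization.Away h) :=
        IsLocalization.isNoetherianRing (Submonoid.powers h) _ inferInstance
      obtain ⟨N₁, hN₁⟩ := stratum_step Q (Localization.Away h) h 𝔞 hproj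
      have hlt : 𝔞 < 𝔞 ⊔ Ideal.span {h} := by
        refine lt_of_le_of_ne le_sup_left fun heq => hh ?_
        rw [heq]
        exact Ideal.mem_sup_right (Ideal.subset_span rfl)
      obtain ⟨N₂, hN₂⟩ := ih _ hlt
      refine ⟨max N₁ N₂, ?_⟩
      intro C _ _ _ hnil hle hflat
      by_cases hu : IsUnit (algebraMap A₁ C h)
      · exact hN₁ C hnil hle hu (fun k hk => hflat k (hk.trans (le_max_left _ _)))
      · refine hN₂ C hnil ?_ (fun k hk => hflat k (hk.trans (le_max_right _ _)))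
        rw [Ideal.map_sup]
        refine sup_le hle ?_
        rw [Ideal.map_span, Ideal.span_le]
        rintro _ ⟨x, hx, rfl⟩
        rw [Set.mem_singleton_iff.mp hx]
        exact (IsLocalRing.mem_maximalIdeal _).mpr hu
    · rcases Ideal.not_isPrime_iff.mp hprime with htop | ⟨x, hx, y, hy, hxy⟩
      · refine ⟨0, ?_⟩
        intro C _ _ _ hnil hle hflat
        exfalso
        rw [htop, Ideal.map_top] at hle
        exact (IsLocalRing.maximalIdeal.isMaximal C).ne_top (top_le_iff.mp hle)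
      · have hltx : 𝔞 < 𝔞 ⊔ Ideal.span {x} := by
          refine lt_of_le_of_ne le_sup_left fun heq => hx ?_
          rw [heq]
          exact Ideal.mem_sup_right (Ideal.subset_span rfl)
        have hlty : 𝔞 < 𝔞 ⊔ Ideal.span {y} := by
          refine lt_of_le_of_ne le_sup_left fun heq => hy ?_
          rw [heq]
          exact Ideal.mem_sup_right (Ideal.subset_span rfl)
        obtain ⟨N₁, hN₁⟩ := ih _ hltx
        obtain ⟨N₂, hN₂⟩ := ih _ hlty
        refine ⟨max N₁ N₂, ?_⟩
        intro C _ _ _ hnil hle hflat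
        have hmem : algebraMap A₁ C x * algebraMap A₁ C y ∈ IsLocalRing.maximalIdeal C := by
          rw [← map_mul]
          exact hle (Ideal.mem_map_of_mem _ hxy)
        rcases (IsLocalRing.maximalIdeal.isMaximal C).isPrime.mem_or_mem hmem with h1 | h1
        · refine hN₁ C hnil ?_ (fun k hk => hflat k (hk.trans (le_max_left _ _)))
          rw [Ideal.map_sup]
          refine sup_le hle ?_
          rw [Ideal.map_span, Ideal.span_le]
          rintro _ ⟨z, hz, rfl⟩
          rw [Set.mem_singleton_iff.mp hz]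
          exact h1
        · refine hN₂ C hnil ?_ (fun k hk => hflat k (hk.trans (le_max_right _ _)))
          rw [Ideal.map_sup]
          refine sup_le hle ?_
          rw [Ideal.map_span, Ideal.span_le]
          rintro _ ⟨z, hz, rfl⟩
          rw [Set.mem_singleton_iff.mp hz]
          exact h1
  obtain ⟨N, hN⟩ := key ⊥
  refine ⟨N, ?_⟩
  intro C _ _ _ hnil hflat
  exact hN C hnil (by rw [Ideal.map_bot]; exact bot_le) hflat

end Local

end Groth.Agent.Lib.GrUnifH8
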