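import Mathlib
import Groth.Agent.Lib.GrUnif5_helper8
import Groth.Agent.Lib.LocalCrit7_helper9
import Groth.Agent.Lib.ConsExact2_helper8
import Groth.Agent.Lib.FlatDesc8_helper8
import Groth.Agent.Lib.FTInt_helper8

/-!
# Uniformity for flatness of adic truncations, part 6: the uniformity theorem (helper8)

APPEND-ONLY once landed.
-/

set_option autoImplicit false
open TensorProduct

namespace Groth.Agent.Lib.GrUnifH8

universe u

section Jac

/-- over a Jacobson ring, maximal ideals of a finite type algebra contract to maximal ideals -/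
theorem isMaximal_comap_of_finiteType {C S : Type*} [CommRing C] [CommRing S] [Algebra C S]
    [Algebra.FiniteType C S] [IsJacobsonRing C] (P : Ideal S) [P.IsMaximal] :
    (P.comap (algebraMap C S)).IsMaximal := by
  letI : Field (S ⧸ P) := Ideal.Quotient.field P
  haveI : Algebra.FiniteType C (S ⧸ P) :=
    Algebra.FiniteType.of_surjective (Ideal.Quotient.mkₐ C P) (Ideal.Quotient.mkₐ_surjective C P)
  haveI : Module.Finite C (S ⧸ P) := finite_of_finite_type_of_isJacobsonRing C (S ⧸ P)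
  haveI : Algebra.IsIntegral C (S ⧸ P) := Algebra.IsIntegral.of_finite C _
  haveI : (⊥ : Ideal (S ⧸ P)).IsMaximal := Ideal.bot_isMaximal
  have h := Ideal.isMaximal_comap_of_isIntegral_of_isMaximal (R := C) (⊥ : Ideal (S ⧸ P))
  convert h using 1
  ext x
  rw [Ideal.mem_comap, Ideal.mem_comap, Ideal.mem_bot,
    IsScalarTower.algebraMap_apply C S (S ⧸ P), Ideal.Quotient.algebraMap_eq,
    Ideal.Quotient.eq_zero_iff_mem]

/-- the quotient by a power of a maximal ideal is local -/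
theorem isLocalRing_quot_pow {C : Type*} [CommRing C] (𝔪 : Ideal C) [h𝔪 : 𝔪.IsMaximal] (n : ℕ)
    (hn : 0 < n) : IsLocalRing (C ⧸ 𝔪 ^ n) := by
  have hle : 𝔪 ^ n ≤ 𝔪 := Ideal.pow_le_self (Nat.pos_iff_ne_zero.mp hn)
  have hmax : (𝔪.map (Ideal.Quotient.mk (𝔪 ^ n))).IsMaximal :=
    Ideal.IsMaximal.map_of_surjective_of_ker_le Ideal.Quotient.mk_surjective
      (by rw [Ideal.mk_ker]; exact hle)
  refine IsLocalRing.of_unique_max_ideal ⟨_, hmax, fun J hJ => ?_⟩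
  have h1 : (𝔪.map (Ideal.Quotient.mk (𝔪 ^ n))) ^ n ≤ J := by
    rw [← Ideal.map_pow, Ideal.map_quotient_self]
    exact bot_le
  have h2 : 𝔪.map (Ideal.Quotient.mk (𝔪 ^ n)) ≤ J := hJ.isPrime.le_of_pow_le h1
  exact (hmax.eq_of_le hJ.ne_top h2).symm

theorem isNilpotent_maximalIdeal_quot_pow {C : Type*} [CommRing C] (𝔪 : Ideal C) [h𝔪 : 𝔪.IsMaximal]
    (n : ℕ) (hn : 0 < n) [IsLocalRing (C ⧸ 𝔪 ^ n)] :
    IsNilpotent (IsLocalRing.maximalIdeal (C ⧸ 𝔪 ^ n)) := by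
  have hle : 𝔪 ^ n ≤ 𝔪 := Ideal.pow_le_self (Nat.pos_iff_ne_zero.mp hn)
  have hmax : (𝔪.map (Ideal.Quotient.mk (𝔪 ^ n))).IsMaximal :=
    Ideal.IsMaximal.map_of_surjective_of_ker_le Ideal.Quotient.mk_surjective
      (by rw [Ideal.mk_ker]; exact hle)
  rw [← IsLocalRing.eq_maximalIdeal hmax]
  refine ⟨n, ?_⟩
  rw [← Ideal.map_pow, Ideal.map_quotient_self, Ideal.zero_eq_bot]

/-- flatness over a Noetherian Jacobson ring is tested on the infinitesimal neighbourhoods of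
the closed points -/
theorem jacobson_step {C S X : Type u} [CommRing C] [CommRing S] [Algebra C S]
    [IsNoetherianRing C] [IsJacobsonRing C] [Algebra.FiniteType C S]
    [AddCommGroup X] [Module C X] [Module S X] [IsScalarTower C S X] [Module.Finite S X]
    (h : ∀ (𝔪 : Ideal C) [𝔪.IsMaximal] (n : ℕ), 0 < n →
      Module.Flat (C ⧸ 𝔪 ^ n) ((C ⧸ 𝔪 ^ n) ⊗[C] X)) : Module.Flat C X := by
  haveI : IsNoetherianRing S := Algebra.FiniteType.isNoetherianRing C S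
  refine Module.flat_of_isLocalized_maximal S X (fun P _ => LocalizedModule P.primeCompl X)
    (fun P _ => LocalizedModule.mkLinearMap P.primeCompl X) ?_
  intro P hP
  haveI := isMaximal_comap_of_finiteType (C := C) P
  exact Groth.Agent.Lib.LocalCrit7.flat_localizedModule_of_forall_flat_quot_pow
    (P.comap (algebraMap C S)) (fun n hn => h _ n hn) P Ideal.map_comap_le

end Jac

section Unif

variable {A₁ B₁ : Type u} [CommRing A₁] [CommRing B₁] [Algebra A₁ B₁]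

/-- abstract pushout form of the Jacobson step -/
theorem jacobson_aux {C S : Type u} [CommRing C] [CommRing S] [Algebra A₁ C] [Algebra A₁ S]
    [Algebra C S] [Algebra B₁ S] [IsScalarTower A₁ C S] [IsScalarTower A₁ B₁ S]
    [Algebra.IsPushout A₁ C B₁ S] [IsNoetherianRing C] [IsJacobsonRing C] [Algebra.FiniteType C S]
    {Qk X : Type u} [AddCommGroup Qk] [Module B₁ Qk] [Module A₁ Qk] [IsScalarTower A₁ B₁ Qk]
    [Module.Finite B₁ Qk] [AddCommGroup X] [Module S X] [Module B₁ X] [IsScalarTower B₁ S X]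
    [Module C X] [IsScalarTower C S X] [Module A₁ X] [IsScalarTower A₁ C X] [IsScalarTower A₁ B₁ X]
    (f : Qk →ₗ[B₁] X) (hf : IsBaseChange S f)
    (hΛ : ∀ (𝔪 : Ideal C) [𝔪.IsMaximal] (n : ℕ), 0 < n →
      Module.Flat (C ⧸ 𝔪 ^ n) ((C ⧸ 𝔪 ^ n) ⊗[A₁] Qk)) : Module.Flat C (C ⊗[A₁] Qk) := by
  have hb : IsBaseChange C (f.restrictScalars A₁) :=
    Groth.Agent.Lib.ConsExactH8.isBaseChange_of_isPushout hf
  haveI : Module.Finite S X := Module.Finite.equiv hf.equiv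
  haveI : Module.Flat C X := by
    refine jacobson_step (S := S) fun 𝔪 _ n hn => ?_
    haveI := hΛ 𝔪 n hn
    have e1 : (C ⧸ 𝔪 ^ n) ⊗[C] X ≃ₗ[C ⧸ 𝔪 ^ n] (C ⧸ 𝔪 ^ n) ⊗[C] (C ⊗[A₁] Qk) :=
      LinearEquiv.baseChange C (C ⧸ 𝔪 ^ n) _ _ hb.equiv.symm
    have e2 : (C ⧸ 𝔪 ^ n) ⊗[C] (C ⊗[A₁] Qk) ≃ₗ[C ⧸ 𝔪 ^ n] (C ⧸ 𝔪 ^ n) ⊗[A₁] Qk :=
      AlgebraTensorModule.cancelBaseChange A₁ C (C ⧸ 𝔪 ^ n) (C ⧸ 𝔪 ^ n) Qk
    exact Module.Flat.of_linearEquiv (e1.trans e2)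
  exact Module.Flat.of_linearEquiv hb.equiv

attribute [local instance] Algebra.TensorProduct.rightAlgebra in
/-- uniformity passes from local rings with nilpotent maximal ideal to Noetherian Jacobson
rings -/
theorem jacobson_unif [Algebra.FiniteType A₁ B₁] (Q : ℕ → Type u) [∀ k, AddCommGroup (Q k)]
    [∀ k, Module B₁ (Q k)] [∀ k, Module A₁ (Q k)] [∀ k, IsScalarTower A₁ B₁ (Q k)]
    [∀ k, Module.Finite B₁ (Q k)] (N : ℕ)
    (hN : ∀ (C : Type u) [CommRing C] [Algebra A₁ C] [IsLocalRing C],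
      IsNilpotent (IsLocalRing.maximalIdeal C) →
      (∀ k ≤ N, Module.Flat C (C ⊗[A₁] Q k)) → ∀ k, Module.Flat C (C ⊗[A₁] Q k))
    (C : Type u) [CommRing C] [Algebra A₁ C] [IsNoetherianRing C] [IsJacobsonRing C]
    (hflat : ∀ k ≤ N, Module.Flat C (C ⊗[A₁] Q k)) (k : ℕ) : Module.Flat C (C ⊗[A₁] Q k) := by
  refine jacobson_aux (S := C ⊗[A₁] B₁) (X := (C ⊗[A₁] B₁) ⊗[B₁] Q k)
    (TensorProduct.mk B₁ (C ⊗[A₁] B₁) (Q k) 1) (TensorProduct.isBaseChange B₁ (Q k) (C ⊗[A₁] B₁))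
    ?_
  intro 𝔪 _ n hn
  haveI := isLocalRing_quot_pow 𝔪 n hn
  refine hN (C ⧸ 𝔪 ^ n) (isNilpotent_maximalIdeal_quot_pow 𝔪 n hn) (fun j hj => ?_) k
  haveI := hflat j hj
  exact Groth.Agent.Lib.LocalCrit8.flat_baseChange_of_algebra A₁ C (C ⧸ 𝔪 ^ n) (Q j)

/-- flatness passes to a larger subalgebra -/
theorem flat_of_subalgebra_le {C : Type u} [CommRing C] [Algebra A₁ C] {C' C'' : Subalgebra A₁ C}
    (h : C' ≤ C'') (X : Type u) [AddCommGroup X] [Module A₁ X]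
    [Module.Flat C' (C' ⊗[A₁] X)] : Module.Flat C'' (C'' ⊗[A₁] X) := by
  letI : Algebra C' C'' := (Subalgebra.inclusion h).toRingHom.toAlgebra
  haveI : IsScalarTower A₁ C' C'' := IsScalarTower.of_algebraMap_eq (fun x => rfl)
  exact Groth.Agent.Lib.LocalCrit8.flat_baseChange_of_algebra A₁ C' C'' X

/-- **Uniformity theorem.** -/
theorem unif [Algebra.FiniteType ℤ A₁] [Algebra.FiniteType A₁ B₁] (Q : ℕ → Type u)
    [∀ k, AddCommGroup (Q k)]
    [∀ k, Module B₁ (Q k)] [∀ k, Module A₁ (Q k)] [∀ k, IsScalarTower A₁ B₁ (Q k)]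
    [∀ k, Module.Finite B₁ (Q k)] (hQ : GenProj (A₁ := A₁) Q) :
    ∃ N : ℕ, ∀ (C : Type u) [CommRing C] [Algebra A₁ C],
      (∀ k ≤ N, Module.Flat C (C ⊗[A₁] Q k)) → ∀ k, Module.Flat C (C ⊗[A₁] Q k) := by
  haveI : IsNoetherianRing A₁ := Algebra.FiniteType.isNoetherianRing ℤ A₁
  obtain ⟨N, hN⟩ := local_unif Q hQ
  refine ⟨N, ?_⟩
  intro C _ _ hflat k
  have key : ∀ m : ℕ, m ≤ N + 1 → ∃ C' : Subalgebra A₁ C, C'.FG ∧
      ∀ j < m, Module.Flat C' (C' ⊗[A₁] Q j) := by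
    intro m
    induction m with
    | zero => exact fun _ => ⟨⊥, Subalgebra.fg_bot, fun j hj => absurd hj (Nat.not_lt_zero j)⟩
    | succ m ih =>
      intro hm
      obtain ⟨C', hC', hflat'⟩ := ih (Nat.le_of_succ_le hm)
      haveI := hflat m (Nat.le_of_succ_le_succ hm)
      obtain ⟨C₂, hC₂, hflat₂⟩ :=
        Groth.Agent.Lib.FlatDescH8.exists_fg_subalgebra_flat' (A₁ := A₁) (B₁ := B₁) (Q m) C
      refine ⟨C' ⊔ C₂, hC'.sup hC₂, fun j hj => ?_⟩
      rcases Nat.lt_succ_iff_lt_or_eq.mp hj with hj' | rfl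
      · haveI := hflat' j hj'
        exact flat_of_subalgebra_le (le_sup_left : C' ≤ C' ⊔ C₂) (Q j)
      · exact flat_of_subalgebra_le (le_sup_right : C₂ ≤ C' ⊔ C₂) (Q j)
  obtain ⟨C', hC', hflat'⟩ := key (N + 1) le_rfl
  haveI : Algebra.FiniteType A₁ C' := ⟨(Subalgebra.fg_top C').mpr hC'⟩
  haveI : Algebra.FiniteType ℤ C' := Algebra.FiniteType.trans (inferInstance : Algebra.FiniteType ℤ A₁)
    inferInstance
  haveI : IsNoetherianRing C' := Algebra.FiniteType.isNoetherianRing ℤ C'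
  haveI : IsJacobsonRing ℤ := Groth.Agent.FTIntH8.int_isJacobsonRing
  haveI : IsJacobsonRing C' := isJacobsonRing_of_finiteType (A := ℤ) (B := C')
  haveI := jacobson_unif (B₁ := B₁) Q N hN C' (fun j hj => hflat' j (Nat.lt_succ_of_le hj)) k
  exact Groth.Agent.Lib.LocalCrit8.flat_baseChange_of_algebra A₁ C' C (Q k)

end Unif

end Groth.Agent.Lib.GrUnifH8
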