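import Mathlib
import Groth.Agent.Lib.GrFlat3_helper8

/-!
# Uniformity for flatness of adic truncations, part 7: generic projectivity of the graded pieces
(helper8)

APPEND-ONLY once landed.
-/

set_option autoImplicit false
open TensorProduct

namespace Groth.Agent.Lib.GrUnifH8

universe u

open Groth.Agent.Lib.GrFlatH8

section Abs

/-- Generic projectivity for a family of retracts of a finite module over a finite type algebra. -/
theorem exists_projective_of_retract {R : Type u} [CommRing R] [IsDomain R] (S : Type u) [CommRing S]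
    [Algebra R S] [Algebra.FiniteType R S] {T : Type u} [AddCommGroup T] [Module S T] [Module R T]
    [IsScalarTower R S T] [Module.Finite S T] {X : ℕ → Type u} [∀ n, AddCommGroup (X n)]
    [∀ n, Module R (X n)]
    (ι : ∀ n, X n →ₗ[R] T) (π : ∀ n, T →ₗ[R] X n) (hπι : ∀ n x, π n (ι n x) = x) :
    ∃ a : R, a ≠ 0 ∧ ∀ (A : Type u) [CommRing A] [Algebra R A] (h : R)
      [IsLocalization.Away (a * h) A] (n : ℕ), Module.Projective A (A ⊗[R] X n) := by
  obtain ⟨a, ha, hG, -⟩ := GenFreeH8.main (R := R) (S := S) T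
  refine ⟨a, ha, ?_⟩
  intro A _ _ h _ n
  have hG' : GenFreeH8.GFW R T (a * h) := hG.mono h
  haveI : Module.Free A (A ⊗[R] T) := hG'.free (TensorProduct.mk R A T 1)
  have h2 : ((π n).baseChange A) ∘ₗ ((ι n).baseChange A) = LinearMap.id := by
    rw [← LinearMap.baseChange_comp]
    have : π n ∘ₗ ι n = LinearMap.id := LinearMap.ext (hπι n)
    rw [this, LinearMap.baseChange_id]
  exact Module.Projective.of_split _ _ h2

end Abs

section Conc

open Groth.Agent.Lib.NormFlatH3

/-- Generic projectivity of the graded pieces `J^n N / J^{n+1} N`. -/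
theorem exists_projective_X {R : Type u} [CommRing R] [IsDomain R] [IsNoetherianRing R]
    {B : Type u} [CommRing B] [Algebra R B] [Algebra.FiniteType R B] (J : Ideal B)
    (N : Type u) [AddCommGroup N] [Module B N] [Module R N] [IsScalarTower R B N]
    [Module.Finite B N] :
    ∃ a : R, a ≠ 0 ∧ ∀ (A : Type u) [CommRing A] [Algebra R A] (h : R)
      [IsLocalization.Away (a * h) A] (n : ℕ), Module.Projective A (A ⊗[R] X J N n) := by
  haveI : IsNoetherianRing B := Algebra.FiniteType.isNoetherianRing R B
  letI algRA : Algebra R (RA J) := ((algebraMap B (RA J)).comp (algebraMap R B)).toAlgebra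
  haveI : IsScalarTower R B (RA J) := IsScalarTower.of_algebraMap_eq fun _ => rfl
  haveI : Algebra.FiniteType B (RA J) := finiteType_RA J
  haveI : Algebra.FiniteType R (RA J) := Algebra.FiniteType.trans ‹_› ‹_›
  haveI : Algebra.FiniteType R (SS J) :=
    Algebra.FiniteType.of_surjective (Ideal.Quotient.mkₐ R (JJ J))
      (Ideal.Quotient.mkₐ_surjective R (JJ J))
  letI : Module R (TT J N) := Module.compHom (TT J N) (algebraMap R B)
  haveI : IsScalarTower R B (TT J N) := ⟨fun x y z => by
    change (x • y) • z = algebraMap R B x • (y • z)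
    rw [Algebra.smul_def, mul_smul]⟩
  haveI := towerTT'' J N
  haveI : IsScalarTower R (SS J) (TT J N) := by
    refine IsScalarTower.of_algebraMap_smul fun r t => ?_
    induction t using Submodule.Quotient.induction_on with
    | H y =>
      change (Ideal.Quotient.mk (JJ J) (algebraMap B (RA J) (algebraMap R B r))) •
        (Submodule.Quotient.mk y : TT J N) = algebraMap R B r • (Submodule.Quotient.mk y : TT J N)
      rw [Module.Quotient.mk_smul_mk, algebraMap_smul, Submodule.Quotient.mk_smul]
  haveI : Module.Finite (RA J) ↥(NN J N) := Module.Finite.iff_fg.2 (NN_fg J N)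
  haveI : Module.Finite (RA J) (TT J N) := inferInstance
  haveI : Module.Finite (SS J) (TT J N) :=
    Module.Finite.of_restrictScalars_finite (RA J) (SS J) (TT J N)
  exact exists_projective_of_retract (SS J) (T := TT J N) (X := X J N)
    (fun n => (ιA J N n).restrictScalars R) (fun n => (πA J N n).restrictScalars R)
    (fun n x => πA_ιA J N n x)

end Conc

section Aux

open Groth.Agent.Lib.NormFlatH3

variable {A₀ B₀ Ab Bb : Type u} [CommRing A₀] [CommRing B₀] [CommRing Ab] [CommRing Bb]
  [Algebra A₀ Ab] [Algebra A₀ B₀] [Algebra A₀ Bb] [Algebra Ab Bb] [Algebra B₀ Bb]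
  [IsScalarTower A₀ Ab Bb] [IsScalarTower A₀ B₀ Bb]
  {M₀ : Type u} [AddCommGroup M₀] [Module B₀ M₀] [Module A₀ M₀] [IsScalarTower A₀ B₀ M₀]
  {Nb : Type u} [AddCommGroup Nb] [Module Bb Nb] [Module B₀ Nb] [IsScalarTower B₀ Bb Nb]
  [Module Ab Nb] [IsScalarTower Ab Bb Nb] [Module A₀ Nb] [IsScalarTower A₀ Ab Nb]
  [IsScalarTower A₀ B₀ Nb]

/-- **Local lemma, abstract form, projective version.** -/
theorem local_aux_proj [IsDomain Ab] [IsNoetherianRing Ab] [Algebra.FiniteType Ab Bb]
    [Module.Finite Bb Nb] [Algebra.IsPushout A₀ Ab B₀ Bb]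
    (f : M₀ →ₗ[B₀] Nb) (hf : IsBaseChange Bb f) (J₀ : Ideal B₀) :
    ∃ a : Ab, a ≠ 0 ∧ ∀ (A : Type u) [CommRing A] [Algebra Ab A] [Algebra A₀ A]
      [IsScalarTower A₀ Ab A] (h : Ab) [IsLocalization.Away (a * h) A] (n : ℕ),
      Module.Projective A ↥(Submodule.map
            (LinearMap.range (LinearMap.baseChange A
              ((J₀ ^ (n + 1) • (⊤ : Submodule B₀ M₀)).restrictScalars A₀).subtype)).mkQ
            (LinearMap.range (LinearMap.baseChange A
              ((J₀ ^ n • (⊤ : Submodule B₀ M₀)).restrictScalars A₀).subtype))) := by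
  obtain ⟨a, ha, H⟩ := exists_projective_X (R := Ab) (B := Bb) (J₀.map (algebraMap B₀ Bb)) Nb
  refine ⟨a, ha, ?_⟩
  intro A _ _ _ _ h _ n
  haveI hflatX := H A h n
  haveI : Module.Flat Ab A := IsLocalization.flat A (Submonoid.powers (a * h))
  have hb : IsBaseChange Ab (f.restrictScalars A₀) :=
    Groth.Agent.Lib.ConsExactH8.isBaseChange_of_isPushout hf
  have hA := hb.comp (TensorProduct.isBaseChange Ab Nb A)
  set e : A ⊗[A₀] M₀ ≃ₗ[A] A ⊗[Ab] Nb := hA.equiv with he
  -- the key identification of the filtration steps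
  have key : ∀ k : ℕ, Submodule.map e.toLinearMap
      (LinearMap.range (LinearMap.baseChange A
        ((J₀ ^ k • (⊤ : Submodule B₀ M₀)).restrictScalars A₀).subtype)) =
      LinearMap.range (LinearMap.baseChange A
        ((P (J₀.map (algebraMap B₀ Bb)) Nb k).restrictScalars Ab).subtype) := by
    intro k
    rw [range_baseChange_subtype, range_baseChange_subtype, Submodule.map_span]
    have h1 : (P (J₀.map (algebraMap B₀ Bb)) Nb k).restrictScalars Ab =
        Submodule.span Ab ((f.restrictScalars A₀) '' ((J₀ ^ k • (⊤ : Submodule B₀ M₀) :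
          Submodule B₀ M₀) : Set M₀)) := by
      rw [← map_smul_top_eq_span (Bb := Bb) f hb (J₀ ^ k), Ideal.map_pow]
    rw [h1, span_mk_image_span, ← Set.image_comp, ← Set.image_comp]
    congr 1
    apply Set.image_congr
    intro m _
    simp only [Function.comp_apply, LinearEquiv.coe_coe, he]
    rw [TensorProduct.mk_apply, IsBaseChange.equiv_tmul, one_smul]
    rfl
  have e1 := subquotEquiv e
    (LinearMap.range (LinearMap.baseChange A
      ((J₀ ^ (n + 1) • (⊤ : Submodule B₀ M₀)).restrictScalars A₀).subtype))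
    (LinearMap.range (LinearMap.baseChange A
      ((J₀ ^ n • (⊤ : Submodule B₀ M₀)).restrictScalars A₀).subtype))
  rw [key (n + 1), key n] at e1
  have e2 := flatSubquotEquiv (A := A)
    ((P (J₀.map (algebraMap B₀ Bb)) Nb (n + 1)).restrictScalars Ab)
    ((P (J₀.map (algebraMap B₀ Bb)) Nb n).restrictScalars Ab)
  have e3 := (XEquiv (R := Ab) (B := Bb) (J₀.map (algebraMap B₀ Bb)) Nb n).baseChange Ab A
  exact Module.Projective.of_equiv ((e1.trans e2).trans e3.symm).symm

end Aux

end Groth.Agent.Lib.GrUnifH8
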