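import Mathlib
import Groth.Agent.Lib.GrUnif7_helper8
import Groth.Agent.Lib.GrUnif5_helper8

/-!
# Uniformity for flatness of adic truncations, part 8: generic projectivity of the truncations
(helper8)

APPEND-ONLY once landed.
-/

set_option autoImplicit false
open TensorProduct

namespace Groth.Agent.Lib.GrUnifH8

universe u

open Groth.Agent.Lib.GrFlatH8

section Filt

/-- an extension of projective modules is projective -/
theorem projective_of_exact {A : Type*} [CommRing A] {K E Q : Type*} [AddCommGroup K] [Module A K]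
    [AddCommGroup E] [Module A E] [AddCommGroup Q] [Module A Q] (f : K →ₗ[A] E) (g : E →ₗ[A] Q)
    (hf : Function.Injective f) (hfg : Function.Exact f g) (hg : Function.Surjective g)
    [Module.Projective A K] [Module.Projective A Q] : Module.Projective A E := by
  obtain ⟨s, hs⟩ := Module.projective_lifting_property g LinearMap.id hg
  have hs' : ∀ q, g (s q) = q := fun q => LinearMap.congr_fun hs q
  let φ : (K × Q) →ₗ[A] E := f.coprod s
  have hφ : Function.Bijective φ := by
    constructor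
    · rw [injective_iff_map_eq_zero]
      rintro ⟨k, q⟩ h
      have h1 : f k + s q = 0 := by simpa [φ] using h
      have h2 : q = 0 := by
        have := congrArg g h1
        rw [map_add, hs', map_zero, hfg.apply_apply_eq_zero, zero_add] at this
        exact this
      subst h2
      rw [map_zero, add_zero] at h1
      have h3 : k = 0 := hf (by rw [h1, map_zero])
      rw [h3]; rfl
    · intro e
      have h1 : g (e - s (g e)) = 0 := by rw [map_sub, hs', sub_self]
      obtain ⟨k, hk⟩ := (hfg (e - s (g e))).mp h1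
      refine ⟨(k, g e), ?_⟩
      show f k + s (g e) = e
      rw [hk]; abel
  exact Module.Projective.of_equiv (LinearEquiv.ofBijective φ hφ)

/-- a module with an exhaustive decreasing filtration with projective graded pieces has
projective truncations -/
theorem projective_quot_of_filtration {A : Type*} [CommRing A] {W : Type*} [AddCommGroup W]
    [Module A W] (F : ℕ → Submodule A W) (h0 : F 0 = ⊤) (hdec : ∀ n, F (n + 1) ≤ F n)
    (hgr : ∀ n, Module.Projective A ↥(Submodule.map (F (n + 1)).mkQ (F n))) :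
    ∀ k, Module.Projective A (W ⧸ F k) := by
  intro k
  induction k with
  | zero =>
    haveI : Subsingleton (W ⧸ F 0) := by
      rw [h0]; exact Submodule.Quotient.subsingleton_iff.mpr rfl
    infer_instance
  | succ k ih =>
    haveI := hgr k
    refine projective_of_exact (Submodule.map (F (k + 1)).mkQ (F k)).subtype
      (Submodule.factor (hdec k)) Subtype.val_injective ?_ (Submodule.factor_surjective (hdec k))
    intro y
    constructor
    · intro hy
      obtain ⟨w, rfl⟩ := Submodule.Quotient.mk_surjective _ y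
      have hw : w ∈ F k := by
        have : (F k).mkQ w = 0 := by
          have := hy
          rwa [← Submodule.mkQ_apply, Submodule.factor_mk] at this
        simpa using this
      exact ⟨⟨_, ⟨w, hw, rfl⟩⟩, rfl⟩
    · rintro ⟨⟨_, ⟨w, hw, rfl⟩⟩, rfl⟩
      show Submodule.factor (hdec k) ((F (k + 1)).mkQ w) = 0
      rw [Submodule.factor_mk]
      simpa using hw

end Filt

section Trunc

/-- the truncation `M / J^k M` -/
abbrev Qk {B : Type u} [CommRing B] (J : Ideal B) (M : Type u) [AddCommGroup M] [Module B M]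
    (k : ℕ) : Type u := M ⧸ (J ^ k • (⊤ : Submodule B M))

/-- right exactness: the quotient of a base change by the image of a submodule -/
noncomputable def quotRangeEquiv {R : Type*} [CommRing R] (A : Type*) [CommRing A] [Algebra R A]
    {V : Type*} [AddCommGroup V] [Module R V] (P : Submodule R V) :
    ((A ⊗[R] V) ⧸ LinearMap.range (LinearMap.baseChange A P.subtype)) ≃ₗ[A] A ⊗[R] (V ⧸ P) :=
  (Submodule.quotEquivOfEq _ _ (ker_baseChange_mkQ (A := A) P).symm).trans
    ((LinearMap.baseChange A P.mkQ).quotKerEquivOfSurjective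
      (baseChange_surjective _ P.mkQ_surjective))

variable {A₀ B₀ : Type u} [CommRing A₀] [CommRing B₀] [Algebra A₀ B₀] (J₀ : Ideal B₀)
  (M₀ : Type u) [AddCommGroup M₀] [Module B₀ M₀] [Module A₀ M₀] [IsScalarTower A₀ B₀ M₀]

/-- the truncation in the form of the statements versus the base change of `M₀ / J₀^k M₀` -/
noncomputable def PkEquiv (A : Type u) [CommRing A] [Algebra A₀ A] (k : ℕ) :
    ((A ⊗[A₀] M₀) ⧸ LinearMap.range (LinearMap.baseChange A
      ((J₀ ^ k • (⊤ : Submodule B₀ M₀)).restrictScalars A₀).subtype)) ≃ₗ[A]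
      A ⊗[A₀] Qk J₀ M₀ k :=
  (quotRangeEquiv A ((J₀ ^ k • (⊤ : Submodule B₀ M₀)).restrictScalars A₀)).trans
    (LinearEquiv.baseChange A₀ A _ _
      (Submodule.Quotient.restrictScalarsEquiv A₀ (J₀ ^ k • (⊤ : Submodule B₀ M₀))))

theorem range_zero (A : Type u) [CommRing A] [Algebra A₀ A] :
    LinearMap.range (LinearMap.baseChange A
      ((J₀ ^ 0 • (⊤ : Submodule B₀ M₀)).restrictScalars A₀).subtype) = ⊤ := by
  rw [LinearMap.range_eq_top]
  refine baseChange_surjective _ ?_
  intro m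
  refine ⟨⟨m, ?_⟩, rfl⟩
  rw [Submodule.restrictScalars_mem, pow_zero, Ideal.one_eq_top, Submodule.top_smul]
  exact Submodule.mem_top

theorem range_succ_le (A : Type u) [CommRing A] [Algebra A₀ A] (k : ℕ) :
    LinearMap.range (LinearMap.baseChange A
      ((J₀ ^ (k + 1) • (⊤ : Submodule B₀ M₀)).restrictScalars A₀).subtype) ≤
    LinearMap.range (LinearMap.baseChange A
      ((J₀ ^ k • (⊤ : Submodule B₀ M₀)).restrictScalars A₀).subtype) := by
  rw [range_baseChange_subtype, range_baseChange_subtype]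
  refine Submodule.span_mono (Set.image_mono ?_)
  intro m hm
  have hm' : m ∈ J₀ ^ (k + 1) • (⊤ : Submodule B₀ M₀) := hm
  show m ∈ J₀ ^ k • (⊤ : Submodule B₀ M₀)
  exact Submodule.smul_mono_left (Ideal.pow_le_pow_right (Nat.le_succ k)) hm'

end Trunc

section Aux

variable {A₀ B₀ Ab Bb : Type u} [CommRing A₀] [CommRing B₀] [CommRing Ab] [CommRing Bb]
  [Algebra A₀ Ab] [Algebra A₀ B₀] [Algebra A₀ Bb] [Algebra Ab Bb] [Algebra B₀ Bb]
  [IsScalarTower A₀ Ab Bb] [IsScalarTower A₀ B₀ Bb]
  {M₀ : Type u} [AddCommGroup M₀] [Module B₀ M₀] [Module A₀ M₀] [IsScalarTower A₀ B₀ M₀]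
  {Nb : Type u} [AddCommGroup Nb] [Module Bb Nb] [Module B₀ Nb] [IsScalarTower B₀ Bb Nb]
  [Module Ab Nb] [IsScalarTower Ab Bb Nb] [Module A₀ Nb] [IsScalarTower A₀ Ab Nb]
  [IsScalarTower A₀ B₀ Nb]

/-- generic projectivity of the truncations, abstract form -/
theorem proj_trunc_aux [IsDomain Ab] [IsNoetherianRing Ab] [Algebra.FiniteType Ab Bb]
    [Module.Finite Bb Nb] [Algebra.IsPushout A₀ Ab B₀ Bb]
    (f : M₀ →ₗ[B₀] Nb) (hf : IsBaseChange Bb f) (J₀ : Ideal B₀) :
    ∃ a : Ab, a ≠ 0 ∧ ∀ (A : Type u) [CommRing A] [Algebra Ab A] [Algebra A₀ A]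
      [IsScalarTower A₀ Ab A] (h : Ab) [IsLocalization.Away (a * h) A] (k : ℕ),
      Module.Projective A (A ⊗[A₀] Qk J₀ M₀ k) := by
  obtain ⟨a, ha, H⟩ := local_aux_proj (A₀ := A₀) (Ab := Ab) (Bb := Bb) f hf J₀
  refine ⟨a, ha, ?_⟩
  intro A _ _ _ _ h _ k
  haveI := projective_quot_of_filtration
    (fun k => LinearMap.range (LinearMap.baseChange A
      ((J₀ ^ k • (⊤ : Submodule B₀ M₀)).restrictScalars A₀).subtype))
    (range_zero J₀ M₀ A) (range_succ_le J₀ M₀ A) (fun n => H A h n) k
  exact Module.Projective.of_equiv (PkEquiv J₀ M₀ A k)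

end Aux

section Conc

attribute [local instance] Algebra.TensorProduct.rightAlgebra

/-- generic projectivity of the truncations over a Noetherian domain `Ab` over `A₀` -/
theorem proj_trunc {A₀ : Type u} [CommRing A₀] {B₀ : Type u} [CommRing B₀]
    [Algebra A₀ B₀] [Algebra.FiniteType A₀ B₀] (J₀ : Ideal B₀) (M₀ : Type u) [AddCommGroup M₀]
    [Module B₀ M₀] [Module A₀ M₀] [IsScalarTower A₀ B₀ M₀] [Module.Finite B₀ M₀]
    (Ab : Type u) [CommRing Ab] [IsDomain Ab] [IsNoetherianRing Ab] [Algebra A₀ Ab] :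
    ∃ a : Ab, a ≠ 0 ∧ ∀ (A : Type u) [CommRing A] [Algebra Ab A] [Algebra A₀ A]
      [IsScalarTower A₀ Ab A] (h : Ab) [IsLocalization.Away (a * h) A] (k : ℕ),
      Module.Projective A (A ⊗[A₀] Qk J₀ M₀ k) :=
  proj_trunc_aux (Ab := Ab) (Bb := Ab ⊗[A₀] B₀)
    (Nb := (Ab ⊗[A₀] B₀) ⊗[B₀] M₀)
    (TensorProduct.mk B₀ (Ab ⊗[A₀] B₀) M₀ 1)
    (TensorProduct.isBaseChange B₀ M₀ (Ab ⊗[A₀] B₀)) J₀

end Conc

section Gen

/-- **Generic projectivity of the truncations** `M₁ / J₁^k M₁`, uniformly in `k`. -/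
theorem genProj_Qk {A₁ B₁ : Type u} [CommRing A₁] [IsNoetherianRing A₁] [CommRing B₁]
    [Algebra A₁ B₁] [Algebra.FiniteType A₁ B₁] (J₁ : Ideal B₁) (M₁ : Type u) [AddCommGroup M₁]
    [Module B₁ M₁] [Module A₁ M₁] [IsScalarTower A₁ B₁ M₁] [Module.Finite B₁ M₁] :
    GenProj (A₁ := A₁) (fun k => Qk J₁ M₁ k) := by
  intro 𝔭 h𝔭
  haveI := h𝔭
  obtain ⟨a, ha, H⟩ := proj_trunc (A₀ := A₁) J₁ M₁ (A₁ ⧸ 𝔭)
  obtain ⟨h, rfl⟩ := Ideal.Quotient.mk_surjective a
  have hh : h ∉ 𝔭 := fun hmem => ha (Ideal.Quotient.eq_zero_iff_mem.mpr hmem)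
  refine ⟨h, hh, fun k => ?_⟩
  have hsub : Algebra.algebraMapSubmonoid (A₁ ⧸ 𝔭) (Submonoid.powers h) =
      Submonoid.powers (Ideal.Quotient.mk 𝔭 h * 1) := by
    rw [mul_one]
    exact Submonoid.map_powers _ h
  haveI : IsLocalization.Away (Ideal.Quotient.mk 𝔭 h * 1)
      (Localization.Away h ⧸ 𝔭.map (algebraMap A₁ (Localization.Away h))) := by
    have : IsLocalization (Algebra.algebraMapSubmonoid (A₁ ⧸ 𝔭) (Submonoid.powers h))
      (Localization.Away h ⧸ 𝔭.map (algebraMap A₁ (Localization.Away h))) := inferInstance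
    rw [hsub] at this
    exact this
  exact H (Localization.Away h ⧸ 𝔭.map (algebraMap A₁ (Localization.Away h))) 1 k

end Gen

end Groth.Agent.Lib.GrUnifH8
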