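import Mathlib
import Groth.Agent.Lib.GrUnif6_helper8
import Groth.Agent.Lib.GrUnif8_helper8
import Groth.Agent.Lib.GrUnif9_helper8

/-!
# Uniformity for flatness of adic truncations, part 10: the general uniformity theorem (helper8)

APPEND-ONLY once landed.
-/

set_option autoImplicit false
open TensorProduct

namespace Groth.Agent.Lib.GrUnifH8

universe u

open Groth.Agent.Lib.GrFlatH8

section Base

variable {A₀ B₀ Ab Bb : Type u} [CommRing A₀] [CommRing B₀] [CommRing Ab] [CommRing Bb]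
  [Algebra A₀ Ab] [Algebra A₀ B₀] [Algebra A₀ Bb] [Algebra Ab Bb] [Algebra B₀ Bb]
  [IsScalarTower A₀ Ab Bb] [IsScalarTower A₀ B₀ Bb]
  {M₀ : Type u} [AddCommGroup M₀] [Module B₀ M₀] [Module A₀ M₀] [IsScalarTower A₀ B₀ M₀]
  {Nb : Type u} [AddCommGroup Nb] [Module Bb Nb] [Module B₀ Nb] [IsScalarTower B₀ Bb Nb]
  [Module Ab Nb] [IsScalarTower Ab Bb Nb] [Module A₀ Nb] [IsScalarTower A₀ Ab Nb]
  [IsScalarTower A₀ B₀ Nb]

/-- base change of the truncations along a pushout square -/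
theorem exists_QkBaseEquiv [Algebra.IsPushout A₀ Ab B₀ Bb]
    (f : M₀ →ₗ[B₀] Nb) (hf : IsBaseChange Bb f) (J₀ : Ideal B₀) (k : ℕ) :
    Nonempty (Ab ⊗[A₀] Qk J₀ M₀ k ≃ₗ[Ab] Qk (J₀.map (algebraMap B₀ Bb)) Nb k) := by
  have hb : IsBaseChange Ab (f.restrictScalars A₀) :=
    Groth.Agent.Lib.ConsExactH8.isBaseChange_of_isPushout hf
  set e : Ab ⊗[A₀] M₀ ≃ₗ[Ab] Nb := hb.equiv with he
  have key : Submodule.map e.toLinearMap
      (LinearMap.range (LinearMap.baseChange Ab
        ((J₀ ^ k • (⊤ : Submodule B₀ M₀)).restrictScalars A₀).subtype)) =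
      (((J₀.map (algebraMap B₀ Bb)) ^ k • (⊤ : Submodule Bb Nb)).restrictScalars Ab) := by
    rw [range_baseChange_subtype, Submodule.map_span, ← Ideal.map_pow,
      map_smul_top_eq_span (Bb := Bb) f hb (J₀ ^ k), ← Set.image_comp]
    congr 1
    apply Set.image_congr
    intro m _
    simp only [Function.comp_apply, LinearEquiv.coe_coe, he]
    rw [TensorProduct.mk_apply, IsBaseChange.equiv_tmul, one_smul]
  exact ⟨((PkEquiv J₀ M₀ Ab k).symm.trans (Submodule.Quotient.equiv _ _ e key)).trans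
    (Submodule.Quotient.restrictScalarsEquiv Ab
      ((J₀.map (algebraMap B₀ Bb)) ^ k • (⊤ : Submodule Bb Nb)))⟩

end Base

section Main

/-- **Uniformity theorem** over a finitely generated `ℤ`-algebra. -/
theorem unif_Qk {A₁ B₁ : Type u} [CommRing A₁] [CommRing B₁] [Algebra A₁ B₁]
    [Algebra.FiniteType ℤ A₁] [Algebra.FiniteType A₁ B₁] (J₁ : Ideal B₁) (M₁ : Type u)
    [AddCommGroup M₁] [Module B₁ M₁] [Module A₁ M₁] [IsScalarTower A₁ B₁ M₁]
    [Module.Finite B₁ M₁] :
    ∃ N : ℕ, ∀ (C : Type u) [CommRing C] [Algebra A₁ C],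
      (∀ k ≤ N, Module.Flat C (C ⊗[A₁] Qk J₁ M₁ k)) → ∀ k, Module.Flat C (C ⊗[A₁] Qk J₁ M₁ k) := by
  haveI : IsNoetherianRing A₁ := Algebra.FiniteType.isNoetherianRing ℤ A₁
  exact unif (B₁ := B₁) (fun k => Qk J₁ M₁ k) (genProj_Qk J₁ M₁)

/-- **General uniformity theorem**: for a finitely presented algebra `B` over any ring `A`, a
finitely generated ideal `J` of `B` and a finitely presented `B`-module `M` there is `N` such
that, over any `A`-algebra `C`, flatness of the truncations `C ⊗ M/J^k M` for `k ≤ N` implies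
flatness for all `k`. -/
theorem unif_general {A B : Type u} [CommRing A] [CommRing B] [Algebra A B]
    [Algebra.FinitePresentation A B] (J : Ideal B) (hJ : J.FG) (M : Type u)
    [AddCommGroup M] [Module B M] [Module A M] [IsScalarTower A B M]
    [Module.FinitePresentation B M] :
    ∃ N : ℕ, ∀ (C : Type u) [CommRing C] [Algebra A C],
      (∀ k ≤ N, Module.Flat C (C ⊗[A] Qk J M k)) → ∀ k, Module.Flat C (C ⊗[A] Qk J M k) := by
  obtain ⟨r, β₀, hβ₀⟩ := Submodule.fg_iff_exists_fin_generating_family.mp hJ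
  obtain ⟨A₁, _, _, _, _, B₁, _, _, _, _, M₁, _, _, _, _, f, β, hft, -, hfp, hfin, hpush, hbc, hβ⟩ :=
    exists_model_elts A B M β₀
  letI : Module A₁ M₁ := Module.compHom M₁ (algebraMap A₁ B₁)
  haveI : IsScalarTower A₁ B₁ M₁ :=
    ⟨fun a x y => by
      show (a • x) • y = algebraMap A₁ B₁ a • (x • y)
      rw [Algebra.smul_def, mul_smul]⟩
  letI : Module A₁ M := Module.compHom M (algebraMap A₁ A)
  have hsm : ∀ (a : A₁) (y : M), a • y = algebraMap A₁ A a • y := fun _ _ => rfl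
  haveI : IsScalarTower A₁ A M := IsScalarTower.of_algebraMap_smul fun a y => (hsm a y).symm
  haveI : IsScalarTower A₁ B M := IsScalarTower.of_algebraMap_smul fun a y => by
    rw [IsScalarTower.algebraMap_apply A₁ A B, algebraMap_smul, hsm]
  haveI : IsScalarTower A₁ B₁ M := IsScalarTower.of_algebraMap_smul fun a y => by
    rw [← algebraMap_smul B (algebraMap A₁ B₁ a) y, ← IsScalarTower.algebraMap_apply A₁ B₁ B,
      IsScalarTower.algebraMap_apply A₁ A B, algebraMap_smul, hsm]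
  set J₁ : Ideal B₁ := Ideal.span (Set.range β) with hJ₁
  have hJmap : J₁.map (algebraMap B₁ B) = J := by
    rw [hJ₁, Ideal.map_span, ← Set.range_comp, ← hβ₀]
    congr 1
    ext x
    simp only [Set.mem_range, Function.comp_apply, hβ]
  haveI : Algebra.FiniteType A₁ B₁ := inferInstance
  obtain ⟨N, hN⟩ := unif_Qk (A₁ := A₁) J₁ M₁
  refine ⟨N, ?_⟩
  intro C _ _ hflat k
  letI : Algebra A₁ C := ((algebraMap A C).comp (algebraMap A₁ A)).toAlgebra
  haveI : IsScalarTower A₁ A C := IsScalarTower.of_algebraMap_eq (fun x => rfl)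
  have E : ∀ j, Nonempty (C ⊗[A₁] Qk J₁ M₁ j ≃ₗ[C] C ⊗[A] Qk J M j) := by
    intro j
    obtain ⟨e0⟩ := exists_QkBaseEquiv (A₀ := A₁) (Ab := A) (B₀ := B₁) (Bb := B) f hbc J₁ j
    rw [hJmap] at e0
    exact ⟨(AlgebraTensorModule.cancelBaseChange A₁ A C C (Qk J₁ M₁ j)).symm.trans
      (LinearEquiv.baseChange A C _ _ e0)⟩
  obtain ⟨ek⟩ := E k
  haveI := hN C (fun j hj => by
    obtain ⟨ej⟩ := E j
    haveI := hflat j hj
    exact Module.Flat.of_linearEquiv ej) k
  exact Module.Flat.of_linearEquiv ek.symm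

end Main

end Groth.Agent.Lib.GrUnifH8
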