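import Mathlib
import Groth.Agent.Lib.GrUnif10_helper8
import Groth.Agent.Lib.FlatDesc11_helper8

/-!
# Uniformity for flatness of adic truncations, part 11: descent along directed colimits (helper8)

APPEND-ONLY once landed.
-/

set_option autoImplicit false
open TensorProduct

namespace Groth.Agent.Lib.GrUnifH8

universe u

section Desc

theorem finitePresentation_Qk {B : Type u} [CommRing B] (J : Ideal B) (hJ : J.FG) (M : Type u)
    [AddCommGroup M] [Module B M] [Module.FinitePresentation B M] (k : ℕ) :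
    Module.FinitePresentation B (Qk J M k) := by
  refine Module.finitePresentation_of_surjective (J ^ k • (⊤ : Submodule B M)).mkQ
    (Submodule.mkQ_surjective _) ?_
  rw [Submodule.ker_mkQ]
  exact Submodule.FG.smul (Ideal.FG.pow hJ) Module.Finite.fg_top

variable {A₀ B₀ : Type u} [CommRing A₀] [CommRing B₀] [Algebra A₀ B₀] (J₀ : Ideal B₀)
  (M₀ : Type u) [AddCommGroup M₀] [Module B₀ M₀] [Module A₀ M₀] [IsScalarTower A₀ B₀ M₀]

theorem flat_Pk_iff (C : Type u) [CommRing C] [Algebra A₀ C] (k : ℕ) :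
    Module.Flat C ((C ⊗[A₀] M₀) ⧸ LinearMap.range (LinearMap.baseChange C
      ((J₀ ^ k • (⊤ : Submodule B₀ M₀)).restrictScalars A₀).subtype)) ↔
    Module.Flat C (C ⊗[A₀] Qk J₀ M₀ k) :=
  ⟨fun _ => Module.Flat.of_linearEquiv (PkEquiv J₀ M₀ C k).symm,
   fun _ => Module.Flat.of_linearEquiv (PkEquiv J₀ M₀ C k)⟩

/-- **Descent of flatness of all truncations along a directed colimit of rings.** -/
theorem exists_stage_flat_Qk [Algebra.FinitePresentation A₀ B₀] (hJ₀ : J₀.FG)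
    [Module.FinitePresentation B₀ M₀]
    {ι : Type u} [Preorder ι] [IsDirected ι (· ≤ ·)] [Nonempty ι]
    (G : ι → Type u) [∀ i, CommRing (G i)] [∀ i, Algebra A₀ (G i)]
    (g : ∀ i j, i ≤ j → G i →ₐ[A₀] G j)
    (A : Type u) [CommRing A] [Algebra A₀ A] [∀ i, Algebra (G i) A]
    [∀ i, IsScalarTower A₀ (G i) A]
    (hcomp : ∀ i j k (hij : i ≤ j) (hjk : j ≤ k),
      (g j k hjk).toRingHom.comp (g i j hij).toRingHom = (g i k (hij.trans hjk)).toRingHom)
    (hcompat : ∀ i j (h : i ≤ j),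
      (algebraMap (G j) A).comp (g i j h).toRingHom = algebraMap (G i) A)
    (hsurj : ∀ a : A, ∃ i, ∃ x : G i, algebraMap (G i) A x = a)
    (hker : ∀ i (x : G i), algebraMap (G i) A x = 0 → ∃ j, ∃ h : i ≤ j,
      (g i j h).toRingHom x = 0)
    (hflat : ∀ k, Module.Flat A (A ⊗[A₀] Qk J₀ M₀ k)) :
    ∃ i : ι, ∀ k, Module.Flat (G i) (G i ⊗[A₀] Qk J₀ M₀ k) := by
  obtain ⟨N, hN⟩ := unif_general (A := A₀) J₀ hJ₀ M₀
  have hstage : ∀ k, ∃ i : ι, Module.Flat (G i) (G i ⊗[A₀] Qk J₀ M₀ k) := by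
    intro k
    haveI := finitePresentation_Qk J₀ hJ₀ M₀ k
    haveI := hflat k
    exact Groth.Agent.Lib.FlatDescH8.exists_stage_flat G g A hcomp hcompat hsurj hker
      (B₀ := B₀) (Qk J₀ M₀ k)
  have hmono : ∀ (i j : ι) (h : i ≤ j) (k : ℕ), Module.Flat (G i) (G i ⊗[A₀] Qk J₀ M₀ k) →
      Module.Flat (G j) (G j ⊗[A₀] Qk J₀ M₀ k) := by
    intro i j h k hf
    letI : Algebra (G i) (G j) := (g i j h).toRingHom.toAlgebra
    haveI : IsScalarTower A₀ (G i) (G j) :=
      IsScalarTower.of_algebraMap_eq (fun x => ((g i j h).commutes x).symm)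
    exact Groth.Agent.Lib.LocalCrit8.flat_baseChange_of_algebra A₀ (G i) (G j) (Qk J₀ M₀ k)
  have hfin : ∀ m : ℕ, ∃ i : ι, ∀ k < m, Module.Flat (G i) (G i ⊗[A₀] Qk J₀ M₀ k) := by
    intro m
    induction m with
    | zero => exact ⟨Classical.arbitrary ι, fun k hk => absurd hk (Nat.not_lt_zero k)⟩
    | succ m ih =>
      obtain ⟨i, hi⟩ := ih
      obtain ⟨i', hi'⟩ := hstage m
      obtain ⟨j, hij, hi'j⟩ := exists_ge_ge i i'
      refine ⟨j, fun k hk => ?_⟩
      rcases Nat.lt_succ_iff_lt_or_eq.mp hk with hk' | rfl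
      · exact hmono i j hij k (hi k hk')
      · exact hmono i' j hi'j k hi'
  obtain ⟨i, hi⟩ := hfin (N + 1)
  exact ⟨i, hN (G i) (fun k hk => hi k (Nat.lt_succ_of_le hk))⟩

end Desc

end Groth.Agent.Lib.GrUnifH8
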