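import Mathlib
import Groth.Agent.Lib.GrUnif11_helper8
import Groth.Agent.Lib.LocalCrit6_helper9
import Groth.Agent.Lib.GenFreeG_helper8

/-!
# Uniformity for flatness of adic truncations, part 12: flatness along `V(J)` (helper8)

APPEND-ONLY once landed.
-/

set_option autoImplicit false
open TensorProduct

namespace Groth.Agent.Lib.GrUnifH8

universe u

section Noeth

/-- **Noetherian case**: if all truncations `M/J^k M` are `A`-flat then `M` is `A`-flat at every
prime containing `J`. -/
theorem flat_localized_of_flat_Qk {A B : Type u} [CommRing A] [CommRing B] [Algebra A B]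
    [IsNoetherianRing B] (J : Ideal B) (M : Type u) [AddCommGroup M] [Module B M] [Module A M]
    [IsScalarTower A B M] [Module.Finite B M]
    (h : ∀ k, Module.Flat A (Qk J M k)) (q : Ideal B) [q.IsPrime] (hq : J ≤ q) :
    Module.Flat A (LocalizedModule q.primeCompl M) := by
  haveI : IsNoetherianRing (Localization.AtPrime q) :=
    IsLocalization.isNoetherianRing q.primeCompl _ inferInstance
  have hI : J.map (algebraMap B (Localization.AtPrime q)) ≤ Ideal.jacobson ⊥ := by
    rw [IsLocalRing.jacobson_eq_maximalIdeal ⊥ bot_ne_top, Ideal.map_le_iff_le_comap]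
    have := IsLocalization.AtPrime.under_maximalIdeal (Localization.AtPrime q) q
    rw [Ideal.under_def] at this
    rw [this]
    exact hq
  refine Groth.Agent.Lib.LocalCrit6.flat_of_forall_flat_quot_pow_jac (A := A)
    (B := Localization.AtPrime q) (J.map (algebraMap B (Localization.AtPrime q))) hI
    (LocalizedModule q.primeCompl M) (fun n => ?_)
  have hloc : (J ^ (n + 1) • (⊤ : Submodule B M)).localized' (Localization.AtPrime q) q.primeCompl
      (LocalizedModule.mkLinearMap q.primeCompl M) =
      (J.map (algebraMap B (Localization.AtPrime q))) ^ (n + 1) •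
        (⊤ : Submodule (Localization.AtPrime q) (LocalizedModule q.primeCompl M)) := by
    rw [Submodule.localized'_smul, Submodule.localized'_top, Ideal.localized'_eq_map,
      Ideal.map_pow]
  rw [← hloc]
  haveI := h (n + 1)
  exact GenFreeH8.flat_of_isLocalizedModule_algebra (R := A) (B := B) q.primeCompl
    ((J ^ (n + 1) • (⊤ : Submodule B M)).toLocalizedQuotient' (Localization.AtPrime q) q.primeCompl
      (LocalizedModule.mkLinearMap q.primeCompl M))

end Noeth

section Push

/-- flatness at a prime passes along a pushout square of rings -/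
theorem flat_localized_of_pushout {A' A B' B : Type u} [CommRing A'] [CommRing A] [CommRing B']
    [CommRing B] [Algebra A' A] [Algebra A' B'] [Algebra A' B] [Algebra A B] [Algebra B' B]
    [IsScalarTower A' A B] [IsScalarTower A' B' B] [Algebra.IsPushout A' A B' B]
    {M' M : Type u} [AddCommGroup M'] [Module B' M'] [Module A' M'] [IsScalarTower A' B' M']
    [AddCommGroup M] [Module B M] [Module B' M] [IsScalarTower B' B M] [Module A M]
    [IsScalarTower A B M]
    (φ : M' →ₗ[B'] M) (hφ : IsBaseChange B φ) (q : Ideal B) [q.IsPrime]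
    [Module.Flat A' (LocalizedModule (q.comap (algebraMap B' B)).primeCompl M')] :
    Module.Flat A (LocalizedModule q.primeCompl M) := by
  obtain ⟨q', hq'⟩ : ∃ q' : Ideal B', q' = q.comap (algebraMap B' B) := ⟨_, rfl⟩
  haveI : q'.IsPrime := hq' ▸ Ideal.comap_isPrime _ _
  haveI : Module.Flat A' (LocalizedModule q'.primeCompl M') := by
    subst hq'; infer_instance
  set ℓ' := LocalizedModule.mkLinearMap q'.primeCompl M' with hℓ'
  haveI hPflat : Module.Flat A (B ⊗[B'] LocalizedModule q'.primeCompl M') :=
    Module.Flat.of_linearEquiv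
      (Algebra.IsPushout.cancelBaseChange A' A B' B (LocalizedModule q'.primeCompl M'))
  let ΦB : M →ₗ[B] B ⊗[B'] LocalizedModule q'.primeCompl M' :=
    (ℓ'.baseChange B) ∘ₗ hφ.equiv.symm.toLinearMap
  have hΦ : ΦB.restrictScalars B' =
      (((TensorProduct.comm B' (LocalizedModule q'.primeCompl M') B).toLinearMap ∘ₗ
        (AlgebraTensorModule.rTensor B' B ℓ')) ∘ₗ
        (TensorProduct.comm B' B M').toLinearMap) ∘ₗ
        (hφ.equiv.symm.restrictScalars B').toLinearMap := by
    apply LinearMap.ext
    intro m
    show (ℓ'.baseChange B) (hφ.equiv.symm m) = _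
    simp only [LinearMap.coe_comp, LinearEquiv.coe_coe, Function.comp_apply,
      LinearEquiv.restrictScalars_apply]
    induction hφ.equiv.symm m using TensorProduct.induction_on with
    | zero => simp
    | tmul b m' => simp
    | add x y hx hy => simp only [map_add, hx, hy]
  haveI h1 : IsLocalizedModule q'.primeCompl (ΦB.restrictScalars B') := by
    rw [hΦ]
    infer_instance
  haveI h2 : IsLocalizedModule (Algebra.algebraMapSubmonoid B q'.primeCompl) ΦB :=
    IsLocalizedModule.of_restrictScalars q'.primeCompl ΦB
  have hT : Algebra.algebraMapSubmonoid B q'.primeCompl ≤ q.primeCompl := by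
    rintro _ ⟨y, hy, rfl⟩
    intro hmem
    exact hy (by rw [hq']; exact hmem)
  exact GenFreeH8.flat_of_isLocalizedModule_algebra (R := A) (B := B) q.primeCompl
    (IsLocalizedModule.liftOfLE (Algebra.algebraMapSubmonoid B q'.primeCompl) q.primeCompl hT ΦB
      (LocalizedModule.mkLinearMap q.primeCompl M))

end Push

end Groth.Agent.Lib.GrUnifH8
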