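import Mathlib
import Groth.Agent.Lib.GrUnif12_helper8

/-!
# Uniformity for flatness of adic truncations, part 13: flatness along `V(J)`, general case
(helper8)

APPEND-ONLY once landed.
-/

set_option autoImplicit false
open TensorProduct

namespace Groth.Agent.Lib.GrUnifH8

universe u

section Sub

variable {A₁ B₁ : Type u} [CommRing A₁] [CommRing B₁] [Algebra A₁ B₁]

/-- **Uniformity theorem, subalgebra form**: simultaneous flatness of the whole family descends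
to a finitely generated subalgebra. -/
theorem unif_subalgebra [Algebra.FiniteType ℤ A₁] [Algebra.FiniteType A₁ B₁] (Q : ℕ → Type u)
    [∀ k, AddCommGroup (Q k)]
    [∀ k, Module B₁ (Q k)] [∀ k, Module A₁ (Q k)] [∀ k, IsScalarTower A₁ B₁ (Q k)]
    [∀ k, Module.Finite B₁ (Q k)] (hQ : GenProj (A₁ := A₁) Q)
    (C : Type u) [CommRing C] [Algebra A₁ C] (hflat : ∀ k, Module.Flat C (C ⊗[A₁] Q k)) :
    ∃ C' : Subalgebra A₁ C, C'.FG ∧ ∀ k, Module.Flat C' (C' ⊗[A₁] Q k) := by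
  haveI : IsNoetherianRing A₁ := Algebra.FiniteType.isNoetherianRing ℤ A₁
  obtain ⟨N, hN⟩ := local_unif Q hQ
  have key : ∀ m : ℕ, ∃ C' : Subalgebra A₁ C, C'.FG ∧
      ∀ j < m, Module.Flat C' (C' ⊗[A₁] Q j) := by
    intro m
    induction m with
    | zero => exact ⟨⊥, Subalgebra.fg_bot, fun j hj => absurd hj (Nat.not_lt_zero j)⟩
    | succ m ih =>
      obtain ⟨C', hC', hflat'⟩ := ih
      haveI := hflat m
      obtain ⟨C₂, hC₂, hflat₂⟩ :=
        Groth.Agent.Lib.FlatDescH8.exists_fg_subalgebra_flat' (A₁ := A₁) (B₁ := B₁) (Q m) C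
      refine ⟨C' ⊔ C₂, hC'.sup hC₂, fun j hj => ?_⟩
      rcases Nat.lt_succ_iff_lt_or_eq.mp hj with hj' | rfl
      · haveI := hflat' j hj'
        exact flat_of_subalgebra_le (le_sup_left : C' ≤ C' ⊔ C₂) (Q j)
      · exact flat_of_subalgebra_le (le_sup_right : C₂ ≤ C' ⊔ C₂) (Q j)
  obtain ⟨C', hC', hflat'⟩ := key (N + 1)
  refine ⟨C', hC', ?_⟩
  haveI : Algebra.FiniteType A₁ C' := ⟨(Subalgebra.fg_top C').mpr hC'⟩
  haveI : Algebra.FiniteType ℤ C' := Algebra.FiniteType.trans (inferInstance : Algebra.FiniteType ℤ A₁)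
    inferInstance
  haveI : IsNoetherianRing C' := Algebra.FiniteType.isNoetherianRing ℤ C'
  haveI : IsJacobsonRing ℤ := Groth.Agent.FTIntH8.int_isJacobsonRing
  haveI : IsJacobsonRing C' := isJacobsonRing_of_finiteType (A := ℤ) (B := C')
  exact jacobson_unif (B₁ := B₁) Q N hN C' (fun j hj => hflat' j (Nat.lt_succ_of_le hj))

end Sub

section Model

attribute [local instance] Algebra.TensorProduct.rightAlgebra

/-- flatness along `V(J)` from a Noetherian model over which all truncations are flat -/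
theorem flat_localized_of_model {A₁ A B₁ B : Type u} [CommRing A₁] [CommRing A] [CommRing B₁]
    [CommRing B] [Algebra A₁ A] [Algebra A₁ B₁] [Algebra A B] [Algebra B₁ B] [Algebra A₁ B]
    [IsScalarTower A₁ A B] [IsScalarTower A₁ B₁ B] [Algebra.IsPushout A₁ A B₁ B]
    [Algebra.FiniteType A₁ B₁]
    {M₁ M : Type u} [AddCommGroup M₁] [Module B₁ M₁] [Module A₁ M₁] [IsScalarTower A₁ B₁ M₁]
    [Module.Finite B₁ M₁]
    [AddCommGroup M] [Module B M] [Module B₁ M] [IsScalarTower B₁ B M] [Module A M]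
    [IsScalarTower A B M]
    {f₁ : M₁ →ₗ[B₁] M} (hf₁ : IsBaseChange B f₁) (J₁ : Ideal B₁)
    (A' : Type u) [CommRing A'] [Algebra A₁ A'] [Algebra A' A] [IsScalarTower A₁ A' A]
    [IsNoetherianRing A']
    (hflat : ∀ k, Module.Flat A' (A' ⊗[A₁] Qk J₁ M₁ k))
    (q : Ideal B) [q.IsPrime] (hq : J₁.map (algebraMap B₁ B) ≤ q) :
    Module.Flat A (LocalizedModule q.primeCompl M) := by
  letI algA'B : Algebra A' B := ((algebraMap A B).comp (algebraMap A' A)).toAlgebra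
  haveI tw1 : IsScalarTower A' A B := IsScalarTower.of_algebraMap_eq (fun _ => rfl)
  haveI tw2 : IsScalarTower A₁ A' B := IsScalarTower.of_algebraMap_eq (fun x => by
    show algebraMap A₁ B x = algebraMap A B (algebraMap A' A (algebraMap A₁ A' x))
    rw [← IsScalarTower.algebraMap_apply A₁ A' A, ← IsScalarTower.algebraMap_apply A₁ A B])
  obtain ⟨ψ, hψ⟩ : ∃ ψ : A' ⊗[A₁] B₁ →ₐ[A'] B, ∀ (a : A') (b : B₁),
      ψ (a ⊗ₜ b) = algebraMap A' B a * algebraMap B₁ B b :=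
    ⟨Algebra.TensorProduct.lift (Algebra.ofId A' B) (IsScalarTower.toAlgHom A₁ B₁ B)
      (fun _ _ => Commute.all _ _), fun a b => rfl⟩
  letI algB'B : Algebra (A' ⊗[A₁] B₁) B := ψ.toRingHom.toAlgebra
  have halg : ∀ x, algebraMap (A' ⊗[A₁] B₁) B x = ψ x := fun x => rfl
  haveI tw3 : IsScalarTower A' (A' ⊗[A₁] B₁) B := IsScalarTower.of_algebraMap_eq
    (fun x => (ψ.commutes x).symm)
  haveI tw4 : IsScalarTower A₁ (A' ⊗[A₁] B₁) B := IsScalarTower.of_algebraMap_eq (fun x => by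
    rw [halg]
    show algebraMap A₁ B x = ψ (algebraMap A₁ A' x ⊗ₜ 1)
    rw [hψ, map_one, mul_one, ← IsScalarTower.algebraMap_apply A₁ A' B])
  haveI tw5 : IsScalarTower B₁ (A' ⊗[A₁] B₁) B := IsScalarTower.of_algebraMap_eq (fun x => by
    rw [halg]
    show algebraMap B₁ B x = ψ (1 ⊗ₜ x)
    rw [hψ, map_one, one_mul])
  haveI push : Algebra.IsPushout A' A (A' ⊗[A₁] B₁) B :=
    (Algebra.IsPushout.comp_iff A₁ A' B₁ (S' := A' ⊗[A₁] B₁) (T := A) (T' := B)).mp inferInstance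
  letI modB'M : Module (A' ⊗[A₁] B₁) M := Module.compHom M (algebraMap (A' ⊗[A₁] B₁) B)
  haveI tw6 : IsScalarTower (A' ⊗[A₁] B₁) B M :=
    ⟨fun x y z => by
      show (algebraMap (A' ⊗[A₁] B₁) B x * y) • z = algebraMap (A' ⊗[A₁] B₁) B x • (y • z)
      rw [mul_smul]⟩
  haveI tw7 : IsScalarTower B₁ (A' ⊗[A₁] B₁) M :=
    ⟨fun x y z => by
      show algebraMap (A' ⊗[A₁] B₁) B (x • y) • z = x • (algebraMap (A' ⊗[A₁] B₁) B y • z)
      rw [Algebra.smul_def, map_mul, mul_smul, ← IsScalarTower.algebraMap_apply B₁ (A' ⊗[A₁] B₁) B,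
        algebraMap_smul]⟩
  obtain ⟨f, hf⟩ : ∃ f : (A' ⊗[A₁] B₁) ⊗[B₁] M₁ →ₗ[A' ⊗[A₁] B₁] M,
      (f.restrictScalars B₁).comp (TensorProduct.mk B₁ (A' ⊗[A₁] B₁) M₁ 1) = f₁ :=
    ⟨(TensorProduct.isBaseChange B₁ M₁ (A' ⊗[A₁] B₁)).lift f₁,
      (TensorProduct.isBaseChange B₁ M₁ (A' ⊗[A₁] B₁)).lift_comp f₁⟩
  have hbc : IsBaseChange B f := by
    refine IsBaseChange.of_comp (TensorProduct.isBaseChange B₁ M₁ (A' ⊗[A₁] B₁)) ?_
    rw [hf]
    exact hf₁
  -- the Noetherian situation over `A'`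
  haveI : IsNoetherianRing (A' ⊗[A₁] B₁) :=
    Algebra.FiniteType.isNoetherianRing A' (A' ⊗[A₁] B₁)
  have hflat' : ∀ k, Module.Flat A'
      (Qk (J₁.map (algebraMap B₁ (A' ⊗[A₁] B₁))) ((A' ⊗[A₁] B₁) ⊗[B₁] M₁) k) := by
    intro k
    obtain ⟨e⟩ := exists_QkBaseEquiv (A₀ := A₁) (Ab := A') (B₀ := B₁) (Bb := A' ⊗[A₁] B₁)
      (TensorProduct.mk B₁ (A' ⊗[A₁] B₁) M₁ 1) (TensorProduct.isBaseChange B₁ M₁ (A' ⊗[A₁] B₁)) J₁ k
    haveI := hflat k
    exact Module.Flat.of_linearEquiv e.symm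
  have hq' : J₁.map (algebraMap B₁ (A' ⊗[A₁] B₁)) ≤ q.comap (algebraMap (A' ⊗[A₁] B₁) B) := by
    rw [← Ideal.map_le_iff_le_comap, Ideal.map_map, ← IsScalarTower.algebraMap_eq]
    exact hq
  haveI := flat_localized_of_flat_Qk (A := A') (B := A' ⊗[A₁] B₁)
    (J₁.map (algebraMap B₁ (A' ⊗[A₁] B₁))) ((A' ⊗[A₁] B₁) ⊗[B₁] M₁) hflat'
    (q.comap (algebraMap (A' ⊗[A₁] B₁) B)) hq'
  exact flat_localized_of_pushout (A' := A') (A := A) (B' := A' ⊗[A₁] B₁) (B := B) f hbc q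

end Model

end Groth.Agent.Lib.GrUnifH8
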