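import Mathlib
import Groth.Agent.Lib.GrUnif13_helper8

/-!
# Uniformity for flatness of adic truncations, part 14: flatness along `V(J)` from flatness of
the associated graded module (helper8)

APPEND-ONLY once landed.
-/

set_option autoImplicit false
open TensorProduct

namespace Groth.Agent.Lib.GrUnifH8

universe u

section Gen

/-- **Flatness along `V(J)`**: for `B` finitely presented over `A`, `J` finitely generated and
`M` finitely presented, if all truncations `M/J^k M` are `A`-flat then `M` is `A`-flat at every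
prime containing `J`. -/
theorem flat_localized_general {A B : Type u} [CommRing A] [CommRing B] [Algebra A B]
    [Algebra.FinitePresentation A B] (J : Ideal B) (hJ : J.FG) (M : Type u)
    [AddCommGroup M] [Module B M] [Module A M] [IsScalarTower A B M]
    [Module.FinitePresentation B M]
    (h : ∀ k, Module.Flat A (Qk J M k)) (q : Ideal B) [q.IsPrime] (hq : J ≤ q) :
    Module.Flat A (LocalizedModule q.primeCompl M) := by
  obtain ⟨r, β₀, hβ₀⟩ := Submodule.fg_iff_exists_fin_generating_family.mp hJ
  obtain ⟨A₁, _, _, _, _, B₁, _, _, _, _, M₁, _, _, _, _, f, β, hft, -, hfp, hfin, hpush, hbc, hβ⟩ :=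
    exists_model_elts A B M β₀
  letI : Module A₁ M₁ := Module.compHom M₁ (algebraMap A₁ B₁)
  haveI : IsScalarTower A₁ B₁ M₁ :=
    ⟨fun a x y => by
      show (a • x) • y = algebraMap A₁ B₁ a • (x • y)
      rw [Algebra.smul_def, mul_smul]⟩
  letI : Module A₁ M := Module.compHom M (algebraMap A₁ A)
  have hsm : ∀ (a : A₁) (y : M), a • y = algebraMap A₁ A a • y := fun _ _ => rfl
  haveI : IsScalarTower A₁ A M := IsScalarTower.of_algebraMap_smul fun a y => (hsm a y).symm
  haveI : IsScalarTower A₁ B M := IsScalarTower.of_algebraMap_smul fun a y => by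
    rw [IsScalarTower.algebraMap_apply A₁ A B, algebraMap_smul, hsm]
  haveI : IsScalarTower A₁ B₁ M := IsScalarTower.of_algebraMap_smul fun a y => by
    rw [← algebraMap_smul B (algebraMap A₁ B₁ a) y, ← IsScalarTower.algebraMap_apply A₁ B₁ B,
      IsScalarTower.algebraMap_apply A₁ A B, algebraMap_smul, hsm]
  set J₁ : Ideal B₁ := Ideal.span (Set.range β) with hJ₁
  have hJmap : J₁.map (algebraMap B₁ B) = J := by
    rw [hJ₁, Ideal.map_span, ← Set.range_comp, ← hβ₀]
    congr 1
    ext x
    simp only [Set.mem_range, Function.comp_apply, hβ]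
  haveI : Algebra.FiniteType A₁ B₁ := inferInstance
  haveI : IsNoetherianRing A₁ := Algebra.FiniteType.isNoetherianRing ℤ A₁
  have hflatA : ∀ j, Module.Flat A (A ⊗[A₁] Qk J₁ M₁ j) := by
    intro j
    obtain ⟨e0⟩ := exists_QkBaseEquiv (A₀ := A₁) (Ab := A) (B₀ := B₁) (Bb := B) f hbc J₁ j
    rw [hJmap] at e0
    haveI := h j
    exact Module.Flat.of_linearEquiv e0
  obtain ⟨A', hA', hflat'⟩ := unif_subalgebra (A₁ := A₁) (B₁ := B₁) (fun k => Qk J₁ M₁ k)
    (genProj_Qk J₁ M₁) A hflatA
  haveI : Algebra.FiniteType A₁ A' := ⟨(Subalgebra.fg_top A').mpr hA'⟩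
  haveI : IsNoetherianRing A' := Algebra.FiniteType.isNoetherianRing A₁ A'
  exact flat_localized_of_model (A₁ := A₁) (A := A) (B₁ := B₁) (B := B) hbc J₁ A' hflat' q
    (hJmap ▸ hq)

end Gen

section Gr

open Groth.Agent.Lib.GrFlatH8

variable {A B : Type u} [CommRing A] [CommRing B] [Algebra A B] (J : Ideal B)
  (M : Type u) [AddCommGroup M] [Module B M] [Module A M] [IsScalarTower A B M]

theorem comap_subtype_pow_succ (k : ℕ) :
    Submodule.comap (J ^ k • (⊤ : Submodule B M)).subtype (J ^ (k + 1) • ⊤) =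
      (J • ⊤ : Submodule B ↥(J ^ k • (⊤ : Submodule B M))) := by
  ext x
  rw [Submodule.mem_comap]
  exact (mem_smul_top_P J M k x).symm

/-- flatness of the graded pieces (in the form of the statements) gives flatness of the
truncations -/
theorem flat_Qk_of_gr
    (hgr : ∀ k : ℕ, Module.Flat A
      (↥(J ^ k • (⊤ : Submodule B M)) ⧸
        Submodule.comap (J ^ k • (⊤ : Submodule B M)).subtype (J ^ (k + 1) • ⊤))) :
    ∀ k, Module.Flat A (Qk J M k) := by
  refine Groth.Agent.Lib.LocalCrit6.flat_quot_of_gr J M (fun n => ?_)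
  haveI := hgr n
  exact Module.Flat.of_linearEquiv
    ((Submodule.quotEquivOfEq _ _ (comap_subtype_pow_succ J M n)).restrictScalars A).symm

end Gr

end Groth.Agent.Lib.GrUnifH8
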