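import Mathlib
import Groth.Agent.Lib.GrUnif14_helper8

/-!
# Normal flatness, part 1: base change of the graded pieces `J^k M / J^{k+1} M` (helper8)

APPEND-ONLY once landed.
-/

set_option autoImplicit false
open TensorProduct

namespace Groth.Agent.Lib.GrNFH8

universe u

open Groth.Agent.Lib.NormFlatH3 Groth.Agent.Lib.GrFlatH8 Groth.Agent.Lib.GrUnifH8

section BC

variable {R S : Type u} [CommRing R] [CommRing S] [Algebra R S]
  {M' : Type u} [AddCommGroup M'] [Module R M']
  {M : Type u} [AddCommGroup M] [Module S M] [Module R M] [IsScalarTower R S M]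
  (f : M' →ₗ[R] M) (I : Ideal R)

theorem map_mem_P (k : ℕ) (x : M') (hx : x ∈ P I M' k) :
    f x ∈ P (I.map (algebraMap R S)) M k := by
  have h1 : P I M' k ≤ Submodule.comap f ((P (I.map (algebraMap R S)) M k).restrictScalars R) := by
    rw [Submodule.smul_le]
    intro r hr n _
    rw [Submodule.mem_comap, map_smul, Submodule.restrictScalars_mem, ← algebraMap_smul S r (f n)]
    refine Submodule.smul_mem_smul ?_ Submodule.mem_top
    rw [← Ideal.map_pow]
    exact Ideal.mem_map_of_mem _ hr
  exact h1 hx

/-- the restriction of `f` to the pieces `I^k M' → (IS)^k M` -/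
noncomputable def fP (k : ℕ) : ↥(P I M' k) →ₗ[R] ↥(P (I.map (algebraMap R S)) M k) where
  toFun x := ⟨f x.1, map_mem_P f I k x.1 x.2⟩
  map_add' x y := by
    apply Subtype.ext
    simp
  map_smul' r x := by
    apply Subtype.ext
    simp

@[simp] theorem fP_coe (k : ℕ) (x : ↥(P I M' k)) : ((fP f I k x : ↥(P (I.map (algebraMap R S)) M k)) : M) = f x.1 := rfl

theorem P_map_eq_span (hf : IsBaseChange S f) (k : ℕ) :
    P (I.map (algebraMap R S)) M k = Submodule.span S (f '' (P I M' k : Set M')) := by
  have hf' : IsBaseChange S (f.restrictScalars R) := hf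
  have h := map_smul_top_eq_span (A₀ := R) (Ab := S) (B₀ := R) (Bb := S) (M₀ := M') (Nb := M)
    f hf' (I ^ k)
  rw [Ideal.map_pow] at h
  ext x
  have := congrArg (fun N : Submodule S M => x ∈ N) h
  simpa using this

theorem isBaseChange_fP (hf : IsBaseChange S f) (k : ℕ)
    (hinj : Function.Injective (LinearMap.baseChange S (P I M' k).subtype)) :
    IsBaseChange S (fP (S := S) f I k) := by
  set ψ : S ⊗[R] ↥(P I M' k) →ₗ[S] M :=
    hf.equiv.toLinearMap ∘ₗ LinearMap.baseChange S (P I M' k).subtype with hψdef
  have hψ : ∀ (s : S) (x : ↥(P I M' k)), ψ (s ⊗ₜ x) = s • f x.1 := by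
    intro s x
    simp [hψdef, IsBaseChange.equiv_tmul]
  have hψinj : Function.Injective ψ := hf.equiv.injective.comp hinj
  have hrange : LinearMap.range ψ = P (I.map (algebraMap R S)) M k := by
    rw [hψdef, LinearMap.range_comp, range_baseChange_subtype, Submodule.map_span,
      P_map_eq_span f I hf k, ← Set.image_comp]
    congr 1
    apply Set.image_congr
    intro m _
    simp only [Function.comp_apply, LinearEquiv.coe_coe]
    rw [TensorProduct.mk_apply, IsBaseChange.equiv_tmul, one_smul]
  let φ : S ⊗[R] ↥(P I M' k) →ₗ[S] ↥(P (I.map (algebraMap R S)) M k) :=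
    LinearMap.codRestrict _ ψ (fun x => hrange ▸ LinearMap.mem_range_self ψ x)
  have hφinj : Function.Injective φ := by
    intro x y hxy
    apply hψinj
    have h1 : ((φ x : ↥(P (I.map (algebraMap R S)) M k)) : M) = (φ y : ↥(P (I.map (algebraMap R S)) M k)) :=
      congrArg Subtype.val hxy
    exact h1
  have hφsurj : Function.Surjective φ := by
    rintro ⟨y, hy⟩
    rw [← hrange] at hy
    obtain ⟨x, rfl⟩ := hy
    exact ⟨x, rfl⟩
  refine IsBaseChange.of_equiv (LinearEquiv.ofBijective φ ⟨hφinj, hφsurj⟩) (fun x => ?_)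
  apply Subtype.ext
  show ψ (1 ⊗ₜ x) = f x.1
  rw [hψ, one_smul]

/-- the induced map on the graded pieces -/
noncomputable def gX (k : ℕ) : X I M' k →ₗ[R] X (I.map (algebraMap R S)) M k :=
  (I • ⊤ : Submodule R ↥(P I M' k)).liftQ
    (((I.map (algebraMap R S) • ⊤ :
      Submodule S ↥(P (I.map (algebraMap R S)) M k)).mkQ.restrictScalars R) ∘ₗ fP (S := S) f I k)
    (by
      intro x hx
      rw [mem_smul_top_P] at hx
      rw [LinearMap.mem_ker, LinearMap.comp_apply, LinearMap.restrictScalars_apply,
        Submodule.mkQ_apply, Submodule.Quotient.mk_eq_zero, mem_smul_top_P]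
      exact map_mem_P f I (k + 1) x.1 hx)

theorem gX_mk (k : ℕ) (x : ↥(P I M' k)) :
    gX (S := S) f I k (Submodule.Quotient.mk x) = Submodule.Quotient.mk (fP (S := S) f I k x) := rfl

theorem P_succ_le {R₀ : Type u} [CommRing R₀] (I₀ : Ideal R₀) (N : Type u) [AddCommGroup N]
    [Module R₀ N] (k : ℕ) : P I₀ N (k + 1) ≤ P I₀ N k :=
  Submodule.smul_mono_left (Ideal.pow_le_pow_right (Nat.le_succ k))

theorem exact_inclusion_mkQ {R₀ : Type u} [CommRing R₀] (I₀ : Ideal R₀) (N : Type u)
    [AddCommGroup N] [Module R₀ N] (k : ℕ) :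
    Function.Exact (Submodule.inclusion (P_succ_le I₀ N k))
      (I₀ • ⊤ : Submodule R₀ ↥(P I₀ N k)).mkQ := by
  intro y
  rw [Submodule.mkQ_apply, Submodule.Quotient.mk_eq_zero, mem_smul_top_P]
  constructor
  · intro hy
    exact ⟨⟨y.1, hy⟩, Subtype.ext rfl⟩
  · rintro ⟨x, rfl⟩
    exact x.2

theorem isBaseChange_gX (k : ℕ) (h0 : IsBaseChange S (fP (S := S) f I k))
    (h1 : IsBaseChange S (fP (S := S) f I (k + 1))) :
    IsBaseChange S (gX (S := S) f I k) := by
  refine IsBaseChange.of_right_exact S (fP (S := S) f I (k + 1)) (fP (S := S) f I k)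
    (gX (S := S) f I k)
    (f := Submodule.inclusion (P_succ_le I M' k))
    (g := (I • ⊤ : Submodule R ↥(P I M' k)).mkQ)
    (f' := Submodule.inclusion (P_succ_le (I.map (algebraMap R S)) M k))
    (g' := (I.map (algebraMap R S) • ⊤ : Submodule S ↥(P (I.map (algebraMap R S)) M k)).mkQ)
    ?_ ?_ h1 h0 (exact_inclusion_mkQ I M' k) (Submodule.mkQ_surjective _)
    (exact_inclusion_mkQ (I.map (algebraMap R S)) M k) (Submodule.mkQ_surjective _)
  · ext x
    rfl
  · ext x
    rfl

end BC

section Push

variable {A' A B' B : Type u} [CommRing A'] [CommRing A] [CommRing B'] [CommRing B]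
  [Algebra A' A] [Algebra A' B'] [Algebra A B] [Algebra B' B] [Algebra A' B]
  [IsScalarTower A' A B] [IsScalarTower A' B' B]

/-- in a pushout square, base change along `B' → B` of an injection whose cokernel is flat over
`A'` stays injective -/
theorem baseChange_injective_of_flat_coker [Algebra.IsPushout A' A B' B]
    {N' M' Q' : Type u} [AddCommGroup N']
    [AddCommGroup M'] [AddCommGroup Q']
    [Module B' N'] [Module A' N'] [IsScalarTower A' B' N']
    [Module B' M'] [Module A' M'] [IsScalarTower A' B' M']
    [Module B' Q'] [Module A' Q'] [IsScalarTower A' B' Q'] [Module.Flat A' Q']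
    (u : N' →ₗ[B'] M') (v : M' →ₗ[B'] Q') (hu : Function.Injective u)
    (hv : Function.Surjective v) (hex : Function.Exact u v) :
    Function.Injective (LinearMap.baseChange B u) := by
  have h1 : Function.Injective ((u.restrictScalars A').lTensor A) :=
    LinearMap.lTensor_injective_of_exact_of_flat (v.restrictScalars A') hv
      (u.restrictScalars A') hu hex A
  have hcomm : ∀ y : A ⊗[A'] N',
      LinearMap.baseChange B u ((Algebra.IsPushout.cancelBaseChange A' A B' B N').symm y) =
        (Algebra.IsPushout.cancelBaseChange A' A B' B M').symm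
          ((u.restrictScalars A').lTensor A y) := by
    intro y
    induction y using TensorProduct.induction_on with
    | zero => simp
    | add x y hx hy => simp only [map_add, hx, hy]
    | tmul a n =>
      rw [Algebra.IsPushout.cancelBaseChange_symm_tmul, LinearMap.baseChange_tmul,
        LinearMap.lTensor_tmul, Algebra.IsPushout.cancelBaseChange_symm_tmul]
      rfl
  intro x y hxy
  obtain ⟨x, rfl⟩ := (Algebra.IsPushout.cancelBaseChange A' A B' B N').symm.surjective x
  obtain ⟨y, rfl⟩ := (Algebra.IsPushout.cancelBaseChange A' A B' B N').symm.surjective y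
  rw [hcomm, hcomm] at hxy
  rw [h1 ((Algebra.IsPushout.cancelBaseChange A' A B' B M').symm.injective hxy)]

/-- **Base change of the graded pieces**: in a pushout square, if all truncations `M'/J'^k M'`
are flat over `A'` then `J^k M / J^{k+1} M` is the base change of `J'^k M' / J'^{k+1} M'`. -/
theorem isBaseChange_gX_of_flat [Algebra.IsPushout A' A B' B]
    {M' : Type u} [AddCommGroup M'] [Module B' M'] [Module A' M'] [IsScalarTower A' B' M']
    {M : Type u} [AddCommGroup M] [Module B M] [Module B' M] [IsScalarTower B' B M]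
    (f : M' →ₗ[B'] M) (hf : IsBaseChange B f) (J' : Ideal B')
    (hflat : ∀ k, Module.Flat A' (Qk J' M' k)) (k : ℕ) :
    IsBaseChange B (gX (S := B) f J' k) := by
  have hP : ∀ j, IsBaseChange B (fP (S := B) f J' j) := by
    intro j
    haveI := hflat j
    refine isBaseChange_fP f J' hf j ?_
    exact baseChange_injective_of_flat_coker (A' := A') (A := A) (P J' M' j).subtype (P J' M' j).mkQ
      (Submodule.subtype_injective _) (Submodule.mkQ_surjective _)
      (LinearMap.exact_subtype_mkQ _)
  exact isBaseChange_gX f J' k (hP k) (hP (k + 1))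

end Push

end Groth.Agent.Lib.GrNFH8
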