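import Mathlib
import Groth.Agent.Lib.GrNF1_helper8

/-!
# Normal flatness, part 2: uniformity for the graded pieces (helper8)

APPEND-ONLY once landed.
-/

set_option autoImplicit false
open TensorProduct

namespace Groth.Agent.Lib.GrNFH8

universe u

open Groth.Agent.Lib.NormFlatH3 Groth.Agent.Lib.GrFlatH8 Groth.Agent.Lib.GrUnifH8

section Unif

/-- generic projectivity of the graded pieces `J'^k M' / J'^{k+1} M'` over the base `B'` -/
theorem genProj_X {B' : Type u} [CommRing B'] [IsNoetherianRing B'] (J' : Ideal B') (M' : Type u)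
    [AddCommGroup M'] [Module B' M'] [Module.Finite B' M'] :
    GenProj (A₁ := B') (fun k => X J' M' k) := by
  haveI : Algebra.FiniteType B' (RA J') := finiteType_RA J'
  haveI : Module.Finite (RA J') ↥(NN J' M') := Module.Finite.iff_fg.2 (NN_fg J' M')
  haveI : Module.Finite (RA J') (TT J' M') := inferInstance
  have h0 := genProj_Qk (A₁ := B') (B₁ := RA J') (⊥ : Ideal (RA J')) (TT J' M')
  intro 𝔭 h𝔭
  obtain ⟨h, hh, H⟩ := h0 𝔭 h𝔭
  refine ⟨h, hh, fun k => ?_⟩
  haveI := H 1
  have hbot : ((⊥ : Ideal (RA J')) ^ 1 • (⊤ : Submodule (RA J') (TT J' M'))) = ⊥ := by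
    rw [pow_one, Submodule.bot_smul]
  let e : Qk (⊥ : Ideal (RA J')) (TT J' M') 1 ≃ₗ[B'] TT J' M' :=
    (Submodule.quotEquivOfEqBot _ hbot).restrictScalars B'
  let ι : X J' M' k →ₗ[B'] Qk (⊥ : Ideal (RA J')) (TT J' M') 1 :=
    e.symm.toLinearMap ∘ₗ ιA J' M' k
  let π : Qk (⊥ : Ideal (RA J')) (TT J' M') 1 →ₗ[B'] X J' M' k :=
    πA J' M' k ∘ₗ e.toLinearMap
  have hπι : π ∘ₗ ι = LinearMap.id := by
    ext x
    simp only [π, ι, LinearMap.comp_apply, LinearEquiv.coe_coe, LinearEquiv.apply_symm_apply]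
    exact πA_ιA J' M' k _
  have h2 : (π.baseChange (Localization.Away h ⧸ 𝔭.map (algebraMap B' (Localization.Away h)))) ∘ₗ
      (ι.baseChange (Localization.Away h ⧸ 𝔭.map (algebraMap B' (Localization.Away h)))) =
      LinearMap.id := by
    rw [← LinearMap.baseChange_comp, hπι, LinearMap.baseChange_id]
  exact Module.Projective.of_split _ _ h2

/-- **Uniformity for the graded pieces** over a finitely generated `ℤ`-algebra `B'`. -/
theorem unif_X {B' : Type u} [CommRing B'] [Algebra.FiniteType ℤ B'] (J' : Ideal B') (M' : Type u)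
    [AddCommGroup M'] [Module B' M'] [Module.Finite B' M'] :
    ∃ N : ℕ, ∀ (C : Type u) [CommRing C] [Algebra B' C],
      (∀ k ≤ N, Module.Flat C (C ⊗[B'] X J' M' k)) → ∀ k, Module.Flat C (C ⊗[B'] X J' M' k) := by
  haveI : IsNoetherianRing B' := Algebra.FiniteType.isNoetherianRing ℤ B'
  exact unif (A₁ := B') (B₁ := B') (fun k => X J' M' k) (genProj_X J' M')

end Unif

end Groth.Agent.Lib.GrNFH8
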