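import Mathlib
import Groth.Agent.Lib.GrNF2_helper8

/-!
# Normal flatness, part 3: the local condition (helper8)

APPEND-ONLY once landed.
-/

set_option autoImplicit false
open TensorProduct

namespace Groth.Agent.Lib.GrNFH8

universe u

section Loc

variable {B : Type u} [CommRing B] (J : Ideal B) (Y : Type u) [AddCommGroup Y] [Module B Y]

theorem algebraMapSubmonoid_primeCompl (qb : Ideal (B ⧸ J)) [qb.IsPrime] :
    Algebra.algebraMapSubmonoid (B ⧸ J) (qb.comap (Ideal.Quotient.mk J)).primeCompl =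
      qb.primeCompl := by
  ext x
  constructor
  · rintro ⟨b, hb, rfl⟩
    exact hb
  · intro hx
    obtain ⟨b, rfl⟩ := Ideal.Quotient.mk_surjective x
    exact ⟨b, hx, rfl⟩

/-- the local condition of normal flatness at a prime `q ⊇ J` in terms of the local ring of
`B/J` at `q/J` -/
theorem flat_loc_iff (qb : Ideal (B ⧸ J)) [qb.IsPrime] :
    Module.Flat (B ⧸ J) ((B ⧸ J) ⊗[B]
      LocalizedModule (qb.comap (Ideal.Quotient.mk J)).primeCompl Y) ↔
    Module.Flat (Localization.AtPrime qb) (Localization.AtPrime qb ⊗[B] Y) := by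
  haveI : IsLocalization (Algebra.algebraMapSubmonoid (B ⧸ J)
      (qb.comap (Ideal.Quotient.mk J)).primeCompl) (Localization.AtPrime qb) := by
    rw [algebraMapSubmonoid_primeCompl]
    infer_instance
  let q : Ideal B := qb.comap (Ideal.Quotient.mk J)
  haveI : q.IsPrime := inferInstanceAs ((qb.comap (Ideal.Quotient.mk J)).IsPrime)
  let e₁ : ((B ⧸ J) ⊗[B] Localization q.primeCompl) ≃ₐ[B ⧸ J] Localization.AtPrime qb :=
    IsLocalization.algEquiv (Algebra.algebraMapSubmonoid (B ⧸ J) q.primeCompl) _ _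
  let i1 : LocalizedModule q.primeCompl Y ≃ₗ[B] Localization q.primeCompl ⊗[B] Y :=
    (LocalizedModule.equivTensorProduct q.primeCompl Y).restrictScalars B
  let E : ((B ⧸ J) ⊗[B] LocalizedModule q.primeCompl Y) ≃ₗ[B ⧸ J]
      Localization.AtPrime qb ⊗[B] Y :=
    (AlgebraTensorModule.congr (LinearEquiv.refl (B ⧸ J) (B ⧸ J)) i1).trans
      ((AlgebraTensorModule.assoc B B (B ⧸ J) (B ⧸ J) (Localization q.primeCompl) Y).symm.trans
        (AlgebraTensorModule.congr e₁.toLinearEquiv (LinearEquiv.refl B Y)))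
  rw [Module.flat_iff_of_isLocalization (Localization.AtPrime qb) qb.primeCompl
    (Localization.AtPrime qb ⊗[B] Y)]
  exact ⟨fun _ => Module.Flat.of_linearEquiv E.symm, fun _ => Module.Flat.of_linearEquiv E⟩

end Loc

end Groth.Agent.Lib.GrNFH8
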