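import Mathlib
import Groth.Agent.Lib.GrNF3_helper8

/-!
# Normal flatness, part 4: openness of the normal flatness locus, model form (helper8)

APPEND-ONLY once landed.
-/

set_option autoImplicit false
open TensorProduct

namespace Groth.Agent.Lib.GrNFH8

universe u

open Groth.Agent.Lib.NormFlatH3 Groth.Agent.Lib.GrFlatH8 Groth.Agent.Lib.GrUnifH8

section Pt

variable {B' B : Type u} [CommRing B'] [CommRing B] [Algebra B' B]
  {X' : Type u} [AddCommGroup X'] [Module B' X']
  {Xb : Type u} [AddCommGroup Xb] [Module B Xb] [Module B' Xb] [IsScalarTower B' B Xb]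

/-- flatness of `C ⊗ X` in terms of the model `X'` -/
theorem flat_tensor_iff_of_isBaseChange {g : X' →ₗ[B'] Xb} (hg : IsBaseChange B g)
    (C : Type u) [CommRing C] [Algebra B C] [Algebra B' C] [IsScalarTower B' B C] :
    Module.Flat C (C ⊗[B] Xb) ↔ Module.Flat C (C ⊗[B'] X') := by
  let E : C ⊗[B] Xb ≃ₗ[C] C ⊗[B'] X' :=
    (AlgebraTensorModule.congr (LinearEquiv.refl C C) hg.equiv.symm).trans
      (AlgebraTensorModule.cancelBaseChange B' B C C X')
  exact ⟨fun _ => Module.Flat.of_linearEquiv E.symm, fun _ => Module.Flat.of_linearEquiv E⟩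

end Pt

section Free

variable {B : Type u} [CommRing B] (J : Ideal B) (Xb : Type u) [AddCommGroup Xb] [Module B Xb]
  [Module.FinitePresentation B Xb]

/-- the local condition in terms of the free locus over `B/J` -/
theorem flat_tensor_iff_mem_freeLocus (qb : PrimeSpectrum (B ⧸ J)) :
    Module.Flat (Localization.AtPrime qb.asIdeal) (Localization.AtPrime qb.asIdeal ⊗[B] Xb) ↔
      qb ∈ Module.freeLocus (B ⧸ J) ((B ⧸ J) ⊗[B] Xb) := by
  rw [Module.mem_freeLocus_iff_tensor qb (Localization.AtPrime qb.asIdeal)]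
  let E : Localization.AtPrime qb.asIdeal ⊗[B ⧸ J] ((B ⧸ J) ⊗[B] Xb) ≃ₗ[Localization.AtPrime qb.asIdeal]
      Localization.AtPrime qb.asIdeal ⊗[B] Xb :=
    AlgebraTensorModule.cancelBaseChange B (B ⧸ J) (Localization.AtPrime qb.asIdeal)
      (Localization.AtPrime qb.asIdeal) Xb
  constructor
  · intro h
    haveI : Module.Flat (Localization.AtPrime qb.asIdeal)
        (Localization.AtPrime qb.asIdeal ⊗[B ⧸ J] ((B ⧸ J) ⊗[B] Xb)) :=
      Module.Flat.of_linearEquiv E
    exact Module.free_of_flat_of_isLocalRing (R := Localization.AtPrime qb.asIdeal)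
      (P := Localization.AtPrime qb.asIdeal ⊗[B ⧸ J] ((B ⧸ J) ⊗[B] Xb))
  · intro h
    exact Module.Flat.of_linearEquiv E.symm

end Free

section Model

variable {A' A B' B : Type u} [CommRing A'] [CommRing A] [CommRing B'] [CommRing B]
  [Algebra A' A] [Algebra A' B'] [Algebra A B] [Algebra B' B] [Algebra A' B]
  [IsScalarTower A' A B] [IsScalarTower A' B' B]

/-- **Openness of the normal flatness locus**, model form: the situation is the base change
along `A' → A` of a situation over a finitely generated `ℤ`-algebra with flat truncations. -/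
theorem isOpen_nf_of_model [Algebra.IsPushout A' A B' B] [Algebra.FiniteType ℤ B']
    {M' : Type u} [AddCommGroup M'] [Module B' M'] [Module A' M'] [IsScalarTower A' B' M']
    [Module.Finite B' M']
    {M : Type u} [AddCommGroup M] [Module B M] [Module B' M] [IsScalarTower B' B M]
    (f : M' →ₗ[B'] M) (hf : IsBaseChange B f) (J' : Ideal B')
    (hflat : ∀ k, Module.Flat A' (Qk J' M' k))
    (J : Ideal B) (hJ : J = J'.map (algebraMap B' B)) :
    IsOpen {q : PrimeSpectrum B | J ≤ q.asIdeal → ∀ k : ℕ,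
      Module.Flat (B ⧸ J) ((B ⧸ J) ⊗[B] LocalizedModule q.asIdeal.primeCompl
        (↥(J ^ k • (⊤ : Submodule B M)) ⧸
          Submodule.comap (J ^ k • (⊤ : Submodule B M)).subtype (J ^ (k + 1) • ⊤)))} := by
  haveI : IsNoetherianRing B' := Algebra.FiniteType.isNoetherianRing ℤ B'
  obtain ⟨N, hN⟩ := unif_X J' M'
  have hbc : ∀ k, ∃ g : X J' M' k →ₗ[B'] X J M k, IsBaseChange B g := by
    subst hJ
    exact fun k => ⟨_, isBaseChange_gX_of_flat (A' := A') (A := A) f hf J' hflat k⟩
  haveI hfp : ∀ k, Module.FinitePresentation B (X J M k) := fun k => by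
    obtain ⟨g, hg⟩ := hbc k
    haveI : Module.FinitePresentation B' (X J' M' k) := Module.finitePresentation_of_finite B' _
    exact FinitePresentation.of_isBaseChange g hg
  let U : Set (PrimeSpectrum (B ⧸ J)) :=
    ⋂ k ∈ Set.Iic N, Module.freeLocus (B ⧸ J) ((B ⧸ J) ⊗[B] X J M k)
  have hU : IsOpen U := (Set.finite_Iic N).isOpen_biInter (fun k _ => Module.isOpen_freeLocus)
  have key : ∀ qb : PrimeSpectrum (B ⧸ J),
      (∀ k : ℕ, Module.Flat (B ⧸ J) ((B ⧸ J) ⊗[B]
        LocalizedModule (PrimeSpectrum.comap (Ideal.Quotient.mk J) qb).asIdeal.primeCompl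
        (↥(J ^ k • (⊤ : Submodule B M)) ⧸
          Submodule.comap (J ^ k • (⊤ : Submodule B M)).subtype (J ^ (k + 1) • ⊤)))) ↔ qb ∈ U := by
    intro qb
    have h1 : ∀ k : ℕ, Module.Flat (B ⧸ J) ((B ⧸ J) ⊗[B]
        LocalizedModule (PrimeSpectrum.comap (Ideal.Quotient.mk J) qb).asIdeal.primeCompl
        (↥(J ^ k • (⊤ : Submodule B M)) ⧸
          Submodule.comap (J ^ k • (⊤ : Submodule B M)).subtype (J ^ (k + 1) • ⊤))) ↔
        Module.Flat (Localization.AtPrime qb.asIdeal)
          (Localization.AtPrime qb.asIdeal ⊗[B] X J M k) := by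
      intro k
      have h0 := flat_loc_iff J (↥(J ^ k • (⊤ : Submodule B M)) ⧸
          Submodule.comap (J ^ k • (⊤ : Submodule B M)).subtype (J ^ (k + 1) • ⊤)) qb.asIdeal
      refine h0.trans ?_
      let e : (↥(J ^ k • (⊤ : Submodule B M)) ⧸
          Submodule.comap (J ^ k • (⊤ : Submodule B M)).subtype (J ^ (k + 1) • ⊤)) ≃ₗ[B] X J M k :=
        Submodule.quotEquivOfEq _ _ (comap_subtype_pow_succ J M k)
      let E := AlgebraTensorModule.congr
        (LinearEquiv.refl (Localization.AtPrime qb.asIdeal) (Localization.AtPrime qb.asIdeal)) e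
      exact ⟨fun _ => Module.Flat.of_linearEquiv E.symm, fun _ => Module.Flat.of_linearEquiv E⟩
    have h2 : ∀ k : ℕ, Module.Flat (Localization.AtPrime qb.asIdeal)
          (Localization.AtPrime qb.asIdeal ⊗[B] X J M k) ↔
        qb ∈ Module.freeLocus (B ⧸ J) ((B ⧸ J) ⊗[B] X J M k) := fun k =>
      flat_tensor_iff_mem_freeLocus J (X J M k) qb
    have h3 : ∀ k : ℕ, Module.Flat (Localization.AtPrime qb.asIdeal)
          (Localization.AtPrime qb.asIdeal ⊗[B] X J M k) ↔
        Module.Flat (Localization.AtPrime qb.asIdeal)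
          (Localization.AtPrime qb.asIdeal ⊗[B'] X J' M' k) := fun k => by
      obtain ⟨g, hg⟩ := hbc k
      exact flat_tensor_iff_of_isBaseChange hg (Localization.AtPrime qb.asIdeal)
    simp only [U, Set.mem_iInter, Set.mem_Iic]
    constructor
    · intro h k _
      exact (h2 k).mp ((h1 k).mp (h k))
    · intro h k
      rw [h1 k, h3 k]
      exact hN (Localization.AtPrime qb.asIdeal)
        (fun j hj => (h3 j).mp ((h2 j).mpr (h j hj))) k
  have hemb := PrimeSpectrum.isClosedEmbedding_comap_of_surjective (B ⧸ J) (Ideal.Quotient.mk J)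
    Ideal.Quotient.mk_surjective
  have hcl : IsClosed (PrimeSpectrum.comap (Ideal.Quotient.mk J) '' Uᶜ) :=
    hemb.isClosedMap _ hU.isClosed_compl
  convert hcl.isOpen_compl using 1
  ext q
  simp only [Set.mem_ofPred_eq, Set.mem_compl_iff, Set.mem_image, not_exists, not_and]
  constructor
  · intro h qb hqb hq
    subst hq
    exact hqb ((key qb).mp (h (by
      intro x hx
      show Ideal.Quotient.mk J x ∈ qb.asIdeal
      rw [Ideal.Quotient.eq_zero_iff_mem.mpr hx]
      exact Ideal.zero_mem _)))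
  · intro h hJq
    obtain ⟨qb, rfl⟩ : q ∈ Set.range (PrimeSpectrum.comap (Ideal.Quotient.mk J)) := by
      rw [range_comap_of_surjective _ _ Ideal.Quotient.mk_surjective, Ideal.mk_ker]
      exact hJq
    refine (key qb).mpr ?_
    by_contra hqb
    exact h qb hqb rfl

end Model

end Groth.Agent.Lib.GrNFH8
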