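import Mathlib
import Groth.Agent.Lib.GrNF4_helper8

/-!
# Normal flatness, part 5: openness of the normal flatness locus, general form (helper8)

APPEND-ONLY once landed.
-/

set_option autoImplicit false
open TensorProduct

namespace Groth.Agent.Lib.GrNFH8

universe u

open Groth.Agent.Lib.NormFlatH3 Groth.Agent.Lib.GrFlatH8 Groth.Agent.Lib.GrUnifH8

section Model

attribute [local instance] Algebra.TensorProduct.rightAlgebra

/-- openness of the normal flatness locus from a model over `A₁` and an intermediate finitely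
generated `ℤ`-algebra `A'` over which all truncations are flat -/
theorem isOpen_nf_of_model' {A₁ A B₁ B : Type u} [CommRing A₁] [CommRing A] [CommRing B₁]
    [CommRing B] [Algebra A₁ A] [Algebra A₁ B₁] [Algebra A B] [Algebra B₁ B] [Algebra A₁ B]
    [IsScalarTower A₁ A B] [IsScalarTower A₁ B₁ B] [Algebra.IsPushout A₁ A B₁ B]
    [Algebra.FiniteType A₁ B₁]
    {M₁ M : Type u} [AddCommGroup M₁] [Module B₁ M₁] [Module A₁ M₁] [IsScalarTower A₁ B₁ M₁]
    [Module.Finite B₁ M₁]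
    [AddCommGroup M] [Module B M] [Module B₁ M] [IsScalarTower B₁ B M] [Module A M]
    [IsScalarTower A B M]
    {f₁ : M₁ →ₗ[B₁] M} (hf₁ : IsBaseChange B f₁) (J₁ : Ideal B₁)
    (A' : Type u) [CommRing A'] [Algebra A₁ A'] [Algebra A' A] [IsScalarTower A₁ A' A]
    [Algebra.FiniteType ℤ A']
    (hflat : ∀ k, Module.Flat A' (A' ⊗[A₁] Qk J₁ M₁ k))
    (J : Ideal B) (hJ : J = J₁.map (algebraMap B₁ B)) :
    IsOpen {q : PrimeSpectrum B | J ≤ q.asIdeal → ∀ k : ℕ,
      Module.Flat (B ⧸ J) ((B ⧸ J) ⊗[B] LocalizedModule q.asIdeal.primeCompl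
        (↥(J ^ k • (⊤ : Submodule B M)) ⧸
          Submodule.comap (J ^ k • (⊤ : Submodule B M)).subtype (J ^ (k + 1) • ⊤)))} := by
  letI algA'B : Algebra A' B := ((algebraMap A B).comp (algebraMap A' A)).toAlgebra
  haveI tw1 : IsScalarTower A' A B := IsScalarTower.of_algebraMap_eq (fun _ => rfl)
  haveI tw2 : IsScalarTower A₁ A' B := IsScalarTower.of_algebraMap_eq (fun x => by
    show algebraMap A₁ B x = algebraMap A B (algebraMap A' A (algebraMap A₁ A' x))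
    rw [← IsScalarTower.algebraMap_apply A₁ A' A, ← IsScalarTower.algebraMap_apply A₁ A B])
  obtain ⟨ψ, hψ⟩ : ∃ ψ : A' ⊗[A₁] B₁ →ₐ[A'] B, ∀ (a : A') (b : B₁),
      ψ (a ⊗ₜ b) = algebraMap A' B a * algebraMap B₁ B b :=
    ⟨Algebra.TensorProduct.lift (Algebra.ofId A' B) (IsScalarTower.toAlgHom A₁ B₁ B)
      (fun _ _ => Commute.all _ _), fun a b => rfl⟩
  letI algB'B : Algebra (A' ⊗[A₁] B₁) B := ψ.toRingHom.toAlgebra
  have halg : ∀ x, algebraMap (A' ⊗[A₁] B₁) B x = ψ x := fun x => rfl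
  haveI tw3 : IsScalarTower A' (A' ⊗[A₁] B₁) B := IsScalarTower.of_algebraMap_eq
    (fun x => (ψ.commutes x).symm)
  haveI tw4 : IsScalarTower A₁ (A' ⊗[A₁] B₁) B := IsScalarTower.of_algebraMap_eq (fun x => by
    rw [halg]
    show algebraMap A₁ B x = ψ (algebraMap A₁ A' x ⊗ₜ 1)
    rw [hψ, map_one, mul_one, ← IsScalarTower.algebraMap_apply A₁ A' B])
  haveI tw5 : IsScalarTower B₁ (A' ⊗[A₁] B₁) B := IsScalarTower.of_algebraMap_eq (fun x => by
    rw [halg]
    show algebraMap B₁ B x = ψ (1 ⊗ₜ x)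
    rw [hψ, map_one, one_mul])
  haveI push : Algebra.IsPushout A' A (A' ⊗[A₁] B₁) B :=
    (Algebra.IsPushout.comp_iff A₁ A' B₁ (S' := A' ⊗[A₁] B₁) (T := A) (T' := B)).mp inferInstance
  letI modB'M : Module (A' ⊗[A₁] B₁) M := Module.compHom M (algebraMap (A' ⊗[A₁] B₁) B)
  haveI tw6 : IsScalarTower (A' ⊗[A₁] B₁) B M :=
    ⟨fun x y z => by
      show (algebraMap (A' ⊗[A₁] B₁) B x * y) • z = algebraMap (A' ⊗[A₁] B₁) B x • (y • z)
      rw [mul_smul]⟩
  haveI tw7 : IsScalarTower B₁ (A' ⊗[A₁] B₁) M :=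
    ⟨fun x y z => by
      show algebraMap (A' ⊗[A₁] B₁) B (x • y) • z = x • (algebraMap (A' ⊗[A₁] B₁) B y • z)
      rw [Algebra.smul_def, map_mul, mul_smul, ← IsScalarTower.algebraMap_apply B₁ (A' ⊗[A₁] B₁) B,
        algebraMap_smul]⟩
  obtain ⟨f, hf⟩ : ∃ f : (A' ⊗[A₁] B₁) ⊗[B₁] M₁ →ₗ[A' ⊗[A₁] B₁] M,
      (f.restrictScalars B₁).comp (TensorProduct.mk B₁ (A' ⊗[A₁] B₁) M₁ 1) = f₁ :=
    ⟨(TensorProduct.isBaseChange B₁ M₁ (A' ⊗[A₁] B₁)).lift f₁,
      (TensorProduct.isBaseChange B₁ M₁ (A' ⊗[A₁] B₁)).lift_comp f₁⟩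
  have hbc : IsBaseChange B f := by
    refine IsBaseChange.of_comp (TensorProduct.isBaseChange B₁ M₁ (A' ⊗[A₁] B₁)) ?_
    rw [hf]
    exact hf₁
  haveI ftB' : @Algebra.FiniteType ℤ (A' ⊗[A₁] B₁) _ _ (Ring.toIntAlgebra _) :=
    @Algebra.FiniteType.trans ℤ A' (A' ⊗[A₁] B₁) _ _ _ _ (Ring.toIntAlgebra _) _ _
      (inferInstance : Algebra.FiniteType ℤ A') inferInstance
  have hflat' : ∀ k, Module.Flat A'
      (Qk (J₁.map (algebraMap B₁ (A' ⊗[A₁] B₁))) ((A' ⊗[A₁] B₁) ⊗[B₁] M₁) k) := by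
    intro k
    obtain ⟨e⟩ := exists_QkBaseEquiv (A₀ := A₁) (Ab := A') (B₀ := B₁) (Bb := A' ⊗[A₁] B₁)
      (TensorProduct.mk B₁ (A' ⊗[A₁] B₁) M₁ 1) (TensorProduct.isBaseChange B₁ M₁ (A' ⊗[A₁] B₁)) J₁ k
    haveI := hflat k
    exact Module.Flat.of_linearEquiv e.symm
  have hJ' : J = (J₁.map (algebraMap B₁ (A' ⊗[A₁] B₁))).map (algebraMap (A' ⊗[A₁] B₁) B) := by
    rw [Ideal.map_map, ← IsScalarTower.algebraMap_eq]
    exact hJ
  exact isOpen_nf_of_model (A' := A') (A := A) (B' := A' ⊗[A₁] B₁) (B := B) f hbc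
    (J₁.map (algebraMap B₁ (A' ⊗[A₁] B₁))) hflat' J hJ'

end Model

section Gen

/-- **Openness of the normal flatness locus** along `V(J)`: for `B` finitely presented over
`A`, `J` finitely generated and `M` finitely presented with all truncations `M/J^k M` flat over
`A`, the set of primes `q` such that `J ⊆ q` implies that all `(J^k M / J^{k+1} M)_q` are flat
over `B/J` is open. -/
theorem isOpen_nf_general {A B : Type u} [CommRing A] [CommRing B] [Algebra A B]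
    [Algebra.FinitePresentation A B] (J : Ideal B) (hJ : J.FG) (M : Type u)
    [AddCommGroup M] [Module B M] [Module A M] [IsScalarTower A B M]
    [Module.FinitePresentation B M]
    (h : ∀ k, Module.Flat A (Qk J M k)) :
    IsOpen {q : PrimeSpectrum B | J ≤ q.asIdeal → ∀ k : ℕ,
      Module.Flat (B ⧸ J) ((B ⧸ J) ⊗[B] LocalizedModule q.asIdeal.primeCompl
        (↥(J ^ k • (⊤ : Submodule B M)) ⧸
          Submodule.comap (J ^ k • (⊤ : Submodule B M)).subtype (J ^ (k + 1) • ⊤)))} := by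
  obtain ⟨r, β₀, hβ₀⟩ := Submodule.fg_iff_exists_fin_generating_family.mp hJ
  obtain ⟨A₁, _, _, _, _, B₁, _, _, _, _, M₁, _, _, _, _, f, β, hft, -, hfp, hfin, hpush, hbc, hβ⟩ :=
    exists_model_elts A B M β₀
  letI : Module A₁ M₁ := Module.compHom M₁ (algebraMap A₁ B₁)
  haveI : IsScalarTower A₁ B₁ M₁ :=
    ⟨fun a x y => by
      show (a • x) • y = algebraMap A₁ B₁ a • (x • y)
      rw [Algebra.smul_def, mul_smul]⟩
  letI : Module A₁ M := Module.compHom M (algebraMap A₁ A)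
  have hsm : ∀ (a : A₁) (y : M), a • y = algebraMap A₁ A a • y := fun _ _ => rfl
  haveI : IsScalarTower A₁ A M := IsScalarTower.of_algebraMap_smul fun a y => (hsm a y).symm
  haveI : IsScalarTower A₁ B M := IsScalarTower.of_algebraMap_smul fun a y => by
    rw [IsScalarTower.algebraMap_apply A₁ A B, algebraMap_smul, hsm]
  haveI : IsScalarTower A₁ B₁ M := IsScalarTower.of_algebraMap_smul fun a y => by
    rw [← algebraMap_smul B (algebraMap A₁ B₁ a) y, ← IsScalarTower.algebraMap_apply A₁ B₁ B,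
      IsScalarTower.algebraMap_apply A₁ A B, algebraMap_smul, hsm]
  set J₁ : Ideal B₁ := Ideal.span (Set.range β) with hJ₁
  have hJmap : J₁.map (algebraMap B₁ B) = J := by
    rw [hJ₁, Ideal.map_span, ← Set.range_comp, ← hβ₀]
    congr 1
    ext x
    simp only [Set.mem_range, Function.comp_apply, hβ]
  haveI : Algebra.FiniteType A₁ B₁ := inferInstance
  haveI : IsNoetherianRing A₁ := Algebra.FiniteType.isNoetherianRing ℤ A₁
  have hflatA : ∀ j, Module.Flat A (A ⊗[A₁] Qk J₁ M₁ j) := by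
    intro j
    obtain ⟨e0⟩ := exists_QkBaseEquiv (A₀ := A₁) (Ab := A) (B₀ := B₁) (Bb := B) f hbc J₁ j
    rw [hJmap] at e0
    haveI := h j
    exact Module.Flat.of_linearEquiv e0
  obtain ⟨A', hA', hflat'⟩ := unif_subalgebra (A₁ := A₁) (B₁ := B₁) (fun k => Qk J₁ M₁ k)
    (genProj_Qk J₁ M₁) A hflatA
  haveI : Algebra.FiniteType A₁ A' := ⟨(Subalgebra.fg_top A').mpr hA'⟩
  haveI ftA' : @Algebra.FiniteType ℤ A' _ _ (Ring.toIntAlgebra _) :=
    @Algebra.FiniteType.trans ℤ A₁ A' _ _ _ _ (Ring.toIntAlgebra _) _ _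
      (inferInstance : Algebra.FiniteType ℤ A₁) inferInstance
  exact isOpen_nf_of_model' (A₁ := A₁) (A := A) (B₁ := B₁) (B := B) hbc J₁ A' hflat' J
    hJmap.symm

end Gen

end Groth.Agent.Lib.GrNFH8
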