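import Mathlib
import Groth.Prelude.Def_GrLC
import Groth.Agent.Lib.Socle_helper1
import Groth.Agent.Lib.GrMono_helper9

/-! Multiplication pairings between the pieces of a graded ring over a field and the pieces of a
graded module: dimension bounds from essentiality, and vanishing above a one-dimensional piece
(helper1). APPEND-ONLY once landed. -/

set_option autoImplicit false

namespace Groth.Agent.Lib.GrPairH1

open DirectSum GrLC Groth.Agent.Lib.SocleH1 Groth.Agent.Lib.GrHDecH1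

universe u

theorem nat_prod {a b A B : ℕ} (ha : a ≤ A) (hb : b ≤ B) (h : a * b = A * B) (hA : 1 ≤ A)
    (hB : 1 ≤ B) : a = A ∧ b = B := by
  constructor
  · by_contra hne
    have hlt : a < A := lt_of_le_of_ne ha hne
    have h1 : a * b ≤ a * B := Nat.mul_le_mul_left a hb
    have h2 : a * B < A * B := Nat.mul_lt_mul_of_pos_right hlt (by omega)
    omega
  · by_contra hne
    have hlt : b < B := lt_of_le_of_ne hb hne
    have h1 : a * b ≤ A * b := Nat.mul_le_mul_right b ha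
    have h2 : A * b < A * B := Nat.mul_lt_mul_of_pos_left hlt (by omega)
    omega

section pair

variable {R : Type u} [CommRing R] (𝒜 : ℤ → AddSubgroup R) [GradedRing 𝒜]
variable {X : Type u} [AddCommGroup X] [Module R X] (𝒳 : ℤ → AddSubgroup X)
  [SetLike.GradedSMul 𝒜 𝒳]

omit [GradedRing 𝒜] in
theorem smul_mem_piece {i j l : ℤ} (h : i + j = l) {ρ : R} (hρ : ρ ∈ 𝒜 i) {x : X}
    (hx : x ∈ 𝒳 j) : ρ • x ∈ 𝒳 l := by
  have h1 := SetLike.GradedSMul.smul_mem (A := 𝒜) (B := 𝒳) hρ hx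
  rw [vadd_eq_add, h] at h1
  exact h1

/-- the multiplication pairing between a piece of the ring and a piece of a graded module -/
noncomputable def pairing {i j l : ℤ} (h : i + j = l) :
    ↥(comp 𝒜 𝒳 j) →ₗ[deg0 𝒜] ↥(comp 𝒜 𝒜 i) →ₗ[deg0 𝒜] ↥(comp 𝒜 𝒳 l) :=
  LinearMap.mk₂ (deg0 𝒜)
    (fun y r => ⟨(r : R) • (y : X),
      smul_mem_piece 𝒜 𝒳 h (mem_of_comp 𝒜 𝒜 r) (mem_of_comp 𝒜 𝒳 y)⟩)
    (fun y y' r => Subtype.ext (by
      show (r : R) • ((y : X) + (y' : X)) = (r : R) • (y : X) + (r : R) • (y' : X)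
      exact smul_add _ _ _))
    (fun c y r => Subtype.ext (by
      show (r : R) • ((c : R) • (y : X)) = (c : R) • ((r : R) • (y : X))
      exact smul_comm _ _ _))
    (fun y r r' => Subtype.ext (by
      show ((r : R) + (r' : R)) • (y : X) = (r : R) • (y : X) + (r' : R) • (y : X)
      exact add_smul _ _ _))
    (fun c y r => Subtype.ext (by
      show ((c : R) * (r : R)) • (y : X) = (c : R) • ((r : R) • (y : X))
      exact mul_smul _ _ _))

theorem pairing_coe {i j l : ℤ} (h : i + j = l) (y : ↥(comp 𝒜 𝒳 j)) (r : ↥(comp 𝒜 𝒜 i)) :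
    ((pairing 𝒜 𝒳 h y r : ↥(comp 𝒜 𝒳 l)) : X) = (r : R) • (y : X) := rfl

theorem pairing_injective {i j l : ℤ} (h : i + j = l)
    (hess : ∀ x ∈ 𝒳 j, x ≠ 0 → ∃ ρ ∈ 𝒜 i, ρ • x ≠ 0) :
    Function.Injective (pairing 𝒜 𝒳 h) := by
  rw [injective_iff_map_eq_zero]
  intro y hy
  by_contra hy0
  have hy0' : (y : X) ≠ 0 := fun h' => hy0 (Subtype.ext h')
  obtain ⟨ρ, hρ, hρy⟩ := hess y.1 (mem_of_comp 𝒜 𝒳 y) hy0'
  have h1 := pairing_coe 𝒜 𝒳 h y ⟨ρ, hρ⟩
  rw [hy, LinearMap.zero_apply, Submodule.coe_zero] at h1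
  exact hρy h1.symm

/-- essentiality bounds the dimension of a piece -/
theorem finrank_le_of_ess (h0 : IsField (deg0 𝒜)) {i j l : ℤ} (h : i + j = l)
    (hfA : Module.Finite (deg0 𝒜) ↥(comp 𝒜 𝒜 i))
    (hfX : Module.Finite (deg0 𝒜) ↥(comp 𝒜 𝒳 l))
    (hess : ∀ x ∈ 𝒳 j, x ≠ 0 → ∃ ρ ∈ 𝒜 i, ρ • x ≠ 0) :
    Module.finrank (deg0 𝒜) ↥(comp 𝒜 𝒳 j) ≤
      Module.finrank (deg0 𝒜) ↥(comp 𝒜 𝒜 i) * Module.finrank (deg0 𝒜) ↥(comp 𝒜 𝒳 l) := by
  letI : Field (deg0 𝒜) := h0.toField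
  haveI := hfA
  haveI := hfX
  haveI : Module.Free (deg0 𝒜) ↥(comp 𝒜 𝒜 i) := Module.Free.of_divisionRing _ _
  haveI : Module.Free (deg0 𝒜) ↥(comp 𝒜 𝒳 l) := Module.Free.of_divisionRing _ _
  haveI : Module.Finite (deg0 𝒜) (↥(comp 𝒜 𝒜 i) →ₗ[deg0 𝒜] ↥(comp 𝒜 𝒳 l)) :=
    Module.Finite.linearMap _ _ _ _
  have h1 := LinearMap.finrank_le_finrank_of_injective (pairing_injective 𝒜 𝒳 h hess)
  rw [Module.finrank_linearMap] at h1
  exact h1

/-- multiplication by the elements of degree one kills a one-dimensional piece which is paired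
essentially with a piece of dimension at least two -/
theorem kill_top (h0 : IsField (deg0 𝒜)) (c : ℤ)
    (h1 : Module.finrank (deg0 𝒜) ↥(comp 𝒜 𝒳 c) = 1)
    (hfin : Module.Finite (deg0 𝒜) ↥(comp 𝒜 𝒳 (c - 1)))
    (h2 : 2 ≤ Module.finrank (deg0 𝒜) ↥(comp 𝒜 𝒳 (c - 1)))
    (hess : ∀ x ∈ 𝒳 (c - 1), x ≠ 0 → ∃ ρ ∈ 𝒜 1, ρ • x ≠ 0) :
    ∀ ρ ∈ 𝒜 1, ∀ x ∈ 𝒳 c, ρ • x = 0 := by
  letI : Field (deg0 𝒜) := h0.toField
  intro ρ hρ x hx
  have hc : (1 : ℤ) + (c - 1) = c := by ring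
  haveI := hfin
  haveI : Module.Finite (deg0 𝒜) ↥(comp 𝒜 𝒳 c) :=
    Module.finite_of_finrank_pos (by rw [h1]; exact one_pos)
  have hker : LinearMap.ker ((pairing 𝒜 𝒳 hc).flip ⟨ρ, hρ⟩) ≠ ⊥ :=
    LinearMap.ker_ne_bot_of_finrank_lt (h1.trans_lt (Nat.lt_of_lt_of_le Nat.one_lt_two h2))
  obtain ⟨y, hy, hy0⟩ := (Submodule.ne_bot_iff _).1 hker
  have hρy : ρ • (y : X) = 0 := congrArg Subtype.val (LinearMap.mem_ker.1 hy)
  have hy0' : (y : X) ≠ 0 := fun h' => hy0 (Subtype.ext h')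
  obtain ⟨ρ', hρ', hρ'y⟩ := hess y.1 (mem_of_comp 𝒜 𝒳 y) hy0'
  have hw : (⟨ρ' • (y : X), smul_mem_piece 𝒜 𝒳 hc hρ' (mem_of_comp 𝒜 𝒳 y)⟩ :
      ↥(comp 𝒜 𝒳 c)) ≠ 0 := fun h' => hρ'y (congrArg Subtype.val h')
  obtain ⟨a, ha⟩ := (finrank_eq_one_iff_of_nonzero' _ hw).1 h1 ⟨x, hx⟩
  have hx' : x = (a : R) • (ρ' • (y : X)) := (congrArg Subtype.val ha).symm
  rw [hx', smul_comm ρ (a : R), smul_comm ρ ρ', hρy, smul_zero, smul_zero]

/-- with `I = (R₁)` and `I X = X`, a piece killed by `R₁` has vanishing successor -/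
theorem next_piece_bot' [Decomposition 𝒳] (I : Ideal R)
    (hI : I = Ideal.span ((𝒜 1 : AddSubgroup R) : Set R))
    (htop : I • (⊤ : Submodule R X) = ⊤) (n : ℤ) (hn : ∀ ρ ∈ 𝒜 1, ∀ x ∈ 𝒳 n, ρ • x = 0) :
    𝒳 (n + 1) = ⊥ := by
  have h1 : ∀ r ∈ I, ∀ y : X, (decompose 𝒳 (r • y) (n + 1) : X) = 0 := by
    intro r hr
    rw [hI] at hr
    induction hr using Submodule.span_induction with
    | mem r hr =>
      intro y
      have h := GrStarH1.decompose_smul_homog 𝒜 𝒳 (show r ∈ 𝒜 1 from hr) y n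
      rw [add_comm] at h
      rw [h]
      exact hn r hr _ (decompose 𝒳 y n).2
    | zero =>
      intro y
      rw [zero_smul, decompose_zero, DirectSum.zero_apply, ZeroMemClass.coe_zero]
    | add r s _ _ hr hs =>
      intro y
      rw [add_smul, decompose_add, DirectSum.add_apply, AddSubgroup.coe_add, hr y, hs y, add_zero]
    | smul s r _ hr =>
      intro y
      rw [smul_eq_mul, mul_comm, mul_smul]
      exact hr (s • y)
  have h2 : ∀ x ∈ I • (⊤ : Submodule R X), (decompose 𝒳 x (n + 1) : X) = 0 := by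
    intro x hx
    refine Submodule.smul_induction_on hx (fun r hr y _ => h1 r hr y) (fun x y hx hy => ?_)
    rw [decompose_add, DirectSum.add_apply, AddSubgroup.coe_add, hx, hy, add_zero]
  rw [eq_bot_iff]
  intro x hx
  rw [AddSubgroup.mem_bot]
  have := h2 x (by rw [htop]; trivial)
  rwa [decompose_of_mem_same 𝒳 hx] at this

end pair

section ring

variable {R : Type u} [CommRing R] [IsNoetherianRing R] (𝒜 : ℤ → AddSubgroup R) [GradedRing 𝒜]

/-- the irrelevant ideal of a standard graded ring over a field needs at least as many generators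
of degree one as its height -/
theorem two_le_finrank_one (h0 : IsField (deg0 𝒜)) (m : Ideal R)
    (hm : m = Ideal.span ((𝒜 1 : AddSubgroup R) : Set R)) (hne : m ≠ ⊤) (hht : 2 ≤ m.height)
    (hfin : Module.Finite (deg0 𝒜) ↥(comp 𝒜 𝒜 1)) :
    2 ≤ Module.finrank (deg0 𝒜) ↥(comp 𝒜 𝒜 1) := by
  letI : Field (deg0 𝒜) := h0.toField
  haveI := hfin
  by_contra hlt
  have h1 : Module.finrank (deg0 𝒜) ↥(comp 𝒜 𝒜 1) ≤ 1 := by omega
  obtain ⟨v, hv⟩ := finrank_le_one_iff.1 h1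
  have hmv : m = Ideal.span {(v : R)} := by
    rw [hm]
    apply le_antisymm
    · rw [Ideal.span_le]
      intro w hw
      obtain ⟨c, hc⟩ := hv ⟨w, hw⟩
      have e : w = (c : R) * (v : R) := (congrArg Subtype.val hc).symm
      rw [e]
      exact Ideal.mul_mem_left _ _ (Ideal.subset_span rfl)
    · rw [Ideal.span_le, Set.singleton_subset_iff]
      exact Ideal.subset_span v.2
  have hu : ¬ IsUnit (v : R) := fun hu => hne (by
    rw [hmv]
    exact Ideal.span_singleton_eq_top.2 hu)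
  have h3 := Ideal.height_span_singleton_le_one hu
  rw [← hmv] at h3
  exact absurd (hht.trans h3) (by norm_num)

end ring

end Groth.Agent.Lib.GrPairH1
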