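import Mathlib

/-!
# The graded map `⊕ I^{nc} → A[T_1..T_r]` attached to maps `φ_j : I^c → A` (helper2)
-/

namespace Groth.Agent.Lib.GrPoly

open scoped BigOperators
open MvPolynomial

universe u
variable {A : Type u} [CommRing A] {r : ℕ} (f : Fin r → A) (I : Ideal A) (c : ℕ)
  (φ : Fin r → (↥(I ^ c) →ₗ[A] A))

/-- total version of `φ j`. -/
noncomputable def φt (j : Fin r) (x : A) : A := by
  classical
  exact if h : x ∈ I ^ c then φ j ⟨x, h⟩ else 0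

lemma φt_of_mem (j : Fin r) {x : A} (h : x ∈ I ^ c) : φt I c φ j x = φ j ⟨x, h⟩ := by
  unfold φt
  exact dif_pos h

lemma φt_add (j : Fin r) {x y : A} (hx : x ∈ I ^ c) (hy : y ∈ I ^ c) :
    φt I c φ j (x + y) = φt I c φ j x + φt I c φ j y := by
  rw [φt_of_mem I c φ j hx, φt_of_mem I c φ j hy, φt_of_mem I c φ j (add_mem hx hy), ← map_add]
  rfl

lemma φt_mul (j : Fin r) (a : A) {x : A} (hx : x ∈ I ^ c) :
    φt I c φ j (a * x) = a * φt I c φ j x := by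
  rw [φt_of_mem I c φ j hx, φt_of_mem I c φ j (Ideal.mul_mem_left _ a hx)]
  have h : (⟨a * x, Ideal.mul_mem_left _ a hx⟩ : ↥(I ^ c)) = a • ⟨x, hx⟩ := rfl
  rw [h, map_smul, smul_eq_mul]

lemma pow_le (m : ℕ) : I ^ (m * c + c) ≤ I ^ c := Ideal.pow_le_pow_right (Nat.le_add_left _ _)

lemma φt_mem (j : Fin r) (m : ℕ) {x : A} (hx : x ∈ I ^ (m * c + c)) :
    φt I c φ j x ∈ I ^ (m * c) := by
  rw [pow_add] at hx
  have key : x ∈ I ^ c ∧ φt I c φ j x ∈ I ^ (m * c) := by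
    refine Submodule.mul_induction_on hx ?_ ?_
    · intro a ha b hb
      refine ⟨Ideal.mul_mem_left _ a hb, ?_⟩
      rw [φt_mul I c φ j a hb]
      exact Ideal.mul_mem_right _ _ ha
    · rintro x y ⟨hx1, hx2⟩ ⟨hy1, hy2⟩
      refine ⟨add_mem hx1 hy1, ?_⟩
      rw [φt_add I c φ j hx1 hy1]
      exact add_mem hx2 hy2
  exact key.2

/-- the graded map. -/
noncomputable def Φ : ℕ → A → MvPolynomial (Fin r) A
  | 0, g => C g
  | n + 1, g => ∑ j, X j * Φ n (φt I c φ j g)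

lemma Φ_zero (g : A) : Φ I c φ 0 g = C g := rfl

lemma Φ_succ (n : ℕ) (g : A) :
    Φ I c φ (n + 1) g = ∑ j, X j * Φ I c φ n (φt I c φ j g) := rfl

lemma mem_of_succ {n : ℕ} {g : A} (hg : g ∈ I ^ ((n + 1) * c)) : g ∈ I ^ c := by
  rw [Nat.succ_mul] at hg
  exact pow_le I c n hg

lemma mem_succ' {n : ℕ} {g : A} (hg : g ∈ I ^ ((n + 1) * c)) : g ∈ I ^ (n * c + c) := by
  rw [Nat.succ_mul] at hg
  exact hg

lemma Φ_add (n : ℕ) : ∀ g ∈ I ^ (n * c), ∀ h ∈ I ^ (n * c),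
    Φ I c φ n (g + h) = Φ I c φ n g + Φ I c φ n h := by
  induction n with
  | zero => intro g _ h _; simp [Φ_zero]
  | succ n ih =>
    intro g hg h hh
    rw [Φ_succ, Φ_succ, Φ_succ, ← Finset.sum_add_distrib]
    refine Finset.sum_congr rfl (fun j _ => ?_)
    rw [φt_add I c φ j (mem_of_succ I c hg) (mem_of_succ I c hh),
      ih _ (φt_mem I c φ j n (mem_succ' I c hg)) _ (φt_mem I c φ j n (mem_succ' I c hh)), mul_add]

lemma Φ_smul (n : ℕ) : ∀ (a : A), ∀ g ∈ I ^ (n * c),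
    Φ I c φ n (a * g) = a • Φ I c φ n g := by
  induction n with
  | zero => intro a g _; rw [Φ_zero, Φ_zero, map_mul, MvPolynomial.C_mul']
  | succ n ih =>
    intro a g hg
    rw [Φ_succ, Φ_succ, Finset.smul_sum]
    refine Finset.sum_congr rfl (fun j _ => ?_)
    rw [φt_mul I c φ j a (mem_of_succ I c hg), ih a _ (φt_mem I c φ j n (mem_succ' I c hg)),
      mul_smul_comm]

lemma Φ_homog (n : ℕ) : ∀ g ∈ I ^ (n * c), (Φ I c φ n g).IsHomogeneous n := by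
  induction n with
  | zero => intro g _; exact isHomogeneous_C _ _
  | succ n ih =>
    intro g hg
    rw [Φ_succ]
    apply IsHomogeneous.sum
    intro j _
    rw [add_comm n 1]
    exact (isHomogeneous_X A j).mul (ih _ (φt_mem I c φ j n (mem_succ' I c hg)))

lemma Φ_aeval (hφ : ∀ x : ↥(I ^ c), (x : A) = ∑ j, f j * φ j x) (n : ℕ) :
    ∀ g ∈ I ^ (n * c), MvPolynomial.aeval f (Φ I c φ n g) = g := by
  induction n with
  | zero => intro g _; rw [Φ_zero, aeval_C]; rfl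
  | succ n ih =>
    intro g hg
    rw [Φ_succ, map_sum]
    have hg' := mem_of_succ I c hg
    have h1 : g = ∑ j, f j * φ j ⟨g, hg'⟩ := hφ ⟨g, hg'⟩
    conv_rhs => rw [h1]
    refine Finset.sum_congr rfl (fun j _ => ?_)
    rw [map_mul, aeval_X, ih _ (φt_mem I c φ j n (mem_succ' I c hg)), φt_of_mem I c φ j hg']

lemma Φ_mul (n m : ℕ) : ∀ g ∈ I ^ (n * c), ∀ h ∈ I ^ (m * c),
    Φ I c φ (n + m) (g * h) = Φ I c φ n g * Φ I c φ m h := by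
  induction n with
  | zero =>
    intro g _ h hh
    rw [Nat.zero_add, Φ_zero, Φ_smul I c φ m g h hh, MvPolynomial.C_mul']
  | succ n ih =>
    intro g hg h hh
    rw [Nat.add_right_comm n 1 m, Φ_succ, Φ_succ, Finset.sum_mul]
    refine Finset.sum_congr rfl (fun j _ => ?_)
    have hg' := mem_of_succ I c hg
    rw [mul_comm g h, φt_mul I c φ j h hg', mul_comm h,
      ih _ (φt_mem I c φ j n (mem_succ' I c hg)) h hh, mul_assoc]

lemma Φ_one (g : A) (hg : g ∈ I ^ c) :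
    Φ I c φ 1 g = ∑ j, MvPolynomial.C (φ j ⟨g, hg⟩) * MvPolynomial.X j := by
  rw [Φ_succ]
  refine Finset.sum_congr rfl (fun j _ => ?_)
  rw [Φ_zero, φt_of_mem I c φ j hg, mul_comm]

theorem main8819 (A : Type u) [CommRing A] (r : ℕ) (f : Fin r → A) (I : Ideal A) (c : ℕ)
    (φ : Fin r → (↥(I ^ c) →ₗ[A] A)) (hφ : ∀ x : ↥(I ^ c), (x : A) = ∑ j, f j * φ j x) :
    ∃ Φ : ℕ → A → MvPolynomial (Fin r) A, (((∀ n : ℕ, ∀ g ∈ I ^ (n * c), ∀ h ∈ I ^ (n * c), Φ n (g + h) = Φ n g + Φ n h) ∧ (∀ (n : ℕ) (a : A), ∀ g ∈ I ^ (n * c), Φ n (a * g) = a • Φ n g) ∧ (∀ n : ℕ, ∀ g ∈ I ^ (n * c), (Φ n g).IsHomogeneous n) ∧ (∀ n m : ℕ, ∀ g ∈ I ^ (n * c), ∀ h ∈ I ^ (m * c), Φ (n + m) (g * h) = Φ n g * Φ m h) ∧ (∀ a : A, Φ 0 a = MvPolynomial.C a) ∧ (∀ (g : A) (hg : g ∈ I ^ c), Φ 1 g = ∑ j, MvPolynomial.C (φ j ⟨g, hg⟩) * MvPolynomial.X j)) ∧ ∀ n : ℕ, ∀ g ∈ I ^ (n * c), MvPolynomial.aeval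 f (Φ n g) = g) ∧ ∀ Ψ : ℕ → A → MvPolynomial (Fin r) A, ((∀ n : ℕ, ∀ g ∈ I ^ (n * c), ∀ h ∈ I ^ (n * c), Ψ n (g + h) = Ψ n g + Ψ n h) ∧ (∀ (n : ℕ) (a : A), ∀ g ∈ I ^ (n * c), Ψ n (a * g) = a • Ψ n g) ∧ (∀ n : ℕ, ∀ g ∈ I ^ (n * c), (Ψ n g).IsHomogeneous n) ∧ (∀ n m : ℕ, ∀ g ∈ I ^ (n * c), ∀ h ∈ I ^ (m * c), Ψ (n + m) (g * h) = Ψ n g * Ψ m h) ∧ (∀ a : A, Ψ 0 a = MvPolynomial.C a) ∧ (∀ (g : A) (hg : g ∈ I ^ c), Ψ 1 g = ∑ j, MvPolynomial.C (φ j ⟨g, hg⟩) * MvPolynomial.X j)) → ∀ n : ℕ, ∀ g ∈ I ^ (n * c), Ψ n g = Φ n g := by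
  refine ⟨Φ I c φ, ⟨⟨Φ_add I c φ, Φ_smul I c φ, Φ_homog I c φ, Φ_mul I c φ, Φ_zero I c φ,
    Φ_one I c φ⟩, Φ_aeval f I c φ hφ⟩, ?_⟩
  rintro Ψ ⟨hadd, hsmul, hhom, hmul, hzero, hone⟩ n
  induction n with
  | zero => intro g _; rw [hzero, Φ_zero]
  | succ n ih =>
    intro g hg
    have hg2 : g ∈ I ^ (n * c) * I ^ (1 * c) := by
      rw [← pow_add, ← Nat.add_mul]
      exact hg
    have key : g ∈ I ^ ((n + 1) * c) ∧ Ψ (n + 1) g = Φ I c φ (n + 1) g := by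
      refine Submodule.mul_induction_on hg2 ?_ ?_
      · intro a ha b hb
        refine ⟨?_, ?_⟩
        · rw [Nat.add_mul, pow_add]
          exact Ideal.mul_mem_mul ha hb
        · have hb' : b ∈ I ^ c := by simpa using hb
          rw [hmul n 1 a ha b hb, Φ_mul I c φ n 1 a ha b hb, ih a ha, hone b hb',
            Φ_one I c φ b hb']
      · rintro x y ⟨hx1, hx2⟩ ⟨hy1, hy2⟩
        exact ⟨add_mem hx1 hy1, by
          rw [hadd _ x hx1 y hy1, Φ_add I c φ _ x hx1 y hy1, hx2, hy2]⟩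
    exact key.2

end Groth.Agent.Lib.GrPoly
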