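import Mathlib

/-!
# Graded projective modules over `R[x₁,…,xₙ]` are graded-free locally on `Spec R` (helper1)

Elementary proof: choose homogeneous generators, extract a subfamily which is a basis of the fibre
at the prime `𝔓 = (x) + p`, use Nakayama and an induction on the total degree to get spanning up to
powers of `r₁ ∉ p`, and an idempotent-matrix trick for the relations.
-/

namespace Groth.Agent.Lib.GrProjH1

universe u v
open MvPolynomial

/-! ### homogeneous components -/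
section Graded

variable {R : Type u} [CommRing R] {n : ℕ}
  {P : Type v} [AddCommGroup P] [Module (MvPolynomial (Fin n) R) P] [Module R P]
  [IsScalarTower R (MvPolynomial (Fin n) R) P]
  (ℳ : (Fin n → ℤ) → Submodule R P) [DirectSum.Decomposition ℳ]

/-- the homogeneous component of degree `d` -/
noncomputable def pr (d : Fin n → ℤ) (q : P) : P := ((DirectSum.decompose ℳ q) d : P)

theorem pr_mem (d : Fin n → ℤ) (q : P) : pr ℳ d q ∈ ℳ d := ((DirectSum.decompose ℳ q) d).2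

theorem pr_add (d : Fin n → ℤ) (q q' : P) : pr ℳ d (q + q') = pr ℳ d q + pr ℳ d q' := by
  simp [pr, DirectSum.decompose_add]

theorem pr_zero (d : Fin n → ℤ) : pr ℳ d (0 : P) = 0 := by
  simp [pr]

theorem pr_sum {ι' : Type*} (s : Finset ι') (f : ι' → P) (d : Fin n → ℤ) :
    pr ℳ d (∑ i ∈ s, f i) = ∑ i ∈ s, pr ℳ d (f i) := by
  classical
  induction s using Finset.induction_on with
  | empty => simp [pr_zero]
  | insert a s ha ih => rw [Finset.sum_insert ha, Finset.sum_insert ha, pr_add, ih]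

theorem pr_smul (d : Fin n → ℤ) (c : R) (q : P) : pr ℳ d (c • q) = c • pr ℳ d q := by
  simp [pr, DirectSum.decompose_smul, DirectSum.smul_apply]

theorem pr_of_mem {d : Fin n → ℤ} {q : P} (h : q ∈ ℳ d) : pr ℳ d q = q :=
  DirectSum.decompose_of_mem_same ℳ h

theorem pr_of_mem_ne {c d : Fin n → ℤ} {q : P} (h : q ∈ ℳ c) (hcd : c ≠ d) : pr ℳ d q = 0 :=
  DirectSum.decompose_of_mem_ne ℳ h hcd

omit [DirectSum.Decomposition ℳ] in
theorem C_smul_eq (c : R) (q : P) : (C c : MvPolynomial (Fin n) R) • q = c • q := by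
  rw [← MvPolynomial.algebraMap_eq, algebraMap_smul]

omit [DirectSum.Decomposition ℳ] in
theorem smulR_mem (N : Submodule (MvPolynomial (Fin n) R) P) (c : R) {x : P} (h : x ∈ N) :
    c • x ∈ N := by
  have := N.smul_mem (C c) h
  rwa [C_smul_eq] at this

variable [SetLike.GradedSMul (MvPolynomial.weightedHomogeneousSubmodule R
    (fun i : Fin n => (Pi.single i 1 : Fin n → ℤ))) ℳ]

omit [DirectSum.Decomposition ℳ] in
theorem X_smul_mem (j : Fin n) {c : Fin n → ℤ} {q : P} (h : q ∈ ℳ c) :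
    (X j : MvPolynomial (Fin n) R) • q ∈ ℳ (Pi.single j 1 + c) := by
  have hX : (X j : MvPolynomial (Fin n) R) ∈ weightedHomogeneousSubmodule R
      (fun i : Fin n => (Pi.single i 1 : Fin n → ℤ)) (Pi.single j 1) :=
    (mem_weightedHomogeneousSubmodule R _ _ _).2
      (isWeightedHomogeneous_X R (fun i : Fin n => (Pi.single i 1 : Fin n → ℤ)) j)
  have := SetLike.GradedSMul.smul_mem (A := weightedHomogeneousSubmodule R
      (fun i : Fin n => (Pi.single i 1 : Fin n → ℤ))) (B := ℳ) hX h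
  simpa [vadd_eq_add] using this

theorem pr_X_smul (j : Fin n) (d : Fin n → ℤ) (q : P) :
    pr ℳ d ((X j : MvPolynomial (Fin n) R) • q) =
      (X j : MvPolynomial (Fin n) R) • pr ℳ (d - Pi.single j 1) q := by
  refine DirectSum.Decomposition.inductionOn ℳ
    (motive := fun q => pr ℳ d ((X j : MvPolynomial (Fin n) R) • q) =
      (X j : MvPolynomial (Fin n) R) • pr ℳ (d - Pi.single j 1) q) ?_ ?_ ?_ q
  · simp [pr_zero]
  · intro c m
    have hm := X_smul_mem ℳ j m.2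
    by_cases hcd : Pi.single j 1 + c = d
    · have h1 : d - Pi.single j 1 = c := by rw [← hcd]; abel
      rw [h1, pr_of_mem ℳ m.2]
      rw [hcd] at hm
      exact pr_of_mem ℳ hm
    · have h1 : c ≠ d - Pi.single j 1 := fun h => hcd (by rw [h]; abel)
      rw [pr_of_mem_ne ℳ hm hcd, pr_of_mem_ne ℳ m.2 h1, smul_zero]
  · intro m m' h h'
    rw [smul_add, pr_add, pr_add, h, h', smul_add]

theorem pr_smul_mem_of_mem {N : Submodule (MvPolynomial (Fin n) R) P} {g : P} {δ : Fin n → ℤ}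
    (hg : g ∈ ℳ δ) (hgN : g ∈ N) (a : MvPolynomial (Fin n) R) :
    ∀ d, pr ℳ d (a • g) ∈ N := by
  refine MvPolynomial.induction_on (motive := fun a => ∀ d, pr ℳ d (a • g) ∈ N) a ?_ ?_ ?_
  · intro c d
    rw [C_smul_eq, pr_smul]
    by_cases h : δ = d
    · rw [← h, pr_of_mem ℳ hg]; exact smulR_mem N c hgN
    · rw [pr_of_mem_ne ℳ hg h, smul_zero]; exact N.zero_mem
  · intro p q hp hq d
    rw [add_smul, pr_add]; exact N.add_mem (hp d) (hq d)
  · intro p j hp d
    rw [mul_comm, mul_smul, pr_X_smul]; exact N.smul_mem _ (hp _)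

/-- total degree -/
def tdeg (d : Fin n → ℤ) : ℤ := ∑ i, d i

theorem tdeg_sub_single (d : Fin n → ℤ) (j : Fin n) :
    tdeg (d - Pi.single j 1) = tdeg d - 1 := by
  simp [tdeg, Finset.sum_sub_distrib, Finset.sum_pi_single']

theorem pr_smul_eq_zero_of_tdeg_lt {g : P} {δ : Fin n → ℤ} (hg : g ∈ ℳ δ)
    (a : MvPolynomial (Fin n) R) :
    ∀ d, tdeg d < tdeg δ → pr ℳ d (a • g) = 0 := by
  refine MvPolynomial.induction_on
    (motive := fun a => ∀ d, tdeg d < tdeg δ → pr ℳ d (a • g) = 0) a ?_ ?_ ?_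
  · intro c d hd
    have hne : δ ≠ d := by rintro rfl; exact lt_irrefl _ hd
    rw [C_smul_eq, pr_smul, pr_of_mem_ne ℳ hg hne, smul_zero]
  · intro p q hp hq d hd
    rw [add_smul, pr_add, hp d hd, hq d hd, add_zero]
  · intro p j hp d hd
    rw [mul_comm, mul_smul, pr_X_smul, hp _ (by rw [tdeg_sub_single]; omega), smul_zero]

/-- graded Nakayama, with `r₁`-power bookkeeping. -/
theorem graded_span (N : Submodule (MvPolynomial (Fin n) R) P) (r1 : R)
    (hN : ∀ u ∈ N, ∀ d, pr ℳ d u ∈ N)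
    (D0 : ℤ) (hD0 : ∀ d, tdeg d < D0 → ∀ q ∈ ℳ d, q = 0)
    (hr1 : ∀ q : P, ∃ u ∈ N, ∃ p : Fin n → P,
      r1 • q = u + ∑ j, (X j : MvPolynomial (Fin n) R) • p j) :
    ∀ q : P, ∃ k : ℕ, r1 ^ k • q ∈ N := by
  have key : ∀ k : ℕ, ∀ d, tdeg d < D0 + k → ∀ q ∈ ℳ d, ∃ m : ℕ, r1 ^ m • q ∈ N := by
    intro k
    induction k with
    | zero =>
      intro d hd q hq
      refine ⟨0, ?_⟩
      rw [hD0 d (by simpa using hd) q hq, smul_zero]
      exact N.zero_mem
    | succ k ih =>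
      intro d hd q hq
      obtain ⟨u, hu, p, hp⟩ := hr1 q
      have h1 : r1 • q = pr ℳ d u +
          ∑ j, (X j : MvPolynomial (Fin n) R) • pr ℳ (d - Pi.single j 1) (p j) := by
        have h0 : pr ℳ d (r1 • q) = r1 • q := pr_of_mem ℳ ((ℳ d).smul_mem r1 hq)
        rw [← h0, hp, pr_add, pr_sum]
        congr 1
        exact Finset.sum_congr rfl (fun j _ => pr_X_smul ℳ j d (p j))
      have h2 : ∀ j, ∃ m : ℕ, r1 ^ m • pr ℳ (d - Pi.single j 1) (p j) ∈ N := fun j =>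
        ih _ (by rw [tdeg_sub_single]; push_cast at hd ⊢; omega) _ (pr_mem ℳ _ _)
      choose m hm using h2
      refine ⟨(∑ j, m j) + 1, ?_⟩
      rw [pow_succ, mul_smul, h1, smul_add, Finset.smul_sum]
      refine N.add_mem (smulR_mem N _ (hN u hu d)) (N.sum_mem fun j _ => ?_)
      rw [smul_comm]
      refine N.smul_mem _ ?_
      have hle : m j ≤ ∑ j, m j :=
        Finset.single_le_sum (fun _ _ => Nat.zero_le _) (Finset.mem_univ j)
      have hsplit : ∑ j, m j = (∑ j, m j - m j) + m j := (Nat.sub_add_cancel hle).symm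
      rw [hsplit, pow_add, mul_smul]
      exact smulR_mem N _ (hm j)
  intro q
  classical
  have hq : ∑ d ∈ (DirectSum.decompose ℳ q).support, pr ℳ d q = q :=
    DirectSum.sum_support_decompose ℳ q
  obtain ⟨S, hS⟩ : ∃ S : Finset (Fin n → ℤ), ∑ d ∈ S, pr ℳ d q = q := ⟨_, hq⟩
  have h2 : ∀ d, ∃ m : ℕ, r1 ^ m • pr ℳ d q ∈ N := fun d => by
    obtain ⟨k, hk⟩ : ∃ k : ℕ, tdeg d < D0 + k := ⟨(tdeg d - D0 + 1).toNat, by omega⟩
    exact key k d hk _ (pr_mem ℳ d q)
  choose m hm using h2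
  refine ⟨∑ d ∈ S, m d, ?_⟩
  have hq' : r1 ^ (∑ d ∈ S, m d) • q = ∑ d ∈ S, r1 ^ (∑ d ∈ S, m d) • pr ℳ d q := by
    rw [← Finset.smul_sum, hS]
  rw [hq']
  refine N.sum_mem fun d hd => ?_
  have hle : m d ≤ ∑ d ∈ S, m d := Finset.single_le_sum (fun _ _ => Nat.zero_le _) hd
  have hsplit : ∑ d ∈ S, m d = (∑ d ∈ S, m d - m d) + m d := (Nat.sub_add_cancel hle).symm
  rw [hsplit, pow_add, mul_smul]
  exact smulR_mem N _ (hm d)

omit [SetLike.GradedSMul (MvPolynomial.weightedHomogeneousSubmodule R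
    (fun i : Fin n => (Pi.single i 1 : Fin n → ℤ))) ℳ] in
theorem exists_homog_gens [Module.Finite (MvPolynomial (Fin n) R) P] :
    ∃ G : Finset P, Submodule.span (MvPolynomial (Fin n) R) (G : Set P) = ⊤ ∧
      ∀ g ∈ G, ∃ δ, g ∈ ℳ δ := by
  classical
  obtain ⟨S, hS⟩ := (Module.finite_def.1 ‹Module.Finite (MvPolynomial (Fin n) R) P›)
  refine ⟨S.biUnion (fun s => (DirectSum.decompose ℳ s).support.image (fun d => pr ℳ d s)),
    ?_, ?_⟩
  · rw [eq_top_iff, ← hS, Submodule.span_le]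
    intro s hs
    have hsum : ∑ d ∈ (DirectSum.decompose ℳ s).support, pr ℳ d s = s :=
      DirectSum.sum_support_decompose ℳ s
    rw [SetLike.mem_coe, ← hsum]
    refine Submodule.sum_mem _ (fun d hd => Submodule.subset_span ?_)
    exact Finset.mem_coe.2 (Finset.mem_biUnion.2 ⟨s, hs, Finset.mem_image.2 ⟨d, hd, rfl⟩⟩)
  · intro g hg
    obtain ⟨s, _, hg⟩ := Finset.mem_biUnion.1 hg
    obtain ⟨d, _, rfl⟩ := Finset.mem_image.1 hg
    exact ⟨d, pr_mem ℳ d s⟩

end Graded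

/-! ### Nakayama-type lemmas over a general ring -/
section Nak

variable {A : Type*} [CommRing A] {P : Type*} [AddCommGroup P] [Module A P]

theorem exists_minimal (𝔓 : Ideal A) [h𝔓 : 𝔓.IsPrime] (G : Finset P) :
    ∃ T : Finset P, T ⊆ G ∧
      (∀ g ∈ G, ∃ s : A, s ∉ 𝔓 ∧
        s • g ∈ Submodule.span A (T : Set P) ⊔ 𝔓 • (⊤ : Submodule A P)) ∧
      ∀ c : P → A, (∑ x ∈ T, c x • x) ∈ 𝔓 • (⊤ : Submodule A P) → ∀ x ∈ T, c x ∈ 𝔓 := by
  classical
  have hex : ∃ k : ℕ, ∃ T : Finset P, T ⊆ G ∧ T.card = k ∧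
      (∀ g ∈ G, ∃ s : A, s ∉ 𝔓 ∧
        s • g ∈ Submodule.span A (T : Set P) ⊔ 𝔓 • (⊤ : Submodule A P)) :=
    ⟨G.card, G, subset_rfl, rfl, fun g hg => ⟨1, (Ideal.ne_top_iff_one _).1 h𝔓.ne_top, by
      rw [one_smul]; exact Submodule.mem_sup_left (Submodule.subset_span hg)⟩⟩
  obtain ⟨T, hTG, hTc, hT⟩ := Nat.find_spec hex
  refine ⟨T, hTG, hT, ?_⟩
  intro c hc x0 hx0
  by_contra hcx
  have hlt : (T.erase x0).card < Nat.find hex := by
    rw [Finset.card_erase_of_mem hx0, hTc]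
    have : 0 < T.card := Finset.card_pos.2 ⟨x0, hx0⟩
    omega
  refine Nat.find_min hex hlt ⟨T.erase x0, (Finset.erase_subset _ _).trans hTG, rfl, ?_⟩
  obtain ⟨W, hW⟩ : ∃ W : Submodule A P,
      W = Submodule.span A ((T.erase x0 : Finset P) : Set P) ⊔ 𝔓 • (⊤ : Submodule A P) :=
    ⟨_, rfl⟩
  rw [← hW]
  have hW0 : 𝔓 • (⊤ : Submodule A P) ≤ W := by rw [hW]; exact le_sup_right
  have hW1 : ∀ x ∈ T, x ≠ x0 → x ∈ W := fun x hx hne => by
    rw [hW]
    exact Submodule.mem_sup_left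
      (Submodule.subset_span (Finset.mem_coe.2 (Finset.mem_erase.2 ⟨hne, hx⟩)))
  have hW2 : c x0 • x0 ∈ W := by
    have h1 : c x0 • x0 = (∑ x ∈ T, c x • x) - ∑ x ∈ T.erase x0, c x • x := by
      rw [← Finset.add_sum_erase T _ hx0]; abel
    rw [h1]
    refine W.sub_mem (hW0 hc) (W.sum_mem fun x hx => W.smul_mem _ ?_)
    exact hW1 x (Finset.mem_of_mem_erase hx) (Finset.ne_of_mem_erase hx)
  have hW3 : ∀ y ∈ Submodule.span A (T : Set P) ⊔ 𝔓 • (⊤ : Submodule A P), c x0 • y ∈ W := by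
    intro y hy
    obtain ⟨y1, hy1, y2, hy2, rfl⟩ := Submodule.mem_sup.1 hy
    rw [smul_add]
    refine W.add_mem ?_ (W.smul_mem _ (hW0 hy2))
    have hle : Submodule.span A (T : Set P) ≤
        W.comap ((c x0) • (LinearMap.id : P →ₗ[A] P)) := by
      rw [Submodule.span_le]
      intro x hx
      rw [SetLike.mem_coe, Submodule.mem_comap, LinearMap.smul_apply, LinearMap.id_apply]
      by_cases hne : x = x0
      · rw [hne]; exact hW2
      · exact W.smul_mem _ (hW1 x (Finset.mem_coe.1 hx) hne)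
    have := hle hy1
    rwa [Submodule.mem_comap, LinearMap.smul_apply, LinearMap.id_apply] at this
  intro g hg
  obtain ⟨s, hs, hsg⟩ := hT g hg
  refine ⟨c x0 * s, fun h => ?_, ?_⟩
  · rcases h𝔓.mem_or_mem h with h | h
    exacts [hcx h, hs h]
  · rw [mul_smul]; exact hW3 _ hsg

theorem exists_not_mem_smul_mem [Module.Finite A P] (𝔓 : Ideal A) [h𝔓 : 𝔓.IsPrime]
    (N : Submodule A P) (s : A) (hs : s ∉ 𝔓)
    (h : ∀ q : P, s • q ∈ N ⊔ 𝔓 • (⊤ : Submodule A P)) :
    ∃ Δ : A, Δ ∉ 𝔓 ∧ ∀ q : P, Δ • q ∈ N := by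
  obtain ⟨f, hfdef⟩ : ∃ f : Module.End A (P ⧸ N), f = algebraMap A (Module.End A (P ⧸ N)) s :=
    ⟨_, rfl⟩
  have hfapp : ∀ y, f y = s • y := fun y => by rw [hfdef, Module.algebraMap_end_apply]
  have hf : LinearMap.range f ≤ 𝔓 • (⊤ : Submodule A (P ⧸ N)) := by
    rintro _ ⟨y, rfl⟩
    obtain ⟨q, rfl⟩ := N.mkQ_surjective y
    obtain ⟨u, hu, z, hz, huz⟩ := Submodule.mem_sup.1 (h q)
    have h1 : f (N.mkQ q) = N.mkQ z := by
      rw [hfapp, ← map_smul, ← huz, map_add]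
      have : N.mkQ u = 0 := by
        rw [Submodule.mkQ_apply]; exact (Submodule.Quotient.mk_eq_zero N).2 hu
      rw [this, zero_add]
    rw [h1]
    have h2 : N.mkQ z ∈ Submodule.map N.mkQ (𝔓 • (⊤ : Submodule A P)) :=
      Submodule.mem_map_of_mem hz
    rw [Submodule.map_smul''] at h2
    exact Submodule.smul_mono le_rfl le_top h2
  obtain ⟨p, hmonic, _, hcoeff, haeval⟩ :=
    LinearMap.exists_monic_and_natDegree_eq_and_coeff_mem_pow_and_aeval_eq_zero A f 𝔓 hf
  refine ⟨p.eval s, ?_, ?_⟩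
  · intro hmem
    rw [Polynomial.eval_eq_sum_range, Finset.sum_range_succ, hmonic.coeff_natDegree, one_mul]
      at hmem
    have h1 : ∑ i ∈ Finset.range p.natDegree, p.coeff i * s ^ i ∈ 𝔓 :=
      𝔓.sum_mem fun i hi => 𝔓.mul_mem_right _ (by
        have hpos : p.natDegree - i ≠ 0 := by
          have := Finset.mem_range.1 hi; omega
        exact Ideal.pow_le_self hpos (hcoeff i))
    have h2 : s ^ p.natDegree ∈ 𝔓 := by
      have := 𝔓.sub_mem hmem h1
      simpa using this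
    exact hs (h𝔓.mem_of_pow_mem _ h2)
  · intro q
    have h1 : (Polynomial.aeval f p) (N.mkQ q) = 0 := by rw [haeval]; rfl
    rw [hfdef, Polynomial.aeval_algebraMap_apply_eq_algebraMap_eval,
      Module.algebraMap_end_apply] at h1
    rw [← Submodule.Quotient.mk_eq_zero N, Submodule.Quotient.mk_smul]
    exact h1

end Nak

/-! ### polynomials of low order -/
section LowDeg

variable {R : Type u} [CommRing R] {n : ℕ}

theorem exists_sum_X_of_constantCoeff_eq_zero (a : MvPolynomial (Fin n) R)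
    (ha : constantCoeff a = 0) :
    ∃ b : Fin n → MvPolynomial (Fin n) R, a = ∑ j, b j * X j := by
  have hmem : a ∈ Ideal.span (Set.range (X : Fin n → MvPolynomial (Fin n) R)) := by
    rw [← Set.image_univ, mem_ideal_span_X_image]
    intro m hm
    have hm0 : m ≠ 0 := by
      rintro rfl
      rw [mem_support_iff] at hm
      rw [constantCoeff_eq] at ha
      exact hm ha
    have hex : ∃ i, m i ≠ 0 := by
      by_contra hno
      exact hm0 (Finsupp.ext fun i => by_contra fun hi => hno ⟨i, by simpa using hi⟩)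
    obtain ⟨i, hi⟩ := hex
    exact ⟨i, Set.mem_univ _, hi⟩
  obtain ⟨b, hb⟩ := Ideal.mem_span_range_iff_exists_fun.1 hmem
  exact ⟨b, hb.symm⟩

/-- all monomials have degree at least `k` -/
def LowDeg (k : ℕ) (a : MvPolynomial (Fin n) R) : Prop :=
  ∀ s ∈ a.support, k ≤ s.sum fun _ e => e

theorem lowDeg_zero (a : MvPolynomial (Fin n) R) : LowDeg 0 a := fun _ _ => Nat.zero_le _

theorem LowDeg.add {k : ℕ} {a b : MvPolynomial (Fin n) R} (ha : LowDeg k a) (hb : LowDeg k b) :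
    LowDeg k (a + b) := by
  classical
  intro s hs
  rcases Finset.mem_union.1 (MvPolynomial.support_add hs) with h | h
  exacts [ha s h, hb s h]

theorem LowDeg.sum {k : ℕ} {ι : Type*} (t : Finset ι) (f : ι → MvPolynomial (Fin n) R)
    (h : ∀ i ∈ t, LowDeg k (f i)) : LowDeg k (∑ i ∈ t, f i) := by
  classical
  induction t using Finset.induction_on with
  | empty => intro s hs; simp at hs
  | insert a t ha ih =>
    rw [Finset.sum_insert ha]
    exact (h a (Finset.mem_insert_self a t)).add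
      (ih fun i hi => h i (Finset.mem_insert_of_mem hi))

theorem LowDeg.mul {j k : ℕ} {a b : MvPolynomial (Fin n) R} (ha : LowDeg j a) (hb : LowDeg k b) :
    LowDeg (j + k) (a * b) := by
  classical
  intro s hs
  obtain ⟨s1, hs1, s2, hs2, rfl⟩ := Finset.mem_add.1 (MvPolynomial.support_mul a b hs)
  rw [Finsupp.sum_add_index' (fun _ => rfl) (fun _ _ _ => rfl)]
  exact add_le_add (ha s1 hs1) (hb s2 hs2)

theorem lowDeg_one_of_constantCoeff {a : MvPolynomial (Fin n) R} (ha : constantCoeff a = 0) :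
    LowDeg 1 a := by
  intro s hs
  have hs0 : s ≠ 0 := by
    rintro rfl
    rw [mem_support_iff] at hs
    rw [constantCoeff_eq] at ha
    exact hs ha
  by_contra hlt
  have h0 : (s.sum fun _ e => e) = 0 := by omega
  apply hs0
  ext i
  by_contra hi
  have hi' : i ∈ s.support := Finsupp.mem_support_iff.2 (by simpa using hi)
  have hle : s i ≤ s.sum fun _ e => e :=
    Finset.single_le_sum (f := fun i => s i) (fun _ _ => Nat.zero_le _) hi'
  have : s i = 0 := by omega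
  exact hi (by simpa using this)

theorem eq_zero_of_lowDeg {k : ℕ} {a : MvPolynomial (Fin n) R} (h : LowDeg k a)
    (hd : a.totalDegree < k) : a = 0 := by
  rw [← MvPolynomial.support_eq_empty]
  by_contra hne
  obtain ⟨s, hs⟩ := Finset.nonempty_iff_ne_empty.2 hne
  have h1 := h s hs
  have h2 := MvPolynomial.le_totalDegree hs
  omega

theorem lowDeg_matrix_pow {ι : Type*} [Fintype ι] [DecidableEq ι]
    (η : Matrix ι ι (MvPolynomial (Fin n) R)) (hη : ∀ i j, LowDeg 1 (η i j)) :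
    ∀ k : ℕ, ∀ i j, LowDeg k ((η ^ k) i j) := by
  intro k
  induction k with
  | zero => intro i j; exact lowDeg_zero _
  | succ k ih =>
    intro i j
    rw [pow_succ, Matrix.mul_apply]
    exact LowDeg.sum _ _ fun l _ => (ih i l).mul (hη l j)

end LowDeg

/-! ### the relations -/
section Inj

variable {R : Type u} [CommRing R] {n : ℕ}
  {P : Type v} [AddCommGroup P] [Module (MvPolynomial (Fin n) R) P] [Module R P]
  [IsScalarTower R (MvPolynomial (Fin n) R) P]

theorem inj_part {ι : Type*} [Fintype ι] [DecidableEq ι] (fT : ι → P)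
    {γ : Type*} [Fintype γ] (gG : γ → P)
    (hG : Submodule.span (MvPolynomial (Fin n) R) (Set.range gG) = ⊤)
    [Module.Projective (MvPolynomial (Fin n) R) P]
    (pI : Ideal R) [hpI : pI.IsPrime] (r1 : R) (hr1 : r1 ∉ pI)
    (hspan : ∀ q : P, ∃ k : ℕ, r1 ^ k • q ∈
      Submodule.span (MvPolynomial (Fin n) R) (Set.range fT))
    (hindep : ∀ c : ι → MvPolynomial (Fin n) R, ∑ i, c i • fT i = 0 →
      ∀ i, constantCoeff (c i) ∈ pI) :
    ∃ r2 : R, r2 ∉ pI ∧ ∀ c : ι → MvPolynomial (Fin n) R, ∑ i, c i • fT i = 0 →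
      ∃ M : ℕ, ∀ i, (C (r1 * r2) : MvPolynomial (Fin n) R) ^ M * c i = 0 := by
  classical
  obtain ⟨π, hπdef⟩ : ∃ π : (γ → MvPolynomial (Fin n) R) →ₗ[MvPolynomial (Fin n) R] P,
      π = Fintype.linearCombination (MvPolynomial (Fin n) R) gG := ⟨_, rfl⟩
  have hπ : Function.Surjective π := by
    rw [← LinearMap.range_eq_top, hπdef, Fintype.range_linearCombination, hG]
  obtain ⟨σ, hσ⟩ := Module.projective_lifting_property π LinearMap.id hπ
  obtain ⟨φ, hφdef⟩ : ∃ φ : (ι → MvPolynomial (Fin n) R) →ₗ[MvPolynomial (Fin n) R] P,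
      φ = Fintype.linearCombination (MvPolynomial (Fin n) R) fT := ⟨_, rfl⟩
  have hφapp : ∀ c, φ c = ∑ i, c i • fT i := fun c => by
    rw [hφdef, Fintype.linearCombination_apply]
  have h1 : ∀ g : γ, ∃ (k : ℕ) (c : ι → MvPolynomial (Fin n) R), r1 ^ k • gG g = φ c := by
    intro g
    obtain ⟨k, hk⟩ := hspan (gG g)
    rw [← Fintype.range_linearCombination, ← hφdef, LinearMap.mem_range] at hk
    obtain ⟨c, hc⟩ := hk
    exact ⟨k, c, hc.symm⟩
  choose k c hc using h1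
  obtain ⟨K, hK⟩ : ∃ K : ℕ, K = ∑ g, k g := ⟨_, rfl⟩
  have h2 : ∀ g : γ, ∃ c' : ι → MvPolynomial (Fin n) R, r1 ^ K • gG g = φ c' := by
    intro g
    have hle : k g ≤ K := by
      rw [hK]; exact Finset.single_le_sum (fun _ _ => Nat.zero_le _) (Finset.mem_univ g)
    refine ⟨(C (r1 ^ (K - k g)) : MvPolynomial (Fin n) R) • c g, ?_⟩
    rw [map_smul, ← hc g, C_smul_eq, ← mul_smul, ← pow_add, Nat.sub_add_cancel hle]
  choose c' hc' using h2
  obtain ⟨ψ, hψdef⟩ : ∃ ψ : (γ → MvPolynomial (Fin n) R) →ₗ[MvPolynomial (Fin n) R]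
      (ι → MvPolynomial (Fin n) R),
      ψ = Fintype.linearCombination (MvPolynomial (Fin n) R) c' := ⟨_, rfl⟩
  have hφψ : ∀ e, φ (ψ e) = r1 ^ K • π e := by
    intro e
    rw [hψdef, hπdef, Fintype.linearCombination_apply, Fintype.linearCombination_apply,
      map_sum, Finset.smul_sum]
    refine Finset.sum_congr rfl fun g _ => ?_
    rw [map_smul, ← hc' g, smul_comm]
  have hφθ : ∀ q, φ (ψ (σ q)) = r1 ^ K • q := by
    intro q
    rw [hφψ]
    have : π (σ q) = q := LinearMap.congr_fun hσ q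
    rw [this]
  obtain ⟨ρ, hρ⟩ : ∃ ρ : MvPolynomial (Fin n) R, ρ = C (r1 ^ K) := ⟨_, rfl⟩
  obtain ⟨ε, hεdef⟩ : ∃ ε : (ι → MvPolynomial (Fin n) R) →ₗ[MvPolynomial (Fin n) R]
      (ι → MvPolynomial (Fin n) R), ε = ρ • LinearMap.id - (ψ ∘ₗ σ) ∘ₗ φ := ⟨_, rfl⟩
  have hεapp : ∀ c, ε c = ρ • c - ψ (σ (φ c)) := fun c => by
    rw [hεdef]; rfl
  have hφε : ∀ c, φ (ε c) = 0 := by
    intro c
    rw [hεapp, map_sub, map_smul, hφθ, hρ, C_smul_eq, sub_self]
  have hεker : ∀ c, φ c = 0 → ε c = ρ • c := by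
    intro c hc0
    rw [hεapp, hc0, map_zero, map_zero, sub_zero]
  obtain ⟨E, hEdef⟩ : ∃ E : Matrix ι ι (MvPolynomial (Fin n) R), E = LinearMap.toMatrix' ε :=
    ⟨_, rfl⟩
  have hEE : E * E = ρ • E := by
    have : ε ∘ₗ ε = ρ • ε := LinearMap.ext fun c => by
      rw [LinearMap.comp_apply, hεker _ (hφε c), LinearMap.smul_apply]
    rw [hEdef, ← LinearMap.toMatrix'_comp, this, map_smul]
  have hcol : ∀ i j, E i j = ε (Pi.single j 1) i := fun i j => by
    rw [hEdef, LinearMap.toMatrix'_apply]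
  have hE_mem : ∀ i j, constantCoeff (E i j) ∈ pI := by
    intro i j
    have h0 : ∑ i, (fun i => E i j) i • fT i = 0 := by
      have := hφε (Pi.single j 1)
      rw [hφapp] at this
      rw [← this]
      exact Finset.sum_congr rfl fun i _ => by simp only [hcol i j]
    exact hindep (fun i => E i j) h0 i
  -- the matrix of constant coefficients
  obtain ⟨Eb, hEb⟩ : ∃ Eb : Matrix ι ι R, Eb = E.map (constantCoeff) := ⟨_, rfl⟩
  have hEbapp : ∀ i j, Eb i j = constantCoeff (E i j) := fun i j => by rw [hEb]; rfl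
  have hEbEb : Eb * Eb = r1 ^ K • Eb := by
    ext i j
    have := congrFun (congrFun hEE i) j
    rw [Matrix.mul_apply, Matrix.smul_apply] at this
    rw [Matrix.mul_apply, Matrix.smul_apply]
    have h3 := congrArg (constantCoeff) this
    rw [map_sum, smul_eq_mul, map_mul, hρ, constantCoeff_C] at h3
    rw [hEbapp, smul_eq_mul, ← h3]
    exact Finset.sum_congr rfl fun l _ => by rw [hEbapp, hEbapp, map_mul]
  obtain ⟨r2, hr2def⟩ : ∃ r2 : R, r2 = (r1 ^ K • (1 : Matrix ι ι R) - Eb).det := ⟨_, rfl⟩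
  have hr2 : r2 ∉ pI := by
    intro hmem
    have h0 : (Ideal.Quotient.mk pI) r2 = 0 := Ideal.Quotient.eq_zero_iff_mem.2 hmem
    rw [hr2def, RingHom.map_det] at h0
    have hM : (Ideal.Quotient.mk pI).mapMatrix (r1 ^ K • (1 : Matrix ι ι R) - Eb) =
        (Ideal.Quotient.mk pI (r1 ^ K)) • (1 : Matrix ι ι (R ⧸ pI)) := by
      ext i j
      rw [RingHom.mapMatrix_apply, Matrix.map_apply, Matrix.sub_apply, Matrix.smul_apply,
        Matrix.smul_apply, map_sub, hEbapp,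
        Ideal.Quotient.eq_zero_iff_mem.2 (hE_mem i j), sub_zero, smul_eq_mul, smul_eq_mul,
        map_mul]
      by_cases hij : i = j
      · rw [hij, Matrix.one_apply_eq, Matrix.one_apply_eq, map_one]
      · rw [Matrix.one_apply_ne hij, Matrix.one_apply_ne hij, map_zero]
    rw [hM, Matrix.det_smul, Matrix.det_one, mul_one] at h0
    haveI : IsDomain (R ⧸ pI) := Ideal.Quotient.isDomain pI
    refine pow_ne_zero _ (fun h => hr1 (hpI.mem_of_pow_mem K ?_)) h0
    exact Ideal.Quotient.eq_zero_iff_mem.1 h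
  have hEbr2 : r2 • Eb = 0 := by
    have h3 : Eb * (r1 ^ K • (1 : Matrix ι ι R) - Eb) = 0 := by
      rw [Matrix.mul_sub, Matrix.mul_smul, Matrix.mul_one, hEbEb, sub_self]
    have h4 := congrArg (· * (r1 ^ K • (1 : Matrix ι ι R) - Eb).adjugate) h3
    simp only [Matrix.mul_assoc, Matrix.mul_adjugate, Matrix.zero_mul, Matrix.mul_smul,
      Matrix.mul_one] at h4
    rw [hr2def]; exact h4
  -- η
  obtain ⟨η, hηdef⟩ : ∃ η : Matrix ι ι (MvPolynomial (Fin n) R), η = (C r2 : MvPolynomial (Fin n) R) • E := ⟨_, rfl⟩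
  have hηapp : ∀ i j, η i j = C r2 * E i j := fun i j => by rw [hηdef]; rfl
  have hη1 : ∀ i j, LowDeg 1 (η i j) := by
    intro i j
    apply lowDeg_one_of_constantCoeff
    rw [hηapp, map_mul, constantCoeff_C, ← hEbapp]
    have := congrFun (congrFun hEbr2 i) j
    rwa [Matrix.smul_apply, smul_eq_mul] at this
  obtain ⟨τ, hτ⟩ : ∃ τ : MvPolynomial (Fin n) R, τ = C r2 * ρ := ⟨_, rfl⟩
  have hηη : η * η = τ • η := by
    rw [hηdef, Matrix.smul_mul, Matrix.mul_smul, hEE, smul_smul, smul_smul, smul_smul, hτ]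
    congr 1
    ring
  have hηpow : ∀ k : ℕ, η ^ (k + 1) = τ ^ k • η := by
    intro k
    induction k with
    | zero => simp
    | succ k ih => rw [pow_succ, ih, Matrix.smul_mul, hηη, smul_smul, ← pow_succ]
  obtain ⟨D, hD⟩ : ∃ D : ℕ, D = ∑ i, ∑ j, (η i j).totalDegree := ⟨_, rfl⟩
  have hDle : ∀ i j, (η i j).totalDegree ≤ D := by
    intro i j
    rw [hD]
    refine le_trans ?_ (Finset.single_le_sum (f := fun i => ∑ j, (η i j).totalDegree)
      (fun _ _ => Nat.zero_le _) (Finset.mem_univ i))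
    exact Finset.single_le_sum (f := fun j => (η i j).totalDegree)
      (fun _ _ => Nat.zero_le _) (Finset.mem_univ j)
  have hτC : ∀ k : ℕ, τ ^ k = C ((r2 * r1 ^ K) ^ k) := by
    intro k
    rw [hτ, hρ, ← map_mul, ← map_pow]
  have hkill : ∀ i j, τ ^ D * η i j = 0 := by
    intro i j
    have h3 : LowDeg (D + 1) ((η ^ (D + 1)) i j) := lowDeg_matrix_pow η hη1 (D + 1) i j
    rw [hηpow, Matrix.smul_apply, smul_eq_mul] at h3
    refine eq_zero_of_lowDeg h3 ?_
    have h4 := MvPolynomial.totalDegree_mul (τ ^ D) (η i j)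
    rw [hτC, totalDegree_C, zero_add] at h4
    rw [hτC]
    have := hDle i j
    omega
  refine ⟨r2, hr2, ?_⟩
  intro c hc0
  have hφc : φ c = 0 := by rw [hφapp]; exact hc0
  have h5 : E.mulVec c = ρ • c := by
    rw [hEdef, LinearMap.toMatrix'_mulVec, hεker c hφc]
  refine ⟨(K + 1) * (D + 1), fun i => ?_⟩
  have h6 : ∑ j, E i j * c j = ρ * c i := by
    have := congrFun h5 i
    rwa [Matrix.mulVec, dotProduct, Pi.smul_apply, smul_eq_mul] at this
  have h7 : τ ^ D * C r2 * ρ * c i = 0 := by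
    have : τ ^ D * C r2 * (ρ * c i) = 0 := by
      rw [← h6, Finset.mul_sum]
      refine Finset.sum_eq_zero fun j _ => ?_
      have := hkill i j
      rw [hηapp] at this
      calc τ ^ D * C r2 * (E i j * c j) = (τ ^ D * (C r2 * E i j)) * c j := by ring
        _ = 0 := by rw [this, zero_mul]
    rw [← this]; ring
  have h8 : (C (r1 * r2) : MvPolynomial (Fin n) R) ^ ((K + 1) * (D + 1)) =
      C (r1 ^ (D + 1) * r2 ^ (K * (D + 1))) * (τ ^ D * C r2 * ρ) := by
    rw [hτC, hρ, ← map_pow, ← map_mul, ← map_mul, ← map_mul]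
    congr 1
    ring
  rw [h8, mul_assoc, h7, mul_zero]

end Inj

/-! ### reindexing -/
theorem reindex {A P D : Type*} [CommRing A] [AddCommGroup P] [Module A P] (ℳ' : D → Set P)
    (ρ : A) {ι : Type*} [Fintype ι] (d : ι → D) (f : ι → P) (h1 : ∀ i, f i ∈ ℳ' (d i))
    (h2 : ∀ q : P, ∃ (N : ℕ) (c : ι → A), ρ ^ N • q = ∑ i, c i • f i)
    (h3 : ∀ c : ι → A, ∑ i, c i • f i = 0 → ∃ N : ℕ, ∀ i, ρ ^ N * c i = 0) :
    ∃ (m : ℕ) (d' : Fin m → D) (f' : Fin m → P), (∀ i, f' i ∈ ℳ' (d' i)) ∧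
      (∀ q : P, ∃ (N : ℕ) (c : Fin m → A), ρ ^ N • q = ∑ i, c i • f' i) ∧
      (∀ c : Fin m → A, ∑ i, c i • f' i = 0 → ∃ N : ℕ, ∀ i, ρ ^ N * c i = 0) := by
  classical
  obtain ⟨e⟩ : Nonempty (ι ≃ Fin (Fintype.card ι)) := ⟨Fintype.equivFin ι⟩
  refine ⟨Fintype.card ι, fun j => d (e.symm j), fun j => f (e.symm j), fun i => h1 _, ?_, ?_⟩
  · intro q
    obtain ⟨N, c, hc⟩ := h2 q
    refine ⟨N, fun j => c (e.symm j), ?_⟩
    rw [hc]
    exact (Equiv.sum_comp e.symm (fun i => c i • f i)).symm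
  · intro c hc
    have h := Equiv.sum_comp e (fun j => c j • f (e.symm j))
    simp only [Equiv.symm_apply_apply] at h
    obtain ⟨N, hN⟩ := h3 (fun i => c (e i)) (h.trans hc)
    exact ⟨N, fun j => by simpa using hN (e.symm j)⟩

/-! ### the main theorem -/
theorem main19649 {R : Type u} [CommRing R] (n : ℕ)
    {P : Type v} [AddCommGroup P] [Module (MvPolynomial (Fin n) R) P] [Module R P]
    [IsScalarTower R (MvPolynomial (Fin n) R) P]
    (ℳ : (Fin n → ℤ) → Submodule R P) [DirectSum.Decomposition ℳ]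
    [SetLike.GradedSMul (MvPolynomial.weightedHomogeneousSubmodule R
      (fun i : Fin n => (Pi.single i 1 : Fin n → ℤ))) ℳ]
    [Module.Finite (MvPolynomial (Fin n) R) P] [Module.Projective (MvPolynomial (Fin n) R) P]
    (p : PrimeSpectrum R) :
    ∃ r : R, r ∉ p.asIdeal ∧ ∃ (m : ℕ) (d : Fin m → (Fin n → ℤ)) (f : Fin m → P),
      (∀ i, f i ∈ ℳ (d i)) ∧
      (∀ q : P, ∃ (N : ℕ) (c : Fin m → MvPolynomial (Fin n) R),
        (MvPolynomial.C r : MvPolynomial (Fin n) R) ^ N • q = ∑ i, c i • f i) ∧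
      (∀ c : Fin m → MvPolynomial (Fin n) R, ∑ i, c i • f i = 0 →
        ∃ N : ℕ, ∀ i, (MvPolynomial.C r : MvPolynomial (Fin n) R) ^ N * c i = 0) := by
  classical
  obtain ⟨𝔓, h𝔓def⟩ : ∃ 𝔓 : Ideal (MvPolynomial (Fin n) R),
      𝔓 = Ideal.comap (constantCoeff : MvPolynomial (Fin n) R →+* R) p.asIdeal := ⟨_, rfl⟩
  have h𝔓mem : ∀ a, a ∈ 𝔓 ↔ constantCoeff a ∈ p.asIdeal := fun a => by
    rw [h𝔓def, Ideal.mem_comap]
  haveI h𝔓 : 𝔓.IsPrime := by rw [h𝔓def]; exact Ideal.comap_isPrime _ _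
  obtain ⟨G, hGspan, hGhom⟩ := exists_homog_gens ℳ
  choose! δ hδ using hGhom
  obtain ⟨T, hTG, hT, hTind⟩ := exists_minimal 𝔓 G
  obtain ⟨N, hNdef⟩ : ∃ N : Submodule (MvPolynomial (Fin n) R) P,
      N = Submodule.span (MvPolynomial (Fin n) R) (T : Set P) := ⟨_, rfl⟩
  rw [← hNdef] at hT
  choose! s hs using hT
  obtain ⟨S, hSdef⟩ : ∃ S : MvPolynomial (Fin n) R, S = ∏ g ∈ G, s g := ⟨_, rfl⟩
  have hS : S ∉ 𝔓 := by
    rw [hSdef, Ideal.IsPrime.prod_mem_iff]
    rintro ⟨g, hg, hmem⟩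
    exact (hs g hg).1 hmem
  have hSq : ∀ q : P, S • q ∈ N ⊔ 𝔓 • (⊤ : Submodule (MvPolynomial (Fin n) R) P) := by
    have hle : Submodule.span (MvPolynomial (Fin n) R) (G : Set P) ≤
        (N ⊔ 𝔓 • (⊤ : Submodule (MvPolynomial (Fin n) R) P)).comap
          (S • (LinearMap.id : P →ₗ[MvPolynomial (Fin n) R] P)) := by
      rw [Submodule.span_le]
      intro g hg
      rw [SetLike.mem_coe, Submodule.mem_comap, LinearMap.smul_apply, LinearMap.id_apply,
        hSdef, ← Finset.mul_prod_erase G s (Finset.mem_coe.1 hg), mul_comm, mul_smul]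
      exact Submodule.smul_mem _ _ (hs g (Finset.mem_coe.1 hg)).2
    rw [hGspan] at hle
    intro q
    have := hle (Submodule.mem_top (x := q))
    rwa [Submodule.mem_comap, LinearMap.smul_apply, LinearMap.id_apply] at this
  obtain ⟨Δ, hΔ, hΔN⟩ := exists_not_mem_smul_mem 𝔓 N S hS hSq
  obtain ⟨r1, hr1def⟩ : ∃ r1 : R, r1 = constantCoeff Δ := ⟨_, rfl⟩
  have hr1 : r1 ∉ p.asIdeal := fun h => hΔ ((h𝔓mem Δ).2 (hr1def ▸ h))
  obtain ⟨b, hb⟩ := exists_sum_X_of_constantCoeff_eq_zero (Δ - C r1)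
    (by rw [map_sub, constantCoeff_C, hr1def, sub_self])
  have hr1q : ∀ q : P, ∃ u ∈ N, ∃ pp : Fin n → P,
      r1 • q = u + ∑ j, (X j : MvPolynomial (Fin n) R) • pp j := by
    intro q
    refine ⟨Δ • q, hΔN q, fun j => -(b j • q), ?_⟩
    have h1 : ∑ j, (X j : MvPolynomial (Fin n) R) • (b j • q) = (Δ - C r1) • q := by
      rw [hb, Finset.sum_smul]
      exact Finset.sum_congr rfl fun j _ => by rw [mul_comm, mul_smul]
    simp only [smul_neg, Finset.sum_neg_distrib]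
    rw [h1, sub_smul, C_smul_eq]
    abel
  -- homogeneity of N
  have hTN : ∀ x ∈ T, x ∈ N := fun x hx => by
    rw [hNdef]; exact Submodule.subset_span (Finset.mem_coe.2 hx)
  have hNpr : ∀ u ∈ N, ∀ d, pr ℳ d u ∈ N := by
    intro u hu d
    rw [hNdef] at hu
    obtain ⟨a, _, rfl⟩ := Submodule.mem_span_finset.1 hu
    rw [pr_sum]
    exact N.sum_mem fun x hx => pr_smul_mem_of_mem ℳ (hδ x (hTG hx)) (hTN x hx) (a x) d
  obtain ⟨D0, hD0def⟩ : ∃ D0 : ℤ, D0 = -∑ g ∈ G, |tdeg (δ g)| := ⟨_, rfl⟩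
  have hD0le : ∀ g ∈ G, D0 ≤ tdeg (δ g) := by
    intro g hg
    rw [hD0def]
    refine le_trans (neg_le_neg ?_) (neg_abs_le _)
    exact Finset.single_le_sum (f := fun g => |tdeg (δ g)|) (fun _ _ => abs_nonneg _) hg
  have hD0 : ∀ d, tdeg d < D0 → ∀ q ∈ ℳ d, q = 0 := by
    intro d hd q hq
    have hqtop : q ∈ Submodule.span (MvPolynomial (Fin n) R) (G : Set P) := by
      rw [hGspan]; exact Submodule.mem_top
    obtain ⟨a, _, hqa⟩ := Submodule.mem_span_finset.1 hqtop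
    rw [← pr_of_mem ℳ hq, ← hqa, pr_sum]
    exact Finset.sum_eq_zero fun g hg =>
      pr_smul_eq_zero_of_tdeg_lt ℳ (hδ g hg) (a g) d (lt_of_lt_of_le hd (hD0le g hg))
  have hspan1 := graded_span ℳ N r1 hNpr D0 hD0 hr1q
  -- index types
  have hrangeT : Set.range (fun i : {x // x ∈ T} => (i : P)) = (T : Set P) := by
    ext x; simp
  have hrangeG : Set.range (fun i : {x // x ∈ G} => (i : P)) = (G : Set P) := by
    ext x; simp
  have hindep : ∀ c : {x // x ∈ T} → MvPolynomial (Fin n) R,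
      ∑ i, c i • (i : P) = 0 → ∀ i, constantCoeff (c i) ∈ p.asIdeal := by
    intro c hc i
    have h1 : ∑ x ∈ T, (fun x => if h : x ∈ T then c ⟨x, h⟩ else 0) x • x = 0 := by
      rw [← Finset.sum_coe_sort T (fun x => (if h : x ∈ T then c ⟨x, h⟩ else 0) • x), ← hc]
      exact Finset.sum_congr rfl fun j _ => by rw [dif_pos j.2]
    have h2 := hTind (fun x => if h : x ∈ T then c ⟨x, h⟩ else 0)
      (by rw [h1]; exact Submodule.zero_mem _) i.1 i.2
    rw [h𝔓mem] at h2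
    simpa [dif_pos i.2] using h2
  obtain ⟨r2, hr2, hinj⟩ := inj_part (fun i : {x // x ∈ T} => (i : P))
    (fun i : {x // x ∈ G} => (i : P)) (by rw [hrangeG]; exact hGspan) p.asIdeal r1 hr1
    (by rw [hrangeT, ← hNdef]; exact hspan1) hindep
  refine ⟨r1 * r2, fun h => ?_, ?_⟩
  · rcases p.isPrime.mem_or_mem h with h | h
    exacts [hr1 h, hr2 h]
  refine reindex (fun d => ((ℳ d : Submodule R P) : Set P)) (C (r1 * r2))
    (fun i : {x // x ∈ T} => δ (i : P)) (fun i : {x // x ∈ T} => (i : P))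
    (fun i => hδ _ (hTG i.2)) ?_ hinj
  intro q
  obtain ⟨k, hk⟩ := hspan1 q
  rw [hNdef, ← hrangeT] at hk
  obtain ⟨c, hc⟩ := (Submodule.mem_span_range_iff_exists_fun _).1 hk
  refine ⟨k, fun i => C (r2 ^ k) * c i, ?_⟩
  have h1 : (C (r1 * r2) : MvPolynomial (Fin n) R) ^ k = C (r2 ^ k) * C (r1 ^ k) := by
    rw [← map_pow, ← map_mul]; congr 1; rw [mul_pow, mul_comm]
  rw [h1, mul_smul, C_smul_eq (r1 ^ k), ← hc, Finset.smul_sum]
  exact Finset.sum_congr rfl fun i _ => by rw [mul_smul]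

end Groth.Agent.Lib.GrProjH1
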