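import Mathlib

/-! A positively graded algebra which is smooth along its zero section and whose conormal module
is free is a polynomial ring (helper1). -/

set_option autoImplicit false
set_option maxHeartbeats 1000000

universe u

open MvPolynomial

namespace Groth.Agent.Lib.GrSmoothH1

section Abstract

/-- if `P ⧸ K` is formally smooth and `K ≤ 𝔫 ^ 2` then `K ≤ 𝔫 * K` -/
theorem le_mul_of_formallySmooth_quotient {A P : Type*} [CommRing A] [CommRing P] [Algebra A P]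
    (𝔫 K : Ideal P) (hK : K ≤ 𝔫 ^ 2) [Algebra.FormallySmooth A (P ⧸ K)] : K ≤ 𝔫 * K := by
  have hK1 : K ≤ 𝔫 := hK.trans (Ideal.pow_le_self two_ne_zero)
  have hle : 𝔫 * K ≤ K := Ideal.mul_le_right
  let g : (P ⧸ (𝔫 * K)) →ₐ[A] (P ⧸ K) :=
    Ideal.Quotient.liftₐ (𝔫 * K) (Ideal.Quotient.mkₐ A K) (fun a ha => by
      rw [Ideal.Quotient.mkₐ_eq_mk, Ideal.Quotient.eq_zero_iff_mem]
      exact hle ha)
  have hg : ∀ x : P, g (Ideal.Quotient.mk _ x) = Ideal.Quotient.mk _ x := fun x => rfl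
  have hgs : Function.Surjective g := by
    intro y
    obtain ⟨x, rfl⟩ := Ideal.Quotient.mk_surjective y
    exact ⟨Ideal.Quotient.mk _ x, hg x⟩
  have hker : ∀ y, g y = 0 → ∃ k ∈ K, Ideal.Quotient.mk (𝔫 * K) k = y := by
    intro y hy
    obtain ⟨x, rfl⟩ := Ideal.Quotient.mk_surjective y
    rw [hg, Ideal.Quotient.eq_zero_iff_mem] at hy
    exact ⟨x, hy, rfl⟩
  have hnil : IsNilpotent (RingHom.ker (g : (P ⧸ (𝔫 * K)) →+* (P ⧸ K))) := by
    refine ⟨2, ?_⟩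
    rw [Ideal.zero_eq_bot, eq_bot_iff, pow_two, Ideal.mul_le]
    intro y hy z hz
    obtain ⟨k, hk, rfl⟩ := hker y hy
    obtain ⟨k', hk', rfl⟩ := hker z hz
    rw [Ideal.mem_bot, ← map_mul, Ideal.Quotient.eq_zero_iff_mem]
    exact Ideal.mul_mem_mul (hK1 hk) hk'
  let σ := Algebra.FormallySmooth.liftOfSurjective (AlgHom.id A (P ⧸ K)) g hgs hnil
  have hσ : ∀ y, g (σ y) = y :=
    fun y => Algebra.FormallySmooth.liftOfSurjective_apply _ g hgs hnil y
  have hS : ∀ x : P, ∃ k ∈ K, σ (Ideal.Quotient.mk K x) = Ideal.Quotient.mk (𝔫 * K) (x - k) := by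
    intro x
    obtain ⟨k, hk, h⟩ := hker (Ideal.Quotient.mk (𝔫 * K) x - σ (Ideal.Quotient.mk K x)) (by
      rw [map_sub, hg, hσ, sub_self])
    refine ⟨k, hk, ?_⟩
    rw [map_sub, h]
    ring
  have hprod : ∀ x ∈ 𝔫, ∀ y ∈ 𝔫,
      Ideal.Quotient.mk (𝔫 * K) (x * y) = σ (Ideal.Quotient.mk K (x * y)) := by
    intro x hx y hy
    obtain ⟨k, hk, h1⟩ := hS x
    obtain ⟨k', hk', h2⟩ := hS y
    rw [map_mul (Ideal.Quotient.mk K) x y, map_mul σ, h1, h2, ← map_mul, Ideal.Quotient.eq]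
    have e : x * y - (x - k) * (y - k') = x * k' + y * k - k * k' := by ring
    rw [e]
    refine Ideal.sub_mem _ (Ideal.add_mem _ (Ideal.mul_mem_mul hx hk') (Ideal.mul_mem_mul hy hk))
      (Ideal.mul_mem_mul (hK1 hk) hk')
  have hsq : ∀ z ∈ 𝔫 ^ 2, Ideal.Quotient.mk (𝔫 * K) z = σ (Ideal.Quotient.mk K z) := by
    intro z hz
    rw [pow_two] at hz
    refine Submodule.mul_induction_on hz ?_ ?_
    · intro x hx y hy
      exact hprod x hx y hy
    · intro x y hx hy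
      rw [map_add, map_add, map_add, hx, hy]
  intro k hk
  have h1 := hsq k (hK hk)
  rw [Ideal.Quotient.eq_zero_iff_mem.mpr hk, map_zero] at h1
  exact Ideal.Quotient.eq_zero_iff_mem.mp h1

theorem le_pow_of_le_mul {P : Type*} [CommRing P] (𝔫 K : Ideal P) (h : K ≤ 𝔫 * K) (m : ℕ) :
    K ≤ 𝔫 ^ m := by
  induction m with
  | zero =>
    rw [pow_zero, Ideal.one_eq_top]
    exact le_top
  | succ m ih =>
    rw [pow_succ']
    exact h.trans (Ideal.mul_mono_right ih)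

/-- `f - 1 ∈ 𝔫` and `f ^ t * k ∈ 𝔫 ^ m` imply `k ∈ 𝔫 ^ m` -/
theorem mem_pow_of_unit_mul {P : Type*} [CommRing P] (𝔫 : Ideal P) (f k : P) (hf : f - 1 ∈ 𝔫)
    (t m : ℕ) (h : f ^ t * k ∈ 𝔫 ^ m) : k ∈ 𝔫 ^ m := by
  have hft : f ^ t - 1 ∈ 𝔫 := by
    have h1 : f - 1 ∣ f ^ t - 1 ^ t := sub_dvd_pow_sub_pow f 1 t
    rw [one_pow] at h1
    obtain ⟨c, hc⟩ := h1
    rw [hc]
    exact 𝔫.mul_mem_right c hf
  have key : ∀ j, j ≤ m → k ∈ 𝔫 ^ j := by
    intro j
    induction j with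
    | zero =>
      intro _
      rw [pow_zero, Ideal.one_eq_top]
      exact Submodule.mem_top
    | succ j ih =>
      intro hj
      have h1 : k = f ^ t * k - (f ^ t - 1) * k := by ring
      rw [h1]
      refine Ideal.sub_mem _ (Ideal.pow_le_pow_right hj h) ?_
      rw [pow_succ']
      exact Ideal.mul_mem_mul hft (ih (by omega))
  exact key m le_rfl

end Abstract

section Poly

variable {A : Type*} [CommRing A] {r : ℕ}

theorem eq_zero_of_forall_mem_pow (k : MvPolynomial (Fin r) A)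
    (h : ∀ m, k ∈ idealOfVars (Fin r) A ^ m) : k = 0 := by
  ext x
  rw [coeff_zero]
  exact (mem_pow_idealOfVars_iff' (Finsupp.degree x + 1) k).mp (h _) x (Nat.lt_succ_self _)

theorem degree_lt_two (x : Fin r →₀ ℕ) (hx : Finsupp.degree x < 2) :
    x = 0 ∨ ∃ j, x = Finsupp.single j 1 := by
  by_cases h0 : x = 0
  · exact Or.inl h0
  · right
    obtain ⟨j, hj⟩ : ∃ j, x j ≠ 0 := by
      by_contra hall
      push Not at hall
      exact h0 (Finsupp.ext hall)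
    refine ⟨j, ?_⟩
    have hdeg : Finsupp.degree x = ∑ i, x i := by
      rw [Finsupp.degree_eq_sum]
    have hsplit : ∑ i, x i = x j + ∑ i ∈ Finset.univ.erase j, x i :=
      (Finset.add_sum_erase _ _ (Finset.mem_univ j)).symm
    have hxj : x j = 1 := by omega
    have hrest : ∑ i ∈ Finset.univ.erase j, x i = 0 := by omega
    ext i
    by_cases hij : i = j
    · rw [hij, Finsupp.single_eq_same, hxj]
    · rw [Finsupp.single_eq_of_ne hij]
      exact Finset.sum_eq_zero_iff.mp hrest i (Finset.mem_erase.mpr ⟨hij, Finset.mem_univ i⟩)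

end Poly

section Graded

variable {A B : Type u} [CommRing A] [CommRing B] [Algebra A B]
  (𝒜 : ℕ → Submodule A B) [GradedAlgebra 𝒜]

/-- the irrelevant ideal -/
noncomputable abbrev Irr : Ideal B := (HomogeneousIdeal.irrelevant 𝒜).toIdeal

theorem irr_hom : (Irr 𝒜).IsHomogeneous 𝒜 := (HomogeneousIdeal.irrelevant 𝒜).isHomogeneous

theorem mem_irr_iff (x : B) : x ∈ Irr 𝒜 ↔ (DirectSum.decompose 𝒜 x 0 : B) = 0 := Iff.rfl

theorem irr_sq_hom : ((Irr 𝒜) ^ 2).IsHomogeneous 𝒜 := by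
  rw [pow_two]
  exact (irr_hom 𝒜).mul (irr_hom 𝒜)

theorem exists_bound (x : B) :
    ∃ T : Finset ℕ, ∀ d, d ∉ T → (DirectSum.decompose 𝒜 x d : B) = 0 := by
  classical
  refine ⟨(DirectSum.decompose 𝒜 x).support, fun d hd => ?_⟩
  rw [DFinsupp.notMem_support_iff] at hd
  rw [hd]
  rfl

/-- degree `d` projection on the irrelevant ideal -/
noncomputable def prI (d : ℕ) : (Irr 𝒜) →ₗ[A] (Irr 𝒜) where
  toFun x := ⟨GradedAlgebra.proj 𝒜 d (x : B), irr_hom 𝒜 d x.2⟩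
  map_add' x y := by
    apply Subtype.ext
    show GradedAlgebra.proj 𝒜 d ((x : B) + (y : B)) =
      GradedAlgebra.proj 𝒜 d (x : B) + GradedAlgebra.proj 𝒜 d (y : B)
    exact map_add _ _ _
  map_smul' c x := by
    apply Subtype.ext
    show GradedAlgebra.proj 𝒜 d (c • (x : B)) = c • GradedAlgebra.proj 𝒜 d (x : B)
    exact map_smul _ _ _

theorem coe_prI (d : ℕ) (x : Irr 𝒜) :
    ((prI 𝒜 d x : Irr 𝒜) : B) = (DirectSum.decompose 𝒜 (x : B) d : B) := rfl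

theorem prI_of_mem_ne (d d' : ℕ) (x : Irr 𝒜) (hx : (x : B) ∈ 𝒜 d) (h : d ≠ d') :
    prI 𝒜 d' x = 0 := by
  apply Subtype.ext
  rw [coe_prI, DirectSum.decompose_of_mem_ne 𝒜 hx h]
  rfl

theorem prI_of_mem_same (d : ℕ) (x : Irr 𝒜) (hx : (x : B) ∈ 𝒜 d) : prI 𝒜 d x = x := by
  apply Subtype.ext
  rw [coe_prI, DirectSum.decompose_of_mem_same 𝒜 hx]

variable {r : ℕ} (bN : Module.Basis (Fin r) A (Irr 𝒜).Cotangent)

/-- the `A`-linear cotangent map -/
noncomputable def piA : (Irr 𝒜) →ₗ[A] (Irr 𝒜).Cotangent :=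
  (Irr 𝒜).toCotangent.restrictScalars A

/-- chosen lifts of the basis -/
noncomputable def beta (j : Fin r) : Irr 𝒜 :=
  Classical.choose ((Irr 𝒜).toCotangent_surjective (bN j))

theorem pi_beta (j : Fin r) : piA 𝒜 (beta 𝒜 bN j) = bN j :=
  Classical.choose_spec ((Irr 𝒜).toCotangent_surjective (bN j))

/-- a section of the cotangent map -/
noncomputable def s0 : (Irr 𝒜).Cotangent →ₗ[A] (Irr 𝒜) := bN.constr A (beta 𝒜 bN)

theorem pi_s0 (n : (Irr 𝒜).Cotangent) : piA 𝒜 (s0 𝒜 bN n) = n := by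
  have h : (piA 𝒜) ∘ₗ (s0 𝒜 bN) = LinearMap.id := by
    apply bN.ext
    intro j
    rw [LinearMap.comp_apply, s0, Module.Basis.constr_basis, pi_beta, LinearMap.id_apply]
  exact LinearMap.congr_fun h n

/-- `s0 ∘ π` -/
noncomputable def ww : (Irr 𝒜) →ₗ[A] (Irr 𝒜) := (s0 𝒜 bN) ∘ₗ (piA 𝒜)

theorem ww_sub_mem (x : Irr 𝒜) : ((x : B) - (ww 𝒜 bN x : B)) ∈ (Irr 𝒜) ^ 2 := by
  rw [← Ideal.toCotangent_eq]
  exact (pi_s0 𝒜 bN (piA 𝒜 x)).symm

theorem ww_apply (x : Irr 𝒜) :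
    ww 𝒜 bN x = ∑ j, bN.repr (piA 𝒜 x) j • beta 𝒜 bN j := by
  unfold ww s0
  rw [LinearMap.comp_apply, Module.Basis.constr_apply_fintype]
  simp only [Module.Basis.equivFun_apply]

theorem ww_of_sq (x : Irr 𝒜) (hx : (x : B) ∈ (Irr 𝒜) ^ 2) : ww 𝒜 bN x = 0 := by
  unfold ww
  rw [LinearMap.comp_apply]
  have h : piA 𝒜 x = 0 := (Ideal.toCotangent_eq_zero _ x).mpr hx
  rw [h, map_zero]

theorem exists_T : ∃ T : Finset ℕ, ∀ j : Fin r, ∀ d, d ∉ T →
    (DirectSum.decompose 𝒜 (beta 𝒜 bN j : B) d : B) = 0 := by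
  classical
  choose Tj hTj using fun j : Fin r => exists_bound 𝒜 (beta 𝒜 bN j : B)
  exact ⟨Finset.univ.biUnion Tj, fun j d hd =>
    hTj j d (fun h => hd (Finset.mem_biUnion.mpr ⟨j, Finset.mem_univ j, h⟩))⟩

variable (T : Finset ℕ)

/-- the graded refinement of `s0 ∘ π` -/
noncomputable def shat : (Irr 𝒜) →ₗ[A] (Irr 𝒜) :=
  ∑ d ∈ T, (prI 𝒜 d) ∘ₗ (ww 𝒜 bN) ∘ₗ (prI 𝒜 d)

theorem shat_apply (x : Irr 𝒜) :
    shat 𝒜 bN T x = ∑ d ∈ T, prI 𝒜 d (ww 𝒜 bN (prI 𝒜 d x)) := by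
  unfold shat
  rw [LinearMap.sum_apply]
  rfl

theorem shat_of_sq (x : Irr 𝒜) (hx : (x : B) ∈ (Irr 𝒜) ^ 2) : shat 𝒜 bN T x = 0 := by
  rw [shat_apply]
  refine Finset.sum_eq_zero (fun d _ => ?_)
  rw [ww_of_sq 𝒜 bN (prI 𝒜 d x) (irr_sq_hom 𝒜 d hx), map_zero]

theorem shat_ww (x : Irr 𝒜) : shat 𝒜 bN T (ww 𝒜 bN x) = shat 𝒜 bN T x := by
  have h := shat_of_sq 𝒜 bN T (x - ww 𝒜 bN x) (by
    rw [AddSubgroupClass.coe_sub]
    exact ww_sub_mem 𝒜 bN x)
  rw [map_sub, sub_eq_zero] at h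
  exact h.symm

theorem prI_ww_of_notMem
    (hT : ∀ j : Fin r, ∀ d, d ∉ T → (DirectSum.decompose 𝒜 (beta 𝒜 bN j : B) d : B) = 0)
    (d : ℕ) (hd : d ∉ T) (x : Irr 𝒜) : prI 𝒜 d (ww 𝒜 bN x) = 0 := by
  rw [ww_apply, map_sum]
  refine Finset.sum_eq_zero (fun j _ => ?_)
  rw [map_smul]
  have h : prI 𝒜 d (beta 𝒜 bN j) = 0 := Subtype.ext (hT j d hd)
  rw [h, smul_zero]

theorem shat_of_mem
    (hT : ∀ j : Fin r, ∀ d, d ∉ T → (DirectSum.decompose 𝒜 (beta 𝒜 bN j : B) d : B) = 0)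
    (d : ℕ) (x : Irr 𝒜) (hx : (x : B) ∈ 𝒜 d) :
    shat 𝒜 bN T x = prI 𝒜 d (ww 𝒜 bN x) := by
  rw [shat_apply, Finset.sum_eq_single d]
  · rw [prI_of_mem_same 𝒜 d x hx]
  · intro d' _ hne
    rw [prI_of_mem_ne 𝒜 d d' x hx (Ne.symm hne), map_zero, map_zero]
  · intro hd
    rw [prI_of_mem_same 𝒜 d x hx]
    exact prI_ww_of_notMem 𝒜 bN T hT d hd x

/-- the generators -/
noncomputable def gen (j : Fin r) : B := (shat 𝒜 bN T (beta 𝒜 bN j) : B)

theorem gen_mem (j : Fin r) : gen 𝒜 bN T j ∈ Irr 𝒜 := (shat 𝒜 bN T (beta 𝒜 bN j)).2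

theorem shat_eq_sum (x : Irr 𝒜) :
    ((shat 𝒜 bN T x : Irr 𝒜) : B) = ∑ j, bN.repr (piA 𝒜 x) j • gen 𝒜 bN T j := by
  rw [← shat_ww, ww_apply, map_sum, Submodule.coe_sum]
  refine Finset.sum_congr rfl (fun j _ => ?_)
  rw [map_smul]
  rfl

theorem pi_gen
    (hT : ∀ j : Fin r, ∀ d, d ∉ T → (DirectSum.decompose 𝒜 (beta 𝒜 bN j : B) d : B) = 0)
    (j : Fin r) : piA 𝒜 (shat 𝒜 bN T (beta 𝒜 bN j)) = bN j := by
  classical
  rw [← pi_beta 𝒜 bN j]
  show (Irr 𝒜).toCotangent _ = (Irr 𝒜).toCotangent _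
  rw [Ideal.toCotangent_eq, shat_apply, Submodule.coe_sum]
  have hβ : ∑ d ∈ T, (DirectSum.decompose 𝒜 (beta 𝒜 bN j : B) d : B) = (beta 𝒜 bN j : B) := by
    rw [← Finset.sum_subset (s₁ := (DirectSum.decompose 𝒜 (beta 𝒜 bN j : B)).support)]
    · exact DirectSum.sum_support_decompose 𝒜 (beta 𝒜 bN j : B)
    · intro d hd
      by_contra hdT
      rw [DFinsupp.mem_support_iff] at hd
      apply hd
      exact Subtype.ext (hT j d hdT)
    · intro d _ hd
      rw [DFinsupp.notMem_support_iff] at hd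
      rw [hd]
      rfl
  have key : ∀ d, ((prI 𝒜 d (ww 𝒜 bN (prI 𝒜 d (beta 𝒜 bN j))) : Irr 𝒜) : B) -
      (DirectSum.decompose 𝒜 (beta 𝒜 bN j : B) d : B) ∈ (Irr 𝒜) ^ 2 := by
    intro d
    have h1 := irr_sq_hom 𝒜 d (ww_sub_mem 𝒜 bN (prI 𝒜 d (beta 𝒜 bN j)))
    have h2 : (DirectSum.decompose 𝒜
        (((prI 𝒜 d (beta 𝒜 bN j) : Irr 𝒜) : B) -
          ((ww 𝒜 bN (prI 𝒜 d (beta 𝒜 bN j)) : Irr 𝒜) : B)) d : B) =
        (DirectSum.decompose 𝒜 (beta 𝒜 bN j : B) d : B) -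
          ((prI 𝒜 d (ww 𝒜 bN (prI 𝒜 d (beta 𝒜 bN j))) : Irr 𝒜) : B) := by
      rw [DirectSum.decompose_sub, DirectSum.sub_apply, AddSubgroupClass.coe_sub, coe_prI, coe_prI,
        DirectSum.decompose_of_mem_same 𝒜 (SetLike.coe_mem _)]
    rw [h2] at h1
    have h3 := ((Irr 𝒜) ^ 2).neg_mem h1
    rwa [neg_sub] at h3
  have e : (∑ d ∈ T, ((prI 𝒜 d (ww 𝒜 bN (prI 𝒜 d (beta 𝒜 bN j))) : Irr 𝒜) : B)) -
      (beta 𝒜 bN j : B) =
      ∑ d ∈ T, (((prI 𝒜 d (ww 𝒜 bN (prI 𝒜 d (beta 𝒜 bN j))) : Irr 𝒜) : B) -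
        (DirectSum.decompose 𝒜 (beta 𝒜 bN j : B) d : B)) := by
    rw [Finset.sum_sub_distrib, hβ]
  rw [e]
  exact Ideal.sum_mem _ (fun d _ => key d)

/-- the comparison map -/
noncomputable def phi : MvPolynomial (Fin r) A →ₐ[A] B := MvPolynomial.aeval (gen 𝒜 bN T)

theorem phi_X (j : Fin r) : phi 𝒜 bN T (X j) = gen 𝒜 bN T j := aeval_X _ _

theorem phi_C (a : A) : phi 𝒜 bN T (C a) = algebraMap A B a := by
  rw [← MvPolynomial.algebraMap_eq]
  exact AlgHom.commutes _ a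

omit bN T in
theorem proj_mul_mem (R' : Subalgebra A B) (d : ℕ) (hR : ∀ i < d, ∀ x ∈ 𝒜 i, x ∈ R')
    (u v : B) (hu : u ∈ Irr 𝒜) (hv : v ∈ Irr 𝒜) :
    (DirectSum.decompose 𝒜 (u * v) d : B) ∈ R' := by
  classical
  rw [DirectSum.decompose_mul, DirectSum.coe_mul_apply]
  refine Subalgebra.sum_mem _ (fun ij hij => ?_)
  rw [Finset.mem_filter] at hij
  have hsum : ij.1 + ij.2 = d := hij.2
  by_cases h1 : ij.1 = 0
  · have h : (DirectSum.decompose 𝒜 u ij.1 : B) = 0 := by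
      rw [h1]
      exact (mem_irr_iff 𝒜 u).mp hu
    rw [h, zero_mul]
    exact R'.zero_mem
  by_cases h2 : ij.2 = 0
  · have h : (DirectSum.decompose 𝒜 v ij.2 : B) = 0 := by
      rw [h2]
      exact (mem_irr_iff 𝒜 v).mp hv
    rw [h, mul_zero]
    exact R'.zero_mem
  exact R'.mul_mem (hR _ (by omega) _ (SetLike.coe_mem _)) (hR _ (by omega) _ (SetLike.coe_mem _))

omit bN T in
theorem proj_sq_mem (R' : Subalgebra A B) (d : ℕ) (hR : ∀ i < d, ∀ x ∈ 𝒜 i, x ∈ R')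
    (c : B) (hc : c ∈ (Irr 𝒜) ^ 2) : (DirectSum.decompose 𝒜 c d : B) ∈ R' := by
  rw [pow_two] at hc
  refine Submodule.mul_induction_on hc ?_ ?_
  · intro u hu v hv
    exact proj_mul_mem 𝒜 R' d hR u v hu hv
  · intro x y hx hy
    rw [DirectSum.decompose_add, DirectSum.add_apply, Submodule.coe_add]
    exact R'.add_mem hx hy

theorem piece_mem_range (h0 : ∀ b : B, b ∈ 𝒜 0 → b ∈ Set.range (algebraMap A B))
    (hT : ∀ j : Fin r, ∀ d, d ∉ T → (DirectSum.decompose 𝒜 (beta 𝒜 bN j : B) d : B) = 0)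
    (d : ℕ) : ∀ x ∈ 𝒜 d, x ∈ (phi 𝒜 bN T).range := by
  induction d using Nat.strong_induction_on with
  | _ d ih =>
    intro x hx
    rcases Nat.eq_zero_or_pos d with hd | hd
    · subst hd
      obtain ⟨a, rfl⟩ := h0 x hx
      exact Subalgebra.algebraMap_mem _ a
    · have hxI : x ∈ Irr 𝒜 := by
        rw [mem_irr_iff, DirectSum.decompose_of_mem_ne 𝒜 hx (by omega : d ≠ 0)]
      have e1 : ((shat 𝒜 bN T ⟨x, hxI⟩ : Irr 𝒜) : B) =
          (DirectSum.decompose 𝒜 ((ww 𝒜 bN ⟨x, hxI⟩ : Irr 𝒜) : B) d : B) := by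
        rw [shat_of_mem 𝒜 bN T hT d ⟨x, hxI⟩ hx, coe_prI]
      have e2 : x = ((shat 𝒜 bN T ⟨x, hxI⟩ : Irr 𝒜) : B) +
          (DirectSum.decompose 𝒜 (x - ((ww 𝒜 bN ⟨x, hxI⟩ : Irr 𝒜) : B)) d : B) := by
        rw [e1, DirectSum.decompose_sub, DirectSum.sub_apply, AddSubgroupClass.coe_sub,
          DirectSum.decompose_of_mem_same 𝒜 hx]
        ring
      rw [e2]
      refine Subalgebra.add_mem _ ?_ ?_
      · rw [shat_eq_sum]
        refine Subalgebra.sum_mem _ (fun j _ => Subalgebra.smul_mem _ ?_ _)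
        exact (AlgHom.mem_range _).mpr ⟨X j, phi_X 𝒜 bN T j⟩
      · exact proj_sq_mem 𝒜 _ d (fun i hi y hy => ih i hi y hy) _ (ww_sub_mem 𝒜 bN ⟨x, hxI⟩)

theorem phi_surjective (h0 : ∀ b : B, b ∈ 𝒜 0 → b ∈ Set.range (algebraMap A B))
    (hT : ∀ j : Fin r, ∀ d, d ∉ T → (DirectSum.decompose 𝒜 (beta 𝒜 bN j : B) d : B) = 0) :
    Function.Surjective (phi 𝒜 bN T) := by
  classical
  intro x
  rw [← AlgHom.mem_range]
  rw [← DirectSum.sum_support_decompose 𝒜 x]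
  exact Subalgebra.sum_mem _ (fun d _ => piece_mem_range 𝒜 bN T h0 hT d _ (SetLike.coe_mem _))

theorem proj_zero_phi (s : MvPolynomial (Fin r) A) :
    (DirectSum.decompose 𝒜 (phi 𝒜 bN T s) 0 : B) = algebraMap A B (constantCoeff s) := by
  have h : (GradedRing.projZeroRingHom 𝒜).comp (phi 𝒜 bN T : MvPolynomial (Fin r) A →+* B) =
      (algebraMap A B).comp constantCoeff := by
    apply MvPolynomial.ringHom_ext
    · intro a
      rw [RingHom.comp_apply, RingHom.comp_apply, constantCoeff_C]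
      show (DirectSum.decompose 𝒜 (phi 𝒜 bN T (C a)) 0 : B) = _
      rw [phi_C]
      exact DirectSum.decompose_of_mem_same 𝒜 (SetLike.algebraMap_mem_graded 𝒜 a)
    · intro j
      rw [RingHom.comp_apply, RingHom.comp_apply, constantCoeff_X, map_zero]
      show (DirectSum.decompose 𝒜 (phi 𝒜 bN T (X j)) 0 : B) = 0
      rw [phi_X]
      exact (mem_irr_iff 𝒜 _).mp (gen_mem 𝒜 bN T j)
  exact RingHom.congr_fun h s

theorem ker_le_sq (hinj : Function.Injective (algebraMap A B))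
    (hT : ∀ j : Fin r, ∀ d, d ∉ T → (DirectSum.decompose 𝒜 (beta 𝒜 bN j : B) d : B) = 0)
    (f : MvPolynomial (Fin r) A) (hf : phi 𝒜 bN T f = 0) :
    f ∈ idealOfVars (Fin r) A ^ 2 := by
  classical
  have hc0 : constantCoeff f = 0 := by
    apply hinj
    rw [map_zero, ← proj_zero_phi 𝒜 bN T f, hf, DirectSum.decompose_zero]
    rfl
  have hc0' : coeff 0 f = 0 := hc0
  obtain ⟨a, ha⟩ : ∃ a : Fin r → A, ∀ j, a j = coeff (Finsupp.single j 1) f := ⟨_, fun _ => rfl⟩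
  obtain ⟨g, hg⟩ : ∃ g : MvPolynomial (Fin r) A, g = f - ∑ j, C (a j) * X j := ⟨_, rfl⟩
  have hg2 : g ∈ idealOfVars (Fin r) A ^ 2 := by
    rw [mem_pow_idealOfVars_iff']
    intro x hx
    rcases degree_lt_two x hx with rfl | ⟨i, rfl⟩
    · rw [hg, coeff_sub, hc0', coeff_sum, zero_sub, neg_eq_zero]
      refine Finset.sum_eq_zero (fun j _ => ?_)
      rw [coeff_C_mul, coeff_X, if_neg (Finsupp.single_ne_zero.mpr one_ne_zero), mul_zero]
    · rw [hg, coeff_sub, coeff_sum, sub_eq_zero]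
      rw [Finset.sum_eq_single i]
      · rw [coeff_C_mul, coeff_X, if_pos rfl, mul_one, ha]
      · intro j _ hji
        rw [coeff_C_mul, coeff_X,
          if_neg (fun h => hji ((Finsupp.single_left_inj one_ne_zero).mp h)), mul_zero]
      · intro h
        exact absurd (Finset.mem_univ i) h
  have hphig : phi 𝒜 bN T g = - ∑ j, a j • gen 𝒜 bN T j := by
    rw [hg, map_sub, hf, zero_sub, map_sum]
    congr 1
    refine Finset.sum_congr rfl (fun j _ => ?_)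
    rw [map_mul, phi_X, phi_C, Algebra.smul_def]
  have hle : idealOfVars (Fin r) A ≤ (Irr 𝒜).comap (phi 𝒜 bN T) := by
    rw [idealOfVars, Ideal.span_le]
    rintro _ ⟨j, rfl⟩
    show phi 𝒜 bN T (X j) ∈ Irr 𝒜
    rw [phi_X]
    exact gen_mem 𝒜 bN T j
  have hmem : phi 𝒜 bN T g ∈ (Irr 𝒜) ^ 2 :=
    (Ideal.le_comap_pow (phi 𝒜 bN T) 2) (Ideal.pow_right_mono hle 2 hg2)
  have hsum : ∑ j, a j • gen 𝒜 bN T j ∈ (Irr 𝒜) ^ 2 := by
    rw [hphig] at hmem
    exact neg_mem_iff.mp hmem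
  obtain ⟨y, hy⟩ : ∃ y : Irr 𝒜, y = ∑ j, a j • shat 𝒜 bN T (beta 𝒜 bN j) := ⟨_, rfl⟩
  have hyB : (y : B) = ∑ j, a j • gen 𝒜 bN T j := by
    rw [hy, Submodule.coe_sum]
    exact Finset.sum_congr rfl (fun j _ => rfl)
  have hpy : piA 𝒜 y = 0 := by
    show (Irr 𝒜).toCotangent y = 0
    rw [Ideal.toCotangent_eq_zero, hyB]
    exact hsum
  have hpy2 : piA 𝒜 y = ∑ j, a j • bN j := by
    rw [hy, map_sum]
    refine Finset.sum_congr rfl (fun j _ => ?_)
    rw [map_smul, pi_gen 𝒜 bN T hT j]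
  have hzero : ∀ j, a j = 0 := by
    have hli := bN.linearIndependent
    rw [Fintype.linearIndependent_iff] at hli
    exact hli a (by rw [← hpy2, hpy])
  have hfg : f = g := by
    rw [hg]
    have h : ∑ j, C (a j) * X j = (0 : MvPolynomial (Fin r) A) :=
      Finset.sum_eq_zero (fun j _ => by rw [hzero j, C_0, zero_mul])
    rw [h, sub_zero]
  rw [hfg]
  exact hg2

end Graded

section Final

theorem awayMapₐ_algebraMap {R A' B' : Type*} [CommRing R] [CommRing A'] [CommRing B']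
    [Algebra R A'] [Algebra R B'] (f : A' →ₐ[R] B') (a x : A') :
    Localization.awayMapₐ f a (algebraMap A' (Localization.Away a) x) =
      algebraMap B' (Localization.Away (f a)) (f x) := by
  rw [IsLocalization.Away.mapₐ_apply]
  exact IsLocalization.map_eq _ _

variable {A B : Type u} [CommRing A] [CommRing B] [Algebra A B]
  (𝒜 : ℕ → Submodule A B) [GradedAlgebra 𝒜]
  {r : ℕ} (bN : Module.Basis (Fin r) A (Irr 𝒜).Cotangent) (T : Finset ℕ)

/-- there is an element `j ≡ 1 mod B₊` with `B_j` smooth over `A` -/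
theorem exists_smooth_away [Algebra.FinitePresentation A B]
    (hsm : ∀ (P : Ideal B) [P.IsPrime], Irr 𝒜 ≤ P → Algebra.IsSmoothAt A P) :
    ∃ j : B, 1 - j ∈ Irr 𝒜 ∧ Algebra.FormallySmooth A (Localization.Away j) := by
  have hopen : IsOpen (Algebra.smoothLocus A B) := Algebra.isOpen_smoothLocus
  obtain ⟨J, hJ⟩ := (PrimeSpectrum.isClosed_iff_zeroLocus_ideal _).mp hopen.isClosed_compl
  have hempty : PrimeSpectrum.zeroLocus ((J ⊔ Irr 𝒜 : Ideal B) : Set B) = ∅ := by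
    rw [PrimeSpectrum.zeroLocus_sup, ← hJ, Set.eq_empty_iff_forall_notMem]
    rintro p ⟨hp1, hp2⟩
    apply hp1
    rw [PrimeSpectrum.mem_zeroLocus] at hp2
    exact hsm p.asIdeal (SetLike.coe_subset_coe.mp hp2)
  rw [PrimeSpectrum.zeroLocus_empty_iff_eq_top] at hempty
  have h1 : (1 : B) ∈ J ⊔ Irr 𝒜 := by
    rw [hempty]
    exact Submodule.mem_top
  obtain ⟨j, hj, i, hi, hji⟩ := Submodule.mem_sup.mp h1
  refine ⟨j, ?_, ?_⟩
  · have h : 1 - j = i := by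
      rw [← hji]
      ring
    rw [h]
    exact hi
  · rw [← Algebra.basicOpen_subset_smoothLocus_iff]
    intro p hp
    by_contra hnot
    have hpJ : p ∈ PrimeSpectrum.zeroLocus (J : Set B) := by
      rw [← hJ]
      exact hnot
    rw [PrimeSpectrum.mem_zeroLocus] at hpJ
    exact (PrimeSpectrum.mem_basicOpen _ _).mp hp (hpJ hj)

theorem phi_injective [Algebra.FinitePresentation A B]
    (h0 : ∀ b : B, b ∈ 𝒜 0 → b ∈ Set.range (algebraMap A B))
    (hinj : Function.Injective (algebraMap A B))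
    (hsm : ∀ (P : Ideal B) [P.IsPrime], Irr 𝒜 ≤ P → Algebra.IsSmoothAt A P)
    (hT : ∀ j : Fin r, ∀ d, d ∉ T → (DirectSum.decompose 𝒜 (beta 𝒜 bN j : B) d : B) = 0) :
    Function.Injective (phi 𝒜 bN T) := by
  classical
  have hsurj := phi_surjective 𝒜 bN T h0 hT
  obtain ⟨j, hj1, hjs⟩ := exists_smooth_away 𝒜 hsm
  obtain ⟨f', rfl⟩ := hsurj j
  have hcc : constantCoeff f' = 1 := by
    apply hinj
    rw [map_one, ← proj_zero_phi 𝒜 bN T f']
    have h1 : (DirectSum.decompose 𝒜 (1 - phi 𝒜 bN T f') 0 : B) = 0 := (mem_irr_iff 𝒜 _).mp hj1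
    rw [DirectSum.decompose_sub, DirectSum.sub_apply, AddSubgroupClass.coe_sub,
      DirectSum.decompose_of_mem_same 𝒜 (SetLike.one_mem_graded 𝒜), sub_eq_zero] at h1
    exact h1.symm
  have hf1 : f' - 1 ∈ idealOfVars (Fin r) A := by
    rw [← pow_one (idealOfVars (Fin r) A), mem_pow_idealOfVars_iff']
    intro x hx
    have hx0 : x = 0 := by
      rw [← Finsupp.degree_eq_zero_iff]
      omega
    rw [hx0, coeff_sub, coeff_zero_one, sub_eq_zero]
    exact hcc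
  have hψs : Function.Surjective (Localization.awayMapₐ (phi 𝒜 bN T) f') :=
    IsLocalization.Away.mapₐ_surjective_of_surjective f' hsurj
  have : Algebra.FormallySmooth A
      (Localization.Away f' ⧸ RingHom.ker (Localization.awayMapₐ (phi 𝒜 bN T) f')) :=
    Algebra.FormallySmooth.of_equiv (Ideal.quotientKerAlgEquivOfSurjective hψs).symm
  have hKP : RingHom.ker (Localization.awayMapₐ (phi 𝒜 bN T) f') ≤
      ((idealOfVars (Fin r) A).map (algebraMap _ (Localization.Away f'))) ^ 2 := by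
    intro z hz
    obtain ⟨p, s, rfl⟩ := IsLocalization.exists_mk'_eq (Submonoid.powers f') z
    rw [← Ideal.map_pow, IsLocalization.mk'_mem_map_algebraMap_iff (Submonoid.powers f')]
    have hz' : Localization.awayMapₐ (phi 𝒜 bN T) f'
        (IsLocalization.mk' (Localization.Away f') p s) = 0 := hz
    have h2 : Localization.awayMapₐ (phi 𝒜 bN T) f'
        (algebraMap _ (Localization.Away f') p) = 0 := by
      rw [← IsLocalization.mk'_spec (Localization.Away f') p s, map_mul, hz', zero_mul]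
    rw [awayMapₐ_algebraMap,
      IsLocalization.map_eq_zero_iff (Submonoid.powers (phi 𝒜 bN T f'))] at h2
    obtain ⟨⟨m, t, rfl⟩, hm⟩ := h2
    refine ⟨f' ^ t, ⟨t, rfl⟩, ?_⟩
    apply ker_le_sq 𝒜 bN T hinj hT
    rw [map_mul, map_pow]
    exact hm
  have hKP2 := le_mul_of_formallySmooth_quotient (A := A) _ _ hKP
  rw [injective_iff_map_eq_zero]
  intro k hk
  apply eq_zero_of_forall_mem_pow
  intro m
  have hkP : algebraMap _ (Localization.Away f') k ∈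
      RingHom.ker (Localization.awayMapₐ (phi 𝒜 bN T) f') := by
    rw [RingHom.mem_ker, awayMapₐ_algebraMap, hk, map_zero]
  have h3 := le_pow_of_le_mul _ _ hKP2 m hkP
  rw [← Ideal.map_pow,
    IsLocalization.algebraMap_mem_map_algebraMap_iff (Submonoid.powers f')] at h3
  obtain ⟨s, ⟨t, rfl⟩, hs⟩ := h3
  exact mem_pow_of_unit_mul _ f' k hf1 t m hs

include bN in
/-- the main theorem, for a given basis of the conormal module -/
theorem equiv_of_basis [Algebra.FinitePresentation A B]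
    (h0 : ∀ b : B, b ∈ 𝒜 0 → b ∈ Set.range (algebraMap A B))
    (hinj : Function.Injective (algebraMap A B))
    (hsm : ∀ (P : Ideal B) [P.IsPrime], Irr 𝒜 ≤ P → Algebra.IsSmoothAt A P) :
    Nonempty (B ≃ₐ[A] MvPolynomial (Fin r) A) := by
  obtain ⟨T, hT⟩ := exists_T 𝒜 bN
  exact ⟨(AlgEquiv.ofBijective (phi 𝒜 bN T)
    ⟨phi_injective 𝒜 bN T h0 hinj hsm hT, phi_surjective 𝒜 bN T h0 hT⟩).symm⟩

end Final

theorem subsingleton_of_algebra (A C : Type*) [CommRing A] [Subsingleton A] [CommRing C]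
    [Algebra A C] : Subsingleton C := by
  refine ⟨fun x y => ?_⟩
  have h1 : (1 : C) = 0 := by
    rw [← map_one (algebraMap A C), Subsingleton.elim (1 : A) 0, map_zero]
  rw [← mul_one x, ← mul_one y, h1, mul_zero, mul_zero]

theorem main (k : Type u) [Field k]
    (A B : Type u) [CommRing A] [CommRing B] [Algebra k A] [Algebra A B]
    [Algebra.FiniteType k A] [Algebra.FiniteType A B] (𝒜 : ℕ → Submodule A B) [GradedAlgebra 𝒜]
    (h0 : ∀ b : B, b ∈ 𝒜 0 ↔ b ∈ Set.range (algebraMap A B))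
    (hinj : Function.Injective (algebraMap A B))
    (hsm : ∀ (P : Ideal B) [P.IsPrime],
      (HomogeneousIdeal.irrelevant 𝒜).toIdeal ≤ P → Algebra.IsSmoothAt A P)
    [Module.Free A (HomogeneousIdeal.irrelevant 𝒜).toIdeal.Cotangent]
    [Module.Finite A (HomogeneousIdeal.irrelevant 𝒜).toIdeal.Cotangent] :
    Nonempty (B ≃ₐ[A]
      MvPolynomial (Fin (Module.finrank A (HomogeneousIdeal.irrelevant 𝒜).toIdeal.Cotangent)) A) := by
  have : IsNoetherianRing A := Algebra.FiniteType.isNoetherianRing k A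
  have : Algebra.FinitePresentation A B :=
    Algebra.FinitePresentation.of_finiteType.mp inferInstance
  rcases subsingleton_or_nontrivial A with hA | hA
  · have : Subsingleton B := subsingleton_of_algebra A B
    have : Subsingleton (MvPolynomial
        (Fin (Module.finrank A (HomogeneousIdeal.irrelevant 𝒜).toIdeal.Cotangent)) A) :=
      subsingleton_of_algebra A _
    exact ⟨(AlgEquiv.ofBijective (MvPolynomial.aeval (fun _ => (0 : B)))
      ⟨Function.injective_of_subsingleton _, fun y => ⟨0, Subsingleton.elim _ _⟩⟩).symm⟩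
  · exact equiv_of_basis 𝒜 (Module.finBasis A (HomogeneousIdeal.irrelevant 𝒜).toIdeal.Cotangent)
      (fun b hb => (h0 b).mp hb) hinj hsm

end Groth.Agent.Lib.GrSmoothH1
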