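import Mathlib
import Groth.Agent.Lib.GrSmooth_helper1

/-! A smooth monoid algebra of a fine sharp monoid is a polynomial ring (helper1). -/

set_option autoImplicit false
set_option maxHeartbeats 1000000

universe u

open MvPolynomial

namespace Groth.Agent.Lib.MonAlgSmoothH1

section Poly

variable {A : Type*} [CommRing A] {σ : Type*}

theorem eq_zero_of_forall_mem_pow' (k : MvPolynomial σ A)
    (h : ∀ m, k ∈ idealOfVars σ A ^ m) : k = 0 := by
  ext x
  rw [coeff_zero]
  exact (mem_pow_idealOfVars_iff' (Finsupp.degree x + 1) k).mp (h _) x (Nat.lt_succ_self _)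

theorem degree_lt_two' (x : σ →₀ ℕ) (hx : Finsupp.degree x < 2) :
    x = 0 ∨ ∃ j, x = Finsupp.single j 1 := by
  classical
  by_cases h0 : x = 0
  · exact Or.inl h0
  · right
    obtain ⟨j, hj⟩ : ∃ j, x j ≠ 0 := by
      by_contra hall
      push Not at hall
      exact h0 (Finsupp.ext hall)
    refine ⟨j, ?_⟩
    have hjs : j ∈ x.support := Finsupp.mem_support_iff.mpr hj
    have hsplit : ∑ i ∈ x.support, x i = x j + ∑ i ∈ x.support.erase j, x i :=
      (Finset.add_sum_erase _ _ hjs).symm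
    rw [Finsupp.degree_apply] at hx
    have hxj : x j = 1 := by omega
    have hrest : ∑ i ∈ x.support.erase j, x i = 0 := by omega
    ext i
    by_cases hij : i = j
    · rw [hij, Finsupp.single_eq_same, hxj]
    · rw [Finsupp.single_eq_of_ne hij]
      by_contra hne
      have hi : i ∈ x.support.erase j :=
        Finset.mem_erase.mpr ⟨hij, Finsupp.mem_support_iff.mpr hne⟩
      exact hne (Finset.sum_eq_zero_iff.mp hrest i hi)

theorem mapDomain_apply_of_unique {α β M : Type*} [AddCommMonoid M] (π : α → β) (f : α →₀ M)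
    (c0 : α) (h : ∀ c, π c = π c0 → c = c0) : Finsupp.mapDomain π f (π c0) = f c0 := by
  classical
  rw [Finsupp.mapDomain, Finsupp.sum_apply, Finsupp.sum, Finset.sum_eq_single c0]
  · rw [Finsupp.single_eq_same]
  · intro c _ hc
    rw [Finsupp.single_eq_of_ne]
    intro he
    exact hc (h c he.symm)
  · intro hc
    rw [Finsupp.notMem_support_iff.mp hc, Finsupp.single_zero]
    rfl

end Poly

section Monoid

variable {N : Type*} [AddCommMonoid N] {ι : Type*} (g : ι → N)

/-- the monoid map `ℕ^ι → N` -/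
noncomputable def pim : (ι →₀ ℕ) →+ N := (Finsupp.linearCombination ℕ g).toAddMonoidHom

theorem pim_single (i : ι) : pim g (Finsupp.single i 1) = g i := by
  show Finsupp.linearCombination ℕ g (Finsupp.single i 1) = g i
  rw [Finsupp.linearCombination_single, one_smul]

omit [AddCommMonoid N] in
theorem single_le (c : ι →₀ ℕ) (i : ι) (hi : c i ≠ 0) : Finsupp.single i 1 ≤ c := by
  classical
  refine Finsupp.le_def.mpr (fun j => ?_)
  by_cases hij : j = i
  · rw [hij, Finsupp.single_eq_same]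
    omega
  · rw [Finsupp.single_eq_of_ne hij]
    exact Nat.zero_le _

theorem pim_eq_zero (hsharp : ∀ n : N, IsAddUnit n → n = 0) (h2 : ∀ i, g i ≠ 0)
    (c : ι →₀ ℕ) (hc : pim g c = 0) : c = 0 := by
  by_contra hne
  obtain ⟨i, hi⟩ : ∃ i, c i ≠ 0 := by
    by_contra hall
    push Not at hall
    exact hne (Finsupp.ext hall)
  have hsplit := add_tsub_cancel_of_le (single_le c i hi)
  rw [← hsplit, map_add, pim_single] at hc
  exact h2 i (hsharp _ (isAddUnit_iff_exists_neg.mpr ⟨_, hc⟩))

theorem pim_eq_gen [IsCancelAdd N] (hsharp : ∀ n : N, IsAddUnit n → n = 0) (h2 : ∀ i, g i ≠ 0)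
    (h3 : ∀ i (c : ι →₀ ℕ), pim g c = g i → c i ≠ 0) (i : ι) (c : ι →₀ ℕ)
    (hc : pim g c = g i) : c = Finsupp.single i 1 := by
  have hi := h3 i c hc
  have hsplit := add_tsub_cancel_of_le (single_le c i hi)
  have h : pim g (c - Finsupp.single i 1) = 0 := by
    have h' := hc
    rw [← hsplit, map_add, pim_single] at h'
    exact add_left_cancel (a := g i) (by rw [h', add_zero])
  have h0 := pim_eq_zero g hsharp h2 _ h
  rw [← hsplit, h0, add_zero]

theorem exists_min_gen (N : Type*) [AddCommMonoid N] [AddMonoid.FG N] [DecidableEq N] :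
    ∃ S : Finset N, AddSubmonoid.closure (S : Set N) = ⊤ ∧
      ∀ s ∈ S, s ∉ AddSubmonoid.closure ((S.erase s : Finset N) : Set N) := by
  classical
  have hfg : (⊤ : AddSubmonoid N).FG := AddMonoid.FG.fg_top
  have hex : ∃ k, ∃ S : Finset N, S.card = k ∧ AddSubmonoid.closure (S : Set N) = ⊤ := by
    obtain ⟨S, hS⟩ := hfg
    exact ⟨S.card, S, rfl, hS⟩
  obtain ⟨S, hcard, hS⟩ := Nat.find_spec hex
  refine ⟨S, hS, fun s hs hmem => ?_⟩
  have hgen : AddSubmonoid.closure ((S.erase s : Finset N) : Set N) = ⊤ := by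
    rw [eq_top_iff, ← hS, AddSubmonoid.closure_le]
    intro t ht
    by_cases hts : t = s
    · rw [hts]
      exact hmem
    · exact AddSubmonoid.subset_closure
        (Finset.mem_coe.mpr (Finset.mem_erase.mpr ⟨hts, Finset.mem_coe.mp ht⟩))
  have hmin := Nat.find_min' hex ⟨S.erase s, rfl, hgen⟩
  rw [← hcard, Finset.card_erase_of_mem hs] at hmin
  have hpos : 0 < S.card := Finset.card_pos.mpr ⟨s, hs⟩
  omega

theorem pim_surjective_of_closure (S : Finset N)
    (hS : AddSubmonoid.closure (S : Set N) = ⊤) :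
    Function.Surjective (pim (Subtype.val : S → N)) := by
  intro n
  have hn : n ∈ AddSubmonoid.closure (S : Set N) := by
    rw [hS]
    exact AddSubmonoid.mem_top n
  induction hn using AddSubmonoid.closure_induction with
  | mem x hx => exact ⟨Finsupp.single ⟨x, Finset.mem_coe.mp hx⟩ 1, pim_single _ _⟩
  | zero => exact ⟨0, map_zero _⟩
  | add x y _ _ hx hy =>
    obtain ⟨a, ha⟩ := hx
    obtain ⟨b, hb⟩ := hy
    exact ⟨a + b, by rw [map_add, ha, hb]⟩

theorem h3_of_min [DecidableEq N] (S : Finset N)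
    (hmin : ∀ s ∈ S, s ∉ AddSubmonoid.closure ((S.erase s : Finset N) : Set N))
    (s : S) (c : S →₀ ℕ) (hc : pim (Subtype.val : S → N) c = s.1) : c s ≠ 0 := by
  intro hcs
  have hmem : pim (Subtype.val : S → N) c ∈
      AddSubmonoid.closure ((S.erase s.1 : Finset N) : Set N) := by
    show Finsupp.linearCombination ℕ (Subtype.val : S → N) c ∈ _
    rw [Finsupp.linearCombination_apply, Finsupp.sum]
    refine sum_mem (fun i hi => ?_)
    have hci : c i ≠ 0 := Finsupp.mem_support_iff.mp hi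
    have hne : i ≠ s := fun h => hci (by rw [h, hcs])
    refine AddSubmonoid.nsmul_mem _ (AddSubmonoid.subset_closure ?_) _
    exact Finset.mem_coe.mpr (Finset.mem_erase.mpr ⟨fun h => hne (Subtype.ext h), i.2⟩)
  rw [hc] at hmem
  exact hmin s.1 s.2 hmem

end Monoid

section Alg

variable {R : Type*} [CommRing R] {N : Type*} [AddCommMonoid N] {ι : Type*}

/-- the comparison map `R[X_i] → R[N]` -/
noncomputable def phiM (π : (ι →₀ ℕ) →+ N) : MvPolynomial ι R →ₐ[R] AddMonoidAlgebra R N :=
  AddMonoidAlgebra.mapDomainAlgHom R R π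

theorem phiM_coeff (π : (ι →₀ ℕ) →+ N) (f : MvPolynomial ι R) (n : N) :
    (phiM (R := R) π f).coeff n = Finsupp.mapDomain π (AddMonoidAlgebra.coeff f) n := rfl

theorem phiM_coeff_of_unique (π : (ι →₀ ℕ) →+ N) (f : MvPolynomial ι R) (c0 : ι →₀ ℕ)
    (h : ∀ c, π c = π c0 → c = c0) :
    (phiM (R := R) π f).coeff (π c0) = MvPolynomial.coeff c0 f := by
  rw [phiM_coeff]
  exact mapDomain_apply_of_unique π _ c0 h

theorem phiM_surjective (π : (ι →₀ ℕ) →+ N) (hπ : Function.Surjective π) :
    Function.Surjective (phiM (R := R) π) := by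
  intro x
  refine ⟨AddMonoidAlgebra.mapDomain (Function.surjInv hπ) x, ?_⟩
  apply AddMonoidAlgebra.coeff_injective
  show Finsupp.mapDomain π (Finsupp.mapDomain (Function.surjInv hπ) x.coeff) = x.coeff
  rw [← Finsupp.mapDomain_comp]
  have h : (⇑π ∘ Function.surjInv hπ) = id := funext (Function.surjInv_eq hπ)
  rw [h, Finsupp.mapDomain_id]

theorem ker_phiM_le_sq [IsCancelAdd N] (g : ι → N) (hsharp : ∀ n : N, IsAddUnit n → n = 0)
    (h2 : ∀ i, g i ≠ 0) (h3 : ∀ i (c : ι →₀ ℕ), pim g c = g i → c i ≠ 0)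
    (f : MvPolynomial ι R) (hf : phiM (R := R) (pim g) f = 0) :
    f ∈ idealOfVars ι R ^ 2 := by
  rw [mem_pow_idealOfVars_iff']
  intro x hx
  rcases degree_lt_two' x hx with rfl | ⟨i, rfl⟩
  · have h := phiM_coeff_of_unique (R := R) (pim g) f 0
      (fun c hc => pim_eq_zero g hsharp h2 c (by rw [hc, map_zero]))
    rw [← h, hf]
    rfl
  · have h := phiM_coeff_of_unique (R := R) (pim g) f (Finsupp.single i 1)
      (fun c hc => pim_eq_gen g hsharp h2 h3 i c (by rw [hc, pim_single]))
    rw [← h, hf]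
    rfl

theorem phiM_injective [IsCancelAdd N] [Algebra.FormallySmooth R (AddMonoidAlgebra R N)]
    (g : ι → N) (hsharp : ∀ n : N, IsAddUnit n → n = 0)
    (h2 : ∀ i, g i ≠ 0) (h3 : ∀ i (c : ι →₀ ℕ), pim g c = g i → c i ≠ 0)
    (hsurj : Function.Surjective (phiM (R := R) (pim g))) :
    Function.Injective (phiM (R := R) (pim g)) := by
  have : Algebra.FormallySmooth R (MvPolynomial ι R ⧸ RingHom.ker (phiM (R := R) (pim g))) :=
    Algebra.FormallySmooth.of_equiv (Ideal.quotientKerAlgEquivOfSurjective hsurj).symm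
  have hK : RingHom.ker (phiM (R := R) (pim g)) ≤ idealOfVars ι R ^ 2 :=
    fun f hf => ker_phiM_le_sq g hsharp h2 h3 f (RingHom.mem_ker.mp hf)
  have hK2 := GrSmoothH1.le_mul_of_formallySmooth_quotient (A := R) _ _ hK
  rw [injective_iff_map_eq_zero]
  intro k hk
  apply eq_zero_of_forall_mem_pow'
  intro m
  exact GrSmoothH1.le_pow_of_le_mul _ _ hK2 m (RingHom.mem_ker.mpr hk)

end Alg

theorem main (R : Type u) [CommRing R] (N : Type)
    [AddCommMonoid N] [AddMonoid.FG N] [IsCancelAdd N] (hsharp : ∀ n : N, IsAddUnit n → n = 0)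
    [Algebra.Smooth R (AddMonoidAlgebra R N)] :
    ∃ (P : Type u) (_ : AddCommGroup P) (_ : Module R P), Module.Finite R P ∧
      Module.Projective R P ∧
      Nonempty (AddMonoidAlgebra R N ≃ₐ[R] SymmetricAlgebra R P) := by
  classical
  obtain ⟨S, hS, hmin⟩ := exists_min_gen N
  have h1 := pim_surjective_of_closure S hS
  have h2 : ∀ i : S, (i : N) ≠ 0 := fun i hi => hmin i.1 i.2 (by
    rw [hi]
    exact zero_mem _)
  have h3 := h3_of_min S hmin
  have hsurj := phiM_surjective (R := R) (pim (Subtype.val : S → N)) h1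
  have hinj := phiM_injective (R := R) (Subtype.val : S → N) hsharp h2 h3 hsurj
  refine ⟨S →₀ R, inferInstance, inferInstance, inferInstance, inferInstance,
    ⟨(AlgEquiv.ofBijective _ ⟨hinj, hsurj⟩).symm.trans
      (SymmetricAlgebra.equivMvPolynomial (Finsupp.basisSingleOne)).symm⟩⟩

end Groth.Agent.Lib.MonAlgSmoothH1
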