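import Mathlib
import Groth.Agent.Lib.MonAlgSmooth_helper1

/-! Algebras graded by a fine sharp monoid, smooth over a base: structure as a symmetric algebra
over the degree zero part (helper1). -/

set_option autoImplicit false
set_option maxHeartbeats 1000000

universe u

namespace Groth.Agent.Lib.GrSharpH1

open Groth.Agent.Lib.MonAlgSmoothH1

section Len

/-- a superadditive length function on a fine sharp monoid -/
theorem exists_len (N : Type*) [AddCommMonoid N] [AddMonoid.FG N] [IsCancelAdd N]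
    (hsharp : ∀ n : N, IsAddUnit n → n = 0) :
    ∃ ℓ : N → ℕ, (∀ a b, ℓ a + ℓ b ≤ ℓ (a + b)) ∧ (∀ m, m ≠ 0 → 1 ≤ ℓ m) := by
  classical
  obtain ⟨S, hS, hmin⟩ := exists_min_gen N
  have h1 := pim_surjective_of_closure S hS
  have h2 : ∀ i : S, (i : N) ≠ 0 := fun i hi => hmin i.1 i.2 (by
    rw [hi]
    exact zero_mem _)
  have hK0 : ∀ c : S →₀ ℕ, pim (Subtype.val : S → N) c = 0 → c = 0 :=
    pim_eq_zero _ hsharp h2
  have hanti : ∀ n, IsAntichain (· ≤ ·) {c : S →₀ ℕ | pim (Subtype.val : S → N) c = n} := by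
    intro n c hc d hd hne hle
    have hc' : pim (Subtype.val : S → N) c = n := hc
    have hd' : pim (Subtype.val : S → N) d = n := hd
    have hsplit := add_tsub_cancel_of_le hle
    have h0 : pim (Subtype.val : S → N) (d - c) = 0 := by
      have h' : pim (Subtype.val : S → N) c + pim (Subtype.val : S → N) (d - c) =
          pim (Subtype.val : S → N) c + 0 := by
        rw [← map_add, hsplit, add_zero, hc', hd']
      exact add_left_cancel h'
    rw [hK0 _ h0, add_zero] at hsplit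
    exact hne hsplit
  have hfin : ∀ n, {c : S →₀ ℕ | pim (Subtype.val : S → N) c = n}.Finite :=
    fun n => WellQuasiOrderedLE.finite_of_isAntichain (hanti n)
  refine ⟨fun n => (hfin n).toFinset.sup (fun c => Finsupp.degree c), ?_, ?_⟩
  · intro a b
    obtain ⟨ca, hca⟩ := h1 a
    obtain ⟨cb, hcb⟩ := h1 b
    have hnea : (hfin a).toFinset.Nonempty := ⟨ca, (hfin a).mem_toFinset.mpr hca⟩
    have hneb : (hfin b).toFinset.Nonempty := ⟨cb, (hfin b).mem_toFinset.mpr hcb⟩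
    obtain ⟨c, hc, hcs⟩ := Finset.exists_mem_eq_sup _ hnea (fun c => Finsupp.degree c)
    obtain ⟨d, hd, hds⟩ := Finset.exists_mem_eq_sup _ hneb (fun c => Finsupp.degree c)
    have hc' : pim (Subtype.val : S → N) c = a := (hfin a).mem_toFinset.mp hc
    have hd' : pim (Subtype.val : S → N) d = b := (hfin b).mem_toFinset.mp hd
    show (hfin a).toFinset.sup (fun c => Finsupp.degree c) +
      (hfin b).toFinset.sup (fun c => Finsupp.degree c) ≤
      (hfin (a + b)).toFinset.sup (fun c => Finsupp.degree c)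
    rw [hcs, hds, ← map_add]
    refine Finset.le_sup (f := fun c => Finsupp.degree c) ((hfin (a + b)).mem_toFinset.mpr ?_)
    show pim (Subtype.val : S → N) (c + d) = a + b
    rw [map_add, hc', hd']
  · intro m hm
    obtain ⟨c, hc⟩ := h1 m
    have hc0 : c ≠ 0 := fun h => hm (by rw [← hc, h, map_zero])
    have hdeg : 1 ≤ Finsupp.degree c := by
      rw [Nat.one_le_iff_ne_zero]
      intro h
      exact hc0 ((Finsupp.degree_eq_zero_iff c).mp h)
    exact hdeg.trans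
      (Finset.le_sup (f := fun c => Finsupp.degree c) ((hfin m).mem_toFinset.mpr hc))

end Len

section Graded

variable {A B : Type u} [CommRing A] [CommRing B] [Algebra A B]
  {N : Type} [AddCommMonoid N] [DecidableEq N]
  (ℬ : N → Submodule A B) [GradedAlgebra ℬ]

omit [DecidableEq N] in
theorem eq_zero_of_add_eq_zero (hsharp : ∀ n : N, IsAddUnit n → n = 0) {i j : N}
    (h : i + j = 0) : i = 0 ∧ j = 0 := by
  have hi : i = 0 := hsharp i (isAddUnit_iff_exists_neg.mpr ⟨j, h⟩)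
  refine ⟨hi, ?_⟩
  rw [hi, zero_add] at h
  exact h

theorem coe_decompose_mul_zero_hom (hsharp : ∀ n : N, IsAddUnit n → n = 0) {i j : N} (x y : B)
    (hx : x ∈ ℬ i) (hy : y ∈ ℬ j) :
    (DirectSum.decompose ℬ (x * y) 0 : B) =
      (DirectSum.decompose ℬ x 0 : B) * (DirectSum.decompose ℬ y 0 : B) := by
  have hxy : x * y ∈ ℬ (i + j) := SetLike.mul_mem_graded hx hy
  by_cases hij : i + j = 0
  · obtain ⟨hi, hj⟩ := eq_zero_of_add_eq_zero hsharp hij
    rw [hij] at hxy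
    rw [hi] at hx
    rw [hj] at hy
    rw [DirectSum.decompose_of_mem_same ℬ hxy, DirectSum.decompose_of_mem_same ℬ hx,
      DirectSum.decompose_of_mem_same ℬ hy]
  · rw [DirectSum.decompose_of_mem_ne ℬ hxy hij]
    by_cases hi : i = 0
    · have hj : j ≠ 0 := fun h => hij (by rw [hi, h, add_zero])
      rw [DirectSum.decompose_of_mem_ne ℬ hy hj, mul_zero]
    · rw [DirectSum.decompose_of_mem_ne ℬ hx hi, zero_mul]

theorem coe_decompose_mul_zero (hsharp : ∀ n : N, IsAddUnit n → n = 0) (x y : B) :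
    (DirectSum.decompose ℬ (x * y) 0 : B) =
      (DirectSum.decompose ℬ x 0 : B) * (DirectSum.decompose ℬ y 0 : B) := by
  classical
  refine DirectSum.Decomposition.inductionOn ℬ ?_ ?_ ?_ x
  · simp
  · intro i xi
    refine DirectSum.Decomposition.inductionOn ℬ ?_ ?_ ?_ y
    · simp
    · intro j yj
      exact coe_decompose_mul_zero_hom ℬ hsharp _ _ xi.2 yj.2
    · intro y1 y2 h1 h2
      simp only [mul_add, DirectSum.decompose_add, DirectSum.add_apply, Submodule.coe_add, h1, h2]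
  · intro x1 x2 h1 h2
    simp only [add_mul, DirectSum.decompose_add, DirectSum.add_apply, Submodule.coe_add, h1, h2]

/-- projection to degree zero, as an algebra endomorphism -/
noncomputable def p0 (hsharp : ∀ n : N, IsAddUnit n → n = 0) : B →ₐ[A] B where
  toFun x := (DirectSum.decompose ℬ x 0 : B)
  map_one' := DirectSum.decompose_of_mem_same ℬ (SetLike.one_mem_graded ℬ)
  map_mul' x y := coe_decompose_mul_zero ℬ hsharp x y
  map_zero' := by simp
  map_add' x y := by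
    simp only [DirectSum.decompose_add, DirectSum.add_apply, Submodule.coe_add]
  commutes' a := DirectSum.decompose_of_mem_same ℬ (SetLike.algebraMap_mem_graded ℬ a)

theorem p0_apply (hsharp : ∀ n : N, IsAddUnit n → n = 0) (x : B) :
    p0 ℬ hsharp x = (DirectSum.decompose ℬ x 0 : B) := rfl

/-- the irrelevant ideal -/
noncomputable def Irr (hsharp : ∀ n : N, IsAddUnit n → n = 0) : Ideal B :=
  RingHom.ker (p0 ℬ hsharp)

theorem mem_irr_iff (hsharp : ∀ n : N, IsAddUnit n → n = 0) (x : B) :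
    x ∈ Irr ℬ hsharp ↔ (DirectSum.decompose ℬ x 0 : B) = 0 := by
  unfold Irr
  rw [RingHom.mem_ker]
  rfl

theorem mem_irr_of_mem (hsharp : ∀ n : N, IsAddUnit n → n = 0) {d : N} (hd : d ≠ 0) {x : B}
    (hx : x ∈ ℬ d) : x ∈ Irr ℬ hsharp := by
  rw [mem_irr_iff, DirectSum.decompose_of_mem_ne ℬ hx hd]

theorem irr_hom (hsharp : ∀ n : N, IsAddUnit n → n = 0) :
    (Irr ℬ hsharp).IsHomogeneous ℬ := by
  intro i x hx
  by_cases hi : i = 0
  · rw [hi, (mem_irr_iff ℬ hsharp x).mp hx]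
    exact zero_mem _
  · exact mem_irr_of_mem ℬ hsharp hi (SetLike.coe_mem _)

theorem irr_sq_hom (hsharp : ∀ n : N, IsAddUnit n → n = 0) :
    ((Irr ℬ hsharp) ^ 2).IsHomogeneous ℬ := by
  rw [pow_two]
  exact (irr_hom ℬ hsharp).mul (irr_hom ℬ hsharp)

variable (hsharp : ∀ n : N, IsAddUnit n → n = 0)

/-- degree `d` projection on the irrelevant ideal -/
noncomputable def prI (d : N) : (Irr ℬ hsharp) →ₗ[A] (Irr ℬ hsharp) where
  toFun x := ⟨GradedAlgebra.proj ℬ d (x : B), irr_hom ℬ hsharp d x.2⟩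
  map_add' x y := by
    apply Subtype.ext
    show GradedAlgebra.proj ℬ d ((x : B) + (y : B)) =
      GradedAlgebra.proj ℬ d (x : B) + GradedAlgebra.proj ℬ d (y : B)
    exact map_add _ _ _
  map_smul' c x := by
    apply Subtype.ext
    show GradedAlgebra.proj ℬ d (c • (x : B)) = c • GradedAlgebra.proj ℬ d (x : B)
    exact map_smul _ _ _

theorem coe_prI (d : N) (x : Irr ℬ hsharp) :
    ((prI ℬ hsharp d x : Irr ℬ hsharp) : B) = (DirectSum.decompose ℬ (x : B) d : B) := rfl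

theorem prI_of_mem_ne (d d' : N) (x : Irr ℬ hsharp) (hx : (x : B) ∈ ℬ d) (h : d ≠ d') :
    prI ℬ hsharp d' x = 0 := by
  apply Subtype.ext
  rw [coe_prI, DirectSum.decompose_of_mem_ne ℬ hx h]
  rfl

theorem prI_of_mem_same (d : N) (x : Irr ℬ hsharp) (hx : (x : B) ∈ ℬ d) :
    prI ℬ hsharp d x = x := by
  apply Subtype.ext
  rw [coe_prI, DirectSum.decompose_of_mem_same ℬ hx]

/-- the `A`-linear cotangent map -/
noncomputable def piA : (Irr ℬ hsharp) →ₗ[A] (Irr ℬ hsharp).Cotangent :=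
  (Irr ℬ hsharp).toCotangent.restrictScalars A

theorem piA_surjective : Function.Surjective (piA ℬ hsharp) :=
  (Irr ℬ hsharp).toCotangent_surjective

theorem piA_eq_zero_iff (x : Irr ℬ hsharp) :
    piA ℬ hsharp x = 0 ↔ (x : B) ∈ (Irr ℬ hsharp) ^ 2 :=
  Ideal.toCotangent_eq_zero _ x

variable [Module.Projective A (Irr ℬ hsharp).Cotangent]

/-- a section of the cotangent map -/
noncomputable def s0 : (Irr ℬ hsharp).Cotangent →ₗ[A] (Irr ℬ hsharp) :=
  Classical.choose (Module.projective_lifting_property (piA ℬ hsharp) LinearMap.id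
    (piA_surjective ℬ hsharp))

theorem pi_s0 (n : (Irr ℬ hsharp).Cotangent) : piA ℬ hsharp (s0 ℬ hsharp n) = n :=
  LinearMap.congr_fun (Classical.choose_spec (Module.projective_lifting_property
    (piA ℬ hsharp) LinearMap.id (piA_surjective ℬ hsharp))) n

/-- `s0 ∘ π` -/
noncomputable def ww : (Irr ℬ hsharp) →ₗ[A] (Irr ℬ hsharp) := (s0 ℬ hsharp) ∘ₗ (piA ℬ hsharp)

theorem ww_sub_mem (x : Irr ℬ hsharp) :
    ((x : B) - (ww ℬ hsharp x : B)) ∈ (Irr ℬ hsharp) ^ 2 := by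
  rw [← Ideal.toCotangent_eq]
  exact (pi_s0 ℬ hsharp (piA ℬ hsharp x)).symm

theorem ww_of_sq (x : Irr ℬ hsharp) (hx : (x : B) ∈ (Irr ℬ hsharp) ^ 2) :
    ww ℬ hsharp x = 0 := by
  unfold ww
  rw [LinearMap.comp_apply, (piA_eq_zero_iff ℬ hsharp x).mpr hx, map_zero]

theorem exists_T [Module.Finite A (Irr ℬ hsharp).Cotangent] :
    ∃ T : Finset N, ∀ d, d ∉ T → ∀ x : Irr ℬ hsharp, prI ℬ hsharp d (ww ℬ hsharp x) = 0 := by
  classical
  obtain ⟨S, hS⟩ := (Module.Finite.fg_top : (⊤ : Submodule A (Irr ℬ hsharp).Cotangent).FG)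
  refine ⟨S.biUnion (fun m => (DirectSum.decompose ℬ ((s0 ℬ hsharp m : Irr ℬ hsharp) : B)).support),
    fun d hd x => ?_⟩
  have hzero : (prI ℬ hsharp d) ∘ₗ (s0 ℬ hsharp) = 0 := by
    apply LinearMap.ext_on hS
    intro m hm
    rw [LinearMap.comp_apply, LinearMap.zero_apply]
    apply Subtype.ext
    rw [coe_prI]
    have hnot : d ∉ (DirectSum.decompose ℬ ((s0 ℬ hsharp m : Irr ℬ hsharp) : B)).support :=
      fun h => hd (Finset.mem_biUnion.mpr ⟨m, hm, h⟩)
    rw [DFinsupp.notMem_support_iff] at hnot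
    rw [hnot]
    rfl
  exact LinearMap.congr_fun hzero (piA ℬ hsharp x)

variable (T : Finset N)

/-- the graded refinement of `s0 ∘ π` -/
noncomputable def shat : (Irr ℬ hsharp) →ₗ[A] (Irr ℬ hsharp) :=
  ∑ d ∈ T, (prI ℬ hsharp d) ∘ₗ (ww ℬ hsharp) ∘ₗ (prI ℬ hsharp d)

theorem shat_apply (x : Irr ℬ hsharp) :
    shat ℬ hsharp T x = ∑ d ∈ T, prI ℬ hsharp d (ww ℬ hsharp (prI ℬ hsharp d x)) := by
  unfold shat
  rw [LinearMap.sum_apply]
  rfl

theorem shat_of_sq (x : Irr ℬ hsharp) (hx : (x : B) ∈ (Irr ℬ hsharp) ^ 2) :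
    shat ℬ hsharp T x = 0 := by
  rw [shat_apply]
  refine Finset.sum_eq_zero (fun d _ => ?_)
  rw [ww_of_sq ℬ hsharp (prI ℬ hsharp d x) (irr_sq_hom ℬ hsharp d hx), map_zero]

theorem shat_ww (x : Irr ℬ hsharp) :
    shat ℬ hsharp T (ww ℬ hsharp x) = shat ℬ hsharp T x := by
  have h := shat_of_sq ℬ hsharp T (x - ww ℬ hsharp x) (by
    rw [AddSubgroupClass.coe_sub]
    exact ww_sub_mem ℬ hsharp x)
  rw [map_sub, sub_eq_zero] at h
  exact h.symm

theorem shat_of_mem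
    (hT : ∀ d, d ∉ T → ∀ x : Irr ℬ hsharp, prI ℬ hsharp d (ww ℬ hsharp x) = 0)
    (d : N) (x : Irr ℬ hsharp) (hx : (x : B) ∈ ℬ d) :
    shat ℬ hsharp T x = prI ℬ hsharp d (ww ℬ hsharp x) := by
  rw [shat_apply, Finset.sum_eq_single d]
  · rw [prI_of_mem_same ℬ hsharp d x hx]
  · intro d' _ hne
    rw [prI_of_mem_ne ℬ hsharp d d' x hx (Ne.symm hne), map_zero, map_zero]
  · intro hd
    rw [prI_of_mem_same ℬ hsharp d x hx]
    exact hT d hd x

/-- key: projection commutes with `π` modulo the refinement -/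
theorem pi_prI_ww (d : N) (x : Irr ℬ hsharp) :
    piA ℬ hsharp (prI ℬ hsharp d (ww ℬ hsharp (prI ℬ hsharp d x))) =
      piA ℬ hsharp (prI ℬ hsharp d x) := by
  have h1 := irr_sq_hom ℬ hsharp d (ww_sub_mem ℬ hsharp (prI ℬ hsharp d x))
  have h2 : (DirectSum.decompose ℬ
      (((prI ℬ hsharp d x : Irr ℬ hsharp) : B) -
        ((ww ℬ hsharp (prI ℬ hsharp d x) : Irr ℬ hsharp) : B)) d : B) =
      ((prI ℬ hsharp d x - prI ℬ hsharp d (ww ℬ hsharp (prI ℬ hsharp d x)) : Irr ℬ hsharp) : B) := by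
    rw [DirectSum.decompose_sub, DirectSum.sub_apply, AddSubgroupClass.coe_sub,
      AddSubgroupClass.coe_sub]
    simp only [coe_prI]
    rw [DirectSum.decompose_of_mem_same ℬ (SetLike.coe_mem _)]
  rw [h2] at h1
  have h3 := (piA_eq_zero_iff ℬ hsharp _).mpr h1
  rw [map_sub, sub_eq_zero] at h3
  exact h3.symm

theorem pi_shat
    (hT : ∀ d, d ∉ T → ∀ x : Irr ℬ hsharp, prI ℬ hsharp d (ww ℬ hsharp x) = 0)
    (x : Irr ℬ hsharp) : piA ℬ hsharp (shat ℬ hsharp T x) = piA ℬ hsharp x := by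
  classical
  have hout : ∀ d, d ∉ T → piA ℬ hsharp (prI ℬ hsharp d x) = 0 := by
    intro d hd
    rw [← pi_prI_ww, hT d hd, map_zero]
  have hx : x = ∑ d ∈ T ∪ (DirectSum.decompose ℬ (x : B)).support, prI ℬ hsharp d x := by
    apply Subtype.ext
    rw [Submodule.coe_sum]
    conv_lhs => rw [← DirectSum.sum_support_decompose ℬ (x : B)]
    refine Finset.sum_subset Finset.subset_union_right (fun d _ hd => ?_)
    rw [DFinsupp.notMem_support_iff] at hd
    rw [hd]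
    rfl
  conv_rhs => rw [hx]
  rw [shat_apply, map_sum, map_sum]
  rw [← Finset.sum_subset (Finset.subset_union_left (s₂ := (DirectSum.decompose ℬ (x : B)).support))
    (fun d _ hd => hout d hd)]
  exact Finset.sum_congr rfl (fun d _ => pi_prI_ww ℬ hsharp d x)

/-- the graded section of the cotangent map -/
noncomputable def sM : (Irr ℬ hsharp).Cotangent →ₗ[A] (Irr ℬ hsharp) :=
  (shat ℬ hsharp T) ∘ₗ (s0 ℬ hsharp)

theorem pi_sM
    (hT : ∀ d, d ∉ T → ∀ x : Irr ℬ hsharp, prI ℬ hsharp d (ww ℬ hsharp x) = 0)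
    (m : (Irr ℬ hsharp).Cotangent) : piA ℬ hsharp (sM ℬ hsharp T m) = m := by
  unfold sM
  rw [LinearMap.comp_apply, pi_shat ℬ hsharp T hT, pi_s0]

theorem shat_eq (x : Irr ℬ hsharp) :
    shat ℬ hsharp T x = sM ℬ hsharp T (piA ℬ hsharp x) := by
  rw [← shat_ww]
  rfl

end Graded

section Sym

variable {A : Type*} [CommRing A] {M : Type*} [AddCommGroup M] [Module A M]

variable (A M) in
/-- augmentation ideal of the symmetric algebra -/
noncomputable def aug : Ideal (SymmetricAlgebra A M) :=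
  Ideal.span (Set.range (SymmetricAlgebra.ι A M))

theorem ι_mem_aug (m : M) : SymmetricAlgebra.ι A M m ∈ aug A M := Ideal.subset_span ⟨m, rfl⟩

theorem exists_decomp (s : SymmetricAlgebra A M) :
    ∃ (a : A) (m : M) (z : SymmetricAlgebra A M), z ∈ aug A M ^ 2 ∧
      s = algebraMap A (SymmetricAlgebra A M) a + SymmetricAlgebra.ι A M m + z := by
  refine SymmetricAlgebra.induction A M ?_ ?_ ?_ ?_ s
  · intro r
    exact ⟨r, 0, 0, zero_mem _, by rw [map_zero, add_zero, add_zero]⟩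
  · intro x
    exact ⟨0, x, 0, zero_mem _, by rw [map_zero, zero_add, add_zero]⟩
  · intro a b ha hb
    obtain ⟨a1, m1, z1, hz1, rfl⟩ := ha
    obtain ⟨a2, m2, z2, hz2, rfl⟩ := hb
    refine ⟨a1 * a2, a1 • m2 + a2 • m1,
      SymmetricAlgebra.ι A M m1 * SymmetricAlgebra.ι A M m2 +
        z1 * (algebraMap A (SymmetricAlgebra A M) a2 + SymmetricAlgebra.ι A M m2 + z2) +
        (algebraMap A (SymmetricAlgebra A M) a1 + SymmetricAlgebra.ι A M m1) * z2, ?_, ?_⟩
    · refine Ideal.add_mem _ (Ideal.add_mem _ ?_ (Ideal.mul_mem_right _ _ hz1))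
        (Ideal.mul_mem_left _ _ hz2)
      rw [pow_two]
      exact Ideal.mul_mem_mul (ι_mem_aug m1) (ι_mem_aug m2)
    · rw [map_mul, map_add, map_smul, map_smul, Algebra.smul_def, Algebra.smul_def]
      ring
  · intro a b ha hb
    obtain ⟨a1, m1, z1, hz1, rfl⟩ := ha
    obtain ⟨a2, m2, z2, hz2, rfl⟩ := hb
    exact ⟨a1 + a2, m1 + m2, z1 + z2, Ideal.add_mem _ hz1 hz2, by
      rw [map_add, map_add]
      ring⟩

theorem eq_zero_of_forall_mem_aug_pow [Module.Finite A M] [Module.Projective A M]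
    (s : SymmetricAlgebra A M) (h : ∀ k, s ∈ aug A M ^ k) : s = 0 := by
  obtain ⟨n, f, g, _, _, hfg⟩ := Module.Finite.exists_comp_eq_id_of_projective A M
  have hfg' : ∀ m, f (g m) = m := fun m => LinearMap.congr_fun hfg m
  obtain ⟨Φ, hΦ⟩ : ∃ Φ : SymmetricAlgebra A M →ₐ[A] MvPolynomial (Fin n) A,
      Φ = ((SymmetricAlgebra.equivMvPolynomial (Pi.basisFun A (Fin n)) :
        SymmetricAlgebra A (Fin n → A) →ₐ[A] MvPolynomial (Fin n) A)).comp
        (SymmetricAlgebra.lift ((SymmetricAlgebra.ι A (Fin n → A)) ∘ₗ g)) := ⟨_, rfl⟩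
  obtain ⟨Ψ, hΨ⟩ : ∃ Ψ : MvPolynomial (Fin n) A →ₐ[A] SymmetricAlgebra A M,
      Ψ = (SymmetricAlgebra.lift ((SymmetricAlgebra.ι A M) ∘ₗ f)).comp
        ((SymmetricAlgebra.equivMvPolynomial (Pi.basisFun A (Fin n))).symm :
          MvPolynomial (Fin n) A →ₐ[A] SymmetricAlgebra A (Fin n → A)) := ⟨_, rfl⟩
  have hΦι : ∀ m, Φ (SymmetricAlgebra.ι A M m) =
      SymmetricAlgebra.equivMvPolynomial (Pi.basisFun A (Fin n))
        (SymmetricAlgebra.ι A (Fin n → A) (g m)) := by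
    intro m
    rw [hΦ, AlgHom.comp_apply, SymmetricAlgebra.lift_ι_apply]
    rfl
  have hΨe : ∀ y, Ψ (SymmetricAlgebra.equivMvPolynomial (Pi.basisFun A (Fin n)) y) =
      SymmetricAlgebra.lift ((SymmetricAlgebra.ι A M) ∘ₗ f) y := by
    intro y
    rw [hΨ, AlgHom.comp_apply]
    show SymmetricAlgebra.lift ((SymmetricAlgebra.ι A M) ∘ₗ f)
      ((SymmetricAlgebra.equivMvPolynomial (Pi.basisFun A (Fin n))).symm
        (SymmetricAlgebra.equivMvPolynomial (Pi.basisFun A (Fin n)) y)) = _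
    rw [AlgEquiv.symm_apply_apply]
  have hΨΦ : Ψ.comp Φ = AlgHom.id A (SymmetricAlgebra A M) := by
    refine SymmetricAlgebra.algHom_ext (LinearMap.ext fun m => ?_)
    show Ψ (Φ (SymmetricAlgebra.ι A M m)) = SymmetricAlgebra.ι A M m
    rw [hΦι, hΨe, SymmetricAlgebra.lift_ι_apply, LinearMap.comp_apply, hfg']
  have hΦaug : ∀ m, Φ (SymmetricAlgebra.ι A M m) ∈ MvPolynomial.idealOfVars (Fin n) A := by
    intro m
    rw [hΦι]
    have hsum : g m = ∑ j, (g m j) • (Pi.basisFun A (Fin n)) j := by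
      conv_lhs => rw [← (Pi.basisFun A (Fin n)).sum_repr (g m)]
      refine Finset.sum_congr rfl (fun j _ => ?_)
      rw [Pi.basisFun_repr]
    rw [hsum, map_sum, map_sum]
    refine Ideal.sum_mem _ (fun j _ => ?_)
    rw [map_smul, map_smul, SymmetricAlgebra.equivMvPolynomial_ι_apply]
    refine Submodule.smul_of_tower_mem _ _ ?_
    rw [MvPolynomial.idealOfVars]
    exact Ideal.subset_span ⟨j, rfl⟩
  have hle : aug A M ≤ (MvPolynomial.idealOfVars (Fin n) A).comap Φ := by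
    unfold aug
    rw [Ideal.span_le]
    rintro _ ⟨m, rfl⟩
    exact hΦaug m
  have hΦs : Φ s = 0 := by
    apply eq_zero_of_forall_mem_pow'
    intro k
    exact (Ideal.le_comap_pow Φ k) (Ideal.pow_right_mono hle k (h k))
  have h1 : Ψ (Φ s) = s := by
    have := AlgHom.congr_fun hΨΦ s
    exact this
  rw [← h1, hΦs, map_zero]

end Sym

section Surj

variable {A B : Type u} [CommRing A] [CommRing B] [Algebra A B]
  {N : Type} [AddCommMonoid N] [DecidableEq N]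
  (ℬ : N → Submodule A B) [GradedAlgebra ℬ] (hsharp : ∀ n : N, IsAddUnit n → n = 0)

theorem p0_eq_zero_of_mem {x : B} (hx : x ∈ Irr ℬ hsharp) : p0 ℬ hsharp x = 0 :=
  (mem_irr_iff ℬ hsharp x).mp hx

theorem proj_mul_mem (ℓ : N → ℕ) (hℓ1 : ∀ a b, ℓ a + ℓ b ≤ ℓ (a + b))
    (hℓ2 : ∀ m, m ≠ 0 → 1 ≤ ℓ m) (R' : Subalgebra A B) (n : N)
    (hR : ∀ i, ℓ i < ℓ n → ∀ x ∈ ℬ i, x ∈ R')
    (u v : B) (hu : u ∈ Irr ℬ hsharp) (hv : v ∈ Irr ℬ hsharp) :
    (DirectSum.decompose ℬ (u * v) n : B) ∈ R' := by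
  classical
  rw [DirectSum.decompose_mul, DirectSum.coe_mul_apply]
  refine Subalgebra.sum_mem _ (fun ij hij => ?_)
  rw [Finset.mem_filter] at hij
  have hsum : ij.1 + ij.2 = n := hij.2
  by_cases h1 : ij.1 = 0
  · have h : (DirectSum.decompose ℬ u ij.1 : B) = 0 := by
      rw [h1]
      exact (mem_irr_iff ℬ hsharp u).mp hu
    rw [h, zero_mul]
    exact R'.zero_mem
  by_cases h2 : ij.2 = 0
  · have h : (DirectSum.decompose ℬ v ij.2 : B) = 0 := by
      rw [h2]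
      exact (mem_irr_iff ℬ hsharp v).mp hv
    rw [h, mul_zero]
    exact R'.zero_mem
  have hl := hℓ1 ij.1 ij.2
  rw [hsum] at hl
  have hl1 := hℓ2 _ h1
  have hl2 := hℓ2 _ h2
  exact R'.mul_mem (hR _ (by omega) _ (SetLike.coe_mem _)) (hR _ (by omega) _ (SetLike.coe_mem _))

theorem proj_sq_mem (ℓ : N → ℕ) (hℓ1 : ∀ a b, ℓ a + ℓ b ≤ ℓ (a + b))
    (hℓ2 : ∀ m, m ≠ 0 → 1 ≤ ℓ m) (R' : Subalgebra A B) (n : N)
    (hR : ∀ i, ℓ i < ℓ n → ∀ x ∈ ℬ i, x ∈ R')
    (c : B) (hc : c ∈ (Irr ℬ hsharp) ^ 2) : (DirectSum.decompose ℬ c n : B) ∈ R' := by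
  rw [pow_two] at hc
  refine Submodule.mul_induction_on hc ?_ ?_
  · intro u hu v hv
    exact proj_mul_mem ℬ hsharp ℓ hℓ1 hℓ2 R' n hR u v hu hv
  · intro x y hx hy
    rw [DirectSum.decompose_add, DirectSum.add_apply, Submodule.coe_add]
    exact R'.add_mem hx hy

variable [Module.Projective A (Irr ℬ hsharp).Cotangent] (T : Finset N)

/-- the linear map defining the comparison map -/
noncomputable def fM : (Irr ℬ hsharp).Cotangent →ₗ[A] B :=
  ((Irr ℬ hsharp).subtype.restrictScalars A) ∘ₗ (sM ℬ hsharp T)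

/-- the comparison map -/
noncomputable def phi : SymmetricAlgebra A (Irr ℬ hsharp).Cotangent →ₐ[A] B :=
  SymmetricAlgebra.lift (fM ℬ hsharp T)

theorem phi_ι (m : (Irr ℬ hsharp).Cotangent) :
    phi ℬ hsharp T (SymmetricAlgebra.ι A _ m) = ((sM ℬ hsharp T m : Irr ℬ hsharp) : B) :=
  SymmetricAlgebra.lift_ι_apply _ m

theorem piece_mem_range (ℓ : N → ℕ) (hℓ1 : ∀ a b, ℓ a + ℓ b ≤ ℓ (a + b))
    (hℓ2 : ∀ m, m ≠ 0 → 1 ≤ ℓ m)
    (h0 : ∀ b : B, b ∈ ℬ 0 → b ∈ Set.range (algebraMap A B))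
    (hT : ∀ d, d ∉ T → ∀ x : Irr ℬ hsharp, prI ℬ hsharp d (ww ℬ hsharp x) = 0) :
    ∀ k n, ℓ n = k → ∀ x ∈ ℬ n, x ∈ (phi ℬ hsharp T).range := by
  intro k
  induction k using Nat.strong_induction_on with
  | _ k ih =>
    intro n hn x hx
    by_cases hn0 : n = 0
    · rw [hn0] at hx
      obtain ⟨a, rfl⟩ := h0 x hx
      exact Subalgebra.algebraMap_mem _ a
    · have hxI : x ∈ Irr ℬ hsharp := mem_irr_of_mem ℬ hsharp hn0 hx
      have e1 : ((shat ℬ hsharp T ⟨x, hxI⟩ : Irr ℬ hsharp) : B) =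
          (DirectSum.decompose ℬ ((ww ℬ hsharp ⟨x, hxI⟩ : Irr ℬ hsharp) : B) n : B) := by
        rw [shat_of_mem ℬ hsharp T hT n ⟨x, hxI⟩ hx, coe_prI]
      have e2 : x = ((shat ℬ hsharp T ⟨x, hxI⟩ : Irr ℬ hsharp) : B) +
          (DirectSum.decompose ℬ (x - ((ww ℬ hsharp ⟨x, hxI⟩ : Irr ℬ hsharp) : B)) n : B) := by
        rw [e1, DirectSum.decompose_sub, DirectSum.sub_apply, AddSubgroupClass.coe_sub,
          DirectSum.decompose_of_mem_same ℬ hx]
        ring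
      rw [e2]
      refine Subalgebra.add_mem _ ?_ ?_
      · rw [shat_eq, ← phi_ι]
        exact (AlgHom.mem_range _).mpr ⟨_, rfl⟩
      · exact proj_sq_mem ℬ hsharp ℓ hℓ1 hℓ2 _ n
          (fun i hi y hy => ih (ℓ i) (by omega) i rfl y hy) _ (ww_sub_mem ℬ hsharp ⟨x, hxI⟩)

theorem phi_surjective (ℓ : N → ℕ) (hℓ1 : ∀ a b, ℓ a + ℓ b ≤ ℓ (a + b))
    (hℓ2 : ∀ m, m ≠ 0 → 1 ≤ ℓ m)
    (h0 : ∀ b : B, b ∈ ℬ 0 → b ∈ Set.range (algebraMap A B))
    (hT : ∀ d, d ∉ T → ∀ x : Irr ℬ hsharp, prI ℬ hsharp d (ww ℬ hsharp x) = 0) :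
    Function.Surjective (phi ℬ hsharp T) := by
  classical
  intro x
  rw [← AlgHom.mem_range]
  rw [← DirectSum.sum_support_decompose ℬ x]
  exact Subalgebra.sum_mem _ (fun d _ =>
    piece_mem_range ℬ hsharp T ℓ hℓ1 hℓ2 h0 hT _ d rfl _ (SetLike.coe_mem _))

theorem phi_mem_sq (z : SymmetricAlgebra A (Irr ℬ hsharp).Cotangent)
    (hz : z ∈ aug A (Irr ℬ hsharp).Cotangent ^ 2) :
    phi ℬ hsharp T z ∈ (Irr ℬ hsharp) ^ 2 := by
  have hle : aug A (Irr ℬ hsharp).Cotangent ≤ (Irr ℬ hsharp).comap (phi ℬ hsharp T) := by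
    unfold aug
    rw [Ideal.span_le]
    rintro _ ⟨m, rfl⟩
    show phi ℬ hsharp T (SymmetricAlgebra.ι A _ m) ∈ Irr ℬ hsharp
    rw [phi_ι]
    exact (sM ℬ hsharp T m).2
  exact (Ideal.le_comap_pow (phi ℬ hsharp T) 2) (Ideal.pow_right_mono hle 2 hz)

theorem ker_le_sq (hinj : Function.Injective (algebraMap A B))
    (hT : ∀ d, d ∉ T → ∀ x : Irr ℬ hsharp, prI ℬ hsharp d (ww ℬ hsharp x) = 0)
    (f : SymmetricAlgebra A (Irr ℬ hsharp).Cotangent) (hf : phi ℬ hsharp T f = 0) :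
    f ∈ aug A (Irr ℬ hsharp).Cotangent ^ 2 := by
  obtain ⟨a, m, z, hz, rfl⟩ := exists_decomp f
  have hz2 := phi_mem_sq ℬ hsharp T z hz
  rw [map_add, map_add, AlgHom.commutes, phi_ι] at hf
  have hp := congrArg (p0 ℬ hsharp) hf
  rw [map_add, map_add, map_zero, AlgHom.commutes,
    p0_eq_zero_of_mem ℬ hsharp (sM ℬ hsharp T m).2,
    p0_eq_zero_of_mem ℬ hsharp (Ideal.pow_le_self two_ne_zero hz2), add_zero, add_zero] at hp
  have ha : a = 0 := hinj (by rw [hp, map_zero])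
  subst ha
  rw [map_zero, zero_add] at hf
  have hs : ((sM ℬ hsharp T m : Irr ℬ hsharp) : B) ∈ (Irr ℬ hsharp) ^ 2 := by
    rw [eq_neg_of_add_eq_zero_left hf]
    exact neg_mem hz2
  have hm : m = 0 := by
    rw [← pi_sM ℬ hsharp T hT m]
    exact (piA_eq_zero_iff ℬ hsharp _).mpr hs
  subst hm
  rw [map_zero, map_zero, zero_add, zero_add]
  exact hz

end Surj

end Groth.Agent.Lib.GrSharpH1
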