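import Mathlib
import Groth.Agent.Lib.GrSharp_helper1

/-! Conormal module of an augmentation of a smooth algebra is finite projective (helper1). -/

set_option autoImplicit false
set_option maxHeartbeats 1000000

universe u

namespace Groth.Agent.Lib.GrSharpH1

section Conormal

theorem conormal_projective_finite {R A B : Type u} [CommRing R] [CommRing A] [CommRing B]
    [Algebra R A] [Algebra R B] [Algebra A B] [IsScalarTower R A B]
    [Algebra.FormallySmooth R B] [Algebra.FiniteType R B]
    (p : B →ₐ[A] A) (J : Ideal B) (hJ : J = RingHom.ker p.toRingHom) :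
    Module.Projective A J.Cotangent ∧ Module.Finite A J.Cotangent := by
  subst hJ
  letI : Algebra B A := p.toRingHom.toAlgebra
  have hmap : ∀ b, algebraMap B A b = p b := fun b => rfl
  haveI : IsScalarTower R B A := IsScalarTower.of_algebraMap_eq (fun r => by
    rw [hmap, IsScalarTower.algebraMap_apply R A B, AlgHom.commutes]
    rfl)
  have hA : Algebra.FormallySmooth R A := by
    refine Algebra.FormallySmooth.of_split (p.restrictScalars R)
      ((Ideal.Quotient.mkₐ R _).comp (IsScalarTower.toAlgHom R A B)) ?_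
    refine AlgHom.ext fun a => ?_
    show p (algebraMap A B a) = a
    exact p.commutes a
  let P : Algebra.Extension R A := Algebra.Extension.mk B (algebraMap A B) (fun a => p.commutes a)
  haveI : Algebra.FormallySmooth R P.Ring := ‹Algebra.FormallySmooth R B›
  obtain ⟨l, hl⟩ := (P.formallySmooth_iff_split_injection).mp hA
  haveI : Module.Projective A P.CotangentSpace := inferInstance
  haveI : Module.Finite A P.CotangentSpace := inferInstance
  have hproj : Module.Projective A P.Cotangent := Module.Projective.of_split P.cotangentComplex l hl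
  have hfin : Module.Finite A P.Cotangent :=
    Module.Finite.of_surjective l (fun x => ⟨P.cotangentComplex x, LinearMap.congr_fun hl x⟩)
  let e : P.Cotangent ≃ₗ[A] (RingHom.ker p.toRingHom).Cotangent :=
    { toFun := fun x => x.val
      invFun := fun x => Algebra.Extension.Cotangent.of x
      map_add' := fun _ _ => rfl
      map_smul' := fun a x => by
        show (a • x).val = a • x.val
        rw [Algebra.Extension.Cotangent.val_smul]
        exact algebraMap_smul B a _
      left_inv := fun _ => rfl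
      right_inv := fun _ => rfl }
  exact ⟨Module.Projective.of_equiv e, Module.Finite.equiv e⟩

end Conormal

section Core

theorem core {R A B : Type u} [CommRing R] [CommRing A] [CommRing B]
    [Algebra R A] [Algebra R B] [Algebra A B] [IsScalarTower R A B]
    [Algebra.FormallySmooth R B] [Algebra.FiniteType R B]
    {N : Type} [AddCommMonoid N] [DecidableEq N]
    (ℬ : N → Submodule A B) [GradedAlgebra ℬ] (hsharp : ∀ n : N, IsAddUnit n → n = 0)
    (ℓ : N → ℕ) (hℓ1 : ∀ a b, ℓ a + ℓ b ≤ ℓ (a + b)) (hℓ2 : ∀ m, m ≠ 0 → 1 ≤ ℓ m)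
    (h0 : ∀ b : B, b ∈ ℬ 0 → b ∈ Set.range (algebraMap A B))
    (hinj : Function.Injective (algebraMap A B)) :
    ∃ (P : Type u) (_ : AddCommGroup P) (_ : Module A P), Module.Finite A P ∧
      Module.Projective A P ∧ Nonempty (B ≃ₐ[A] SymmetricAlgebra A P) := by
  have hmem : ∀ x, p0 ℬ hsharp x ∈ (Algebra.ofId A B).range := fun x => by
    obtain ⟨a, ha⟩ := h0 _ (SetLike.coe_mem (DirectSum.decompose ℬ x 0))
    exact ⟨a, ha⟩
  have hinj' : Function.Injective (Algebra.ofId A B) := hinj
  obtain ⟨pA, hpA⟩ : ∃ pA : B →ₐ[A] A, ∀ b, algebraMap A B (pA b) = p0 ℬ hsharp b := by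
    refine ⟨((AlgEquiv.ofInjective (Algebra.ofId A B) hinj').symm : _ →ₐ[A] A).comp
      ((p0 ℬ hsharp).codRestrict _ hmem), fun b => ?_⟩
    have h1 := AlgEquiv.ofInjective_apply (Algebra.ofId A B) hinj'
      ((AlgEquiv.ofInjective (Algebra.ofId A B) hinj').symm ((p0 ℬ hsharp).codRestrict _ hmem b))
    rw [AlgEquiv.apply_symm_apply] at h1
    exact h1.symm
  have hJ : Irr ℬ hsharp = RingHom.ker pA.toRingHom := by
    ext x
    rw [RingHom.mem_ker]
    show x ∈ Irr ℬ hsharp ↔ pA x = 0
    constructor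
    · intro hx
      apply hinj
      rw [hpA, map_zero]
      exact p0_eq_zero_of_mem ℬ hsharp hx
    · intro hx
      rw [mem_irr_iff]
      show p0 ℬ hsharp x = 0
      rw [← hpA, hx, map_zero]
  obtain ⟨hproj, hfin⟩ := conormal_projective_finite (R := R) pA (Irr ℬ hsharp) hJ
  obtain ⟨T, hT⟩ := exists_T ℬ hsharp
  have hsurj := phi_surjective ℬ hsharp T ℓ hℓ1 hℓ2 h0 hT
  letI : Algebra R (SymmetricAlgebra A (Irr ℬ hsharp).Cotangent) :=
    ((algebraMap A (SymmetricAlgebra A (Irr ℬ hsharp).Cotangent)).comp (algebraMap R A)).toAlgebra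
  obtain ⟨φR, hφR⟩ : ∃ φR : SymmetricAlgebra A (Irr ℬ hsharp).Cotangent →ₐ[R] B,
      ∀ x, φR x = phi ℬ hsharp T x :=
    ⟨{ (phi ℬ hsharp T).toRingHom with
        commutes' := fun r => by
          show phi ℬ hsharp T (algebraMap A (SymmetricAlgebra A (Irr ℬ hsharp).Cotangent)
            (algebraMap R A r)) = algebraMap R B r
          rw [AlgHom.commutes, ← IsScalarTower.algebraMap_apply] }, fun x => rfl⟩
  have hsurjR : Function.Surjective φR := fun y => by
    obtain ⟨x, hx⟩ := hsurj y
    exact ⟨x, by rw [hφR, hx]⟩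
  haveI : Algebra.FormallySmooth R (SymmetricAlgebra A (Irr ℬ hsharp).Cotangent ⧸
      RingHom.ker φR) :=
    Algebra.FormallySmooth.of_equiv (Ideal.quotientKerAlgEquivOfSurjective hsurjR).symm
  have hK : RingHom.ker φR ≤ aug A (Irr ℬ hsharp).Cotangent ^ 2 :=
    fun f hf => ker_le_sq ℬ hsharp T hinj hT f (by
      rw [← hφR]
      exact RingHom.mem_ker.mp hf)
  have hK2 := GrSmoothH1.le_mul_of_formallySmooth_quotient (A := R) _ _ hK
  have hinjφ : Function.Injective (phi ℬ hsharp T) := by
    rw [injective_iff_map_eq_zero]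
    intro k hk
    apply eq_zero_of_forall_mem_aug_pow
    intro m
    exact GrSmoothH1.le_pow_of_le_mul _ _ hK2 m (RingHom.mem_ker.mpr (by rw [hφR, hk]))
  exact ⟨(Irr ℬ hsharp).Cotangent, inferInstance, inferInstance, hfin, hproj,
    ⟨(AlgEquiv.ofBijective (phi ℬ hsharp T) ⟨hinjφ, hsurj⟩).symm⟩⟩

end Core

section Regrade

variable {R : Type u} [CommRing R] {A : Type u} [CommRing A] [Algebra R A]
  {N : Type} [AddCommMonoid N] [DecidableEq N] (𝒜 : N → Submodule R A) [GradedAlgebra 𝒜]

/-- regrading over the degree zero part -/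
def regr (n : N) : Submodule (𝒜 0) A where
  carrier := 𝒜 n
  add_mem' := (𝒜 n).add_mem
  zero_mem' := (𝒜 n).zero_mem
  smul_mem' := fun a x hx => by
    have h := SetLike.mul_mem_graded a.2 hx
    rw [zero_add] at h
    exact h

theorem mem_regr (n : N) (x : A) : x ∈ regr 𝒜 n ↔ x ∈ 𝒜 n := Iff.rfl

instance : SetLike.GradedMonoid (regr 𝒜) where
  one_mem := SetLike.one_mem_graded 𝒜
  mul_mem := fun _ _ _ _ hx hy => SetLike.mul_mem_graded (A := 𝒜) hx hy

/-- identity between pieces -/
def toB (i : N) : 𝒜 i →+ regr 𝒜 i where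
  toFun y := ⟨y.1, y.2⟩
  map_zero' := rfl
  map_add' _ _ := rfl

/-- decomposition map for the regrading -/
noncomputable def decompB : A →+ DirectSum N (fun i => regr 𝒜 i) :=
  (DFinsupp.mapRange.addMonoidHom (fun i => toB 𝒜 i)).comp
    (DirectSum.decomposeAddEquiv 𝒜).toAddMonoidHom

theorem decompB_of_mem {i : N} {x : A} (hx : x ∈ 𝒜 i) :
    decompB 𝒜 x = DirectSum.of (fun i => regr 𝒜 i) i ⟨x, hx⟩ := by
  show DFinsupp.mapRange.addMonoidHom (fun i => toB 𝒜 i) (DirectSum.decompose 𝒜 x) = _
  rw [DirectSum.decompose_of_mem 𝒜 hx]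
  exact DFinsupp.mapRange_single (f := fun i => toB 𝒜 i) (hf := fun i => map_zero _)

noncomputable instance : DirectSum.Decomposition (regr 𝒜) :=
  DirectSum.Decomposition.ofAddHom (regr 𝒜) (decompB 𝒜)
    (by
      ext x
      show DirectSum.coeAddMonoidHom (regr 𝒜) (decompB 𝒜 x) = x
      refine DirectSum.Decomposition.inductionOn 𝒜 ?_ ?_ ?_ x
      · rw [map_zero, map_zero]
      · intro i m
        rw [decompB_of_mem 𝒜 m.2, DirectSum.coeAddMonoidHom_of]
      · intro a b ha hb
        rw [map_add, map_add, ha, hb])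
    (by
      apply DirectSum.addHom_ext
      intro i y
      show decompB 𝒜 (DirectSum.coeAddMonoidHom (regr 𝒜) (DirectSum.of _ i y)) = DirectSum.of _ i y
      rw [DirectSum.coeAddMonoidHom_of, decompB_of_mem 𝒜 y.2])

noncomputable instance : GradedAlgebra (regr 𝒜) where

end Regrade

theorem main (R : Type u) [CommRing R] (A : Type u) [CommRing A] [Algebra R A] (N : Type)
    [AddCommMonoid N] [DecidableEq N] [AddMonoid.FG N] [IsCancelAdd N]
    (hsharp : ∀ n : N, IsAddUnit n → n = 0) (𝒜 : N → Submodule R A) [GradedAlgebra 𝒜]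
    [Algebra.Smooth R A] :
    ∃ (P : Type u) (_ : AddCommGroup P) (_ : Module (𝒜 0) P), Module.Finite (𝒜 0) P ∧
      Module.Projective (𝒜 0) P ∧ Nonempty (A ≃ₐ[𝒜 0] SymmetricAlgebra (𝒜 0) P) := by
  obtain ⟨ℓ, hℓ1, hℓ2⟩ := exists_len N hsharp
  haveI : IsScalarTower R (𝒜 0) A := IsScalarTower.of_algebraMap_eq (fun r => rfl)
  exact core (R := R) (regr 𝒜) hsharp ℓ hℓ1 hℓ2 (fun b hb => ⟨⟨b, hb⟩, rfl⟩)
    (fun a b h => Subtype.ext h)

end Groth.Agent.Lib.GrSharpH1
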