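import Mathlib
import Groth.Prelude.Def_SymTen
import Groth.Agent.Lib.FlatTS_helper1
import Groth.Agent.Lib.GammaFT_helper1
import Groth.Agent.Lib.GammaDet_helper1

/-!
# Symmetric tensors of a graded algebra: covering `Proj` of the diagonal symmetric subring (helper1)

`E = T^d_A(B)`, `C` = diagonal subalgebra generated by pure tensors of homogeneous elements of a common
degree, `D = C ∩ TS^d`.  Primes of `D` lift to primes of `E` (diagonal retraction `E → C`, integrality of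
`E` over `TS`), and then point-avoidance arguments in `B`.
-/

set_option autoImplicit false
universe u
open scoped TensorProduct
open Module

namespace Groth.Agent.Lib.GrSymH1

open Groth.Agent.Lib.FlatTSH1
open Classical

section cover

/-- a vector space over a field with at least `n` elements is not a union of `n` proper subspaces -/
theorem exists_avoid {K V ι : Type*} [Field K] [AddCommGroup V] [Module K V]
    (T : Finset K) (p : ι → Submodule K V) (s : Finset ι)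
    (h₁ : ∀ i ∈ s, p i ≠ ⊤) (hT : s.card ≤ T.card) : ∃ x, ∀ i ∈ s, x ∉ p i := by
  induction s using Finset.induction_on with
  | empty => exact ⟨0, by simp⟩
  | insert j s hj ih =>
    rw [Finset.card_insert_of_notMem hj] at hT
    obtain ⟨x₀, hx₀⟩ := ih (fun i hi => h₁ i (Finset.mem_insert_of_mem hi)) (by omega)
    by_cases hx : x₀ ∈ p j
    · obtain ⟨y, hy⟩ : ∃ y, y ∉ p j := by
        by_contra h
        push_neg at h
        exact h₁ j (Finset.mem_insert_self j s) (eq_top_iff.2 fun y _ => h y)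
      by_cases hex : ∃ t ∈ T, ∀ i ∈ s, y + t • x₀ ∉ p i
      · obtain ⟨t, -, ht⟩ := hex
        refine ⟨y + t • x₀, fun i hi => ?_⟩
        rcases Finset.mem_insert.1 hi with rfl | hi
        · intro h
          apply hy
          have := (p i).sub_mem h ((p i).smul_mem t hx)
          simpa using this
        · exact ht i hi
      · exfalso
        push_neg at hex
        choose g0 hg0 hg0' using hex
        obtain ⟨g, hg, hg'⟩ : ∃ g : K → ι, (∀ t ∈ T, g t ∈ s) ∧ ∀ t ∈ T, y + t • x₀ ∈ p (g t) := by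
          refine ⟨fun t => if h : t ∈ T then g0 t h else j, fun t ht => ?_, fun t ht => ?_⟩
          · simp only [dif_pos ht]; exact hg0 t ht
          · simp only [dif_pos ht]; exact hg0' t ht
        obtain ⟨t₁, ht₁, t₂, ht₂, hne, heq⟩ :=
          Finset.exists_ne_map_eq_of_card_lt_of_maps_to (show s.card < T.card by omega)
            (f := g) (fun t ht => hg t ht)
        have h1 := hg' t₁ ht₁
        have h2 := hg' t₂ ht₂
        rw [← heq] at h2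
        have h3 : (t₁ - t₂) • x₀ ∈ p (g t₁) := by
          have := (p (g t₁)).sub_mem h1 h2
          have e : y + t₁ • x₀ - (y + t₂ • x₀) = (t₁ - t₂) • x₀ := by
            rw [sub_smul]; abel
          rwa [e] at this
        have h4 : x₀ ∈ p (g t₁) := ((p (g t₁)).smul_mem_iff (sub_ne_zero.2 hne)).1 h3
        exact hx₀ _ (hg t₁ ht₁) h4
    · refine ⟨x₀, fun i hi => ?_⟩
      rcases Finset.mem_insert.1 hi with rfl | hi
      · exact hx
      · exact hx₀ i hi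

theorem sum_range_eq {M : Type*} [AddCommMonoid M] (f : ℕ → M) (N N' : ℕ)
    (hN : ∀ k, N ≤ k → f k = 0) (hN' : ∀ k, N' ≤ k → f k = 0) :
    ∑ k ∈ Finset.range N, f k = ∑ k ∈ Finset.range N', f k := by
  have h1 : ∑ k ∈ Finset.range N, f k = ∑ k ∈ Finset.range (max N N'), f k :=
    Finset.sum_subset (Finset.range_mono (le_max_left _ _))
      (fun k _ hk => hN k (by simpa using hk))
  have h2 : ∑ k ∈ Finset.range N', f k = ∑ k ∈ Finset.range (max N N'), f k :=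
    Finset.sum_subset (Finset.range_mono (le_max_right _ _))
      (fun k _ hk => hN' k (by simpa using hk))
  rw [h1, h2]

theorem core0 {R : Type*} [CommRing R] (G : Set R) (h1 : (1 : R) ∈ G) (x : R) :
    ∃ m : ℕ, 0 < m ∧ x ^ m ∈ Ideal.span G :=
  ⟨1, one_pos, by
    rw [Ideal.eq_top_of_isUnit_mem _ (Ideal.subset_span h1) isUnit_one]; exact Submodule.mem_top⟩

end cover

section graded

variable {A B : Type u} [CommRing A] [CommRing B] [Algebra A B]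
  (𝒜 : ℕ → Submodule A B) [GradedAlgebra 𝒜] (d : ℕ)

/-- generators of the diagonal subalgebra -/
def genC : Set (⨂[A] _ : Fin d, B) :=
  {t | ∃ (k : ℕ) (b : Fin d → B), (∀ i, b i ∈ 𝒜 k) ∧ t = PiTensorProduct.tprod A b}

/-- the diagonal subalgebra -/
noncomputable abbrev CC : Subalgebra A (⨂[A] _ : Fin d, B) := Algebra.adjoin A (genC 𝒜 d)

/-- the symmetric diagonal subalgebra -/
noncomputable abbrev DD : Subalgebra A (⨂[A] _ : Fin d, B) := CC 𝒜 d ⊓ SymTen.TS A B d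

/-- the degree `k` part of the diagonal subalgebra -/
def Ck (k : ℕ) : Submodule A (⨂[A] _ : Fin d, B) :=
  Submodule.span A {s | ∃ b : Fin d → B, (∀ i, b i ∈ 𝒜 k) ∧ s = PiTensorProduct.tprod A b}

/-- the `k`-th diagonal projection -/
noncomputable def pk (k : ℕ) : (⨂[A] _ : Fin d, B) →ₗ[A] (⨂[A] _ : Fin d, B) :=
  lmap (d := d) (GradedAlgebra.proj 𝒜 k)

theorem pk_tprod (k : ℕ) (b : Fin d → B) :
    pk 𝒜 d k (PiTensorProduct.tprod A b) =
      PiTensorProduct.tprod A (fun i => ((DirectSum.decompose 𝒜 (b i) k : 𝒜 k) : B)) := by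
  rw [pk, lmap_tprod]
  rfl

theorem pk_mem_CC (k : ℕ) (z : ⨂[A] _ : Fin d, B) : pk 𝒜 d k z ∈ CC 𝒜 d := by
  induction z using PiTensorProduct.induction_on with
  | smul_tprod r b =>
    rw [map_smul, pk_tprod]
    exact Subalgebra.smul_mem _
      (Algebra.subset_adjoin (s := genC 𝒜 d) ⟨k, _, fun i => SetLike.coe_mem _, rfl⟩) r
  | add x y hx hy => rw [map_add]; exact add_mem hx hy

theorem pk_mem_TS (k : ℕ) (z : ⨂[A] _ : Fin d, B) (hz : z ∈ SymTen.TS A B d) :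
    pk 𝒜 d k z ∈ SymTen.TS A B d :=
  lmap_mem_TS _ z hz

variable {d}

theorem exists_bound (i0 : Fin d) (z : ⨂[A] _ : Fin d, B) :
    ∃ N, ∀ k, N ≤ k → pk 𝒜 d k z = 0 := by
  induction z using PiTensorProduct.induction_on with
  | smul_tprod r b =>
    refine ⟨(DirectSum.decompose 𝒜 (b i0)).support.sup id + 1, fun k hk => ?_⟩
    have h0 : DirectSum.decompose 𝒜 (b i0) k = 0 := by
      by_contra hne
      have := Finset.le_sup (f := id) (DFinsupp.mem_support_iff.2 hne)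
      simp only [id] at this
      omega
    rw [map_smul, pk_tprod]
    have : PiTensorProduct.tprod A (fun i => ((DirectSum.decompose 𝒜 (b i) k : 𝒜 k) : B)) = 0 :=
      MultilinearMap.map_coord_zero _ i0 (by rw [h0]; rfl)
    rw [this, smul_zero]
  | add x y hx hy =>
    obtain ⟨N, hN⟩ := hx
    obtain ⟨N', hN'⟩ := hy
    exact ⟨max N N', fun k hk => by
      rw [map_add, hN k (le_trans (le_max_left _ _) hk), hN' k (le_trans (le_max_right _ _) hk),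
        add_zero]⟩

/-- a degree bound -/
noncomputable def bnd (i0 : Fin d) (z : ⨂[A] _ : Fin d, B) : ℕ :=
  Classical.choose (exists_bound 𝒜 i0 z)

theorem bnd_spec (i0 : Fin d) (z : ⨂[A] _ : Fin d, B) :
    ∀ k, bnd 𝒜 i0 z ≤ k → pk 𝒜 d k z = 0 :=
  Classical.choose_spec (exists_bound 𝒜 i0 z)

/-- the diagonal projection -/
noncomputable def pp (i0 : Fin d) (z : ⨂[A] _ : Fin d, B) : ⨂[A] _ : Fin d, B :=
  ∑ k ∈ Finset.range (bnd 𝒜 i0 z), pk 𝒜 d k z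

theorem pp_eq (i0 : Fin d) (z : ⨂[A] _ : Fin d, B) (N : ℕ) (hN : ∀ k, N ≤ k → pk 𝒜 d k z = 0) :
    pp 𝒜 i0 z = ∑ k ∈ Finset.range N, pk 𝒜 d k z :=
  sum_range_eq _ _ _ (bnd_spec 𝒜 i0 z) hN

theorem pp_add (i0 : Fin d) (x y : ⨂[A] _ : Fin d, B) :
    pp 𝒜 i0 (x + y) = pp 𝒜 i0 x + pp 𝒜 i0 y := by
  obtain ⟨N, hN⟩ : ∃ N, (∀ k, N ≤ k → pk 𝒜 d k x = 0) ∧ (∀ k, N ≤ k → pk 𝒜 d k y = 0) :=
    ⟨max (bnd 𝒜 i0 x) (bnd 𝒜 i0 y),
      fun k hk => bnd_spec 𝒜 i0 x k (le_trans (le_max_left _ _) hk),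
      fun k hk => bnd_spec 𝒜 i0 y k (le_trans (le_max_right _ _) hk)⟩
  rw [pp_eq 𝒜 i0 x N hN.1, pp_eq 𝒜 i0 y N hN.2,
    pp_eq 𝒜 i0 (x + y) N (fun k hk => by rw [map_add, hN.1 k hk, hN.2 k hk, add_zero]),
    ← Finset.sum_add_distrib]
  simp only [map_add]

theorem pp_zero (i0 : Fin d) : pp 𝒜 i0 (0 : ⨂[A] _ : Fin d, B) = 0 := by
  simp [pp]

theorem pp_smul (i0 : Fin d) (a : A) (z : ⨂[A] _ : Fin d, B) :
    pp 𝒜 i0 (a • z) = a • pp 𝒜 i0 z := by
  have hN : ∀ k, bnd 𝒜 i0 z ≤ k → pk 𝒜 d k (a • z) = 0 := fun k hk => by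
    rw [map_smul, bnd_spec 𝒜 i0 z k hk, smul_zero]
  rw [pp_eq 𝒜 i0 (a • z) _ hN, pp, Finset.smul_sum]
  simp only [map_smul]

theorem pp_mem_CC (i0 : Fin d) (z : ⨂[A] _ : Fin d, B) : pp 𝒜 i0 z ∈ CC 𝒜 d :=
  Subalgebra.sum_mem _ (fun k _ => pk_mem_CC 𝒜 d k z)

theorem pp_mem_TS (i0 : Fin d) (z : ⨂[A] _ : Fin d, B) (hz : z ∈ SymTen.TS A B d) :
    pp 𝒜 i0 z ∈ SymTen.TS A B d :=
  Subalgebra.sum_mem _ (fun k _ => pk_mem_TS 𝒜 d k z hz)

theorem pk_mul_add (j : ℕ) (b : Fin d → B) (hb : ∀ i, b i ∈ 𝒜 j) (k : ℕ)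
    (z : ⨂[A] _ : Fin d, B) :
    pk 𝒜 d (j + k) (PiTensorProduct.tprod A b * z) = PiTensorProduct.tprod A b * pk 𝒜 d k z := by
  induction z using PiTensorProduct.induction_on with
  | smul_tprod r w =>
    rw [mul_smul_comm, PiTensorProduct.tprod_mul_tprod, map_smul, map_smul, pk_tprod, pk_tprod,
      mul_smul_comm, PiTensorProduct.tprod_mul_tprod]
    have e : (fun i => ((DirectSum.decompose 𝒜 ((b * w) i) (j + k) : 𝒜 (j + k)) : B)) =
        b * fun i => ((DirectSum.decompose 𝒜 (w i) k : 𝒜 k) : B) := by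
      funext i
      rw [Pi.mul_apply, Pi.mul_apply]
      exact DirectSum.coe_decompose_mul_add_of_left_mem 𝒜 (hb i)
    rw [e]
  | add x y hx hy => rw [mul_add, map_add, map_add, hx, hy, mul_add]

theorem pk_mul_lt (i0 : Fin d) (j : ℕ) (b : Fin d → B) (hb : ∀ i, b i ∈ 𝒜 j) (k : ℕ) (hk : k < j)
    (z : ⨂[A] _ : Fin d, B) :
    pk 𝒜 d k (PiTensorProduct.tprod A b * z) = 0 := by
  induction z using PiTensorProduct.induction_on with
  | smul_tprod r w =>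
    rw [mul_smul_comm, PiTensorProduct.tprod_mul_tprod, map_smul, pk_tprod]
    have : PiTensorProduct.tprod A
        (fun i => ((DirectSum.decompose 𝒜 ((b * w) i) k : 𝒜 k) : B)) = 0 :=
      MultilinearMap.map_coord_zero _ i0 (by
        rw [Pi.mul_apply]
        exact DirectSum.coe_decompose_mul_of_left_mem_of_not_le 𝒜 (hb i0) (not_le.2 hk))
    rw [this, smul_zero]
  | add x y hx hy => rw [mul_add, map_add, hx, hy, add_zero]

theorem pp_mul_tprod (i0 : Fin d) (j : ℕ) (b : Fin d → B) (hb : ∀ i, b i ∈ 𝒜 j)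
    (z : ⨂[A] _ : Fin d, B) :
    pp 𝒜 i0 (PiTensorProduct.tprod A b * z) = PiTensorProduct.tprod A b * pp 𝒜 i0 z := by
  have hN : ∀ k, j + bnd 𝒜 i0 z ≤ k → pk 𝒜 d k (PiTensorProduct.tprod A b * z) = 0 := by
    intro k hk
    obtain ⟨k', rfl⟩ : ∃ k', k = j + k' := ⟨k - j, by omega⟩
    rw [pk_mul_add 𝒜 j b hb, bnd_spec 𝒜 i0 z k' (by omega), mul_zero]
  rw [pp_eq 𝒜 i0 _ _ hN, Finset.sum_range_add, pp, Finset.mul_sum]
  rw [Finset.sum_eq_zero (fun k hk => pk_mul_lt 𝒜 i0 j b hb k (Finset.mem_range.1 hk) z), zero_add]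
  exact Finset.sum_congr rfl fun k _ => pk_mul_add 𝒜 j b hb k z

theorem pp_mul (i0 : Fin d) (c : ⨂[A] _ : Fin d, B) (hc : c ∈ CC 𝒜 d) :
    ∀ z, pp 𝒜 i0 (c * z) = c * pp 𝒜 i0 z := by
  induction hc using Algebra.adjoin_induction with
  | mem x hx =>
    obtain ⟨j, b, hb, rfl⟩ := hx
    exact pp_mul_tprod 𝒜 i0 j b hb
  | algebraMap r =>
    intro z
    rw [← Algebra.smul_def, ← Algebra.smul_def, pp_smul]
  | add x y _ _ hx hy =>
    intro z
    rw [add_mul, pp_add, hx, hy, add_mul]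
  | mul x y _ _ hx hy =>
    intro z
    rw [mul_assoc, hx, hy, mul_assoc]

theorem pk_one (i0 : Fin d) (k : ℕ) :
    pk 𝒜 d k (1 : ⨂[A] _ : Fin d, B) = if k = 0 then 1 else 0 := by
  show pk 𝒜 d k (PiTensorProduct.tprod A 1) = _
  rw [pk_tprod]
  split_ifs with h
  · subst h
    have e : (fun i => ((DirectSum.decompose 𝒜 ((1 : Fin d → B) i) 0 : 𝒜 0) : B)) = 1 :=
      funext fun i => DirectSum.decompose_of_mem_same 𝒜 (SetLike.one_mem_graded 𝒜)
    rw [e]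
    rfl
  · exact MultilinearMap.map_coord_zero _ i0
      (DirectSum.decompose_of_mem_ne 𝒜 (SetLike.one_mem_graded 𝒜) (Ne.symm h))

theorem pp_one (i0 : Fin d) : pp 𝒜 i0 (1 : ⨂[A] _ : Fin d, B) = 1 := by
  have hN : ∀ k, 1 ≤ k → pk 𝒜 d k (1 : ⨂[A] _ : Fin d, B) = 0 := fun k hk => by
    rw [pk_one 𝒜 i0, if_neg (by omega)]
  rw [pp_eq 𝒜 i0 _ 1 hN, Finset.sum_range_one, pk_one 𝒜 i0, if_pos rfl]

theorem pp_fix (i0 : Fin d) (c : ⨂[A] _ : Fin d, B) (hc : c ∈ CC 𝒜 d) : pp 𝒜 i0 c = c := by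
  have := pp_mul 𝒜 i0 c hc 1
  rwa [mul_one, pp_one, mul_one] at this

/-- membership in a prime of `D`, for elements of `E` -/
def InP (P : Ideal (DD 𝒜 d)) (e : ⨂[A] _ : Fin d, B) : Prop :=
  ∃ h : e ∈ DD 𝒜 d, (⟨e, h⟩ : DD 𝒜 d) ∈ P

theorem InP_iff (P : Ideal (DD 𝒜 d)) (x : DD 𝒜 d) :
    InP 𝒜 P (x : ⨂[A] _ : Fin d, B) ↔ x ∈ P :=
  ⟨fun ⟨_, hx⟩ => hx, fun hx => ⟨x.2, hx⟩⟩

theorem InP_zero (P : Ideal (DD 𝒜 d)) : InP 𝒜 P 0 :=
  ⟨zero_mem _, P.zero_mem⟩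

theorem InP_add (P : Ideal (DD 𝒜 d)) {x y : ⨂[A] _ : Fin d, B} (hx : InP 𝒜 P x)
    (hy : InP 𝒜 P y) : InP 𝒜 P (x + y) := by
  obtain ⟨h1, h1'⟩ := hx
  obtain ⟨h2, h2'⟩ := hy
  exact ⟨add_mem h1 h2, P.add_mem h1' h2'⟩

theorem InP_mul (P : Ideal (DD 𝒜 d)) {p : DD 𝒜 d} (hp : p ∈ P) {y : ⨂[A] _ : Fin d, B}
    (hy : y ∈ DD 𝒜 d) : InP 𝒜 P ((p : ⨂[A] _ : Fin d, B) * y) :=
  ⟨mul_mem p.2 hy, P.mul_mem_right (⟨y, hy⟩ : DD 𝒜 d) hp⟩

theorem exists_prime_over (i0 : Fin d) (P : Ideal (DD 𝒜 d)) [P.IsPrime] :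
    ∃ Q : Ideal (⨂[A] _ : Fin d, B), Q.IsPrime ∧
      ∀ x : DD 𝒜 d, (x : ⨂[A] _ : Fin d, B) ∈ Q ↔ x ∈ P := by
  obtain ⟨inc, hinc⟩ : ∃ inc : DD 𝒜 d →+* SymTen.TS A B d,
      ∀ x : DD 𝒜 d, ((inc x : SymTen.TS A B d) : ⨂[A] _ : Fin d, B) = x :=
    ⟨(Subalgebra.inclusion (inf_le_right : DD 𝒜 d ≤ SymTen.TS A B d)).toRingHom, fun x => rfl⟩
  have key : ∀ x ∈ Ideal.map inc P, ∀ s : SymTen.TS A B d,
      InP 𝒜 P (pp 𝒜 i0 ((s : ⨂[A] _ : Fin d, B) * (x : ⨂[A] _ : Fin d, B))) := by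
    intro x hx
    have hx' : x ∈ Submodule.span (SymTen.TS A B d) (inc '' (P : Set (DD 𝒜 d))) := hx
    refine Submodule.span_induction (p := fun (x : SymTen.TS A B d) _ => ∀ s : SymTen.TS A B d,
      InP 𝒜 P (pp 𝒜 i0 ((s : ⨂[A] _ : Fin d, B) * (x : ⨂[A] _ : Fin d, B)))) ?_ ?_ ?_ ?_ hx'
    · rintro _ ⟨p, hp, rfl⟩ s
      rw [hinc, mul_comm, pp_mul 𝒜 i0 _ p.2.1]
      exact InP_mul 𝒜 P hp ⟨pp_mem_CC 𝒜 i0 _, pp_mem_TS 𝒜 i0 _ s.2⟩
    · intro s
      rw [ZeroMemClass.coe_zero, mul_zero, pp_zero]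
      exact InP_zero 𝒜 P
    · intro x y _ _ hx hy s
      rw [AddMemClass.coe_add, mul_add, pp_add]
      exact InP_add 𝒜 P (hx s) (hy s)
    · intro r x _ hx s
      have := hx (s * r)
      rw [MulMemClass.coe_mul, mul_assoc] at this
      rw [smul_eq_mul, MulMemClass.coe_mul]
      exact this
  have hdisj : Disjoint ((Ideal.map inc P : Ideal (SymTen.TS A B d)) : Set (SymTen.TS A B d))
      ((P.primeCompl.map inc : Submonoid (SymTen.TS A B d)) : Set (SymTen.TS A B d)) := by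
    refine Set.disjoint_left.2 fun x hxI hxM => ?_
    obtain ⟨y, hy, rfl⟩ := Submonoid.mem_map.1 hxM
    have := key _ hxI 1
    rw [OneMemClass.coe_one, one_mul, hinc, pp_fix 𝒜 i0 _ y.2.1, InP_iff] at this
    exact hy this
  obtain ⟨P', hP'prime, hle, hdis⟩ := Ideal.exists_le_prime_disjoint _ _ hdisj
  have hP'_iff : ∀ x : DD 𝒜 d, inc x ∈ P' ↔ x ∈ P := by
    intro x
    constructor
    · intro h
      by_contra hx
      exact Set.disjoint_left.1 hdis h (Submonoid.mem_map.2 ⟨x, hx, rfl⟩)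
    · intro hx
      exact hle (Ideal.mem_map_of_mem inc hx)
  haveI : Algebra.IsIntegral (SymTen.TS A B d) (⨂[A] _ : Fin d, B) :=
    ⟨fun t => Groth.Agent.Lib.GammaFTH1.isIntegral_TS A d t⟩
  haveI := hP'prime
  obtain ⟨Q, -, hQprime, hQ⟩ := Ideal.exists_ideal_over_prime_of_isIntegral P'
    (⊥ : Ideal (⨂[A] _ : Fin d, B)) (by
      intro x hx
      have h0 : (x : ⨂[A] _ : Fin d, B) = 0 := by simpa using hx
      rw [show x = 0 from Subtype.ext h0]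
      exact zero_mem _)
  refine ⟨Q, hQprime, fun x => ?_⟩
  rw [← hP'_iff x, ← hQ, Ideal.mem_comap, ← hinc x]
  rfl

theorem mem_span_one (hgen : Algebra.adjoin A (𝒜 1 : Set B) = ⊤) (k : ℕ) (hk : 0 < k) (b : B)
    (hb : b ∈ 𝒜 k) : b ∈ Ideal.span (𝒜 1 : Set B) := by
  have hJ : (Ideal.span (𝒜 1 : Set B)).IsHomogeneous 𝒜 :=
    Ideal.homogeneous_span 𝒜 _ (fun x hx => ⟨1, hx⟩)
  have hall : ∀ x : B, ∃ a : A, x - algebraMap A B a ∈ Ideal.span (𝒜 1 : Set B) := by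
    intro x
    have hx : x ∈ Algebra.adjoin A (𝒜 1 : Set B) := hgen ▸ Algebra.mem_top
    induction hx using Algebra.adjoin_induction with
    | mem x hx => exact ⟨0, by rw [map_zero, sub_zero]; exact Ideal.subset_span hx⟩
    | algebraMap r => exact ⟨r, by rw [sub_self]; exact zero_mem _⟩
    | add x y _ _ hx hy =>
      obtain ⟨a, ha⟩ := hx
      obtain ⟨a', ha'⟩ := hy
      refine ⟨a + a', ?_⟩
      have e : x + y - algebraMap A B (a + a') =
          (x - algebraMap A B a) + (y - algebraMap A B a') := by rw [map_add]; ring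
      rw [e]
      exact add_mem ha ha'
    | mul x y _ _ hx hy =>
      obtain ⟨a, ha⟩ := hx
      obtain ⟨a', ha'⟩ := hy
      refine ⟨a * a', ?_⟩
      have e : x * y - algebraMap A B (a * a') =
          (x - algebraMap A B a) * y + algebraMap A B a * (y - algebraMap A B a') := by
        rw [map_mul]; ring
      rw [e]
      exact add_mem (Ideal.mul_mem_right _ _ ha) (Ideal.mul_mem_left _ _ ha')
  obtain ⟨a, ha⟩ := hall b
  have h1 : GradedAlgebra.proj 𝒜 k (b - algebraMap A B a) ∈ Ideal.span (𝒜 1 : Set B) := hJ k ha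
  have h2 : GradedAlgebra.proj 𝒜 k (b - algebraMap A B a) = b := by
    rw [map_sub, GradedAlgebra.proj_apply, GradedAlgebra.proj_apply,
      DirectSum.decompose_of_mem_same 𝒜 hb,
      DirectSum.decompose_of_mem_ne 𝒜 (SetLike.algebraMap_mem_graded 𝒜 a)
        (Nat.pos_iff_ne_zero.1 hk).symm, sub_zero]
  rwa [h2] at h1

theorem core (i0 : Fin d) (hgen : Algebra.adjoin A (𝒜 1 : Set B) = ⊤) (G : Set (DD 𝒜 d)) (k : ℕ)
    (hk : 0 < k) (t : ⨂[A] _ : Fin d, B) (htD : t ∈ DD 𝒜 d) (htk : t ∈ Ck 𝒜 d k)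
    (hG : ∀ Q : Ideal (⨂[A] _ : Fin d, B), Q.IsPrime →
      (∀ g ∈ G, ((g : DD 𝒜 d) : ⨂[A] _ : Fin d, B) ∈ Q) →
      ∃ i : Fin d, ∀ f ∈ 𝒜 1,
        PiTensorProduct.singleAlgHom (R := A) (A := fun _ : Fin d => B) i f ∈ Q) :
    ∃ m : ℕ, 0 < m ∧ (⟨t, htD⟩ : DD 𝒜 d) ^ m ∈ Ideal.span G := by
  have hrad : (⟨t, htD⟩ : DD 𝒜 d) ∈ (Ideal.span G).radical := by
    rw [Ideal.radical_eq_sInf, Ideal.mem_sInf]
    rintro P ⟨hGP, hP⟩
    haveI := hP
    obtain ⟨Q, hQ, hQP⟩ := exists_prime_over 𝒜 i0 P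
    obtain ⟨i, hi⟩ := hG Q hQ (fun g hg => (hQP g).2 (hGP (Ideal.subset_span hg)))
    rw [← hQP]
    show t ∈ Q
    have hle : Ck 𝒜 d k ≤ Q.restrictScalars A := by
      rw [Ck, Submodule.span_le]
      rintro _ ⟨b, hb, rfl⟩
      show PiTensorProduct.tprod A b ∈ Q
      rw [← Groth.Agent.Lib.GammaDetH1.prod_single A B d b]
      refine Ideal.prod_mem Q (Finset.mem_univ i) ?_
      have h1 : Ideal.span (𝒜 1 : Set B) ≤
          Q.comap (PiTensorProduct.singleAlgHom (R := A) (A := fun _ : Fin d => B) i) := by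
        rw [Ideal.span_le]
        intro f hf
        exact hi f hf
      exact h1 (mem_span_one 𝒜 hgen k hk _ (hb i))
    exact hle htk
  obtain ⟨n, hn⟩ := hrad
  exact ⟨n + 1, Nat.succ_pos n, by rw [pow_succ]; exact Ideal.mul_mem_right _ _ hn⟩


/-- homogeneous prime avoidance for an algebra generated in degree one -/
theorem homog_avoid {ι : Type*} (𝔭 : ι → Ideal B) (h𝔭 : ∀ i, (𝔭 i).IsPrime) (s : Finset ι)
    (h1 : ∀ i ∈ s, ∃ f ∈ 𝒜 1, f ∉ 𝔭 i) : ∃ n, 0 < n ∧ ∃ f ∈ 𝒜 n, ∀ i ∈ s, f ∉ 𝔭 i := by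
  induction s using Finset.strongInduction with
  | H s ih =>
    rcases s.eq_empty_or_nonempty with rfl | ⟨a, ha⟩
    · exact ⟨1, one_pos, 0, zero_mem _, by simp⟩
    have hsub : ∀ i ∈ s, ∃ n, 0 < n ∧ ∃ f ∈ 𝒜 n, ∀ j ∈ s.erase i, f ∉ 𝔭 j := fun i hi =>
      ih (s.erase i) (Finset.erase_ssubset hi) (fun j hj => h1 j (Finset.mem_of_mem_erase hj))
    choose! n hn x hx hav using hsub
    by_cases hex : ∃ i ∈ s, x i ∉ 𝔭 i
    · obtain ⟨i, hi, hxi⟩ := hex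
      refine ⟨n i, hn i hi, x i, hx i hi, fun j hj => ?_⟩
      by_cases hji : j = i
      · rw [hji]; exact hxi
      · exact hav i hi j (Finset.mem_erase.2 ⟨hji, hj⟩)
    push_neg at hex
    rcases (s.erase a).eq_empty_or_nonempty with he | hne
    · obtain ⟨f, hf, hfa⟩ := h1 a ha
      refine ⟨1, one_pos, f, hf, fun j hj => ?_⟩
      have hja : j = a := by
        by_contra hja
        have : j ∈ s.erase a := Finset.mem_erase.2 ⟨hja, hj⟩
        rw [he] at this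
        exact absurd this (Finset.notMem_empty j)
      rw [hja]; exact hfa
    · obtain ⟨m, hm⟩ : ∃ m, m = ∑ j ∈ s.erase a, n j := ⟨_, rfl⟩
      have hmpos : 0 < m := by
        rw [hm]
        exact Finset.sum_pos (fun j hj => hn j (Finset.mem_of_mem_erase hj)) hne
      obtain ⟨y, hy⟩ : ∃ y, y = ∏ j ∈ s.erase a, x j := ⟨_, rfl⟩
      have hyd : y ∈ 𝒜 m := by
        rw [hy, hm]
        exact SetLike.prod_mem_graded 𝒜 n x (fun j hj => hx j (Finset.mem_of_mem_erase hj))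
      have hxa : x a ∈ 𝔭 a := hex a ha
      have hyna : y ∉ 𝔭 a := by
        intro h
        haveI := h𝔭 a
        rw [hy] at h
        obtain ⟨j, hj, hj'⟩ := Ideal.IsPrime.prod_mem_iff.1 h
        exact hav j (Finset.mem_of_mem_erase hj) a
          (Finset.mem_erase.2 ⟨(Finset.ne_of_mem_erase hj).symm, ha⟩) hj'
      refine ⟨m * n a, Nat.mul_pos hmpos (hn a ha), x a ^ m + y ^ n a, ?_, fun j hj => ?_⟩
      · have h1 : x a ^ m ∈ 𝒜 (m * n a) := by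
          have := SetLike.pow_mem_graded m (hx a ha)
          rwa [smul_eq_mul] at this
        have h2 : y ^ n a ∈ 𝒜 (m * n a) := by
          have := SetLike.pow_mem_graded (n a) hyd
          rwa [smul_eq_mul, mul_comm] at this
        exact add_mem h1 h2
      · by_cases hja : j = a
        · rw [hja]
          intro h
          have h3 : x a ^ m ∈ 𝔭 a := Ideal.pow_mem_of_mem _ hxa m hmpos
          have h4 : y ^ n a ∈ 𝔭 a := by
            have := (𝔭 a).sub_mem h h3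
            rwa [add_sub_cancel_left] at this
          exact hyna (Ideal.IsPrime.mem_of_pow_mem (h𝔭 a) _ h4)
        · have hj' : j ∈ s.erase a := Finset.mem_erase.2 ⟨hja, hj⟩
          intro h
          have h3 : y ∈ 𝔭 j := by
            rw [hy]
            exact Ideal.prod_mem _ hj' (hex j hj)
          have h4 : y ^ n a ∈ 𝔭 j := Ideal.pow_mem_of_mem _ h3 _ (hn a ha)
          have h5 : x a ^ m ∈ 𝔭 j := by
            have := (𝔭 j).sub_mem h h4
            rwa [add_sub_cancel_right] at this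
          exact hav a ha j hj' (Ideal.IsPrime.mem_of_pow_mem (h𝔭 j) _ h5)

theorem case13391 (Q : Ideal (⨂[A] _ : Fin d, B)) (hQ : Q.IsPrime)
    (hGQ : ∀ (n : ℕ) (f : B), 0 < n → f ∈ 𝒜 n → PiTensorProduct.tprod A (fun _ : Fin d => f) ∈ Q) :
    ∃ i : Fin d, ∀ f ∈ 𝒜 1,
      PiTensorProduct.singleAlgHom (R := A) (A := fun _ : Fin d => B) i f ∈ Q := by
  by_contra hcon
  push_neg at hcon
  haveI := hQ
  obtain ⟨n, hn, f, hf, hfav⟩ := homog_avoid 𝒜
    (fun i : Fin d => Q.comap (PiTensorProduct.singleAlgHom (R := A) (A := fun _ : Fin d => B) i))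
    (fun i => Ideal.comap_isPrime _ _) Finset.univ
    (fun i _ => by obtain ⟨f, hf, hfQ⟩ := hcon i; exact ⟨f, hf, hfQ⟩)
  have hQ' := hGQ n f hn hf
  rw [← Groth.Agent.Lib.GammaDetH1.prod_single A B d (fun _ => f)] at hQ'
  obtain ⟨i, -, hi⟩ := Ideal.IsPrime.prod_mem_iff.1 hQ'
  exact hfav i (Finset.mem_univ i) hi

theorem case13390 (Q : Ideal (⨂[A] _ : Fin d, B)) (hQ : Q.IsPrime)
    (hGQ : ∀ g : ⨂[A] _ : Fin d, B, g ∈ DD 𝒜 d → g ∈ Ck 𝒜 d 1 → g ∈ Q) :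
    ∃ i : Fin d, ∀ f ∈ 𝒜 1,
      PiTensorProduct.singleAlgHom (R := A) (A := fun _ : Fin d => B) i f ∈ Q := by
  by_contra hcon
  push_neg at hcon
  choose x hx1 hxQ using hcon
  haveI := hQ
  obtain ⟨mk, hmk⟩ : ∃ mk : (⨂[A] _ : Fin d, B) →+* (⨂[A] _ : Fin d, B) ⧸ Q,
      ∀ e, mk e = 0 ↔ e ∈ Q := ⟨Ideal.Quotient.mk Q, fun e => Ideal.Quotient.eq_zero_iff_mem⟩
  have hne : (∏ i : Fin d, ∑ j : Fin d,
      MvPolynomial.C (mk (PiTensorProduct.singleAlgHom (R := A) (A := fun _ : Fin d => B) i (x j))) *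
        MvPolynomial.X j : MvPolynomial (Fin d) ((⨂[A] _ : Fin d, B) ⧸ Q)) ≠ 0 := by
    rw [Finset.prod_ne_zero_iff]
    intro i _ h
    have hco : MvPolynomial.coeff (Finsupp.single i 1) (∑ j : Fin d,
        MvPolynomial.C (mk (PiTensorProduct.singleAlgHom (R := A) (A := fun _ : Fin d => B) i (x j))) *
          (MvPolynomial.X j : MvPolynomial (Fin d) ((⨂[A] _ : Fin d, B) ⧸ Q))) =
        mk (PiTensorProduct.singleAlgHom (R := A) (A := fun _ : Fin d => B) i (x i)) := by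
      rw [MvPolynomial.coeff_sum, Finset.sum_eq_single i]
      · rw [MvPolynomial.coeff_C_mul, MvPolynomial.coeff_X_same, mul_one]
      · intro j _ hji
        rw [MvPolynomial.coeff_C_mul, MvPolynomial.coeff_X, if_neg, mul_zero]
        intro h
        exact hji ((Finsupp.single_left_inj one_ne_zero).1 h)
      · intro h
        exact absurd (Finset.mem_univ i) h
    rw [h, MvPolynomial.coeff_zero] at hco
    exact hxQ i ((hmk _).1 hco.symm)
  apply hne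
  rw [Fintype.prod_sum]
  have hterm : ∀ φ : Fin d → Fin d, ∏ i,
      (MvPolynomial.C (mk (PiTensorProduct.singleAlgHom (R := A) (A := fun _ : Fin d => B) i
        (x (φ i)))) * (MvPolynomial.X (φ i) : MvPolynomial (Fin d) ((⨂[A] _ : Fin d, B) ⧸ Q))) =
      MvPolynomial.C (mk (PiTensorProduct.tprod A (fun i => x (φ i)))) *
        ∏ i, (MvPolynomial.X (φ i) : MvPolynomial (Fin d) ((⨂[A] _ : Fin d, B) ⧸ Q)) := by
    intro φ
    rw [Finset.prod_mul_distrib, ← map_prod, ← map_prod,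
      Groth.Agent.Lib.GammaDetH1.prod_single A B d (fun i => x (φ i))]
  rw [Finset.sum_congr rfl (fun φ _ => hterm φ)]
  rw [← Finset.sum_fiberwise_of_maps_to
    (g := fun φ : Fin d → Fin d =>
      ∏ i, (MvPolynomial.X (φ i) : MvPolynomial (Fin d) ((⨂[A] _ : Fin d, B) ⧸ Q)))
    (t := Finset.univ.image (fun φ : Fin d → Fin d =>
      ∏ i, (MvPolynomial.X (φ i) : MvPolynomial (Fin d) ((⨂[A] _ : Fin d, B) ⧸ Q))))
    (fun φ _ => Finset.mem_image_of_mem _ (Finset.mem_univ φ))]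
  apply Finset.sum_eq_zero
  intro μ _
  obtain ⟨F, hF⟩ : ∃ F : Finset (Fin d → Fin d), F = Finset.univ.filter (fun φ : Fin d → Fin d =>
      ∏ i, (MvPolynomial.X (φ i) : MvPolynomial (Fin d) ((⨂[A] _ : Fin d, B) ⧸ Q)) = μ) :=
    ⟨_, rfl⟩
  rw [← hF]
  have hFmem : ∀ φ, φ ∈ F ↔
      ∏ i, (MvPolynomial.X (φ i) : MvPolynomial (Fin d) ((⨂[A] _ : Fin d, B) ⧸ Q)) = μ := by
    intro φ
    rw [hF, Finset.mem_filter]
    exact ⟨fun h => h.2, fun h => ⟨Finset.mem_univ _, h⟩⟩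
  have hsum : ∑ φ ∈ F, MvPolynomial.C (mk (PiTensorProduct.tprod A (fun i => x (φ i)))) *
        ∏ i, (MvPolynomial.X (φ i) : MvPolynomial (Fin d) ((⨂[A] _ : Fin d, B) ⧸ Q)) =
      MvPolynomial.C (mk (∑ φ ∈ F, PiTensorProduct.tprod A (fun i => x (φ i)))) * μ := by
    rw [map_sum, map_sum, Finset.sum_mul]
    exact Finset.sum_congr rfl fun φ hφ => by rw [(hFmem φ).1 hφ]
  rw [hsum]
  have hc : (∑ φ ∈ F, PiTensorProduct.tprod A (fun i => x (φ i))) ∈ Q := by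
    refine hGQ _ ⟨Subalgebra.sum_mem _ (fun φ _ =>
      Algebra.subset_adjoin (s := genC 𝒜 d) ⟨1, _, fun i => hx1 _, rfl⟩), ?_⟩
      (Submodule.sum_mem _ fun φ _ => Submodule.subset_span ⟨_, fun i => hx1 _, rfl⟩)
    refine (SymTen.mem_TS_iff A B d _).2 fun σ => ?_
    rw [← SymTen.perm_apply, map_sum]
    simp only [SymTen.perm_tprod]
    refine Finset.sum_equiv (Equiv.arrowCongr σ (Equiv.refl (Fin d))) ?_ ?_
    · intro φ
      rw [hFmem, hFmem]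
      have : ∏ i, (MvPolynomial.X (((Equiv.arrowCongr σ (Equiv.refl (Fin d))) φ) i) :
          MvPolynomial (Fin d) ((⨂[A] _ : Fin d, B) ⧸ Q)) = ∏ i, MvPolynomial.X (φ i) := by
        exact Equiv.prod_comp σ.symm (fun i => (MvPolynomial.X (φ i) :
          MvPolynomial (Fin d) ((⨂[A] _ : Fin d, B) ⧸ Q)))
      rw [this]
    · intro φ _
      congr 1
  rw [(hmk _).2 hc, map_zero, zero_mul]

theorem case13392 (hres : ∀ p : PrimeSpectrum A, (d : Cardinal) ≤ Cardinal.mk p.asIdeal.ResidueField)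
    (Q : Ideal (⨂[A] _ : Fin d, B)) (hQ : Q.IsPrime)
    (hGQ : ∀ f ∈ 𝒜 1, PiTensorProduct.tprod A (fun _ : Fin d => f) ∈ Q) :
    ∃ i : Fin d, ∀ f ∈ 𝒜 1,
      PiTensorProduct.singleAlgHom (R := A) (A := fun _ : Fin d => B) i f ∈ Q := by
  by_contra hcon
  push_neg at hcon
  choose x hx1 hxQ using hcon
  haveI := hQ
  obtain ⟨K, _, toK, htoK⟩ : ∃ (K : Type u) (_ : Field K) (toK : (⨂[A] _ : Fin d, B) →+* K),
      ∀ e, toK e = 0 ↔ e ∈ Q :=
    ⟨FractionRing ((⨂[A] _ : Fin d, B) ⧸ Q), inferInstance,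
      (algebraMap ((⨂[A] _ : Fin d, B) ⧸ Q) (FractionRing ((⨂[A] _ : Fin d, B) ⧸ Q))).comp
        (Ideal.Quotient.mk Q), fun e => by
      rw [RingHom.comp_apply, map_eq_zero_iff _ (IsFractionRing.injective
        ((⨂[A] _ : Fin d, B) ⧸ Q) (FractionRing ((⨂[A] _ : Fin d, B) ⧸ Q))),
        Ideal.Quotient.eq_zero_iff_mem]⟩
  obtain ⟨𝔭, h𝔭def⟩ : ∃ 𝔭 : Ideal A, 𝔭 = Q.comap (algebraMap A (⨂[A] _ : Fin d, B)) := ⟨_, rfl⟩
  haveI h𝔭 : 𝔭.IsPrime := by rw [h𝔭def]; exact Ideal.comap_isPrime _ _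
  obtain ⟨χ, hχdef⟩ : ∃ χ : A →+* K, χ = toK.comp (algebraMap A (⨂[A] _ : Fin d, B)) := ⟨_, rfl⟩
  have hχ : ∀ a, χ a = 0 ↔ a ∈ 𝔭 := fun a => by
    rw [hχdef, h𝔭def, RingHom.comp_apply, htoK, Ideal.mem_comap]
  obtain ⟨k, _, ψ, j, hj, hfrac, T, hT⟩ : ∃ (k : Type u) (_ : Field k) (ψ : A →+* k) (j : k →+* K),
      (∀ a, j (ψ a) = χ a) ∧ (∀ y : k, ∃ a s : A, ψ s ≠ 0 ∧ y * ψ s = ψ a) ∧
        ∃ T : Finset k, d ≤ T.card := by
    have hg0 : ∀ a ∈ 𝔭, χ a = 0 := fun a ha => (hχ a).2 ha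
    have hg : Function.Injective (Ideal.Quotient.lift 𝔭 χ hg0) := by
      rw [injective_iff_map_eq_zero]
      intro y hy
      obtain ⟨a, rfl⟩ := Ideal.Quotient.mk_surjective y
      rw [Ideal.Quotient.lift_mk] at hy
      exact Ideal.Quotient.eq_zero_iff_mem.2 ((hχ a).1 hy)
    refine ⟨𝔭.ResidueField, inferInstance, algebraMap A 𝔭.ResidueField,
      IsFractionRing.lift (A := A ⧸ 𝔭) (K := 𝔭.ResidueField) hg, ?_, ?_, ?_⟩
    · intro a
      rw [IsScalarTower.algebraMap_apply A (A ⧸ 𝔭) 𝔭.ResidueField, IsFractionRing.lift_algebraMap]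
      rfl
    · intro y
      obtain ⟨a', s', hs', rfl⟩ := IsFractionRing.div_surjective (A := A ⧸ 𝔭) y
      obtain ⟨a, rfl⟩ := Ideal.Quotient.mk_surjective a'
      obtain ⟨s, rfl⟩ := Ideal.Quotient.mk_surjective s'
      have hs0 : algebraMap (A ⧸ 𝔭) 𝔭.ResidueField (Ideal.Quotient.mk 𝔭 s) ≠ 0 := by
        intro h
        have := (map_eq_zero_iff _ (IsFractionRing.injective (A ⧸ 𝔭) 𝔭.ResidueField)).1 h
        exact nonZeroDivisors.ne_zero hs' this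
      refine ⟨a, s, ?_, ?_⟩
      · rw [IsScalarTower.algebraMap_apply A (A ⧸ 𝔭) 𝔭.ResidueField]
        exact hs0
      · rw [IsScalarTower.algebraMap_apply A (A ⧸ 𝔭) 𝔭.ResidueField,
          IsScalarTower.algebraMap_apply A (A ⧸ 𝔭) 𝔭.ResidueField]
        exact div_mul_cancel₀ _ hs0
    · exact Cardinal.exists_finset_le_card _ d (hres ⟨𝔭, h𝔭⟩)
  letI : Algebra k K := j.toAlgebra
  obtain ⟨r, hr⟩ : ∃ r : Fin d → Fin d → K, r = fun i l =>
      toK (PiTensorProduct.singleAlgHom (R := A) (A := fun _ : Fin d => B) i (x l)) := ⟨_, rfl⟩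
  obtain ⟨L, hL⟩ : ∃ L : Fin d → (Fin d → k) →ₗ[k] K, ∀ i a, L i a = ∑ l, j (a l) * r i l := by
    refine ⟨fun i => ∑ l, (LinearMap.proj l : (Fin d → k) →ₗ[k] k).smulRight (r i l), fun i a => ?_⟩
    simp only [LinearMap.sum_apply, LinearMap.smulRight_apply, LinearMap.proj_apply,
      Algebra.smul_def]
    rfl
  have hne : ∀ i ∈ (Finset.univ : Finset (Fin d)), LinearMap.ker (L i) ≠ ⊤ := by
    intro i _ h
    have h1 : Pi.single i (1 : k) ∈ LinearMap.ker (L i) := h ▸ Submodule.mem_top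
    rw [LinearMap.mem_ker, hL, Finset.sum_eq_single i] at h1
    · rw [Pi.single_eq_same, map_one, one_mul, hr] at h1
      exact hxQ i ((htoK _).1 h1)
    · intro l _ hli
      rw [Pi.single_eq_of_ne hli, map_zero, zero_mul]
    · intro h
      exact absurd (Finset.mem_univ i) h
  obtain ⟨a, ha⟩ := exists_avoid T (fun i => LinearMap.ker (L i)) Finset.univ hne
    (by simpa using hT)
  choose nn ss hss hns using fun l => hfrac (a l)
  obtain ⟨f, hf⟩ : ∃ f : B, f = ∑ l, (nn l * ∏ l' ∈ Finset.univ.erase l, ss l') • x l := ⟨_, rfl⟩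
  have hf1 : f ∈ 𝒜 1 := by
    rw [hf]
    exact Submodule.sum_mem _ fun l _ => Submodule.smul_mem _ _ (hx1 l)
  have hS : ψ (∏ l, ss l) ≠ 0 := by
    rw [map_prod]
    exact Finset.prod_ne_zero_iff.2 fun l _ => hss l
  have e1 : ∀ (c : A) (e : ⨂[A] _ : Fin d, B), toK (c • e) = χ c * toK e := fun c e => by
    rw [Algebra.smul_def, map_mul, hχdef]
    rfl
  have hc : ∀ l, χ (nn l * ∏ l' ∈ Finset.univ.erase l, ss l') = j (ψ (∏ l, ss l)) * j (a l) := by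
    intro l
    rw [← hj, ← map_mul j]
    congr 1
    rw [map_mul, ← hns l, ← Finset.mul_prod_erase Finset.univ ss (Finset.mem_univ l), map_mul]
    ring
  have hval : ∀ i, toK (PiTensorProduct.singleAlgHom (R := A) (A := fun _ : Fin d => B) i f) =
      j (ψ (∏ l, ss l)) * L i a := by
    intro i
    rw [hL, Finset.mul_sum, hf, map_sum, map_sum]
    refine Finset.sum_congr rfl fun l _ => ?_
    rw [map_smul, e1, hc l, hr]
    ring
  have hfi : ∀ i, PiTensorProduct.singleAlgHom (R := A) (A := fun _ : Fin d => B) i f ∉ Q := by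
    intro i h
    have h0 := (htoK _).2 h
    rw [hval] at h0
    rcases mul_eq_zero.1 h0 with h1 | h1
    · exact hS ((map_eq_zero j).1 h1)
    · exact ha i (Finset.mem_univ i) (LinearMap.mem_ker.2 h1)
  have hQ' := hGQ f hf1
  rw [← Groth.Agent.Lib.GammaDetH1.prod_single A B d (fun _ => f)] at hQ'
  obtain ⟨i, -, hi⟩ := Ideal.IsPrime.prod_mem_iff.1 hQ'
  exact hfi i hi

end graded

section mains

variable {A B : Type u} [CommRing A] [CommRing B] [Algebra A B]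

theorem one_eq_tprod0 (b : Fin 0 → B) :
    (1 : ⨂[A] _ : Fin 0, B) = PiTensorProduct.tprod A b := by
  show PiTensorProduct.tprod A (1 : Fin 0 → B) = _
  exact congrArg _ (Subsingleton.elim _ _)

theorem main13391 (𝒜 : ℕ → Submodule A B) [GradedAlgebra 𝒜]
    (hgen : Algebra.adjoin A (𝒜 1 : Set B) = ⊤) (d : ℕ)
    (D : Subalgebra A (⨂[A] _ : Fin d, B))
    (hD : D = Algebra.adjoin A {t | ∃ (k : ℕ) (b : Fin d → B), (∀ i, b i ∈ 𝒜 k) ∧
      t = PiTensorProduct.tprod A b} ⊓ SymTen.TS A B d)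
    (k : ℕ) (hk : 0 < k) (t : ⨂[A] _ : Fin d, B) (htD : t ∈ D)
    (htk : t ∈ Submodule.span A {s | ∃ b : Fin d → B, (∀ i, b i ∈ 𝒜 k) ∧
      s = PiTensorProduct.tprod A b}) :
    ∃ m : ℕ, 0 < m ∧ (⟨t, htD⟩ : D) ^ m ∈
      Ideal.span {x : D | ∃ (n : ℕ) (f : B), 0 < n ∧ f ∈ 𝒜 n ∧
        (x : ⨂[A] _ : Fin d, B) = PiTensorProduct.tprod A (fun _ : Fin d => f)} := by
  subst hD
  rcases Nat.eq_zero_or_pos d with rfl | hd
  · refine core0 _ ?_ _
    exact ⟨1, 0, one_pos, zero_mem _, one_eq_tprod0 _⟩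
  · refine core 𝒜 ⟨0, hd⟩ hgen _ k hk t htD htk (fun Q hQ hGQ => ?_)
    refine case13391 𝒜 Q hQ (fun n f hn hf => ?_)
    have hmem : PiTensorProduct.tprod A (fun _ : Fin d => f) ∈ DD 𝒜 d :=
      ⟨Algebra.subset_adjoin (s := genC 𝒜 d) ⟨n, _, fun _ => hf, rfl⟩, (SymTen.tpow A B d f).2⟩
    exact hGQ ⟨_, hmem⟩ ⟨n, f, hn, hf, rfl⟩

theorem main13390 (𝒜 : ℕ → Submodule A B) [GradedAlgebra 𝒜]
    (hgen : Algebra.adjoin A (𝒜 1 : Set B) = ⊤) (d : ℕ)
    (D : Subalgebra A (⨂[A] _ : Fin d, B))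
    (hD : D = Algebra.adjoin A {t | ∃ (k : ℕ) (b : Fin d → B), (∀ i, b i ∈ 𝒜 k) ∧
      t = PiTensorProduct.tprod A b} ⊓ SymTen.TS A B d)
    (k : ℕ) (hk : 0 < k) (t : ⨂[A] _ : Fin d, B) (htD : t ∈ D)
    (htk : t ∈ Submodule.span A {s | ∃ b : Fin d → B, (∀ i, b i ∈ 𝒜 k) ∧
      s = PiTensorProduct.tprod A b}) :
    ∃ m : ℕ, 0 < m ∧ (⟨t, htD⟩ : D) ^ m ∈
      Ideal.span {x : D | (x : ⨂[A] _ : Fin d, B) ∈
        Submodule.span A {s | ∃ b : Fin d → B, (∀ i, b i ∈ 𝒜 1) ∧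
          s = PiTensorProduct.tprod A b}} := by
  subst hD
  rcases Nat.eq_zero_or_pos d with rfl | hd
  · refine core0 _ ?_ _
    show (1 : ⨂[A] _ : Fin 0, B) ∈ Submodule.span A {s | ∃ b : Fin 0 → B, (∀ i, b i ∈ 𝒜 1) ∧
          s = PiTensorProduct.tprod A b}
    exact Submodule.subset_span ⟨fun _ => 0, fun i => i.elim0, one_eq_tprod0 _⟩
  · refine core 𝒜 ⟨0, hd⟩ hgen _ k hk t htD htk (fun Q hQ hGQ => ?_)
    exact case13390 𝒜 Q hQ (fun g hg hg1 => hGQ ⟨g, hg⟩ hg1)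

theorem main13392 (𝒜 : ℕ → Submodule A B) [GradedAlgebra 𝒜]
    (hgen : Algebra.adjoin A (𝒜 1 : Set B) = ⊤) (d : ℕ)
    (hres : ∀ p : PrimeSpectrum A, (d : Cardinal) ≤ Cardinal.mk p.asIdeal.ResidueField)
    (D : Subalgebra A (⨂[A] _ : Fin d, B))
    (hD : D = Algebra.adjoin A {t | ∃ (k : ℕ) (b : Fin d → B), (∀ i, b i ∈ 𝒜 k) ∧
      t = PiTensorProduct.tprod A b} ⊓ SymTen.TS A B d)
    (k : ℕ) (hk : 0 < k) (t : ⨂[A] _ : Fin d, B) (htD : t ∈ D)
    (htk : t ∈ Submodule.span A {s | ∃ b : Fin d → B, (∀ i, b i ∈ 𝒜 k) ∧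
      s = PiTensorProduct.tprod A b}) :
    ∃ m : ℕ, 0 < m ∧ (⟨t, htD⟩ : D) ^ m ∈
      Ideal.span {x : D | ∃ f : B, f ∈ 𝒜 1 ∧
        (x : ⨂[A] _ : Fin d, B) = PiTensorProduct.tprod A (fun _ : Fin d => f)} := by
  subst hD
  rcases Nat.eq_zero_or_pos d with rfl | hd
  · refine core0 _ ?_ _
    exact ⟨0, zero_mem _, one_eq_tprod0 _⟩
  · refine core 𝒜 ⟨0, hd⟩ hgen _ k hk t htD htk (fun Q hQ hGQ => ?_)
    refine case13392 𝒜 hres Q hQ (fun f hf => ?_)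
    have hmem : PiTensorProduct.tprod A (fun _ : Fin d => f) ∈ DD 𝒜 d :=
      ⟨Algebra.subset_adjoin (s := genC 𝒜 d) ⟨1, _, fun _ => hf, rfl⟩, (SymTen.tpow A B d f).2⟩
    exact hGQ ⟨_, hmem⟩ ⟨f, hf, rfl⟩

end mains

end Groth.Agent.Lib.GrSymH1
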