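import Mathlib
import Groth.Prelude

/-!
# Graded algebra for the (TN) converse: decomposition along homogeneous generators (helper5)
APPEND-ONLY once landed.
-/

set_option autoImplicit false
universe u
open DirectSum

namespace Groth.Agent.GrTNAlg

section Decomp
variable {R B : Type u} [CommRing R] [CommRing B] [Algebra R B] (ℬ : ℕ → Submodule R B)
  [GradedAlgebra ℬ]

theorem exists_decomp (s : Finset B) (hs : Algebra.adjoin (ℬ 0) (s : Set B) = ⊤) (x : B) :
    ∃ r ∈ ℬ 0, ∃ u ∈ Ideal.span (s : Set B), x = r + u := by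
  have hx : x ∈ Algebra.adjoin (ℬ 0) (s : Set B) := by rw [hs]; exact Algebra.mem_top
  induction hx using Algebra.adjoin_induction with
  | mem x hx => exact ⟨0, zero_mem _, x, Ideal.subset_span hx, (zero_add x).symm⟩
  | algebraMap r => exact ⟨r.1, r.2, 0, zero_mem _, (add_zero _).symm⟩
  | add x y _ _ hx hy =>
    obtain ⟨r, hr, u, hu, rfl⟩ := hx
    obtain ⟨r', hr', u', hu', rfl⟩ := hy
    exact ⟨r + r', add_mem hr hr', u + u', add_mem hu hu', by ring⟩
  | mul x y _ _ hx hy =>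
    obtain ⟨r, hr, u, hu, rfl⟩ := hx
    obtain ⟨r', hr', u', hu', rfl⟩ := hy
    refine ⟨r * r', ?_, r * u' + u * (r' + u'), ?_, by ring⟩
    · have := SetLike.mul_mem_graded hr hr'
      rwa [add_zero] at this
    · exact add_mem (Ideal.mul_mem_left _ _ hu') (Ideal.mul_mem_right _ _ hu)

theorem exists_decomp_homog (s : Finset B) (hs : Algebra.adjoin (ℬ 0) (s : Set B) = ⊤)
    (deg : B → ℕ) (hdeg : ∀ i ∈ s, i ∈ ℬ (deg i)) {n : ℕ} (hn : 0 < n) {x : B} (hx : x ∈ ℬ n) :
    ∃ y : B → B, (∀ i ∈ s, deg i ≤ n → y i ∈ ℬ (n - deg i)) ∧ (∀ i ∈ s, n < deg i → y i = 0) ∧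
      x = ∑ i ∈ s, i * y i := by
  classical
  obtain ⟨r, hr, u, hu, rfl⟩ := exists_decomp ℬ s hs x
  obtain ⟨z, -, rfl⟩ := (Submodule.mem_span_finset).mp hu
  refine ⟨fun i => if deg i ≤ n then (decompose ℬ (z i) (n - deg i) : B) else 0, ?_, ?_, ?_⟩
  · intro i _ hi
    simp only [hi, if_true]
    exact SetLike.coe_mem _
  · intro i _ hi
    simp only [not_le.mpr hi, if_false]
  · have h1 : (decompose ℬ (r + ∑ i ∈ s, z i • i) n : B) = r + ∑ i ∈ s, z i • i :=
      DirectSum.decompose_of_mem_same ℬ hx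
    rw [← h1, decompose_add, DirectSum.add_apply, Submodule.coe_add,
      DirectSum.decompose_of_mem_ne ℬ hr (by omega : (0 : ℕ) ≠ n), zero_add, decompose_sum,
      DirectSum.sum_apply, AddSubmonoidClass.coe_finsetSum]
    refine Finset.sum_congr rfl (fun i hi => ?_)
    rw [smul_eq_mul, mul_comm]
    by_cases h : deg i ≤ n
    · simp only [h, if_true]
      exact DirectSum.coe_decompose_mul_of_left_mem_of_le ℬ (hdeg i hi) h
    · simp only [h, if_false, mul_zero]
      exact DirectSum.coe_decompose_mul_of_left_mem_of_not_le ℬ (hdeg i hi) h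

end Decomp


section Hom
variable {R A B : Type u} [CommRing R] [CommRing A] [Algebra R A] {𝒜 : ℕ → Submodule R A}
  [GradedAlgebra 𝒜] [CommRing B] [Algebra R B] {ℬ : ℕ → Submodule R B} [GradedAlgebra ℬ]
  (φ : 𝒜 →+*ᵍ ℬ)

/-- The predicate "`x` is the image of an element of degree `k`". -/
def Im (k : ℕ) (x : B) : Prop := ∃ a ∈ 𝒜 k, φ a = x

variable {φ}

theorem Im.zero (k : ℕ) : Im φ k 0 := ⟨0, zero_mem _, map_zero φ⟩

theorem Im.add {k : ℕ} {x y : B} (hx : Im φ k x) (hy : Im φ k y) : Im φ k (x + y) := by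
  obtain ⟨a, ha, rfl⟩ := hx
  obtain ⟨a', ha', rfl⟩ := hy
  exact ⟨a + a', add_mem ha ha', map_add φ a a'⟩

theorem Im.mul {k l : ℕ} {x y : B} (hx : Im φ k x) (hy : Im φ l y) : Im φ (k + l) (x * y) := by
  obtain ⟨a, ha, rfl⟩ := hx
  obtain ⟨a', ha', rfl⟩ := hy
  exact ⟨a * a', SetLike.mul_mem_graded ha ha', map_mul φ a a'⟩

theorem Im.sum {k : ℕ} {ι : Type*} (s : Finset ι) (f : ι → B) (h : ∀ i ∈ s, Im φ k (f i)) :
    Im φ k (∑ i ∈ s, f i) :=
  Finset.sum_induction f (Im φ k) (fun _ _ hx hy => hx.add hy) (Im.zero k) h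

theorem Im.of_eq {k l : ℕ} (h : k = l) {x : B} (hx : Im φ k x) : Im φ l x := h ▸ hx

theorem Im.mem {k : ℕ} {x : B} (hx : Im φ k x) : x ∈ ℬ k := by
  obtain ⟨a, ha, rfl⟩ := hx
  exact φ.2 ha

/-- Homogeneous preimage. -/
theorem Im.of_range {k : ℕ} {x : B} (hx : x ∈ ℬ k) (a' : A) (h : φ a' = x) : Im φ k x :=
  ⟨decompose 𝒜 a' k, SetLike.coe_mem _, by
    rw [GradedRingHom.map_directSumDecompose, h, DirectSum.decompose_of_mem_same ℬ hx]⟩

theorem pow_le_deg (n : ℕ) : ℬ 1 ^ n ≤ ℬ n := by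
  induction n with
  | zero =>
    rw [pow_zero, Submodule.one_le]
    exact SetLike.GradedOne.one_mem
  | succ n ih =>
    rw [pow_succ]
    rw [Submodule.mul_le]
    intro x hx y hy
    exact SetLike.mul_mem_graded (ih hx) hy

theorem map_pow_mem {n : ℕ} (hn : 1 ≤ n) {a : A} (ha : a ∈ 𝒜 1 ^ n) : φ a ∈ ℬ 1 ^ n := by
  induction n, hn using Nat.le_induction generalizing a with
  | base =>
    rw [pow_one] at ha ⊢
    exact φ.2 ha
  | succ n hn ih =>
    rw [pow_succ] at ha ⊢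
    induction ha using Submodule.mul_induction_on' with
    | mem_mul_mem m hm m' hm' =>
      rw [map_mul]
      exact Submodule.mul_mem_mul (ih hm) (φ.2 hm')
    | add x hx y hy hx' hy' =>
      rw [map_add]
      exact add_mem hx' hy'

end Hom

end Groth.Agent.GrTNAlg
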