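import Mathlib
import Groth.Prelude
import Groth.Agent.Lib.GrTNAlg1_helper5

/-!
# The (TN) converse for graded rings of finite type (helper5)

If `φ : A → B` is an injective graded map, bijective in degrees 0 and 1, with `A` generated in degree
one, `B` of finite type over `B_0`, `B_+ ⊆ rad(B_1 B)` and `A_(f) → B_(φ f)` surjective for all
`f ∈ A_1`, then `φ` is surjective in large degrees.  APPEND-ONLY once landed.
-/

set_option autoImplicit false
universe u
open DirectSum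

namespace Groth.Agent.GrTNAlg

section PK
variable {R A B : Type u} [CommRing R] [CommRing A] [Algebra R A] {𝒜 : ℕ → Submodule R A}
  [GradedAlgebra 𝒜] [CommRing B] [Algebra R B] {ℬ : ℕ → Submodule R B} [GradedAlgebra ℬ]
  {φ : 𝒜 →+*ᵍ ℬ}

/-- The hypotheses of the (TN) lemma. -/
structure Setup (φ : 𝒜 →+*ᵍ ℬ) : Prop where
  inj : Function.Injective φ
  h0 : ∀ r ∈ ℬ 0, Im φ 0 r
  h1 : ∀ f ∈ ℬ 1, Im φ 1 f
  hgen : ∀ n : ℕ, 1 ≤ n → 𝒜 n = 𝒜 1 ^ n
  hrad : ∀ m : ℕ, 0 < m → ∀ b ∈ ℬ m, b ∈ (Ideal.span (ℬ 1 : Set B)).radical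
  hloc : ∀ f ∈ 𝒜 1, ∀ (m : ℕ), ∀ b ∈ ℬ m, ∃ N : ℕ, Im φ (N + m) (φ f ^ N * b)

variable (H : Setup φ) (s : Finset B) (hs : Algebra.adjoin (ℬ 0) (s : Set B) = ⊤)
  (deg : B → ℕ) (hdeg : ∀ i ∈ s, i ∈ ℬ (deg i)) (hpos : ∀ i ∈ s, 0 < deg i)

include H hs hdeg hpos in
theorem exists_fin_gen : ∃ F : Finset A, (∀ f ∈ F, f ∈ 𝒜 1) ∧
    ∀ a ∈ 𝒜 1, a ∈ Ideal.span (F : Set A) := by
  classical
  have h1 := H.h1
  have h0 := H.h0
  unfold Im at h1 h0
  choose! g hg using h1
  choose! g0 hg0 using h0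
  refine ⟨(s.filter (fun i => deg i = 1)).image g, ?_, ?_⟩
  · intro f hf
    obtain ⟨i, hi, rfl⟩ := Finset.mem_image.mp hf
    obtain ⟨his, hi1⟩ := Finset.mem_filter.mp hi
    exact (hg i (hi1 ▸ hdeg i his)).1
  · intro a ha
    have hφa : φ a ∈ ℬ 1 := φ.2 ha
    obtain ⟨y, hy1, hy2, hy3⟩ := exists_decomp_homog ℬ s hs deg hdeg one_pos hφa
    have key : a = ∑ i ∈ s, (if deg i = 1 then g i * g0 (y i) else 0) := by
      apply H.inj
      refine hy3.trans ?_
      rw [map_sum]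
      refine Finset.sum_congr rfl (fun i hi => ?_)
      by_cases h : deg i = 1
      · simp only [h, if_true, map_mul]
        have hi1 : i ∈ ℬ 1 := h ▸ hdeg i hi
        have hy : y i ∈ ℬ 0 := by
          have := hy1 i hi h.le
          rwa [h] at this
        rw [(hg i hi1).2, (hg0 (y i) hy).2]
      · simp only [h, if_false, map_zero]
        have : 1 < deg i := by have := hpos i hi; omega
        rw [hy2 i hi this, mul_zero]
    rw [key]
    refine sum_mem (fun i hi => ?_)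
    by_cases h : deg i = 1
    · simp only [h, if_true]
      exact Ideal.mul_mem_right _ _ (Ideal.subset_span
        (Finset.mem_coe.mpr (Finset.mem_image.mpr ⟨i, Finset.mem_filter.mpr ⟨hi, h⟩, rfl⟩)))
    · simp only [h, if_false]
      exact zero_mem _


include H hs hdeg hpos in
theorem exists_K {m : ℕ} {b : B} (hb : b ∈ ℬ m) :
    ∃ K : ℕ, ∀ n : ℕ, K ≤ n → ∀ a ∈ 𝒜 n, Im φ (n + m) (φ a * b) := by
  obtain ⟨F, hF1, hF2⟩ := exists_fin_gen H s hs deg hdeg hpos
  let 𝔠 : Ideal A :=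
    { carrier := {a | ∃ a', φ a' = φ a * b}
      zero_mem' := ⟨0, by simp⟩
      add_mem' := by
        rintro x y ⟨x', hx⟩ ⟨y', hy⟩
        exact ⟨x' + y', by rw [map_add, map_add, hx, hy, add_mul]⟩
      smul_mem' := by
        rintro c x ⟨x', hx⟩
        exact ⟨c * x', by rw [smul_eq_mul, map_mul, map_mul, hx, mul_assoc]⟩ }
  have hle : Ideal.span (F : Set A) ≤ 𝔠.radical := by
    rw [Ideal.span_le]
    intro f hf
    obtain ⟨N, a', -, ha'⟩ := H.hloc f (hF1 f hf) m b hb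
    exact ⟨N, a', by rw [map_pow]; exact ha'⟩
  obtain ⟨K, hK⟩ := Ideal.exists_pow_le_of_le_radical_of_fg hle ⟨F, rfl⟩
  have hpow : ∀ n : ℕ, ∀ a ∈ 𝒜 1 ^ n, a ∈ Ideal.span (F : Set A) ^ n := by
    intro n
    induction n with
    | zero => intro a _; rw [pow_zero, Ideal.one_eq_top]; trivial
    | succ n ih =>
      intro a ha
      rw [pow_succ] at ha ⊢
      induction ha using Submodule.mul_induction_on' with
      | mem_mul_mem x hx y hy => exact Ideal.mul_mem_mul (ih x hx) (hF2 y hy)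
      | add x hx y hy hx' hy' => exact add_mem hx' hy'
  refine ⟨K, fun n hn a ha => ?_⟩
  have haI : a ∈ Ideal.span (F : Set A) ^ n := by
    rcases Nat.eq_zero_or_pos n with h | h
    · subst h; rw [pow_zero, Ideal.one_eq_top]; trivial
    · rw [H.hgen n h] at ha
      exact hpow n a ha
  obtain ⟨a', ha'⟩ : a ∈ 𝔠 := hK (Ideal.pow_le_pow_right hn haI)
  exact Im.of_range (SetLike.mul_mem_graded (φ.2 ha) hb) a' ha'


include H hs hdeg hpos in
theorem exists_N (m : ℕ) :
    ∃ N : ℕ, ∀ n : ℕ, N ≤ n → ∀ a ∈ 𝒜 n, ∀ b ∈ ℬ m, Im φ (n + m) (φ a * b) := by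
  induction m using Nat.strong_induction_on with
  | _ m IH =>
    rcases Nat.eq_zero_or_pos m with hm | hm
    · subst hm
      refine ⟨0, fun n _ a ha b hb => ?_⟩
      exact Im.mul ⟨a, ha, rfl⟩ (H.h0 b hb)
    · have IH' : ∀ m' : ℕ, ∃ N : ℕ, m' < m → ∀ n : ℕ, N ≤ n → ∀ a ∈ 𝒜 n, ∀ b ∈ ℬ m',
          Im φ (n + m') (φ a * b) := by
        intro m'
        by_cases h : m' < m
        · obtain ⟨N, hN⟩ := IH m' h
          exact ⟨N, fun _ => hN⟩
        · exact ⟨0, fun h' => absurd h' h⟩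
      choose N' hN' using IH'
      have hK' : ∀ i : B, ∃ K : ℕ, i ∈ s → ∀ n : ℕ, K ≤ n → ∀ a ∈ 𝒜 n,
          Im φ (n + deg i) (φ a * i) := by
        intro i
        by_cases h : i ∈ s
        · obtain ⟨K, hK⟩ := exists_K H s hs deg hdeg hpos (hdeg i h)
          exact ⟨K, fun _ => hK⟩
        · exact ⟨0, fun h' => absurd h' h⟩
      choose K hK using hK'
      refine ⟨s.sup K + s.sup (fun i => N' (m - deg i)), fun n hn a ha b hb => ?_⟩
      obtain ⟨y, hy1, hy2, rfl⟩ := exists_decomp_homog ℬ s hs deg hdeg hm hb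
      rw [Finset.mul_sum]
      refine Im.sum s _ (fun i hi => ?_)
      by_cases h : deg i ≤ m
      · have hKi : K i ≤ n := (Finset.le_sup (f := K) hi).trans ((Nat.le_add_right _ _).trans hn)
        have hNi : N' (m - deg i) ≤ n + deg i :=
          (Finset.le_sup (f := fun i => N' (m - deg i)) hi).trans
            ((Nat.le_add_left _ _).trans (hn.trans (Nat.le_add_right _ _)))
        obtain ⟨a1, ha1, e1⟩ := hK i hi n hKi a ha
        have hlt : m - deg i < m := by have := hpos i hi; omega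
        have h2 := hN' (m - deg i) hlt (n + deg i) hNi a1 ha1 (y i) (hy1 i hi h)
        rw [e1, mul_assoc] at h2
        exact h2.of_eq (by omega)
      · rw [hy2 i hi (not_le.mp h), mul_zero, mul_zero]
        exact Im.zero _


include H hs hdeg hpos in
theorem exists_n1 : ∃ n₁ : ℕ, ∀ n : ℕ, n₁ ≤ n → ℬ (n + 1) ≤ ℬ 1 * ℬ n := by
  classical
  have hJ : Ideal.span (s : Set B) ≤ (Ideal.span (ℬ 1 : Set B)).radical := by
    rw [Ideal.span_le]
    intro i hi
    exact H.hrad (deg i) (hpos i hi) i (hdeg i hi)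
  obtain ⟨M, hM⟩ := Ideal.exists_pow_le_of_le_radical_of_fg hJ ⟨s, rfl⟩
  set D := s.sup deg + 1 with hD
  have hE : ∀ M' n : ℕ, M' * D ≤ n → ∀ x ∈ ℬ n, x ∈ Ideal.span (s : Set B) ^ M' := by
    intro M'
    induction M' with
    | zero => intro n _ x _; rw [pow_zero, Ideal.one_eq_top]; trivial
    | succ M' ih =>
      intro n hn x hx
      have e : (M' + 1) * D = M' * D + D := by ring
      have hn1 : 0 < n := by omega
      obtain ⟨y, hy1, hy2, rfl⟩ := exists_decomp_homog ℬ s hs deg hdeg hn1 hx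
      rw [pow_succ']
      refine sum_mem (fun i hi => ?_)
      by_cases h : deg i ≤ n
      · have hle : deg i ≤ s.sup deg := Finset.le_sup (f := deg) hi
        exact Ideal.mul_mem_mul (Ideal.subset_span hi)
          (ih (n - deg i) (by omega) (y i) (hy1 i hi h))
      · rw [hy2 i hi (not_le.mp h), mul_zero]
        exact zero_mem _
  refine ⟨M * D, fun n hn x hx => ?_⟩
  have hxI : x ∈ Ideal.span (ℬ 1 : Set B) := hM (hE M (n + 1) (by omega) x hx)
  obtain ⟨f, t, ht, -, rfl⟩ := Submodule.mem_span_iff_exists_finset_subset.mp hxI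
  have h1 : (decompose ℬ (∑ a ∈ t, f a • a) (n + 1) : B) = ∑ a ∈ t, f a • a :=
    DirectSum.decompose_of_mem_same ℬ hx
  rw [← h1, decompose_sum, DirectSum.sum_apply, AddSubmonoidClass.coe_finsetSum]
  refine sum_mem (fun a ha => ?_)
  have ha1 : a ∈ ℬ 1 := ht ha
  rw [smul_eq_mul, DirectSum.coe_decompose_mul_of_right_mem_of_le ℬ ha1 (by omega : 1 ≤ n + 1)]
  have hdec : (decompose ℬ (f a) (n + 1 - 1) : B) ∈ ℬ n := by
    have := SetLike.coe_mem (decompose ℬ (f a) (n + 1 - 1))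
    rwa [Nat.add_sub_cancel] at this
  have h2 := Submodule.mul_mem_mul ha1 hdec
  have e : (decompose ℬ (f a) (n + 1 - 1) : B) * a = a * (decompose ℬ (f a) (n + 1 - 1) : B) :=
    mul_comm _ _
  rw [e]
  exact h2


include H in
theorem pow_le_Im (k : ℕ) : ∀ c ∈ ℬ 1 ^ k, Im φ k c := by
  induction k with
  | zero =>
    intro c hc
    exact H.h0 c (pow_le_deg 0 hc)
  | succ k ih =>
    intro c hc
    rw [pow_succ] at hc
    induction hc using Submodule.mul_induction_on' with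
    | mem_mul_mem x hx y hy => exact (ih x hx).mul (H.h1 y hy)
    | add x hx y hy hx' hy' => exact hx'.add hy'

include H hs hdeg hpos in
/-- **The (TN) converse**: eventually every homogeneous element is in the image. -/
theorem exists_n0 : ∃ n₀ : ℕ, ∀ n : ℕ, n₀ ≤ n → ∀ b ∈ ℬ n, Im φ n b := by
  obtain ⟨n₁, hn₁⟩ := exists_n1 H s hs deg hdeg hpos
  obtain ⟨N, hN⟩ := exists_N H s hs deg hdeg hpos n₁
  have h1 : ∀ k : ℕ, ℬ (n₁ + k) ≤ ℬ 1 ^ k * ℬ n₁ := by
    intro k
    induction k with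
    | zero => rw [pow_zero, one_mul, add_zero]
    | succ k ih =>
      have e : n₁ + (k + 1) = (n₁ + k) + 1 := by ring
      rw [e, pow_succ', mul_assoc]
      exact (hn₁ (n₁ + k) (Nat.le_add_right _ _)).trans (mul_le_mul' le_rfl ih)
  refine ⟨n₁ + N, fun n hn b hb => ?_⟩
  obtain ⟨k, rfl⟩ : ∃ k, n = n₁ + k := ⟨n - n₁, by omega⟩
  have hk : N ≤ k := by omega
  have hb' := h1 k hb
  clear hb
  induction hb' using Submodule.mul_induction_on' with
  | mem_mul_mem c hc y hy =>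
    obtain ⟨a, ha, rfl⟩ := pow_le_Im H k c hc
    exact (hN k hk a ha y hy).of_eq (add_comm _ _)
  | add x hx y hy hx' hy' => exact hx'.add hy'

end PK

end Groth.Agent.GrTNAlg
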