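import Mathlib
import Groth.Prelude.Def_GrLC
import Groth.Agent.Lib.GrLES3_helper1

/-! Graded local cohomology as a functor on graded modules, and the natural map
`M ⊗ *H^i_a(R) → *H^i_a(M)` (helper1).  Part 0: sums of chain maps, the induced maps `Tmap` through
arbitrary resolutions (independent of the lift, functorial, additive).  Part 1: the map
`τ : M → Hom_R(*H^i_a(R), *H^i_a(M))`, `x ↦ H(r ↦ r x)`.  Part 2: `τ̃ : M ⊗ H(R) → H(M)` and its
naturality. -/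

set_option autoImplicit false

namespace Groth.Agent.Lib.GrTens1H1

open DirectSum GrLC TensorProduct Groth.Agent.Lib.GrStarH1 Groth.Agent.Lib.GrStar2H1
  Groth.Agent.Lib.GrStar3H1 Groth.Agent.Lib.GrLES1H1 Groth.Agent.Lib.GrLES3H1

universe u

variable {ι : Type} [AddCommGroup ι] [DecidableEq ι]
variable {R : Type u} [CommRing R] {𝒜 : ι → AddSubgroup R} [GradedRing 𝒜]

attribute [local instance] shiftDecomp shift_gsmul

/-! ### Part 0 -/
section functor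

variable {M : Type u} [AddCommGroup M] [Module R M] {ℳ : ι → AddSubgroup M} [Decomposition ℳ]
  [SetLike.GradedSMul 𝒜 ℳ]
variable {N : Type u} [AddCommGroup N] [Module R N] {𝒩 : ι → AddSubgroup N} [Decomposition 𝒩]
  [SetLike.GradedSMul 𝒜 𝒩]
variable {L : Type u} [AddCommGroup L] [Module R L] {𝓛 : ι → AddSubgroup L} [Decomposition 𝓛]
  [SetLike.GradedSMul 𝒜 𝓛]

/-- sum of chain maps -/
def cadd {E : StarInjRes 𝒜 ℳ} {F : StarInjRes 𝒜 𝒩} (φ ψ : CMap E F) : CMap E F where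
  f := fun n => φ.f n + ψ.f n
  gr := fun n => isGrHom_add _ _ (φ.gr n) (ψ.gr n)
  comm := fun n x => by
    rw [LinearMap.add_apply, LinearMap.add_apply, map_add, φ.comm, ψ.comm]

theorem cadd_H {E : StarInjRes 𝒜 ℳ} {F : StarInjRes 𝒜 𝒩} (φ ψ : CMap E F)
    (a : HomogeneousIdeal 𝒜) (i : ℕ) : (cadd φ ψ).H a i = φ.H a i + ψ.H a i := by
  apply LinearMap.ext
  intro y
  obtain ⟨z, rfl⟩ := toH_surjective a E i y
  rw [LinearMap.add_apply, CMap.H_toH, CMap.H_toH, CMap.H_toH, ← map_add]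
  exact congrArg (F.toH a i) (Subtype.ext rfl)

/-- the zero chain map -/
def czero (E : StarInjRes 𝒜 ℳ) (F : StarInjRes 𝒜 𝒩) : CMap E F where
  f := fun _ => 0
  gr := fun _ _ _ _ => by
    rw [LinearMap.zero_apply]
    exact zero_mem _
  comm := fun n x => by
    rw [LinearMap.zero_apply, LinearMap.zero_apply, map_zero]

theorem czero_H (E : StarInjRes 𝒜 ℳ) (F : StarInjRes 𝒜 𝒩) (a : HomogeneousIdeal 𝒜) (i : ℕ) :
    (czero E F).H a i = 0 := by
  apply LinearMap.ext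
  intro y
  obtain ⟨z, rfl⟩ := toH_surjective a E i y
  rw [CMap.H_toH, LinearMap.zero_apply]
  have h : (czero E F).Z a i z = 0 := Subtype.ext rfl
  rw [h, map_zero]

variable (E : StarInjRes 𝒜 ℳ) (F : StarInjRes 𝒜 𝒩) (G : StarInjRes 𝒜 𝓛)

/-- the map induced on graded local cohomology by a graded map, through arbitrary resolutions -/
noncomputable def Tmap (u : M →ₗ[R] N) (hu : IsGrHom ℳ 𝒩 u) (a : HomogeneousIdeal 𝒜) (i : ℕ) :
    E.H a i →ₗ[R] F.H a i :=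
  ((exists_lift E F u hu).choose).H a i

theorem Tmap_eq (u : M →ₗ[R] N) (hu : IsGrHom ℳ 𝒩 u) (a : HomogeneousIdeal 𝒜) (i : ℕ)
    (φ : CMap E F) (hφ : ∀ m, φ.f 0 (E.ε m) = F.ε (u m)) : Tmap E F u hu a i = φ.H a i :=
  H_unique _ _ (fun m => by rw [(exists_lift E F u hu).choose_spec m, hφ m]) a i

theorem Tmap_gr (u : M →ₗ[R] N) (hu : IsGrHom ℳ 𝒩 u) (a : HomogeneousIdeal 𝒜) (i : ℕ) :
    IsGrHom (E.Hgr a i) (F.Hgr a i) (Tmap E F u hu a i) :=
  CMap.H_gr _ a i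

theorem Tmap_congr {u u' : M →ₗ[R] N} (h : u = u') (hu : IsGrHom ℳ 𝒩 u)
    (hu' : IsGrHom ℳ 𝒩 u') (a : HomogeneousIdeal 𝒜) (i : ℕ) :
    Tmap E F u hu a i = Tmap E F u' hu' a i := by
  subst h
  rfl

theorem Tmap_id (a : HomogeneousIdeal 𝒜) (i : ℕ) (h : IsGrHom ℳ ℳ LinearMap.id) :
    Tmap E E LinearMap.id h a i = LinearMap.id :=
  (Tmap_eq E E LinearMap.id h a i (CMap.id E) (fun _ => rfl)).trans (CMap.H_id a i)

theorem Tmap_zero (a : HomogeneousIdeal 𝒜) (i : ℕ) (h : IsGrHom ℳ 𝒩 (0 : M →ₗ[R] N)) :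
    Tmap E F 0 h a i = 0 :=
  (Tmap_eq E F 0 h a i (czero E F) (fun m => by
    show (0 : (E.X 0).carrier →ₗ[R] (F.X 0).carrier) (E.ε m) = F.ε ((0 : M →ₗ[R] N) m)
    rw [LinearMap.zero_apply, LinearMap.zero_apply, map_zero])).trans (czero_H E F a i)

theorem Tmap_comp (u : M →ₗ[R] N) (hu : IsGrHom ℳ 𝒩 u) (v : N →ₗ[R] L) (hv : IsGrHom 𝒩 𝓛 v)
    (a : HomogeneousIdeal 𝒜) (i : ℕ) (hvu : IsGrHom ℳ 𝓛 (v ∘ₗ u)) :
    Tmap E G (v ∘ₗ u) hvu a i = Tmap F G v hv a i ∘ₗ Tmap E F u hu a i := by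
  obtain ⟨φ, hφ⟩ := exists_lift E F u hu
  obtain ⟨ψ, hψ⟩ := exists_lift F G v hv
  rw [Tmap_eq E F u hu a i φ hφ, Tmap_eq F G v hv a i ψ hψ, ← CMap.H_comp]
  apply Tmap_eq
  intro m
  show ψ.f 0 (φ.f 0 (E.ε m)) = G.ε (v (u m))
  rw [hφ, hψ]

theorem Tmap_add (u u' : M →ₗ[R] N) (hu : IsGrHom ℳ 𝒩 u) (hu' : IsGrHom ℳ 𝒩 u')
    (a : HomogeneousIdeal 𝒜) (i : ℕ) (h : IsGrHom ℳ 𝒩 (u + u')) :
    Tmap E F (u + u') h a i = Tmap E F u hu a i + Tmap E F u' hu' a i := by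
  obtain ⟨φ, hφ⟩ := exists_lift E F u hu
  obtain ⟨ψ, hψ⟩ := exists_lift E F u' hu'
  rw [Tmap_eq E F u hu a i φ hφ, Tmap_eq E F u' hu' a i ψ hψ, ← cadd_H]
  apply Tmap_eq
  intro m
  show φ.f 0 (E.ε m) + ψ.f 0 (E.ε m) = F.ε ((u + u') m)
  rw [hφ, hψ, LinearMap.add_apply, map_add]

theorem Tmap_id_bijective (E₂ : StarInjRes 𝒜 ℳ) (h : IsGrHom ℳ ℳ LinearMap.id)
    (a : HomogeneousIdeal 𝒜) (i : ℕ) : Function.Bijective (Tmap E E₂ LinearMap.id h a i) := by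
  have key : ∀ (E E₂ : StarInjRes 𝒜 ℳ),
      Tmap E₂ E LinearMap.id h a i ∘ₗ Tmap E E₂ LinearMap.id h a i = LinearMap.id := by
    intro E E₂
    have hvu : IsGrHom ℳ ℳ ((LinearMap.id : M →ₗ[R] M) ∘ₗ (LinearMap.id : M →ₗ[R] M)) :=
      fun _ _ hm => hm
    rw [← Tmap_comp E E₂ E LinearMap.id h LinearMap.id h a i hvu,
      Tmap_congr E E (LinearMap.ext (fun _ => rfl) :
        (LinearMap.id : M →ₗ[R] M) ∘ₗ (LinearMap.id : M →ₗ[R] M) = LinearMap.id) hvu h a i, Tmap_id E a i h]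
  constructor
  · intro x y hxy
    have := congrArg (Tmap E₂ E LinearMap.id h a i) hxy
    rw [← LinearMap.comp_apply, ← LinearMap.comp_apply, key E E₂] at this
    exact this
  · intro y
    refine ⟨Tmap E₂ E LinearMap.id h a i y, ?_⟩
    rw [← LinearMap.comp_apply, key E₂ E]
    rfl

end functor

/-! ### Part 1 -/
section tau

variable {M : Type u} [AddCommGroup M] [Module R M] {ℳ : ι → AddSubgroup M} [Decomposition ℳ]
  [SetLike.GradedSMul 𝒜 ℳ]
variable {N : Type u} [AddCommGroup N] [Module R N] {𝒩 : ι → AddSubgroup N} [Decomposition 𝒩]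
  [SetLike.GradedSMul 𝒜 𝒩]

theorem mu_gr {j : ι} {x : M} (hx : x ∈ ℳ j) :
    IsGrHom (shiftGr 𝒜 (-j)) ℳ (LinearMap.toSpanSingleton R M x) := by
  intro k r hr
  rw [LinearMap.toSpanSingleton_apply]
  have hr' : r ∈ 𝒜 (-j + k) := hr
  have h := smul_mem_gr 𝒜 ℳ hr' hx
  exact mem_congr ℳ (by abel) h

/-- the identity `H(M) = H(M(s))` -/
noncomputable def shiftH (E : StarInjRes 𝒜 ℳ) (a : HomogeneousIdeal 𝒜) (i : ℕ) (s : ι) :
    E.H a i →ₗ[R] (shiftRes 𝒜 E s).H a i := LinearMap.id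

theorem shiftH_bijective (E : StarInjRes 𝒜 ℳ) (a : HomogeneousIdeal 𝒜) (i : ℕ) (s : ι) :
    Function.Bijective (shiftH E a i s) := ⟨fun _ _ h => h, fun y => ⟨y, rfl⟩⟩

theorem shiftH_mem (E : StarInjRes 𝒜 ℳ) (a : HomogeneousIdeal 𝒜) (i : ℕ) (s : ι) {b : ι}
    {h : E.H a i} (hh : h ∈ E.Hgr a i (s + b)) : shiftH E a i s h ∈ (shiftRes 𝒜 E s).Hgr a i b :=
  hh

/-- multiplication by a homogeneous element between shifted resolutions -/
noncomputable def mulShift (E : StarInjRes 𝒜 ℳ) {t : ι} {r : R} (hr : r ∈ 𝒜 t) (s s' : ι)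
    (hs : t + s' = s) : CMap (shiftRes 𝒜 E s') (shiftRes 𝒜 E s) where
  f := fun n => LinearMap.lsmul R (E.X n).carrier r
  gr := fun n k z hz => by
    have := smul_mem_gr 𝒜 (E.X n).gr hr hz
    exact mem_congr (E.X n).gr (by rw [← hs, add_assoc]) this
  comm := fun n (z : (E.X n).carrier) => (map_smul (E.d n) r z).symm

theorem mulShift_H (E : StarInjRes 𝒜 ℳ) {t : ι} {r : R} (hr : r ∈ 𝒜 t) (s s' : ι)
    (hs : t + s' = s) (a : HomogeneousIdeal 𝒜) (i : ℕ) (y : E.H a i) :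
    (mulShift E hr s s' hs).H a i (shiftH E a i s' y) = shiftH E a i s (r • y) := by
  obtain ⟨z, rfl⟩ := toH_surjective a E i y
  rfl

variable (I : StarInjRes 𝒜 𝒜) (E : StarInjRes 𝒜 ℳ) (a : HomogeneousIdeal 𝒜) (i : ℕ)

/-- the map `H(R) → H(M)` induced by a homogeneous element -/
noncomputable def tauH {j : ι} (x : M) (hx : x ∈ ℳ j) : I.H a i →ₗ[R] E.H a i :=
  Tmap (shiftRes 𝒜 I (-j)) E (LinearMap.toSpanSingleton R M x) (mu_gr hx) a i ∘ₗ
    shiftH I a i (-j)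

theorem tauH_eq {j : ι} (x : M) (hx : x ∈ ℳ j) (φ : CMap (shiftRes 𝒜 I (-j)) E)
    (hφ : ∀ r : R, φ.f 0 ((shiftRes 𝒜 I (-j)).ε r) = E.ε (r • x)) :
    tauH I E a i x hx = φ.H a i ∘ₗ shiftH I a i (-j) := by
  unfold tauH
  rw [Tmap_eq (shiftRes 𝒜 I (-j)) E _ (mu_gr hx) a i φ hφ]

theorem tauH_mem {j : ι} (x : M) (hx : x ∈ ℳ j) {b : ι} {h : I.H a i}
    (hh : h ∈ I.Hgr a i b) : tauH I E a i x hx h ∈ E.Hgr a i (b + j) := by
  have h1 : shiftH I a i (-j) h ∈ (shiftRes 𝒜 I (-j)).Hgr a i (b + j) :=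
    shiftH_mem I a i (-j) (mem_congr (I.Hgr a i) (by abel) hh)
  exact Tmap_gr (shiftRes 𝒜 I (-j)) E _ (mu_gr hx) a i (b + j) _ h1

theorem tauH_zero {j : ι} (h0 : (0 : M) ∈ ℳ j) : tauH I E a i (0 : M) h0 = 0 := by
  rw [tauH_eq I E a i 0 h0 (czero _ _) (fun r => by
    rw [smul_zero, map_zero]
    rfl), czero_H, LinearMap.zero_comp]

theorem tauH_add {j : ι} (x y : M) (hx : x ∈ ℳ j) (hy : y ∈ ℳ j) (hxy : x + y ∈ ℳ j) :
    tauH I E a i (x + y) hxy = tauH I E a i x hx + tauH I E a i y hy := by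
  have hsum : LinearMap.toSpanSingleton R M (x + y) =
      LinearMap.toSpanSingleton R M x + LinearMap.toSpanSingleton R M y :=
    LinearMap.ext (fun r => by
      rw [LinearMap.add_apply, LinearMap.toSpanSingleton_apply, LinearMap.toSpanSingleton_apply,
        LinearMap.toSpanSingleton_apply, smul_add])
  have hg : IsGrHom (shiftGr 𝒜 (-j)) ℳ
      (LinearMap.toSpanSingleton R M x + LinearMap.toSpanSingleton R M y) :=
    isGrHom_add _ _ (mu_gr hx) (mu_gr hy)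
  unfold tauH
  rw [Tmap_congr (shiftRes 𝒜 I (-j)) E hsum (mu_gr hxy) hg a i,
    Tmap_add (shiftRes 𝒜 I (-j)) E _ _ (mu_gr hx) (mu_gr hy) a i hg, LinearMap.add_comp]

theorem tauH_smul {t j : ι} {r : R} (hr : r ∈ 𝒜 t) (x : M) (hx : x ∈ ℳ j)
    (hrx : r • x ∈ ℳ (t + j)) : tauH I E a i (r • x) hrx = r • tauH I E a i x hx := by
  obtain ⟨φ, hφ⟩ := exists_lift (shiftRes 𝒜 I (-j)) E _ (mu_gr hx)
  have hφ' : ∀ r' : R, φ.f 0 ((shiftRes 𝒜 I (-j)).ε r') = E.ε (r' • x) := hφ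
  have hs : t + -(t + j) = -j := by abel
  rw [tauH_eq I E a i x hx φ hφ',
    tauH_eq I E a i (r • x) hrx (φ.comp (mulShift I hr (-j) (-(t + j)) hs)) (fun r' => by
      show φ.f 0 (r • (shiftRes 𝒜 I (-j)).ε r') = E.ε (r' • (r • x))
      rw [map_smul, hφ', ← map_smul, smul_comm])]
  apply LinearMap.ext
  intro y
  rw [CMap.H_comp, LinearMap.comp_apply, LinearMap.comp_apply, mulShift_H, map_smul, map_smul,
    LinearMap.smul_apply, LinearMap.comp_apply]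

/-- components of `τ` -/
noncomputable def tauC (j : ι) : ℳ j →+ (I.H a i →ₗ[R] E.H a i) where
  toFun x := tauH I E a i x.1 x.2
  map_zero' := tauH_zero I E a i (zero_mem _)
  map_add' x y := tauH_add I E a i x.1 y.1 x.2 y.2 (x + y).2

/-- `τ` as an additive map -/
noncomputable def tauAdd : M →+ (I.H a i →ₗ[R] E.H a i) :=
  (DirectSum.toAddMonoid (fun j => tauC I E a i j)).comp (decomposeAddEquiv ℳ).toAddMonoidHom

theorem tauAdd_of_mem {j : ι} {x : M} (hx : x ∈ ℳ j) :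
    tauAdd I E a i x = tauH I E a i x hx := by
  unfold tauAdd
  rw [AddMonoidHom.comp_apply]
  change DirectSum.toAddMonoid _ (decompose ℳ x) = _
  rw [decompose_of_mem ℳ hx, DirectSum.toAddMonoid_of]
  rfl

theorem tauAdd_smul (r : R) (x : M) : tauAdd I E a i (r • x) = r • tauAdd I E a i x := by
  induction r using DirectSum.Decomposition.inductionOn 𝒜 with
  | zero => rw [zero_smul, map_zero, zero_smul]
  | @homogeneous t r =>
    induction x using DirectSum.Decomposition.inductionOn ℳ with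
    | zero => rw [smul_zero, map_zero, smul_zero]
    | @homogeneous j x =>
      rw [tauAdd_of_mem I E a i (smul_mem_gr 𝒜 ℳ r.2 x.2), tauAdd_of_mem I E a i x.2]
      exact tauH_smul I E a i r.2 x.1 x.2 _
    | add x y hx hy => rw [smul_add, map_add, map_add, hx, hy, smul_add]
  | add r s hr hs => rw [add_smul, map_add, hr, hs, add_smul]

/-- the map `τ : M → Hom_R(H(R), H(M))` -/
noncomputable def tau : M →ₗ[R] (I.H a i →ₗ[R] E.H a i) where
  toFun x := tauAdd I E a i x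
  map_add' := map_add _
  map_smul' r x := tauAdd_smul I E a i r x

theorem tau_of_mem {j : ι} {x : M} (hx : x ∈ ℳ j) : tau I E a i x = tauH I E a i x hx :=
  tauAdd_of_mem I E a i hx

theorem tau_mem {j : ι} {x : M} (hx : x ∈ ℳ j) {b : ι} {h : I.H a i}
    (hh : h ∈ I.Hgr a i b) : tau I E a i x h ∈ E.Hgr a i (b + j) := by
  rw [tau_of_mem I E a i hx]
  exact tauH_mem I E a i x hx hh

/-! ### Part 2 -/

theorem Tmap_tau (F : StarInjRes 𝒜 𝒩) (u : M →ₗ[R] N) (hu : IsGrHom ℳ 𝒩 u) (x : M)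
    (h : I.H a i) : Tmap E F u hu a i (tau I E a i x h) = tau I F a i (u x) h := by
  induction x using DirectSum.Decomposition.inductionOn ℳ with
  | zero => simp only [map_zero, LinearMap.zero_apply]
  | @homogeneous j x =>
    rw [tau_of_mem I E a i x.2, tau_of_mem I F a i (hu j x.1 x.2)]
    have hcomp : u ∘ₗ LinearMap.toSpanSingleton R M x.1 = LinearMap.toSpanSingleton R N (u x.1) :=
      LinearMap.ext (fun r => by
        rw [LinearMap.comp_apply, LinearMap.toSpanSingleton_apply,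
          LinearMap.toSpanSingleton_apply, map_smul])
    have hg : IsGrHom (shiftGr 𝒜 (-j)) 𝒩 (u ∘ₗ LinearMap.toSpanSingleton R M x.1) :=
      isGrHom_comp _ _ _ hu (mu_gr x.2)
    have h1 := Tmap_comp (shiftRes 𝒜 I (-j)) E F _ (mu_gr x.2) u hu a i hg
    have h2 := Tmap_congr (shiftRes 𝒜 I (-j)) F hcomp hg (mu_gr (hu j x.1 x.2)) a i
    unfold tauH
    rw [← h2, h1, LinearMap.comp_apply, LinearMap.comp_apply, LinearMap.comp_apply]
  | add x y hx hy =>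
    rw [map_add, LinearMap.add_apply, map_add, hx, hy, map_add, map_add, LinearMap.add_apply]

/-- the map `τ̃ : M ⊗ H(R) → H(M)` -/
noncomputable def tauT : M ⊗[R] I.H a i →ₗ[R] E.H a i := TensorProduct.lift (tau I E a i)

theorem tauT_tmul (x : M) (h : I.H a i) : tauT I E a i (x ⊗ₜ[R] h) = tau I E a i x h :=
  TensorProduct.lift.tmul x h

theorem Tmap_tauT (F : StarInjRes 𝒜 𝒩) (u : M →ₗ[R] N) (hu : IsGrHom ℳ 𝒩 u)
    (ξ : M ⊗[R] I.H a i) :
    Tmap E F u hu a i (tauT I E a i ξ) = tauT I F a i (LinearMap.rTensor (I.H a i) u ξ) := by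
  induction ξ using TensorProduct.induction_on with
  | zero => rw [map_zero, map_zero, map_zero, map_zero]
  | tmul x h => rw [tauT_tmul, LinearMap.rTensor_tmul, tauT_tmul, Tmap_tau]
  | add x y hx hy => rw [map_add, map_add, hx, hy, map_add, map_add]

end tau

end Groth.Agent.Lib.GrTens1H1
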