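import Mathlib
import Groth.Prelude.Def_GrLC
import Groth.Agent.Lib.GrTens1_helper1
import Groth.Agent.Lib.CanShift_helper1

/-! `M ⊗ *H^i_a(R) → *H^i_a(M)` is bijective for finitely generated graded `M` when `*H^{i+1}_a`
vanishes identically (helper1): base case `R(-j)`, finite products, right exactness and
presentations, induction on a homogeneous generating set. -/

set_option autoImplicit false

namespace Groth.Agent.Lib.GrTens2H1

open DirectSum GrLC TensorProduct Groth.Agent.Lib.GrStarH1 Groth.Agent.Lib.GrStar2H1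
  Groth.Agent.Lib.GrStar3H1 Groth.Agent.Lib.GrLES1H1 Groth.Agent.Lib.GrLES2H1
  Groth.Agent.Lib.GrLES3H1 Groth.Agent.Lib.GrTens1H1

universe u

variable {ι : Type} [AddCommGroup ι] [DecidableEq ι]
variable {R : Type u} [CommRing R] {𝒜 : ι → AddSubgroup R} [GradedRing 𝒜]

attribute [local instance] shiftDecomp shift_gsmul prodDecomp prod_gsmul

variable (I : StarInjRes 𝒜 𝒜) (a : HomogeneousIdeal 𝒜) (i : ℕ)

/-! ### the zero module and `R(-j)` -/
section base

variable {M : Type u} [AddCommGroup M] [Module R M] {ℳ : ι → AddSubgroup M} [Decomposition ℳ]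
  [SetLike.GradedSMul 𝒜 ℳ]

theorem H_subsingleton_of_subsingleton [Subsingleton M] (E : StarInjRes 𝒜 ℳ) :
    Subsingleton (E.H a i) := by
  have hid : IsGrHom ℳ ℳ (LinearMap.id : M →ₗ[R] M) := fun _ _ h => h
  have h0 : IsGrHom ℳ ℳ (0 : M →ₗ[R] M) := fun _ _ _ => by
    rw [LinearMap.zero_apply]
    exact zero_mem _
  have h1 : (LinearMap.id : M →ₗ[R] M) = 0 := LinearMap.ext (fun x => Subsingleton.elim _ _)
  have h2 := Tmap_congr E E h1 hid h0 a i
  rw [Tmap_id E a i hid, Tmap_zero E E a i h0] at h2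
  exact ⟨fun x y => by
    have hx := LinearMap.congr_fun h2 x
    have hy := LinearMap.congr_fun h2 y
    rw [LinearMap.id_apply, LinearMap.zero_apply] at hx hy
    rw [hx, hy]⟩

theorem bij_of_subsingleton [Subsingleton M] (E : StarInjRes 𝒜 ℳ) :
    Function.Bijective (tauT I E a i) := by
  haveI := H_subsingleton_of_subsingleton a i E
  have hdom : ∀ ξ : M ⊗[R] I.H a i, ξ = 0 := by
    intro ξ
    induction ξ using TensorProduct.induction_on with
    | zero => rfl
    | tmul x h => rw [Subsingleton.elim x 0, TensorProduct.zero_tmul]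
    | add x y hx hy => rw [hx, hy, add_zero]
  exact ⟨fun x y _ => by rw [hdom x, hdom y], fun y => ⟨0, Subsingleton.elim _ _⟩⟩

theorem base_bij (j : ι) (E : StarInjRes 𝒜 (shiftGr 𝒜 (-j))) :
    Function.Bijective (tauT I E a i) := by
  have h1 : (1 : R) ∈ shiftGr 𝒜 (-j) j :=
    mem_congr 𝒜 (neg_add_cancel j).symm (SetLike.GradedOne.one_mem : (1 : R) ∈ 𝒜 0)
  have hid : IsGrHom (shiftGr 𝒜 (-j)) (shiftGr 𝒜 (-j)) (LinearMap.id : R →ₗ[R] R) :=
    fun _ _ h => h
  have hspan : LinearMap.toSpanSingleton R R (1 : R) = LinearMap.id :=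
    LinearMap.ext (fun r => by
      rw [LinearMap.toSpanSingleton_apply, smul_eq_mul, mul_one, LinearMap.id_apply])
  have hτ1 : tau I E a i (1 : R) =
      Tmap (shiftRes 𝒜 I (-j)) E LinearMap.id hid a i ∘ₗ shiftH I a i (-j) := by
    rw [tau_of_mem I E a i h1]
    unfold tauH
    rw [Tmap_congr (shiftRes 𝒜 I (-j)) E hspan (mu_gr h1) hid a i]
  have hb : Function.Bijective (tau I E a i (1 : R)) := by
    rw [hτ1, LinearMap.coe_comp]
    exact (Tmap_id_bijective (shiftRes 𝒜 I (-j)) E hid a i).comp (shiftH_bijective I a i (-j))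
  have hfac' : tauT I E a i =
      tau I E a i 1 ∘ₗ (TensorProduct.lid R (I.H a i)).toLinearMap := by
    apply TensorProduct.ext'
    intro r h
    rw [tauT_tmul, LinearMap.comp_apply, LinearEquiv.coe_coe, TensorProduct.lid_tmul,
      LinearMap.map_smul]
    calc tau I E a i r h = tau I E a i (r • (1 : R)) h := by rw [smul_eq_mul, mul_one]
      _ = r • tau I E a i 1 h := by rw [LinearMap.map_smul, LinearMap.smul_apply]
  have hfac : ∀ ξ : R ⊗[R] I.H a i,
      tauT I E a i ξ = tau I E a i 1 (TensorProduct.lid R (I.H a i) ξ) :=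
    fun ξ => LinearMap.congr_fun hfac' ξ
  constructor
  · intro ξ ζ h
    rw [hfac, hfac] at h
    exact (TensorProduct.lid R (I.H a i)).injective (hb.1 h)
  · intro y
    obtain ⟨h, hh⟩ := hb.2 y
    refine ⟨(TensorProduct.lid R (I.H a i)).symm h, ?_⟩
    rw [hfac, LinearEquiv.apply_symm_apply, hh]

end base

/-! ### products -/
section prod

variable {X : Type u} [AddCommGroup X] [Module R X] {𝒳 : ι → AddSubgroup X} [Decomposition 𝒳]
  [SetLike.GradedSMul 𝒜 𝒳]
variable {Y : Type u} [AddCommGroup Y] [Module R Y] {𝒴 : ι → AddSubgroup Y} [Decomposition 𝒴]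
  [SetLike.GradedSMul 𝒜 𝒴]

omit [Decomposition 𝒳] [SetLike.GradedSMul 𝒜 𝒳] [Decomposition 𝒴] [SetLike.GradedSMul 𝒜 𝒴]
  [GradedRing 𝒜] in
theorem inl_gr : IsGrHom 𝒳 (prodGr 𝒳 𝒴) (LinearMap.inl R X Y) := fun _ _ hx => ⟨hx, zero_mem _⟩

omit [Decomposition 𝒳] [SetLike.GradedSMul 𝒜 𝒳] [Decomposition 𝒴] [SetLike.GradedSMul 𝒜 𝒴]
  [GradedRing 𝒜] in
theorem inr_gr : IsGrHom 𝒴 (prodGr 𝒳 𝒴) (LinearMap.inr R X Y) := fun _ _ hy => ⟨zero_mem _, hy⟩

omit [Decomposition 𝒳] [SetLike.GradedSMul 𝒜 𝒳] [Decomposition 𝒴] [SetLike.GradedSMul 𝒜 𝒴]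
  [GradedRing 𝒜] in
theorem fst_gr : IsGrHom (prodGr 𝒳 𝒴) 𝒳 (LinearMap.fst R X Y) := fun _ _ hz => hz.1

omit [Decomposition 𝒳] [SetLike.GradedSMul 𝒜 𝒳] [Decomposition 𝒴] [SetLike.GradedSMul 𝒜 𝒴]
  [GradedRing 𝒜] in
theorem snd_gr : IsGrHom (prodGr 𝒳 𝒴) 𝒴 (LinearMap.snd R X Y) := fun _ _ hz => hz.2

omit [DecidableEq ι] [AddCommGroup ι] in
theorem sum_id : LinearMap.inl R X Y ∘ₗ LinearMap.fst R X Y +
    LinearMap.inr R X Y ∘ₗ LinearMap.snd R X Y = LinearMap.id := by
  apply LinearMap.ext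
  intro z
  exact Prod.ext (by simp) (by simp)

theorem prod_dec (EX : StarInjRes 𝒜 𝒳) (EY : StarInjRes 𝒜 𝒴) (E : StarInjRes 𝒜 (prodGr 𝒳 𝒴))
    (y : E.H a i) :
    y = Tmap EX E (LinearMap.inl R X Y) inl_gr a i
          (Tmap E EX (LinearMap.fst R X Y) fst_gr a i y) +
        Tmap EY E (LinearMap.inr R X Y) inr_gr a i
          (Tmap E EY (LinearMap.snd R X Y) snd_gr a i y) := by
  have hid : IsGrHom (prodGr 𝒳 𝒴) (prodGr 𝒳 𝒴) (LinearMap.id : X × Y →ₗ[R] X × Y) :=
    fun _ _ h => h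
  have h1g : IsGrHom (prodGr 𝒳 𝒴) (prodGr 𝒳 𝒴)
      (LinearMap.inl R X Y ∘ₗ LinearMap.fst R X Y) := isGrHom_comp _ _ _ inl_gr fst_gr
  have h2g : IsGrHom (prodGr 𝒳 𝒴) (prodGr 𝒳 𝒴)
      (LinearMap.inr R X Y ∘ₗ LinearMap.snd R X Y) := isGrHom_comp _ _ _ inr_gr snd_gr
  have hsg : IsGrHom (prodGr 𝒳 𝒴) (prodGr 𝒳 𝒴)
      (LinearMap.inl R X Y ∘ₗ LinearMap.fst R X Y +
        LinearMap.inr R X Y ∘ₗ LinearMap.snd R X Y) := isGrHom_add _ _ h1g h2g
  have e1 := Tmap_id E a i hid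
  have e2 := Tmap_congr E E sum_id hsg hid a i
  have e3 := Tmap_add E E _ _ h1g h2g a i hsg
  have e4 := Tmap_comp E EX E _ fst_gr _ inl_gr a i h1g
  have e5 := Tmap_comp E EY E _ snd_gr _ inr_gr a i h2g
  calc y = Tmap E E LinearMap.id hid a i y := by rw [e1, LinearMap.id_apply]
    _ = Tmap E E _ hsg a i y := by rw [e2]
    _ = _ := by
      rw [e3, e4, e5, LinearMap.add_apply, LinearMap.comp_apply, LinearMap.comp_apply]

omit [DecidableEq ι] [AddCommGroup ι] in
theorem rTensor_dec (A : Type u) [AddCommGroup A] [Module R A] (ξ : (X × Y) ⊗[R] A) :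
    ξ = LinearMap.rTensor A (LinearMap.inl R X Y)
          (LinearMap.rTensor A (LinearMap.fst R X Y) ξ) +
        LinearMap.rTensor A (LinearMap.inr R X Y)
          (LinearMap.rTensor A (LinearMap.snd R X Y) ξ) := by
  rw [← LinearMap.comp_apply, ← LinearMap.comp_apply, ← LinearMap.rTensor_comp,
    ← LinearMap.rTensor_comp, ← LinearMap.add_apply, ← LinearMap.rTensor_add, sum_id,
    LinearMap.rTensor_id, LinearMap.id_apply]

theorem prod_surj (EX : StarInjRes 𝒜 𝒳) (EY : StarInjRes 𝒜 𝒴) (E : StarInjRes 𝒜 (prodGr 𝒳 𝒴))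
    (hX : Function.Surjective (tauT I EX a i)) (hY : Function.Surjective (tauT I EY a i)) :
    Function.Surjective (tauT I E a i) := by
  intro y
  obtain ⟨ξ₁, h₁⟩ := hX (Tmap E EX (LinearMap.fst R X Y) fst_gr a i y)
  obtain ⟨ξ₂, h₂⟩ := hY (Tmap E EY (LinearMap.snd R X Y) snd_gr a i y)
  refine ⟨LinearMap.rTensor _ (LinearMap.inl R X Y) ξ₁ +
    LinearMap.rTensor _ (LinearMap.inr R X Y) ξ₂, ?_⟩
  rw [map_add, ← Tmap_tauT I EX a i E (LinearMap.inl R X Y) inl_gr ξ₁,
    ← Tmap_tauT I EY a i E (LinearMap.inr R X Y) inr_gr ξ₂, h₁, h₂]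
  exact (prod_dec a i EX EY E y).symm

theorem prod_bij (EX : StarInjRes 𝒜 𝒳) (EY : StarInjRes 𝒜 𝒴) (E : StarInjRes 𝒜 (prodGr 𝒳 𝒴))
    (hX : Function.Bijective (tauT I EX a i)) (hY : Function.Bijective (tauT I EY a i)) :
    Function.Bijective (tauT I E a i) := by
  refine ⟨?_, prod_surj I a i EX EY E hX.2 hY.2⟩
  rw [injective_iff_map_eq_zero]
  intro ξ hξ
  have h1 : LinearMap.rTensor (I.H a i) (LinearMap.fst R X Y) ξ = 0 := by
    apply hX.1
    rw [← Tmap_tauT I E a i EX (LinearMap.fst R X Y) fst_gr ξ, hξ, map_zero, map_zero]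
  have h2 : LinearMap.rTensor (I.H a i) (LinearMap.snd R X Y) ξ = 0 := by
    apply hY.1
    rw [← Tmap_tauT I E a i EY (LinearMap.snd R X Y) snd_gr ξ, hξ, map_zero, map_zero]
  rw [rTensor_dec (I.H a i) ξ, h1, h2, map_zero, map_zero, add_zero]

end prod

/-! ### right exactness and presentations -/
section pres

variable (hvan : ∀ (N : Type u) [AddCommGroup N] [Module R N] (𝒩 : ι → AddSubgroup N)
  [Decomposition 𝒩] [SetLike.GradedSMul 𝒜 𝒩] (EN : StarInjRes 𝒜 𝒩), Subsingleton (EN.H a (i + 1)))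

variable {M' : Type u} [AddCommGroup M'] [Module R M'] {ℳ' : ι → AddSubgroup M'}
  [Decomposition ℳ'] [SetLike.GradedSMul 𝒜 ℳ']
variable {M : Type u} [AddCommGroup M] [Module R M] {ℳ : ι → AddSubgroup M} [Decomposition ℳ]
  [SetLike.GradedSMul 𝒜 ℳ]
variable {M'' : Type u} [AddCommGroup M''] [Module R M''] {ℳ'' : ι → AddSubgroup M''}
  [Decomposition ℳ''] [SetLike.GradedSMul 𝒜 ℳ'']

include hvan in
theorem ses_right_exact (S : SES R ℳ' ℳ ℳ'') (E' : StarInjRes 𝒜 ℳ') (E : StarInjRes 𝒜 ℳ)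
    (E'' : StarInjRes 𝒜 ℳ'') :
    Function.Surjective (Tmap E E'' S.p S.hp a i) ∧
      LinearMap.ker (Tmap E E'' S.p S.hp a i) = LinearMap.range (Tmap E' E S.u S.hu a i) := by
  obtain ⟨φ, hφ⟩ := exists_lift E' E S.u S.hu
  obtain ⟨ψ, hψ⟩ := exists_lift E E'' S.p S.hp
  rw [Tmap_eq E' E S.u S.hu a i φ hφ, Tmap_eq E E'' S.p S.hp a i ψ hψ]
  obtain ⟨hmid, δ, -, hright, -⟩ := (les S E' E E'' φ hφ ψ hψ a).2 i
  haveI := hvan M' ℳ' E'
  refine ⟨?_, hmid⟩
  rw [← LinearMap.range_eq_top, ← hright, eq_top_iff]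
  intro y _
  rw [LinearMap.mem_ker]
  exact Subsingleton.elim _ _

include hvan in
theorem pres_surj (S : SES R ℳ' ℳ ℳ'') (E' : StarInjRes 𝒜 ℳ') (E : StarInjRes 𝒜 ℳ)
    (E'' : StarInjRes 𝒜 ℳ'') (hF : Function.Surjective (tauT I E a i)) :
    Function.Surjective (tauT I E'' a i) := by
  intro y
  obtain ⟨z, rfl⟩ := (ses_right_exact a i hvan S E' E E'').1 y
  obtain ⟨ξ, rfl⟩ := hF z
  exact ⟨LinearMap.rTensor _ S.p ξ, (Tmap_tauT I E a i E'' S.p S.hp ξ).symm⟩

include hvan in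
theorem pres_bij (S : SES R ℳ' ℳ ℳ'') (E' : StarInjRes 𝒜 ℳ') (E : StarInjRes 𝒜 ℳ)
    (E'' : StarInjRes 𝒜 ℳ'') (hF : Function.Bijective (tauT I E a i))
    (hN : Function.Surjective (tauT I E' a i)) : Function.Bijective (tauT I E'' a i) := by
  refine ⟨?_, pres_surj I a i hvan S E' E E'' hF.2⟩
  rw [injective_iff_map_eq_zero]
  intro ξ hξ
  obtain ⟨ζ, rfl⟩ := LinearMap.rTensor_surjective (I.H a i) S.surj ξ
  rw [← Tmap_tauT I E a i E'' S.p S.hp ζ] at hξ
  have hk : tauT I E a i ζ ∈ LinearMap.ker (Tmap E E'' S.p S.hp a i) := hξ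
  rw [(ses_right_exact a i hvan S E' E E'').2] at hk
  obtain ⟨y, hy⟩ := hk
  obtain ⟨η, rfl⟩ := hN y
  rw [Tmap_tauT I E' a i E S.u S.hu η] at hy
  have hζ := hF.1 hy
  have hpu : S.p ∘ₗ S.u = 0 := LinearMap.ext (fun m => S.p_u m)
  rw [← hζ, ← LinearMap.comp_apply, ← LinearMap.rTensor_comp, hpu, LinearMap.rTensor_zero,
    LinearMap.zero_apply]

variable {F : Type u} [AddCommGroup F] [Module R F] {𝓕 : ι → AddSubgroup F} [Decomposition 𝓕]
  [SetLike.GradedSMul 𝒜 𝓕]

include hvan in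
theorem pres_of_surj (π : F →ₗ[R] M) (hπg : IsGrHom 𝓕 ℳ π) (hπ : Function.Surjective π)
    (EF : StarInjRes 𝒜 𝓕) (EM : StarInjRes 𝒜 ℳ) :
    (Function.Surjective (tauT I EF a i) → Function.Surjective (tauT I EM a i)) ∧
    (Function.Bijective (tauT I EF a i) → IsNoetherian R F →
      (∀ (N : Type u) [AddCommGroup N] [Module R N] (𝒩 : ι → AddSubgroup N) [Decomposition 𝒩]
        [SetLike.GradedSMul 𝒜 𝒩] [Module.Finite R N] (EN : StarInjRes 𝒜 𝒩),
        Function.Surjective (tauT I EN a i)) → Function.Bijective (tauT I EM a i)) := by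
  have hN : (LinearMap.ker π).IsHomogeneous 𝓕 := ker_isHomogeneous 𝓕 ℳ hπg
  letI := subDecomp 𝓕 (LinearMap.ker π) hN
  letI := sub_gsmul 𝒜 𝓕 (LinearMap.ker π)
  obtain ⟨EN⟩ := main13215 𝒜 (subGr 𝓕 (LinearMap.ker π))
  have S : SES R (subGr 𝓕 (LinearMap.ker π)) 𝓕 ℳ :=
    { u := (LinearMap.ker π).subtype, p := π, hu := subtype_isGrHom 𝓕 _, hp := hπg,
      inj := Submodule.injective_subtype _, surj := hπ,
      exact := (Submodule.range_subtype _).symm }
  refine ⟨fun hF => pres_surj I a i hvan S EN EF EM hF, fun hF hnoeth hSall => ?_⟩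
  haveI : IsNoetherian R F := hnoeth
  exact pres_bij I a i hvan S EN EF EM hF (hSall _ (subGr 𝓕 (LinearMap.ker π)) EN)

/-! ### one more generator -/

include hvan in
theorem step {j : ι} {x₀ : M} (hx₀ : x₀ ∈ ℳ j) (v : M' →ₗ[R] M) (hv : IsGrHom ℳ' ℳ v)
    (hgen : ∀ y : M, ∃ (r : R) (m' : M'), y = r • x₀ + v m') (E : StarInjRes 𝒜 ℳ) :
    ((∀ E' : StarInjRes 𝒜 ℳ', Function.Surjective (tauT I E' a i)) →
      Function.Surjective (tauT I E a i)) ∧
    ((∀ E' : StarInjRes 𝒜 ℳ', Function.Bijective (tauT I E' a i)) → IsNoetherian R (R × M') →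
      (∀ (N : Type u) [AddCommGroup N] [Module R N] (𝒩 : ι → AddSubgroup N) [Decomposition 𝒩]
        [SetLike.GradedSMul 𝒜 𝒩] [Module.Finite R N] (EN : StarInjRes 𝒜 𝒩),
        Function.Surjective (tauT I EN a i)) → Function.Bijective (tauT I E a i)) := by
  obtain ⟨π, hπdef⟩ : ∃ π : R × M' →ₗ[R] M, ∀ z : R × M', π z = z.1 • x₀ + v z.2 :=
    ⟨(LinearMap.toSpanSingleton R M x₀).coprod v, fun z => by
      rw [LinearMap.coprod_apply, LinearMap.toSpanSingleton_apply]⟩
  have hπg : IsGrHom (prodGr (shiftGr 𝒜 (-j)) ℳ') ℳ π := by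
    intro k z hz
    rw [hπdef]
    have h1 := mu_gr (𝒜 := 𝒜) hx₀ k z.1 hz.1
    rw [LinearMap.toSpanSingleton_apply] at h1
    exact add_mem h1 (hv k z.2 hz.2)
  have hπ : Function.Surjective π := by
    intro y
    obtain ⟨r, m', rfl⟩ := hgen y
    exact ⟨(r, m'), hπdef _⟩
  obtain ⟨E'⟩ := main13215 𝒜 ℳ'
  obtain ⟨EF⟩ := main13215 𝒜 (prodGr (shiftGr 𝒜 (-j)) ℳ')
  have hp := pres_of_surj I a i hvan π hπg hπ EF E
  refine ⟨fun hS => hp.1 (prod_surj I a i (shiftRes 𝒜 I (-j)) E' EF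
      (base_bij I a i j _).2 (hS E')), fun hB hnoeth hSall => ?_⟩
  exact hp.2 (prod_bij I a i (shiftRes 𝒜 I (-j)) E' EF (base_bij I a i j _) (hB E')) hnoeth hSall

end pres

/-! ### induction on a homogeneous generating set -/
section span

variable {M : Type u} [AddCommGroup M] [Module R M] (ℳ : ι → AddSubgroup M) [Decomposition ℳ]
  [SetLike.GradedSMul 𝒜 ℳ]

include 𝒜 in
theorem span_isHomogeneous (S : Set M) (hS : ∀ x ∈ S, ∃ j, x ∈ ℳ j) :
    (Submodule.span R S).IsHomogeneous ℳ := by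
  intro k y hy
  induction hy using Submodule.span_induction generalizing k with
  | mem x hx =>
    obtain ⟨j, hj⟩ := hS x hx
    by_cases hjk : j = k
    · subst hjk
      rw [decompose_of_mem_same ℳ hj]
      exact Submodule.subset_span hx
    · rw [decompose_of_mem_ne ℳ hj hjk]
      exact Submodule.zero_mem _
  | zero =>
    rw [decompose_zero, DirectSum.zero_apply, ZeroMemClass.coe_zero]
    exact Submodule.zero_mem _
  | add x y _ _ hx hy =>
    rw [decompose_add, DirectSum.add_apply, AddSubgroup.coe_add]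
    exact Submodule.add_mem _ (hx k) (hy k)
  | smul r x _ hx =>
    induction r using DirectSum.Decomposition.inductionOn 𝒜 generalizing k with
    | zero =>
      rw [zero_smul, decompose_zero, DirectSum.zero_apply, ZeroMemClass.coe_zero]
      exact Submodule.zero_mem _
    | @homogeneous t r =>
      have hk : k = t + (k - t) := by abel
      rw [hk, decompose_smul_homog 𝒜 ℳ r.2 x (k - t)]
      exact Submodule.smul_mem _ _ (hx (k - t))
    | add r s hr hs =>
      rw [add_smul, decompose_add, DirectSum.add_apply, AddSubgroup.coe_add]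
      exact Submodule.add_mem _ (hr k) (hs k)

/-- the decomposition of a homogeneous submodule, from a `Fact` -/
noncomputable def subDecompF (P : Submodule R M) [h : Fact (P.IsHomogeneous ℳ)] :
    Decomposition (subGr ℳ P) := subDecomp ℳ P h.out

attribute [local instance] subDecompF sub_gsmul

variable (hvan : ∀ (N : Type u) [AddCommGroup N] [Module R N] (𝒩 : ι → AddSubgroup N)
  [Decomposition 𝒩] [SetLike.GradedSMul 𝒜 𝒩] (EN : StarInjRes 𝒜 𝒩), Subsingleton (EN.H a (i + 1)))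

include hvan in
theorem span_step (x₀ : M) (G' : Finset M) [DecidableEq M] (hx₀ : ∃ j, x₀ ∈ ℳ j)
    [Fact ((Submodule.span R ((insert x₀ G' : Finset M) : Set M)).IsHomogeneous ℳ)]
    [Fact ((Submodule.span R (G' : Set M)).IsHomogeneous ℳ)]
    (E : StarInjRes 𝒜 (subGr ℳ (Submodule.span R ((insert x₀ G' : Finset M) : Set M)))) :
    ((∀ E' : StarInjRes 𝒜 (subGr ℳ (Submodule.span R (G' : Set M))),
        Function.Surjective (tauT I E' a i)) → Function.Surjective (tauT I E a i)) ∧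
    ((∀ E' : StarInjRes 𝒜 (subGr ℳ (Submodule.span R (G' : Set M))),
        Function.Bijective (tauT I E' a i)) →
      IsNoetherian R (R × ↥(Submodule.span R (G' : Set M))) →
      (∀ (N : Type u) [AddCommGroup N] [Module R N] (𝒩 : ι → AddSubgroup N) [Decomposition 𝒩]
        [SetLike.GradedSMul 𝒜 𝒩] [Module.Finite R N] (EN : StarInjRes 𝒜 𝒩),
        Function.Surjective (tauT I EN a i)) → Function.Bijective (tauT I E a i)) := by
  obtain ⟨j, hj⟩ := hx₀
  have hle : Submodule.span R (G' : Set M) ≤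
      Submodule.span R ((insert x₀ G' : Finset M) : Set M) :=
    Submodule.span_mono (by rw [Finset.coe_insert]; exact Set.subset_insert _ _)
  have hx₀mem : x₀ ∈ Submodule.span R ((insert x₀ G' : Finset M) : Set M) :=
    Submodule.subset_span (by rw [Finset.coe_insert]; exact Set.mem_insert _ _)
  have hx₀' : (⟨x₀, hx₀mem⟩ : ↥(Submodule.span R ((insert x₀ G' : Finset M) : Set M))) ∈
      subGr ℳ (Submodule.span R ((insert x₀ G' : Finset M) : Set M)) j := hj
  have hv : IsGrHom (subGr ℳ (Submodule.span R (G' : Set M)))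
      (subGr ℳ (Submodule.span R ((insert x₀ G' : Finset M) : Set M)))
      (Submodule.inclusion hle) := fun k m hm => hm
  have hgen : ∀ y : ↥(Submodule.span R ((insert x₀ G' : Finset M) : Set M)),
      ∃ (r : R) (m' : ↥(Submodule.span R (G' : Set M))),
        y = r • (⟨x₀, hx₀mem⟩ : ↥(Submodule.span R ((insert x₀ G' : Finset M) : Set M))) +
          Submodule.inclusion hle m' := by
    rintro ⟨y, hy⟩
    have hy' := hy
    rw [Finset.coe_insert, Submodule.mem_span_insert] at hy'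
    obtain ⟨r, z, hz, hyz⟩ := hy'
    refine ⟨r, ⟨z, hz⟩, Subtype.ext ?_⟩
    rw [Submodule.coe_add, Submodule.coe_smul, Submodule.coe_inclusion]
    exact hyz
  exact step I a i hvan hx₀' (Submodule.inclusion hle) hv hgen E

variable [IsNoetherianRing R] [Module.Finite R M]

include hvan in
theorem surj_span (G : Finset M) (hG : ∀ x ∈ G, ∃ j, x ∈ ℳ j) :
    ∀ [Fact ((Submodule.span R (G : Set M)).IsHomogeneous ℳ)]
      (E : StarInjRes 𝒜 (subGr ℳ (Submodule.span R (G : Set M)))),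
      Function.Surjective (tauT I E a i) := by
  classical
  induction G using Finset.induction_on with
  | empty =>
    intro _ E
    haveI : Subsingleton ↥(Submodule.span R ((∅ : Finset M) : Set M)) := by
      refine ⟨?_⟩
      rintro ⟨x, hx⟩ ⟨y, hy⟩
      apply Subtype.ext
      have hx' := hx
      have hy' := hy
      rw [Finset.coe_empty, Submodule.span_empty, Submodule.mem_bot] at hx' hy'
      show x = y
      rw [hx', hy']
    exact (bij_of_subsingleton I a i E).2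
  | insert x₀ G' _ ih =>
    intro hF E
    have hG' : ∀ x ∈ G', ∃ j, x ∈ ℳ j := fun x hx => hG x (Finset.mem_insert_of_mem hx)
    haveI : Fact ((Submodule.span R (G' : Set M)).IsHomogeneous ℳ) :=
      ⟨span_isHomogeneous (𝒜 := 𝒜) ℳ _ hG'⟩
    exact (span_step I a i ℳ hvan x₀ G' (hG x₀ (Finset.mem_insert_self _ _)) E).1
      (fun E' => ih hG' E')

include hvan in
theorem surj_all (E : StarInjRes 𝒜 ℳ) : Function.Surjective (tauT I E a i) := by
  classical
  obtain ⟨G, hGspan, hGh⟩ := Groth.Agent.Lib.CanShiftH1.exists_homog_generators (R := R) ℳ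
  haveI : Fact ((Submodule.span R (G : Set M)).IsHomogeneous ℳ) :=
    ⟨span_isHomogeneous (𝒜 := 𝒜) ℳ _ hGh⟩
  obtain ⟨EP⟩ := main13215 𝒜 (subGr ℳ (Submodule.span R (G : Set M)))
  have hP := surj_span I a i ℳ hvan G hGh EP
  have hsurj : Function.Surjective (Submodule.span R (G : Set M)).subtype := by
    intro y
    exact ⟨⟨y, by rw [hGspan]; trivial⟩, rfl⟩
  exact (pres_of_surj I a i hvan (Submodule.span R (G : Set M)).subtype
    (subtype_isGrHom ℳ _) hsurj EP E).1 hP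

end span

/-! ### bijectivity -/
section bij

variable [IsNoetherianRing R]
variable {M : Type u} [AddCommGroup M] [Module R M] (ℳ : ι → AddSubgroup M) [Decomposition ℳ]
  [SetLike.GradedSMul 𝒜 ℳ] [Module.Finite R M]

attribute [local instance] subDecompF sub_gsmul

variable (hvan : ∀ (N : Type u) [AddCommGroup N] [Module R N] (𝒩 : ι → AddSubgroup N)
  [Decomposition 𝒩] [SetLike.GradedSMul 𝒜 𝒩] (EN : StarInjRes 𝒜 𝒩), Subsingleton (EN.H a (i + 1)))

include hvan in
theorem bij_span (G : Finset M) (hG : ∀ x ∈ G, ∃ j, x ∈ ℳ j) :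
    ∀ [Fact ((Submodule.span R (G : Set M)).IsHomogeneous ℳ)]
      (E : StarInjRes 𝒜 (subGr ℳ (Submodule.span R (G : Set M)))),
      Function.Bijective (tauT I E a i) := by
  classical
  haveI : IsNoetherian R M := isNoetherian_of_isNoetherianRing_of_finite R M
  induction G using Finset.induction_on with
  | empty =>
    intro _ E
    haveI : Subsingleton ↥(Submodule.span R ((∅ : Finset M) : Set M)) := by
      refine ⟨?_⟩
      rintro ⟨x, hx⟩ ⟨y, hy⟩
      apply Subtype.ext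
      have hx' := hx
      have hy' := hy
      rw [Finset.coe_empty, Submodule.span_empty, Submodule.mem_bot] at hx' hy'
      show x = y
      rw [hx', hy']
    exact bij_of_subsingleton I a i E
  | insert x₀ G' _ ih =>
    intro hF E
    have hG' : ∀ x ∈ G', ∃ j, x ∈ ℳ j := fun x hx => hG x (Finset.mem_insert_of_mem hx)
    haveI : Fact ((Submodule.span R (G' : Set M)).IsHomogeneous ℳ) :=
      ⟨span_isHomogeneous (𝒜 := 𝒜) ℳ _ hG'⟩
    exact (span_step I a i ℳ hvan x₀ G' (hG x₀ (Finset.mem_insert_self _ _)) E).2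
      (fun E' => ih hG' E') inferInstance
      (fun N _ _ 𝒩 _ _ _ EN => surj_all I a i 𝒩 hvan EN)

include hvan in
theorem bij_all (E : StarInjRes 𝒜 ℳ) : Function.Bijective (tauT I E a i) := by
  classical
  haveI : IsNoetherian R M := isNoetherian_of_isNoetherianRing_of_finite R M
  obtain ⟨G, hGspan, hGh⟩ := Groth.Agent.Lib.CanShiftH1.exists_homog_generators (R := R) ℳ
  haveI : Fact ((Submodule.span R (G : Set M)).IsHomogeneous ℳ) :=
    ⟨span_isHomogeneous (𝒜 := 𝒜) ℳ _ hGh⟩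
  obtain ⟨EP⟩ := main13215 𝒜 (subGr ℳ (Submodule.span R (G : Set M)))
  have hP := bij_span I a i ℳ hvan G hGh EP
  have hsurj : Function.Surjective (Submodule.span R (G : Set M)).subtype := by
    intro y
    exact ⟨⟨y, by rw [hGspan]; trivial⟩, rfl⟩
  exact (pres_of_surj I a i hvan (Submodule.span R (G : Set M)).subtype
    (subtype_isGrHom ℳ _) hsurj EP E).2 hP inferInstance
    (fun N _ _ 𝒩 _ _ _ EN => surj_all I a i 𝒩 hvan EN)

end bij

end Groth.Agent.Lib.GrTens2H1
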