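import Mathlib
import Groth.Prelude.Def_GrLC
import Groth.Prelude.Def_GrSeg
import Groth.Agent.Lib.GrTens2_helper1
import Groth.Agent.Lib.GrDual3_helper1
import Groth.Agent.Lib.GrXfer_helper1
import Groth.Agent.Lib.GrStarLC_helper1
import Groth.Agent.Lib.LocCohGV_helper7

/-! The graded dual of the top graded local cohomology of a finitely generated graded module is
`Hom_R(M, K_R)` (helper1).  Part 5: abstract duality — from a bijective graded pairing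
`M ⊗ A → B`, the graded dual of `B` is `Hom_R(M, A^*)`.  Part 6: the statement S19759. -/

set_option autoImplicit false

namespace Groth.Agent.Lib.GrTens3H1

open DirectSum GrLC TensorProduct

universe u

/-! ### Part 5 -/
section dual

variable {k : Type u} [Field k] {R : Type u} [CommRing R] [Algebra k R]
  (𝒜 : ℤ → AddSubgroup R) [GradedRing 𝒜]
variable {M : Type u} [AddCommGroup M] [Module R M] (ℳ : ℤ → AddSubgroup M) [Decomposition ℳ]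
  [SetLike.GradedSMul 𝒜 ℳ]
variable {A : Type u} [AddCommGroup A] [Module R A] [Module k A] [IsScalarTower k R A]
  (𝓐 : ℤ → AddSubgroup A) [Decomposition 𝓐]
variable {B : Type u} [AddCommGroup B] [Module R B] [Module k B] [IsScalarTower k R B]
  (𝓑 : ℤ → AddSubgroup B) [Decomposition 𝓑]
variable {K : Type u} [AddCommGroup K] [Module R K] [Module k K] [IsScalarTower k R K]
  (𝒦 : ℤ → AddSubgroup K) [Decomposition 𝒦] [SetLike.GradedSMul 𝒜 𝒦]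
variable {D : Type u} [AddCommGroup D] [Module R D] [Module k D] [IsScalarTower k R D]
  (𝒟 : ℤ → AddSubgroup D) [Decomposition 𝒟]
variable (βK : K →ₗ[k] A →ₗ[k] k) (hK : GrSeg.IsGDual R 𝓐 𝒦 βK)
variable (βD : D →ₗ[k] B →ₗ[k] k) (hD : GrSeg.IsGDual R 𝓑 𝒟 βD)
variable (τ : M →ₗ[R] A →ₗ[R] B)
  (hτdeg : ∀ j x, x ∈ ℳ j → ∀ b h, h ∈ 𝓐 b → τ x h ∈ 𝓑 (b + j))

include hK in
omit [SetLike.GradedSMul 𝒜 𝒦] [GradedRing 𝒜] in
theorem uniq {κ κ' : K} (h : ∀ x, βK κ x = βK κ' x) : κ = κ' := by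
  have h0 : κ - κ' = 0 := Groth.Agent.Lib.GrDual3H1.eq_zero_of_pair_zero 𝓐 𝒦 βK hK
    (fun x => by rw [map_sub, LinearMap.sub_apply, h x, sub_self])
  exact sub_eq_zero.1 h0

include hK in
omit [SetLike.GradedSMul 𝒜 𝒦] [GradedRing 𝒜] in
theorem exists_rep_homog (n : ℤ) (g : A →ₗ[k] k) (hg : ∀ m, m ≠ -n → ∀ h ∈ 𝓐 m, g h = 0) :
    ∃ κ ∈ 𝒦 n, ∀ h, βK κ h = g h := by
  obtain ⟨κ, hκ, hκg⟩ := hK.exists_eq n g
  refine ⟨κ, hκ, fun h => ?_⟩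
  induction h using DirectSum.Decomposition.inductionOn 𝓐 with
  | zero => rw [map_zero, map_zero]
  | @homogeneous m h =>
    by_cases hm : m = -n
    · subst hm
      exact hκg h.1 h.2
    · rw [hK.vanish n κ hκ m hm h.1 h.2, hg m hm h.1 h.2]
  | add x y hx hy => rw [map_add, map_add, hx, hy]

include hK hD hτdeg in
omit [SetLike.GradedSMul 𝒜 𝒦] [GradedRing 𝒜] [Decomposition ℳ] [SetLike.GradedSMul 𝒜 ℳ] in
theorem exists_eps_homog {a j : ℤ} {d : D} (hd : d ∈ 𝒟 a) {x : M} (hx : x ∈ ℳ j) :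
    ∃ κ ∈ 𝒦 (j + a), ∀ h, βK κ h = βD d (τ x h) := by
  obtain ⟨g, hg⟩ : ∃ g : A →ₗ[k] k, ∀ h, g h = βD d (τ x h) :=
    ⟨(βD d).comp ((τ x).restrictScalars k), fun h => rfl⟩
  have hgv : ∀ m, m ≠ -(j + a) → ∀ h ∈ 𝓐 m, g h = 0 := by
    intro m hm h hh
    rw [hg]
    refine hD.vanish a d hd (m + j) ?_ _ (hτdeg j x hx m h hh)
    intro h'
    apply hm
    omega
  obtain ⟨κ, hκ, hκg⟩ := exists_rep_homog 𝓐 𝒦 βK hK (j + a) g hgv
  exact ⟨κ, hκ, fun h => (hκg h).trans (hg h)⟩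

include hK hD hτdeg in
omit [SetLike.GradedSMul 𝒜 𝒦] [GradedRing 𝒜] [SetLike.GradedSMul 𝒜 ℳ] in
theorem exists_eps (d : D) (x : M) : ∃ κ : K, ∀ h, βK κ h = βD d (τ x h) := by
  induction d using DirectSum.Decomposition.inductionOn 𝒟 with
  | zero => exact ⟨0, fun h => by simp only [map_zero, LinearMap.zero_apply]⟩
  | @homogeneous a d =>
    induction x using DirectSum.Decomposition.inductionOn ℳ with
    | zero => exact ⟨0, fun h => by simp only [map_zero, LinearMap.zero_apply]⟩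
    | @homogeneous j x =>
      obtain ⟨κ, -, hκ⟩ := exists_eps_homog ℳ 𝓐 𝓑 𝒦 𝒟 βK hK βD hD τ hτdeg d.2 x.2
      exact ⟨κ, hκ⟩
    | add x y hx hy =>
      obtain ⟨κ₁, h₁⟩ := hx
      obtain ⟨κ₂, h₂⟩ := hy
      exact ⟨κ₁ + κ₂, fun h => by
        rw [map_add, LinearMap.add_apply, h₁, h₂, map_add, LinearMap.add_apply, map_add]⟩
  | add d e hd he =>
    obtain ⟨κ₁, h₁⟩ := hd
    obtain ⟨κ₂, h₂⟩ := he
    exact ⟨κ₁ + κ₂, fun h => by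
      rw [map_add, LinearMap.add_apply, h₁, h₂, map_add, LinearMap.add_apply]⟩

/-- the value `ε(d)(x)` -/
noncomputable def epsFun (d : D) (x : M) : K :=
  (exists_eps ℳ 𝓐 𝓑 𝒦 𝒟 βK hK βD hD τ hτdeg d x).choose

omit [SetLike.GradedSMul 𝒜 𝒦] [GradedRing 𝒜] [SetLike.GradedSMul 𝒜 ℳ] in
theorem epsFun_spec (d : D) (x : M) (h : A) :
    βK (epsFun ℳ 𝓐 𝓑 𝒦 𝒟 βK hK βD hD τ hτdeg d x) h = βD d (τ x h) :=
  (exists_eps ℳ 𝓐 𝓑 𝒦 𝒟 βK hK βD hD τ hτdeg d x).choose_spec h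

/-- `ε(d)` as a linear map -/
noncomputable def epsIn (d : D) : M →ₗ[R] K where
  toFun x := epsFun ℳ 𝓐 𝓑 𝒦 𝒟 βK hK βD hD τ hτdeg d x
  map_add' x y := by
    apply uniq 𝓐 𝒦 βK hK
    intro h
    show βK (epsFun ℳ 𝓐 𝓑 𝒦 𝒟 βK hK βD hD τ hτdeg d (x + y)) h =
      βK (epsFun ℳ 𝓐 𝓑 𝒦 𝒟 βK hK βD hD τ hτdeg d x +
        epsFun ℳ 𝓐 𝓑 𝒦 𝒟 βK hK βD hD τ hτdeg d y) h
    rw [epsFun_spec, map_add βK, LinearMap.add_apply, epsFun_spec, epsFun_spec, map_add τ,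
      LinearMap.add_apply, map_add]
  map_smul' r x := by
    apply uniq 𝓐 𝒦 βK hK
    intro h
    show βK (epsFun ℳ 𝓐 𝓑 𝒦 𝒟 βK hK βD hD τ hτdeg d (r • x)) h =
      βK (r • epsFun ℳ 𝓐 𝓑 𝒦 𝒟 βK hK βD hD τ hτdeg d x) h
    rw [epsFun_spec, hK.map_smul, epsFun_spec]
    simp only [map_smul, LinearMap.smul_apply]

/-- `ε` as a linear map -/
noncomputable def epsLin : D →ₗ[R] (M →ₗ[R] K) where
  toFun d := epsIn ℳ 𝓐 𝓑 𝒦 𝒟 βK hK βD hD τ hτdeg d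
  map_add' d e := by
    apply LinearMap.ext
    intro x
    apply uniq 𝓐 𝒦 βK hK
    intro h
    show βK (epsFun ℳ 𝓐 𝓑 𝒦 𝒟 βK hK βD hD τ hτdeg (d + e) x) h =
      βK (epsFun ℳ 𝓐 𝓑 𝒦 𝒟 βK hK βD hD τ hτdeg d x +
        epsFun ℳ 𝓐 𝓑 𝒦 𝒟 βK hK βD hD τ hτdeg e x) h
    rw [epsFun_spec, map_add, LinearMap.add_apply, map_add, LinearMap.add_apply, epsFun_spec,
      epsFun_spec]
  map_smul' r d := by
    apply LinearMap.ext
    intro x
    apply uniq 𝓐 𝒦 βK hK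
    intro h
    show βK (epsFun ℳ 𝓐 𝓑 𝒦 𝒟 βK hK βD hD τ hτdeg (r • d) x) h =
      βK (r • epsFun ℳ 𝓐 𝓑 𝒦 𝒟 βK hK βD hD τ hτdeg d x) h
    rw [epsFun_spec, hD.map_smul, hK.map_smul, epsFun_spec]
    simp only [map_smul]

omit [SetLike.GradedSMul 𝒜 𝒦] [GradedRing 𝒜] [SetLike.GradedSMul 𝒜 ℳ] in
theorem epsLin_apply (d : D) (x : M) :
    epsLin ℳ 𝓐 𝓑 𝒦 𝒟 βK hK βD hD τ hτdeg d x =
      epsFun ℳ 𝓐 𝓑 𝒦 𝒟 βK hK βD hD τ hτdeg d x := rfl

omit [SetLike.GradedSMul 𝒜 𝒦] [GradedRing 𝒜] [SetLike.GradedSMul 𝒜 ℳ] in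
theorem eps_mem {a j : ℤ} {d : D} (hd : d ∈ 𝒟 a) {x : M} (hx : x ∈ ℳ j) :
    epsLin ℳ 𝓐 𝓑 𝒦 𝒟 βK hK βD hD τ hτdeg d x ∈ 𝒦 (j + a) := by
  obtain ⟨κ, hκ, hκs⟩ := exists_eps_homog ℳ 𝓐 𝓑 𝒦 𝒟 βK hK βD hD τ hτdeg hd hx
  have h1 : epsLin ℳ 𝓐 𝓑 𝒦 𝒟 βK hK βD hD τ hτdeg d x = κ := by
    apply uniq 𝓐 𝒦 βK hK
    intro h
    rw [epsLin_apply, epsFun_spec, hκs]
  rw [h1]
  exact hκ

omit [SetLike.GradedSMul 𝒜 𝒦] [GradedRing 𝒜] [SetLike.GradedSMul 𝒜 ℳ] in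
theorem eps_injective (hτs : Function.Surjective (TensorProduct.lift τ)) :
    Function.Injective (epsLin ℳ 𝓐 𝓑 𝒦 𝒟 βK hK βD hD τ hτdeg) := by
  rw [injective_iff_map_eq_zero]
  intro d hd
  apply Groth.Agent.Lib.GrDual3H1.eq_zero_of_pair_zero 𝓑 𝒟 βD hD
  intro y
  obtain ⟨ξ, rfl⟩ := hτs y
  induction ξ using TensorProduct.induction_on with
  | zero => rw [map_zero, map_zero]
  | tmul x h =>
    rw [TensorProduct.lift.tmul, ← epsFun_spec ℳ 𝓐 𝓑 𝒦 𝒟 βK hK βD hD τ hτdeg d x h,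
      ← epsLin_apply, hd, LinearMap.zero_apply, map_zero, LinearMap.zero_apply]
  | add x y hx hy => rw [map_add, map_add, hx, hy, add_zero]

omit [SetLike.GradedSMul 𝒜 𝒦] [GradedRing 𝒜] [SetLike.GradedSMul 𝒜 ℳ] in
theorem eps_range_homog (hτ : Function.Bijective (TensorProduct.lift τ)) {c : ℤ}
    (g : M →ₗ[R] K) (hg : IsGrHomDeg ℳ 𝒦 g c) :
    g ∈ LinearMap.range (epsLin ℳ 𝓐 𝓑 𝒦 𝒟 βK hK βD hD τ hτdeg) := by
  obtain ⟨Θ, hΘ⟩ : ∃ Θ : M ⊗[R] A ≃ₗ[R] B, ∀ ξ, Θ ξ = TensorProduct.lift τ ξ :=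
    ⟨LinearEquiv.ofBijective (TensorProduct.lift τ) hτ, fun ξ => rfl⟩
  obtain ⟨f, hf⟩ : ∃ f : M →+ A →+ k, ∀ x h, f x h = βK (g x) h :=
    ⟨{ toFun := fun x => (βK (g x)).toAddMonoidHom
       map_zero' := by
        apply AddMonoidHom.ext
        intro h
        simp
       map_add' := fun x y => by
        apply AddMonoidHom.ext
        intro h
        simp }, fun x h => rfl⟩
  have hbal : ∀ (r : R) (x : M) (h : A), f (r • x) h = f x (r • h) := by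
    intro r x h
    rw [hf, hf, map_smul, hK.map_smul]
  obtain ⟨lam, hlam⟩ : ∃ lam : M ⊗[R] A →+ k, ∀ x h, lam (x ⊗ₜ[R] h) = βK (g x) h :=
    ⟨TensorProduct.liftAddHom f hbal, fun x h => by
      rw [TensorProduct.liftAddHom_tmul, hf]⟩
  have hlamk : ∀ (c' : k) (ξ : M ⊗[R] A), lam (algebraMap k R c' • ξ) = c' • lam ξ := by
    intro c' ξ
    induction ξ using TensorProduct.induction_on with
    | zero => rw [smul_zero, map_zero, smul_zero]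
    | tmul x h =>
      rw [TensorProduct.smul_tmul', hlam, hlam, map_smul, algebraMap_smul, map_smul,
        LinearMap.smul_apply]
    | add x y hx hy => rw [smul_add, map_add, hx, hy, map_add, smul_add]
  obtain ⟨gB, hgB⟩ : ∃ gB : B →ₗ[k] k, ∀ y, gB y = lam (Θ.symm y) :=
    ⟨{ toFun := fun y => lam (Θ.symm y)
       map_add' := fun y z => by rw [map_add, map_add]
       map_smul' := fun c' y => by
        rw [RingHom.id_apply, ← algebraMap_smul R c' y, map_smul, hlamk] }, fun y => rfl⟩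
  obtain ⟨d, hd, hdg⟩ := hD.exists_eq c gB
  have key : ∀ (x : M) (h : A), βD d (τ x h) = βK (g x) h := by
    intro x h
    induction x using DirectSum.Decomposition.inductionOn ℳ with
    | zero => simp only [map_zero, LinearMap.zero_apply]
    | @homogeneous j x =>
      induction h using DirectSum.Decomposition.inductionOn 𝓐 with
      | zero => simp only [map_zero]
      | @homogeneous b h =>
        by_cases hbj : b + j = -c
        · have hmem : τ x.1 h.1 ∈ 𝓑 (-c) := hbj ▸ hτdeg j x.1 x.2 b h.1 h.2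
          rw [hdg _ hmem, hgB, ← TensorProduct.lift.tmul, ← hΘ, LinearEquiv.symm_apply_apply,
            hlam]
        · rw [hD.vanish c d hd (b + j) hbj _ (hτdeg j x.1 x.2 b h.1 h.2),
            hK.vanish (j + c) (g x.1) (hg j x.1 x.2) b (fun hb => hbj (by omega)) h.1 h.2]
      | add h h' hh hh' => rw [map_add, map_add, hh, hh', map_add]
    | add x y hx hy =>
      rw [map_add, LinearMap.add_apply, map_add, hx, hy, map_add, map_add, LinearMap.add_apply]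
  refine ⟨d, LinearMap.ext (fun x => ?_)⟩
  apply uniq 𝓐 𝒦 βK hK
  intro h
  rw [epsLin_apply, epsFun_spec, key]

include 𝒜 hK hD hτdeg in
theorem dual_main [Module.Finite R M] (hτ : Function.Bijective (TensorProduct.lift τ)) :
    ∃ ε : D ≃ₗ[R] (M →ₗ[R] K), ∀ a d, d ∈ 𝒟 a → IsGrHomDeg ℳ 𝒦 (ε d) a := by
  have hsurj : Function.Surjective (epsLin ℳ 𝓐 𝓑 𝒦 𝒟 βK hK βD hD τ hτdeg) := by
    intro g
    obtain ⟨S, hS⟩ := Groth.Agent.Lib.CanShiftH1.exists_finset_sum_compLin 𝒜 ℳ 𝒦 g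
    have hmem : g ∈ LinearMap.range (epsLin ℳ 𝓐 𝓑 𝒦 𝒟 βK hK βD hD τ hτdeg) := by
      rw [hS]
      exact Submodule.sum_mem _ (fun c _ =>
        eps_range_homog ℳ 𝓐 𝓑 𝒦 𝒟 βK hK βD hD τ hτdeg hτ _
          (Groth.Agent.Lib.CanShiftH1.isGrHomDeg_compLin 𝒜 ℳ 𝒦 g c))
    exact hmem
  refine ⟨LinearEquiv.ofBijective (epsLin ℳ 𝓐 𝓑 𝒦 𝒟 βK hK βD hD τ hτdeg)
    ⟨eps_injective ℳ 𝓐 𝓑 𝒦 𝒟 βK hK βD hD τ hτdeg hτ.2, hsurj⟩, fun a d hd j x hx => ?_⟩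
  exact eps_mem ℳ 𝓐 𝓑 𝒦 𝒟 βK hK βD hD τ hτdeg hd hx

end dual

/-! ### Part 6 -/
section glue

open Groth.Agent.Lib.GrXferH1 Groth.Agent.Lib.GrTens1H1 Groth.Agent.Lib.GrTens2H1

/-- transfer of a *injective resolution of a module -/
noncomputable def resASM {ι : Type} [AddCommGroup ι] [DecidableEq ι] {R : Type u} [CommRing R]
    {σ : Type u} [SetLike σ R] [AddSubgroupClass σ R] (𝒜 : ι → σ) [GradedRing 𝒜]
    {M : Type u} [AddCommGroup M] [Module R M] (ℳ : ι → AddSubgroup M) [Decomposition ℳ]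
    [SetLike.GradedSMul 𝒜 ℳ] (E : StarInjRes 𝒜 ℳ) : StarInjRes (toAS 𝒜) ℳ where
  X n := gmodAS 𝒜 (E.X n)
  d n := E.d n
  ε := E.ε
  d_grHom n := E.d_grHom n
  ε_grHom := E.ε_grHom
  ε_injective := E.ε_injective
  exact_zero := E.exact_zero
  exact_succ := E.exact_succ
  starInj n := starInj_AS 𝒜 (E.X n).gr (E.starInj n)

theorem main19759 (k : Type u) [Field k] (R : Type u) [CommRing R] [Algebra k R]
    (𝒜 : ℤ → Submodule k R) [GradedAlgebra 𝒜] [Algebra.FiniteType k R]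
    (mR : HomogeneousIdeal 𝒜) (n : ℕ) (hn : ringKrullDim R = n) (I : GrLC.StarInjRes 𝒜 𝒜)
    [Module k (I.H mR n)] [IsScalarTower k R (I.H mR n)]
    [DirectSum.Decomposition (I.Hgr mR n)] (K : Type u) [AddCommGroup K] [Module R K]
    [Module k K] [IsScalarTower k R K] (𝒦 : ℤ → AddSubgroup K) [DirectSum.Decomposition 𝒦]
    [SetLike.GradedSMul 𝒜 𝒦] (βK : K →ₗ[k] I.H mR n →ₗ[k] k)
    (hK : GrSeg.IsGDual R (I.Hgr mR n) 𝒦 βK) (M : Type u) [AddCommGroup M] [Module R M]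
    (ℳ : ℤ → AddSubgroup M) [DirectSum.Decomposition ℳ] [SetLike.GradedSMul 𝒜 ℳ]
    [Module.Finite R M] (EM : GrLC.StarInjRes 𝒜 ℳ) [Module k (EM.H mR n)]
    [IsScalarTower k R (EM.H mR n)] [DirectSum.Decomposition (EM.Hgr mR n)] (D : Type u)
    [AddCommGroup D] [Module R D] [Module k D] [IsScalarTower k R D] (𝒟 : ℤ → AddSubgroup D)
    [DirectSum.Decomposition 𝒟] (βD : D →ₗ[k] EM.H mR n →ₗ[k] k)
    (hD : GrSeg.IsGDual R (EM.Hgr mR n) 𝒟 βD) :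
    ∃ ε : D ≃ₗ[R] (M →ₗ[R] K),
      GrLC.IsGrHom 𝒟 (fun d : ℤ => (GrLC.homDeg 𝒜 ℳ 𝒦 d).toAddSubgroup) ε.toLinearMap := by
  haveI : IsNoetherianRing R := Algebra.FiniteType.isNoetherianRing k R
  have hvan : ∀ (N : Type u) [AddCommGroup N] [Module R N] (𝒩 : ℤ → AddSubgroup N)
      [Decomposition 𝒩] [SetLike.GradedSMul (toAS 𝒜) 𝒩] (EN : StarInjRes (toAS 𝒜) 𝒩),
      Subsingleton (EN.H (idealAS 𝒜 mR) (n + 1)) := by
    intro N _ _ 𝒩 _ _ EN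
    obtain ⟨γ⟩ := Groth.Agent.Lib.GrStarLCH1.main13224 R (toAS 𝒜) (idealAS 𝒜 mR) N 𝒩 EN (n + 1)
    haveI : Subsingleton (LocCoh.H (idealAS 𝒜 mR).toIdeal (n + 1) N) := by
      apply Groth.Agent.Lib.LocCohGVH7.GV
      have h1 : (n : WithBot ℕ∞) < ((n + 1 : ℕ) : WithBot ℕ∞) := by
        exact_mod_cast Nat.lt_succ_self n
      refine lt_of_le_of_lt (Module.supportDim_le_ringKrullDim R N) ?_
      rw [hn]
      exact h1
    exact γ.toEquiv.subsingleton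
  have hτ := bij_all (resAS 𝒜 I) (idealAS 𝒜 mR) n ℳ hvan (resASM 𝒜 ℳ EM)
  obtain ⟨ε, hε⟩ := dual_main (toAS 𝒜) ℳ (I.Hgr mR n) (EM.Hgr mR n) 𝒦 𝒟 βK hK βD hD
    (tau (resAS 𝒜 I) (resASM 𝒜 ℳ EM) (idealAS 𝒜 mR) n)
    (fun j x hx b h hh => tau_mem (resAS 𝒜 I) (resASM 𝒜 ℳ EM) (idealAS 𝒜 mR) n hx hh) hτ
  exact ⟨ε, fun a d hd => hε a d hd⟩

end glue

end Groth.Agent.Lib.GrTens3H1
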