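import Mathlib
import Groth.Prelude
import Groth.Agent.Lib.GrTiQC_helper5

/-!
# The canonical morphism `M(n)~ ⟶ Φ_*(N(n)~)` for a bijective `ψ`-semilinear map (helper5).
APPEND-ONLY once landed.
-/

set_option autoImplicit false
universe u
open CategoryTheory CategoryTheory.Limits AlgebraicGeometry TopologicalSpace Opposite DirectSum
open HomogeneousLocalization

namespace Groth.Agent.GrTi

open Groth.Agent.GrTw Groth.Agent.Lib.GrModSectH1

section Comap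
variable {A σ : Type u} [CommRing A] [SetLike σ A] [AddSubgroupClass σ A] {𝒜 : ℕ → σ}
  [GradedRing 𝒜]
  {B σ' : Type u} [CommRing B] [SetLike σ' B] [AddSubgroupClass σ' B] {ℬ : ℕ → σ'} [GradedRing ℬ]
  (ψ : 𝒜 →+*ᵍ ℬ) (hψ : HomogeneousIdeal.irrelevant ℬ ≤ (HomogeneousIdeal.irrelevant 𝒜).map ψ)
  {M τ : Type u} [AddCommGroup M] [Module A M] [SetLike τ M] [AddSubgroupClass τ M] (ℳ : ℕ → τ)
  [SetLike.GradedSMul 𝒜 ℳ] [DirectSum.Decomposition ℳ]
  {N τ' : Type u} [AddCommGroup N] [Module B N] [SetLike τ' N] [AddSubgroupClass τ' N] (𝒩 : ℕ → τ')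
  [SetLike.GradedSMul ℬ 𝒩] [DirectSum.Decomposition 𝒩]
  (v : M →ₛₗ[ψ.toRingHom] N) (hv : ∀ (i : ℕ) (m : M), m ∈ ℳ i → v m ∈ 𝒩 i)

omit [SetLike.GradedSMul 𝒜 ℳ] [SetLike.GradedSMul ℬ 𝒩] in
include hv in
theorem decompose_map (z : M) (j : ℕ) :
    (DirectSum.decompose 𝒩 (v z) j : N) = v (DirectSum.decompose ℳ z j : M) := by
  induction z using DirectSum.Decomposition.inductionOn ℳ with
  | zero => simp
  | @homogeneous l z' =>
    by_cases hl : l = j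
    · subst hl
      rw [DirectSum.decompose_of_mem_same 𝒩 (hv _ _ z'.2), DirectSum.decompose_of_mem_same ℳ z'.2]
    · rw [DirectSum.decompose_of_mem_ne 𝒩 (hv _ _ z'.2) hl,
        DirectSum.decompose_of_mem_ne ℳ z'.2 hl, map_zero]
  | add a b ha hb =>
    simp only [map_add, DirectSum.decompose_add, DirectSum.add_apply, AddMemClass.coe_add, ha, hb]

omit [SetLike.GradedSMul 𝒜 ℳ] [SetLike.GradedSMul ℬ 𝒩] in
include hv in
theorem mem_of_map_mem (hinj : Function.Injective v) (i : ℕ) (m : M) (h : v m ∈ 𝒩 i) :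
    m ∈ ℳ i := by
  have h1 : v (DirectSum.decompose ℳ m i : M) = v m := by
    rw [← decompose_map ψ ℳ 𝒩 v hv, DirectSum.decompose_of_mem_same 𝒩 h]
  rw [← hinj h1]
  exact (DirectSum.decompose ℳ m i).2

/-- **`M(n)~ ⟶ Φ_*(N(n)~)` is an isomorphism when `v : M → N` is bijective.** -/
theorem isIso_comap_of_bijective (hbij : Function.Bijective v) (n : ℤ) :
    IsIso (GrMod.comap ψ hψ v hv n) := by
  let ι := {p : ℕ × A // 0 < p.1 ∧ p.2 ∈ 𝒜 p.1}
  have hB : Opens.IsBasis (Set.range (fun i : ι => Proj.basicOpen 𝒜 i.1.2)) := by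
    rw [Opens.isBasis_iff_nbhd]
    intro U x hx
    obtain ⟨d, f, hd, hf, hxf, hle⟩ := exists_homog_basicOpen 𝒜 U x hx
    exact ⟨_, ⟨⟨(d, f), hd, hf⟩, rfl⟩, hxf, hle⟩
  refine QCohCrit.isIso_of_isIso_app_basis _ (fun i : ι => Proj.basicOpen 𝒜 i.1.2) hB (fun i => ?_)
  rw [ConcreteCategory.isIso_iff_bijective]
  obtain ⟨⟨d, f⟩, hd, hf⟩ := i
  have hψf : ψ f ∈ ℬ d := ψ.map_mem hf
  constructor
  · intro s s' hss'
    rw [← sub_eq_zero]
    have hs : QCohExtn.ap (GrMod.comap ψ hψ v hv n) (Proj.basicOpen 𝒜 f) (s - s') = 0 := by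
      rw [map_sub]
      exact sub_eq_zero.mpr hss'
    generalize s - s' = s at hs
    obtain ⟨k, i, m, hm, hi, hval⟩ := exists_val_eq_mk 𝒜 ℳ n hd hf s
    have hpt : ∀ P : ProjectiveSpectrum ℬ, ψ f ∉ P.asHomogeneousIdeal →
        ∃ u' : B, u' ∉ P.asHomogeneousIdeal ∧ u' • v m = 0 := by
      intro P hP
      have h1 := GrMod.comap_app_val ψ hψ v hv n (Proj.basicOpen 𝒜 f) s ⟨P, hP⟩
      have h2 : GrMod.val (QCohExtn.ap (GrMod.comap ψ hψ v hv n) (Proj.basicOpen 𝒜 f) s)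
          ⟨P, hP⟩ = 0 := by
        rw [hs]; rfl
      have h3 := h1.symm.trans h2
      rw [hval ⟨_, hP⟩, GrMod.locModMap_mk] at h3
      exact (mk_eq_zero_iff ℬ P (v m) _).mp h3
    obtain ⟨K, hK⟩ := pow_smul_eq_zero' ℬ 𝒩 hd hψf i (v m) (hv i m hm) hpt
    have hz : f ^ K • m = 0 := by
      apply hbij.1
      rw [map_zero, LinearMap.map_smulₛₗ]
      show ψ (f ^ K) • v m = 0
      rw [map_pow]
      exact hK
    apply ext_val
    intro y
    rw [hval y]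
    refine Eq.trans ?_ (val_zero 𝒜 ℳ y).symm
    rw [mk_eq_zero_iff]
    exact ⟨f ^ K, pow_nin 𝒜 K y, hz⟩
  · intro t
    obtain ⟨k, i, n', hn', hi, hval⟩ := exists_val_eq_mk ℬ 𝒩 n hd hψf
      (show Γ(GrMod.tilde ℬ 𝒩 n, Proj.basicOpen ℬ (ψ f)) from t)
    obtain ⟨m, rfl⟩ := hbij.2 n'
    have hm : m ∈ ℳ i := mem_of_map_mem ψ ℳ 𝒩 v hv hbij.1 i m hn'
    refine ⟨fracSecM 𝒜 ℳ hf n k i m hm hi, ?_⟩
    apply ext_val
    intro y
    refine (GrMod.comap_app_val ψ hψ v hv n (Proj.basicOpen 𝒜 f) _ y).trans ?_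
    refine Eq.trans ?_ (hval y).symm
    rw [val_fracSecM, GrMod.locModMap_mk]
    congr 1
    exact Subtype.ext (map_pow ψ f k)

end Comap

end Groth.Agent.GrTi
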