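import Mathlib
import Groth.Prelude
import Groth.Agent.Lib.GrTiFT_helper5
import Groth.Agent.Lib.GradedGen_helper3

/-!
# Finiteness of `M~` over `D_+(h)` for a graded ring with finitely generated irrelevant ideal (generators of any
positive degrees) and a module satisfying (TF) (helper5).  APPEND-ONLY once landed.
-/

set_option autoImplicit false
universe u
open CategoryTheory CategoryTheory.Limits AlgebraicGeometry TopologicalSpace Opposite DirectSum
open HomogeneousLocalization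

namespace Groth.Agent.GrTi

open Groth.Agent.GrTw Groth.Agent.Lib.GrModSectH1

section Mono
variable {A σ : Type u} [CommRing A] [SetLike σ A] [AddSubgroupClass σ A] (𝒜 : ℕ → σ)
  [GradedRing 𝒜]

/-- "Reduced monomials": for a finite set `E` of homogeneous elements and `d > 0` there is a finite set `G` of
homogeneous elements containing `1` such that `g * e`, `g ∈ G`, `e ∈ E`, is again of the form `c * g'` with `g' ∈ G` and
`c` homogeneous of degree divisible by `d`. -/
theorem exists_reduced_monomials (d : ℕ) (hd : 0 < d) (E : Finset A)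
    (hE : ∀ e ∈ E, ∃ i, e ∈ 𝒜 i) :
    ∃ G : Finset A, (1 : A) ∈ G ∧ (∀ g ∈ G, ∃ i, g ∈ 𝒜 i) ∧
      ∀ g ∈ G, ∀ e ∈ E, ∃ c g', g' ∈ G ∧ (∃ k, c ∈ 𝒜 (k * d)) ∧ g * e = c * g' := by
  classical
  induction E using Finset.induction_on with
  | empty =>
    refine ⟨{1}, Finset.mem_singleton_self _, ?_, ?_⟩
    · intro g hg
      rw [Finset.mem_singleton] at hg
      exact ⟨0, hg ▸ SetLike.GradedOne.one_mem⟩
    · intro g _ e he
      exact absurd he (Finset.notMem_empty e)
  | insert e₀ E' he₀ ih =>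
    obtain ⟨G', h1, hhom, hK⟩ := ih (fun e he => hE e (Finset.mem_insert_of_mem he))
    obtain ⟨i₀, hi₀⟩ := hE e₀ (Finset.mem_insert_self _ _)
    refine ⟨(Finset.range d ×ˢ G').image (fun q => e₀ ^ q.1 * q.2), ?_, ?_, ?_⟩
    · refine Finset.mem_image.mpr ⟨(0, 1), Finset.mem_product.mpr ⟨Finset.mem_range.mpr hd, h1⟩, ?_⟩
      simp
    · intro g hg
      obtain ⟨⟨i, g'⟩, hq, rfl⟩ := Finset.mem_image.mp hg
      obtain ⟨j, hj⟩ := hhom g' (Finset.mem_product.mp hq).2
      exact ⟨i • i₀ + j, SetLike.mul_mem_graded (SetLike.pow_mem_graded i hi₀) hj⟩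
    · intro g hg e he
      obtain ⟨⟨i, g'⟩, hq, rfl⟩ := Finset.mem_image.mp hg
      obtain ⟨hi, hg'⟩ := Finset.mem_product.mp hq
      rw [Finset.mem_range] at hi
      rcases Finset.mem_insert.mp he with rfl | he'
      · by_cases hi1 : i + 1 < d
        · refine ⟨1, e ^ (i + 1) * g', ?_, ⟨0, ?_⟩, ?_⟩
          · exact Finset.mem_image.mpr ⟨(i + 1, g'),
              Finset.mem_product.mpr ⟨Finset.mem_range.mpr hi1, hg'⟩, rfl⟩
          · rw [zero_mul]
            exact SetLike.GradedOne.one_mem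
          · show e ^ i * g' * e = 1 * (e ^ (i + 1) * g')
            ring
        · have hid : i + 1 = d := by omega
          refine ⟨e ^ d, e ^ 0 * g', ?_, ⟨i₀, ?_⟩, ?_⟩
          · exact Finset.mem_image.mpr ⟨(0, g'),
              Finset.mem_product.mpr ⟨Finset.mem_range.mpr hd, hg'⟩, rfl⟩
          · have := SetLike.pow_mem_graded d hi₀
            rwa [smul_eq_mul, mul_comm] at this
          · show e ^ i * g' * e = e ^ d * (e ^ 0 * g')
            rw [← hid]
            ring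
      · obtain ⟨c, g'', hg'', hc, hmul⟩ := hK g' hg' e he'
        refine ⟨c, e₀ ^ i * g'', ?_, hc, ?_⟩
        · exact Finset.mem_image.mpr ⟨(i, g''),
            Finset.mem_product.mpr ⟨Finset.mem_range.mpr hi, hg''⟩, rfl⟩
        · show e₀ ^ i * g' * e = c * (e₀ ^ i * g'')
          rw [mul_assoc, hmul]
          ring

/-- If `A` is generated over `A_0` by `E`, every element is a sum of products `b * g`, `g` a reduced monomial and
`b` homogeneous of degree divisible by `d`. -/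
theorem mem_closure_reduced (d : ℕ) (E : Finset A) (G : Finset A) (h1 : (1 : A) ∈ G)
    (hK : ∀ g ∈ G, ∀ e ∈ E, ∃ c g', g' ∈ G ∧ (∃ k, c ∈ 𝒜 (k * d)) ∧ g * e = c * g')
    (hadj : Algebra.adjoin (𝒜 0) (E : Set A) = ⊤) (a : A) :
    a ∈ AddSubgroup.closure {x : A | ∃ b g, (∃ k, b ∈ 𝒜 (k * d)) ∧ g ∈ G ∧ b * g = x} := by
  set P := AddSubgroup.closure {x : A | ∃ b g, (∃ k, b ∈ 𝒜 (k * d)) ∧ g ∈ G ∧ b * g = x} with hP
  -- `P` is stable under multiplication by homogeneous elements of degree divisible by `d`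
  have hmulH : ∀ (r : A), (∃ k, r ∈ 𝒜 (k * d)) → ∀ p ∈ P, r * p ∈ P := by
    rintro r ⟨k, hr⟩ p hp
    refine AddSubgroup.closure_induction (p := fun p _ => r * p ∈ P) ?_ ?_ ?_ ?_ hp
    · rintro _ ⟨b, g, ⟨k', hb⟩, hg, rfl⟩
      refine AddSubgroup.subset_closure ⟨r * b, g, ⟨k + k', ?_⟩, hg, mul_assoc _ _ _⟩
      have := SetLike.mul_mem_graded hr hb
      rwa [← add_mul] at this
    · rw [mul_zero]
      exact zero_mem _
    · intro x y _ _ hx hy
      rw [mul_add]
      exact add_mem hx hy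
    · intro x _ hx
      rw [mul_neg]
      exact neg_mem hx
  have hmulE : ∀ e ∈ E, ∀ p ∈ P, e * p ∈ P := by
    intro e he p hp
    refine AddSubgroup.closure_induction (p := fun p _ => e * p ∈ P) ?_ ?_ ?_ ?_ hp
    · rintro _ ⟨b, g, ⟨k', hb⟩, hg, rfl⟩
      obtain ⟨c, g', hg', ⟨k, hc⟩, hmul⟩ := hK g hg e he
      refine AddSubgroup.subset_closure ⟨b * c, g', ⟨k' + k, ?_⟩, hg', ?_⟩
      · have := SetLike.mul_mem_graded hb hc
        rwa [← add_mul] at this
      · rw [mul_assoc, ← hmul]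
        ring
    · rw [mul_zero]
      exact zero_mem _
    · intro x y _ _ hx hy
      rw [mul_add]
      exact add_mem hx hy
    · intro x _ hx
      rw [mul_neg]
      exact neg_mem hx
  have hone : (1 : A) ∈ P :=
    AddSubgroup.subset_closure ⟨1, 1, ⟨0, by rw [zero_mul]; exact SetLike.GradedOne.one_mem⟩, h1,
      mul_one 1⟩
  have key : ∀ x ∈ Algebra.adjoin (𝒜 0) (E : Set A), ∀ p ∈ P, x * p ∈ P := by
    intro x hx
    induction hx using Algebra.adjoin_induction with
    | mem e he => exact hmulE e (Finset.mem_coe.mp he)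
    | algebraMap r =>
      refine hmulH _ ⟨0, ?_⟩
      rw [zero_mul]
      exact r.2
    | add x y _ _ hx hy =>
      intro p hp
      rw [add_mul]
      exact add_mem (hx p hp) (hy p hp)
    | mul x y _ _ hx hy =>
      intro p hp
      rw [mul_assoc]
      exact hx _ (hy p hp)
  have := key a (hadj ▸ Algebra.mem_top) 1 hone
  rwa [mul_one] at this

/-- Coefficients of the degree-`n` part with respect to the reduced monomials. -/
theorem exists_coeffs (d : ℕ) (G : Finset A) (deg : A → ℕ) (hdeg : ∀ g ∈ G, g ∈ 𝒜 (deg g)) (a : A)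
    (ha : a ∈ AddSubgroup.closure {x : A | ∃ b g, (∃ k, b ∈ 𝒜 (k * d)) ∧ g ∈ G ∧ b * g = x})
    (n : ℕ) :
    ∃ c : A → A, (∀ g ∈ G, c g ∈ 𝒜 (n - deg g) ∧ (c g = 0 ∨ (deg g ≤ n ∧ d ∣ n - deg g))) ∧
      (DirectSum.decompose 𝒜 a n : A) = ∑ g ∈ G, c g * g := by
  classical
  refine AddSubgroup.closure_induction (p := fun a _ => ∃ c : A → A,
    (∀ g ∈ G, c g ∈ 𝒜 (n - deg g) ∧ (c g = 0 ∨ (deg g ≤ n ∧ d ∣ n - deg g))) ∧
      (DirectSum.decompose 𝒜 a n : A) = ∑ g ∈ G, c g * g) ?_ ?_ ?_ ?_ ha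
  · rintro _ ⟨b, g₀, ⟨k, hb⟩, hg₀, rfl⟩
    have hbg : b * g₀ ∈ 𝒜 (k * d + deg g₀) := SetLike.mul_mem_graded hb (hdeg g₀ hg₀)
    by_cases hn : k * d + deg g₀ = n
    · refine ⟨fun g => if g = g₀ then b else 0, ?_, ?_⟩
      · intro g _
        by_cases hgg : g = g₀
        · subst hgg
          dsimp only
          rw [if_pos rfl]
          have h2 : n - deg g = k * d := by omega
          refine ⟨h2 ▸ hb, Or.inr ⟨by omega, h2 ▸ Dvd.intro_left k rfl⟩⟩
        · dsimp only
          rw [if_neg hgg]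
          exact ⟨zero_mem _, Or.inl rfl⟩
      · rw [← hn, DirectSum.decompose_of_mem_same 𝒜 hbg, Finset.sum_eq_single g₀]
        · dsimp only
          rw [if_pos rfl]
        · intro g _ hgg
          dsimp only
          rw [if_neg hgg, zero_mul]
        · intro h
          exact absurd hg₀ h
    · refine ⟨fun _ => 0, fun g _ => ⟨zero_mem _, Or.inl rfl⟩, ?_⟩
      rw [DirectSum.decompose_of_mem_ne 𝒜 hbg hn]
      simp
  · refine ⟨fun _ => 0, fun g _ => ⟨zero_mem _, Or.inl rfl⟩, ?_⟩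
    simp
  · rintro x y _ _ ⟨c, hc, hx⟩ ⟨c', hc', hy⟩
    refine ⟨fun g => c g + c' g, ?_, ?_⟩
    · intro g hg
      refine ⟨add_mem (hc g hg).1 (hc' g hg).1, ?_⟩
      rcases (hc g hg).2 with h0 | h0
      · rcases (hc' g hg).2 with h0' | h0'
        · left
          show c g + c' g = 0
          rw [h0, h0', add_zero]
        · exact Or.inr h0'
      · exact Or.inr h0
    · rw [DirectSum.decompose_add, DirectSum.add_apply, AddMemClass.coe_add, hx, hy,
        ← Finset.sum_add_distrib]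
      exact Finset.sum_congr rfl fun g _ => (add_mul _ _ _).symm
  · rintro x _ ⟨c, hc, hx⟩
    refine ⟨fun g => - c g, ?_, ?_⟩
    · intro g hg
      refine ⟨neg_mem (hc g hg).1, ?_⟩
      rcases (hc g hg).2 with h0 | h0
      · left
        show - c g = 0
        rw [h0, neg_zero]
      · exact Or.inr h0
    · have h1 : (DirectSum.decompose 𝒜 (-x) n : A) = - (DirectSum.decompose 𝒜 x n : A) := by
        rw [DirectSum.decompose_neg]
        rfl
      rw [h1, hx, ← Finset.sum_neg_distrib]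
      exact Finset.sum_congr rfl fun g _ => (neg_mul _ _).symm

end Mono

section Fin
variable {A σ : Type u} [CommRing A] [SetLike σ A] [AddSubgroupClass σ A] (𝒜 : ℕ → σ)
  [GradedRing 𝒜]
  {M τ : Type u} [AddCommGroup M] [Module A M] [SetLike τ M] [AddSubgroupClass τ M] (ℳ : ℕ → τ)
  [SetLike.GradedSMul 𝒜 ℳ] [DirectSum.Decomposition ℳ]

theorem valO_fracO_eq_zero {d : ℕ} {h : A} (hh : h ∈ 𝒜 d) (k : ℕ) (a : A) (ha : a ∈ 𝒜 (k • d))
    (h0 : a = 0) (y : Proj.basicOpen 𝒜 h) : valO 𝒜 (fracO 𝒜 hh k a ha) y = 0 := by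
  subst h0
  rw [valO_fracO]
  exact Localization.mk_zero _

/-- Under (TF), if the irrelevant ideal is generated by a finite set `E` of homogeneous elements of positive degrees,
the sections of `M~` over `D_+(h)` (`h` homogeneous of any positive degree) are a finite module over the functions on
`D_+(h)`. -/
theorem finite_sections_basicOpen_of_fg (E : Finset A) (hE : ∀ e ∈ E, ∃ i : ℕ, 0 < i ∧ e ∈ 𝒜 i)
    (hspan : (HomogeneousIdeal.irrelevant 𝒜).toIdeal = Ideal.span (E : Set A))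
    (hTF : ∃ k : ℕ, (Submodule.span A (⋃ i ∈ Set.Ici k, (ℳ i : Set M))).FG)
    {d : ℕ} (hd : 0 < d) {h : A} (hh : h ∈ 𝒜 d) :
    Module.Finite Γ(Proj 𝒜, Proj.basicOpen 𝒜 h) Γ(GrMod.tilde 𝒜 ℳ 0, Proj.basicOpen 𝒜 h) := by
  classical
  obtain ⟨G, hG1, hGhom, hGK⟩ := exists_reduced_monomials 𝒜 d hd E
    (fun e he => (hE e he).imp fun i hi => hi.2)
  have hadj : Algebra.adjoin (𝒜 0) (E : Set A) = ⊤ :=
    Groth.Agent.Lib.GradedGen_helper3.adjoin_eq_top_of_irrelevant_le_span 𝒜 _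
      (fun e he => hE e (Finset.mem_coe.mp he)) hspan.le
  have hdegG : ∀ g : A, ∃ i : ℕ, g ∈ G → g ∈ 𝒜 i := by
    intro g
    by_cases hg : g ∈ G
    · obtain ⟨i, hi⟩ := hGhom g hg
      exact ⟨i, fun _ => hi⟩
    · exact ⟨0, fun h => absurd h hg⟩
  choose dg hdg using hdegG
  obtain ⟨n₀, hfg⟩ := hTF
  obtain ⟨T, hTsub, hTspan⟩ := (Submodule.fg_span_iff_fg_span_finset_subset _).mp hfg
  have hdeg : ∀ x : M, ∃ e : ℕ, x ∈ T → (x ∈ ℳ e ∧ n₀ ≤ e) := by
    intro x
    by_cases hx : x ∈ T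
    · have h1 := hTsub (Finset.mem_coe.mpr hx)
      simp only [Set.mem_iUnion, SetLike.mem_coe, Set.mem_Ici, exists_prop] at h1
      obtain ⟨e, he, hxe⟩ := h1
      exact ⟨e, fun _ => ⟨hxe, he⟩⟩
    · exact ⟨0, fun h => absurd h hx⟩
  choose δ hδT using hdeg
  obtain ⟨K, hKdef⟩ : ∃ K : ℕ, K = n₀ + ∑ x ∈ T, δ x := ⟨_, rfl⟩
  have hK : ∀ x ∈ T, δ x ≤ K := fun x hx =>
    (Finset.single_le_sum (f := δ) (fun _ _ => Nat.zero_le _) hx).trans
      (hKdef ▸ Nat.le_add_left _ _)
  have hn₀K : n₀ ≤ K := hKdef ▸ Nat.le_add_right _ _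
  have hgx : ∀ (x : M) (g : A), x ∈ T → g ∈ G → g • x ∈ ℳ (dg g + δ x) := by
    intro x g hx hg
    have := SetLike.GradedSMul.smul_mem (A := 𝒜) (B := ℳ) (hdg g hg) (hδT x hx).1
    simpa [vadd_eq_add] using this
  have hqi : ∀ p : M × A, d ∣ dg p.2 + δ p.1 →
      ((dg p.2 + δ p.1 : ℕ) : ℤ) = ((((dg p.2 + δ p.1) / d) • d : ℕ) : ℤ) + 0 := by
    intro p hp
    rw [add_zero, smul_eq_mul, Nat.div_mul_cancel hp]
  let gen : M × A → Γ(GrMod.tilde 𝒜 ℳ 0, Proj.basicOpen 𝒜 h) := fun p =>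
    if hp : p.1 ∈ T ∧ p.2 ∈ G ∧ d ∣ dg p.2 + δ p.1 then
      fracSecM 𝒜 ℳ hh 0 ((dg p.2 + δ p.1) / d) (dg p.2 + δ p.1) (p.2 • p.1)
        (hgx p.1 p.2 hp.1 hp.2.1) (hqi p hp.2.2)
    else 0
  refine ⟨⟨(T ×ˢ G).image gen, ?_⟩⟩
  rw [eq_top_iff]
  intro s _
  obtain ⟨t, i, m, hm, hi, hval⟩ := exists_val_eq_mk 𝒜 ℳ 0 hd hh s
  have hit : i = t • d := by
    have : (i : ℤ) = ((t • d : ℕ) : ℤ) := by simpa using hi
    exact_mod_cast this
  subst hit
  obtain ⟨D, hD⟩ : ∃ D : ℕ, D = (K + t) * d := ⟨_, rfl⟩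
  have hfm : h ^ K • m ∈ ℳ D := by
    have := SetLike.GradedSMul.smul_mem (A := 𝒜) (B := ℳ) (SetLike.pow_mem_graded K hh) hm
    have e : K • d +ᵥ t • d = D := by
      rw [hD, vadd_eq_add, smul_eq_mul, smul_eq_mul, add_mul]
    rwa [e] at this
  have hKD : K ≤ D := by
    rw [hD]
    calc K ≤ K + t := Nat.le_add_right _ _
      _ = (K + t) * 1 := (mul_one _).symm
      _ ≤ (K + t) * d := Nat.mul_le_mul_left _ hd
  have hmemQ : h ^ K • m ∈ Submodule.span A (T : Set M) := by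
    rw [← hTspan]
    refine Submodule.subset_span ?_
    simp only [Set.mem_iUnion, SetLike.mem_coe, Set.mem_Ici, exists_prop]
    exact ⟨D, hn₀K.trans hKD, hfm⟩
  obtain ⟨a, -, ha⟩ := Submodule.mem_span_finset.mp hmemQ
  have hcomp : h ^ K • m =
      ∑ x ∈ T, (DirectSum.decompose 𝒜 (a x) (D - δ x) : A) • x := by
    have h1 : (DirectSum.decompose ℳ (h ^ K • m) D : M) = h ^ K • m :=
      DirectSum.decompose_of_mem_same ℳ hfm
    rw [← h1, ← ha, DirectSum.decompose_sum, DFinsupp.finsetSum_apply,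
      AddSubmonoidClass.coe_finsetSum]
    refine Finset.sum_congr rfl (fun x hx => ?_)
    have h2 := proj_smul 𝒜 ℳ x (δ x) (hδT x hx).1 (D - δ x) (a x)
    have h3 : D - δ x + δ x = D := by
      have := (hK x hx).trans hKD
      omega
    rw [h3] at h2
    exact h2.symm
  have hco : ∀ x : M, ∃ c : A → A,
      (∀ g ∈ G, c g ∈ 𝒜 ((D - δ x) - dg g) ∧
        (c g = 0 ∨ (dg g ≤ D - δ x ∧ d ∣ (D - δ x) - dg g))) ∧
      (DirectSum.decompose 𝒜 (a x) (D - δ x) : A) = ∑ g ∈ G, c g * g := by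
    intro x
    obtain ⟨c, hc, hsum⟩ := exists_coeffs 𝒜 d G dg hdg _
      (mem_closure_reduced 𝒜 d E G hG1 hGK hadj
        (DirectSum.decompose 𝒜 (a x) (D - δ x) : A)) (D - δ x)
    refine ⟨c, hc, ?_⟩
    rw [← hsum, DirectSum.decompose_of_mem_same 𝒜 (SetLike.coe_mem _)]
  choose c hc hcsum using hco
  have hm' : h ^ K • m = ∑ p ∈ T ×ˢ G, (c p.1 p.2 * p.2) • p.1 := by
    rw [hcomp, Finset.sum_product]
    refine Finset.sum_congr rfl fun x _ => ?_
    dsimp only
    rw [hcsum x, Finset.sum_smul]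
  let coef : M × A → Γ(Proj 𝒜, Proj.basicOpen 𝒜 h) := fun p =>
    fracO 𝒜 hh (((D - δ p.1) - dg p.2) / d)
      (DirectSum.decompose 𝒜 (c p.1 p.2) ((((D - δ p.1) - dg p.2) / d) • d) : A) (SetLike.coe_mem _)
  have hs : s = ∑ p ∈ T ×ˢ G, coef p • gen p := by
    apply ext_val
    intro y
    rw [hval y]
    show _ = valHom 𝒜 ℳ y (∑ p ∈ T ×ˢ G, coef p • gen p)
    rw [map_sum]
    have h4 : ∀ p ∈ T ×ˢ G, valHom 𝒜 ℳ y (coef p • gen p) =
        LocalizedModule.mk ((c p.1 p.2 * p.2) • p.1) ⟨h ^ (K + t), pow_nin 𝒜 (K + t) y⟩ := by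
      rintro ⟨x, g⟩ hp
      obtain ⟨hx, hg⟩ := Finset.mem_product.mp hp
      show GrMod.val (coef (x, g) • gen (x, g)) y = _
      rw [val_smul]
      rcases (hc x g hg).2 with h0 | ⟨hle, hdvd⟩
      · have hz : valO 𝒜 (coef (x, g)) y = 0 := by
          refine valO_fracO_eq_zero 𝒜 hh _ _ _ ?_ y
          rw [h0, DirectSum.decompose_zero]
          rfl
        rw [hz, zero_smul]
        show (0 : GrMod.LocMod 𝒜 (M := M) y.1) = LocalizedModule.mk ((c x g * g) • x) _
        rw [h0, zero_mul, zero_smul, LocalizedModule.zero_mk]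
      · have hδD : δ x ≤ D := (hK x hx).trans hKD
        obtain ⟨k', hk'⟩ := hdvd
        have hkq : ((D - δ x) - dg g) / d = k' := by
          rw [hk']
          exact Nat.mul_div_cancel_left k' hd
        have e1 : dg g + δ x + d * k' = d * (K + t) := by
          rw [← hk', mul_comm d (K + t), ← hD]
          omega
        have hk'le : k' ≤ K + t := by
          have : d * k' ≤ d * (K + t) := by omega
          exact Nat.le_of_mul_le_mul_left this hd
        obtain ⟨q', hq'⟩ : ∃ q' : ℕ, q' + k' = K + t := ⟨K + t - k', by omega⟩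
        have e2 : dg g + δ x = d * q' := by
          have : d * (q' + k') = d * (K + t) := by rw [hq']
          rw [mul_add] at this
          omega
        have hdvd2 : d ∣ dg g + δ x := ⟨q', e2⟩
        have hq : (dg g + δ x) / d = q' := by
          rw [e2]
          exact Nat.mul_div_cancel_left q' hd
        have h5 : gen (x, g) = fracSecM 𝒜 ℳ hh 0 ((dg g + δ x) / d) (dg g + δ x) (g • x)
            (hgx x g hx hg) (hqi (x, g) hdvd2) := dif_pos ⟨hx, hg, hdvd2⟩
        rw [h5, val_fracSecM]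
        show valO 𝒜 (fracO 𝒜 hh (((D - δ x) - dg g) / d)
          (DirectSum.decompose 𝒜 (c x g) ((((D - δ x) - dg g) / d) • d) : A) _) y • _ = _
        rw [valO_fracO, LocalizedModule.mk_smul_mk]
        have hnum : (DirectSum.decompose 𝒜 (c x g) ((((D - δ x) - dg g) / d) • d) : A) = c x g := by
          have e3 : (((D - δ x) - dg g) / d) • d = (D - δ x) - dg g := by
            rw [hkq, hk', smul_eq_mul, mul_comm]
          rw [e3]
          exact DirectSum.decompose_of_mem_same 𝒜 (hc x g hg).1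
        rw [hnum, smul_smul]
        congr 1
        apply Subtype.ext
        show h ^ (((D - δ x) - dg g) / d) * h ^ ((dg g + δ x) / d) = h ^ (K + t)
        rw [← pow_add, hkq, hq, add_comm, hq']
    rw [Finset.sum_congr rfl h4, mk_sum_same, ← hm', LocalizedModule.mk_eq]
    refine ⟨1, ?_⟩
    simp only [one_smul]
    show h ^ (K + t) • m = h ^ t • h ^ K • m
    rw [smul_smul, ← pow_add, add_comm]
  rw [hs]
  refine Submodule.sum_mem _ (fun p hp => Submodule.smul_mem _ _ (Submodule.subset_span ?_))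
  exact Finset.mem_coe.mpr (Finset.mem_image_of_mem _ hp)

end Fin

end Groth.Agent.GrTi
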