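import Mathlib
import Groth.Prelude
import Groth.Agent.Lib.GrTiQCRel_helper5
import Groth.Agent.Lib.GrTwMul_helper5
import Groth.Agent.Lib.TensQC3_helper8

/-!
# `(ℳ(m))~ ⊗ O_P(n) ≅ (ℳ(m+n))~` on a relative `Proj` generated in degree one (helper5).
APPEND-ONLY once landed.
-/

set_option autoImplicit false
universe u
open CategoryTheory CategoryTheory.Limits AlgebraicGeometry TopologicalSpace Opposite DirectSum
open HomogeneousLocalization

namespace Groth.Agent.GrTi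

open Groth.Agent.GrTw Groth.Agent.Lib.GrModSectH1

section RingLevel
variable {A σ : Type u} [CommRing A] [SetLike σ A] [AddSubgroupClass σ A] (𝒜 : ℕ → σ)
  [GradedRing 𝒜]
  {M τ : Type u} [AddCommGroup M] [Module A M] [SetLike τ M] [AddSubgroupClass τ M] (ℳ : ℕ → τ)
  [SetLike.GradedSMul 𝒜 ℳ]

omit [AddSubgroupClass τ M] in
/-- A degree-`n` fraction times a degree-`m` module fraction is a degree-`m+n` module fraction. -/
theorem smul_mem_tildeAt (m n : ℤ) (x : ProjectiveSpectrum 𝒜) (a : GrTwist.Loc 𝒜 x)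
    (q : GrMod.LocMod 𝒜 (M := M) x) (ha : a ∈ GrTwist.twistAt 𝒜 n x)
    (hq : q ∈ GrMod.tildeAt 𝒜 ℳ m x) : a • q ∈ GrMod.tildeAt 𝒜 ℳ (m + n) x := by
  unfold GrTwist.twistAt at ha
  induction ha using Submodule.span_induction with
  | mem a ha =>
    obtain ⟨i, j, a₀, s, hs, hij, rfl⟩ := ha
    unfold GrMod.tildeAt at hq
    induction hq using Submodule.span_induction with
    | mem q hq =>
      obtain ⟨i', j', w, t, ht, hij', rfl⟩ := hq
      rw [LocalizedModule.mk_smul_mk]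
      refine Submodule.subset_span ⟨i + i', j + j', ⟨a₀.1 • w.1, ?_⟩,
        ⟨s.1 * t.1, SetLike.mul_mem_graded s.2 t.2⟩,
        fun h => (x.isPrime.mem_or_mem h).elim hs ht, by push_cast; omega, rfl⟩
      have := SetLike.GradedSMul.smul_mem (A := 𝒜) (B := ℳ) a₀.2 w.2
      rwa [vadd_eq_add] at this
    | zero => rw [smul_zero]; exact zero_mem _
    | add q q' _ _ hq hq' => rw [smul_add]; exact add_mem hq hq'
    | smul c q _ hq =>
      rw [GrMod.a0_smul_def, smul_smul, mul_comm, ← smul_smul, ← GrMod.a0_smul_def]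
      exact Submodule.smul_mem _ c hq
  | zero => rw [zero_smul]; exact zero_mem _
  | add a a' _ _ ha ha' => rw [add_smul]; exact add_mem ha ha'
  | smul c a _ ha =>
    rw [Algebra.smul_def, mul_smul]
    exact Submodule.smul_mem _ c ha

/-- The product of a section of `M(m)~` and a section of `O(n)`. -/
def mulSecM (m n k : ℤ) (hk : m + n = k) (U : (Opens (ProjectiveSpectrum.top 𝒜))ᵒᵖ)
    (t : GrMod.sect 𝒜 ℳ m U) (a : GrTwist.sectN (𝒜 := 𝒜) n U) : GrMod.sect 𝒜 ℳ k U :=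
  ⟨fun x => ⟨(a.1 x).1 • (t.1 x).1,
      hk ▸ smul_mem_tildeAt 𝒜 ℳ m n x.1 _ _ (a.1 x).2 (t.1 x).2⟩, fun x => by
    obtain ⟨V, hxV, iV, i, j, w, σ, nin, cond, hw⟩ := t.2 x
    obtain ⟨V', hxV', iV', i', j', b, τ, nin', cond', hw'⟩ := a.2 x
    refine ⟨V ⊓ V', ⟨hxV, hxV'⟩, Opens.infLELeft _ _ ≫ iV, i' + i, j' + j,
      ⟨b.1 • w.1, by
        have := SetLike.GradedSMul.smul_mem (A := 𝒜) (B := ℳ) b.2 w.2
        rwa [vadd_eq_add] at this⟩,
      ⟨τ.1 * σ.1, SetLike.mul_mem_graded τ.2 σ.2⟩,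
      fun y h => (y.1.isPrime.mem_or_mem h).elim (nin' ⟨y.1, y.2.2⟩) (nin ⟨y.1, y.2.1⟩), ?_,
      fun y => ?_⟩
    · rcases cond with h | h
      · rcases cond' with h' | h'
        · exact Or.inl (by push_cast; omega)
        · exact Or.inr (show b.1 • w.1 = 0 by rw [h', zero_smul])
      · exact Or.inr (show b.1 • w.1 = 0 by rw [h, smul_zero])
    · have e1 := hw ⟨y.1, y.2.1⟩
      have e2 := hw' ⟨y.1, y.2.2⟩
      show (a.1 _).1 • (t.1 _).1 = _
      erw [e1, e2]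
      rw [LocalizedModule.mk_smul_mk]
      rfl⟩

/-- The product of sections, for sections over an open of `Proj`. -/
noncomputable abbrev mulM (m n k : ℤ) (hk : m + n = k) {V : (Proj 𝒜).Opens}
    (t : Γ(GrMod.tilde 𝒜 ℳ m, V)) (a : Γ(GrTwist.twist 𝒜 n, V)) : Γ(GrMod.tilde 𝒜 ℳ k, V) :=
  mulSecM 𝒜 ℳ m n k hk (op V) t a

theorem val_mulM (m n k : ℤ) (hk : m + n = k) {V : (Proj 𝒜).Opens}
    (t : Γ(GrMod.tilde 𝒜 ℳ m, V)) (a : Γ(GrTwist.twist 𝒜 n, V)) (y : V) :
    GrMod.val (mulM 𝒜 ℳ m n k hk t a) y = GrTwist.val a y • GrMod.val t y := rfl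

end RingLevel

section Rel
variable {Y P : Scheme.{u}} {𝒮 : RelProj.QCGrAlg Y} {p : P ⟶ Y}
  {chart : ∀ (U : Y.Opens) (hU : IsAffineOpen U),
    (((p ⁻¹ᵁ U : P.Opens) : Scheme.{u}) ≅ Proj (𝒮.deg U hU))}
  {ℳ : RelProj.GrModule 𝒮} {m n k : ℤ} {F L F' : P.Modules}
  {lam : ∀ (U : Y.Opens) (hU : IsAffineOpen U),
    F ⟶ (Scheme.Modules.pushforward (RelProj.emb p chart U hU)).obj
      (GrMod.tilde (𝒮.deg U hU) (ℳ.deg U hU) m)}
  {lamL : ∀ (U : Y.Opens) (hU : IsAffineOpen U),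
    L ⟶ (Scheme.Modules.pushforward (RelProj.emb p chart U hU)).obj
      (GrTwist.twist (𝒮.deg U hU) n)}
  {lam' : ∀ (U : Y.Opens) (hU : IsAffineOpen U),
    F' ⟶ (Scheme.Modules.pushforward (RelProj.emb p chart U hU)).obj
      (GrMod.tilde (𝒮.deg U hU) (ℳ.deg U hU) k)}

/-- The product of a section of `(ℳ(m))~` and a section of `O_P(n)`, chartwise. -/
theorem exists_mulM (hk : m + n = k) (hF : RelProj.IsRelTilde 𝒮 p chart ℳ m F lam)
    (hL : RelProj.IsRelTwist 𝒮 p chart n L lamL)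
    (hF' : RelProj.IsRelTilde 𝒮 p chart ℳ k F' lam')
    (hP : RelProj.IsRelProj 𝒮 p chart) (W : P.Opens) (s : Γ(F, W)) (a : Γ(L, W)) :
    ∃ v : Γ(F', W), ∀ (V : Y.Opens) (hV : IsAffineOpen V),
      chartSec 𝒮 p chart ℳ k F' lam' V hV W v =
        mulM (𝒮.deg V hV) (ℳ.deg V hV) m n k hk
          (chartSec 𝒮 p chart ℳ m F lam V hV W s) (GrTw.chartSec 𝒮 p chart n L lamL V hV W a) := by
  apply exists_glue hF' hP W
  intro V hV r y hy hy'
  have h1 := hF.compat V hV r W s y hy hy'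
  have h2 := hL.compat V hV r W a y hy hy'
  rw [val_mulM, val_mulM, GrMod.locModMap_smul]
  exact congrArg₂ (· • ·) h2 h1

/-- The multiplication pairing `(ℳ(m))~ × O_P(n) → (ℳ(k))~`, `k = m + n`. -/
noncomputable def mulBilinRelM (hk : m + n = k) (hF : RelProj.IsRelTilde 𝒮 p chart ℳ m F lam)
    (hL : RelProj.IsRelTwist 𝒮 p chart n L lamL)
    (hF' : RelProj.IsRelTilde 𝒮 p chart ℳ k F' lam')
    (hP : RelProj.IsRelProj 𝒮 p chart) : FLFH8.BilinData F L F' where
  β W s t := Classical.choose (exists_mulM hk hF hL hF' hP W s t)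
  add_left W s s' t := by
    apply ext_chartSec hF'
    intro V hV
    have h1 := Classical.choose_spec (exists_mulM hk hF hL hF' hP W (s + s') t) V hV
    have h2 := Classical.choose_spec (exists_mulM hk hF hL hF' hP W s t) V hV
    have h3 := Classical.choose_spec (exists_mulM hk hF hL hF' hP W s' t) V hV
    rw [h1, chartSec_add, chartSec_add, h2, h3]
    apply ext_val
    intro y
    exact smul_add _ _ _
  smul_left W r s t := by
    apply ext_chartSec hF'
    intro V hV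
    have h1 := Classical.choose_spec (exists_mulM hk hF hL hF' hP W (r • s) t) V hV
    have h2 := Classical.choose_spec (exists_mulM hk hF hL hF' hP W s t) V hV
    rw [h1, chartSec_smul, chartSec_smul, h2]
    apply ext_val
    intro y
    rw [val_smul, val_mulM, val_mulM, val_smul]
    exact smul_comm _ _ _
  add_right W s t t' := by
    apply ext_chartSec hF'
    intro V hV
    have h1 := Classical.choose_spec (exists_mulM hk hF hL hF' hP W s (t + t')) V hV
    have h2 := Classical.choose_spec (exists_mulM hk hF hL hF' hP W s t) V hV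
    have h3 := Classical.choose_spec (exists_mulM hk hF hL hF' hP W s t') V hV
    rw [h1, chartSec_add, h2, h3]
    have h5 : GrTw.chartSec 𝒮 p chart n L lamL V hV W (t + t') =
        GrTw.chartSec 𝒮 p chart n L lamL V hV W t + GrTw.chartSec 𝒮 p chart n L lamL V hV W t' :=
      map_add _ _ _
    rw [h5]
    apply ext_val
    intro y
    exact add_smul _ _ _
  smul_right W r s t := by
    apply ext_chartSec hF'
    intro V hV
    have h1 := Classical.choose_spec (exists_mulM hk hF hL hF' hP W s (r • t)) V hV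
    have h2 := Classical.choose_spec (exists_mulM hk hF hL hF' hP W s t) V hV
    rw [h1, chartSec_smul, GrTw.chartSec_smul, h2]
    apply ext_val
    intro y
    rw [val_smul, val_mulM, val_mulM, GrTw.val_smul]
    exact mul_smul _ _ _
  natural {W W'} h s t := by
    apply ext_chartSec hF'
    intro V hV
    have h1 := Classical.choose_spec (exists_mulM hk hF hL hF' hP W s t) V hV
    have h2 := Classical.choose_spec (exists_mulM hk hF hL hF' hP W'
      (QcqsLoc.rF F h s) (QcqsLoc.rF L h t)) V hV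
    rw [chartSec_rF, h1, h2, chartSec_rF, GrTw.chartSec_rF]
    rfl

theorem mulBilinRelM_spec (hk : m + n = k) (hF : RelProj.IsRelTilde 𝒮 p chart ℳ m F lam)
    (hL : RelProj.IsRelTwist 𝒮 p chart n L lamL)
    (hF' : RelProj.IsRelTilde 𝒮 p chart ℳ k F' lam')
    (hP : RelProj.IsRelProj 𝒮 p chart) (W : P.Opens) (s : Γ(F, W)) (a : Γ(L, W))
    (V : Y.Opens) (hV : IsAffineOpen V) :
    chartSec 𝒮 p chart ℳ k F' lam' V hV W ((mulBilinRelM hk hF hL hF' hP).β W s a) =
      mulM (𝒮.deg V hV) (ℳ.deg V hV) m n k hk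
        (chartSec 𝒮 p chart ℳ m F lam V hV W s) (GrTw.chartSec 𝒮 p chart n L lamL V hV W a) :=
  Classical.choose_spec (exists_mulM hk hF hL hF' hP W s a) V hV

end Rel

section Iso
variable {Y P : Scheme.{u}} {𝒮 : RelProj.QCGrAlg Y} {p : P ⟶ Y}
  {chart : ∀ (U : Y.Opens) (hU : IsAffineOpen U),
    (((p ⁻¹ᵁ U : P.Opens) : Scheme.{u}) ≅ Proj (𝒮.deg U hU))}
  {ℳ : RelProj.GrModule 𝒮} {m n k : ℤ} {F L F' : P.Modules}
  {lam : ∀ (U : Y.Opens) (hU : IsAffineOpen U),
    F ⟶ (Scheme.Modules.pushforward (RelProj.emb p chart U hU)).obj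
      (GrMod.tilde (𝒮.deg U hU) (ℳ.deg U hU) m)}
  {lamL : ∀ (U : Y.Opens) (hU : IsAffineOpen U),
    L ⟶ (Scheme.Modules.pushforward (RelProj.emb p chart U hU)).obj
      (GrTwist.twist (𝒮.deg U hU) n)}
  {lam' : ∀ (U : Y.Opens) (hU : IsAffineOpen U),
    F' ⟶ (Scheme.Modules.pushforward (RelProj.emb p chart U hU)).obj
      (GrMod.tilde (𝒮.deg U hU) (ℳ.deg U hU) k)}

theorem mulHomRelM_tmul (hk : m + n = k) (hF : RelProj.IsRelTilde 𝒮 p chart ℳ m F lam)
    (hL : RelProj.IsRelTwist 𝒮 p chart n L lamL)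
    (hF' : RelProj.IsRelTilde 𝒮 p chart ℳ k F' lam')
    (hP : RelProj.IsRelProj 𝒮 p chart) (W : P.Opens) (t : Γ(F, W)) (a : Γ(L, W)) :
    QCohExtn.ap (mulBilinRelM hk hF hL hF' hP).toHom W (SecTwist.tmul F L W t a) =
      (mulBilinRelM hk hF hL hF' hP).β W t a :=
  (mulBilinRelM hk hF hL hF' hP).toHom_tmul W t a

/-- The multiplication map is bijective on sections over the chart image of `D_+(f)`, `f` of
degree one. -/
theorem bijective_mulHom_chart (hk : m + n = k) (hF : RelProj.IsRelTilde 𝒮 p chart ℳ m F lam)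
    (hL : RelProj.IsRelTwist 𝒮 p chart n L lamL)
    (hF' : RelProj.IsRelTilde 𝒮 p chart ℳ k F' lam')
    (hP : RelProj.IsRelProj 𝒮 p chart) (V : Y.Opens) (hV : IsAffineOpen V)
    (f : 𝒮.presheaf.obj (op V)) (hf : f ∈ 𝒮.deg V hV 1) (W : P.Opens)
    (hW : W = (RelProj.emb p chart V hV) ''ᵁ (Proj.basicOpen (𝒮.deg V hV) f)) :
    Function.Bijective (QCohExtn.ap (mulBilinRelM hk hF hL hF' hP).toHom W) := by
  have hWr : W ≤ (RelProj.emb p chart V hV).opensRange := by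
    rw [hW]; exact Scheme.Hom.image_le_opensRange _ _
  have hWf : (RelProj.emb p chart V hV) ⁻¹ᵁ W ≤ Proj.basicOpen (𝒮.deg V hV) f := by
    rw [hW]; exact (Scheme.Hom.preimage_image_eq _ _).le
  have hWU : W ≤ p ⁻¹ᵁ V := hWr.trans (opensRange_emb 𝒮 p chart V hV).le
  have hn1 : n = n * ((1 : ℕ) : ℤ) := by simp
  obtain ⟨e, hee, he⟩ := exists_isGen_of_chartK hL V hV hf n hn1 W hWr hWf
  -- values of the generator and its inverse
  have hp : ∀ (y : (RelProj.emb p chart V hV) ⁻¹ᵁ W) (j : ℕ), f ^ j ∈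
      (y.1 : ProjectiveSpectrum (𝒮.deg V hV)).asHomogeneousIdeal.toIdeal.primeCompl :=
    fun y j h => hWf y.2 ((y.1 : ProjectiveSpectrum (𝒮.deg V hV)).isPrime.mem_of_pow_mem _ h)
  have hvale : ∀ y : (RelProj.emb p chart V hV) ⁻¹ᵁ W,
      GrTwist.val (GrTw.chartSec 𝒮 p chart n L lamL V hV W e) y =
        Localization.mk (f ^ n.toNat) ⟨f ^ (-n).toNat, hp y _⟩ := by
    intro y
    rw [hee]
    rfl
  have hβ : ∀ (t : Γ(F, W)) (y : (RelProj.emb p chart V hV) ⁻¹ᵁ W),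
      GrMod.val (chartSec 𝒮 p chart ℳ k F' lam' V hV W
        ((mulBilinRelM hk hF hL hF' hP).β W t e)) y =
      (Localization.mk (f ^ n.toNat) ⟨f ^ (-n).toNat, hp y _⟩ :
        GrTwist.Loc (𝒮.deg V hV) y.1) • GrMod.val (chartSec 𝒮 p chart ℳ m F lam V hV W t) y := by
    intro t y
    rw [mulBilinRelM_spec, val_mulM, hvale]
  constructor
  · intro z z' hzz'
    obtain ⟨t, ht⟩ := TensH8.tmulGen_surjective F L he le_rfl z
    obtain ⟨t', ht'⟩ := TensH8.tmulGen_surjective F L he le_rfl z'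
    rw [SubExt.rF_self] at ht ht'
    rw [← ht, ← ht', mulHomRelM_tmul, mulHomRelM_tmul] at hzz'
    have h2 : t = t' := by
      apply ext_chart_val hF V hV hWU
      intro y
      have h3 := congrArg (fun v => GrMod.val (chartSec 𝒮 p chart ℳ k F' lam' V hV W v) y) hzz'
      simp only [hβ] at h3
      have h4 := congrArg ((Localization.mk (f ^ (-n).toNat) ⟨f ^ n.toNat, hp y _⟩ :
        GrTwist.Loc (𝒮.deg V hV) y.1) • ·) h3
      simp only [smul_smul, mk_mul_mk_swap, one_smul] at h4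
      exact h4
    rw [← ht, ← ht', h2]
  · intro s'
    have hk' : k + -n = m := by omega
    obtain ⟨t, ht⟩ := (hF.bijective V hV W hWU).2
      (mulM (𝒮.deg V hV) (ℳ.deg V hV) k (-n) m hk'
        (chartSec 𝒮 p chart ℳ k F' lam' V hV W s')
        (QcqsLoc.rF (GrTwist.twist (𝒮.deg V hV) (-n)) hWf
          (genSecKInv (𝒮.deg V hV) hf n (-n) (by simp))))
    refine ⟨SecTwist.tmul F L W t e, ?_⟩
    refine (mulHomRelM_tmul hk hF hL hF' hP W t e).trans ?_
    apply ext_chart_val hF' V hV hWU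
    intro y
    rw [hβ]
    have h5 : GrMod.val (chartSec 𝒮 p chart ℳ m F lam V hV W t) y =
        (Localization.mk (f ^ (-n).toNat) ⟨f ^ n.toNat, hp y _⟩ :
          GrTwist.Loc (𝒮.deg V hV) y.1) •
          GrMod.val (chartSec 𝒮 p chart ℳ k F' lam' V hV W s') y := by
      have h6 := congrArg (fun v : Γ(GrMod.tilde (𝒮.deg V hV) (ℳ.deg V hV) m,
        (RelProj.emb p chart V hV) ⁻¹ᵁ W) => GrMod.val v y) ht
      exact h6
    rw [h5, smul_smul, mk_mul_mk_swap, one_smul]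

/-- **`(ℳ(m))~ ⊗ O_P(n) ⟶ (ℳ(m+n))~` is an isomorphism** when `𝒮` is generated in degree one. -/
theorem isIso_mulHomRelM (hk : m + n = k) (hF : RelProj.IsRelTilde 𝒮 p chart ℳ m F lam)
    (hL : RelProj.IsRelTwist 𝒮 p chart n L lamL)
    (hF' : RelProj.IsRelTilde 𝒮 p chart ℳ k F' lam')
    (hP : RelProj.IsRelProj 𝒮 p chart) (hgen : 𝒮.IsGenDegOne) :
    IsIso (mulBilinRelM hk hF hL hF' hP).toHom := by
  haveI := isQuasicoherent_of_relTilde hF
  haveI := isQuasicoherent_of_relTilde hF'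
  haveI := isQuasicoherent_of_relTwist hL
  haveI : (CohB1.tensorMod F L).IsQuasicoherent := TensQCH8.isQuasicoherent_tensorMod _ _
  let ι := {q : Σ (V : Y.affineOpens), 𝒮.presheaf.obj (op V.1) // q.2 ∈ 𝒮.deg q.1.1 q.1.2 1}
  refine QCohCrit.isIso_of_bijective_on_cover _
    (fun i : ι => (RelProj.emb p chart i.1.1.1 i.1.1.2) ''ᵁ
      (Proj.basicOpen (𝒮.deg i.1.1.1 i.1.1.2) i.1.2))
    (fun i => (Proj.isAffineOpen_basicOpen _ i.1.2 i.2 one_pos).image_of_isOpenImmersion _) ?_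
    (fun i => bijective_mulHom_chart hk hF hL hF' hP i.1.1.1 i.1.1.2 i.1.2 i.2 _ rfl)
  rw [eq_top_iff]
  intro x _
  obtain ⟨U, hU, hy, hx⟩ := exists_chart_point 𝒮 p chart x
  obtain ⟨f, hf, hfz⟩ := exists_deg_one_not_mem (𝒮.deg U hU) (hgen U hU)
    ((chart U hU).hom ⟨x, hy⟩)
  refine Opens.mem_iSup.mpr ⟨⟨⟨⟨U, hU⟩, f⟩, hf⟩, ⟨(chart U hU).hom ⟨x, hy⟩, hfz, hx⟩⟩

end Iso

end Groth.Agent.GrTi
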