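import Mathlib
import Groth.Prelude
import Groth.Agent.Lib.GrTiFT_helper5

/-!
# Finiteness of `M(n)~` for Noetherian graded modules, and transfer of finiteness along charts (helper5).
APPEND-ONLY once landed.
-/

set_option autoImplicit false
universe u
open CategoryTheory CategoryTheory.Limits AlgebraicGeometry TopologicalSpace Opposite DirectSum
open HomogeneousLocalization

namespace Groth.Agent.GrTi

open Groth.Agent.GrTw Groth.Agent.Lib.GrModSectH1

section RingLevel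
variable {A σ : Type u} [CommRing A] [SetLike σ A] [AddSubgroupClass σ A] (𝒜 : ℕ → σ)
  [GradedRing 𝒜]
  {M τ : Type u} [AddCommGroup M] [Module A M] [SetLike τ M] [AddSubgroupClass τ M] (ℳ : ℕ → τ)
  [SetLike.GradedSMul 𝒜 ℳ] [DirectSum.Decomposition ℳ]

/-- For a Noetherian graded module, the sections of `M(n)~` over `D_+(f)` (`f` homogeneous of any positive
degree) are a finite module over the functions on `D_+(f)`. -/
theorem finite_sections_basicOpen_of_noetherian [IsNoetherian A M] (n : ℤ) {d : ℕ} (hd : 0 < d)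
    {f : A} (hf : f ∈ 𝒜 d) :
    Module.Finite Γ(Proj 𝒜, Proj.basicOpen 𝒜 f) Γ(GrMod.tilde 𝒜 ℳ n, Proj.basicOpen 𝒜 f) := by
  classical
  have hfg : (Submodule.span A
      {m : M | ∃ k i : ℕ, m ∈ ℳ i ∧ (i : ℤ) = ((k • d : ℕ) : ℤ) + n}).FG :=
    IsNoetherian.noetherian _
  obtain ⟨T, hTsub, hTspan⟩ := (Submodule.fg_span_iff_fg_span_finset_subset _).mp hfg
  have hdeg : ∀ x : M, ∃ k i : ℕ, x ∈ T → (x ∈ ℳ i ∧ (i : ℤ) = ((k • d : ℕ) : ℤ) + n) := by
    intro x
    by_cases hx : x ∈ T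
    · obtain ⟨k, i, h1, h2⟩ := hTsub (Finset.mem_coe.mpr hx)
      exact ⟨k, i, fun _ => ⟨h1, h2⟩⟩
    · exact ⟨0, 0, fun h => absurd h hx⟩
  choose kk ii hT using hdeg
  let K : ℕ := ∑ x ∈ T, kk x
  have hK : ∀ x ∈ T, kk x ≤ K := fun x hx =>
    Finset.single_le_sum (f := kk) (fun _ _ => Nat.zero_le _) hx
  let g : M → Γ(GrMod.tilde 𝒜 ℳ n, Proj.basicOpen 𝒜 f) := fun x =>
    if hx : x ∈ T then fracSecM 𝒜 ℳ hf n (kk x) (ii x) x (hT x hx).1 (hT x hx).2 else 0
  refine ⟨⟨T.image g, ?_⟩⟩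
  rw [eq_top_iff]
  intro s _
  obtain ⟨k, i, m, hm, hi, hval⟩ := exists_val_eq_mk 𝒜 ℳ n hd hf s
  let D : ℕ := K • d + i
  have hfm : f ^ K • m ∈ ℳ D := by
    have := SetLike.GradedSMul.smul_mem (A := 𝒜) (B := ℳ) (SetLike.pow_mem_graded K hf) hm
    simpa [vadd_eq_add, D] using this
  have hDi : (D : ℤ) = (((K + k) • d : ℕ) : ℤ) + n := by
    show ((K • d + i : ℕ) : ℤ) = _
    push_cast [smul_eq_mul] at hi ⊢
    rw [hi]
    ring
  have hmemQ : f ^ K • m ∈ Submodule.span A (T : Set M) := by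
    rw [← hTspan]
    exact Submodule.subset_span ⟨K + k, D, hfm, hDi⟩
  obtain ⟨a, -, ha⟩ := Submodule.mem_span_finset.mp hmemQ
  have hrel : ∀ x ∈ T, (K + k - kk x) • d + ii x = D := by
    intro x hx
    have h1 := (hT x hx).2
    have h2 : kk x ≤ K + k := (hK x hx).trans (Nat.le_add_right _ _)
    have h3 : (((K + k - kk x) • d + ii x : ℕ) : ℤ) = (D : ℤ) := by
      rw [hDi]
      push_cast [smul_eq_mul, Nat.cast_sub h2] at h1 ⊢
      rw [h1]
      ring
    exact_mod_cast h3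
  have hcomp : f ^ K • m =
      ∑ x ∈ T, (DirectSum.decompose 𝒜 (a x) ((K + k - kk x) • d) : A) • x := by
    have h1 : (DirectSum.decompose ℳ (f ^ K • m) D : M) = f ^ K • m :=
      DirectSum.decompose_of_mem_same ℳ hfm
    rw [← h1, ← ha, DirectSum.decompose_sum, DFinsupp.finsetSum_apply,
      AddSubmonoidClass.coe_finsetSum]
    refine Finset.sum_congr rfl (fun x hx => ?_)
    have h2 := proj_smul 𝒜 ℳ x (ii x) (hT x hx).1 ((K + k - kk x) • d) (a x)
    rw [hrel x hx] at h2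
    exact h2.symm
  let c : M → Γ(Proj 𝒜, Proj.basicOpen 𝒜 f) := fun x =>
    fracO 𝒜 hf (K + k - kk x) (DirectSum.decompose 𝒜 (a x) ((K + k - kk x) • d) : A)
      (SetLike.coe_mem _)
  have hs : s = ∑ x ∈ T, c x • g x := by
    apply ext_val
    intro y
    rw [hval y]
    show _ = valHom 𝒜 ℳ y (∑ x ∈ T, c x • g x)
    rw [map_sum]
    have h4 : ∀ x ∈ T, valHom 𝒜 ℳ y (c x • g x) =
        LocalizedModule.mk ((DirectSum.decompose 𝒜 (a x) ((K + k - kk x) • d) : A) • x)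
          ⟨f ^ (K + k), pow_nin 𝒜 (K + k) y⟩ := by
      intro x hx
      show GrMod.val (c x • g x) y = _
      rw [val_smul]
      have h5 : g x = fracSecM 𝒜 ℳ hf n (kk x) (ii x) x (hT x hx).1 (hT x hx).2 := dif_pos hx
      rw [h5, val_fracSecM, valO_fracO, LocalizedModule.mk_smul_mk]
      congr 1
      apply Subtype.ext
      show f ^ (K + k - kk x) * f ^ kk x = f ^ (K + k)
      rw [← pow_add]
      congr 1
      have := hK x hx
      omega
    rw [Finset.sum_congr rfl h4]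
    have h6 : ∑ x ∈ T, (LocalizedModule.mk
        ((DirectSum.decompose 𝒜 (a x) ((K + k - kk x) • d) : A) • x)
        ⟨f ^ (K + k), pow_nin 𝒜 (K + k) y⟩ : GrMod.LocMod 𝒜 (M := M) y.1) =
        LocalizedModule.mk (∑ x ∈ T, (DirectSum.decompose 𝒜 (a x) ((K + k - kk x) • d) : A) • x)
          ⟨f ^ (K + k), pow_nin 𝒜 (K + k) y⟩ := mk_sum_same _ _ _
    rw [h6, ← hcomp, LocalizedModule.mk_eq]
    refine ⟨1, ?_⟩
    simp only [one_smul]
    show f ^ (K + k) • m = f ^ k • f ^ K • m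
    rw [smul_smul, ← pow_add, add_comm]
  rw [hs]
  refine Submodule.sum_mem _ (fun x hx => Submodule.smul_mem _ _ (Submodule.subset_span ?_))
  exact Finset.mem_coe.mpr (Finset.mem_image_of_mem _ hx)

end RingLevel

section Rel
variable {Y P : Scheme.{u}} {𝒮 : RelProj.QCGrAlg Y} {p : P ⟶ Y}
  {chart : ∀ (U : Y.Opens) (hU : IsAffineOpen U),
    (((p ⁻¹ᵁ U : P.Opens) : Scheme.{u}) ≅ Proj (𝒮.deg U hU))}

/-- Finiteness of sections transfers from a chart along a chartwise-bijective comparison map. -/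
theorem finite_sections_of_chart (F : P.Modules) (V : Y.Opens) (hV : IsAffineOpen V)
    (T : (Proj (𝒮.deg V hV)).Modules)
    (lam : F ⟶ (Scheme.Modules.pushforward (RelProj.emb p chart V hV)).obj T)
    (hb : ∀ W : P.Opens, W ≤ p ⁻¹ᵁ V → Function.Bijective (QCohExtn.ap lam W))
    (W : P.Opens) (hW : W ≤ p ⁻¹ᵁ V)
    (hfin : Module.Finite Γ(Proj (𝒮.deg V hV), (RelProj.emb p chart V hV) ⁻¹ᵁ W)
      Γ(T, (RelProj.emb p chart V hV) ⁻¹ᵁ W)) :
    Module.Finite Γ(P, W) Γ(F, W) := by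
  haveI : IsIso ((RelProj.emb p chart V hV).app W) :=
    Scheme.Hom.isIso_app _ W (by rw [opensRange_emb]; exact hW)
  haveI := hfin
  refine finite_of_semilinear ((RelProj.emb p chart V hV).app W).hom
    (ConcreteCategory.bijective_of_isIso ((RelProj.emb p chart V hV).app W)).2
    (show Γ(F, W) →+ Γ(T, (RelProj.emb p chart V hV) ⁻¹ᵁ W) from QCohExtn.ap lam W) (hb W hW)
    (fun r s => ?_)
  exact QCohExtn.ap_smul lam r s

/-- A quasi-coherent module on `P` which over each chart maps bijectively to the direct image of a module with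
finite sections over the `D_+(f)` is of finite type. -/
theorem isFiniteType_of_charts (F : P.Modules) [F.IsQuasicoherent]
    (T : ∀ (U : Y.Opens) (hU : IsAffineOpen U), (Proj (𝒮.deg U hU)).Modules)
    (lam : ∀ (U : Y.Opens) (hU : IsAffineOpen U),
      F ⟶ (Scheme.Modules.pushforward (RelProj.emb p chart U hU)).obj (T U hU))
    (hb : ∀ (U : Y.Opens) (hU : IsAffineOpen U) (W : P.Opens), W ≤ p ⁻¹ᵁ U →
      Function.Bijective ((lam U hU).app W))
    (hfin : ∀ (U : Y.Opens) (hU : IsAffineOpen U) (d : ℕ) (f : 𝒮.presheaf.obj (op U)), 0 < d →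
      f ∈ 𝒮.deg U hU d →
      Module.Finite Γ(Proj (𝒮.deg U hU), Proj.basicOpen (𝒮.deg U hU) f)
        Γ(T U hU, Proj.basicOpen (𝒮.deg U hU) f)) :
    SheafOfModules.IsFiniteType (R := P.ringCatSheaf) F := by
  let ι := {q : Σ (V : Y.affineOpens), ℕ × 𝒮.presheaf.obj (op V.1) //
    0 < q.2.1 ∧ q.2.2 ∈ 𝒮.deg q.1.1 q.1.2 q.2.1}
  have haff : ∀ i : ι, IsAffineOpen (Proj.basicOpen (𝒮.deg i.1.1.1 i.1.1.2) i.1.2.2) :=
    fun i => Proj.isAffineOpen_basicOpen _ i.1.2.2 i.2.2 i.2.1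
  refine QCohCrit.isFiniteType_of_sections_cover F
    (fun i : ι => (RelProj.emb p chart i.1.1.1 i.1.1.2) ''ᵁ
      (Proj.basicOpen (𝒮.deg i.1.1.1 i.1.1.2) i.1.2.2))
    (fun i => (haff i).image_of_isOpenImmersion _) ?_ ?_
  · rw [eq_top_iff]
    intro x _
    obtain ⟨W, ⟨V, hV, d, f, hd, hf, rfl⟩, hxW, -⟩ := exists_chartBasic 𝒮 p chart ⊤ x trivial
    exact Opens.mem_iSup.mpr ⟨⟨⟨⟨V, hV⟩, (d, f)⟩, hd, hf⟩, hxW⟩
  · rintro ⟨⟨⟨V, hV⟩, ⟨d, f⟩⟩, hd, hf⟩
    refine finite_sections_of_chart F V hV (T V hV) (lam V hV) (fun W hW => hb V hV W hW) _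
      (image_le_preimage 𝒮 p chart V hV _) ?_
    have hWD := Scheme.Hom.preimage_image_eq (RelProj.emb p chart V hV)
      (Proj.basicOpen (𝒮.deg V hV) f)
    have key : ∀ D' : (Proj (𝒮.deg V hV)).Opens, D' = Proj.basicOpen (𝒮.deg V hV) f →
        Module.Finite Γ(Proj (𝒮.deg V hV), D') Γ(T V hV, D') := by
      rintro _ rfl
      exact hfin V hV d f hd hf
    exact key _ hWD

/-- **`O_P(n)` is of finite type** when all the rings `𝒮(U)` are Noetherian. -/
theorem isFiniteType_of_relTwist_of_noetherian {n : ℤ} {L : P.Modules}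
    {lam : ∀ (U : Y.Opens) (hU : IsAffineOpen U),
      L ⟶ (Scheme.Modules.pushforward (RelProj.emb p chart U hU)).obj
        (GrTwist.twist (𝒮.deg U hU) n)}
    (hL : RelProj.IsRelTwist 𝒮 p chart n L lam)
    (hN : ∀ (U : Y.Opens) (_ : IsAffineOpen U), IsNoetherianRing (𝒮.presheaf.obj (op U))) :
    SheafOfModules.IsFiniteType (R := P.ringCatSheaf) L := by
  haveI := isQuasicoherent_of_relTwist hL
  refine isFiniteType_of_charts L _ lam hL.bijective (fun U hU d f hd hf => ?_)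
  haveI := hN U hU
  exact finite_sections_basicOpen_of_noetherian (𝒮.deg U hU) (𝒮.deg U hU) n hd hf

end Rel

end Groth.Agent.GrTi
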