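import Mathlib
import Groth.Prelude
import Groth.Agent.Lib.GrTiHom_helper5

/-!
# Condition (TN) and the vanishing of `(ℳ(n))~` (helper5).  APPEND-ONLY once landed.
-/

set_option autoImplicit false
universe u
open CategoryTheory CategoryTheory.Limits AlgebraicGeometry TopologicalSpace Opposite DirectSum
open HomogeneousLocalization

namespace Groth.Agent.GrTi

open Groth.Agent.GrTw

section RingLevel
variable {A σ : Type u} [CommRing A] [SetLike σ A] [AddSubgroupClass σ A] (𝒜 : ℕ → σ)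
  [GradedRing 𝒜]
  {M τ : Type u} [AddCommGroup M] [Module A M] [SetLike τ M] [AddSubgroupClass τ M] (ℳ : ℕ → τ)
  [SetLike.GradedSMul 𝒜 ℳ]

/-- If the pieces of `M` of large degree vanish, all degree-`n` fractions vanish. -/
theorem eq_zero_of_mem_tildeAt_of_TN (N : ℕ) (hN : ∀ k, N ≤ k → ∀ m ∈ ℳ k, m = 0) (n : ℤ)
    (x : ProjectiveSpectrum 𝒜) (q : GrMod.LocMod 𝒜 (M := M) x)
    (hq : q ∈ GrMod.tildeAt 𝒜 ℳ n x) : q = 0 := by
  obtain ⟨d, f, hd, hf, hfx⟩ := exists_pos_homog_not_mem 𝒜 x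
  induction hq using Submodule.span_induction with
  | mem q h =>
    obtain ⟨i, j, m, s, hs, hij, rfl⟩ := h
    rw [← LocalizedModule.zero_mk (1 : x.asHomogeneousIdeal.toIdeal.primeCompl),
      LocalizedModule.mk_eq]
    refine ⟨⟨f ^ N, fun h => hfx (x.isPrime.mem_of_pow_mem N h)⟩, ?_⟩
    have h1 : f ^ N • (m : M) ∈ ℳ (N • d + i) := by
      simpa [vadd_eq_add] using SetLike.GradedSMul.smul_mem (A := 𝒜) (B := ℳ)
        (SetLike.pow_mem_graded N hf) m.2
    have h2 : f ^ N • (m : M) = 0 := by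
      apply hN (N • d + i) _ _ h1
      have : N ≤ N * d := Nat.le_mul_of_pos_right N hd
      rw [smul_eq_mul]
      omega
    simp only [smul_zero, one_smul]
    exact h2
  | zero => rfl
  | add q q' _ _ h h' => rw [h, h', add_zero]
  | smul c q _ h => rw [h, smul_zero]

end RingLevel

section TN
variable {Y P : Scheme.{u}} {𝒮 : RelProj.QCGrAlg Y} {p : P ⟶ Y}
  {chart : ∀ (U : Y.Opens) (hU : IsAffineOpen U),
    (((p ⁻¹ᵁ U : P.Opens) : Scheme.{u}) ≅ Proj (𝒮.deg U hU))}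
  {ℳ : RelProj.GrModule 𝒮} {n : ℤ} {F : P.Modules}
  {lam : ∀ (U : Y.Opens) (hU : IsAffineOpen U),
    F ⟶ (Scheme.Modules.pushforward (RelProj.emb p chart U hU)).obj
      (GrMod.tilde (𝒮.deg U hU) (ℳ.deg U hU) n)}

/-- **(TN) implies `(ℳ(n))~ = 0`.** -/
theorem isZero_of_TN (hTN : ℳ.IsTN) (hF : RelProj.IsRelTilde 𝒮 p chart ℳ n F lam) : IsZero F := by
  obtain ⟨N, hN⟩ := hTN
  rw [Limits.IsZero.iff_id_eq_zero]
  apply Scheme.Modules.hom_ext
  intro W
  apply ConcreteCategory.hom_ext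
  intro s
  show s = 0
  apply ext_chartSec hF
  intro V hV
  apply ext_val
  intro y
  refine (eq_zero_of_mem_tildeAt_of_TN (𝒮.deg V hV) (ℳ.deg V hV) N
    (fun k hk m hm => hN V hV k hk m hm) n y.1 _ (Subtype.property _)).trans ?_
  exact (eq_zero_of_mem_tildeAt_of_TN (𝒮.deg V hV) (ℳ.deg V hV) N
    (fun k hk m hm => hN V hV k hk m hm) n y.1 _ (Subtype.property _)).symm

end TN

end Groth.Agent.GrTi
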