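import Mathlib
import Groth.Prelude
import Groth.Agent.Lib.GrTiFT_helper5
import Groth.Agent.Lib.GrTiComap_helper5
import Groth.Agent.Lib.GenDegOne_helper3
import Groth.Agent.Lib.WeakAssSch_helper4

/-!
# `ℳ~ = 0` and (TF) imply (TN) over a quasi-compact base (helper5).
APPEND-ONLY once landed.  The ring-level argument is a port of helper1's `TildeZero_helper1` to the `GrMod`
definitions (gradings by additive subgroups).
-/

set_option autoImplicit false
universe u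
open CategoryTheory CategoryTheory.Limits AlgebraicGeometry TopologicalSpace Opposite DirectSum

namespace Groth.Agent.GrTi

open Groth.Agent.GrTw Groth.Agent.Lib.GrModSectH1

section RingLevel
variable {A σ : Type u} [CommRing A] [SetLike σ A] [AddSubgroupClass σ A] (𝒜 : ℕ → σ) [GradedRing 𝒜]
  {M τ : Type u} [AddCommGroup M] [Module A M] [SetLike τ M] [AddSubgroupClass τ M] (ℳ : ℕ → τ)
  [SetLike.GradedSMul 𝒜 ℳ] [DirectSum.Decomposition ℳ]

omit [SetLike.GradedSMul 𝒜 ℳ] in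
/-- The degree-`q` projection of a graded module, as an additive map. -/
def projHomM (q : ℕ) : M →+ M where
  toFun z := (DirectSum.decompose ℳ z q : M)
  map_zero' := by simp
  map_add' a b := by simp [DirectSum.decompose_add]

/-- If all sections of `M~` over `D_+(t)` vanish (`t` of degree one), every homogeneous element is killed by a
power of `t`. -/
theorem pow_smul_eq_zero_of_sections_zero {t : A} (ht : t ∈ 𝒜 1)
    (hz : ∀ s : Γ(GrMod.tilde 𝒜 ℳ 0, Proj.basicOpen 𝒜 t), s = 0) (i : ℕ) (w : M) (hw : w ∈ ℳ i) :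
    ∃ k : ℕ, t ^ k • w = 0 := by
  refine pow_smul_eq_zero' 𝒜 ℳ one_pos ht i w hw fun P hP => ?_
  have hi : (i : ℤ) = ((i • 1 : ℕ) : ℤ) + 0 := by simp
  have h1 := val_fracSecM 𝒜 ℳ ht 0 i i w hw hi ⟨P, hP⟩
  rw [hz (fracSecM 𝒜 ℳ ht 0 i i w hw hi), val_zero] at h1
  exact (mk_eq_zero_iff 𝒜 P w _).mp h1.symm

/-- **Ring level**: if `𝒜_{n+1} = ∑_{t ∈ T} 𝒜_n t` for a finite set `T` of elements of degree one, `M` satisfies (TF)
and all sections of `M~` over the `D_+(t)` vanish, then `M` satisfies (TN). -/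
theorem TN_of_sections_zero (T : Finset A) (hT1 : ∀ t ∈ T, t ∈ 𝒜 1)
    (hsucc : ∀ (n : ℕ) (a : A), a ∈ 𝒜 (n + 1) → ∃ b : A → A, (∀ t, b t ∈ 𝒜 n) ∧ a = ∑ t ∈ T, b t * t)
    (n₀ : ℕ) (hTF : (Submodule.span A (⋃ k ∈ Set.Ici n₀, (ℳ k : Set M))).FG)
    (hz : ∀ t ∈ T, ∀ s : Γ(GrMod.tilde 𝒜 ℳ 0, Proj.basicOpen 𝒜 t), s = 0) :
    ∃ N : ℕ, ∀ k, N ≤ k → ∀ m ∈ ℳ k, m = 0 := by
  classical
  obtain ⟨T', hTsub, hTspan⟩ := (Submodule.fg_span_iff_fg_span_finset_subset _).mp hTF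
  have hTdeg : ∀ x ∈ T', ∃ δ, n₀ ≤ δ ∧ x ∈ ℳ δ := by
    intro x hx
    have := hTsub hx
    simp only [Set.mem_iUnion, Set.mem_Ici, SetLike.mem_coe, exists_prop] at this
    exact this
  choose! δ hδ1 hδ2 using hTdeg
  have hpow : ∀ e : ℕ, ∀ a ∈ 𝒜 e, a ∈ (Ideal.span (T : Set A)) ^ e := by
    intro e
    induction e with
    | zero => intro a _; simp
    | succ e ih =>
      intro a ha
      obtain ⟨b, hb, rfl⟩ := hsucc e a ha
      refine Ideal.sum_mem _ fun t ht => ?_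
      rw [pow_succ]
      exact Ideal.mul_mem_mul (ih _ (hb t)) (Ideal.subset_span (Finset.mem_coe.mpr ht))
  have hrad : Ideal.span (T : Set A) ≤ ((Submodule.span A (T' : Set M)).annihilator).radical := by
    refine Ideal.span_le.mpr ?_
    intro g hg
    have hgT : g ∈ T := Finset.mem_coe.mp hg
    have hex : ∀ x ∈ T', ∃ k, g ^ k • x = 0 := fun x hx =>
      pow_smul_eq_zero_of_sections_zero 𝒜 ℳ (hT1 g hgT) (hz g hgT) (δ x) x (hδ2 x hx)
    choose! kf hkf using hex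
    refine ⟨T'.sup kf, ?_⟩
    rw [Submodule.mem_annihilator]
    intro m hm
    induction hm using Submodule.span_induction with
    | mem x hx =>
      have hle : kf x ≤ T'.sup kf := Finset.le_sup hx
      obtain ⟨q, hq⟩ := Nat.exists_eq_add_of_le hle
      rw [hq, pow_add, mul_comm, mul_smul, hkf x hx, smul_zero]
    | zero => simp
    | add a b _ _ ha hb => rw [smul_add, ha, hb, add_zero]
    | smul c a _ ha => rw [smul_comm, ha, smul_zero]
  obtain ⟨k, hk⟩ := Ideal.exists_pow_le_of_le_radical_of_fg hrad ⟨T, rfl⟩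
  refine ⟨max n₀ (T'.sup δ + k), fun q hq z hz' => ?_⟩
  have hzM' : z ∈ Submodule.span A (⋃ k ∈ Set.Ici n₀, (ℳ k : Set M)) := by
    apply Submodule.subset_span
    simp only [Set.mem_iUnion, Set.mem_Ici, SetLike.mem_coe, exists_prop]
    exact ⟨q, le_of_max_le_left hq, hz'⟩
  rw [hTspan] at hzM'
  obtain ⟨cf, -, hsum⟩ := Submodule.mem_span_finset.mp hzM'
  have h2 := congrArg (projHomM ℳ q) hsum
  rw [map_sum] at h2
  have hzq : projHomM ℳ q z = z := DirectSum.decompose_of_mem_same ℳ hz'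
  rw [hzq] at h2
  rw [← h2]
  refine Finset.sum_eq_zero fun x hx => ?_
  have hδt : δ x ≤ T'.sup δ := Finset.le_sup hx
  have hqt : (q - δ x) + δ x = q := by
    have := le_of_max_le_right hq
    omega
  have h3 := proj_smul 𝒜 ℳ x (δ x) (hδ2 x hx) (q - δ x) (cf x)
  rw [hqt] at h3
  show (DirectSum.decompose ℳ (cf x • x) q : M) = 0
  rw [← h3]
  have hmemk : (DirectSum.decompose 𝒜 (cf x) (q - δ x) : A) ∈
      (Submodule.span A (T' : Set M)).annihilator := by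
    apply hk
    apply Ideal.pow_le_pow_right (show k ≤ q - δ x by
      have := le_of_max_le_right hq
      omega)
    exact hpow _ _ (DirectSum.decompose 𝒜 (cf x) (q - δ x)).2
  exact (Submodule.mem_annihilator.mp hmemk) x (Submodule.subset_span hx)

end RingLevel

section Sheaf
variable {Y P : Scheme.{u}} {𝒮 : RelProj.QCGrAlg Y} {p : P ⟶ Y}
  {chart : ∀ (U : Y.Opens) (hU : IsAffineOpen U),
    (((p ⁻¹ᵁ U : P.Opens) : Scheme.{u}) ≅ Proj (𝒮.deg U hU))}
  {ℳ : RelProj.GrModule 𝒮} {F : P.Modules}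
  {lam : ∀ (U : Y.Opens) (hU : IsAffineOpen U),
    F ⟶ (Scheme.Modules.pushforward (RelProj.emb p chart U hU)).obj
      (GrMod.tilde (𝒮.deg U hU) (ℳ.deg U hU) 0)}

/-- The `O_Y`-module underlying a graded `𝒮`-module. -/
noncomputable abbrev osMod (ℳ : RelProj.GrModule 𝒮) : Y.Modules := (AMod.toOS 𝒮.toQCAlg).obj ℳ.mod

/-- A section of `ℳ` as a section of the underlying `O_Y`-module (the identity). -/
def toG (ℳ : RelProj.GrModule 𝒮) (V : Y.Opens) (m : ℳ.mod.val.obj (op V)) : Γ(osMod ℳ, V) := m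

/-- If `F = ℳ~` is zero, all sections of `ℳ(U)~` over opens of `Proj 𝒮(U)` vanish. -/
theorem sections_zero_of_isZero (hF : RelProj.IsRelTilde 𝒮 p chart ℳ 0 F lam) (h0 : IsZero F)
    (U : Y.Opens) (hU : IsAffineOpen U) (D : (Proj (𝒮.deg U hU)).Opens)
    (s : Γ(GrMod.tilde (𝒮.deg U hU) (ℳ.deg U hU) 0, D)) : s = 0 := by
  have hWD : (RelProj.emb p chart U hU) ⁻¹ᵁ ((RelProj.emb p chart U hU) ''ᵁ D) = D :=
    Scheme.Hom.preimage_image_eq _ _
  obtain ⟨s', rfl⟩ := toD_surjective hF U hU (image_le_preimage 𝒮 p chart U hU D) hWD s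
  rw [Groth.Agent.Lib.WeakAssSch_helper4.eq_zero_of_isZero F h0 s', map_zero]

/-- A degree bound over one affine open. -/
theorem exists_bound_affine (hgen : 𝒮.IsGenDegOne) (hft : 𝒮.IsFTDeg 1) (hTF : ℳ.IsTF)
    (hF : RelProj.IsRelTilde 𝒮 p chart ℳ 0 F lam) (h0 : IsZero F) (U : Y.Opens)
    (hU : IsAffineOpen U) :
    ∃ N : ℕ, ∀ k, N ≤ k → ∀ m ∈ ℳ.deg U hU k, m = 0 := by
  obtain ⟨T, hT1, hspan⟩ := hft U hU
  obtain ⟨n₀, hn₀⟩ := hTF
  have hT1' : ∀ t ∈ T, t ∈ 𝒮.deg U hU 1 := fun t ht => hT1 (Finset.mem_coe.mpr ht)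
  refine TN_of_sections_zero (𝒮.deg U hU) (ℳ.deg U hU) T hT1' ?_ n₀ (hn₀ U hU)
    (fun t _ s => sections_zero_of_isZero hF h0 U hU _ s)
  refine Groth.Agent.Lib.GenDegOne_helper3.exists_sum_of_mem_succ (𝒮.deg U hU) (𝒮.strZero U hU).hom T
    hT1' (fun x hx => ?_) (hgen U hU)
  obtain ⟨c, hc⟩ := hspan x hx
  exact ⟨c, hc⟩

/-- Vanishing of a graded piece passes to basic opens (quasi-coherence). -/
theorem deg_eq_zero_basicOpen (hℳ : Coh.IsQCoh ((AMod.toOS 𝒮.toQCAlg).obj ℳ.mod)) (U : Y.Opens)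
    (hU : IsAffineOpen U) (g : Γ(Y, U)) (k : ℕ) (hk : ∀ m ∈ ℳ.deg U hU k, m = 0)
    (m' : ℳ.mod.val.obj (op (Y.basicOpen g)))
    (hm' : m' ∈ ℳ.deg (Y.basicOpen g) (hU.basicOpen g) k) : m' = 0 := by
  haveI : (osMod ℳ).IsQuasicoherent := hℳ
  have hloc := QCohCrit.locOnU_of_isQuasicoherent (osMod ℳ) hU g
  have hW := hU.basicOpen g
  have hle : Y.basicOpen g ≤ U := Y.basicOpen_le g
  obtain ⟨n, m₀, hnm⟩ := hloc.surj (toG ℳ _ m')
  have hunit : IsUnit ((Y.presheaf.map (homOfLE hle).op).hom g) := by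
    letI := ((Y.presheaf.map (homOfLE hle).op).hom).toAlgebra
    haveI := hloc.isLoc
    exact IsLocalization.Away.algebraMap_isUnit g
  have h1 : (((𝒮.str.app (op (Y.basicOpen g))).hom (((Y.presheaf.map (homOfLE hle).op).hom g) ^ n) :
      𝒮.presheaf.obj (op (Y.basicOpen g))) • m') ∈ ℳ.deg (Y.basicOpen g) hW k := by
    have := SetLike.GradedSMul.smul_mem (A := 𝒮.deg _ hW) (B := ℳ.deg _ hW)
      (𝒮.str_mem _ hW (((Y.presheaf.map (homOfLE hle).op).hom g) ^ n)) hm'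
    simpa [vadd_eq_add] using this
  have h2 : (((𝒮.str.app (op (Y.basicOpen g))).hom (((Y.presheaf.map (homOfLE hle).op).hom g) ^ n) :
      𝒮.presheaf.obj (op (Y.basicOpen g))) • m') = ℳ.res hU hW hle m₀ := hnm
  have h3 := decompose_map (𝒮.res hU hW hle) (ℳ.deg U hU) (ℳ.deg _ hW) (ℳ.res hU hW hle)
    (fun i m hm => ℳ.res_mem hU hW hle i m hm) m₀ k
  rw [← h2, DirectSum.decompose_of_mem_same _ h1, hk _ (SetLike.coe_mem _), map_zero] at h3
  have h4 : (((Y.presheaf.map (homOfLE hle).op).hom g) ^ n) • (toG ℳ _ m') = 0 := h3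
  have h5 : toG ℳ _ m' = 0 := (hunit.pow n).smul_eq_zero.mp h4
  exact h5

/-- **`ℳ~ = 0` and (TF) imply (TN)** over a quasi-compact base, for `𝒮` generated in degree one with `𝒮_1` of finite
type and `ℳ` quasi-coherent. -/
theorem isTN_of_isZero [CompactSpace Y] (hgen : 𝒮.IsGenDegOne) (hft : 𝒮.IsFTDeg 1)
    (hℳ : Coh.IsQCoh ((AMod.toOS 𝒮.toQCAlg).obj ℳ.mod)) (hTF : ℳ.IsTF)
    (hF : RelProj.IsRelTilde 𝒮 p chart ℳ 0 F lam) (h0 : IsZero F) : ℳ.IsTN := by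
  classical
  have hb := fun (U : Y.affineOpens) => exists_bound_affine hgen hft hTF hF h0 U.1 U.2
  choose Nf hNf using hb
  obtain ⟨t, ht⟩ := isCompact_univ.elim_finite_subcover
    (fun U : Y.affineOpens => ((U : Y.Opens) : Set Y)) (fun U => (U : Y.Opens).isOpen) (by
      intro y _
      obtain ⟨U, hU, hyU, -⟩ := Opens.isBasis_iff_nbhd.mp Y.isBasis_affineOpens
        (show y ∈ (⊤ : Y.Opens) from trivial)
      exact Set.mem_iUnion.mpr ⟨⟨U, hU⟩, hyU⟩)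
  refine ⟨t.sup Nf, fun V hV k hk m hm => ?_⟩
  have key : toG ℳ V m = 0 := by
    refine QcqsLoc.eq_zero_of_cover (osMod ℳ) (toG ℳ V m) ?_
    intro y hyV
    have hy : y ∈ ⋃ i ∈ t, ((i : Y.Opens) : Set Y) := ht (Set.mem_univ y)
    simp only [Set.mem_iUnion] at hy
    obtain ⟨U, hUt, hyU⟩ := hy
    obtain ⟨f, g, hfg, hyf⟩ := exists_basicOpen_le_affine_inter hV U.2 y ⟨hyV, hyU⟩
    have hWV : Y.basicOpen g ≤ V := hfg ▸ Y.basicOpen_le f
    refine ⟨Y.basicOpen g, hWV, hfg ▸ hyf, ?_⟩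
    have hkU : ∀ m ∈ ℳ.deg U.1 U.2 k, m = 0 := hNf U k ((Finset.le_sup hUt).trans hk)
    exact deg_eq_zero_basicOpen hℳ U.1 U.2 g k hkU _ (ℳ.map_mem hV (U.2.basicOpen g) hWV hm)
  exact key

end Sheaf

end Groth.Agent.GrTi
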