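import Mathlib
import Groth.Prelude
import Groth.Agent.Lib.GrTwGlue_helper5
import Groth.Agent.Lib.GrTwMul_helper5

/-!
# Relative twisting sheaves: reading values and chart points in a smaller chart; generators from
fractions (helper5).
APPEND-ONLY once landed.
-/

set_option autoImplicit false
universe u
open CategoryTheory CategoryTheory.Limits AlgebraicGeometry TopologicalSpace Opposite DirectSum
open HomogeneousLocalization

namespace Groth.Agent.GrTw

section Abs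
variable {A σ : Type u} [CommRing A] [SetLike σ A] [AddSubgroupClass σ A] (𝒜 : ℕ → σ)
  [GradedRing 𝒜]

/-- A fraction with nowhere vanishing numerator and denominator generates `O(n)`. -/
theorem isGen_fracSecN {i j : ℕ} (a : A) (ha : a ∈ 𝒜 i) (t : A) (ht : t ∈ 𝒜 j) (n : ℤ)
    (hij : (i : ℤ) = j + n) (O : (Proj 𝒜).Opens)
    (hO₁ : ∀ x : O, t ∉ x.1.asHomogeneousIdeal) (hO₂ : ∀ x : O, a ∉ x.1.asHomogeneousIdeal) :
    GenLocH8.IsGen (GrTwist.twist 𝒜 n) O (fracSecN 𝒜 n a ha t ht hij O hO₁) := by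
  refine isGen_of_inverse' 𝒜 n (-n) (by omega) O (fracSecN 𝒜 n a ha t ht hij O hO₁)
    (fracSecN 𝒜 (-n) t ht a ha (by omega) O hO₂) (fun x => ?_)
  exact mk_mul_mk_swap t a (hO₁ x) (hO₂ x)

end Abs

section Rel
variable {Y P : Scheme.{u}} {𝒮 : RelProj.QCGrAlg Y} {p : P ⟶ Y}
  {chart : ∀ (U : Y.Opens) (hU : IsAffineOpen U),
    (((p ⁻¹ᵁ U : P.Opens) : Scheme.{u}) ≅ Proj (𝒮.deg U hU))}
  {n : ℤ} {L : P.Modules}
  {lam : ∀ (U : Y.Opens) (hU : IsAffineOpen U),
    L ⟶ (Scheme.Modules.pushforward (RelProj.emb p chart U hU)).obj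
      (GrTwist.twist (𝒮.deg U hU) n)}

/-- A generator of the chart twisting sheaf gives a generator of the relative twisting sheaf. -/
theorem exists_isGen_of_chartGen (hM : RelProj.IsRelTwist 𝒮 p chart n L lam) (U : Y.Opens)
    (hU : IsAffineOpen U) (W : P.Opens) (hWr : W ≤ (RelProj.emb p chart U hU).opensRange)
    (t : Γ(GrTwist.twist (𝒮.deg U hU) n, (RelProj.emb p chart U hU) ⁻¹ᵁ W))
    (ht : GenLocH8.IsGen (GrTwist.twist (𝒮.deg U hU) n) ((RelProj.emb p chart U hU) ⁻¹ᵁ W) t) :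
    ∃ e : Γ(L, W), chartSec 𝒮 p chart n L lam U hU W e = t ∧ GenLocH8.IsGen L W e := by
  have hWU : W ≤ p ⁻¹ᵁ U := hWr.trans (opensRange_emb 𝒮 p chart U hU).le
  have hbij : ∀ O : P.Opens, O ≤ W → Function.Bijective (QCohExtn.ap (lam U hU) O) :=
    fun O hO => hM.bijective U hU O (hO.trans hWU)
  obtain ⟨e, hee⟩ := (hbij W le_rfl).2 t
  refine ⟨e, hee,
    isGen_of_pushforward_bij (RelProj.emb p chart U hU) _ L (lam U hU) W hWr hbij e ?_⟩
  rw [hee]
  exact ht

/-- A chart point over a basic open lies in `D_+(a)` of the bigger chart iff the restriction of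
`a` does not vanish at it. -/
theorem emb_mem_image_basicOpen_iff (hP : RelProj.IsRelProj 𝒮 p chart) (V : Y.Opens)
    (hV : IsAffineOpen V) (ρ : Γ(Y, V)) (D : Y.Opens) (hD : D = Y.basicOpen ρ)
    (hDaff : IsAffineOpen D) (hDV : D ≤ V) (x'' : ProjectiveSpectrum (𝒮.deg D hDaff))
    (a : 𝒮.presheaf.obj (op V)) :
    (RelProj.emb p chart D hDaff).base x'' ∈
        (RelProj.emb p chart V hV) ''ᵁ Proj.basicOpen (𝒮.deg V hV) a ↔
      (𝒮.presheaf.map (homOfLE hDV).op).hom a ∉ x''.asHomogeneousIdeal := by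
  subst hD
  rw [← emb_comap hP V hV ρ x'']
  constructor
  · rintro ⟨z, hz, hzz⟩
    have hzc : z = ProjectiveSpectrum.comap (𝒮.res hV (hV.basicOpen ρ) (Y.basicOpen_le ρ))
        (𝒮.irrelevant_le_map V hV ρ) x'' :=
      (RelProj.emb p chart V hV).isOpenEmbedding.injective hzz
    rw [hzc] at hz
    exact (Proj.mem_basicOpen _ _ _).mp hz
  · intro h
    exact ⟨_, (Proj.mem_basicOpen _ _ _).mpr h, rfl⟩

/-- Values of a section in the chart over a basic open, from a fraction formula in the bigger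
chart. -/
theorem val_chartSec_basic (hL : RelProj.IsRelTwist 𝒮 p chart n L lam)
    (hP : RelProj.IsRelProj 𝒮 p chart) (V : Y.Opens) (hV : IsAffineOpen V) (ρ : Γ(Y, V))
    (D : Y.Opens) (hD : D = Y.basicOpen ρ) (hDaff : IsAffineOpen D) (hDV : D ≤ V)
    (W : P.Opens) (s : Γ(L, W)) (x'' : ProjectiveSpectrum (𝒮.deg D hDaff))
    (hx'' : (RelProj.emb p chart D hDaff).base x'' ∈ W)
    (b t : 𝒮.presheaf.obj (op V))
    (ht'' : (𝒮.presheaf.map (homOfLE hDV).op).hom t ∉ x''.asHomogeneousIdeal)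
    (hval : ∀ (x : ProjectiveSpectrum (𝒮.deg V hV))
      (hx : (RelProj.emb p chart V hV).base x ∈ W) (ht : t ∉ x.asHomogeneousIdeal),
      GrTwist.val (chartSec 𝒮 p chart n L lam V hV W s) ⟨x, hx⟩ = Localization.mk b ⟨t, ht⟩) :
    GrTwist.val (chartSec 𝒮 p chart n L lam D hDaff W s) ⟨x'', hx''⟩ =
      Localization.mk ((𝒮.presheaf.map (homOfLE hDV).op).hom b)
        ⟨(𝒮.presheaf.map (homOfLE hDV).op).hom t, ht''⟩ := by
  subst hD
  have hy' : (RelProj.emb p chart V hV) (ProjectiveSpectrum.comap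
      (𝒮.res hV (hV.basicOpen ρ) (Y.basicOpen_le ρ)) (𝒮.irrelevant_le_map V hV ρ) x'') ∈ W := by
    rw [emb_comap hP V hV ρ x'']
    exact hx''
  have h1 := hL.compat V hV ρ W s x'' hx'' hy'
  refine h1.trans ?_
  have ht : t ∉ (ProjectiveSpectrum.comap (𝒮.res hV (hV.basicOpen ρ) (Y.basicOpen_le ρ))
      (𝒮.irrelevant_le_map V hV ρ) x'').asHomogeneousIdeal := ht''
  have h2 := hval _ hy' ht
  have h3 : GrTwist.val (V := RelProj.emb p chart V hV ⁻¹ᵁ W) ((lam V hV).app W s) ⟨_, hy'⟩ =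
      Localization.mk b ⟨t, ht⟩ := h2
  rw [h3, GrTwist.locMap_mk]
  rfl

end Rel

end Groth.Agent.GrTw
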