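import Mathlib
import Groth.Prelude.Def_GrLC
import Groth.Agent.Lib.Regular_helper5

/-! A Noetherian regular `ℤ`-graded ring `R` with `R₀` local and a homogeneous unit `t` of minimal
positive degree `N`: the quotient `R/(t-1)` is a regular local ring (helper1). -/

set_option autoImplicit false
set_option maxHeartbeats 400000

namespace Groth.Agent.Lib.GrUnitRegH1

open DirectSum IsLocalRing

universe u

theorem mk_zpow {R : Type u} [CommRing R] {t : R} (v : Rˣ) (hv : (v : R) = t) (k : ℤ) :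
    Ideal.Quotient.mk (Ideal.span {t - 1}) (((v ^ k : Rˣ)) : R) = 1 := by
  have h1 : Units.map (Ideal.Quotient.mk (Ideal.span {t - 1})).toMonoidHom v = 1 := by
    apply Units.ext
    rw [Units.coe_map, Units.val_one]
    show Ideal.Quotient.mk (Ideal.span {t - 1}) (v : R) = 1
    rw [hv, ← map_one (Ideal.Quotient.mk (Ideal.span {t - 1}))]
    exact Ideal.Quotient.eq.2 (Ideal.mem_span_singleton_self _)
  have h2 : Units.map (Ideal.Quotient.mk (Ideal.span {t - 1})).toMonoidHom (v ^ k) = 1 := by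
    rw [map_zpow, h1, one_zpow]
  have h3 := congrArg Units.val h2
  rw [Units.coe_map, Units.val_one] at h3
  exact h3

theorem sq_le {R : Type u} [CommRing R] (P M : Ideal R) (x : R)
    (h : P ≤ M ⊔ Ideal.span {x}) : P ^ 2 ≤ M ⊔ Ideal.span {x * x} := by
  rw [pow_two]
  refine (Ideal.mul_mono h h).trans ?_
  rw [Ideal.sup_mul, Ideal.mul_sup, Ideal.mul_sup]
  refine sup_le (sup_le ?_ ?_) (sup_le ?_ ?_)
  · exact le_sup_of_le_left Ideal.mul_le_left
  · exact le_sup_of_le_left Ideal.mul_le_left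
  · exact le_sup_of_le_left Ideal.mul_le_right
  · rw [Ideal.span_singleton_mul_span_singleton]
    exact le_sup_right

section graded

variable {R : Type u} [CommRing R] (𝒜 : ℤ → AddSubgroup R) [GradedRing 𝒜]

theorem inv_mem {t : R} {n : ℤ} (ht : t ∈ 𝒜 n) (v : Rˣ) (hv : (v : R) = t) :
    ((v⁻¹ : Rˣ) : R) ∈ 𝒜 (-n) := by
  have h1 : (decompose 𝒜 (t * ((v⁻¹ : Rˣ) : R)) (n + (-n)) : R) =
      t * (decompose 𝒜 ((v⁻¹ : Rˣ) : R) (-n) : R) :=
    coe_decompose_mul_add_of_left_mem 𝒜 ht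
  have h2 : t * ((v⁻¹ : Rˣ) : R) = 1 := by
    rw [← hv]
    exact v.mul_inv
  rw [h2, add_neg_cancel, decompose_of_mem_same 𝒜 SetLike.GradedOne.one_mem] at h1
  have h4 : ((v⁻¹ : Rˣ) : R) * (t * (decompose 𝒜 ((v⁻¹ : Rˣ) : R) (-n) : R)) =
      (decompose 𝒜 ((v⁻¹ : Rˣ) : R) (-n) : R) := by
    rw [← mul_assoc, ← hv, Units.inv_mul, one_mul]
  rw [← h1, mul_one] at h4
  rw [h4]
  exact (decompose 𝒜 ((v⁻¹ : Rˣ) : R) (-n)).2

theorem zpow_mem {t : R} {n : ℤ} (ht : t ∈ 𝒜 n) (v : Rˣ) (hv : (v : R) = t) (k : ℤ) :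
    ((v ^ k : Rˣ) : R) ∈ 𝒜 (k * n) := by
  obtain ⟨m, rfl | rfl⟩ := Int.eq_nat_or_neg k
  · rw [zpow_natCast, Units.val_pow_eq_pow_val, hv]
    have h := SetLike.pow_mem_graded m ht
    rwa [nsmul_eq_mul] at h
  · rw [zpow_neg, zpow_natCast, ← inv_pow, Units.val_pow_eq_pow_val]
    have h := SetLike.pow_mem_graded m (inv_mem 𝒜 ht v hv)
    rw [nsmul_eq_mul] at h
    have e : (m : ℤ) * -n = -(m : ℤ) * n := by ring
    rwa [e] at h

variable (N : ℕ) (hN : 0 < N) {t : R} (ht : t ∈ 𝒜 (N : ℤ)) (v : Rˣ) (hv : (v : R) = t)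

include hN ht hv in
theorem dvd_of_isUnit (hmin : ∀ (n : ℤ), 0 < n → n < (N : ℤ) → ∀ s ∈ 𝒜 n, ¬ IsUnit s)
    {i : ℤ} {h : R} (hh : h ∈ 𝒜 i) (hu : IsUnit h) : (N : ℤ) ∣ i := by
  have hNpos : (0 : ℤ) < N := by exact_mod_cast hN
  have h1 : h * ((v ^ (-(i / (N : ℤ))) : Rˣ) : R) ∈ 𝒜 (i % (N : ℤ)) := by
    have h2 := SetLike.GradedMul.mul_mem hh (zpow_mem 𝒜 ht v hv (-(i / (N : ℤ))))
    have h3 : i + -(i / (N : ℤ)) * N = i % (N : ℤ) := by
      rw [Int.emod_def]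
      ring
    rwa [h3] at h2
  have h4 : IsUnit (h * ((v ^ (-(i / (N : ℤ))) : Rˣ) : R)) := hu.mul (Units.isUnit _)
  by_contra hnd
  have h5 : i % (N : ℤ) ≠ 0 := fun h0 => hnd (Int.dvd_of_emod_eq_zero h0)
  have h6 : 0 < i % (N : ℤ) := lt_of_le_of_ne (Int.emod_nonneg i hNpos.ne') (Ne.symm h5)
  exact hmin _ h6 (Int.emod_lt_of_pos i hNpos) _ h1 h4

include hN ht hv in
theorem exists_c {i : ℤ} {h : R} (hh : h ∈ 𝒜 i) :
    ∃ c ∈ 𝒜 0, Ideal.Quotient.mk (Ideal.span {t - 1}) c =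
      (Ideal.Quotient.mk (Ideal.span {t - 1}) h) ^ N ∧ (IsUnit c → IsUnit h) := by
  refine ⟨h ^ N * ((v ^ (-i) : Rˣ) : R), ?_, ?_, ?_⟩
  · have h2 := SetLike.GradedMul.mul_mem (SetLike.pow_mem_graded N hh) (zpow_mem 𝒜 ht v hv (-i))
    have h3 : N • i + -i * (N : ℤ) = 0 := by
      rw [nsmul_eq_mul]
      ring
    rwa [h3] at h2
  · rw [map_mul, map_pow, mk_zpow v hv, mul_one]
  · intro hc
    have h4 : IsUnit (h ^ N) := by
      have h5 : h ^ N = h ^ N * ((v ^ (-i) : Rˣ) : R) * ((v ^ i : Rˣ) : R) := by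
        rw [mul_assoc, ← Units.val_mul, ← zpow_add, neg_add_cancel, zpow_zero, Units.val_one,
          mul_one]
      rw [h5]
      exact hc.mul (Units.isUnit _)
    exact (isUnit_pow_iff hN.ne').1 h4

/-- `R₀ → R/(t-1)` -/
noncomputable def φ₀ (t : R) : GrLC.deg0 𝒜 →+* R ⧸ Ideal.span {t - 1} :=
  (Ideal.Quotient.mk (Ideal.span {t - 1})).comp (GrLC.deg0 𝒜).subtype

include hN ht hv in
theorem isIntegral_φ₀ : (φ₀ 𝒜 t).IsIntegral := by
  intro x
  obtain ⟨r, rfl⟩ := Ideal.Quotient.mk_surjective x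
  refine DirectSum.Decomposition.inductionOn 𝒜
    (motive := fun r => (φ₀ 𝒜 t).IsIntegralElem (Ideal.Quotient.mk (Ideal.span {t - 1}) r))
    ?_ ?_ ?_ r
  · rw [map_zero]
    exact (φ₀ 𝒜 t).isIntegralElem_zero
  · intro i m
    obtain ⟨c, hc0, hc, -⟩ := exists_c 𝒜 N hN ht v hv m.2
    refine ⟨Polynomial.X ^ N - Polynomial.C (⟨c, hc0⟩ : GrLC.deg0 𝒜),
      Polynomial.monic_X_pow_sub_C _ hN.ne', ?_⟩
    rw [Polynomial.eval₂_sub, Polynomial.eval₂_pow, Polynomial.eval₂_X, Polynomial.eval₂_C]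
    show _ - Ideal.Quotient.mk (Ideal.span {t - 1}) c = 0
    rw [hc, sub_self]
  · intro m m' h1 h2
    rw [map_add]
    exact RingHom.IsIntegralElem.add _ h1 h2

include hN ht hv in
/-- homogeneous non-units lie in every maximal ideal of `R/(t-1)` -/
theorem mk_mem_of_not_isUnit [IsLocalRing (GrLC.deg0 𝒜)]
    (𝔫 : Ideal (R ⧸ Ideal.span {t - 1})) [𝔫.IsMaximal] {i : ℤ} {h : R} (hh : h ∈ 𝒜 i)
    (hnu : ¬ IsUnit h) : Ideal.Quotient.mk (Ideal.span {t - 1}) h ∈ 𝔫 := by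
  obtain ⟨c, hc0, hc, hcu⟩ := exists_c 𝒜 N hN ht v hv hh
  have hmax : (𝔫.comap (φ₀ 𝒜 t)).IsMaximal :=
    Ideal.isMaximal_comap_of_isIntegral_of_isMaximal' (φ₀ 𝒜 t) (isIntegral_φ₀ 𝒜 N hN ht v hv) 𝔫
  have heq : 𝔫.comap (φ₀ 𝒜 t) = maximalIdeal (GrLC.deg0 𝒜) := IsLocalRing.eq_maximalIdeal hmax
  have hmem : (⟨c, hc0⟩ : GrLC.deg0 𝒜) ∈ maximalIdeal (GrLC.deg0 𝒜) := by
    rw [IsLocalRing.mem_maximalIdeal, mem_nonunits_iff]
    intro hu
    exact hnu (hcu (hu.map (GrLC.deg0 𝒜).subtype))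
  rw [← heq, Ideal.mem_comap] at hmem
  have h1 : Ideal.Quotient.mk (Ideal.span {t - 1}) c ∈ 𝔫 := hmem
  rw [hc] at h1
  exact (Ideal.IsMaximal.isPrime inferInstance).mem_of_pow_mem N h1

include ht hv in
theorem decomp_mod (r : R) : ∃ c ∈ 𝒜 0,
    r - c ∈ Ideal.span {h | ∃ i : ℤ, ¬ (N : ℤ) ∣ i ∧ h ∈ 𝒜 i} ⊔ Ideal.span {t - 1} := by
  refine DirectSum.Decomposition.inductionOn 𝒜
    (motive := fun r => ∃ c ∈ 𝒜 0,
      r - c ∈ Ideal.span {h | ∃ i : ℤ, ¬ (N : ℤ) ∣ i ∧ h ∈ 𝒜 i} ⊔ Ideal.span {t - 1})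
    ?_ ?_ ?_ r
  · exact ⟨0, zero_mem _, by rw [sub_zero]; exact zero_mem _⟩
  · intro i m
    by_cases hd : (N : ℤ) ∣ i
    · obtain ⟨k, rfl⟩ := hd
      refine ⟨(m : R) * ((v ^ (-k) : Rˣ) : R), ?_, ?_⟩
      · have h2 := SetLike.GradedMul.mul_mem m.2 (zpow_mem 𝒜 ht v hv (-k))
        have h3 : (N : ℤ) * k + -k * (N : ℤ) = 0 := by ring
        rwa [h3] at h2
      · apply Ideal.mem_sup_right
        rw [← Ideal.Quotient.eq_zero_iff_mem, map_sub, map_mul, mk_zpow v hv, mul_one, sub_self]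
    · refine ⟨0, zero_mem _, ?_⟩
      rw [sub_zero]
      exact Ideal.mem_sup_left (Ideal.subset_span ⟨i, hd, m.2⟩)
  · rintro m m' ⟨c, hc, h1⟩ ⟨c', hc', h2⟩
    refine ⟨c + c', add_mem hc hc', ?_⟩
    have e : m + m' - (c + c') = (m - c) + (m' - c') := by ring
    rw [e]
    exact add_mem h1 h2

include ht in
theorem not_isUnit_sub_one [Nontrivial R] (hN : 0 < N) (htu : IsUnit t) : ¬ IsUnit (t - 1) := by
  classical
  rintro ⟨w, hw⟩
  have hNpos : (0 : ℤ) < N := by exact_mod_cast hN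
  set s : R := ((w⁻¹ : Rˣ) : R) with hs_def
  have hs : (t - 1) * s = 1 := by
    rw [← hw]
    exact w.mul_inv
  have hrel : ∀ d : ℤ, t * (decompose 𝒜 s (d - N) : R) - (decompose 𝒜 s d : R) =
      if d = 0 then 1 else 0 := by
    intro d
    have h1 : (decompose 𝒜 ((t - 1) * s) d : R) =
        t * (decompose 𝒜 s (d - N) : R) - (decompose 𝒜 s d : R) := by
      have h2 : (t - 1) * s = t * s - s := by ring
      rw [h2, decompose_sub, DirectSum.sub_apply, AddSubgroupClass.coe_sub]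
      have h3 : (decompose 𝒜 (t * s) ((N : ℤ) + (d - N)) : R) =
          t * (decompose 𝒜 s (d - N) : R) := coe_decompose_mul_add_of_left_mem 𝒜 ht
      rw [show (N : ℤ) + (d - N) = d by ring] at h3
      rw [h3]
    rw [hs] at h1
    rw [← h1]
    by_cases hd : d = 0
    · rw [if_pos hd, hd]
      exact decompose_of_mem_same 𝒜 SetLike.GradedOne.one_mem
    · rw [if_neg hd]
      exact decompose_of_mem_ne 𝒜 SetLike.GradedOne.one_mem (Ne.symm hd)
  have hstep : ∀ d : ℤ, d ≠ 0 → ((decompose 𝒜 s d : R) ≠ 0 ↔ (decompose 𝒜 s (d - N) : R) ≠ 0) := by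
    intro d hd
    have h1 := hrel d
    rw [if_neg hd, sub_eq_zero] at h1
    rw [← h1]
    exact (htu.mul_right_eq_zero).not
  have hfin : {d : ℤ | (decompose 𝒜 s d : R) ≠ 0}.Finite := by
    apply (DFinsupp.support (decompose 𝒜 s)).finite_toSet.subset
    intro d hd
    rw [Finset.mem_coe, DFinsupp.mem_support_iff]
    intro h0
    apply hd
    rw [h0]
    rfl
  by_cases hne : (hfin.toFinset).Nonempty
  · have hmax := Finset.max'_mem _ hne
    have hmin := Finset.min'_mem _ hne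
    rw [Set.Finite.mem_toFinset, Set.mem_setOf_eq] at hmax hmin
    set d₁ := (hfin.toFinset).max' hne with hd₁
    set d₀ := (hfin.toFinset).min' hne with hd₀
    have h01 : d₀ ≤ d₁ := Finset.min'_le _ _ (Finset.max'_mem _ hne)
    have hd1 : d₁ + N = 0 := by
      by_contra hne1
      have h2 := (hstep (d₁ + N) hne1).2 (by rwa [add_sub_cancel_right])
      have h3 : d₁ + N ∈ hfin.toFinset := by
        rw [Set.Finite.mem_toFinset, Set.mem_setOf_eq]
        exact h2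
      have h4 := Finset.le_max' _ _ h3
      linarith
    have hd0 : d₀ ≠ 0 := by
      intro h0
      linarith
    have h5 := (hstep d₀ hd0).1 hmin
    have h6 : d₀ - N ∈ hfin.toFinset := by
      rw [Set.Finite.mem_toFinset, Set.mem_setOf_eq]
      exact h5
    have h7 := Finset.min'_le _ _ h6
    linarith
  · rw [Finset.not_nonempty_iff_eq_empty] at hne
    have hall : ∀ d : ℤ, (decompose 𝒜 s d : R) = 0 := by
      intro d
      by_contra hd
      have : d ∈ hfin.toFinset := by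
        rw [Set.Finite.mem_toFinset, Set.mem_setOf_eq]
        exact hd
      rw [hne] at this
      exact absurd this (Finset.notMem_empty d)
    have h1 := hrel 0
    rw [if_pos rfl, hall, hall, mul_zero, sub_zero] at h1
    exact zero_ne_one h1

end graded

section main

variable {R : Type u} [CommRing R] (𝒜 : ℤ → AddSubgroup R) [GradedRing 𝒜]
  [IsLocalRing (GrLC.deg0 𝒜)]
  (N : ℕ) (hN : 0 < N) {t : R} (ht : t ∈ 𝒜 (N : ℤ)) (htu : IsUnit t)
  (hmin : ∀ (n : ℤ), 0 < n → n < (N : ℤ) → ∀ s ∈ 𝒜 n, ¬ IsUnit s)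

/-- homogeneous non-units -/
def Hset : Set R := {h | SetLike.IsHomogeneousElem 𝒜 h ∧ ¬ IsUnit h}

include hN ht htu hmin in
theorem span_le_span : Ideal.span {h | ∃ i : ℤ, ¬ (N : ℤ) ∣ i ∧ h ∈ 𝒜 i} ≤ Ideal.span (Hset 𝒜) := by
  apply Ideal.span_mono
  rintro h ⟨i, hi, hh⟩
  exact ⟨⟨i, hh⟩, fun hu => hi (dvd_of_isUnit 𝒜 N hN ht htu.unit htu.unit_spec hmin hh hu)⟩

include hN ht htu hmin in
theorem eq_map_span (𝔫 : Ideal (R ⧸ Ideal.span {t - 1})) [𝔫.IsMaximal] :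
    𝔫 = (Ideal.span (Hset 𝒜)).map (Ideal.Quotient.mk (Ideal.span {t - 1})) := by
  have hJle : (Ideal.span (Hset 𝒜)).map (Ideal.Quotient.mk (Ideal.span {t - 1})) ≤ 𝔫 := by
    rw [Ideal.map_le_iff_le_comap, Ideal.span_le]
    rintro h ⟨⟨i, hh⟩, hnu⟩
    exact mk_mem_of_not_isUnit 𝒜 N hN ht htu.unit htu.unit_spec 𝔫 hh hnu
  apply le_antisymm _ hJle
  intro x hx
  obtain ⟨r, rfl⟩ := Ideal.Quotient.mk_surjective x
  obtain ⟨c, hc0, hrc⟩ := decomp_mod 𝒜 N ht htu.unit htu.unit_spec r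
  have h1 : Ideal.Quotient.mk (Ideal.span {t - 1}) (r - c) ∈
      (Ideal.span (Hset 𝒜)).map (Ideal.Quotient.mk (Ideal.span {t - 1})) := by
    obtain ⟨a, ha, b, hb, hab⟩ := Submodule.mem_sup.1 hrc
    rw [← hab, map_add, Ideal.Quotient.eq_zero_iff_mem.2 hb, add_zero]
    exact Ideal.mem_map_of_mem _ (span_le_span 𝒜 N hN ht htu hmin ha)
  have h2 : Ideal.Quotient.mk (Ideal.span {t - 1}) c ∈ 𝔫 := by
    have e : Ideal.Quotient.mk (Ideal.span {t - 1}) c =
        Ideal.Quotient.mk (Ideal.span {t - 1}) r - Ideal.Quotient.mk (Ideal.span {t - 1}) (r - c) := by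
      rw [map_sub]
      ring
    rw [e]
    exact sub_mem hx (hJle h1)
  have h3 : ¬ IsUnit c := fun hu =>
    (Ideal.IsMaximal.ne_top inferInstance)
      (Ideal.eq_top_of_isUnit_mem _ h2 (hu.map (Ideal.Quotient.mk (Ideal.span {t - 1}))))
  have h4 : Ideal.Quotient.mk (Ideal.span {t - 1}) c ∈
      (Ideal.span (Hset 𝒜)).map (Ideal.Quotient.mk (Ideal.span {t - 1})) :=
    Ideal.mem_map_of_mem _ (Ideal.subset_span ⟨⟨0, hc0⟩, h3⟩)
  have e : Ideal.Quotient.mk (Ideal.span {t - 1}) r =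
      Ideal.Quotient.mk (Ideal.span {t - 1}) c + Ideal.Quotient.mk (Ideal.span {t - 1}) (r - c) := by
    rw [map_sub]
    ring
  rw [e]
  exact add_mem h4 h1

include hN ht htu hmin in
theorem isLocalRing_quot : IsLocalRing (R ⧸ Ideal.span {t - 1}) := by
  haveI : Nontrivial R := (GrLC.deg0 𝒜).subtype_injective.nontrivial
  have hne : Ideal.span {t - 1} ≠ ⊤ := by
    rw [Ne, Ideal.span_singleton_eq_top]
    exact not_isUnit_sub_one 𝒜 N ht hN htu
  haveI : Nontrivial (R ⧸ Ideal.span {t - 1}) := Ideal.Quotient.nontrivial_iff.2 hne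
  obtain ⟨𝔫₀, h𝔫₀⟩ := Ideal.exists_maximal (R ⧸ Ideal.span {t - 1})
  refine IsLocalRing.of_unique_max_ideal ⟨𝔫₀, h𝔫₀, fun 𝔫 h𝔫 => ?_⟩
  haveI := h𝔫
  haveI := h𝔫₀
  exact (eq_map_span 𝒜 N hN ht htu hmin 𝔫).trans (eq_map_span 𝒜 N hN ht htu hmin 𝔫₀).symm

include hN ht htu hmin in
theorem main (hreg : ∀ (p : Ideal R) [p.IsPrime], IsRegularLocalRing (Localization.AtPrime p)) :
    IsRegularLocalRing (R ⧸ Ideal.span {t - 1}) := by
  haveI hloc : IsLocalRing (R ⧸ Ideal.span {t - 1}) := isLocalRing_quot 𝒜 N hN ht htu hmin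
  obtain ⟨P, hP⟩ : ∃ P : Ideal R,
    P = (maximalIdeal (R ⧸ Ideal.span {t - 1})).comap (Ideal.Quotient.mk (Ideal.span {t - 1})) :=
    ⟨_, rfl⟩
  have hmemP : ∀ r : R, r ∈ P ↔
      Ideal.Quotient.mk (Ideal.span {t - 1}) r ∈ maximalIdeal (R ⧸ Ideal.span {t - 1}) := by
    intro r
    rw [hP, Ideal.mem_comap]
  haveI hPmax : P.IsMaximal := by
    rw [hP]
    exact Ideal.comap_isMaximal_of_surjective _ Ideal.Quotient.mk_surjective
  haveI hPprime : P.IsPrime := hPmax.isPrime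
  have hxP : t - 1 ∈ P := by
    rw [hmemP, Ideal.Quotient.eq_zero_iff_mem.2 (Ideal.mem_span_singleton_self _)]
    exact zero_mem _
  have hHP : ∀ {i : ℤ} {h : R}, h ∈ 𝒜 i → ¬ IsUnit h → h ∈ P := by
    intro i h hh hnu
    rw [hmemP]
    exact mk_mem_of_not_isUnit 𝒜 N hN ht htu.unit htu.unit_spec
      (maximalIdeal (R ⧸ Ideal.span {t - 1})) hh hnu
  obtain ⟨𝔐, h𝔐⟩ : ∃ 𝔐 : Ideal R, 𝔐 = (P.homogeneousCore 𝒜).toIdeal := ⟨_, rfl⟩
  have h𝔐prime : 𝔐.IsPrime := by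
    rw [h𝔐]
    exact Ideal.IsPrime.homogeneousCore hPprime
  have h𝔐le : 𝔐 ≤ P := by
    rw [h𝔐]
    exact Ideal.toIdeal_homogeneousCore_le 𝒜 P
  have hmem𝔐 : ∀ {i : ℤ} {h : R}, h ∈ 𝒜 i → h ∈ P → h ∈ 𝔐 := by
    intro i h hh hhP
    rw [h𝔐]
    exact Ideal.mem_homogeneousCore_of_homogeneous_of_mem ⟨i, hh⟩ hhP
  have hNne : (N : ℤ) ≠ 0 := by exact_mod_cast hN.ne'
  have hx𝔐 : t - 1 ∉ 𝔐 := by
    intro hmem
    rw [h𝔐] at hmem
    have h1 := (P.homogeneousCore 𝒜).isHomogeneous 0 hmem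
    rw [decompose_sub, DirectSum.sub_apply, AddSubgroupClass.coe_sub,
      decompose_of_mem_ne 𝒜 ht hNne, decompose_of_mem_same 𝒜 SetLike.GradedOne.one_mem,
      zero_sub] at h1
    have h2 : (1 : R) ∈ P := by
      have h3 := Ideal.toIdeal_homogeneousCore_le 𝒜 P h1
      rwa [neg_mem_iff] at h3
    exact hPprime.ne_top ((Ideal.eq_top_iff_one _).2 h2)
  have hPle : P ≤ 𝔐 ⊔ Ideal.span {t - 1} := by
    intro r hr
    obtain ⟨c, hc0, hrc⟩ := decomp_mod 𝒜 N ht htu.unit htu.unit_spec r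
    have hH' : Ideal.span {h | ∃ i : ℤ, ¬ (N : ℤ) ∣ i ∧ h ∈ 𝒜 i} ≤ 𝔐 := by
      rw [Ideal.span_le]
      rintro h ⟨i, hi, hh⟩
      exact hmem𝔐 hh (hHP hh
        (fun hu => hi (dvd_of_isUnit 𝒜 N hN ht htu.unit htu.unit_spec hmin hh hu)))
    have h1 : r - c ∈ 𝔐 ⊔ Ideal.span {t - 1} := sup_le_sup_right hH' _ hrc
    have h2 : c ∈ P := by
      have h3 : r - c ∈ P :=
        (sup_le h𝔐le ((Ideal.span_singleton_le_iff_mem _).2 hxP)) h1
      have e : c = r - (r - c) := by ring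
      rw [e]
      exact sub_mem hr h3
    have h4 : c ∈ 𝔐 := hmem𝔐 hc0 h2
    have e : r = c + (r - c) := by ring
    rw [e]
    exact add_mem (Ideal.mem_sup_left h4) h1
  haveI hA : IsRegularLocalRing (Localization.AtPrime P) := hreg P
  have hxA : algebraMap R (Localization.AtPrime P) (t - 1) ∈
      maximalIdeal (Localization.AtPrime P) := by
    rw [← Localization.AtPrime.map_eq_maximalIdeal]
    exact Ideal.mem_map_of_mem _ hxP
  have hxA2 : algebraMap R (Localization.AtPrime P) (t - 1) ∉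
      maximalIdeal (Localization.AtPrime P) ^ 2 := by
    intro hmem
    rw [← Localization.AtPrime.map_eq_maximalIdeal, ← Ideal.map_pow,
      IsLocalization.mem_map_algebraMap_iff P.primeCompl] at hmem
    obtain ⟨⟨⟨a, ha⟩, ⟨s, hs⟩⟩, hmem⟩ := hmem
    rw [← map_mul, IsLocalization.eq_iff_exists P.primeCompl] at hmem
    obtain ⟨⟨s', hs'⟩, hmem⟩ := hmem
    have hσ : s' * s ∉ P := fun h => (hPprime.mem_or_mem h).elim hs' hs
    have h1 : (s' * s) * (t - 1) ∈ P ^ 2 := by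
      have e : (s' * s) * (t - 1) = s' * a := by
        rw [← hmem]
        ring
      rw [e]
      exact Ideal.mul_mem_left _ _ ha
    have hP2 : P ^ 2 ≤ 𝔐 ⊔ Ideal.span {(t - 1) * (t - 1)} := sq_le P 𝔐 (t - 1) hPle
    obtain ⟨μ, hμ, y, hy, hμy⟩ := Submodule.mem_sup.1 (hP2 h1)
    obtain ⟨b, rfl⟩ := Ideal.mem_span_singleton'.1 hy
    have h2 : (t - 1) * (s' * s - b * (t - 1)) ∈ 𝔐 := by
      have e : (t - 1) * (s' * s - b * (t - 1)) = μ := by
        linear_combination -hμy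
      rw [e]
      exact hμ
    have h3 : s' * s - b * (t - 1) ∈ 𝔐 := (h𝔐prime.mem_or_mem h2).resolve_left hx𝔐
    apply hσ
    have e : s' * s = (s' * s - b * (t - 1)) + b * (t - 1) := by ring
    rw [e]
    exact add_mem (h𝔐le h3) (Ideal.mul_mem_left _ _ hxP)
  obtain ⟨hregq, -⟩ := Groth.Agent.RegularLib.quotient_of_not_mem_sq (Localization.AtPrime P)
    (algebraMap R (Localization.AtPrime P) (t - 1)) hxA hxA2
  have hunit : ∀ y : P.primeCompl, IsUnit (Ideal.Quotient.mk (Ideal.span {t - 1}) (y : R)) := by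
    intro y
    have h1 : Ideal.Quotient.mk (Ideal.span {t - 1}) (y : R) ∉
        maximalIdeal (R ⧸ Ideal.span {t - 1}) := fun h => y.2 ((hmemP _).2 h)
    exact IsLocalRing.notMem_maximalIdeal.1 h1
  obtain ⟨g, hg⟩ : ∃ g : Localization.AtPrime P →+* (R ⧸ Ideal.span {t - 1}),
      ∀ r, g (algebraMap R (Localization.AtPrime P) r) = Ideal.Quotient.mk (Ideal.span {t - 1}) r :=
    ⟨IsLocalization.lift (M := P.primeCompl) hunit, fun r => IsLocalization.lift_eq hunit r⟩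
  have hgsurj : Function.Surjective g := by
    intro c
    obtain ⟨r, rfl⟩ := Ideal.Quotient.mk_surjective c
    exact ⟨algebraMap R (Localization.AtPrime P) r, hg r⟩
  have hker : RingHom.ker g = Ideal.span {algebraMap R (Localization.AtPrime P) (t - 1)} := by
    apply le_antisymm
    · intro a ha
      rw [RingHom.mem_ker] at ha
      obtain ⟨⟨r, s⟩, hrs⟩ := IsLocalization.surj P.primeCompl a
      have h1 : Ideal.Quotient.mk (Ideal.span {t - 1}) r = 0 := by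
        rw [← hg r, ← hrs, map_mul, ha, zero_mul]
      have h2 : r ∈ Ideal.span {t - 1} := Ideal.Quotient.eq_zero_iff_mem.1 h1
      obtain ⟨b, rfl⟩ := Ideal.mem_span_singleton'.1 h2
      have hsu : IsUnit (algebraMap R (Localization.AtPrime P) (s : R)) :=
        IsLocalization.map_units (Localization.AtPrime P) s
      have h3 : a = algebraMap R (Localization.AtPrime P) b *
          algebraMap R (Localization.AtPrime P) (t - 1) * ↑(hsu.unit⁻¹) := by
        rw [← map_mul, ← hrs, mul_assoc, IsUnit.mul_val_inv, mul_one]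
      rw [h3]
      exact Ideal.mul_mem_right _ _ (Ideal.mul_mem_left _ _ (Ideal.mem_span_singleton_self _))
    · rw [Ideal.span_singleton_le_iff_mem, RingHom.mem_ker, hg]
      exact Ideal.Quotient.eq_zero_iff_mem.2 (Ideal.mem_span_singleton_self _)
  exact IsRegularLocalRing.of_ringEquiv
    ((Ideal.quotEquivOfEq hker.symm).trans (RingHom.quotientKerEquivOfSurjective hgsurj))

end main

end Groth.Agent.Lib.GrUnitRegH1
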