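import Mathlib
import Groth.Prelude.Def_GrLC
import Groth.Agent.Lib.GrUnitReg_helper1
import Groth.Agent.Lib.NagataCrit_helper3
import Groth.Agent.Lib.RegLoc_helper3

/-! For a `ℤ`-graded ring `R` with a homogeneous unit `t` of degree `N > 0`:
`R[U]/(U^N - t) ≅ (R/(t-1))[T, T⁻¹]`, hence regular when `R/(t-1)` is (helper1). -/

set_option autoImplicit false
set_option maxHeartbeats 400000

namespace Groth.Agent.Lib.GrUnitReg2H1

open DirectSum IsLocalRing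

universe u

section twist

variable {R : Type u} [CommRing R] (𝒜 : ℤ → AddSubgroup R) [GradedRing 𝒜]
  {S : Type u} [CommRing S] (φ : R →+* S) (χ : ℤ → S) (h0 : χ 0 = 1)
  (hadd : ∀ i j : ℤ, χ (i + j) = χ i * χ j)

/-- components of the twisted homomorphism -/
noncomputable def twistFun (i : ℤ) : 𝒜 i →+ S :=
  (AddMonoidHom.mulRight (χ i)).comp (φ.toAddMonoidHom.comp (𝒜 i).subtype)

theorem twistFun_apply (i : ℤ) (a : 𝒜 i) : twistFun 𝒜 φ χ i a = φ (a : R) * χ i := rfl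

/-- `r ↦ Σ φ(rᵢ) χ(i)` -/
noncomputable def twist : R →+* S :=
  (DirectSum.toSemiring (twistFun 𝒜 φ χ)
    (by rw [twistFun_apply, SetLike.coe_gOne, map_one, h0, mul_one])
    (by
      intro i j ai aj
      rw [twistFun_apply, twistFun_apply, twistFun_apply, SetLike.coe_gMul, map_mul, hadd]
      ring)).comp
    (DirectSum.decomposeRingEquiv 𝒜).toRingHom

theorem twist_of_mem {i : ℤ} {r : R} (hr : r ∈ 𝒜 i) :
    twist 𝒜 φ χ h0 hadd r = φ r * χ i := by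
  unfold twist
  rw [RingHom.comp_apply]
  show DirectSum.toSemiring _ _ _ (DirectSum.decompose 𝒜 r) = _
  rw [DirectSum.decompose_of_mem 𝒜 hr, DirectSum.toSemiring_of]
  rfl

theorem ringHom_ext_graded {S' : Type u} [CommRing S'] {f g : R →+* S'}
    (h : ∀ (i : ℤ) (r : R), r ∈ 𝒜 i → f r = g r) : f = g := by
  apply RingHom.ext
  intro r
  refine DirectSum.Decomposition.inductionOn 𝒜 (motive := fun r => f r = g r) ?_ ?_ ?_ r
  · rw [map_zero, map_zero]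
  · intro i m
    exact h i m m.2
  · intro m m' h1 h2
    rw [map_add, map_add, h1, h2]

end twist

section iso

open LaurentPolynomial

variable {R : Type u} [CommRing R] (𝒜 : ℤ → AddSubgroup R) [GradedRing 𝒜]
  (N : ℕ) (hN : 0 < N) {t : R} (ht : t ∈ 𝒜 (N : ℤ)) (htu : IsUnit t)

theorem mk_t : Ideal.Quotient.mk (Ideal.span {t - 1}) t = 1 := by
  rw [← map_one (Ideal.Quotient.mk (Ideal.span {t - 1}))]
  exact Ideal.Quotient.eq.2 (Ideal.mem_span_singleton_self _)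

/-- `R → C[T,T⁻¹]`, `rᵢ ↦ r̄ᵢ Tⁱ` -/
noncomputable def Θ₀ (t : R) : R →+* (R ⧸ Ideal.span {t - 1})[T;T⁻¹] :=
  twist 𝒜 ((LaurentPolynomial.C).comp (Ideal.Quotient.mk (Ideal.span {t - 1}))) T T_zero T_add

theorem Θ₀_of_mem {i : ℤ} {r : R} (hr : r ∈ 𝒜 i) :
    Θ₀ 𝒜 t r = LaurentPolynomial.C (Ideal.Quotient.mk (Ideal.span {t - 1}) r) * T i :=
  twist_of_mem 𝒜 _ T T_zero T_add hr

include ht in
theorem eval₂_Θ₀ : (Polynomial.X ^ N - Polynomial.C t : Polynomial R).eval₂ (Θ₀ 𝒜 t) (T 1) = 0 := by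
  rw [Polynomial.eval₂_sub, Polynomial.eval₂_pow, Polynomial.eval₂_X, Polynomial.eval₂_C,
    Θ₀_of_mem 𝒜 ht, mk_t, map_one, one_mul, T_pow, mul_one, sub_self]

/-- `R[U]/(U^N - t) → C[T,T⁻¹]` -/
noncomputable def Θ : AdjoinRoot (Polynomial.X ^ N - Polynomial.C t : Polynomial R) →+*
    (R ⧸ Ideal.span {t - 1})[T;T⁻¹] :=
  AdjoinRoot.lift (Θ₀ 𝒜 t) (T 1) (eval₂_Θ₀ 𝒜 N ht)

theorem root_pow : (AdjoinRoot.root (Polynomial.X ^ N - Polynomial.C t : Polynomial R)) ^ N =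
    AdjoinRoot.of (Polynomial.X ^ N - Polynomial.C t : Polynomial R) t := by
  have h := AdjoinRoot.eval₂_root (Polynomial.X ^ N - Polynomial.C t : Polynomial R)
  rw [Polynomial.eval₂_sub, Polynomial.eval₂_pow, Polynomial.eval₂_X, Polynomial.eval₂_C,
    sub_eq_zero] at h
  exact h

include hN htu in
theorem isUnit_root : IsUnit (AdjoinRoot.root (Polynomial.X ^ N - Polynomial.C t : Polynomial R)) := by
  have h : IsUnit ((AdjoinRoot.root (Polynomial.X ^ N - Polynomial.C t : Polynomial R)) ^ N) := by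
    rw [root_pow]
    exact htu.map _
  exact (isUnit_pow_iff hN.ne').1 h

variable (Uu : (AdjoinRoot (Polynomial.X ^ N - Polynomial.C t : Polynomial R))ˣ)
  (hUu : (Uu : AdjoinRoot (Polynomial.X ^ N - Polynomial.C t : Polynomial R)) =
    AdjoinRoot.root (Polynomial.X ^ N - Polynomial.C t : Polynomial R))

/-- `R → R[U]/(U^N-t)`, `rᵢ ↦ rᵢ U⁻ⁱ` -/
noncomputable def Ψ₀ : R →+* AdjoinRoot (Polynomial.X ^ N - Polynomial.C t : Polynomial R) :=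
  twist 𝒜 (AdjoinRoot.of _) (fun i => ((Uu ^ (-i) : _ˣ) : AdjoinRoot _))
    (by rw [neg_zero, zpow_zero, Units.val_one])
    (by
      intro i j
      rw [neg_add, zpow_add, Units.val_mul])

theorem Ψ₀_of_mem {i : ℤ} {r : R} (hr : r ∈ 𝒜 i) :
    Ψ₀ 𝒜 N Uu r = AdjoinRoot.of _ r * ((Uu ^ (-i) : _ˣ) : AdjoinRoot _) :=
  twist_of_mem 𝒜 _ _ _ _ hr

include ht hUu in
theorem Ψ₀_sub_one : Ψ₀ 𝒜 N Uu (t - 1) = 0 := by
  rw [map_sub, map_one, Ψ₀_of_mem 𝒜 N Uu ht, ← root_pow, ← hUu, ← Units.val_pow_eq_pow_val,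
    ← zpow_natCast, ← Units.val_mul, ← zpow_add, add_neg_cancel, zpow_zero, Units.val_one,
    sub_self]

/-- `C → R[U]/(U^N-t)` -/
noncomputable def ΨC (h : Ψ₀ 𝒜 N Uu (t - 1) = 0) :
    (R ⧸ Ideal.span {t - 1}) →+* AdjoinRoot (Polynomial.X ^ N - Polynomial.C t : Polynomial R) :=
  Ideal.Quotient.lift (Ideal.span {t - 1}) (Ψ₀ 𝒜 N Uu) (by
    intro a ha
    obtain ⟨b, rfl⟩ := Ideal.mem_span_singleton'.1 ha
    rw [map_mul, h, mul_zero])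

/-- `C[T,T⁻¹] → R[U]/(U^N-t)` -/
noncomputable def Ψ (h : Ψ₀ 𝒜 N Uu (t - 1) = 0) : (R ⧸ Ideal.span {t - 1})[T;T⁻¹] →+*
    AdjoinRoot (Polynomial.X ^ N - Polynomial.C t : Polynomial R) :=
  AddMonoidAlgebra.liftNCRingHom (ΨC 𝒜 N Uu h)
    ((Units.coeHom _).comp (zpowersHom _ Uu)) (fun _ _ => Commute.all _ _)

theorem Ψ_single (h : Ψ₀ 𝒜 N Uu (t - 1) = 0) (a : ℤ) (c : R ⧸ Ideal.span {t - 1}) :
    Ψ 𝒜 N Uu h (AddMonoidAlgebra.single a c) = ΨC 𝒜 N Uu h c * ((Uu ^ a : _ˣ) : AdjoinRoot _) := by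
  unfold Ψ
  rw [AddMonoidAlgebra.liftNCRingHom_single]
  rfl

include hUu in
theorem Θ_zpow (k : ℤ) : Θ 𝒜 N ht ((Uu ^ k : _ˣ) : AdjoinRoot _) = T k := by
  let τ : Multiplicative ℤ →* (R ⧸ Ideal.span {t - 1})[T;T⁻¹] :=
    { toFun := fun n => T (Multiplicative.toAdd n)
      map_one' := T_zero
      map_mul' := fun a b => T_add _ _ }
  have h1 : Units.map (Θ 𝒜 N ht).toMonoidHom Uu = τ.toHomUnits (Multiplicative.ofAdd 1) := by
    apply Units.ext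
    rw [Units.coe_map, MonoidHom.coe_toHomUnits]
    show Θ 𝒜 N ht (Uu : AdjoinRoot _) = T 1
    rw [hUu]
    exact AdjoinRoot.lift_root _
  have h2 : Units.map (Θ 𝒜 N ht).toMonoidHom (Uu ^ k) = τ.toHomUnits (Multiplicative.ofAdd k) := by
    rw [map_zpow, h1, ← map_zpow]
    congr 1
    rw [← ofAdd_zsmul, smul_eq_mul, mul_one]
  have h3 := congrArg Units.val h2
  rw [Units.coe_map, MonoidHom.coe_toHomUnits] at h3
  exact h3

include ht hUu in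
theorem Ψ_comp_Θ (h : Ψ₀ 𝒜 N Uu (t - 1) = 0) :
    (Ψ 𝒜 N Uu h).comp (Θ 𝒜 N ht) = RingHom.id _ := by
  apply AdjoinRoot.ringHom_ext
  · apply ringHom_ext_graded 𝒜
    intro i r hr
    rw [RingHom.comp_apply, RingHom.comp_apply, RingHom.comp_apply, RingHom.id_apply]
    have e1 : Θ 𝒜 N ht (AdjoinRoot.of _ r) = Θ₀ 𝒜 t r := AdjoinRoot.lift_of _
    rw [e1, Θ₀_of_mem 𝒜 hr, ← single_eq_C_mul_T, Ψ_single]
    have e2 : ΨC 𝒜 N Uu h (Ideal.Quotient.mk (Ideal.span {t - 1}) r) = Ψ₀ 𝒜 N Uu r :=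
      Ideal.Quotient.lift_mk _ _ _
    rw [e2, Ψ₀_of_mem 𝒜 N Uu hr, mul_assoc, ← Units.val_mul, ← zpow_add, neg_add_cancel, zpow_zero,
      Units.val_one, mul_one]
  · rw [RingHom.comp_apply, RingHom.id_apply]
    have e1 : Θ 𝒜 N ht (AdjoinRoot.root _) = T 1 := AdjoinRoot.lift_root _
    rw [e1]
    show Ψ 𝒜 N Uu h (AddMonoidAlgebra.single 1 1) = _
    rw [Ψ_single, map_one, one_mul, zpow_one, hUu]

include ht hUu in
theorem Θ_comp_Ψ (h : Ψ₀ 𝒜 N Uu (t - 1) = 0) :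
    (Θ 𝒜 N ht).comp (Ψ 𝒜 N Uu h) = RingHom.id _ := by
  have key : (Θ 𝒜 N ht).comp (ΨC 𝒜 N Uu h) = LaurentPolynomial.C := by
    apply Ideal.Quotient.ringHom_ext
    apply ringHom_ext_graded 𝒜
    intro i r hr
    rw [RingHom.comp_apply, RingHom.comp_apply, RingHom.comp_apply]
    have e2 : ΨC 𝒜 N Uu h (Ideal.Quotient.mk (Ideal.span {t - 1}) r) = Ψ₀ 𝒜 N Uu r :=
      Ideal.Quotient.lift_mk _ _ _
    rw [e2, Ψ₀_of_mem 𝒜 N Uu hr, map_mul, Θ_zpow 𝒜 N ht Uu hUu]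
    have e1 : Θ 𝒜 N ht (AdjoinRoot.of _ r) = Θ₀ 𝒜 t r := AdjoinRoot.lift_of _
    rw [e1, Θ₀_of_mem 𝒜 hr, mul_assoc, ← T_add, add_neg_cancel, T_zero, mul_one]
  apply AddMonoidAlgebra.ringHom_ext
  · intro c
    rw [RingHom.comp_apply, RingHom.id_apply, Ψ_single, zpow_zero, Units.val_one, mul_one]
    have := RingHom.congr_fun key c
    rw [RingHom.comp_apply] at this
    rw [this]
    rfl
  · intro a
    rw [RingHom.comp_apply, RingHom.id_apply, Ψ_single, map_one, one_mul,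
      Θ_zpow 𝒜 N ht Uu hUu]
    rfl

include hN ht htu in
theorem nonempty_ringEquiv : Nonempty (AdjoinRoot (Polynomial.X ^ N - Polynomial.C t : Polynomial R) ≃+*
    (R ⧸ Ideal.span {t - 1})[T;T⁻¹]) := by
  obtain ⟨Uu, hUu⟩ := isUnit_root N hN htu
  have h := Ψ₀_sub_one 𝒜 N ht Uu hUu
  exact ⟨RingEquiv.ofRingHom (Θ 𝒜 N ht) (Ψ 𝒜 N Uu h) (Θ_comp_Ψ 𝒜 N ht Uu hUu h)
    (Ψ_comp_Θ 𝒜 N ht Uu hUu h)⟩

end iso

section final

open LaurentPolynomial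

theorem hmin_of_hm {R : Type u} [CommRing R] (𝒜 : ℤ → AddSubgroup R) [GradedRing 𝒜]
    [IsLocalRing (GrLC.deg0 𝒜)] (N : ℕ) {t : R} (ht : t ∈ 𝒜 (N : ℤ)) (htu : IsUnit t)
    (hm : ∀ (i j : ℤ), 0 < i → 0 < j → i + j = (N : ℤ) → ∀ a ∈ 𝒜 i, ∀ b ∈ 𝒜 j,
      ∃ c : GrLC.deg0 𝒜, c ∈ IsLocalRing.maximalIdeal (GrLC.deg0 𝒜) ∧ a * b = (c : R) * t) :
    ∀ (n : ℤ), 0 < n → n < (N : ℤ) → ∀ s ∈ 𝒜 n, ¬ IsUnit s := by
  intro n hn0 hnN s hs hsu
  obtain ⟨su, hsu'⟩ := hsu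
  have h1 : ((su⁻¹ : Rˣ) : R) ∈ 𝒜 (-n) := GrUnitRegH1.inv_mem 𝒜 hs su hsu'
  have h2 : ((su⁻¹ : Rˣ) : R) * t ∈ 𝒜 (-n + N) := SetLike.GradedMul.mul_mem h1 ht
  obtain ⟨c, hc, hce⟩ := hm n (-n + N) hn0 (by linarith) (by ring) s hs _ h2
  have h3 : s * (((su⁻¹ : Rˣ) : R) * t) = t := by
    rw [← mul_assoc, ← hsu', Units.mul_inv, one_mul]
  rw [h3] at hce
  have h4 : (1 : R) = (c : R) := htu.mul_left_inj.1 ((one_mul t).trans hce)
  have h5 : c = 1 := Subtype.ext h4.symm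
  rw [h5] at hc
  exact (Ideal.ne_top_iff_one _).1 (IsLocalRing.maximalIdeal.isMaximal _).ne_top hc

theorem main14658 {R : Type u} [CommRing R] (𝒜 : ℤ → AddSubgroup R) [GradedRing 𝒜]
    (hreg : ∀ (p : Ideal R) [p.IsPrime], IsRegularLocalRing (Localization.AtPrime p))
    [IsLocalRing (GrLC.deg0 𝒜)] (N : ℕ) (hN : 0 < N) (t : R) (ht : t ∈ 𝒜 (N : ℤ))
    (htu : IsUnit t)
    (hm : ∀ (i j : ℤ), 0 < i → 0 < j → i + j = (N : ℤ) → ∀ a ∈ 𝒜 i, ∀ b ∈ 𝒜 j,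
      ∃ c : GrLC.deg0 𝒜, c ∈ IsLocalRing.maximalIdeal (GrLC.deg0 𝒜) ∧ a * b = (c : R) * t)
    (q : Ideal (AdjoinRoot (Polynomial.X ^ N - Polynomial.C t : Polynomial R))) [q.IsPrime] :
    IsRegularLocalRing (Localization.AtPrime q) := by
  have hmin := hmin_of_hm 𝒜 N ht htu hm
  haveI hC : IsRegularLocalRing (R ⧸ Ideal.span {t - 1}) :=
    GrUnitRegH1.main 𝒜 N hN ht htu hmin hreg
  haveI : IsRegularRing (R ⧸ Ideal.span {t - 1}) :=
    NagataCritH3.isRegularRing_of_isRegularLocalRing _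
  haveI : IsRegularRing (Polynomial (R ⧸ Ideal.span {t - 1})) := inferInstance
  haveI : IsRegularRing (R ⧸ Ideal.span {t - 1})[T;T⁻¹] :=
    RegLocH3.isRegularRing_of_isLocalization
      (Submonoid.powers (Polynomial.X : Polynomial (R ⧸ Ideal.span {t - 1}))) _
  obtain ⟨e⟩ := nonempty_ringEquiv 𝒜 N hN ht htu
  haveI : IsRegularRing (AdjoinRoot (Polynomial.X ^ N - Polynomial.C t : Polynomial R)) :=
    IsRegularRing.of_ringEquiv e.symm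
  exact IsRegularRing.isRegularLocalRing_localization q

end final

end Groth.Agent.Lib.GrUnitReg2H1
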