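import Mathlib

/-!
Helper library (helper1): graded Nakayama — a finitely generated projective graded module over a
non-negatively graded ring with degree-zero part a field has a homogeneous basis.
APPEND-ONLY once landed.
-/

set_option autoImplicit false

namespace Groth.Agent.Lib.GradedFreeH1

open DirectSum

universe u

section Graded

variable {R : Type*} [CommRing R] {σ : Type*} [SetLike σ R] [AddSubmonoidClass σ R]
  (𝒜 : ℤ → σ) [GradedRing 𝒜]
  {M : Type*} [AddCommGroup M] [Module R M] {τ : Type*} [SetLike τ M] [AddSubmonoidClass τ M]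
  (ℳ : ℤ → τ) [DirectSum.Decomposition ℳ] [SetLike.GradedSMul 𝒜 ℳ]

/-- The degree `d` component, as an additive map. -/
noncomputable def cmp (d : ℤ) : M →+ M where
  toFun x := (decompose ℳ x d : M)
  map_zero' := by rw [decompose_zero]; rfl
  map_add' x y := by rw [decompose_add]; rfl

theorem cmp_apply (d : ℤ) (x : M) : cmp ℳ d x = (decompose ℳ x d : M) := rfl

theorem cmp_mem (d : ℤ) (x : M) : cmp ℳ d x ∈ ℳ d := (decompose ℳ x d).2

theorem cmp_of_mem_same {d : ℤ} {x : M} (hx : x ∈ ℳ d) : cmp ℳ d x = x :=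
  decompose_of_mem_same ℳ hx

theorem cmp_of_mem_ne {d e : ℤ} {x : M} (hx : x ∈ ℳ d) (h : d ≠ e) : cmp ℳ e x = 0 :=
  decompose_of_mem_ne ℳ hx h

theorem eq_zero_of_cmp_eq_zero {x : M} (h : ∀ d, cmp ℳ d x = 0) : x = 0 := by
  apply (decompose ℳ).injective
  rw [decompose_zero]
  ext d
  exact h d

include 𝒜 in
theorem cmp_smul_of_right_mem {w : ℤ} {m : M} (hm : m ∈ ℳ w) (x : R) (d : ℤ) :
    cmp ℳ d (x • m) = (cmp 𝒜 (d - w) x) • m := by
  refine DirectSum.Decomposition.inductionOn 𝒜
    (motive := fun x => cmp ℳ d (x • m) = (cmp 𝒜 (d - w) x) • m) ?_ ?_ ?_ x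
  · rw [zero_smul, map_zero, map_zero, zero_smul]
  · intro j y
    have hym : (y : R) • m ∈ ℳ (j + w) := SetLike.GradedSMul.smul_mem y.2 hm
    by_cases h : d = j + w
    · subst h
      rw [cmp_of_mem_same ℳ hym, add_sub_cancel_right, cmp_of_mem_same 𝒜 y.2]
    · have h' : j ≠ d - w := fun e => h (by rw [e]; ring)
      rw [cmp_of_mem_ne ℳ hym (Ne.symm h), cmp_of_mem_ne 𝒜 y.2 h', zero_smul]
  · intro y y' hy hy'
    rw [add_smul, map_add, map_add, add_smul, hy, hy']

theorem cmp_mul_of_left_mem {a : ℤ} {r : R} (hr : r ∈ 𝒜 a) (x : R) (d : ℤ) :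
    cmp 𝒜 d (r * x) = r * cmp 𝒜 (d - a) x := by
  have e : d = a + (d - a) := by ring
  rw [cmp_apply, cmp_apply]
  conv_lhs => rw [e]
  exact coe_decompose_mul_add_of_left_mem 𝒜 hr

end Graded

section Remove

variable {R : Type*} [CommRing R] {M : Type*} [AddCommGroup M] [Module R M]

theorem span_succAbove_eq_top {n : ℕ} (m : Fin (n + 1) → M)
    (hsp : Submodule.span R (Set.range m) = ⊤) (i : Fin (n + 1))
    (hi : m i ∈ Submodule.span R (Set.range (m ∘ i.succAbove))) :
    Submodule.span R (Set.range (m ∘ i.succAbove)) = ⊤ := by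
  rw [eq_top_iff, ← hsp, Submodule.span_le]
  rintro _ ⟨j, rfl⟩
  by_cases h : j = i
  · subst h
    exact hi
  · obtain ⟨j', rfl⟩ := Fin.exists_succAbove_eq h
    exact Submodule.subset_span ⟨j', rfl⟩

end Remove

theorem main19462 {k : Type u} [Field k] {R : Type u} [CommRing R] [Algebra k R]
    {σ : Type u} [SetLike σ R] [AddSubmonoidClass σ R] (𝒜 : ℤ → σ) [GradedRing 𝒜]
    (hneg : ∀ i : ℤ, i < 0 → ∀ x ∈ 𝒜 i, x = 0)
    (hk : ∀ c : k, algebraMap k R c ∈ 𝒜 0) (h0 : ∀ x ∈ 𝒜 0, ∃ c : k, algebraMap k R c = x)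
    {M : Type u} [AddCommGroup M] [Module R M] [Module.Finite R M]
    {τ : Type u} [SetLike τ M] [AddSubmonoidClass τ M] (ℳ : ℤ → τ) [DirectSum.Decomposition ℳ]
    [SetLike.GradedSMul 𝒜 ℳ] :
    Module.Projective R M ↔
      ∃ (ι : Type u) (b : Module.Basis ι R M), ∀ i : ι, SetLike.IsHomogeneousElem ℳ (b i) := by
  classical
  constructor
  swap
  · rintro ⟨ι, b, -⟩
    exact Module.Projective.of_basis b
  intro hproj
  -- existence of a finite homogeneous generating family
  have hex : ∃ n : ℕ, ∃ m : Fin n → M, (∀ i, SetLike.IsHomogeneousElem ℳ (m i)) ∧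
      Submodule.span R (Set.range m) = ⊤ := by
    obtain ⟨n₀, s, hs⟩ := Module.Finite.exists_fin (R := R) (M := M)
    let S' : Finset M := Finset.univ.biUnion (fun l : Fin n₀ =>
      (DFinsupp.support (decompose ℳ (s l))).image (fun j => (decompose ℳ (s l) j : M)))
    have hS'hom : ∀ x ∈ S', SetLike.IsHomogeneousElem ℳ x := by
      intro x hx
      obtain ⟨l, -, hx⟩ := Finset.mem_biUnion.mp hx
      obtain ⟨j, -, rfl⟩ := Finset.mem_image.mp hx
      exact ⟨j, (decompose ℳ (s l) j).2⟩
    have hS'span : Submodule.span R (S' : Set M) = ⊤ := by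
      rw [eq_top_iff, ← hs, Submodule.span_le]
      rintro _ ⟨l, rfl⟩
      rw [← sum_support_decompose ℳ (s l)]
      refine Submodule.sum_mem _ (fun j hj => Submodule.subset_span ?_)
      exact Finset.mem_biUnion.mpr ⟨l, Finset.mem_univ _, Finset.mem_image.mpr ⟨j, hj, rfl⟩⟩
    refine ⟨S'.card, fun i => ((S'.equivFin.symm i : S') : M), fun i => hS'hom _ (S'.equivFin.symm i).2, ?_⟩
    rw [eq_top_iff, ← hS'span, Submodule.span_le]
    intro x hx
    refine Submodule.subset_span ⟨S'.equivFin ⟨x, hx⟩, ?_⟩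
    simp
  -- a minimal one
  obtain ⟨m, hmhom, hmspan⟩ := Nat.find_spec hex
  have hmin : ∀ n' < Nat.find hex, ¬ ∃ m : Fin n' → M,
      (∀ i, SetLike.IsHomogeneousElem ℳ (m i)) ∧ Submodule.span R (Set.range m) = ⊤ :=
    fun n' h => Nat.find_min hex h
  generalize Nat.find hex = n at m hmhom hmspan hmin
  choose w hw using hmhom
  -- no coefficient of a relation is a nonzero scalar
  have hML : ∀ (c : Fin n → R), ∑ j, c j • m j = 0 → ∀ (i : Fin n) (lam : k),
      c i = algebraMap k R lam → lam = 0 := by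
    intro c hc i lam hci
    by_contra hlam
    cases n with
    | zero => exact i.elim0
    | succ n' =>
      refine hmin n' (Nat.lt_succ_self n') ⟨m ∘ i.succAbove, fun j => ⟨w _, hw _⟩, ?_⟩
      apply span_succAbove_eq_top m hmspan i
      rw [Fin.sum_univ_succAbove _ i, hci] at hc
      have h1 : m i = -(algebraMap k R lam⁻¹ • ∑ j, c (i.succAbove j) • m (i.succAbove j)) := by
        have h2 : algebraMap k R lam • m i = -∑ j, c (i.succAbove j) • m (i.succAbove j) :=
          eq_neg_of_add_eq_zero_left hc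
        rw [← smul_neg, ← h2, smul_smul, ← map_mul, inv_mul_cancel₀ hlam, map_one, one_smul]
      rw [h1]
      refine Submodule.neg_mem _ (Submodule.smul_mem _ _ (Submodule.sum_mem _ fun j _ => ?_))
      exact Submodule.smul_mem _ _ (Submodule.subset_span ⟨j, rfl⟩)
  -- the presentation
  let π : (Fin n → R) →ₗ[R] M := Fintype.linearCombination R m
  have hπ : ∀ c, π c = ∑ i, c i • m i := fun c => Fintype.linearCombination_apply R m c
  have hπsurj : Function.Surjective π := by
    rw [← LinearMap.range_eq_top, Fintype.range_linearCombination, hmspan]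
  obtain ⟨σ', hσ'⟩ := Module.projective_lifting_property π LinearMap.id hπsurj
  have hσ'' : ∀ y, π (σ' y) = y := fun y => LinearMap.congr_fun hσ' y
  let ρ : (Fin n → R) →ₗ[R] (Fin n → R) := LinearMap.id - σ' ∘ₗ π
  have hρ : ∀ c, ρ c = c - σ' (π c) := fun c => rfl
  have hπρ : ∀ c, π (ρ c) = 0 := by
    intro c
    rw [hρ, map_sub, hσ'', sub_self]
  have hρK : ∀ c, π c = 0 → ρ c = c := by
    intro c hc
    rw [hρ, hc, map_zero, sub_zero]
  -- components on the free module
  let comp : ℤ → (Fin n → R) → (Fin n → R) := fun d c i => cmp 𝒜 (d - w i) (c i)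
  have comp_add : ∀ d c c', comp d (c + c') = comp d c + comp d c' := by
    intro d c c'
    funext i
    show cmp 𝒜 (d - w i) (c i + c' i) = _
    rw [map_add]
    rfl
  have comp_zero : ∀ d, comp d 0 = 0 := by
    intro d
    funext i
    show cmp 𝒜 (d - w i) 0 = 0
    rw [map_zero]
  have comp_sum : ∀ d (s : Finset (Fin n)) (f : Fin n → (Fin n → R)),
      comp d (∑ i ∈ s, f i) = ∑ i ∈ s, comp d (f i) := by
    intro d s f
    induction s using Finset.induction_on with
    | empty => simp [comp_zero]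
    | insert a s ha ih => rw [Finset.sum_insert ha, Finset.sum_insert ha, comp_add, ih]
  have comp_smul : ∀ (a : ℤ) (r : R), r ∈ 𝒜 a → ∀ d c, comp d (r • c) = r • comp (d - a) c := by
    intro a r hr d c
    funext i
    show cmp 𝒜 (d - w i) (r * c i) = r * cmp 𝒜 (d - a - w i) (c i)
    rw [cmp_mul_of_left_mem 𝒜 hr]
    congr 2
    ring
  have hπcomp : ∀ d c, π (comp d c) = cmp ℳ d (π c) := by
    intro d c
    rw [hπ, hπ, map_sum]
    refine Finset.sum_congr rfl (fun i _ => ?_)
    rw [cmp_smul_of_right_mem 𝒜 ℳ (hw i)]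
  have comp_eq_zero : ∀ c, (∀ d, comp d c = 0) → c = 0 := by
    intro c hc
    funext i
    apply eq_zero_of_cmp_eq_zero 𝒜
    intro j
    have := congrFun (hc (j + w i)) i
    simpa [comp] using this
  obtain ⟨d₀, hd₀⟩ : ∃ d₀ : ℤ, ∀ i, d₀ ≤ w i := by
    refine ⟨-(∑ i, |w i|), fun i => ?_⟩
    have h1 := Finset.single_le_sum (f := fun i => |w i|) (fun j _ => abs_nonneg (w j))
      (Finset.mem_univ i)
    have h2 := neg_abs_le (w i)
    have h3 : |w i| ≤ ∑ i, |w i| := h1
    linarith
  -- the kernel vanishes, by induction on the degree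
  have hkey : ∀ N : ℕ, ∀ d : ℤ, d < d₀ + N → ∀ c, π c = 0 → comp d c = 0 := by
    intro N
    induction N with
    | zero =>
      intro d hd c _
      funext i
      have hlt : d - w i < 0 := by
        have := hd₀ i
        simp only [Nat.cast_zero, add_zero] at hd
        linarith
      exact hneg _ hlt _ (cmp_mem 𝒜 _ _)
    | succ N ih =>
      intro d hd c hc
      by_cases hd' : d < d₀ + N
      · exact ih d hd' c hc
      set c' := comp d c with hc'def
      have hc'K : π c' = 0 := by rw [hc'def, hπcomp, hc, map_zero]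
      have hc'mem : ∀ i, c' i ∈ 𝒜 (d - w i) := fun i => cmp_mem 𝒜 _ _
      have hpos : ∀ i, c' i ≠ 0 → 0 < d - w i := by
        intro i hne
        by_contra hle
        rw [not_lt] at hle
        rcases hle.lt_or_eq with hlt | heq
        · exact hne (hneg _ hlt _ (hc'mem i))
        · obtain ⟨lam, hlam⟩ := h0 (c' i) (heq ▸ hc'mem i)
          have := hML c' (by rw [← hπ]; exact hc'K) i lam hlam.symm
          rw [this, map_zero] at hlam
          exact hne hlam.symm
      have hdecomp : c' = ∑ i, c' i • ρ (Pi.single i 1) := by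
        have h1 : c' = ∑ i, c' i • (Pi.single i 1 : Fin n → R) := by
          funext j
          simp [Finset.sum_apply, Pi.single_apply]
        conv_lhs => rw [← hρK c' hc'K, h1]
        rw [map_sum]
        exact Finset.sum_congr rfl (fun i _ => map_smul _ _ _)
      have hcc : comp d c' = c' := by
        funext i
        exact cmp_of_mem_same 𝒜 (hc'mem i)
      rw [← hcc, hdecomp, comp_sum]
      refine Finset.sum_eq_zero (fun i _ => ?_)
      by_cases hne : c' i = 0
      · rw [hne, zero_smul, comp_zero]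
      · rw [comp_smul (d - w i) (c' i) (hc'mem i)]
        have hlt : d - (d - w i) < d₀ + N := by
          have := hpos i hne
          have hd2 : d < d₀ + (N + 1 : ℕ) := hd
          push_cast at hd2
          linarith
        rw [ih _ hlt (ρ (Pi.single i 1)) (hπρ _), smul_zero]
  have hK : ∀ c, π c = 0 → c = 0 := by
    intro c hc
    apply comp_eq_zero
    intro d
    have hN : d < d₀ + ((d - d₀).toNat + 1 : ℕ) := by
      have := Int.self_le_toNat (d - d₀)
      push_cast
      linarith
    exact hkey _ d hN c hc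
  have hli : LinearIndependent R m := by
    rw [Fintype.linearIndependent_iff]
    intro g hg i
    have := hK g (by rw [hπ]; exact hg)
    rw [this]
    rfl
  refine ⟨ULift.{u} (Fin n), (Module.Basis.mk hli (le_of_eq hmspan.symm)).reindex Equiv.ulift.symm,
    fun i => ?_⟩
  rw [Module.Basis.reindex_apply, Module.Basis.mk_apply]
  exact ⟨w _, hw _⟩

end Groth.Agent.Lib.GradedFreeH1
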