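import Mathlib
import Groth.Agent.Lib.TorLES_helper5

/-!
# Graded freeness criterion over a polynomial ring (helper3)

A finitely generated graded module `M` over `k[x_0, …, x_n]` with `Tor_1(M, k) = 0` has a basis of
homogeneous elements.
-/

set_option autoImplicit false
universe u
open MvPolynomial TensorProduct

namespace Groth.Agent.Lib.GradedFreeH3

variable {k : Type u} [Field k] {σ : Type}
  {M : Type u} [AddCommGroup M] [Module (MvPolynomial σ k) M]
  (ℳ : ℕ → AddSubgroup M) [SetLike.GradedSMul (homogeneousSubmodule σ k) ℳ]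
  [DirectSum.Decomposition ℳ]

/-- The component of `a • m` for a homogeneous element `m`. -/
theorem decompose_smul_of_mem (a : MvPolynomial σ k) {m : M} {d : ℕ} (hm : m ∈ ℳ d) (e : ℕ) :
    (DirectSum.decompose ℳ (a • m) e : M) =
      if d ≤ e then homogeneousComponent (e - d) a • m else 0 := by
  classical
  have ha : a • m = ∑ t ∈ Finset.range (a.totalDegree + 1), homogeneousComponent t a • m := by
    rw [← Finset.sum_smul, sum_homogeneousComponent]
  have hmem : ∀ t, homogeneousComponent t a • m ∈ ℳ (t + d) := fun t =>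
    SetLike.GradedSMul.smul_mem (homogeneousComponent_mem t a) hm
  have key : ∀ t, (DirectSum.decompose ℳ (homogeneousComponent t a • m) e : M) =
      if t + d = e then homogeneousComponent t a • m else 0 := by
    intro t
    split_ifs with h
    · subst h
      exact DirectSum.decompose_of_mem_same ℳ (hmem t)
    · exact DirectSum.decompose_of_mem_ne ℳ (hmem t) h
  have h1 : (DirectSum.decompose ℳ (a • m) e : M) =
      ∑ t ∈ Finset.range (a.totalDegree + 1),
        (DirectSum.decompose ℳ (homogeneousComponent t a • m) e : M) := by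
    conv_lhs => rw [ha]
    rw [DirectSum.decompose_sum, DFinsupp.finset_sum_apply, AddSubmonoidClass.coe_finset_sum]
  rw [h1]
  simp_rw [key]
  split_ifs with hde
  · by_cases hr : e - d ∈ Finset.range (a.totalDegree + 1)
    · rw [Finset.sum_eq_single_of_mem (e - d) hr]
      · rw [if_pos (Nat.sub_add_cancel hde)]
      · intro b _ hb
        rw [if_neg]
        omega
    · rw [Finset.sum_eq_zero]
      · rw [homogeneousComponent_eq_zero, zero_smul]
        rw [Finset.mem_range] at hr
        omega
      · intro t ht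
        rw [if_neg]
        intro hte
        apply hr
        have : t = e - d := by omega
        rwa [← this]
  · rw [Finset.sum_eq_zero]
    intro t _
    rw [if_neg]
    omega

/-- A finitely generated graded module has a finite generating family of homogeneous elements. -/
theorem exists_homogeneous_generators [Module.Finite (MvPolynomial σ k) M] :
    ∃ (r : ℕ) (m : Fin r → M), (∀ i, SetLike.IsHomogeneousElem ℳ (m i)) ∧
      Submodule.span (MvPolynomial σ k) (Set.range m) = ⊤ := by
  classical
  obtain ⟨s, hs⟩ := (Module.Finite.fg_top : (⊤ : Submodule (MvPolynomial σ k) M).FG)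
  let T : Finset M := s.biUnion fun x =>
    (DirectSum.decompose ℳ x).support.image fun e => (DirectSum.decompose ℳ x e : M)
  have hT : ∀ y ∈ T, SetLike.IsHomogeneousElem ℳ y := by
    intro y hy
    obtain ⟨x, _, hy⟩ := Finset.mem_biUnion.mp hy
    obtain ⟨e, _, rfl⟩ := Finset.mem_image.mp hy
    exact ⟨e, (DirectSum.decompose ℳ x e).2⟩
  have hspan : Submodule.span (MvPolynomial σ k) (T : Set M) = ⊤ := by
    rw [eq_top_iff, ← hs, Submodule.span_le]
    intro x hx
    rw [← DirectSum.sum_support_decompose ℳ x]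
    refine Submodule.sum_mem _ fun e he => Submodule.subset_span ?_
    exact Finset.mem_biUnion.mpr ⟨x, hx, Finset.mem_image.mpr ⟨e, he, rfl⟩⟩
  refine ⟨T.card, fun i => (T.equivFin.symm i : M), fun i => hT _ (T.equivFin.symm i).2, ?_⟩
  rw [eq_top_iff, ← hspan, Submodule.span_le]
  intro y hy
  exact Submodule.subset_span ⟨T.equivFin ⟨y, hy⟩, by simp⟩

/-- Core: a homogeneous generating family of minimal cardinality is linearly independent when
`Tor_1(M, k) = 0`. -/
theorem linearIndependent_of_minimal [Finite σ] {ι : Type} [Fintype ι] (m : ι → M)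
    (hm : ∀ i, SetLike.IsHomogeneousElem ℳ (m i))
    (hspan : Submodule.span (MvPolynomial σ k) (Set.range m) = ⊤)
    (hmin : ∀ (ι' : Type) [Fintype ι'] (m' : ι' → M),
      (∀ i, SetLike.IsHomogeneousElem ℳ (m' i)) →
      Submodule.span (MvPolynomial σ k) (Set.range m') = ⊤ → Fintype.card ι ≤ Fintype.card ι')
    (h : Groth.Agent.TorLES.TorZero (MvPolynomial σ k) 1 M
      (MvPolynomial σ k ⧸ RingHom.ker (constantCoeff : MvPolynomial σ k →+* k))) :
    LinearIndependent (MvPolynomial σ k) m := by
  classical
  set 𝔪 : Ideal (MvPolynomial σ k) :=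
    RingHom.ker (constantCoeff : MvPolynomial σ k →+* k) with h𝔪
  choose d hd using hm
  set φ : (ι → MvPolynomial σ k) →ₗ[MvPolynomial σ k] M :=
    Fintype.linearCombination (MvPolynomial σ k) m with hφ
  have hφsurj : Function.Surjective φ := by
    rw [← LinearMap.range_eq_top, hφ, Fintype.range_linearCombination, hspan]
  -- Step a: relations have coefficients in `𝔪`
  have hK : ∀ a ∈ LinearMap.ker φ, ∀ i, a i ∈ 𝔪 := by
    intro a ha i₀
    by_contra hne
    have hc : coeff 0 (a i₀) ≠ 0 := by
      intro h0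
      apply hne
      rw [h𝔪, RingHom.mem_ker]
      exact h0
    have hrel : ∑ j, a j • m j = 0 := by
      have h1 := LinearMap.mem_ker.mp ha
      rwa [hφ, Fintype.linearCombination_apply] at h1
    have hcomp : ∑ j, (DirectSum.decompose ℳ (a j • m j) (d i₀) : M) = 0 := by
      have h1 := congrArg (fun x => (DirectSum.decompose ℳ x (d i₀) : M)) hrel
      simp only [DirectSum.decompose_sum, DFinsupp.finset_sum_apply,
        AddSubmonoidClass.coe_finset_sum, DirectSum.decompose_zero] at h1
      simpa using h1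
    simp_rw [decompose_smul_of_mem ℳ _ (hd _)] at hcomp
    rw [← Finset.add_sum_erase Finset.univ _ (Finset.mem_univ i₀)] at hcomp
    rw [if_pos le_rfl, Nat.sub_self, homogeneousComponent_zero] at hcomp
    have hmem : m i₀ ∈ Submodule.span (MvPolynomial σ k) (m '' {j | j ≠ i₀}) := by
      have h1 : (C (coeff 0 (a i₀)) : MvPolynomial σ k) • m i₀ ∈
          Submodule.span (MvPolynomial σ k) (m '' {j | j ≠ i₀}) := by
        rw [eq_neg_of_add_eq_zero_left hcomp]
        refine Submodule.neg_mem _ (Submodule.sum_mem _ fun j hj => ?_)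
        split_ifs
        · exact Submodule.smul_mem _ _
            (Submodule.subset_span ⟨j, Finset.ne_of_mem_erase hj, rfl⟩)
        · exact Submodule.zero_mem _
      have h2 : m i₀ = (C (coeff 0 (a i₀))⁻¹ : MvPolynomial σ k) •
          ((C (coeff 0 (a i₀)) : MvPolynomial σ k) • m i₀) := by
        rw [smul_smul, ← C_mul, inv_mul_cancel₀ hc, C_1, one_smul]
      rw [h2]
      exact Submodule.smul_mem _ _ h1
    -- a smaller generating family
    have hspan' : Submodule.span (MvPolynomial σ k)
        (Set.range fun j : {j : ι // j ≠ i₀} => m j.1) = ⊤ := by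
      have hr : (Set.range fun j : {j : ι // j ≠ i₀} => m j.1) = m '' {j | j ≠ i₀} := by
        ext y
        constructor
        · rintro ⟨j, rfl⟩
          exact ⟨j.1, j.2, rfl⟩
        · rintro ⟨j, hj, rfl⟩
          exact ⟨⟨j, hj⟩, rfl⟩
      rw [hr, eq_top_iff, ← hspan, Submodule.span_le]
      rintro _ ⟨j, rfl⟩
      by_cases hj : j = i₀
      · rw [hj]
        exact hmem
      · exact Submodule.subset_span ⟨j, hj, rfl⟩
    have hle := hmin {j : ι // j ≠ i₀} (fun j => m j.1) (fun j => ⟨d j.1, hd j.1⟩) hspan'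
    have hlt : Fintype.card {j : ι // j ≠ i₀} < Fintype.card ι :=
      Fintype.card_subtype_lt (x := i₀) (fun hh => hh rfl)
    omega
  -- Step b: the Tor hypothesis
  have hinj : Function.Injective ((LinearMap.ker φ).subtype.rTensor (MvPolynomial σ k ⧸ 𝔪)) :=
    Groth.Agent.TorLES.rTensor_injective_of_torZero_one (LinearMap.ker φ).subtype φ
      (MvPolynomial σ k ⧸ 𝔪) (Submodule.injective_subtype _)
      (LinearMap.exact_subtype_ker_map φ) hφsurj h
  -- Step c: `K = 𝔪 K`
  have hKtop : (⊤ : Submodule (MvPolynomial σ k) (LinearMap.ker φ)) ≤ 𝔪 • ⊤ := by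
    intro x _
    have h0 : (x ⊗ₜ[MvPolynomial σ k] (1 : MvPolynomial σ k ⧸ 𝔪)) = 0 := by
      apply hinj
      rw [LinearMap.rTensor_tmul, map_zero, Submodule.subtype_apply]
      have hx : (x : ι → MvPolynomial σ k) =
          ∑ i, (x : ι → MvPolynomial σ k) i • (Pi.single i 1 : ι → MvPolynomial σ k) := by
        funext j
        simp [Finset.sum_apply, Pi.single_apply]
      rw [hx, TensorProduct.sum_tmul]
      refine Finset.sum_eq_zero fun i _ => ?_
      have h1 : ((x : ι → MvPolynomial σ k) i) • (1 : MvPolynomial σ k ⧸ 𝔪) = 0 := by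
        rw [Algebra.smul_def, mul_one, Ideal.Quotient.algebraMap_eq]
        exact Ideal.Quotient.eq_zero_iff_mem.mpr (hK x.1 x.2 i)
      rw [TensorProduct.smul_tmul, h1, TensorProduct.tmul_zero]
    have h1 := congrArg (TensorProduct.tensorQuotEquivQuotSMul (LinearMap.ker φ) 𝔪) h0
    rw [show (1 : MvPolynomial σ k ⧸ 𝔪) = Ideal.Quotient.mk 𝔪 1 from rfl,
      TensorProduct.tensorQuotEquivQuotSMul_tmul_mk, map_zero, one_smul] at h1
    exact (Submodule.Quotient.mk_eq_zero _).mp h1
  -- Step d: Nakayama and torsion-freeness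
  haveI : IsNoetherianRing (MvPolynomial σ k) := inferInstance
  haveI : IsNoetherian (MvPolynomial σ k) (ι → MvPolynomial σ k) := inferInstance
  have hKfg : (⊤ : Submodule (MvPolynomial σ k) (LinearMap.ker φ)).FG := Module.Finite.fg_top
  obtain ⟨s, hs1, hs2⟩ := Submodule.exists_sub_one_mem_and_smul_eq_zero_of_fg_of_le_smul 𝔪
    (⊤ : Submodule (MvPolynomial σ k) (LinearMap.ker φ)) hKfg hKtop
  have hs0 : s ≠ 0 := by
    rintro rfl
    have h1 : (1 : MvPolynomial σ k) ∈ 𝔪 := by
      have := 𝔪.neg_mem hs1
      simpa using this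
    rw [h𝔪, RingHom.mem_ker, map_one] at h1
    exact one_ne_zero h1
  have hKbot : LinearMap.ker φ = ⊥ := by
    rw [eq_bot_iff]
    intro x hx
    have h1 := hs2 ⟨x, hx⟩ Submodule.mem_top
    have h2 : s • x = 0 := congrArg Subtype.val h1
    rw [Submodule.mem_bot]
    funext i
    have h3 := congrFun h2 i
    simp only [Pi.smul_apply, smul_eq_mul, Pi.zero_apply] at h3
    exact (mul_eq_zero.mp h3).resolve_left hs0
  rw [linearIndependent_iff_injective_fintypeLinearCombination]
  exact LinearMap.ker_eq_bot.mp hKbot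

/-- The graded freeness criterion. -/
theorem exists_homogeneous_basis [Finite σ] [Module.Finite (MvPolynomial σ k) M]
    (h : Groth.Agent.TorLES.TorZero (MvPolynomial σ k) 1 M
      (MvPolynomial σ k ⧸ RingHom.ker (constantCoeff : MvPolynomial σ k →+* k))) :
    ∃ (ι : Type u) (b : Module.Basis ι (MvPolynomial σ k) M),
      ∀ i, SetLike.IsHomogeneousElem ℳ (b i) := by
  classical
  have hP : ∃ r : ℕ, ∃ m : Fin r → M, (∀ i, SetLike.IsHomogeneousElem ℳ (m i)) ∧
      Submodule.span (MvPolynomial σ k) (Set.range m) = ⊤ := exists_homogeneous_generators ℳ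
  obtain ⟨m, hm, hspan⟩ := Nat.find_spec hP
  have hli : LinearIndependent (MvPolynomial σ k) m := by
    refine linearIndependent_of_minimal ℳ m hm hspan ?_ h
    intro ι' _ m' hm' hspan'
    rw [Fintype.card_fin]
    apply Nat.find_min' hP
    refine ⟨fun i => m' ((Fintype.equivFin ι').symm i), fun i => hm' _, ?_⟩
    rw [eq_top_iff, ← hspan', Submodule.span_le]
    rintro _ ⟨j, rfl⟩
    exact Submodule.subset_span ⟨Fintype.equivFin ι' j, by simp⟩
  refine ⟨ULift.{u} (Fin (Nat.find hP)),
    (Module.Basis.mk hli hspan.ge).reindex Equiv.ulift.symm, fun i => ?_⟩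
  rw [Module.Basis.reindex_apply, Module.Basis.mk_apply]
  exact hm _

end Groth.Agent.Lib.GradedFreeH3
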