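import Groth.Agent.Lib.InvRey_helper9

/-!
# Linear coactions on polynomial rings preserve the grading; Hilbert's finiteness theorem

helper9.  APPEND-ONLY once landed.
-/

set_option autoImplicit false

universe u v w

open TensorProduct MvPolynomial

namespace Groth.Agent.Lib.GradedInv_helper9

open Groth.Agent.Lib.LinRed_helper9 Groth.Agent.Lib.InvRey_helper9 Groth.Agent.Lib.Comod_helper9

section Graded

variable (k : Type u) [Field k] (A : Type v) [CommRing A] [HopfAlgebra k A]
variable (σ : Type w)

/-- degree-`d` part of `k[σ] ⊗ A` -/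
noncomputable def Q (d : ℕ) : Submodule k (MvPolynomial σ k ⊗[k] A) :=
  LinearMap.range ((homogeneousSubmodule σ k d).subtype.rTensor A)

theorem tmul_mem_Q (d : ℕ) (p : MvPolynomial σ k) (hp : p ∈ homogeneousSubmodule σ k d) (a : A) :
    p ⊗ₜ[k] a ∈ Q k A σ d :=
  ⟨(⟨p, hp⟩ : homogeneousSubmodule σ k d) ⊗ₜ[k] a, by rw [LinearMap.rTensor_tmul]; rfl⟩

theorem mul_mem_Q (d e : ℕ) (x y : MvPolynomial σ k ⊗[k] A) (hx : x ∈ Q k A σ d)
    (hy : y ∈ Q k A σ e) : x * y ∈ Q k A σ (d + e) := by
  obtain ⟨x', rfl⟩ := hx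
  obtain ⟨y', rfl⟩ := hy
  induction x' using TensorProduct.induction_on with
  | zero => rw [map_zero, zero_mul]; exact Submodule.zero_mem _
  | add x1 x2 h1 h2 => rw [map_add, add_mul]; exact Submodule.add_mem _ h1 h2
  | tmul p a =>
    induction y' using TensorProduct.induction_on with
    | zero => rw [map_zero, mul_zero]; exact Submodule.zero_mem _
    | add y1 y2 h1 h2 => rw [map_add, mul_add]; exact Submodule.add_mem _ h1 h2
    | tmul q b =>
      rw [LinearMap.rTensor_tmul, LinearMap.rTensor_tmul, Algebra.TensorProduct.tmul_mul_tmul]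
      exact tmul_mem_Q k A σ (d + e) _ (IsHomogeneous.mul p.2 q.2) _

variable [HopfRep.Comod k A (MvPolynomial σ k)] [GLin.IsCoactAlg k A (MvPolynomial σ k)]

omit [GLin.IsCoactAlg k A (MvPolynomial σ k)] in
theorem coact_mem_Q_one
    (hlin : ∀ i : σ, HopfRep.Comod.coact (k := k) (A := A) (X i : MvPolynomial σ k) ∈ Q k A σ 1)
    (p : MvPolynomial σ k) (hp : p ∈ homogeneousSubmodule σ k 1) :
    HopfRep.Comod.coact (k := k) (A := A) p ∈ Q k A σ 1 := by
  rw [homogeneousSubmodule_one_eq_span_X] at hp
  refine Submodule.span_induction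
    (p := fun p _ => HopfRep.Comod.coact (k := k) (A := A) p ∈ Q k A σ 1) ?_ ?_ ?_ ?_ hp
  · rintro _ ⟨i, rfl⟩; exact hlin i
  · rw [map_zero]; exact Submodule.zero_mem _
  · intro x y _ _ hx hy; rw [map_add]; exact Submodule.add_mem _ hx hy
  · intro c x _ hx; rw [map_smul]; exact Submodule.smul_mem _ c hx

theorem coact_mem_Q
    (hlin : ∀ i : σ, HopfRep.Comod.coact (k := k) (A := A) (X i : MvPolynomial σ k) ∈ Q k A σ 1) :
    ∀ (d : ℕ) (p : MvPolynomial σ k), p ∈ homogeneousSubmodule σ k d →
      HopfRep.Comod.coact (k := k) (A := A) p ∈ Q k A σ d := by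
  intro d
  induction d with
  | zero =>
    intro p hp
    rw [homogeneousSubmodule_zero, Submodule.mem_one] at hp
    obtain ⟨c, rfl⟩ := hp
    rw [Algebra.algebraMap_eq_smul_one, map_smul,
      GLin.IsCoactAlg.coact_one (k := k) (A := A) (R := MvPolynomial σ k),
      Algebra.TensorProduct.one_def]
    exact Submodule.smul_mem _ c (tmul_mem_Q k A σ 0 1 (isHomogeneous_one σ k) 1)
  | succ d ih =>
    intro p hp
    have h2 : homogeneousSubmodule σ k (d + 1) =
        homogeneousSubmodule σ k d * homogeneousSubmodule σ k 1 := by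
      rw [← homogeneousSubmodule_one_pow k (d + 1), pow_succ, homogeneousSubmodule_one_pow]
    rw [h2] at hp
    refine Submodule.mul_induction_on hp ?_ ?_
    · intro m hm n hn
      rw [GLin.IsCoactAlg.coact_mul]
      exact mul_mem_Q k A σ d 1 _ _ (ih m hm) (coact_mem_Q_one k A σ hlin n hn)
    · intro x y hx hy; rw [map_add]; exact Submodule.add_mem _ hx hy

omit [HopfRep.Comod k A (MvPolynomial σ k)] [GLin.IsCoactAlg k A (MvPolynomial σ k)] in
theorem rTensor_hc_self (d : ℕ) (x : MvPolynomial σ k ⊗[k] A) (hx : x ∈ Q k A σ d) :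
    (homogeneousComponent d : MvPolynomial σ k →ₗ[k] MvPolynomial σ k).rTensor A x = x := by
  obtain ⟨y, rfl⟩ := hx
  induction y using TensorProduct.induction_on with
  | zero => simp
  | add y z hy hz => rw [map_add, map_add, hy, hz]
  | tmul p a =>
    rw [LinearMap.rTensor_tmul, LinearMap.rTensor_tmul, Submodule.subtype_apply,
      homogeneousComponent_of_mem p.2, if_pos rfl]

omit [HopfRep.Comod k A (MvPolynomial σ k)] [GLin.IsCoactAlg k A (MvPolynomial σ k)] in
theorem rTensor_hc_ne (d e : ℕ) (x : MvPolynomial σ k ⊗[k] A) (hx : x ∈ Q k A σ e) (hde : d ≠ e) :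
    (homogeneousComponent d : MvPolynomial σ k →ₗ[k] MvPolynomial σ k).rTensor A x = 0 := by
  obtain ⟨y, rfl⟩ := hx
  induction y using TensorProduct.induction_on with
  | zero => simp
  | add y z hy hz => rw [map_add, map_add, hy, hz, add_zero]
  | tmul p a =>
    rw [LinearMap.rTensor_tmul, LinearMap.rTensor_tmul, Submodule.subtype_apply,
      homogeneousComponent_of_mem p.2, if_neg hde, zero_tmul]

/-- the homogeneous components are comodule maps -/
theorem coact_hc
    (hlin : ∀ i : σ, HopfRep.Comod.coact (k := k) (A := A) (X i : MvPolynomial σ k) ∈ Q k A σ 1)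
    (d : ℕ) (p : MvPolynomial σ k) :
    HopfRep.Comod.coact (k := k) (A := A) (homogeneousComponent d p) =
      (homogeneousComponent d : MvPolynomial σ k →ₗ[k] MvPolynomial σ k).rTensor A
        (HopfRep.Comod.coact (k := k) (A := A) p) := by
  have key : ∀ (e : ℕ) (q : MvPolynomial σ k), q ∈ homogeneousSubmodule σ k e →
      HopfRep.Comod.coact (k := k) (A := A) (homogeneousComponent d q) =
        (homogeneousComponent d : MvPolynomial σ k →ₗ[k] MvPolynomial σ k).rTensor A
          (HopfRep.Comod.coact (k := k) (A := A) q) := by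
    intro e q hq
    have hQ := coact_mem_Q k A σ hlin e q hq
    by_cases hde : d = e
    · subst hde
      rw [rTensor_hc_self k A σ d _ hQ, homogeneousComponent_of_mem hq, if_pos rfl]
    · rw [rTensor_hc_ne k A σ d e _ hQ hde, homogeneousComponent_of_mem hq, if_neg hde, map_zero]
  have h2 : ∀ s : Finset ℕ,
      HopfRep.Comod.coact (k := k) (A := A)
          (homogeneousComponent d (∑ i ∈ s, homogeneousComponent i p)) =
        (homogeneousComponent d : MvPolynomial σ k →ₗ[k] MvPolynomial σ k).rTensor A
          (HopfRep.Comod.coact (k := k) (A := A) (∑ i ∈ s, homogeneousComponent i p)) := by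
    intro s
    rw [map_sum, map_sum, map_sum, map_sum]
    exact Finset.sum_congr rfl (fun i _ => key i _ (homogeneousComponent_mem i p))
  have h3 := h2 (Finset.range (p.totalDegree + 1))
  rwa [sum_homogeneousComponent] at h3

theorem isComodHom_hc
    (hlin : ∀ i : σ, HopfRep.Comod.coact (k := k) (A := A) (X i : MvPolynomial σ k) ∈ Q k A σ 1)
    (d : ℕ) :
    Hoch.IsComodHom A (homogeneousComponent d : MvPolynomial σ k →ₗ[k] MvPolynomial σ k) :=
  LinearMap.ext (coact_hc k A σ hlin d)

theorem hc_mem_fixedPts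
    (hlin : ∀ i : σ, HopfRep.Comod.coact (k := k) (A := A) (X i : MvPolynomial σ k) ∈ Q k A σ 1)
    (d : ℕ) (f : MvPolynomial σ k) (hf : f ∈ HopfRep.fixedPts k A (MvPolynomial σ k)) :
    homogeneousComponent d f ∈ HopfRep.fixedPts k A (MvPolynomial σ k) := by
  have hf' : HopfRep.Comod.coact (k := k) (A := A) f = f ⊗ₜ[k] (1 : A) := hf
  show HopfRep.Comod.coact (k := k) (A := A) (homogeneousComponent d f) =
    homogeneousComponent d f ⊗ₜ[k] (1 : A)
  rw [coact_hc k A σ hlin, hf', LinearMap.rTensor_tmul]

omit [HopfRep.Comod k A (MvPolynomial σ k)] [GLin.IsCoactAlg k A (MvPolynomial σ k)] in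
theorem mem_Q_one_of_mapIncl (x : MvPolynomial σ k ⊗[k] A)
    (hx : x ∈ LinearMap.range (TensorProduct.mapIncl
      (Submodule.span k (Set.range (X : σ → MvPolynomial σ k))) (⊤ : Submodule k A))) :
    x ∈ Q k A σ 1 := by
  obtain ⟨y, rfl⟩ := hx
  induction y using TensorProduct.induction_on with
  | zero => rw [map_zero]; exact Submodule.zero_mem _
  | add y z hy hz => rw [map_add]; exact Submodule.add_mem _ hy hz
  | tmul p a =>
    have hp : (p : MvPolynomial σ k) ∈ homogeneousSubmodule σ k 1 := by
      rw [homogeneousSubmodule_one_eq_span_X]; exact p.2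
    show ((p : MvPolynomial σ k) ⊗ₜ[k] (a : A)) ∈ Q k A σ 1
    exact tmul_mem_Q k A σ 1 p hp a

end Graded

section Linear

variable (k : Type u) [Field k] (A : Type v) [CommRing A] [HopfAlgebra k A]
variable (ι : Type w) [Fintype ι]
variable [HopfRep.Comod k A (MvPolynomial ι k)] [GLin.IsCoactAlg k A (MvPolynomial ι k)]

omit [GLin.IsCoactAlg k A (MvPolynomial ι k)] in
theorem mem_Q_one_of_isLinear (h : GLin.IsLinear k A ι) (i : ι) :
    HopfRep.Comod.coact (k := k) (A := A) (X i : MvPolynomial ι k) ∈ Q k A ι 1 := by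
  obtain ⟨m, hm⟩ := h i
  rw [hm]
  exact Submodule.sum_mem _ (fun j _ => tmul_mem_Q k A ι 1 (X j) (isHomogeneous_X k j) (m j))

end Linear

section Hilbert

variable (k : Type u) [Field k] (A : Type v) [CommRing A] [HopfAlgebra k A]
variable (σ : Type w) [Finite σ]
variable [HopfRep.Comod k A (MvPolynomial σ k)] [GLin.IsCoactAlg k A (MvPolynomial σ k)]

/-- Hilbert's finiteness theorem for a linear action of a linearly reductive group. -/
theorem exists_finset_adjoin (hG : HopfRep.IsLinearlyReductive k A)
    (hlin : ∀ i : σ, HopfRep.Comod.coact (k := k) (A := A) (X i : MvPolynomial σ k) ∈ Q k A σ 1) :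
    ∃ s : Finset (MvPolynomial σ k),
      (∀ f ∈ s, f ∈ HopfRep.fixedPts k A (MvPolynomial σ k)) ∧
      ∀ f ∈ HopfRep.fixedPts k A (MvPolynomial σ k),
        f ∈ Algebra.adjoin k (s : Set (MvPolynomial σ k)) := by
  classical
  obtain ⟨β, hβ, h1⟩ := exists_leftIntegral k A hG
  let S : Set (MvPolynomial σ k) :=
    {f | f ∈ HopfRep.fixedPts k A (MvPolynomial σ k) ∧ ∃ d : ℕ, 0 < d ∧ f.IsHomogeneous d}
  have hfg : (Submodule.span (MvPolynomial σ k) S).FG := IsNoetherian.noetherian _
  obtain ⟨s, hsS, hs⟩ := (Submodule.fg_span_iff_fg_span_finset_subset S).mp hfg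
  refine ⟨s, fun f hf => (hsS hf).1, ?_⟩
  have hom : ∀ d : ℕ, ∀ f : MvPolynomial σ k, f ∈ HopfRep.fixedPts k A (MvPolynomial σ k) →
      f.IsHomogeneous d → f ∈ Algebra.adjoin k (s : Set (MvPolynomial σ k)) := by
    intro d
    induction d using Nat.strong_induction_on with
    | _ d ih =>
      intro f hf hd
      rcases Nat.eq_zero_or_pos d with rfl | hpos
      · have h0 : f ∈ homogeneousSubmodule σ k 0 := hd
        rw [homogeneousSubmodule_zero, Submodule.mem_one] at h0
        obtain ⟨c, rfl⟩ := h0
        exact Subalgebra.algebraMap_mem _ c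
      · have hfS : f ∈ S := ⟨hf, d, hpos, hd⟩
        have hfJ : f ∈ Submodule.span (MvPolynomial σ k) (s : Set (MvPolynomial σ k)) := by
          rw [← hs]; exact Submodule.subset_span hfS
        obtain ⟨a, -, ha⟩ := Submodule.mem_span_finset.mp hfJ
        have h2 : ∑ g ∈ s, rey k A β (MvPolynomial σ k) (a g) * g = f := by
          calc ∑ g ∈ s, rey k A β (MvPolynomial σ k) (a g) * g
              = ∑ g ∈ s, rey k A β (MvPolynomial σ k) (a g • g) := by
                refine Finset.sum_congr rfl (fun g hg => ?_)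
                rw [smul_eq_mul, mul_comm (a g) g,
                  rey_mul_of_fixed k A β (MvPolynomial σ k) g (hsS hg).1, mul_comm]
            _ = rey k A β (MvPolynomial σ k) (∑ g ∈ s, a g • g) := (map_sum _ _ _).symm
            _ = rey k A β (MvPolynomial σ k) f := by rw [ha]
            _ = f := rey_of_mem_fixedPts k A β (MvPolynomial σ k) h1 f hf
        have h3 : homogeneousComponent d
            (∑ g ∈ s, rey k A β (MvPolynomial σ k) (a g) * g) = f := by
          rw [h2]; exact homogeneousComponent_eq_self hd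
        rw [← h3, map_sum]
        refine Subalgebra.sum_mem _ (fun g hg => ?_)
        obtain ⟨hgfix, e, hepos, hge⟩ := hsS hg
        have hb : rey k A β (MvPolynomial σ k) (a g) ∈ HopfRep.fixedPts k A (MvPolynomial σ k) :=
          rey_mem_fixedPts k A β (MvPolynomial σ k) hβ (a g)
        have h4 : rey k A β (MvPolynomial σ k) (a g) * g =
            ∑ i ∈ Finset.range ((rey k A β (MvPolynomial σ k) (a g)).totalDegree + 1),
              homogeneousComponent i (rey k A β (MvPolynomial σ k) (a g)) * g := by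
          rw [← Finset.sum_mul, sum_homogeneousComponent]
        rw [h4, map_sum]
        refine Subalgebra.sum_mem _ (fun i _ => ?_)
        have hmem : homogeneousComponent i (rey k A β (MvPolynomial σ k) (a g)) * g ∈
            homogeneousSubmodule σ k (i + e) :=
          (homogeneousComponent_isHomogeneous i (rey k A β (MvPolynomial σ k) (a g))).mul hge
        rw [homogeneousComponent_of_mem hmem]
        split_ifs with hdi
        · have hi : i < d := by omega
          exact Subalgebra.mul_mem _
            (ih i hi _ (hc_mem_fixedPts k A σ hlin i _ hb)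
              (homogeneousComponent_isHomogeneous i _))
            (Algebra.subset_adjoin hg)
        · exact Subalgebra.zero_mem _
  intro f hf
  rw [← sum_homogeneousComponent f]
  exact Subalgebra.sum_mem _ (fun i _ => hom i _ (hc_mem_fixedPts k A σ hlin i f hf)
    (homogeneousComponent_isHomogeneous i f))

end Hilbert

end Groth.Agent.Lib.GradedInv_helper9
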