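import Mathlib

set_option autoImplicit false
set_option maxHeartbeats 400000
universe u v
open scoped Polynomial LaurentPolynomial

namespace Groth.Agent.Lib.GradedLift

theorem main {R : Type u} {A : Type v} [CommRing R] [CommRing A] [Algebra R A]
    (𝒜 : ℤ → Submodule R A) [GradedAlgebra 𝒜] (t : A) (ht : t ∈ 𝒜 (-1))
    (ψ : Localization.Away t →ₐ[R] R[T;T⁻¹])
    (hψt : ψ (algebraMap A (Localization.Away t) t) = LaurentPolynomial.T 1)
    (hψ : ∀ (n : ℤ) (a : A), a ∈ 𝒜 n →
      ∃ r : R, ψ (algebraMap A (Localization.Away t) a) =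
        LaurentPolynomial.C r * LaurentPolynomial.T (-n)) :
    (∃! χ : A →ₐ[R] R[X], ∀ a : A,
        ψ (algebraMap A (Localization.Away t) a) = Polynomial.toLaurentAlg (χ a)) ↔
      ∀ a ∈ 𝒜 1, ψ (algebraMap A (Localization.Away t) (t * a)) = 0 := by
  constructor
  · rintro ⟨χ, hχ, -⟩ a ha
    obtain ⟨r, hr⟩ := hψ 1 a ha
    have hr0 : r = 0 := by
      by_contra hne
      have h1 := hχ a
      rw [hr, Polynomial.toLaurentAlg_apply] at h1
      have h2 : (LaurentPolynomial.C r * LaurentPolynomial.T (-1) : R[T;T⁻¹]).coeff.support =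
          (Polynomial.toLaurent (χ a)).coeff.support := by rw [h1]
      rw [LaurentPolynomial.support_coeff_C_mul_T_of_ne_zero hne,
        LaurentPolynomial.support_coeff_toLaurent] at h2
      have h3 : (-1 : ℤ) ∈ (χ a).support.map Nat.castEmbedding := by
        rw [← h2]; exact Finset.mem_singleton_self _
      rw [Finset.mem_map] at h3
      obtain ⟨n, -, hn⟩ := h3
      have : (n : ℤ) = -1 := hn
      omega
    rw [map_mul, map_mul, hψt, hr, hr0, map_zero, zero_mul, mul_zero]
  · intro h
    have hpos : ∀ (m : ℕ) (a : A), a ∈ 𝒜 ((m : ℤ) + 1) →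
        ψ (algebraMap A (Localization.Away t) a) = 0 := by
      intro m a ha
      have hmem : t ^ m * a ∈ 𝒜 1 := by
        have h1 : t ^ m ∈ 𝒜 (m • (-1 : ℤ)) := SetLike.pow_mem_graded m ht
        have h2 := SetLike.mul_mem_graded h1 ha
        have e : m • (-1 : ℤ) + ((m : ℤ) + 1) = 1 := by rw [nsmul_eq_mul]; ring
        rw [e] at h2; exact h2
      have h3 := h _ hmem
      simp only [map_mul, map_pow, hψt] at h3
      rw [← mul_assoc, ← pow_succ'] at h3
      exact ((LaurentPolynomial.isUnit_T (R := R) 1).pow (m + 1)).mul_right_eq_zero.mp h3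
    have hrange : ∀ a : A, ψ (algebraMap A (Localization.Away t) a) ∈
        (Polynomial.toLaurentAlg (R := R)).range := by
      intro a
      refine DirectSum.Decomposition.inductionOn 𝒜
        (motive := fun a => ψ (algebraMap A (Localization.Away t) a) ∈
          (Polynomial.toLaurentAlg (R := R)).range) ?_ ?_ ?_ a
      · rw [map_zero, map_zero]; exact Subalgebra.zero_mem _
      · intro i m
        by_cases hi : i ≤ 0
        · obtain ⟨r, hr⟩ := hψ i m m.2
          rw [hr]
          refine ⟨Polynomial.monomial (-i).toNat r, ?_⟩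
          show Polynomial.toLaurent (Polynomial.monomial (-i).toNat r) = _
          rw [Polynomial.toLaurent_C_mul_T, Int.toNat_of_nonneg (by omega)]
        · have e : ((i - 1).toNat : ℤ) + 1 = i := by omega
          have hm : (m : A) ∈ 𝒜 (((i - 1).toNat : ℤ) + 1) := by rw [e]; exact m.2
          rw [hpos _ _ hm]
          exact Subalgebra.zero_mem _
      · intro a b ha hb
        rw [map_add, map_add]; exact Subalgebra.add_mem _ ha hb
    have hinj : Function.Injective (Polynomial.toLaurentAlg (R := R)) := by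
      intro p q hpq
      rw [Polynomial.toLaurentAlg_apply, Polynomial.toLaurentAlg_apply] at hpq
      exact Polynomial.toLaurent_injective hpq
    obtain ⟨e, he⟩ : ∃ e : R[X] ≃ₐ[R] (Polynomial.toLaurentAlg (R := R)).range,
        ∀ x, (e x : R[T;T⁻¹]) = Polynomial.toLaurentAlg x :=
      ⟨AlgEquiv.ofInjective _ hinj, fun x => AlgEquiv.ofInjective_apply _ hinj x⟩
    have key : ∀ y : (Polynomial.toLaurentAlg (R := R)).range,
        Polynomial.toLaurentAlg (e.symm y) = (y : R[T;T⁻¹]) := fun y => by
      rw [← he, AlgEquiv.apply_symm_apply]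
    let φ : A →ₐ[R] R[T;T⁻¹] := ψ.comp (IsScalarTower.toAlgHom R A (Localization.Away t))
    have hφr : ∀ a, φ a ∈ (Polynomial.toLaurentAlg (R := R)).range := fun a => hrange a
    let χ : A →ₐ[R] R[X] := (e.symm : _ →ₐ[R] R[X]).comp (φ.codRestrict _ hφr)
    have hχ : ∀ a : A, ψ (algebraMap A (Localization.Away t) a) =
        Polynomial.toLaurentAlg (χ a) := by
      intro a
      show _ = Polynomial.toLaurentAlg (e.symm (φ.codRestrict _ hφr a))
      rw [key]
      rfl
    refine ⟨χ, hχ, ?_⟩
    intro χ' hχ'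
    exact AlgHom.ext (fun a => hinj ((hχ' a).symm.trans (hχ a)))

end Groth.Agent.Lib.GradedLift
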