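import Mathlib

/-!
Helper library (helper1): graded Nakayama with homogeneous denominators — a finitely generated
projective graded module is free on given homogeneous sections after inverting a homogeneous
element outside a homogeneous maximal ideal.  APPEND-ONLY once landed.
-/

set_option autoImplicit false

namespace Groth.Agent.Lib.GradedLocH1

open DirectSum

universe u v w x

section Graded

variable {ι : Type*} [AddCommGroup ι] [DecidableEq ι]
  {R : Type*} [CommRing R] {σ : Type*} [SetLike σ R] [AddSubmonoidClass σ R]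
  (𝒜 : ι → σ) [GradedRing 𝒜]
  {M : Type*} [AddCommGroup M] [Module R M] {τ : Type*} [SetLike τ M] [AddSubmonoidClass τ M]
  (ℳ : ι → τ) [DirectSum.Decomposition ℳ] [SetLike.GradedSMul 𝒜 ℳ]

/-- The degree `d` component, as an additive map. -/
noncomputable def cmp (d : ι) : M →+ M where
  toFun x := (decompose ℳ x d : M)
  map_zero' := by rw [decompose_zero]; rfl
  map_add' x y := by rw [decompose_add]; rfl

theorem cmp_apply (d : ι) (x : M) : cmp ℳ d x = (decompose ℳ x d : M) := rfl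

theorem cmp_mem (d : ι) (x : M) : cmp ℳ d x ∈ ℳ d := (decompose ℳ x d).2

theorem cmp_of_mem_same {d : ι} {x : M} (hx : x ∈ ℳ d) : cmp ℳ d x = x :=
  decompose_of_mem_same ℳ hx

theorem cmp_of_mem_ne {d e : ι} {x : M} (hx : x ∈ ℳ d) (h : d ≠ e) : cmp ℳ e x = 0 :=
  decompose_of_mem_ne ℳ hx h

theorem eq_zero_of_cmp_eq_zero {x : M} (h : ∀ d, cmp ℳ d x = 0) : x = 0 := by
  apply (decompose ℳ).injective
  rw [decompose_zero]
  ext d
  exact h d

include 𝒜 in
theorem cmp_smul_of_right_mem {w : ι} {m : M} (hm : m ∈ ℳ w) (x : R) (d : ι) :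
    cmp ℳ d (x • m) = (cmp 𝒜 (d - w) x) • m := by
  refine DirectSum.Decomposition.inductionOn 𝒜
    (motive := fun x => cmp ℳ d (x • m) = (cmp 𝒜 (d - w) x) • m) ?_ ?_ ?_ x
  · rw [zero_smul, map_zero, map_zero, zero_smul]
  · intro j y
    have hym : (y : R) • m ∈ ℳ (j + w) := SetLike.GradedSMul.smul_mem y.2 hm
    by_cases h : d = j + w
    · subst h
      rw [cmp_of_mem_same ℳ hym, add_sub_cancel_right, cmp_of_mem_same 𝒜 y.2]
    · have h' : j ≠ d - w := fun e => h (by rw [e]; abel)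
      rw [cmp_of_mem_ne ℳ hym (Ne.symm h), cmp_of_mem_ne 𝒜 y.2 h', zero_smul]
  · intro y y' hy hy'
    rw [add_smul, map_add, map_add, add_smul, hy, hy']

theorem cmp_mul_of_left_mem {a : ι} {r : R} (hr : r ∈ 𝒜 a) (x : R) (d : ι) :
    cmp 𝒜 d (r * x) = r * cmp 𝒜 (d - a) x := by
  have e : d = a + (d - a) := by abel
  rw [cmp_apply, cmp_apply]
  conv_lhs => rw [e]
  exact coe_decompose_mul_add_of_left_mem 𝒜 hr

theorem det_mem_zero {t : ℕ} (δ : Fin t → ι) (Q : Matrix (Fin t) (Fin t) R)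
    (hneg : ∀ x, x ∈ 𝒜 0 → -x ∈ 𝒜 0)
    (hQ : ∀ j l, Q j l ∈ 𝒜 (δ j - δ l)) : Q.det ∈ 𝒜 0 := by
  rw [Matrix.det_apply]
  refine sum_mem (fun s _ => ?_)
  have hprod : ∏ i, Q (s i) i ∈ 𝒜 0 := by
    have h := SetLike.prod_mem_graded 𝒜 (fun i => δ (s i) - δ i) (fun i => Q (s i) i)
      (F := Finset.univ) (fun i _ => hQ (s i) i)
    have hz : ∑ i, (δ (s i) - δ i) = 0 := by
      rw [Finset.sum_sub_distrib, Equiv.sum_comp s δ, sub_self]
    rwa [hz] at h
  rcases Int.units_eq_one_or (Equiv.Perm.sign s) with h | h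
  · rw [h, one_smul]
    exact hprod
  · rw [h, Units.neg_smul, one_smul]
    exact hneg _ hprod

end Graded

section Mat

variable {R : Type*} [CommRing R]

theorem det_sub_one_mem {t : ℕ} (I : Ideal R) (Q : Matrix (Fin t) (Fin t) R)
    (hQ : ∀ j l, Q j l - (1 : Matrix (Fin t) (Fin t) R) j l ∈ I) : Q.det - 1 ∈ I := by
  rw [← Ideal.Quotient.eq_zero_iff_mem, map_sub, map_one, sub_eq_zero, RingHom.map_det]
  have h1 : (Ideal.Quotient.mk I).mapMatrix Q = 1 := by
    ext j l
    rw [RingHom.mapMatrix_apply, Matrix.map_apply]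
    have h2 := hQ j l
    rw [← Ideal.Quotient.eq_zero_iff_mem, map_sub, sub_eq_zero] at h2
    rw [h2]
    by_cases h : j = l
    · subst h
      simp
    · simp [h]
  rw [h1, Matrix.det_one]

theorem det_smul_eq {V : Type*} [AddCommGroup V] [Module R V] {t : ℕ}
    (Q : Matrix (Fin t) (Fin t) R) (v : Fin t → V) (j : Fin t) :
    Q.det • v j = ∑ l', Q.adjugate j l' • ∑ l, Q l' l • v l := by
  have h := Matrix.adjugate_mul Q
  have h0 : Q.det • v j = ∑ l, ((Q.det • (1 : Matrix (Fin t) (Fin t) R)) j l) • v l := by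
    rw [Finset.sum_eq_single j]
    · rw [Matrix.smul_apply, Matrix.one_apply_eq, smul_eq_mul, mul_one]
    · intro l _ hl
      rw [Matrix.smul_apply, Matrix.one_apply_ne (Ne.symm hl), smul_zero, zero_smul]
    · intro hj
      exact absurd (Finset.mem_univ j) hj
  rw [h0, ← h]
  have h1 : ∀ l, ((Q.adjugate * Q) j l) • v l = ∑ l', (Q.adjugate j l' * Q l' l) • v l := by
    intro l
    rw [Matrix.mul_apply, Finset.sum_smul]
  rw [Finset.sum_congr rfl (fun l _ => h1 l), Finset.sum_comm]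
  refine Finset.sum_congr rfl (fun l' _ => ?_)
  rw [Finset.smul_sum]
  exact Finset.sum_congr rfl (fun l _ => mul_smul _ _ _)

end Mat

theorem main18789
    {k : Type u} [Field k] {M : Type v} [AddCommGroup M] [DecidableEq M]
    {A : Type w} [CommRing A] [Algebra k A] (𝒜 : M → Submodule k A) [GradedAlgebra 𝒜]
    {P : Type x} [AddCommGroup P] [Module A P] [Module k P] [IsScalarTower k A P]
    (ℳ : M → Submodule k P) [Decomposition ℳ] [SetLike.GradedSMul 𝒜 ℳ]
    [Module.Finite A P] [Module.Projective A P]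
    (m : Ideal A) [m.IsMaximal] (hm : m.IsHomogeneous 𝒜)
    (hrat : Function.Surjective (algebraMap k (A ⧸ m)))
    {n : ℕ} (wt : Fin n → M) (f : Fin n → P) (hf : ∀ i, f i ∈ ℳ (wt i))
    (hli : LinearIndependent (A ⧸ m)
      (fun i => (Submodule.Quotient.mk (f i) : P ⧸ (m • (⊤ : Submodule A P)))))
    (hsp : Submodule.span A (Set.range f) ⊔ m • (⊤ : Submodule A P) = ⊤) :
    ∃ s : A, SetLike.IsHomogeneousElem 𝒜 s ∧ s ∉ m ∧
      (∀ p : P, ∃ (N : ℕ) (c : Fin n → A), s ^ N • p = ∑ i, c i • f i) ∧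
      (∀ c : Fin n → A, ∑ i, c i • f i = 0 → ∃ N : ℕ, ∀ i, s ^ N * c i = 0) := by
  classical
  -- homogeneous generators of `P`
  obtain ⟨t, g, hghom, hgspan⟩ : ∃ (t : ℕ) (g : Fin t → P),
      (∀ j, SetLike.IsHomogeneousElem ℳ (g j)) ∧ Submodule.span A (Set.range g) = ⊤ := by
    obtain ⟨n₀, s, hs⟩ := Module.Finite.exists_fin (R := A) (M := P)
    let S' : Finset P := Finset.univ.biUnion (fun l : Fin n₀ =>
      (DFinsupp.support (decompose ℳ (s l))).image (fun j => (decompose ℳ (s l) j : P)))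
    have hS'hom : ∀ y ∈ S', SetLike.IsHomogeneousElem ℳ y := by
      intro y hy
      obtain ⟨l, -, hy⟩ := Finset.mem_biUnion.mp hy
      obtain ⟨j, -, rfl⟩ := Finset.mem_image.mp hy
      exact ⟨j, (decompose ℳ (s l) j).2⟩
    have hS'span : Submodule.span A (S' : Set P) = ⊤ := by
      rw [eq_top_iff, ← hs, Submodule.span_le]
      rintro _ ⟨l, rfl⟩
      rw [← sum_support_decompose ℳ (s l)]
      refine Submodule.sum_mem _ (fun j hj => Submodule.subset_span ?_)
      exact Finset.mem_biUnion.mpr ⟨l, Finset.mem_univ _, Finset.mem_image.mpr ⟨j, hj, rfl⟩⟩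
    refine ⟨S'.card, fun i => ((S'.equivFin.symm i : S') : P),
      fun i => hS'hom _ (S'.equivFin.symm i).2, ?_⟩
    rw [eq_top_iff, ← hS'span, Submodule.span_le]
    intro y hy
    refine Submodule.subset_span ⟨S'.equivFin ⟨y, hy⟩, ?_⟩
    simp
  choose δ hδ using hghom
  have hneg0 : ∀ y, y ∈ 𝒜 0 → -y ∈ 𝒜 0 := fun y hy => neg_mem hy
  -- Part 1
  have hstep : ∀ j, ∃ (c : Fin n → A) (a : Fin t → A), (∀ l, a l ∈ m) ∧
      g j = ∑ i, c i • f i + ∑ l, a l • g l := by
    intro j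
    have hj : g j ∈ Submodule.span A (Set.range f) ⊔ m • (⊤ : Submodule A P) := by
      rw [hsp]
      exact Submodule.mem_top
    obtain ⟨u, hu, v', hv, huv⟩ := Submodule.mem_sup.mp hj
    obtain ⟨c, rfl⟩ := (Submodule.mem_span_range_iff_exists_fun A).mp hu
    rw [← hgspan] at hv
    obtain ⟨a, ha, rfl⟩ := (Submodule.mem_ideal_smul_span_iff_exists_sum m g v').mp hv
    refine ⟨c, a, ha, ?_⟩
    rw [← huv, Finsupp.sum_fintype a (fun i c => c • g i) (fun i => zero_smul A (g i))]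
  choose c₀ a₀ ha₀ hg₀ using hstep
  let a' : Fin t → Fin t → A := fun j l => cmp 𝒜 (δ j - δ l) (a₀ j l)
  let c' : Fin t → Fin n → A := fun j i => cmp 𝒜 (δ j - wt i) (c₀ j i)
  have ha'm : ∀ j l, a' j l ∈ m := fun j l => hm _ (ha₀ j l)
  have ha'mem : ∀ j l, a' j l ∈ 𝒜 (δ j - δ l) := fun j l => cmp_mem 𝒜 _ _
  have hg' : ∀ j, g j = ∑ i, c' j i • f i + ∑ l, a' j l • g l := by
    intro j
    have h1 := congrArg (cmp ℳ (δ j)) (hg₀ j)
    rw [cmp_of_mem_same ℳ (hδ j), map_add, map_sum, map_sum] at h1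
    rw [h1]
    congr 1
    · exact Finset.sum_congr rfl (fun i _ => cmp_smul_of_right_mem 𝒜 ℳ (hf i) _ _)
    · exact Finset.sum_congr rfl (fun l _ => cmp_smul_of_right_mem 𝒜 ℳ (hδ l) _ _)
  let Q : Matrix (Fin t) (Fin t) A := 1 - Matrix.of a'
  have hQapp : ∀ j l, Q j l = (1 : Matrix (Fin t) (Fin t) A) j l - a' j l := fun j l => rfl
  have hQg : ∀ j, ∑ l, Q j l • g l = ∑ i, c' j i • f i := by
    intro j
    have h1 : ∑ l, Q j l • g l = ∑ l, (1 : Matrix (Fin t) (Fin t) A) j l • g l -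
        ∑ l, a' j l • g l := by
      rw [← Finset.sum_sub_distrib]
      exact Finset.sum_congr rfl (fun l _ => by rw [hQapp, sub_smul])
    have h2 : ∑ l, (1 : Matrix (Fin t) (Fin t) A) j l • g l = g j := by
      rw [Finset.sum_eq_single j]
      · rw [Matrix.one_apply_eq, one_smul]
      · intro l _ hl
        rw [Matrix.one_apply_ne (Ne.symm hl), zero_smul]
      · intro hj
        exact absurd (Finset.mem_univ j) hj
    rw [h1, h2]
    nth_rewrite 1 [hg' j]
    rw [add_sub_cancel_right]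
  have hQmem : ∀ j l, Q j l ∈ 𝒜 (δ j - δ l) := by
    intro j l
    rw [hQapp]
    by_cases h : j = l
    · subst h
      rw [Matrix.one_apply_eq]
      refine sub_mem ?_ (ha'mem j j)
      rw [sub_self]
      exact SetLike.GradedOne.one_mem
    · rw [Matrix.one_apply_ne h, zero_sub]
      exact neg_mem (ha'mem j l)
  have hQm : ∀ j l, Q j l - (1 : Matrix (Fin t) (Fin t) A) j l ∈ m := by
    intro j l
    rw [hQapp, sub_sub_cancel_left]
    exact neg_mem (ha'm j l)
  set s₁ := Q.det with hs₁def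
  have hs₁0 : s₁ ∈ 𝒜 0 := det_mem_zero 𝒜 δ Q hneg0 hQmem
  have hs₁m : s₁ - 1 ∈ m := det_sub_one_mem m Q hQm
  have hs₁g : ∀ j, s₁ • g j ∈ Submodule.span A (Set.range f) := by
    intro j
    rw [hs₁def, det_smul_eq Q g j]
    refine Submodule.sum_mem _ (fun l' _ => Submodule.smul_mem _ _ ?_)
    rw [hQg]
    exact Submodule.sum_mem _ (fun i _ => Submodule.smul_mem _ _ (Submodule.subset_span ⟨i, rfl⟩))
  have hs₁P : ∀ p : P, s₁ • p ∈ Submodule.span A (Set.range f) := by
    intro p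
    have hle : Submodule.span A (Set.range g) ≤
        Submodule.comap (s₁ • (LinearMap.id : P →ₗ[A] P)) (Submodule.span A (Set.range f)) :=
      Submodule.span_le.mpr (by
        rintro _ ⟨j, rfl⟩
        exact hs₁g j)
    exact hle (hgspan ▸ Submodule.mem_top)
  -- Part 2
  let π : (Fin n → A) →ₗ[A] P := Fintype.linearCombination A f
  have hπ : ∀ c, π c = ∑ i, c i • f i := fun c => Fintype.linearCombination_apply A f c
  have hrange : ∀ p : P, (s₁ • (LinearMap.id : P →ₗ[A] P)) p ∈ LinearMap.range π := by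
    intro p
    rw [Fintype.range_linearCombination]
    exact hs₁P p
  obtain ⟨lam, hlam⟩ := Module.projective_lifting_property π.rangeRestrict
    ((s₁ • (LinearMap.id : P →ₗ[A] P)).codRestrict (LinearMap.range π) hrange)
    (LinearMap.surjective_rangeRestrict π)
  have hlam' : ∀ p, π (lam p) = s₁ • p :=
    fun p => congrArg Subtype.val (LinearMap.congr_fun hlam p)
  let ρ : (Fin n → A) →ₗ[A] (Fin n → A) := s₁ • LinearMap.id - lam ∘ₗ π
  have hρ : ∀ c, ρ c = s₁ • c - lam (π c) := fun c => rfl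
  have hπρ : ∀ c, π (ρ c) = 0 := by
    intro c
    rw [hρ, map_sub, hlam', map_smul, sub_self]
  have hρK : ∀ c, π c = 0 → ρ c = s₁ • c := by
    intro c hc
    rw [hρ, hc, map_zero, sub_zero]
  let comp : M → (Fin n → A) → (Fin n → A) := fun d c i => cmp 𝒜 (d - wt i) (c i)
  have comp_add : ∀ d c c₂, comp d (c + c₂) = comp d c + comp d c₂ := by
    intro d c c₂
    funext i
    show cmp 𝒜 (d - wt i) (c i + c₂ i) = _
    rw [map_add]
    rfl
  have comp_zero : ∀ d, comp d 0 = 0 := by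
    intro d
    funext i
    show cmp 𝒜 (d - wt i) 0 = 0
    rw [map_zero]
  have comp_sum : ∀ d (s : Finset (Fin n)) (F : Fin n → (Fin n → A)),
      comp d (∑ i ∈ s, F i) = ∑ i ∈ s, comp d (F i) := by
    intro d s F
    induction s using Finset.induction_on with
    | empty => simp [comp_zero]
    | insert a s ha ih => rw [Finset.sum_insert ha, Finset.sum_insert ha, comp_add, ih]
  have comp_smul : ∀ (a : M) (r : A), r ∈ 𝒜 a → ∀ d c, comp d (r • c) = r • comp (d - a) c := by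
    intro a r hr d c
    funext i
    show cmp 𝒜 (d - wt i) (r * c i) = r * cmp 𝒜 (d - a - wt i) (c i)
    rw [cmp_mul_of_left_mem 𝒜 hr]
    congr 2
    abel
  have hπcomp : ∀ d c, π (comp d c) = cmp ℳ d (π c) := by
    intro d c
    rw [hπ, hπ, map_sum]
    refine Finset.sum_congr rfl (fun i _ => ?_)
    rw [cmp_smul_of_right_mem 𝒜 ℳ (hf i)]
  have comp_eq_zero : ∀ c, (∀ d, comp d c = 0) → c = 0 := by
    intro c hc
    funext i
    apply eq_zero_of_cmp_eq_zero 𝒜
    intro j
    have h1 := congrFun (hc (j + wt i)) i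
    simpa [comp] using h1
  have comp_self : ∀ d c, (∀ i, c i ∈ 𝒜 (d - wt i)) → comp d c = c := by
    intro d c hc
    funext i
    exact cmp_of_mem_same 𝒜 (hc i)
  have hKm : ∀ c, π c = 0 → ∀ i, c i ∈ m := by
    intro c hc i
    have h1 := Fintype.linearIndependent_iff.mp hli (fun i => Ideal.Quotient.mk m (c i)) ?_ i
    · exact Ideal.Quotient.eq_zero_iff_mem.mp h1
    · have h2 : ∀ i, (Ideal.Quotient.mk m (c i)) •
          (Submodule.Quotient.mk (f i) : P ⧸ (m • (⊤ : Submodule A P))) =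
          Submodule.Quotient.mk (c i • f i) := fun i => rfl
      have h3 : ∑ i, (Submodule.Quotient.mk (c i • f i) : P ⧸ (m • (⊤ : Submodule A P))) =
          Submodule.Quotient.mk (∑ i, c i • f i) :=
        (map_sum (Submodule.mkQ (m • (⊤ : Submodule A P))) (fun i => c i • f i) Finset.univ).symm
      rw [Finset.sum_congr rfl (fun i _ => h2 i), h3, ← hπ, hc]
      rfl
  let κ : Fin n → (Fin n → A) := fun i => ρ (Pi.single i 1)
  let κ' : Fin n → (Fin n → A) := fun i => comp (wt i) (κ i)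
  have hκ'K : ∀ i, π (κ' i) = 0 := by
    intro i
    show π (comp (wt i) (κ i)) = 0
    rw [hπcomp]
    show cmp ℳ (wt i) (π (ρ (Pi.single i 1))) = 0
    rw [hπρ, map_zero]
  have hκ'mem : ∀ l i, κ' l i ∈ 𝒜 (wt l - wt i) := fun l i => cmp_mem 𝒜 _ _
  have hκ'm : ∀ l i, κ' l i ∈ m := fun l i => hKm _ (hκ'K l) i
  have HR : ∀ d c, π c = 0 → (∀ i, c i ∈ 𝒜 (d - wt i)) → s₁ • c = ∑ i, c i • κ' i := by
    intro d c hc hmem
    have h1 : s₁ • c = ∑ i, c i • κ i := by
      have h2 : c = ∑ i, c i • (Pi.single i 1 : Fin n → A) := by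
        funext j
        simp [Finset.sum_apply, Pi.single_apply]
      rw [← hρK c hc]
      conv_lhs => rw [h2]
      rw [map_sum]
      exact Finset.sum_congr rfl (fun i _ => map_smul _ _ _)
    have h3 := congrArg (comp d) h1
    rw [comp_smul 0 s₁ hs₁0, sub_zero, comp_self d c hmem, comp_sum] at h3
    rw [h3]
    refine Finset.sum_congr rfl (fun i _ => ?_)
    rw [comp_smul (d - wt i) (c i) (hmem i), sub_sub_cancel]
  let Q' : Matrix (Fin n) (Fin n) A := s₁ • 1 - Matrix.of (fun l i => κ' l i)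
  have hQ'app : ∀ l i, Q' l i = s₁ * (1 : Matrix (Fin n) (Fin n) A) l i - κ' l i := fun l i => rfl
  have hQ'κ : ∀ l, ∑ i, Q' l i • κ' i = 0 := by
    intro l
    have h1 : ∑ i, Q' l i • κ' i = ∑ i, (s₁ * (1 : Matrix (Fin n) (Fin n) A) l i) • κ' i -
        ∑ i, κ' l i • κ' i := by
      rw [← Finset.sum_sub_distrib]
      exact Finset.sum_congr rfl (fun i _ => by rw [hQ'app, sub_smul])
    have h2 : ∑ i, (s₁ * (1 : Matrix (Fin n) (Fin n) A) l i) • κ' i = s₁ • κ' l := by
      rw [Finset.sum_eq_single l]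
      · rw [Matrix.one_apply_eq, mul_one]
      · intro i _ hi
        rw [Matrix.one_apply_ne (Ne.symm hi), mul_zero, zero_smul]
      · intro hl
        exact absurd (Finset.mem_univ l) hl
    rw [h1, h2, HR (wt l) (κ' l) (hκ'K l) (hκ'mem l), sub_self]
  have hQ'mem : ∀ l i, Q' l i ∈ 𝒜 (wt l - wt i) := by
    intro l i
    rw [hQ'app]
    by_cases h : l = i
    · subst h
      rw [Matrix.one_apply_eq, mul_one]
      refine sub_mem ?_ (hκ'mem l l)
      rw [sub_self]
      exact hs₁0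
    · rw [Matrix.one_apply_ne h, mul_zero, zero_sub]
      exact neg_mem (hκ'mem l i)
  have hQ'm : ∀ l i, Q' l i - (1 : Matrix (Fin n) (Fin n) A) l i ∈ m := by
    intro l i
    rw [hQ'app]
    by_cases h : l = i
    · subst h
      rw [Matrix.one_apply_eq, mul_one]
      have h1 : s₁ - κ' l l - 1 = (s₁ - 1) - κ' l l := by ring
      rw [h1]
      exact sub_mem hs₁m (hκ'm l l)
    · rw [Matrix.one_apply_ne h, mul_zero, zero_sub, sub_zero]
      exact neg_mem (hκ'm l i)
  set s₂ := Q'.det with hs₂def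
  have hs₂0 : s₂ ∈ 𝒜 0 := det_mem_zero 𝒜 wt Q' hneg0 hQ'mem
  have hs₂m : s₂ - 1 ∈ m := det_sub_one_mem m Q' hQ'm
  have hs₂κ : ∀ j, s₂ • κ' j = 0 := by
    intro j
    rw [hs₂def, det_smul_eq Q' κ' j]
    refine Finset.sum_eq_zero (fun l' _ => ?_)
    rw [hQ'κ, smul_zero]
  -- conclusion
  have hs0 : s₁ * s₂ ∈ 𝒜 0 := by
    have h1 := SetLike.GradedMul.mul_mem hs₁0 hs₂0
    rwa [add_zero] at h1
  have hnot : ∀ y : A, y - 1 ∈ m → y ∉ m := by
    intro y hy hy'
    have h1 : (1 : A) ∈ m := by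
      have h2 : (1 : A) = y - (y - 1) := by ring
      rw [h2]
      exact sub_mem hy' hy
    exact (Ideal.IsPrime.ne_top inferInstance) ((Ideal.eq_top_iff_one m).mpr h1)
  refine ⟨s₁ * s₂, ⟨0, hs0⟩, ?_, ?_, ?_⟩
  · intro hmem
    rcases (Ideal.IsPrime.mem_or_mem inferInstance hmem) with h | h
    · exact hnot s₁ hs₁m h
    · exact hnot s₂ hs₂m h
  · intro p
    have h1 : (s₁ * s₂) ^ 1 • p ∈ Submodule.span A (Set.range f) := by
      rw [pow_one, mul_comm, mul_smul]
      exact Submodule.smul_mem _ _ (hs₁P p)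
    obtain ⟨c, hc⟩ := (Submodule.mem_span_range_iff_exists_fun A).mp h1
    exact ⟨1, c, hc.symm⟩
  · intro c hc
    refine ⟨1, ?_⟩
    have hcK : π c = 0 := by rw [hπ]; exact hc
    have hvec : (s₁ * s₂) • c = 0 := by
      apply comp_eq_zero
      intro d
      rw [comp_smul 0 (s₁ * s₂) hs0, sub_zero]
      have hcdK : π (comp d c) = 0 := by rw [hπcomp, hcK, map_zero]
      have hcdmem : ∀ i, comp d c i ∈ 𝒜 (d - wt i) := fun i => cmp_mem 𝒜 _ _
      have h1 := HR d (comp d c) hcdK hcdmem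
      rw [mul_comm, mul_smul, h1, Finset.smul_sum]
      refine Finset.sum_eq_zero (fun i _ => ?_)
      rw [smul_comm, hs₂κ, smul_zero]
    intro i
    rw [pow_one]
    exact congrFun hvec i

end Groth.Agent.Lib.GradedLocH1
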