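import Mathlib

/-!
# ℤ-graded Noetherian rings (Bruns–Herzog 1.5.5)
-/

namespace Groth.Agent.Lib.GradedNoeth

open DirectSum

variable {R A : Type*} [CommRing R] [CommRing A] [Algebra R A]
  (𝒜 : ℤ → Submodule R A) [GradedAlgebra 𝒜]

/-- homogeneous coefficient extraction. -/
theorem exists_homog_coeffs (T : Finset A) (deg : A → ℤ) (hdeg : ∀ t ∈ T, t ∈ 𝒜 (deg t))
    (n : ℤ) (y : A) (hy : y ∈ 𝒜 n) (hyT : y ∈ Ideal.span (T : Set A)) :
    ∃ c : A → A, (∀ t ∈ T, c t ∈ 𝒜 (n - deg t)) ∧ y = ∑ t ∈ T, c t * t := by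
  obtain ⟨f, -, hf⟩ := Submodule.mem_span_finset.mp hyT
  refine ⟨fun t => (decompose 𝒜 (f t) (n - deg t) : A), fun t _ => Submodule.coe_mem _, ?_⟩
  calc y = GradedRing.proj 𝒜 n y := by
        rw [GradedRing.proj_apply, decompose_of_mem_same 𝒜 hy]
    _ = GradedRing.proj 𝒜 n (∑ t ∈ T, f t • t) := by rw [hf]
    _ = ∑ t ∈ T, GradedRing.proj 𝒜 n (f t • t) := map_sum _ _ _
    _ = ∑ t ∈ T, (decompose 𝒜 (f t) (n - deg t) : A) * t :=
      Finset.sum_congr rfl fun t ht => by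
        rw [GradedRing.proj_apply, smul_eq_mul]
        have := coe_decompose_mul_add_of_right_mem 𝒜 (a := f t) (i := n - deg t) (hdeg t ht)
        rwa [sub_add_cancel] at this

theorem isNoetherianRing_zero (h : ∀ I : Ideal A, I.IsHomogeneous 𝒜 → I.FG) :
    IsNoetherianRing (𝒜 0) := by
  classical
  rw [isNoetherianRing_iff_ideal_fg]
  intro I
  have hS : ∀ x ∈ (fun x : 𝒜 0 => (x : A)) '' (I : Set (𝒜 0)),
      SetLike.IsHomogeneousElem 𝒜 x := by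
    rintro _ ⟨x, -, rfl⟩; exact ⟨0, x.2⟩
  obtain ⟨T, hTS, hT⟩ := (Submodule.fg_span_iff_fg_span_finset_subset _).mp
    (h (Ideal.span _) (Ideal.homogeneous_span 𝒜 _ hS))
  obtain ⟨T0, hT0, rfl⟩ := Finset.subset_set_image_iff.mp hTS
  refine ⟨T0, le_antisymm (Ideal.span_le.mpr hT0) ?_⟩
  intro y hy
  have hyT : (y : A) ∈ Ideal.span ((T0.image (fun x : 𝒜 0 => (x : A)) : Finset A) : Set A) := by
    have : (y : A) ∈ Submodule.span A ((fun x : 𝒜 0 => (x : A)) '' (I : Set (𝒜 0))) :=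
      Submodule.subset_span ⟨y, hy, rfl⟩
    rw [hT] at this; exact this
  obtain ⟨c, hc, hyc⟩ := exists_homog_coeffs 𝒜 _ (fun _ => 0) (fun t ht => by
      obtain ⟨x, -, rfl⟩ := Finset.mem_image.mp ht; exact x.2) 0 (y : A) y.2 hyT
  rw [Finset.sum_image (fun a _ b _ hab => Subtype.ext hab)] at hyc
  have hcmem : ∀ t0 ∈ T0, c (t0 : A) ∈ 𝒜 0 := by
    intro t0 ht0
    have := hc (t0 : A) (Finset.mem_image_of_mem _ ht0)
    simpa using this
  obtain ⟨c', hc'⟩ : ∃ c' : 𝒜 0 → 𝒜 0, ∀ t0 ∈ T0, ((c' t0 : 𝒜 0) : A) = c (t0 : A) :=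
    ⟨fun t0 => if ht : c (t0 : A) ∈ 𝒜 0 then ⟨c t0, ht⟩ else 0, fun t0 ht0 => by
      simp only [dif_pos (hcmem t0 ht0)]⟩
  have hysum : y = ∑ t0 ∈ T0, c' t0 * t0 := by
    apply Subtype.ext
    have hcoe : ((∑ t0 ∈ T0, c' t0 * t0 : 𝒜 0) : A) = ∑ t0 ∈ T0, ((c' t0 * t0 : 𝒜 0) : A) :=
      map_sum (algebraMap (𝒜 0) A) (fun t0 => c' t0 * t0) T0
    rw [hcoe, hyc]
    refine Finset.sum_congr rfl fun t0 ht0 => ?_
    rw [← hc' t0 ht0]; rfl
  rw [hysum]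
  exact sum_mem fun t0 ht0 => Ideal.mul_mem_left _ _ (Ideal.subset_span ht0)

theorem adjoin_fg_of_sign (h : ∀ I : Ideal A, I.IsHomogeneous 𝒜 → I.FG) (ε : ℤ) :
    (Algebra.adjoin (𝒜 0) {a : A | ∃ n : ℕ, a ∈ 𝒜 (ε * n)}).FG := by
  classical
  have hS : ∀ x ∈ {a : A | ∃ n : ℕ, 1 ≤ n ∧ a ∈ 𝒜 (ε * n)}, SetLike.IsHomogeneousElem 𝒜 x :=
    fun x ⟨n, _, hx⟩ => ⟨_, hx⟩
  obtain ⟨T, hTS, hT⟩ := (Submodule.fg_span_iff_fg_span_finset_subset _).mp
    (h (Ideal.span _) (Ideal.homogeneous_span 𝒜 _ hS))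
  have hTdeg : ∀ t ∈ T, ∃ n : ℕ, 1 ≤ n ∧ t ∈ 𝒜 (ε * n) := fun t ht => hTS ht
  choose! dg hdg using hTdeg
  obtain ⟨d, hd⟩ : ∃ d : ℕ, d = T.sup dg + 1 := ⟨_, rfl⟩
  have hpiece : ∀ n : ℕ, ∃ Tn : Finset A, (↑Tn ⊆ (𝒜 (ε * n) : Set A)) ∧
      Submodule.span A ((𝒜 (ε * n) : Set A)) = Submodule.span A (Tn : Set A) := by
    intro n
    have hSn : ∀ x ∈ ((𝒜 (ε * n) : Set A)), SetLike.IsHomogeneousElem 𝒜 x :=
      fun x hx => ⟨_, hx⟩
    exact (Submodule.fg_span_iff_fg_span_finset_subset _).mp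
      (h (Ideal.span _) (Ideal.homogeneous_span 𝒜 _ hSn))
  choose Tn hTn1 hTn2 using hpiece
  refine ⟨T ∪ (Finset.range d).biUnion Tn, ?_⟩
  have hB : ∀ n : ℕ, ∀ y ∈ 𝒜 (ε * n),
      y ∈ Algebra.adjoin (𝒜 0) ((T ∪ (Finset.range d).biUnion Tn : Finset A) : Set A) := by
    intro n
    induction n using Nat.strong_induction_on with
    | _ n ih =>
      intro y hy
      rcases Nat.eq_zero_or_pos n with rfl | hn
      · have hy0 : y ∈ 𝒜 0 := by simpa using hy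
        exact Subalgebra.algebraMap_mem _ (⟨y, hy0⟩ : 𝒜 0)
      · by_cases hnd : n < d
        · have hyT : y ∈ Ideal.span ((Tn n : Finset A) : Set A) := by
            have : y ∈ Submodule.span A ((𝒜 (ε * n) : Set A)) := Submodule.subset_span hy
            rw [hTn2 n] at this; exact this
          obtain ⟨c, hc, hyc⟩ := exists_homog_coeffs 𝒜 (Tn n) (fun _ => ε * n)
            (fun t ht => hTn1 n ht) (ε * n) y hy hyT
          rw [hyc]
          refine sum_mem fun t ht => mul_mem ?_ ?_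
          · have hct : c t ∈ 𝒜 0 := by simpa using hc t ht
            exact Subalgebra.algebraMap_mem _ (⟨c t, hct⟩ : 𝒜 0)
          · apply Algebra.subset_adjoin
            rw [Finset.mem_coe, Finset.mem_union, Finset.mem_biUnion]
            exact Or.inr ⟨n, Finset.mem_range.mpr hnd, ht⟩
        · have hyT : y ∈ Ideal.span (T : Set A) := by
            have : y ∈ Submodule.span A {a : A | ∃ n : ℕ, 1 ≤ n ∧ a ∈ 𝒜 (ε * n)} :=
              Submodule.subset_span ⟨n, hn, hy⟩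
            rw [hT] at this; exact this
          obtain ⟨c, hc, hyc⟩ := exists_homog_coeffs 𝒜 T (fun t => ε * dg t)
            (fun t ht => (hdg t ht).2) (ε * n) y hy hyT
          rw [hyc]
          refine sum_mem fun t ht => mul_mem ?_ ?_
          · have h1 : 1 ≤ dg t := (hdg t ht).1
            have h2 : dg t < d := by rw [hd]; exact Nat.lt_succ_of_le (Finset.le_sup ht)
            have h3 : dg t ≤ n := by omega
            have hct : c t ∈ 𝒜 (ε * ((n - dg t : ℕ) : ℤ)) := by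
              have := hc t ht
              rw [Nat.cast_sub h3, mul_sub]; exact this
            exact ih (n - dg t) (by omega) (c t) hct
          · exact Algebra.subset_adjoin (Finset.mem_coe.mpr (Finset.mem_union_left _ ht))
  apply le_antisymm
  · apply Algebra.adjoin_le
    intro g hg
    rw [Finset.mem_coe, Finset.mem_union, Finset.mem_biUnion] at hg
    rcases hg with hg | ⟨n, _, hg⟩
    · exact Algebra.subset_adjoin ⟨dg g, (hdg g hg).2⟩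
    · exact Algebra.subset_adjoin ⟨n, hTn1 n hg⟩
  · apply Algebra.adjoin_le
    rintro y ⟨n, hy⟩
    exact hB n y hy

theorem tfae : [IsNoetherianRing A,
     ∀ I : Ideal A, I.IsHomogeneous 𝒜 → I.FG,
     IsNoetherianRing (𝒜 0) ∧
       (Algebra.adjoin (𝒜 0) {a : A | ∃ n : ℤ, 0 ≤ n ∧ a ∈ 𝒜 n}).FG ∧
       (Algebra.adjoin (𝒜 0) {a : A | ∃ n : ℤ, n ≤ 0 ∧ a ∈ 𝒜 n}).FG,
     IsNoetherianRing (𝒜 0) ∧ Algebra.FiniteType (𝒜 0) A].TFAE := by
  have hpos : {a : A | ∃ n : ℤ, 0 ≤ n ∧ a ∈ 𝒜 n} =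
      {a : A | ∃ n : ℕ, a ∈ 𝒜 ((1 : ℤ) * n)} := by
    ext a
    constructor
    · rintro ⟨n, hn, ha⟩
      refine ⟨n.toNat, ?_⟩
      rw [one_mul, Int.toNat_of_nonneg hn]; exact ha
    · rintro ⟨n, ha⟩
      exact ⟨(1 : ℤ) * n, by omega, ha⟩
  have hneg : {a : A | ∃ n : ℤ, n ≤ 0 ∧ a ∈ 𝒜 n} =
      {a : A | ∃ n : ℕ, a ∈ 𝒜 ((-1 : ℤ) * n)} := by
    ext a
    constructor
    · rintro ⟨n, hn, ha⟩
      refine ⟨(-n).toNat, ?_⟩
      rw [Int.toNat_of_nonneg (by omega)]; simpa using ha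
    · rintro ⟨n, ha⟩
      exact ⟨(-1 : ℤ) * n, by omega, ha⟩
  tfae_have 1 → 2 := fun h I _ => (isNoetherianRing_iff_ideal_fg A).mp h I
  tfae_have 2 → 3 := fun h => ⟨isNoetherianRing_zero 𝒜 h,
    by rw [hpos]; exact adjoin_fg_of_sign 𝒜 h 1, by rw [hneg]; exact adjoin_fg_of_sign 𝒜 h (-1)⟩
  tfae_have 3 → 4 := by
    rintro ⟨h0, hp, hn⟩
    refine ⟨h0, ⟨?_⟩⟩
    have hsup := hp.sup hn
    have htop : Algebra.adjoin (𝒜 0) {a : A | ∃ n : ℤ, 0 ≤ n ∧ a ∈ 𝒜 n} ⊔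
        Algebra.adjoin (𝒜 0) {a : A | ∃ n : ℤ, n ≤ 0 ∧ a ∈ 𝒜 n} = ⊤ := by
      classical
      rw [eq_top_iff]
      intro a _
      rw [← DirectSum.sum_support_decompose 𝒜 a]
      refine sum_mem fun i _ => ?_
      rcases le_total 0 i with hi | hi
      · exact (le_sup_left : _ ≤ Algebra.adjoin (𝒜 0) {a : A | ∃ n : ℤ, 0 ≤ n ∧ a ∈ 𝒜 n} ⊔
          Algebra.adjoin (𝒜 0) {a : A | ∃ n : ℤ, n ≤ 0 ∧ a ∈ 𝒜 n})
          (Algebra.subset_adjoin ⟨i, hi, Submodule.coe_mem _⟩)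
      · exact (le_sup_right : _ ≤ Algebra.adjoin (𝒜 0) {a : A | ∃ n : ℤ, 0 ≤ n ∧ a ∈ 𝒜 n} ⊔
          Algebra.adjoin (𝒜 0) {a : A | ∃ n : ℤ, n ≤ 0 ∧ a ∈ 𝒜 n})
          (Algebra.subset_adjoin ⟨i, hi, Submodule.coe_mem _⟩)
    rw [htop] at hsup
    exact hsup
  tfae_have 4 → 1 := by
    rintro ⟨h0, hft⟩
    exact Algebra.FiniteType.isNoetherianRing (𝒜 0) A
  tfae_finish

end Groth.Agent.Lib.GradedNoeth
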