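import Mathlib
import Groth.Agent.Lib.GradedGen_helper3

/-!
# Graded pieces of finitely generated graded algebras/modules are finite over degree zero (helper1)
-/

set_option autoImplicit false

namespace Groth.Agent.Lib.GradedPieceH1

open DirectSum

section Ring
variable {A σ : Type*} [CommRing A] [SetLike σ A] [AddSubgroupClass σ A] (𝒜 : ℕ → σ)
  [GradedRing 𝒜]

/-- the degree-zero subring -/
abbrev S0 : Subring A := SetLike.GradeZero.subring 𝒜

theorem mul_mem_span_image {U : Set A} {b : A} (hb : b ∈ Submodule.span (S0 𝒜) U) (x : A) :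
    b * x ∈ Submodule.span (S0 𝒜) ((fun t => t * x) '' U) := by
  induction hb using Submodule.span_induction with
  | mem u hu => exact Submodule.subset_span ⟨u, hu, rfl⟩
  | zero => rw [zero_mul]; exact zero_mem _
  | add y z _ _ hy hz => rw [add_mul]; exact add_mem hy hz
  | smul r y _ hy => rw [smul_mul_assoc]; exact Submodule.smul_mem _ _ hy

theorem piece_span [Algebra.FiniteType (𝒜 0) A] (N : ℕ) :
    ∃ T : Finset A, (∀ t ∈ T, t ∈ 𝒜 N) ∧
      ∀ a ∈ 𝒜 N, a ∈ Submodule.span (S0 𝒜) (T : Set A) := by
  classical
  obtain ⟨s, hs, hs'⟩ := GradedAlgebra.exists_finset_adjoin_eq_top_and_homogeneous_ne_zero 𝒜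
  choose! dx hdx hxd using hs'
  have hirr : (HomogeneousIdeal.irrelevant 𝒜).toIdeal = Ideal.span (s : Set A) :=
    Groth.Agent.Lib.GradedGen_helper3.irrelevant_eq_span_of_adjoin 𝒜 (s : Set A)
      (fun e he => ⟨dx e, Nat.pos_of_ne_zero (hdx e he), hxd e he⟩) hs
  induction N using Nat.strong_induction_on with
  | _ N ih =>
    rcases Nat.eq_zero_or_pos N with rfl | hN
    · refine ⟨{1}, ?_, ?_⟩
      · intro t ht
        rw [Finset.mem_singleton] at ht
        rw [ht]
        exact SetLike.GradedOne.one_mem
      · intro a ha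
        have : a = (⟨a, ha⟩ : S0 𝒜) • (1 : A) := by
          rw [Subring.smul_def, smul_eq_mul, mul_one]
        rw [this]
        exact Submodule.smul_mem _ _ (Submodule.subset_span (by simp))
    · choose! T hT1 hT2 using ih
      refine ⟨s.biUnion (fun x => if dx x ≤ N then (T (N - dx x)).image (fun t => t * x) else ∅),
        ?_, ?_⟩
      · intro t ht
        rw [Finset.mem_biUnion] at ht
        obtain ⟨x, hx, ht⟩ := ht
        split_ifs at ht with hle
        · rw [Finset.mem_image] at ht
          obtain ⟨t', ht', rfl⟩ := ht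
          have hlt : N - dx x < N := by
            have := Nat.pos_of_ne_zero (hdx x hx)
            omega
          have := SetLike.GradedMul.mul_mem (hT1 _ hlt t' ht') (hxd x hx)
          rwa [Nat.sub_add_cancel hle] at this
        · simp at ht
      · intro a ha
        have hairr : a ∈ Ideal.span (s : Set A) := by
          rw [← hirr]
          exact HomogeneousIdeal.mem_irrelevant_of_mem 𝒜 hN ha
        obtain ⟨c, -, hc⟩ := (Submodule.mem_span_finset).mp hairr
        have ha' : a = ∑ x ∈ s,
            (if dx x ≤ N then (decompose 𝒜 (c x) (N - dx x) : A) * x else 0) := by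
          calc a = GradedRing.proj 𝒜 N a := by
                rw [GradedRing.proj_apply, DirectSum.decompose_of_mem_same 𝒜 ha]
            _ = GradedRing.proj 𝒜 N (∑ x ∈ s, c x • x) := by rw [hc]
            _ = ∑ x ∈ s, GradedRing.proj 𝒜 N (c x • x) := map_sum _ _ _
            _ = _ := Finset.sum_congr rfl (fun x hx => by
                rw [GradedRing.proj_apply, smul_eq_mul]
                exact DirectSum.coe_decompose_mul_of_right_mem 𝒜 N (hxd x hx))
        rw [ha']
        refine Submodule.sum_mem _ (fun x hx => ?_)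
        split_ifs with hle
        · have hlt : N - dx x < N := by
            have := Nat.pos_of_ne_zero (hdx x hx)
            omega
          have h1 := hT2 _ hlt _ (SetLike.coe_mem (decompose 𝒜 (c x) (N - dx x)))
          have h2 := mul_mem_span_image 𝒜 h1 x
          refine Submodule.span_mono ?_ h2
          rintro _ ⟨t, ht, rfl⟩
          rw [Finset.mem_coe, Finset.mem_biUnion]
          refine ⟨x, hx, ?_⟩
          rw [if_pos hle, Finset.mem_image]
          exact ⟨t, ht, rfl⟩
        · exact zero_mem _

end Ring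

section Module
universe u
variable {R S : Type u} [CommRing R] [CommRing S] [Algebra R S] (𝒜 : ℕ → Submodule R S)
  [GradedAlgebra 𝒜]
  {M : Type u} [AddCommGroup M] [Module R M] [Module S M] [IsScalarTower R S M]
  (ℳ : ℕ → Submodule R M) [DirectSum.Decomposition ℳ] [SetLike.GradedSMul 𝒜 ℳ]

theorem decompose_smul_right_mem (y : M) (i : ℕ) (hy : y ∈ ℳ i) (r : S) (n : ℕ) :
    (decompose ℳ (r • y) n : M) = if i ≤ n then (decompose 𝒜 r (n - i) : S) • y else 0 := by
  induction r using DirectSum.Decomposition.inductionOn 𝒜 with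
  | zero => simp
  | @homogeneous l r' =>
    have hmem : (r' : S) • y ∈ ℳ (l + i) := by
      have := SetLike.GradedSMul.smul_mem (A := 𝒜) (B := ℳ) r'.2 hy
      simpa [vadd_eq_add] using this
    split_ifs with hle
    · by_cases hl : l = n - i
      · have hli : l + i = n := by omega
        rw [hli] at hmem
        have h5 : (decompose 𝒜 (r' : S) (n - i) : S) = r' := by
          rw [← hl]
          exact DirectSum.decompose_of_mem_same 𝒜 r'.2
        rw [DirectSum.decompose_of_mem_same ℳ hmem, h5]
      · rw [DirectSum.decompose_of_mem_ne 𝒜 r'.2 hl, zero_smul,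
          DirectSum.decompose_of_mem_ne ℳ hmem (by omega)]
    · rw [DirectSum.decompose_of_mem_ne ℳ hmem (by omega)]
  | add a b ha hb =>
    simp only [add_smul, DirectSum.decompose_add, DirectSum.add_apply, Submodule.coe_add, ha, hb]
    split_ifs <;> simp

theorem decompose_sum_apply (Y : Finset M) (g : M → M) (n : ℕ) :
    (decompose ℳ (∑ z ∈ Y, g z) n : M) = ∑ z ∈ Y, (decompose ℳ (g z) n : M) := by
  classical
  induction Y using Finset.induction_on with
  | empty => simp
  | insert a Y ha ih =>
    rw [Finset.sum_insert ha, Finset.sum_insert ha, DirectSum.decompose_add, DirectSum.add_apply,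
      Submodule.coe_add, ih]

theorem smul_mem_span_image (h0 : ∀ s ∈ 𝒜 0, s ∈ Set.range (algebraMap R S)) {U : Set S} {b : S}
    (hb : b ∈ Submodule.span (S0 𝒜) U) (z : M) :
    b • z ∈ Submodule.span R ((fun t => t • z) '' U) := by
  induction hb using Submodule.span_induction with
  | mem u hu => exact Submodule.subset_span ⟨u, hu, rfl⟩
  | zero => rw [zero_smul]; exact zero_mem _
  | add y w _ _ hy hw => rw [add_smul]; exact add_mem hy hw
  | smul r y _ hy =>
    obtain ⟨r', hr'⟩ := h0 r.1 r.2
    have : (r • y) • z = r' • (y • z) := by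
      rw [Subring.smul_def, smul_eq_mul, mul_smul, ← hr', algebraMap_smul]
    rw [this]
    exact Submodule.smul_mem _ _ hy

theorem piece_finite (h0 : ∀ s ∈ 𝒜 0, s ∈ Set.range (algebraMap R S)) [Algebra.FiniteType R S]
    [Module.Finite S M] (n : ℕ) : Module.Finite R (ℳ n) := by
  classical
  haveI : IsScalarTower R (𝒜 0) S := ⟨fun r a s => by
    show ((r • a : 𝒜 0) : S) * s = r • ((a : S) * s)
    rw [Submodule.coe_smul, smul_mul_assoc]⟩
  haveI : Algebra.FiniteType (𝒜 0) S := Algebra.FiniteType.of_restrictScalars_finiteType R (𝒜 0) S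
  choose T hT1 hT2 using fun N => piece_span 𝒜 N
  obtain ⟨G, hG⟩ := (Module.Finite.fg_top : (⊤ : Submodule S M).FG)
  obtain ⟨Y, hYdef⟩ : ∃ Y : Finset M, Y = G.biUnion (fun g =>
      (decompose ℳ g).support.image (fun i => (decompose ℳ g i : M))) := ⟨_, rfl⟩
  have hYhom : ∀ z ∈ Y, ∃ i, z ∈ ℳ i := by
    intro z hz
    rw [hYdef, Finset.mem_biUnion] at hz
    obtain ⟨g, -, hz⟩ := hz
    rw [Finset.mem_image] at hz
    obtain ⟨i, -, rfl⟩ := hz
    exact ⟨i, SetLike.coe_mem _⟩
  have hYtop : Submodule.span S (Y : Set M) = ⊤ := by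
    rw [eq_top_iff, ← hG, Submodule.span_le]
    intro g hg
    rw [SetLike.mem_coe, ← DirectSum.sum_support_decompose ℳ g]
    refine Submodule.sum_mem _ (fun i hi => Submodule.subset_span ?_)
    rw [Finset.mem_coe, hYdef, Finset.mem_biUnion]
    exact ⟨g, hg, Finset.mem_image.mpr ⟨i, hi, rfl⟩⟩
  choose! e he using hYhom
  let Z : Finset M := Y.biUnion (fun z => if e z ≤ n then (T (n - e z)).image (fun t => t • z)
    else ∅)
  have hZ : ℳ n = Submodule.span R (Z : Set M) := by
    apply le_antisymm
    · intro m hm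
      have hmtop : m ∈ Submodule.span S (Y : Set M) := by rw [hYtop]; trivial
      obtain ⟨c, -, hc⟩ := (Submodule.mem_span_finset).mp hmtop
      have hm' : m = ∑ z ∈ Y,
          (if e z ≤ n then (decompose 𝒜 (c z) (n - e z) : S) • z else 0) := by
        calc m = (decompose ℳ m n : M) := (DirectSum.decompose_of_mem_same ℳ hm).symm
          _ = (decompose ℳ (∑ z ∈ Y, c z • z) n : M) := by rw [hc]
          _ = ∑ z ∈ Y, (decompose ℳ (c z • z) n : M) := decompose_sum_apply ℳ Y _ n
          _ = _ := Finset.sum_congr rfl (fun z hz =>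
              decompose_smul_right_mem 𝒜 ℳ z (e z) (he z hz) (c z) n)
      rw [hm']
      refine Submodule.sum_mem _ (fun z hz => ?_)
      split_ifs with hle
      · have h1 := hT2 _ _ (SetLike.coe_mem (decompose 𝒜 (c z) (n - e z)))
        have h2 := smul_mem_span_image 𝒜 h0 h1 z
        refine Submodule.span_mono ?_ h2
        rintro _ ⟨t, ht, rfl⟩
        rw [Finset.mem_coe, Finset.mem_biUnion]
        refine ⟨z, hz, ?_⟩
        rw [if_pos hle, Finset.mem_image]
        exact ⟨t, ht, rfl⟩
      · exact zero_mem _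
    · rw [Submodule.span_le]
      intro w hw
      rw [Finset.mem_coe, Finset.mem_biUnion] at hw
      obtain ⟨z, hz, hw⟩ := hw
      split_ifs at hw with hle
      · rw [Finset.mem_image] at hw
        obtain ⟨t, ht, rfl⟩ := hw
        have := SetLike.GradedSMul.smul_mem (A := 𝒜) (B := ℳ) (hT1 _ t ht) (he z hz)
        rw [vadd_eq_add, Nat.sub_add_cancel hle] at this
        exact this
      · simp at hw
  rw [Module.Finite.iff_fg]
  exact ⟨Z, hZ.symm⟩

end Module

end Groth.Agent.Lib.GradedPieceH1
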