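import Mathlib

/-!
# Universe-polymorphic copy of GradedShift_helper1 (helper1)
-/

set_option autoImplicit false

namespace Groth.Agent.Lib.GradedShift2H1



section
variable {R : Type*} {A : Type*} [CommRing R] [CommRing A] [Algebra R A] (𝒜 : ℕ → Submodule R A)
    [GradedAlgebra 𝒜]
    {M : Type*} [AddCommGroup M] [Module R M] [Module A M] [IsScalarTower R A M]
    (ℳ : ℕ → Submodule R M) [DirectSum.Decomposition ℳ] [SetLike.GradedSMul 𝒜 ℳ]

theorem decompose_smul_of_mem (a : A) (h : ℕ) (ha : a ∈ 𝒜 h) (m : M) (j : ℕ) :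
    (DirectSum.decompose ℳ (a • m) (h + j) : M) = a • (DirectSum.decompose ℳ m j : M) := by
  induction m using DirectSum.Decomposition.inductionOn ℳ with
  | zero => simp
  | @homogeneous l m' =>
    have hmem : a • (m' : M) ∈ ℳ (h + l) := by
      have := SetLike.GradedSMul.smul_mem (A := 𝒜) (B := ℳ) ha m'.2
      simpa [vadd_eq_add] using this
    by_cases hl : l = j
    · subst hl
      rw [DirectSum.decompose_of_mem_same ℳ m'.2, DirectSum.decompose_of_mem_same ℳ hmem]
    · rw [DirectSum.decompose_of_mem_ne ℳ m'.2 hl, smul_zero,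
        DirectSum.decompose_of_mem_ne ℳ hmem (by omega)]
  | add x y hx hy =>
    simp only [smul_add, DirectSum.decompose_add, DirectSum.add_apply, Submodule.coe_add, hx, hy]

theorem smul_le_graded (h n : ℕ) :
    (𝒜 h : Submodule R A) • (ℳ n : Submodule R M) ≤ ℳ (n + h) := by
  rw [Submodule.smul_le]
  intro a ha y hy
  have := SetLike.GradedSMul.smul_mem (A := 𝒜) (B := ℳ) ha hy
  simpa [vadd_eq_add, add_comm] using this

set_option backward.isDefEq.respectTransparency false in
theorem shift_generated [Algebra.FiniteType (𝒜 0) A] [Module.Finite A M] :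
    ∃ (n₁ h : ℕ), 0 < h ∧ ∀ n : ℕ, n₁ ≤ n →
      ℳ (n + h) = (𝒜 h : Submodule R A) • (ℳ n : Submodule R M) := by
  classical
  obtain ⟨s, hs, hs'⟩ := GradedAlgebra.exists_finset_adjoin_eq_top_and_homogeneous_ne_zero 𝒜
  choose! dx hdx hxd using hs'
  obtain ⟨h, hh⟩ : ∃ h : ℕ, h = ∏ x ∈ s, dx x := ⟨_, rfl⟩
  have hpos : 0 < h := by
    rw [hh]; exact Finset.prod_pos (fun x hx => Nat.pos_of_ne_zero (hdx x hx))
  have hdvd : ∀ x ∈ s, dx x ∣ h := fun x hx => by rw [hh]; exact Finset.dvd_prod_of_mem dx hx
  let G : Set A := (fun x => x ^ (h / dx x)) '' (s : Set A)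
  have hG : ∀ g ∈ G, g ∈ 𝒜 h := by
    rintro _ ⟨x, hx, rfl⟩
    have := SetLike.pow_mem_graded (h / dx x) (hxd x hx)
    rwa [smul_eq_mul, Nat.div_mul_cancel (hdvd x hx)] at this
  let B : Subalgebra (𝒜 0) A := Algebra.adjoin (𝒜 0) G
  have hint : ∀ a : A, IsIntegral B a := by
    intro a
    have ha : a ∈ Algebra.adjoin (𝒜 0) (s : Set A) := by rw [hs]; trivial
    induction ha using Algebra.adjoin_induction with
    | mem x hx =>
      have hxB : x ^ (h / dx x) ∈ B := Algebra.subset_adjoin ⟨x, hx, rfl⟩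
      have h1 : IsIntegral B (x ^ (h / dx x)) := by
        have : x ^ (h / dx x) = algebraMap B A ⟨_, hxB⟩ := rfl
        rw [this]; exact isIntegral_algebraMap
      exact IsIntegral.of_pow (Nat.div_pos (Nat.le_of_dvd hpos (hdvd x hx))
        (Nat.pos_of_ne_zero (hdx x hx))) h1
    | algebraMap r =>
      have : algebraMap (𝒜 0) A r = algebraMap B A (algebraMap (𝒜 0) B r) := rfl
      rw [this]; exact isIntegral_algebraMap
    | add x y _ _ hx hy => exact hx.add hy
    | mul x y _ _ hx hy => exact hx.mul hy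
  haveI : Algebra.IsIntegral B A := ⟨hint⟩
  haveI : Algebra.FiniteType B A := Algebra.FiniteType.of_restrictScalars_finiteType (𝒜 0) B A
  haveI : Module.Finite B A := Algebra.IsIntegral.finite (R := ↥B) (A := A)
  haveI : Module.Finite B M := Module.Finite.trans A M
  obtain ⟨T, hT⟩ := (Module.Finite.fg_top : (⊤ : Submodule B M).FG)
  obtain ⟨D, hD⟩ : ∃ D : ℕ, D = T.sup (fun t => (DirectSum.decompose ℳ t).support.sup id) :=
    ⟨_, rfl⟩
  refine ⟨D, h, hpos, fun n hn => le_antisymm ?_ (smul_le_graded 𝒜 ℳ h n)⟩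
  intro x hx
  have hQ : ∀ a ∈ Algebra.adjoin (𝒜 0) G, ∀ y : M,
      (∀ N, D + h ≤ N → (DirectSum.decompose ℳ y N : M) ∈
        (𝒜 h : Submodule R A) • (ℳ (N - h) : Submodule R M)) →
      (∀ N, D + h ≤ N → (DirectSum.decompose ℳ (a • y) N : M) ∈
        (𝒜 h : Submodule R A) • (ℳ (N - h) : Submodule R M)) := by
    intro a ha
    induction ha using Algebra.adjoin_induction with
    | mem g hg =>
      intro y _ N hN
      obtain ⟨j, rfl⟩ : ∃ j, N = h + j := ⟨N - h, by omega⟩
      rw [Nat.add_sub_cancel_left, decompose_smul_of_mem 𝒜 ℳ g h (hG g hg)]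
      exact Submodule.smul_mem_smul (hG g hg) (SetLike.coe_mem _)
    | algebraMap r =>
      intro y hy N hN
      have h1 := decompose_smul_of_mem 𝒜 ℳ (r : A) 0 r.2 y N
      rw [zero_add] at h1
      have h2 : algebraMap (𝒜 0) A r • y = (r : A) • y := rfl
      rw [h2, h1]
      have h3 := hy N hN
      refine Submodule.smul_induction_on h3 ?_ ?_
      · intro a ha w hw
        rw [← mul_smul]
        refine Submodule.smul_mem_smul ?_ hw
        have := SetLike.GradedMul.mul_mem (A := 𝒜) r.2 ha
        simpa using this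
      · intro w w' hw hw'
        rw [smul_add]
        exact add_mem hw hw'
    | add a b _ _ ha hb =>
      intro y hy N hN
      rw [add_smul, DirectSum.decompose_add, DirectSum.add_apply, Submodule.coe_add]
      exact add_mem (ha y hy N hN) (hb y hy N hN)
    | mul a b _ _ ha hb =>
      intro y hy
      rw [mul_smul]
      exact ha _ (hb y hy)
  have key : ∀ m : M, ∀ N, D + h ≤ N → (DirectSum.decompose ℳ m N : M) ∈
      (𝒜 h : Submodule R A) • (ℳ (N - h) : Submodule R M) := by
    intro m
    have hm : m ∈ Submodule.span B (T : Set M) := by rw [hT]; trivial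
    induction hm using Submodule.span_induction with
    | mem t ht =>
      intro N hN
      have : (DirectSum.decompose ℳ t N : M) = 0 := by
        by_contra hne
        have hmem : N ∈ (DirectSum.decompose ℳ t).support := by
          rw [DFinsupp.mem_support_iff]
          intro h0
          exact hne (by rw [h0]; rfl)
        have h1 : N ≤ (DirectSum.decompose ℳ t).support.sup id := Finset.le_sup (f := id) hmem
        have h2 : (DirectSum.decompose ℳ t).support.sup id ≤ D := by
          rw [hD]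
          exact Finset.le_sup (f := fun t => (DirectSum.decompose ℳ t).support.sup id) ht
        have h1' : N ≤ D := h1.trans h2
        omega
      rw [this]; exact zero_mem _
    | zero => intro N _; simp
    | add y z _ _ hy hz =>
      intro N hN
      rw [DirectSum.decompose_add, DirectSum.add_apply, Submodule.coe_add]
      exact add_mem (hy N hN) (hz N hN)
    | smul b y _ hy =>
      intro N hN
      exact hQ (b : A) b.2 y hy N hN
  have := key x (n + h) (by omega)
  rwa [DirectSum.decompose_of_mem_same ℳ hx, Nat.add_sub_cancel] at this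

end

section
variable {R : Type*} {A : Type*} [CommRing R] [CommRing A] [Algebra R A] (𝒜 : ℕ → Submodule R A)
    [GradedAlgebra 𝒜]

theorem mul_le_graded (a b : ℕ) : (𝒜 a : Submodule R A) * 𝒜 b ≤ 𝒜 (a + b) := by
  rw [Submodule.mul_le]
  intro x hx y hy
  exact SetLike.GradedMul.mul_mem hx hy

theorem pow_le_graded (h : ℕ) : ∀ j : ℕ, (𝒜 h : Submodule R A) ^ j ≤ 𝒜 (j * h)
  | 0 => by
    rw [pow_zero, zero_mul, Submodule.one_le]
    exact SetLike.GradedOne.one_mem
  | j + 1 => by
    rw [pow_succ]
    refine (mul_le_mul' (pow_le_graded h j) le_rfl).trans ?_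
    refine (mul_le_graded 𝒜 (j * h) h).trans (le_of_eq ?_)
    have : j * h + h = (j + 1) * h := by ring
    rw [this]

theorem smul_eq_mul' (I J : Submodule R A) : I • J = I * J := by
  apply le_antisymm
  · rw [Submodule.smul_le]
    intro a ha b hb
    exact Submodule.mul_mem_mul ha hb
  · rw [Submodule.mul_le]
    intro a ha b hb
    exact Submodule.smul_mem_smul ha hb

theorem pow_degree_eq [Algebra.FiniteType (𝒜 0) A] :
    ∃ h : ℕ, 0 < h ∧ ∀ m : ℕ, 0 < m → 𝒜 (m * h) = (𝒜 h : Submodule R A) ^ m := by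
  obtain ⟨n₁, h, hpos, hstep⟩ := shift_generated 𝒜 𝒜
  have hstep' : ∀ n, n₁ ≤ n → 𝒜 (n + h) = (𝒜 h : Submodule R A) * 𝒜 n := fun n hn => by
    rw [hstep n hn, smul_eq_mul']
  have hL : ∀ j n : ℕ, n₁ ≤ n → 𝒜 (n + j * h) = (𝒜 h : Submodule R A) ^ j * 𝒜 n := by
    intro j
    induction j with
    | zero => intro n _; simp
    | succ j ih =>
      intro n hn
      have h1 : n + (j + 1) * h = (n + j * h) + h := by ring
      rw [h1, hstep' _ (by omega), ih n hn, pow_succ', mul_assoc]
  obtain ⟨k, hk⟩ : ∃ k : ℕ, k = n₁ + 1 := ⟨_, rfl⟩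
  have hkpos : 0 < k := by omega
  have hkh : n₁ ≤ k * h := by
    have : k * 1 ≤ k * h := Nat.mul_le_mul_left k hpos
    omega
  refine ⟨k * h, Nat.mul_pos hkpos hpos, ?_⟩
  intro m hm
  induction m with
  | zero => omega
  | succ m ih =>
    rcases Nat.eq_zero_or_pos m with rfl | hm'
    · simp
    · apply le_antisymm
      · have h1 : (m + 1) * (k * h) = m * (k * h) + k * h := by ring
        have h2 : n₁ ≤ m * (k * h) := by
          have : 1 * (k * h) ≤ m * (k * h) := Nat.mul_le_mul_right _ hm'
          omega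
        rw [h1, hL k _ h2, pow_succ', ← ih hm']
        exact mul_le_mul' (pow_le_graded 𝒜 h k) le_rfl
      · exact pow_le_graded 𝒜 (k * h) (m + 1)

end

end Groth.Agent.Lib.GradedShift2H1
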