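import Mathlib
import Groth.Agent.Lib.GradedPiece_helper1
import Groth.Agent.Lib.GradedShift2_helper1
import Groth.Prelude.Def_RelProj

/-!
# Graded rings graded by additive subgroups: Veronese generation and finiteness of pieces (helper1)
-/

set_option autoImplicit false

namespace Groth.Agent.Lib.GradedPieceIntH1

open DirectSum

section Conv
variable {B : Type*} [CommRing B] (𝒢 : ℕ → AddSubgroup B) [GradedRing 𝒢]

/-- the same grading by ℤ-submodules -/
def toInt (n : ℕ) : Submodule ℤ B := AddSubgroup.toIntSubmodule (𝒢 n)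

theorem mem_toInt {n : ℕ} {x : B} : x ∈ toInt 𝒢 n ↔ x ∈ 𝒢 n := Iff.rfl

/-- identity inclusion -/
def incl (i : ℕ) : ↥(𝒢 i) →+ ↥(toInt 𝒢 i) where
  toFun x := ⟨x.1, x.2⟩
  map_zero' := rfl
  map_add' _ _ := rfl

/-- decomposition map -/
noncomputable def decompInt : B →+ ⨁ i, ↥(toInt 𝒢 i) :=
  (DirectSum.map (incl 𝒢)).comp (DirectSum.decomposeAddEquiv 𝒢).toAddMonoidHom

theorem coe_map_incl (y : ⨁ i, ↥(𝒢 i)) :
    DirectSum.coeAddMonoidHom (toInt 𝒢) (DirectSum.map (incl 𝒢) y) =
      DirectSum.coeAddMonoidHom 𝒢 y := by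
  classical
  induction y using DirectSum.induction_on with
  | zero => simp
  | of i x =>
    rw [DirectSum.map_of, DirectSum.coeAddMonoidHom_of, DirectSum.coeAddMonoidHom_of]
    rfl
  | add x y hx hy => rw [map_add, map_add, map_add, hx, hy]

theorem decompInt_coe (x : ⨁ i, ↥(toInt 𝒢 i)) :
    decompInt 𝒢 (DirectSum.coeAddMonoidHom (toInt 𝒢) x) = x := by
  classical
  induction x using DirectSum.induction_on with
  | zero => simp
  | of i y =>
    rw [DirectSum.coeAddMonoidHom_of]
    show DirectSum.map (incl 𝒢) (DirectSum.decompose 𝒢 (y : B)) = _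
    rw [DirectSum.decompose_of_mem 𝒢 (show (y : B) ∈ 𝒢 i from y.2), DirectSum.map_of]
    rfl
  | add x y hx hy => rw [map_add, map_add, hx, hy]

instance : SetLike.GradedMonoid (toInt 𝒢) where
  one_mem := SetLike.GradedOne.one_mem (A := 𝒢)
  mul_mem := fun _ _ _ _ hx hy => SetLike.GradedMul.mul_mem (A := 𝒢) hx hy

noncomputable instance : DirectSum.Decomposition (toInt 𝒢) where
  decompose' := decompInt 𝒢
  left_inv := fun b => by
    show DirectSum.coeAddMonoidHom (toInt 𝒢) (DirectSum.map (incl 𝒢) (DirectSum.decompose 𝒢 b)) = b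
    rw [coe_map_incl]
    exact DirectSum.Decomposition.left_inv b
  right_inv := decompInt_coe 𝒢

noncomputable instance : GradedRing (toInt 𝒢) :=
  { (inferInstance : SetLike.GradedMonoid (toInt 𝒢)),
    (inferInstance : DirectSum.Decomposition (toInt 𝒢)) with }

theorem finiteType_toInt [Algebra.FiniteType (𝒢 0) B] : Algebra.FiniteType (toInt 𝒢 0) B := by
  obtain ⟨s, hs⟩ := Algebra.FiniteType.out (R := 𝒢 0) (A := B)
  have key : ∀ b ∈ Algebra.adjoin (𝒢 0) (s : Set B),
      b ∈ Algebra.adjoin (toInt 𝒢 0) (s : Set B) := by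
    intro b hb
    induction hb using Algebra.adjoin_induction with
    | mem x hx => exact Algebra.subset_adjoin hx
    | algebraMap r =>
      have : algebraMap (𝒢 0) B r = algebraMap (toInt 𝒢 0) B ⟨r.1, r.2⟩ := rfl
      rw [this]
      exact Subalgebra.algebraMap_mem _ _
    | add x y _ _ hx hy => exact add_mem hx hy
    | mul x y _ _ hx hy => exact mul_mem hx hy
  refine ⟨⟨s, ?_⟩⟩
  rw [eq_top_iff]
  intro b _
  exact key b (by rw [hs]; trivial)

theorem pow_degree_eq_int [Algebra.FiniteType (𝒢 0) B] :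
    ∃ h : ℕ, 0 < h ∧ ∀ m : ℕ, 0 < m →
      AddSubgroup.toIntSubmodule (𝒢 (m * h)) = AddSubgroup.toIntSubmodule (𝒢 h) ^ m := by
  haveI := finiteType_toInt 𝒢
  exact Groth.Agent.Lib.GradedShift2H1.pow_degree_eq (toInt 𝒢)

theorem piece_T [Algebra.FiniteType (𝒢 0) B] (N : ℕ) :
    ∃ T : Finset B, (↑T : Set B) ⊆ (𝒢 N : Set B) ∧
      AddSubgroup.toIntSubmodule (𝒢 N) =
        AddSubgroup.toIntSubmodule (𝒢 0) * Submodule.span ℤ (↑T : Set B) := by
  obtain ⟨T, hT1, hT2⟩ := Groth.Agent.Lib.GradedPieceH1.piece_span 𝒢 N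
  have key : ∀ a ∈ Submodule.span (Groth.Agent.Lib.GradedPieceH1.S0 𝒢) (T : Set B),
      a ∈ AddSubgroup.toIntSubmodule (𝒢 0) * Submodule.span ℤ (↑T : Set B) := by
    intro a h1
    induction h1 using Submodule.span_induction with
    | mem t ht =>
      have : t = 1 * t := (one_mul t).symm
      rw [this]
      exact Submodule.mul_mem_mul (SetLike.GradedOne.one_mem (A := 𝒢)) (Submodule.subset_span ht)
    | zero => exact zero_mem _
    | add y z _ _ hy hz => exact add_mem hy hz
    | smul c y _ hy =>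
      rw [Subring.smul_def, smul_eq_mul]
      refine Submodule.mul_induction_on hy ?_ ?_
      · intro u hu v hv
        rw [← mul_assoc]
        refine Submodule.mul_mem_mul ?_ hv
        have := SetLike.GradedMul.mul_mem (A := 𝒢) c.2 hu
        rw [zero_add] at this
        exact this
      · intro u v hu hv
        rw [mul_add]
        exact add_mem hu hv
  refine ⟨T, fun t ht => hT1 t ht, le_antisymm ?_ ?_⟩
  · intro a ha
    exact key a (hT2 a ha)
  · rw [Submodule.mul_le]
    intro u hu v hv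
    have hv' : v ∈ AddSubgroup.toIntSubmodule (𝒢 N) := by
      have hle : Submodule.span ℤ (↑T : Set B) ≤ AddSubgroup.toIntSubmodule (𝒢 N) := by
        rw [Submodule.span_le]
        intro t ht
        exact hT1 t ht
      exact hle hv
    have := SetLike.GradedMul.mul_mem (A := 𝒢) hu hv'
    rw [zero_add] at this
    exact this

theorem finiteType_of_ringHom {Γ : Type*} [CommRing Γ] (f : Γ →+* B) (hf : f.FiniteType)
    (hmem : ∀ r, f r ∈ 𝒢 0) : Algebra.FiniteType (𝒢 0) B := by
  letI := f.toAlgebra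
  have hf' : Algebra.FiniteType Γ B := hf
  obtain ⟨s, hs⟩ := hf'.out
  have key : ∀ b ∈ Algebra.adjoin Γ (s : Set B), b ∈ Algebra.adjoin (𝒢 0) (s : Set B) := by
    intro b hb
    induction hb using Algebra.adjoin_induction with
    | mem x hx => exact Algebra.subset_adjoin hx
    | algebraMap r =>
      have : algebraMap Γ B r = algebraMap (𝒢 0) B ⟨f r, hmem r⟩ := rfl
      rw [this]
      exact Subalgebra.algebraMap_mem _ _
    | add x y _ _ hx hy => exact add_mem hx hy
    | mul x y _ _ hx hy => exact mul_mem hx hy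
  refine ⟨⟨s, ?_⟩⟩
  rw [eq_top_iff]
  intro b _
  exact key b (by rw [hs]; trivial)

end Conv

universe u
open CategoryTheory AlgebraicGeometry TopologicalSpace Opposite

theorem S12133 {Y : Scheme.{u}} (𝒮 : RelProj.QCGrAlg Y)
    {ι : Type u} [Finite ι] (U : ι → Y.Opens) (hU : ∀ i, IsAffineOpen (U i)) (hcov : ⨆ i, U i = ⊤)
    (hft : ∀ i, (𝒮.str.app (op (U i))).hom.FiniteType) :
    ∃ d : ℕ, 0 < d ∧ ∀ i,
      (∀ n : ℕ, 0 < n →
        AddSubgroup.toIntSubmodule (𝒮.deg (U i) (hU i) (n * d)) =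
          AddSubgroup.toIntSubmodule (𝒮.deg (U i) (hU i) d) ^ n) ∧
      ∃ T : Finset (𝒮.presheaf.obj (op (U i))),
        (↑T : Set (𝒮.presheaf.obj (op (U i)))) ⊆ (𝒮.deg (U i) (hU i) d : Set (𝒮.presheaf.obj (op (U i)))) ∧
        AddSubgroup.toIntSubmodule (𝒮.deg (U i) (hU i) d) =
          AddSubgroup.toIntSubmodule (𝒮.deg (U i) (hU i) 0) *
            Submodule.span ℤ (↑T : Set (𝒮.presheaf.obj (op (U i)))) := by
  classical
  have hFT : ∀ i, Algebra.FiniteType (𝒮.deg (U i) (hU i) 0) (𝒮.presheaf.obj (op (U i))) :=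
    fun i => finiteType_of_ringHom (𝒮.deg (U i) (hU i)) _ (hft i) (𝒮.str_mem (U i) (hU i))
  have key : ∀ i, ∃ h : ℕ, 0 < h ∧ ∀ m : ℕ, 0 < m →
      AddSubgroup.toIntSubmodule (𝒮.deg (U i) (hU i) (m * h)) =
        AddSubgroup.toIntSubmodule (𝒮.deg (U i) (hU i) h) ^ m := by
    intro i
    haveI := hFT i
    exact pow_degree_eq_int (𝒮.deg (U i) (hU i))
  choose h hpos hpow using key
  haveI := Fintype.ofFinite ι
  refine ⟨∏ i, h i, Finset.prod_pos (fun i _ => hpos i), fun i => ⟨?_, ?_⟩⟩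
  · intro n hn
    obtain ⟨q, hq⟩ : h i ∣ ∏ j, h j := Finset.dvd_prod_of_mem h (Finset.mem_univ i)
    have hprod : 0 < ∏ j, h j := Finset.prod_pos (fun i _ => hpos i)
    have hqpos : 0 < q := by
      rcases Nat.eq_zero_or_pos q with rfl | hq'
      · rw [hq, mul_zero] at hprod
        exact absurd hprod (lt_irrefl 0)
      · exact hq'
    rw [hq]
    have e1 : n * (h i * q) = (n * q) * h i := by ring
    have e2 : h i * q = q * h i := by ring
    rw [e1, hpow i (n * q) (Nat.mul_pos hn hqpos), e2, hpow i q hqpos, ← pow_mul, mul_comm q n]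
  · haveI := hFT i
    exact piece_T (𝒮.deg (U i) (hU i)) _

end Groth.Agent.Lib.GradedPieceIntH1
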