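import Mathlib

set_option autoImplicit false
set_option maxHeartbeats 1000000

/-! Graded Skolem–Noether for endomorphism algebras of graded vector spaces (helper1). -/

namespace Groth.Agent.Lib.GradedSNH1

universe u v
open Module

/-- comparing two decompositions -/
lemma eq_of_le_of_iSup_eq_top {k : Type u} [Field k] {W : Type v} [AddCommGroup W] [Module k W]
    {ι : Type*} (A B : ι → Submodule k W) (hAB : ∀ i, A i ≤ B i)
    (hA : ⨆ i, A i = ⊤) (hB : iSupIndep B) (i : ι) : A i = B i := by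
  classical
  apply le_antisymm (hAB i)
  intro w hw
  have hw' : w ∈ A i ⊔ ⨆ (l) (_ : l ≠ i), A l := by
    have : A i ⊔ ⨆ (l) (_ : l ≠ i), A l = ⊤ := by
      rw [eq_top_iff, ← hA]
      refine iSup_le fun l => ?_
      by_cases hl : l = i
      · subst hl; exact le_sup_left
      · exact le_trans (le_iSup₂_of_le l hl le_rfl) le_sup_right
    rw [this]; trivial
  obtain ⟨a, ha, c, hc, rfl⟩ := Submodule.mem_sup.mp hw'
  have hc' : c ∈ ⨆ (l) (_ : l ≠ i), B l := (iSup₂_mono fun l _ => hAB l) hc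
  have hcB : c ∈ B i := by
    have : c = (a + c) - a := by abel
    rw [this]; exact (B i).sub_mem hw (hAB i ha)
  have hc0 : c = 0 := (Submodule.disjoint_def.mp (hB i)) c hcB hc'
  rw [hc0, add_zero]; exact ha

theorem main13846 (k : Type u) [Field k] (V W : Type v) [AddCommGroup V] [Module k V]
    [FiniteDimensional k V] [Nontrivial V] [AddCommGroup W] [Module k W] [FiniteDimensional k W]
    (𝒱 : ℤ → Submodule k V) (h𝒱 : DirectSum.IsInternal 𝒱) (𝒲 : ℤ → Submodule k W)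
    (h𝒲 : DirectSum.IsInternal 𝒲) (φ : Module.End k V ≃ₐ[k] Module.End k W)
    (hφ : ∀ (d : ℤ) (f : Module.End k V), (∀ (i : ℤ) (x : V), x ∈ 𝒱 i → f x ∈ 𝒱 (i + d)) →
      ∀ (i : ℤ) (y : W), y ∈ 𝒲 i → φ f y ∈ 𝒲 (i + d)) :
    ∃ (n : ℤ) (g : V ≃ₗ[k] W), (∀ i : ℤ, Submodule.map (g : V →ₗ[k] W) (𝒱 i) = 𝒲 (i + n)) ∧
      (∀ f : Module.End k V, φ f = (g : V →ₗ[k] W) ∘ₗ f ∘ₗ (g.symm : W →ₗ[k] V)) ∧
      ∀ (n' : ℤ) (g' : V ≃ₗ[k] W),
        (∀ i : ℤ, Submodule.map (g' : V →ₗ[k] W) (𝒱 i) = 𝒲 (i + n')) →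
        (∀ f : Module.End k V, φ f = (g' : V →ₗ[k] W) ∘ₗ f ∘ₗ (g'.symm : W →ₗ[k] V)) →
        n' = n ∧ ∃ c : kˣ, ∀ x : V, g' x = c • g x := by
  classical
  obtain ⟨T, hT⟩ := φ.eq_linearEquivConjAlgEquiv
  have hφT : ∀ f : Module.End k V,
      φ f = (T : V →ₗ[k] W) ∘ₗ f ∘ₗ (T.symm : W →ₗ[k] V) := by
    intro f; rw [hT]; rfl
  have hVtop : ⨆ i, 𝒱 i = ⊤ := h𝒱.submodule_iSup_eq_top
  have hWtop : ⨆ i, 𝒲 i = ⊤ := h𝒲.submodule_iSup_eq_top
  have hVind : iSupIndep 𝒱 := h𝒱.submodule_iSupIndep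
  have hWind : iSupIndep 𝒲 := h𝒲.submodule_iSupIndep
  -- a nonzero homogeneous vector
  obtain ⟨i₀, v₀, hv₀, hv₀0⟩ : ∃ i₀ v₀, v₀ ∈ 𝒱 i₀ ∧ v₀ ≠ 0 := by
    by_contra hcon
    push Not at hcon
    have : (⨆ i, 𝒱 i) = ⊥ := by
      rw [eq_bot_iff]
      refine iSup_le fun i x hx => ?_
      rw [Submodule.mem_bot]; exact hcon i x hx
    rw [hVtop] at this
    exact top_ne_bot this
  -- the functional
  have hv₀C : v₀ ∉ ⨆ (l) (_ : l ≠ i₀), 𝒱 l := by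
    intro hmem
    exact hv₀0 ((Submodule.disjoint_def.mp (hVind i₀)) v₀ hv₀ hmem)
  obtain ⟨f₀, hf₀, hf₀C⟩ := Submodule.exists_le_ker_of_notMem hv₀C
  set lam : V →ₗ[k] k := (f₀ v₀)⁻¹ • f₀ with hlam
  have hlamv : lam v₀ = 1 := by
    rw [hlam, LinearMap.smul_apply, smul_eq_mul, inv_mul_cancel₀ hf₀]
  have hlamC : ∀ l, l ≠ i₀ → ∀ x ∈ 𝒱 l, lam x = 0 := by
    intro l hl x hx
    have hxC : x ∈ ⨆ (l) (_ : l ≠ i₀), 𝒱 l :=
      (le_iSup₂_of_le l hl le_rfl : 𝒱 l ≤ ⨆ (l) (_ : l ≠ i₀), 𝒱 l) hx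
    have := LinearMap.mem_ker.mp (hf₀C hxC)
    rw [hlam, LinearMap.smul_apply, this, smul_zero]
  -- the functional on W
  set μ : W →ₗ[k] k := lam ∘ₗ (T.symm : W →ₗ[k] V) with hμ
  have hμT : μ (T v₀) = 1 := by
    rw [hμ, LinearMap.comp_apply]
    simp [hlamv]
  obtain ⟨j₀, y₀, hy₀, hμy₀⟩ : ∃ j₀ y₀, y₀ ∈ 𝒲 j₀ ∧ μ y₀ ≠ 0 := by
    by_contra hcon
    push Not at hcon
    have hle : (⨆ j, 𝒲 j) ≤ LinearMap.ker μ :=
      iSup_le fun j y hy => LinearMap.mem_ker.mpr (hcon j y hy)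
    rw [hWtop] at hle
    have := LinearMap.mem_ker.mp (hle (Submodule.mem_top : T v₀ ∈ ⊤))
    rw [hμT] at this
    exact one_ne_zero this
  -- `T` shifts degrees by `j₀ - i₀`
  have hshift : ∀ i' : ℤ, ∀ v' ∈ 𝒱 i', T v' ∈ 𝒲 (i' + (j₀ - i₀)) := by
    intro i' v' hv'
    have hhom : ∀ (i : ℤ) (x : V), x ∈ 𝒱 i → (lam.smulRight v') x ∈ 𝒱 (i + (i' - i₀)) := by
      intro i x hx
      rw [LinearMap.smulRight_apply]
      by_cases hi : i = i₀
      · subst hi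
        have : i + (i' - i) = i' := by ring
        rw [this]; exact (𝒱 i').smul_mem _ hv'
      · rw [hlamC i hi x hx, zero_smul]; exact Submodule.zero_mem _
    have h1 := hφ (i' - i₀) (lam.smulRight v') hhom j₀ y₀ hy₀
    rw [hφT] at h1
    have h2 : ((T : V →ₗ[k] W) ∘ₗ (lam.smulRight v') ∘ₗ (T.symm : W →ₗ[k] V)) y₀
        = μ y₀ • T v' := by
      simp only [LinearMap.comp_apply, LinearMap.smulRight_apply, LinearEquiv.coe_coe, map_smul, hμ]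
    rw [h2] at h1
    have h3 : T v' = (μ y₀)⁻¹ • (μ y₀ • T v') := by
      rw [smul_smul, inv_mul_cancel₀ hμy₀, one_smul]
    rw [h3]
    have : i' + (j₀ - i₀) = j₀ + (i' - i₀) := by ring
    rw [this]
    exact (𝒲 _).smul_mem _ h1
  refine ⟨j₀ - i₀, T, ?_, hφT, ?_⟩
  · intro i
    refine eq_of_le_of_iSup_eq_top (fun i => Submodule.map (T : V →ₗ[k] W) (𝒱 i))
      (fun i => 𝒲 (i + (j₀ - i₀))) ?_ ?_ ?_ i
    · intro l w hw
      obtain ⟨x, hx, rfl⟩ := Submodule.mem_map.mp hw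
      exact hshift l x hx
    · rw [← Submodule.map_iSup, hVtop, Submodule.map_top, LinearMap.range_eq_top]
      exact T.surjective
    · exact hWind.comp (fun a b h => by simpa using h)
  · intro n' g' hg' hφg'
    have hconj : g'.conjAlgEquiv k = T.conjAlgEquiv k := by
      apply AlgEquiv.ext; intro f
      rw [LinearEquiv.conjAlgEquiv_apply, LinearEquiv.conjAlgEquiv_apply, ← hφg' f, hφT f]
    obtain ⟨α, hα⟩ := LinearEquiv.conjAlgEquiv_ext_iff.mp hconj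
    have hg'v : ∀ x, g' x = α • T x := fun x => by rw [hα]; rfl
    have hα0 : α ≠ 0 := by
      rintro rfl
      have : g' v₀ = 0 := by rw [hg'v, zero_smul]
      exact hv₀0 (g'.map_eq_zero_iff.mp this)
    refine ⟨?_, Units.mk0 α hα0, fun x => by rw [hg'v x]; rfl⟩
    by_contra hne
    have h1 : g' v₀ ∈ 𝒲 (i₀ + n') := by
      rw [← hg' i₀]; exact Submodule.mem_map_of_mem hv₀
    have h2 : g' v₀ ∈ 𝒲 (i₀ + (j₀ - i₀)) := by
      rw [hg'v]; exact (𝒲 _).smul_mem _ (hshift i₀ v₀ hv₀)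
    have hne' : i₀ + n' ≠ i₀ + (j₀ - i₀) := fun h => hne (add_left_cancel h)
    have hdisj : Disjoint (𝒲 (i₀ + n')) (𝒲 (i₀ + (j₀ - i₀))) := hWind.pairwiseDisjoint hne'
    have : g' v₀ = 0 := (Submodule.disjoint_def.mp hdisj) _ h1 h2
    exact hv₀0 (g'.map_eq_zero_iff.mp this)

end Groth.Agent.Lib.GradedSNH1
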