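import Mathlib

/-!
# `ℤ`-graded rings with a homogeneous unit of positive degree (helper3)

The homogeneous primes of `S` correspond homeomorphically to the primes of `S₀`.
-/

set_option autoImplicit false
universe u
open DirectSum

namespace Groth.Agent.Lib.GradedUnitH3

variable {R S : Type u} [CommRing R] [CommRing S] [Algebra R S]
  (𝒜 : ℤ → Submodule R S) [GradedAlgebra 𝒜]

/-- The degree zero subring. -/
abbrev Z : Subring S := SetLike.GradeZero.subring 𝒜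

theorem mem_Z_iff (x : S) : x ∈ Z 𝒜 ↔ x ∈ 𝒜 0 := Iff.rfl

section Unit

variable (u : Sˣ) (d : ℤ) (hu : (u : S) ∈ 𝒜 d)

include hu in
theorem inv_mem : ((u⁻¹ : Sˣ) : S) ∈ 𝒜 (-d) := by
  classical
  set g : S := ((u⁻¹ : Sˣ) : S) with hg
  have hfg : (u : S) * g = 1 := u.mul_inv
  have hcomp : ∀ j : ℤ, j ≠ -d → (decompose 𝒜 g j : S) = 0 := by
    intro j hj
    have h1 : (decompose 𝒜 ((u : S) * g) (d + j) : S) = (u : S) * decompose 𝒜 g j :=
      coe_decompose_mul_add_of_left_mem 𝒜 hu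
    rw [hfg] at h1
    have h2 : (decompose 𝒜 (1 : S) (d + j) : S) = 0 := by
      have hne : (0 : ℤ) ≠ d + j := by
        intro h
        apply hj
        omega
      exact decompose_of_mem_ne 𝒜 (SetLike.GradedOne.one_mem) hne
    rw [h2] at h1
    have h3 : ((u⁻¹ : Sˣ) : S) * ((u : S) * decompose 𝒜 g j) = decompose 𝒜 g j := by
      rw [← mul_assoc, Units.inv_mul, one_mul]
    rw [← h3, ← h1, mul_zero]
  have hsum : g = (decompose 𝒜 g (-d) : S) := by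
    conv_lhs => rw [← DirectSum.sum_support_decompose 𝒜 g]
    by_cases hmem : -d ∈ (decompose 𝒜 g).support
    · rw [Finset.sum_eq_single_of_mem (-d) hmem]
      intro j _ hj
      exact hcomp j hj
    · rw [Finset.sum_eq_zero]
      · rw [DFinsupp.notMem_support_iff] at hmem
        rw [hmem]
        rfl
      · intro j hjm
        apply hcomp j
        rintro rfl
        exact hmem hjm
  rw [hsum]
  exact (decompose 𝒜 g (-d)).2

include hu in
theorem zpow_mem (n : ℤ) : ((u ^ n : Sˣ) : S) ∈ 𝒜 (n * d) := by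
  cases n with
  | ofNat k =>
    have h1 : ((u ^ (Int.ofNat k) : Sˣ) : S) = (u : S) ^ k := by
      simp
    rw [h1]
    have h2 := SetLike.pow_mem_graded k hu
    have h3 : k • d = Int.ofNat k * d := by simp
    rw [h3] at h2
    exact h2
  | negSucc k =>
    have h1 : ((u ^ (Int.negSucc k) : Sˣ) : S) = ((u⁻¹ : Sˣ) : S) ^ (k + 1) := by
      rw [zpow_negSucc, ← inv_pow, Units.val_pow_eq_pow_val]
    rw [h1]
    have h2 := SetLike.pow_mem_graded (k + 1) (inv_mem 𝒜 u d hu)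
    have h3 : (k + 1) • (-d) = Int.negSucc k * d := by
      rw [Int.negSucc_eq]
      simp
      ring
    rw [h3] at h2
    exact h2

/-- The normalising unit of degree `-i * d`. -/
noncomputable def w (i : ℤ) : S := ((u ^ (-i) : Sˣ) : S)

theorem w_isUnit (i : ℤ) : IsUnit (w u i) := (u ^ (-i)).isUnit

theorem w_mul (i j : ℤ) : w u (i + j) = w u i * w u j := by
  unfold w
  rw [neg_add, zpow_add, Units.val_mul]

include hu in
theorem nz_mem (hd : 0 < d) {i : ℤ} {a : S} (ha : a ∈ 𝒜 i) : a ^ d.toNat * w u i ∈ 𝒜 0 := by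
  have h1 := SetLike.pow_mem_graded d.toNat ha
  have h2 : w u i ∈ 𝒜 (-i * d) := zpow_mem 𝒜 u d hu (-i)
  have h3 := SetLike.mul_mem_graded h1 h2
  have h4 : d.toNat • i + -i * d = 0 := by
    have : ((d.toNat : ℕ) : ℤ) = d := Int.toNat_of_nonneg hd.le
    rw [nsmul_eq_mul, this]
    ring
  rw [h4] at h3
  exact h3

end Unit

section Ideals

variable (p₀ : Ideal (Z 𝒜))

/-- The extension of `p₀` to `S`. -/
def J : Ideal S := p₀.map (Z 𝒜).subtype

/-- The projection to degree zero, as an additive map to `S₀`. -/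
noncomputable def π₀ : S →+ Z 𝒜 where
  toFun x := ⟨(decompose 𝒜 x 0 : S), (decompose 𝒜 x 0).2⟩
  map_zero' := by
    apply Subtype.ext
    simp
  map_add' x y := by
    apply Subtype.ext
    show (decompose 𝒜 (x + y) 0 : S) = (decompose 𝒜 x 0 : S) + (decompose 𝒜 y 0 : S)
    rw [decompose_add, DirectSum.add_apply, Submodule.coe_add]

theorem π₀_coe (z : Z 𝒜) : π₀ 𝒜 (z : S) = z := by
  apply Subtype.ext
  show (decompose 𝒜 (z : S) 0 : S) = z
  exact decompose_of_mem_same 𝒜 z.2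

theorem π₀_mul_coe (s : S) (z : Z 𝒜) : π₀ 𝒜 (s * (z : S)) = π₀ 𝒜 s * z := by
  apply Subtype.ext
  show (decompose 𝒜 (s * (z : S)) 0 : S) = (decompose 𝒜 s 0 : S) * (z : S)
  exact coe_decompose_mul_of_right_mem_zero 𝒜 z.2

theorem π₀_mem_of_mem_J {x : S} (hx : x ∈ J 𝒜 p₀) : π₀ 𝒜 x ∈ p₀ := by
  unfold J Ideal.map at hx
  refine Submodule.closure_induction (p := fun x _ => π₀ 𝒜 x ∈ p₀) ?_ ?_ ?_ hx
  · rw [map_zero]
    exact Ideal.zero_mem _
  · intro x y _ _ hx hy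
    rw [map_add]
    exact Ideal.add_mem _ hx hy
  · rintro s _ ⟨z, hz, rfl⟩
    rw [smul_eq_mul, show ((Z 𝒜).subtype z : S) = (z : S) from rfl, π₀_mul_coe]
    exact Ideal.mul_mem_left _ _ hz

theorem coe_mem_J_iff (z : Z 𝒜) : (z : S) ∈ J 𝒜 p₀ ↔ z ∈ p₀ := by
  constructor
  · intro h
    have := π₀_mem_of_mem_J 𝒜 p₀ h
    rwa [π₀_coe] at this
  · intro h
    exact Ideal.mem_map_of_mem (Z 𝒜).subtype h

variable (u : Sˣ) (d : ℤ) (hu : (u : S) ∈ 𝒜 d) (hd : 0 < d)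

include hu hd in
/-- For homogeneous `a`, `a ^ D ∈ J` iff the normalised element lies in `p₀`. -/
theorem pow_mem_J_iff {i : ℤ} {a : S} (ha : a ∈ 𝒜 i) :
    a ^ d.toNat ∈ J 𝒜 p₀ ↔
      (⟨a ^ d.toNat * w u i, nz_mem 𝒜 u d hu hd ha⟩ : Z 𝒜) ∈ p₀ := by
  rw [← coe_mem_J_iff]
  show a ^ d.toNat ∈ J 𝒜 p₀ ↔ a ^ d.toNat * w u i ∈ J 𝒜 p₀
  constructor
  · intro h
    exact Ideal.mul_mem_right _ _ h
  · intro h
    obtain ⟨v, hv⟩ := w_isUnit u i
    have h1 : a ^ d.toNat = (a ^ d.toNat * w u i) * ((v⁻¹ : Sˣ) : S) := by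
      rw [mul_assoc, ← hv, Units.mul_inv, mul_one]
    rw [h1]
    exact Ideal.mul_mem_right _ _ h

include hu hd in
theorem add_pow_mem_J [hp : p₀.IsPrime] {i : ℤ} {a b : S} (ha : a ∈ 𝒜 i) (hb : b ∈ 𝒜 i)
    (h1 : a ^ d.toNat ∈ J 𝒜 p₀) (h2 : b ^ d.toNat ∈ J 𝒜 p₀) :
    (a + b) ^ d.toNat ∈ J 𝒜 p₀ := by
  have hab : a + b ∈ 𝒜 i := Submodule.add_mem _ ha hb
  rw [pow_mem_J_iff 𝒜 p₀ u d hu hd hab]
  apply hp.mem_of_pow_mem 2
  rw [← coe_mem_J_iff]
  show ((a + b) ^ d.toNat * w u i) ^ 2 ∈ J 𝒜 p₀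
  have h3 : (a + b) ^ (d.toNat + d.toNat) ∈ J 𝒜 p₀ :=
    (J 𝒜 p₀).add_pow_mem_of_pow_mem_of_le h1 h2 (by omega)
  have h4 : ((a + b) ^ d.toNat * w u i) ^ 2 = (a + b) ^ (d.toNat + d.toNat) * (w u i) ^ 2 := by
    ring
  rw [h4]
  exact Ideal.mul_mem_right _ _ h3

/-- The homogeneous prime of `S` attached to `p₀`. -/
def Pof : Ideal S := Ideal.span {a | ∃ i, a ∈ 𝒜 i ∧ a ^ d.toNat ∈ J 𝒜 p₀}

theorem Pof_isHomogeneous : (Pof 𝒜 p₀ d).IsHomogeneous 𝒜 := by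
  apply Ideal.homogeneous_span
  rintro a ⟨i, hai, -⟩
  exact ⟨i, hai⟩

include hu hd in
theorem decompose_pow_mem_of_mem_Pof [hp : p₀.IsPrime] {x : S} (hx : x ∈ Pof 𝒜 p₀ d) (i : ℤ) :
    (decompose 𝒜 x i : S) ^ d.toNat ∈ J 𝒜 p₀ := by
  have hD : d.toNat ≠ 0 := by omega
  unfold Pof Ideal.span at hx
  refine Submodule.closure_induction
    (p := fun x _ => ∀ i, (decompose 𝒜 x i : S) ^ d.toNat ∈ J 𝒜 p₀) ?_ ?_ ?_ hx i
  · intro i
    rw [decompose_zero, DirectSum.zero_apply, ZeroMemClass.coe_zero, zero_pow hD]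
    exact Ideal.zero_mem _
  · intro x y _ _ hx hy i
    rw [decompose_add, DirectSum.add_apply, Submodule.coe_add]
    exact add_pow_mem_J 𝒜 p₀ u d hu hd (decompose 𝒜 x i).2 (decompose 𝒜 y i).2 (hx i) (hy i)
  · rintro s a ⟨j, haj, haJ⟩ i
    rw [smul_eq_mul]
    have h1 : (decompose 𝒜 (s * a) ((i - j) + j) : S) = (decompose 𝒜 s (i - j) : S) * a :=
      coe_decompose_mul_add_of_right_mem 𝒜 haj
    rw [sub_add_cancel] at h1
    rw [h1, mul_pow]
    exact Ideal.mul_mem_left _ _ haJ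

include hu hd in
theorem mem_Pof_iff_of_mem [hp : p₀.IsPrime] {i : ℤ} {a : S} (ha : a ∈ 𝒜 i) :
    a ∈ Pof 𝒜 p₀ d ↔ a ^ d.toNat ∈ J 𝒜 p₀ := by
  constructor
  · intro h
    have := decompose_pow_mem_of_mem_Pof 𝒜 p₀ u d hu hd h i
    rwa [decompose_of_mem_same 𝒜 ha] at this
  · intro h
    exact Ideal.subset_span ⟨i, ha, h⟩

include hu hd in
theorem Pof_isPrime [hp : p₀.IsPrime] : (Pof 𝒜 p₀ d).IsPrime := by
  have hD : d.toNat ≠ 0 := by omega
  apply (Pof_isHomogeneous 𝒜 p₀ d).isPrime_of_homogeneous_mem_or_mem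
  · intro htop
    have h1 : (1 : S) ∈ Pof 𝒜 p₀ d := by
      rw [htop]
      trivial
    rw [mem_Pof_iff_of_mem 𝒜 p₀ u d hu hd (SetLike.GradedOne.one_mem), one_pow] at h1
    have h2 : ((1 : Z 𝒜) : S) ∈ J 𝒜 p₀ := h1
    rw [coe_mem_J_iff] at h2
    exact hp.ne_top ((Ideal.eq_top_iff_one _).2 h2)
  · rintro x y ⟨i, hxi⟩ ⟨j, hyj⟩ hxy
    have hxyij : x * y ∈ 𝒜 (i + j) := SetLike.mul_mem_graded hxi hyj
    rw [mem_Pof_iff_of_mem 𝒜 p₀ u d hu hd hxyij,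
      pow_mem_J_iff 𝒜 p₀ u d hu hd hxyij] at hxy
    have h1 : (⟨(x * y) ^ d.toNat * w u (i + j), nz_mem 𝒜 u d hu hd hxyij⟩ : Z 𝒜) =
        ⟨x ^ d.toNat * w u i, nz_mem 𝒜 u d hu hd hxi⟩ *
          ⟨y ^ d.toNat * w u j, nz_mem 𝒜 u d hu hd hyj⟩ := by
      apply Subtype.ext
      show (x * y) ^ d.toNat * w u (i + j) = (x ^ d.toNat * w u i) * (y ^ d.toNat * w u j)
      rw [w_mul]
      ring
    rw [h1] at hxy
    rcases hp.mem_or_mem hxy with h | h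
    · left
      rw [mem_Pof_iff_of_mem 𝒜 p₀ u d hu hd hxi, pow_mem_J_iff 𝒜 p₀ u d hu hd hxi]
      exact h
    · right
      rw [mem_Pof_iff_of_mem 𝒜 p₀ u d hu hd hyj, pow_mem_J_iff 𝒜 p₀ u d hu hd hyj]
      exact h

include hu hd in
theorem comap_Pof [hp : p₀.IsPrime] : (Pof 𝒜 p₀ d).comap (Z 𝒜).subtype = p₀ := by
  ext z
  rw [Ideal.mem_comap]
  show (z : S) ∈ Pof 𝒜 p₀ d ↔ z ∈ p₀
  rw [mem_Pof_iff_of_mem 𝒜 p₀ u d hu hd z.2]
  have h1 : (z : S) ^ d.toNat = ((z ^ d.toNat : Z 𝒜) : S) := rfl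
  rw [h1, coe_mem_J_iff]
  constructor
  · intro h
    exact hp.mem_of_pow_mem _ h
  · intro h
    exact Ideal.pow_mem_of_mem _ h _ (by omega)

include hu hd in
/-- A homogeneous prime is recovered from its degree zero part. -/
theorem Pof_comap (P : Ideal S) [hP : P.IsPrime] (hPh : P.IsHomogeneous 𝒜) :
    haveI : (P.comap (Z 𝒜).subtype).IsPrime := Ideal.comap_isPrime _ _
    Pof 𝒜 (P.comap (Z 𝒜).subtype) d = P := by
  haveI hp0 : (P.comap (Z 𝒜).subtype).IsPrime := Ideal.comap_isPrime _ _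
  have hD : d.toNat ≠ 0 := by omega
  have key : ∀ (i : ℤ) (a : S), a ∈ 𝒜 i →
      (a ∈ Pof 𝒜 (P.comap (Z 𝒜).subtype) d ↔ a ∈ P) := by
    intro i a ha
    rw [mem_Pof_iff_of_mem 𝒜 _ u d hu hd ha, pow_mem_J_iff 𝒜 _ u d hu hd ha, Ideal.mem_comap]
    show a ^ d.toNat * w u i ∈ P ↔ a ∈ P
    constructor
    · intro h
      rcases hP.mem_or_mem h with h1 | h1
      · exact hP.mem_of_pow_mem _ h1
      · exfalso
        exact hP.ne_top (Ideal.eq_top_of_isUnit_mem _ h1 (w_isUnit u i))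
    · intro h
      exact Ideal.mul_mem_right _ _ (Ideal.pow_mem_of_mem _ h _ (by omega))
  apply le_antisymm
  · intro x hx
    rw [hPh.mem_iff]
    intro i
    rw [← key i _ (decompose 𝒜 x i).2]
    exact (Pof_isHomogeneous 𝒜 _ d).mem_iff.1 hx i
  · intro x hx
    rw [(Pof_isHomogeneous 𝒜 _ d).mem_iff]
    intro i
    rw [key i _ (decompose 𝒜 x i).2]
    exact hPh.mem_iff.1 hx i

end Ideals

section Homeo

variable (f : S) (d : ℤ) (hd : 0 < d) (hf : f ∈ 𝒜 d) (hu : IsUnit f)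

/-- The map of the statement. -/
def φ : {p : PrimeSpectrum S // p.asIdeal.IsHomogeneous 𝒜} → PrimeSpectrum (Z 𝒜) :=
  fun p => PrimeSpectrum.comap (Z 𝒜).subtype p.1

include hd hf hu in
theorem main : IsHomeomorph (φ 𝒜) := by
  classical
  obtain ⟨u, rfl⟩ := hu
  have hD : d.toNat ≠ 0 := by omega
  have hcont : Continuous (φ 𝒜) :=
    (PrimeSpectrum.continuous_comap _).comp continuous_subtype_val
  have hinj : Function.Injective (φ 𝒜) := by
    rintro ⟨P, hP⟩ ⟨Q, hQ⟩ h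
    apply Subtype.ext
    apply PrimeSpectrum.ext
    have h1 : P.asIdeal.comap (Z 𝒜).subtype = Q.asIdeal.comap (Z 𝒜).subtype :=
      congrArg PrimeSpectrum.asIdeal h
    have h2 := Pof_comap 𝒜 u d hf hd P.asIdeal hP
    have h3 := Pof_comap 𝒜 u d hf hd Q.asIdeal hQ
    show P.asIdeal = Q.asIdeal
    rw [← h2, ← h3]
    simp only [h1]
  -- the inverse on points
  have hsurj' : ∀ q : PrimeSpectrum (Z 𝒜),
      ∃ P : {p : PrimeSpectrum S // p.asIdeal.IsHomogeneous 𝒜},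
        φ 𝒜 P = q ∧ P.1.asIdeal = Pof 𝒜 q.asIdeal d := by
    intro q
    haveI := q.isPrime
    refine ⟨⟨⟨Pof 𝒜 q.asIdeal d, Pof_isPrime 𝒜 q.asIdeal u d hf hd⟩,
      Pof_isHomogeneous 𝒜 q.asIdeal d⟩, ?_, rfl⟩
    apply PrimeSpectrum.ext
    exact comap_Pof 𝒜 q.asIdeal u d hf hd
  have hsurj : Function.Surjective (φ 𝒜) := fun q => by
    obtain ⟨P, hP, -⟩ := hsurj' q
    exact ⟨P, hP⟩
  refine ⟨hcont, ?_, hinj, hsurj⟩
  -- openness
  have hbasis := (PrimeSpectrum.isTopologicalBasis_basic_opens (R := S)).isInducing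
    (Topology.IsInducing.subtypeVal (t := {p : PrimeSpectrum S | p.asIdeal.IsHomogeneous 𝒜}))
  rw [hbasis.isOpenMap_iff]
  rintro _ ⟨_, ⟨s, rfl⟩, rfl⟩
  -- the image of `D(s)` is the union of the `D(z i)`
  let z : ℤ → Z 𝒜 := fun i => ⟨(decompose 𝒜 s i : S) ^ d.toNat * w u i,
    nz_mem 𝒜 u d hf hd (decompose 𝒜 s i).2⟩
  have himg : φ 𝒜 '' (Subtype.val ⁻¹' (PrimeSpectrum.basicOpen s : Set (PrimeSpectrum S))) =
      ⋃ i, (PrimeSpectrum.basicOpen (z i) : Set (PrimeSpectrum (Z 𝒜))) := by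
    ext q
    constructor
    · rintro ⟨P, hPs, rfl⟩
      have hPs' : s ∉ P.1.asIdeal := hPs
      rw [P.2.mem_iff] at hPs'
      push_neg at hPs'
      obtain ⟨i, hi⟩ := hPs'
      rw [Set.mem_iUnion]
      refine ⟨i, ?_⟩
      show z i ∉ (P.1.asIdeal).comap (Z 𝒜).subtype
      rw [Ideal.mem_comap]
      show (decompose 𝒜 s i : S) ^ d.toNat * w u i ∉ P.1.asIdeal
      intro h
      rcases P.1.isPrime.mem_or_mem h with h1 | h1
      · exact hi (P.1.isPrime.mem_of_pow_mem _ h1)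
      · exact P.1.isPrime.ne_top (Ideal.eq_top_of_isUnit_mem _ h1 (w_isUnit u i))
    · intro hq
      rw [Set.mem_iUnion] at hq
      obtain ⟨i, hi⟩ := hq
      obtain ⟨P, hPq, hPof⟩ := hsurj' q
      refine ⟨P, ?_, hPq⟩
      show s ∉ P.1.asIdeal
      intro hs
      haveI := q.isPrime
      rw [hPof] at hs
      have h1 := decompose_pow_mem_of_mem_Pof 𝒜 q.asIdeal u d hf hd hs i
      rw [pow_mem_J_iff 𝒜 q.asIdeal u d hf hd (decompose 𝒜 s i).2] at h1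
      exact hi h1
  show IsOpen (φ 𝒜 '' (Subtype.val ⁻¹' (PrimeSpectrum.basicOpen s : Set (PrimeSpectrum S))))
  rw [himg]
  exact isOpen_iUnion fun i => (PrimeSpectrum.basicOpen (z i)).isOpen

end Homeo

end Groth.Agent.Lib.GradedUnitH3
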