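import Mathlib

/-!
# Resolving a partially defined morphism by the scheme-theoretic closure of its graph (helper8)
-/

set_option autoImplicit false
universe u
open CategoryTheory CategoryTheory.Limits AlgebraicGeometry TopologicalSpace

namespace GraphClH8

/-- The canonical morphism to the scheme-theoretic image is scheme-theoretically dominant. -/
theorem isSchemeTheoreticallyDominant_toImage {X Y : Scheme.{u}} (f : X ⟶ Y) [QuasiCompact f] :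
    IsSchemeTheoreticallyDominant f.toImage := by
  rw [isSchemeTheoreticallyDominant_iff]
  haveI : IsAffineHom f.imageι := inferInstance
  refine Scheme.IdealSheafData.ext_of_iSup_eq_top
    (fun U : Y.affineOpens => (⟨f.imageι ⁻¹ᵁ U.1, U.2.preimage f.imageι⟩ : f.image.affineOpens))
    ?_ ?_
  · rw [eq_top_iff]
    intro x _
    obtain ⟨_, ⟨(V : Y.Opens), hV, rfl⟩, hxV, -⟩ :=
      Y.isBasis_affineOpens.exists_subset_of_mem_open (Set.mem_univ (f.imageι x)) isOpen_univ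
    exact Opens.mem_iSup.mpr ⟨⟨V, hV⟩, hxV⟩
  · intro U
    rw [Scheme.Hom.ker_apply, Scheme.IdealSheafData.ideal_bot]
    exact (RingHom.injective_iff_ker_eq_bot _).mp (f.toImage_app_injective U)

theorem restrict_eq_ι {X : Scheme.{u}} (U : X.Opens) (g : (U : Scheme.{u}) ⟶ X) (h : g = U.ι) :
    g ∣_ U = (g ⁻¹ᵁ U).ι := by
  subst h
  rw [← cancel_mono U.ι]
  exact morphismRestrict_ι _ _

theorem isIso_restrict_of_eq_ι {X : Scheme.{u}} (U : X.Opens) (g : (U : Scheme.{u}) ⟶ X)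
    (h : g = U.ι) : IsIso (g ∣_ U) := by
  rw [restrict_eq_ι U g h]
  subst h
  have : U.ι ⁻¹ᵁ U = ⊤ := U.ι_preimage_self
  rw [this]
  exact (Scheme.topIso _).isIso_hom

set_option maxHeartbeats 800000 in
theorem main8850 {X Y S : Scheme.{u}} [IsNoetherian X] (a : X ⟶ S) (b : Y ⟶ S)
    [IsProper b] (U : X.Opens) (f : (U : Scheme.{u}) ⟶ Y) (hf : f ≫ b = U.ι ≫ a) :
    ∃ (X' : Scheme.{u}) (p : X' ⟶ X) (f' : X' ⟶ Y), IsProper p ∧ IsIso (p ∣_ U) ∧ f' ≫ b = p ≫ a ∧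
      (p ⁻¹ᵁ U).ι ≫ f' = (p ∣_ U) ≫ f := by
  haveI : NoetherianSpace U.toScheme := (inferInstance : NoetherianSpace (U : Set X))
  obtain ⟨Γ, hΓ⟩ : ∃ Γ : U.toScheme ⟶ pullback a b, Γ = pullback.lift U.ι f hf.symm := ⟨_, rfl⟩
  have hΓ1 : Γ ≫ pullback.fst a b = U.ι := by rw [hΓ, pullback.lift_fst]
  have hΓ2 : Γ ≫ pullback.snd a b = f := by rw [hΓ, pullback.lift_snd]
  haveI : QuasiCompact Γ := inferInstance
  obtain ⟨p, hp⟩ : ∃ p : Γ.image ⟶ X, p = Γ.imageι ≫ pullback.fst a b := ⟨_, rfl⟩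
  obtain ⟨f', hf'⟩ : ∃ f' : Γ.image ⟶ Y, f' = Γ.imageι ≫ pullback.snd a b := ⟨_, rfl⟩
  have htp : Γ.toImage ≫ p = U.ι := by rw [hp, Scheme.Hom.toImage_imageι_assoc, hΓ1]
  have htf : Γ.toImage ≫ f' = f := by rw [hf', Scheme.Hom.toImage_imageι_assoc, hΓ2]
  haveI : IsProper p := by rw [hp]; infer_instance
  haveI hdom : IsSchemeTheoreticallyDominant Γ.toImage := isSchemeTheoreticallyDominant_toImage Γ
  haveI hdomU : IsSchemeTheoreticallyDominant (Γ.toImage ∣_ (p ⁻¹ᵁ U)) :=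
    IsSchemeTheoreticallyDominant.of_isPullback
      (isPullback_morphismRestrict Γ.toImage (p ⁻¹ᵁ U)).flip
  have hcomp : (Γ.toImage ∣_ (p ⁻¹ᵁ U)) ≫ (p ∣_ U) = (Γ.toImage ≫ p) ∣_ U :=
    (morphismRestrict_comp _ _ _).symm
  haveI hiso : IsIso ((Γ.toImage ≫ p) ∣_ U) := isIso_restrict_of_eq_ι U _ htp
  haveI hci : IsClosedImmersion ((Γ.toImage ≫ p) ∣_ U) := inferInstance
  haveI : IsClosedImmersion ((Γ.toImage ∣_ (p ⁻¹ᵁ U)) ≫ (p ∣_ U)) := by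
    rw [hcomp]; exact hci
  haveI : IsClosedImmersion (Γ.toImage ∣_ (p ⁻¹ᵁ U)) :=
    IsClosedImmersion.of_comp (Γ.toImage ∣_ (p ⁻¹ᵁ U)) (p ∣_ U)
  haveI hisoT : IsIso (Γ.toImage ∣_ (p ⁻¹ᵁ U)) :=
    IsClosedImmersion.isIso_iff_ker_eq_bot.mpr (Scheme.Hom.ker_eq_bot _)
  haveI : IsIso ((Γ.toImage ∣_ (p ⁻¹ᵁ U)) ≫ (p ∣_ U)) := by rw [hcomp]; exact hiso
  have hisoP : IsIso (p ∣_ U) := IsIso.of_isIso_comp_left (Γ.toImage ∣_ (p ⁻¹ᵁ U)) (p ∣_ U)
  refine ⟨Γ.image, p, f', inferInstance, hisoP, ?_, ?_⟩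
  · rw [hf', hp, Category.assoc, Category.assoc, pullback.condition]
  · rw [← cancel_epi (Γ.toImage ∣_ (p ⁻¹ᵁ U)), morphismRestrict_ι_assoc, htf, ← Category.assoc,
      hcomp, restrict_eq_ι U _ htp]
    rfl

end GraphClH8
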