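import Mathlib
import Groth.Prelude

/-!
# Graph-closure criterion for extending a morphism from the generic fibre (S14188) — helper4
-/

set_option autoImplicit false
universe u
open CategoryTheory CategoryTheory.Limits AlgebraicGeometry TopologicalSpace

namespace Groth.Agent.Lib.GraphClosureH4

theorem cat_aux {C : Type*} [Category C] {A B D E : C} (t : A ⟶ B) (e : B ⟶ D) [IsIso e]
    (r : B ⟶ E) : (t ≫ e) ≫ inv e ≫ r = t ≫ r := by
  rw [Category.assoc, IsIso.hom_inv_id_assoc]

theorem cat_aux2 {C : Type*} [Category C] {B D P T Z : C} (i : B ⟶ P) (p : P ⟶ D) (q : P ⟶ Z)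
    (pY : D ⟶ T) (pZ : Z ⟶ T) (w : p ≫ pY = q ≫ pZ) [IsIso (i ≫ p)] :
    (inv (i ≫ p) ≫ i ≫ q) ≫ pZ = pY := by
  rw [Category.assoc, Category.assoc, ← w, ← Category.assoc i, IsIso.inv_hom_id_assoc]

/-- In `CommRingCat`, the pushout of an injective map along a flat map is injective. -/
theorem pushout_inl_injective {R A B : CommRingCat.{u}} (φ : R ⟶ A) (γ : R ⟶ B)
    (hφ : φ.hom.Flat) (hγ : Function.Injective γ.hom) :
    Function.Injective (pushout.inl φ γ).hom := by
  letI : Algebra R A := φ.hom.toAlgebra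
  letI : Algebra R B := γ.hom.toAlgebra
  haveI : Module.Flat R A := hφ
  have h1 : IsPushout φ γ
      (CommRingCat.ofHom (S := TensorProduct R A B)
        (Algebra.TensorProduct.includeLeftRingHom (R := R) (A := A) (B := B)))
      (CommRingCat.ofHom (S := TensorProduct R A B)
        (Algebra.TensorProduct.includeRight (R := R) (A := A) (B := B)).toRingHom) :=
    CommRingCat.isPushout_tensorProduct R A B
  have h2 := h1.inl_isoPushout_hom
  have h3 : Function.Injective (Algebra.TensorProduct.includeLeft (R := R) (S := R) (A := A) (B := B)) :=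
    Algebra.TensorProduct.includeLeft_injective (S := R) hγ
  intro a b hab
  apply h3
  apply (ConcreteCategory.bijective_of_isIso h1.isoPushout.hom).injective
  have e1 : ∀ x : A, (pushout.inl φ γ).hom x = h1.isoPushout.hom.hom
      ((Algebra.TensorProduct.includeLeft (R := R) (S := R) (A := A) (B := B)) x) := by
    intro x
    rw [← h2]
    rfl
  exact (e1 a).symm.trans (hab.trans (e1 b))

/-- Flat base change of a map from an affine scheme which is injective on sections is injective
on sections (over small enough affine opens). -/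
theorem fst_app_injective_gen {T Y S : Scheme.{u}} (pY : Y ⟶ T) [Flat pY] (f : S ⟶ T) [IsAffine S]
    (V : T.Opens) (hV : IsAffineOpen V) (hUST : (⊤ : S.Opens) ≤ f ⁻¹ᵁ V)
    (hinj : Function.Injective (f.appLE V ⊤ hUST).hom)
    (U : Y.Opens) (hU : IsAffineOpen U) (hUV : U ≤ pY ⁻¹ᵁ V) :
    Function.Injective ((pullback.fst pY f).app U).hom := by
  have H : IsPullback (pullback.fst pY f) (pullback.snd pY f) pY f :=
    IsPullback.of_hasPullback pY f
  haveI : IsIso (pushoutSection H hUST hUV rfl) :=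
    isIso_pushoutSection_of_isAffineOpen H hUST hUV rfl hV (isAffineOpen_top S) hU
  have hinl : pushout.inl (pY.appLE V U hUV) (f.appLE V ⊤ hUST) ≫ pushoutSection H hUST hUV rfl =
      (pullback.fst pY f).appLE U (pullback.fst pY f ⁻¹ᵁ U ⊓ pullback.snd pY f ⁻¹ᵁ ⊤)
        inf_le_left :=
    pushout.inl_desc _ _ _
  have h1 : Function.Injective (pushout.inl (pY.appLE V U hUV) (f.appLE V ⊤ hUST)).hom :=
    pushout_inl_injective _ _ (pY.flat_appLE hV hU hUV) hinj
  have h2 : Function.Injective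
      (pushout.inl (pY.appLE V U hUV) (f.appLE V ⊤ hUST) ≫ pushoutSection H hUST hUV rfl).hom := by
    intro s t hst
    exact h1 ((ConcreteCategory.bijective_of_isIso (pushoutSection H hUST hUV rfl)).injective hst)
  intro s t hst
  have h3 := congrArg
    (fun z => ((pullback pY f).presheaf.map
      (homOfLE (inf_le_left : pullback.fst pY f ⁻¹ᵁ U ⊓ pullback.snd pY f ⁻¹ᵁ ⊤ ≤
        pullback.fst pY f ⁻¹ᵁ U)).op).hom z) hst
  refine h2 ?_
  rw [hinl]
  exact h3

theorem fst_app_injective (T Y : Scheme.{u}) [IsIntegral T] (pY : Y ⟶ T) [Flat pY]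
    (V : T.Opens) (hV : IsAffineOpen V) (hη : genericPoint T ∈ V)
    (U : Y.Opens) (hU : IsAffineOpen U) (hUV : U ≤ pY ⁻¹ᵁ V) :
    Function.Injective ((pullback.fst pY (T.fromSpecStalk (genericPoint T))).app U).hom := by
  have hUST : (⊤ : (Spec (T.presheaf.stalk (genericPoint T))).Opens) ≤
      (T.fromSpecStalk (genericPoint T)) ⁻¹ᵁ V := by
    intro x _
    have hx : (T.fromSpecStalk (genericPoint T)) x ⤳ genericPoint T := by
      have h0 : (T.fromSpecStalk (genericPoint T)) x ∈
          Set.range (T.fromSpecStalk (genericPoint T)) := ⟨x, rfl⟩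
      rw [Scheme.range_fromSpecStalk] at h0
      exact h0
    exact hx.mem_open V.2 hη
  refine fst_app_injective_gen pY (T.fromSpecStalk (genericPoint T)) V hV hUST ?_ U hU hUV
  have key : ∀ (r : Opposite.op (⊤ : (Spec (T.presheaf.stalk (genericPoint T))).Opens) ⟶
      Opposite.op ⊤), (Spec (T.presheaf.stalk (genericPoint T))).presheaf.map r = 𝟙 _ :=
    fun r => by rw [Subsingleton.elim r (𝟙 _), CategoryTheory.Functor.map_id]
  have hγ : (T.fromSpecStalk (genericPoint T)).appLE V ⊤ hUST =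
      T.presheaf.germ V (genericPoint T) hη ≫
        (Scheme.ΓSpecIso (T.presheaf.stalk (genericPoint T))).inv := by
    rw [Scheme.Hom.appLE, Scheme.fromSpecStalk_app hη, Category.assoc, Category.assoc,
      ← Functor.map_comp, key, Category.comp_id]
  rw [hγ]
  intro s t hst
  have h1 : (Scheme.ΓSpecIso (T.presheaf.stalk (genericPoint T))).inv.hom
        (T.presheaf.germ V (genericPoint T) hη s) =
      (Scheme.ΓSpecIso (T.presheaf.stalk (genericPoint T))).inv.hom
        (T.presheaf.germ V (genericPoint T) hη t) := hst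
  have h2 := (ConcreteCategory.bijective_of_isIso
    (Scheme.ΓSpecIso (T.presheaf.stalk (genericPoint T))).inv).injective h1
  exact germ_injective_of_isIntegral T (genericPoint T) hη h2

/-- The generic fibre of a flat scheme over an integral base is schematically dense. -/
theorem ker_fst_eq_bot (T Y : Scheme.{u}) [IsIntegral T] (pY : Y ⟶ T) [Flat pY] :
    (pullback.fst pY (T.fromSpecStalk (genericPoint T))).ker = ⊥ := by
  refine le_antisymm ?_ bot_le
  refine Scheme.IdealSheafData.le_of_iSup_eq_top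
    (ι := {U : Y.affineOpens // ∃ V : T.Opens, IsAffineOpen V ∧ genericPoint T ∈ V ∧
      U.1 ≤ pY ⁻¹ᵁ V}) (fun i => i.1) ?_ ?_
  · refine eq_top_iff.mpr ?_
    intro y _
    obtain ⟨V, hV, hyV⟩ : ∃ V : T.Opens, IsAffineOpen V ∧ pY y ∈ V := by
      obtain ⟨_, ⟨V, hV, rfl⟩, hyV, -⟩ := T.isBasis_affineOpens.exists_subset_of_mem_open
        (Set.mem_univ (pY y)) isOpen_univ
      exact ⟨V, hV, hyV⟩
    have hη : genericPoint T ∈ V :=
      ((genericPoint_spec T).mem_open_set_iff V.2).mpr ⟨pY y, trivial, hyV⟩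
    obtain ⟨_, ⟨U, hU, rfl⟩, hyU, hUV⟩ := Y.isBasis_affineOpens.exists_subset_of_mem_open
      (show y ∈ ((pY ⁻¹ᵁ V : Y.Opens) : Set Y) from hyV) (pY ⁻¹ᵁ V).2
    exact TopologicalSpace.Opens.mem_iSup.mpr ⟨⟨⟨U, hU⟩, V, hV, hη, hUV⟩, hyU⟩
  · rintro ⟨U, V, hV, hη, hUV⟩
    intro s hs
    have h1 := (pullback.fst pY (T.fromSpecStalk (genericPoint T))).ideal_ker_le U hs
    have h2 : s = 0 := (fst_app_injective T Y pY V hV hη U.1 U.2 hUV)
      (by rw [RingHom.mem_ker.mp h1, map_zero])
    rw [h2]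
    exact Submodule.zero_mem _

theorem main14188 (T Y Z : Scheme.{u}) [IsIntegral T]
    (pY : Y ⟶ T) (pZ : Z ⟶ T) [Flat pY] [Flat pZ] [IsSeparated pZ]
    (ψ : pullback pY (T.fromSpecStalk (genericPoint T)) ⟶ Z)
    (hψ : ψ ≫ pZ = pullback.fst pY (T.fromSpecStalk (genericPoint T)) ≫ pY)
    (gr : pullback pY (T.fromSpecStalk (genericPoint T)) ⟶ pullback pY pZ)
    (hgr₁ : gr ≫ pullback.fst pY pZ = pullback.fst pY (T.fromSpecStalk (genericPoint T)))
    (hgr₂ : gr ≫ pullback.snd pY pZ = ψ) :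
    (∃ φ : Y ⟶ Z, φ ≫ pZ = pY ∧ pullback.fst pY (T.fromSpecStalk (genericPoint T)) ≫ φ = ψ) ↔
      IsIso (gr.imageι ≫ pullback.fst pY pZ) := by
  constructor
  · rintro ⟨φ, hφ1, hφ2⟩
    let Γ : Y ⟶ pullback pY pZ := pullback.lift (𝟙 Y) φ (by rw [Category.id_comp, hφ1])
    have hΓ1 : Γ ≫ pullback.fst pY pZ = 𝟙 Y := pullback.lift_fst _ _ _
    have hΓ2 : Γ ≫ pullback.snd pY pZ = φ := pullback.lift_snd _ _ _
    haveI : IsClosedImmersion (Γ ≫ pullback.fst pY pZ) := by rw [hΓ1]; infer_instance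
    haveI : IsClosedImmersion Γ := IsClosedImmersion.of_comp Γ (pullback.fst pY pZ)
    have hgr : gr = pullback.fst pY (T.fromSpecStalk (genericPoint T)) ≫ Γ := by
      apply pullback.hom_ext
      · rw [hgr₁, Category.assoc, hΓ1, Category.comp_id]
      · rw [hgr₂, Category.assoc, hΓ2, hφ2]
    have hker : gr.ker = Γ.ker := by
      rw [hgr, Scheme.Hom.ker_comp, ker_fst_eq_bot, Scheme.IdealSheafData.map_bot]
    have hki : gr.imageι.ker = gr.ker := Scheme.IdealSheafData.ker_subschemeι _
    have h1 : Γ.ker ≤ gr.imageι.ker := by rw [hki, hker]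
    have ha : IsClosedImmersion.lift Γ gr.imageι h1 ≫ Γ = gr.imageι :=
      IsClosedImmersion.lift_fac _ _ _
    haveI : IsIso (IsClosedImmersion.lift Γ gr.imageι h1) :=
      IsClosedImmersion.isIso_of_ker_eq gr.imageι Γ _ ha (hki.trans hker)
    have h3 : gr.imageι ≫ pullback.fst pY pZ = IsClosedImmersion.lift Γ gr.imageι h1 :=
      (congrArg (fun z => z ≫ pullback.fst pY pZ) ha).symm.trans
        (by rw [Category.assoc, hΓ1, Category.comp_id])
    rw [h3]
    infer_instance
  · intro h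
    haveI := h
    refine ⟨inv (gr.imageι ≫ pullback.fst pY pZ) ≫ gr.imageι ≫ pullback.snd pY pZ, ?_, ?_⟩
    · exact cat_aux2 gr.imageι (pullback.fst pY pZ) (pullback.snd pY pZ) pY pZ pullback.condition
    · have h1 : pullback.fst pY (T.fromSpecStalk (genericPoint T)) =
          gr.toImage ≫ (gr.imageι ≫ pullback.fst pY pZ) := by
        rw [← Category.assoc, gr.toImage_imageι, hgr₁]
      refine (congrArg (fun z => z ≫ inv (gr.imageι ≫ pullback.fst pY pZ) ≫
        gr.imageι ≫ pullback.snd pY pZ) h1).trans ?_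
      refine (cat_aux gr.toImage (gr.imageι ≫ pullback.fst pY pZ)
        (gr.imageι ≫ pullback.snd pY pZ)).trans ?_
      rw [← Category.assoc, gr.toImage_imageι, hgr₂]

end Groth.Agent.Lib.GraphClosureH4
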