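import Mathlib
import Groth.Prelude
import Groth.Agent.Lib.GraphClosure_helper4

/-!
# fpqc descent of extensions of a morphism from the generic fibre (S14189) — helper4
-/

set_option autoImplicit false
universe u
open CategoryTheory CategoryTheory.Limits AlgebraicGeometry TopologicalSpace

namespace Groth.Agent.Lib.GraphDescentH4

open Groth.Agent.Lib.GraphClosureH4

/-- Two morphisms into a separated scheme over `T` which agree on a schematically dense
subscheme are equal. -/
theorem ext_of_ker_eq_bot {W' W Z T : Scheme.{u}} (jW : W' ⟶ W) (hj : jW.ker = ⊥)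
    (pZ : Z ⟶ T) [IsSeparated pZ]
    (α β : W ⟶ Z) (h : α ≫ pZ = β ≫ pZ) (hαβ : jW ≫ α = jW ≫ β) : α = β := by
  obtain ⟨l, hl1, hl2⟩ : ∃ l : W ⟶ pullback pZ pZ,
      l ≫ pullback.fst pZ pZ = α ∧ l ≫ pullback.snd pZ pZ = β :=
    ⟨pullback.lift α β h, pullback.lift_fst _ _ _, pullback.lift_snd _ _ _⟩
  have hcond : jW ≫ l = (jW ≫ α) ≫ pullback.diagonal pZ := by
    apply pullback.hom_ext
    · rw [Category.assoc, hl1, Category.assoc, pullback.diagonal_fst, Category.comp_id]
    · rw [Category.assoc, hl2, Category.assoc, pullback.diagonal_snd, Category.comp_id, hαβ]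
  obtain ⟨k, hk⟩ : ∃ k : W' ⟶ pullback l (pullback.diagonal pZ),
      k ≫ pullback.fst l (pullback.diagonal pZ) = jW :=
    ⟨pullback.lift jW (jW ≫ α) hcond, pullback.lift_fst _ _ _⟩
  have hι : (pullback.fst l (pullback.diagonal pZ)).ker = ⊥ := by
    refine le_antisymm ?_ bot_le
    have h0 := Scheme.Hom.le_ker_comp k (pullback.fst l (pullback.diagonal pZ))
    rw [hk, hj] at h0
    exact h0
  haveI : IsIso (pullback.fst l (pullback.diagonal pZ)) :=
    IsClosedImmersion.isIso_iff_ker_eq_bot.mpr hι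
  have e1 : pullback.fst l (pullback.diagonal pZ) ≫ α = pullback.snd l (pullback.diagonal pZ) := by
    rw [← hl1, ← Category.assoc, pullback.condition, Category.assoc, pullback.diagonal_fst,
      Category.comp_id]
  have e2 : pullback.fst l (pullback.diagonal pZ) ≫ β = pullback.snd l (pullback.diagonal pZ) := by
    rw [← hl2, ← Category.assoc, pullback.condition, Category.assoc, pullback.diagonal_snd,
      Category.comp_id]
  exact (cancel_epi (pullback.fst l (pullback.diagonal pZ))).mp (e1.trans e2.symm)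

theorem desc_of_generic {T Y Z Y' : Scheme.{u}} [IsIntegral T] (pY : Y ⟶ T) (pZ : Z ⟶ T)
    [Flat pY] [IsSeparated pZ]
    (ψ : pullback pY (T.fromSpecStalk (genericPoint T)) ⟶ Z)
    (π : Y' ⟶ Y) [Flat π] [Surjective π] [QuasiCompact π]
    (a : Y' ⟶ Z) (ha : a ≫ pZ = π ≫ pY)
    (hagree : pullback.fst π (pullback.fst pY (T.fromSpecStalk (genericPoint T))) ≫ a =
      pullback.snd π (pullback.fst pY (T.fromSpecStalk (genericPoint T))) ≫ ψ) :
    ∃ φ : Y ⟶ Z, φ ≫ pZ = pY ∧ pullback.fst pY (T.fromSpecStalk (genericPoint T)) ≫ φ = ψ := by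
  have hK : pullback.fst π π ≫ a = pullback.snd π π ≫ a := by
    haveI hflat : Flat (pullback.fst π π ≫ π ≫ pY) := inferInstance
    refine ext_of_ker_eq_bot
      (pullback.fst (pullback.fst π π ≫ π ≫ pY) (T.fromSpecStalk (genericPoint T)))
      (ker_fst_eq_bot T _ (pullback.fst π π ≫ π ≫ pY)) pZ _ _ ?_ ?_
    · rw [Category.assoc, Category.assoc, ha]
      exact pullback.condition_assoc _
    · obtain ⟨u, hu1, hu2⟩ : ∃ u : pullback (pullback.fst π π ≫ π ≫ pY)
            (T.fromSpecStalk (genericPoint T)) ⟶ pullback pY (T.fromSpecStalk (genericPoint T)),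
          u ≫ pullback.fst pY (T.fromSpecStalk (genericPoint T)) =
            pullback.fst (pullback.fst π π ≫ π ≫ pY) (T.fromSpecStalk (genericPoint T)) ≫
              pullback.fst π π ≫ π ∧
          u ≫ pullback.snd pY (T.fromSpecStalk (genericPoint T)) =
            pullback.snd (pullback.fst π π ≫ π ≫ pY) (T.fromSpecStalk (genericPoint T)) :=
        ⟨pullback.lift
          (pullback.fst (pullback.fst π π ≫ π ≫ pY) (T.fromSpecStalk (genericPoint T)) ≫
              pullback.fst π π ≫ π)
          (pullback.snd (pullback.fst π π ≫ π ≫ pY) (T.fromSpecStalk (genericPoint T)))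
          (by rw [Category.assoc, Category.assoc]; exact pullback.condition),
          pullback.lift_fst _ _ _, pullback.lift_snd _ _ _⟩
      obtain ⟨v1, hv11, hv12⟩ : ∃ v : pullback (pullback.fst π π ≫ π ≫ pY)
            (T.fromSpecStalk (genericPoint T)) ⟶
            pullback π (pullback.fst pY (T.fromSpecStalk (genericPoint T))),
          v ≫ pullback.fst π (pullback.fst pY (T.fromSpecStalk (genericPoint T))) =
            pullback.fst (pullback.fst π π ≫ π ≫ pY) (T.fromSpecStalk (genericPoint T)) ≫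
              pullback.fst π π ∧
          v ≫ pullback.snd π (pullback.fst pY (T.fromSpecStalk (genericPoint T))) = u :=
        ⟨pullback.lift
          (pullback.fst (pullback.fst π π ≫ π ≫ pY) (T.fromSpecStalk (genericPoint T)) ≫
              pullback.fst π π) u (by rw [Category.assoc, hu1]),
          pullback.lift_fst _ _ _, pullback.lift_snd _ _ _⟩
      obtain ⟨v2, hv21, hv22⟩ : ∃ v : pullback (pullback.fst π π ≫ π ≫ pY)
            (T.fromSpecStalk (genericPoint T)) ⟶
            pullback π (pullback.fst pY (T.fromSpecStalk (genericPoint T))),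
          v ≫ pullback.fst π (pullback.fst pY (T.fromSpecStalk (genericPoint T))) =
            pullback.fst (pullback.fst π π ≫ π ≫ pY) (T.fromSpecStalk (genericPoint T)) ≫
              pullback.snd π π ∧
          v ≫ pullback.snd π (pullback.fst pY (T.fromSpecStalk (genericPoint T))) = u :=
        ⟨pullback.lift
          (pullback.fst (pullback.fst π π ≫ π ≫ pY) (T.fromSpecStalk (genericPoint T)) ≫
              pullback.snd π π) u
            (by rw [Category.assoc, hu1, ← pullback.condition (f := π) (g := π)]),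
          pullback.lift_fst _ _ _, pullback.lift_snd _ _ _⟩
      have e1 : pullback.fst (pullback.fst π π ≫ π ≫ pY) (T.fromSpecStalk (genericPoint T)) ≫
          pullback.fst π π ≫ a = u ≫ ψ :=
        (Category.assoc _ _ _).symm.trans ((congrArg (fun z => z ≫ a) hv11.symm).trans
          ((Category.assoc _ _ _).trans ((congrArg (fun z => v1 ≫ z) hagree).trans
            ((Category.assoc _ _ _).symm.trans (congrArg (fun z => z ≫ ψ) hv12)))))
      have e2 : pullback.fst (pullback.fst π π ≫ π ≫ pY) (T.fromSpecStalk (genericPoint T)) ≫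
          pullback.snd π π ≫ a = u ≫ ψ :=
        (Category.assoc _ _ _).symm.trans ((congrArg (fun z => z ≫ a) hv21.symm).trans
          ((Category.assoc _ _ _).trans ((congrArg (fun z => v2 ≫ z) hagree).trans
            ((Category.assoc _ _ _).symm.trans (congrArg (fun z => z ≫ ψ) hv22)))))
      exact e1.trans e2.symm
  have hdesc : ∀ {W : Scheme.{u}} (g₁ g₂ : W ⟶ Y'), g₁ ≫ π = g₂ ≫ π → g₁ ≫ a = g₂ ≫ a := by
    intro W g₁ g₂ h
    have h1 : pullback.lift g₁ g₂ h ≫ pullback.fst π π = g₁ := pullback.lift_fst _ _ _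
    have h2 : pullback.lift g₁ g₂ h ≫ pullback.snd π π = g₂ := pullback.lift_snd _ _ _
    calc g₁ ≫ a = (pullback.lift g₁ g₂ h ≫ pullback.fst π π) ≫ a := by rw [h1]
      _ = pullback.lift g₁ g₂ h ≫ pullback.fst π π ≫ a := Category.assoc _ _ _
      _ = pullback.lift g₁ g₂ h ≫ pullback.snd π π ≫ a := by rw [hK]
      _ = (pullback.lift g₁ g₂ h ≫ pullback.snd π π) ≫ a := (Category.assoc _ _ _).symm
      _ = g₂ ≫ a := by rw [h2]
  obtain ⟨φ, hfac⟩ : ∃ φ : Y ⟶ Z, π ≫ φ = a :=
    ⟨EffectiveEpi.desc π a (fun g₁ g₂ h => hdesc g₁ g₂ h),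
      EffectiveEpi.fac π a (fun g₁ g₂ h => hdesc g₁ g₂ h)⟩
  haveI : Epi π := Flat.epi_of_flat_of_surjective π
  haveI : Epi (pullback.snd π (pullback.fst pY (T.fromSpecStalk (genericPoint T)))) :=
    Flat.epi_of_flat_of_surjective _
  refine ⟨φ, ?_, ?_⟩
  · refine (cancel_epi π).mp ?_
    rw [← Category.assoc, hfac, ha]
  · refine (cancel_epi (pullback.snd π (pullback.fst pY (T.fromSpecStalk (genericPoint T))))).mp ?_
    rw [← Category.assoc, ← pullback.condition, Category.assoc, hfac, hagree]

theorem main14189 (T Y Z T' : Scheme.{u}) [IsIntegral T]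
    (pY : Y ⟶ T) (pZ : Z ⟶ T) [Flat pY] [Flat pZ] [IsSeparated pZ]
    (ψ : pullback pY (T.fromSpecStalk (genericPoint T)) ⟶ Z)
    (hψ : ψ ≫ pZ = pullback.fst pY (T.fromSpecStalk (genericPoint T)) ≫ pY)
    (g : T' ⟶ T) [Flat g] [Surjective g] [QuasiCompact g]
    (φ' : pullback pY g ⟶ pullback pZ g) (hφ' : φ' ≫ pullback.snd pZ g = pullback.snd pY g)
    (hagree : pullback.fst (pullback.fst pY g)
        (pullback.fst pY (T.fromSpecStalk (genericPoint T))) ≫ φ' ≫ pullback.fst pZ g =
      pullback.snd (pullback.fst pY g)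
        (pullback.fst pY (T.fromSpecStalk (genericPoint T))) ≫ ψ) :
    ∃ φ : Y ⟶ Z, φ ≫ pZ = pY ∧ pullback.fst pY (T.fromSpecStalk (genericPoint T)) ≫ φ = ψ := by
  have ha : (φ' ≫ pullback.fst pZ g) ≫ pZ = pullback.fst pY g ≫ pY := by
    rw [Category.assoc, pullback.condition (f := pZ) (g := g), ← Category.assoc, hφ',
      pullback.condition (f := pY) (g := g)]
  exact desc_of_generic pY pZ ψ (pullback.fst pY g) (φ' ≫ pullback.fst pZ g) ha hagree

end Groth.Agent.Lib.GraphDescentH4
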