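import Mathlib
import Groth.Agent.Lib.TopInv_helper4

/-!
# Graphs of morphisms into étale schemes (helper4)
-/

open AlgebraicGeometry CategoryTheory Limits MorphismProperty

universe u

set_option autoImplicit false
set_option linter.style.haveILetI false

namespace Groth.Agent.Lib.TopInvH4

set_option maxHeartbeats 800000 in
theorem main5128 {S X Y : Scheme.{u}} (p : X ⟶ S)
    (q : Y ⟶ S) [Etale q] :
    (∀ f : {f : X ⟶ Y // f ≫ q = p},
      IsOpenImmersion (pullback.lift (𝟙 X) f.1 ((Category.id_comp p).trans f.2.symm) : X ⟶ pullback p q)) ∧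
    ∀ Γ : (pullback p q).Opens, UniversallyInjective (Γ.ι ≫ pullback.fst p q) → Surjective (Γ.ι ≫ pullback.fst p q) →
      ∃! f : {f : X ⟶ Y // f ≫ q = p},
        Set.range (pullback.lift (𝟙 X) f.1 ((Category.id_comp p).trans f.2.symm) : X ⟶ pullback p q).base =
          (Γ : Set ↥(pullback p q)) := by
  constructor
  · rintro ⟨f, hf⟩
    exact isOpenImmersion_of_section _ (pullback.fst p q) (pullback.lift_fst _ _ _)
  · intro Γ hinj hsurj
    let g : (Γ : Scheme.{u}) ⟶ X := Γ.ι ≫ pullback.fst p q
    haveI : UniversallyInjective g := hinj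
    haveI : Surjective g := hsurj
    haveI : Etale g := inferInstance
    haveI : IsIso g := isIso_of_etale_of_universallyInjective g
    let f : X ⟶ Y := inv g ≫ Γ.ι ≫ pullback.snd p q
    have hf : f ≫ q = p := by
      change (inv g ≫ Γ.ι ≫ pullback.snd p q) ≫ q = p
      rw [Category.assoc, Category.assoc, ← pullback.condition, ← Category.assoc Γ.ι]
      change inv g ≫ g ≫ p = p
      rw [IsIso.inv_hom_id_assoc]
    have hgraph : pullback.lift (𝟙 X) f ((Category.id_comp p).trans hf.symm) = inv g ≫ Γ.ι := by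
      apply pullback.hom_ext
      · rw [pullback.lift_fst, Category.assoc]
        change 𝟙 X = inv g ≫ g
        rw [IsIso.inv_hom_id]
      · rw [pullback.lift_snd, Category.assoc]
    refine ⟨⟨f, hf⟩, ?_, ?_⟩
    · change Set.range (pullback.lift (𝟙 X) f _).base = _
      rw [hgraph]
      apply Set.Subset.antisymm
      · rintro _ ⟨x, rfl⟩
        exact ((inv g) x).2
      · intro z hz
        refine ⟨g ⟨z, hz⟩, ?_⟩
        change Γ.ι ((g ≫ inv g) ⟨z, hz⟩) = z
        rw [IsIso.hom_inv_id]
        rfl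
    · rintro ⟨f', hf'⟩ hrange
      let G' : X ⟶ pullback p q := pullback.lift (𝟙 X) f' ((Category.id_comp p).trans hf'.symm)
      have hr : Set.range G' ⊆ Set.range Γ.ι := by
        rw [Scheme.Opens.range_ι]
        exact hrange.le
      let ℓ : X ⟶ Γ := IsOpenImmersion.lift Γ.ι G' hr
      have hℓ : ℓ ≫ Γ.ι = G' := IsOpenImmersion.lift_fac _ _ _
      have hℓg : ℓ ≫ g = 𝟙 X := by
        change ℓ ≫ Γ.ι ≫ pullback.fst p q = 𝟙 X
        rw [← Category.assoc, hℓ]
        exact pullback.lift_fst _ _ _
      have hℓ' : ℓ = inv g := by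
        rw [← cancel_mono g, hℓg, IsIso.inv_hom_id]
      apply Subtype.ext
      change f' = f
      have : G' ≫ pullback.snd p q = f' := pullback.lift_snd _ _ _
      rw [← this, ← hℓ, hℓ', Category.assoc]

end Groth.Agent.Lib.TopInvH4
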