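import Mathlib
import Groth.Agent.Lib.GraphExt_helper7

/-!
# Definedness of rational maps descends along universally open morphisms (helper7)
-/

set_option autoImplicit false
universe u
open CategoryTheory CategoryTheory.Limits AlgebraicGeometry TopologicalSpace

namespace Groth.Agent.Lib.GraphExt2H7

open Groth.Agent.Lib.GraphExtH7

theorem extends_iff_of_universallyOpen {X X' Y S : Scheme.{u}} (pX : X ⟶ S) (pY : Y ⟶ S)
    [LocallyOfFiniteType pY] [IsSeparated pY]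
    (hX : ∀ y : X, ∃ W : X.Opens, y ∈ W ∧ IsIntegral (W : Scheme.{u}))
    (hXn : ∀ y : X, IsIntegrallyClosed (X.presheaf.stalk y))
    (U : X.Opens) (hU : Dense (U : Set X)) (h : (U : Scheme.{u}) ⟶ Y) (hh : h ≫ pY = U.ι ≫ pX)
    (f : X' ⟶ X) [UniversallyOpen f] (x' : X') :
    (∃ (V : X.Opens) (v : (V : Scheme.{u}) ⟶ Y), f x' ∈ V ∧ v ≫ pY = V.ι ≫ pX ∧
        X.homOfLE (inf_le_right : U ⊓ V ≤ V) ≫ v = X.homOfLE (inf_le_left : U ⊓ V ≤ U) ≫ h) ↔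
      ∃ (V' : X'.Opens) (v' : (V' : Scheme.{u}) ⟶ Y), x' ∈ V' ∧ v' ≫ pY = V'.ι ≫ f ≫ pX ∧
        X'.homOfLE (inf_le_right : f ⁻¹ᵁ U ⊓ V' ≤ V') ≫ v' =
          X'.homOfLE (inf_le_left : f ⁻¹ᵁ U ⊓ V' ≤ f ⁻¹ᵁ U) ≫ (f ∣_ U) ≫ h := by
  constructor
  · rintro ⟨V, v, hxV, hvS, hvU⟩
    refine ⟨f ⁻¹ᵁ V, (f ∣_ V) ≫ v, hxV, ?_, ?_⟩
    · rw [Category.assoc, hvS, ← Category.assoc, morphismRestrict_ι, Category.assoc]
    · have hle : f ⁻¹ᵁ U ⊓ f ⁻¹ᵁ V ≤ f ⁻¹ᵁ (U ⊓ V) := fun t ht => ⟨ht.1, ht.2⟩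
      have eV : X'.homOfLE (inf_le_right : f ⁻¹ᵁ U ⊓ f ⁻¹ᵁ V ≤ f ⁻¹ᵁ V) ≫ (f ∣_ V) =
          f.resLE (U ⊓ V) (f ⁻¹ᵁ U ⊓ f ⁻¹ᵁ V) hle ≫ X.homOfLE inf_le_right := by
        rw [← cancel_mono V.ι, Category.assoc, morphismRestrict_ι, ← Category.assoc,
          Scheme.homOfLE_ι, Category.assoc, Scheme.homOfLE_ι, Scheme.Hom.resLE_comp_ι]
      have eU : X'.homOfLE (inf_le_left : f ⁻¹ᵁ U ⊓ f ⁻¹ᵁ V ≤ f ⁻¹ᵁ U) ≫ (f ∣_ U) =
          f.resLE (U ⊓ V) (f ⁻¹ᵁ U ⊓ f ⁻¹ᵁ V) hle ≫ X.homOfLE inf_le_left := by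
        rw [← cancel_mono U.ι, Category.assoc, morphismRestrict_ι, ← Category.assoc,
          Scheme.homOfLE_ι, Category.assoc, Scheme.homOfLE_ι, Scheme.Hom.resLE_comp_ι]
      rw [← Category.assoc, eV, ← Category.assoc _ (f ∣_ U), eU, Category.assoc, Category.assoc,
        hvU]
  · rintro ⟨V', v', hx'V', hv'S, hv'U⟩
    -- notation
    obtain ⟨π₁, hπ₁⟩ : ∃ π₁ : pullback pX pY ⟶ X, π₁ = pullback.fst pX pY := ⟨_, rfl⟩
    obtain ⟨π₂, hπ₂⟩ : ∃ π₂ : pullback pX pY ⟶ Y, π₂ = pullback.snd pX pY := ⟨_, rfl⟩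
    have hcond : π₁ ≫ pX = π₂ ≫ pY := by rw [hπ₁, hπ₂]; exact pullback.condition
    haveI : IsSeparated π₁ := by rw [hπ₁]; infer_instance
    have hext : ∀ {T : Scheme.{u}} (a b : T ⟶ pullback pX pY), a ≫ π₁ = b ≫ π₁ →
        a ≫ π₂ = b ≫ π₂ → a = b := by
      intro T a b h1 h2
      rw [hπ₁] at h1
      rw [hπ₂] at h2
      exact pullback.hom_ext h1 h2
    obtain ⟨γ, hγ₁, hγ₂⟩ : ∃ γ : U.toScheme ⟶ pullback pX pY, γ ≫ π₁ = U.ι ∧ γ ≫ π₂ = h ∧
        γ = pullback.lift U.ι h hh.symm := by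
      refine ⟨pullback.lift U.ι h hh.symm, ?_, ?_, rfl⟩
      · rw [hπ₁]; exact pullback.lift_fst _ _ _
      · rw [hπ₂]; exact pullback.lift_snd _ _ _
    obtain ⟨hγ₂, hγdef⟩ := hγ₂
    obtain ⟨fV, hfV⟩ : ∃ fV : V'.toScheme ⟶ X, fV = V'.ι ≫ f := ⟨_, rfl⟩
    haveI : UniversallyOpen fV := by rw [hfV]; infer_instance
    have hfVS : fV ≫ pX = v' ≫ pY := by rw [hfV, Category.assoc, hv'S]
    obtain ⟨φ, hφ₁, hφ₂⟩ : ∃ φ : V'.toScheme ⟶ pullback pX pY, φ ≫ π₁ = fV ∧ φ ≫ π₂ = v' := by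
      refine ⟨pullback.lift fV v' hfVS, ?_, ?_⟩
      · rw [hπ₁]; exact pullback.lift_fst _ _ _
      · rw [hπ₂]; exact pullback.lift_snd _ _ _
    obtain ⟨q₁, hq₁⟩ : ∃ q₁ : pullback fV π₁ ⟶ V'.toScheme, q₁ = pullback.fst fV π₁ := ⟨_, rfl⟩
    obtain ⟨q₂, hq₂⟩ : ∃ q₂ : pullback fV π₁ ⟶ pullback pX pY, q₂ = pullback.snd fV π₁ :=
      ⟨_, rfl⟩
    have hQ : q₁ ≫ fV = q₂ ≫ π₁ := by rw [hq₁, hq₂]; exact pullback.condition
    haveI : IsSeparated q₁ := by rw [hq₁]; infer_instance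
    haveI : UniversallyOpen q₂ := by rw [hq₂]; infer_instance
    have hextQ : ∀ {T : Scheme.{u}} (a b : T ⟶ pullback fV π₁), a ≫ q₁ = b ≫ q₁ →
        a ≫ q₂ = b ≫ q₂ → a = b := by
      intro T a b h1 h2
      rw [hq₁] at h1
      rw [hq₂] at h2
      exact pullback.hom_ext h1 h2
    obtain ⟨ψ, hψ₁, hψ₂⟩ : ∃ ψ : V'.toScheme ⟶ pullback fV π₁, ψ ≫ q₁ = 𝟙 _ ∧ ψ ≫ q₂ = φ := by
      refine ⟨pullback.lift (𝟙 _) φ (by rw [Category.id_comp, hφ₁]), ?_, ?_⟩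
      · rw [hq₁]; exact pullback.lift_fst _ _ _
      · rw [hq₂]; exact pullback.lift_snd _ _ _
    haveI : IsClosedImmersion (ψ ≫ q₁) := by rw [hψ₁]; infer_instance
    haveI : IsClosedImmersion ψ := IsClosedImmersion.of_comp ψ q₁
    -- φ on T' factors through γ
    have hφT : X'.homOfLE (inf_le_right : f ⁻¹ᵁ U ⊓ V' ≤ V') ≫ φ =
        (X'.homOfLE (inf_le_left : f ⁻¹ᵁ U ⊓ V' ≤ f ⁻¹ᵁ U) ≫ (f ∣_ U)) ≫ γ := by
      apply hext
      · rw [Category.assoc, hφ₁, hfV, ← Category.assoc, Scheme.homOfLE_ι, Category.assoc,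
          Category.assoc, hγ₁, morphismRestrict_ι, ← Category.assoc, Scheme.homOfLE_ι]
      · rw [Category.assoc, hφ₂, Category.assoc, Category.assoc, hγ₂, hv'U]
    -- z ∈ closure (range γ)
    have hzC : φ ⟨x', hx'V'⟩ ∈ closure (Set.range γ) := by
      have hd : Dense (fV ⁻¹' (U : Set X)) := hU.preimage fV.isOpenMap
      have h1 : φ ⟨x', hx'V'⟩ ∈ φ '' closure (fV ⁻¹' (U : Set X)) := ⟨_, hd _, rfl⟩
      have h2 := image_closure_subset_closure_image φ.continuous h1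
      refine closure_mono ?_ h2
      rintro _ ⟨t, ht, rfl⟩
      have htU : t.1 ∈ f ⁻¹ᵁ U := by
        have : fV t ∈ U := ht
        rw [hfV, Scheme.Hom.comp_apply] at this
        exact this
      have h3 : X'.homOfLE (inf_le_right : f ⁻¹ᵁ U ⊓ V' ≤ V') ⟨t.1, ⟨htU, t.2⟩⟩ = t :=
        Subtype.ext (Scheme.homOfLE_apply _ _)
      rw [← h3, ← Scheme.Hom.comp_apply, hφT, Scheme.Hom.comp_apply]
      exact ⟨_, rfl⟩
    -- q₂ ⁻¹ (range γ) ⊆ range ψ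
    have hpre : q₂ ⁻¹' Set.range γ ⊆ Set.range ψ := by
      rw [← Scheme.Pullback.range_fst]
      rintro _ ⟨e, rfl⟩
      refine ⟨(pullback.fst q₂ γ ≫ q₁) e, ?_⟩
      rw [← Scheme.Hom.comp_apply]
      suffices hsuff : (pullback.fst q₂ γ ≫ q₁) ≫ ψ = pullback.fst q₂ γ by rw [hsuff]
      apply hextQ
      · rw [Category.assoc, hψ₁, Category.comp_id]
      · rw [Category.assoc, hψ₂]
        -- e₁ ≫ q₁ ≫ φ = e₁ ≫ q₂ = e₂ ≫ γ
        rw [pullback.condition]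
        apply hext
        · rw [Category.assoc, Category.assoc, hφ₁, hQ, ← Category.assoc, pullback.condition,
            Category.assoc]
        · -- second components
          rw [Category.assoc, Category.assoc, hφ₂, Category.assoc, hγ₂]
          -- e₁ ≫ q₁ ≫ v' = e₂ ≫ h
          have hr : Set.range (pullback.fst q₂ γ ≫ q₁ ≫ V'.ι) ⊆
              Set.range (f ⁻¹ᵁ U ⊓ V').ι := by
            rintro _ ⟨w, rfl⟩
            rw [Scheme.Opens.range_ι]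
            refine ⟨?_, ?_⟩
            · change f ((pullback.fst q₂ γ ≫ q₁ ≫ V'.ι) w) ∈ U
              rw [← Scheme.Hom.comp_apply]
              have e1 : (pullback.fst q₂ γ ≫ q₁ ≫ V'.ι) ≫ f = pullback.snd q₂ γ ≫ U.ι := by
                rw [Category.assoc, Category.assoc, ← hfV, hQ, ← Category.assoc,
                  pullback.condition, Category.assoc, hγ₁]
              rw [e1, Scheme.Hom.comp_apply]
              exact (pullback.snd q₂ γ w).2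
            · simp only [Scheme.Hom.comp_apply]
              exact (q₁ (pullback.fst q₂ γ w)).2
          obtain ⟨ρ, hρ⟩ : ∃ ρ : pullback q₂ γ ⟶ (f ⁻¹ᵁ U ⊓ V').toScheme,
              ρ ≫ (f ⁻¹ᵁ U ⊓ V').ι = pullback.fst q₂ γ ≫ q₁ ≫ V'.ι :=
            ⟨IsOpenImmersion.lift _ _ hr, IsOpenImmersion.lift_fac _ _ _⟩
          have hρ1 : ρ ≫ X'.homOfLE (inf_le_right : f ⁻¹ᵁ U ⊓ V' ≤ V') =
              pullback.fst q₂ γ ≫ q₁ := by
            rw [← cancel_mono V'.ι, Category.assoc, Scheme.homOfLE_ι, hρ, Category.assoc]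
          have hρ2 : ρ ≫ X'.homOfLE (inf_le_left : f ⁻¹ᵁ U ⊓ V' ≤ f ⁻¹ᵁ U) ≫ (f ∣_ U) =
              pullback.snd q₂ γ := by
            rw [← cancel_mono U.ι, Category.assoc, Category.assoc, morphismRestrict_ι,
              ← Category.assoc (X'.homOfLE _), Scheme.homOfLE_ι, ← Category.assoc, hρ,
              Category.assoc, Category.assoc, ← hfV, hQ, ← Category.assoc, pullback.condition,
              Category.assoc, hγ₁]
          have hfin : (pullback.fst q₂ γ ≫ q₁) ≫ v' = pullback.snd q₂ γ ≫ h := by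
            rw [← hρ1, Category.assoc, hv'U, ← hρ2]
            simp only [Category.assoc]
          rw [← Category.assoc]
          exact hfin
    have hpreC : q₂ ⁻¹' closure (Set.range γ) ⊆ Set.range ψ := by
      refine (q₂.isOpenMap.preimage_closure_subset_closure_preimage).trans ?_
      exact closure_minimal hpre ψ.isClosedEmbedding.isClosed_range
    -- fibre of the graph closure over x is {z}
    have hfibre : ∀ w : ↥(pullback pX pY), w ∈ closure (Set.range γ) → π₁ w = f x' →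
        w = φ ⟨x', hx'V'⟩ := by
      intro w hwC hwx
      have h1 : fV ⟨x', hx'V'⟩ = π₁ w := by
        rw [hwx, hfV, Scheme.Hom.comp_apply]
        rfl
      obtain ⟨w', hw'1, hw'2⟩ := Scheme.Pullback.exists_preimage_pullback (f := fV) (g := π₁)
        ⟨x', hx'V'⟩ w h1
      rw [← hq₁] at hw'1
      rw [← hq₂] at hw'2
      have h2 : w' ∈ q₂ ⁻¹' closure (Set.range γ) := by
        rw [Set.mem_preimage, hw'2]; exact hwC
      obtain ⟨t, rfl⟩ := hpreC h2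
      have h3 : t = ⟨x', hx'V'⟩ := by
        rw [← hw'1, ← Scheme.Hom.comp_apply, hψ₁]
        rfl
      rw [← hw'2, ← Scheme.Hom.comp_apply, hψ₂, h3]
    have hzx : π₁ (φ ⟨x', hx'V'⟩) = f x' := by
      rw [← Scheme.Hom.comp_apply, hφ₁, hfV, Scheme.Hom.comp_apply]
      rfl
    rw [hγdef] at hzC hfibre
    rw [hπ₁] at hzx hfibre
    exact extends_of_isolated pX pY hX U h hh.symm (f x') (hXn _) (φ ⟨x', hx'V'⟩) hzx hzC
      ⟨⊤, by
        ext w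
        constructor
        · rintro ⟨⟨-, hwC⟩, hwx⟩
          exact hfibre w hwC hwx
        · rintro rfl
          exact ⟨⟨trivial, hzC⟩, hzx⟩⟩

end Groth.Agent.Lib.GraphExt2H7
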