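import Mathlib
import Groth.Agent.Lib.DescOpen_helper7

/-!
# The graph `X ×_Y X ⟶ X ×_S X` of an effective equivalence relation (helper7)
-/

set_option autoImplicit false
set_option backward.isDefEq.respectTransparency false
set_option backward.isDefEq.respectTransparency.types false
universe u
open CategoryTheory CategoryTheory.Limits MonoidalCategory CartesianMonoidalCategory AlgebraicGeometry

namespace Groth.Agent.Lib.GraphImm_helper7

theorem range_snd_of_isPullback {P X Y Z : Scheme.{u}} {a : P ⟶ X} {b : P ⟶ Y} {f : X ⟶ Z}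
    {g : Y ⟶ Z} (sq : IsPullback a b f g) : Set.range b = g ⁻¹' Set.range f := by
  ext z
  constructor
  · rintro ⟨w, rfl⟩
    refine ⟨a w, ?_⟩
    rw [← Scheme.Hom.comp_apply, ← Scheme.Hom.comp_apply, sq.w]
  · rintro ⟨x, hx⟩
    obtain ⟨t, -, ht⟩ := Scheme.Pullback.exists_preimage_pullback x z hx
    refine ⟨sq.isoPullback.inv t, ?_⟩
    rw [← Scheme.Hom.comp_apply, sq.isoPullback_inv_snd]
    exact ht

theorem singleton_fst_mem {Z Y Y' : Scheme.{u}} (q : Z ⟶ Y)
    (hq : Presieve.singleton q ∈ Scheme.fpqcPrecoverage Y) (g : Y' ⟶ Y) :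
    Presieve.singleton (pullback.fst g q) ∈ Scheme.fpqcPrecoverage Y' := by
  rw [← Presieve.ofArrows_pUnit.{0}] at hq ⊢
  exact Precoverage.mem_coverings_of_isPullback (fun _ : PUnit.{1} => q) hq g
    (fun _ => pullback.fst g q) (fun _ => pullback.snd g q)
    (fun _ => IsPullback.of_hasPullback g q)

theorem isOpen_of_singleton {Z Y : Scheme.{u}} (q : Z ⟶ Y)
    (hq : Presieve.singleton q ∈ Scheme.fpqcPrecoverage Y) (W : Set Y) (h : IsOpen (q ⁻¹' W)) :
    IsOpen W := by
  refine Groth.Agent.Lib.DescOpen_helper7.isOpen_of_fpqc hq W ?_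
  intro T g hg
  cases hg
  exact h

theorem isClosed_of_two_covers {YY Z₁ Z₂ XX : Scheme.{u}} (D : Set YY) (q₁ : Z₁ ⟶ YY)
    (q₂ : Z₂ ⟶ Z₁) (hq₁ : Presieve.singleton q₁ ∈ Scheme.fpqcPrecoverage YY)
    (hq₂ : Presieve.singleton q₂ ∈ Scheme.fpqcPrecoverage Z₁)
    (π' : XX ⟶ YY) (ρ' : Z₂ ⟶ XX) (hfac : ρ' ≫ π' = q₂ ≫ q₁) (hcl : IsClosed (π' ⁻¹' D)) :
    IsClosed D := by
  have hz : ∀ z, π' (ρ' z) = q₁ (q₂ z) := by
    intro z; rw [← Scheme.Hom.comp_apply, hfac, Scheme.Hom.comp_apply]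
  rw [← isOpen_compl_iff]
  apply isOpen_of_singleton q₁ hq₁
  apply isOpen_of_singleton q₂ hq₂
  have : q₂ ⁻¹' (q₁ ⁻¹' Dᶜ) = (ρ' ⁻¹' (π' ⁻¹' D))ᶜ := by
    ext z; simp only [Set.mem_preimage, Set.mem_compl_iff, hz]
  rw [this]
  exact (hcl.preimage ρ'.continuous).isOpen_compl

theorem singleton_mem_fpqc {Z Y : Scheme.{u}} (q : Z ⟶ Y) (hs : Surjective q) (hfl : Flat q)
    (hqc : ∀ V : Y.Opens, IsAffineOpen V →
      ∃ W : Z.Opens, IsCompact (W : Set Z) ∧ q.base '' (W : Set Z) = (V : Set Y)) :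
    Presieve.singleton q ∈ Scheme.fpqcPrecoverage Y := by
  have h1 : Presieve.singleton q ∈ Scheme.qcPrecoverage Y := by
    have h0 : (PreZeroHypercover.singleton q : PreZeroHypercover.{0} Y).presieve₀ ∈
        Scheme.qcPrecoverage Y := by
      rw [Scheme.presieve₀_mem_qcPrecoverage_iff]
      refine ⟨fun {V} hV => ?_⟩
      obtain ⟨W, hWc, hWV⟩ := hqc V hV
      refine IsCompactOpenCovered.of_finite (κ := PUnit.{1}) (fun _ => PUnit.unit) (fun _ => W)
        (fun _ => hWc) ?_
      rw [Set.iUnion_const]; exact hWV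
    rwa [PreZeroHypercover.presieve₀_singleton] at h0
  have h2 : Presieve.singleton q ∈ Scheme.precoverage @Flat Y :=
    (Scheme.singleton_mem_precoverage_iff @Flat q).2 ⟨hs.surj, hfl⟩
  exact ⟨h1, h2⟩

theorem main (S : Scheme.{u}) (X Y : Over S) (p : X ⟶ Y) :
    IsImmersion (lift (pullback.fst p p) (pullback.snd p p)).left ∧
    (IsSeparated Y.hom → IsClosedImmersion (lift (pullback.fst p p) (pullback.snd p p)).left) ∧
    ((∃ (Z : Scheme.{u}) (q : Z ⟶ Y.left) (r : Z ⟶ X.left), r ≫ p.left = q ∧ Surjective q ∧ Flat q ∧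
        ∀ V : Y.left.Opens, IsAffineOpen V → ∃ W : Z.Opens, IsCompact (W : Set Z) ∧
          q.base '' (W : Set Z) = (V : Set Y.left)) →
      IsClosedImmersion (lift (pullback.fst p p) (pullback.snd p p)).left → IsSeparated Y.hom) := by
  obtain ⟨v, hvdef⟩ : ∃ v : (pullback p p) ⟶ X ⊗ X,
      v = lift (pullback.fst p p) (pullback.snd p p) := ⟨_, rfl⟩
  rw [← hvdef]
  have hv1 : v.left ≫ pullback.fst X.hom X.hom = (pullback.fst p p).left := by
    subst hvdef
    exact (congrArg (· ≫ pullback.fst X.hom X.hom)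
      (Over.lift_left (pullback.fst p p) (pullback.snd p p))).trans (pullback.lift_fst _ _ _)
  have hv2 : v.left ≫ pullback.snd X.hom X.hom = (pullback.snd p p).left := by
    subst hvdef
    exact (congrArg (· ≫ pullback.snd X.hom X.hom)
      (Over.lift_left (pullback.fst p p) (pullback.snd p p))).trans (pullback.lift_snd _ _ _)
  have hw : p.left ≫ Y.hom = X.hom := Over.w p
  have he₁f : (PreservesPullback.iso (Over.forget S) p p).hom ≫ pullback.fst p.left p.left =
      (pullback.fst p p).left := PreservesPullback.iso_hom_fst (Over.forget S) p p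
  have he₁s : (PreservesPullback.iso (Over.forget S) p p).hom ≫ pullback.snd p.left p.left =
      (pullback.snd p p).left := PreservesPullback.iso_hom_snd (Over.forget S) p p
  obtain ⟨m, hm⟩ : ∃ m : pullback p.left p.left ⟶ pullback (p.left ≫ Y.hom) (p.left ≫ Y.hom),
      m = pullback.map p.left p.left (p.left ≫ Y.hom) (p.left ≫ Y.hom) (𝟙 _) (𝟙 _) Y.hom
        (Category.id_comp _).symm (Category.id_comp _).symm := ⟨_, rfl⟩
  have sqm : IsPullback (pullback.fst p.left p.left ≫ p.left) m (pullback.diagonal Y.hom)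
      (pullback.map (p.left ≫ Y.hom) (p.left ≫ Y.hom) Y.hom Y.hom p.left p.left (𝟙 _)
        (Category.comp_id _) (Category.comp_id _)) := by
    rw [hm]; exact pullback_map_diagonal_isPullback p.left p.left Y.hom
  have hmf : m ≫ pullback.fst _ _ = pullback.fst p.left p.left := by
    rw [hm, pullback.lift_fst, Category.comp_id]
  have hms : m ≫ pullback.snd _ _ = pullback.snd p.left p.left := by
    rw [hm, pullback.lift_snd, Category.comp_id]
  have he₂f : (pullback.congrHom hw hw).hom ≫ pullback.fst X.hom X.hom = pullback.fst _ _ := by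
    rw [pullback.congrHom_hom, pullback.lift_fst, Category.comp_id]
  have he₂s : (pullback.congrHom hw hw).hom ≫ pullback.snd X.hom X.hom = pullback.snd _ _ := by
    rw [pullback.congrHom_hom, pullback.lift_snd, Category.comp_id]
  have hfac : v.left = (PreservesPullback.iso (Over.forget S) p p).hom ≫ m ≫
      (pullback.congrHom hw hw).hom := by
    refine Over.tensorObj_ext _ _ ?_ ?_
    · rw [hv1, Category.assoc, Category.assoc, he₂f, hmf, he₁f]
    · rw [hv2, Category.assoc, Category.assoc, he₂s, hms, he₁s]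
  refine ⟨?_, ?_, ?_⟩
  · haveI : IsImmersion m := MorphismProperty.of_isPullback (P := @IsImmersion) sqm inferInstance
    rw [hfac]; infer_instance
  · intro hsep
    haveI := hsep
    haveI : IsClosedImmersion m :=
      MorphismProperty.of_isPullback (P := @IsClosedImmersion) sqm inferInstance
    rw [hfac]; infer_instance
  · rintro ⟨Z, q, r, hrq, hs, hfl, hqc⟩ hcl
    haveI := hcl
    have h3 : IsClosedImmersion ((PreservesPullback.iso (Over.forget S) p p).hom ≫ m ≫
        (pullback.congrHom hw hw).hom) := by rw [← hfac]; exact hcl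
    haveI : IsClosedImmersion m :=
      (MorphismProperty.cancel_right_of_respectsIso @IsClosedImmersion m
        (pullback.congrHom hw hw).hom).1
        ((MorphismProperty.cancel_left_of_respectsIso @IsClosedImmersion _ _).1 h3)
    have hclosed : IsClosed (Set.range m) := m.isClosedEmbedding.isClosed_range
    have hrange := range_snd_of_isPullback sqm
    have hq := singleton_mem_fpqc q hs hfl hqc
    obtain ⟨Z₁, q₁, a₁, c₁, hq₁⟩ : ∃ (Z₁ : Scheme.{u}) (q₁ : Z₁ ⟶ pullback Y.hom Y.hom)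
        (a₁ : Z₁ ⟶ Z), q₁ ≫ pullback.fst Y.hom Y.hom = a₁ ≫ q ∧
          Presieve.singleton q₁ ∈ Scheme.fpqcPrecoverage (pullback Y.hom Y.hom) :=
      ⟨_, pullback.fst (pullback.fst Y.hom Y.hom) q, pullback.snd _ _, pullback.condition,
        singleton_fst_mem q hq _⟩
    obtain ⟨Z₂, q₂, b₂, c₂, hq₂⟩ : ∃ (Z₂ : Scheme.{u}) (q₂ : Z₂ ⟶ Z₁) (b₂ : Z₂ ⟶ Z),
        q₂ ≫ q₁ ≫ pullback.snd Y.hom Y.hom = b₂ ≫ q ∧
          Presieve.singleton q₂ ∈ Scheme.fpqcPrecoverage Z₁ :=
      ⟨_, pullback.fst (q₁ ≫ pullback.snd Y.hom Y.hom) q, pullback.snd _ _, pullback.condition,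
        singleton_fst_mem q hq _⟩
    have e1 : (q₂ ≫ a₁ ≫ r) ≫ p.left = q₂ ≫ q₁ ≫ pullback.fst Y.hom Y.hom := by
      rw [Category.assoc, Category.assoc, hrq, ← c₁]
    have e2 : (b₂ ≫ r) ≫ p.left = q₂ ≫ q₁ ≫ pullback.snd Y.hom Y.hom := by
      rw [Category.assoc, hrq, ← c₂]
    have hρ : (q₂ ≫ a₁ ≫ r) ≫ (p.left ≫ Y.hom) = (b₂ ≫ r) ≫ (p.left ≫ Y.hom) := by
      rw [← Category.assoc, ← Category.assoc (b₂ ≫ r), e1, e2]
      simp only [Category.assoc, pullback.condition]
    have hfac2 : pullback.lift (q₂ ≫ a₁ ≫ r) (b₂ ≫ r) hρ ≫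
        pullback.map (p.left ≫ Y.hom) (p.left ≫ Y.hom) Y.hom Y.hom p.left p.left (𝟙 _)
          (Category.comp_id _) (Category.comp_id _) = q₂ ≫ q₁ := by
      apply pullback.hom_ext
      · rw [Category.assoc, pullback.lift_fst, pullback.lift_fst_assoc, e1, Category.assoc]
      · rw [Category.assoc, pullback.lift_snd, pullback.lift_snd_assoc, e2, Category.assoc]
    have hD : IsClosed (Set.range (pullback.diagonal Y.hom)) := by
      refine isClosed_of_two_covers _ q₁ q₂ hq₁ hq₂ _ _ hfac2 ?_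
      rw [← hrange]; exact hclosed
    haveI : IsPreimmersion (pullback.diagonal Y.hom) := inferInstance
    exact ⟨IsClosedImmersion.of_isPreimmersion _ hD⟩

end Groth.Agent.Lib.GraphImm_helper7
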