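import Mathlib

/-!
# Transfer of Grothendieck / locally noetherian properties along a faithful exact left adjoint
(helper9)

`F : A ⥤ B` faithful exact with right adjoint `G` commuting with filtered colimits, `B` a
Grothendieck abelian category.  Then `A` is a Grothendieck abelian category.
-/

open CategoryTheory CategoryTheory.Limits

namespace Groth.Agent.Lib.GrothTransfer

universe w u₁ u₂

variable {A : Type u₁} [Category.{w} A] [Abelian A]
  {B : Type u₂} [Category.{w} B] [Abelian B]
  (F : A ⥤ B) (G : B ⥤ A) (adj : F ⊣ G) [F.Additive] [F.Faithful]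
  [PreservesFiniteLimits F] [PreservesFiniteColimits F]

/-! ### AB5 -/

include adj in
lemma ab5 [HasColimitsOfSize.{w, w} A] [HasColimitsOfSize.{w, w} B] [AB5OfSize.{w, w} B] :
    AB5OfSize.{w, w} A := by
  haveI : F.IsLeftAdjoint := adj.isLeftAdjoint
  haveI : ReflectsFiniteLimits F := ⟨fun J _ _ => reflectsLimitsOfShape_of_reflectsIsomorphisms⟩
  constructor
  intro J _ _
  exact HasExactColimitsOfShape.domain_of_functor J F

/-! ### Subobjects -/

/-- `F` reflects the order on subobjects -/
lemma le_of_map_le {X : A} (P Q : Subobject X)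
    (h : Subobject.mk (F.map P.arrow) ≤ Subobject.mk (F.map Q.arrow)) : P ≤ Q := by
  have h1 : P.arrow ≫ cokernel.π Q.arrow = 0 := by
    apply F.map_injective
    rw [F.map_comp, Functor.map_zero, ← Subobject.ofMkLEMk_comp h, Category.assoc, ← F.map_comp,
      cokernel.condition, Functor.map_zero, comp_zero]
  exact Subobject.le_of_comm (Abelian.monoLift Q.arrow P.arrow h1) (Abelian.monoLift_comp _ _ _)

lemma map_injective {X : A} :
    Function.Injective (fun P : Subobject X => Subobject.mk (F.map P.arrow)) := by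
  intro P Q h
  exact le_antisymm (le_of_map_le F P Q (le_of_eq h)) (le_of_map_le F Q P (le_of_eq h.symm))

include F in
lemma wellPowered [WellPowered.{w} B] : WellPowered.{w} A where
  subobject_small X := small_of_injective (map_injective F (X := X))

/-! ### Finitely generated subobjects -/

section images

variable {ι : Type w} (s : ι → B)
  (hsep : ∀ ⦃X Y : B⦄ (f g : X ⟶ Y), (∀ (i : ι) (h : s i ⟶ X), h ≫ f = h ≫ g) → f = g)
  (Y : B)

/-- the index category: finite sets of morphisms from the family to `Y` -/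
abbrev JJ : Type w := Finset (Σ i, s i ⟶ Y)

variable [HasColimitsOfSize.{w, w} B]

/-- the finite coproduct attached to a finite set of morphisms to `Y` -/
noncomputable abbrev cS (S : JJ s Y) : B := ∐ (fun x : S => s x.1.1)

/-- the canonical morphism `cS S ⟶ Y` -/
noncomputable abbrev σS (S : JJ s Y) : cS s Y S ⟶ Y := Sigma.desc (fun x : S => x.1.2)

/-- the subobject of `Y` generated by a finite set of morphisms -/
noncomputable def DS (S : JJ s Y) : Subobject Y := imageSubobject (σS s Y S)

omit [HasColimitsOfSize.{w, w} B] in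
lemma imageSubobject_le_of_fac {X X' Y : B} {f : X ⟶ Y} {g : X' ⟶ Y} (k : X ⟶ X')
    (h : k ≫ g = f) : imageSubobject f ≤ imageSubobject g := by
  subst h
  exact imageSubobject_comp_le _ _

/-- the epimorphism `cS S ⟶ D S` -/
noncomputable def ρS (S : JJ s Y) : cS s Y S ⟶ (DS s Y S : B) :=
  factorThruImageSubobject (σS s Y S)

instance (S : JJ s Y) : Epi (ρS s Y S) :=
  inferInstanceAs (Epi (factorThruImageSubobject (σS s Y S)))

lemma ρS_arrow (S : JJ s Y) : ρS s Y S ≫ (DS s Y S).arrow = σS s Y S :=
  imageSubobject_arrow_comp _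

lemma DS_mono : Monotone (DS s Y) := by
  intro S S' h
  exact imageSubobject_le_of_fac
    (Sigma.desc (fun x : S => Sigma.ι (fun x' : S' => s x'.1.1) ⟨x.1, h x.2⟩)) (by
      apply Sigma.hom_ext
      intro x
      simp)

lemma imageSubobject_le_DS (i : ι) (h : s i ⟶ Y) (S : JJ s Y) (hS : (⟨i, h⟩ : Σ i, s i ⟶ Y) ∈ S) :
    imageSubobject h ≤ DS s Y S :=
  imageSubobject_le_of_fac (Sigma.ι (fun x : S => s x.1.1) ⟨⟨i, h⟩, hS⟩) (by simp)

lemma factors_of_le_DS (m : Subobject Y) (hm : ∀ S, DS s Y S ≤ m) (i : ι) (h : s i ⟶ Y) :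
    m.Factors h := by
  classical
  have h1 : imageSubobject h ≤ m :=
    (imageSubobject_le_DS s Y i h {⟨i, h⟩} (Finset.mem_singleton_self _)).trans (hm _)
  have h2 : (imageSubobject h).Factors h := by
    have := Subobject.factors_comp_arrow (factorThruImageSubobject h)
    rwa [imageSubobject_arrow_comp] at this
  exact Subobject.factors_of_le h h1 h2

include hsep in
/-- a subobject containing all finitely generated subobjects is everything -/
lemma eq_top_of_le_DS (m : Subobject Y) (hm : ∀ S, DS s Y S ≤ m) : m = ⊤ := by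
  have h0 : cokernel.π m.arrow = 0 := by
    apply hsep
    intro i h
    rw [comp_zero, ← Subobject.factorThru_arrow m h (factors_of_le_DS s Y m hm i h),
      Category.assoc, cokernel.condition, comp_zero]
  haveI : Epi m.arrow := Abelian.epi_of_cokernel_π_eq_zero _ h0
  haveI : IsIso m.arrow := isIso_of_mono_of_epi _
  exact Subobject.eq_top_of_isIso_arrow m

end images

/-! ### `Y` is the filtered colimit of its finitely generated subobjects -/

section colimitB

variable {ι : Type w} (s : ι → B)
  (hsep : ∀ ⦃X Y : B⦄ (f g : X ⟶ Y), (∀ (i : ι) (h : s i ⟶ X), h ≫ f = h ≫ g) → f = g)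
  (Y : B) [HasColimitsOfSize.{w, w} B]

open scoped Classical in
instance : IsFiltered (JJ s Y) := inferInstance

/-- the diagram of finitely generated subobjects, as a functor to `MonoOver Y` -/
noncomputable def Fm : JJ s Y ⥤ MonoOver Y := (DS_mono s Y).functor ⋙ Subobject.representative

/-- the diagram of finitely generated subobjects -/
noncomputable abbrev Dfun : JJ s Y ⥤ B := (Fm s Y ⋙ MonoOver.forget Y) ⋙ Over.forget Y

lemma Dfun_obj (S : JJ s Y) : (Dfun s Y).obj S = (DS s Y S : B) := rfl

/-- the cocone over `Fm` with point the identity of `Y` -/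
noncomputable def cFm : Cocone (Fm s Y ⋙ MonoOver.forget Y) where
  pt := Over.mk (𝟙 Y)
  ι :=
    { app := fun S => Over.homMk ((Fm s Y).obj S).obj.hom (by simp)
      naturality := fun S S' f => by
        ext
        simp }

/-- the cocone of finitely generated subobjects with point `Y` -/
noncomputable abbrev cD : Cocone (Dfun s Y) := (Over.forget Y).mapCocone (cFm s Y)

lemma cD_ι_app (S : JJ s Y) : (cD s Y).ι.app S = (DS s Y S).arrow := rfl

variable [IsGrothendieckAbelian.{w} B]

include hsep in
/-- `Y` is the colimit of its finitely generated subobjects -/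
noncomputable def isColimitCD : IsColimit (cD s Y) := by
  haveI : Mono (cFm s Y).pt.hom := inferInstanceAs (Mono (𝟙 Y))
  refine IsGrothendieckAbelian.isColimitMapCoconeOfSubobjectMkEqISup (Fm s Y) (cFm s Y) ?_
  have h1 : Subobject.mk (cFm s Y).pt.hom = ⊤ := Subobject.mk_eq_top_of_isIso (𝟙 Y)
  rw [h1]
  symm
  apply eq_top_of_le_DS s hsep Y
  intro S
  refine le_trans (le_of_eq ?_) (le_iSup _ S)
  exact (Subobject.mk_arrow (DS s Y S)).symm

end colimitB

/-! ### The core: `X` is covered by subobjects of `G` of finitely generated objects -/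

section core

variable {ι : Type w} (s : ι → B)
  (hsep : ∀ ⦃X Y : B⦄ (f g : X ⟶ Y), (∀ (i : ι) (h : s i ⟶ X), h ≫ f = h ≫ g) → f = g)
  [HasColimitsOfSize.{w, w} A] [HasColimitsOfSize.{w, w} B] [IsGrothendieckAbelian.{w} B]
  [AB5OfSize.{w, w} A] [PreservesFilteredColimitsOfSize.{w, w} G]
  (X : A)

/-- the index category -/
abbrev JX : Type w := JJ s (F.obj X)

/-- the diagram `S ↦ G (D S)` -/
noncomputable abbrev GD : JX F s X ⥤ A := Dfun s (F.obj X) ⋙ G

/-- the cocone `G (D S) ⟶ G F X` as a natural transformation -/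
noncomputable def β : GD F G s X ⟶ (Functor.const _).obj (G.obj (F.obj X)) :=
  (G.mapCocone (cD s (F.obj X))).ι

lemma β_app (S : JX F s X) : (β F G s X).app S = G.map (DS s (F.obj X) S).arrow := rfl

/-- the quotients `G F X / G (D S)` -/
noncomputable abbrev NN : JX F s X ⥤ A := cokernel (β F G s X)

/-- the projection to `NN` -/
noncomputable abbrev πN : (Functor.const _).obj (G.obj (F.obj X)) ⟶ NN F G s X :=
  cokernel.π (β F G s X)

/-- the map `X ⟶ G F X ⟶ G F X / G (D S)` -/
noncomputable def Ψ : (Functor.const (JX F s X)).obj X ⟶ NN F G s X :=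
  (Functor.const _).map (adj.unit.app X) ≫ πN F G s X

/-- the subobjects `X ∩ G (D S)` of `X` -/
noncomputable abbrev Pf : JX F s X ⥤ A := kernel (Ψ F G adj s X)

/-- the inclusions `Pf S ⟶ X` -/
noncomputable abbrev κ : Pf F G adj s X ⟶ (Functor.const _).obj X := kernel.ι (Ψ F G adj s X)

attribute [local instance] IsFiltered.isConnected

include hsep in
lemma isZero_colimit_NN : IsZero (colimit (NN F G s X)) := by
  let hc₁ : IsColimit (G.mapCocone (cD s (F.obj X))) :=
    isColimitOfPreserves G (isColimitCD s hsep (F.obj X))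
  let c₂ := constCocone (JX F s X) (G.obj (F.obj X))
  let hc₂ : IsColimit c₂ := isColimitConstCocone _ _
  let g : G.obj (F.obj X) ⟶ colimit (NN F G s X) := hc₂.map (colimit.cocone _) (πN F G s X)
  have hg : ∀ j, c₂.ι.app j ≫ g = (πN F G s X).app j ≫ (colimit.cocone (NN F G s X)).ι.app j :=
    fun j => hc₂.ι_map _ _ j
  haveI : Epi g := colim.map_epi' (πN F G s X) c₂ (colimit.isColimit _) g hg
  have hg0 : g = 0 := by
    apply hc₁.hom_ext
    intro j
    have h3 : g = (πN F G s X).app j ≫ colimit.ι (NN F G s X) j :=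
      (Category.id_comp g).symm.trans (hg j)
    have h4 : (β F G s X).app j ≫ (πN F G s X).app j = 0 := by
      rw [← NatTrans.comp_app, cokernel.condition]
      rfl
    change (β F G s X).app j ≫ g = (β F G s X).app j ≫ 0
    rw [comp_zero, h3, reassoc_of% h4, zero_comp]
  exact IsZero.of_epi_eq_zero g hg0

include hsep in
/-- the subobjects `Pf S` cover `X` -/
lemma eq_zero_of_κ_comp {Z : A} (φ : X ⟶ Z) (h : ∀ S, (κ F G adj s X).app S ≫ φ = 0) :
    φ = 0 := by
  let Sc : ShortComplex (JX F s X ⥤ A) :=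
    ShortComplex.mk (κ F G adj s X) (Ψ F G adj s X) (kernel.condition _)
  have hSc : Sc.Exact := ShortComplex.exact_kernel _
  let c₂ := constCocone (JX F s X) X
  let hc₂ : IsColimit c₂ := isColimitConstCocone _ _
  let f' : colimit (Pf F G adj s X) ⟶ X := (colimit.isColimit _).map c₂ (κ F G adj s X)
  let g' : X ⟶ colimit (NN F G s X) := hc₂.map (colimit.cocone _) (Ψ F G adj s X)
  have hf : ∀ j, (colimit.cocone (Pf F G adj s X)).ι.app j ≫ f' = Sc.f.app j ≫ c₂.ι.app j :=
    fun j => (colimit.isColimit _).ι_map _ _ j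
  have hg : ∀ j, c₂.ι.app j ≫ g' = Sc.g.app j ≫ (colimit.cocone (NN F G s X)).ι.app j :=
    fun j => hc₂.ι_map _ _ j
  have hex := colim.exact_mapShortComplex hSc (colimit.isColimit _) hc₂ (colimit.isColimit _)
    f' g' hf hg
  have hg0 : g' = 0 := (isZero_colimit_NN F G s hsep X).eq_of_tgt _ _
  haveI : Epi f' := hex.epi_f hg0
  rw [← cancel_epi f', comp_zero]
  apply colimit.hom_ext
  intro j
  have h5 : colimit.ι (Pf F G adj s X) j ≫ f' = (κ F G adj s X).app j :=
    (hf j).trans (Category.comp_id _)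
  rw [comp_zero, reassoc_of% h5, h j]

end core

/-! ### The subobjects `Pf S` embed into `G (D S)` -/

section lift

variable {ι : Type w} (s : ι → B)
  [HasColimitsOfSize.{w, w} A] [HasColimitsOfSize.{w, w} B] [IsGrothendieckAbelian.{w} B]
  [AB5OfSize.{w, w} A] [PreservesFilteredColimitsOfSize.{w, w} G]
  (X : A)

include adj in
lemma mono_β_app (S : JX F s X) : Mono ((β F G s X).app S) := by
  haveI : G.PreservesMonomorphisms := Functor.preservesMonomorphisms_of_adjunction adj
  rw [β_app]
  exact G.map_mono _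

include adj in
lemma mono_β : Mono (β F G s X) :=
  haveI := mono_β_app F G adj s X
  NatTrans.mono_of_mono_app _

/-- the natural transformation `Pf S ⟶ G (D S)` -/
noncomputable def Λ : Pf F G adj s X ⟶ GD F G s X :=
  haveI := mono_β F G adj s X
  Abelian.monoLift (β F G s X) (κ F G adj s X ≫ (Functor.const _).map (adj.unit.app X)) (by
    rw [Category.assoc]
    exact kernel.condition (Ψ F G adj s X))

lemma Λ_β : Λ F G adj s X ≫ β F G s X =
    κ F G adj s X ≫ (Functor.const _).map (adj.unit.app X) :=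
  haveI := mono_β F G adj s X
  Abelian.monoLift_comp _ _ _

/-- the inclusion `Pf S ⟶ X` -/
noncomputable def kap (S : JX F s X) : (Pf F G adj s X).obj S ⟶ X := (κ F G adj s X).app S

/-- the embedding `Pf S ⟶ G (D S)` -/
noncomputable def lam (S : JX F s X) : (Pf F G adj s X).obj S ⟶ G.obj (DS s (F.obj X) S : B) :=
  (Λ F G adj s X).app S

lemma lam_arrow (S : JX F s X) : lam F G adj s X S ≫ G.map (DS s (F.obj X) S).arrow =
    kap F G adj s X S ≫ adj.unit.app X :=
  congr_app (Λ_β F G adj s X) S

instance mono_kap (S : JX F s X) : Mono (kap F G adj s X S) :=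
  inferInstanceAs (Mono ((κ F G adj s X).app S))

instance mono_lam (S : JX F s X) : Mono (lam F G adj s X S) := by
  haveI : Mono (lam F G adj s X S ≫ G.map (DS s (F.obj X) S).arrow) := by
    rw [lam_arrow]
    infer_instance
  exact mono_of_mono _ (G.map (DS s (F.obj X) S).arrow)

/-- the adjoint map `F (Pf S) ⟶ D S` -/
noncomputable def μ (S : JX F s X) : F.obj ((Pf F G adj s X).obj S) ⟶ (DS s (F.obj X) S : B) :=
  (adj.homEquiv _ _).symm (lam F G adj s X S)

lemma μ_arrow (S : JX F s X) :
    μ F G adj s X S ≫ (DS s (F.obj X) S).arrow = F.map (kap F G adj s X S) := by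
  unfold μ
  rw [← Adjunction.homEquiv_naturality_right_symm, lam_arrow, Equiv.symm_apply_eq,
    Adjunction.homEquiv_unit]
  exact (adj.unit_naturality _).symm

instance mono_μ (S : JX F s X) : Mono (μ F G adj s X S) := by
  haveI : Mono (μ F G adj s X S ≫ (DS s (F.obj X) S).arrow) := by
    rw [μ_arrow]
    infer_instance
  exact mono_of_mono _ (DS s (F.obj X) S).arrow

end lift

/-! ### A small family containing all the `Pf S` -/

section family

omit [Abelian A] in
/-- a cokernel of the kernel subobject of an epimorphism is the target -/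
lemma isIso_cokernel_desc_kernelSubobject {c Z : B} (ρ : c ⟶ Z) [Epi ρ] :
    IsIso (cokernel.desc (kernelSubobject ρ).arrow ρ (kernelSubobject_arrow_comp ρ)) := by
  let Sc : ShortComplex B := ShortComplex.mk (kernelSubobject ρ).arrow ρ
    (kernelSubobject_arrow_comp ρ)
  have hSc : Sc.Exact :=
    ShortComplex.exact_of_iso
      (ShortComplex.isoMk (kernelSubobjectIso ρ).symm (Iso.refl _) (Iso.refl _)
        (by simp [Sc]) (by simp [Sc]) :
        ShortComplex.mk (kernel.ι ρ) ρ (kernel.condition ρ) ≅ Sc)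
      (ShortComplex.exact_kernel ρ)
  haveI : Mono (cokernel.desc (kernelSubobject ρ).arrow ρ (kernelSubobject_arrow_comp ρ)) :=
    Sc.exact_iff_mono_cokernel_desc.1 hSc
  haveI : Epi (cokernel.desc (kernelSubobject ρ).arrow ρ (kernelSubobject_arrow_comp ρ)) :=
    epi_of_epi_fac (cokernel.π_desc _ _ _)
  exact isIso_of_mono_of_epi _

variable {ι : Type w} (s : ι → B)
  [HasColimitsOfSize.{w, w} A] [HasColimitsOfSize.{w, w} B]

/-- finite coproducts of members of the family -/
noncomputable abbrev cN (n : ℕ) (i : Fin n → ι) : B := ∐ (fun j => s (i j))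

/-- a quotient `b` of a finite coproduct together with a subobject of `G b` -/
abbrev Pair (n : ℕ) (i : Fin n → ι) : Type (max u₁ u₂ w) :=
  Σ q : Subobject (cN s n i), Subobject (G.obj (cokernel q.arrow))

variable [WellPowered.{w} A] [WellPowered.{w} B]

instance small_pair (n : ℕ) (i : Fin n → ι) : Small.{w} (Pair G s n i) := by
  haveI : Small.{w} (Subobject (cN s n i)) := WellPowered.subobject_small _
  haveI : ∀ q : Subobject (cN s n i), Small.{w} (Subobject (G.obj (cokernel q.arrow))) :=
    fun q => WellPowered.subobject_small _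
  exact small_sigma _

/-- the small index type -/
abbrev Idx : Type w := Σ (n : ℕ) (i : Fin n → ι), Shrink.{w} (Pair G s n i)

/-- the object of `A` attached to a pair -/
noncomputable def objOfPair {n : ℕ} {i : Fin n → ι} (p : Pair G s n i) : A := (p.2 : A)

/-- the small family -/
noncomputable def tfam (k : Idx G s) : A :=
  objOfPair G s ((equivShrink (Pair G s k.1 k.2.1)).symm k.2.2)

lemma exists_tfam_iso (n : ℕ) (i : Fin n → ι) (q : Subobject (cN s n i))
    (r : Subobject (G.obj (cokernel q.arrow))) :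
    ∃ k : Idx G s, Nonempty (tfam G s k ≅ (r : A)) := by
  refine ⟨⟨n, i, equivShrink _ ⟨q, r⟩⟩, ⟨eqToIso ?_⟩⟩
  unfold tfam
  dsimp only
  rw [Equiv.symm_apply_apply]
  rfl

variable [IsGrothendieckAbelian.{w} B]
  [AB5OfSize.{w, w} A] [PreservesFilteredColimitsOfSize.{w, w} G]
  (X : A)

lemma exists_tfam_iso_Pf (S : JX F s X) :
    ∃ k : Idx G s, Nonempty (tfam G s k ≅ (Pf F G adj s X).obj S) := by
  classical
  let e : S ≃ Fin S.card := S.equivFin
  let i : Fin S.card → ι := fun j => (e.symm j).1.1
  let R : cN s S.card i ≅ cS s (F.obj X) S := Sigma.reindex e.symm (fun x : S => s x.1.1)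
  let ρ : cN s S.card i ⟶ (DS s (F.obj X) S : B) := R.hom ≫ ρS s (F.obj X) S
  haveI : Epi ρ := epi_comp _ _
  haveI := isIso_cokernel_desc_kernelSubobject ρ
  let isoZ : cokernel (kernelSubobject ρ).arrow ≅ (DS s (F.obj X) S : B) :=
    asIso (cokernel.desc (kernelSubobject ρ).arrow ρ (kernelSubobject_arrow_comp ρ))
  haveI : Mono (lam F G adj s X S ≫ G.map isoZ.inv) := mono_comp _ _
  obtain ⟨k, ⟨ek⟩⟩ := exists_tfam_iso G s S.card i (kernelSubobject ρ)
    (Subobject.mk (lam F G adj s X S ≫ G.map isoZ.inv))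
  exact ⟨k, ⟨ek ≪≫ Subobject.underlyingIso _⟩⟩

end family

/-! ### `A` is a Grothendieck abelian category -/

section main

variable {ι : Type w} (s : ι → B)
  (hsep : ∀ ⦃X Y : B⦄ (f g : X ⟶ Y), (∀ (i : ι) (h : s i ⟶ X), h ≫ f = h ≫ g) → f = g)
  [HasColimitsOfSize.{w, w} A] [HasColimitsOfSize.{w, w} B] [IsGrothendieckAbelian.{w} B]
  [AB5OfSize.{w, w} A] [PreservesFilteredColimitsOfSize.{w, w} G]
  [WellPowered.{w} A]

include F adj hsep in
/-- the family `tfam` is separating -/
lemma tfam_separating ⦃X Z : A⦄ (f g : X ⟶ Z)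
    (h : ∀ (k : Idx G s) (h : tfam G s k ⟶ X), h ≫ f = h ≫ g) : f = g := by
  rw [← sub_eq_zero]
  apply eq_zero_of_κ_comp F G adj s hsep X
  intro S
  obtain ⟨k, ⟨e⟩⟩ := exists_tfam_iso_Pf F G adj s X S
  have h1 := h k (e.hom ≫ (κ F G adj s X).app S)
  rw [Preadditive.comp_sub, sub_eq_zero, ← cancel_epi e.hom]
  simpa using h1

end main

include adj in
theorem isGrothendieckAbelian [HasColimitsOfSize.{w, w} A] [IsGrothendieckAbelian.{w} B]
    [PreservesFilteredColimitsOfSize.{w, w} G] : IsGrothendieckAbelian.{w} A := by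
  haveI : AB5OfSize.{w, w} A := ab5 F G adj
  haveI : WellPowered.{w} A := wellPowered F
  obtain ⟨U, hU⟩ := HasSeparator.hasSeparator (C := B)
  let s : PUnit.{w + 1} → B := fun _ => U
  have hsep : ∀ ⦃X Y : B⦄ (f g : X ⟶ Y),
      (∀ (i : PUnit.{w + 1}) (h : s i ⟶ X), h ≫ f = h ≫ g) → f = g :=
    fun X Y f g h => (isSeparator_def U).1 hU f g (fun h' => h PUnit.unit h')
  exact
    { hasSeparator := ⟨∐ (tfam G s), (isSeparator_sigma _).2 (fun X Z f g h =>
        tfam_separating F G adj s hsep f g (fun k hk => h _ (ObjectProperty.ofObj_apply _ k) hk))⟩ }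

end Groth.Agent.Lib.GrothTransfer
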