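import Mathlib
import Groth.Agent.Lib.GrpLocClosed_helper4

set_option autoImplicit false
set_option linter.style.haveILetI false
set_option linter.unusedSectionVars false

universe u

open CategoryTheory CategoryTheory.Limits AlgebraicGeometry MonoidalCategory
  CartesianMonoidalCategory MonObj

open scoped CategoryTheory.Obj

namespace Groth.Agent.Lib.GrpArtImmH4

theorem subsingleton_spec (A : Type u) [CommRing A] [IsArtinianRing A] [IsLocalRing A] :
    Subsingleton (PrimeSpectrum A) :=
  ⟨fun p q => PrimeSpectrum.ext
    ((IsLocalRing.eq_maximalIdeal (IsArtinianRing.isMaximal_of_isPrime p.asIdeal)).trans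
      (IsLocalRing.eq_maximalIdeal (IsArtinianRing.isMaximal_of_isPrime q.asIdeal)).symm)⟩

set_option maxHeartbeats 1600000 in
theorem main5384 (A : Type u) [CommRing A] [IsArtinianRing A] [IsLocalRing A]
    (G H : Over (Spec (CommRingCat.of A))) [GrpObj G] [GrpObj H]
    (u : H ⟶ G) [IsMonHom u] [IsImmersion u.left] : IsClosedImmersion u.left := by
  haveI hsubA : Subsingleton ↥(Spec (CommRingCat.of A)) := subsingleton_spec A
  haveI hsubk : Subsingleton ↥(Spec (CommRingCat.of (IsLocalRing.ResidueField A))) :=
    (inferInstance : Subsingleton (PrimeSpectrum (IsLocalRing.ResidueField A)))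
  obtain ⟨j, hj⟩ : ∃ j : Spec (CommRingCat.of (IsLocalRing.ResidueField A)) ⟶
      Spec (CommRingCat.of A), j = Spec.map (CommRingCat.ofHom (IsLocalRing.residue A)) :=
    ⟨_, rfl⟩
  haveI hjcl : IsClosedImmersion j := by
    rw [hj]
    exact IsClosedImmersion.spec_of_surjective _ IsLocalRing.residue_surjective
  haveI hjs : Surjective j :=
    ⟨fun x => ⟨IsLocalRing.closedPoint (IsLocalRing.ResidueField A), Subsingleton.elim _ _⟩⟩
  haveI hπG_cl : IsClosedImmersion (pullback.fst G.hom j) :=
    MorphismProperty.pullback_fst (P := @IsClosedImmersion) G.hom j hjcl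
  haveI hπG_s : Surjective (pullback.fst G.hom j) :=
    MorphismProperty.pullback_fst (P := @Surjective) G.hom j hjs
  haveI hπH_s : Surjective (pullback.fst H.hom j) :=
    MorphismProperty.pullback_fst (P := @Surjective) H.hom j hjs
  let uk : (Over.pullback j).obj H ⟶ (Over.pullback j).obj G := (Over.pullback j).map u
  have hsq : uk.left ≫ pullback.fst G.hom j = pullback.fst H.hom j ≫ u.left :=
    pullback.lift_fst _ _ _
  have hrange : Set.range uk.left = (pullback.fst G.hom j) ⁻¹' Set.range u.left := by
    ext x
    constructor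
    · rintro ⟨h', rfl⟩
      refine ⟨pullback.fst H.hom j h', ?_⟩
      rw [← Scheme.Hom.comp_apply, ← hsq, Scheme.Hom.comp_apply]
    · rintro ⟨h, hh⟩
      obtain ⟨h', rfl⟩ := (pullback.fst H.hom j).surjective h
      refine ⟨h', ?_⟩
      apply (pullback.fst G.hom j).isClosedEmbedding.injective
      rw [← Scheme.Hom.comp_apply, hsq, Scheme.Hom.comp_apply]
      exact hh
  have hlc : IsLocallyClosed (Set.range uk.left) := by
    rw [hrange]
    exact (u.left.isLocallyClosed_range).preimage (pullback.fst G.hom j).continuous
  have hclk : IsClosed (Set.range uk.left) :=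
    GrpLocClosedH4.isClosed_range_of_isLocallyClosed ((Over.pullback j).obj H)
      ((Over.pullback j).obj G) uk hlc
  have hcl : IsClosed (Set.range u.left) := by
    have himg : Set.range u.left = (pullback.fst G.hom j) '' Set.range uk.left := by
      rw [hrange, Set.image_preimage_eq _ (pullback.fst G.hom j).surjective]
    rw [himg]
    exact (pullback.fst G.hom j).isClosedEmbedding.isClosedMap _ hclk
  exact IsClosedImmersion.of_isPreimmersion u.left hcl

end Groth.Agent.Lib.GrpArtImmH4
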