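import Groth.Statements.S3029
import Groth.Agent.Lib.AbFibDim_lead
import Groth.Agent.Lib.CMFieldBC_helper5
import Groth.Agent.Lib.CMClosedPt_helper6
import Groth.Agent.Lib.FlatCM3_helper9
import Groth.Agent.Lib.FlatFibDim_helper8
import Groth.Agent.Lib.ClosedOrbit_lead

/-! # Local rings of a group scheme locally of finite type over a field are Cohen–Macaulay (lead) -/

set_option backward.isDefEq.respectTransparency false
set_option backward.isDefEq.respectTransparency.types false
set_option linter.unusedSimpArgs false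
set_option linter.unusedVariables false
set_option linter.unusedSectionVars false
set_option linter.style.longLine false
set_option linter.style.haveILetI false
set_option linter.unnecessarySimpa false
set_option maxHeartbeats 800000

universe u

open CategoryTheory CategoryTheory.Limits MonoidalCategory CartesianMonoidalCategory MonObj GrpObj
  AlgebraicGeometry Opposite Topology TopologicalSpace

namespace Groth.Agent.Lib.GrpCM

variable {k : Type u} [Field k]

/-- the Cohen–Macaulay property transfers between rational points of a group scheme -/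
theorem core (A : Over (Spec (CommRingCat.of k))) [GrpObj A]
    (a b : 𝟙_ (Over (Spec (CommRingCat.of k))) ⟶ A)
    (pt : ↥(𝟙_ (Over (Spec (CommRingCat.of k)))).left)
    (h : LocCoh.IsCohenMacaulayLocalRing (A.left.presheaf.stalk (a.left pt))) :
    LocCoh.IsCohenMacaulayLocalRing (A.left.presheaf.stalk (b.left pt)) := by
  obtain ⟨c, hc⟩ : ∃ c : 𝟙_ (Over (Spec (CommRingCat.of k))) ⟶ A, c = b * a⁻¹ := ⟨_, rfl⟩
  have hca : c * a = b := by rw [hc, _root_.inv_mul_cancel_right]
  obtain ⟨τ, hτ⟩ : ∃ τ : A ⟶ A, τ = (toUnit A ≫ c) * 𝟙 A := ⟨_, rfl⟩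
  obtain ⟨τ', hτ'⟩ : ∃ τ' : A ⟶ A, τ' = (toUnit A ≫ c⁻¹) * 𝟙 A := ⟨_, rfl⟩
  have hττ' : τ ≫ τ' = 𝟙 A := by
    rw [hτ, hτ', Groth.Agent.Lib.AbFibDim.transl_comp, _root_.inv_mul_cancel,
      Groth.Agent.Lib.AbFibDim.transl_one]
  have hτ'τ : τ' ≫ τ = 𝟙 A := by
    rw [hτ, hτ', Groth.Agent.Lib.AbFibDim.transl_comp, _root_.mul_inv_cancel,
      Groth.Agent.Lib.AbFibDim.transl_one]
  have haτ : a ≫ τ = b := by
    have h0 : a ≫ toUnit A = 𝟙 _ := toUnit_unique _ _
    rw [hτ, MonObj.comp_mul, Category.comp_id, ← Category.assoc, h0, Category.id_comp, hca]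
  have hτa : τ.left (a.left pt) = b.left pt := congrArg (fun t => t.left pt) haτ
  haveI : IsIso τ := ⟨τ', hττ', hτ'τ⟩
  haveI : IsIso τ.left := (Over.forget _).map_isIso τ
  have e : A.left.presheaf.stalk (τ.left (a.left pt)) ≅ A.left.presheaf.stalk (a.left pt) :=
    asIso (τ.left.stalkMap (a.left pt))
  have h2 : LocCoh.IsCohenMacaulayLocalRing (A.left.presheaf.stalk (τ.left (a.left pt))) :=
    Groth.Agent.Lib.CMClosedPt_helper6.cmLocalRing_of_ringEquiv
      e.commRingCatIsoToRingEquiv.symm h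
  rw [hτa] at h2
  exact h2

/-- the Cohen–Macaulay property transfers between points rational over a common extension -/
theorem const_pts (X : Over (Spec (CommRingCat.of k))) [GrpObj X] [LocallyOfFiniteType X.hom]
    (K : Type u) [Field K] [Algebra k K]
    (p₁ p₂ : Spec (CommRingCat.of K) ⟶ X.left)
    (hp₁ : p₁ ≫ X.hom = Spec.map (CommRingCat.ofHom (algebraMap k K)))
    (hp₂ : p₂ ≫ X.hom = Spec.map (CommRingCat.ofHom (algebraMap k K)))
    (pt : ↥(Spec (CommRingCat.of K)))
    (h : LocCoh.IsCohenMacaulayLocalRing (X.left.presheaf.stalk (p₁ pt))) :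
    LocCoh.IsCohenMacaulayLocalRing (X.left.presheaf.stalk (p₂ pt)) := by
  letI : X.left.Over (Spec (CommRingCat.of k)) := ⟨X.hom⟩
  haveI : LocallyOfFiniteType (X.left ↘ Spec (CommRingCat.of k)) := ‹LocallyOfFiniteType X.hom›
  have h01 : p₁ ≫ X.hom = 𝟙 _ ≫ Spec.map (CommRingCat.ofHom (algebraMap k K)) := by
    rw [Category.id_comp, hp₁]
  have h02 : p₂ ≫ X.hom = 𝟙 _ ≫ Spec.map (CommRingCat.ofHom (algebraMap k K)) := by
    rw [Category.id_comp, hp₂]
  have h11 : pullback.lift p₁ (𝟙 _) h01 ≫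
      pullback.snd X.hom (Spec.map (CommRingCat.ofHom (algebraMap k K))) = 𝟙 _ :=
    pullback.lift_snd _ _ _
  have h12 : pullback.lift p₂ (𝟙 _) h02 ≫
      pullback.snd X.hom (Spec.map (CommRingCat.ofHom (algebraMap k K))) = 𝟙 _ :=
    pullback.lift_snd _ _ _
  obtain ⟨a₁, ha₁⟩ : ∃ a₁ : 𝟙_ (Over (Spec (CommRingCat.of K))) ⟶
      Red.bc (Spec.map (CommRingCat.ofHom (algebraMap k K))) X,
      a₁.left ≫ pullback.fst X.hom (Spec.map (CommRingCat.ofHom (algebraMap k K))) = p₁ :=
    ⟨Over.homMk (pullback.lift p₁ (𝟙 _) h01) h11, pullback.lift_fst _ _ _⟩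
  obtain ⟨a₂, ha₂⟩ : ∃ a₂ : 𝟙_ (Over (Spec (CommRingCat.of K))) ⟶
      Red.bc (Spec.map (CommRingCat.ofHom (algebraMap k K))) X,
      a₂.left ≫ pullback.fst X.hom (Spec.map (CommRingCat.ofHom (algebraMap k K))) = p₂ :=
    ⟨Over.homMk (pullback.lift p₂ (𝟙 _) h02) h12, pullback.lift_fst _ _ _⟩
  have e1 := Groth.Agent.CMFieldBC.main7609 k X.left K (a₁.left pt)
  have e2 := Groth.Agent.CMFieldBC.main7609 k X.left K (a₂.left pt)
  have hpt1 : Curv2.bcFst k X.left K (a₁.left pt) = p₁ pt := by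
    rw [← ha₁]; rfl
  have hpt2 : Curv2.bcFst k X.left K (a₂.left pt) = p₂ pt := by
    rw [← ha₂]; rfl
  rw [hpt1] at e1
  rw [hpt2] at e2
  exact e2.mpr (core (Red.bc (Spec.map (CommRingCat.ofHom (algebraMap k K))) X) a₁ a₂ pt
    (e1.mp h))

theorem main3029 (k : Type u) [Field k] (G : Over (Spec (CommRingCat.of k))) [GrpObj G]
    [LocallyOfFiniteType G.hom] (x : G.left) :
    LocCoh.IsCohenMacaulayLocalRing (G.left.presheaf.stalk x) := by
  haveI hsub : Subsingleton ↥(Spec (CommRingCat.of k)) :=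
    inferInstanceAs (Subsingleton (PrimeSpectrum k))
  haveI : IsNoetherianRing (CommRingCat.of k) := inferInstanceAs (IsNoetherianRing k)
  haveI : IsLocallyNoetherian G.left := LocallyOfFiniteType.isLocallyNoetherian G.hom
  obtain ⟨ξ, -, hξmax, -⟩ :=
    Groth.Agent.FlatFibDimH8.exists_generic_of_mem_irreducibleComponents G.left
      (irreducibleComponent x) (irreducibleComponent_mem_irreducibleComponents _)
  have hξ : LocCoh.IsCohenMacaulayLocalRing (G.left.presheaf.stalk ξ) := by
    apply Groth.Agent.FlatCM.isCMLocalRing_of_dim_zero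
    rw [AlgebraicGeometry.ringKrullDim_stalk_eq_coheight, Order.coheight_eq_zero.mpr hξmax]
    rfl
  obtain ⟨w, hw1, hw2⟩ := Groth.Agent.Lib.ClosedOrbit.exists_of_isPullback
    (IsPullback.of_hasPullback G.hom G.hom) ξ x (Subsingleton.elim _ _)
  obtain ⟨pt⟩ : Nonempty ↥(Spec (CommRingCat.of ((pullback G.hom G.hom).residueField w))) :=
    (inferInstance : Nonempty (PrimeSpectrum ((pullback G.hom G.hom).residueField w)))
  obtain ⟨φ, hφ⟩ : ∃ φ : CommRingCat.of k ⟶ (pullback G.hom G.hom).residueField w,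
      Spec.map φ = ((pullback G.hom G.hom).fromSpecResidueField w ≫
        pullback.fst G.hom G.hom) ≫ G.hom :=
    ⟨Spec.preimage _, Spec.map_preimage _⟩
  letI : Algebra k ↑((pullback G.hom G.hom).residueField w) := φ.hom.toAlgebra
  have hφ' : Spec.map (CommRingCat.ofHom
      (algebraMap k ↑((pullback G.hom G.hom).residueField w))) = Spec.map φ := rfl
  have h := const_pts G ((pullback G.hom G.hom).residueField w)
    ((pullback G.hom G.hom).fromSpecResidueField w ≫ pullback.fst G.hom G.hom)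
    ((pullback G.hom G.hom).fromSpecResidueField w ≫ pullback.snd G.hom G.hom)
    (by rw [hφ', hφ])
    (by rw [hφ', hφ, Category.assoc, Category.assoc, pullback.condition]) pt
  have hpt : (pullback G.hom G.hom).fromSpecResidueField w pt = w :=
    Scheme.fromSpecResidueField_apply w pt
  have e1 : ((pullback G.hom G.hom).fromSpecResidueField w ≫ pullback.fst G.hom G.hom) pt = ξ := by
    rw [Scheme.Hom.comp_apply, hpt, hw1]
  have e2 : ((pullback G.hom G.hom).fromSpecResidueField w ≫ pullback.snd G.hom G.hom) pt = x := by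
    rw [Scheme.Hom.comp_apply, hpt, hw2]
  have h1 : LocCoh.IsCohenMacaulayLocalRing (G.left.presheaf.stalk
      (((pullback G.hom G.hom).fromSpecResidueField w ≫ pullback.fst G.hom G.hom) pt)) := by
    rw [e1]; exact hξ
  have h2 := h h1
  exact Eq.mp (congrArg (fun y : ↥G.left =>
    LocCoh.IsCohenMacaulayLocalRing (G.left.presheaf.stalk y)) e2) h2

end Groth.Agent.Lib.GrpCM
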