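import Groth.Agent.Lib.GrpFlatLocus_lead
import Groth.Agent.Lib.SmoothFib_helper4
import Groth.Agent.Lib.UnramLoc_helper4

/-! # Homogeneity of the smooth / unramified / étale locus of a homomorphism over a field (lead) -/

set_option backward.isDefEq.respectTransparency false
set_option backward.isDefEq.respectTransparency.types false
set_option linter.unusedSimpArgs false
set_option linter.unusedVariables false
set_option linter.unusedSectionVars false
set_option linter.style.longLine false
set_option linter.style.haveILetI false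
set_option linter.unnecessarySimpa false
set_option maxHeartbeats 800000

universe u

open CategoryTheory CategoryTheory.Limits MonoidalCategory CartesianMonoidalCategory MonObj GrpObj
  AlgebraicGeometry Opposite Topology TopologicalSpace

namespace Groth.Agent.Lib.GrpHomHomog

open Groth.Agent.Lib.AssocBundle Groth.Agent.Lib.IsogKernel Groth.Agent.Lib.TorsorSeq

section squares

variable {S : Scheme.{u}} {G H : Over S} [GrpObj G] [GrpObj H] (φ : G ⟶ H) [IsMonHom φ]

/-- `(x, y) ↦ (x y⁻¹, φ y)` -/
noncomputable def psi : G ⊗ G ⟶ G ⊗ H := lift (fst G G * (snd G G)⁻¹) (snd G G ≫ φ)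

omit [IsMonHom φ] in
theorem psi_pt {T : Over S} (x y : T ⟶ G) : lift x y ≫ psi φ = lift (x * y⁻¹) (y ≫ φ) := by
  unfold psi
  rw [comp_lift, MonObj.comp_mul, GrpObj.comp_inv, lift_fst, lift_snd, ← Category.assoc, lift_snd]

omit [IsMonHom φ] in
theorem psi_pt' {T : Over S} (l : T ⟶ G ⊗ G) :
    l ≫ psi φ = lift ((l ≫ fst G G) * (l ≫ snd G G)⁻¹) ((l ≫ snd G G) ≫ φ) := by
  have h := psi_pt φ (l ≫ fst G G) (l ≫ snd G G)
  rwa [lift_comp_fst_snd] at h

/-- `ψ` is the base change of `φ` along the action `(g, h) ↦ φ(g) h`, through the first projection -/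
theorem sq1 : IsPullback (fst G G) (psi φ) φ ((φ ▷ H) ≫ μ[H]) := by
  apply isPullback_of_exists_unique
  · have e : psi φ = lift (fst G G) (snd G G) ≫ psi φ := by rw [lift_fst_snd, Category.id_comp]
    rw [e, psi_pt, act_pt, MonObj.mul_comp, GrpObj.inv_comp, _root_.inv_mul_cancel_right]
  · intro T a b hab
    have hb : b ≫ (φ ▷ H) ≫ μ[H] = ((b ≫ fst G H) ≫ φ) * (b ≫ snd G H) := by
      have h := act_pt φ (b ≫ fst G H) (b ≫ snd G H)
      rwa [lift_comp_fst_snd] at h
    rw [hb] at hab
    refine ⟨lift a ((b ≫ fst G H)⁻¹ * a), lift_fst _ _, ?_⟩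
    rw [psi_pt]
    apply CartesianMonoidalCategory.hom_ext
    · rw [lift_fst, _root_.mul_inv_rev, _root_.inv_inv, _root_.mul_inv_cancel_left]
    · rw [lift_snd, MonObj.mul_comp, GrpObj.inv_comp, hab, _root_.inv_mul_cancel_left]
  · intro T l l' h1 h2
    rw [psi_pt', psi_pt'] at h2
    have h3 : (l ≫ fst G G) * (l ≫ snd G G)⁻¹ = (l' ≫ fst G G) * (l' ≫ snd G G)⁻¹ := by
      have h := congrArg (fun f => f ≫ fst G H) h2
      simpa only [lift_fst] using h
    rw [h1] at h3
    have h4 : (l ≫ snd G G)⁻¹ = (l' ≫ snd G G)⁻¹ := _root_.mul_left_cancel h3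
    have h5 : l ≫ snd G G = l' ≫ snd G G := _root_.inv_injective h4
    exact CartesianMonoidalCategory.hom_ext _ _ h1 h5

omit [IsMonHom φ] in
/-- `ψ` is also the base change of `φ` along the second projection, through the second
projection -/
theorem sq2 : IsPullback (snd G G) (psi φ) φ (snd G H) := by
  apply isPullback_of_exists_unique
  · unfold psi
    rw [lift_snd]
  · intro T a b hab
    refine ⟨lift ((b ≫ fst G H) * a) a, lift_snd _ _, ?_⟩
    rw [psi_pt]
    apply CartesianMonoidalCategory.hom_ext
    · rw [lift_fst, _root_.mul_inv_cancel_right]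
    · rw [lift_snd, hab]
  · intro T l l' h1 h2
    rw [psi_pt', psi_pt'] at h2
    have h3 : (l ≫ fst G G) * (l ≫ snd G G)⁻¹ = (l' ≫ fst G G) * (l' ≫ snd G G)⁻¹ := by
      have h := congrArg (fun f => f ≫ fst G H) h2
      simpa only [lift_fst] using h
    rw [h1] at h3
    have h5 : l ≫ fst G G = l' ≫ fst G G := _root_.mul_right_cancel h3
    exact CartesianMonoidalCategory.hom_ext _ _ h5 h1

theorem flat_act [Flat G.hom] : Flat ((φ ▷ H) ≫ μ[H]).left := by
  refine Groth.Agent.Lib.GenFlatHom.prop_act ((φ ▷ H) ≫ μ[H]) ?_ ?_ @Flat inferInstance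
  · intro T x
    rw [act_pt, MonObj.one_comp, _root_.one_mul]
  · intro T g h x
    rw [act_pt, act_pt, act_pt, MonObj.mul_comp, _root_.mul_assoc]

omit [GrpObj H] in
theorem flat_snd [Flat G.hom] : Flat (snd G H).left := by
  have sq : IsPullback (fst G H).left (snd G H).left (toUnit G).left (toUnit H).left :=
    (Groth.Agent.Lib.GenFlatHom.isPullback_fst_snd G H).map (Over.forget S)
  refine MorphismProperty.of_isPullback (P := @Flat) sq ?_
  rw [Over.toUnit_left]
  infer_instance

end squares

section descent

/-- pointwise descent and base change of unramifiedness along a cartesian square -/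
theorem stalk_unramified_iff_of_isPullback {X Y X' Y' : Scheme.{u}} {f : X ⟶ Y} {g : Y' ⟶ Y}
    {f' : X' ⟶ Y'} {g' : X' ⟶ X} (sq : IsPullback g' f' f g) [LocallyOfFiniteType f]
    [LocallyOfFiniteType f'] (x' : X') :
    (f'.stalkMap x').hom.FormallyUnramified ↔
      (f.stalkMap (g'.base x')).hom.FormallyUnramified := by
  constructor
  · intro h
    have h1 : sq.isoPullback.hom ≫ pullback.snd f g = f' ≫ 𝟙 _ := by
      rw [Category.comp_id]; exact sq.isoPullback_hom_snd
    have h2 : ((pullback.snd f g).stalkMap (sq.isoPullback.hom.base x')).hom.FormallyUnramified :=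
      (Groth.Agent.Lib.UnramLocH4.stalk_transfer RingHom.FormallyUnramified.respectsIso
        sq.isoPullback.hom (pullback.snd f g) f' (𝟙 _) h1 x').mp h
    have h3 := Groth.Agent.Lib.UnramLocH4.stalk_unramified_descent f g
      (sq.isoPullback.hom.base x') h2
    have hpt : (pullback.fst f g).base (sq.isoPullback.hom.base x') = g'.base x' := by
      rw [← Scheme.Hom.comp_apply, sq.isoPullback_hom_fst]
    exact (Groth.Agent.Lib.UnramLocH4.stalk_congr_point (P := RingHom.FormallyUnramified) f
      hpt).mp h3
  · intro h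
    obtain ⟨U, hxU, hU⟩ := (Groth.Agent.Lib.UnramLocH4.exists_nhd_iff_stalk f _).mpr h
    have big : IsPullback (g' ∣_ U) ((g' ⁻¹ᵁ U).ι ≫ f') (U.ι ≫ f) g :=
      (isPullback_morphismRestrict g' U).paste_vert sq
    have hV : FormallyUnramified ((g' ⁻¹ᵁ U).ι ≫ f') :=
      MorphismProperty.of_isPullback (P := @FormallyUnramified) big hU
    exact Groth.Agent.Lib.UnramLocH4.stalk_of_nhd f' x' _ hxU hV

end descent

section field

variable {k : Type u} [Field k] {G H : Over (Spec (CommRingCat.of k))} [GrpObj G] [GrpObj H]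
  (φ : G ⟶ H) [IsMonHom φ]

omit [GrpObj G] in
theorem exists_pair (x v : G.left) :
    ∃ w : (G ⊗ G).left, (fst G G).left.base w = x ∧ (snd G G).left.base w = v := by
  have sq : IsPullback (fst G G).left (snd G G).left (toUnit G).left (toUnit G).left :=
    (Groth.Agent.Lib.GenFlatHom.isPullback_fst_snd G G).map (Over.forget _)
  have hsubs : Subsingleton ↥(Spec (CommRingCat.of k)) :=
    inferInstanceAs (Subsingleton (PrimeSpectrum k))
  exact Groth.Agent.Lib.ClosedOrbit.exists_of_isPullback sq x v (@Subsingleton.elim _ hsubs _ _)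

/-- a homomorphism of group schemes over a field which is smooth at one point is smooth -/
theorem smooth_hom_of_point [LocallyOfFinitePresentation φ.left] (v₀ : G.left)
    (hv : (φ.left.stalkMap v₀).hom.FormallySmooth) : Smooth φ.left := by
  rw [← Scheme.Hom.smoothLocus_eq_top_iff, eq_top_iff]
  intro x _
  show (φ.left.stalkMap x).hom.FormallySmooth
  obtain ⟨w, hw1, hw2⟩ := exists_pair x v₀
  have sq1' : IsPullback (fst G G).left (psi φ).left φ.left ((φ ▷ H) ≫ μ[H]).left :=
    (sq1 φ).map (Over.forget _)
  have sq2' : IsPullback (snd G G).left (psi φ).left φ.left (snd G H).left :=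
    (sq2 φ).map (Over.forget _)
  haveI : Flat G.hom := inferInstance
  haveI : Flat ((φ ▷ H) ≫ μ[H]).left := flat_act φ
  haveI : Flat (snd G H).left := flat_snd
  haveI : LocallyOfFinitePresentation (psi φ).left :=
    MorphismProperty.of_isPullback (P := @LocallyOfFinitePresentation) sq2' inferInstance
  have h2 : ((psi φ).left.stalkMap w).hom.FormallySmooth :=
    (Groth.Agent.Lib.UnramLocH4.stalk_smooth_iff_of_isPullback_of_flat sq2' w).mpr
      ((Groth.Agent.Lib.UnramLocH4.stalk_congr_point (P := RingHom.FormallySmooth) φ.left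
        hw2).mpr hv)
  have h1 := (Groth.Agent.Lib.UnramLocH4.stalk_smooth_iff_of_isPullback_of_flat sq1' w).mp h2
  exact (Groth.Agent.Lib.UnramLocH4.stalk_congr_point (P := RingHom.FormallySmooth) φ.left
    hw1).mp h1

/-- a homomorphism of group schemes over a field which is unramified at one point is
unramified -/
theorem unramified_hom_of_point [LocallyOfFiniteType φ.left] (v₀ : G.left)
    (hv : (φ.left.stalkMap v₀).hom.FormallyUnramified) : FormallyUnramified φ.left := by
  apply Groth.Agent.Lib.UnramLocH4.formallyUnramified_of_forall_stalk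
  intro x
  obtain ⟨w, hw1, hw2⟩ := exists_pair x v₀
  have sq1' : IsPullback (fst G G).left (psi φ).left φ.left ((φ ▷ H) ≫ μ[H]).left :=
    (sq1 φ).map (Over.forget _)
  have sq2' : IsPullback (snd G G).left (psi φ).left φ.left (snd G H).left :=
    (sq2 φ).map (Over.forget _)
  haveI : LocallyOfFiniteType (psi φ).left :=
    MorphismProperty.of_isPullback (P := @LocallyOfFiniteType) sq2' inferInstance
  have h2 : ((psi φ).left.stalkMap w).hom.FormallyUnramified :=
    (stalk_unramified_iff_of_isPullback sq2' w).mpr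
      ((Groth.Agent.Lib.UnramLocH4.stalk_congr_point (P := RingHom.FormallyUnramified) φ.left
        hw2).mpr hv)
  have h1 := (stalk_unramified_iff_of_isPullback sq1' w).mp h2
  exact (Groth.Agent.Lib.UnramLocH4.stalk_congr_point (P := RingHom.FormallyUnramified) φ.left
    hw1).mp h1

/-- a homomorphism of group schemes over a field which is étale on a nonempty open is étale -/
theorem etale_hom_of_open [LocallyOfFinitePresentation φ.left] (V : G.left.Opens)
    (hV : (V : Set G.left).Nonempty) (h : Etale (V.ι ≫ φ.left)) : Etale φ.left := by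
  haveI := h
  haveI : Flat φ.left := Groth.Agent.Lib.GrpFlatLocus.flat_hom_of_open φ V hV inferInstance
  obtain ⟨v₀, hv₀⟩ := hV
  haveI : FormallyUnramified φ.left :=
    unramified_hom_of_point φ v₀
      (Groth.Agent.Lib.UnramLocH4.stalk_of_nhd φ.left v₀ V hv₀ inferInstance)
  exact Etale.of_formallyUnramified_of_flat φ.left

end field

end Groth.Agent.Lib.GrpHomHomog
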