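import Mathlib
import Groth.Agent.Lib.EtaleCompl_helper4
import Groth.Agent.Lib.GrpHomHomog_lead

/-!
# A monomorphic homomorphism inducing isomorphisms on completed local rings at the unit is an
open immersion (helper4)
-/

set_option autoImplicit false
set_option linter.unusedVariables false
set_option linter.unusedTactic false
set_option linter.unreachableTactic false
set_option linter.unusedSectionVars false
set_option linter.style.haveILetI false
set_option linter.deprecated false
set_option maxHeartbeats 1600000

universe u

open CategoryTheory CategoryTheory.Limits MonoidalCategory CartesianMonoidalCategory MonObj GrpObj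
  AlgebraicGeometry TensorProduct

namespace Groth.Agent.Lib.GrpComplOpenH4

theorem main18828 (k : Type u) [Field k]
    (H G : Over (Spec (CommRingCat.of k))) [GrpObj H] [GrpObj G]
    [LocallyOfFiniteType H.hom] [LocallyOfFiniteType G.hom] (f : H ⟶ G) [IsMonHom f] [Mono f.left]
    (pt : ↥(𝟙_ (Over (Spec (CommRingCat.of k)))).left)
    (h : ∀ n : ℕ,
      Function.Surjective ((Ideal.Quotient.mk (IsLocalRing.maximalIdeal
          ↑(H.left.presheaf.stalk (η[H].left.base pt)) ^ (n + 1))).comp
        (f.left.stalkMap (η[H].left.base pt)).hom) ∧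
      ∀ a : ↑(G.left.presheaf.stalk (f.left.base (η[H].left.base pt))),
        (f.left.stalkMap (η[H].left.base pt)).hom a ∈
            IsLocalRing.maximalIdeal ↑(H.left.presheaf.stalk (η[H].left.base pt)) ^ (n + 1) ↔
          a ∈ IsLocalRing.maximalIdeal ↑(G.left.presheaf.stalk (f.left.base (η[H].left.base pt))) ^ (n + 1)) :
    IsOpenImmersion f.left := by
  haveI : IsLocallyNoetherian G.left := LocallyOfFiniteType.isLocallyNoetherian G.hom
  haveI : LocallyOfFiniteType (f.left ≫ G.hom) := by rw [Over.w f]; infer_instance
  haveI : LocallyOfFiniteType f.left := locallyOfFiniteType_of_comp f.left G.hom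
  have hres : Function.Surjective (f.left.residueFieldMap (η[H].left.base pt)) := by
    intro b
    obtain ⟨b, rfl⟩ := (IsLocalRing.residue_surjective
      (R := ↑(H.left.presheaf.stalk (η[H].left.base pt)))) b
    obtain ⟨a, ha⟩ := (h 0).1 (Ideal.Quotient.mk _ b)
    refine ⟨IsLocalRing.residue _ a, ?_⟩
    have ha' : (f.left.stalkMap (η[H].left.base pt)).hom a - b ∈
        IsLocalRing.maximalIdeal ↑(H.left.presheaf.stalk (η[H].left.base pt)) := by
      have h1 := Ideal.Quotient.eq.mp ha
      rwa [zero_add, pow_one] at h1
    show IsLocalRing.residue _ ((f.left.stalkMap (η[H].left.base pt)).hom a) =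
      IsLocalRing.residue _ b
    exact Ideal.Quotient.eq.mpr ha'
  have hcond : ∀ n : ℕ, Function.Surjective
          ((Ideal.Quotient.mk (IsLocalRing.maximalIdeal
            (H.left.presheaf.stalk (η[H].left.base pt)) ^ n)).comp
            (f.left.stalkMap (η[H].left.base pt)).hom) ∧
        RingHom.ker ((Ideal.Quotient.mk (IsLocalRing.maximalIdeal
            (H.left.presheaf.stalk (η[H].left.base pt)) ^ n)).comp
            (f.left.stalkMap (η[H].left.base pt)).hom) =
          IsLocalRing.maximalIdeal
            (G.left.presheaf.stalk (f.left.base (η[H].left.base pt))) ^ n := by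
    intro n
    cases n with
    | zero =>
      have hB : IsLocalRing.maximalIdeal ↑(H.left.presheaf.stalk (η[H].left.base pt)) ^ 0 = ⊤ := by
        rw [pow_zero, Ideal.one_eq_top]
      have hA : IsLocalRing.maximalIdeal
          ↑(G.left.presheaf.stalk (f.left.base (η[H].left.base pt))) ^ 0 = ⊤ := by
        rw [pow_zero, Ideal.one_eq_top]
      haveI hsub : Subsingleton (↑(H.left.presheaf.stalk (η[H].left.base pt)) ⧸
          IsLocalRing.maximalIdeal ↑(H.left.presheaf.stalk (η[H].left.base pt)) ^ 0) :=
        Ideal.Quotient.subsingleton_iff.mpr hB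
      refine ⟨fun b => ⟨0, Subsingleton.elim _ _⟩, ?_⟩
      rw [hA]
      ext a
      simp only [RingHom.mem_ker, Submodule.mem_top, iff_true]
      exact Subsingleton.elim _ _
    | succ n =>
      refine ⟨(h n).1, ?_⟩
      ext a
      rw [RingHom.mem_ker, RingHom.comp_apply, Ideal.Quotient.eq_zero_iff_mem]
      exact (h n).2 a
  obtain ⟨U, hxU, hU⟩ :=
    (Groth.Agent.Lib.FibreFieldH4.main2734 f.left (η[H].left.base pt) (Or.inl hres)).mpr hcond
  haveI : LocallyOfFinitePresentation f.left := inferInstance
  haveI : Etale f.left :=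
    Groth.Agent.Lib.GrpHomHomog.etale_hom_of_open f U ⟨_, hxU⟩ hU
  exact IsOpenImmersion.of_flat_of_mono f.left

end Groth.Agent.Lib.GrpComplOpenH4
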