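import Mathlib
import Groth.Agent.Lib.UnivOpenDisc_helper4

set_option autoImplicit false
set_option linter.style.haveILetI false

universe u

open CategoryTheory CategoryTheory.Limits AlgebraicGeometry MonoidalCategory
  CartesianMonoidalCategory MonObj

namespace Groth.Agent.Lib.GrpDense2H4

set_option maxHeartbeats 1600000 in
theorem core {S : Scheme.{u}} (G : Over S) [GrpObj G]
    (U V : G.left.Opens) (hU : Dense (U : Set G.left)) (hV : Dense (V : Set G.left))
    (g : G.left) (hopen : UniversallyOpen (G.left.fromSpecResidueField g ≫ G.hom)) :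
    ∃ z : ↥(G ⊗ G).left, (fst G G).left z ∈ U ∧ (snd G G).left z ∈ V ∧ μ[G].left z = g := by
  let Kobj : Over S := Over.mk (G.left.fromSpecResidueField g ≫ G.hom)
  let c0 : Kobj ⟶ G := Over.homMk (G.left.fromSpecResidueField g) rfl
  let T : Over S := G ⊗ Kobj
  let p : T ⟶ G := fst G Kobj
  let q : T ⟶ Kobj := snd G Kobj
  let cc : T ⟶ G := q ≫ c0
  let θ : T ⟶ G := p⁻¹ * cc
  let τ : T ⟶ T := lift θ q
  let τ' : T ⟶ T := lift (cc * p⁻¹) q
  have hτp : τ ≫ p = θ := lift_fst _ _
  have hτq : τ ≫ q = q := lift_snd _ _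
  have hτcc : τ ≫ cc = cc := by
    show τ ≫ q ≫ c0 = q ≫ c0
    rw [← Category.assoc, hτq]
  have hτ'p : τ' ≫ p = cc * p⁻¹ := lift_fst _ _
  have hτ'q : τ' ≫ q = q := lift_snd _ _
  have hτ'cc : τ' ≫ cc = cc := by
    show τ' ≫ q ≫ c0 = q ≫ c0
    rw [← Category.assoc, hτ'q]
  have hττ' : τ ≫ τ' = 𝟙 T := by
    apply CartesianMonoidalCategory.hom_ext
    · rw [Category.assoc, lift_fst, MonObj.comp_mul, GrpObj.comp_inv, hτcc, hτp, Category.id_comp]
      show cc * (p⁻¹ * cc)⁻¹ = p
      group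
    · rw [Category.assoc, lift_snd, hτq, Category.id_comp]
  have hτ'τ : τ' ≫ τ = 𝟙 T := by
    apply CartesianMonoidalCategory.hom_ext
    · rw [Category.assoc, lift_fst, Category.id_comp]
      show τ' ≫ (p⁻¹ * cc) = p
      rw [MonObj.comp_mul, GrpObj.comp_inv, hτ'cc, hτ'p]
      group
    · rw [Category.assoc, lift_snd, hτ'q, Category.id_comp]
  haveI : IsIso τ := ⟨τ', hττ', hτ'τ⟩
  haveI : IsIso τ.left := inferInstanceAs (IsIso ((Over.forget _).map τ))
  have hp_open : IsOpenMap p.left := by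
    haveI : UniversallyOpen Kobj.hom := hopen
    haveI : UniversallyOpen p.left :=
      (inferInstance : UniversallyOpen (pullback.fst G.hom Kobj.hom))
    exact p.left.isOpenMap
  have hτ_open : IsOpenMap τ.left := τ.left.isOpenEmbedding.isOpenMap
  have hθ : τ.left ≫ p.left = θ.left := by rw [← Over.comp_left, hτp]
  have hA : Dense (p.left ⁻¹' (U : Set G.left)) := hU.preimage hp_open
  have hB : Dense (θ.left ⁻¹' (V : Set G.left)) := by
    have : θ.left ⁻¹' (V : Set G.left) = τ.left ⁻¹' (p.left ⁻¹' (V : Set G.left)) := by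
      rw [← hθ]; rfl
    rw [this]
    exact (hV.preimage hp_open).preimage hτ_open
  have hBo : IsOpen (θ.left ⁻¹' (V : Set G.left)) := V.2.preimage θ.left.continuous
  haveI : Nonempty T.left :=
    ⟨(lift c0 (𝟙 Kobj)).left (IsLocalRing.closedPoint (G.left.residueField g))⟩
  obtain ⟨z, hzA, hzB⟩ := (hA.inter_of_isOpen_right hB hBo).nonempty
  have e1 : (lift p θ).left ≫ (fst G G).left = p.left := by rw [← Over.comp_left, lift_fst]
  have e2 : (lift p θ).left ≫ (snd G G).left = θ.left := by rw [← Over.comp_left, lift_snd]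
  have e3 : (lift p θ).left ≫ μ[G].left = q.left ≫ c0.left := by
    rw [← Over.comp_left, ← Over.comp_left, ← Hom.mul_def]
    congr 1
    show p * (p⁻¹ * cc) = cc
    group
  refine ⟨(lift p θ).left z, ?_, ?_, ?_⟩
  · show (fst G G).left ((lift p θ).left z) ∈ (U : Set G.left)
    rw [← Scheme.Hom.comp_apply, e1]
    exact hzA
  · show (snd G G).left ((lift p θ).left z) ∈ (V : Set G.left)
    rw [← Scheme.Hom.comp_apply, e2]
    exact hzB
  · rw [← Scheme.Hom.comp_apply, e3, Scheme.Hom.comp_apply]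
    exact Scheme.fromSpecResidueField_apply _ _

theorem main3015 (A : Type u) [CommRing A] [IsArtinianRing A] [IsLocalRing A]
    (G : Over (Spec (CommRingCat.of A))) [GrpObj G] (U V : G.left.Opens)
    (hU : Dense (U : Set G.left)) (hV : Dense (V : Set G.left)) (g : G.left) :
    ∃ z : ↥(G ⊗ G).left, (fst G G).left.base z ∈ U ∧ (snd G G).left.base z ∈ V ∧
      μ[G].left.base z = g := by
  haveI : DiscreteTopology (PrimeSpectrum A) := inferInstance
  haveI : DiscreteTopology ↥(Spec (CommRingCat.of A)) := ‹DiscreteTopology (PrimeSpectrum A)›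
  exact core G U V hU hV g (Groth.Agent.Lib.UnivOpenDiscH4.main2505 _)

end Groth.Agent.Lib.GrpDense2H4
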