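/-
helper5: the dimension of the fibres of a group scheme locally of finite type is the fibre dimension at the
unit section; upper semicontinuity and local constructibility of `s ↦ dim G_s` (SGA 3 VI_B 4.1-type; S5329).
APPEND-ONLY once landed.
-/
import Mathlib
import Groth.Prelude.Def_Red
import Groth.Prelude.Def_Flat
import Groth.Agent.Lib.GrpDim_helper8
import Groth.Agent.Lib.FibComp_helper8
import Groth.Agent.Lib.FieldExt3_helper8
import Groth.Agent.Lib.Chev4_helper8
import Groth.Agent.Lib.CompDims_helper8
import Groth.Agent.Lib.ProConsSch_helper8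
import Groth.Agent.Lib.EquidimIrr_helper8
import Groth.Agent.Lib.Retro1_helper8
import Groth.Agent.Lib.FibDimCons_helper8

set_option autoImplicit false
universe u

open CategoryTheory CategoryTheory.Limits MonoidalCategory CartesianMonoidalCategory MonObj GrpObj
  AlgebraicGeometry Topology

namespace Groth.Agent.Lib.GrpFibDimH5

variable (S : Scheme.{u}) (G : Over S) [GrpObj G]

/-- the unit section -/
noncomputable def unitSec : S ⟶ G.left := (η[G]).left

theorem unitSec_hom : unitSec S G ≫ G.hom = 𝟙 S := Over.w η[G]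

theorem hom_unitSec_apply (s : S) : G.hom (unitSec S G s) = s := by
  have := congrArg (fun k : S ⟶ S => k s) (unitSec_hom S G)
  simpa using this

/-- the dimension of the fibre of a group scheme is the fibre dimension at the unit section -/
theorem dim_fibre_eq [LocallyOfFiniteType G.hom] (s : S) :
    topologicalKrullDim ↥(G.hom.base ⁻¹' {s}) = FlatMor.fibreDimAt G.hom (unitSec S G s) := by
  rw [FibCompH8.dim_preimage_eq G.hom s]
  let Gs : Over (Spec (CommRingCat.of (S.residueField s))) := Red.bc (S.fromSpecResidueField s) G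
  haveI : LocallyOfFiniteType Gs.hom :=
    MorphismProperty.pullback_snd (P := @LocallyOfFiniteType) _ _ inferInstance
  let z : ↥(G.hom.fiber s) := (G.hom.fiberHomeo s).symm ⟨unitSec S G s, hom_unitSec_apply S G s⟩
  have hz : (G.hom.fiberι s).base z = unitSec S G s := G.hom.fiberι_fiberHomeo_symm s _
  have h1 := GrpDimH8.localDim_eq_dim (S.residueField s) Gs z
  have h2 := FieldExtH8.localDim_fiber_eq_fibreDimAt G.hom s z (unitSec S G s) hz
  rw [← h2]
  exact h1.symm

/-- the level sets of the fibre dimension are locally constructible -/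
theorem isLocallyConstructible_fibreDimAt_eq {X Y : Scheme.{u}} (f : X ⟶ Y)
    [LocallyOfFinitePresentation f] (n : ℕ) :
    IsLocallyConstructible {x : X | FlatMor.fibreDimAt f x = (n : WithBot ℕ∞)} := by
  have hle : ∀ m : ℕ, IsLocallyConstructible {x : X | FlatMor.fibreDimAt f x ≤ (m : WithBot ℕ∞)} :=
    fun m => (RetroH8.isRetrocompact_fibreDimAt_le f m).isLocallyConstructible
      (ChevH8.isOpen_fibreDimAt_le f m)
  cases n with
  | zero =>
    have : {x : X | FlatMor.fibreDimAt f x = ((0 : ℕ) : WithBot ℕ∞)} =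
        {x | FlatMor.fibreDimAt f x ≤ ((0 : ℕ) : WithBot ℕ∞)} := by
      ext x
      constructor
      · intro h; exact le_of_eq h
      · intro h
        obtain ⟨D, hD⟩ := EquidimIrrH8.exists_nat_fibreDimAt f x
        change FlatMor.fibreDimAt f x ≤ _ at h
        change FlatMor.fibreDimAt f x = _
        rw [hD] at h ⊢
        have h' : D ≤ 0 := by exact_mod_cast h
        have : D = 0 := by omega
        rw [this]
    rw [this]; exact hle 0
  | succ m =>
    have : {x : X | FlatMor.fibreDimAt f x = ((m + 1 : ℕ) : WithBot ℕ∞)} =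
        {x | FlatMor.fibreDimAt f x ≤ ((m + 1 : ℕ) : WithBot ℕ∞)} ∩
          {x | FlatMor.fibreDimAt f x ≤ (m : WithBot ℕ∞)}ᶜ := by
      ext x
      obtain ⟨D, hD⟩ := EquidimIrrH8.exists_nat_fibreDimAt f x
      simp only [Set.mem_ofPred_eq, Set.mem_inter_iff, Set.mem_compl_iff]
      rw [hD]
      constructor
      · intro h
        have h' : D = m + 1 := by exact_mod_cast h
        constructor
        · exact_mod_cast h'.le
        · intro hcon
          have : D ≤ m := by exact_mod_cast hcon
          omega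
      · rintro ⟨h1, h2⟩
        have h1' : D ≤ m + 1 := by exact_mod_cast h1
        have h2' : ¬ D ≤ m := by
          intro hcon; apply h2; exact_mod_cast hcon
        have : D = m + 1 := by omega
        rw [this]
    rw [this]
    exact (hle (m + 1)).inter (FibDimConsH8.isLocallyConstructible_compl (hle m))

set_option maxHeartbeats 800000 in
/-- **S5329** -/
theorem main5329 [LocallyOfFiniteType G.hom] :
    UpperSemicontinuous (fun s : S => topologicalKrullDim ↥(G.hom.base ⁻¹' {s})) ∧
    (LocallyOfFinitePresentation G.hom → ∀ s : S, ∃ V : S.Opens, s ∈ V ∧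
      ((fun t : S => topologicalKrullDim ↥(G.hom.base ⁻¹' {t})) '' (V : Set S)).Finite ∧
      ∀ d : WithBot ℕ∞, Topology.IsConstructible
        {t : V | topologicalKrullDim ↥(G.hom.base ⁻¹' {(t : S)}) = d}) := by
  set ε := unitSec S G with hε
  set φ : S → WithBot ℕ∞ := fun s => FlatMor.fibreDimAt G.hom (ε s) with hφdef
  have hφ : ∀ s : S, topologicalKrullDim ↥(G.hom.base ⁻¹' {s}) = φ s := fun s => dim_fibre_eq S G s
  have hnat : ∀ s : S, ∃ d : ℕ, φ s = (d : WithBot ℕ∞) := fun s =>
    EquidimIrrH8.exists_nat_fibreDimAt G.hom (ε s)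
  have hopen : ∀ n : ℕ, IsOpen {s : S | φ s ≤ (n : WithBot ℕ∞)} := fun n =>
    (ChevH8.isOpen_fibreDimAt_le G.hom n).preimage ε.continuous
  refine ⟨?_, ?_⟩
  · intro s y hy
    obtain ⟨d, hd⟩ := hnat s
    have hmem : s ∈ {s : S | φ s ≤ (d : WithBot ℕ∞)} := by
      show φ s ≤ _
      rw [hd]
    filter_upwards [(hopen d).mem_nhds hmem] with t ht
    have hy' : φ s < y := by rw [← hφ s]; exact hy
    show topologicalKrullDim ↥(G.hom.base ⁻¹' {t}) < y
    rw [hφ t]
    exact lt_of_le_of_lt ht (hd ▸ hy')
  · intro hfp s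
    haveI := hfp
    obtain ⟨V, hV, hsV⟩ : ∃ V : S.Opens, IsAffineOpen V ∧ s ∈ V := by
      obtain ⟨_, ⟨V, hV, rfl⟩, hxV, -⟩ := S.isBasis_affineOpens.exists_subset_of_mem_open
        (Set.mem_univ s) isOpen_univ
      exact ⟨V, hV, hxV⟩
    refine ⟨V, hsV, ?_, ?_⟩
    · -- finitely many values
      have hcov : (V : Set S) ⊆ ⋃ n : ℕ, {s : S | φ s ≤ (n : WithBot ℕ∞)} := by
        intro t _
        obtain ⟨d, hd⟩ := hnat t
        exact Set.mem_iUnion.mpr ⟨d, by show φ t ≤ _; rw [hd]⟩
      obtain ⟨F, hF⟩ := hV.isCompact.elim_finite_subcover _ hopen hcov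
      have hbound : ∀ t ∈ (V : Set S), φ t ≤ ((F.sup id : ℕ) : WithBot ℕ∞) := by
        intro t ht
        obtain ⟨n, hn, htn⟩ := Set.mem_iUnion₂.mp (hF ht)
        have h1 : φ t ≤ (n : WithBot ℕ∞) := htn
        have h2 : n ≤ F.sup id := Finset.le_sup (f := id) hn
        exact h1.trans (by exact_mod_cast h2)
      apply Set.Finite.subset
        ((Finset.range (F.sup id + 1)).finite_toSet.image (fun n : ℕ => ((n : ℕ) : WithBot ℕ∞)))
      rintro _ ⟨t, ht, rfl⟩
      obtain ⟨d, hd⟩ := hnat t
      have hb := hbound t ht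
      rw [hd] at hb
      have hb' : d ≤ F.sup id := by exact_mod_cast hb
      refine ⟨d, ?_, ?_⟩
      · simp only [Finset.coe_range, Set.mem_Iio]
        omega
      · show ((d : ℕ) : WithBot ℕ∞) = topologicalKrullDim ↥(G.hom.base ⁻¹' {t})
        rw [hφ t, hd]
    · intro d
      haveI : CompactSpace ↥(V : Set S) := isCompact_iff_compactSpace.mp hV.isCompact
      haveI : QuasiSeparatedSpace ↥(V : Set S) :=
        (isQuasiSeparated_iff_quasiSeparatedSpace _ V.isOpen).mp hV.isQuasiSeparated
      haveI : PrespectralSpace ↥(V : Set S) :=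
        (V.isOpen.isOpenEmbedding_subtypeVal).prespectralSpace
      by_cases hd : ∃ n : ℕ, d = (n : WithBot ℕ∞)
      · obtain ⟨n, rfl⟩ := hd
        have hL := isLocallyConstructible_fibreDimAt_eq G.hom n
        have hL' := Groth.Agent.Lib.ProConsSchH8.isLocallyConstructible_preimage ε hL
        have hL'' := hL'.preimage_of_isOpenEmbedding (V.isOpen.isOpenEmbedding_subtypeVal)
        have hc := hL''.isConstructible
        have hset : {t : V | topologicalKrullDim ↥(G.hom.base ⁻¹' {(t : S)}) = (n : WithBot ℕ∞)} =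
            (Subtype.val ⁻¹' (ε ⁻¹' {x : G.left | FlatMor.fibreDimAt G.hom x = (n : WithBot ℕ∞)}) :
              Set ↥(V : Set S)) := by
          ext t
          show topologicalKrullDim ↥(G.hom.base ⁻¹' {(t : S)}) = _ ↔
            FlatMor.fibreDimAt G.hom (ε (t : S)) = _
          rw [hφ]
        rw [hset]
        exact hc
      · have hset : {t : V | topologicalKrullDim ↥(G.hom.base ⁻¹' {(t : S)}) = d} = ∅ := by
          ext t
          simp only [Set.mem_ofPred_eq, Set.mem_empty_iff_false, iff_false]
          intro hcon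
          apply hd
          obtain ⟨n, hn⟩ := hnat (t : S)
          exact ⟨n, by rw [← hcon, hφ, hn]⟩
        rw [hset]
        exact IsConstructible.empty

end Groth.Agent.Lib.GrpFibDimH5
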