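import Groth.Agent.Lib.TorsorSeq_lead
import Groth.Agent.Lib.TopDim_lead
import Groth.Agent.Lib.ConnDepth_helper5
import Groth.Agent.Lib.SubLocDim_helper8
import Groth.Agent.Lib.FibLoc_helper8
import Groth.Agent.Lib.LocDimProd_helper8
import Groth.Agent.Lib.LocDimProd2_helper8
import Groth.Prelude.Def_ActBC

/-! # Connected components of a homogeneous space over an artinian local ring are equidimensional (lead) -/

set_option backward.isDefEq.respectTransparency false
set_option backward.isDefEq.respectTransparency.types false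
set_option linter.unusedSimpArgs false
set_option linter.unusedVariables false
set_option linter.unusedSectionVars false
set_option linter.style.longLine false
set_option linter.style.haveILetI false
set_option linter.unnecessarySimpa false
set_option maxHeartbeats 800000

universe u

open CategoryTheory CategoryTheory.Limits MonoidalCategory CartesianMonoidalCategory MonObj GrpObj
  AlgebraicGeometry Opposite Topology TopologicalSpace

namespace Groth.Agent.Lib.HomogDim

open Groth.Agent.Lib.TorsorSeq

section top

variable {T : Type*} [TopologicalSpace T]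

theorem localDim_le_topDim' (t : T) : FlatMor.localDim T t ≤ topologicalKrullDim T := by
  unfold FlatMor.localDim
  refine (iInf_le _ ⟨⊤, trivial⟩).trans ?_
  exact topologicalKrullDim_subspace_le _ _

theorem topDim_le_of_localDim_le {c : WithBot ℕ∞} (h : ∀ t : T, FlatMor.localDim T t ≤ c) :
    topologicalKrullDim T ≤ c := by
  apply Groth.Agent.TopDimLead.dim_le_of_forall
  intro l
  obtain ⟨x, hx⟩ := Groth.Agent.TopDimLead.head_nonempty l
  exact (Groth.Agent.TopDimLead.length_le_localDim l hx).trans (h x)

theorem localDim_open (U : Set T) (hU : IsOpen U) (t : T) (ht : t ∈ U) :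
    FlatMor.localDim ↥U ⟨t, ht⟩ = FlatMor.localDim T t := by
  rw [SubLocDimH8.localDim_subtype_eq U t ht]
  unfold FlatMor.localDim
  apply le_antisymm
  · refine le_iInf ?_
    rintro ⟨V, hV⟩
    refine (iInf_le _ (⟨V, hV⟩ : {V : Opens T // t ∈ V})).trans ?_
    exact SubLocDimH8.topDim_mono Set.inter_subset_left
  · refine le_iInf ?_
    rintro ⟨V, hV⟩
    refine (iInf_le _ (⟨V ⊓ ⟨U, hU⟩, ⟨hV, ht⟩⟩ : {V : Opens T // t ∈ V})).trans ?_
    show topologicalKrullDim ↥((V : Set T) ∩ U) ≤ _
    exact le_rfl

end top

theorem wb_cancel (n : ℕ) (b c : WithBot ℕ∞)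
    (h : ((n : ℕ) : WithBot ℕ∞) + b = ((n : ℕ) : WithBot ℕ∞) + c) : b = c := by
  have ec : ((n : ℕ) : WithBot ℕ∞) = (((n : ℕ) : ℕ∞) : WithBot ℕ∞) := rfl
  rw [ec] at h
  induction b using WithBot.recBotCoe with
  | bot =>
    induction c using WithBot.recBotCoe with
    | bot => rfl
    | coe c =>
      rw [WithBot.add_bot, ← WithBot.coe_add] at h
      exact absurd h.symm WithBot.coe_ne_bot
  | coe b =>
    induction c using WithBot.recBotCoe with
    | bot =>
      rw [WithBot.add_bot, ← WithBot.coe_add] at h
      exact absurd h WithBot.coe_ne_bot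
    | coe c =>
      rw [← WithBot.coe_add, ← WithBot.coe_add, WithBot.coe_inj] at h
      rw [WithBot.coe_inj]
      induction b using ENat.recTopCoe with
      | top =>
        induction c using ENat.recTopCoe with
        | top => rfl
        | coe c =>
          rw [add_top] at h
          exact absurd h.symm (by exact_mod_cast ENat.coe_ne_top (n + c))
      | coe b =>
        induction c using ENat.recTopCoe with
        | top =>
          rw [add_top] at h
          exact absurd h (by exact_mod_cast ENat.coe_ne_top (n + b))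
        | coe c =>
          have h' : n + b = n + c := by exact_mod_cast h
          have : b = c := by omega
          rw [this]

variable (A : Type u) [CommRing A] [IsArtinianRing A] [IsLocalRing A]

/-- the closed point of the artinian local base -/
noncomputable def s₀ : Spec (CommRingCat.of (IsLocalRing.ResidueField A)) ⟶ Spec (CommRingCat.of A) :=
  Spec.map (CommRingCat.ofHom (IsLocalRing.residue A))

instance : IsClosedImmersion (s₀ A) :=
  IsClosedImmersion.spec_of_surjective (CommRingCat.ofHom (IsLocalRing.residue A))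
    IsLocalRing.residue_surjective

theorem subsingleton_base : Subsingleton ↥(Spec (CommRingCat.of A)) :=
  inferInstanceAs (Subsingleton (PrimeSpectrum A))

instance : Surjective (s₀ A) := by
  haveI := subsingleton_base A
  obtain ⟨p⟩ : Nonempty ↥(Spec (CommRingCat.of (IsLocalRing.ResidueField A))) :=
    inferInstanceAs (Nonempty (PrimeSpectrum (IsLocalRing.ResidueField A)))
  exact ⟨fun x => ⟨p, Subsingleton.elim _ _⟩⟩

theorem homeo_bc {Y : Scheme.{u}} (p : Y ⟶ Spec (CommRingCat.of A)) :
    IsHomeomorph (pullback.fst p (s₀ A)).base := by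
  haveI : IsClosedImmersion (pullback.fst p (s₀ A)) := inferInstance
  haveI : Surjective (pullback.fst p (s₀ A)) := inferInstance
  rw [isHomeomorph_iff_isEmbedding_surjective]
  exact ⟨(pullback.fst p (s₀ A)).isClosedEmbedding.isEmbedding, (pullback.fst p (s₀ A)).surjective⟩

theorem localDim_bc {Y : Scheme.{u}} (p : Y ⟶ Spec (CommRingCat.of A)) (y₀ : ↥(pullback p (s₀ A))) :
    FlatMor.localDim ↥Y ((pullback.fst p (s₀ A)) y₀) = FlatMor.localDim ↥(pullback p (s₀ A)) y₀ :=
  FibLocH8.localDim_homeomorph ((homeo_bc A p).homeomorph _) y₀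

theorem exists_nat (G : Over (Spec (CommRingCat.of A))) [LocallyOfFiniteType G.hom] (g : G.left) :
    ∃ n : ℕ, FlatMor.localDim ↥G.left g = ((n : ℕ) : WithBot ℕ∞) := by
  obtain ⟨g₀, rfl⟩ := (homeo_bc A G.hom).surjective g
  obtain ⟨n, hn⟩ := LocDimProdH8.exists_localDim_nat (IsLocalRing.ResidueField A) _
    (pullback.snd G.hom (s₀ A)) g₀
  exact ⟨n, (localDim_bc A G.hom g₀).trans hn⟩

theorem localDim_prod (G X : Over (Spec (CommRingCat.of A))) [LocallyOfFiniteType G.hom]
    [LocallyOfFiniteType X.hom] (z : (G ⊗ X).left) :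
    FlatMor.localDim ↥(G ⊗ X).left z =
      FlatMor.localDim ↥G.left ((fst G X).left z) + FlatMor.localDim ↥X.left ((snd G X).left z) := by
  obtain ⟨z₀, rfl⟩ := (homeo_bc A (G ⊗ X).hom).surjective z
  obtain ⟨μ', hμ'⟩ : ∃ μ' : (Over.pullback (s₀ A)).obj G ⊗ (Over.pullback (s₀ A)).obj X ⟶
      (Over.pullback (s₀ A)).obj (G ⊗ X), μ' = Functor.LaxMonoidal.μ (Over.pullback (s₀ A)) G X :=
    ⟨_, rfl⟩
  haveI : IsIso μ' := by rw [hμ']; infer_instance
  haveI : IsIso μ'.left := (Over.forget _).map_isIso μ'
  obtain ⟨q, rfl⟩ : ∃ q, μ'.left q = z₀ :=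
    ⟨(inv μ'.left) z₀, by rw [← Scheme.Hom.comp_apply, IsIso.inv_hom_id]; rfl⟩
  haveI : LocallyOfFiniteType ((Over.pullback (s₀ A)).obj G).hom :=
    inferInstanceAs (LocallyOfFiniteType (pullback.snd G.hom (s₀ A)))
  haveI : LocallyOfFiniteType ((Over.pullback (s₀ A)).obj X).hom :=
    inferInstanceAs (LocallyOfFiniteType (pullback.snd X.hom (s₀ A)))
  have e1 := localDim_bc A (G ⊗ X).hom (μ'.left q)
  have e2 : FlatMor.localDim ↥((Over.pullback (s₀ A)).obj (G ⊗ X)).left (μ'.left q) =
      FlatMor.localDim ↥((Over.pullback (s₀ A)).obj G ⊗ (Over.pullback (s₀ A)).obj X).left q :=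
    FibLocH8.localDim_homeomorph (Scheme.homeoOfIso (asIso μ'.left)) q
  have e3 := LocDimProdH8.localDim_pullback (k := IsLocalRing.ResidueField A)
    ((Over.pullback (s₀ A)).obj G).hom ((Over.pullback (s₀ A)).obj X).hom q
  have e4 := localDim_bc A G.hom
    ((pullback.fst ((Over.pullback (s₀ A)).obj G).hom ((Over.pullback (s₀ A)).obj X).hom) q)
  have e4' := localDim_bc A X.hom
    ((pullback.snd ((Over.pullback (s₀ A)).obj G).hom ((Over.pullback (s₀ A)).obj X).hom) q)
  have e5 : (pullback.fst G.hom (s₀ A))
      ((pullback.fst ((Over.pullback (s₀ A)).obj G).hom ((Over.pullback (s₀ A)).obj X).hom) q) =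
      (fst G X).left ((pullback.fst (G ⊗ X).hom (s₀ A)) (μ'.left q)) := by
    have h := ActBC.μ_left_fst_fst (s₀ A) G X
    rw [← hμ'] at h
    have h2 := congrArg (fun f => f.base q) h
    simp only [Scheme.Hom.comp_base, TopCat.comp_app] at h2
    exact h2.symm
  have e5' : (pullback.fst X.hom (s₀ A))
      ((pullback.snd ((Over.pullback (s₀ A)).obj G).hom ((Over.pullback (s₀ A)).obj X).hom) q) =
      (snd G X).left ((pullback.fst (G ⊗ X).hom (s₀ A)) (μ'.left q)) := by
    have h := ActBC.μ_left_fst_snd (s₀ A) G X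
    rw [← hμ'] at h
    have h2 := congrArg (fun f => f.base q) h
    simp only [Scheme.Hom.comp_base, TopCat.comp_app] at h2
    exact h2.symm
  refine e1.trans (e2.trans (e3.trans ?_))
  exact congrArg₂ (· + ·) (e4.symm.trans (congrArg _ e5)) (e4'.symm.trans (congrArg _ e5'))

section act

variable {A}
variable {G X : Over (Spec (CommRingCat.of A))} [GrpObj G]

theorem isIso_tau (a : AlgGrp.Action G X) : IsIso (lift (fst G X) a.act) := by
  refine ⟨lift (fst G X) (lift (fst G X)⁻¹ (snd G X) ≫ a.act), ?_, ?_⟩
  · apply CartesianMonoidalCategory.hom_ext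
    · rw [Category.assoc, lift_fst, lift_fst, Category.id_comp]
    · rw [Category.assoc, lift_snd, ← Category.assoc, comp_lift, GrpObj.comp_inv, lift_fst,
        lift_snd, Category.id_comp]
      have h := act_mul' a (fst G X)⁻¹ (fst G X) (snd G X)
      rw [inv_mul_cancel, act_one' a, lift_fst_snd, Category.id_comp] at h
      exact h.symm
  · apply CartesianMonoidalCategory.hom_ext
    · rw [Category.assoc, lift_fst, lift_fst, Category.id_comp]
    · rw [Category.assoc, lift_snd, Category.id_comp]
      have h := act_mul' a (fst G X) (fst G X)⁻¹ (snd G X)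
      rw [mul_inv_cancel, act_one' a] at h
      exact h.symm

end act

theorem localDim_const (G X : Over (Spec (CommRingCat.of A))) [GrpObj G] [LocallyOfFiniteType G.hom]
    [LocallyOfFiniteType X.hom] (a : AlgGrp.Action G X)
    (hΦ : Surjective (lift a.act (snd G X)).left) (x y : X.left) :
    FlatMor.localDim ↥X.left x = FlatMor.localDim ↥X.left y := by
  haveI := subsingleton_base A
  obtain ⟨w, hw1, hw2⟩ := Scheme.Pullback.exists_preimage_pullback (f := X.hom) (g := X.hom) y x
    (Subsingleton.elim _ _)
  obtain ⟨z, hz⟩ := hΦ.surj w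
  have hact : a.act.left z = y := by
    have h : (lift a.act (snd G X) ≫ fst X X).left z = y := by
      rw [Over.comp_left, Scheme.Hom.comp_apply, hz]; exact hw1
    rwa [lift_fst] at h
  have hsnd : (snd G X).left z = x := by
    have h : (lift a.act (snd G X) ≫ snd X X).left z = x := by
      rw [Over.comp_left, Scheme.Hom.comp_apply, hz]; exact hw2
    rwa [lift_snd] at h
  obtain ⟨τ, hτ⟩ : ∃ τ : G ⊗ X ⟶ G ⊗ X, τ = lift (fst G X) a.act := ⟨_, rfl⟩
  haveI : IsIso τ := hτ ▸ isIso_tau a
  haveI : IsIso τ.left := (Over.forget _).map_isIso τ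
  have h1 : FlatMor.localDim ↥(G ⊗ X).left (τ.left z) = FlatMor.localDim ↥(G ⊗ X).left z :=
    FibLocH8.localDim_homeomorph (Scheme.homeoOfIso (asIso τ.left)) z
  rw [localDim_prod A G X, localDim_prod A G X] at h1
  have e1 : (fst G X).left (τ.left z) = (fst G X).left z := by
    rw [← Scheme.Hom.comp_apply, ← Over.comp_left, hτ, lift_fst]
  have e2 : (snd G X).left (τ.left z) = a.act.left z := by
    rw [← Scheme.Hom.comp_apply, ← Over.comp_left, hτ, lift_snd]
  rw [e1, e2, hact, hsnd] at h1
  obtain ⟨n, hn⟩ := exists_nat A G ((fst G X).left z)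
  rw [hn] at h1
  exact (wb_cancel n _ _ h1).symm

theorem main3033
    (G X : Over (Spec (CommRingCat.of A))) [GrpObj G] [LocallyOfFiniteType G.hom] [LocallyOfFiniteType X.hom]
    (a : AlgGrp.Action G X) (hΦ : Surjective (lift a.act (snd G X)).left) (x y : X.left) :
    topologicalKrullDim ↥(connectedComponent x) = topologicalKrullDim ↥(connectedComponent y) := by
  haveI : IsNoetherianRing (CommRingCat.of A) := inferInstanceAs (IsNoetherianRing A)
  haveI : IsLocallyNoetherian X.left := LocallyOfFiniteType.isLocallyNoetherian X.hom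
  haveI : LocallyConnectedSpace X.left := Groth.Agent.ConnDepth.locallyConnectedSpace_scheme
  have key : ∀ x : X.left,
      topologicalKrullDim ↥(connectedComponent x) = FlatMor.localDim ↥X.left x := by
    intro x
    have hopen : IsOpen (connectedComponent x) := isOpen_connectedComponent
    apply le_antisymm
    · apply topDim_le_of_localDim_le
      rintro ⟨c, hc⟩
      rw [localDim_open _ hopen c hc, localDim_const A G X a hΦ c x]
    · rw [← localDim_open _ hopen x mem_connectedComponent]
      exact localDim_le_topDim' _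
  rw [key x, key y]
  exact localDim_const A G X a hΦ x y

end Groth.Agent.Lib.HomogDim
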