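import Mathlib
import Groth.Prelude
import Groth.Agent.Lib.LimLQF_helper7
import Groth.Agent.Lib.Chev4_helper8
import Groth.Agent.Lib.FieldExt3_helper8

/-!
# Bounded fibre dimension descends to a stage of a cofiltered limit (helper7)
-/

set_option autoImplicit false
set_option backward.isDefEq.respectTransparency false
universe u v
open CategoryTheory CategoryTheory.Limits AlgebraicGeometry

namespace Groth.Agent.Lib.LimFibDimH7

open Groth.Agent.Lib.LimBaseChangeH7 Groth.Agent.Lib.LimIsoH7 Groth.Agent.Lib.LimLQFH7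

/-- Locally of finite type with all fibres of local dimension at most `d`. -/
def FibDimLE (d : ℕ) : MorphismProperty Scheme.{u} :=
  fun _ _ f => LocallyOfFiniteType f ∧ ∀ x, FlatMor.fibreDimAt f x ≤ d

instance (d : ℕ) : (FibDimLE.{u} d).IsStableUnderBaseChange where
  of_isPullback {X Y Y' S f g f' g'} sq hg := by
    obtain ⟨h1, h2⟩ := hg
    haveI := h1
    refine ⟨MorphismProperty.of_isPullback (P := @LocallyOfFiniteType) sq h1, fun x' => ?_⟩
    rw [FieldExtH8.fibreDimAt_baseChange g f f' g' sq x']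
    exact h2 _

instance (d : ℕ) : (FibDimLE.{u} d).RespectsIso :=
  MorphismProperty.IsStableUnderBaseChange.respectsIso

instance (d : ℕ) : IsZariskiLocalAtTarget (FibDimLE.{u} d) := by
  refine IsZariskiLocalAtTarget.mk' (fun f U hf => ?_) (fun {X Y} f ι U hU h => ?_)
  · exact MorphismProperty.of_isPullback (P := FibDimLE d) (isPullback_morphismRestrict f U).flip hf
  · haveI : LocallyOfFiniteType f :=
      IsZariskiLocalAtTarget.of_iSup_eq_top U hU (fun i => (h i).1)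
    refine ⟨inferInstance, fun x => ?_⟩
    have hx : f x ∈ (⊤ : Y.Opens) := trivial
    rw [← hU] at hx
    obtain ⟨i, hi⟩ := TopologicalSpace.Opens.mem_iSup.mp hx
    have e := FieldExtH8.fibreDimAt_baseChange f (U i).ι (f ⁻¹ᵁ U i).ι (f ∣_ U i)
      (isPullback_morphismRestrict f (U i)).flip ⟨x, hi⟩
    have e' : FlatMor.fibreDimAt f x = FlatMor.fibreDimAt (f ∣_ U i) ⟨x, hi⟩ := e.symm
    rw [e']
    exact (h i).2 _

/-- The open locus where the fibre dimension is at most `d`. -/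
def locus {X Y : Scheme.{u}} (f : X ⟶ Y) [LocallyOfFiniteType f] (d : ℕ) : X.Opens :=
  ⟨{x | FlatMor.fibreDimAt f x ≤ d}, ChevH8.isOpen_fibreDimAt_le f d⟩

lemma fibDimLE_iff_preimage_eq_top {X Y X₀ Y₀ : Scheme.{u}} {qX : X ⟶ X₀} {f : X ⟶ Y}
    {f₀ : X₀ ⟶ Y₀} {qY : Y ⟶ Y₀} (sq : IsPullback qX f f₀ qY) [LocallyOfFiniteType f₀] (d : ℕ) :
    FibDimLE d f ↔ qX ⁻¹ᵁ locus f₀ d = ⊤ := by
  haveI : LocallyOfFiniteType f :=
    MorphismProperty.of_isPullback (P := @LocallyOfFiniteType) sq inferInstance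
  constructor
  · rintro ⟨-, h⟩
    rw [eq_top_iff]
    intro x _
    show FlatMor.fibreDimAt f₀ (qX x) ≤ d
    rw [← FieldExtH8.fibreDimAt_baseChange f₀ qY qX f sq x]
    exact h x
  · intro h
    refine ⟨inferInstance, fun x => ?_⟩
    rw [FieldExtH8.fibreDimAt_baseChange f₀ qY qX f sq x]
    exact h.ge (Set.mem_univ x)

/-- Bounded fibre dimension spreads in from the limit to a stage (compact source, any stage). -/
theorem stage_fibDimLE (d : ℕ) {J : Type u} [SmallCategory J] [IsCofiltered J]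
    (E : J ⥤ Scheme.{u}) (cE : Cone E) (hcE : IsLimit cE)
    [∀ (i j : J) (f : i ⟶ j), IsAffineHom (E.map f)] (j₀ : J) {X₀ : Scheme.{u}}
    (f₀ : X₀ ⟶ E.obj j₀) [LocallyOfFiniteType f₀] [CompactSpace X₀]
    (hP : FibDimLE d (pullback.snd f₀ (cE.π.app j₀))) :
    ∃ (j : J) (φ : j ⟶ j₀), FibDimLE d (pullback.snd f₀ (E.map φ)) := by
  have hXpb := IsPullback.of_hasPullback f₀ (cE.π.app j₀)
  let i : Over j₀ := Over.mk (𝟙 j₀)
  let U : ((bcDiagram E j₀ f₀).obj i).Opens :=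
    (pullback.fst f₀ (E.map i.hom)) ⁻¹ᵁ locus f₀ d
  have hL : (pullback.fst f₀ (cE.π.app j₀)) ⁻¹ᵁ locus f₀ d = ⊤ :=
    (fibDimLE_iff_preimage_eq_top hXpb d).1 hP
  have hU : (bcCone cE hXpb).π.app i ⁻¹ᵁ U = ⊤ :=
    (preimage_preimage_eq _ _ _ (bcCone_π_fst cE hXpb i) _).trans hL
  obtain ⟨k, fki, hk⟩ := exists_map_eq_top (bcDiagram E j₀ f₀) (bcCone cE hXpb)
    (isLimitBcCone cE hXpb hcE) U hU
  refine ⟨k.left, k.hom, ?_⟩
  refine (fibDimLE_iff_preimage_eq_top (IsPullback.of_hasPullback f₀ (E.map k.hom)) d).2 ?_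
  exact (preimage_preimage_eq _ _ _ (bcDiagram_map_fst E j₀ f₀ fki) _).symm.trans hk

theorem affineStage_fibDimLE (d : ℕ) :
    AffineStage (FibDimLE.{u} d) (fun f => LocallyOfFiniteType f ∧ QuasiCompact f) := by
  intro J _ _ E cE hcE _ j₀ _ X₀ f₀ hf₀ hP
  obtain ⟨h1, h2⟩ := hf₀
  haveI : CompactSpace X₀ := QuasiCompact.compactSpace_of_compactSpace f₀
  exact stage_fibDimLE d E cE hcE j₀ f₀ hP

/-- **S9195**. -/
theorem main9195 {I : Type u} [SmallCategory I] [IsCofiltered I]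
    (D : I ⥤ Scheme.{u}) (c : Limits.Cone D) (hc : Limits.IsLimit c)
    [∀ (i j : I) (f : i ⟶ j), IsAffineHom (D.map f)] (i₀ : I)
    {X₀ Y₀ : Scheme.{u}} (f₀ : X₀ ⟶ Y₀) (g₀ : Y₀ ⟶ D.obj i₀)
    [CompactSpace X₀] [QuasiSeparatedSpace Y₀] [CompactSpace Y₀]
    [LocallyOfFiniteType f₀] (d : ℕ)
    {X Y : Scheme.{u}} (f : X ⟶ Y) (g : Y ⟶ c.pt) (qY : Y ⟶ Y₀) (qX : X ⟶ X₀)
    (hY : IsPullback qY g g₀ (c.π.app i₀)) (hX : IsPullback qX f f₀ qY)
    (hd : ∀ x : X, FlatMor.fibreDimAt f x ≤ d) :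
    ∃ (i : I) (φ : i ⟶ i₀) (Xi Yi : Scheme.{u}) (fi : Xi ⟶ Yi) (gi : Yi ⟶ D.obj i) (pY : Yi ⟶ Y₀)
      (pX : Xi ⟶ X₀), IsPullback pY gi g₀ (D.map φ) ∧ IsPullback pX fi f₀ pY ∧
        ∀ x : Xi, FlatMor.fibreDimAt fi x ≤ d := by
  haveI : LocallyOfFiniteType f :=
    MorphismProperty.of_isPullback (P := @LocallyOfFiniteType) hX inferInstance
  haveI : QuasiCompact f₀ := quasiCompact_of_compactSpace f₀
  obtain ⟨i, φ, Xi, Yi, fi, gi, pY, pX, h1, h2, h3⟩ :=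
    Groth.Agent.Lib.LimDescendH7.exists_descend (P := FibDimLE d)
      (H := fun f => LocallyOfFiniteType f ∧ QuasiCompact f)
      (affineStage_fibDimLE d)
      (fun f g h => hH_lft_qc f g h)
      D c hc i₀ f₀ g₀ ⟨inferInstance, inferInstance⟩ f g qY qX hY hX ⟨inferInstance, hd⟩
  exact ⟨i, φ, Xi, Yi, fi, gi, pY, pX, h1, h2, h3.2⟩

end Groth.Agent.Lib.LimFibDimH7
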