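import Mathlib
import Groth.Prelude
import Groth.Agent.Lib.LimFibDim_helper7
import Groth.Agent.Lib.Retro1_helper8
import Groth.Agent.Lib.AffDim10_helper8
import Groth.Agent.Lib.FibCoh4_helper8
import Groth.Agent.Lib.RelDim2Old_helper8

/-!
# Relative dimension `d` descends to a stage of a cofiltered limit (helper7)
-/

set_option autoImplicit false
set_option backward.isDefEq.respectTransparency false
set_option linter.style.haveILetI false
universe u v
open CategoryTheory CategoryTheory.Limits AlgebraicGeometry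

namespace Groth.Agent.Lib.LimRelDimH7

open Groth.Agent.Lib.LimBaseChangeH7 Groth.Agent.Lib.LimIsoH7 Groth.Agent.Lib.LimLQFH7
  Groth.Agent.Lib.LimFibDimH7

lemma succ_le_of_not_le (a : WithBot ℕ∞) (e : ℕ) (h : ¬ a ≤ (e : WithBot ℕ∞)) :
    ((e + 1 : ℕ) : WithBot ℕ∞) ≤ a := by
  induction a using WithBot.recBotCoe with
  | bot => exact absurd bot_le h
  | coe a =>
    induction a using ENat.recTopCoe with
    | top => exact_mod_cast (le_top : ((e + 1 : ℕ) : ℕ∞) ≤ ⊤)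
    | coe n =>
      have h1 : ¬ n ≤ e := fun hn => h (by exact_mod_cast hn)
      have h2 : e + 1 ≤ n := by omega
      exact_mod_cast h2

/-- Locally of finite type with all fibres of local dimension strictly bigger than `e`. -/
def FibDimGT (e : ℕ) : MorphismProperty Scheme.{u} :=
  fun _ _ f => LocallyOfFiniteType f ∧ ∀ x, ¬ FlatMor.fibreDimAt f x ≤ e

instance (e : ℕ) : (FibDimGT.{u} e).IsStableUnderBaseChange where
  of_isPullback {X Y Y' S f g f' g'} sq hg := by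
    obtain ⟨h1, h2⟩ := hg
    haveI := h1
    refine ⟨MorphismProperty.of_isPullback (P := @LocallyOfFiniteType) sq h1, fun x' => ?_⟩
    rw [FieldExtH8.fibreDimAt_baseChange g f f' g' sq x']
    exact h2 _

instance (e : ℕ) : (FibDimGT.{u} e).RespectsIso :=
  MorphismProperty.IsStableUnderBaseChange.respectsIso

/-- Locally of finite type with all fibres of local dimension exactly `d`. -/
def FibDimEq (d : ℕ) : MorphismProperty Scheme.{u} :=
  fun _ _ f => LocallyOfFiniteType f ∧ ∀ x, FlatMor.fibreDimAt f x = d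

instance (d : ℕ) : (FibDimEq.{u} d).IsStableUnderBaseChange where
  of_isPullback {X Y Y' S f g f' g'} sq hg := by
    obtain ⟨h1, h2⟩ := hg
    haveI := h1
    refine ⟨MorphismProperty.of_isPullback (P := @LocallyOfFiniteType) sq h1, fun x' => ?_⟩
    rw [FieldExtH8.fibreDimAt_baseChange g f f' g' sq x']
    exact h2 _

instance (d : ℕ) : (FibDimEq.{u} d).RespectsIso :=
  MorphismProperty.IsStableUnderBaseChange.respectsIso

instance (d : ℕ) : IsZariskiLocalAtTarget (FibDimEq.{u} d) := by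
  refine IsZariskiLocalAtTarget.mk' (fun f U hf => ?_) (fun {X Y} f ι U hU h => ?_)
  · exact MorphismProperty.of_isPullback (P := FibDimEq d) (isPullback_morphismRestrict f U).flip hf
  · haveI : LocallyOfFiniteType f :=
      IsZariskiLocalAtTarget.of_iSup_eq_top U hU (fun i => (h i).1)
    refine ⟨inferInstance, fun x => ?_⟩
    have hx : f x ∈ (⊤ : Y.Opens) := trivial
    rw [← hU] at hx
    obtain ⟨i, hi⟩ := TopologicalSpace.Opens.mem_iSup.mp hx
    have e := FieldExtH8.fibreDimAt_baseChange f (U i).ι (f ⁻¹ᵁ U i).ι (f ∣_ U i)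
      (isPullback_morphismRestrict f (U i)).flip ⟨x, hi⟩
    have e' : FlatMor.fibreDimAt f x = FlatMor.fibreDimAt (f ∣_ U i) ⟨x, hi⟩ := e.symm
    rw [e']
    exact (h i).2 _

lemma fibDimGT_iff_preimage_eq_bot {X Y X₀ Y₀ : Scheme.{u}} {qX : X ⟶ X₀} {f : X ⟶ Y}
    {f₀ : X₀ ⟶ Y₀} {qY : Y ⟶ Y₀} (sq : IsPullback qX f f₀ qY) [LocallyOfFiniteType f₀] (e : ℕ) :
    FibDimGT e f ↔ qX ⁻¹ᵁ locus f₀ e = ⊥ := by
  haveI : LocallyOfFiniteType f :=
    MorphismProperty.of_isPullback (P := @LocallyOfFiniteType) sq inferInstance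
  constructor
  · rintro ⟨-, h⟩
    rw [eq_bot_iff]
    intro x hx
    have hx' : FlatMor.fibreDimAt f₀ (qX x) ≤ e := hx
    rw [← FieldExtH8.fibreDimAt_baseChange f₀ qY qX f sq x] at hx'
    exact absurd hx' (h x)
  · intro h
    refine ⟨inferInstance, fun x hx => ?_⟩
    rw [FieldExtH8.fibreDimAt_baseChange f₀ qY qX f sq x] at hx
    have hx' : x ∈ qX ⁻¹ᵁ locus f₀ e := hx
    rw [h] at hx'
    exact hx'

/-- Fibre dimension `> e` spreads in from the limit to a stage. -/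
theorem stage_fibDimGT (e : ℕ) {J : Type u} [SmallCategory J] [IsCofiltered J]
    (E : J ⥤ Scheme.{u}) (cE : Cone E) (hcE : IsLimit cE)
    [∀ (i j : J) (f : i ⟶ j), IsAffineHom (E.map f)] (j₀ : J) {X₀ : Scheme.{u}}
    (f₀ : X₀ ⟶ E.obj j₀) [LocallyOfFinitePresentation f₀] [CompactSpace X₀]
    (hP : FibDimGT e (pullback.snd f₀ (cE.π.app j₀))) :
    ∃ (j : J) (φ : j ⟶ j₀), FibDimGT e (pullback.snd f₀ (E.map φ)) := by
  have hXpb := IsPullback.of_hasPullback f₀ (cE.π.app j₀)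
  let i : Over j₀ := Over.mk (𝟙 j₀)
  let U : ((bcDiagram E j₀ f₀).obj i).Opens :=
    (pullback.fst f₀ (E.map i.hom)) ⁻¹ᵁ locus f₀ e
  have hcomp : IsCompact (locus f₀ e : Set X₀) := by
    have := RetroH8.isRetrocompact_fibreDimAt_le f₀ e isCompact_univ isOpen_univ
    rw [Set.inter_univ] at this
    exact this
  have hUc : IsCompact (U : Set ((bcDiagram E j₀ f₀).obj i)) :=
    QuasiCompact.isCompact_preimage (f := pullback.fst f₀ (E.map i.hom)) _ (locus f₀ e).2 hcomp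
  have hL : (pullback.fst f₀ (cE.π.app j₀)) ⁻¹ᵁ locus f₀ e = ⊥ :=
    (fibDimGT_iff_preimage_eq_bot hXpb e).1 hP
  have hU : (bcCone cE hXpb).π.app i ⁻¹ᵁ U ≤ (bcCone cE hXpb).π.app i ⁻¹ᵁ ⊥ := by
    rw [(preimage_preimage_eq _ _ _ (bcCone_π_fst cE hXpb i) _).trans hL]
    exact bot_le
  obtain ⟨k, fki, hk⟩ := exists_map_preimage_le_map_preimage (bcDiagram E j₀ f₀) (bcCone cE hXpb)
    (isLimitBcCone cE hXpb hcE) hUc hU
  refine ⟨k.left, k.hom, ?_⟩
  refine (fibDimGT_iff_preimage_eq_bot (IsPullback.of_hasPullback f₀ (E.map k.hom)) e).2 ?_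
  rw [eq_bot_iff]
  intro x hx
  have hx' : x ∈ (bcDiagram E j₀ f₀).map fki ⁻¹ᵁ U := by
    rw [preimage_preimage_eq _ _ _ (bcDiagram_map_fst E j₀ f₀ fki) _]
    exact hx
  exact (Set.notMem_empty _ (hk hx')).elim

/-- Fibre dimension `= d` spreads in from the limit to a stage. -/
theorem stage_fibDimEq (d : ℕ) {J : Type u} [SmallCategory J] [IsCofiltered J]
    (E : J ⥤ Scheme.{u}) (cE : Cone E) (hcE : IsLimit cE)
    [∀ (i j : J) (f : i ⟶ j), IsAffineHom (E.map f)] (j₀ : J) {X₀ : Scheme.{u}}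
    (f₀ : X₀ ⟶ E.obj j₀) [LocallyOfFinitePresentation f₀] [CompactSpace X₀]
    (hP : FibDimEq d (pullback.snd f₀ (cE.π.app j₀))) :
    ∃ (j : J) (φ : j ⟶ j₀), FibDimEq d (pullback.snd f₀ (E.map φ)) := by
  obtain ⟨j₁, φ₁, h₁⟩ := stage_fibDimLE d E cE hcE j₀ f₀ ⟨hP.1, fun x => (hP.2 x).le⟩
  cases d with
  | zero =>
    haveI := h₁.1
    exact ⟨j₁, φ₁, h₁.1, fun x => le_antisymm (h₁.2 x)
      (Groth.Agent.Lib.AffDimH8.fibreDimAt_nonneg _ x)⟩
  | succ e =>
    have hGT : FibDimGT e (pullback.snd f₀ (cE.π.app j₀)) := by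
      refine ⟨hP.1, fun x hx => ?_⟩
      rw [hP.2 x] at hx
      have : (e + 1 : ℕ) ≤ e := by exact_mod_cast hx
      omega
    obtain ⟨j₂, φ₂, h₂⟩ := stage_fibDimGT e E cE hcE j₀ f₀ hGT
    obtain ⟨m, ψ₁, ψ₂, hψ⟩ := IsCofiltered.cospan φ₁ φ₂
    refine ⟨m, ψ₁ ≫ φ₁, ?_⟩
    have a₁ := snd_comp (P := FibDimLE (e + 1)) f₀ (E.map φ₁) (E.map ψ₁) h₁
    have a₂ := snd_comp (P := FibDimGT e) f₀ (E.map φ₂) (E.map ψ₂) h₂
    rw [← E.map_comp] at a₁ a₂
    rw [← hψ] at a₂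
    exact ⟨a₁.1, fun x => le_antisymm (a₁.2 x) (succ_le_of_not_le _ e (a₂.2 x))⟩

theorem affineStage_fibDimEq (d : ℕ) :
    AffineStage (FibDimEq.{u} d) (fun f => LocallyOfFinitePresentation f ∧ QuasiCompact f) := by
  intro J _ _ E cE hcE _ j₀ _ X₀ f₀ hf₀ hP
  obtain ⟨h1, h2⟩ := hf₀
  haveI : CompactSpace X₀ := QuasiCompact.compactSpace_of_compactSpace f₀
  exact stage_fibDimEq d E cE hcE j₀ f₀ hP

theorem hH_lfp_qc {X Y Z : Scheme.{u}} (f : X ⟶ Z) (g : Y ⟶ Z)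
    (h : LocallyOfFinitePresentation f ∧ QuasiCompact f) :
    LocallyOfFinitePresentation (pullback.snd f g) ∧ QuasiCompact (pullback.snd f g) := by
  obtain ⟨h1, h2⟩ := h
  exact ⟨inferInstance, inferInstance⟩

/-- **S9196**. -/
theorem main9196 {I : Type u} [SmallCategory I] [IsCofiltered I]
    (D : I ⥤ Scheme.{u}) (c : Limits.Cone D) (hc : Limits.IsLimit c)
    [∀ (i j : I) (f : i ⟶ j), IsAffineHom (D.map f)] (i₀ : I)
    {X₀ Y₀ : Scheme.{u}} (f₀ : X₀ ⟶ Y₀) (g₀ : Y₀ ⟶ D.obj i₀)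
    [CompactSpace X₀] [QuasiSeparatedSpace Y₀] [CompactSpace Y₀]
    [LocallyOfFinitePresentation f₀] (d : ℕ)
    {X Y : Scheme.{u}} (f : X ⟶ Y) (g : Y ⟶ c.pt) (qY : Y ⟶ Y₀) (qX : X ⟶ X₀)
    (hY : IsPullback qY g g₀ (c.π.app i₀)) (hX : IsPullback qX f f₀ qY)
    (hd : Cyc.HasRelDim f d) :
    ∃ (i : I) (φ : i ⟶ i₀) (Xi Yi : Scheme.{u}) (fi : Xi ⟶ Yi) (gi : Yi ⟶ D.obj i) (pY : Yi ⟶ Y₀)
      (pX : Xi ⟶ X₀), IsPullback pY gi g₀ (D.map φ) ∧ IsPullback pX fi f₀ pY ∧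
        Cyc.HasRelDim fi d := by
  haveI : LocallyOfFiniteType f :=
    MorphismProperty.of_isPullback (P := @LocallyOfFiniteType) hX inferInstance
  haveI : QuasiCompact f₀ := quasiCompact_of_compactSpace f₀
  have hd' : ∀ x : X, FlatMor.fibreDimAt f x = d := fun x =>
    RelDimLocH8.localDim_fiber_eq f (f x) d (hd (f x)) (f.asFiber x)
  obtain ⟨i, φ, Xi, Yi, fi, gi, pY, pX, h1, h2, h3⟩ :=
    Groth.Agent.Lib.LimDescendH7.exists_descend (P := FibDimEq d)
      (H := fun f => LocallyOfFinitePresentation f ∧ QuasiCompact f)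
      (affineStage_fibDimEq d)
      (fun f g h => hH_lfp_qc f g h)
      D c hc i₀ f₀ g₀ ⟨inferInstance, inferInstance⟩ f g qY qX hY hX ⟨inferInstance, hd'⟩
  haveI := h3.1
  exact ⟨i, φ, Xi, Yi, fi, gi, pY, pX, h1, h2,
    FibCohH8.hasRelDim_of_forall_fibreDimAt fi d h3.2⟩

end Groth.Agent.Lib.LimRelDimH7
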