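import Mathlib
import Groth.Prelude
import Groth.Agent.Lib.LimRelDim_helper7
import Groth.Agent.Lib.LimSurj_helper7
import Groth.Agent.Lib.LimDescFP4_helper7
import Groth.Agent.Lib.LimDescFP6_helper7
import Groth.Agent.Lib.HomogDim_lead

/-!
# All fibres of dimension exactly `d`: spreading out and Noetherian approximation (helper7)

* `FibHasGE d`: locally of finite type and every fibre contains a point of local fibre dimension
  at least `d`.
* `descendsProp_fibHasGE`, `descendsProp_fibDimLE`, `descendsProp_isAffineHom`.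
* `main1464`: a finitely presented morphism of affine schemes all of whose fibres have dimension `d`
  is the base change of such a morphism over a finite type `ℤ`-algebra.
-/

set_option autoImplicit false
set_option backward.isDefEq.respectTransparency false
set_option linter.style.haveILetI false
universe u
open CategoryTheory CategoryTheory.Limits AlgebraicGeometry Topology

namespace Groth.Agent.Lib.LimFibDimAllH7

open Groth.Agent.Lib.LimBaseChangeH7 Groth.Agent.Lib.LimIsoH7 Groth.Agent.Lib.LimLQFH7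
  Groth.Agent.Lib.LimFibDimH7 Groth.Agent.Lib.LimRelDimH7 Groth.Agent.Lib.LimDescFPH7
  Groth.Agent.Lib.LimDescendH7 Groth.Agent.Lib.LimSurjH7

/-- Locally of finite type, and every fibre has a point of local fibre dimension at least `d`. -/
def FibHasGE (d : ℕ) : MorphismProperty Scheme.{u} :=
  fun _ _ f => LocallyOfFiniteType f ∧
    ∀ s, ∃ x, f x = s ∧ (d : WithBot ℕ∞) ≤ FlatMor.fibreDimAt f x

instance (d : ℕ) : (FibHasGE.{u} d).IsStableUnderBaseChange where
  of_isPullback {X Y Y' S f g f' g'} sq hg := by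
    obtain ⟨h1, h2⟩ := hg
    haveI := h1
    refine ⟨MorphismProperty.of_isPullback (P := @LocallyOfFiniteType) sq h1, fun s' => ?_⟩
    obtain ⟨y, hy, hyd⟩ := h2 (f s')
    obtain ⟨p, hp1, hp2⟩ := Scheme.exists_preimage_of_isPullback sq y s' hy
    refine ⟨p, hp2, ?_⟩
    rw [FieldExtH8.fibreDimAt_baseChange g f f' g' sq p]
    have : f' p = y := hp1
    rw [this]
    exact hyd

instance (d : ℕ) : (FibHasGE.{u} d).RespectsIso :=
  MorphismProperty.IsStableUnderBaseChange.respectsIso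

instance (d : ℕ) : IsZariskiLocalAtTarget (FibHasGE.{u} d) := by
  refine IsZariskiLocalAtTarget.mk' (fun f U hf => ?_) (fun {X Y} f ι U hU h => ?_)
  · exact MorphismProperty.of_isPullback (P := FibHasGE d) (isPullback_morphismRestrict f U).flip hf
  · haveI : LocallyOfFiniteType f :=
      IsZariskiLocalAtTarget.of_iSup_eq_top U hU (fun i => (h i).1)
    refine ⟨inferInstance, fun s => ?_⟩
    have hs : s ∈ (⊤ : Y.Opens) := trivial
    rw [← hU] at hs
    obtain ⟨i, hi⟩ := TopologicalSpace.Opens.mem_iSup.mp hs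
    obtain ⟨x', hx', hxd⟩ := (h i).2 ⟨s, hi⟩
    refine ⟨(f ⁻¹ᵁ U i).ι x', ?_, ?_⟩
    · have h1 : f ((f ⁻¹ᵁ U i).ι x') = (U i).ι ((f ∣_ U i) x') := by
        rw [← Scheme.Hom.comp_apply, ← Scheme.Hom.comp_apply, morphismRestrict_ι]
      rw [h1, hx']
      rfl
    · have e := FieldExtH8.fibreDimAt_baseChange f (U i).ι (f ⁻¹ᵁ U i).ι (f ∣_ U i)
        (isPullback_morphismRestrict f (U i)).flip x'
      rw [← e]
      exact hxd

/-- The closed locus of points of fibre dimension at least `d` is constructible. -/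
theorem isConstructible_fibreDimAt_ge {X S : Scheme.{u}} (f : X ⟶ S)
    [LocallyOfFinitePresentation f] (d : ℕ) :
    IsConstructible {x : X | (d : WithBot ℕ∞) ≤ FlatMor.fibreDimAt f x} := by
  cases d with
  | zero =>
    have : {x : X | ((0 : ℕ) : WithBot ℕ∞) ≤ FlatMor.fibreDimAt f x} = Set.univ := by
      ext x
      simp only [Set.mem_setOf_eq, Set.mem_univ, iff_true]
      exact Groth.Agent.Lib.AffDimH8.fibreDimAt_nonneg f x
    rw [this]
    exact IsConstructible.univ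
  | succ e =>
    have : {x : X | ((e + 1 : ℕ) : WithBot ℕ∞) ≤ FlatMor.fibreDimAt f x} =
        {x : X | FlatMor.fibreDimAt f x ≤ (e : WithBot ℕ∞)}ᶜ := by
      ext x
      simp only [Set.mem_setOf_eq, Set.mem_compl_iff]
      constructor
      · intro h1 h2
        have : ((e + 1 : ℕ) : WithBot ℕ∞) ≤ (e : WithBot ℕ∞) := h1.trans h2
        have : (e + 1 : ℕ) ≤ e := by exact_mod_cast this
        omega
      · intro h
        exact succ_le_of_not_le _ e h
    rw [this]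
    exact ((RetroH8.isRetrocompact_fibreDimAt_le f e).isConstructible
      (ChevH8.isOpen_fibreDimAt_le f e)).compl

theorem fibHasGE_snd_iff (d : ℕ) {X₀ Y₀ T : Scheme.{u}} (f₀ : X₀ ⟶ Y₀)
    [LocallyOfFinitePresentation f₀] (g : T ⟶ Y₀) :
    FibHasGE d (pullback.snd f₀ g) ↔
      g ⁻¹' (f₀ '' {x : X₀ | (d : WithBot ℕ∞) ≤ FlatMor.fibreDimAt f₀ x})ᶜ = ∅ := by
  have sq := IsPullback.of_hasPullback f₀ g
  have himg := Scheme.image_preimage_eq_of_isPullback sq
    {x : X₀ | (d : WithBot ℕ∞) ≤ FlatMor.fibreDimAt f₀ x}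
  have hdim : ∀ x : ↥(pullback f₀ g), FlatMor.fibreDimAt (pullback.snd f₀ g) x =
      FlatMor.fibreDimAt f₀ (pullback.fst f₀ g x) := fun x =>
    FieldExtH8.fibreDimAt_baseChange f₀ g (pullback.fst f₀ g) (pullback.snd f₀ g) sq x
  constructor
  · rintro ⟨-, h⟩
    rw [Set.preimage_compl, Set.compl_empty_iff, Set.eq_univ_iff_forall]
    intro s
    obtain ⟨x, hx, hxd⟩ := h s
    have : s ∈ (pullback.snd f₀ g) '' ((pullback.fst f₀ g) ⁻¹'
        {x : X₀ | (d : WithBot ℕ∞) ≤ FlatMor.fibreDimAt f₀ x}) := by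
      refine ⟨x, ?_, hx⟩
      show (d : WithBot ℕ∞) ≤ FlatMor.fibreDimAt f₀ (pullback.fst f₀ g x)
      rw [← hdim]
      exact hxd
    exact himg ▸ this
  · intro h
    refine ⟨inferInstance, fun s => ?_⟩
    have hs : s ∈ g ⁻¹' (f₀ '' {x : X₀ | (d : WithBot ℕ∞) ≤ FlatMor.fibreDimAt f₀ x}) := by
      by_contra hs
      have : s ∈ g ⁻¹' (f₀ '' {x : X₀ | (d : WithBot ℕ∞) ≤ FlatMor.fibreDimAt f₀ x})ᶜ := hs
      rw [h] at this
      exact this
    have hs' : s ∈ (pullback.snd f₀ g) '' ((pullback.fst f₀ g) ⁻¹'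
        {x : X₀ | (d : WithBot ℕ∞) ≤ FlatMor.fibreDimAt f₀ x}) := himg ▸ hs
    obtain ⟨x, hx, hxs⟩ := hs'
    refine ⟨x, hxs, ?_⟩
    rw [hdim]
    exact hx

/-- "Every fibre has a point of fibre dimension `≥ d`" spreads in from the limit to a stage. -/
theorem stage_fibHasGE (d : ℕ) {J : Type u} [SmallCategory J] [IsCofiltered J]
    (E : J ⥤ Scheme.{u}) (cE : Cone E) (hcE : IsLimit cE)
    [∀ (i j : J) (f : i ⟶ j), IsAffineHom (E.map f)] (j₀ : J) [CompactSpace (E.obj j₀)]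
    [QuasiSeparatedSpace (E.obj j₀)] {X₀ : Scheme.{u}}
    (f₀ : X₀ ⟶ E.obj j₀) [LocallyOfFinitePresentation f₀] [QuasiCompact f₀]
    (hP : FibHasGE d (pullback.snd f₀ (cE.π.app j₀))) :
    ∃ (j : J) (φ : j ⟶ j₀), FibHasGE d (pullback.snd f₀ (E.map φ)) := by
  have hW : IsConstructible
      (f₀ '' {x : X₀ | (d : WithBot ℕ∞) ≤ FlatMor.fibreDimAt f₀ x})ᶜ :=
    (f₀.isConstructible_image (isConstructible_fibreDimAt_ge f₀ d)).compl
  obtain ⟨j, φ, hj⟩ := exists_preimage_eq_empty E cE hcE j₀ hW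
    ((fibHasGE_snd_iff d f₀ (cE.π.app j₀)).1 hP)
  exact ⟨j, φ, (fibHasGE_snd_iff d f₀ (E.map φ)).2 hj⟩

theorem affineStage_fibHasGE (d : ℕ) :
    AffineStage (FibHasGE.{u} d) (fun f => LocallyOfFinitePresentation f ∧ QuasiCompact f) := by
  intro J _ _ E cE hcE _ j₀ _ X₀ f₀ hf₀ hP
  obtain ⟨h1, h2⟩ := hf₀
  exact stage_fibHasGE d E cE hcE j₀ f₀ hP

theorem descendsProp_fibHasGE (d : ℕ) : DescendsProp.{u} (FibHasGE d) := by
  intro I _ _ D c hc _ i₀ _ _ X₀ Y₀ f₀ g₀ _ _ _ _ _ X Y f g qY qX hY hX hP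
  haveI : QuasiCompact f₀ := quasiCompact_of_compactSpace f₀
  exact Groth.Agent.Lib.LimDescendH7.exists_descend (P := FibHasGE d)
    (H := fun f => LocallyOfFinitePresentation f ∧ QuasiCompact f)
    (affineStage_fibHasGE d) (fun f g h => hH_lfp_qc f g h)
    D c hc i₀ f₀ g₀ ⟨inferInstance, inferInstance⟩ f g qY qX hY hX hP

theorem descendsProp_fibDimLE (d : ℕ) : DescendsProp.{u} (FibDimLE d) := by
  intro I _ _ D c hc _ i₀ _ _ X₀ Y₀ f₀ g₀ _ _ _ _ _ X Y f g qY qX hY hX hP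
  obtain ⟨i, φ, Xi, Yi, fi, gi, pY, pX, h1, h2, h3⟩ :=
    main9195 D c hc i₀ f₀ g₀ d f g qY qX hY hX hP.2
  refine ⟨i, φ, Xi, Yi, fi, gi, pY, pX, h1, h2, ?_, h3⟩
  haveI : LocallyOfFinitePresentation fi :=
    MorphismProperty.of_isPullback (P := @LocallyOfFinitePresentation) h2 inferInstance
  infer_instance

theorem descendsProp_isAffineHom : DescendsProp.{u} @IsAffineHom := by
  intro I _ _ D c hc _ i₀ _ _ X₀ Y₀ f₀ g₀ _ _ _ _ _ X Y f g qY qX hY hX hP
  haveI : QuasiCompact f₀ := quasiCompact_of_compactSpace f₀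
  haveI : QuasiSeparated f₀ := QuasiSeparated.of_quasiSeparatedSpace f₀
  exact Groth.Agent.Lib.LimDescendH7.exists_descend (P := @IsAffineHom)
    (H := fun f => QuasiCompact f ∧ QuasiSeparated f)
    affineStage_isAffineHom (fun f g h => hH_qcqs f g h)
    D c hc i₀ f₀ g₀ ⟨inferInstance, inferInstance⟩ f g qY qX hY hX hP

section Top

variable {T : Type*} [TopologicalSpace T]

theorem exists_localDim_ge_of_topDim_eq (d : ℕ) (h : topologicalKrullDim T = d)
    (hnn : ∀ t : T, ((0 : ℕ) : WithBot ℕ∞) ≤ FlatMor.localDim T t) :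
    ∃ t : T, (d : WithBot ℕ∞) ≤ FlatMor.localDim T t := by
  by_contra H0
  have H : ∀ t : T, ¬ (d : WithBot ℕ∞) ≤ FlatMor.localDim T t := fun t ht => H0 ⟨t, ht⟩
  clear H0
  cases d with
  | zero =>
    have h1 : topologicalKrullDim T ≤ ⊥ :=
      Groth.Agent.Lib.HomogDim.topDim_le_of_localDim_le (fun t => absurd (hnn t) (H t))
    rw [h] at h1
    exact WithBot.coe_ne_bot (le_bot_iff.mp h1)
  | succ e =>
    have h1 : topologicalKrullDim T ≤ (e : WithBot ℕ∞) :=
      Groth.Agent.Lib.HomogDim.topDim_le_of_localDim_le (fun t => by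
        by_contra h2
        exact H t (succ_le_of_not_le _ e h2))
    rw [h] at h1
    have : (e + 1 : ℕ) ≤ e := by exact_mod_cast h1
    omega

end Top

theorem fibDim_props_of_forall_topDim_eq {X S : Scheme.{u}} (f : X ⟶ S) [LocallyOfFiniteType f]
    (d : ℕ) (hd : ∀ s : S, topologicalKrullDim ↑(f.fiber s) = d) :
    FibDimLE d f ∧ FibHasGE d f := by
  refine ⟨⟨inferInstance, fun x => ?_⟩, ⟨inferInstance, fun s => ?_⟩⟩
  · have := Groth.Agent.Lib.HomogDim.localDim_le_topDim' (T := ↑(f.fiber (f x))) (f.asFiber x)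
    rw [hd] at this
    exact this
  · obtain ⟨z, hz⟩ := exists_localDim_ge_of_topDim_eq (T := ↑(f.fiber s)) d (hd s) (fun z => by
      rw [FieldExtH8.localDim_fiber_eq_fibreDimAt f s z _ rfl]
      exact Groth.Agent.Lib.AffDimH8.fibreDimAt_nonneg f _)
    refine ⟨f.fiberι s z, Groth.Agent.FibRes2H8.fiberι_mem f s z, ?_⟩
    rw [← FieldExtH8.localDim_fiber_eq_fibreDimAt f s z _ rfl]
    exact hz

theorem forall_topDim_eq_of_fibDim_props {X S : Scheme.{u}} (f : X ⟶ S) (d : ℕ)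
    (h1 : FibDimLE d f) (h2 : FibHasGE d f) (s : S) :
    topologicalKrullDim ↑(f.fiber s) = d := by
  apply le_antisymm
  · refine Groth.Agent.Lib.HomogDim.topDim_le_of_localDim_le (fun z => ?_)
    rw [FieldExtH8.localDim_fiber_eq_fibreDimAt f s z _ rfl]
    exact h1.2 _
  · obtain ⟨x, hx, hxd⟩ := h2.2 s
    subst hx
    refine hxd.trans ?_
    exact Groth.Agent.Lib.HomogDim.localDim_le_topDim' (T := ↑(f.fiber (f x))) (f.asFiber x)

/-- **S1464**. -/
theorem main1464 {X S : Scheme.{u}} (f : X ⟶ S) [IsAffine X] [IsAffine S]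
    [LocallyOfFinitePresentation f] (d : ℕ)
    (hd : ∀ s : S, topologicalKrullDim ↑(f.fiber s) = d) :
    ∃ (X₀ S₀ : Scheme.{u}) (f₀ : X₀ ⟶ S₀) (g : S ⟶ S₀) (g' : X ⟶ X₀), IsAffine X₀ ∧ IsAffine S₀ ∧
      IsPullback g' f f₀ g ∧ Algebra.FiniteType ℤ Γ(S₀, ⊤) ∧ LocallyOfFiniteType f₀ ∧
      ∀ s₀ : S₀, topologicalKrullDim ↑(f₀.fiber s₀) = d := by
  obtain ⟨hLE, hGE⟩ := fibDim_props_of_forall_topDim_eq f d hd
  let e : S ≅ Spec (CommRingCat.of ↑Γ(S, ⊤)) := S.isoSpec
  let f' : X ⟶ Spec (CommRingCat.of ↑Γ(S, ⊤)) := f ≫ e.hom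
  haveI : LocallyOfFinitePresentation f' := inferInstanceAs (LocallyOfFinitePresentation (f ≫ e.hom))
  haveI : IsAffineHom f' := inferInstanceAs (IsAffineHom (f ≫ e.hom))
  have hP : (@IsAffineHom ⊓ (FibDimLE.{u} d ⊓ FibHasGE.{u} d) : MorphismProperty Scheme.{u}) f' :=
    ⟨inferInstance, (MorphismProperty.cancel_right_of_respectsIso (FibDimLE.{u} d) f e.hom).2 hLE,
      (MorphismProperty.cancel_right_of_respectsIso (FibHasGE.{u} d) f e.hom).2 hGE⟩
  obtain ⟨A₀, hfg, X₀, f₀, g, hP₀, hlfp, hqc, hpb⟩ :=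
    exists_model_fg (DescendsProp.inf descendsProp_isAffineHom
      (DescendsProp.inf (descendsProp_fibDimLE d) (descendsProp_fibHasGE d))) ↑Γ(S, ⊤) f' hP
  obtain ⟨hAff, hLE₀, hGE₀⟩ : IsAffineHom f₀ ∧ FibDimLE d f₀ ∧ FibHasGE d f₀ := hP₀
  refine ⟨X₀, Spec (CommRingCat.of ↥A₀), f₀,
    e.hom ≫ Spec.map (CommRingCat.ofHom (algebraMap (↥A₀) ↑Γ(S, ⊤))), g, ?_, inferInstance, ?_, ?_,
    hLE₀.1, fun s₀ => forall_topDim_eq_of_fibDim_props f₀ d hLE₀ hGE₀ s₀⟩
  · exact isAffine_of_isAffineHom f₀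
  · exact IsPullback.of_iso hpb (Iso.refl _) (Iso.refl _) e.symm (Iso.refl _)
      (by simp) (by simp [f']) (by simp) (by simp)
  · have h1 : Algebra.FiniteType ℤ ↥A₀ := (Subalgebra.fg_iff_finiteType A₀).1 hfg
    exact Algebra.FiniteType.equiv h1
      (Scheme.ΓSpecIso (CommRingCat.of ↥A₀)).commRingCatIsoToRingEquiv.symm.toIntAlgEquiv

end Groth.Agent.Lib.LimFibDimAllH7
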