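import Mathlib

/-!
# Idempotents of `S[1/ϖ]` extend to `S` when `S/ϖ` is reduced and `V(ϖ)` lies in the closure of
`D(ϖ)` (helper8).  Consequence: disjoint clopen pieces of `D(ϖ)` have disjoint closures.
APPEND-ONLY once landed.
-/

set_option autoImplicit false
set_option linter.all false
set_option maxHeartbeats 1600000

universe u

open CategoryTheory AlgebraicGeometry CategoryTheory.Limits Topology IsLocalRing

namespace Groth.Agent.Lib.IdemExtH8

variable {S : Type*} [CommRing S] (ϖ : S)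

theorem idem_lift (hred : (Ideal.span {ϖ}).IsRadical)
    (hgen : ∀ 𝔭 : Ideal S, 𝔭.IsPrime → ϖ ∈ 𝔭 → ∃ 𝔮 : Ideal S, 𝔮.IsPrime ∧ 𝔮 ≤ 𝔭 ∧ ϖ ∉ 𝔮)
    (e : Localization.Away ϖ) (he : IsIdempotentElem e) :
    ∃ s : S, algebraMap S (Localization.Away ϖ) s = e := by
  classical
  have hex : ∃ m : ℕ, ∃ a : S, algebraMap S (Localization.Away ϖ) a =
      (algebraMap S (Localization.Away ϖ) ϖ) ^ m * e := by
    obtain ⟨⟨a, ⟨_, n, rfl⟩⟩, h⟩ := IsLocalization.surj (Submonoid.powers ϖ) e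
    refine ⟨n, a, ?_⟩
    simp only at h
    rw [← h, map_pow, mul_comm]
  have hmin : ∀ m : ℕ, m < Nat.find hex → ¬ ∃ a : S, algebraMap S (Localization.Away ϖ) a =
      (algebraMap S (Localization.Away ϖ) ϖ) ^ m * e := fun m hm => Nat.find_min hex hm
  obtain ⟨a, ha⟩ := Nat.find_spec hex
  rcases Nat.eq_zero_or_eq_succ_pred (Nat.find hex) with h0 | hsucc
  · rw [h0, pow_zero, one_mul] at ha
    exact ⟨a, ha⟩
  · exfalso
    obtain ⟨m', hm'⟩ : ∃ m', m' = (Nat.find hex).pred := ⟨_, rfl⟩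
    rw [← hm'] at hsucc
    rw [hsucc] at ha
    -- `a` is in every prime containing `ϖ`
    have hmem : a ∈ Ideal.span {ϖ} := by
      rw [← hred.radical, Ideal.radical_eq_sInf, Ideal.mem_sInf]
      rintro 𝔭 ⟨h𝔭le, h𝔭⟩
      have hϖ𝔭 : ϖ ∈ 𝔭 := h𝔭le (Ideal.mem_span_singleton_self ϖ)
      obtain ⟨𝔮, h𝔮, h𝔮𝔭, hϖ𝔮⟩ := hgen 𝔭 h𝔭 hϖ𝔭
      have h1 : algebraMap S (Localization.Away ϖ) (a * a) =
          algebraMap S (Localization.Away ϖ) (ϖ ^ (m' + 1) * a) := by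
        rw [map_mul, map_mul, map_pow, ha]
        calc algebraMap S (Localization.Away ϖ) ϖ ^ (m' + 1) * e *
              (algebraMap S (Localization.Away ϖ) ϖ ^ (m' + 1) * e)
            = algebraMap S (Localization.Away ϖ) ϖ ^ (m' + 1) *
              (algebraMap S (Localization.Away ϖ) ϖ ^ (m' + 1) * (e * e)) := by ring
          _ = _ := by rw [he.eq]
      obtain ⟨⟨_, N, rfl⟩, hc⟩ := (IsLocalization.eq_iff_exists (Submonoid.powers ϖ) _).mp h1
      simp only at hc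
      have h2 : ϖ ^ N * (a * a - ϖ ^ (m' + 1) * a) ∈ 𝔮 := by
        rw [mul_sub, hc, sub_self]
        exact 𝔮.zero_mem
      have h3 : a * a - ϖ ^ (m' + 1) * a ∈ 𝔮 := by
        rcases h𝔮.mem_or_mem h2 with h4 | h4
        · exact absurd (h𝔮.mem_of_pow_mem _ h4) hϖ𝔮
        · exact h4
      have h5 : a * a ∈ 𝔭 := by
        have h6 : ϖ ^ (m' + 1) * a ∈ 𝔭 := 𝔭.mul_mem_right _ (𝔭.pow_mem_of_mem hϖ𝔭 _ (Nat.succ_pos _))
        have := 𝔭.add_mem (h𝔮𝔭 h3) h6
        rwa [sub_add_cancel] at this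
      rcases h𝔭.mem_or_mem h5 with h7 | h7 <;> exact h7
    obtain ⟨a₁, ha₁⟩ := Ideal.mem_span_singleton'.mp hmem
    have hunit : IsUnit (algebraMap S (Localization.Away ϖ) ϖ) :=
      IsLocalization.Away.algebraMap_isUnit ϖ
    have h8 : algebraMap S (Localization.Away ϖ) a₁ =
        (algebraMap S (Localization.Away ϖ) ϖ) ^ m' * e := by
      apply hunit.mul_right_cancel
      rw [← map_mul, ha₁, ha, pow_succ]
      ring
    exact hmin m' (by rw [hsucc]; exact Nat.lt_succ_self _) ⟨a₁, h8⟩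

theorem disjoint_closure_affine (hred : (Ideal.span {ϖ}).IsRadical)
    (hgen : ∀ 𝔭 : Ideal S, 𝔭.IsPrime → ϖ ∈ 𝔭 → ∃ 𝔮 : Ideal S, 𝔮.IsPrime ∧ 𝔮 ≤ 𝔭 ∧ ϖ ∉ 𝔮)
    (P Q : Set (PrimeSpectrum S)) (hP : IsOpen P) (hQ : IsOpen Q) (hPQ : Disjoint P Q)
    (hU : P ∪ Q = (PrimeSpectrum.basicOpen ϖ : Set (PrimeSpectrum S))) :
    Disjoint (closure P) (closure Q) := by
  have hemb := PrimeSpectrum.localization_away_isOpenEmbedding (Localization.Away ϖ) ϖ
  have hrange := PrimeSpectrum.localization_away_comap_range (Localization.Away ϖ) ϖ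
  obtain ⟨ι, hι⟩ : ∃ ι : PrimeSpectrum (Localization.Away ϖ) → PrimeSpectrum S,
      ι = PrimeSpectrum.comap (algebraMap S (Localization.Away ϖ)) := ⟨_, rfl⟩
  rw [← hι] at hemb hrange
  have hcompl : (ι ⁻¹' P)ᶜ = ι ⁻¹' Q := by
    ext z
    constructor
    · intro hz
      have : ι z ∈ P ∪ Q := by rw [hU, ← hrange]; exact ⟨z, rfl⟩
      rcases this with h | h
      · exact absurd h hz
      · exact h
    · intro hz hz'
      exact Set.disjoint_left.mp hPQ hz' hz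
  have hclopen : IsClopen (ι ⁻¹' P) := by
    refine ⟨?_, hP.preimage hemb.continuous⟩
    rw [← isOpen_compl_iff, hcompl]
    exact hQ.preimage hemb.continuous
  obtain ⟨e, he, hPe⟩ := PrimeSpectrum.isClopen_iff.mp hclopen
  obtain ⟨s₀, hs₀⟩ := idem_lift ϖ hred hgen e he
  have hPsub : P ⊆ PrimeSpectrum.zeroLocus {1 - s₀} := by
    intro 𝔮 h𝔮
    have : 𝔮 ∈ Set.range ι := by rw [hrange, ← hU]; exact Or.inl h𝔮
    obtain ⟨z, rfl⟩ := this
    have hz : z ∈ ι ⁻¹' P := h𝔮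
    rw [hPe] at hz
    have hez : e ∉ z.asIdeal := hz
    have h1 : e * (1 - e) ∈ z.asIdeal := by
      rw [mul_sub, mul_one, he.eq, sub_self]; exact z.asIdeal.zero_mem
    have h2 : 1 - e ∈ z.asIdeal := (z.2.mem_or_mem h1).resolve_left hez
    rw [PrimeSpectrum.mem_zeroLocus, Set.singleton_subset_iff, hι]
    show algebraMap S (Localization.Away ϖ) (1 - s₀) ∈ z.asIdeal
    rw [map_sub, map_one, hs₀]
    exact h2
  have hQsub : Q ⊆ PrimeSpectrum.zeroLocus {s₀} := by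
    intro 𝔮 h𝔮
    have : 𝔮 ∈ Set.range ι := by rw [hrange, ← hU]; exact Or.inr h𝔮
    obtain ⟨z, rfl⟩ := this
    have hz : z ∈ (ι ⁻¹' P)ᶜ := by rw [hcompl]; exact h𝔮
    rw [hPe] at hz
    have hez : e ∈ z.asIdeal := by
      by_contra hne
      exact hz hne
    rw [PrimeSpectrum.mem_zeroLocus, Set.singleton_subset_iff, hι]
    show algebraMap S (Localization.Away ϖ) s₀ ∈ z.asIdeal
    rw [hs₀]
    exact hez
  have hcP : closure P ⊆ PrimeSpectrum.zeroLocus {1 - s₀} :=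
    closure_minimal hPsub (PrimeSpectrum.isClosed_zeroLocus _)
  have hcQ : closure Q ⊆ PrimeSpectrum.zeroLocus {s₀} :=
    closure_minimal hQsub (PrimeSpectrum.isClosed_zeroLocus _)
  rw [Set.disjoint_left]
  intro 𝔮 h1 h2
  have h3 := hcP h1
  have h4 := hcQ h2
  rw [PrimeSpectrum.mem_zeroLocus, Set.singleton_subset_iff] at h3 h4
  have : (1 : S) ∈ 𝔮.asIdeal := by
    have := 𝔮.asIdeal.add_mem h3 h4
    rwa [sub_add_cancel] at this
  exact 𝔮.2.ne_top ((Ideal.eq_top_iff_one _).mpr this)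

end Groth.Agent.Lib.IdemExtH8
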