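import Mathlib
import Groth.Agent.Lib.IdemExt1_helper8

/-!
# Scheme version: disjoint clopen pieces of a basic open have disjoint closures (helper8).
APPEND-ONLY once landed.
-/

set_option autoImplicit false
set_option linter.all false
set_option maxHeartbeats 1600000

universe u

open CategoryTheory AlgebraicGeometry CategoryTheory.Limits Topology IsLocalRing Opposite

namespace Groth.Agent.Lib.IdemExtH8

theorem disjoint_closure_scheme {𝒳 : Scheme.{u}} (w : Γ(𝒳, ⊤))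
    (hred : ∀ V : 𝒳.Opens, IsAffineOpen V →
      (Ideal.span {(𝒳.presheaf.map (homOfLE (le_top : V ≤ ⊤)).op).hom w}).IsRadical)
    (hgen : ∀ x : 𝒳, x ∉ 𝒳.basicOpen w → ∃ x' : 𝒳, x' ⤳ x ∧ x' ∈ 𝒳.basicOpen w)
    (P Q : Set 𝒳) (hP : IsOpen P) (hQ : IsOpen Q) (hPQ : Disjoint P Q)
    (hU : P ∪ Q = (𝒳.basicOpen w : Set 𝒳)) :
    Disjoint (closure P) (closure Q) := by
  rw [Set.disjoint_left]
  intro x hxP hxQ
  obtain ⟨V, hV, hxV⟩ : ∃ V : 𝒳.Opens, IsAffineOpen V ∧ x ∈ V := by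
    obtain ⟨_, ⟨V, hV, rfl⟩, hxV, -⟩ :=
      𝒳.isBasis_affineOpens.exists_subset_of_mem_open (Set.mem_univ x) isOpen_univ
    exact ⟨V, hV, hxV⟩
  have hemb := hV.fromSpec.isOpenEmbedding
  obtain ⟨ϖ, hϖ⟩ : ∃ ϖ : Γ(𝒳, V), ϖ = (𝒳.presheaf.map (homOfLE (le_top : V ≤ ⊤)).op).hom w :=
    ⟨_, rfl⟩
  have hpre : ∀ z : PrimeSpectrum Γ(𝒳, V), hV.fromSpec z ∈ 𝒳.basicOpen w ↔
      z ∈ PrimeSpectrum.basicOpen ϖ := by
    intro z
    have h1 := hV.fromSpec_preimage_basicOpen ϖ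
    have h2 : 𝒳.basicOpen ϖ = V ⊓ 𝒳.basicOpen w := by
      rw [hϖ]; exact Scheme.basicOpen_res _ _ _
    have hzV : hV.fromSpec z ∈ V := by
      have : hV.fromSpec z ∈ Set.range hV.fromSpec := ⟨z, rfl⟩
      rw [hV.range_fromSpec] at this
      exact this
    constructor
    · intro hz
      have : z ∈ hV.fromSpec ⁻¹ᵁ 𝒳.basicOpen ϖ := by
        rw [h2]; exact ⟨hzV, hz⟩
      rw [h1] at this
      exact this
    · intro hz
      have : z ∈ hV.fromSpec ⁻¹ᵁ 𝒳.basicOpen ϖ := by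
        rw [h1]; exact hz
      rw [h2] at this
      exact this.2
  have hgen' : ∀ 𝔭 : Ideal Γ(𝒳, V), 𝔭.IsPrime → ϖ ∈ 𝔭 →
      ∃ 𝔮 : Ideal Γ(𝒳, V), 𝔮.IsPrime ∧ 𝔮 ≤ 𝔭 ∧ ϖ ∉ 𝔮 := by
    intro 𝔭 h𝔭 hϖ𝔭
    have h1 : hV.fromSpec ⟨𝔭, h𝔭⟩ ∉ 𝒳.basicOpen w := by
      intro hc
      exact ((hpre _).mp hc) hϖ𝔭
    obtain ⟨x', hx'spec, hx'w⟩ := hgen _ h1
    have hx'V : x' ∈ V := by
      have hzV : hV.fromSpec ⟨𝔭, h𝔭⟩ ∈ V := by
        have : hV.fromSpec ⟨𝔭, h𝔭⟩ ∈ Set.range hV.fromSpec := ⟨_, rfl⟩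
        rw [hV.range_fromSpec] at this
        exact this
      exact hx'spec.mem_open V.2 hzV
    have : x' ∈ Set.range hV.fromSpec := by rw [hV.range_fromSpec]; exact hx'V
    obtain ⟨z, rfl⟩ := this
    refine ⟨z.asIdeal, z.2, ?_, ?_⟩
    · have h2 : z ⤳ ⟨𝔭, h𝔭⟩ := hemb.isInducing.specializes_iff.mp hx'spec
      exact (PrimeSpectrum.le_iff_specializes z ⟨𝔭, h𝔭⟩).mpr h2
    · exact (hpre z).mp hx'w
  have hdisj := disjoint_closure_affine ϖ (hϖ ▸ hred V hV) hgen'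
    (hV.fromSpec ⁻¹' P) (hV.fromSpec ⁻¹' Q) (hP.preimage hemb.continuous)
    (hQ.preimage hemb.continuous) (hPQ.preimage _) (by
      ext z
      rw [← Set.preimage_union, hU]
      exact hpre z)
  have hx : hV.fromSpec (hV.primeIdealOf ⟨x, hxV⟩) = x := hV.fromSpec_primeIdealOf ⟨x, hxV⟩
  have h1 : hV.primeIdealOf ⟨x, hxV⟩ ∈ closure (hV.fromSpec ⁻¹' P) := by
    rw [← hemb.isOpenMap.preimage_closure_eq_closure_preimage hemb.continuous]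
    show hV.fromSpec (hV.primeIdealOf ⟨x, hxV⟩) ∈ closure P
    rw [hx]; exact hxP
  have h2 : hV.primeIdealOf ⟨x, hxV⟩ ∈ closure (hV.fromSpec ⁻¹' Q) := by
    rw [← hemb.isOpenMap.preimage_closure_eq_closure_preimage hemb.continuous]
    show hV.fromSpec (hV.primeIdealOf ⟨x, hxV⟩) ∈ closure Q
    rw [hx]; exact hxQ
  exact Set.disjoint_left.mp hdisj h1 h2

end Groth.Agent.Lib.IdemExtH8
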