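import Mathlib
import Groth.Agent.Lib.NoethConn_helper3

/-!
# Topological counting lemma: connected components of an open set versus its complement (helper8).
APPEND-ONLY once landed.
-/

set_option autoImplicit false
set_option linter.all false
set_option maxHeartbeats 1600000

universe u

open Topology TopologicalSpace

namespace Groth.Agent.Lib.IdemExtH8

theorem card_cc_le {𝒳 : Type*} [TopologicalSpace 𝒳] [NoetherianSpace 𝒳] (U : Set 𝒳) (hU : IsOpen U)
    (ha : ∀ P Q : Set 𝒳, IsOpen P → IsOpen Q → Disjoint P Q → P ∪ Q = U →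
      Disjoint (closure P) (closure Q))
    (hb : Uᶜ ⊆ closure U)
    (hc : ∀ P : Set 𝒳, P ⊆ U → P.Nonempty → (closure P ∩ Uᶜ).Nonempty) :
    ENat.card (ConnectedComponents ↥U) ≤ ENat.card (ConnectedComponents ↥(Uᶜ : Set 𝒳)) := by
  -- the maps
  let ιU : ↥U → ↥(closure U) := fun u => ⟨u.1, subset_closure u.2⟩
  let ιC : ↥(Uᶜ : Set 𝒳) → ↥(closure U) := fun c => ⟨c.1, hb c.2⟩
  have hιU : Continuous ιU := Continuous.subtype_mk continuous_subtype_val _
  have hιC : Continuous ιC := Continuous.subtype_mk continuous_subtype_val _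
  have hinj : Function.Injective hιU.connectedComponentsMap := by
    intro a b hab
    obtain ⟨u₁, rfl⟩ := ConnectedComponents.surjective_coe a
    obtain ⟨u₂, rfl⟩ := ConnectedComponents.surjective_coe b
    rw [Continuous.connectedComponentsMap_mk,
      Continuous.connectedComponentsMap_mk, ConnectedComponents.coe_eq_coe'] at hab
    by_contra hne
    have hne' : u₁ ∉ connectedComponent u₂ := fun h => hne (ConnectedComponents.coe_eq_coe'.mpr h)
    obtain ⟨K, hK⟩ : ∃ K : Set ↥U, K = connectedComponent u₂ := ⟨_, rfl⟩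
    have hKopen : IsOpen K := by
      rw [hK]
      exact Groth.Agent.Lib.NoethConn_helper3.isOpen_connectedComponent_of_noetherianSpace u₂
    have hKclosed : IsClosed K := by rw [hK]; exact isClosed_connectedComponent
    have hemb : IsOpenEmbedding (Subtype.val : ↥U → 𝒳) := hU.isOpenEmbedding_subtypeVal
    have hPopen : IsOpen (Subtype.val '' K) := hemb.isOpenMap _ hKopen
    have hQopen : IsOpen (Subtype.val '' Kᶜ) := hemb.isOpenMap _ hKclosed.isOpen_compl
    have hdisj : Disjoint (Subtype.val '' K) (Subtype.val '' Kᶜ) := by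
      rw [Set.disjoint_left]
      rintro _ ⟨a, ha1, rfl⟩ ⟨b, hb1, hb2⟩
      have : b = a := Subtype.ext hb2
      rw [this] at hb1
      exact hb1 ha1
    have hunion : Subtype.val '' K ∪ Subtype.val '' Kᶜ = U := by
      rw [← Set.image_union, Set.union_compl_self, Set.image_univ, Subtype.range_coe]
    have hcl := ha _ _ hPopen hQopen hdisj hunion
    -- the clopen subset of the closure
    have hclopen : IsClopen ((Subtype.val : ↥(closure U) → 𝒳) ⁻¹' closure (Subtype.val '' K)) := by
      refine ⟨isClosed_closure.preimage continuous_subtype_val, ?_⟩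
      have hcompl : ((Subtype.val : ↥(closure U) → 𝒳) ⁻¹' closure (Subtype.val '' K))ᶜ =
          (Subtype.val : ↥(closure U) → 𝒳) ⁻¹' closure (Subtype.val '' Kᶜ) := by
        ext t
        constructor
        · intro ht
          have h1 : t.1 ∈ closure (Subtype.val '' K ∪ Subtype.val '' Kᶜ) := by
            rw [hunion]; exact t.2
          rw [closure_union] at h1
          rcases h1 with h1 | h1
          · exact absurd h1 ht
          · exact h1
        · intro ht ht'
          exact Set.disjoint_left.mp hcl ht' ht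
      rw [← isClosed_compl_iff, hcompl]
      exact isClosed_closure.preimage continuous_subtype_val
    have h2 : ιU u₂ ∈ (Subtype.val : ↥(closure U) → 𝒳) ⁻¹' closure (Subtype.val '' K) :=
      subset_closure ⟨u₂, by rw [hK]; exact mem_connectedComponent, rfl⟩
    have h1 : ιU u₁ ∈ (Subtype.val : ↥(closure U) → 𝒳) ⁻¹' closure (Subtype.val '' K) :=
      hclopen.connectedComponent_subset h2 hab
    have h1' : ιU u₁ ∈ (Subtype.val : ↥(closure U) → 𝒳) ⁻¹' closure (Subtype.val '' Kᶜ) :=
      subset_closure ⟨u₁, by rw [hK]; exact hne', rfl⟩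
    exact Set.disjoint_left.mp hcl h1 h1'
  have hsurj : Function.Surjective hιC.connectedComponentsMap := by
    intro q
    obtain ⟨t, rfl⟩ := ConnectedComponents.surjective_coe q
    have hKcl : IsClosed ((Subtype.val : ↥(closure U) → 𝒳) '' connectedComponent t) :=
      (isClosed_closure.isClosedEmbedding_subtypeVal).isClosedMap _ isClosed_connectedComponent
    obtain ⟨x, hxK, hxC⟩ : ∃ x : 𝒳, x ∈ (Subtype.val : ↥(closure U) → 𝒳) '' connectedComponent t ∧
        x ∈ Uᶜ := by
      by_cases hne : ((Subtype.val : ↥(closure U) → 𝒳) '' connectedComponent t ∩ U).Nonempty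
      · obtain ⟨x, hx1, hx2⟩ := hc _ Set.inter_subset_right hne
        exact ⟨x, closure_minimal Set.inter_subset_left hKcl hx1, hx2⟩
      · refine ⟨t.1, ⟨t, mem_connectedComponent, rfl⟩, ?_⟩
        intro htU
        exact hne ⟨t.1, ⟨t, mem_connectedComponent, rfl⟩, htU⟩
    obtain ⟨t', ht', rfl⟩ := hxK
    refine ⟨((⟨t'.1, hxC⟩ : ↥(Uᶜ : Set 𝒳)) : ConnectedComponents _), ?_⟩
    rw [Continuous.connectedComponentsMap_mk, ConnectedComponents.coe_eq_coe']
    exact ht'
  calc ENat.card (ConnectedComponents ↥U)
      ≤ ENat.card (ConnectedComponents ↥(closure U)) := ENat.card_le_card_of_injective hinj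
    _ ≤ ENat.card (ConnectedComponents ↥(Uᶜ : Set 𝒳)) :=
        ENat.card_le_card_of_injective (Function.injective_surjInv hsurj)

end Groth.Agent.Lib.IdemExtH8
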