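import Mathlib
import Groth.Agent.Lib.DisjComp1_helper8

/-!
# Reducedness of the closed fibre over a local ring with principal maximal ideal, affine-locally
(helper8).
APPEND-ONLY once landed.
-/

set_option autoImplicit false
set_option linter.all false
set_option maxHeartbeats 1600000

universe u

open CategoryTheory AlgebraicGeometry CategoryTheory.Limits Topology IsLocalRing Opposite TensorProduct

namespace Groth.Agent.Lib.IdemExtH8

theorem isReduced_quotient_map {A S : Type u} [CommRing A] [CommRing S] [IsLocalRing A]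
    (ψ : A →+* S)
    (hred : IsReduced (pullback (Spec.map (CommRingCat.ofHom ψ))
      (Spec.map (CommRingCat.ofHom (IsLocalRing.residue A))))) :
    _root_.IsReduced (S ⧸ (maximalIdeal A).map ψ) := by
  letI := ψ.toAlgebra
  have hiso := pullbackSpecIso A S (ResidueField A)
  have h1 : IsReduced (pullback (Spec.map (CommRingCat.ofHom (algebraMap A S)))
      (Spec.map (CommRingCat.ofHom (algebraMap A (ResidueField A))))) := hred
  haveI := h1
  haveI : IsReduced (Spec (.of (S ⊗[A] ResidueField A))) :=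
    isReduced_of_isOpenImmersion hiso.inv
  have h2 : _root_.IsReduced (S ⊗[A] ResidueField A) :=
    (affine_isReduced_iff (.of (S ⊗[A] ResidueField A))).mp inferInstance
  have h3 : _root_.IsReduced (S ⊗[A] (A ⧸ maximalIdeal A)) := h2
  haveI := h3
  have e := Algebra.TensorProduct.quotIdealMapEquivTensorQuot S (maximalIdeal A)
  exact isReduced_of_injective e.toRingHom e.injective

theorem isRadical_res {𝒳 : Scheme.{u}} {A : Type u} [CommRing A] [IsLocalRing A]
    (q : 𝒳 ⟶ Spec (CommRingCat.of A)) (ϖ : A) (hϖ : maximalIdeal A = Ideal.span {ϖ})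
    (hred : IsReduced (pullback q (Spec.map (CommRingCat.ofHom (IsLocalRing.residue A)))))
    (V : 𝒳.Opens) (hV : IsAffineOpen V) :
    (Ideal.span {(𝒳.presheaf.map (homOfLE (le_top : V ≤ ⊤)).op).hom
      (q.appTop.hom ((Scheme.ΓSpecIso (CommRingCat.of A)).inv.hom ϖ))}).IsRadical := by
  obtain ⟨ψ, hψdef⟩ : ∃ ψ : CommRingCat.of A ⟶ Γ(𝒳, V),
      ψ = (Scheme.ΓSpecIso (CommRingCat.of A)).inv ≫ q.appLE ⊤ V le_top := ⟨_, rfl⟩
  have hψ : Spec.map ψ = hV.fromSpec ≫ q := by
    rw [hψdef, Spec.map_comp, ← Scheme.isoSpec_Spec_inv, ← IsAffineOpen.fromSpec_top]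
    exact IsAffineOpen.SpecMap_appLE_fromSpec q (isAffineOpen_top _) hV le_top
  haveI : IsOpenImmersion (pullback.map (hV.fromSpec ≫ q)
      (Spec.map (CommRingCat.ofHom (IsLocalRing.residue A))) q
      (Spec.map (CommRingCat.ofHom (IsLocalRing.residue A))) hV.fromSpec (𝟙 _) (𝟙 _)
      (by simp) (by simp)) :=
    MorphismProperty.of_isPullback (P := @IsOpenImmersion)
      (DisjCompH8.isPullback_map q hV.fromSpec
        (Spec.map (CommRingCat.ofHom (IsLocalRing.residue A)))).flip inferInstance
  haveI := hred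
  have h1 : IsReduced (pullback (hV.fromSpec ≫ q)
      (Spec.map (CommRingCat.ofHom (IsLocalRing.residue A)))) :=
    isReduced_of_isOpenImmersion (pullback.map (hV.fromSpec ≫ q)
      (Spec.map (CommRingCat.ofHom (IsLocalRing.residue A))) q
      (Spec.map (CommRingCat.ofHom (IsLocalRing.residue A))) hV.fromSpec (𝟙 _) (𝟙 _)
      _ _)
  rw [← hψ] at h1
  have h2 := isReduced_quotient_map ψ.hom h1
  rw [Ideal.isRadical_iff_quotient_reduced]
  have h3 : (maximalIdeal A).map ψ.hom = Ideal.span {(𝒳.presheaf.map (homOfLE (le_top : V ≤ ⊤)).op).hom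
      (q.appTop.hom ((Scheme.ΓSpecIso (CommRingCat.of A)).inv.hom ϖ))} := by
    rw [hϖ, Ideal.map_span, Set.image_singleton, hψdef]
    rfl
  rw [← h3]
  exact h2

end Groth.Agent.Lib.IdemExtH8
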