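import Mathlib
import Groth.Agent.Lib.IdemExt2_helper8
import Groth.Agent.Lib.IdemExt3_helper8
import Groth.Agent.Lib.IdemExt4_helper8

/-!
# Connected components of the generic and closed fibres over a local ring with principal maximal
ideal: reduced closed fibre + generizations lift ⇒ `#π₀(generic) ≤ #π₀(closed)` (helper8).
APPEND-ONLY once landed.
-/

set_option autoImplicit false
set_option linter.all false
set_option maxHeartbeats 1600000

universe u

open CategoryTheory AlgebraicGeometry CategoryTheory.Limits Topology IsLocalRing Opposite TopologicalSpace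

namespace Groth.Agent.Lib.IdemExtH8

theorem card_cc_le_of_isReduced {𝒳 : Scheme.{u}} [NoetherianSpace 𝒳] {A : Type u} [CommRing A]
    [IsLocalRing A] (q : 𝒳 ⟶ Spec (CommRingCat.of A)) (hq : IsClosedMap q.base) (ϖ : A)
    (hϖ : maximalIdeal A = Ideal.span {ϖ})
    (hred : IsReduced (pullback q (Spec.map (CommRingCat.ofHom (IsLocalRing.residue A)))))
    (hgen : ∀ x : 𝒳, q.base x ∉ (PrimeSpectrum.basicOpen ϖ : Set (PrimeSpectrum A)) →
      ∃ x' : 𝒳, x' ⤳ x ∧ q.base x' ∈ (PrimeSpectrum.basicOpen ϖ : Set (PrimeSpectrum A))) :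
    ENat.card (_root_.ConnectedComponents
        ↥(q.base ⁻¹' (PrimeSpectrum.basicOpen ϖ : Set (PrimeSpectrum A)))) ≤
      ENat.card (_root_.ConnectedComponents
        ↥((q.base ⁻¹' (PrimeSpectrum.basicOpen ϖ : Set (PrimeSpectrum A)))ᶜ : Set 𝒳)) := by
  obtain ⟨w, hwdef⟩ : ∃ w : Γ(𝒳, ⊤),
      w = q.appTop.hom ((Scheme.ΓSpecIso (CommRingCat.of A)).inv.hom ϖ) := ⟨_, rfl⟩
  have hw : (𝒳.basicOpen w : Set 𝒳) =
      q.base ⁻¹' (PrimeSpectrum.basicOpen ϖ : Set (PrimeSpectrum A)) := by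
    have h1 := Scheme.preimage_basicOpen q (U := ⊤)
      ((Scheme.ΓSpecIso (CommRingCat.of A)).inv.hom ϖ)
    have h2 := basicOpen_eq_of_affine (R := CommRingCat.of A) ϖ
    rw [hwdef]
    have h3 : (𝒳.basicOpen (q.appTop.hom ((Scheme.ΓSpecIso (CommRingCat.of A)).inv.hom ϖ)) : Set 𝒳) =
        ((q ⁻¹ᵁ (Spec (CommRingCat.of A)).basicOpen
          ((Scheme.ΓSpecIso (CommRingCat.of A)).inv.hom ϖ) : 𝒳.Opens) : Set 𝒳) := by
      rw [h1]; rfl
    rw [h3]
    show q.base ⁻¹' (((Spec (CommRingCat.of A)).basicOpen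
          ((Scheme.ΓSpecIso (CommRingCat.of A)).inv.hom ϖ) : (Spec (CommRingCat.of A)).Opens) :
          Set (Spec (CommRingCat.of A))) = _
    rw [h2]
    rfl
  have hU : IsOpen (q.base ⁻¹' (PrimeSpectrum.basicOpen ϖ : Set (PrimeSpectrum A))) :=
    (PrimeSpectrum.basicOpen ϖ).2.preimage q.continuous
  have hgen' : ∀ x : 𝒳, x ∉ 𝒳.basicOpen w → ∃ x' : 𝒳, x' ⤳ x ∧ x' ∈ 𝒳.basicOpen w := by
    intro x hx
    have hx' : q.base x ∉ (PrimeSpectrum.basicOpen ϖ : Set (PrimeSpectrum A)) := by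
      intro hc
      apply hx
      show x ∈ (𝒳.basicOpen w : Set 𝒳)
      rw [hw]; exact hc
    obtain ⟨x', h1, h2⟩ := hgen x hx'
    refine ⟨x', h1, ?_⟩
    show x' ∈ (𝒳.basicOpen w : Set 𝒳)
    rw [hw]; exact h2
  apply card_cc_le _ hU
  · intro P Q hP hQ hPQ hPQU
    exact disjoint_closure_scheme w (fun V hV => hwdef ▸ isRadical_res q ϖ hϖ hred V hV) hgen'
      P Q hP hQ hPQ (hPQU.trans hw.symm)
  · intro x hx
    obtain ⟨x', h1, h2⟩ := hgen x hx
    have h3 : ({x'} : Set 𝒳) ⊆ q.base ⁻¹' (PrimeSpectrum.basicOpen ϖ : Set (PrimeSpectrum A)) :=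
      Set.singleton_subset_iff.mpr h2
    exact closure_mono h3 (specializes_iff_mem_closure.mp h1)
  · rintro P hPU ⟨p, hp⟩
    have hcl : IsClosed (q.base '' closure P) := hq _ isClosed_closure
    have h1 : q.base p ∈ q.base '' closure P := ⟨p, subset_closure hp, rfl⟩
    have h2 : closedPoint A ∈ q.base '' closure P :=
      (IsLocalRing.specializes_closedPoint (q.base p)).mem_closed hcl h1
    obtain ⟨x, hx, hxc⟩ := h2
    refine ⟨x, hx, ?_⟩
    intro hxU
    have h3 : closedPoint A ∈ (PrimeSpectrum.basicOpen ϖ : Set (PrimeSpectrum A)) := hxc ▸ hxU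
    apply h3
    show ϖ ∈ maximalIdeal A
    rw [hϖ]
    exact Ideal.mem_span_singleton_self ϖ

end Groth.Agent.Lib.IdemExtH8
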