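import Mathlib
import Groth.Prelude
import Groth.Agent.Lib.OpenGenMap_helper8
import Groth.Agent.Lib.ProperLsc_helper8

/-!
# Proper morphisms with geometrically reduced fibre: upper semicontinuity of the geometric number
of connected components (helper8).  Part 1: pointwise lifting of generizations, Stein comparison
for field points.
APPEND-ONLY once landed.
-/

set_option autoImplicit false
set_option linter.all false
set_option maxHeartbeats 1600000

universe u

open CategoryTheory AlgebraicGeometry CategoryTheory.Limits Topology IsLocalRing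

namespace Groth.Agent.Lib.ProperUscH8

theorem exists_generization_comap {R A : Type*} [CommRing R] [CommRing A] (φ : R →+* A)
    (p : PrimeSpectrum A)
    (h : ∀ a : A, a ∉ p.asIdeal →
      PrimeSpectrum.comap φ '' (PrimeSpectrum.basicOpen a : Set (PrimeSpectrum A)) ∈
        nhds (PrimeSpectrum.comap φ p))
    (q' : PrimeSpectrum R) (hq' : q' ⤳ PrimeSpectrum.comap φ p) :
    ∃ P : PrimeSpectrum A, P ⤳ p ∧ PrimeSpectrum.comap φ P = q' := by
  let T : Submonoid A := p.asIdeal.primeCompl ⊔ (q'.asIdeal.primeCompl.map φ)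
  have hdisj : Disjoint ((q'.asIdeal.map φ : Ideal A) : Set A) (T : Set A) := by
    rw [Set.disjoint_left]
    intro t ht hT
    obtain ⟨a, ha, b, hb, rfl⟩ := Submonoid.mem_sup.mp hT
    obtain ⟨r, hr, rfl⟩ := hb
    have hq'mem : q' ∈
        PrimeSpectrum.comap φ '' (PrimeSpectrum.basicOpen a : Set (PrimeSpectrum A)) :=
      mem_of_mem_nhds (hq' (h a ha))
    obtain ⟨P, hP, rfl⟩ := hq'mem
    have h1 : a * φ r ∈ P.asIdeal := Ideal.map_comap_le ht
    rcases P.2.mem_or_mem h1 with h2 | h2
    · exact hP h2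
    · exact hr h2
  obtain ⟨P, hPprime, hqP, hPT⟩ := Ideal.exists_le_prime_disjoint _ T hdisj
  refine ⟨⟨P, hPprime⟩, ?_, ?_⟩
  · show (⟨P, hPprime⟩ : PrimeSpectrum A) ⤳ p
    rw [← PrimeSpectrum.le_iff_specializes]
    intro a haP
    by_contra hap
    exact Set.disjoint_left.mp hPT haP (Submonoid.mem_sup_left hap)
  · apply PrimeSpectrum.ext
    ext r
    constructor
    · intro hr
      by_contra hrq
      exact Set.disjoint_left.mp hPT hr (Submonoid.mem_sup_right ⟨r, hrq, rfl⟩)
    · intro hr
      exact hqP (Ideal.mem_map_of_mem φ hr)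

/-- generizations lift at a point where the morphism is open -/
theorem exists_generization_of_isOpenAt {X Y : Scheme.{u}} (f : X ⟶ Y) (x : X)
    (h : EGA43.IsOpenAt f.base x) (y' : Y) (hy' : y' ⤳ f.base x) :
    ∃ x' : X, x' ⤳ x ∧ f.base x' = y' := by
  obtain ⟨U, hU, hfxU⟩ : ∃ U : Y.Opens, IsAffineOpen U ∧ f.base x ∈ U := by
    obtain ⟨_, ⟨U, hU, rfl⟩, hfxU, -⟩ :=
      Y.isBasis_affineOpens.exists_subset_of_mem_open (Set.mem_univ (f.base x)) isOpen_univ
    exact ⟨U, hU, hfxU⟩
  obtain ⟨V, hV, hxV, hVU⟩ : ∃ V : X.Opens, IsAffineOpen V ∧ x ∈ V ∧ V ≤ f ⁻¹ᵁ U := by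
    obtain ⟨_, ⟨V, hV, rfl⟩, hxV, hsub⟩ :=
      X.isBasis_affineOpens.exists_subset_of_mem_open
        (show x ∈ ((f ⁻¹ᵁ U : X.Opens) : Set X) from hfxU) (f ⁻¹ᵁ U).2
    exact ⟨V, hV, hxV, hsub⟩
  have hcomm := IsAffineOpen.SpecMap_appLE_fromSpec f hU hV hVU
  have hpt : ∀ z : PrimeSpectrum Γ(X, V),
      hU.fromSpec.base (PrimeSpectrum.comap (f.appLE U V hVU).hom z) =
        f.base (hV.fromSpec.base z) := fun z =>
    congrArg (fun k : Spec Γ(X, V) ⟶ Y => k.base z) hcomm
  have hembU := hU.fromSpec.isOpenEmbedding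
  have hembV := hV.fromSpec.isOpenEmbedding
  obtain ⟨p, hp⟩ : ∃ p : PrimeSpectrum Γ(X, V), hV.fromSpec.base p = x :=
    ⟨hV.primeIdealOf ⟨x, hxV⟩, hV.fromSpec_primeIdealOf ⟨x, hxV⟩⟩
  have hy'U : y' ∈ U := hy'.mem_open U.2 hfxU
  obtain ⟨q', hq'⟩ : ∃ q' : PrimeSpectrum Γ(Y, U), hU.fromSpec.base q' = y' :=
    ⟨hU.primeIdealOf ⟨y', hy'U⟩, hU.fromSpec_primeIdealOf ⟨y', hy'U⟩⟩
  have hspec : q' ⤳ PrimeSpectrum.comap (f.appLE U V hVU).hom p := by
    apply hembU.isInducing.specializes_iff.mp
    rw [hpt, hp, hq']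
    exact hy'
  have hnh : ∀ a : Γ(X, V), a ∉ p.asIdeal →
      PrimeSpectrum.comap (f.appLE U V hVU).hom ''
        (PrimeSpectrum.basicOpen a : Set (PrimeSpectrum Γ(X, V))) ∈
        nhds (PrimeSpectrum.comap (f.appLE U V hVU).hom p) := by
    intro a ha
    have h1 : hV.fromSpec.base '' (PrimeSpectrum.basicOpen a : Set (PrimeSpectrum Γ(X, V))) ∈
        nhds x := by
      rw [← hp]
      exact hembV.isOpenMap.image_mem_nhds ((PrimeSpectrum.basicOpen a).2.mem_nhds ha)
    have h2 := h _ h1
    have h3 : hU.fromSpec.base ⁻¹' (f.base '' (hV.fromSpec.base ''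
        (PrimeSpectrum.basicOpen a : Set (PrimeSpectrum Γ(X, V))))) ∈
        nhds (PrimeSpectrum.comap (f.appLE U V hVU).hom p) := by
      apply hembU.continuous.continuousAt
      rw [hpt, hp]
      exact h2
    refine Filter.mem_of_superset h3 ?_
    rintro b ⟨_, ⟨z, hz, rfl⟩, hb⟩
    refine ⟨z, hz, ?_⟩
    apply hembU.injective
    rw [hpt]
    exact hb
  obtain ⟨P, hPp, hPq⟩ := exists_generization_comap _ p hnh q' hspec
  refine ⟨hV.fromSpec.base P, ?_, ?_⟩
  · rw [← hp]
    exact hPp.map hembV.continuous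
  · rw [← hpt, hPq, hq']

section Stein

variable {X Y : Scheme.{u}} (f : X ⟶ Y) [IsProper f] [IsLocallyNoetherian Y]

theorem card_cc_pullback_eq_card {T : Scheme.{u}} (t : T ⟶ Y)
    [DiscreteTopology ↥(pullback f.fromNormalization t)] :
    ENat.card (_root_.ConnectedComponents ↥(pullback f t)) =
      ENat.card ↥(pullback f.fromNormalization t) := by
  rw [← Groth.Agent.Lib.GeomCountH4.card_connectedComponents_of_discrete
    ↥(pullback f.fromNormalization t)]
  have hbij : Function.Bijective
      (Groth.Agent.Lib.ZConnH8.nu f t).continuous.connectedComponentsLift := by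
    constructor
    · intro a b hab
      obtain ⟨x, rfl⟩ := ConnectedComponents.surjective_coe a
      obtain ⟨x', rfl⟩ := ConnectedComponents.surjective_coe b
      rw [Continuous.connectedComponentsLift_apply_coe,
        Continuous.connectedComponentsLift_apply_coe] at hab
      have hc := Groth.Agent.Lib.ZConnH8.isConnected_nu_fibre f t
        ((Groth.Agent.Lib.ZConnH8.nu f t) x')
      have hx : x ∈ (Groth.Agent.Lib.ZConnH8.nu f t) ⁻¹' {(Groth.Agent.Lib.ZConnH8.nu f t) x'} :=
        hab
      have hx' : x' ∈ (Groth.Agent.Lib.ZConnH8.nu f t) ⁻¹'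
          {(Groth.Agent.Lib.ZConnH8.nu f t) x'} := rfl
      rw [ConnectedComponents.coe_eq_coe']
      exact hc.isPreconnected.subset_connectedComponent hx' hx
    · intro q
      obtain ⟨x, hx⟩ := Groth.Agent.Lib.ZConnH8.surjective_nu f t q
      exact ⟨(x : _root_.ConnectedComponents _), by
        rw [Continuous.connectedComponentsLift_apply_coe]; exact hx⟩
  rw [Groth.Agent.Lib.GeomCountH4.card_connectedComponents_of_discrete
    ↥(pullback f.fromNormalization t)]
  exact ENat.card_congr (Equiv.ofBijective _ hbij)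

theorem card_fiber_eq_card_cc {T : Scheme.{u}} (g : T ⟶ Y) (pt : T) :
    ENat.card ↥((pullback.snd f.fromNormalization g).fiber pt) =
      ENat.card (_root_.ConnectedComponents ↥((pullback.snd f g).base ⁻¹' {pt})) := by
  haveI : IsFinite f.fromNormalization := SteinFinH3.main1297 f
  haveI : LocallyQuasiFinite (pullback.snd f.fromNormalization (T.fromSpecResidueField pt ≫ g)) :=
    MorphismProperty.pullback_snd _ _ inferInstance
  haveI : Subsingleton ↥(Spec (T.residueField pt)) :=
    (inferInstance : Subsingleton (PrimeSpectrum (T.residueField pt)))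
  haveI : DiscreteTopology ↥(pullback f.fromNormalization (T.fromSpecResidueField pt ≫ g)) :=
    Groth.Agent.Lib.GeomCountH4.discreteTopology_of_lqf
      (pullback.snd f.fromNormalization (T.fromSpecResidueField pt ≫ g))
  have e1 : (pullback.snd f.fromNormalization g).fiber pt ≅
      pullback f.fromNormalization (T.fromSpecResidueField pt ≫ g) :=
    pullbackLeftPullbackSndIso f.fromNormalization g (T.fromSpecResidueField pt)
  have e2 : (pullback.snd f g).fiber pt ≅ pullback f (T.fromSpecResidueField pt ≫ g) :=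
    pullbackLeftPullbackSndIso f g (T.fromSpecResidueField pt)
  rw [ENat.card_congr e1.hom.homeomorph.toEquiv, ← card_cc_pullback_eq_card f,
    ← GeomConnH8.card_connectedComponents_eq_of_homeomorph e2.hom.homeomorph,
    GeomConnH8.card_connectedComponents_eq_of_homeomorph ((pullback.snd f g).fiberHomeo pt)]

end Stein

end Groth.Agent.Lib.ProperUscH8
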