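import Mathlib
import Groth.Prelude
import Groth.Agent.Lib.ProperUsc1_helper8
import Groth.Agent.Lib.IdemExt5_helper8
import Groth.Agent.Lib.GeomPts3_helper8
import Groth.Agent.Lib.UniOpen4_helper8
import Groth.Agent.S1339

/-!
# Proper morphisms with geometrically reduced fibre: upper semicontinuity of the geometric number
of connected components (helper8).  Part 2.
APPEND-ONLY once landed.
-/

set_option autoImplicit false
set_option linter.all false
set_option maxHeartbeats 1600000

universe u

open CategoryTheory AlgebraicGeometry CategoryTheory.Limits Topology IsLocalRing TopologicalSpace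

namespace Groth.Agent.Lib.ProperUscH8

variable {X Y : Scheme.{u}}

theorem isReduced_pullback_of_geometricallyReduced (f : X ⟶ Y) (K : Type u) [Field K]
    (t : Spec (CommRingCat.of K) ⟶ Y)
    (hred : GeometricallyReduced (f.fiberToSpecResidueField (t.base (closedPoint K)))) :
    IsReduced (pullback f t) := by
  have hg : Spec.map ((Scheme.SpecToEquivOfField K Y) t).2 ≫
      Y.fromSpecResidueField ((Scheme.SpecToEquivOfField K Y) t).1 = t :=
    (Scheme.SpecToEquivOfField K Y).symm_apply_apply t
  have h1 : IsReduced (pullback (f.fiberToSpecResidueField (t.base (closedPoint K)))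
      (Spec.map ((Scheme.SpecToEquivOfField K Y) t).2)) :=
    hred.1 (Spec.map ((Scheme.SpecToEquivOfField K Y) t).2) _ _ (IsPullback.of_hasPullback _ _)
  haveI h1' : IsReduced (pullback (pullback.snd f
      (Y.fromSpecResidueField ((Scheme.SpecToEquivOfField K Y) t).1))
      (Spec.map ((Scheme.SpecToEquivOfField K Y) t).2)) := h1
  have e1 : pullback f t ≅ pullback f (Spec.map ((Scheme.SpecToEquivOfField K Y) t).2 ≫
      Y.fromSpecResidueField ((Scheme.SpecToEquivOfField K Y) t).1) :=
    pullback.congrHom rfl hg.symm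
  have e2 := pullbackLeftPullbackSndIso f
    (Y.fromSpecResidueField ((Scheme.SpecToEquivOfField K Y) t).1)
    (Spec.map ((Scheme.SpecToEquivOfField K Y) t).2)
  exact isReduced_of_isOpenImmersion (e1.hom ≫ e2.inv)

theorem isReduced_closedFibre (f : X ⟶ Y) {A : Type u} [CommRing A] [IsLocalRing A]
    (g : Spec (CommRingCat.of A) ⟶ Y)
    (hred : GeometricallyReduced (f.fiberToSpecResidueField (g.base (closedPoint A)))) :
    IsReduced (pullback (pullback.snd f g) (Spec.map (CommRingCat.ofHom (residue A)))) := by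
  have hpt : (Spec.map (CommRingCat.ofHom (residue A)) ≫ g).base (closedPoint (ResidueField A)) =
      g.base (closedPoint A) := by
    rw [Scheme.Hom.comp_base, TopCat.comp_app]
    congr 1
    exact IsLocalRing.PrimeSpectrum.comap_residue A _
  have h1 := isReduced_pullback_of_geometricallyReduced f (ResidueField A)
    (Spec.map (CommRingCat.ofHom (residue A)) ≫ g) (hpt ▸ hred)
  haveI := h1
  exact isReduced_of_isOpenImmersion
    (pullbackLeftPullbackSndIso f g (Spec.map (CommRingCat.ofHom (residue A)))).hom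

section DVR

variable {A : Type u} [CommRing A] [IsDomain A] [IsDiscreteValuationRing A]

theorem not_mem_basicOpen_iff (ϖ : A) (hϖ : maximalIdeal A = Ideal.span {ϖ}) (𝔭 : PrimeSpectrum A) :
    𝔭 ∉ (PrimeSpectrum.basicOpen ϖ : Set (PrimeSpectrum A)) ↔ 𝔭 = closedPoint A := by
  constructor
  · intro h
    have h1 : ϖ ∈ 𝔭.asIdeal := by
      by_contra hc
      exact h hc
    have h2 : maximalIdeal A ≤ 𝔭.asIdeal := by
      rw [hϖ, Ideal.span_singleton_le_iff_mem]
      exact h1
    apply PrimeSpectrum.ext
    exact ((IsLocalRing.maximalIdeal.isMaximal A).eq_of_le 𝔭.2.ne_top h2).symm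
  · rintro rfl h
    apply h
    show ϖ ∈ maximalIdeal A
    rw [hϖ]
    exact Ideal.mem_span_singleton_self ϖ

theorem mem_basicOpen_iff (ϖ : A) (hϖ : maximalIdeal A = Ideal.span {ϖ}) (𝔭 : PrimeSpectrum A) :
    𝔭 ∈ (PrimeSpectrum.basicOpen ϖ : Set (PrimeSpectrum A)) ↔
      𝔭 = genericPoint (Spec (CommRingCat.of A)) := by
  have hgp : genericPoint (Spec (CommRingCat.of A)) = (⟨⊥, Ideal.isPrime_bot⟩ : PrimeSpectrum A) :=
    genericPoint_eq_bot_of_affine (CommRingCat.of A)
  rw [hgp]
  constructor
  · intro h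
    by_contra hne
    have h0 : 𝔭.asIdeal ≠ ⊥ := fun h0 => hne (PrimeSpectrum.ext h0)
    have hmax : 𝔭.asIdeal.IsMaximal := Ring.DimensionLEOne.maximalOfPrime h0 𝔭.2
    have h1 : 𝔭.asIdeal = maximalIdeal A := IsLocalRing.eq_maximalIdeal hmax
    apply h
    show ϖ ∈ 𝔭.asIdeal
    rw [h1, hϖ]
    exact Ideal.mem_span_singleton_self ϖ
  · rintro rfl h
    have h1 : ϖ = 0 := h
    have h2 : maximalIdeal A = ⊥ := by
      rw [hϖ, h1]
      exact Ideal.span_singleton_eq_bot.mpr rfl
    exact IsDiscreteValuationRing.not_a_field A h2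

end DVR

end Groth.Agent.Lib.ProperUscH8
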