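import Mathlib
import Groth.Prelude
import Groth.Agent.Lib.ProperUsc2_helper8

/-!
# Proper morphisms with geometrically reduced fibre: upper semicontinuity of the geometric number
of connected components (helper8).  Part 3: the main theorem.
APPEND-ONLY once landed.
-/

set_option autoImplicit false
set_option linter.all false
set_option maxHeartbeats 1600000

universe u

open CategoryTheory AlgebraicGeometry CategoryTheory.Limits Topology IsLocalRing TopologicalSpace

namespace Groth.Agent.Lib.ProperUscH8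

variable {X Y : Scheme.{u}}

theorem le_of_specializes_of_geomReduced (f : X ⟶ Y) [IsProper f] [IsLocallyNoetherian Y]
    (y z : Y) (hzy : z ⤳ y) (hne : z ≠ y)
    (h : ∀ x : X, f.base x = y → EGA43.IsUnivOpenAt f x)
    (hred : GeometricallyReduced (f.fiberToSpecResidueField y)) :
    MoreMor.nGeomConnComp f z ≤ MoreMor.nGeomConnComp f y := by
  haveI : IsFinite f.fromNormalization := SteinFinH3.main1297 f
  obtain ⟨A, _, _, _, g, hc, hη, hny, hnz⟩ :=
    Groth.Agent.Lib.GeomPtsH8.main4950 f.fromNormalization y z hne hzy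
  rw [ProperLscH8.nGeomConnComp_eq_fromNormalization f z,
    ProperLscH8.nGeomConnComp_eq_fromNormalization f y, hny, hnz,
    card_fiber_eq_card_cc f g, card_fiber_eq_card_cc f g]
  obtain ⟨ϖ, hirr⟩ := IsDiscreteValuationRing.exists_irreducible A
  have hϖ := hirr.maximalIdeal_eq
  haveI : IsLocallyNoetherian (pullback f g) :=
    LocallyOfFiniteType.isLocallyNoetherian (pullback.snd f g)
  haveI : CompactSpace ↥(pullback f g) :=
    QuasiCompact.compactSpace_of_compactSpace (pullback.snd f g)
  haveI : IsNoetherian (pullback f g) := {}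
  have hredA := isReduced_closedFibre f g (hc.symm ▸ hred)
  have hgen : ∀ x : ↥(pullback f g),
      (pullback.snd f g).base x ∉ (PrimeSpectrum.basicOpen ϖ : Set (PrimeSpectrum A)) →
      ∃ x' : ↥(pullback f g), x' ⤳ x ∧
        (pullback.snd f g).base x' ∈ (PrimeSpectrum.basicOpen ϖ : Set (PrimeSpectrum A)) := by
    intro x hx
    have hxc : (pullback.snd f g).base x = closedPoint A := (not_mem_basicOpen_iff ϖ hϖ _).mp hx
    have hfx : f.base ((pullback.fst f g).base x) = y := by
      rw [← hc, ← hxc, ← Scheme.Hom.comp_apply, ← Scheme.Hom.comp_apply, pullback.condition]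
    have hopen : EGA43.IsOpenAt (pullback.snd f g).base x := h _ hfx _ g x rfl
    have hspec : genericPoint (Spec (CommRingCat.of A)) ⤳ (pullback.snd f g).base x :=
      (genericPoint_spec (Spec (CommRingCat.of A))).specializes (Set.mem_univ _)
    obtain ⟨x', hx'x, hx'⟩ := exists_generization_of_isOpenAt (pullback.snd f g) x hopen _ hspec
    exact ⟨x', hx'x, (mem_basicOpen_iff ϖ hϖ _).mpr hx'⟩
  have hle := Groth.Agent.Lib.IdemExtH8.card_cc_le_of_isReduced (pullback.snd f g)
    (pullback.snd f g).isClosedMap ϖ hϖ hredA hgen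
  have hs1 : (pullback.snd f g).base ⁻¹' (PrimeSpectrum.basicOpen ϖ : Set (PrimeSpectrum A)) =
      (pullback.snd f g).base ⁻¹' {genericPoint (Spec (CommRingCat.of A))} := by
    ext x
    exact mem_basicOpen_iff ϖ hϖ _
  have hs2 : ((pullback.snd f g).base ⁻¹' (PrimeSpectrum.basicOpen ϖ : Set (PrimeSpectrum A)))ᶜ =
      (pullback.snd f g).base ⁻¹' {closedPoint A} := by
    ext x
    exact not_mem_basicOpen_iff ϖ hϖ _
  rw [hs2, hs1] at hle
  exact hle

theorem mem_nhds_of_isLocallyConstructible (E : Set Y) (hE : IsLocallyConstructible E) (y : Y)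
    (hgen : ∀ z : Y, z ⤳ y → z ∈ E) : E ∈ nhds y := by
  obtain ⟨V, hV, hyV⟩ : ∃ V : Y.Opens, IsAffineOpen V ∧ y ∈ V := by
    obtain ⟨_, ⟨V, hV, rfl⟩, hyV, -⟩ :=
      Y.isBasis_affineOpens.exists_subset_of_mem_open (Set.mem_univ y) isOpen_univ
    exact ⟨V, hV, hyV⟩
  have hemb := hV.fromSpec.isOpenEmbedding
  have hE' : IsConstructible (hV.fromSpec.base ⁻¹' E) :=
    (hE.preimage_of_isOpenEmbedding hemb).isConstructible
  obtain ⟨p, hp⟩ : ∃ p : PrimeSpectrum Γ(Y, V), hV.fromSpec.base p = y :=
    ⟨hV.primeIdealOf ⟨y, hyV⟩, hV.fromSpec_primeIdealOf ⟨y, hyV⟩⟩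
  have h1 := Groth.Agent.Lib.UniOpenH8.mem_nhds_of_isConstructible _ hE' p (by
    intro p' hp'
    apply hgen
    rw [← hp]
    exact ((PrimeSpectrum.le_iff_specializes p' p).mp hp').map hemb.continuous)
  have h2 := hemb.isOpenMap.image_mem_nhds h1
  rw [hp] at h2
  exact Filter.mem_of_superset h2 (Set.image_preimage_subset _ _)

theorem main3416 [IsLocallyNoetherian Y] (f : X ⟶ Y) [IsProper f] (y : Y)
    (h : ∀ x : X, f.base x = y → EGA43.IsUnivOpenAt f x)
    (hred : GeometricallyReduced (f.fiberToSpecResidueField y)) :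
    ∃ V ∈ nhds y, ∀ z ∈ V, MoreMor.nGeomConnComp f z = MoreMor.nGeomConnComp f y := by
  haveI : LocallyOfFinitePresentation f := inferInstance
  refine ⟨{z | MoreMor.nGeomConnComp f z = MoreMor.nGeomConnComp f y}, ?_, fun z hz => hz⟩
  apply mem_nhds_of_isLocallyConstructible _
    (Groth.Agent.S1339.result f (MoreMor.nGeomConnComp f y)) y
  intro z hzy
  by_cases hne : z = y
  · rw [hne]; rfl
  · apply le_antisymm (le_of_specializes_of_geomReduced f y z hzy hne h hred)
    obtain ⟨V, hV, hVle⟩ := ProperLscH8.main3415 f y h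
    exact hVle z (mem_of_mem_nhds (hzy hV))

end Groth.Agent.Lib.ProperUscH8
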