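import Mathlib
import Groth.Prelude
import Groth.Agent.Lib.GrpDim_helper8
import Groth.Agent.Lib.DenseFib3_helper8
import Groth.Agent.Lib.LimFibDimAll_helper7
import Groth.Agent.Lib.ProperUsc3_helper8

/-!
# The fibre dimension of a flat finitely presented group scheme is locally constant (helper8)
APPEND-ONLY once landed.
-/

set_option autoImplicit false
set_option linter.all false
set_option maxHeartbeats 1600000

universe u
open CategoryTheory CategoryTheory.Limits MonoidalCategory CartesianMonoidalCategory MonObj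
  AlgebraicGeometry Topology

namespace Groth.Agent.Lib.GrpFibDimH8

variable (S : Scheme.{u}) (G : Over S) [GrpObj G]

/-- the fibre dimension of a group scheme at any point is the dimension of the fibre -/
theorem fibreDimAt_eq_dim [LocallyOfFiniteType G.hom] (s : S) (x : G.left) (hx : G.hom x = s) :
    FlatMor.fibreDimAt G.hom x = topologicalKrullDim ↥(G.hom.base ⁻¹' {s}) := by
  subst hx
  haveI : LocallyOfFiniteType ((Over.pullback (S.fromSpecResidueField (G.hom x))).obj G).hom :=
    show LocallyOfFiniteType (pullback.snd G.hom (S.fromSpecResidueField (G.hom x))) from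
      inferInstance
  have h1 := GrpDimH8.localDim_eq_dim (S.residueField (G.hom x))
    ((Over.pullback (S.fromSpecResidueField (G.hom x))).obj G) (G.hom.asFiber x)
  have h2 := IsHomeomorph.topologicalKrullDim_eq _ (G.hom.fiberHomeo (G.hom x)).isHomeomorph
  exact h1.trans h2

theorem unit_spec (s : S) : G.hom ((η[G]).left s) = s := by
  have h1 : (η[G]).left ≫ G.hom = 𝟙 S := Over.w η[G]
  rw [← Scheme.Hom.comp_apply, h1]
  rfl

theorem main3022 [Flat G.hom] [LocallyOfFinitePresentation G.hom] :
    IsLocallyConstant (fun s : S => topologicalKrullDim ↥(G.hom.base ⁻¹' {s})) := by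
  have hφ : ∀ s : S, topologicalKrullDim ↥(G.hom.base ⁻¹' {s}) =
      FlatMor.fibreDimAt G.hom ((η[G]).left s) := fun s =>
    (fibreDimAt_eq_dim S G s _ (unit_spec S G s)).symm
  rw [IsLocallyConstant.iff_eventually_eq]
  intro s
  obtain ⟨n, hn⟩ := EquidimIrrH8.exists_nat_fibreDimAt G.hom ((η[G]).left s)
  have h1 : {s' : S | FlatMor.fibreDimAt G.hom ((η[G]).left s') ≤ (n : WithBot ℕ∞)} ∈ 𝓝 s :=
    ((ChevH8.isOpen_fibreDimAt_le G.hom n).preimage (η[G]).left.continuous).mem_nhds
      (show FlatMor.fibreDimAt G.hom ((η[G]).left s) ≤ (n : WithBot ℕ∞) from hn.le)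
  have hE : IsConstructible
      ((η[G]).left ⁻¹' {x : G.left | (n : WithBot ℕ∞) ≤ FlatMor.fibreDimAt G.hom x}) :=
    (η[G]).left.isConstructible_preimage
      (Groth.Agent.Lib.LimFibDimAllH7.isConstructible_fibreDimAt_ge G.hom n)
  have h2 : ((η[G]).left ⁻¹' {x : G.left | (n : WithBot ℕ∞) ≤ FlatMor.fibreDimAt G.hom x})
      ∈ 𝓝 s := by
    apply Groth.Agent.Lib.ProperUscH8.mem_nhds_of_isLocallyConstructible _
      hE.isLocallyConstructible s
    intro z hz
    show (n : WithBot ℕ∞) ≤ FlatMor.fibreDimAt G.hom ((η[G]).left z)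
    obtain ⟨D, hD⟩ := EquidimIrrH8.exists_nat_fibreDimAt G.hom ((η[G]).left z)
    rw [hD]
    by_contra hlt
    have hlt' : D < n := by
      by_contra h'
      exact hlt (by exact_mod_cast (not_lt.mp h'))
    have hz' : z ⤳ G.hom ((η[G]).left s) := by rw [unit_spec]; exact hz
    have key := Groth.Agent.Lib.DenseFibH8.fibreDimAt_le_of_generization G.hom ((η[G]).left s) z
      hz' D (by
        intro w hw
        rw [fibreDimAt_eq_dim S G z w hw, hφ z, hD])
    rw [hn] at key
    have : n ≤ D := by exact_mod_cast key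
    omega
  filter_upwards [h1, h2] with s' hs1 hs2
  rw [hφ s', hφ s, hn]
  exact le_antisymm hs1 hs2

end Groth.Agent.Lib.GrpFibDimH8
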