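import Groth.Agent.Lib.FibDimConst_lead
import Groth.Agent.Lib.LqfLocus_helper8
import Groth.Agent.Lib.TorsorBC_lead
import Groth.Statements.S5315
import Groth.Statements.S5319

/-! # Quasi-finite locus of a homomorphism of group schemes over a base (lead) -/

set_option backward.isDefEq.respectTransparency false
set_option backward.isDefEq.respectTransparency.types false
set_option linter.unusedSimpArgs false
set_option linter.unusedVariables false
set_option linter.unusedSectionVars false
set_option linter.style.longLine false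
set_option linter.style.haveILetI false
set_option linter.unnecessarySimpa false
set_option maxHeartbeats 800000

universe u

open CategoryTheory CategoryTheory.Limits MonoidalCategory CartesianMonoidalCategory MonObj GrpObj
  AlgebraicGeometry Opposite Topology TopologicalSpace

namespace Groth.Agent.Lib.HomLqf

variable {S : Scheme.{u}}

open Groth.Agent.Lib.FibDimConst in
/-- the local fibre dimension of a homomorphism of group schemes over a base is the same at all
points of the source lying over the same point of the base -/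
theorem fibreDimAt_const_rel {X Y : Over S} [GrpObj X] [GrpObj Y]
    (f : X ⟶ Y) [IsMonHom f] [LocallyOfFiniteType f.left] (x₁ x₂ : X.left)
    (hx : X.hom x₁ = X.hom x₂) :
    FlatMor.fibreDimAt f.left x₁ = FlatMor.fibreDimAt f.left x₂ := by
  obtain ⟨τX, hτX⟩ : ∃ τX : X ⊗ X ⟶ X ⊗ X, τX = lift (fst X X) (fst X X * snd X X) := ⟨_, rfl⟩
  obtain ⟨τX', hτX'⟩ : ∃ τX' : X ⊗ X ⟶ X ⊗ X, τX' = lift (fst X X) ((fst X X)⁻¹ * snd X X) :=
    ⟨_, rfl⟩
  obtain ⟨τY, hτY⟩ : ∃ τY : X ⊗ Y ⟶ X ⊗ Y, τY = lift (fst X Y) ((fst X Y ≫ f) * snd X Y) :=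
    ⟨_, rfl⟩
  obtain ⟨τY', hτY'⟩ : ∃ τY' : X ⊗ Y ⟶ X ⊗ Y,
      τY' = lift (fst X Y) ((fst X Y ≫ f)⁻¹ * snd X Y) := ⟨_, rfl⟩
  have hW : X ◁ f = lift (fst X X) (snd X X ≫ f) := by
    apply CartesianMonoidalCategory.hom_ext <;> simp
  have h1 : τX ≫ τX' = 𝟙 _ := by
    rw [hτX', comp_lift, MonObj.comp_mul, GrpObj.comp_inv, hτX, lift_fst, lift_snd,
      _root_.inv_mul_cancel_left, lift_fst_snd]
  have h2 : τX' ≫ τX = 𝟙 _ := by
    rw [hτX, comp_lift, MonObj.comp_mul, hτX', lift_fst, lift_snd,
      _root_.mul_inv_cancel_left, lift_fst_snd]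
  have h3 : τY ≫ τY' = 𝟙 _ := by
    rw [hτY', comp_lift, MonObj.comp_mul, GrpObj.comp_inv, ← Category.assoc, hτY, lift_fst,
      lift_snd, _root_.inv_mul_cancel_left, lift_fst_snd]
  have h4 : τY' ≫ τY = 𝟙 _ := by
    rw [hτY, comp_lift, MonObj.comp_mul, ← Category.assoc, hτY', lift_fst, lift_snd,
      _root_.mul_inv_cancel_left, lift_fst_snd]
  have hcomm : τX ≫ (X ◁ f) = (X ◁ f) ≫ τY := by
    have hl : τX ≫ (X ◁ f) = lift (fst X X) ((fst X X ≫ f) * (snd X X ≫ f)) := by
      rw [hW, comp_lift, ← Category.assoc, hτX, lift_fst, lift_snd, MonObj.mul_comp]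
    have hr : (X ◁ f) ≫ τY = lift (fst X X) ((fst X X ≫ f) * (snd X X ≫ f)) := by
      rw [hτY, comp_lift, MonObj.comp_mul, ← Category.assoc, hW, lift_fst, lift_snd]
    rw [hl, hr]
  haveI : IsIso τX.left :=
    ⟨⟨τX'.left, by rw [← Over.comp_left, h1]; rfl, by rw [← Over.comp_left, h2]; rfl⟩⟩
  haveI : IsIso τY.left :=
    ⟨⟨τY'.left, by rw [← Over.comp_left, h3]; rfl, by rw [← Over.comp_left, h4]; rfl⟩⟩
  have sqA : IsPullback τX.left (X ◁ f).left (X ◁ f).left τY.left :=
    IsPullback.of_horiz_isIso ⟨by rw [← Over.comp_left, ← Over.comp_left, hcomm]⟩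
  have sqB : IsPullback (snd X X).left (X ◁ f).left f.left (snd X Y).left :=
    (Groth.Agent.Lib.FinGrpSplit.isPullback_whiskerLeft X f).flip
  haveI : LocallyOfFiniteType (X ◁ f).left :=
    MorphismProperty.of_isPullback (P := @LocallyOfFiniteType) sqB inferInstance
  have eA : ∀ z : (X ⊗ X).left, FlatMor.fibreDimAt (X ◁ f).left z =
      FlatMor.fibreDimAt (X ◁ f).left (τX.left z) :=
    fun z => FieldExtH8.fibreDimAt_baseChange (X ◁ f).left τY.left τX.left (X ◁ f).left sqA z
  have eB : ∀ z : (X ⊗ X).left, FlatMor.fibreDimAt (X ◁ f).left z =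
      FlatMor.fibreDimAt f.left ((snd X X).left z) :=
    fun z => FieldExtH8.fibreDimAt_baseChange f.left (snd X Y).left (snd X X).left (X ◁ f).left
      sqB z
  have hpb : IsPullback (fst X X).left (snd X X).left X.hom X.hom :=
    (Groth.Agent.Lib.GenFlatHom.isPullback_fst_snd X X).map (Over.forget _)
  obtain ⟨w, hw1, hw2⟩ := Groth.Agent.Lib.ClosedOrbit.exists_of_isPullback hpb x₁ x₂ hx
  obtain ⟨σ', hσ'⟩ : ∃ σ' : X ⊗ X ⟶ X ⊗ X,
      σ' = lift (snd X X * (fst X X)⁻¹) (fst X X) := ⟨_, rfl⟩
  have hs1 : σ' ≫ snd X X = fst X X := by rw [hσ', lift_snd]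
  have hs2 : σ' ≫ τX ≫ snd X X = snd X X := by
    rw [hτX, lift_snd, MonObj.comp_mul, hσ', lift_fst, lift_snd, _root_.inv_mul_cancel_right]
  have e1 : (snd X X).left (σ'.left w) = x₁ := by
    rw [← comp_pt, hs1]; exact hw1
  have e2 : (snd X X).left (τX.left (σ'.left w)) = x₂ := by
    rw [← comp_pt, ← comp_pt, hs2]; exact hw2
  rw [← e1, ← eB, eA, eB, e2]

/-- the unit section is a section on points -/
theorem hom_unit {G : Over S} [GrpObj G] (s : S) : G.hom (η[G].left s) = s := by
  have h : η[G].left ≫ G.hom = (𝟙_ (Over S)).hom := Over.w η[G]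
  have h2 : (η[G].left ≫ G.hom) s = s := by rw [h]; rfl
  exact h2

/-- the fibre of `u` over `s` is locally quasi-finite iff `u` has relative dimension zero at the
unit point over `s` -/
theorem lqf_fibre_iff {G H : Over S} [GrpObj G] [GrpObj H] (u : G ⟶ H) [IsMonHom u]
    [LocallyOfFiniteType u.left] (s : S) :
    LocallyQuasiFinite ((Over.pullback (S.fromSpecResidueField s)).map u).left ↔
      FlatMor.fibreDimAt u.left (η[G].left s) = 0 := by
  have sq : IsPullback (pullback.fst G.hom (S.fromSpecResidueField s))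
      ((Over.pullback (S.fromSpecResidueField s)).map u).left u.left
      (pullback.fst H.hom (S.fromSpecResidueField s)) :=
    (Groth.Agent.Lib.TorsorBC.isPullback_map_left (S.fromSpecResidueField s) u).flip
  haveI : LocallyOfFiniteType ((Over.pullback (S.fromSpecResidueField s)).map u).left :=
    MorphismProperty.of_isPullback (P := @LocallyOfFiniteType) sq inferInstance
  have eB : ∀ z, FlatMor.fibreDimAt ((Over.pullback (S.fromSpecResidueField s)).map u).left z =
      FlatMor.fibreDimAt u.left (pullback.fst G.hom (S.fromSpecResidueField s) z) :=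
    fun z => FieldExtH8.fibreDimAt_baseChange u.left _ _ _ sq z
  have hfib : ∀ z : ↥(pullback G.hom (S.fromSpecResidueField s)),
      G.hom (pullback.fst G.hom (S.fromSpecResidueField s) z) = s := by
    intro z
    rw [← Scheme.Hom.comp_apply, pullback.condition, Scheme.Hom.comp_apply]
    exact Scheme.fromSpecResidueField_apply _ _
  constructor
  · intro hq
    obtain ⟨y⟩ : Nonempty (PrimeSpectrum (S.residueField s)) := inferInstance
    obtain ⟨z, hz1, hz2⟩ := Scheme.Pullback.exists_preimage_pullback (f := G.hom)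
      (g := S.fromSpecResidueField s) (η[G].left s) y
      ((hom_unit s).trans (Scheme.fromSpecResidueField_apply _ _).symm)
    rw [← hz1, ← eB]
    exact FibCohH8.fibreDimAt_eq_zero_of_lqf _ z
  · intro h0
    apply QSecH8.locallyQuasiFinite_of_fibreDimAt_le_zero
    intro z
    rw [eB, fibreDimAt_const_rel u _ (η[G].left s) ((hfib z).trans (hom_unit s).symm), h0]

theorem main5315 (S : Scheme.{u}) (G H : Over S) [GrpObj G] [GrpObj H] (u : G ⟶ H)
    [IsMonHom u] [LocallyOfFiniteType u.left] :
    IsOpen {s : S | LocallyQuasiFinite ((Over.pullback (S.fromSpecResidueField s)).map u).left} ∧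
    {x : G.left | ∃ W : G.left.Opens, x ∈ W ∧ LocallyQuasiFinite (W.ι ≫ u.left)} =
      G.hom.base ⁻¹' {s : S | LocallyQuasiFinite ((Over.pullback (S.fromSpecResidueField s)).map u).left} := by
  have hV : IsOpen {x : G.left | FlatMor.fibreDimAt u.left x = 0} :=
    LqfLocusH8.isOpen_setOf_fibreDimAt_eq_zero u.left
  have hset : {s : S | LocallyQuasiFinite ((Over.pullback (S.fromSpecResidueField s)).map u).left} =
      (fun s : S => η[G].left s) ⁻¹' {x : G.left | FlatMor.fibreDimAt u.left x = 0} := by
    ext s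
    exact lqf_fibre_iff u s
  refine ⟨?_, ?_⟩
  · rw [hset]
    exact hV.preimage η[G].left.continuous
  · ext x
    constructor
    · rintro ⟨W, hxW, hW⟩
      have h0 : FlatMor.fibreDimAt u.left x = 0 :=
        LqfLocusH8.fibreDimAt_eq_zero_of_exists_opens u.left x ⟨W, hxW, hW, inferInstance⟩
      show LocallyQuasiFinite ((Over.pullback (S.fromSpecResidueField (G.hom x))).map u).left
      rw [lqf_fibre_iff, fibreDimAt_const_rel u _ x (hom_unit _), h0]
    · intro hx
      have hx' : LocallyQuasiFinite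
          ((Over.pullback (S.fromSpecResidueField (G.hom x))).map u).left := hx
      rw [lqf_fibre_iff, fibreDimAt_const_rel u _ x (hom_unit _)] at hx'
      obtain ⟨W, hxW, hW, -⟩ := (LqfLocusH8.exists_opens_lqf_iff u.left x).mpr hx'
      exact ⟨W, hxW, hW⟩

theorem main5319 (S : Scheme.{u}) (G H : Over S) [GrpObj G] [GrpObj H] (u : G ⟶ H) [IsMonHom u]
    [LocallyOfFiniteType u.left] (K : Over S) [GrpObj K] (i : K ⟶ G) [IsMonHom i]
    (hK : AlgGrp.IsKernel i u) :
    (LocallyQuasiFinite u.left ↔ ∀ s : S, LocallyQuasiFinite ((Over.pullback (S.fromSpecResidueField s)).map u).left) ∧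
    (LocallyQuasiFinite u.left ↔ LocallyQuasiFinite K.hom) ∧
    (LocallyQuasiFinite u.left ↔ ∀ s : S, DiscreteTopology ↥(K.hom.base ⁻¹' {s})) := by
  have hall : (∀ s : S, FlatMor.fibreDimAt u.left (η[G].left s) = 0) →
      LocallyQuasiFinite u.left := by
    intro h
    apply QSecH8.locallyQuasiFinite_of_fibreDimAt_le_zero
    intro x
    rw [← fibreDimAt_const_rel u _ x (hom_unit (G.hom x)), h]
  have sqK : IsPullback i.left K.hom u.left η[H].left := by
    have h := (show IsPullback i (toUnit K) u η[H] from hK).map (Over.forget S)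
    exact h
  haveI hKlft : LocallyOfFiniteType K.hom :=
    MorphismProperty.of_isPullback (P := @LocallyOfFiniteType) sqK inferInstance
  have a : LocallyQuasiFinite u.left ↔
      ∀ s : S, LocallyQuasiFinite ((Over.pullback (S.fromSpecResidueField s)).map u).left := by
    constructor
    · intro hq s
      exact MorphismProperty.of_isPullback (P := @LocallyQuasiFinite)
        (Groth.Agent.Lib.TorsorBC.isPullback_map_left (S.fromSpecResidueField s) u).flip hq
    · intro h
      exact hall fun s => (lqf_fibre_iff u s).mp (h s)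
  have b : LocallyQuasiFinite u.left ↔ LocallyQuasiFinite K.hom := by
    constructor
    · intro hq
      exact MorphismProperty.of_isPullback (P := @LocallyQuasiFinite) sqK hq
    · intro hq
      apply hall
      intro s
      have e1 : i.left (η[K].left s) = η[G].left s := by
        rw [← IsMonHom.one_hom (f := i)]; rfl
      rw [← e1, ← FieldExtH8.fibreDimAt_baseChange u.left η[H].left i.left K.hom sqK]
      exact FibCohH8.fibreDimAt_eq_zero_of_lqf K.hom _
  refine ⟨a, b, b.trans ?_⟩
  rw [locallyQuasiFinite_iff_isDiscrete_preimage_singleton]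
  refine forall_congr' fun s => ?_
  exact isDiscrete_iff_discreteTopology

end Groth.Agent.Lib.HomLqf
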