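import Mathlib
import Groth.Agent.Lib.GrpPLocus_lead
import Groth.Agent.Lib.GrpHomHomog_lead
import Groth.Agent.Lib.HomLqf_lead
import Groth.Agent.Lib.GrpFlatHom_helper4

/-!
# Homogeneity for homomorphisms of group schemes over a one-point base (helper4)

`P` on a nonempty open of `G` implies `P` everywhere, for `P` = locally quasi-finite,
unramified, smooth, étale (SGA3 VI_B 1.3, artinian local base).
-/

set_option autoImplicit false
set_option linter.unusedVariables false
set_option linter.unusedTactic false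
set_option linter.unreachableTactic false
set_option linter.unusedSectionVars false
set_option linter.style.haveILetI false
set_option linter.deprecated false
set_option maxHeartbeats 1600000

universe u

open CategoryTheory CategoryTheory.Limits MonoidalCategory CartesianMonoidalCategory MonObj GrpObj
  AlgebraicGeometry TensorProduct TopologicalSpace

namespace Groth.Agent.Lib.GrpHomArtH4

open Groth.Agent.Lib.AssocBundle Groth.Agent.Lib.IsogKernel Groth.Agent.Lib.TorsorSeq
open Groth.Agent.Lib.GrpHomHomog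

section

variable {S : Scheme.{u}} {G H : Over S} [GrpObj G] [GrpObj H] (φ : G ⟶ H) [IsMonHom φ]

omit [GrpObj G] in
theorem exists_pair' (hsub : Subsingleton ↥S) (x v : G.left) :
    ∃ w : (G ⊗ G).left, (fst G G).left.base w = x ∧ (snd G G).left.base w = v := by
  have sq : IsPullback (fst G G).left (snd G G).left (toUnit G).left (toUnit G).left :=
    (Groth.Agent.Lib.GenFlatHom.isPullback_fst_snd G G).map (Over.forget _)
  have hsub' : Subsingleton ↥(𝟙_ (Over S)).left := hsub
  exact Groth.Agent.Lib.ClosedOrbit.exists_of_isPullback sq x v (@Subsingleton.elim _ hsub' _ _)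

theorem lfp_act [LocallyOfFinitePresentation G.hom] :
    LocallyOfFinitePresentation ((φ ▷ H) ≫ μ[H]).left := by
  refine Groth.Agent.Lib.GenFlatHom.prop_act ((φ ▷ H) ≫ μ[H]) ?_ ?_
    @LocallyOfFinitePresentation inferInstance
  · intro T x
    rw [act_pt, MonObj.one_comp, _root_.one_mul]
  · intro T g h x
    rw [act_pt, act_pt, act_pt, MonObj.mul_comp, _root_.mul_assoc]

omit [IsMonHom φ] in
theorem big_sq (W : G.left.Opens) :
    IsPullback ((snd G G).left ∣_ W) (((snd G G).left ⁻¹ᵁ W).ι ≫ (psi φ).left) (W.ι ≫ φ.left)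
      (snd G H).left :=
  (isPullback_morphismRestrict (snd G G).left W).paste_vert ((sq2 φ).map (Over.forget _))

omit [GrpObj G] in
theorem surj_fst (hsub : Subsingleton ↥S) (W : G.left.Opens) (hW : (W : Set G.left).Nonempty) :
    Surjective (((snd G G).left ⁻¹ᵁ W).ι ≫ (fst G G).left) := by
  constructor
  intro x
  obtain ⟨w₀, hw₀⟩ := hW
  obtain ⟨w, hw1, hw2⟩ := exists_pair' hsub x w₀
  have hwW : w ∈ (snd G G).left ⁻¹ᵁ W := by
    show (snd G G).left.base w ∈ W
    rw [hw2]; exact hw₀
  exact ⟨⟨w, hwW⟩, hw1⟩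

theorem smooth_of_open (hsub : Subsingleton ↥S) [Flat G.hom] [LocallyOfFinitePresentation G.hom]
    (W : G.left.Opens) (hW : (W : Set G.left).Nonempty) (h : Smooth (W.ι ≫ φ.left)) :
    Smooth φ.left := by
  haveI := surj_fst hsub W hW
  haveI : Flat ((φ ▷ H) ≫ μ[H]).left := flat_act φ
  haveI : LocallyOfFinitePresentation ((φ ▷ H) ≫ μ[H]).left := lfp_act φ
  have sq1' : IsPullback (fst G G).left (psi φ).left φ.left ((φ ▷ H) ≫ μ[H]).left :=
    (sq1 φ).map (Over.forget _)
  exact Groth.Agent.Lib.GrpPLocus.dl_smooth sq1'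
    ((snd G G).left ⁻¹ᵁ W).ι
    (MorphismProperty.of_isPullback (P := @Smooth) (big_sq φ W) h)

theorem etale_of_open (hsub : Subsingleton ↥S) [Flat G.hom] [LocallyOfFinitePresentation G.hom]
    (W : G.left.Opens) (hW : (W : Set G.left).Nonempty) (h : Etale (W.ι ≫ φ.left)) :
    Etale φ.left := by
  haveI := surj_fst hsub W hW
  haveI : Flat ((φ ▷ H) ≫ μ[H]).left := flat_act φ
  haveI : LocallyOfFinitePresentation ((φ ▷ H) ≫ μ[H]).left := lfp_act φ
  have sq1' : IsPullback (fst G G).left (psi φ).left φ.left ((φ ▷ H) ≫ μ[H]).left :=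
    (sq1 φ).map (Over.forget _)
  exact Groth.Agent.Lib.GrpPLocus.dl_etale sq1'
    ((snd G G).left ⁻¹ᵁ W).ι
    (MorphismProperty.of_isPullback (P := @Etale) (big_sq φ W) h)

theorem unram_of_open (hsub : Subsingleton ↥S) [Flat G.hom] [LocallyOfFinitePresentation G.hom]
    (W : G.left.Opens) (hW : (W : Set G.left).Nonempty)
    (h1 : FormallyUnramified (W.ι ≫ φ.left))
    (h2 : LocallyOfFinitePresentation (W.ι ≫ φ.left)) :
    FormallyUnramified φ.left ∧ LocallyOfFinitePresentation φ.left := by
  haveI := surj_fst hsub W hW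
  haveI hfa : Flat ((φ ▷ H) ≫ μ[H]).left := flat_act φ
  haveI hla : LocallyOfFinitePresentation ((φ ▷ H) ≫ μ[H]).left := lfp_act φ
  have sq1' : IsPullback (fst G G).left (psi φ).left φ.left ((φ ▷ H) ≫ μ[H]).left :=
    (sq1 φ).map (Over.forget _)
  have sq2' : IsPullback (snd G G).left (psi φ).left φ.left (snd G H).left :=
    (sq2 φ).map (Over.forget _)
  haveI : Flat (fst G G).left := MorphismProperty.of_isPullback (P := @Flat) sq1'.flip hfa
  haveI : LocallyOfFinitePresentation (fst G G).left :=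
    MorphismProperty.of_isPullback (P := @LocallyOfFinitePresentation) sq1'.flip hla
  haveI hjpsi : LocallyOfFinitePresentation (((snd G G).left ⁻¹ᵁ W).ι ≫ (psi φ).left) :=
    MorphismProperty.of_isPullback (P := @LocallyOfFinitePresentation) (big_sq φ W) h2
  have e : (((snd G G).left ⁻¹ᵁ W).ι ≫ (fst G G).left) ≫ φ.left =
      (((snd G G).left ⁻¹ᵁ W).ι ≫ (psi φ).left) ≫ ((φ ▷ H) ≫ μ[H]).left := by
    simp only [Category.assoc, sq1'.w]
  haveI : LocallyOfFinitePresentation
      ((((snd G G).left ⁻¹ᵁ W).ι ≫ (fst G G).left) ≫ φ.left) := by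
    rw [e]; infer_instance
  haveI hlfp : LocallyOfFinitePresentation φ.left :=
    Groth.Agent.S0114.result (((snd G G).left ⁻¹ᵁ W).ι ≫ (fst G G).left) φ.left
  refine ⟨?_, hlfp⟩
  apply Groth.Agent.Lib.UnramLocH4.formallyUnramified_of_forall_stalk
  intro x
  obtain ⟨w₀, hw₀⟩ := hW
  obtain ⟨w, hw1, hw2⟩ := exists_pair' hsub x w₀
  haveI : LocallyOfFiniteType (psi φ).left :=
    MorphismProperty.of_isPullback (P := @LocallyOfFiniteType) sq2' inferInstance
  have hv : (φ.left.stalkMap w₀).hom.FormallyUnramified :=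
    Groth.Agent.Lib.UnramLocH4.stalk_of_nhd φ.left w₀ W hw₀ h1
  have h2' : ((psi φ).left.stalkMap w).hom.FormallyUnramified :=
    (stalk_unramified_iff_of_isPullback sq2' w).mpr
      ((Groth.Agent.Lib.UnramLocH4.stalk_congr_point (P := RingHom.FormallyUnramified) φ.left
        hw2).mpr hv)
  have h1' := (stalk_unramified_iff_of_isPullback sq1' w).mp h2'
  exact (Groth.Agent.Lib.UnramLocH4.stalk_congr_point (P := RingHom.FormallyUnramified) φ.left
    hw1).mp h1'

set_option backward.isDefEq.respectTransparency.types false in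
theorem lqf_of_open (hsub : Subsingleton ↥S) [LocallyOfFiniteType φ.left]
    (W : G.left.Opens) (hW : (W : Set G.left).Nonempty)
    (h : LocallyQuasiFinite (W.ι ≫ φ.left)) : LocallyQuasiFinite φ.left := by
  haveI := hsub
  have h15 := (Groth.Agent.Lib.HomLqf.main5315 S G H φ).2
  obtain ⟨x₀, hx₀⟩ := hW
  have hx₀' := (Set.ext_iff.mp h15 x₀).mp ⟨W, hx₀, h⟩
  have hall : ∀ x : G.left, ∃ W' : G.left.Opens, x ∈ W' ∧
      LocallyQuasiFinite (W'.ι ≫ φ.left) := by
    intro x
    refine (Set.ext_iff.mp h15 x).mpr ?_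
    show G.hom.base x ∈ {s : S | LocallyQuasiFinite
      ((Over.pullback (S.fromSpecResidueField s)).map φ).left}
    rw [Subsingleton.elim (G.hom.base x) (G.hom.base x₀)]
    exact hx₀'
  choose W' hxW' hW' using hall
  refine IsZariskiLocalAtSource.of_iSup_eq_top (P := @LocallyQuasiFinite) W' ?_ hW'
  rw [eq_top_iff]
  intro x _
  exact Opens.mem_iSup.mpr ⟨x, hxW' x⟩

end

theorem main5337 (A : Type u) [CommRing A] [IsArtinianRing A] [IsLocalRing A]
    (G H : Over (Spec (CommRingCat.of A))) [GrpObj G] [GrpObj H]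
    [Flat G.hom] [LocallyOfFiniteType G.hom] (u : G ⟶ H) [IsMonHom u] (W : G.left.Opens)
    (hW : (W : Set G.left).Nonempty) :
    (LocallyQuasiFinite (W.ι ≫ u.left) → LocallyQuasiFinite u.left) ∧
    (FormallyUnramified (W.ι ≫ u.left) → LocallyOfFinitePresentation (W.ι ≫ u.left) →
      FormallyUnramified u.left ∧ LocallyOfFinitePresentation u.left) ∧
    (Smooth (W.ι ≫ u.left) → Smooth u.left) ∧ (Etale (W.ι ≫ u.left) → Etale u.left) := by
  have hsub := Groth.Agent.Lib.GrpFlatHomH4.subsingleton_spec_of_artinian_local A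
  haveI : IsNoetherianRing A := inferInstance
  haveI : IsLocallyNoetherian (Spec (CommRingCat.of A)) := inferInstance
  haveI : LocallyOfFinitePresentation G.hom := inferInstance
  haveI : LocallyOfFiniteType (u.left ≫ H.hom) := by rw [Over.w u]; infer_instance
  haveI : LocallyOfFiniteType u.left := locallyOfFiniteType_of_comp u.left H.hom
  exact ⟨lqf_of_open u hsub W hW, unram_of_open u hsub W hW, smooth_of_open u hsub W hW,
    etale_of_open u hsub W hW⟩

end Groth.Agent.Lib.GrpHomArtH4
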