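import Groth.Statements.S5313
import Groth.Statements.S5314
import Groth.Statements.S5316
import Groth.Statements.S5317
import Groth.Agent.Lib.GrpHomHomog_lead
import Groth.Agent.Lib.FibCrit12_helper8
import Groth.Agent.S1386

/-! # The smooth / étale / unramified / open-immersion loci of a homomorphism of group schemes (lead) -/

set_option backward.isDefEq.respectTransparency false
set_option backward.isDefEq.respectTransparency.types false
set_option linter.unusedSimpArgs false
set_option linter.unusedVariables false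
set_option linter.unusedSectionVars false
set_option linter.style.longLine false
set_option linter.style.haveILetI false
set_option linter.unnecessarySimpa false
set_option maxHeartbeats 800000

universe u

open CategoryTheory CategoryTheory.Limits MonoidalCategory CartesianMonoidalCategory MonObj GrpObj
  AlgebraicGeometry Opposite Topology TopologicalSpace

namespace Groth.Agent.Lib.GrpHomLocus

variable {S : Scheme.{u}}

/-- the generic shape of the locus statements -/
theorem locus_generic (P : MorphismProperty Scheme.{u}) (G H : Over S) [GrpObj G] (u : G ⟶ H)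
    (ha : ∀ x : G.left, P ((Over.pullback (S.fromSpecResidueField (G.hom.base x))).map u).left →
      ∃ W : G.left.Opens, x ∈ W ∧ P (W.ι ≫ u.left))
    (hb : ∀ x : G.left, (∃ W : G.left.Opens, x ∈ W ∧ P (W.ι ≫ u.left)) →
      P ((Over.pullback (S.fromSpecResidueField (G.hom.base x))).map u).left) :
    IsOpen {s : S | P ((Over.pullback (S.fromSpecResidueField s)).map u).left} ∧
    {x : G.left | ∃ W : G.left.Opens, x ∈ W ∧ P (W.ι ≫ u.left)} =
      G.hom.base ⁻¹' {s : S | P ((Over.pullback (S.fromSpecResidueField s)).map u).left} := by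
  have h2 : {x : G.left | ∃ W : G.left.Opens, x ∈ W ∧ P (W.ι ≫ u.left)} =
      G.hom.base ⁻¹' {s : S | P ((Over.pullback (S.fromSpecResidueField s)).map u).left} := by
    ext x
    exact ⟨fun hx => hb x hx, fun hx => ha x hx⟩
  refine ⟨?_, h2⟩
  have hLopen : IsOpen {x : G.left | ∃ W : G.left.Opens, x ∈ W ∧ P (W.ι ≫ u.left)} := by
    rw [isOpen_iff_forall_mem_open]
    rintro x ⟨W, hxW, hW⟩
    exact ⟨W, fun y hy => ⟨W, hy, hW⟩, W.2, hxW⟩
  have he : ∀ s : S, G.hom.base (η[G].left.base s) = s := by
    intro s
    have hw : η[G].left ≫ G.hom = (𝟙_ (Over S)).hom := Over.w η[G]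
    rw [← Scheme.Hom.comp_apply, hw]
    rfl
  have hEq : {s : S | P ((Over.pullback (S.fromSpecResidueField s)).map u).left} =
      η[G].left.base ⁻¹' {x : G.left | ∃ W : G.left.Opens, x ∈ W ∧ P (W.ι ≫ u.left)} := by
    ext s
    constructor
    · intro hs
      apply ha
      rw [he]
      exact hs
    · intro hs
      have h' := hb _ hs
      rw [he] at h'
      exact h'
  rw [hEq]
  exact hLopen.preimage η[G].left.continuous

/-- base change of a neighbourhood property to the fibre through the point -/
theorem nhd_baseChange (P : MorphismProperty Scheme.{u}) [P.IsStableUnderBaseChange]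
    (G H : Over S) (u : G ⟶ H) (x : G.left) (W : G.left.Opens) (hxW : x ∈ W)
    (hW : P (W.ι ≫ u.left)) :
    ∃ y : ↥(pullback G.hom (S.fromSpecResidueField (G.hom.base x))),
      y ∈ (pullback.fst G.hom (S.fromSpecResidueField (G.hom.base x))) ⁻¹ᵁ W ∧
      P (((pullback.fst G.hom (S.fromSpecResidueField (G.hom.base x))) ⁻¹ᵁ W).ι ≫
        ((Over.pullback (S.fromSpecResidueField (G.hom.base x))).map u).left) := by
  have sqA : IsPullback
      (pullback.fst G.hom (S.fromSpecResidueField (G.hom.base x)) ∣_ W)
      (pullback.fst G.hom (S.fromSpecResidueField (G.hom.base x)) ⁻¹ᵁ W).ι W.ι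
      (pullback.fst G.hom (S.fromSpecResidueField (G.hom.base x))) :=
    isPullback_morphismRestrict _ W
  have sqB := Groth.Agent.Lib.TorsorBC.isPullback_map_left
    (S.fromSpecResidueField (G.hom.base x)) u
  have sq := sqA.paste_vert sqB.flip
  obtain ⟨y, hy1, -⟩ := Scheme.Pullback.exists_preimage_pullback (f := G.hom)
    (g := S.fromSpecResidueField (G.hom.base x)) x
    (IsLocalRing.closedPoint ↑(S.residueField (G.hom.base x)))
    (by rw [Scheme.fromSpecResidueField_apply])
  refine ⟨y, ?_, MorphismProperty.of_isPullback (P := P) sq hW⟩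
  show (pullback.fst G.hom (S.fromSpecResidueField (G.hom.base x))) y ∈ W
  rw [hy1]
  exact hxW

section lfp

variable (G H : Over S) [GrpObj G] [GrpObj H] (u : G ⟶ H) [IsMonHom u]

theorem lfp_fibre [LocallyOfFinitePresentation u.left] (s : S) :
    LocallyOfFinitePresentation ((Over.pullback (S.fromSpecResidueField s)).map u).left :=
  MorphismProperty.of_isPullback (P := @LocallyOfFinitePresentation)
    (Groth.Agent.Lib.TorsorBC.isPullback_map_left (S.fromSpecResidueField s) u).flip inferInstance

/-- smooth: from the fibre to a neighbourhood -/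
theorem smooth_nhd_of_fibre [Flat G.hom] [LocallyOfFinitePresentation G.hom]
    [LocallyOfFiniteType H.hom] (x : G.left)
    (hsm : Smooth ((Over.pullback (S.fromSpecResidueField (G.hom.base x))).map u).left) :
    ∃ W : G.left.Opens, x ∈ W ∧ Smooth (W.ι ≫ u.left) := by
  haveI : Flat (u.left ≫ H.hom) := by rw [Over.w u]; infer_instance
  haveI : LocallyOfFinitePresentation (u.left ≫ H.hom) := by rw [Over.w u]; infer_instance
  have H' : Groth.Agent.Lib.FibCritH8.Crit u.left H.hom :=
    fun x h1 h2 => ((Groth.Agent.S1386.result u.left H.hom).1 x).mp ⟨h1, h2⟩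
  have hs : Smooth (pullback.snd u.left (H.hom.fiberι (G.hom.base x))) :=
    (Groth.Agent.Lib.IsogFibre.fibre_transfer @Smooth u (G.hom.base x)).mp hsm
  obtain ⟨U, hU1, hU2⟩ :=
    Groth.Agent.Lib.FibCritH8.exists_smooth_nhd_of_crit H' (G.hom.base x) hs
  exact ⟨U, hU1 x (by rw [Over.w u]), hU2⟩

/-- smooth: from a neighbourhood to the fibre -/
theorem smooth_fibre_of_nhd [LocallyOfFinitePresentation u.left] (x : G.left)
    (hx : ∃ W : G.left.Opens, x ∈ W ∧ Smooth (W.ι ≫ u.left)) :
    Smooth ((Over.pullback (S.fromSpecResidueField (G.hom.base x))).map u).left := by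
  obtain ⟨W, hxW, hW⟩ := hx
  obtain ⟨y, hy, hP⟩ := nhd_baseChange @Smooth G H u x W hxW hW
  haveI := lfp_fibre G H u (G.hom.base x)
  have hv := Groth.Agent.Lib.UnramLocH4.stalk_smooth_of_nhd
    ((Over.pullback (S.fromSpecResidueField (G.hom.base x))).map u).left y _ hy hP
  exact Groth.Agent.Lib.GrpHomHomog.smooth_hom_of_point (k := ↑(S.residueField (G.hom.base x)))
    ((Over.pullback (S.fromSpecResidueField (G.hom.base x))).map u) y hv

/-- étale: from the fibre to a neighbourhood -/
theorem etale_nhd_of_fibre [Flat G.hom] [LocallyOfFinitePresentation G.hom]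
    [LocallyOfFiniteType H.hom] (x : G.left)
    (hsm : Etale ((Over.pullback (S.fromSpecResidueField (G.hom.base x))).map u).left) :
    ∃ W : G.left.Opens, x ∈ W ∧ Etale (W.ι ≫ u.left) := by
  haveI : Flat (u.left ≫ H.hom) := by rw [Over.w u]; infer_instance
  haveI : LocallyOfFinitePresentation (u.left ≫ H.hom) := by rw [Over.w u]; infer_instance
  have H' : Groth.Agent.Lib.FibCritH8.Crit u.left H.hom :=
    fun x h1 h2 => ((Groth.Agent.S1386.result u.left H.hom).1 x).mp ⟨h1, h2⟩
  have hpt : H.hom.base (u.left.base x) = G.hom.base x := by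
    rw [← Scheme.Hom.comp_apply, Over.w u]
  have hs' : Etale ((Over.pullback
      (S.fromSpecResidueField (H.hom.base (u.left.base x)))).map u).left := by
    rw [hpt]; exact hsm
  have hs : Etale (pullback.snd u.left (H.hom.fiberι (H.hom.base (u.left.base x)))) :=
    (Groth.Agent.Lib.IsogFibre.fibre_transfer @Etale u _).mp hs'
  haveI hfm : Etale (MoreMor.fiberMap u.left H.hom (H.hom.base (u.left.base x))) :=
    Groth.Agent.Lib.FibCritH8.etale_fiberMap (f := u.left) (g := H.hom) _ hs
  refine (Groth.Agent.Lib.FibCritH8.etale_at_iff_of_crit H' x (Flat.stalkMap _ x)).mpr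
    ⟨⊤, trivial, ?_⟩
  infer_instance

/-- étale: from a neighbourhood to the fibre -/
theorem etale_fibre_of_nhd [LocallyOfFinitePresentation u.left] (x : G.left)
    (hx : ∃ W : G.left.Opens, x ∈ W ∧ Etale (W.ι ≫ u.left)) :
    Etale ((Over.pullback (S.fromSpecResidueField (G.hom.base x))).map u).left := by
  obtain ⟨W, hxW, hW⟩ := hx
  obtain ⟨y, hy, hP⟩ := nhd_baseChange @Etale G H u x W hxW hW
  haveI := lfp_fibre G H u (G.hom.base x)
  exact Groth.Agent.Lib.GrpHomHomog.etale_hom_of_open (k := ↑(S.residueField (G.hom.base x)))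
    ((Over.pullback (S.fromSpecResidueField (G.hom.base x))).map u) _ ⟨y, hy⟩ hP

/-- unramified: from the fibre to a neighbourhood -/
theorem unram_nhd_of_fibre [LocallyOfFiniteType u.left] (x : G.left)
    (hsm : FormallyUnramified
      ((Over.pullback (S.fromSpecResidueField (G.hom.base x))).map u).left) :
    ∃ W : G.left.Opens, x ∈ W ∧ FormallyUnramified (W.ι ≫ u.left) := by
  have hpt : H.hom.base (u.left.base x) = G.hom.base x := by
    rw [← Scheme.Hom.comp_apply, Over.w u]
  have hs' : FormallyUnramified ((Over.pullback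
      (S.fromSpecResidueField (H.hom.base (u.left.base x)))).map u).left := by
    rw [hpt]; exact hsm
  have hs : FormallyUnramified
      (pullback.snd u.left (H.hom.fiberι (H.hom.base (u.left.base x)))) :=
    (Groth.Agent.Lib.IsogFibre.fibre_transfer @FormallyUnramified u _).mp hs'
  haveI hfm : FormallyUnramified
      (MoreMor.fiberMap u.left H.hom (H.hom.base (u.left.base x))) := by
    rw [Groth.Agent.Lib.FibCritH8.fiberMap_eq]
    exact (MorphismProperty.cancel_left_of_respectsIso @FormallyUnramified _ _).mpr hs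
  rw [Groth.Agent.Lib.UnramLocH4.exists_nhd_iff_stalk]
  apply Groth.Agent.Lib.FibCritH8.stalkMap_formallyUnramified_of_fiberMap u.left H.hom x
  exact FormallyUnramified.stalkMap _ _

/-- unramified: from a neighbourhood to the fibre -/
theorem unram_fibre_of_nhd [LocallyOfFinitePresentation u.left] (x : G.left)
    (hx : ∃ W : G.left.Opens, x ∈ W ∧ FormallyUnramified (W.ι ≫ u.left)) :
    FormallyUnramified ((Over.pullback (S.fromSpecResidueField (G.hom.base x))).map u).left := by
  obtain ⟨W, hxW, hW⟩ := hx
  obtain ⟨y, hy, hP⟩ := nhd_baseChange @FormallyUnramified G H u x W hxW hW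
  haveI := lfp_fibre G H u (G.hom.base x)
  have hv := Groth.Agent.Lib.UnramLocH4.stalk_of_nhd
    ((Over.pullback (S.fromSpecResidueField (G.hom.base x))).map u).left y _ hy hP
  exact Groth.Agent.Lib.GrpHomHomog.unramified_hom_of_point
    (k := ↑(S.residueField (G.hom.base x)))
    ((Over.pullback (S.fromSpecResidueField (G.hom.base x))).map u) y hv

end lfp

theorem main5313 (S : Scheme.{u}) (G H : Over S) [GrpObj G] [GrpObj H] (u : G ⟶ H) [IsMonHom u]
    [Flat G.hom] [LocallyOfFinitePresentation G.hom] [LocallyOfFiniteType H.hom] :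
    IsOpen {s : S | Smooth ((Over.pullback (S.fromSpecResidueField s)).map u).left} ∧
    {x : G.left | ∃ W : G.left.Opens, x ∈ W ∧ Smooth (W.ι ≫ u.left)} = G.hom.base ⁻¹' {s : S | Smooth ((Over.pullback (S.fromSpecResidueField s)).map u).left} := by
  haveI : LocallyOfFinitePresentation (u.left ≫ H.hom) := by rw [Over.w u]; infer_instance
  haveI : LocallyOfFinitePresentation u.left :=
    Groth.Agent.Lib.AlgSpLocP9_helper7.locallyOfFinitePresentation_of_comp u.left H.hom
  exact locus_generic @Smooth G H u (smooth_nhd_of_fibre G H u) (smooth_fibre_of_nhd G H u)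

theorem main5314 (S : Scheme.{u}) (G H : Over S) [GrpObj G] [GrpObj H] (u : G ⟶ H) [IsMonHom u]
    [Flat G.hom] [LocallyOfFinitePresentation G.hom] [LocallyOfFiniteType H.hom] :
    IsOpen {s : S | Etale ((Over.pullback (S.fromSpecResidueField s)).map u).left} ∧
    {x : G.left | ∃ W : G.left.Opens, x ∈ W ∧ Etale (W.ι ≫ u.left)} = G.hom.base ⁻¹' {s : S | Etale ((Over.pullback (S.fromSpecResidueField s)).map u).left} := by
  haveI : LocallyOfFinitePresentation (u.left ≫ H.hom) := by rw [Over.w u]; infer_instance
  haveI : LocallyOfFinitePresentation u.left :=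
    Groth.Agent.Lib.AlgSpLocP9_helper7.locallyOfFinitePresentation_of_comp u.left H.hom
  exact locus_generic @Etale G H u (etale_nhd_of_fibre G H u) (etale_fibre_of_nhd G H u)

theorem main5316 (S : Scheme.{u}) (G H : Over S) [GrpObj G] [GrpObj H] (u : G ⟶ H)
    [IsMonHom u] [LocallyOfFinitePresentation u.left] :
    IsOpen {s : S | FormallyUnramified ((Over.pullback (S.fromSpecResidueField s)).map u).left} ∧
    {x : G.left | ∃ W : G.left.Opens, x ∈ W ∧ FormallyUnramified (W.ι ≫ u.left)} =
      G.hom.base ⁻¹' {s : S | FormallyUnramified ((Over.pullback (S.fromSpecResidueField s)).map u).left} :=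
  locus_generic @FormallyUnramified G H u (unram_nhd_of_fibre G H u) (unram_fibre_of_nhd G H u)

theorem isOpenImmersion_of_etale_of_universallyInjective {X Y : Scheme.{u}} (f : X ⟶ Y)
    [Etale f] [UniversallyInjective f] : IsOpenImmersion f := by
  have hsurj : Surjective (pullback.diagonal f) :=
    (UniversallyInjective.iff_diagonal f).mp inferInstance
  haveI : IsIso (pullback.diagonal f) := by
    apply isIso_of_isOpenImmersion_of_opensRange_eq_top
    ext z
    simp only [Scheme.Hom.coe_opensRange, TopologicalSpace.Opens.coe_top, Set.mem_univ, iff_true]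
    exact hsurj.surj z
  haveI : Mono f := (pullback.isIso_diagonal_iff f).mp inferInstance
  exact IsOpenImmersion.of_flat_of_mono f

theorem main5317 (S : Scheme.{u}) (G H : Over S) [GrpObj G] [GrpObj H]
    (u : G ⟶ H) [IsMonHom u] [UniversallyInjective u.left]
    [Flat G.hom] [LocallyOfFinitePresentation G.hom] [LocallyOfFiniteType H.hom] :
    IsOpen {s : S | IsOpenImmersion ((Over.pullback (S.fromSpecResidueField s)).map u).left} ∧
    ∀ W : S.Opens, (W : Set S) ⊆ {s : S | IsOpenImmersion ((Over.pullback (S.fromSpecResidueField s)).map u).left} → IsOpenImmersion ((G.hom ⁻¹ᵁ W).ι ≫ u.left) := by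
  haveI : LocallyOfFinitePresentation (u.left ≫ H.hom) := by rw [Over.w u]; infer_instance
  haveI : LocallyOfFinitePresentation u.left :=
    Groth.Agent.Lib.AlgSpLocP9_helper7.locallyOfFinitePresentation_of_comp u.left H.hom
  have hEq : {s : S | IsOpenImmersion ((Over.pullback (S.fromSpecResidueField s)).map u).left} =
      {s : S | Etale ((Over.pullback (S.fromSpecResidueField s)).map u).left} := by
    ext s
    constructor
    · intro hs
      haveI : IsOpenImmersion ((Over.pullback (S.fromSpecResidueField s)).map u).left := hs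
      show Etale ((Over.pullback (S.fromSpecResidueField s)).map u).left
      infer_instance
    · intro hs
      haveI : Etale ((Over.pullback (S.fromSpecResidueField s)).map u).left := hs
      haveI : UniversallyInjective ((Over.pullback (S.fromSpecResidueField s)).map u).left :=
        MorphismProperty.of_isPullback (P := @UniversallyInjective)
          (Groth.Agent.Lib.TorsorBC.isPullback_map_left (S.fromSpecResidueField s) u).flip
          inferInstance
      exact isOpenImmersion_of_etale_of_universallyInjective _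
  refine ⟨by rw [hEq]; exact (main5314 S G H u).1, ?_⟩
  intro W hW
  rw [hEq] at hW
  haveI : LocallyOfFinitePresentation ((G.hom ⁻¹ᵁ W).ι ≫ u.left) := inferInstance
  have hstalk : ∀ z : ↥(G.hom ⁻¹ᵁ W),
      (((G.hom ⁻¹ᵁ W).ι ≫ u.left).stalkMap z).hom.Flat ∧
      (((G.hom ⁻¹ᵁ W).ι ≫ u.left).stalkMap z).hom.FormallyUnramified := by
    intro z
    have hzW : G.hom.base ((G.hom ⁻¹ᵁ W).ι.base z) ∈ W :=
      Groth.Agent.Lib.RigidExt.ι_mem (G.hom ⁻¹ᵁ W) z
    have het := hW hzW
    obtain ⟨W', hxW', hW'⟩ := etale_nhd_of_fibre G H u _ het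
    haveI := hW'
    have h1 : (u.left.stalkMap ((G.hom ⁻¹ᵁ W).ι.base z)).hom.Flat :=
      Groth.Agent.Lib.UnramLocH4.flat_stalk_of_nhd u.left _ W' hxW'
    have h2 : (u.left.stalkMap ((G.hom ⁻¹ᵁ W).ι.base z)).hom.FormallyUnramified :=
      Groth.Agent.Lib.UnramLocH4.stalk_of_nhd u.left _ W' hxW' inferInstance
    exact ⟨(Groth.Agent.Lib.UnramLocH4.stalk_transfer RingHom.Flat.respectsIso (G.hom ⁻¹ᵁ W).ι
        u.left ((G.hom ⁻¹ᵁ W).ι ≫ u.left) (𝟙 _) (Category.comp_id _).symm z).mpr h1,
      (Groth.Agent.Lib.UnramLocH4.stalk_transfer RingHom.FormallyUnramified.respectsIso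
        (G.hom ⁻¹ᵁ W).ι u.left ((G.hom ⁻¹ᵁ W).ι ≫ u.left) (𝟙 _)
        (Category.comp_id _).symm z).mpr h2⟩
  haveI : Flat ((G.hom ⁻¹ᵁ W).ι ≫ u.left) := Flat.of_stalkMap _ (fun z => (hstalk z).1)
  haveI : FormallyUnramified ((G.hom ⁻¹ᵁ W).ι ≫ u.left) :=
    Groth.Agent.Lib.UnramLocH4.formallyUnramified_of_forall_stalk _ (fun z => (hstalk z).2)
  haveI : Etale ((G.hom ⁻¹ᵁ W).ι ≫ u.left) := Etale.of_formallyUnramified_of_flat _
  haveI : UniversallyInjective (G.hom ⁻¹ᵁ W).ι := inferInstance
  haveI : UniversallyInjective ((G.hom ⁻¹ᵁ W).ι ≫ u.left) :=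
    MorphismProperty.comp_mem @UniversallyInjective _ _ inferInstance inferInstance
  exact isOpenImmersion_of_etale_of_universallyInjective _

end Groth.Agent.Lib.GrpHomLocus
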