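import Mathlib.CategoryTheory.Monoidal.Cartesian.Grp

/-! Group-object structure on a quotient `q : G ⟶ Q` in a cartesian monoidal category, given
descended multiplication and inverse, when `q`, `(q ⊗ q) ⊗ q` are epimorphisms. -/

set_option autoImplicit false
universe v u
open CategoryTheory MonoidalCategory CartesianMonoidalCategory MonObj

namespace GrpObjQuotH7

variable {C : Type u} [Category.{v} C] [CartesianMonoidalCategory C] {G Q : C} [GrpObj G]

section
variable (q : G ⟶ Q) (m : Q ⊗ Q ⟶ Q) (hm : (q ⊗ₘ q) ≫ m = μ[G] ≫ q)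

include hm in
lemma star {T : C} (x y : T ⟶ G) : lift (x ≫ q) (y ≫ q) ≫ m = (x * y) ≫ q := by
  have : lift (x ≫ q) (y ≫ q) = lift x y ≫ (q ⊗ₘ q) := by
    apply CartesianMonoidalCategory.hom_ext <;> simp
  rw [this, Category.assoc, hm, ← Category.assoc, ← Hom.mul_def]

include hm in
lemma one_mul_aux [Epi q] : ((η[G] ≫ q) ▷ Q) ≫ m = (λ_ Q).hom := by
  have key : lift (toUnit Q ≫ η[G] ≫ q) (𝟙 Q) ≫ m = 𝟙 Q := by
    rw [← cancel_epi q, ← Category.assoc, comp_lift, Category.comp_id]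
    have e1 : q ≫ toUnit Q ≫ η[G] ≫ q = (toUnit G ≫ η[G]) ≫ q := by
      rw [← Category.assoc, toUnit_unique (q ≫ toUnit Q) (toUnit G), Category.assoc]
    rw [e1]
    have h2 := star q m hm (toUnit G ≫ η[G]) (𝟙 G)
    rw [Category.id_comp] at h2
    rw [h2, ← Hom.one_def, _root_.one_mul, Category.id_comp]
  have e : (η[G] ≫ q) ▷ Q = (λ_ Q).hom ≫ lift (toUnit Q ≫ η[G] ≫ q) (𝟙 Q) := by
    apply CartesianMonoidalCategory.hom_ext
    · rw [whiskerRight_fst, Category.assoc, lift_fst,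
        toUnit_unique (fst (𝟙_ C) Q) ((λ_ Q).hom ≫ toUnit Q), Category.assoc]
    · rw [whiskerRight_snd, Category.assoc, lift_snd, Category.comp_id, leftUnitor_hom]
  rw [e, Category.assoc, key, Category.comp_id]

include hm in
lemma mul_one_aux [Epi q] : (Q ◁ (η[G] ≫ q)) ≫ m = (ρ_ Q).hom := by
  have key : lift (𝟙 Q) (toUnit Q ≫ η[G] ≫ q) ≫ m = 𝟙 Q := by
    rw [← cancel_epi q, ← Category.assoc, comp_lift, Category.comp_id]
    have e1 : q ≫ toUnit Q ≫ η[G] ≫ q = (toUnit G ≫ η[G]) ≫ q := by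
      rw [← Category.assoc, toUnit_unique (q ≫ toUnit Q) (toUnit G), Category.assoc]
    rw [e1]
    have h2 := star q m hm (𝟙 G) (toUnit G ≫ η[G])
    rw [Category.id_comp] at h2
    rw [h2, ← Hom.one_def, _root_.mul_one, Category.id_comp]
  have e : Q ◁ (η[G] ≫ q) = (ρ_ Q).hom ≫ lift (𝟙 Q) (toUnit Q ≫ η[G] ≫ q) := by
    apply CartesianMonoidalCategory.hom_ext
    · rw [whiskerLeft_fst, Category.assoc, lift_fst, Category.comp_id, rightUnitor_hom]
    · rw [whiskerLeft_snd, Category.assoc, lift_snd,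
        toUnit_unique (snd Q (𝟙_ C)) ((ρ_ Q).hom ≫ toUnit Q), Category.assoc]
  rw [e, Category.assoc, key, Category.comp_id]

include hm in
lemma mul_assoc_aux (h3 : Epi ((q ⊗ₘ q) ⊗ₘ q)) :
    (m ▷ Q) ≫ m = (α_ Q Q Q).hom ≫ (Q ◁ m) ≫ m := by
  rw [← cancel_epi ((q ⊗ₘ q) ⊗ₘ q)]
  have eL : ((q ⊗ₘ q) ⊗ₘ q) ≫ (m ▷ Q) =
      lift ((fst (G ⊗ G) G ≫ μ[G]) ≫ q) (snd (G ⊗ G) G ≫ q) := by
    apply CartesianMonoidalCategory.hom_ext
    · rw [Category.assoc, whiskerRight_fst, tensorHom_fst_assoc, hm, lift_fst, Category.assoc]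
    · rw [Category.assoc, whiskerRight_snd, tensorHom_snd, lift_snd]
  have eR : ((q ⊗ₘ q) ⊗ₘ q) ≫ (α_ Q Q Q).hom ≫ (Q ◁ m) =
      lift ((fst (G ⊗ G) G ≫ fst G G) ≫ q)
        (((fst (G ⊗ G) G ≫ snd G G) * snd (G ⊗ G) G) ≫ q) := by
    apply CartesianMonoidalCategory.hom_ext
    · simp
    · rw [lift_snd, ← star q m hm]
      simp only [Category.assoc, whiskerLeft_snd]
      rw [← Category.assoc, ← Category.assoc]
      congr 1
      apply CartesianMonoidalCategory.hom_ext <;> simp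
  rw [← Category.assoc, eL, star q m hm, ← Category.assoc, ← Category.assoc, Category.assoc _ _ (Q ◁ m),
    eR, star q m hm]
  congr 1
  rw [MonObj.mul_eq_mul, MonObj.comp_mul, _root_.mul_assoc]

include hm in
lemma left_inv_aux [Epi q] (ι' : Q ⟶ Q) (hι : q ≫ ι' = ι[G] ≫ q) :
    lift ι' (𝟙 Q) ≫ m = toUnit Q ≫ η[G] ≫ q := by
  rw [← cancel_epi q, ← Category.assoc, comp_lift, Category.comp_id, hι]
  have h2 := star q m hm ι[G] (𝟙 G)
  rw [Category.id_comp] at h2
  rw [h2, GrpObj.inv_eq_inv, inv_mul_cancel, Hom.one_def, Category.assoc, ← Category.assoc q,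
    toUnit_unique (q ≫ toUnit Q) (toUnit G)]

include hm in
lemma right_inv_aux [Epi q] (ι' : Q ⟶ Q) (hι : q ≫ ι' = ι[G] ≫ q) :
    lift (𝟙 Q) ι' ≫ m = toUnit Q ≫ η[G] ≫ q := by
  rw [← cancel_epi q, ← Category.assoc, comp_lift, Category.comp_id, hι]
  have h2 := star q m hm (𝟙 G) ι[G]
  rw [Category.id_comp] at h2
  rw [h2, GrpObj.inv_eq_inv, mul_inv_cancel, Hom.one_def, Category.assoc, ← Category.assoc q,
    toUnit_unique (q ≫ toUnit Q) (toUnit G)]

/-- The group-object structure on the quotient. -/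
@[reducible] noncomputable def grpObjOfEpi [Epi q] (h3 : Epi ((q ⊗ₘ q) ⊗ₘ q)) (ι' : Q ⟶ Q)
    (hι : q ≫ ι' = ι[G] ≫ q) : GrpObj Q where
  one := η[G] ≫ q
  mul := m
  one_mul := one_mul_aux q m hm
  mul_one := mul_one_aux q m hm
  mul_assoc := mul_assoc_aux q m hm h3
  inv := ι'
  left_inv := left_inv_aux q m hm ι' hι
  right_inv := right_inv_aux q m hm ι' hι

end

theorem grpObj_ext {X : C} (s t : GrpObj X) (h : s.toMonObj = t.toMonObj) (hi : s.inv = t.inv) :
    s = t := by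
  cases s; cases t
  simp only at h hi
  subst h hi
  rfl

end GrpObjQuotH7
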