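import Groth.Statements.S5322
import Groth.Statements.S5327
import Groth.Agent.Lib.GrpFlatLocus_lead
import Groth.Agent.Lib.GeomConnPt2_helper4
import Groth.Agent.Lib.ConnMisc_helper4
import Groth.Agent.Lib.GrpLocClosed_helper4

/-! # Neutral components: open subgroups and base change (lead) -/

set_option backward.isDefEq.respectTransparency false
set_option backward.isDefEq.respectTransparency.types false
set_option linter.unusedSimpArgs false
set_option linter.unusedVariables false
set_option linter.unusedSectionVars false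
set_option linter.style.longLine false
set_option linter.style.haveILetI false
set_option linter.unnecessarySimpa false
set_option maxHeartbeats 800000

universe u

open CategoryTheory CategoryTheory.Limits MonoidalCategory CartesianMonoidalCategory MonObj GrpObj
  AlgebraicGeometry Opposite Topology TopologicalSpace

namespace Groth.Agent.Lib.NeutralBC

open Groth.Agent.Lib.GrpFlatLocus

section top

theorem image_cc_of_clopen_range {X Y : Type*} [TopologicalSpace X] [TopologicalSpace Y]
    (j : Y → X) (hj : Topology.IsEmbedding j) (hcl : IsClopen (Set.range j)) (y : Y) :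
    j '' connectedComponent y = connectedComponent (j y) := by
  apply Set.Subset.antisymm
  · exact hj.continuous.image_connectedComponent_subset y
  · have hsub : connectedComponent (j y) ⊆ Set.range j :=
      hcl.connectedComponent_subset (Set.mem_range_self y)
    have himg : j '' (j ⁻¹' connectedComponent (j y)) = connectedComponent (j y) :=
      Set.image_preimage_eq_of_subset hsub
    have hpre : _root_.IsPreconnected (j ⁻¹' connectedComponent (j y)) := by
      rw [← hj.isInducing.isPreconnected_image, himg]
      exact isPreconnected_connectedComponent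
    have hy : y ∈ j ⁻¹' connectedComponent (j y) := mem_connectedComponent
    have h := hpre.subset_connectedComponent hy
    rw [← himg]
    exact Set.image_mono h

end top

theorem main5327 (S : Scheme.{u}) (G H : Over S) [GrpObj G] [GrpObj H]
    (i : H ⟶ G) [IsMonHom i] [IsOpenImmersion i.left] :
    SGA3x.neutralSet G ⊆ Set.range i.left.base ∧
      i.left.base '' SGA3x.neutralSet H = SGA3x.neutralSet G := by
  have h2 : i.left.base '' SGA3x.neutralSet H = SGA3x.neutralSet G := by
    unfold SGA3x.neutralSet
    rw [Set.image_iUnion]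
    refine Set.iUnion_congr (fun p => ?_)
    change i.left.base '' connectedComponentIn (H.hom.base ⁻¹' {(p : S)}) (η[H].left.base p) =
      connectedComponentIn (G.hom.base ⁻¹' {(p : S)}) (η[G].left.base p)
    rw [neutral_eq0 G p, neutral_eq0 H p]
    have sqB := Groth.Agent.Lib.TorsorBC.isPullback_map_left (S.fromSpecResidueField p) i
    haveI : IsOpenImmersion ((Over.pullback (S.fromSpecResidueField p)).map i).left :=
      MorphismProperty.of_isPullback (P := @IsOpenImmersion) sqB.flip inferInstance
    have hopen : IsOpen (Set.range ((Over.pullback (S.fromSpecResidueField p)).map i).left) :=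
      ((Over.pullback (S.fromSpecResidueField p)).map i).left.isOpenEmbedding.isOpen_range
    have hclosed := Groth.Agent.Lib.GrpLocClosedH4.main0352 (↑(S.residueField p))
      (Red.bc (S.fromSpecResidueField p) H) (Red.bc (S.fromSpecResidueField p) G)
      ((Over.pullback (S.fromSpecResidueField p)).map i) hopen
    have hone : ((Over.pullback (S.fromSpecResidueField p)).map i).left.base
        ((η[Red.bc (S.fromSpecResidueField p) H]).left.base
          (IsLocalRing.closedPoint ↑(S.residueField p))) =
        (η[Red.bc (S.fromSpecResidueField p) G]).left.base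
          (IsLocalRing.closedPoint ↑(S.residueField p)) := by
      have h := IsMonHom.one_hom ((Over.pullback (S.fromSpecResidueField p)).map i)
      have h' := congrArg (fun φ : 𝟙_ (Over (Spec (S.residueField p))) ⟶
        Red.bc (S.fromSpecResidueField p) G =>
          φ.left.base (IsLocalRing.closedPoint ↑(S.residueField p))) h
      exact h'
    have hcc := image_cc_of_clopen_range _
      ((Over.pullback (S.fromSpecResidueField p)).map i).left.isOpenEmbedding.isEmbedding
      ⟨hclosed, hopen⟩ ((η[Red.bc (S.fromSpecResidueField p) H]).left.base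
          (IsLocalRing.closedPoint ↑(S.residueField p)))
    rw [hone] at hcc
    have h1 : i.left.base '' ((pullback.fst H.hom (S.fromSpecResidueField p)).base ''
        connectedComponent ((η[Red.bc (S.fromSpecResidueField p) H]).left.base
          (IsLocalRing.closedPoint ↑(S.residueField p)))) =
        (pullback.fst G.hom (S.fromSpecResidueField p)).base ''
          (((Over.pullback (S.fromSpecResidueField p)).map i).left.base ''
            connectedComponent ((η[Red.bc (S.fromSpecResidueField p) H]).left.base
              (IsLocalRing.closedPoint ↑(S.residueField p)))) := by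
      rw [Set.image_image, Set.image_image]
      refine Set.image_congr' (fun y => ?_)
      exact (congrArg (fun φ : (pullback H.hom (S.fromSpecResidueField p)) ⟶ G.left => φ.base y)
        sqB.w).symm
    exact h1.trans (congrArg (fun T => (pullback.fst G.hom (S.fromSpecResidueField p)).base '' T) hcc)
  refine ⟨?_, h2⟩
  rw [← h2]
  exact Set.image_subset_range _ _

section field

variable {k K : Type u} [Field k] [Field K] [Algebra k K]

theorem cc_bc {X : Scheme.{u}} (f : X ⟶ Spec (CommRingCat.of k))
    (e : Spec (CommRingCat.of k) ⟶ X) (he : e ≫ f = 𝟙 _) (pt : ↥(Spec (CommRingCat.of k))) :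
    _root_.IsConnected ((pullback.fst f (Spec.map (CommRingCat.ofHom (algebraMap k K)))).base ⁻¹'
      connectedComponent (e.base pt)) := by
  haveI : GeometricallyConnected (𝟙 (Spec (CommRingCat.of k))) :=
    Groth.Agent.Lib.ConnMiscH4.geomConn_id _
  exact Groth.Agent.Lib.GeomConnPt2H4.main4621 (K := K) f (𝟙 _) e he pt

theorem cc_isPullback {X X' : Scheme.{u}} (f : X ⟶ Spec (CommRingCat.of k))
    (e : Spec (CommRingCat.of k) ⟶ X) (he : e ≫ f = 𝟙 _) (pt : ↥(Spec (CommRingCat.of k)))
    (π : X' ⟶ X) (q : X' ⟶ Spec (CommRingCat.of K))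
    (sq : IsPullback π q f (Spec.map (CommRingCat.ofHom (algebraMap k K))))
    (e' : X') (he' : π.base e' = e.base pt) :
    connectedComponent e' = π.base ⁻¹' connectedComponent (e.base pt) := by
  have hconn := cc_bc (K := K) f e he pt
  have h1 : π.base ⁻¹' connectedComponent (e.base pt) =
      sq.isoPullback.inv.base ''
        ((pullback.fst f (Spec.map (CommRingCat.ofHom (algebraMap k K)))).base ⁻¹'
          connectedComponent (e.base pt)) := by
    ext x
    constructor
    · intro hx
      refine ⟨sq.isoPullback.hom.base x, ?_, ?_⟩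
      · have h : (pullback.fst f (Spec.map (CommRingCat.ofHom (algebraMap k K)))).base
            (sq.isoPullback.hom.base x) = π.base x :=
          congrArg (fun φ : X' ⟶ X => φ.base x) sq.isoPullback_hom_fst
        have hx' : π.base x ∈ connectedComponent (e.base pt) := hx
        rw [← h] at hx'
        exact hx'
      · exact congrArg (fun φ : X' ⟶ X' => φ.base x) sq.isoPullback.hom_inv_id
    · rintro ⟨z, hz, rfl⟩
      have h : π.base (sq.isoPullback.inv.base z) =
          (pullback.fst f (Spec.map (CommRingCat.ofHom (algebraMap k K)))).base z :=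
        congrArg (fun φ : pullback f (Spec.map (CommRingCat.ofHom (algebraMap k K))) ⟶ X =>
          φ.base z) sq.isoPullback_inv_fst
      have hz' : (pullback.fst f (Spec.map (CommRingCat.ofHom (algebraMap k K)))).base z ∈
          connectedComponent (e.base pt) := hz
      rw [← h] at hz'
      exact hz'
  have hT : _root_.IsPreconnected (π.base ⁻¹' connectedComponent (e.base pt)) := by
    rw [h1]
    exact hconn.isPreconnected.image _ sq.isoPullback.inv.continuous.continuousOn
  apply Set.Subset.antisymm
  · intro x hx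
    have h2 := π.continuous.image_connectedComponent_subset e' ⟨x, hx, rfl⟩
    rw [he'] at h2
    exact h2
  · apply hT.subset_connectedComponent
    have hmem : π.base e' ∈ connectedComponent (e.base pt) := by
      rw [he']; exact mem_connectedComponent
    exact hmem

end field

section cat

variable {C : Type*} [Category C]

theorem exists_fibre_map {Gs S₀ S₁ G₁ T₁ F₁ T₀ F₀ : C}
    {g : Gs ⟶ S₀} {f' : S₁ ⟶ S₀} {a₁ : G₁ ⟶ Gs} {a₂ : G₁ ⟶ S₁}
    (sqA : IsPullback a₁ a₂ g f')
    {t' : T₁ ⟶ S₁} {b₁ : F₁ ⟶ G₁} {b₂ : F₁ ⟶ T₁}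
    (sqB : IsPullback b₁ b₂ a₂ t')
    {t : T₀ ⟶ S₀} {d₁ : F₀ ⟶ Gs} {d₂ : F₀ ⟶ T₀}
    (sqD : IsPullback d₁ d₂ g t)
    (ρ : T₁ ⟶ T₀) (hρ : ρ ≫ t = t' ≫ f') :
    ∃ q : F₁ ⟶ F₀, q ≫ d₁ = b₁ ≫ a₁ ∧ IsPullback q b₂ d₂ ρ := by
  have hcond : (b₁ ≫ a₁) ≫ g = (b₂ ≫ ρ) ≫ t :=
    calc (b₁ ≫ a₁) ≫ g = b₁ ≫ (a₁ ≫ g) := Category.assoc _ _ _
      _ = b₁ ≫ (a₂ ≫ f') := by rw [sqA.w]
      _ = (b₁ ≫ a₂) ≫ f' := (Category.assoc _ _ _).symm
      _ = (b₂ ≫ t') ≫ f' := by rw [sqB.w]
      _ = b₂ ≫ (t' ≫ f') := Category.assoc _ _ _
      _ = b₂ ≫ (ρ ≫ t) := by rw [hρ]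
      _ = (b₂ ≫ ρ) ≫ t := (Category.assoc _ _ _).symm
  have hq1 : sqD.lift (b₁ ≫ a₁) (b₂ ≫ ρ) hcond ≫ d₁ = b₁ ≫ a₁ := sqD.lift_fst _ _ _
  have hq2 : sqD.lift (b₁ ≫ a₁) (b₂ ≫ ρ) hcond ≫ d₂ = b₂ ≫ ρ := sqD.lift_snd _ _ _
  refine ⟨sqD.lift (b₁ ≫ a₁) (b₂ ≫ ρ) hcond, hq1, ?_⟩
  refine IsPullback.of_right ?_ hq2 sqD
  rw [hq1, hρ]
  exact sqB.paste_horiz sqA

end cat

section bc

variable {S S' : Scheme.{u}} (f : S' ⟶ S) (G : Over S) [GrpObj G]

/-- the unit point of the base change maps to the unit point -/
theorem unit_fst' (pt : ↥(𝟙_ (Over S')).left) :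
    (pullback.fst G.hom f).base ((η[Red.bc f G]).left.base pt) = η[G].left.base (f.base pt) := by
  have key : (η[Red.bc f G]).left ≫ pullback.fst G.hom f =
      ((Functor.LaxMonoidal.ε (Over.pullback f)).left ≫
        pullback.fst (𝟙_ (Over S)).hom f) ≫ η[G].left := by
    show ((Functor.LaxMonoidal.ε (Over.pullback f)) ≫
      (Over.pullback f).map η[G]).left ≫ _ = _
    rw [Over.comp_left, Category.assoc, Category.assoc]
    congr 1
    exact pullback.lift_fst _ _ _
  have hq : (Functor.LaxMonoidal.ε (Over.pullback f)).left ≫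
      pullback.fst (𝟙_ (Over S)).hom f =
      ((Functor.LaxMonoidal.ε (Over.pullback f)).left ≫
        pullback.snd (𝟙_ (Over S)).hom f) ≫ f := by
    have hc := pullback.condition (f := (𝟙_ (Over S)).hom) (g := f)
    have hc' : pullback.fst (𝟙_ (Over S)).hom f = pullback.snd (𝟙_ (Over S)).hom f ≫ f :=
      (Category.comp_id _).symm.trans hc
    rw [Category.assoc, ← hc']
  have hw : (Functor.LaxMonoidal.ε (Over.pullback f)).left ≫
      pullback.snd (𝟙_ (Over S)).hom f = 𝟙 S' :=
    Over.w (Functor.LaxMonoidal.ε (Over.pullback f))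
  rw [hq] at key
  have h2 := congrArg (fun φ : (𝟙_ (Over S')).left ⟶ G.left => φ.base pt) key
  have h3 : (pullback.snd (𝟙_ (Over S)).hom f).base
      ((Functor.LaxMonoidal.ε (Over.pullback f)).left.base pt) = pt :=
    congrArg (fun φ : S' ⟶ S' => φ.base pt) hw
  exact h2.trans (congrArg (fun z => η[G].left.base (f.base z)) h3)

theorem fibre_cc (p' : S')
    (y' : ↥(pullback (Red.bc f G).hom (S'.fromSpecResidueField p'))) :
    y' ∈ connectedComponent ((η[Red.bc (S'.fromSpecResidueField p') (Red.bc f G)]).left.base
        (IsLocalRing.closedPoint ↑(S'.residueField p'))) ↔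
    ∃ z ∈ connectedComponent ((η[Red.bc (S.fromSpecResidueField (f.base p')) G]).left.base
        (IsLocalRing.closedPoint ↑(S.residueField (f.base p')))),
      (pullback.fst G.hom (S.fromSpecResidueField (f.base p'))).base z =
        (pullback.fst G.hom f).base
          ((pullback.fst (Red.bc f G).hom (S'.fromSpecResidueField p')).base y') := by
  letI alg : Algebra ↑(S.residueField (f.base p')) ↑(S'.residueField p') :=
    (f.residueFieldMap p').hom.toAlgebra
  have heq : Spec.map (f.residueFieldMap p') ≫ S.fromSpecResidueField (f.base p') =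
      S'.fromSpecResidueField p' ≫ f :=
    Scheme.Hom.SpecMap_residueFieldMap_fromSpecResidueField f p'
  obtain ⟨q, hq1, sq⟩ := exists_fibre_map (IsPullback.of_hasPullback G.hom f)
    (IsPullback.of_hasPullback (Red.bc f G).hom (S'.fromSpecResidueField p'))
    (IsPullback.of_hasPullback G.hom (S.fromSpecResidueField (f.base p')))
    (Spec.map (f.residueFieldMap p')) heq
  have hinj : Function.Injective (pullback.fst G.hom (S.fromSpecResidueField (f.base p'))).base :=
    (G.hom.fiberι (f.base p')).isEmbedding.injective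
  have he' : q.base ((η[Red.bc (S'.fromSpecResidueField p') (Red.bc f G)]).left.base
        (IsLocalRing.closedPoint ↑(S'.residueField p'))) =
      (η[Red.bc (S.fromSpecResidueField (f.base p')) G]).left.base
        (IsLocalRing.closedPoint ↑(S.residueField (f.base p'))) := by
    apply hinj
    have h1 := congrArg (fun φ : pullback (Red.bc f G).hom (S'.fromSpecResidueField p') ⟶ G.left =>
      φ.base ((η[Red.bc (S'.fromSpecResidueField p') (Red.bc f G)]).left.base
        (IsLocalRing.closedPoint ↑(S'.residueField p')))) hq1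
    have h2 := unit_fst (Red.bc f G) p' (IsLocalRing.closedPoint ↑(S'.residueField p'))
    have h3 := unit_fst' f G p'
    have h4 := unit_fst G (f.base p') (IsLocalRing.closedPoint ↑(S.residueField (f.base p')))
    exact (h1.trans ((congrArg (fun z => (pullback.fst G.hom f).base z) h2).trans h3)).trans
      h4.symm
  have hcc := cc_isPullback (k := ↑(S.residueField (f.base p'))) (K := ↑(S'.residueField p'))
    (Red.bc (S.fromSpecResidueField (f.base p')) G).hom
    (η[Red.bc (S.fromSpecResidueField (f.base p')) G]).left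
    (Over.w (η[Red.bc (S.fromSpecResidueField (f.base p')) G]))
    (IsLocalRing.closedPoint ↑(S.residueField (f.base p')))
    q (pullback.snd (Red.bc f G).hom (S'.fromSpecResidueField p')) sq _ he'
  have hiff := Set.ext_iff.mp hcc y'
  constructor
  · intro hy
    exact ⟨q.base y', hiff.mp hy,
      congrArg (fun φ : pullback (Red.bc f G).hom (S'.fromSpecResidueField p') ⟶ G.left =>
        φ.base y') hq1⟩
  · rintro ⟨z, hz, hzeq⟩
    apply hiff.mpr
    have hqz : q.base y' = z := by
      apply hinj
      exact (congrArg (fun φ : pullback (Red.bc f G).hom (S'.fromSpecResidueField p') ⟶ G.left =>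
        φ.base y') hq1).trans hzeq.symm
    subst hqz
    exact hz

theorem main5322 (S S' : Scheme.{u}) (f : S' ⟶ S) (G : Over S) [GrpObj G] :
    SGA3x.neutralSet (Red.bc f G) = (pullback.fst G.hom f).base ⁻¹' SGA3x.neutralSet G := by
  ext x'
  constructor
  · intro hx
    unfold SGA3x.neutralSet at hx
    obtain ⟨p', hx⟩ := Set.mem_iUnion.mp hx
    change x' ∈ connectedComponentIn ((Red.bc f G).hom.base ⁻¹' {(p' : S')})
      (η[Red.bc f G].left.base p') at hx
    rw [neutral_eq0 (Red.bc f G) p'] at hx
    obtain ⟨y', hy', rfl⟩ := hx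
    obtain ⟨z, hz, hzeq⟩ := (fibre_cc f G p' y').mp hy'
    show (pullback.fst G.hom f).base _ ∈ SGA3x.neutralSet G
    unfold SGA3x.neutralSet
    refine Set.mem_iUnion.mpr ⟨f.base p', ?_⟩
    change _ ∈ connectedComponentIn (G.hom.base ⁻¹' {(f.base p' : S)})
      (η[G].left.base (f.base p'))
    rw [neutral_eq0 G (f.base p')]
    exact ⟨z, hz, hzeq⟩
  · intro hx
    have hx' : (pullback.fst G.hom f).base x' ∈ SGA3x.neutralSet G := hx
    unfold SGA3x.neutralSet at hx'
    obtain ⟨p, hp⟩ := Set.mem_iUnion.mp hx'
    change (pullback.fst G.hom f).base x' ∈ connectedComponentIn (G.hom.base ⁻¹' {(p : S)})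
      (η[G].left.base p) at hp
    have hmem : (pullback.fst G.hom f).base x' ∈ G.hom.base ⁻¹' {(p : S)} :=
      connectedComponentIn_subset _ _ hp
    have hpe : p = f.base ((Red.bc f G).hom.base x') := by
      have h1 : G.hom.base ((pullback.fst G.hom f).base x') = p := hmem
      have h2 := congrArg (fun φ : pullback G.hom f ⟶ S => φ.base x')
        (pullback.condition (f := G.hom) (g := f))
      exact h1.symm.trans h2
    subst hpe
    rw [neutral_eq0 G _] at hp
    obtain ⟨z, hz, hzeq⟩ := hp
    have hrange : Set.range (pullback.fst (Red.bc f G).hom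
        (S'.fromSpecResidueField ((Red.bc f G).hom.base x'))).base =
        (Red.bc f G).hom.base ⁻¹' {(Red.bc f G).hom.base x'} :=
      Scheme.Hom.range_fiberι (Red.bc f G).hom _
    have hxr : x' ∈ Set.range (pullback.fst (Red.bc f G).hom
        (S'.fromSpecResidueField ((Red.bc f G).hom.base x'))).base := by
      rw [hrange]; rfl
    obtain ⟨y', hy'⟩ := hxr
    unfold SGA3x.neutralSet
    refine Set.mem_iUnion.mpr ⟨(Red.bc f G).hom.base x', ?_⟩
    change x' ∈ connectedComponentIn ((Red.bc f G).hom.base ⁻¹' {(Red.bc f G).hom.base x'})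
      (η[Red.bc f G].left.base ((Red.bc f G).hom.base x'))
    rw [neutral_eq0 (Red.bc f G) _]
    refine ⟨y', (fibre_cc f G _ y').mpr ⟨z, hz, ?_⟩, hy'⟩
    rw [hy']; exact hzeq

end bc

end Groth.Agent.Lib.NeutralBC
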