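import Groth.Statements.S5393
import Groth.Agent.Lib.NeutralBC_lead
import Groth.Agent.Lib.ConnDepth_helper5

/-! # A smooth connected subgroup as neutral component of its normalizer (lead) -/

set_option backward.isDefEq.respectTransparency false
set_option backward.isDefEq.respectTransparency.types false
set_option linter.unusedSimpArgs false
set_option linter.unusedVariables false
set_option linter.unusedSectionVars false
set_option linter.style.longLine false
set_option linter.style.haveILetI false
set_option linter.unnecessarySimpa false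
set_option maxHeartbeats 800000

universe u

open CategoryTheory CategoryTheory.Limits MonoidalCategory CartesianMonoidalCategory MonObj GrpObj
  AlgebraicGeometry Opposite Topology TopologicalSpace

namespace Groth.Agent.Lib.NormNeutral

open Groth.Agent.Lib.GrpFlatLocus Groth.Agent.Lib.NeutralBC

variable {S : Scheme.{u}}

/-- the scheme-theoretic fibre of an S-scheme with connected topological fibre is connected -/
theorem connectedSpace_fibre (H : Over S) (s : S)
    (hc : _root_.IsConnected (H.hom.base ⁻¹' {s})) :
    ConnectedSpace ↥(pullback H.hom (S.fromSpecResidueField s)) := by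
  have hemb : Topology.IsEmbedding (pullback.fst H.hom (S.fromSpecResidueField s)).base :=
    (H.hom.fiberι s).isEmbedding
  have hrange : Set.range (pullback.fst H.hom (S.fromSpecResidueField s)).base =
      H.hom.base ⁻¹' {s} := Scheme.Hom.range_fiberι H.hom s
  rw [← hrange] at hc
  have hpre : _root_.IsPreconnected
      (Set.univ : Set ↥(pullback H.hom (S.fromSpecResidueField s))) := by
    rw [← hemb.isInducing.isPreconnected_image, Set.image_univ]
    exact hc.isPreconnected
  haveI : PreconnectedSpace ↥(pullback H.hom (S.fromSpecResidueField s)) := ⟨hpre⟩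
  obtain ⟨x, y, hy⟩ := hc.nonempty
  exact ConnectedSpace.mk ⟨y⟩

theorem openImm_of_fibres (H N : Over S)
    [Flat H.hom] [LocallyOfFinitePresentation H.hom] [LocallyOfFiniteType N.hom]
    (j : H ⟶ N) [Mono j.left]
    (hfib : ∀ s : S, IsOpenImmersion ((Over.pullback (S.fromSpecResidueField s)).map j).left) :
    IsOpenImmersion j.left := by
  haveI : Flat (j.left ≫ N.hom) := by rw [Over.w j]; infer_instance
  haveI : LocallyOfFinitePresentation (j.left ≫ N.hom) := by rw [Over.w j]; infer_instance
  haveI : Flat j.left :=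
    (Groth.Agent.Lib.AlgSpFibreFlat2H7.flat_of_fibrewise_flat' j.left N.hom (fun w => by
      haveI := hfib w
      exact fibData H N j w inferInstance)).1
  haveI : LocallyOfFinitePresentation j.left :=
    Groth.Agent.Lib.AlgSpLocP9_helper7.locallyOfFinitePresentation_of_comp j.left N.hom
  exact IsOpenImmersion.of_flat_of_mono j.left

theorem neutralSet_univ (H : Over S) [GrpObj H]
    (hconn : ∀ s : S, _root_.IsConnected (H.hom.base ⁻¹' {s})) :
    SGA3x.neutralSet H = Set.univ := by
  rw [Set.eq_univ_iff_forall]
  intro x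
  unfold SGA3x.neutralSet
  refine Set.mem_iUnion.mpr ⟨H.hom.base x, ?_⟩
  change x ∈ connectedComponentIn (H.hom.base ⁻¹' {H.hom.base x})
    (η[H].left.base (H.hom.base x))
  have hη : η[H].left.base (H.hom.base x) ∈ H.hom.base ⁻¹' {H.hom.base x} := by
    have := congrArg (fun φ : (𝟙_ (Over S)).left ⟶ S => φ.base (H.hom.base x)) (Over.w η[H])
    exact this
  rw [(hconn (H.hom.base x)).isPreconnected.connectedComponentIn hη]
  rfl

theorem image_fibre (H N : Over S) [GrpObj H] [GrpObj N]
    (hconn : ∀ s : S, _root_.IsConnected (H.hom.base ⁻¹' {s})) (j : H ⟶ N) [IsMonHom j]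
    [IsOpenImmersion j.left] :
    Set.range j.left.base = SGA3x.neutralSet N ∧
    ∀ s : S, j.left.base '' (H.hom.base ⁻¹' {s}) = SGA3x.neutralSet N ∩ N.hom.base ⁻¹' {s} := by
  have h1 := (main5327 S N H j).2
  rw [neutralSet_univ H hconn, Set.image_univ] at h1
  refine ⟨h1, fun s => ?_⟩
  have hpre : H.hom.base ⁻¹' {s} = j.left.base ⁻¹' (N.hom.base ⁻¹' {s}) := by
    ext x
    have hw : N.hom.base (j.left.base x) = H.hom.base x :=
      congrArg (fun φ : H.left ⟶ S => φ.base x) (Over.w j)
    constructor
    · intro hx
      show N.hom.base (j.left.base x) = s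
      exact hw.trans hx
    · intro hx
      show H.hom.base x = s
      exact hw.symm.trans hx
  rw [hpre, Set.image_preimage_eq_inter_range, h1, Set.inter_comm]

theorem repr_of_openImm (H N : Over S) [GrpObj H] [GrpObj N]
    (hconn : ∀ s : S, _root_.IsConnected (H.hom.base ⁻¹' {s})) (j : H ⟶ N) [IsMonHom j]
    [IsOpenImmersion j.left] (T : Over S) (g : T ⟶ N) :
    (∃ h : T ⟶ H, h ≫ j = g) ↔ Set.range g.left.base ⊆ SGA3x.neutralSet N := by
  rw [← (image_fibre H N hconn j).1]
  constructor
  · rintro ⟨h, rfl⟩
    rintro _ ⟨t, rfl⟩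
    exact ⟨h.left.base t, rfl⟩
  · intro hr
    refine ⟨Over.homMk (IsOpenImmersion.lift j.left g.left hr) ?_, ?_⟩
    · show IsOpenImmersion.lift j.left g.left hr ≫ H.hom = T.hom
      rw [← Over.w j, IsOpenImmersion.lift_fac_assoc, Over.w g]
    · ext1
      exact IsOpenImmersion.lift_fac _ _ _

theorem fibre_openImm_of_repr (H N : Over S) [GrpObj H] [GrpObj N]
    [LocallyOfFiniteType N.hom]
    (hconn : ∀ s : S, _root_.IsConnected (H.hom.base ⁻¹' {s})) (j : H ⟶ N) [IsMonHom j]
    [Mono j.left]
    (hrep : ∀ (T : Over S) (g : T ⟶ N), Set.range g.left.base ⊆ SGA3x.neutralSet N →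
      ∃ h : T ⟶ H, h ≫ j = g) (s : S) :
    IsOpenImmersion ((Over.pullback (S.fromSpecResidueField s)).map j).left := by
  haveI : LocallyOfFiniteType (Red.bc (S.fromSpecResidueField s) N).hom :=
    (inferInstance : LocallyOfFiniteType (pullback.snd N.hom (S.fromSpecResidueField s)))
  haveI : IsLocallyNoetherian (Red.bc (S.fromSpecResidueField s) N).left :=
    LocallyOfFiniteType.isLocallyNoetherian (Red.bc (S.fromSpecResidueField s) N).hom
  haveI : LocallyConnectedSpace ↥(Red.bc (S.fromSpecResidueField s) N).left :=
    Groth.Agent.ConnDepth.locallyConnectedSpace_scheme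
  obtain ⟨W, hW⟩ : ∃ W : (Red.bc (S.fromSpecResidueField s) N).left.Opens,
      (W : Set ↥(Red.bc (S.fromSpecResidueField s) N).left) =
        connectedComponent ((η[Red.bc (S.fromSpecResidueField s) N]).left.base
          (IsLocalRing.closedPoint ↑(S.residueField s))) :=
    ⟨⟨_, isOpen_connectedComponent⟩, rfl⟩
  have sqB := Groth.Agent.Lib.TorsorBC.isPullback_map_left (S.fromSpecResidueField s) j
  have hsnd : ((Over.pullback (S.fromSpecResidueField s)).map j).left ≫
      pullback.snd N.hom (S.fromSpecResidueField s) =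
      pullback.snd H.hom (S.fromSpecResidueField s) :=
    Over.w ((Over.pullback (S.fromSpecResidueField s)).map j)
  -- the test object
  let T : Over S := Over.mk ((W.ι ≫ pullback.fst N.hom (S.fromSpecResidueField s)) ≫ N.hom)
  let g : T ⟶ N := Over.homMk (W.ι ≫ pullback.fst N.hom (S.fromSpecResidueField s)) rfl
  have hWmem : ∀ w : ↥(W : Scheme.{u}), W.ι.base w ∈ (W : Set ↥(Red.bc (S.fromSpecResidueField s) N).left) := by
    intro w
    have h : W.ι.base w ∈ Set.range W.ι.base := ⟨w, rfl⟩
    rw [Scheme.Opens.range_ι] at h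
    exact h
  have hrange : Set.range g.left.base ⊆ SGA3x.neutralSet N := by
    rintro _ ⟨w, rfl⟩
    unfold SGA3x.neutralSet
    refine Set.mem_iUnion.mpr ⟨s, ?_⟩
    change _ ∈ connectedComponentIn (N.hom.base ⁻¹' {(s : S)}) (η[N].left.base s)
    rw [neutral_eq0 N s]
    refine ⟨W.ι.base w, ?_, rfl⟩
    have h := hWmem w
    rw [hW] at h
    exact h
  obtain ⟨h, hh⟩ := hrep T g hrange
  have hh' : h.left ≫ j.left = W.ι ≫ pullback.fst N.hom (S.fromSpecResidueField s) :=
    congrArg (fun m : T ⟶ N => m.left) hh
  have cond : h.left ≫ H.hom = (W.ι ≫ pullback.snd N.hom (S.fromSpecResidueField s)) ≫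
      S.fromSpecResidueField s :=
    calc h.left ≫ H.hom = (W.ι ≫ pullback.fst N.hom (S.fromSpecResidueField s)) ≫ N.hom :=
          Over.w h
      _ = W.ι ≫ (pullback.fst N.hom (S.fromSpecResidueField s) ≫ N.hom) := Category.assoc _ _ _
      _ = W.ι ≫ (pullback.snd N.hom (S.fromSpecResidueField s) ≫ S.fromSpecResidueField s) := by
          rw [pullback.condition]
      _ = (W.ι ≫ pullback.snd N.hom (S.fromSpecResidueField s)) ≫ S.fromSpecResidueField s :=
          (Category.assoc _ _ _).symm
  obtain ⟨σ, hσ1, hσ2⟩ : ∃ σ : (W : Scheme.{u}) ⟶ pullback H.hom (S.fromSpecResidueField s),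
      σ ≫ pullback.fst H.hom (S.fromSpecResidueField s) = h.left ∧
      σ ≫ pullback.snd H.hom (S.fromSpecResidueField s) =
        W.ι ≫ pullback.snd N.hom (S.fromSpecResidueField s) :=
    ⟨pullback.lift h.left (W.ι ≫ pullback.snd N.hom (S.fromSpecResidueField s)) cond,
      pullback.lift_fst _ _ _, pullback.lift_snd _ _ _⟩
  have hσ : σ ≫ ((Over.pullback (S.fromSpecResidueField s)).map j).left = W.ι := by
    apply pullback.hom_ext
    · rw [Category.assoc, sqB.w, ← Category.assoc, hσ1]
      exact hh'
    · rw [Category.assoc, hsnd, hσ2]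
  -- mono
  haveI hmono : Mono ((Over.pullback (S.fromSpecResidueField s)).map j).left := ⟨fun a b hab => by
    apply pullback.hom_ext
    · have h1 := congrArg (fun m => m ≫ pullback.fst N.hom (S.fromSpecResidueField s)) hab
      simp only [Category.assoc] at h1
      rw [sqB.w] at h1
      have h1' : (a ≫ pullback.fst H.hom (S.fromSpecResidueField s)) ≫ j.left =
          (b ≫ pullback.fst H.hom (S.fromSpecResidueField s)) ≫ j.left := by
        simpa only [Category.assoc] using h1
      exact (cancel_mono j.left).mp h1'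
    · have h2 := congrArg (fun m => m ≫ pullback.snd N.hom (S.fromSpecResidueField s)) hab
      simp only [Category.assoc] at h2
      rw [hsnd] at h2
      exact h2⟩
  -- the fibre of H is connected, so maps into W
  haveI : ConnectedSpace ↥(Red.bc (S.fromSpecResidueField s) H).left :=
    connectedSpace_fibre H s (hconn s)
  have hone : ((Over.pullback (S.fromSpecResidueField s)).map j).left.base
      ((η[Red.bc (S.fromSpecResidueField s) H]).left.base
        (IsLocalRing.closedPoint ↑(S.residueField s))) =
      (η[Red.bc (S.fromSpecResidueField s) N]).left.base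
        (IsLocalRing.closedPoint ↑(S.residueField s)) := by
    have h0 := IsMonHom.one_hom ((Over.pullback (S.fromSpecResidueField s)).map j)
    have h' := congrArg (fun φ : 𝟙_ (Over (Spec (S.residueField s))) ⟶
      Red.bc (S.fromSpecResidueField s) N =>
        φ.left.base (IsLocalRing.closedPoint ↑(S.residueField s))) h0
    exact h'
  have hr : Set.range ((Over.pullback (S.fromSpecResidueField s)).map j).left.base ⊆
      Set.range W.ι.base := by
    rw [Scheme.Opens.range_ι, hW]
    rintro _ ⟨y, rfl⟩
    have hpc : _root_.IsPreconnected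
        (((Over.pullback (S.fromSpecResidueField s)).map j).left.base '' Set.univ) :=
      isPreconnected_univ.image _
        ((Over.pullback (S.fromSpecResidueField s)).map j).left.continuous.continuousOn
    exact hpc.subset_connectedComponent ⟨_, Set.mem_univ _, hone⟩ ⟨y, Set.mem_univ _, rfl⟩
  obtain ⟨j', hj'⟩ : ∃ j' : pullback H.hom (S.fromSpecResidueField s) ⟶ (W : Scheme.{u}),
      j' ≫ W.ι = ((Over.pullback (S.fromSpecResidueField s)).map j).left :=
    ⟨IsOpenImmersion.lift W.ι _ hr, IsOpenImmersion.lift_fac _ _ _⟩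
  have e1 : σ ≫ j' = 𝟙 _ := by
    apply (cancel_mono W.ι).mp
    rw [Category.assoc, hj', hσ, Category.id_comp]
  have e2 : j' ≫ σ = 𝟙 _ := by
    apply (cancel_mono ((Over.pullback (S.fromSpecResidueField s)).map j).left).mp
    rw [Category.assoc, hσ, hj', Category.id_comp]
  haveI : IsIso j' := ⟨⟨σ, e2, e1⟩⟩
  have hfin : IsOpenImmersion (j' ≫ W.ι) := inferInstance
  rw [hj'] at hfin
  exact hfin

theorem main5393 (S : Scheme.{u}) (G H N : Over S) [GrpObj G] [GrpObj H] [GrpObj N]
    [LocallyOfFinitePresentation G.hom] [Smooth H.hom]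
    (hconn : ∀ s : S, _root_.IsConnected (H.hom.base ⁻¹' {s})) (u : H ⟶ G) [Mono u]
    (n : N ⟶ G) [IsClosedImmersion n.left] (j : H ⟶ N) [IsMonHom j] (hj : j ≫ n = u) :
    (IsOpenImmersion j.left ↔
      ∀ (T : Over S) (g : T ⟶ N), (∃ h : T ⟶ H, h ≫ j = g) ↔
        Set.range g.left.base ⊆ SGA3x.neutralSet N) ∧
    (IsOpenImmersion j.left ↔
      ∀ s : S, IsOpenImmersion ((Over.pullback (S.fromSpecResidueField s)).map j).left ∧
        j.left.base '' (H.hom.base ⁻¹' {s}) = SGA3x.neutralSet N ∩ N.hom.base ⁻¹' {s}) := by
  haveI : LocallyOfFiniteType N.hom := by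
    rw [← Over.w n]; infer_instance
  haveI : Mono j := mono_of_mono_fac hj
  haveI : Mono j.left := inferInstance
  haveI : Flat H.hom := inferInstance
  haveI : LocallyOfFinitePresentation H.hom := inferInstance
  have hA : (∀ s : S, IsOpenImmersion ((Over.pullback (S.fromSpecResidueField s)).map j).left) →
      IsOpenImmersion j.left := openImm_of_fibres H N j
  constructor
  · constructor
    · intro hoi T g
      haveI := hoi
      exact repr_of_openImm H N hconn j T g
    · intro hrep
      exact hA (fun s => fibre_openImm_of_repr H N hconn j (fun T g hg => (hrep T g).mpr hg) s)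
  · constructor
    · intro hoi s
      haveI := hoi
      refine ⟨?_, (image_fibre H N hconn j).2 s⟩
      have sqB := Groth.Agent.Lib.TorsorBC.isPullback_map_left (S.fromSpecResidueField s) j
      exact MorphismProperty.of_isPullback (P := @IsOpenImmersion) sqB.flip inferInstance
    · intro h
      exact hA (fun s => (h s).1)

end Groth.Agent.Lib.NormNeutral
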