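import Groth.Statements.S5324
import Groth.Agent.Lib.FppfMulCover_lead
import Groth.Agent.Lib.NormNeutral_lead
import Groth.Agent.Lib.GrpConnIrr_helper4
import Groth.Agent.Lib.OpenSubgrp_helper4

/-! # A group scheme with connected fibres is quasi-compact over the base (lead) -/

set_option backward.isDefEq.respectTransparency false
set_option backward.isDefEq.respectTransparency.types false
set_option linter.unusedSimpArgs false
set_option linter.unusedVariables false
set_option linter.unusedSectionVars false
set_option linter.style.longLine false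
set_option linter.style.haveILetI false
set_option linter.unnecessarySimpa false
set_option maxHeartbeats 800000

universe u

open CategoryTheory CategoryTheory.Limits MonoidalCategory CartesianMonoidalCategory MonObj GrpObj
  AlgebraicGeometry Opposite Topology TopologicalSpace

namespace Groth.Agent.Lib.GrpQcFibre

open Groth.Agent.Lib.GrpFlatLocus Groth.Agent.Lib.NormNeutral

theorem exists_compact_open_superset (X : Scheme.{u}) (K : Set X) (hK : IsCompact K) :
    ∃ V : X.Opens, IsCompact (V : Set X) ∧ K ⊆ V := by
  have hcov : K ⊆ ⋃ i : X.affineOpens, ((i : X.Opens) : Set X) := by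
    intro x _
    obtain ⟨_, ⟨U, hU, rfl⟩, hxU, -⟩ :=
      X.isBasis_affineOpens.exists_subset_of_mem_open (Set.mem_univ x) isOpen_univ
    exact Set.mem_iUnion.mpr ⟨⟨U, hU⟩, hxU⟩
  obtain ⟨t, ht⟩ := hK.elim_finite_subcover (fun i : X.affineOpens => ((i : X.Opens) : Set X))
    (fun i => i.1.2) hcov
  refine ⟨⟨⋃ i ∈ t, ((i : X.Opens) : Set X), isOpen_biUnion (fun i _ => i.1.2)⟩, ?_, ht⟩
  exact t.isCompact_biUnion (fun i _ => i.2.isCompact)

variable {S : Scheme.{u}}

/-- a point of the product of the fibre gives a point of the product, compatibly -/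
theorem fibre_mul_lift (G : Over S) [GrpObj G] (s : S)
    (zs : ↥(Red.bc (S.fromSpecResidueField s) G ⊗ Red.bc (S.fromSpecResidueField s) G).left) :
    ∃ z : ↥(G ⊗ G).left,
      (fst G G).left.base z = (pullback.fst G.hom (S.fromSpecResidueField s)).base
        ((fst (Red.bc (S.fromSpecResidueField s) G)
          (Red.bc (S.fromSpecResidueField s) G)).left.base zs) ∧
      (snd G G).left.base z = (pullback.fst G.hom (S.fromSpecResidueField s)).base
        ((snd (Red.bc (S.fromSpecResidueField s) G)
          (Red.bc (S.fromSpecResidueField s) G)).left.base zs) ∧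
      μ[G].left.base z = (pullback.fst G.hom (S.fromSpecResidueField s)).base
        (μ[Red.bc (S.fromSpecResidueField s) G].left.base zs) := by
  refine ⟨(pullback.fst (G ⊗ G).hom (S.fromSpecResidueField s)).base
    ((Functor.LaxMonoidal.μ (Over.pullback (S.fromSpecResidueField s)) G G).left.base zs),
    ?_, ?_, ?_⟩
  · have h := ActBC.μ_left_fst_fst (S.fromSpecResidueField s) G G
    exact congrArg (fun m => m.base zs) h
  · have h := ActBC.μ_left_fst_snd (S.fromSpecResidueField s) G G
    exact congrArg (fun m => m.base zs) h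
  · have h3 : μ[Red.bc (S.fromSpecResidueField s) G].left.base zs =
        ((Over.pullback (S.fromSpecResidueField s)).map μ[G]).left.base
          ((Functor.LaxMonoidal.μ (Over.pullback (S.fromSpecResidueField s)) G G).left.base zs) :=
      rfl
    have sq := Groth.Agent.Lib.TorsorBC.isPullback_map_left (S.fromSpecResidueField s) μ[G]
    have h2 := congrArg (fun m => m.base
      ((Functor.LaxMonoidal.μ (Over.pullback (S.fromSpecResidueField s)) G G).left.base zs)) sq.w
    rw [h3]
    exact h2.symm

/-- if two opens are dense in the fibre through `g`, then `g` is a product of points of them -/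
theorem exists_mul_of_dense_fibre (G : Over S) [GrpObj G] (V V' : G.left.Opens) (g : G.left)
    (hd : Dense (((pullback.fst G.hom (S.fromSpecResidueField (G.hom.base g))) ⁻¹ᵁ V :
      (Red.bc (S.fromSpecResidueField (G.hom.base g)) G).left.Opens) :
        Set ↥(Red.bc (S.fromSpecResidueField (G.hom.base g)) G).left))
    (hd' : Dense (((pullback.fst G.hom (S.fromSpecResidueField (G.hom.base g))) ⁻¹ᵁ V' :
      (Red.bc (S.fromSpecResidueField (G.hom.base g)) G).left.Opens) :
        Set ↥(Red.bc (S.fromSpecResidueField (G.hom.base g)) G).left)) :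
    ∃ z : ↥(G ⊗ G).left, (fst G G).left.base z ∈ V ∧ (snd G G).left.base z ∈ V' ∧
      μ[G].left.base z = g := by
  have hrange : Set.range (pullback.fst G.hom (S.fromSpecResidueField (G.hom.base g))).base =
      G.hom.base ⁻¹' {G.hom.base g} := Scheme.Hom.range_fiberι G.hom _
  have hg : g ∈ Set.range (pullback.fst G.hom (S.fromSpecResidueField (G.hom.base g))).base := by
    rw [hrange]; rfl
  obtain ⟨gs, hgs⟩ := hg
  have h7823 := Groth.Agent.Lib.GrpDenseH4.main7823 (↑(S.residueField (G.hom.base g)))
    (Red.bc (S.fromSpecResidueField (G.hom.base g)) G) _ _ hd hd'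
  have hgs' : gs ∈ (Set.univ : Set ↥(Red.bc (S.fromSpecResidueField (G.hom.base g)) G).left) :=
    trivial
  rw [← h7823] at hgs'
  obtain ⟨zs, ⟨hz1, hz2⟩, hz3⟩ := hgs'
  obtain ⟨z, h1, h2, h3⟩ := fibre_mul_lift G (G.hom.base g) zs
  refine ⟨z, ?_, ?_, ?_⟩
  · rw [h1]; exact hz1
  · rw [h2]; exact hz2
  · rw [h3, hz3, hgs]

theorem compactSpace_of_connected_fibres [CompactSpace S] [QuasiSeparatedSpace S]
    (G : Over S) [GrpObj G] (hconn : ∀ s : S, _root_.IsConnected (G.hom.base ⁻¹' {s})) :
    CompactSpace ↥G.left := by
  haveI : CompactSpace ↥(𝟙_ (Over S)).left := ‹CompactSpace S›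
  have hK : IsCompact (Set.range η[G].left.base) := isCompact_range η[G].left.continuous
  obtain ⟨V, hVc, hKV⟩ := exists_compact_open_superset G.left _ hK
  have hbox := OpenSubgrpH4.isCompact_prod G G V V hVc hVc
  have hsurj : μ[G].left.base '' ((fst G G).left.base ⁻¹' (V : Set G.left) ∩
      (snd G G).left.base ⁻¹' (V : Set G.left)) = Set.univ := by
    rw [Set.eq_univ_iff_forall]
    intro g
    haveI : ConnectedSpace ↥(Red.bc (S.fromSpecResidueField (G.hom.base g)) G).left :=
      connectedSpace_fibre G _ (hconn _)
    haveI : IrreducibleSpace ↥(Red.bc (S.fromSpecResidueField (G.hom.base g)) G).left :=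
      Groth.Agent.Lib.GrpConnIrrH4.main0348 (↑(S.residueField (G.hom.base g)))
        (Red.bc (S.fromSpecResidueField (G.hom.base g)) G)
    haveI : IrreducibleSpace ↥(pullback G.hom (S.fromSpecResidueField (G.hom.base g))) :=
      ‹IrreducibleSpace ↥(Red.bc (S.fromSpecResidueField (G.hom.base g)) G).left›
    have hne : (((pullback.fst G.hom (S.fromSpecResidueField (G.hom.base g))) ⁻¹ᵁ V :
      (Red.bc (S.fromSpecResidueField (G.hom.base g)) G).left.Opens) :
        Set ↥(Red.bc (S.fromSpecResidueField (G.hom.base g)) G).left).Nonempty := by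
      refine ⟨(η[Red.bc (S.fromSpecResidueField (G.hom.base g)) G]).left.base
        (IsLocalRing.closedPoint ↑(S.residueField (G.hom.base g))), ?_⟩
      show (pullback.fst G.hom (S.fromSpecResidueField (G.hom.base g))).base _ ∈ (V : Set G.left)
      rw [unit_fst G (G.hom.base g)]
      exact hKV ⟨G.hom.base g, rfl⟩
    have hd : Dense (((pullback.fst G.hom (S.fromSpecResidueField (G.hom.base g))) ⁻¹ᵁ V :
      (Red.bc (S.fromSpecResidueField (G.hom.base g)) G).left.Opens) :
        Set ↥(Red.bc (S.fromSpecResidueField (G.hom.base g)) G).left) :=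
      ((pullback.fst G.hom (S.fromSpecResidueField (G.hom.base g))) ⁻¹ᵁ V).2.dense hne
    obtain ⟨z, hz1, hz2, hz3⟩ := exists_mul_of_dense_fibre G V V g hd hd
    exact ⟨z, ⟨hz1, hz2⟩, hz3⟩
  rw [← isCompact_univ_iff, ← hsurj]
  exact hbox.image μ[G].left.continuous

theorem main5324 (S : Scheme.{u}) (G : Over S) [GrpObj G]
    (hconn : ∀ s : S, _root_.IsConnected (G.hom.base ⁻¹' {s})) : QuasiCompact G.hom := by
  apply IsZariskiLocalAtTarget.of_openCover (P := @QuasiCompact) S.affineCover
  intro i
  show QuasiCompact (pullback.snd G.hom (S.affineCover.f i))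
  have hconn' : ∀ t : ↥(S.affineCover.X i),
      _root_.IsConnected ((Red.bc (S.affineCover.f i) G).hom.base ⁻¹' {t}) := by
    intro t
    have hemb : Topology.IsOpenEmbedding (pullback.fst G.hom (S.affineCover.f i)).base :=
      (pullback.fst G.hom (S.affineCover.f i)).isOpenEmbedding
    have hpre : (Red.bc (S.affineCover.f i) G).hom.base ⁻¹' {t} =
        (pullback.fst G.hom (S.affineCover.f i)).base ⁻¹'
          (G.hom.base ⁻¹' {(S.affineCover.f i).base t}) := by
      ext x
      have hc := congrArg (fun φ : pullback G.hom (S.affineCover.f i) ⟶ S => φ.base x)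
        (pullback.condition (f := G.hom) (g := S.affineCover.f i))
      constructor
      · intro hx
        show G.hom.base ((pullback.fst G.hom (S.affineCover.f i)).base x) = _
        have hx' : (pullback.snd G.hom (S.affineCover.f i)).base x = t := hx
        rw [← hx']
        exact hc
      · intro hx
        show (pullback.snd G.hom (S.affineCover.f i)).base x = t
        have hx' : G.hom.base ((pullback.fst G.hom (S.affineCover.f i)).base x) =
          (S.affineCover.f i).base t := hx
        apply (S.affineCover.f i).isOpenEmbedding.injective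
        exact hc.symm.trans hx'
    rw [hpre]
    apply (hconn _).preimage_of_isOpenMap hemb.injective hemb.isOpenMap
    rw [Scheme.Pullback.range_fst]
    intro y hy
    exact ⟨t, hy.symm⟩
  haveI : CompactSpace ↥(Red.bc (S.affineCover.f i) G).left :=
    compactSpace_of_connected_fibres (Red.bc (S.affineCover.f i) G) hconn'
  haveI : CompactSpace ↥(pullback G.hom (S.affineCover.f i)) :=
    ‹CompactSpace ↥(Red.bc (S.affineCover.f i) G).left›
  infer_instance

end Groth.Agent.Lib.GrpQcFibre
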