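import Groth.Statements.S5323
import Groth.Agent.Lib.GrpQcFibre_lead
import Groth.Agent.Lib.GrpConnComp_helper4

/-! # A quasi-compact open containing the neutral components of the fibres (lead) -/

set_option backward.isDefEq.respectTransparency false
set_option backward.isDefEq.respectTransparency.types false
set_option linter.unusedSimpArgs false
set_option linter.unusedVariables false
set_option linter.unusedSectionVars false
set_option linter.style.longLine false
set_option linter.style.haveILetI false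
set_option linter.unnecessarySimpa false
set_option maxHeartbeats 800000

universe u

open CategoryTheory CategoryTheory.Limits MonoidalCategory CartesianMonoidalCategory MonObj GrpObj
  AlgebraicGeometry Opposite Topology TopologicalSpace

namespace Groth.Agent.Lib.GrpQcNeutral

open Groth.Agent.Lib.GrpFlatLocus Groth.Agent.Lib.NormNeutral Groth.Agent.Lib.GrpQcFibre

set_option maxHeartbeats 1600000 in
theorem neutral_subset_mul {k : Type u} [Field k] (G : Over (Spec (CommRingCat.of k))) [GrpObj G]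
    [IsLocallyNoetherian G.left] (V : G.left.Opens)
    (heV : η[G].left.base (IsLocalRing.closedPoint k) ∈ V)
    (g : G.left) (hg : g ∈ connectedComponent (η[G].left.base (IsLocalRing.closedPoint k))) :
    ∃ z : ↥(G ⊗ G).left, (fst G G).left.base z ∈ V ∧ (snd G G).left.base z ∈ V ∧
      μ[G].left.base z = g := by
  haveI : LocallyConnectedSpace ↥G.left := Groth.Agent.ConnDepth.locallyConnectedSpace_scheme
  haveI hsub : Subsingleton ↥(Spec (CommRingCat.of k)) :=
    (inferInstance : Subsingleton (PrimeSpectrum k))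
  obtain ⟨hirr, -⟩ := Groth.Agent.Lib.GrpConnCompH4.main0355 k G
  obtain ⟨e, he⟩ : ∃ e : G.left, e = η[G].left.base (IsLocalRing.closedPoint k) := ⟨_, rfl⟩
  rw [← he] at hirr heV hg
  have hZcomp : connectedComponent e ∈ irreducibleComponents ↥G.left :=
    ⟨hirr, fun T hT hle =>
      hT.isConnected.isPreconnected.subset_connectedComponent (hle mem_connectedComponent)⟩
  obtain ⟨Z, hZ⟩ : ∃ Z : G.left.Opens, (Z : Set G.left) = connectedComponent e :=
    ⟨⟨_, isOpen_connectedComponent⟩, rfl⟩
  have hmemZ : ∀ x : G.left, x ∈ Z ↔ x ∈ connectedComponent e := by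
    intro x
    rw [← hZ]
    exact Iff.rfl
  have h1 : ∀ pt : ↥(𝟙_ (Over (Spec (CommRingCat.of k)))).left, η[G].left pt ∈ Z := by
    intro pt
    have hpt : pt = IsLocalRing.closedPoint k := @Subsingleton.elim _ hsub _ _
    rw [hpt, hmemZ, ← he]
    exact mem_connectedComponent
  have hmul : ∀ z : ↥(G ⊗ G).left, (fst G G).left z ∈ Z → (snd G G).left z ∈ Z →
      μ[G].left z ∈ Z := by
    intro z hz1 hz2
    rw [hmemZ] at hz1 hz2 ⊢
    have heZ : η[G].left (IsLocalRing.closedPoint k) ∈ connectedComponent e := by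
      rw [← he]; exact mem_connectedComponent
    exact Groth.Agent.Lib.GrpConnIrrH4.mul_mem_comp G _ _ hZcomp heZ hZcomp z hz1 hz2
  have hιe : ι[G].left.base e = e := by
    have h0 : (η[G] : 𝟙_ (Over (Spec (CommRingCat.of k))) ⟶ G) = 1 := by
      rw [Hom.one_def, toUnit_unique (toUnit _) (𝟙 _), Category.id_comp]
    have h1' : η[G] ≫ ι[G] = η[G] := by
      rw [← Hom.inv_def, h0, inv_one]
    have h2 := congrArg (fun φ : 𝟙_ (Over (Spec (CommRingCat.of k))) ⟶ G =>
      φ.left.base (IsLocalRing.closedPoint k)) h1'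
    rw [he]
    exact h2
  have hinv : ∀ x : G.left, x ∈ Z → ι[G].left x ∈ Z := by
    intro x hx
    rw [hmemZ] at hx ⊢
    have h := ι[G].left.continuous.image_connectedComponent_subset e ⟨x, hx, rfl⟩
    rw [hιe] at h
    exact h
  obtain ⟨H, grpH, i, hmon, hoi, hr⟩ := OpenSubgrpH4.openSubgroup G Z h1 hmul hinv
  have hrange : ∀ x : G.left, x ∈ Set.range i.left ↔ x ∈ connectedComponent e := by
    intro x
    rw [hr, hZ]
  -- H is irreducible
  haveI hHirr : IrreducibleSpace ↥H.left := by
    have hpre : IsPreirreducible (i.left.base ⁻¹' (connectedComponent e)) :=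
      hirr.isPreirreducible.preimage i.left.isOpenEmbedding
    have huniv : i.left.base ⁻¹' (connectedComponent e) = Set.univ := by
      rw [Set.eq_univ_iff_forall]
      intro y
      exact (hrange _).mp ⟨y, rfl⟩
    rw [huniv] at hpre
    haveI : PreirreducibleSpace ↥H.left := ⟨hpre⟩
    obtain ⟨y, hy⟩ := (hrange e).mpr mem_connectedComponent
    exact { toNonempty := ⟨y⟩ }
  obtain ⟨VH, hVH⟩ : ∃ VH : H.left.Opens, VH = i.left ⁻¹ᵁ V := ⟨_, rfl⟩
  have hone : i.left.base (η[H].left.base (IsLocalRing.closedPoint k)) = e := by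
    have h0 := IsMonHom.one_hom i
    have h2 := congrArg (fun φ : 𝟙_ (Over (Spec (CommRingCat.of k))) ⟶ G =>
      φ.left.base (IsLocalRing.closedPoint k)) h0
    rw [he]
    exact h2
  have hneH : (VH : Set H.left).Nonempty := by
    refine ⟨η[H].left.base (IsLocalRing.closedPoint k), ?_⟩
    rw [hVH]
    show i.left.base _ ∈ V
    rw [hone]; exact heV
  have hdH : Dense (VH : Set H.left) := VH.2.dense hneH
  obtain ⟨h, hh⟩ := (hrange g).mpr hg
  have h7823 := Groth.Agent.Lib.GrpDenseH4.main7823 k H VH VH hdH hdH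
  have hmem : h ∈ (Set.univ : Set H.left) := trivial
  rw [← h7823] at hmem
  obtain ⟨zh, ⟨hz1, hz2⟩, hz3⟩ := hmem
  refine ⟨(i ⊗ₘ i).left.base zh, ?_, ?_, ?_⟩
  · have e1 : (i ⊗ₘ i) ≫ fst G G = fst H H ≫ i := tensorHom_fst i i
    have e1' : (fst G G).left.base ((i ⊗ₘ i).left.base zh) =
        i.left.base ((fst H H).left.base zh) :=
      congrArg (fun φ : H ⊗ H ⟶ G => φ.left.base zh) e1
    rw [e1']
    have h3 : (fst H H).left.base zh ∈ VH := hz1
    rw [hVH] at h3
    exact h3
  · have e1 : (i ⊗ₘ i) ≫ snd G G = snd H H ≫ i := tensorHom_snd i i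
    have e1' : (snd G G).left.base ((i ⊗ₘ i).left.base zh) =
        i.left.base ((snd H H).left.base zh) :=
      congrArg (fun φ : H ⊗ H ⟶ G => φ.left.base zh) e1
    rw [e1']
    have h3 : (snd H H).left.base zh ∈ VH := hz2
    rw [hVH] at h3
    exact h3
  · have e3 : μ[H] ≫ i = (i ⊗ₘ i) ≫ μ[G] := IsMonHom.mul_hom i
    have e3' : i.left.base (μ[H].left.base zh) = μ[G].left.base ((i ⊗ₘ i).left.base zh) :=
      congrArg (fun φ : H ⊗ H ⟶ G => φ.left.base zh) e3
    rw [← e3']
    have hz3' : μ[H].left.base zh = h := hz3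
    rw [hz3']
    exact hh

theorem main5323 (S : Scheme.{u}) [CompactSpace S] [QuasiSeparatedSpace S]
    (G : Over S) [GrpObj G]
    (hG : ∀ s : S, LocallyOfFiniteType (G.hom.fiberToSpecResidueField s)) :
    ∃ U : G.left.Opens, IsCompact (U : Set G.left) ∧ SGA3x.neutralSet G ⊆ U := by
  haveI : CompactSpace ↥(𝟙_ (Over S)).left := ‹CompactSpace S›
  have hK : IsCompact (Set.range η[G].left.base) := isCompact_range η[G].left.continuous
  obtain ⟨V, hVc, hKV⟩ := exists_compact_open_superset G.left _ hK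
  have hbox := OpenSubgrpH4.isCompact_prod G G V V hVc hVc
  have hQ := hbox.image μ[G].left.continuous
  obtain ⟨U, hUc, hQU⟩ := exists_compact_open_superset G.left _ hQ
  refine ⟨U, hUc, ?_⟩
  intro g hg
  apply hQU
  unfold SGA3x.neutralSet at hg
  obtain ⟨p, hp⟩ := Set.mem_iUnion.mp hg
  change g ∈ connectedComponentIn (G.hom.base ⁻¹' {(p : S)}) (η[G].left.base p) at hp
  rw [neutral_eq0 G p] at hp
  obtain ⟨gs, hgs, rfl⟩ := hp
  haveI : LocallyOfFiniteType (Red.bc (S.fromSpecResidueField p) G).hom := hG p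
  haveI : IsLocallyNoetherian (Red.bc (S.fromSpecResidueField p) G).left :=
    LocallyOfFiniteType.isLocallyNoetherian (Red.bc (S.fromSpecResidueField p) G).hom
  have heV : (η[Red.bc (S.fromSpecResidueField p) G]).left.base
      (IsLocalRing.closedPoint ↑(S.residueField p)) ∈
      ((pullback.fst G.hom (S.fromSpecResidueField p)) ⁻¹ᵁ V :
        (Red.bc (S.fromSpecResidueField p) G).left.Opens) := by
    show (pullback.fst G.hom (S.fromSpecResidueField p)).base _ ∈ (V : Set G.left)
    rw [unit_fst G p]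
    exact hKV ⟨p, rfl⟩
  obtain ⟨zs, hz1, hz2, hz3⟩ := neutral_subset_mul (k := ↑(S.residueField p))
    (Red.bc (S.fromSpecResidueField p) G)
    ((pullback.fst G.hom (S.fromSpecResidueField p)) ⁻¹ᵁ V) heV gs hgs
  obtain ⟨z, h1, h2, h3⟩ := fibre_mul_lift G p zs
  refine ⟨z, ⟨?_, ?_⟩, ?_⟩
  · show (fst G G).left.base z ∈ (V : Set G.left)
    rw [h1]; exact hz1
  · show (snd G G).left.base z ∈ (V : Set G.left)
    rw [h2]; exact hz2
  · rw [h3, hz3]

end Groth.Agent.Lib.GrpQcNeutral
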