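import Mathlib
import Groth.Agent.Lib.GrpQuot2_helper6

set_option autoImplicit false
open CategoryTheory CategoryTheory.Limits AlgebraicGeometry
universe u

namespace Groth.Agent.Lib.GrpQuot

/-- Descent of morphisms along a morphism `p : X ⟶ Y` which is a topological quotient map and injective
on sections: a morphism `h : X ⟶ Z` which is constant on the fibres of `p` and whose pulled-back sections
all come from `Y` factors uniquely through `p`. -/
theorem existsUnique_desc_of_quotient {X Y Z : Scheme.{u}} (p : X ⟶ Y)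
    (hquot : Topology.IsQuotientMap p.base)
    (hinj : ∀ U : Y.Opens, Function.Injective (p.app U).hom)
    (h : X ⟶ Z)
    (hfib : ∀ x x' : X, p.base x = p.base x' → h.base x = h.base x')
    (hrange : ∀ (V : Y.Opens) (W : Z.Opens) (hle : p ⁻¹ᵁ V ≤ h ⁻¹ᵁ W) (s : Γ(Z, W)),
      (h.appLE W (p ⁻¹ᵁ V) hle).hom s ∈ Set.range (p.app V).hom) :
    ∃! h' : Y ⟶ Z, p ≫ h' = h := by
  have hsurj : Function.Surjective p.base := hquot.surjective
  have hepi : ∀ V : Y.Opens, Epi (p ∣_ V) := by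
    intro V
    apply epi_of_surjective_of_injective
    · intro v
      obtain ⟨x, hx⟩ := hsurj v.1
      have hxV : x ∈ p ⁻¹ᵁ V := by
        show p.base x ∈ V
        rw [hx]; exact v.2
      exact ⟨⟨x, hxV⟩, Subtype.ext ((morphismRestrict_base_coe p V ⟨x, hxV⟩).trans hx)⟩
    · intro U'
      have e := morphismRestrict_app p V U'
      have hinj' : Function.Injective ((p.app (V.ι ''ᵁ U') ≫ X.presheaf.map
          (eqToHom (image_morphismRestrict_preimage p V U')).op).hom) := by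
        intro a b hab
        exact hinj _ ((ConcreteCategory.bijective_of_isIso (X.presheaf.map
          (eqToHom (image_morphismRestrict_preimage p V U')).op)).1
          (a₁ := (p.app (V.ι ''ᵁ U')).hom a) (a₂ := (p.app (V.ι ''ᵁ U')).hom b) hab)
      rw [e]; exact hinj'
  haveI hepi0 : Epi p := epi_of_surjective_of_injective p hsurj hinj
  let I := {V : Y.Opens // ∃ W : Z.Opens, IsAffineOpen W ∧ p ⁻¹ᵁ V ≤ h ⁻¹ᵁ W}
  have hex : ∀ V : I, ∃ g : V.1.toScheme ⟶ Z, (p ∣_ V.1) ≫ g = (p ⁻¹ᵁ V.1).ι ≫ h := by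
    rintro ⟨V, W, hW, hle⟩
    obtain ⟨β, hβ⟩ := exists_lift_of_injective (p.app V).hom (hinj V)
      (h.appLE W (p ⁻¹ᵁ V) hle).hom (hrange V W hle)
    let β' : Γ(Z, W) ⟶ Γ(Y, V) := CommRingCat.ofHom β
    have hβ' : β' ≫ p.app V = h.appLE W (p ⁻¹ᵁ V) hle := by
      ext s
      exact congrArg (fun f => f s) hβ
    refine ⟨V.toSpecΓ ≫ Spec.map β' ≫ hW.fromSpec, ?_⟩
    rw [← Scheme.Opens.toSpecΓ_naturality_assoc, ← Spec.map_comp_assoc, hβ',
      Scheme.Opens.toSpecΓ_SpecMap_appLE_assoc, IsAffineOpen.toSpecΓ_fromSpec,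
      Scheme.Hom.resLE_comp_ι]
  have hbasis : ∀ (U₀ : Y.Opens) (y : Y), y ∈ U₀ → ∃ i : I, y ∈ i.1 ∧ i.1 ≤ U₀ := by
    intro U₀ y hy
    obtain ⟨x, rfl⟩ := hsurj y
    obtain ⟨W, hW, hxW, -⟩ :=
      exists_isAffineOpen_mem_and_subset (x := h.base x) (U := ⊤) trivial
    have hsat : p.base ⁻¹' (p.base '' (h ⁻¹ᵁ W : Set X)) = (h ⁻¹ᵁ W : Set X) := by
      apply Set.Subset.antisymm
      · rintro x' ⟨t, ht, hpt⟩
        show h.base x' ∈ W
        rw [← hfib t x' hpt]; exact ht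
      · exact Set.subset_preimage_image _ _
    have hopen : IsOpen (p.base '' (h ⁻¹ᵁ W : Set X)) := by
      rw [← hquot.isOpen_preimage, hsat]
      exact (h ⁻¹ᵁ W).isOpen
    let V₁ : Y.Opens := ⟨p.base '' (h ⁻¹ᵁ W : Set X), hopen⟩
    refine ⟨⟨V₁ ⊓ U₀, W, hW, ?_⟩, ⟨⟨x, hxW, rfl⟩, hy⟩, inf_le_right⟩
    intro x' hx'
    have : x' ∈ p.base ⁻¹' (p.base '' (h ⁻¹ᵁ W : Set X)) := hx'.1
    rw [hsat] at this
    exact this
  choose g hg using hex
  have hcompat : ∀ i j : I, ∀ hij : i.1 ≤ j.1, Y.homOfLE hij ≫ g j = g i := by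
    intro i j hij
    haveI := hepi i.1
    rw [← cancel_epi (p ∣_ i.1), hg i]
    have hT : p ⁻¹ᵁ i.1 ≤ p ⁻¹ᵁ j.1 := fun x hx => hij hx
    have e : (p ∣_ i.1) ≫ Y.homOfLE hij = X.homOfLE hT ≫ (p ∣_ j.1) := by
      rw [← cancel_mono (j.1).ι]
      simp only [Category.assoc, Scheme.homOfLE_ι, morphismRestrict_ι, Scheme.homOfLE_ι_assoc]
    rw [← Category.assoc, e, Category.assoc, hg j, Scheme.homOfLE_ι_assoc]
  obtain ⟨h', hh'⟩ := exists_glue_of_basis (fun i : I => i.1) hbasis g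
    (fun i j hij => hcompat i j hij)
  have hph' : p ≫ h' = h := by
    have hcovX : TopologicalSpace.IsOpenCover (fun i : I => p ⁻¹ᵁ i.1) :=
      TopologicalSpace.IsOpenCover.mk (eq_top_iff.mpr fun x _ => by
        obtain ⟨i, hi, -⟩ := hbasis ⊤ (p.base x) trivial
        exact TopologicalSpace.Opens.mem_iSup.mpr ⟨i, hi⟩)
    apply (X.openCoverOfIsOpenCover _ hcovX).hom_ext
    intro i
    show (p ⁻¹ᵁ i.1).ι ≫ p ≫ h' = (p ⁻¹ᵁ i.1).ι ≫ h
    rw [← morphismRestrict_ι_assoc, hh' i, hg i]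
  exact ⟨h', hph', fun h'' hh'' => (cancel_epi p).mp (hh''.trans hph'.symm)⟩

end Groth.Agent.Lib.GrpQuot
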