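import Mathlib
import Groth.Agent.Lib.SheafEpi_helper8
import Groth.Agent.S5217

/-!
# The relation `G × H ⇉ G` attached to a subgroup object, and quotient sheaves (helper8)
-/

set_option autoImplicit false

open CategoryTheory Limits MonoidalCategory CartesianMonoidalCategory MonObj

namespace Groth.Agent.Lib.GrpRelH8

section General

universe v u
variable {C : Type u} [Category.{v} C] [CartesianMonoidalCategory C]

section Tr
variable {G K : C} [GrpObj G] (j : K ⟶ G)

theorem comp_tr {T : C} (m : T ⟶ G ⊗ K) :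
    m ≫ (G ◁ j) ≫ μ[G] = (m ≫ fst G K) * (m ≫ snd G K ≫ j) := by
  rw [Hom.mul_def, ← Category.assoc]
  congr 1
  apply CartesianMonoidalCategory.hom_ext
  · rw [Category.assoc, whiskerLeft_fst, lift_fst]
  · rw [Category.assoc, whiskerLeft_snd, lift_snd]

theorem tr_eq : (G ◁ j) ≫ μ[G] = fst G K * (snd G K ≫ j) := by
  have := comp_tr j (𝟙 (G ⊗ K))
  simpa only [Category.id_comp] using this

theorem lift_tr {T : C} (a : T ⟶ G) (b : T ⟶ K) :
    lift a b ≫ (G ◁ j) ≫ μ[G] = a * (b ≫ j) := by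
  rw [comp_tr, lift_fst, lift_snd_assoc]

theorem jointlyMono [Mono j] : JointlyMono₂ (fst G K) ((G ◁ j) ≫ μ[G]) := by
  constructor
  intro T a b h1 h2
  rw [comp_tr, comp_tr, h1] at h2
  have h3 : a ≫ snd G K ≫ j = b ≫ snd G K ≫ j := mul_left_cancel h2
  apply CartesianMonoidalCategory.hom_ext
  · exact h1
  · rw [← cancel_mono j]
    simpa only [Category.assoc] using h3

end Tr

theorem isPullback_whiskerLeft (X : C) {A B : C} (f : A ⟶ B) :
    IsPullback (X ◁ f) (snd X A) (snd X B) f := by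
  refine IsPullback.mk ⟨whiskerLeft_snd X f⟩ ⟨PullbackCone.IsLimit.mk _
    (fun s => lift (s.fst ≫ fst X B) s.snd) ?_ ?_ ?_⟩
  · intro s
    apply CartesianMonoidalCategory.hom_ext
    · rw [Category.assoc, whiskerLeft_fst, lift_fst]
    · rw [Category.assoc, whiskerLeft_snd, lift_snd_assoc, s.condition]
  · intro s
    rw [lift_snd]
  · intro s m h1 h2
    apply CartesianMonoidalCategory.hom_ext
    · rw [lift_fst, ← h1, Category.assoc, whiskerLeft_fst]
    · rw [lift_snd, h2]

theorem isPullback_whiskerRight {A B : C} (f : A ⟶ B) (X : C) :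
    IsPullback (f ▷ X) (fst A X) (fst B X) f := by
  refine IsPullback.mk ⟨whiskerRight_fst f X⟩ ⟨PullbackCone.IsLimit.mk _
    (fun s => lift s.snd (s.fst ≫ snd B X)) ?_ ?_ ?_⟩
  · intro s
    apply CartesianMonoidalCategory.hom_ext
    · rw [Category.assoc, whiskerRight_fst, lift_fst_assoc, s.condition]
    · rw [Category.assoc, whiskerRight_snd, lift_snd]
  · intro s
    rw [lift_fst]
  · intro s m h1 h2
    apply CartesianMonoidalCategory.hom_ext
    · rw [lift_fst, h2]
    · rw [lift_snd, ← h1, Category.assoc, whiskerRight_snd]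

section Rel
variable {G H : C} [GrpObj G] [GrpObj H] (u : H ⟶ G) [IsMonHom u] [Mono u] [HasPullbacks C]

/-- `(g, h) ↦ g` and `(g, h) ↦ g * u h` form an equivalence relation on `G`. -/
noncomputable def equivalenceRelation : EquivalenceRelation (fst G H) ((G ◁ u) ≫ μ[G]) where
  right_cancellation := (jointlyMono u).right_cancellation
  r := lift (𝟙 G) 1
  reflexivity₁ := lift_fst _ _
  reflexivity₂ := by rw [lift_tr, MonObj.one_comp, _root_.mul_one]
  s := lift (fst G H * (snd G H ≫ u)) (snd G H)⁻¹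
  symmetry₁ := by rw [lift_fst, tr_eq]
  symmetry₂ := by rw [lift_tr, GrpObj.inv_comp, mul_inv_cancel_right]
  c := pullback.cone ((G ◁ u) ≫ μ[G]) (fst G H)
  isLimit := pullback.isLimit _ _
  t := lift (pullback.fst ((G ◁ u) ≫ μ[G]) (fst G H) ≫ fst G H)
    ((pullback.fst ((G ◁ u) ≫ μ[G]) (fst G H) ≫ snd G H) *
      (pullback.snd ((G ◁ u) ≫ μ[G]) (fst G H) ≫ snd G H))
  transitivity₁ := by rw [lift_fst]; rfl
  transitivity₂ := by
    have hc : pullback.fst ((G ◁ u) ≫ μ[G]) (fst G H) ≫ (G ◁ u) ≫ μ[G]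
        = pullback.snd ((G ◁ u) ≫ μ[G]) (fst G H) ≫ fst G H := pullback.condition
    rw [comp_tr] at hc
    rw [lift_tr, MonObj.mul_comp]
    change _ = pullback.snd ((G ◁ u) ≫ μ[G]) (fst G H) ≫ (G ◁ u) ≫ μ[G]
    rw [comp_tr, ← hc, _root_.mul_assoc, Category.assoc, Category.assoc]

end Rel


/-- The properties of the category of sheaves of sets used below. -/
structure ToposLike (D : Type u) [Category.{v} D] : Prop where
  kp : ∀ {R X : D} {p₁ p₂ : R ⟶ X} [HasCoequalizer p₁ p₂], EquivalenceRelation p₁ p₂ →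
    IsKernelPair (coequalizer.π p₁ p₂) p₁ p₂
  epi_bc : ∀ {X' Y' X Y : D} {f' : X' ⟶ Y'} {i₁ : X' ⟶ X} {i₂ : Y' ⟶ Y} {f : X ⟶ Y},
    IsPullback f' i₁ i₂ f → Epi f → Epi f'
  eff : ∀ {X Y : D} (f : X ⟶ Y), Epi f → EffectiveEpi f

section Quot
variable [HasPullbacks C] [HasCoequalizers C] (hT : ToposLike C)
variable {G H : C} [GrpObj G] [GrpObj H] (u : H ⟶ G) [IsMonHom u] [Mono u]

include hT

omit [HasPullbacks C] [HasCoequalizers C] in
theorem epi_whiskerLeft (X : C) {A B : C} (f : A ⟶ B) [Epi f] : Epi (X ◁ f) :=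
  hT.epi_bc (isPullback_whiskerLeft X f) inferInstance

omit [HasPullbacks C] [HasCoequalizers C] in
theorem epi_whiskerRight {A B : C} (f : A ⟶ B) [Epi f] (X : C) : Epi (f ▷ X) :=
  hT.epi_bc (isPullback_whiskerRight f X) inferInstance

/-- `G × H ⇉ G` is the kernel pair of `G ⟶ G/H`. -/
theorem isKernelPair_quot :
    IsKernelPair (coequalizer.π (fst G H) ((G ◁ u) ≫ μ[G])) (fst G H) ((G ◁ u) ≫ μ[G]) :=
  hT.kp (equivalenceRelation u)

/-- two generalized points of `G` with the same image in `G/H` differ by a point of `H` -/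
theorem exists_of_quot_eq {T : C} (a b : T ⟶ G)
    (h : a ≫ coequalizer.π (fst G H) ((G ◁ u) ≫ μ[G])
      = b ≫ coequalizer.π (fst G H) ((G ◁ u) ≫ μ[G])) :
    ∃ c : T ⟶ H, b = a * (c ≫ u) := by
  have hk := isKernelPair_quot hT u
  refine ⟨hk.lift a b h ≫ snd G H, ?_⟩
  have h1 := hk.lift_fst a b h
  have h2 := hk.lift_snd a b h
  rw [comp_tr, h1] at h2
  rw [Category.assoc]
  exact h2.symm

omit hT [HasPullbacks C] [IsMonHom u] [Mono u] [GrpObj H] in
theorem quot_eq_of_eq_mul {T : C} (a : T ⟶ G) (c : T ⟶ H) :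
    (a * (c ≫ u)) ≫ coequalizer.π (fst G H) ((G ◁ u) ≫ μ[G])
      = a ≫ coequalizer.π (fst G H) ((G ◁ u) ≫ μ[G]) := by
  have h1 : lift a c ≫ fst G H = a := lift_fst _ _
  have h2 : lift a c ≫ (G ◁ u) ≫ μ[G] = a * (c ≫ u) := lift_tr u a c
  have hc : (fst G H) ≫ coequalizer.π (fst G H) ((G ◁ u) ≫ μ[G])
      = ((G ◁ u) ≫ μ[G]) ≫ coequalizer.π (fst G H) ((G ◁ u) ≫ μ[G]) := coequalizer.condition _ _
  calc (a * (c ≫ u)) ≫ coequalizer.π (fst G H) ((G ◁ u) ≫ μ[G])
      = lift a c ≫ ((G ◁ u) ≫ μ[G]) ≫ coequalizer.π (fst G H) ((G ◁ u) ≫ μ[G]) := by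
        rw [← h2, Category.assoc]
    _ = lift a c ≫ (fst G H) ≫ coequalizer.π (fst G H) ((G ◁ u) ≫ μ[G]) := by rw [hc]
    _ = a ≫ coequalizer.π (fst G H) ((G ◁ u) ≫ μ[G]) := by rw [← Category.assoc, h1]

end Quot

end General

section Sheaf

universe w v₁ u₁
variable {C : Type u₁} [Category.{v₁} C] (J : GrothendieckTopology C) [HasSheafify J (Type w)]

/-- In sheaves of sets, an equivalence relation is the kernel pair of its coequalizer. -/
theorem isKernelPair_coequalizer {R X : Sheaf J (Type w)} {p₁ p₂ : R ⟶ X}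
    [HasCoequalizer p₁ p₂]
    (er : EquivalenceRelation p₁ p₂) : IsKernelPair (coequalizer.π p₁ p₂) p₁ p₂ := by
  have := er.isEquivalenceRelation
  obtain ⟨e⟩ :=
    (Groth.Agent.S5217.result J p₁ p₂).nonempty_universallyEffectiveEquivalenceRelation
  have hi : coequalizer.π p₁ p₂ ≫ (IsColimit.coconePointUniqueUpToIso
      (coequalizerIsCoequalizer p₁ p₂)
      (EffectiveEquivalenceRelation.isCoequalizer p₁ p₂ e.toEffectiveEquivalenceRelation)).hom
      = e.π :=
    IsColimit.comp_coconePointUniqueUpToIso_hom (coequalizerIsCoequalizer p₁ p₂)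
      (EffectiveEquivalenceRelation.isCoequalizer p₁ p₂ e.toEffectiveEquivalenceRelation)
      WalkingParallelPair.one
  have h2 : IsKernelPair (coequalizer.π p₁ p₂ ≫ (IsColimit.coconePointUniqueUpToIso
      (coequalizerIsCoequalizer p₁ p₂)
      (EffectiveEquivalenceRelation.isCoequalizer p₁ p₂ e.toEffectiveEquivalenceRelation)).hom)
      p₁ p₂ := by
    rw [hi]
    exact e.isKernelPair
  exact h2.cancel_right_of_mono

theorem sheaf_toposLike : ToposLike (Sheaf J (Type w)) where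
  kp er := isKernelPair_coequalizer J er
  epi_bc H hf := by
    have := hf
    exact Groth.Agent.Lib.SheafEpiH8.epi_baseChange J H
  eff f hf := by
    have := hf
    have := IsRegularEpiCategory.regularEpiOfEpi f
    infer_instance

end Sheaf

end Groth.Agent.Lib.GrpRelH8
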