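import Mathlib
import Groth.Prelude
import Groth.Agent.Lib.GrpSmooth2_helper4
import Groth.Agent.Lib.StalkDict2_helper4
import Groth.Agent.Lib.PerfectRed_lead

set_option autoImplicit false
universe u
open CategoryTheory CategoryTheory.Limits MonoidalCategory CartesianMonoidalCategory MonObj GrpObj
  AlgebraicGeometry
open scoped TensorProduct

namespace Groth.Agent.Lib.GrpSmoothTensorH6

theorem isGeometricallyReduced_of_perfect_tensor (k K A : Type u) [Field k] [Field K]
    [Algebra k K] [PerfectField K] [CommRing A] [Algebra k A] (h : IsReduced (K ⊗[k] A)) :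
    Algebra.IsGeometricallyReduced k A := by
  rw [Algebra.isGeometricallyReduced_field_iff]
  haveI := h
  haveI : IsReduced (AlgebraicClosure K ⊗[K] (K ⊗[k] A)) :=
    Groth.Agent.Lib.PerfectRed.isReduced_tensor_of_perfectField K (AlgebraicClosure K) (K ⊗[k] A)
  let e : AlgebraicClosure K ⊗[K] (K ⊗[k] A) ≃ₐ[AlgebraicClosure K] AlgebraicClosure K ⊗[k] A :=
    Algebra.TensorProduct.cancelBaseChange k K (AlgebraicClosure K) (AlgebraicClosure K) A
  haveI : IsReduced (AlgebraicClosure K ⊗[k] A) :=
    isReduced_of_injective e.symm e.symm.injective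
  exact isReduced_of_injective
    (Algebra.TensorProduct.map (IsAlgClosed.lift : AlgebraicClosure k →ₐ[k] AlgebraicClosure K) 1)
    (Module.Flat.rTensor_preserves_injective_linearMap _ (RingHom.injective _))

theorem main5388 (k : Type u) [Field k] (G : Over (Spec (CommRingCat.of k))) [GrpObj G]
    [LocallyOfFiniteType G.hom] (pt : ↥(𝟙_ (Over (Spec (CommRingCat.of k)))).left) (K : Type u)
    [Field K] [Algebra k K] [PerfectField K] :
    letI := ((Scheme.ΓSpecIso (CommRingCat.of k)).inv ≫ G.hom.appTop ≫
      G.left.presheaf.germ ⊤ (η[G].left.base pt) trivial).hom.toAlgebra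
    IsReduced (TensorProduct k K (G.left.presheaf.stalk (η[G].left.base pt))) → Smooth G.hom := by
  letI alg := ((Scheme.ΓSpecIso (CommRingCat.of k)).inv ≫ G.hom.appTop ≫
      G.left.presheaf.germ ⊤ (η[G].left.base pt) trivial).hom.toAlgebra
  intro h
  letI : G.left.Over (Spec (CommRingCat.of k)) := ⟨G.hom⟩
  have hgr : @Algebra.IsGeometricallyReduced k (G.left.presheaf.stalk (η[G].left.base pt)) _ _
      alg :=
    isGeometricallyReduced_of_perfect_tensor k K _ h
  have hgr' : Curv2.IsGeomReducedAt k G.left (η[G].left.base pt) :=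
    (Groth.Agent.Lib.StalkDict2H4.main1541 k G.left _).mpr hgr
  let g : Spec (CommRingCat.of (AlgebraicClosure k)) ⟶ Spec (CommRingCat.of k) :=
    Spec.map (CommRingCat.ofHom (algebraMap k (AlgebraicClosure k)))
  have hne : Nonempty ↥((𝟙_ (Over (Spec (CommRingCat.of (AlgebraicClosure k))))).left) :=
    inferInstanceAs (Nonempty (PrimeSpectrum (AlgebraicClosure k)))
  obtain ⟨t⟩ := hne
  apply Groth.Agent.Lib.GrpSmooth2H4.main14588 k G t
  apply hgr' (AlgebraicClosure k)
  have key : (η[Red.bc g G]).left ≫ pullback.fst G.hom g =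
      ((Functor.LaxMonoidal.ε (Over.pullback g)).left ≫
        pullback.fst (𝟙_ (Over (Spec (CommRingCat.of k)))).hom g) ≫ η[G].left := by
    show ((Functor.LaxMonoidal.ε (Over.pullback g)) ≫ (Over.pullback g).map η[G]).left ≫ _ = _
    rw [Over.comp_left, Category.assoc, Category.assoc]
    congr 1
    exact pullback.lift_fst _ _ _
  have h2 := congrArg (fun φ : (𝟙_ (Over (Spec (CommRingCat.of (AlgebraicClosure k))))).left ⟶
    G.left => φ t) key
  simp only [Scheme.Hom.comp_apply] at h2
  haveI : Subsingleton ↥((𝟙_ (Over (Spec (CommRingCat.of k)))).left) :=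
    inferInstanceAs (Subsingleton (PrimeSpectrum k))
  refine h2.trans ?_
  congr 1
  exact Subsingleton.elim _ _

end Groth.Agent.Lib.GrpSmoothTensorH6
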