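import Mathlib

/-!
# Smoothness of group schemes with a smooth point (helper4)

Adapted from `Mathlib/AlgebraicGeometry/Group/Smooth.lean`.
-/

universe u

set_option linter.style.haveILetI false

open CategoryTheory AlgebraicGeometry Limits

namespace Groth.Agent.Lib.GrpSmoothH4

section

variable {K : Type u} [Field K] {G : Scheme.{u}} (f : G ⟶ Spec (.of K))
    [LocallyOfFiniteType f] [GrpObj (Over.mk f)]

set_option backward.defeqAttrib.useBackward true in
set_option backward.isDefEq.respectTransparency false in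
open MonObj MonoidalCategory CartesianMonoidalCategory in
/-- A group scheme locally of finite type over an algebraically closed field which is smooth at
some point is smooth. -/
theorem smooth_of_nonempty_smoothLocus_of_isAlgClosed [IsAlgClosed K]
    (h : (f.smoothLocus : Set G).Nonempty) : Smooth f := by
  have := LocallyOfFiniteType.jacobsonSpace f
  have : Nonempty G := ⟨η[Over.mk f].1 (IsLocalRing.closedPoint _)⟩
  rw [← Scheme.Hom.smoothLocus_eq_top_iff, ← TopologicalSpace.Opens.coe_eq_univ,
    ← not_ne_iff, ← Set.nonempty_compl]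
  intro H
  obtain ⟨x, hx, hxc⟩ :=
    nonempty_inter_closedPoints H f.smoothLocus.2.isClosed_compl.isLocallyClosed
  obtain ⟨y, hy : y ∈ f.smoothLocus, hyc⟩ := nonempty_inter_closedPoints
    h f.smoothLocus.2.isLocallyClosed
  let x' : 𝟙_ _ ⟶ Over.mk f := Over.homMk _ ((pointEquivClosedPoint f).symm ⟨x, hxc⟩).2
  let y' : 𝟙_ _ ⟶ Over.mk f := Over.homMk _ ((pointEquivClosedPoint f).symm ⟨y, hyc⟩).2
  let α := (GrpObj.mulRight (A := Over.mk f) x').symm ≪≫
    (GrpObj.mulRight (A := Over.mk f) y')
  have hα : x' ≫ α.hom = y' := by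
    dsimp only [Iso.trans_hom, Iso.symm_hom, α]
    rw [← Category.assoc, ← Iso.eq_comp_inv]
    simp [comp_lift_assoc]
  have hα' : α.hom.left x = y := by
    simpa [x', y', pointEquivClosedPoint] using congr(($hα).left (IsLocalRing.closedPoint K))
  rw! [← hα', ← α.hom.left.mem_preimage, Scheme.Hom.preimage_smoothLocus_eq,
    show α.hom.left ≫ f = f from α.hom.w] at hy
  exact hx hy

/-- Base change of the smooth locus. -/
theorem preimage_smoothLocus_le_smoothLocus_snd {X S T : Scheme.{u}} (f : X ⟶ S) (g : T ⟶ S)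
    [LocallyOfFinitePresentation f] :
    (pullback.fst f g) ⁻¹ᵁ f.smoothLocus ≤ (pullback.snd f g).smoothLocus := by
  set U := f.smoothLocus
  haveI hU : Smooth (U.ι ≫ f) := by
    rw [← Scheme.Hom.smoothLocus_eq_top_iff, ← Scheme.Hom.preimage_smoothLocus_eq]
    exact U.ι_preimage_self
  set W := (pullback.fst f g) ⁻¹ᵁ U
  have h1 : IsPullback (pullback.fst f g ∣_ U) W.ι U.ι (pullback.fst f g) :=
    isPullback_morphismRestrict (pullback.fst f g) U
  have h2 : IsPullback (pullback.fst f g) (pullback.snd f g) f g := IsPullback.of_hasPullback f g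
  have h3 : IsPullback (pullback.fst f g ∣_ U) (W.ι ≫ pullback.snd f g) (U.ι ≫ f) g :=
    h1.paste_vert h2
  haveI : Smooth (W.ι ≫ pullback.snd f g) := MorphismProperty.of_isPullback h3 hU
  have h4 : W.ι ⁻¹ᵁ (pullback.snd f g).smoothLocus = ⊤ := by
    rw [Scheme.Hom.preimage_smoothLocus_eq, Scheme.Hom.smoothLocus_eq_top_iff]
    infer_instance
  intro z hz
  have : (⟨z, hz⟩ : W) ∈ W.ι ⁻¹ᵁ (pullback.snd f g).smoothLocus := by rw [h4]; trivial
  exact this

/-- A reduced group scheme locally of finite type over a perfect field is smooth. -/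
theorem smooth_of_isReduced_of_perfectField [PerfectField K] [IsReduced G] : Smooth f := by
  let Ω : Type u := AlgebraicClosure K
  let g : Spec (.of Ω) ⟶ Spec (.of K) := Spec.map (CommRingCat.ofHom <| algebraMap K Ω)
  apply MorphismProperty.of_pullback_snd_of_descendsAlong
    (Q := @Surjective ⊓ @Flat ⊓ @QuasiCompact) (g := g)
  · exact ⟨⟨inferInstance, inferInstance⟩, inferInstance⟩
  · let : GrpObj (Over.mk (Limits.pullback.snd f g)) := Over.grpObjMkPullbackSnd
    apply smooth_of_nonempty_smoothLocus_of_isAlgClosed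
    have hne : Nonempty G :=
      ⟨(MonObj.one (X := Over.mk f)).left (IsLocalRing.closedPoint K)⟩
    obtain ⟨y, hy⟩ := f.dense_smoothLocus_of_perfectField.nonempty
    haveI : Surjective g := inferInstance
    obtain ⟨z, hz⟩ := (pullback.fst f g).surjective y
    exact ⟨z, preimage_smoothLocus_le_smoothLocus_snd f g (by
      change pullback.fst f g z ∈ f.smoothLocus
      rw [hz]; exact hy)⟩

end

open MonoidalCategory in
theorem main7495 (K : Type u) [Field K] [PerfectField K]
    (G : Over (Spec (CommRingCat.of K))) [GrpObj G] [LocallyOfFiniteType G.hom]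
    [IsReduced G.left] : Smooth G.hom := by
  haveI : GrpObj (Over.mk G.hom) := inferInstanceAs (GrpObj G)
  exact smooth_of_isReduced_of_perfectField (K := K) G.hom

end Groth.Agent.Lib.GrpSmoothH4
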