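import Mathlib

/-!
# Immersions into affine schemes: restriction to basic opens (helper7)

General lemmas used for `S1885`:
* `isClosedImmersion_morphismRestrict`: an immersion whose range is closed inside an open `V`
  restricts to a closed immersion over `V`;
* `surjective_app_of_isClosedImmersion_restrict`: surjectivity on sections over an affine open;
* `exists_basicOpen_eq_preimage`: a basic open of a section of the form `j^♯ b`,
  `b ∈ Γ(Spec A, D(h₀))`, is the preimage of `D(h₀ a)`;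
* `exists_mem_ideal_preimage_basicOpen_le`: prime avoidance producing `h₀ ∈ I`.
-/

set_option backward.isDefEq.respectTransparency false
set_option backward.isDefEq.respectTransparency.types false
set_option linter.style.haveILetI false
set_option linter.unusedSectionVars false
set_option linter.unusedVariables false
set_option autoImplicit false
set_option maxHeartbeats 1600000

universe u

open CategoryTheory CategoryTheory.Limits AlgebraicGeometry TopologicalSpace

namespace Groth.Agent.Lib.GrpdAffBasicH7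

theorem isClosedImmersion_morphismRestrict {X Y : Scheme.{u}} (f : X ⟶ Y) [IsImmersion f]
    (V : Y.Opens) (Z : Set Y) (hZ : IsClosed Z)
    (h : ∀ y : Y, y ∈ V → (y ∈ Set.range f ↔ y ∈ Z)) : IsClosedImmersion (f ∣_ V) := by
  haveI : IsImmersion (f ∣_ V) :=
    MorphismProperty.of_isPullback (P := @IsImmersion)
      (isPullback_morphismRestrict f V).flip inferInstance
  apply IsClosedImmersion.of_isPreimmersion
  have hrange : Set.range (f ∣_ V) = (V.ι : V.toScheme → Y) ⁻¹' Z := by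
    ext p
    constructor
    · rintro ⟨x, rfl⟩
      show V.ι ((f ∣_ V) x) ∈ Z
      have h1 : V.ι ((f ∣_ V) x) = f ((f ⁻¹ᵁ V).ι x) := by
        rw [← Scheme.Hom.comp_apply, ← Scheme.Hom.comp_apply, morphismRestrict_ι]
      rw [h1]
      have h2 : f ((f ⁻¹ᵁ V).ι x) ∈ V := x.2
      exact (h _ h2).mp ⟨_, rfl⟩
    · intro hp
      have hp' : V.ι p ∈ Z := hp
      have hpV : V.ι p ∈ V := p.2
      obtain ⟨x, hx⟩ := (h _ hpV).mpr hp'
      have hxV : x ∈ f ⁻¹ᵁ V := by
        show f x ∈ V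
        rw [hx]; exact hpV
      refine ⟨⟨x, hxV⟩, ?_⟩
      apply V.ι.isOpenEmbedding.injective
      have h1 : V.ι ((f ∣_ V) ⟨x, hxV⟩) = f ((f ⁻¹ᵁ V).ι ⟨x, hxV⟩) := by
        rw [← Scheme.Hom.comp_apply, ← Scheme.Hom.comp_apply, morphismRestrict_ι]
      rw [h1]
      exact hx
  rw [hrange]
  exact hZ.preimage V.ι.continuous

theorem surjective_app_of_isClosedImmersion_restrict {X Y : Scheme.{u}} (f : X ⟶ Y)
    (V : Y.Opens) (hV : IsAffineOpen V) [IsClosedImmersion (f ∣_ V)] :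
    Function.Surjective (f.app V).hom := by
  haveI : IsAffine V.toScheme := hV
  obtain ⟨_, hs⟩ := IsClosedImmersion.isAffine_surjective_of_isAffine (f ∣_ V)
  have h1 : (f ∣_ V).appTop = (f ∣_ V).app ⊤ := rfl
  rw [h1, morphismRestrict_app'] at hs
  have key : ∀ (A : Y.Opens) (B : X.Opens) (e : B ≤ f ⁻¹ᵁ A), A = V → B = f ⁻¹ᵁ V →
      Function.Surjective (f.appLE A B e).hom → Function.Surjective (f.app V).hom := by
    intro A B e hA hB hsurj
    subst hA
    subst hB
    rw [Scheme.Hom.app_eq_appLE]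
    exact hsurj
  refine key _ _ _ V.ι_image_top ?_ hs
  have h2 : (f ∣_ V) ⁻¹ᵁ (⊤ : V.toScheme.Opens) = ⊤ := rfl
  rw [h2]
  exact (f ⁻¹ᵁ V).ι_image_top

theorem exists_basicOpen_eq_preimage' {X : Scheme.{u}} {R : CommRingCat.{u}}
    (j : X ⟶ Spec R) (h₀ : R)
    (b : Γ(Spec R, PrimeSpectrum.basicOpen h₀)) :
    ∃ a : R, X.basicOpen ((j.app (PrimeSpectrum.basicOpen h₀)).hom b) =
      j ⁻¹ᵁ (PrimeSpectrum.basicOpen (h₀ * a)) := by
  obtain ⟨n, a, hna⟩ := IsLocalization.Away.surj (R := R)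
    (S := Γ(Spec R, PrimeSpectrum.basicOpen h₀)) h₀ b
  refine ⟨a, ?_⟩
  have hunit : IsUnit (algebraMap R Γ(Spec R, PrimeSpectrum.basicOpen h₀) h₀) :=
    IsLocalization.Away.algebraMap_isUnit h₀
  have h1 : (Spec R).basicOpen b =
      (Spec R).basicOpen (b * algebraMap R Γ(Spec R, PrimeSpectrum.basicOpen h₀) h₀ ^ n) := by
    rw [Scheme.basicOpen_mul, Scheme.basicOpen_of_isUnit _ (hunit.pow n)]
    exact (inf_eq_left.mpr ((Spec R).basicOpen_le b)).symm
  have h2 : (Spec R).basicOpen (algebraMap R Γ(Spec R, PrimeSpectrum.basicOpen h₀) a) =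
      PrimeSpectrum.basicOpen h₀ ⊓ PrimeSpectrum.basicOpen a := by
    rw [IsAffineOpen.algebraMap_Spec_obj, CommRingCat.hom_comp, RingHom.comp_apply, Scheme.basicOpen_res,
      basicOpen_eq_of_affine]
  rw [← Scheme.preimage_basicOpen, h1, hna, h2, PrimeSpectrum.basicOpen_mul]

theorem exists_basicOpen_eq_preimage {X : Scheme.{u}} {A : Type u} [CommRing A]
    (j : X ⟶ Spec (CommRingCat.of A)) (h₀ : A)
    (b : Γ(Spec (CommRingCat.of A),
      (PrimeSpectrum.basicOpen h₀ : (Spec (CommRingCat.of A)).Opens))) :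
    ∃ a : A, X.basicOpen
        ((j.app (PrimeSpectrum.basicOpen h₀ : (Spec (CommRingCat.of A)).Opens)).hom b) =
      j ⁻¹ᵁ (PrimeSpectrum.basicOpen (h₀ * a)) :=
  exists_basicOpen_eq_preimage' (R := CommRingCat.of A) j h₀ b

theorem mem_preimage_basicOpen_iff {X : Scheme.{u}} {A : Type u} [CommRing A]
    (j : X ⟶ Spec (CommRingCat.of A)) (h : A) (x : X) :
    x ∈ j ⁻¹ᵁ (PrimeSpectrum.basicOpen h) ↔ h ∉ (j x).asIdeal := Iff.rfl

theorem exists_mem_ideal_preimage_basicOpen_le {X : Scheme.{u}} {A : Type u} [CommRing A]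
    (j : X ⟶ Spec (CommRingCat.of A)) [IsImmersion j] (I : Ideal A)
    (hI : ∀ x : X, j x ∉ PrimeSpectrum.zeroLocus (I : Set A))
    (W : X.Opens) (E : Set X) (hE : E.Finite) (hEW : E ⊆ W) :
    ∃ h₀ ∈ I, j ⁻¹ᵁ (PrimeSpectrum.basicOpen h₀) ≤ W ∧
      E ⊆ j ⁻¹ᵁ (PrimeSpectrum.basicOpen h₀) := by
  classical
  obtain ⟨K, hK⟩ : ∃ K : Ideal A, K = PrimeSpectrum.vanishingIdeal (j '' (W : Set X)ᶜ) :=
    ⟨_, rfl⟩
  have hind : Topology.IsInducing j := j.isEmbedding.isInducing
  have hnot : ∀ e ∈ E, ¬ (I ⊓ K ≤ (j e).asIdeal) := by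
    intro e he hle
    haveI := (j e).2
    rcases (Ideal.IsPrime.inf_le (j e).2).mp hle with h1 | h1
    · exact hI e ((PrimeSpectrum.mem_zeroLocus _ _).mpr h1)
    · have h2 : j e ∈ PrimeSpectrum.zeroLocus (K : Set A) :=
        (PrimeSpectrum.mem_zeroLocus _ _).mpr h1
      rw [hK, PrimeSpectrum.zeroLocus_vanishingIdeal_eq_closure] at h2
      have h3 : e ∈ closure ((W : Set X)ᶜ) := by
        rw [hind.closure_eq_preimage_closure_image]
        exact h2
      rw [(isClosed_compl_iff.mpr W.isOpen).closure_eq] at h3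
      exact h3 (hEW he)
  have hmain : ∃ h₀ ∈ I ⊓ K, ∀ e ∈ E, h₀ ∉ (j e).asIdeal := by
    by_cases hne : E.Nonempty
    · obtain ⟨e₀, he₀⟩ := hne
      have havoid : ¬ (((I ⊓ K : Ideal A) : Set A) ⊆
          ⋃ e ∈ (hE.toFinset : Set X), ((j e).asIdeal : Set A)) := by
        intro hsub
        obtain ⟨e, he, hle⟩ := (Ideal.subset_union_prime (s := hE.toFinset)
          (f := fun e : X => (j e).asIdeal) e₀ e₀ (fun e _ _ _ => (j e).2)).mp hsub
        exact hnot e (hE.mem_toFinset.mp he) hle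
      obtain ⟨h₀, hh₀, hh₀'⟩ := Set.not_subset.mp havoid
      refine ⟨h₀, hh₀, fun e he hmem => hh₀' ?_⟩
      simp only [Set.mem_iUnion]
      exact ⟨e, by rw [Finset.mem_coe, hE.mem_toFinset]; exact he, hmem⟩
    · refine ⟨0, Ideal.zero_mem _, fun e he => ?_⟩
      exact absurd ⟨e, he⟩ hne
  obtain ⟨h₀, hh₀, hE₀⟩ := hmain
  refine ⟨h₀, hh₀.1, ?_, ?_⟩
  · intro x hx
    by_contra hxW
    have hx' : h₀ ∉ (j x).asIdeal := hx
    apply hx'
    have h1 : h₀ ∈ PrimeSpectrum.vanishingIdeal (j '' (W : Set X)ᶜ) := by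
      rw [← hK]; exact hh₀.2
    rw [PrimeSpectrum.mem_vanishingIdeal] at h1
    exact h1 (j x) ⟨x, hxW, rfl⟩
  · intro e he
    exact hE₀ e he

theorem isClosedImmersion_restrict_basicOpen {X : Scheme.{u}} {A : Type u} [CommRing A]
    (j : X ⟶ Spec (CommRingCat.of A)) [IsImmersion j] (I : Ideal A)
    (hcl : IsClosed (PrimeSpectrum.zeroLocus (I : Set A) ∪ Set.range j))
    (h : A) (hh : h ∈ I) :
    IsClosedImmersion (j ∣_ (PrimeSpectrum.basicOpen h : (Spec (CommRingCat.of A)).Opens)) := by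
  refine isClosedImmersion_morphismRestrict j _
    (PrimeSpectrum.zeroLocus (I : Set A) ∪ Set.range j) hcl ?_
  intro y hy
  constructor
  · intro hy'
    exact Or.inr hy'
  · rintro (hy' | hy')
    · exfalso
      have h1 : h ∉ y.asIdeal := hy
      exact h1 ((PrimeSpectrum.mem_zeroLocus _ _).mp hy' hh)
    · exact hy'

theorem isClosedImmersion_restrict_of_le_range {X Y : Scheme.{u}} (f : X ⟶ Y) [IsImmersion f]
    (V : Y.Opens) (hV : (V : Set Y) ⊆ Set.range f) : IsClosedImmersion (f ∣_ V) := by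
  refine isClosedImmersion_morphismRestrict f V Set.univ isClosed_univ ?_
  intro y hy
  exact ⟨fun _ => trivial, fun _ => hV hy⟩

end Groth.Agent.Lib.GrpdAffBasicH7
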