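import Mathlib
import Groth.Prelude.Def_Grpd
import Groth.Agent.Lib.GrpdCalc_helper6

set_option autoImplicit false
set_option linter.style.haveILetI false

universe u

open CategoryTheory CategoryTheory.Limits AlgebraicGeometry Grpd TensorProduct
open Groth.Agent.Lib.GrpdCalc

namespace Groth.Agent.Lib.GrpdFreeH4

section alg

variable {A B P : Type u} [CommRing A] [CommRing B] [CommRing P]

theorem exists_basis_eqLocus (s t : A →+* B) (e : B →+* A) (p₀ p₁ c : B →+* P)
    (hes : ∀ a, e (s a) = a) (het : ∀ a, e (t a) = a)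
    (hct : ∀ a, c (t a) = p₀ (t a)) (hcs : ∀ a, c (s a) = p₁ (s a))
    (hp : ∀ a, p₀ (s a) = p₁ (t a))
    {I : Type u} (x : I → A)
    (hB : letI := s.toAlgebra; ∃ b : Module.Basis I A B, ∀ i, b i = t (x i))
    (hP : letI := p₁.toAlgebra; ∃ b : Module.Basis I B P, ∀ i, b i = p₀ (t (x i))) :
    ∃ b : Module.Basis I (RingHom.eqLocus s t) A, ∀ i, b i = x i := by
  letI algAB : Algebra A B := s.toAlgebra
  letI algBP : Algebra B P := p₁.toAlgebra
  obtain ⟨bB, hbB⟩ := hB
  obtain ⟨bP, hbP⟩ := hP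
  have smulAB : ∀ (a : A) (b : B), a • b = s a * b := fun a b => Algebra.smul_def a b
  have smulBP : ∀ (b : B) (p : P), b • p = p₁ b * p := fun b p => Algebra.smul_def b p
  have hexp : ∀ (a : A) (r : I →₀ A), r = bB.repr (t a) →
      ∑ i ∈ r.support, s (r i) * t (x i) = t a := by
    intro a r hr
    have h := bB.linearCombination_repr (t a)
    rw [← hr, Finsupp.linearCombination_apply, Finsupp.sum] at h
    rw [← h]
    refine Finset.sum_congr rfl fun i _ => ?_
    rw [smulAB, hbB]
  have key : ∀ (a : A) (r : I →₀ A), r = bB.repr (t a) → ∀ i, s (r i) = t (r i) := by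
    intro a r hr
    have hx := hexp a r hr
    have h1 : c (t a) = ∑ i ∈ r.support, p₁ (s (r i)) * p₀ (t (x i)) := by
      rw [← hx, map_sum]
      refine Finset.sum_congr rfl fun i _ => ?_
      rw [map_mul, hcs, hct]
    have h2 : p₀ (t a) = ∑ i ∈ r.support, p₁ (t (r i)) * p₀ (t (x i)) := by
      rw [← hx, map_sum]
      refine Finset.sum_congr rfl fun i _ => ?_
      rw [map_mul, hp]
    have h3 : ∑ i ∈ r.support, (s (r i) - t (r i)) • bP i = 0 := by
      have h4 : ∀ i, (s (r i) - t (r i)) • bP i =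
          p₁ (s (r i)) * p₀ (t (x i)) - p₁ (t (r i)) * p₀ (t (x i)) := by
        intro i; rw [smulBP, hbP, map_sub, sub_mul]
      simp only [h4, Finset.sum_sub_distrib]
      rw [← h1, ← h2, hct, sub_self]
    intro i
    by_cases hi : i ∈ r.support
    · have h5 := linearIndependent_iff'.1 bP.linearIndependent r.support
        (fun i => s (r i) - t (r i)) h3 i hi
      exact sub_eq_zero.1 h5
    · have h6 : r i = 0 := Finsupp.notMem_support_iff.1 hi
      rw [h6, map_zero, map_zero]
  have hli : LinearIndependent (RingHom.eqLocus s t) x := by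
    rw [linearIndependent_iff']
    intro F g hg i hi
    have h4 : ∑ j ∈ F, (g j : A) • bB j = 0 := by
      have h5 := congrArg t hg
      rw [map_sum, map_zero] at h5
      rw [← h5]
      refine Finset.sum_congr rfl fun j _ => ?_
      have hgj : s (g j : A) = t (g j : A) := (g j).2
      rw [smulAB, hbB, show g j • x j = (g j : A) * x j from rfl, map_mul, hgj]
    have h6 := linearIndependent_iff'.1 bB.linearIndependent F (fun j => (g j : A)) h4 i hi
    exact Subtype.ext h6
  have hsp : ⊤ ≤ Submodule.span (RingHom.eqLocus s t) (Set.range x) := by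
    intro a _
    obtain ⟨r, hr⟩ : ∃ r : I →₀ A, r = bB.repr (t a) := ⟨_, rfl⟩
    have hk := key a r hr
    have hx := hexp a r hr
    have ha : a = ∑ i ∈ r.support, r i * x i := by
      have h7 := congrArg e hx
      rw [map_sum, het] at h7
      rw [← h7]
      refine Finset.sum_congr rfl fun i _ => ?_
      rw [map_mul, hes, het]
    rw [ha]
    refine Submodule.sum_mem _ fun i _ => ?_
    have h8 : r i * x i = (⟨r i, hk i⟩ : RingHom.eqLocus s t) • x i := rfl
    rw [h8]
    exact Submodule.smul_mem _ _ (Submodule.subset_span ⟨i, rfl⟩)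
  exact ⟨Module.Basis.mk hli hsp, fun i => Module.Basis.mk_apply hli hsp i⟩

theorem bijective_of_bases (s t : A →+* B) (C : Subring A)
    {I : Type u} (x : I → A)
    (bA : Module.Basis I C A) (hbA : ∀ i, bA i = x i)
    (hB : letI := s.toAlgebra; ∃ b : Module.Basis I A B, ∀ i, b i = t (x i)) :
    letI := (s.comp C.subtype).toAlgebra
    ∀ φ : TensorProduct C A A →ₗ[C] B,
      (∀ a a' : A, φ (a ⊗ₜ[C] a') = t a * s a') → Function.Bijective φ := by
  letI algAB : Algebra A B := s.toAlgebra
  letI algCB : Algebra C B := (s.comp C.subtype).toAlgebra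
  haveI : IsScalarTower C A B := IsScalarTower.of_algebraMap_eq (fun c => rfl)
  obtain ⟨bB, hbB⟩ := hB
  intro φ hφ
  let b1 : Module.Basis (I × I) C (TensorProduct C A A) := Module.Basis.tensorProduct bA bA
  let b2 : Module.Basis (I × I) C B := Module.Basis.smulTower bA bB
  have hφe : φ = (b1.equiv b2 (Equiv.prodComm I I)).toLinearMap := by
    apply b1.ext
    rintro ⟨i, j⟩
    rw [LinearEquiv.coe_coe, Module.Basis.equiv_apply, Module.Basis.tensorProduct_apply, hφ,
      Module.Basis.smulTower_apply]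
    show t (bA i) * s (bA j) = bA j • bB i
    rw [hbA, hbA, hbB, Algebra.smul_def, mul_comm]; rfl
  rw [hφe]
  exact LinearEquiv.bijective _

end alg

theorem exists_basis_of_isPushout {R A' B' P : CommRingCat.{u}} (f : R ⟶ A') (g : R ⟶ B')
    (inl : A' ⟶ P) (inr : B' ⟶ P) (h : IsPushout f g inl inr) {I : Type u} (y : I → A')
    (hb : letI := f.hom.toAlgebra; ∃ b : Module.Basis I R A', ∀ i, b i = y i) :
    letI := inr.hom.toAlgebra; ∃ b : Module.Basis I B' P, ∀ i, b i = inl.hom (y i) := by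
  letI algRA : Algebra R A' := f.hom.toAlgebra
  letI algRB : Algebra R B' := g.hom.toAlgebra
  letI algBP : Algebra B' P := inr.hom.toAlgebra
  obtain ⟨b, hb⟩ := hb
  have h' : IsPushout (CommRingCat.ofHom (algebraMap R B')) (CommRingCat.ofHom (algebraMap R A'))
      inr inl := h.flip
  let iso := (CommRingCat.isPushout_tensorProduct R B' A').isoIsPushout _ _ h'
  let e : (B' ⊗[R] A') ≃+* P := iso.commRingCatIsoToRingEquiv
  have he1 : ∀ b' : B', e (b' ⊗ₜ[R] (1 : A')) = inr.hom b' := by
    intro b'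
    have h2 : CommRingCat.ofHom (S := B' ⊗[R] A') Algebra.TensorProduct.includeLeftRingHom ≫
        iso.hom = inr :=
      (CommRingCat.isPushout_tensorProduct R B' A').inl_isoIsPushout_hom _ _ h'
    exact congrArg (fun φ => φ.hom b') h2
  have he2 : ∀ a : A', e ((1 : B') ⊗ₜ[R] a) = inl.hom a := by
    intro a
    have h2 : CommRingCat.ofHom (S := B' ⊗[R] A')
        Algebra.TensorProduct.includeRight.toRingHom ≫ iso.hom = inl :=
      (CommRingCat.isPushout_tensorProduct R B' A').inr_isoIsPushout_hom _ _ h'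
    exact congrArg (fun φ => φ.hom a) h2
  let eL : (B' ⊗[R] A') ≃ₗ[B'] P :=
    { e.toAddEquiv with
      map_smul' := fun b' z => by
        show e (b' • z) = b' • e z
        have h1 : b' • z = (b' ⊗ₜ[R] (1 : A')) * z := by
          rw [Algebra.smul_def, Algebra.TensorProduct.algebraMap_apply]; rfl
        rw [h1, map_mul, he1]
        exact (Algebra.smul_def b' (e z)).symm }
  let bT : Module.Basis I B' (B' ⊗[R] A') := Algebra.TensorProduct.basis B' b
  refine ⟨bT.map eL, fun i => ?_⟩
  rw [Module.Basis.map_apply]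
  show e (bT i) = inl.hom (y i)
  rw [show bT i = (1 : B') ⊗ₜ[R] b i from Algebra.TensorProduct.basis_apply _ _, he2, hb]

lemma appTop_sq {X Y Y' Z : Scheme.{u}} (f : X ⟶ Y) (g : Y ⟶ Z) (f' : X ⟶ Y') (g' : Y' ⟶ Z)
    (w : f ≫ g = f' ≫ g') (a : Γ(Z, ⊤)) :
    f.appTop.hom (g.appTop.hom a) = f'.appTop.hom (g'.appTop.hom a) := by
  have h := congrArg (fun φ => φ.appTop.hom a) w
  simpa using h

lemma appTop_id' {X Y : Scheme.{u}} (f : X ⟶ Y) (g : Y ⟶ X) (w : f ≫ g = 𝟙 X) (a : Γ(X, ⊤)) :
    f.appTop.hom (g.appTop.hom a) = a := by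
  have h := congrArg (fun φ => φ.appTop.hom a) w
  simpa using h

theorem main7486 (S : Scheme.{u}) (G : Grpd.GroupoidScheme S) [IsAffine G.U] [IsAffine G.R]
    (I : Type u) (x : I → Γ(G.U, ⊤))
    (hB : letI := G.s.appTop.hom.toAlgebra;
      ∃ b : Module.Basis I Γ(G.U, ⊤) Γ(G.R, ⊤), ∀ i, b i = G.t.appTop.hom (x i)) :
    (∃ b : Module.Basis I G.invariants Γ(G.U, ⊤), ∀ i, b i = x i) ∧
    (letI := (G.s.appTop.hom.comp G.invariants.subtype).toAlgebra;
      ∀ φ : TensorProduct G.invariants Γ(G.U, ⊤) Γ(G.U, ⊤) →ₗ[G.invariants] Γ(G.R, ⊤),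
        (∀ a a' : Γ(G.U, ⊤), φ (a ⊗ₜ[G.invariants] a') =
          G.t.appTop.hom a * G.s.appTop.hom a') → Function.Bijective φ) := by
  have hpo : IsPushout G.s.appTop G.t.appTop (pullback.fst G.s G.t).appTop
      (pullback.snd G.s G.t).appTop :=
    isPushout_appTop_of_isPullback (IsPullback.of_hasPullback G.s G.t)
  have hP := exists_basis_of_isPushout G.s.appTop G.t.appTop _ _ hpo
    (fun i => G.t.appTop.hom (x i)) hB
  have h1 : ∃ b : Module.Basis I G.invariants Γ(G.U, ⊤), ∀ i, b i = x i :=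
    exists_basis_eqLocus G.s.appTop.hom G.t.appTop.hom G.e.appTop.hom
      (pullback.fst G.s G.t).appTop.hom (pullback.snd G.s G.t).appTop.hom G.c.appTop.hom
      (fun a => appTop_id' G.e G.s G.e_s a)
      (fun a => appTop_id' G.e G.t G.e_t a)
      (fun a => appTop_sq G.c G.t _ G.t (c_t G) a)
      (fun a => appTop_sq G.c G.s _ G.s (c_s G) a)
      (fun a => appTop_sq _ G.s _ G.t pullback.condition a)
      x hB hP
  refine ⟨h1, ?_⟩
  obtain ⟨bA, hbA⟩ := h1
  exact bijective_of_bases G.s.appTop.hom G.t.appTop.hom G.invariants x bA hbA hB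

end Groth.Agent.Lib.GrpdFreeH4
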