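import Mathlib
import Groth.Prelude.Def_Grpd
import Groth.Agent.Lib.GrpdCalc_helper6
import Groth.Agent.Lib.GrpdFree_helper4

set_option autoImplicit false
set_option linter.style.haveILetI false
set_option linter.unusedVariables false

universe u

open CategoryTheory CategoryTheory.Limits AlgebraicGeometry Grpd TensorProduct
open Groth.Agent.Lib.GrpdCalc Groth.Agent.Lib.GrpdFreeH4

namespace Groth.Agent.Lib.GrpdIntegralH4

section alg

/-- coordinatewise sum manipulation -/
theorem key_sum {R M : Type u} [CommRing R] [CommRing M] [Algebra R M] (n : ℕ)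
    (ι' : M →ₗ[R] (Fin n → R)) (c : Fin n → R) (v : Fin n → M) (k : Fin n) :
    ∑ j, ι' (v j) k * c j = ι' (∑ j, c j • v j) k := by
  rw [map_sum, Finset.sum_apply]
  refine Finset.sum_congr rfl fun j _ => ?_
  rw [map_smul, Pi.smul_apply, smul_eq_mul, mul_comm]

theorem hsum {R M : Type u} [CommRing R] [CommRing M] [Algebra R M] (n : ℕ)
    (ι' : M →ₗ[R] (Fin n → R)) (w : Fin n → M) (h : ∀ a, ∑ i, ι' a i • w i = a) (x a : M) :
    ∑ j, ι' a j • (x * w j) = x * a := by
  have h1 := h a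
  calc ∑ j, ι' a j • (x * w j) = ∑ j, x * (ι' a j • w j) :=
        Finset.sum_congr rfl fun j _ => (mul_smul_comm _ _ _).symm
    _ = x * ∑ j, ι' a j • w j := (Finset.mul_sum _ _ _).symm
    _ = x * a := by rw [h1]

/-- The characteristic polynomial of multiplication by `g`, computed through a presentation of `M`
as a retract of `R^n`, does not depend on the presentation. -/
theorem charpoly_indep {R M : Type u} [CommRing R] [CommRing M] [Algebra R M] (n : ℕ)
    (w₁ w₂ : Fin n → M) (ι₁ ι₂ : M →ₗ[R] (Fin n → R))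
    (h₁ : ∀ a, ∑ i, ι₁ a i • w₁ i = a) (h₂ : ∀ a, ∑ i, ι₂ a i • w₂ i = a) (g : M) :
    (Matrix.of fun k i => ι₁ (g * w₁ i) k).charpoly =
      (Matrix.of fun k i => ι₂ (g * w₂ i) k).charpoly := by
  have hXY : (Matrix.of fun k i => ι₁ (g * w₂ i) k) * (Matrix.of fun k i => ι₂ (w₁ i) k) =
      (Matrix.of fun k i => ι₁ (g * w₁ i) k) := by
    ext k i
    rw [Matrix.mul_apply]
    show ∑ j, ι₁ (g * w₂ j) k * ι₂ (w₁ i) j = ι₁ (g * w₁ i) k
    refine (key_sum n ι₁ (fun j => ι₂ (w₁ i) j) (fun j => g * w₂ j) k).trans ?_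
    show ι₁ (∑ j, ι₂ (w₁ i) j • (g * w₂ j)) k = ι₁ (g * w₁ i) k
    rw [hsum n ι₂ w₂ h₂ g (w₁ i)]
  have hYX : (Matrix.of fun k i => ι₂ (w₁ i) k) * (Matrix.of fun k i => ι₁ (g * w₂ i) k) =
      (Matrix.of fun k i => ι₂ (g * w₂ i) k) := by
    ext k i
    rw [Matrix.mul_apply]
    show ∑ j, ι₂ (w₁ j) k * ι₁ (g * w₂ i) j = ι₂ (g * w₂ i) k
    refine (key_sum n ι₂ (fun j => ι₁ (g * w₂ i) j) (fun j => w₁ j) k).trans ?_
    show ι₂ (∑ j, ι₁ (g * w₂ i) j • w₁ j) k = ι₂ (g * w₂ i) k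
    rw [h₁]
  rw [← hXY, ← hYX]
  exact Matrix.charpoly_mul_comm _ _

/-- Cayley–Hamilton through a retract presentation. -/
theorem aeval_charpoly_eq_zero {R M : Type u} [CommRing R] [CommRing M] [Algebra R M] (n : ℕ)
    (w : Fin n → M) (ι : M →ₗ[R] (Fin n → R)) (h : ∀ a, ∑ i, ι a i • w i = a) (g : M) :
    Polynomial.aeval g (Matrix.of fun k i => ι (g * w i) k).charpoly = 0 := by
  obtain ⟨Φ, hΦ⟩ : ∃ Φ : Matrix (Fin n) (Fin n) R, Φ = Matrix.of fun k i => ι (g * w i) k :=
    ⟨_, rfl⟩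
  rw [← hΦ]
  have hmv : ∀ x : M, Φ.mulVec (ι x) = ι (g * x) := by
    intro x
    funext k
    rw [hΦ]
    show ∑ j, ι (g * w j) k * ι x j = ι (g * x) k
    refine (key_sum n ι (fun j => ι x j) (fun j => g * w j) k).trans ?_
    show ι (∑ j, ι x j • (g * w j)) k = ι (g * x) k
    rw [hsum n ι w h g x]
  have hpow : ∀ (m : ℕ) (x : M), (Φ ^ m).mulVec (ι x) = ι (g ^ m * x) := by
    intro m
    induction m with
    | zero => intro x; rw [pow_zero, Matrix.one_mulVec, pow_zero, one_mul]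
    | succ m ih =>
      intro x
      rw [pow_succ, ← Matrix.mulVec_mulVec, hmv, ih, pow_succ, mul_assoc]
  have hCH := Matrix.aeval_self_charpoly Φ
  rw [Polynomial.aeval_eq_sum_range] at hCH
  obtain ⟨a, ha⟩ : ∃ a : M, a = ∑ i ∈ Finset.range (Φ.charpoly.natDegree + 1),
      Φ.charpoly.coeff i • g ^ i := ⟨_, rfl⟩
  have h2 : ι a = 0 := by
    have h5 : (Matrix.toLin' (∑ i ∈ Finset.range (Φ.charpoly.natDegree + 1),
        Φ.charpoly.coeff i • Φ ^ i)) (ι 1) = 0 := by
      rw [hCH, map_zero, LinearMap.zero_apply]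
    rw [map_sum, LinearMap.sum_apply] at h5
    rw [ha, map_sum, ← h5]
    refine Finset.sum_congr rfl fun i _ => ?_
    rw [map_smul, map_smul, LinearMap.smul_apply, Matrix.toLin'_apply, hpow, mul_one]
  rw [Polynomial.aeval_eq_sum_range, ← ha, ← h a, h2]
  simp

theorem exists_retract_tensor {R A' B' P : Type u} [CommRing R] [CommRing A'] [CommRing B']
    [CommRing P] [Algebra R A'] [Algebra R B'] (inl : A' →+* P) (inr : B' →+* P)
    (e : (B' ⊗[R] A') ≃+* P) (he1 : ∀ b' : B', e (b' ⊗ₜ[R] (1 : A')) = inr b')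
    (he2 : ∀ a : A', e ((1 : B') ⊗ₜ[R] a) = inl a)
    (n : ℕ) (w : Fin n → A') (ι : A' →ₗ[R] (Fin n → R)) (h : ∀ a, ∑ i, ι a i • w i = a) :
    letI := inr.toAlgebra
    ∃ ι' : P →ₗ[B'] (Fin n → B'), (∀ p, ∑ i, ι' p i • inl (w i) = p) ∧
      (∀ a k, ι' (inl a) k = algebraMap R B' (ι a k)) := by
  letI algBP : Algebra B' P := inr.toAlgebra
  have hsmul : ∀ (b' : B') (z : B' ⊗[R] A'), e (b' • z) = b' • e z := by
    intro b' z
    have h1 : b' • z = (b' ⊗ₜ[R] (1 : A')) * z := by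
      rw [Algebra.smul_def, Algebra.TensorProduct.algebraMap_apply]; rfl
    rw [h1, map_mul, he1]
    exact (Algebra.smul_def b' (e z)).symm
  have hr : ∀ r : R, inl (algebraMap R A' r) = inr (algebraMap R B' r) := by
    intro r
    rw [← he1, ← he2, Algebra.algebraMap_eq_smul_one, Algebra.algebraMap_eq_smul_one,
      TensorProduct.smul_tmul]
  obtain ⟨ι₀, hι₀⟩ : ∃ ι₀ : B' ⊗[R] A' →ₗ[B'] (Fin n → B'),
      ∀ (b : B') (a : A') (i : Fin n), ι₀ (b ⊗ₜ[R] a) i = b * algebraMap R B' (ι a i) :=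
    ⟨LinearMap.liftBaseChange B' (((Algebra.linearMap R B').compLeft (Fin n)).comp ι),
      fun b a i => by rw [LinearMap.liftBaseChange_tmul]; rfl⟩
  have hz : ∀ z : B' ⊗[R] A', ∑ i, ι₀ z i • inl (w i) = e z := by
    intro z
    induction z using TensorProduct.induction_on with
    | zero => simp
    | tmul b a =>
      have hb : b ⊗ₜ[R] a = (b ⊗ₜ[R] (1 : A')) * ((1 : B') ⊗ₜ[R] a) := by
        rw [Algebra.TensorProduct.tmul_mul_tmul, mul_one, one_mul]
      have hR : e (b ⊗ₜ[R] a) = inr b * inl a := by rw [hb, map_mul, he1, he2]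
      have ha : inl a = ∑ i, inr (algebraMap R B' (ι a i)) * inl (w i) := by
        conv_lhs => rw [← h a]
        rw [map_sum]
        refine Finset.sum_congr rfl fun i _ => ?_
        rw [Algebra.smul_def, map_mul, hr]
      rw [hR, ha, Finset.mul_sum]
      refine Finset.sum_congr rfl fun i _ => ?_
      rw [hι₀, Algebra.smul_def]
      show inr (b * algebraMap R B' (ι a i)) * inl (w i) = _
      rw [map_mul, mul_assoc]
    | add x y hx hy =>
      rw [map_add, map_add, ← hx, ← hy, ← Finset.sum_add_distrib]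
      refine Finset.sum_congr rfl fun i _ => ?_
      rw [Pi.add_apply, add_smul]
  have hsymm : ∀ (b' : B') (p : P), e.symm (b' • p) = b' • e.symm p := by
    intro b' p
    apply e.injective
    rw [hsmul, e.apply_symm_apply, e.apply_symm_apply]
  refine ⟨{ toFun := fun p => ι₀ (e.symm p)
            map_add' := fun p q => by rw [map_add, map_add]
            map_smul' := fun b' p => by
              show ι₀ (e.symm (b' • p)) = b' • ι₀ (e.symm p)
              rw [hsymm, map_smul] }, ?_, ?_⟩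
  · intro p
    show ∑ i, ι₀ (e.symm p) i • inl (w i) = p
    rw [hz, e.apply_symm_apply]
  · intro a k
    show ι₀ (e.symm (inl a)) k = _
    rw [← he2, e.symm_apply_apply, hι₀, one_mul]

end alg

theorem exists_retract_of_isPushout {R A' B' P : CommRingCat.{u}} (f : R ⟶ A') (g : R ⟶ B')
    (inl : A' ⟶ P) (inr : B' ⟶ P) (h : IsPushout f g inl inr) (n : ℕ) (w : Fin n → A')
    (ι : letI := f.hom.toAlgebra; A' →ₗ[R] (Fin n → R))
    (hι : letI := f.hom.toAlgebra; ∀ a, ∑ i, ι a i • w i = a) :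
    letI := inr.hom.toAlgebra
    ∃ ι' : P →ₗ[B'] (Fin n → B'), (∀ p, ∑ i, ι' p i • inl.hom (w i) = p) ∧
      (∀ a k, ι' (inl.hom a) k = g.hom (ι a k)) := by
  letI algRA : Algebra R A' := f.hom.toAlgebra
  letI algRB : Algebra R B' := g.hom.toAlgebra
  have h' : IsPushout (CommRingCat.ofHom (algebraMap R B')) (CommRingCat.ofHom (algebraMap R A'))
      inr inl := h.flip
  let iso := (CommRingCat.isPushout_tensorProduct R B' A').isoIsPushout _ _ h'
  let e : (B' ⊗[R] A') ≃+* P := iso.commRingCatIsoToRingEquiv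
  have he1 : ∀ b' : B', e (b' ⊗ₜ[R] (1 : A')) = inr.hom b' := by
    intro b'
    have h2 : CommRingCat.ofHom (S := B' ⊗[R] A') Algebra.TensorProduct.includeLeftRingHom ≫
        iso.hom = inr :=
      (CommRingCat.isPushout_tensorProduct R B' A').inl_isoIsPushout_hom _ _ h'
    exact congrArg (fun φ => φ.hom b') h2
  have he2 : ∀ a : A', e ((1 : B') ⊗ₜ[R] a) = inl.hom a := by
    intro a
    have h2 : CommRingCat.ofHom (S := B' ⊗[R] A')
        Algebra.TensorProduct.includeRight.toRingHom ≫ iso.hom = inl :=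
      (CommRingCat.isPushout_tensorProduct R B' A').inr_isoIsPushout_hom _ _ h'
    exact congrArg (fun φ => φ.hom a) h2
  exact exists_retract_tensor inl.hom inr.hom e he1 he2 n w ι hι

theorem main1879 (S : Scheme.{u}) (G : Grpd.GroupoidScheme S) [IsAffine G.U] [IsAffine G.R]
    [IsFinite G.s] [Flat G.s] [LocallyOfFinitePresentation G.s] :
    Algebra.IsIntegral G.invariants Γ(G.U, ⊤) := by
  classical
  letI algAB : Algebra Γ(G.U, ⊤) Γ(G.R, ⊤) := G.s.appTop.hom.toAlgebra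
  haveI hfp : Algebra.FinitePresentation Γ(G.U, ⊤) Γ(G.R, ⊤) :=
    (HasRingHomProperty.iff_of_isAffine (P := @LocallyOfFinitePresentation)).mp inferInstance
  haveI hflat : Module.Flat Γ(G.U, ⊤) Γ(G.R, ⊤) :=
    (HasRingHomProperty.iff_of_isAffine (P := @Flat)).mp inferInstance
  haveI hfin : Module.Finite Γ(G.U, ⊤) Γ(G.R, ⊤) := Scheme.Hom.finite_appTop G.s
  haveI : Module.FinitePresentation Γ(G.U, ⊤) Γ(G.R, ⊤) :=
    Module.FinitePresentation.of_finite_of_finitePresentation _ _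
  haveI : Module.Projective Γ(G.U, ⊤) Γ(G.R, ⊤) := Module.Flat.projective_of_finitePresentation
  obtain ⟨n, π, hπ⟩ := Module.Finite.exists_fin' Γ(G.U, ⊤) Γ(G.R, ⊤)
  obtain ⟨ι, hι⟩ := Module.projective_lifting_property π LinearMap.id hπ
  obtain ⟨w, hw⟩ : ∃ w : Fin n → Γ(G.R, ⊤), ∀ a, ∑ i, ι a i • w i = a := by
    refine ⟨fun i => π (fun j => if i = j then 1 else 0), fun a => ?_⟩
    have h1 := LinearMap.pi_apply_eq_sum_univ π (ι a)
    have h2 : π (ι a) = a := LinearMap.congr_fun hι a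
    rw [← h1, h2]
  have hpo1 : IsPushout G.s.appTop G.t.appTop (pullback.fst G.s G.t).appTop
      (pullback.snd G.s G.t).appTop :=
    isPushout_appTop_of_isPullback (IsPullback.of_hasPullback G.s G.t)
  have hpo2 : IsPushout G.s.appTop G.s.appTop G.c.appTop (pullback.snd G.s G.t).appTop :=
    isPushout_appTop_of_isPullback (isPullback_c G)
  obtain ⟨ιt, hιt1, hιt2⟩ :=
    exists_retract_of_isPushout G.s.appTop G.t.appTop _ _ hpo1 n w ι hw
  obtain ⟨ιs, hιs1, hιs2⟩ :=
    exists_retract_of_isPushout G.s.appTop G.s.appTop _ _ hpo2 n w ι hw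
  letI algBP : Algebra Γ(G.R, ⊤) Γ(pullback G.s G.t, ⊤) :=
    (pullback.snd G.s G.t).appTop.hom.toAlgebra
  refine ⟨fun a => ?_⟩
  obtain ⟨Φ, hΦ⟩ : ∃ Φ : Matrix (Fin n) (Fin n) Γ(G.U, ⊤),
      Φ = Matrix.of fun k i => ι (G.t.appTop.hom a * w i) k := ⟨_, rfl⟩
  have hCH : Polynomial.aeval (G.t.appTop.hom a) Φ.charpoly = 0 := by
    rw [hΦ]; exact aeval_charpoly_eq_zero n w ι hw _
  have hinv : Φ.charpoly.map G.s.appTop.hom = Φ.charpoly.map G.t.appTop.hom := by
    rw [← Matrix.charpoly_map, ← Matrix.charpoly_map]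
    have e1 : Φ.map G.s.appTop.hom = Matrix.of fun k i =>
        ιs (G.c.appTop.hom (G.t.appTop.hom a) * G.c.appTop.hom (w i)) k := by
      ext k i
      rw [hΦ]
      show G.s.appTop.hom (ι (G.t.appTop.hom a * w i) k) =
        ιs (G.c.appTop.hom (G.t.appTop.hom a) * G.c.appTop.hom (w i)) k
      rw [← map_mul, hιs2]
    have e2 : Φ.map G.t.appTop.hom = Matrix.of fun k i =>
        ιt (G.c.appTop.hom (G.t.appTop.hom a) * (pullback.fst G.s G.t).appTop.hom (w i)) k := by
      ext k i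
      rw [hΦ]
      show G.t.appTop.hom (ι (G.t.appTop.hom a * w i) k) =
        ιt (G.c.appTop.hom (G.t.appTop.hom a) * (pullback.fst G.s G.t).appTop.hom (w i)) k
      rw [appTop_sq G.c G.t _ G.t (c_t G) a, ← map_mul, hιt2]
    rw [e1, e2]
    exact charpoly_indep n _ _ ιs ιt hιs1 hιt1 _
  have hcoef : (↑Φ.charpoly.coeffs : Set Γ(G.U, ⊤)) ⊆ ↑G.invariants := by
    intro x hx
    obtain ⟨k, -, rfl⟩ := Polynomial.mem_coeffs_iff.mp hx
    show G.s.appTop.hom (Φ.charpoly.coeff k) = G.t.appTop.hom (Φ.charpoly.coeff k)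
    have h3 := congrArg (fun p => Polynomial.coeff p k) hinv
    simpa [Polynomial.coeff_map] using h3
  have heval : Polynomial.eval a Φ.charpoly = 0 := by
    have h4 : G.e.appTop.hom (Polynomial.eval₂ G.s.appTop.hom (G.t.appTop.hom a) Φ.charpoly)
        = 0 := by
      have h5 : Polynomial.eval₂ G.s.appTop.hom (G.t.appTop.hom a) Φ.charpoly = 0 := hCH
      rw [h5, map_zero]
    rw [Polynomial.hom_eval₂, appTop_id' G.e G.t G.e_t a] at h4
    have h6 : G.e.appTop.hom.comp G.s.appTop.hom = RingHom.id _ :=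
      RingHom.ext fun x => appTop_id' G.e G.s G.e_s x
    rw [h6] at h4
    exact h4
  refine ⟨Φ.charpoly.toSubring G.invariants hcoef,
    (Polynomial.monic_toSubring _ _ _).2 (Matrix.charpoly_monic Φ), ?_⟩
  have h7 : Polynomial.eval₂ G.invariants.subtype a (Φ.charpoly.toSubring G.invariants hcoef) =
      Polynomial.eval a Φ.charpoly := by
    rw [← Polynomial.eval_map, Polynomial.map_toSubring]
  exact h7.trans heval

end Groth.Agent.Lib.GrpdIntegralH4
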