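import Mathlib
import Groth.Agent.Lib.GrpdIntegral_helper4

/-!
# A norm for algebras presented as a retract of a finite free module (helper6)

`M` is an `R`-algebra with a retract presentation `(w, ι)`: `ι : M → R^n` linear and
`∑ i, ι a i • w i = a`.  For `g : M` we define `nrm g = det (1 + mat (g - 1))`, where `mat g` is
the matrix of `g ⊕ 0` on `R^n`.  This is the usual norm of the finite projective algebra `M`.
We prove it is multiplicative, independent of the presentation, a multiple of `g`, and that
`nrm g ∈ p` iff `g` lies in a prime of `M` over `p`.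
-/

set_option autoImplicit false
universe u

open Groth.Agent.Lib.GrpdIntegralH4

namespace Groth.Agent.Lib.GrpdNormH6

section

variable {R M : Type u} [CommRing R] [CommRing M] [Algebra R M] (n : ℕ)
    (w : Fin n → M) (ι : M →ₗ[R] (Fin n → R))

/-- The matrix of multiplication by `g` (extended by zero) through the retract presentation. -/
def mat (g : M) : Matrix (Fin n) (Fin n) R := Matrix.of fun k i => ι (g * w i) k

/-- The norm through a retract presentation. -/
def nrm (g : M) : R := (1 + mat n w ι (g - 1)).det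

variable {n w ι}

lemma mat_apply (g : M) (k i : Fin n) : mat n w ι g k i = ι (g * w i) k := rfl

lemma mat_add (g g' : M) : mat n w ι (g + g') = mat n w ι g + mat n w ι g' := by
  ext k i
  simp [mat_apply, add_mul]

lemma mat_sub (g g' : M) : mat n w ι (g - g') = mat n w ι g - mat n w ι g' := by
  ext k i
  simp [mat_apply, sub_mul]

lemma mat_smul (a : R) (g : M) : mat n w ι (a • g) = a • mat n w ι g := by
  ext k i
  simp [mat_apply, smul_mul_assoc]

variable (h : ∀ a, ∑ i, ι a i • w i = a)
include h

lemma mat_mulVec (g x : M) : (mat n w ι g).mulVec (ι x) = ι (g * x) := by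
  funext k
  show ∑ j, ι (g * w j) k * ι x j = ι (g * x) k
  refine (key_sum n ι (fun j => ι x j) (fun j => g * w j) k).trans ?_
  show ι (∑ j, ι x j • (g * w j)) k = ι (g * x) k
  rw [hsum n ι w h g x]

lemma mat_mul (g g' : M) : mat n w ι g * mat n w ι g' = mat n w ι (g * g') := by
  ext k i
  rw [Matrix.mul_apply]
  have := congrFun (mat_mulVec h g (g' * w i)) k
  rw [mat_apply, mul_assoc, ← this]
  rfl

lemma mat_one_mul (g : M) : mat n w ι 1 * mat n w ι g = mat n w ι g := by
  rw [mat_mul h, one_mul]

lemma mat_mul_one (g : M) : mat n w ι g * mat n w ι 1 = mat n w ι g := by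
  rw [mat_mul h, mul_one]

lemma one_add_mat_sub_one (g : M) :
    1 + mat n w ι (g - 1) = 1 - mat n w ι 1 + mat n w ι g := by
  rw [mat_sub]; abel

lemma nrm_mul (g g' : M) : nrm n w ι (g * g') = nrm n w ι g * nrm n w ι g' := by
  unfold nrm
  rw [← Matrix.det_mul, one_add_mat_sub_one h, one_add_mat_sub_one h, one_add_mat_sub_one h]
  congr 1
  have e1 := mat_mul h 1 1
  rw [one_mul] at e1
  have e2 := mat_one_mul h g'
  have e3 := mat_mul_one h g
  have e4 := mat_mul h g g'
  -- expand the product
  calc (1 : Matrix (Fin n) (Fin n) R) - mat n w ι 1 + mat n w ι (g * g')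
      = 1 - mat n w ι 1 - mat n w ι 1 + mat n w ι 1 * mat n w ι 1
          + (mat n w ι g' - mat n w ι 1 * mat n w ι g')
          + (mat n w ι g - mat n w ι g * mat n w ι 1) + mat n w ι g * mat n w ι g' := by
        rw [e1, e2, e3, e4]; abel
    _ = (1 - mat n w ι 1 + mat n w ι g) * (1 - mat n w ι 1 + mat n w ι g') := by
        noncomm_ring

omit h in
lemma nrm_one : nrm n w ι (1 : M) = 1 := by
  unfold nrm
  rw [sub_self]
  have : mat n w ι (0 : M) = 0 := by ext k i; simp [mat_apply]
  rw [this, add_zero, Matrix.det_one]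

omit h in
lemma nrm_eq_eval_charpoly (g : M) :
    nrm n w ι g = (-1) ^ n * (mat n w ι (g - 1)).charpoly.eval (-1) := by
  unfold nrm
  rw [Matrix.eval_charpoly]
  have : (Matrix.scalar (Fin n) (-1 : R) - mat n w ι (g - 1)) =
      -(1 + mat n w ι (g - 1)) := by
    ext k i
    by_cases hki : k = i
    · subst hki; simp [Matrix.scalar_apply]; ring
    · simp [Matrix.scalar_apply, hki]
  rw [this, Matrix.det_neg, Fintype.card_fin, ← mul_assoc, ← mul_pow]
  simp

omit h in
/-- The norm does not depend on the retract presentation. -/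
lemma nrm_indep (w₂ : Fin n → M) (ι₂ : M →ₗ[R] (Fin n → R))
    (h₁ : ∀ a, ∑ i, ι a i • w i = a) (h₂ : ∀ a, ∑ i, ι₂ a i • w₂ i = a) (g : M) :
    nrm n w ι g = nrm n w₂ ι₂ g := by
  rw [nrm_eq_eval_charpoly, nrm_eq_eval_charpoly]
  congr 2
  exact charpoly_indep n w w₂ ι ι₂ h₁ h₂ (g - 1)

/-- The norm of `g` is a multiple of `g`. -/
lemma exists_mul_eq_nrm (g : M) : ∃ b' : M, g * b' = algebraMap R M (nrm n w ι g) := by
  have hCH := aeval_charpoly_eq_zero n w ι h (g - 1)
  obtain ⟨χ, hχ⟩ : ∃ χ : Polynomial R, χ = (mat n w ι (g - 1)).charpoly := ⟨_, rfl⟩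
  have hCH' : Polynomial.aeval (g - 1) χ = 0 := by rw [hχ]; exact hCH
  obtain ⟨q, hq⟩ := Polynomial.X_sub_C_dvd_sub_C_eval (a := (-1 : R)) (p := χ)
  have h1 : χ = Polynomial.C (χ.eval (-1)) + (Polynomial.X - Polynomial.C (-1)) * q := by
    rw [← hq]; ring
  have h2 : Polynomial.aeval (g - 1) χ =
      algebraMap R M (χ.eval (-1)) + g * Polynomial.aeval (g - 1) q := by
    conv_lhs => rw [h1]
    simp only [map_add, map_mul, map_sub, Polynomial.aeval_C, Polynomial.aeval_X, map_neg,
      map_one]
    ring
  rw [hCH'] at h2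
  refine ⟨(-1) ^ (n + 1) • Polynomial.aeval (g - 1) q, ?_⟩
  rw [nrm_eq_eval_charpoly, ← hχ, map_mul, map_pow, map_neg, map_one]
  have h3 : algebraMap R M (χ.eval (-1)) = -(g * Polynomial.aeval (g - 1) q) := by
    rw [eq_neg_iff_add_eq_zero]; exact h2.symm
  rw [h3]
  simp only [pow_succ, Units.smul_def]
  rcases Nat.even_or_odd n with hn | hn
  · simp [hn.neg_one_pow]
  · simp [hn.neg_one_pow]

lemma nrm_smul_one_dvd (a : R) : nrm n w ι (a • (1 : M)) ∣ a ^ n := by
  -- (1 - E + aE)(a(1-E) + E) = a
  have e1 := mat_mul h 1 1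
  rw [one_mul] at e1
  have key : (1 - mat n w ι 1 + mat n w ι (a • (1 : M))) *
      (a • (1 - mat n w ι 1) + mat n w ι 1) = a • (1 : Matrix (Fin n) (Fin n) R) := by
    rw [mat_smul]
    have hE : mat n w ι 1 * mat n w ι 1 = mat n w ι (1 : M) := e1
    calc (1 - mat n w ι 1 + a • mat n w ι 1) * (a • (1 - mat n w ι 1) + mat n w ι 1)
        = a • (1 - mat n w ι 1 - mat n w ι 1 + mat n w ι 1 * mat n w ι 1)
            + (mat n w ι 1 - mat n w ι 1 * mat n w ι 1)
            + (a * a) • (mat n w ι 1 - mat n w ι 1 * mat n w ι 1)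
            + a • (mat n w ι 1 * mat n w ι 1) := by
          simp only [smul_sub, smul_add, mul_add, add_mul, sub_mul, mul_sub, Matrix.smul_mul,
            Matrix.mul_smul, one_mul, mul_one, smul_smul]
          abel
      _ = a • (1 : Matrix (Fin n) (Fin n) R) := by
          rw [hE]; simp only [sub_self, smul_zero, add_zero]
          rw [← smul_add]
          congr 1
          abel
  have hdet := congrArg Matrix.det key
  rw [Matrix.det_mul, Matrix.det_smul, Matrix.det_one, mul_one, Fintype.card_fin] at hdet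
  unfold nrm
  rw [one_add_mat_sub_one h]
  exact ⟨_, hdet.symm⟩

/-- entries of `mat m` lie in `p` when `m ∈ p M`. -/
lemma mat_mem_of_mem_map (p : Ideal R) {m : M} (hm : m ∈ p.map (algebraMap R M)) (k i : Fin n) :
    mat n w ι m k i ∈ p := by
  revert k i
  unfold Ideal.map at hm
  induction hm using Submodule.span_induction with
  | mem x hx =>
    obtain ⟨a, ha, rfl⟩ := hx
    intro k i
    rw [Algebra.algebraMap_eq_smul_one, mat_smul]
    exact p.mul_mem_right _ ha
  | zero =>
    intro k i
    have : mat n w ι (0 : M) = 0 := by ext k i; simp [mat_apply]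
    rw [this]; exact p.zero_mem
  | add x y _ _ hx hy =>
    intro k i
    rw [mat_add]; exact p.add_mem (hx k i) (hy k i)
  | smul y x _ hx =>
    intro k i
    rw [smul_eq_mul, ← mat_mul h, Matrix.mul_apply]
    exact p.sum_mem fun j _ => p.mul_mem_left _ (hx j i)

/-- The norm detects the primes over `p` containing `g`. -/
lemma nrm_mem_iff (p : Ideal R) [hp : p.IsPrime] (g : M) :
    nrm n w ι g ∈ p ↔
      ∃ q : Ideal M, q.IsPrime ∧ q.comap (algebraMap R M) = p ∧ g ∈ q := by
  constructor
  · intro hg
    by_contra hno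
    push Not at hno
    let J : Ideal M := Ideal.span {g} ⊔ p.map (algebraMap R M)
    let T : Submonoid M := p.primeCompl.map (algebraMap R M)
    by_cases hd : Disjoint (J : Set M) (T : Set M)
    · obtain ⟨q, hq, hJq, hqT⟩ := Ideal.exists_le_prime_disjoint J T hd
      have hgq : g ∈ q := hJq (Ideal.mem_sup_left (Ideal.mem_span_singleton_self g))
      have hpq : p.map (algebraMap R M) ≤ q := le_trans le_sup_right hJq
      refine hno q hq ?_ hgq
      apply le_antisymm
      · intro a ha
        by_contra hap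
        exact (Set.disjoint_left.mp hqT) ha ⟨a, hap, rfl⟩
      · exact Ideal.map_le_iff_le_comap.mp hpq
    · rw [Set.not_disjoint_iff] at hd
      obtain ⟨y, hyJ, hyT⟩ := hd
      obtain ⟨a, hap, rfl⟩ := hyT
      obtain ⟨z, hz, m, hm, hzm⟩ := Submodule.mem_sup.mp hyJ
      obtain ⟨c, rfl⟩ := Ideal.mem_span_singleton'.mp hz
      -- `nrm (a • 1) ≡ nrm (c * g)` mod `p`
      have hentries : ∀ k i, (1 + mat n w ι (a • (1 : M) - 1)) k i -
          (1 + mat n w ι (c * g - 1)) k i ∈ p := by
        intro k i
        have e : (1 + mat n w ι (a • (1 : M) - 1)) - (1 + mat n w ι (c * g - 1)) =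
            mat n w ι m := by
          rw [add_sub_add_left_eq_sub, ← mat_sub]
          congr 1
          rw [← Algebra.algebraMap_eq_smul_one, ← hzm]; ring
        have := congrFun (congrFun e k) i
        rw [Matrix.sub_apply] at this
        rw [this]
        exact mat_mem_of_mem_map h p hm k i
      have hdet : Ideal.Quotient.mk p (nrm n w ι (a • (1 : M))) =
          Ideal.Quotient.mk p (nrm n w ι (c * g)) := by
        unfold nrm
        rw [RingHom.map_det, RingHom.map_det]
        congr 1
        ext k i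
        simp only [RingHom.mapMatrix_apply, Matrix.map_apply]
        exact Ideal.Quotient.eq.mpr (hentries k i)
      have h1 : nrm n w ι (c * g) ∈ p := by
        rw [nrm_mul h]; exact p.mul_mem_left _ hg
      have h2 : nrm n w ι (a • (1 : M)) ∈ p := by
        rw [← Ideal.Quotient.eq_zero_iff_mem, hdet, Ideal.Quotient.eq_zero_iff_mem]
        exact h1
      have h3 : a ^ n ∈ p := by
        obtain ⟨d, hd⟩ := nrm_smul_one_dvd h a
        rw [hd]; exact p.mul_mem_right _ h2
      exact hap (hp.mem_of_pow_mem n h3)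
  · rintro ⟨q, hq, hqp, hg⟩
    obtain ⟨b', hb'⟩ := exists_mul_eq_nrm h g
    rw [← hqp, Ideal.mem_comap, ← hb']
    exact q.mul_mem_right _ hg

end

end Groth.Agent.Lib.GrpdNormH6
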