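import Mathlib
import Groth.Agent.Lib.GrpdNorm1_helper6

/-!
# Norms along finite locally free morphisms and basic opens (helper6)

For `φ : R ⟶ U` finite locally free, `W₁ ⊆ U` affine open and `F ∈ Γ(R, φ⁻¹ W₁)` there is
`g ∈ Γ(U, W₁)` (the norm of `F`) with `D(g) = {x ∈ W₁ | φ⁻¹(x) ⊆ D(F)}`.
-/

set_option autoImplicit false
set_option linter.style.haveILetI false
universe u

open CategoryTheory AlgebraicGeometry TopologicalSpace
open Groth.Agent.Lib.GrpdNormH6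

namespace Groth.Agent.Lib.GrpdInvOpenH6

theorem exists_presentation_of_finite_projective {R M : Type u} [CommRing R] [CommRing M]
    [Algebra R M] [Module.Finite R M] [Module.Projective R M] :
    ∃ (n : ℕ) (w : Fin n → M) (ι : M →ₗ[R] (Fin n → R)), ∀ a, ∑ i, ι a i • w i = a := by
  classical
  obtain ⟨n, π, hπ⟩ := Module.Finite.exists_fin' R M
  obtain ⟨ι, hι⟩ := Module.projective_lifting_property π LinearMap.id hπ
  refine ⟨n, fun i => π (fun j => if i = j then 1 else 0), ι, fun a => ?_⟩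
  have h1 := LinearMap.pi_apply_eq_sum_univ π (ι a)
  have h2 : π (ι a) = a := LinearMap.congr_fun hι a
  rw [← h1, h2]

theorem exists_norm_basicOpen {R U : Scheme.{u}} (φ : R ⟶ U) [IsFinite φ] [Flat φ]
    [LocallyOfFinitePresentation φ] {W₁ : U.Opens} (hW₁ : IsAffineOpen W₁)
    (F : Γ(R, φ ⁻¹ᵁ W₁)) :
    ∃ g : Γ(U, W₁), ∀ x ∈ W₁, x ∈ U.basicOpen g ↔ ∀ r : R, φ r = x → r ∈ R.basicOpen F := by
  classical
  have hRW : IsAffineOpen (φ ⁻¹ᵁ W₁) := hW₁.preimage φ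
  letI alg : Algebra Γ(U, W₁) Γ(R, φ ⁻¹ᵁ W₁) := (φ.app W₁).hom.toAlgebra
  haveI hfin : Module.Finite Γ(U, W₁) Γ(R, φ ⁻¹ᵁ W₁) := IsFinite.finite_app φ W₁ hW₁
  have happ : φ.app W₁ = φ.appLE W₁ (φ ⁻¹ᵁ W₁) le_rfl := Scheme.Hom.app_eq_appLE _
  haveI hflat : Module.Flat Γ(U, W₁) Γ(R, φ ⁻¹ᵁ W₁) := by
    have := HasRingHomProperty.appLE (P := @Flat) φ inferInstance ⟨W₁, hW₁⟩ ⟨_, hRW⟩ le_rfl
    rw [← happ] at this
    exact this
  haveI hfp : Algebra.FinitePresentation Γ(U, W₁) Γ(R, φ ⁻¹ᵁ W₁) := by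
    have := HasRingHomProperty.appLE (P := @LocallyOfFinitePresentation) φ inferInstance
      ⟨W₁, hW₁⟩ ⟨_, hRW⟩ le_rfl
    rw [← happ] at this
    exact this
  haveI : Module.FinitePresentation Γ(U, W₁) Γ(R, φ ⁻¹ᵁ W₁) :=
    Module.FinitePresentation.of_finite_of_finitePresentation _ _
  haveI hproj : Module.Projective Γ(U, W₁) Γ(R, φ ⁻¹ᵁ W₁) :=
    Module.Flat.projective_of_finitePresentation
  obtain ⟨n, w, ι, hw⟩ := exists_presentation_of_finite_projective (R := Γ(U, W₁))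
    (M := Γ(R, φ ⁻¹ᵁ W₁))
  refine ⟨nrm n w ι F, fun x hx => ?_⟩
  -- the prime of `x`
  obtain ⟨p, hp⟩ : ∃ p : PrimeSpectrum Γ(U, W₁), p = hW₁.primeIdealOf ⟨x, hx⟩ := ⟨_, rfl⟩
  have hpx : hW₁.fromSpec p = x := by rw [hp]; exact hW₁.fromSpec_primeIdealOf ⟨x, hx⟩
  have hmem : x ∈ U.basicOpen (nrm n w ι F) ↔ nrm n w ι F ∉ p.asIdeal := by
    rw [← hpx]
    show p ∈ hW₁.fromSpec ⁻¹ᵁ U.basicOpen (nrm n w ι F) ↔ _
    rw [hW₁.fromSpec_preimage_basicOpen]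
    rfl
  rw [hmem]
  haveI := p.2
  rw [nrm_mem_iff hw p.asIdeal F]
  constructor
  · intro hno r hr
    have hrW : r ∈ φ ⁻¹ᵁ W₁ := by show φ r ∈ W₁; rw [hr]; exact hx
    obtain ⟨q, hq⟩ : ∃ q : PrimeSpectrum Γ(R, φ ⁻¹ᵁ W₁), q = hRW.primeIdealOf ⟨r, hrW⟩ :=
      ⟨_, rfl⟩
    have hqr : hRW.fromSpec q = r := by rw [hq]; exact hRW.fromSpec_primeIdealOf ⟨r, hrW⟩
    have hcomap : q.asIdeal.comap (algebraMap Γ(U, W₁) Γ(R, φ ⁻¹ᵁ W₁)) = p.asIdeal := by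
      have h1 := IsAffineOpen.comap_primeIdealOf_appLE (f := φ) W₁ hW₁ (φ ⁻¹ᵁ W₁) hRW le_rfl hrW
      rw [← hq] at h1
      have h2 : hW₁.primeIdealOf ⟨φ r, le_rfl (a := φ ⁻¹ᵁ W₁) hrW⟩ = p := by
        rw [hp]; congr 1; exact Subtype.ext hr
      rw [h2] at h1
      have h3 := congrArg PrimeSpectrum.asIdeal h1
      rw [← h3]
      show Ideal.comap (φ.app W₁).hom q.asIdeal = _
      rw [happ]
      rfl
    by_contra hrF
    apply hno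
    refine ⟨q.asIdeal, q.2, hcomap, ?_⟩
    by_contra hFq
    apply hrF
    rw [← hqr]
    show q ∈ hRW.fromSpec ⁻¹ᵁ R.basicOpen F
    rw [hRW.fromSpec_preimage_basicOpen]
    exact hFq
  · rintro hall ⟨q, hq, hqp, hFq⟩
    obtain ⟨r, hr⟩ : ∃ r : R, r = hRW.fromSpec (⟨q, hq⟩ : PrimeSpectrum Γ(R, φ ⁻¹ᵁ W₁)) :=
      ⟨_, rfl⟩
    have hφr : φ r = x := by
      have h1 := IsAffineOpen.SpecMap_appLE_fromSpec φ hW₁ hRW le_rfl
      have h2 := congrArg (fun ψ : Spec Γ(R, φ ⁻¹ᵁ W₁) ⟶ U =>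
        ψ (⟨q, hq⟩ : PrimeSpectrum Γ(R, φ ⁻¹ᵁ W₁))) h1
      simp only [Scheme.Hom.comp_apply] at h2
      rw [hr, ← h2, ← hpx]
      congr 1
      apply PrimeSpectrum.ext
      show Ideal.comap (φ.appLE W₁ (φ ⁻¹ᵁ W₁) le_rfl).hom q = p.asIdeal
      rw [← happ]
      exact hqp
    have h3 := hall r hφr
    rw [hr] at h3
    have h4 : (⟨q, hq⟩ : PrimeSpectrum Γ(R, φ ⁻¹ᵁ W₁)) ∈ hRW.fromSpec ⁻¹ᵁ R.basicOpen F := h3
    rw [hRW.fromSpec_preimage_basicOpen] at h4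
    exact h4 hFq

end Groth.Agent.Lib.GrpdInvOpenH6
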