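import Mathlib
import Groth.Prelude.Def_Grpd
import Groth.Agent.Lib.FitStrat6_helper7
import Groth.Agent.Lib.GrpdAffBasic1_helper7
import Groth.Agent.Lib.GrpdInvOpen3_helper6

/-!
# Invariant affine basic opens for finite groupoid schemes (helper7)

`main1885`: for a groupoid scheme with `s, t` finite and locally of finite presentation, an
immersion `j : U ⟶ Spec A` and an ideal `I` with `j(U) ∩ V(I) = ∅`, `V(I) ∪ j(U)` closed, and
finitely many points whose orbits consist of maximal points, there is `h ∈ I` with `j⁻¹ D(h)` an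
invariant affine open containing the points.
-/

set_option backward.isDefEq.respectTransparency false
set_option backward.isDefEq.respectTransparency.types false
set_option linter.style.haveILetI false
set_option linter.unusedSectionVars false
set_option linter.unusedVariables false
set_option autoImplicit false
set_option maxHeartbeats 1600000

universe u

open CategoryTheory CategoryTheory.Limits AlgebraicGeometry TopologicalSpace

namespace Groth.Agent.Lib.GrpdAffBasicH7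

open Groth.Agent.Lib.GrpdInvOpenH6 Groth.Agent.Lib.FitStratH7

variable {S : Scheme.{u}} (G : Grpd.GroupoidScheme S) [IsFinite G.s]

theorem range_invι : Set.range (invι G) = (invW G : Set G.U) := by
  ext x
  constructor
  · rintro ⟨z, rfl⟩
    exact invι_mem G z
  · intro hx
    have h1 : (⟨x, hx⟩ : (invW G).toScheme) ∈ (invW' G).support := by
      rw [support_invW' G]; trivial
    have h2 : (⟨x, hx⟩ : (invW G).toScheme) ∈ Set.range (invW' G).subschemeι := by
      rw [(invW' G).range_subschemeι]; exact h1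
    obtain ⟨z, hz⟩ := h2
    refine ⟨z, ?_⟩
    show (invW G).ι ((invW' G).subschemeι z) = x
    rw [hz]
    rfl

instance isImmersion_invι : IsImmersion (invι G) := by
  unfold invι
  infer_instance

variable [LocallyOfFinitePresentation G.s]

/-- On an affine open `U₀ = D(k₀) ⊆ invW` cut out by a global function, the largest invariant
subset of `U₀` is a basic open of `U₀`. -/
theorem exists_section_basicOpen_eq_orbIn (U₀ : G.U.Opens) (k₀ : Γ(G.U, ⊤))
    (hk : U₀ = G.U.basicOpen k₀) (haff : IsAffineOpen U₀) (hW : U₀ ≤ invW G) :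
    ∃ g : Γ(G.U, U₀), (G.U.basicOpen g : Set G.U) = orbIn G (U₀ : Set G.U) := by
  classical
  obtain ⟨ι', hι'⟩ : ∃ ι' : (invW' G).subscheme ⟶ G.U, ι' = invι G := ⟨_, rfl⟩
  haveI : IsImmersion ι' := by rw [hι']; infer_instance
  have hrange : Set.range ι' = (invW G : Set G.U) := by rw [hι']; exact range_invι G
  have hU₀range : (U₀ : Set G.U) ⊆ Set.range ι' := by
    rw [hrange]; exact hW
  haveI hci : IsClosedImmersion (ι' ∣_ U₀) := isClosedImmersion_restrict_of_le_range ι' U₀ hU₀range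
  have haff' : IsAffineOpen (ι' ⁻¹ᵁ U₀) := by
    haveI : IsAffine U₀.toScheme := haff
    exact (IsClosedImmersion.isAffine_surjective_of_isAffine (ι' ∣_ U₀)).1
  have hsurj : Function.Surjective (ι'.app U₀).hom :=
    surjective_app_of_isClosedImmersion_restrict ι' U₀ haff
  -- the finite locally free source map over the thickening
  obtain ⟨hfin, hflat, hlfp⟩ : Mor2.IsFinLocFree (pullback.snd G.s ι') := by
    rw [hι']; exact isFinLocFree_snd_s G
  haveI := hfin
  haveI := hflat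
  haveI := hlfp
  obtain ⟨s', hs'⟩ : ∃ s' : pullback G.s ι' ⟶ (invW' G).subscheme, s' = pullback.snd G.s ι' :=
    ⟨_, rfl⟩
  haveI : IsFinite s' := by rw [hs']; infer_instance
  haveI : Flat s' := by rw [hs']; infer_instance
  haveI : LocallyOfFinitePresentation s' := by rw [hs']; infer_instance
  obtain ⟨τ, hτ⟩ : ∃ τ : pullback G.s ι' ⟶ G.U, τ = pullback.fst G.s ι' ≫ G.t := ⟨_, rfl⟩
  obtain ⟨F₀, hF₀⟩ : ∃ F₀ : Γ(pullback G.s ι', ⊤), F₀ = τ.appTop.hom k₀ := ⟨_, rfl⟩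
  obtain ⟨F, hF⟩ : ∃ F : Γ(pullback G.s ι', s' ⁻¹ᵁ (ι' ⁻¹ᵁ U₀)),
      F = ((pullback G.s ι').presheaf.map (homOfLE le_top).op).hom F₀ := ⟨_, rfl⟩
  have hFopen : (pullback G.s ι').basicOpen F = s' ⁻¹ᵁ (ι' ⁻¹ᵁ U₀) ⊓ τ ⁻¹ᵁ U₀ := by
    rw [hF, Scheme.basicOpen_res, hF₀, ← Scheme.preimage_basicOpen_top, ← hk]
  obtain ⟨g', hg'⟩ := exists_norm_basicOpen s' haff' F
  obtain ⟨g, hg⟩ := hsurj g'
  refine ⟨g, ?_⟩
  have hpre : ι' ⁻¹ᵁ (G.U.basicOpen g) = (invW' G).subscheme.basicOpen g' := by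
    rw [Scheme.preimage_basicOpen, hg]
  have hcond : ∀ r' : ↥(pullback G.s ι'), G.s (pullback.fst G.s ι' r') = ι' (s' r') := by
    intro r'
    rw [hs', ← Scheme.Hom.comp_apply, ← Scheme.Hom.comp_apply, pullback.condition]
  ext x
  constructor
  · intro hx
    have hxU₀ : x ∈ U₀ := G.U.basicOpen_le g hx
    obtain ⟨z, hz⟩ := hU₀range hxU₀
    have hzU₀ : z ∈ ι' ⁻¹ᵁ U₀ := by
      show ι' z ∈ U₀
      rw [hz]; exact hxU₀
    have hzg : z ∈ (invW' G).subscheme.basicOpen g' := by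
      rw [← hpre]
      show ι' z ∈ G.U.basicOpen g
      rw [hz]; exact hx
    have hall := (hg' z hzU₀).mp hzg
    intro r hr
    have hrz : G.s r = ι' z := by rw [hr, hz]
    obtain ⟨r', hr'1, hr'2⟩ :=
      Scheme.Pullback.exists_preimage_pullback (f := G.s) (g := ι') r z hrz
    have h1 : r' ∈ (pullback G.s ι').basicOpen F := hall r' (by rw [hs']; exact hr'2)
    rw [hFopen] at h1
    have h2 : τ r' ∈ U₀ := h1.2
    rw [hτ, Scheme.Hom.comp_apply, hr'1] at h2
    exact h2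
  · intro hx
    have hxU₀ : x ∈ U₀ := orbIn_subset G _ hx
    obtain ⟨z, hz⟩ := hU₀range hxU₀
    have hzU₀ : z ∈ ι' ⁻¹ᵁ U₀ := by
      show ι' z ∈ U₀
      rw [hz]; exact hxU₀
    have hzg : z ∈ (invW' G).subscheme.basicOpen g' := by
      refine (hg' z hzU₀).mpr fun r' hr' => ?_
      rw [hFopen]
      refine ⟨?_, ?_⟩
      · show s' r' ∈ ι' ⁻¹ᵁ U₀
        rw [hr']; exact hzU₀
      · show τ r' ∈ U₀
        rw [hτ, Scheme.Hom.comp_apply]
        apply hx
        rw [hcond r', hr', hz]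
    rw [← hpre] at hzg
    have h3 : ι' z ∈ G.U.basicOpen g := hzg
    rw [hz] at h3
    exact h3

theorem main1885 [IsFinite G.t] [LocallyOfFinitePresentation G.t] (m : ℕ) (u : Fin m → G.U)
    (hu : ∀ i (r : G.R), G.s r = u i → ∀ x : G.U, x ⤳ G.t r → x = G.t r)
    (A : Type u) [CommRing A] (j : G.U ⟶ Spec (CommRingCat.of A)) [IsImmersion j] (I : Ideal A)
    (hI : ∀ x : G.U, j x ∉ PrimeSpectrum.zeroLocus (I : Set A))
    (hcl : IsClosed (PrimeSpectrum.zeroLocus (I : Set A) ∪ Set.range j)) :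
    ∃ h ∈ I, IsAffineOpen (j ⁻¹ᵁ PrimeSpectrum.basicOpen h) ∧
      (∀ i, u i ∈ j ⁻¹ᵁ PrimeSpectrum.basicOpen h) ∧
      G.s ⁻¹ᵁ (j ⁻¹ᵁ PrimeSpectrum.basicOpen h) = G.t ⁻¹ᵁ (j ⁻¹ᵁ PrimeSpectrum.basicOpen h) := by
  classical
  -- the finite set of orbit points
  obtain ⟨E, hE⟩ : ∃ E : Set G.U, E = ⋃ i : Fin m, ⇑G.t '' (⇑G.s ⁻¹' {u i}) := ⟨_, rfl⟩
  have hEfin : E.Finite := by
    rw [hE]
    exact Set.finite_iUnion fun i => (G.s.finite_preimage_singleton (u i)).image _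
  have hEmem : ∀ i (r : G.R), G.s r = u i → G.t r ∈ E := by
    intro i r hr
    rw [hE]
    exact Set.mem_iUnion.mpr ⟨i, r, hr, rfl⟩
  have hEW : E ⊆ (invW G : Set G.U) := by
    rw [hE]
    intro x hx
    obtain ⟨i, r, hr, rfl⟩ := Set.mem_iUnion.mp hx
    have h1 : u i ∈ invW G := mem_invW_of_orbit_maximal G (u i) (hu i)
    have h2 : r ∈ G.s ⁻¹ᵁ invW G := by
      show G.s r ∈ invW G
      rw [hr]; exact h1
    rw [invW_invariant G] at h2
    exact h2
  obtain ⟨h₀, hh₀I, hle, hE₀⟩ :=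
    exists_mem_ideal_preimage_basicOpen_le j I hI (invW G) E hEfin hEW
  obtain ⟨V, hV⟩ : ∃ V : (Spec (CommRingCat.of A)).Opens, V = PrimeSpectrum.basicOpen h₀ :=
    ⟨_, rfl⟩
  have hVaff : IsAffineOpen V := by
    rw [hV]; exact IsAffineOpen.Spec_basicOpen (R := CommRingCat.of A) h₀
  haveI hci : IsClosedImmersion (j ∣_ V) := by
    rw [hV]; exact isClosedImmersion_restrict_basicOpen j I hcl h₀ hh₀I
  obtain ⟨U₀, hU₀⟩ : ∃ U₀ : G.U.Opens, U₀ = j ⁻¹ᵁ V := ⟨_, rfl⟩
  have haff : IsAffineOpen U₀ := by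
    rw [hU₀]
    haveI : IsAffine V.toScheme := hVaff
    exact (IsClosedImmersion.isAffine_surjective_of_isAffine (j ∣_ V)).1
  have hsurj : Function.Surjective (j.app V).hom :=
    surjective_app_of_isClosedImmersion_restrict j V hVaff
  obtain ⟨k₀, hk₀⟩ : ∃ k₀ : Γ(G.U, ⊤),
      k₀ = j.appTop.hom ((Scheme.ΓSpecIso (CommRingCat.of A)).inv.hom h₀) := ⟨_, rfl⟩
  have hk : U₀ = G.U.basicOpen k₀ := by
    rw [hU₀, hk₀, ← Scheme.preimage_basicOpen_top, basicOpen_eq_of_affine, hV]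
  have hU₀W : U₀ ≤ invW G := by
    rw [hU₀, hV]; exact hle
  have hEU₀ : E ⊆ (U₀ : Set G.U) := by
    rw [hU₀, hV]; exact hE₀
  subst hU₀
  obtain ⟨g, hg⟩ := exists_section_basicOpen_eq_orbIn G (j ⁻¹ᵁ V) k₀ hk haff hU₀W
  obtain ⟨b, hb⟩ := hsurj g
  subst hV
  obtain ⟨a, ha⟩ := exists_basicOpen_eq_preimage j h₀ b
  rw [hb] at ha
  refine ⟨h₀ * a, Ideal.mul_mem_right _ _ hh₀I, ?_, ?_, ?_⟩
  · rw [← ha]
    exact haff.basicOpen g
  · intro i
    rw [← ha]
    show u i ∈ (G.U.basicOpen g : Set G.U)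
    rw [hg]
    intro r hr
    exact hEU₀ (hEmem i r hr)
  · rw [← ha]
    apply Opens.ext
    show ⇑G.s ⁻¹' (G.U.basicOpen g : Set G.U) = ⇑G.t ⁻¹' (G.U.basicOpen g : Set G.U)
    rw [hg]
    exact preimage_orbIn G _

end Groth.Agent.Lib.GrpdAffBasicH7
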