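import Mathlib
import Groth.Prelude.Def_Grpd
import Groth.Agent.Lib.GrpdAffBasic2_helper7
import Groth.Agent.Lib.AffImm_helper4

/-!
# Generalisations of the invariant affine basic open lemma (helper7)

* `exists_section_basicOpen_eq_orbIn'`: norm construction for a basic open of an open `V₀`;
* `main1885_gen`: version of `main1885` for an arbitrary finite invariant subset of `invW`;
* `exists_section_separating`: separating two disjoint closed subsets of an affine open;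
* `isAffineOpen_of_basicOpen_of_isClosed`: intrinsic form of `AffImmH4.main1890`.
-/

set_option backward.isDefEq.respectTransparency false
set_option backward.isDefEq.respectTransparency.types false
set_option linter.style.haveILetI false
set_option linter.unusedSectionVars false
set_option linter.unusedVariables false
set_option autoImplicit false
set_option maxHeartbeats 1600000

universe u

open CategoryTheory CategoryTheory.Limits AlgebraicGeometry TopologicalSpace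

namespace Groth.Agent.Lib.GrpdAffBasicH7

open Groth.Agent.Lib.GrpdInvOpenH6 Groth.Agent.Lib.FitStratH7

section Groupoid

variable {S : Scheme.{u}} (G : Grpd.GroupoidScheme S) [IsFinite G.s]
  [LocallyOfFinitePresentation G.s]

theorem exists_section_basicOpen_eq_orbIn' (V₀ U₀ : G.U.Opens) (f : Γ(G.U, V₀))
    (hk : U₀ = G.U.basicOpen f) (haff : IsAffineOpen U₀) (hW : U₀ ≤ invW G)
    (horb : (U₀ : Set G.U) ⊆ orbIn G (V₀ : Set G.U)) :
    ∃ g : Γ(G.U, U₀), (G.U.basicOpen g : Set G.U) = orbIn G (U₀ : Set G.U) := by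
  classical
  obtain ⟨ι', hι'⟩ : ∃ ι' : (invW' G).subscheme ⟶ G.U, ι' = invι G := ⟨_, rfl⟩
  haveI : IsImmersion ι' := by rw [hι']; infer_instance
  have hrange : Set.range ι' = (invW G : Set G.U) := by rw [hι']; exact range_invι G
  have hU₀range : (U₀ : Set G.U) ⊆ Set.range ι' := by
    rw [hrange]; exact hW
  haveI hci : IsClosedImmersion (ι' ∣_ U₀) := isClosedImmersion_restrict_of_le_range ι' U₀ hU₀range
  have haff' : IsAffineOpen (ι' ⁻¹ᵁ U₀) := by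
    haveI : IsAffine U₀.toScheme := haff
    exact (IsClosedImmersion.isAffine_surjective_of_isAffine (ι' ∣_ U₀)).1
  have hsurj : Function.Surjective (ι'.app U₀).hom :=
    surjective_app_of_isClosedImmersion_restrict ι' U₀ haff
  obtain ⟨hfin, hflat, hlfp⟩ : Mor2.IsFinLocFree (pullback.snd G.s ι') := by
    rw [hι']; exact isFinLocFree_snd_s G
  haveI := hfin
  haveI := hflat
  haveI := hlfp
  obtain ⟨s', hs'⟩ : ∃ s' : pullback G.s ι' ⟶ (invW' G).subscheme, s' = pullback.snd G.s ι' :=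
    ⟨_, rfl⟩
  haveI : IsFinite s' := by rw [hs']; infer_instance
  haveI : Flat s' := by rw [hs']; infer_instance
  haveI : LocallyOfFinitePresentation s' := by rw [hs']; infer_instance
  obtain ⟨τ, hτ⟩ : ∃ τ : pullback G.s ι' ⟶ G.U, τ = pullback.fst G.s ι' ≫ G.t := ⟨_, rfl⟩
  have hcond : ∀ r' : ↥(pullback G.s ι'), G.s (pullback.fst G.s ι' r') = ι' (s' r') := by
    intro r'
    rw [hs', ← Scheme.Hom.comp_apply, ← Scheme.Hom.comp_apply, pullback.condition]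
  have hle : s' ⁻¹ᵁ (ι' ⁻¹ᵁ U₀) ≤ τ ⁻¹ᵁ V₀ := by
    intro r' hr'
    have h1 : ι' (s' r') ∈ U₀ := hr'
    have h2 := horb h1
    show τ r' ∈ V₀
    rw [hτ, Scheme.Hom.comp_apply]
    exact h2 _ (hcond r')
  obtain ⟨F, hF⟩ : ∃ F : Γ(pullback G.s ι', s' ⁻¹ᵁ (ι' ⁻¹ᵁ U₀)),
      F = (τ.appLE V₀ (s' ⁻¹ᵁ (ι' ⁻¹ᵁ U₀)) hle).hom f := ⟨_, rfl⟩
  have hFopen : (pullback G.s ι').basicOpen F = s' ⁻¹ᵁ (ι' ⁻¹ᵁ U₀) ⊓ τ ⁻¹ᵁ U₀ := by
    rw [hF, Scheme.Hom.appLE, CommRingCat.hom_comp, RingHom.comp_apply,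
      Scheme.basicOpen_res, ← Scheme.preimage_basicOpen, ← hk]
  obtain ⟨g', hg'⟩ := exists_norm_basicOpen s' haff' F
  obtain ⟨g, hg⟩ := hsurj g'
  refine ⟨g, ?_⟩
  have hpre : ι' ⁻¹ᵁ (G.U.basicOpen g) = (invW' G).subscheme.basicOpen g' := by
    rw [Scheme.preimage_basicOpen, hg]
  ext x
  constructor
  · intro hx
    have hxU₀ : x ∈ U₀ := G.U.basicOpen_le g hx
    obtain ⟨z, hz⟩ := hU₀range hxU₀
    have hzU₀ : z ∈ ι' ⁻¹ᵁ U₀ := by
      show ι' z ∈ U₀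
      rw [hz]; exact hxU₀
    have hzg : z ∈ (invW' G).subscheme.basicOpen g' := by
      rw [← hpre]
      show ι' z ∈ G.U.basicOpen g
      rw [hz]; exact hx
    have hall := (hg' z hzU₀).mp hzg
    intro r hr
    have hrz : G.s r = ι' z := by rw [hr, hz]
    obtain ⟨r', hr'1, hr'2⟩ :=
      Scheme.Pullback.exists_preimage_pullback (f := G.s) (g := ι') r z hrz
    have h1 : r' ∈ (pullback G.s ι').basicOpen F := hall r' (by rw [hs']; exact hr'2)
    rw [hFopen] at h1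
    have h2 : τ r' ∈ U₀ := h1.2
    rw [hτ, Scheme.Hom.comp_apply, hr'1] at h2
    exact h2
  · intro hx
    have hxU₀ : x ∈ U₀ := orbIn_subset G _ hx
    obtain ⟨z, hz⟩ := hU₀range hxU₀
    have hzU₀ : z ∈ ι' ⁻¹ᵁ U₀ := by
      show ι' z ∈ U₀
      rw [hz]; exact hxU₀
    have hzg : z ∈ (invW' G).subscheme.basicOpen g' := by
      refine (hg' z hzU₀).mpr fun r' hr' => ?_
      rw [hFopen]
      refine ⟨?_, ?_⟩
      · show s' r' ∈ ι' ⁻¹ᵁ U₀
        rw [hr']; exact hzU₀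
      · show τ r' ∈ U₀
        rw [hτ, Scheme.Hom.comp_apply]
        apply hx
        rw [hcond r', hr', hz]
    rw [← hpre] at hzg
    have h3 : ι' z ∈ G.U.basicOpen g := hzg
    rw [hz] at h3
    exact h3

theorem main1885_gen
    (A : Type u) [CommRing A] (j : G.U ⟶ Spec (CommRingCat.of A)) [IsImmersion j] (I : Ideal A)
    (hI : ∀ x : G.U, j x ∉ PrimeSpectrum.zeroLocus (I : Set A))
    (hcl : IsClosed (PrimeSpectrum.zeroLocus (I : Set A) ∪ Set.range j))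
    (E : Set G.U) (hEfin : E.Finite) (hEW : E ⊆ (invW G : Set G.U))
    (hEinv : ∀ x ∈ E, ∀ r : G.R, G.s r = x → G.t r ∈ E) :
    ∃ h ∈ I, IsAffineOpen (j ⁻¹ᵁ PrimeSpectrum.basicOpen h) ∧
      E ⊆ (j ⁻¹ᵁ PrimeSpectrum.basicOpen h : G.U.Opens) ∧
      G.s ⁻¹ᵁ (j ⁻¹ᵁ PrimeSpectrum.basicOpen h) = G.t ⁻¹ᵁ (j ⁻¹ᵁ PrimeSpectrum.basicOpen h) ∧
      (j ⁻¹ᵁ PrimeSpectrum.basicOpen h : G.U.Opens) ≤ invW G := by
  classical
  obtain ⟨h₀, hh₀I, hle, hE₀⟩ :=
    exists_mem_ideal_preimage_basicOpen_le j I hI (invW G) E hEfin hEW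
  obtain ⟨V, hV⟩ : ∃ V : (Spec (CommRingCat.of A)).Opens, V = PrimeSpectrum.basicOpen h₀ :=
    ⟨_, rfl⟩
  have hVaff : IsAffineOpen V := by
    rw [hV]; exact IsAffineOpen.Spec_basicOpen (R := CommRingCat.of A) h₀
  haveI hci : IsClosedImmersion (j ∣_ V) := by
    rw [hV]; exact isClosedImmersion_restrict_basicOpen j I hcl h₀ hh₀I
  obtain ⟨U₀, hU₀⟩ : ∃ U₀ : G.U.Opens, U₀ = j ⁻¹ᵁ V := ⟨_, rfl⟩
  have haff : IsAffineOpen U₀ := by
    rw [hU₀]
    haveI : IsAffine V.toScheme := hVaff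
    exact (IsClosedImmersion.isAffine_surjective_of_isAffine (j ∣_ V)).1
  have hsurj : Function.Surjective (j.app V).hom :=
    surjective_app_of_isClosedImmersion_restrict j V hVaff
  obtain ⟨k₀, hk₀⟩ : ∃ k₀ : Γ(G.U, ⊤),
      k₀ = j.appTop.hom ((Scheme.ΓSpecIso (CommRingCat.of A)).inv.hom h₀) := ⟨_, rfl⟩
  have hk : U₀ = G.U.basicOpen k₀ := by
    rw [hU₀, hk₀, ← Scheme.preimage_basicOpen_top, basicOpen_eq_of_affine, hV]
  have hU₀W : U₀ ≤ invW G := by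
    rw [hU₀, hV]; exact hle
  have hEU₀ : E ⊆ (U₀ : Set G.U) := by
    rw [hU₀, hV]; exact hE₀
  subst hU₀
  obtain ⟨g, hg⟩ := exists_section_basicOpen_eq_orbIn G (j ⁻¹ᵁ V) k₀ hk haff hU₀W
  obtain ⟨b, hb⟩ := hsurj g
  subst hV
  obtain ⟨a, ha⟩ := exists_basicOpen_eq_preimage j h₀ b
  rw [hb] at ha
  refine ⟨h₀ * a, Ideal.mul_mem_right _ _ hh₀I, ?_, ?_, ?_, ?_⟩
  · rw [← ha]
    exact haff.basicOpen g
  · intro x hx
    rw [← ha]
    show x ∈ (G.U.basicOpen g : Set G.U)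
    rw [hg]
    intro r hr
    exact hEU₀ (hEinv x hx r hr)
  · rw [← ha]
    apply Opens.ext
    show ⇑G.s ⁻¹' (G.U.basicOpen g : Set G.U) = ⇑G.t ⁻¹' (G.U.basicOpen g : Set G.U)
    rw [hg]
    exact preimage_orbIn G _
  · rw [← ha]
    exact (G.U.basicOpen_le g).trans hU₀W

/-- For `h ∈ I`, the preimage of `D(h)` is affine. -/
theorem isAffineOpen_preimage_basicOpen {X : Scheme.{u}}
    (A : Type u) [CommRing A] (j : X ⟶ Spec (CommRingCat.of A)) [IsImmersion j] (I : Ideal A)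
    (hcl : IsClosed (PrimeSpectrum.zeroLocus (I : Set A) ∪ Set.range j)) (h : A) (hh : h ∈ I) :
    IsAffineOpen (j ⁻¹ᵁ PrimeSpectrum.basicOpen h) := by
  obtain ⟨V, hV⟩ : ∃ V : (Spec (CommRingCat.of A)).Opens, V = PrimeSpectrum.basicOpen h :=
    ⟨_, rfl⟩
  have hVaff : IsAffineOpen V := by
    rw [hV]; exact IsAffineOpen.Spec_basicOpen (R := CommRingCat.of A) h
  haveI hci : IsClosedImmersion (j ∣_ V) := by
    rw [hV]; exact isClosedImmersion_restrict_basicOpen j I hcl h hh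
  rw [← hV]
  haveI : IsAffine V.toScheme := hVaff
  exact (IsClosedImmersion.isAffine_surjective_of_isAffine (j ∣_ V)).1

end Groupoid

section General

variable {X : Scheme.{u}}

/-- Separating two disjoint closed subsets of an affine open by a section. -/
theorem exists_section_separating {Q : X.Opens} (hQ : IsAffineOpen Q) (C₁ C₂ : Set X)
    (h₁ : IsClosed C₁) (h₂ : IsClosed C₂) (hdisj : ∀ x ∈ Q, x ∈ C₁ → x ∈ C₂ → False) :
    ∃ a : Γ(X, Q), (∀ x ∈ Q, x ∈ C₁ → x ∉ X.basicOpen a) ∧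
      (∀ x ∈ Q, x ∈ C₂ → x ∈ X.basicOpen a) := by
  classical
  obtain ⟨Z₁, hZ₁⟩ : ∃ Z₁ : Set (PrimeSpectrum Γ(X, Q)), Z₁ = {p | hQ.fromSpec p ∈ C₁} :=
    ⟨_, rfl⟩
  obtain ⟨Z₂, hZ₂⟩ : ∃ Z₂ : Set (PrimeSpectrum Γ(X, Q)), Z₂ = {p | hQ.fromSpec p ∈ C₂} :=
    ⟨_, rfl⟩
  have hZ₁cl : IsClosed Z₁ := by rw [hZ₁]; exact h₁.preimage hQ.fromSpec.continuous
  have hZ₂cl : IsClosed Z₂ := by rw [hZ₂]; exact h₂.preimage hQ.fromSpec.continuous
  obtain ⟨I₁, hI₁⟩ : ∃ I₁ : Ideal Γ(X, Q), I₁ = PrimeSpectrum.vanishingIdeal Z₁ := ⟨_, rfl⟩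
  obtain ⟨I₂, hI₂⟩ : ∃ I₂ : Ideal Γ(X, Q), I₂ = PrimeSpectrum.vanishingIdeal Z₂ := ⟨_, rfl⟩
  have hz₁ : PrimeSpectrum.zeroLocus (I₁ : Set Γ(X, Q)) = Z₁ := by
    rw [hI₁, PrimeSpectrum.zeroLocus_vanishingIdeal_eq_closure, hZ₁cl.closure_eq]
  have hz₂ : PrimeSpectrum.zeroLocus (I₂ : Set Γ(X, Q)) = Z₂ := by
    rw [hI₂, PrimeSpectrum.zeroLocus_vanishingIdeal_eq_closure, hZ₂cl.closure_eq]
  have hmemQ : ∀ p : PrimeSpectrum Γ(X, Q), hQ.fromSpec p ∈ Q := by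
    intro p
    have : hQ.fromSpec p ∈ Set.range hQ.fromSpec := ⟨p, rfl⟩
    rw [hQ.range_fromSpec] at this
    exact this
  have htop : I₁ ⊔ I₂ = ⊤ := by
    by_contra hne
    obtain ⟨m, hm, hle⟩ := Ideal.exists_le_maximal _ hne
    obtain ⟨p, hp⟩ : ∃ p : PrimeSpectrum Γ(X, Q), p = ⟨m, hm.isPrime⟩ := ⟨_, rfl⟩
    have hp1 : p ∈ Z₁ := by
      rw [← hz₁, PrimeSpectrum.mem_zeroLocus, hp]
      exact fun x hx => hle (Ideal.mem_sup_left hx)
    have hp2 : p ∈ Z₂ := by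
      rw [← hz₂, PrimeSpectrum.mem_zeroLocus, hp]
      exact fun x hx => hle (Ideal.mem_sup_right hx)
    rw [hZ₁] at hp1
    rw [hZ₂] at hp2
    exact hdisj _ (hmemQ p) hp1 hp2
  obtain ⟨a, ha, b, hb, hab⟩ := Submodule.mem_sup.mp
    (show (1 : Γ(X, Q)) ∈ I₁ ⊔ I₂ by rw [htop]; trivial)
  have hpt : ∀ x ∈ Q, ∃ p : PrimeSpectrum Γ(X, Q), hQ.fromSpec p = x := by
    intro x hx
    have : x ∈ Set.range hQ.fromSpec := by rw [hQ.range_fromSpec]; exact hx
    exact this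
  have hmem : ∀ p : PrimeSpectrum Γ(X, Q), hQ.fromSpec p ∈ X.basicOpen a ↔ a ∉ p.asIdeal := by
    intro p
    show p ∈ hQ.fromSpec ⁻¹ᵁ X.basicOpen a ↔ _
    rw [hQ.fromSpec_preimage_basicOpen]
    rfl
  refine ⟨a, ?_, ?_⟩
  · intro x hx hxC
    obtain ⟨p, rfl⟩ := hpt x hx
    rw [hmem, not_not]
    have hp1 : p ∈ Z₁ := by rw [hZ₁]; exact hxC
    rw [← hz₁, PrimeSpectrum.mem_zeroLocus] at hp1
    exact hp1 ha
  · intro x hx hxC
    obtain ⟨p, rfl⟩ := hpt x hx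
    rw [hmem]
    intro hap
    have hp2 : p ∈ Z₂ := by rw [hZ₂]; exact hxC
    rw [← hz₂, PrimeSpectrum.mem_zeroLocus] at hp2
    have hbp : b ∈ p.asIdeal := hp2 hb
    have h1 : (1 : Γ(X, Q)) ∈ p.asIdeal := by
      rw [← hab]; exact p.asIdeal.add_mem hap hbp
    exact p.2.ne_top ((Ideal.eq_top_iff_one _).mpr h1)

/-- Intrinsic form of `AffImmH4.main1890`: an open `V` of an affine open `Q` such that
`V ∩ D(f)` is affine and `V ∩ V(f)` is closed in `Q` is affine. -/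
theorem isAffineOpen_of_basicOpen_of_isClosed [IsLocallyNoetherian X] {Q : X.Opens}
    (hQ : IsAffineOpen Q) (V : X.Opens) (hVQ : V ≤ Q) (f : Γ(X, Q))
    (haff : IsAffineOpen (V ⊓ X.basicOpen f))
    (C : Set X) (hC : IsClosed C) (hCV : ∀ x ∈ Q, (x ∈ V ∧ x ∉ X.basicOpen f) ↔ x ∈ C) :
    IsAffineOpen V := by
  obtain ⟨jV, hjV⟩ : ∃ jV : V.toScheme ⟶ Spec Γ(X, Q),
      jV = X.homOfLE hVQ ≫ hQ.isoSpec.hom := ⟨_, rfl⟩
  haveI : IsOpenImmersion jV := by rw [hjV]; infer_instance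
  haveI : IsNoetherianRing Γ(X, Q) := IsLocallyNoetherian.component_noetherian ⟨Q, hQ⟩
  haveI : QuasiCompact jV := inferInstance
  have hkey : ∀ v : V.toScheme, hQ.fromSpec (jV v) = V.ι v := by
    intro v
    rw [hjV, Scheme.Hom.comp_apply, ← Scheme.Hom.comp_apply _ hQ.fromSpec,
      IsAffineOpen.isoSpec_hom_fromSpec, ← Scheme.Hom.comp_apply, Scheme.homOfLE_ι]
  have hmemb : ∀ p : PrimeSpectrum Γ(X, Q), hQ.fromSpec p ∈ X.basicOpen f ↔
      p ∈ PrimeSpectrum.basicOpen f := by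
    intro p
    show p ∈ hQ.fromSpec ⁻¹ᵁ X.basicOpen f ↔ _
    rw [hQ.fromSpec_preimage_basicOpen]
  have hVmem : ∀ v : V.toScheme, V.ι v ∈ V := by
    intro v
    have : V.ι v ∈ Set.range V.ι := ⟨v, rfl⟩
    rw [Scheme.Opens.range_ι] at this
    exact this
  have himage : V.ι ''ᵁ (jV ⁻¹ᵁ PrimeSpectrum.basicOpen f) = V ⊓ X.basicOpen f := by
    ext x
    constructor
    · rintro ⟨v, hv, rfl⟩
      have hv' : jV v ∈ PrimeSpectrum.basicOpen f := hv
      rw [← hmemb, hkey] at hv'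
      exact ⟨hVmem v, hv'⟩
    · rintro ⟨hxV, hxf⟩
      have : x ∈ Set.range V.ι := by rw [Scheme.Opens.range_ι]; exact hxV
      obtain ⟨v, rfl⟩ := this
      refine ⟨v, ?_, rfl⟩
      show jV v ∈ PrimeSpectrum.basicOpen f
      rw [← hmemb, hkey]
      exact hxf
  have haff' : IsAffineOpen (jV ⁻¹ᵁ PrimeSpectrum.basicOpen f) := by
    rw [← Scheme.Hom.isAffineOpen_iff_of_isOpenImmersion V.ι, himage]
    exact haff
  have hmemQ : ∀ p : PrimeSpectrum Γ(X, Q), hQ.fromSpec p ∈ Q := by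
    intro p
    have : hQ.fromSpec p ∈ Set.range hQ.fromSpec := ⟨p, rfl⟩
    rw [hQ.range_fromSpec] at this
    exact this
  have hcl : IsClosed (Set.range ⇑jV ∩ PrimeSpectrum.zeroLocus {f}) := by
    have heq : Set.range ⇑jV ∩ PrimeSpectrum.zeroLocus {f} = ⇑hQ.fromSpec ⁻¹' C := by
      ext p
      constructor
      · rintro ⟨⟨v, rfl⟩, hp⟩
        show hQ.fromSpec (jV v) ∈ C
        rw [← hCV _ (hmemQ _), hkey]
        refine ⟨hVmem v, ?_⟩
        rw [← hkey, hmemb]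
        intro hb
        rw [PrimeSpectrum.mem_zeroLocus, Set.singleton_subset_iff] at hp
        exact hb hp
      · intro hp
        have hp' : hQ.fromSpec p ∈ C := hp
        rw [← hCV _ (hmemQ _)] at hp'
        obtain ⟨hpV, hpf⟩ := hp'
        have : hQ.fromSpec p ∈ Set.range V.ι := by rw [Scheme.Opens.range_ι]; exact hpV
        obtain ⟨v, hv⟩ := this
        have hvp : jV v = p := by
          apply hQ.fromSpec.isOpenEmbedding.injective
          rw [hkey, hv]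
        refine ⟨⟨v, hvp⟩, ?_⟩
        rw [PrimeSpectrum.mem_zeroLocus, Set.singleton_subset_iff]
        by_contra hfp
        apply hpf
        rw [hmemb]
        exact hfp
    rw [heq]
    exact hC.preimage hQ.fromSpec.continuous
  exact AffImmH4.main1890 Γ(X, Q) V.toScheme jV f haff' hcl

end General

end Groth.Agent.Lib.GrpdAffBasicH7
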