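import Mathlib
import Groth.Prelude.Def_Grpd

set_option autoImplicit false
universe u
open CategoryTheory CategoryTheory.Limits AlgebraicGeometry Cardinal

namespace Groth.Agent.Lib.GrpdAlgPtH4

/-- Transcendence degree of a ring hom between fields. -/
noncomputable def trdegHom {R A : Type u} [Field R] [Field A] (f : R →+* A) : Cardinal.{u} :=
  letI := f.toAlgebra
  Algebra.trdeg R A

theorem trdegHom_eq {R A : Type u} [Field R] [Field A] [inst : Algebra R A] (f : R →+* A)
    (h : ∀ r, algebraMap R A r = f r) : trdegHom f = Algebra.trdeg R A := by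
  have e : inst = f.toAlgebra := Algebra.algebra_ext _ _ (fun r => h r)
  subst e
  rfl

theorem trdeg_eq_of_tower (k κ L : Type u) [Field k] [Field κ] [Field L] [Algebra k κ]
    [Algebra κ L] [Algebra k L] [IsScalarTower k κ L] (h1 : ℵ₀ ≤ Algebra.trdeg κ L)
    (h2 : #κ ≤ Algebra.trdeg κ L) : Algebra.trdeg k L = Algebra.trdeg κ L := by
  haveI : FaithfulSMul k κ :=
    (faithfulSMul_iff_algebraMap_injective k κ).mpr (algebraMap k κ).injective
  haveI : FaithfulSMul κ L :=
    (faithfulSMul_iff_algebraMap_injective κ L).mpr (algebraMap κ L).injective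
  have h3 : Algebra.trdeg k κ + Algebra.trdeg κ L = Algebra.trdeg k L :=
    trdeg_add_eq k κ (A := L)
  have h4 : Algebra.trdeg k κ ≤ #κ := by
    obtain ⟨s, hs⟩ := exists_isTranscendenceBasis k κ
    rw [← hs.cardinalMk_eq_trdeg]
    exact Cardinal.mk_set_le s
  rw [← h3]
  exact Cardinal.add_eq_right h1 (h4.trans h2)

theorem exists_equiv_of_trdeg_eq (R K L : Type u) [Field R] [Field K] [Field L] [IsAlgClosed K]
    [IsAlgClosed L] (f : R →+* K) (g : R →+* L) (h : trdegHom f = trdegHom g) :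
    ∃ φ : K ≃+* L, ∀ r, φ (f r) = g r := by
  letI : Algebra R K := f.toAlgebra
  letI : Algebra R L := g.toAlgebra
  have h' : Algebra.trdeg R K = Algebra.trdeg R L := h
  haveI : FaithfulSMul R K := (faithfulSMul_iff_algebraMap_injective R K).mpr f.injective
  haveI : FaithfulSMul R L := (faithfulSMul_iff_algebraMap_injective R L).mpr g.injective
  obtain ⟨ι, v, hv⟩ := exists_isTranscendenceBasis' R K
  obtain ⟨ι', w, hw⟩ := exists_isTranscendenceBasis' R L
  have hc : #ι = #ι' := by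
    rw [hv.cardinalMk_eq_trdeg, hw.cardinalMk_eq_trdeg]; exact h'
  obtain ⟨e⟩ := Cardinal.eq.mp hc
  letI := IsAlgClosed.isAlgClosure_of_transcendence_basis v hv
  letI := IsAlgClosed.isAlgClosure_of_transcendence_basis w hw
  let e' : Algebra.adjoin R (Set.range v) ≃ₐ[R] Algebra.adjoin R (Set.range w) :=
    hv.1.aevalEquiv.symm.trans ((MvPolynomial.renameEquiv R e).trans hw.1.aevalEquiv)
  refine ⟨IsAlgClosure.equivOfEquiv K L e'.toRingEquiv, fun r => ?_⟩
  have h1 : f r = algebraMap (Algebra.adjoin R (Set.range v)) K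
      (algebraMap R (Algebra.adjoin R (Set.range v)) r) := rfl
  have h2 : g r = algebraMap (Algebra.adjoin R (Set.range w)) L
      (algebraMap R (Algebra.adjoin R (Set.range w)) r) := rfl
  rw [h1, h2, IsAlgClosure.equivOfEquiv_algebraMap]
  congr 1
  exact e'.commutes r

/-- A big algebraically closed field over `κ`. -/
abbrev bigField (κ : Type u) [Field κ] : Type u :=
  AlgebraicClosure (FractionRing (MvPolynomial (ℕ ⊕ κ) κ))

theorem le_trdeg_bigField (κ : Type u) [Field κ] :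
    #(ℕ ⊕ κ) ≤ Algebra.trdeg κ (bigField κ) := by
  have hinj : Function.Injective (algebraMap (MvPolynomial (ℕ ⊕ κ) κ) (bigField κ)) := by
    rw [IsScalarTower.algebraMap_eq (MvPolynomial (ℕ ⊕ κ) κ)
      (FractionRing (MvPolynomial (ℕ ⊕ κ) κ)) (bigField κ)]
    exact (algebraMap (FractionRing (MvPolynomial (ℕ ⊕ κ) κ)) (bigField κ)).injective.comp
      (IsFractionRing.injective (MvPolynomial (ℕ ⊕ κ) κ)
        (FractionRing (MvPolynomial (ℕ ⊕ κ) κ)))
  have hAI : AlgebraicIndependent κ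
      ((IsScalarTower.toAlgHom κ (MvPolynomial (ℕ ⊕ κ) κ) (bigField κ)) ∘
        (MvPolynomial.X : (ℕ ⊕ κ) → MvPolynomial (ℕ ⊕ κ) κ)) :=
    (MvPolynomial.algebraicIndependent_X (ℕ ⊕ κ) κ).map'
      (f := IsScalarTower.toAlgHom κ (MvPolynomial (ℕ ⊕ κ) κ) (bigField κ)) hinj
  exact hAI.cardinalMk_le_trdeg

theorem exists_aut (k κ : Type u) [Field k] [Field κ] (σ τ : k →+* κ) :
    ∃ β : bigField κ ≃+* bigField κ,
      ∀ a, β (algebraMap κ (bigField κ) (τ a)) = algebraMap κ (bigField κ) (σ a) := by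
  have h0 := le_trdeg_bigField κ
  have h1 : ℵ₀ ≤ Algebra.trdeg κ (bigField κ) := (Cardinal.aleph0_le_mk (ℕ ⊕ κ)).trans h0
  have h2 : #κ ≤ Algebra.trdeg κ (bigField κ) :=
    (Cardinal.mk_le_of_injective (Sum.inr_injective (α := ℕ) (β := κ))).trans h0
  have key : ∀ f : k →+* κ, trdegHom ((algebraMap κ (bigField κ)).comp f) =
      Algebra.trdeg κ (bigField κ) := by
    intro f
    letI : Algebra k κ := f.toAlgebra
    have e1 : Algebra.trdeg k (bigField κ) = Algebra.trdeg κ (bigField κ) :=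
      trdeg_eq_of_tower k κ (bigField κ) h1 h2
    rw [← e1]
    exact trdegHom_eq _ (fun r => IsScalarTower.algebraMap_apply k κ (bigField κ) r)
  obtain ⟨φ, hφ⟩ := exists_equiv_of_trdeg_eq k (bigField κ) (bigField κ)
    ((algebraMap κ (bigField κ)).comp τ) ((algebraMap κ (bigField κ)).comp σ)
    ((key τ).trans (key σ).symm)
  exact ⟨φ, hφ⟩

theorem isIso_residueFieldMap_of_comp {X Y : Scheme.{u}} (φ : Y ⟶ X) (h : X ⟶ Y)
    [IsIso (φ ≫ h)] (pt : Y) : IsIso (h.residueFieldMap (φ pt)) := by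
  have e1 : (φ ≫ h).residueFieldMap pt = h.residueFieldMap (φ pt) ≫ φ.residueFieldMap pt :=
    Scheme.residueFieldMap_comp φ h pt
  haveI i1 : IsIso (h.residueFieldMap (φ pt) ≫ φ.residueFieldMap pt) := by
    rw [← e1]; exact (inferInstance : IsIso ((φ ≫ h).residueFieldMap pt))
  haveI : IsIso (φ.residueFieldMap pt) := by
    rw [ConcreteCategory.isIso_iff_bijective]
    refine ⟨(φ.residueFieldMap pt).hom.injective, ?_⟩
    intro y
    obtain ⟨x, hx⟩ := ((ConcreteCategory.isIso_iff_bijective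
      (h.residueFieldMap (φ pt) ≫ φ.residueFieldMap pt)).mp i1).2 y
    exact ⟨h.residueFieldMap (φ pt) x, hx⟩
  exact IsIso.of_isIso_comp_right (h.residueFieldMap (φ pt)) (φ.residueFieldMap pt)

theorem main_aux (S : Scheme.{u}) (G : Grpd.GroupoidScheme S) (k : Type u) [Field k]
    (eU : G.U ≅ Spec (CommRingCat.of k)) (r : G.R)
    (k' : Type u) [Field k'] [Algebra k k']
    (τ' σ' : CommRingCat.of k ⟶ G.R.residueField r) (ρ' : G.R.residueField r ⟶ CommRingCat.of k')
    (β : k' ≃+* k')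
    (hτ : Spec.map τ' = G.R.fromSpecResidueField r ≫ G.t ≫ eU.hom)
    (hσ : Spec.map σ' = G.R.fromSpecResidueField r ≫ G.s ≫ eU.hom)
    (h1 : τ' ≫ ρ' = CommRingCat.ofHom (algebraMap k k'))
    (h2 : CommRingCat.ofHom (algebraMap k k') ≫ β.toCommRingCatIso.hom = σ' ≫ ρ') :
    ∃ r' : ↑(pullback (pullback.snd (Spec.map (CommRingCat.ofHom (algebraMap k k')) ≫ eU.inv) G.t ≫ G.s) (Spec.map (CommRingCat.ofHom (algebraMap k k')) ≫ eU.inv)), (pullback.fst (pullback.snd (Spec.map (CommRingCat.ofHom (algebraMap k k')) ≫ eU.inv) G.t ≫ G.s) (Spec.map (CommRingCat.ofHom (algebraMap k k')) ≫ eU.inv) ≫ pullback.snd (Spec.map (CommRingCat.ofHom (algebraMap k k')) ≫ eU.inv) G.t) r' = r ∧ IsIso ((pullback.snd (pullback.snd (Spec.map (CommRingCat.ofHom (algebraMap k k')) ≫ eU.inv) G.t ≫ G.s) (Spec.map (CommRingCat.ofHom (algebraMap k k')) ≫ eU.inv)).residueFieldMap r') ∧ IsIso ((pullback.fst (pullback.snd (Spec.map (CommRingCat.ofHom (algebraMap k k')) ≫ eU.inv) G.t ≫ G.s)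 (Spec.map (CommRingCat.ofHom (algebraMap k k')) ≫ eU.inv) ≫ pullback.fst (Spec.map (CommRingCat.ofHom (algebraMap k k')) ≫ eU.inv) G.t).residueFieldMap r') := by
  have ht : G.R.fromSpecResidueField r ≫ G.t = Spec.map τ' ≫ eU.inv := by
    rw [hτ, Category.assoc, Category.assoc, Iso.hom_inv_id, Category.comp_id]
  have hs : G.R.fromSpecResidueField r ≫ G.s = Spec.map σ' ≫ eU.inv := by
    rw [hσ, Category.assoc, Category.assoc, Iso.hom_inv_id, Category.comp_id]
  have c1 : 𝟙 (Spec (CommRingCat.of k')) ≫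
      (Spec.map (CommRingCat.ofHom (algebraMap k k')) ≫ eU.inv) =
      (Spec.map ρ' ≫ G.R.fromSpecResidueField r) ≫ G.t := by
    calc 𝟙 (Spec (CommRingCat.of k')) ≫
          (Spec.map (CommRingCat.ofHom (algebraMap k k')) ≫ eU.inv)
        = Spec.map (CommRingCat.ofHom (algebraMap k k')) ≫ eU.inv := Category.id_comp _
      _ = Spec.map (τ' ≫ ρ') ≫ eU.inv := by rw [h1]
      _ = Spec.map ρ' ≫ Spec.map τ' ≫ eU.inv := by rw [Spec.map_comp, Category.assoc]
      _ = Spec.map ρ' ≫ G.R.fromSpecResidueField r ≫ G.t := by rw [ht]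
      _ = (Spec.map ρ' ≫ G.R.fromSpecResidueField r) ≫ G.t := (Category.assoc _ _ _).symm
  have c2 : pullback.lift (𝟙 (Spec (CommRingCat.of k')))
      (Spec.map ρ' ≫ G.R.fromSpecResidueField r) c1 ≫
      (pullback.snd (Spec.map (CommRingCat.ofHom (algebraMap k k')) ≫ eU.inv) G.t ≫ G.s) =
      Spec.map β.toCommRingCatIso.hom ≫
        (Spec.map (CommRingCat.ofHom (algebraMap k k')) ≫ eU.inv) := by
    calc pullback.lift (𝟙 (Spec (CommRingCat.of k')))
          (Spec.map ρ' ≫ G.R.fromSpecResidueField r) c1 ≫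
          (pullback.snd (Spec.map (CommRingCat.ofHom (algebraMap k k')) ≫ eU.inv) G.t ≫ G.s)
        = (Spec.map ρ' ≫ G.R.fromSpecResidueField r) ≫ G.s := by
          rw [← Category.assoc, pullback.lift_snd]
      _ = Spec.map ρ' ≫ G.R.fromSpecResidueField r ≫ G.s := Category.assoc _ _ _
      _ = Spec.map ρ' ≫ Spec.map σ' ≫ eU.inv := by rw [hs]
      _ = Spec.map (σ' ≫ ρ') ≫ eU.inv := by rw [Spec.map_comp, Category.assoc]
      _ = Spec.map (CommRingCat.ofHom (algebraMap k k') ≫ β.toCommRingCatIso.hom) ≫ eU.inv := by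
          rw [h2]
      _ = Spec.map β.toCommRingCatIso.hom ≫
          (Spec.map (CommRingCat.ofHom (algebraMap k k')) ≫ eU.inv) := by
          rw [Spec.map_comp, Category.assoc]
  have hφ1 : pullback.lift (pullback.lift (𝟙 (Spec (CommRingCat.of k')))
        (Spec.map ρ' ≫ G.R.fromSpecResidueField r) c1) (Spec.map β.toCommRingCatIso.hom) c2 ≫
      (pullback.fst (pullback.snd (Spec.map (CommRingCat.ofHom (algebraMap k k')) ≫ eU.inv) G.t ≫ G.s)
        (Spec.map (CommRingCat.ofHom (algebraMap k k')) ≫ eU.inv) ≫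
        pullback.snd (Spec.map (CommRingCat.ofHom (algebraMap k k')) ≫ eU.inv) G.t) =
      Spec.map ρ' ≫ G.R.fromSpecResidueField r := by
    rw [← Category.assoc, pullback.lift_fst, pullback.lift_snd]
  have hφ2 : pullback.lift (pullback.lift (𝟙 (Spec (CommRingCat.of k')))
        (Spec.map ρ' ≫ G.R.fromSpecResidueField r) c1) (Spec.map β.toCommRingCatIso.hom) c2 ≫
      pullback.snd (pullback.snd (Spec.map (CommRingCat.ofHom (algebraMap k k')) ≫ eU.inv) G.t ≫ G.s)
        (Spec.map (CommRingCat.ofHom (algebraMap k k')) ≫ eU.inv) =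
      Spec.map β.toCommRingCatIso.hom := pullback.lift_snd _ _ _
  have hφ3 : pullback.lift (pullback.lift (𝟙 (Spec (CommRingCat.of k')))
        (Spec.map ρ' ≫ G.R.fromSpecResidueField r) c1) (Spec.map β.toCommRingCatIso.hom) c2 ≫
      (pullback.fst (pullback.snd (Spec.map (CommRingCat.ofHom (algebraMap k k')) ≫ eU.inv) G.t ≫ G.s)
        (Spec.map (CommRingCat.ofHom (algebraMap k k')) ≫ eU.inv) ≫
        pullback.fst (Spec.map (CommRingCat.ofHom (algebraMap k k')) ≫ eU.inv) G.t) =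
      𝟙 (Spec (CommRingCat.of k')) := by
    rw [← Category.assoc, pullback.lift_fst, pullback.lift_fst]
  let pt : ↥(Spec (CommRingCat.of k')) := (⟨⊥, Ideal.bot_prime⟩ : PrimeSpectrum k')
  refine ⟨(pullback.lift (pullback.lift (𝟙 (Spec (CommRingCat.of k')))
        (Spec.map ρ' ≫ G.R.fromSpecResidueField r) c1) (Spec.map β.toCommRingCatIso.hom) c2) pt,
    ?_, ?_, ?_⟩
  · refine (Scheme.Hom.comp_apply _ _ pt).symm.trans ?_
    rw [hφ1]
    exact (Scheme.Hom.comp_apply (Spec.map ρ') _ pt).trans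
      (Scheme.fromSpecResidueField_apply r _)
  · haveI : IsIso (pullback.lift (pullback.lift (𝟙 (Spec (CommRingCat.of k')))
        (Spec.map ρ' ≫ G.R.fromSpecResidueField r) c1) (Spec.map β.toCommRingCatIso.hom) c2 ≫
      pullback.snd (pullback.snd (Spec.map (CommRingCat.ofHom (algebraMap k k')) ≫ eU.inv) G.t ≫ G.s)
        (Spec.map (CommRingCat.ofHom (algebraMap k k')) ≫ eU.inv)) := by
      rw [hφ2]; infer_instance
    exact isIso_residueFieldMap_of_comp _ _ pt
  · haveI : IsIso (pullback.lift (pullback.lift (𝟙 (Spec (CommRingCat.of k')))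
        (Spec.map ρ' ≫ G.R.fromSpecResidueField r) c1) (Spec.map β.toCommRingCatIso.hom) c2 ≫
      (pullback.fst (pullback.snd (Spec.map (CommRingCat.ofHom (algebraMap k k')) ≫ eU.inv) G.t ≫ G.s)
        (Spec.map (CommRingCat.ofHom (algebraMap k k')) ≫ eU.inv) ≫
        pullback.fst (Spec.map (CommRingCat.ofHom (algebraMap k k')) ≫ eU.inv) G.t)) := by
      rw [hφ3]; infer_instance
    exact isIso_residueFieldMap_of_comp _ _ pt

theorem main7493 (S : Scheme.{u}) (G : Grpd.GroupoidScheme S) (k : Type u) [Field k] (eU : G.U ≅ Spec (CommRingCat.of k)) (r : G.R) : ∃ (k' : Type u) (_ : Field k') (_ : IsAlgClosed k') (_ : Algebra k k'), ∃ r' : ↑(pullback (pullback.snd (Spec.map (CommRingCat.ofHom (algebraMap k k')) ≫ eU.inv) G.t ≫ G.s) (Spec.map (CommRingCat.ofHom (algebraMap k k')) ≫ eU.inv)), (pullback.fst (pullback.snd (Spec.map (CommRingCat.ofHom (algebraMap k k')) ≫ eU.inv) G.t ≫ G.s) (Spec.map (CommRingCat.ofHom (algebraMap k k')) ≫ eU.inv) ≫ pullback.snd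 (Spec.map (CommRingCat.ofHom (algebraMap k k')) ≫ eU.inv) G.t) r' = r ∧ IsIso ((pullback.snd (pullback.snd (Spec.map (CommRingCat.ofHom (algebraMap k k')) ≫ eU.inv) G.t ≫ G.s) (Spec.map (CommRingCat.ofHom (algebraMap k k')) ≫ eU.inv)).residueFieldMap r') ∧ IsIso ((pullback.fst (pullback.snd (Spec.map (CommRingCat.ofHom (algebraMap k k')) ≫ eU.inv) G.t ≫ G.s) (Spec.map (CommRingCat.ofHom (algebraMap k k')) ≫ eU.inv) ≫ pullback.fst (Spec.map (CommRingCat.ofHom (algebraMap k k')) ≫ eU.inv) G.t).residueFieldMap r') := by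
  obtain ⟨β, hβ⟩ := exists_aut k (G.R.residueField r)
    (Spec.preimage (G.R.fromSpecResidueField r ≫ G.s ≫ eU.hom)).hom
    (Spec.preimage (G.R.fromSpecResidueField r ≫ G.t ≫ eU.hom)).hom
  refine ⟨bigField (G.R.residueField r), inferInstance, inferInstance,
    ((algebraMap (G.R.residueField r) (bigField (G.R.residueField r))).comp
      (Spec.preimage (G.R.fromSpecResidueField r ≫ G.t ≫ eU.hom)).hom).toAlgebra, ?_⟩
  letI : Algebra k (bigField (G.R.residueField r)) :=
    ((algebraMap (G.R.residueField r) (bigField (G.R.residueField r))).comp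
      (Spec.preimage (G.R.fromSpecResidueField r ≫ G.t ≫ eU.hom)).hom).toAlgebra
  exact main_aux S G k eU r (bigField (G.R.residueField r))
    (Spec.preimage (G.R.fromSpecResidueField r ≫ G.t ≫ eU.hom))
    (Spec.preimage (G.R.fromSpecResidueField r ≫ G.s ≫ eU.hom))
    (CommRingCat.ofHom (algebraMap (G.R.residueField r) (bigField (G.R.residueField r)))) β
    (Spec.map_preimage _) (Spec.map_preimage _)
    (CommRingCat.hom_ext (RingHom.ext fun a => rfl))
    (CommRingCat.hom_ext (RingHom.ext fun a => hβ a))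

end Groth.Agent.Lib.GrpdAlgPtH4
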