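import Mathlib
import Groth.Prelude.Def_Grpd
import Groth.Agent.Lib.GrpdCalc_helper6
import Groth.Agent.Lib.GrpdClosed_helper4

set_option autoImplicit false
set_option linter.style.haveILetI false

universe u

open CategoryTheory CategoryTheory.Limits AlgebraicGeometry Grpd
open Groth.Agent.Lib.GrpdCalc

namespace Groth.Agent.Lib.GrpdAutoH4

variable {S : Scheme.{u}}

set_option maxHeartbeats 1600000 in
/-- Left translation by a section `ρ` of `s`. -/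
theorem exists_auto (G : GroupoidScheme S) (ρ : G.U ⟶ G.R) (hρs : ρ ≫ G.s = 𝟙 G.U)
    [IsIso (ρ ≫ G.t)] : ∃ φ : G.R ≅ G.R, G.e ≫ φ.hom = ρ := by
  obtain ⟨ψ, hψ⟩ : ∃ ψ : G.U ⟶ G.U, ψ = ρ ≫ G.t := ⟨_, rfl⟩
  haveI : IsIso ψ := by rw [hψ]; infer_instance
  obtain ⟨β, hβ⟩ : ∃ β : G.R ⟶ G.R, β = G.t ≫ ρ := ⟨_, rfl⟩
  obtain ⟨γ, hγ⟩ : ∃ γ : G.R ⟶ G.R, γ = G.t ≫ inv ψ ≫ ρ := ⟨_, rfl⟩
  have hβs : β ≫ G.s = G.t := by rw [hβ, Category.assoc, hρs, Category.comp_id]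
  have hβt : β ≫ G.t = G.t ≫ ψ := by rw [hβ, hψ, Category.assoc]
  have hγs : γ ≫ G.s = G.t ≫ inv ψ := by
    rw [hγ, Category.assoc, Category.assoc, hρs, Category.comp_id]
  have hγt : γ ≫ G.t = G.t := by
    rw [hγ, Category.assoc, Category.assoc, ← hψ, IsIso.inv_hom_id, Category.comp_id]
  have h : β ≫ G.s = 𝟙 G.R ≫ G.t := by rw [hβs, Category.id_comp]
  have h' : (γ ≫ G.i) ≫ G.s = 𝟙 G.R ≫ G.t := by
    rw [Category.assoc, G.i_s, hγt, Category.id_comp]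
  obtain ⟨φ, hφ⟩ : ∃ φ : G.R ⟶ G.R, φ = comp G β (𝟙 G.R) h := ⟨_, rfl⟩
  obtain ⟨φi, hφi⟩ : ∃ φi : G.R ⟶ G.R, φi = comp G (γ ≫ G.i) (𝟙 G.R) h' := ⟨_, rfl⟩
  have hφt : φ ≫ G.t = G.t ≫ ψ := by rw [hφ, comp_t', hβt]
  have hφit : φi ≫ G.t = G.t ≫ inv ψ := by rw [hφi, comp_t', Category.assoc, G.i_t, hγs]
  have hφγ : φ ≫ γ = β := by
    rw [hγ, ← Category.assoc, hφt, Category.assoc, IsIso.hom_inv_id_assoc, hβ]
  have hφiβ : φi ≫ β = γ := by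
    rw [hβ, ← Category.assoc, hφit, Category.assoc, hγ]
  have h1 : φ ≫ φi = 𝟙 G.R := by
    rw [hφi]
    have hx : (φ ≫ γ ≫ G.i) ≫ G.s = (φ ≫ 𝟙 G.R) ≫ G.t := by
      simpa only [Category.assoc] using congrArg (fun x => φ ≫ x) h'
    have hy : (β ≫ G.i) ≫ G.s = comp G β (𝟙 G.R) h ≫ G.t := by
      rw [comp_t', Category.assoc, G.i_s]
    calc φ ≫ comp G (γ ≫ G.i) (𝟙 G.R) h' = comp G (φ ≫ γ ≫ G.i) (φ ≫ 𝟙 G.R) hx :=
          precomp_comp G φ _ _ h' hx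
      _ = comp G (β ≫ G.i) (comp G β (𝟙 G.R) h) hy :=
          comp_congr G (by rw [← Category.assoc, hφγ]) ((Category.comp_id _).trans hφ) _ _
      _ = 𝟙 G.R := inv_comp_comp_left G β (𝟙 G.R) h hy
  have h2 : φi ≫ φ = 𝟙 G.R := by
    rw [hφ]
    have hx : (φi ≫ β) ≫ G.s = (φi ≫ 𝟙 G.R) ≫ G.t := by
      simpa only [Category.assoc] using congrArg (fun x => φi ≫ x) h
    have hy : γ ≫ G.s = comp G (γ ≫ G.i) (𝟙 G.R) h' ≫ G.t := by
      rw [comp_t', Category.assoc, G.i_t]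
    have hab : γ ≫ G.t = 𝟙 G.R ≫ G.t := by rw [hγt, Category.id_comp]
    calc φi ≫ comp G β (𝟙 G.R) h = comp G (φi ≫ β) (φi ≫ 𝟙 G.R) hx :=
          precomp_comp G φi _ _ h hx
      _ = comp G γ (comp G (γ ≫ G.i) (𝟙 G.R) h') hy :=
          comp_congr G hφiβ ((Category.comp_id _).trans hφi) _ _
      _ = 𝟙 G.R := comp_inv_comp_left G γ (𝟙 G.R) hab h' hy
  refine ⟨⟨φ, φi, h1, h2⟩, ?_⟩
  show G.e ≫ φ = ρ
  rw [hφ]
  have hx : (G.e ≫ β) ≫ G.s = (G.e ≫ 𝟙 G.R) ≫ G.t := by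
    simpa only [Category.assoc] using congrArg (fun x => G.e ≫ x) h
  have hz : ρ ≫ G.s = (ρ ≫ G.s ≫ G.e) ≫ G.t := by
    rw [Category.assoc, Category.assoc, G.e_t, Category.comp_id]
  calc G.e ≫ comp G β (𝟙 G.R) h = comp G (G.e ≫ β) (G.e ≫ 𝟙 G.R) hx :=
        precomp_comp G G.e _ _ h hx
    _ = comp G ρ (ρ ≫ G.s ≫ G.e) hz :=
        comp_congr G (by rw [hβ, ← Category.assoc, G.e_t, Category.id_comp])
          (by rw [Category.comp_id, ← Category.assoc, hρs, Category.id_comp]) _ _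
    _ = ρ := comp_e' G ρ hz

set_option maxHeartbeats 1600000 in
theorem main1888 (S : Scheme.{u}) (G : Grpd.GroupoidScheme S) (k : Type u) [Field k]
    (eU : G.U ≅ Spec (CommRingCat.of k)) (r : G.R) (hs : IsIso (G.s.residueFieldMap r))
    (ht : IsIso (G.t.residueFieldMap r)) :
    ∃ φ : G.R ≅ G.R, φ.hom (G.e (eU.inv (IsLocalRing.closedPoint k))) = r := by
  obtain ⟨hi1, hi2⟩ := Groth.Agent.Lib.GrpdClosedH4.instances_of_iso k eU
  have hisoU : ∀ u : G.U, IsIso (G.U.fromSpecResidueField u) := by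
    intro u
    haveI : IsClosedImmersion (G.U.fromSpecResidueField u) :=
      isClosed_singleton_iff_isClosedImmersion.mp isClosed_singleton
    haveI : Surjective (G.U.fromSpecResidueField u) :=
      ⟨fun y => ⟨IsLocalRing.closedPoint _, Subsingleton.elim _ _⟩⟩
    exact isIso_of_isClosedImmersion_of_surjective _
  obtain ⟨rt, hrt⟩ : ∃ rt : Spec (G.R.residueField r) ⟶ G.R, rt = G.R.fromSpecResidueField r :=
    ⟨_, rfl⟩
  have es : Spec.map (G.s.residueFieldMap r) ≫ G.U.fromSpecResidueField (G.s r) = rt ≫ G.s := by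
    rw [hrt]; exact Scheme.Hom.SpecMap_residueFieldMap_fromSpecResidueField G.s r
  have et : Spec.map (G.t.residueFieldMap r) ≫ G.U.fromSpecResidueField (G.t r) = rt ≫ G.t := by
    rw [hrt]; exact Scheme.Hom.SpecMap_residueFieldMap_fromSpecResidueField G.t r
  haveI := hisoU (G.s r)
  haveI := hisoU (G.t r)
  haveI : IsIso (rt ≫ G.s) := by rw [← es]; infer_instance
  haveI : IsIso (rt ≫ G.t) := by rw [← et]; infer_instance
  obtain ⟨ρ, hρ⟩ : ∃ ρ : G.U ⟶ G.R, ρ = inv (rt ≫ G.s) ≫ rt := ⟨_, rfl⟩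
  have hρs : ρ ≫ G.s = 𝟙 G.U := by rw [hρ, Category.assoc, IsIso.inv_hom_id]
  haveI : IsIso (ρ ≫ G.t) := by
    rw [hρ, Category.assoc]; infer_instance
  obtain ⟨φ, hφ⟩ := exists_auto G ρ hρs
  refine ⟨φ, ?_⟩
  have hrt' : ∀ y, rt y = r := by
    intro y
    rw [hrt]
    exact Scheme.fromSpecResidueField_apply _ _
  rw [← Scheme.Hom.comp_apply, hφ, hρ, Scheme.Hom.comp_apply]
  exact hrt' _

end Groth.Agent.Lib.GrpdAutoH4
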