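import Mathlib
import Groth.Prelude.Def_Grpd
import Groth.Agent.Lib.GrpdCalc_helper6

set_option autoImplicit false
set_option linter.style.haveILetI false

universe u

open CategoryTheory CategoryTheory.Limits AlgebraicGeometry Grpd
open Groth.Agent.Lib.GrpdCalc

namespace Groth.Agent.Lib.GrpdLargestH4

variable {S : Scheme.{u}}

section maps

variable (G : GroupoidScheme S) {U' : Scheme.{u}} (g : U' ⟶ G.U)

/-- `h = s ∘ pr₁ : U' ×_{g,U,t} R → U`. -/
noncomputable abbrev hmap : pullback g G.t ⟶ G.U := pullback.snd g G.t ≫ G.s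

lemma condA : (pullback.fst (hmap G g) G.t ≫ pullback.snd g G.t) ≫ G.s =
    pullback.snd (hmap G g) G.t ≫ G.t := by
  rw [Category.assoc]; exact pullback.condition

lemma condB : (pullback.fst (hmap G g) G.s ≫ pullback.snd g G.t) ≫ G.s =
    (pullback.snd (hmap G g) G.s ≫ G.i) ≫ G.t := by
  rw [Category.assoc, Category.assoc, G.i_t]; exact pullback.condition

lemma condB' : (pullback.fst (hmap G g) G.s ≫ pullback.snd g G.t) ≫ G.s =
    pullback.snd (hmap G g) G.s ≫ G.s := by
  rw [Category.assoc]; exact pullback.condition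

lemma thetaC1 : (pullback.fst (hmap G g) G.t ≫ pullback.fst g G.t) ≫ g =
    comp G (pullback.fst (hmap G g) G.t ≫ pullback.snd g G.t) (pullback.snd (hmap G g) G.t)
      (condA G g) ≫ G.t := by
  rw [comp_t', Category.assoc, Category.assoc, pullback.condition]

lemma thetaC2 : pullback.lift (pullback.fst (hmap G g) G.t ≫ pullback.fst g G.t)
    (comp G (pullback.fst (hmap G g) G.t ≫ pullback.snd g G.t) (pullback.snd (hmap G g) G.t)
      (condA G g)) (thetaC1 G g) ≫ hmap G g = pullback.snd (hmap G g) G.t ≫ G.s := by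
  rw [← Category.assoc, pullback.lift_snd, comp_s']

/-- `((u', r₁), r₂) ↦ ((u', r₁ ∘ r₂), r₂)` -/
noncomputable def theta : pullback (hmap G g) G.t ⟶ pullback (hmap G g) G.s :=
  pullback.lift (pullback.lift (pullback.fst (hmap G g) G.t ≫ pullback.fst g G.t)
    (comp G (pullback.fst (hmap G g) G.t ≫ pullback.snd g G.t) (pullback.snd (hmap G g) G.t)
      (condA G g)) (thetaC1 G g)) (pullback.snd (hmap G g) G.t) (thetaC2 G g)

lemma theta'C1 : (pullback.fst (hmap G g) G.s ≫ pullback.fst g G.t) ≫ g =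
    comp G (pullback.fst (hmap G g) G.s ≫ pullback.snd g G.t)
      (pullback.snd (hmap G g) G.s ≫ G.i) (condB G g) ≫ G.t := by
  rw [comp_t', Category.assoc, Category.assoc, pullback.condition]

lemma theta'C2 : pullback.lift (pullback.fst (hmap G g) G.s ≫ pullback.fst g G.t)
    (comp G (pullback.fst (hmap G g) G.s ≫ pullback.snd g G.t)
      (pullback.snd (hmap G g) G.s ≫ G.i) (condB G g)) (theta'C1 G g) ≫ hmap G g =
    pullback.snd (hmap G g) G.s ≫ G.t := by
  rw [← Category.assoc, pullback.lift_snd, comp_s', Category.assoc, G.i_s]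

/-- `((u', r), r₂) ↦ ((u', r ∘ r₂⁻¹), r₂)` -/
noncomputable def theta' : pullback (hmap G g) G.s ⟶ pullback (hmap G g) G.t :=
  pullback.lift (pullback.lift (pullback.fst (hmap G g) G.s ≫ pullback.fst g G.t)
    (comp G (pullback.fst (hmap G g) G.s ≫ pullback.snd g G.t)
      (pullback.snd (hmap G g) G.s ≫ G.i) (condB G g)) (theta'C1 G g))
    (pullback.snd (hmap G g) G.s) (theta'C2 G g)

lemma theta_fst_p0 : theta G g ≫ pullback.fst (hmap G g) G.s ≫ pullback.fst g G.t =
    pullback.fst (hmap G g) G.t ≫ pullback.fst g G.t := by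
  unfold theta; rw [pullback.lift_fst_assoc, pullback.lift_fst]

lemma theta_fst_p1 : theta G g ≫ pullback.fst (hmap G g) G.s ≫ pullback.snd g G.t =
    comp G (pullback.fst (hmap G g) G.t ≫ pullback.snd g G.t) (pullback.snd (hmap G g) G.t)
      (condA G g) := by
  unfold theta; rw [pullback.lift_fst_assoc, pullback.lift_snd]

lemma theta_snd : theta G g ≫ pullback.snd (hmap G g) G.s = pullback.snd (hmap G g) G.t := by
  unfold theta; rw [pullback.lift_snd]

lemma theta'_fst_p0 : theta' G g ≫ pullback.fst (hmap G g) G.t ≫ pullback.fst g G.t =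
    pullback.fst (hmap G g) G.s ≫ pullback.fst g G.t := by
  unfold theta'; rw [pullback.lift_fst_assoc, pullback.lift_fst]

lemma theta'_fst_p1 : theta' G g ≫ pullback.fst (hmap G g) G.t ≫ pullback.snd g G.t =
    comp G (pullback.fst (hmap G g) G.s ≫ pullback.snd g G.t)
      (pullback.snd (hmap G g) G.s ≫ G.i) (condB G g) := by
  unfold theta'; rw [pullback.lift_fst_assoc, pullback.lift_snd]

lemma theta'_snd : theta' G g ≫ pullback.snd (hmap G g) G.t = pullback.snd (hmap G g) G.s := by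
  unfold theta'; rw [pullback.lift_snd]

lemma theta_theta' : theta G g ≫ theta' G g = 𝟙 _ := by
  apply pullback.hom_ext
  · apply pullback.hom_ext
    · simp only [Category.assoc, Category.id_comp]
      rw [theta'_fst_p0, theta_fst_p0]
    · simp only [Category.assoc, Category.id_comp]
      rw [theta'_fst_p1]
      have hx : theta G g ≫ (pullback.fst (hmap G g) G.s ≫ pullback.snd g G.t) =
          comp G (pullback.fst (hmap G g) G.t ≫ pullback.snd g G.t)
            (pullback.snd (hmap G g) G.t) (condA G g) := theta_fst_p1 G g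
      have hy : theta G g ≫ (pullback.snd (hmap G g) G.s ≫ G.i) =
          pullback.snd (hmap G g) G.t ≫ G.i := by rw [← Category.assoc, theta_snd]
      have h1 : comp G (pullback.fst (hmap G g) G.t ≫ pullback.snd g G.t)
          (pullback.snd (hmap G g) G.t) (condA G g) ≫ G.s =
          (pullback.snd (hmap G g) G.t ≫ G.i) ≫ G.t := by
        rw [comp_s', Category.assoc, G.i_t]
      have h0 : (theta G g ≫ (pullback.fst (hmap G g) G.s ≫ pullback.snd g G.t)) ≫ G.s =
          (theta G g ≫ (pullback.snd (hmap G g) G.s ≫ G.i)) ≫ G.t := by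
        rw [hx, hy]; exact h1
      rw [precomp_comp G (theta G g) _ _ _ h0, comp_congr G hx hy h0 h1]
      exact comp_inv_comp G _ _ (condA G g) h1
  · simp only [Category.assoc, Category.id_comp]
    rw [theta'_snd, theta_snd]

lemma theta'_theta : theta' G g ≫ theta G g = 𝟙 _ := by
  apply pullback.hom_ext
  · apply pullback.hom_ext
    · simp only [Category.assoc, Category.id_comp]
      rw [theta_fst_p0, theta'_fst_p0]
    · simp only [Category.assoc, Category.id_comp]
      rw [theta_fst_p1]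
      have hx : theta' G g ≫ (pullback.fst (hmap G g) G.t ≫ pullback.snd g G.t) =
          comp G (pullback.fst (hmap G g) G.s ≫ pullback.snd g G.t)
            (pullback.snd (hmap G g) G.s ≫ G.i) (condB G g) := theta'_fst_p1 G g
      have hy : theta' G g ≫ pullback.snd (hmap G g) G.t = pullback.snd (hmap G g) G.s :=
        theta'_snd G g
      have h1 : comp G (pullback.fst (hmap G g) G.s ≫ pullback.snd g G.t)
          (pullback.snd (hmap G g) G.s ≫ G.i) (condB G g) ≫ G.s =
          pullback.snd (hmap G g) G.s ≫ G.t := by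
        rw [comp_s', Category.assoc, G.i_s]
      have h0 : (theta' G g ≫ (pullback.fst (hmap G g) G.t ≫ pullback.snd g G.t)) ≫ G.s =
          (theta' G g ≫ pullback.snd (hmap G g) G.t) ≫ G.t := by
        rw [hx, hy]; exact h1
      rw [precomp_comp G (theta' G g) _ _ _ h0, comp_congr G hx hy h0 h1]
      exact comp_comp_inv G _ _ (condB' G g) (condB G g) h1
  · simp only [Category.assoc, Category.id_comp]
    rw [theta_snd, theta'_snd]

instance : IsIso (theta G g) := ⟨theta' G g, theta_theta' G g, theta'_theta G g⟩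

lemma phiC : 𝟙 (pullback g G.t) ≫ hmap G g = (pullback.snd g G.t ≫ G.i) ≫ G.t := by
  rw [Category.id_comp, Category.assoc, G.i_t]

/-- `(u', r) ↦ ((u', r), r⁻¹)` -/
noncomputable def phi : pullback g G.t ⟶ pullback (hmap G g) G.t :=
  pullback.lift (𝟙 _) (pullback.snd g G.t ≫ G.i) (phiC G g)

lemma eprimeC : 𝟙 U' ≫ g = (g ≫ G.e) ≫ G.t := by
  rw [Category.id_comp, Category.assoc, G.e_t, Category.comp_id]

/-- `u' ↦ (u', e (g u'))` -/
noncomputable def eprime : U' ⟶ pullback g G.t := pullback.lift (𝟙 _) (g ≫ G.e) (eprimeC G g)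

lemma phi_fst : phi G g ≫ pullback.fst (hmap G g) G.t = 𝟙 _ := by
  unfold phi; rw [pullback.lift_fst]

lemma phi_snd : phi G g ≫ pullback.snd (hmap G g) G.t = pullback.snd g G.t ≫ G.i := by
  unfold phi; rw [pullback.lift_snd]

lemma phi_theta_fst : phi G g ≫ theta G g ≫ pullback.fst (hmap G g) G.s =
    pullback.fst g G.t ≫ eprime G g := by
  apply pullback.hom_ext
  · simp only [Category.assoc]
    rw [theta_fst_p0, ← Category.assoc, phi_fst, Category.id_comp]
    unfold eprime
    rw [pullback.lift_fst, Category.comp_id]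
  · simp only [Category.assoc]
    rw [theta_fst_p1]
    have hx : phi G g ≫ (pullback.fst (hmap G g) G.t ≫ pullback.snd g G.t) =
        pullback.snd g G.t := by rw [← Category.assoc, phi_fst, Category.id_comp]
    have hy : phi G g ≫ pullback.snd (hmap G g) G.t = pullback.snd g G.t ≫ G.i := phi_snd G g
    have h1 : pullback.snd g G.t ≫ G.s = (pullback.snd g G.t ≫ G.i) ≫ G.t := by
      rw [Category.assoc, G.i_t]
    have h0 : (phi G g ≫ (pullback.fst (hmap G g) G.t ≫ pullback.snd g G.t)) ≫ G.s =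
        (phi G g ≫ pullback.snd (hmap G g) G.t) ≫ G.t := by
      rw [hx, hy]; exact h1
    rw [precomp_comp G (phi G g) _ _ _ h0, comp_congr G hx hy h0 h1, comp_i' G _ h1]
    unfold eprime
    rw [pullback.lift_snd, ← Category.assoc, ← Category.assoc, pullback.condition]

end maps

section W

variable (P Q : MorphismProperty Scheme.{u}) [P.RespectsIso]
  (W : ∀ {X Y : Scheme.{u}} (f : X ⟶ Y), Q f → X.Opens)
  (hWP : ∀ {X Y : Scheme.{u}} (f : X ⟶ Y) (hf : Q f), P ((W f hf).ι ≫ f))
  (hWmax : ∀ {X Y : Scheme.{u}} (f : X ⟶ Y) (hf : Q f) (V : X.Opens), P (V.ι ≫ f) → V ≤ W f hf)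

include hWP hWmax in
lemma W_preimage_le {A B Y : Scheme.{u}} (a1 : A ⟶ Y) (b1 : B ⟶ Y) (θ : A ⟶ B) [IsIso θ]
    (hθ : θ ≫ b1 = a1) (ha : Q a1) (hb : Q b1) : θ ⁻¹ᵁ W b1 hb ≤ W a1 ha := by
  apply hWmax
  have e : (θ ⁻¹ᵁ W b1 hb).ι ≫ a1 = (θ ∣_ W b1 hb) ≫ (W b1 hb).ι ≫ b1 := by
    rw [← hθ, ← Category.assoc, ← morphismRestrict_ι, Category.assoc]
  rw [e]
  exact (P.cancel_left_of_respectsIso _ _).mpr (hWP b1 hb)

include hWP hWmax in
lemma W_preimage_iso {A B Y : Scheme.{u}} (a1 : A ⟶ Y) (b1 : B ⟶ Y) (θ : A ⟶ B) [IsIso θ]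
    (hθ : θ ≫ b1 = a1) (ha : Q a1) (hb : Q b1) : θ ⁻¹ᵁ W b1 hb = W a1 ha := by
  apply le_antisymm (W_preimage_le P Q W hWP hWmax a1 b1 θ hθ ha hb)
  intro x hx
  have h2 : inv θ ≫ a1 = b1 := by rw [← hθ, IsIso.inv_hom_id_assoc]
  have h3 := W_preimage_le P Q W hWP hWmax b1 a1 (inv θ) h2 hb ha
  apply h3
  show (inv θ) (θ x) ∈ W a1 ha
  have h4 : (inv θ) (θ x) = x := by
    rw [← Scheme.Hom.comp_apply, IsIso.hom_inv_id]; rfl
  rw [h4]; exact hx

end W

theorem main7510 (S : Scheme.{u}) (G : Grpd.GroupoidScheme S) {U' : Scheme.{u}} (g : U' ⟶ G.U)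
    (P Q Rp : MorphismProperty Scheme.{u}) [P.RespectsIso] (hRQ : Rp ≤ Q)
    [Q.IsStableUnderBaseChange] [Q.IsStableUnderComposition]
    (W : ∀ {X Y : Scheme.{u}} (f : X ⟶ Y), Q f → X.Opens)
    (hWP : ∀ {X Y : Scheme.{u}} (f : X ⟶ Y) (hf : Q f), P ((W f hf).ι ≫ f))
    (hWmax : ∀ {X Y : Scheme.{u}} (f : X ⟶ Y) (hf : Q f) (V : X.Opens),
      P (V.ι ≫ f) → V ≤ W f hf)
    (hWbc : ∀ {X Y Y' : Scheme.{u}} (f : X ⟶ Y) (hf : Q f) (b : Y' ⟶ Y), Rp b →
      ∀ hf' : Q (pullback.snd f b), pullback.fst f b ⁻¹ᵁ W f hf = W (pullback.snd f b) hf')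
    (hs : Rp G.s) (ht : Rp G.t) (hg : Q g) (hh : Q (pullback.snd g G.t ≫ G.s)) :
    ∃ V : U'.Opens, pullback.fst g G.t ⁻¹ᵁ V = W (pullback.snd g G.t ≫ G.s) hh := by
  have Qa1 : Q (pullback.snd (hmap G g) G.t) := MorphismProperty.pullback_snd _ _ hh
  have Qb1 : Q (pullback.snd (hmap G g) G.s) := MorphismProperty.pullback_snd _ _ hh
  have E1 := hWbc (hmap G g) hh G.t ht Qa1
  have E2 := hWbc (hmap G g) hh G.s hs Qb1
  have E3 := W_preimage_iso P Q W hWP hWmax (pullback.snd (hmap G g) G.t)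
    (pullback.snd (hmap G g) G.s) (theta G g) (theta_snd G g) Qa1 Qb1
  have m1 : ∀ y : ↥(pullback (hmap G g) G.t), y ∈ W (pullback.snd (hmap G g) G.t) Qa1 ↔
      pullback.fst (hmap G g) G.t y ∈ W (hmap G g) hh := fun y => by rw [← E1]; rfl
  have m2 : ∀ y : ↥(pullback (hmap G g) G.s), y ∈ W (pullback.snd (hmap G g) G.s) Qb1 ↔
      pullback.fst (hmap G g) G.s y ∈ W (hmap G g) hh := fun y => by rw [← E2]; rfl
  have m3 : ∀ y : ↥(pullback (hmap G g) G.t), y ∈ W (pullback.snd (hmap G g) G.t) Qa1 ↔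
      theta G g y ∈ W (pullback.snd (hmap G g) G.s) Qb1 := fun y => by rw [← E3]; rfl
  refine ⟨eprime G g ⁻¹ᵁ W (hmap G g) hh, ?_⟩
  ext x
  have h1 : eprime G g (pullback.fst g G.t x) =
      pullback.fst (hmap G g) G.s (theta G g (phi G g x)) := by
    rw [← Scheme.Hom.comp_apply, ← Scheme.Hom.comp_apply, ← Scheme.Hom.comp_apply,
      ← phi_theta_fst]
  have h2 : pullback.fst (hmap G g) G.t (phi G g x) = x := by
    rw [← Scheme.Hom.comp_apply, phi_fst]; rfl
  show eprime G g (pullback.fst g G.t x) ∈ W (hmap G g) hh ↔ x ∈ W (hmap G g) hh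
  rw [h1, ← m2, ← m3, m1, h2]

end Groth.Agent.Lib.GrpdLargestH4
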