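import Mathlib
import Groth.Prelude.Def_Grpd
import Groth.Agent.Lib.CMMor6_helper8
import Groth.Agent.Lib.CMLocusBC_helper5
import Groth.Agent.Lib.GrpdLargest_helper4
import Groth.Agent.Lib.GrpdRank_helper4
import Groth.Agent.Lib.FibStalkIso_helper5

/-!
# Cohen–Macaulay locus of a groupoid scheme (helper8)

APPEND-ONLY once landed.
-/

set_option autoImplicit false
universe u

namespace Groth.Agent.Lib.GrpdCMH8

open AlgebraicGeometry CategoryTheory Limits TopologicalSpace Topology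
open Groth.Agent.Lib.CMMorH8

variable {X Y : Scheme.{u}}

/-- The two notions of "Cohen–Macaulay at a point" agree. -/
theorem grpdIsCMAt_iff (f : X ⟶ Y) (x : X) : Grpd.IsCMAt f x ↔ MoreMor.IsCMAt f x := by
  constructor
  · rintro ⟨h1, h2⟩
    refine ⟨h1, ?_⟩
    haveI := h2
    exact Groth.Agent.FlatCM.isCMLocalRing_of_ringEquiv (Groth.Agent.FibStalkIso.fibStalkEquiv f x)
  · rintro ⟨h1, h2⟩
    refine ⟨h1, ?_⟩
    haveI := h2
    exact Groth.Agent.FlatCM.isCMLocalRing_of_ringEquiv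
      (Groth.Agent.FibStalkIso.fibStalkEquiv f x).symm

/-- CM-ness at a point is invariant under precomposition with an isomorphism. -/
theorem isCMAt_iso_comp_iff {A : Scheme.{u}} (θ : A ⟶ X) [IsIso θ] (f : X ⟶ Y) [Flat f]
    [LocallyOfFinitePresentation f] (a : A) :
    MoreMor.IsCMAt (θ ≫ f) a ↔ MoreMor.IsCMAt f (θ a) := by
  have hc : IsPullback θ (θ ≫ f) f (𝟙 Y) :=
    IsPullback.of_horiz_isIso ⟨by simp⟩
  have := Groth.Agent.CMLocusBC.main1342 f (θ ≫ f) θ (𝟙 Y) hc
  exact Set.ext_iff.1 this a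

end Groth.Agent.Lib.GrpdCMH8
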