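import Mathlib
import Groth.Agent.Lib.GrpdCM1_helper8

set_option autoImplicit false
universe u

namespace Groth.Agent.Lib.GrpdCMH8

open AlgebraicGeometry CategoryTheory Limits TopologicalSpace Topology
open Groth.Agent.Lib.CMMorH8

variable {X Y : Scheme.{u}}

/-- flat and locally of finite presentation -/
def Qprop : MorphismProperty Scheme.{u} := @Flat ⊓ @LocallyOfFinitePresentation

instance : Qprop.{u}.IsStableUnderBaseChange := by
  unfold Qprop; infer_instance

instance : Qprop.{u}.IsStableUnderComposition := by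
  unfold Qprop; infer_instance

/-- flat, locally of finite presentation and Cohen–Macaulay at all points -/
def Pprop : MorphismProperty Scheme.{u} := fun _ _ f =>
  Flat f ∧ LocallyOfFinitePresentation f ∧ ∀ x, MoreMor.IsCMAt f x

theorem isCMAt_comp_iso_iff {Z : Scheme.{u}} (f : X ⟶ Y) [Flat f]
    [LocallyOfFinitePresentation f] (φ : Y ⟶ Z) [IsIso φ] (x : X) :
    MoreMor.IsCMAt (f ≫ φ) x ↔ MoreMor.IsCMAt f x := by
  have hc : IsPullback (𝟙 X) f (f ≫ φ) φ :=
    IsPullback.of_horiz_isIso ⟨by simp⟩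
  have := Groth.Agent.CMLocusBC.main1342 (f ≫ φ) f (𝟙 X) φ hc
  exact (Set.ext_iff.1 this x).symm

instance : Pprop.{u}.RespectsIso := by
  apply MorphismProperty.RespectsIso.mk
  · intro A B C e f hf
    obtain ⟨h1, h2, h3⟩ := hf
    haveI := h1; haveI := h2
    refine ⟨inferInstance, inferInstance, fun a => ?_⟩
    exact (isCMAt_iso_comp_iff e.hom f a).2 (h3 _)
  · intro A B C e f hf
    obtain ⟨h1, h2, h3⟩ := hf
    haveI := h1; haveI := h2
    refine ⟨inferInstance, inferInstance, fun a => ?_⟩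
    exact (isCMAt_comp_iso_iff f e.hom a).2 (h3 _)

/-- the CM locus as an open -/
def Wopen {X Y : Scheme.{u}} (f : X ⟶ Y) (hf : Qprop f) : X.Opens :=
  ⟨{x | MoreMor.IsCMAt f x}, @isOpen_isCMAt _ _ f hf.2⟩

theorem hWP {X Y : Scheme.{u}} (f : X ⟶ Y) (hf : Qprop f) : Pprop ((Wopen f hf).ι ≫ f) := by
  haveI := hf.1; haveI := hf.2
  refine ⟨inferInstance, inferInstance, fun x => ?_⟩
  exact (isCMAt_ι_comp_iff f (Wopen f hf) x).2 x.2

theorem hWmax {X Y : Scheme.{u}} (f : X ⟶ Y) (hf : Qprop f) (V : X.Opens)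
    (hP : Pprop (V.ι ≫ f)) : V ≤ Wopen f hf := by
  haveI := hf.1; haveI := hf.2
  intro x hx
  exact (isCMAt_ι_comp_iff f V ⟨x, hx⟩).1 (hP.2.2 ⟨x, hx⟩)

theorem hWbc {X Y Y' : Scheme.{u}} (f : X ⟶ Y) (hf : Qprop f) (b : Y' ⟶ Y) (_ : Qprop b)
    (hf' : Qprop (pullback.snd f b)) :
    pullback.fst f b ⁻¹ᵁ Wopen f hf = Wopen (pullback.snd f b) hf' := by
  haveI := hf.1; haveI := hf.2
  ext x'
  have := Groth.Agent.CMLocusBC.main1342 f (pullback.snd f b) (pullback.fst f b) b
    (IsPullback.of_hasPullback f b)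
  exact (Set.ext_iff.1 this x').symm

end Groth.Agent.Lib.GrpdCMH8
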