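import Mathlib
import Groth.Agent.Lib.GrpdCM2_helper8

set_option autoImplicit false
universe u

namespace Groth.Agent.Lib.GrpdCMH8

open AlgebraicGeometry CategoryTheory Limits TopologicalSpace Topology
open Groth.Agent.Lib.CMMorH8 Grpd

variable {S : Scheme.{u}} (G : Grpd.GroupoidScheme S)

theorem exists_open_t_preimage [Flat G.s] [LocallyOfFinitePresentation G.s] [Flat G.t]
    [LocallyOfFinitePresentation G.t] :
    ∃ V : G.U.Opens, ∀ r : G.R, G.t r ∈ V ↔ MoreMor.IsCMAt G.s r := by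
  have hs : Qprop G.s := ⟨inferInstance, inferInstance⟩
  have ht : Qprop G.t := ⟨inferInstance, inferInstance⟩
  have hg : Qprop (𝟙 G.U) := ⟨inferInstance, inferInstance⟩
  have hh : Qprop (pullback.snd (𝟙 G.U) G.t ≫ G.s) := ⟨inferInstance, inferInstance⟩
  obtain ⟨V, hV⟩ := Groth.Agent.Lib.GrpdLargestH4.main7510 S G (𝟙 G.U) Pprop Qprop Qprop le_rfl
    (fun f hf => Wopen f hf) (fun f hf => hWP f hf) (fun f hf V hP => hWmax f hf V hP)
    (fun f hf b hb hf' => hWbc f hf b hb hf') hs ht hg hh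
  refine ⟨V, fun r => ?_⟩
  set θ := pullback.snd (𝟙 G.U) G.t with hθ
  obtain ⟨y, rfl⟩ : ∃ y, θ y = r := ⟨(inv θ) r, by
    rw [← Scheme.Hom.comp_apply, IsIso.inv_hom_id]; rfl⟩
  have h1 : pullback.fst (𝟙 G.U) G.t = θ ≫ G.t := by
    have := pullback.condition (f := 𝟙 G.U) (g := G.t)
    rw [Category.comp_id] at this
    exact this
  have h2 : y ∈ pullback.fst (𝟙 G.U) G.t ⁻¹ᵁ V ↔ y ∈ Wopen (θ ≫ G.s) hh := by rw [hV]
  have h3 : y ∈ pullback.fst (𝟙 G.U) G.t ⁻¹ᵁ V ↔ G.t (θ y) ∈ V := by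
    rw [h1]; rfl
  rw [← h3, h2]
  exact isCMAt_iso_comp_iff θ G.s y

theorem isCMAt_t_iff [Flat G.s] [LocallyOfFinitePresentation G.s] [Flat G.t]
    [LocallyOfFinitePresentation G.t] (r : G.R) :
    MoreMor.IsCMAt G.t r ↔ MoreMor.IsCMAt G.s (G.i r) := by
  haveI : IsIso G.i := Groth.Agent.Lib.GrpdRankH4.isIso_i G
  rw [← isCMAt_iso_comp_iff G.i G.s r]
  have : G.i ≫ G.s = G.t := G.i_s
  rw [this]

theorem main1936 [Flat G.s] [LocallyOfFinitePresentation G.s] [Flat G.t]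
    [LocallyOfFinitePresentation G.t] :
    ∃ U' : G.U.Opens, (G.t ⁻¹ᵁ U' : Set G.R) = {r | Grpd.IsCMAt G.s r} ∧
      (G.s ⁻¹ᵁ U' : Set G.R) = {r | Grpd.IsCMAt G.t r} ∧
      ⇑G.t '' (G.s ⁻¹ᵁ U' : Set G.R) = Set.univ ∧
      ⇑G.s '' (G.t ⁻¹ᵁ U' : Set G.R) = Set.univ := by
  obtain ⟨V, hV⟩ := exists_open_t_preimage G
  have hit : ∀ r : G.R, G.t (G.i r) = G.s r := fun r => by
    rw [← Scheme.Hom.comp_apply, G.i_t]
  have his : ∀ r : G.R, G.s (G.i r) = G.t r := fun r => by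
    rw [← Scheme.Hom.comp_apply, G.i_s]
  -- key: the CM locus of `s` meets every fibre of `s`
  have key : ∀ u : G.U, ∃ r : G.R, G.t r ∈ V ∧ G.s r = u := by
    intro u
    have hd := dense_isCMAt_fiber G.s u
    have hne : Nonempty (G.s.fiber u) := by
      have hu : G.s (G.e u) = u := by
        rw [← Scheme.Hom.comp_apply, G.e_s]; rfl
      obtain ⟨z, -⟩ := (G.s.range_fiberι u ▸ (show G.e u ∈ G.s ⁻¹' {u} from hu) :
        G.e u ∈ Set.range (G.s.fiberι u))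
      exact ⟨z⟩
    obtain ⟨z, hz⟩ := hd.nonempty
    refine ⟨G.s.fiberι u z, (hV _).2 hz, ?_⟩
    have : G.s.fiberι u z ∈ Set.range (G.s.fiberι u) := ⟨z, rfl⟩
    rw [G.s.range_fiberι u] at this
    exact this
  refine ⟨V, ?_, ?_, ?_, ?_⟩
  · ext r
    show G.t r ∈ V ↔ Grpd.IsCMAt G.s r
    rw [hV, grpdIsCMAt_iff]
  · ext r
    show G.s r ∈ V ↔ Grpd.IsCMAt G.t r
    rw [grpdIsCMAt_iff, isCMAt_t_iff, ← hV, hit]
  · rw [Set.eq_univ_iff_forall]
    intro u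
    obtain ⟨r, hr1, hr2⟩ := key u
    refine ⟨G.i r, ?_, ?_⟩
    · show G.s (G.i r) ∈ V
      rw [his]; exact hr1
    · rw [hit]; exact hr2
  · rw [Set.eq_univ_iff_forall]
    intro u
    obtain ⟨r, hr1, hr2⟩ := key u
    exact ⟨r, hr1, hr2⟩

end Groth.Agent.Lib.GrpdCMH8
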