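import Mathlib

/-!
# Prime avoidance for affine opens (helper6)

Inside an affine open `V`, an open `W' ≤ V` containing a finite set of points contains a basic
open `D(f)`, `f ∈ Γ(V)`, which still contains the finite set.
-/

set_option autoImplicit false
universe u

open CategoryTheory AlgebraicGeometry TopologicalSpace

namespace Groth.Agent.Lib.GrpdInvOpenH6

theorem exists_basicOpen_le_of_finite {X : Scheme.{u}} {V : X.Opens} (hV : IsAffineOpen V)
    (W' : X.Opens) (T : Set X) (hfin : T.Finite) (hT : T ⊆ W') (hTV : T ⊆ V) :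
    ∃ f : Γ(X, V), X.basicOpen f ≤ W' ∧ T ⊆ X.basicOpen f := by
  classical
  -- the closed complement of the preimage of `W'` in `Spec Γ(V)`
  obtain ⟨Z, hZ⟩ : ∃ Z : Set (PrimeSpectrum Γ(X, V)), Z = {p | hV.fromSpec p ∉ W'} :=
    ⟨_, rfl⟩
  have hZcl : IsClosed Z := by
    rw [hZ]
    have : IsOpen {p : PrimeSpectrum Γ(X, V) | hV.fromSpec p ∈ W'} :=
      W'.2.preimage hV.fromSpec.continuous
    exact isClosed_compl_iff.mpr this
  obtain ⟨I, hI⟩ : ∃ I : Ideal Γ(X, V), I = PrimeSpectrum.vanishingIdeal Z := ⟨_, rfl⟩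
  have hzI : PrimeSpectrum.zeroLocus (I : Set Γ(X, V)) = Z := by
    rw [hI, PrimeSpectrum.zeroLocus_vanishingIdeal_eq_closure, hZcl.closure_eq]
  -- the primes of the finite set
  have hinj : Function.Injective hV.fromSpec := hV.fromSpec.isOpenEmbedding.injective
  obtain ⟨P, hP⟩ : ∃ P : Set (PrimeSpectrum Γ(X, V)), P = ⇑hV.fromSpec ⁻¹' T := ⟨_, rfl⟩
  have hPfin : P.Finite := by
    rw [hP]; exact hfin.preimage (Set.injOn_of_injective hinj)
  have hnot : ∀ p ∈ P, ¬ I ≤ p.asIdeal := by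
    intro p hp hle
    have hpZ : p ∈ Z := by
      rw [← hzI]; exact (PrimeSpectrum.mem_zeroLocus p _).mpr hle
    rw [hZ] at hpZ
    apply hpZ
    rw [hP] at hp
    exact hT hp
  have havoid : ¬ ((I : Set Γ(X, V)) ⊆ ⋃ p ∈ (hPfin.toFinset : Set (PrimeSpectrum Γ(X, V))),
      (p.asIdeal : Set Γ(X, V))) := by
    intro hsub
    by_cases hne : hPfin.toFinset.Nonempty
    · obtain ⟨a, ha⟩ := hne
      obtain ⟨p, hp, hle⟩ := (Ideal.subset_union_prime (s := hPfin.toFinset)
        (f := fun p : PrimeSpectrum Γ(X, V) => p.asIdeal) a a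
        (fun p _ _ _ => p.2)).mp hsub
      exact hnot p (hPfin.mem_toFinset.mp hp) hle
    · rw [Finset.not_nonempty_iff_eq_empty] at hne
      rw [hne] at hsub
      simp only [Finset.coe_empty, Set.mem_empty_iff_false, Set.iUnion_of_empty,
        Set.iUnion_empty, Set.subset_empty_iff] at hsub
      have : (0 : Γ(X, V)) ∈ (I : Set Γ(X, V)) := I.zero_mem
      rw [hsub] at this
      exact this
  obtain ⟨f, hfI, hfP⟩ := Set.not_subset.mp havoid
  refine ⟨f, ?_, ?_⟩
  · -- `D(f) ≤ W'`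
    intro y hy
    have hyV : y ∈ V := X.basicOpen_le f hy
    obtain ⟨p, rfl⟩ : ∃ p, hV.fromSpec p = y := by
      have : y ∈ Set.range hV.fromSpec := by rw [hV.range_fromSpec]; exact hyV
      exact this
    have hpf : p ∈ hV.fromSpec ⁻¹ᵁ X.basicOpen f := hy
    rw [hV.fromSpec_preimage_basicOpen] at hpf
    have hpZ : p ∉ Z := by
      intro hpZ
      rw [← hzI] at hpZ
      exact hpf ((PrimeSpectrum.mem_zeroLocus p _).mp hpZ hfI)
    rw [hZ] at hpZ
    by_contra hcon
    exact hpZ hcon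
  · intro x hx
    obtain ⟨p, rfl⟩ : ∃ p, hV.fromSpec p = x := by
      have : x ∈ Set.range hV.fromSpec := by rw [hV.range_fromSpec]; exact hTV hx
      exact this
    show p ∈ hV.fromSpec ⁻¹ᵁ X.basicOpen f
    rw [hV.fromSpec_preimage_basicOpen]
    intro hfp
    apply hfP
    simp only [Set.mem_iUnion]
    refine ⟨p, ?_, hfp⟩
    rw [Finset.mem_coe, hPfin.mem_toFinset, hP]
    exact hx

end Groth.Agent.Lib.GrpdInvOpenH6
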