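import Mathlib
import Groth.Prelude.Def_Grpd
import Groth.Agent.Lib.GrpdInvOpen1_helper6
import Groth.Agent.Lib.GrpdInvOpen2_helper6
import Groth.Agent.Lib.GrpdInvOpen3_helper6

/-!
# Invariant affine open neighbourhoods for finite locally free groupoids (helper6)
-/

set_option autoImplicit false
set_option linter.style.haveILetI false
universe u

open CategoryTheory CategoryTheory.Limits AlgebraicGeometry Grpd TopologicalSpace

namespace Groth.Agent.Lib.GrpdInvOpenH6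

variable {S : Scheme.{u}} (G : GroupoidScheme S)

theorem main1881 [IsFinite G.s] [Flat G.s] [LocallyOfFinitePresentation G.s]
    (u : G.U) (V : G.U.Opens) (hV : IsAffineOpen V)
    (huV : ∀ r : G.R, G.s r = u → G.t r ∈ V) :
    ∃ W : G.U.Opens, IsAffineOpen W ∧ u ∈ W ∧ G.s ⁻¹ᵁ W = G.t ⁻¹ᵁ W := by
  classical
  -- the largest invariant open in `V`
  obtain ⟨W', hW'⟩ : ∃ W' : G.U.Opens, (W' : Set G.U) = orbIn G (V : Set G.U) :=
    ⟨⟨orbIn G (V : Set G.U), isOpen_orbIn G V.2⟩, rfl⟩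
  have hW'V : W' ≤ V := by
    intro x hx
    have : x ∈ orbIn G (V : Set G.U) := by rw [← hW']; exact hx
    exact orbIn_subset G _ this
  have hu' : u ∈ orbIn G (V : Set G.U) := huV
  -- the orbit of `u`
  obtain ⟨T, hT⟩ : ∃ T : Set G.U, T = ⇑G.t '' (⇑G.s ⁻¹' {u}) := ⟨_, rfl⟩
  have hTfin : T.Finite := by
    rw [hT]; exact (G.s.finite_preimage_singleton u).image _
  have hTW' : T ⊆ W' := by
    rw [hT]
    rintro _ ⟨r, hr, rfl⟩
    show G.t r ∈ (W' : Set G.U)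
    rw [hW']
    exact mem_orbIn_of_source G hu' r hr
  have huT : u ∈ T := by
    rw [hT]; exact ⟨G.e u, s_e G u, t_e G u⟩
  obtain ⟨f, hfW', hTf⟩ := exists_basicOpen_le_of_finite hV W' T hTfin hTW'
    (fun x hx => hW'V (hTW' hx))
  obtain ⟨W₁, hW₁⟩ : ∃ W₁ : G.U.Opens, W₁ = G.U.basicOpen f := ⟨_, rfl⟩
  have hW₁aff : IsAffineOpen W₁ := by rw [hW₁]; exact hV.basicOpen f
  have hle : G.s ⁻¹ᵁ W₁ ≤ G.t ⁻¹ᵁ V := by
    intro r hr
    have h1 : G.s r ∈ W' := hfW' (by rw [← hW₁]; exact hr)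
    have h2 : G.s r ∈ orbIn G (V : Set G.U) := by rw [← hW']; exact h1
    exact h2 r rfl
  obtain ⟨F, hFdef⟩ : ∃ F : Γ(G.R, G.s ⁻¹ᵁ W₁), F = (G.t.appLE V (G.s ⁻¹ᵁ W₁) hle).hom f :=
    ⟨_, rfl⟩
  have hF : ∀ r : G.R, r ∈ G.s ⁻¹ᵁ W₁ → (r ∈ G.R.basicOpen F ↔ G.t r ∈ W₁) := by
    intro r hr
    have h1 : G.R.basicOpen F = G.s ⁻¹ᵁ W₁ ⊓ G.t ⁻¹ᵁ (G.U.basicOpen f) := by
      rw [hFdef, Scheme.Hom.appLE, CommRingCat.hom_comp, RingHom.comp_apply,
        Scheme.basicOpen_res, Scheme.preimage_basicOpen]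
    rw [h1, hW₁]
    constructor
    · intro h; exact h.2
    · intro h; exact ⟨by rw [← hW₁]; exact hr, h⟩
  obtain ⟨g, hg⟩ := exists_norm_basicOpen G.s hW₁aff F
  have hW₂ : (G.U.basicOpen g : Set G.U) = orbIn G (W₁ : Set G.U) := by
    ext x
    constructor
    · intro hx
      have hx1 : x ∈ W₁ := G.U.basicOpen_le g hx
      intro r hr
      have hrW : r ∈ G.s ⁻¹ᵁ W₁ := by show G.s r ∈ W₁; rw [hr]; exact hx1
      exact (hF r hrW).mp ((hg x hx1).mp hx r hr)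
    · intro hx
      have hx1 : x ∈ W₁ := orbIn_subset G _ hx
      refine (hg x hx1).mpr fun r hr => ?_
      have hrW : r ∈ G.s ⁻¹ᵁ W₁ := by show G.s r ∈ W₁; rw [hr]; exact hx1
      exact (hF r hrW).mpr (hx r hr)
  refine ⟨G.U.basicOpen g, hW₁aff.basicOpen g, ?_, ?_⟩
  · show u ∈ (G.U.basicOpen g : Set G.U)
    rw [hW₂]
    intro r hr
    show G.t r ∈ W₁
    rw [hW₁]
    exact hTf (by rw [hT]; exact ⟨r, hr, rfl⟩)
  · apply Opens.ext
    show ⇑G.s ⁻¹' (G.U.basicOpen g : Set G.U) = ⇑G.t ⁻¹' (G.U.basicOpen g : Set G.U)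
    rw [hW₂]
    exact preimage_orbIn G _

end Groth.Agent.Lib.GrpdInvOpenH6
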