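import Groth.Agent.Lib.GrpdRestr2_helper7
import Groth.Agent.Lib.GrpdInvOpen4_helper6
import Groth.Agent.Lib.AlgSpGlue4_helper7
import Groth.Agent.Lib.AlgSpImage_helper7

/-!
# The quotient of a finite locally free groupoid whose orbits lie in affine opens (helper7)

`main10235`: the fppf quotient sheaf `U/R` is a scheme `M`, `U ⟶ M` is finite locally free and
`R = U ×_M U`.
-/

set_option backward.isDefEq.respectTransparency false
set_option backward.isDefEq.respectTransparency.types false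
set_option linter.style.haveILetI false
set_option linter.unusedSectionVars false
set_option linter.unusedVariables false
set_option autoImplicit false
set_option maxHeartbeats 1600000

universe u

open CategoryTheory CategoryTheory.Limits AlgebraicGeometry Grpd Opposite

namespace Groth.Agent.Lib.GrpdRestr3H7

open AlgSp Groth.Agent.Lib.GrpdRestrH7 Groth.Agent.Lib.GrpdRestr2H7
  Groth.Agent.Lib.AlgSpQuotEffH7
  Groth.Agent.Lib.AlgSpPullback_helper7 Groth.Agent.Lib.AlgSpOpenSub_helper7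
  Groth.Agent.Lib.AlgSpGlueH7 Groth.Agent.Lib.AlgSpPoints_helper7
  Groth.Agent.Lib.AlgSpImage_helper7 Groth.Agent.Lib.AlgSpGlue4H7

variable {S : Scheme.{u}}

/-- An epimorphism of sheaves from a scheme is surjective on points. -/
theorem ofPt_surjective_of_epi {F : Sp S} {U : Over S} (p : (yon S).obj U ⟶ F) [Epi p] :
    Function.Surjective (Points.ofPt p) := by
  intro x
  obtain ⟨q, rfl⟩ := Points.mk_surjective x
  obtain ⟨T', c, l, -, -, ⟨τ', hτ'⟩, hl⟩ :=
    exists_local_lift_of_epi p q.toHom (IsLocalRing.closedPoint q.K)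
  obtain ⟨b, rfl⟩ := (yon S).map_surjective l
  refine ⟨b.left τ', ?_⟩
  rw [← ofPt_comp, hl, ofPt_comp, Points.ofPt_toHom]

variable (G : GroupoidScheme S)

local notation "repIso" => QuotSh.repIsoUliftYoneda Scheme.fppfPrecoverage

/-- Saturation of an invariant open under the equivalence relation on points of the quotient. -/
theorem mem_of_ofPt_eq (heq : IsEqvRel (sO G) (tO G)) (W : G.U.Opens)
    (hW : G.s ⁻¹ᵁ W = G.t ⁻¹ᵁ W) (u w : G.U) (hw : w ∈ W)
    (h : Points.ofPt (quotP (sO G) (tO G)) u = Points.ofPt (quotP (sO G) (tO G)) w) : u ∈ W := by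
  obtain ⟨ρ, h1, h2⟩ := exists_ofPt_eq_of_isPullback (isPullback_quot (sO G) (tO G) heq) u w h
  have h1' : G.t ρ = u := h1
  have h2' : G.s ρ = w := h2
  have h3 : ρ ∈ G.s ⁻¹ᵁ W := by
    show G.s ρ ∈ W
    rw [h2']
    exact hw
  rw [hW] at h3
  rw [← h1']
  exact h3

/-- Invariant affine opens cover `U`. -/
theorem exists_invariant_affine (hs : Mor2.IsFinLocFree G.s)
    (h3 : ∀ Z : Set ↥G.U, IsClosed Z → Z.Nonempty →
      ∃ u ∈ Z, ∃ W : G.U.Opens, IsAffineOpen W ∧ ∀ r : ↥G.R, G.s r = u → G.t r ∈ W) (u : G.U) :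
    ∃ W : G.U.Opens, IsAffineOpen W ∧ G.s ⁻¹ᵁ W = G.t ⁻¹ᵁ W ∧ u ∈ W := by
  obtain ⟨hs1, hs2, hs3⟩ := hs
  haveI := hs1
  haveI := hs2
  haveI := hs3
  by_contra hcon
  obtain ⟨A, hA⟩ : ∃ A : Set G.U, A = ⋃ W : {W : G.U.Opens // IsAffineOpen W ∧
      G.s ⁻¹ᵁ W = G.t ⁻¹ᵁ W}, (W.1 : Set G.U) := ⟨_, rfl⟩
  have hAo : IsOpen A := by
    rw [hA]
    exact isOpen_iUnion (fun W => W.1.2)
  have huA : u ∉ A := by
    rw [hA]
    rintro ⟨_, ⟨W, rfl⟩, huW⟩
    exact hcon ⟨W.1, W.2.1, W.2.2, huW⟩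
  obtain ⟨v, hvZ, V, hV, hvV⟩ := h3 Aᶜ hAo.isClosed_compl ⟨u, huA⟩
  obtain ⟨W, hWa, hvW, hWinv⟩ := Groth.Agent.Lib.GrpdInvOpenH6.main1881 G v V hV hvV
  apply hvZ
  rw [hA]
  exact Set.mem_iUnion.2 ⟨⟨W, hWa, hWinv⟩, hvW⟩

/-- The chart square: `W = U ×_{U/R} M_W`. -/
theorem isPullback_chart (heq : IsEqvRel (sO G) (tO G)) (W : G.U.Opens)
    (hW : G.s ⁻¹ᵁ W = G.t ⁻¹ᵁ W) {M : Over S} (q : Over.mk (W.ι ≫ G.pU) ⟶ M)
    (f : (yon S).obj M ⟶ QuotSh.quot Scheme.fppfPrecoverage (sO G) (tO G))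
    (hq : Epi ((yon S).map q)) (hf : Mono f)
    (hqf : (yon S).map q ≫ f =
      (yon S).map (Over.homMk W.ι rfl : Over.mk (W.ι ≫ G.pU) ⟶ UO G) ≫ quotP (sO G) (tO G)) :
    IsPullback ((yon S).map (Over.homMk W.ι rfl : Over.mk (W.ι ≫ G.pU) ⟶ UO G))
      ((yon S).map q) (quotP (sO G) (tO G)) f := by
  haveI := hq
  haveI := hf
  haveI : Mono (Over.homMk W.ι rfl : Over.mk (W.ι ≫ G.pU) ⟶ UO G) :=
    (Over.forget S).mono_of_mono_map (inferInstanceAs (Mono W.ι))
  refine isPullback_of_forall_yon hqf.symm (fun T α β hαβ => ?_)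
  obtain ⟨a, rfl⟩ := (yon S).map_surjective α
  have hrange : Set.range a.left ⊆ Set.range W.ι := by
    rw [Scheme.Opens.range_ι]
    rintro _ ⟨τ, rfl⟩
    obtain ⟨w', hw'⟩ := ofPt_surjective_of_epi ((yon S).map q) (Points.ofPt β τ)
    have e1 : Points.ofPt (quotP (sO G) (tO G)) (a.left τ) =
        Points.ofPt (quotP (sO G) (tO G)) (W.ι w') := by
      calc Points.ofPt (quotP (sO G) (tO G)) (a.left τ)
          = Points.ofPt ((yon S).map a ≫ quotP (sO G) (tO G)) τ := (ofPt_comp _ _ _).symm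
        _ = Points.ofPt (β ≫ f) τ := by rw [hαβ]
        _ = Points.map f (Points.ofPt β τ) := (Points.map_ofPt _ _ _).symm
        _ = Points.map f (Points.ofPt ((yon S).map q) w') := by rw [hw']
        _ = Points.ofPt ((yon S).map q ≫ f) w' := Points.map_ofPt _ _ _
        _ = Points.ofPt ((yon S).map (Over.homMk W.ι rfl : Over.mk (W.ι ≫ G.pU) ⟶ UO G) ≫
              quotP (sO G) (tO G)) w' := by rw [hqf]
        _ = Points.ofPt (quotP (sO G) (tO G)) (W.ι w') := ofPt_comp _ _ _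
    have hw'W : W.ι w' ∈ W := by
      have := Set.mem_range_self (f := W.ι) w'
      rw [Scheme.Opens.range_ι] at this
      exact this
    exact mem_of_ofPt_eq G heq W hW _ _ hw'W e1
  obtain ⟨a₀, ha₀⟩ : ∃ a₀ : T ⟶ Over.mk (W.ι ≫ G.pU),
      a₀ ≫ (Over.homMk W.ι rfl : Over.mk (W.ι ≫ G.pU) ⟶ UO G) = a := by
    refine ⟨Over.homMk (IsOpenImmersion.lift W.ι a.left hrange) ?_, ?_⟩
    · show IsOpenImmersion.lift W.ι a.left hrange ≫ W.ι ≫ G.pU = T.hom
      rw [← Category.assoc, IsOpenImmersion.lift_fac]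
      exact Over.w a
    · ext
      show IsOpenImmersion.lift W.ι a.left hrange ≫ W.ι = a.left
      exact IsOpenImmersion.lift_fac _ _ _
  refine ⟨(yon S).map a₀, ⟨?_, ?_⟩, ?_⟩
  · rw [← Functor.map_comp, ha₀]
  · rw [← cancel_mono f, Category.assoc, hqf, ← Category.assoc, ← Functor.map_comp, ha₀, hαβ]
  · rintro γ ⟨hγ1, -⟩
    obtain ⟨c, rfl⟩ := (yon S).map_surjective γ
    congr 1
    rw [← cancel_mono (Over.homMk W.ι rfl : Over.mk (W.ι ≫ G.pU) ⟶ UO G), ha₀]
    apply (yon S).map_injective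
    rw [Functor.map_comp]
    exact hγ1

/-- **The quotient of a finite locally free groupoid** all of whose orbits lie in affine opens. -/
theorem main10235 (hs : Mor2.IsFinLocFree G.s) (ht : Mor2.IsFinLocFree G.t)
    (heq : IsEqvRel (sO G) (tO G))
    (h3 : ∀ Z : Set ↥G.U, IsClosed Z → Z.Nonempty →
      ∃ u ∈ Z, ∃ W : G.U.Opens, IsAffineOpen W ∧ ∀ r : ↥G.R, G.s r = u → G.t r ∈ W) :
    ∃ (M : Over S) (m : Over.mk G.pU ⟶ M), Mor2.IsFinLocFree m.left ∧
      IsPullback G.t G.s m.left m.left ∧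
      QuotSh.IsQuotient Scheme.fppfPrecoverage (sO G) (tO G) m := by
  -- the index type of invariant affine opens
  obtain ⟨ι, hι⟩ : ∃ ι : Type u, ι = {W : G.U.Opens // IsAffineOpen W ∧
      G.s ⁻¹ᵁ W = G.t ⁻¹ᵁ W} := ⟨_, rfl⟩
  subst hι
  have hchart := fun W : {W : G.U.Opens // IsAffineOpen W ∧ G.s ⁻¹ᵁ W = G.t ⁻¹ᵁ W} =>
    exists_chart G hs ht heq W.1 W.2.1 W.2.2
  choose M q f hqfl hqepi hfopen hqf using hchart
  have hfmono : ∀ W, Mono (f W) := fun W => mono_of_openImmersion (f W) (hfopen W)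
  haveI hpepi : Epi (quotP (sO G) (tO G)) :=
    (Sheaf.isLocallySurjective_iff_epi _).1 (isLocallySurjective_quotP _ _)
  -- covering
  have hcov : ∀ x : Points (QuotSh.quot Scheme.fppfPrecoverage (sO G) (tO G)),
      ∃ W, x ∈ Set.range (Points.map (f W)) := by
    intro x
    obtain ⟨u, rfl⟩ := ofPt_surjective_of_epi (quotP (sO G) (tO G)) x
    obtain ⟨W, hWa, hWinv, huW⟩ := exists_invariant_affine G hs h3 u
    refine ⟨⟨W, hWa, hWinv⟩, ?_⟩
    obtain ⟨u', hu'⟩ : ∃ u' : W.toScheme, W.ι u' = u := by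
      have : u ∈ Set.range W.ι := by
        rw [Scheme.Opens.range_ι]
        exact huW
      exact this
    refine ⟨Points.ofPt ((yon S).map (q ⟨W, hWa, hWinv⟩)) u', ?_⟩
    rw [Points.map_ofPt, hqf, ofPt_comp]
    exact congrArg _ hu'
  obtain ⟨Y', e, j, hj1, hj2, hj3⟩ := exists_iso_of_openCover_points f hfopen hcov
  -- the quotient map
  obtain ⟨m, hm⟩ : ∃ m : UO G ⟶ Y', (yon S).map m = quotP (sO G) (tO G) ≫ e.inv :=
    ⟨(yon S).preimage _, (yon S).map_preimage _⟩
  have hjf : ∀ W, (yon S).map (j W) = f W ≫ e.inv := fun W => by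
    rw [← hj1 W, Category.assoc, Iso.hom_inv_id, Category.comp_id]
  -- `R = U ×_M U`
  have sqR : IsPullback G.t G.s m.left m.left := by
    have pbq := isPullback_quot (sO G) (tO G) heq
    have pb1 : IsPullback ((yon S).map (tO G)) ((yon S).map (sO G)) ((yon S).map m)
        ((yon S).map m) := by
      rw [hm]
      exact (Groth.Agent.Lib.AlgSpBasic_helper7.isPullback_comp_mono_iff e.inv).2 pbq
    have pb2 : IsPullback (tO G) (sO G) m m :=
      IsPullback.of_map (yon S) ((yon S).map_injective (by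
        rw [Functor.map_comp, Functor.map_comp]; exact pb1.w)) pb1
    exact pb2.map (Over.forget S)
  -- the chart squares
  have sqW : ∀ W : {W : G.U.Opens // IsAffineOpen W ∧ G.s ⁻¹ᵁ W = G.t ⁻¹ᵁ W},
      IsPullback W.1.ι (q W).left m.left (j W).left := by
    intro W
    have pb0 := isPullback_chart G heq W.1 W.2.2 (q W) (f W) (hqepi W) (hfmono W) (hqf W)
    have pb1 : IsPullback ((yon S).map (Over.homMk W.1.ι rfl : Over.mk (W.1.ι ≫ G.pU) ⟶ UO G))
        ((yon S).map (q W)) ((yon S).map m) ((yon S).map (j W)) := by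
      rw [hm, hjf W]
      exact (Groth.Agent.Lib.AlgSpBasic_helper7.isPullback_comp_mono_iff e.inv).2 pb0
    have pb2 : IsPullback (Over.homMk W.1.ι rfl : Over.mk (W.1.ι ≫ G.pU) ⟶ UO G) (q W) m (j W) :=
      IsPullback.of_map (yon S) ((yon S).map_injective (by
        rw [Functor.map_comp, Functor.map_comp]; exact pb1.w)) pb1
    exact pb2.map (Over.forget S)
  -- the open cover of `M`
  let 𝒰 : Y'.left.OpenCover :=
    Scheme.Cover.mkOfCovers {W : G.U.Opens // IsAffineOpen W ∧ G.s ⁻¹ᵁ W = G.t ⁻¹ᵁ W}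
      (fun W => (M W).left) (fun W => (j W).left)
      (fun y => by
        obtain ⟨W, x, hx⟩ := hj3 y
        exact ⟨W, x, hx⟩)
      (fun W => hj2 W)
  have hlocal : ∀ (P : MorphismProperty Scheme.{u}) [IsZariskiLocalAtTarget P],
      (∀ W, P (q W).left) → P m.left := by
    intro P _ hP
    refine IsZariskiLocalAtTarget.of_openCover 𝒰 (fun W => ?_)
    show P (pullback.snd m.left (j W).left)
    rw [← P.cancel_left_of_respectsIso (sqW W).isoPullback.hom, (sqW W).isoPullback_hom_snd]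
    exact hP W
  have hmfl : Mor2.IsFinLocFree m.left :=
    ⟨hlocal @IsFinite (fun W => (hqfl W).1), hlocal @Flat (fun W => (hqfl W).2.1),
      hlocal @LocallyOfFinitePresentation (fun W => (hqfl W).2.2)⟩
  -- the quotient property
  have w : sO G ≫ m = tO G ≫ m := by
    apply (yon S).map_injective
    rw [Functor.map_comp, Functor.map_comp, hm, ← Category.assoc, quotP_condition, Category.assoc]
  have hπ : QuotSh.quotπ Scheme.fppfPrecoverage (sO G) (tO G) ≫
      QuotSh.quotDesc Scheme.fppfPrecoverage m w = QuotSh.repMap Scheme.fppfPrecoverage m := by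
    unfold QuotSh.quotπ QuotSh.quotDesc
    exact coequalizer.π_desc _ _
  haveI : Epi (QuotSh.quotπ Scheme.fppfPrecoverage (sO G) (tO G)) := by
    unfold QuotSh.quotπ QuotSh.quot
    exact coequalizer.π_epi
  have hπ' : QuotSh.quotπ Scheme.fppfPrecoverage (sO G) (tO G) =
      (repIso (UO G)).hom ≫ quotP (sO G) (tO G) := by
    unfold quotP
    rw [Iso.hom_inv_id_assoc]
  have key : QuotSh.quotDesc Scheme.fppfPrecoverage m w = e.inv ≫ (repIso Y').inv := by
    rw [← cancel_epi (QuotSh.quotπ Scheme.fppfPrecoverage (sO G) (tO G)), hπ, hπ', Category.assoc,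
      ← Category.assoc (quotP (sO G) (tO G)), ← hm, yon_map_comp_repIso_inv,
      Iso.hom_inv_id_assoc]
  have hiso : IsIso (QuotSh.quotDesc Scheme.fppfPrecoverage m w) := by
    rw [key]
    infer_instance
  exact ⟨Y', m, hmfl, sqR, w, hiso⟩

end Groth.Agent.Lib.GrpdRestr3H7
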