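import Mathlib
import Groth.Prelude.Def_Grpd
import Groth.Agent.Lib.GrpdRestr3_helper7
import Groth.Agent.Lib.FinLocFreeQuotSep_helper6
import Groth.Agent.Lib.GrpdRank_helper4

/-!
# Coequalizers of finite locally free equivalence relations (helper7)

For a groupoid scheme with `s` finite locally free, `j = (t, s)` a monomorphism and orbits contained
in affine opens, every coequalizer `p : U ⟶ Y` of `(t, s)` in schemes is finite locally free and
`R = U ×_Y U` (SGA 3 V Théorème 4.1 (ii)); assembled from `GrpdRestr3H7.main10235`.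
-/

set_option backward.isDefEq.respectTransparency false
set_option backward.isDefEq.respectTransparency.types false
set_option linter.style.haveILetI false
set_option linter.unusedSectionVars false
set_option linter.unusedVariables false
set_option autoImplicit false
set_option maxHeartbeats 1600000

universe u

open CategoryTheory CategoryTheory.Limits AlgebraicGeometry TopologicalSpace

namespace Groth.Agent.Lib.GrpdCoeqH7

open Groth.Agent.Lib.GrpdRestr2H7

variable {S : Scheme.{u}} (G : Grpd.GroupoidScheme S)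

/-- A groupoid scheme with `j` a monomorphism is an equivalence relation. -/
theorem isEqvRel_of_mono_j [Mono G.j] : AlgSp.IsEqvRel (sO G) (tO G) where
  injective T r r' h1 h2 := by
    have e1 : r.left ≫ G.t = r'.left ≫ G.t := congrArg (fun k => k.left) h1
    have e2 : r.left ≫ G.s = r'.left ≫ G.s := congrArg (fun k => k.left) h2
    have e3 : r.left ≫ G.j = r'.left ≫ G.j := by
      unfold Grpd.GroupoidScheme.j
      apply pullback.hom_ext
      · rw [Category.assoc, Category.assoc, pullback.lift_fst]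
        exact e1
      · rw [Category.assoc, Category.assoc, pullback.lift_snd]
        exact e2
    have e4 : r.left = r'.left := (cancel_mono G.j).mp e3
    exact Over.OverMorphism.ext e4
  equivalence T := by
    have hmk : ∀ (ρ : T.left ⟶ G.R) (a : T ⟶ UO G), ρ ≫ G.t = a.left → ρ ≫ G.pR = T.hom := by
      intro ρ a h
      rw [← G.t_over, ← Category.assoc, h]
      exact Over.w a
    refine ⟨fun a => ?_, fun {a b} => ?_, fun {a b c} => ?_⟩
    · have h1 : (a.left ≫ G.e) ≫ G.t = a.left := by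
        rw [Category.assoc, G.e_t]
        exact Category.comp_id _
      have h2 : (a.left ≫ G.e) ≫ G.s = a.left := by
        rw [Category.assoc, G.e_s]
        exact Category.comp_id _
      refine ⟨Over.homMk (a.left ≫ G.e) (hmk _ a h1), ?_, ?_⟩
      · exact Over.OverMorphism.ext h1
      · exact Over.OverMorphism.ext h2
    · rintro ⟨r, hr1, hr2⟩
      have e1 : r.left ≫ G.t = a.left := congrArg (fun k => k.left) hr1
      have e2 : r.left ≫ G.s = b.left := congrArg (fun k => k.left) hr2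
      have h1 : (r.left ≫ G.i) ≫ G.t = b.left := by
        rw [Category.assoc, G.i_t]
        exact e2
      have h2 : (r.left ≫ G.i) ≫ G.s = a.left := by
        rw [Category.assoc, G.i_s]
        exact e1
      refine ⟨Over.homMk (r.left ≫ G.i) (hmk _ b h1), ?_, ?_⟩
      · exact Over.OverMorphism.ext h1
      · exact Over.OverMorphism.ext h2
    · rintro ⟨r₁, hr1, hr2⟩ ⟨r₂, hr3, hr4⟩
      have e1 : r₁.left ≫ G.t = a.left := congrArg (fun k => k.left) hr1
      have e2 : r₁.left ≫ G.s = b.left := congrArg (fun k => k.left) hr2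
      have e3 : r₂.left ≫ G.t = b.left := congrArg (fun k => k.left) hr3
      have e4 : r₂.left ≫ G.s = c.left := congrArg (fun k => k.left) hr4
      have hcond : r₁.left ≫ G.s = r₂.left ≫ G.t := e2.trans e3.symm
      have h1 : (pullback.lift r₁.left r₂.left hcond ≫ G.c) ≫ G.t = a.left :=
        (G.comp_t r₁.left r₂.left hcond).trans e1
      have h2 : (pullback.lift r₁.left r₂.left hcond ≫ G.c) ≫ G.s = c.left :=
        (G.comp_s r₁.left r₂.left hcond).trans e4
      refine ⟨Over.homMk (pullback.lift r₁.left r₂.left hcond ≫ G.c) (hmk _ a h1), ?_, ?_⟩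
      · exact Over.OverMorphism.ext h1
      · exact Over.OverMorphism.ext h2

theorem isFinLocFree_t (hs : Mor2.IsFinLocFree G.s) : Mor2.IsFinLocFree G.t := by
  obtain ⟨h1, h2, h3⟩ := hs
  haveI := h1
  haveI := h2
  haveI := h3
  haveI : IsIso G.i := Groth.Agent.Lib.GrpdRankH4.isIso_i G
  refine ⟨?_, ?_, ?_⟩
  · rw [← G.i_s]; infer_instance
  · rw [← G.i_s]; infer_instance
  · rw [← G.i_s]; infer_instance

/-- SGA 3 V 4.1 (ii) for an arbitrary coequalizer. -/
theorem main4086 (ha : Mor2.IsFinLocFree G.s)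
    (hb : ∀ x : G.U, ∃ V : G.U.Opens, IsAffineOpen V ∧
      G.t.base '' (G.s.base ⁻¹' {x}) ⊆ (V : Set G.U))
    [Mono G.j] (Y : Scheme.{u}) (p : G.U ⟶ Y) (w : G.t ≫ p = G.s ≫ p)
    (hc : IsColimit (Cofork.ofπ p w)) :
    IsPullback G.t G.s p p ∧ Mor2.IsFinLocFree p := by
  have h3 : ∀ Z : Set ↥G.U, IsClosed Z → Z.Nonempty →
      ∃ u ∈ Z, ∃ W : G.U.Opens, IsAffineOpen W ∧ ∀ r : ↥G.R, G.s r = u → G.t r ∈ W := by
    rintro Z - ⟨u, hu⟩
    obtain ⟨V, hV, hsub⟩ := hb u
    refine ⟨u, hu, V, hV, fun r hr => ?_⟩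
    exact hsub ⟨r, hr, rfl⟩
  obtain ⟨M, m, hm, sq, hq⟩ := Groth.Agent.Lib.GrpdRestr3H7.main10235 G ha (isFinLocFree_t G ha)
    (isEqvRel_of_mono_j G) h3
  obtain ⟨hm1, hm2, hm3⟩ := hm
  haveI := hm1
  haveI := hm2
  haveI := hm3
  haveI : Surjective m.left :=
    Groth.Agent.Lib.FinLocFreeQuotSepH6.surjective_of_isQuotient (sO G) (tO G) m hq
  haveI : EffectiveEpi m.left := inferInstance
  obtain ⟨μ, hμ⟩ : ∃ μ : G.U ⟶ M.left, μ = m.left := ⟨_, rfl⟩
  rw [← hμ] at sq
  haveI : EffectiveEpi μ := by rw [hμ]; infer_instance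
  haveI : IsFinite μ := by rw [hμ]; infer_instance
  haveI : Flat μ := by rw [hμ]; infer_instance
  haveI : LocallyOfFinitePresentation μ := by rw [hμ]; infer_instance
  have wM : G.t ≫ μ = G.s ≫ μ := sq.w
  -- `μ` is a coequalizer of `(t, s)`
  have hdesc : ∀ {Z : Scheme.{u}} (f : G.U ⟶ Z), G.t ≫ f = G.s ≫ f →
      ∀ {T : Scheme.{u}} (g₁ g₂ : T ⟶ G.U), g₁ ≫ μ = g₂ ≫ μ → g₁ ≫ f = g₂ ≫ f := by
    intro Z f hf T g₁ g₂ h12
    obtain ⟨l, h1, h2⟩ : ∃ l : T ⟶ G.R, l ≫ G.t = g₁ ∧ l ≫ G.s = g₂ :=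
      ⟨sq.lift g₁ g₂ h12, sq.lift_fst _ _ _, sq.lift_snd _ _ _⟩
    rw [← h1, ← h2, Category.assoc, Category.assoc, hf]
  -- the comparison maps
  obtain ⟨e₁, he₁⟩ : ∃ e₁ : Y ⟶ M.left, p ≫ e₁ = μ :=
    ⟨Cofork.IsColimit.desc hc μ wM, Cofork.IsColimit.π_desc hc⟩
  obtain ⟨e₂, he₂⟩ : ∃ e₂ : M.left ⟶ Y, μ ≫ e₂ = p :=
    ⟨EffectiveEpi.desc μ p (fun g₁ g₂ h => hdesc p w g₁ g₂ h), EffectiveEpi.fac _ _ _⟩
  have h12 : e₁ ≫ e₂ = 𝟙 Y := by
    apply Cofork.IsColimit.hom_ext hc
    show p ≫ e₁ ≫ e₂ = p ≫ 𝟙 Y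
    rw [← Category.assoc, he₁, he₂, Category.comp_id]
  have h21 : e₂ ≫ e₁ = 𝟙 M.left := by
    haveI : Epi μ := inferInstance
    rw [← cancel_epi μ, ← Category.assoc, he₂, he₁, Category.comp_id]
  obtain ⟨e, he⟩ : ∃ e : M.left ≅ Y, e.hom = e₂ := ⟨⟨e₂, e₁, h21, h12⟩, rfl⟩
  have hp : μ ≫ e.hom = p := by rw [he]; exact he₂
  constructor
  · exact sq.of_iso (Iso.refl _) (Iso.refl _) (Iso.refl _) e (by simp) (by simp)
      (by rw [Iso.refl_hom, Category.id_comp]; exact hp)
      (by rw [Iso.refl_hom, Category.id_comp]; exact hp)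
  · rw [← hp]
    exact ⟨inferInstance, inferInstance, inferInstance⟩

end Groth.Agent.Lib.GrpdCoeqH7
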