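import Mathlib
import Groth.Prelude.Def_Grpd
import Groth.Agent.Lib.GrpdInvOpen1_helper6

/-!
# Points of dimension `≤ 1` and their generalisations under a finite groupoid (helper7)
-/

set_option backward.isDefEq.respectTransparency false
set_option backward.isDefEq.respectTransparency.types false
set_option linter.style.haveILetI false
set_option linter.unusedSectionVars false
set_option linter.unusedVariables false
set_option autoImplicit false
set_option maxHeartbeats 1600000

universe u

open CategoryTheory CategoryTheory.Limits AlgebraicGeometry TopologicalSpace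

namespace Groth.Agent.Lib.GrpdDim1H7

open Groth.Agent.Lib.GrpdInvOpenH6

section General

variable {X : Scheme.{u}}

/-- The prime of `𝒪_{X,e}` of a generalisation of `e`. -/
theorem exists_prime_of_specializes (e x : X) (hxe : x ⤳ e) :
    ∃ p : Spec (X.presheaf.stalk e), X.fromSpecStalk e p = x := by
  have : x ∈ Set.range (X.fromSpecStalk e) := by
    rw [Scheme.range_fromSpecStalk]; exact hxe
  exact this

/-- A proper generalisation of a point with local ring of dimension `≤ 1` corresponds to a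
minimal prime. -/
theorem mem_minimalPrimes_of_ne (e : X) (hdim : ringKrullDim (X.presheaf.stalk e) ≤ 1)
    (p : Spec (X.presheaf.stalk e)) (hne : X.fromSpecStalk e p ≠ e) :
    p.asIdeal ∈ minimalPrimes (X.presheaf.stalk e) := by
  have h1 : Ring.KrullDimLE 1 (X.presheaf.stalk e) := by
    rw [Ring.krullDimLE_iff]; exact hdim
  rcases (Ring.krullDimLE_one_iff.mp h1) p.asIdeal p.2 with h | h
  · exact h
  · exfalso
    apply hne
    have hp : p = IsLocalRing.closedPoint (X.presheaf.stalk e) := by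
      apply PrimeSpectrum.ext
      exact IsLocalRing.eq_maximalIdeal h
    rw [hp]
    exact Scheme.fromSpecStalk_closedPoint

/-- A proper generalisation of a point with local ring of dimension `≤ 1` is a maximal point. -/
theorem eq_of_specializes_of_dim_le_one (e x y : X)
    (hdim : ringKrullDim (X.presheaf.stalk e) ≤ 1) (hxe : x ⤳ e) (hne : x ≠ e) (hyx : y ⤳ x) :
    y = x := by
  obtain ⟨px, hpx⟩ := exists_prime_of_specializes e x hxe
  obtain ⟨py, hpy⟩ := exists_prime_of_specializes e y (hyx.trans hxe)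
  have hind : Topology.IsInducing (X.fromSpecStalk e) :=
    (X.fromSpecStalk e).isEmbedding.isInducing
  have hspec : py ⤳ px := by
    rw [← hind.specializes_iff, hpx, hpy]; exact hyx
  have hle : py.asIdeal ≤ px.asIdeal := (PrimeSpectrum.le_iff_specializes py px).mpr hspec
  have hmin : px.asIdeal ∈ minimalPrimes (X.presheaf.stalk e) :=
    mem_minimalPrimes_of_ne e hdim px (by rw [hpx]; exact hne)
  have hmin' : Minimal (fun q : Ideal (X.presheaf.stalk e) => q.IsPrime ∧ ⊥ ≤ q) px.asIdeal :=
    hmin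
  have hle' : px.asIdeal ≤ py.asIdeal := hmin'.le_of_le ⟨py.2, bot_le⟩ hle
  have heq : py = px := PrimeSpectrum.ext (le_antisymm hle hle')
  rw [← hpx, ← hpy, heq]

/-- The proper generalisations of a point with Noetherian local ring of dimension `≤ 1` form a
finite set. -/
theorem finite_properGen_point (e : X) [IsNoetherianRing (X.presheaf.stalk e)]
    (hdim : ringKrullDim (X.presheaf.stalk e) ≤ 1) : {x : X | x ⤳ e ∧ x ≠ e}.Finite := by
  have hfin : {p : Spec (X.presheaf.stalk e) |
      p.asIdeal ∈ minimalPrimes (X.presheaf.stalk e)}.Finite := by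
    refine Set.Finite.preimage ?_ (minimalPrimes.finite_of_isNoetherianRing (X.presheaf.stalk e))
    intro p _ q _ hpq
    exact PrimeSpectrum.ext hpq
  refine (hfin.image (X.fromSpecStalk e)).subset ?_
  rintro x ⟨hxe, hne⟩
  obtain ⟨p, hp⟩ := exists_prime_of_specializes e x hxe
  exact ⟨p, mem_minimalPrimes_of_ne e hdim p (by rw [hp]; exact hne), hp⟩

/-- Fibres of a finite morphism have no non-trivial specialisations. -/
theorem eq_of_specializes_of_fiber {R U : Scheme.{u}} (t : R ⟶ U) [IsFinite t] (r r' : R)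
    (h : r ⤳ r') (ht : t r = t r') : r = r' := by
  have hdisc : _root_.IsDiscrete (⇑t ⁻¹' {t r'}) := t.isDiscrete_preimage_singleton (t r')
  haveI : DiscreteTopology ↥(⇑t ⁻¹' {t r'}) := hdisc.to_subtype
  have h1 : (⟨r, ht⟩ : ↥(⇑t ⁻¹' {t r'})) ⤳ ⟨r', rfl⟩ := by
    rw [← Topology.IsInducing.subtypeVal.specializes_iff]
    exact h
  exact congrArg Subtype.val h1.eq

/-- Going up along a closed map. -/
theorem exists_specializes_of_isClosedMap {R U : Scheme.{u}} (s : R ⟶ U) (hs : IsClosedMap s)
    (r : R) (x' : U) (h : s r ⤳ x') : ∃ r' : R, r ⤳ r' ∧ s r' = x' :=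
  hs.specializingMap h

end General

section Groupoid

variable {S : Scheme.{u}} (G : Grpd.GroupoidScheme S)

/-- The orbit of a point. -/
def Orb (u : G.U) : Set G.U := ⇑G.t '' (⇑G.s ⁻¹' {u})

theorem mem_Orb_self (u : G.U) : u ∈ Orb G u := ⟨G.e u, s_e G u, t_e G u⟩

theorem Orb_forward (u : G.U) (x : G.U) (hx : x ∈ Orb G u) (r : G.R) (hr : G.s r = x) :
    G.t r ∈ Orb G u := by
  obtain ⟨r₀, hr₀, rfl⟩ := hx
  obtain ⟨r₁, h1, h2⟩ := exists_comp G r r₀ hr
  refine ⟨r₁, ?_, h2⟩
  show G.s r₁ = u
  rw [h1]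
  exact hr₀

theorem Orb_backward (u : G.U) (x : G.U) (hx : x ∈ Orb G u) (r : G.R) (hr : G.t r = x) :
    G.s r ∈ Orb G u := by
  have h1 := Orb_forward G u x hx (G.i r) (by rw [s_i]; exact hr)
  rw [t_i] at h1
  exact h1

theorem Orb_finite [IsFinite G.s] (u : G.U) : (Orb G u).Finite :=
  (G.s.finite_preimage_singleton u).image _

/-- An invariant open meeting the orbit of `u` contains `u`. -/
theorem mem_of_Orb_inter (u : G.U) (W : G.U.Opens) (hW : G.s ⁻¹ᵁ W = G.t ⁻¹ᵁ W) (x : G.U)
    (hx : x ∈ Orb G u) (hxW : x ∈ W) : u ∈ W := by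
  obtain ⟨r, hr, rfl⟩ := hx
  have h1 : r ∈ G.t ⁻¹ᵁ W := hxW
  rw [← hW] at h1
  have h2 : G.s r ∈ W := h1
  rw [hr] at h2
  exact h2

/-- The proper generalisations of the points of a set. -/
def properGen (E : Set G.U) : Set G.U := {x | ∃ e ∈ E, x ⤳ e ∧ x ≠ e}

theorem properGen_forward [IsFinite G.s] [IsFinite G.t] (E : Set G.U)
    (hE : ∀ x ∈ E, ∀ r : G.R, G.s r = x → G.t r ∈ E) (x : G.U) (hx : x ∈ properGen G E)
    (r : G.R) (hr : G.s r = x) : G.t r ∈ properGen G E := by
  obtain ⟨e, heE, hxe, hne⟩ := hx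
  obtain ⟨r', hrr', hr'⟩ := exists_specializes_of_isClosedMap G.s G.s.isClosedMap r e
    (by rw [hr]; exact hxe)
  refine ⟨G.t r', hE e heE r' hr', hrr'.map G.t.continuous, ?_⟩
  intro heq
  have h1 := eq_of_specializes_of_fiber G.t r r' hrr' heq
  apply hne
  rw [← hr, h1, hr']

theorem properGen_maximal (E : Set G.U)
    (hdim : ∀ e ∈ E, ringKrullDim (G.U.presheaf.stalk e) ≤ 1) (x : G.U)
    (hx : x ∈ properGen G E) (y : G.U) (hyx : y ⤳ x) : y = x := by
  obtain ⟨e, heE, hxe, hne⟩ := hx
  exact eq_of_specializes_of_dim_le_one e x y (hdim e heE) hxe hne hyx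

theorem properGen_finite [IsLocallyNoetherian G.U] (E : Set G.U) (hEfin : E.Finite)
    (hdim : ∀ e ∈ E, ringKrullDim (G.U.presheaf.stalk e) ≤ 1) : (properGen G E).Finite := by
  have h1 : properGen G E ⊆ ⋃ e ∈ E, {x : G.U | x ⤳ e ∧ x ≠ e} := by
    rintro x ⟨e, heE, hxe, hne⟩
    simp only [Set.mem_iUnion]
    exact ⟨e, heE, hxe, hne⟩
  refine (hEfin.biUnion fun e he => ?_).subset h1
  exact finite_properGen_point e (hdim e he)

end Groupoid

end Groth.Agent.Lib.GrpdDim1H7
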