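import Groth.Agent.Lib.GrpdCalc_helper6

/-!
# Restriction of a groupoid scheme along monomorphisms / to an invariant open (helper7)

* `restrOfMono`: given monomorphisms `ιU : U' ⟶ U`, `ιR : R' ⟶ R` and structure maps on
  `(U', R')` compatible with those of `G`, the groupoid scheme `(U', R', s', t', c')`.
* `restrOpen G W hW`: the restriction of `G` to an `R`-invariant open `W ⊆ U`
  (`s⁻¹ W = t⁻¹ W`), with `U' = W` and `R' = s⁻¹ W`.
-/

set_option backward.isDefEq.respectTransparency false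
set_option backward.isDefEq.respectTransparency.types false
set_option linter.style.haveILetI false
set_option linter.unusedSectionVars false
set_option linter.unusedVariables false
set_option autoImplicit false
set_option maxHeartbeats 1600000

universe u

open CategoryTheory CategoryTheory.Limits AlgebraicGeometry Grpd
open Groth.Agent.Lib.GrpdCalc

namespace Groth.Agent.Lib.GrpdRestrH7

variable {S : Scheme.{u}}

section mono

variable (G : GroupoidScheme S) {U' R' : Scheme.{u}} (ιU : U' ⟶ G.U) (ιR : R' ⟶ G.R)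
  [Mono ιU] [Mono ιR]
  (s' t' : R' ⟶ U') (hs : s' ≫ ιU = ιR ≫ G.s) (ht : t' ≫ ιU = ιR ≫ G.t)
  (e' : U' ⟶ R') (he : e' ≫ ιR = ιU ≫ G.e)
  (i' : R' ⟶ R') (hi : i' ≫ ιR = ιR ≫ G.i)
  (c' : pullback s' t' ⟶ R')
  (hc : ∀ {T : Scheme.{u}} (α β : T ⟶ R') (h : α ≫ s' = β ≫ t')
    (h' : (α ≫ ιR) ≫ G.s = (β ≫ ιR) ≫ G.t),
    (pullback.lift α β h ≫ c') ≫ ιR = comp G (α ≫ ιR) (β ≫ ιR) h')

include hs ht in
theorem cond' {T : Scheme.{u}} (α β : T ⟶ R') (h : α ≫ s' = β ≫ t') :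
    (α ≫ ιR) ≫ G.s = (β ≫ ιR) ≫ G.t := by
  calc (α ≫ ιR) ≫ G.s = (α ≫ s') ≫ ιU := by
        rw [Category.assoc, Category.assoc, hs]
    _ = (β ≫ t') ≫ ιU := by rw [h]
    _ = (β ≫ ιR) ≫ G.t := by
        rw [Category.assoc, Category.assoc, ht]

/-- A groupoid scheme structure transported along monomorphisms `U' ⟶ U`, `R' ⟶ R`. -/
noncomputable def restrOfMono : GroupoidScheme S where
  U := U'
  R := R'
  pU := ιU ≫ G.pU
  pR := ιR ≫ G.pR
  s := s'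
  t := t'
  e := e'
  i := i'
  c := c'
  s_over := by rw [← Category.assoc, hs, Category.assoc, G.s_over]
  t_over := by rw [← Category.assoc, ht, Category.assoc, G.t_over]
  comp_s := fun α β h => by
    have h' := cond' G ιU ιR s' t' hs ht α β h
    have e1 := hc α β h h'
    obtain ⟨X, hX⟩ : ∃ X, X = pullback.lift α β h ≫ c' := ⟨_, rfl⟩
    rw [← hX] at e1 ⊢
    rw [← cancel_mono ιU]
    calc (X ≫ s') ≫ ιU = (X ≫ ιR) ≫ G.s := by
          rw [Category.assoc, Category.assoc, hs]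
      _ = (β ≫ ιR) ≫ G.s := by rw [e1, comp_s']
      _ = (β ≫ s') ≫ ιU := by rw [Category.assoc, Category.assoc, hs]
  comp_t := fun α β h => by
    have h' := cond' G ιU ιR s' t' hs ht α β h
    have e1 := hc α β h h'
    obtain ⟨X, hX⟩ : ∃ X, X = pullback.lift α β h ≫ c' := ⟨_, rfl⟩
    rw [← hX] at e1 ⊢
    rw [← cancel_mono ιU]
    calc (X ≫ t') ≫ ιU = (X ≫ ιR) ≫ G.t := by
          rw [Category.assoc, Category.assoc, ht]
      _ = (α ≫ ιR) ≫ G.t := by rw [e1, comp_t']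
      _ = (α ≫ t') ≫ ιU := by rw [Category.assoc, Category.assoc, ht]
  assoc := fun α β γ h₁ h₂ => by
    have h₁' := cond' G ιU ιR s' t' hs ht α β h₁
    have h₂' := cond' G ιU ιR s' t' hs ht β γ h₂
    rw [← cancel_mono ιR]
    have e1 := hc α β h₁ h₁'
    have e2 := hc β γ h₂ h₂'
    have h3 : ((pullback.lift α β h₁ ≫ c') ≫ ιR) ≫ G.s = (γ ≫ ιR) ≫ G.t := by
      rw [e1, comp_s']; exact h₂'
    have h4 : (α ≫ ιR) ≫ G.s = ((pullback.lift β γ h₂ ≫ c') ≫ ιR) ≫ G.t := by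
      rw [e2, comp_t']; exact h₁'
    rw [hc _ γ _ h3, hc α _ _ h4]
    have h3' : comp G (α ≫ ιR) (β ≫ ιR) h₁' ≫ G.s = (γ ≫ ιR) ≫ G.t := by
      rw [comp_s']; exact h₂'
    have h4' : (α ≫ ιR) ≫ G.s = comp G (β ≫ ιR) (γ ≫ ιR) h₂' ≫ G.t := by
      rw [comp_t']; exact h₁'
    rw [comp_congr G e1 rfl h3 h3', comp_congr G rfl e2 h4 h4']
    exact comp_assoc G _ _ _ h₁' h₂' h3' h4'
  e_s := by
    rw [← cancel_mono ιU, Category.assoc, hs, ← Category.assoc, he, Category.assoc, G.e_s,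
      Category.comp_id, Category.id_comp]
  e_t := by
    rw [← cancel_mono ιU, Category.assoc, ht, ← Category.assoc, he, Category.assoc, G.e_t,
      Category.comp_id, Category.id_comp]
  comp_e := fun α => by
    rw [← cancel_mono ιR]
    have k1 : (α ≫ s' ≫ e') ≫ ιR = (α ≫ ιR) ≫ G.s ≫ G.e := by
      calc (α ≫ s' ≫ e') ≫ ιR = α ≫ s' ≫ (e' ≫ ιR) := by
            rw [Category.assoc, Category.assoc]
        _ = α ≫ (s' ≫ ιU) ≫ G.e := by rw [he, Category.assoc]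
        _ = (α ≫ ιR) ≫ G.s ≫ G.e := by rw [hs, Category.assoc, Category.assoc]
    have h'' : (α ≫ ιR) ≫ G.s = ((α ≫ ιR) ≫ G.s ≫ G.e) ≫ G.t := by
      simp only [Category.assoc, G.e_t, Category.comp_id]
    have h' : (α ≫ ιR) ≫ G.s = ((α ≫ s' ≫ e') ≫ ιR) ≫ G.t := by
      rw [k1]; exact h''
    rw [hc α _ _ h', comp_congr G rfl k1 h' h'']
    exact comp_e' G _ h''
  e_comp := fun α => by
    rw [← cancel_mono ιR]
    have k1 : (α ≫ t' ≫ e') ≫ ιR = (α ≫ ιR) ≫ G.t ≫ G.e := by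
      calc (α ≫ t' ≫ e') ≫ ιR = α ≫ t' ≫ (e' ≫ ιR) := by
            rw [Category.assoc, Category.assoc]
        _ = α ≫ (t' ≫ ιU) ≫ G.e := by rw [he, Category.assoc]
        _ = (α ≫ ιR) ≫ G.t ≫ G.e := by rw [ht, Category.assoc, Category.assoc]
    have h'' : ((α ≫ ιR) ≫ G.t ≫ G.e) ≫ G.s = (α ≫ ιR) ≫ G.t := by
      simp only [Category.assoc, G.e_s, Category.comp_id]
    have h' : ((α ≫ t' ≫ e') ≫ ιR) ≫ G.s = (α ≫ ιR) ≫ G.t := by
      rw [k1]; exact h''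
    rw [hc _ α _ h', comp_congr G k1 rfl h' h'']
    exact e_comp' G _ h''
  i_s := by
    rw [← cancel_mono ιU, Category.assoc, hs, ← Category.assoc, hi, Category.assoc, G.i_s, ht]
  i_t := by
    rw [← cancel_mono ιU, Category.assoc, ht, ← Category.assoc, hi, Category.assoc, G.i_t, hs]
  comp_i := fun α => by
    rw [← cancel_mono ιR]
    have k1 : (α ≫ i') ≫ ιR = (α ≫ ιR) ≫ G.i := by
      rw [Category.assoc, hi, Category.assoc]
    have h'' : (α ≫ ιR) ≫ G.s = ((α ≫ ιR) ≫ G.i) ≫ G.t := by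
      rw [Category.assoc (α ≫ ιR), G.i_t]
    have h' : (α ≫ ιR) ≫ G.s = ((α ≫ i') ≫ ιR) ≫ G.t := by
      rw [k1]; exact h''
    rw [hc α _ _ h', comp_congr G rfl k1 h' h'', comp_i' G _ h'']
    calc (α ≫ ιR) ≫ G.t ≫ G.e = α ≫ (t' ≫ ιU) ≫ G.e := by
          rw [ht, Category.assoc, Category.assoc]
      _ = α ≫ t' ≫ (e' ≫ ιR) := by rw [he, Category.assoc]
      _ = (α ≫ t' ≫ e') ≫ ιR := by rw [Category.assoc, Category.assoc]
  i_comp := fun α => by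
    rw [← cancel_mono ιR]
    have k1 : (α ≫ i') ≫ ιR = (α ≫ ιR) ≫ G.i := by
      rw [Category.assoc, hi, Category.assoc]
    have h'' : ((α ≫ ιR) ≫ G.i) ≫ G.s = (α ≫ ιR) ≫ G.t := by
      rw [Category.assoc (α ≫ ιR), G.i_s]
    have h' : ((α ≫ i') ≫ ιR) ≫ G.s = (α ≫ ιR) ≫ G.t := by
      rw [k1]; exact h''
    rw [hc _ α _ h', comp_congr G k1 rfl h' h'', i_comp' G _ h'']
    calc (α ≫ ιR) ≫ G.s ≫ G.e = α ≫ (s' ≫ ιU) ≫ G.e := by
          rw [hs, Category.assoc, Category.assoc]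
      _ = α ≫ s' ≫ (e' ≫ ιR) := by rw [he, Category.assoc]
      _ = (α ≫ s' ≫ e') ≫ ιR := by rw [Category.assoc, Category.assoc]

end mono

section open_

variable (G : GroupoidScheme S) (W : G.U.Opens) (hW : G.s ⁻¹ᵁ W = G.t ⁻¹ᵁ W)

/-- The cartesian square defining `s⁻¹ W`. -/
theorem sqW : IsPullback (G.s ∣_ W) (G.s ⁻¹ᵁ W).ι W.ι G.s := isPullback_morphismRestrict G.s W

include hW in
theorem range_ι_t_subset :
    Set.range ((G.s ⁻¹ᵁ W).ι ≫ G.t) ⊆ Set.range W.ι := by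
  rw [Scheme.Opens.range_ι]
  rintro _ ⟨r, rfl⟩
  rw [Scheme.Hom.comp_apply]
  have h1 : (G.s ⁻¹ᵁ W).ι r ∈ G.s ⁻¹ᵁ W := by
    have := Set.mem_range_self (f := (G.s ⁻¹ᵁ W).ι) r
    rw [Scheme.Opens.range_ι] at this
    exact this
  obtain ⟨y, hy⟩ : ∃ y, y = (G.s ⁻¹ᵁ W).ι r := ⟨_, rfl⟩
  rw [← hy] at h1 ⊢
  rw [hW] at h1
  exact h1

/-- The restricted target map `s⁻¹ W ⟶ W`. -/
noncomputable def tW : (G.s ⁻¹ᵁ W).toScheme ⟶ W.toScheme :=
  IsOpenImmersion.lift W.ι ((G.s ⁻¹ᵁ W).ι ≫ G.t) (range_ι_t_subset G W hW)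

theorem tW_ι : tW G W hW ≫ W.ι = (G.s ⁻¹ᵁ W).ι ≫ G.t :=
  IsOpenImmersion.lift_fac _ _ _

/-- The restricted identity `W ⟶ s⁻¹ W`. -/
noncomputable def eW : W.toScheme ⟶ (G.s ⁻¹ᵁ W).toScheme :=
  (sqW G W).lift (𝟙 _) (W.ι ≫ G.e) (by
    rw [Category.id_comp, Category.assoc, G.e_s, Category.comp_id])

theorem eW_ι : eW G W ≫ (G.s ⁻¹ᵁ W).ι = W.ι ≫ G.e := (sqW G W).lift_snd _ _ _

/-- The restricted inverse. -/
noncomputable def iW : (G.s ⁻¹ᵁ W).toScheme ⟶ (G.s ⁻¹ᵁ W).toScheme :=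
  (sqW G W).lift (tW G W hW) ((G.s ⁻¹ᵁ W).ι ≫ G.i) (by
    rw [tW_ι, Category.assoc, G.i_s])

theorem iW_ι : iW G W hW ≫ (G.s ⁻¹ᵁ W).ι = (G.s ⁻¹ᵁ W).ι ≫ G.i := (sqW G W).lift_snd _ _ _

/-- The map on composable pairs. -/
noncomputable def pairW : pullback (G.s ∣_ W) (tW G W hW) ⟶ pullback G.s G.t :=
  pullback.map (G.s ∣_ W) (tW G W hW) G.s G.t (G.s ⁻¹ᵁ W).ι (G.s ⁻¹ᵁ W).ι W.ι
    (morphismRestrict_ι G.s W) (tW_ι G W hW)

/-- The restricted composition. -/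
noncomputable def cW : pullback (G.s ∣_ W) (tW G W hW) ⟶ (G.s ⁻¹ᵁ W).toScheme :=
  (sqW G W).lift (pullback.snd _ _ ≫ G.s ∣_ W) (pairW G W hW ≫ G.c) (by
    rw [Category.assoc, morphismRestrict_ι, Category.assoc, c_s]
    unfold pairW
    rw [pullback.lift_snd_assoc, Category.assoc])

theorem cW_ι : cW G W hW ≫ (G.s ⁻¹ᵁ W).ι = pairW G W hW ≫ G.c := (sqW G W).lift_snd _ _ _

theorem hcW {T : Scheme.{u}} (α β : T ⟶ (G.s ⁻¹ᵁ W).toScheme)
    (h : α ≫ G.s ∣_ W = β ≫ tW G W hW)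
    (h' : (α ≫ (G.s ⁻¹ᵁ W).ι) ≫ G.s = (β ≫ (G.s ⁻¹ᵁ W).ι) ≫ G.t) :
    (pullback.lift α β h ≫ cW G W hW) ≫ (G.s ⁻¹ᵁ W).ι =
      comp G (α ≫ (G.s ⁻¹ᵁ W).ι) (β ≫ (G.s ⁻¹ᵁ W).ι) h' := by
  rw [Category.assoc, cW_ι, ← Category.assoc]
  unfold comp
  congr 1
  unfold pairW
  apply pullback.hom_ext
  · rw [Category.assoc, pullback.lift_fst, pullback.lift_fst_assoc, pullback.lift_fst]
  · rw [Category.assoc, pullback.lift_snd, pullback.lift_snd_assoc, pullback.lift_snd]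

/-- The restriction of a groupoid scheme to an invariant open subscheme. -/
noncomputable def restrOpen : GroupoidScheme S :=
  restrOfMono G W.ι (G.s ⁻¹ᵁ W).ι (G.s ∣_ W) (tW G W hW) (morphismRestrict_ι G.s W) (tW_ι G W hW)
    (eW G W) (eW_ι G W) (iW G W hW) (iW_ι G W hW) (cW G W hW) (fun α β h h' => hcW G W hW α β h h')

end open_

end Groth.Agent.Lib.GrpdRestrH7
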