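import Mathlib
import Groth.Prelude.Def_Grpd
import Groth.Agent.Lib.GrpdRestr1_helper7

/-!
# Restriction of a groupoid scheme along a monomorphism `Z ⟶ U` (helper7)

`restrSub G ι`: the groupoid scheme `(Z, R_Z, s_Z, t_Z, c_Z)` with
`R_Z = Z ×_{U,s} R ×_{t,U} Z` the scheme of arrows with source and target in `Z`.
-/

set_option backward.isDefEq.respectTransparency false
set_option backward.isDefEq.respectTransparency.types false
set_option linter.style.haveILetI false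
set_option linter.unusedSectionVars false
set_option linter.unusedVariables false
set_option autoImplicit false
set_option maxHeartbeats 1600000

universe u

open CategoryTheory CategoryTheory.Limits AlgebraicGeometry Grpd
open Groth.Agent.Lib.GrpdCalc Groth.Agent.Lib.GrpdRestrH7

namespace Groth.Agent.Lib.GrpdRestrSubH7

variable {S : Scheme.{u}} (G : GroupoidScheme S) {Z : Scheme.{u}} (ι : Z ⟶ G.U)

/-- The scheme of arrows with source and target in `Z`. -/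
noncomputable abbrev RZ : Scheme.{u} := pullback (pullback.fst G.s ι ≫ G.t) ι

noncomputable def ιR : RZ G ι ⟶ G.R :=
  pullback.fst (pullback.fst G.s ι ≫ G.t) ι ≫ pullback.fst G.s ι

noncomputable def sZ : RZ G ι ⟶ Z :=
  pullback.fst (pullback.fst G.s ι ≫ G.t) ι ≫ pullback.snd G.s ι

noncomputable def tZ : RZ G ι ⟶ Z := pullback.snd (pullback.fst G.s ι ≫ G.t) ι

theorem sZ_ι : sZ G ι ≫ ι = ιR G ι ≫ G.s := by
  unfold sZ ιR
  rw [Category.assoc, Category.assoc, pullback.condition]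

theorem tZ_ι : tZ G ι ≫ ι = ιR G ι ≫ G.t := by
  unfold tZ ιR
  rw [Category.assoc]
  exact pullback.condition.symm

/-- The universal property of `RZ`. -/
noncomputable def liftR {T : Scheme.{u}} (a : T ⟶ G.R) (z₁ z₂ : T ⟶ Z)
    (h₁ : a ≫ G.s = z₁ ≫ ι) (h₂ : a ≫ G.t = z₂ ≫ ι) : T ⟶ RZ G ι :=
  pullback.lift (pullback.lift a z₁ h₁) z₂ (by
    rw [← Category.assoc, pullback.lift_fst, h₂])

theorem liftR_ιR {T : Scheme.{u}} (a : T ⟶ G.R) (z₁ z₂ : T ⟶ Z)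
    (h₁ : a ≫ G.s = z₁ ≫ ι) (h₂ : a ≫ G.t = z₂ ≫ ι) :
    liftR G ι a z₁ z₂ h₁ h₂ ≫ ιR G ι = a := by
  unfold liftR ιR
  rw [← Category.assoc, pullback.lift_fst, pullback.lift_fst]

theorem liftR_sZ {T : Scheme.{u}} (a : T ⟶ G.R) (z₁ z₂ : T ⟶ Z)
    (h₁ : a ≫ G.s = z₁ ≫ ι) (h₂ : a ≫ G.t = z₂ ≫ ι) :
    liftR G ι a z₁ z₂ h₁ h₂ ≫ sZ G ι = z₁ := by
  unfold liftR sZ
  rw [← Category.assoc, pullback.lift_fst, pullback.lift_snd]

theorem liftR_tZ {T : Scheme.{u}} (a : T ⟶ G.R) (z₁ z₂ : T ⟶ Z)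
    (h₁ : a ≫ G.s = z₁ ≫ ι) (h₂ : a ≫ G.t = z₂ ≫ ι) :
    liftR G ι a z₁ z₂ h₁ h₂ ≫ tZ G ι = z₂ := by
  unfold liftR tZ
  rw [pullback.lift_snd]

variable [Mono ι]

instance mono_ιR : Mono (ιR G ι) := by
  unfold ιR
  infer_instance

/-- The restricted identity. -/
noncomputable def eZ : Z ⟶ RZ G ι :=
  liftR G ι (ι ≫ G.e) (𝟙 Z) (𝟙 Z)
    (by rw [Category.assoc, G.e_s, Category.comp_id, Category.id_comp])
    (by rw [Category.assoc, G.e_t, Category.comp_id, Category.id_comp])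

theorem eZ_ιR : eZ G ι ≫ ιR G ι = ι ≫ G.e := liftR_ιR G ι _ _ _ _ _

/-- The restricted inverse. -/
noncomputable def iZ : RZ G ι ⟶ RZ G ι :=
  liftR G ι (ιR G ι ≫ G.i) (tZ G ι) (sZ G ι)
    (by rw [Category.assoc, G.i_s, tZ_ι])
    (by rw [Category.assoc, G.i_t, sZ_ι])

theorem iZ_ιR : iZ G ι ≫ ιR G ι = ιR G ι ≫ G.i := liftR_ιR G ι _ _ _ _ _

theorem cond_c : (pullback.fst (sZ G ι) (tZ G ι) ≫ ιR G ι) ≫ G.s =
    (pullback.snd (sZ G ι) (tZ G ι) ≫ ιR G ι) ≫ G.t := by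
  rw [Category.assoc, ← sZ_ι, Category.assoc, ← tZ_ι, ← Category.assoc, ← Category.assoc,
    pullback.condition]

/-- The restricted composition. -/
noncomputable def cZ : pullback (sZ G ι) (tZ G ι) ⟶ RZ G ι :=
  liftR G ι (comp G (pullback.fst (sZ G ι) (tZ G ι) ≫ ιR G ι)
      (pullback.snd (sZ G ι) (tZ G ι) ≫ ιR G ι) (cond_c G ι))
    (pullback.snd (sZ G ι) (tZ G ι) ≫ sZ G ι) (pullback.fst (sZ G ι) (tZ G ι) ≫ tZ G ι)
    (by rw [comp_s', Category.assoc, Category.assoc, sZ_ι])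
    (by rw [comp_t', Category.assoc, Category.assoc, tZ_ι])

theorem cZ_ιR : cZ G ι ≫ ιR G ι = comp G (pullback.fst (sZ G ι) (tZ G ι) ≫ ιR G ι)
    (pullback.snd (sZ G ι) (tZ G ι) ≫ ιR G ι) (cond_c G ι) := liftR_ιR G ι _ _ _ _ _

theorem hcZ {T : Scheme.{u}} (α β : T ⟶ RZ G ι) (h : α ≫ sZ G ι = β ≫ tZ G ι)
    (h' : (α ≫ ιR G ι) ≫ G.s = (β ≫ ιR G ι) ≫ G.t) :
    (pullback.lift α β h ≫ cZ G ι) ≫ ιR G ι = comp G (α ≫ ιR G ι) (β ≫ ιR G ι) h' := by
  rw [Category.assoc, cZ_ιR]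
  have h1 : (pullback.lift α β h ≫ pullback.fst (sZ G ι) (tZ G ι) ≫ ιR G ι) ≫ G.s =
      (pullback.lift α β h ≫ pullback.snd (sZ G ι) (tZ G ι) ≫ ιR G ι) ≫ G.t := by
    rw [pullback.lift_fst_assoc, pullback.lift_snd_assoc]; exact h'
  rw [precomp_comp G (pullback.lift α β h) _ _ (cond_c G ι) h1]
  exact comp_congr G (pullback.lift_fst_assoc _ _ _ _) (pullback.lift_snd_assoc _ _ _ _) h1 h'

/-- The restriction of a groupoid scheme along a monomorphism `ι : Z ⟶ U`. -/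
noncomputable def restrSub : GroupoidScheme S :=
  restrOfMono G ι (ιR G ι) (sZ G ι) (tZ G ι) (sZ_ι G ι) (tZ_ι G ι) (eZ G ι) (eZ_ιR G ι)
    (iZ G ι) (iZ_ιR G ι) (cZ G ι) (fun α β h h' => hcZ G ι α β h h')

theorem restrSub_U : (restrSub G ι).U = Z := rfl

/-! ### Points -/

/-- Every arrow of `G` whose source and target lie in the range of `ι` lifts. -/
theorem exists_lift_point (r : G.R) (z₁ z₂ : Z) (h₁ : G.s r = ι z₁) (h₂ : G.t r = ι z₂) :
    ∃ r' : RZ G ι, ιR G ι r' = r ∧ sZ G ι r' = z₁ ∧ tZ G ι r' = z₂ := by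
  obtain ⟨p, hp1, hp2⟩ := Scheme.Pullback.exists_preimage_pullback (f := G.s) (g := ι) r z₁ h₁
  have h3 : (pullback.fst G.s ι ≫ G.t) p = ι z₂ := by
    rw [Scheme.Hom.comp_apply, hp1, h₂]
  obtain ⟨q, hq1, hq2⟩ := Scheme.Pullback.exists_preimage_pullback
    (f := pullback.fst G.s ι ≫ G.t) (g := ι) p z₂ h3
  refine ⟨q, ?_, ?_, ?_⟩
  · unfold ιR
    rw [Scheme.Hom.comp_apply, hq1, hp1]
  · unfold sZ
    rw [Scheme.Hom.comp_apply, hq1, hp2]
  · unfold tZ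
    exact hq2

theorem s_ιR_apply (r' : RZ G ι) : G.s (ιR G ι r') = ι (sZ G ι r') := by
  rw [← Scheme.Hom.comp_apply, ← Scheme.Hom.comp_apply, sZ_ι]

theorem t_ιR_apply (r' : RZ G ι) : G.t (ιR G ι r') = ι (tZ G ι r') := by
  rw [← Scheme.Hom.comp_apply, ← Scheme.Hom.comp_apply, tZ_ι]

/-! ### Properties of the restricted source and target -/

theorem prop_sZ (P : MorphismProperty Scheme.{u}) [P.IsStableUnderBaseChange]
    [P.IsStableUnderComposition] (hs : P G.s) (hι : P ι) : P (sZ G ι) := by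
  unfold sZ
  exact P.comp_mem _ _ (P.pullback_fst _ _ hι) (P.pullback_snd _ _ hs)

theorem prop_tZ (P : MorphismProperty Scheme.{u}) [P.IsStableUnderBaseChange]
    [P.IsStableUnderComposition] (ht : P G.t) (hι : P ι) : P (tZ G ι) := by
  unfold tZ
  exact P.pullback_snd _ _ (P.comp_mem _ _ (P.pullback_fst _ _ hι) ht)

end Groth.Agent.Lib.GrpdRestrSubH7
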