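import Mathlib
import Groth.Prelude.Def_Grpd
import Groth.Agent.Lib.GrpdAffBasic3_helper7
import Groth.Agent.Lib.GrpdRestrSub1_helper7
import Groth.Agent.Lib.GrpdDim1A_helper7

/-!
# Invariant affine opens around orbits of points of dimension `≤ 1`: the quasi-affine case
(helper7)
-/

set_option backward.isDefEq.respectTransparency false
set_option backward.isDefEq.respectTransparency.types false
set_option linter.style.haveILetI false
set_option linter.unusedSectionVars false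
set_option linter.unusedVariables false
set_option autoImplicit false
set_option maxHeartbeats 1600000

universe u

open CategoryTheory CategoryTheory.Limits AlgebraicGeometry TopologicalSpace

namespace Groth.Agent.Lib.GrpdDim1H7

open Groth.Agent.Lib.GrpdInvOpenH6 Groth.Agent.Lib.FitStratH7 Groth.Agent.Lib.GrpdAffBasicH7
open Groth.Agent.Lib.GrpdRestrSubH7

variable {S : Scheme.{u}} (G : Grpd.GroupoidScheme S) [IsFinite G.s] [IsFinite G.t]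
  [IsLocallyNoetherian G.U]

/-- The step on the closed complement of an invariant open `W₁ = j⁻¹ D(h₁)`. -/
theorem exists_invariant_affine_on_closed
    (A : Type u) [CommRing A] (j : G.U ⟶ Spec (CommRingCat.of A)) [IsImmersion j] (I : Ideal A)
    (hI : ∀ x : G.U, j x ∉ PrimeSpectrum.zeroLocus (I : Set A))
    (hcl : IsClosed (PrimeSpectrum.zeroLocus (I : Set A) ∪ Set.range j))
    (W₁ : G.U.Opens) (hW₁inv : G.s ⁻¹ᵁ W₁ = G.t ⁻¹ᵁ W₁) (h₁ : A)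
    (hW₁ : W₁ = j ⁻¹ᵁ PrimeSpectrum.basicOpen h₁)
    (E : Set G.U) (hEfin : E.Finite) (hEfwd : ∀ x ∈ E, ∀ r : G.R, G.s r = x → G.t r ∈ E)
    (hEZ : ∀ e ∈ E, e ∉ W₁)
    (hEmax : ∀ e ∈ E, ∀ y : G.U, y ∉ W₁ → y ⤳ e → y = e) :
    ∃ h' ∈ I, E ⊆ (j ⁻¹ᵁ PrimeSpectrum.basicOpen h' : G.U.Opens) ∧
      ∀ r : G.R, G.s r ∉ W₁ → (G.s r ∈ (j ⁻¹ᵁ PrimeSpectrum.basicOpen h' : G.U.Opens) ↔
        G.t r ∈ (j ⁻¹ᵁ PrimeSpectrum.basicOpen h' : G.U.Opens)) := by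
  classical
  obtain ⟨IZ, hIZ⟩ : ∃ IZ : G.U.IdealSheafData, IZ = Scheme.IdealSheafData.vanishingIdeal
      (⟨(W₁ : Set G.U)ᶜ, W₁.isOpen.isClosed_compl⟩ : TopologicalSpace.Closeds G.U) := ⟨_, rfl⟩
  have hrange : Set.range IZ.subschemeι = (W₁ : Set G.U)ᶜ := by
    rw [Scheme.IdealSheafData.range_subschemeι, hIZ]
    exact Scheme.IdealSheafData.coe_support_vanishingIdeal _
  obtain ⟨ιZ, hιZ⟩ : ∃ ιZ : IZ.subscheme ⟶ G.U, ιZ = IZ.subschemeι := ⟨_, rfl⟩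
  haveI : IsClosedImmersion ιZ := by rw [hιZ]; infer_instance
  have hrange' : Set.range ιZ = (W₁ : Set G.U)ᶜ := by rw [hιZ]; exact hrange
  have hinj : Function.Injective ιZ := ιZ.isClosedEmbedding.injective
  have hnotW : ∀ z : IZ.subscheme, ιZ z ∉ W₁ := by
    intro z
    have : ιZ z ∈ Set.range ιZ := ⟨z, rfl⟩
    rw [hrange'] at this
    exact this
  have hlift : ∀ x : G.U, x ∉ W₁ → ∃ z : IZ.subscheme, ιZ z = x := by
    intro x hx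
    have : x ∈ Set.range ιZ := by rw [hrange']; exact hx
    exact this
  -- the restricted groupoid
  obtain ⟨GZ, hGZ⟩ : ∃ GZ : Grpd.GroupoidScheme S, GZ = restrSub G ιZ := ⟨_, rfl⟩
  haveI : IsLocallyNoetherian IZ.subscheme := LocallyOfFiniteType.isLocallyNoetherian ιZ
  haveI hfs : IsFinite (sZ G ιZ) :=
    prop_sZ G ιZ @IsFinite inferInstance inferInstance
  haveI hft : IsFinite (tZ G ιZ) :=
    prop_tZ G ιZ @IsFinite inferInstance inferInstance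
  haveI : IsFinite (restrSub G ιZ).s := hfs
  haveI : IsFinite (restrSub G ιZ).t := hft
  haveI : IsLocallyNoetherian (restrSub G ιZ).U := inferInstanceAs (IsLocallyNoetherian IZ.subscheme)
  haveI : LocallyOfFinitePresentation (restrSub G ιZ).s := inferInstance
  haveI : LocallyOfFinitePresentation (restrSub G ιZ).t := inferInstance
  obtain ⟨EZ, hEZdef⟩ : ∃ EZ : Set IZ.subscheme, EZ = ⇑ιZ ⁻¹' E := ⟨_, rfl⟩
  have hEZfin : EZ.Finite := by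
    rw [hEZdef]; exact hEfin.preimage hinj.injOn
  have hEZfwd : ∀ z ∈ EZ, ∀ r' : RZ G ιZ, sZ G ιZ r' = z → tZ G ιZ r' ∈ EZ := by
    intro z hz r' hr'
    rw [hEZdef] at hz ⊢
    show ιZ (tZ G ιZ r') ∈ E
    rw [← t_ιR_apply]
    apply hEfwd (ιZ z) hz
    rw [s_ιR_apply, hr']
  have hEZW : EZ ⊆ (invW (restrSub G ιZ) : Set (restrSub G ιZ).U) := by
    intro z hz
    apply mem_invW_of_orbit_maximal (restrSub G ιZ) z
    intro r' hr' y hy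
    have h1 : tZ G ιZ r' ∈ EZ := hEZfwd z hz r' hr'
    rw [hEZdef] at h1
    have h2 : ιZ y ⤳ ιZ (tZ G ιZ r') := hy.map ιZ.continuous
    have h3 := hEmax _ h1 (ιZ y) (hnotW y) h2
    exact hinj h3
  obtain ⟨jZ, hjZ⟩ : ∃ jZ : IZ.subscheme ⟶ Spec (CommRingCat.of A), jZ = ιZ ≫ j := ⟨_, rfl⟩
  haveI : IsImmersion jZ := by rw [hjZ]; infer_instance
  have hIZ' : ∀ z : IZ.subscheme, jZ z ∉ PrimeSpectrum.zeroLocus (I : Set A) := by
    intro z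
    rw [hjZ, Scheme.Hom.comp_apply]
    exact hI _
  have hclZ : IsClosed (PrimeSpectrum.zeroLocus (I : Set A) ∪ Set.range jZ) := by
    have heq : PrimeSpectrum.zeroLocus (I : Set A) ∪ Set.range jZ =
        (PrimeSpectrum.zeroLocus (I : Set A) ∪ Set.range j) ∩
          (PrimeSpectrum.zeroLocus (I : Set A) ∪
            ((PrimeSpectrum.basicOpen h₁ : TopologicalSpace.Opens (PrimeSpectrum A)) :
              Set (PrimeSpectrum A))ᶜ) := by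
      ext p
      constructor
      · rintro (hp | ⟨z, rfl⟩)
        · exact ⟨Or.inl hp, Or.inl hp⟩
        · rw [hjZ, Scheme.Hom.comp_apply]
          refine ⟨Or.inr ⟨_, rfl⟩, Or.inr ?_⟩
          intro hmem
          apply hnotW z
          rw [hW₁]
          exact hmem
      · rintro ⟨hp1, hp2⟩
        rcases hp2 with hp2 | hp2
        · exact Or.inl hp2
        · rcases hp1 with hp1 | ⟨x, rfl⟩
          · exact Or.inl hp1
          · right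
            have hx : x ∉ W₁ := by
              rw [hW₁]
              exact hp2
            obtain ⟨z, rfl⟩ := hlift x hx
            exact ⟨z, by rw [hjZ, Scheme.Hom.comp_apply]⟩
    rw [heq]
    exact hcl.inter ((PrimeSpectrum.isClosed_zeroLocus _).union
      (PrimeSpectrum.basicOpen h₁).isOpen.isClosed_compl)
  obtain ⟨h', hh'I, -, hEZQ, hinv', -⟩ := main1885_gen (restrSub G ιZ) A jZ I hIZ' hclZ EZ hEZfin
    hEZW hEZfwd
  have hmemZ : ∀ z : IZ.subscheme, z ∈ (jZ ⁻¹ᵁ PrimeSpectrum.basicOpen h' : IZ.subscheme.Opens) ↔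
      ιZ z ∈ (j ⁻¹ᵁ PrimeSpectrum.basicOpen h' : G.U.Opens) := by
    intro z
    show jZ z ∈ PrimeSpectrum.basicOpen h' ↔ j (ιZ z) ∈ PrimeSpectrum.basicOpen h'
    rw [hjZ, Scheme.Hom.comp_apply]
  refine ⟨h', hh'I, ?_, ?_⟩
  · intro e he
    obtain ⟨z, rfl⟩ := hlift e (hEZ e he)
    exact (hmemZ z).mp (hEZQ (by rw [hEZdef]; exact he))
  · intro r hr
    have htr : G.t r ∉ W₁ := by
      intro h
      apply hr
      have h1 : r ∈ G.t ⁻¹ᵁ W₁ := h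
      rw [← hW₁inv] at h1
      exact h1
    obtain ⟨z₁, hz₁⟩ := hlift _ hr
    obtain ⟨z₂, hz₂⟩ := hlift _ htr
    obtain ⟨r', -, hr's, hr't⟩ := exists_lift_point G ιZ r z₁ z₂ hz₁.symm hz₂.symm
    have h1 : r' ∈ (restrSub G ιZ).s ⁻¹ᵁ (jZ ⁻¹ᵁ PrimeSpectrum.basicOpen h') ↔
        r' ∈ (restrSub G ιZ).t ⁻¹ᵁ (jZ ⁻¹ᵁ PrimeSpectrum.basicOpen h') := by
      rw [hinv']
    have h2 : sZ G ιZ r' ∈ (jZ ⁻¹ᵁ PrimeSpectrum.basicOpen h' : IZ.subscheme.Opens) ↔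
        tZ G ιZ r' ∈ (jZ ⁻¹ᵁ PrimeSpectrum.basicOpen h' : IZ.subscheme.Opens) := h1
    rw [hr's, hr't] at h2
    constructor
    · intro h
      have h3 := h2.mp ((hmemZ z₁).mpr (by rw [hz₁]; exact h))
      have h4 := (hmemZ z₂).mp h3
      rw [hz₂] at h4
      exact h4
    · intro h
      have h3 := h2.mpr ((hmemZ z₂).mpr (by rw [hz₂]; exact h))
      have h4 := (hmemZ z₁).mp h3
      rw [hz₁] at h4
      exact h4

/-- The quasi-affine case. -/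
theorem exists_invariant_affine_of_immersion
    (A : Type u) [CommRing A] (j : G.U ⟶ Spec (CommRingCat.of A)) [IsImmersion j] (I : Ideal A)
    (hI : ∀ x : G.U, j x ∉ PrimeSpectrum.zeroLocus (I : Set A))
    (hcl : IsClosed (PrimeSpectrum.zeroLocus (I : Set A) ∪ Set.range j)) (u : G.U)
    (hdim : ∀ r : G.R, G.s r = u → ringKrullDim (G.U.presheaf.stalk (G.t r)) ≤ 1) :
    ∃ W : G.U.Opens, IsAffineOpen W ∧ u ∈ W ∧ G.s ⁻¹ᵁ W = G.t ⁻¹ᵁ W := by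
  classical
  haveI : LocallyOfFinitePresentation G.s := inferInstance
  haveI : LocallyOfFinitePresentation G.t := inferInstance
  obtain ⟨E, hE⟩ : ∃ E : Set G.U, E = Orb G u := ⟨_, rfl⟩
  have hEfin : E.Finite := by rw [hE]; exact Orb_finite G u
  have huE : u ∈ E := by rw [hE]; exact mem_Orb_self G u
  have hEfwd : ∀ x ∈ E, ∀ r : G.R, G.s r = x → G.t r ∈ E := by
    intro x hx r hr
    rw [hE] at hx ⊢
    exact Orb_forward G u x hx r hr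
  have hEdim : ∀ e ∈ E, ringKrullDim (G.U.presheaf.stalk e) ≤ 1 := by
    intro e he
    rw [hE] at he
    obtain ⟨r, hr, rfl⟩ := he
    exact hdim r hr
  obtain ⟨N, hN⟩ : ∃ N : Set G.U, N = properGen G E := ⟨_, rfl⟩
  have hNfin : N.Finite := by rw [hN]; exact properGen_finite G E hEfin hEdim
  have hNfwd : ∀ x ∈ N, ∀ r : G.R, G.s r = x → G.t r ∈ N := by
    intro x hx r hr
    rw [hN] at hx ⊢
    exact properGen_forward G E hEfwd x hx r hr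
  have hNmax : ∀ x ∈ N, ∀ y : G.U, y ⤳ x → y = x := by
    intro x hx y hy
    rw [hN] at hx
    exact properGen_maximal G E hEdim x hx y hy
  have hNW : N ⊆ (invW G : Set G.U) := by
    intro x hx
    apply mem_invW_of_orbit_maximal G x
    intro r hr y hy
    exact hNmax _ (hNfwd x hx r hr) y hy
  obtain ⟨h₁, hh₁I, hW₁aff, hNW₁, hW₁inv, hW₁W⟩ := main1885_gen G A j I hI hcl N hNfin hNW hNfwd
  obtain ⟨W₁, hW₁⟩ : ∃ W₁ : G.U.Opens, W₁ = j ⁻¹ᵁ PrimeSpectrum.basicOpen h₁ := ⟨_, rfl⟩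
  rw [← hW₁] at hW₁aff hNW₁ hW₁inv hW₁W
  by_cases huW₁ : u ∈ W₁
  · exact ⟨W₁, hW₁aff, huW₁, hW₁inv⟩
  have hEW₁ : ∀ e ∈ E, e ∉ W₁ := by
    intro e he heW
    rw [hE] at he
    exact huW₁ (mem_of_Orb_inter G u W₁ hW₁inv e he heW)
  have hEmax : ∀ e ∈ E, ∀ y : G.U, y ∉ W₁ → y ⤳ e → y = e := by
    intro e he y hyW hye
    by_contra hne
    apply hyW
    apply hNW₁
    rw [hN]
    exact ⟨e, he, hye, hne⟩
  have htinv : ∀ r : G.R, G.s r ∈ W₁ ↔ G.t r ∈ W₁ := by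
    intro r
    have h1 : r ∈ G.s ⁻¹ᵁ W₁ ↔ r ∈ G.t ⁻¹ᵁ W₁ := by rw [hW₁inv]
    exact h1
  obtain ⟨h', hh'I, hEQ, hZQinv⟩ := exists_invariant_affine_on_closed G A j I hI hcl W₁ hW₁inv h₁
    hW₁ E hEfin hEfwd hEW₁ hEmax
  obtain ⟨Q, hQdef⟩ : ∃ Q : G.U.Opens, Q = j ⁻¹ᵁ PrimeSpectrum.basicOpen h' := ⟨_, rfl⟩
  rw [← hQdef] at hEQ hZQinv
  have hQ : IsAffineOpen Q := by
    rw [hQdef]; exact isAffineOpen_preimage_basicOpen A j I hcl h' hh'I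
  -- the largest invariant open in `Q`
  obtain ⟨U₂, hU₂⟩ : ∃ U₂ : G.U.Opens, (U₂ : Set G.U) = orbIn G (Q : Set G.U) :=
    ⟨⟨orbIn G (Q : Set G.U), isOpen_orbIn G Q.2⟩, rfl⟩
  have hU₂Q : U₂ ≤ Q := by
    intro x hx
    have : x ∈ orbIn G (Q : Set G.U) := by rw [← hU₂]; exact hx
    exact orbIn_subset G _ this
  have hZQ_fwd : ∀ z : G.U, z ∉ W₁ → z ∈ Q → ∀ r : G.R, G.s r = z → G.t r ∉ W₁ ∧ G.t r ∈ Q := by
    intro z hzW hzQ r hr
    refine ⟨fun h => hzW (by rw [← hr]; exact (htinv r).mpr h), ?_⟩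
    exact (hZQinv r (by rw [hr]; exact hzW)).mp (by rw [hr]; exact hzQ)
  have hZQ_U₂ : ∀ z : G.U, z ∉ W₁ → z ∈ Q → z ∈ U₂ := by
    intro z hzW hzQ
    show z ∈ (U₂ : Set G.U)
    rw [hU₂]
    intro r hr
    exact (hZQ_fwd z hzW hzQ r hr).2
  -- the separating function
  obtain ⟨a, ha1, ha2⟩ := exists_section_separating hQ ((U₂ : Set G.U)ᶜ) ((W₁ : Set G.U)ᶜ)
    U₂.isOpen.isClosed_compl W₁.isOpen.isClosed_compl
    (fun x hxQ hx1 hx2 => hx1 (hZQ_U₂ x hx2 hxQ))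
  -- the function cutting out `W₁`
  obtain ⟨k₁, hk₁⟩ : ∃ k₁ : Γ(G.U, ⊤),
      k₁ = j.appTop.hom ((Scheme.ΓSpecIso (CommRingCat.of A)).inv.hom h₁) := ⟨_, rfl⟩
  have hk₁W : G.U.basicOpen k₁ = W₁ := by
    rw [hW₁, hk₁, ← Scheme.preimage_basicOpen_top, basicOpen_eq_of_affine]
  obtain ⟨f₁, hf₁⟩ : ∃ f₁ : Γ(G.U, Q), f₁ = (G.U.presheaf.map (homOfLE le_top).op).hom k₁ :=
    ⟨_, rfl⟩
  have hf₁open : G.U.basicOpen f₁ = Q ⊓ W₁ := by
    rw [hf₁, Scheme.basicOpen_res, hk₁W]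
  obtain ⟨f, hf⟩ : ∃ f : Γ(G.U, Q), f = a * f₁ := ⟨_, rfl⟩
  obtain ⟨Q₀, hQ₀⟩ : ∃ Q₀ : G.U.Opens, Q₀ = G.U.basicOpen f := ⟨_, rfl⟩
  have hQ₀eq : Q₀ = G.U.basicOpen a ⊓ (Q ⊓ W₁) := by
    rw [hQ₀, hf, Scheme.basicOpen_mul, hf₁open]
  have hQ₀aff : IsAffineOpen Q₀ := by rw [hQ₀]; exact hQ.basicOpen f
  have hQ₀W : Q₀ ≤ invW G := by
    rw [hQ₀eq]
    exact (inf_le_right.trans inf_le_right).trans hW₁W
  have hQ₀mem : ∀ x : G.U, x ∈ Q₀ ↔ x ∈ G.U.basicOpen a ∧ x ∈ Q ∧ x ∈ W₁ := by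
    intro x
    rw [hQ₀eq]
    exact Iff.rfl
  have hQ₀orb : (Q₀ : Set G.U) ⊆ orbIn G (Q : Set G.U) := by
    intro x hx
    obtain ⟨hxa, hxQ, -⟩ := (hQ₀mem x).mp hx
    rw [← hU₂]
    by_contra hxU
    exact ha1 x hxQ hxU hxa
  obtain ⟨g, hg⟩ := exists_section_basicOpen_eq_orbIn' G Q Q₀ f hQ₀ hQ₀aff hQ₀W hQ₀orb
  obtain ⟨V₃, hV₃⟩ : ∃ V₃ : G.U.Opens, V₃ = G.U.basicOpen g := ⟨_, rfl⟩
  have hV₃set : (V₃ : Set G.U) = orbIn G (Q₀ : Set G.U) := by rw [hV₃]; exact hg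
  have hV₃aff : IsAffineOpen V₃ := by rw [hV₃]; exact hQ₀aff.basicOpen g
  have hV₃Q₀ : V₃ ≤ Q₀ := by rw [hV₃]; exact G.U.basicOpen_le g
  -- the invariant open neighbourhood of the closed part
  obtain ⟨Q₁, hQ₁⟩ : ∃ Q₁ : G.U.Opens, Q₁ = U₂ ⊓ G.U.basicOpen a := ⟨_, rfl⟩
  obtain ⟨O, hO⟩ : ∃ O : G.U.Opens, (O : Set G.U) = orbIn G (Q₁ : Set G.U) :=
    ⟨⟨orbIn G (Q₁ : Set G.U), isOpen_orbIn G Q₁.2⟩, rfl⟩
  have hOQ₁ : O ≤ Q₁ := by
    intro x hx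
    have : x ∈ orbIn G (Q₁ : Set G.U) := by rw [← hO]; exact hx
    exact orbIn_subset G _ this
  have hOQ : O ≤ Q := by
    intro x hx
    have h1 : x ∈ Q₁ := hOQ₁ hx
    rw [hQ₁] at h1
    exact hU₂Q h1.1
  have hi : ∀ z : G.U, z ∉ W₁ → z ∈ Q → z ∈ O := by
    intro z hzW hzQ
    show z ∈ (O : Set G.U)
    rw [hO]
    intro r hr
    obtain ⟨h1, h2⟩ := hZQ_fwd z hzW hzQ r hr
    show G.t r ∈ Q₁
    rw [hQ₁]
    exact ⟨hZQ_U₂ _ h1 h2, ha2 _ h2 h1⟩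
  have hii : ∀ x : G.U, x ∈ O → x ∈ W₁ → x ∈ V₃ := by
    intro x hxO hxW
    show x ∈ (V₃ : Set G.U)
    rw [hV₃set]
    intro r hr
    have h1 : x ∈ orbIn G (Q₁ : Set G.U) := by rw [← hO]; exact hxO
    have h2 : G.t r ∈ Q₁ := h1 r hr
    rw [hQ₁] at h2
    have h3 : G.t r ∈ W₁ := (htinv r).mp (by rw [hr]; exact hxW)
    exact (hQ₀mem _).mpr ⟨h2.2, hU₂Q h2.1, h3⟩
  obtain ⟨V, hV⟩ : ∃ V : G.U.Opens, V = V₃ ⊔ O := ⟨_, rfl⟩
  have hVmem : ∀ x : G.U, x ∈ V ↔ x ∈ V₃ ∨ x ∈ O := by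
    intro x
    rw [hV]
    exact Iff.rfl
  have hVQ : V ≤ Q := by
    intro x hx
    rcases (hVmem x).mp hx with h | h
    · exact ((hQ₀mem x).mp (hV₃Q₀ h)).2.1
    · exact hOQ h
  refine ⟨V, ?_, ?_, ?_⟩
  · -- affineness
    have hinter : V ⊓ G.U.basicOpen f₁ = V₃ := by
      rw [hf₁open]
      ext x
      constructor
      · rintro ⟨hxV, -, hxW⟩
        rcases (hVmem x).mp hxV with h | h
        · exact h
        · exact hii x h hxW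
      · intro hx
        have h1 := (hQ₀mem x).mp (hV₃Q₀ hx)
        exact ⟨(hVmem x).mpr (Or.inl hx), h1.2.1, h1.2.2⟩
    refine isAffineOpen_of_basicOpen_of_isClosed hQ V hVQ f₁ (by rw [hinter]; exact hV₃aff)
      ((W₁ : Set G.U)ᶜ) W₁.isOpen.isClosed_compl ?_
    intro x hxQ
    rw [hf₁open]
    constructor
    · rintro ⟨-, hx⟩ hxW
      exact hx ⟨hxQ, hxW⟩
    · intro hxW
      exact ⟨(hVmem x).mpr (Or.inr (hi x hxW hxQ)), fun h => hxW h.2⟩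
  · exact (hVmem u).mpr (Or.inr (hi u (hEW₁ u huE) (hEQ huE)))
  · apply Opens.ext
    ext r
    show G.s r ∈ V ↔ G.t r ∈ V
    rw [hVmem, hVmem]
    have h1 : G.s r ∈ V₃ ↔ G.t r ∈ V₃ := by
      show G.s r ∈ (V₃ : Set G.U) ↔ G.t r ∈ (V₃ : Set G.U)
      rw [hV₃set]
      exact mem_orbIn_iff G _ r
    have h2 : G.s r ∈ O ↔ G.t r ∈ O := by
      show G.s r ∈ (O : Set G.U) ↔ G.t r ∈ (O : Set G.U)
      rw [hO]
      exact mem_orbIn_iff G _ r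
    rw [h1, h2]

end Groth.Agent.Lib.GrpdDim1H7
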