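import Mathlib

/-!
# Spanning families of the right size in finite projective modules are bases (helper6)

* `linearIndependent_of_span_of_rank`: `r` generators of a finite projective module of constant
  rank `r` are linearly independent.
* `exists_pow_mul_eq_zero_of_rank`: local version on `D(g)`.
-/

set_option autoImplicit false
set_option linter.style.haveILetI false
universe u

open TensorProduct

namespace Groth.Agent.Lib.GrpdLIH6

theorem linearIndependent_of_span_of_rank {R M : Type u} [CommRing R] [AddCommGroup M] [Module R M]
    [Module.Finite R M] [Module.Projective R M] {r : ℕ} (v : Fin r → M)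
    (hv : Submodule.span R (Set.range v) = ⊤)
    (hr : ∀ p : PrimeSpectrum R, Module.rankAtStalk M p = r) : LinearIndependent R v := by
  classical
  rcases subsingleton_or_nontrivial R with hR | hR
  · haveI : Subsingleton (Fin r →₀ R) := inferInstance
    exact Function.injective_of_subsingleton _
  let φ : (Fin r → R) →ₗ[R] M := Fintype.linearCombination R v
  have hφs : Function.Surjective φ := by
    rw [← LinearMap.range_eq_top, Fintype.range_linearCombination, hv]
  obtain ⟨σ, hσ⟩ := Module.projective_lifting_property φ LinearMap.id hφs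
  have hσ' : ∀ m, φ (σ m) = m := fun m => by
    have := congrArg (fun f => f m) hσ
    simpa using this
  -- projection to the kernel
  let K := LinearMap.ker φ
  let π : (Fin r → R) →ₗ[R] K :=
    LinearMap.codRestrict K (LinearMap.id - σ ∘ₗ φ) (fun x => by
      rw [LinearMap.mem_ker]
      simp only [LinearMap.sub_apply, LinearMap.id_coe, id_eq, LinearMap.coe_comp,
        Function.comp_apply, map_sub, hσ', sub_self])
  have hπ : ∀ k : K, π k = k := by
    intro k
    apply Subtype.ext
    show (k : Fin r → R) - σ (φ k) = k
    rw [LinearMap.mem_ker.mp k.2, map_zero, sub_zero]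
  have hπs : Function.Surjective π := fun k => ⟨k, hπ k⟩
  haveI : Module.Finite R K := Module.Finite.of_surjective π hπs
  haveI : Module.Projective R K :=
    Module.Projective.of_split K.subtype π (LinearMap.ext hπ)
  -- the splitting
  let e : (Fin r → R) ≃ₗ[R] M × K :=
    LinearEquiv.ofLinear (φ.prod π) (LinearMap.coprod σ K.subtype)
      (by
        apply LinearMap.ext
        rintro ⟨m, k⟩
        apply Prod.ext
        · show φ (σ m + k) = m
          rw [map_add, hσ', LinearMap.mem_ker.mp k.2, add_zero]
        · show π (σ m + k) = k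
          rw [map_add, hπ]
          have : π (σ m) = 0 := by
            apply Subtype.ext
            show σ m - σ (φ (σ m)) = 0
            rw [hσ', sub_self]
          rw [this, zero_add])
      (by
        apply LinearMap.ext
        intro x
        show σ (φ x) + (x - σ (φ x)) = x
        abel)
  have hrk : Module.rankAtStalk (R := R) K = 0 := by
    funext p
    have h1 := congrFun (Module.rankAtStalk_eq_of_equiv e) p
    rw [Module.rankAtStalk_prod, Module.rankAtStalk_eq_finrank_of_free] at h1
    simp only [Pi.add_apply, Pi.natCast_def, Module.finrank_fin_fun, hr p] at h1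
    have : Module.rankAtStalk (R := R) K p = 0 := by
      have h2 : (r : ℕ) = r + Module.rankAtStalk (R := R) K p := by exact_mod_cast h1
      omega
    exact this
  haveI : Subsingleton K := Module.rankAtStalk_eq_zero_iff_subsingleton.mp hrk
  rw [Fintype.linearIndependent_iff]
  intro a ha
  have hk : a ∈ K := by
    rw [LinearMap.mem_ker]
    show Fintype.linearCombination R v a = 0
    rw [Fintype.linearCombination_apply]; exact ha
  have : (⟨a, hk⟩ : K) = 0 := Subsingleton.elim _ _
  have ha0 : a = 0 := congrArg Subtype.val this
  intro i; rw [ha0]; rfl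

/-- Local version: if `g • M ⊆ span v` and `M` has rank `r` on `D(g)`, every relation among the
`v i` is killed by a power of `g`. -/
theorem exists_pow_mul_eq_zero_of_rank {R M : Type u} [CommRing R] [AddCommGroup M] [Module R M]
    [Module.Finite R M] [Module.Projective R M] {r : ℕ} (v : Fin r → M) (g : R)
    (hv : ∀ m : M, g • m ∈ Submodule.span R (Set.range v))
    (hr : ∀ p : PrimeSpectrum R, g ∉ p.asIdeal → Module.rankAtStalk M p = r)
    (a : Fin r → R) (ha : ∑ i, a i • v i = 0) : ∃ N : ℕ, ∀ i, g ^ N * a i = 0 := by
  classical
  let R' := Localization.Away g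
  let M' := R' ⊗[R] M
  let v' : Fin r → M' := fun i => (1 : R') ⊗ₜ[R] v i
  have hsm : ∀ (c : R) (m : M),
      (1 : R') ⊗ₜ[R] (c • m) = algebraMap R R' c • ((1 : R') ⊗ₜ[R] m) := by
    intro c m
    rw [TensorProduct.tmul_smul, algebraMap_smul]
  have hunit : IsUnit (algebraMap R R' g) := IsLocalization.Away.algebraMap_isUnit g
  have hv' : Submodule.span R' (Set.range v') = ⊤ := by
    have key : ∀ m : M, (1 : R') ⊗ₜ[R] m ∈ Submodule.span R' (Set.range v') := by
      intro m
      have h1 : ∀ y ∈ Submodule.span R (Set.range v),
          (1 : R') ⊗ₜ[R] y ∈ Submodule.span R' (Set.range v') := by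
        intro y hy
        induction hy using Submodule.span_induction with
        | mem y hy =>
          obtain ⟨i, rfl⟩ := hy
          exact Submodule.subset_span ⟨i, rfl⟩
        | zero => rw [tmul_zero]; exact Submodule.zero_mem _
        | add y y' _ _ hy hy' => rw [tmul_add]; exact Submodule.add_mem _ hy hy'
        | smul c y _ hy =>
          rw [hsm]
          exact Submodule.smul_mem _ _ hy
      have h2 := h1 _ (hv m)
      rw [hsm] at h2
      obtain ⟨u, hu⟩ := hunit
      have h4 : (1 : R') ⊗ₜ[R] m = (↑u⁻¹ : R') • (algebraMap R R' g • ((1 : R') ⊗ₜ[R] m)) := by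
        rw [← hu, smul_smul, Units.inv_mul, one_smul]
      rw [h4]
      exact Submodule.smul_mem _ _ h2
    have hall : ∀ z : M', z ∈ Submodule.span R' (Set.range v') := by
      intro z
      induction z using TensorProduct.induction_on with
      | zero => exact Submodule.zero_mem _
      | add z z' hz hz' => exact Submodule.add_mem _ hz hz'
      | tmul c m =>
        have hc : c ⊗ₜ[R] m = c • ((1 : R') ⊗ₜ[R] m) := by
          rw [TensorProduct.smul_tmul', smul_eq_mul, mul_one]
        rw [hc]
        exact Submodule.smul_mem _ _ (key m)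
    exact eq_top_iff.mpr fun z _ => hall z
  have hr' : ∀ p : PrimeSpectrum R', Module.rankAtStalk (R := R') M' p = r := by
    intro p
    rw [Module.rankAtStalk_baseChange]
    apply hr
    intro hg
    have : algebraMap R R' g ∈ p.asIdeal := hg
    exact p.2.ne_top (Ideal.eq_top_of_isUnit_mem _ this hunit)
  have hli := linearIndependent_of_span_of_rank v' hv' hr'
  rw [Fintype.linearIndependent_iff] at hli
  have h0 : ∑ i, algebraMap R R' (a i) • v' i = 0 := by
    have : ∀ i, algebraMap R R' (a i) • v' i = (1 : R') ⊗ₜ[R] (a i • v i) := by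
      intro i
      exact (hsm (a i) (v i)).symm
    simp only [this]
    rw [← TensorProduct.tmul_sum, ha, tmul_zero]
  have h1 := hli _ h0
  have h2 : ∀ i, ∃ n : ℕ, g ^ n * a i = 0 := by
    intro i
    have := (IsLocalization.map_eq_zero_iff (Submonoid.powers g) R' (a i)).mp (h1 i)
    obtain ⟨⟨_, n, rfl⟩, hn⟩ := this
    exact ⟨n, hn⟩
  choose n hn using h2
  refine ⟨∑ i, n i, fun i => ?_⟩
  have hle : n i ≤ ∑ j, n j := Finset.single_le_sum (fun _ _ => Nat.zero_le _) (Finset.mem_univ i)
  obtain ⟨k, hk⟩ := Nat.exists_eq_add_of_le hle
  rw [hk, pow_add, mul_comm (g ^ n i), mul_assoc, hn, mul_zero]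

end Groth.Agent.Lib.GrpdLIH6
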