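import Mathlib
import Groth.Prelude.Def_Grpd
import Groth.Agent.Lib.GrpdNorm1_helper6
import Groth.Agent.Lib.GrpdIntegral_helper4

/-!
# Ring-level data of an affine groupoid scheme (helper6)

`RingGrpd A B P`: rings of functions on objects, arrows and composable pairs, with the ring maps
`s t : A → B`, `e : B → A`, `p₀ p₁ c : B → P` and the two pushout squares
`P = B ⊗_{s,A,t} B` (via `p₀, p₁`) and `P = B ⊗_{s,A,s} B` (via `c, p₁`).
We prove: the norm of `t f` (along `s`) is invariant, `A` is integral over the invariants.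
-/

set_option autoImplicit false
set_option linter.style.haveILetI false
universe u

open CategoryTheory CategoryTheory.Limits AlgebraicGeometry Grpd
open Groth.Agent.Lib.GrpdCalc Groth.Agent.Lib.GrpdFreeH4 Groth.Agent.Lib.GrpdIntegralH4
open Groth.Agent.Lib.GrpdNormH6

namespace Groth.Agent.Lib.GrpdRingH6

/-- Ring-level data of an affine groupoid. -/
structure RingGrpd (A B P : CommRingCat.{u}) where
  s : A ⟶ B
  t : A ⟶ B
  e : B ⟶ A
  p₀ : B ⟶ P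
  p₁ : B ⟶ P
  c : B ⟶ P
  es : s ≫ e = 𝟙 A
  et : t ≫ e = 𝟙 A
  ct : t ≫ c = t ≫ p₀
  cs : s ≫ c = s ≫ p₁
  po1 : IsPushout s t p₀ p₁
  po2 : IsPushout s s c p₁

/-- The ring-level data of an affine groupoid scheme. -/
noncomputable def ofGroupoid {S : Scheme.{u}} (G : GroupoidScheme S) [IsAffine G.U] [IsAffine G.R] :
    RingGrpd Γ(G.U, ⊤) Γ(G.R, ⊤) Γ(pullback G.s G.t, ⊤) where
  s := G.s.appTop
  t := G.t.appTop
  e := G.e.appTop
  p₀ := (pullback.fst G.s G.t).appTop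
  p₁ := (pullback.snd G.s G.t).appTop
  c := G.c.appTop
  es := by rw [← Scheme.Hom.comp_appTop, G.e_s]; rfl
  et := by rw [← Scheme.Hom.comp_appTop, G.e_t]; rfl
  ct := by rw [← Scheme.Hom.comp_appTop, ← Scheme.Hom.comp_appTop, c_t G]
  cs := by rw [← Scheme.Hom.comp_appTop, ← Scheme.Hom.comp_appTop, c_s G]
  po1 := isPushout_appTop_of_isPullback (IsPullback.of_hasPullback G.s G.t)
  po2 := isPushout_appTop_of_isPullback (isPullback_c G)

namespace RingGrpd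

variable {A B P : CommRingCat.{u}} (𝒢 : RingGrpd A B P)

/-- The ring of invariants. -/
def inv : Subring A := RingHom.eqLocus 𝒢.s.hom 𝒢.t.hom

lemma es_apply (a : A) : 𝒢.e.hom (𝒢.s.hom a) = a :=
  congrArg (fun φ => φ.hom a) 𝒢.es

lemma et_apply (a : A) : 𝒢.e.hom (𝒢.t.hom a) = a :=
  congrArg (fun φ => φ.hom a) 𝒢.et

lemma ct_apply (a : A) : 𝒢.c.hom (𝒢.t.hom a) = 𝒢.p₀.hom (𝒢.t.hom a) :=
  congrArg (fun φ => φ.hom a) 𝒢.ct

lemma cs_apply (a : A) : 𝒢.c.hom (𝒢.s.hom a) = 𝒢.p₁.hom (𝒢.s.hom a) :=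
  congrArg (fun φ => φ.hom a) 𝒢.cs

lemma p_apply (a : A) : 𝒢.p₀.hom (𝒢.s.hom a) = 𝒢.p₁.hom (𝒢.t.hom a) :=
  congrArg (fun φ => φ.hom a) 𝒢.po1.w

/-- A retract presentation of `B` over `A` (via `s`) when `B` is finite projective. -/
theorem exists_presentation
    (hfin : letI := 𝒢.s.hom.toAlgebra; Module.Finite A B)
    (hproj : letI := 𝒢.s.hom.toAlgebra; Module.Projective A B) :
    letI := 𝒢.s.hom.toAlgebra
    ∃ (n : ℕ) (w : Fin n → B) (ι : B →ₗ[A] (Fin n → A)), ∀ a, ∑ i, ι a i • w i = a := by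
  letI := 𝒢.s.hom.toAlgebra
  obtain ⟨n, π, hπ⟩ := Module.Finite.exists_fin' A B
  obtain ⟨ι, hι⟩ := Module.projective_lifting_property π LinearMap.id hπ
  refine ⟨n, fun i => π (fun j => if i = j then 1 else 0), ι, fun a => ?_⟩
  have h1 := LinearMap.pi_apply_eq_sum_univ π (ι a)
  have h2 : π (ι a) = a := LinearMap.congr_fun hι a
  rw [← h1, h2]

section pres

variable (n : ℕ) (w : Fin n → B)
  (ι : letI := 𝒢.s.hom.toAlgebra; B →ₗ[A] (Fin n → A))
  (hw : letI := 𝒢.s.hom.toAlgebra; ∀ a, ∑ i, ι a i • w i = a)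

include hw in
/-- The norm (along `s`) of an element `b` with `c b = p₀ b` is invariant. -/
theorem nrm_invariant (b : B) (hb : 𝒢.c.hom b = 𝒢.p₀.hom b) :
    letI := 𝒢.s.hom.toAlgebra
    𝒢.s.hom (nrm n w ι b) = 𝒢.t.hom (nrm n w ι b) := by
  letI algAB : Algebra A B := 𝒢.s.hom.toAlgebra
  obtain ⟨ιt, hιt1, hιt2⟩ :=
    exists_retract_of_isPushout 𝒢.s 𝒢.t _ _ 𝒢.po1 n w ι hw
  obtain ⟨ιs, hιs1, hιs2⟩ :=
    exists_retract_of_isPushout 𝒢.s 𝒢.s _ _ 𝒢.po2 n w ι hw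
  letI algBP : Algebra B P := 𝒢.p₁.hom.toAlgebra
  -- both sides are norms of `c b = p₀ b` for two presentations of `P` over `B`
  have e1 : 𝒢.s.hom (nrm n w ι b) = nrm n (fun i => 𝒢.c.hom (w i)) ιs (𝒢.c.hom b) := by
    unfold nrm
    rw [RingHom.map_det]
    congr 1
    ext k i
    simp only [RingHom.mapMatrix_apply, Matrix.map_apply, Matrix.add_apply, map_add]
    congr 1
    · by_cases hki : k = i
      · subst hki; simp
      · simp [hki]
    · show 𝒢.s.hom (ι ((b - 1) * w i) k) = ιs ((𝒢.c.hom b - 1) * 𝒢.c.hom (w i)) k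
      rw [← hιs2, map_mul, map_sub, map_one]
  have e2 : 𝒢.t.hom (nrm n w ι b) = nrm n (fun i => 𝒢.p₀.hom (w i)) ιt (𝒢.p₀.hom b) := by
    unfold nrm
    rw [RingHom.map_det]
    congr 1
    ext k i
    simp only [RingHom.mapMatrix_apply, Matrix.map_apply, Matrix.add_apply, map_add]
    congr 1
    · by_cases hki : k = i
      · subst hki; simp
      · simp [hki]
    · show 𝒢.t.hom (ι ((b - 1) * w i) k) = ιt ((𝒢.p₀.hom b - 1) * 𝒢.p₀.hom (w i)) k
      rw [← hιt2, map_mul, map_sub, map_one]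
  rw [e1, e2, hb]
  exact nrm_indep _ _ hιs1 hιt1 _

include hw in
/-- The characteristic polynomial (along `s`) of `b` with `c b = p₀ b` has invariant
coefficients. -/
theorem charpoly_invariant (b : B) (hb : 𝒢.c.hom b = 𝒢.p₀.hom b) :
    letI := 𝒢.s.hom.toAlgebra
    (mat n w ι b).charpoly.map 𝒢.s.hom = (mat n w ι b).charpoly.map 𝒢.t.hom := by
  letI algAB : Algebra A B := 𝒢.s.hom.toAlgebra
  obtain ⟨ιt, hιt1, hιt2⟩ :=
    exists_retract_of_isPushout 𝒢.s 𝒢.t _ _ 𝒢.po1 n w ι hw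
  obtain ⟨ιs, hιs1, hιs2⟩ :=
    exists_retract_of_isPushout 𝒢.s 𝒢.s _ _ 𝒢.po2 n w ι hw
  letI algBP : Algebra B P := 𝒢.p₁.hom.toAlgebra
  rw [← Matrix.charpoly_map, ← Matrix.charpoly_map]
  have e1 : (mat n w ι b).map 𝒢.s.hom = Matrix.of fun k i =>
      ιs (𝒢.c.hom b * 𝒢.c.hom (w i)) k := by
    ext k i
    show 𝒢.s.hom (ι (b * w i) k) = ιs (𝒢.c.hom b * 𝒢.c.hom (w i)) k
    rw [← map_mul, hιs2]
  have e2 : (mat n w ι b).map 𝒢.t.hom = Matrix.of fun k i =>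
      ιt (𝒢.c.hom b * 𝒢.p₀.hom (w i)) k := by
    ext k i
    show 𝒢.t.hom (ι (b * w i) k) = ιt (𝒢.c.hom b * 𝒢.p₀.hom (w i)) k
    rw [hb, ← map_mul, hιt2]
  rw [e1, e2]
  exact charpoly_indep n _ _ ιs ιt hιs1 hιt1 _

end pres

/-- `A` is integral over the invariants. -/
theorem isIntegral_inv
    (hfin : letI := 𝒢.s.hom.toAlgebra; Module.Finite A B)
    (hproj : letI := 𝒢.s.hom.toAlgebra; Module.Projective A B) :
    Algebra.IsIntegral 𝒢.inv A := by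
  classical
  letI algAB : Algebra A B := 𝒢.s.hom.toAlgebra
  obtain ⟨n, w, ι, hw⟩ := 𝒢.exists_presentation hfin hproj
  refine ⟨fun a => ?_⟩
  obtain ⟨Φ, hΦ⟩ : ∃ Φ : Matrix (Fin n) (Fin n) A, Φ = mat n w ι (𝒢.t.hom a) := ⟨_, rfl⟩
  have hCH : Polynomial.aeval (𝒢.t.hom a) Φ.charpoly = 0 := by
    rw [hΦ]; exact aeval_charpoly_eq_zero n w ι hw _
  have hinv : Φ.charpoly.map 𝒢.s.hom = Φ.charpoly.map 𝒢.t.hom := by
    rw [hΦ]; exact 𝒢.charpoly_invariant n w ι hw _ (𝒢.ct_apply a)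
  have hcoef : (↑Φ.charpoly.coeffs : Set A) ⊆ ↑𝒢.inv := by
    intro x hx
    obtain ⟨k, -, rfl⟩ := Polynomial.mem_coeffs_iff.mp hx
    show 𝒢.s.hom (Φ.charpoly.coeff k) = 𝒢.t.hom (Φ.charpoly.coeff k)
    have h3 := congrArg (fun p => Polynomial.coeff p k) hinv
    simpa [Polynomial.coeff_map] using h3
  have heval : Polynomial.eval a Φ.charpoly = 0 := by
    have h4 : 𝒢.e.hom (Polynomial.eval₂ 𝒢.s.hom (𝒢.t.hom a) Φ.charpoly) = 0 := by
      have h5 : Polynomial.eval₂ 𝒢.s.hom (𝒢.t.hom a) Φ.charpoly = 0 := hCH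
      rw [h5, map_zero]
    rw [Polynomial.hom_eval₂, 𝒢.et_apply] at h4
    have h6 : 𝒢.e.hom.comp 𝒢.s.hom = RingHom.id _ :=
      RingHom.ext fun x => 𝒢.es_apply x
    rw [h6] at h4
    exact h4
  refine ⟨Φ.charpoly.toSubring 𝒢.inv hcoef,
    (Polynomial.monic_toSubring _ _ _).2 (Matrix.charpoly_monic Φ), ?_⟩
  have h7 : Polynomial.eval₂ 𝒢.inv.subtype a (Φ.charpoly.toSubring 𝒢.inv hcoef) =
      Polynomial.eval a Φ.charpoly := by
    rw [← Polynomial.eval_map, Polynomial.map_toSubring]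
  exact h7.trans heval

end RingGrpd

end Groth.Agent.Lib.GrpdRingH6
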