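import Mathlib
import Groth.Agent.Lib.GrpdRing1_helper6

/-!
# Orbits of a finite locally free ring groupoid are the fibres of `Spec A → Spec (invariants)`
-/

set_option autoImplicit false
set_option linter.style.haveILetI false
universe u

open CategoryTheory CategoryTheory.Limits
open Groth.Agent.Lib.GrpdNormH6

namespace Groth.Agent.Lib.GrpdRingH6

namespace RingGrpd

variable {A B P : CommRingCat.{u}} (𝒢 : RingGrpd A B P)

lemma comap_inv_comap_t_eq (q : Ideal B) :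
    (q.comap 𝒢.t.hom).comap (algebraMap 𝒢.inv A) = (q.comap 𝒢.s.hom).comap (algebraMap 𝒢.inv A) := by
  ext x
  simp only [Ideal.mem_comap]
  have hx : 𝒢.s.hom (x : A) = 𝒢.t.hom (x : A) := x.2
  show 𝒢.t.hom (x : A) ∈ q ↔ 𝒢.s.hom (x : A) ∈ q
  rw [hx]

/-- Two primes of `A` over the same prime of the invariants are related by a prime of `B`. -/
theorem exists_prime_orbit
    (hfin : letI := 𝒢.s.hom.toAlgebra; Module.Finite A B)
    (hproj : letI := 𝒢.s.hom.toAlgebra; Module.Projective A B)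
    (P₀ P₁ : Ideal A) [hP₀ : P₀.IsPrime] [hP₁ : P₁.IsPrime]
    (h : P₀.comap (algebraMap 𝒢.inv A) = P₁.comap (algebraMap 𝒢.inv A)) :
    ∃ q : Ideal B, q.IsPrime ∧ q.comap 𝒢.t.hom = P₀ ∧ q.comap 𝒢.s.hom = P₁ := by
  classical
  letI algAB : Algebra A B := 𝒢.s.hom.toAlgebra
  haveI : Module.Finite A B := hfin
  haveI := 𝒢.isIntegral_inv hfin hproj
  obtain ⟨n, w, ι, hw⟩ := 𝒢.exists_presentation hfin hproj
  by_contra hno
  push Not at hno
  -- the finite set of primes of `B` over `P₁`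
  have hF : (PrimeSpectrum.comap (algebraMap A B) ⁻¹' {⟨P₁, hP₁⟩}).Finite :=
    Algebra.QuasiFinite.finite_comap_preimage_singleton _
  let O : Finset (PrimeSpectrum A) := hF.toFinset.image (PrimeSpectrum.comap 𝒢.t.hom)
  -- `P₀` is not contained in the union of the orbit of `P₁`
  have havoid : ¬ ((P₀ : Set A) ⊆ ⋃ x ∈ (↑O : Set (PrimeSpectrum A)), (x.asIdeal : Set A)) := by
    intro hsub
    by_cases hOe : O.Nonempty
    · obtain ⟨a, ha⟩ := hOe
      rw [Ideal.subset_union_prime (f := fun x : PrimeSpectrum A => x.asIdeal) a a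
        (fun i _ _ _ => i.2)] at hsub
      obtain ⟨x, hxO, hle⟩ := hsub
      obtain ⟨q, hq, rfl⟩ := Finset.mem_image.mp hxO
      have hq1 : q.asIdeal.comap 𝒢.s.hom = P₁ := by
        have := (Set.Finite.mem_toFinset hF).mp hq
        exact congrArg PrimeSpectrum.asIdeal this
      -- both lie over the same prime of the invariants, hence are equal
      have hcomap : (q.asIdeal.comap 𝒢.t.hom).comap (algebraMap 𝒢.inv A) =
          P₀.comap (algebraMap 𝒢.inv A) := by
        rw [𝒢.comap_inv_comap_t_eq, hq1, h]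
      have heq : P₀ = q.asIdeal.comap 𝒢.t.hom := by
        by_contra hne
        have hlt : P₀ < q.asIdeal.comap 𝒢.t.hom := lt_of_le_of_ne hle hne
        have := Ideal.IsIntegral.comap_lt_comap (R := 𝒢.inv) hlt
        rw [hcomap] at this
        exact lt_irrefl _ this
      exact hno q.asIdeal q.2 heq.symm hq1
    · rw [Finset.not_nonempty_iff_eq_empty] at hOe
      rw [hOe] at hsub
      simp only [Finset.coe_empty, Set.mem_empty_iff_false, Set.iUnion_of_empty,
        Set.iUnion_empty, Set.subset_empty_iff] at hsub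
      have : (0 : A) ∈ (P₀ : Set A) := P₀.zero_mem
      rw [hsub] at this
      exact this
  rw [Set.not_subset] at havoid
  obtain ⟨f, hf₀, hfO⟩ := havoid
  -- the norm of `t f`
  obtain ⟨g, hg⟩ : ∃ g : A, g = nrm n w ι (𝒢.t.hom f) := ⟨_, rfl⟩
  have hginv : g ∈ 𝒢.inv := by
    rw [hg]; exact 𝒢.nrm_invariant n w ι hw _ (𝒢.ct_apply f)
  -- `g ∈ P₀`
  have hg₀ : g ∈ P₀ := by
    rw [hg, nrm_mem_iff hw P₀]
    refine ⟨P₀.comap 𝒢.e.hom, Ideal.comap_isPrime _ _, ?_, ?_⟩
    · ext a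
      show 𝒢.e.hom (𝒢.s.hom a) ∈ P₀ ↔ a ∈ P₀
      rw [𝒢.es_apply]
    · show 𝒢.e.hom (𝒢.t.hom f) ∈ P₀
      rw [𝒢.et_apply]; exact hf₀
  -- `g ∉ P₁`
  have hg₁ : g ∉ P₁ := by
    rw [hg, nrm_mem_iff hw P₁]
    rintro ⟨q, hq, hqP, hfq⟩
    apply hfO
    simp only [Set.mem_iUnion]
    refine ⟨PrimeSpectrum.comap 𝒢.t.hom ⟨q, hq⟩, ?_, hfq⟩
    apply Finset.mem_coe.mpr
    apply Finset.mem_image.mpr
    refine ⟨⟨q, hq⟩, ?_, rfl⟩
    rw [Set.Finite.mem_toFinset]
    exact PrimeSpectrum.ext hqP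
  -- contradiction: `g` is invariant
  have h1 : (⟨g, hginv⟩ : 𝒢.inv) ∈ P₀.comap (algebraMap 𝒢.inv A) := hg₀
  rw [h] at h1
  exact hg₁ h1

end RingGrpd

end Groth.Agent.Lib.GrpdRingH6
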