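import Mathlib
import Groth.Agent.Lib.GrpdSupp1_helper6

/-!
# Pushout squares of rings and supports of quotients by spans (helper6)
-/

set_option autoImplicit false
set_option linter.style.haveILetI false
universe u

open CategoryTheory CategoryTheory.Limits TensorProduct

namespace Groth.Agent.Lib.GrpdSuppH6

section

variable {R A' B' P : CommRingCat.{u}} (f : R ⟶ A') (g : R ⟶ B') (inl : A' ⟶ P) (inr : B' ⟶ P)
  (h : IsPushout f g inl inr)

include h in
/-- The `B'`-linear equivalence `B' ⊗[R] A' ≃ P` of a pushout square. -/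
theorem exists_linearEquiv :
    letI := f.hom.toAlgebra; letI := g.hom.toAlgebra; letI := inr.hom.toAlgebra
    ∃ eL : (B' ⊗[R] A') ≃ₗ[B'] P, ∀ (b : B') (a : A'), eL (b ⊗ₜ[R] a) = inr.hom b * inl.hom a := by
  letI algRA : Algebra R A' := f.hom.toAlgebra
  letI algRB : Algebra R B' := g.hom.toAlgebra
  letI algBP : Algebra B' P := inr.hom.toAlgebra
  have h' : IsPushout (CommRingCat.ofHom (algebraMap R B')) (CommRingCat.ofHom (algebraMap R A'))
      inr inl := h.flip
  let iso := (CommRingCat.isPushout_tensorProduct R B' A').isoIsPushout _ _ h'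
  let e : (B' ⊗[R] A') ≃+* P := iso.commRingCatIsoToRingEquiv
  have he1 : ∀ b' : B', e (b' ⊗ₜ[R] (1 : A')) = inr.hom b' := by
    intro b'
    have h2 : CommRingCat.ofHom (S := B' ⊗[R] A') Algebra.TensorProduct.includeLeftRingHom ≫
        iso.hom = inr :=
      (CommRingCat.isPushout_tensorProduct R B' A').inl_isoIsPushout_hom _ _ h'
    exact congrArg (fun φ => φ.hom b') h2
  have he2 : ∀ a : A', e ((1 : B') ⊗ₜ[R] a) = inl.hom a := by
    intro a
    have h2 : CommRingCat.ofHom (S := B' ⊗[R] A')
        Algebra.TensorProduct.includeRight.toRingHom ≫ iso.hom = inl :=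
      (CommRingCat.isPushout_tensorProduct R B' A').inr_isoIsPushout_hom _ _ h'
    exact congrArg (fun φ => φ.hom a) h2
  let eL : (B' ⊗[R] A') ≃ₗ[B'] P :=
    { e.toAddEquiv with
      map_smul' := fun b' z => by
        show e (b' • z) = b' • e z
        have h1 : b' • z = (b' ⊗ₜ[R] (1 : A')) * z := by
          rw [Algebra.smul_def, Algebra.TensorProduct.algebraMap_apply]; rfl
        rw [h1, map_mul, he1]
        exact (Algebra.smul_def b' (e z)).symm }
  refine ⟨eL, fun b a => ?_⟩
  show e (b ⊗ₜ[R] a) = _
  have hb : b ⊗ₜ[R] a = (b ⊗ₜ[R] (1 : A')) * ((1 : B') ⊗ₜ[R] a) := by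
    rw [Algebra.TensorProduct.tmul_mul_tmul, mul_one, one_mul]
  rw [hb, map_mul, he1, he2]

include h in
/-- `P` is generated as a `B'`-module by the image of `A'`. -/
theorem span_range_inl :
    letI := inr.hom.toAlgebra
    Submodule.span B' (Set.range inl.hom) = ⊤ := by
  letI algRA : Algebra R A' := f.hom.toAlgebra
  letI algRB : Algebra R B' := g.hom.toAlgebra
  letI algBP : Algebra B' P := inr.hom.toAlgebra
  obtain ⟨eL, heL⟩ := exists_linearEquiv f g inl inr h
  rw [eq_top_iff]
  intro z _
  obtain ⟨y, rfl⟩ := eL.surjective z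
  clear * - heL
  induction y using TensorProduct.induction_on with
  | zero => rw [map_zero]; exact Submodule.zero_mem _
  | tmul b a =>
    rw [heL]
    have : inr.hom b * inl.hom a = b • inl.hom a := (Algebra.smul_def b (inl.hom a)).symm
    rw [this]
    exact Submodule.smul_mem _ _ (Submodule.subset_span ⟨a, rfl⟩)
  | add y y' hy hy' => rw [map_add]; exact Submodule.add_mem _ hy hy'

include h in
/-- If `a` kills `A' / span x`, then `g a` kills `P / span (inl x)`. -/
theorem smul_mem_span_of_pushout {r : ℕ} (x : Fin r → A') (a : R)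
    (ha : letI := f.hom.toAlgebra
      ∀ a' : A', f.hom a * a' ∈ Submodule.span R (Set.range x)) :
    letI := inr.hom.toAlgebra
    ∀ z : P, inr.hom (g.hom a) * z ∈ Submodule.span B' (Set.range fun i => inl.hom (x i)) := by
  letI algRA : Algebra R A' := f.hom.toAlgebra
  letI algRB : Algebra R B' := g.hom.toAlgebra
  letI algBP : Algebra B' P := inr.hom.toAlgebra
  have hw : ∀ r' : R, inl.hom (f.hom r') = inr.hom (g.hom r') :=
    fun r' => congrArg (fun φ => φ.hom r') h.w
  -- elements of `inl (span x)` lie in the `B'`-span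
  have hL : ∀ y ∈ Submodule.span R (Set.range x),
      inl.hom y ∈ Submodule.span B' (Set.range fun i => inl.hom (x i)) := by
    intro y hy
    induction hy using Submodule.span_induction with
    | mem y hy =>
      obtain ⟨i, rfl⟩ := hy
      exact Submodule.subset_span ⟨i, rfl⟩
    | zero => rw [map_zero]; exact Submodule.zero_mem _
    | add y y' _ _ hy hy' => rw [map_add]; exact Submodule.add_mem _ hy hy'
    | smul r' y _ hy =>
      have : inl.hom (r' • y) = g.hom r' • inl.hom y := by
        rw [Algebra.smul_def, map_mul, Algebra.smul_def]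
        show inl.hom (f.hom r') * _ = inr.hom (g.hom r') * _
        rw [hw]
      rw [this]
      exact Submodule.smul_mem _ _ hy
  intro z
  have hz : z ∈ Submodule.span B' (Set.range inl.hom) := by
    rw [span_range_inl f g inl inr h]; trivial
  induction hz using Submodule.span_induction with
  | mem z hz =>
    obtain ⟨a', rfl⟩ := hz
    rw [← hw, ← map_mul]
    exact hL _ (ha a')
  | zero => rw [mul_zero]; exact Submodule.zero_mem _
  | add z z' _ _ hz hz' => rw [mul_add]; exact Submodule.add_mem _ hz hz'
  | smul b z _ hz =>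
    rw [mul_smul_comm]
    exact Submodule.smul_mem _ _ hz

include h in
/-- Descent of "not in the support" along a pushout square. -/
theorem not_mem_support_of_pushout {r : ℕ} (x : Fin r → A')
    (hfin : letI := f.hom.toAlgebra; Module.Finite R A') (q : PrimeSpectrum B')
    (hq : letI := inr.hom.toAlgebra
      q ∉ Module.support B' (P ⧸ Submodule.span B' (Set.range fun i => inl.hom (x i)))) :
    letI := f.hom.toAlgebra
    PrimeSpectrum.comap g.hom q ∉ Module.support R (A' ⧸ Submodule.span R (Set.range x)) := by
  letI algRA : Algebra R A' := f.hom.toAlgebra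
  letI algRB : Algebra R B' := g.hom.toAlgebra
  letI algBP : Algebra B' P := inr.hom.toAlgebra
  haveI : Module.Finite R A' := hfin
  obtain ⟨eL, heL⟩ := exists_linearEquiv f g inl inr h
  intro hmem
  apply hq
  have h1 : q ∈ Module.support B' (B' ⊗[R] (A' ⧸ Submodule.span R (Set.range x))) :=
    mem_support_baseChange_of_mem q hmem
  -- a surjection `P / span → B' ⊗ (A' / span)`
  let ψ : P →ₗ[B'] B' ⊗[R] (A' ⧸ Submodule.span R (Set.range x)) :=
    (LinearMap.baseChange B' (Submodule.span R (Set.range x)).mkQ).comp eL.symm.toLinearMap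
  have hψ : Submodule.span B' (Set.range fun i => inl.hom (x i)) ≤ LinearMap.ker ψ := by
    rw [Submodule.span_le]
    rintro _ ⟨i, rfl⟩
    show ψ (inl.hom (x i)) = 0
    have : inl.hom (x i) = eL ((1 : B') ⊗ₜ[R] x i) := by rw [heL, map_one, one_mul]
    simp only [ψ, LinearMap.comp_apply, LinearEquiv.coe_coe]
    rw [this, eL.symm_apply_apply, LinearMap.baseChange_tmul]
    have : (Submodule.span R (Set.range x)).mkQ (x i) = 0 := by
      rw [Submodule.mkQ_apply, Submodule.Quotient.mk_eq_zero]
      exact Submodule.subset_span ⟨i, rfl⟩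
    rw [this, tmul_zero]
  let ψ' := Submodule.liftQ _ ψ hψ
  have hsurj : Function.Surjective ψ' := by
    have hs : Function.Surjective ψ := by
      have h2 : Function.Surjective
          (LinearMap.baseChange B' (Submodule.span R (Set.range x)).mkQ) := by
        have := LinearMap.lTensor_surjective (R := R) B' (Submodule.mkQ_surjective
          (Submodule.span R (Set.range x)))
        exact this
      exact h2.comp eL.symm.surjective
    intro y
    obtain ⟨z, rfl⟩ := hs y
    exact ⟨Submodule.Quotient.mk z, rfl⟩
  exact Module.support_subset_of_surjective ψ' hsurj h1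

end

end Groth.Agent.Lib.GrpdSuppH6
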