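import Mathlib
import Groth.Agent.Lib.GrpdRing2_helper6
import Groth.Agent.Lib.GrpdSupp2_helper6

/-!
# Invariance of supports and ranks along orbits of a ring groupoid (helper6)
-/

set_option autoImplicit false
set_option linter.style.haveILetI false
universe u

open CategoryTheory CategoryTheory.Limits TensorProduct
open Groth.Agent.Lib.GrpdSuppH6

namespace Groth.Agent.Lib.GrpdSuppH6

/-- Rank of a pushout: `rank_{B'} P` at `q` equals `rank_R A'` at the image of `q`. -/
theorem rankAtStalk_of_pushout {R A' B' P : CommRingCat.{u}} (f : R ⟶ A') (g : R ⟶ B')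
    (inl : A' ⟶ P) (inr : B' ⟶ P) (h : IsPushout f g inl inr)
    (hfin : letI := f.hom.toAlgebra; Module.Finite R A')
    (hflat : letI := f.hom.toAlgebra; Module.Flat R A') (q : PrimeSpectrum B') :
    letI := f.hom.toAlgebra; letI := inr.hom.toAlgebra
    Module.rankAtStalk (R := B') P q = Module.rankAtStalk (R := R) A' (PrimeSpectrum.comap g.hom q) := by
  letI algRA : Algebra R A' := f.hom.toAlgebra
  letI algRB : Algebra R B' := g.hom.toAlgebra
  letI algBP : Algebra B' P := inr.hom.toAlgebra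
  haveI : Module.Finite R A' := hfin
  haveI : Module.Flat R A' := hflat
  obtain ⟨eL, -⟩ := exists_linearEquiv f g inl inr h
  rw [← Module.rankAtStalk_eq_of_equiv eL, Module.rankAtStalk_baseChange]
  rfl

end Groth.Agent.Lib.GrpdSuppH6

namespace Groth.Agent.Lib.GrpdRingH6

namespace RingGrpd

variable {A B P : CommRingCat.{u}} (𝒢 : RingGrpd A B P)

/-- The locus where `t x_i` generate `B` over `A` (via `s`) is stable along orbits. -/
theorem not_mem_support_of_orbit
    (hfin : letI := 𝒢.s.hom.toAlgebra; Module.Finite A B) {r : ℕ} (x : Fin r → A)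
    (q : PrimeSpectrum B)
    (hq : letI := 𝒢.s.hom.toAlgebra
      PrimeSpectrum.comap 𝒢.s.hom q ∉
        Module.support A (B ⧸ Submodule.span A (Set.range fun i => 𝒢.t.hom (x i)))) :
    letI := 𝒢.s.hom.toAlgebra
    PrimeSpectrum.comap 𝒢.t.hom q ∉
      Module.support A (B ⧸ Submodule.span A (Set.range fun i => 𝒢.t.hom (x i))) := by
  letI algAB : Algebra A B := 𝒢.s.hom.toAlgebra
  haveI : Module.Finite A B := hfin
  letI algBP : Algebra B P := 𝒢.p₁.hom.toAlgebra
  -- an element of the annihilator outside `s⁻¹ q`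
  rw [Module.mem_support_iff_of_finite] at hq
  obtain ⟨a, haAnn, haq⟩ := Set.not_subset.mp hq
  have ha : ∀ b : B, 𝒢.s.hom a * b ∈ Submodule.span A (Set.range fun i => 𝒢.t.hom (x i)) := by
    intro b
    have := (Module.mem_annihilator.mp haAnn) (Submodule.Quotient.mk b)
    rw [← Submodule.Quotient.mk_smul, Submodule.Quotient.mk_eq_zero] at this
    rwa [Algebra.smul_def] at this
  have h1 := smul_mem_span_of_pushout 𝒢.s 𝒢.s 𝒢.c 𝒢.p₁ 𝒢.po2 (fun i => 𝒢.t.hom (x i)) a ha
  have hc : (fun i => 𝒢.c.hom (𝒢.t.hom (x i))) = fun i => 𝒢.p₀.hom (𝒢.t.hom (x i)) := by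
    funext i; exact 𝒢.ct_apply (x i)
  rw [hc] at h1
  -- so `q` is not in the support of `P / span`
  have h2 : q ∉ Module.support B
      (P ⧸ Submodule.span B (Set.range fun i => 𝒢.p₀.hom (𝒢.t.hom (x i)))) := by
    intro hmem
    have hle := Module.annihilator_le_of_mem_support hmem
    apply haq
    show 𝒢.s.hom a ∈ q.asIdeal
    apply hle
    rw [Module.mem_annihilator]
    intro z
    obtain ⟨z, rfl⟩ := Submodule.Quotient.mk_surjective _ z
    rw [← Submodule.Quotient.mk_smul, Submodule.Quotient.mk_eq_zero, Algebra.smul_def]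
    exact h1 z
  exact not_mem_support_of_pushout 𝒢.s 𝒢.t 𝒢.p₀ 𝒢.p₁ 𝒢.po1 (fun i => 𝒢.t.hom (x i)) hfin q h2

/-- The rank of `B` over `A` (via `s`) is constant along orbits. -/
theorem rank_invariant
    (hfin : letI := 𝒢.s.hom.toAlgebra; Module.Finite A B)
    (hflat : letI := 𝒢.s.hom.toAlgebra; Module.Flat A B) (q : PrimeSpectrum B) :
    letI := 𝒢.s.hom.toAlgebra
    Module.rankAtStalk (R := A) B (PrimeSpectrum.comap 𝒢.s.hom q) =
      Module.rankAtStalk (R := A) B (PrimeSpectrum.comap 𝒢.t.hom q) := by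
  rw [← rankAtStalk_of_pushout 𝒢.s 𝒢.s 𝒢.c 𝒢.p₁ 𝒢.po2 hfin hflat q,
    ← rankAtStalk_of_pushout 𝒢.s 𝒢.t 𝒢.p₀ 𝒢.p₁ 𝒢.po1 hfin hflat q]

/-- The locus of rank `r` is cut out by an invariant idempotent. -/
theorem exists_idempotent_rank
    (hfin : letI := 𝒢.s.hom.toAlgebra; Module.Finite A B)
    (hproj : letI := 𝒢.s.hom.toAlgebra; Module.Projective A B) (r : ℕ) :
    letI := 𝒢.s.hom.toAlgebra
    ∃ ε : A, IsIdempotentElem ε ∧ ε ∈ 𝒢.inv ∧
      ∀ p : PrimeSpectrum A, (ε ∉ p.asIdeal ↔ Module.rankAtStalk (R := A) B p = r) := by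
  letI algAB : Algebra A B := 𝒢.s.hom.toAlgebra
  haveI : Module.Finite A B := hfin
  haveI : Module.Projective A B := hproj
  haveI : Module.FinitePresentation A B := Module.finitePresentation_of_projective A B
  have hlc : IsLocallyConstant (Module.rankAtStalk (R := A) B) :=
    Module.isLocallyConstant_rankAtStalk
  have hclopen : IsClopen (Module.rankAtStalk (R := A) B ⁻¹' {r}) :=
    ⟨(hlc.isClosed_fiber r), (hlc.isOpen_fiber r)⟩
  obtain ⟨ε, hε, hεs⟩ := PrimeSpectrum.isClopen_iff.mp hclopen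
  have hmem : ∀ p : PrimeSpectrum A, (ε ∉ p.asIdeal ↔ Module.rankAtStalk (R := A) B p = r) := by
    intro p
    have : p ∈ (Module.rankAtStalk (R := A) B ⁻¹' {r}) ↔ p ∈ (PrimeSpectrum.basicOpen ε : Set _) := by
      rw [hεs]
    rw [Set.mem_preimage, Set.mem_singleton_iff] at this
    rw [this]
    rfl
  refine ⟨ε, hε, ?_, hmem⟩
  -- `s ε` and `t ε` are idempotents with the same basic open
  show 𝒢.s.hom ε = 𝒢.t.hom ε
  apply PrimeSpectrum.basicOpen_injOn_isIdempotentElem (hε.map 𝒢.s.hom) (hε.map 𝒢.t.hom)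
  ext q
  show 𝒢.s.hom ε ∉ q.asIdeal ↔ 𝒢.t.hom ε ∉ q.asIdeal
  have h1 := hmem (PrimeSpectrum.comap 𝒢.s.hom q)
  have h2 := hmem (PrimeSpectrum.comap 𝒢.t.hom q)
  have h3 := 𝒢.rank_invariant hfin inferInstance q
  rw [h3] at h1
  exact h1.trans h2.symm

end RingGrpd

end Groth.Agent.Lib.GrpdRingH6
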