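import Mathlib
import Groth.Agent.Lib.GrpdRing3_helper6

/-!
# Local structure of a finite locally free ring groupoid with `t(A) s(A) = B` (helper6)

Around every prime `p` of the invariants there are `g ∉ p` invariant, `r` and `x : Fin r → A`
such that `g` kills `B / ∑ s(A) t(x_i)` and `B` has rank `r` on `D(g)`.
-/

set_option autoImplicit false
set_option linter.style.haveILetI false
universe u

open CategoryTheory CategoryTheory.Limits TensorProduct

namespace Groth.Agent.Lib.GrpdRingH6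

namespace RingGrpd

variable {A B P : CommRingCat.{u}} (𝒢 : RingGrpd A B P)

/-- Choice of `x_i` with `1 ⊗ t x_i` spanning the fibre at a prime. -/
theorem exists_fibre_generators
    (hfin : letI := 𝒢.s.hom.toAlgebra; Module.Finite A B)
    (hflat : letI := 𝒢.s.hom.toAlgebra; Module.Flat A B)
    (hspan : letI := 𝒢.s.hom.toAlgebra; Submodule.span A (Set.range 𝒢.t.hom) = ⊤)
    (Pu : PrimeSpectrum A) :
    letI := 𝒢.s.hom.toAlgebra
    ∃ x : Fin (Module.rankAtStalk (R := A) B Pu) → A,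
      Submodule.span Pu.asIdeal.ResidueField
        (Set.range fun i => (1 : Pu.asIdeal.ResidueField) ⊗ₜ[A] 𝒢.t.hom (x i)) = ⊤ := by
  classical
  letI algAB : Algebra A B := 𝒢.s.hom.toAlgebra
  haveI : Module.Finite A B := hfin
  haveI : Module.Flat A B := hflat
  obtain ⟨k, hk⟩ : ∃ k : Type u, k = Pu.asIdeal.ResidueField := ⟨_, rfl⟩
  set S : Set (Pu.asIdeal.ResidueField ⊗[A] B) :=
    Set.range fun a : A => (1 : Pu.asIdeal.ResidueField) ⊗ₜ[A] 𝒢.t.hom a with hS
  -- `S` spans the fibre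
  have key : ∀ b : B, b ∈ Submodule.span A (Set.range 𝒢.t.hom) →
      (1 : Pu.asIdeal.ResidueField) ⊗ₜ[A] b ∈ Submodule.span Pu.asIdeal.ResidueField S := by
    intro b hb
    induction hb using Submodule.span_induction with
    | mem b hb =>
      obtain ⟨a, rfl⟩ := hb
      exact Submodule.subset_span ⟨a, rfl⟩
    | zero => rw [tmul_zero]; exact Submodule.zero_mem _
    | add b b' _ _ hb hb' => rw [tmul_add]; exact Submodule.add_mem _ hb hb'
    | smul a b _ hb =>
      have : (1 : Pu.asIdeal.ResidueField) ⊗ₜ[A] (a • b) =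
          algebraMap A Pu.asIdeal.ResidueField a •
            ((1 : Pu.asIdeal.ResidueField) ⊗ₜ[A] b) := by
        rw [TensorProduct.tmul_smul, TensorProduct.smul_tmul', TensorProduct.smul_tmul',
          Algebra.smul_def, mul_one, smul_eq_mul, mul_one]
      rw [this]
      exact Submodule.smul_mem _ _ hb
  have hall : ∀ z : Pu.asIdeal.ResidueField ⊗[A] B,
      z ∈ Submodule.span Pu.asIdeal.ResidueField S := by
    intro z
    induction z using TensorProduct.induction_on with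
    | zero => exact Submodule.zero_mem _
    | add z z' hz hz' => exact Submodule.add_mem _ hz hz'
    | tmul c b =>
      have hc : c ⊗ₜ[A] b = c • ((1 : Pu.asIdeal.ResidueField) ⊗ₜ[A] b) := by
        rw [TensorProduct.smul_tmul', smul_eq_mul, mul_one]
      rw [hc]
      refine Submodule.smul_mem _ _ (key b ?_)
      rw [hspan]; trivial
  have hSspan : Submodule.span Pu.asIdeal.ResidueField S = ⊤ :=
    eq_top_iff.mpr fun z _ => hall z
  obtain ⟨b, hbS, hbspan, hbli⟩ := exists_linearIndependent Pu.asIdeal.ResidueField S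
  have hbtop : Submodule.span Pu.asIdeal.ResidueField b = ⊤ := hbspan.trans hSspan
  let bas : Module.Basis b Pu.asIdeal.ResidueField (Pu.asIdeal.ResidueField ⊗[A] B) :=
    Module.Basis.mk hbli (by rw [Subtype.range_coe]; exact hbtop.ge)
  haveI : Finite b := Module.Finite.finite_basis bas
  haveI : Fintype b := Fintype.ofFinite b
  have hcard : Fintype.card b = Module.rankAtStalk (R := A) B Pu := by
    rw [Module.rankAtStalk_eq, Module.finrank_eq_card_basis bas]
  let e : Fin (Module.rankAtStalk (R := A) B Pu) ≃ b :=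
    (Fintype.equivFinOfCardEq hcard).symm
  have hx : ∀ i, ∃ a : A, (1 : Pu.asIdeal.ResidueField) ⊗ₜ[A] 𝒢.t.hom a = (e i : _) :=
    fun i => hbS (e i).2
  choose x hx using hx
  refine ⟨x, ?_⟩
  have : (Set.range fun i => (1 : Pu.asIdeal.ResidueField) ⊗ₜ[A] 𝒢.t.hom (x i)) = b := by
    ext v
    constructor
    · rintro ⟨i, rfl⟩
      show (1 : Pu.asIdeal.ResidueField) ⊗ₜ[A] 𝒢.t.hom (x i) ∈ b
      rw [hx]; exact (e i).2
    · intro hv
      refine ⟨e.symm ⟨v, hv⟩, ?_⟩
      show (1 : Pu.asIdeal.ResidueField) ⊗ₜ[A] 𝒢.t.hom (x (e.symm ⟨v, hv⟩)) = v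
      rw [hx, e.apply_symm_apply]
  rw [this, hbtop]

/-- If `1 ⊗ t x_i` span the fibre at `Pu` then `Pu` is not in the support of the cokernel. -/
theorem not_mem_support_of_fibre_span
    (hfin : letI := 𝒢.s.hom.toAlgebra; Module.Finite A B) {r : ℕ} (x : Fin r → A)
    (Pu : PrimeSpectrum A)
    (hx : letI := 𝒢.s.hom.toAlgebra
      Submodule.span Pu.asIdeal.ResidueField
        (Set.range fun i => (1 : Pu.asIdeal.ResidueField) ⊗ₜ[A] 𝒢.t.hom (x i)) = ⊤) :
    letI := 𝒢.s.hom.toAlgebra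
    Pu ∉ Module.support A (B ⧸ Submodule.span A (Set.range fun i => 𝒢.t.hom (x i))) := by
  letI algAB : Algebra A B := 𝒢.s.hom.toAlgebra
  haveI : Module.Finite A B := hfin
  rw [Module.mem_support_iff_nontrivial_residueField_tensorProduct, not_nontrivial_iff_subsingleton]
  set L := Submodule.span A (Set.range fun i => 𝒢.t.hom (x i)) with hL
  let ψ : Pu.asIdeal.ResidueField ⊗[A] B →ₗ[Pu.asIdeal.ResidueField]
      Pu.asIdeal.ResidueField ⊗[A] (B ⧸ L) := LinearMap.baseChange _ L.mkQ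
  have hψs : Function.Surjective ψ := by
    have := LinearMap.lTensor_surjective (R := A) Pu.asIdeal.ResidueField
      (Submodule.mkQ_surjective L)
    exact this
  have hker : LinearMap.ker ψ = ⊤ := by
    rw [eq_top_iff, ← hx, Submodule.span_le]
    rintro _ ⟨i, rfl⟩
    show ψ _ = 0
    rw [LinearMap.baseChange_tmul]
    have : L.mkQ (𝒢.t.hom (x i)) = 0 := by
      rw [Submodule.mkQ_apply, Submodule.Quotient.mk_eq_zero]
      exact Submodule.subset_span ⟨i, rfl⟩
    rw [this, tmul_zero]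
  refine ⟨fun u v => ?_⟩
  obtain ⟨u', rfl⟩ := hψs u
  obtain ⟨v', rfl⟩ := hψs v
  have hu : u' ∈ LinearMap.ker ψ := by rw [hker]; trivial
  have hv : v' ∈ LinearMap.ker ψ := by rw [hker]; trivial
  rw [LinearMap.mem_ker.mp hu, LinearMap.mem_ker.mp hv]

/-- **Local structure.** -/
theorem exists_local_generators
    (hfin : letI := 𝒢.s.hom.toAlgebra; Module.Finite A B)
    (hproj : letI := 𝒢.s.hom.toAlgebra; Module.Projective A B)
    (hspan : letI := 𝒢.s.hom.toAlgebra; Submodule.span A (Set.range 𝒢.t.hom) = ⊤)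
    (p : Ideal 𝒢.inv) [hp : p.IsPrime] :
    letI := 𝒢.s.hom.toAlgebra
    ∃ (g : A) (_ : g ∈ 𝒢.inv) (r : ℕ) (x : Fin r → A), g ∉ p.map (algebraMap 𝒢.inv A) ∧
      (∀ hg : g ∈ 𝒢.inv, (⟨g, hg⟩ : 𝒢.inv) ∉ p) ∧
      (∀ b : B, g • b ∈ Submodule.span A (Set.range fun i => 𝒢.t.hom (x i))) ∧
      (∀ p' : PrimeSpectrum A, g ∉ p'.asIdeal → Module.rankAtStalk (R := A) B p' = r) := by
  letI algAB : Algebra A B := 𝒢.s.hom.toAlgebra
  haveI : Module.Finite A B := hfin
  haveI : Module.Projective A B := hproj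
  haveI : Module.Flat A B := inferInstance
  haveI := 𝒢.isIntegral_inv hfin hproj
  -- a prime of `A` over `p`
  obtain ⟨Pu, -, hPu, hPup⟩ := Ideal.exists_ideal_over_prime_of_isIntegral p (⊥ : Ideal A)
    (by
      intro c hc
      have : (c : A) = 0 := hc
      have : c = 0 := Subtype.ext this
      rw [this]; exact p.zero_mem)
  obtain ⟨x, hx⟩ := 𝒢.exists_fibre_generators hfin inferInstance hspan ⟨Pu, hPu⟩
  obtain ⟨r, hr⟩ : ∃ r : ℕ, r = Module.rankAtStalk (R := A) B ⟨Pu, hPu⟩ := ⟨_, rfl⟩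
  set L := Submodule.span A (Set.range fun i => 𝒢.t.hom (x i)) with hL
  have h0 : (⟨Pu, hPu⟩ : PrimeSpectrum A) ∉ Module.support A (B ⧸ L) :=
    𝒢.not_mem_support_of_fibre_span hfin x ⟨Pu, hPu⟩ hx
  -- all primes over `p` avoid the support
  have hall : ∀ P' : Ideal A, ∀ hP' : P'.IsPrime, P'.comap (algebraMap 𝒢.inv A) = p →
      (⟨P', hP'⟩ : PrimeSpectrum A) ∉ Module.support A (B ⧸ L) := by
    intro P' hP' hP'p
    obtain ⟨q, hq, hqt, hqs⟩ := 𝒢.exists_prime_orbit hfin hproj P' Pu (hP'p.trans hPup.symm)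
    have h1 := 𝒢.not_mem_support_of_orbit hfin x ⟨q, hq⟩ (by
      have : PrimeSpectrum.comap 𝒢.s.hom ⟨q, hq⟩ = ⟨Pu, hPu⟩ := PrimeSpectrum.ext hqs
      rw [this]; exact h0)
    have : PrimeSpectrum.comap 𝒢.t.hom ⟨q, hq⟩ = ⟨P', hP'⟩ := PrimeSpectrum.ext hqt
    rw [this] at h1
    exact h1
  -- an invariant element of the annihilator outside `p`
  have hann : ¬ (Module.annihilator A (B ⧸ L)).comap (algebraMap 𝒢.inv A) ≤ p := by
    intro hle
    obtain ⟨Q, hQI, hQ, hQp⟩ := Ideal.exists_ideal_over_prime_of_isIntegral p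
      (Module.annihilator A (B ⧸ L)) hle
    apply hall Q hQ hQp
    rw [Module.mem_support_iff_of_finite]
    exact hQI
  obtain ⟨g₀, hg₀ann, hg₀p⟩ := Set.not_subset.mp hann
  -- the rank idempotent
  obtain ⟨ε, hε, hεinv, hεr⟩ := 𝒢.exists_idempotent_rank hfin hproj r
  have hεPu : ε ∉ Pu := (hεr ⟨Pu, hPu⟩).mpr hr.symm
  have hεp : (⟨ε, hεinv⟩ : 𝒢.inv) ∉ p := by
    rw [← hPup]; exact hεPu
  have hgp : g₀ * ⟨ε, hεinv⟩ ∉ p := fun hmem =>
    (hp.mem_or_mem hmem).elim hg₀p hεp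
  refine ⟨(g₀ : A) * ε, (g₀ * ⟨ε, hεinv⟩).2, _, x, ?_, ?_, ?_, ?_⟩
  · intro hmem
    -- `p.map ≤ Pu`
    have hle : p.map (algebraMap 𝒢.inv A) ≤ Pu := by
      rw [Ideal.map_le_iff_le_comap, hPup]
    have h1 : (g₀ : A) * ε ∈ Pu := hle hmem
    have h2 : g₀ * ⟨ε, hεinv⟩ ∈ Pu.comap (algebraMap 𝒢.inv A) := h1
    rw [hPup] at h2
    exact hgp h2
  · intro hg
    exact hgp
  · intro b
    have h1 := (Module.mem_annihilator.mp hg₀ann) (Submodule.Quotient.mk b)
    rw [← Submodule.Quotient.mk_smul, Submodule.Quotient.mk_eq_zero] at h1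
    have : ((g₀ : A) * ε) • b = ε • ((g₀ : A) • b) := by
      rw [mul_comm, mul_smul]
    rw [this]
    exact Submodule.smul_mem _ _ h1
  · intro p' hp'
    rw [← hr]
    apply (hεr p').mp
    intro hε'
    exact hp' (p'.asIdeal.mul_mem_left _ hε')

end RingGrpd

end Groth.Agent.Lib.GrpdRingH6
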