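import Mathlib
import Groth.Agent.Lib.GrpdSupp2_helper6

/-!
# Finite projectivity of a pushout (helper6)
-/

set_option autoImplicit false
set_option linter.style.haveILetI false
universe u

open CategoryTheory CategoryTheory.Limits TensorProduct

namespace Groth.Agent.Lib.GrpdSuppH6

theorem finite_projective_of_pushout {R A' B' P : CommRingCat.{u}} (f : R ⟶ A') (g : R ⟶ B')
    (inl : A' ⟶ P) (inr : B' ⟶ P) (h : IsPushout f g inl inr)
    (hfin : letI := f.hom.toAlgebra; Module.Finite R A')
    (hproj : letI := f.hom.toAlgebra; Module.Projective R A') :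
    letI := inr.hom.toAlgebra
    Module.Finite B' P ∧ Module.Projective B' P := by
  letI algRA : Algebra R A' := f.hom.toAlgebra
  letI algRB : Algebra R B' := g.hom.toAlgebra
  letI algBP : Algebra B' P := inr.hom.toAlgebra
  haveI : Module.Finite R A' := hfin
  haveI : Module.Projective R A' := hproj
  obtain ⟨eL, -⟩ := exists_linearEquiv f g inl inr h
  exact ⟨Module.Finite.equiv eL, Module.Projective.of_equiv eL⟩

end Groth.Agent.Lib.GrpdSuppH6
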