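import Mathlib
import Groth.Agent.Lib.GrpdRing4_helper6
import Groth.Agent.Lib.GrpdLI_helper6
import Groth.Agent.Lib.GrpdSupp3_helper6

/-!
# Local bases over the invariants (helper6)

Given an invariant `g`, and `x : Fin r → A` with `g • B ⊆ ∑ s(A) t(x_i)` and `B` of rank `r` on
`D(g)`: relations among the `t x_i` are `g`-power torsion, and every `a : A` has
`g ^ N * a = ∑ c_i x_i` with invariant `c_i`.
-/

set_option autoImplicit false
set_option linter.style.haveILetI false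
universe u

open CategoryTheory CategoryTheory.Limits TensorProduct
open Groth.Agent.Lib.GrpdSuppH6 Groth.Agent.Lib.GrpdLIH6

namespace Groth.Agent.Lib.GrpdRingH6

namespace RingGrpd

variable {A B P : CommRingCat.{u}} (𝒢 : RingGrpd A B P)

section local_

variable (hfin : letI := 𝒢.s.hom.toAlgebra; Module.Finite A B)
  (hproj : letI := 𝒢.s.hom.toAlgebra; Module.Projective A B)
  (g : A) (hg : 𝒢.s.hom g = 𝒢.t.hom g) {r : ℕ} (x : Fin r → A)
  (hL1 : letI := 𝒢.s.hom.toAlgebra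
    ∀ b : B, g • b ∈ Submodule.span A (Set.range fun i => 𝒢.t.hom (x i)))
  (hL2 : letI := 𝒢.s.hom.toAlgebra
    ∀ p' : PrimeSpectrum A, g ∉ p'.asIdeal → Module.rankAtStalk (R := A) B p' = r)

include hfin hproj hL1 hL2 in
/-- Relations among the `t x_i` over `A` (via `s`) are `g`-power torsion. -/
theorem rel_torsion (a : Fin r → A) (ha : ∑ i, 𝒢.s.hom (a i) * 𝒢.t.hom (x i) = 0) :
    ∃ N : ℕ, ∀ i, g ^ N * a i = 0 := by
  letI algAB : Algebra A B := 𝒢.s.hom.toAlgebra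
  haveI : Module.Finite A B := hfin
  haveI : Module.Projective A B := hproj
  refine exists_pow_mul_eq_zero_of_rank (fun i => 𝒢.t.hom (x i)) g hL1 hL2 a ?_
  rw [← ha]
  exact Finset.sum_congr rfl fun i _ => Algebra.smul_def _ _

include hfin hproj hg hL1 hL2 in
/-- Relations among the `p₀ (t x_i)` over `B` (via `p₁`) are `s g`-power torsion. -/
theorem rel_torsion_P (b : Fin r → B)
    (hb : ∑ i, 𝒢.p₁.hom (b i) * 𝒢.p₀.hom (𝒢.t.hom (x i)) = 0) :
    ∃ N : ℕ, ∀ i, 𝒢.s.hom g ^ N * b i = 0 := by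
  letI algAB : Algebra A B := 𝒢.s.hom.toAlgebra
  haveI : Module.Finite A B := hfin
  haveI : Module.Projective A B := hproj
  haveI : Module.Flat A B := inferInstance
  letI algBP : Algebra B P := 𝒢.p₁.hom.toAlgebra
  obtain ⟨hPfin, hPproj⟩ := finite_projective_of_pushout 𝒢.s 𝒢.t 𝒢.p₀ 𝒢.p₁ 𝒢.po1 hfin hproj
  haveI : Module.Finite B P := hPfin
  haveI : Module.Projective B P := hPproj
  have ha : ∀ a' : B, 𝒢.s.hom g * a' ∈ Submodule.span A (Set.range fun i => 𝒢.t.hom (x i)) := by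
    intro a'
    have := hL1 a'
    rwa [Algebra.smul_def] at this
  have h1 := smul_mem_span_of_pushout 𝒢.s 𝒢.t 𝒢.p₀ 𝒢.p₁ 𝒢.po1 (fun i => 𝒢.t.hom (x i)) g ha
  refine exists_pow_mul_eq_zero_of_rank (R := B) (M := P)
    (fun i => 𝒢.p₀.hom (𝒢.t.hom (x i))) (𝒢.s.hom g) ?_ ?_ b ?_
  · intro z
    rw [Algebra.smul_def, hg]
    exact h1 z
  · intro q hq
    rw [rankAtStalk_of_pushout 𝒢.s 𝒢.t 𝒢.p₀ 𝒢.p₁ 𝒢.po1 hfin inferInstance q]
    apply hL2
    intro hmem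
    apply hq
    rw [hg]
    exact hmem
  · rw [← hb]
    exact Finset.sum_congr rfl fun i _ => Algebra.smul_def _ _

include hfin hproj hg hL1 hL2 in
/-- Every `a : A` has `g ^ N * a = ∑ c_i x_i` with invariant `c_i`. -/
theorem exists_pow_mul_eq_sum (a : A) :
    ∃ (N : ℕ) (c : Fin r → A), (∀ i, c i ∈ 𝒢.inv) ∧ g ^ N * a = ∑ i, c i * x i := by
  letI algAB : Algebra A B := 𝒢.s.hom.toAlgebra
  have h1 := hL1 (𝒢.t.hom a)
  rw [Submodule.mem_span_range_iff_exists_fun] at h1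
  obtain ⟨a', ha'⟩ := h1
  have ha'' : ∑ i, 𝒢.s.hom (a' i) * 𝒢.t.hom (x i) = 𝒢.s.hom g * 𝒢.t.hom a := by
    have h2 : 𝒢.s.hom g * 𝒢.t.hom a = g • 𝒢.t.hom a := (Algebra.smul_def _ _).symm
    rw [h2, ← ha']
    exact Finset.sum_congr rfl fun i _ => (Algebra.smul_def _ _).symm
  -- apply `c` and `p₀`
  have hc : ∑ i, 𝒢.p₁.hom (𝒢.s.hom (a' i)) * 𝒢.p₀.hom (𝒢.t.hom (x i)) =
      𝒢.p₁.hom (𝒢.s.hom g) * 𝒢.p₀.hom (𝒢.t.hom a) := by
    have := congrArg 𝒢.c.hom ha''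
    rw [map_sum, map_mul, 𝒢.cs_apply, 𝒢.ct_apply] at this
    rw [← this]
    refine Finset.sum_congr rfl fun i _ => ?_
    rw [map_mul, 𝒢.cs_apply, 𝒢.ct_apply]
  have hp : ∑ i, 𝒢.p₁.hom (𝒢.t.hom (a' i)) * 𝒢.p₀.hom (𝒢.t.hom (x i)) =
      𝒢.p₁.hom (𝒢.s.hom g) * 𝒢.p₀.hom (𝒢.t.hom a) := by
    have := congrArg 𝒢.p₀.hom ha''
    rw [map_sum, map_mul, 𝒢.p_apply, ← hg] at this
    rw [← this]
    refine Finset.sum_congr rfl fun i _ => ?_
    rw [map_mul, 𝒢.p_apply]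
  have hdiff : ∑ i, 𝒢.p₁.hom (𝒢.s.hom (a' i) - 𝒢.t.hom (a' i)) * 𝒢.p₀.hom (𝒢.t.hom (x i)) = 0 := by
    simp only [map_sub, sub_mul, Finset.sum_sub_distrib]
    rw [hc, hp, sub_self]
  obtain ⟨N, hN⟩ := 𝒢.rel_torsion_P hfin hproj g hg x hL1 hL2 _ hdiff
  refine ⟨N + 1, fun i => g ^ N * a' i, fun i => ?_, ?_⟩
  · show 𝒢.s.hom (g ^ N * a' i) = 𝒢.t.hom (g ^ N * a' i)
    have := hN i
    rw [mul_sub, sub_eq_zero] at this
    rw [map_mul, map_mul, map_pow, map_pow, ← hg]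
    exact this
  · have h2 := congrArg 𝒢.e.hom ha''
    rw [map_sum, map_mul, 𝒢.es_apply, 𝒢.et_apply] at h2
    have h3 : ∑ i, a' i * x i = g * a := by
      rw [← h2]
      refine Finset.sum_congr rfl fun i _ => ?_
      rw [map_mul, 𝒢.es_apply, 𝒢.et_apply]
    rw [pow_succ, mul_assoc, ← h3, Finset.mul_sum]
    exact Finset.sum_congr rfl fun i _ => (mul_assoc _ _ _).symm

include hfin hproj hL1 hL2 in
/-- Relations among the `x_i` over the invariants are `g`-power torsion. -/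
theorem rel_torsion_inv (c : Fin r → A) (hc : ∀ i, c i ∈ 𝒢.inv) (h0 : ∑ i, c i * x i = 0) :
    ∃ N : ℕ, ∀ i, g ^ N * c i = 0 := by
  apply 𝒢.rel_torsion hfin hproj g x hL1 hL2 c
  have := congrArg 𝒢.t.hom h0
  rw [map_sum, map_zero] at this
  rw [← this]
  refine Finset.sum_congr rfl fun i _ => ?_
  rw [map_mul, show 𝒢.s.hom (c i) = 𝒢.t.hom (c i) from hc i]

end local_

end RingGrpd

end Groth.Agent.Lib.GrpdRingH6
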