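import Mathlib
import Groth.Agent.Lib.GrpdRing5_helper6

/-!
# `A` is finite locally free over the invariants (helper6)
-/

set_option autoImplicit false
set_option linter.style.haveILetI false
universe u

open CategoryTheory CategoryTheory.Limits TensorProduct
open Groth.Agent.Lib.GrpdSuppH6 Groth.Agent.Lib.GrpdLIH6

namespace Groth.Agent.Lib.GrpdRingH6

namespace RingGrpd

variable {A B P : CommRingCat.{u}} (𝒢 : RingGrpd A B P)

section local_

variable (hfin : letI := 𝒢.s.hom.toAlgebra; Module.Finite A B)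
  (hproj : letI := 𝒢.s.hom.toAlgebra; Module.Projective A B)
  (g : A) (hg : g ∈ 𝒢.inv) {r : ℕ} (x : Fin r → A)
  (hL1 : letI := 𝒢.s.hom.toAlgebra
    ∀ b : B, g • b ∈ Submodule.span A (Set.range fun i => 𝒢.t.hom (x i)))
  (hL2 : letI := 𝒢.s.hom.toAlgebra
    ∀ p' : PrimeSpectrum A, g ∉ p'.asIdeal → Module.rankAtStalk (R := A) B p' = r)

include hfin hproj hL1 hL2 in
/-- The localization of `A` at an invariant `g` with local generators is the localization of a
finite free module over the invariants. -/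
theorem isLocalizedModule_of_local_basis :
    IsLocalizedModule (Submonoid.powers (⟨g, hg⟩ : 𝒢.inv))
      ((LocalizedModule.mkLinearMap (Submonoid.powers (⟨g, hg⟩ : 𝒢.inv)) A) ∘ₗ
        (Fintype.linearCombination 𝒢.inv x)) := by
  obtain ⟨gC, hgC⟩ : ∃ gC : 𝒢.inv, gC = ⟨g, hg⟩ := ⟨_, rfl⟩
  rw [← hgC]
  have hgCv : (gC : A) = g := by rw [hgC]
  have hpow : ∀ n : ℕ, ((gC ^ n : 𝒢.inv) : A) = g ^ n := fun n => by
    rw [← hgCv]; exact SubmonoidClass.coe_pow gC n
  set φ : (Fin r → 𝒢.inv) →ₗ[𝒢.inv] A := Fintype.linearCombination 𝒢.inv x with hφ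
  have hφa : ∀ c : Fin r → 𝒢.inv, φ c = ∑ i, (c i : A) * x i := by
    intro c
    rw [hφ, Fintype.linearCombination_apply]
    rfl
  set mk := LocalizedModule.mkLinearMap (Submonoid.powers gC) A with hmk
  refine ⟨?_, ?_, ?_⟩
  · exact IsLocalizedModule.map_units mk
  · intro y
    obtain ⟨⟨a, sden⟩, hy⟩ := IsLocalizedModule.surj (Submonoid.powers gC) mk y
    obtain ⟨N, c, hc, hN⟩ := 𝒢.exists_pow_mul_eq_sum hfin hproj g hg x hL1 hL2 a
    refine ⟨⟨fun i => ⟨c i, hc i⟩, ⟨gC ^ N, N, rfl⟩ * sden⟩, ?_⟩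
    show (⟨gC ^ N, N, rfl⟩ * sden : Submonoid.powers gC) • y = mk (φ _)
    rw [mul_smul, hy, hφa]
    show (gC ^ N) • mk a = _
    rw [← map_smul]
    congr 1
    show ((gC ^ N : 𝒢.inv) : A) * a = _
    rw [hpow, hN]
  · intro c₁ c₂ h12
    have h1 : mk (φ c₁) = mk (φ c₂) := h12
    obtain ⟨⟨_, m, rfl⟩, hm⟩ := IsLocalizedModule.exists_of_eq (S := Submonoid.powers gC) h1
    have hm' : (gC ^ m) • φ c₁ = (gC ^ m) • φ c₂ := hm
    have h2 : ∑ i, (g ^ m * ((c₁ i : A) - c₂ i)) * x i = 0 := by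
      have h3 : g ^ m * φ c₁ = g ^ m * φ c₂ := by
        rw [← hpow]; exact hm'
      rw [hφa, hφa] at h3
      simp only [mul_sub, sub_mul, Finset.sum_sub_distrib]
      rw [sub_eq_zero]
      simp only [mul_assoc]
      rw [← Finset.mul_sum, ← Finset.mul_sum]
      exact h3
    obtain ⟨N, hN⟩ := 𝒢.rel_torsion_inv hfin hproj g x hL1 hL2 _
      (fun i => 𝒢.inv.mul_mem (𝒢.inv.pow_mem hg m) (𝒢.inv.sub_mem (c₁ i).2 (c₂ i).2)) h2
    refine ⟨⟨gC ^ (N + m), N + m, rfl⟩, ?_⟩
    funext i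
    apply Subtype.ext
    show ((gC ^ (N + m) : 𝒢.inv) : A) * (c₁ i : A) = ((gC ^ (N + m) : 𝒢.inv) : A) * (c₂ i : A)
    rw [hpow, ← sub_eq_zero, ← mul_sub, pow_add, mul_assoc]
    exact hN i

end local_

/-- The set of invariants with local generators. -/
def goodSet : Set 𝒢.inv :=
  {gC | letI := 𝒢.s.hom.toAlgebra
    ∃ (r : ℕ) (x : Fin r → A),
      (∀ b : B, (gC : A) • b ∈ Submodule.span A (Set.range fun i => 𝒢.t.hom (x i))) ∧
      (∀ p' : PrimeSpectrum A, (gC : A) ∉ p'.asIdeal → Module.rankAtStalk (R := A) B p' = r)}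

theorem span_goodSet
    (hfin : letI := 𝒢.s.hom.toAlgebra; Module.Finite A B)
    (hproj : letI := 𝒢.s.hom.toAlgebra; Module.Projective A B)
    (hspan : letI := 𝒢.s.hom.toAlgebra; Submodule.span A (Set.range 𝒢.t.hom) = ⊤) :
    Ideal.span 𝒢.goodSet = ⊤ := by
  by_contra h
  obtain ⟨m, hm, hle⟩ := Ideal.exists_le_maximal _ h
  haveI := hm.isPrime
  obtain ⟨g, hg, r, x, -, hgp, hL1, hL2⟩ := 𝒢.exists_local_generators hfin hproj hspan m
  apply hgp hg
  apply hle
  apply Ideal.subset_span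
  exact ⟨r, x, hL1, hL2⟩

/-- **`A` is finite locally free over the invariants.** -/
theorem finite_flat_fp
    (hfin : letI := 𝒢.s.hom.toAlgebra; Module.Finite A B)
    (hproj : letI := 𝒢.s.hom.toAlgebra; Module.Projective A B)
    (hspan : letI := 𝒢.s.hom.toAlgebra; Submodule.span A (Set.range 𝒢.t.hom) = ⊤) :
    Module.Finite 𝒢.inv A ∧ Module.Flat 𝒢.inv A ∧ Module.FinitePresentation 𝒢.inv A := by
  have hS := 𝒢.span_goodSet hfin hproj hspan
  have key : ∀ gC : 𝒢.goodSet,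
      Module.Finite (Localization.Away gC.1) (LocalizedModule.Away gC.1 A) ∧
      Module.Free (Localization.Away gC.1) (LocalizedModule.Away gC.1 A) := by
    rintro ⟨⟨g, hg⟩, r, x, hL1, hL2⟩
    haveI := 𝒢.isLocalizedModule_of_local_basis hfin hproj g hg x hL1 hL2
    exact ⟨Module.Finite.of_isLocalizedModule (Submonoid.powers (⟨g, hg⟩ : 𝒢.inv))
        ((LocalizedModule.mkLinearMap (Submonoid.powers (⟨g, hg⟩ : 𝒢.inv)) A) ∘ₗ
          (Fintype.linearCombination 𝒢.inv x)),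
      Module.free_of_isLocalizedModule (Submonoid.powers (⟨g, hg⟩ : 𝒢.inv))
        ((LocalizedModule.mkLinearMap (Submonoid.powers (⟨g, hg⟩ : 𝒢.inv)) A) ∘ₗ
          (Fintype.linearCombination 𝒢.inv x))⟩
  refine ⟨Module.Finite.of_localizationSpan _ hS fun gC => (key gC).1, ?_, ?_⟩
  · refine Module.flat_of_localized_span _ _ _ hS fun gC => ?_
    haveI := (key gC).2
    exact Module.Flat.trans 𝒢.inv (Localization.Away gC.1) _
  · refine Module.FinitePresentation.of_localizationSpan _ hS fun gC => ?_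
    haveI := (key gC).1
    haveI := (key gC).2
    exact Module.finitePresentation_of_projective _ _

end RingGrpd

end Groth.Agent.Lib.GrpdRingH6
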