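import Mathlib
import Groth.Agent.Lib.GrpdRing6_helper6

/-!
# `A ⊗_C A → B` is bijective (helper6)
-/

set_option autoImplicit false
set_option linter.style.haveILetI false
universe u

open CategoryTheory CategoryTheory.Limits TensorProduct
open Groth.Agent.Lib.GrpdSuppH6 Groth.Agent.Lib.GrpdLIH6

namespace Groth.Agent.Lib.GrpdRingH6

namespace RingGrpd

variable {A B P : CommRingCat.{u}} (𝒢 : RingGrpd A B P)

section local_

variable (hfin : letI := 𝒢.s.hom.toAlgebra; Module.Finite A B)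
  (hproj : letI := 𝒢.s.hom.toAlgebra; Module.Projective A B)
  (g : A) (hg : g ∈ 𝒢.inv) {r : ℕ} (x : Fin r → A)
  (hL1 : letI := 𝒢.s.hom.toAlgebra
    ∀ b : B, g • b ∈ Submodule.span A (Set.range fun i => 𝒢.t.hom (x i)))
  (hL2 : letI := 𝒢.s.hom.toAlgebra
    ∀ p' : PrimeSpectrum A, g ∉ p'.asIdeal → Module.rankAtStalk (R := A) B p' = r)

include hfin hproj hL1 hL2 in
/-- Up to a power of `g`, every tensor is of the form `∑ x_i ⊗ y_i`. -/
theorem exists_pow_smul_eq_sum_tmul (z : (A : Type u) ⊗[𝒢.inv] (A : Type u)) :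
    ∃ (N : ℕ) (y : Fin r → A),
      ((⟨g, hg⟩ : 𝒢.inv) ^ N) • z = ∑ i, x i ⊗ₜ[𝒢.inv] y i := by
  obtain ⟨gC, hgC⟩ : ∃ gC : 𝒢.inv, gC = ⟨g, hg⟩ := ⟨_, rfl⟩
  rw [← hgC]
  have hgCv : (gC : A) = g := by rw [hgC]
  have hpow : ∀ n : ℕ, ((gC ^ n : 𝒢.inv) : A) = g ^ n := fun n => by
    rw [← hgCv]; exact SubmonoidClass.coe_pow gC n
  induction z using TensorProduct.induction_on with
  | zero => exact ⟨0, fun _ => 0, by simp⟩
  | tmul a a' =>
    obtain ⟨N, c, hc, hN⟩ := 𝒢.exists_pow_mul_eq_sum hfin hproj g hg x hL1 hL2 a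
    refine ⟨N, fun i => c i * a', ?_⟩
    have h1 : (gC ^ N) • (a ⊗ₜ[𝒢.inv] a') = (g ^ N * a) ⊗ₜ[𝒢.inv] a' := by
      rw [TensorProduct.smul_tmul']
      congr 1
      show ((gC ^ N : 𝒢.inv) : A) * a = _
      rw [hpow]
    rw [h1, hN, TensorProduct.sum_tmul]
    refine Finset.sum_congr rfl fun i _ => ?_
    have h2 : c i * x i = (⟨c i, hc i⟩ : 𝒢.inv) • x i := rfl
    show (c i * x i) ⊗ₜ[𝒢.inv] a' = x i ⊗ₜ[𝒢.inv] (c i * a')
    have h3 : c i * a' = (⟨c i, hc i⟩ : 𝒢.inv) • a' := rfl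
    rw [h2, h3, TensorProduct.smul_tmul]
  | add z z' hz hz' =>
    obtain ⟨N, y, hy⟩ := hz
    obtain ⟨N', y', hy'⟩ := hz'
    refine ⟨N + N', fun i => g ^ N' * y i + g ^ N * y' i, ?_⟩
    have h1 : (gC ^ (N + N')) • (z + z') = (gC ^ N') • ((gC ^ N) • z) + (gC ^ N) • ((gC ^ N') • z') := by
      rw [smul_add, smul_smul, smul_smul, ← pow_add, ← pow_add, add_comm N' N]
    rw [h1, hy, hy', Finset.smul_sum, Finset.smul_sum, ← Finset.sum_add_distrib]
    refine Finset.sum_congr rfl fun i _ => ?_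
    rw [TensorProduct.tmul_add]
    congr 1
    · rw [← TensorProduct.tmul_smul]
      congr 1
      show ((gC ^ N' : 𝒢.inv) : A) * y i = _
      rw [hpow]
    · rw [← TensorProduct.tmul_smul]
      congr 1
      show ((gC ^ N : 𝒢.inv) : A) * y' i = _
      rw [hpow]

end local_

/-- **`A ⊗_C A → B`, `a ⊗ a' ↦ t a * s a'`, is bijective.** -/
theorem bijective_tensor
    (hfin : letI := 𝒢.s.hom.toAlgebra; Module.Finite A B)
    (hproj : letI := 𝒢.s.hom.toAlgebra; Module.Projective A B)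
    (hspan : letI := 𝒢.s.hom.toAlgebra; Submodule.span A (Set.range 𝒢.t.hom) = ⊤)
    (ψ : ((A : Type u) ⊗[𝒢.inv] (A : Type u)) →+ B)
    (hψ : ∀ a a' : A, ψ (a ⊗ₜ[𝒢.inv] a') = 𝒢.t.hom a * 𝒢.s.hom a') :
    Function.Bijective ψ := by
  letI algAB : Algebra A B := 𝒢.s.hom.toAlgebra
  have hψsmul : ∀ (c : 𝒢.inv) (z : (A : Type u) ⊗[𝒢.inv] (A : Type u)),
      ψ (c • z) = 𝒢.s.hom c * ψ z := by
    intro c z
    induction z using TensorProduct.induction_on with
    | zero => simp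
    | tmul a a' =>
      rw [TensorProduct.smul_tmul', hψ, hψ]
      show 𝒢.t.hom ((c : A) * a) * _ = _
      rw [map_mul, ← show 𝒢.s.hom (c : A) = 𝒢.t.hom (c : A) from c.2, mul_assoc]
    | add z z' hz hz' => rw [smul_add, map_add, map_add, hz, hz', mul_add]
  constructor
  · -- injectivity
    rw [injective_iff_map_eq_zero]
    intro z hz
    -- the annihilator of `z`
    obtain ⟨I, hI⟩ : ∃ I : Ideal 𝒢.inv, I = LinearMap.ker (LinearMap.toSpanSingleton 𝒢.inv _ z) :=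
      ⟨_, rfl⟩
    have hImem : ∀ c : 𝒢.inv, c ∈ I ↔ c • z = 0 := by
      intro c; rw [hI, LinearMap.mem_ker, LinearMap.toSpanSingleton_apply]
    suffices hIt : I = ⊤ by
      have : (1 : 𝒢.inv) ∈ I := by rw [hIt]; trivial
      rw [hImem, one_smul] at this
      exact this
    by_contra hne
    obtain ⟨m, hm, hle⟩ := Ideal.exists_le_maximal _ hne
    haveI := hm.isPrime
    have hS := 𝒢.span_goodSet hfin hproj hspan
    have hnot : ¬ (𝒢.goodSet ⊆ (m : Set 𝒢.inv)) := by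
      intro hsub
      have : Ideal.span 𝒢.goodSet ≤ m := Ideal.span_le.mpr hsub
      rw [hS] at this
      exact hm.ne_top (top_le_iff.mp this)
    obtain ⟨⟨g, hg⟩, ⟨r, x, hL1, hL2⟩, hgm⟩ := Set.not_subset.mp hnot
    obtain ⟨N, y, hy⟩ := 𝒢.exists_pow_smul_eq_sum_tmul hfin hproj g hg x hL1 hL2 z
    have h1 : ψ (((⟨g, hg⟩ : 𝒢.inv) ^ N) • z) = 0 := by rw [hψsmul, hz, mul_zero]
    rw [hy, map_sum] at h1
    have h2 : ∑ i, 𝒢.s.hom (y i) * 𝒢.t.hom (x i) = 0 := by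
      rw [← h1]
      exact Finset.sum_congr rfl fun i _ => by rw [hψ, mul_comm]
    obtain ⟨M, hM⟩ := 𝒢.rel_torsion hfin hproj g x hL1 hL2 y h2
    have h3 : ((⟨g, hg⟩ : 𝒢.inv) ^ (M + N)) ∈ I := by
      rw [hImem, pow_add, mul_smul, hy, Finset.smul_sum]
      refine Finset.sum_eq_zero fun i _ => ?_
      rw [← TensorProduct.tmul_smul]
      have : ((⟨g, hg⟩ : 𝒢.inv) ^ M) • y i = 0 := by
        show (((⟨g, hg⟩ : 𝒢.inv) ^ M : 𝒢.inv) : A) * y i = 0
        rw [SubmonoidClass.coe_pow]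
        exact hM i
      rw [this, tmul_zero]
    exact hgm (hm.isPrime.mem_of_pow_mem _ (hle h3))
  · -- surjectivity
    have hmul : ∀ (a : A) (z : (A : Type u) ⊗[𝒢.inv] (A : Type u)),
        ∃ z', ψ z' = 𝒢.s.hom a * ψ z := by
      intro a z
      induction z using TensorProduct.induction_on with
      | zero => exact ⟨0, by simp⟩
      | tmul a₁ a₂ =>
        refine ⟨a₁ ⊗ₜ[𝒢.inv] (a * a₂), ?_⟩
        rw [hψ, hψ, map_mul]; ring
      | add z z' hz hz' =>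
        obtain ⟨w, hw⟩ := hz
        obtain ⟨w', hw'⟩ := hz'
        exact ⟨w + w', by rw [map_add, map_add, hw, hw', mul_add]⟩
    have key : ∀ b ∈ Submodule.span A (Set.range 𝒢.t.hom), ∃ z, ψ z = b := by
      intro b hb
      induction hb using Submodule.span_induction with
      | mem b hb =>
        obtain ⟨a, rfl⟩ := hb
        exact ⟨a ⊗ₜ[𝒢.inv] 1, by rw [hψ, map_one, mul_one]⟩
      | zero => exact ⟨0, map_zero _⟩
      | add b b' _ _ hb hb' =>
        obtain ⟨w, hw⟩ := hb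
        obtain ⟨w', hw'⟩ := hb'
        exact ⟨w + w', by rw [map_add, hw, hw']⟩
      | smul a b _ hb =>
        obtain ⟨w, hw⟩ := hb
        obtain ⟨w', hw'⟩ := hmul a w
        exact ⟨w', by rw [hw', hw, Algebra.smul_def]; rfl⟩
    intro b
    exact key b (by rw [hspan]; trivial)

end RingGrpd

end Groth.Agent.Lib.GrpdRingH6
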