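import Mathlib
import Groth.Prelude.Def_Grpd
import Groth.Agent.Lib.GrpdRing7_helper6

/-!
# Geometric input for the finite flat groupoid quotient (helper6)

* `span_of_mono`: if `j = (t, s)` is a monomorphism then `Γ(R) = t♯(Γ U) · s♯(Γ U)`.
-/

set_option autoImplicit false
set_option linter.style.haveILetI false
universe u

open CategoryTheory CategoryTheory.Limits AlgebraicGeometry Grpd TensorProduct
open Groth.Agent.Lib.GrpdSuppH6

namespace Groth.Agent.Lib.GrpdQuotH6

variable {S : Scheme.{u}} (G : GroupoidScheme S)

/-- `(t, s) : R → U × U` (absolute product). -/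
noncomputable def jAbs : G.R ⟶ pullback (terminal.from G.U) (terminal.from G.U) :=
  pullback.lift G.t G.s (terminal.hom_ext _ _)

instance mono_jAbs [Mono G.j] : Mono (jAbs G) := by
  refine ⟨fun α β h => ?_⟩
  rw [← cancel_mono G.j]
  have h1 : α ≫ G.t = β ≫ G.t := by
    have := congrArg (fun φ => φ ≫ pullback.fst _ _) h
    simp only [jAbs, Category.assoc, pullback.lift_fst] at this
    exact this
  have h2 : α ≫ G.s = β ≫ G.s := by
    have := congrArg (fun φ => φ ≫ pullback.snd _ _) h
    simp only [jAbs, Category.assoc, pullback.lift_snd] at this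
    exact this
  apply pullback.hom_ext
  · simp only [GroupoidScheme.j, Category.assoc, pullback.lift_fst]
    exact h1
  · simp only [GroupoidScheme.j, Category.assoc, pullback.lift_snd]
    exact h2

theorem span_of_mono [IsAffine G.U] [IsAffine G.R] [IsFinite G.s] [Mono G.j] :
    letI := G.s.appTop.hom.toAlgebra
    Submodule.span Γ(G.U, ⊤) (Set.range G.t.appTop.hom) = ⊤ := by
  letI algAB : Algebra Γ(G.U, ⊤) Γ(G.R, ⊤) := G.s.appTop.hom.toAlgebra
  have hsnd : jAbs G ≫ pullback.snd _ _ = G.s := pullback.lift_snd _ _ _
  have hfst : jAbs G ≫ pullback.fst _ _ = G.t := pullback.lift_fst _ _ _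
  haveI : IsFinite (jAbs G ≫ pullback.snd (terminal.from G.U) (terminal.from G.U)) := by
    rw [hsnd]; infer_instance
  haveI : IsFinite (jAbs G) :=
    MorphismProperty.of_postcomp (W := @IsFinite) (W' := @IsSeparated) (jAbs G)
      (pullback.snd (terminal.from G.U) (terminal.from G.U)) inferInstance inferInstance
  haveI hcl : IsClosedImmersion (jAbs G) :=
    (IsClosedImmersion.iff_isFinite_and_mono _).mpr ⟨inferInstance, inferInstance⟩
  have hsurj : Function.Surjective (jAbs G).appTop.hom :=
    ((HasAffineProperty.iff_of_isAffine (P := @IsClosedImmersion)).mp hcl).2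
  have po := isPushout_appTop_of_isPullback
    (IsPullback.of_hasPullback (terminal.from G.U) (terminal.from G.U))
  have hW := span_range_inl _ _ _ _ po
  letI algAW : Algebra Γ(G.U, ⊤) Γ(pullback (terminal.from G.U) (terminal.from G.U), ⊤) :=
    (pullback.snd (terminal.from G.U) (terminal.from G.U)).appTop.hom.toAlgebra
  have hs' : ∀ a, (jAbs G).appTop.hom ((pullback.snd (terminal.from G.U) (terminal.from G.U)).appTop.hom a) =
      G.s.appTop.hom a := by
    intro a
    have := congrArg (fun φ => φ.appTop.hom a) hsnd
    simpa using this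
  have ht' : ∀ a, (jAbs G).appTop.hom ((pullback.fst (terminal.from G.U) (terminal.from G.U)).appTop.hom a) =
      G.t.appTop.hom a := by
    intro a
    have := congrArg (fun φ => φ.appTop.hom a) hfst
    simpa using this
  have key : ∀ w ∈ Submodule.span Γ(G.U, ⊤)
      (Set.range (pullback.fst (terminal.from G.U) (terminal.from G.U)).appTop.hom),
      (jAbs G).appTop.hom w ∈ Submodule.span Γ(G.U, ⊤) (Set.range G.t.appTop.hom) := by
    intro w hw
    induction hw using Submodule.span_induction with
    | mem w hw =>
      obtain ⟨a, rfl⟩ := hw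
      rw [ht']
      exact Submodule.subset_span ⟨a, rfl⟩
    | zero => rw [map_zero]; exact Submodule.zero_mem _
    | add w w' _ _ hw hw' => rw [map_add]; exact Submodule.add_mem _ hw hw'
    | smul a w _ hw =>
      rw [Algebra.smul_def, map_mul]
      have h3 : (jAbs G).appTop.hom (algebraMap Γ(G.U, ⊤) _ a) = G.s.appTop.hom a := hs' a
      rw [h3]
      have h4 : G.s.appTop.hom a * (jAbs G).appTop.hom w = a • (jAbs G).appTop.hom w :=
        (Algebra.smul_def _ _).symm
      rw [h4]
      exact Submodule.smul_mem _ _ hw
  rw [eq_top_iff]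
  intro b _
  obtain ⟨w, rfl⟩ := hsurj b
  exact key w (by rw [hW]; trivial)

end Groth.Agent.Lib.GrpdQuotH6
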