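import Mathlib
import Groth.Prelude.Def_Grpd
import Groth.Agent.Lib.GrpdQuot1_helper6

/-!
# The finite flat groupoid quotient `U → Spec C` (helper6)
-/

set_option autoImplicit false
set_option linter.style.haveILetI false
universe u

open CategoryTheory CategoryTheory.Limits AlgebraicGeometry Grpd TensorProduct
open Groth.Agent.Lib.GrpdSuppH6 Groth.Agent.Lib.GrpdRingH6

namespace Groth.Agent.Lib.GrpdQuotH6

variable {S : Scheme.{u}} (G : GroupoidScheme S)

section

variable [IsAffine G.U] [IsAffine G.R]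

/-- The inclusion of the invariants, as a morphism of `CommRingCat`. -/
noncomputable abbrev incl : CommRingCat.of G.invariants ⟶ Γ(G.U, ⊤) :=
  CommRingCat.ofHom G.invariants.subtype

lemma incl_s_eq_incl_t : incl G ≫ G.s.appTop = incl G ≫ G.t.appTop := by
  ext c
  exact c.2

lemma t_toQuot : G.t ≫ G.toQuot = G.s ≫ G.toQuot := by
  unfold GroupoidScheme.toQuot
  rw [← Category.assoc, ← Category.assoc, Scheme.toSpecΓ_naturality, Scheme.toSpecΓ_naturality,
    Category.assoc, Category.assoc, ← Spec.map_comp, ← Spec.map_comp]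
  congr 2
  exact (incl_s_eq_incl_t G).symm

/-- `toQuot` on global sections, up to the canonical isomorphism, is the inclusion. -/
lemma toQuot_appTop :
    (Scheme.ΓSpecIso (CommRingCat.of G.invariants)).inv ≫ G.toQuot.appTop = incl G := by
  unfold GroupoidScheme.toQuot
  rw [Scheme.Hom.comp_appTop, Scheme.toSpecΓ_appTop, ← Category.assoc,
    ← Scheme.ΓSpecIso_inv_naturality, Category.assoc, Iso.inv_hom_id, Category.comp_id]

/-- The pushout square of global sections of `U ×_M U`, over the ring of invariants. -/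
lemma isPushout_invariants :
    IsPushout (CommRingCat.ofHom (algebraMap G.invariants Γ(G.U, ⊤)))
      (CommRingCat.ofHom (algebraMap G.invariants Γ(G.U, ⊤)))
      (pullback.fst G.toQuot G.toQuot).appTop (pullback.snd G.toQuot G.toQuot).appTop := by
  have po := isPushout_appTop_of_isPullback (IsPullback.of_hasPullback G.toQuot G.toQuot)
  have h1 : G.toQuot.appTop =
      (Scheme.ΓSpecIso (CommRingCat.of G.invariants)).hom ≫ incl G := by
    rw [← toQuot_appTop G, Iso.hom_inv_id_assoc]
  refine po.of_iso (Scheme.ΓSpecIso (CommRingCat.of G.invariants)) (Iso.refl _) (Iso.refl _)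
    (Iso.refl _) ?_ ?_ ?_ ?_
  · rw [Iso.refl_hom, Category.comp_id, h1]; rfl
  · rw [Iso.refl_hom, Category.comp_id, h1]; rfl
  · simp
  · simp

/-- The comparison `R → U ×_M U`. -/
noncomputable def toPullback : G.R ⟶ pullback G.toQuot G.toQuot :=
  pullback.lift G.t G.s (t_toQuot G)

theorem bijective_toPullback_appTop
    (hfin : letI := G.s.appTop.hom.toAlgebra; Module.Finite Γ(G.U, ⊤) Γ(G.R, ⊤))
    (hproj : letI := G.s.appTop.hom.toAlgebra; Module.Projective Γ(G.U, ⊤) Γ(G.R, ⊤))
    (hspan : letI := G.s.appTop.hom.toAlgebra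
      Submodule.span Γ(G.U, ⊤) (Set.range G.t.appTop.hom) = ⊤) :
    Function.Bijective (toPullback G).appTop.hom := by
  have po' := isPushout_invariants G
  let isoT := (CommRingCat.isPushout_tensorProduct G.invariants Γ(G.U, ⊤) Γ(G.U, ⊤)).isoIsPushout
    _ _ po'
  have hl : ∀ a : Γ(G.U, ⊤), isoT.hom.hom (a ⊗ₜ[G.invariants] (1 : Γ(G.U, ⊤))) =
      (pullback.fst G.toQuot G.toQuot).appTop.hom a := by
    intro a
    have h2 := (CommRingCat.isPushout_tensorProduct G.invariants Γ(G.U, ⊤)
      Γ(G.U, ⊤)).inl_isoIsPushout_hom _ _ po'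
    exact congrArg (fun φ => φ.hom a) h2
  have hr : ∀ a : Γ(G.U, ⊤), isoT.hom.hom ((1 : Γ(G.U, ⊤)) ⊗ₜ[G.invariants] a) =
      (pullback.snd G.toQuot G.toQuot).appTop.hom a := by
    intro a
    have h2 := (CommRingCat.isPushout_tensorProduct G.invariants Γ(G.U, ⊤)
      Γ(G.U, ⊤)).inr_isoIsPushout_hom _ _ po'
    exact congrArg (fun φ => φ.hom a) h2
  have hft : ∀ a, (toPullback G).appTop.hom ((pullback.fst G.toQuot G.toQuot).appTop.hom a) =
      G.t.appTop.hom a := by
    intro a
    have h3 : toPullback G ≫ pullback.fst G.toQuot G.toQuot = G.t := pullback.lift_fst _ _ _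
    have := congrArg (fun φ => φ.appTop.hom a) h3
    simpa using this
  have hfs : ∀ a, (toPullback G).appTop.hom ((pullback.snd G.toQuot G.toQuot).appTop.hom a) =
      G.s.appTop.hom a := by
    intro a
    have h3 : toPullback G ≫ pullback.snd G.toQuot G.toQuot = G.s := pullback.lift_snd _ _ _
    have := congrArg (fun φ => φ.appTop.hom a) h3
    simpa using this
  let ψ : (Γ(G.U, ⊤) ⊗[G.invariants] Γ(G.U, ⊤)) →+ Γ(G.R, ⊤) :=
    ((toPullback G).appTop.hom.comp isoT.hom.hom : _ →+* _)
  have hψ : ∀ a a' : Γ(G.U, ⊤), ψ (a ⊗ₜ[G.invariants] a') =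
      G.t.appTop.hom a * G.s.appTop.hom a' := by
    intro a a'
    have h4 : a ⊗ₜ[G.invariants] a' =
        (a ⊗ₜ[G.invariants] (1 : Γ(G.U, ⊤))) * ((1 : Γ(G.U, ⊤)) ⊗ₜ[G.invariants] a') := by
      rw [Algebra.TensorProduct.tmul_mul_tmul, mul_one, one_mul]
    show (toPullback G).appTop.hom (isoT.hom.hom (a ⊗ₜ[G.invariants] a')) = _
    rw [h4, map_mul, map_mul, hl, hr, hft, hfs]
  have hbij : Function.Bijective ψ :=
    (ofGroupoid G).bijective_tensor hfin hproj hspan ψ hψ
  have hiso : Function.Bijective isoT.hom.hom :=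
    ConcreteCategory.bijective_of_isIso isoT.hom
  have hcomp : Function.Bijective ((toPullback G).appTop.hom ∘ isoT.hom.hom) := hbij
  exact (Function.Bijective.of_comp_iff _ hiso).mp hcomp

theorem main1877 [IsFinite G.s] [Flat G.s] [LocallyOfFinitePresentation G.s] [Mono G.j] :
    (IsFinite G.toQuot ∧ Flat G.toQuot ∧ LocallyOfFinitePresentation G.toQuot) ∧
      ∃ φ : G.R ≅ pullback G.toQuot G.toQuot,
        φ.hom ≫ pullback.fst G.toQuot G.toQuot = G.t ∧
        φ.hom ≫ pullback.snd G.toQuot G.toQuot = G.s := by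
  classical
  letI algAB : Algebra Γ(G.U, ⊤) Γ(G.R, ⊤) := G.s.appTop.hom.toAlgebra
  haveI hfp : Algebra.FinitePresentation Γ(G.U, ⊤) Γ(G.R, ⊤) :=
    (HasRingHomProperty.iff_of_isAffine (P := @LocallyOfFinitePresentation)).mp inferInstance
  haveI hflat : Module.Flat Γ(G.U, ⊤) Γ(G.R, ⊤) :=
    (HasRingHomProperty.iff_of_isAffine (P := @Flat)).mp inferInstance
  haveI hfin : Module.Finite Γ(G.U, ⊤) Γ(G.R, ⊤) := Scheme.Hom.finite_appTop G.s
  haveI : Module.FinitePresentation Γ(G.U, ⊤) Γ(G.R, ⊤) :=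
    Module.FinitePresentation.of_finite_of_finitePresentation _ _
  haveI hproj : Module.Projective Γ(G.U, ⊤) Γ(G.R, ⊤) :=
    Module.Flat.projective_of_finitePresentation
  have hspan := span_of_mono G
  obtain ⟨h1, h2, h3⟩ := (ofGroupoid G).finite_flat_fp hfin hproj hspan
  haveI h1' : Module.Finite G.invariants Γ(G.U, ⊤) := h1
  haveI h2' : Module.Flat G.invariants Γ(G.U, ⊤) := h2
  haveI h3' : Module.FinitePresentation G.invariants Γ(G.U, ⊤) := h3
  haveI h4' : Algebra.FinitePresentation G.invariants Γ(G.U, ⊤) := inferInstance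
  refine ⟨⟨?_, ?_, ?_⟩, ?_⟩
  · unfold GroupoidScheme.toQuot
    rw [MorphismProperty.cancel_left_of_respectsIso (P := @IsFinite), IsFinite.SpecMap_iff]
    exact RingHom.finite_algebraMap.mpr h1'
  · unfold GroupoidScheme.toQuot
    rw [MorphismProperty.cancel_left_of_respectsIso (P := @Flat), Flat.SpecMap_iff]
    exact (RingHom.flat_algebraMap_iff).mpr h2'
  · unfold GroupoidScheme.toQuot
    rw [MorphismProperty.cancel_left_of_respectsIso (P := @LocallyOfFinitePresentation),
      LocallyOfFinitePresentation.SpecMap_iff]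
    exact (RingHom.finitePresentation_algebraMap).mpr h4'
  · have hbij := bijective_toPullback_appTop G hfin hproj hspan
    haveI : IsIso (toPullback G).appTop :=
      (ConcreteCategory.isIso_iff_bijective _).mpr hbij
    haveI : IsIso (toPullback G) := by
      have := (HasAffineProperty.iff_of_isAffine (P := MorphismProperty.isomorphisms Scheme)
        (f := toPullback G)).mpr ⟨inferInstance, inferInstance⟩
      exact this
    exact ⟨asIso (toPullback G), pullback.lift_fst _ _ _, pullback.lift_snd _ _ _⟩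

end

end Groth.Agent.Lib.GrpdQuotH6
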