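import Mathlib
import Groth.Prelude.Def_Grpd
import Groth.Prelude.Def_QuotSh
import Groth.Agent.Lib.GrpdQuot2_helper6
import Groth.Agent.Lib.FlatEpi_lead
import Groth.Agent.S7490

/-!
# `U → Spec C` is the fppf quotient `U/R` (helper6)
-/

set_option autoImplicit false
set_option linter.style.haveILetI false
universe u

open CategoryTheory CategoryTheory.Limits AlgebraicGeometry Grpd TensorProduct
open Groth.Agent.Lib.GrpdRingH6

namespace Groth.Agent.Lib.GrpdQuotH6

variable {S : Scheme.{u}} (G : GroupoidScheme S)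

/-- `repMap` of an isomorphism is an isomorphism. -/
theorem isIso_repMap (K : Precoverage Scheme.{u}) {V W : Over S} (g : V ⟶ W) [IsIso g] :
    IsIso (QuotSh.repMap K g) := by
  let L : Over S ⥤ QuotSh.Sh K S :=
    yoneda ⋙ (Functor.whiskeringRight _ _ _).obj uliftFunctor.{u + 1, u} ⋙
      presheafToSheaf (QuotSh.J K S) (Type (u + 1))
  have hLmap : L.map g = QuotSh.repMap K g := rfl
  rw [← hLmap]
  infer_instance

section

variable [IsAffine G.U] [IsAffine G.R]

instance surjective_toQuot [IsFinite G.s] [Flat G.s] [LocallyOfFinitePresentation G.s] :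
    Surjective G.toQuot := by
  haveI : Algebra.IsIntegral G.invariants Γ(G.U, ⊤) :=
    Groth.Agent.Lib.GrpdIntegralH4.main1879 S G
  haveI : FaithfulSMul G.invariants Γ(G.U, ⊤) :=
    (faithfulSMul_iff_algebraMap_injective _ _).mpr Subtype.val_injective
  haveI : Surjective (Spec.map (incl G)) := by
    rw [surjective_iff]
    exact Algebra.IsIntegral.comap_surjective G.invariants Γ(G.U, ⊤)
  unfold GroupoidScheme.toQuot
  infer_instance

theorem main7488 [IsFinite G.s] [Flat G.s] [LocallyOfFinitePresentation G.s] [Mono G.j] :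
    ∃! m : Spec (CommRingCat.of G.invariants) ⟶ S, ∃ h : G.toQuot ≫ m = G.pU,
      QuotSh.IsQuotient Scheme.fppfPrecoverage
        (Over.homMk G.s G.s_over : Over.mk G.pR ⟶ Over.mk G.pU)
        (Over.homMk G.t G.t_over : Over.mk G.pR ⟶ Over.mk G.pU)
        (Over.homMk G.toQuot h : Over.mk G.pU ⟶ Over.mk m) := by
  obtain ⟨⟨hfin, hflat, hlfp⟩, φ, hφt, hφs⟩ := main1877 G
  haveI := hfin
  haveI := hflat
  haveI := hlfp
  haveI : QuasiCompact G.toQuot := inferInstance
  haveI : EffectiveEpi G.toQuot := inferInstance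
  -- the structure morphism descends
  have hdesc : ∀ {Z : Scheme.{u}} (g₁ g₂ : Z ⟶ G.U), g₁ ≫ G.toQuot = g₂ ≫ G.toQuot →
      g₁ ≫ G.pU = g₂ ≫ G.pU := by
    intro Z g₁ g₂ h12
    obtain ⟨r, hr⟩ : ∃ r : Z ⟶ G.R, r = pullback.lift g₁ g₂ h12 ≫ φ.inv := ⟨_, rfl⟩
    have h1 : r ≫ G.t = g₁ := by
      rw [hr, ← hφt, Category.assoc, Iso.inv_hom_id_assoc, pullback.lift_fst]
    have h2 : r ≫ G.s = g₂ := by
      rw [hr, ← hφs, Category.assoc, Iso.inv_hom_id_assoc, pullback.lift_snd]
    rw [← h1, ← h2, Category.assoc, Category.assoc, G.t_over, G.s_over]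
  obtain ⟨m, hm⟩ : ∃ m : Spec (CommRingCat.of G.invariants) ⟶ S, m =
      EffectiveEpi.desc G.toQuot G.pU (fun g₁ g₂ h => hdesc g₁ g₂ h) := ⟨_, rfl⟩
  have hfac : G.toQuot ≫ m = G.pU := by rw [hm]; exact EffectiveEpi.fac _ _ _
  refine ⟨m, ⟨hfac, ?_⟩, ?_⟩
  · -- the quotient property
    have w' : G.t ≫ G.toQuot = G.s ≫ G.toQuot := t_toQuot G
    refine Groth.Agent.S7490.result Scheme.fppfPrecoverage
      (Over.homMk G.s G.s_over : Over.mk G.pR ⟶ Over.mk G.pU)
      (Over.homMk G.t G.t_over : Over.mk G.pR ⟶ Over.mk G.pU)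
      (Over.homMk G.toQuot hfac : Over.mk G.pU ⟶ Over.mk m) ?_ w' ?_ ?_
    · ext
      exact w'.symm
    · refine Groth.Agent.Lib.FlatEpi.epi_repMap_of_cover Scheme.fppfPrecoverage _ ?_
      exact Scheme.Hom.singleton_mem_fppfPrecoverage G.toQuot
    · -- `R ≅ U ×_M U`
      have hiso : IsIso (pullback.lift G.t G.s w') := by
        have : pullback.lift G.t G.s w' = φ.hom := by
          apply pullback.hom_ext
          · rw [pullback.lift_fst, hφt]
          · rw [pullback.lift_snd, hφs]
        rw [this]; infer_instance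
      haveI : IsIso (Over.homMk (pullback.lift G.t G.s w')
          (((Category.assoc _ _ _).symm.trans (congrArg (fun k => k ≫ G.pU)
            (pullback.lift_fst G.t G.s w'))).trans G.t_over) :
          Over.mk G.pR ⟶ Over.mk (pullback.fst G.toQuot G.toQuot ≫ G.pU)) := by
        haveI : IsIso ((Over.forget S).map (Over.homMk (pullback.lift G.t G.s w')
          (((Category.assoc _ _ _).symm.trans (congrArg (fun k => k ≫ G.pU)
            (pullback.lift_fst G.t G.s w'))).trans G.t_over) :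
          Over.mk G.pR ⟶ Over.mk (pullback.fst G.toQuot G.toQuot ≫ G.pU))) := hiso
        exact isIso_of_reflects_iso _ (Over.forget S)
      haveI := isIso_repMap Scheme.fppfPrecoverage (Over.homMk (pullback.lift G.t G.s w')
          (((Category.assoc _ _ _).symm.trans (congrArg (fun k => k ≫ G.pU)
            (pullback.lift_fst G.t G.s w'))).trans G.t_over) :
          Over.mk G.pR ⟶ Over.mk (pullback.fst G.toQuot G.toQuot ≫ G.pU))
      exact @IsIso.epi_of_iso _ _ _ _ _ this
  · rintro m' ⟨hm', -⟩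
    rw [← cancel_epi G.toQuot, hm', hfac]

end

end Groth.Agent.Lib.GrpdQuotH6
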