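import Groth.Agent.Lib.GrpdRestr1_helper7
import Groth.Agent.Lib.GrpdQuot3_helper6
import Groth.Agent.Lib.AlgSpQuotEff_helper7
import Groth.Agent.Lib.AlgSpPullback_helper7
import Groth.Agent.Lib.AlgSpBasic_helper7
import Groth.Agent.S9870
import Groth.Prelude.Def_Mor2

/-!
# Charts of the fppf quotient sheaf of a finite locally free groupoid (helper7)

For an `R`-invariant affine open `W ⊆ U` of a groupoid scheme with `s, t` finite locally free
and `(t, s)` an equivalence relation, the affine quotient `M_W` of the restricted groupoid is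
an open subfunctor of the fppf quotient sheaf `U/R`.
-/

set_option backward.isDefEq.respectTransparency false
set_option backward.isDefEq.respectTransparency.types false
set_option linter.style.haveILetI false
set_option linter.unusedSectionVars false
set_option linter.unusedVariables false
set_option autoImplicit false
set_option maxHeartbeats 1600000

universe u

open CategoryTheory CategoryTheory.Limits AlgebraicGeometry Grpd Opposite
open Groth.Agent.Lib.GrpdCalc

namespace Groth.Agent.Lib.GrpdRestr2H7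

open AlgSp Groth.Agent.Lib.GrpdRestrH7 Groth.Agent.Lib.AlgSpQuotEffH7
  Groth.Agent.Lib.AlgSpPullback_helper7 Groth.Agent.Lib.AlgSpOpenSub_helper7
  Groth.Agent.Lib.AlgSpGlueH7

variable {S : Scheme.{u}}

/-- A pullback square of products from a "full restriction" along monomorphisms. -/
theorem isPullback_prod_of_mono {C : Type*} [Category C] [HasBinaryProducts C] {R U R' U' : C}
    (s t : R ⟶ U) (g : U' ⟶ U) (s' t' : R' ⟶ U') (r : R' ⟶ R) [Mono g] [Mono r]
    (hs : s' ≫ g = r ≫ s) (ht : t' ≫ g = r ≫ t)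
    (hfac : ∀ (T : C) (b : T ⟶ R) (a₁ a₂ : T ⟶ U'), a₁ ≫ g = b ≫ t → a₂ ≫ g = b ≫ s →
      ∃ r' : T ⟶ R', r' ≫ r = b) :
    IsPullback (prod.lift t' s') r (prod.map g g) (prod.lift t s) := by
  have w : prod.lift t' s' ≫ prod.map g g = r ≫ prod.lift t s := by
    rw [prod.lift_map, prod.comp_lift, hs, ht]
  have h1 : ∀ c : PullbackCone (prod.map g g) (prod.lift t s),
      (c.fst ≫ prod.fst) ≫ g = c.snd ≫ t := by
    intro c
    have h := congrArg (fun k => k ≫ prod.fst) c.condition
    simp only [Category.assoc, prod.map_fst, prod.lift_fst] at h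
    rw [Category.assoc]
    exact h
  have h2 : ∀ c : PullbackCone (prod.map g g) (prod.lift t s),
      (c.fst ≫ prod.snd) ≫ g = c.snd ≫ s := by
    intro c
    have h := congrArg (fun k => k ≫ prod.snd) c.condition
    simp only [Category.assoc, prod.map_snd, prod.lift_snd] at h
    rw [Category.assoc]
    exact h
  have key : ∀ c : PullbackCone (prod.map g g) (prod.lift t s),
      ∃ l : c.pt ⟶ R', l ≫ r = c.snd := fun c =>
    hfac c.pt c.snd (c.fst ≫ prod.fst) (c.fst ≫ prod.snd) (h1 c) (h2 c)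
  choose l hl using key
  refine ⟨⟨w⟩, ⟨PullbackCone.IsLimit.mk w l ?_ hl ?_⟩⟩
  · intro c
    apply Limits.prod.hom_ext
    · rw [Category.assoc, prod.lift_fst, ← cancel_mono g, Category.assoc, ht, ← Category.assoc,
        hl, h1 c]
    · rw [Category.assoc, prod.lift_snd, ← cancel_mono g, Category.assoc, hs, ← Category.assoc,
        hl, h2 c]
  · intro c m _ hm2
    rw [← cancel_mono r, hm2, hl]

variable (G : GroupoidScheme S)

/-- `U` as an object over `S`. -/
noncomputable abbrev UO : Over S := Over.mk G.pU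

/-- `R` as an object over `S`. -/
noncomputable abbrev RO : Over S := Over.mk G.pR

/-- `s` over `S`. -/
noncomputable abbrev sO : RO G ⟶ UO G := Over.homMk G.s G.s_over

/-- `t` over `S`. -/
noncomputable abbrev tO : RO G ⟶ UO G := Over.homMk G.t G.t_over

theorem inj_of_isEqvRel (heq : IsEqvRel (sO G) (tO G)) {T : Scheme.{u}} (a b : T ⟶ G.R)
    (h1 : a ≫ G.t = b ≫ G.t) (h2 : a ≫ G.s = b ≫ G.s) : a = b := by
  have hb : b ≫ G.pR = a ≫ G.pR := by
    rw [← G.t_over, ← Category.assoc, ← h1, Category.assoc]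
  have h := heq.injective (Over.mk (a ≫ G.pR)) (Over.homMk a rfl : Over.mk (a ≫ G.pR) ⟶ RO G)
    (Over.homMk b hb : Over.mk (a ≫ G.pR) ⟶ RO G) (by ext; exact h1) (by ext; exact h2)
  exact congrArg (fun k => k.left) h

theorem mono_j_of_inj (hinj : ∀ {T : Scheme.{u}} (a b : T ⟶ G.R), a ≫ G.t = b ≫ G.t →
    a ≫ G.s = b ≫ G.s → a = b) : Mono G.j := by
  refine ⟨fun {T} a b hab => hinj a b ?_ ?_⟩
  · have h := congrArg (fun k => k ≫ pullback.fst G.pU G.pU) hab
    simp only [Category.assoc, GroupoidScheme.j, pullback.lift_fst] at h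
    exact h
  · have h := congrArg (fun k => k ≫ pullback.snd G.pU G.pU) hab
    simp only [Category.assoc, GroupoidScheme.j, pullback.lift_snd] at h
    exact h

instance surjective_s : Surjective G.s := by
  refine ⟨fun x => ⟨G.e x, ?_⟩⟩
  rw [← Scheme.Hom.comp_apply, G.e_s]
  rfl

instance surjective_t : Surjective G.t := by
  refine ⟨fun x => ⟨G.e x, ?_⟩⟩
  rw [← Scheme.Hom.comp_apply, G.e_t]
  rfl

section props

variable (W : G.U.Opens) (hW : G.s ⁻¹ᵁ W = G.t ⁻¹ᵁ W)

theorem tW_eq : tW G W hW = (G.R.isoOfEq hW).hom ≫ G.t ∣_ W := by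
  rw [← cancel_mono W.ι, tW_ι, Category.assoc, morphismRestrict_ι, Scheme.isoOfEq_hom_ι_assoc]

theorem prop_s (P : MorphismProperty Scheme.{u}) [IsZariskiLocalAtTarget P] (h : P G.s) :
    P (restrOpen G W hW).s :=
  IsZariskiLocalAtTarget.restrict h W

theorem prop_t (P : MorphismProperty Scheme.{u}) [IsZariskiLocalAtTarget P] (h : P G.t) :
    P (restrOpen G W hW).t := by
  show P (tW G W hW)
  rw [tW_eq, P.cancel_left_of_respectsIso]
  exact IsZariskiLocalAtTarget.restrict h W

theorem inj_restr (hinj : ∀ {T : Scheme.{u}} (a b : T ⟶ G.R), a ≫ G.t = b ≫ G.t →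
    a ≫ G.s = b ≫ G.s → a = b) {T : Scheme.{u}} (a b : T ⟶ (restrOpen G W hW).R)
    (h1 : a ≫ (restrOpen G W hW).t = b ≫ (restrOpen G W hW).t)
    (h2 : a ≫ (restrOpen G W hW).s = b ≫ (restrOpen G W hW).s) : a = b := by
  have h1' : a ≫ tW G W hW = b ≫ tW G W hW := h1
  have h2' : a ≫ G.s ∣_ W = b ≫ G.s ∣_ W := h2
  have e : a ≫ (G.s ⁻¹ᵁ W).ι = b ≫ (G.s ⁻¹ᵁ W).ι := by
    apply hinj
    · rw [Category.assoc, Category.assoc, ← tW_ι G W hW, ← Category.assoc, ← Category.assoc, h1']
    · rw [Category.assoc, Category.assoc, ← morphismRestrict_ι, ← Category.assoc,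
        ← Category.assoc, h2']
  exact (cancel_mono (G.s ⁻¹ᵁ W).ι).1 e

/-- The inclusion `W ⟶ U` over `S`. -/
noncomputable abbrev gO : UO (restrOpen G W hW) ⟶ UO G := Over.homMk W.ι rfl

/-- The inclusion `s⁻¹ W ⟶ R` over `S`. -/
noncomputable abbrev rO : RO (restrOpen G W hW) ⟶ RO G := Over.homMk (G.s ⁻¹ᵁ W).ι rfl

instance mono_gO : Mono (gO G W hW) :=
  (Over.forget S).mono_of_mono_map (inferInstanceAs (Mono W.ι))

instance mono_rO : Mono (rO G W hW) :=
  (Over.forget S).mono_of_mono_map (inferInstanceAs (Mono (G.s ⁻¹ᵁ W).ι))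

theorem sO_gO : sO (restrOpen G W hW) ≫ gO G W hW = rO G W hW ≫ sO G := by
  ext
  exact morphismRestrict_ι G.s W

theorem tO_gO : tO (restrOpen G W hW) ≫ gO G W hW = rO G W hW ≫ tO G := by
  ext
  exact tW_ι G W hW

theorem hfac (T : Over S) (b : T ⟶ RO G) (a₁ a₂ : T ⟶ UO (restrOpen G W hW))
    (h1 : a₁ ≫ gO G W hW = b ≫ tO G) (h2 : a₂ ≫ gO G W hW = b ≫ sO G) :
    ∃ r' : T ⟶ RO (restrOpen G W hW), r' ≫ rO G W hW = b := by
  have h2' : a₂.left ≫ W.ι = b.left ≫ G.s := congrArg (fun k => k.left) h2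
  have hb : b.left ≫ G.pR = T.hom := Over.w b
  refine ⟨Over.homMk ((sqW G W).lift a₂.left b.left h2') ?_, ?_⟩
  · show (sqW G W).lift a₂.left b.left h2' ≫ (G.s ⁻¹ᵁ W).ι ≫ G.pR = T.hom
    rw [← Category.assoc, (sqW G W).lift_snd, hb]
  · ext
    exact (sqW G W).lift_snd _ _ _

theorem hsq : IsPullback (prod.lift (tO (restrOpen G W hW)) (sO (restrOpen G W hW))) (rO G W hW)
    (prod.map (gO G W hW) (gO G W hW)) (prod.lift (tO G) (sO G)) :=
  isPullback_prod_of_mono (sO G) (tO G) (gO G W hW) _ _ (rO G W hW) (sO_gO G W hW) (tO_gO G W hW)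
    (hfac G W hW)

end props

local notation "repIso" => QuotSh.repIsoUliftYoneda Scheme.fppfPrecoverage

/-- A scheme quotient is isomorphic to the quotient sheaf, compatibly with the projections. -/
theorem exists_iso_of_isQuotient {R' U' M : Over S} (s' t' : R' ⟶ U') (q : U' ⟶ M)
    (hq : QuotSh.IsQuotient Scheme.fppfPrecoverage s' t' q) :
    ∃ ε : (yon S).obj M ≅ QuotSh.quot Scheme.fppfPrecoverage s' t',
      (yon S).map q ≫ ε.hom = quotP s' t' := by
  obtain ⟨w, hiso⟩ := hq
  haveI := hiso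
  have hπ : QuotSh.quotπ Scheme.fppfPrecoverage s' t' ≫ QuotSh.quotDesc Scheme.fppfPrecoverage q w =
      QuotSh.repMap Scheme.fppfPrecoverage q := by
    unfold QuotSh.quotπ QuotSh.quotDesc
    exact coequalizer.π_desc _ _
  refine ⟨(repIso M).symm ≪≫ (asIso (QuotSh.quotDesc Scheme.fppfPrecoverage q w)).symm, ?_⟩
  show (yon S).map q ≫ (repIso M).inv ≫ inv (QuotSh.quotDesc Scheme.fppfPrecoverage q w) = _
  rw [← Category.assoc, yon_map_comp_repIso_inv, Category.assoc, ← hπ, Category.assoc,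
    IsIso.hom_inv_id, Category.comp_id]
  rfl

/-- The chart of the quotient sheaf given by an invariant affine open. -/
theorem exists_chart (hs : Mor2.IsFinLocFree G.s) (ht : Mor2.IsFinLocFree G.t)
    (heq : IsEqvRel (sO G) (tO G)) (W : G.U.Opens) (hWa : IsAffineOpen W)
    (hW : G.s ⁻¹ᵁ W = G.t ⁻¹ᵁ W) :
    ∃ (M : Over S) (q : Over.mk (W.ι ≫ G.pU) ⟶ M)
      (f : (yon S).obj M ⟶ QuotSh.quot Scheme.fppfPrecoverage (sO G) (tO G)),
      Mor2.IsFinLocFree q.left ∧ Epi ((yon S).map q) ∧ RepWith @IsOpenImmersion f ∧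
      (yon S).map q ≫ f =
        (yon S).map (Over.homMk W.ι rfl : Over.mk (W.ι ≫ G.pU) ⟶ UO G) ≫ quotP (sO G) (tO G) := by
  obtain ⟨hs1, hs2, hs3⟩ := hs
  obtain ⟨ht1, ht2, ht3⟩ := ht
  haveI := hs1
  haveI := hs2
  haveI := hs3
  haveI := ht1
  haveI := ht2
  haveI := ht3
  haveI : IsAffine (restrOpen G W hW).U := hWa
  haveI : IsAffine (restrOpen G W hW).R := (hWa.preimage G.s : IsAffineOpen (G.s ⁻¹ᵁ W))
  haveI : IsFinite (restrOpen G W hW).s := prop_s G W hW @IsFinite hs1
  haveI : Flat (restrOpen G W hW).s := prop_s G W hW @Flat hs2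
  haveI : LocallyOfFinitePresentation (restrOpen G W hW).s :=
    prop_s G W hW @LocallyOfFinitePresentation hs3
  haveI : Mono (restrOpen G W hW).j :=
    mono_j_of_inj _ (fun a b h1 h2 => inj_restr G W hW (fun a b => inj_of_isEqvRel G heq a b) a b h1 h2)
  obtain ⟨⟨hf1, hf2, hf3⟩, -⟩ := Groth.Agent.Lib.GrpdQuotH6.main1877 (restrOpen G W hW)
  obtain ⟨m, ⟨h, hq⟩, -⟩ := Groth.Agent.Lib.GrpdQuotH6.main7488 (restrOpen G W hW)
  obtain ⟨ε, hε⟩ := exists_iso_of_isQuotient _ _ _ hq
  have hk : (yon S).map (sO (restrOpen G W hW)) ≫ (yon S).map (gO G W hW) ≫ quotP (sO G) (tO G) =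
      (yon S).map (tO (restrOpen G W hW)) ≫ (yon S).map (gO G W hW) ≫ quotP (sO G) (tO G) := by
    rw [← Category.assoc, ← Functor.map_comp, sO_gO, Functor.map_comp, Category.assoc,
      quotP_condition, ← Category.assoc, ← Functor.map_comp, ← tO_gO, Functor.map_comp,
      Category.assoc]
  obtain ⟨φ, hφ'⟩ := quotP_desc (sO (restrOpen G W hW)) (tO (restrOpen G W hW))
    ((yon S).map (gO G W hW) ≫ quotP (sO G) (tO G)) hk
  have hφ : QuotSh.quotπ Scheme.fppfPrecoverage (sO (restrOpen G W hW)) (tO (restrOpen G W hW)) ≫ φ =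
      QuotSh.repMap Scheme.fppfPrecoverage (gO G W hW) ≫
        QuotSh.quotπ Scheme.fppfPrecoverage (sO G) (tO G) := by
    rw [← cancel_epi (repIso (UO (restrOpen G W hW))).inv]
    have e1 : (repIso (UO (restrOpen G W hW))).inv ≫
        QuotSh.quotπ Scheme.fppfPrecoverage (sO (restrOpen G W hW)) (tO (restrOpen G W hW)) ≫ φ =
        quotP (sO (restrOpen G W hW)) (tO (restrOpen G W hW)) ≫ φ := by
      unfold quotP
      rw [Category.assoc]
    rw [e1, hφ']
    unfold quotP
    rw [← Category.assoc, yon_map_comp_repIso_inv, Category.assoc]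
  haveI : Surjective (sO G).left := inferInstanceAs (Surjective G.s)
  haveI : Flat (sO G).left := inferInstanceAs (Flat G.s)
  haveI : LocallyOfFinitePresentation (sO G).left :=
    inferInstanceAs (LocallyOfFinitePresentation G.s)
  haveI : Surjective (tO G).left := inferInstanceAs (Surjective G.t)
  haveI : Flat (tO G).left := inferInstanceAs (Flat G.t)
  haveI : LocallyOfFinitePresentation (tO G).left :=
    inferInstanceAs (LocallyOfFinitePresentation G.t)
  haveI : Flat (gO G W hW).left := inferInstanceAs (Flat W.ι)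
  haveI : LocallyOfFinitePresentation (gO G W hW).left :=
    inferInstanceAs (LocallyOfFinitePresentation W.ι)
  have hopen : RepWith @IsOpenImmersion φ :=
    Groth.Agent.S9870.result S (sO G) (tO G) (gO G W hW) (sO (restrOpen G W hW))
      (tO (restrOpen G W hW)) (rO G W hW) (hsq G W hW) heq φ hφ
  refine ⟨Over.mk m, Over.homMk (restrOpen G W hW).toQuot h, ε.hom ≫ φ, ⟨hf1, hf2, hf3⟩, ?_,
    repWith_comp @IsOpenImmersion
      (Groth.Agent.Lib.AlgSpBasic_helper7.repWith_of_isIso @IsOpenImmersion ε.hom) hopen, ?_⟩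
  · have e2 : (yon S).map (Over.homMk (restrOpen G W hW).toQuot h :
        UO (restrOpen G W hW) ⟶ Over.mk m) =
        quotP (sO (restrOpen G W hW)) (tO (restrOpen G W hW)) ≫ ε.inv := by
      rw [← hε, Category.assoc, Iso.hom_inv_id, Category.comp_id]
    haveI : Epi (quotP (sO (restrOpen G W hW)) (tO (restrOpen G W hW))) :=
      (Sheaf.isLocallySurjective_iff_epi _).1 (isLocallySurjective_quotP _ _)
    show Epi ((yon S).map (Over.homMk (restrOpen G W hW).toQuot h :
        UO (restrOpen G W hW) ⟶ Over.mk m))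
    rw [e2]
    exact epi_comp _ _
  · rw [← Category.assoc]
    erw [hε]
    exact hφ'

end Groth.Agent.Lib.GrpdRestr2H7
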