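import Mathlib
import Groth.Prelude.Def_Grpd
import Groth.Agent.Lib.GrpdDim1B_helper7
import Groth.Agent.Lib.GrpdRestr2_helper7
import Groth.Agent.Lib.AffDim1C_helper7

/-!
# Invariant affine opens around orbits of points of dimension `≤ 1` (helper7)
-/

set_option backward.isDefEq.respectTransparency false
set_option backward.isDefEq.respectTransparency.types false
set_option linter.style.haveILetI false
set_option linter.unusedSectionVars false
set_option linter.unusedVariables false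
set_option autoImplicit false
set_option maxHeartbeats 1600000

universe u

open CategoryTheory CategoryTheory.Limits AlgebraicGeometry TopologicalSpace

namespace Groth.Agent.Lib.GrpdDim1H7

open Groth.Agent.Lib.GrpdInvOpenH6 Groth.Agent.Lib.GrpdRestrH7

theorem finite_irreducibleComponents_of_isCompact {X : Scheme.{u}} [IsLocallyNoetherian X]
    (U : X.Opens) (hU : IsCompact (U : Set X)) :
    (irreducibleComponents (U : Set X)).Finite := by
  haveI : CompactSpace U.toScheme := isCompact_iff_compactSpace.mp hU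
  haveI : IsNoetherian U.toScheme := ⟨⟩
  haveI : NoetherianSpace U.toScheme := inferInstance
  exact NoetherianSpace.finite_irreducibleComponents (α := U.toScheme)

variable {S : Scheme.{u}} (G : Grpd.GroupoidScheme S) [IsFinite G.s] [IsFinite G.t]
  [G.U.IsSeparated] [IsLocallyNoetherian G.U]

theorem main1884 (u : G.U)
    (hdim : ∀ r : G.R, G.s r = u → ringKrullDim (G.U.presheaf.stalk (G.t r)) ≤ 1) :
    ∃ W : G.U.Opens, IsAffineOpen W ∧ u ∈ W ∧ G.s ⁻¹ᵁ W = G.t ⁻¹ᵁ W := by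
  classical
  have hEfin : (Orb G u).Finite := Orb_finite G u
  obtain ⟨U', hU', hEU'⟩ := Groth.Agent.Lib.AffDim1H7.main217 G.U
    (fun U hU => finite_irreducibleComponents_of_isCompact U hU) hEfin.toFinset
    (fun x hx => by
      rw [Set.Finite.mem_toFinset] at hx
      obtain ⟨r, hr, rfl⟩ := hx
      exact ⟨inferInstance, hdim r hr⟩)
  have hEU'' : ∀ x ∈ Orb G u, x ∈ U' := fun x hx => hEU' x (hEfin.mem_toFinset.mpr hx)
  -- the largest invariant open in `U'`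
  obtain ⟨U₂, hU₂⟩ : ∃ U₂ : G.U.Opens, (U₂ : Set G.U) = orbIn G (U' : Set G.U) :=
    ⟨⟨orbIn G (U' : Set G.U), isOpen_orbIn G U'.2⟩, rfl⟩
  have hU₂U' : U₂ ≤ U' := by
    intro x hx
    have : x ∈ orbIn G (U' : Set G.U) := by rw [← hU₂]; exact hx
    exact orbIn_subset G _ this
  have hU₂inv : G.s ⁻¹ᵁ U₂ = G.t ⁻¹ᵁ U₂ := by
    apply Opens.ext
    show ⇑G.s ⁻¹' (U₂ : Set G.U) = ⇑G.t ⁻¹' (U₂ : Set G.U)
    rw [hU₂]
    exact preimage_orbIn G _
  have huU₂ : u ∈ U₂ := by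
    show u ∈ (U₂ : Set G.U)
    rw [hU₂]
    intro r hr
    exact hEU'' _ ⟨r, hr, rfl⟩
  -- the restricted groupoid
  obtain ⟨G', hG'⟩ : ∃ G' : Grpd.GroupoidScheme S, G' = restrOpen G U₂ hU₂inv := ⟨_, rfl⟩
  haveI hfs : IsFinite (restrOpen G U₂ hU₂inv).s := Groth.Agent.Lib.GrpdRestr2H7.prop_s G U₂ hU₂inv @IsFinite inferInstance
  haveI hft : IsFinite (restrOpen G U₂ hU₂inv).t := Groth.Agent.Lib.GrpdRestr2H7.prop_t G U₂ hU₂inv @IsFinite inferInstance
  haveI : IsLocallyNoetherian (restrOpen G U₂ hU₂inv).U :=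
    inferInstanceAs (IsLocallyNoetherian U₂.toScheme)
  -- the immersion into an affine scheme
  obtain ⟨j, hj⟩ : ∃ j : U₂.toScheme ⟶ Spec (CommRingCat.of Γ(G.U, U')),
      j = G.U.homOfLE hU₂U' ≫ hU'.isoSpec.hom := ⟨_, rfl⟩
  haveI : IsOpenImmersion j := by rw [hj]; infer_instance
  obtain ⟨I, hI⟩ : ∃ I : Ideal Γ(G.U, U'),
      I = PrimeSpectrum.vanishingIdeal ((Set.range j)ᶜ : Set (PrimeSpectrum Γ(G.U, U'))) :=
    ⟨_, rfl⟩
  have hzI : PrimeSpectrum.zeroLocus (I : Set Γ(G.U, U')) = (Set.range j)ᶜ := by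
    rw [hI, PrimeSpectrum.zeroLocus_vanishingIdeal_eq_closure]
    exact (j.isOpenEmbedding.isOpen_range.isClosed_compl).closure_eq
  have hjI : ∀ x : U₂.toScheme, j x ∉ PrimeSpectrum.zeroLocus (I : Set Γ(G.U, U')) := by
    intro x hx
    rw [hzI] at hx
    exact hx ⟨x, rfl⟩
  have hjcl : IsClosed (PrimeSpectrum.zeroLocus (I : Set Γ(G.U, U')) ∪ Set.range j) := by
    rw [hzI, Set.compl_union_self]
    exact isClosed_univ
  -- the point and the dimension hypothesis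
  obtain ⟨u', hu'⟩ : ∃ u' : U₂.toScheme, U₂.ι u' = u := by
    have : u ∈ Set.range U₂.ι := by rw [Scheme.Opens.range_ι]; exact huU₂
    exact this
  have hs_ι : ∀ r' : (G.s ⁻¹ᵁ U₂).toScheme,
      U₂.ι ((restrOpen G U₂ hU₂inv).s r') = G.s ((G.s ⁻¹ᵁ U₂).ι r') := by
    intro r'
    show U₂.ι ((G.s ∣_ U₂) r') = _
    rw [← Scheme.Hom.comp_apply, morphismRestrict_ι, Scheme.Hom.comp_apply]
  have ht_ι : ∀ r' : (G.s ⁻¹ᵁ U₂).toScheme,
      U₂.ι ((restrOpen G U₂ hU₂inv).t r') = G.t ((G.s ⁻¹ᵁ U₂).ι r') := by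
    intro r'
    show U₂.ι ((tW G U₂ hU₂inv) r') = _
    rw [← Scheme.Hom.comp_apply, tW_ι, Scheme.Hom.comp_apply]
  have hdim' : ∀ r' : (restrOpen G U₂ hU₂inv).R, (restrOpen G U₂ hU₂inv).s r' = u' →
      ringKrullDim ((restrOpen G U₂ hU₂inv).U.presheaf.stalk ((restrOpen G U₂ hU₂inv).t r')) ≤ 1 := by
    intro r' hr'
    have h1 : G.s ((G.s ⁻¹ᵁ U₂).ι r') = u := by
      rw [← hs_ι, hr', hu']
    have h2 := hdim _ h1
    rw [← ht_ι] at h2
    have hsurj : Function.Surjective (U₂.ι.stalkMap ((restrOpen G U₂ hU₂inv).t r')).hom :=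
      (ConcreteCategory.bijective_of_isIso (U₂.ι.stalkMap ((restrOpen G U₂ hU₂inv).t r'))).2
    exact (ringKrullDim_le_of_surjective _ hsurj).trans h2
  obtain ⟨W', hW'aff, hu'W', hW'inv⟩ := exists_invariant_affine_of_immersion
    (restrOpen G U₂ hU₂inv) Γ(G.U, U') j I hjI hjcl u' hdim'
  have hinj : Function.Injective U₂.ι := U₂.ι.isOpenEmbedding.injective
  have hmemW : ∀ y : U₂.toScheme, U₂.ι y ∈ U₂.ι ''ᵁ W' ↔ y ∈ W' := by
    intro y
    constructor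
    · rintro ⟨y', hy', hyy'⟩
      rw [← hinj hyy']; exact hy'
    · intro hy
      exact ⟨y, hy, rfl⟩
  have hW'inv' : ∀ r' : (G.s ⁻¹ᵁ U₂).toScheme,
      (restrOpen G U₂ hU₂inv).s r' ∈ W' ↔ (restrOpen G U₂ hU₂inv).t r' ∈ W' := by
    intro r'
    have h1 : r' ∈ (restrOpen G U₂ hU₂inv).s ⁻¹ᵁ W' ↔ r' ∈ (restrOpen G U₂ hU₂inv).t ⁻¹ᵁ W' := by
      rw [hW'inv]
    exact h1
  have hleU₂ : U₂.ι ''ᵁ W' ≤ U₂ := by
    rintro _ ⟨y, -, rfl⟩
    have : U₂.ι y ∈ Set.range U₂.ι := ⟨y, rfl⟩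
    rw [Scheme.Opens.range_ι] at this
    exact this
  have hliftR : ∀ r : G.R, G.s r ∈ U₂ → ∃ r' : (G.s ⁻¹ᵁ U₂).toScheme, (G.s ⁻¹ᵁ U₂).ι r' = r := by
    intro r hr
    have : r ∈ Set.range (G.s ⁻¹ᵁ U₂).ι := by rw [Scheme.Opens.range_ι]; exact hr
    exact this
  refine ⟨U₂.ι ''ᵁ W', hW'aff.image_of_isOpenImmersion U₂.ι, ?_, ?_⟩
  · rw [← hu', hmemW]
    exact hu'W'
  · apply Opens.ext
    ext r
    show G.s r ∈ U₂.ι ''ᵁ W' ↔ G.t r ∈ U₂.ι ''ᵁ W'
    constructor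
    · intro h
      obtain ⟨r', rfl⟩ := hliftR r (hleU₂ h)
      rw [← hs_ι, hmemW] at h
      rw [← ht_ι, hmemW]
      exact (hW'inv' r').mp h
    · intro h
      have h1 : r ∈ G.t ⁻¹ᵁ U₂ := hleU₂ h
      rw [← hU₂inv] at h1
      obtain ⟨r', rfl⟩ := hliftR r h1
      rw [← ht_ι, hmemW] at h
      rw [← hs_ι, hmemW]
      exact (hW'inv' r').mpr h

end Groth.Agent.Lib.GrpdDim1H7
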