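import Mathlib
import Groth.Prelude.Def_Grpd
import Groth.Prelude.Def_Flat
import Groth.Agent.Lib.LocDimProd2_helper8

/-! Groupoid schemes over a field point are equidimensional. -/

universe u
set_option linter.unusedSimpArgs false
open AlgebraicGeometry CategoryTheory CategoryTheory.Limits

namespace GrpdDimH8

variable {S : Scheme.{u}} (G : Grpd.GroupoidScheme S)

/-- `(a, b) ↦ a ∘ b` as a map on the fibre product (it is `G.c`, written via a lift). -/
theorem lift_fst_snd_c :
    pullback.lift (pullback.fst G.s G.t) (pullback.snd G.s G.t) pullback.condition ≫ G.c = G.c := by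
  have : pullback.lift (pullback.fst G.s G.t) (pullback.snd G.s G.t) pullback.condition =
      𝟙 _ := by
    apply pullback.hom_ext <;> simp only [pullback.lift_fst, pullback.lift_snd, pullback.lift_fst_assoc, pullback.lift_snd_assoc, Category.assoc, Category.id_comp, Category.comp_id]
  rw [this, Category.id_comp]

theorem c_t : G.c ≫ G.t = pullback.fst G.s G.t ≫ G.t := by
  have := G.comp_t (pullback.fst G.s G.t) (pullback.snd G.s G.t) pullback.condition
  rwa [lift_fst_snd_c] at this

/-- shear `(a, b) ↦ (a, a ∘ b)`. -/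
noncomputable def shear : pullback G.s G.t ⟶ pullback G.t G.t :=
  pullback.lift (pullback.fst G.s G.t) G.c (c_t G).symm

theorem inv_cond : (pullback.fst G.t G.t ≫ G.i) ≫ G.s = pullback.snd G.t G.t ≫ G.t := by
  rw [Category.assoc, G.i_s, pullback.condition]

/-- `(a, d) ↦ a⁻¹ ∘ d`. -/
noncomputable def invComp : pullback G.t G.t ⟶ G.R :=
  pullback.lift (pullback.fst G.t G.t ≫ G.i) (pullback.snd G.t G.t) (inv_cond G) ≫ G.c

theorem invComp_t : invComp G ≫ G.t = pullback.fst G.t G.t ≫ G.s := by
  unfold invComp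
  rw [G.comp_t, Category.assoc, G.i_t]

/-- inverse shear `(a, d) ↦ (a, a⁻¹ ∘ d)`. -/
noncomputable def shearInv : pullback G.t G.t ⟶ pullback G.s G.t :=
  pullback.lift (pullback.fst G.t G.t) (invComp G) (invComp_t G).symm

theorem shear_shearInv : shear G ≫ shearInv G = 𝟙 _ := by
  apply pullback.hom_ext
  · unfold shear shearInv
    simp only [pullback.lift_fst, pullback.lift_snd, pullback.lift_fst_assoc, pullback.lift_snd_assoc, Category.assoc, Category.id_comp, Category.comp_id]
  · unfold shear shearInv
    simp only [pullback.lift_fst, pullback.lift_snd, pullback.lift_fst_assoc, pullback.lift_snd_assoc, Category.assoc, Category.id_comp, Category.comp_id]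
    unfold invComp
    set a₀ := pullback.fst G.s G.t with ha₀
    set b₀ := pullback.snd G.s G.t with hb₀
    have cond : a₀ ≫ G.s = b₀ ≫ G.t := pullback.condition
    have h₁ : (a₀ ≫ G.i) ≫ G.s = a₀ ≫ G.t := by rw [Category.assoc, G.i_s]
    have A := G.assoc (a₀ ≫ G.i) a₀ b₀ h₁ cond
    have B := G.i_comp a₀
    have E := G.e_comp b₀
    have hc : pullback.lift a₀ b₀ cond ≫ G.c = G.c := lift_fst_snd_c G
    have step1 : pullback.lift a₀ G.c (c_t G).symm ≫
        pullback.lift (pullback.fst G.t G.t ≫ G.i) (pullback.snd G.t G.t) (inv_cond G) =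
        pullback.lift (a₀ ≫ G.i) (pullback.lift a₀ b₀ cond ≫ G.c)
          (h₁.trans (G.comp_t a₀ b₀ cond).symm) := by
      apply pullback.hom_ext
      · simp only [pullback.lift_fst, pullback.lift_snd, pullback.lift_fst_assoc, pullback.lift_snd_assoc, Category.assoc, Category.id_comp, Category.comp_id]
      · simp only [pullback.lift_fst, pullback.lift_snd, pullback.lift_fst_assoc, pullback.lift_snd_assoc, Category.assoc, Category.id_comp, Category.comp_id]
        rw [hc]
    rw [← Category.assoc, step1, ← A]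
    have step2 : pullback.lift (pullback.lift (a₀ ≫ G.i) a₀ h₁ ≫ G.c) b₀
        ((G.comp_s (a₀ ≫ G.i) a₀ h₁).trans cond) =
        pullback.lift (b₀ ≫ G.t ≫ G.e) b₀
          (by rw [Category.assoc, Category.assoc, G.e_s, Category.comp_id]) := by
      apply pullback.hom_ext
      · rw [pullback.lift_fst, pullback.lift_fst, B, ← Category.assoc, cond, Category.assoc]
      · simp only [pullback.lift_fst, pullback.lift_snd, pullback.lift_fst_assoc, pullback.lift_snd_assoc, Category.assoc, Category.id_comp, Category.comp_id]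
    rw [step2, E]

theorem shearInv_shear : shearInv G ≫ shear G = 𝟙 _ := by
  apply pullback.hom_ext
  · unfold shear shearInv
    simp only [pullback.lift_fst, pullback.lift_snd, pullback.lift_fst_assoc, pullback.lift_snd_assoc, Category.assoc, Category.id_comp, Category.comp_id]
  · unfold shear shearInv
    simp only [pullback.lift_fst, pullback.lift_snd, pullback.lift_fst_assoc, pullback.lift_snd_assoc, Category.assoc, Category.id_comp, Category.comp_id]
    set a₁ := pullback.fst G.t G.t with ha₁
    set d₁ := pullback.snd G.t G.t with hd₁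
    have cond : a₁ ≫ G.t = d₁ ≫ G.t := pullback.condition
    have h₁ : a₁ ≫ G.s = (a₁ ≫ G.i) ≫ G.t := by rw [Category.assoc, G.i_t]
    have h₂ : (a₁ ≫ G.i) ≫ G.s = d₁ ≫ G.t := inv_cond G
    have A := G.assoc a₁ (a₁ ≫ G.i) d₁ h₁ h₂
    have B := G.comp_i a₁
    have E := G.e_comp d₁
    have step1 : pullback.lift a₁ (invComp G) (invComp_t G).symm ≫ G.c =
        pullback.lift a₁ (pullback.lift (a₁ ≫ G.i) d₁ h₂ ≫ G.c)
          (h₁.trans (G.comp_t (a₁ ≫ G.i) d₁ h₂).symm) ≫ G.c := rfl
    rw [step1, ← A]
    have step2 : pullback.lift (pullback.lift a₁ (a₁ ≫ G.i) h₁ ≫ G.c) d₁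
        ((G.comp_s a₁ (a₁ ≫ G.i) h₁).trans h₂) =
        pullback.lift (d₁ ≫ G.t ≫ G.e) d₁
          (by rw [Category.assoc, Category.assoc, G.e_s, Category.comp_id]) := by
      apply pullback.hom_ext
      · rw [pullback.lift_fst, pullback.lift_fst, B, ← Category.assoc, cond, Category.assoc]
      · simp only [pullback.lift_fst, pullback.lift_snd, pullback.lift_fst_assoc, pullback.lift_snd_assoc, Category.assoc, Category.id_comp, Category.comp_id]
    rw [step2, E]

noncomputable def shearIso : pullback G.s G.t ≅ pullback G.t G.t where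
  hom := shear G
  inv := shearInv G
  hom_inv_id := shear_shearInv G
  inv_hom_id := shearInv_shear G

/-- `r ↦ (r, e (s r))`. -/
noncomputable def unitRight : G.R ⟶ pullback G.s G.t :=
  pullback.lift (𝟙 G.R) (G.s ≫ G.e) (by rw [Category.assoc, G.e_t, Category.comp_id, Category.id_comp])

theorem unitRight_shear_snd : unitRight G ≫ shear G ≫ pullback.snd G.t G.t = 𝟙 G.R := by
  unfold shear
  rw [pullback.lift_snd]
  have := G.comp_e (𝟙 G.R)
  simp only [Category.id_comp] at this
  exact this

end GrpdDimH8

namespace GrpdDimH8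

variable {S : Scheme.{u}} (G : Grpd.GroupoidScheme S)

theorem localDim_eq_unit (k : Type u) [Field k] (eU : G.U ≅ Spec (CommRingCat.of k))
    [LocallyOfFiniteType G.s] [LocallyOfFiniteType G.t] (r : G.R) :
    FlatMor.localDim ↥G.R r = FlatMor.localDim ↥G.R (G.e (G.s r)) := by
  set f := G.s ≫ eU.hom with hf
  set g := G.t ≫ eU.hom with hg
  have sq1 : IsPullback (pullback.fst G.s G.t) (pullback.snd G.s G.t) f g :=
    IsPullback.of_isLimit (pullbackIsPullbackOfCompMono G.s G.t eU.hom)
  have sq2 : IsPullback (pullback.fst G.t G.t) (pullback.snd G.t G.t) g g :=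
    IsPullback.of_isLimit (pullbackIsPullbackOfCompMono G.t G.t eU.hom)
  set z := (unitRight G) r with hz
  have hpz : (pullback.fst G.s G.t) z = r := by
    have h1 : unitRight G ≫ pullback.fst G.s G.t = 𝟙 G.R := pullback.lift_fst _ _ _
    rw [hz, ← Scheme.Hom.comp_apply, h1]; rfl
  have hqz : (pullback.snd G.s G.t) z = G.e (G.s r) := by
    have h1 : unitRight G ≫ pullback.snd G.s G.t = G.s ≫ G.e := pullback.lift_snd _ _ _
    rw [hz, ← Scheme.Hom.comp_apply, h1]; rfl
  have hpσ : (pullback.fst G.t G.t) ((shear G) z) = r := by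
    have h1 : shear G ≫ pullback.fst G.t G.t = pullback.fst G.s G.t := pullback.lift_fst _ _ _
    rw [← Scheme.Hom.comp_apply, h1, hpz]
  have hqσ : (pullback.snd G.t G.t) ((shear G) z) = r := by
    have h1 := unitRight_shear_snd G
    rw [hz, ← Scheme.Hom.comp_apply, ← Scheme.Hom.comp_apply, h1]; rfl
  have hhomeo : FlatMor.localDim ↥(pullback G.t G.t) ((shear G) z) =
      FlatMor.localDim ↥(pullback G.s G.t) z :=
    Groth.Agent.FibLocH8.localDim_homeomorph (Scheme.homeoOfIso (shearIso G)) z
  rw [LocDimProdH8.localDim_of_isPullback k sq1 z,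
    LocDimProdH8.localDim_of_isPullback k sq2 ((shear G) z), hpz, hqz, hpσ, hqσ] at hhomeo
  obtain ⟨n, hn⟩ := LocDimProdH8.exists_localDim_nat k G.R f r
  obtain ⟨n', hn'⟩ := LocDimProdH8.exists_localDim_nat k G.R f (G.e (G.s r))
  rw [hn, hn'] at hhomeo ⊢
  have h3 : n + n = n + n' := by exact_mod_cast hhomeo
  have h4 : n = n' := by omega
  rw [h4]

theorem localDim_const (k : Type u) [Field k] (eU : G.U ≅ Spec (CommRingCat.of k))
    [LocallyOfFiniteType G.s] [LocallyOfFiniteType G.t] (r r' : G.R) :
    FlatMor.localDim ↥G.R r = FlatMor.localDim ↥G.R r' := by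
  rw [localDim_eq_unit G k eU r, localDim_eq_unit G k eU r']
  have : G.s r = G.s r' := by
    apply (Scheme.homeoOfIso eU).injective
    exact Subsingleton.elim (α := ↥(Spec (CommRingCat.of k))) _ _
  rw [this]

end GrpdDimH8
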