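import Mathlib
import Groth.Prelude.Def_Grpd

set_option autoImplicit false
universe u
open CategoryTheory CategoryTheory.Limits AlgebraicGeometry

namespace Groth.Agent.Lib.GrpdEquivRelH4

theorem mono_of_points {R P : Scheme.{u}} (j : R ⟶ P) [FormallyUnramified j]
    [LocallyOfFiniteType j]
    (h : ∀ (k : Type u) [Field k] [IsAlgClosed k],
      Function.Injective (fun r : Spec (CommRingCat.of k) ⟶ R => r ≫ j)) : Mono j := by
  rw [← pullback.isIso_diagonal_iff]
  haveI : Epi (pullback.diagonal j).base := by
    rw [TopCat.epi_iff_surjective]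
    intro z
    have h1 : (Spec.map (CommRingCat.ofHom (algebraMap ((pullback j j).residueField z)
          (AlgebraicClosure ((pullback j j).residueField z)))) ≫
          (pullback j j).fromSpecResidueField z) ≫ pullback.fst j j =
        (Spec.map (CommRingCat.ofHom (algebraMap ((pullback j j).residueField z)
          (AlgebraicClosure ((pullback j j).residueField z)))) ≫
          (pullback j j).fromSpecResidueField z) ≫ pullback.snd j j :=
      h (AlgebraicClosure ((pullback j j).residueField z))
        (by simp only [Category.assoc, pullback.condition])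
    have h2 : Spec.map (CommRingCat.ofHom (algebraMap ((pullback j j).residueField z)
          (AlgebraicClosure ((pullback j j).residueField z)))) ≫
          (pullback j j).fromSpecResidueField z =
        ((Spec.map (CommRingCat.ofHom (algebraMap ((pullback j j).residueField z)
          (AlgebraicClosure ((pullback j j).residueField z)))) ≫
          (pullback j j).fromSpecResidueField z) ≫ pullback.fst j j) ≫ pullback.diagonal j := by
      apply pullback.hom_ext
      · exact ((Category.assoc _ _ _).trans
          (by rw [pullback.diagonal_fst, Category.comp_id])).symm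
      · exact ((Category.assoc _ _ _).trans
          (by rw [pullback.diagonal_snd, Category.comp_id, h1])).symm
    let pt : ↥(Spec (CommRingCat.of (AlgebraicClosure ((pullback j j).residueField z)))) :=
      (⟨⊥, Ideal.bot_prime⟩ : PrimeSpectrum (AlgebraicClosure ((pullback j j).residueField z)))
    have h3 : (Spec.map (CommRingCat.ofHom (algebraMap ((pullback j j).residueField z)
          (AlgebraicClosure ((pullback j j).residueField z)))) ≫
          (pullback j j).fromSpecResidueField z) pt = z :=
      (Scheme.Hom.comp_apply _ _ pt).trans (Scheme.fromSpecResidueField_apply z _)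
    refine ⟨((Spec.map (CommRingCat.ofHom (algebraMap ((pullback j j).residueField z)
          (AlgebraicClosure ((pullback j j).residueField z)))) ≫
          (pullback j j).fromSpecResidueField z) ≫ pullback.fst j j) pt, ?_⟩
    refine (Scheme.Hom.comp_apply _ (pullback.diagonal j) pt).symm.trans ?_
    rw [← h2]
    exact h3
  exact IsOpenImmersion.isIso (pullback.diagonal j)

theorem main7514 {S U R : Scheme.{u}} (pU : U ⟶ S) (j : R ⟶ pullback pU pU) [FormallyUnramified (j ≫ pullback.fst pU pU)] [LocallyOfFiniteType (j ≫ pullback.fst pU pU)] [FormallyUnramified (j ≫ pullback.snd pU pU)] [LocallyOfFiniteType (j ≫ pullback.snd pU pU)] (h₂ : ∀ (k : Type u) [Field k] [IsAlgClosed k], Function.Injective (fun r : Spec (CommRingCat.of k) ⟶ R => r ≫ j) ∧ Equivalence (fun a b : Spec (CommRingCat.of k) ⟶ U => ∃ r : Spec (CommRingCat.of k) ⟶ R, r ≫ j ≫ pullback.fst pU pU = a ∧ r ≫ j ≫ pullback.snd pU pU = b)) (e : U ⟶ R) (he : e ≫ j = pullback.lift (𝟙 U) (𝟙 U) rfl) (i : R ⟶ R) (hi : i ≫ j = j ≫ (pullbackSymmetry pU pU).hom) (c :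 pullback (j ≫ pullback.snd pU pU) (j ≫ pullback.fst pU pU) ⟶ R) (hc₁ : c ≫ j ≫ pullback.fst pU pU = pullback.fst (j ≫ pullback.snd pU pU) (j ≫ pullback.fst pU pU) ≫ j ≫ pullback.fst pU pU) (hc₂ : c ≫ j ≫ pullback.snd pU pU = pullback.snd (j ≫ pullback.snd pU pU) (j ≫ pullback.fst pU pU) ≫ j ≫ pullback.snd pU pU) : Mono j ∧ ∀ T : Scheme.{u}, Equivalence (fun a b : T ⟶ U => ∃ r : T ⟶ R, r ≫ j ≫ pullback.fst pU pU = a ∧ r ≫ j ≫ pullback.snd pU pU = b) := by
  haveI : FormallyUnramified j := FormallyUnramified.of_comp j (pullback.fst pU pU)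
  haveI : LocallyOfFiniteType j := locallyOfFiniteType_of_comp j (pullback.fst pU pU)
  refine ⟨mono_of_points j (fun k _ _ => (h₂ k).1), fun T => ?_⟩
  have he1 : e ≫ j ≫ pullback.fst pU pU = 𝟙 U := by
    rw [← Category.assoc, he, pullback.lift_fst]
  have he2 : e ≫ j ≫ pullback.snd pU pU = 𝟙 U := by
    rw [← Category.assoc, he, pullback.lift_snd]
  have hi1 : i ≫ j ≫ pullback.fst pU pU = j ≫ pullback.snd pU pU := by
    rw [← Category.assoc, hi, Category.assoc, pullbackSymmetry_hom_comp_fst]
  have hi2 : i ≫ j ≫ pullback.snd pU pU = j ≫ pullback.fst pU pU := by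
    rw [← Category.assoc, hi, Category.assoc, pullbackSymmetry_hom_comp_snd]
  refine ⟨fun a => ⟨a ≫ e, ?_, ?_⟩, ?_, ?_⟩
  · rw [Category.assoc, he1, Category.comp_id]
  · rw [Category.assoc, he2, Category.comp_id]
  · rintro a b ⟨r, h1, h2⟩
    refine ⟨r ≫ i, ?_, ?_⟩
    · rw [Category.assoc, hi1]; exact h2
    · rw [Category.assoc, hi2]; exact h1
  · rintro a b d ⟨r₁, h1, h2⟩ ⟨r₂, h3, h4⟩
    have w : r₁ ≫ (j ≫ pullback.snd pU pU) = r₂ ≫ (j ≫ pullback.fst pU pU) := h2.trans h3.symm
    refine ⟨pullback.lift r₁ r₂ w ≫ c, ?_, ?_⟩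
    · rw [Category.assoc, hc₁, ← Category.assoc, pullback.lift_fst]; exact h1
    · rw [Category.assoc, hc₂, ← Category.assoc, pullback.lift_snd]; exact h4

end Groth.Agent.Lib.GrpdEquivRelH4
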