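import Mathlib
import Groth.Prelude.Def_Grpd
import Groth.Agent.Lib.GrpdCalc_helper6

set_option autoImplicit false
set_option linter.style.haveILetI false

universe u

open CategoryTheory CategoryTheory.Limits AlgebraicGeometry Grpd
open Groth.Agent.Lib.GrpdCalc

namespace Groth.Agent.Lib.GrpdFibH4

variable {S : Scheme.{u}} (G : GroupoidScheme S)

theorem precomp_comp' {T T' : Scheme.{u}} (g : T' ⟶ T) (a b : T ⟶ G.R)
    (h : a ≫ G.s = b ≫ G.t) :
    g ≫ comp G a b h = comp G (g ≫ a) (g ≫ b)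
      (by rw [Category.assoc, Category.assoc, h]) :=
  precomp_comp G g a b h _

lemma key1 {T' : Scheme.{u}} (x y : T' ⟶ G.R) (hxy : x ≫ G.s = y ≫ G.t)
    (w z : T' ⟶ G.R) (hw : w = comp G x y hxy) (hz : z = y ≫ G.i)
    (h : w ≫ G.s = z ≫ G.t) : comp G w z h = x := by
  subst hw; subst hz; exact comp_inv_comp G x y hxy h

lemma key2 {T' : Scheme.{u}} (x y : T' ⟶ G.R) (hxy : x ≫ G.s = y ≫ G.s)
    (h₁ : x ≫ G.s = (y ≫ G.i) ≫ G.t)
    (w z : T' ⟶ G.R) (hw : w = comp G x (y ≫ G.i) h₁) (hz : z = y)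
    (h : w ≫ G.s = z ≫ G.t) : comp G w z h = x := by
  subst hw; subst hz; exact comp_comp_inv G x _ hxy h₁ h

lemma key3 {T' : Scheme.{u}} (a b : T' ⟶ G.R) (hab : a ≫ G.t = b ≫ G.t)
    (h₁ : (a ≫ G.i) ≫ G.s = b ≫ G.t)
    (w z : T' ⟶ G.R) (hw : w = a) (hz : z = comp G (a ≫ G.i) b h₁)
    (h : w ≫ G.s = z ≫ G.t) : comp G w z h = b := by
  subst hw; subst hz; exact comp_inv_comp_left G _ b hab h₁ h

/-- right translation by `γ : b → a` on the fibres of `s`. -/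
noncomputable def transl {T : Scheme.{u}} (a b : T ⟶ G.U) (γ : T ⟶ G.R) (hγt : γ ≫ G.t = a)
    (hγs : γ ≫ G.s = b) : pullback G.s a ⟶ pullback G.s b :=
  pullback.lift
    (comp G (pullback.fst G.s a) (pullback.snd G.s a ≫ γ)
      (by rw [Category.assoc, hγt]; exact pullback.condition))
    (pullback.snd G.s a)
    (by rw [comp_s', Category.assoc, hγs])

lemma transl_fst {T : Scheme.{u}} (a b : T ⟶ G.U) (γ : T ⟶ G.R) (hγt : γ ≫ G.t = a)
    (hγs : γ ≫ G.s = b) :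
    transl G a b γ hγt hγs ≫ pullback.fst G.s b =
      comp G (pullback.fst G.s a) (pullback.snd G.s a ≫ γ)
        (by rw [Category.assoc, hγt]; exact pullback.condition) :=
  pullback.lift_fst _ _ _

lemma transl_snd {T : Scheme.{u}} (a b : T ⟶ G.U) (γ : T ⟶ G.R) (hγt : γ ≫ G.t = a)
    (hγs : γ ≫ G.s = b) :
    transl G a b γ hγt hγs ≫ pullback.snd G.s b = pullback.snd G.s a :=
  pullback.lift_snd _ _ _

lemma transl_comp_inv {T : Scheme.{u}} (a b : T ⟶ G.U) (γ : T ⟶ G.R) (hγt : γ ≫ G.t = a)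
    (hγs : γ ≫ G.s = b) (hit : (γ ≫ G.i) ≫ G.t = b) (his : (γ ≫ G.i) ≫ G.s = a) :
    transl G a b γ hγt hγs ≫ transl G b a (γ ≫ G.i) hit his = 𝟙 _ := by
  apply pullback.hom_ext
  · rw [Category.assoc, transl_fst, Category.id_comp, precomp_comp']
    exact key1 G (pullback.fst G.s a) (pullback.snd G.s a ≫ γ) _ _ _
      (transl_fst G a b γ hγt hγs)
      (by rw [reassoc_of% (transl_snd G a b γ hγt hγs), Category.assoc]) _
  · rw [Category.assoc, transl_snd, transl_snd, Category.id_comp]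

lemma transl_inv_comp {T : Scheme.{u}} (a b : T ⟶ G.U) (γ : T ⟶ G.R) (hγt : γ ≫ G.t = a)
    (hγs : γ ≫ G.s = b) (hit : (γ ≫ G.i) ≫ G.t = b) (his : (γ ≫ G.i) ≫ G.s = a) :
    transl G b a (γ ≫ G.i) hit his ≫ transl G a b γ hγt hγs = 𝟙 _ := by
  have hxy : pullback.fst G.s b ≫ G.s = (pullback.snd G.s b ≫ γ) ≫ G.s := by
    rw [Category.assoc, hγs]; exact pullback.condition
  have h₁ : pullback.fst G.s b ≫ G.s = ((pullback.snd G.s b ≫ γ) ≫ G.i) ≫ G.t := by
    simp only [Category.assoc]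
    rw [G.i_t, hγs]; exact pullback.condition
  apply pullback.hom_ext
  · rw [Category.assoc, transl_fst, Category.id_comp, precomp_comp']
    exact key2 G (pullback.fst G.s b) (pullback.snd G.s b ≫ γ) hxy h₁ _ _
      ((transl_fst G b a (γ ≫ G.i) hit his).trans
        (comp_congr G rfl (Category.assoc _ _ _).symm _ _))
      (by rw [reassoc_of% (transl_snd G b a (γ ≫ G.i) hit his)]) _
  · rw [Category.assoc, transl_snd, transl_snd, Category.id_comp]

theorem main_abs (k : Type u) [Field k] (ζ : Spec (CommRingCat.of k) ⟶ pullback G.t G.t)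
    (r r' : G.R) (h1 : pullback.fst G.t G.t (ζ (IsLocalRing.closedPoint k)) = r)
    (h2 : pullback.snd G.t G.t (ζ (IsLocalRing.closedPoint k)) = r') :
    ∃ (a b : Spec (CommRingCat.of k) ⟶ G.U) (φ : pullback G.s a ≅ pullback G.s b)
      (p : ↑(pullback G.s a)),
      a (IsLocalRing.closedPoint k) = G.s r ∧ b (IsLocalRing.closedPoint k) = G.s r' ∧
      φ.hom ≫ pullback.snd G.s b = pullback.snd G.s a ∧ pullback.fst G.s a p = r ∧
      pullback.fst G.s b (φ.hom p) = r' := by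
  let ρ : Spec (CommRingCat.of k) ⟶ G.R := ζ ≫ pullback.fst G.t G.t
  let ρ' : Spec (CommRingCat.of k) ⟶ G.R := ζ ≫ pullback.snd G.t G.t
  have hρ : ρ ≫ G.t = ρ' ≫ G.t := by
    simp only [ρ, ρ', Category.assoc, pullback.condition]
  have hA : (ρ ≫ G.i) ≫ G.s = ρ' ≫ G.t := by rw [Category.assoc, G.i_s]; exact hρ
  let γ : Spec (CommRingCat.of k) ⟶ G.R := comp G (ρ ≫ G.i) ρ' hA
  have hγt : γ ≫ G.t = ρ ≫ G.s := by
    show comp G (ρ ≫ G.i) ρ' hA ≫ G.t = ρ ≫ G.s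
    rw [comp_t', Category.assoc, G.i_t]
  have hγs : γ ≫ G.s = ρ' ≫ G.s := comp_s' G _ _ _
  have hit : (γ ≫ G.i) ≫ G.t = ρ' ≫ G.s := by rw [Category.assoc, G.i_t, hγs]
  have his : (γ ≫ G.i) ≫ G.s = ρ ≫ G.s := by rw [Category.assoc, G.i_s, hγt]
  let φ : pullback G.s (ρ ≫ G.s) ≅ pullback G.s (ρ' ≫ G.s) :=
    { hom := transl G _ _ γ hγt hγs
      inv := transl G _ _ (γ ≫ G.i) hit his
      hom_inv_id := transl_comp_inv G _ _ γ hγt hγs hit his
      inv_hom_id := transl_inv_comp G _ _ γ hγt hγs hit his }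
  let q : Spec (CommRingCat.of k) ⟶ pullback G.s (ρ ≫ G.s) :=
    pullback.lift ρ (𝟙 _) (by rw [Category.id_comp])
  have hq1 : q ≫ pullback.fst G.s (ρ ≫ G.s) = ρ := pullback.lift_fst _ _ _
  have hq2 : q ≫ pullback.snd G.s (ρ ≫ G.s) = 𝟙 _ := pullback.lift_snd _ _ _
  have hq3 : q ≫ φ.hom ≫ pullback.fst G.s (ρ' ≫ G.s) = ρ' := by
    show q ≫ transl G _ _ γ hγt hγs ≫ pullback.fst G.s (ρ' ≫ G.s) = ρ'
    rw [transl_fst, precomp_comp']
    exact key3 G ρ ρ' hρ hA _ _ hq1 (by rw [reassoc_of% hq2]) _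
  have hρc : ρ (IsLocalRing.closedPoint k) = r := by
    rw [← h1]; exact Scheme.Hom.comp_apply _ _ _
  have hρ'c : ρ' (IsLocalRing.closedPoint k) = r' := by
    rw [← h2]; exact Scheme.Hom.comp_apply _ _ _
  refine ⟨ρ ≫ G.s, ρ' ≫ G.s, φ, q (IsLocalRing.closedPoint k), ?_, ?_, ?_, ?_, ?_⟩
  · rw [Scheme.Hom.comp_apply, hρc]
  · rw [Scheme.Hom.comp_apply, hρ'c]
  · exact transl_snd G _ _ γ hγt hγs
  · rw [← Scheme.Hom.comp_apply, hq1, hρc]
  · rw [← Scheme.Hom.comp_apply, ← Scheme.Hom.comp_apply, hq3, hρ'c]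

theorem main7498 (S : Scheme.{u}) (G : Grpd.GroupoidScheme S) (r r' : G.R)
    (h : G.t r = G.t r') :
    ∃ (k : Type u) (_ : Field k) (a b : Spec (CommRingCat.of k) ⟶ G.U)
      (φ : pullback G.s a ≅ pullback G.s b) (p : ↑(pullback G.s a)),
      a (IsLocalRing.closedPoint k) = G.s r ∧ b (IsLocalRing.closedPoint k) = G.s r' ∧
      φ.hom ≫ pullback.snd G.s b = pullback.snd G.s a ∧ pullback.fst G.s a p = r ∧
      pullback.fst G.s b (φ.hom p) = r' := by
  obtain ⟨z, hz1, hz2⟩ := Scheme.Pullback.exists_preimage_pullback r r' h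
  obtain ⟨a, b, φ, p, hh⟩ := main_abs G ((pullback G.t G.t).residueField z)
    ((pullback G.t G.t).fromSpecResidueField z) r r'
    (by rw [Scheme.fromSpecResidueField_apply]; exact hz1)
    (by rw [Scheme.fromSpecResidueField_apply]; exact hz2)
  exact ⟨_, _, a, b, φ, p, hh⟩

end Groth.Agent.Lib.GrpdFibH4
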