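import Mathlib
import Groth.Prelude.Def_Grpd
import Groth.Agent.Lib.GrpIdComp_helper4

set_option autoImplicit false
set_option linter.style.haveILetI false
set_option linter.unusedSectionVars false

universe u

open CategoryTheory CategoryTheory.Limits AlgebraicGeometry

namespace Groth.Agent.Lib.GrpdIdCompH4

open Groth.Agent.Lib.GrpIdCompH4

local notation:max "sm[" k ", " K "]" => Spec.map (CommRingCat.ofHom (algebraMap k K))

/-- Generic form of the argument: if all irreducible components of `X_Ω` through the unique point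
over a rational point `e` coincide, the preimage of an irreducible component through `e` is
irreducible. -/
theorem preimage_irr_gen {k : Type u} [Field k] {X : Scheme.{u}}
    (f : X ⟶ Spec (CommRingCat.of k)) (e : Spec (CommRingCat.of k) ⟶ X) (he : e ≫ f = 𝟙 _)
    (Ω : Type u) [Field Ω] [Algebra k Ω] [Algebra.IsIntegral k Ω]
    (ε : ↥(pullback f sm[k, Ω]))
    (hε : (pullback.fst f sm[k, Ω]) ε = e (IsLocalRing.closedPoint k))
    (hC : ∀ A B : Set ↥(pullback f sm[k, Ω]),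
      A ∈ irreducibleComponents ↥(pullback f sm[k, Ω]) →
      B ∈ irreducibleComponents ↥(pullback f sm[k, Ω]) → ε ∈ A → ε ∈ B → A ⊆ B)
    (T : Set ↥X) (hT : T ∈ irreducibleComponents ↥X)
    (heT : e (IsLocalRing.closedPoint k) ∈ T) :
    IsIrreducible ((pullback.fst f sm[k, Ω]) ⁻¹' T) := by
  have hTcl : IsClosed T := isClosed_of_mem_irreducibleComponents T hT
  obtain ⟨ζ, hζ⟩ := QuasiSober.sober hT.1 hTcl
  haveI := GeomConnPtH4.isIntegralHom_specMap k Ω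
  have hclosed : IsClosedMap (pullback.fst f sm[k, Ω]) := (pullback.fst f sm[k, Ω]).isClosedMap
  haveI := IrrCompImageH4.flat_specMap k Ω
  have hgen : GeneralizingMap (pullback.fst f sm[k, Ω]) :=
    Flat.generalizingMap (pullback.fst f sm[k, Ω])
  haveI := RatPtsH4.surjective_specMap k Ω
  have hsurj : Function.Surjective (pullback.fst f sm[k, Ω]) :=
    (pullback.fst f sm[k, Ω]).surjective
  have hT0 := irreducibleComponent_mem_irreducibleComponents ε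
  have claim1 : ∀ ξ : ↥(pullback f sm[k, Ω]), (pullback.fst f sm[k, Ω]) ξ = ζ →
      closure {ξ} ⊆ irreducibleComponent ε ∧
        T ⊆ (pullback.fst f sm[k, Ω]) '' closure {ξ} := by
    intro ξ hξ
    have hTsub : T ⊆ (pullback.fst f sm[k, Ω]) '' closure {ξ} := by
      rw [← hζ.def]
      refine closure_minimal ?_ (hclosed _ isClosed_closure)
      rw [Set.singleton_subset_iff]
      exact ⟨ξ, subset_closure rfl, hξ⟩
    obtain ⟨w, hw, hwe⟩ := hTsub heT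
    have hwε : w = ε :=
      eq_of_fst_eq_section f e he Ω w ε (IsLocalRing.closedPoint k) hwe hε
    have hεξ : ε ∈ closure {ξ} := hwε ▸ hw
    have hsub : closure {ξ} ⊆ irreducibleComponent ξ :=
      closure_minimal (Set.singleton_subset_iff.2 mem_irreducibleComponent)
        isClosed_irreducibleComponent
    have heq : irreducibleComponent ξ = irreducibleComponent ε := by
      apply Set.Subset.antisymm
      · exact hC _ _ (irreducibleComponent_mem_irreducibleComponents ξ) hT0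
          (hsub hεξ) mem_irreducibleComponent
      · exact hC _ _ hT0 (irreducibleComponent_mem_irreducibleComponents ξ)
          mem_irreducibleComponent (hsub hεξ)
    exact ⟨heq ▸ hsub, hTsub⟩
  have heq : (pullback.fst f sm[k, Ω]) ⁻¹' T = irreducibleComponent ε := by
    apply Set.Subset.antisymm
    · intro z hz
      have h1 : ζ ⤳ (pullback.fst f sm[k, Ω]) z := by
        rw [specializes_iff_mem_closure, hζ.def]
        exact hz
      obtain ⟨ξ, hξz, hξ⟩ := hgen h1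
      exact (claim1 ξ hξ).1 (specializes_iff_mem_closure.1 hξz)
    · obtain ⟨ξ0, hξ0⟩ := hsurj ζ
      obtain ⟨h1, h2⟩ := claim1 ξ0 hξ0
      have h3 : T ⊆ (pullback.fst f sm[k, Ω]) '' irreducibleComponent ε :=
        h2.trans (Set.image_mono h1)
      have h4 : IsIrreducible ((pullback.fst f sm[k, Ω]) '' irreducibleComponent ε) :=
        isIrreducible_irreducibleComponent.image _
          (pullback.fst f sm[k, Ω]).continuous.continuousOn
      have h5 := hT.2 h4 h3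
      intro z hz
      exact h5 ⟨z, hz, rfl⟩
  rw [heq]
  exact isIrreducible_irreducibleComponent

section Grpd

variable {S : Scheme.{u}} (G : Grpd.GroupoidScheme S)

theorem c_congr {T : Scheme.{u}} {α α' β β' : T ⟶ G.R} {h : α ≫ G.s = β ≫ G.t}
    {h' : α' ≫ G.s = β' ≫ G.t} (hα : α = α') (hβ : β = β') :
    pullback.lift α β h ≫ G.c = pullback.lift α' β' h' ≫ G.c := by
  subst hα; subst hβ; rfl

theorem c_comp_e {T : Scheme.{u}} (w : T ⟶ pullback G.s G.t) (α : T ⟶ G.R)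
    (h1 : w ≫ pullback.fst G.s G.t = α) (h2 : w ≫ pullback.snd G.s G.t = α ≫ G.s ≫ G.e) :
    w ≫ G.c = α := by
  have hw : w = pullback.lift α (α ≫ G.s ≫ G.e)
      (by rw [Category.assoc, Category.assoc, G.e_t, Category.comp_id]) :=
    pullback.hom_ext (by rw [h1, pullback.lift_fst]) (by rw [h2, pullback.lift_snd])
  rw [hw]
  exact G.comp_e α

theorem c_e_comp {T : Scheme.{u}} (w : T ⟶ pullback G.s G.t) (α : T ⟶ G.R)
    (h1 : w ≫ pullback.fst G.s G.t = α ≫ G.t ≫ G.e) (h2 : w ≫ pullback.snd G.s G.t = α) :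
    w ≫ G.c = α := by
  have hw : w = pullback.lift (α ≫ G.t ≫ G.e) α
      (by rw [Category.assoc, Category.assoc, G.e_s, Category.comp_id]) :=
    pullback.hom_ext (by rw [h1, pullback.lift_fst]) (by rw [h2, pullback.lift_snd])
  rw [hw]
  exact G.e_comp α

theorem inv_inv {T : Scheme.{u}} (α : T ⟶ G.R) : (α ≫ G.i) ≫ G.i = α := by
  have hs' : (α ≫ G.i) ≫ G.s = α ≫ G.t := by rw [Category.assoc, G.i_s]
  have ht' : (α ≫ G.i) ≫ G.t = α ≫ G.s := by rw [Category.assoc, G.i_t]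
  have hs'' : ((α ≫ G.i) ≫ G.i) ≫ G.s = α ≫ G.s := by rw [Category.assoc, G.i_s, ht']
  have h₁ : ((α ≫ G.i) ≫ G.i) ≫ G.s = (α ≫ G.i) ≫ G.t := hs''.trans ht'.symm
  have h₂ : (α ≫ G.i) ≫ G.s = α ≫ G.t := hs'
  have A2 : pullback.lift (α ≫ G.i) α h₂ ≫ G.c = α ≫ G.s ≫ G.e := G.i_comp α
  have A3 : pullback.lift ((α ≫ G.i) ≫ G.i) (α ≫ G.i) h₁ ≫ G.c = (α ≫ G.i) ≫ G.s ≫ G.e :=
    G.i_comp (α ≫ G.i)
  have hβ : ((α ≫ G.i) ≫ G.i) ≫ G.s ≫ G.e = pullback.lift (α ≫ G.i) α h₂ ≫ G.c := by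
    rw [A2, ← Category.assoc, hs'', Category.assoc]
  have hα : pullback.lift ((α ≫ G.i) ≫ G.i) (α ≫ G.i) h₁ ≫ G.c = α ≫ G.t ≫ G.e := by
    rw [A3, ← Category.assoc, hs', Category.assoc]
  have B1 : (α ≫ G.i) ≫ G.i =
      pullback.lift ((α ≫ G.i) ≫ G.i) (pullback.lift (α ≫ G.i) α h₂ ≫ G.c)
        (h₁.trans (G.comp_t (α ≫ G.i) α h₂).symm) ≫ G.c :=
    (G.comp_e ((α ≫ G.i) ≫ G.i)).symm.trans (c_congr G rfl hβ)
  have B2 := G.assoc ((α ≫ G.i) ≫ G.i) (α ≫ G.i) α h₁ h₂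
  have B3 : pullback.lift (pullback.lift ((α ≫ G.i) ≫ G.i) (α ≫ G.i) h₁ ≫ G.c) α
      ((G.comp_s ((α ≫ G.i) ≫ G.i) (α ≫ G.i) h₁).trans h₂) ≫ G.c = α :=
    (c_congr G hα rfl).trans (G.e_comp α)
  exact B1.trans (B2.symm.trans B3)

theorem i_i : G.i ≫ G.i = 𝟙 _ := by
  have h := inv_inv G (𝟙 G.R)
  rwa [Category.id_comp] at h

theorem e_i : G.e ≫ G.i = G.e := by
  have h1 := G.i_comp G.e
  have h2 := G.comp_e (G.e ≫ G.i)
  have hβ : (G.e ≫ G.i) ≫ G.s ≫ G.e = G.e := by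
    rw [Category.assoc, ← Category.assoc G.i, G.i_s, ← Category.assoc, G.e_t, Category.id_comp]
  have h3 : G.e ≫ G.s ≫ G.e = G.e := by rw [← Category.assoc, G.e_s, Category.id_comp]
  exact (h2.symm.trans (c_congr G rfl hβ)).trans (h1.trans h3)

variable {k : Type u} [Field k] (eU : G.U ≅ Spec (CommRingCat.of k))

theorem e_s' : G.e ≫ G.s ≫ eU.hom = eU.hom := by rw [← Category.assoc, G.e_s, Category.id_comp]

theorem e_t' : G.e ≫ G.t ≫ eU.hom = eU.hom := by rw [← Category.assoc, G.e_t, Category.id_comp]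

variable (Ω : Type u) [Field Ω] [Algebra k Ω]

noncomputable abbrev AΩ : Scheme.{u} := pullback (G.s ≫ eU.hom) sm[k, Ω]

noncomputable abbrev piA : AΩ G eU Ω ⟶ G.R := pullback.fst (G.s ≫ eU.hom) sm[k, Ω]

noncomputable abbrev rhoA : AΩ G eU Ω ⟶ Spec (CommRingCat.of Ω) :=
  pullback.snd (G.s ≫ eU.hom) sm[k, Ω]

noncomputable abbrev RΩ : Scheme.{u} := pullback (piA G eU Ω ≫ G.t ≫ eU.hom) sm[k, Ω]

noncomputable abbrev qA : RΩ G eU Ω ⟶ AΩ G eU Ω :=
  pullback.fst (piA G eU Ω ≫ G.t ≫ eU.hom) sm[k, Ω]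

noncomputable abbrev tau : RΩ G eU Ω ⟶ Spec (CommRingCat.of Ω) :=
  pullback.snd (piA G eU Ω ≫ G.t ≫ eU.hom) sm[k, Ω]

noncomputable abbrev QΩ : Scheme.{u} := pullback (rhoA G eU Ω) (tau G eU Ω)

noncomputable abbrev p1 : QΩ G eU Ω ⟶ AΩ G eU Ω := pullback.fst (rhoA G eU Ω) (tau G eU Ω)

noncomputable abbrev p2 : QΩ G eU Ω ⟶ RΩ G eU Ω := pullback.snd (rhoA G eU Ω) (tau G eU Ω)

theorem piA_cond : piA G eU Ω ≫ G.s ≫ eU.hom = rhoA G eU Ω ≫ sm[k, Ω] := pullback.condition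

theorem qA_cond : qA G eU Ω ≫ piA G eU Ω ≫ G.t ≫ eU.hom = tau G eU Ω ≫ sm[k, Ω] :=
  pullback.condition

theorem p_cond : p1 G eU Ω ≫ rhoA G eU Ω = p2 G eU Ω ≫ tau G eU Ω := pullback.condition

theorem alpha_beta : (p1 G eU Ω ≫ piA G eU Ω) ≫ G.s =
    (p2 G eU Ω ≫ qA G eU Ω ≫ piA G eU Ω) ≫ G.t := by
  rw [← cancel_mono eU.hom]
  simp only [Category.assoc]
  rw [piA_cond, qA_cond, ← Category.assoc, p_cond, Category.assoc]

noncomputable def cQ : QΩ G eU Ω ⟶ G.R :=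
  pullback.lift (p1 G eU Ω ≫ piA G eU Ω) (p2 G eU Ω ≫ qA G eU Ω ≫ piA G eU Ω)
    (alpha_beta G eU Ω) ≫ G.c

theorem cQ_s : cQ G eU Ω ≫ G.s = (p2 G eU Ω ≫ qA G eU Ω ≫ piA G eU Ω) ≫ G.s :=
  G.comp_s _ _ _

noncomputable def aQ : QΩ G eU Ω ⟶ AΩ G eU Ω :=
  pullback.lift (cQ G eU Ω) (p2 G eU Ω ≫ qA G eU Ω ≫ rhoA G eU Ω) (by
    rw [← Category.assoc, cQ_s]
    simp only [Category.assoc]
    rw [piA_cond])

theorem aQ_fst : aQ G eU Ω ≫ piA G eU Ω = cQ G eU Ω := pullback.lift_fst _ _ _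

theorem aQ_snd : aQ G eU Ω ≫ rhoA G eU Ω = p2 G eU Ω ≫ qA G eU Ω ≫ rhoA G eU Ω :=
  pullback.lift_snd _ _ _

noncomputable def epsA : Spec (CommRingCat.of Ω) ⟶ AΩ G eU Ω :=
  pullback.lift (sm[k, Ω] ≫ eU.inv ≫ G.e) (𝟙 _) (by
    rw [Category.assoc, Category.assoc, e_s', Iso.inv_hom_id, Category.comp_id,
      Category.id_comp])

theorem epsA_fst : epsA G eU Ω ≫ piA G eU Ω = sm[k, Ω] ≫ eU.inv ≫ G.e :=
  pullback.lift_fst _ _ _

theorem epsA_snd : epsA G eU Ω ≫ rhoA G eU Ω = 𝟙 _ := pullback.lift_snd _ _ _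

noncomputable def eR : Spec (CommRingCat.of Ω) ⟶ RΩ G eU Ω :=
  pullback.lift (epsA G eU Ω) (𝟙 _) (by
    rw [← Category.assoc, epsA_fst, Category.assoc, Category.assoc, e_t', Iso.inv_hom_id,
      Category.comp_id, Category.id_comp])

theorem eR_fst : eR G eU Ω ≫ qA G eU Ω = epsA G eU Ω := pullback.lift_fst _ _ _

theorem eR_snd : eR G eU Ω ≫ tau G eU Ω = 𝟙 _ := pullback.lift_snd _ _ _

noncomputable def sg1 : AΩ G eU Ω ⟶ QΩ G eU Ω :=
  pullback.lift (𝟙 _) (rhoA G eU Ω ≫ eR G eU Ω) (by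
    rw [Category.id_comp, Category.assoc, eR_snd, Category.comp_id])

noncomputable def sg2 : RΩ G eU Ω ⟶ QΩ G eU Ω :=
  pullback.lift (tau G eU Ω ≫ epsA G eU Ω) (𝟙 _) (by
    rw [Category.id_comp, Category.assoc, epsA_snd, Category.comp_id])

theorem sg1_fst : sg1 G eU Ω ≫ p1 G eU Ω = 𝟙 _ := pullback.lift_fst _ _ _

theorem sg1_snd : sg1 G eU Ω ≫ p2 G eU Ω = rhoA G eU Ω ≫ eR G eU Ω := pullback.lift_snd _ _ _

theorem sg2_fst : sg2 G eU Ω ≫ p1 G eU Ω = tau G eU Ω ≫ epsA G eU Ω := pullback.lift_fst _ _ _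

theorem sg2_snd : sg2 G eU Ω ≫ p2 G eU Ω = 𝟙 _ := pullback.lift_snd _ _ _

theorem sg1_aQ : sg1 G eU Ω ≫ aQ G eU Ω = 𝟙 _ := by
  refine pullback.hom_ext (f := G.s ≫ eU.hom) (g := sm[k, Ω]) ?_ ?_
  · show (sg1 G eU Ω ≫ aQ G eU Ω) ≫ piA G eU Ω = 𝟙 _ ≫ piA G eU Ω
    rw [Category.assoc, aQ_fst, Category.id_comp, cQ, ← Category.assoc]
    refine c_comp_e G _ (piA G eU Ω) ?_ ?_
    · rw [Category.assoc, pullback.lift_fst, ← Category.assoc, sg1_fst, Category.id_comp]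
    · rw [Category.assoc, pullback.lift_snd, ← Category.assoc, sg1_snd, Category.assoc,
        ← Category.assoc (eR G eU Ω), eR_fst, epsA_fst, ← Category.assoc, ← piA_cond]
      simp only [Category.assoc, Iso.hom_inv_id_assoc]
  · show (sg1 G eU Ω ≫ aQ G eU Ω) ≫ rhoA G eU Ω = 𝟙 _ ≫ rhoA G eU Ω
    rw [Category.assoc, aQ_snd, ← Category.assoc, sg1_snd, Category.assoc,
      ← Category.assoc (eR G eU Ω), eR_fst, epsA_snd, Category.comp_id, Category.id_comp]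

theorem sg2_aQ : sg2 G eU Ω ≫ aQ G eU Ω = qA G eU Ω := by
  refine pullback.hom_ext (f := G.s ≫ eU.hom) (g := sm[k, Ω]) ?_ ?_
  · show (sg2 G eU Ω ≫ aQ G eU Ω) ≫ piA G eU Ω = qA G eU Ω ≫ piA G eU Ω
    rw [Category.assoc, aQ_fst, cQ, ← Category.assoc]
    refine c_e_comp G _ (qA G eU Ω ≫ piA G eU Ω) ?_ ?_
    · rw [Category.assoc, pullback.lift_fst, ← Category.assoc, sg2_fst, Category.assoc,
        epsA_fst, ← Category.assoc, ← qA_cond]
      simp only [Category.assoc, Iso.hom_inv_id_assoc]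
    · rw [Category.assoc, pullback.lift_snd, ← Category.assoc, sg2_snd, Category.id_comp]
  · show (sg2 G eU Ω ≫ aQ G eU Ω) ≫ rhoA G eU Ω = qA G eU Ω ≫ rhoA G eU Ω
    rw [Category.assoc, aQ_snd, ← Category.assoc, sg2_snd, Category.id_comp]

theorem eq_image [IsSepClosed Ω] [Algebra.IsIntegral k Ω] (T1 : Set ↥(AΩ G eU Ω))
    (hT1 : T1 ∈ irreducibleComponents ↥(AΩ G eU Ω)) (T' : Set ↥(RΩ G eU Ω))
    (hT' : T' ∈ irreducibleComponents ↥(RΩ G eU Ω)) (pt0 : ↥(Spec (CommRingCat.of Ω)))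
    (h1 : epsA G eU Ω pt0 ∈ T1) (h' : eR G eU Ω pt0 ∈ T') :
    T1 = (qA G eU Ω) '' T' := by
  haveI : Subsingleton ↥(Spec (CommRingCat.of Ω)) :=
    inferInstanceAs (Subsingleton (PrimeSpectrum Ω))
  have hAcl : IsClosed T1 := isClosed_of_mem_irreducibleComponents T1 hT1
  have hBcl : IsClosed T' := isClosed_of_mem_irreducibleComponents T' hT'
  let Ac : TopologicalSpace.Closeds ↥(AΩ G eU Ω) := ⟨T1, hAcl⟩
  let Bc : TopologicalSpace.Closeds ↥(RΩ G eU Ω) := ⟨T', hBcl⟩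
  have hrA : Set.range (Scheme.IdealSheafData.vanishingIdeal Ac).subschemeι = T1 := by
    rw [Scheme.IdealSheafData.range_subschemeι, Scheme.IdealSheafData.coe_support_vanishingIdeal]
    rfl
  have hrB : Set.range (Scheme.IdealSheafData.vanishingIdeal Bc).subschemeι = T' := by
    rw [Scheme.IdealSheafData.range_subschemeι, Scheme.IdealSheafData.coe_support_vanishingIdeal]
    rfl
  haveI : GeometricallyIrreducible
      ((Scheme.IdealSheafData.vanishingIdeal Ac).subschemeι ≫ rhoA G eU Ω) :=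
    GeomIrrVarH4.geomIrr_subscheme (rhoA G eU Ω) Ac
      (fun K _ _ => GeomIrrSchH4.isIrreducible_preimage K (rhoA G eU Ω) hT1.1)
  haveI : IrreducibleSpace ↥((Scheme.IdealSheafData.vanishingIdeal Bc).subscheme) := by
    have h1 : IsIrreducible (Set.range (Scheme.IdealSheafData.vanishingIdeal Bc).subschemeι) := by
      rw [hrB]; exact hT'.1
    haveI : IrreducibleSpace ↥(Set.range (Scheme.IdealSheafData.vanishingIdeal Bc).subschemeι) :=
      isIrreducible_iff_irreducibleSpace.mp h1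
    exact ((Scheme.IdealSheafData.vanishingIdeal Bc).subschemeι.isClosedEmbedding.isEmbedding.toHomeomorph).irreducibleSpace_iff.mpr
      inferInstance
  haveI : IrreducibleSpace ↥(pullback
      ((Scheme.IdealSheafData.vanishingIdeal Ac).subschemeι ≫ rhoA G eU Ω)
      ((Scheme.IdealSheafData.vanishingIdeal Bc).subschemeι ≫ tau G eU Ω)) := inferInstance
  have hrange := Scheme.Pullback.range_map
    (f := (Scheme.IdealSheafData.vanishingIdeal Ac).subschemeι ≫ rhoA G eU Ω)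
    (g := (Scheme.IdealSheafData.vanishingIdeal Bc).subschemeι ≫ tau G eU Ω)
    (rhoA G eU Ω) (tau G eU Ω)
    (Scheme.IdealSheafData.vanishingIdeal Ac).subschemeι
    (Scheme.IdealSheafData.vanishingIdeal Bc).subschemeι (𝟙 _)
    (by rw [Category.comp_id]) (by rw [Category.comp_id])
  rw [hrA, hrB] at hrange
  have hW : IsIrreducible ((p1 G eU Ω) ⁻¹' T1 ∩ (p2 G eU Ω) ⁻¹' T') := by
    rw [← hrange, ← Set.image_univ]
    exact (IrreducibleSpace.isIrreducible_univ _).image _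
      (Scheme.Hom.continuous _).continuousOn
  have hμW : IsIrreducible ((aQ G eU Ω) '' ((p1 G eU Ω) ⁻¹' T1 ∩ (p2 G eU Ω) ⁻¹' T')) :=
    hW.image _ (aQ G eU Ω).continuous.continuousOn
  have hpt1 : ∀ x : ↥(AΩ G eU Ω), (eR G eU Ω) ((rhoA G eU Ω) x) = eR G eU Ω pt0 :=
    fun x => congrArg _ (Subsingleton.elim _ _)
  have hpt2 : ∀ y : ↥(RΩ G eU Ω), (epsA G eU Ω) ((tau G eU Ω) y) = epsA G eU Ω pt0 :=
    fun y => congrArg _ (Subsingleton.elim _ _)
  have hAsub : T1 ⊆ (aQ G eU Ω) '' ((p1 G eU Ω) ⁻¹' T1 ∩ (p2 G eU Ω) ⁻¹' T') := by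
    intro x hx
    refine ⟨sg1 G eU Ω x, ⟨?_, ?_⟩, ?_⟩
    · show (p1 G eU Ω) (sg1 G eU Ω x) ∈ T1
      rw [← Scheme.Hom.comp_apply, sg1_fst]
      exact hx
    · show (p2 G eU Ω) (sg1 G eU Ω x) ∈ T'
      rw [← Scheme.Hom.comp_apply, sg1_snd, Scheme.Hom.comp_apply, hpt1]
      exact h'
    · rw [← Scheme.Hom.comp_apply, sg1_aQ]
      rfl
  have hBsub : (qA G eU Ω) '' T' ⊆
      (aQ G eU Ω) '' ((p1 G eU Ω) ⁻¹' T1 ∩ (p2 G eU Ω) ⁻¹' T') := by
    rintro _ ⟨y, hy, rfl⟩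
    refine ⟨sg2 G eU Ω y, ⟨?_, ?_⟩, ?_⟩
    · show (p1 G eU Ω) (sg2 G eU Ω y) ∈ T1
      rw [← Scheme.Hom.comp_apply, sg2_fst, Scheme.Hom.comp_apply, hpt2]
      exact h1
    · show (p2 G eU Ω) (sg2 G eU Ω y) ∈ T'
      rw [← Scheme.Hom.comp_apply, sg2_snd]
      exact hy
    · rw [← Scheme.Hom.comp_apply, sg2_aQ]
  have h3 : (aQ G eU Ω) '' ((p1 G eU Ω) ⁻¹' T1 ∩ (p2 G eU Ω) ⁻¹' T') ⊆ T1 :=
    hT1.2 hμW hAsub
  have hq : (qA G eU Ω) '' T' ∈ irreducibleComponents ↥(AΩ G eU Ω) := by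
    haveI := GeomConnPtH4.isIntegralHom_specMap k Ω
    haveI := IrrCompImageH4.flat_specMap k Ω
    exact IrrCompImageH4.image_mem_irr_of_generalizing (qA G eU Ω).continuous
      (pullback.fst (piA G eU Ω ≫ G.t ≫ eU.hom) sm[k, Ω]).isClosedMap
      (Flat.generalizingMap (pullback.fst (piA G eU Ω ≫ G.t ≫ eU.hom) sm[k, Ω])) hT'
  exact Set.Subset.antisymm (hq.2 hT1.1 (hBsub.trans h3)) (hBsub.trans h3)

end Grpd

theorem geomIrr_s {S : Scheme.{u}} (G : Grpd.GroupoidScheme S) {k : Type u} [Field k]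
    (eU : G.U ≅ Spec (CommRingCat.of k)) (Z : Scheme.{u}) (ι : Z ⟶ G.R) [IsClosedImmersion ι]
    (hZ : Set.range ⇑ι ∈ irreducibleComponents ↥G.R)
    (he : G.e (eU.inv (IsLocalRing.closedPoint k)) ∈ Set.range ⇑ι) :
    GeometricallyIrreducible (ι ≫ G.s ≫ eU.hom) := by
  haveI : Subsingleton ↥(Spec (CommRingCat.of k)) :=
    inferInstanceAs (Subsingleton (PrimeSpectrum k))
  refine geomIrr_closedImm (G.s ≫ eU.hom) ι (fun K' _ _ => ?_)
  refine GeomIrrCompsH4.stepB_irr (G.s ≫ eU.hom) (AlgebraicClosure k) (Set.range ι) ?_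
  let pt0 : ↥(Spec (CommRingCat.of (AlgebraicClosure k))) :=
    IsLocalRing.closedPoint (AlgebraicClosure k)
  have he' : (eU.inv ≫ G.e) ≫ G.s ≫ eU.hom = 𝟙 _ := by
    rw [Category.assoc, e_s', Iso.inv_hom_id]
  have hε : (pullback.fst (G.s ≫ eU.hom) sm[k, AlgebraicClosure k])
      (epsA G eU (AlgebraicClosure k) pt0) = (eU.inv ≫ G.e) (IsLocalRing.closedPoint k) := by
    show (piA G eU (AlgebraicClosure k)) (epsA G eU (AlgebraicClosure k) pt0) = _
    rw [← Scheme.Hom.comp_apply, epsA_fst, Scheme.Hom.comp_apply]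
    exact congrArg _ (Subsingleton.elim _ _)
  have hC : ∀ A B : Set ↥(pullback (G.s ≫ eU.hom) sm[k, AlgebraicClosure k]),
      A ∈ irreducibleComponents ↥(pullback (G.s ≫ eU.hom) sm[k, AlgebraicClosure k]) →
      B ∈ irreducibleComponents ↥(pullback (G.s ≫ eU.hom) sm[k, AlgebraicClosure k]) →
      epsA G eU (AlgebraicClosure k) pt0 ∈ A → epsA G eU (AlgebraicClosure k) pt0 ∈ B →
      A ⊆ B := by
    intro A B hA hB ha hb
    have hT' := irreducibleComponent_mem_irreducibleComponents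
      (eR G eU (AlgebraicClosure k) pt0)
    have e1 := eq_image G eU (AlgebraicClosure k) A hA _ hT' pt0 ha mem_irreducibleComponent
    have e2 := eq_image G eU (AlgebraicClosure k) B hB _ hT' pt0 hb mem_irreducibleComponent
    rw [e1, e2]
  have he'' : (eU.inv ≫ G.e) (IsLocalRing.closedPoint k) ∈ Set.range ι := by
    rw [Scheme.Hom.comp_apply]
    exact he
  exact preimage_irr_gen (G.s ≫ eU.hom) (eU.inv ≫ G.e) he' (AlgebraicClosure k)
    (epsA G eU (AlgebraicClosure k) pt0) hε hC (Set.range ι) hZ he''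

theorem geomIrr_t {S : Scheme.{u}} (G : Grpd.GroupoidScheme S) {k : Type u} [Field k]
    (eU : G.U ≅ Spec (CommRingCat.of k)) (Z : Scheme.{u}) (ι : Z ⟶ G.R) [IsClosedImmersion ι]
    (hZ : Set.range ⇑ι ∈ irreducibleComponents ↥G.R)
    (he : G.e (eU.inv (IsLocalRing.closedPoint k)) ∈ Set.range ⇑ι) :
    GeometricallyIrreducible (ι ≫ G.t ≫ eU.hom) := by
  haveI : IsIso G.i := ⟨G.i, i_i G, i_i G⟩
  have hrw : ι ≫ G.t ≫ eU.hom = (ι ≫ G.i) ≫ G.s ≫ eU.hom := by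
    rw [Category.assoc, ← Category.assoc G.i, G.i_s]
  rw [hrw]
  have hrange : Set.range ⇑(ι ≫ G.i) = G.i '' Set.range ι := by
    ext x
    constructor
    · rintro ⟨z, rfl⟩
      exact ⟨ι z, ⟨z, rfl⟩, (Scheme.Hom.comp_apply ι G.i z).symm⟩
    · rintro ⟨_, ⟨z, rfl⟩, rfl⟩
      exact ⟨z, Scheme.Hom.comp_apply ι G.i z⟩
  refine geomIrr_s G eU Z (ι ≫ G.i) ?_ ?_
  · rw [hrange]
    exact IrrCompImageH4.image_mem_irr_of_generalizing G.i.continuous
      G.i.homeomorph.isClosedMap (Flat.generalizingMap G.i) hZ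
  · rw [hrange]
    refine ⟨G.e (eU.inv (IsLocalRing.closedPoint k)), he, ?_⟩
    rw [← Scheme.Hom.comp_apply, e_i]

theorem main7516 (S : Scheme.{u}) (G : Grpd.GroupoidScheme S) (k : Type u) [Field k]
    (eU : G.U ≅ Spec (CommRingCat.of k)) (Z : Scheme.{u}) (ι : Z ⟶ G.R) [IsClosedImmersion ι]
    [IrreducibleSpace Z] (hZ : Set.range ⇑ι ∈ irreducibleComponents ↥G.R)
    (he : G.e (eU.inv (IsLocalRing.closedPoint k)) ∈ Set.range ⇑ι) :
    GeometricallyIrreducible (ι ≫ G.s ≫ eU.hom) ∧ GeometricallyIrreducible (ι ≫ G.t ≫ eU.hom) :=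
  ⟨geomIrr_s G eU Z ι hZ he, geomIrr_t G eU Z ι hZ he⟩

end Groth.Agent.Lib.GrpdIdCompH4
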