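import Mathlib

/-!
# The rank polynomial of an idempotent matrix (helper6)

For an idempotent matrix `E` over `R`, `chi E = det (1 - E + X E)` is `∑ d_r X^r` with
orthogonal idempotents `d_r` summing to `1`; consequently, for `D a = det (1 - E + a E)`,
`a ^ N = ∑_{r=1}^n d_r * (D a) ^ (N / r)` as soon as `d_0 = 0` and every `1 ≤ r ≤ n` divides `N`.
-/

set_option autoImplicit false
universe u

open Polynomial

namespace Groth.Agent.Lib.GrpdIdemH6

variable {R : Type u} [CommRing R] {n : ℕ} (E : Matrix (Fin n) (Fin n) R)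

/-- `det (1 - E + X E)`. -/
noncomputable def chi : R[X] :=
  ((X : R[X]) • E.map C + (1 - E).map C).det

lemma natDegree_chi_le : (chi E).natDegree ≤ n := by
  have := Polynomial.natDegree_det_X_add_C_le E (1 - E)
  rw [Fintype.card_fin] at this
  exact this

variable {E}

lemma eval₂_chi {R₁ : Type u} [CommRing R₁] (φ : R →+* R₁) (a : R₁) :
    (chi E).eval₂ φ a = (1 - E.map φ + a • E.map φ).det := by
  have h1 : (chi E).eval₂ φ a = (Polynomial.eval₂RingHom φ a) (chi E) := rfl
  rw [h1]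
  unfold chi
  rw [RingHom.map_det]
  congr 1
  ext k i
  simp only [RingHom.mapMatrix_apply, Matrix.map_apply, Matrix.add_apply, Matrix.smul_apply,
    Matrix.sub_apply, smul_eq_mul, map_add, map_mul, coe_eval₂RingHom, eval₂_X, eval₂_C]
  by_cases hki : k = i
  · subst hki; simp; ring
  · simp [hki]; ring

variable (hE : E * E = E)
include hE

lemma key_mul {R₁ : Type u} [CommRing R₁] (φ : R →+* R₁) (a b : R₁) :
    (1 - E.map φ + a • E.map φ) * (1 - E.map φ + b • E.map φ) =
      1 - E.map φ + (a * b) • E.map φ := by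
  have hE' : E.map φ * E.map φ = E.map φ := by
    rw [← Matrix.map_mul, hE]
  have h1 : (1 - E.map φ) * (1 - E.map φ) = 1 - E.map φ := by
    rw [mul_sub, sub_mul, sub_mul, one_mul, mul_one, one_mul, hE', sub_self, sub_zero]
  have h2 : (1 - E.map φ) * (b • E.map φ) = 0 := by
    rw [Matrix.mul_smul, sub_mul, one_mul, hE', sub_self, smul_zero]
  have h3 : (a • E.map φ) * (1 - E.map φ) = 0 := by
    rw [Matrix.smul_mul, mul_sub, mul_one, hE', sub_self, smul_zero]
  have h4 : (a • E.map φ) * (b • E.map φ) = (a * b) • E.map φ := by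
    rw [Matrix.smul_mul, Matrix.mul_smul, hE', smul_smul]
  rw [add_mul, mul_add, mul_add, h1, h2, h3, h4, add_zero, zero_add]

lemma eval₂_chi_mul {R₁ : Type u} [CommRing R₁] (φ : R →+* R₁) (a b : R₁) :
    (chi E).eval₂ φ a * (chi E).eval₂ φ b = (chi E).eval₂ φ (a * b) := by
  rw [eval₂_chi, eval₂_chi, eval₂_chi, ← Matrix.det_mul, key_mul hE]

omit hE in
lemma eval₂_chi_one {R₁ : Type u} [CommRing R₁] (φ : R →+* R₁) :
    (chi E).eval₂ φ 1 = 1 := by
  rw [eval₂_chi, one_smul, sub_add_cancel, Matrix.det_one]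

omit hE in
lemma coeff_zero_chi : (chi E).coeff 0 = (1 - E).det := by
  rw [Polynomial.coeff_zero_eq_eval_zero, ← Polynomial.eval₂_id, eval₂_chi]
  simp

/-- Orthogonality of the coefficients. -/
lemma coeff_mul_coeff (i j : ℕ) :
    (chi E).coeff i * (chi E).coeff j = if i = j then (chi E).coeff j else 0 := by
  classical
  -- work in `R[X][Y]`
  obtain ⟨χ, hχ⟩ : ∃ χ : R[X], χ = chi E := ⟨_, rfl⟩
  rw [← hχ]
  have hmul := eval₂_chi_mul hE (R₁ := R[X][X]) ((C : R[X] →+* R[X][X]).comp (C : R →+* R[X]))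
    (C X) X
  rw [← hχ] at hmul
  have h1 : χ.eval₂ ((C : R[X] →+* R[X][X]).comp (C : R →+* R[X])) (C X) = C χ := by
    rw [← Polynomial.hom_eval₂, Polynomial.eval₂_C_X]
  have h2 : χ.eval₂ ((C : R[X] →+* R[X][X]).comp (C : R →+* R[X])) X = χ.map C := rfl
  rw [h1, h2] at hmul
  -- coefficient `j` in `Y`
  have h3 := congrArg (fun p : R[X][X] => p.coeff j) hmul
  simp only [Polynomial.coeff_C_mul, Polynomial.coeff_map] at h3
  have h4 : (χ.eval₂ ((C : R[X] →+* R[X][X]).comp (C : R →+* R[X])) (C X * X)).coeff j =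
      C (χ.coeff j) * X ^ j := by
    rw [Polynomial.eval₂_eq_sum_range, Polynomial.finsetSum_coeff]
    have : ∀ r, ((((C : R[X] →+* R[X][X]).comp (C : R →+* R[X])) (χ.coeff r)) *
        (C X * X) ^ r).coeff j = if r = j then C (χ.coeff r) * X ^ r else 0 := by
      intro r
      rw [mul_pow, ← C_pow, ← mul_assoc, RingHom.comp_apply, ← C_mul, Polynomial.coeff_C_mul_X_pow]
      by_cases hrj : r = j
      · rw [if_pos hrj, if_pos hrj.symm]
      · rw [if_neg hrj, if_neg (Ne.symm hrj)]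
    simp only [this]
    rw [Finset.sum_ite_eq']
    split_ifs with hj
    · rfl
    · rw [Finset.mem_range, not_lt, Nat.succ_le_iff] at hj
      rw [Polynomial.coeff_eq_zero_of_natDegree_lt hj, map_zero, zero_mul]
  rw [h4] at h3
  -- coefficient `i` in `X`
  have h5 := congrArg (fun p : R[X] => p.coeff i) h3
  simp only [Polynomial.coeff_mul_C, Polynomial.coeff_C_mul_X_pow] at h5
  exact h5

omit hE in
lemma sum_coeff : ∑ r ∈ Finset.range (n + 1), (chi E).coeff r = 1 := by
  have h1 := eval₂_chi_one (E := E) (RingHom.id R)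
  rw [Polynomial.eval₂_eq_sum_range' (RingHom.id R)
    (Nat.lt_succ_of_le (natDegree_chi_le E))] at h1
  simpa using h1

/-- **Powers from the rank polynomial.** -/
theorem pow_eq_sum {R₁ : Type u} [CommRing R₁] (φ : R →+* R₁) (a : R₁) (N : ℕ) (hN : 0 < N)
    (hdvd : ∀ r, 1 ≤ r → r ≤ n → r ∣ N) (h0 : (chi E).coeff 0 = 0) :
    a ^ N = ∑ r ∈ Finset.Icc 1 n, φ ((chi E).coeff r) * ((chi E).eval₂ φ a) ^ (N / r) := by
  classical
  obtain ⟨d, hd⟩ : ∃ d : ℕ → R, d = fun r => (chi E).coeff r := ⟨_, rfl⟩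
  have hdr : ∀ r, (chi E).coeff r = d r := fun r => by rw [hd]
  have horth : ∀ i j, d i * d j = if i = j then d j else 0 := by
    intro i j; rw [← hdr, ← hdr]; exact coeff_mul_coeff hE i j
  have hD : (chi E).eval₂ φ a = ∑ r ∈ Finset.range (n + 1), φ (d r) * a ^ r := by
    rw [Polynomial.eval₂_eq_sum_range' φ (Nat.lt_succ_of_le (natDegree_chi_le E))]
    exact Finset.sum_congr rfl fun r _ => by rw [hdr]
  have hterm : ∀ r ∈ Finset.Icc 1 n, φ (d r) * ((chi E).eval₂ φ a) ^ (N / r) = φ (d r) * a ^ N := by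
    intro r hr
    rw [Finset.mem_Icc] at hr
    obtain ⟨k, hk⟩ := hdvd r hr.1 hr.2
    have hr0 : 0 < r := hr.1
    have hk0 : 0 < k := by
      rcases Nat.eq_zero_or_pos k with h | h
      · rw [h, mul_zero] at hk; omega
      · exact h
    have hNr : N / r = k := by rw [hk, Nat.mul_div_cancel_left _ hr0]
    rw [hNr]
    have hidem : φ (d r) * φ (d r) = φ (d r) := by
      rw [← map_mul, horth, if_pos rfl]
    have hpow : ∀ k : ℕ, 0 < k → φ (d r) ^ k = φ (d r) := by
      intro k hk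
      induction k with
      | zero => omega
      | succ k ih =>
        rcases Nat.eq_zero_or_pos k with h | h
        · rw [h, zero_add, pow_one]
        · rw [pow_succ, ih h, hidem]
    have h1 : φ (d r) * (chi E).eval₂ φ a = φ (d r) * a ^ r := by
      rw [hD, Finset.mul_sum]
      have : ∀ r' ∈ Finset.range (n + 1), φ (d r) * (φ (d r') * a ^ r') =
          if r' = r then φ (d r) * a ^ r else 0 := by
        intro r' _
        rw [← mul_assoc, ← map_mul, horth]
        by_cases hrr : r = r'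
        · rw [if_pos hrr, if_pos hrr.symm, hrr]
        · rw [if_neg hrr, if_neg (Ne.symm hrr), map_zero, zero_mul]
      rw [Finset.sum_congr rfl this, Finset.sum_ite_eq']
      rw [if_pos (Finset.mem_range.mpr (Nat.lt_succ_of_le hr.2))]
    calc φ (d r) * (chi E).eval₂ φ a ^ k
        = φ (d r) ^ k * (chi E).eval₂ φ a ^ k := by rw [hpow k hk0]
      _ = (φ (d r) * (chi E).eval₂ φ a) ^ k := (mul_pow _ _ _).symm
      _ = (φ (d r) * a ^ r) ^ k := by rw [h1]
      _ = φ (d r) ^ k * a ^ (r * k) := by rw [mul_pow, ← pow_mul]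
      _ = φ (d r) * a ^ N := by rw [hpow k hk0, ← hk]
  have hsum : ∑ r ∈ Finset.Icc 1 n, φ (d r) = 1 := by
    have h1 := sum_coeff (E := E)
    rw [Finset.range_eq_Ico, Finset.sum_eq_sum_Ico_succ_bot (Nat.succ_pos n), h0, zero_add] at h1
    have h2 : Finset.Ico (0 + 1) (n + 1) = Finset.Icc 1 n := by
      ext r; simp [Finset.mem_Ico, Finset.mem_Icc, Nat.lt_succ_iff]
    rw [h2] at h1
    have h3 := congrArg φ h1
    rw [map_sum, map_one] at h3
    rw [← h3]
    exact Finset.sum_congr rfl fun r _ => by rw [hdr]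
  have hgoal : ∑ r ∈ Finset.Icc 1 n, φ ((chi E).coeff r) * ((chi E).eval₂ φ a) ^ (N / r) =
      ∑ r ∈ Finset.Icc 1 n, φ (d r) * a ^ N := by
    refine Finset.sum_congr rfl fun r hr => ?_
    rw [hdr]
    exact hterm r hr
  rw [hgoal, ← Finset.sum_mul, hsum, one_mul]

end Groth.Agent.Lib.GrpdIdemH6
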