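import Mathlib
import Groth.Prelude.Def_Grpd
import Groth.Agent.Lib.GrpdInvOpen1_helper6
import Groth.Agent.Lib.ChevGen_helper7

/-!
# Invariant affine opens from an integral restriction of a groupoid (helper7)

Stacks 0ABC-type statement: if `g : U' ⟶ U` is integral and meets every orbit, an invariant affine
open of the restricted groupoid pushes forward to an invariant affine open of the groupoid.
-/

set_option backward.isDefEq.respectTransparency false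
set_option backward.isDefEq.respectTransparency.types false
set_option linter.style.haveILetI false
set_option linter.unusedSectionVars false
set_option linter.unusedVariables false
set_option autoImplicit false
set_option maxHeartbeats 1600000

universe u

open CategoryTheory CategoryTheory.Limits AlgebraicGeometry TopologicalSpace

namespace Groth.Agent.Lib.GrpdIntRestrH7

open Groth.Agent.Lib.GrpdInvOpenH6

theorem main7499 (S : Scheme.{u}) (G : Grpd.GroupoidScheme S) [IsIntegralHom G.s]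
    [IsIntegralHom G.t] (U' : Scheme.{u}) (g : U' ⟶ G.U) [IsIntegralHom g]
    (horb : ∀ u : G.U, ∃ r : G.R, G.s r = u ∧ G.t r ∈ Set.range ⇑g) (u' : U') (W' : U'.Opens)
    (hW' : IsAffineOpen W') (hu' : u' ∈ W')
    (hinv : (pullback.fst (pullback.snd g G.t ≫ G.s) g ≫ pullback.fst g G.t) ⁻¹ᵁ W' =
      (pullback.snd (pullback.snd g G.t ≫ G.s) g) ⁻¹ᵁ W') :
    ∃ W : G.U.Opens, IsAffineOpen W ∧ g u' ∈ W ∧ G.s ⁻¹ᵁ W = G.t ⁻¹ᵁ W := by
  classical
  obtain ⟨p₀, hp₀⟩ : ∃ p₀ : pullback g G.t ⟶ U', p₀ = pullback.fst g G.t := ⟨_, rfl⟩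
  obtain ⟨q₀, hq₀⟩ : ∃ q₀ : pullback g G.t ⟶ G.R, q₀ = pullback.snd g G.t := ⟨_, rfl⟩
  obtain ⟨h, hh⟩ : ∃ h : pullback g G.t ⟶ G.U, h = pullback.snd g G.t ≫ G.s := ⟨_, rfl⟩
  have hcond : p₀ ≫ g = q₀ ≫ G.t := by rw [hp₀, hq₀]; exact pullback.condition
  haveI : IsIntegralHom p₀ := by rw [hp₀]; infer_instance
  haveI : IsIntegralHom q₀ := by rw [hq₀]; infer_instance
  haveI : IsIntegralHom h := by rw [hh, ← hq₀]; infer_instance
  -- points of the fibre product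
  have hpt : ∀ (a : U') (r : G.R), g a = G.t r → ∃ x : ↥(pullback g G.t), p₀ x = a ∧ q₀ x = r := by
    intro a r har
    obtain ⟨z, hz1, hz2⟩ := Scheme.Pullback.exists_preimage_pullback (f := g) (g := G.t) a r har
    exact ⟨z, by rw [hp₀]; exact hz1, by rw [hq₀]; exact hz2⟩
  have hh_apply : ∀ x : ↥(pullback g G.t), h x = G.s (q₀ x) := by
    intro x
    rw [hh, hq₀, Scheme.Hom.comp_apply]
  have hcond_apply : ∀ x : ↥(pullback g G.t), g (p₀ x) = G.t (q₀ x) := by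
    intro x
    rw [← Scheme.Hom.comp_apply, ← Scheme.Hom.comp_apply, hcond]
  -- moving a point along an arrow
  have move : ∀ (y : ↥(pullback g G.t)) (ρ : G.R), G.s (q₀ y) = G.t ρ →
      ∃ x : ↥(pullback g G.t), p₀ x = p₀ y ∧ h x = G.s ρ := by
    intro y ρ hyρ
    obtain ⟨r₂, hr₂s, hr₂t⟩ := exists_comp G (q₀ y) ρ hyρ
    obtain ⟨x, hx1, hx2⟩ := hpt (p₀ y) r₂ (by rw [hr₂t, hcond_apply])
    exact ⟨x, hx1, by rw [hh_apply, hx2, hr₂s]⟩
  -- the key invariance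
  have key : ∀ x y : ↥(pullback g G.t), h x = h y → p₀ y ∈ W' → p₀ x ∈ W' := by
    intro x y hxy hy
    obtain ⟨r₁, hr₁s, hr₁t⟩ := exists_comp G (q₀ x) (G.i (q₀ y))
      (by rw [t_i, ← hh_apply, ← hh_apply, hxy])
    rw [s_i] at hr₁s
    obtain ⟨x₁, hx₁p, hx₁q⟩ := hpt (p₀ x) r₁ (by rw [hr₁t, hcond_apply])
    have hx₁h : h x₁ = g (p₀ y) := by rw [hh_apply, hx₁q, hr₁s, hcond_apply]
    obtain ⟨z, hz1, hz2⟩ := Scheme.Pullback.exists_preimage_pullback
      (f := pullback.snd g G.t ≫ G.s) (g := g) x₁ (p₀ y) (by rw [← hh]; exact hx₁h)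
    have hz : z ∈ (pullback.fst (pullback.snd g G.t ≫ G.s) g ≫ pullback.fst g G.t) ⁻¹ᵁ W' ↔
        z ∈ (pullback.snd (pullback.snd g G.t ≫ G.s) g) ⁻¹ᵁ W' := by rw [hinv]
    have h1 : z ∈ (pullback.snd (pullback.snd g G.t ≫ G.s) g) ⁻¹ᵁ W' := by
      show (pullback.snd (pullback.snd g G.t ≫ G.s) g) z ∈ W'
      rw [hz2]; exact hy
    have h3 : (pullback.fst (pullback.snd g G.t ≫ G.s) g ≫ pullback.fst g G.t) z ∈ W' :=
      hz.mpr h1
    rw [Scheme.Hom.comp_apply, hz1, ← hp₀, hx₁p] at h3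
    exact h3
  -- the affine open upstairs
  obtain ⟨Wt, hWt⟩ : ∃ Wt : (pullback g G.t).Opens, Wt = p₀ ⁻¹ᵁ W' := ⟨_, rfl⟩
  have hWtaff : IsAffineOpen Wt := by rw [hWt]; exact hW'.preimage p₀
  have hmemWt : ∀ x : ↥(pullback g G.t), x ∈ Wt ↔ p₀ x ∈ W' := by
    intro x; rw [hWt]; exact Iff.rfl
  have hpre : ⇑h ⁻¹' (⇑h '' (Wt : Set ↥(pullback g G.t))) = (Wt : Set ↥(pullback g G.t)) := by
    ext x
    constructor
    · rintro ⟨y, hy, hyx⟩
      exact (hmemWt x).mpr (key x y hyx.symm ((hmemWt y).mp hy))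
    · intro hx
      exact ⟨x, hx, rfl⟩
  have hsurj : Function.Surjective h := by
    intro u
    obtain ⟨r, hr, a, ha⟩ := horb u
    obtain ⟨x, hx1, hx2⟩ := hpt a r ha
    exact ⟨x, by rw [hh_apply, hx2, hr]⟩
  have hquot : Topology.IsQuotientMap h := h.isClosedMap.isQuotientMap h.continuous hsurj
  have hWopen : IsOpen (⇑h '' (Wt : Set ↥(pullback g G.t))) := by
    rw [← hquot.isOpen_preimage, hpre]
    exact Wt.isOpen
  obtain ⟨W, hW⟩ : ∃ W : G.U.Opens, (W : Set G.U) = ⇑h '' (Wt : Set ↥(pullback g G.t)) :=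
    ⟨⟨_, hWopen⟩, rfl⟩
  have hpreU : h ⁻¹ᵁ W = Wt := by
    apply Opens.ext
    show ⇑h ⁻¹' (W : Set G.U) = (Wt : Set ↥(pullback g G.t))
    rw [hW, hpre]
  have hmemW : ∀ v : G.U, v ∈ W ↔ ∃ y : ↥(pullback g G.t), y ∈ Wt ∧ h y = v := by
    intro v
    have h1 : v ∈ W ↔ v ∈ (W : Set G.U) := Iff.rfl
    rw [h1, hW]
    exact Iff.rfl
  refine ⟨W, ?_, ?_, ?_⟩
  · haveI : IsAffine (h ⁻¹ᵁ W).toScheme := by rw [hpreU]; exact hWtaff
    haveI : Surjective h := ⟨hsurj⟩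
    haveI : Surjective (h ∣_ W) :=
      MorphismProperty.of_isPullback (P := @Surjective) (isPullback_morphismRestrict h W).flip
        inferInstance
    haveI : IsIntegralHom (h ∣_ W) := inferInstance
    exact Groth.Agent.Lib.ChevGenH7.isAffine_of_surjective_universallyClosed (h ∣_ W)
  · rw [hmemW]
    obtain ⟨x, hx1, hx2⟩ := hpt u' (G.e (g u')) (by rw [t_e])
    refine ⟨x, (hmemWt x).mpr (by rw [hx1]; exact hu'), ?_⟩
    rw [hh_apply, hx2, s_e]
  · apply Opens.ext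
    ext ρ
    show G.s ρ ∈ W ↔ G.t ρ ∈ W
    rw [hmemW, hmemW]
    constructor
    · rintro ⟨y, hy, hys⟩
      obtain ⟨x, hx1, hx2⟩ := move y (G.i ρ) (by rw [t_i, ← hh_apply, hys])
      refine ⟨x, (hmemWt x).mpr (by rw [hx1]; exact (hmemWt y).mp hy), ?_⟩
      rw [hx2, s_i]
    · rintro ⟨y, hy, hyt⟩
      obtain ⟨x, hx1, hx2⟩ := move y ρ (by rw [← hh_apply, hyt])
      exact ⟨x, (hmemWt x).mpr (by rw [hx1]; exact (hmemWt y).mp hy), hx2⟩

end Groth.Agent.Lib.GrpdIntRestrH7
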