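import Mathlib
import Groth.Prelude.Def_Grpd
import Groth.Agent.Lib.GrpdCalc_helper6
import Groth.Agent.Lib.GrpdFree_helper4

set_option autoImplicit false
set_option linter.style.haveILetI false

universe u

open CategoryTheory CategoryTheory.Limits AlgebraicGeometry Grpd TensorProduct
open Groth.Agent.Lib.GrpdCalc Groth.Agent.Lib.GrpdFreeH4

namespace Groth.Agent.Lib.GrpdNormH4

theorem norm_invariant {A B P : Type u} [CommRing A] [CommRing B] [CommRing P]
    (s t : A →+* B) (p₀ p₁ c : B →+* P)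
    (hcs : ∀ a, c (s a) = p₁ (s a)) (hp : ∀ a, p₀ (s a) = p₁ (t a))
    {ι : Type u} [Fintype ι] [DecidableEq ι]
    (b : letI := s.toAlgebra; Module.Basis ι A B)
    (hP₁ : letI := p₁.toAlgebra; ∃ b' : Module.Basis ι B P, ∀ i, b' i = p₀ (b i))
    (hP₂ : letI := p₁.toAlgebra; ∃ b' : Module.Basis ι B P, ∀ i, b' i = c (b i))
    (f' : B) (hf' : c f' = p₀ f') :
    letI := s.toAlgebra
    s (Algebra.norm A f') = t (Algebra.norm A f') := by
  letI algAB : Algebra A B := s.toAlgebra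
  letI algBP : Algebra B P := p₁.toAlgebra
  obtain ⟨b₁, hb₁⟩ := hP₁
  obtain ⟨b₂, hb₂⟩ := hP₂
  obtain ⟨M, hMdef⟩ : ∃ M : Matrix ι ι A, M = Algebra.leftMulMatrix b f' := ⟨_, rfl⟩
  have hM : ∀ j, f' * b j = ∑ i, s (M i j) * b i := by
    intro j
    have h := b.sum_repr (f' * b j)
    rw [← h]
    refine Finset.sum_congr rfl fun i _ => ?_
    rw [Algebra.smul_def, hMdef, Algebra.leftMulMatrix_eq_repr_mul]
    rfl
  have h₁ : Algebra.leftMulMatrix b₁ (p₀ f') = t.mapMatrix M := by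
    ext i j
    rw [Algebra.leftMulMatrix_eq_repr_mul, RingHom.mapMatrix_apply, Matrix.map_apply]
    have h3 : p₀ f' * b₁ j = ∑ k, (t (M k j)) • b₁ k := by
      rw [hb₁, ← map_mul, hM, map_sum]
      refine Finset.sum_congr rfl fun k _ => ?_
      rw [map_mul, hp, hb₁, Algebra.smul_def]; rfl
    rw [h3, Module.Basis.repr_sum_self]
  have h₂ : Algebra.leftMulMatrix b₂ (c f') = s.mapMatrix M := by
    ext i j
    rw [Algebra.leftMulMatrix_eq_repr_mul, RingHom.mapMatrix_apply, Matrix.map_apply]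
    have h3 : c f' * b₂ j = ∑ k, (s (M k j)) • b₂ k := by
      rw [hb₂, ← map_mul, hM, map_sum]
      refine Finset.sum_congr rfl fun k _ => ?_
      rw [map_mul, hcs, hb₂, Algebra.smul_def]; rfl
    rw [h3, Module.Basis.repr_sum_self]
  have n₁ : Algebra.norm B (p₀ f') = t (M.det) := by
    rw [Algebra.norm_eq_matrix_det b₁, h₁, ← RingHom.map_det]
  have n₂ : Algebra.norm B (c f') = s (M.det) := by
    rw [Algebra.norm_eq_matrix_det b₂, h₂, ← RingHom.map_det]
  show s (Algebra.norm A f') = t (Algebra.norm A f')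
  rw [Algebra.norm_eq_matrix_det b f', ← hMdef, ← n₁, ← n₂, hf']

theorem main1880 (S : Scheme.{u}) (G : Grpd.GroupoidScheme S) [IsAffine G.U] [IsAffine G.R]
    (f : Γ(G.U, ⊤)) : G.normST f ∈ G.invariants := by
  classical
  letI algAB : Algebra Γ(G.U, ⊤) Γ(G.R, ⊤) := G.s.appTop.hom.toAlgebra
  show G.s.appTop.hom (G.normST f) = G.t.appTop.hom (G.normST f)
  by_cases H : ∃ s : Finset Γ(G.R, ⊤), Nonempty (Module.Basis s Γ(G.U, ⊤) Γ(G.R, ⊤))
  · obtain ⟨s, ⟨b⟩⟩ := H
    have hpo1 : IsPushout G.s.appTop G.t.appTop (pullback.fst G.s G.t).appTop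
        (pullback.snd G.s G.t).appTop :=
      isPushout_appTop_of_isPullback (IsPullback.of_hasPullback G.s G.t)
    have hpo2 : IsPushout G.s.appTop G.s.appTop G.c.appTop (pullback.snd G.s G.t).appTop :=
      isPushout_appTop_of_isPullback (isPullback_c G)
    have hP1 := exists_basis_of_isPushout G.s.appTop G.t.appTop _ _ hpo1 (fun i => b i)
      ⟨b, fun _ => rfl⟩
    have hP2 := exists_basis_of_isPushout G.s.appTop G.s.appTop _ _ hpo2 (fun i => b i)
      ⟨b, fun _ => rfl⟩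
    exact norm_invariant G.s.appTop.hom G.t.appTop.hom (pullback.fst G.s G.t).appTop.hom
      (pullback.snd G.s G.t).appTop.hom G.c.appTop.hom
      (fun a => appTop_sq G.c G.s _ G.s (c_s G) a)
      (fun a => appTop_sq _ G.s _ G.t pullback.condition a)
      b hP1 hP2 (G.t.appTop.hom f) (appTop_sq G.c G.t _ G.t (c_t G) f)
  · have h1 : G.normST f = 1 := Algebra.norm_eq_one_of_not_exists_basis _ H _
    rw [h1, map_one, map_one]

end Groth.Agent.Lib.GrpdNormH4
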