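import Mathlib
import Groth.Prelude
import Groth.Agent.Lib.GrpdOmega1_helper7
import Groth.Agent.Lib.GrpdCalc_helper6

/-!
# `Ω_{R/U} ≅ s^* C_{U/R}` for a groupoid scheme (helper7)
APPEND-ONLY once landed.
-/

set_option autoImplicit false
set_option linter.style.haveILetI false

universe u

open CategoryTheory CategoryTheory.Limits AlgebraicGeometry Opposite TopologicalSpace

namespace Groth.Agent.Lib.GrpdOmegaH7

open Grpd Groth.Agent.Lib.GrpdCalc

variable {S : Scheme.{u}} (G : GroupoidScheme S)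

theorem isPullback_c_fst : IsPullback G.c (pullback.fst G.s G.t) G.t G.t := by
  have hA : (pullback.fst G.t G.t ≫ G.i) ≫ G.s = pullback.snd G.t G.t ≫ G.t := by
    rw [Category.assoc, G.i_s]
    exact pullback.condition
  have hB : pullback.fst G.t G.t ≫ G.s =
      comp G (pullback.fst G.t G.t ≫ G.i) (pullback.snd G.t G.t) hA ≫ G.t := by
    rw [comp_t', Category.assoc, G.i_t]
  have key : ∀ (φ : pullback G.t G.t ⟶ pullback G.s G.t),
      φ ≫ pullback.fst G.s G.t = pullback.fst G.t G.t → IsIso φ →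
      φ ≫ G.c = pullback.snd G.t G.t → IsPullback G.c (pullback.fst G.s G.t) G.t G.t := by
    intro φ h1 hiso hφc
    haveI := hiso
    have hsq : CommSq (pullback.fst G.s G.t) G.c G.t G.t := ⟨(c_t G).symm⟩
    have h := IsPullback.of_iso_pullback hsq (asIso φ).symm
      (show inv φ ≫ pullback.fst G.t G.t = pullback.fst G.s G.t by
        rw [IsIso.inv_comp_eq]; exact h1.symm)
      (show inv φ ≫ pullback.snd G.t G.t = G.c by
        rw [IsIso.inv_comp_eq]; exact hφc.symm)
    exact h.flip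
  obtain ⟨hiso, hφc⟩ := phi_iso G
    (pullback.lift (pullback.fst G.t G.t)
      (comp G (pullback.fst G.t G.t ≫ G.i) (pullback.snd G.t G.t) hA) hB)
    (pullback.lift_fst _ _ _) hA (pullback.lift_snd _ _ _)
  exact key _ (pullback.lift_fst _ _ _) hiso hφc

theorem main1938 [QuasiSeparated G.t] :
    (∃ φ : (Scheme.Modules.pullback G.s).obj (Omega.conormal G.e) ⟶ Omega.sheaf G.t, Epi φ) ∧
      (Flat G.s → Nonempty ((Scheme.Modules.pullback G.s).obj (Omega.conormal G.e) ≅
        Omega.sheaf G.t)) := by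
  have hk : 𝟙 G.R ≫ G.s = (𝟙 G.R ≫ G.s ≫ G.e) ≫ G.t := by
    rw [Category.assoc, Category.assoc, G.e_t, Category.comp_id]
  obtain ⟨ι⟩ := omega_iso_pullback_conormal G.s G.t G.e G.e_t G.c (isPullback_c_fst G)
    (pullback.lift (𝟙 G.R) (𝟙 G.R ≫ G.s ≫ G.e) hk) (G.comp_e (𝟙 G.R))
    (by rw [pullback.lift_snd, Category.id_comp])
  exact ⟨⟨ι.inv, inferInstance⟩, fun _ => ⟨ι.symm⟩⟩

end Groth.Agent.Lib.GrpdOmegaH7
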