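import Mathlib
import Groth.Prelude
import Groth.Agent.Lib.GrpdOmega1_helper7
import Groth.Agent.Lib.PB9_helper8

/-!
# `Ω_{G/S} ≅ f^* C_{S/G}` for a group scheme, and freeness over a field (helper7)
APPEND-ONLY once landed.
-/

set_option autoImplicit false
set_option linter.style.haveILetI false

universe u

open CategoryTheory MonoidalCategory CartesianMonoidalCategory MonObj GrpObj AlgebraicGeometry
open CategoryTheory.Limits

namespace Groth.Agent.Lib.GrpdOmegaH7

section Grp

variable {S : Scheme.{u}} (G : Over S) [GrpObj G]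

/-- The shear map `(g, h) ↦ (g, g h)`. -/
noncomputable def shear : G ⊗ G ⟶ G ⊗ G := lift (fst G G) (fst G G * snd G G)

/-- The inverse shear map `(g, h) ↦ (g, g⁻¹ h)`. -/
noncomputable def shearInv : G ⊗ G ⟶ G ⊗ G := lift (fst G G) ((fst G G)⁻¹ * snd G G)

theorem shear_shearInv : shear G ≫ shearInv G = 𝟙 _ := by
  apply CartesianMonoidalCategory.hom_ext
  · simp [shear, shearInv]
  · simp [shear, shearInv, MonObj.comp_mul, GrpObj.comp_inv]

theorem shearInv_shear : shearInv G ≫ shear G = 𝟙 _ := by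
  apply CartesianMonoidalCategory.hom_ext
  · simp [shear, shearInv]
  · simp [shear, shearInv, MonObj.comp_mul, GrpObj.comp_inv]

theorem isPullback_mul : IsPullback μ[G].left (pullback.fst G.hom G.hom) G.hom G.hom := by
  haveI : IsIso (shear G) := ⟨⟨shearInv G, shear_shearInv G, shearInv_shear G⟩⟩
  haveI : IsIso (shear G).left := inferInstanceAs (IsIso ((Over.forget S).map (shear G)))
  have h1 : (shear G).left ≫ pullback.fst G.hom G.hom = pullback.fst G.hom G.hom :=
    congrArg CommaMorphism.left (lift_fst (fst G G) (fst G G * snd G G))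
  have h2 : (shear G).left ≫ pullback.snd G.hom G.hom = μ[G].left :=
    congrArg CommaMorphism.left
      ((lift_snd (fst G G) (fst G G * snd G G)).trans (MonObj.mul_eq_mul G).symm)
  have hsq : CommSq (pullback.fst G.hom G.hom) μ[G].left G.hom G.hom := ⟨(Over.w μ[G]).symm⟩
  exact (IsPullback.of_iso_pullback hsq (asIso (shear G).left) h1 h2).flip

theorem main1937a [QuasiSeparated G.hom] :
    Nonempty (Omega.sheaf G.hom ≅
      (Scheme.Modules.pullback G.hom).obj (Omega.conormal η[G].left)) := by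
  have he : η[G].left ≫ G.hom = 𝟙 S := Over.w η[G]
  have hkc : (lift (𝟙 G) (toUnit G ≫ η[G])).left ≫ μ[G].left = 𝟙 G.left :=
    congrArg CommaMorphism.left (MonObj.lift_comp_one_right (𝟙 G) (toUnit G))
  have hk2 : (lift (𝟙 G) (toUnit G ≫ η[G])).left ≫ pullback.snd G.hom G.hom =
      G.hom ≫ η[G].left :=
    congrArg CommaMorphism.left (lift_snd (𝟙 G) (toUnit G ≫ η[G]))
  exact omega_iso_pullback_conormal G.hom G.hom η[G].left he μ[G].left (isPullback_mul G) _ hkc hk2

end Grp

section Free

/-- A quasi-coherent module on the spectrum of a ring over which all modules are free is free. -/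
theorem exists_iso_free_spec (R : CommRingCat.{u})
    (hfree : ∀ M : ModuleCat.{u} R, Module.Free R M)
    (C : (Spec R).Modules) [C.IsQuasicoherent] :
    ∃ I : Type u, Nonempty (C ≅ ∐ fun _ : I => Coh.structureModule (Spec R)) := by
  haveI : IsIso C.fromTildeΓ := Scheme.Modules.isIso_fromTildeΓ_of_isQuasicoherent C
  obtain ⟨M, hM⟩ : ∃ M : ModuleCat.{u} R, M = (modulesSpecToSheaf.obj C).presheaf.obj (.op ⊤) :=
    ⟨_, rfl⟩
  haveI := hfree M
  have e₁ : M ≅ ModuleCat.of R (Module.Free.ChooseBasisIndex R M →₀ R) :=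
    (Module.Free.chooseBasis R M).repr.toModuleIso
  have e₀ : tilde M ≅ C := by
    subst hM
    exact asIso C.fromTildeΓ
  exact ⟨Module.Free.ChooseBasisIndex R M,
    ⟨e₀.symm ≪≫ (tilde.functor R).mapIso e₁ ≪≫ tildeFinsupp _⟩⟩

variable {X S : Scheme.{u}} (f : X ⟶ S)

/-- Pullbacks of free modules are free. -/
noncomputable def pullbackFreeIso' (I : Type u) :
    (Scheme.Modules.pullback f).obj (∐ fun _ : I => Coh.structureModule S) ≅
      ∐ fun _ : I => Coh.structureModule X :=
  PreservesCoproduct.iso (Scheme.Modules.pullback f) (fun _ : I => Coh.structureModule S) ≪≫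
    Sigma.mapIso (fun _ => PBH8.pullbackUnitIso f)

theorem exists_iso_free_pullback (K : Type u) [Field K] (a : S ≅ Spec (CommRingCat.of K))
    (C : S.Modules) [C.IsQuasicoherent] :
    ∃ I : Type u, Nonempty ((Scheme.Modules.pullback f).obj C ≅
      ∐ fun _ : I => Coh.structureModule X) := by
  have hfree : ∀ M : ModuleCat.{u} (CommRingCat.of K), Module.Free (CommRingCat.of K) M := by
    intro M
    letI : Field (CommRingCat.of K) := inferInstanceAs (Field K)
    exact Module.Free.of_divisionRing _ _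
  obtain ⟨I, ⟨β⟩⟩ := exists_iso_free_spec (CommRingCat.of K) hfree
    ((Scheme.Modules.pullback a.inv).obj C)
  refine ⟨I, ⟨?_⟩⟩
  have e1 : C ≅ (Scheme.Modules.pullback a.hom).obj ((Scheme.Modules.pullback a.inv).obj C) :=
    ((DescH8.pbIso a.hom a.inv (𝟙 S) a.hom_inv_id).app C ≪≫
      (Scheme.Modules.pullbackId S).app C).symm
  exact (Scheme.Modules.pullback f).mapIso e1 ≪≫
    (DescH8.pbIso f a.hom (f ≫ a.hom) rfl).app ((Scheme.Modules.pullback a.inv).obj C) ≪≫
    (Scheme.Modules.pullback (f ≫ a.hom)).mapIso β ≪≫ pullbackFreeIso' (f ≫ a.hom) I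

end Free

section Main

variable {S : Scheme.{u}} (G : Over S) [GrpObj G]

theorem main1937 [QuasiSeparated G.hom] :
    Nonempty (Omega.sheaf G.hom ≅
      (Scheme.Modules.pullback G.hom).obj (Omega.conormal η[G].left)) ∧
    ∀ (K : Type u) [Field K], Nonempty (S ≅ Spec (CommRingCat.of K)) →
      ∃ I : Type u, Nonempty (Omega.sheaf G.hom ≅ ∐ fun _ : I => Coh.structureModule G.left) := by
  obtain ⟨θ⟩ := main1937a G
  refine ⟨⟨θ⟩, fun K _ ⟨a⟩ => ?_⟩
  haveI qc1 : (ClSub.idealMod (η[G].left).ker).IsQuasicoherent :=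
    Groth.Agent.Lib.OmegaAffH4.isQuasicoherent_idealMod _
  haveI qc2 : (Omega.conormal η[G].left).IsQuasicoherent := by
    unfold Omega.conormal
    infer_instance
  obtain ⟨I, ⟨β⟩⟩ := exists_iso_free_pullback G.hom K a (Omega.conormal η[G].left)
  exact ⟨I, ⟨θ ≪≫ β⟩⟩

end Main

end Groth.Agent.Lib.GrpdOmegaH7
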