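import Mathlib

/-!
# Coefficientwise lifts to multivariate polynomial rings (helper6)

* `coeffMap φ` applies an additive map coefficientwise.
* `polyLift s ι`: a retract presentation `ι : B → A^n` of `B` over `A` (via `s`) induces one of
  `B[σ]` over `A[σ]` (via `map s`).
* `isPushout_mvPoly`: `MvPolynomial σ` preserves pushout squares of commutative rings.
-/

set_option autoImplicit false
set_option linter.style.haveILetI false
universe u

open CategoryTheory CategoryTheory.Limits

namespace Groth.Agent.Lib.GrpdPolyH6

section coeffMap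

variable {A B : Type u} [CommRing A] [CommRing B] (σ : Type)

/-- Coefficientwise application of an additive map. -/
noncomputable def coeffMap (φ : B →+ A) (p : MvPolynomial σ B) : MvPolynomial σ A :=
  p.support.sum fun m => MvPolynomial.monomial m (φ (p.coeff m))

variable {σ}

lemma coeff_coeffMap (φ : B →+ A) (p : MvPolynomial σ B) (m : σ →₀ ℕ) :
    (coeffMap σ φ p).coeff m = φ (p.coeff m) := by
  classical
  unfold coeffMap
  rw [MvPolynomial.coeff_sum]
  simp only [MvPolynomial.coeff_monomial]
  rw [Finset.sum_ite_eq']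
  split_ifs with h
  · rfl
  · rw [MvPolynomial.notMem_support_iff.mp h, map_zero]

lemma coeffMap_add (φ : B →+ A) (p q : MvPolynomial σ B) :
    coeffMap σ φ (p + q) = coeffMap σ φ p + coeffMap σ φ q := by
  ext m
  rw [MvPolynomial.coeff_add, coeff_coeffMap, coeff_coeffMap, coeff_coeffMap,
    MvPolynomial.coeff_add, map_add]

lemma coeffMap_C (φ : B →+ A) (b : B) :
    coeffMap σ φ (MvPolynomial.C b) = MvPolynomial.C (φ b) := by
  classical
  ext m
  rw [coeff_coeffMap, MvPolynomial.coeff_C, MvPolynomial.coeff_C]
  split_ifs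
  · rfl
  · exact map_zero φ

end coeffMap

section polyLift

variable {A B : Type u} [CommRing A] [CommRing B] (s : A →+* B) (σ : Type) {n : ℕ}
  (ι : letI := s.toAlgebra; B →ₗ[A] (Fin n → A))

/-- The lift of a linear map `B → A^n` to polynomial rings. -/
noncomputable def polyLift :
    letI := s.toAlgebra
    letI := (MvPolynomial.map (σ := σ) s).toAlgebra
    MvPolynomial σ B →ₗ[MvPolynomial σ A] (Fin n → MvPolynomial σ A) :=
  letI algAB : Algebra A B := s.toAlgebra
  letI algP : Algebra (MvPolynomial σ A) (MvPolynomial σ B) :=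
    (MvPolynomial.map (σ := σ) s).toAlgebra
  { toFun := fun p k => coeffMap σ ((LinearMap.proj k ∘ₗ ι).toAddMonoidHom) p
    map_add' := fun p q => by
      funext k
      exact coeffMap_add _ p q
    map_smul' := fun q p => by
      classical
      funext k
      show coeffMap σ _ (q • p) = q * coeffMap σ _ p
      ext m
      have hsm : q • p = MvPolynomial.map s q * p := Algebra.smul_def q p
      rw [hsm, coeff_coeffMap, MvPolynomial.coeff_mul, MvPolynomial.coeff_mul, map_sum]
      refine Finset.sum_congr rfl fun x _ => ?_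
      rw [MvPolynomial.coeff_map, coeff_coeffMap]
      show ι (s (q.coeff x.1) * p.coeff x.2) k = q.coeff x.1 * ι (p.coeff x.2) k
      have : s (q.coeff x.1) * p.coeff x.2 = (q.coeff x.1) • p.coeff x.2 :=
        (Algebra.smul_def _ _).symm
      rw [this, map_smul]
      rfl }

lemma polyLift_apply (p : MvPolynomial σ B) (k : Fin n) (m : σ →₀ ℕ) :
    letI := s.toAlgebra
    (polyLift s σ ι p k).coeff m = ι (p.coeff m) k := by
  letI algAB : Algebra A B := s.toAlgebra
  exact coeff_coeffMap _ p m

lemma polyLift_C (b : B) (k : Fin n) :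
    letI := s.toAlgebra
    polyLift s σ ι (MvPolynomial.C b) k = MvPolynomial.C (ι b k) := by
  letI algAB : Algebra A B := s.toAlgebra
  exact coeffMap_C _ b

lemma polyLift_presentation (w : Fin n → B)
    (hw : letI := s.toAlgebra; ∀ b, ∑ i, ι b i • w i = b) (p : MvPolynomial σ B) :
    letI := s.toAlgebra
    letI := (MvPolynomial.map (σ := σ) s).toAlgebra
    ∑ i, polyLift s σ ι p i • (MvPolynomial.C (w i) : MvPolynomial σ B) = p := by
  letI algAB : Algebra A B := s.toAlgebra
  letI algP : Algebra (MvPolynomial σ A) (MvPolynomial σ B) :=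
    (MvPolynomial.map (σ := σ) s).toAlgebra
  ext m
  rw [MvPolynomial.coeff_sum]
  have : ∀ i, (polyLift s σ ι p i • (MvPolynomial.C (w i) : MvPolynomial σ B)).coeff m =
      ι (p.coeff m) i • w i := by
    intro i
    have hsm : polyLift s σ ι p i • (MvPolynomial.C (w i) : MvPolynomial σ B) =
        MvPolynomial.map s (polyLift s σ ι p i) * MvPolynomial.C (w i) := Algebra.smul_def _ _
    rw [hsm, mul_comm, MvPolynomial.coeff_C_mul, MvPolynomial.coeff_map, polyLift_apply,
      Algebra.smul_def, mul_comm]
    rfl
  simp only [this]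
  exact hw _

end polyLift

end Groth.Agent.Lib.GrpdPolyH6
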