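import Mathlib
import Groth.Agent.Lib.GrpdPoly1_helper6
import Groth.Agent.Lib.GrpdRing1_helper6

/-!
# The polynomial extension of a ring groupoid (helper6)
-/

set_option autoImplicit false
set_option linter.style.haveILetI false
universe u

open CategoryTheory CategoryTheory.Limits
open Groth.Agent.Lib.GrpdRingH6

namespace Groth.Agent.Lib.GrpdPolyH6

/-- `MvPolynomial σ` on morphisms of `CommRingCat`. -/
noncomputable abbrev pmap (σ : Type) {A B : CommRingCat.{u}} (f : A ⟶ B) :
    CommRingCat.of (MvPolynomial σ A) ⟶ CommRingCat.of (MvPolynomial σ B) :=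
  CommRingCat.ofHom (MvPolynomial.map f.hom)

lemma pmap_comp (σ : Type) {A B C : CommRingCat.{u}} (f : A ⟶ B) (g : B ⟶ C) :
    pmap σ f ≫ pmap σ g = pmap σ (f ≫ g) := by
  ext1
  apply RingHom.ext
  intro p
  show MvPolynomial.map g.hom (MvPolynomial.map f.hom p) = MvPolynomial.map (g.hom.comp f.hom) p
  exact MvPolynomial.map_map _ _ p

lemma pmap_id (σ : Type) (A : CommRingCat.{u}) : pmap σ (𝟙 A) = 𝟙 _ := by
  ext1
  apply RingHom.ext
  intro p
  show MvPolynomial.map (RingHom.id A) p = p
  exact MvPolynomial.map_id p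

/-- `MvPolynomial σ` preserves pushout squares. -/
theorem isPushout_mvPoly (σ : Type) {R A' B' P : CommRingCat.{u}} {f : R ⟶ A'} {g : R ⟶ B'}
    {inl : A' ⟶ P} {inr : B' ⟶ P} (h : IsPushout f g inl inr) :
    IsPushout (pmap σ f) (pmap σ g) (pmap σ inl) (pmap σ inr) := by
  have hw : pmap σ f ≫ pmap σ inl = pmap σ g ≫ pmap σ inr := by
    rw [pmap_comp, pmap_comp, h.w]
  refine ⟨⟨hw⟩, ⟨PushoutCocone.IsColimit.mk hw ?_ ?_ ?_ ?_⟩⟩
  · -- desc
    intro c
    have hc := c.condition
    have hcomm : f ≫ (CommRingCat.ofHom (MvPolynomial.C (σ := σ)) ≫ c.inl) =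
        g ≫ (CommRingCat.ofHom (MvPolynomial.C (σ := σ)) ≫ c.inr) := by
      ext x
      have := congrArg (fun φ => φ.hom (MvPolynomial.C x)) hc
      simpa using this
    exact CommRingCat.ofHom (MvPolynomial.eval₂Hom
      (h.desc _ _ hcomm).hom (fun i => c.inl.hom (MvPolynomial.X i)))
  · -- fac_left
    intro c
    ext1
    apply MvPolynomial.ringHom_ext
    · intro a
      have hcomm : f ≫ (CommRingCat.ofHom (MvPolynomial.C (σ := σ)) ≫ c.inl) =
          g ≫ (CommRingCat.ofHom (MvPolynomial.C (σ := σ)) ≫ c.inr) := by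
        ext x
        have := congrArg (fun φ => φ.hom (MvPolynomial.C x)) c.condition
        simpa using this
      have h1 := congrArg (fun φ => φ.hom a) (h.inl_desc _ _ hcomm)
      show MvPolynomial.eval₂Hom (h.desc _ _ hcomm).hom (fun i => c.inl.hom (MvPolynomial.X i))
        (MvPolynomial.map inl.hom (MvPolynomial.C a)) = c.inl.hom (MvPolynomial.C a)
      rw [MvPolynomial.map_C, MvPolynomial.eval₂Hom_C]
      exact h1
    · intro i
      simp
  · -- fac_right
    intro c
    ext1
    apply MvPolynomial.ringHom_ext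
    · intro b
      have hcomm : f ≫ (CommRingCat.ofHom (MvPolynomial.C (σ := σ)) ≫ c.inl) =
          g ≫ (CommRingCat.ofHom (MvPolynomial.C (σ := σ)) ≫ c.inr) := by
        ext x
        have := congrArg (fun φ => φ.hom (MvPolynomial.C x)) c.condition
        simpa using this
      have h1 := congrArg (fun φ => φ.hom b) (h.inr_desc _ _ hcomm)
      show MvPolynomial.eval₂Hom (h.desc _ _ hcomm).hom (fun i => c.inl.hom (MvPolynomial.X i))
        (MvPolynomial.map inr.hom (MvPolynomial.C b)) = c.inr.hom (MvPolynomial.C b)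
      rw [MvPolynomial.map_C, MvPolynomial.eval₂Hom_C]
      exact h1
    · intro i
      have := congrArg (fun φ => φ.hom (MvPolynomial.X i)) c.condition
      simpa using this
  · -- uniq
    intro c m hm1 hm2
    ext1
    apply MvPolynomial.ringHom_ext
    · intro p
      have hcomm : f ≫ (CommRingCat.ofHom (MvPolynomial.C (σ := σ)) ≫ c.inl) =
          g ≫ (CommRingCat.ofHom (MvPolynomial.C (σ := σ)) ≫ c.inr) := by
        ext x
        have := congrArg (fun φ => φ.hom (MvPolynomial.C x)) c.condition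
        simpa using this
      have hext : CommRingCat.ofHom (MvPolynomial.C (σ := σ)) ≫ m = h.desc _ _ hcomm := by
        apply h.hom_ext
        · rw [h.inl_desc]
          ext a
          have := congrArg (fun φ => φ.hom (MvPolynomial.C a)) hm1
          simpa using this
        · rw [h.inr_desc]
          ext b
          have := congrArg (fun φ => φ.hom (MvPolynomial.C b)) hm2
          simpa using this
      have h1 := congrArg (fun φ => φ.hom p) hext
      simpa using h1
    · intro i
      have := congrArg (fun φ => φ.hom (MvPolynomial.X i)) hm1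
      simpa using this

/-- The polynomial extension of a ring groupoid. -/
noncomputable def mvPoly {A B P : CommRingCat.{u}} (𝒢 : RingGrpd A B P) (σ : Type) :
    RingGrpd (CommRingCat.of (MvPolynomial σ A)) (CommRingCat.of (MvPolynomial σ B))
      (CommRingCat.of (MvPolynomial σ P)) where
  s := pmap σ 𝒢.s
  t := pmap σ 𝒢.t
  e := pmap σ 𝒢.e
  p₀ := pmap σ 𝒢.p₀
  p₁ := pmap σ 𝒢.p₁
  c := pmap σ 𝒢.c
  es := by rw [pmap_comp, 𝒢.es, pmap_id]
  et := by rw [pmap_comp, 𝒢.et, pmap_id]
  ct := by rw [pmap_comp, pmap_comp, 𝒢.ct]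
  cs := by rw [pmap_comp, pmap_comp, 𝒢.cs]
  po1 := isPushout_mvPoly σ 𝒢.po1
  po2 := isPushout_mvPoly σ 𝒢.po2

end Groth.Agent.Lib.GrpdPolyH6
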