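import Mathlib
import Groth.Agent.Lib.GrpdPoly2_helper6

/-!
# Generic norms have invariant coefficients (helper6)
-/

set_option autoImplicit false
set_option linter.style.haveILetI false
universe u

open CategoryTheory CategoryTheory.Limits
open Groth.Agent.Lib.GrpdRingH6 Groth.Agent.Lib.GrpdNormH6

namespace Groth.Agent.Lib.GrpdPolyH6

variable {A B P : CommRingCat.{u}} (𝒢 : RingGrpd A B P)

/-- The norm (along `s`) of `t F`, for a polynomial `F` over `A`, has invariant coefficients. -/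
theorem coeff_nrm_mem_inv (n : ℕ) (w : Fin n → B)
    (ι : letI := 𝒢.s.hom.toAlgebra; B →ₗ[A] (Fin n → A))
    (hw : letI := 𝒢.s.hom.toAlgebra; ∀ a, ∑ i, ι a i • w i = a)
    (σ : Type) (F : MvPolynomial σ A) (m : σ →₀ ℕ) :
    letI := 𝒢.s.hom.toAlgebra
    letI := (MvPolynomial.map (σ := σ) 𝒢.s.hom).toAlgebra
    (nrm n (fun i => (MvPolynomial.C (w i) : MvPolynomial σ B)) (polyLift 𝒢.s.hom σ ι)
      (MvPolynomial.map 𝒢.t.hom F)).coeff m ∈ 𝒢.inv := by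
  letI algAB : Algebra A B := 𝒢.s.hom.toAlgebra
  letI algP : Algebra (MvPolynomial σ A) (MvPolynomial σ B) :=
    (MvPolynomial.map (σ := σ) 𝒢.s.hom).toAlgebra
  have hb : (mvPoly 𝒢 σ).c.hom (MvPolynomial.map 𝒢.t.hom F) =
      (mvPoly 𝒢 σ).p₀.hom (MvPolynomial.map 𝒢.t.hom F) := by
    show MvPolynomial.map 𝒢.c.hom (MvPolynomial.map 𝒢.t.hom F) =
      MvPolynomial.map 𝒢.p₀.hom (MvPolynomial.map 𝒢.t.hom F)
    rw [MvPolynomial.map_map, MvPolynomial.map_map]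
    have hct : 𝒢.c.hom.comp 𝒢.t.hom = 𝒢.p₀.hom.comp 𝒢.t.hom :=
      congrArg CommRingCat.Hom.hom 𝒢.ct
    rw [hct]
  have h1 := RingGrpd.nrm_invariant (mvPoly 𝒢 σ) n (fun i => (MvPolynomial.C (w i) : MvPolynomial σ B))
    (polyLift 𝒢.s.hom σ ι) (polyLift_presentation 𝒢.s.hom σ ι w hw)
    (MvPolynomial.map 𝒢.t.hom F) hb
  have h2 := congrArg (fun p => MvPolynomial.coeff m p) h1
  show 𝒢.s.hom _ = 𝒢.t.hom _
  have h3 : ∀ q : MvPolynomial σ A, MvPolynomial.coeff m ((mvPoly 𝒢 σ).s.hom q) =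
      𝒢.s.hom (MvPolynomial.coeff m q) := fun q => MvPolynomial.coeff_map _ _ _
  have h4 : ∀ q : MvPolynomial σ A, MvPolynomial.coeff m ((mvPoly 𝒢 σ).t.hom q) =
      𝒢.t.hom (MvPolynomial.coeff m q) := fun q => MvPolynomial.coeff_map _ _ _
  simp only [h3, h4] at h2
  exact h2

end Groth.Agent.Lib.GrpdPolyH6
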