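import Mathlib
import Groth.Agent.Lib.GrpdPoly1_helper6
import Groth.Agent.Lib.GrpdNorm1_helper6
import Groth.Agent.Lib.GrpdIdem_helper6

/-!
# Specialising the generic norm (helper6)

For rings `s t : A → B`, a retract presentation `(w, ι)` of `B` over `A` (via `s`), elements
`a_j : A` and a ring hom `jA : A → A₁` with elements `x_j : A₁`: the generic norm
`nrm (t (X₀ - ∑ a_j X_j))`, specialised along `X₀ ↦ X`, `X_j ↦ x_j`, is the rank polynomial of the
idempotent `E = mat 1` evaluated at `X - ∑ jA(a_j) x_j` — provided `∑ t(a_j) ⊗ x_j` and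
`∑ s(a_j) ⊗ x_j` have the same matrices.
-/

set_option autoImplicit false
set_option linter.style.haveILetI false
universe u

open Groth.Agent.Lib.GrpdNormH6 Groth.Agent.Lib.GrpdIdemH6

namespace Groth.Agent.Lib.GrpdPolyH6

section

variable {A B : Type u} [CommRing A] [CommRing B] (s t : A →+* B) {n : ℕ}
  (w : Fin n → B) (ι : letI := s.toAlgebra; B →ₗ[A] (Fin n → A))

/-- The generic element `X₀ - ∑ a_j X_j`. -/
noncomputable def genF {m : ℕ} (a : Fin m → A) : MvPolynomial (Option (Fin m)) A :=
  MvPolynomial.X none - ∑ j, MvPolynomial.C (a j) * MvPolynomial.X (some j)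

/-- The specialisation `X₀ ↦ X`, `X_j ↦ x_j`. -/
noncomputable def theta {A₁ : Type u} [CommRing A₁] (jA : A →+* A₁) {m : ℕ} (x : Fin m → A₁) :
    MvPolynomial (Option (Fin m)) A →+* Polynomial A₁ :=
  MvPolynomial.eval₂Hom (Polynomial.C.comp jA)
    (fun o => Option.elim o Polynomial.X (fun j => Polynomial.C (x j)))

lemma polyLift_X_mul_C (σ : Type) (o : σ) (b : B) (k : Fin n) :
    letI := s.toAlgebra
    polyLift s σ ι (MvPolynomial.X o * MvPolynomial.C b) k =
      MvPolynomial.X o * MvPolynomial.C (ι b k) := by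
  letI algAB : Algebra A B := s.toAlgebra
  letI algP : Algebra (MvPolynomial σ A) (MvPolynomial σ B) :=
    (MvPolynomial.map (σ := σ) s).toAlgebra
  have h1 : (MvPolynomial.X o * MvPolynomial.C b : MvPolynomial σ B) =
      (MvPolynomial.X o : MvPolynomial σ A) • (MvPolynomial.C b : MvPolynomial σ B) := by
    rw [Algebra.smul_def]
    show _ = MvPolynomial.map s (MvPolynomial.X o) * _
    rw [MvPolynomial.map_X]
  rw [h1, map_smul]
  show MvPolynomial.X o * polyLift s σ ι (MvPolynomial.C b) k = _
  rw [polyLift_C]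

variable (hw : letI := s.toAlgebra; ∀ b, ∑ i, ι b i • w i = b)

include hw in
theorem theta_nrm {A₁ : Type u} [CommRing A₁] (jA : A →+* A₁) {m : ℕ} (a : Fin m → A)
    (x : Fin m → A₁)
    (hyp : ∀ k i, ∑ j, jA (ι (t (a j) * w i) k) * x j = ∑ j, jA (ι (s (a j) * w i) k) * x j) :
    letI := s.toAlgebra
    letI := (MvPolynomial.map (σ := Option (Fin m)) s).toAlgebra
    theta jA x (nrm n (fun i => (MvPolynomial.C (w i) : MvPolynomial (Option (Fin m)) B))
      (polyLift s (Option (Fin m)) ι) (MvPolynomial.map t (genF a))) =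
    (chi (mat n w ι 1)).eval₂ (Polynomial.C.comp jA)
      (Polynomial.X - Polynomial.C (∑ j, jA (a j) * x j)) := by
  classical
  letI algAB : Algebra A B := s.toAlgebra
  letI algP : Algebra (MvPolynomial (Option (Fin m)) A) (MvPolynomial (Option (Fin m)) B) :=
    (MvPolynomial.map (σ := Option (Fin m)) s).toAlgebra
  rw [eval₂_chi]
  unfold nrm
  rw [RingHom.map_det]
  congr 1
  ext k i
  -- the entry of the generic matrix
  have hG : (MvPolynomial.map t (genF a) - 1) * (MvPolynomial.C (w i) :
      MvPolynomial (Option (Fin m)) B) =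
      MvPolynomial.X none * MvPolynomial.C (w i) -
        ∑ j, MvPolynomial.X (some j) * MvPolynomial.C (t (a j) * w i) - MvPolynomial.C (w i) := by
    unfold genF
    rw [map_sub, map_sum, MvPolynomial.map_X, sub_mul, sub_mul, one_mul, Finset.sum_mul]
    congr 2
    refine Finset.sum_congr rfl fun j _ => ?_
    rw [map_mul, MvPolynomial.map_C, MvPolynomial.map_X, MvPolynomial.C_mul]
    ring
  have hentry : mat n (fun i => (MvPolynomial.C (w i) : MvPolynomial (Option (Fin m)) B))
      (polyLift s (Option (Fin m)) ι) (MvPolynomial.map t (genF a) - 1) k i =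
      MvPolynomial.X none * MvPolynomial.C (ι (w i) k) -
        ∑ j, MvPolynomial.X (some j) * MvPolynomial.C (ι (t (a j) * w i) k) -
        MvPolynomial.C (ι (w i) k) := by
    rw [mat_apply, hG, map_sub, map_sub, map_sum]
    simp only [Pi.sub_apply, Finset.sum_apply]
    rw [polyLift_X_mul_C, polyLift_C]
    congr 2
    exact Finset.sum_congr rfl fun j _ => polyLift_X_mul_C s ι _ _ _ _
  -- the key identity
  have hkey : ∑ j, jA (ι (t (a j) * w i) k) * x j = (∑ j, jA (a j) * x j) * jA (ι (w i) k) := by
    rw [hyp k i, Finset.sum_mul]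
    refine Finset.sum_congr rfl fun j _ => ?_
    have h1 : s (a j) * w i = a j • w i := (Algebra.smul_def _ _).symm
    rw [h1, map_smul]
    show jA (a j * ι (w i) k) * x j = _
    rw [map_mul]; ring
  simp only [RingHom.mapMatrix_apply, Matrix.map_apply, Matrix.add_apply, Matrix.sub_apply,
    Matrix.smul_apply, smul_eq_mul]
  rw [hentry]
  have hE : mat n w ι 1 k i = ι (w i) k := by rw [mat_apply, one_mul]
  rw [hE]
  unfold theta
  simp only [map_add, map_sub, map_mul, map_sum, MvPolynomial.eval₂Hom_X', MvPolynomial.eval₂Hom_C,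
    Option.elim, RingHom.comp_apply]
  have h2 : ∑ j, Polynomial.C (x j) * Polynomial.C (jA (ι (t (a j) * w i) k)) =
      (∑ j, Polynomial.C (jA (a j)) * Polynomial.C (x j)) * Polynomial.C (jA (ι (w i) k)) := by
    have h3 : ∑ j, Polynomial.C (jA (a j)) * Polynomial.C (x j) =
        Polynomial.C (∑ j, jA (a j) * x j) := by
      rw [map_sum]
      exact Finset.sum_congr rfl fun j _ => by rw [map_mul]
    rw [h3, ← map_mul, ← hkey, map_sum]
    exact Finset.sum_congr rfl fun j _ => by rw [← map_mul, mul_comm]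
  rw [h2]
  by_cases hki : k = i
  · subst hki
    simp only [Matrix.one_apply_eq, map_one]
    ring
  · simp only [Matrix.one_apply_ne hki, map_zero]
    ring

end

end Groth.Agent.Lib.GrpdPolyH6
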