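import Mathlib
import Groth.Agent.Lib.GrpdPoly3_helper6
import Groth.Agent.Lib.GrpdPoly4_helper6

/-!
# Invariants after base change: integrality up to a power (helper6)
-/

set_option autoImplicit false
set_option linter.style.haveILetI false
universe u

open CategoryTheory CategoryTheory.Limits TensorProduct
open Groth.Agent.Lib.GrpdRingH6 Groth.Agent.Lib.GrpdNormH6 Groth.Agent.Lib.GrpdIdemH6

namespace Groth.Agent.Lib.GrpdPolyH6

/-- Compatibility of the specialisations over a subring. -/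
lemma theta_map_subtype {A A₁ C' : Type u} [CommRing A] [CommRing A₁] [CommRing C']
    (C : Subring A) (κ : C →+* C') (jA : A →+* A₁) (jC : C' →+* A₁)
    (hcompat : ∀ c : C, jA c = jC (κ c)) {m : ℕ} (c' : Fin m → C')
    (q : MvPolynomial (Option (Fin m)) C) :
    theta jA (fun j => jC (c' j)) (MvPolynomial.map C.subtype q) =
      Polynomial.map jC (theta κ c' q) := by
  have h : (theta jA (fun j => jC (c' j))).comp (MvPolynomial.map C.subtype) =
      (Polynomial.mapRingHom jC).comp (theta κ c') := by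
    apply MvPolynomial.ringHom_ext
    · intro c
      simp only [RingHom.comp_apply, MvPolynomial.map_C, theta, MvPolynomial.eval₂Hom_C,
        Polynomial.coe_mapRingHom, Polynomial.map_C]
      rw [← hcompat]
      rfl
    · intro o
      simp only [RingHom.comp_apply, MvPolynomial.map_X, theta, MvPolynomial.eval₂Hom_X',
        Polynomial.coe_mapRingHom]
      cases o with
      | none => simp
      | some j => simp
  exact congrArg (fun φ => φ q) h

/-- `det (1 - E) = 0` when `E` fixes a unimodular vector. -/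
lemma det_one_sub_eq_zero {R : Type u} [CommRing R] {n : ℕ} (E : Matrix (Fin n) (Fin n) R)
    (v l : Fin n → R) (hv : E.mulVec v = v) (hl : ∑ i, l i * v i = 1) : (1 - E).det = 0 := by
  have h1 : (1 - E).mulVec v = 0 := by
    rw [Matrix.sub_mulVec, Matrix.one_mulVec, hv, sub_self]
  have h2 : ((1 - E).adjugate * (1 - E)).mulVec v = 0 := by
    rw [← Matrix.mulVec_mulVec, h1, Matrix.mulVec_zero]
  rw [Matrix.adjugate_mul, Matrix.smul_mulVec, Matrix.one_mulVec] at h2
  have h3 : ∀ i, (1 - E).det * v i = 0 := fun i => by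
    have := congrFun h2 i
    simpa using this
  have h4 : (1 - E).det = (1 - E).det * ∑ i, l i * v i := by rw [hl, mul_one]
  rw [h4, Finset.mul_sum]
  refine Finset.sum_eq_zero fun i _ => ?_
  rw [mul_left_comm, h3, mul_zero]

variable {A B P : CommRingCat.{u}} (𝒢 : RingGrpd A B P)

section pres

variable (n : ℕ) (w : Fin n → B)
  (ι : letI := 𝒢.s.hom.toAlgebra; B →ₗ[A] (Fin n → A))
  (hw : letI := 𝒢.s.hom.toAlgebra; ∀ a, ∑ i, ι a i • w i = a)

include hw in
lemma mat_one_idem :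
    letI := 𝒢.s.hom.toAlgebra
    mat n w ι 1 * mat n w ι 1 = mat n w ι 1 := by
  letI algAB : Algebra A B := 𝒢.s.hom.toAlgebra
  rw [mat_mul hw, one_mul]

include hw in
lemma chi_coeff_zero :
    letI := 𝒢.s.hom.toAlgebra
    (chi (mat n w ι 1)).coeff 0 = 0 := by
  letI algAB : Algebra A B := 𝒢.s.hom.toAlgebra
  rw [coeff_zero_chi]
  refine det_one_sub_eq_zero _ (ι (1 : B)) (fun i => 𝒢.e.hom (w i)) ?_ ?_
  · have := mat_mulVec hw (1 : B) (1 : B)
    rwa [one_mul] at this
  · have h1 : ∑ i, 𝒢.e.hom (ι (1 : B) i • w i) = 1 := by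
      rw [← map_sum, hw (1 : B)]
      exact map_one 𝒢.e.hom
    rw [← h1]
    refine Finset.sum_congr rfl fun i _ => ?_
    rw [Algebra.smul_def, map_mul]
    have : 𝒢.e.hom (algebraMap A B (ι (1 : B) i)) = ι (1 : B) i := 𝒢.es_apply _
    rw [this, mul_comm]

include hw in
/-- The coefficients of the rank polynomial are invariant. -/
lemma chi_coeff_mem_inv (r : ℕ) :
    letI := 𝒢.s.hom.toAlgebra
    (chi (mat n w ι 1)).coeff r ∈ 𝒢.inv := by
  letI algAB : Algebra A B := 𝒢.s.hom.toAlgebra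
  letI algP : Algebra (MvPolynomial (Option (Fin 0)) A) (MvPolynomial (Option (Fin 0)) B) :=
    (MvPolynomial.map (σ := Option (Fin 0)) 𝒢.s.hom).toAlgebra
  obtain ⟨N₃, hN₃⟩ : ∃ N₃ : MvPolynomial (Option (Fin 0)) A, N₃ =
      nrm n (fun i => (MvPolynomial.C (w i) : MvPolynomial (Option (Fin 0)) B))
        (polyLift 𝒢.s.hom (Option (Fin 0)) ι)
        (MvPolynomial.map 𝒢.t.hom (genF (Fin.elim0 : Fin 0 → A))) := ⟨_, rfl⟩
  have hcoef : ∀ mm, N₃.coeff mm ∈ 𝒢.inv := fun mm => by
    rw [hN₃]; exact coeff_nrm_mem_inv 𝒢 n w ι hw _ _ mm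
  have hrange : N₃ ∈ Set.range (MvPolynomial.map (σ := Option (Fin 0)) 𝒢.inv.subtype) := by
    rw [MvPolynomial.mem_range_map_iff_coeffs_subset]
    intro y hy
    obtain ⟨mm, -, rfl⟩ := MvPolynomial.mem_coeffs_iff.mp hy
    exact ⟨⟨_, hcoef mm⟩, rfl⟩
  obtain ⟨N_C, hN_C⟩ := hrange
  have h1 := theta_nrm 𝒢.s.hom 𝒢.t.hom w ι hw (RingHom.id A) (Fin.elim0 : Fin 0 → A)
    (Fin.elim0 : Fin 0 → A) (fun k i => by simp)
  rw [← hN₃, ← hN_C] at h1
  have h2 := theta_map_subtype 𝒢.inv (RingHom.id 𝒢.inv) (RingHom.id A) 𝒢.inv.subtype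
    (fun c => rfl) (Fin.elim0 : Fin 0 → 𝒢.inv) N_C
  have hx : (fun j => 𝒢.inv.subtype ((Fin.elim0 : Fin 0 → 𝒢.inv) j)) =
      (Fin.elim0 : Fin 0 → A) := by funext j; exact j.elim0
  rw [hx, h1] at h2
  have h3 : (chi (mat n w ι 1)).eval₂ (Polynomial.C.comp (RingHom.id A))
      (Polynomial.X - Polynomial.C (∑ j, (RingHom.id A) ((Fin.elim0 : Fin 0 → A) j) *
        (Fin.elim0 : Fin 0 → A) j)) = chi (mat n w ι 1) := by
    simp only [Finset.univ_eq_empty, Finset.sum_empty, map_zero, sub_zero, RingHom.comp_id]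
    exact Polynomial.eval₂_C_X
  rw [h3] at h2
  rw [h2, Polynomial.coeff_map]
  exact SetLike.coe_mem _

end pres

end Groth.Agent.Lib.GrpdPolyH6
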