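import Mathlib
import Groth.Agent.Lib.GrpdPoly5_helper6

/-!
# Invariants after base change: `(X - f)^N` is defined over `C'` (helper6)
-/

set_option autoImplicit false
set_option linter.style.haveILetI false
universe u

open CategoryTheory CategoryTheory.Limits TensorProduct
open Groth.Agent.Lib.GrpdRingH6 Groth.Agent.Lib.GrpdNormH6 Groth.Agent.Lib.GrpdIdemH6

namespace Groth.Agent.Lib.GrpdPolyH6

variable {A B P : CommRingCat.{u}} (𝒢 : RingGrpd A B P)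

section pres

variable (n : ℕ) (w : Fin n → B)
  (ι : letI := 𝒢.s.hom.toAlgebra; B →ₗ[A] (Fin n → A))
  (hw : letI := 𝒢.s.hom.toAlgebra; ∀ a, ∑ i, ι a i • w i = a)

/-- The matrix entries as linear maps over the invariants. -/
noncomputable def entryLin (k i : Fin n) :
    letI : Algebra 𝒢.inv B := (𝒢.s.hom.comp 𝒢.inv.subtype).toAlgebra
    B →ₗ[𝒢.inv] A :=
  letI algAB : Algebra A B := 𝒢.s.hom.toAlgebra
  letI algCB : Algebra 𝒢.inv B := (𝒢.s.hom.comp 𝒢.inv.subtype).toAlgebra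
  { toFun := fun b => ι (b * w i) k
    map_add' := fun b b' => by rw [add_mul, map_add]; rfl
    map_smul' := fun c b => by
      have h1 : c • b = 𝒢.s.hom (c : A) * b := Algebra.smul_def c b
      have h2 : 𝒢.s.hom (c : A) * b * w i = (c : A) • (b * w i) := by
        rw [mul_assoc]; exact (Algebra.smul_def _ _).symm
      rw [h1, h2, map_smul]
      rfl }

include hw in
theorem exists_poly_pow (C' : Type u) [CommRing C'] [Algebra 𝒢.inv C'] {m : ℕ} (a : Fin m → A)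
    (c' : Fin m → C')
    (hf : letI : Algebra 𝒢.inv B := (𝒢.s.hom.comp 𝒢.inv.subtype).toAlgebra
      (∑ j, 𝒢.s.hom (a j) ⊗ₜ[𝒢.inv] c' j : (B : Type u) ⊗[𝒢.inv] C') =
        ∑ j, 𝒢.t.hom (a j) ⊗ₜ[𝒢.inv] c' j) :
    ∃ (N : ℕ) (Q : Polynomial C'), 0 < N ∧
      Polynomial.map (Algebra.TensorProduct.includeRight :
        C' →ₐ[𝒢.inv] (A : Type u) ⊗[𝒢.inv] C').toRingHom Q =
        (Polynomial.X - Polynomial.C (∑ j, a j ⊗ₜ[𝒢.inv] c' j)) ^ N := by
  classical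
  letI algAB : Algebra A B := 𝒢.s.hom.toAlgebra
  letI algCB : Algebra 𝒢.inv B := (𝒢.s.hom.comp 𝒢.inv.subtype).toAlgebra
  letI algP : Algebra (MvPolynomial (Option (Fin m)) A) (MvPolynomial (Option (Fin m)) B) :=
    (MvPolynomial.map (σ := Option (Fin m)) 𝒢.s.hom).toAlgebra
  obtain ⟨jA, hjA⟩ : ∃ jA : A →+* (A : Type u) ⊗[𝒢.inv] C',
      jA = Algebra.TensorProduct.includeLeftRingHom := ⟨_, rfl⟩
  obtain ⟨jC, hjC⟩ : ∃ jC : C' →+* (A : Type u) ⊗[𝒢.inv] C',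
      jC = (Algebra.TensorProduct.includeRight :
        C' →ₐ[𝒢.inv] (A : Type u) ⊗[𝒢.inv] C').toRingHom := ⟨_, rfl⟩
  have hjA' : ∀ y : A, jA y = y ⊗ₜ[𝒢.inv] (1 : C') := fun y => by rw [hjA]; rfl
  have hjC' : ∀ c : C', jC c = (1 : A) ⊗ₜ[𝒢.inv] c := fun c => by rw [hjC]; rfl
  have hmul : ∀ (y : A) (c : C'), jA y * jC c = y ⊗ₜ[𝒢.inv] c := fun y c => by
    rw [hjA', hjC', Algebra.TensorProduct.tmul_mul_tmul, mul_one, one_mul]
  have hcompat : ∀ c : 𝒢.inv, jA c = jC (algebraMap 𝒢.inv C' c) := by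
    intro c
    rw [hjA', hjC']
    have h1 : (c : A) = c • (1 : A) := by
      show (c : A) = (c : A) * 1
      rw [mul_one]
    rw [h1, TensorProduct.smul_tmul, Algebra.smul_def, mul_one]
  -- the hypothesis on matrices
  have hyp : ∀ k i, ∑ j, jA (ι (𝒢.t.hom (a j) * w i) k) * jC (c' j) =
      ∑ j, jA (ι (𝒢.s.hom (a j) * w i) k) * jC (c' j) := by
    intro k i
    have h1 := congrArg (LinearMap.rTensor C' (entryLin 𝒢 n w ι k i)) hf
    rw [map_sum, map_sum] at h1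
    simp only [LinearMap.rTensor_tmul] at h1
    simp only [hmul]
    exact h1.symm
  -- the generic norm
  obtain ⟨N₃, hN₃⟩ : ∃ N₃ : MvPolynomial (Option (Fin m)) A, N₃ =
      nrm n (fun i => (MvPolynomial.C (w i) : MvPolynomial (Option (Fin m)) B))
        (polyLift 𝒢.s.hom (Option (Fin m)) ι)
        (MvPolynomial.map 𝒢.t.hom (genF a)) := ⟨_, rfl⟩
  have hcoef : ∀ mm, N₃.coeff mm ∈ 𝒢.inv := fun mm => by
    rw [hN₃]; exact coeff_nrm_mem_inv 𝒢 n w ι hw _ _ mm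
  have hrange : N₃ ∈ Set.range (MvPolynomial.map (σ := Option (Fin m)) 𝒢.inv.subtype) := by
    rw [MvPolynomial.mem_range_map_iff_coeffs_subset]
    intro y hy
    obtain ⟨mm, -, rfl⟩ := MvPolynomial.mem_coeffs_iff.mp hy
    exact ⟨⟨_, hcoef mm⟩, rfl⟩
  obtain ⟨N_C, hN_C⟩ := hrange
  have h1 := theta_nrm 𝒢.s.hom 𝒢.t.hom w ι hw jA a (fun j => jC (c' j)) hyp
  rw [← hN₃, ← hN_C] at h1
  have h2 := theta_map_subtype 𝒢.inv (algebraMap 𝒢.inv C') jA jC hcompat c' N_C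
  rw [h1] at h2
  have hfsum : ∑ j, jA (a j) * jC (c' j) = ∑ j, a j ⊗ₜ[𝒢.inv] c' j :=
    Finset.sum_congr rfl fun j _ => hmul _ _
  rw [hfsum] at h2
  -- powers from the rank polynomial
  obtain ⟨E, hE⟩ : ∃ E : Matrix (Fin n) (Fin n) A, E = mat n w ι 1 := ⟨_, rfl⟩
  rw [← hE] at h2
  have hidem : E * E = E := by rw [hE]; exact mat_one_idem 𝒢 n w ι hw
  have h0 : (chi E).coeff 0 = 0 := by rw [hE]; exact chi_coeff_zero 𝒢 n w ι hw
  have hinv : ∀ r, (chi E).coeff r ∈ 𝒢.inv := fun r => by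
    rw [hE]; exact chi_coeff_mem_inv 𝒢 n w ι hw r
  have hpow := pow_eq_sum hidem (Polynomial.C.comp jA)
    (Polynomial.X - Polynomial.C (∑ j, a j ⊗ₜ[𝒢.inv] c' j)) n.factorial (Nat.factorial_pos n)
    (fun r hr1 hrn => Nat.dvd_factorial hr1 hrn) h0
  refine ⟨n.factorial, ∑ r ∈ Finset.Icc 1 n,
    Polynomial.C (algebraMap 𝒢.inv C' ⟨(chi E).coeff r, hinv r⟩) *
      (theta (algebraMap 𝒢.inv C') c' N_C) ^ (n.factorial / r), Nat.factorial_pos n, ?_⟩
  rw [hpow, ← hjC, Polynomial.map_sum]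
  refine Finset.sum_congr rfl fun r _ => ?_
  rw [Polynomial.map_mul, Polynomial.map_pow, Polynomial.map_C, ← h2, ← hcompat]
  rfl

end pres

end Groth.Agent.Lib.GrpdPolyH6
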