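import Mathlib

/-!
# Kernels and equalisers after base change along an integral injective extension (helper6)
-/

set_option autoImplicit false
set_option linter.style.haveILetI false
universe u

open CategoryTheory CategoryTheory.Limits TensorProduct AlgebraicGeometry

namespace Groth.Agent.Lib.GrpdPolyH6

/-- Every tensor is a finite sum of pure tensors, indexed by `Fin m`. -/
theorem exists_fin_sum_tmul {R M N : Type u} [CommRing R] [AddCommGroup M] [AddCommGroup N]
    [Module R M] [Module R N] (z : M ⊗[R] N) :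
    ∃ (m : ℕ) (a : Fin m → M) (c : Fin m → N), z = ∑ j, a j ⊗ₜ[R] c j := by
  induction z using TensorProduct.induction_on with
  | zero => exact ⟨0, Fin.elim0, Fin.elim0, by simp⟩
  | tmul x y => exact ⟨1, fun _ => x, fun _ => y, by simp⟩
  | add z z' hz hz' =>
    obtain ⟨m, a, c, rfl⟩ := hz
    obtain ⟨m', a', c', rfl⟩ := hz'
    refine ⟨m + m', Fin.append a a', Fin.append c c', ?_⟩
    rw [Fin.sum_univ_add]
    simp only [Fin.append_left, Fin.append_right]

/-- The kernel of `C' → A ⊗_C C'` is nil when `A` is integral over `C ⊆ A`. -/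
theorem isNilpotent_of_includeRight_eq_zero {C A C' : Type u} [CommRing C] [CommRing A]
    [CommRing C'] [Algebra C A] [Algebra C C'] [Algebra.IsIntegral C A]
    (hinj : Function.Injective (algebraMap C A)) (c' : C')
    (h : (1 : A) ⊗ₜ[C] c' = 0) : IsNilpotent c' := by
  haveI : FaithfulSMul C A := (faithfulSMul_iff_algebraMap_injective _ _).mpr hinj
  haveI hs : Surjective (Spec.map (CommRingCat.ofHom (algebraMap C A))) := by
    rw [surjective_iff]
    exact Algebra.IsIntegral.comap_surjective C A
  have po := CommRingCat.isPushout_tensorProduct C A C'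
  have pb := isPullback_SpecMap_of_isPushout _ _ _ _ po
  have hsurj : Surjective (Spec.map (CommRingCat.ofHom
      (Algebra.TensorProduct.includeRight : C' →ₐ[C] A ⊗[C] C').toRingHom)) :=
    MorphismProperty.of_isPullback (P := @Surjective) pb hs
  rw [nilpotent_iff_mem_prime]
  intro J hJ
  obtain ⟨Q, hQ⟩ := hsurj.surj (⟨J, hJ⟩ : PrimeSpectrum C')
  have h1 : c' ∈ (⟨J, hJ⟩ : PrimeSpectrum C').asIdeal ↔
      (Algebra.TensorProduct.includeRight : C' →ₐ[C] A ⊗[C] C').toRingHom c' ∈ Q.asIdeal := by
    rw [← hQ]; rfl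
  show c' ∈ (⟨J, hJ⟩ : PrimeSpectrum C').asIdeal
  rw [h1]
  have h2 : (Algebra.TensorProduct.includeRight : C' →ₐ[C] A ⊗[C] C').toRingHom c' = 0 := h
  rw [h2]
  exact Q.asIdeal.zero_mem

/-- Flat base change of an equaliser. -/
theorem mem_range_includeRight_of_flat {C A B C' : Type u} [CommRing C] [CommRing A]
    [CommRing B] [CommRing C'] [Algebra C A] [Algebra C B] [Algebra C C'] [Module.Flat C C']
    (s t : A →ₐ[C] B) (heq : ∀ a : A, s a = t a → a ∈ Set.range (algebraMap C A))
    (f : A ⊗[C] C')
    (hf : Algebra.TensorProduct.map s (AlgHom.id C C') f =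
      Algebra.TensorProduct.map t (AlgHom.id C C') f) :
    f ∈ Set.range (Algebra.TensorProduct.includeRight : C' →ₐ[C] A ⊗[C] C') := by
  obtain ⟨d, hd⟩ : ∃ d : A →ₗ[C] B, d = s.toLinearMap - t.toLinearMap := ⟨_, rfl⟩
  have hex : Function.Exact (Algebra.linearMap C A) d := by
    intro a
    constructor
    · intro ha
      rw [hd] at ha
      have : s a = t a := sub_eq_zero.mp ha
      obtain ⟨c, hc⟩ := heq a this
      exact ⟨c, hc⟩
    · rintro ⟨c, rfl⟩
      rw [hd]
      show s (algebraMap C A c) - t (algebraMap C A c) = 0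
      rw [s.commutes, t.commutes, sub_self]
  have hex' := Module.Flat.rTensor_exact C' hex
  have hdf : LinearMap.rTensor C' d f = 0 := by
    have h1 : ∀ z : A ⊗[C] C', LinearMap.rTensor C' d z =
        Algebra.TensorProduct.map s (AlgHom.id C C') z -
          Algebra.TensorProduct.map t (AlgHom.id C C') z := by
      intro z
      induction z using TensorProduct.induction_on with
      | zero => simp
      | tmul a c =>
        rw [LinearMap.rTensor_tmul, hd]
        show (s a - t a) ⊗ₜ[C] c = _
        rw [TensorProduct.sub_tmul]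
        rfl
      | add z z' hz hz' => rw [map_add, map_add, map_add, hz, hz']; abel
    rw [h1, hf, sub_self]
  obtain ⟨z, hz⟩ := (hex' f).mp hdf
  rw [← hz]
  clear hz hdf hf
  induction z using TensorProduct.induction_on with
  | zero => exact ⟨0, by simp⟩
  | tmul c c₁ =>
    refine ⟨c • c₁, ?_⟩
    rw [LinearMap.rTensor_tmul]
    show (1 : A) ⊗ₜ[C] (c • c₁) = algebraMap C A c ⊗ₜ[C] c₁
    rw [TensorProduct.tmul_smul, TensorProduct.smul_tmul', Algebra.smul_def, mul_one]
  | add z z' hz hz' =>
    obtain ⟨y, hy⟩ := hz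
    obtain ⟨y', hy'⟩ := hz'
    exact ⟨y + y', by rw [map_add, map_add, hy, hy']⟩

end Groth.Agent.Lib.GrpdPolyH6
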