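import Mathlib
import Groth.Prelude.Def_Grpd
import Groth.Agent.Lib.GrpdPoly6_helper6
import Groth.Agent.Lib.GrpdPoly7_helper6

/-!
# Invariant functions after base change (helper6): S7487
-/

set_option autoImplicit false
set_option linter.style.haveILetI false
universe u

open CategoryTheory CategoryTheory.Limits TensorProduct AlgebraicGeometry Grpd
open Groth.Agent.Lib.GrpdRingH6

namespace Groth.Agent.Lib.GrpdPolyH6

theorem main7487 (S : Scheme.{u}) (G : Grpd.GroupoidScheme S) [IsAffine G.U] [IsAffine G.R]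
    [IsFinite G.s] [Flat G.s] [LocallyOfFinitePresentation G.s]
    (C' : Type u) [CommRing C'] [Algebra G.invariants C'] :
    letI : Algebra G.invariants Γ(G.R, ⊤) :=
      (G.s.appTop.hom.comp G.invariants.subtype).toAlgebra
    ∀ (sT tT : TensorProduct G.invariants Γ(G.U, ⊤) C' →ₐ[G.invariants]
        TensorProduct G.invariants Γ(G.R, ⊤) C'),
      (∀ (a : Γ(G.U, ⊤)) (c : C'), sT (a ⊗ₜ c) = G.s.appTop.hom a ⊗ₜ c) →
      (∀ (a : Γ(G.U, ⊤)) (c : C'), tT (a ⊗ₜ c) = G.t.appTop.hom a ⊗ₜ c) →
      (∀ f : TensorProduct G.invariants Γ(G.U, ⊤) C', sT f = tT f →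
        ∃ (n : ℕ) (P : Polynomial C'), 0 < n ∧
          Polynomial.map (Algebra.TensorProduct.includeRight :
            C' →ₐ[G.invariants] TensorProduct G.invariants Γ(G.U, ⊤) C').toRingHom P =
            (Polynomial.X - Polynomial.C f) ^ n) ∧
      (∀ c : C', (Algebra.TensorProduct.includeRight :
          C' →ₐ[G.invariants] TensorProduct G.invariants Γ(G.U, ⊤) C') c = 0 → IsNilpotent c) ∧
      (Module.Flat G.invariants C' →
        Function.Injective (Algebra.TensorProduct.includeRight :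
          C' →ₐ[G.invariants] TensorProduct G.invariants Γ(G.U, ⊤) C') ∧
        ∀ f : TensorProduct G.invariants Γ(G.U, ⊤) C', sT f = tT f →
          f ∈ Set.range (Algebra.TensorProduct.includeRight :
            C' →ₐ[G.invariants] TensorProduct G.invariants Γ(G.U, ⊤) C')) := by
  classical
  letI algCB : Algebra G.invariants Γ(G.R, ⊤) :=
    (G.s.appTop.hom.comp G.invariants.subtype).toAlgebra
  intro sT tT hsT htT
  letI algAB : Algebra Γ(G.U, ⊤) Γ(G.R, ⊤) := G.s.appTop.hom.toAlgebra
  haveI hfp : Algebra.FinitePresentation Γ(G.U, ⊤) Γ(G.R, ⊤) :=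
    (HasRingHomProperty.iff_of_isAffine (P := @LocallyOfFinitePresentation)).mp inferInstance
  haveI hflat : Module.Flat Γ(G.U, ⊤) Γ(G.R, ⊤) :=
    (HasRingHomProperty.iff_of_isAffine (P := @Flat)).mp inferInstance
  haveI hfin : Module.Finite Γ(G.U, ⊤) Γ(G.R, ⊤) := Scheme.Hom.finite_appTop G.s
  haveI : Module.FinitePresentation Γ(G.U, ⊤) Γ(G.R, ⊤) :=
    Module.FinitePresentation.of_finite_of_finitePresentation _ _
  haveI hproj : Module.Projective Γ(G.U, ⊤) Γ(G.R, ⊤) :=
    Module.Flat.projective_of_finitePresentation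
  obtain ⟨n, w, ι, hw⟩ := (ofGroupoid G).exists_presentation hfin hproj
  haveI hint : Algebra.IsIntegral G.invariants Γ(G.U, ⊤) :=
    (ofGroupoid G).isIntegral_inv hfin hproj
  refine ⟨?_, ?_, ?_⟩
  · intro f hf
    obtain ⟨m, a, c', rfl⟩ := exists_fin_sum_tmul f
    have hf' : (∑ j, G.s.appTop.hom (a j) ⊗ₜ[G.invariants] c' j :
        TensorProduct G.invariants Γ(G.R, ⊤) C') =
        ∑ j, G.t.appTop.hom (a j) ⊗ₜ[G.invariants] c' j := by
      have h1 : sT (∑ j, a j ⊗ₜ[G.invariants] c' j) =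
          ∑ j, G.s.appTop.hom (a j) ⊗ₜ[G.invariants] c' j := by
        rw [map_sum]; exact Finset.sum_congr rfl fun j _ => hsT _ _
      have h2 : tT (∑ j, a j ⊗ₜ[G.invariants] c' j) =
          ∑ j, G.t.appTop.hom (a j) ⊗ₜ[G.invariants] c' j := by
        rw [map_sum]; exact Finset.sum_congr rfl fun j _ => htT _ _
      rw [← h1, ← h2, hf]
    letI algInv : Algebra (ofGroupoid G).inv C' := ‹Algebra G.invariants C'›
    exact exists_poly_pow (ofGroupoid G) n w ι hw C' a c' hf'
  · intro c hc
    exact isNilpotent_of_includeRight_eq_zero (C := G.invariants) (A := Γ(G.U, ⊤))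
      Subtype.val_injective c hc
  · intro hflatC
    refine ⟨Algebra.TensorProduct.includeRight_injective Subtype.val_injective, ?_⟩
    intro f hf
    let sAlg : Γ(G.U, ⊤) →ₐ[G.invariants] Γ(G.R, ⊤) :=
      { G.s.appTop.hom with commutes' := fun c => rfl }
    let tAlg : Γ(G.U, ⊤) →ₐ[G.invariants] Γ(G.R, ⊤) :=
      { G.t.appTop.hom with commutes' := fun c => c.2.symm }
    have hs' : sT = Algebra.TensorProduct.map sAlg (AlgHom.id G.invariants C') := by
      apply Algebra.TensorProduct.ext'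
      intro a c
      rw [hsT]; rfl
    have ht' : tT = Algebra.TensorProduct.map tAlg (AlgHom.id G.invariants C') := by
      apply Algebra.TensorProduct.ext'
      intro a c
      rw [htT]; rfl
    refine mem_range_includeRight_of_flat sAlg tAlg ?_ f ?_
    · intro a ha
      exact ⟨⟨a, ha⟩, rfl⟩
    · rw [← hs', ← ht', hf]

end Groth.Agent.Lib.GrpdPolyH6
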