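import Mathlib
import Groth.Agent.Lib.GrpdRing1_helper6

/-!
# Polynomial extension of a ring groupoid, variables in `Type u` (helper6)

A copy of `GrpdPoly1_helper6`/`GrpdPoly2_helper6` with the variable set `σ : Type u` living in the
same universe as the rings (the originals have `σ : Type`).
-/

set_option autoImplicit false
set_option linter.style.haveILetI false
universe u

open CategoryTheory CategoryTheory.Limits
open Groth.Agent.Lib.GrpdRingH6

namespace Groth.Agent.Lib.GrpdPolyUH6


section coeffMap

variable {A B : Type u} [CommRing A] [CommRing B] (σ : Type u)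

/-- Coefficientwise application of an additive map. -/
noncomputable def coeffMap (φ : B →+ A) (p : MvPolynomial σ B) : MvPolynomial σ A :=
  p.support.sum fun m => MvPolynomial.monomial m (φ (p.coeff m))

variable {σ}

lemma coeff_coeffMap (φ : B →+ A) (p : MvPolynomial σ B) (m : σ →₀ ℕ) :
    (coeffMap σ φ p).coeff m = φ (p.coeff m) := by
  classical
  unfold coeffMap
  rw [MvPolynomial.coeff_sum]
  simp only [MvPolynomial.coeff_monomial]
  rw [Finset.sum_ite_eq']
  split_ifs with h
  · rfl
  · rw [MvPolynomial.notMem_support_iff.mp h, map_zero]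

lemma coeffMap_add (φ : B →+ A) (p q : MvPolynomial σ B) :
    coeffMap σ φ (p + q) = coeffMap σ φ p + coeffMap σ φ q := by
  ext m
  rw [MvPolynomial.coeff_add, coeff_coeffMap, coeff_coeffMap, coeff_coeffMap,
    MvPolynomial.coeff_add, map_add]

lemma coeffMap_C (φ : B →+ A) (b : B) :
    coeffMap σ φ (MvPolynomial.C b) = MvPolynomial.C (φ b) := by
  classical
  ext m
  rw [coeff_coeffMap, MvPolynomial.coeff_C, MvPolynomial.coeff_C]
  split_ifs
  · rfl
  · exact map_zero φ

end coeffMap

section polyLift

variable {A B : Type u} [CommRing A] [CommRing B] (s : A →+* B) (σ : Type u) {n : ℕ}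
  (ι : letI := s.toAlgebra; B →ₗ[A] (Fin n → A))

/-- The lift of a linear map `B → A^n` to polynomial rings. -/
noncomputable def polyLift :
    letI := s.toAlgebra
    letI := (MvPolynomial.map (σ := σ) s).toAlgebra
    MvPolynomial σ B →ₗ[MvPolynomial σ A] (Fin n → MvPolynomial σ A) :=
  letI algAB : Algebra A B := s.toAlgebra
  letI algP : Algebra (MvPolynomial σ A) (MvPolynomial σ B) :=
    (MvPolynomial.map (σ := σ) s).toAlgebra
  { toFun := fun p k => coeffMap σ ((LinearMap.proj k ∘ₗ ι).toAddMonoidHom) p
    map_add' := fun p q => by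
      funext k
      exact coeffMap_add _ p q
    map_smul' := fun q p => by
      classical
      funext k
      show coeffMap σ _ (q • p) = q * coeffMap σ _ p
      ext m
      have hsm : q • p = MvPolynomial.map s q * p := Algebra.smul_def q p
      rw [hsm, coeff_coeffMap, MvPolynomial.coeff_mul, MvPolynomial.coeff_mul, map_sum]
      refine Finset.sum_congr rfl fun x _ => ?_
      rw [MvPolynomial.coeff_map, coeff_coeffMap]
      show ι (s (q.coeff x.1) * p.coeff x.2) k = q.coeff x.1 * ι (p.coeff x.2) k
      have : s (q.coeff x.1) * p.coeff x.2 = (q.coeff x.1) • p.coeff x.2 :=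
        (Algebra.smul_def _ _).symm
      rw [this, map_smul]
      rfl }

lemma polyLift_apply (p : MvPolynomial σ B) (k : Fin n) (m : σ →₀ ℕ) :
    letI := s.toAlgebra
    (polyLift s σ ι p k).coeff m = ι (p.coeff m) k := by
  letI algAB : Algebra A B := s.toAlgebra
  exact coeff_coeffMap _ p m

lemma polyLift_C (b : B) (k : Fin n) :
    letI := s.toAlgebra
    polyLift s σ ι (MvPolynomial.C b) k = MvPolynomial.C (ι b k) := by
  letI algAB : Algebra A B := s.toAlgebra
  exact coeffMap_C _ b

lemma polyLift_presentation (w : Fin n → B)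
    (hw : letI := s.toAlgebra; ∀ b, ∑ i, ι b i • w i = b) (p : MvPolynomial σ B) :
    letI := s.toAlgebra
    letI := (MvPolynomial.map (σ := σ) s).toAlgebra
    ∑ i, polyLift s σ ι p i • (MvPolynomial.C (w i) : MvPolynomial σ B) = p := by
  letI algAB : Algebra A B := s.toAlgebra
  letI algP : Algebra (MvPolynomial σ A) (MvPolynomial σ B) :=
    (MvPolynomial.map (σ := σ) s).toAlgebra
  ext m
  rw [MvPolynomial.coeff_sum]
  have : ∀ i, (polyLift s σ ι p i • (MvPolynomial.C (w i) : MvPolynomial σ B)).coeff m =
      ι (p.coeff m) i • w i := by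
    intro i
    have hsm : polyLift s σ ι p i • (MvPolynomial.C (w i) : MvPolynomial σ B) =
        MvPolynomial.map s (polyLift s σ ι p i) * MvPolynomial.C (w i) := Algebra.smul_def _ _
    rw [hsm, mul_comm, MvPolynomial.coeff_C_mul, MvPolynomial.coeff_map, polyLift_apply,
      Algebra.smul_def, mul_comm]
    rfl
  simp only [this]
  exact hw _

end polyLift



/-- `MvPolynomial σ` on morphisms of `CommRingCat`. -/
noncomputable abbrev pmap (σ : Type u) {A B : CommRingCat.{u}} (f : A ⟶ B) :
    CommRingCat.of (MvPolynomial σ A) ⟶ CommRingCat.of (MvPolynomial σ B) :=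
  CommRingCat.ofHom (MvPolynomial.map f.hom)

lemma pmap_comp (σ : Type u) {A B C : CommRingCat.{u}} (f : A ⟶ B) (g : B ⟶ C) :
    pmap σ f ≫ pmap σ g = pmap σ (f ≫ g) := by
  ext1
  apply RingHom.ext
  intro p
  show MvPolynomial.map g.hom (MvPolynomial.map f.hom p) = MvPolynomial.map (g.hom.comp f.hom) p
  exact MvPolynomial.map_map _ _ p

lemma pmap_id (σ : Type u) (A : CommRingCat.{u}) : pmap σ (𝟙 A) = 𝟙 _ := by
  ext1
  apply RingHom.ext
  intro p
  show MvPolynomial.map (RingHom.id A) p = p
  exact MvPolynomial.map_id p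

/-- `MvPolynomial σ` preserves pushout squares. -/
theorem isPushout_mvPoly (σ : Type u) {R A' B' P : CommRingCat.{u}} {f : R ⟶ A'} {g : R ⟶ B'}
    {inl : A' ⟶ P} {inr : B' ⟶ P} (h : IsPushout f g inl inr) :
    IsPushout (pmap σ f) (pmap σ g) (pmap σ inl) (pmap σ inr) := by
  have hw : pmap σ f ≫ pmap σ inl = pmap σ g ≫ pmap σ inr := by
    rw [pmap_comp, pmap_comp, h.w]
  refine ⟨⟨hw⟩, ⟨PushoutCocone.IsColimit.mk hw ?_ ?_ ?_ ?_⟩⟩
  · -- desc
    intro c
    have hc := c.condition
    have hcomm : f ≫ (CommRingCat.ofHom (MvPolynomial.C (σ := σ)) ≫ c.inl) =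
        g ≫ (CommRingCat.ofHom (MvPolynomial.C (σ := σ)) ≫ c.inr) := by
      ext x
      have := congrArg (fun φ => φ.hom (MvPolynomial.C x)) hc
      simpa using this
    exact CommRingCat.ofHom (MvPolynomial.eval₂Hom
      (h.desc _ _ hcomm).hom (fun i => c.inl.hom (MvPolynomial.X i)))
  · -- fac_left
    intro c
    ext1
    apply MvPolynomial.ringHom_ext
    · intro a
      have hcomm : f ≫ (CommRingCat.ofHom (MvPolynomial.C (σ := σ)) ≫ c.inl) =
          g ≫ (CommRingCat.ofHom (MvPolynomial.C (σ := σ)) ≫ c.inr) := by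
        ext x
        have := congrArg (fun φ => φ.hom (MvPolynomial.C x)) c.condition
        simpa using this
      have h1 := congrArg (fun φ => φ.hom a) (h.inl_desc _ _ hcomm)
      show MvPolynomial.eval₂Hom (h.desc _ _ hcomm).hom (fun i => c.inl.hom (MvPolynomial.X i))
        (MvPolynomial.map inl.hom (MvPolynomial.C a)) = c.inl.hom (MvPolynomial.C a)
      rw [MvPolynomial.map_C, MvPolynomial.eval₂Hom_C]
      exact h1
    · intro i
      simp
  · -- fac_right
    intro c
    ext1
    apply MvPolynomial.ringHom_ext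
    · intro b
      have hcomm : f ≫ (CommRingCat.ofHom (MvPolynomial.C (σ := σ)) ≫ c.inl) =
          g ≫ (CommRingCat.ofHom (MvPolynomial.C (σ := σ)) ≫ c.inr) := by
        ext x
        have := congrArg (fun φ => φ.hom (MvPolynomial.C x)) c.condition
        simpa using this
      have h1 := congrArg (fun φ => φ.hom b) (h.inr_desc _ _ hcomm)
      show MvPolynomial.eval₂Hom (h.desc _ _ hcomm).hom (fun i => c.inl.hom (MvPolynomial.X i))
        (MvPolynomial.map inr.hom (MvPolynomial.C b)) = c.inr.hom (MvPolynomial.C b)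
      rw [MvPolynomial.map_C, MvPolynomial.eval₂Hom_C]
      exact h1
    · intro i
      have := congrArg (fun φ => φ.hom (MvPolynomial.X i)) c.condition
      simpa using this
  · -- uniq
    intro c m hm1 hm2
    ext1
    apply MvPolynomial.ringHom_ext
    · intro p
      have hcomm : f ≫ (CommRingCat.ofHom (MvPolynomial.C (σ := σ)) ≫ c.inl) =
          g ≫ (CommRingCat.ofHom (MvPolynomial.C (σ := σ)) ≫ c.inr) := by
        ext x
        have := congrArg (fun φ => φ.hom (MvPolynomial.C x)) c.condition
        simpa using this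
      have hext : CommRingCat.ofHom (MvPolynomial.C (σ := σ)) ≫ m = h.desc _ _ hcomm := by
        apply h.hom_ext
        · rw [h.inl_desc]
          ext a
          have := congrArg (fun φ => φ.hom (MvPolynomial.C a)) hm1
          simpa using this
        · rw [h.inr_desc]
          ext b
          have := congrArg (fun φ => φ.hom (MvPolynomial.C b)) hm2
          simpa using this
      have h1 := congrArg (fun φ => φ.hom p) hext
      simpa using h1
    · intro i
      have := congrArg (fun φ => φ.hom (MvPolynomial.X i)) hm1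
      simpa using this

/-- The polynomial extension of a ring groupoid. -/
noncomputable def mvPoly {A B P : CommRingCat.{u}} (𝒢 : RingGrpd A B P) (σ : Type u) :
    RingGrpd (CommRingCat.of (MvPolynomial σ A)) (CommRingCat.of (MvPolynomial σ B))
      (CommRingCat.of (MvPolynomial σ P)) where
  s := pmap σ 𝒢.s
  t := pmap σ 𝒢.t
  e := pmap σ 𝒢.e
  p₀ := pmap σ 𝒢.p₀
  p₁ := pmap σ 𝒢.p₁
  c := pmap σ 𝒢.c
  es := by rw [pmap_comp, 𝒢.es, pmap_id]
  et := by rw [pmap_comp, 𝒢.et, pmap_id]
  ct := by rw [pmap_comp, pmap_comp, 𝒢.ct]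
  cs := by rw [pmap_comp, pmap_comp, 𝒢.cs]
  po1 := isPushout_mvPoly σ 𝒢.po1
  po2 := isPushout_mvPoly σ 𝒢.po2

end Groth.Agent.Lib.GrpdPolyUH6
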