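import Mathlib
import Groth.Prelude.Def_Grpd
import Groth.Agent.Lib.GrpdCalc_helper6
import Groth.Agent.Lib.GrpdStabConj_helper4

set_option autoImplicit false
set_option linter.style.haveILetI false

universe u

open CategoryTheory CategoryTheory.Limits AlgebraicGeometry Grpd
open Groth.Agent.Lib.GrpdCalc Groth.Agent.Lib.GrpdStabConjH4

namespace Groth.Agent.Lib.GrpdPseudoTorsorH4

variable {S : Scheme.{u}} (G : GroupoidScheme S)

lemma jj_t : pullback.fst G.j G.j ≫ G.t = pullback.snd G.j G.j ≫ G.t := by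
  have h := pullback.condition (f := G.j) (g := G.j)
  have h2 := congrArg (fun k => k ≫ pullback.fst G.pU G.pU) h
  simp only [Category.assoc, GroupoidScheme.j, pullback.lift_fst] at h2
  exact h2

lemma jj_s : pullback.fst G.j G.j ≫ G.s = pullback.snd G.j G.j ≫ G.s := by
  have h := pullback.condition (f := G.j) (g := G.j)
  have h2 := congrArg (fun k => k ≫ pullback.snd G.pU G.pU) h
  simp only [Category.assoc, GroupoidScheme.j, pullback.lift_snd] at h2
  exact h2

lemma dC : pullback.fst G.j G.j ≫ G.s = (pullback.snd G.j G.j ≫ G.i) ≫ G.t := by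
  rw [Category.assoc, G.i_t, jj_s]

noncomputable def dcomp : pullback G.j G.j ⟶ G.R :=
  comp G (pullback.fst G.j G.j) (pullback.snd G.j G.j ≫ G.i) (dC G)

lemma dcomp_t : dcomp G ≫ G.t = pullback.snd G.j G.j ≫ G.t := by
  unfold dcomp; rw [comp_t', jj_t]

lemma dcomp_s : dcomp G ≫ G.s = pullback.snd G.j G.j ≫ G.t := by
  unfold dcomp; rw [comp_s', Category.assoc, G.i_s]

/-- `(r₁, r₂) ↦ (r₁ ∘ r₂⁻¹, r₂)` -/
noncomputable def delta : pullback G.j G.j ⟶ pullback G.stabilizerToU G.t :=
  pullback.lift (stabMk G (dcomp G) (pullback.snd G.j G.j ≫ G.t) (dcomp_t G) (dcomp_s G))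
    (pullback.snd G.j G.j) (stabMk_F G _ _ _ _)

lemma delta_snd : delta G ≫ pullback.snd G.stabilizerToU G.t = pullback.snd G.j G.j :=
  pullback.lift_snd _ _ _

lemma delta_fst_gam : delta G ≫ pullback.fst G.stabilizerToU G.t ≫ gam G = dcomp G := by
  unfold delta
  rw [pullback.lift_fst_assoc, stabMk_gam]

theorem main7500 (S : Scheme.{u}) (G : Grpd.GroupoidScheme S)
    (α : pullback G.stabilizerToU G.t ⟶ pullback G.s G.t)
    (hα₁ : α ≫ pullback.fst G.s G.t =
      pullback.fst G.stabilizerToU G.t ≫ pullback.fst G.j G.diag)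
    (hα₂ : α ≫ pullback.snd G.s G.t = pullback.snd G.stabilizerToU G.t)
    (β : pullback G.stabilizerToU G.t ⟶ pullback G.j G.j)
    (hβ₁ : β ≫ pullback.fst G.j G.j = α ≫ G.c)
    (hβ₂ : β ≫ pullback.snd G.j G.j = pullback.snd G.stabilizerToU G.t) : IsIso β := by
  have hα₁' : α ≫ pullback.fst G.s G.t = pullback.fst G.stabilizerToU G.t ≫ gam G := hα₁
  -- the condition for composing
  have hc : (pullback.fst G.stabilizerToU G.t ≫ gam G) ≫ G.s =
      pullback.snd G.stabilizerToU G.t ≫ G.t := by
    rw [Category.assoc, gam_s, pullback.condition]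
  have hαc : α ≫ G.c = comp G (pullback.fst G.stabilizerToU G.t ≫ gam G)
      (pullback.snd G.stabilizerToU G.t) hc := by
    rw [comp_c]
    exact comp_congr G hα₁' hα₂ _ _
  refine ⟨delta G, ?_, ?_⟩
  · -- β ≫ δ = 𝟙
    apply pullback.hom_ext
    · apply stab_ext
      simp only [Category.assoc, Category.id_comp]
      rw [delta_fst_gam]
      unfold dcomp
      have hx : β ≫ pullback.fst G.j G.j = comp G (pullback.fst G.stabilizerToU G.t ≫ gam G)
          (pullback.snd G.stabilizerToU G.t) hc := hβ₁.trans hαc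
      have hy : β ≫ (pullback.snd G.j G.j ≫ G.i) = pullback.snd G.stabilizerToU G.t ≫ G.i := by
        rw [← Category.assoc, hβ₂]
      have h1 : comp G (pullback.fst G.stabilizerToU G.t ≫ gam G)
          (pullback.snd G.stabilizerToU G.t) hc ≫ G.s =
          (pullback.snd G.stabilizerToU G.t ≫ G.i) ≫ G.t := by
        rw [comp_s', Category.assoc, G.i_t]
      have h0 : (β ≫ pullback.fst G.j G.j) ≫ G.s = (β ≫ (pullback.snd G.j G.j ≫ G.i)) ≫ G.t := by
        rw [hx, hy]; exact h1
      rw [precomp_comp G β _ _ _ h0, comp_congr G hx hy h0 h1]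
      exact comp_inv_comp G _ _ hc h1
    · simp only [Category.assoc, Category.id_comp]
      rw [delta_snd, hβ₂]
  · -- δ ≫ β = 𝟙
    apply pullback.hom_ext
    · simp only [Category.assoc, Category.id_comp]
      rw [hβ₁, hαc]
      have hx : delta G ≫ (pullback.fst G.stabilizerToU G.t ≫ gam G) = dcomp G :=
        delta_fst_gam G
      have hy : delta G ≫ pullback.snd G.stabilizerToU G.t = pullback.snd G.j G.j := delta_snd G
      have h1 : dcomp G ≫ G.s = pullback.snd G.j G.j ≫ G.t := dcomp_s G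
      have h0 : (delta G ≫ (pullback.fst G.stabilizerToU G.t ≫ gam G)) ≫ G.s =
          (delta G ≫ pullback.snd G.stabilizerToU G.t) ≫ G.t := by
        rw [hx, hy]; exact h1
      rw [precomp_comp G (delta G) _ _ _ h0, comp_congr G hx hy h0 h1]
      unfold dcomp
      exact comp_comp_inv G _ _ (jj_s G) (dC G) _
    · simp only [Category.assoc, Category.id_comp]
      rw [hβ₂, delta_snd]

end Groth.Agent.Lib.GrpdPseudoTorsorH4
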