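import Mathlib
import Groth.Agent.Lib.GrpdPolyU1_helper6
import Groth.Agent.Lib.GrpdRing2_helper6

/-!
# Geometric points of the orbit relation (helper6)

Ring-level core of `M(k) = U(k)/R(k)`: for an algebraically closed field `k`, two ring maps
`ξ₀ ξ₁ : A → k` agreeing on the invariants are `ρ ∘ t` and `ρ ∘ s` for some `ρ : B → k`.
The proof applies the orbit theorem for primes to the polynomial groupoid `A[X_λ : λ ∈ k]`.
-/

set_option autoImplicit false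
set_option linter.style.haveILetI false
universe u

open CategoryTheory CategoryTheory.Limits
open Groth.Agent.Lib.GrpdRingH6 Groth.Agent.Lib.GrpdPolyUH6

namespace Groth.Agent.Lib.GrpdPtH6

/-- Extending a ring hom to an algebraically closed field along an integral ring map, through a
given prime. -/
theorem exists_lift_of_isIntegral {R S k : Type u} [CommRing R] [CommRing S] [Field k]
    [IsAlgClosed k] (f : R →+* S) (hf : f.IsIntegral) (φ : R →+* k) (Q : Ideal S) [hQ : Q.IsPrime]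
    (hQφ : Q.comap f = RingHom.ker φ) :
    ∃ ψ : S →+* k, ψ.comp f = φ ∧ Q ≤ RingHom.ker ψ := by
  classical
  haveI : (Q.comap f).IsPrime := Ideal.comap_isPrime f Q
  obtain ⟨fbar, hfbar_def⟩ : ∃ fbar : R ⧸ Q.comap f →+* S ⧸ Q,
      fbar = Ideal.quotientMap Q f le_rfl := ⟨_, rfl⟩
  have hfbar : Function.Injective fbar := by
    rw [hfbar_def]; exact Ideal.quotientMap_injective
  have hfint : fbar.IsIntegral := by
    rw [hfbar_def]; exact RingHom.IsIntegral.quotient f hf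
  have hfmk : ∀ r, fbar (Ideal.Quotient.mk _ r) = Ideal.Quotient.mk Q (f r) := by
    intro r; rw [hfbar_def]; rfl
  obtain ⟨φbar, hφbar_def⟩ : ∃ φbar : R ⧸ Q.comap f →+* k,
      φbar = Ideal.Quotient.lift (Q.comap f) φ (fun a ha => by
        rw [hQφ] at ha; exact ha) := ⟨_, rfl⟩
  have hφmk : ∀ r, φbar (Ideal.Quotient.mk _ r) = φ r := by
    intro r; rw [hφbar_def]; rfl
  have hφbar : Function.Injective φbar := by
    rw [injective_iff_map_eq_zero]
    intro x hx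
    obtain ⟨r, rfl⟩ := Ideal.Quotient.mk_surjective x
    rw [hφmk] at hx
    rw [Ideal.Quotient.eq_zero_iff_mem, hQφ]
    exact hx
  letI alg1 : Algebra (R ⧸ Q.comap f) (S ⧸ Q) := fbar.toAlgebra
  letI alg2 : Algebra (R ⧸ Q.comap f) k := φbar.toAlgebra
  haveI : FaithfulSMul (R ⧸ Q.comap f) (S ⧸ Q) :=
    (faithfulSMul_iff_algebraMap_injective _ _).mpr hfbar
  haveI : FaithfulSMul (R ⧸ Q.comap f) k :=
    (faithfulSMul_iff_algebraMap_injective _ _).mpr hφbar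
  haveI : Algebra.IsIntegral (R ⧸ Q.comap f) (S ⧸ Q) := ⟨hfint⟩
  obtain ⟨ψbar⟩ : Nonempty ((S ⧸ Q) →ₐ[R ⧸ Q.comap f] k) := ⟨IsAlgClosed.lift⟩
  refine ⟨ψbar.toRingHom.comp (Ideal.Quotient.mk Q), ?_, ?_⟩
  · ext r
    show ψbar (Ideal.Quotient.mk Q (f r)) = φ r
    rw [← hfmk, ← hφmk]
    exact ψbar.commutes _
  · intro x hx
    rw [RingHom.mem_ker]
    show ψbar (Ideal.Quotient.mk Q x) = 0
    rw [Ideal.Quotient.eq_zero_iff_mem.mpr hx, map_zero]

variable {A B P : CommRingCat.{u}} (𝒢 : RingGrpd A B P)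

/-- The polynomial groupoid is again finite projective. -/
theorem mvPoly_finite_projective (σ : Type u) (n : ℕ) (w : Fin n → B)
    (ι : letI := 𝒢.s.hom.toAlgebra; B →ₗ[A] (Fin n → A))
    (hw : letI := 𝒢.s.hom.toAlgebra; ∀ a, ∑ i, ι a i • w i = a) :
    letI := (mvPoly 𝒢 σ).s.hom.toAlgebra
    Module.Finite (MvPolynomial σ A) (MvPolynomial σ B) ∧
      Module.Projective (MvPolynomial σ A) (MvPolynomial σ B) := by
  letI algAB : Algebra A B := 𝒢.s.hom.toAlgebra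
  letI algP : Algebra (MvPolynomial σ A) (MvPolynomial σ B) :=
    (MvPolynomial.map (σ := σ) 𝒢.s.hom).toAlgebra
  show Module.Finite (MvPolynomial σ A) (MvPolynomial σ B) ∧
      Module.Projective (MvPolynomial σ A) (MvPolynomial σ B)
  obtain ⟨π, hπ⟩ : ∃ π : (Fin n → MvPolynomial σ A) →ₗ[MvPolynomial σ A] MvPolynomial σ B,
      ∀ v, π v = ∑ i, v i • (MvPolynomial.C (w i) : MvPolynomial σ B) :=
    ⟨Fintype.linearCombination (MvPolynomial σ A)
      (fun i => (MvPolynomial.C (w i) : MvPolynomial σ B)), fun v => rfl⟩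
  have hsplit : π ∘ₗ polyLift 𝒢.s.hom σ ι = LinearMap.id := by
    apply LinearMap.ext
    intro p
    show π (polyLift 𝒢.s.hom σ ι p) = p
    rw [hπ]
    exact polyLift_presentation 𝒢.s.hom σ ι w hw p
  exact ⟨Module.Finite.of_surjective π
      (fun p => ⟨polyLift 𝒢.s.hom σ ι p, LinearMap.congr_fun hsplit p⟩),
    Module.Projective.of_split (polyLift 𝒢.s.hom σ ι) π hsplit⟩

/-- Geometric points: two `k`-points of `A` agreeing on the invariants are target and source of a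
`k`-point of `B`. -/
theorem exists_point_orbit
    (hfin : letI := 𝒢.s.hom.toAlgebra; Module.Finite A B)
    (hproj : letI := 𝒢.s.hom.toAlgebra; Module.Projective A B)
    (k : Type u) [Field k] [IsAlgClosed k] (ξ₀ ξ₁ : A →+* k)
    (h : ∀ c : 𝒢.inv, ξ₀ c = ξ₁ c) :
    ∃ ρ : B →+* k, ρ.comp 𝒢.t.hom = ξ₀ ∧ ρ.comp 𝒢.s.hom = ξ₁ := by
  classical
  obtain ⟨n, w, ι, hw⟩ := 𝒢.exists_presentation hfin hproj
  obtain ⟨hfin', hproj'⟩ := mvPoly_finite_projective 𝒢 k n w ι hw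
  obtain ⟨Ξ₀, hΞ₀⟩ : ∃ Ξ₀ : MvPolynomial k A →+* k, Ξ₀ = MvPolynomial.eval₂Hom ξ₀ id := ⟨_, rfl⟩
  obtain ⟨Ξ₁, hΞ₁⟩ : ∃ Ξ₁ : MvPolynomial k A →+* k, Ξ₁ = MvPolynomial.eval₂Hom ξ₁ id := ⟨_, rfl⟩
  have hs' : ∀ G : MvPolynomial k A, (mvPoly 𝒢 k).s.hom G = MvPolynomial.map 𝒢.s.hom G :=
    fun G => rfl
  have ht' : ∀ G : MvPolynomial k A, (mvPoly 𝒢 k).t.hom G = MvPolynomial.map 𝒢.t.hom G :=
    fun G => rfl
  -- the two points agree on invariant polynomials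
  have hΞ : ∀ G : MvPolynomial k A, (mvPoly 𝒢 k).s.hom G = (mvPoly 𝒢 k).t.hom G →
      Ξ₀ G = Ξ₁ G := by
    intro G hG
    rw [hs', ht'] at hG
    have hcoeff : ∀ m, ξ₀ (G.coeff m) = ξ₁ (G.coeff m) := by
      intro m
      have h1 := congrArg (fun p => MvPolynomial.coeff m p) hG
      simp only [MvPolynomial.coeff_map] at h1
      exact h ⟨G.coeff m, h1⟩
    rw [hΞ₀, hΞ₁]
    show MvPolynomial.eval₂ ξ₀ id G = MvPolynomial.eval₂ ξ₁ id G
    rw [MvPolynomial.eval₂_eq, MvPolynomial.eval₂_eq]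
    exact Finset.sum_congr rfl fun m _ => by rw [hcoeff]
  haveI hp0 : (RingHom.ker Ξ₀).IsPrime := RingHom.ker_isPrime _
  haveI hp1 : (RingHom.ker Ξ₁).IsPrime := RingHom.ker_isPrime _
  have hcomap : (RingHom.ker Ξ₀).comap (algebraMap (mvPoly 𝒢 k).inv (MvPolynomial k A)) =
      (RingHom.ker Ξ₁).comap (algebraMap (mvPoly 𝒢 k).inv (MvPolynomial k A)) := by
    ext G
    simp only [Ideal.mem_comap, RingHom.mem_ker]
    show Ξ₀ (G : MvPolynomial k A) = 0 ↔ Ξ₁ (G : MvPolynomial k A) = 0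
    rw [hΞ _ G.2]
  obtain ⟨Q, hQ, hQt, hQs⟩ := (mvPoly 𝒢 k).exists_prime_orbit hfin' hproj' _ _ hcomap
  have hint : ((mvPoly 𝒢 k).s.hom).IsIntegral := RingHom.Finite.to_isIntegral hfin'
  obtain ⟨ψ, hψ1, hψ2⟩ := exists_lift_of_isIntegral (mvPoly 𝒢 k).s.hom hint Ξ₁ Q hQs
  have hψs : ∀ G, ψ (MvPolynomial.map 𝒢.s.hom G) = Ξ₁ G := fun G =>
    congrArg (fun φ => φ G) hψ1
  refine ⟨ψ.comp MvPolynomial.C, ?_, ?_⟩
  · ext a
    show ψ (MvPolynomial.C (𝒢.t.hom a)) = ξ₀ a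
    -- `C a - X (ξ₀ a)` is killed by `Ξ₀`
    have h1 : (MvPolynomial.C a - MvPolynomial.X (ξ₀ a) : MvPolynomial k A) ∈ RingHom.ker Ξ₀ := by
      rw [RingHom.mem_ker, hΞ₀, map_sub, MvPolynomial.eval₂Hom_C, MvPolynomial.eval₂Hom_X']
      exact sub_self _
    rw [← hQt, Ideal.mem_comap, ht'] at h1
    have h2 := hψ2 h1
    rw [RingHom.mem_ker, map_sub, MvPolynomial.map_C, MvPolynomial.map_X, map_sub,
      sub_eq_zero] at h2
    rw [h2]
    have h3 := hψs (MvPolynomial.X (ξ₀ a))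
    rw [MvPolynomial.map_X] at h3
    rw [h3, hΞ₁, MvPolynomial.eval₂Hom_X']
    rfl
  · ext a
    show ψ (MvPolynomial.C (𝒢.s.hom a)) = ξ₁ a
    have h3 := hψs (MvPolynomial.C a)
    rw [MvPolynomial.map_C] at h3
    rw [h3, hΞ₁, MvPolynomial.eval₂Hom_C]

end Groth.Agent.Lib.GrpdPtH6
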