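import Mathlib
import Groth.Prelude.Def_Grpd
import Groth.Agent.Lib.GrpdPt1_helper6
import Groth.Agent.Lib.GrpdQuot2_helper6

/-!
# `U → M` is the set-theoretic and geometric-point quotient (helper6): S1878
-/

set_option autoImplicit false
set_option linter.style.haveILetI false
universe u

open CategoryTheory CategoryTheory.Limits AlgebraicGeometry Grpd
open Groth.Agent.Lib.GrpdRingH6 Groth.Agent.Lib.GrpdQuotH6

namespace Groth.Agent.Lib.GrpdPtH6

variable {S : Scheme.{u}} (G : GroupoidScheme S) [IsAffine G.U] [IsAffine G.R]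

lemma toQuot_apply (u : G.U) :
    G.toQuot u = PrimeSpectrum.comap G.invariants.subtype (G.U.toSpecΓ u) := rfl

lemma isoSpec_inv_toSpecΓ (X : Scheme.{u}) [IsAffine X] (u : X) :
    X.isoSpec.inv (X.toSpecΓ u) = u :=
  congrArg (fun f => f u) X.isoSpec.hom_inv_id

lemma toSpecΓ_isoSpec_inv (X : Scheme.{u}) [IsAffine X] (x : Spec Γ(X, ⊤)) :
    X.toSpecΓ (X.isoSpec.inv x) = x :=
  congrArg (fun f => f x) X.isoSpec.inv_hom_id

lemma toSpecΓ_injective (X : Scheme.{u}) [IsAffine X] : Function.Injective X.toSpecΓ := by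
  intro a b hab
  rw [← isoSpec_inv_toSpecΓ X a, ← isoSpec_inv_toSpecΓ X b, hab]

lemma toSpecΓ_map {X Y : Scheme.{u}} (f : X ⟶ Y) (x : X) :
    Y.toSpecΓ (f x) = PrimeSpectrum.comap f.appTop.hom (X.toSpecΓ x) := by
  have := congrArg (fun g => g x) (Scheme.toSpecΓ_naturality f)
  exact this

theorem main1878 [IsFinite G.s] [Flat G.s] [LocallyOfFinitePresentation G.s] :
    (Function.Surjective G.toQuot ∧ ∀ u₀ u₁ : G.U, G.toQuot u₀ = G.toQuot u₁ ↔
      ∃ r : G.R, G.t r = u₀ ∧ G.s r = u₁) ∧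
    ∀ (k : Type u) [Field k] [IsAlgClosed k],
      (∀ m : Spec (CommRingCat.of k) ⟶ Spec (CommRingCat.of G.invariants),
        ∃ x : Spec (CommRingCat.of k) ⟶ G.U, x ≫ G.toQuot = m) ∧
      ∀ x₀ x₁ : Spec (CommRingCat.of k) ⟶ G.U, x₀ ≫ G.toQuot = x₁ ≫ G.toQuot ↔
        ∃ r : Spec (CommRingCat.of k) ⟶ G.R, r ≫ G.t = x₀ ∧ r ≫ G.s = x₁ := by
  classical
  letI algAB : Algebra Γ(G.U, ⊤) Γ(G.R, ⊤) := G.s.appTop.hom.toAlgebra
  haveI hfp : Algebra.FinitePresentation Γ(G.U, ⊤) Γ(G.R, ⊤) :=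
    (HasRingHomProperty.iff_of_isAffine (P := @LocallyOfFinitePresentation)).mp inferInstance
  haveI hflat : Module.Flat Γ(G.U, ⊤) Γ(G.R, ⊤) :=
    (HasRingHomProperty.iff_of_isAffine (P := @Flat)).mp inferInstance
  haveI hfin : Module.Finite Γ(G.U, ⊤) Γ(G.R, ⊤) := Scheme.Hom.finite_appTop G.s
  haveI : Module.FinitePresentation Γ(G.U, ⊤) Γ(G.R, ⊤) :=
    Module.FinitePresentation.of_finite_of_finitePresentation _ _
  haveI hproj : Module.Projective Γ(G.U, ⊤) Γ(G.R, ⊤) :=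
    Module.Flat.projective_of_finitePresentation
  haveI hint : Algebra.IsIntegral G.invariants Γ(G.U, ⊤) :=
    (ofGroupoid G).isIntegral_inv hfin hproj
  haveI : FaithfulSMul G.invariants Γ(G.U, ⊤) :=
    (faithfulSMul_iff_algebraMap_injective _ _).mpr Subtype.val_injective
  have htq : G.t ≫ G.toQuot = G.s ≫ G.toQuot := t_toQuot G
  refine ⟨⟨?_, ?_⟩, ?_⟩
  · -- surjectivity
    intro y
    obtain ⟨x, hx⟩ := Algebra.IsIntegral.comap_surjective G.invariants Γ(G.U, ⊤) y
    refine ⟨G.U.isoSpec.inv x, ?_⟩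
    rw [toQuot_apply, toSpecΓ_isoSpec_inv]
    exact hx
  · -- fibres are orbits
    intro u₀ u₁
    constructor
    · intro h
      rw [toQuot_apply, toQuot_apply] at h
      have h' : (G.U.toSpecΓ u₀).asIdeal.comap (algebraMap (ofGroupoid G).inv Γ(G.U, ⊤)) =
          (G.U.toSpecΓ u₁).asIdeal.comap (algebraMap (ofGroupoid G).inv Γ(G.U, ⊤)) :=
        congrArg PrimeSpectrum.asIdeal h
      obtain ⟨q, hq, hqt, hqs⟩ := (ofGroupoid G).exists_prime_orbit hfin hproj
        (G.U.toSpecΓ u₀).asIdeal (G.U.toSpecΓ u₁).asIdeal h'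
      refine ⟨G.R.isoSpec.inv ⟨q, hq⟩, ?_, ?_⟩
      · apply toSpecΓ_injective
        rw [toSpecΓ_map, toSpecΓ_isoSpec_inv]
        exact PrimeSpectrum.ext hqt
      · apply toSpecΓ_injective
        rw [toSpecΓ_map, toSpecΓ_isoSpec_inv]
        exact PrimeSpectrum.ext hqs
    · rintro ⟨r, rfl, rfl⟩
      have := congrArg (fun f => f r) htq
      exact this
  · intro k _ _
    refine ⟨?_, ?_⟩
    · -- lifting geometric points
      intro m
      obtain ⟨μ, hμ⟩ : ∃ μ : G.invariants →+* k, μ = (Spec.preimage m).hom := ⟨_, rfl⟩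
      haveI : (RingHom.ker μ).IsPrime := RingHom.ker_isPrime μ
      obtain ⟨Q, -, hQ, hQμ⟩ := Ideal.exists_ideal_over_prime_of_isIntegral
        (S := Γ(G.U, ⊤)) (RingHom.ker μ) (⊥ : Ideal Γ(G.U, ⊤)) (by
          intro c hc
          rw [Ideal.mem_comap, Ideal.mem_bot] at hc
          have hc0 : c = 0 := FaithfulSMul.algebraMap_injective G.invariants Γ(G.U, ⊤)
            (hc.trans (map_zero _).symm)
          rw [hc0]; exact Ideal.zero_mem _)
      obtain ⟨ξ, hξ1, -⟩ := exists_lift_of_isIntegral (algebraMap G.invariants Γ(G.U, ⊤))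
        hint.isIntegral μ Q hQμ
      refine ⟨Spec.map (CommRingCat.ofHom ξ) ≫ G.U.isoSpec.inv, ?_⟩
      unfold GroupoidScheme.toQuot
      rw [Category.assoc, ← Category.assoc G.U.isoSpec.inv, ← Scheme.isoSpec_hom,
        Iso.inv_hom_id, Category.id_comp, ← Spec.map_comp]
      have : CommRingCat.ofHom G.invariants.subtype ≫ CommRingCat.ofHom ξ = Spec.preimage m := by
        ext c
        have := congrArg (fun φ => φ c) hξ1
        rw [hμ] at this
        exact this
      rw [this, Spec.map_preimage]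
    · intro x₀ x₁
      constructor
      · intro h
        obtain ⟨ξ₀, hξ₀⟩ : ∃ ξ₀ : Γ(G.U, ⊤) ⟶ CommRingCat.of k,
            ξ₀ = Spec.preimage (x₀ ≫ G.U.toSpecΓ) := ⟨_, rfl⟩
        obtain ⟨ξ₁, hξ₁⟩ : ∃ ξ₁ : Γ(G.U, ⊤) ⟶ CommRingCat.of k,
            ξ₁ = Spec.preimage (x₁ ≫ G.U.toSpecΓ) := ⟨_, rfl⟩
        have hx₀ : x₀ = Spec.map ξ₀ ≫ G.U.isoSpec.inv := by
          rw [hξ₀, Spec.map_preimage, Category.assoc, Scheme.toSpecΓ_isoSpec_inv,
            Category.comp_id]
        have hx₁ : x₁ = Spec.map ξ₁ ≫ G.U.isoSpec.inv := by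
          rw [hξ₁, Spec.map_preimage, Category.assoc, Scheme.toSpecΓ_isoSpec_inv,
            Category.comp_id]
        have h2 : incl G ≫ ξ₀ = incl G ≫ ξ₁ := by
          apply Spec.map_injective
          rw [Spec.map_comp, Spec.map_comp, hξ₀, hξ₁, Spec.map_preimage, Spec.map_preimage,
            Category.assoc, Category.assoc]
          exact h
        have h3 : ∀ c : (ofGroupoid G).inv, ξ₀.hom c = ξ₁.hom c := fun c =>
          congrArg (fun φ => φ.hom c) h2
        obtain ⟨ρ, hρt, hρs⟩ := exists_point_orbit (ofGroupoid G) hfin hproj k ξ₀.hom ξ₁.hom h3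
        refine ⟨Spec.map (CommRingCat.ofHom ρ) ≫ G.R.isoSpec.inv, ?_, ?_⟩
        · rw [Category.assoc, ← Scheme.isoSpec_inv_naturality, ← Category.assoc, ← Spec.map_comp,
            hx₀]
          congr 2
          ext a
          exact congrArg (fun φ => φ a) hρt
        · rw [Category.assoc, ← Scheme.isoSpec_inv_naturality, ← Category.assoc, ← Spec.map_comp,
            hx₁]
          congr 2
          ext a
          exact congrArg (fun φ => φ a) hρs
      · rintro ⟨r, rfl, rfl⟩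
        rw [Category.assoc, Category.assoc, htq]

end Groth.Agent.Lib.GrpdPtH6
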