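import Mathlib
import Groth.Prelude.Def_Grpd
import Groth.Agent.Lib.GrpdIdComp_helper4
import Groth.Agent.Lib.GrpMaxPt_helper4
import Groth.Agent.Lib.GeomRedGenPts_helper4

set_option autoImplicit false
set_option linter.style.haveILetI false
set_option linter.unusedSectionVars false

universe u

open CategoryTheory CategoryTheory.Limits AlgebraicGeometry

namespace Groth.Agent.Lib.GrpdPtIrrH4

local notation:max "sm[" k ", " K "]" => Spec.map (CommRingCat.ofHom (algebraMap k K))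

theorem flat_to_field {k Ω : Type u} [Field k] [Field Ω]
    (g : Spec (CommRingCat.of Ω) ⟶ Spec (CommRingCat.of k)) : Flat g := by
  obtain ⟨φ, rfl⟩ : ∃ φ : CommRingCat.of k ⟶ CommRingCat.of Ω, Spec.map φ = g :=
    ⟨Spec.preimage g, Spec.map_preimage g⟩
  letI : Algebra k Ω := φ.hom.toAlgebra
  exact IrrCompImageH4.flat_specMap k Ω

section Tr

variable {S : Scheme.{u}} (G : Grpd.GroupoidScheme S)

theorem comp_C {T T' : Scheme.{u}} (f : T' ⟶ T) (α β : T ⟶ G.R) (h : α ≫ G.s = β ≫ G.t) :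
    f ≫ pullback.lift α β h ≫ G.c =
      pullback.lift (f ≫ α) (f ≫ β) (by rw [Category.assoc, Category.assoc, h]) ≫ G.c := by
  rw [← Category.assoc]
  congr 1
  apply pullback.hom_ext
  · rw [Category.assoc, pullback.lift_fst, pullback.lift_fst]
  · rw [Category.assoc, pullback.lift_snd, pullback.lift_snd]

theorem La {T : Scheme.{u}} (α ρ : T ⟶ G.R) (h1 : α ≫ G.s = ρ ≫ G.s)
    (hA : α ≫ G.s = (ρ ≫ G.i) ≫ G.t)
    (hB : (pullback.lift α (ρ ≫ G.i) hA ≫ G.c) ≫ G.s = ρ ≫ G.t) :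
    pullback.lift (pullback.lift α (ρ ≫ G.i) hA ≫ G.c) ρ hB ≫ G.c = α := by
  have h₂ : (ρ ≫ G.i) ≫ G.s = ρ ≫ G.t := by rw [Category.assoc, G.i_s]
  have B2 := G.assoc α (ρ ≫ G.i) ρ hA h₂
  have A2 : pullback.lift (ρ ≫ G.i) ρ h₂ ≫ G.c = ρ ≫ G.s ≫ G.e := G.i_comp ρ
  have hβ : pullback.lift (ρ ≫ G.i) ρ h₂ ≫ G.c = α ≫ G.s ≫ G.e := by
    rw [A2, ← Category.assoc, ← h1, Category.assoc]
  exact B2.trans ((GrpdIdCompH4.c_congr G rfl hβ).trans (G.comp_e α))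

theorem Lb {T : Scheme.{u}} (ρ β : T ⟶ G.R) (h1 : ρ ≫ G.t = β ≫ G.t)
    (hA : ρ ≫ G.s = (ρ ≫ G.i) ≫ G.t)
    (hB : (pullback.lift ρ (ρ ≫ G.i) hA ≫ G.c) ≫ G.s = β ≫ G.t) :
    pullback.lift (pullback.lift ρ (ρ ≫ G.i) hA ≫ G.c) β hB ≫ G.c = β := by
  have A1 : pullback.lift ρ (ρ ≫ G.i) hA ≫ G.c = ρ ≫ G.t ≫ G.e := G.comp_i ρ
  have hα : pullback.lift ρ (ρ ≫ G.i) hA ≫ G.c = β ≫ G.t ≫ G.e := by
    rw [A1, ← Category.assoc, h1, Category.assoc]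
  exact (GrpdIdCompH4.c_congr G hα rfl).trans (G.e_comp β)

theorem La' {T : Scheme.{u}} (v w : T ⟶ pullback G.s G.t) (α ρ : T ⟶ G.R)
    (h1 : α ≫ G.s = ρ ≫ G.s)
    (hv1 : v ≫ pullback.fst G.s G.t = α) (hv2 : v ≫ pullback.snd G.s G.t = ρ ≫ G.i)
    (hw1 : w ≫ pullback.fst G.s G.t = v ≫ G.c) (hw2 : w ≫ pullback.snd G.s G.t = ρ) :
    w ≫ G.c = α := by
  have hA : α ≫ G.s = (ρ ≫ G.i) ≫ G.t := by
    rw [← hv1, ← hv2, Category.assoc, Category.assoc, pullback.condition]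
  have hv : v = pullback.lift α (ρ ≫ G.i) hA :=
    pullback.hom_ext (by rw [hv1, pullback.lift_fst]) (by rw [hv2, pullback.lift_snd])
  have hB : (pullback.lift α (ρ ≫ G.i) hA ≫ G.c) ≫ G.s = ρ ≫ G.t := by
    rw [G.comp_s, Category.assoc, G.i_s]
  have hw : w = pullback.lift (pullback.lift α (ρ ≫ G.i) hA ≫ G.c) ρ hB :=
    pullback.hom_ext (by rw [hw1, hv, pullback.lift_fst]) (by rw [hw2, pullback.lift_snd])
  rw [hw]
  exact La G α ρ h1 hA hB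

theorem Lb' {T : Scheme.{u}} (v w : T ⟶ pullback G.s G.t) (ρ β : T ⟶ G.R)
    (h1 : ρ ≫ G.t = β ≫ G.t)
    (hv1 : v ≫ pullback.fst G.s G.t = ρ) (hv2 : v ≫ pullback.snd G.s G.t = ρ ≫ G.i)
    (hw1 : w ≫ pullback.fst G.s G.t = v ≫ G.c) (hw2 : w ≫ pullback.snd G.s G.t = β) :
    w ≫ G.c = β := by
  have hA : ρ ≫ G.s = (ρ ≫ G.i) ≫ G.t := by rw [Category.assoc, G.i_t]
  have hv : v = pullback.lift ρ (ρ ≫ G.i) hA :=
    pullback.hom_ext (by rw [hv1, pullback.lift_fst]) (by rw [hv2, pullback.lift_snd])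
  have hB : (pullback.lift ρ (ρ ≫ G.i) hA ≫ G.c) ≫ G.s = β ≫ G.t := by
    rw [G.comp_s, Category.assoc, G.i_s, h1]
  have hw : w = pullback.lift (pullback.lift ρ (ρ ≫ G.i) hA ≫ G.c) β hB :=
    pullback.hom_ext (by rw [hw1, hv, pullback.lift_fst]) (by rw [hw2, pullback.lift_snd])
  rw [hw]
  exact Lb G ρ β h1 hA hB

variable (Ω : Type u) [Field Ω] (ρr : Spec (CommRingCat.of Ω) ⟶ G.R)

noncomputable abbrev A : Scheme.{u} := pullback G.s (ρr ≫ G.s)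

noncomputable abbrev piA : A G Ω ρr ⟶ G.R := pullback.fst G.s (ρr ≫ G.s)

noncomputable abbrev rhoA : A G Ω ρr ⟶ Spec (CommRingCat.of Ω) := pullback.snd G.s (ρr ≫ G.s)

noncomputable abbrev B : Scheme.{u} := pullback (piA G Ω ρr ≫ G.t) (ρr ≫ G.t)

noncomputable abbrev qB : B G Ω ρr ⟶ A G Ω ρr := pullback.fst (piA G Ω ρr ≫ G.t) (ρr ≫ G.t)

noncomputable abbrev tauB : B G Ω ρr ⟶ Spec (CommRingCat.of Ω) :=
  pullback.snd (piA G Ω ρr ≫ G.t) (ρr ≫ G.t)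

noncomputable abbrev Q : Scheme.{u} := pullback (rhoA G Ω ρr) (tauB G Ω ρr)

noncomputable abbrev p1 : Q G Ω ρr ⟶ A G Ω ρr := pullback.fst (rhoA G Ω ρr) (tauB G Ω ρr)

noncomputable abbrev p2 : Q G Ω ρr ⟶ B G Ω ρr := pullback.snd (rhoA G Ω ρr) (tauB G Ω ρr)

theorem piA_cond : piA G Ω ρr ≫ G.s = rhoA G Ω ρr ≫ ρr ≫ G.s := pullback.condition

theorem qB_cond : qB G Ω ρr ≫ piA G Ω ρr ≫ G.t = tauB G Ω ρr ≫ ρr ≫ G.t := pullback.condition

theorem p_cond : p1 G Ω ρr ≫ rhoA G Ω ρr = p2 G Ω ρr ≫ tauB G Ω ρr := pullback.condition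

noncomputable def rA : Spec (CommRingCat.of Ω) ⟶ A G Ω ρr :=
  pullback.lift ρr (𝟙 _) (by rw [Category.id_comp])

theorem rA_fst : rA G Ω ρr ≫ piA G Ω ρr = ρr := pullback.lift_fst _ _ _

theorem rA_snd : rA G Ω ρr ≫ rhoA G Ω ρr = 𝟙 _ := pullback.lift_snd _ _ _

noncomputable def rB : Spec (CommRingCat.of Ω) ⟶ B G Ω ρr :=
  pullback.lift (rA G Ω ρr) (𝟙 _) (by rw [← Category.assoc, rA_fst, Category.id_comp])

theorem rB_fst : rB G Ω ρr ≫ qB G Ω ρr = rA G Ω ρr := pullback.lift_fst _ _ _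

theorem rB_snd : rB G Ω ρr ≫ tauB G Ω ρr = 𝟙 _ := pullback.lift_snd _ _ _

theorem hA_Q : (p1 G Ω ρr ≫ piA G Ω ρr) ≫ G.s =
    ((p1 G Ω ρr ≫ rhoA G Ω ρr ≫ ρr) ≫ G.i) ≫ G.t := by
  simp only [Category.assoc]
  rw [G.i_t, piA_cond]

noncomputable def c1 : Q G Ω ρr ⟶ G.R :=
  pullback.lift (p1 G Ω ρr ≫ piA G Ω ρr) ((p1 G Ω ρr ≫ rhoA G Ω ρr ≫ ρr) ≫ G.i)
    (hA_Q G Ω ρr) ≫ G.c

theorem hB_Q : c1 G Ω ρr ≫ G.s = (p2 G Ω ρr ≫ qB G Ω ρr ≫ piA G Ω ρr) ≫ G.t := by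
  refine (G.comp_s _ _ (hA_Q G Ω ρr)).trans ?_
  simp only [Category.assoc]
  rw [G.i_s, qB_cond, ← Category.assoc, p_cond, Category.assoc]

noncomputable def nuR : Q G Ω ρr ⟶ G.R :=
  pullback.lift (c1 G Ω ρr) (p2 G Ω ρr ≫ qB G Ω ρr ≫ piA G Ω ρr) (hB_Q G Ω ρr) ≫ G.c

theorem nuR_s : nuR G Ω ρr ≫ G.s = (p2 G Ω ρr ≫ qB G Ω ρr ≫ piA G Ω ρr) ≫ G.s :=
  G.comp_s _ _ _

noncomputable def nu : Q G Ω ρr ⟶ A G Ω ρr :=
  pullback.lift (nuR G Ω ρr) (p2 G Ω ρr ≫ qB G Ω ρr ≫ rhoA G Ω ρr) (by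
    rw [nuR_s]
    simp only [Category.assoc]
    rw [piA_cond])

theorem nu_fst : nu G Ω ρr ≫ piA G Ω ρr = nuR G Ω ρr := pullback.lift_fst _ _ _

theorem nu_snd : nu G Ω ρr ≫ rhoA G Ω ρr = p2 G Ω ρr ≫ qB G Ω ρr ≫ rhoA G Ω ρr :=
  pullback.lift_snd _ _ _

noncomputable def sg1 : A G Ω ρr ⟶ Q G Ω ρr :=
  pullback.lift (𝟙 _) (rhoA G Ω ρr ≫ rB G Ω ρr) (by
    rw [Category.id_comp, Category.assoc, rB_snd, Category.comp_id])

noncomputable def sg2 : B G Ω ρr ⟶ Q G Ω ρr :=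
  pullback.lift (tauB G Ω ρr ≫ rA G Ω ρr) (𝟙 _) (by
    rw [Category.id_comp, Category.assoc, rA_snd, Category.comp_id])

theorem sg1_fst : sg1 G Ω ρr ≫ p1 G Ω ρr = 𝟙 _ := pullback.lift_fst _ _ _

theorem sg1_snd : sg1 G Ω ρr ≫ p2 G Ω ρr = rhoA G Ω ρr ≫ rB G Ω ρr := pullback.lift_snd _ _ _

theorem sg2_fst : sg2 G Ω ρr ≫ p1 G Ω ρr = tauB G Ω ρr ≫ rA G Ω ρr := pullback.lift_fst _ _ _

theorem sg2_snd : sg2 G Ω ρr ≫ p2 G Ω ρr = 𝟙 _ := pullback.lift_snd _ _ _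

theorem sg1_nuR : sg1 G Ω ρr ≫ nuR G Ω ρr = piA G Ω ρr := by
  have e1 : sg1 G Ω ρr ≫ p1 G Ω ρr ≫ piA G Ω ρr = piA G Ω ρr := by
    rw [← Category.assoc, sg1_fst, Category.id_comp]
  have e2 : sg1 G Ω ρr ≫ (p1 G Ω ρr ≫ rhoA G Ω ρr ≫ ρr) ≫ G.i =
      (rhoA G Ω ρr ≫ ρr) ≫ G.i := by
    simp only [Category.assoc]
    rw [← Category.assoc, sg1_fst, Category.id_comp]
  have e3 : sg1 G Ω ρr ≫ p2 G Ω ρr ≫ qB G Ω ρr ≫ piA G Ω ρr = rhoA G Ω ρr ≫ ρr := by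
    rw [← Category.assoc, sg1_snd, Category.assoc, ← Category.assoc (rB G Ω ρr), rB_fst, rA_fst]
  have hx : piA G Ω ρr ≫ G.s = (rhoA G Ω ρr ≫ ρr) ≫ G.s := by
    rw [Category.assoc]
    exact piA_cond G Ω ρr
  rw [nuR, ← Category.assoc]
  refine La' G (sg1 G Ω ρr ≫ pullback.lift (p1 G Ω ρr ≫ piA G Ω ρr)
      ((p1 G Ω ρr ≫ rhoA G Ω ρr ≫ ρr) ≫ G.i) (hA_Q G Ω ρr)) _ (piA G Ω ρr)
    (rhoA G Ω ρr ≫ ρr) hx ?_ ?_ ?_ ?_
  · rw [Category.assoc, pullback.lift_fst]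
    exact e1
  · rw [Category.assoc, pullback.lift_snd]
    exact e2
  · rw [Category.assoc, pullback.lift_fst]
    exact (Category.assoc _ _ _).symm
  · rw [Category.assoc, pullback.lift_snd]
    exact e3

theorem sg2_nuR : sg2 G Ω ρr ≫ nuR G Ω ρr = qB G Ω ρr ≫ piA G Ω ρr := by
  have e1 : sg2 G Ω ρr ≫ p1 G Ω ρr ≫ piA G Ω ρr = tauB G Ω ρr ≫ ρr := by
    rw [← Category.assoc, sg2_fst, Category.assoc, rA_fst]
  have e2 : sg2 G Ω ρr ≫ (p1 G Ω ρr ≫ rhoA G Ω ρr ≫ ρr) ≫ G.i =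
      (tauB G Ω ρr ≫ ρr) ≫ G.i := by
    simp only [Category.assoc]
    rw [← Category.assoc, sg2_fst, Category.assoc, ← Category.assoc (rA G Ω ρr), rA_snd,
      Category.id_comp]
  have e3 : sg2 G Ω ρr ≫ p2 G Ω ρr ≫ qB G Ω ρr ≫ piA G Ω ρr =
      qB G Ω ρr ≫ piA G Ω ρr := by
    rw [← Category.assoc, sg2_snd, Category.id_comp]
  have hx : (tauB G Ω ρr ≫ ρr) ≫ G.t = (qB G Ω ρr ≫ piA G Ω ρr) ≫ G.t := by
    rw [Category.assoc, Category.assoc]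
    exact (qB_cond G Ω ρr).symm
  rw [nuR, ← Category.assoc]
  refine Lb' G (sg2 G Ω ρr ≫ pullback.lift (p1 G Ω ρr ≫ piA G Ω ρr)
      ((p1 G Ω ρr ≫ rhoA G Ω ρr ≫ ρr) ≫ G.i) (hA_Q G Ω ρr)) _ (tauB G Ω ρr ≫ ρr)
    (qB G Ω ρr ≫ piA G Ω ρr) hx ?_ ?_ ?_ ?_
  · rw [Category.assoc, pullback.lift_fst]
    exact e1
  · rw [Category.assoc, pullback.lift_snd]
    exact e2
  · rw [Category.assoc, pullback.lift_fst]
    exact (Category.assoc _ _ _).symm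
  · rw [Category.assoc, pullback.lift_snd]
    exact e3

theorem sg1_nu : sg1 G Ω ρr ≫ nu G Ω ρr = 𝟙 _ := by
  refine pullback.hom_ext (f := G.s) (g := ρr ≫ G.s) ?_ ?_
  · show (sg1 G Ω ρr ≫ nu G Ω ρr) ≫ piA G Ω ρr = 𝟙 _ ≫ piA G Ω ρr
    rw [Category.assoc, nu_fst, Category.id_comp]
    exact sg1_nuR G Ω ρr
  · show (sg1 G Ω ρr ≫ nu G Ω ρr) ≫ rhoA G Ω ρr = 𝟙 _ ≫ rhoA G Ω ρr
    rw [Category.assoc, nu_snd, ← Category.assoc, sg1_snd, Category.assoc,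
      ← Category.assoc (rB G Ω ρr), rB_fst, rA_snd, Category.comp_id, Category.id_comp]

theorem sg2_nu : sg2 G Ω ρr ≫ nu G Ω ρr = qB G Ω ρr := by
  refine pullback.hom_ext (f := G.s) (g := ρr ≫ G.s) ?_ ?_
  · show (sg2 G Ω ρr ≫ nu G Ω ρr) ≫ piA G Ω ρr = qB G Ω ρr ≫ piA G Ω ρr
    rw [Category.assoc, nu_fst]
    exact sg2_nuR G Ω ρr
  · show (sg2 G Ω ρr ≫ nu G Ω ρr) ≫ rhoA G Ω ρr = qB G Ω ρr ≫ rhoA G Ω ρr
    rw [Category.assoc, nu_snd, ← Category.assoc, sg2_snd, Category.id_comp]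

theorem eq_closure_image [IsSepClosed Ω] [Flat (ρr ≫ G.t)] (T1 : Set ↥(A G Ω ρr))
    (hT1 : T1 ∈ irreducibleComponents ↥(A G Ω ρr)) (T' : Set ↥(B G Ω ρr))
    (hT' : T' ∈ irreducibleComponents ↥(B G Ω ρr)) (pt0 : ↥(Spec (CommRingCat.of Ω)))
    (h1 : rA G Ω ρr pt0 ∈ T1) (h' : rB G Ω ρr pt0 ∈ T') :
    T1 = closure ((qB G Ω ρr) '' T') := by
  haveI : Subsingleton ↥(Spec (CommRingCat.of Ω)) :=
    inferInstanceAs (Subsingleton (PrimeSpectrum Ω))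
  have hAcl : IsClosed T1 := isClosed_of_mem_irreducibleComponents T1 hT1
  have hBcl : IsClosed T' := isClosed_of_mem_irreducibleComponents T' hT'
  let Ac : TopologicalSpace.Closeds ↥(A G Ω ρr) := ⟨T1, hAcl⟩
  let Bc : TopologicalSpace.Closeds ↥(B G Ω ρr) := ⟨T', hBcl⟩
  have hrA : Set.range (Scheme.IdealSheafData.vanishingIdeal Ac).subschemeι = T1 := by
    rw [Scheme.IdealSheafData.range_subschemeι, Scheme.IdealSheafData.coe_support_vanishingIdeal]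
    rfl
  have hrB : Set.range (Scheme.IdealSheafData.vanishingIdeal Bc).subschemeι = T' := by
    rw [Scheme.IdealSheafData.range_subschemeι, Scheme.IdealSheafData.coe_support_vanishingIdeal]
    rfl
  haveI : GeometricallyIrreducible
      ((Scheme.IdealSheafData.vanishingIdeal Ac).subschemeι ≫ rhoA G Ω ρr) :=
    GeomIrrVarH4.geomIrr_subscheme (rhoA G Ω ρr) Ac
      (fun K _ _ => GeomIrrSchH4.isIrreducible_preimage K (rhoA G Ω ρr) hT1.1)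
  haveI : IrreducibleSpace ↥((Scheme.IdealSheafData.vanishingIdeal Bc).subscheme) := by
    have h1 : IsIrreducible (Set.range (Scheme.IdealSheafData.vanishingIdeal Bc).subschemeι) := by
      rw [hrB]; exact hT'.1
    haveI : IrreducibleSpace ↥(Set.range (Scheme.IdealSheafData.vanishingIdeal Bc).subschemeι) :=
      isIrreducible_iff_irreducibleSpace.mp h1
    exact ((Scheme.IdealSheafData.vanishingIdeal Bc).subschemeι.isClosedEmbedding.isEmbedding.toHomeomorph).irreducibleSpace_iff.mpr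
      inferInstance
  haveI : IrreducibleSpace ↥(pullback
      ((Scheme.IdealSheafData.vanishingIdeal Ac).subschemeι ≫ rhoA G Ω ρr)
      ((Scheme.IdealSheafData.vanishingIdeal Bc).subschemeι ≫ tauB G Ω ρr)) := inferInstance
  have hrange := Scheme.Pullback.range_map
    (f := (Scheme.IdealSheafData.vanishingIdeal Ac).subschemeι ≫ rhoA G Ω ρr)
    (g := (Scheme.IdealSheafData.vanishingIdeal Bc).subschemeι ≫ tauB G Ω ρr)
    (rhoA G Ω ρr) (tauB G Ω ρr)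
    (Scheme.IdealSheafData.vanishingIdeal Ac).subschemeι
    (Scheme.IdealSheafData.vanishingIdeal Bc).subschemeι (𝟙 _)
    (by rw [Category.comp_id]) (by rw [Category.comp_id])
  rw [hrA, hrB] at hrange
  have hW : IsIrreducible ((p1 G Ω ρr) ⁻¹' T1 ∩ (p2 G Ω ρr) ⁻¹' T') := by
    rw [← hrange, ← Set.image_univ]
    exact (IrreducibleSpace.isIrreducible_univ _).image _
      (Scheme.Hom.continuous _).continuousOn
  have hμW : IsIrreducible ((nu G Ω ρr) '' ((p1 G Ω ρr) ⁻¹' T1 ∩ (p2 G Ω ρr) ⁻¹' T')) :=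
    hW.image _ (nu G Ω ρr).continuous.continuousOn
  have hpt1 : ∀ x : ↥(A G Ω ρr), (rB G Ω ρr) ((rhoA G Ω ρr) x) = rB G Ω ρr pt0 :=
    fun x => congrArg _ (Subsingleton.elim _ _)
  have hpt2 : ∀ y : ↥(B G Ω ρr), (rA G Ω ρr) ((tauB G Ω ρr) y) = rA G Ω ρr pt0 :=
    fun y => congrArg _ (Subsingleton.elim _ _)
  have hAsub : T1 ⊆ (nu G Ω ρr) '' ((p1 G Ω ρr) ⁻¹' T1 ∩ (p2 G Ω ρr) ⁻¹' T') := by
    intro x hx
    refine ⟨sg1 G Ω ρr x, ⟨?_, ?_⟩, ?_⟩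
    · show (p1 G Ω ρr) (sg1 G Ω ρr x) ∈ T1
      rw [← Scheme.Hom.comp_apply, sg1_fst]
      exact hx
    · show (p2 G Ω ρr) (sg1 G Ω ρr x) ∈ T'
      rw [← Scheme.Hom.comp_apply, sg1_snd, Scheme.Hom.comp_apply, hpt1]
      exact h'
    · rw [← Scheme.Hom.comp_apply, sg1_nu]
      rfl
  have hBsub : (qB G Ω ρr) '' T' ⊆
      (nu G Ω ρr) '' ((p1 G Ω ρr) ⁻¹' T1 ∩ (p2 G Ω ρr) ⁻¹' T') := by
    rintro _ ⟨y, hy, rfl⟩
    refine ⟨sg2 G Ω ρr y, ⟨?_, ?_⟩, ?_⟩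
    · show (p1 G Ω ρr) (sg2 G Ω ρr y) ∈ T1
      rw [← Scheme.Hom.comp_apply, sg2_fst, Scheme.Hom.comp_apply, hpt2]
      exact h1
    · show (p2 G Ω ρr) (sg2 G Ω ρr y) ∈ T'
      rw [← Scheme.Hom.comp_apply, sg2_snd]
      exact hy
    · rw [← Scheme.Hom.comp_apply, sg2_nu]
  have h3 : (nu G Ω ρr) '' ((p1 G Ω ρr) ⁻¹' T1 ∩ (p2 G Ω ρr) ⁻¹' T') ⊆ T1 :=
    hT1.2 hμW hAsub
  have hsubT1 : closure ((qB G Ω ρr) '' T') ⊆ T1 :=
    closure_minimal (hBsub.trans h3) hAcl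
  obtain ⟨ξ', hξ'⟩ := QuasiSober.sober hT'.1 hBcl
  have hgen : GeneralizingMap (qB G Ω ρr) :=
    Flat.generalizingMap (pullback.fst (piA G Ω ρr ≫ G.t) (ρr ≫ G.t))
  have hcomp : closure {(qB G Ω ρr) ξ'} ∈ irreducibleComponents ↥(A G Ω ρr) :=
    GrpMaxPtH4.closure_mem_irreducibleComponents_of_generalizing (qB G Ω ρr).continuous hgen
      (by rw [hξ'.def]; exact hT')
  have hmem : (qB G Ω ρr) ξ' ∈ (qB G Ω ρr) '' T' :=
    ⟨ξ', by rw [← hξ'.def]; exact subset_closure rfl, rfl⟩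
  have hle : closure {(qB G Ω ρr) ξ'} ⊆ closure ((qB G Ω ρr) '' T') :=
    closure_mono (Set.singleton_subset_iff.2 hmem)
  have hT1le : T1 ⊆ closure {(qB G Ω ρr) ξ'} := hcomp.2 hT1.1 (hle.trans hsubT1)
  exact Set.Subset.antisymm (hT1le.trans hle) hsubT1

end Tr

/-- In a groupoid scheme over a field, every arrow-point lies on a unique irreducible component. -/
theorem unique_comp_through {S : Scheme.{u}} (G : Grpd.GroupoidScheme S) {k : Type u} [Field k]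
    (eU : G.U ≅ Spec (CommRingCat.of k)) (r : G.R) (Z1 Z2 : Set ↥G.R)
    (hZ1 : Z1 ∈ irreducibleComponents ↥G.R) (hZ2 : Z2 ∈ irreducibleComponents ↥G.R)
    (hx1 : r ∈ Z1) (hx2 : r ∈ Z2) : Z1 = Z2 := by
  let ρr : Spec (CommRingCat.of (AlgebraicClosure (G.R.residueField r))) ⟶ G.R :=
    Spec.map (CommRingCat.ofHom (algebraMap (G.R.residueField r)
      (AlgebraicClosure (G.R.residueField r)))) ≫ G.R.fromSpecResidueField r
  have hflat : ∀ g : Spec (CommRingCat.of (AlgebraicClosure (G.R.residueField r))) ⟶ G.U,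
      Flat g := by
    intro g
    haveI : Flat (g ≫ eU.hom) := flat_to_field _
    have h : g = (g ≫ eU.hom) ≫ eU.inv := by
      rw [Category.assoc, Iso.hom_inv_id, Category.comp_id]
    rw [h]
    infer_instance
  haveI : Flat (ρr ≫ G.t) := hflat _
  haveI : Flat (ρr ≫ G.s) := hflat _
  let pt0 : ↥(Spec (CommRingCat.of (AlgebraicClosure (G.R.residueField r)))) :=
    IsLocalRing.closedPoint (AlgebraicClosure (G.R.residueField r))
  have hc0 : (piA G _ ρr) (rA G _ ρr pt0) = r := by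
    rw [← Scheme.Hom.comp_apply, rA_fst, Scheme.Hom.comp_apply]
    exact Scheme.fromSpecResidueField_apply _ _
  have hgen : GeneralizingMap (piA G _ ρr) :=
    Flat.generalizingMap (pullback.fst G.s (ρr ≫ G.s))
  have key : ∀ Z : Set ↥G.R, Z ∈ irreducibleComponents ↥G.R → r ∈ Z →
      ∃ ξ : ↥(A G _ ρr), rA G _ ρr pt0 ∈ irreducibleComponent ξ ∧
        closure {(piA G _ ρr) ξ} = Z := by
    intro Z hZ hxZ
    have hZcl : IsClosed Z := isClosed_of_mem_irreducibleComponents Z hZ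
    obtain ⟨ζ, hζ⟩ := QuasiSober.sober hZ.1 hZcl
    have hζx : ζ ⤳ (piA G _ ρr) (rA G _ ρr pt0) := by
      rw [hc0, specializes_iff_mem_closure, hζ.def]
      exact hxZ
    obtain ⟨ξ, hξc, hξ⟩ := hgen hζx
    refine ⟨ξ, ?_, by rw [hξ]; exact hζ.def⟩
    have hsub : closure {ξ} ⊆ irreducibleComponent ξ :=
      closure_minimal (Set.singleton_subset_iff.2 mem_irreducibleComponent)
        isClosed_irreducibleComponent
    exact hsub (specializes_iff_mem_closure.1 hξc)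
  obtain ⟨ξ1, hc1, hZ1'⟩ := key Z1 hZ1 hx1
  obtain ⟨ξ2, hc2, hZ2'⟩ := key Z2 hZ2 hx2
  have hT' := irreducibleComponent_mem_irreducibleComponents (rB G _ ρr pt0)
  have hC : irreducibleComponent ξ1 = irreducibleComponent ξ2 := by
    rw [eq_closure_image G _ ρr _ (irreducibleComponent_mem_irreducibleComponents ξ1) _ hT' pt0
        hc1 mem_irreducibleComponent,
      eq_closure_image G _ ρr _ (irreducibleComponent_mem_irreducibleComponents ξ2) _ hT' pt0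
        hc2 mem_irreducibleComponent]
  have hI : IsIrreducible ((piA G _ ρr) '' irreducibleComponent ξ1) :=
    isIrreducible_irreducibleComponent.image _ (piA G _ ρr).continuous.continuousOn
  have hm1 : (piA G _ ρr) ξ1 ∈ (piA G _ ρr) '' irreducibleComponent ξ1 :=
    ⟨ξ1, mem_irreducibleComponent, rfl⟩
  have hm2 : (piA G _ ρr) ξ2 ∈ (piA G _ ρr) '' irreducibleComponent ξ1 := by
    rw [hC]
    exact ⟨ξ2, mem_irreducibleComponent, rfl⟩
  have hs1 : Z1 ⊆ closure ((piA G _ ρr) '' irreducibleComponent ξ1) := by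
    rw [← hZ1']
    exact closure_mono (Set.singleton_subset_iff.2 hm1)
  have hs2 : Z2 ⊆ closure ((piA G _ ρr) '' irreducibleComponent ξ1) := by
    rw [← hZ2']
    exact closure_mono (Set.singleton_subset_iff.2 hm2)
  have e1 := Set.Subset.antisymm hs1 (hZ1.2 hI.closure hs1)
  have e2 := Set.Subset.antisymm hs2 (hZ2.2 hI.closure hs2)
  rw [e1, e2]

theorem main1882 (S : Scheme.{u}) (G : Grpd.GroupoidScheme S) (k : Type u) [Field k]
    (eU : G.U ≅ Spec (CommRingCat.of k)) :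
    (∀ r : G.R, (minimalPrimes (G.R.presheaf.stalk r)).Subsingleton) ∧
      ∃! Z : Set G.R, Z ∈ irreducibleComponents (G.R : Type u) ∧
        G.e (eU.inv (IsLocalRing.closedPoint k)) ∈ Z := by
  refine ⟨fun x => ?_, ?_⟩
  · intro I1 hI1 I2 hI2
    let p1 : PrimeSpectrum (G.R.presheaf.stalk x) := ⟨I1, hI1.1.1⟩
    let p2 : PrimeSpectrum (G.R.presheaf.stalk x) := ⟨I2, hI2.1.1⟩
    have hc1 := GeomRedGenPtsH4.mem_irreducibleComponents_of_minimal G.R x p1 hI1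
    have hc2 := GeomRedGenPtsH4.mem_irreducibleComponents_of_minimal G.R x p2 hI2
    have hsp : ∀ p : PrimeSpectrum (G.R.presheaf.stalk x),
        x ∈ closure {(G.R.fromSpecStalk x) (p : ↥(Spec (G.R.presheaf.stalk x)))} := by
      intro p
      have h1 : (G.R.fromSpecStalk x) (p : ↥(Spec (G.R.presheaf.stalk x))) ∈
          Set.range (G.R.fromSpecStalk x) := ⟨p, rfl⟩
      rw [Scheme.range_fromSpecStalk] at h1
      exact specializes_iff_mem_closure.1 h1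
    have heq := unique_comp_through G eU x _ _ hc1 hc2 (hsp p1) (hsp p2)
    have hgp : (G.R.fromSpecStalk x) (p1 : ↥(Spec (G.R.presheaf.stalk x))) =
        (G.R.fromSpecStalk x) (p2 : ↥(Spec (G.R.presheaf.stalk x))) :=
      (isGenericPoint_closure).eq (heq ▸ isGenericPoint_closure)
    have hp : p1 = p2 := (G.R.fromSpecStalk x).isEmbedding.injective hgp
    exact congrArg PrimeSpectrum.asIdeal hp
  · refine ⟨irreducibleComponent (G.e (eU.inv (IsLocalRing.closedPoint k))),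
      ⟨irreducibleComponent_mem_irreducibleComponents _, mem_irreducibleComponent⟩, ?_⟩
    rintro Z ⟨hZ, heZ⟩
    exact unique_comp_through G eU _ _ _ hZ (irreducibleComponent_mem_irreducibleComponents _)
      heZ mem_irreducibleComponent

end Groth.Agent.Lib.GrpdPtIrrH4
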