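import Mathlib
import Groth.Prelude.Def_Grpd
import Groth.Agent.S7456
set_option autoImplicit false
set_option linter.style.haveILetI false

universe u

open CategoryTheory CategoryTheory.Limits AlgebraicGeometry TopologicalSpace

namespace Groth.Agent.Lib.GrpdSatur2H4

/-- For a quasi-compact morphism `f` and a closed set `Z`: a point none of whose generizations
lies in `f(Z)` has an open neighbourhood disjoint from `f(Z)`. -/
theorem exists_open_disjoint_image {X Y : Scheme.{u}} (f : X ⟶ Y) [QuasiCompact f] (Z : Set X)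
    (hZ : IsClosed Z) (y : Y) (hy : ∀ z ∈ Z, ¬ (f z ⤳ y)) :
    ∃ O : Set Y, IsOpen O ∧ y ∈ O ∧ ∀ z ∈ Z, f z ∉ O := by
  obtain ⟨_, ⟨V, hV, rfl⟩, hyV, -⟩ :=
    Y.isBasis_affineOpens.exists_subset_of_mem_open (Set.mem_univ y) isOpen_univ
  have hV' : IsAffineOpen V := hV
  have hc : IsCompact ((f ⁻¹ᵁ V : X.Opens) : Set X) :=
    QuasiCompact.isCompact_preimage (f := f) _ V.2 hV'.isCompact
  obtain ⟨B, g, hg⟩ := isCompact_iff_exists.1 hc
  have hrange : Set.range (g ≫ f) ⊆ Set.range hV'.fromSpec := by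
    rw [hV'.range_fromSpec]
    rintro _ ⟨b, rfl⟩
    rw [Scheme.Hom.comp_apply]
    have : g b ∈ Set.range g := ⟨b, rfl⟩
    rw [hg] at this
    exact this
  obtain ⟨h, hfac⟩ : ∃ h : Spec B ⟶ Spec Γ(Y, V), h ≫ hV'.fromSpec = g ≫ f :=
    ⟨IsOpenImmersion.lift hV'.fromSpec (g ≫ f) hrange, IsOpenImmersion.lift_fac _ _ _⟩
  obtain ⟨φ, hφ⟩ : ∃ φ : Γ(Y, V) ⟶ B, Spec.map φ = h := ⟨Spec.preimage h, Spec.map_preimage h⟩
  obtain ⟨y₀, hy₀⟩ : ∃ y₀, hV'.fromSpec y₀ = y := by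
    have : y ∈ Set.range hV'.fromSpec := by
      rw [hV'.range_fromSpec]
      exact hyV
    exact this
  obtain ⟨I, hI⟩ := (PrimeSpectrum.isClosed_iff_zeroLocus_ideal (g ⁻¹' Z)).1
    (hZ.preimage g.continuous)
  have hI' : ∀ b : Spec B, g b ∈ Z ↔
      (I : Set B) ⊆ ((show PrimeSpectrum B from b).asIdeal : Set B) :=
    fun b => Set.ext_iff.1 hI b
  have hnle : ¬ (I.comap φ.hom ≤ (show PrimeSpectrum Γ(Y, V) from y₀).asIdeal) := by
    intro hle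
    obtain ⟨q, hIq, hq, hqle⟩ := Ideal.exists_ideal_comap_le_prime
      (show PrimeSpectrum Γ(Y, V) from y₀).asIdeal I hle
    obtain ⟨b, hb⟩ : ∃ b : Spec B, (show PrimeSpectrum B from b) = ⟨q, hq⟩ := ⟨_, rfl⟩
    have hbZ : g b ∈ Z := by
      rw [hI', hb]
      exact SetLike.coe_subset_coe.2 hIq
    refine hy (g b) hbZ ?_
    have h1 : h b ⤳ y₀ := by
      rw [← hφ, Spec.map_apply]
      refine (PrimeSpectrum.le_iff_specializes _ _).1 ?_
      show Ideal.comap φ.hom (show PrimeSpectrum B from b).asIdeal ≤ _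
      rw [hb]
      exact hqle
    have h2 := h1.map hV'.fromSpec.continuous
    rw [hy₀, ← Scheme.Hom.comp_apply, hfac, Scheme.Hom.comp_apply] at h2
    exact h2
  obtain ⟨a, haI, hay⟩ := SetLike.not_le_iff_exists.1 hnle
  refine ⟨hV'.fromSpec '' (PrimeSpectrum.basicOpen a : Set (PrimeSpectrum Γ(Y, V))), ?_,
    ⟨y₀, hay, hy₀⟩, ?_⟩
  · exact hV'.fromSpec.isOpenEmbedding.isOpenMap _ (PrimeSpectrum.basicOpen a).2
  · rintro z hz ⟨p, hp, hpz⟩
    have hzV : z ∈ ((f ⁻¹ᵁ V : X.Opens) : Set X) := by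
      show f z ∈ (V : Set Y)
      rw [← hpz, ← hV'.range_fromSpec]
      exact Set.mem_range_self p
    rw [← hg] at hzV
    obtain ⟨b, rfl⟩ := hzV
    have hb := (hI' b).1 hz
    have hhb : h b = p := by
      apply hV'.fromSpec.isOpenEmbedding.injective
      rw [← Scheme.Hom.comp_apply, hfac, Scheme.Hom.comp_apply]
      exact hpz.symm
    refine hp ?_
    rw [← hhb, ← hφ, Spec.map_apply]
    show φ.hom a ∈ (show PrimeSpectrum B from b).asIdeal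
    exact hb (show φ.hom a ∈ I from haI)

lemma exists_compact_open_superset {X : Scheme.{u}} (E : Set X) (hEc : IsCompact E) :
    ∃ V : X.Opens, IsCompact (V : Set X) ∧ E ⊆ V := by
  have : ∀ y : E, ∃ V : X.Opens, IsAffineOpen V ∧ (y : X) ∈ V := by
    intro y
    obtain ⟨_, ⟨V, hV, rfl⟩, hyV, -⟩ :=
      X.isBasis_affineOpens.exists_subset_of_mem_open (Set.mem_univ (y : X)) isOpen_univ
    exact ⟨V, hV, hyV⟩
  choose V hVa hyV using this
  obtain ⟨t, ht⟩ := hEc.elim_finite_subcover (fun y : E => (V y : Set X))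
    (fun y => (V y).2) (fun y hy => Set.mem_iUnion.2 ⟨⟨y, hy⟩, hyV _⟩)
  exact ⟨⟨⋃ y ∈ t, (V y : Set X), isOpen_biUnion fun y _ => (V y).2⟩,
    t.isCompact_biUnion fun y _ => (hVa y).isCompact, ht⟩

theorem main1894 (S : Scheme.{u}) (G : Grpd.GroupoidScheme S) [QuasiCompact G.s] [Flat G.s]
    [QuasiCompact G.t] [Flat G.t] (W : G.U.Opens) (hW : IsCompact (W : Set G.U)) :
    ∃ V W' : G.U.Opens, G.s ⁻¹ᵁ V = G.t ⁻¹ᵁ V ∧ IsCompact (W' : Set G.U) ∧ W ≤ V ∧ V ≤ W' := by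
  have hinv := (Groth.Agent.S7456.result S G).1
  have hte : ∀ u : G.U, G.t (G.e u) = u := fun u => by
    rw [← Scheme.Hom.comp_apply, G.e_t]
    rfl
  have hse : ∀ u : G.U, G.s (G.e u) = u := fun u => by
    rw [← Scheme.Hom.comp_apply, G.e_s]
    rfl
  set E : Set G.U := ⇑G.t '' (⇑G.s ⁻¹' (W : Set G.U)) with hE
  have hEc : IsCompact E :=
    (QuasiCompact.isCompact_preimage (f := G.s) _ W.2 hW).image G.t.continuous
  obtain ⟨W', hW'c, hEW'⟩ := exists_compact_open_superset E hEc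
  have hWE : (W : Set G.U) ⊆ E := fun w hw => ⟨G.e w, by
    show G.s (G.e w) ∈ (W : Set G.U)
    rw [hse]
    exact hw, hte w⟩
  set Zc : Set G.U := (W' : Set G.U)ᶜ with hZc
  have hZcc : IsClosed Zc := W'.2.isClosed_compl
  set T : Set G.U := ⇑G.t '' (⇑G.s ⁻¹' Zc) with hT
  have hinvT : ⇑G.s ⁻¹' T = ⇑G.t ⁻¹' T := hinv Zc
  have hinvE : ⇑G.s ⁻¹' E = ⇑G.t ⁻¹' E := hinv (W : Set G.U)
  set T' : Set G.U := {u | ∃ τ ∈ T, τ ⤳ u} with hT'
  have hgs : GeneralizingMap G.s := Flat.generalizingMap (f := G.s)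
  have hgt : GeneralizingMap G.t := Flat.generalizingMap (f := G.t)
  have hopen : IsOpen T'ᶜ := by
    rw [isOpen_iff_forall_mem_open]
    intro y hy
    have hy' : ∀ z ∈ ⇑G.s ⁻¹' Zc, ¬ (G.t z ⤳ y) := fun z hz hzy => hy ⟨G.t z, ⟨z, hz, rfl⟩, hzy⟩
    obtain ⟨O, hO, hyO, hOd⟩ := exists_open_disjoint_image G.t (⇑G.s ⁻¹' Zc)
      (hZcc.preimage G.s.continuous) y hy'
    refine ⟨O, ?_, hO, hyO⟩
    rintro u huO ⟨τ, ⟨z, hz, rfl⟩, hτu⟩
    exact hOd z hz (hτu.mem_open hO huO)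
  have hsub : ∀ (f g : G.R → G.U), Continuous g → GeneralizingMap f → f ⁻¹' T = g ⁻¹' T →
      f ⁻¹' T' ⊆ g ⁻¹' T' := by
    rintro f g hg hf hfg r ⟨τ, hτT, hτ⟩
    obtain ⟨r', hr'r, hr'τ⟩ := hf hτ
    have : r' ∈ f ⁻¹' T := by
      show f r' ∈ T
      rw [hr'τ]
      exact hτT
    rw [hfg] at this
    exact ⟨g r', this, hr'r.map hg⟩
  have hinvT' : ⇑G.s ⁻¹' T' = ⇑G.t ⁻¹' T' :=
    Set.Subset.antisymm (hsub _ _ G.t.continuous hgs hinvT)
      (hsub _ _ G.s.continuous hgt hinvT.symm)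
  refine ⟨⟨T'ᶜ, hopen⟩, W', ?_, hW'c, ?_, ?_⟩
  · ext r
    show G.s r ∈ T'ᶜ ↔ G.t r ∈ T'ᶜ
    have := Set.ext_iff.1 hinvT' r
    exact not_congr this
  · intro w hw
    show w ∈ T'ᶜ
    rintro ⟨τ, ⟨r, hr, rfl⟩, hτw⟩
    have hτW : G.t r ∈ (W : Set G.U) := hτw.mem_open W.2 hw
    have : r ∈ ⇑G.t ⁻¹' E := hWE hτW
    rw [← hinvE] at this
    exact hr (hEW' this)
  · intro u hu
    by_contra huW'
    have huZ : u ∈ Zc := huW'
    exact hu ⟨u, ⟨G.e u, by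
      show G.s (G.e u) ∈ Zc
      rw [hse]
      exact huZ, hte u⟩, specializes_rfl⟩

end Groth.Agent.Lib.GrpdSatur2H4
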