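import Mathlib
import Groth.Prelude.Def_Grpd
set_option autoImplicit false
set_option linter.style.haveILetI false

universe u

open CategoryTheory CategoryTheory.Limits AlgebraicGeometry TopologicalSpace

namespace Groth.Agent.Lib.GrpdSaturH4

/-- a quasi-compact set stable under generization is the intersection of the quasi-compact opens
containing it -/
theorem compact_gen_eq_iInter {X : Scheme.{u}} (E : Set X) (hEc : IsCompact E)
    (hEg : StableUnderGeneralization E) :
    ∃ (ι : Type u) (_ : Nonempty ι) (V : ι → X.Opens), (∀ i, IsCompact (V i : Set X)) ∧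
      E = ⋂ i, (V i : Set X) := by
  have key : ∀ (P : Set X), IsOpen P → E ⊆ P →
      ∃ V : X.Opens, IsCompact (V : Set X) ∧ E ⊆ V ∧ (V : Set X) ⊆ P := by
    intro P hP hEP
    have : ∀ y : E, ∃ V : X.Opens, IsAffineOpen V ∧ (y : X) ∈ V ∧ (V : Set X) ⊆ P := by
      intro y
      obtain ⟨_, ⟨V, hV, rfl⟩, hyV, hVP⟩ :=
        X.isBasis_affineOpens.exists_subset_of_mem_open (hEP y.2) hP
      exact ⟨V, hV, hyV, hVP⟩
    choose V hVa hyV hVP using this
    obtain ⟨t, ht⟩ := hEc.elim_finite_subcover (fun y : E => (V y : Set X))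
      (fun y => (V y).2) (fun y hy => Set.mem_iUnion.2 ⟨⟨y, hy⟩, hyV _⟩)
    refine ⟨⟨⋃ y ∈ t, (V y : Set X), isOpen_biUnion fun y _ => (V y).2⟩, ?_, ht, ?_⟩
    · exact t.isCompact_biUnion fun y _ => (hVa y).isCompact
    · exact Set.iUnion₂_subset fun y _ => hVP y
  refine ⟨{V : X.Opens // IsCompact (V : Set X) ∧ E ⊆ V}, ?_, fun i => i.1, fun i => i.2.1, ?_⟩
  · obtain ⟨V, hV, hEV, -⟩ := key Set.univ isOpen_univ (Set.subset_univ _)
    exact ⟨⟨V, hV, hEV⟩⟩
  · apply Set.Subset.antisymm
    · exact Set.subset_iInter fun i => i.2.2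
    · intro x hx
      by_contra hxE
      have hEP : E ⊆ (closure ({x} : Set X))ᶜ := by
        intro y hy hyc
        exact hxE (hEg (specializes_iff_mem_closure.2 hyc) hy)
      obtain ⟨V, hV, hEV, hVP⟩ := key _ isClosed_closure.isOpen_compl hEP
      have hxV : x ∈ (V : Set X) := Set.mem_iInter.1 hx ⟨V, hV, hEV⟩
      exact hVP hxV (subset_closure (Set.mem_singleton x))

theorem main1893 (S : Scheme.{u}) (G : Grpd.GroupoidScheme S) [QuasiCompact G.s] [Flat G.t]
    (W : G.U.Opens) (hW : IsCompact (W : Set G.U)) :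
    ∃ (ι : Type u) (_ : Nonempty ι) (V : ι → G.U.Opens), (∀ i, IsCompact (V i : Set G.U)) ∧
      ⇑G.t '' (⇑G.s ⁻¹' (W : Set G.U)) = ⋂ i, (V i : Set G.U) := by
  apply compact_gen_eq_iInter
  · exact (QuasiCompact.isCompact_preimage (f := G.s) _ W.2 hW).image G.t.continuous
  · exact (Flat.generalizingMap (f := G.t)).stableUnderGeneralization_image
      (W.2.preimage G.s.continuous).stableUnderGeneralization

end Groth.Agent.Lib.GrpdSaturH4
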