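import Mathlib
import Groth.Agent.Lib.ConstrNF_lead

/-!
# Two field structures on a finitely generated domain

If `A` is a domain finitely generated over a field `k` and `L ⊆ A` is a subring all of whose
nonzero elements are units of `A` (e.g. the image of another field), then `L` is algebraic over `k`.
-/

set_option autoImplicit false

universe u

open Polynomial

namespace Groth.Agent.Lib.GrpdStabH8

open Groth.Agent.Lib.ConstrNF

/-- the image of `Spec S → Spec R` for an injective ring map of finite presentation from a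
domain contains a nonempty basic open. -/
theorem exists_basicOpen_subset_range {R S : Type u} [CommRing R] [IsDomain R] [CommRing S]
    [Nontrivial S] (f : R →+* S) (hf : f.FinitePresentation) (hinj : Function.Injective f) :
    ∃ g : R, g ≠ 0 ∧ ∀ p : PrimeSpectrum R, g ∉ p.asIdeal → p ∈ Set.range (PrimeSpectrum.comap f) := by
  have hcons := PrimeSpectrum.isConstructible_range_comap hf
  have hfin := finLC_of_isConstructible hcons
  obtain ⟨q⟩ := (inferInstance : Nonempty (PrimeSpectrum S))
  have hne : (Set.range (PrimeSpectrum.comap f)).Nonempty := ⟨_, ⟨q, rfl⟩⟩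
  obtain ⟨U₀, hU₀, ⟨x, hx1, hx2⟩, hsub⟩ := hfin.exists_open hne
  have hcl : closure (Set.range (PrimeSpectrum.comap f)) = Set.univ := by
    rw [PrimeSpectrum.closure_range_comap, (RingHom.injective_iff_ker_eq_bot f).mp hinj]
    simp
  rw [hcl, Set.univ_inter] at hsub
  obtain ⟨_, ⟨g, rfl⟩, hxg, hgU⟩ :=
    PrimeSpectrum.isTopologicalBasis_basic_opens.exists_subset_of_mem_open hx2 hU₀
  refine ⟨g, ?_, fun p hp => hsub (hgU hp)⟩
  rintro rfl
  exact hxg (Ideal.zero_mem _)

/-- Sylvester-type sequence of polynomials: `a₀ = X`, `aₙ₊₁ = aₙ² - aₙ + 1`. -/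
noncomputable def syl (k : Type u) [Field k] : ℕ → k[X]
  | 0 => X
  | n + 1 => syl k n ^ 2 - syl k n + 1

theorem syl_succ_sub_one (k : Type u) [Field k] (n : ℕ) :
    syl k (n + 1) - 1 = syl k n * (syl k n - 1) := by
  simp only [syl]
  ring

theorem syl_dvd_sub_one (k : Type u) [Field k] {m n : ℕ} (h : m < n) :
    syl k m ∣ syl k n - 1 := by
  induction n with
  | zero => omega
  | succ n ih =>
    rw [syl_succ_sub_one]
    rcases Nat.lt_succ_iff_lt_or_eq.mp h with h' | h'
    · exact Dvd.dvd.mul_left (ih h') _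
    · subst h'
      exact Dvd.intro _ rfl

theorem syl_isCoprime (k : Type u) [Field k] {m n : ℕ} (h : m ≠ n) :
    IsCoprime (syl k m) (syl k n) := by
  wlog hlt : m < n generalizing m n
  · exact (this (Ne.symm h) (lt_of_le_of_ne (not_lt.mp hlt) (Ne.symm h))).symm
  obtain ⟨q, hq⟩ := syl_dvd_sub_one k hlt
  refine ⟨-q, 1, ?_⟩
  have : syl k n = syl k m * q + 1 := by rw [← hq]; ring
  rw [this]
  ring

theorem syl_monic_natDegree (k : Type u) [Field k] (n : ℕ) :
    (syl k n).Monic ∧ 1 ≤ (syl k n).natDegree := by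
  induction n with
  | zero => exact ⟨monic_X, by simp [syl]⟩
  | succ n ih =>
    obtain ⟨hm, hd⟩ := ih
    have h1 : (syl k n ^ 2).Monic := hm.pow 2
    have h2 : (syl k n ^ 2).natDegree = 2 * (syl k n).natDegree := hm.natDegree_pow 2
    have h3 : (-(syl k n) + 1).degree < (syl k n ^ 2).degree := by
      have h4 : (-(syl k n) + 1).natDegree ≤ (syl k n).natDegree := by
        refine le_trans (natDegree_add_le _ _) ?_
        simp
      have hne : syl k n ^ 2 ≠ 0 := h1.ne_zero
      rw [degree_eq_natDegree hne]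
      refine lt_of_le_of_lt degree_le_natDegree ?_
      have : (-(syl k n) + 1).natDegree < (syl k n ^ 2).natDegree := by omega
      exact_mod_cast this
    have h5 : syl k (n + 1) = syl k n ^ 2 + (-(syl k n) + 1) := by
      simp only [syl]; ring
    have hmon : (syl k (n + 1)).Monic := by
      rw [h5]
      exact h1.add_of_left h3
    refine ⟨hmon, ?_⟩
    rw [h5, natDegree_add_eq_left_of_degree_lt h3, h2]
    omega


theorem exists_syl_isCoprime (k : Type u) [Field k] (g : k[X]) (hg : g ≠ 0) :
    ∃ n : ℕ, IsCoprime (syl k n) g := by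
  classical
  by_contra hcon
  push Not at hcon
  let d : ℕ → k[X] := fun n => EuclideanDomain.gcd (syl k n) g
  have hd1 : ∀ n, d n ∣ syl k n := fun n => EuclideanDomain.gcd_dvd_left _ _
  have hd2 : ∀ n, d n ∣ g := fun n => EuclideanDomain.gcd_dvd_right _ _
  have hd3 : ∀ n, ¬ IsUnit (d n) := fun n h =>
    hcon n (EuclideanDomain.gcd_isUnit_iff.mp h)
  have hd0 : ∀ n, d n ≠ 0 := fun n h => hg (by
    have := hd2 n
    rw [h] at this
    exact zero_dvd_iff.mp this)
  have hdeg : ∀ n, 1 ≤ (d n).natDegree := by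
    intro n
    by_contra hlt
    have h0 : (d n).natDegree = 0 := by omega
    obtain ⟨a, ha⟩ : ∃ a, d n = C a := ⟨_, eq_C_of_natDegree_eq_zero h0⟩
    have ha0 : a ≠ 0 := by
      rintro rfl
      exact hd0 n (by rw [ha, C_0])
    exact hd3 n (by rw [ha]; exact isUnit_C.mpr (isUnit_iff_ne_zero.mpr ha0))
  have hcop : ((Finset.range (g.natDegree + 1) : Finset ℕ) : Set ℕ).Pairwise
      (Function.onFun IsCoprime d) := by
    intro m _ n _ hmn
    exact ((syl_isCoprime k hmn).of_isCoprime_of_dvd_left (hd1 m)).of_isCoprime_of_dvd_right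
      (hd1 n)
  have hprod : ∏ n ∈ Finset.range (g.natDegree + 1), d n ∣ g :=
    Finset.prod_dvd_of_coprime hcop (fun n _ => hd2 n)
  have h1 := natDegree_le_of_dvd hprod hg
  rw [natDegree_prod _ _ (fun n _ => hd0 n)] at h1
  have h2 : g.natDegree + 1 ≤ ∑ n ∈ Finset.range (g.natDegree + 1), (d n).natDegree := by
    calc g.natDegree + 1 = ∑ n ∈ Finset.range (g.natDegree + 1), 1 := by simp
      _ ≤ _ := Finset.sum_le_sum (fun n _ => hdeg n)
  omega

/-- evaluation of the Sylvester polynomials stays inside any subring containing the point. -/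
theorem aeval_syl_mem {k A : Type u} [Field k] [CommRing A] [Algebra k A] (L : Subring A) (y : A)
    (hy : y ∈ L) (n : ℕ) : aeval y (syl k n) ∈ L := by
  induction n with
  | zero => simpa [syl] using hy
  | succ n ih =>
    simp only [syl, map_add, map_sub, map_pow, map_one]
    exact L.add_mem (L.sub_mem (L.pow_mem ih 2) ih) L.one_mem

/-- **Key algebraic lemma.** -/
theorem isAlgebraic_of_mem_subring (k A : Type u) [Field k] [CommRing A] [IsDomain A] [Algebra k A]
    [Algebra.FiniteType k A] (L : Subring A) (hL : ∀ z ∈ L, z = 0 ∨ IsUnit z) (y : A)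
    (hy : y ∈ L) : IsAlgebraic k y := by
  by_contra htr
  have hinj : Function.Injective (aeval (R := k) y) := transcendental_iff_injective.mp htr
  let φ : k[X] →+* A := (aeval (R := k) y).toRingHom
  have hφft : φ.FiniteType := by
    have h1 : (algebraMap k A).FiniteType := RingHom.finiteType_algebraMap.mpr inferInstance
    have h2 : algebraMap k A = φ.comp (C : k →+* k[X]) := by
      ext c
      simp [φ]
    rw [h2] at h1
    exact RingHom.FiniteType.of_comp_finiteType h1
  have hφfp : φ.FinitePresentation := by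
    letI := φ.toAlgebra
    haveI : Algebra.FiniteType k[X] A := hφft
    have : Algebra.FinitePresentation k[X] A :=
      Algebra.FinitePresentation.of_finiteType.mp inferInstance
    exact this
  obtain ⟨g, hg0, hg⟩ := exists_basicOpen_subset_range φ hφfp hinj
  obtain ⟨n, hn⟩ := exists_syl_isCoprime k g hg0
  obtain ⟨hmon, hdeg⟩ := syl_monic_natDegree k n
  have hnu : ¬ IsUnit (syl k n) := by
    intro hu
    have := natDegree_eq_zero_of_isUnit hu
    omega
  obtain ⟨M, hM, hle⟩ := Ideal.exists_le_maximal (Ideal.span {syl k n})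
    (by rwa [Ne, Ideal.span_singleton_eq_top])
  have hsM : syl k n ∈ M := hle (Ideal.mem_span_singleton_self _)
  have hgM : g ∉ M := by
    intro hgM
    obtain ⟨a, b, hab⟩ := hn
    have : (1 : k[X]) ∈ M := by
      rw [← hab]
      exact M.add_mem (M.mul_mem_left a hsM) (M.mul_mem_left b hgM)
    exact hM.ne_top ((Ideal.eq_top_iff_one M).mpr this)
  obtain ⟨q, hq⟩ := hg ⟨M, hM.isPrime⟩ hgM
  have hmem : φ (syl k n) ∈ q.asIdeal := by
    have : syl k n ∈ (PrimeSpectrum.comap φ q).asIdeal := by rw [hq]; exact hsM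
    exact this
  have hL' := hL _ (aeval_syl_mem (k := k) L y hy n)
  rcases hL' with h0 | hu
  · have : syl k n = 0 := hinj (by rw [h0, map_zero (aeval (R := k) y)])
    exact hmon.ne_zero this
  · exact q.2.ne_top (Ideal.eq_top_of_isUnit_mem _ hmem hu)


/-- Two field structures `σ, τ : k → A` on a domain finitely generated via `σ`, with a common
retraction `ε : A → k`, agree. -/
theorem ringHom_eq_of_retraction (k A : Type u) [Field k] [CommRing A] [IsDomain A]
    (σ τ : k →+* A) (ε : A →+* k) (hσ : ∀ c, ε (σ c) = c) (hτ : ∀ c, ε (τ c) = c)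
    (hft : σ.FiniteType) : σ = τ := by
  letI : Algebra k A := σ.toAlgebra
  haveI : Algebra.FiniteType k A := hft
  ext c
  set y := τ c with hy
  have hyL : y ∈ τ.range := ⟨c, rfl⟩
  have hL : ∀ z ∈ τ.range, z = 0 ∨ IsUnit z := by
    rintro _ ⟨a, rfl⟩
    by_cases ha : a = 0
    · left; rw [ha, map_zero]
    · right; exact (isUnit_iff_ne_zero.mpr ha).map τ
  have halg := isAlgebraic_of_mem_subring k A τ.range hL y hyL
  have hint : IsIntegral k y := halg.isIntegral
  have hirr := minpoly.irreducible hint
  -- `ε` is a `k`-algebra map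
  let εa : A →ₐ[k] k := { ε with commutes' := fun a => hσ a }
  have hroot : (minpoly k y).IsRoot c := by
    have h1 : aeval y (minpoly k y) = 0 := minpoly.aeval k y
    have h2 := congrArg εa h1
    rw [← aeval_algHom_apply, map_zero] at h2
    have h3 : εa y = c := hτ c
    rw [h3] at h2
    simpa [IsRoot, aeval_def] using h2
  obtain ⟨q, hq⟩ := dvd_iff_isRoot.mpr hroot
  have hq' : IsUnit q := by
    rcases hirr.isUnit_or_isUnit hq with h | h
    · exact absurd h (not_isUnit_X_sub_C c)
    · exact h
  have h1 : aeval y (minpoly k y) = 0 := minpoly.aeval k y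
  rw [hq, map_mul] at h1
  have h2 : aeval y q ≠ 0 := (hq'.map (aeval (R := k) y)).ne_zero
  have h3 : aeval y (X - C c) = 0 := (mul_eq_zero.mp h1).resolve_right h2
  simp only [map_sub, aeval_X, aeval_C] at h3
  have : y = σ c := sub_eq_zero.mp h3
  rw [this]

end Groth.Agent.Lib.GrpdStabH8
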