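import Mathlib
import Groth.Agent.Lib.GrpdStab1_helper8

set_option autoImplicit false

universe u

open CategoryTheory CategoryTheory.Limits AlgebraicGeometry TopologicalSpace

namespace Groth.Agent.Lib.GrpdStabH8

/-- Let `R` be a scheme with two morphisms `s, t` to `Spec k` (`s` locally of finite type) and a
common section `e`. Every point specializing to the image of `e` lies in the image of an immersion
on which `s` and `t` agree. -/
theorem exists_immersion_eq (k : Type u) [Field k] {R : Scheme.{u}}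
    (s t : R ⟶ Spec (CommRingCat.of k)) [LocallyOfFiniteType s]
    (e : Spec (CommRingCat.of k) ⟶ R) (hes : e ≫ s = 𝟙 _) (het : e ≫ t = 𝟙 _)
    (pt : Spec (CommRingCat.of k)) (ξ : R) (hξ : ξ ⤳ e pt) :
    ∃ (V : Scheme.{u}) (ι : V ⟶ R), IsImmersion ι ∧ ξ ∈ Set.range ι ∧ ι ≫ s = ι ≫ t := by
  -- affine open around `e pt`
  obtain ⟨W, hW, hr₀W⟩ : ∃ W : R.Opens, IsAffineOpen W ∧ e pt ∈ W := by
    obtain ⟨_, ⟨W, hW, rfl⟩, hxW, -⟩ :=
      R.isBasis_affineOpens.exists_subset_of_mem_open (Set.mem_univ (e pt)) isOpen_univ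
    exact ⟨W, hW, hxW⟩
  have hξW : ξ ∈ W := hξ.mem_open W.2 hr₀W
  -- ring maps
  let φs : CommRingCat.of k ⟶ Γ(R, W) := Spec.preimage (hW.fromSpec ≫ s)
  let φt : CommRingCat.of k ⟶ Γ(R, W) := Spec.preimage (hW.fromSpec ≫ t)
  have hφs : Spec.map φs = hW.fromSpec ≫ s := Spec.map_preimage _
  have hφt : Spec.map φt = hW.fromSpec ≫ t := Spec.map_preimage _
  -- the section lifts to `Spec Γ(R, W)`
  have hrange : Set.range e ⊆ Set.range hW.fromSpec := by
    rintro _ ⟨x, rfl⟩
    have : x = pt := Subsingleton.elim (α := PrimeSpectrum k) _ _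
    rw [this, hW.range_fromSpec]
    exact hr₀W
  let e' : Spec (CommRingCat.of k) ⟶ Spec Γ(R, W) := IsOpenImmersion.lift hW.fromSpec e hrange
  have he' : e' ≫ hW.fromSpec = e := IsOpenImmersion.lift_fac _ _ _
  let φe : Γ(R, W) ⟶ CommRingCat.of k := Spec.preimage e'
  have hφe : Spec.map φe = e' := Spec.map_preimage _
  have hσε : φs ≫ φe = 𝟙 _ := by
    apply Spec.map_injective
    rw [Spec.map_comp, hφe, hφs, ← Category.assoc, he', hes, Spec.map_id]
  have hτε : φt ≫ φe = 𝟙 _ := by
    apply Spec.map_injective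
    rw [Spec.map_comp, hφe, hφt, ← Category.assoc, he', het, Spec.map_id]
  have hσε' : ∀ c : k, φe.hom (φs.hom c) = c := fun c => by
    have := congrArg (fun f => f.hom c) hσε
    simpa using this
  have hτε' : ∀ c : k, φe.hom (φt.hom c) = c := fun c => by
    have := congrArg (fun f => f.hom c) hτε
    simpa using this
  have hft : φs.hom.FiniteType := by
    haveI : LocallyOfFiniteType (Spec.map φs) := by rw [hφs]; infer_instance
    exact (HasRingHomProperty.Spec_iff (P := @LocallyOfFiniteType)).mp inferInstance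
  -- the prime of `ξ`
  set q := hW.primeIdealOf ⟨ξ, hξW⟩ with hq
  have hqξ : hW.fromSpec q = ξ := hW.fromSpec_primeIdealOf ⟨ξ, hξW⟩
  -- `q ≤ ker φe`
  have hqle : q.asIdeal ≤ RingHom.ker φe.hom := by
    have hsp0 : hW.fromSpec q ⤳ hW.fromSpec (e' pt) := by
      rw [hqξ, ← Scheme.Hom.comp_apply, he']
      exact hξ
    have hsp : @Specializes (↥(Spec Γ(R, W))) _ q (e' pt) :=
      (hW.fromSpec.isOpenEmbedding.isInducing.specializes_iff).mp hsp0
    have hle : q ≤ e' pt := (PrimeSpectrum.le_iff_specializes _ _).mpr hsp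
    intro b hb
    have hb' : b ∈ (e' pt).asIdeal := hle hb
    rw [← hφe] at hb'
    have : φe.hom b ∈ pt.asIdeal := hb'
    have hpt : pt.asIdeal = ⊥ := by
      have := pt.2
      exact (Ideal.eq_bot_or_top pt.asIdeal).resolve_right this.ne_top
    rw [hpt] at this
    exact this
  let A := Γ(R, W) ⧸ q.asIdeal
  let ε : A →+* k := Ideal.Quotient.lift q.asIdeal φe.hom (fun b hb => hqle hb)
  let σA : k →+* A := (Ideal.Quotient.mk q.asIdeal).comp φs.hom
  let τA : k →+* A := (Ideal.Quotient.mk q.asIdeal).comp φt.hom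
  have hστ : σA = τA := by
    refine ringHom_eq_of_retraction k A σA τA ε ?_ ?_ ?_
    · intro c
      simp only [σA, ε, RingHom.comp_apply]
      exact hσε' c
    · intro c
      simp only [τA, ε, RingHom.comp_apply]
      exact hτε' c
    · exact (RingHom.FiniteType.of_surjective _ Ideal.Quotient.mk_surjective).comp hft
  -- the immersion
  let m : Γ(R, W) ⟶ CommRingCat.of A := CommRingCat.ofHom (Ideal.Quotient.mk q.asIdeal)
  haveI : IsClosedImmersion (Spec.map m) :=
    IsClosedImmersion.spec_of_surjective m Ideal.Quotient.mk_surjective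
  refine ⟨Spec (CommRingCat.of A), Spec.map m ≫ hW.fromSpec, inferInstance, ?_, ?_⟩
  · refine ⟨(⟨⊥, Ideal.isPrime_bot⟩ : PrimeSpectrum A), ?_⟩
    rw [Scheme.Hom.comp_apply, ← hqξ]
    congr 1
    apply PrimeSpectrum.ext
    change Ideal.comap (Ideal.Quotient.mk q.asIdeal) ⊥ = q.asIdeal
    rw [← RingHom.ker_eq_comap_bot, Ideal.mk_ker]
  · rw [Category.assoc, Category.assoc, ← hφs, ← hφt, ← Spec.map_comp, ← Spec.map_comp]
    congr 1
    ext c
    exact congrArg (fun f : k →+* A => f c) hστ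

end Groth.Agent.Lib.GrpdStabH8
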