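import Mathlib
import Groth.Agent.Lib.GrpdStab2_helper8
import Groth.Agent.Lib.GrpdDim_helper8
import Groth.Agent.Lib.RegMeet1_helper8

set_option autoImplicit false

universe u

open CategoryTheory CategoryTheory.Limits AlgebraicGeometry TopologicalSpace

namespace Groth.Agent.Lib.GrpdStabH8

theorem main1883 (S : Scheme.{u}) (G : Grpd.GroupoidScheme S) (k : Type u) [Field k]
    (eU : G.U ≅ Spec (CommRingCat.of k)) [LocallyOfFiniteType G.s] [LocallyOfFiniteType G.t] :
    topologicalKrullDim G.R = topologicalKrullDim G.stabilizer := by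
  apply le_antisymm
  · set s := G.s ≫ eU.hom with hs
    set t := G.t ≫ eU.hom with ht
    set e := eU.inv ≫ G.e with he
    have hes : e ≫ s = 𝟙 _ := by
      rw [he, hs, Category.assoc, ← Category.assoc G.e, G.e_s, Category.id_comp, Iso.inv_hom_id]
    have het : e ≫ t = 𝟙 _ := by
      rw [he, ht, Category.assoc, ← Category.assoc G.e, G.e_t, Category.id_comp, Iso.inv_hom_id]
    let pt : Spec (CommRingCat.of k) := (⟨⊥, Ideal.isPrime_bot⟩ : PrimeSpectrum k)
    have equidim := (LocDimProdH8.equidim_of_localDim_const k G.R s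
      (fun a b => GrpdDimH8.localDim_const G k eU a b)).1
    have hZ₀ := irreducibleComponent_mem_irreducibleComponents (e pt)
    have hr₀ : e pt ∈ irreducibleComponent (e pt) := mem_irreducibleComponent
    obtain ⟨ξ, hξ⟩ := QuasiSober.sober hZ₀.1 (isClosed_of_mem_irreducibleComponents _ hZ₀)
    have hξcl : closure ({ξ} : Set G.R) = irreducibleComponent (e pt) := hξ
    have hsp : ξ ⤳ e pt := by
      rw [specializes_iff_mem_closure, hξcl]
      exact hr₀
    have hdim : topologicalKrullDim G.R = ((Order.height ξ : ℕ∞) : WithBot ℕ∞) := by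
      rw [← equidim _ hZ₀, ← hξcl, Groth.Agent.ClosHtH8.topologicalKrullDim_closure_singleton]
    obtain ⟨V, ι, hι, hξV, hst⟩ := exists_immersion_eq k s t e hes het pt ξ hsp
    have hst' : ι ≫ G.s = ι ≫ G.t := by
      rw [hs, ht, ← Category.assoc, ← Category.assoc] at hst
      exact (cancel_mono eU.hom).mp hst
    have hcond : ι ≫ G.j = (ι ≫ G.s) ≫ G.diag := by
      apply pullback.hom_ext
      · rw [Category.assoc, Category.assoc, Grpd.GroupoidScheme.j, pullback.lift_fst,
          Grpd.GroupoidScheme.diag, pullback.lift_fst, Category.comp_id, hst']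
      · rw [Category.assoc, Category.assoc, Grpd.GroupoidScheme.j, pullback.lift_snd,
          Grpd.GroupoidScheme.diag, pullback.lift_snd, Category.comp_id]
    let ℓ : V ⟶ G.stabilizer := pullback.lift ι (ι ≫ G.s) hcond
    have hℓ : ℓ ≫ pullback.fst G.j G.diag = ι := pullback.lift_fst _ _ _
    have hind : Topology.IsInducing ℓ := by
      refine Topology.IsInducing.of_comp ℓ.continuous (pullback.fst G.j G.diag).continuous ?_
      have : (⇑(pullback.fst G.j G.diag) ∘ ⇑ℓ) = ⇑ι := by
        rw [← hℓ]; rfl
      exact this ▸ ι.isEmbedding.isInducing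
    have h1 : topologicalKrullDim V ≤ topologicalKrullDim G.stabilizer := hind.topologicalKrullDim_le
    have h2 : topologicalKrullDim ↥(Set.range ι) = topologicalKrullDim V :=
      (IsHomeomorph.topologicalKrullDim_eq _ (ι.isEmbedding.toHomeomorph).isHomeomorph).symm
    have h3 := RegMeetH8.height_le_topDim k s (Set.range ι) ⟨V, ι, hι, rfl⟩ ξ hξV
    rw [hdim]
    exact le_trans h3 (h2 ▸ h1)
  · haveI : IsImmersion G.diag := inferInstanceAs (IsImmersion (pullback.diagonal G.pU))
    haveI : IsImmersion (pullback.fst G.j G.diag) := inferInstance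
    exact (pullback.fst G.j G.diag).isEmbedding.isInducing.topologicalKrullDim_le

end Groth.Agent.Lib.GrpdStabH8
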