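import Mathlib
import Groth.Prelude.Def_Grpd
import Groth.Agent.Lib.FitStrat6_helper7

/-!
# Invariant thickenings over an arbitrary invariant open with locally constant rank (helper7)

Generalisation of the `invW'` construction of `FitStrat5_helper7` to any invariant open `W`
contained in the locus where the rank of `G.s` is locally constant.
-/

set_option backward.isDefEq.respectTransparency false
set_option backward.isDefEq.respectTransparency.types false
set_option linter.style.haveILetI false
set_option linter.unusedSectionVars false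
set_option linter.unusedVariables false
set_option autoImplicit false
set_option maxHeartbeats 1600000

universe u

open CategoryTheory CategoryTheory.Limits AlgebraicGeometry TopologicalSpace

namespace Groth.Agent.Lib.GrpdThickH7

open Groth.Agent.Lib.GrpdInvOpenH6 Groth.Agent.Lib.FitStratH7

variable {S : Scheme.{u}} (G : Grpd.GroupoidScheme S) [IsFinite G.s]
  (W : G.U.Opens) (hWlc : (W : Set G.U) ⊆ lcLocus G.s)

include hWlc in
theorem lcW (w : W.toScheme) : w ∈ lcLocus (G.s ∣_ W) :=
  lcLocus_morphismRestrict G.s W hWlc w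

/-- The flattening ideal sheaf on `W`. -/
noncomputable def thickI : W.toScheme.IdealSheafData :=
  flatI (G.s ∣_ W) (lcW G W hWlc)

/-- The inclusion of the thickening. -/
noncomputable def thickι : (thickI G W hWlc).subscheme ⟶ G.U := (thickI G W hWlc).subschemeι ≫ W.ι

theorem support_thickI : (thickI G W hWlc).support = ⊤ := support_flatI _ _

theorem thickι_mem (z : (thickI G W hWlc).subscheme) : thickι G W hWlc z ∈ W := by
  show W.ι ((thickI G W hWlc).subschemeι z) ∈ W
  exact ((thickI G W hWlc).subschemeι z).2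

instance mono_thickι : Mono (thickι G W hWlc) := by
  unfold thickι
  infer_instance

theorem isFinLocFree_of_factors_thickι {P T : Scheme.{u}} {fst : P ⟶ G.R} {snd : P ⟶ T}
    {g : T ⟶ G.U} (H : IsPullback fst snd G.s g) (l : T ⟶ (thickI G W hWlc).subscheme)
    (hl : l ≫ thickι G W hWlc = g) : Mor2.IsFinLocFree snd :=
  isFinLocFree_of_factors_open G.s W (lcW G W hWlc) H l hl

theorem exists_lift_thickι {P T : Scheme.{u}} {fst : P ⟶ G.R} {snd : P ⟶ T}
    {g : T ⟶ G.U} (H : IsPullback fst snd G.s g) (hsnd : Mor2.IsFinLocFree snd)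
    (hr : ∀ t : T, g t ∈ W) : ∃ l : T ⟶ (thickI G W hWlc).subscheme, l ≫ thickι G W hWlc = g := by
  haveI := hsnd.1
  haveI := hsnd.2.1
  exact exists_lift_of_flat_open G.s W (lcW G W hWlc) H hr

variable (hWinv : G.s ⁻¹ᵁ W = G.t ⁻¹ᵁ W)

include hWinv in
/-- Factoring through the thickening is an invariant condition. -/
theorem thick_factors_s_iff_factors_t {T : Scheme.{u}} (a : T ⟶ G.R) :
    (∃ l : T ⟶ (thickI G W hWlc).subscheme, l ≫ thickι G W hWlc = a ≫ G.s) ↔
      (∃ l : T ⟶ (thickI G W hWlc).subscheme, l ≫ thickι G W hWlc = a ≫ G.t) := by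
  have HQ := IsPullback.of_hasPullback (pullback.snd G.s G.t) a
  have HA : IsPullback (pullback.fst (pullback.snd G.s G.t) a ≫ G.c)
      (pullback.snd (pullback.snd G.s G.t) a) G.s (a ≫ G.s) :=
    HQ.paste_horiz (Groth.Agent.Lib.GrpdCalc.isPullback_c G)
  have HB : IsPullback (pullback.fst (pullback.snd G.s G.t) a ≫ pullback.fst G.s G.t)
      (pullback.snd (pullback.snd G.s G.t) a) G.s (a ≫ G.t) :=
    HQ.paste_horiz (IsPullback.of_hasPullback G.s G.t)
  have hmem : ∀ t : T, (a ≫ G.s) t ∈ W ↔ (a ≫ G.t) t ∈ W := by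
    intro t
    have h1 : a t ∈ G.s ⁻¹ᵁ W ↔ a t ∈ G.t ⁻¹ᵁ W := by rw [hWinv]
    exact h1
  constructor
  · rintro ⟨l, hl⟩
    have h1 := isFinLocFree_of_factors_thickι G W hWlc HA l hl
    refine exists_lift_thickι G W hWlc HB h1 (fun t => (hmem t).mp ?_)
    rw [← hl]
    exact thickι_mem G W hWlc (l t)
  · rintro ⟨l, hl⟩
    have h1 := isFinLocFree_of_factors_thickι G W hWlc HB l hl
    refine exists_lift_thickι G W hWlc HA h1 (fun t => (hmem t).mpr ?_)
    rw [← hl]
    exact thickι_mem G W hWlc (l t)

include hWinv in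
/-- The thickening is invariant. -/
theorem exists_iso_pullback_thickι :
    ∃ φ : pullback G.s (thickι G W hWlc) ≅ pullback G.t (thickι G W hWlc),
      φ.hom ≫ pullback.fst G.t (thickι G W hWlc) = pullback.fst G.s (thickι G W hWlc) := by
  obtain ⟨c₁, hc₁⟩ := (thick_factors_s_iff_factors_t G W hWlc hWinv
    (pullback.fst G.s (thickι G W hWlc))).mp
    ⟨pullback.snd G.s (thickι G W hWlc), pullback.condition.symm⟩
  obtain ⟨c₂, hc₂⟩ := (thick_factors_s_iff_factors_t G W hWlc hWinv
    (pullback.fst G.t (thickι G W hWlc))).mpr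
    ⟨pullback.snd G.t (thickι G W hWlc), pullback.condition.symm⟩
  refine ⟨⟨pullback.lift (pullback.fst G.s (thickι G W hWlc)) c₁ hc₁.symm,
    pullback.lift (pullback.fst G.t (thickι G W hWlc)) c₂ hc₂.symm, ?_, ?_⟩, ?_⟩
  · rw [← cancel_mono (pullback.fst G.s (thickι G W hWlc)), Category.assoc, pullback.lift_fst,
      pullback.lift_fst, Category.id_comp]
  · rw [← cancel_mono (pullback.fst G.t (thickι G W hWlc)), Category.assoc, pullback.lift_fst,
      pullback.lift_fst, Category.id_comp]
  · exact pullback.lift_fst _ _ _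

theorem thick_isFinLocFree_snd_s : Mor2.IsFinLocFree (pullback.snd G.s (thickι G W hWlc)) :=
  isFinLocFree_of_factors_thickι G W hWlc (IsPullback.of_hasPullback G.s (thickι G W hWlc)) (𝟙 _)
    (Category.id_comp _)

theorem thick_isFinLocFree_snd_t : Mor2.IsFinLocFree (pullback.snd G.t (thickι G W hWlc)) := by
  haveI := Groth.Agent.Lib.GrpdRankH4.isIso_i G
  have H := IsPullback.of_hasPullback G.t (thickι G W hWlc)
  have H' : IsPullback (pullback.fst G.t (thickι G W hWlc) ≫ G.i)
      (pullback.snd G.t (thickι G W hWlc)) G.s (thickι G W hWlc) :=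
    H.of_iso (Iso.refl _) (asIso G.i) (Iso.refl _) (Iso.refl _)
      (by simp) (by simp) (by simp [G.i_s]) (by simp)
  exact isFinLocFree_of_factors_thickι G W hWlc H' (𝟙 _) (Category.id_comp _)

theorem lfp_subschemeι_thickI [LocallyOfFinitePresentation G.s] :
    LocallyOfFinitePresentation (thickI G W hWlc).subschemeι := by
  haveI : LocallyOfFinitePresentation (G.s ∣_ W) :=
    MorphismProperty.of_isPullback (P := @LocallyOfFinitePresentation)
      (isPullback_morphismRestrict G.s W).flip inferInstance
  exact lfp_subschemeι_flatI (G.s ∣_ W) (lcW G W hWlc)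

end Groth.Agent.Lib.GrpdThickH7
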