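import Mathlib
import Groth.Prelude.Def_Grpd
import Groth.Agent.Lib.GrpdThick1_helper7
import Groth.Agent.Lib.GrpdAffBasic2_helper7
import Groth.Agent.Lib.GrpdRestr2_helper7
import Groth.Agent.Lib.GrpdDim1A_helper7
import Groth.Agent.Lib.GenFinMax_helper5

/-!
# Invariant affine thickened neighbourhoods of orbits of generic points (helper7)
-/

set_option backward.isDefEq.respectTransparency false
set_option backward.isDefEq.respectTransparency.types false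
set_option linter.style.haveILetI false
set_option linter.unusedSectionVars false
set_option linter.unusedVariables false
set_option autoImplicit false
set_option maxHeartbeats 1600000

universe u

open CategoryTheory CategoryTheory.Limits AlgebraicGeometry TopologicalSpace

namespace Groth.Agent.Lib.GrpdThickH7

open Groth.Agent.Lib.GrpdInvOpenH6 Groth.Agent.Lib.GrpdRestrH7 Groth.Agent.Lib.FitStratH7
  Groth.Agent.Lib.GrpdDim1H7

variable {S : Scheme.{u}} (G : Grpd.GroupoidScheme S) [IsFinite G.s]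
  [LocallyOfFinitePresentation G.s] [IsFinite G.t] [LocallyOfFinitePresentation G.t]
  [QuasiSeparatedSpace G.U]

/-- An invariant affine open neighbourhood, inside `invW`, of finitely many points whose orbits
consist of maximal points. -/
theorem exists_invariant_affine_le_invW (m : ℕ) (u : Fin m → G.U)
    (hu : ∀ i (r : G.R), G.s r = u i → ∀ x : G.U, x ⤳ G.t r → x = G.t r) :
    ∃ V : G.U.Opens, IsAffineOpen V ∧ (∀ i, u i ∈ V) ∧ G.s ⁻¹ᵁ V = G.t ⁻¹ᵁ V ∧ V ≤ invW G := by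
  classical
  obtain ⟨E, hE⟩ : ∃ E : Set G.U, E = ⋃ i : Fin m, Orb G (u i) := ⟨_, rfl⟩
  have hEfin : E.Finite := by
    rw [hE]
    exact Set.finite_iUnion fun i => Orb_finite G (u i)
  have hEmem : ∀ i (r : G.R), G.s r = u i → G.t r ∈ E := by
    intro i r hr
    rw [hE]
    exact Set.mem_iUnion.mpr ⟨i, r, hr, rfl⟩
  have hEW : E ⊆ ((invW G : G.U.Opens) : Set G.U) := by
    rw [hE]
    intro x hx
    obtain ⟨i, r, hr, rfl⟩ := Set.mem_iUnion.mp hx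
    have h1 : u i ∈ invW G := mem_invW_of_orbit_maximal G (u i) (hu i)
    have h2 : r ∈ G.s ⁻¹ᵁ invW G := by
      show G.s r ∈ invW G
      rw [hr]; exact h1
    rw [invW_invariant G] at h2
    exact h2
  have hEmax : ∀ ξ ∈ E, Groth.Agent.GenFinMax.IsMaxPt ξ := by
    intro ξ hξ
    rw [hE] at hξ
    obtain ⟨i, r, hr, rfl⟩ := Set.mem_iUnion.mp hξ
    exact hu i r hr
  obtain ⟨U', hU', hU'W, hEU'⟩ := Groth.Agent.GenFinMax.exists_isAffineOpen_of_finite_maxPts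
    (O := invW G) (IsQuasiSeparated.of_quasiSeparatedSpace _) hEfin hEW hEmax
  -- the largest invariant open in `U'`
  obtain ⟨U₂, hU₂⟩ : ∃ U₂ : G.U.Opens, (U₂ : Set G.U) = orbIn G (U' : Set G.U) :=
    ⟨⟨orbIn G (U' : Set G.U), isOpen_orbIn G U'.2⟩, rfl⟩
  have hU₂U' : U₂ ≤ U' := by
    intro x hx
    have : x ∈ orbIn G (U' : Set G.U) := by rw [← hU₂]; exact hx
    exact orbIn_subset G _ this
  have hU₂inv : G.s ⁻¹ᵁ U₂ = G.t ⁻¹ᵁ U₂ := by
    apply Opens.ext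
    show ⇑G.s ⁻¹' (U₂ : Set G.U) = ⇑G.t ⁻¹' (U₂ : Set G.U)
    rw [hU₂]
    exact preimage_orbIn G _
  have huU₂ : ∀ i, u i ∈ U₂ := by
    intro i
    show u i ∈ (U₂ : Set G.U)
    rw [hU₂]
    intro r hr
    exact hEU' (hEmem i r hr)
  -- the restricted groupoid
  haveI hfs : IsFinite (restrOpen G U₂ hU₂inv).s :=
    Groth.Agent.Lib.GrpdRestr2H7.prop_s G U₂ hU₂inv @IsFinite inferInstance
  haveI hft : IsFinite (restrOpen G U₂ hU₂inv).t :=
    Groth.Agent.Lib.GrpdRestr2H7.prop_t G U₂ hU₂inv @IsFinite inferInstance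
  haveI hps : LocallyOfFinitePresentation (restrOpen G U₂ hU₂inv).s :=
    Groth.Agent.Lib.GrpdRestr2H7.prop_s G U₂ hU₂inv @LocallyOfFinitePresentation inferInstance
  haveI hpt : LocallyOfFinitePresentation (restrOpen G U₂ hU₂inv).t :=
    Groth.Agent.Lib.GrpdRestr2H7.prop_t G U₂ hU₂inv @LocallyOfFinitePresentation inferInstance
  -- the immersion into an affine scheme
  obtain ⟨j, hj⟩ : ∃ j : U₂.toScheme ⟶ Spec (CommRingCat.of Γ(G.U, U')),
      j = G.U.homOfLE hU₂U' ≫ hU'.isoSpec.hom := ⟨_, rfl⟩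
  haveI : IsOpenImmersion j := by rw [hj]; infer_instance
  obtain ⟨I, hI⟩ : ∃ I : Ideal Γ(G.U, U'),
      I = PrimeSpectrum.vanishingIdeal ((Set.range j)ᶜ : Set (PrimeSpectrum Γ(G.U, U'))) :=
    ⟨_, rfl⟩
  have hzI : PrimeSpectrum.zeroLocus (I : Set Γ(G.U, U')) = (Set.range j)ᶜ := by
    rw [hI, PrimeSpectrum.zeroLocus_vanishingIdeal_eq_closure]
    exact (j.isOpenEmbedding.isOpen_range.isClosed_compl).closure_eq
  have hjI : ∀ x : U₂.toScheme, j x ∉ PrimeSpectrum.zeroLocus (I : Set Γ(G.U, U')) := by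
    intro x hx
    rw [hzI] at hx
    exact hx ⟨x, rfl⟩
  have hjcl : IsClosed (PrimeSpectrum.zeroLocus (I : Set Γ(G.U, U')) ∪ Set.range j) := by
    rw [hzI, Set.compl_union_self]
    exact isClosed_univ
  -- the points
  have hex : ∀ i, ∃ u' : U₂.toScheme, U₂.ι u' = u i := by
    intro i
    have : u i ∈ Set.range U₂.ι := by rw [Scheme.Opens.range_ι]; exact huU₂ i
    exact this
  choose u' hu' using hex
  have hs_ι : ∀ r' : (G.s ⁻¹ᵁ U₂).toScheme,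
      U₂.ι ((restrOpen G U₂ hU₂inv).s r') = G.s ((G.s ⁻¹ᵁ U₂).ι r') := by
    intro r'
    show U₂.ι ((G.s ∣_ U₂) r') = _
    rw [← Scheme.Hom.comp_apply, morphismRestrict_ι, Scheme.Hom.comp_apply]
  have ht_ι : ∀ r' : (G.s ⁻¹ᵁ U₂).toScheme,
      U₂.ι ((restrOpen G U₂ hU₂inv).t r') = G.t ((G.s ⁻¹ᵁ U₂).ι r') := by
    intro r'
    show U₂.ι ((tW G U₂ hU₂inv) r') = _
    rw [← Scheme.Hom.comp_apply, tW_ι, Scheme.Hom.comp_apply]
  have hinj : Function.Injective U₂.ι := U₂.ι.isOpenEmbedding.injective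
  have hmax' : ∀ i (r' : (restrOpen G U₂ hU₂inv).R), (restrOpen G U₂ hU₂inv).s r' = u' i →
      ∀ x : (restrOpen G U₂ hU₂inv).U, x ⤳ (restrOpen G U₂ hU₂inv).t r' →
        x = (restrOpen G U₂ hU₂inv).t r' := by
    intro i r' hr' x hx
    have h1 : G.s ((G.s ⁻¹ᵁ U₂).ι r') = u i := by
      rw [← hs_ι, hr', hu']
    have h2 : U₂.ι x ⤳ U₂.ι ((restrOpen G U₂ hU₂inv).t r') := hx.map U₂.ι.continuous
    rw [ht_ι] at h2
    have h3 := hu i _ h1 _ h2
    rw [← ht_ι] at h3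
    exact hinj h3
  obtain ⟨h, hhI, hW'aff, hu'W', hW'inv⟩ := Groth.Agent.Lib.GrpdAffBasicH7.main1885
    (restrOpen G U₂ hU₂inv) m u' hmax' Γ(G.U, U') j I hjI hjcl
  obtain ⟨W', hW'⟩ : ∃ W' : U₂.toScheme.Opens, W' = j ⁻¹ᵁ PrimeSpectrum.basicOpen h := ⟨_, rfl⟩
  rw [← hW'] at hW'aff hW'inv
  have hu'W'' : ∀ i, u' i ∈ W' := by
    intro i
    rw [hW']
    exact hu'W' i
  have hmemW : ∀ y : U₂.toScheme, U₂.ι y ∈ U₂.ι ''ᵁ W' ↔ y ∈ W' := by
    intro y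
    constructor
    · rintro ⟨y', hy', hyy'⟩
      rw [← hinj hyy']; exact hy'
    · intro hy
      exact ⟨y, hy, rfl⟩
  have hW'inv' : ∀ r' : (G.s ⁻¹ᵁ U₂).toScheme,
      (restrOpen G U₂ hU₂inv).s r' ∈ W' ↔ (restrOpen G U₂ hU₂inv).t r' ∈ W' := by
    intro r'
    have h1 : r' ∈ (restrOpen G U₂ hU₂inv).s ⁻¹ᵁ W' ↔ r' ∈ (restrOpen G U₂ hU₂inv).t ⁻¹ᵁ W' := by
      rw [hW'inv]
    exact h1
  have hleU₂ : U₂.ι ''ᵁ W' ≤ U₂ := by
    rintro _ ⟨y, -, rfl⟩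
    have : U₂.ι y ∈ Set.range U₂.ι := ⟨y, rfl⟩
    rw [Scheme.Opens.range_ι] at this
    exact this
  have hliftR : ∀ r : G.R, G.s r ∈ U₂ → ∃ r' : (G.s ⁻¹ᵁ U₂).toScheme, (G.s ⁻¹ᵁ U₂).ι r' = r := by
    intro r hr
    have : r ∈ Set.range (G.s ⁻¹ᵁ U₂).ι := by rw [Scheme.Opens.range_ι]; exact hr
    exact this
  refine ⟨U₂.ι ''ᵁ W', hW'aff.image_of_isOpenImmersion U₂.ι, ?_, ?_, ?_⟩
  · intro i
    rw [← hu' i, hmemW]
    exact hu'W'' i
  · apply Opens.ext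
    ext r
    show G.s r ∈ U₂.ι ''ᵁ W' ↔ G.t r ∈ U₂.ι ''ᵁ W'
    constructor
    · intro h
      obtain ⟨r', rfl⟩ := hliftR r (hleU₂ h)
      rw [← hs_ι, hmemW] at h
      rw [← ht_ι, hmemW]
      exact (hW'inv' r').mp h
    · intro h
      have h1 : r ∈ G.t ⁻¹ᵁ U₂ := hleU₂ h
      rw [← hU₂inv] at h1
      obtain ⟨r', rfl⟩ := hliftR r h1
      rw [← ht_ι, hmemW] at h
      rw [← hs_ι, hmemW]
      exact (hW'inv' r').mpr h
  · exact hleU₂.trans (hU₂U'.trans hU'W)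

/-- Stacks 0ABB (finite presentation version). -/
theorem main7466 (m : ℕ) (u : Fin m → G.U)
    (hu : ∀ i (r : G.R), G.s r = u i → ∀ x : G.U, x ⤳ G.t r → x = G.t r) :
    ∃ (V : G.U.Opens) (V' : (↑V : Scheme.{u}).IdealSheafData), IsAffineOpen V ∧ (∀ i, u i ∈ V) ∧
      G.s ⁻¹ᵁ V = G.t ⁻¹ᵁ V ∧ V'.support = ⊤ ∧ LocallyOfFinitePresentation V'.subschemeι ∧
      (∃ φ : pullback G.s (V'.subschemeι ≫ V.ι) ≅ pullback G.t (V'.subschemeι ≫ V.ι),
        φ.hom ≫ pullback.fst G.t (V'.subschemeι ≫ V.ι) = pullback.fst G.s (V'.subschemeι ≫ V.ι)) ∧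
      Mor2.IsFinLocFree (pullback.snd G.s (V'.subschemeι ≫ V.ι)) ∧
      Mor2.IsFinLocFree (pullback.snd G.t (V'.subschemeι ≫ V.ι)) := by
  obtain ⟨V, hVaff, huV, hVinv, hVW⟩ := exists_invariant_affine_le_invW G m u hu
  have hVlc : (V : Set G.U) ⊆ lcLocus G.s := fun x hx => invW_subset G (hVW hx)
  exact ⟨V, thickI G V hVlc, hVaff, huV, hVinv, support_thickI G V hVlc,
    lfp_subschemeι_thickI G V hVlc, exists_iso_pullback_thickι G V hVlc hVinv,
    thick_isFinLocFree_snd_s G V hVlc, thick_isFinLocFree_snd_t G V hVlc⟩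

end Groth.Agent.Lib.GrpdThickH7
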