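import Mathlib
import Groth.Prelude.Def_Grpd
import Groth.Agent.Lib.GrpdCalc_helper6
import Groth.Agent.Lib.GrpdClosed_helper4

set_option autoImplicit false
set_option linter.style.haveILetI false

universe u

open CategoryTheory CategoryTheory.Limits AlgebraicGeometry Grpd
open Groth.Agent.Lib.GrpdCalc

namespace Groth.Agent.Lib.GrpdTranslH4

variable {S : Scheme.{u}}

set_option maxHeartbeats 1600000 in
/-- `(z, x) ↦ a(z) ∘ x` is an open map `Z ×_{s a, U, t} R → R` when `U` is a point. -/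
theorem isOpenMap_translate (G : GroupoidScheme S) [IsIntegral G.U] [Subsingleton G.U]
    {Z : Scheme.{u}} (a : Z ⟶ G.R)
    (hm : (pullback.fst (a ≫ G.s) G.t ≫ a) ≫ G.s = pullback.snd (a ≫ G.s) G.t ≫ G.t) :
    IsOpenMap (comp G (pullback.fst (a ≫ G.s) G.t ≫ a) (pullback.snd (a ≫ G.s) G.t) hm) := by
  let P : Scheme.{u} := pullback (a ≫ G.s) G.t
  let q₁ : P ⟶ Z := pullback.fst (a ≫ G.s) G.t
  let q₂ : P ⟶ G.R := pullback.snd (a ≫ G.s) G.t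
  let P' : Scheme.{u} := pullback (a ≫ G.t) G.t
  let q₁' : P' ⟶ Z := pullback.fst (a ≫ G.t) G.t
  let q₂' : P' ⟶ G.R := pullback.snd (a ≫ G.t) G.t
  have hcond' : (q₁' ≫ a) ≫ G.t = q₂' ≫ G.t := by
    rw [Category.assoc]; exact pullback.condition
  obtain ⟨α, hα⟩ : ∃ α : P ⟶ G.R, α = q₁ ≫ a := ⟨_, rfl⟩
  obtain ⟨α', hα'⟩ : ∃ α' : P' ⟶ G.R, α' = q₁' ≫ a := ⟨_, rfl⟩
  have hm' : α ≫ G.s = q₂ ≫ G.t := by rw [hα]; exact hm
  have hcond'' : α' ≫ G.t = q₂' ≫ G.t := by rw [hα']; exact hcond'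
  obtain ⟨m, hmdef⟩ : ∃ m : P ⟶ G.R, m = comp G α q₂ hm' := ⟨_, rfl⟩
  have hmt : m ≫ G.t = α ≫ G.t := by rw [hmdef, comp_t']
  have hσ : q₁ ≫ a ≫ G.t = m ≫ G.t := by rw [hmt, hα, Category.assoc]
  let σ : P ⟶ P' := pullback.lift q₁ m hσ
  have hσ1 : σ ≫ q₁' = q₁ := pullback.lift_fst _ _ _
  have hσ2 : σ ≫ q₂' = m := pullback.lift_snd _ _ _
  have hn : (α' ≫ G.i) ≫ G.s = q₂' ≫ G.t := by rw [Category.assoc, G.i_s]; exact hcond''
  obtain ⟨n, hndef⟩ : ∃ n : P' ⟶ G.R, n = comp G (α' ≫ G.i) q₂' hn := ⟨_, rfl⟩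
  have hnt : n ≫ G.t = α' ≫ G.s := by rw [hndef, comp_t', Category.assoc, G.i_t]
  have hτ : q₁' ≫ a ≫ G.s = n ≫ G.t := by rw [hnt, hα', Category.assoc]
  let τ : P' ⟶ P := pullback.lift q₁' n hτ
  have hτ1 : τ ≫ q₁ = q₁' := pullback.lift_fst _ _ _
  have hτ2 : τ ≫ q₂ = n := pullback.lift_snd _ _ _
  have hσα' : σ ≫ α' = α := by rw [hα', hα, ← Category.assoc, hσ1]
  have hτα : τ ≫ α = α' := by rw [hα', hα, ← Category.assoc, hτ1]
  have hστ : σ ≫ τ = 𝟙 P := by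
    apply pullback.hom_ext
    · rw [Category.assoc, Category.id_comp]
      show σ ≫ τ ≫ q₁ = q₁
      rw [hτ1, hσ1]
    · rw [Category.assoc, Category.id_comp]
      show σ ≫ τ ≫ q₂ = q₂
      rw [hτ2, hndef]
      have hx : (σ ≫ α' ≫ G.i) ≫ G.s = (σ ≫ q₂') ≫ G.t := by
        simpa only [Category.assoc] using congrArg (fun x => σ ≫ x) hn
      have hy : (α ≫ G.i) ≫ G.s = comp G α q₂ hm' ≫ G.t := by
        rw [comp_t', Category.assoc, G.i_s]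
      calc σ ≫ comp G (α' ≫ G.i) q₂' hn = comp G (σ ≫ α' ≫ G.i) (σ ≫ q₂') hx :=
            precomp_comp G σ _ _ hn hx
        _ = comp G (α ≫ G.i) (comp G α q₂ hm') hy :=
            comp_congr G (by rw [← Category.assoc, hσα']) (hσ2.trans hmdef) _ _
        _ = q₂ := inv_comp_comp_left G α q₂ hm' hy
  have hτσ : τ ≫ σ = 𝟙 P' := by
    apply pullback.hom_ext
    · rw [Category.assoc, Category.id_comp]
      show τ ≫ σ ≫ q₁' = q₁'
      rw [hσ1, hτ1]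
    · rw [Category.assoc, Category.id_comp]
      show τ ≫ σ ≫ q₂' = q₂'
      rw [hσ2, hmdef]
      have hx : (τ ≫ α) ≫ G.s = (τ ≫ q₂) ≫ G.t := by
        simpa only [Category.assoc] using congrArg (fun x => τ ≫ x) hm'
      have hy : α' ≫ G.s = comp G (α' ≫ G.i) q₂' hn ≫ G.t := by
        rw [comp_t', Category.assoc, G.i_t]
      calc τ ≫ comp G α q₂ hm' = comp G (τ ≫ α) (τ ≫ q₂) hx := precomp_comp G τ _ _ hm' hx
        _ = comp G α' (comp G (α' ≫ G.i) q₂' hn) hy :=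
            comp_congr G hτα (hτ2.trans hndef) _ _
        _ = q₂' := comp_inv_comp_left G α' q₂' hcond'' hn hy
  haveI : IsIso σ := ⟨τ, hστ, hτσ⟩
  haveI : UniversallyOpen (a ≫ G.t) := inferInstance
  haveI : UniversallyOpen q₂' :=
    (inferInstance : UniversallyOpen (pullback.snd (a ≫ G.t) G.t))
  have hmo : UniversallyOpen m := by rw [← hσ2]; infer_instance
  have hfin : IsOpenMap m := m.isOpenMap
  have hm_eq : m = comp G (pullback.fst (a ≫ G.s) G.t ≫ a) (pullback.snd (a ≫ G.s) G.t) hm := by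
    rw [hmdef]
    exact comp_congr G hα rfl _ _
  rw [← hm_eq]
  exact hfin

set_option maxHeartbeats 1600000 in
theorem main1889 (S : Scheme.{u}) (G : Grpd.GroupoidScheme S) (k : Type u) [Field k]
    (eU : G.U ≅ Spec (CommRingCat.of k)) (W : G.R.Opens) (Z : Scheme.{u}) (a : Z ⟶ G.R) :
    IsOpen (Set.range ⇑(pullback.lift (pullback.fst (a ≫ G.s) (W.ι ≫ G.t) ≫ a)
      (pullback.snd (a ≫ G.s) (W.ι ≫ G.t) ≫ W.ι)
      ((Category.assoc _ _ _).trans (pullback.condition.trans (Category.assoc _ _ _).symm)) ≫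
      G.c)) := by
  obtain ⟨hi1, hi2⟩ := Groth.Agent.Lib.GrpdClosedH4.instances_of_iso k eU
  have hm : (pullback.fst (a ≫ G.s) G.t ≫ a) ≫ G.s = pullback.snd (a ≫ G.s) G.t ≫ G.t := by
    rw [Category.assoc]; exact pullback.condition
  have hopen := isOpenMap_translate G a hm
  have e₁ : (a ≫ G.s) ≫ 𝟙 G.U = 𝟙 Z ≫ a ≫ G.s := by rw [Category.comp_id, Category.id_comp]
  have e₂ : (W.ι ≫ G.t) ≫ 𝟙 G.U = W.ι ≫ G.t := Category.comp_id _
  have hrange := Scheme.Pullback.range_map (f := a ≫ G.s) (g := W.ι ≫ G.t) (a ≫ G.s) G.t (𝟙 Z) W.ι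
    (𝟙 G.U) e₁ e₂
  obtain ⟨ιW, hιW⟩ : ∃ ιW : pullback (a ≫ G.s) (W.ι ≫ G.t) ⟶ pullback (a ≫ G.s) G.t,
      ιW = pullback.map (a ≫ G.s) (W.ι ≫ G.t) (a ≫ G.s) G.t (𝟙 Z) W.ι (𝟙 G.U) e₁ e₂ := ⟨_, rfl⟩
  have hι1 : ιW ≫ pullback.fst (a ≫ G.s) G.t = pullback.fst (a ≫ G.s) (W.ι ≫ G.t) := by
    rw [hιW, pullback.lift_fst, Category.comp_id]
  have hι2 : ιW ≫ pullback.snd (a ≫ G.s) G.t = pullback.snd (a ≫ G.s) (W.ι ≫ G.t) ≫ W.ι := by
    rw [hιW, pullback.lift_snd]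
  have hr : Set.range ιW = (pullback.snd (a ≫ G.s) G.t) ⁻¹' (W : Set G.R) := by
    rw [hιW, hrange]
    ext z
    constructor
    · rintro ⟨-, v, hv⟩
      show (pullback.snd (a ≫ G.s) G.t) z ∈ (W : Set G.R)
      rw [← hv]; exact v.2
    · intro hz
      exact ⟨⟨(pullback.fst (a ≫ G.s) G.t) z, by simp⟩, ⟨⟨(pullback.snd (a ≫ G.s) G.t) z, hz⟩, rfl⟩⟩
  have hx : (ιW ≫ pullback.fst (a ≫ G.s) G.t ≫ a) ≫ G.s =
      (ιW ≫ pullback.snd (a ≫ G.s) G.t) ≫ G.t := by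
    simpa only [Category.assoc] using congrArg (fun x => ιW ≫ x) hm
  have hΦ : pullback.lift (pullback.fst (a ≫ G.s) (W.ι ≫ G.t) ≫ a)
      (pullback.snd (a ≫ G.s) (W.ι ≫ G.t) ≫ W.ι)
      ((Category.assoc _ _ _).trans (pullback.condition.trans (Category.assoc _ _ _).symm)) ≫
      G.c = ιW ≫ comp G (pullback.fst (a ≫ G.s) G.t ≫ a) (pullback.snd (a ≫ G.s) G.t) hm := by
    rw [precomp_comp G ιW _ _ hm hx]
    exact comp_congr G (by rw [← Category.assoc, hι1]) hι2.symm _ _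
  have hset : Set.range ⇑(pullback.lift (pullback.fst (a ≫ G.s) (W.ι ≫ G.t) ≫ a)
      (pullback.snd (a ≫ G.s) (W.ι ≫ G.t) ≫ W.ι)
      ((Category.assoc _ _ _).trans (pullback.condition.trans (Category.assoc _ _ _).symm)) ≫
      G.c) = (comp G (pullback.fst (a ≫ G.s) G.t ≫ a) (pullback.snd (a ≫ G.s) G.t) hm) ''
        ((pullback.snd (a ≫ G.s) G.t) ⁻¹' (W : Set G.R)) := by
    rw [hΦ, ← hr]
    ext x
    constructor
    · rintro ⟨y, rfl⟩
      exact ⟨ιW y, ⟨y, rfl⟩, by rw [Scheme.Hom.comp_apply]⟩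
    · rintro ⟨_, ⟨y, rfl⟩, rfl⟩
      exact ⟨y, by rw [Scheme.Hom.comp_apply]⟩
  rw [hset]
  exact hopen _ (W.2.preimage (pullback.snd (a ≫ G.s) G.t).continuous)

end Groth.Agent.Lib.GrpdTranslH4
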