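import Mathlib
import Groth.Prelude
import Groth.Agent.Lib.GammaDvd_helper9
import Groth.Agent.Lib.GeomConnComps_helper4
import Groth.Agent.Lib.QuotSec1_helper9
import Groth.Agent.Lib.Tens16_helper8
import Groth.Agent.Lib.CurveTens2_helper9

/-!
# `h⁰(O_X)` is the number of connected components, for `X` reduced and proper over an
algebraically closed field (helper9)
APPEND-ONLY once landed.
-/

set_option autoImplicit false
universe u
open CategoryTheory CategoryTheory.Limits AlgebraicGeometry Opposite TopologicalSpace

namespace H0Comp

open QcqsLoc QuotSec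

section Top

/-- a Noetherian space has finitely many connected components -/
theorem finite_connectedComponents (T : Type*) [TopologicalSpace T] [NoetherianSpace T] :
    Finite (ConnectedComponents T) := by
  haveI : Finite ↥(irreducibleComponents T) :=
    (NoetherianSpace.finite_irreducibleComponents (α := T)).to_subtype
  let g : ↥(irreducibleComponents T) → ConnectedComponents T := fun Z =>
    ConnectedComponents.mk (Z.2.1.nonempty.some)
  refine Finite.of_surjective g ?_
  intro c
  obtain ⟨x, rfl⟩ := ConnectedComponents.surjective_coe c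
  refine ⟨⟨irreducibleComponent x, irreducibleComponent_mem_irreducibleComponents x⟩, ?_⟩
  show ConnectedComponents.mk _ = ConnectedComponents.mk x
  rw [ConnectedComponents.coe_eq_coe']
  have hirr : IsIrreducible (irreducibleComponent x) := isIrreducible_irreducibleComponent
  have hsub : irreducibleComponent x ⊆ connectedComponent x :=
    hirr.isConnected.isPreconnected.subset_connectedComponent mem_irreducibleComponent
  exact hsub (Set.Nonempty.some_mem _)

end Top

section Comp

variable (X : Scheme.{u}) [Finite (_root_.ConnectedComponents X)]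

/-- a connected component as an open subset -/
def compOpen (c : _root_.ConnectedComponents X) : X.Opens :=
  ⟨ConnectedComponents.mk ⁻¹' {c}, by
    obtain ⟨x, rfl⟩ := ConnectedComponents.surjective_coe c
    rw [connectedComponents_preimage_singleton]
    exact Groth.Agent.Lib.GeomConnCompsH4.isOpen_connectedComponent_of_finite x⟩

theorem mem_compOpen (c : _root_.ConnectedComponents X) (x : X) :
    x ∈ compOpen X c ↔ ConnectedComponents.mk x = c := Iff.rfl

theorem isClosed_compOpen (c : _root_.ConnectedComponents X) : IsClosed (compOpen X c : Set X) := by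
  obtain ⟨x, rfl⟩ := ConnectedComponents.surjective_coe c
  show IsClosed (ConnectedComponents.mk ⁻¹' {ConnectedComponents.mk x})
  rw [connectedComponents_preimage_singleton]
  exact isClosed_connectedComponent

theorem isConnected_compOpen (c : _root_.ConnectedComponents X) : _root_.IsConnected (compOpen X c : Set X) := by
  obtain ⟨x, rfl⟩ := ConnectedComponents.surjective_coe c
  show _root_.IsConnected (ConnectedComponents.mk ⁻¹' {ConnectedComponents.mk x})
  rw [connectedComponents_preimage_singleton]
  exact isConnected_connectedComponent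

theorem compOpen_inf_eq_bot {c c' : _root_.ConnectedComponents X} (h : c ≠ c') :
    compOpen X c ⊓ compOpen X c' = ⊥ := by
  ext x
  simp only [Opens.coe_inf, Set.mem_inter_iff, SetLike.mem_coe, Opens.coe_bot,
    Set.mem_empty_iff_false, iff_false, not_and]
  intro h1 h2
  exact h (((mem_compOpen X c x).mp h1).symm.trans ((mem_compOpen X c' x).mp h2))

theorem le_iSup_compOpen : (⊤ : X.Opens) ≤ ⨆ c, compOpen X c := by
  intro x _
  exact Opens.mem_iSup.mpr ⟨ConnectedComponents.mk x, rfl⟩

omit [Finite (_root_.ConnectedComponents X)] in
/-- the inclusion of a clopen subscheme is finite -/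
theorem isFinite_ι_of_isClosed {X : Scheme.{u}} (W : X.Opens) (hcl : IsClosed (W : Set X)) :
    IsFinite W.ι := by
  have h2 : Set.range W.ι = (W : Set X) := Scheme.Opens.range_ι W
  haveI : IsClosedImmersion W.ι := IsClosedImmersion.of_isPreimmersion _ (by rw [h2]; exact hcl)
  infer_instance

end Comp

section Field

variable (k : Type u) [Field k] [IsAlgClosed k] (X : Scheme.{u}) [X.Over (Spec (CommRingCat.of k))]
  [IsProper (X ↘ Spec (CommRingCat.of k))] [IsReduced X]

/-- the structure map of a connected clopen subset of a reduced proper scheme over an algebraically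
closed field is bijective -/
theorem strU_bijective_of_isConnected (W : X.Opens) (hcl : IsClosed (W : Set X))
    (hconn : _root_.IsConnected (W : Set X)) : Function.Bijective (strU k X W) := by
  haveI : IsFinite W.ι := isFinite_ι_of_isClosed W hcl
  letI ovW : (W : Scheme.{u}).Over (Spec (CommRingCat.of k)) :=
    ⟨W.ι ≫ (X ↘ Spec (CommRingCat.of k))⟩
  haveI : IsProper ((W : Scheme.{u}) ↘ Spec (CommRingCat.of k)) := by
    show IsProper (W.ι ≫ (X ↘ Spec (CommRingCat.of k)))
    infer_instance
  haveI : ConnectedSpace ↥(W : Scheme.{u}) := isConnected_iff_connectedSpace.mp hconn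
  haveI : IsReduced (W : Scheme.{u}) := isReduced_of_isOpenImmersion W.ι
  have hΓ : IsField Γ((W : Scheme.{u}), ⊤) := GammaDvd.isField_Γ k (W : Scheme.{u})
  letI algW : Algebra k Γ((W : Scheme.{u}), ⊤) := GammaDvd.algΓ k (W : Scheme.{u})
  haveI hfin : Module.Finite k Γ((W : Scheme.{u}), ⊤) := GammaDvd.finite_Γ k (W : Scheme.{u})
  have hbij : Function.Bijective (algebraMap k Γ((W : Scheme.{u}), ⊤)) := by
    letI := hΓ.toField
    haveI : Algebra.IsIntegral k Γ((W : Scheme.{u}), ⊤) := Algebra.IsIntegral.of_finite k _
    exact IsAlgClosed.algebraMap_bijective_of_isIntegral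
  have hcomp : ∀ a : k, strU k X W a =
      W.topIso.hom.hom (algebraMap k Γ((W : Scheme.{u}), ⊤) a) := by
    intro a
    have h1 : algebraMap k Γ((W : Scheme.{u}), ⊤) a =
        W.ι.appTop.hom (strTop k X a) := by
      show ((W.ι ≫ (X ↘ Spec (CommRingCat.of k))).appTop.hom
        ((Scheme.ΓSpecIso (CommRingCat.of k)).inv.hom a)) = _
      rw [Scheme.Hom.comp_appTop]
      rfl
    rw [h1]
    show (X.presheaf.map (homOfLE (le_top : W ≤ ⊤)).op).hom (strTop k X a) =
      (X.presheaf.map (eqToHom W.ι_image_top.symm).op).hom
        ((X.presheaf.map (homOfLE (x := W.ι ''ᵁ ⊤) le_top).op).hom (strTop k X a))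
    rw [← CommRingCat.comp_apply, ← Functor.map_comp]
    rfl
  have hiso : Function.Bijective W.topIso.hom.hom :=
    ConcreteCategory.bijective_of_isIso W.topIso.hom
  have : (strU k X W : k → Γ(X, W)) =
      W.topIso.hom.hom ∘ (algebraMap k Γ((W : Scheme.{u}), ⊤)) := funext hcomp
  rw [this]
  exact hiso.comp hbij

variable [Finite (_root_.ConnectedComponents X)]

/-- the ring isomorphism `k ≃ Γ(X, U_c)` for a connected component `U_c` -/
noncomputable def strEquiv (c : _root_.ConnectedComponents X) : k ≃+* Γ(X, compOpen X c) :=
  RingEquiv.ofBijective (strU k X (compOpen X c))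
    (strU_bijective_of_isConnected k X _ (isClosed_compOpen X c) (isConnected_compOpen X c))

theorem strEquiv_apply (c : _root_.ConnectedComponents X) (a : k) :
    strEquiv k X c a = strU k X (compOpen X c) a := rfl

theorem strU_eq_rX (W : X.Opens) (a : k) : strU k X W a = rX (le_top : W ≤ ⊤) (strTop k X a) := rfl

/-- global functions are locally constant: `Γ(X, O_X) ≃ k^{π₀(X)}` -/
theorem finrank_sections_top :
    letI := (strTop k X).toAlgebra
    Module.finrank k Γ(X, ⊤) = Nat.card (_root_.ConnectedComponents X) := by
  letI := (strTop k X).toAlgebra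
  haveI : Fintype (_root_.ConnectedComponents X) := Fintype.ofFinite _
  let Ψ : Γ(X, ⊤) →ₗ[k] (_root_.ConnectedComponents X → k) :=
    { toFun := fun s c => (strEquiv k X c).symm (rX (le_top : compOpen X c ≤ ⊤) s)
      map_add' := fun s t => by
        funext c
        simp only [map_add, Pi.add_apply]
      map_smul' := fun a s => by
        funext c
        have h1 : a • s = strTop k X a * s := rfl
        simp only [RingHom.id_apply, Pi.smul_apply, smul_eq_mul]
        rw [h1, map_mul, map_mul, ← strU_eq_rX, ← strEquiv_apply, RingEquiv.symm_apply_apply] }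
  have hΨ : ∀ s c, Ψ s c = (strEquiv k X c).symm (rX (le_top : compOpen X c ≤ ⊤) s) :=
    fun _ _ => rfl
  have hinj : Function.Injective Ψ := by
    rw [injective_iff_map_eq_zero]
    intro s hs
    apply TensH8.eqX_of_cover s 0
    intro x _
    refine ⟨compOpen X (ConnectedComponents.mk x), le_top, rfl, ?_⟩
    have h1 := congrFun hs (ConnectedComponents.mk x)
    rw [hΨ] at h1
    have h2 := congrArg (strEquiv k X (ConnectedComponents.mk x)) h1
    rw [RingEquiv.apply_symm_apply] at h2
    rw [h2, map_zero]
    simp
  have hsurj : Function.Surjective Ψ := by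
    intro a
    obtain ⟨t, ht⟩ := TensH8.glueX (fun c => compOpen X c) ⊤ (fun _ => le_top)
      (le_iSup_compOpen X) (fun c => strEquiv k X c (a c)) (by
        intro c c'
        by_cases h : c = c'
        · subst h
          rfl
        · haveI : Subsingleton Γ(X, compOpen X c ⊓ compOpen X c') := by
            rw [compOpen_inf_eq_bot X h]
            infer_instance
          exact Subsingleton.elim _ _)
    refine ⟨t, ?_⟩
    funext c
    rw [hΨ, ht c, RingEquiv.symm_apply_apply]
  have e : Γ(X, ⊤) ≃ₗ[k] (_root_.ConnectedComponents X → k) :=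
    LinearEquiv.ofBijective Ψ ⟨hinj, hsurj⟩
  rw [e.finrank_eq, Module.finrank_fintype_fun_eq_card, Nat.card_eq_fintype_card]

/-- **`h⁰(O_X)` is the number of connected components** -/
theorem finrank_HH0 :
    Module.finrank k (Coh.HH X (Coh.structureModule X) 0) =
      Nat.card (_root_.ConnectedComponents X) := by
  rw [← finrank_sections_top k X]
  letI := (strTop k X).toAlgebra
  let L : Coh.HH X (Coh.structureModule X) 0 ≃ₗ[k] Γ(X, ⊤) :=
    { (CurveTens.e₀ (Coh.structureModule X)) with
      map_smul' := fun c v => by
        have h1 : c • v = (Coh.toGlobal (X ↘ Spec (CommRingCat.of k)) c) • v := rfl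
        show CurveTens.e₀ (Coh.structureModule X) (c • v) = _
        rw [h1, CurveTens.e₀_smul]
        rfl }
  exact L.finrank_eq

end Field

end H0Comp
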