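import Mathlib
import Groth.Prelude
import Groth.Agent.Lib.GammaField_helper4
import Groth.Agent.Lib.H0Const_helper4

/-!
# Global sections of an integral proper scheme over a Dedekind domain with geometrically
integral generic fibre
-/

set_option backward.isDefEq.respectTransparency false
set_option backward.isDefEq.respectTransparency.types false
set_option autoImplicit false
set_option linter.style.haveILetI false
set_option linter.unusedVariables false
set_option linter.unusedSimpArgs false
set_option linter.unusedSectionVars false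
set_option linter.style.longLine false
set_option maxHeartbeats 800000

universe u

open CategoryTheory CategoryTheory.Limits AlgebraicGeometry TopologicalSpace Opposite TensorProduct

namespace Groth.Agent.Lib.H0DedekindH4

/-- Flat base change in degree zero: `Γ(Y ×_S T) = Γ(Y) ⊗_{Γ(S)} Γ(T)` for `S`, `T` affine,
`T` flat over `S` and `Y` qcqs. -/
theorem isPushout_appTop_of_flat {S Y T : Scheme.{u}} [IsAffine S] (f : Y ⟶ S) (g : T ⟶ S)
    [CompactSpace ↥Y] [QuasiSeparatedSpace ↥Y] [IsAffine T] [Flat g] :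
    IsPushout f.appTop g.appTop (pullback.fst f g).appTop (pullback.snd f g).appTop := by
  have H : IsPullback (pullback.fst f g) (pullback.snd f g) f g := IsPullback.of_hasPullback _ _
  have hUST : (⊤ : T.Opens) ≤ g ⁻¹ᵁ ⊤ := by simp
  have hUSX : (⊤ : Y.Opens) ≤ f ⁻¹ᵁ ⊤ := by simp
  have hUY : (⊤ : (pullback f g).Opens) =
      pullback.fst f g ⁻¹ᵁ ⊤ ⊓ pullback.snd f g ⁻¹ᵁ ⊤ := by simp
  have h1 : IsIso (pushoutSection H hUST hUSX hUY) :=
    isIso_pushoutSection_of_isQuasiSeparated_of_flat_right H hUST hUSX hUY (isAffineOpen_top _)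
      (isAffineOpen_top _) isCompact_univ (isQuasiSeparated_univ_iff.mpr inferInstance)
  have hpo := (isIso_pushoutSection_iff H hUST hUSX hUY).mp h1
  convert hpo using 1 <;> simp [Scheme.Hom.appTop, Scheme.Hom.appLE]

/-- If `B` is an integral domain, integral over the integrally closed domain `R`, and
`K ⊗_R B = K` for the fraction field `K`, then `R = B`. -/
theorem bijective_algebraMap_of_tensor (R K B : Type u) [CommRing R] [IsDomain R]
    [IsIntegrallyClosed R] [Field K] [Algebra R K] [IsFractionRing R K] [CommRing B] [IsDomain B]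
    [Algebra R B] [Algebra.IsIntegral R B]
    (hbij : Function.Bijective (fun c : K => c ⊗ₜ[R] (1 : B))) :
    Function.Bijective (algebraMap R B) := by
  have hcomm : ∀ r : R, (algebraMap R K r) ⊗ₜ[R] (1 : B) = (1 : K) ⊗ₜ[R] (algebraMap R B r) := by
    intro r
    rw [Algebra.algebraMap_eq_smul_one, Algebra.algebraMap_eq_smul_one, TensorProduct.smul_tmul]
  have hinjRB : Function.Injective (algebraMap R B) := by
    intro r r' hr
    apply IsFractionRing.injective R K
    apply hbij.1
    show algebraMap R K r ⊗ₜ[R] (1 : B) = algebraMap R K r' ⊗ₜ[R] (1 : B)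
    rw [hcomm, hcomm, hr]
  have hinjB : Function.Injective (fun b : B => (1 : K) ⊗ₜ[R] b) := by
    intro b b' hb
    have h0 : TensorProduct.mk R K B 1 (b - b') = 0 := by
      rw [map_sub]
      exact sub_eq_zero.mpr hb
    obtain ⟨c, hc⟩ := (IsLocalizedModule.eq_zero_iff (nonZeroDivisors R)
      (TensorProduct.mk R K B 1)).mp h0
    rw [Submonoid.smul_def, Algebra.smul_def] at hc
    have hc0 : algebraMap R B c ≠ 0 := by
      intro h
      exact nonZeroDivisors.coe_ne_zero c (hinjRB (h.trans (map_zero _).symm))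
    exact sub_eq_zero.mp ((mul_eq_zero.mp hc).resolve_left hc0)
  refine ⟨hinjRB, fun b => ?_⟩
  obtain ⟨c, hc⟩ := hbij.2 ((1 : K) ⊗ₜ[R] b)
  have hc' : c ⊗ₜ[R] (1 : B) = (1 : K) ⊗ₜ[R] b := hc
  have hint : IsIntegral R ((Algebra.TensorProduct.includeRight : B →ₐ[R] K ⊗[R] B) b) :=
    IsIntegral.map _ (Algebra.IsIntegral.isIntegral b)
  have hinjL : Function.Injective (Algebra.TensorProduct.includeLeft : K →ₐ[R] K ⊗[R] B) :=
    fun c c' h => hbij.1 h
  have hint2 : IsIntegral R c := by
    have h1 : IsIntegral R ((Algebra.TensorProduct.includeLeft : K →ₐ[R] K ⊗[R] B) c) := by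
      have h2 : (Algebra.TensorProduct.includeLeft : K →ₐ[R] K ⊗[R] B) c =
          (Algebra.TensorProduct.includeRight : B →ₐ[R] K ⊗[R] B) b := hc'
      rw [h2]
      exact hint
    exact (isIntegral_algHom_iff _ hinjL).mp h1
  obtain ⟨r, hr⟩ := IsIntegrallyClosed.isIntegral_iff.mp hint2
  refine ⟨r, hinjB ?_⟩
  show (1 : K) ⊗ₜ[R] algebraMap R B r = (1 : K) ⊗ₜ[R] b
  rw [← hcomm, hr]
  exact hc'

theorem main7915 {R : Type u} [CommRing R] [IsDedekindDomain R] {X : Scheme.{u}}
    (f : X ⟶ Spec (CommRingCat.of R)) [IsIntegral X] [IsProper f]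
    (hirr : GeometricallyIrreducible (pullback.snd f (Neron.genPt R)))
    (hred : GeometricallyReduced (pullback.snd f (Neron.genPt R))) :
    Function.Bijective (Coh.toGlobal f) := by
  letI alg : Algebra R Γ(X, ⊤) := (Coh.toGlobal f).toAlgebra
  have halg : algebraMap R Γ(X, ⊤) =
      f.appTop.hom.comp (Scheme.ΓSpecIso (CommRingCat.of R)).inv.hom := rfl
  haveI : CompactSpace ↥X := QuasiCompact.compactSpace_of_compactSpace f
  haveI : QuasiSeparatedSpace ↥X := quasiSeparatedSpace_of_quasiSeparated f
  have hF : ((Scheme.ΓSpecIso (CommRingCat.of R)).inv ≫ f.appTop).hom.IsIntegral := by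
    apply RingHom.isIntegral_respectsIso.2
      (e := (Scheme.ΓSpecIso (CommRingCat.of R)).symm.commRingCatIsoToRingEquiv)
    exact isIntegral_appTop_of_universallyClosed f
  haveI hint : Algebra.IsIntegral R Γ(X, ⊤) := ⟨fun x => hF x⟩
  haveI : IsDomain Γ(X, ⊤) := inferInstance
  have hflat : Flat (Neron.genPt R) := by
    rw [HasRingHomProperty.Spec_iff (P := @Flat)]
    exact RingHom.flat_algebraMap_iff.mpr inferInstance
  haveI := hflat
  haveI := hred
  haveI : GeometricallyConnected (pullback.snd f (Neron.genPt R)) :=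
    Groth.Agent.Lib.GammaFieldH4.geomConn_of_geomIrr _ hirr
  have hiso : IsIso (pullback.snd f (Neron.genPt R)).appTop :=
    Groth.Agent.Lib.H0ConstH4.isIso_appTop (FractionRing R) (pullback.snd f (Neron.genPt R))
  have hpo0 := isPushout_appTop_of_flat f (Neron.genPt R)
  obtain ⟨φ, hφ⟩ : ∃ φ : CommRingCat.of R ⟶ CommRingCat.of (FractionRing R),
      φ = CommRingCat.ofHom (algebraMap R (FractionRing R)) := ⟨_, rfl⟩
  have hgen : Neron.genPt R = Spec.map φ := by rw [hφ]
  rw [hgen] at hpo0 hiso
  have hpo' : IsPushout (CommRingCat.ofHom (algebraMap R (Γ(X, ⊤) : Type u)))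
      (CommRingCat.ofHom (algebraMap R (FractionRing R)))
      (pullback.fst f (Spec.map φ)).appTop
      ((Scheme.ΓSpecIso (CommRingCat.of (FractionRing R))).inv ≫
        (pullback.snd f (Spec.map φ)).appTop) := by
    refine hpo0.of_iso (Scheme.ΓSpecIso (CommRingCat.of R)) (Iso.refl _)
      (Scheme.ΓSpecIso (CommRingCat.of (FractionRing R))) (Iso.refl _) ?_ ?_ ?_ ?_
    · rw [halg]
      have h1 : CommRingCat.ofHom (f.appTop.hom.comp
          (Scheme.ΓSpecIso (CommRingCat.of R)).inv.hom) =
          (Scheme.ΓSpecIso (CommRingCat.of R)).inv ≫ f.appTop := rfl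
      rw [h1, Iso.refl_hom, Category.comp_id, Iso.hom_inv_id_assoc]
    · rw [← hφ]; exact Scheme.ΓSpecIso_naturality φ
    · simp only [Iso.refl_hom, Category.comp_id, Category.id_comp]
    · rw [Iso.refl_hom, Category.comp_id, Iso.hom_inv_id_assoc]
  have hpoT := CommRingCat.isPushout_tensorProduct R (FractionRing R) (Γ(X, ⊤) : Type u)
  have hcompat := IsPushout.inl_isoIsPushout_hom _ _ hpo'.flip hpoT
  haveI : IsIso ((Scheme.ΓSpecIso (CommRingCat.of (FractionRing R))).inv ≫
      (pullback.snd f (Spec.map φ)).appTop) := inferInstance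
  have hisoL : IsIso (CommRingCat.ofHom
      (Algebra.TensorProduct.includeLeftRingHom :
        FractionRing R →+* FractionRing R ⊗[R] (Γ(X, ⊤) : Type u))) := by
    rw [← hcompat]
    infer_instance
  have hbij : Function.Bijective (fun c : FractionRing R => c ⊗ₜ[R] (1 : (Γ(X, ⊤) : Type u))) :=
    ConcreteCategory.bijective_of_isIso (CommRingCat.ofHom
      (Algebra.TensorProduct.includeLeftRingHom :
        FractionRing R →+* FractionRing R ⊗[R] (Γ(X, ⊤) : Type u)))
  exact bijective_algebraMap_of_tensor R (FractionRing R) (Γ(X, ⊤) : Type u) hbij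

end Groth.Agent.Lib.H0DedekindH4
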