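import Mathlib
import Groth.Prelude
import Groth.Agent.Lib.CohDev13_helper8
import Groth.Agent.Lib.RSpU_lead

/-!
# Global sections in all `I^n F` are the sections vanishing near `V(I)` (helper2)

* `exists_app_eq_of_locally`: a section locally in the image of a monomorphism of sheaves of modules
  on a ringed space is in the image.
* `main3665`: **S3665**.
APPEND-ONLY once landed.
-/

set_option autoImplicit false
set_option maxHeartbeats 1600000
set_option linter.style.haveILetI false

universe u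

open CategoryTheory Limits Opposite TopologicalSpace

namespace Groth.Agent.Lib.H0cVanishH2

section RSpace

open ModSite Groth.Agent.Lib.ModSiteH8 Groth.Agent.Lib.StalkFlatPt Groth.Agent.Lib.StalkFlatA
open Groth.Agent.Lib.FreeFactor Groth.Agent.Lib.RSp

variable {X : TopCat.{u}} {O : TopCat.Sheaf CommRingCat.{u} X}

/-- a section locally in the image of a monomorphism is in the image -/
theorem exists_app_eq_of_locally {G F : Mod O} (φ : G ⟶ F) [Mono φ] (U : Opens X) (s : Sec F U)
    (h : ∀ x ∈ U, ∃ (W : Opens X) (hW : W ≤ U), x ∈ W ∧ ∃ t : Sec G W, app φ W t = rs F hW s) :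
    ∃ t : Sec G U, app φ U t = s := by
  have hinj : ∀ W : Opens X, Function.Injective (app φ W) := (mono_iff φ).1 inferInstance
  obtain ⟨v, hv⟩ := glue_sec G U (fun W hW u => app φ W u = rs F hW s)
    (by
      intro W hW u W' h' hu
      show app φ W' (rs G h' u) = rs F (h'.trans hW) s
      rw [app_rs, hu, rs_rs])
    (by
      intro W hW u u' hu hu'
      exact hinj W (hu.trans hu'.symm))
    h
  refine ⟨v, ?_⟩
  refine sec_ext_top F (fun x hx => ?_)
  obtain ⟨W, hW, hxW, t, ht⟩ := h x hx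
  refine ⟨W, hW, hxW, ?_⟩
  rw [← app_rs, hv W hW t ht, ht]

end RSpace

section Sch

open AlgebraicGeometry QcqsLoc QCohExtn CohDevH8

variable {X : Scheme.{u}}

/-- a section locally in the image of a monomorphism is in the image (schemes) -/
theorem exists_ap_eq_of_locally {G F : X.Modules} (φ : G ⟶ F) [Mono φ] (U : X.Opens) (s : Γ(F, U))
    (h : ∀ x ∈ U, ∃ (W : X.Opens) (hW : W ≤ U), x ∈ W ∧ ∃ t : Γ(G, W), ap φ W t = rF F hW s) :
    ∃ t : Γ(G, U), ap φ U t = s :=
  @exists_app_eq_of_locally _ X.sheaf G F φ ‹Mono φ› U s h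

/-- a section killed by a function vanishes on the locus where the function is invertible -/
theorem rF_basicOpen_eq_zero (F : X.Modules) {U : X.Opens} (a : Γ(X, U)) (m : Γ(F, U))
    (h : a • m = 0) : rF F (X.basicOpen_le a) m = 0 := by
  have h1 : rX (X.basicOpen_le a) a • rF F (X.basicOpen_le a) m = 0 := by
    rw [← rF_smul, h, map_zero]
  have hu : IsUnit (rX (X.basicOpen_le a) a) := RingedSpace.isUnit_res_basicOpen _ a
  exact (hu.smul_eq_zero).1 h1

/-- at a point where `r` is not invertible, `1 - r` is invertible -/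
theorem mem_basicOpen_one_sub {U : X.Opens} (r : Γ(X, U)) (z : X) (hzU : z ∈ U)
    (hz : z ∉ X.basicOpen r) : z ∈ X.basicOpen (1 - r) := by
  rw [Scheme.mem_basicOpen X _ z hzU] at hz ⊢
  have h1 : X.presheaf.germ U z hzU r + X.presheaf.germ U z hzU (1 - r) = 1 := by
    rw [← map_add, add_sub_cancel, map_one]
  rcases IsLocalRing.isUnit_or_isUnit_of_add_one h1 with h2 | h2
  · exact absurd h2 hz
  · exact h2

/-- the core of **S3665**, for a locally Noetherian scheme -/
theorem iff_vanish_near [IsLocallyNoetherian X] (I : X.IdealSheafData) (F : X.Modules)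
    (hF : Coh.IsCoh F) (s : Γ(F, ⊤)) :
    (∀ n : ℕ, ∃ t : Γ((Dual3.idealMul (I ^ n)).obj F, ⊤),
        ap (Dual3.idealMulι (I ^ n) F) ⊤ t = s) ↔
      ∃ V : X.Opens, I.supportSet ⊆ (V : Set X) ∧ rF F (le_top : V ≤ ⊤) s = 0 := by
  haveI : F.IsQuasicoherent := hF.1
  haveI : SheafOfModules.IsFiniteType (R := X.ringCatSheaf) F := hF.2
  constructor
  · intro h
    refine ⟨sSup {W : X.Opens | rF F (le_top : W ≤ ⊤) s = 0}, ?_, ?_⟩
    · intro z hz
      obtain ⟨_, ⟨U, hU : IsAffineOpen U, rfl⟩, hzU, -⟩ :=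
        X.isBasis_affineOpens.exists_subset_of_mem_open (Set.mem_univ z) isOpen_univ
      have hzU' : z ∈ U := hzU
      haveI : IsNoetherianRing Γ(X, U) := IsLocallyNoetherian.component_noetherian ⟨U, hU⟩
      haveI : Module.Finite Γ(X, U) Γ(F, U) := QCohFT.finite_of_isFiniteType F hU
      have hmem : rF F (le_top : U ≤ ⊤) s ∈
          (⨅ n : ℕ, (I.ideal ⟨U, hU⟩) ^ n • ⊤ : Submodule Γ(X, U) Γ(F, U)) := by
        rw [Submodule.mem_iInf]
        intro n
        obtain ⟨t, ht⟩ := h n
        have h1 := idealMulι_app_mem (I ^ n) F hU (rF _ (le_top : U ≤ ⊤) t)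
        rw [ap_rF, ht] at h1
        exact h1
      obtain ⟨⟨r, hr⟩, hrs⟩ := (Ideal.mem_iInf_smul_pow_eq_bot_iff _ _).1 hmem
      have hkill : (1 - r) • rF F (le_top : U ≤ ⊤) s = 0 := by
        rw [sub_smul, one_smul, hrs, sub_self]
      have h0 := rF_basicOpen_eq_zero F (1 - r) _ hkill
      rw [rF_rF] at h0
      have hzr : z ∉ X.basicOpen r := by
        have h2 := I.supportSet_subset_zeroLocus ⟨U, hU⟩ hz
        rw [Scheme.mem_zeroLocus_iff] at h2
        exact h2 r hr
      have hz1 := mem_basicOpen_one_sub r z hzU' hzr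
      have hle : X.basicOpen (1 - r) ≤ sSup {W : X.Opens | rF F (le_top : W ≤ ⊤) s = 0} :=
        le_sSup h0
      exact hle hz1
    · apply eq_zero_of_cover
      intro x hx
      obtain ⟨W, hW, hxW⟩ := Opens.mem_sSup.1 hx
      refine ⟨W, le_sSup hW, hxW, ?_⟩
      rw [rF_rF]
      exact hW
  · rintro ⟨V, hZV, hs⟩ n
    apply exists_ap_eq_of_locally
    intro x _
    by_cases hxV : x ∈ V
    · refine ⟨V, le_top, hxV, 0, ?_⟩
      rw [map_zero, hs]
    · have hx : x ∉ (I.support : Set X) := fun hx' => hxV (hZV hx')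
      obtain ⟨W, hW, hxW, hJ⟩ := exists_affine_ideal_eq_top I hx
      have hJn : (I ^ n).ideal ⟨W, hW⟩ = ⊤ := by
        show (I.ideal ⟨W, hW⟩) ^ n = ⊤
        rw [hJ, Ideal.top_pow]
      obtain ⟨t, ht⟩ := (idealMulι_app_bijective (I ^ n) F hW hJn).2 (rF F (le_top : W ≤ ⊤) s)
      exact ⟨W, le_top, hxW, t, ht⟩

/-- **S3665** -/
theorem main3665 (k : Type u) [Field k] (X : Scheme.{u}) (f : X ⟶ Spec (CommRingCat.of k))
    [IsProper f] (I : X.IdealSheafData) (F : X.Modules) (hF : Coh.IsCoh F)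
    (s : F.val.obj (Opposite.op ⊤)) :
    (∀ n : ℕ, ∃ t : ((Dual3.idealMul (I ^ n)).obj F).val.obj (Opposite.op ⊤),
        (Dual3.idealMulι (I ^ n) F).val.app (Opposite.op ⊤) t = s) ↔
      ∃ V : X.Opens, I.supportSet ⊆ (V : Set X) ∧
        F.val.map (homOfLE le_top : V ⟶ ⊤).op s = 0 := by
  haveI : IsLocallyNoetherian X := LocallyOfFiniteType.isLocallyNoetherian f
  exact iff_vanish_near I F hF s

end Sch

end Groth.Agent.Lib.H0cVanishH2
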