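import Mathlib
import Groth.Prelude.Def_CAlgX

/-!
# `I ∩ J² = I J` when `J / I` is locally generated by an `H_1`-regular sequence (helper3)
-/

set_option autoImplicit false
universe u v
open CAlgX

namespace Groth.Agent.Lib.H1RegInfH3

theorem local_lemma {A' : Type v} {B' : Type u} [CommRing A'] [CommRing B'] (ρ : A' →+* B')
    (hρ : Function.Surjective ρ) (J' : Ideal A') {c : ℕ} (f : Fin c → B') (hf : IsH1Regular f)
    (hspan : J'.map ρ = Ideal.span (Set.range f)) :
    RingHom.ker ρ ⊓ J' ^ 2 ≤ RingHom.ker ρ * J' := by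
  classical
  set I' := RingHom.ker ρ with hI'
  have hfJ : ∀ i, ∃ F ∈ J', ρ F = f i := by
    intro i
    have : f i ∈ J'.map ρ := hspan ▸ Ideal.subset_span ⟨i, rfl⟩
    exact (Ideal.mem_map_iff_of_surjective ρ hρ).mp this
  choose F hFJ hFf using hfJ
  have hJle : J' ≤ I' ⊔ Ideal.span (Set.range F) := by
    intro y hy
    have h1 : ρ y ∈ Ideal.span (Set.range f) := hspan ▸ Ideal.mem_map_of_mem ρ hy
    obtain ⟨b, hb⟩ := (Ideal.mem_span_range_iff_exists_fun).mp h1
    choose b' hb' using fun i => hρ (b i)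
    have h2 : y - ∑ i, b' i * F i ∈ I' := by
      rw [hI', RingHom.mem_ker, map_sub, map_sum, sub_eq_zero, ← hb]
      refine Finset.sum_congr rfl fun i _ => ?_
      rw [map_mul, hb', hFf]
    have h3 : ∑ i, b' i * F i ∈ Ideal.span (Set.range F) :=
      Ideal.sum_mem _ fun i _ => Ideal.mul_mem_left _ _ (Ideal.subset_span ⟨i, rfl⟩)
    have : y = (y - ∑ i, b' i * F i) + ∑ i, b' i * F i := by ring
    rw [this]
    exact Ideal.add_mem _ (Ideal.mem_sup_left h2) (Ideal.mem_sup_right h3)
  let Ψ : (Fin c → A') →ₗ[A'] A' := Fintype.linearCombination A' F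
  have hΨ : ∀ b, Ψ b = ∑ i, b i * F i := fun b => by
    simp only [Ψ, Fintype.linearCombination_apply, smul_eq_mul]
  let K : Submodule A' (Fin c → A') := Submodule.comap Ψ (I' * J')
  have hK1 : ∀ b : Fin c → A', (∀ m, b m ∈ I') → b ∈ K := by
    intro b hb
    show Ψ b ∈ I' * J'
    rw [hΨ]
    exact Ideal.sum_mem _ fun m _ => Ideal.mul_mem_mul (hb m) (hFJ m)
  have hK2 : ∀ i j, (Pi.single i (F j) - Pi.single j (F i) : Fin c → A') ∈ K := by
    intro i j
    show Ψ _ ∈ I' * J'
    have : Ψ (Pi.single i (F j) - Pi.single j (F i)) = 0 := by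
      rw [map_sub, hΨ, hΨ]
      simp only [Pi.single_apply, ite_mul, zero_mul, Finset.sum_ite_eq', Finset.mem_univ, if_true]
      ring
    rw [this]
    exact Ideal.zero_mem _
  letI : Algebra A' B' := ρ.toAlgebra
  let Φ : (Fin c → A') →ₗ[A'] (Fin c → B') := (Algebra.linearMap A' B').compLeft (Fin c)
  have hΦ : ∀ b m, Φ b m = ρ (b m) := fun b m => rfl
  have hmain : ∀ b : Fin c → A', Φ b ∈ Submodule.span B'
      {v : Fin c → B' | ∃ i j : Fin c, v = Pi.single i (f j) - Pi.single j (f i)} → b ∈ K := by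
    intro b hb
    have hsurj : Function.Surjective (algebraMap A' B') := hρ
    rw [← Submodule.restrictScalars_mem A', Submodule.restrictScalars_span A' B' hsurj] at hb
    have hS : {v : Fin c → B' | ∃ i j : Fin c, v = Pi.single i (f j) - Pi.single j (f i)}
        = Φ '' {V | ∃ i j : Fin c, V = Pi.single i (F j) - Pi.single j (F i)} := by
      have hcomp : ∀ i j : Fin c, Φ (Pi.single i (F j) - Pi.single j (F i))
          = Pi.single i (f j) - Pi.single j (f i) := by
        intro i j
        funext m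
        rw [hΦ]
        simp only [Pi.sub_apply, Pi.single_apply, map_sub]
        split_ifs <;> simp [hFf]
      ext v
      constructor
      · rintro ⟨i, j, rfl⟩
        exact ⟨_, ⟨i, j, rfl⟩, hcomp i j⟩
      · rintro ⟨_, ⟨i, j, rfl⟩, rfl⟩
        exact ⟨i, j, hcomp i j⟩
    rw [hS, ← Submodule.map_span] at hb
    obtain ⟨b', hb', hb'eq⟩ := hb
    have h1 : b' ∈ K := Submodule.span_le.mpr (by rintro _ ⟨i, j, rfl⟩; exact hK2 i j) hb'
    have h2 : b - b' ∈ K := hK1 _ (fun m => by
      rw [hI', RingHom.mem_ker, Pi.sub_apply, map_sub, ← hΦ, ← hΦ, hb'eq, sub_self])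
    have : b = (b - b') + b' := by abel
    rw [this]
    exact K.add_mem h2 h1
  rintro x ⟨hxI, hxJ⟩
  have h1 : J' ^ 2 ≤ I' * J' ⊔ Ideal.span (Set.range F) := by
    rw [pow_two]
    calc J' * J' ≤ (I' ⊔ Ideal.span (Set.range F)) * J' := Ideal.mul_mono_left hJle
      _ = I' * J' ⊔ Ideal.span (Set.range F) * J' := Ideal.sup_mul _ _ _
      _ ≤ I' * J' ⊔ Ideal.span (Set.range F) := sup_le_sup_left Ideal.mul_le_left _
  obtain ⟨y, hy, w, hw, rfl⟩ := Submodule.mem_sup.mp (h1 hxJ)
  obtain ⟨b, hb⟩ := Ideal.mem_span_range_iff_exists_fun.mp hw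
  have hyI : y ∈ I' := Ideal.mul_le_left hy
  have hwI : w ∈ I' := by
    have := I'.sub_mem hxI hyI
    simpa using this
  have hrel : ∑ i, (Φ b) i * f i = 0 := by
    have h0 := (RingHom.mem_ker).mp hwI
    rw [← hb, map_sum] at h0
    rw [← h0]
    refine Finset.sum_congr rfl fun i _ => ?_
    rw [map_mul, hFf, hΦ]
  have hbK : b ∈ K := hmain b (hf _ hrel)
  have hwIJ : w ∈ I' * J' := by
    have h : Ψ b ∈ I' * J' := hbK
    rwa [hΨ, hb] at h
  exact Ideal.add_mem _ hy hwIJ

theorem main {A : Type u} [CommRing A] (I J : Ideal A)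
    (hIJ : I ≤ J)
    (h : ∀ (𝔮 : Ideal (A ⧸ I)) [𝔮.IsPrime], J.map (Ideal.Quotient.mk I) ≤ 𝔮 →
      ∃ g : A ⧸ I, g ∉ 𝔮 ∧ ∃ (c : ℕ) (f : Fin c → Localization.Away g),
        CAlgX.IsH1Regular f ∧
          Ideal.span (Set.range f) =
            (J.map (Ideal.Quotient.mk I)).map (algebraMap (A ⧸ I) (Localization.Away g))) :
    I ⊓ J ^ 2 = I * J := by
  classical
  apply le_antisymm
  · intro x hx
    by_contra hxn
    let C : Ideal A :=
      { carrier := {a | a * x ∈ I * J}
        add_mem' := fun {a b} ha hb => by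
          show (a + b) * x ∈ I * J
          rw [add_mul]; exact Ideal.add_mem _ ha hb
        zero_mem' := by
          show (0 : A) * x ∈ I * J
          rw [zero_mul]; exact Ideal.zero_mem _
        smul_mem' := fun r {a} ha => by
          show (r • a) * x ∈ I * J
          rw [smul_eq_mul, mul_assoc]; exact Ideal.mul_mem_left _ r ha }
    have hCmem : ∀ a, a ∈ C ↔ a * x ∈ I * J := fun a => Iff.rfl
    have hCne : C ≠ ⊤ := by
      intro hC
      have : (1 : A) ∈ C := hC ▸ Submodule.mem_top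
      rw [hCmem, one_mul] at this
      exact hxn this
    obtain ⟨𝔪, h𝔪, hC𝔪⟩ := Ideal.exists_le_maximal C hCne
    haveI : 𝔪.IsPrime := h𝔪.isPrime
    by_cases hJ𝔪 : J ≤ 𝔪
    · have hI𝔪 : I ≤ 𝔪 := hIJ.trans hJ𝔪
      have hmk : Function.Surjective (Ideal.Quotient.mk I) := Ideal.Quotient.mk_surjective
      haveI : (𝔪.map (Ideal.Quotient.mk I)).IsPrime :=
        Ideal.map_isPrime_of_surjective hmk (by rw [Ideal.mk_ker]; exact hI𝔪)
      obtain ⟨g, hg, c, f, hf, hspan⟩ := h (𝔪.map (Ideal.Quotient.mk I)) (Ideal.map_mono hJ𝔪)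
      obtain ⟨g', rfl⟩ := hmk g
      have hg' : g' ∉ 𝔪 := fun hmem => hg (Ideal.mem_map_of_mem _ hmem)
      let A' := Localization.Away g'
      let B' := Localization.Away (Ideal.Quotient.mk I g')
      have hT : (Submonoid.powers g').map (Ideal.Quotient.mk I)
          = Submonoid.powers (Ideal.Quotient.mk I g') := Submonoid.map_powers _ _
      let ρ : A' →+* B' := IsLocalization.map B' (Ideal.Quotient.mk I)
        (M := Submonoid.powers g') (T := Submonoid.powers (Ideal.Quotient.mk I g'))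
        (hT ▸ (Submonoid.powers g').le_comap_map)
      have hρsurj : Function.Surjective ρ := by
        haveI : IsLocalization ((Submonoid.powers g').map (Ideal.Quotient.mk I)) B' := by
          rw [hT]; infer_instance
        exact IsLocalization.map_surjective_of_surjective (Submonoid.powers g') A' B' hmk
      have hker : RingHom.ker ρ = I.map (algebraMap A A') := by
        have := IsLocalization.ker_map (S := A') B' (Ideal.Quotient.mk I) hT
        rw [Ideal.mk_ker] at this
        exact this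
      have hspan' : (J.map (algebraMap A A')).map ρ = Ideal.span (Set.range f) := by
        rw [hspan, Ideal.map_map, Ideal.map_map]
        congr 1
        exact IsLocalization.map_comp _
      have hloc := local_lemma ρ hρsurj (J.map (algebraMap A A')) f hf hspan'
      have hx1 : algebraMap A A' x ∈ RingHom.ker ρ ⊓ (J.map (algebraMap A A')) ^ 2 := by
        refine ⟨?_, ?_⟩
        · rw [hker]; exact Ideal.mem_map_of_mem _ hx.1
        · rw [← Ideal.map_pow]; exact Ideal.mem_map_of_mem _ hx.2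
      have hx2 := hloc hx1
      rw [hker, ← Ideal.map_mul] at hx2
      obtain ⟨m, hm, hmx⟩ :=
        (IsLocalization.algebraMap_mem_map_algebraMap_iff (Submonoid.powers g') A' (I * J) x).mp hx2
      have hmC : m ∈ C := (hCmem m).mpr hmx
      obtain ⟨k, rfl⟩ := hm
      exact hg' (Ideal.IsPrime.mem_of_pow_mem inferInstance k (hC𝔪 hmC))
    · obtain ⟨s, hsJ, hs𝔪⟩ := Set.not_subset.mp hJ𝔪
      have : s ∈ C := by
        rw [hCmem, mul_comm s x]
        exact Ideal.mul_mem_mul hx.1 hsJ
      exact hs𝔪 (hC𝔪 this)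
  · refine le_inf Ideal.mul_le_left ?_
    rw [pow_two]
    exact Ideal.mul_mono_left hIJ

end Groth.Agent.Lib.H1RegInfH3
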