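import Mathlib

/-!
# `H¹(L_{S/R}) ⊗_S T ≃ H¹(L_{T/R})` for a finite separable field extension `T/S` (helper1)
-/

set_option autoImplicit false
set_option maxHeartbeats 1000000

open TensorProduct Polynomial

namespace Groth.Agent.Lib.H1SepH1

universe u

noncomputable section

section general

variable {R S T : Type u} [CommRing R] [CommRing S] [CommRing T] [Algebra R S] [Algebra R T]
  [Algebra S T] [IsScalarTower R S T]

attribute [local instance] SMulCommClass.of_commMonoid

set_option backward.isDefEq.respectTransparency false in
theorem bijective_of_etale_lift [Module.Flat S T]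
    (P : Algebra.Extension.{u} R S) [Algebra.FormallySmooth R P.Ring]
    (B : Type u) [CommRing B] [Algebra P.Ring B] [Algebra.FormallyEtale P.Ring B]
    [Module.Flat P.Ring B]
    (ψ : B →+* T) (hψ : Function.Surjective ψ)
    (hcomm : ∀ a, ψ (algebraMap P.Ring B a) = algebraMap S T (algebraMap P.Ring S a))
    (hker : RingHom.ker ψ ≤ P.ker.map (algebraMap P.Ring B)) :
    Function.Bijective ((Algebra.H1Cotangent.map R R S T).liftBaseChange T) := by
  letI algRB : Algebra R B := ((algebraMap P.Ring B).comp (algebraMap R P.Ring)).toAlgebra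
  haveI : IsScalarTower R P.Ring B := .of_algebraMap_eq' rfl
  letI algBT : Algebra B T := ψ.toAlgebra
  haveI : IsScalarTower R B T := .of_algebraMap_eq fun r => by
    show algebraMap R T r = ψ (algebraMap P.Ring B (algebraMap R P.Ring r))
    rw [hcomm, ← IsScalarTower.algebraMap_apply R P.Ring S, ← IsScalarTower.algebraMap_apply R S T]
  letI Q : Algebra.Extension.{u} R T :=
    { Ring := B
      σ := fun t => (hψ t).choose
      algebraMap_σ := fun t => (hψ t).choose_spec }
  letI : Algebra P.Ring Q.Ring := (inferInstance : Algebra P.Ring B)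
  letI f : P.Hom Q :=
    { toRingHom := algebraMap P.Ring B
      toRingHom_algebraMap := fun x => rfl
      algebraMap_toRingHom := fun x => hcomm x }
  haveI : Algebra.FormallySmooth P.Ring B := inferInstance
  haveI : Algebra.FormallySmooth R Q.Ring := Algebra.FormallySmooth.comp R P.Ring B
  have H₁ : f.toRingHom.FormallyEtale :=
    RingHom.formallyEtale_algebraMap.mpr (inferInstance : Algebra.FormallyEtale P.Ring B)
  have key : ∀ w : Q.Ring ⊗[P.Ring] P.ker,
      (TensorProduct.rid P.Ring B) (LinearMap.lTensor B P.ker.subtype w) =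
        (((f.mapKer rfl).liftBaseChange Q.Ring w : Q.ker) : Q.Ring) := by
    intro w
    induction w using TensorProduct.induction_on with
    | zero => simp
    | tmul b i =>
      rw [LinearMap.liftBaseChange_tmul, LinearMap.lTensor_tmul, TensorProduct.rid_tmul]
      show (i : P.Ring) • b = b * algebraMap P.Ring B i
      rw [Algebra.smul_def, mul_comm]
    | add x y hx hy =>
      rw [map_add, map_add, hx, hy, map_add]
      rfl
  have H₂ : Function.Bijective ((f.mapKer rfl).liftBaseChange Q.Ring) := by
    constructor
    · have hflat : Function.Injective (LinearMap.lTensor B (P.ker.subtype)) :=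
        Module.Flat.lTensor_preserves_injective_linearMap _ Subtype.val_injective
      intro w₁ w₂ h
      apply hflat
      apply (TensorProduct.rid P.Ring B).injective
      rw [key, key, h]
    · rintro ⟨y, hy⟩
      have hy' : y ∈ P.ker.map (algebraMap P.Ring B) := hker hy
      have : ∀ y ∈ P.ker.map (algebraMap P.Ring B),
          ∃ w, (((f.mapKer rfl).liftBaseChange Q.Ring w : Q.ker) : Q.Ring) = y := by
        intro y hy
        rw [Ideal.map] at hy
        induction hy using Submodule.span_induction with
        | mem y hy =>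
          obtain ⟨i, hi, rfl⟩ := hy
          refine ⟨(1 : Q.Ring) ⊗ₜ[P.Ring] (⟨i, hi⟩ : P.ker), ?_⟩
          rw [LinearMap.liftBaseChange_tmul, one_smul]
          rfl
        | zero => exact ⟨0, by rw [map_zero]; rfl⟩
        | add x y _ _ hx hy =>
          obtain ⟨a, rfl⟩ := hx
          obtain ⟨b, rfl⟩ := hy
          exact ⟨a + b, by rw [map_add]; rfl⟩
        | smul c x _ hx =>
          obtain ⟨a, rfl⟩ := hx
          exact ⟨c • a, by rw [map_smul]; rfl⟩
      obtain ⟨w, hw⟩ := this y hy'
      exact ⟨w, Subtype.ext hw⟩
  have hbij : Function.Bijective ((Algebra.Extension.H1Cotangent.map f).liftBaseChange T) :=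
    (Algebra.Extension.tensorH1CotangentOfFormallyEtale f rfl H₁ H₂).bijective
  -- comparison with the canonical presentations
  haveI : Algebra.FormallySmooth R (Algebra.Generators.self R S).toExtension.Ring :=
    inferInstanceAs (Algebra.FormallySmooth R (MvPolynomial _ _))
  haveI : Algebra.FormallySmooth R (Algebra.Generators.self R T).toExtension.Ring :=
    inferInstanceAs (Algebra.FormallySmooth R (MvPolynomial _ _))
  let fS : (Algebra.Generators.self R S).toExtension.Hom P :=
  { toRingHom := (MvPolynomial.aeval P.σ).toRingHom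
    toRingHom_algebraMap := (MvPolynomial.aeval P.σ).commutes
    algebraMap_toRingHom := by
      have : (IsScalarTower.toAlgHom R P.Ring S).comp (MvPolynomial.aeval P.σ) =
          IsScalarTower.toAlgHom _ (Algebra.Generators.self R S).toExtension.Ring _ := by
        ext i
        change _ = algebraMap (Algebra.Generators.self R S).Ring _ (.X i)
        simp
      exact DFunLike.congr_fun this }
  let fT : (Algebra.Generators.self R T).toExtension.Hom Q :=
  { toRingHom := (MvPolynomial.aeval Q.σ).toRingHom
    toRingHom_algebraMap := (MvPolynomial.aeval Q.σ).commutes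
    algebraMap_toRingHom := by
      have : (IsScalarTower.toAlgHom R Q.Ring T).comp (MvPolynomial.aeval Q.σ) =
          IsScalarTower.toAlgHom _ (Algebra.Generators.self R T).toExtension.Ring _ := by
        ext i
        change _ = algebraMap (Algebra.Generators.self R T).Ring _ (.X i)
        simp
      exact DFunLike.congr_fun this }
  have hS : Function.Bijective (Algebra.Extension.H1Cotangent.map fS) := by
    have e : ⇑(Algebra.Extension.H1Cotangent.map fS) =
        ⇑(Algebra.Extension.H1Cotangent.equivOfFormallySmooth
          (Algebra.Generators.self R S).toExtension P) :=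
      funext fun x => (Algebra.Extension.H1Cotangent.equivOfFormallySmooth_apply fS x).symm
    rw [e]
    exact LinearEquiv.bijective _
  have hT : Function.Bijective (Algebra.Extension.H1Cotangent.map fT) := by
    have e : ⇑(Algebra.Extension.H1Cotangent.map fT) =
        ⇑(Algebra.Extension.H1Cotangent.equivOfFormallySmooth
          (Algebra.Generators.self R T).toExtension Q) :=
      funext fun x => (Algebra.Extension.H1Cotangent.equivOfFormallySmooth_apply fT x).symm
    rw [e]
    exact LinearEquiv.bijective _
  have hid : ∀ x : Algebra.H1Cotangent R S,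
      Algebra.Extension.H1Cotangent.map fT (Algebra.H1Cotangent.map R R S T x) =
        Algebra.Extension.H1Cotangent.map f (Algebra.Extension.H1Cotangent.map fS x) := by
    intro x
    rw [Algebra.H1Cotangent.map, ← Algebra.Extension.H1Cotangent.map_comp_apply,
      ← Algebra.Extension.H1Cotangent.map_comp_apply,
      Algebra.Extension.H1Cotangent.map_eq]
  have hkey : ∀ z : T ⊗[S] Algebra.H1Cotangent R S,
      Algebra.Extension.H1Cotangent.map fT ((Algebra.H1Cotangent.map R R S T).liftBaseChange T z) =
        (Algebra.Extension.H1Cotangent.map f).liftBaseChange T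
          (LinearMap.lTensor T (Algebra.Extension.H1Cotangent.map fS) z) := by
    intro z
    induction z using TensorProduct.induction_on with
    | zero => simp
    | tmul t x =>
      rw [LinearMap.liftBaseChange_tmul, LinearMap.lTensor_tmul, LinearMap.liftBaseChange_tmul,
        map_smul, hid]
    | add x y hx hy => rw [map_add, map_add, hx, hy, map_add, map_add]
  have hlT : Function.Bijective (LinearMap.lTensor T (Algebra.Extension.H1Cotangent.map fS)) := by
    have : ⇑(LinearMap.lTensor T (Algebra.Extension.H1Cotangent.map fS)) =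
        ⇑(LinearEquiv.lTensor T (LinearEquiv.ofBijective _ hS)) := rfl
    rw [this]
    exact LinearEquiv.bijective _
  refine (Function.Bijective.of_comp_iff' hT _).mp ?_
  have : ⇑(Algebra.Extension.H1Cotangent.map fT) ∘
      ⇑((Algebra.H1Cotangent.map R R S T).liftBaseChange T) =
      ⇑((Algebra.Extension.H1Cotangent.map f).liftBaseChange T) ∘
        ⇑(LinearMap.lTensor T (Algebra.Extension.H1Cotangent.map fS)) := funext hkey
  rw [this]
  exact hbij.comp hlT

end general

section fields

variable {R S T : Type u} [CommRing R] [Field S] [Field T] [Algebra R S] [Algebra R T]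
  [Algebra S T] [IsScalarTower R S T] [FiniteDimensional S T] [Algebra.IsSeparable S T]

set_option backward.isDefEq.respectTransparency false in
theorem core : Function.Bijective ((Algebra.H1Cotangent.map R R S T).liftBaseChange T) := by
  classical
  let P : Algebra.Extension.{u} R S := (Algebra.Generators.self R S).toExtension
  haveI : Algebra.FormallySmooth R P.Ring :=
    inferInstanceAs (Algebra.FormallySmooth R (MvPolynomial _ _))
  let φ : P.Ring →+* S := algebraMap P.Ring S
  have hφ : Function.Surjective φ := P.algebraMap_surjective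
  let pb := Field.powerBasisOfFiniteOfSeparable S T
  obtain ⟨α, hαdef⟩ : ∃ α : T, α = pb.gen := ⟨_, rfl⟩
  have hint : IsIntegral S α := Algebra.IsIntegral.isIntegral α
  obtain ⟨p, hpdef⟩ : ∃ p : S[X], p = minpoly S α := ⟨_, rfl⟩
  have hpm : p.Monic := hpdef ▸ minpoly.monic hint
  have hps : p.Separable := hpdef ▸ Algebra.IsSeparable.isSeparable S α
  have hpα : aeval α p = 0 := hpdef ▸ minpoly.aeval S α
  obtain ⟨pt, hpt, -, hptm⟩ := Polynomial.lifts_and_degree_eq_and_monic (f := φ) (p := p)
    ((Polynomial.mem_lifts _).mpr (Polynomial.map_surjective φ hφ p)) hpm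
  let E : StandardEtalePair P.Ring :=
    { f := pt, monic_f := hptm, g := derivative pt, cond := ⟨1, 0, 1, by simp⟩ }
  letI algPT : Algebra P.Ring T := ((algebraMap S T).comp (algebraMap P.Ring S)).toAlgebra
  haveI : IsScalarTower P.Ring S T := .of_algebraMap_eq' rfl
  have hmap : E.HasMap α := by
    constructor
    · show aeval α pt = 0
      rw [← Polynomial.aeval_map_algebraMap S α pt]
      show aeval α (pt.map φ) = 0
      rw [hpt]; exact hpα
    · show IsUnit (aeval α (derivative pt))
      rw [← Polynomial.aeval_map_algebraMap S α (derivative pt)]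
      show IsUnit (aeval α ((derivative pt).map φ))
      rw [← Polynomial.derivative_map, hpt]
      exact (hps.aeval_derivative_ne_zero hpα).isUnit
  let ψ : E.Ring →ₐ[P.Ring] T := E.lift α hmap
  have hψX : ψ E.X = α := E.lift_X α hmap
  have hψaeval : ∀ q : P.Ring[X], ψ (aeval E.X q) = aeval α (q.map φ) := by
    intro q
    rw [← Polynomial.aeval_algHom_apply, hψX]
    exact (Polynomial.aeval_map_algebraMap S α q).symm
  have hψsurj : Function.Surjective ψ := by
    intro t
    obtain ⟨q, hq⟩ := pb.exists_eq_aeval' t
    obtain ⟨qt, hqt⟩ := Polynomial.map_surjective φ hφ q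
    refine ⟨aeval E.X qt, ?_⟩
    rw [hψaeval, hqt, hq, hαdef]
  have hX0 : aeval E.X pt = 0 := E.hasMap_X.1
  have hXu : IsUnit (aeval E.X (derivative pt)) := E.hasMap_X.2
  have hIE : ∀ h : P.Ring[X], h ∈ (RingHom.ker φ).map (C : P.Ring →+* P.Ring[X]) →
      aeval E.X h ∈ (RingHom.ker φ).map (algebraMap P.Ring E.Ring) := by
    intro h hh
    have h1 := Ideal.mem_map_of_mem (aeval E.X : P.Ring[X] →ₐ[P.Ring] E.Ring).toRingHom hh
    rw [Ideal.map_map] at h1
    have h2 : (aeval E.X : P.Ring[X] →ₐ[P.Ring] E.Ring).toRingHom.comp
        (C : P.Ring →+* P.Ring[X]) = algebraMap P.Ring E.Ring :=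
      RingHom.ext fun a => Polynomial.aeval_C E.X a
    rw [h2] at h1
    exact h1
  have hker : RingHom.ker ψ.toRingHom ≤ P.ker.map (algebraMap P.Ring E.Ring) := by
    intro x hx
    have hx0 : ψ x = 0 := hx
    let Pr : StandardEtalePresentation P.Ring E.Ring :=
      ⟨E, E.X, E.hasMap_X, by simpa [StandardEtalePair.lift_X_left] using Function.bijective_id⟩
    obtain ⟨q, n, hqn⟩ := Pr.exists_mul_aeval_x_g_pow_eq_aeval_x x
    have hqn' : x * aeval E.X (derivative pt) ^ n = aeval E.X q := hqn
    have h0 : aeval α (q.map φ) = 0 := by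
      rw [← hψaeval, ← hqn', map_mul, hx0, zero_mul]
    have hdvd : p ∣ q.map φ := hpdef ▸ minpoly.dvd S α h0
    obtain ⟨r, hr⟩ := hdvd
    obtain ⟨rt, hrt⟩ := Polynomial.map_surjective φ hφ r
    have hmem : q - pt * rt ∈ (RingHom.ker φ).map (C : P.Ring →+* P.Ring[X]) := by
      rw [← Polynomial.ker_mapRingHom, RingHom.mem_ker, Polynomial.coe_mapRingHom,
        Polynomial.map_sub, Polynomial.map_mul, hpt, hrt, hr, sub_self]
    have h3 := hIE _ hmem
    rw [map_sub, map_mul, hX0, zero_mul, sub_zero, ← hqn'] at h3
    have hu := hXu.pow n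
    have : x = x * aeval E.X (derivative pt) ^ n * ↑(hu.unit⁻¹) := by
      rw [mul_assoc, IsUnit.mul_val_inv, mul_one]
    rw [this]
    exact Ideal.mul_mem_right _ _ h3
  exact bijective_of_etale_lift P E.Ring ψ.toRingHom hψsurj (fun a => ψ.commutes a) hker

end fields

section final

set_option backward.isDefEq.respectTransparency false in
theorem main {Λ : Type u} {k : Type u} [CommRing Λ] [Field k] [Algebra Λ k]
    [Module.Finite Λ k]
    [Algebra.IsSeparable (↥(algebraMap Λ k).range) k] :
    letI : Algebra Λ (↥(algebraMap Λ k).range) := (algebraMap Λ k).rangeRestrict.toAlgebra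
    letI : IsScalarTower Λ (↥(algebraMap Λ k).range) k := IsScalarTower.of_algebraMap_eq (fun _ ↦ rfl)
    Function.Bijective ((Algebra.H1Cotangent.map Λ Λ (↥(algebraMap Λ k).range) k).liftBaseChange k) := by
  letI a1 : Algebra Λ (↥(algebraMap Λ k).range) := (algebraMap Λ k).rangeRestrict.toAlgebra
  letI a2 : IsScalarTower Λ (↥(algebraMap Λ k).range) k :=
    IsScalarTower.of_algebraMap_eq (fun _ ↦ rfl)
  haveI hfin : Module.Finite (↥(algebraMap Λ k).range) k :=
    Module.Finite.of_restrictScalars_finite Λ _ k
  have hfield : IsField (↥(algebraMap Λ k).range) :=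
    isField_of_isIntegral_of_isField (S := k) Subtype.val_injective (Field.toIsField k)
  exact @core Λ (↥(algebraMap Λ k).range) k _ hfield.toField _ a1 _ _ a2 hfin _

end final

end

end Groth.Agent.Lib.H1SepH1
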