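import Mathlib
import Groth.Prelude.Def_GSzCSA
import Groth.Agent.Lib.GalDescent_helper1

/-!
# Hilbert 90 for the units of `K ⊗[k] A`, `A` a finite-dimensional algebra (helper1)

* `exists_surjective_of_finrank_hom_le`: for semisimple finite-dimensional modules `X`, `Y` over a
  `k`-algebra `A`, if `dim Hom_A(Y, T) ≤ dim Hom_A(X, T)` for all simple `T`, then `X` surjects
  onto `Y`.
* `exists_unit_of_cocycle`: abstract form of Hilbert 90 for a twisted form `B` of `A`.
* `main13692`.
-/

set_option autoImplicit false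

namespace Groth.Agent.Lib.H90AlgH1

open scoped TensorProduct

universe u v w x y z

section Semisimple

variable {k : Type u} [Field k] {A : Type v} [Ring A] [Algebra k A]

theorem finite_of_isSimple [Module.Finite k A] (T : Type w) [AddCommGroup T] [Module A T]
    [Module k T] [IsScalarTower k A T] [IsSimpleModule A T] : Module.Finite k T := by
  have := IsSimpleModule.nontrivial A T
  obtain ⟨t, ht⟩ := exists_ne (0 : T)
  exact Module.Finite.of_surjective ((LinearMap.toSpanSingleton A T t).restrictScalars k)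
    (IsSimpleModule.toSpanSingleton_surjective A ht)

theorem finite_hom (Z : Type w) (T : Type x) [AddCommGroup Z] [Module A Z] [Module k Z]
    [IsScalarTower k A Z] [Module.Finite k Z] [AddCommGroup T] [Module A T] [Module k T]
    [IsScalarTower k A T] [Module.Finite k T] : Module.Finite k (Z →ₗ[A] T) :=
  Module.Finite.of_injective (LinearMap.restrictScalarsₗ k A Z T k)
    (LinearMap.restrictScalars_injective k)

theorem finite_sub {Z : Type w} [AddCommGroup Z] [Module A Z] [Module k Z]
    [IsScalarTower k A Z] [Module.Finite k Z] (p : Submodule A Z) : Module.Finite k p :=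
  Module.Finite.of_injective (p.subtype.restrictScalars k) Subtype.val_injective

theorem finrank_hom_prod {Z : Type w} {Z₁ : Type x} {Z₂ : Type y} {T : Type z}
    [AddCommGroup Z] [Module A Z] [AddCommGroup Z₁] [Module A Z₁] [AddCommGroup Z₂] [Module A Z₂]
    [AddCommGroup T] [Module A T] [Module k T] [SMulCommClass A k T]
    [Module.Finite k (Z₁ →ₗ[A] T)] [Module.Finite k (Z₂ →ₗ[A] T)]
    (e : Z ≃ₗ[A] (Z₁ × Z₂)) :
    Module.finrank k (Z →ₗ[A] T) =
      Module.finrank k (Z₁ →ₗ[A] T) + Module.finrank k (Z₂ →ₗ[A] T) := by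
  have e1 : (Z →ₗ[A] T) ≃ₗ[k] ((Z₁ × Z₂) →ₗ[A] T) := LinearEquiv.congrLeft T k e
  have e2 : ((Z₁ →ₗ[A] T) × (Z₂ →ₗ[A] T)) ≃ₗ[k] (Z₁ × Z₂ →ₗ[A] T) := LinearMap.coprodEquiv k
  rw [e1.finrank_eq, ← e2.finrank_eq, Module.finrank_prod]

theorem finrank_hom_pow {Z : Type w} {B' : Type x} {T : Type y} [AddCommGroup Z] [Module A Z]
    [AddCommGroup B'] [Module A B'] [AddCommGroup T] [Module A T] [Module k T]
    [SMulCommClass A k T] [Module.Finite k (Z →ₗ[A] T)] (n : ℕ) (e : (Fin n → Z) ≃ₗ[A] B') :
    Module.finrank k (B' →ₗ[A] T) = n * Module.finrank k (Z →ₗ[A] T) := by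
  have e1 : ((Fin n → Z) →ₗ[A] T) ≃ₗ[k] (B' →ₗ[A] T) := LinearEquiv.congrLeft T k e
  have e2 : (Fin n → (Z →ₗ[A] T)) ≃ₗ[k] ((Fin n → Z) →ₗ[A] T) :=
    LinearMap.lsum A (fun _ : Fin n => Z) k
  rw [← e1.finrank_eq, ← e2.finrank_eq, Module.finrank_pi_fintype]
  simp

/-- Maps out of a quotient by a submodule killed by every map. -/
noncomputable def quotHomEquiv {Z : Type w} {T : Type x} [AddCommGroup Z] [Module A Z]
    [AddCommGroup T] [Module A T] [Module k T] [SMulCommClass A k T]
    (p : Submodule A Z) (hp : ∀ f : Z →ₗ[A] T, p ≤ LinearMap.ker f) :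
    ((Z ⧸ p) →ₗ[A] T) ≃ₗ[k] (Z →ₗ[A] T) where
  toFun g := g.comp p.mkQ
  map_add' g g' := LinearMap.add_comp _ _ _
  map_smul' c g := LinearMap.smul_comp _ _ _
  invFun f := p.liftQ f (hp f)
  left_inv g := by
    apply Submodule.linearMap_qext
    ext z
    simp
  right_inv f := by
    ext z
    simp

theorem exists_surjective_of_finrank_hom_le [Module.Finite k A] :
    ∀ (d : ℕ) (X : Type w) (Y : Type x) [AddCommGroup X] [Module A X] [Module k X]
      [IsScalarTower k A X] [Module.Finite k X] [IsSemisimpleModule A X]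
      [AddCommGroup Y] [Module A Y] [Module k Y] [IsScalarTower k A Y] [Module.Finite k Y]
      [IsSemisimpleModule A Y],
      Module.finrank k Y = d →
      (∀ (T : Type x) [AddCommGroup T] [Module A T] [Module k T] [IsScalarTower k A T]
        [IsSimpleModule A T],
        Module.finrank k (Y →ₗ[A] T) ≤ Module.finrank k (X →ₗ[A] T)) →
      ∃ f : X →ₗ[A] Y, Function.Surjective f := by
  intro d
  induction d using Nat.strong_induction_on with
  | _ d ih =>
    intro X Y iX1 iX2 iX3 iX4 iX5 iX6 iY1 iY2 iY3 iY4 iY5 iY6 hd hyp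
    by_cases hY : Subsingleton Y
    · exact ⟨0, fun y => ⟨0, Subsingleton.elim _ _⟩⟩
    · rw [not_subsingleton_iff_nontrivial] at hY
      obtain ⟨T, hT⟩ := IsSemisimpleModule.exists_simple_submodule A Y
      obtain ⟨Y', hc⟩ := exists_isCompl T
      have := finite_of_isSimple (k := k) (A := A) T
      have := IsSimpleModule.nontrivial A T
      have := finite_hom (k := k) (A := A) Y T
      have := finite_hom (k := k) (A := A) X T
      have := finite_sub (k := k) Y'
      have hπ : (Submodule.projectionOnto T Y' hc) ≠ 0 := by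
        intro h0
        obtain ⟨t, ht⟩ := exists_ne (0 : T)
        apply ht
        have h1 := Submodule.projectionOnto_apply_left hc t
        rw [h0, LinearMap.zero_apply] at h1
        exact h1.symm
      have h1 : 0 < Module.finrank k (Y →ₗ[A] T) :=
        Module.finrank_pos_iff_exists_ne_zero.mpr ⟨_, hπ⟩
      have h2 : 0 < Module.finrank k (X →ₗ[A] T) := lt_of_lt_of_le h1 (hyp T)
      obtain ⟨p, hp⟩ := Module.finrank_pos_iff_exists_ne_zero.mp h2
      have hps : Function.Surjective p := (LinearMap.surjective_or_eq_zero p).resolve_right hp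
      obtain ⟨C, hC⟩ := exists_isCompl (LinearMap.ker p)
      have := finite_sub (k := k) (LinearMap.ker p)
      let eC : C ≃ₗ[A] T :=
        (Submodule.quotientEquivOfIsCompl _ C hC).symm.trans (p.quotKerEquivOfSurjective hps)
      let eX : X ≃ₗ[A] (LinearMap.ker p × T) :=
        (Submodule.prodEquivOfIsCompl _ C hC).symm.trans
          (LinearEquiv.prodCongr (LinearEquiv.refl A _) eC)
      let eY : Y ≃ₗ[A] (Y' × T) := (Submodule.prodEquivOfIsCompl Y' T hc.symm).symm
      have hfr : Module.finrank k Y = Module.finrank k Y' + Module.finrank k T := by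
        rw [(eY.restrictScalars k).finrank_eq, Module.finrank_prod]
      have hTpos : 0 < Module.finrank k T := Module.finrank_pos
      have hlt : Module.finrank k Y' < d := by omega
      obtain ⟨f', hf'⟩ := ih _ hlt (LinearMap.ker p) Y' rfl (fun T' _ _ _ _ _ => by
        have := finite_of_isSimple (k := k) (A := A) T'
        have := finite_hom (k := k) (A := A) Y' T'
        have := finite_hom (k := k) (A := A) T T'
        have := finite_hom (k := k) (A := A) (LinearMap.ker p) T'
        have a1 := finrank_hom_prod (k := k) (T := T') eY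
        have a2 := finrank_hom_prod (k := k) (T := T') eX
        have a3 := hyp T'
        omega)
      refine ⟨eY.symm.toLinearMap ∘ₗ (f'.prodMap LinearMap.id) ∘ₗ eX.toLinearMap, ?_⟩
      intro y
      obtain ⟨⟨y', t⟩, rfl⟩ := eY.symm.surjective y
      obtain ⟨x', rfl⟩ := hf' y'
      exact ⟨eX.symm (x', t), by simp⟩

end Semisimple

section Pow

variable {k : Type u} [Field k] {K : Type v} [Field K] [Algebra k K] [FiniteDimensional k K]
variable {A : Type w} [Ring A] [Algebra k A]
variable {B : Type x} [AddCommGroup B] [Module K B] [Module k B] [IsScalarTower k K B]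
  [Module A B] [SMulCommClass K A B] [IsScalarTower k A B]
variable {Z : Type y} [AddCommGroup Z] [Module A Z] [Module k Z] [IsScalarTower k A Z]

theorem exists_pow_equiv (ι : Z →ₗ[A] B)
    (h : Function.Bijective ((ι.restrictScalars k).liftBaseChange K)) :
    Nonempty ((Fin (Module.finrank k K) → Z) ≃ₗ[A] B) := by
  classical
  let b := Module.finBasis k K
  let smulK : K → (B →ₗ[A] B) := fun c =>
    { toFun := fun x => c • x
      map_add' := smul_add c
      map_smul' := fun r x => smul_comm c r x }
  let Φ : (Fin (Module.finrank k K) → Z) →ₗ[A] B :=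
    ∑ i, (smulK (b i)).comp (ι.comp (LinearMap.proj i))
  have hΦ : ∀ f, Φ f = ∑ i, b i • ι (f i) := fun f => by
    simp only [Φ, LinearMap.sum_apply, LinearMap.comp_apply, LinearMap.proj_apply]
    rfl
  let eZ : (Fin (Module.finrank k K) → Z) ≃ₗ[k] K ⊗[k] Z :=
    (Finsupp.linearEquivFunOnFinite k Z (Fin (Module.finrank k K))).symm.trans
      (TensorProduct.equivFinsuppOfBasisLeft b).symm
  have heZ : ∀ f : Fin (Module.finrank k K) → Z, eZ f = ∑ i, b i ⊗ₜ[k] f i := fun f => by
    have h1 : eZ f = (TensorProduct.equivFinsuppOfBasisLeft b).symm.toLinearMap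
        ((Finsupp.linearEquivFunOnFinite k Z (Fin (Module.finrank k K))).symm f) := rfl
    rw [h1, TensorProduct.equivFinsuppOfBasisLeft_symm, Finsupp.lsum_apply,
      Finsupp.sum_fintype _ _ (fun i => by simp)]
    simp
  have hL : ∀ f, ((ι.restrictScalars k).liftBaseChange K) (eZ f) = Φ f := fun f => by
    rw [heZ, map_sum, hΦ]
    refine Finset.sum_congr rfl fun i _ => ?_
    rw [LinearMap.liftBaseChange_tmul]
    rfl
  refine ⟨LinearEquiv.ofBijective Φ ⟨?_, ?_⟩⟩
  · intro f g hfg
    apply eZ.injective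
    apply h.1
    rw [hL, hL, hfg]
  · intro x
    obtain ⟨z, rfl⟩ := h.2 x
    refine ⟨eZ.symm z, ?_⟩
    rw [← hL, LinearEquiv.apply_symm_apply]

end Pow

section Core

variable {k : Type u} [Field k] {K : Type v} [Field K] [Algebra k K] [FiniteDimensional k K]
  [IsGalois k K]
variable {A : Type w} [Ring A] [Algebra k A] [Module.Finite k A]
variable {B : Type x} [Ring B] [Algebra K B] [Algebra k B] [IsScalarTower k K B]
  [Module.Finite k B] [MulSemiringAction (K ≃ₐ[k] K) B]

/-- Abstract Hilbert 90: `B` is a `K`-algebra with a semilinear action of the Galois group, `A` maps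
to the invariants and `K ⊗[k] A ≃ B`; then every cocycle with values in `Bˣ` is a coboundary. -/
theorem exists_unit_of_cocycle (j : A →ₐ[k] B)
    (hsemi : ∀ (σ : K ≃ₐ[k] K) (c : K) (x : B), σ • (c • x) = σ c • (σ • x))
    (hfix : ∀ (σ : K ≃ₐ[k] K) (r : A), σ • j r = j r)
    (hbij : Function.Bijective (j.toLinearMap.liftBaseChange K))
    (a : (K ≃ₐ[k] K) → Bˣ)
    (ha : ∀ σ τ : K ≃ₐ[k] K, (a (σ * τ) : B) = a σ * σ • (a τ : B)) :
    ∃ u : Bˣ, ∀ σ : K ≃ₐ[k] K, σ • (u : B) = u * a σ := by
  classical
  letI mAB : Module A B := Module.compHom B (j : A →+* B)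
  have smul_def : ∀ (r : A) (x : B), r • x = j r * x := fun _ _ => rfl
  have : IsScalarTower k A B := ⟨fun c r x => by
    rw [smul_def, smul_def, map_smul, smul_mul_assoc]⟩
  have : SMulCommClass K A B := ⟨fun c r x => by
    rw [smul_def, smul_def, mul_smul_comm]⟩
  let W : Submodule A B :=
    { carrier := {x | ∀ σ : K ≃ₐ[k] K, σ • x = x * (a σ : B)}
      add_mem' := fun {x y} hx hy σ => by
        show σ • (x + y) = (x + y) * _
        rw [smul_add, hx σ, hy σ, add_mul]
      zero_mem' := fun σ => by
        show σ • (0 : B) = 0 * _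
        rw [smul_zero, zero_mul]
      smul_mem' := fun r x hx σ => by
        show σ • (r • x) = (r • x) * _
        rw [smul_def, smul_mul', hfix, hx σ, mul_assoc] }
  have ha1 : a 1 = 1 := by
    refine Units.ext ?_
    rw [Units.val_one]
    have h := ha 1 1
    rw [one_mul, one_smul] at h
    calc (a 1 : B) = ((a 1)⁻¹ : Bˣ) * ((a 1 : B) * (a 1 : B)) := by
          rw [← mul_assoc, Units.inv_mul, one_mul]
      _ = ((a 1)⁻¹ : Bˣ) * (a 1 : B) := by rw [← h]
      _ = 1 := Units.inv_mul _
  have hι : Function.Injective (W.subtype.restrictScalars k) := Subtype.val_injective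
  have hdesc : Function.Bijective ((W.subtype.restrictScalars k).liftBaseChange K) :=
    GalDescentH1.desc_bijective (k := k) (K := K) (M := B)
      (fun (σ : K ≃ₐ[k] K) (x : B) => σ • x * (((a σ)⁻¹ : Bˣ) : B))
      (fun σ x y => by simp only [smul_add, add_mul])
      (fun σ c x => by simp only [hsemi, smul_mul_assoc])
      (fun x => by simp only [ha1, one_smul, inv_one, Units.val_one, mul_one])
      (fun σ τ x => by
        have h1 : (((a (σ * τ))⁻¹ : Bˣ) : B) = σ • (((a τ)⁻¹ : Bˣ) : B) * ((a σ)⁻¹ : Bˣ) := by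
          apply Units.inv_eq_of_mul_eq_one_right
          rw [ha, mul_assoc, ← mul_assoc (σ • (a τ : B)), ← smul_mul', Units.mul_inv, smul_one,
            one_mul, Units.mul_inv]
        show (σ * τ) • x * _ = σ • (τ • x * _) * _
        rw [h1, smul_mul', mul_smul, mul_assoc])
      (W.subtype.restrictScalars k) hι
      (fun x => by
        constructor
        · rintro ⟨⟨y, hy⟩, rfl⟩ σ
          show σ • y * _ = y
          rw [Units.mul_inv_eq_iff_eq_mul]
          exact hy σ
        · intro h
          refine ⟨⟨x, fun σ => ?_⟩, rfl⟩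
          have hσ : σ • x * (((a σ)⁻¹ : Bˣ) : B) = x := h σ
          rwa [Units.mul_inv_eq_iff_eq_mul] at hσ)
  obtain ⟨eW⟩ := exists_pow_equiv (k := k) (K := K) (A := A) (B := B) (Z := W) W.subtype hdesc
  have hιA : (LinearMap.toSpanSingleton A B (1 : B)).restrictScalars k = j.toLinearMap :=
    LinearMap.ext fun r => by
      show r • (1 : B) = j r
      rw [smul_def, mul_one]
  obtain ⟨eA⟩ := exists_pow_equiv (k := k) (K := K) (A := A) (B := B) (Z := A)
    (LinearMap.toSpanSingleton A B 1) (by rw [hιA]; exact hbij)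
  have : Module.Finite k W := finite_sub (k := k) W
  have : IsArtinian A W := isArtinian_of_tower k inferInstance
  have : IsArtinian A A := isArtinian_of_tower k inferInstance
  have : IsNoetherian A W := isNoetherian_of_tower k inferInstance
  have hssY : IsSemisimpleModule A (W ⧸ Module.jacobson A W) :=
    (IsArtinian.isSemisimpleModule_iff_jacobson A _).mpr (Module.jacobson_quotient_jacobson A W)
  have hssX : IsSemisimpleModule A (A ⧸ Module.jacobson A A) :=
    (IsArtinian.isSemisimpleModule_iff_jacobson A _).mpr (Module.jacobson_quotient_jacobson A A)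
  have hn : 0 < Module.finrank k K := Module.finrank_pos
  have hyp : ∀ (T : Type x) [AddCommGroup T] [Module A T] [Module k T] [IsScalarTower k A T]
      [IsSimpleModule A T],
      Module.finrank k ((W ⧸ Module.jacobson A W) →ₗ[A] T) ≤
        Module.finrank k ((A ⧸ Module.jacobson A A) →ₗ[A] T) := by
    intro T _ _ _ _ _
    have := finite_of_isSimple (k := k) (A := A) T
    have := finite_hom (k := k) (A := A) W T
    have := finite_hom (k := k) (A := A) A T
    have h1 := finrank_hom_pow (k := k) (T := T) _ eW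
    have h2 := finrank_hom_pow (k := k) (T := T) _ eA
    have h3 : Module.finrank k (W →ₗ[A] T) = Module.finrank k (A →ₗ[A] T) :=
      Nat.eq_of_mul_eq_mul_left hn (h1.symm.trans h2)
    have h4 := (quotHomEquiv (k := k) (T := T) (Module.jacobson A W)
      (fun f => IsSemisimpleModule.jacobson_le_ker A A W T f)).finrank_eq
    have h5 := (quotHomEquiv (k := k) (T := T) (Module.jacobson A A)
      (fun f => IsSemisimpleModule.jacobson_le_ker A A A T f)).finrank_eq
    rw [h4, h5, h3]
  obtain ⟨f, hf⟩ := exists_surjective_of_finrank_hom_le (k := k) (A := A) _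
    (A ⧸ Module.jacobson A A) (W ⧸ Module.jacobson A W) rfl hyp
  obtain ⟨w, hw⟩ := Submodule.mkQ_surjective (Module.jacobson A W)
    (f (Submodule.Quotient.mk 1))
  have hgen : ∀ z : W, ∃ r : A, z - r • w ∈ Module.jacobson A W := by
    intro z
    obtain ⟨xq, hxq⟩ := hf (Submodule.Quotient.mk z)
    obtain ⟨r, rfl⟩ := Submodule.mkQ_surjective _ xq
    refine ⟨r, ?_⟩
    rw [← Submodule.Quotient.mk_eq_zero, Submodule.Quotient.mk_sub, Submodule.Quotient.mk_smul,
      ← hxq]
    have h1 : (Submodule.mkQ (Module.jacobson A A)) r =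
        r • (Submodule.Quotient.mk (1 : A) : A ⧸ Module.jacobson A A) := by
      rw [← Submodule.Quotient.mk_smul, smul_eq_mul, mul_one]
      rfl
    rw [h1, map_smul, ← hw]
    exact sub_self _
  have hspan : Submodule.span A {w} = ⊤ := by
    by_contra hne
    obtain ⟨m, hm, hle⟩ := (eq_top_or_exists_le_coatom (Submodule.span A {w})).resolve_left hne
    have hjm : Module.jacobson A W ≤ m := sInf_le hm
    apply hm.1
    rw [eq_top_iff]
    intro z _
    obtain ⟨r, hr⟩ := hgen z
    have hz : z = r • w + (z - r • w) := by abel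
    rw [hz]
    exact m.add_mem (m.smul_mem r (hle (Submodule.mem_span_singleton_self w))) (hjm hr)
  have hall : ∀ x : B, ∃ y : B, x = y * (w : B) := by
    intro x
    obtain ⟨z, rfl⟩ := hdesc.2 x
    induction z using TensorProduct.induction_on with
    | zero => exact ⟨0, by rw [map_zero, zero_mul]⟩
    | tmul c z =>
      obtain ⟨r, hr⟩ := Submodule.mem_span_singleton.mp
        (show z ∈ Submodule.span A {w} by rw [hspan]; trivial)
      refine ⟨c • j r, ?_⟩
      rw [LinearMap.liftBaseChange_tmul, ← hr]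
      show c • ((r • w : W) : B) = _
      rw [Submodule.coe_smul, smul_def, smul_mul_assoc]
    | add z z' hz hz' =>
      obtain ⟨y, hy⟩ := hz
      obtain ⟨y', hy'⟩ := hz'
      exact ⟨y + y', by rw [map_add, hy, hy', add_mul]⟩
  obtain ⟨y, hy⟩ := hall 1
  have : IsArtinianRing B := IsArtinianRing.of_finite k B
  have hu : IsUnit (w : B) := isUnit_iff_exists_inv'.mpr ⟨y, hy.symm⟩
  obtain ⟨u, hu⟩ := hu
  exact ⟨u, fun σ => by rw [hu]; exact w.2 σ⟩

end Core

section Concrete

attribute [local instance] CSAGal.tensorAction GpH1.unitsAction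

theorem main13692 (k : Type u) [Field k] (K : Type v) [Field K] [Algebra k K]
    [FiniteDimensional k K] [IsGalois k K] (A : Type w) [Ring A] [Algebra k A]
    [FiniteDimensional k A] :
    GpH1.H1.IsTrivial (K ≃ₐ[k] K) (K ⊗[k] A)ˣ := by
  intro x
  obtain ⟨a, rfl⟩ := GpH1.OneCocycle.cl_surjective x
  rw [GpH1.H1.pt, GpH1.OneCocycle.cl_eq_cl_iff]
  have hid : ∀ z : K ⊗[k] A,
      ((Algebra.TensorProduct.includeRight : A →ₐ[k] K ⊗[k] A).toLinearMap.liftBaseChange K) z
        = z := by
    intro z
    induction z using TensorProduct.induction_on with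
    | zero => rw [map_zero]
    | tmul c r =>
      rw [LinearMap.liftBaseChange_tmul]
      show c • ((1 : K) ⊗ₜ[k] r) = c ⊗ₜ[k] r
      rw [TensorProduct.smul_tmul', smul_eq_mul, mul_one]
    | add z z' hz hz' => rw [map_add, hz, hz']
  obtain ⟨u, hu⟩ := exists_unit_of_cocycle (k := k) (K := K) (A := A) (B := K ⊗[k] A)
    Algebra.TensorProduct.includeRight
    (fun σ c x => GalDescentH1.smul_smul_tmul σ c x)
    (fun σ r => by
      show σ • ((1 : K) ⊗ₜ[k] r) = (1 : K) ⊗ₜ[k] r
      rw [TensorProduct.smul_tmul', smul_one])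
    ⟨fun z z' h => by rw [← hid z, ← hid z']; exact h, fun z => ⟨z, hid z⟩⟩
    (fun σ => a σ)
    (fun σ τ => congrArg Units.val (a.2 σ τ))
  refine ⟨u, fun σ => Units.ext ?_⟩
  show ((a σ : (K ⊗[k] A)ˣ) : K ⊗[k] A) =
    ((u⁻¹ : (K ⊗[k] A)ˣ) : K ⊗[k] A) * 1 * (σ • (u : K ⊗[k] A))
  rw [hu σ, mul_one, ← mul_assoc, Units.inv_mul, one_mul]

end Concrete

end Groth.Agent.Lib.H90AlgH1
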