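import Mathlib

set_option autoImplicit false

namespace Groth.Agent.Lib.H90GL

open Matrix

variable {K L : Type*} [Field K] [Field L] [Algebra K L] [FiniteDimensional K L] {n : ℕ}

/-- apply `σ` entrywise to a vector -/
def mapv (σ : L ≃ₐ[K] L) (y : Fin n → L) : Fin n → L := fun k => σ (y k)

theorem mapv_mulVec (σ : L ≃ₐ[K] L) (M : Matrix (Fin n) (Fin n) L) (y : Fin n → L) :
    mapv σ (M *ᵥ y) = (M.map σ) *ᵥ (mapv σ y) := by
  ext i
  simp [mapv, Matrix.mulVec, dotProduct, map_sum]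

theorem mapv_sum {ι : Type*} (s : Finset ι) (σ : L ≃ₐ[K] L) (y : ι → Fin n → L) :
    mapv σ (∑ i ∈ s, y i) = ∑ i ∈ s, mapv σ (y i) := by
  ext k
  simp [mapv, Finset.sum_apply, map_sum]

theorem mapv_mapv (σ τ : L ≃ₐ[K] L) (y : Fin n → L) : mapv σ (mapv τ y) = mapv (σ * τ) y := rfl

theorem mapv_smul (σ : L ≃ₐ[K] L) (c : L) (y : Fin n → L) :
    mapv σ (c • y) = σ c • mapv σ y := by
  ext k; simp [mapv]

theorem mapv_one (y : Fin n → L) : mapv (1 : L ≃ₐ[K] L) y = y := rfl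

theorem map_mul' (σ : L ≃ₐ[K] L) (M N : Matrix (Fin n) (Fin n) L) :
    (M * N).map σ = M.map σ * N.map σ := by
  ext i j
  simp [Matrix.mul_apply, map_sum]

variable (B : (L ≃ₐ[K] L) → Matrix (Fin n) (Fin n) L)

/-- the Poincaré series -/
noncomputable def b (x : Fin n → L) : Fin n → L := ∑ σ : L ≃ₐ[K] L, B σ *ᵥ mapv σ x

theorem twist (hB : ∀ σ τ : L ≃ₐ[K] L, B σ * (B τ).map σ = B (σ * τ)) (τ : L ≃ₐ[K] L)
    (x : Fin n → L) : B τ *ᵥ mapv τ (b B x) = b B x := by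
  unfold b
  rw [mapv_sum, Matrix.mulVec_sum]
  simp_rw [mapv_mulVec, mapv_mapv, Matrix.mulVec_mulVec, hB]
  exact Equiv.sum_comp (Equiv.mulLeft τ) (fun σ' => B σ' *ᵥ mapv σ' x)

theorem span_b (hB1 : IsUnit (B 1)) : Submodule.span L (Set.range (b B)) = ⊤ := by
  by_contra h
  obtain ⟨f, hf0, hf⟩ := Submodule.exists_le_ker_of_lt_top _ (lt_top_iff_ne_top.mpr h)
  apply hf0
  have hfb : ∀ x, f (b B x) = 0 := fun x => hf (Submodule.subset_span ⟨x, rfl⟩)
  have key : ∀ (x : Fin n → L) (σ : L ≃ₐ[K] L), f (B σ *ᵥ mapv σ x) = 0 := by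
    intro x
    have hind : LinearIndependent L (fun σ : L ≃ₐ[K] L => (⇑σ : L → L)) := by
      have h0 := linearIndependent_monoidHom L L
      have h1 := h0.comp (fun σ : L ≃ₐ[K] L => ((σ : L →* L))) (by
        intro σ τ hστ
        ext y
        exact DFunLike.congr_fun hστ y)
      exact h1
    refine Fintype.linearIndependent_iff.mp hind (fun σ => f (B σ *ᵥ mapv σ x)) ?_
    funext c
    have h2 := hfb (c • x)
    unfold b at h2
    simp only [mapv_smul, Matrix.mulVec_smul, map_sum, map_smul, smul_eq_mul] at h2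
    simp only [Finset.sum_apply, Pi.smul_apply, smul_eq_mul, Pi.zero_apply]
    exact Eq.trans (Finset.sum_congr rfl fun σ _ => mul_comm _ _) h2
  obtain ⟨u, hu⟩ := hB1
  refine LinearMap.ext fun y => ?_
  have h3 := key ((↑u⁻¹ : Matrix (Fin n) (Fin n) L) *ᵥ y) 1
  rw [mapv_one, Matrix.mulVec_mulVec, ← hu, Units.mul_inv, Matrix.one_mulVec] at h3
  rw [h3, LinearMap.zero_apply]

theorem exists_indep (hspan : Submodule.span L (Set.range (b B)) = ⊤) :
    ∃ x : Fin n → (Fin n → L), LinearIndependent L (fun i => b B (x i)) := by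
  obtain ⟨s, hs, hsp, hli⟩ := exists_linearIndependent L (Set.range (b B))
  have hsp' : ⊤ ≤ Submodule.span L (Set.range (Subtype.val : s → Fin n → L)) := by
    rw [Subtype.range_coe, hsp, hspan]
  let bs : Module.Basis s L (Fin n → L) := Module.Basis.mk hli hsp'
  let e : s ≃ Fin n := bs.indexEquiv (Pi.basisFun L (Fin n))
  have hmem : ∀ i : Fin n, ∃ x, b B x = (e.symm i).1 := fun i => hs (e.symm i).2
  choose x hx using hmem
  refine ⟨x, ?_⟩
  have h := hli.comp e.symm e.symm.injective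
  have hfun : (fun i => b B (x i)) = Subtype.val ∘ ⇑e.symm := funext hx
  rw [hfun]
  exact h

theorem main (Bg : (L ≃ₐ[K] L) → GL (Fin n) L)
    (hB : ∀ σ τ : L ≃ₐ[K] L,
      (Bg σ : Matrix (Fin n) (Fin n) L) * (Bg τ : Matrix (Fin n) (Fin n) L).map σ
        = (Bg (σ * τ) : Matrix (Fin n) (Fin n) L)) :
    ∃ A : GL (Fin n) L, ∀ σ : L ≃ₐ[K] L,
      (Bg σ : Matrix (Fin n) (Fin n) L) =
        ((A⁻¹ : GL (Fin n) L) : Matrix (Fin n) (Fin n) L) * (A : Matrix (Fin n) (Fin n) L).map σ := by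
  let B : (L ≃ₐ[K] L) → Matrix (Fin n) (Fin n) L := fun σ => (Bg σ : Matrix (Fin n) (Fin n) L)
  have hB' : ∀ σ τ : L ≃ₐ[K] L, B σ * (B τ).map σ = B (σ * τ) := hB
  have hB1 : IsUnit (B 1) := (Bg 1).isUnit
  obtain ⟨x, hx⟩ := exists_indep B (span_b B hB1)
  let C : Matrix (Fin n) (Fin n) L := Matrix.of fun k i => b B (x i) k
  have hCunit : IsUnit C := by
    rw [← Matrix.linearIndependent_cols_iff_isUnit]
    exact hx
  have hC : ∀ τ : L ≃ₐ[K] L, C = B τ * C.map τ := by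
    intro τ
    ext k i
    have h := congrFun (twist B hB' τ (x i)) k
    simp only [Matrix.mulVec, dotProduct, mapv] at h
    rw [Matrix.mul_apply]
    exact h.symm
  obtain ⟨Cu, hCu⟩ := hCunit
  refine ⟨Cu⁻¹, fun σ => ?_⟩
  rw [inv_inv]
  have h1 : (Cu : Matrix (Fin n) (Fin n) L) = B σ * (Cu : Matrix (Fin n) (Fin n) L).map σ := by
    rw [hCu]; exact hC σ
  have h2 : (Cu : Matrix (Fin n) (Fin n) L).map σ *
      ((Cu⁻¹ : GL (Fin n) L) : Matrix (Fin n) (Fin n) L).map σ = 1 := by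
    rw [← map_mul', Units.mul_inv]
    exact Matrix.map_one _ (map_zero σ) (map_one σ)
  calc (Bg σ : Matrix (Fin n) (Fin n) L)
      = B σ * ((Cu : Matrix (Fin n) (Fin n) L).map σ *
          ((Cu⁻¹ : GL (Fin n) L) : Matrix (Fin n) (Fin n) L).map σ) := by rw [h2, mul_one]
    _ = (B σ * (Cu : Matrix (Fin n) (Fin n) L).map σ) *
          ((Cu⁻¹ : GL (Fin n) L) : Matrix (Fin n) (Fin n) L).map σ := by rw [mul_assoc]
    _ = (Cu : Matrix (Fin n) (Fin n) L) *
          ((Cu⁻¹ : GL (Fin n) L) : Matrix (Fin n) (Fin n) L).map σ := by rw [← h1]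

end Groth.Agent.Lib.H90GL
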