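import Mathlib
import Groth.Agent.Lib.ExtTop_helper5
import Groth.Agent.Lib.AusBuch_helper5
import Groth.Agent.Lib.HilbBurch_helper1
import Groth.Agent.Lib.HilbBurch2_helper1
import Groth.Agent.Lib.Link10_helper9

/-!
# Hilbert–Burch for Cohen–Macaulay quotients of codimension two of a regular local ring (helper9)
APPEND-ONLY once landed.
-/

set_option autoImplicit false
set_option maxHeartbeats 400000
universe u

namespace Groth.Agent.HB9

open CategoryTheory IsLocalRing Groth.Agent.DepthLib

section PD

variable (A : Type u) [CommRing A] [IsRegularLocalRing A] (I : Ideal A)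
  [hCM : LocCoh.IsCohenMacaulayLocalRing (A ⧸ I)]

/-- a Cohen–Macaulay quotient of codimension two of a regular local ring has projective dimension
at most two -/
theorem pd_quot_lt_three (hcodim : ringKrullDim (A ⧸ I) + 2 = ringKrullDim A) :
    HasProjectiveDimensionLT (ModuleCat.of A (A ⧸ I)) 3 := by
  haveI : IsLocalRing (A ⧸ I) := hCM.toIsLocalRing
  haveI : IsNoetherianRing (A ⧸ I) := hCM.toIsNoetherian
  haveI : Nontrivial (A ⧸ I) := IsLocalRing.toNontrivial
  obtain ⟨n, hn⟩ := Groth.Agent.FlatCM.exists_nat_ringKrullDim A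
  obtain ⟨e, he⟩ := Groth.Agent.FlatCM.exists_nat_ringKrullDim (A ⧸ I)
  have hne : e + 2 = n := by
    rw [hn, he] at hcodim
    exact_mod_cast hcodim
  have hfin := Groth.Agent.GlDim.hasProjectiveDimensionLT_of_regular A n hn (A ⧸ I)
  obtain ⟨d', hd1, hd2⟩ := Groth.Agent.ExtTop.exists_pd (A ⧸ I) ⟨n + 1, hfin⟩
  have hpd : projectiveDimension (ModuleCat.of A (A ⧸ I)) = (d' : WithBot ℕ∞) :=
    le_antisymm ((projectiveDimension_le_iff _ d').mpr hd1)
      ((projectiveDimension_ge_iff _ d').mpr hd2)
  have ab := Groth.Agent.AB.auslander_buchsbaum A (A ⧸ I) d' hpd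
  have hdA : LocCoh.depth A A = n := Groth.Agent.ExtTop.regular_depth A n hn
  have hdq : LocCoh.depth A (A ⧸ I) = e := Groth.Agent.Link9.idealDepth_quot_of_cm A I e he
  rw [hdA, hdq] at ab
  have h3 : n = d' + e := by exact_mod_cast ab
  have h4 : d' = 2 := by omega
  rw [h4] at hd1
  exact hd1

end PD

section Ker

variable (A : Type u) [CommRing A] [IsRegularLocalRing A] (I : Ideal A)

/-- the kernel of a presentation of `I` is free when `pd (A/I) ≤ 2` -/
theorem ker_free (hpd : HasProjectiveDimensionLT (ModuleCat.of A (A ⧸ I)) 3) (n : ℕ)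
    (g : Fin n → A) (hg : Ideal.span (Set.range g) = I) :
    Module.Free A (LinearMap.ker (Fintype.linearCombination A g)) := by
  set π := Fintype.linearCombination A g with hπ
  have hrange : LinearMap.range π = I := by
    rw [hπ, Fintype.range_linearCombination]
    exact hg
  have hS1 := shortComplexOf_shortExact I.subtype I.mkQ (Submodule.injective_subtype _)
    (Submodule.mkQ_surjective _) (LinearMap.exact_subtype_mkQ I)
  have hA : HasProjectiveDimensionLT (ModuleCat.of A A) 2 := by
    haveI : Projective (ModuleCat.of A A) := (IsProjective.iff_projective _).mp inferInstance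
    exact hasProjectiveDimensionLT_of_ge _ 1 2 (by omega)
  have hI : HasProjectiveDimensionLT (ModuleCat.of A I) 2 :=
    hS1.hasProjectiveDimensionLT_X₁ 2 hA hpd
  have hmem : ∀ v, π v ∈ I := fun v => hrange ▸ LinearMap.mem_range_self π v
  let π' : (Fin n → A) →ₗ[A] I := π.codRestrict I hmem
  have hπ'surj : Function.Surjective π' := by
    rintro ⟨y, hy⟩
    rw [← hrange] at hy
    obtain ⟨v, rfl⟩ := hy
    exact ⟨v, rfl⟩
  have hex : Function.Exact (LinearMap.ker π).subtype π' := by
    intro v
    constructor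
    · intro hv
      have h1 : π v = 0 := congrArg Subtype.val hv
      exact ⟨⟨v, h1⟩, rfl⟩
    · rintro ⟨⟨w, hw⟩, rfl⟩
      apply Subtype.ext
      exact hw
  have hS2 := shortComplexOf_shortExact (LinearMap.ker π).subtype π'
    (Submodule.injective_subtype _) hπ'surj hex
  have hF : HasProjectiveDimensionLT (ModuleCat.of A (Fin n → A)) 1 := by
    haveI : Projective (ModuleCat.of A (Fin n → A)) :=
      (IsProjective.iff_projective _).mp inferInstance
    infer_instance
  have hK : HasProjectiveDimensionLT (ModuleCat.of A (LinearMap.ker π)) 1 :=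
    hS2.hasProjectiveDimensionLT_X₁ 1 hF hI
  haveI : Projective (ModuleCat.of A (LinearMap.ker π)) :=
    projective_iff_hasProjectiveDimensionLT_one.2 hK
  haveI : Module.Projective A (LinearMap.ker π) := (IsProjective.iff_projective _).mpr this
  exact Module.free_of_flat_of_isLocalRing

end Ker

section Main

variable (A : Type u) [CommRing A] [IsRegularLocalRing A] (I : Ideal A)
  [hCM : LocCoh.IsCohenMacaulayLocalRing (A ⧸ I)]

/-- assembly of Hilbert–Burch from an abstract length-two resolution -/
theorem key2 (hcodim : ringKrullDim (A ⧸ I) + 2 = ringKrullDim A) (n m : ℕ)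
    (Ψ : Matrix (Fin n) (Fin m) A) (π : (Fin n → A) →ₗ[A] A)
    (hker : LinearMap.ker Ψ.mulVecLin = ⊥)
    (hex : LinearMap.ker π = LinearMap.range Ψ.mulVecLin)
    (hrange : LinearMap.range π = I) (hn : I.spanFinrank = n) :
    ∃ (r : ℕ) (φ : Matrix (Fin (r + 1)) (Fin r) A),
      Ideal.span (Set.range (fun i : Fin (r + 1) =>
        (-1 : A) ^ (i : ℕ) * (φ.submatrix i.succAbove id).det)) = I ∧
      I.spanFinrank = r + 1 ∧
      Function.Injective φ.mulVecLin ∧
      LinearMap.range φ.mulVecLin =
        LinearMap.ker (Fintype.linearCombination A (fun i : Fin (r + 1) =>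
          (-1 : A) ^ (i : ℕ) * (φ.submatrix i.succAbove id).det)) := by
  haveI : IsLocalRing (A ⧸ I) := hCM.toIsLocalRing
  haveI : IsNoetherianRing (A ⧸ I) := hCM.toIsNoetherian
  obtain ⟨N, hN⟩ := Groth.Agent.FlatCM.exists_nat_ringKrullDim A
  obtain ⟨e, he⟩ := Groth.Agent.FlatCM.exists_nat_ringKrullDim (A ⧸ I)
  have hne : e + 2 = N := by
    rw [hN, he] at hcodim
    exact_mod_cast hcodim
  have hIne : LinearMap.range π ≠ ⊥ := by
    rw [hrange]
    intro hbot
    have h1 : ringKrullDim (A ⧸ I) = ringKrullDim A := by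
      rw [hbot]
      exact ringKrullDim_eq_of_ringEquiv (RingEquiv.quotientBot A)
    rw [hN, he] at h1
    have : e = N := by exact_mod_cast h1
    omega
  obtain ⟨hnm, ⟨a, ha, hIa⟩, hdepth⟩ :=
    Groth.Agent.Lib.HilbBurch2H1.main12907 m n Ψ π hker hex hIne
  subst hnm
  -- `a` is a unit
  have hau : IsUnit a := by
    by_contra hnu
    have hamem : a ∈ maximalIdeal A := (IsLocalRing.mem_maximalIdeal a).2 hnu
    have hle : I ≤ Ideal.span {a} := by
      rw [← hrange, hIa]
      exact Ideal.mul_le_left (I := Ideal.span {a}) (J := CAlgX.minorIdeal Ψ m)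
    have hdim1 := ringKrullDim_quotient_span_singleton_succ_eq_ringKrullDim_of_mem_nonZeroDivisors
      ha hamem
    have hdim2 : ringKrullDim (A ⧸ Ideal.span {a}) ≤ ringKrullDim (A ⧸ I) :=
      ringKrullDim_le_of_surjective (Ideal.Quotient.factor hle)
        (Ideal.Quotient.factor_surjective hle)
    rw [he] at hdim2
    rw [hN] at hdim1
    have h3 : ringKrullDim (A ⧸ Ideal.span {a}) + 1 ≤ ((e : ℕ) : WithBot ℕ∞) + 1 :=
      add_le_add_left hdim2 1
    rw [hdim1] at h3
    have h4 : N ≤ e + 1 := by exact_mod_cast h3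
    omega
  have hspan : Ideal.span {a} = ⊤ := Ideal.span_singleton_eq_top.2 hau
  have hImin : I = CAlgX.minorIdeal Ψ m := by
    rw [← hrange, hIa, hspan, Ideal.top_mul]
  obtain ⟨h1, h2, h3⟩ := Groth.Agent.Lib.HilbBurchH1.main12908 m Ψ hdepth 1
    (one_mem (nonZeroDivisors A))
  have hfun : (fun i : Fin (m + 1) =>
      (1 : A) * ((-1 : A) ^ (i : ℕ) * (Ψ.submatrix i.succAbove id).det)) =
      fun i : Fin (m + 1) => (-1 : A) ^ (i : ℕ) * (Ψ.submatrix i.succAbove id).det := by
    funext i
    rw [one_mul]
  rw [hfun] at h2 h3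
  refine ⟨m, Ψ, ?_, hn, LinearMap.ker_eq_bot.1 h1, h2.symm⟩
  have h4 := Fintype.range_linearCombination A (fun i : Fin (m + 1) =>
    (-1 : A) ^ (i : ℕ) * (Ψ.submatrix i.succAbove id).det)
  rw [h3, Ideal.span_singleton_one, Ideal.top_mul] at h4
  rw [hImin, h4]

end Main

section Final

variable (A : Type u) [CommRing A] [IsRegularLocalRing A] (I : Ideal A)
  [hCM : LocCoh.IsCohenMacaulayLocalRing (A ⧸ I)]

/-- **S11449** -/
theorem hilbert_burch (hcodim : ringKrullDim (A ⧸ I) + 2 = ringKrullDim A) :
    ∃ (r : ℕ) (φ : Matrix (Fin (r + 1)) (Fin r) A),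
      Ideal.span (Set.range (fun i : Fin (r + 1) =>
        (-1 : A) ^ (i : ℕ) * (φ.submatrix i.succAbove id).det)) = I ∧
      I.spanFinrank = r + 1 ∧
      Function.Injective φ.mulVecLin ∧
      LinearMap.range φ.mulVecLin =
        LinearMap.ker (Fintype.linearCombination A (fun i : Fin (r + 1) =>
          (-1 : A) ^ (i : ℕ) * (φ.submatrix i.succAbove id).det)) := by
  classical
  obtain ⟨s, hcard, hspan⟩ := Submodule.FG.exists_span_finset_card_eq_spanFinrank
    (IsNoetherian.noetherian I)
  let e := s.equivFin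
  let g : Fin s.card → A := fun i => ((e.symm i : s) : A)
  have hrangeg : Set.range g = (↑s : Set A) := by
    ext y
    constructor
    · rintro ⟨i, rfl⟩
      exact (e.symm i).2
    · intro hy
      exact ⟨e ⟨y, hy⟩, by simp [g]⟩
  have hg : Ideal.span (Set.range g) = I := by
    rw [hrangeg]
    exact hspan
  set π := Fintype.linearCombination A g with hπ
  have hrange : LinearMap.range π = I := by
    rw [hπ, Fintype.range_linearCombination]
    exact hg
  have hpd := pd_quot_lt_three A I hcodim
  haveI hfree := ker_free A I hpd s.card g hg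
  let b := Module.finBasis A (LinearMap.ker π)
  let f : (Fin (Module.finrank A (LinearMap.ker π)) → A) →ₗ[A] (Fin s.card → A) :=
    (LinearMap.ker π).subtype ∘ₗ b.equivFun.symm.toLinearMap
  have hfinj : Function.Injective f :=
    (Submodule.injective_subtype _).comp b.equivFun.symm.injective
  have hfrange : LinearMap.range f = LinearMap.ker π := by
    rw [LinearMap.range_comp, LinearEquiv.range, Submodule.map_top, Submodule.range_subtype]
  have hΨ : (LinearMap.toMatrix' f).mulVecLin = f := by
    apply LinearMap.ext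
    intro v
    rw [Matrix.mulVecLin_apply, ← Matrix.toLin'_apply, Matrix.toLin'_toMatrix']
  have hker : LinearMap.ker (LinearMap.toMatrix' f).mulVecLin = ⊥ := by
    rw [hΨ]
    exact LinearMap.ker_eq_bot.2 hfinj
  have hex : LinearMap.ker π = LinearMap.range (LinearMap.toMatrix' f).mulVecLin := by
    rw [hΨ, hfrange]
  exact key2 A I hcodim s.card _ (LinearMap.toMatrix' f) π hker hex hrange hcard.symm

end Final

end Groth.Agent.HB9
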