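import Mathlib
import Groth.Agent.Lib.DMod40_helper6
import Groth.Agent.Lib.LocalCrit4_helper9

/-!
# Lifting exactness and flatness of a three-term complex along a square-zero ideal (helper3)

`exact_flat_of_mod` : let `J` be an ideal of `R` with `J² = 0` and `L₂ → L₁ → L₀` a complex of flat
`R`-modules which is exact modulo `J` (injective on the left), with cokernel flat over `R/J` modulo
`J`.  Then the complex is exact (injective on the left) and its cokernel is flat over `R`.
-/

set_option autoImplicit false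
set_option linter.unusedSectionVars false

universe u

open TensorProduct

namespace Groth.Agent.Lib.HBLiftH3

open Groth.Agent.Lib.DMod_helper6

section Pure

variable {R : Type u} [CommRing R] (J : Ideal R)

/-- purity: if `L/N` is flat then `N ∩ J L = J N`. -/
theorem mem_smul_top_of_flat_quot {L : Type u} [AddCommGroup L] [Module R L]
    (N : Submodule R L) [Module.Flat R (L ⧸ N)] (x : N)
    (hxJ : (x : L) ∈ J • (⊤ : Submodule R L)) :
    x ∈ J • (⊤ : Submodule R N) := by
  have hinj := rTensor_injective_of_flat_coker N.subtype N.mkQ (Submodule.injective_subtype N)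
    (LinearMap.exact_subtype_mkQ N) (Submodule.mkQ_surjective N) (R ⧸ J)
  have h0 : (N.subtype.rTensor (R ⧸ J)) (x ⊗ₜ[R] (1 : R ⧸ J)) = 0 := by
    rw [LinearMap.rTensor_tmul]
    apply (tensorQuotEquivQuotSMul L J).injective
    rw [map_zero, ← map_one (Ideal.Quotient.mk J), tensorQuotEquivQuotSMul_tmul_mk, one_smul]
    exact (Submodule.Quotient.mk_eq_zero _).2 hxJ
  have h1 : x ⊗ₜ[R] (1 : R ⧸ J) = 0 := hinj (h0.trans (map_zero _).symm)
  have h2 := congrArg (tensorQuotEquivQuotSMul N J) h1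
  rw [map_zero, ← map_one (Ideal.Quotient.mk J), tensorQuotEquivQuotSMul_tmul_mk, one_smul] at h2
  exact (Submodule.Quotient.mk_eq_zero _).1 h2

/-- the image of `J ⊗ L → L` is `J L`. -/
theorem lid_rTensor_mem {L : Type u} [AddCommGroup L] [Module R L] (s : J ⊗[R] L) :
    TensorProduct.lid R L ((J.subtype.rTensor L) s) ∈ J • (⊤ : Submodule R L) := by
  induction s using TensorProduct.induction_on with
  | zero => rw [map_zero, map_zero]; exact zero_mem _
  | tmul j l =>
    rw [LinearMap.rTensor_tmul, TensorProduct.lid_tmul]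
    exact Submodule.smul_mem_smul j.2 trivial
  | add a b ha hb => rw [map_add, map_add]; exact add_mem ha hb

theorem exists_lid_rTensor_eq {L : Type u} [AddCommGroup L] [Module R L] (w : L)
    (hw : w ∈ J • (⊤ : Submodule R L)) :
    ∃ s : J ⊗[R] L, TensorProduct.lid R L ((J.subtype.rTensor L) s) = w := by
  induction hw using Submodule.smul_induction_on' with
  | smul j hj l _ =>
    refine ⟨(⟨j, hj⟩ : J) ⊗ₜ l, ?_⟩
    rw [LinearMap.rTensor_tmul, TensorProduct.lid_tmul]
    rfl
  | add a _ b _ ha hb =>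
    obtain ⟨sa, hsa⟩ := ha
    obtain ⟨sb, hsb⟩ := hb
    exact ⟨sa + sb, by rw [map_add, map_add, hsa, hsb]⟩

theorem lid_rTensor_lTensor {L L' : Type u} [AddCommGroup L] [Module R L] [AddCommGroup L']
    [Module R L'] (d : L →ₗ[R] L') (s : J ⊗[R] L) :
    TensorProduct.lid R L' ((J.subtype.rTensor L') ((d.lTensor J) s)) =
      d (TensorProduct.lid R L ((J.subtype.rTensor L) s)) := by
  induction s using TensorProduct.induction_on with
  | zero => simp
  | tmul j l =>
    rw [LinearMap.lTensor_tmul, LinearMap.rTensor_tmul, LinearMap.rTensor_tmul,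
      TensorProduct.lid_tmul, TensorProduct.lid_tmul, map_smul]
  | add a b ha hb => simp only [map_add, ha, hb]

end Pure

section Main

variable {R : Type u} [CommRing R] (J : Ideal R)
  {L₂ L₁ L₀ : Type u} [AddCommGroup L₂] [AddCommGroup L₁] [AddCommGroup L₀]
  [Module R L₂] [Module R L₁] [Module R L₀]
  (d₂ : L₂ →ₗ[R] L₁) (d₁ : L₁ →ₗ[R] L₀)

theorem tor_injective [Module.Flat R L₀]
    (hd : ∀ x, d₁ (d₂ x) = 0)
    (h1 : ∀ y, d₁ y ∈ J • (⊤ : Submodule R L₀) → ∃ x, y - d₂ x ∈ J • (⊤ : Submodule R L₁)) :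
    Function.Injective (J.subtype.rTensor (L₀ ⧸ LinearMap.range d₁)) := by
  rw [injective_iff_map_eq_zero]
  intro t ht
  let q : L₀ →ₗ[R] L₀ ⧸ LinearMap.range d₁ := (LinearMap.range d₁).mkQ
  obtain ⟨s, rfl⟩ := LinearMap.lTensor_surjective J (Submodule.mkQ_surjective (LinearMap.range d₁)) t
  have hy0 : q (TensorProduct.lid R L₀ ((J.subtype.rTensor L₀) s)) = 0 := by
    rw [← lid_rTensor_lTensor J q s]
    show TensorProduct.lid R _ ((J.subtype.rTensor _) ((q.lTensor J) s)) = 0
    rw [ht, map_zero]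
  have hyJ := lid_rTensor_mem J s
  have hyr : TensorProduct.lid R L₀ ((J.subtype.rTensor L₀) s) ∈ LinearMap.range d₁ :=
    (Submodule.Quotient.mk_eq_zero _).1 hy0
  obtain ⟨w, hw⟩ := hyr
  rw [← hw] at hyJ
  obtain ⟨x, hx⟩ := h1 w hyJ
  obtain ⟨s', hs'⟩ := exists_lid_rTensor_eq J (w - d₂ x) hx
  have e1 : TensorProduct.lid R L₀ ((J.subtype.rTensor L₀) ((d₁.lTensor J) s')) =
      TensorProduct.lid R L₀ ((J.subtype.rTensor L₀) s) := by
    rw [lid_rTensor_lTensor, hs', map_sub, hd, sub_zero, hw]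
  have hinj : Function.Injective (J.subtype.rTensor L₀) :=
    Module.Flat.rTensor_preserves_injective_linearMap J.subtype Subtype.val_injective
  have e2 : (d₁.lTensor J) s' = s := hinj ((TensorProduct.lid R L₀).injective e1)
  rw [← e2, ← LinearMap.comp_apply, ← LinearMap.lTensor_comp]
  have hz : q ∘ₗ d₁ = 0 := by
    apply LinearMap.ext
    intro z
    exact (Submodule.Quotient.mk_eq_zero _).2 ⟨z, rfl⟩
  rw [hz, LinearMap.lTensor_zero, LinearMap.zero_apply]

theorem flat_quot_of_mod [Module.Flat R L₀] (hJ : J * J = ⊥)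
    (hd : ∀ x, d₁ (d₂ x) = 0)
    (h1 : ∀ y, d₁ y ∈ J • (⊤ : Submodule R L₀) → ∃ x, y - d₂ x ∈ J • (⊤ : Submodule R L₁))
    (N : Type u) [AddCommGroup N] [Module R N] [Module (R ⧸ J) N] [IsScalarTower R (R ⧸ J) N]
    [Module.Flat (R ⧸ J) N] (q : L₀ →ₗ[R] N) (hq : Function.Surjective q)
    (hker : LinearMap.ker q = LinearMap.range d₁ ⊔ J • ⊤) :
    Module.Flat R (L₀ ⧸ LinearMap.range d₁) := by
  have htor := tor_injective J d₂ d₁ hd h1
  have hle : LinearMap.range d₁ ≤ LinearMap.ker q := by rw [hker]; exact le_sup_left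
  let q' : (L₀ ⧸ LinearMap.range d₁) →ₗ[R] N := (LinearMap.range d₁).liftQ q hle
  have hq' : Function.Surjective q' := by
    intro n
    obtain ⟨a, rfl⟩ := hq n
    exact ⟨Submodule.Quotient.mk a, rfl⟩
  have hJN : ∀ (j : R), j ∈ J → ∀ n : N, j • n = 0 := by
    intro j hj n
    rw [← algebraMap_smul (R ⧸ J) j n, Ideal.Quotient.algebraMap_eq,
      Ideal.Quotient.eq_zero_iff_mem.2 hj, zero_smul]
  have hker' : LinearMap.ker q' = J • (⊤ : Submodule R (L₀ ⧸ LinearMap.range d₁)) := by
    apply le_antisymm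
    · intro m hm
      obtain ⟨a, rfl⟩ := Submodule.Quotient.mk_surjective _ m
      have ha : a ∈ LinearMap.ker q := hm
      rw [hker] at ha
      obtain ⟨y, hy, b, hb, rfl⟩ := Submodule.mem_sup.1 ha
      have e : (Submodule.Quotient.mk (y + b) : L₀ ⧸ LinearMap.range d₁) =
          (LinearMap.range d₁).mkQ b := by
        rw [Submodule.Quotient.mk_add, (Submodule.Quotient.mk_eq_zero _).2 hy, zero_add]
        rfl
      rw [e]
      have h2 : (LinearMap.range d₁).mkQ b ∈ (J • (⊤ : Submodule R L₀)).map (LinearMap.range d₁).mkQ :=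
        Submodule.mem_map_of_mem hb
      rw [Submodule.map_smul''] at h2
      exact Submodule.smul_mono (le_refl J) le_top h2
    · rw [Submodule.smul_le]
      intro j hj m _
      rw [LinearMap.mem_ker, map_smul]
      exact hJN j hj _
  let e₂ : ((L₀ ⧸ LinearMap.range d₁) ⧸ J • (⊤ : Submodule R (L₀ ⧸ LinearMap.range d₁))) ≃ₗ[R] N :=
    (Submodule.quotEquivOfEq _ _ hker'.symm).trans (q'.quotKerEquivOfSurjective hq')
  let e : ((R ⧸ J) ⊗[R] (L₀ ⧸ LinearMap.range d₁)) ≃ₗ[R] N :=
    (quotTensorEquivQuotSMul (L₀ ⧸ LinearMap.range d₁) J).trans e₂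
  let e' : ((R ⧸ J) ⊗[R] (L₀ ⧸ LinearMap.range d₁)) ≃ₗ[R ⧸ J] N :=
    e.extendScalarsOfSurjective Ideal.Quotient.mk_surjective
  haveI : Module.Flat (R ⧸ J) ((R ⧸ J) ⊗[R] (L₀ ⧸ LinearMap.range d₁)) :=
    Module.Flat.of_linearEquiv e'
  exact Groth.Agent.Lib.LocalCrit4.flat_of_nilpotent J ⟨2, by rw [pow_two, hJ]; rfl⟩ _ htor

end Main

end Groth.Agent.Lib.HBLiftH3
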