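import Mathlib
import Groth.Agent.Lib.HBLift1_helper3

/-!
# Lifting exactness of a three-term complex along a square-zero ideal (helper3)
-/

set_option autoImplicit false
set_option linter.unusedSectionVars false
set_option linter.style.haveILetI false

universe u

open TensorProduct

namespace Groth.Agent.Lib.HBLiftH3

open Groth.Agent.Lib.DMod_helper6

variable {R : Type u} [CommRing R] (J : Ideal R)
  {L₂ L₁ L₀ : Type u} [AddCommGroup L₂] [AddCommGroup L₁] [AddCommGroup L₀]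
  [Module R L₂] [Module R L₁] [Module R L₀]
  (d₂ : L₂ →ₗ[R] L₁) (d₁ : L₁ →ₗ[R] L₀)

theorem exact_of_mod [Module.Flat R L₂] [Module.Flat R L₁] [Module.Flat R L₀] (hJ : J * J = ⊥)
    (hd : ∀ x, d₁ (d₂ x) = 0)
    (h2 : ∀ x, d₂ x ∈ J • (⊤ : Submodule R L₁) → x ∈ J • (⊤ : Submodule R L₂))
    (h1 : ∀ y, d₁ y ∈ J • (⊤ : Submodule R L₀) → ∃ x, y - d₂ x ∈ J • (⊤ : Submodule R L₁))
    [Module.Flat R (L₀ ⧸ LinearMap.range d₁)] :
    Function.Injective d₂ ∧ LinearMap.range d₂ = LinearMap.ker d₁ := by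
  haveI hZ : Module.Flat R (LinearMap.range d₁) :=
    flat_of_flat_of_flat_coker (LinearMap.range d₁).subtype (LinearMap.range d₁).mkQ
      (Submodule.injective_subtype _) (LinearMap.exact_subtype_mkQ _) (Submodule.mkQ_surjective _)
  haveI : Module.Flat R (L₁ ⧸ LinearMap.ker d₁) :=
    Module.Flat.of_linearEquiv (LinearMap.quotKerEquivRange d₁)
  haveI hK₁ : Module.Flat R (LinearMap.ker d₁) :=
    flat_of_flat_of_flat_coker (LinearMap.ker d₁).subtype (LinearMap.ker d₁).mkQ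
      (Submodule.injective_subtype _) (LinearMap.exact_subtype_mkQ _) (Submodule.mkQ_surjective _)
  have hJJ : ∀ j ∈ J, ∀ w ∈ J • (⊤ : Submodule R L₁), j • w = 0 := by
    intro j hj w hw
    have h : j • w ∈ (J * J) • (⊤ : Submodule R L₁) := by
      rw [Submodule.mul_smul]
      exact Submodule.smul_mem_smul hj hw
    rw [hJ, Submodule.bot_smul] at h
    exact h
  have hsm : ∀ e : LinearMap.ker d₁, e ∈ J • (⊤ : Submodule R (LinearMap.ker d₁)) →
      (e : L₁) ∈ LinearMap.range d₂ := by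
    intro e he
    induction he using Submodule.smul_induction_on' with
    | smul j hj k _ =>
      obtain ⟨x', hx'⟩ := h1 (k : L₁) (by
        rw [LinearMap.mem_ker.1 k.2]
        exact zero_mem _)
      refine ⟨j • x', ?_⟩
      have h := hJJ j hj _ hx'
      rw [smul_sub, sub_eq_zero] at h
      rw [map_smul, ← h]
      rfl
    | add a _ b _ ha hb => exact add_mem ha hb
  have hle : LinearMap.ker d₁ ≤ LinearMap.range d₂ := by
    intro y hy
    obtain ⟨x, hx⟩ := h1 y (by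
      rw [LinearMap.mem_ker.1 hy]
      exact zero_mem _)
    have hyK : y - d₂ x ∈ LinearMap.ker d₁ := by
      rw [LinearMap.mem_ker, map_sub, hd, LinearMap.mem_ker.1 hy, sub_zero]
    have hp := mem_smul_top_of_flat_quot J (LinearMap.ker d₁) ⟨y - d₂ x, hyK⟩ hx
    have h3 := hsm _ hp
    have e : y = d₂ x + (y - d₂ x) := by abel
    rw [e]
    exact add_mem ⟨x, rfl⟩ h3
  have heq : LinearMap.range d₂ = LinearMap.ker d₁ :=
    le_antisymm (by rintro _ ⟨x, rfl⟩; exact hd x) hle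
  refine ⟨?_, heq⟩
  haveI : Module.Flat R (LinearMap.range d₂) :=
    Module.Flat.of_linearEquiv (LinearEquiv.ofEq _ _ heq)
  haveI : Module.Flat R (L₂ ⧸ LinearMap.ker d₂) :=
    Module.Flat.of_linearEquiv (LinearMap.quotKerEquivRange d₂)
  have htop : ∀ x : LinearMap.ker d₂, x ∈ J • (⊤ : Submodule R (LinearMap.ker d₂)) := by
    intro x
    apply mem_smul_top_of_flat_quot J (LinearMap.ker d₂) x
    apply h2
    rw [LinearMap.mem_ker.1 x.2]
    exact zero_mem _
  have h4 : (⊤ : Submodule R (LinearMap.ker d₂)) ≤ J • ⊤ := fun x _ => htop x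
  have h5 : (⊤ : Submodule R (LinearMap.ker d₂)) ≤ ⊥ := by
    calc (⊤ : Submodule R (LinearMap.ker d₂)) ≤ J • ⊤ := h4
      _ ≤ J • (J • ⊤) := Submodule.smul_mono le_rfl h4
      _ = (J * J) • ⊤ := (Submodule.mul_smul _ _ _).symm
      _ = ⊥ := by rw [hJ, Submodule.bot_smul]
  rw [injective_iff_map_eq_zero]
  intro x hx
  have h6 : (⟨x, hx⟩ : LinearMap.ker d₂) ∈ (⊥ : Submodule R (LinearMap.ker d₂)) := h5 trivial
  rw [Submodule.mem_bot] at h6
  exact congrArg Subtype.val h6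

theorem exact_flat_of_mod [Module.Flat R L₂] [Module.Flat R L₁] [Module.Flat R L₀]
    (hJ : J * J = ⊥) (hd : ∀ x, d₁ (d₂ x) = 0)
    (h2 : ∀ x, d₂ x ∈ J • (⊤ : Submodule R L₁) → x ∈ J • (⊤ : Submodule R L₂))
    (h1 : ∀ y, d₁ y ∈ J • (⊤ : Submodule R L₀) → ∃ x, y - d₂ x ∈ J • (⊤ : Submodule R L₁))
    (N : Type u) [AddCommGroup N] [Module R N] [Module (R ⧸ J) N] [IsScalarTower R (R ⧸ J) N]
    [Module.Flat (R ⧸ J) N] (q : L₀ →ₗ[R] N) (hq : Function.Surjective q)
    (hker : LinearMap.ker q = LinearMap.range d₁ ⊔ J • ⊤) :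
    Function.Injective d₂ ∧ LinearMap.range d₂ = LinearMap.ker d₁ ∧
      Module.Flat R (L₀ ⧸ LinearMap.range d₁) := by
  haveI := flat_quot_of_mod J d₂ d₁ hJ hd h1 N q hq hker
  obtain ⟨h3, h4⟩ := exact_of_mod J d₂ d₁ hJ hd h2 h1
  exact ⟨h3, h4, inferInstance⟩

end Groth.Agent.Lib.HBLiftH3
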