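import Mathlib
import Groth.Agent.Lib.HBLift2_helper3

/-!
# Lifting a Hilbert–Burch resolution along a small extension (helper3)

`main11457` : every lift of a Hilbert–Burch matrix along `C' → C'/J` (`𝔪 J = 0`) again gives a
resolution, with flat cokernel.
-/

set_option autoImplicit false
set_option linter.unusedSectionVars false
set_option linter.style.haveILetI false

universe u

open TensorProduct

namespace Groth.Agent.Lib.HBLiftH3

section Minors

variable {S : Type*} [CommRing S] {r : ℕ}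

/-- the signed maximal minors. -/
def minor (φ : Matrix (Fin (r + 1)) (Fin r) S) (i : Fin (r + 1)) : S :=
  (-1 : S) ^ (i : ℕ) * (φ.submatrix i.succAbove id).det

theorem sum_minor_mul (φ : Matrix (Fin (r + 1)) (Fin r) S) (j : Fin r) :
    ∑ i, minor φ i * φ i j = 0 := by
  let N : Matrix (Fin (r + 1)) (Fin (r + 1)) S :=
    Matrix.of fun i k => (Fin.cons (φ i j) (fun k' => φ i k') : Fin (r + 1) → S) k
  have h0 : N.det = 0 :=
    Matrix.det_zero_of_column_eq (i := 0) (j := j.succ) (Fin.succ_ne_zero j).symm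
      (fun i => by simp [N])
  rw [Matrix.det_succ_column N 0] at h0
  rw [← h0]
  apply Finset.sum_congr rfl
  intro i _
  have e1 : N.submatrix i.succAbove (Fin.succAbove 0) = φ.submatrix i.succAbove id := by
    ext a b
    simp [N, Fin.succAbove_zero]
  rw [e1]
  simp only [minor, N, Matrix.of_apply, Fin.cons_zero, Fin.val_zero, add_zero]
  ring

theorem map_minor {T : Type*} [CommRing T] (g : S →+* T) (φ : Matrix (Fin (r + 1)) (Fin r) S)
    (i : Fin (r + 1)) : g (minor φ i) = minor (φ.map g) i := by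
  simp only [minor, map_mul, map_pow, map_neg, map_one]
  rw [RingHom.map_det, RingHom.mapMatrix_apply, Matrix.submatrix_map]

end Minors

section Vec

variable {R : Type u} [CommRing R] (J : Ideal R) {A : Type u} [CommRing A] [Algebra R A]

theorem map_mem_smul_top {M M' : Type*} [AddCommGroup M] [Module R M] [AddCommGroup M']
    [Module R M'] (g : M →ₗ[R] M') {x : M} (hx : x ∈ J • (⊤ : Submodule R M)) :
    g x ∈ J • (⊤ : Submodule R M') := by
  have h : g x ∈ (J • (⊤ : Submodule R M)).map g := Submodule.mem_map_of_mem hx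
  rw [Submodule.map_smul''] at h
  exact Submodule.smul_mono le_rfl le_top h

theorem mem_smul_top_ring (a : A) :
    a ∈ J • (⊤ : Submodule R A) ↔ a ∈ J.map (algebraMap R A) := by
  rw [Ideal.smul_top_eq_map]
  rfl

theorem mem_smul_top_vec {n : ℕ} (v : Fin n → A) :
    v ∈ J • (⊤ : Submodule R (Fin n → A)) ↔ ∀ i, v i ∈ J.map (algebraMap R A) := by
  constructor
  · intro hv i
    rw [← mem_smul_top_ring]
    exact map_mem_smul_top J (LinearMap.proj i : (Fin n → A) →ₗ[R] A) hv
  · intro hv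
    have e : v = ∑ i, (LinearMap.single R (fun _ : Fin n => A) i) (v i) := by
      ext k
      rw [Finset.sum_apply]
      simp [Pi.single_apply]
    rw [e]
    refine Submodule.sum_mem _ fun i _ => ?_
    exact map_mem_smul_top J _ ((mem_smul_top_ring J (v i)).2 (hv i))

end Vec

section Main

variable (C' : Type u) [CommRing C'] [IsLocalRing C'] (J : Ideal C')
  (A' : Type u) [CommRing A'] [Algebra C' A'] [Module.Flat C' A']

instance flat_vec (n : ℕ) : Module.Flat C' (Fin n → A') :=
  Module.Flat.trans C' A' (Fin n → A')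

set_option maxHeartbeats 1600000 in
theorem main11457 (hJ : IsLocalRing.maximalIdeal C' * J = ⊥) (hJne : J ≠ ⊤)
    (r : ℕ) (φ' : Matrix (Fin (r + 1)) (Fin r) A')
    (hφ : (Function.Injective (φ'.map (Ideal.Quotient.mk (J.map (algebraMap C' A')))).mulVecLin ∧
        LinearMap.range (φ'.map (Ideal.Quotient.mk (J.map (algebraMap C' A')))).mulVecLin = LinearMap.ker (Fintype.linearCombination (A' ⧸ J.map (algebraMap C' A')) (fun i : Fin (r + 1) => (-1 : (A' ⧸ J.map (algebraMap C' A'))) ^ (i : ℕ) * ((φ'.map (Ideal.Quotient.mk (J.map (algebraMap C' A')))).submatrix i.succAbove id).det))))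
    [Module.Flat (C' ⧸ J) ((A' ⧸ J.map (algebraMap C' A')) ⧸ Ideal.span (Set.range (fun i : Fin (r + 1) => (-1 : (A' ⧸ J.map (algebraMap C' A'))) ^ (i : ℕ) * ((φ'.map (Ideal.Quotient.mk (J.map (algebraMap C' A')))).submatrix i.succAbove id).det)))] :
    Function.Injective φ'.mulVecLin ∧
      LinearMap.range φ'.mulVecLin = LinearMap.ker (Fintype.linearCombination A' (fun i : Fin (r + 1) => (-1 : A') ^ (i : ℕ) * ((φ').submatrix i.succAbove id).det)) ∧
      Module.Flat C' (A' ⧸ Ideal.span (Set.range (fun i : Fin (r + 1) => (-1 : A') ^ (i : ℕ) * ((φ').submatrix i.succAbove id).det))) := by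
  obtain ⟨hinj, hex⟩ := hφ
  have hJm : J ≤ IsLocalRing.maximalIdeal C' := IsLocalRing.le_maximalIdeal hJne
  have hJJ : J * J = ⊥ := by
    rw [eq_bot_iff, ← hJ]
    exact Ideal.mul_mono_left hJm
  let mk : A' →+* A' ⧸ J.map (algebraMap C' A') := Ideal.Quotient.mk (J.map (algebraMap C' A'))
  have hmk : Function.Surjective mk := Ideal.Quotient.mk_surjective
  have hmk0 : ∀ a, mk a = 0 ↔ a ∈ J.map (algebraMap C' A') := fun a =>
    Ideal.Quotient.eq_zero_iff_mem
  let φ : Matrix (Fin (r + 1)) (Fin r) (A' ⧸ J.map (algebraMap C' A')) := φ'.map mk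
  let d₂ : (Fin r → A') →ₗ[C'] (Fin (r + 1) → A') := φ'.mulVecLin.restrictScalars C'
  let d₁ : (Fin (r + 1) → A') →ₗ[C'] A' :=
    (Fintype.linearCombination A' (minor φ')).restrictScalars C'
  have hd₂ : ∀ x, d₂ x = φ'.mulVec x := fun x => rfl
  have hd₁ : ∀ y, d₁ y = ∑ i, y i * minor φ' i := by
    intro y
    show Fintype.linearCombination A' (minor φ') y = _
    rw [Fintype.linearCombination_apply]
    rfl
  have hmkvec : ∀ x : Fin r → A', ∀ i, mk (φ'.mulVec x i) = φ.mulVec (mk ∘ x) i := fun x i =>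
    RingHom.map_mulVec mk φ' x i
  have hd : ∀ x, d₁ (d₂ x) = 0 := by
    intro x
    rw [hd₁, hd₂]
    have e : ∀ i, φ'.mulVec x i * minor φ' i = ∑ j, x j * (minor φ' i * φ' i j) := by
      intro i
      rw [Matrix.mulVec, dotProduct, Finset.sum_mul]
      refine Finset.sum_congr rfl fun j _ => ?_
      ring
    simp_rw [e]
    rw [Finset.sum_comm]
    refine Finset.sum_eq_zero fun j _ => ?_
    rw [← Finset.mul_sum, sum_minor_mul, mul_zero]
  have h2 : ∀ x, d₂ x ∈ J • (⊤ : Submodule C' (Fin (r + 1) → A')) →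
      x ∈ J • (⊤ : Submodule C' (Fin r → A')) := by
    intro x hx
    rw [mem_smul_top_vec] at hx ⊢
    have h0 : φ.mulVecLin (mk ∘ x) = 0 := by
      ext i
      show φ.mulVec (mk ∘ x) i = 0
      rw [← hmkvec, hmk0]
      exact hx i
    have h1 : mk ∘ x = 0 := hinj (h0.trans (map_zero _).symm)
    intro i
    rw [← hmk0]
    exact congrFun h1 i
  have hminor : ∀ i, mk (minor φ' i) = (-1 : (A' ⧸ J.map (algebraMap C' A'))) ^ (i : ℕ) *
      ((φ'.map (Ideal.Quotient.mk (J.map (algebraMap C' A')))).submatrix i.succAbove id).det :=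
    fun i => map_minor mk φ' i
  have h1 : ∀ y, d₁ y ∈ J • (⊤ : Submodule C' A') →
      ∃ x, y - d₂ x ∈ J • (⊤ : Submodule C' (Fin (r + 1) → A')) := by
    intro y hy
    rw [mem_smul_top_ring, ← hmk0, hd₁, map_sum] at hy
    have hyk : (mk ∘ y) ∈ LinearMap.ker (Fintype.linearCombination (A' ⧸ J.map (algebraMap C' A')) (fun i : Fin (r + 1) => (-1 : (A' ⧸ J.map (algebraMap C' A'))) ^ (i : ℕ) * ((φ'.map (Ideal.Quotient.mk (J.map (algebraMap C' A')))).submatrix i.succAbove id).det)) := by
      rw [LinearMap.mem_ker, Fintype.linearCombination_apply, ← hy]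
      refine Finset.sum_congr rfl fun i _ => ?_
      rw [map_mul, hminor]
      rfl
    rw [← hex] at hyk
    obtain ⟨xb, hxb⟩ := hyk
    choose x hx using fun j => hmk (xb j)
    refine ⟨x, ?_⟩
    rw [mem_smul_top_vec]
    intro i
    rw [← hmk0, Pi.sub_apply, map_sub, hd₂, hmkvec]
    have e : mk ∘ x = xb := funext hx
    rw [e]
    have e2 : φ.mulVec xb i = (mk ∘ y) i := congrFun hxb i
    rw [e2]
    exact sub_self _
  -- the quotient `N`
  let I : Ideal (A' ⧸ J.map (algebraMap C' A')) := Ideal.span (Set.range (fun i : Fin (r + 1) => (-1 : (A' ⧸ J.map (algebraMap C' A'))) ^ (i : ℕ) * ((φ'.map (Ideal.Quotient.mk (J.map (algebraMap C' A')))).submatrix i.succAbove id).det))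
  let I' : Ideal A' := Ideal.span (Set.range (minor φ'))
  have hI : I = I'.map mk := by
    show Ideal.span _ = Ideal.map mk (Ideal.span _)
    rw [Ideal.map_span]
    congr 1
    ext z
    constructor
    · rintro ⟨i, rfl⟩
      exact ⟨minor φ' i, ⟨i, rfl⟩, hminor i⟩
    · rintro ⟨_, ⟨i, rfl⟩, rfl⟩
      exact ⟨i, (hminor i).symm⟩
  have hrange : ∀ a, a ∈ LinearMap.range d₁ ↔ a ∈ I' := by
    intro a
    rw [Ideal.mem_span_range_iff_exists_fun]
    constructor
    · rintro ⟨y, rfl⟩
      exact ⟨y, (hd₁ y).symm⟩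
    · rintro ⟨y, rfl⟩
      exact ⟨y, hd₁ y⟩
  let q : A' →ₗ[C'] (A' ⧸ J.map (algebraMap C' A')) ⧸ I :=
    ((Ideal.Quotient.mkₐ C' I).toLinearMap).comp
      (Ideal.Quotient.mkₐ C' (J.map (algebraMap C' A'))).toLinearMap
  have hqa : ∀ a, q a = Ideal.Quotient.mk I (mk a) := fun a => rfl
  have hq : Function.Surjective q := by
    intro n
    obtain ⟨b, rfl⟩ := Ideal.Quotient.mk_surjective n
    obtain ⟨a, rfl⟩ := hmk b
    exact ⟨a, rfl⟩
  have hker : LinearMap.ker q = LinearMap.range d₁ ⊔ J • ⊤ := by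
    ext a
    rw [LinearMap.mem_ker, hqa, Ideal.Quotient.eq_zero_iff_mem, hI,
      ← Ideal.mem_comap, Ideal.comap_map_of_surjective mk hmk, Submodule.mem_sup, Submodule.mem_sup]
    constructor
    · rintro ⟨y, hy, z, hz, rfl⟩
      refine ⟨y, (hrange y).2 hy, z, ?_, rfl⟩
      rw [mem_smul_top_ring, ← hmk0]
      exact hz
    · rintro ⟨y, hy, z, hz, rfl⟩
      refine ⟨y, (hrange y).1 hy, z, ?_, rfl⟩
      rw [mem_smul_top_ring, ← hmk0] at hz
      exact hz
  obtain ⟨r1, r2, r3⟩ := exact_flat_of_mod J d₂ d₁ hJJ hd h2 h1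
    ((A' ⧸ J.map (algebraMap C' A')) ⧸ I) q hq hker
  refine ⟨r1, ?_, ?_⟩
  · ext y
    have h3 : y ∈ LinearMap.range d₂ ↔ y ∈ LinearMap.ker d₁ := by rw [r2]
    exact h3
  · have hI'eq : LinearMap.range d₁ = I'.restrictScalars C' := by
      ext a
      exact hrange a
    exact Module.Flat.of_linearEquiv
      ((Submodule.Quotient.restrictScalarsEquiv C' I').symm.trans
        (Submodule.quotEquivOfEq _ _ hI'eq.symm))

end Main

end Groth.Agent.Lib.HBLiftH3
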