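import Mathlib
import Groth.Prelude.Def_HTop

/-!
# Lifting morphisms from spectra of valuation rings (helper6)

Realising a specialization by a valuation ring, and the resulting lifting results for flat and for
universally closed surjective morphisms.
-/

universe u

open CategoryTheory CategoryTheory.Limits AlgebraicGeometry IsLocalRing

namespace Groth.Agent.Lib.ValLift

/-- A morphism from a local scheme factors through an open immersion as soon as the closed point does. -/
theorem exists_lift_of_closedPoint_mem {W : CommRingCat.{u}} [IsLocalRing W] {X Y : Scheme.{u}}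
    (l : Spec W ⟶ X) (ι : Y ⟶ X) [IsOpenImmersion ι]
    (h : l (closedPoint W) ∈ Set.range ι) : ∃ l' : Spec W ⟶ Y, l' ≫ ι = l := by
  refine ⟨IsOpenImmersion.lift ι l ?_, IsOpenImmersion.lift_fac _ _ _⟩
  rintro _ ⟨w, rfl⟩
  have hs : w ⤳ closedPoint W := IsLocalRing.specializes_closedPoint (R := W) w
  exact (hs.map l.continuous).mem_open ι.isOpenEmbedding.isOpen_range h

/-- A specialization `z' ⤳ z` in a scheme over `Spec V` lying over the specialization from the generic
point to the closed point is realised by an extension of valuation rings. -/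
theorem exists_valLift_of_specializes {V : CommRingCat.{u}} [IsDomain V] [ValuationRing V]
    {P : Scheme.{u}} (q : P ⟶ Spec V) {z' z : P} (hspec : z' ⤳ z)
    (hz : q z = closedPoint V) (hz' : PrimeSpectrum.asIdeal (q z') = ⊥) :
    ∃ (W : CommRingCat.{u}) (_ : IsDomain W) (_ : ValuationRing W) (φ : V ⟶ W),
      HTop.IsExtVal V W φ ∧ ∃ h : Spec W ⟶ P, h ≫ q = Spec.map φ ∧ h (closedPoint W) = z := by
  let ψ : P.presheaf.stalk z ⟶ P.residueField z' :=
    P.presheaf.stalkSpecializes hspec ≫ P.residue z'
  obtain ⟨A, hA, hloc⟩ := exists_factor_valuationRing ψ.hom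
  let W : CommRingCat.{u} := CommRingCat.of A
  haveI iD : IsDomain W := inferInstanceAs (IsDomain A)
  haveI iV : ValuationRing W := inferInstanceAs (ValuationRing A)
  let χ : P.presheaf.stalk z ⟶ W := CommRingCat.ofHom (ψ.hom.codRestrict _ hA)
  let ιA : W ⟶ P.residueField z' := CommRingCat.ofHom (algebraMap A (P.residueField z'))
  have hχι : χ ≫ ιA = ψ := rfl
  let h : Spec W ⟶ P := Spec.map χ ≫ P.fromSpecStalk z
  let φ : V ⟶ W := Spec.preimage (h ≫ q)
  have hφ : Spec.map φ = h ≫ q := Spec.map_preimage _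
  have hcl : h (closedPoint W) = z := by
    show (Spec.map χ ≫ P.fromSpecStalk z) (closedPoint W) = z
    rw [Scheme.Hom.comp_apply]
    have : Spec.map χ (closedPoint A) = closedPoint (P.presheaf.stalk z) :=
      comap_closedPoint (S := A) (ψ.hom.codRestrict A.toSubring hA)
    erw [this]
    exact Scheme.fromSpecStalk_closedPoint
  have hgen : Spec.map ιA ≫ h = P.fromSpecResidueField z' := by
    show Spec.map ιA ≫ Spec.map χ ≫ P.fromSpecStalk z = _
    rw [← Spec.map_comp_assoc, hχι, Scheme.fromSpecResidueField]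
    show Spec.map (P.presheaf.stalkSpecializes hspec ≫ P.residue z') ≫ _ = _
    rw [Spec.map_comp, Category.assoc, Scheme.SpecMap_stalkSpecializes_fromSpecStalk]
  refine ⟨W, iD, iV, φ, ⟨?_, ?_⟩, h, hφ.symm, hcl⟩
  · rw [injective_iff_map_eq_zero]
    intro x hx
    let pt : Spec (P.residueField z') := closedPoint (P.residueField z')
    have key : (Spec.map ιA ≫ h ≫ q) pt = q z' := by
      rw [← Category.assoc, hgen, Scheme.Hom.comp_apply, Scheme.fromSpecResidueField_apply]
    have hmem : x ∈ PrimeSpectrum.asIdeal ((Spec.map ιA ≫ h ≫ q) pt) := by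
      rw [← hφ]
      show ιA.hom (φ.hom x) ∈ PrimeSpectrum.asIdeal pt
      rw [hx, map_zero]
      exact Ideal.zero_mem _
    rw [key, hz'] at hmem
    exact hmem
  · have hcp : Spec.map φ (closedPoint W) = closedPoint V := by
      rw [hφ, Scheme.Hom.comp_apply, hcl, hz]
    exact (isLocalHom_iff_comap_closedPoint φ.hom).mpr hcp

/-- Lifting along a flat morphism through a point over the image of the closed point. -/
theorem exists_valLift_of_flat {X T : Scheme.{u}} (p : X ⟶ T) [Flat p]
    (V : CommRingCat.{u}) [IsDomain V] [ValuationRing V] (g : Spec V ⟶ T) (x : X)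
    (hx : p x = g (closedPoint V)) :
    ∃ (W : CommRingCat.{u}) (_ : IsDomain W) (_ : ValuationRing W) (φ : V ⟶ W),
      HTop.IsExtVal V W φ ∧ ∃ g' : Spec W ⟶ X, g' ≫ p = Spec.map φ ≫ g ∧ g' (closedPoint W) = x := by
  obtain ⟨z, hz1, hz2⟩ := Scheme.Pullback.exists_preimage_pullback (f := g) (g := p)
    (closedPoint V) x hx.symm
  let η : Spec V := (⟨⊥, Ideal.isPrime_bot⟩ : PrimeSpectrum V)
  have hη : η ⤳ pullback.fst g p z := by
    rw [hz1]
    exact IsLocalRing.specializes_closedPoint (R := V) η
  obtain ⟨z', hz'z, hz'⟩ := Flat.generalizingMap (pullback.fst g p) hη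
  obtain ⟨W, iD, iV, φ, hext, h, hh, hcl⟩ :=
    exists_valLift_of_specializes (pullback.fst g p) hz'z hz1 (by rw [hz'])
  refine ⟨W, iD, iV, φ, hext, h ≫ pullback.snd g p, ?_, ?_⟩
  · rw [Category.assoc, ← pullback.condition, ← Category.assoc, hh]
  · rw [Scheme.Hom.comp_apply, hcl, hz2]

/-- Lifting along a universally closed surjective morphism. -/
theorem exists_valLift_of_universallyClosed {U T : Scheme.{u}} (f : U ⟶ T) [UniversallyClosed f]
    [Surjective f] (V : CommRingCat.{u}) [IsDomain V] [ValuationRing V] (g : Spec V ⟶ T) :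
    ∃ (W : CommRingCat.{u}) (_ : IsDomain W) (_ : ValuationRing W) (φ : V ⟶ W),
      HTop.IsExtVal V W φ ∧ ∃ g' : Spec W ⟶ U, g' ≫ f = Spec.map φ ≫ g := by
  let η : Spec V := (⟨⊥, Ideal.isPrime_bot⟩ : PrimeSpectrum V)
  obtain ⟨z', hz'⟩ := (pullback.fst g f).surjective η
  have hη : pullback.fst g f z' ⤳ closedPoint V := by
    rw [hz']
    exact IsLocalRing.specializes_closedPoint (R := V) η
  obtain ⟨z, hz'z, hz⟩ := (pullback.fst g f).isClosedMap.specializingMap hη
  obtain ⟨W, iD, iV, φ, hext, h, hh, -⟩ :=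
    exists_valLift_of_specializes (pullback.fst g f) hz'z hz (by rw [hz'])
  refine ⟨W, iD, iV, φ, hext, h ≫ pullback.snd g f, ?_⟩
  rw [Category.assoc, ← pullback.condition, ← Category.assoc, hh]

end Groth.Agent.Lib.ValLift
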