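import Mathlib
import Groth.Prelude.Def_HTop
import Groth.Agent.Lib.ValLift_helper6

/-!
# Valuation rings realising specializations; V coverings are universally submersive (helper6)
-/

universe u w

open CategoryTheory CategoryTheory.Limits AlgebraicGeometry IsLocalRing

namespace Groth.Agent.Lib.ValLift

/-- The generic point of the spectrum of a domain. -/
def genericPt (V : CommRingCat.{u}) [IsDomain V] : Spec V :=
  (⟨⊥, Ideal.isPrime_bot⟩ : PrimeSpectrum V)

theorem genericPt_asIdeal (V : CommRingCat.{u}) [IsDomain V] :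
    PrimeSpectrum.asIdeal (genericPt V) = ⊥ := rfl

theorem genericPt_specializes (V : CommRingCat.{u}) [IsDomain V] [IsLocalRing V] :
    genericPt V ⤳ closedPoint V :=
  IsLocalRing.specializes_closedPoint (R := V) (genericPt V)

theorem SpecMap_closedPoint {V W : CommRingCat.{u}} [IsDomain V] [ValuationRing V] [IsDomain W]
    [ValuationRing W] {φ : V ⟶ W} (hφ : HTop.IsExtVal V W φ) :
    Spec.map φ (closedPoint W) = closedPoint V := by
  haveI := hφ.2
  exact comap_closedPoint φ.hom

theorem SpecMap_genericPt {V W : CommRingCat.{u}} [IsDomain V] [ValuationRing V] [IsDomain W]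
    [ValuationRing W] {φ : V ⟶ W} (hφ : HTop.IsExtVal V W φ) :
    Spec.map φ (genericPt W) = genericPt V := by
  apply PrimeSpectrum.ext
  show Ideal.comap φ.hom ⊥ = ⊥
  exact Ideal.comap_bot_of_injective _ hφ.1

/-- Every specialization in a scheme is realised by a morphism from the spectrum of a valuation ring. -/
theorem exists_valuationRing_of_specializes {P : Scheme.{u}} {z' z : P} (hspec : z' ⤳ z) :
    ∃ (V : CommRingCat.{u}) (_ : IsDomain V) (_ : ValuationRing V) (v : Spec V ⟶ P),
      v (closedPoint V) = z ∧ v (genericPt V) = z' := by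
  let ψ : P.presheaf.stalk z ⟶ P.residueField z' :=
    P.presheaf.stalkSpecializes hspec ≫ P.residue z'
  obtain ⟨A, hA, hloc⟩ := exists_factor_valuationRing ψ.hom
  let W : CommRingCat.{u} := CommRingCat.of A
  haveI iD : IsDomain W := inferInstanceAs (IsDomain A)
  haveI iV : ValuationRing W := inferInstanceAs (ValuationRing A)
  let χ : P.presheaf.stalk z ⟶ W := CommRingCat.ofHom (ψ.hom.codRestrict _ hA)
  let ιA : W ⟶ P.residueField z' := CommRingCat.ofHom (algebraMap A (P.residueField z'))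
  have hχι : χ ≫ ιA = ψ := rfl
  let h : Spec W ⟶ P := Spec.map χ ≫ P.fromSpecStalk z
  have hcl : h (closedPoint W) = z := by
    show (Spec.map χ ≫ P.fromSpecStalk z) (closedPoint W) = z
    rw [Scheme.Hom.comp_apply]
    have : Spec.map χ (closedPoint A) = closedPoint (P.presheaf.stalk z) :=
      comap_closedPoint (S := A) (ψ.hom.codRestrict A.toSubring hA)
    erw [this]
    exact Scheme.fromSpecStalk_closedPoint
  have hgen : Spec.map ιA ≫ h = P.fromSpecResidueField z' := by
    show Spec.map ιA ≫ Spec.map χ ≫ P.fromSpecStalk z = _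
    rw [← Spec.map_comp_assoc, hχι, Scheme.fromSpecResidueField]
    show Spec.map (P.presheaf.stalkSpecializes hspec ≫ P.residue z') ≫ _ = _
    rw [Spec.map_comp, Category.assoc, Scheme.SpecMap_stalkSpecializes_fromSpecStalk]
  refine ⟨W, iD, iV, h, hcl, ?_⟩
  let pt : Spec (P.residueField z') := closedPoint (P.residueField z')
  have hpt : Spec.map ιA pt = genericPt W := by
    apply PrimeSpectrum.ext
    show Ideal.comap ιA.hom (maximalIdeal (P.residueField z')) = ⊥
    rw [IsLocalRing.maximalIdeal_eq_bot]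
    exact Ideal.comap_bot_of_injective _ Subtype.val_injective
  rw [← hpt, ← Scheme.Hom.comp_apply, hgen, Scheme.fromSpecResidueField_apply]

/-- A V covering has the valuation-ring lifting property. -/
theorem hasValLift_of_isVCover {T : Scheme.{u}} (E : PreZeroHypercover.{w} T)
    (hE : HTop.IsVCover E) : HTop.HasValLift E := by
  intro V _ _ g
  obtain ⟨U, hU, hyU, -⟩ := TopologicalSpace.Opens.isBasis_iff_nbhd.mp T.isBasis_affineOpens
    (show g (closedPoint V) ∈ (⊤ : T.Opens) from trivial)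
  obtain ⟨F, hF, href⟩ := hE ⟨U, hU⟩
  obtain ⟨g₀, hg₀⟩ := exists_lift_of_closedPoint_mem g (Scheme.Opens.ι U)
    (by rw [Scheme.Opens.range_ι]; exact hyU)
  obtain ⟨W, iD, iV, φ, hext, j, g', hg'⟩ := hF.lift V g₀
  obtain ⟨i, h, hh⟩ := href j
  refine ⟨W, iD, iV, φ, hext, i, g' ≫ h, ?_⟩
  rw [Category.assoc, hh, ← Category.assoc, hg', Category.assoc, hg₀]

/-- A lift of a valuation ring to a cartesian square produces a specialization in the fibre product. -/
theorem exists_specializes_of_lift {P Z X' Y : Scheme.{u}} {fst : P ⟶ Z} {snd : P ⟶ X'}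
    {g : Z ⟶ Y} {p : X' ⟶ Y} (hpb : IsPullback fst snd g p) {V W : CommRingCat.{u}}
    [IsDomain V] [ValuationRing V] [IsDomain W] [ValuationRing W]
    (φ : V ⟶ W) (hφ : HTop.IsExtVal V W φ) (v : Spec V ⟶ Z) (g' : Spec W ⟶ X')
    (hg' : g' ≫ p = Spec.map φ ≫ v ≫ g) :
    ∃ w' w : P, w' ⤳ w ∧ fst w' = v (genericPt V) ∧ fst w = v (closedPoint V) := by
  let k : Spec W ⟶ P := hpb.lift (Spec.map φ ≫ v) g' (by rw [Category.assoc, hg'])
  have hk : k ≫ fst = Spec.map φ ≫ v := hpb.lift_fst _ _ _
  refine ⟨k (genericPt W), k (closedPoint W), (genericPt_specializes W).map k.continuous, ?_, ?_⟩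
  · rw [← Scheme.Hom.comp_apply, hk, Scheme.Hom.comp_apply, SpecMap_genericPt hφ]
  · rw [← Scheme.Hom.comp_apply, hk, Scheme.Hom.comp_apply, SpecMap_closedPoint hφ]

/-- A set in a prime spectrum that is stable under specialization, is covered by the images of finitely
many ring maps, and has closed preimages under them, is closed. -/
theorem isClosed_of_stableUnderSpecialization_of_finite {A : Type*} [CommRing A] {ι : Type*}
    [Finite ι] {B : ι → Type*} [∀ j, CommRing (B j)] (φ : ∀ j, A →+* B j)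
    (T : Set (PrimeSpectrum A)) (hT : StableUnderSpecialization T)
    (hcl : ∀ j, IsClosed (PrimeSpectrum.comap (φ j) ⁻¹' T))
    (hcov : T ⊆ ⋃ j, Set.range (PrimeSpectrum.comap (φ j))) : IsClosed T := by
  choose I hI using fun j => (PrimeSpectrum.isClosed_iff_zeroLocus_ideal _).mp (hcl j)
  have : T = ⋃ j, PrimeSpectrum.zeroLocus ((I j).comap (φ j) : Set A) := by
    apply Set.Subset.antisymm
    · intro t ht
      obtain ⟨j, q, rfl⟩ := Set.mem_iUnion.mp (hcov ht)
      refine Set.mem_iUnion.mpr ⟨j, ?_⟩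
      have hq : q ∈ PrimeSpectrum.zeroLocus (I j : Set (B j)) := by
        rw [← hI j]; exact ht
      exact fun a ha => hq ha
    · intro p hp
      obtain ⟨j, hpj⟩ := Set.mem_iUnion.mp hp
      obtain ⟨q, hqI, hq, hqle⟩ := p.asIdeal.exists_ideal_comap_le_prime (I j) hpj
      have hqT : (⟨q, hq⟩ : PrimeSpectrum (B j)) ∈ PrimeSpectrum.comap (φ j) ⁻¹' T := by
        rw [hI j]; exact hqI
      exact hT ((PrimeSpectrum.le_iff_specializes ⟨q.comap (φ j), inferInstance⟩ p).mp hqle) hqT
  rw [this]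
  exact isClosed_iUnion_of_finite fun j => PrimeSpectrum.isClosed_zeroLocus _

/-- Scheme version of the previous lemma, for morphisms between spectra. -/
theorem isClosed_of_stableUnderSpecialization_Spec {R : CommRingCat.{u}} {ι : Type*} [Finite ι]
    (B : ι → CommRingCat.{u}) (g : ∀ j, Spec (B j) ⟶ Spec R) (T : Set (Spec R))
    (hT : StableUnderSpecialization T) (hcl : ∀ j, IsClosed ((g j) ⁻¹' T))
    (hcov : T ⊆ ⋃ j, Set.range (g j)) : IsClosed T := by
  have hg : ∀ j, g j = Spec.map (Spec.preimage (g j)) := fun j => (Spec.map_preimage _).symm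
  refine isClosed_of_stableUnderSpecialization_of_finite
    (fun j => (Spec.preimage (g j)).hom) T hT (fun j => ?_) ?_
  · have := hcl j
    rw [hg j] at this
    exact this
  · intro t ht
    obtain ⟨j, q, hq⟩ := Set.mem_iUnion.mp (hcov ht)
    rw [hg j] at hq
    exact Set.mem_iUnion.mpr ⟨j, q, hq⟩

section Submersive

variable {X : Scheme.{u}} (E : PreZeroHypercover.{u} X) {P' Z : Scheme.{u}} {i₁ : P' ⟶ ∐ E.X}
  {i₂ : Z ⟶ X} {f' : P' ⟶ Z}

theorem surjective_of_hasValLift (hVL : HTop.HasValLift E)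
    (hpb : IsPullback f' i₁ i₂ (Sigma.desc E.f)) : Function.Surjective f' := by
  intro z
  obtain ⟨W, iD, iV, φ, hext, i, g', hg'⟩ :=
    hVL (Z.residueField z) (Z.fromSpecResidueField z ≫ i₂)
  obtain ⟨-, w, -, -, hw⟩ := exists_specializes_of_lift hpb φ hext (Z.fromSpecResidueField z)
    (g' ≫ Sigma.ι E.X i) (by rw [Category.assoc, Sigma.ι_desc, hg'])
  exact ⟨w, by rw [hw, Scheme.fromSpecResidueField_apply]⟩

theorem stableUnderSpecialization_of_hasValLift (hVL : HTop.HasValLift E)
    (hpb : IsPullback f' i₁ i₂ (Sigma.desc E.f)) (S : Set Z) (hS : IsClosed (f' ⁻¹' S)) :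
    StableUnderSpecialization S := by
  intro s t hst hs
  obtain ⟨V, iD, iV, v, hvc, hvg⟩ := exists_valuationRing_of_specializes hst
  obtain ⟨W, iD', iV', φ, hext, i, g', hg'⟩ := hVL V (v ≫ i₂)
  obtain ⟨w', w, hw, h1, h2⟩ := exists_specializes_of_lift hpb φ hext v
    (g' ≫ Sigma.ι E.X i) (by rw [Category.assoc, Sigma.ι_desc, hg'])
  have hw' : w' ∈ f' ⁻¹' S := by
    show f' w' ∈ S
    rw [h1, hvg]; exact hs
  have hwS : f' w ∈ S := hw.mem_closed hS hw'
  rwa [h2, hvc] at hwS

theorem isClosed_preimage_of_isStandardV (hpb : IsPullback f' i₁ i₂ (Sigma.desc E.f))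
    {U : X.affineOpens} (F : PreZeroHypercover.{0} ((U : X.Opens) : Scheme.{u}))
    (hF : HTop.IsStandardV F) (href : HTop.RefinesOver (U : X.Opens).ι F E)
    {R : CommRingCat.{u}} (ν : Spec R ⟶ Z) (r : Spec R ⟶ (U : X.Opens))
    (hr : r ≫ (U : X.Opens).ι = ν ≫ i₂) (S : Set Z) (hS : IsClosed (f' ⁻¹' S))
    (hSs : StableUnderSpecialization S) : IsClosed (ν ⁻¹' S) := by
  haveI := hF.isAffine
  haveI := hF.finite_index
  haveI : ∀ j, IsAffine (F.X j) := hF.isAffine_obj
  choose i h hh using href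
  let m : ∀ j, pullback r (F.f j) ⟶ P' := fun j =>
    hpb.lift (pullback.fst r (F.f j) ≫ ν) (pullback.snd r (F.f j) ≫ h j ≫ Sigma.ι E.X (i j)) (by
      rw [Category.assoc, Category.assoc, Category.assoc, Sigma.ι_desc, hh j, ← hr,
        ← Category.assoc, ← Category.assoc, pullback.condition])
  have hm : ∀ j, m j ≫ f' = pullback.fst r (F.f j) ≫ ν := fun j => hpb.lift_fst _ _ _
  let B : F.I₀ → CommRingCat.{u} := fun j => Γ(pullback r (F.f j), ⊤)
  let g : ∀ j, Spec (B j) ⟶ Spec R := fun j =>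
    (pullback r (F.f j)).isoSpec.inv ≫ pullback.fst r (F.f j)
  refine isClosed_of_stableUnderSpecialization_Spec B g (ν ⁻¹' S)
    (hSs.preimage ν.continuous) ?_ ?_
  · intro j
    have : (g j) ⁻¹' (ν ⁻¹' S) = ((pullback r (F.f j)).isoSpec.inv ≫ m j) ⁻¹' (f' ⁻¹' S) := by
      have e : g j ≫ ν = ((pullback r (F.f j)).isoSpec.inv ≫ m j) ≫ f' := by
        show ((pullback r (F.f j)).isoSpec.inv ≫ pullback.fst r (F.f j)) ≫ ν = _
        rw [Category.assoc, Category.assoc, hm j]
      ext y
      show (g j ≫ ν) y ∈ S ↔ (((pullback r (F.f j)).isoSpec.inv ≫ m j) ≫ f') y ∈ S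
      rw [e]
    rw [this]
    exact hS.preimage (Scheme.Hom.continuous _)
  · intro t _
    obtain ⟨W, iD, iV, φ, hext, j, g', hg'⟩ :=
      hF.lift ((Spec R).residueField t) ((Spec R).fromSpecResidueField t ≫ r)
    obtain ⟨-, w, -, -, hw⟩ := exists_specializes_of_lift (IsPullback.of_hasPullback r (F.f j))
      φ hext ((Spec R).fromSpecResidueField t) g' hg'
    refine Set.mem_iUnion.mpr ⟨j, (pullback r (F.f j)).isoSpec.hom w, ?_⟩
    show ((pullback r (F.f j)).isoSpec.inv ≫ pullback.fst r (F.f j))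
      ((pullback r (F.f j)).isoSpec.hom w) = t
    rw [← Scheme.Hom.comp_apply, Iso.hom_inv_id_assoc, hw, Scheme.fromSpecResidueField_apply]

end Submersive

end Groth.Agent.Lib.ValLift
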