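import Mathlib
import Groth.Prelude.Def_HTop
import Groth.Agent.Lib.ValLift2_helper6

/-!
# Finite families of closed immersions as h coverings; h sheaves are separated for h coverings (helper6)
-/

set_option autoImplicit false
universe u

open CategoryTheory CategoryTheory.Limits AlgebraicGeometry Opposite

namespace Groth.Agent.Lib.HCover

open Groth.Agent.Lib.ValLift

/-- If `h ≫ g` is locally of finite presentation and `g` is locally of finite type, then `h` is locally of
finite presentation. -/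
theorem lfp_of_comp {X W Y : Scheme.{u}} (h : X ⟶ W) (g : W ⟶ Y)
    [LocallyOfFinitePresentation (h ≫ g)] [LocallyOfFiniteType g] :
    LocallyOfFinitePresentation h := by
  rw [HasRingHomProperty.iff_exists_appLE (P := @LocallyOfFinitePresentation)
    (RingHom.finitePresentation_stableUnderComposition.stableUnderCompositionWithLocalizationAway
      RingHom.finitePresentation_holdsForLocalizationAway).left]
  intro x
  obtain ⟨Y₀, hY₀, hxY₀, -⟩ :=
    exists_isAffineOpen_mem_and_subset (x := (h ≫ g).base x) (U := ⊤) trivial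
  obtain ⟨U, hU, hxU, hUle⟩ :=
    exists_isAffineOpen_mem_and_subset (x := h.base x) (U := g ⁻¹ᵁ Y₀) hxY₀
  obtain ⟨V, hV, hxV, hVle⟩ :=
    exists_isAffineOpen_mem_and_subset (x := x) (U := h ⁻¹ᵁ U) hxU
  refine ⟨⟨U, hU⟩, ⟨V, hV⟩, hxV, hVle, ?_⟩
  have e := Scheme.Hom.appLE_comp_appLE h g Y₀ U V hUle hVle
  have h1 : ((h ≫ g).appLE Y₀ V
      (hVle.trans ((TopologicalSpace.Opens.map h.base).map (homOfLE hUle)).le)).hom.FinitePresentation :=
    HasRingHomProperty.appLE (P := @LocallyOfFinitePresentation) (h ≫ g) inferInstance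
      ⟨Y₀, hY₀⟩ ⟨V, hV⟩ _
  have h2 : (g.appLE Y₀ U hUle).hom.FiniteType :=
    HasRingHomProperty.appLE (P := @LocallyOfFiniteType) g inferInstance ⟨Y₀, hY₀⟩ ⟨U, hU⟩ hUle
  rw [← e, CommRingCat.hom_comp] at h1
  exact RingHom.FinitePresentation.of_comp_finiteType _ h1 h2

/-- A morphism from the spectrum of a domain whose generic point lands in a closed subscheme factors through
that closed subscheme. -/
theorem exists_factor_of_genericPt_mem {Z' U' : Scheme.{u}} (κ : Z' ⟶ U') [IsClosedImmersion κ]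
    (V : CommRingCat.{u}) [IsDomain V] (γ : Spec V ⟶ U')
    (hη : γ.base (genericPt V) ∈ Set.range κ.base) : ∃ g' : Spec V ⟶ Z', g' ≫ κ = γ := by
  haveI : Surjective (pullback.snd κ γ) := by
    refine ⟨fun x => ?_⟩
    have hr := Scheme.Pullback.range_snd κ γ
    have hcl : IsClosed (γ.base ⁻¹' Set.range κ.base) :=
      (κ.isClosedEmbedding.isClosed_range).preimage γ.base.hom.continuous
    have hspec : genericPt V ⤳ x := (PrimeSpectrum.le_iff_specializes _ _).mp (by
      show (genericPt V).asIdeal ≤ x.asIdeal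
      rw [genericPt_asIdeal]; exact bot_le)
    have hx : x ∈ γ.base ⁻¹' Set.range κ.base := hspec.mem_closed hcl hη
    rw [← hr] at hx
    exact hx
  haveI : IsIso (pullback.snd κ γ) := isIso_of_isClosedImmersion_of_surjective _
  exact ⟨inv (pullback.snd κ γ) ≫ pullback.fst κ γ, by
    rw [Category.assoc, pullback.condition, IsIso.inv_hom_id_assoc]⟩

/-- A finite jointly surjective family of closed immersions of finite presentation is an h covering. -/
theorem isHCover_of_closedImmersions {T : Scheme.{u}} (E : PreZeroHypercover.{0} T) [Finite E.I₀]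
    (hcl : ∀ j, IsClosedImmersion (E.f j)) (hfp : ∀ j, LocallyOfFinitePresentation (E.f j))
    (hsurj : ∀ x : T, ∃ j, x ∈ Set.range (E.f j).base) : HTop.IsHCover E := by
  refine ⟨hfp, fun U => ?_⟩
  let F' : PreZeroHypercover.{0} (U.1 : Scheme.{u}) :=
    { I₀ := E.I₀, X := fun j => ((E.f j) ⁻¹ᵁ U.1 : Scheme.{u}), f := fun j => (E.f j) ∣_ U.1 }
  refine ⟨F', ⟨U.2, ‹Finite E.I₀›, fun j => ?_, ?_⟩,
    fun j => ⟨j, ((E.f j) ⁻¹ᵁ U.1).ι, (morphismRestrict_ι _ _).symm⟩⟩
  · haveI := hcl j
    exact U.2.preimage (E.f j)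
  · intro V _ _ γ
    obtain ⟨j, hj⟩ := hsurj ((γ ≫ U.1.ι).base (genericPt V))
    haveI := hcl j
    haveI : IsClosedImmersion ((E.f j) ∣_ U.1) := IsZariskiLocalAtTarget.restrict ‹_› U.1
    have hη : γ.base (genericPt V) ∈ Set.range ((E.f j) ∣_ U.1).base := by
      obtain ⟨z, hz⟩ := hj
      have hzU : z ∈ (E.f j) ⁻¹ᵁ U.1 := by
        show (E.f j).base z ∈ U.1
        rw [hz]; exact (γ.base (genericPt V)).2
      refine ⟨⟨z, hzU⟩, Subtype.ext ?_⟩
      exact (morphismRestrict_base_coe _ _ _).trans hz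
    obtain ⟨g', hg'⟩ := exists_factor_of_genericPt_mem ((E.f j) ∣_ U.1) V γ hη
    refine ⟨V, inferInstance, inferInstance, 𝟙 V, ⟨Function.injective_id, ?_⟩, j, g', ?_⟩
    · exact inferInstanceAs (IsLocalHom (RingHom.id V))
    · rw [hg', Spec.map_id, Category.id_comp]

/-- A family of morphisms over `S` whose underlying family of schemes is an h covering generates a covering
sieve of the big h site of `S`. -/
theorem ofArrows_mem_Jh (S : Scheme.{u}) {T : Over S} {J : Type} (Tj : J → Over S)
    (g : ∀ j, Tj j ⟶ T)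
    (hcov : HTop.IsHCover
      (⟨J, fun j => (Tj j).left, fun j => (g j).left⟩ : PreZeroHypercover.{0} T.left)) :
    Sieve.ofArrows Tj g ∈ HTop.Jh S T := by
  rw [GrothendieckTopology.mem_over_iff, Sieve.overEquiv_ofArrows]
  exact Precoverage.generate_mem_toGrothendieck
    ((HTop.presieve₀_mem_hPrecoverage_iff
      (⟨J, fun j => (Tj j).left, fun j => (g j).left⟩ : PreZeroHypercover.{0} T.left)).mpr hcov)

/-- Sections of an h sheaf are determined by their restrictions to the members of an h covering. -/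
theorem sep_of_isHCover (S : Scheme.{u}) (F : HTop.ShH S) {T : Over S} {J : Type}
    (Tj : J → Over S) (g : ∀ j, Tj j ⟶ T)
    (hcov : HTop.IsHCover
      (⟨J, fun j => (Tj j).left, fun j => (g j).left⟩ : PreZeroHypercover.{0} T.left))
    (a b : F.obj.obj (op T)) (h : ∀ j, F.obj.map (g j).op a = F.obj.map (g j).op b) : a = b := by
  have hmem := ofArrows_mem_Jh S Tj g hcov
  have hsh : Presieve.IsSheafFor F.obj (Sieve.ofArrows Tj g).arrows :=
    (isSheaf_iff_isSheaf_of_type _ _).mp F.cond _ hmem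
  refine hsh.isSeparatedFor.ext ?_
  intro T' φ hφ
  obtain ⟨T'', k, ψ, hψ, rfl⟩ := hφ
  obtain ⟨j⟩ := hψ
  rw [op_comp, FunctorToTypes.map_comp_apply, FunctorToTypes.map_comp_apply, h j]

end Groth.Agent.Lib.HCover
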