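import Mathlib

/-!
# Higher double point: monomial counting in `k[[x,y,t]]/(x^2 - y^n)`

Helper library for S19207: lengths of `A/I^m` for `A = k[[x,y,t]]/(x^2-y^n)` and
`I = (x^2, xy, y^2, xt, yt^2, t^4)`.
-/

set_option autoImplicit false
set_option maxHeartbeats 1000000

open MvPowerSeries

namespace Groth.Agent.Lib.HDPH1

universe u

noncomputable section

/-- exponent vector `(a,b,c)` -/
def ex (a b c : ℕ) : Fin 3 →₀ ℕ :=
  Finsupp.single 0 a + Finsupp.single 1 b + Finsupp.single 2 c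

@[simp] lemma ex_zero (a b c : ℕ) : ex a b c 0 = a := by
  simp [ex, Finsupp.single_apply]
@[simp] lemma ex_one (a b c : ℕ) : ex a b c 1 = b := by
  simp [ex, Finsupp.single_apply]
@[simp] lemma ex_two (a b c : ℕ) : ex a b c 2 = c := by
  simp [ex, Finsupp.single_apply]

lemma fin3_ext {μ ν : Fin 3 →₀ ℕ} (h0 : μ 0 = ν 0) (h1 : μ 1 = ν 1) (h2 : μ 2 = ν 2) :
    μ = ν := by
  ext i
  fin_cases i
  · exact h0
  · exact h1
  · exact h2

lemma eq_ex (ν : Fin 3 →₀ ℕ) : ν = ex (ν 0) (ν 1) (ν 2) :=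
  fin3_ext (by simp) (by simp) (by simp)

lemma ex_le_iff (a b c : ℕ) (ν : Fin 3 →₀ ℕ) :
    ex a b c ≤ ν ↔ a ≤ ν 0 ∧ b ≤ ν 1 ∧ c ≤ ν 2 := by
  constructor
  · intro h
    have h0 := Finsupp.le_def.1 h 0
    have h1 := Finsupp.le_def.1 h 1
    have h2 := Finsupp.le_def.1 h 2
    rw [ex_zero] at h0
    rw [ex_one] at h1
    rw [ex_two] at h2
    exact ⟨h0, h1, h2⟩
  · rintro ⟨h0, h1, h2⟩
    rw [Finsupp.le_def]
    intro i
    fin_cases i
    · show ex a b c 0 ≤ ν 0
      rw [ex_zero]; exact h0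
    · show ex a b c 1 ≤ ν 1
      rw [ex_one]; exact h1
    · show ex a b c 2 ≤ ν 2
      rw [ex_two]; exact h2

lemma ex_add (a b c a' b' c' : ℕ) : ex a b c + ex a' b' c' = ex (a + a') (b + b') (c + c') :=
  fin3_ext (by simp) (by simp) (by simp)

lemma ex_sub (a b c a' b' c' : ℕ) : ex a b c - ex a' b' c' = ex (a - a') (b - b') (c - c') :=
  fin3_ext (by simp) (by simp) (by simp)

lemma ex_inj {a b c a' b' c' : ℕ} (h : ex a b c = ex a' b' c') : a = a' ∧ b = b' ∧ c = c' := by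
  have h0 := DFunLike.congr_fun h 0
  have h1 := DFunLike.congr_fun h 1
  have h2 := DFunLike.congr_fun h 2
  rw [ex_zero, ex_zero] at h0
  rw [ex_one, ex_one] at h1
  rw [ex_two, ex_two] at h2
  exact ⟨h0, h1, h2⟩

variable {k : Type u} [Field k]

/-- the power series ring `k[[x,y,t]]` -/
abbrev PP (k : Type u) [Field k] := MvPowerSeries (Fin 3) k

lemma X_pow3 (a b c : ℕ) :
    (X 0 : PP k) ^ a * X 1 ^ b * X 2 ^ c = monomial (ex a b c) 1 := by
  rw [X_pow_eq, X_pow_eq, X_pow_eq, monomial_mul_monomial, monomial_mul_monomial, one_mul, one_mul]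
  rfl

/-- shift of a power series by an exponent -/
def shf (u : Fin 3 →₀ ℕ) (g : PP k) : PP k := fun ν => coeff (ν + u) g

lemma coeff_shf (u ν : Fin 3 →₀ ℕ) (g : PP k) : coeff ν (shf u g) = coeff (ν + u) g := rfl

lemma eq_monomial_mul_shf (u : Fin 3 →₀ ℕ) (g : PP k) (h : ∀ ν, coeff ν g ≠ 0 → u ≤ ν) :
    g = monomial u 1 * shf u g := by
  ext ν
  rw [coeff_monomial_mul]
  split_ifs with hu
  · rw [one_mul, coeff_shf, tsub_add_cancel_of_le hu]
  · by_contra hne
    exact hu (h ν hne)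

/-- a series all of whose monomials are divisible by one of finitely many monomials lies in the
ideal they generate -/
lemma mem_span_monomials (U : Finset (Fin 3 →₀ ℕ)) :
    ∀ g : PP k, (∀ ν, coeff ν g ≠ 0 → ∃ u ∈ U, u ≤ ν) →
      g ∈ Ideal.span ((fun u => (monomial u (1 : k) : PP k)) '' (U : Set (Fin 3 →₀ ℕ))) := by
  classical
  induction U using Finset.induction_on with
  | empty =>
    intro g h
    have : g = 0 := by
      ext ν
      by_contra hne
      obtain ⟨u, hu, _⟩ := h ν hne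
      exact absurd hu (Finset.notMem_empty u)
    rw [this]
    exact zero_mem _
  | insert u U hu ih =>
    intro g h
    obtain ⟨g₁, hg₁⟩ : ∃ g₁ : PP k, ∀ ν, coeff ν g₁ = if u ≤ ν then coeff ν g else 0 :=
      ⟨fun ν => if u ≤ ν then coeff ν g else 0, fun ν => rfl⟩
    obtain ⟨g₂, hg₂⟩ : ∃ g₂ : PP k, ∀ ν, coeff ν g₂ = if u ≤ ν then 0 else coeff ν g :=
      ⟨fun ν => if u ≤ ν then 0 else coeff ν g, fun ν => rfl⟩
    have e : g = g₁ + g₂ := by
      ext ν
      rw [map_add, hg₁, hg₂]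
      split_ifs <;> simp
    rw [e]
    apply add_mem
    · have e1 := eq_monomial_mul_shf u g₁ (fun ν hν => by
        by_contra hu'
        apply hν
        rw [hg₁, if_neg hu'])
      rw [e1]
      exact Ideal.mul_mem_right _ _ (Ideal.subset_span ⟨u, by simp, rfl⟩)
    · refine Ideal.span_mono (Set.image_mono ?_) (ih g₂ ?_)
      · simp
      · intro ν hν
        rw [hg₂] at hν
        split_ifs at hν with hu'
        · exact absurd rfl hν
        · obtain ⟨w, hw, hwν⟩ := h ν hν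
          rcases Finset.mem_insert.1 hw with rfl | hw
          · exact absurd hwν hu'
          · exact ⟨w, hw, hwν⟩

/-- coefficients of elements of a monomial ideal vanish off the multiples of the generators -/
lemma coeff_eq_zero_of_mem_span (U : Finset (Fin 3 →₀ ℕ)) (g : PP k)
    (hg : g ∈ Ideal.span ((fun u => (monomial u (1 : k) : PP k)) '' (U : Set (Fin 3 →₀ ℕ)))) :
    ∀ ν : Fin 3 →₀ ℕ, (∀ u ∈ U, ¬ u ≤ ν) → coeff ν g = 0 := by
  classical
  induction hg using Submodule.span_induction with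
  | mem x hx =>
    obtain ⟨u, hu, rfl⟩ := hx
    intro ν hν
    rw [coeff_monomial, if_neg]
    rintro rfl
    exact hν _ hu le_rfl
  | zero => intro ν _; exact map_zero _
  | add x y _ _ hx hy =>
    intro ν hν
    rw [map_add, hx ν hν, hy ν hν, add_zero]
  | smul a x _ hx =>
    intro ν hν
    rw [smul_eq_mul, coeff_mul]
    apply Finset.sum_eq_zero
    intro p hp
    rw [Finset.HasAntidiagonal.mem_antidiagonal] at hp
    rw [hx p.2 (fun u hu hle => hν u hu (hle.trans (by rw [← hp]; exact le_add_self))), mul_zero]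

/-- the finite monomial sum with coefficients `v` on the exponents in `T` -/
def gT (T : Finset (Fin 3 →₀ ℕ)) : (↥T → k) →ₗ[k] PP k where
  toFun v := ∑ τ : ↥T, monomial (τ : Fin 3 →₀ ℕ) (v τ)
  map_add' v w := by
    simp only [Pi.add_apply, map_add, Finset.sum_add_distrib]
  map_smul' c v := by
    simp only [Pi.smul_apply, RingHom.id_apply, Finset.smul_sum]
    refine Finset.sum_congr rfl fun τ _ => ?_
    exact map_smul _ _ _

lemma gT_apply (T : Finset (Fin 3 →₀ ℕ)) (v : ↥T → k) :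
    gT T v = ∑ τ : ↥T, monomial (τ : Fin 3 →₀ ℕ) (v τ) := rfl

lemma coeff_gT (T : Finset (Fin 3 →₀ ℕ)) (v : ↥T → k) (ν : Fin 3 →₀ ℕ) :
    coeff ν (gT T v) = if h : ν ∈ T then v ⟨ν, h⟩ else 0 := by
  classical
  rw [gT_apply, map_sum]
  by_cases h : ν ∈ T
  · rw [dif_pos h, Finset.sum_eq_single ⟨ν, h⟩]
    · exact coeff_monomial_same _ _
    · intro τ _ hτ
      rw [coeff_monomial_ne]
      intro e
      exact hτ (Subtype.ext e.symm)
    · intro h'
      exact absurd (Finset.mem_univ _) h'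
  · rw [dif_neg h]
    apply Finset.sum_eq_zero
    intro τ _
    rw [coeff_monomial_ne]
    intro e
    exact h (e ▸ τ.2)

/-! ### weights -/

/-- weight of an exponent: `x` has weight `n`, `y` weight `2`, `t` weight `1` -/
def wt (n : ℕ) (ν : Fin 3 →₀ ℕ) : ℕ := n * ν 0 + 2 * ν 1 + ν 2

lemma wt_add (n : ℕ) (μ ν : Fin 3 →₀ ℕ) : wt n (μ + ν) = wt n μ + wt n ν := by
  simp only [wt, Finsupp.add_apply]
  ring

lemma wt_ex (n a b c : ℕ) : wt n (ex a b c) = n * a + 2 * b + c := by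
  simp [wt]

/-- the ideal of series all of whose monomials have weight at least `w` -/
def Wt (k : Type u) [Field k] (n w : ℕ) : Ideal (PP k) where
  carrier := {g | ∀ ν, coeff ν g ≠ 0 → w ≤ wt n ν}
  add_mem' := by
    intro a b ha hb ν hν
    by_contra hlt
    apply hν
    have h1 : coeff ν a = 0 := by
      by_contra h
      exact hlt (ha ν h)
    have h2 : coeff ν b = 0 := by
      by_contra h
      exact hlt (hb ν h)
    rw [map_add, h1, h2, add_zero]
  zero_mem' := by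
    intro ν hν
    exact absurd (map_zero _) hν
  smul_mem' := by
    intro c g hg ν hν
    classical
    rw [smul_eq_mul, coeff_mul] at hν
    obtain ⟨p, hp, hne⟩ := Finset.exists_ne_zero_of_sum_ne_zero hν
    have h2 : coeff p.2 g ≠ 0 := right_ne_zero_of_mul hne
    have h3 := hg p.2 h2
    rw [Finset.HasAntidiagonal.mem_antidiagonal] at hp
    rw [← hp, wt_add]
    omega

lemma mem_Wt {n w : ℕ} {g : PP k} : g ∈ Wt k n w ↔ ∀ ν, coeff ν g ≠ 0 → w ≤ wt n ν := Iff.rfl

lemma Wt_mul_le (n a b : ℕ) : Wt k n a * Wt k n b ≤ Wt k n (a + b) := by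
  classical
  rw [Ideal.mul_le]
  intro r hr s hs ν hν
  rw [coeff_mul] at hν
  obtain ⟨p, hp, hne⟩ := Finset.exists_ne_zero_of_sum_ne_zero hν
  have h1 := hr p.1 (left_ne_zero_of_mul hne)
  have h2 := hs p.2 (right_ne_zero_of_mul hne)
  rw [Finset.HasAntidiagonal.mem_antidiagonal] at hp
  rw [← hp, wt_add]
  omega

lemma monomial_mem_Wt (n w : ℕ) (τ : Fin 3 →₀ ℕ) (h : w ≤ wt n τ) :
    (monomial τ (1 : k) : PP k) ∈ Wt k n w := by
  intro ν hν
  rw [eq_of_coeff_monomial_ne_zero hν]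
  exact h

/-- the ideal `(x^2, xy, y^2, xt, yt^2, t^4)` of `k[[x,y,t]]` -/
def I0 (k : Type u) [Field k] : Ideal (PP k) :=
  Ideal.span {(X 0 ^ 2 : PP k), X 0 * X 1, X 1 ^ 2, X 0 * X 2, X 1 * X 2 ^ 2, X 2 ^ 4}

/-- exponents of the generators of `I0` -/
def U0 : Finset (Fin 3 →₀ ℕ) := {ex 2 0 0, ex 1 1 0, ex 0 2 0, ex 1 0 1, ex 0 1 2, ex 0 0 4}

lemma mem_U0 {u : Fin 3 →₀ ℕ} : u ∈ U0 ↔ u = ex 2 0 0 ∨ u = ex 1 1 0 ∨ u = ex 0 2 0 ∨
    u = ex 1 0 1 ∨ u = ex 0 1 2 ∨ u = ex 0 0 4 := by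
  simp only [U0, Finset.mem_insert, Finset.mem_singleton]

lemma I0_eq : I0 k =
    Ideal.span ((fun u => (monomial u (1 : k) : PP k)) '' (U0 : Set (Fin 3 →₀ ℕ))) := by
  have h1 : (X 0 ^ 2 : PP k) = monomial (ex 2 0 0) 1 := by simpa using X_pow3 (k := k) 2 0 0
  have h2 : (X 0 * X 1 : PP k) = monomial (ex 1 1 0) 1 := by simpa using X_pow3 (k := k) 1 1 0
  have h3 : (X 1 ^ 2 : PP k) = monomial (ex 0 2 0) 1 := by simpa using X_pow3 (k := k) 0 2 0
  have h4 : (X 0 * X 2 : PP k) = monomial (ex 1 0 1) 1 := by simpa using X_pow3 (k := k) 1 0 1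
  have h5 : (X 1 * X 2 ^ 2 : PP k) = monomial (ex 0 1 2) 1 := by
    simpa using X_pow3 (k := k) 0 1 2
  have h6 : (X 2 ^ 4 : PP k) = monomial (ex 0 0 4) 1 := by simpa using X_pow3 (k := k) 0 0 4
  rw [I0, h1, h2, h3, h4, h5, h6]
  congr 1
  simp only [U0, Finset.coe_insert, Finset.coe_singleton, Set.image_insert_eq, Set.image_singleton]

lemma I0_le_Wt (n : ℕ) (hn : 3 ≤ n) : I0 k ≤ Wt k n 4 := by
  rw [I0_eq, Ideal.span_le]
  rintro _ ⟨u, hu, rfl⟩
  apply monomial_mem_Wt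
  rw [Finset.mem_coe, mem_U0] at hu
  rcases hu with rfl | rfl | rfl | rfl | rfl | rfl <;> rw [wt_ex] <;> omega

lemma I0_pow_le_Wt (n : ℕ) (hn : 3 ≤ n) (m : ℕ) : I0 k ^ m ≤ Wt k n (4 * m) := by
  induction m with
  | zero =>
    intro g _ ν _
    exact Nat.zero_le _
  | succ m ih =>
    rw [pow_succ]
    refine (Ideal.mul_mono ih (I0_le_Wt n hn)).trans ((Wt_mul_le n (4 * m) 4).trans_eq ?_)
    rw [show 4 * m + 4 = 4 * (m + 1) by ring]

end

end Groth.Agent.Lib.HDPH1
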