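import Groth.Agent.Lib.HDP1_helper1

/-!
# Higher double point, part 2: normal forms modulo `x^2 - y^n`, truncation, counting
-/

set_option autoImplicit false
set_option maxHeartbeats 1000000

open MvPowerSeries

namespace Groth.Agent.Lib.HDPH1

universe u

noncomputable section

variable {k : Type u} [Field k]

/-- the relation `x^2 - y^n` -/
abbrev f0 (k : Type u) [Field k] (n : ℕ) : PP k := X 0 ^ 2 - X 1 ^ n

lemma coeff_X0sq_mul (a b c : ℕ) (h : PP k) :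
    coeff (ex a b c) (X 0 ^ 2 * h) = if 2 ≤ a then coeff (ex (a - 2) b c) h else 0 := by
  have h1 : (X 0 ^ 2 : PP k) = monomial (ex 2 0 0) 1 := by simpa using X_pow3 (k := k) 2 0 0
  rw [h1, coeff_monomial_mul, one_mul]
  have e : (ex 2 0 0 ≤ ex a b c) ↔ 2 ≤ a := by
    rw [ex_le_iff, ex_zero, ex_one, ex_two]
    constructor
    · intro h; exact h.1
    · intro h; exact ⟨h, Nat.zero_le _, Nat.zero_le _⟩
  by_cases ha : 2 ≤ a
  · rw [if_pos (e.2 ha), if_pos ha, ex_sub, Nat.sub_zero, Nat.sub_zero]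
  · rw [if_neg (fun h' => ha (e.1 h')), if_neg ha]

lemma coeff_X1pow_mul (n a b c : ℕ) (h : PP k) :
    coeff (ex a b c) (X 1 ^ n * h) = if n ≤ b then coeff (ex a (b - n) c) h else 0 := by
  have h1 : (X 1 ^ n : PP k) = monomial (ex 0 n 0) 1 := by simpa using X_pow3 (k := k) 0 n 0
  rw [h1, coeff_monomial_mul, one_mul]
  have e : (ex 0 n 0 ≤ ex a b c) ↔ n ≤ b := by
    rw [ex_le_iff, ex_zero, ex_one, ex_two]
    constructor
    · intro h; exact h.2.1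
    · intro h; exact ⟨Nat.zero_le _, h, Nat.zero_le _⟩
  by_cases hb : n ≤ b
  · rw [if_pos (e.2 hb), if_pos hb, ex_sub, Nat.sub_zero, Nat.sub_zero]
  · rw [if_neg (fun h' => hb (e.1 h')), if_neg hb]

/-! ### the normal form functionals -/

/-- the coefficient of `x^ε y^b t^c` in the normal form modulo `x^2 - y^n` -/
def NF (k : Type u) [Field k] (n ε b c : ℕ) : PP k →ₗ[k] k :=
  ∑ s ∈ Finset.range (b / n + 1), coeff (ex (2 * s + ε) (b - n * s) c)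

lemma NF_apply (n ε b c : ℕ) (g : PP k) :
    NF k n ε b c g = ∑ s ∈ Finset.range (b / n + 1), coeff (ex (2 * s + ε) (b - n * s) c) g := by
  rw [NF, LinearMap.sum_apply]

lemma NF_Wt (n ε b c w : ℕ) (hw : n * ε + 2 * b + c < w) (g : PP k) (hg : g ∈ Wt k n w) :
    NF k n ε b c g = 0 := by
  rw [NF_apply]
  apply Finset.sum_eq_zero
  intro s hs
  by_contra hne
  have h1 := hg _ hne
  rw [wt_ex] at h1
  have hs' : s ≤ b / n := Nat.lt_succ_iff.1 (Finset.mem_range.1 hs)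
  have h2 : n * s ≤ b :=
    calc n * s ≤ n * (b / n) := Nat.mul_le_mul_left _ hs'
      _ ≤ b := Nat.mul_div_le b n
  have h3 : n * (2 * s + ε) = 2 * (n * s) + n * ε := by ring
  omega

lemma NF_monomial (n ε b c ε' b' c' : ℕ) (hε : ε < 2) (hε' : ε' < 2) :
    NF k n ε b c (monomial (ex ε' b' c') 1) = if ex ε' b' c' = ex ε b c then 1 else 0 := by
  classical
  rw [NF_apply, Finset.sum_eq_single 0]
  · rw [Nat.mul_zero, Nat.zero_add, Nat.mul_zero, Nat.sub_zero, coeff_monomial]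
    by_cases h : ex ε' b' c' = ex ε b c
    · rw [if_pos h, if_pos h.symm]
    · rw [if_neg h, if_neg (Ne.symm h)]
  · intro s _ hs
    rw [coeff_monomial, if_neg]
    intro h
    have := (ex_inj h).1
    omega
  · intro h
    exact absurd (Finset.mem_range.2 (Nat.succ_pos _)) h

lemma NF_monomial' (n : ℕ) (ν τ : Fin 3 →₀ ℕ) (hν : ν 0 < 2) (hτ : τ 0 < 2) :
    NF k n (ν 0) (ν 1) (ν 2) (monomial τ 1) = if τ = ν then 1 else 0 := by
  have := NF_monomial (k := k) n (ν 0) (ν 1) (ν 2) (τ 0) (τ 1) (τ 2) hν hτ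
  rwa [← eq_ex τ, ← eq_ex ν] at this

lemma NF_f0_mul (n ε b c : ℕ) (hn : 0 < n) (hε : ε < 2) (h : PP k) :
    NF k n ε b c (f0 k n * h) = 0 := by
  rw [f0, sub_mul, map_sub, sub_eq_zero, NF_apply, NF_apply]
  obtain ⟨q, hq⟩ : ∃ q, q = b / n := ⟨_, rfl⟩
  rw [← hq]
  have hnq : n * q ≤ b := by rw [hq]; exact Nat.mul_div_le b n
  have hlt : b - n * q < n := by
    have h1 := Nat.mod_lt b hn
    have h2 := Nat.div_add_mod b n
    rw [← hq] at h2
    omega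
  have hL : ∑ s ∈ Finset.range (q + 1), coeff (ex (2 * s + ε) (b - n * s) c) (X 0 ^ 2 * h) =
      ∑ s ∈ Finset.range q, coeff (ex (2 * s + ε) (b - n * (s + 1)) c) h := by
    rw [Finset.sum_range_succ', coeff_X0sq_mul, if_neg (by omega), add_zero]
    refine Finset.sum_congr rfl fun s _ => ?_
    rw [coeff_X0sq_mul, if_pos (by omega), show 2 * (s + 1) + ε - 2 = 2 * s + ε by omega]
  have hR : ∑ s ∈ Finset.range (q + 1), coeff (ex (2 * s + ε) (b - n * s) c) (X 1 ^ n * h) =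
      ∑ s ∈ Finset.range q, coeff (ex (2 * s + ε) (b - n * (s + 1)) c) h := by
    rw [Finset.sum_range_succ, coeff_X1pow_mul, if_neg (by omega), add_zero]
    refine Finset.sum_congr rfl fun s hs => ?_
    have hs' : s + 1 ≤ q := Finset.mem_range.1 hs
    have h1 : n * (s + 1) ≤ b := le_trans (Nat.mul_le_mul_left _ hs') hnq
    have e : n * (s + 1) = n * s + n := by ring
    rw [coeff_X1pow_mul, if_pos (by omega), show b - n * s - n = b - n * (s + 1) by omega]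
  rw [hL, hR]

/-! ### reduction modulo `x^2 - y^n` -/

lemma reduce_f0 (n j : ℕ) : ∀ g : PP k, ∃ r g' : PP k,
    (∀ ν : Fin 3 →₀ ℕ, 2 ≤ ν 0 → coeff ν r = 0) ∧
      g - r - X 1 ^ (n * j) * g' ∈ Ideal.span {f0 k n} := by
  induction j with
  | zero =>
    intro g
    exact ⟨0, g, fun ν _ => map_zero _, by simp⟩
  | succ j ih =>
    intro g
    obtain ⟨r, g', hr, hmem⟩ := ih g
    obtain ⟨lo, hlo⟩ : ∃ lo : PP k, ∀ ν, coeff ν lo = if ν 0 < 2 then coeff ν g' else 0 :=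
      ⟨fun ν => if ν 0 < 2 then coeff ν g' else 0, fun ν => rfl⟩
    have hdvd : (X 0 : PP k) ^ 2 ∣ g' - lo := by
      rw [X_pow_dvd_iff]
      intro ν hν
      rw [map_sub, hlo, if_pos hν, sub_self]
    obtain ⟨u, hu⟩ := hdvd
    refine ⟨r + X 1 ^ (n * j) * lo, u, ?_, ?_⟩
    · intro ν hν
      rw [map_add, hr ν hν, zero_add, X_pow_eq, coeff_monomial_mul]
      split_ifs with hle
      · rw [one_mul, hlo, if_neg]
        have e0 : (ν - Finsupp.single (1 : Fin 3) (n * j)) 0 = ν 0 := by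
          rw [Finsupp.tsub_apply, Finsupp.single_apply, if_neg (by decide), Nat.sub_zero]
        rw [e0]
        omega
      · rfl
    · have e : g - (r + X 1 ^ (n * j) * lo) - X 1 ^ (n * (j + 1)) * u =
          (g - r - X 1 ^ (n * j) * g') + X 1 ^ (n * j) * u * f0 k n := by
        rw [f0]
        linear_combination (X 1 ^ (n * j) : PP k) * hu
      rw [e]
      exact add_mem hmem (Ideal.mul_mem_left _ _ (Ideal.mem_span_singleton_self _))

/-! ### the staircase index sets -/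

/-- the triangle `u + v < j` -/
def tri (j : ℕ) : Finset (ℕ × ℕ) :=
  (Finset.range j ×ˢ Finset.range j).filter (fun p => p.1 + p.2 < j)

lemma mem_tri {j : ℕ} {p : ℕ × ℕ} : p ∈ tri j ↔ p.1 + p.2 < j := by
  simp only [tri, Finset.mem_filter, Finset.mem_product, Finset.mem_range]
  omega

lemma two_mul_card_tri (j : ℕ) : 2 * (tri j).card = j * (j + 1) := by
  induction j with
  | zero => simp [tri]
  | succ j ih =>
    have e : tri (j + 1) = tri j ∪ Finset.HasAntidiagonal.antidiagonal j := by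
      ext p
      simp only [Finset.mem_union, mem_tri, Finset.HasAntidiagonal.mem_antidiagonal]
      omega
    have hd : Disjoint (tri j) (Finset.HasAntidiagonal.antidiagonal j) := by
      rw [Finset.disjoint_left]
      intro p hp hq
      rw [mem_tri] at hp
      rw [Finset.HasAntidiagonal.mem_antidiagonal] at hq
      omega
    rw [e, Finset.card_union_of_disjoint hd, Finset.Nat.card_antidiagonal]
    have : (j + 1) * (j + 1 + 1) = j * (j + 1) + 2 * (j + 1) := by ring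
    omega

/-- parametrisation of the staircase exponents -/
def em (p : ℕ × ℕ × ℕ × ℕ × ℕ) : Fin 3 →₀ ℕ :=
  ex p.1 (2 * p.2.2.2.1 + p.2.1) (4 * p.2.2.2.2 + p.2.2.1)

/-- index set of the staircase -/
def Dset (j : ℕ) : Finset (ℕ × ℕ × ℕ × ℕ × ℕ) :=
  Finset.range 2 ×ˢ Finset.range 2 ×ˢ Finset.range 4 ×ˢ tri j

lemma mem_Dset {j : ℕ} {p : ℕ × ℕ × ℕ × ℕ × ℕ} :
    p ∈ Dset j ↔ p.1 < 2 ∧ p.2.1 < 2 ∧ p.2.2.1 < 4 ∧ p.2.2.2.1 + p.2.2.2.2 < j := by
  simp only [Dset, Finset.mem_product, Finset.mem_range, mem_tri]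

/-- the staircase `x^ε y^b t^c`, `ε ≤ 1`, `⌊b/2⌋ + ⌊c/4⌋ < j` -/
def Tset (j : ℕ) : Finset (Fin 3 →₀ ℕ) := (Dset j).image em

lemma mem_Tset {j : ℕ} {ν : Fin 3 →₀ ℕ} : ν ∈ Tset j ↔ ν 0 < 2 ∧ ν 1 / 2 + ν 2 / 4 < j := by
  rw [Tset, Finset.mem_image]
  constructor
  · rintro ⟨⟨ε, β, γ, u, v⟩, hp, rfl⟩
    rw [mem_Dset] at hp
    obtain ⟨h1, h2, h3, h4⟩ := hp
    simp only [em, ex_zero, ex_one, ex_two]
    simp only at h1 h2 h3 h4
    omega
  · rintro ⟨h0, h⟩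
    refine ⟨(ν 0, ν 1 % 2, ν 2 % 4, ν 1 / 2, ν 2 / 4), ?_, ?_⟩
    · rw [mem_Dset]
      exact ⟨h0, Nat.mod_lt _ (by norm_num), Nat.mod_lt _ (by norm_num), h⟩
    · simp only [em]
      rw [Nat.div_add_mod, Nat.div_add_mod]
      exact (eq_ex ν).symm

lemma card_Tset (j : ℕ) : (Tset j).card = 8 * (j * (j + 1)) := by
  rw [Tset, Finset.card_image_of_injOn]
  · rw [Dset, Finset.card_product, Finset.card_product, Finset.card_product, Finset.card_range,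
      Finset.card_range]
    have := two_mul_card_tri j
    omega
  · rintro ⟨ε, β, γ, u, v⟩ hp ⟨ε', β', γ', u', v'⟩ hp' h
    rw [Finset.mem_coe, mem_Dset] at hp hp'
    obtain ⟨h1, h2, h3, h4⟩ := hp
    obtain ⟨h1', h2', h3', h4'⟩ := hp'
    simp only at h1 h2 h3 h4 h1' h2' h3' h4'
    have h' : ex ε (2 * u + β) (4 * v + γ) = ex ε' (2 * u' + β') (4 * v' + γ') := h
    obtain ⟨e1, e2, e3⟩ := ex_inj h'
    have : ε = ε' ∧ β = β' ∧ γ = γ' ∧ u = u' ∧ v = v' := by omega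
    obtain ⟨rfl, rfl, rfl, rfl, rfl⟩ := this
    rfl

/-- exponents of the generators `y^(2i) t^(4(j-i))` of `(y^2,t^4)^j` -/
def Uj (j : ℕ) : Finset (Fin 3 →₀ ℕ) :=
  (Finset.range (j + 1)).image (fun i => ex 0 (2 * i) (4 * (j - i)))

lemma Y2_mem : (X 1 ^ 2 : PP k) ∈ I0 k := Ideal.subset_span (by simp)

lemma T4_mem : (X 2 ^ 4 : PP k) ∈ I0 k := Ideal.subset_span (by simp)

lemma span_Uj_le (j : ℕ) :
    Ideal.span ((fun u => (monomial u (1 : k) : PP k)) '' (Uj j : Set (Fin 3 →₀ ℕ))) ≤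
      I0 k ^ j := by
  rw [Ideal.span_le]
  rintro _ ⟨u, hu, rfl⟩
  rw [Finset.mem_coe, Uj, Finset.mem_image] at hu
  obtain ⟨i, hi, rfl⟩ := hu
  have hi' : i ≤ j := Nat.lt_succ_iff.1 (Finset.mem_range.1 hi)
  have e : (monomial (ex 0 (2 * i) (4 * (j - i))) (1 : k) : PP k) =
      (X 1 ^ 2) ^ i * (X 2 ^ 4) ^ (j - i) := by
    rw [← X_pow3, pow_zero, one_mul, pow_mul, pow_mul]
  show (monomial (ex 0 (2 * i) (4 * (j - i))) (1 : k) : PP k) ∈ I0 k ^ j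
  rw [e]
  have := Ideal.mul_mem_mul (Ideal.pow_mem_pow (Y2_mem (k := k)) i)
    (Ideal.pow_mem_pow (T4_mem (k := k)) (j - i))
  rwa [← pow_add, Nat.add_sub_cancel' hi'] at this

lemma trunc_mem (j : ℕ) (r : PP k) (hr : ∀ ν : Fin 3 →₀ ℕ, 2 ≤ ν 0 → coeff ν r = 0) :
    r - gT (Tset j) (fun τ => coeff (τ : Fin 3 →₀ ℕ) r) ∈ I0 k ^ j := by
  apply span_Uj_le
  apply mem_span_monomials
  intro ν hν
  rw [map_sub, coeff_gT] at hν
  by_cases hT : ν ∈ Tset j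
  · rw [dif_pos hT, sub_self] at hν
    exact absurd rfl hν
  · rw [dif_neg hT, sub_zero] at hν
    have h0 : ν 0 < 2 := by
      by_contra h
      exact hν (hr ν (not_lt.1 h))
    have h1 : j ≤ ν 1 / 2 + ν 2 / 4 := by
      by_contra h
      exact hT (mem_Tset.2 ⟨h0, not_le.1 h⟩)
    refine ⟨ex 0 (2 * min (ν 1 / 2) j) (4 * (j - min (ν 1 / 2) j)), ?_, ?_⟩
    · rw [Uj, Finset.mem_image]
      exact ⟨min (ν 1 / 2) j, Finset.mem_range.2 (by omega), rfl⟩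
    · rw [ex_le_iff]
      refine ⟨Nat.zero_le _, ?_, ?_⟩ <;> omega

/-! ### membership in `I0^m + (f0)`: lower and upper bounds -/

lemma NF_K (n m : ℕ) (hn : 3 ≤ n) (ε b c : ℕ) (hε : ε < 2) (hw : n * ε + 2 * b + c < 4 * m)
    (g : PP k) (hg : g ∈ I0 k ^ m ⊔ Ideal.span {f0 k n}) : NF k n ε b c g = 0 := by
  obtain ⟨a, ha, y, hy, rfl⟩ := Submodule.mem_sup.1 hg
  obtain ⟨h, rfl⟩ := Ideal.mem_span_singleton'.1 hy
  rw [map_add, NF_Wt n ε b c (4 * m) hw a (I0_pow_le_Wt n hn m ha), mul_comm,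
    NF_f0_mul n ε b c (by omega) hε, add_zero]

lemma lb_general (n m j : ℕ) (hn : 3 ≤ n) (hj : j + n ≤ m) (v : ↥(Tset j) → k)
    (hv : gT (Tset j) v ∈ I0 k ^ m ⊔ Ideal.span {f0 k n}) : v = 0 := by
  classical
  funext τ
  obtain ⟨ν, hν⟩ := τ
  have hν' := mem_Tset.1 hν
  have h0 : NF k n (ν 0) (ν 1) (ν 2) (gT (Tset j) v) = 0 := by
    apply NF_K n m hn _ _ _ hν'.1 ?_ _ hv
    have : n * ν 0 ≤ n :=
      calc n * ν 0 ≤ n * 1 := Nat.mul_le_mul_left _ (by omega)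
        _ = n := Nat.mul_one n
    omega
  rw [gT_apply, map_sum] at h0
  have h1 : ∀ τ' : ↥(Tset j), NF k n (ν 0) (ν 1) (ν 2)
      (monomial (τ' : Fin 3 →₀ ℕ) (v τ')) = if (τ' : Fin 3 →₀ ℕ) = ν then v τ' else 0 := by
    intro τ'
    have e : (monomial (τ' : Fin 3 →₀ ℕ) (v τ') : PP k) =
        v τ' • monomial (τ' : Fin 3 →₀ ℕ) 1 := by
      rw [← map_smul, smul_eq_mul, mul_one]
    rw [e, map_smul, NF_monomial' n ν τ' hν'.1 (mem_Tset.1 τ'.2).1, smul_eq_mul, mul_ite,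
      mul_one, mul_zero]
  rw [Finset.sum_congr rfl (fun τ' _ => h1 τ'), Finset.sum_eq_single ⟨ν, hν⟩] at h0
  · simpa using h0
  · intro τ' _ hτ'
    rw [if_neg]
    intro e
    exact hτ' (Subtype.ext e)
  · intro h
    exact absurd (Finset.mem_univ _) h

lemma ub_general (n m : ℕ) (hn : 3 ≤ n) (g : PP k) :
    ∃ v : ↥(Tset m) → k, g - gT (Tset m) v ∈ I0 k ^ m ⊔ Ideal.span {f0 k n} := by
  obtain ⟨r, g', hr, hmem⟩ := reduce_f0 (k := k) n m g
  refine ⟨fun τ => coeff (τ : Fin 3 →₀ ℕ) r, ?_⟩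
  have h2 : (X 1 : PP k) ^ (n * m) * g' ∈ I0 k ^ m := by
    have e0 : n * m = 2 * m + (n - 2) * m := by
      rw [← Nat.add_mul, Nat.add_sub_cancel' (by omega : 2 ≤ n)]
    have e : (X 1 : PP k) ^ (n * m) = (X 1 ^ 2) ^ m * X 1 ^ ((n - 2) * m) := by
      rw [← pow_mul, ← pow_add, ← e0]
    rw [e, mul_assoc]
    exact Ideal.mul_mem_right _ _ (Ideal.pow_mem_pow (Y2_mem (k := k)) m)
  have h3 := trunc_mem (k := k) m r hr
  have e : g - gT (Tset m) (fun τ => coeff (τ : Fin 3 →₀ ℕ) r) =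
      (X 1 ^ (n * m) * g' + (r - gT (Tset m) (fun τ => coeff (τ : Fin 3 →₀ ℕ) r))) +
        (g - r - X 1 ^ (n * m) * g') := by ring
  rw [e]
  exact Submodule.add_mem_sup (add_mem h2 h3) hmem

/-! ### the case `m = 1` -/

/-- the seven standard monomials `1, x, y, t, t^2, t^3, yt` as triples -/
def S1 : Finset (ℕ × ℕ × ℕ) :=
  (Finset.range 2 ×ˢ Finset.range 2 ×ˢ Finset.range 4).filter
    (fun p => ¬ (1 ≤ p.1 ∧ 1 ≤ p.2.1) ∧ ¬ (1 ≤ p.1 ∧ 1 ≤ p.2.2) ∧ ¬ (1 ≤ p.2.1 ∧ 2 ≤ p.2.2))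

/-- the seven standard monomials -/
def T1 : Finset (Fin 3 →₀ ℕ) := S1.image (fun p => ex p.1 p.2.1 p.2.2)

lemma card_S1 : S1.card = 7 := by decide

lemma card_T1 : T1.card = 7 := by
  rw [T1, Finset.card_image_of_injective, card_S1]
  rintro ⟨a, b, c⟩ ⟨a', b', c'⟩ h
  have h' : ex a b c = ex a' b' c' := h
  obtain ⟨rfl, rfl, rfl⟩ := ex_inj h'
  rfl

lemma mem_T1 {ν : Fin 3 →₀ ℕ} : ν ∈ T1 ↔ ν 0 < 2 ∧ ν 1 < 2 ∧ ν 2 < 4 ∧
    ¬ (1 ≤ ν 0 ∧ 1 ≤ ν 1) ∧ ¬ (1 ≤ ν 0 ∧ 1 ≤ ν 2) ∧ ¬ (1 ≤ ν 1 ∧ 2 ≤ ν 2) := by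
  rw [T1, Finset.mem_image]
  constructor
  · rintro ⟨⟨a, b, c⟩, hp, rfl⟩
    simp only [S1, Finset.mem_filter, Finset.mem_product, Finset.mem_range] at hp
    simp only [ex_zero, ex_one, ex_two]
    tauto
  · intro h
    refine ⟨(ν 0, ν 1, ν 2), ?_, (eq_ex ν).symm⟩
    simp only [S1, Finset.mem_filter, Finset.mem_product, Finset.mem_range]
    tauto

lemma lb_one (n : ℕ) (hn : 3 ≤ n) (v : ↥T1 → k)
    (hv : gT T1 v ∈ I0 k ⊔ Ideal.span {f0 k n}) : v = 0 := by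
  funext τ
  obtain ⟨ν, hν⟩ := τ
  have hν' := mem_T1.1 hν
  have h0 : coeff ν (gT T1 v) = v ⟨ν, hν⟩ := by rw [coeff_gT, dif_pos hν]
  show v ⟨ν, hν⟩ = 0
  rw [← h0]
  obtain ⟨a, ha, y, hy, e⟩ := Submodule.mem_sup.1 hv
  obtain ⟨h, rfl⟩ := Ideal.mem_span_singleton'.1 hy
  rw [← e, map_add]
  have ha' : coeff ν a = 0 := by
    rw [I0_eq] at ha
    apply coeff_eq_zero_of_mem_span U0 a ha
    intro u hu
    rw [mem_U0] at hu
    rcases hu with rfl | rfl | rfl | rfl | rfl | rfl <;> rw [ex_le_iff] <;> omega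
  have hh : coeff ν (h * f0 k n) = 0 := by
    rw [eq_ex ν, f0, mul_comm, sub_mul, map_sub, coeff_X0sq_mul, coeff_X1pow_mul,
      if_neg (by omega), if_neg (by omega), sub_zero]
  rw [ha', hh, add_zero]

lemma ub_one (n : ℕ) (g : PP k) :
    ∃ v : ↥T1 → k, g - gT T1 v ∈ I0 k ⊔ Ideal.span {f0 k n} := by
  refine ⟨fun τ => coeff (τ : Fin 3 →₀ ℕ) g, Submodule.mem_sup_left ?_⟩
  rw [I0_eq]
  apply mem_span_monomials
  intro ν hν
  rw [map_sub, coeff_gT] at hν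
  by_cases hT : ν ∈ T1
  · rw [dif_pos hT, sub_self] at hν
    exact absurd rfl hν
  · rw [mem_T1] at hT
    by_cases c1 : 2 ≤ ν 0
    · exact ⟨ex 2 0 0, mem_U0.2 (by tauto), by rw [ex_le_iff]; omega⟩
    by_cases c2 : 2 ≤ ν 1
    · exact ⟨ex 0 2 0, mem_U0.2 (by tauto), by rw [ex_le_iff]; omega⟩
    by_cases c3 : 4 ≤ ν 2
    · exact ⟨ex 0 0 4, mem_U0.2 (by tauto), by rw [ex_le_iff]; omega⟩
    by_cases c4 : 1 ≤ ν 0 ∧ 1 ≤ ν 1
    · exact ⟨ex 1 1 0, mem_U0.2 (by tauto), by rw [ex_le_iff]; omega⟩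
    by_cases c5 : 1 ≤ ν 0 ∧ 1 ≤ ν 2
    · exact ⟨ex 1 0 1, mem_U0.2 (by tauto), by rw [ex_le_iff]; omega⟩
    by_cases c6 : 1 ≤ ν 1 ∧ 2 ≤ ν 2
    · exact ⟨ex 0 1 2, mem_U0.2 (by tauto), by rw [ex_le_iff]; omega⟩
    exact absurd ⟨by omega, by omega, by omega, c4, c5, c6⟩ hT

end

end Groth.Agent.Lib.HDPH1
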