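import Groth.Agent.Lib.HDP2_helper1

/-!
# Higher double point, part 3: lengths of `A/I^m` and the multiplicity
-/

set_option autoImplicit false
set_option maxHeartbeats 1000000
set_option synthInstance.maxHeartbeats 400000

open MvPowerSeries Filter

namespace Groth.Agent.Lib.HDPH1

universe u

noncomputable section

lemma length_residue_eq_one {A B : Type*} [CommRing A] [CommRing B] [IsLocalRing A]
    [IsLocalRing B] [Algebra A B] [IsLocalHom (algebraMap A B)]
    (h : ∀ b : B, ∃ a : A, b - algebraMap A B a ∈ IsLocalRing.maximalIdeal B) :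
    Module.length (IsLocalRing.ResidueField A) (IsLocalRing.ResidueField B) = 1 := by
  have hs : Function.Surjective
      (Algebra.linearMap (IsLocalRing.ResidueField A) (IsLocalRing.ResidueField B)) := by
    intro y
    obtain ⟨b, rfl⟩ := IsLocalRing.residue_surjective y
    obtain ⟨a, ha⟩ := h b
    refine ⟨IsLocalRing.residue A a, ?_⟩
    rw [Algebra.linearMap_apply, IsLocalRing.ResidueField.algebraMap_residue]
    symm
    rw [← sub_eq_zero, ← map_sub, IsLocalRing.residue_eq_zero_iff]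
    exact ha
  have h1 := Module.length_le_of_surjective _ hs
  rw [Module.length_eq_finrank (IsLocalRing.ResidueField A) (IsLocalRing.ResidueField A),
    Module.finrank_self] at h1
  have h2 : 0 < Module.length (IsLocalRing.ResidueField A) (IsLocalRing.ResidueField B) :=
    Module.length_pos
  apply le_antisymm
  · simpa using h1
  · exact Order.one_le_iff_pos.2 h2

variable (k : Type u) [Field k] (n : ℕ)

/-- the ring `k[[x,y,t]]/(x^2 - y^n)` -/
abbrev QQ := PP k ⧸ Ideal.span {f0 k n}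

/-- the projection `k[[x,y,t]] → A/J` as a `k`-linear map -/
def piM (J : Ideal (QQ k n)) : PP k →ₗ[k] (QQ k n ⧸ J) :=
  ((Ideal.Quotient.mkₐ k J).comp (Ideal.Quotient.mkₐ k (Ideal.span {f0 k n}))).toLinearMap

lemma piM_apply (J : Ideal (QQ k n)) (g : PP k) :
    piM k n J g = Ideal.Quotient.mk J (Ideal.Quotient.mk (Ideal.span {f0 k n}) g) := rfl

lemma piM_surjective (J : Ideal (QQ k n)) : Function.Surjective (piM k n J) := by
  intro x
  obtain ⟨q, rfl⟩ := Ideal.Quotient.mk_surjective x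
  obtain ⟨g, rfl⟩ := Ideal.Quotient.mk_surjective q
  exact ⟨g, rfl⟩

lemma piM_eq_zero_iff (J0 : Ideal (PP k)) (g : PP k) :
    piM k n (Ideal.map (Ideal.Quotient.mk (Ideal.span {f0 k n})) J0) g = 0 ↔
      g ∈ J0 ⊔ Ideal.span {f0 k n} := by
  rw [piM_apply, Ideal.Quotient.eq_zero_iff_mem, Ideal.mem_quotient_iff_mem_sup]

lemma length_fun (T : Finset (Fin 3 →₀ ℕ)) : Module.length k (↥T → k) = (T.card : ℕ∞) := by
  rw [Module.length_eq_finrank k (↥T → k), Module.finrank_fintype_fun_eq_card, Fintype.card_coe]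

lemma card_le_length (J0 : Ideal (PP k)) (T : Finset (Fin 3 →₀ ℕ))
    (h : ∀ v : ↥T → k, gT T v ∈ J0 ⊔ Ideal.span {f0 k n} → v = 0) :
    (T.card : ℕ∞) ≤
      Module.length k (QQ k n ⧸ Ideal.map (Ideal.Quotient.mk (Ideal.span {f0 k n})) J0) := by
  rw [← length_fun k T]
  apply Module.length_le_of_injective ((piM k n _).comp (gT T))
  rw [injective_iff_map_eq_zero]
  intro v hv
  rw [LinearMap.comp_apply, piM_eq_zero_iff] at hv
  exact h v hv

lemma length_le_card (J0 : Ideal (PP k)) (T : Finset (Fin 3 →₀ ℕ))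
    (h : ∀ g : PP k, ∃ v : ↥T → k, g - gT T v ∈ J0 ⊔ Ideal.span {f0 k n}) :
    Module.length k (QQ k n ⧸ Ideal.map (Ideal.Quotient.mk (Ideal.span {f0 k n})) J0) ≤
      (T.card : ℕ∞) := by
  rw [← length_fun k T]
  apply Module.length_le_of_surjective ((piM k n _).comp (gT T))
  intro x
  obtain ⟨g, rfl⟩ := piM_surjective k n _ x
  obtain ⟨v, hv⟩ := h g
  refine ⟨v, ?_⟩
  rw [LinearMap.comp_apply]
  symm
  rw [← sub_eq_zero, ← map_sub, piM_eq_zero_iff]
  exact hv

lemma isLocalRing_QQ (hn : 0 < n) : IsLocalRing (QQ k n) := by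
  have hne : Ideal.span {f0 k n} ≠ ⊤ := by
    intro htop
    rw [Ideal.span_singleton_eq_top] at htop
    have h1 := MvPowerSeries.isUnit_constantCoeff _ htop
    have h2 : constantCoeff (f0 k n) = 0 := by
      rw [f0, map_sub, map_pow, map_pow, constantCoeff_X, constantCoeff_X,
        zero_pow (by norm_num), zero_pow (by omega), sub_zero]
    rw [h2] at h1
    exact not_isUnit_zero h1
  haveI : Nontrivial (QQ k n) := Ideal.Quotient.nontrivial_iff.2 hne
  exact IsLocalRing.of_surjective' (Ideal.Quotient.mk _) Ideal.Quotient.mk_surjective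

lemma residue_cond [IsLocalRing (QQ k n)] (q : QQ k n) :
    ∃ a : k, q - algebraMap k (QQ k n) a ∈ IsLocalRing.maximalIdeal (QQ k n) := by
  obtain ⟨g, rfl⟩ := Ideal.Quotient.mk_surjective q
  refine ⟨constantCoeff g, ?_⟩
  haveI : IsLocalHom (Ideal.Quotient.mk (Ideal.span {f0 k n})) :=
    IsLocalHom.of_surjective _ Ideal.Quotient.mk_surjective
  have e : Ideal.Quotient.mk (Ideal.span {f0 k n}) g -
      algebraMap k (QQ k n) (constantCoeff g) =
      Ideal.Quotient.mk (Ideal.span {f0 k n}) (g - C (constantCoeff g)) := by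
    rw [map_sub]
    rfl
  rw [e]
  apply map_nonunit
  rw [IsLocalRing.mem_maximalIdeal, mem_nonunits_iff, MvPowerSeries.isUnit_iff_constantCoeff,
    map_sub, constantCoeff_C, sub_self]
  exact not_isUnit_zero

lemma length_QQ_eq (hn : 0 < n) (J : Ideal (QQ k n)) :
    Module.length (QQ k n) (QQ k n ⧸ J) = Module.length k (QQ k n ⧸ J) := by
  haveI := isLocalRing_QQ k n hn
  have h := IsLocalRing.length_restrictScalars k (QQ k n) (QQ k n ⧸ J)
  rw [length_residue_eq_one (residue_cond k n), mul_one] at h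
  exact h.symm

/-- `length(A/I) = 7` and `e(I) = 16` for `A = k[[x,y,t]]/(x^2-y^n)`,
`I = (x^2, xy, y^2, xt, yt^2, t^4)`. -/
theorem main19207 (hn : 3 ≤ n) (I : Ideal (QQ k n))
    (hI : I = Ideal.map (Ideal.Quotient.mk (Ideal.span {f0 k n})) (I0 k)) :
    Module.length (QQ k n) (QQ k n ⧸ I) = 7 ∧
      Tendsto (fun m : ℕ => (2 : ℝ) *
        ((Module.length (QQ k n) (QQ k n ⧸ I ^ m)).toNat : ℝ) / (m : ℝ) ^ 2)
        atTop (nhds 16) := by
  have hn0 : 0 < n := by omega
  subst hI
  constructor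
  · rw [length_QQ_eq k n hn0]
    apply le_antisymm
    · have := length_le_card k n (I0 k) T1 (ub_one n)
      simpa [card_T1] using this
    · have := card_le_length k n (I0 k) T1 (lb_one n hn)
      simpa [card_T1] using this
  · have hpow : ∀ m : ℕ, (Ideal.map (Ideal.Quotient.mk (Ideal.span {f0 k n})) (I0 k)) ^ m =
        Ideal.map (Ideal.Quotient.mk (Ideal.span {f0 k n})) (I0 k ^ m) := by
      intro m
      rw [Ideal.map_pow]
    have hU : ∀ m : ℕ, Module.length (QQ k n)
        (QQ k n ⧸ (Ideal.map (Ideal.Quotient.mk (Ideal.span {f0 k n})) (I0 k)) ^ m) ≤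
          ((8 * (m * (m + 1)) : ℕ) : ℕ∞) := by
      intro m
      rw [length_QQ_eq k n hn0, hpow m, ← card_Tset m]
      exact length_le_card k n (I0 k ^ m) (Tset m) (ub_general n m hn)
    have hL : ∀ m : ℕ, n ≤ m → ((8 * ((m - n) * (m - n + 1)) : ℕ) : ℕ∞) ≤
        Module.length (QQ k n)
          (QQ k n ⧸ (Ideal.map (Ideal.Quotient.mk (Ideal.span {f0 k n})) (I0 k)) ^ m) := by
      intro m hm
      rw [length_QQ_eq k n hn0, hpow m, ← card_Tset (m - n)]
      exact card_le_length k n (I0 k ^ m) (Tset (m - n))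
        (lb_general n m (m - n) hn (by omega))
    have hLnat : ∀ m : ℕ, (Module.length (QQ k n)
        (QQ k n ⧸ (Ideal.map (Ideal.Quotient.mk (Ideal.span {f0 k n})) (I0 k)) ^ m)).toNat ≤
          8 * (m * (m + 1)) := by
      intro m
      have := ENat.toNat_le_toNat (hU m) (ENat.coe_ne_top _)
      rwa [ENat.toNat_coe] at this
    have hLnat' : ∀ m : ℕ, n ≤ m → 8 * ((m - n) * (m - n + 1)) ≤ (Module.length (QQ k n)
        (QQ k n ⧸ (Ideal.map (Ideal.Quotient.mk (Ideal.span {f0 k n})) (I0 k)) ^ m)).toNat := by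
      intro m hm
      have hne : Module.length (QQ k n)
          (QQ k n ⧸ (Ideal.map (Ideal.Quotient.mk (Ideal.span {f0 k n})) (I0 k)) ^ m) ≠ ⊤ :=
        ne_top_of_le_ne_top (ENat.coe_ne_top _) (hU m)
      have := ENat.toNat_le_toNat (hL m hm) hne
      rwa [ENat.toNat_coe] at this
    have h1 : Tendsto (fun m : ℕ => (16 : ℝ) - (32 * (n : ℝ)) / (m : ℝ)) atTop (nhds 16) := by
      have := (tendsto_const_div_atTop_nhds_zero_nat (32 * (n : ℝ))).const_sub (16 : ℝ)
      simpa using this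
    have h2 : Tendsto (fun m : ℕ => (16 : ℝ) + (16 : ℝ) / (m : ℝ)) atTop (nhds 16) := by
      have := (tendsto_const_div_atTop_nhds_zero_nat (16 : ℝ)).const_add (16 : ℝ)
      simpa using this
    refine tendsto_of_tendsto_of_tendsto_of_le_of_le' h1 h2 ?_ ?_
    · filter_upwards [Filter.eventually_ge_atTop (max n 1)] with m hm
      have hm1 : n ≤ m := le_trans (le_max_left _ _) hm
      have hm2 : 1 ≤ m := le_trans (le_max_right _ _) hm
      have hM : (0 : ℝ) < (m : ℝ) := by exact_mod_cast hm2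
      have hM0 : (m : ℝ) ≠ 0 := ne_of_gt hM
      have h3 := hLnat' m hm1
      obtain ⟨d, hd⟩ := Nat.exists_eq_add_of_le hm1
      have hd' : m - n = d := by omega
      rw [hd'] at h3
      have h4 : (8 * ((d : ℝ) * ((d : ℝ) + 1))) ≤ ((Module.length (QQ k n)
          (QQ k n ⧸ (Ideal.map (Ideal.Quotient.mk (Ideal.span {f0 k n})) (I0 k)) ^ m)).toNat :
            ℝ) := by
        exact_mod_cast h3
      have hmd : (m : ℝ) = (n : ℝ) + (d : ℝ) := by
        rw [hd]
        push_cast
        ring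
      rw [le_div_iff₀ (by positivity)]
      have e : ((16 : ℝ) - 32 * (n : ℝ) / (m : ℝ)) * (m : ℝ) ^ 2 =
          16 * (m : ℝ) ^ 2 - 32 * (n : ℝ) * (m : ℝ) := by
        field_simp
      rw [e, hmd]
      nlinarith [h4, sq_nonneg (n : ℝ), (Nat.cast_nonneg d : (0 : ℝ) ≤ d),
        (Nat.cast_nonneg n : (0 : ℝ) ≤ n)]
    · filter_upwards [Filter.eventually_ge_atTop 1] with m hm
      have hM : (0 : ℝ) < (m : ℝ) := by exact_mod_cast hm
      have hM0 : (m : ℝ) ≠ 0 := ne_of_gt hM
      have h3 := hLnat m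
      have h4 : ((Module.length (QQ k n)
          (QQ k n ⧸ (Ideal.map (Ideal.Quotient.mk (Ideal.span {f0 k n})) (I0 k)) ^ m)).toNat :
            ℝ) ≤ 8 * ((m : ℝ) * ((m : ℝ) + 1)) := by
        exact_mod_cast h3
      rw [div_le_iff₀ (by positivity)]
      have e : ((16 : ℝ) + 16 / (m : ℝ)) * (m : ℝ) ^ 2 = 16 * (m : ℝ) ^ 2 + 16 * (m : ℝ) := by
        field_simp
      rw [e]
      nlinarith [h4]

end

end Groth.Agent.Lib.HDPH1
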