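import Mathlib
import Groth.Prelude.Def_W4c2invhilbsl2HJ

/-! Hirzebruch–Jung continued fraction bookkeeping (helper1). -/

set_option autoImplicit false
universe u

namespace Groth.Agent.Lib.HJ_helper1
open W4c2invhilbsl2 HJFrac

theorem hjVal_cons (b : ℤ) (l : List ℤ) : hjVal (b :: l) = (b : ℚ) - (hjVal l)⁻¹ := by
  rw [hjVal]

theorem hjVal_nil : hjVal [] = 0 := by rw [hjVal]

theorem hjP_ss (cl : List ℤ) (i : ℕ) : hjP cl (i + 2) = cl.getD i 0 * hjP cl (i + 1) - hjP cl i := by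
  rw [hjP]

theorem hjQ_ss (cl : List ℤ) (i : ℕ) : hjQ cl (i + 2) = cl.getD i 0 * hjQ cl (i + 1) - hjQ cl i := by
  rw [hjQ]

theorem hjP_zero (cl : List ℤ) : hjP cl 0 = 0 := by rw [hjP]
theorem hjP_one (cl : List ℤ) : hjP cl 1 = 1 := by rw [hjP]
theorem hjQ_zero (cl : List ℤ) : hjQ cl 0 = -1 := by rw [hjQ]
theorem hjQ_one (cl : List ℤ) : hjQ cl 1 = 0 := by rw [hjQ]

theorem hjVal_gt_one : ∀ (cl : List ℤ), cl ≠ [] → (∀ x ∈ cl, (2 : ℤ) ≤ x) → (1 : ℚ) < hjVal cl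
  | [], h, _ => absurd rfl h
  | [b], _, hc => by
      have hb : (2 : ℤ) ≤ b := hc b (by simp)
      have h2 : (2 : ℚ) ≤ b := by exact_mod_cast hb
      rw [hjVal_cons, hjVal_nil, inv_zero, sub_zero]
      linarith
  | b :: b' :: l, _, hc => by
      have hb : (2 : ℤ) ≤ b := hc b (by simp)
      have h2 : (2 : ℚ) ≤ b := by exact_mod_cast hb
      have ih := hjVal_gt_one (b' :: l) (by simp) (fun x hx => hc x (List.mem_cons_of_mem _ hx))
      have : (hjVal (b' :: l))⁻¹ < 1 := inv_lt_one_of_one_lt₀ ih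
      rw [hjVal_cons]
      linarith

/-- `T_i = t P_i − b Q_i`. -/
def T (b t : ℤ) (cl : List ℤ) (i : ℕ) : ℤ := t * hjP cl i - b * hjQ cl i

theorem T_zero (b t : ℤ) (cl : List ℤ) : T b t cl 0 = b := by
  simp [T, hjP_zero, hjQ_zero]

theorem T_one (b t : ℤ) (cl : List ℤ) : T b t cl 1 = t := by
  simp [T, hjP_one, hjQ_one]

theorem T_ss (b t : ℤ) (cl : List ℤ) (i : ℕ) :
    T b t cl (i + 2) = cl.getD i 0 * T b t cl (i + 1) - T b t cl i := by
  simp only [T, hjP_ss, hjQ_ss]; ring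

theorem det_PQ (cl : List ℤ) : ∀ i, hjP cl i * hjQ cl (i + 1) - hjP cl (i + 1) * hjQ cl i = 1 := by
  intro i
  induction i with
  | zero => simp [hjP_zero, hjP_one, hjQ_zero, hjQ_one]
  | succ i ih => rw [hjP_ss, hjQ_ss]; linear_combination ih

theorem P_lt (cl : List ℤ) (hc : ∀ x ∈ cl, (2 : ℤ) ≤ x) :
    ∀ i, i ≤ cl.length → 0 ≤ hjP cl i ∧ hjP cl i < hjP cl (i + 1) := by
  intro i
  induction i with
  | zero => intro _; simp [hjP_zero, hjP_one]
  | succ i ih =>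
    intro hi
    obtain ⟨h0, h1⟩ := ih (by omega)
    have hget : cl.getD i 0 = cl[i] := List.getD_eq_getElem _ _ (by omega)
    have h2 : (2 : ℤ) ≤ cl[i] := hc _ (List.getElem_mem _)
    rw [hjP_ss, hget]
    constructor
    · omega
    · nlinarith [mul_le_mul_of_nonneg_right h2 (le_trans h0 h1.le)]

theorem T_aux (b t : ℤ) (cl : List ℤ) (hc : ∀ x ∈ cl, (2 : ℤ) ≤ x) (ht : 0 < t)
    (hv : hjVal cl = (b : ℚ) / (t : ℚ)) :
    ∀ i, i < cl.length → 0 < T b t cl (i + 1) ∧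
      (T b t cl i : ℚ) / (T b t cl (i + 1) : ℚ) = hjVal (cl.drop i) := by
  intro i
  induction i with
  | zero =>
    intro _
    rw [T_zero, T_one, List.drop_zero]
    exact ⟨ht, hv.symm⟩
  | succ i ih =>
    intro hi
    obtain ⟨hpos, hval⟩ := ih (by omega)
    have hdrop : cl.drop i = cl[i] :: cl.drop (i + 1) := List.drop_eq_getElem_cons (by omega)
    have hne : cl.drop (i + 1) ≠ [] := by
      intro h
      rw [List.drop_eq_nil_iff] at h
      omega
    have hgt : (1 : ℚ) < hjVal (cl.drop (i + 1)) :=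
      hjVal_gt_one _ hne (fun x hx => hc x (List.mem_of_mem_drop hx))
    rw [hdrop, hjVal_cons] at hval
    have hget : cl.getD i 0 = cl[i] := List.getD_eq_getElem _ _ (by omega)
    have hrec := T_ss b t cl i
    rw [hget] at hrec
    obtain ⟨h, hh⟩ : ∃ h, h = hjVal (cl.drop (i + 1)) := ⟨_, rfl⟩
    rw [← hh] at hval hgt ⊢
    have hT1 : (T b t cl (i + 1) : ℚ) ≠ 0 := by exact_mod_cast hpos.ne'
    have hinv : h⁻¹ = (T b t cl (i + 2) : ℚ) / (T b t cl (i + 1) : ℚ) := by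
      have h1 : h⁻¹ = (cl[i] : ℚ) - (T b t cl i : ℚ) / (T b t cl (i + 1) : ℚ) := by linarith
      rw [h1, hrec]; push_cast; field_simp
    have hh2 : h = (T b t cl (i + 1) : ℚ) / (T b t cl (i + 2) : ℚ) := by
      rw [← inv_inv h, hinv, inv_div]
    refine ⟨?_, hh2.symm⟩
    by_contra hcon
    push Not at hcon
    have h3 : (T b t cl (i + 2) : ℚ) ≤ 0 := by exact_mod_cast hcon
    have h4 : (0 : ℚ) ≤ (T b t cl (i + 1) : ℚ) := by exact_mod_cast hpos.le
    have : h ≤ 0 := by rw [hh2]; exact div_nonpos_of_nonneg_of_nonpos h4 h3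
    linarith

theorem length_pos (b t : ℤ) (cl : List ℤ) (hb : 0 < b) (ht : 0 < t)
    (hv : hjVal cl = (b : ℚ) / (t : ℚ)) : 0 < cl.length := by
  rcases cl with _ | ⟨x, l⟩
  · exfalso
    rw [hjVal_nil, eq_comm, div_eq_zero_iff] at hv
    rcases hv with h | h
    · have : b = 0 := by exact_mod_cast h
      omega
    · have : t = 0 := by exact_mod_cast h
      omega
  · simp

theorem T_pos (b t : ℤ) (cl : List ℤ) (hc : ∀ x ∈ cl, (2 : ℤ) ≤ x) (hb : 0 < b) (ht : 0 < t)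
    (hv : hjVal cl = (b : ℚ) / (t : ℚ)) : ∀ i, i ≤ cl.length → 0 < T b t cl i := by
  intro i hi
  rcases i with _ | i
  · rw [T_zero]; exact hb
  · exact (T_aux b t cl hc ht hv i (by omega)).1

theorem T_last (b t : ℤ) (cl : List ℤ) (hc : ∀ x ∈ cl, (2 : ℤ) ≤ x) (hb : 0 < b) (ht : 0 < t)
    (hv : hjVal cl = (b : ℚ) / (t : ℚ)) : T b t cl (cl.length + 1) = 0 := by
  have hlen := length_pos b t cl hb ht hv
  obtain ⟨k, hk⟩ : ∃ k, cl.length = k + 1 := ⟨cl.length - 1, by omega⟩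
  obtain ⟨hpos, hval⟩ := T_aux b t cl hc ht hv k (by omega)
  have hdrop : cl.drop k = cl[k] :: cl.drop (k + 1) := List.drop_eq_getElem_cons (by omega)
  have hnil : cl.drop (k + 1) = [] := by rw [← hk]; exact List.drop_length
  rw [hdrop, hnil, hjVal_cons, hjVal_nil, inv_zero, sub_zero] at hval
  have hget : cl.getD k 0 = cl[k] := List.getD_eq_getElem _ _ (by omega)
  have hT1 : (T b t cl (k + 1) : ℚ) ≠ 0 := by exact_mod_cast hpos.ne'
  rw [div_eq_iff hT1] at hval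
  have hval' : T b t cl k = cl[k] * T b t cl (k + 1) := by exact_mod_cast hval
  rw [hk, T_ss, hget, hval']; ring

theorem T_lt (b t : ℤ) (cl : List ℤ) (hc : ∀ x ∈ cl, (2 : ℤ) ≤ x) (hb : 0 < b) (ht : 0 < t)
    (hv : hjVal cl = (b : ℚ) / (t : ℚ)) :
    ∀ i, i ≤ cl.length → T b t cl (i + 1) < T b t cl i := by
  intro i hi
  rcases Nat.lt_or_ge i cl.length with h | h
  · obtain ⟨hpos, hval⟩ := T_aux b t cl hc ht hv i h
    have hne : cl.drop i ≠ [] := by
      intro h'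
      rw [List.drop_eq_nil_iff] at h'
      omega
    have hgt : (1 : ℚ) < hjVal (cl.drop i) :=
      hjVal_gt_one _ hne (fun x hx => hc x (List.mem_of_mem_drop hx))
    rw [← hval] at hgt
    have hpos' : (0 : ℚ) < (T b t cl (i + 1) : ℚ) := by exact_mod_cast hpos
    rw [one_lt_div hpos'] at hgt
    exact_mod_cast hgt
  · have : i = cl.length := le_antisymm hi h
    subst this
    rw [T_last b t cl hc hb ht hv]
    exact T_pos b t cl hc hb ht hv _ le_rfl

theorem T_anti (b t : ℤ) (cl : List ℤ) (hc : ∀ x ∈ cl, (2 : ℤ) ≤ x) (hb : 0 < b) (ht : 0 < t)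
    (hv : hjVal cl = (b : ℚ) / (t : ℚ)) :
    ∀ i j, i ≤ j → j ≤ cl.length + 1 → T b t cl j ≤ T b t cl i := by
  intro i j hij
  induction j, hij using Nat.le_induction with
  | base => intro _; exact le_rfl
  | succ j hj ih =>
    intro hj'
    exact le_trans (T_lt b t cl hc hb ht hv j (by omega)).le (ih (by omega))

theorem P_last (b t : ℤ) (cl : List ℤ) (hc : ∀ x ∈ cl, (2 : ℤ) ≤ x) (hb : 0 < b) (ht : 0 < t)
    (hv : hjVal cl = (b : ℚ) / (t : ℚ)) (hcop : IsCoprime b t) :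
    hjP cl (cl.length + 1) = b ∧ hjQ cl (cl.length + 1) = t ∧ T b t cl cl.length = 1 := by
  have h0 := T_last b t cl hc hb ht hv
  have hdet := det_PQ cl cl.length
  have hPpos : 0 < hjP cl (cl.length + 1) := by
    obtain ⟨h1, h2⟩ := P_lt cl hc cl.length le_rfl
    omega
  have heq : t * hjP cl (cl.length + 1) = b * hjQ cl (cl.length + 1) := by
    unfold T at h0; linarith
  have hcop2 : IsCoprime (hjP cl (cl.length + 1)) (hjQ cl (cl.length + 1)) :=
    ⟨-hjQ cl cl.length, hjP cl cl.length, by linear_combination hdet⟩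
  have hd1 : b ∣ hjP cl (cl.length + 1) :=
    hcop.dvd_of_dvd_mul_left ⟨hjQ cl (cl.length + 1), heq⟩
  have hd2 : hjP cl (cl.length + 1) ∣ b := by
    apply hcop2.dvd_of_dvd_mul_right
    exact ⟨t, by linear_combination -heq⟩
  have hP : hjP cl (cl.length + 1) = b := Int.dvd_antisymm hPpos.le hb.le hd2 hd1
  have hQ : hjQ cl (cl.length + 1) = t := by
    rw [hP] at heq
    have : b * t = b * hjQ cl (cl.length + 1) := by linarith
    exact (mul_left_cancel₀ hb.ne' this).symm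
  refine ⟨hP, hQ, ?_⟩
  unfold T
  rw [← hP, ← hQ]
  linear_combination hdet

/-- Lattice lemma: lower bound. -/
theorem lattice_lower (b t P' P T' T₀ x ρ : ℤ) (hb : 0 < b) (hP' : 0 ≤ P') (hPP : P' < P)
    (hT : 0 < T₀) (hTT : T₀ < T') (hdet : P * T' - P' * T₀ = b)
    (hTm : b ∣ T₀ - t * P) (hTm' : b ∣ T' - t * P') (hρm : b ∣ ρ - t * x)
    (hx0 : 0 < x) (hxP : x < P) (hρ : 0 ≤ ρ) : T' ≤ ρ := by
  obtain ⟨u, hu⟩ : b ∣ ρ * P - x * T₀ := by
    have : ρ * P - x * T₀ = (ρ - t * x) * P - x * (T₀ - t * P) := by ring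
    rw [this]
    exact dvd_sub (hρm.mul_right _) (hTm.mul_left _)
  obtain ⟨v, hv⟩ : b ∣ T' * x - P' * ρ := by
    have : T' * x - P' * ρ = x * (T' - t * P') - P' * (ρ - t * x) := by ring
    rw [this]
    exact dvd_sub (hTm'.mul_left _) (hρm.mul_left _)
  have hx : x = u * P' + v * P := by
    apply mul_left_cancel₀ hb.ne'
    linear_combination P' * hu + P * hv - x * hdet
  have hρ' : ρ = u * T' + v * T₀ := by
    apply mul_left_cancel₀ hb.ne'
    linear_combination T' * hu + T₀ * hv - ρ * hdet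
  have hP0 : 0 ≤ P := le_trans hP' hPP.le
  rcases le_or_gt 1 v with hv1 | hv0
  · exfalso
    rcases le_or_gt 0 u with hu0 | hu0
    · nlinarith [mul_nonneg hu0 hP', mul_le_mul_of_nonneg_right hv1 hP0]
    · have hvw : -u + 1 ≤ v := by
        by_contra hcon
        push Not at hcon
        have h1 : v ≤ -u := by omega
        nlinarith [mul_le_mul_of_nonneg_right h1 hT.le,
          mul_lt_mul_of_pos_left hTT (by omega : 0 < -u)]
      nlinarith [mul_le_mul_of_nonneg_right hvw hP0,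
        mul_nonneg (by omega : 0 ≤ -u) (by omega : 0 ≤ P - P')]
  · have huz : -v + 1 ≤ u := by
      by_contra hcon
      push Not at hcon
      have h1 : u ≤ -v := by omega
      nlinarith [mul_le_mul_of_nonneg_right h1 hP',
        mul_le_mul_of_nonneg_left hPP.le (by omega : 0 ≤ -v)]
    nlinarith [mul_le_mul_of_nonneg_right huz (by omega : 0 ≤ T'),
      mul_nonneg (by omega : 0 ≤ -v) (by omega : 0 ≤ T' - T₀)]

/-- Lattice lemma: upper bound from the lower bound at `P - x`. -/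
theorem lattice_upper (b t P T' T₀ x ρ ρ' : ℤ) (hb : 0 < b)
    (hT : 0 < T₀) (hTT : T₀ < T') (hTm : b ∣ T₀ - t * P)
    (hρm : b ∣ ρ - t * x) (hρm' : b ∣ ρ' - t * (P - x))
    (hρ0 : 0 ≤ ρ) (hρb : ρ < b) (hρ'b : ρ' < b) (hlow : T' ≤ ρ') :
    ρ ≤ b + T₀ - T' := by
  obtain ⟨j, hj⟩ : b ∣ ρ' + ρ - T₀ := by
    have : ρ' + ρ - T₀ = (ρ' - t * (P - x)) + (ρ - t * x) - (T₀ - t * P) := by ring
    rw [this]
    exact dvd_sub (dvd_add hρm' hρm) hTm
  have hj0 : 0 < j := by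
    by_contra hcon
    push Not at hcon
    nlinarith [mul_nonneg hb.le (neg_nonneg.mpr hcon)]
  have hj2 : j < 2 := by
    by_contra hcon
    push Not at hcon
    nlinarith [mul_le_mul_of_nonneg_left hcon hb.le]
  have hj1 : j = 1 := by omega
  subst hj1
  linarith


/-! ### The specific setup -/

structure Setup (p q m : ℕ) : Prop where
  g_pos : 0 < gcdK p q m
  t_pos : 0 < tT p q m
  t_lt_b : tT p q m < bB p q m
  cop : Nat.Coprime (bB p q m) (tT p q m)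
  hD : q - p = gcdK p q m * bB p q m
  hpm : m * p + gcdK p q m * tT p q m = (q - p) * (alpha p q m + 1)

theorem setup (p q m : ℕ) (hp : 0 < p) (hpq : p < q) (hcop : Nat.Coprime p q) (hm : 0 < m)
    (hnt : ¬ (q - p ∣ m)) : Setup p q m := by
  have hDpos : 0 < q - p := by omega
  have hg_pos : 0 < gcdK p q m := Nat.gcd_pos_of_pos_left _ hm
  have hgD : gcdK p q m ∣ q - p := Nat.gcd_dvd_right _ _
  have hgm : gcdK p q m ∣ m := Nat.gcd_dvd_left _ _
  have hD : q - p = gcdK p q m * bB p q m := (Nat.mul_div_cancel' hgD).symm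
  have hβlt : m * p % (q - p) < q - p := Nat.mod_lt _ hDpos
  have hgβ : gcdK p q m ∣ m * p % (q - p) := (Nat.dvd_mod_iff hgD).mpr (hgm.mul_right _)
  have hcopD : Nat.Coprime (q - p) p := (Nat.coprime_sub_self_left hpq.le).mpr hcop.symm
  have hβ0 : m * p % (q - p) ≠ 0 := by
    intro h
    have : q - p ∣ m * p := Nat.dvd_of_mod_eq_zero h
    exact hnt (hcopD.dvd_of_dvd_mul_right this)
  have hgt : gcdK p q m * tT p q m = q - p - m * p % (q - p) :=
    Nat.mul_div_cancel' (Nat.dvd_sub hgD hgβ)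
  have ht_pos : 0 < tT p q m := by
    apply Nat.pos_of_ne_zero
    intro h
    rw [h, mul_zero] at hgt
    omega
  have htb : tT p q m < bB p q m := by
    have : gcdK p q m * tT p q m < gcdK p q m * bB p q m := by
      rw [hgt, ← hD]; omega
    exact Nat.lt_of_mul_lt_mul_left this
  have hcop' : Nat.Coprime (bB p q m) (tT p q m) := by
    have h1 : Nat.gcd (gcdK p q m * bB p q m) (gcdK p q m * tT p q m)
        = gcdK p q m * Nat.gcd (bB p q m) (tT p q m) := Nat.gcd_mul_left _ _ _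
    have h2 : Nat.gcd (q - p) (q - p - m * p % (q - p)) = gcdK p q m := by
      rw [Nat.gcd_self_sub_right hβlt.le, Nat.gcd_comm, ← Nat.gcd_rec, Nat.gcd_comm,
        hcopD.symm.gcd_mul_right_cancel m]
      rfl
    rw [← hD, hgt, h2] at h1
    have h3 : gcdK p q m * Nat.gcd (bB p q m) (tT p q m) = gcdK p q m * 1 := by
      rw [mul_one]; exact h1.symm
    exact Nat.eq_of_mul_eq_mul_left hg_pos h3
  refine ⟨hg_pos, ht_pos, htb, hcop', hD, ?_⟩
  have h1 := Nat.div_add_mod (m * p) (q - p)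
  show m * p + gcdK p q m * tT p q m = (q - p) * (m * p / (q - p) + 1)
  rw [hgt, Nat.mul_add, mul_one]
  omega

/-- `T` specialised. -/
noncomputable def Ti (p q m : ℕ) (cl : List ℤ) (i : ℕ) : ℤ :=
  T (bB p q m : ℤ) (tT p q m : ℤ) cl i

section
variable {p q m : ℕ} (hp : 0 < p) (hpq : p < q) (hcop : Nat.Coprime p q) (hm : 0 < m)
  (hnt : ¬ (q - p ∣ m)) {cl : List ℤ} (hc : IsHJDigits p q m cl)
include hp hpq hcop hm hnt

theorem hDz : (q : ℤ) - p = (gcdK p q m : ℤ) * (bB p q m : ℤ) := by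
  have S := setup p q m hp hpq hcop hm hnt
  have := congrArg (Nat.cast : ℕ → ℤ) S.hD
  push_cast [Nat.cast_sub hpq.le] at this
  exact this

theorem hpmz : (m : ℤ) * p + (gcdK p q m : ℤ) * (tT p q m : ℤ)
    = ((q : ℤ) - p) * ((alpha p q m : ℤ) + 1) := by
  have S := setup p q m hp hpq hcop hm hnt
  have := congrArg (Nat.cast : ℕ → ℤ) S.hpm
  push_cast [Nat.cast_sub hpq.le] at this
  exact this

theorem hgz : (0 : ℤ) < (gcdK p q m : ℤ) := by
  have S := setup p q m hp hpq hcop hm hnt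
  exact_mod_cast S.g_pos

theorem htz : (0 : ℤ) < (tT p q m : ℤ) := by
  have S := setup p q m hp hpq hcop hm hnt
  exact_mod_cast S.t_pos

theorem htbz : (tT p q m : ℤ) < (bB p q m : ℤ) := by
  have S := setup p q m hp hpq hcop hm hnt
  exact_mod_cast S.t_lt_b

theorem hbz : (0 : ℤ) < (bB p q m : ℤ) :=
  lt_trans (htz hp hpq hcop hm hnt) (htbz hp hpq hcop hm hnt)

theorem nN_eq (cl : List ℤ) (i : ℕ) : nN p q m cl i = (gcdK p q m : ℤ) * Ti p q m cl i := by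
  have h1 := hDz hp hpq hcop hm hnt
  have h2 := hpmz hp hpq hcop hm hnt
  unfold nN eE lL Ti T
  push_cast
  linear_combination (-(hjP cl i)) * h2 - (hjQ cl i) * h1

include hc

theorem hvz : hjVal cl = (((bB p q m : ℕ) : ℤ) : ℚ) / (((tT p q m : ℕ) : ℤ) : ℚ) := by
  rw [hc.2]; push_cast; rfl

theorem Ti_pos (i : ℕ) (hi : i ≤ cl.length) : 0 < Ti p q m cl i :=
  T_pos _ _ cl hc.1 (hbz hp hpq hcop hm hnt) (htz hp hpq hcop hm hnt)
    (hvz hp hpq hcop hm hnt hc) i hi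

theorem Ti_lt (i : ℕ) (hi : i ≤ cl.length) : Ti p q m cl (i + 1) < Ti p q m cl i :=
  T_lt _ _ cl hc.1 (hbz hp hpq hcop hm hnt) (htz hp hpq hcop hm hnt)
    (hvz hp hpq hcop hm hnt hc) i hi

theorem Ti_anti (i j : ℕ) (hij : i ≤ j) (hj : j ≤ cl.length + 1) :
    Ti p q m cl j ≤ Ti p q m cl i :=
  T_anti _ _ cl hc.1 (hbz hp hpq hcop hm hnt) (htz hp hpq hcop hm hnt)
    (hvz hp hpq hcop hm hnt hc) i j hij hj

theorem Ti_last : Ti p q m cl (cl.length + 1) = 0 :=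
  T_last _ _ cl hc.1 (hbz hp hpq hcop hm hnt) (htz hp hpq hcop hm hnt)
    (hvz hp hpq hcop hm hnt hc)

theorem Ti_len : Ti p q m cl cl.length = 1 := by
  have S := setup p q m hp hpq hcop hm hnt
  exact (P_last _ _ cl hc.1 (hbz hp hpq hcop hm hnt) (htz hp hpq hcop hm hnt)
    (hvz hp hpq hcop hm hnt hc) (Nat.isCoprime_iff_coprime.mpr S.cop)).2.2

theorem Ti_lt_b (i : ℕ) (hi : 1 ≤ i) (hir : i ≤ cl.length + 1) :
    Ti p q m cl i < (bB p q m : ℤ) := by
  have h1 := Ti_anti hp hpq hcop hm hnt hc 1 i hi hir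
  have h2 : Ti p q m cl 1 = (tT p q m : ℤ) := T_one _ _ _
  have h3 := htbz hp hpq hcop hm hnt
  omega

/-- S15735. -/
theorem main35 :
    (∀ i : ℕ, i ≤ cl.length + 1 →
      nN p q m cl i = (gcdK p q m : ℤ) * ((tT p q m : ℤ) * hjP cl i - (bB p q m : ℤ) * hjQ cl i)) ∧
    (∀ i : ℕ, 2 ≤ i → i ≤ cl.length + 1 →
      nN p q m cl i = cl.getD (i - 2) 0 * nN p q m cl (i - 1) - nN p q m cl (i - 2)) ∧
    (∀ i : ℕ, i ≤ cl.length → nN p q m cl (i + 1) < nN p q m cl i) ∧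
    nN p q m cl 0 = (q : ℤ) - p ∧ nN p q m cl cl.length = gcdK p q m ∧
    nN p q m cl (cl.length + 1) = 0 := by
  have hN := nN_eq hp hpq hcop hm hnt cl
  refine ⟨fun i _ => hN i, ?_, ?_, ?_, ?_, ?_⟩
  · intro i hi _
    obtain ⟨j, rfl⟩ : ∃ j, i = j + 2 := ⟨i - 2, by omega⟩
    have h1 : j + 2 - 2 = j := by omega
    have h2 : j + 2 - 1 = j + 1 := by omega
    rw [h1, h2, hN, hN, hN]
    unfold Ti
    rw [T_ss]; ring
  · intro i hi
    rw [hN, hN]
    exact mul_lt_mul_of_pos_left (Ti_lt hp hpq hcop hm hnt hc i hi) (hgz hp hpq hcop hm hnt)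
  · rw [hN, hDz hp hpq hcop hm hnt]
    unfold Ti
    rw [T_zero]
  · rw [hN, Ti_len hp hpq hcop hm hnt hc, mul_one]
  · rw [hN, Ti_last hp hpq hcop hm hnt hc, mul_zero]

/-- Core estimate. -/
theorem core (j : ℕ) (hj : 1 ≤ j) (hjr : j + 1 ≤ cl.length) (x : ℤ) (hx0 : 0 < x)
    (hx : x < hjP cl (j + 1)) :
    Ti p q m cl j ≤ ((tT p q m : ℤ) * x) % (bB p q m : ℤ) ∧
    ((tT p q m : ℤ) * x) % (bB p q m : ℤ) ≤ (bB p q m : ℤ) + Ti p q m cl (j + 1) - Ti p q m cl j := by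
  have hb := hbz hp hpq hcop hm hnt
  obtain ⟨b, hbdef⟩ : ∃ b : ℤ, b = (bB p q m : ℤ) := ⟨_, rfl⟩
  obtain ⟨t, htdef⟩ : ∃ t : ℤ, t = (tT p q m : ℤ) := ⟨_, rfl⟩
  have hTi : ∀ i, Ti p q m cl i = T b t cl i := by intro i; rw [hbdef, htdef]; rfl
  rw [← hbdef] at hb ⊢
  rw [← htdef]
  rw [hTi, hTi]
  have hdet : hjP cl (j + 1) * T b t cl j - hjP cl j * T b t cl (j + 1) = b := by
    unfold T; linear_combination b * det_PQ cl j
  have hPj := P_lt cl hc.1 j (by omega)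
  have hTpos : 0 < T b t cl (j + 1) := by
    rw [← hTi]; exact Ti_pos hp hpq hcop hm hnt hc (j + 1) hjr
  have hTlt : T b t cl (j + 1) < T b t cl j := by
    rw [← hTi, ← hTi]; exact Ti_lt hp hpq hcop hm hnt hc j (by omega)
  have hdvd : ∀ i, b ∣ T b t cl i - t * hjP cl i := fun i => ⟨-hjQ cl i, by unfold T; ring⟩
  have hρ : ∀ y : ℤ, b ∣ (t * y) % b - t * y := fun y =>
    ⟨-(t * y / b), by rw [Int.emod_def]; ring⟩
  have hlow : ∀ y, 0 < y → y < hjP cl (j + 1) → T b t cl j ≤ (t * y) % b := fun y hy0 hy =>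
    lattice_lower b t (hjP cl j) (hjP cl (j + 1)) (T b t cl j) (T b t cl (j + 1)) y ((t * y) % b)
      hb hPj.1 hPj.2 hTpos hTlt hdet (hdvd _) (hdvd _) (hρ y) hy0 hy (Int.emod_nonneg _ hb.ne')
  refine ⟨hlow x hx0 hx, ?_⟩
  exact lattice_upper b t (hjP cl (j + 1)) (T b t cl j) (T b t cl (j + 1)) x ((t * x) % b)
    ((t * (hjP cl (j + 1) - x)) % b) hb hTpos hTlt (hdvd _) (hρ x) (hρ _)
    (Int.emod_nonneg _ hb.ne') (Int.emod_lt_of_pos _ hb) (Int.emod_lt_of_pos _ hb)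
    (hlow _ (by omega) (by omega))

/-- S15734. -/
theorem main34 :
    (∀ i : ℕ, 1 ≤ i → i ≤ cl.length →
      Int.emod ((tT p q m : ℤ) * hjP cl i) (bB p q m : ℤ) = nN p q m cl i / (gcdK p q m : ℤ)) ∧
    (∀ i : ℕ, 1 < i → i ≤ cl.length → ∀ x : ℤ, 0 < x → x < hjP cl i →
      nN p q m cl (i - 1) / (gcdK p q m : ℤ) ≤ Int.emod ((tT p q m : ℤ) * x) (bB p q m : ℤ) ∧
      Int.emod ((tT p q m : ℤ) * x) (bB p q m : ℤ) ≤
        (bB p q m : ℤ) + nN p q m cl i / (gcdK p q m : ℤ) - nN p q m cl (i - 1) / (gcdK p q m : ℤ)) := by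
  have hN := nN_eq hp hpq hcop hm hnt cl
  have hg := hgz hp hpq hcop hm hnt
  constructor
  · intro i hi hir
    rw [hN, Int.mul_ediv_cancel_left _ hg.ne']
    show ((tT p q m : ℤ) * hjP cl i) % (bB p q m : ℤ) = _
    have h1 : (tT p q m : ℤ) * hjP cl i = Ti p q m cl i + (bB p q m : ℤ) * hjQ cl i := by
      unfold Ti T; ring
    rw [h1, Int.add_mul_emod_self_left]
    exact Int.emod_eq_of_lt (Ti_pos hp hpq hcop hm hnt hc i hir).le
      (Ti_lt_b hp hpq hcop hm hnt hc i hi (by omega))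
  · intro i hi hir x hx0 hx
    obtain ⟨j, rfl⟩ : ∃ j, i = j + 1 := ⟨i - 1, by omega⟩
    have h1 : j + 1 - 1 = j := by omega
    rw [h1, hN, hN, Int.mul_ediv_cancel_left _ hg.ne', Int.mul_ediv_cancel_left _ hg.ne']
    exact core hp hpq hcop hm hnt hc j (by omega) hir x hx0 hx

/-- the key bound for S15733. -/
theorem emod_bound (j : ℕ) (hj : 1 ≤ j) (hjr : j + 1 ≤ cl.length) (x : ℤ) (hx0 : 0 < x)
    (hx : x < hjP cl (j + 1)) :
    ((p : ℤ) * m * x) % ((q : ℤ) - p) + nN p q m cl (j + 1) < (q : ℤ) - p := by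
  have hN := nN_eq hp hpq hcop hm hnt cl
  have hg := hgz hp hpq hcop hm hnt
  have hb := hbz hp hpq hcop hm hnt
  have hD := hDz hp hpq hcop hm hnt
  have hpm := hpmz hp hpq hcop hm hnt
  obtain ⟨hlow, -⟩ := core hp hpq hcop hm hnt hc j hj hjr x hx0 hx
  have hTlt := Ti_lt hp hpq hcop hm hnt hc j (by omega)
  have hTpos := Ti_pos hp hpq hcop hm hnt hc (j + 1) hjr
  have hρk := Int.emod_def ((tT p q m : ℤ) * x) (bB p q m : ℤ)
  have hρb := Int.emod_lt_of_pos ((tT p q m : ℤ) * x) hb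
  obtain ⟨ρ, hρ⟩ : ∃ ρ : ℤ, ρ = ((tT p q m : ℤ) * x) % (bB p q m : ℤ) := ⟨_, rfl⟩
  obtain ⟨k, hk⟩ : ∃ k : ℤ, k = ((tT p q m : ℤ) * x) / (bB p q m : ℤ) := ⟨_, rfl⟩
  rw [← hρ] at hlow hρb hρk
  rw [← hk] at hρk
  have h1 : (p : ℤ) * m * x = (gcdK p q m : ℤ) * ((bB p q m : ℤ) - ρ)
      + ((q : ℤ) - p) * (((alpha p q m : ℤ) + 1) * x - k - 1) := by
    rw [hρk]
    linear_combination x * hpm + (1 + k) * hD
  have e1 : ((p : ℤ) * m * x) % ((q : ℤ) - p) = (gcdK p q m : ℤ) * ((bB p q m : ℤ) - ρ) := by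
    rw [h1, Int.add_mul_emod_self_left]
    apply Int.emod_eq_of_lt
    · exact mul_nonneg hg.le (by omega)
    · rw [hD]
      exact mul_lt_mul_of_pos_left (by omega) hg
  rw [e1, hN, hD]
  have : (gcdK p q m : ℤ) * ((bB p q m : ℤ) - ρ) + (gcdK p q m : ℤ) * Ti p q m cl (j + 1)
      = (gcdK p q m : ℤ) * ((bB p q m : ℤ) - ρ + Ti p q m cl (j + 1)) := by ring
  rw [this]
  exact mul_lt_mul_of_pos_left (by omega) hg

/-- S15733. -/
theorem main33 (i : ℕ) (hi : 1 < i) (hir : i ≤ cl.length)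
    (x : ℤ) (hx0 : 0 < x) (hx : x < hjP cl i) :
    Int.emod ((p : ℤ) * m * x + nN p q m cl i) ((q : ℤ) - p)
      = nN p q m cl i + Int.emod ((p : ℤ) * m * x) ((q : ℤ) - p) := by
  obtain ⟨j, rfl⟩ : ∃ j, i = j + 1 := ⟨i - 1, by omega⟩
  have hbd := emod_bound hp hpq hcop hm hnt hc j (by omega) hir x hx0 hx
  have hN := nN_eq hp hpq hcop hm hnt cl
  have hg := hgz hp hpq hcop hm hnt
  have hTpos := Ti_pos hp hpq hcop hm hnt hc (j + 1) hir
  have hn0 : 0 ≤ nN p q m cl (j + 1) := by rw [hN]; exact mul_nonneg hg.le hTpos.le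
  have hDpos : (0 : ℤ) < (q : ℤ) - p := by
    have : (p : ℤ) < q := by exact_mod_cast hpq
    omega
  show ((p : ℤ) * m * x + nN p q m cl (j + 1)) % ((q : ℤ) - p)
      = nN p q m cl (j + 1) + ((p : ℤ) * m * x) % ((q : ℤ) - p)
  rw [← Int.emod_add_emod, Int.emod_eq_of_lt (add_nonneg (Int.emod_nonneg _ hDpos.ne') hn0) hbd,
    add_comm]

end

end Groth.Agent.Lib.HJ_helper1
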