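import Mathlib
import Groth.Agent.Lib.HJ_helper1

/-! Monomial analysis for the weight-(n_i,0) piece (helper1). -/

set_option autoImplicit false
universe u

namespace Groth.Agent.Lib.HJ2_helper1
open W4c2invhilbsl2 HJFrac MvPolynomial Groth.Agent.Lib.HJ_helper1

theorem key_mono (D p m n e l P a u v s : ℤ) (hD : 0 < D) (hp : 0 < p) (hm : 0 < m)
    (hn0 : 0 ≤ n) (hnD : n < D) (hP : 1 ≤ P) (he : e = l + m * P) (hl : D * l = p * m * P + n)
    (H : ∀ s, 0 < s → s < P → (p * m * s) % D + n < D)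
    (ha : 0 ≤ a) (hu : 0 ≤ u) (hv : 0 ≤ v) (hw : a - p * u + (p + D) * v = n)
    (hs : u - v = m * s) :
    n ≤ a ∨ (e ≤ u ∧ l ≤ v) := by
  by_contra hcon
  push Not at hcon
  obtain ⟨han, hcon2⟩ := hcon
  have hDv : D * v = p * m * s + (n - a) := by
    linear_combination hw + p * hs
  have hpm : 0 < p * m := mul_pos hp hm
  rcases le_or_gt s 0 with hs0 | hs0
  · rcases eq_or_lt_of_le hv with hv0 | hv0
    · rw [← hv0] at hDv hs
      have h1 : 0 ≤ m * s := by linarith
      have h2 : m * s ≤ 0 := mul_nonpos_of_nonneg_of_nonpos hm.le hs0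
      have h3 : m * s = 0 := le_antisymm h2 h1
      have h4 : s = 0 := by
        rcases mul_eq_zero.mp h3 with h | h
        · omega
        · exact h
      rw [h4] at hDv
      linarith
    · have h1 : D ≤ D * v := by nlinarith
      have h2 : p * m * s ≤ 0 := mul_nonpos_of_nonneg_of_nonpos hpm.le hs0
      linarith
  · rcases lt_or_ge s P with hsP | hsP
    · have hH := H s hs0 hsP
      have hr := Int.emod_def (p * m * s) D
      have hr0 : 0 ≤ (p * m * s) % D := Int.emod_nonneg _ hD.ne'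
      obtain ⟨r, hrdef⟩ : ∃ r : ℤ, r = (p * m * s) % D := ⟨_, rfl⟩
      obtain ⟨k, hkdef⟩ : ∃ k : ℤ, k = (p * m * s) / D := ⟨_, rfl⟩
      rw [← hrdef] at hr hr0 hH
      rw [← hkdef] at hr
      have h1 : D * (v - k) = r + (n - a) := by linear_combination hDv - hr
      have h2 : 0 < v - k := by
        by_contra h
        push Not at h
        nlinarith [mul_nonneg hD.le (neg_nonneg.mpr h)]
      have h3 : v - k < 1 := by
        by_contra h
        push Not at h
        nlinarith [mul_le_mul_of_nonneg_left h hD.le]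
      omega
    · have hvl : l ≤ v := by
        by_contra hcon3
        push Not at hcon3
        have h1 : v - l ≤ -1 := by omega
        nlinarith [mul_nonneg hpm.le (sub_nonneg.mpr hsP), mul_le_mul_of_nonneg_left h1 hD.le]
      have heu : e ≤ u := by
        rw [he]
        nlinarith [mul_le_mul_of_nonneg_left hsP hm.le]
      exact absurd hvl (not_le.mpr (hcon2 heu))

section
variable {p q m : ℕ} (hp : 0 < p) (hpq : p < q) (hcop : Nat.Coprime p q) (hm : 0 < m)
  (hnt : ¬ (q - p ∣ m)) {cl : List ℤ} (hc : IsHJDigits p q m cl)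
include hp hpq hcop hm hnt hc

/-- numeric facts for `1 ≤ i ≤ r`. -/
theorem numeric (i : ℕ) (hi : 1 ≤ i) (hir : i ≤ cl.length) :
    0 ≤ nN p q m cl i ∧ 0 ≤ eE p q m cl i ∧ 0 ≤ lL p q m cl i ∧
    ∀ a u v : ℕ, (a : ℤ) - p * u + q * v = nN p q m cl i → (m : ℤ) ∣ (u : ℤ) - v →
      (nN p q m cl i).toNat ≤ a ∨ ((eE p q m cl i).toNat ≤ u ∧ (lL p q m cl i).toNat ≤ v) := by
  obtain ⟨j, rfl⟩ : ∃ j, i = j + 1 := ⟨i - 1, by omega⟩
  have hN := nN_eq hp hpq hcop hm hnt cl
  have hg := hgz hp hpq hcop hm hnt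
  have hD := hDz hp hpq hcop hm hnt
  have hTpos := Ti_pos hp hpq hcop hm hnt hc (j + 1) hir
  have hTb := Ti_lt_b hp hpq hcop hm hnt hc (j + 1) (by omega) (by omega)
  have hn0 : 0 ≤ nN p q m cl (j + 1) := by rw [hN]; exact mul_nonneg hg.le hTpos.le
  have hDpos : (0 : ℤ) < (q : ℤ) - p := by
    have : (p : ℤ) < q := by exact_mod_cast hpq
    omega
  have hnD : nN p q m cl (j + 1) < (q : ℤ) - p := by
    rw [hN, hD]; exact mul_lt_mul_of_pos_left hTb hg
  have hP : 1 ≤ hjP cl (j + 1) := by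
    have := P_lt cl hc.1 j (by omega)
    omega
  have he : eE p q m cl (j + 1) = lL p q m cl (j + 1) + (m : ℤ) * hjP cl (j + 1) := by
    unfold eE lL; push_cast; ring
  have hl : ((q : ℤ) - p) * lL p q m cl (j + 1)
      = (p : ℤ) * m * hjP cl (j + 1) + nN p q m cl (j + 1) := by
    unfold nN eE lL; push_cast; ring
  have hpZ : (0 : ℤ) < p := by exact_mod_cast hp
  have hmZ : (0 : ℤ) < m := by exact_mod_cast hm
  have hl0 : 0 ≤ lL p q m cl (j + 1) := by
    by_contra h
    push Not at h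
    have h1 : lL p q m cl (j + 1) ≤ -1 := by omega
    nlinarith [mul_le_mul_of_nonneg_left h1 hDpos.le, mul_nonneg (mul_nonneg hpZ.le hmZ.le) (by omega : (0 : ℤ) ≤ hjP cl (j + 1))]
  have he0 : 0 ≤ eE p q m cl (j + 1) := by
    rw [he]
    exact add_nonneg hl0 (mul_nonneg hmZ.le (by omega))
  have H : ∀ s : ℤ, 0 < s → s < hjP cl (j + 1) →
      ((p : ℤ) * m * s) % ((q : ℤ) - p) + nN p q m cl (j + 1) < (q : ℤ) - p := by
    intro s hs0 hsP
    rcases Nat.eq_zero_or_pos j with hj | hj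
    · subst hj
      rw [hjP_one] at hsP
      omega
    · exact emod_bound hp hpq hcop hm hnt hc j hj hir s hs0 hsP
  refine ⟨hn0, he0, hl0, ?_⟩
  intro a u v hw hdvd
  obtain ⟨s, hs⟩ := hdvd
  have := key_mono ((q : ℤ) - p) p m (nN p q m cl (j + 1)) (eE p q m cl (j + 1))
    (lL p q m cl (j + 1)) (hjP cl (j + 1)) a u v s hDpos hpZ hmZ hn0 hnD hP he hl H
    (by positivity) (by positivity) (by positivity) (by rw [← hw]; ring) hs
  rcases this with h | ⟨h1, h2⟩
  · left; exact Int.toNat_le.mpr h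
  · right; exact ⟨Int.toNat_le.mpr h1, Int.toNat_le.mpr h2⟩

/-- S15729. -/
theorem main29 (k : Type u) [Field k] (i : ℕ) (hi : 1 ≤ i) (hir : i ≤ cl.length)
    (f : MvPolynomial (Fin 3) k)
    (hf : f ∈ weightedHomogeneousSubmodule k (wt3 p q m) (nN p q m cl i, (0 : ZMod m))) :
    ∃ a b : MvPolynomial (Fin 3) k,
      a ∈ weightedHomogeneousSubmodule k (wt3 p q m) 0 ∧
      b ∈ weightedHomogeneousSubmodule k (wt3 p q m) 0 ∧
      f = a * X (0 : Fin 3) ^ (nN p q m cl i).toNat +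
        b * (X (1 : Fin 3) ^ (eE p q m cl i).toNat * X (2 : Fin 3) ^ (lL p q m cl i).toNat) := by
  classical
  haveI : NeZero m := ⟨hm.ne'⟩
  obtain ⟨hn0, he0, hl0, key⟩ := numeric hp hpq hcop hm hnt hc i hi hir
  obtain ⟨w, hwdef⟩ : ∃ w, w = wt3 p q m := ⟨_, rfl⟩
  rw [← hwdef] at hf ⊢
  have hw0 : w 0 = ((1 : ℤ), (0 : ZMod m)) := by rw [hwdef]; rfl
  have hw1 : w 1 = (-(p : ℤ), (-1 : ZMod m)) := by rw [hwdef]; rfl
  have hw2 : w 2 = ((q : ℤ), (1 : ZMod m)) := by rw [hwdef]; rfl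
  have hwt1 : ∀ d : Fin 3 →₀ ℕ,
      (Finsupp.weight w d).1 = (d 0 : ℤ) - p * d 1 + q * d 2 := by
    intro d
    rw [Finsupp.weight_eq_sum, Fin.sum_univ_three, hw0, hw1, hw2]
    simp only [Prod.smul_mk, Prod.fst_add, nsmul_eq_mul, mul_one, mul_neg]
    ring
  have hwt2 : ∀ d : Fin 3 →₀ ℕ,
      (Finsupp.weight w d).2 = -(d 1 : ZMod m) + (d 2 : ZMod m) := by
    intro d
    rw [Finsupp.weight_eq_sum, Fin.sum_univ_three, hw0, hw1, hw2]
    simp only [Prod.smul_mk, Prod.snd_add, nsmul_eq_mul, mul_one, mul_neg, smul_zero]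
    ring
  obtain ⟨N, hNdef⟩ : ∃ N : ℕ, N = (nN p q m cl i).toNat := ⟨_, rfl⟩
  obtain ⟨E, hEdef⟩ : ∃ E : ℕ, E = (eE p q m cl i).toNat := ⟨_, rfl⟩
  obtain ⟨L, hLdef⟩ : ∃ L : ℕ, L = (lL p q m cl i).toNat := ⟨_, rfl⟩
  rw [← hNdef, ← hEdef, ← hLdef] at key ⊢
  have hNz : (N : ℤ) = nN p q m cl i := by rw [hNdef]; exact Int.toNat_of_nonneg hn0
  have hEz : (E : ℤ) = eE p q m cl i := by rw [hEdef]; exact Int.toNat_of_nonneg he0
  have hLz : (L : ℤ) = lL p q m cl i := by rw [hLdef]; exact Int.toNat_of_nonneg hl0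
  have hnN : nN p q m cl i = -(p : ℤ) * (E : ℤ) + (q : ℤ) * (L : ℤ) := by
    rw [hEz, hLz]; rfl
  have hEL : (E : ℤ) = (L : ℤ) + (m : ℤ) * hjP cl i := by
    rw [hEz, hLz]; unfold eE lL; push_cast; ring
  have hEZ : (E : ZMod m) = (L : ZMod m) := by
    have h := congrArg (Int.cast : ℤ → ZMod m) hEL
    push_cast at h
    rw [h, ZMod.natCast_self, zero_mul, add_zero]
  set ν : ℤ × ZMod m := (nN p q m cl i, (0 : ZMod m)) with hν
  set δ0 : Fin 3 →₀ ℕ := Finsupp.single 0 N with hδ0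
  set δ1 : Fin 3 →₀ ℕ := Finsupp.single 1 E + Finsupp.single 2 L with hδ1
  have hδ0w : Finsupp.weight w δ0 = ν := by
    apply Prod.ext
    · rw [hwt1]; simp [hδ0, hν, hNz]
    · rw [hwt2]; simp [hδ0, hν]
  have hδ1w : Finsupp.weight w δ1 = ν := by
    apply Prod.ext
    · rw [hwt1]; simp [hδ1, hν, hnN]
    · rw [hwt2]; simp [hδ1, hν, hEZ]
  have hX0 : (X (0 : Fin 3) ^ N : MvPolynomial (Fin 3) k) = monomial δ0 1 := by
    rw [X_pow_eq_monomial]
  have hX12 : (X (1 : Fin 3) ^ E * X (2 : Fin 3) ^ L : MvPolynomial (Fin 3) k) = monomial δ1 1 := by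
    rw [X_pow_eq_monomial, X_pow_eq_monomial, monomial_mul, mul_one]
  rw [hX0, hX12]
  have hquot : ∀ (d δ : Fin 3 →₀ ℕ), δ ≤ d → Finsupp.weight w d = ν → Finsupp.weight w δ = ν →
      Finsupp.weight w (d - δ) = 0 := by
    intro d δ hle hd hδ
    have h1 : Finsupp.weight w (d - δ) + Finsupp.weight w δ = 0 + Finsupp.weight w δ := by
      rw [zero_add, ← map_add, tsub_add_cancel_of_le hle, hd, hδ]
    exact add_right_cancel h1
  have hmono : ∀ (d : Fin 3 →₀ ℕ) (r : k), Finsupp.weight w d = ν →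
      ∃ a b : MvPolynomial (Fin 3) k,
        a ∈ weightedHomogeneousSubmodule k w 0 ∧ b ∈ weightedHomogeneousSubmodule k w 0 ∧
        monomial d r = a * monomial δ0 1 + b * monomial δ1 1 := by
    intro d r hd
    have h1 := hwt1 d
    have h2 := hwt2 d
    rw [hd] at h1 h2
    simp only [hν] at h1 h2
    have hdvd : (m : ℤ) ∣ (d 1 : ℤ) - (d 2 : ℤ) := by
      apply (ZMod.intCast_zmod_eq_zero_iff_dvd _ m).mp
      push_cast
      linear_combination h2
    rcases key (d 0) (d 1) (d 2) h1.symm hdvd with h | ⟨h3, h4⟩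
    · have hle : δ0 ≤ d := by
        rw [Finsupp.le_def]
        intro j
        rw [hδ0, Finsupp.single_apply]
        split_ifs with hj
        · subst hj; exact h
        · exact Nat.zero_le _
      refine ⟨monomial (d - δ0) r, 0, ?_, zero_mem _, ?_⟩
      · rw [mem_weightedHomogeneousSubmodule]
        exact isWeightedHomogeneous_monomial _ _ _ (hquot d δ0 hle hd hδ0w)
      · rw [monomial_mul, mul_one, zero_mul, add_zero, tsub_add_cancel_of_le hle]
    · have hle : δ1 ≤ d := by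
        rw [Finsupp.le_def]
        intro j
        rw [hδ1, Finsupp.add_apply, Finsupp.single_apply, Finsupp.single_apply]
        fin_cases j
        · simp
        · simpa using h3
        · simpa using h4
      refine ⟨0, monomial (d - δ1) r, zero_mem _, ?_, ?_⟩
      · rw [mem_weightedHomogeneousSubmodule]
        exact isWeightedHomogeneous_monomial _ _ _ (hquot d δ1 hle hd hδ1w)
      · rw [monomial_mul, mul_one, zero_mul, zero_add, tsub_add_cancel_of_le hle]
  have hf' : IsWeightedHomogeneous w f ν := (mem_weightedHomogeneousSubmodule k w ν f).mp hf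
  have hsum : ∃ a b : MvPolynomial (Fin 3) k,
      a ∈ weightedHomogeneousSubmodule k w 0 ∧ b ∈ weightedHomogeneousSubmodule k w 0 ∧
      (∑ d ∈ f.support, monomial d (coeff d f)) = a * monomial δ0 1 + b * monomial δ1 1 := by
    apply Finset.sum_induction _ (fun g => ∃ a b : MvPolynomial (Fin 3) k,
      a ∈ weightedHomogeneousSubmodule k w 0 ∧ b ∈ weightedHomogeneousSubmodule k w 0 ∧
      g = a * monomial δ0 1 + b * monomial δ1 1)
    · rintro g1 g2 ⟨a1, b1, ha1, hb1, rfl⟩ ⟨a2, b2, ha2, hb2, rfl⟩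
      exact ⟨a1 + a2, b1 + b2, add_mem ha1 ha2, add_mem hb1 hb2, by ring⟩
    · exact ⟨0, 0, zero_mem _, zero_mem _, by simp⟩
    · intro d hd
      exact hmono d (coeff d f) (hf' (mem_support_iff.mp hd))
  rwa [support_sum_monomial_coeff] at hsum

end

end Groth.Agent.Lib.HJ2_helper1
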