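import Mathlib
import Groth.Agent.Lib.HJ2_helper1

/-! Five-variable monomial analysis for the weight-(n_i,0) piece (helper1). -/

set_option autoImplicit false
universe u

namespace Groth.Agent.Lib.HJ3_helper1
open W4c2invhilbsl2 HJFrac MvPolynomial Groth.Agent.Lib.HJ_helper1 Groth.Agent.Lib.HJ2_helper1

section
variable {p q m : ℕ} (hp : 0 < p) (hpq : p < q) (hcop : Nat.Coprime p q) (hm : 0 < m)
  (hnt : ¬ (q - p ∣ m)) {cl : List ℤ} (hc : IsHJDigits p q m cl)
include hp hpq hcop hm hnt hc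

/-- S15732 (in fact with equality). -/
theorem main32 (k : Type u) [Field k] (i : ℕ) (hi : 1 ≤ i) (hir : i ≤ cl.length)
    (f : MvPolynomial (Fin 5) k)
    (hf : f ∈ weightedHomogeneousSubmodule k (wt5 p q m) (nN p q m cl i, (0 : ZMod m))) :
    ∃ (a₀ : MvPolynomial (Fin 5) k) (a : ℕ → ℕ → MvPolynomial (Fin 5) k),
      a₀ ∈ weightedHomogeneousSubmodule k (wt5 p q m) 0 ∧
      (∀ e l : ℕ, a e l ∈ weightedHomogeneousSubmodule k (wt5 p q m) 0) ∧
      f - (a₀ * X (0 : Fin 5) ^ (nN p q m cl i).toNat +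
          ∑ e ∈ Finset.range ((eE p q m cl i).toNat + 1),
            ∑ l ∈ Finset.range ((lL p q m cl i).toNat + 1),
              a e l * (X (1 : Fin 5) ^ ((eE p q m cl i).toNat - e) * X (2 : Fin 5) ^ e *
                X (3 : Fin 5) ^ ((lL p q m cl i).toNat - l) * X (4 : Fin 5) ^ l)) ∈
        Ideal.span {X (0 : Fin 5) ^ (q - p) - X 1 * X 4 + X 2 * X 3} := by
  classical
  haveI : NeZero m := ⟨hm.ne'⟩
  obtain ⟨hn0, he0, hl0, key⟩ := numeric hp hpq hcop hm hnt hc i hi hir
  obtain ⟨w, hwdef⟩ : ∃ w, w = wt5 p q m := ⟨_, rfl⟩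
  rw [← hwdef] at hf ⊢
  have hw0 : w 0 = ((1 : ℤ), (0 : ZMod m)) := by rw [hwdef]; rfl
  have hw1 : w 1 = (-(p : ℤ), (-1 : ZMod m)) := by rw [hwdef]; rfl
  have hw2 : w 2 = (-(p : ℤ), (-1 : ZMod m)) := by rw [hwdef]; rfl
  have hw3 : w 3 = ((q : ℤ), (1 : ZMod m)) := by rw [hwdef]; rfl
  have hw4 : w 4 = ((q : ℤ), (1 : ZMod m)) := by rw [hwdef]; rfl
  have hwt1 : ∀ d : Fin 5 →₀ ℕ,
      (Finsupp.weight w d).1 = (d 0 : ℤ) - p * (d 1 + d 2) + q * (d 3 + d 4) := by
    intro d
    rw [Finsupp.weight_eq_sum, Fin.sum_univ_five, hw0, hw1, hw2, hw3, hw4]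
    simp only [Prod.smul_mk, Prod.fst_add, nsmul_eq_mul, mul_one, mul_neg]
    ring
  have hwt2 : ∀ d : Fin 5 →₀ ℕ,
      (Finsupp.weight w d).2 = -((d 1 : ZMod m) + d 2) + ((d 3 : ZMod m) + d 4) := by
    intro d
    rw [Finsupp.weight_eq_sum, Fin.sum_univ_five, hw0, hw1, hw2, hw3, hw4]
    simp only [Prod.smul_mk, Prod.snd_add, nsmul_eq_mul, mul_one, mul_neg, smul_zero]
    ring
  obtain ⟨N, hNdef⟩ : ∃ N : ℕ, N = (nN p q m cl i).toNat := ⟨_, rfl⟩
  obtain ⟨E, hEdef⟩ : ∃ E : ℕ, E = (eE p q m cl i).toNat := ⟨_, rfl⟩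
  obtain ⟨L, hLdef⟩ : ∃ L : ℕ, L = (lL p q m cl i).toNat := ⟨_, rfl⟩
  rw [← hNdef, ← hEdef, ← hLdef] at key ⊢
  have hNz : (N : ℤ) = nN p q m cl i := by rw [hNdef]; exact Int.toNat_of_nonneg hn0
  have hEz : (E : ℤ) = eE p q m cl i := by rw [hEdef]; exact Int.toNat_of_nonneg he0
  have hLz : (L : ℤ) = lL p q m cl i := by rw [hLdef]; exact Int.toNat_of_nonneg hl0
  have hnN : nN p q m cl i = -(p : ℤ) * (E : ℤ) + (q : ℤ) * (L : ℤ) := by
    rw [hEz, hLz]; rfl
  have hEL : (E : ℤ) = (L : ℤ) + (m : ℤ) * hjP cl i := by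
    rw [hEz, hLz]; unfold eE lL; push_cast; ring
  have hEZ : (E : ZMod m) = (L : ZMod m) := by
    have h := congrArg (Int.cast : ℤ → ZMod m) hEL
    push_cast at h
    rw [h, ZMod.natCast_self, zero_mul, add_zero]
  set ν : ℤ × ZMod m := (nN p q m cl i, (0 : ZMod m)) with hν
  set δ0 : Fin 5 →₀ ℕ := Finsupp.single 0 N with hδ0
  set μ : ℕ → ℕ → (Fin 5 →₀ ℕ) := fun e l =>
    Finsupp.single 1 (E - e) + Finsupp.single 2 e + Finsupp.single 3 (L - l) + Finsupp.single 4 l
    with hμ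
  have hδ0w : Finsupp.weight w δ0 = ν := by
    apply Prod.ext
    · rw [hwt1]; simp [hδ0, hν, hNz]
    · rw [hwt2]; simp [hδ0, hν]
  have hμw : ∀ e l, e ≤ E → l ≤ L → Finsupp.weight w (μ e l) = ν := by
    intro e l he hl
    have h1 : ((E - e : ℕ) : ℤ) + (e : ℤ) = E := by rw [Nat.cast_sub he]; ring
    have h2 : ((L - l : ℕ) : ℤ) + (l : ℤ) = L := by rw [Nat.cast_sub hl]; ring
    have h3 : ((E - e : ℕ) : ZMod m) + (e : ZMod m) = E := by
      rw [← Nat.cast_add, Nat.sub_add_cancel he]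
    have h4 : ((L - l : ℕ) : ZMod m) + (l : ZMod m) = L := by
      rw [← Nat.cast_add, Nat.sub_add_cancel hl]
    apply Prod.ext
    · rw [hwt1]
      simp only [hμ, hν, Finsupp.add_apply, Finsupp.single_apply]
      simp only [Fin.reduceEq, if_false, if_true, add_zero, zero_add, Nat.cast_zero, zero_sub]
      rw [h1, h2, hnN]; ring
    · rw [hwt2]
      simp only [hμ, hν, Finsupp.add_apply, Finsupp.single_apply]
      simp only [Fin.reduceEq, if_false, if_true, add_zero, zero_add, Nat.cast_zero]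
      rw [h3, h4, hEZ]; ring
  have hX0 : (X (0 : Fin 5) ^ N : MvPolynomial (Fin 5) k) = monomial δ0 1 := by
    rw [X_pow_eq_monomial]
  have hXμ : ∀ e l, (X (1 : Fin 5) ^ (E - e) * X (2 : Fin 5) ^ e *
      X (3 : Fin 5) ^ (L - l) * X (4 : Fin 5) ^ l : MvPolynomial (Fin 5) k) = monomial (μ e l) 1 := by
    intro e l
    simp only [X_pow_eq_monomial, monomial_mul, mul_one, hμ]
  simp only [hX0, hXμ]
  have hquot : ∀ (d δ : Fin 5 →₀ ℕ), δ ≤ d → Finsupp.weight w d = ν → Finsupp.weight w δ = ν →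
      Finsupp.weight w (d - δ) = 0 := by
    intro d δ hle hd hδ
    have h1 : Finsupp.weight w (d - δ) + Finsupp.weight w δ = 0 + Finsupp.weight w δ := by
      rw [zero_add, ← map_add, tsub_add_cancel_of_le hle, hd, hδ]
    exact add_right_cancel h1
  -- the property, with equality
  let Q : MvPolynomial (Fin 5) k → Prop := fun g =>
    ∃ (a₀ : MvPolynomial (Fin 5) k) (a : ℕ → ℕ → MvPolynomial (Fin 5) k),
      a₀ ∈ weightedHomogeneousSubmodule k w 0 ∧
      (∀ e l : ℕ, a e l ∈ weightedHomogeneousSubmodule k w 0) ∧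
      g = a₀ * monomial δ0 1 + ∑ e ∈ Finset.range (E + 1), ∑ l ∈ Finset.range (L + 1),
        a e l * monomial (μ e l) 1
  have hmono : ∀ (d : Fin 5 →₀ ℕ) (r : k), Finsupp.weight w d = ν → Q (monomial d r) := by
    intro d r hd
    have h1 := hwt1 d
    have h2 := hwt2 d
    rw [hd] at h1 h2
    simp only [hν] at h1 h2
    have hdvd : (m : ℤ) ∣ ((d 1 + d 2 : ℕ) : ℤ) - ((d 3 + d 4 : ℕ) : ℤ) := by
      apply (ZMod.intCast_zmod_eq_zero_iff_dvd _ m).mp
      push_cast
      linear_combination h2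
    rcases key (d 0) (d 1 + d 2) (d 3 + d 4) (by push_cast; exact h1.symm) hdvd with h | ⟨h3, h4⟩
    · have hle : δ0 ≤ d := by
        rw [Finsupp.le_def]
        intro j
        rw [hδ0, Finsupp.single_apply]
        split_ifs with hj
        · subst hj; exact h
        · exact Nat.zero_le _
      refine ⟨monomial (d - δ0) r, fun _ _ => 0, ?_, fun _ _ => zero_mem _, ?_⟩
      · rw [mem_weightedHomogeneousSubmodule]
        exact isWeightedHomogeneous_monomial _ _ _ (hquot d δ0 hle hd hδ0w)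
      · rw [monomial_mul, mul_one, tsub_add_cancel_of_le hle]
        simp
    · obtain ⟨e, hedef⟩ : ∃ e, e = min (d 2) E := ⟨_, rfl⟩
      obtain ⟨l, hldef⟩ : ∃ l, l = min (d 4) L := ⟨_, rfl⟩
      have heE : e ≤ E := by omega
      have hlL : l ≤ L := by omega
      have hle : μ e l ≤ d := by
        rw [Finsupp.le_def]
        intro j
        simp only [hμ, Finsupp.add_apply, Finsupp.single_apply]
        fin_cases j
        · simp
        · simp; omega
        · simp; omega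
        · simp; omega
        · simp; omega
      refine ⟨0, fun e' l' => if e' = e ∧ l' = l then monomial (d - μ e l) r else 0,
        zero_mem _, ?_, ?_⟩
      · intro e' l'
        dsimp only
        split_ifs
        · rw [mem_weightedHomogeneousSubmodule]
          exact isWeightedHomogeneous_monomial _ _ _ (hquot d (μ e l) hle hd (hμw e l heE hlL))
        · exact zero_mem _
      · dsimp only
        rw [zero_mul, zero_add, Finset.sum_eq_single e, Finset.sum_eq_single l]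
        · rw [if_pos ⟨rfl, rfl⟩, monomial_mul, mul_one, tsub_add_cancel_of_le hle]
        · intro l' _ hl'
          rw [if_neg (fun h => hl' h.2), zero_mul]
        · intro hl'
          exact absurd (Finset.mem_range.mpr (by omega)) hl'
        · intro e' _ he'
          apply Finset.sum_eq_zero
          intro l' _
          rw [if_neg (fun h => he' h.1), zero_mul]
        · intro he'
          exact absurd (Finset.mem_range.mpr (by omega)) he'
  have hf' : IsWeightedHomogeneous w f ν := (mem_weightedHomogeneousSubmodule k w ν f).mp hf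
  have hsum : Q (∑ d ∈ f.support, monomial d (coeff d f)) := by
    apply Finset.sum_induction _ Q
    · rintro g1 g2 ⟨a1, b1, ha1, hb1, rfl⟩ ⟨a2, b2, ha2, hb2, rfl⟩
      refine ⟨a1 + a2, fun e l => b1 e l + b2 e l, add_mem ha1 ha2,
        fun e l => add_mem (hb1 e l) (hb2 e l), ?_⟩
      simp only [add_mul, Finset.sum_add_distrib]
      abel
    · exact ⟨0, fun _ _ => 0, zero_mem _, fun _ _ => zero_mem _, by simp⟩
    · intro d hd
      exact hmono d (coeff d f) (hf' (mem_support_iff.mp hd))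
  rw [support_sum_monomial_coeff] at hsum
  obtain ⟨a₀, a, ha₀, ha, hfeq⟩ := hsum
  refine ⟨a₀, a, ha₀, ha, ?_⟩
  rw [← hfeq, sub_self]
  exact zero_mem _

end

end Groth.Agent.Lib.HJ3_helper1
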