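import Mathlib
import Groth.Agent.Lib.HJ2_helper1

/-! Weight pieces of `k[X₀,X₁,X₂]/L⁽ⁱ⁾_s` have dimension at most one (helper1). -/

set_option autoImplicit false
universe u

namespace Groth.Agent.Lib.HJ4_helper1
open W4c2invhilbsl2 HJFrac MvPolynomial Groth.Agent.Lib.HJ_helper1 Groth.Agent.Lib.HJ2_helper1

/-- General criterion: pairwise collinearity of monomials of equal weight gives rank ≤ 1. -/
theorem rank_le_one_of_coll {σ : Type*} (k : Type*) [Field k] {M : Type*} [AddCommMonoid M]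
    (w : σ → M) (I : Ideal (MvPolynomial σ k))
    (coll : ∀ d d' : σ →₀ ℕ, Finsupp.weight w d = Finsupp.weight w d' →
      ∃ a : k, Ideal.Quotient.mkₐ k I (monomial d 1) = a • Ideal.Quotient.mkₐ k I (monomial d' 1) ∨
        Ideal.Quotient.mkₐ k I (monomial d' 1) = a • Ideal.Quotient.mkₐ k I (monomial d 1))
    (ν : M) : Module.rank k (piece k w I ν) ≤ 1 := by
  classical
  set π := Ideal.Quotient.mkₐ k I with hπ
  rw [rank_submodule_le_one_iff']
  by_cases hT : ∃ d : σ →₀ ℕ, Finsupp.weight w d = ν ∧ π (monomial d 1) ≠ 0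
  · obtain ⟨d₀, hd₀ν, hd₀⟩ := hT
    refine ⟨π (monomial d₀ 1), ?_⟩
    rintro _ ⟨f, hf, rfl⟩
    change π f ∈ _
    rw [← support_sum_monomial_coeff f, map_sum]
    refine Submodule.sum_mem _ (fun d hd => ?_)
    have hdν : Finsupp.weight w d = ν := hf (mem_support_iff.mp hd)
    have hmc : monomial d (coeff d f) = coeff d f • monomial d (1 : k) := by
      rw [smul_monomial, smul_eq_mul, mul_one]
    rw [hmc, map_smul]
    refine Submodule.smul_mem _ _ ?_
    obtain ⟨a, ha | ha⟩ := coll d d₀ (hdν.trans hd₀ν.symm)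
    · rw [ha]; exact Submodule.smul_mem _ _ (Submodule.mem_span_singleton_self _)
    · have ha0 : a ≠ 0 := by
        rintro rfl
        rw [zero_smul] at ha
        exact hd₀ ha
      have : π (monomial d 1) = a⁻¹ • π (monomial d₀ 1) := by
        rw [ha, smul_smul, inv_mul_cancel₀ ha0, one_smul]
      rw [this]; exact Submodule.smul_mem _ _ (Submodule.mem_span_singleton_self _)
  · push Not at hT
    refine ⟨0, ?_⟩
    rintro _ ⟨f, hf, rfl⟩
    change π f ∈ _
    rw [← support_sum_monomial_coeff f, map_sum]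
    refine Submodule.sum_mem _ (fun d hd => ?_)
    have hdν : Finsupp.weight w d = ν := hf (mem_support_iff.mp hd)
    have hmc : monomial d (coeff d f) = coeff d f • monomial d (1 : k) := by
      rw [smul_monomial, smul_eq_mul, mul_one]
    rw [hmc, map_smul, hT d hdν, smul_zero]
    exact Submodule.zero_mem _

theorem mon3 (k : Type*) [CommSemiring k] (d : Fin 3 →₀ ℕ) :
    (monomial d (1 : k) : MvPolynomial (Fin 3) k) = X 0 ^ d 0 * X 1 ^ d 1 * X 2 ^ d 2 := by
  rw [monomial_eq, Finsupp.prod_fintype _ _ (fun i => pow_zero _), Fin.prod_univ_three, C_1,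
    one_mul]

/-- the exponent vector `(a,u,v)`. -/
noncomputable def dfn (a u v : ℕ) : Fin 3 →₀ ℕ :=
  Finsupp.single 0 a + Finsupp.single 1 u + Finsupp.single 2 v

@[simp] theorem dfn_0 (a u v : ℕ) : dfn a u v 0 = a := by simp [dfn]
@[simp] theorem dfn_1 (a u v : ℕ) : dfn a u v 1 = u := by simp [dfn]
@[simp] theorem dfn_2 (a u v : ℕ) : dfn a u v 2 = v := by simp [dfn]

theorem key_mono2 (D p m n n' e l P a0 u v s : ℤ) (hD : 0 < D) (hp : 0 < p) (hm : 0 < m)
    (hn0 : 0 ≤ n) (hnD : n < D) (hn'D : n' ≤ D) (he : e = l + m * P)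
    (hl : D * l = p * m * P + n)
    (H : ∀ s, 0 < s → s < P → (p * m * s) % D + n' ≤ D)
    (ha0 : 0 < a0) (ha : a0 < n') (hu : 0 ≤ u) (hv : 0 ≤ v) (hw : a0 = (p + D) * v - p * u)
    (hs : u - v = m * s) :
    e ≤ u ∧ l ≤ v := by
  have hDv : D * v = p * m * s + a0 := by
    linear_combination p * hs - hw
  have hpm : 0 < p * m := mul_pos hp hm
  have hsP : P ≤ s := by
    by_contra hcon
    push Not at hcon
    rcases le_or_gt s 0 with hs0 | hs0
    · rcases eq_or_lt_of_le hv with hv0 | hv0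
      · rw [← hv0] at hDv hs
        have h1 : 0 ≤ m * s := by linarith
        have h2 : m * s ≤ 0 := mul_nonpos_of_nonneg_of_nonpos hm.le hs0
        have h3 : m * s = 0 := le_antisymm h2 h1
        have h4 : s = 0 := by
          rcases mul_eq_zero.mp h3 with h | h
          · omega
          · exact h
        rw [h4] at hDv
        linarith
      · have h1 : D ≤ D * v := by nlinarith
        have h2 : p * m * s ≤ 0 := mul_nonpos_of_nonneg_of_nonpos hpm.le hs0
        linarith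
    · have hH := H s hs0 hcon
      have hr := Int.emod_def (p * m * s) D
      have hr0 : 0 ≤ (p * m * s) % D := Int.emod_nonneg _ hD.ne'
      obtain ⟨r, hrdef⟩ : ∃ r : ℤ, r = (p * m * s) % D := ⟨_, rfl⟩
      obtain ⟨k, hkdef⟩ : ∃ k : ℤ, k = (p * m * s) / D := ⟨_, rfl⟩
      rw [← hrdef] at hr hr0 hH
      rw [← hkdef] at hr
      have h1 : D * (v - k) = r + a0 := by linear_combination hDv - hr
      have h2 : 0 < v - k := by
        by_contra h
        push Not at h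
        nlinarith [mul_nonneg hD.le (neg_nonneg.mpr h)]
      have h3 : v - k < 1 := by
        by_contra h
        push Not at h
        nlinarith [mul_le_mul_of_nonneg_left h hD.le]
      omega
  have hvl : l ≤ v := by
    by_contra hcon3
    push Not at hcon3
    have h1 : v - l ≤ -1 := by omega
    nlinarith [mul_nonneg hpm.le (sub_nonneg.mpr hsP), mul_le_mul_of_nonneg_left h1 hD.le]
  refine ⟨?_, hvl⟩
  rw [he]
  nlinarith [mul_le_mul_of_nonneg_left hsP hm.le]

section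
variable {p q m : ℕ} (hp : 0 < p) (hpq : p < q) (hcop : Nat.Coprime p q) (hm : 0 < m)
  (hnt : ¬ (q - p ∣ m)) {cl : List ℤ} (hc : IsHJDigits p q m cl)
include hp hpq hcop hm hnt hc

theorem emod_bound2 (j : ℕ) (hj : 1 ≤ j) (hjr : j + 1 ≤ cl.length) (x : ℤ) (hx0 : 0 < x)
    (hx : x < hjP cl (j + 1)) :
    ((p : ℤ) * m * x) % ((q : ℤ) - p) + nN p q m cl j ≤ (q : ℤ) - p := by
  have hN := nN_eq hp hpq hcop hm hnt cl
  have hg := hgz hp hpq hcop hm hnt
  have hb := hbz hp hpq hcop hm hnt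
  have hD := hDz hp hpq hcop hm hnt
  have hpm := hpmz hp hpq hcop hm hnt
  obtain ⟨hlow, -⟩ := core hp hpq hcop hm hnt hc j hj hjr x hx0 hx
  have hTpos := Ti_pos hp hpq hcop hm hnt hc j (by omega)
  have hρk := Int.emod_def ((tT p q m : ℤ) * x) (bB p q m : ℤ)
  have hρb := Int.emod_lt_of_pos ((tT p q m : ℤ) * x) hb
  obtain ⟨ρ, hρ⟩ : ∃ ρ : ℤ, ρ = ((tT p q m : ℤ) * x) % (bB p q m : ℤ) := ⟨_, rfl⟩
  obtain ⟨k, hk⟩ : ∃ k : ℤ, k = ((tT p q m : ℤ) * x) / (bB p q m : ℤ) := ⟨_, rfl⟩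
  rw [← hρ] at hlow hρb hρk
  rw [← hk] at hρk
  have h1 : (p : ℤ) * m * x = (gcdK p q m : ℤ) * ((bB p q m : ℤ) - ρ)
      + ((q : ℤ) - p) * (((alpha p q m : ℤ) + 1) * x - k - 1) := by
    rw [hρk]
    linear_combination x * hpm + (1 + k) * hD
  have e1 : ((p : ℤ) * m * x) % ((q : ℤ) - p) = (gcdK p q m : ℤ) * ((bB p q m : ℤ) - ρ) := by
    rw [h1, Int.add_mul_emod_self_left]
    apply Int.emod_eq_of_lt
    · exact mul_nonneg hg.le (by omega)
    · rw [hD]
      exact mul_lt_mul_of_pos_left (by omega) hg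
  rw [e1, hN, hD]
  have : (gcdK p q m : ℤ) * ((bB p q m : ℤ) - ρ) + (gcdK p q m : ℤ) * Ti p q m cl j
      = (gcdK p q m : ℤ) * ((bB p q m : ℤ) - ρ + Ti p q m cl j) := by ring
  rw [this]
  exact mul_le_mul_of_nonneg_left (by omega) hg.le

theorem numeric2 (i : ℕ) (hi : 1 ≤ i) (hir : i ≤ cl.length) :
    0 ≤ nN p q m cl (i - 1) ∧ nN p q m cl (i - 1) ≤ (q : ℤ) - p ∧ 0 < nN p q m cl i ∧
    nN p q m cl i < nN p q m cl (i - 1) ∧
    ∀ a0 u v : ℕ, 0 < a0 → (a0 : ℤ) < nN p q m cl (i - 1) → (a0 : ℤ) = q * v - p * u →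
      (m : ℤ) ∣ (u : ℤ) - v →
      (eE p q m cl i).toNat ≤ u ∧ (lL p q m cl i).toNat ≤ v := by
  obtain ⟨j, rfl⟩ : ∃ j, i = j + 1 := ⟨i - 1, by omega⟩
  have hj1 : j + 1 - 1 = j := by omega
  rw [hj1]
  have hN := nN_eq hp hpq hcop hm hnt cl
  have hg := hgz hp hpq hcop hm hnt
  have hD := hDz hp hpq hcop hm hnt
  have hTpos := Ti_pos hp hpq hcop hm hnt hc (j + 1) hir
  have hTpos' := Ti_pos hp hpq hcop hm hnt hc j (by omega)
  have hTlt := Ti_lt hp hpq hcop hm hnt hc j (by omega)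
  have hTb := Ti_lt_b hp hpq hcop hm hnt hc (j + 1) (by omega) (by omega)
  have hT0 : Ti p q m cl j ≤ (bB p q m : ℤ) := by
    have h1 := Ti_anti hp hpq hcop hm hnt hc 0 j (by omega) (by omega)
    have h2 : Ti p q m cl 0 = (bB p q m : ℤ) := T_zero _ _ _
    omega
  have hn0 : 0 < nN p q m cl (j + 1) := by rw [hN]; exact mul_pos hg hTpos
  have hn0' : 0 ≤ nN p q m cl j := by rw [hN]; exact mul_nonneg hg.le hTpos'.le
  have hn'D : nN p q m cl j ≤ (q : ℤ) - p := by
    rw [hN, hD]; exact mul_le_mul_of_nonneg_left hT0 hg.le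
  have hnlt : nN p q m cl (j + 1) < nN p q m cl j := by
    rw [hN, hN]; exact mul_lt_mul_of_pos_left hTlt hg
  have hDpos : (0 : ℤ) < (q : ℤ) - p := by
    have : (p : ℤ) < q := by exact_mod_cast hpq
    omega
  have hnD : nN p q m cl (j + 1) < (q : ℤ) - p := lt_of_lt_of_le hnlt hn'D
  have he : eE p q m cl (j + 1) = lL p q m cl (j + 1) + (m : ℤ) * hjP cl (j + 1) := by
    unfold eE lL; push_cast; ring
  have hl : ((q : ℤ) - p) * lL p q m cl (j + 1)
      = (p : ℤ) * m * hjP cl (j + 1) + nN p q m cl (j + 1) := by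
    unfold nN eE lL; push_cast; ring
  have hpZ : (0 : ℤ) < p := by exact_mod_cast hp
  have hmZ : (0 : ℤ) < m := by exact_mod_cast hm
  have H : ∀ s : ℤ, 0 < s → s < hjP cl (j + 1) →
      ((p : ℤ) * m * s) % ((q : ℤ) - p) + nN p q m cl j ≤ (q : ℤ) - p := by
    intro s hs0 hsP
    rcases Nat.eq_zero_or_pos j with hj | hj
    · subst hj
      rw [hjP_one] at hsP
      omega
    · exact emod_bound2 hp hpq hcop hm hnt hc j hj hir s hs0 hsP
  refine ⟨hn0', hn'D, hn0, hnlt, ?_⟩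
  intro a0 u v ha0 ha hw hdvd
  obtain ⟨s, hs⟩ := hdvd
  have := key_mono2 ((q : ℤ) - p) p m (nN p q m cl (j + 1)) (nN p q m cl j) (eE p q m cl (j + 1))
    (lL p q m cl (j + 1)) (hjP cl (j + 1)) a0 u v s hDpos hpZ hmZ hn0.le hnD hn'D he hl H
    (by exact_mod_cast ha0) ha (by positivity) (by positivity) (by rw [hw]; ring) hs
  exact ⟨Int.toNat_le.mpr this.1, Int.toNat_le.mpr this.2⟩

set_option maxHeartbeats 1600000 in
/-- S15730 / S15731 for a general `s`. -/
theorem main3031 (k : Type u) [Field k] (i : ℕ) (hi : 1 ≤ i) (hir : i ≤ cl.length) (s : k)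
    (ν : ℤ × ZMod m) :
    Module.rank k (piece k (wt3 p q m) (idealL k p q m cl i s) ν) ≤ 1 := by
  classical
  haveI : NeZero m := ⟨hm.ne'⟩
  obtain ⟨hn'0, hn'D, hn0, hnlt, key2⟩ := numeric2 hp hpq hcop hm hnt hc i hi hir
  obtain ⟨-, he0, hl0, -⟩ := numeric hp hpq hcop hm hnt hc i hi hir
  apply rank_le_one_of_coll
  obtain ⟨w, hwdef⟩ : ∃ w, w = wt3 p q m := ⟨_, rfl⟩
  rw [← hwdef]
  have hw0 : w 0 = ((1 : ℤ), (0 : ZMod m)) := by rw [hwdef]; rfl
  have hw1 : w 1 = (-(p : ℤ), (-1 : ZMod m)) := by rw [hwdef]; rfl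
  have hw2 : w 2 = ((q : ℤ), (1 : ZMod m)) := by rw [hwdef]; rfl
  have hwt1 : ∀ d : Fin 3 →₀ ℕ,
      (Finsupp.weight w d).1 = (d 0 : ℤ) - p * d 1 + q * d 2 := by
    intro d
    rw [Finsupp.weight_eq_sum, Fin.sum_univ_three, hw0, hw1, hw2]
    simp only [Prod.smul_mk, Prod.fst_add, nsmul_eq_mul, mul_one, mul_neg]
    ring
  have hwt2 : ∀ d : Fin 3 →₀ ℕ,
      (Finsupp.weight w d).2 = -(d 1 : ZMod m) + (d 2 : ZMod m) := by
    intro d
    rw [Finsupp.weight_eq_sum, Fin.sum_univ_three, hw0, hw1, hw2]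
    simp only [Prod.smul_mk, Prod.snd_add, nsmul_eq_mul, mul_one, mul_neg, smul_zero]
    ring
  obtain ⟨N', hN'def⟩ : ∃ N' : ℕ, N' = (nN p q m cl (i - 1)).toNat := ⟨_, rfl⟩
  obtain ⟨N, hNdef⟩ : ∃ N : ℕ, N = (nN p q m cl i).toNat := ⟨_, rfl⟩
  obtain ⟨E, hEdef⟩ : ∃ E : ℕ, E = (eE p q m cl i).toNat := ⟨_, rfl⟩
  obtain ⟨L, hLdef⟩ : ∃ L : ℕ, L = (lL p q m cl i).toNat := ⟨_, rfl⟩
  have hN'z : (N' : ℤ) = nN p q m cl (i - 1) := by rw [hN'def]; exact Int.toNat_of_nonneg hn'0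
  have hNz : (N : ℤ) = nN p q m cl i := by rw [hNdef]; exact Int.toNat_of_nonneg hn0.le
  have hEz : (E : ℤ) = eE p q m cl i := by rw [hEdef]; exact Int.toNat_of_nonneg he0
  have hLz : (L : ℤ) = lL p q m cl i := by rw [hLdef]; exact Int.toNat_of_nonneg hl0
  rw [← hEdef, ← hLdef] at key2
  rw [← hN'z] at key2 hn'D hnlt
  rw [← hNz] at hnlt hn0
  have hNeq : (N : ℤ) = (q : ℤ) * (L : ℤ) - (p : ℤ) * (E : ℤ) := by
    rw [hNz, hEz, hLz]; unfold nN; ring
  have hEL : (E : ℤ) = (L : ℤ) + (m : ℤ) * hjP cl i := by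
    rw [hEz, hLz]; unfold eE lL; push_cast; ring
  have hNpos : 0 < N := by exact_mod_cast hn0
  have hNN' : N < N' := by exact_mod_cast hnlt
  have hpZ : (0 : ℤ) < p := by exact_mod_cast hp
  have hqZ : (0 : ℤ) < q := by exact_mod_cast (lt_trans hp hpq)
  obtain ⟨I, hIdef⟩ : ∃ I, I = idealL k p q m cl i s := ⟨_, rfl⟩
  rw [← hIdef]
  have hI1 : (X 0 ^ N' : MvPolynomial (Fin 3) k) ∈ I := by
    rw [hIdef, hN'def]
    exact Ideal.mem_sup_left (Ideal.subset_span (Set.mem_insert _ _))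
  have hI2 : (C s * X 0 ^ N - X 1 ^ E * X 2 ^ L : MvPolynomial (Fin 3) k) ∈ I := by
    rw [hIdef, hNdef, hEdef, hLdef]
    exact Ideal.mem_sup_left (Ideal.subset_span (Set.mem_insert_of_mem _ rfl))
  have hI3 : ∀ d : Fin 3 →₀ ℕ, d ≠ 0 → Finsupp.weight w d = 0 →
      (monomial d 1 : MvPolynomial (Fin 3) k) ∈ I := by
    intro d hd hdw
    rw [hIdef]
    refine Ideal.mem_sup_right (Ideal.subset_span ⟨d, hd, ?_, rfl⟩)
    rw [← hwdef]; exact hdw
  set π := Ideal.Quotient.mkₐ k I with hπ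
  set x0 := π (X 0) with hx0
  set x1 := π (X 1) with hx1
  set x2 := π (X 2) with hx2
  have hπmon : ∀ d : Fin 3 →₀ ℕ, π (monomial d 1) = x0 ^ d 0 * x1 ^ d 1 * x2 ^ d 2 := by
    intro d; rw [mon3, map_mul, map_mul, map_pow, map_pow, map_pow]
  have hF1 : x0 ^ N' = 0 := by
    rw [hx0, ← map_pow]
    exact Ideal.Quotient.eq_zero_iff_mem.mpr hI1
  have hF2 : x1 ^ E * x2 ^ L = s • x0 ^ N := by
    have h1 : π (C s * X 0 ^ N) = π (X 1 ^ E * X 2 ^ L) := Ideal.Quotient.eq.mpr hI2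
    rw [C_mul', map_smul, map_pow, map_mul, map_pow, map_pow] at h1
    exact h1.symm
  have hF3 : ∀ a u v : ℕ, ¬ (a = 0 ∧ u = 0 ∧ v = 0) → (a : ℤ) - p * u + q * v = 0 →
      (m : ℤ) ∣ (u : ℤ) - v → x0 ^ a * x1 ^ u * x2 ^ v = 0 := by
    intro a u v hne hw hdvd
    have hd : dfn a u v ≠ 0 := by
      intro h
      apply hne
      refine ⟨?_, ?_, ?_⟩
      · have := DFunLike.congr_fun h 0; simpa using this
      · have := DFunLike.congr_fun h 1; simpa using this
      · have := DFunLike.congr_fun h 2; simpa using this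
    have hdw : Finsupp.weight w (dfn a u v) = 0 := by
      apply Prod.ext
      · rw [hwt1]; simp only [dfn_0, dfn_1, dfn_2]; exact hw
      · rw [hwt2]; simp only [dfn_1, dfn_2]
        have h := (ZMod.intCast_zmod_eq_zero_iff_dvd _ m).mpr hdvd
        push_cast at h
        show -(u : ZMod m) + (v : ZMod m) = 0
        linear_combination -h
    have h1 : π (monomial (dfn a u v) 1) = 0 := Ideal.Quotient.eq_zero_iff_mem.mpr (hI3 _ hd hdw)
    rw [hπmon] at h1
    simpa using h1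
  -- Type A
  have typeA : ∀ a0 : ℕ, ∀ u v : ℕ, (a0 : ℤ) = q * v - p * u → (m : ℤ) ∣ (u : ℤ) - v →
      x0 ^ a0 = 0 ∨ ∃ c : k, x1 ^ u * x2 ^ v = c • x0 ^ a0 := by
    intro a0
    induction a0 using Nat.strong_induction_on with
    | _ a0 ih =>
      intro u v hw hdvd
      rcases Nat.eq_zero_or_pos a0 with h0 | h0
      · subst h0
        right
        by_cases huv : u = 0 ∧ v = 0
        · obtain ⟨rfl, rfl⟩ := huv
          exact ⟨1, by simp⟩
        · refine ⟨0, ?_⟩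
          rw [zero_smul]
          have := hF3 0 u v (by omega) (by push_cast at hw ⊢; linarith) hdvd
          simpa using this
      · rcases le_or_gt N' a0 with h1 | h1
        · left
          have : x0 ^ a0 = x0 ^ (a0 - N') * x0 ^ N' := by rw [← pow_add, Nat.sub_add_cancel h1]
          rw [this, hF1, mul_zero]
        · obtain ⟨hEu, hLv⟩ := key2 a0 u v h0 (by exact_mod_cast h1) hw hdvd
          have hsplit : x1 ^ u * x2 ^ v = s • (x0 ^ N * (x1 ^ (u - E) * x2 ^ (v - L))) := by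
            have h3 : x1 ^ u = x1 ^ E * x1 ^ (u - E) := by rw [← pow_add, Nat.add_sub_cancel' hEu]
            have h4 : x2 ^ v = x2 ^ L * x2 ^ (v - L) := by rw [← pow_add, Nat.add_sub_cancel' hLv]
            have h5 : x1 ^ u * x2 ^ v = (x1 ^ E * x2 ^ L) * (x1 ^ (u - E) * x2 ^ (v - L)) := by
              rw [h3, h4]; ring
            rw [h5, hF2, smul_mul_assoc]
          have hdvd' : (m : ℤ) ∣ ((u - E : ℕ) : ℤ) - ((v - L : ℕ) : ℤ) := by
            have : ((u - E : ℕ) : ℤ) - ((v - L : ℕ) : ℤ) = ((u : ℤ) - v) - (m : ℤ) * hjP cl i := by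
              push_cast [Nat.cast_sub hEu, Nat.cast_sub hLv]; linarith
            rw [this]
            exact dvd_sub hdvd (dvd_mul_right _ _)
          rcases le_or_gt N a0 with h2 | h2
          · have hw' : ((a0 - N : ℕ) : ℤ) = q * ((v - L : ℕ) : ℤ) - p * ((u - E : ℕ) : ℤ) := by
              push_cast [Nat.cast_sub hEu, Nat.cast_sub hLv, Nat.cast_sub h2]; linarith
            rcases ih (a0 - N) (by omega) (u - E) (v - L) hw' hdvd' with h3 | ⟨c', h3⟩
            · left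
              have : x0 ^ a0 = x0 ^ N * x0 ^ (a0 - N) := by rw [← pow_add, Nat.add_sub_cancel' h2]
              rw [this, h3, mul_zero]
            · right
              refine ⟨s * c', ?_⟩
              rw [hsplit, h3, mul_smul_comm, ← pow_add, Nat.add_sub_cancel' h2, smul_smul]
          · right
            refine ⟨0, ?_⟩
            rw [zero_smul, hsplit]
            have hz := hF3 (N - a0) (u - E) (v - L) (by omega)
              (by push_cast [Nat.cast_sub hEu, Nat.cast_sub hLv, Nat.cast_sub h2.le]; linarith) hdvd'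
            have : x0 ^ N * (x1 ^ (u - E) * x2 ^ (v - L))
                = x0 ^ a0 * (x0 ^ (N - a0) * x1 ^ (u - E) * x2 ^ (v - L)) := by
              have : x0 ^ N = x0 ^ a0 * x0 ^ (N - a0) := by
                rw [← pow_add, Nat.add_sub_cancel' h2.le]
              rw [this]; ring
            rw [this, hz, mul_zero, smul_zero]
  have coll_aux : ∀ d d' : Fin 3 →₀ ℕ, d' 0 ≤ d 0 → Finsupp.weight w d = Finsupp.weight w d' →
      ∃ a : k, π (monomial d 1) = a • π (monomial d' 1) ∨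
        π (monomial d' 1) = a • π (monomial d 1) := by
    intro d d' h0 hdd'
    have e1 := congrArg Prod.fst hdd'
    rw [hwt1, hwt1] at e1
    have e2 := congrArg Prod.snd hdd'
    rw [hwt2, hwt2] at e2
    have e2' : (m : ℤ) ∣ ((d' 1 : ℤ) - d 1) - ((d' 2 : ℤ) - d 2) := by
      apply (ZMod.intCast_zmod_eq_zero_iff_dvd _ m).mp
      push_cast
      linear_combination e2
    rw [hπmon, hπmon]
    have h0z : (d' 0 : ℤ) ≤ d 0 := by exact_mod_cast h0
    rcases le_or_gt (d' 1) (d 1) with h1 | h1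
    · have h1z : (d' 1 : ℤ) ≤ d 1 := by exact_mod_cast h1
      rcases le_or_gt (d' 2) (d 2) with h2 | h2
      · by_cases hdd : d 0 = d' 0 ∧ d 1 = d' 1 ∧ d 2 = d' 2
        · obtain ⟨e0, e1', e2''⟩ := hdd
          exact ⟨1, Or.inl (by rw [e0, e1', e2'', one_smul])⟩
        · refine ⟨0, Or.inl ?_⟩
          rw [zero_smul]
          have hz := hF3 (d 0 - d' 0) (d 1 - d' 1) (d 2 - d' 2) (by omega)
            (by push_cast [Nat.cast_sub h0, Nat.cast_sub h1, Nat.cast_sub h2]; linarith)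
            (by
              have : ((d 1 - d' 1 : ℕ) : ℤ) - ((d 2 - d' 2 : ℕ) : ℤ)
                  = -(((d' 1 : ℤ) - d 1) - ((d' 2 : ℤ) - d 2)) := by
                push_cast [Nat.cast_sub h1, Nat.cast_sub h2]; ring
              rw [this]; exact (dvd_neg).mpr e2')
          have a0 : x0 ^ d 0 = x0 ^ d' 0 * x0 ^ (d 0 - d' 0) := by
            rw [← pow_add, Nat.add_sub_cancel' h0]
          have a1 : x1 ^ d 1 = x1 ^ d' 1 * x1 ^ (d 1 - d' 1) := by
            rw [← pow_add, Nat.add_sub_cancel' h1]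
          have a2 : x2 ^ d 2 = x2 ^ d' 2 * x2 ^ (d 2 - d' 2) := by
            rw [← pow_add, Nat.add_sub_cancel' h2]
          have : x0 ^ d 0 * x1 ^ d 1 * x2 ^ d 2 = (x0 ^ d' 0 * x1 ^ d' 1 * x2 ^ d' 2) *
              (x0 ^ (d 0 - d' 0) * x1 ^ (d 1 - d' 1) * x2 ^ (d 2 - d' 2)) := by
            rw [a0, a1, a2]; ring
          rw [this, hz, mul_zero]
      · refine ⟨0, Or.inl ?_⟩
        rw [zero_smul]
        have h2z : (d 2 : ℤ) + 1 ≤ d' 2 := by exact_mod_cast h2
        have hge : N' ≤ d 0 := by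
          have : (N' : ℤ) ≤ (d 0 : ℤ) := by
            nlinarith [mul_nonneg hpZ.le (sub_nonneg.mpr h1z),
              mul_le_mul_of_nonneg_left h2z hqZ.le, Int.natCast_nonneg (d' 0)]
          exact_mod_cast this
        have : x0 ^ d 0 = x0 ^ (d 0 - N') * x0 ^ N' := by rw [← pow_add, Nat.sub_add_cancel hge]
        rw [this, hF1, mul_zero, zero_mul, zero_mul]
    · have h1z : (d 1 : ℤ) + 1 ≤ d' 1 := by exact_mod_cast h1
      rcases le_or_gt (d' 2) (d 2) with h2 | h2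
      · exfalso
        have h2z : (d' 2 : ℤ) ≤ d 2 := by exact_mod_cast h2
        nlinarith [mul_le_mul_of_nonneg_left h1z hpZ.le, mul_nonneg hqZ.le (sub_nonneg.mpr h2z)]
      · obtain ⟨u, hu⟩ : ∃ u, d' 1 = d 1 + u := ⟨d' 1 - d 1, by omega⟩
        obtain ⟨v, hv⟩ : ∃ v, d' 2 = d 2 + v := ⟨d' 2 - d 2, by omega⟩
        obtain ⟨a0, ha0⟩ : ∃ a0, d 0 = d' 0 + a0 := ⟨d 0 - d' 0, by omega⟩
        have hw : (a0 : ℤ) = q * v - p * u := by
          rw [hu, hv, ha0] at e1; push_cast at e1; linarith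
        have hdvd : (m : ℤ) ∣ (u : ℤ) - v := by
          have : (u : ℤ) - v = ((d' 1 : ℤ) - d 1) - ((d' 2 : ℤ) - d 2) := by
            rw [hu, hv]; push_cast; ring
          rw [this]; exact e2'
        rcases typeA a0 u v hw hdvd with h | ⟨c, hc⟩
        · refine ⟨0, Or.inl ?_⟩
          rw [zero_smul, ha0, pow_add, h, mul_zero, zero_mul, zero_mul]
        · refine ⟨c, Or.inr ?_⟩
          rw [hu, hv, ha0, pow_add, pow_add, pow_add]
          have : x0 ^ d' 0 * (x1 ^ d 1 * x1 ^ u) * (x2 ^ d 2 * x2 ^ v)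
              = (x0 ^ d' 0 * x1 ^ d 1 * x2 ^ d 2) * (x1 ^ u * x2 ^ v) := by ring
          rw [this, hc, mul_smul_comm]
          congr 1; ring
  intro d d' hdd'
  rcases le_total (d' 0) (d 0) with h | h
  · exact coll_aux d d' h hdd'
  · obtain ⟨a, ha | ha⟩ := coll_aux d' d h hdd'.symm
    · exact ⟨a, Or.inr ha⟩
    · exact ⟨a, Or.inl ha⟩

end

end Groth.Agent.Lib.HJ4_helper1
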