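import Mathlib
import Groth.Prelude.Def_W4c2conddiscmodels

/-! Hirzebruch–Jung continued fractions: the auxiliary sequence `nu` with
`nu (l+1) = 0`, `nu l = 1` solving the tridiagonal recurrence, and the Casoratian identity. -/

namespace Groth.Agent.Lib.HJFrac_helper4

open HJFrac

/-- the list `[b 1, …, b l]` -/
def lst (b : ℕ → ℤ) (l : ℕ) : List ℤ := (List.range l).map fun i => b (i + 1)

theorem lst_succ (b : ℕ → ℤ) (l : ℕ) : lst b (l + 1) = b 1 :: lst (fun i => b (i + 1)) l := by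
  unfold lst
  rw [List.range_succ_eq_map, List.map_cons, List.map_map]
  rfl

/-- the solution of the recurrence with `nu (l+1) = 0`, `nu l = 1`. -/
def nu : (ℕ → ℤ) → ℕ → ℕ → ℤ
  | _, 0, i => if i = 0 then 1 else 0
  | b, (l + 1), 0 => b 1 * nu (fun i => b (i + 1)) l 0 - nu (fun i => b (i + 1)) l 1
  | b, (l + 1), (i + 1) => nu (fun i => b (i + 1)) l i

theorem nu_zero_zero (b : ℕ → ℤ) : nu b 0 0 = 1 := by simp [nu]
theorem nu_zero_succ (b : ℕ → ℤ) (i : ℕ) : nu b 0 (i + 1) = 0 := by simp [nu]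
theorem nu_succ_zero (b : ℕ → ℤ) (l : ℕ) :
    nu b (l + 1) 0 = b 1 * nu (fun i => b (i + 1)) l 0 - nu (fun i => b (i + 1)) l 1 := by
  simp [nu]
theorem nu_succ_succ (b : ℕ → ℤ) (l i : ℕ) :
    nu b (l + 1) (i + 1) = nu (fun i => b (i + 1)) l i := by
  simp [nu]

theorem nu_last (l : ℕ) : ∀ b : ℕ → ℤ, nu b l (l + 1) = 0 ∧ nu b l l = 1 := by
  induction l with
  | zero => intro b; exact ⟨nu_zero_succ b 0, nu_zero_zero b⟩
  | succ l ih =>
    intro b
    obtain ⟨h1, h2⟩ := ih (fun i => b (i + 1))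
    exact ⟨by rw [nu_succ_succ]; exact h1, by rw [nu_succ_succ]; exact h2⟩

theorem nu_rec (l : ℕ) : ∀ (b : ℕ → ℤ) (i : ℕ), i + 1 ≤ l →
    b (i + 1) * nu b l (i + 1) = nu b l i + nu b l (i + 2) := by
  induction l with
  | zero => intro b i hi; omega
  | succ l ih =>
    intro b i hi
    cases i with
    | zero =>
      rw [nu_succ_succ, nu_succ_zero, nu_succ_succ]
      ring
    | succ i =>
      rw [nu_succ_succ, nu_succ_succ, nu_succ_succ]
      exact ih (fun i => b (i + 1)) i (by omega)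

theorem nu_dec (l : ℕ) : ∀ (b : ℕ → ℤ), (∀ i, 1 ≤ i → i ≤ l → 2 ≤ b i) → ∀ i, i ≤ l →
    nu b l (i + 1) < nu b l i ∧ 0 ≤ nu b l (i + 1) := by
  induction l with
  | zero =>
    intro b _ i hi
    have : i = 0 := by omega
    subst this
    rw [nu_zero_succ, nu_zero_zero]
    exact ⟨by norm_num, le_rfl⟩
  | succ l ih =>
    intro b hb i hi
    have hb' : ∀ i, 1 ≤ i → i ≤ l → 2 ≤ (fun i => b (i + 1)) i := fun i h1 h2 =>
      hb (i + 1) (by omega) (by omega)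
    cases i with
    | zero =>
      obtain ⟨h1, h2⟩ := ih (fun i => b (i + 1)) hb' 0 (by omega)
      rw [nu_succ_succ, nu_succ_zero]
      have hb1 : 2 ≤ b 1 := hb 1 le_rfl (by omega)
      constructor
      · nlinarith
      · linarith
    | succ i =>
      rw [nu_succ_succ, nu_succ_succ]
      exact ih (fun i => b (i + 1)) hb' i (by omega)

theorem nu_pos (l : ℕ) (b : ℕ → ℤ) (hb : ∀ i, 1 ≤ i → i ≤ l → 2 ≤ b i) (i : ℕ) (hi : i ≤ l) :
    0 < nu b l i := by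
  obtain ⟨h1, h2⟩ := nu_dec l b hb i hi
  linarith

theorem nu_coprime (l : ℕ) : ∀ (b : ℕ → ℤ) (i : ℕ), i ≤ l →
    IsCoprime (nu b l i) (nu b l (i + 1)) := by
  induction l with
  | zero =>
    intro b i hi
    have : i = 0 := by omega
    subst this
    rw [nu_zero_zero]
    exact isCoprime_one_left
  | succ l ih =>
    intro b i hi
    cases i with
    | zero =>
      have h := ih (fun i => b (i + 1)) 0 (by omega)
      rw [nu_succ_succ, nu_succ_zero]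
      have h2 := (h.symm.neg_left).add_mul_right_left (b 1)
      have e : b 1 * nu (fun i => b (i + 1)) l 0 - nu (fun i => b (i + 1)) l 1 =
          -nu (fun i => b (i + 1)) l (0 + 1) + b 1 * nu (fun i => b (i + 1)) l 0 := by ring
      rw [e]
      exact h2
    | succ i =>
      rw [nu_succ_succ, nu_succ_succ]
      exact ih (fun i => b (i + 1)) i (by omega)

theorem nu_hjVal (l : ℕ) : ∀ (b : ℕ → ℤ), (∀ i, 1 ≤ i → i ≤ l → 2 ≤ b i) →
    hjVal (lst b l) = (nu b l 0 : ℚ) / (nu b l 1 : ℚ) := by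
  induction l with
  | zero =>
    intro b _
    simp [lst, hjVal, nu]
  | succ l ih =>
    intro b hb
    have hb' : ∀ i, 1 ≤ i → i ≤ l → 2 ≤ (fun i => b (i + 1)) i := fun i h1 h2 =>
      hb (i + 1) (by omega) (by omega)
    have hpos : 0 < nu (fun i => b (i + 1)) l 0 := nu_pos l _ hb' 0 (by omega)
    have hne : (nu (fun i => b (i + 1)) l 0 : ℚ) ≠ 0 := by exact_mod_cast hpos.ne'
    rw [lst_succ, hjVal, ih _ hb', nu_succ_zero, nu_succ_succ, inv_div]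
    push_cast
    field_simp

theorem nu_eq (l : ℕ) (hl : 1 ≤ l) (b : ℕ → ℤ) (hb : ∀ i, 1 ≤ i → i ≤ l → 2 ≤ b i)
    (n r : ℕ) (hr : 0 < r) (hcop : Nat.Coprime r n)
    (hhj : (n : ℚ) / r = hjVal (lst b l)) : nu b l 0 = n ∧ nu b l 1 = r := by
  have h1pos : 0 < nu b l 1 := nu_pos l b hb 1 hl
  have h0pos : 0 < nu b l 0 := nu_pos l b hb 0 (by omega)
  rw [nu_hjVal l b hb] at hhj
  have hrq : (r : ℚ) ≠ 0 := by exact_mod_cast hr.ne'
  have h1q : (nu b l 1 : ℚ) ≠ 0 := by exact_mod_cast h1pos.ne'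
  rw [div_eq_div_iff hrq h1q] at hhj
  have hZ : (n : ℤ) * nu b l 1 = nu b l 0 * r := by exact_mod_cast hhj
  have hcopZ : IsCoprime (n : ℤ) (r : ℤ) := (Nat.isCoprime_iff_coprime.mpr hcop).symm
  have hd1 : (n : ℤ) ∣ nu b l 0 := by
    have : (n : ℤ) ∣ nu b l 0 * r := ⟨nu b l 1, hZ.symm⟩
    exact hcopZ.dvd_of_dvd_mul_right this
  have hd2 : nu b l 0 ∣ (n : ℤ) := by
    have : nu b l 0 ∣ (n : ℤ) * nu b l 1 := ⟨r, hZ⟩
    exact (nu_coprime l b 0 (by omega)).dvd_of_dvd_mul_right this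
  have h0 : nu b l 0 = n := Int.dvd_antisymm h0pos.le (by positivity) hd2 hd1
  refine ⟨h0, ?_⟩
  rw [h0] at hZ
  have hn : (n : ℤ) ≠ 0 := by rw [← h0]; exact h0pos.ne'
  exact mul_left_cancel₀ hn hZ

theorem wronsk (l : ℕ) (b : ℕ → ℤ) (μ ν : ℕ → ℤ)
    (hμ : ∀ i, i + 1 ≤ l → b (i + 1) * μ (i + 1) = μ i + μ (i + 2))
    (hν : ∀ i, i + 1 ≤ l → b (i + 1) * ν (i + 1) = ν i + ν (i + 2)) :
    ∀ i, i ≤ l → μ i * ν (i + 1) - μ (i + 1) * ν i = μ 0 * ν 1 - μ 1 * ν 0 := by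
  intro i
  induction i with
  | zero => intro _; rfl
  | succ k ih =>
    intro hk
    rw [← ih (by omega)]
    have h1 := hμ k hk
    have h2 := hν k hk
    linear_combination (ν (k + 1)) * h1 - (μ (k + 1)) * h2

/-- The combined consequence used by both statements. -/
theorem main (l : ℕ) (hl : 1 ≤ l) (b : ℕ → ℤ) (hb : ∀ i, 1 ≤ i → i ≤ l → 2 ≤ b i)
    (n r : ℕ) (hr : 0 < r) (hcop : Nat.Coprime r n)
    (hhj : (n : ℚ) / r = hjVal ((List.range l).map fun i => b (i + 1)))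
    (m₁ m₂ : ℕ) (μ : ℕ → ℤ) (hμ0 : μ 0 = m₂) (hμl : μ (l + 1) = m₁)
    (hsys : ∀ i, 1 ≤ i → i ≤ l → b i * μ i = μ (i - 1) + μ (i + 1)) :
    nu b l 0 = n ∧ nu b l 1 = r ∧ nu b l (l + 1) = 0 ∧
    (∀ i, i + 1 ≤ l → b (i + 1) * μ (i + 1) = μ i + μ (i + 2)) ∧
    ∀ i, i ≤ l → μ i * nu b l (i + 1) - μ (i + 1) * nu b l i = -(m₁ : ℤ) := by
  obtain ⟨h0, h1⟩ := nu_eq l hl b hb n r hr hcop hhj
  have hμrec : ∀ i, i + 1 ≤ l → b (i + 1) * μ (i + 1) = μ i + μ (i + 2) := by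
    intro i hi
    have h := hsys (i + 1) (by omega) hi
    rw [Nat.add_sub_cancel] at h
    exact h
  obtain ⟨hl0, hl1⟩ := nu_last l b
  refine ⟨h0, h1, hl0, hμrec, ?_⟩
  have hW := wronsk l b μ (nu b l) hμrec (nu_rec l b)
  have hWl := hW l le_rfl
  rw [hl0, hl1, hμl] at hWl
  intro i hi
  rw [hW i hi, ← hWl]
  ring

end Groth.Agent.Lib.HJFrac_helper4
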