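import Mathlib
import Groth.Prelude.Def_Wider
import Groth.Agent.Lib.LocCohJac_helper7

/-!
# Top vanishing tested on primes of dimension one (helper7)
-/

open CategoryTheory CategoryTheory.Limits Opposite Pointwise

namespace Groth.Agent.Lib.LocCohDimOneH7

open Groth.Agent.Lib.LocCohJacH7 LocCoh

universe u

variable {R : Type u} [CommRing R] [IsNoetherianRing R] [IsLocalRing R]

theorem exists_prime_dim_one (I : Ideal R) (hI : 0 < ringKrullDim (R ⧸ I)) :
    ∃ p : Ideal R, p.IsPrime ∧ I ≤ p ∧ ringKrullDim (R ⧸ p) = 1 := by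
  rw [ringKrullDim_quotient, Order.krullDim_pos_iff] at hI
  obtain ⟨x, y, hxy⟩ := hI
  have hx_ne : x.1.asIdeal ≠ IsLocalRing.maximalIdeal R := by
    intro h
    have h1 : x.1.asIdeal < y.1.asIdeal := hxy
    have h2 : y.1.asIdeal ≤ IsLocalRing.maximalIdeal R :=
      IsLocalRing.le_maximalIdeal y.1.isPrime.ne_top
    rw [h] at h1
    exact absurd h1 (not_lt_of_ge h2)
  let S : Set (Ideal R) :=
    {p | p.IsPrime ∧ x.1.asIdeal ≤ p ∧ p ≠ IsLocalRing.maximalIdeal R}
  obtain ⟨p, ⟨hp, hxp, hpm⟩, hmax⟩ :=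
    set_has_maximal_iff_noetherian.2 (inferInstance : IsNoetherian R R) S
      ⟨x.1.asIdeal, x.1.isPrime, le_rfl, hx_ne⟩
  have hIx : I ≤ x.1.asIdeal := (PrimeSpectrum.mem_zeroLocus _ _).1 x.2
  refine ⟨p, hp, hIx.trans hxp, ?_⟩
  rw [ringKrullDim_quotient]
  have hpm' : p < IsLocalRing.maximalIdeal R :=
    lt_of_le_of_ne (IsLocalRing.le_maximalIdeal hp.ne_top) hpm
  have key : ∀ z : ↥(PrimeSpectrum.zeroLocus (p : Set R)),
      z.1.asIdeal = p ∨ z.1.asIdeal = IsLocalRing.maximalIdeal R := by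
    intro z
    by_cases hz : z.1.asIdeal = IsLocalRing.maximalIdeal R
    · exact Or.inr hz
    · left
      have hpz : p ≤ z.1.asIdeal := (PrimeSpectrum.mem_zeroLocus _ _).1 z.2
      by_contra hne
      exact hmax z.1.asIdeal ⟨z.1.isPrime, hxp.trans hpz, hz⟩
        (lt_of_le_of_ne hpz (Ne.symm hne))
  apply le_antisymm
  · rw [Order.krullDim_le_one_iff]
    intro z
    rcases key z with hz | hz
    · left
      intro w _
      show z.1.asIdeal ≤ w.1.asIdeal
      rw [hz]
      exact (PrimeSpectrum.mem_zeroLocus _ _).1 w.2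
    · right
      intro w _
      show w.1.asIdeal ≤ z.1.asIdeal
      rw [hz]
      exact IsLocalRing.le_maximalIdeal w.1.isPrime.ne_top
  · rw [Order.one_le_krullDim_iff]
    refine ⟨⟨⟨p, hp⟩, ?_⟩, ⟨⟨IsLocalRing.maximalIdeal R, inferInstance⟩, ?_⟩, ?_⟩
    · exact (PrimeSpectrum.mem_zeroLocus _ _).2 (le_refl p)
    · exact (PrimeSpectrum.mem_zeroLocus _ _).2 hpm'.le
    · exact hpm'

/-- S17763 -/
theorem main (d : ℕ) (hd : ringKrullDim R = d) :
    (∀ I : Ideal R, 0 < ringKrullDim (R ⧸ I) → Subsingleton (LocCoh.H I d R)) ↔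
      (∀ (p : Ideal R) [p.IsPrime], ringKrullDim (R ⧸ p) = 1 →
        Subsingleton (LocCoh.H p d R)) := by
  constructor
  · intro h p _ hp
    exact h p (by rw [hp]; exact zero_lt_one)
  · intro h I hI
    obtain ⟨p, hp, hIp, hp1⟩ := exists_prime_dim_one I hI
    haveI := hp
    have hvan : Subsingleton (LocCoh.H p d R) := h p hp1
    have hVanp : Van R p d := fun N _ _ i hi =>
      Groth.Agent.Lib.LocCohTopVanH7.main p d hd R
        (fun q _ _ hq => Module.mem_support_iff'.2 ⟨1, fun r hr h0 => hr (by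
          rw [smul_eq_mul, mul_one] at h0
          rw [h0]
          exact zero_mem _)⟩) hvan N i hi
    obtain ⟨s, hs⟩ := (IsNoetherian.noetherian p : p.FG)
    have hs' : Ideal.span (s : Set R) = p := hs
    have hpm : p ≤ IsLocalRing.maximalIdeal R := IsLocalRing.le_maximalIdeal hp.ne_top
    have hVanI : Van R I d := by
      apply local_finset d hd s I (hIp.trans hpm)
        (fun x hx => hpm (by rw [← hs']; exact Ideal.subset_span hx))
      rw [hs', sup_eq_right.2 hIp]
      exact hVanp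
    exact hVanI R d le_rfl

end Groth.Agent.Lib.LocCohDimOneH7
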