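import Mathlib
import Groth.Prelude.Def_Wider
import Groth.Agent.Lib.LocCohDimOne_helper7

/-!
# Ideals maximal with non-vanishing top local cohomology (helper7)
-/

open CategoryTheory CategoryTheory.Limits Opposite Pointwise

namespace Groth.Agent.Lib.LocCohMaxTopH7

open Groth.Agent.Lib.LocCohJacH7 LocCoh

universe u

variable {R : Type u} [CommRing R] [IsNoetherianRing R] [IsLocalRing R]

/-- non-vanishing of the top local cohomology of the ring propagates to larger proper ideals -/
theorem nontrivial_of_le (n : ℕ) (hn : ringKrullDim R = n) (p b : Ideal R) (hpb : p ≤ b)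
    (hb : b ≠ ⊤) (hp : Nontrivial (LocCoh.H p n R)) : Nontrivial (LocCoh.H b n R) := by
  by_contra hcon
  rw [not_nontrivial_iff_subsingleton] at hcon
  have hVanb : Van R b n := fun N _ _ i hi =>
    Groth.Agent.Lib.LocCohTopVanH7.main b n hn R
      (fun q _ _ hq => Module.mem_support_iff'.2 ⟨1, fun r hr h0 => hr (by
        rw [smul_eq_mul, mul_one] at h0
        rw [h0]
        exact zero_mem _)⟩) hcon N i hi
  obtain ⟨s, hs⟩ := (IsNoetherian.noetherian b : b.FG)
  have hs' : Ideal.span (s : Set R) = b := hs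
  have hbm : b ≤ IsLocalRing.maximalIdeal R := IsLocalRing.le_maximalIdeal hb
  have hVanp : Van R p n := by
    apply local_finset n hn s p (hpb.trans hbm)
      (fun x hx => hbm (by rw [← hs']; exact Ideal.subset_span hx))
    rw [hs', sup_eq_right.2 hpb]
    exact hVanb
  haveI := hVanp R n le_rfl
  exact not_subsingleton (LocCoh.H p n R) inferInstance

/-- S11640 -/
theorem main (n : ℕ) (hn : ringKrullDim R = n) (p : Ideal R)
    (hp : Nontrivial (LocCoh.H p n R)) (hp' : 0 < ringKrullDim (R ⧸ p))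
    (hmax : ∀ b : Ideal R, p < b → Nontrivial (LocCoh.H b n R) → ¬ 0 < ringKrullDim (R ⧸ b)) :
    p.IsPrime ∧ ringKrullDim (R ⧸ p) = 1 := by
  have ha : ∀ b : Ideal R, p < b → b ≠ ⊤ → ¬ 0 < ringKrullDim (R ⧸ b) := fun b hlt hb =>
    hmax b hlt (nontrivial_of_le n hn p b hlt.le hb hp)
  have hchain : ∀ z w : ↥(PrimeSpectrum.zeroLocus (p : Set R)), p < z.1.asIdeal → ¬ z < w := by
    intro z w hpz hzw
    apply ha z.1.asIdeal hpz z.1.isPrime.ne_top
    rw [ringKrullDim_quotient, Order.krullDim_pos_iff]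
    exact ⟨⟨z.1, (PrimeSpectrum.mem_zeroLocus _ _).2 (le_refl z.1.asIdeal)⟩,
      ⟨w.1, (PrimeSpectrum.mem_zeroLocus _ _).2 (le_of_lt (show z.1.asIdeal < w.1.asIdeal from hzw))⟩,
      hzw⟩
  have hp'' := hp'
  rw [ringKrullDim_quotient, Order.krullDim_pos_iff] at hp''
  obtain ⟨x, y, hxy⟩ := hp''
  have hpx : p ≤ x.1.asIdeal := (PrimeSpectrum.mem_zeroLocus _ _).1 x.2
  have hxp : x.1.asIdeal = p := by
    by_contra hne
    exact hchain x y (lt_of_le_of_ne hpx (Ne.symm hne)) hxy
  have hprime : p.IsPrime := hxp ▸ x.1.isPrime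
  refine ⟨hprime, ?_⟩
  rw [ringKrullDim_quotient]
  apply le_antisymm
  · rw [Order.krullDim_le_one_iff]
    intro z
    have hpz : p ≤ z.1.asIdeal := (PrimeSpectrum.mem_zeroLocus _ _).1 z.2
    by_cases hz : z.1.asIdeal = p
    · left
      intro w _
      show z.1.asIdeal ≤ w.1.asIdeal
      rw [hz]
      exact (PrimeSpectrum.mem_zeroLocus _ _).1 w.2
    · right
      intro w hzw
      by_contra hwz
      exact hchain z w (lt_of_le_of_ne hpz (Ne.symm hz)) (lt_of_le_not_ge hzw hwz)
  · rw [Order.one_le_krullDim_iff]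
    exact ⟨x, y, hxy⟩

end Groth.Agent.Lib.LocCohMaxTopH7
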