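import Mathlib
import Groth.Agent.Lib.HLVT10_helper3

/-!
# S17758: Grothendieck's connectedness theorem (helper3)
-/

set_option autoImplicit false
set_option maxSynthPendingDepth 3
universe u

namespace Groth.Agent.Lib.HLVTH3

open IsLocalRing Pointwise PrimeSpectrum TopologicalSpace

section Complete

theorem wb_one_le_of (c : WithBot ℕ∞) (d t k : ℕ) (ht : t + 2 ≤ d) (hk : k ≤ t)
    (h : (d : WithBot ℕ∞) ≤ c + (k : WithBot ℕ∞) + 1) : 1 ≤ c := by
  induction c using WithBot.recBotCoe with
  | bot =>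
    exfalso
    rw [WithBot.bot_add, WithBot.bot_add] at h
    exact absurd (lt_of_lt_of_le (WithBot.bot_lt_coe _) h) (not_lt_bot)
  | coe e =>
    induction e using ENat.recTopCoe with
    | top => exact WithBot.coe_le_coe.mpr le_top
    | coe m =>
      have h1 : ((d : ℕ) : WithBot ℕ∞) ≤ ((m + k + 1 : ℕ) : WithBot ℕ∞) := by
        refine h.trans (le_of_eq ?_)
        push_cast
        rfl
      have h2 : d ≤ m + k + 1 := by exact_mod_cast h1
      have h3 : 1 ≤ m := by omega
      have : ((1 : ℕ) : WithBot ℕ∞) ≤ ((m : ℕ) : WithBot ℕ∞) := by exact_mod_cast h3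
      exact_mod_cast this

variable {R : Type u} [CommRing R] [IsDomain R] [IsNoetherianRing R] [IsLocalRing R]
  [IsAdicComplete (maximalIdeal R) R]

/-- S17758 -/
theorem main17758 (d : ℕ) (hd : ringKrullDim R = d) (t : ℕ) (ht : t + 2 ≤ d) (f : Fin t → R)
    (I : Ideal R) (hItop : I ≠ ⊤) (hI : I.radical = (Ideal.span (Set.range f)).radical) :
    IsConnected {x : PrimeSpectrum R | I ≤ x.asIdeal ∧ x.asIdeal ≠ maximalIdeal R} := by
  classical
  haveI : Nontrivial (R ⧸ I) := Ideal.Quotient.nontrivial_iff.2 hItop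
  haveI : IsLocalRing (R ⧸ I) :=
    IsLocalRing.of_surjective' (Ideal.Quotient.mk I) Ideal.Quotient.mk_surjective
  have hsurj : Function.Surjective (Ideal.Quotient.mk I) := Ideal.Quotient.mk_surjective
  obtain ⟨s, hs⟩ : ∃ s : Finset R, s = Finset.image f Finset.univ := ⟨_, rfl⟩
  have hscoe : (s : Set R) = Set.range f := by
    rw [hs, Finset.coe_image, Finset.coe_univ, Set.image_univ]
  have hscard : s.card ≤ t := by
    rw [hs]
    exact Finset.card_image_le.trans (by rw [Finset.card_univ, Fintype.card_fin])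
  have hmain := main11670 I hItop s (by rw [hscoe, hI])
  -- `c(R) = sdim R = d`
  have hfin : topologicalKrullDim (PrimeSpectrum R) < ⊤ := by
    rw [PrimeSpectrum.topologicalKrullDim_eq_ringKrullDim]
    exact ringKrullDim_lt_top
  obtain ⟨-, h67b⟩ := Groth.Agent.S11667.result (PrimeSpectrum R) hfin
  have hconn : LocCoh.connDim (PrimeSpectrum R) = LocCoh.subdim (PrimeSpectrum R) :=
    h67b.mpr inferInstance
  have hsub : (d : WithBot ℕ∞) ≤ LocCoh.subdim (PrimeSpectrum R) := by
    apply Groth.Agent.Lib.ConnDimCplH3.le_subdim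
    intro p hp
    rw [IsDomain.minimalPrimes_eq_singleton_bot, Set.mem_singleton_iff] at hp
    rw [hp, ← hd]
    exact (ringKrullDim_eq_of_ringEquiv (RingEquiv.quotientBot R)).ge
  have hmin : (d : WithBot ℕ∞) ≤
      min (LocCoh.connDim (PrimeSpectrum R) + 1) (LocCoh.subdim (PrimeSpectrum R)) := by
    refine le_min ?_ hsub
    rw [hconn]
    exact hsub.trans (le_add_of_nonneg_right zero_le_one)
  have hc1 : 1 ≤ LocCoh.connDim (PrimeSpectrum (R ⧸ I)) :=
    wb_one_le_of _ d t s.card ht hscard (hmin.trans hmain)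
  -- the punctured spectrum of `R ⧸ I` is connected
  have hpunct : IsConnected ({closedPoint (R ⧸ I)}ᶜ : Set (PrimeSpectrum (R ⧸ I))) := by
    by_contra hcon
    have h1 : LocCoh.connDim (PrimeSpectrum (R ⧸ I)) ≤
        topologicalKrullDim ↥({closedPoint (R ⧸ I)} : Set (PrimeSpectrum (R ⧸ I))) := by
      unfold LocCoh.connDim
      exact iInf_le_of_le {closedPoint (R ⧸ I)}
        (iInf_le_of_le ⟨isClosed_singleton_closedPoint (R ⧸ I), hcon⟩ le_rfl)
    have h2 : topologicalKrullDim ↥({closedPoint (R ⧸ I)} : Set (PrimeSpectrum (R ⧸ I))) ≤ 0 :=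
      topologicalKrullDim_zero_of_discreteTopology _
    have h3 : (1 : WithBot ℕ∞) ≤ 0 := hc1.trans (h1.trans h2)
    exact absurd h3 (by decide)
  -- transfer along the closed embedding
  have himg : PrimeSpectrum.comap (Ideal.Quotient.mk I) ''
      ({closedPoint (R ⧸ I)}ᶜ : Set (PrimeSpectrum (R ⧸ I))) =
      {x : PrimeSpectrum R | I ≤ x.asIdeal ∧ x.asIdeal ≠ maximalIdeal R} := by
    have hmm : (maximalIdeal (R ⧸ I)).comap (Ideal.Quotient.mk I) = maximalIdeal R := by
      haveI : ((maximalIdeal (R ⧸ I)).comap (Ideal.Quotient.mk I)).IsMaximal :=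
        Ideal.comap_isMaximal_of_surjective _ hsurj
      exact IsLocalRing.eq_maximalIdeal inferInstance
    ext x
    constructor
    · rintro ⟨y, hy, rfl⟩
      refine ⟨?_, fun h => hy ?_⟩
      · intro r hr
        show Ideal.Quotient.mk I r ∈ y.asIdeal
        rw [Ideal.Quotient.eq_zero_iff_mem.mpr hr]
        exact zero_mem _
      · rw [Set.mem_singleton_iff]
        apply PrimeSpectrum.comap_injective_of_surjective _ hsurj
        apply PrimeSpectrum.ext
        show y.asIdeal.comap (Ideal.Quotient.mk I) = (maximalIdeal (R ⧸ I)).comap _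
        rw [hmm]
        exact h
    · rintro ⟨hIx, hxm⟩
      haveI hxp : (x.asIdeal.map (Ideal.Quotient.mk I)).IsPrime :=
        Ideal.map_isPrime_of_surjective hsurj (by rw [Ideal.mk_ker]; exact hIx)
      have hcm : (x.asIdeal.map (Ideal.Quotient.mk I)).comap (Ideal.Quotient.mk I) =
          x.asIdeal := by
        rw [Ideal.comap_map_of_surjective _ hsurj, ← RingHom.ker_eq_comap_bot, Ideal.mk_ker,
          sup_eq_left.mpr hIx]
      refine ⟨⟨x.asIdeal.map (Ideal.Quotient.mk I), hxp⟩, ?_, ?_⟩
      · intro h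
        rw [Set.mem_singleton_iff] at h
        apply hxm
        have h2 := congrArg (fun z : PrimeSpectrum (R ⧸ I) =>
          z.asIdeal.comap (Ideal.Quotient.mk I)) h
        have h3 : (x.asIdeal.map (Ideal.Quotient.mk I)).comap (Ideal.Quotient.mk I) =
            (maximalIdeal (R ⧸ I)).comap (Ideal.Quotient.mk I) := h2
        rw [hcm, hmm] at h3
        exact h3
      · apply PrimeSpectrum.ext
        exact hcm
  rw [← himg]
  exact hpunct.image _ (PrimeSpectrum.continuous_comap _).continuousOn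

end Complete

end Groth.Agent.Lib.HLVTH3
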