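import Mathlib
import Groth.Agent.Lib.HLVT8_helper3
import Groth.Agent.Lib.NormalComplDomain_helper3
import Groth.Agent.Lib.GRingIso_helper3
import Groth.Agent.Lib.FFTransfer_helper3
import Groth.Agent.Lib.LocCohAff2_helper9
import Groth.Agent.S11626

/-!
# S1797: cd(A, I) < dim A for excellent normal local domains (helper3)
-/

set_option autoImplicit false
set_option maxSynthPendingDepth 3
universe u

namespace Groth.Agent.Lib.HLVTH3

open IsLocalRing PrimeSpectrum AlgebraicGeometry

theorem isDomain_cpl_of_excellent_normal (A : Type u) [CommRing A] [IsDomain A] [IsLocalRing A]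
    [IsNoetherianRing A] [IsIntegrallyClosed A] (hG : CAlg.IsGRing A) :
    IsDomain (EGA4.Cpl A) := by
  have hcpl : CAlg.IsRegularHom A (EGA4.Cpl A) :=
    Groth.Agent.Lib.GRingIsoH3.isRegularHom_cpl_of_isGRing A hG
  have hnf : EGA4.HasGeomNormalFormalFibres A := fun p _ =>
    (Groth.Agent.Lib.FFTransferH3.isNormalHom_of_isRegularHom A (EGA4.Cpl A) hcpl).2 p
  haveI : IsLocalRing (integralClosure A (FractionRing A)) := by
    rw [IsIntegrallyClosed.integralClosure_eq_bot]
    exact (Algebra.botEquivOfInjective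
      (IsFractionRing.injective A (FractionRing A))).symm.toRingEquiv.isLocalRing
  exact Groth.Agent.Lib.NormalComplDomainH3.isDomain_cpl_of_isLocalRing_integralClosure A hnf

/-- S1797 -/
theorem main1797 (A : Type u) [CommRing A] [IsDomain A] [IsLocalRing A] [IsNoetherianRing A]
    [IsIntegrallyClosed A] (hA : EGA4.IsExcellent A) (I : Ideal A)
    (hI : (1 : WithBot ℕ∞) ≤ ringKrullDim (A ⧸ I)) :
    (∀ (M : Type u) [AddCommGroup M] [Module A M] (i : ℕ), ringKrullDim A ≤ (i : WithBot ℕ∞) →
      Subsingleton (LocCoh.H I i M)) ∧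
    (ringKrullDim A = 2 →
      IsAffine (↑(LocCoh.puncturedOpen A I) : Scheme.{u})) := by
  obtain ⟨-, -, hG, -⟩ := hA
  haveI hdom := isDomain_cpl_of_excellent_normal A hG
  obtain ⟨d, hd⟩ := exists_nat_dim A
  have part1 : ∀ (M : Type u) [AddCommGroup M] [Module A M] (i : ℕ),
      ringKrullDim A ≤ (i : WithBot ℕ∞) → Subsingleton (LocCoh.H I i M) := by
    intro M _ _ i hi
    apply main0332 A I d hd _ M i (by rw [hd] at hi; exact_mod_cast hi)
    intro p hp _
    have hp' : p ∈ minimalPrimes (EGA4.Cpl A) := hp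
    rw [IsDomain.minimalPrimes_eq_singleton_bot, Set.mem_singleton_iff] at hp'
    rw [hp', sup_bot_eq]
    have := Groth.Agent.Lib.ConnDimCplH3.ringKrullDim_quot_map (R := A) I
    rw [this]
    exact hI
  refine ⟨part1, fun h2 => ?_⟩
  have hItop : I ≠ ⊤ := by
    rintro rfl
    haveI : Subsingleton (A ⧸ (⊤ : Ideal A)) := Ideal.Quotient.subsingleton_iff.mpr rfl
    rw [ringKrullDim_eq_bot_of_subsingleton] at hI
    exact absurd hI (by decide)
  have hcd1 : LocCoh.CdLE A I 1 := by
    intro M _ _ i hi
    apply part1 M i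
    rw [h2]
    have : ((2 : ℕ) : WithBot ℕ∞) ≤ ((i : ℕ) : WithBot ℕ∞) := by exact_mod_cast hi
    exact_mod_cast this
  by_cases hI0 : I = ⊥
  · subst hI0
    haveI : IsEmpty (↑(LocCoh.puncturedOpen A (⊥ : Ideal A)) : Scheme.{u}) := by
      constructor
      rintro ⟨x, hx⟩
      apply hx
      let x' : PrimeSpectrum A := x
      have hx' : x' ∈ zeroLocus (((⊥ : Ideal A) : Set A)) := by
        rw [mem_zeroLocus]
        intro a ha
        rw [SetLike.mem_coe, Ideal.mem_bot] at ha
        rw [ha]
        exact zero_mem _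
      exact hx'
    exact isAffine_of_isEmpty
  · have hcd0 : ¬ LocCoh.CdLE A I 0 := by
      intro hcon
      have hne : I.height ≠ ⊤ := Ideal.height_ne_top hItop
      obtain ⟨h, hh⟩ := ENat.ne_top_iff_exists.mp hne
      have hpos : 0 < h := by
        rcases Nat.eq_zero_or_pos h with h0 | h0
        · exfalso
          subst h0
          apply hI0
          rw [← Ideal.height_eq_zero_iff_eq_bot]
          exact hh.symm
        · exact h0
      have hnt := Groth.Agent.S11626.result A I hItop h hh.symm
      exact not_subsingleton _ (hcon A h hpos)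
    exact (LocCohAff.nonempty_and_isAffine_punctured A I hcd1 hcd0).2

end Groth.Agent.Lib.HLVTH3
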