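import Mathlib
import Groth.Prelude.Def_StabCat
import Groth.Agent.Lib.ChainSeries_helper6

/-!
# Filtrations as strictly increasing series against filtrations as finite chains (helper6)

`existsUnique_chain`: existence and uniqueness of a filtration of Harder–Narasimhan type recorded as
an `LTSeries` of subobjects gives existence and uniqueness of the same filtration recorded as a
finite chain of subobjects.
APPEND-ONLY once landed.
-/

set_option autoImplicit false
set_option linter.all false

universe v u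
open CategoryTheory CategoryTheory.Limits

namespace Groth.Agent.Lib.HNChain

open Groth.Agent.Lib.ChainSeries

variable {C : Type u} [Category.{v} C] [Abelian C] {E : C}

/-- filtrations as series: from `⊥` to `⊤`, factors satisfying `SS`, consecutive factors related by
`R`. -/
def SerP (SS : C → Prop) (R : C → C → Prop) (s : LTSeries (Subobject E)) : Prop :=
  s.head = ⊥ ∧ s.last = ⊤ ∧ (∀ i : Fin s.length, SS (StabCat.factor s i)) ∧
    ∀ i j : Fin s.length, i.val + 1 = j.val → R (StabCat.factor s i) (StabCat.factor s j)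

/-- filtrations as finite chains. -/
def ChainP (ok : C → Prop) (T : C → Prop) (RT : C → C → Prop) (F : Finset (Subobject E)) : Prop :=
  ⊥ ∈ F ∧ ⊤ ∈ F ∧ IsChain (fun A B : Subobject E => A ≤ B) (↑F : Set (Subobject E)) ∧
  (∀ A ∈ F, ok (A : C)) ∧
  (∀ A ∈ F, ∀ B ∈ F, ∀ hAB : A < B, (∀ D ∈ F, ¬ (A < D ∧ D < B)) →
    T (cokernel (Subobject.ofLE A B hAB.le))) ∧
  (∀ A ∈ F, ∀ B ∈ F, ∀ B' ∈ F, ∀ hAB : A < B, ∀ hBB : B < B',
     (∀ D ∈ F, ¬ (A < D ∧ D < B)) → (∀ D ∈ F, ¬ (B < D ∧ D < B')) →
       RT (cokernel (Subobject.ofLE A B hAB.le)) (cokernel (Subobject.ofLE B B' hBB.le)))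

theorem factor_eq (s : LTSeries (Subobject E)) (i : Fin s.length) {A B : Subobject E}
    (hA : A = s i.castSucc) (hB : B = s i.succ) (h : A ≤ B) :
    cokernel (Subobject.ofLE A B h) = StabCat.factor s i := by
  subst hA hB
  rfl

section

variable (ok SS T : C → Prop) (R RT : C → C → Prop)
  (hbot : ok ((⊥ : Subobject E) : C))
  (hext : ∀ {A B : Subobject E} (h : A ≤ B), ok (A : C) →
    ok (cokernel (Subobject.ofLE A B h)) → ok (B : C))
  (hSSok : ∀ F, SS F → ok F)
  (hT : ∀ {A B : Subobject E} (h : A ≤ B), ok (A : C) → ok (B : C) →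
    (T (cokernel (Subobject.ofLE A B h)) ↔ SS (cokernel (Subobject.ofLE A B h))))
  (hR : ∀ F F', SS F → SS F' → (RT F F' ↔ R F F'))

include hbot hext hSSok in
theorem ok_term {s : LTSeries (Subobject E)} (hs : SerP SS R s) (i : Fin (s.length + 1)) :
    ok ((s i : Subobject E) : C) := by
  induction i using Fin.induction with
  | zero =>
    have h0 : s 0 = ⊥ := hs.1
    rw [h0]
    exact hbot
  | succ i ih =>
    exact hext (le_of_lt (s.step i)) ih (hSSok _ (hs.2.2.1 i))

include hbot hext hSSok hT hR in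
theorem chainP_of_serP {s : LTSeries (Subobject E)} (hs : SerP SS R s)
    (F : Finset (Subobject E)) (hF : ∀ x, x ∈ s ↔ x ∈ F) : ChainP ok T RT F := by
  have hok := ok_term ok SS R hbot hext hSSok hs
  refine ⟨(hF _).mp ⟨0, hs.1⟩, (hF _).mp ⟨Fin.last _, hs.2.1⟩,
    isChain_terms s _ (fun x => by rw [hF]; rfl), ?_, ?_, ?_⟩
  · intro A hA
    obtain ⟨i, rfl⟩ := (hF A).mpr hA
    exact hok i
  · intro A hA B hB hAB hno
    obtain ⟨i, h1, h2⟩ := exists_index_of_consec s ((hF A).mpr hA) ((hF B).mpr hB) hAB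
      (fun D hD => hno D ((hF D).mp hD))
    have hokA : ok (A : C) := by rw [h1]; exact hok _
    have hokB : ok (B : C) := by rw [h2]; exact hok _
    rw [hT hAB.le hokA hokB, factor_eq s i h1 h2]
    exact hs.2.2.1 i
  · intro A hA B hB B' hB' hAB hBB hno hno'
    obtain ⟨i, h1, h2⟩ := exists_index_of_consec s ((hF A).mpr hA) ((hF B).mpr hB) hAB
      (fun D hD => hno D ((hF D).mp hD))
    obtain ⟨j, h3, h4⟩ := exists_index_of_consec s ((hF B).mpr hB) ((hF B').mpr hB') hBB
      (fun D hD => hno' D ((hF D).mp hD))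
    have hij : i.succ = j.castSucc := (LTSeries.strictMono s).injective (h2.symm.trans h3)
    have hij' : i.val + 1 = j.val := by
      have := congrArg Fin.val hij
      simpa using this
    rw [factor_eq s i h1 h2, factor_eq s j h3 h4, hR _ _ (hs.2.2.1 i) (hs.2.2.1 j)]
    exact hs.2.2.2 i j hij'

include hT hR in
theorem exists_serP_of_chainP {F : Finset (Subobject E)} (hF : ChainP ok T RT F) :
    ∃ s : LTSeries (Subobject E), (∀ x, x ∈ s ↔ x ∈ F) ∧ SerP SS R s := by
  obtain ⟨hb, ht, hch, hokF, hTF, hRF⟩ := hF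
  obtain ⟨s, hs⟩ := exists_series_of_chain F ⟨⊥, hb⟩ hch
  have hmem : ∀ i, s i ∈ F := fun i => (hs _).mp ⟨i, rfl⟩
  have hSS : ∀ i : Fin s.length, SS (StabCat.factor s i) := by
    intro i
    have h1 := hTF _ (hmem i.castSucc) _ (hmem i.succ) (s.step i)
      (fun D hD => not_between s i D ((hs D).mpr hD))
    rw [hT _ (hokF _ (hmem _)) (hokF _ (hmem _))] at h1
    exact h1
  refine ⟨s, hs, head_eq_bot s ((hs _).mpr hb), last_eq_top s ((hs _).mpr ht), hSS, ?_⟩
  intro i j hij
  have hij' : i.succ = j.castSucc := Fin.ext (by simpa using hij)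
  have hlt : s i.succ < s j.succ := by rw [hij']; exact s.step j
  have h1 := hRF _ (hmem i.castSucc) _ (hmem i.succ) _ (hmem j.succ) (s.step i) hlt
    (fun D hD => not_between s i D ((hs D).mpr hD))
    (fun D hD => by rw [hij']; exact not_between s j D ((hs D).mpr hD))
  rw [factor_eq s i rfl rfl, factor_eq s j (congrArg s hij') rfl,
    hR _ _ (hSS i) (hSS j)] at h1
  exact h1

include hbot hext hSSok hT hR in
/-- uniqueness and existence of filtrations as series give the same for finite chains. -/
theorem existsUnique_chain (h : ∃! s : LTSeries (Subobject E), SerP SS R s) :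
    ∃! F : Finset (Subobject E), ChainP ok T RT F := by
  classical
  obtain ⟨s₀, hs₀, huniq⟩ := h
  refine ⟨Finset.univ.image (fun i => s₀ i), ?_, ?_⟩
  · apply chainP_of_serP ok SS T R RT hbot hext hSSok hT hR hs₀
    intro x
    simp only [Finset.mem_image, Finset.mem_univ, true_and]
    rfl
  · intro F hF
    obtain ⟨s, hs, hsP⟩ := exists_serP_of_chainP ok SS T R RT hT hR hF
    have := huniq s hsP
    subst this
    ext x
    rw [← hs x]
    simp only [Finset.mem_image, Finset.mem_univ, true_and]
    rfl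

end

end Groth.Agent.Lib.HNChain
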