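import Mathlib
import Groth.Prelude
import Groth.Agent.Lib.TwistHilb_helper6
import Groth.Agent.Lib.HNChain_helper6
import Groth.Agent.Lib.ShStab1_helper6
import Groth.Agent.Lib.ShStab2_helper6
import Groth.Agent.Lib.CohSerre_helper3
import Groth.Agent.Lib.CohDev16_helper8

/-!
# Harder–Narasimhan filtrations on projective space as finite chains (helper6)

Translation of the Harder–Narasimhan filtration with respect to `O(1)` (`ShStab.IsHNFiltration`)
into the finite-chain form with Hilbert polynomials computed by twisting with `O(m)`, `m ∈ ℤ`.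
APPEND-ONLY once landed.
-/

set_option autoImplicit false
set_option linter.all false
set_option maxHeartbeats 1600000

universe u
open Polynomial StabCat
open CategoryTheory CategoryTheory.Limits AlgebraicGeometry TopologicalSpace

namespace Groth.Agent.Lib.HNPn

open Groth.Agent.Lib.TwistHilb Groth.Agent.Lib.HNChain Groth.Agent.Lib.HilbCalc
open Groth.Agent.Lib.ShStabH6 Groth.Agent.ProjTens

variable (n : ℕ) (k : Type u) [Field k] (d : ℕ)

/-- the condition on a factor: dimension `d`, pure, semistable. -/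
def T (Q : (CohB1.ProjSpace n k).Modules) : Prop :=
  (topologicalKrullDim ↥(CohB1.support Q) = (d : WithBot ℕ∞) ∧
      ∀ (G : (CohB1.ProjSpace n k).Modules) (ι : G ⟶ Q), Mono ι → Coh.IsCoh G → ¬ IsZero G →
        topologicalKrullDim ↥(CohB1.support G) = (d : WithBot ℕ∞)) ∧
    (∀ (G : (CohB1.ProjSpace n k).Modules) (ι : G ⟶ Q), Mono ι → Coh.IsCoh G → ¬ IsZero G →
      ∀ φ ψ : Polynomial ℚ,
        (∀ m : ℤ, (Curv2.euler k (CohB1.ProjSpace n k)
          (CohB1.tensorMod Q (Twist.twistProjSpace n k m)) : ℚ) = φ.eval (m : ℚ)) →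
        (∀ m : ℤ, (Curv2.euler k (CohB1.ProjSpace n k)
          (CohB1.tensorMod G (Twist.twistProjSpace n k m)) : ℚ) = ψ.eval (m : ℚ)) →
        W4c2simpsonmod1.RedLE d ψ φ)

/-- the condition on consecutive factors. -/
def RT (Q Q' : (CohB1.ProjSpace n k).Modules) : Prop :=
  ∀ ψ ψ' : Polynomial ℚ,
    (∀ m : ℤ, (Curv2.euler k (CohB1.ProjSpace n k)
      (CohB1.tensorMod Q (Twist.twistProjSpace n k m)) : ℚ) = ψ.eval (m : ℚ)) →
    (∀ m : ℤ, (Curv2.euler k (CohB1.ProjSpace n k)
      (CohB1.tensorMod Q' (Twist.twistProjSpace n k m)) : ℚ) = ψ'.eval (m : ℚ)) →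
    W4c2simpsonmod1.RedLT d ψ' ψ

theorem T_iff {Q : (CohB1.ProjSpace n k).Modules} (hQ : Coh.IsCoh Q) :
    T n k d Q ↔ ShStab.IsSemistable k (CohB1.ProjSpace n k) (OO n k 1) Q d := by
  haveI := isProper n k
  have hL := isAmple_one n k
  constructor
  · rintro ⟨⟨hdim, hpure⟩, hss⟩
    have hz : ¬ IsZero Q := by
      intro hz
      have h1 := support_eq_empty_of_isZero hz
      haveI : IsEmpty ↥(CohB1.support Q) := by rw [h1]; infer_instance
      rw [topDim_eq_bot_of_isEmpty] at hdim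
      exact WithBot.bot_ne_coe hdim
    refine ⟨hQ, hz, hpure, ?_⟩
    intro F ι hι hF hFz hni pF pE hpF hpE
    have e1 := euler_twist_int n k F hF pF hpF
    have e2 := euler_twist_int n k Q hQ pE hpE
    exact (wRedLE_iff (alpha_pos k hL hF d (hpure F ι hι hF hFz) hpF)
      (alpha_pos k hL hQ d hdim hpE)).mp (hss F ι hι hF hFz pE pF e2 e1)
  · rintro ⟨-, hz, hp, hss⟩
    have hdim := dim_support_of_isPure hp hQ hz
    refine ⟨⟨hdim, hp⟩, ?_⟩
    intro G ι hι hG hGz φ ψ hφ hψ
    have hpφ := isHilbPoly_of_int n k Q φ hφ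
    have hpψ := isHilbPoly_of_int n k G ψ hψ
    by_cases hiso : IsIso ι
    · have : ψ = φ := isHilbPoly_unique k (isHilbPoly_of_iso k (asIso ι) hpψ) hpφ
      subst this
      exact ⟨0, fun m _ => le_rfl⟩
    · exact (wRedLE_iff (alpha_pos k hL hG d (hp G ι hι hG hGz) hpψ)
        (alpha_pos k hL hQ d hdim hpφ)).mpr (hss G ι hι hG hGz hiso ψ φ hpψ hpφ)

theorem RT_iff {Q Q' : (CohB1.ProjSpace n k).Modules}
    (hQ : ShStab.IsSemistable k (CohB1.ProjSpace n k) (OO n k 1) Q d)
    (hQ' : ShStab.IsSemistable k (CohB1.ProjSpace n k) (OO n k 1) Q' d) :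
    RT n k d Q Q' ↔ ∀ p q : ℚ[X], ShStab.IsHilbPoly k (CohB1.ProjSpace n k) (OO n k 1) Q p →
      ShStab.IsHilbPoly k (CohB1.ProjSpace n k) (OO n k 1) Q' q → StabCat.RedLT d q p := by
  haveI := isProper n k
  have hL := isAmple_one n k
  have hd := dim_support_of_isPure hQ.2.2.1 hQ.1 hQ.2.1
  have hd' := dim_support_of_isPure hQ'.2.2.1 hQ'.1 hQ'.2.1
  constructor
  · intro h p q hp hq
    exact (wRedLT_iff (alpha_pos k hL hQ'.1 d hd' hq) (alpha_pos k hL hQ.1 d hd hp)).mp
      (h p q (euler_twist_int n k Q hQ.1 p hp) (euler_twist_int n k Q' hQ'.1 q hq))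
  · intro h ψ ψ' hψ hψ'
    have hp := isHilbPoly_of_int n k Q ψ hψ
    have hq := isHilbPoly_of_int n k Q' ψ' hψ'
    exact (wRedLT_iff (alpha_pos k hL hQ'.1 d hd' hq) (alpha_pos k hL hQ.1 d hd hp)).mpr
      (h ψ ψ' hp hq)

/-- From the Harder–Narasimhan filtration as a series to the finite-chain form. -/
theorem chain_of_series (E : (CohB1.ProjSpace n k).Modules)
    (h : ∃! s : LTSeries (Subobject E),
      ShStab.IsHNFiltration k (CohB1.ProjSpace n k) (OO n k 1) E d s) :
    ∃! C : Finset (Subobject E), ChainP Coh.IsCoh (T n k d) (RT n k d) C := by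
  haveI := isProper n k
  haveI : IsLocallyNoetherian (CohB1.ProjSpace n k) :=
    LocallyOfFiniteType.isLocallyNoetherian (CohB1.ProjSpace n k ↘ Spec (CommRingCat.of k))
  refine existsUnique_chain Coh.IsCoh
    (fun G => ShStab.IsSemistable k (CohB1.ProjSpace n k) (OO n k 1) G d) (T n k d)
    (fun Q Q' => ∀ p q : ℚ[X], ShStab.IsHilbPoly k (CohB1.ProjSpace n k) (OO n k 1) Q p →
      ShStab.IsHilbPoly k (CohB1.ProjSpace n k) (OO n k 1) Q' q → StabCat.RedLT d q p)
    (RT n k d) ?_ ?_ ?_ ?_ ?_ h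
  · exact CohDevH8.isCoh_of_isZero (IsZero.of_iso (isZero_zero _) Subobject.botCoeIsoZero)
  · intro A B hAB hA hQ
    exact Groth.Agent.Lib.CohSerreH3.isCoh_of_shortExact (cokerSC (Subobject.ofLE A B hAB))
      (cokerSC_shortExact _) hA hQ
  · intro F hF
    exact hF.1
  · intro A B hAB hA hB
    exact T_iff n k d (CohKerH8.isCoh_cokernel hA hB _)
  · intro F F' hF hF'
    exact RT_iff n k d hF hF'

end Groth.Agent.Lib.HNPn
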