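import Mathlib
import Groth.Prelude
import Groth.Agent.Lib.ShStab2_helper6
import Groth.Agent.Lib.CohAb1_helper2
import Groth.Agent.Lib.AbFilt9_helper6
import Groth.Agent.Lib.CohSerre_helper3

/-!
# The axioms of polynomial stability for coherent modules on a projective scheme (helper6)

`ax`: the structure `AbFilt.Ax` for coherent modules on a scheme proper over a field with an ample
invertible module; consequences: `main15200` (maximal destabilising submodule), `main15191`
(Harder–Narasimhan filtration), `main15202` (Jordan–Hölder filtration).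
APPEND-ONLY once landed.
-/

set_option autoImplicit false
set_option linter.all false
set_option maxHeartbeats 1600000

universe u
open Polynomial StabCat
open CategoryTheory CategoryTheory.Limits AlgebraicGeometry TopologicalSpace

namespace Groth.Agent.Lib.ShStabH6

open Groth.Agent.Lib.HilbCalc Groth.Agent.Lib.HilbCalc2 Groth.Agent.Lib.AbFilt
open Groth.Agent.Lib.CohAbH2

/-- the dimension bound on the support. -/
def DimLE (X : Scheme.{u}) (d : ℕ) (A : X.Modules) : Prop :=
  topologicalKrullDim (CohB1.support A) ≤ (d : WithBot ℕ∞)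

section Acc

variable {X : Scheme.{u}} [AlgebraicGeometry.IsNoetherian X]

/-- the subobject of `⟨E, hE⟩` in the category of coherent modules attached to a coherent
submodule. -/
noncomputable def toCohSub {E : X.Modules} (hE : Coh.IsCoh E)
    (S : {S : Subobject E // Coh.IsCoh (S : X.Modules)}) :
    Subobject (⟨E, hE⟩ : CohC X) :=
  haveI : Mono (ObjectProperty.homMk S.1.arrow :
      (⟨(S.1 : X.Modules), S.2⟩ : CohC X) ⟶ ⟨E, hE⟩) :=
    (cohP X).ι.mono_of_mono_map (inferInstanceAs (Mono S.1.arrow))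
  Subobject.mk (ObjectProperty.homMk S.1.arrow :
      (⟨(S.1 : X.Modules), S.2⟩ : CohC X) ⟶ ⟨E, hE⟩)

theorem toCohSub_le_iff {E : X.Modules} (hE : Coh.IsCoh E)
    (S T : {S : Subobject E // Coh.IsCoh (S : X.Modules)}) :
    toCohSub hE S ≤ toCohSub hE T ↔ S.1 ≤ T.1 := by
  haveI hS : Mono (ObjectProperty.homMk S.1.arrow :
      (⟨(S.1 : X.Modules), S.2⟩ : CohC X) ⟶ ⟨E, hE⟩) :=
    (cohP X).ι.mono_of_mono_map (inferInstanceAs (Mono S.1.arrow))
  haveI hT : Mono (ObjectProperty.homMk T.1.arrow :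
      (⟨(T.1 : X.Modules), T.2⟩ : CohC X) ⟶ ⟨E, hE⟩) :=
    (cohP X).ι.mono_of_mono_map (inferInstanceAs (Mono T.1.arrow))
  constructor
  · intro h
    have h1 := Subobject.ofMkLEMk_comp (f := (ObjectProperty.homMk S.1.arrow :
      (⟨(S.1 : X.Modules), S.2⟩ : CohC X) ⟶ ⟨E, hE⟩)) (g := (ObjectProperty.homMk T.1.arrow :
      (⟨(T.1 : X.Modules), T.2⟩ : CohC X) ⟶ ⟨E, hE⟩)) h
    refine Subobject.le_of_comm (Subobject.ofMkLEMk _ _ h).hom ?_
    exact congrArg (fun t => t.hom) h1
  · intro h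
    refine Subobject.mk_le_mk_of_comm (ObjectProperty.homMk (Subobject.ofLE _ _ h)) ?_
    apply ObjectProperty.hom_ext
    exact Subobject.ofLE_arrow h

theorem acc_coh (E : X.Modules) (hE : Coh.IsCoh E) :
    WellFounded (fun S T : {S : Subobject E // Coh.IsCoh (S : X.Modules)} => T.1 < S.1) := by
  haveI : IsNoetherianObject (⟨E, hE⟩ : CohC X) := isNoetherianObject _
  have hwf : WellFounded (fun a b : Subobject (⟨E, hE⟩ : CohC X) => b < a) :=
    wellFounded_gt
  refine Subrelation.wf ?_ (InvImage.wf (toCohSub hE) hwf)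
  intro S T hlt
  show toCohSub hE T < toCohSub hE S
  rw [lt_iff_le_not_ge, toCohSub_le_iff, toCohSub_le_iff]
  exact lt_iff_le_not_ge.mp hlt

end Acc

variable (k : Type u) [Field k] {X : Scheme.{u}} [X.Over (Spec (CommRingCat.of k))]
  [IsProper (X ↘ Spec (CommRingCat.of k))]

theorem dim_support_le_of_epi {E G : X.Modules} (hE : Coh.IsCoh E) (hG : Coh.IsCoh G)
    (π : E ⟶ G) [Epi π] :
    topologicalKrullDim (CohB1.support G) ≤ topologicalKrullDim (CohB1.support E) := by
  haveI := hE.1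
  haveI := hG.1
  exact (Topology.IsEmbedding.inclusion
    (CohDevH8.support_subset_of_epi π)).isInducing.topologicalKrullDim_le

section

variable {L : X.Modules} (hL : CohB1.IsAmple L) (d : ℕ)

include hL

/-- multiplicities are nonnegative integers when the support has dimension at most `d`. -/
theorem alpha_data {A : X.Modules} (hA : Coh.IsCoh A) (hD : DimLE X d A) {P : ℚ[X]}
    (hP : ShStab.IsHilbPoly k X L A P) : 0 ≤ alpha d P ∧ ∃ n : ℤ, alpha d P = n := by
  constructor
  · by_cases hz : IsZero A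
    · rw [eq_zero_of_isZero k hL.1 hA hz hP, alpha_zero]
    · obtain ⟨r, hr⟩ := exists_dim_support k hz
      have hle : (r : WithBot ℕ∞) ≤ d := by rw [← hr]; exact hD
      have hrd : r ≤ d := by exact_mod_cast hle
      rcases Nat.eq_or_lt_of_le hrd with h | h
      · subst h
        exact (alpha_pos k hL hA r hr hP).le
      · rw [alpha_eq_zero_of_natDegree_lt
          (lt_of_le_of_lt (natDegree_le k hL.1 hA r hr.le hP) h)]
  · obtain ⟨M, -, ε⟩ := Groth.Agent.InvTensP.exists_inverse L hL.1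
    obtain ⟨e, he⟩ := exists_dim_le k X
    obtain ⟨Q, hQ, -, hα⟩ := exists_isHilbPoly k hL.1 ε A hA d hD e he
    rw [isHilbPoly_unique k hP hQ, hα]
    exact ⟨_, rfl⟩

/-- the axioms of polynomial stability. -/
theorem ax : Ax (C := X.Modules) Coh.IsCoh (ShStab.IsHilbPoly k X L)
    (fun E => ShStab.IsPure X E d) (DimLE X d) d := by
  haveI : IsLocallyNoetherian X :=
    LocallyOfFiniteType.isLocallyNoetherian (X ↘ Spec (CommRingCat.of k))
  haveI : CompactSpace X :=
    QuasiCompact.compactSpace_of_compactSpace (X ↘ Spec (CommRingCat.of k))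
  haveI : AlgebraicGeometry.IsNoetherian X := {}
  refine
    { ok_iso := fun e h => CohDevH8.isCoh_of_iso e.symm h
      ok_kernel := fun f hA hB => CohKerH8.isCoh_kernel hA hB f
      ok_cokernel := fun f hA hB => CohKerH8.isCoh_cokernel hA hB f
      ok_biprod := fun hA hB => CohDevH8.isCoh_biprod hA hB
      ok_ext := fun S hS h1 h3 => Groth.Agent.Lib.CohSerreH3.isCoh_of_shortExact S hS h1 h3
      hp_exists := fun hA => exists_hilbPoly k hL.1 _ hA
      hp_unique := fun hP hQ => isHilbPoly_unique k hP hQ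
      hp_iso := fun e hP => isHilbPoly_of_iso k e hP
      hp_add := fun S hS h₁ h₂ h₃ _ _ hP₁ hP₃ => isHilbPoly_add k hL.1 S hS h₁ h₂ h₃ hP₁ hP₃
      hp_zero := fun hA hP => isZero_of_isHilbPoly_zero k hL hA hP
      hp_pos := ?_
      D_sub := ?_
      D_quot := ?_
      D_of_pure := ?_
      alpha_nonneg := fun hA hD hP => (alpha_data k hL d hA hD hP).1
      alpha_int := fun hA hD hP => (alpha_data k hL d hA hD hP).2
      pure_iso := ?_
      pure_pos := ?_
      pure_of_pos := ?_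
      acc := fun E hE => acc_coh E hE }
  · -- hp_pos
    intro A P hA hz hP
    obtain ⟨N, hN⟩ := eventually_pos k hL hA hz hP
    exact ⟨N, fun m hm => by rw [eval_zero]; exact hN m hm⟩
  · -- D_sub
    intro A B f hf hB
    haveI := hf
    exact (dim_support_le_of_mono f).trans hB
  · -- D_quot
    intro A B f hf hA hB hD
    haveI := hf
    exact (dim_support_le_of_epi hA hB f).trans hD
  · -- D_of_pure
    intro A hA hz hp
    exact (dim_support_of_isPure hp hA hz).le
  · -- pure_iso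
    intro A B e hp F ι hι hF hz
    haveI := hι
    exact hp F (ι ≫ e.inv) (mono_comp _ _) hF hz
  · -- pure_pos
    intro E F ι hp hι hF hz P hP
    exact alpha_pos k hL hF d (hp F ι hι hF hz) hP
  · -- pure_of_pos
    intro E hE hD h F ι hι hF hz
    haveI := hι
    obtain ⟨r, hr⟩ := exists_dim_support k hz
    have hle : (r : WithBot ℕ∞) ≤ d := by
      rw [← hr]; exact (dim_support_le_of_mono ι).trans hD
    have hrd : r ≤ d := by exact_mod_cast hle
    rcases Nat.eq_or_lt_of_le hrd with h' | h'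
    · rw [hr, h']
    · exfalso
      obtain ⟨P, hP⟩ := exists_hilbPoly k hL.1 F hF
      have h1 := h F ι hι hF hz P hP
      rw [alpha_eq_zero_of_natDegree_lt
        (lt_of_le_of_lt (natDegree_le k hL.1 hF r hr.le hP) h')] at h1
      exact lt_irrefl _ h1

/-- **S15200**. -/
theorem main15200 (E : X.Modules) (hE : Coh.IsCoh E) (h0 : ¬ IsZero E)
    (hp : ShStab.IsPure X E d) :
    ∃ (F : X.Modules) (ι : F ⟶ E), ShStab.IsMaxDestab k X L E d F ι :=
  exists_isMaxDestabWith (ax k hL d) hE h0 hp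

/-- **S15191**. -/
theorem main15191 (E : X.Modules) (hE : Coh.IsCoh E) (h0 : ¬ IsZero E)
    (hp : ShStab.IsPure X E d) :
    ∃! s : LTSeries (Subobject E), ShStab.IsHNFiltration k X L E d s := by
  obtain ⟨s, hs⟩ := exists_HN (ax k hL d) hE h0 hp
  exact ⟨s, hs, fun t ht => HN_unique (ax k hL d) t s ht hs⟩

/-- **S15202**. -/
theorem main15202 (E : X.Modules) (hE : ShStab.IsSemistable k X L E d) :
    ∃ s : LTSeries (Subobject E), ShStab.IsJHFiltration k X L E d s :=
  exists_JH (ax k hL d) hE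

/-- **S15203**. -/
theorem main15203 (E : X.Modules) (hE : ShStab.IsSemistable k X L E d)
    (s t : LTSeries (Subobject E)) (hs : ShStab.IsJHFiltration k X L E d s)
    (ht : ShStab.IsJHFiltration k X L E d t) :
    s.length = t.length ∧ Nonempty (StabCat.grObj s ≅ StabCat.grObj t) :=
  JH_gr_unique (ax k hL d) hE s t hs ht

/-- **S15197**. -/
theorem main15197 (E : X.Modules) (hE : Coh.IsCoh E) (h0 : ¬ IsZero E)
    (hp : ShStab.IsPure X E d) :
    [ShStab.IsSemistable k X L E d,
      ∀ (F : X.Modules) (ι : F ⟶ E), Mono ι → Coh.IsCoh F → ¬ IsZero F → ¬ IsIso ι →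
        ShStab.IsPure X (cokernel ι) d →
        ∀ (pF pE : ℚ[X]), ShStab.IsHilbPoly k X L F pF → ShStab.IsHilbPoly k X L E pE → StabCat.RedLE d pF pE,
      ∀ (G : X.Modules) (π : E ⟶ G), Epi π → Coh.IsCoh G → ¬ IsIso π →
        ∀ (pE pG : ℚ[X]), ShStab.IsHilbPoly k X L E pE → ShStab.IsHilbPoly k X L G pG → 0 < StabCat.alpha d pG →
          StabCat.RedLE d pE pG,
      ∀ (G : X.Modules) (π : E ⟶ G), Epi π → Coh.IsCoh G → ¬ IsZero G → ¬ IsIso π →
        ShStab.IsPure X G d →
        ∀ (pE pG : ℚ[X]), ShStab.IsHilbPoly k X L E pE → ShStab.IsHilbPoly k X L G pG → StabCat.RedLE d pE pG].TFAE :=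
  tfae_SS (ax k hL d) hE h0 hp

/-- **S15198**. -/
theorem main15198 (E : X.Modules) (hE : Coh.IsCoh E) (h0 : ¬ IsZero E)
    (hp : ShStab.IsPure X E d) :
    [ShStab.IsStable k X L E d,
      ∀ (F : X.Modules) (ι : F ⟶ E), Mono ι → Coh.IsCoh F → ¬ IsZero F → ¬ IsIso ι →
        ShStab.IsPure X (cokernel ι) d →
        ∀ (pF pE : ℚ[X]), ShStab.IsHilbPoly k X L F pF → ShStab.IsHilbPoly k X L E pE → StabCat.RedLT d pF pE,
      ∀ (G : X.Modules) (π : E ⟶ G), Epi π → Coh.IsCoh G → ¬ IsIso π →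
        ∀ (pE pG : ℚ[X]), ShStab.IsHilbPoly k X L E pE → ShStab.IsHilbPoly k X L G pG → 0 < StabCat.alpha d pG →
          StabCat.RedLT d pE pG,
      ∀ (G : X.Modules) (π : E ⟶ G), Epi π → Coh.IsCoh G → ¬ IsZero G → ¬ IsIso π →
        ShStab.IsPure X G d →
        ∀ (pE pG : ℚ[X]), ShStab.IsHilbPoly k X L E pE → ShStab.IsHilbPoly k X L G pG → StabCat.RedLT d pE pG].TFAE :=
  tfae_St (ax k hL d) hE h0 hp

/-- **S15272** (over any field). -/
theorem main15272 (E F : X.Modules) (hE : ShStab.IsSemistable k X L E d)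
    (hF : ShStab.IsSemistable k X L F d) (pE pF : ℚ[X]) (hpE : ShStab.IsHilbPoly k X L E pE)
    (hpF : ShStab.IsHilbPoly k X L F pF) (hred : StabCat.RedEq d pE pF) (f : E ⟶ F) :
    (IsZero (kernel f) ∨ (ShStab.IsSemistable k X L (kernel f) d ∧
        ∀ pK : ℚ[X], ShStab.IsHilbPoly k X L (kernel f) pK → StabCat.RedEq d pK pE)) ∧
    (IsZero (cokernel f) ∨ (ShStab.IsSemistable k X L (cokernel f) d ∧
        ∀ pQ : ℚ[X], ShStab.IsHilbPoly k X L (cokernel f) pQ → StabCat.RedEq d pQ pE)) := by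
  have A := ax k hL d
  have e1 : hpf (ShStab.IsHilbPoly k X L) E = pE := hpf_eq A hE.1 hpE
  have e2 : hpf (ShStab.IsHilbPoly k X L) F = pF := hpf_eq A hF.1 hpF
  obtain ⟨h1, h2⟩ := ker_coker_SS A hE hF (by rw [e1, e2]; exact hred) f
  refine ⟨h1.imp id (fun ⟨hss, heq⟩ => ⟨hss, fun pK hpK => ?_⟩),
    h2.imp id (fun ⟨hss, heq⟩ => ⟨hss, fun pQ hpQ => ?_⟩)⟩
  · rw [← hpf_eq A hss.1 hpK, ← e1]; exact heq
  · rw [← hpf_eq A hss.1 hpQ, ← e1]; exact heq

end

end Groth.Agent.Lib.ShStabH6
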