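import Mathlib
import Groth.Prelude
import Groth.Agent.Lib.HNPn_helper6
import Groth.Agent.Lib.ShStabAx_helper6

/-!
# Existence and uniqueness of the Harder–Narasimhan chain of a pure sheaf on `P^n_k` (helper6)
APPEND-ONLY once landed.
-/

set_option autoImplicit false
set_option linter.all false
set_option maxHeartbeats 1600000

universe u
open Polynomial StabCat
open CategoryTheory CategoryTheory.Limits AlgebraicGeometry TopologicalSpace

namespace Groth.Agent.Lib.HNPn

open Groth.Agent.Lib.TwistHilb Groth.Agent.Lib.HNChain Groth.Agent.Lib.HilbCalc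
open Groth.Agent.Lib.ShStabH6 Groth.Agent.ProjTens

/-- **S14972** over any field. -/
theorem main14972 (n : ℕ) (k : Type u) [Field k] (d : ℕ)
    (E : (CohB1.ProjSpace n k).Modules) (hE : Coh.IsCoh E)
    (hpure : (topologicalKrullDim ↥(CohB1.support E) = (d : WithBot ℕ∞) ∧
      ∀ (G : (CohB1.ProjSpace n k).Modules) (ι : G ⟶ E), Mono ι → Coh.IsCoh G → ¬ IsZero G →
        topologicalKrullDim ↥(CohB1.support G) = (d : WithBot ℕ∞))) :
    ∃! C : Finset (Subobject E), ChainP Coh.IsCoh (T n k d) (RT n k d) C := by
  haveI := isProper n k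
  have h0 : ¬ IsZero E := by
    intro hz
    have h1 := support_eq_empty_of_isZero hz
    haveI : IsEmpty ↥(CohB1.support E) := by rw [h1]; infer_instance
    have h2 := hpure.1
    rw [topDim_eq_bot_of_isEmpty] at h2
    exact WithBot.bot_ne_coe h2
  exact chain_of_series n k d E (main15191 k (isAmple_one n k) d E hE h0 hpure.2)

end Groth.Agent.Lib.HNPn
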