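import Mathlib

open Filter

namespace Groth.Agent.Lib.HSBound

variable {R : Type*} [CommRing R]

/-- generated by at most `m` elements -/
def Gen (m : ℕ) (I : Ideal R) : Prop := ∃ s : Finset R, s.card ≤ m ∧ Ideal.span (s : Set R) = I

theorem Gen.sup {a b : ℕ} {I J : Ideal R} (hI : Gen a I) (hJ : Gen b J) : Gen (a + b) (I ⊔ J) := by
  classical
  obtain ⟨s, hs, rfl⟩ := hI
  obtain ⟨t, ht, rfl⟩ := hJ
  refine ⟨s ∪ t, (Finset.card_union_le s t).trans (add_le_add hs ht), ?_⟩
  rw [Finset.coe_union, Ideal.span_union]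

theorem Gen.mul_singleton {a : ℕ} {I : Ideal R} (hI : Gen a I) (g : R) :
    Gen a (Ideal.span {g} * I) := by
  classical
  obtain ⟨s, hs, rfl⟩ := hI
  refine ⟨s.image (fun x => g * x), Finset.card_image_le.trans hs, ?_⟩
  rw [Finset.coe_image, Ideal.span_mul_span', Set.singleton_mul]

theorem pow_split (A J : Ideal R) (n : ℕ) :
    (A ⊔ J) ^ (n + 1) = J ^ (n + 1) ⊔ A * (A ⊔ J) ^ n := by
  apply le_antisymm
  · induction n with
    | zero =>
      rw [zero_add, pow_one, pow_one, pow_zero, Ideal.one_eq_top, Ideal.mul_top, sup_comm]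
    | succ n ih =>
      rw [pow_succ' (A ⊔ J) (n + 1), Ideal.sup_mul]
      apply sup_le
      · exact le_sup_right
      · calc J * (A ⊔ J) ^ (n + 1) ≤ J * (J ^ (n + 1) ⊔ A * (A ⊔ J) ^ n) :=
              Ideal.mul_mono_right ih
          _ = J * J ^ (n + 1) ⊔ J * (A * (A ⊔ J) ^ n) := Ideal.mul_sup _ _ _
          _ ≤ J ^ (n + 1 + 1) ⊔ A * (A ⊔ J) ^ (n + 1) := by
            apply sup_le_sup
            · rw [← pow_succ']
            · rw [mul_left_comm, pow_succ' (A ⊔ J) n]
              exact Ideal.mul_mono_right (Ideal.mul_mono_left le_sup_right)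
  · apply sup_le
    · exact Ideal.pow_right_mono le_sup_right _
    · rw [pow_succ']
      exact Ideal.mul_mono_left le_sup_left

theorem gen_pow : ∀ (c : ℕ) (f : Fin c → R) (n : ℕ),
    Gen (Nat.multichoose c n) (Ideal.span (Set.range f) ^ n)
  | 0, f, n => by
      have : Set.range f = ∅ := Set.range_eq_empty f
      rw [this, Ideal.span_empty]
      cases n with
      | zero =>
        refine ⟨{1}, by simp, ?_⟩
        rw [Finset.coe_singleton, Ideal.span_singleton_one, pow_zero, Ideal.one_eq_top]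
      | succ n =>
        refine ⟨∅, by simp, ?_⟩
        rw [Finset.coe_empty, Ideal.span_empty, ← Ideal.zero_eq_bot, zero_pow (Nat.succ_ne_zero n)]
  | c + 1, f, n => by
      have hr : Set.range f = insert (f 0) (Set.range (Fin.tail f)) := by
        ext y
        simp only [Set.mem_range, Set.mem_insert_iff]
        constructor
        · rintro ⟨i, rfl⟩
          refine Fin.cases ?_ (fun j => ?_) i
          · exact Or.inl rfl
          · exact Or.inr ⟨j, rfl⟩
        · rintro (rfl | ⟨j, rfl⟩)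
          · exact ⟨0, rfl⟩
          · exact ⟨j.succ, rfl⟩
      rw [hr, Ideal.span_insert]
      induction n with
      | zero =>
        refine ⟨{1}, by simp, ?_⟩
        rw [Finset.coe_singleton, Ideal.span_singleton_one, pow_zero, Ideal.one_eq_top]
      | succ n ihn =>
        rw [Nat.multichoose_succ_succ, pow_split]
        exact (gen_pow c (Fin.tail f) (n + 1)).sup (ihn.mul_singleton (f 0))

section len
variable {N : Type*} [AddCommGroup N] [Module R N]

/-- the map `R/q → N`, `1 ↦ y`, for `y` killed by `q` -/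
noncomputable def phi (q : Ideal R) (y : N) (hy : ∀ a ∈ q, a • y = 0) : (R ⧸ q) →ₗ[R] N :=
  Submodule.liftQ q (LinearMap.toSpanSingleton R N y) (fun a ha => by
    rw [LinearMap.mem_ker, LinearMap.toSpanSingleton_apply]; exact hy a ha)

theorem phi_one (q : Ideal R) (y : N) (hy : ∀ a ∈ q, a • y = 0) : phi q y hy 1 = y := by
  show Submodule.liftQ q _ _ (Submodule.Quotient.mk 1) = y
  rw [Submodule.liftQ_apply, LinearMap.toSpanSingleton_apply, one_smul]

theorem length_span_le (q : Ideal R) {ι : Type*} [Fintype ι] (x : ι → N)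
    (hx : ∀ i, ∀ a ∈ q, a • x i = 0) :
    Module.length R (Submodule.span R (Set.range x)) ≤
      (Fintype.card ι : ℕ∞) * Module.length R (R ⧸ q) := by
  classical
  let Ψ : (ι → R ⧸ q) →ₗ[R] N := ∑ i, (phi q (x i) (hx i)).comp (LinearMap.proj i)
  have hΨ : ∀ i, Ψ (Pi.single i 1) = x i := by
    intro i
    simp only [Ψ, LinearMap.sum_apply, LinearMap.comp_apply, LinearMap.proj_apply]
    rw [Finset.sum_eq_single i]
    · rw [Pi.single_eq_same, phi_one]
    · intro j _ hj
      rw [Pi.single_eq_of_ne hj, map_zero]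
    · intro h; exact absurd (Finset.mem_univ i) h
  have hsub : Submodule.span R (Set.range x) ≤ LinearMap.range Ψ := by
    rw [Submodule.span_le]
    rintro _ ⟨i, rfl⟩
    exact ⟨Pi.single i 1, hΨ i⟩
  calc Module.length R (Submodule.span R (Set.range x))
      ≤ Module.length R (LinearMap.range Ψ) :=
        Module.length_le_of_injective (Submodule.inclusion hsub)
          (Submodule.inclusion_injective hsub)
    _ ≤ Module.length R (ι → R ⧸ q) :=
        Module.length_le_of_surjective Ψ.rangeRestrict (LinearMap.surjective_rangeRestrict Ψ)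
    _ = (Fintype.card ι : ℕ∞) * Module.length R (R ⧸ q) := by
        rw [Module.length_pi_of_fintype]; simp

end len

theorem length_quot_mul_le (q I : Ideal R) (m : ℕ) (hI : Gen m I) :
    Module.length R (R ⧸ (q * I)) ≤
      Module.length R (R ⧸ I) + (m : ℕ∞) * Module.length R (R ⧸ q) := by
  classical
  obtain ⟨s, hs, hsI⟩ := hI
  have hle : q * I ≤ I := Ideal.mul_le_right
  let K : Submodule R (R ⧸ (q * I)) := Submodule.map (Submodule.mkQ (q * I)) I
  have h1 : Module.length R (R ⧸ (q * I)) =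
      Module.length R K + Module.length R ((R ⧸ (q * I)) ⧸ K) :=
    Module.length_eq_add_of_exact K.subtype K.mkQ (Submodule.injective_subtype K)
      (Submodule.mkQ_surjective K)
      (LinearMap.exact_iff.mpr (by rw [Submodule.ker_mkQ, Submodule.range_subtype]))
  have h2 : Module.length R ((R ⧸ (q * I)) ⧸ K) = Module.length R (R ⧸ I) :=
    (Submodule.quotientQuotientEquivQuotient (q * I) I hle).length_eq
  have h3 : Module.length R K ≤ (m : ℕ∞) * Module.length R (R ⧸ q) := by
    have hK : K = Submodule.span R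
        (Set.range (fun x : s => Submodule.mkQ (q * I) (x : R))) := by
      have : (Submodule.mkQ (q * I)) '' (s : Set R) =
          Set.range (fun x : s => Submodule.mkQ (q * I) (x : R)) := by
        ext y; constructor
        · rintro ⟨x, hx, rfl⟩; exact ⟨⟨x, Finset.mem_coe.mp hx⟩, rfl⟩
        · rintro ⟨⟨x, hx⟩, rfl⟩; exact ⟨x, Finset.mem_coe.mpr hx, rfl⟩
      rw [← this, ← Submodule.map_span]
      show _ = Submodule.map _ (Ideal.span (s : Set R))
      rw [hsI]
    rw [hK]
    refine (length_span_le q _ ?_).trans ?_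
    · rintro ⟨x, hx⟩ a ha
      have hxI : x ∈ I := hsI ▸ Ideal.subset_span (Finset.mem_coe.mpr hx)
      show a • Submodule.Quotient.mk x = 0
      rw [← Submodule.Quotient.mk_smul, Submodule.Quotient.mk_eq_zero, smul_eq_mul]
      exact Ideal.mul_mem_mul ha hxI
    · rw [Fintype.card_coe]
      exact mul_le_mul' (by exact_mod_cast hs) le_rfl
  calc Module.length R (R ⧸ (q * I))
      = Module.length R K + Module.length R (R ⧸ I) := by rw [h1, h2]
    _ ≤ (m : ℕ∞) * Module.length R (R ⧸ q) + Module.length R (R ⧸ I) := add_le_add h3 le_rfl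
    _ = _ := add_comm _ _

theorem length_quot_pow_le (q : Ideal R) (c : ℕ) (f : Fin c → R)
    (hq : Ideal.span (Set.range f) = q) (n : ℕ) :
    Module.length R (R ⧸ q ^ (n + 1)) ≤
      (Nat.multichoose (c + 1) n : ℕ∞) * Module.length R (R ⧸ q) := by
  induction n with
  | zero => rw [zero_add, pow_one, Nat.multichoose_zero_right, Nat.cast_one, one_mul]
  | succ n ih =>
    have hgen : Gen (Nat.multichoose c (n + 1)) (q ^ (n + 1)) := hq ▸ gen_pow c f (n + 1)
    have h := length_quot_mul_le q (q ^ (n + 1)) _ hgen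
    rw [← pow_succ'] at h
    calc Module.length R (R ⧸ q ^ (n + 1 + 1))
        ≤ Module.length R (R ⧸ q ^ (n + 1)) +
            (Nat.multichoose c (n + 1) : ℕ∞) * Module.length R (R ⧸ q) := h
      _ ≤ (Nat.multichoose (c + 1) n : ℕ∞) * Module.length R (R ⧸ q) +
            (Nat.multichoose c (n + 1) : ℕ∞) * Module.length R (R ⧸ q) := add_le_add ih le_rfl
      _ = _ := by rw [Nat.multichoose_succ_succ]; push_cast; ring

theorem main (d : ℕ) (g : Fin d → R) (e : ℕ)
    (he : Tendsto (fun n : ℕ => (d.factorial : ℝ) *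
      ((Module.length R (R ⧸ Ideal.span (Set.range g) ^ n)).toNat : ℝ) / (n : ℝ) ^ d)
      atTop (nhds (e : ℝ))) :
    (e : ℕ∞) ≤ Module.length R (R ⧸ Ideal.span (Set.range g)) := by
  set q := Ideal.span (Set.range g) with hq
  rcases eq_or_ne (Module.length R (R ⧸ q)) ⊤ with htop | hne
  · rw [htop]; exact le_top
  obtain ⟨L, hL⟩ := ENat.ne_top_iff_exists.mp hne
  rw [← hL]
  have hA : ∀ n, Module.length R (R ⧸ q ^ (n + 1)) ≤
      ((Nat.multichoose (d + 1) n * L : ℕ) : ℕ∞) := by
    intro n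
    have := length_quot_pow_le q d g rfl n
    rw [← hL] at this
    exact_mod_cast this
  have hb : ∀ n : ℕ, 1 ≤ n → (d.factorial : ℝ) *
      ((Module.length R (R ⧸ q ^ n)).toNat : ℝ) / (n : ℝ) ^ d ≤
      (L : ℝ) * (1 + ((d : ℝ) - 1) / n) ^ d := by
    intro n hn
    obtain ⟨k, rfl⟩ := Nat.exists_eq_add_one_of_ne_zero (by omega : n ≠ 0)
    have h1 : (Module.length R (R ⧸ q ^ (k + 1))).toNat ≤ Nat.multichoose (d + 1) k * L :=
      ENat.toNat_le_of_le_natCast (hA k)
    have hf : (0 : ℝ) < (d.factorial : ℝ) := by positivity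
    have h2 : (Nat.multichoose (d + 1) k : ℝ) ≤ ((k + d : ℕ) : ℝ) ^ d / (d.factorial : ℝ) := by
      rw [Nat.multichoose_eq]
      have : (d + 1 + k - 1).choose k = (k + d).choose d := by
        rw [show d + 1 + k - 1 = k + d by omega, Nat.choose_symm_add]
      rw [this]
      exact_mod_cast Nat.choose_le_pow_div (α := ℝ) d (k + d)
    have h2' : (Nat.multichoose (d + 1) k : ℝ) * (d.factorial : ℝ) ≤ ((k + d : ℕ) : ℝ) ^ d :=
      (le_div_iff₀ hf).mp h2
    have hn0 : (0 : ℝ) < ((k + 1 : ℕ) : ℝ) := by positivity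
    have h3 : ((Module.length R (R ⧸ q ^ (k + 1))).toNat : ℝ) ≤
        (Nat.multichoose (d + 1) k : ℝ) * (L : ℝ) := by exact_mod_cast h1
    have hkey : (1 + ((d : ℝ) - 1) / ((k + 1 : ℕ) : ℝ)) * ((k + 1 : ℕ) : ℝ) =
        ((k + d : ℕ) : ℝ) := by
      rw [add_mul, one_mul, div_mul_cancel₀ _ hn0.ne']; push_cast; ring
    rw [div_le_iff₀ (by positivity)]
    calc (d.factorial : ℝ) * ((Module.length R (R ⧸ q ^ (k + 1))).toNat : ℝ)
        ≤ (d.factorial : ℝ) * ((Nat.multichoose (d + 1) k : ℝ) * (L : ℝ)) := by gcongr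
      _ = ((Nat.multichoose (d + 1) k : ℝ) * (d.factorial : ℝ)) * (L : ℝ) := by ring
      _ ≤ ((k + d : ℕ) : ℝ) ^ d * (L : ℝ) := by gcongr
      _ = (L : ℝ) * (1 + ((d : ℝ) - 1) / ((k + 1 : ℕ) : ℝ)) ^ d * ((k + 1 : ℕ) : ℝ) ^ d := by
          rw [mul_assoc, ← mul_pow, hkey]; ring
  have hlim : Tendsto (fun n : ℕ => (L : ℝ) * (1 + ((d : ℝ) - 1) / n) ^ d) atTop
      (nhds (L : ℝ)) := by
    have h0 : Tendsto (fun n : ℕ => ((d : ℝ) - 1) / (n : ℝ)) atTop (nhds 0) :=
      tendsto_const_div_atTop_nhds_zero_nat _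
    have h1 : Tendsto (fun n : ℕ => (1 + ((d : ℝ) - 1) / (n : ℝ)) ^ d) atTop
        (nhds ((1 + 0) ^ d)) := (h0.const_add 1).pow d
    have h2 := h1.const_mul (L : ℝ)
    simpa using h2
  have hle : (e : ℝ) ≤ (L : ℝ) :=
    le_of_tendsto_of_tendsto he hlim (eventually_atTop.mpr ⟨1, hb⟩)
  exact_mod_cast hle

end Groth.Agent.Lib.HSBound
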