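import Mathlib

/-!
# HSL1 (helper1): a chain lemma for Noetherian modules

`chain_lemma`: in a Noetherian module, a descending chain `C e` with `𝔭 • C 0 ≤ C e` for all `e`
(`𝔭` prime) has a step `C e ⊇ C (e+1)` killed by an element outside `𝔭`.
-/

namespace Groth.Agent.Lib.HSLH1

universe u v

section Chain

variable {R : Type u} [CommRing R] {N : Type v} [AddCommGroup N] [Module R N]

/-- if no element outside `𝔭` kills `P` into `Q`, there is `v ∈ P` free mod `Q` over `R/𝔭` -/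
theorem exists_free_elt (𝔭 : Ideal R) [𝔭.IsPrime] (P Q : Submodule R N) (hP : P.FG)
    (h : ∀ a : R, a ∉ 𝔭 → ∃ z ∈ P, a • z ∉ Q) :
    ∃ v ∈ P, ∀ a : R, a ∉ 𝔭 → a • v ∉ Q := by
  classical
  by_contra hcon
  have hcon' : ∀ v ∈ P, ∃ a : R, a ∉ 𝔭 ∧ a • v ∈ Q := by
    intro v hv
    by_contra h'
    apply hcon
    exact ⟨v, hv, fun a ha haQ => h' ⟨a, ha, haQ⟩⟩
  obtain ⟨S, hS⟩ := hP
  choose! a ha1 ha2 using hcon'
  have hSP : ∀ s ∈ S, s ∈ P := fun s hs => hS ▸ Submodule.subset_span hs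
  have hb : (∏ s ∈ S, a s) ∉ 𝔭 := by
    intro hb
    obtain ⟨s, hs, hsa⟩ := (Ideal.IsPrime.prod_mem_iff).1 hb
    exact ha1 s (hSP s hs) hsa
  obtain ⟨z, hz, hzQ⟩ := h _ hb
  apply hzQ
  rw [← hS] at hz
  refine Submodule.span_induction (p := fun x _ => (∏ s ∈ S, a s) • x ∈ Q) ?_ ?_ ?_ ?_ hz
  · intro s hs
    rw [← Finset.prod_erase_mul S a hs, mul_smul]
    exact Q.smul_mem _ (ha2 s (hSP s hs))
  · rw [smul_zero]
    exact Q.zero_mem
  · intro x y _ _ hx hy
    rw [smul_add]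
    exact Q.add_mem hx hy
  · intro r x _ hx
    rw [smul_comm]
    exact Q.smul_mem r hx

/-- the chain lemma -/
theorem chain_lemma [IsNoetherian R N] (𝔭 : Ideal R) [𝔭.IsPrime] (C : ℕ → Submodule R N)
    (hanti : ∀ e, C (e + 1) ≤ C e)
    (h𝔭 : ∀ b ∈ 𝔭, ∀ y ∈ C 0, ∀ e, b • y ∈ C e) :
    ∃ e : ℕ, ∃ a : R, a ∉ 𝔭 ∧ ∀ z ∈ C e, a • z ∈ C (e + 1) := by
  classical
  by_contra hcon
  have hcon' : ∀ e : ℕ, ∀ a : R, a ∉ 𝔭 → ∃ z ∈ C e, a • z ∉ C (e + 1) := by
    intro e a ha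
    by_contra h'
    apply hcon
    refine ⟨e, a, ha, fun z hz => ?_⟩
    by_contra hz'
    exact h' ⟨z, hz, hz'⟩
  have hfree : ∀ e, ∃ v ∈ C e, ∀ a : R, a ∉ 𝔭 → a • v ∉ C (e + 1) := fun e =>
    exists_free_elt 𝔭 (C e) (C (e + 1)) (IsNoetherian.noetherian _) (hcon' e)
  choose v hv1 hv2 using hfree
  have hantiAll : ∀ i j : ℕ, i ≤ j → C j ≤ C i := fun i j hij =>
    antitone_nat_of_succ_le hanti hij
  have hv0 : ∀ i, v i ∈ C 0 := fun i => hantiAll 0 i (Nat.zero_le i) (hv1 i)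
  obtain ⟨n, s, hs⟩ := Module.Finite.exists_fin (R := R) (M := ↥(C 0))
  have hspan : Submodule.span (R ⧸ 𝔭) (Set.range
      (fun j : Fin n => (Submodule.Quotient.mk (s j) :
        ↥(C 0) ⧸ (𝔭 • ⊤ : Submodule R ↥(C 0))))) = ⊤ := by
    rw [eq_top_iff]
    rintro x -
    obtain ⟨y, rfl⟩ := Submodule.Quotient.mk_surjective _ x
    have hy : y ∈ Submodule.span R (Set.range s) := by
      rw [hs]
      trivial
    refine Submodule.span_induction (p := fun y _ =>
      (Submodule.Quotient.mk y : ↥(C 0) ⧸ (𝔭 • ⊤ : Submodule R ↥(C 0))) ∈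
        Submodule.span (R ⧸ 𝔭) (Set.range
          (fun j : Fin n => (Submodule.Quotient.mk (s j) :
            ↥(C 0) ⧸ (𝔭 • ⊤ : Submodule R ↥(C 0)))))) ?_ ?_ ?_ ?_ hy
    · rintro _ ⟨j, rfl⟩
      exact Submodule.subset_span ⟨j, rfl⟩
    · rw [Submodule.Quotient.mk_zero]
      exact Submodule.zero_mem _
    · intro a b _ _ ha hb
      rw [Submodule.Quotient.mk_add]
      exact Submodule.add_mem _ ha hb
    · intro r a _ ha
      rw [← Module.Quotient.mk_smul_mk]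
      exact Submodule.smul_mem _ _ ha
  have hX : ∀ y : ↥(C 0), y ∈ (𝔭 • ⊤ : Submodule R ↥(C 0)) → ∀ e, (y : N) ∈ C e := by
    intro y hy e
    refine Submodule.smul_induction_on hy ?_ ?_
    · intro b hb z _
      rw [Submodule.coe_smul]
      exact h𝔭 b hb z z.2 e
    · intro a b ha hb
      rw [Submodule.coe_add]
      exact (C e).add_mem ha hb
  have hli : LinearIndependent (R ⧸ 𝔭) (fun i : Fin (n + 1) =>
      (Submodule.Quotient.mk (⟨v i, hv0 i⟩ : ↥(C 0)) :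
        ↥(C 0) ⧸ (𝔭 • ⊤ : Submodule R ↥(C 0)))) := by
    rw [Fintype.linearIndependent_iff]
    intro g hg
    obtain ⟨r, hr⟩ : ∃ r : Fin (n + 1) → R, ∀ i, Ideal.Quotient.mk 𝔭 (r i) = g i :=
      ⟨fun i => (Ideal.Quotient.mk_surjective (g i)).choose,
        fun i => (Ideal.Quotient.mk_surjective (g i)).choose_spec⟩
    have hsum : (∑ i, r i • (⟨v i, hv0 i⟩ : ↥(C 0))) ∈ (𝔭 • ⊤ : Submodule R ↥(C 0)) := by
      rw [← Submodule.Quotient.mk_eq_zero, ← Submodule.mkQ_apply, map_sum, ← hg]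
      refine Finset.sum_congr rfl fun i _ => ?_
      rw [← hr i]
      rfl
    have hsumN : ∀ e, (∑ i : Fin (n + 1), r i • v i) ∈ C e := by
      intro e
      have h3 : ((∑ i, r i • (⟨v i, hv0 i⟩ : ↥(C 0)) : ↥(C 0)) : N) =
          ∑ i : Fin (n + 1), r i • v i := by
        rw [Submodule.coe_sum]
        rfl
      rw [← h3]
      exact hX _ hsum e
    have hmem : ∀ m : ℕ, ∀ hm : m < n + 1, r ⟨m, hm⟩ ∈ 𝔭 := by
      intro m
      induction m using Nat.strong_induction_on with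
      | _ m ih =>
        intro hm
        by_contra hnot
        apply hv2 m (r ⟨m, hm⟩) hnot
        have hsplit := Finset.add_sum_erase Finset.univ (fun i : Fin (n + 1) => r i • v i)
          (Finset.mem_univ (⟨m, hm⟩ : Fin (n + 1)))
        have hrest : (∑ i ∈ Finset.univ.erase (⟨m, hm⟩ : Fin (n + 1)), r i • v i) ∈
            C (m + 1) := by
          refine Submodule.sum_mem _ fun i hi => ?_
          have hne : i ≠ ⟨m, hm⟩ := Finset.ne_of_mem_erase hi
          have hne' : (i : ℕ) ≠ m := fun h => hne (Fin.ext h)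
          rcases lt_or_gt_of_ne hne' with hlt | hgt
          · exact h𝔭 _ (ih i hlt i.2) _ (hv0 i) (m + 1)
          · exact (C (m + 1)).smul_mem _ (hantiAll (m + 1) i hgt (hv1 i))
        have h4 : r ⟨m, hm⟩ • v m = (∑ i : Fin (n + 1), r i • v i) -
            ∑ i ∈ Finset.univ.erase (⟨m, hm⟩ : Fin (n + 1)), r i • v i := by
          rw [← hsplit]
          abel
        rw [h4]
        exact (C (m + 1)).sub_mem (hsumN (m + 1)) hrest
    intro i
    rw [← hr i, Ideal.Quotient.eq_zero_iff_mem]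
    exact hmem i i.2
  have hcard := linearIndependent_le_span _ hli _ hspan
  rw [Cardinal.mk_fin] at hcard
  have h1 : Fintype.card (Set.range (fun j : Fin n => (Submodule.Quotient.mk (s j) :
        ↥(C 0) ⧸ (𝔭 • ⊤ : Submodule R ↥(C 0))))) ≤ n := by
    have := Fintype.card_range_le (fun j : Fin n => (Submodule.Quotient.mk (s j) :
        ↥(C 0) ⧸ (𝔭 • ⊤ : Submodule R ↥(C 0))))
    rwa [Fintype.card_fin] at this
  have h2 : n + 1 ≤ Fintype.card (Set.range (fun j : Fin n => (Submodule.Quotient.mk (s j) :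
        ↥(C 0) ⧸ (𝔭 • ⊤ : Submodule R ↥(C 0))))) := by
    exact_mod_cast hcard
  omega

end Chain

end Groth.Agent.Lib.HSLH1
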