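import Mathlib
import Groth.Agent.Lib.HSL1_helper1
import Groth.Agent.Lib.Matlis5_helper5
import Groth.Agent.Lib.InjHull3_helper3
import Groth.Agent.Lib.InjHull6_helper3

/-!
# HSL2 (helper1): Hartshorne–Speiser–Lyubeznik over a complete local ring

Gabber's stabilisation argument, dualised to Artinian modules with a Frobenius action, together
with a Noetherian induction on annihilators and a chain count through Matlis duality.
-/

namespace Groth.Agent.Lib.HSLH1

open IsLocalRing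

universe u

section Counting

variable {A : Type u} [CommRing A] [IsLocalRing A] [IsNoetherianRing A]
  [IsAdicComplete (maximalIdeal A) A] {H : Type u} [AddCommGroup H] [Module A H] [IsArtinian A H]

/-- In an Artinian module over a complete local ring an ascending chain all of whose layers are
killed by a prime `𝔭` has a step killed by an element outside `𝔭`. -/
theorem counting (𝔭 : Ideal A) [𝔭.IsPrime] (C : ℕ → Submodule A H)
    (hmono : ∀ e, C e ≤ C (e + 1))
    (h𝔭 : ∀ b ∈ 𝔭, ∀ e, ∀ z ∈ C e, b • z ∈ C 0) :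
    ∃ e : ℕ, ∃ a : A, a ∉ 𝔭 ∧ ∀ z ∈ C (e + 1), a • z ∈ C e := by
  obtain ⟨E, _, _, f, hf⟩ :=
    Groth.Agent.Lib.InjHull6_helper3.exists_injective_hull (R := A) (ResidueField A)
  haveI : Module.Finite A (H →ₗ[A] E) := (Groth.Agent.Matlis.matlis_artinian f hf H).1
  let D : ℕ → Submodule A (H →ₗ[A] E) := fun e =>
    { carrier := {g | ∀ z ∈ C e, g z = 0}
      add_mem' := fun {g g'} hg hg' z hz => by
        rw [LinearMap.add_apply, hg z hz, hg' z hz, add_zero]
      zero_mem' := fun z _ => rfl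
      smul_mem' := fun a g hg z hz => by
        rw [LinearMap.smul_apply, hg z hz, smul_zero] }
  obtain ⟨e, a, ha, hae⟩ := chain_lemma 𝔭 D
    (fun e g hg z hz => hg z (hmono e hz))
    (fun b hb g hg e z hz => by
      show (b • g) z = 0
      rw [LinearMap.smul_apply, ← map_smul]
      exact hg _ (h𝔭 b hb e z hz))
  refine ⟨e, a, ha, fun z hz => ?_⟩
  by_contra hnot
  have hne : (C e).mkQ (a • z) ≠ 0 := fun h => hnot ((Submodule.Quotient.mk_eq_zero _).1 h)
  obtain ⟨ψ, hψ⟩ := Groth.Agent.Lib.InjHull3_helper3.exists_hom_ne_zero f hf _ hne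
  have hmem : (ψ ∘ₗ (C e).mkQ) ∈ D e := fun y hy => by
    show ψ ((C e).mkQ y) = 0
    rw [Submodule.mkQ_apply, (Submodule.Quotient.mk_eq_zero _).2 hy, map_zero]
  have h0 : a • ψ ((C e).mkQ z) = 0 := hae _ hmem z hz
  exact hψ (by rw [map_smul, map_smul]; exact h0)

end Counting

section Iter

variable {A : Type u} [CommRing A] (p : ℕ) [Fact p.Prime] [CharP A p]
  {H : Type u} [AddCommGroup H] [Module A H] (φ : H →ₛₗ[frobenius A p] H)

theorem iter_add (n : ℕ) (x y : H) : (⇑φ)^[n] (x + y) = (⇑φ)^[n] x + (⇑φ)^[n] y := by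
  induction n generalizing x y with
  | zero => rfl
  | succ n ih =>
    rw [Function.iterate_succ_apply, Function.iterate_succ_apply, Function.iterate_succ_apply,
      map_add, ih]

theorem iter_zero (n : ℕ) : (⇑φ)^[n] (0 : H) = 0 := by
  induction n with
  | zero => rfl
  | succ n ih => rw [Function.iterate_succ_apply, map_zero, ih]

theorem iter_smul (n : ℕ) (a : A) (x : H) :
    (⇑φ)^[n] (a • x) = a ^ (p ^ n) • (⇑φ)^[n] x := by
  induction n generalizing a x with
  | zero => simp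
  | succ n ih =>
    rw [Function.iterate_succ_apply, Function.iterate_succ_apply, map_smulₛₗ, frobenius_def, ih,
      ← pow_mul, pow_succ']

/-- the elements of `K` sent into `L` by `φ^e` -/
def Kf (K L : Submodule A H) (e : ℕ) : Submodule A H where
  carrier := {z | z ∈ K ∧ (⇑φ)^[e] z ∈ L}
  add_mem' := fun {x y} hx hy =>
    ⟨K.add_mem hx.1 hy.1, by rw [iter_add]; exact L.add_mem hx.2 hy.2⟩
  zero_mem' := ⟨K.zero_mem, by rw [iter_zero]; exact L.zero_mem⟩
  smul_mem' := fun a x hx =>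
    ⟨K.smul_mem a hx.1, by rw [iter_smul p φ]; exact L.smul_mem _ hx.2⟩

theorem mem_Kf {K L : Submodule A H} {e : ℕ} {z : H} :
    z ∈ Kf p φ K L e ↔ z ∈ K ∧ (⇑φ)^[e] z ∈ L := Iff.rfl

/-- the colon ideal `(L : K)` -/
def col (K L : Submodule A H) : Ideal A where
  carrier := {a | ∀ z ∈ K, a • z ∈ L}
  add_mem' := fun {a b} ha hb z hz => by
    rw [add_smul]
    exact L.add_mem (ha z hz) (hb z hz)
  zero_mem' := fun z _ => by
    rw [zero_smul]
    exact L.zero_mem
  smul_mem' := fun c a ha z hz => by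
    rw [smul_eq_mul, mul_smul]
    exact L.smul_mem c (ha z hz)

theorem mem_col {K L : Submodule A H} {a : A} : a ∈ col K L ↔ ∀ z ∈ K, a • z ∈ L := Iff.rfl

/-- `L + aK` -/
def K1 (K L : Submodule A H) (a : A) : Submodule A H where
  carrier := {x | ∃ l ∈ L, ∃ z ∈ K, x = l + a • z}
  add_mem' := by
    rintro _ _ ⟨l, hl, z, hz, rfl⟩ ⟨l', hl', z', hz', rfl⟩
    exact ⟨l + l', L.add_mem hl hl', z + z', K.add_mem hz hz', by rw [smul_add]; abel⟩
  zero_mem' := ⟨0, L.zero_mem, 0, K.zero_mem, by rw [smul_zero, add_zero]⟩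
  smul_mem' := by
    rintro c _ ⟨l, hl, z, hz, rfl⟩
    exact ⟨c • l, L.smul_mem c hl, c • z, K.smul_mem c hz, by rw [smul_add, smul_comm c a z]⟩

/-- the property proved by Noetherian induction -/
def Good (𝔟 : Ideal A) : Prop :=
  ∀ K L : Submodule A H, L ≤ K → (∀ z ∈ K, φ z ∈ K) → (∀ z ∈ L, φ z ∈ L) →
    (∀ b ∈ 𝔟, ∀ z ∈ K, b • z ∈ L) → (∀ z ∈ K, ∃ n : ℕ, (⇑φ)^[n] z ∈ L) →
    ∃ n : ℕ, ∀ z ∈ K, (⇑φ)^[n] z ∈ L

end Iter

section Main

variable {A : Type u} [CommRing A] [IsLocalRing A] [IsNoetherianRing A]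
  [IsAdicComplete (maximalIdeal A) A] (p : ℕ) [Fact p.Prime] [CharP A p]
  {H : Type u} [AddCommGroup H] [Module A H] [IsArtinian A H] (φ : H →ₛₗ[frobenius A p] H)

theorem good_step (𝔟 : Ideal A) (ih : ∀ J : Ideal A, 𝔟 < J → Good p φ J) : Good p φ 𝔟 := by
  intro K L hLK hK hL h𝔟 hloc
  by_cases hKL : K ≤ L
  · exact ⟨0, fun z hz => hKL hz⟩
  have h𝔟col : 𝔟 ≤ col K L := fun b hb z hz => h𝔟 b hb z hz
  by_cases hne : 𝔟 = col K L
  swap
  · exact ih (col K L) (lt_of_le_of_ne h𝔟col hne) K L hLK hK hL (fun b hb z hz => hb z hz) hloc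
  have hmem𝔟 : ∀ a : A, a ∈ 𝔟 ↔ ∀ z ∈ K, a • z ∈ L := fun a => by
    rw [hne]
    exact Iff.rfl
  have htop : 𝔟 ≠ ⊤ := by
    intro h
    apply hKL
    intro z hz
    have h1 : (1 : A) ∈ 𝔟 := by
      rw [h]
      trivial
    have h2 := (hmem𝔟 1).1 h1 z hz
    rwa [one_smul] at h2
  by_cases hprime : 𝔟.IsPrime
  swap
  · -- the annihilator is not prime
    have hex : ∃ a b : A, a * b ∈ 𝔟 ∧ a ∉ 𝔟 ∧ b ∉ 𝔟 := by
      by_contra hcon
      apply hprime
      rw [Ideal.isPrime_iff]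
      refine ⟨htop, fun {x y} hxy => ?_⟩
      by_contra h'
      exact hcon ⟨x, y, hxy, fun hx => h' (Or.inl hx), fun hy => h' (Or.inr hy)⟩
    obtain ⟨a, b, hab, ha, hb⟩ := hex
    have hLK1 : L ≤ K1 K L a := fun l hl =>
      ⟨l, hl, 0, K.zero_mem, by rw [smul_zero, add_zero]⟩
    have hK1K : K1 K L a ≤ K := by
      rintro _ ⟨l, hl, z, hz, rfl⟩
      exact K.add_mem (hLK hl) (K.smul_mem a hz)
    have hK1stab : ∀ z ∈ K1 K L a, φ z ∈ K1 K L a := by
      rintro _ ⟨l, hl, z, hz, rfl⟩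
      refine ⟨φ l, hL l hl, a ^ (p - 1) • φ z, K.smul_mem _ (hK z hz), ?_⟩
      rw [map_add, map_smulₛₗ, frobenius_def, ← mul_smul, ← pow_succ',
        Nat.sub_add_cancel (Fact.out : p.Prime).one_le]
    -- first pair
    have hlt1 : 𝔟 < col (K1 K L a) L := by
      refine lt_of_le_of_ne ?_ ?_
      · rintro r hr _ ⟨l, hl, z, hz, rfl⟩
        rw [smul_add, smul_comm r a z]
        exact L.add_mem (L.smul_mem r hl) (L.smul_mem a ((hmem𝔟 r).1 hr z hz))
      · intro h
        apply hb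
        rw [h]
        rintro _ ⟨l, hl, z, hz, rfl⟩
        rw [smul_add, ← mul_smul, mul_comm b a]
        exact L.add_mem (L.smul_mem b hl) ((hmem𝔟 (a * b)).1 hab z hz)
    obtain ⟨n1, hn1⟩ := ih _ hlt1 (K1 K L a) L hLK1 hK1stab hL (fun b hb z hz => hb z hz)
      (fun z hz => hloc z (hK1K hz))
    -- second pair
    have hlt2 : 𝔟 < col K (K1 K L a) := by
      refine lt_of_le_of_ne ?_ ?_
      · intro r hr z hz
        exact hLK1 ((hmem𝔟 r).1 hr z hz)
      · intro h
        apply ha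
        rw [h]
        intro z hz
        exact ⟨0, L.zero_mem, z, hz, by rw [zero_add]⟩
    obtain ⟨n2, hn2⟩ := ih _ hlt2 K (K1 K L a) hK1K hK hK1stab (fun b hb z hz => hb z hz)
      (fun z hz => by
        obtain ⟨n, hn⟩ := hloc z hz
        exact ⟨n, hLK1 hn⟩)
    refine ⟨n1 + n2, fun z hz => ?_⟩
    rw [Function.iterate_add_apply]
    exact hn1 _ (hn2 z hz)
  · -- the annihilator is prime
    haveI := hprime
    have hKfK : ∀ e, Kf p φ K L e ≤ K := fun e z hz => hz.1
    have hiterL : ∀ e, ∀ z ∈ L, (⇑φ)^[e] z ∈ L := by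
      intro e
      induction e with
      | zero => exact fun z hz => hz
      | succ e ihe =>
        intro z hz
        rw [Function.iterate_succ_apply']
        exact hL _ (ihe z hz)
    have hLKf : ∀ e, L ≤ Kf p φ K L e := fun e z hz => ⟨hLK hz, hiterL e z hz⟩
    have hKfmono : ∀ e, Kf p φ K L e ≤ Kf p φ K L (e + 1) := fun e z hz =>
      ⟨hz.1, by rw [Function.iterate_succ_apply']; exact hL _ hz.2⟩
    have hKfmonoAll : ∀ i j : ℕ, i ≤ j → Kf p φ K L i ≤ Kf p φ K L j := fun i j hij =>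
      monotone_nat_of_le_succ hKfmono hij
    have hKfφ : ∀ e z, z ∈ Kf p φ K L (e + 1) → φ z ∈ Kf p φ K L e := fun e z hz =>
      ⟨hK z hz.1, by rw [← Function.iterate_succ_apply]; exact hz.2⟩
    have hKfφ' : ∀ e z, z ∈ K → φ z ∈ Kf p φ K L e → z ∈ Kf p φ K L (e + 1) :=
      fun e z hz h => ⟨hz, by rw [Function.iterate_succ_apply]; exact h.2⟩
    have h𝔞mono : Monotone (fun e => col (Kf p φ K L (e + 1)) (Kf p φ K L e)) := by
      refine monotone_nat_of_le_succ (fun e a ha z hz => ?_)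
      refine hKfφ' e (a • z) (K.smul_mem a hz.1) ?_
      rw [map_smulₛₗ, frobenius_def]
      have h1 : a • φ z ∈ Kf p φ K L e := ha _ (hKfφ (e + 1) z hz)
      have h2 : a ^ p = a ^ (p - 1) * a := by
        rw [← pow_succ, Nat.sub_add_cancel (Fact.out : p.Prime).one_le]
      rw [h2, mul_smul]
      exact (Kf p φ K L e).smul_mem _ h1
    obtain ⟨e0, he0⟩ := (monotone_stabilizes_iff_noetherian.mpr
      (inferInstance : IsNoetherian A A))
      ⟨fun e => col (Kf p φ K L (e + 1)) (Kf p φ K L e), h𝔞mono⟩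
    have hL'stab : ∀ z ∈ Kf p φ K L e0, φ z ∈ Kf p φ K L e0 := fun z hz =>
      ⟨hK z hz.1, by
        rw [← Function.iterate_succ_apply, Function.iterate_succ_apply']
        exact hL _ hz.2⟩
    have hloc' : ∀ z ∈ K, ∃ n : ℕ, (⇑φ)^[n] z ∈ Kf p φ K L e0 := fun z hz => by
      obtain ⟨n, hn⟩ := hloc z hz
      refine ⟨n, ?_, hiterL e0 _ hn⟩
      clear hn
      induction n with
      | zero => exact hz
      | succ n ihn =>
        rw [Function.iterate_succ_apply']
        exact hK _ ihn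
    have h𝔟col' : 𝔟 ≤ col K (Kf p φ K L e0) := fun b hb z hz =>
      hLKf e0 (h𝔟 b hb z hz)
    by_cases hne' : 𝔟 = col K (Kf p φ K L e0)
    swap
    · obtain ⟨n, hn⟩ := ih _ (lt_of_le_of_ne h𝔟col' hne') K (Kf p φ K L e0) (hKfK e0) hK
        hL'stab (fun b hb z hz => hb z hz) hloc'
      refine ⟨e0 + n, fun z hz => ?_⟩
      rw [Function.iterate_add_apply]
      exact (hn z hz).2
    exfalso
    have htrick : ∀ a ∈ col (Kf p φ K L (e0 + 1)) (Kf p φ K L e0), ∀ e, e0 ≤ e →
        ∀ z ∈ Kf p φ K L e, (a * a) • z ∈ Kf p φ K L e0 := by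
      intro a ha e he
      induction e, he using Nat.le_induction with
      | base =>
        intro z hz
        exact (Kf p φ K L e0).smul_mem _ hz
      | succ e he ihe =>
        intro z hz
        have h1 : (a * a) • φ z ∈ Kf p φ K L e0 := ihe _ (hKfφ e z hz)
        have h2 : φ (a • z) ∈ Kf p φ K L e0 := by
          rw [map_smulₛₗ, frobenius_def]
          have h3 : a ^ p = a ^ (p - 2) * (a * a) := by
            rw [← pow_two, ← pow_add, Nat.sub_add_cancel (Fact.out : p.Prime).two_le]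
          rw [h3, mul_smul]
          exact (Kf p φ K L e0).smul_mem _ h1
        have h3 : a • z ∈ Kf p φ K L (e0 + 1) := hKfφ' e0 _ (K.smul_mem a hz.1) h2
        have h4 := ha _ h3
        rwa [← mul_smul] at h4
    have h𝔞le : col (Kf p φ K L (e0 + 1)) (Kf p φ K L e0) ≤ 𝔟 := by
      intro a ha
      have hsq : a * a ∈ 𝔟 := by
        rw [hne']
        intro z hz
        obtain ⟨n, hn⟩ := hloc z hz
        have hzn : z ∈ Kf p φ K L n := ⟨hz, hn⟩
        rcases le_total n e0 with h | h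
        · exact (Kf p φ K L e0).smul_mem _ (hKfmonoAll n e0 h hzn)
        · exact htrick a ha n h z hzn
      rcases hprime.mem_or_mem hsq with h | h <;> exact h
    obtain ⟨i, a, ha, hai⟩ := counting 𝔟 (fun i => Kf p φ K L (e0 + i))
      (fun i => hKfmono (e0 + i))
      (fun b hb i z hz => hLKf e0 (h𝔟 b hb z (hKfK _ hz)))
    apply ha
    apply h𝔞le
    have h5 : col (Kf p φ K L (e0 + 1)) (Kf p φ K L e0) =
        col (Kf p φ K L (e0 + i + 1)) (Kf p φ K L (e0 + i)) :=
      he0 (e0 + i) (Nat.le_add_right _ _)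
    have h6 : a ∈ col (Kf p φ K L (e0 + i + 1)) (Kf p φ K L (e0 + i)) := hai
    rw [h5]
    exact h6

/-- **Hartshorne–Speiser–Lyubeznik** over a complete local ring. -/
theorem hsl_complete (hloc : ∀ x : H, ∃ n : ℕ, (⇑φ)^[n] x = 0) :
    ∃ n : ℕ, ∀ x : H, (⇑φ)^[n] x = 0 := by
  have hall : ∀ 𝔟 : Ideal A, Good p φ 𝔟 := fun 𝔟 =>
    IsNoetherian.induction (P := Good p φ) (fun I hI => good_step p φ I (fun J hJ => hI J hJ)) 𝔟
  obtain ⟨n, hn⟩ := hall ⊥ ⊤ ⊥ bot_le (fun _ _ => trivial)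
    (fun z hz => by
      rw [(Submodule.mem_bot A).1 hz, map_zero]
      exact Submodule.zero_mem _)
    (fun b hb z _ => by
      rw [(Submodule.mem_bot A).1 hb, zero_smul]
      exact Submodule.zero_mem _)
    (fun z _ => by
      obtain ⟨n, hn⟩ := hloc z
      exact ⟨n, by rw [hn]; exact Submodule.zero_mem _⟩)
  exact ⟨n, fun x => (Submodule.mem_bot A).1 (hn x trivial)⟩

end Main

end Groth.Agent.Lib.HSLH1
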