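import Mathlib
import Groth.Agent.Lib.HSL2_helper1
import Groth.Agent.Lib.Matlis4_helper5
import Groth.Agent.Lib.InjHull2_helper3
import Groth.Agent.Lib.AnUnram_helper3

/-!
# HSL3 (helper1): Hartshorne–Speiser–Lyubeznik for cofinite modules over a Noetherian local ring

Transfer from the complete case: a power-torsion module over `A` is a module over the completion
(through helper5's `Θ`), and a `p`-linear map stays `p`-linear.  A final `ULift` step makes the
universes of the ring and the module independent.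
-/

namespace Groth.Agent.Lib.HSLH1

open IsLocalRing

universe u v

theorem charP_of_natCast_eq_zero (B : Type*) [CommRing B] [Nontrivial B] (p : ℕ)
    [hp : Fact p.Prime] (h : (p : B) = 0) : CharP B p := by
  obtain ⟨q, hq⟩ := CharP.exists B
  have hdvd : q ∣ p := (CharP.cast_eq_zero_iff B q p).1 h
  rcases (Nat.dvd_prime hp.out).1 hdvd with h1 | h1
  · exfalso
    subst h1
    exact CharP.char_ne_one B 1 rfl
  · subst h1
    exact hq

section Transfer

variable {A : Type u} [CommRing A] [IsLocalRing A] [IsNoetherianRing A]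
  {M : Type u} [AddCommGroup M] [Module A M]
  (htor : LocCoh.IsPowerTorsion (maximalIdeal A) M)

theorem mkₐ_surjective :
    Function.Surjective (AdicCompletion.mkₐ (maximalIdeal A)) := fun x => by
  obtain ⟨a, ha⟩ := AdicCompletion.mk_surjective (maximalIdeal A) A x
  exact ⟨a, ha⟩

theorem Θ_ker (a : AdicCompletion.AdicCauchySequence (maximalIdeal A) A)
    (h : AdicCompletion.mkₐ (maximalIdeal A) a = 0) : Groth.Agent.Matlis.Θ htor a = 0 := by
  ext x
  rw [Groth.Agent.Matlis.Θ_apply htor a (Groth.Agent.Matlis.ord_spec htor x)]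
  have h1 := congrArg (AdicCompletion.evalₐ (maximalIdeal A) (Groth.Agent.Matlis.ord htor x)) h
  rw [AdicCompletion.evalₐ_mkₐ, map_zero, Ideal.Quotient.eq_zero_iff_mem] at h1
  exact Groth.Agent.Matlis.ord_spec htor x _ h1

/-- the action of the completion on a power-torsion module -/
noncomputable def Θbar : AdicCompletion (maximalIdeal A) A →ₐ[A] Module.End A M :=
  (Ideal.Quotient.liftₐ (RingHom.ker (AdicCompletion.mkₐ (maximalIdeal A)))
    (Groth.Agent.Matlis.Θ htor) (fun a ha => Θ_ker htor a ((RingHom.mem_ker).1 ha))).comp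
  ((Ideal.quotientKerAlgEquivOfSurjective (mkₐ_surjective (A := A))).symm :
    AdicCompletion (maximalIdeal A) A →ₐ[A] _)

theorem Θbar_mk (a : AdicCompletion.AdicCauchySequence (maximalIdeal A) A) :
    Θbar htor (AdicCompletion.mkₐ (maximalIdeal A) a) = Groth.Agent.Matlis.Θ htor a := by
  have h1 : (Ideal.quotientKerAlgEquivOfSurjective (mkₐ_surjective (A := A))).symm
      (AdicCompletion.mkₐ (maximalIdeal A) a) = Ideal.Quotient.mk _ a := by
    rw [AlgEquiv.symm_apply_eq]
    rfl
  rw [Θbar, AlgHom.comp_apply, AlgEquiv.coe_algHom, h1, Ideal.Quotient.liftₐ_apply,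
    Ideal.Quotient.lift_mk]
  rfl

/-- the module structure over the completion -/
noncomputable def modC : Module (AdicCompletion (maximalIdeal A) A) M :=
  Module.compHom M ((Θbar htor : AdicCompletion (maximalIdeal A) A →ₐ[A] Module.End A M) :
    AdicCompletion (maximalIdeal A) A →+* Module.End A M)

include htor in
theorem isArtinian_of_cofinite
    (hsoc : Module.Finite A ↥(LocCoh.torsionBy (maximalIdeal A) M)) : IsArtinian A M := by
  obtain ⟨E, _, _, f, hf⟩ :=
    Groth.Agent.Lib.InjHull6_helper3.exists_injective_hull (R := A) (ResidueField A)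
  haveI : Module.Finite (A ⧸ maximalIdeal A) ↥(LocCoh.torsionBy (maximalIdeal A) M) :=
    Module.Finite.of_restrictScalars_finite A _ _
  obtain ⟨g, hg⟩ := Groth.Agent.Lib.InjHull2_helper3.exists_embedding_pow_hull f hf htor _ rfl
  haveI : IsArtinian A E := Groth.Agent.Matlis.isArtinian_hull f hf
  exact isArtinian_of_injective g hg

include htor in
/-- HSL when the ring and the module live in the same universe -/
theorem hsl_same_univ (p : ℕ) [Fact p.Prime] [CharP A p]
    (hsoc : Module.Finite A ↥(LocCoh.torsionBy (maximalIdeal A) M))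
    (φ : M →ₛₗ[frobenius A p] M) (hloc : ∀ x : M, ∃ n : ℕ, (⇑φ)^[n] x = 0) :
    ∃ n : ℕ, ∀ x : M, (⇑φ)^[n] x = 0 := by
  haveI : IsArtinian A M := isArtinian_of_cofinite htor hsoc
  obtain ⟨hlocal, hnoeth, hcompl, -, -, -⟩ := Groth.Agent.Lib.AnUnramH3.completion_facts A
  haveI := hlocal
  haveI := hnoeth
  haveI := hcompl
  letI : Module (AdicCompletion (maximalIdeal A) A) M := modC htor
  have hS : ∀ (â : AdicCompletion (maximalIdeal A) A) (x : M), â • x = Θbar htor â x :=
    fun _ _ => rfl
  haveI : IsScalarTower A (AdicCompletion (maximalIdeal A) A) M := ⟨fun r â x => by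
    rw [hS, hS, map_smul, LinearMap.smul_apply]⟩
  haveI : IsArtinian (AdicCompletion (maximalIdeal A) A) M :=
    isArtinian_of_tower A (inferInstance : IsArtinian A M)
  haveI : CharP (AdicCompletion (maximalIdeal A) A) p := charP_of_natCast_eq_zero _ p (by
    have h0 : ((p : ℕ) : A) = 0 := CharP.cast_eq_zero A p
    rw [← map_natCast (algebraMap A (AdicCompletion (maximalIdeal A) A)), h0, map_zero])
  have hkey : ∀ (a : AdicCompletion.AdicCauchySequence (maximalIdeal A) A) (x : M) (j : ℕ),
      (∀ r ∈ maximalIdeal A ^ j, r • x = 0) → ∀ k : ℕ,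
      (AdicCompletion.mkₐ (maximalIdeal A) a) ^ k • x = (a j) ^ k • x := by
    intro a x j hx k
    induction k generalizing x with
    | zero => rw [pow_zero, pow_zero, one_smul, one_smul]
    | succ k ih =>
      rw [pow_succ, mul_smul, hS _ x, Θbar_mk, Groth.Agent.Matlis.Θ_apply htor a hx, pow_succ,
        mul_smul]
      exact ih (a j • x) (fun r hr => by rw [smul_comm, hx r hr, smul_zero])
  let φ' : M →ₛₗ[frobenius (AdicCompletion (maximalIdeal A) A) p] M :=
    { toFun := φ
      map_add' := map_add φ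
      map_smul' := fun â x => by
        obtain ⟨a, rfl⟩ := mkₐ_surjective â
        obtain ⟨j, hj⟩ := htor x
        obtain ⟨j', hj'⟩ := htor (φ x)
        have hx : ∀ r ∈ maximalIdeal A ^ (max j j'), r • x = 0 := fun r hr =>
          hj r (Ideal.pow_le_pow_right (le_max_left _ _) hr)
        have hφx : ∀ r ∈ maximalIdeal A ^ (max j j'), r • φ x = 0 := fun r hr =>
          hj' r (Ideal.pow_le_pow_right (le_max_right _ _) hr)
        have h1 := hkey a x _ hx 1
        rw [pow_one, pow_one] at h1
        show φ (_ • x) = (frobenius _ p _) • φ x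
        rw [h1, map_smulₛₗ, frobenius_def, frobenius_def, hkey a (φ x) _ hφx p] }
  obtain ⟨n, hn⟩ := hsl_complete p φ' hloc
  exact ⟨n, hn⟩

end Transfer

section ULiftTransfer

variable (A : Type u) [CommRing A] [IsLocalRing A]

theorem down_mem_pow [IsLocalRing (ULift.{v} A)] (n : ℕ) (r : ULift.{v} A)
    (hr : r ∈ maximalIdeal (ULift.{v} A) ^ n) : r.down ∈ maximalIdeal A ^ n := by
  have h1 : maximalIdeal (ULift.{v} A) =
      Ideal.comap (ULift.ringEquiv (R := A)) (maximalIdeal A) :=
    (IsLocalRing.eq_maximalIdeal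
      (Ideal.comap_isMaximal_of_equiv (ULift.ringEquiv (R := A)))).symm
  rw [h1] at hr
  exact Ideal.le_comap_pow _ n hr

theorem up_mem [IsLocalRing (ULift.{v} A)] (a : A) (ha : a ∈ maximalIdeal A) :
    (ULift.up a : ULift.{v} A) ∈ maximalIdeal (ULift.{v} A) := by
  rw [mem_maximalIdeal, mem_nonunits_iff] at ha ⊢
  intro h
  exact ha (h.map (ULift.ringEquiv (R := A)))

end ULiftTransfer

/-- S19127: the Hartshorne–Speiser–Lyubeznik theorem. -/
theorem main19127 (p : ℕ) [Fact p.Prime] (A : Type u) [CommRing A] [IsNoetherianRing A]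
    [IsLocalRing A] [CharP A p] (M : Type v) [AddCommGroup M] [Module A M]
    (htors : LocCoh.IsPowerTorsion (IsLocalRing.maximalIdeal A) M)
    (hsoc : Module.Finite A ↥(LocCoh.torsionBy (IsLocalRing.maximalIdeal A) M))
    (φ : M →ₛₗ[frobenius A p] M)
    (hloc : ∀ x : M, ∃ n : ℕ, (⇑φ)^[n] x = 0) :
    ∃ n : ℕ, ∀ x : M, (⇑φ)^[n] x = 0 := by
  haveI : IsNoetherianRing (ULift.{v} A) :=
    isNoetherianRing_of_ringEquiv A (ULift.ringEquiv (R := A)).symm
  haveI : IsLocalRing (ULift.{v} A) := RingEquiv.isLocalRing (ULift.ringEquiv (R := A)).symm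
  haveI : CharP (ULift.{v} A) p := ULift.charP A p
  have hsmul : ∀ (r : ULift.{v} A) (x : ULift.{u} M), r • x = ULift.up (r.down • x.down) :=
    fun _ _ => rfl
  have htors' : LocCoh.IsPowerTorsion (maximalIdeal (ULift.{v} A)) (ULift.{u} M) := by
    intro x
    obtain ⟨n, hn⟩ := htors x.down
    refine ⟨n, fun a ha => ?_⟩
    rw [hsmul, hn _ (down_mem_pow A n a ha)]
    rfl
  have hsoc' : Module.Finite (ULift.{v} A)
      ↥(LocCoh.torsionBy (maximalIdeal (ULift.{v} A)) (ULift.{u} M)) := by
    let f : ↥(LocCoh.torsionBy (maximalIdeal A) M) →ₛₗ[((ULift.ringEquiv (R := A)).symm :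
        A →+* ULift.{v} A)] ↥(LocCoh.torsionBy (maximalIdeal (ULift.{v} A)) (ULift.{u} M)) :=
      { toFun := fun x => ⟨ULift.up x.1, by
          rw [Submodule.mem_torsionBySet_iff]
          rintro ⟨r, hr⟩
          have hr' : r.down ∈ maximalIdeal A := by
            have := down_mem_pow A 1 r (by rwa [pow_one])
            rwa [pow_one] at this
          have hx := ((Submodule.mem_torsionBySet_iff _ _).1 x.2) ⟨r.down, hr'⟩
          show r • (ULift.up x.1 : ULift.{u} M) = 0
          rw [hsmul]
          show ULift.up (r.down • x.1) = 0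
          rw [hx]
          rfl⟩
        map_add' := fun x y => rfl
        map_smul' := fun a x => rfl }
    refine Module.Finite.of_surjective f ?_
    rintro ⟨y, hy⟩
    refine ⟨⟨y.down, ?_⟩, rfl⟩
    rw [Submodule.mem_torsionBySet_iff]
    rintro ⟨a, ha⟩
    have h1 := ((Submodule.mem_torsionBySet_iff _ _).1 hy) ⟨ULift.up a, up_mem A a ha⟩
    have h2 : (ULift.up a : ULift.{v} A) • y = ULift.up (a • y.down) := rfl
    show a • y.down = 0
    have h3 : ULift.up (a • y.down) = (0 : ULift.{u} M) := h2 ▸ h1
    exact congrArg ULift.down h3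
  let φ' : ULift.{u} M →ₛₗ[frobenius (ULift.{v} A) p] ULift.{u} M :=
    { toFun := fun x => ULift.up (φ x.down)
      map_add' := fun x y => by
        show ULift.up (φ (x.down + y.down)) = _
        rw [map_add]
        rfl
      map_smul' := fun r x => by
        show ULift.up (φ (r.down • x.down)) = (frobenius (ULift.{v} A) p r) • ULift.up (φ x.down)
        rw [map_smulₛₗ, frobenius_def, frobenius_def]
        rfl }
  have hiter : ∀ (n : ℕ) (x : ULift.{u} M), (⇑φ')^[n] x = ULift.up ((⇑φ)^[n] x.down) := by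
    intro n
    induction n with
    | zero => exact fun x => rfl
    | succ n ih =>
      intro x
      rw [Function.iterate_succ_apply', Function.iterate_succ_apply', ih]
      rfl
  obtain ⟨n, hn⟩ := hsl_same_univ htors' p hsoc' φ' (fun x => by
    obtain ⟨n, hn⟩ := hloc x.down
    exact ⟨n, by rw [hiter, hn]; rfl⟩)
  refine ⟨n, fun x => ?_⟩
  have h1 := hn (ULift.up x)
  rw [hiter] at h1
  exact congrArg ULift.down h1

end Groth.Agent.Lib.HSLH1
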