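import Mathlib

/-!
# Half-exact linear functors vanishing on the residue field vanish on finite modules (helper7)
-/

set_option autoImplicit false
set_option backward.isDefEq.respectTransparency false
universe u
open CategoryTheory Limits

namespace Groth.Agent.Lib.HalfExactH7

variable {B A : Type u} [CommRing B] [CommRing A] [IsNoetherianRing B] [IsLocalRing B]
  [IsNoetherianRing A] [IsLocalRing A] [Algebra B A] [IsLocalHom (algebraMap B A)]
  (T : ModuleCat.{u} B ⥤ ModuleCat.{u} A) [T.Additive]

section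

variable (hex : ∀ S : ShortComplex (ModuleCat.{u} B), S.ShortExact → Module.Finite B S.X₁ →
      Module.Finite B S.X₂ → Module.Finite B S.X₃ → (S.map T).Exact)
include hex

theorem isZero_mid {N₁ N₂ N₃ : Type u} [AddCommGroup N₁] [Module B N₁] [Module.Finite B N₁]
    [AddCommGroup N₂] [Module B N₂] [Module.Finite B N₂]
    [AddCommGroup N₃] [Module B N₃] [Module.Finite B N₃]
    (f : N₁ →ₗ[B] N₂) (g : N₂ →ₗ[B] N₃) (hf : Function.Injective f)
    (hg : Function.Surjective g) (hfg : Function.Exact f g)
    (h₁ : IsZero (T.obj (ModuleCat.of B N₁))) (h₃ : IsZero (T.obj (ModuleCat.of B N₃))) :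
    IsZero (T.obj (ModuleCat.of B N₂)) := by
  let S : ShortComplex (ModuleCat.{u} B) :=
    ShortComplex.mk (ModuleCat.ofHom f) (ModuleCat.ofHom g) (by
      apply ModuleCat.hom_ext
      apply LinearMap.ext
      intro x
      exact hfg.apply_apply_eq_zero x)
  have hS : S.ShortExact := ModuleCat.shortComplex_shortExact S hfg hf hg
  have hE : (S.map T).Exact := hex S hS (by exact ‹Module.Finite B N₁›)
    (by exact ‹Module.Finite B N₂›) (by exact ‹Module.Finite B N₃›)
  exact hE.isZero_of_both_zeros (h₁.eq_of_src _ _) (h₃.eq_of_tgt _ _)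

theorem isZero_of_killed (J : Ideal B)
    (hJ : ∀ q : Ideal B, q.IsPrime → J ≤ q → IsZero (T.obj (ModuleCat.of B (B ⧸ q))))
    (N : Type u) [AddCommGroup N] [Module B N] [Module.Finite B N]
    (hN : ∀ x ∈ J, ∀ n : N, x • n = 0) : IsZero (T.obj (ModuleCat.of B N)) := by
  refine IsNoetherianRing.induction_on_isQuotientEquivQuotientPrime B (M := N) inferInstance
    (motive := fun N' [AddCommGroup N'] [Module B N'] [Module.Finite B N'] =>
      (∀ x ∈ J, ∀ n : N', x • n = 0) → IsZero (T.obj (ModuleCat.of B N'))) ?_ ?_ ?_ hN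
  · intro N' _ _ _ _ _
    exact T.map_isZero (ModuleCat.isZero_of_subsingleton _)
  · intro N' _ _ _ p e hN'
    have hle : J ≤ p.asIdeal := by
      intro x hx
      have h1 := hN' x hx (e.symm 1)
      rw [← map_smul, e.symm.map_eq_zero_iff] at h1
      have h2 : (Ideal.Quotient.mk p.asIdeal x) = 0 := by
        rw [← h1, Algebra.smul_def, mul_one, Ideal.Quotient.algebraMap_eq]
      exact Ideal.Quotient.eq_zero_iff_mem.mp h2
    have h2 := hJ p.asIdeal p.isPrime hle
    exact h2.of_iso (T.mapIso (e.toModuleIso))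
  · intro N₁ _ _ _ N₂ _ _ _ N₃ _ _ _ f g hf hg hfg h₁ h₃ hN'
    refine isZero_mid T hex f g hf hg hfg (h₁ ?_) (h₃ ?_)
    · intro x hx n
      apply hf
      rw [map_smul, hN' x hx, map_zero]
    · intro x hx n
      obtain ⟨n, rfl⟩ := hg n
      rw [← map_smul, hN' x hx, map_zero]

variable (hlin : ∀ (N : ModuleCat.{u} B) (b : B),
      T.map (ModuleCat.ofHom (b • (LinearMap.id : N →ₗ[B] N))) =
        ModuleCat.ofHom (algebraMap B A b • (LinearMap.id : T.obj N →ₗ[A] T.obj N)))
    (hfin : ∀ N : ModuleCat.{u} B, Module.Finite B N → Module.Finite A (T.obj N))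
    (h0 : Limits.IsZero (T.obj (ModuleCat.of B (B ⧸ IsLocalRing.maximalIdeal B))))
include hlin hfin h0

theorem isZero_quot_prime (p : Ideal B) :
    p.IsPrime → IsZero (T.obj (ModuleCat.of B (B ⧸ p))) := by
  refine WellFoundedGT.induction
    (motive := fun p : Ideal B => p.IsPrime → IsZero (T.obj (ModuleCat.of B (B ⧸ p)))) p ?_
  intro p ih hp
  by_cases hpn : p = IsLocalRing.maximalIdeal B
  · subst hpn
    exact h0
  · have hlt : p < IsLocalRing.maximalIdeal B :=
      lt_of_le_of_ne (IsLocalRing.le_maximalIdeal hp.ne_top) hpn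
    obtain ⟨b, hbn, hbp⟩ := SetLike.exists_of_lt hlt
    let μ : (B ⧸ p) →ₗ[B] (B ⧸ p) := b • LinearMap.id
    have hμapp : ∀ x : B ⧸ p, μ x = b • x := fun x => rfl
    have hμ : Function.Injective μ := by
      rw [injective_iff_map_eq_zero]
      intro x hx
      obtain ⟨x, rfl⟩ := Ideal.Quotient.mk_surjective x
      rw [hμapp] at hx
      have h1 : b * x ∈ p := by
        apply Ideal.Quotient.eq_zero_iff_mem.mp
        rw [← hx, Algebra.smul_def, map_mul]
        rfl
      exact Ideal.Quotient.eq_zero_iff_mem.mpr ((hp.mem_or_mem h1).resolve_left hbp)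
    have hp_smul : ∀ y ∈ p, ∀ n : B ⧸ p, y • n = 0 := by
      intro y hy n
      rw [Algebra.smul_def, Ideal.Quotient.algebraMap_eq, Ideal.Quotient.eq_zero_iff_mem.mpr hy,
        zero_mul]
    have h3 : IsZero (T.obj (ModuleCat.of B ((B ⧸ p) ⧸ LinearMap.range μ))) := by
      refine isZero_of_killed T hex (p ⊔ Ideal.span {b}) ?_ _ ?_
      · intro q hq hle
        refine ih q ?_ hq
        refine lt_of_le_of_ne (le_sup_left.trans hle) ?_
        intro h
        apply hbp
        rw [h]
        exact hle (Ideal.mem_sup_right (Ideal.mem_span_singleton_self b))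
      · intro x hx n
        obtain ⟨n, rfl⟩ := Submodule.Quotient.mk_surjective _ n
        obtain ⟨y, hy, z, hz, rfl⟩ := Submodule.mem_sup.mp hx
        obtain ⟨c, rfl⟩ := Ideal.mem_span_singleton'.mp hz
        rw [← Submodule.Quotient.mk_smul, Submodule.Quotient.mk_eq_zero]
        refine ⟨c • n, ?_⟩
        rw [hμapp, add_smul, hp_smul y hy, zero_add, mul_smul, smul_comm]
    have hE := hex (ShortComplex.mk (ModuleCat.ofHom μ)
        (ModuleCat.ofHom (LinearMap.range μ).mkQ) (by
          apply ModuleCat.hom_ext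
          apply LinearMap.ext
          intro x
          exact (LinearMap.exact_map_mkQ_range μ).apply_apply_eq_zero x))
      (ModuleCat.shortComplex_shortExact _ (LinearMap.exact_map_mkQ_range μ) hμ
        (Submodule.mkQ_surjective _))
      (by exact (inferInstance : Module.Finite B (B ⧸ p)))
      (by exact (inferInstance : Module.Finite B (B ⧸ p)))
      (by exact (inferInstance : Module.Finite B ((B ⧸ p) ⧸ LinearMap.range μ)))
    have hepi : Epi (T.map (ModuleCat.ofHom μ)) :=
      ((ShortComplex.exact_iff_epi _ (h3.eq_of_tgt _ _)).mp hE)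
    have hμT : T.map (ModuleCat.ofHom μ) = ModuleCat.ofHom (algebraMap B A b •
        (LinearMap.id : T.obj (ModuleCat.of B (B ⧸ p)) →ₗ[A] T.obj (ModuleCat.of B (B ⧸ p)))) :=
      hlin (ModuleCat.of B (B ⧸ p)) b
    rw [hμT] at hepi
    have hsurj := (ModuleCat.epi_iff_surjective _).mp hepi
    haveI : Module.Finite A (T.obj (ModuleCat.of B (B ⧸ p))) :=
      hfin _ (by exact (inferInstance : Module.Finite B (B ⧸ p)))
    have ha : algebraMap B A b ∈ IsLocalRing.maximalIdeal A := by
      rw [IsLocalRing.mem_maximalIdeal, mem_nonunits_iff]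
      intro h
      have h1 := (isUnit_map_iff (algebraMap B A) b).mp h
      exact (IsLocalRing.mem_maximalIdeal b).mp hbn h1
    have htop : (⊤ : Submodule A (T.obj (ModuleCat.of B (B ⧸ p)))) ≤
        IsLocalRing.maximalIdeal A • ⊤ := by
      intro x _
      obtain ⟨y, rfl⟩ := hsurj x
      exact Submodule.smul_mem_smul ha trivial
    have hbot : (⊤ : Submodule A (T.obj (ModuleCat.of B (B ⧸ p)))) = ⊥ :=
      Submodule.eq_bot_of_le_smul_of_le_jacobson_bot (IsLocalRing.maximalIdeal A) ⊤
        Module.Finite.fg_top htop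
        (by rw [IsLocalRing.jacobson_eq_maximalIdeal ⊥ bot_ne_top])
    haveI : Subsingleton (T.obj (ModuleCat.of B (B ⧸ p))) := by
      refine ⟨fun x y => ?_⟩
      have hx : x ∈ (⊤ : Submodule A (T.obj (ModuleCat.of B (B ⧸ p)))) := trivial
      have hy : y ∈ (⊤ : Submodule A (T.obj (ModuleCat.of B (B ⧸ p)))) := trivial
      rw [hbot, Submodule.mem_bot] at hx hy
      rw [hx, hy]
    exact ModuleCat.isZero_of_subsingleton _

theorem main (N : ModuleCat.{u} B) [Module.Finite B N] : IsZero (T.obj N) := by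
  have h := isZero_of_killed T hex ⊥
    (fun q hq _ => isZero_quot_prime T hex hlin hfin h0 q hq) N (by
      intro x hx n
      rw [(Submodule.mem_bot B).mp hx, zero_smul])
  exact h

end

end Groth.Agent.Lib.HalfExactH7
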