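import Mathlib

/-!
# Scheme-theoretic density of opens whose complement has depth ≥ 1 (helper4)

* `ext_of_schDominant`: morphisms to a separated scheme which agree after composing with a
  scheme-theoretically dominant morphism are equal.
* `false_of_regular`: algebra core (a local ring whose maximal ideal is minimal over the annihilator
  of an element has no regular element in the maximal ideal).
* `isSchemeTheoreticallyDominant_ι`: the open immersion of a retrocompact open whose complement
  has depth ≥ 1 at every point is scheme theoretically dominant.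
-/

open AlgebraicGeometry CategoryTheory Limits

universe u

namespace Groth.Agent.Lib.SchDenseOldH4

set_option backward.isDefEq.respectTransparency false in
/-- Morphisms over a separated base which agree on a scheme theoretically dominant
morphism are equal. -/
lemma ext_of_schDominant {W X Y Z : Scheme.{u}} {f g : X ⟶ Y}
    (s : Y ⟶ Z) [IsSeparated s] (h : f ≫ s = g ≫ s)
    (ι : W ⟶ X) [IsSchemeTheoreticallyDominant ι] (hU : ι ≫ f = ι ≫ g) : f = g := by
  let X' : Over Z := Over.mk (f ≫ s)
  let Y' : Over Z := Over.mk s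
  let U' : Over Z := Over.mk (ι ≫ f ≫ s)
  let f' : X' ⟶ Y' := Over.homMk f
  let g' : X' ⟶ Y' := Over.homMk g
  let ι' : U' ⟶ X' := Over.homMk ι
  have : IsSeparated Y'.hom := ‹_›
  have hcond : ι' ≫ f' = ι' ≫ g' := by ext1; exact hU
  have hfac : (equalizer.lift ι' hcond).left ≫ (equalizer.ι f' g').left = ι := by
    rw [← Over.comp_left, equalizer.lift_ι]
    rfl
  have hker : (equalizer.ι f' g').left.ker = ⊥ := by
    have h1 := Scheme.Hom.le_ker_comp (equalizer.lift ι' hcond).left (equalizer.ι f' g').left
    rw [hfac, ι.ker_eq_bot] at h1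
    exact le_bot_iff.mp h1
  have := (IsClosedImmersion.isIso_iff_ker_eq_bot (f := (equalizer.ι f' g').left)).mpr hker
  rw [← cancel_epi (equalizer.ι f' g').left]
  exact congr($(equalizer.condition f' g').left)

/-- Algebra core: if `p` is minimal over the annihilator of `t` and `R = A_p`, then the maximal
ideal of `R` contains no `R`-regular element. -/
lemma false_of_regular {A R : Type*} [CommRing A] [CommRing R] [Algebra A R] [IsLocalRing R]
    (t : A) (p : Ideal A) [p.IsPrime] [IsLocalization.AtPrime R p]
    (hp : p ∈ (Submodule.span A {t}).annihilator.minimalPrimes)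
    (a : R) (ha : a ∈ IsLocalRing.maximalIdeal R) (hreg : IsSMulRegular R a) : False := by
  obtain ⟨τ, hτ⟩ : ∃ τ, τ = algebraMap A R t := ⟨_, rfl⟩
  have hregM : IsSMulRegular (Submodule.span R {τ}) a := hreg.submodule _ _
  have hτ0 : τ ≠ 0 := by
    intro h0
    rw [hτ, IsLocalization.map_eq_zero_iff p.primeCompl] at h0
    obtain ⟨m, hm⟩ := h0
    have : (m : A) ∈ (Submodule.span A {t}).annihilator := by
      rw [Submodule.mem_annihilator_span_singleton]
      exact hm
    exact m.2 (hp.1.2 this)
  have hmin : IsLocalRing.maximalIdeal R ∈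
      (Module.annihilator R (Submodule.span R {τ})).minimalPrimes := by
    refine ⟨⟨inferInstance, ?_⟩, ?_⟩
    · apply IsLocalRing.le_maximalIdeal
      intro htop
      have h1 : (1 : R) ∈ (Submodule.span R {τ}).annihilator := by
        change (1 : R) ∈ Module.annihilator R (Submodule.span R {τ})
        rw [htop]; trivial
      rw [Submodule.mem_annihilator_span_singleton, one_smul] at h1
      exact hτ0 h1
    · rintro q ⟨hqprime, hq⟩ hqm
      have hq₀ : (Submodule.span A {t}).annihilator ≤ q.comap (algebraMap A R) := by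
        intro s hs
        rw [Submodule.mem_annihilator_span_singleton] at hs
        rw [Ideal.mem_comap]
        apply hq
        change algebraMap A R s ∈ (Submodule.span R {τ}).annihilator
        rw [Submodule.mem_annihilator_span_singleton, hτ, smul_eq_mul, ← map_mul]
        rw [smul_eq_mul] at hs
        rw [hs, map_zero]
      have hq₁ : q.comap (algebraMap A R) ≤ p := by
        have := IsLocalization.AtPrime.under_maximalIdeal R p
        rw [← this]
        exact Ideal.comap_mono hqm
      have hq₂ : p ≤ q.comap (algebraMap A R) := hp.2 ⟨inferInstance, hq₀⟩ hq₁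
      have hq₃ : q.comap (algebraMap A R) = (IsLocalRing.maximalIdeal R).comap (algebraMap A R) := by
        have := IsLocalization.AtPrime.under_maximalIdeal R p
        exact (le_antisymm hq₁ hq₂).trans this.symm
      have e1 := IsLocalization.map_under p.primeCompl (S := R) q
      have e2 := IsLocalization.map_under p.primeCompl (S := R) (IsLocalRing.maximalIdeal R)
      change Ideal.map (algebraMap A R) (q.comap (algebraMap A R)) = q at e1
      change Ideal.map (algebraMap A R) ((IsLocalRing.maximalIdeal R).comap (algebraMap A R)) = _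
        at e2
      rw [← e1, ← e2, hq₃]
  exact hregM.notMem_of_mem_minimalPrimes hmin ha

/-- The key injectivity: for an affine open `W`, restriction `Γ(X, W) → Γ(U, U ∩ W)` is injective
when every point outside `U` has depth ≥ 1. -/
lemma app_injective_of_regular (X : Scheme.{u}) (U : X.Opens)
    (hZ : ∀ z : X, z ∉ U → ∃ a ∈ IsLocalRing.maximalIdeal (X.presheaf.stalk z),
      IsSMulRegular (X.presheaf.stalk z) a)
    (W : X.Opens) (hW : IsAffineOpen W) :
    Function.Injective (U.ι.app W).hom := by
  rw [injective_iff_map_eq_zero]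
  intro t ht
  by_contra ht0
  have hI : (Submodule.span Γ(X, W) {t}).annihilator ≠ ⊤ := by
    intro htop
    have h1 : (1 : Γ(X, W)) ∈ (Submodule.span Γ(X, W) {t}).annihilator := by
      rw [htop]; trivial
    rw [Submodule.mem_annihilator_span_singleton, one_smul] at h1
    exact ht0 h1
  obtain ⟨m, hm, hIm⟩ := Ideal.exists_le_maximal _ hI
  have : m.IsPrime := hm.isPrime
  obtain ⟨p, hp, -⟩ := Ideal.exists_minimalPrimes_le hIm
  have hpprime : p.IsPrime := hp.1.1
  let y : PrimeSpectrum Γ(X, W) := ⟨p, hpprime⟩
  have hz : hW.fromSpec y ∈ W := by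
    have := Set.mem_range_self (f := hW.fromSpec) y
    rwa [hW.range_fromSpec] at this
  letI := TopCat.Presheaf.algebra_section_stalk X.presheaf ⟨hW.fromSpec y, hz⟩
  have hloc : IsLocalization.AtPrime (X.presheaf.stalk (hW.fromSpec y)) p :=
    hW.isLocalization_stalk' y hz
  by_cases hzU : hW.fromSpec y ∈ U
  · -- the germ of `t` at `z` vanishes
    have hgerm : X.presheaf.germ W (hW.fromSpec y) hz t = 0 := by
      have hinj : Function.Injective (U.ι.stalkMap ⟨hW.fromSpec y, hzU⟩) :=
        (ConcreteCategory.bijective_of_isIso (U.ι.stalkMap ⟨hW.fromSpec y, hzU⟩)).1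
      apply hinj
      have e := Scheme.Hom.germ_stalkMap_apply U.ι W ⟨hW.fromSpec y, hzU⟩ hz t
      have ht' : (ConcreteCategory.hom (U.ι.app W)) t = 0 := ht
      rw [ht', map_zero] at e
      exact e.trans (map_zero _).symm
    have h0 : algebraMap Γ(X, W) (X.presheaf.stalk (hW.fromSpec y)) t = 0 := hgerm
    rw [IsLocalization.map_eq_zero_iff p.primeCompl] at h0
    obtain ⟨s, hs⟩ := h0
    have : (s : Γ(X, W)) ∈ (Submodule.span Γ(X, W) {t}).annihilator := by
      rw [Submodule.mem_annihilator_span_singleton]
      exact hs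
    exact s.2 (hp.1.2 this)
  · obtain ⟨a, ha, hreg⟩ := hZ _ hzU
    exact false_of_regular t p hp a ha hreg

/-- The inclusion of a retrocompact open whose complement has depth ≥ 1 is scheme theoretically
dominant. -/
lemma isSchemeTheoreticallyDominant_ι (X : Scheme.{u}) (U : X.Opens) [QuasiCompact U.ι]
    (hZ : ∀ z : X, z ∉ U → ∃ a ∈ IsLocalRing.maximalIdeal (X.presheaf.stalk z),
      IsSMulRegular (X.presheaf.stalk z) a) :
    IsSchemeTheoreticallyDominant U.ι := by
  refine ⟨?_⟩
  apply Scheme.IdealSheafData.ext
  funext W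
  rw [Scheme.Hom.ker_apply, Scheme.IdealSheafData.ideal_bot]
  exact (RingHom.injective_iff_ker_eq_bot _).mp (app_injective_of_regular X U hZ W.1 W.2)

theorem main (X : Scheme.{u}) (U : X.Opens) [QuasiCompact U.ι]
    (hZ : ∀ z : X, z ∉ U → ∃ a ∈ IsLocalRing.maximalIdeal (X.presheaf.stalk z),
      IsSMulRegular (X.presheaf.stalk z) a)
    (Y : Scheme.{u}) (f : Y ⟶ X) [IsSeparated f] (s₁ s₂ : X ⟶ Y) (h₁ : s₁ ≫ f = 𝟙 X)
    (h₂ : s₂ ≫ f = 𝟙 X) (hU : U.ι ≫ s₁ = U.ι ≫ s₂) : s₁ = s₂ := by
  have := isSchemeTheoreticallyDominant_ι X U hZ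
  exact ext_of_schDominant f (h₁.trans h₂.symm) U.ι hU

end Groth.Agent.Lib.SchDenseOldH4
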