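import Mathlib
import Groth.Prelude
import Groth.Agent.Lib.SchDenseOld_helper4
import Groth.Agent.Lib.FinFlatExt_helper4

/-!
# Non-Noetherian Hartogs: extension of sections of affine morphisms (helper4)

`X` a scheme, `U` a retrocompact open such that at every `z ∉ U` the maximal ideal of `𝒪_{X,z}`
contains a weakly regular pair.  Then for affine `X`, `Γ(X, ⊤) → Γ(U, ⊤)` is bijective, and for
any `X` and any affine `f : Y ⟶ X` every section of `f` over `U` extends to a section over `X`.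
-/

set_option autoImplicit false
set_option linter.unusedVariables false
set_option linter.unusedTactic false
set_option linter.unreachableTactic false
set_option linter.unusedSectionVars false
set_option linter.style.haveILetI false
set_option maxHeartbeats 800000
set_option backward.isDefEq.respectTransparency false

universe u

open AlgebraicGeometry CategoryTheory CategoryTheory.Limits TopologicalSpace
open Groth.Agent.Lib.FinFlatExtH4
open scoped Pointwise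

namespace Groth.Agent.Lib.HartogsNNH4

section Alg

/-- elementwise form of "`[a, b]` is a weakly regular sequence on the ring" -/
def RegPair {R : Type*} [CommRing R] (a b : R) : Prop :=
  IsSMulRegular R a ∧ ∀ x : R, (∃ w, b * x = a * w) → ∃ w', x = a * w'

theorem regPair_of_isWeaklyRegular {R : Type*} [CommRing R] (a b : R)
    (h : RingTheory.Sequence.IsWeaklyRegular R [a, b]) : RegPair a b := by
  rw [RingTheory.Sequence.isWeaklyRegular_cons_iff,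
    RingTheory.Sequence.isWeaklyRegular_cons_iff] at h
  obtain ⟨ha, hb, -⟩ := h
  refine ⟨ha, ?_⟩
  rintro x ⟨w, hw⟩
  have hmem : b • x ∈ a • (⊤ : Submodule R R) := by
    rw [Submodule.mem_smul_pointwise_iff_exists]
    exact ⟨w, trivial, by rw [smul_eq_mul, smul_eq_mul, hw]⟩
  have h2 := mem_of_isSMulRegular_quotient_of_smul_mem hb hmem
  rw [Submodule.mem_smul_pointwise_iff_exists] at h2
  obtain ⟨w', -, hw'⟩ := h2
  exact ⟨w', by rw [← hw', smul_eq_mul]⟩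

theorem RegPair.pow_left {R : Type*} [CommRing R] {a b : R} (h : RegPair a b) (n : ℕ) :
    ∀ x : R, (∃ w, b * x = a ^ n * w) → ∃ w', x = a ^ n * w' := by
  induction n with
  | zero =>
    intro x _
    exact ⟨x, by rw [pow_zero, one_mul]⟩
  | succ n ih =>
    rintro x ⟨w, hw⟩
    obtain ⟨x₁, hx₁⟩ := h.2 x ⟨a ^ n * w, by rw [hw]; ring⟩
    have h1 : b * x₁ = a ^ n * w := by
      apply h.1
      show a • (b * x₁) = a • (a ^ n * w)
      rw [smul_eq_mul, smul_eq_mul]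
      calc a * (b * x₁) = b * (a * x₁) := by ring
        _ = b * x := by rw [hx₁]
        _ = a ^ (n + 1) * w := hw
        _ = a * (a ^ n * w) := by ring
    obtain ⟨w', hw'⟩ := ih x₁ ⟨w, h1⟩
    exact ⟨w', by rw [hx₁, hw']; ring⟩

theorem RegPair.pow_both {R : Type*} [CommRing R] {a b : R} (h : RegPair a b) (n k : ℕ) :
    ∀ x : R, (∃ w, b ^ k * x = a ^ n * w) → ∃ w', x = a ^ n * w' := by
  induction k with
  | zero =>
    rintro x ⟨w, hw⟩
    exact ⟨w, by rw [← hw, pow_zero, one_mul]⟩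
  | succ k ih =>
    rintro x ⟨w, hw⟩
    obtain ⟨w₁, hw₁⟩ := ih (b * x) ⟨w, by rw [← hw]; ring⟩
    exact h.pow_left n x ⟨w₁, hw₁⟩

theorem RegPair.mul_units {R : Type*} [CommRing R] {a b : R} (h : RegPair a b) (u v : Rˣ) :
    RegPair (a * u) (b * v) := by
  refine ⟨?_, ?_⟩
  · intro x y hxy
    have hxy' : a * (u : R) * x = a * (u : R) * y := hxy
    have h1 : a • ((u : R) * x) = a • ((u : R) * y) := by
      rw [smul_eq_mul, smul_eq_mul, ← mul_assoc, ← mul_assoc]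
      exact hxy'
    have h2 := h.1 h1
    exact (Units.mul_right_inj u).mp h2
  · rintro x ⟨w, hw⟩
    obtain ⟨w', hw'⟩ := h.2 ((v : R) * x) ⟨(u : R) * w, by
      rw [← mul_assoc, ← mul_assoc]
      exact hw⟩
    refine ⟨(↑u⁻¹ : R) * (↑v⁻¹ : R) * w', ?_⟩
    have hu : (u : R) * (↑u⁻¹ : R) = 1 := Units.mul_inv u
    have hv : (↑v⁻¹ : R) * (v : R) = 1 := Units.inv_mul v
    calc x = ((↑v⁻¹ : R) * (v : R)) * x := by rw [hv, one_mul]
      _ = (↑v⁻¹ : R) * ((v : R) * x) := by ring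
      _ = (↑v⁻¹ : R) * (a * w') := by rw [hw']
      _ = a * ((u : R) * (↑u⁻¹ : R)) * ((↑v⁻¹ : R) * w') := by rw [hu]; ring
      _ = a * ↑u * ((↑u⁻¹ : R) * (↑v⁻¹ : R) * w') := by ring

theorem RegPair.map_equiv {R R' : Type*} [CommRing R] [CommRing R'] (e : R ≃+* R') {a b : R}
    (h : RegPair a b) : RegPair (e a) (e b) := by
  refine ⟨?_, ?_⟩
  · intro x y hxy
    have hxy' : e a * x = e a * y := hxy
    have h1 : a • e.symm x = a • e.symm y := by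
      rw [smul_eq_mul, smul_eq_mul]
      apply e.injective
      rw [map_mul, map_mul, e.apply_symm_apply, e.apply_symm_apply]
      exact hxy'
    have h2 := h.1 h1
    exact e.symm.injective h2
  · rintro x ⟨w, hw⟩
    obtain ⟨w', hw'⟩ := h.2 (e.symm x) ⟨e.symm w, by
      apply e.injective
      rw [map_mul, map_mul, e.apply_symm_apply, e.apply_symm_apply]
      exact hw⟩
    refine ⟨e w', ?_⟩
    rw [← map_mul, ← hw', e.apply_symm_apply]

section Loc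

theorem loc_F1 {A : Type*} [CommRing A] (p : Ideal A) [p.IsPrime] (R : Type*) [CommRing R] [Algebra A R]
    [IsLocalization.AtPrime R p] (a₀ : A) (hreg : IsSMulRegular R (algebraMap A R a₀)) (x : A) (hx : a₀ * x = 0) :
    ∃ s : A, s ∉ p ∧ s * x = 0 := by
  have h1 : algebraMap A R a₀ • algebraMap A R x = algebraMap A R a₀ • (0 : R) := by
    rw [smul_eq_mul, smul_eq_mul, mul_zero, ← map_mul, hx, map_zero]
  have h2 : algebraMap A R x = 0 := hreg h1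
  rw [IsLocalization.map_eq_zero_iff p.primeCompl] at h2
  obtain ⟨m, hm⟩ := h2
  exact ⟨m, m.2, hm⟩

theorem loc_F2 {A : Type*} [CommRing A] (p : Ideal A) [p.IsPrime] (R : Type*) [CommRing R] [Algebra A R]
    [IsLocalization.AtPrime R p] (a₀ b₀ : A) (h : RegPair (algebraMap A R a₀) (algebraMap A R b₀)) (n k : ℕ)
    (s x w : A) (hs : s ∉ p) (hx : s * b₀ ^ k * x = a₀ ^ n * w) :
    ∃ s' : A, s' ∉ p ∧ ∃ w' : A, s' * x = a₀ ^ n * w' := by
  obtain ⟨us, hus⟩ := IsLocalization.map_units R (⟨s, hs⟩ : p.primeCompl)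
  have hus' : (us : R) = algebraMap A R s := hus
  have hinv : (↑us⁻¹ : R) * algebraMap A R s = 1 := by
    rw [← hus']
    exact Units.inv_mul us
  have e := congrArg (algebraMap A R) hx
  rw [map_mul, map_mul, map_mul, map_pow, map_pow] at e
  have h1 : (algebraMap A R b₀) ^ k * algebraMap A R x =
      (algebraMap A R a₀) ^ n * ((↑us⁻¹ : R) * algebraMap A R w) := by
    calc (algebraMap A R b₀) ^ k * algebraMap A R x
        = ((↑us⁻¹ : R) * algebraMap A R s) * ((algebraMap A R b₀) ^ k * algebraMap A R x) := by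
          rw [hinv, one_mul]
      _ = (↑us⁻¹ : R) * (algebraMap A R s * (algebraMap A R b₀) ^ k * algebraMap A R x) := by ring
      _ = (↑us⁻¹ : R) * ((algebraMap A R a₀) ^ n * algebraMap A R w) := by rw [e]
      _ = (algebraMap A R a₀) ^ n * ((↑us⁻¹ : R) * algebraMap A R w) := by ring
  obtain ⟨wb, hwb⟩ := h.pow_both n k (algebraMap A R x) ⟨_, h1⟩
  obtain ⟨⟨w₁, s₁⟩, hws⟩ := IsLocalization.surj p.primeCompl wb
  have hws' : wb * algebraMap A R (s₁ : A) = algebraMap A R w₁ := hws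
  have h2 : algebraMap A R (x * s₁) = algebraMap A R (a₀ ^ n * w₁) := by
    rw [map_mul, map_mul, map_pow, hwb, mul_assoc, hws']
  obtain ⟨c, hc⟩ := (IsLocalization.eq_iff_exists p.primeCompl R).mp h2
  refine ⟨c * s₁, p.primeCompl.mul_mem c.2 s₁.2, c * w₁, ?_⟩
  calc (c : A) * s₁ * x = c * (x * s₁) := by ring
    _ = c * (a₀ ^ n * w₁) := hc
    _ = a₀ ^ n * (c * w₁) := by ring

theorem loc_F3 {A : Type*} [CommRing A] (p : Ideal A) [p.IsPrime] (R : Type*) [CommRing R] [Algebra A R]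
    [IsLocalization.AtPrime R p] (I : Ideal A) (hp : p ∈ I.minimalPrimes) (e : A) (he : e ∈ p) :
    ∃ n : ℕ, ∃ s : A, s ∉ p ∧ s * e ^ n ∈ I := by
  have hrad := IsLocalization.AtPrime.radical_map_of_mem_minimalPrimes R p I hp
  have h1 : algebraMap A R e ∈ (I.map (algebraMap A R)).radical := by
    rw [hrad]
    exact Ideal.mem_map_of_mem _ he
  obtain ⟨n, hn⟩ := Ideal.mem_radical_iff.mp h1
  rw [IsLocalization.mem_map_algebraMap_iff p.primeCompl R] at hn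
  obtain ⟨⟨i, s⟩, his⟩ := hn
  have his' : algebraMap A R e ^ n * algebraMap A R (s : A) = algebraMap A R (i : A) := his
  have h2 : algebraMap A R (e ^ n * s) = algebraMap A R i := by
    rw [map_mul, map_pow]
    exact his'
  obtain ⟨c, hc⟩ := (IsLocalization.eq_iff_exists p.primeCompl R).mp h2
  refine ⟨n, c * s, p.primeCompl.mul_mem c.2 s.2, ?_⟩
  have h3 : (c : A) * s * e ^ n = c * i := by
    rw [← hc]
    ring
  rw [h3]
  exact I.mul_mem_left _ i.2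

end Loc

/-- the colon ideal `(ρ(A) : τ)` -/
def colonIdeal {A B : Type*} [CommRing A] [CommRing B] (ρ : A →+* B) (τ : B) : Ideal A where
  carrier := {r | ∃ x, ρ x = ρ r * τ}
  add_mem' := by
    rintro r r' ⟨x, hx⟩ ⟨x', hx'⟩
    exact ⟨x + x', by rw [map_add, map_add, add_mul, hx, hx']⟩
  zero_mem' := ⟨0, by rw [map_zero, zero_mul]⟩
  smul_mem' := by
    rintro c r ⟨x, hx⟩
    exact ⟨c * x, by rw [smul_eq_mul, map_mul, map_mul, hx, mul_assoc]⟩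

/-- algebra core of the extension argument -/
theorem colon_not_le {A B : Type*} [CommRing A] [CommRing B] (ρ : A →+* B)
    (hinj : Function.Injective ρ) (τ : B) (p : Ideal A) [p.IsPrime]
    (R : Type*) [CommRing R] [Algebra A R] [IsLocalRing R] [IsLocalization.AtPrime R p]
    (hp : p ∈ (colonIdeal ρ τ).minimalPrimes) (a b : R)
    (ha : a ∈ IsLocalRing.maximalIdeal R) (hb : b ∈ IsLocalRing.maximalIdeal R)
    (hreg : RegPair a b)
    (hG : ∀ a₀ : A, IsSMulRegular R (algebraMap A R a₀) → ∀ β : B, ρ a₀ * β = 0 →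
      ∃ s : A, s ∉ p ∧ ρ s * β = 0) : False := by
  obtain ⟨⟨a₀, sa⟩, hsa⟩ := IsLocalization.surj p.primeCompl a
  obtain ⟨⟨b₀, sb⟩, hsb⟩ := IsLocalization.surj p.primeCompl b
  have hsa' : a * algebraMap A R (sa : A) = algebraMap A R a₀ := hsa
  have hsb' : b * algebraMap A R (sb : A) = algebraMap A R b₀ := hsb
  obtain ⟨ua, hua⟩ := IsLocalization.map_units R sa
  obtain ⟨ub, hub⟩ := IsLocalization.map_units R sb
  have hreg' : RegPair (algebraMap A R a₀) (algebraMap A R b₀) := by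
    have h0 := hreg.mul_units ua ub
    rw [hua, hub, hsa', hsb'] at h0
    exact h0
  have ha₀ : a₀ ∈ p := by
    rw [← IsLocalization.AtPrime.to_map_mem_maximal_iff R p a₀, ← hsa']
    exact Ideal.mul_mem_right _ _ ha
  have hb₀ : b₀ ∈ p := by
    rw [← IsLocalization.AtPrime.to_map_mem_maximal_iff R p b₀, ← hsb']
    exact Ideal.mul_mem_right _ _ hb
  obtain ⟨n, s₁, hs₁, hn⟩ := loc_F3 p R _ hp a₀ ha₀
  obtain ⟨k, s₂, hs₂, hk⟩ := loc_F3 p R _ hp b₀ hb₀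
  obtain ⟨x₁, hx₁⟩ := hn
  obtain ⟨x₂, hx₂⟩ := hk
  have h1 : s₂ * b₀ ^ k * x₁ = a₀ ^ n * (s₁ * x₂) := by
    apply hinj
    calc ρ (s₂ * b₀ ^ k * x₁) = ρ (s₂ * b₀ ^ k) * ρ x₁ := map_mul _ _ _
      _ = ρ (s₂ * b₀ ^ k) * (ρ (s₁ * a₀ ^ n) * τ) := by rw [hx₁]
      _ = ρ (s₁ * a₀ ^ n) * (ρ (s₂ * b₀ ^ k) * τ) := by ring
      _ = ρ (s₁ * a₀ ^ n) * ρ x₂ := by rw [hx₂]
      _ = ρ (s₁ * a₀ ^ n * x₂) := (map_mul _ _ _).symm
      _ = ρ (a₀ ^ n * (s₁ * x₂)) := by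
          congr 1
          ring
  obtain ⟨s', hs', w', hw'⟩ := loc_F2 p R a₀ b₀ hreg' n k s₂ x₁ (s₁ * x₂) hs₂ h1
  have h2 : ρ a₀ ^ n * (ρ w' - ρ (s' * s₁) * τ) = 0 := by
    have e1 : ρ (s' * x₁) = ρ (a₀ ^ n * w') := by rw [hw']
    rw [map_mul, map_mul, map_pow, hx₁, map_mul, map_pow] at e1
    rw [mul_sub, ← e1, map_mul]
    ring
  have hGn : ∀ (n : ℕ) (β : B), ρ a₀ ^ n * β = 0 → ∃ s : A, s ∉ p ∧ ρ s * β = 0 := by
    intro n
    induction n with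
    | zero =>
      intro β hβ
      refine ⟨1, fun h => (Ideal.IsPrime.ne_top inferInstance) ((Ideal.eq_top_iff_one p).mpr h), ?_⟩
      rw [pow_zero, one_mul] at hβ
      rw [map_one, one_mul]
      exact hβ
    | succ n ih =>
      intro β hβ
      obtain ⟨s, hs, hsβ⟩ := hG a₀ hreg'.1 (ρ a₀ ^ n * β) (by
        rw [← mul_assoc, ← pow_succ']
        exact hβ)
      obtain ⟨s'', hs'', hs''β⟩ := ih (ρ s * β) (by
        calc ρ a₀ ^ n * (ρ s * β) = ρ s * (ρ a₀ ^ n * β) := by ring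
          _ = 0 := hsβ)
      refine ⟨s'' * s, fun h => (Ideal.IsPrime.mem_or_mem inferInstance h).elim hs'' hs, ?_⟩
      rw [map_mul, mul_assoc]
      exact hs''β
  obtain ⟨s'', hs'', h3⟩ := hGn n _ h2
  have hmem : s'' * (s' * s₁) ∈ colonIdeal ρ τ := by
    refine ⟨s'' * w', ?_⟩
    rw [mul_sub, sub_eq_zero] at h3
    exact calc ρ (s'' * w') = ρ s'' * ρ w' := map_mul _ _ _
      _ = ρ s'' * (ρ (s' * s₁) * τ) := h3
      _ = (ρ s'' * ρ (s' * s₁)) * τ := (mul_assoc _ _ _).symm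
      _ = ρ (s'' * (s' * s₁)) * τ := by rw [← map_mul]
  have hmp := hp.1.2 hmem
  rcases Ideal.IsPrime.mem_or_mem inferInstance hmp with h | h
  · exact hs'' h
  · rcases Ideal.IsPrime.mem_or_mem inferInstance h with h | h
    · exact hs' h
    · exact hs₁ h

end Alg

section Core

/-- the hypothesis: at every point outside `V` the maximal ideal contains a regular pair -/
def HP (X : Scheme.{u}) (V : X.Opens) : Prop :=
  ∀ z : X, z ∉ V → ∃ a b : X.presheaf.stalk z,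
    a ∈ IsLocalRing.maximalIdeal (X.presheaf.stalk z) ∧
    b ∈ IsLocalRing.maximalIdeal (X.presheaf.stalk z) ∧ RegPair a b

theorem core' {X : Scheme.{u}} [IsAffine X] (V : X.Opens) (hVc : IsCompact (V : Set X))
    (hP : HP X V)
    (hinj : Function.Injective (X.presheaf.map (homOfLE (le_top : V ≤ ⊤)).op).hom) :
    Function.Surjective (X.presheaf.map (homOfLE (le_top : V ≤ ⊤)).op).hom := by
  have hTop := isAffineOpen_top X
  obtain ⟨ρ, hρ⟩ : ∃ ρ : Γ(X, ⊤) →+* Γ(X, V),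
      ρ = (X.presheaf.map (homOfLE (le_top : V ≤ ⊤)).op).hom := ⟨_, rfl⟩
  have hgerm : ∀ (z : X) (hz : z ∈ V) (t : Γ(X, ⊤)),
      X.presheaf.germ V z hz (ρ t) = X.presheaf.germ ⊤ z trivial t := by
    intro z hz t
    rw [hρ]
    exact TopCat.Presheaf.germ_res_apply X.presheaf (homOfLE (le_top : V ≤ ⊤)) z hz t
  have hres : ∀ (D : X.Opens) (hD : D ≤ V) (t : Γ(X, ⊤)),
      X.presheaf.map (homOfLE hD).op (ρ t) = X.presheaf.map (homOfLE (le_top : D ≤ ⊤)).op t := by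
    intro D hD t
    rw [hρ]
    have e : (homOfLE (le_top : D ≤ ⊤)).op = (homOfLE (le_top : V ≤ ⊤)).op ≫ (homOfLE hD).op :=
      Subsingleton.elim _ _
    rw [e, X.presheaf.map_comp]
    rfl
  have hbo : ∀ g : Γ(X, ⊤), X.basicOpen (ρ g) ≤ X.basicOpen g := by
    intro g
    rw [hρ]
    have e := X.basicOpen_res g (homOfLE (le_top : V ≤ ⊤)).op
    exact e.le.trans inf_le_right
  rw [← hρ] at hinj ⊢
  intro τ
  by_contra hτ
  have hI : colonIdeal ρ τ ≠ ⊤ := by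
    intro htop
    have h1 : (1 : Γ(X, ⊤)) ∈ colonIdeal ρ τ := by
      rw [htop]
      trivial
    obtain ⟨x, hx⟩ := h1
    exact hτ ⟨x, by rw [hx, map_one, one_mul]⟩
  obtain ⟨m, hm, hIm⟩ := Ideal.exists_le_maximal _ hI
  haveI : m.IsPrime := hm.isPrime
  obtain ⟨p, hp, -⟩ := Ideal.exists_minimalPrimes_le hIm
  haveI hpprime : p.IsPrime := hp.1.1
  let y : PrimeSpectrum Γ(X, ⊤) := ⟨p, hpprime⟩
  have hz : hTop.fromSpec y ∈ (⊤ : X.Opens) := trivial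
  letI := TopCat.Presheaf.algebra_section_stalk X.presheaf ⟨hTop.fromSpec y, hz⟩
  haveI hloc : IsLocalization.AtPrime (X.presheaf.stalk (hTop.fromSpec y)) p :=
    hTop.isLocalization_stalk' y hz
  by_cases hzV : hTop.fromSpec y ∈ V
  · obtain ⟨⟨c, s⟩, hcs⟩ := IsLocalization.surj p.primeCompl
      (X.presheaf.germ V (hTop.fromSpec y) hzV τ)
    have hcs' : X.presheaf.germ V (hTop.fromSpec y) hzV τ *
        X.presheaf.germ ⊤ (hTop.fromSpec y) hz (s : Γ(X, ⊤)) =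
        X.presheaf.germ ⊤ (hTop.fromSpec y) hz c := hcs
    have hβ : X.presheaf.germ V (hTop.fromSpec y) hzV (τ * ρ s - ρ c) = 0 := by
      rw [map_sub, map_mul, hgerm, hgerm, hcs', sub_self]
    obtain ⟨N, hzN, iU, iV, hN⟩ := TopCat.Presheaf.germ_eq X.presheaf (hTop.fromSpec y) hzV hzV
      (τ * ρ s - ρ c) 0 (by rw [hβ, map_zero])
    rw [map_zero] at hN
    obtain ⟨g, hgN, hzg⟩ := hTop.exists_basicOpen_le (V := N) ⟨hTop.fromSpec y, hzN⟩ hz
    have hle : X.basicOpen (ρ g) ≤ N := (hbo g).trans hgN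
    have hres0 : X.presheaf.map (homOfLE (X.basicOpen_le (ρ g))).op (τ * ρ s - ρ c) = 0 := by
      have e : (homOfLE (X.basicOpen_le (ρ g))).op = iU.op ≫ (homOfLE hle).op :=
        Subsingleton.elim _ _
      rw [e, X.presheaf.map_comp]
      show X.presheaf.map (homOfLE hle).op (X.presheaf.map iU.op (τ * ρ s - ρ c)) = 0
      rw [hN, map_zero]
    obtain ⟨k, hk⟩ := exists_pow_mul_eq_zero_of_res_basicOpen_eq_zero_of_isCompact X hVc
      (τ * ρ s - ρ c) (ρ g) hres0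
    have hmem : g ^ k * s ∈ colonIdeal ρ τ := by
      refine ⟨g ^ k * c, ?_⟩
      rw [mul_sub, sub_eq_zero] at hk
      rw [map_mul, map_mul, map_pow, ← hk]
      ring
    have hmemp := hp.1.2 hmem
    rcases Ideal.IsPrime.mem_or_mem hpprime hmemp with h | h
    · have hg : g ∈ p := hpprime.mem_of_pow_mem k h
      have h4 : y ∈ hTop.fromSpec ⁻¹ᵁ X.basicOpen g := hzg
      rw [hTop.fromSpec_preimage_basicOpen] at h4
      exact h4 hg
    · exact s.2 h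
  · obtain ⟨a, b, ha, hb, hreg⟩ := hP _ hzV
    refine colon_not_le ρ hinj τ p (X.presheaf.stalk (hTop.fromSpec y)) hp a b ha hb hreg ?_
    intro a₀ hreg₀ β hβ
    obtain ⟨S, hSfin, hSeq⟩ :=
      isCompact_and_isOpen_iff_finite_and_eq_biUnion_basicOpen.mp ⟨hVc, V.isOpen⟩
    have hSV : ∀ g ∈ S, X.basicOpen g ≤ V := by
      intro g hg x hx
      show x ∈ (V : Set X)
      rw [hSeq]
      exact Set.mem_biUnion hg hx
    have hF1 : ∀ x : Γ(X, ⊤), a₀ * x = 0 → ∃ s : Γ(X, ⊤), s ∉ p ∧ s * x = 0 :=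
      fun x hx => loc_F1 p (X.presheaf.stalk (hTop.fromSpec y)) a₀ hreg₀ x hx
    haveI : Fintype S := hSfin.fintype
    have hper : ∀ i : S, ∃ s : Γ(X, ⊤), s ∉ p ∧
        X.presheaf.map (homOfLE (hSV i.1 i.2)).op (ρ s * β) = 0 := by
      rintro ⟨g, hg⟩
      haveI hlocg : IsLocalization.Away g Γ(X, X.basicOpen g) := hTop.isLocalization_basicOpen g
      have halgD : ∀ t : Γ(X, ⊤), X.presheaf.map (homOfLE (hSV g hg)).op (ρ t) =
          algebraMap Γ(X, ⊤) Γ(X, X.basicOpen g) t := fun t => hres _ _ t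
      obtain ⟨⟨c, ⟨_, k, rfl⟩⟩, hc⟩ := IsLocalization.surj (Submonoid.powers g)
        (X.presheaf.map (homOfLE (hSV g hg)).op β)
      have hc' : X.presheaf.map (homOfLE (hSV g hg)).op β *
          algebraMap Γ(X, ⊤) Γ(X, X.basicOpen g) (g ^ k) =
          algebraMap Γ(X, ⊤) Γ(X, X.basicOpen g) c := hc
      have hzero : algebraMap Γ(X, ⊤) Γ(X, X.basicOpen g) a₀ *
          X.presheaf.map (homOfLE (hSV g hg)).op β = 0 := by
        have e := congrArg (X.presheaf.map (homOfLE (hSV g hg)).op) hβ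
        rw [map_mul, map_zero, halgD] at e
        exact e
      have h1 : algebraMap Γ(X, ⊤) Γ(X, X.basicOpen g) (a₀ * c) = 0 := by
        rw [map_mul, ← hc', ← mul_assoc, hzero, zero_mul]
      obtain ⟨⟨_, j, rfl⟩, hj⟩ := (IsLocalization.map_eq_zero_iff (Submonoid.powers g) _ _).mp h1
      have hj' : g ^ j * (a₀ * c) = 0 := hj
      obtain ⟨s, hs, hsx⟩ := hF1 (g ^ j * c) (by
        calc a₀ * (g ^ j * c) = g ^ j * (a₀ * c) := by ring
          _ = 0 := hj')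
      refine ⟨s, hs, ?_⟩
      have hu : IsUnit (algebraMap Γ(X, ⊤) Γ(X, X.basicOpen g) (g ^ j)) :=
        IsLocalization.map_units _ (⟨g ^ j, j, rfl⟩ : Submonoid.powers g)
      have hu2 : IsUnit (algebraMap Γ(X, ⊤) Γ(X, X.basicOpen g) (g ^ k)) :=
        IsLocalization.map_units _ (⟨g ^ k, k, rfl⟩ : Submonoid.powers g)
      have h2 : algebraMap Γ(X, ⊤) Γ(X, X.basicOpen g) s *
          algebraMap Γ(X, ⊤) Γ(X, X.basicOpen g) c = 0 := by
        have e := congrArg (algebraMap Γ(X, ⊤) Γ(X, X.basicOpen g)) hsx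
        rw [map_mul, map_mul, map_zero] at e
        apply hu.mul_left_cancel
        rw [mul_zero, ← e]
        ring
      rw [map_mul, halgD]
      apply hu2.mul_right_cancel
      rw [zero_mul, mul_assoc, hc']
      exact h2
    choose sf hsf1 hsf2 using hper
    refine ⟨∏ i : S, sf i, ?_, ?_⟩
    · intro hmem
      obtain ⟨i, -, hi⟩ := Ideal.IsPrime.prod_mem_iff.mp hmem
      exact hsf1 i hi
    · refine TopCat.Sheaf.eq_of_locally_eq' X.sheaf (fun i : S => X.basicOpen i.1) V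
        (fun i => homOfLE (hSV i.1 i.2)) ?_ _ _ ?_
      · intro x hx
        have hx' : x ∈ (V : Set X) := hx
        rw [hSeq] at hx'
        obtain ⟨g, hg, hxg⟩ := Set.mem_iUnion₂.mp hx'
        exact Opens.mem_iSup.mpr ⟨⟨g, hg⟩, hxg⟩
      · intro i
        show X.presheaf.map (homOfLE (hSV i.1 i.2)).op (ρ (∏ j : S, sf j) * β) =
          X.presheaf.map (homOfLE (hSV i.1 i.2)).op 0
        classical
        have e : ∏ j : S, sf j = (∏ j ∈ Finset.univ.erase i, sf j) * sf i := by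
          rw [mul_comm]
          exact (Finset.mul_prod_erase Finset.univ sf (Finset.mem_univ i)).symm
        have e' : ρ (∏ j : S, sf j) * β =
            ρ (∏ j ∈ Finset.univ.erase i, sf j) * (ρ (sf i) * β) := by
          rw [e, map_mul, mul_assoc]
        rw [e', map_mul, hsf2 i, mul_zero, map_zero]

/-- **Non-Noetherian Hartogs** for affine schemes. -/
theorem isIso_appTop {X : Scheme.{u}} [IsAffine X] (U : X.Opens) [QuasiCompact U.ι]
    (hP : HP X U) : IsIso U.ι.appTop := by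
  have hTop := isAffineOpen_top X
  have hZ1 : ∀ z : X, z ∉ U → ∃ a ∈ IsLocalRing.maximalIdeal (X.presheaf.stalk z),
      IsSMulRegular (X.presheaf.stalk z) a := by
    intro z hz
    obtain ⟨a, b, ha, hb, hreg⟩ := hP z hz
    exact ⟨a, ha, hreg.1⟩
  have hinj : Function.Injective (U.ι.app ⊤).hom :=
    Groth.Agent.Lib.SchDenseOldH4.app_injective_of_regular X U hZ1 ⊤ hTop
  haveI : CompactSpace ↥(U : Scheme.{u}) :=
    (HasAffineProperty.iff_of_isAffine (P := @QuasiCompact)).mp (inferInstance : QuasiCompact U.ι)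
  have hUc : IsCompact (U : Set X) := by
    rw [← Scheme.Opens.range_ι, ← Set.image_univ]
    exact isCompact_univ.image U.ι.continuous
  have hV : U.ι ''ᵁ ⊤ = U := Scheme.Opens.ι_image_top U
  have hP' : HP X (U.ι ''ᵁ ⊤) := by
    rw [hV]
    exact hP
  have hVc : IsCompact ((U.ι ''ᵁ ⊤ : X.Opens) : Set X) := by
    rw [hV]
    exact hUc
  have hsurj := core' (U.ι ''ᵁ ⊤) hVc hP' hinj
  exact (ConcreteCategory.isIso_iff_bijective _).mpr ⟨hinj, hsurj⟩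

theorem HP.preimage {P X : Scheme.{u}} (r : P ⟶ X) [IsOpenImmersion r] (U : X.Opens)
    (hP : HP X U) : HP P (r ⁻¹ᵁ U) := by
  intro z hz
  obtain ⟨a, b, ha, hb, hreg⟩ := hP (r z) (fun h => hz ((Scheme.Hom.mem_preimage r).mpr h))
  obtain ⟨e, -⟩ : ∃ e : X.presheaf.stalk (r z) ≃+* P.presheaf.stalk z, True :=
    ⟨(asIso (r.stalkMap z)).commRingCatIsoToRingEquiv, trivial⟩
  have hmax : ∀ c : X.presheaf.stalk (r z), c ∈ IsLocalRing.maximalIdeal _ →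
      e c ∈ IsLocalRing.maximalIdeal (P.presheaf.stalk z) := by
    intro c hc
    rw [IsLocalRing.mem_maximalIdeal, mem_nonunits_iff] at hc ⊢
    intro hu
    apply hc
    have h1 := hu.map e.symm
    rwa [e.symm_apply_apply] at h1
  exact ⟨e a, e b, hmax a ha, hmax b hb, hreg.map_equiv e⟩

theorem quasiCompact_preimage_ι {P X : Scheme.{u}} (r : P ⟶ X) (U : X.Opens)
    [QuasiCompact U.ι] : QuasiCompact (r ⁻¹ᵁ U).ι :=
  MorphismProperty.of_isPullback (P := @QuasiCompact) (isPullback_morphismRestrict r U)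
    inferInstance

end Core

section Ext

/-- extension of morphisms to an affine target across an open with bijective restriction -/
theorem extend_affine_of_isIso {Z : Scheme.{u}} (O : Z.Opens) [hr : IsIso O.ι.appTop]
    (Y : Scheme.{u}) [IsAffine Y] (g : (O : Scheme.{u}) ⟶ Y) :
    ∃! g' : Z ⟶ Y, O.ι ≫ g' = g := by
  obtain ⟨φ, hφ⟩ : ∃ φ : Γ(Y, ⊤) ⟶ Γ(Z, ⊤), φ ≫ O.ι.appTop = g.appTop :=
    ⟨g.appTop ≫ inv O.ι.appTop, by rw [Category.assoc, IsIso.inv_hom_id, Category.comp_id]⟩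
  have hg : O.ι ≫ (Z.toSpecΓ ≫ Spec.map φ ≫ inv Y.toSpecΓ) = g := by
    rw [← cancel_mono Y.toSpecΓ]
    simp only [Category.assoc, IsIso.inv_hom_id, Category.comp_id]
    rw [← Category.assoc, Scheme.toSpecΓ_naturality, Category.assoc, ← Spec.map_comp, hφ,
      Scheme.toSpecΓ_naturality]
  refine ⟨Z.toSpecΓ ≫ Spec.map φ ≫ inv Y.toSpecΓ, hg, ?_⟩
  intro g' hg'
  apply ext_of_isAffine
  have h1 : (O.ι ≫ g').appTop = (O.ι ≫ (Z.toSpecΓ ≫ Spec.map φ ≫ inv Y.toSpecΓ)).appTop := by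
    rw [hg', hg]
  rw [Scheme.Hom.comp_appTop, Scheme.Hom.comp_appTop] at h1
  exact (cancel_mono O.ι.appTop).mp h1

/-- local existence of extensions into an affine `S`-scheme, from abstract Hartogs -/
theorem exists_local_abs {S : Scheme.{u}} (U : S.Opens) {G₂ : Scheme.{u}} (f₂ : G₂ ⟶ S)
    [IsAffineHom f₂] {Z : Scheme.{u}} (q : Z ⟶ S)
    (hext : ∀ (Y' : Scheme.{u}) [IsAffine Y'] (g : ((q ⁻¹ᵁ U : Z.Opens) : Scheme.{u}) ⟶ Y'),
      ∃! g' : Z ⟶ Y', (q ⁻¹ᵁ U).ι ≫ g' = g)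
    (W : S.Opens) (hW : IsAffineOpen W) (hq : ∀ z, q z ∈ W)
    (ψ : ((q ⁻¹ᵁ U : Z.Opens) : Scheme.{u}) ⟶ G₂) (hψ : ψ ≫ f₂ = (q ⁻¹ᵁ U).ι ≫ q) :
    ∃ a : Z ⟶ G₂, a ≫ f₂ = q ∧ (q ⁻¹ᵁ U).ι ≫ a = ψ := by
  haveI : IsAffine ((f₂ ⁻¹ᵁ W : G₂.Opens) : Scheme.{u}) := hW.preimage f₂
  haveI : IsAffine ((W : S.Opens) : Scheme.{u}) := hW
  have hmemψ : ∀ x, ψ x ∈ f₂ ⁻¹ᵁ W := by
    intro x
    rw [Scheme.Hom.mem_preimage, ← Scheme.Hom.comp_apply, hψ, Scheme.Hom.comp_apply]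
    exact hq _
  obtain ⟨a', ha', -⟩ := hext _ (liftOpen (f₂ ⁻¹ᵁ W) ψ hmemψ)
  have hres : (q ⁻¹ᵁ U).ι ≫ a' ≫ (f₂ ⁻¹ᵁ W).ι = ψ := by
    rw [← Category.assoc, ha', liftOpen_ι]
  refine ⟨a' ≫ (f₂ ⁻¹ᵁ W).ι, ?_, hres⟩
  have hm1 : ∀ z : Z, ((a' ≫ (f₂ ⁻¹ᵁ W).ι) ≫ f₂) z ∈ W := by
    intro z
    rw [Scheme.Hom.comp_apply, Scheme.Hom.comp_apply]
    exact (Scheme.Hom.mem_preimage f₂).mp (ι_mem _ (a' z))
  have e : (q ⁻¹ᵁ U).ι ≫ (a' ≫ (f₂ ⁻¹ᵁ W).ι) ≫ f₂ = (q ⁻¹ᵁ U).ι ≫ q :=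
    calc (q ⁻¹ᵁ U).ι ≫ (a' ≫ (f₂ ⁻¹ᵁ W).ι) ≫ f₂
        = ((q ⁻¹ᵁ U).ι ≫ a' ≫ (f₂ ⁻¹ᵁ W).ι) ≫ f₂ := (Category.assoc _ _ _).symm
      _ = ψ ≫ f₂ := by rw [hres]
      _ = (q ⁻¹ᵁ U).ι ≫ q := hψ
  have h1 : (q ⁻¹ᵁ U).ι ≫ liftOpen W ((a' ≫ (f₂ ⁻¹ᵁ W).ι) ≫ f₂) hm1 =
      (q ⁻¹ᵁ U).ι ≫ liftOpen W q hq := by
    apply (cancel_mono W.ι).mp
    have l1 := liftOpen_ι W ((a' ≫ (f₂ ⁻¹ᵁ W).ι) ≫ f₂) hm1
    have l2 := liftOpen_ι W q hq
    calc ((q ⁻¹ᵁ U).ι ≫ liftOpen W ((a' ≫ (f₂ ⁻¹ᵁ W).ι) ≫ f₂) hm1) ≫ W.ι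
        = (q ⁻¹ᵁ U).ι ≫ (liftOpen W ((a' ≫ (f₂ ⁻¹ᵁ W).ι) ≫ f₂) hm1 ≫ W.ι) :=
          Category.assoc _ _ _
      _ = (q ⁻¹ᵁ U).ι ≫ (a' ≫ (f₂ ⁻¹ᵁ W).ι) ≫ f₂ := by rw [l1]
      _ = (q ⁻¹ᵁ U).ι ≫ q := e
      _ = (q ⁻¹ᵁ U).ι ≫ (liftOpen W q hq ≫ W.ι) := by rw [l2]
      _ = ((q ⁻¹ᵁ U).ι ≫ liftOpen W q hq) ≫ W.ι := (Category.assoc _ _ _).symm
  have h2 := (hext _ ((q ⁻¹ᵁ U).ι ≫ liftOpen W q hq)).unique h1 rfl
  calc (a' ≫ (f₂ ⁻¹ᵁ W).ι) ≫ f₂
      = liftOpen W ((a' ≫ (f₂ ⁻¹ᵁ W).ι) ≫ f₂) hm1 ≫ W.ι := (liftOpen_ι _ _ _).symm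
    _ = liftOpen W q hq ≫ W.ι := by rw [h2]
    _ = q := liftOpen_ι _ _ _

/-- **Existence of extensions of sections** of an affine morphism across a retrocompact open
whose complement has "depth ≥ 2" in the non-Noetherian sense. -/
theorem main (X : Scheme.{u}) (U : X.Opens) [QuasiCompact U.ι] (hP : HP X U)
    (Y : Scheme.{u}) (f : Y ⟶ X) [IsAffineHom f]
    (t : (U : Scheme.{u}) ⟶ Y) (ht : t ≫ f = U.ι) :
    ∃ s : X ⟶ Y, s ≫ f = 𝟙 X ∧ U.ι ≫ s = t := by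
  have hZ1 : ∀ {P : Scheme.{u}} (r : P ⟶ X) [IsOpenImmersion r], ∀ z : P, z ∉ r ⁻¹ᵁ U →
      ∃ a ∈ IsLocalRing.maximalIdeal (P.presheaf.stalk z),
        IsSMulRegular (P.presheaf.stalk z) a := by
    intro P r _ z hz
    obtain ⟨a, b, ha, hb, hreg⟩ := HP.preimage r U hP z hz
    exact ⟨a, ha, hreg.1⟩
  have UQ : ∀ {P : Scheme.{u}} (r : P ⟶ X) [IsOpenImmersion r] (a b : P ⟶ Y),
      a ≫ f = r → b ≫ f = r → (r ⁻¹ᵁ U).ι ≫ a = (r ⁻¹ᵁ U).ι ≫ b → a = b := by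
    intro P r _ a b ha hb hab
    haveI := quasiCompact_preimage_ι r U
    haveI := Groth.Agent.Lib.SchDenseOldH4.isSchemeTheoreticallyDominant_ι P (r ⁻¹ᵁ U) (hZ1 r)
    exact Groth.Agent.Lib.SchDenseOldH4.ext_of_schDominant f (ha.trans hb.symm) (r ⁻¹ᵁ U).ι hab
  have hkmem : ∀ W : X.affineOpens, ∀ x,
      (((W : X.Opens).ι ⁻¹ᵁ U).ι ≫ (W : X.Opens).ι) x ∈ U := by
    intro W x
    rw [Scheme.Hom.comp_apply]
    exact (Scheme.Hom.mem_preimage _).mp (ι_mem _ x)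
  have hkex : ∀ W : X.affineOpens, ∃ k : (((W : X.Opens).ι ⁻¹ᵁ U : (W : X.Opens).toScheme.Opens) :
      Scheme.{u}) ⟶ (U : Scheme.{u}), k ≫ U.ι = ((W : X.Opens).ι ⁻¹ᵁ U).ι ≫ (W : X.Opens).ι :=
    fun W => ⟨liftOpen U _ (hkmem W), liftOpen_ι _ _ _⟩
  choose k hkι using hkex
  have EXa : ∀ W : X.affineOpens, ∃ a : ((W : X.Opens) : Scheme.{u}) ⟶ Y,
      a ≫ f = (W : X.Opens).ι ∧ ((W : X.Opens).ι ⁻¹ᵁ U).ι ≫ a = k W ≫ t := by
    intro W
    haveI : IsAffine ((W : X.Opens) : Scheme.{u}) := W.2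
    haveI := quasiCompact_preimage_ι (W : X.Opens).ι U
    haveI : IsIso ((W : X.Opens).ι ⁻¹ᵁ U).ι.appTop :=
      isIso_appTop _ (HP.preimage (W : X.Opens).ι U hP)
    refine exists_local_abs U f (W : X.Opens).ι
      (fun Y' _ g => extend_affine_of_isIso _ Y' g) (W : X.Opens) W.2 (fun z => ι_mem _ z) _ ?_
    rw [Category.assoc, ht, hkι W]
  choose a ha1 ha2 using EXa
  have hcov : TopologicalSpace.IsOpenCover (fun W : X.affineOpens => (W : X.Opens)) :=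
    TopologicalSpace.IsOpenCover.mk (iSup_affineOpens_eq_top X)
  have compat : ∀ W W' : X.affineOpens,
      pullback.fst (W : X.Opens).ι (W' : X.Opens).ι ≫ a W =
      pullback.snd (W : X.Opens).ι (W' : X.Opens).ι ≫ a W' := by
    intro W W'
    refine UQ (pullback.fst (W : X.Opens).ι (W' : X.Opens).ι ≫ (W : X.Opens).ι) _ _ ?_ ?_ ?_
    · exact calc (pullback.fst (W : X.Opens).ι (W' : X.Opens).ι ≫ a W) ≫ f
          = pullback.fst (W : X.Opens).ι (W' : X.Opens).ι ≫ (a W ≫ f) := Category.assoc _ _ _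
        _ = pullback.fst (W : X.Opens).ι (W' : X.Opens).ι ≫ (W : X.Opens).ι := by rw [ha1]
    · exact calc (pullback.snd (W : X.Opens).ι (W' : X.Opens).ι ≫ a W') ≫ f
          = pullback.snd (W : X.Opens).ι (W' : X.Opens).ι ≫ (a W' ≫ f) := Category.assoc _ _ _
        _ = pullback.snd (W : X.Opens).ι (W' : X.Opens).ι ≫ (W' : X.Opens).ι := by rw [ha1]
        _ = pullback.fst (W : X.Opens).ι (W' : X.Opens).ι ≫ (W : X.Opens).ι :=
            pullback.condition.symm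
    · have e1 := rr_ι (pullback.fst (W : X.Opens).ι (W' : X.Opens).ι) (W : X.Opens).ι
        (pullback.fst (W : X.Opens).ι (W' : X.Opens).ι ≫ (W : X.Opens).ι) rfl U
      have e2 := rr_ι (pullback.snd (W : X.Opens).ι (W' : X.Opens).ι) (W' : X.Opens).ι
        (pullback.fst (W : X.Opens).ι (W' : X.Opens).ι ≫ (W : X.Opens).ι)
        pullback.condition.symm U
      obtain ⟨r₁, hr₁⟩ : ∃ r₁, r₁ = rr (pullback.fst (W : X.Opens).ι (W' : X.Opens).ι)
        (W : X.Opens).ι (pullback.fst (W : X.Opens).ι (W' : X.Opens).ι ≫ (W : X.Opens).ι) rfl U :=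
        ⟨_, rfl⟩
      obtain ⟨r₂, hr₂⟩ : ∃ r₂, r₂ = rr (pullback.snd (W : X.Opens).ι (W' : X.Opens).ι)
        (W' : X.Opens).ι (pullback.fst (W : X.Opens).ι (W' : X.Opens).ι ≫ (W : X.Opens).ι)
        pullback.condition.symm U := ⟨_, rfl⟩
      rw [← hr₁] at e1
      rw [← hr₂] at e2
      have e3 : r₁ ≫ k W = r₂ ≫ k W' := by
        apply (cancel_mono U.ι).mp
        calc (r₁ ≫ k W) ≫ U.ι = r₁ ≫ (k W ≫ U.ι) := Category.assoc _ _ _
          _ = r₁ ≫ (((W : X.Opens).ι ⁻¹ᵁ U).ι ≫ (W : X.Opens).ι) := by rw [hkι]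
          _ = (r₁ ≫ ((W : X.Opens).ι ⁻¹ᵁ U).ι) ≫ (W : X.Opens).ι := (Category.assoc _ _ _).symm
          _ = (_ ≫ pullback.fst (W : X.Opens).ι (W' : X.Opens).ι) ≫ (W : X.Opens).ι := by rw [e1]
          _ = _ ≫ (pullback.fst (W : X.Opens).ι (W' : X.Opens).ι ≫ (W : X.Opens).ι) :=
              Category.assoc _ _ _
          _ = _ ≫ (pullback.snd (W : X.Opens).ι (W' : X.Opens).ι ≫ (W' : X.Opens).ι) :=
              congrArg (fun m => ((pullback.fst (W : X.Opens).ι (W' : X.Opens).ι ≫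
                (W : X.Opens).ι) ⁻¹ᵁ U).ι ≫ m) pullback.condition
          _ = (_ ≫ pullback.snd (W : X.Opens).ι (W' : X.Opens).ι) ≫ (W' : X.Opens).ι :=
              (Category.assoc _ _ _).symm
          _ = (r₂ ≫ ((W' : X.Opens).ι ⁻¹ᵁ U).ι) ≫ (W' : X.Opens).ι := by rw [e2]
          _ = r₂ ≫ (((W' : X.Opens).ι ⁻¹ᵁ U).ι ≫ (W' : X.Opens).ι) := Category.assoc _ _ _
          _ = r₂ ≫ (k W' ≫ U.ι) := by rw [hkι]
          _ = (r₂ ≫ k W') ≫ U.ι := (Category.assoc _ _ _).symm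
      calc _ ≫ pullback.fst (W : X.Opens).ι (W' : X.Opens).ι ≫ a W
          = (_ ≫ pullback.fst (W : X.Opens).ι (W' : X.Opens).ι) ≫ a W :=
            (Category.assoc _ _ _).symm
        _ = (r₁ ≫ ((W : X.Opens).ι ⁻¹ᵁ U).ι) ≫ a W := by rw [e1]
        _ = r₁ ≫ (((W : X.Opens).ι ⁻¹ᵁ U).ι ≫ a W) := Category.assoc _ _ _
        _ = r₁ ≫ (k W ≫ t) := by rw [ha2]
        _ = (r₁ ≫ k W) ≫ t := (Category.assoc _ _ _).symm
        _ = (r₂ ≫ k W') ≫ t := by rw [e3]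
        _ = r₂ ≫ (k W' ≫ t) := Category.assoc _ _ _
        _ = r₂ ≫ (((W' : X.Opens).ι ⁻¹ᵁ U).ι ≫ a W') := by rw [ha2]
        _ = (r₂ ≫ ((W' : X.Opens).ι ⁻¹ᵁ U).ι) ≫ a W' := (Category.assoc _ _ _).symm
        _ = (_ ≫ pullback.snd (W : X.Opens).ι (W' : X.Opens).ι) ≫ a W' := by rw [e2]
        _ = _ ≫ pullback.snd (W : X.Opens).ι (W' : X.Opens).ι ≫ a W' := Category.assoc _ _ _
  obtain ⟨s, hs⟩ : ∃ s : X ⟶ Y, ∀ W : X.affineOpens, (W : X.Opens).ι ≫ s = a W :=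
    ⟨(X.openCoverOfIsOpenCover _ hcov).glueMorphisms a compat,
      fun W => Scheme.Cover.ι_glueMorphisms (X.openCoverOfIsOpenCover _ hcov) a compat W⟩
  refine ⟨s, ?_, ?_⟩
  · refine (X.openCoverOfIsOpenCover _ hcov).hom_ext _ _ (fun (W : X.affineOpens) => ?_)
    show (W : X.Opens).ι ≫ s ≫ f = (W : X.Opens).ι ≫ 𝟙 X
    rw [← Category.assoc, hs W, ha1 W, Category.comp_id]
  · have hcov' : TopologicalSpace.IsOpenCover
        (fun W : X.affineOpens => U.ι ⁻¹ᵁ (W : X.Opens)) := by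
      apply TopologicalSpace.IsOpenCover.mk
      rw [← Scheme.Hom.preimage_iSup, iSup_affineOpens_eq_top, Scheme.Hom.preimage_top]
    refine ((U : Scheme.{u}).openCoverOfIsOpenCover _ hcov').hom_ext _ _
      (fun (W : X.affineOpens) => ?_)
    show (U.ι ⁻¹ᵁ (W : X.Opens)).ι ≫ U.ι ≫ s = (U.ι ⁻¹ᵁ (W : X.Opens)).ι ≫ t
    have hm : ∀ x, ((U.ι ⁻¹ᵁ (W : X.Opens)).ι ≫ U.ι) x ∈ (W : X.Opens) := by
      intro x
      rw [Scheme.Hom.comp_apply]
      exact (Scheme.Hom.mem_preimage _).mp (ι_mem _ x)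
    obtain ⟨j, hj⟩ : ∃ j : ((U.ι ⁻¹ᵁ (W : X.Opens) : (U : Scheme.{u}).Opens) : Scheme.{u}) ⟶
        ((W : X.Opens) : Scheme.{u}),
        j ≫ (W : X.Opens).ι = (U.ι ⁻¹ᵁ (W : X.Opens)).ι ≫ U.ι :=
      ⟨liftOpen (W : X.Opens) _ hm, liftOpen_ι _ _ _⟩
    have hm2 : ∀ x, j x ∈ (W : X.Opens).ι ⁻¹ᵁ U := by
      intro x
      rw [Scheme.Hom.mem_preimage, ← Scheme.Hom.comp_apply, hj, Scheme.Hom.comp_apply]
      exact ι_mem U _
    obtain ⟨θ, hθ⟩ : ∃ θ : ((U.ι ⁻¹ᵁ (W : X.Opens) : (U : Scheme.{u}).Opens) : Scheme.{u}) ⟶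
        ((((W : X.Opens).ι ⁻¹ᵁ U : (W : X.Opens).toScheme.Opens)) : Scheme.{u}),
        θ ≫ ((W : X.Opens).ι ⁻¹ᵁ U).ι = j :=
      ⟨liftOpen ((W : X.Opens).ι ⁻¹ᵁ U) j hm2, liftOpen_ι _ _ _⟩
    have e3 : θ ≫ k W = (U.ι ⁻¹ᵁ (W : X.Opens)).ι := by
      apply (cancel_mono U.ι).mp
      calc (θ ≫ k W) ≫ U.ι = θ ≫ (k W ≫ U.ι) := Category.assoc _ _ _
        _ = θ ≫ (((W : X.Opens).ι ⁻¹ᵁ U).ι ≫ (W : X.Opens).ι) := by rw [hkι]
        _ = (θ ≫ ((W : X.Opens).ι ⁻¹ᵁ U).ι) ≫ (W : X.Opens).ι := (Category.assoc _ _ _).symm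
        _ = j ≫ (W : X.Opens).ι := by rw [hθ]
        _ = (U.ι ⁻¹ᵁ (W : X.Opens)).ι ≫ U.ι := hj
    calc (U.ι ⁻¹ᵁ (W : X.Opens)).ι ≫ U.ι ≫ s
        = ((U.ι ⁻¹ᵁ (W : X.Opens)).ι ≫ U.ι) ≫ s := (Category.assoc _ _ _).symm
      _ = (j ≫ (W : X.Opens).ι) ≫ s := by rw [hj]
      _ = j ≫ ((W : X.Opens).ι ≫ s) := Category.assoc _ _ _
      _ = j ≫ a W := by rw [hs W]
      _ = (θ ≫ ((W : X.Opens).ι ⁻¹ᵁ U).ι) ≫ a W := by rw [hθ]
      _ = θ ≫ (((W : X.Opens).ι ⁻¹ᵁ U).ι ≫ a W) := Category.assoc _ _ _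
      _ = θ ≫ (k W ≫ t) := by rw [ha2 W]
      _ = (θ ≫ k W) ≫ t := (Category.assoc _ _ _).symm
      _ = (U.ι ⁻¹ᵁ (W : X.Opens)).ι ≫ t := by rw [e3]

end Ext

end Groth.Agent.Lib.HartogsNNH4
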