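import Mathlib

/-! Hasse–Davenport lifting relation for Gauss sums (helper4).  Proof via the L-function of
`λ(f) = χ((-1)^deg f · f(0)) ψ(-nextCoeff f)` on monic polynomials, in finite (recurrence) form. -/

set_option autoImplicit false
set_option linter.unusedVariables false
set_option linter.unusedTactic false
set_option linter.unreachableTactic false
set_option linter.unusedSectionVars false
set_option maxHeartbeats 800000

open Polynomial IntermediateField

namespace Groth.Agent.Lib.HasseDavenportH4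

attribute [local instance] Classical.propDecidable

variable {F : Type} [Field F] [Fintype F] {R : Type} [CommRing R] [IsDomain R]

/-- the multiplicative function on monic polynomials -/
noncomputable def lam (χ : MulChar F R) (ψ : AddChar F R) (f : F[X]) : R :=
  χ ((-1) ^ f.natDegree * f.coeff 0) * ψ (-f.nextCoeff)

theorem lam_one (χ : MulChar F R) (ψ : AddChar F R) : lam χ ψ (1 : F[X]) = 1 := by
  have h1 : (1 : F[X]).nextCoeff = 0 := by rw [← C_1]; exact nextCoeff_C_eq_zero 1
  unfold lam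
  rw [h1, natDegree_one, coeff_one_zero, pow_zero, one_mul, map_one, neg_zero,
    AddChar.map_zero_eq_one, one_mul]

theorem lam_mul (χ : MulChar F R) (ψ : AddChar F R) {f g : F[X]} (hf : f.Monic) (hg : g.Monic) :
    lam χ ψ (f * g) = lam χ ψ f * lam χ ψ g := by
  unfold lam
  rw [hf.natDegree_mul hg, mul_coeff_zero, hf.nextCoeff_mul hg, neg_add, AddChar.map_add_eq_mul,
    pow_add]
  have : (-1 : F) ^ f.natDegree * (-1) ^ g.natDegree * (f.coeff 0 * g.coeff 0) =
      ((-1) ^ f.natDegree * f.coeff 0) * ((-1) ^ g.natDegree * g.coeff 0) := by ring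
  rw [this, map_mul]
  ring

theorem lam_pow (χ : MulChar F R) (ψ : AddChar F R) {f : F[X]} (hf : f.Monic) (j : ℕ) :
    lam χ ψ (f ^ j) = lam χ ψ f ^ j := by
  induction j with
  | zero => rw [pow_zero, pow_zero, lam_one]
  | succ k ih => rw [pow_succ, lam_mul χ ψ (hf.pow k) hf, ih, pow_succ]

theorem lam_X_sub_C (χ : MulChar F R) (ψ : AddChar F R) (a : F) :
    lam χ ψ (X - C a) = χ a * ψ a := by
  unfold lam
  rw [natDegree_X_sub_C, nextCoeff_X_sub_C, neg_neg]
  have : (X - C a : F[X]).coeff 0 = -a := by simp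
  rw [this]
  congr 2
  ring

theorem finite_monic (m : ℕ) : {f : F[X] | f.Monic ∧ f.natDegree = m}.Finite := by
  refine Set.Finite.subset (Set.finite_range
    (fun c : Fin (m + 1) → F => ((degreeLTEquiv F (m + 1)).symm c : F[X]))) ?_
  intro f hf
  have hmem : f ∈ degreeLT F (m + 1) := by
    rw [mem_degreeLT]
    calc f.degree ≤ f.natDegree := degree_le_natDegree
      _ = (m : WithBot ℕ) := by rw [hf.2]
      _ < ((m + 1 : ℕ) : WithBot ℕ) := by exact_mod_cast Nat.lt_succ_self m
  exact ⟨degreeLTEquiv F (m + 1) ⟨f, hmem⟩, by simp⟩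

/-- monic polynomials of degree `m` -/
noncomputable def Mon (m : ℕ) : Finset F[X] := (finite_monic (F := F) m).toFinset

theorem mem_Mon {m : ℕ} {f : F[X]} : f ∈ Mon (F := F) m ↔ f.Monic ∧ f.natDegree = m := by
  unfold Mon
  rw [Set.Finite.mem_toFinset]
  rfl

/-- the sum of `lam` over monic polynomials of degree `m` -/
noncomputable def S (χ : MulChar F R) (ψ : AddChar F R) (m : ℕ) : R :=
  ∑ f ∈ Mon (F := F) m, lam χ ψ f

theorem S_zero (χ : MulChar F R) (ψ : AddChar F R) : S χ ψ 0 = 1 := by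
  have h : Mon (F := F) 0 = {1} := by
    ext f
    rw [mem_Mon, Finset.mem_singleton]
    constructor
    · rintro ⟨hm, h0⟩
      exact hm.natDegree_eq_zero.mp h0
    · rintro rfl
      exact ⟨monic_one, natDegree_one⟩
  unfold S
  rw [h, Finset.sum_singleton, lam_one]

theorem S_one (χ : MulChar F R) (ψ : AddChar F R) : S χ ψ 1 = ∑ a : F, χ a * ψ a := by
  unfold S
  symm
  refine Finset.sum_nbij' (fun a => X - C a) (fun f => -f.coeff 0) ?_ ?_ ?_ ?_ ?_
  · intro a _
    exact mem_Mon.mpr ⟨monic_X_sub_C a, natDegree_X_sub_C a⟩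
  · intro f _
    exact Finset.mem_univ _
  · intro a _
    simp
  · intro f hf
    obtain ⟨hm, hd⟩ := mem_Mon.mp hf
    show X - C (-f.coeff 0) = f
    rw [C_neg, sub_neg_eq_add]
    exact (hm.eq_X_add_C hd).symm
  · intro a _
    exact (lam_X_sub_C χ ψ a).symm

theorem shift_mem (m : ℕ) (hm1 : 1 ≤ m) (t : F) (f : F[X]) (hf : f ∈ Mon (F := F) m) :
    f + C t * X ^ (m - 1) ∈ Mon (F := F) m := by
  obtain ⟨hm, hdeg⟩ := mem_Mon.mp hf
  have hlt : (C t * X ^ (m - 1)).natDegree < f.natDegree := by
    have := natDegree_C_mul_X_pow_le t (m - 1)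
    omega
  refine mem_Mon.mpr ⟨hm.add_of_left (degree_lt_degree hlt), ?_⟩
  rw [natDegree_add_eq_left_of_natDegree_lt hlt, hdeg]

theorem shift_lam (χ : MulChar F R) (ψ : AddChar F R) (m : ℕ) (hm2 : 2 ≤ m) (t : F) (f : F[X])
    (hf : f ∈ Mon (F := F) m) :
    lam χ ψ (f + C t * X ^ (m - 1)) = lam χ ψ f * ψ (-t) := by
  have hf' := shift_mem m (by omega) t f hf
  obtain ⟨hm, hdeg⟩ := mem_Mon.mp hf
  obtain ⟨hm', hdeg'⟩ := mem_Mon.mp hf'
  have hc0 : (f + C t * X ^ (m - 1)).coeff 0 = f.coeff 0 := by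
    rw [coeff_add, coeff_C_mul_X_pow, if_neg (by omega), add_zero]
  have hnc : (f + C t * X ^ (m - 1)).nextCoeff = f.nextCoeff + t := by
    rw [nextCoeff_of_natDegree_pos (by omega), nextCoeff_of_natDegree_pos (by omega), hdeg', hdeg,
      coeff_add, coeff_C_mul_X_pow, if_pos rfl]
  unfold lam
  rw [hc0, hnc, hdeg', hdeg, neg_add, AddChar.map_add_eq_mul]
  ring

theorem S_ge_two (χ : MulChar F R) (ψ : AddChar F R) (hψ : ψ ≠ 1) (m : ℕ) (hm2 : 2 ≤ m) :
    S χ ψ m = 0 := by
  obtain ⟨t₀, ht₀⟩ := AddChar.ne_one_iff.mp hψ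
  have key : S χ ψ m = S χ ψ m * ψ t₀ := by
    unfold S
    rw [Finset.sum_mul]
    have h1 : ∑ f ∈ Mon (F := F) m, lam χ ψ f * ψ t₀ =
        ∑ f ∈ Mon (F := F) m, lam χ ψ (f + C (-t₀) * X ^ (m - 1)) :=
      Finset.sum_congr rfl (fun f hf => by rw [shift_lam χ ψ m hm2 (-t₀) f hf, neg_neg])
    rw [h1]
    symm
    refine Finset.sum_nbij' (fun f => f + C (-t₀) * X ^ (m - 1))
      (fun f => f + C t₀ * X ^ (m - 1)) ?_ ?_ ?_ ?_ ?_
    · intro f hf
      exact shift_mem m (by omega) _ f hf
    · intro f hf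
      exact shift_mem m (by omega) _ f hf
    · intro f _
      simp
    · intro f _
      simp
    · intro f _
      rfl
  have h2 : S χ ψ m * (1 - ψ t₀) = 0 := by linear_combination key
  rcases mul_eq_zero.mp h2 with h | h
  · exact h
  · exact absurd (sub_eq_zero.mp h).symm ht₀

/-- monic irreducible polynomials of degree at most `N` -/
noncomputable def Irr (N : ℕ) : Finset F[X] :=
  ((Finset.range (N + 1)).biUnion (fun d => Mon (F := F) d)).filter (fun P => Irreducible P)

theorem mem_Irr {N : ℕ} {P : F[X]} :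
    P ∈ Irr (F := F) N ↔ P.Monic ∧ P.natDegree ≤ N ∧ Irreducible P := by
  unfold Irr
  simp only [Finset.mem_filter, Finset.mem_biUnion, Finset.mem_range, mem_Mon]
  constructor
  · rintro ⟨⟨d, hd, hm, hdeg⟩, hirr⟩
    exact ⟨hm, by omega, hirr⟩
  · rintro ⟨hm, hdeg, hirr⟩
    exact ⟨⟨P.natDegree, by omega, hm, rfl⟩, hirr⟩

/-- the von Mangoldt-weighted sums -/
noncomputable def W (χ : MulChar F R) (ψ : AddChar F R) (N k : ℕ) : R :=
  ∑ P ∈ Irr (F := F) N, ∑ j ∈ Finset.Icc 1 N,
    if j * P.natDegree = k then (P.natDegree : R) * lam χ ψ P ^ j else 0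

theorem count_identity (N m : ℕ) (hmN : m ≤ N) (f : F[X]) (hf : f ∈ Mon (F := F) m) :
    ∑ P ∈ Irr (F := F) N, ∑ j ∈ Finset.Icc 1 N, (if P ^ j ∣ f then P.natDegree else 0) = m := by
  obtain ⟨hm, hdeg⟩ := mem_Mon.mp hf
  have hf0 : f ≠ 0 := hm.ne_zero
  obtain ⟨s, hs⟩ : ∃ s, s = UniqueFactorizationMonoid.normalizedFactors f := ⟨_, rfl⟩
  have hsirr : ∀ P ∈ s, Irreducible P := fun P hP =>
    UniqueFactorizationMonoid.irreducible_of_normalized_factor P (hs ▸ hP)
  have hsm : ∀ P ∈ s, P.Monic := fun P hP => by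
    have h1 := UniqueFactorizationMonoid.normalize_normalized_factor P (hs ▸ hP)
    rw [← h1]
    exact monic_normalize (hsirr P hP).ne_zero
  have hsdvd : ∀ P ∈ s, P ∣ f := fun P hP =>
    UniqueFactorizationMonoid.dvd_of_mem_normalizedFactors (hs ▸ hP)
  have hprod : s.prod = f := by
    have h1 : s.prod.Monic := by
      have := monic_multiset_prod_of_monic s id hsm
      rwa [Multiset.map_id] at this
    exact eq_of_monic_of_associated h1 hm
      (hs ▸ UniqueFactorizationMonoid.prod_normalizedFactors hf0)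
  have hdegsum : (s.map natDegree).sum = m := by
    rw [← natDegree_multiset_prod_of_monic s hsm, hprod, hdeg]
  have hinner : ∀ P ∈ Irr (F := F) N,
      ∑ j ∈ Finset.Icc 1 N, (if P ^ j ∣ f then P.natDegree else 0) =
        Multiset.count P s * P.natDegree := by
    intro P hP
    obtain ⟨hPm, hPd, hPirr⟩ := mem_Irr.mp hP
    have hd1 : 1 ≤ P.natDegree := hPirr.natDegree_pos
    have hiff : ∀ j : ℕ, P ^ j ∣ f ↔ j ≤ Multiset.count P s := by
      intro j
      rw [pow_dvd_iff_le_emultiplicity,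
        UniqueFactorizationMonoid.emultiplicity_eq_count_normalizedFactors hPirr hf0,
        hPm.normalize_eq_self, ← hs, Nat.cast_le]
    have hcN : Multiset.count P s ≤ N := by
      have h1 : P ^ (Multiset.count P s) ∣ f := (hiff _).mpr le_rfl
      have h2 := natDegree_le_of_dvd h1 hf0
      rw [hPm.natDegree_pow, hdeg] at h2
      calc Multiset.count P s = Multiset.count P s * 1 := (mul_one _).symm
        _ ≤ Multiset.count P s * P.natDegree := Nat.mul_le_mul_left _ hd1
        _ ≤ m := h2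
        _ ≤ N := hmN
    simp only [hiff]
    rw [← Finset.sum_filter, Finset.sum_const, smul_eq_mul]
    congr 1
    have hfil : (Finset.Icc 1 N).filter (fun j => j ≤ Multiset.count P s) =
        Finset.Icc 1 (Multiset.count P s) := by
      ext j
      simp only [Finset.mem_filter, Finset.mem_Icc]
      omega
    rw [hfil, Nat.card_Icc]
    omega
  rw [Finset.sum_congr rfl hinner, ← hdegsum, Finset.sum_multiset_map_count]
  simp only [smul_eq_mul]
  symm
  apply Finset.sum_subset
  · intro P hP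
    have hP' := Multiset.mem_toFinset.mp hP
    have hle := natDegree_le_of_dvd (hsdvd P hP') hf0
    exact mem_Irr.mpr ⟨hsm P hP', by omega, hsirr P hP'⟩
  · intro P _ hP
    rw [Multiset.count_eq_zero.mpr (fun h => hP (Multiset.mem_toFinset.mpr h)), zero_mul]

theorem sum_dvd (χ : MulChar F R) (ψ : AddChar F R) (P : F[X]) (hP : P.Monic) (j m : ℕ) :
    ∑ f ∈ Mon (F := F) m, (if P ^ j ∣ f then lam χ ψ f else 0) =
      if j * P.natDegree ≤ m then lam χ ψ P ^ j * S χ ψ (m - j * P.natDegree) else 0 := by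
  have hQ : (P ^ j).Monic := hP.pow j
  have hQd : (P ^ j).natDegree = j * P.natDegree := hP.natDegree_pow j
  split_ifs with hle
  · rw [← Finset.sum_filter, S, Finset.mul_sum]
    symm
    refine Finset.sum_bij (fun h _ => P ^ j * h) ?_ ?_ ?_ ?_
    · intro h hh
      obtain ⟨hhm, hhd⟩ := mem_Mon.mp hh
      refine Finset.mem_filter.mpr ⟨mem_Mon.mpr ⟨hQ.mul hhm, ?_⟩, Dvd.intro _ rfl⟩
      rw [hQ.natDegree_mul hhm, hQd, hhd]
      omega
    · intro h₁ _ h₂ _ he
      exact mul_left_cancel₀ hQ.ne_zero he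
    · intro f hf
      obtain ⟨hfM, h, rfl⟩ := Finset.mem_filter.mp hf
      obtain ⟨hfm, hfd⟩ := mem_Mon.mp hfM
      have hhm : h.Monic := hQ.of_mul_monic_left hfm
      refine ⟨h, mem_Mon.mpr ⟨hhm, ?_⟩, rfl⟩
      rw [hQ.natDegree_mul hhm, hQd] at hfd
      omega
    · intro h hh
      obtain ⟨hhm, hhd⟩ := mem_Mon.mp hh
      rw [lam_mul χ ψ hQ hhm, lam_pow χ ψ hP]
  · refine Finset.sum_eq_zero (fun f hf => ?_)
    obtain ⟨hfm, hfd⟩ := mem_Mon.mp hf
    rw [if_neg]
    intro hdvd
    have := natDegree_le_of_dvd hdvd hfm.ne_zero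
    rw [hQd, hfd] at this
    exact hle this

theorem recurrence (χ : MulChar F R) (ψ : AddChar F R) (hψ : ψ ≠ 1) (N m : ℕ) (hm1 : 1 ≤ m)
    (hmN : m ≤ N) :
    (m : R) * S χ ψ m = W χ ψ N m + (∑ a : F, χ a * ψ a) * W χ ψ N (m - 1) := by
  have h1 : (m : R) * S χ ψ m = ∑ f ∈ Mon (F := F) m, ∑ P ∈ Irr (F := F) N,
      ∑ j ∈ Finset.Icc 1 N, (P.natDegree : R) * (if P ^ j ∣ f then lam χ ψ f else 0) := by
    rw [S, Finset.mul_sum]
    refine Finset.sum_congr rfl (fun f hf => ?_)
    have hc := congrArg (Nat.cast : ℕ → R) (count_identity N m hmN f hf)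
    simp only [Nat.cast_sum, Nat.cast_ite, Nat.cast_zero] at hc
    rw [← hc, Finset.sum_mul]
    refine Finset.sum_congr rfl (fun P _ => ?_)
    rw [Finset.sum_mul]
    refine Finset.sum_congr rfl (fun j _ => ?_)
    split_ifs <;> simp
  have h2 : ∑ f ∈ Mon (F := F) m, ∑ P ∈ Irr (F := F) N,
      ∑ j ∈ Finset.Icc 1 N, (P.natDegree : R) * (if P ^ j ∣ f then lam χ ψ f else 0) =
      ∑ P ∈ Irr (F := F) N, ∑ j ∈ Finset.Icc 1 N,
        (P.natDegree : R) * ∑ f ∈ Mon (F := F) m, (if P ^ j ∣ f then lam χ ψ f else 0) := by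
    rw [Finset.sum_comm]
    refine Finset.sum_congr rfl (fun P _ => ?_)
    rw [Finset.sum_comm]
    refine Finset.sum_congr rfl (fun j _ => ?_)
    rw [Finset.mul_sum]
  have h3 : ∀ P ∈ Irr (F := F) N, ∀ j ∈ Finset.Icc 1 N,
      (P.natDegree : R) * ∑ f ∈ Mon (F := F) m, (if P ^ j ∣ f then lam χ ψ f else 0) =
      (if j * P.natDegree = m then (P.natDegree : R) * lam χ ψ P ^ j else 0) +
        (∑ a : F, χ a * ψ a) *
          (if j * P.natDegree = m - 1 then (P.natDegree : R) * lam χ ψ P ^ j else 0) := by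
    intro P hP j hj
    rw [sum_dvd χ ψ P (mem_Irr.mp hP).1 j m]
    by_cases c1 : j * P.natDegree = m
    · have h0 : m - j * P.natDegree = 0 := by omega
      rw [if_pos (le_of_eq c1), if_pos c1, if_neg (by omega), h0, S_zero]
      ring
    · by_cases c2 : j * P.natDegree = m - 1
      · have h0 : m - j * P.natDegree = 1 := by omega
        rw [if_pos (by omega), if_neg c1, if_pos c2, h0, S_one]
        ring
      · rw [if_neg c1, if_neg c2]
        by_cases c3 : j * P.natDegree ≤ m
        · rw [if_pos c3, S_ge_two χ ψ hψ (m - j * P.natDegree) (by omega)]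
          ring
        · rw [if_neg c3]
          ring
  rw [h1, h2, Finset.sum_congr rfl (fun P hP => Finset.sum_congr rfl (fun j hj => h3 P hP j hj))]
  simp only [Finset.sum_add_distrib, ← Finset.mul_sum, W]

theorem W_zero (χ : MulChar F R) (ψ : AddChar F R) (N : ℕ) : W χ ψ N 0 = 0 := by
  unfold W
  refine Finset.sum_eq_zero (fun P hP => Finset.sum_eq_zero (fun j hj => ?_))
  have hd := (mem_Irr.mp hP).2.2.natDegree_pos
  have hj1 := (Finset.mem_Icc.mp hj).1
  rw [if_neg]
  exact Nat.mul_ne_zero (by omega) (by omega)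

theorem W_eq (χ : MulChar F R) (ψ : AddChar F R) (hψ : ψ ≠ 1) (N : ℕ) :
    ∀ m, 1 ≤ m → m ≤ N → -W χ ψ N m = (-(∑ a : F, χ a * ψ a)) ^ m := by
  intro m hm
  induction m, hm using Nat.le_induction with
  | base =>
    intro h1N
    have hrec := recurrence χ ψ hψ N 1 le_rfl h1N
    rw [S_one, Nat.sub_self, W_zero, mul_zero, add_zero, Nat.cast_one, one_mul] at hrec
    rw [← hrec, pow_one]
  | succ k hk ih =>
    intro hkN
    have ih' := ih (by omega)
    have hrec := recurrence χ ψ hψ N (k + 1) (by omega) hkN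
    rw [S_ge_two χ ψ hψ (k + 1) (by omega), mul_zero, Nat.add_sub_cancel] at hrec
    linear_combination hrec + (-(∑ a : F, χ a * ψ a)) * ih'

/-! ### The field side -/

variable {F' : Type} [Field F'] [Fintype F'] [Algebra F F']

theorem term_eq (χ : MulChar F R) (ψ : AddChar F R) (x : F') :
    χ (Algebra.norm F x) * ψ (Algebra.trace F F' x) =
      lam χ ψ (minpoly F x) ^ Module.finrank F⟮x⟯ F' := by
  have hx : IsIntegral F x := Algebra.IsIntegral.isIntegral x
  have hN : Algebra.norm F (IntermediateField.AdjoinSimple.gen F x) =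
      (-1) ^ (minpoly F x).natDegree * (minpoly F x).coeff 0 := by
    have := Algebra.PowerBasis.norm_gen_eq_coeff_zero_minpoly
      (IntermediateField.adjoin.powerBasis hx)
    rw [IntermediateField.adjoin.powerBasis_gen hx, IntermediateField.adjoin.powerBasis_dim hx,
      IntermediateField.minpoly_gen] at this
    exact this
  have hT : Algebra.trace F F⟮x⟯ (IntermediateField.AdjoinSimple.gen F x) =
      -(minpoly F x).nextCoeff := by
    have := PowerBasis.trace_gen_eq_nextCoeff_minpoly (IntermediateField.adjoin.powerBasis hx)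
    rw [IntermediateField.adjoin.powerBasis_gen hx, IntermediateField.minpoly_gen] at this
    exact this
  rw [Algebra.norm_eq_norm_adjoin F x, trace_eq_trace_adjoin F x, hN, hT, map_pow,
    AddChar.map_nsmul_eq_pow, ← mul_pow]
  rfl

theorem fiber_sum (χ : MulChar F R) (ψ : AddChar F R) (n : ℕ) (hn : Module.finrank F F' = n)
    (P : F[X]) (hP : P ∈ Irr (F := F) n) :
    ∑ x ∈ (Finset.univ : Finset F').filter (fun x => minpoly F x = P),
        χ (Algebra.norm F x) * ψ (Algebra.trace F F' x) =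
      ∑ j ∈ Finset.Icc 1 n,
        if j * P.natDegree = n then (P.natDegree : R) * lam χ ψ P ^ j else 0 := by
  obtain ⟨hm, hdeg, hirr⟩ := mem_Irr.mp hP
  have hd1 : 1 ≤ P.natDegree := hirr.natDegree_pos
  have hn1 : 1 ≤ n := hn ▸ Module.finrank_pos
  by_cases hdvd : P.natDegree ∣ n
  · obtain ⟨k, hk⟩ := hdvd
    have hk1 : 1 ≤ k := by
      rcases Nat.eq_zero_or_pos k with h | h
      · rw [h, mul_zero] at hk; omega
      · exact h
    have hkn : k ≤ n := by
      calc k = 1 * k := (one_mul k).symm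
        _ ≤ P.natDegree * k := Nat.mul_le_mul_right _ hd1
        _ = n := hk.symm
    -- RHS
    have hR : ∑ j ∈ Finset.Icc 1 n,
        (if j * P.natDegree = n then (P.natDegree : R) * lam χ ψ P ^ j else 0) =
        (P.natDegree : R) * lam χ ψ P ^ k := by
      rw [Finset.sum_eq_single k]
      · rw [if_pos (by rw [hk, mul_comm])]
      · intro j _ hjk
        rw [if_neg]
        intro he
        apply hjk
        rw [hk, mul_comm] at he
        exact Nat.eq_of_mul_eq_mul_left hd1 he
      · intro hk'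
        exact absurd (Finset.mem_Icc.mpr ⟨hk1, hkn⟩) hk'
    rw [hR]
    -- root existence
    haveI : Fact (Irreducible P) := ⟨hirr⟩
    have hfr : Module.finrank F (AdjoinRoot P) = P.natDegree :=
      finrank_quotient_span_eq_natDegree
    obtain ⟨φ⟩ := FiniteField.nonempty_algHom_of_finrank_dvd (F := F) (K := AdjoinRoot P) (L := F')
      (by rw [hfr, hn]; exact ⟨k, hk⟩)
    have h0 : aeval (φ (AdjoinRoot.root P)) P = 0 := by
      rw [aeval_algHom_apply, AdjoinRoot.aeval_eq, AdjoinRoot.mk_self, map_zero]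
    have hmin : minpoly F (φ (AdjoinRoot.root P)) = P :=
      (minpoly.eq_of_irreducible_of_monic hirr h0 hm).symm
    have hsplit : (P.map (algebraMap F F')).Splits := by
      have := Normal.splits (inferInstance : Normal F F') (φ (AdjoinRoot.root P))
      rwa [hmin] at this
    have hsep : P.Separable := PerfectField.separable_of_irreducible hirr
    have hcard := card_rootSet_eq_natDegree hsep hsplit
    rw [Fintype.card_eq_nat_card] at hcard
    have e : {x : F' // minpoly F x = P} ≃ ↑(P.rootSet F') :=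
      Equiv.subtypeEquivRight (fun x => by
        rw [mem_rootSet_of_ne hm.ne_zero]
        constructor
        · intro h
          rw [← h]
          exact minpoly.aeval F x
        · intro h
          exact (minpoly.eq_of_irreducible_of_monic hirr h hm).symm)
    have hfc : ((Finset.univ : Finset F').filter (fun x => minpoly F x = P)).card =
        P.natDegree := by
      rw [← hcard, ← Nat.card_congr e, Nat.card_eq_fintype_card, Fintype.card_subtype]
    have hterm : ∀ x ∈ (Finset.univ : Finset F').filter (fun x => minpoly F x = P),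
        χ (Algebra.norm F x) * ψ (Algebra.trace F F' x) = lam χ ψ P ^ k := by
      intro x hx
      have hxP : minpoly F x = P := (Finset.mem_filter.mp hx).2
      have hxi : IsIntegral F x := Algebra.IsIntegral.isIntegral x
      rw [term_eq χ ψ x, hxP]
      congr 1
      have h1 := IntermediateField.adjoin.finrank hxi
      have h2 := Module.finrank_mul_finrank F F⟮x⟯ F'
      rw [h1, hxP, hn, hk] at h2
      exact Nat.eq_of_mul_eq_mul_left hd1 h2
    rw [Finset.sum_congr rfl hterm, Finset.sum_const, hfc, nsmul_eq_mul]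
  · have hL : ∑ x ∈ (Finset.univ : Finset F').filter (fun x => minpoly F x = P),
        χ (Algebra.norm F x) * ψ (Algebra.trace F F' x) = 0 := by
      refine Finset.sum_eq_zero (fun x hx => ?_)
      exfalso
      have hxP : minpoly F x = P := (Finset.mem_filter.mp hx).2
      have hxi : IsIntegral F x := Algebra.IsIntegral.isIntegral x
      have := minpoly.degree_dvd hxi
      rw [hxP, hn] at this
      exact hdvd this
    rw [hL]
    symm
    refine Finset.sum_eq_zero (fun j _ => ?_)
    rw [if_neg]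
    intro he
    exact hdvd ⟨j, by rw [← he, mul_comm]⟩

theorem main3128 (F F' : Type) [Field F] [Fintype F] [Field F'] [Fintype F'] [Algebra F F']
    (R : Type) [CommRing R] [IsDomain R] (χ : MulChar F R) (ψ : AddChar F R) (hψ : ψ ≠ 1) :
    -(∑ x : F', χ (Algebra.norm F x) * ψ (Algebra.trace F F' x)) =
      (-(∑ x : F, χ x * ψ x)) ^ Module.finrank F F' := by
  obtain ⟨n, hn⟩ : ∃ n, n = Module.finrank F F' := ⟨_, rfl⟩
  have hn1 : 1 ≤ n := hn ▸ Module.finrank_pos
  rw [← hn, ← W_eq χ ψ hψ n n hn1 le_rfl]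
  congr 1
  unfold W
  have hmaps : ∀ x ∈ (Finset.univ : Finset F'), minpoly F x ∈ Irr (F := F) n := by
    intro x _
    have hxi : IsIntegral F x := Algebra.IsIntegral.isIntegral x
    refine mem_Irr.mpr ⟨minpoly.monic hxi, ?_, minpoly.irreducible hxi⟩
    have := minpoly.degree_dvd hxi
    rw [← hn] at this
    exact Nat.le_of_dvd hn1 this
  rw [← Finset.sum_fiberwise_of_maps_to hmaps
    (fun x => χ (Algebra.norm F x) * ψ (Algebra.trace F F' x))]
  refine Finset.sum_congr rfl (fun P hP => ?_)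
  convert fiber_sum χ ψ n hn.symm P hP

end Groth.Agent.Lib.HasseDavenportH4
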