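import Mathlib

/-!
# The heart of a t-structure is abelian (helper9)

We verify the hypotheses of Mathlib's `Triangulated.AbelianSubcategory.abelian`.
-/

namespace Groth.Agent.Lib.HeartAb

open CategoryTheory CategoryTheory.Limits CategoryTheory.Pretriangulated CategoryTheory.Triangulated
  ZeroObject

universe v u v' u'

section

variable {C : Type u} [Category.{v} C] [Preadditive C] [HasZeroObject C] [HasShift C ℤ]
  [∀ n : ℤ, (shiftFunctor C n).Additive] [Pretriangulated C] (t : TStructure C)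
  {H : Type u'} [Category.{v'} H] [Preadditive H] [t.Heart H]

lemma hι ⦃X Y : H⦄ ⦃n : ℤ⦄ (f : t.ιHeart.obj X ⟶ (t.ιHeart.obj Y)⟦n⟧) (hn : n < 0) : f = 0 := by
  haveI : t.IsGE ((t.ιHeart.obj Y)⟦n⟧) (-n) := t.isGE_shift (t.ιHeart.obj Y) 0 n (-n)
  exact t.zero_of_isLE_of_isGE f 0 (-n) (by lia) inferInstance this

variable (H) in
lemma exists_iso_of_heart (X : C) [t.IsLE X 0] [t.IsGE X 0] :
    ∃ (Y : H), Nonempty (t.ιHeart.obj Y ≅ X) := by
  have h : t.heart X := (t.mem_heart_iff X).2 ⟨inferInstance, inferInstance⟩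
  rw [← t.essImage_ιHeart H] at h
  obtain ⟨Y, ⟨e⟩⟩ := h
  exact ⟨Y, ⟨e⟩⟩

variable (H) in
include t in
lemma hasZeroObject : HasZeroObject H := by
  haveI : t.IsLE (0 : C) 0 := t.isLE_of_isZero (isZero_zero C) 0
  haveI : t.IsGE (0 : C) 0 := t.isGE_of_isZero (isZero_zero C) 0
  obtain ⟨Z, ⟨e⟩⟩ := exists_iso_of_heart t H (0 : C)
  refine ⟨⟨Z, ?_⟩⟩
  rw [IsZero.iff_id_eq_zero]
  apply t.ιHeart.map_injective
  exact (IsZero.of_iso (isZero_zero C) e).eq_of_src _ _

variable (H) in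
include t in
lemma hasBinaryBiproducts : HasBinaryBiproducts H := by
  refine ⟨fun X Y => ?_⟩
  let P := t.ιHeart.obj X ⊞ t.ιHeart.obj Y
  have hT := binaryBiproductTriangle_distinguished (t.ιHeart.obj X) (t.ιHeart.obj Y)
  haveI : t.IsLE P 0 := t.isLE₂ _ hT 0
    (show t.IsLE (t.ιHeart.obj X) 0 from inferInstance)
    (show t.IsLE (t.ιHeart.obj Y) 0 from inferInstance)
  haveI : t.IsGE P 0 := t.isGE₂ _ hT 0
    (show t.IsGE (t.ιHeart.obj X) 0 from inferInstance)
    (show t.IsGE (t.ιHeart.obj Y) 0 from inferInstance)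
  obtain ⟨W, ⟨e⟩⟩ := exists_iso_of_heart t H P
  let b : BinaryBicone X Y :=
    { pt := W
      fst := t.ιHeart.preimage (e.hom ≫ biprod.fst)
      snd := t.ιHeart.preimage (e.hom ≫ biprod.snd)
      inl := t.ιHeart.preimage (biprod.inl ≫ e.inv)
      inr := t.ιHeart.preimage (biprod.inr ≫ e.inv)
      inl_fst := t.ιHeart.map_injective (by simp)
      inl_snd := t.ιHeart.map_injective (by simp)
      inr_fst := t.ιHeart.map_injective (by simp)
      inr_snd := t.ιHeart.map_injective (by simp) }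
  refine hasBinaryBiproduct_of_total b ?_
  apply t.ιHeart.map_injective
  simp only [b, Functor.map_add, Functor.map_comp, Functor.map_preimage, Functor.map_id,
    Category.assoc]
  rw [← Preadditive.comp_add, ← Category.assoc biprod.fst, ← Category.assoc biprod.snd,
    ← Preadditive.add_comp, biprod.total, Category.id_comp, Iso.hom_inv_id]
  exact (t.ιHeart.map_id W).symm

variable (H) in
include t in
lemma hasFiniteProducts : HasFiniteProducts H := by
  haveI := hasZeroObject t H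
  haveI := hasBinaryBiproducts t H
  haveI : HasTerminal H := HasZeroObject.hasTerminal
  exact hasFiniteProducts_of_has_binary_and_terminal

variable [IsTriangulated C]

variable (H) in
lemma admissible : AbelianSubcategory.admissibleMorphism (t.ιHeart (H := H)) = ⊤ := by
  ext X₁ X₂ f₁
  simp only [MorphismProperty.top_apply, iff_true]
  intro X₃ f₂ f₃ hT
  have hrot := rot_of_distTriang _ hT
  haveI : t.IsLE ((t.ιHeart.obj X₁)⟦(1 : ℤ)⟧) (-1) := t.isLE_shift _ 0 1 (-1)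
  haveI : t.IsGE ((t.ιHeart.obj X₁)⟦(1 : ℤ)⟧) (-1) := t.isGE_shift _ 0 1 (-1)
  haveI : t.IsLE ((t.ιHeart.obj X₁)⟦(1 : ℤ)⟧) 0 := t.isLE_of_le _ (-1) 0
  haveI : t.IsGE (t.ιHeart.obj X₂) (-1) := t.isGE_of_ge _ (-1) 0
  haveI : t.IsLE X₃ 0 := t.isLE₂ _ hrot 0
    (show t.IsLE (t.ιHeart.obj X₂) 0 from inferInstance)
    (show t.IsLE ((t.ιHeart.obj X₁)⟦(1 : ℤ)⟧) 0 from inferInstance)
  haveI : t.IsGE X₃ (-1) := t.isGE₂ _ hrot (-1)
    (show t.IsGE (t.ιHeart.obj X₂) (-1) from inferInstance)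
    (show t.IsGE ((t.ιHeart.obj X₁)⟦(1 : ℤ)⟧) (-1) from inferInstance)
  let K' := (t.truncLE (-1)).obj X₃
  let Q' := (t.truncGE 0).obj X₃
  haveI : t.IsGE K' (-1) := by dsimp only [K']; infer_instance
  haveI : t.IsLE K' (-1) := by dsimp only [K']; infer_instance
  haveI : t.IsLE (K'⟦(-1 : ℤ)⟧) 0 := t.isLE_shift K' (-1) (-1) 0
  haveI : t.IsGE (K'⟦(-1 : ℤ)⟧) 0 := t.isGE_shift K' (-1) (-1) 0
  obtain ⟨K, ⟨eK⟩⟩ := exists_iso_of_heart t H (K'⟦(-1 : ℤ)⟧)
  haveI : t.IsLE Q' 0 := by dsimp only [Q']; infer_instance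
  haveI : t.IsGE Q' 0 := by dsimp only [Q']; infer_instance
  obtain ⟨Q, ⟨eQ⟩⟩ := exists_iso_of_heart t H Q'
  let e₁ : (t.ιHeart.obj K)⟦(1 : ℤ)⟧ ≅ K' :=
    (shiftFunctor C (1 : ℤ)).mapIso eK ≪≫ (shiftEquiv C (1 : ℤ)).counitIso.app K'
  refine ⟨K, Q, e₁.hom ≫ (t.truncLEι (-1)).app X₃, (t.truncGEπ 0).app X₃ ≫ eQ.inv,
    eQ.hom ≫ (t.truncGEδLE (-1) 0 (by lia)).app X₃ ≫ (e₁.inv)⟦(1 : ℤ)⟧', ?_⟩
  refine isomorphic_distinguished _ (t.triangleLEGE_distinguished (-1) 0 (by lia) X₃) _ ?_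
  refine Triangle.isoMk _ _ e₁ (Iso.refl _) eQ ?_ ?_ ?_
  · show (e₁.hom ≫ (t.truncLEι (-1)).app X₃) ≫ 𝟙 X₃ = e₁.hom ≫ (t.truncLEι (-1)).app X₃
    exact Category.comp_id _
  · show ((t.truncGEπ 0).app X₃ ≫ eQ.inv) ≫ eQ.hom = 𝟙 X₃ ≫ (t.truncGEπ 0).app X₃
    rw [Category.assoc, Iso.inv_hom_id, Category.comp_id, Category.id_comp]
  · show (eQ.hom ≫ (t.truncGEδLE (-1) 0 (by lia)).app X₃ ≫ (e₁.inv)⟦(1 : ℤ)⟧') ≫
      (e₁.hom)⟦(1 : ℤ)⟧' = eQ.hom ≫ (t.truncGEδLE (-1) 0 (by lia)).app X₃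
    rw [Category.assoc, Category.assoc, ← Functor.map_comp, Iso.inv_hom_id]
    erw [CategoryTheory.Functor.map_id, Category.comp_id]

end

theorem main {C : Type u} [Category.{v} C] [Preadditive C] [HasZeroObject C] [HasShift C ℤ]
    [∀ n : ℤ, (shiftFunctor C n).Additive] [Pretriangulated C] [IsTriangulated C]
    (t : TStructure C) {H : Type u'} [Category.{v'} H] [inst : Preadditive H] [t.Heart H] :
    ∃ a : Abelian H, @Abelian.toPreadditive H _ a = inst := by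
  haveI := hasFiniteProducts t H
  exact ⟨AbelianSubcategory.abelian t.ιHeart (hι t) (admissible t H), rfl⟩

section SES

variable {C : Type u} [Category.{v} C] [Preadditive C] [HasZeroObject C] [HasShift C ℤ]
  [∀ n : ℤ, (shiftFunctor C n).Additive] [Pretriangulated C] [IsTriangulated C]
  (t : TStructure C) {H : Type u'} [Category.{v'} H] [Abelian H] [t.Heart H]

/-- short exact sequences in the heart correspond to distinguished triangles -/
theorem shortExact_iff {X Y Z : H} (u : X ⟶ Y) (v : Y ⟶ Z) :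
    (∃ huv : u ≫ v = 0, (ShortComplex.mk u v huv).ShortExact) ↔
      ∃ (w : t.ιHeart.obj Z ⟶ (t.ιHeart.obj X)⟦(1 : ℤ)⟧),
        Triangle.mk (t.ιHeart.map u) (t.ιHeart.map v) w ∈ distTriang C := by
  constructor
  · rintro ⟨huv, hS⟩
    haveI := hS.epi_g
    haveI := hS.mono_f
    haveI : Epi v := hS.epi_g
    obtain ⟨X', i, δ, hT⟩ := AbelianSubcategory.exists_distinguished_triangle_of_epi
      (hι t) (admissible t H) v
    have hi := AbelianSubcategory.isLimitKernelForkOfDistTriang (hι t) i v δ hT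
    have hu := hS.exact.fIsKernel
    let φ : X ≅ X' := IsLimit.conePointUniqueUpToIso hu hi
    have hφ : φ.hom ≫ i = u :=
      IsLimit.conePointUniqueUpToIso_hom_comp hu hi WalkingParallelPair.zero
    refine ⟨δ ≫ (t.ιHeart.map φ.inv)⟦(1 : ℤ)⟧', ?_⟩
    refine isomorphic_distinguished _ hT _ ?_
    refine Triangle.isoMk _ _ (t.ιHeart.mapIso φ) (Iso.refl _) (Iso.refl _) ?_ ?_ ?_
    · show t.ιHeart.map u ≫ 𝟙 _ = t.ιHeart.map φ.hom ≫ t.ιHeart.map i
      rw [Category.comp_id, ← Functor.map_comp, hφ]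
    · show t.ιHeart.map v ≫ 𝟙 _ = 𝟙 _ ≫ t.ιHeart.map v
      rw [Category.comp_id, Category.id_comp]
    · show (δ ≫ (t.ιHeart.map φ.inv)⟦(1 : ℤ)⟧') ≫ (t.ιHeart.map φ.hom)⟦(1 : ℤ)⟧' = 𝟙 _ ≫ δ
      rw [Category.assoc, ← Functor.map_comp, ← Functor.map_comp, Iso.inv_hom_id,
        CategoryTheory.Functor.map_id, CategoryTheory.Functor.map_id, Category.comp_id,
        Category.id_comp]
  · rintro ⟨w, hT⟩
    have huv : u ≫ v = 0 := t.ιHeart.map_injective (by
      rw [Functor.map_comp, Functor.map_zero]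
      exact comp_distTriang_mor_zero₁₂ _ hT)
    have hk := AbelianSubcategory.isLimitKernelForkOfDistTriang (hι t) u v w hT
    have hc := AbelianSubcategory.isColimitCokernelCoforkOfDistTriang (hι t) u v w hT
    refine ⟨huv, ?_⟩
    haveI : Mono u := mono_of_isLimit_fork hk
    haveI : Epi v := epi_of_isColimit_cofork hc
    exact { exact := ShortComplex.exact_of_f_is_kernel _ hk }

end SES

end Groth.Agent.Lib.HeartAb
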