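import Groth.Agent.Lib.HeightOne_helper9

/-!
# Height one Hopf algebras over a local base (helper9)

A flat, finitely presented commutative Hopf algebra of height `≤ 1` over a local ring of
characteristic `p` is a truncated polynomial algebra.

APPEND-ONLY once landed.
-/

set_option autoImplicit false
universe u
open scoped TensorProduct
open TensorProduct

namespace HeightOne9

noncomputable section

section LocalBase

variable (p : ℕ) [Fact p.Prime] (R : Type u) [CommRing R] [IsLocalRing R] [CharP R p]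

theorem charP_residueField : CharP (IsLocalRing.ResidueField R) p := by
  have hp0 : ((p : ℕ) : IsLocalRing.ResidueField R) = 0 := by
    have h : ((p : ℕ) : R) = 0 := CharP.cast_eq_zero R p
    rw [← map_natCast (algebraMap R (IsLocalRing.ResidueField R)), h, map_zero]
  obtain ⟨q, hq⟩ := CharP.exists (IsLocalRing.ResidueField R)
  have hdvd : q ∣ p := (CharP.cast_eq_zero_iff _ q p).mp hp0
  have hq1 : q ≠ 1 := CharP.char_ne_one (IsLocalRing.ResidueField R) q
  have hqp : q = p := ((Fact.out : p.Prime).eq_one_or_self_of_dvd q hdvd).resolve_left hq1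
  rw [← hqp]
  exact hq

variable (A : Type u) [CommRing A] [HopfAlgebra R A]

omit [IsLocalRing R] [CharP R p] in
theorem finite_of_heightOne [Algebra.FiniteType R A]
    (h1 : ∀ a : A, Coalgebra.counit (R := R) a = 0 → a ^ p = 0) : Module.Finite R A := by
  haveI : Algebra.IsIntegral R A := ⟨fun a => by
    have h2 : IsIntegral R (a - algebraMap R A (Coalgebra.counit (R := R) a)) := by
      apply IsIntegral.of_pow (Fact.out : p.Prime).pos
      rw [h1 _ (by rw [map_sub, Bialgebra.counit_algebraMap, sub_self])]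
      exact isIntegral_zero
    have h3 := h2.add (isIntegral_algebraMap (x := Coalgebra.counit (R := R) a))
    rwa [sub_add_cancel] at h3⟩
  exact Algebra.IsIntegral.finite

local notation "κ" => IsLocalRing.ResidueField R

omit [Fact p.Prime] [CharP R p] in
theorem exists_eq_one_tmul (z : κ ⊗[R] A) : ∃ a : A, z = (1 : κ) ⊗ₜ[R] a := by
  induction z using TensorProduct.induction_on with
  | zero => exact ⟨0, (TensorProduct.tmul_zero _ _).symm⟩
  | add z₁ z₂ h₁ h₂ =>
    obtain ⟨a₁, rfl⟩ := h₁
    obtain ⟨a₂, rfl⟩ := h₂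
    exact ⟨a₁ + a₂, (TensorProduct.tmul_add _ _ _).symm⟩
  | tmul c a =>
    obtain ⟨r, rfl⟩ := IsLocalRing.residue_surjective c
    refine ⟨r • a, ?_⟩
    have h : IsLocalRing.residue R r = r • (1 : κ) := by
      rw [← IsLocalRing.ResidueField.algebraMap_eq, Algebra.algebraMap_eq_smul_one]
    rw [h, TensorProduct.smul_tmul]

omit [Fact p.Prime] [CharP R p] in
theorem counit_one_tmul (a : A) :
    Coalgebra.counit (R := κ) ((1 : κ) ⊗ₜ[R] a) = algebraMap R κ (Coalgebra.counit (R := R) a) := by
  rw [TensorProduct.counit_tmul, CommSemiring.counit_apply, Algebra.algebraMap_eq_smul_one]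

omit [Fact p.Prime] [CharP R p] in
theorem exists_eq_one_tmul_of_counit (z : κ ⊗[R] A) (hz : Coalgebra.counit (R := κ) z = 0) :
    ∃ a : A, Coalgebra.counit (R := R) a = 0 ∧ z = (1 : κ) ⊗ₜ[R] a := by
  obtain ⟨a, rfl⟩ := exists_eq_one_tmul R A z
  rw [counit_one_tmul] at hz
  refine ⟨a - algebraMap R A (Coalgebra.counit (R := R) a), ?_, ?_⟩
  · rw [map_sub, Bialgebra.counit_algebraMap, sub_self]
  · rw [TensorProduct.tmul_sub, Algebra.algebraMap_eq_smul_one, TensorProduct.tmul_smul,
      TensorProduct.smul_tmul', ← Algebra.algebraMap_eq_smul_one, hz, TensorProduct.zero_tmul,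
      sub_zero]

omit [CharP R p] in
theorem heightOne_baseChange
    (h1 : ∀ a : A, Coalgebra.counit (R := R) a = 0 → a ^ p = 0) (z : κ ⊗[R] A)
    (hz : Coalgebra.counit (R := κ) z = 0) : z ^ p = 0 := by
  obtain ⟨a, ha, rfl⟩ := exists_eq_one_tmul_of_counit R A z hz
  rw [Algebra.TensorProduct.tmul_pow, h1 a ha, TensorProduct.tmul_zero]

theorem nonempty_algEquiv_local [Algebra.FiniteType R A] [Module.Flat R A]
    (h1 : ∀ a : A, Coalgebra.counit (R := R) a = 0 → a ^ p = 0) :
    ∃ n : ℕ, Nonempty (A ≃ₐ[R] (MvPolynomial (Fin n) R ⧸ truncIdeal R n p)) := by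
  haveI : Module.Finite R A := finite_of_heightOne p R A h1
  haveI : CharP κ p := charP_residueField p R
  have h1κ := heightOne_baseChange p R A h1
  obtain ⟨b, xbar, hxbar0, hxbarb⟩ := exists_data κ (κ ⊗[R] A)
  have hbijκ := bijective_heightOne κ (κ ⊗[R] A) b p h1κ xbar hxbar0 hxbarb
  choose x hx0 hx using fun i => exists_eq_one_tmul_of_counit R A (xbar i) (hxbar0 i)
  refine ⟨Module.finrank κ (HopfKaehler9.Cot κ (κ ⊗[R] A)), ?_⟩
  have hv : ∀ s : Fin (Module.finrank κ (HopfKaehler9.Cot κ (κ ⊗[R] A))) →₀ ℕ,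
      (1 : κ) ⊗ₜ[R] MvPolynomial.aeval x (MvPolynomial.monomial s (1 : R)) =
        MvPolynomial.aeval xbar (MvPolynomial.monomial s (1 : κ)) := by
    intro s
    rw [MvPolynomial.aeval_monomial, MvPolynomial.aeval_monomial, map_one, map_one, one_mul,
      one_mul]
    show (Algebra.TensorProduct.includeRight : A →ₐ[R] κ ⊗[R] A) (s.prod fun i e => x i ^ e) = _
    rw [map_finsuppProd]
    apply Finsupp.prod_congr
    intro i _
    rw [map_pow]
    show ((1 : κ) ⊗ₜ[R] x i) ^ _ = _
    rw [← hx i]
  have hcomp : (TensorProduct.mk R κ A 1 ∘ fun β : Fin _ → Fin p =>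
      MvPolynomial.aeval x (MvPolynomial.monomial (emb _ p β) (1 : R))) =
      fun β => MvPolynomial.aeval xbar (MvPolynomial.monomial (emb _ p β) (1 : κ)) := by
    funext β
    exact hv _
  have hbijR := Module.IsLocalRing.linearCombination_bijective_of_flat
    (fun β : Fin _ → Fin p => MvPolynomial.aeval x (MvPolynomial.monomial (emb _ p β) (1 : R)))
    (by rw [hcomp]; exact hbijκ)
  exact nonempty_algEquiv_of_bijective R _ p x (fun i => h1 _ (hx0 i)) hbijR

end LocalBase

end

end HeightOne9
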