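import Mathlib

/-!
# Rings in which minimal primes and maximal ideals correspond bijectively by inclusion (helper3)

`MinMaxUnique T`: every minimal prime lies in exactly one maximal ideal and every maximal ideal
contains exactly one minimal prime.  The property passes through finite product decompositions
given by orthogonal idempotents.
-/

set_option autoImplicit false
universe u v

namespace Groth.Agent.Lib.MinMaxUniqueH3

def MinMaxUnique (T : Type*) [CommRing T] : Prop :=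
  (∀ q ∈ minimalPrimes T, ∃! m : Ideal T, m.IsMaximal ∧ q ≤ m) ∧
  (∀ m : Ideal T, m.IsMaximal → ∃! q : Ideal T, q ∈ minimalPrimes T ∧ q ≤ m)

section Decomp

variable {T : Type u} [CommRing T] {ι : Type v} [Fintype ι]
  (M : ι → Type u) [∀ i, CommRing (M i)] (ψ : ∀ i, T →+* M i)
  (hψ : ∀ i, Function.Surjective (ψ i))
  (e : ι → T) (hsum : ∑ i, e i = 1) (h1 : ∀ i, ψ i (e i) = 1)
  (h0 : ∀ i j, i ≠ j → ψ i (e j) = 0)
  (hker : ∀ i x, ψ i x = 0 → x * e i = 0)

include hsum in
theorem exists_notMem (P : Ideal T) (hP : P ≠ ⊤) : ∃ i, e i ∉ P := by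
  by_contra hcon
  push_neg at hcon
  have : ∑ i, e i ∈ P := Ideal.sum_mem _ fun i _ => hcon i
  rw [hsum] at this
  exact hP ((Ideal.eq_top_iff_one _).2 this)

include hker in
theorem ker_le (i : ι) (P : Ideal T) [P.IsPrime] (hi : e i ∉ P) : RingHom.ker (ψ i) ≤ P := by
  intro x hx
  have h2 : x * e i ∈ P := by rw [hker i x hx]; exact zero_mem _
  rcases Ideal.IsPrime.mem_or_mem inferInstance h2 with h | h
  · exact h
  · exact absurd h hi

include h0 hker in
theorem mem_of_ne (i j : ι) (hij : i ≠ j) (P : Ideal T) [P.IsPrime] (hi : e i ∉ P) : e j ∈ P := by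
  have h2 : e j * e i ∈ P := by rw [hker i (e j) (h0 i j hij)]; exact zero_mem _
  rcases Ideal.IsPrime.mem_or_mem inferInstance h2 with h | h
  · exact h
  · exact absurd h hi

include hψ in
theorem comap_map (i : ι) (P : Ideal T) (hk : RingHom.ker (ψ i) ≤ P) :
    (P.map (ψ i)).comap (ψ i) = P := by
  rw [Ideal.comap_map_of_surjective _ (hψ i), ← RingHom.ker_eq_comap_bot]
  exact sup_eq_left.2 hk

include h1 in
theorem notMem_comap (i : ι) (P' : Ideal (M i)) (hP' : P' ≠ ⊤) : e i ∉ P'.comap (ψ i) := by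
  intro h
  rw [Ideal.mem_comap, h1 i] at h
  exact hP' ((Ideal.eq_top_iff_one _).2 h)

include hψ hker in
theorem map_mem_minimalPrimes (i : ι) (q : Ideal T) (hq : q ∈ minimalPrimes T) (hi : e i ∉ q) :
    q.map (ψ i) ∈ minimalPrimes (M i) := by
  haveI : q.IsPrime := hq.1.1
  have hk := ker_le M ψ e hker i q hi
  have hp : (q.map (ψ i)).IsPrime := Ideal.map_isPrime_of_surjective (hψ i) hk
  refine ⟨⟨hp, bot_le⟩, fun P' ⟨hP'p, _⟩ hle => ?_⟩
  haveI := hP'p
  have h2 : P'.comap (ψ i) ≤ q := by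
    rw [← comap_map M ψ hψ i q hk]; exact Ideal.comap_mono hle
  have h3 : q ≤ P'.comap (ψ i) := hq.2 ⟨Ideal.comap_isPrime _ _, bot_le⟩ h2
  calc q.map (ψ i) ≤ (P'.comap (ψ i)).map (ψ i) := Ideal.map_mono h3
    _ = P' := Ideal.map_comap_of_surjective _ (hψ i) P'

include hψ h1 hker in
theorem comap_mem_minimalPrimes (i : ι) (q' : Ideal (M i)) (hq' : q' ∈ minimalPrimes (M i)) :
    q'.comap (ψ i) ∈ minimalPrimes T := by
  haveI : q'.IsPrime := hq'.1.1
  refine ⟨⟨Ideal.comap_isPrime _ _, bot_le⟩, fun P ⟨hPp, _⟩ hle => ?_⟩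
  haveI := hPp
  have hi : e i ∉ P := fun h => notMem_comap M ψ e h1 i q' (Ideal.IsPrime.ne_top inferInstance) (hle h)
  have hk := ker_le M ψ e hker i P hi
  have hp : (P.map (ψ i)).IsPrime := Ideal.map_isPrime_of_surjective (hψ i) hk
  have h2 : P.map (ψ i) ≤ q' := by
    calc P.map (ψ i) ≤ (q'.comap (ψ i)).map (ψ i) := Ideal.map_mono hle
      _ = q' := Ideal.map_comap_of_surjective _ (hψ i) q'
  have h3 : q' ≤ P.map (ψ i) := hq'.2 ⟨hp, bot_le⟩ h2
  calc q'.comap (ψ i) ≤ (P.map (ψ i)).comap (ψ i) := Ideal.comap_mono h3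
    _ = P := comap_map M ψ hψ i P hk

include hψ hker in
theorem map_isMaximal (i : ι) (m : Ideal T) [hm : m.IsMaximal] (hi : e i ∉ m) :
    (m.map (ψ i)).IsMaximal := by
  have hk := ker_le M ψ e hker i m hi
  rcases Ideal.map_eq_top_or_isMaximal_of_surjective (ψ i) (hψ i) hm with h | h
  · exfalso
    have := comap_map M ψ hψ i m hk
    rw [h, Ideal.comap_top] at this
    exact hm.ne_top this.symm
  · exact h

include hψ hsum h1 h0 hker in
theorem minMaxUnique_of_idempotents (hM : ∀ i, MinMaxUnique (M i)) : MinMaxUnique T := by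
  constructor
  · intro q hq
    haveI : q.IsPrime := hq.1.1
    obtain ⟨i, hi⟩ := exists_notMem e hsum q (Ideal.IsPrime.ne_top inferInstance)
    have hkq := ker_le M ψ e hker i q hi
    have hq' := map_mem_minimalPrimes M ψ hψ e hker i q hq hi
    obtain ⟨m', ⟨hm'max, hq'm'⟩, hm'uniq⟩ := (hM i).1 _ hq'
    refine ⟨m'.comap (ψ i), ⟨Ideal.comap_isMaximal_of_surjective _ (hψ i), ?_⟩, ?_⟩
    · rw [← comap_map M ψ hψ i q hkq]; exact Ideal.comap_mono hq'm'
    · rintro m₁ ⟨hm₁, hqm₁⟩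
      haveI := hm₁
      have hi₁ : e i ∉ m₁ := by
        intro h
        have : ∑ j, e j ∈ m₁ := Ideal.sum_mem _ fun j _ => by
          by_cases hij : i = j
          · rw [← hij]; exact h
          · exact hqm₁ (mem_of_ne M ψ e h0 hker i j hij q hi)
        rw [hsum] at this
        exact hm₁.ne_top ((Ideal.eq_top_iff_one _).2 this)
      have hk₁ := ker_le M ψ e hker i m₁ hi₁
      have hmax₁ := map_isMaximal M ψ hψ e hker i m₁ hi₁
      have := hm'uniq (m₁.map (ψ i)) ⟨hmax₁, Ideal.map_mono hqm₁⟩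
      rw [← this, comap_map M ψ hψ i m₁ hk₁]
  · intro m hm
    haveI := hm
    obtain ⟨i, hi⟩ := exists_notMem e hsum m hm.ne_top
    have hkm := ker_le M ψ e hker i m hi
    have hm' := map_isMaximal M ψ hψ e hker i m hi
    obtain ⟨q', ⟨hq'min, hq'm'⟩, hq'uniq⟩ := (hM i).2 _ hm'
    refine ⟨q'.comap (ψ i), ⟨comap_mem_minimalPrimes M ψ hψ e h1 hker i q' hq'min, ?_⟩, ?_⟩
    · rw [← comap_map M ψ hψ i m hkm]; exact Ideal.comap_mono hq'm'
    · rintro q₁ ⟨hq₁, hq₁m⟩
      haveI : q₁.IsPrime := hq₁.1.1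
      have hi₁ : e i ∉ q₁ := fun h => hi (hq₁m h)
      have hk₁ := ker_le M ψ e hker i q₁ hi₁
      have := hq'uniq (q₁.map (ψ i))
        ⟨map_mem_minimalPrimes M ψ hψ e hker i q₁ hq₁ hi₁, Ideal.map_mono hq₁m⟩
      rw [← this, comap_map M ψ hψ i q₁ hk₁]

end Decomp

theorem minMaxUnique_of_ringEquiv {R R' : Type u} [CommRing R] [CommRing R'] (e : R ≃+* R')
    (h : MinMaxUnique R') : MinMaxUnique R := by
  refine minMaxUnique_of_idempotents (ι := Unit) (fun _ => R') (fun _ => (e : R →+* R'))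
    (fun _ => e.surjective) (fun _ => 1) (by simp) (fun _ => map_one _) (fun i j hij => ?_)
    (fun _ x hx => ?_) (fun _ => h)
  · exact absurd (Subsingleton.elim i j) hij
  · have : x = 0 := e.injective (by rw [map_zero]; exact hx)
    rw [this, zero_mul]

end Groth.Agent.Lib.MinMaxUniqueH3
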