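import Mathlib
import Groth.Prelude.Def_Brnch
import Groth.Agent.Lib.HensBranches14_helper3
import Groth.Agent.Lib.MinMaxUnique_helper3

/-!
# `A' ⊗_A A^sh`: minimal primes and maximal ideals correspond (helper3)
-/

set_option autoImplicit false
set_option maxSynthPendingDepth 3
universe u

namespace Groth.Agent.Lib.HensBranchesH3

open Polynomial TensorProduct IsLocalRing Groth.Agent.Lib.IndEtaleH3
  Groth.Agent.Lib.MinMaxUniqueH3 Groth.Agent.Lib.Branches

section Domain

attribute [local instance] Algebra.TensorProduct.rightAlgebra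

variable (D : Type u) [CommRing D] [IsDomain D] [IsLocalRing D]
  (S : Type u) [CommRing S] [HenselianLocalRing S] [Algebra D S] [Module.FaithfullyFlat D S]
  [IsLocalHom (algebraMap D S)]

theorem minMaxUnique_T (hie : EtPBC.IsIndEtale D S) :
    MinMaxUnique (integralClosure D (FractionRing D) ⊗[D] S) := by
  constructor
  · intro q hq
    haveI : q.IsPrime := hq.1.1
    obtain ⟨m, hm, hqm⟩ := Ideal.exists_le_maximal q (Ideal.IsPrime.ne_top inferInstance)
    refine ⟨m, ⟨hm, hqm⟩, ?_⟩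
    rintro m₁ ⟨hm₁, hqm₁⟩
    haveI := hm
    haveI := hm₁
    exact maximal_unique_of_prime_le D S q m₁ m hqm₁ hqm
  · intro m hm
    haveI := hm
    obtain ⟨q, hq, hqm⟩ := Ideal.exists_minimalPrimes_le (bot_le : ⊥ ≤ m)
    refine ⟨q, ⟨hq, hqm⟩, ?_⟩
    rintro q₁ ⟨hq₁, hq₁m⟩
    exact minimal_unique_of_le_maximal D S hie q₁ q hq₁ hq m hq₁m hqm

end Domain

section Quot

variable (A : Type u) [CommRing A] [IsLocalRing A]
  (S : Type u) [CommRing S] [HenselianLocalRing S] [Algebra A S] [Module.FaithfullyFlat A S]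
  [IsLocalHom (algebraMap A S)]

theorem minMaxUnique_normRed_quotient_tensor (hie : EtPBC.IsIndEtale A S) (p : Ideal A)
    [p.IsPrime] : MinMaxUnique (CAlg2.normRed (A ⧸ p) ⊗[A] S) := by
  have hJ := map_le_maximalIdeal A S p
  haveI := Groth.Agent.Lib.UnibranchH3.isLocalRing_quotient (p.map (algebraMap A S)) hJ
  haveI : HenselianLocalRing (S ⧸ p.map (algebraMap A S)) := Groth.Agent.S0505.result S _
  haveI : Module.FaithfullyFlat (A ⧸ p) (S ⧸ p.map (algebraMap A S)) := faithfullyFlat_quotient p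
  haveI : IsLocalHom (algebraMap (A ⧸ p) (S ⧸ p.map (algebraMap A S))) :=
    ⟨fun a h => Groth.Agent.Lib.UnibranchH3.isUnit_of_isUnit_algebraMap_of_faithfullyFlat h⟩
  have hie' : EtPBC.IsIndEtale (A ⧸ p) (S ⧸ p.map (algebraMap A S)) := isIndEtale_quotient hie p
  haveI : IsDomain (A ⧸ p) := Ideal.Quotient.isDomain p
  have h1 := minMaxUnique_T (A ⧸ p) (S ⧸ p.map (algebraMap A S)) hie'
  let eN : integralClosure (A ⧸ p) (FractionRing (A ⧸ p)) ≃ₐ[A ⧸ p] CAlg2.normRed (A ⧸ p) :=
    AlgEquiv.ofRingEquiv (f := normRedEquiv (A ⧸ p)) (normRedEquiv_algebraMap (A ⧸ p))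
  let e₁ : integralClosure (A ⧸ p) (FractionRing (A ⧸ p)) ⊗[A ⧸ p] (S ⧸ p.map (algebraMap A S))
      ≃ₐ[A ⧸ p] CAlg2.normRed (A ⧸ p) ⊗[A ⧸ p] (S ⧸ p.map (algebraMap A S)) :=
    Algebra.TensorProduct.congr eN AlgEquiv.refl
  obtain ⟨e₂⟩ := exists_ringEquiv_tensor_quotient p (CAlg2.normRed (A ⧸ p)) S
  exact minMaxUnique_of_ringEquiv (e₂.symm.trans e₁.symm.toRingEquiv) h1

end Quot

section Main

variable (A : Type u) [CommRing A] [IsLocalRing A]
  (S : Type u) [CommRing S] [HenselianLocalRing S] [Algebra A S] [Module.FaithfullyFlat A S]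
  [IsLocalHom (algebraMap A S)]

/-- `Psi` as an `A`-algebra map -/
noncomputable def PsiAlg (q : minimalPrimes (CAlg2.red A)) :
    CAlg2.normRed A →ₐ[A] CAlg2.normRed (A ⧸ primeOf A q) :=
  { Psi A q with
    commutes' := fun a => by
      show Psi A q (algebraMap A (CAlg2.normRed A) a) = _
      rw [Psi_algebraMap]
      rfl }

theorem PsiAlg_apply (q : minimalPrimes (CAlg2.red A)) (x : CAlg2.normRed A) :
    PsiAlg A q x = Psi A q x := rfl

theorem minMaxUnique_normRed_tensor (hfin : (minimalPrimes A).Finite)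
    (hie : EtPBC.IsIndEtale A S) : MinMaxUnique (CAlg2.normRed A ⊗[A] S) := by
  classical
  have hfin' : (minimalPrimes (CAlg2.red A)).Finite := (finite_minimalPrimes_red_iff A).2 hfin
  haveI : Fintype (minimalPrimes (CAlg2.red A)) := hfin'.fintype
  obtain ⟨e, hsum, he1, he0, hker⟩ := exists_idempotents_full (R := CAlg2.red A)
  have hPsi1 : ∀ q, Psi A q (e q) = 1 := fun q => by rw [Psi_apply, he1, map_one]
  have hPsi0 : ∀ q r, q ≠ r → Psi A q (e r) = 0 := fun q r hqr => by
    rw [Psi_apply, he0 q r hqr, map_zero]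
  have hPsiker : ∀ q x, Psi A q x = 0 → x * e q = 0 := by
    intro q x hx
    apply hker
    rw [Psi_apply] at hx
    exact (integralClosureCongr (quotIso A q)).injective (by rw [hx, map_zero])
  refine minMaxUnique_of_idempotents
    (M := fun q : minimalPrimes (CAlg2.red A) => CAlg2.normRed (A ⧸ primeOf A q) ⊗[A] S)
    (fun q => (Algebra.TensorProduct.map (PsiAlg A q) (AlgHom.id A S)).toRingHom)
    (fun q => ?_) (fun q => e q ⊗ₜ[A] (1 : S)) ?_ (fun q => ?_) (fun q r hqr => ?_)
    (fun q x hx => ?_) (fun q => ?_)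
  · exact Algebra.TensorProduct.map_surjective (PsiAlg A q) (AlgHom.id A S)
      (Psi_surjective A hfin q) Function.surjective_id
  · rw [← TensorProduct.sum_tmul, hsum]
    rfl
  · show Algebra.TensorProduct.map (PsiAlg A q) (AlgHom.id A S) (e q ⊗ₜ[A] (1 : S)) = 1
    rw [Algebra.TensorProduct.map_tmul, PsiAlg_apply, hPsi1]
    rfl
  · show Algebra.TensorProduct.map (PsiAlg A q) (AlgHom.id A S) (e r ⊗ₜ[A] (1 : S)) = 0
    rw [Algebra.TensorProduct.map_tmul, PsiAlg_apply, hPsi0 q r hqr, TensorProduct.zero_tmul]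
  · have hx' : x ∈ RingHom.ker (Algebra.TensorProduct.map (PsiAlg A q) (AlgHom.id A S)) := hx
    rw [Algebra.TensorProduct.rTensor_ker (PsiAlg A q) (Psi_surjective A hfin q)] at hx'
    have hle : (RingHom.ker (PsiAlg A q)).map
        (Algebra.TensorProduct.includeLeft : CAlg2.normRed A →ₐ[A] CAlg2.normRed A ⊗[A] S) ≤
        (Ideal.span {e q ⊗ₜ[A] (1 : S)} : Ideal (CAlg2.normRed A ⊗[A] S)).annihilator := by
      rw [Ideal.map_le_iff_le_comap]
      intro k hk
      rw [Ideal.mem_comap, Submodule.mem_annihilator_span_singleton, smul_eq_mul]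
      show (k ⊗ₜ[A] (1 : S)) * (e q ⊗ₜ[A] (1 : S)) = 0
      rw [Algebra.TensorProduct.tmul_mul_tmul, hPsiker q k hk, TensorProduct.zero_tmul]
    have := hle hx'
    rwa [Submodule.mem_annihilator_span_singleton, smul_eq_mul] at this
  · haveI : (primeOf A q).IsPrime := (primeOf_mem A q).1.1
    exact minMaxUnique_normRed_quotient_tensor A S hie (primeOf A q)

end Main

end Groth.Agent.Lib.HensBranchesH3
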