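import Mathlib
import Groth.Prelude.Def_Hensel
import Groth.Agent.Lib.Henselization13_helper3

/-!
# Henselizations of a directed family of local subrings of a henselian local ring (helper3)

If a henselian local ring `A` is the directed union of (images of) local rings `L i` (with local
injective maps `L i → A`), then `A` is the direct limit of the henselizations of the `L i`.
-/

set_option autoImplicit false
set_option maxSynthPendingDepth 3
universe u

namespace Groth.Agent.Lib.HensColimH3

open IsLocalRing Groth.Agent.Lib.HenselizationH3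

section Abstract

/-- Abstract criterion for a ring to be a direct limit. -/
theorem nonempty_ringEquiv_directLimit {ι : Type*} [Preorder ι] [IsDirectedOrder ι] [Nonempty ι]
    (G : ι → Type*) [∀ i, CommRing (G i)] (f : ∀ i j : ι, i ≤ j → (G i →+* G j))
    [DirectedSystem G (fun i j h => f i j h)] (A : Type*) [CommRing A]
    (Φ : ∀ i, G i →+* A) (hΦ : ∀ i j h x, Φ j (f i j h x) = Φ i x)
    (hsurj : ∀ a : A, ∃ i x, Φ i x = a)
    (hinj : ∀ i x, Φ i x = 0 → ∃ j, ∃ h : i ≤ j, f i j h x = 0) :
    Nonempty (A ≃+* DirectLimit G f) := by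
  let Ψ : DirectLimit G f →+* A := DirectLimit.Ring.lift G f A Φ hΦ
  have hΨ : ∀ i x, Ψ (DirectLimit.Ring.of G f i x) = Φ i x := fun i x => rfl
  have hbij : Function.Bijective Ψ := by
    constructor
    · rw [injective_iff_map_eq_zero]
      intro z hz
      induction z using DirectLimit.induction with
      | _ i x =>
        have hz' : Φ i x = 0 := hz
        obtain ⟨j, h, hj⟩ := hinj i x hz'
        have h1 : DirectLimit.Ring.of G f j (f i j h x) = DirectLimit.Ring.of G f i x :=
          DirectLimit.Ring.of_f h x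
        have h2 : (⟦⟨i, x⟩⟧ : DirectLimit G f) = DirectLimit.Ring.of G f i x := rfl
        rw [h2, ← h1, hj, map_zero]
    · intro a
      obtain ⟨i, x, hx⟩ := hsurj a
      exact ⟨DirectLimit.Ring.of G f i x, (hΨ i x).trans hx⟩
  exact ⟨(RingEquiv.ofBijective Ψ hbij).symm⟩

end Abstract

/-- A directed family of local rings mapping injectively and locally into `A` with increasing
images. -/
structure Sys (A : Type u) [CommRing A] [IsLocalRing A] (ι : Type u) [Preorder ι] where
  L : ι → Type u
  [ring : ∀ i, CommRing (L i)]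
  [loc : ∀ i, IsLocalRing (L i)]
  lam : ∀ i, L i →+* A
  inj : ∀ i, Function.Injective (lam i)
  isLocal : ∀ i, IsLocalHom (lam i)
  mono : ∀ i j, i ≤ j → ∀ x : L i, ∃ y : L j, lam j y = lam i x

attribute [instance] Sys.ring Sys.loc

namespace Sys

variable {A : Type u} [CommRing A] [HenselianLocalRing A] {ι : Type u} [Preorder ι]
  (S : Sys A ι)

/-- The transition maps between the local rings. -/
noncomputable def ell (i j : ι) (h : i ≤ j) : S.L i →+* S.L j where
  toFun x := Classical.choose (S.mono i j h x)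
  map_one' := S.inj j (by rw [Classical.choose_spec (S.mono i j h 1), map_one, map_one])
  map_mul' x y := S.inj j (by
    rw [Classical.choose_spec (S.mono i j h (x * y)), map_mul, map_mul,
      Classical.choose_spec (S.mono i j h x), Classical.choose_spec (S.mono i j h y)])
  map_zero' := S.inj j (by rw [Classical.choose_spec (S.mono i j h 0), map_zero, map_zero])
  map_add' x y := S.inj j (by
    rw [Classical.choose_spec (S.mono i j h (x + y)), map_add, map_add,
      Classical.choose_spec (S.mono i j h x), Classical.choose_spec (S.mono i j h y)])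

theorem lam_ell (i j : ι) (h : i ≤ j) (x : S.L i) : S.lam j (S.ell i j h x) = S.lam i x :=
  Classical.choose_spec (S.mono i j h x)

theorem ell_self (i : ι) (x : S.L i) : S.ell i i le_rfl x = x :=
  S.inj i (S.lam_ell i i le_rfl x)

theorem ell_ell (i j k : ι) (hij : i ≤ j) (hjk : j ≤ k) (x : S.L i) :
    S.ell j k hjk (S.ell i j hij x) = S.ell i k (hij.trans hjk) x :=
  S.inj k (by rw [lam_ell, lam_ell, lam_ell])

theorem isLocalHom_ell (i j : ι) (h : i ≤ j) : IsLocalHom (S.ell i j h) := by
  haveI := S.isLocal i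
  refine ⟨fun x hx => ?_⟩
  have h1 : IsUnit (S.lam j (S.ell i j h x)) := hx.map (S.lam j)
  rw [lam_ell] at h1
  exact isUnit_of_map_unit (S.lam i) x h1

/-- The henselizations. -/
abbrev G (i : ι) : Type u := Hens (S.L i)

theorem isLocalHom_toG (i j : ι) (h : i ≤ j) :
    IsLocalHom ((algebraMap (S.L j) (S.G j)).comp (S.ell i j h)) := by
  haveI := S.isLocalHom_ell i j h
  exact RingHom.isLocalHom_comp _ _

/-- Transition maps between the henselizations. -/
noncomputable def gmap (i j : ι) (h : i ≤ j) : S.G i →+* S.G j :=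
  Classical.choose (hens_universal (S.G j)
    ((algebraMap (S.L j) (S.G j)).comp (S.ell i j h)) (S.isLocalHom_toG i j h)).exists

theorem gmap_comp (i j : ι) (h : i ≤ j) :
    (S.gmap i j h).comp (algebraMap (S.L i) (S.G i)) =
      (algebraMap (S.L j) (S.G j)).comp (S.ell i j h) :=
  Classical.choose_spec (hens_universal (S.G j)
    ((algebraMap (S.L j) (S.G j)).comp (S.ell i j h)) (S.isLocalHom_toG i j h)).exists

theorem gmap_algebraMap (i j : ι) (h : i ≤ j) (x : S.L i) :
    S.gmap i j h (algebraMap (S.L i) (S.G i) x) = algebraMap (S.L j) (S.G j) (S.ell i j h x) :=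
  DFunLike.congr_fun (S.gmap_comp i j h) x

/-- Uniqueness of maps out of the henselization. -/
theorem hom_ext_hens {R T : Type u} [CommRing R] [IsLocalRing R] [CommRing T]
    [HenselianLocalRing T] (g₁ g₂ : Hens R →+* T)
    (hloc : IsLocalHom (g₁.comp (algebraMap R (Hens R))))
    (h : g₁.comp (algebraMap R (Hens R)) = g₂.comp (algebraMap R (Hens R))) : g₁ = g₂ :=
  (hens_universal T (g₁.comp (algebraMap R (Hens R))) hloc).unique rfl h.symm

/-- The maps to `A`. -/
noncomputable def Phi (i : ι) : S.G i →+* A :=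
  Classical.choose (hens_universal A (S.lam i) (S.isLocal i)).exists

theorem Phi_comp (i : ι) : (S.Phi i).comp (algebraMap (S.L i) (S.G i)) = S.lam i :=
  Classical.choose_spec (hens_universal A (S.lam i) (S.isLocal i)).exists

theorem Phi_algebraMap (i : ι) (x : S.L i) : S.Phi i (algebraMap (S.L i) (S.G i) x) = S.lam i x :=
  DFunLike.congr_fun (S.Phi_comp i) x

theorem Phi_gmap (i j : ι) (h : i ≤ j) (z : S.G i) : S.Phi j (S.gmap i j h z) = S.Phi i z := by
  have : (S.Phi j).comp (S.gmap i j h) = S.Phi i := by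
    apply hom_ext_hens
    · have : ((S.Phi j).comp (S.gmap i j h)).comp (algebraMap (S.L i) (S.G i)) = S.lam i := by
        ext x
        simp only [RingHom.comp_apply]
        rw [gmap_algebraMap, Phi_algebraMap, lam_ell]
      rw [this]
      exact S.isLocal i
    · ext x
      simp only [RingHom.comp_apply]
      rw [gmap_algebraMap, Phi_algebraMap, lam_ell, Phi_algebraMap]
  exact DFunLike.congr_fun this z

theorem gmap_self (i : ι) (z : S.G i) : S.gmap i i le_rfl z = z := by
  have : S.gmap i i le_rfl = RingHom.id _ := by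
    apply hom_ext_hens
    · rw [gmap_comp]
      exact S.isLocalHom_toG i i le_rfl
    · ext x
      simp only [RingHom.comp_apply, RingHom.id_apply]
      rw [gmap_algebraMap, ell_self]
  exact DFunLike.congr_fun this z

theorem gmap_gmap (i j k : ι) (hij : i ≤ j) (hjk : j ≤ k) (z : S.G i) :
    S.gmap j k hjk (S.gmap i j hij z) = S.gmap i k (hij.trans hjk) z := by
  have : (S.gmap j k hjk).comp (S.gmap i j hij) = S.gmap i k (hij.trans hjk) := by
    apply hom_ext_hens
    · have : ((S.gmap j k hjk).comp (S.gmap i j hij)).comp (algebraMap (S.L i) (S.G i)) =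
          (algebraMap (S.L k) (S.G k)).comp (S.ell i k (hij.trans hjk)) := by
        ext x
        simp only [RingHom.comp_apply]
        rw [gmap_algebraMap, gmap_algebraMap, ell_ell]
      rw [this]
      exact S.isLocalHom_toG i k (hij.trans hjk)
    · ext x
      simp only [RingHom.comp_apply]
      rw [gmap_algebraMap, gmap_algebraMap, ell_ell, gmap_algebraMap]
  exact DFunLike.congr_fun this z

instance directedSystem : DirectedSystem S.G (fun i j h => S.gmap i j h) where
  map_self i z := S.gmap_self i z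
  map_map k j i hij hjk z := S.gmap_gmap i j k hij hjk z

theorem isLocalHom_Phi (i : ι) : IsLocalHom (S.Phi i) := by
  haveI := S.isLocal i
  refine ((local_hom_TFAE (S.Phi i)).out 2 0).mp ?_
  rw [← map_maximalIdeal_hens, Ideal.map_map, Phi_comp]
  exact ((local_hom_TFAE (S.lam i)).out 0 2).mp (S.isLocal i)

theorem isLocalHom_gmap (i j : ι) (h : i ≤ j) : IsLocalHom (S.gmap i j h) := by
  haveI := S.isLocalHom_Phi i
  refine ⟨fun z hz => ?_⟩
  have h1 : IsUnit (S.Phi j (S.gmap i j h z)) := hz.map (S.Phi j)
  rw [Phi_gmap] at h1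
  exact isUnit_of_map_unit (S.Phi i) z h1

/-- Key step for injectivity. -/
theorem exists_gmap_eq_zero
    (hcov : ∀ (i : ι) (n : ℕ) (a : Fin n → A), ∃ j, ∃ _ : i ≤ j, ∀ m, ∃ y : S.L j, S.lam j y = a m)
    (i : ι) (z : S.G i) (hz : S.Phi i z = 0) : ∃ j, ∃ h : i ≤ j, S.gmap i j h z = 0 := by
  obtain ⟨k, c, rfl⟩ := exists_ofC z
  obtain ⟨j, hij, hb⟩ := hcov i k.n
    (fun m => S.Phi i (ofC k (Ideal.Quotient.mk k.J (MvPolynomial.X m))))
  choose b hb using hb
  refine ⟨j, hij, ?_⟩
  haveI := S.isLocal j
  -- the map on the polynomial ring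
  let ψ₀ : MvPolynomial (Fin k.n) (S.L i) →+* S.L j := MvPolynomial.eval₂Hom (S.ell i j hij) b
  have hψ₀ : (S.lam j).comp ψ₀ =
      ((S.Phi i).comp (ofC k).toRingHom).comp (Ideal.Quotient.mk k.J) := by
    apply MvPolynomial.ringHom_ext
    · intro r
      simp only [RingHom.comp_apply, ψ₀, MvPolynomial.coe_eval₂Hom, MvPolynomial.eval₂_C]
      rw [lam_ell]
      have h1 : (ofC k).toRingHom (Ideal.Quotient.mk k.J (MvPolynomial.C r)) =
          algebraMap (S.L i) (S.G i) r := by
        have h2 : Ideal.Quotient.mk k.J (MvPolynomial.C r) = algebraMap (S.L i) k.C r := rfl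
        rw [h2]
        exact (ofC k).commutes r
      rw [h1, Phi_algebraMap]
    · intro m
      simp only [RingHom.comp_apply, ψ₀, MvPolynomial.coe_eval₂Hom, MvPolynomial.eval₂_X]
      exact hb m
  have hker : ∀ p ∈ k.J, ψ₀ p = 0 := by
    intro p hp
    apply S.inj j
    have h1 := DFunLike.congr_fun hψ₀ p
    simp only [RingHom.comp_apply] at h1
    rw [h1, Ideal.Quotient.eq_zero_iff_mem.2 hp, map_zero, map_zero, map_zero]
  let ψ : k.C →+* S.L j := Ideal.Quotient.lift k.J ψ₀ hker
  have hψ : ∀ c : k.C, S.lam j (ψ c) = S.Phi i (ofC k c) := by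
    intro c
    obtain ⟨p, rfl⟩ := Ideal.Quotient.mk_surjective c
    have h1 := DFunLike.congr_fun hψ₀ p
    simp only [RingHom.comp_apply] at h1
    rw [Ideal.Quotient.lift_mk]
    exact h1
  -- extension to the localization
  have hunit : ∀ y : (RingHom.ker k.pt).primeCompl, IsUnit (ψ y) := by
    intro y
    have h1 : ofC k (y : k.C) ∉ maximalIdeal (S.G i) := by
      rw [ofC_mem_maximalIdeal_iff]
      exact y.2
    have h2 : IsUnit (ofC k (y : k.C)) := by
      by_contra hnu
      exact h1 ((mem_maximalIdeal _).2 hnu)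
    have h3 : IsUnit (S.lam j (ψ y)) := by
      rw [hψ]
      exact h2.map (S.Phi i)
    exact isUnit_of_map_unit (S.lam j) _ h3
  let ψ' : k.A →+* S.L j := IsLocalization.lift (M := (RingHom.ker k.pt).primeCompl) hunit
  have hψ' : ∀ c : k.C, ψ' (algebraMap k.C k.A c) = ψ c := fun c => IsLocalization.lift_eq hunit c
  -- two lifts agree
  let F : S.L i →+* S.G j := (algebraMap (S.L j) (S.G j)).comp (S.ell i j hij)
  haveI : IsLocalHom F := S.isLocalHom_toG i j hij
  obtain ⟨u, -, huniq⟩ := existsUnique_lift_idx k (S.G j) F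
  have hu₁ : ((algebraMap (S.L j) (S.G j)).comp ψ') = u := by
    apply huniq
    ext r
    simp only [RingHom.comp_apply, F]
    rw [IsScalarTower.algebraMap_apply (S.L i) k.C k.A, hψ']
    have h2 : algebraMap (S.L i) k.C r = Ideal.Quotient.mk k.J (MvPolynomial.C r) := rfl
    rw [h2, Ideal.Quotient.lift_mk]
    simp only [ψ₀, MvPolynomial.coe_eval₂Hom, MvPolynomial.eval₂_C]
  have hu₂ : ((S.gmap i j hij).comp (ofH k)) = u := by
    apply huniq
    ext r
    simp only [RingHom.comp_apply, F]
    rw [ofH_algebraMap, gmap_algebraMap]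
  have hzero : ψ c = 0 := by
    apply S.inj j
    rw [hψ, hz, map_zero]
  have h1 : S.gmap i j hij (ofC k c) = algebraMap (S.L j) (S.G j) (ψ' (algebraMap k.C k.A c)) := by
    rw [ofC_apply]
    have := DFunLike.congr_fun (hu₂.trans hu₁.symm) (algebraMap k.C k.A c)
    simpa only [RingHom.comp_apply] using this
  rw [h1, hψ', hzero, map_zero]

/-- The henselian local ring `A` is the direct limit of the henselizations. -/
theorem nonempty_ringEquiv [IsDirectedOrder ι] [Nonempty ι]
    (hcov : ∀ (i : ι) (n : ℕ) (a : Fin n → A), ∃ j, ∃ _ : i ≤ j, ∀ m, ∃ y : S.L j, S.lam j y = a m) :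
    Nonempty (A ≃+* DirectLimit S.G (fun i j h => S.gmap i j h)) := by
  refine nonempty_ringEquiv_directLimit S.G (fun i j h => S.gmap i j h) A S.Phi
    (fun i j h x => S.Phi_gmap i j h x) ?_ (fun i z hz => S.exists_gmap_eq_zero hcov i z hz)
  intro a
  obtain ⟨i⟩ := (inferInstance : Nonempty ι)
  obtain ⟨j, -, hy⟩ := hcov i 1 (fun _ => a)
  obtain ⟨y, hy⟩ := hy 0
  exact ⟨j, algebraMap (S.L j) (S.G j) y, (S.Phi_algebraMap j y).trans hy⟩

end Sys

end Groth.Agent.Lib.HensColimH3
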