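import Mathlib
import Groth.Prelude.Def_Hensel
import Groth.Prelude.Def_EGA4b
import Groth.Agent.Lib.HensColim1_helper3
import Groth.Agent.Lib.DedekindExc_lead
import Groth.Agent.Lib.GRingPoly_helper3
import Groth.Agent.Lib.NormalEssFT_helper3
import Groth.Agent.S2045

/-!
# A henselian local ring is a directed colimit of henselian local G-rings (helper3)
-/

set_option autoImplicit false
set_option maxSynthPendingDepth 3
universe u

namespace Groth.Agent.Lib.HensColimH3

open IsLocalRing Groth.Agent.Lib.HenselizationH3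

section ZU

instance isDomain_ulift_int : IsDomain (ULift.{u} ℤ) :=
  (ULift.ringEquiv : ULift.{u} ℤ ≃+* ℤ).toMulEquiv.isDomain ℤ

instance isPrincipalIdealRing_ulift_int : IsPrincipalIdealRing (ULift.{u} ℤ) :=
  IsPrincipalIdealRing.of_surjective (ULift.ringEquiv : ULift.{u} ℤ ≃+* ℤ).symm.toRingHom
    (ULift.ringEquiv : ULift.{u} ℤ ≃+* ℤ).symm.surjective

instance charZero_ulift_int : CharZero (ULift.{u} ℤ) :=
  charZero_of_injective_ringHom (f := (ULift.ringEquiv : ULift.{u} ℤ ≃+* ℤ).symm.toRingHom)
    (ULift.ringEquiv : ULift.{u} ℤ ≃+* ℤ).symm.injective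

theorem isGRing_ulift_int : CAlg.IsGRing (ULift.{u} ℤ) :=
  (Groth.Agent.Lib.DedekindExc.main (ULift.{u} ℤ)).2.2.1

end ZU

section Concrete

attribute [local instance] ULift.algebra'

variable (A : Type u) [CommRing A] [HenselianLocalRing A]

/-- The finitely generated subring generated by a finite set. -/
noncomputable abbrev Sub (T : Finset A) : Subalgebra (ULift.{u} ℤ) A :=
  Algebra.adjoin (ULift.{u} ℤ) (T : Set A)

/-- The contraction of the maximal ideal. -/
noncomputable abbrev pT (T : Finset A) : Ideal (Sub A T) :=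
  (maximalIdeal A).comap (algebraMap (Sub A T) A)

instance (T : Finset A) : (pT A T).IsPrime := Ideal.comap_isPrime _ _

/-- The local ring of the subring. -/
abbrev LT (T : Finset A) : Type u := Localization.AtPrime (pT A T)

theorem isUnit_of_primeCompl (T : Finset A) (y : (pT A T).primeCompl) :
    IsUnit (algebraMap (Sub A T) A y) := by
  by_contra h
  exact y.2 ((mem_maximalIdeal _).2 h)

/-- The map to `A`. -/
noncomputable def lamT (T : Finset A) : LT A T →+* A :=
  IsLocalization.lift (M := (pT A T).primeCompl) (g := algebraMap (Sub A T) A)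
    (isUnit_of_primeCompl A T)

theorem lamT_algebraMap (T : Finset A) (s : Sub A T) :
    lamT A T (algebraMap (Sub A T) (LT A T) s) = (s : A) :=
  IsLocalization.lift_eq (isUnit_of_primeCompl A T) s

theorem lamT_comp (T : Finset A) :
    (lamT A T).comp (algebraMap (Sub A T) (LT A T)) = algebraMap (Sub A T) A :=
  IsLocalization.lift_comp (isUnit_of_primeCompl A T)

theorem lamT_injective (T : Finset A) : Function.Injective (lamT A T) := by
  refine (IsLocalization.lift_injective_iff (isUnit_of_primeCompl A T)).2 (fun x y => ⟨?_, ?_⟩)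
  · intro h
    have h1 := congrArg (lamT A T) h
    rwa [lamT_algebraMap, lamT_algebraMap] at h1
  · intro h
    have : x = y := Subtype.ext h
    rw [this]

theorem isLocalHom_lamT (T : Finset A) : IsLocalHom (lamT A T) := by
  refine ((local_hom_TFAE (lamT A T)).out 2 0).mp ?_
  rw [← Localization.AtPrime.map_eq_maximalIdeal, Ideal.map_map, lamT_comp]
  exact Ideal.map_comap_le

theorem lamT_mk' (T : Finset A) (s : Sub A T) (t : (pT A T).primeCompl) :
    (s : A) = ((t : Sub A T) : A) * lamT A T (IsLocalization.mk' (LT A T) s t) :=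
  (IsLocalization.lift_mk'_spec (isUnit_of_primeCompl A T) s _ t).1 rfl

theorem lamT_mono (T T' : Finset A) (h : T ≤ T') (x : LT A T) :
    ∃ y : LT A T', lamT A T' y = lamT A T x := by
  obtain ⟨s, t, rfl⟩ := IsLocalization.exists_mk'_eq (pT A T).primeCompl x
  have hsub : Sub A T ≤ Sub A T' := Algebra.adjoin_mono (Finset.coe_subset.2 h)
  have ht' : Subalgebra.inclusion hsub (t : Sub A T) ∈ (pT A T').primeCompl := by
    intro hmem
    exact t.2 hmem
  refine ⟨IsLocalization.mk' (LT A T') (Subalgebra.inclusion hsub s)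
    ⟨Subalgebra.inclusion hsub (t : Sub A T), ht'⟩, ?_⟩
  rw [lamT, IsLocalization.lift_mk'_spec]
  exact lamT_mk' A T s t

theorem lamT_cov (T : Finset A) (n : ℕ) (a : Fin n → A) :
    ∃ T' : Finset A, ∃ _ : T ≤ T', ∀ m, ∃ y : LT A T', lamT A T' y = a m := by
  classical
  refine ⟨T ∪ Finset.image a Finset.univ, Finset.subset_union_left, fun m => ?_⟩
  have hmem : a m ∈ Sub A (T ∪ Finset.image a Finset.univ) := by
    apply Algebra.subset_adjoin
    rw [Finset.mem_coe, Finset.mem_union]
    exact Or.inr (Finset.mem_image.2 ⟨m, Finset.mem_univ _, rfl⟩)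
  exact ⟨algebraMap (Sub A (T ∪ Finset.image a Finset.univ))
    (LT A (T ∪ Finset.image a Finset.univ)) ⟨a m, hmem⟩, lamT_algebraMap A _ ⟨a m, hmem⟩⟩

/-- The system of local rings of finitely generated subrings. -/
noncomputable def sysOf : Sys A (Finset A) where
  L := LT A
  lam := lamT A
  inj := lamT_injective A
  isLocal := isLocalHom_lamT A
  mono := lamT_mono A

theorem isGRing_LT (T : Finset A) : CAlg.IsGRing (LT A T) := by
  haveI : Algebra.FiniteType (ULift.{u} ℤ) (Sub A T) :=
    (Subalgebra.fg_iff_finiteType _).1 (Subalgebra.fg_adjoin_finset T)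
  have h1 : CAlg.IsGRing (Sub A T) :=
    Groth.Agent.Lib.GRingPolyH3.main599 (ULift.{u} ℤ) isGRing_ulift_int (Sub A T)
  exact Groth.Agent.Lib.NormalEssFTH3.isGRing_of_isLocalization (pT A T).primeCompl (LT A T) h1

theorem isGRing_hens_LT (T : Finset A) : CAlg.IsGRing (Hens (LT A T)) := by
  have h1 := isGRing_LT A T
  haveI : IsNoetherianRing (LT A T) := h1.1
  haveI : Hensel.IsHenselization (LT A T) (Hens (LT A T)) := isHenselization_hens
  exact Groth.Agent.S2045.result (R := LT A T) (S := Hens (LT A T)) h1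

theorem main9309 :
    ∃ (ι : Type u) (_ : Preorder ι) (_ : IsDirectedOrder ι) (_ : Nonempty ι) (G : ι → Type u)
      (_ : ∀ i, CommRing (G i)) (f : ∀ i j : ι, i ≤ j → (G i →+* G j))
      (_ : DirectedSystem G (fun i j h => f i j h)),
      (∀ i, HenselianLocalRing (G i) ∧ CAlg.IsGRing (G i)) ∧
      (∀ (i j : ι) (h : i ≤ j), IsLocalHom (f i j h)) ∧
      Nonempty (A ≃+* DirectLimit G f) := by
  classical
  refine ⟨Finset A, inferInstance, inferInstance, ⟨∅⟩, (sysOf A).G, fun i => inferInstance,
    fun i j h => (sysOf A).gmap i j h, (sysOf A).directedSystem, ?_, ?_, ?_⟩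
  · intro T
    exact ⟨inferInstance, isGRing_hens_LT A T⟩
  · intro i j h
    exact (sysOf A).isLocalHom_gmap i j h
  · exact (sysOf A).nonempty_ringEquiv (lamT_cov A)

end Concrete

end Groth.Agent.Lib.HensColimH3
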