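import Mathlib

set_option autoImplicit false

/-! Stalks of the inverse image of a sheaf of sets along a continuous map: the canonical map
`H_{f z} ⟶ (f⁻¹H)_z` induced by the unit is bijective; consequences for sections. -/

universe u
open CategoryTheory TopCat TopologicalSpace Opposite Limits

namespace Groth.Agent.Lib.SecClH8

section gen
variable {D : Type*} [Category D]

lemma chainA {A B C' E G' : D} (a : A ⟶ B) (b : B ⟶ C') (c : A ⟶ E) (d : E ⟶ C')
    (e : C' ⟶ G') (g : E ⟶ G') (h1 : a ≫ b = c ≫ d) (h2 : d ≫ e = g) :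
    a ≫ b ≫ e = c ≫ g := by
  rw [← Category.assoc, h1, Category.assoc, h2]

lemma chainB {A B E S M P' : D} (g : A ⟶ B) (cc : B ⟶ E) (fs : E ⟶ M) (et : A ⟶ P')
    (g' : P' ⟶ E) (ph : P' ⟶ S) (ee : S ⟶ M) (ad : A ⟶ S)
    (h4 : g ≫ cc = et ≫ g') (h3 : g' ≫ fs = ph ≫ ee) (h2 : ad = et ≫ ph) :
    ad ≫ ee = g ≫ cc ≫ fs := by
  rw [h2, Category.assoc, ← h3, ← Category.assoc, ← h4, Category.assoc]

end gen

variable {Z Y : TopCat.{u}} (f : Z ⟶ Y) (H : TopCat.Sheaf (Type u) Y)

/-- the adjunction -/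
noncomputable abbrev adj := TopCat.Sheaf.pullbackPushforwardAdjunction (Type u) f

/-- the inverse image -/
noncomputable abbrev P : TopCat.Sheaf (Type u) Z :=
  (TopCat.Sheaf.pullback (Type u) f).obj H

/-- the unit -/
noncomputable abbrev η : H ⟶ (TopCat.Sheaf.pushforward (Type u) f).obj (P f H) :=
  (adj f).unit.app H

/-- the comparison map on stalks -/
noncomputable def c (z₀ : Z) : H.presheaf.stalk (f z₀) ⟶ (P f H).presheaf.stalk z₀ :=
  (TopCat.Presheaf.stalkFunctor (Type u) (f z₀)).map (η f H).hom ≫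
    TopCat.Presheaf.stalkPushforward (Type u) f (P f H).presheaf z₀

lemma c_germ (z₀ : Z) (U : Opens Y) (h : f z₀ ∈ U) :
    H.presheaf.germ U (f z₀) h ≫ c f H z₀ =
      (η f H).hom.app (op U) ≫ (P f H).presheaf.germ ((Opens.map f).obj U) z₀ h := by
  have h1 := TopCat.Presheaf.stalkFunctor_map_germ U (f z₀) h (η f H).hom
  have h2 := TopCat.Presheaf.stalkPushforward_germ (Type u) f (P f H).presheaf U z₀ h
  exact chainA _ _ _ _ _ _ h1 h2

open Classical in
/-- the adjunct of a morphism to a skyscraper sheaf, as a morphism to a skyscraper presheaf -/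
noncomputable def adjSky (z₀ : Z) (M : (Type u)) (φ : P f H ⟶ skyscraperSheaf z₀ M) :
    H.presheaf ⟶ skyscraperPresheaf (f z₀) M :=
  ((adj f).homEquiv H (skyscraperSheaf z₀ M) φ).hom

open Classical in
lemma fromStalk_adjSky (z₀ : Z) (M : (Type u)) (φ : P f H ⟶ skyscraperSheaf z₀ M) :
    StalkSkyscraperPresheafAdjunctionAuxs.fromStalk (f z₀) (adjSky f H z₀ M φ) =
      c f H z₀ ≫ StalkSkyscraperPresheafAdjunctionAuxs.fromStalk z₀ φ.hom := by
  refine TopCat.Presheaf.stalk_hom_ext _ (fun U hU => ?_)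
  rw [StalkSkyscraperPresheafAdjunctionAuxs.germ_fromStalk]
  have h1 : (adj f).homEquiv H (skyscraperSheaf z₀ M) φ =
      η f H ≫ (TopCat.Sheaf.pushforward (Type u) f).map φ :=
    (adj f).homEquiv_unit _ _ _
  have h2 : (adjSky f H z₀ M φ).app (op U) =
      (η f H).hom.app (op U) ≫ φ.hom.app (op ((Opens.map f).obj U)) := by
    unfold adjSky
    rw [h1]
    rfl
  have h3 := StalkSkyscraperPresheafAdjunctionAuxs.germ_fromStalk z₀ φ.hom
    ((Opens.map f).obj U) hU
  have h4 := c_germ f H z₀ U hU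
  exact chainB _ _ _ _ _ _ _ _ h4 h3 h2

open Classical in
lemma exists_retraction (z₀ : Z) :
    ∃ r : (P f H).presheaf.stalk z₀ ⟶ H.presheaf.stalk (f z₀), c f H z₀ ≫ r = 𝟙 _ := by
  let M : (Type u) := H.presheaf.stalk (f z₀)
  let g : H ⟶ (TopCat.Sheaf.pushforward (Type u) f).obj (skyscraperSheaf z₀ M) :=
    ⟨StalkSkyscraperPresheafAdjunctionAuxs.toSkyscraperPresheaf (f z₀) (𝟙 M)⟩
  let φ : P f H ⟶ skyscraperSheaf z₀ M := ((adj f).homEquiv H (skyscraperSheaf z₀ M)).symm g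
  refine ⟨StalkSkyscraperPresheafAdjunctionAuxs.fromStalk z₀ φ.hom, ?_⟩
  rw [← fromStalk_adjSky]
  have h1 : adjSky f H z₀ M φ =
      StalkSkyscraperPresheafAdjunctionAuxs.toSkyscraperPresheaf (f z₀) (𝟙 M) := by
    unfold adjSky
    rw [Equiv.apply_symm_apply]
  rw [h1]
  exact StalkSkyscraperPresheafAdjunctionAuxs.fromStalk_to_skyscraper _ _

open Classical in
lemma c_epi (z₀ : Z) : Epi (c f H z₀) := ⟨fun {M} r₁ r₂ h => by
  let φ₁ : P f H ⟶ skyscraperSheaf z₀ M :=
    ⟨StalkSkyscraperPresheafAdjunctionAuxs.toSkyscraperPresheaf z₀ r₁⟩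
  let φ₂ : P f H ⟶ skyscraperSheaf z₀ M :=
    ⟨StalkSkyscraperPresheafAdjunctionAuxs.toSkyscraperPresheaf z₀ r₂⟩
  have e : ∀ r : (P f H).presheaf.stalk z₀ ⟶ M,
      StalkSkyscraperPresheafAdjunctionAuxs.fromStalk z₀
        (StalkSkyscraperPresheafAdjunctionAuxs.toSkyscraperPresheaf z₀ r) = r :=
    fun r => StalkSkyscraperPresheafAdjunctionAuxs.fromStalk_to_skyscraper z₀ r
  have h1 : StalkSkyscraperPresheafAdjunctionAuxs.fromStalk (f z₀) (adjSky f H z₀ M φ₁) =
      StalkSkyscraperPresheafAdjunctionAuxs.fromStalk (f z₀) (adjSky f H z₀ M φ₂) := by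
    rw [fromStalk_adjSky, fromStalk_adjSky]
    show c f H z₀ ≫ StalkSkyscraperPresheafAdjunctionAuxs.fromStalk z₀
        (StalkSkyscraperPresheafAdjunctionAuxs.toSkyscraperPresheaf z₀ r₁) =
      c f H z₀ ≫ StalkSkyscraperPresheafAdjunctionAuxs.fromStalk z₀
        (StalkSkyscraperPresheafAdjunctionAuxs.toSkyscraperPresheaf z₀ r₂)
    rw [e, e, h]
  have h2 : adjSky f H z₀ M φ₁ = adjSky f H z₀ M φ₂ := by
    rw [← StalkSkyscraperPresheafAdjunctionAuxs.to_skyscraper_fromStalk (f z₀)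
      (adjSky f H z₀ M φ₁), h1,
      StalkSkyscraperPresheafAdjunctionAuxs.to_skyscraper_fromStalk]
  have h3 : φ₁ = φ₂ := by
    apply ((adj f).homEquiv H (skyscraperSheaf z₀ M)).injective
    exact ObjectProperty.hom_ext _ h2
  have h4 : StalkSkyscraperPresheafAdjunctionAuxs.toSkyscraperPresheaf z₀ r₁ =
      StalkSkyscraperPresheafAdjunctionAuxs.toSkyscraperPresheaf z₀ r₂ :=
    congrArg (fun q => q.hom) h3
  rw [← e r₁, h4, e r₂]⟩

lemma c_bijective (z₀ : Z) : Function.Bijective (c f H z₀) := by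
  constructor
  · obtain ⟨r, hr⟩ := exists_retraction f H z₀
    intro x y hxy
    have hx := ConcreteCategory.congr_hom hr x
    have hy := ConcreteCategory.congr_hom hr y
    rw [ConcreteCategory.comp_apply] at hx hy
    rw [hxy] at hx
    have h3 := hx.symm.trans hy
    rw [ConcreteCategory.id_apply, ConcreteCategory.id_apply] at h3
    exact h3
  · exact (CategoryTheory.epi_iff_surjective _).1 (c_epi f H z₀)

lemma c_germ_apply (z₀ : Z) (U : Opens Y) (h : f z₀ ∈ U) (s : H.obj.obj (op U)) :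
    c f H z₀ (H.presheaf.germ U (f z₀) h s) =
      (P f H).presheaf.germ ((Opens.map f).obj U) z₀ h ((η f H).hom.app (op U) s) := by
  have := ConcreteCategory.congr_hom (c_germ f H z₀ U h) s
  rw [ConcreteCategory.comp_apply, ConcreteCategory.comp_apply] at this
  exact this

/-- sections of the inverse image are locally images under the unit -/
theorem unit_surj (W : Opens Z) (t : (P f H).obj.obj (op W)) (z : Z) (hz : z ∈ W) :
    ∃ (U : Opens Y) (_ : f z ∈ U) (s : H.obj.obj (op U)) (W' : Opens Z) (_ : z ∈ W')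
      (h1 : W' ≤ W) (h2 : W' ≤ (Opens.map f).obj U),
      (P f H).obj.map (homOfLE h2).op ((η f H).hom.app (op U) s) =
        (P f H).obj.map (homOfLE h1).op t := by
  obtain ⟨σ, hσ⟩ := (c_bijective f H z).2 ((P f H).presheaf.germ W z hz t)
  obtain ⟨U, hU, s, rfl⟩ := TopCat.Presheaf.exists_germ_eq H.presheaf σ
  rw [c_germ_apply] at hσ
  obtain ⟨W', hzW', iU, iV, e⟩ := TopCat.Presheaf.germ_eq _ z hU hz _ _ hσ
  exact ⟨U, hU, s, W', hzW', iV.le, iU.le, e⟩

/-- the unit is injective on germs -/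
theorem unit_inj (U : Opens Y) (s₁ s₂ : H.obj.obj (op U)) (z : Z) (hz : f z ∈ U)
    (W' : Opens Z) (hzW : z ∈ W') (h2 : W' ≤ (Opens.map f).obj U)
    (e : (P f H).obj.map (homOfLE h2).op ((η f H).hom.app (op U) s₁) =
      (P f H).obj.map (homOfLE h2).op ((η f H).hom.app (op U) s₂)) :
    ∃ (U' : Opens Y) (_ : f z ∈ U') (h : U' ≤ U),
      H.obj.map (homOfLE h).op s₁ = H.obj.map (homOfLE h).op s₂ := by
  have h1 : (P f H).presheaf.germ ((Opens.map f).obj U) z hz ((η f H).hom.app (op U) s₁) =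
      (P f H).presheaf.germ ((Opens.map f).obj U) z hz ((η f H).hom.app (op U) s₂) := by
    have a1 := TopCat.Presheaf.germ_res_apply (P f H).presheaf (homOfLE h2) z hzW
      ((η f H).hom.app (op U) s₁)
    have a2 := TopCat.Presheaf.germ_res_apply (P f H).presheaf (homOfLE h2) z hzW
      ((η f H).hom.app (op U) s₂)
    exact a1.symm.trans ((congrArg _ e).trans a2)
  rw [← c_germ_apply, ← c_germ_apply] at h1
  have h3 := (c_bijective f H z).1 h1
  obtain ⟨U', hzU', iU, iV, e'⟩ := TopCat.Presheaf.germ_eq _ (f z) hz hz _ _ h3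
  refine ⟨U', hzU', iU.le, ?_⟩
  have : iV = iU := Subsingleton.elim _ _
  rw [this] at e'
  exact e'

end Groth.Agent.Lib.SecClH8
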