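import Mathlib
import Groth.Agent.Lib.ProOpen1_helper2

/-!
# Separation of generization sets in a spectral space (helper8)

`genSet E` = generizations of points of `E`. For compact `K, K'` in a spectral space and an open
`O ⊇ genSet K ∩ genSet K'`, there are quasi-compact opens `A ⊇ K`, `B ⊇ K'` with `A ∩ B ⊆ O`.
APPEND-ONLY once landed.
-/

set_option autoImplicit false
open TopologicalSpace Topology

namespace Groth.Agent.Lib.SecClH8

variable {X : Type*} [TopologicalSpace X]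

/-- generizations of points of `E` -/
def genSet (E : Set X) : Set X := {x | ∃ e ∈ E, e ∈ closure {x}}

/-- quasi-compact open neighbourhoods of `E` -/
def nbE (E : Set X) : Set (Opens X) := {U | E ⊆ (U : Set X) ∧ IsCompact (U : Set X)}

lemma mem_genSet_of_forall [PrespectralSpace X] {E : Set X} (hE : IsCompact E) (x : X)
    (h : ∀ U ∈ nbE E, x ∈ U) : x ∈ genSet E := by
  by_contra hx
  have hsub : E ⊆ (closure {x})ᶜ := by
    intro e he hec
    exact hx ⟨e, he, hec⟩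
  obtain ⟨W, hWc, hWo, hEW, hWU⟩ :=
    PrespectralSpace.exists_isCompact_and_isOpen_between hE isClosed_closure.isOpen_compl hsub
  have := h ⟨W, hWo⟩ ⟨hEW, hWc⟩
  exact hWU this (subset_closure rfl)

variable [CompactSpace X] [QuasiSober X] [PrespectralSpace X] [QuasiSeparatedSpace X]

theorem exists_nbE_inter_le {K K' : Set X} (hK : IsCompact K) (hK' : IsCompact K')
    (O : Opens X) (hO : genSet K ∩ genSet K' ⊆ (O : Set X)) :
    ∃ A ∈ nbE K, ∃ B ∈ nbE K', A ⊓ B ≤ O := by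
  let 𝒰 : Set (Opens X) := {W | ∃ A ∈ nbE K, ∃ B ∈ nbE K', W = A ⊓ B}
  have hne : 𝒰.Nonempty :=
    ⟨⊤ ⊓ ⊤, ⊤, ⟨Set.subset_univ _, isCompact_univ⟩, ⊤, ⟨Set.subset_univ _, isCompact_univ⟩, rfl⟩
  have hcpt : ∀ U ∈ 𝒰, IsCompact (U : Set X) := by
    rintro U ⟨A, hA, B, hB, rfl⟩
    exact QuasiSeparatedSpace.inter_isCompact _ _ A.isOpen hA.2 B.isOpen hB.2
  have hdir : ∀ U ∈ 𝒰, ∀ U' ∈ 𝒰, ∃ U'' ∈ 𝒰, U'' ≤ U ⊓ U' := by
    rintro U ⟨A, hA, B, hB, rfl⟩ U' ⟨A', hA', B', hB', rfl⟩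
    refine ⟨(A ⊓ A') ⊓ (B ⊓ B'), ⟨A ⊓ A', ⟨Set.subset_inter hA.1 hA'.1,
      QuasiSeparatedSpace.inter_isCompact _ _ A.isOpen hA.2 A'.isOpen hA'.2⟩, B ⊓ B',
      ⟨Set.subset_inter hB.1 hB'.1,
        QuasiSeparatedSpace.inter_isCompact _ _ B.isOpen hB.2 B'.isOpen hB'.2⟩, rfl⟩, ?_⟩
    intro x hx
    exact ⟨⟨hx.1.1, hx.2.1⟩, ⟨hx.1.2, hx.2.2⟩⟩
  obtain ⟨U, ⟨A, hA, B, hB, rfl⟩, hU⟩ :=
    Groth.Agent.Lib.ProOpenH2.exists_le_of_subset 𝒰 hne hcpt hdir O (by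
      intro x hx
      apply hO
      constructor
      · apply mem_genSet_of_forall hK
        intro A hA
        exact (hx (A ⊓ ⊤) ⟨A, hA, ⊤, ⟨Set.subset_univ _, isCompact_univ⟩, rfl⟩).1
      · apply mem_genSet_of_forall hK'
        intro B hB
        exact (hx (⊤ ⊓ B) ⟨⊤, ⟨Set.subset_univ _, isCompact_univ⟩, B, hB, rfl⟩).2)
  exact ⟨A, hA, B, hB, hU⟩

end Groth.Agent.Lib.SecClH8
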