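import Mathlib
import Groth.Agent.Lib.SecCl1_helper8
import Groth.Agent.Lib.SecCl2_helper8

/-!
# Sections over a closed subset of a spectral space (helper8)
APPEND-ONLY once landed.
-/

set_option autoImplicit false
universe u
open CategoryTheory TopCat TopologicalSpace Opposite Limits

namespace Groth.Agent.Lib.SecClH8

section general
variable {Z' Y : TopCat.{u}} (f : Z' ⟶ Y) (H : TopCat.Sheaf (Type u) Y)

lemma map_map {T : TopCat.{u}} (G : (Opens T)ᵒᵖ ⥤ Type u) {W₁ W₂ W₃ : Opens T}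
    (a : W₁ ⟶ W₂) (b : W₂ ⟶ W₃) (c : W₁ ⟶ W₃) (t : G.obj (op W₃)) :
    G.map a.op (G.map b.op t) = G.map c.op t := by
  rw [← Functor.map_comp_apply]
  congr 1

/-- naturality of the unit -/
lemma η_res {U' U : Opens Y} (h : U' ≤ U) (s : H.obj.obj (op U)) :
    (η f H).hom.app (op U') (H.obj.map (homOfLE h).op s) =
      (P f H).obj.map (homOfLE ((Opens.map f).monotone h)).op ((η f H).hom.app (op U) s) := by
  have := ConcreteCategory.congr_hom ((η f H).hom.naturality (homOfLE h).op) s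
  rw [ConcreteCategory.comp_apply, ConcreteCategory.comp_apply] at this
  exact this

/-- `s ∈ H(U)` represents `t` on `f⁻¹ U` -/
def Rep (W₀ : Opens Z') (t : (P f H).obj.obj (op W₀)) (U : Opens Y) (s : H.obj.obj (op U)) :
    Prop :=
  ∃ h : (Opens.map f).obj U ≤ W₀,
    (η f H).hom.app (op U) s = (P f H).obj.map (homOfLE h).op t

variable {f H}

lemma Rep.res {W₀ : Opens Z'} {t : (P f H).obj.obj (op W₀)} {U : Opens Y}
    {s : H.obj.obj (op U)} (hr : Rep f H W₀ t U s) {U' : Opens Y} (h : U' ≤ U) :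
    Rep f H W₀ t U' (H.obj.map (homOfLE h).op s) := by
  obtain ⟨h0, e⟩ := hr
  refine ⟨((Opens.map f).monotone h).trans h0, ?_⟩
  rw [η_res, e]
  exact map_map _ _ _ _ _

lemma Rep.germ_eq {W₀ : Opens Z'} {t : (P f H).obj.obj (op W₀)} {U₁ U₂ : Opens Y}
    {s₁ : H.obj.obj (op U₁)} {s₂ : H.obj.obj (op U₂)}
    (h₁ : Rep f H W₀ t U₁ s₁) (h₂ : Rep f H W₀ t U₂ s₂) (z : Z') (hz₁ : f z ∈ U₁)
    (hz₂ : f z ∈ U₂) :
    H.presheaf.germ U₁ (f z) hz₁ s₁ = H.presheaf.germ U₂ (f z) hz₂ s₂ := by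
  obtain ⟨h01, e1⟩ := h₁
  obtain ⟨h02, e2⟩ := h₂
  apply (c_bijective f H z).1
  rw [c_germ_apply, c_germ_apply, e1, e2]
  have a1 := TopCat.Presheaf.germ_res_apply (P f H).presheaf (homOfLE h01) z hz₁ t
  have a2 := TopCat.Presheaf.germ_res_apply (P f H).presheaf (homOfLE h02) z hz₂ t
  exact a1.trans a2.symm

lemma Rep.germ_eq_of_mem_closure {W₀ : Opens Z'} {t : (P f H).obj.obj (op W₀)} {U₁ U₂ : Opens Y}
    {s₁ : H.obj.obj (op U₁)} {s₂ : H.obj.obj (op U₂)}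
    (h₁ : Rep f H W₀ t U₁ s₁) (h₂ : Rep f H W₀ t U₂ s₂) (z : Z') (hz₁ : f z ∈ U₁)
    (hz₂ : f z ∈ U₂) (y : Y) (hy : f z ∈ closure {y}) (hy₁ : y ∈ U₁) (hy₂ : y ∈ U₂) :
    H.presheaf.germ U₁ y hy₁ s₁ = H.presheaf.germ U₂ y hy₂ s₂ := by
  have h := h₁.germ_eq h₂ z hz₁ hz₂
  have hs : y ⤳ f z := specializes_iff_mem_closure.2 hy
  have b1 := ConcreteCategory.congr_hom (TopCat.Presheaf.germ_stalkSpecializes H.presheaf hz₁ hs) s₁
  have b2 := ConcreteCategory.congr_hom (TopCat.Presheaf.germ_stalkSpecializes H.presheaf hz₂ hs) s₂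
  rw [ConcreteCategory.comp_apply] at b1 b2
  rw [← b1, ← b2, h]

end general

section main
variable {X : TopCat.{u}} (Z : Set X) (F : TopCat.Sheaf (Type u) X)

/-- the inclusion `Z → X` -/
noncomputable abbrev incl : TopCat.of Z ⟶ X :=
  TopCat.ofHom ⟨(Subtype.val : Z → X), continuous_subtype_val⟩

lemma mem_of_mem_closure {x w : X} (hw : w ∈ closure {x}) (O : Opens X) (hwO : w ∈ O) : x ∈ O :=
  (specializes_iff_mem_closure.2 hw).mem_open O.isOpen hwO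

lemma local_rep [PrespectralSpace X] (W₀ : Opens (TopCat.of Z))
    (t : (P (incl Z) F).obj.obj (op W₀)) (z : Z) (hz : z ∈ W₀) :
    ∃ (U : Opens X) (_ : IsCompact (U : Set X)) (_ : z.1 ∈ U) (s : F.obj.obj (op U)),
      Rep (incl Z) F W₀ t U s := by
  obtain ⟨U₀, hzU₀, s₀, W', hzW', h1, h2, e⟩ := unit_surj (incl Z) F W₀ t z hz
  obtain ⟨O, hO, hOW⟩ := isOpen_induced_iff.1 W'.isOpen
  have hzO : z.1 ∈ O := by
    have : z ∈ Subtype.val ⁻¹' O := by rw [hOW]; exact hzW'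
    exact this
  obtain ⟨V, hV, hzV, hVU⟩ := PrespectralSpace.isTopologicalBasis.exists_subset_of_mem_open
    (show z.1 ∈ (U₀ : Set X) ∩ O from ⟨hzU₀, hzO⟩) (U₀.isOpen.inter hO)
  let U : Opens X := ⟨V, hV.1⟩
  have hUU₀ : U ≤ U₀ := fun x hx => (hVU hx).1
  have hUW' : (Opens.map (incl Z)).obj U ≤ W' := by
    intro w hw
    have : w ∈ Subtype.val ⁻¹' O := (hVU hw).2
    rw [hOW] at this
    exact this
  refine ⟨U, hV.2, hzV, F.obj.map (homOfLE hUU₀).op s₀, hUW'.trans h1, ?_⟩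
  rw [η_res]
  have e1 := congrArg ((P (incl Z) F).obj.map (homOfLE hUW').op) e
  exact (map_map _ _ _ _ _).symm.trans (e1.trans (map_map _ _ _ _ _))

lemma map_refl {T : TopCat.{u}} (G : (Opens T)ᵒᵖ ⥤ Type u) {W : Opens T}
    (a : W ⟶ W) (t : G.obj (op W)) : G.map a.op t = t := by
  have : a = 𝟙 W := Subsingleton.elim _ _
  rw [this, op_id, G.map_id]
  rfl

theorem unit_top_injective (hconn : ∀ x : X, IsConnected (Z ∩ closure {x})) :
    Function.Injective ((η (incl Z) F).hom.app (op ⊤)) := by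
  intro s₁ s₂ e
  have h₂ : Rep (incl Z) F ((Opens.map (incl Z)).obj ⊤) ((η (incl Z) F).hom.app (op ⊤) s₂) ⊤ s₂ :=
    ⟨le_rfl, (map_refl (P (incl Z) F).obj (homOfLE le_rfl) _).symm⟩
  have h₁ : Rep (incl Z) F ((Opens.map (incl Z)).obj ⊤) ((η (incl Z) F).hom.app (op ⊤) s₂) ⊤ s₁ :=
    ⟨le_rfl, e.trans (map_refl (P (incl Z) F).obj (homOfLE le_rfl) _).symm⟩
  refine TopCat.Presheaf.section_ext F ⊤ s₁ s₂ (fun x hx => ?_)
  obtain ⟨w, hwZ, hwx⟩ := (hconn x).nonempty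
  exact h₁.germ_eq_of_mem_closure h₂ ⟨w, hwZ⟩ trivial trivial x hwx hx hx

/-- germs of local representatives agree at `x` as soon as both opens meet `Z ∩ closure {x}` -/
lemma germ_eq_of_conn (hconn : ∀ x : X, IsConnected (Z ∩ closure {x}))
    (W₀ : Opens (TopCat.of Z)) (t : (P (incl Z) F).obj.obj (op W₀))
    (U : Z → Opens X) (hzU : ∀ z : Z, z.1 ∈ U z) (s : ∀ z : Z, F.obj.obj (op (U z)))
    (hrep : ∀ z : Z, Rep (incl Z) F W₀ t (U z) (s z))
    (x : X) (z z' : Z) (w w' : X) (hwZ : w ∈ Z) (hwx : w ∈ closure {x}) (hwU : w ∈ U z)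
    (hwZ' : w' ∈ Z) (hwx' : w' ∈ closure {x}) (hwU' : w' ∈ U z') (hx : x ∈ U z) (hx' : x ∈ U z') :
    F.presheaf.germ (U z) x hx (s z) = F.presheaf.germ (U z') x hx' (s z') := by
  let zv : ↥(Z ∩ closure {x}) → Z := fun v => ⟨v.1, v.2.1⟩
  have hxU : ∀ v : ↥(Z ∩ closure {x}), x ∈ U (zv v) := fun v =>
    mem_of_mem_closure v.2.2 (U (zv v)) (hzU (zv v))
  let g : ↥(Z ∩ closure {x}) → F.presheaf.stalk x := fun v =>
    F.presheaf.germ (U (zv v)) x (hxU v) (s (zv v))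
  have hg : IsLocallyConstant g := by
    rw [IsLocallyConstant.iff_exists_open]
    intro v
    refine ⟨Subtype.val ⁻¹' (U (zv v) : Set X), (U (zv v)).isOpen.preimage continuous_subtype_val,
      hzU (zv v), fun v' hv' => ?_⟩
    exact (hrep (zv v')).germ_eq_of_mem_closure (hrep (zv v)) (zv v') (hzU (zv v')) hv' x v'.2.2
      (hxU v') (hxU v)
  haveI : PreconnectedSpace ↥(Z ∩ closure {x}) :=
    Subtype.preconnectedSpace (hconn x).isPreconnected
  have h0 : g ⟨w, hwZ, hwx⟩ = g ⟨w', hwZ', hwx'⟩ := hg.apply_eq_of_preconnectedSpace _ _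
  have h1 : F.presheaf.germ (U z) x hx (s z) = g ⟨w, hwZ, hwx⟩ :=
    (hrep z).germ_eq_of_mem_closure (hrep _) ⟨w, hwZ⟩ hwU (hzU _) x hwx hx (hxU _)
  have h2 : F.presheaf.germ (U z') x hx' (s z') = g ⟨w', hwZ', hwx'⟩ :=
    (hrep z').germ_eq_of_mem_closure (hrep _) ⟨w', hwZ'⟩ hwU' (hzU _) x hwx' hx' (hxU _)
  rw [h1, h2, h0]

theorem unit_top_surjective [SpectralSpace X] (hZ : IsClosed Z)
    (hconn : ∀ x : X, IsConnected (Z ∩ closure {x})) :
    Function.Surjective ((η (incl Z) F).hom.app (op ⊤)) := by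
  classical
  intro t
  -- local representatives
  choose U hUc hzU s hrep using fun z : Z =>
    local_rep Z F ((Opens.map (incl Z)).obj ⊤) t z trivial
  have key := germ_eq_of_conn Z F hconn _ t U hzU s hrep
  -- finite subcover
  obtain ⟨T, hT⟩ := hZ.isCompact.elim_finite_subcover (fun z : Z => (U z : Set X))
    (fun z => (U z).isOpen) (fun w hw => Set.mem_iUnion.2 ⟨⟨w, hw⟩, hzU _⟩)
  have hK : ∀ z : Z, IsCompact (Z ∩ (U z : Set X)) := fun z => (hUc z).inter_left hZ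
  -- the agreement loci
  let E : Z → Z → Opens X := fun z z' =>
    ⟨{x | ∃ (hx : x ∈ U z) (hx' : x ∈ U z'),
      F.presheaf.germ (U z) x hx (s z) = F.presheaf.germ (U z') x hx' (s z')}, by
      rw [isOpen_iff_forall_mem_open]
      rintro x ⟨hx, hx', e⟩
      obtain ⟨W, hxW, iU, iV, e'⟩ := TopCat.Presheaf.germ_eq F.presheaf x hx hx' _ _ e
      refine ⟨W, fun y hy => ⟨iU.le hy, iV.le hy, ?_⟩, W.isOpen, hxW⟩
      exact TopCat.Presheaf.germ_ext F.presheaf W hy iU iV e'⟩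
  have hsub : ∀ z z' : Z, genSet (Z ∩ (U z : Set X)) ∩ genSet (Z ∩ (U z' : Set X)) ⊆
      (E z z' : Set X) := by
    rintro z z' x ⟨⟨w, ⟨hwZ, hwU⟩, hwx⟩, ⟨w', ⟨hwZ', hwU'⟩, hwx'⟩⟩
    exact ⟨mem_of_mem_closure hwx _ hwU, mem_of_mem_closure hwx' _ hwU',
      key x z z' w w' hwZ hwx hwU hwZ' hwx' hwU' _ _⟩
  have hAB : ∀ z z' : Z, ∃ A ∈ nbE (Z ∩ (U z : Set X)), ∃ B ∈ nbE (Z ∩ (U z' : Set X)),
      A ⊓ B ≤ E z z' := fun z z' => exists_nbE_inter_le (hK z) (hK z') (E z z') (hsub z z')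
  choose A hA B hB hABE using hAB
  -- the shrunken opens
  let V : Z → Opens X := fun z =>
    ⟨(U z : Set X) ∩ ⋂ z' ∈ T, ((A z z' : Set X) ∩ (B z' z : Set X)),
      (U z).isOpen.inter (isOpen_biInter_finset (fun z' _ => (A z z').isOpen.inter (B z' z).isOpen))⟩
  have hV1 : ∀ z, V z ≤ U z := fun z x hx => hx.1
  have hV2 : ∀ z (w : X), w ∈ Z → w ∈ U z → w ∈ V z := by
    intro z w hwZ hwU
    refine ⟨hwU, ?_⟩
    simp only [Set.mem_iInter]
    intro z' _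
    exact ⟨(hA z z').1 ⟨hwZ, hwU⟩, (hB z' z).1 ⟨hwZ, hwU⟩⟩
  have hV3 : ∀ z ∈ T, ∀ z' ∈ T, V z ⊓ V z' ≤ E z z' := by
    intro z hz z' hz' x hx
    apply hABE z z'
    have h1 := hx.1.2
    have h2 := hx.2.2
    simp only [Set.mem_iInter] at h1 h2
    exact ⟨(h1 z' hz').1, (h2 z hz).2⟩
  have hcovZ : ∀ w : X, w ∈ Z → ∃ z ∈ T, w ∈ V z := by
    intro w hw
    have := hT hw
    simp only [Set.mem_iUnion] at this
    obtain ⟨z, hzT, hwz⟩ := this
    exact ⟨z, hzT, hV2 z w hw hwz⟩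
  -- gluing
  let I := {z : Z // z ∈ T}
  let Vi : I → Opens X := fun i => V i.1
  let sf : ∀ i : I, F.obj.obj (op (Vi i)) := fun i => F.obj.map (homOfLE (hV1 i.1)).op (s i.1)
  have hcompat : TopCat.Presheaf.IsCompatible F.obj Vi sf := by
    intro i j
    refine TopCat.Presheaf.section_ext F _ _ _ (fun x hx => ?_)
    obtain ⟨hx1, hx2, e⟩ := hV3 i.1 i.2 j.1 j.2 hx
    have a1 := TopCat.Presheaf.germ_res_apply F.presheaf (homOfLE (hV1 i.1)) x hx.1 (s i.1)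
    have a2 := TopCat.Presheaf.germ_res_apply F.presheaf (homOfLE (hV1 j.1)) x hx.2 (s j.1)
    have b1 := TopCat.Presheaf.germ_res_apply F.presheaf (Opens.infLELeft (Vi i) (Vi j)) x hx (sf i)
    have b2 := TopCat.Presheaf.germ_res_apply F.presheaf (Opens.infLERight (Vi i) (Vi j)) x hx (sf j)
    exact b1.trans (a1.trans (e.trans (a2.symm.trans b2.symm)))
  have hcover : (⊤ : Opens X) ≤ iSup Vi := by
    intro x _
    obtain ⟨w, hwZ, hwx⟩ := (hconn x).nonempty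
    obtain ⟨z, hzT, hwV⟩ := hcovZ w hwZ
    exact Opens.mem_iSup.2 ⟨⟨z, hzT⟩, mem_of_mem_closure hwx _ hwV⟩
  obtain ⟨s₀, hs₀, -⟩ := F.existsUnique_gluing' Vi ⊤ (fun i => homOfLE le_top) hcover sf hcompat
  refine ⟨s₀, ?_⟩
  -- check the image
  refine (P (incl Z) F).eq_of_locally_eq' (fun i : I => (Opens.map (incl Z)).obj (Vi i))
    ((Opens.map (incl Z)).obj ⊤) (fun i => homOfLE ((Opens.map (incl Z)).monotone le_top))
    ?_ _ _ (fun i => ?_)
  · intro w _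
    obtain ⟨z, hzT, hwV⟩ := hcovZ w.1 w.2
    exact Opens.mem_iSup.2 ⟨⟨z, hzT⟩, hwV⟩
  · obtain ⟨h, e⟩ := (hrep i.1).res (hV1 i.1)
    have e2 := η_res (incl Z) F (le_top : Vi i ≤ ⊤) s₀
    rw [show F.obj.map (homOfLE (le_top : Vi i ≤ ⊤)).op s₀ = sf i from hs₀ i] at e2
    exact e2.symm.trans e

theorem unit_top_bijective [SpectralSpace X] (hZ : IsClosed Z)
    (hconn : ∀ x : X, IsConnected (Z ∩ closure {x})) :
    Function.Bijective
      (((TopCat.Sheaf.pullbackPushforwardAdjunction (Type u)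
        (TopCat.ofHom ⟨(Subtype.val : Z → X), continuous_subtype_val⟩)).unit.app F).hom.app (op ⊤)) :=
  ⟨unit_top_injective Z F hconn, unit_top_surjective Z F hZ hconn⟩

end main

end Groth.Agent.Lib.SecClH8
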