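import Mathlib
import Groth.Agent.Lib.HensConn3_helper4
import Groth.Agent.S0153

/-!
# Sections of Zariski sheaves on proper schemes over henselian pairs (helper4)
APPEND-ONLY once landed.

* `relLifts_closed_of_isProper`: `RelLifts F (locus I f)` for every closed `F ⊆ X`;
* `isConnected_inter_closure`: `locus I f ∩ closure {x}` is connected;
* `main0168`: `Γ(X, F) → Γ(Z, F|_Z)` is bijective for every sheaf of sets on `X`.
-/

set_option autoImplicit false
set_option linter.unusedVariables false
set_option linter.unusedSectionVars false
set_option linter.style.longLine false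
set_option linter.style.haveILetI false
set_option maxHeartbeats 1600000

universe u

open AlgebraicGeometry CategoryTheory CategoryTheory.Limits TopologicalSpace Opposite Topology

namespace Groth.Agent.Lib.HensConnH4

variable {A : Type u} [CommRing A] (I : Ideal A) [hI : HenselianRing A I]

theorem relLifts_closed_of_isProper {X : Scheme.{u}} (f : X ⟶ Spec (CommRingCat.of A)) [IsProper f]
    (F : Set X) (hF : IsClosed F) : RelLifts F (locus I f) := by
  let Z : TopologicalSpace.Closeds X := ⟨F, hF⟩
  let J := Scheme.IdealSheafData.vanishingIdeal Z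
  have h1 := relLifts_of_isProper I (J.subschemeι ≫ f)
  rw [locus_comp] at h1
  have h2 := (relLifts_range_iff (J.subschemeι.isClosedEmbedding) (locus I f)).mpr h1
  rw [Scheme.IdealSheafData.range_subschemeι] at h2
  have h3 : ((J.support : TopologicalSpace.Closeds X) : Set X) = F :=
    Scheme.IdealSheafData.coe_support_vanishingIdeal Z
  rwa [h3] at h2

theorem range_fst_eq_locus {X : Scheme.{u}} (f : X ⟶ Spec (CommRingCat.of A)) :
    Set.range (pullback.fst f (Spec.map (CommRingCat.ofHom (Ideal.Quotient.mk I)))) =
      locus I f := by
  rw [Scheme.Pullback.range_fst]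
  have h1 : Set.range (Spec.map (CommRingCat.ofHom (Ideal.Quotient.mk I))) =
      (PrimeSpectrum.zeroLocus (I : Set A) : Set (PrimeSpectrum A)) := by
    have h2 := _root_.range_comap_of_surjective (A ⧸ I) (Ideal.Quotient.mk I)
      Ideal.Quotient.mk_surjective
    rw [Ideal.mk_ker] at h2
    exact h2
  rw [h1]
  rfl

theorem isConnected_inter_closure {X : Scheme.{u}} (f : X ⟶ Spec (CommRingCat.of A)) [IsProper f]
    (x : X) : _root_.IsConnected (locus I f ∩ closure {x}) := by
  rw [Set.inter_comm]
  refine ⟨nonempty_inter_locus I HenselianRing.jac f (closure {x}) isClosed_closure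
    ⟨x, subset_closure rfl⟩, ?_⟩
  exact isPreconnected_inter_of_relLifts
    (isIrreducible_singleton.closure.isPreirreducible.isPreconnected) isClosed_closure
    (isClosed_locus I f) (relLifts_closed_of_isProper I f _ isClosed_closure)

theorem main0168 (X : Scheme.{u}) (f : X ⟶ Spec (CommRingCat.of A)) [IsProper f]
    (F : TopCat.Sheaf (Type u) X.carrier) :
    Function.Bijective
      (((TopCat.Sheaf.pullbackPushforwardAdjunction (Type u)
        (TopCat.ofHom ⟨(Subtype.val :
          (Set.range (pullback.fst f (Spec.map (CommRingCat.ofHom (Ideal.Quotient.mk I))))) → X),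
          continuous_subtype_val⟩)).unit.app F).hom.app (op ⊤)) := by
  haveI : CompactSpace X := QuasiCompact.compactSpace_of_compactSpace f
  haveI : QuasiSeparatedSpace X := quasiSeparatedSpace_of_quasiSeparated f
  haveI : SpectralSpace X.carrier := { }
  refine Groth.Agent.S0153.result X.carrier _ ?_ ?_ F
  · rw [range_fst_eq_locus]
    exact isClosed_locus I f
  · intro x
    rw [range_fst_eq_locus]
    exact isConnected_inter_closure I f x

end Groth.Agent.Lib.HensConnH4
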