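import Mathlib
import Groth.Agent.Lib.ZMTFin2_helper7

/-!
# Henselian couples: sections of étale separated schemes (helper4)
APPEND-ONLY once landed.

`HC i`: the couple `(S, S₀)` (with `i : S₀ ⟶ S` a closed immersion) is henselian in the sense that
for every finite `S' ⟶ S` the clopen subsets of `S' ×_S S₀` lift uniquely to clopen subsets of `S'`.

* `eq_empty_of_disjoint`: a closed subset of `S` not meeting `S₀` is empty.
* `section_unique`: sections of an étale separated `S`-scheme are determined by their restriction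
  to `S₀`.
* `isIso_of_isIso_snd`: a finite étale `S`-scheme whose restriction to `S₀` is an isomorphism is an
  isomorphism (Mathlib's `Scheme.Hom.finrank`).
* `exists_section`, `main5036`: sections over `S₀` of an étale separated `S`-scheme extend
  (Zariski's main theorem in helper7's finite form `ZMTFinH7.main0385`).
-/

set_option autoImplicit false
set_option linter.unusedVariables false
set_option linter.unusedSectionVars false
set_option linter.style.longLine false
set_option linter.style.haveILetI false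
set_option maxHeartbeats 1600000

universe u

open CategoryTheory CategoryTheory.Limits AlgebraicGeometry Topology

namespace Groth.Agent.Lib.HensCoupleH4

variable {S S₀ : Scheme.{u}}

/-- the clopen-lifting property of the couple `(S, S₀)` -/
def HC (i : S₀ ⟶ S) : Prop :=
  ∀ (S' : Scheme.{u}) (g : S' ⟶ S), IsFinite g →
    ∀ V : Set ↥(pullback g i), IsClopen V →
      ∃! U : Set ↥S', IsClopen U ∧ (pullback.fst g i).base ⁻¹' U = V

theorem eq_empty_of_disjoint {i : S₀ ⟶ S} (ha : HC i) (C : Set S) (hC : IsClosed C)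
    (hd : Disjoint C (Set.range i)) : C = ∅ := by
  obtain ⟨I, hI⟩ : ∃ I : S.IdealSheafData,
      I = Scheme.IdealSheafData.vanishingIdeal ⟨C, hC⟩ := ⟨_, rfl⟩
  have hrange : Set.range I.subschemeι = C := by
    rw [Scheme.IdealSheafData.range_subschemeι, hI,
      Scheme.IdealSheafData.coe_support_vanishingIdeal]
    rfl
  haveI : IsEmpty ↥(pullback I.subschemeι i) := by
    rw [Scheme.isEmpty_pullback_iff, hrange]
    exact hd
  obtain ⟨U, -, huniq⟩ := ha I.subscheme I.subschemeι inferInstance ∅ isClopen_empty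
  have h1 := huniq ∅ ⟨isClopen_empty, Set.eq_empty_of_isEmpty _⟩
  have h2 := huniq Set.univ ⟨isClopen_univ, Set.eq_empty_of_isEmpty _⟩
  have h3 : (Set.univ : Set I.subscheme) = ∅ := h2.trans h1.symm
  rw [← hrange, ← Set.image_univ, h3, Set.image_empty]

theorem surjective_of_isClopen_range {i : S₀ ⟶ S} (ha : HC i) {E : Scheme.{u}} (e : E ⟶ S)
    (hcl : IsClopen (Set.range e)) (hi : Set.range i ⊆ Set.range e) : Surjective e := by
  have h := eq_empty_of_disjoint ha (Set.range e)ᶜ hcl.compl.isClosed
    (Set.disjoint_left.mpr fun x hx hx' => hx (hi hx'))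
  refine ⟨fun s => ?_⟩
  by_contra hs
  have : s ∈ (Set.range e)ᶜ := hs
  rw [h] at this
  exact this

theorem section_unique {i : S₀ ⟶ S} (ha : HC i) {S' : Scheme.{u}} (g : S' ⟶ S) [Etale g]
    [IsSeparated g] (u u' : S ⟶ S') (hu : u ≫ g = 𝟙 S) (hu' : u' ≫ g = 𝟙 S)
    (h : i ≫ u = i ≫ u') : u = u' := by
  obtain ⟨w, hw⟩ : ∃ w : S ⟶ pullback g g, w = pullback.lift u u' (hu.trans hu'.symm) :=
    ⟨_, rfl⟩
  have hw1 : w ≫ pullback.fst g g = u := by rw [hw]; exact pullback.lift_fst _ _ _
  have hw2 : w ≫ pullback.snd g g = u' := by rw [hw]; exact pullback.lift_snd _ _ _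
  obtain ⟨e, he⟩ : ∃ e : pullback w (pullback.diagonal g) ⟶ S,
      e = pullback.fst w (pullback.diagonal g) := ⟨_, rfl⟩
  haveI : IsOpenImmersion e := by rw [he]; infer_instance
  haveI : IsClosedImmersion e := by
    rw [he]
    exact MorphismProperty.pullback_fst (P := @IsClosedImmersion) _ _ inferInstance
  have hcond : e ≫ w = pullback.snd w (pullback.diagonal g) ≫ pullback.diagonal g := by
    rw [he]; exact pullback.condition
  have h1 : e ≫ u = pullback.snd w (pullback.diagonal g) := by
    rw [← hw1, ← Category.assoc, hcond, Category.assoc, pullback.diagonal_fst, Category.comp_id]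
  have h2 : e ≫ u' = pullback.snd w (pullback.diagonal g) := by
    rw [← hw2, ← Category.assoc, hcond, Category.assoc, pullback.diagonal_snd, Category.comp_id]
  have hsub : Set.range i ⊆ Set.range e := by
    have hcomm : i ≫ w = (i ≫ u) ≫ pullback.diagonal g := by
      apply pullback.hom_ext
      · rw [Category.assoc, hw1, Category.assoc, pullback.diagonal_fst, Category.comp_id]
      · rw [Category.assoc, hw2, Category.assoc, pullback.diagonal_snd, Category.comp_id, h]
    rintro _ ⟨s₀, rfl⟩
    refine ⟨(pullback.lift i (i ≫ u) hcomm : S₀ ⟶ pullback w (pullback.diagonal g)) s₀, ?_⟩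
    rw [← Scheme.Hom.comp_apply, he, pullback.lift_fst]
  haveI : Surjective e := surjective_of_isClopen_range ha e
    ⟨e.isClosedEmbedding.isClosed_range, e.isOpenEmbedding.isOpen_range⟩ hsub
  haveI : IsIso e := (isIso_iff_isOpenImmersion_and_surjective e).mpr ⟨inferInstance, inferInstance⟩
  rw [← cancel_epi e, h1, h2]

theorem isIso_of_isIso_snd {i : S₀ ⟶ S} (ha : HC i) {Y : Scheme.{u}} (ρ : Y ⟶ S) [IsFinite ρ]
    [Etale ρ] (h0 : IsIso (pullback.snd ρ i)) : IsIso ρ := by
  haveI : Flat ρ := inferInstance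
  haveI : LocallyOfFinitePresentation ρ := inferInstance
  rw [Scheme.Hom.isIso_iff_finrank_eq]
  have hlc := Scheme.Hom.isLocallyConstant_finrank ρ
  have hcl : IsClosed ((Scheme.Hom.finrank ρ) ⁻¹' {1})ᶜ := (hlc {1}).isClosed_compl
  have hdis : Disjoint ((Scheme.Hom.finrank ρ) ⁻¹' {1})ᶜ (Set.range i) := by
    rw [Set.disjoint_left]
    rintro _ hx ⟨s₀, rfl⟩
    apply hx
    show Scheme.Hom.finrank ρ (i s₀) = 1
    rw [← Scheme.Hom.finrank_pullback_snd ρ i s₀, Scheme.Hom.finrank_eq_one_of_isIso]
    rfl
  have hemp := eq_empty_of_disjoint ha _ hcl hdis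
  ext s
  by_contra hs
  have : s ∈ ((Scheme.Hom.finrank ρ) ⁻¹' {1})ᶜ := hs
  rw [hemp] at this
  exact this

end Groth.Agent.Lib.HensCoupleH4
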