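import Mathlib
import Groth.Agent.Lib.HensCouple1_helper4

/-!
# Henselian couples: extending sections of étale separated schemes (helper4)
APPEND-ONLY once landed.

* `exists_section`, `main5036`.
-/

set_option autoImplicit false
set_option linter.unusedVariables false
set_option linter.unusedSectionVars false
set_option linter.style.longLine false
set_option linter.style.haveILetI false
set_option maxHeartbeats 1600000

universe u

open CategoryTheory CategoryTheory.Limits AlgebraicGeometry Topology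

namespace Groth.Agent.Lib.HensCoupleH4

variable {S S₀ : Scheme.{u}}

/-- a compact subset of a scheme lies in a quasi-compact open -/
theorem exists_isCompact_opens {X : Scheme.{u}} (K : Set X) (hK : IsCompact K) :
    ∃ W : X.Opens, IsCompact (W : Set X) ∧ K ⊆ W := by
  have hx : ∀ x : X, ∃ U : X.Opens, IsAffineOpen U ∧ x ∈ U := by
    intro x
    obtain ⟨_, ⟨U, hU, rfl⟩, hxU, -⟩ := X.isBasis_affineOpens.exists_subset_of_mem_open
      (Set.mem_univ x) isOpen_univ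
    exact ⟨U, hU, hxU⟩
  choose U hU hxU using hx
  obtain ⟨t, -, ht⟩ := hK.elim_nhds_subcover (fun x => (U x : Set X))
    (fun x _ => (U x).isOpen.mem_nhds (hxU x))
  refine ⟨⨆ x ∈ t, U x, ?_, ?_⟩
  · have : ((⨆ x ∈ t, U x : X.Opens) : Set X) = ⋃ x ∈ t, (U x : Set X) := by
      simp
    rw [this]
    exact t.isCompact_biUnion fun x _ => (hU x).isCompact
  · intro x hx
    have := ht hx
    simpa using this

/-- an unramified morphism is locally quasi-finite (copied from helper7's `AlgSpEtale`) -/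
theorem locallyQuasiFinite_of_unramified' {A B : Scheme.{u}} (g : A ⟶ B) [LocallyOfFiniteType g]
    [FormallyUnramified g] : LocallyQuasiFinite g := by
  constructor
  intro U hU V hV e
  have h1 := LocallyOfFiniteType.finiteType_appLE (f := g) hU hV e
  have h2 := FormallyUnramified.formallyUnramified_appLE (f := g) hU hV e
  algebraize [(g.appLE U V e).hom]
  have : Algebra.EssFiniteType Γ(B, U) Γ(A, V) := inferInstance
  show Algebra.QuasiFinite _ _
  infer_instance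

/-- a section of an étale morphism is an open immersion -/
theorem isOpenImmersion_of_section {P B : Scheme.{u}} (p : P ⟶ B) [Etale p] (s : B ⟶ P)
    (hs : s ≫ p = 𝟙 B) : IsOpenImmersion s := by
  haveI : Etale (s ≫ p) := by rw [hs]; infer_instance
  haveI : Etale s := Etale.of_comp s p
  haveI : Mono (s ≫ p) := by rw [hs]; infer_instance
  haveI : Mono s := mono_of_mono s p
  exact IsOpenImmersion.of_flat_of_mono s

theorem exists_section {i : S₀ ⟶ S} [IsClosedImmersion i] [CompactSpace ↥S]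
    [QuasiSeparatedSpace ↥S] (ha : HC i) {S' : Scheme.{u}} (g : S' ⟶ S) [Etale g] [IsSeparated g]
    (u₀ : S₀ ⟶ pullback g i) (hu₀ : u₀ ≫ pullback.snd g i = 𝟙 S₀) :
    ∃ u : S ⟶ S', u ≫ g = 𝟙 S ∧ i ≫ u = u₀ ≫ pullback.fst g i := by
  obtain ⟨c, hc⟩ : ∃ c : S₀ ⟶ S', c = u₀ ≫ pullback.fst g i := ⟨_, rfl⟩
  have hcg : c ≫ g = i := by
    rw [hc, Category.assoc, pullback.condition, ← Category.assoc, hu₀, Category.id_comp]
  rw [← hc]
  -- a quasi-compact open neighbourhood of the image of `c`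
  haveI : CompactSpace ↥S₀ := QuasiCompact.compactSpace_of_compactSpace i
  obtain ⟨W₀, hW₀c, hW₀⟩ := exists_isCompact_opens (Set.range c) (isCompact_range c.continuous)
  haveI : CompactSpace ↥(W₀ : Scheme.{u}) := isCompact_iff_compactSpace.mp hW₀c
  obtain ⟨g₁, hg₁⟩ : ∃ g₁ : (W₀ : Scheme.{u}) ⟶ S, g₁ = W₀.ι ≫ g := ⟨_, rfl⟩
  haveI : Etale g₁ := by rw [hg₁]; infer_instance
  haveI : IsSeparated g₁ := by rw [hg₁]; infer_instance
  haveI : QuasiCompact g₁ := inferInstance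
  haveI : LocallyQuasiFinite g₁ := locallyQuasiFinite_of_unramified' g₁
  obtain ⟨T, j, π, hj, -, hπ, hfac⟩ := Groth.Agent.Lib.ZMTFinH7.main0385 g₁
  haveI := hj
  haveI := hπ
  -- lift `c` to `W₀`
  obtain ⟨c₁, hc₁⟩ : ∃ c₁ : S₀ ⟶ (W₀ : Scheme.{u}), c₁ ≫ W₀.ι = c :=
    ⟨IsOpenImmersion.lift W₀.ι c (by rw [Scheme.Opens.range_ι]; exact hW₀),
      IsOpenImmersion.lift_fac _ _ _⟩
  have hc₁g : c₁ ≫ g₁ = i := by rw [hg₁, ← Category.assoc, hc₁, hcg]
  have hc₁π : (c₁ ≫ j) ≫ π = i := by rw [Category.assoc, hfac, hc₁g]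
  -- the section of `W₀ ×_S S₀ → S₀` and its image in `T ×_S S₀`
  obtain ⟨σP, hσP⟩ : ∃ σP : S₀ ⟶ pullback g₁ i,
      σP = pullback.lift c₁ (𝟙 S₀) (by rw [hc₁g, Category.id_comp]) := ⟨_, rfl⟩
  have hσP1 : σP ≫ pullback.fst g₁ i = c₁ := by rw [hσP]; exact pullback.lift_fst _ _ _
  have hσP2 : σP ≫ pullback.snd g₁ i = 𝟙 S₀ := by rw [hσP]; exact pullback.lift_snd _ _ _
  haveI : IsOpenImmersion σP := isOpenImmersion_of_section (pullback.snd g₁ i) σP hσP2
  obtain ⟨j₀, hj₀⟩ : ∃ j₀ : pullback g₁ i ⟶ pullback π i,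
      j₀ = pullback.lift (pullback.fst g₁ i ≫ j) (pullback.snd g₁ i)
        (by rw [Category.assoc, hfac, pullback.condition]) := ⟨_, rfl⟩
  have hj₀1 : j₀ ≫ pullback.fst π i = pullback.fst g₁ i ≫ j := by
    rw [hj₀]; exact pullback.lift_fst _ _ _
  have hj₀2 : j₀ ≫ pullback.snd π i = pullback.snd g₁ i := by
    rw [hj₀]; exact pullback.lift_snd _ _ _
  have hsq : IsPullback j₀ (pullback.fst g₁ i) (pullback.fst π i) j := by
    have hs : IsPullback (j₀ ≫ pullback.snd π i) (pullback.fst g₁ i) i (j ≫ π) := by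
      rw [hj₀2, hfac]
      exact (IsPullback.of_hasPullback g₁ i).flip
    exact IsPullback.of_right hs hj₀1 (IsPullback.of_hasPullback π i).flip
  haveI : IsOpenImmersion j₀ :=
    MorphismProperty.of_isPullback (P := @IsOpenImmersion) hsq.flip inferInstance
  obtain ⟨σ, hσ⟩ : ∃ σ : S₀ ⟶ pullback π i, σ = σP ≫ j₀ := ⟨_, rfl⟩
  haveI : IsOpenImmersion σ := by rw [hσ]; infer_instance
  have hσ1 : σ ≫ pullback.fst π i = c₁ ≫ j := by
    rw [hσ, Category.assoc, hj₀1, ← Category.assoc, hσP1]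
  have hσ2 : σ ≫ pullback.snd π i = 𝟙 S₀ := by
    rw [hσ, Category.assoc, hj₀2, hσP2]
  haveI : IsClosedImmersion (σ ≫ pullback.snd π i) := by rw [hσ2]; infer_instance
  haveI : IsClosedImmersion σ := IsClosedImmersion.of_comp σ (pullback.snd π i)
  have hV : IsClopen (Set.range σ) :=
    ⟨σ.isClosedEmbedding.isClosed_range, σ.isOpenEmbedding.isOpen_range⟩
  -- lift the clopen subset
  obtain ⟨U, ⟨hUcl, hUV⟩, -⟩ := ha T π hπ (Set.range σ) hV
  -- points of `U` over `S₀`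
  have hkey : ∀ (t : T) (s₀ : S₀), t ∈ U → π t = i s₀ → t = j (c₁ s₀) := by
    intro t s₀ ht hts
    obtain ⟨z, hz1, hz2⟩ := Scheme.Pullback.exists_preimage_pullback (f := π) (g := i) t s₀ hts
    have hzV : z ∈ (pullback.fst π i).base ⁻¹' U := by
      show (pullback.fst π i) z ∈ U
      rw [hz1]; exact ht
    rw [hUV] at hzV
    obtain ⟨s₁, rfl⟩ := hzV
    have hs : s₁ = s₀ := by
      rw [← hz2, ← Scheme.Hom.comp_apply, hσ2]; rfl
    rw [← hz1, ← Scheme.Hom.comp_apply, hσ1, hs]; rfl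
  -- `U` lies in the image of `j`
  have hUj : U ⊆ Set.range j := by
    have hcl : IsClosed (π '' (U \ Set.range j)) :=
      π.isClosedMap _ (hUcl.isClosed.sdiff j.isOpenEmbedding.isOpen_range)
    have hdis : Disjoint (π '' (U \ Set.range j)) (Set.range i) := by
      rw [Set.disjoint_left]
      rintro _ ⟨t, ⟨htU, htj⟩, rfl⟩ ⟨s₀, hs₀⟩
      exact htj ⟨c₁ s₀, (hkey t s₀ htU hs₀.symm).symm⟩
    have hemp := eq_empty_of_disjoint ha _ hcl hdis
    rw [Set.image_eq_empty] at hemp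
    intro t ht
    by_contra htj
    have : t ∈ U \ Set.range j := ⟨ht, htj⟩
    rw [hemp] at this
    exact this
  -- the open subscheme `Y = j⁻¹ U` of `W₀`, finite étale over `S`
  obtain ⟨Y, hY⟩ : ∃ Y : (W₀ : Scheme.{u}).Opens, Y = j ⁻¹ᵁ ⟨U, hUcl.isOpen⟩ := ⟨_, rfl⟩
  have hYmem : ∀ w : (W₀ : Scheme.{u}), w ∈ Y ↔ j w ∈ U := by
    intro w; rw [hY]; rfl
  obtain ⟨ρ, hρ⟩ : ∃ ρ : (Y : Scheme.{u}) ⟶ S, ρ = Y.ι ≫ g₁ := ⟨_, rfl⟩
  haveI : Etale ρ := by rw [hρ]; infer_instance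
  have hrg : Set.range (Y.ι ≫ j) = U := by
    rw [Scheme.Hom.comp_base, TopCat.coe_comp, Set.range_comp, Scheme.Opens.range_ι]
    ext t
    constructor
    · rintro ⟨w, hw, rfl⟩
      exact (hYmem w).mp hw
    · intro ht
      obtain ⟨w, rfl⟩ := hUj ht
      exact ⟨w, (hYmem w).mpr ht, rfl⟩
  haveI : IsClosedImmersion (Y.ι ≫ j) :=
    IsClosedImmersion.of_isPreimmersion _ (by rw [hrg]; exact hUcl.isClosed)
  haveI : IsFinite ρ := by
    have : ρ = (Y.ι ≫ j) ≫ π := by rw [hρ, Category.assoc, hfac]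
    rw [this]; infer_instance
  -- lift `c₁` to `Y`
  have hc₁Y : ∀ s₀ : S₀, c₁ s₀ ∈ Y := by
    intro s₀
    rw [hYmem]
    have h1 : σ s₀ ∈ (pullback.fst π i).base ⁻¹' U := by rw [hUV]; exact ⟨s₀, rfl⟩
    have h2 : (pullback.fst π i) (σ s₀) = j (c₁ s₀) := by
      rw [← Scheme.Hom.comp_apply, hσ1]; rfl
    rw [← h2]; exact h1
  obtain ⟨cY, hcY⟩ : ∃ cY : S₀ ⟶ (Y : Scheme.{u}), cY ≫ Y.ι = c₁ :=
    ⟨IsOpenImmersion.lift Y.ι c₁ (by
      rw [Scheme.Opens.range_ι]; rintro _ ⟨s₀, rfl⟩; exact hc₁Y s₀),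
      IsOpenImmersion.lift_fac _ _ _⟩
  have hcYρ : cY ≫ ρ = i := by rw [hρ, ← Category.assoc, hcY, hc₁g]
  -- the restriction of `ρ` to `S₀` is an isomorphism
  obtain ⟨τ, hτ⟩ : ∃ τ : S₀ ⟶ pullback ρ i,
      τ = pullback.lift cY (𝟙 S₀) (by rw [hcYρ, Category.id_comp]) := ⟨_, rfl⟩
  have hτ1 : τ ≫ pullback.fst ρ i = cY := by rw [hτ]; exact pullback.lift_fst _ _ _
  have hτ2 : τ ≫ pullback.snd ρ i = 𝟙 S₀ := by rw [hτ]; exact pullback.lift_snd _ _ _
  haveI : IsOpenImmersion τ := isOpenImmersion_of_section (pullback.snd ρ i) τ hτ2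
  haveI : IsClosedImmersion (pullback.fst ρ i) :=
    MorphismProperty.pullback_fst (P := @IsClosedImmersion) _ _ inferInstance
  haveI : Surjective τ := by
    refine ⟨fun z => ?_⟩
    obtain ⟨s₀, hs₀⟩ : ∃ s₀, s₀ = (pullback.snd ρ i) z := ⟨_, rfl⟩
    obtain ⟨y, hy⟩ : ∃ y, y = (pullback.fst ρ i) z := ⟨_, rfl⟩
    refine ⟨s₀, ?_⟩
    apply (pullback.fst ρ i).isClosedEmbedding.injective
    rw [← Scheme.Hom.comp_apply, hτ1, ← hy]
    -- `y = cY s₀`
    have hρy : ρ y = i s₀ := by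
      rw [hy, hs₀, ← Scheme.Hom.comp_apply, ← Scheme.Hom.comp_apply, pullback.condition]
    have hyY : Y.ι y ∈ Y := y.2
    have hyU : j (Y.ι y) ∈ U := (hYmem _).mp hyY
    have hπ' : π (j (Y.ι y)) = i s₀ := by
      rw [← hρy, hρ, ← hfac]; rfl
    have h3 := hkey _ s₀ hyU hπ'
    have h4 : Y.ι y = c₁ s₀ := j.isOpenEmbedding.injective h3
    have h5 : Y.ι y = Y.ι (cY s₀) := by
      rw [h4, ← hcY]; rfl
    exact (Y.ι.isOpenEmbedding.injective h5).symm
  haveI : IsIso τ :=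
    (isIso_iff_isOpenImmersion_and_surjective τ).mpr ⟨inferInstance, inferInstance⟩
  have h0 : IsIso (pullback.snd ρ i) := by
    haveI : IsIso (τ ≫ pullback.snd ρ i) := by rw [hτ2]; infer_instance
    exact IsIso.of_isIso_comp_left τ (pullback.snd ρ i)
  haveI : IsIso ρ := isIso_of_isIso_snd ha ρ h0
  refine ⟨inv ρ ≫ Y.ι ≫ W₀.ι, ?_, ?_⟩
  · rw [Category.assoc, Category.assoc, ← hg₁, ← hρ, IsIso.inv_hom_id]
  · have : i ≫ inv ρ = cY := by
      rw [← hcYρ, Category.assoc, IsIso.hom_inv_id, Category.comp_id]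
    rw [← Category.assoc, this, ← Category.assoc, hcY, hc₁]

/-- **S5036**. -/
theorem main5036 {S S₀ : Scheme.{u}} (i : S₀ ⟶ S) [IsClosedImmersion i]
    [CompactSpace ↥S] [QuasiSeparatedSpace ↥S]
    (ha : ∀ (S' : Scheme.{u}) (g : S' ⟶ S), IsFinite g →
      ∀ V : Set ↥(pullback g i), IsClopen V →
        ∃! U : Set ↥S', IsClopen U ∧ (pullback.fst g i).base ⁻¹' U = V)
    {S' : Scheme.{u}} (g : S' ⟶ S) [Etale g] [IsSeparated g]
    (u₀ : S₀ ⟶ pullback g i) (hu₀ : u₀ ≫ pullback.snd g i = 𝟙 S₀) :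
    ∃! u : S ⟶ S', u ≫ g = 𝟙 S ∧ i ≫ u = u₀ ≫ pullback.fst g i := by
  obtain ⟨u, hu1, hu2⟩ := exists_section (i := i) ha g u₀ hu₀
  refine ⟨u, ⟨hu1, hu2⟩, ?_⟩
  rintro u' ⟨hu'1, hu'2⟩
  exact section_unique (i := i) ha g u' u hu'1 hu1 (hu'2.trans hu2.symm)

end Groth.Agent.Lib.HensCoupleH4
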