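import Mathlib
import Groth.Prelude.Def_Hensel
import Groth.Agent.Lib.Henselization13_helper3
import Groth.Agent.Lib.LimDescFP4_helper7

/-!
# Finitely presented schemes over a henselian local ring descend to a Noetherian henselian
local ring (helper3)
-/

set_option autoImplicit false
set_option maxSynthPendingDepth 3
universe u

open CategoryTheory CategoryTheory.Limits AlgebraicGeometry

namespace Groth.Agent.Lib.HensDescFPH3

open IsLocalRing Groth.Agent.Lib.HenselizationH3 Groth.Agent.Lib.LimDescFPH7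

theorem descendsProp_top : DescendsProp.{u} (⊤ : MorphismProperty Scheme.{u}) := by
  intro I _ _ D c hc _ i₀ _ _ X₀ Y₀ f₀ g₀ _ _ _ _ _ X Y f g qY qX hY hX hP
  refine ⟨i₀, 𝟙 i₀, X₀, Y₀, f₀, g₀, 𝟙 Y₀, 𝟙 X₀, ?_, IsPullback.id_horiz f₀, trivial⟩
  rw [D.map_id]
  exact IsPullback.id_horiz g₀

section Local

variable {B A : Type u} [CommRing B] [CommRing A] [IsLocalRing A] (ι : B →+* A)

/-- The contraction of the maximal ideal. -/
abbrev pB : Ideal B := (maximalIdeal A).comap ι

instance : (pB ι).IsPrime := Ideal.comap_isPrime _ _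

theorem isUnit_of_primeCompl (y : (pB ι).primeCompl) : IsUnit (ι y) := by
  by_contra h
  exact y.2 ((mem_maximalIdeal _).2 h)

/-- The map from the local ring of `B` to `A`. -/
noncomputable def lamB : Localization.AtPrime (pB ι) →+* A :=
  IsLocalization.lift (M := (pB ι).primeCompl) (g := ι) (isUnit_of_primeCompl ι)

theorem lamB_comp : (lamB ι).comp (algebraMap B (Localization.AtPrime (pB ι))) = ι :=
  IsLocalization.lift_comp (isUnit_of_primeCompl ι)

theorem isLocalHom_lamB : IsLocalHom (lamB ι) := by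
  refine ((local_hom_TFAE (lamB ι)).out 2 0).mp ?_
  rw [← Localization.AtPrime.map_eq_maximalIdeal, Ideal.map_map, lamB_comp]
  exact Ideal.map_comap_le

end Local

theorem main5058 (A : Type u) [CommRing A] [HenselianLocalRing A]
    {X : Scheme.{u}} (f : X ⟶ Spec (CommRingCat.of A)) [LocallyOfFinitePresentation f]
    [QuasiCompact f] [QuasiSeparated f] :
    ∃ (A₀ : Type u) (_ : CommRing A₀) (_ : HenselianLocalRing A₀) (_ : IsNoetherianRing A₀)
      (φ : A₀ →+* A) (_ : IsLocalHom φ)
      (X₀ : Scheme.{u}) (f₀ : X₀ ⟶ Spec (CommRingCat.of A₀)) (g : X ⟶ X₀),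
      LocallyOfFiniteType f₀ ∧ QuasiCompact f₀ ∧
        IsPullback g f f₀ (Spec.map (CommRingCat.ofHom φ)) := by
  obtain ⟨B, hfg, X₀, f₀, g, -, hlfp, hqc, hpb⟩ :=
    exists_model_fg (P := ⊤) descendsProp_top A f trivial
  haveI := hlfp
  haveI := hqc
  haveI : Algebra.FiniteType ℤ B := (Subalgebra.fg_iff_finiteType B).1 hfg
  haveI : IsNoetherianRing B := Algebra.FiniteType.isNoetherianRing ℤ B
  let ι : B →+* A := algebraMap B A
  let L := Localization.AtPrime (pB ι)
  haveI : IsNoetherianRing L := IsLocalization.isNoetherianRing (pB ι).primeCompl L inferInstance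
  haveI hloc := isLocalHom_lamB ι
  obtain ⟨φ, hφ, -⟩ := hens_universal A (lamB ι) hloc
  have hφloc : IsLocalHom φ := by
    refine ((local_hom_TFAE φ).out 2 0).mp ?_
    rw [← map_maximalIdeal_hens, Ideal.map_map, hφ]
    exact ((local_hom_TFAE (lamB ι)).out 0 2).mp hloc
  let ψ : B →+* Hens L := (algebraMap L (Hens L)).comp (algebraMap B L)
  have hψ : φ.comp ψ = ι := by
    rw [← RingHom.comp_assoc, hφ, lamB_comp]
  have hψc : CommRingCat.ofHom ψ ≫ CommRingCat.ofHom φ =
      CommRingCat.ofHom (algebraMap B A) := by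
    rw [← CommRingCat.ofHom_comp, hψ]
  have hw : g ≫ f₀ = (f ≫ Spec.map (CommRingCat.ofHom φ)) ≫ Spec.map (CommRingCat.ofHom ψ) := by
    rw [Category.assoc, ← Spec.map_comp, hψc]
    exact hpb.w
  refine ⟨Hens L, inferInstance, inferInstance, inferInstance, φ, hφloc,
    pullback f₀ (Spec.map (CommRingCat.ofHom ψ)), pullback.snd _ _,
    pullback.lift g (f ≫ Spec.map (CommRingCat.ofHom φ)) hw, inferInstance, inferInstance, ?_⟩
  refine IsPullback.of_right ?_ (pullback.lift_snd _ _ _) (IsPullback.of_hasPullback f₀ _)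
  rw [pullback.lift_fst, ← Spec.map_comp, hψc]
  exact hpb

end Groth.Agent.Lib.HensDescFPH3
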