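import Mathlib
import Groth.Agent.Lib.QFCover3_helper3

/-!
# Flatness along `V(IR)` spreads to a principal open neighbourhood (helper3)

`main17593`: if a finitely presented `A`-algebra `R` is flat over `A` at all primes containing `IR`,
there is `g ≡ 1 mod IR` with `R_g` flat over `A`.
-/

set_option autoImplicit false
universe u

namespace Groth.Agent.Lib.HensFlatNbhdH3

open TensorProduct

theorem exists_flat_away (A : Type u) [CommRing A] (I : Ideal A)
    (R : Type u) [CommRing R] [Algebra A R] [Algebra.FinitePresentation A R]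
    (h : ∀ (p : Ideal R) [p.IsPrime], I.map (algebraMap A R) ≤ p →
      Module.Flat A (Localization.AtPrime p)) :
    ∃ g : R, g - 1 ∈ I.map (algebraMap A R) ∧ Module.Flat A (Localization.Away g) := by
  set U : Set (PrimeSpectrum R) :=
    {q | Module.Flat A (LocalizedModule q.asIdeal.primeCompl R)} with hU
  have hopen : IsOpen U := Groth.Agent.S0387.result (R := A) (S := R) (M := R)
  have hVU : ∀ q : PrimeSpectrum R, I.map (algebraMap A R) ≤ q.asIdeal → q ∈ U := by
    intro q hq
    haveI := q.isPrime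
    exact (Groth.Agent.Lib.FlatLocFP1H6.flat_iff_of_isLocalizedModule (A := A)
      q.asIdeal.primeCompl (Algebra.linearMap R (Localization.AtPrime q.asIdeal))).mp
      (h q.asIdeal hq)
  set c : Ideal R := PrimeSpectrum.vanishingIdeal Uᶜ with hc
  have hZ : PrimeSpectrum.zeroLocus (c : Set R) = Uᶜ := by
    rw [hc, PrimeSpectrum.zeroLocus_vanishingIdeal_eq_closure, hopen.isClosed_compl.closure_eq]
  have htop : c ⊔ I.map (algebraMap A R) = ⊤ := by
    by_contra hne
    obtain ⟨m, hm, hle⟩ := Ideal.exists_le_maximal _ hne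
    let q : PrimeSpectrum R := ⟨m, hm.isPrime⟩
    have h1 : q ∈ Uᶜ := by
      rw [← hZ, PrimeSpectrum.mem_zeroLocus]
      exact fun x hx => hle (Ideal.mem_sup_left hx)
    exact h1 (hVU q (le_trans le_sup_right hle))
  obtain ⟨g, hg, i, hi, hgi⟩ := Submodule.mem_sup.mp (htop ▸ (Submodule.mem_top : (1 : R) ∈ ⊤))
  refine ⟨g, ?_, ?_⟩
  · have : g - 1 = -i := by rw [← hgi]; ring
    rw [this]
    exact neg_mem hi
  · refine Groth.Agent.Lib.QFCoverH3.flat_away_of_forall g fun Q hQ => ?_
    by_contra hQU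
    have h1 : Q ∈ PrimeSpectrum.zeroLocus (c : Set R) := by rw [hZ]; exact hQU
    exact hQ (h1 hg)

theorem main17593 (A : Type u) [CommRing A] (I : Ideal A)
    (R : Type u) [CommRing R] [Algebra A R] [Algebra.FinitePresentation A R]
    (h : ∀ (p : Ideal R) [p.IsPrime], I.map (algebraMap A R) ≤ p →
      Module.Flat A (Localization.AtPrime p)) :
    ∃ (R' : Type u) (_ : CommRing R') (_ : Algebra R R') (_ : Algebra A R')
      (_ : IsScalarTower A R R'),
      Algebra.Etale R R' ∧
      Function.Bijective (Ideal.quotientMap ((I.map (algebraMap A R)).map (algebraMap R R'))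
        (algebraMap R R') Ideal.le_comap_map) ∧ Module.Flat A R' := by
  obtain ⟨g, hg, hflat⟩ := exists_flat_away A I R h
  set J : Ideal R := I.map (algebraMap A R) with hJ
  have hpow : ∀ n : ℕ, g ^ n - 1 ∈ J := by
    intro n
    induction n with
    | zero => simp
    | succ n ih =>
      have : g ^ (n + 1) - 1 = g ^ n * (g - 1) + (g ^ n - 1) := by ring
      rw [this]
      exact J.add_mem (J.mul_mem_left _ hg) ih
  refine ⟨Localization.Away g, inferInstance, inferInstance, inferInstance, inferInstance,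
    Algebra.Etale.of_isLocalizationAway g, ⟨?_, ?_⟩, hflat⟩
  · rw [injective_iff_map_eq_zero]
    intro x hx
    obtain ⟨r, rfl⟩ := Ideal.Quotient.mk_surjective x
    rw [Ideal.quotientMap_mk, Ideal.Quotient.eq_zero_iff_mem,
      IsLocalization.mem_map_algebraMap_iff (Submonoid.powers g)] at hx
    obtain ⟨⟨a, s⟩, hx⟩ := hx
    obtain ⟨n, hn⟩ := s.2
    rw [← map_mul, IsLocalization.eq_iff_exists (Submonoid.powers g)] at hx
    obtain ⟨⟨_, m, rfl⟩, hx⟩ := hx
    simp only at hx
    rw [Ideal.Quotient.eq_zero_iff_mem]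
    have hn' : g ^ n = (s : R) := hn
    have h1 : g ^ m * (r * g ^ n) ∈ J := by
      rw [hn', hx]
      exact J.mul_mem_left _ a.2
    have h2 : r = g ^ m * (r * g ^ n) - r * (g ^ (m + n) - 1) := by ring
    rw [h2]
    exact J.sub_mem h1 (J.mul_mem_left _ (hpow _))
  · intro y
    obtain ⟨y, rfl⟩ := Ideal.Quotient.mk_surjective y
    obtain ⟨r, ⟨_, n, rfl⟩, rfl⟩ := IsLocalization.exists_mk'_eq (Submonoid.powers g) y
    refine ⟨Ideal.Quotient.mk J r, ?_⟩
    rw [Ideal.quotientMap_mk, Ideal.Quotient.eq,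
      IsLocalization.mem_map_algebraMap_iff (Submonoid.powers g)]
    refine ⟨⟨⟨r * (g ^ n - 1), J.mul_mem_left _ (hpow n)⟩, ⟨g ^ n, n, rfl⟩⟩, ?_⟩
    simp only
    rw [sub_mul, IsLocalization.mk'_spec, map_mul, map_sub, map_one, map_pow]
    ring

end Groth.Agent.Lib.HensFlatNbhdH3
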