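import Mathlib
import Groth.Agent.Lib.HensFlatNbhd_helper3
import Groth.Agent.Lib.HfpCore_lead
import Groth.Agent.Lib.FlatAtDescent_helper3

/-!
# Flat finitely presented models of a flat henselization (helper3)

* `bijective_away`: for `g ≡ 1 mod J`, `R/J → R_g/JR_g` is bijective.
* `awayAlgebra`, `away_tower`, `away_hens`: if `B` is the henselization of `(R, J)` and `g ≡ 1 mod J`
  then `B` is an `R_g`-algebra and the henselization of `(R_g, JR_g)`.
* `exists_prime_over`: primes containing `J` lift to the henselization.
* `flat_atPrime_of_flat`: descent of flatness along the flat local map `R_p → B_P`.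
* `main17615`.
-/

set_option autoImplicit false
universe u

namespace Groth.Agent.Lib.HensFlatModelH3

open TensorProduct Groth.Agent.Lib Groth.Agent.Lib.EtaleNbhd

section Away

variable {R : Type u} [CommRing R] (J : Ideal R) (g : R)

theorem pow_sub_one_mem (hg : g - 1 ∈ J) (n : ℕ) : g ^ n - 1 ∈ J := by
  induction n with
  | zero => simp
  | succ n ih =>
    have : g ^ (n + 1) - 1 = g ^ n * (g - 1) + (g ^ n - 1) := by ring
    rw [this]
    exact J.add_mem (J.mul_mem_left _ hg) ih

theorem bijective_away (hg : g - 1 ∈ J) :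
    Function.Bijective (Ideal.quotientMap (J.map (algebraMap R (Localization.Away g)))
      (algebraMap R (Localization.Away g)) Ideal.le_comap_map) := by
  have hpow := pow_sub_one_mem J g hg
  refine ⟨?_, ?_⟩
  · rw [injective_iff_map_eq_zero]
    intro x hx
    obtain ⟨r, rfl⟩ := Ideal.Quotient.mk_surjective x
    rw [Ideal.quotientMap_mk, Ideal.Quotient.eq_zero_iff_mem,
      IsLocalization.mem_map_algebraMap_iff (Submonoid.powers g)] at hx
    obtain ⟨⟨a, s⟩, hx⟩ := hx
    obtain ⟨n, hn⟩ := s.2
    rw [← map_mul, IsLocalization.eq_iff_exists (Submonoid.powers g)] at hx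
    obtain ⟨⟨_, m, rfl⟩, hx⟩ := hx
    simp only at hx
    rw [Ideal.Quotient.eq_zero_iff_mem]
    have hn' : g ^ n = (s : R) := hn
    have h1 : g ^ m * (r * g ^ n) ∈ J := by
      rw [hn', hx]
      exact J.mul_mem_left _ a.2
    have h2 : r = g ^ m * (r * g ^ n) - r * (g ^ (m + n) - 1) := by ring
    rw [h2]
    exact J.sub_mem h1 (J.mul_mem_left _ (hpow _))
  · intro y
    obtain ⟨y, rfl⟩ := Ideal.Quotient.mk_surjective y
    obtain ⟨r, ⟨_, n, rfl⟩, rfl⟩ := IsLocalization.exists_mk'_eq (Submonoid.powers g) y
    refine ⟨Ideal.Quotient.mk J r, ?_⟩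
    rw [Ideal.quotientMap_mk, Ideal.Quotient.eq,
      IsLocalization.mem_map_algebraMap_iff (Submonoid.powers g)]
    refine ⟨⟨⟨r * (g ^ n - 1), J.mul_mem_left _ (hpow n)⟩, ⟨g ^ n, n, rfl⟩⟩, ?_⟩
    simp only
    rw [sub_mul, IsLocalization.mk'_spec, map_mul, map_sub, map_one, map_pow]
    ring

end Away

section AwayAlg

variable {R : Type u} [CommRing R] {J : Ideal R} {B : Type u} [CommRing B] [Algebra R B]

theorem isUnit_map (hB : Hens2.IsPairHenselization R J B) (g : R) (hg : g - 1 ∈ J) :
    IsUnit (algebraMap R B g) := by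
  apply Ideal.isUnit_of_sub_one_mem_jacobson_bot
  apply hB.1.jac
  have := Ideal.mem_map_of_mem (algebraMap R B) hg
  rwa [map_sub, map_one] at this

/-- the `R_g`-algebra structure on the henselization of `(R, J)` for `g ≡ 1 mod J` -/
@[reducible] noncomputable def awayAlgebra (hB : Hens2.IsPairHenselization R J B) (g : R)
    (hg : g - 1 ∈ J) : Algebra (Localization.Away g) B :=
  (IsLocalization.Away.lift g (isUnit_map hB g hg)).toAlgebra

theorem away_tower (hB : Hens2.IsPairHenselization R J B) (g : R) (hg : g - 1 ∈ J) :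
    letI := awayAlgebra hB g hg
    IsScalarTower R (Localization.Away g) B := by
  letI := awayAlgebra hB g hg
  refine IsScalarTower.of_algebraMap_eq fun x => ?_
  rw [RingHom.algebraMap_toAlgebra, IsLocalization.Away.lift_eq]

theorem away_hens (hB : Hens2.IsPairHenselization R J B) (g : R) (hg : g - 1 ∈ J) :
    letI := awayAlgebra hB g hg
    Hens2.IsPairHenselization (Localization.Away g)
      (J.map (algebraMap R (Localization.Away g))) B := by
  letI := awayAlgebra hB g hg
  haveI := away_tower hB g hg
  haveI : Algebra.Etale R (Localization.Away g) := Algebra.Etale.of_isLocalizationAway g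
  exact HfpCore.recenter hB (Localization.Away g)
    ((EtaleNbhd.bijective_iff J (Localization.Away g)).1 (bijective_away J g hg)).1

end AwayAlg

section Lift

variable {R : Type u} [CommRing R] {J : Ideal R} {B : Type u} [CommRing B] [Algebra R B]

theorem exists_prime_over (hB : Hens2.IsPairHenselization R J B) (p : Ideal R) [p.IsPrime]
    (hp : J ≤ p) : ∃ (P : Ideal B) (_ : P.IsPrime), P.LiesOver p := by
  have hbij := PairHensQuot.quotientMap_bijective B J hB.1 hB.2
  let e : R ⧸ J ≃+* B ⧸ J.map (algebraMap R B) := RingEquiv.ofBijective _ hbij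
  let ψ : B →+* R ⧸ J := e.symm.toRingHom.comp (Ideal.Quotient.mk _)
  have hψ : ψ.comp (algebraMap R B) = Ideal.Quotient.mk J := by
    ext r
    show e.symm (Ideal.Quotient.mk (J.map (algebraMap R B)) (algebraMap R B r)) =
      Ideal.Quotient.mk J r
    rw [RingEquiv.symm_apply_eq]
    show _ = Ideal.quotientMap (J.map (algebraMap R B)) (algebraMap R B) Ideal.le_comap_map
      (Ideal.Quotient.mk J r)
    rw [Ideal.quotientMap_mk]
  have hprime : (p.map (Ideal.Quotient.mk J)).IsPrime :=
    Ideal.map_isPrime_of_surjective Ideal.Quotient.mk_surjective (by rwa [Ideal.mk_ker])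
  refine ⟨(p.map (Ideal.Quotient.mk J)).comap ψ, Ideal.comap_isPrime _ _, ⟨?_⟩⟩
  rw [Ideal.under_def, Ideal.comap_comap, hψ,
    Ideal.comap_map_of_surjective _ Ideal.Quotient.mk_surjective, ← RingHom.ker_eq_comap_bot,
    Ideal.mk_ker]
  exact (sup_eq_left.2 hp).symm

end Lift

section Descent

variable {A R B : Type u} [CommRing A] [CommRing R] [CommRing B] [Algebra A R] [Algebra R B]
  [Algebra A B] [IsScalarTower A R B]

theorem flat_atPrime_of_flat [Module.Flat R B] [Module.Flat A B]
    (p : Ideal R) [p.IsPrime] (P : Ideal B) [P.IsPrime] [P.LiesOver p] :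
    Module.Flat A (Localization.AtPrime p) := by
  letI := Localization.AtPrime.algebraOfLiesOver p P
  haveI : IsLocalHom (algebraMap (Localization.AtPrime p) (Localization.AtPrime P)) := by
    rw [RingHom.algebraMap_toAlgebra]
    exact Localization.isLocalHom_localRingHom p P (algebraMap R B) Ideal.LiesOver.over
  haveI : Module.FaithfullyFlat (Localization.AtPrime p) (Localization.AtPrime P) :=
    Module.FaithfullyFlat.of_flat_of_isLocalHom
  haveI : Module.Flat A (Localization.AtPrime P) :=
    Module.Flat.trans A B (Localization.AtPrime P)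
  haveI : IsScalarTower A (Localization.AtPrime p) (Localization.AtPrime P) := inferInstance
  have h1 : Module.Flat A
      (Localization.AtPrime P ⊗[Localization.AtPrime p] Localization.AtPrime p) :=
    Module.Flat.of_linearEquiv
      ((TensorProduct.rid (Localization.AtPrime p) (Localization.AtPrime P)).restrictScalars A)
  exact FlatAtDescentH3.flat_of_faithfullyFlat_tensor (R := A) (B := Localization.AtPrime p)
    (B' := Localization.AtPrime P) (Localization.AtPrime p) h1

end Descent

theorem exists_flat_away (A : Type u) [CommRing A] (I : Ideal A)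
    (R₀ : Type u) [CommRing R₀] [Algebra A R₀] [Algebra.FinitePresentation A R₀]
    (B : Type u) [CommRing B] [Algebra R₀ B] [Algebra A B] [IsScalarTower A R₀ B]
    (hB : Hens2.IsPairHenselization R₀ (I.map (algebraMap A R₀)) B) [Module.Flat A B] :
    ∃ g : R₀, g - 1 ∈ I.map (algebraMap A R₀) ∧ Module.Flat A (Localization.Away g) := by
  haveI : Module.Flat R₀ B := EtaleNbhd.flat hB
  refine HensFlatNbhdH3.exists_flat_away A I R₀ fun p _ hp => ?_
  obtain ⟨P, hP, hPp⟩ := exists_prime_over hB p hp
  exact flat_atPrime_of_flat (A := A) p P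

theorem main17615 (A : Type u) [CommRing A] (I : Ideal A)
    (R₀ : Type u) [CommRing R₀] [Algebra A R₀] [Algebra.FinitePresentation A R₀]
    (B : Type u) [CommRing B] [Algebra R₀ B] [Algebra A B] [IsScalarTower A R₀ B]
    (hB : Hens2.IsPairHenselization R₀ (I.map (algebraMap A R₀)) B) [Module.Flat A B] :
    ∃ (S : Type u) (_ : CommRing S) (_ : Algebra A S) (_ : Algebra S B) (_ : IsScalarTower A S B),
      Algebra.FinitePresentation A S ∧ Module.Flat A S ∧
      Hens2.IsPairHenselization S (I.map (algebraMap A S)) B := by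
  obtain ⟨g, hg, hflat⟩ := exists_flat_away A I R₀ B hB
  letI := awayAlgebra hB g hg
  haveI := away_tower hB g hg
  have hh := away_hens hB g hg
  haveI : IsScalarTower A (Localization.Away g) B := by
    refine IsScalarTower.of_algebraMap_eq fun x => ?_
    rw [IsScalarTower.algebraMap_apply A R₀ (Localization.Away g),
      ← IsScalarTower.algebraMap_apply R₀ (Localization.Away g) B,
      ← IsScalarTower.algebraMap_apply A R₀ B]
  haveI : Algebra.FinitePresentation R₀ (Localization.Away g) :=
    IsLocalization.Away.finitePresentation g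
  refine ⟨Localization.Away g, inferInstance, inferInstance, inferInstance, inferInstance,
    Algebra.FinitePresentation.trans A R₀ (Localization.Away g), hflat, ?_⟩
  rw [Ideal.map_map, ← IsScalarTower.algebraMap_eq] at hh
  exact hh

end Groth.Agent.Lib.HensFlatModelH3
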