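import Mathlib
import Groth.Agent.Lib.HensFormalCat_helper9

/-!
# Henselization preserves strict formal catenarity (helper9)

* `isEquidim_of_isStrictlyEquidim`, `ringKrullDim_quot_of_mem_ass`.
* `isFormallyStrictlyCatenary_of_isHenselization` (S5041).
APPEND-ONLY once landed.
-/

set_option autoImplicit false
universe u

namespace Groth.Agent.EquiCat9

open IsLocalRing TensorProduct Groth.Agent.FlatCM

section Strict

theorem isEquidim_of_isStrictlyEquidim {R : Type u} [CommRing R] [IsNoetherianRing R]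
    (h : EGA4.IsStrictlyEquidim R) : EGA4.IsEquidim R := by
  intro p hp
  apply h
  apply Module.associatedPrimes.minimalPrimes_annihilator_subset_associatedPrimes R R
  rw [Module.annihilator_eq_bot.2 inferInstance]
  exact hp

/-- converse of `isStrictlyEquidim_quot` -/
theorem ringKrullDim_quot_of_mem_ass {R : Type u} [CommRing R] [IsNoetherianRing R] (I : Ideal R)
    (h : EGA4.IsStrictlyEquidim (R ⧸ I)) (P : Ideal R) (hP : P ∈ associatedPrimes R (R ⧸ I)) :
    ringKrullDim (R ⧸ P) = ringKrullDim (R ⧸ I) := by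
  obtain ⟨hPp, x, hx⟩ := (isAssociatedPrime_iff).1 hP
  haveI := hPp
  have hIP : I ≤ P := by
    intro r hr
    rw [hx, Submodule.mem_colon_singleton, Submodule.mem_bot, Algebra.smul_def,
      Ideal.Quotient.algebraMap_eq, Ideal.Quotient.eq_zero_iff_mem.2 hr, zero_mul]
  have hcm : (P.map (Ideal.Quotient.mk I)).comap (Ideal.Quotient.mk I) = P := by
    rw [Ideal.comap_map_of_surjective _ Ideal.Quotient.mk_surjective, ← RingHom.ker_eq_comap_bot,
      Ideal.mk_ker, sup_eq_left.2 hIP]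
  haveI : (P.map (Ideal.Quotient.mk I)).IsPrime :=
    Ideal.map_isPrime_of_surjective Ideal.Quotient.mk_surjective (by rw [Ideal.mk_ker]; exact hIP)
  have hQ : P.map (Ideal.Quotient.mk I) ∈ associatedPrimes (R ⧸ I) (R ⧸ I) := by
    refine (isAssociatedPrime_iff).2 ⟨inferInstance, x, ?_⟩
    ext rb
    obtain ⟨r, rfl⟩ := Ideal.Quotient.mk_surjective rb
    rw [Submodule.mem_colon_singleton, Submodule.mem_bot, smul_eq_mul]
    have h1 : Ideal.Quotient.mk I r ∈ P.map (Ideal.Quotient.mk I) ↔ r ∈ P := by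
      rw [← Ideal.mem_comap, hcm]
    rw [h1, hx, Submodule.mem_colon_singleton, Submodule.mem_bot, Algebra.smul_def]
    rfl
  have := h _ hQ
  rw [ringKrullDim_quotQuot, hcm] at this
  exact this

end Strict

section Hens

open Groth.Agent.Lib.HenselizationH3

variable (R : Type u) [CommRing R] [IsLocalRing R] [IsNoetherianRing R]
variable (S : Type u) [CommRing S] [IsLocalRing S] [Algebra R S]
  [IsLocalHom (algebraMap R S)] [Hensel.IsHenselization R S]

/-- `q` is a minimal prime over `(q ∩ R) S` -/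
theorem mem_minimalPrimes_map_comap_of_isHenselization (q : Ideal S) [q.IsPrime] :
    q ∈ ((q.comap (algebraMap R S)).map (algebraMap R S)).minimalPrimes := by
  refine ⟨⟨inferInstance, Ideal.map_comap_le⟩, ?_⟩
  rintro q' ⟨hpr', hle'⟩ hq'q
  haveI := hpr'
  have hc : q'.comap (algebraMap R S) = q.comap (algebraMap R S) :=
    le_antisymm (Ideal.comap_mono hq'q) (Ideal.map_le_iff_le_comap.1 hle')
  exact (prime_eq_of_le_of_isHenselization R S q' q hq'q hc).ge

/-- associated primes of `Ŝ/qŜ` are associated primes of `Ŝ/pŜ` -/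
theorem ass_subset_of_isHenselization [IsNoetherianRing S] [Module.Flat S (EGA4.Cpl S)]
    (q : Ideal S) [q.IsPrime] :
    associatedPrimes (EGA4.Cpl S) (EGA4.Cpl S ⧸ q.map (algebraMap S (EGA4.Cpl S))) ⊆
      associatedPrimes (EGA4.Cpl S) (EGA4.Cpl S ⧸
        ((q.comap (algebraMap R S)).map (algebraMap R S)).map (algebraMap S (EGA4.Cpl S))) := by
  have hI : ∀ I : Ideal (EGA4.Cpl S), (I • (⊤ : Submodule (EGA4.Cpl S) (EGA4.Cpl S))) = I := by
    intro I
    rw [smul_eq_mul, Ideal.mul_top]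
  have hass : ∀ I : Ideal (EGA4.Cpl S),
      associatedPrimes (EGA4.Cpl S)
        (EGA4.Cpl S ⧸ (I • (⊤ : Submodule (EGA4.Cpl S) (EGA4.Cpl S)))) =
      associatedPrimes (EGA4.Cpl S) (EGA4.Cpl S ⧸ I) := fun I =>
    LinearEquiv.AssociatedPrimes.eq (Submodule.quotEquivOfEq _ _ (hI I))
  rw [← hass (q.map (algebraMap S (EGA4.Cpl S))),
    ← hass (((q.comap (algebraMap R S)).map (algebraMap R S)).map (algebraMap S (EGA4.Cpl S))),
    Groth.Agent.AssFlat.associatedPrimes_tensorQuot
    (S := EGA4.Cpl S) (N := EGA4.Cpl S) ((q.comap (algebraMap R S)).map (algebraMap R S)),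
    Groth.Agent.AssFlat.associatedPrimes_tensor]
  intro 𝔓 h𝔓
  simp only [Set.mem_iUnion]
  refine ⟨q, ?_, h𝔓⟩
  apply Module.associatedPrimes.minimalPrimes_annihilator_subset_associatedPrimes S
  rw [Ideal.annihilator_quotient]
  exact mem_minimalPrimes_map_comap_of_isHenselization R S q

/-- **S5041**: the henselization of a strictly formally catenary Noetherian local ring is
strictly formally catenary. -/
theorem isFormallyStrictlyCatenary_of_isHenselization (h : EGA4.IsFormallyStrictlyCatenary R) :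
    EGA4.IsFormallyStrictlyCatenary S := by
  haveI := isNoetherianRing_of_isHenselization R S
  obtain ⟨ε, hε⟩ := exists_cplEquiv_of_isHenselization R S
  obtain ⟨hlocS, hnoethS, hcomplS, hffS, hlhS, hmapS⟩ :=
    Groth.Agent.Lib.AnUnramH3.completion_facts S
  obtain ⟨hlocR, hnoethR, -⟩ := Groth.Agent.Lib.AnUnramH3.completion_facts R
  haveI := hlocS
  haveI := hnoethS
  haveI := hffS
  haveI := hlocR
  haveI := hnoethR
  haveI : Module.Flat S (EGA4.Cpl S) := inferInstance
  intro q hq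
  set p := q.comap (algebraMap R S) with hp
  haveI : p.IsPrime := Ideal.comap_isPrime _ _
  have hRp : EGA4.IsStrictlyEquidim (EGA4.Cpl (R ⧸ p)) := h p
  obtain ⟨e1⟩ := cpl_quot_equiv R p
  obtain ⟨hl1, hn1, -⟩ := Groth.Agent.Lib.AnUnramH3.completion_facts (R ⧸ p)
  haveI := hn1
  have hE1 : EGA4.IsStrictlyEquidim (EGA4.Cpl R ⧸ p.map (algebraMap R (EGA4.Cpl R))) :=
    isStrictlyEquidim_of_ringEquiv e1.symm hRp
  have hmapε : ((p.map (algebraMap R S)).map (algebraMap S (EGA4.Cpl S))) =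
      (p.map (algebraMap R (EGA4.Cpl R))).map (ε : EGA4.Cpl R →+* EGA4.Cpl S) := by
    rw [Ideal.map_map, Ideal.map_map]
    congr 1
    exact RingHom.ext fun r => (hε r).symm
  let e2 : (EGA4.Cpl R ⧸ p.map (algebraMap R (EGA4.Cpl R))) ≃+*
      (EGA4.Cpl S ⧸ (p.map (algebraMap R S)).map (algebraMap S (EGA4.Cpl S))) :=
    Ideal.quotientEquiv _ _ ε hmapε
  have hE2 := isStrictlyEquidim_of_ringEquiv e2 hE1
  have hE2' := isEquidim_of_isStrictlyEquidim hE2
  rw [isEquidim_quot_iff] at hE2'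
  obtain ⟨e3⟩ := cpl_quot_equiv S q
  haveI : Nontrivial (EGA4.Cpl S ⧸ q.map (algebraMap S (EGA4.Cpl S))) := by
    obtain ⟨hl, -⟩ := Groth.Agent.Lib.AnUnramH3.completion_facts (S ⧸ q)
    haveI := hl
    exact e3.toEquiv.nontrivial
  have h3 := (isEquidim_quot_of_const (q.map (algebraMap S (EGA4.Cpl S))) _
    (fun 𝔔 h𝔔 => hE2' 𝔔 (mem_minimalPrimes_of_isHenselization R S q 𝔔 h𝔔))).2
  refine isStrictlyEquidim_of_ringEquiv e3 (isStrictlyEquidim_quot _ fun 𝔓 h𝔓 => ?_)
  rw [h3]
  exact ringKrullDim_quot_of_mem_ass _ hE2 𝔓 (ass_subset_of_isHenselization R S q h𝔓)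

end Hens

end Groth.Agent.EquiCat9
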