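import Mathlib
import Groth.Prelude

set_option autoImplicit false
set_option linter.unusedVariables false
set_option linter.style.haveILetI false

universe u

open Polynomial

namespace Groth.Agent.Lib.HensIdemComplH4

theorem cube_sub {R : Type*} [CommRing R] (p q : R) (hp : p * p = p) (hq : q * q = q) :
    (p - q) ^ 3 = p - q := by
  linear_combination (p + 1 - 3 * q) * hp + (3 * p - q - 1) * hq

theorem eq_zero_of_cube {R B : Type*} [CommRing R] [CommRing B] (j : R →+* B) (s w : R)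
    (hs : ∀ x : R, IsUnit (1 + s * x)) (δ : B) (hδ : δ = j (s * w)) (h3 : δ ^ 3 = δ) : δ = 0 := by
  have hu : IsUnit (1 - δ ^ 2) := by
    have : 1 - δ ^ 2 = j (1 + s * (-(w * (s * w)))) := by
      rw [hδ]
      simp only [map_add, map_one, map_mul, map_neg]
      ring
    rw [this]
    exact (hs _).map j
  have h0 : δ * (1 - δ ^ 2) = 0 := by linear_combination -h3
  exact (hu.mul_left_eq_zero).mp h0

theorem isUnit_one_add_mul {A : Type*} [CommRing A] (t : A) [HenselianRing A (Ideal.span {t})]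
    (x : A) : IsUnit (1 + t * x) := by
  have h1 : t ∈ (⊥ : Ideal A).jacobson :=
    HenselianRing.jac (Ideal.mem_span_singleton_self t)
  have := Ideal.mem_jacobson_bot.mp h1 x
  rwa [add_comm] at this

set_option maxHeartbeats 1000000 in
theorem core {A Ah : Type u} [CommRing A] [CommRing Ah] (ι : A →+* Ah) (t : A)
    [HenselianRing A (Ideal.span {t})]
    (H2 : ∀ x : Ah, IsUnit (1 + ι t * x))
    (H3 : ∀ (b : Ah) (N : ℕ), ∃ (a₀ : A) (y : Ah), ι a₀ = b + (ι t) ^ N * y)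
    (H4 : ∀ (x : A) (N : ℕ) (w : Ah), ι x = (ι t) ^ N * w → ∃ c : A, x = t ^ N * c)
    (e : Localization.Away (ι t)) (he : IsIdempotentElem e) :
    ∃! e₀ : Localization.Away t, IsIdempotentElem e₀ ∧ Localization.awayMap ι t e₀ = e := by
  have L1 : ∀ x : A, IsUnit (1 + t * x) := isUnit_one_add_mul t
  -- notation
  obtain ⟨j, hj⟩ : ∃ j : Ah →+* Localization.Away (ι t),
      j = algebraMap Ah (Localization.Away (ι t)) := ⟨_, rfl⟩
  obtain ⟨j₀, hj₀⟩ : ∃ j₀ : A →+* Localization.Away t,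
      j₀ = algebraMap A (Localization.Away t) := ⟨_, rfl⟩
  have hτ : IsUnit (j (ι t)) := by
    rw [hj]; exact IsLocalization.Away.algebraMap_isUnit (ι t)
  have hσ : IsUnit (j₀ t) := by
    rw [hj₀]; exact IsLocalization.Away.algebraMap_isUnit t
  obtain ⟨Φ, hΦdef⟩ : ∃ Φ : Localization.Away t →+* Localization.Away (ι t),
      Φ = Localization.awayMap ι t := ⟨_, rfl⟩
  have hΦ : ∀ x : A, Φ (j₀ x) = j (ι x) := by
    intro x
    rw [hΦdef, hj₀, hj]
    exact IsLocalization.map_eq _ x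
  have hee : e * e = e := he
  -- the uniqueness / vanishing principle downstairs
  have huniq : ∀ δ : Localization.Away t, δ ^ 3 = δ → Φ δ = 0 → δ = 0 := by
    intro δ h3 hΦδ
    obtain ⟨n', x, hx⟩ := IsLocalization.Away.surj t δ
    rw [← hj₀] at hx
    have h1 : j (ι x) = j 0 := by
      rw [map_zero, ← hΦ, ← hx, map_mul, hΦδ, zero_mul]
    rw [hj] at h1
    obtain ⟨k, hk⟩ := IsLocalization.Away.exists_of_eq (ι t) h1
    rw [mul_zero] at hk
    have h2 : ι (t ^ k * x) = (ι t) ^ (2 * (n' + k) + 1) * 0 := by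
      rw [map_mul, map_pow, hk, mul_zero]
    obtain ⟨c, hc⟩ := H4 _ _ _ h2
    have h3' : δ * (j₀ t) ^ (n' + k) = (j₀ t) ^ (n' + k) * j₀ (t * (t ^ (n' + k) * c)) := by
      have : δ * (j₀ t) ^ (n' + k) = j₀ (t ^ k * x) := by
        rw [pow_add, ← mul_assoc, hx, map_mul, map_pow]; ring
      rw [this, hc]
      simp only [map_mul, map_pow]
      ring
    have h4 : δ = j₀ (t * (t ^ (n' + k) * c)) := by
      have h5 : δ * (j₀ t) ^ (n' + k) = j₀ (t * (t ^ (n' + k) * c)) * (j₀ t) ^ (n' + k) := by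
        rw [h3']; ring
      exact ((hσ.pow (n' + k)).mul_left_inj).mp h5
    exact eq_zero_of_cube j₀ t (t ^ (n' + k) * c) L1 δ h4 h3
  -- existence
  obtain ⟨n, â, hâ⟩ := IsLocalization.Away.surj (ι t) e
  rw [← hj] at hâ
  have h1 : j (â * â) = j ((ι t) ^ n * â) := by
    rw [map_mul, ← hâ, map_mul, map_pow, ← hâ]
    linear_combination (j (ι t) ^ n * j (ι t) ^ n) * hee
  rw [hj] at h1
  obtain ⟨k, hk⟩ := IsLocalization.Away.exists_of_eq (ι t) h1
  obtain ⟨b, hbdef⟩ : ∃ b : Ah, b = (ι t) ^ k * â := ⟨_, rfl⟩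
  obtain ⟨m, hmdef⟩ : ∃ m : ℕ, m = n + k := ⟨_, rfl⟩
  have hb1 : b * b = (ι t) ^ m * b := by
    rw [hbdef, hmdef]
    linear_combination ((ι t) ^ k) * hk
  have hb2 : e * (j (ι t)) ^ m = j b := by
    rw [hmdef, hbdef, pow_add, ← mul_assoc, hâ, map_mul, map_pow]
    ring
  obtain ⟨a₀, yh, ha₀⟩ := H3 b (3 * m + 1)
  have h3 : ι (a₀ * a₀ - t ^ m * a₀) =
      (ι t) ^ (3 * m + 1) * (2 * b * yh + (ι t) ^ (3 * m + 1) * yh * yh - (ι t) ^ m * yh) := by
    rw [map_sub, map_mul, map_mul, map_pow, ha₀]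
    linear_combination hb1
  obtain ⟨c', hc'⟩ := H4 _ _ _ h3
  obtain ⟨d, hd⟩ : ∃ d : A, d = 2 * a₀ - t ^ m := ⟨_, rfl⟩
  obtain ⟨uu, huu⟩ := L1 (4 * t ^ m * c')
  have huu1 : (↑uu : A) * ↑uu⁻¹ = 1 := uu.mul_inv
  have hdd : d * d = t ^ (2 * m) * ↑uu := by
    rw [huu, hd]
    linear_combination 4 * hc'
  obtain ⟨c, hcdef⟩ : ∃ c : A, c = ↑uu⁻¹ * (t * (t ^ m * c')) := ⟨_, rfl⟩
  have hfc : a₀ * a₀ - t ^ m * a₀ = d * d * c := by
    rw [hc', hdd, hcdef]
    linear_combination (-(t ^ (3 * m + 1) * c')) * huu1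
  have hcI : c ∈ Ideal.span {t} :=
    Ideal.mem_span_singleton'.mpr ⟨↑uu⁻¹ * (t ^ m * c'), by rw [hcdef]; ring⟩
  -- Hensel
  have hmonic : (X ^ 2 + (X + C c) : A[X]).Monic := by
    rcases subsingleton_or_nontrivial A with hA | hA
    · exact Subsingleton.elim _ _
    · apply Polynomial.monic_X_pow_add
      rw [Polynomial.degree_X_add_C]
      exact_mod_cast Nat.one_lt_two
  obtain ⟨y, hyroot, hyI⟩ := HenselianRing.is_henselian (R := A) (I := Ideal.span {t})
    (X ^ 2 + (X + C c) : A[X]) hmonic 0 (by simpa using hcI) (by simp)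
  have hy0 : y * y + y + c = 0 := by
    have := hyroot
    simp only [Polynomial.IsRoot.def, eval_add, eval_pow, eval_X, eval_C] at this
    linear_combination this
  rw [sub_zero] at hyI
  obtain ⟨y₁, hy₁⟩ := Ideal.mem_span_singleton'.mp hyI
  obtain ⟨vv, hvv⟩ := L1 y₁
  have hvv1 : (↑vv : A) * ↑vv⁻¹ = 1 := vv.mul_inv
  have hv : (↑vv : A) = 1 + y := by rw [hvv, ← hy₁]; ring
  have hyform : y = t ^ (m + 1) * (-(↑uu⁻¹ * c') * ↑vv⁻¹) := by
    rw [hcdef] at hy0
    linear_combination (↑vv⁻¹ : A) * hy0 + (y * ↑vv⁻¹) * hv - y * hvv1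
  obtain ⟨y₂, hy₂⟩ : ∃ y₂ : A, y₂ = -(↑uu⁻¹ * c') * ↑vv⁻¹ := ⟨_, rfl⟩
  rw [← hy₂] at hyform
  obtain ⟨a, hadef⟩ : ∃ a : A, a = a₀ + d * y := ⟨_, rfl⟩
  have ha : a * a = t ^ m * a := by
    rw [hadef]
    linear_combination hfc + (d * d) * hy0 - (d * y) * hd
  obtain ⟨σi, hσi⟩ : ∃ σi : Localization.Away t, σi * j₀ t = 1 := ⟨↑hσ.unit⁻¹, hσ.val_inv_mul⟩
  have hpow : σi ^ m * (j₀ t) ^ m = 1 := by rw [← mul_pow, hσi, one_pow]
  obtain ⟨e₀, he₀def⟩ : ∃ e₀ : Localization.Away t, e₀ = j₀ a * σi ^ m := ⟨_, rfl⟩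
  have he₀σ : e₀ * (j₀ t) ^ m = j₀ a := by
    rw [he₀def, mul_assoc, hpow, mul_one]
  have he₀idem : e₀ * e₀ = e₀ := by
    calc e₀ * e₀ = j₀ (a * a) * σi ^ m * σi ^ m := by rw [he₀def, map_mul]; ring
      _ = j₀ (t ^ m * a) * σi ^ m * σi ^ m := by rw [ha]
      _ = (σi ^ m * (j₀ t) ^ m) * (j₀ a * σi ^ m) := by rw [map_mul, map_pow]; ring
      _ = e₀ := by rw [hpow, one_mul, he₀def]
  have hΦe₀idem : Φ e₀ * Φ e₀ = Φ e₀ := by rw [← map_mul, he₀idem]
  have h7a : Φ e₀ * (j (ι t)) ^ m = j (ι a) := by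
    rw [← hΦ t, ← map_pow, ← map_mul, he₀σ, hΦ]
  obtain ⟨zh, hzhdef⟩ : ∃ zh : Ah, zh = (ι t) ^ (2 * m) * yh + ι d * ι y₂ := ⟨_, rfl⟩
  have h7c : ι a = b + (ι t) ^ (m + 1) * zh := by
    rw [hadef, map_add, map_mul, ha₀, hyform, map_mul, map_pow, hzhdef]
    ring
  have h7d : (Φ e₀ - e) * (j (ι t)) ^ m = j (ι t * zh) * (j (ι t)) ^ m := by
    rw [sub_mul, h7a, hb2, h7c]
    simp only [map_add, map_mul, map_pow]
    ring
  have h7e : Φ e₀ - e = j (ι t * zh) := ((hτ.pow m).mul_left_inj).mp h7d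
  have h7f : Φ e₀ - e = 0 :=
    eq_zero_of_cube j (ι t) zh H2 _ h7e (cube_sub _ _ hΦe₀idem hee)
  have hΦe₀ : Φ e₀ = e := sub_eq_zero.mp h7f
  refine ⟨e₀, ⟨he₀idem, ?_⟩, ?_⟩
  · rw [← hΦdef]; exact hΦe₀
  · rintro e₁ ⟨h1idem, h1Φ⟩
    rw [← hΦdef] at h1Φ
    have h1idem' : e₁ * e₁ = e₁ := h1idem
    have := huniq (e₁ - e₀) (cube_sub _ _ h1idem' he₀idem) (by rw [map_sub, h1Φ, hΦe₀, sub_self])
    exact sub_eq_zero.mp this

theorem main15774 (A : Type u) [CommRing A] (t : A) [HenselianRing A (Ideal.span {t})]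
    (e : Localization.Away (algebraMap A (AdicCompletion (Ideal.span {t}) A) t))
    (he : IsIdempotentElem e) :
    ∃! e₀ : Localization.Away t, IsIdempotentElem e₀ ∧
      Localization.awayMap (algebraMap A (AdicCompletion (Ideal.span {t}) A)) t e₀ = e := by
  have hfg : (Ideal.span {t} : Ideal A).FG := Submodule.fg_span_singleton t
  have hι : ∀ x : A, algebraMap A (AdicCompletion (Ideal.span {t}) A) x =
      AdicCompletion.of (Ideal.span {t}) A x := fun x => rfl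
  have hsmul : ∀ (r : A) (z : AdicCompletion (Ideal.span {t}) A),
      r • z = algebraMap A (AdicCompletion (Ideal.span {t}) A) r * z :=
    fun r z => Algebra.smul_def r z
  refine core (algebraMap A (AdicCompletion (Ideal.span {t}) A)) t ?_ ?_ ?_ e he
  · -- H2
    intro x
    have hc : IsAdicComplete (Ideal.span {t}) (AdicCompletion (Ideal.span {t}) A) :=
      AdicCompletion.isAdicComplete hfg
    have hc' : IsAdicComplete ((Ideal.span {t}).map
        (algebraMap A (AdicCompletion (Ideal.span {t}) A)))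
        (AdicCompletion (Ideal.span {t}) A) :=
      (IsAdicComplete.map_algebraMap_iff (Ideal.span {t})
        (AdicCompletion (Ideal.span {t}) A)).mpr hc
    have h1 := IsAdicComplete.le_jacobson_bot _
      (Ideal.mem_map_of_mem (algebraMap A (AdicCompletion (Ideal.span {t}) A))
        (Ideal.mem_span_singleton_self t))
    have := Ideal.mem_jacobson_bot.mp h1 x
    rwa [add_comm] at this
  · -- H3
    intro b N
    obtain ⟨a₀, ha₀⟩ := Submodule.mkQ_surjective _ (AdicCompletion.eval (Ideal.span {t}) A N b)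
    have h1 : AdicCompletion.of (Ideal.span {t}) A a₀ - b ∈
        LinearMap.ker (AdicCompletion.eval (Ideal.span {t}) A N) := by
      rw [LinearMap.mem_ker, map_sub, AdicCompletion.eval_of, ha₀, sub_self]
    rw [← AdicCompletion.pow_smul_top_eq_ker_eval hfg, Ideal.span_singleton_pow,
      Submodule.ideal_span_singleton_smul, Submodule.mem_smul_pointwise_iff_exists] at h1
    obtain ⟨yh, -, hyh⟩ := h1
    refine ⟨a₀, yh, ?_⟩
    rw [hι, ← map_pow, ← hsmul, hyh]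
    ring
  · -- H4
    intro x N w hx
    have h1 : AdicCompletion.of (Ideal.span {t}) A x ∈
        LinearMap.ker (AdicCompletion.eval (Ideal.span {t}) A N) := by
      apply AdicCompletion.pow_smul_top_le_ker_eval
      rw [← hι, hx, ← map_pow, ← hsmul]
      exact Submodule.smul_mem_smul (Ideal.pow_mem_pow (Ideal.mem_span_singleton_self t) N)
        Submodule.mem_top
    rw [LinearMap.mem_ker, AdicCompletion.eval_of, Submodule.mkQ_apply,
      Submodule.Quotient.mk_eq_zero, smul_eq_mul, Ideal.mul_top, Ideal.span_singleton_pow,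
      Ideal.mem_span_singleton'] at h1
    obtain ⟨c, hc⟩ := h1
    exact ⟨c, by rw [← hc]; ring⟩

end Groth.Agent.Lib.HensIdemComplH4
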