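import Mathlib
import Groth.Prelude.Def_Found
import Groth.Prelude.Def_EGA4b
import Groth.Agent.Lib.NagataEssFT_helper3
import Groth.Agent.Lib.FFTransfer_helper3
import Groth.Agent.Lib.ComplMapIso_helper3
import Groth.Agent.Lib.ComplReduced_helper3
import Groth.Agent.Lib.IndEtale1_helper3
import Groth.Agent.Lib.IndEtale3_helper3
import Groth.Agent.Lib.IndEtale4_helper3
import Groth.Agent.Lib.IndEtaleFib_helper3
import Groth.Agent.Lib.Henselization12_helper3
import Groth.Agent.Lib.Henselization13_helper3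

/-!
# Nagata / universally Japanese along ind-étale local maps with the same completion (helper3)

`R → S` a local homomorphism of Noetherian local rings which is ind-étale.  If `S` is Nagata then
`R` is Nagata; if moreover `R̂ → Ŝ` is bijective and `R` is Nagata then `S` is Nagata.  Applied to
the henselization.
APPEND-ONLY once landed.
-/

set_option autoImplicit false
universe u

namespace Groth.Agent.Lib.HensNagataH3

open TensorProduct IsLocalRing Groth.Agent.Lib.FFTransferH3

section VNR

/-- In a ring in which every element `w` is of the form `w² u`, quotients of reduced algebras by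
extended ideals are reduced. -/
theorem isReduced_quotient_map_of_vnr {W N : Type*} [CommRing W] [CommRing N] [Algebra W N]
    (hV : ∀ w : W, ∃ u : W, w = w * w * u) [IsReduced N] (I : Ideal W) :
    IsReduced (N ⧸ I.map (algebraMap W N)) := by
  have key : ∀ x ∈ I.map (algebraMap W N), ∃ e ∈ I, e * e = e ∧ algebraMap W N e * x = x := by
    intro x hx
    refine Submodule.span_induction ?_ ?_ ?_ ?_ hx
    · rintro _ ⟨w, hw, rfl⟩
      obtain ⟨u, hu⟩ := hV w
      refine ⟨w * u, I.mul_mem_right _ hw, ?_, ?_⟩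
      · calc w * u * (w * u) = (w * w * u) * u := by ring
          _ = w * u := by rw [← hu]
      · rw [← map_mul]
        congr 1
        calc w * u * w = w * w * u := by ring
          _ = w := hu.symm
    · exact ⟨0, I.zero_mem, by ring, by simp⟩
    · rintro x y - - ⟨e₁, he₁, h₁, hx⟩ ⟨e₂, he₂, h₂, hy⟩
      refine ⟨e₁ + e₂ - e₁ * e₂, ?_, ?_, ?_⟩
      · exact I.sub_mem (I.add_mem he₁ he₂) (I.mul_mem_right _ he₁)
      · calc (e₁ + e₂ - e₁ * e₂) * (e₁ + e₂ - e₁ * e₂)
            = e₁ * e₁ + e₂ * e₂ + 2 * (e₁ * e₂) - 2 * (e₁ * e₁) * e₂ - 2 * e₁ * (e₂ * e₂)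
              + (e₁ * e₁) * (e₂ * e₂) := by ring
          _ = e₁ + e₂ - e₁ * e₂ := by rw [h₁, h₂]; ring
      · have hx' : algebraMap W N (e₁ + e₂ - e₁ * e₂) * x = x := by
          have : (e₁ + e₂ - e₁ * e₂) * e₁ = e₁ := by
            calc (e₁ + e₂ - e₁ * e₂) * e₁ = e₁ * e₁ + e₂ * e₁ - (e₁ * e₁) * e₂ := by ring
              _ = e₁ := by rw [h₁]; ring
          rw [← hx, ← mul_assoc, ← map_mul, this]
        have hy' : algebraMap W N (e₁ + e₂ - e₁ * e₂) * y = y := by
          have : (e₁ + e₂ - e₁ * e₂) * e₂ = e₂ := by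
            calc (e₁ + e₂ - e₁ * e₂) * e₂ = e₁ * e₂ + e₂ * e₂ - e₁ * (e₂ * e₂) := by ring
              _ = e₂ := by rw [h₂]; ring
          rw [← hy, ← mul_assoc, ← map_mul, this]
        rw [mul_add, hx', hy']
    · rintro a x - ⟨e, he, h, hx⟩
      refine ⟨e, he, h, ?_⟩
      rw [smul_eq_mul, mul_left_comm, hx]
  rw [← Ideal.isRadical_iff_quotient_reduced]
  intro x hx
  obtain ⟨k, hk⟩ := Ideal.mem_radical_iff.1 hx
  obtain ⟨e, he, hee, hex⟩ := key _ hk
  have h0 : ((1 - algebraMap W N e) * x) ^ (k + 1) = 0 := by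
    have h1 : (1 - algebraMap W N e) * algebraMap W N e = 0 := by
      rw [sub_mul, one_mul, ← map_mul, hee, sub_self]
    rw [mul_pow, pow_succ, pow_succ, ← hex]
    calc (1 - algebraMap W N e) ^ k * (1 - algebraMap W N e) * (algebraMap W N e * x ^ k * x)
        = (1 - algebraMap W N e) ^ k * x * x ^ k *
            ((1 - algebraMap W N e) * algebraMap W N e) := by ring
      _ = 0 := by rw [h1, mul_zero]
  have h2 : (1 - algebraMap W N e) * x = 0 := (IsNilpotent.eq_zero ⟨k + 1, h0⟩)
  have h3 : x = algebraMap W N e * x := by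
    have : x - algebraMap W N e * x = 0 := by rw [← h2]; ring
    exact sub_eq_zero.1 this
  rw [h3]
  exact Ideal.mul_mem_right _ _ (Ideal.mem_map_of_mem _ he)

/-- An ind-étale algebra over a field is von Neumann regular. -/
theorem vnr_of_isIndEtale_field {K W : Type u} [Field K] [CommRing W] [Algebra K W]
    (h : EtPBC.IsIndEtale K W) (w : W) : ∃ u : W, w = w * w * u := by
  obtain ⟨C, _, _, _, f, c, rfl⟩ := Groth.Agent.Lib.IndEtaleH3.exists_of_isIndEtale h w
  haveI : Module.Finite K C := Algebra.FormallyUnramified.finite_of_free K C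
  haveI : IsArtinianRing C := IsArtinianRing.of_finite K C
  haveI : IsReduced C := Algebra.FormallyUnramified.isReduced_of_field K C
  obtain ⟨n, y, hy⟩ := IsArtinian.exists_pow_succ_smul_dvd c (1 : C)
  rw [smul_eq_mul, smul_eq_mul, mul_one] at hy
  rw [Nat.succ_eq_add_one] at hy
  have hz : c - c * c * y = c * (1 - c * y) := by ring
  have h5 : c ^ n * (1 - c * y) = 0 := by
    have : c ^ n * (1 - c * y) = c ^ n - c ^ (n + 1) * y := by ring
    rw [this, hy, sub_self]
  have h0 : (c - c * c * y) ^ (n + 1) = 0 := by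
    rw [hz, mul_pow, pow_succ, pow_succ]
    calc c ^ n * c * ((1 - c * y) ^ n * (1 - c * y))
        = c * (1 - c * y) ^ n * (c ^ n * (1 - c * y)) := by ring
      _ = 0 := by rw [h5, mul_zero]
  have h1 : c - c * c * y = 0 := IsNilpotent.eq_zero ⟨n + 1, h0⟩
  refine ⟨f y, ?_⟩
  rw [← map_mul, ← map_mul, ← sub_eq_zero.1 h1]

/-- tensoring a surjection from a von Neumann regular algebra -/
theorem isReduced_tensor_of_vnr (S W K T : Type u) [CommRing S] [CommRing W] [CommRing K]
    [CommRing T] [Algebra S W] [Algebra S K] [Algebra S T]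
    (hV : ∀ w : W, ∃ u : W, w = w * w * u) (μ : W →ₐ[S] K) (hμ : Function.Surjective μ)
    (hred : IsReduced (W ⊗[S] T)) : IsReduced (K ⊗[S] T) := by
  haveI := hred
  have h1 : IsReduced ((W ⊗[S] T) ⧸ (RingHom.ker μ).map (algebraMap W (W ⊗[S] T))) :=
    isReduced_quotient_map_of_vnr hV _
  have h2 : IsReduced ((W ⧸ RingHom.ker μ) ⊗[W] (W ⊗[S] T)) :=
    isReduced_of_ringEquiv
      (Algebra.TensorProduct.quotIdealMapEquivQuotTensor (W ⊗[S] T) (RingHom.ker μ)).toRingEquiv h1
  have h3 : IsReduced ((W ⧸ RingHom.ker μ) ⊗[S] T) :=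
    isReduced_of_ringEquiv
      (Algebra.TensorProduct.cancelBaseChange S W W (W ⧸ RingHom.ker μ) T).toRingEquiv h2
  let e : (W ⧸ RingHom.ker μ) ≃ₐ[S] K := Ideal.quotientKerAlgEquivOfSurjective hμ
  exact isReduced_of_ringEquiv
    (Algebra.TensorProduct.congr e (AlgEquiv.refl : T ≃ₐ[S] T)).toRingEquiv h3

end VNR

section Main

variable (R S : Type u) [CommRing R] [CommRing S] [IsNoetherianRing R] [IsNoetherianRing S]
  [IsLocalRing R] [IsLocalRing S] [Algebra R S] [IsLocalHom (algebraMap R S)]

open Groth.Agent.Lib.IndEtaleH3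

set_option maxHeartbeats 1600000 in
set_option synthInstance.maxHeartbeats 400000 in
/-- If `S` is Nagata and `R → S` is ind-étale and local, then `R` has geometrically reduced formal
fibres. -/
theorem hasGRFF_bot (hie : EtPBC.IsIndEtale R S) (hS : CAlg.IsNagata S) :
    EGA4.HasGeomReducedFormalFibres R := by
  haveI : Module.Flat R S := flat_of_isIndEtale hie
  rw [Groth.Agent.Lib.FFIffDomainsH3.hasGeomReducedFormalFibres_iff]
  intro C _ _ _ _ q _ _
  suffices h : IsReduced (C ⊗[R] EGA4.Cpl R) by
    haveI := h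
    infer_instance
  letI := algCpl R S
  haveI := tower R S
  haveI := tower' R S
  haveI := faithfullyFlat_cpl R S
  apply descent_isReduced R (EGA4.Cpl R) (EGA4.Cpl S) C
  have hD1 : EtPBC.IsIndEtale C (C ⊗[R] S) := isIndEtale_baseChange R S C hie
  haveI : IsReduced (C ⊗[R] S) := isReduced_of_isIndEtale hD1
  haveI : IsReduced (S ⊗[R] C) :=
    isReduced_of_ringEquiv (Algebra.TensorProduct.comm R C S).toRingEquiv inferInstance
  haveI : Module.Finite S (S ⊗[R] C) := inferInstance
  haveI : IsNoetherianRing (S ⊗[R] C) := IsNoetherianRing.of_finite S _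
  obtain ⟨hloc, hInC⟩ := Groth.Agent.Lib.AnUnramNagataH3.inC_completion S
  have h4 : IsReduced ((S ⊗[R] C) ⊗[S] EGA4.Cpl S) := by
    haveI : Module.Flat S (EGA4.Cpl S) := hInC.flat
    apply Groth.Agent.Lib.ComplReducedH3.isReduced_tensor_of_minimalPrimes S (S ⊗[R] C)
      (EGA4.Cpl S)
    intro 𝔮 h𝔮
    haveI : 𝔮.IsPrime := h𝔮.1.1
    exact Groth.Agent.Lib.AnUnramNagata2H3.isReduced_tensor_of_finite_domain S (EGA4.Cpl S) hS
      hInC ((S ⊗[R] C) ⧸ 𝔮)
  have h5 : IsReduced (EGA4.Cpl S ⊗[S] (S ⊗[R] C)) :=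
    isReduced_of_ringEquiv
      (Algebra.TensorProduct.comm S (S ⊗[R] C) (EGA4.Cpl S)).toRingEquiv h4
  have h6 : IsReduced (EGA4.Cpl S ⊗[R] C) :=
    isReduced_of_ringEquiv
      (Algebra.TensorProduct.cancelBaseChange R S S (EGA4.Cpl S) C).toRingEquiv h5
  exact isReduced_of_ringEquiv (Algebra.TensorProduct.comm R (EGA4.Cpl S) C).toRingEquiv h6

set_option maxHeartbeats 1600000 in
set_option synthInstance.maxHeartbeats 400000 in
/-- If `R` has geometrically reduced formal fibres, `R → S` is ind-étale and local and induces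
an isomorphism of completions, then `S` has geometrically reduced formal fibres. -/
theorem hasGRFF_top (hie : EtPBC.IsIndEtale R S) (hbij : Function.Bijective (psi R S))
    (hR : EGA4.HasGeomReducedFormalFibres R) : EGA4.HasGeomReducedFormalFibres S := by
  intro q hq
  apply Groth.Agent.Lib.QENagataH3.isGeometricallyReduced_of_forall_finite
  intro K _ _ hfin
  haveI := hfin
  obtain ⟨p, hp⟩ : ∃ p : Ideal R, p = q.comap (algebraMap R S) := ⟨_, rfl⟩
  haveI : p.IsPrime := by rw [hp]; exact Ideal.comap_isPrime _ _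
  haveI : q.LiesOver p := ⟨hp⟩
  letI algpq : Algebra p.ResidueField q.ResidueField :=
    (Ideal.ResidueField.mapₐ p q (Algebra.ofId R S) (q.over_def p)).toRingHom.toAlgebra
  haveI hsep : Algebra.IsSeparable p.ResidueField q.ResidueField :=
    isSeparable_residueField_of_isIndEtale hie p q
  letI : Algebra S K :=
    ((algebraMap q.ResidueField K).comp (algebraMap S q.ResidueField)).toAlgebra
  haveI : IsScalarTower S q.ResidueField K := IsScalarTower.of_algebraMap_eq fun _ => rfl
  letI : Algebra R K := ((algebraMap S K).comp (algebraMap R S)).toAlgebra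
  haveI : IsScalarTower R S K := IsScalarTower.of_algebraMap_eq fun _ => rfl
  letI : Algebra p.ResidueField K :=
    ((algebraMap q.ResidueField K).comp (algebraMap p.ResidueField q.ResidueField)).toAlgebra
  haveI : IsScalarTower p.ResidueField q.ResidueField K :=
    IsScalarTower.of_algebraMap_eq fun _ => rfl
  haveI : IsScalarTower R p.ResidueField K := IsScalarTower.of_algebraMap_eq fun r => by
    show algebraMap q.ResidueField K (algebraMap S q.ResidueField (algebraMap R S r)) =
      algebraMap q.ResidueField K (Ideal.ResidueField.mapₐ p q (Algebra.ofId R S) (q.over_def p)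
        (algebraMap R p.ResidueField r))
    rw [AlgHom.commutes, IsScalarTower.algebraMap_apply R S q.ResidueField]
  haveI : Algebra.IsAlgebraic p.ResidueField q.ResidueField := inferInstance
  haveI : Algebra.IsAlgebraic q.ResidueField K := Algebra.IsAlgebraic.of_finite _ _
  haveI : Algebra.IsAlgebraic p.ResidueField K :=
    Algebra.IsAlgebraic.trans p.ResidueField q.ResidueField K
  haveI := hR p
  have h1 : IsReduced (K ⊗[p.ResidueField] p.Fiber (EGA4.Cpl R)) := inferInstance
  have h2 : IsReduced (K ⊗[R] EGA4.Cpl R) :=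
    isReduced_of_ringEquiv
      (Algebra.TensorProduct.cancelBaseChange R p.ResidueField K K (EGA4.Cpl R)).toRingEquiv h1
  haveI := tower' R S
  let ψ₀ : EGA4.Cpl R →ₐ[R] EGA4.Cpl S :=
    { psi R S with commutes' := fun a => psi_of R S a }
  let ψₐ : EGA4.Cpl R ≃ₐ[R] EGA4.Cpl S := AlgEquiv.ofBijective ψ₀ hbij
  have h3 : IsReduced (K ⊗[R] EGA4.Cpl S) :=
    isReduced_of_ringEquiv
      (Algebra.TensorProduct.congr (AlgEquiv.refl : K ≃ₐ[R] K) ψₐ).toRingEquiv h2
  have h4 : IsReduced (EGA4.Cpl S ⊗[R] K) :=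
    isReduced_of_ringEquiv (Algebra.TensorProduct.comm R K (EGA4.Cpl S)).toRingEquiv h3
  have h5 : IsReduced (EGA4.Cpl S ⊗[S] (S ⊗[R] K)) :=
    isReduced_of_ringEquiv
      (Algebra.TensorProduct.cancelBaseChange R S S (EGA4.Cpl S) K).symm.toRingEquiv h4
  have h6 : IsReduced ((S ⊗[R] K) ⊗[S] EGA4.Cpl S) :=
    isReduced_of_ringEquiv
      (Algebra.TensorProduct.comm S (EGA4.Cpl S) (S ⊗[R] K)).toRingEquiv h5
  have hV : ∀ w : S ⊗[R] K, ∃ u, w = w * w * u := by
    intro w
    have hi : EtPBC.IsIndEtale K (K ⊗[R] S) := isIndEtale_baseChange R S K hie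
    obtain ⟨u, hu⟩ := vnr_of_isIndEtale_field hi ((Algebra.TensorProduct.comm R S K) w)
    refine ⟨(Algebra.TensorProduct.comm R S K).symm u, ?_⟩
    apply (Algebra.TensorProduct.comm R S K).injective
    rw [map_mul, map_mul, AlgEquiv.apply_symm_apply]
    exact hu
  let μ : S ⊗[R] K →ₐ[S] K :=
    Algebra.TensorProduct.productLeftAlgHom (Algebra.ofId S K) (AlgHom.id R K)
  have hμ : Function.Surjective μ := fun k => ⟨1 ⊗ₜ k, by simp [μ]⟩
  have h7 : IsReduced (K ⊗[S] EGA4.Cpl S) :=
    isReduced_tensor_of_vnr S (S ⊗[R] K) K (EGA4.Cpl S) hV μ hμ h6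
  exact isReduced_of_ringEquiv
    (Algebra.TensorProduct.cancelBaseChange S q.ResidueField K K (EGA4.Cpl S)).symm.toRingEquiv h7

/-- Nagata-ness along an ind-étale local map inducing an isomorphism on completions. -/
theorem isNagata_iff (hie : EtPBC.IsIndEtale R S) (hbij : Function.Bijective (psi R S)) :
    CAlg.IsNagata S ↔ CAlg.IsNagata R := by
  constructor
  · intro hS
    exact Groth.Agent.Lib.FFNagataH3.isNagata_of_geomReducedFormalFibres R (hasGRFF_bot R S hie hS)
  · intro hR
    exact Groth.Agent.Lib.FFNagataH3.isNagata_of_geomReducedFormalFibres S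
      (hasGRFF_top R S hie hbij
        (Groth.Agent.Lib.NagataEssFTH3.hasGeomReducedFormalFibres_of_isNagata R hR))

end Main

section Hens

variable (R S : Type u) [CommRing R] [IsLocalRing R] [IsNoetherianRing R]
  [CommRing S] [IsLocalRing S] [Algebra R S] [IsLocalHom (algebraMap R S)]
  [Hensel.IsHenselization R S]

include R in
theorem isNoetherianRing_of_isHenselization : IsNoetherianRing S := by
  obtain ⟨e, -⟩ := Groth.Agent.Lib.HenselizationH3.exists_ringEquiv_hens (R := R) S
  exact isNoetherianRing_of_ringEquiv _ e.symm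

theorem isIndEtale_of_isHenselization : EtPBC.IsIndEtale R S := by
  obtain ⟨e, he⟩ := Groth.Agent.Lib.HenselizationH3.exists_ringEquiv_hens (R := R) S
  exact Groth.Agent.Lib.IndEtaleH3.isIndEtale_of_ringEquiv e.symm (fun r => by
    rw [← he r, RingEquiv.symm_apply_apply]) Groth.Agent.Lib.HenselizationH3.isIndEtale_hens

/-- The henselization of a Noetherian local ring is Nagata iff the ring is. -/
theorem isNagata_henselization_iff : CAlg.IsNagata S ↔ CAlg.IsNagata R := by
  haveI hN : IsNoetherianRing S := isNoetherianRing_of_isHenselization R S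
  have hie : EtPBC.IsIndEtale R S := isIndEtale_of_isHenselization R S
  haveI : Module.Flat R S := Groth.Agent.Lib.IndEtaleH3.flat_of_isIndEtale hie
  have hm := Groth.Agent.Lib.HenselizationH3.map_maximalIdeal_of_isHenselization (R := R) S
  have hk := Groth.Agent.Lib.HenselizationH3.residueField_map_bijective_of_isHenselization
    (R := R) S
  have hbij : Function.Bijective (psi R S) :=
    Groth.Agent.Lib.ComplMapIsoH3.bijective_of_comp R S hm hk (psi R S) (by
      refine RingHom.ext fun a => ?_
      exact psi_of R S a)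
  exact isNagata_iff R S hie hbij

/-- **The henselization of a Noetherian local ring is universally Japanese iff the ring is.** -/
theorem isUniversallyJapanese_henselization_iff :
    CAlg.IsUniversallyJapanese S ↔ CAlg.IsUniversallyJapanese R := by
  haveI hN : IsNoetherianRing S := isNoetherianRing_of_isHenselization R S
  have h1 := Groth.Agent.Lib.NagataFT5H3.isNagata_iff S
  have h2 := Groth.Agent.Lib.NagataFT5H3.isNagata_iff R
  have h3 := isNagata_henselization_iff R S
  constructor
  · intro h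
    exact (h2.1 (h3.1 (h1.2 ⟨hN, h⟩))).2
  · intro h
    exact (h1.1 (h3.2 (h2.2 ⟨inferInstance, h⟩))).2

end Hens

end Groth.Agent.Lib.HensNagataH3
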