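import Mathlib
import Groth.Prelude.Def_Hensel
import Groth.Agent.Lib.EtNbhdHens_helper3
import Groth.Agent.Lib.Henselization8_helper3

/-!
# Henselizations and common étale neighbourhoods (helper5)

* `bijective_of_frac`: a criterion for a trivial residue field extension.
* `existsUnique_hom`: for an étale neighbourhood `(S, q)` of `(R, p)` with trivial residue extension,
  the henselization `Rh` of `R_p` has the universal property of the henselization of `S_q`.
* `exists_equiv_of_common`: if `(S, q)` is such a neighbourhood of both `(R, p)` and `(R₂, p₂)`, then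
  the henselizations of `R_p` and `(R₂)_{p₂}` are isomorphic, compatibly with the maps from `S`.
* `isHenselization_of_equiv`: transport of a henselization along an isomorphism of the base.
-/

set_option autoImplicit false
set_option maxSynthPendingDepth 3
set_option maxHeartbeats 1000000
universe u

namespace Groth.Agent.Lib.HensNbhdH5

open IsLocalRing Groth.Agent.Lib.EtNbhdHensH3

section frac

variable {R : Type u} [CommRing R] (p : Ideal R) [p.IsPrime]
variable {S : Type u} [CommRing S] [Algebra R S] (q : Ideal S) [q.IsPrime]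

theorem bijective_of_frac (hq : p = q.comap (algebraMap R S))
    (hfrac : ∀ x : S, ∃ r s : R, s ∉ p ∧ algebraMap R S s * x - algebraMap R S r ∈ q) :
    Function.Bijective (Ideal.ResidueField.map p q (algebraMap R S) hq) := by
  refine ⟨RingHom.injective _, fun y => ?_⟩
  obtain ⟨z, rfl⟩ := IsLocalRing.residue_surjective y
  obtain ⟨x, t, rfl⟩ := IsLocalization.exists_mk'_eq q.primeCompl z
  have hyt : IsLocalRing.residue (Localization.AtPrime q) (IsLocalization.mk' _ x t)
      * algebraMap S q.ResidueField t = algebraMap S q.ResidueField x := by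
    rw [IsScalarTower.algebraMap_apply S (Localization.AtPrime q) q.ResidueField,
      IsScalarTower.algebraMap_apply S (Localization.AtPrime q) q.ResidueField,
      IsLocalRing.ResidueField.algebraMap_eq, ← map_mul, IsLocalization.mk'_spec]
  have hat : algebraMap S q.ResidueField t ≠ 0 := by
    intro h
    rw [Ideal.algebraMap_residueField_eq_zero] at h
    exact t.2 h
  obtain ⟨r₁, s₁, hs₁, h₁⟩ := hfrac x
  obtain ⟨r₂, s₂, hs₂, h₂⟩ := hfrac t
  set mp := Ideal.ResidueField.map p q (algebraMap R S) hq with hmp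
  have hm : ∀ r : R, mp (algebraMap R p.ResidueField r)
      = algebraMap S q.ResidueField (algebraMap R S r) := fun r =>
    Ideal.ResidueField.map_algebraMap p q (algebraMap R S) hq r
  have hne : ∀ s : R, s ∉ p → algebraMap R p.ResidueField s ≠ 0 := by
    intro s hs h
    rw [Ideal.algebraMap_residueField_eq_zero] at h
    exact hs h
  have e₁ : mp (algebraMap R p.ResidueField s₁) * algebraMap S q.ResidueField x
      = mp (algebraMap R p.ResidueField r₁) := by
    rw [hm, hm, ← map_mul, ← sub_eq_zero, ← map_sub, Ideal.algebraMap_residueField_eq_zero]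
    exact h₁
  have e₂ : mp (algebraMap R p.ResidueField s₂) * algebraMap S q.ResidueField t
      = mp (algebraMap R p.ResidueField r₂) := by
    rw [hm, hm, ← map_mul, ← sub_eq_zero, ← map_sub, Ideal.algebraMap_residueField_eq_zero]
    exact h₂
  have hS₁ : mp (algebraMap R p.ResidueField s₁) ≠ 0 :=
    (map_ne_zero_iff mp (RingHom.injective mp)).mpr (hne s₁ hs₁)
  have hS₂ : mp (algebraMap R p.ResidueField s₂) ≠ 0 :=
    (map_ne_zero_iff mp (RingHom.injective mp)).mpr (hne s₂ hs₂)
  have hR₂ : algebraMap R p.ResidueField r₂ ≠ 0 := by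
    intro h
    rw [h, map_zero] at e₂
    rcases mul_eq_zero.mp e₂ with h' | h'
    · exact hS₂ h'
    · exact hat h'
  have hR₂' : mp (algebraMap R p.ResidueField r₂) ≠ 0 :=
    (map_ne_zero_iff mp (RingHom.injective mp)).mpr hR₂
  refine ⟨algebraMap R p.ResidueField r₁ * algebraMap R p.ResidueField s₂
    / (algebraMap R p.ResidueField s₁ * algebraMap R p.ResidueField r₂), ?_⟩
  rw [map_div₀, map_mul, map_mul, div_eq_iff (mul_ne_zero hS₁ hR₂')]
  have e₃ : IsLocalRing.residue (Localization.AtPrime q) (IsLocalization.mk' _ x t)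
      * (mp (algebraMap R p.ResidueField s₁) * mp (algebraMap R p.ResidueField r₂))
      = mp (algebraMap R p.ResidueField s₁) * mp (algebraMap R p.ResidueField s₂)
        * (IsLocalRing.residue (Localization.AtPrime q) (IsLocalization.mk' _ x t)
          * algebraMap S q.ResidueField t) := by
    rw [← e₂]; ring
  rw [e₃, hyt, ← e₁]
  ring

end frac

section universal

variable (R : Type u) [CommRing R] (p : Ideal R) [p.IsPrime] (Rh : Type u) [CommRing Rh]
    [IsLocalRing Rh] [Algebra (Localization.AtPrime p) Rh]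
    [IsLocalHom (algebraMap (Localization.AtPrime p) Rh)]
    [Hensel.IsHenselization (Localization.AtPrime p) Rh] [Algebra R Rh]
    [IsScalarTower R (Localization.AtPrime p) Rh]
variable {S : Type u} [CommRing S] [Algebra R S] [Algebra.Etale R S] (q : Ideal S) [q.IsPrime]

/-- **the henselization of `R_p` is the henselization of `S_q`** for an étale neighbourhood `(S, q)`
with trivial residue field extension (universal property form). -/
theorem existsUnique_hom (hq : p = q.comap (algebraMap R S))
    (hκ : Function.Bijective (Ideal.ResidueField.map p q (algebraMap R S) hq))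
    (f₁ : S →ₐ[R] Rh) (hf₁ : (maximalIdeal Rh).comap f₁.toRingHom = q)
    (T : Type u) [CommRing T] [HenselianLocalRing T] (g : S →+* T)
    (hg : (maximalIdeal T).comap g = q) :
    ∃! u : Rh →+* T, u.comp f₁.toRingHom = g := by
  classical
  -- the induced local map `R_p → T`
  let g₀ : R →+* T := g.comp (algebraMap R S)
  have hg₀mem : ∀ r : R, g₀ r ∈ maximalIdeal T ↔ r ∈ p := by
    intro r
    rw [hq, Ideal.mem_comap, ← hg, Ideal.mem_comap]
    rfl
  have hunit : ∀ s : p.primeCompl, IsUnit (g₀ s) := by
    intro s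
    apply IsLocalRing.notMem_maximalIdeal.mp
    rw [hg₀mem]
    exact s.2
  let gp : Localization.AtPrime p →+* T := IsLocalization.lift (M := p.primeCompl) hunit
  have hgp : ∀ r : R, gp (algebraMap R (Localization.AtPrime p) r) = g₀ r := fun r =>
    IsLocalization.lift_eq _ r
  have hgpmem : ∀ x ∈ maximalIdeal (Localization.AtPrime p), gp x ∈ maximalIdeal T := by
    intro x hx
    obtain ⟨r, s, rfl⟩ := IsLocalization.exists_mk'_eq p.primeCompl x
    rw [IsLocalization.AtPrime.mk'_mem_maximal_iff (Localization.AtPrime p) p] at hx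
    have h1 : gp (IsLocalization.mk' (Localization.AtPrime p) r s) * g₀ s = g₀ r := by
      rw [← hgp, ← hgp, ← map_mul, IsLocalization.mk'_spec]
    have h2 : g₀ r ∈ maximalIdeal T := (hg₀mem r).mpr hx
    rw [← h1] at h2
    rcases (Ideal.IsMaximal.isPrime' (maximalIdeal T)).mem_or_mem h2 with h | h
    · exact h
    · exact absurd h (IsLocalRing.notMem_maximalIdeal.mpr (hunit s))
  have hgploc : IsLocalHom gp := by
    refine ⟨fun x hx => ?_⟩
    by_contra hnu
    exact (IsLocalRing.notMem_maximalIdeal.mpr hx) (hgpmem x hnu)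
  have hS : Hensel.IsHenselization (Localization.AtPrime p) Rh := inferInstance
  obtain ⟨u, hu, huniq⟩ := hS.universal T gp hgploc
  have hu' : ∀ x, u (algebraMap (Localization.AtPrime p) Rh x) = gp x := fun x =>
    RingHom.congr_fun hu x
  -- `u` is local
  have hmax : (maximalIdeal (Localization.AtPrime p)).map
      (algebraMap (Localization.AtPrime p) Rh) = maximalIdeal Rh :=
    Groth.Agent.Lib.HenselizationH3.map_maximalIdeal_of_isHenselization Rh
  have hucomap : (maximalIdeal T).comap u = maximalIdeal Rh := by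
    apply le_antisymm
    · apply IsLocalRing.le_maximalIdeal
      exact (Ideal.comap_ne_top u (Ideal.IsPrime.ne_top'))
    · rw [← hmax, Ideal.map_le_iff_le_comap]
      intro x hx
      rw [Ideal.mem_comap, Ideal.mem_comap, hu']
      exact hgpmem x hx
  -- compare on `S`
  letI : Algebra R T := g₀.toAlgebra
  have halg : ∀ r : R, algebraMap R T r = g (algebraMap R S r) := fun r => rfl
  let a : S →ₐ[R] T :=
    { u.comp f₁.toRingHom with
      commutes' := fun r => by
        show u (f₁ (algebraMap R S r)) = g₀ r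
        rw [AlgHom.commutes, IsScalarTower.algebraMap_apply R (Localization.AtPrime p) Rh, hu', hgp] }
  let b : S →ₐ[R] T := { g with commutes' := fun r => rfl }
  have ha : (maximalIdeal T).comap a.toRingHom = q := by
    have : a.toRingHom = u.comp f₁.toRingHom := rfl
    rw [this, ← Ideal.comap_comap, hucomap, hf₁]
  have hb : (maximalIdeal T).comap b.toRingHom = q := hg
  have hab : a = b := unique_of_comap p q hq hκ a b ha hb
  have hcomp : u.comp f₁.toRingHom = g := by
    ext s
    exact AlgHom.congr_fun hab s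
  refine ⟨u, hcomp, fun u' hu'' => huniq u' ?_⟩
  apply IsLocalization.ringHom_ext p.primeCompl
  ext r
  show u' (algebraMap (Localization.AtPrime p) Rh (algebraMap R (Localization.AtPrime p) r))
    = gp (algebraMap R (Localization.AtPrime p) r)
  rw [hgp, ← IsScalarTower.algebraMap_apply R (Localization.AtPrime p) Rh, ← f₁.commutes]
  exact RingHom.congr_fun hu'' (algebraMap R S r)

end universal

section common

variable (R : Type u) [CommRing R] (p : Ideal R) [p.IsPrime] (Rh : Type u) [CommRing Rh]
    [IsLocalRing Rh] [Algebra (Localization.AtPrime p) Rh]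
    [IsLocalHom (algebraMap (Localization.AtPrime p) Rh)]
    [Hensel.IsHenselization (Localization.AtPrime p) Rh] [Algebra R Rh]
    [IsScalarTower R (Localization.AtPrime p) Rh]
variable (R₂ : Type u) [CommRing R₂] (p₂ : Ideal R₂) [p₂.IsPrime] (Rh₂ : Type u) [CommRing Rh₂]
    [IsLocalRing Rh₂] [Algebra (Localization.AtPrime p₂) Rh₂]
    [IsLocalHom (algebraMap (Localization.AtPrime p₂) Rh₂)]
    [Hensel.IsHenselization (Localization.AtPrime p₂) Rh₂] [Algebra R₂ Rh₂]
    [IsScalarTower R₂ (Localization.AtPrime p₂) Rh₂]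
variable {S : Type u} [CommRing S] [Algebra R S] [Algebra.Etale R S] [Algebra R₂ S]
    [Algebra.Etale R₂ S] (q : Ideal S) [q.IsPrime]

/-- **henselizations with a common étale neighbourhood are isomorphic.** -/
theorem exists_equiv_of_common (hq : p = q.comap (algebraMap R S))
    (hκ : Function.Bijective (Ideal.ResidueField.map p q (algebraMap R S) hq))
    (hq₂ : p₂ = q.comap (algebraMap R₂ S))
    (hκ₂ : Function.Bijective (Ideal.ResidueField.map p₂ q (algebraMap R₂ S) hq₂)) :
    ∃ (e : Rh ≃+* Rh₂) (f₁ : S →ₐ[R] Rh) (f₂ : S →ₐ[R₂] Rh₂), ∀ s, e (f₁ s) = f₂ s := by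
  obtain ⟨f₁, hf₁⟩ := exists_map R p Rh q hq hκ
  obtain ⟨f₂, hf₂⟩ := exists_map R₂ p₂ Rh₂ q hq₂ hκ₂
  haveI : HenselianLocalRing Rh := Hensel.IsHenselization.henselian (Localization.AtPrime p)
  haveI : HenselianLocalRing Rh₂ := Hensel.IsHenselization.henselian (Localization.AtPrime p₂)
  obtain ⟨u, hu, -⟩ := existsUnique_hom R p Rh q hq hκ f₁ hf₁ Rh₂ f₂.toRingHom hf₂
  obtain ⟨v, hv, -⟩ := existsUnique_hom R₂ p₂ Rh₂ q hq₂ hκ₂ f₂ hf₂ Rh f₁.toRingHom hf₁
  obtain ⟨_, -, huniq₁⟩ := existsUnique_hom R p Rh q hq hκ f₁ hf₁ Rh f₁.toRingHom hf₁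
  obtain ⟨_, -, huniq₂⟩ := existsUnique_hom R₂ p₂ Rh₂ q hq₂ hκ₂ f₂ hf₂ Rh₂ f₂.toRingHom hf₂
  have h1 : v.comp u = RingHom.id Rh := by
    have e1 : (v.comp u).comp f₁.toRingHom = f₁.toRingHom := by
      rw [RingHom.comp_assoc, hu, hv]
    rw [huniq₁ (v.comp u) e1, huniq₁ (RingHom.id Rh) (RingHom.id_comp _)]
  have h2 : u.comp v = RingHom.id Rh₂ := by
    have e2 : (u.comp v).comp f₂.toRingHom = f₂.toRingHom := by
      rw [RingHom.comp_assoc, hv, hu]
    rw [huniq₂ (u.comp v) e2, huniq₂ (RingHom.id Rh₂) (RingHom.id_comp _)]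
  refine ⟨RingEquiv.ofRingHom u v h2 h1, f₁, f₂, fun s => ?_⟩
  exact RingHom.congr_fun hu s

end common

section transport

variable {A A' : Type u} [CommRing A] [IsLocalRing A] [CommRing A'] [IsLocalRing A']
  (e : A' ≃+* A) (Ah : Type u) [CommRing Ah] [IsLocalRing Ah] [Algebra A Ah]
  [IsLocalHom (algebraMap A Ah)] [Algebra A' Ah]

theorem isLocalHom_of_equiv (hcompat : ∀ x, algebraMap A' Ah x = algebraMap A Ah (e x)) :
    IsLocalHom (algebraMap A' Ah) := by
  refine ⟨fun x hx => ?_⟩
  rw [hcompat] at hx
  have h1 : IsUnit (e x) := isUnit_of_map_unit (algebraMap A Ah) _ hx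
  have h2 := h1.map e.symm
  rwa [RingEquiv.symm_apply_apply] at h2

theorem isHenselization_of_equiv [Hensel.IsHenselization A Ah]
    (hcompat : ∀ x, algebraMap A' Ah x = algebraMap A Ah (e x))
    [IsLocalHom (algebraMap A' Ah)] : Hensel.IsHenselization A' Ah := by
  have hA : Hensel.IsHenselization A Ah := inferInstance
  refine ⟨hA.henselian, fun T _ _ f hf => ?_⟩
  haveI := hf
  have hloc : IsLocalHom (f.comp (e.symm : A →+* A')) := by
    refine ⟨fun x hx => ?_⟩
    have h1 : IsUnit (e.symm x) := isUnit_of_map_unit f _ hx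
    have h2 := h1.map e
    rwa [RingEquiv.apply_symm_apply] at h2
  obtain ⟨g, hg, hguniq⟩ := hA.universal T (f.comp (e.symm : A →+* A')) hloc
  refine ⟨g, ?_, fun g' hg' => hguniq g' ?_⟩
  · ext x
    show g (algebraMap A' Ah x) = f x
    rw [hcompat, ← RingHom.comp_apply, hg]
    show f (e.symm (e x)) = f x
    rw [RingEquiv.symm_apply_apply]
  · ext x
    show g' (algebraMap A Ah x) = f (e.symm x)
    rw [← hg']
    show g' (algebraMap A Ah x) = g' (algebraMap A' Ah (e.symm x))
    rw [hcompat, RingEquiv.apply_symm_apply]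

end transport

end Groth.Agent.Lib.HensNbhdH5
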