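import Mathlib
import Groth.Prelude
import Groth.Agent.Lib.HensProper2_helper8
import Groth.Agent.Lib.HensCouple_helper3

/-!
# A henselian couple proper over a Noetherian ring is proper over a henselian pair (helper8)
APPEND-ONLY once landed.
-/

set_option autoImplicit false
universe u
open CategoryTheory CategoryTheory.Limits AlgebraicGeometry TopologicalSpace Opposite

namespace Groth.Agent.Lib.HensProperH8

open Groth.Agent.Lib.FFGammaH8 Groth.Agent.Lib.ClopenLiftH3 Groth.Agent.Lib.SchemeIdemH3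

section Ker

theorem exists_of_mem_ker {R : Type u} [CommRing R] (K : Ideal R)
    (t : Γ(Spec (CommRingCat.of R), ⊤))
    (ht : t ∈ RingHom.ker ((Spec.map (CommRingCat.ofHom (Ideal.Quotient.mk K))).app ⊤).hom) :
    ∃ a ∈ K, (Scheme.ΓSpecIso (CommRingCat.of R)).inv.hom a = t := by
  obtain ⟨a, rfl⟩ : ∃ a : R, (Scheme.ΓSpecIso (CommRingCat.of R)).inv.hom a = t :=
    ⟨(Scheme.ΓSpecIso (CommRingCat.of R)).hom.hom t, by simp⟩
  refine ⟨a, ?_, rfl⟩
  rw [RingHom.mem_ker] at ht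
  have h2 := congrArg (fun ψ => ψ.hom a)
    (Scheme.ΓSpecIso_inv_naturality (CommRingCat.ofHom (Ideal.Quotient.mk K)))
  have h3 : (Scheme.ΓSpecIso (CommRingCat.of (R ⧸ K))).inv.hom
      (Ideal.Quotient.mk K a) = 0 := h2.trans ht
  have h4 := congrArg (Scheme.ΓSpecIso (CommRingCat.of (R ⧸ K))).hom.hom h3
  have h5 : Ideal.Quotient.mk K a = 0 := by simpa using h4
  exact Ideal.Quotient.eq_zero_iff_mem.mp h5

theorem mem_ker_of_mem {R : Type u} [CommRing R] (K : Ideal R) (a : R) (ha : a ∈ K) :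
    (Scheme.ΓSpecIso (CommRingCat.of R)).inv.hom a ∈
      RingHom.ker ((Spec.map (CommRingCat.ofHom (Ideal.Quotient.mk K))).app ⊤).hom := by
  rw [RingHom.mem_ker]
  have h2 := congrArg (fun ψ => ψ.hom a)
    (Scheme.ΓSpecIso_inv_naturality (CommRingCat.ofHom (Ideal.Quotient.mk K)))
  refine h2.symm.trans ?_
  show (Scheme.ΓSpecIso (CommRingCat.of (R ⧸ K))).inv.hom (Ideal.Quotient.mk K a) = 0
  rw [Ideal.Quotient.eq_zero_iff_mem.mpr ha, map_zero]

/-- the ideal of `X ×_R R/K` in `X` over an affine open `U` is `K·O(U)` -/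
theorem ker_iK_ideal {R : Type u} [CommRing R] {X : Scheme.{u}}
    (f : X ⟶ Spec (CommRingCat.of R)) (K : Ideal R) (U : X.affineOpens)
    (hle : U.1 ≤ f ⁻¹ᵁ (⊤ : (Spec (CommRingCat.of R)).Opens)) :
    (iK f K).ker.ideal U = Ideal.map ((f.appLE ⊤ U.1 hle).hom.comp
      (Scheme.ΓSpecIso (CommRingCat.of R)).inv.hom) K := by
  have h1 : (iK f K).ker = (Spec.map (CommRingCat.ofHom (Ideal.Quotient.mk K))).ker.comap f :=
    Scheme.IdealSheafData.ker_fst_of_isClosedImmersion _ _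
  rw [h1, ChevAH8.ideal_comap_eq_map_ideal _ _ ⟨⊤, isAffineOpen_top _⟩ U hle,
    Scheme.Hom.ker_apply]
  apply le_antisymm
  · rw [Ideal.map_le_iff_le_comap]
    intro t ht
    obtain ⟨a, ha, rfl⟩ := exists_of_mem_ker K t ht
    rw [Ideal.mem_comap]
    exact Ideal.mem_map_of_mem ((f.appLE ⊤ U.1 hle).hom.comp
      (Scheme.ΓSpecIso (CommRingCat.of R)).inv.hom) ha
  · rw [Ideal.map_le_iff_le_comap]
    intro a ha
    rw [Ideal.mem_comap]
    exact Ideal.mem_map_of_mem _ (mem_ker_of_mem K a ha)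

end Ker

section S17965

variable (A : Type u) [CommRing A] [IsNoetherianRing A] (I : Ideal A) {X : Scheme.{u}}
  (f : X ⟶ Spec (CommRingCat.of A)) [IsProper f]

theorem toSpecΓ_appLE_inv (U : X.Opens) (hle : U ≤ X.toSpecΓ ⁻¹ᵁ ⊤) (b : Γ(X, ⊤)) :
    (X.toSpecΓ.appLE ⊤ U hle).hom ((Scheme.ΓSpecIso Γ(X, ⊤)).inv.hom b) =
      (X.presheaf.map (homOfLE (le_top : U ≤ ⊤)).op).hom b := by
  have h1 : X.toSpecΓ.appLE ⊤ U hle = X.toSpecΓ.appTop ≫ X.presheaf.map (homOfLE le_top).op := by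
    rw [Scheme.Hom.appLE]
    rfl
  rw [h1, Scheme.toSpecΓ_appTop]
  show (X.presheaf.map _).hom ((Scheme.ΓSpecIso Γ(X, ⊤)).hom.hom
    ((Scheme.ΓSpecIso Γ(X, ⊤)).inv.hom b)) = _
  congr 1
  simp

theorem appLE_inv_eq (U : X.Opens) (hle : U ≤ f ⁻¹ᵁ ⊤) (a : A) :
    (f.appLE ⊤ U hle).hom ((Scheme.ΓSpecIso (CommRingCat.of A)).inv.hom a) =
      (X.presheaf.map (homOfLE (le_top : U ≤ ⊤)).op).hom (tG A f a) := by
  have h1 : f.appLE ⊤ U hle = f.appTop ≫ X.presheaf.map (homOfLE le_top).op := by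
    rw [Scheme.Hom.appLE]
    rfl
  rw [h1]
  rfl

/-- the two closed subschemes `X ×_A A/I` and `X ×_B B/J` have the same ideal -/
theorem ker_eq :
    (Spec.map (CommRingCat.ofHom (Ideal.Quotient.mk
      (RingHom.ker (iK f I).appTop.hom)))).ker.comap X.toSpecΓ = (iK f I).ker := by
  have h0 : (iK X.toSpecΓ (RingHom.ker (iK f I).appTop.hom)).ker =
      (Spec.map (CommRingCat.ofHom (Ideal.Quotient.mk
        (RingHom.ker (iK f I).appTop.hom)))).ker.comap X.toSpecΓ :=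
    Scheme.IdealSheafData.ker_fst_of_isClosedImmersion _ _
  rw [← h0]
  apply Scheme.IdealSheafData.ext
  funext U
  have hle1 : U.1 ≤ X.toSpecΓ ⁻¹ᵁ ⊤ := fun _ _ => trivial
  have hle2 : U.1 ≤ f ⁻¹ᵁ ⊤ := fun _ _ => trivial
  rw [ker_iK_ideal X.toSpecΓ _ U hle1]
  apply le_antisymm
  · rw [Scheme.Hom.ker_apply, Ideal.map_le_iff_le_comap]
    intro b hb
    rw [Ideal.mem_comap, RingHom.mem_ker, RingHom.comp_apply, toSpecΓ_appLE_inv]
    have hnat := (iK f I).naturality (homOfLE (le_top : U.1 ≤ ⊤)).op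
    have h2 := congrArg (fun φ => φ.hom b) hnat
    refine h2.trans ?_
    show ((ZK f I).presheaf.map _).hom ((iK f I).appTop.hom b) = 0
    rw [RingHom.mem_ker.mp hb, map_zero]
  · rw [ker_iK_ideal f I U hle2, Ideal.map_le_iff_le_comap]
    intro a ha
    rw [Ideal.mem_comap, RingHom.comp_apply, appLE_inv_eq]
    have hJ : tG A f a ∈ RingHom.ker (iK f I).appTop.hom :=
      RingHom.mem_ker.mpr (appTop_toGlobal_eq_zero A I f a ha)
    have := Ideal.mem_map_of_mem ((X.toSpecΓ.appLE ⊤ U.1 hle1).hom.comp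
      (Scheme.ΓSpecIso Γ(X, ⊤)).inv.hom) hJ
    rw [RingHom.comp_apply, toSpecΓ_appLE_inv] at this
    exact this

theorem main17965
    (hX : ∀ (Y : Scheme.{u}) (g : Y ⟶ X), IsFinite g →
      ∀ V : Set ↥(pullback g (iK f I)), IsClopen V →
        ∃! U : Set ↥Y, IsClopen U ∧ (pullback.fst g (iK f I)).base ⁻¹' U = V) :
    ∃ (A' : Type u) (_ : CommRing A') (I' : Ideal A') (_ : HenselianRing A' I')
      (_ : IsNoetherianRing A')
      (f' : X ⟶ Spec (CommRingCat.of A')) (_ : IsProper f')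
      (t : ZK f I ⟶ Spec (CommRingCat.of (A' ⧸ I'))),
      IsPullback (iK f I) t f' (Spec.map (CommRingCat.ofHom (Ideal.Quotient.mk I'))) := by
  haveI : CompactSpace ↥X := QuasiCompact.compactSpace_of_compactSpace f
  haveI : QuasiSeparatedSpace ↥X := quasiSeparatedSpace_of_quasiSeparated f
  have hH : HenselianRing (Γ(X, ⊤) : Type u) (RingHom.ker (iK f I).appTop.hom) :=
    Groth.Agent.Lib.HensCoupleH3.main (iK f I) hX
  letI : Algebra A Γ(X, ⊤) := (tG A f).toAlgebra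
  haveI : Module.Finite A Γ(X, ⊤) := SteinFinH3.finite_comp_of_isProper A f
  haveI hN : IsNoetherianRing Γ(X, ⊤) := Algebra.FiniteType.isNoetherianRing A _
  have hnat : X.toSpecΓ ≫ Spec.map f.appTop = f ≫ (Spec (CommRingCat.of A)).toSpecΓ :=
    (Scheme.toSpecΓ_naturality f).symm
  haveI : IsProper (X.toSpecΓ ≫ Spec.map f.appTop) := by rw [hnat]; infer_instance
  haveI hP : IsProper X.toSpecΓ := IsProper.of_comp X.toSpecΓ (Spec.map f.appTop)
  let J : Ideal Γ(X, ⊤) := RingHom.ker (iK f I).appTop.hom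
  let ψ : Γ(X, ⊤) ⧸ J →+* Γ(ZK f I, ⊤) :=
    Ideal.Quotient.lift J (iK f I).appTop.hom (fun b hb => RingHom.mem_ker.mp hb)
  let t : ZK f I ⟶ Spec (CommRingCat.of (Γ(X, ⊤) ⧸ J)) :=
    (ZK f I).toSpecΓ ≫ Spec.map (CommRingCat.ofHom ψ)
  refine ⟨(Γ(X, ⊤) : Type u), inferInstance, J, hH, hN, X.toSpecΓ, hP, t, ?_⟩
  refine isPullback_of_isClosedImmersion (iK f I)
    (Spec.map (CommRingCat.ofHom (Ideal.Quotient.mk J))) t X.toSpecΓ ?_ (ker_eq A I f)
  have h1 : iK f I ≫ X.toSpecΓ = (ZK f I).toSpecΓ ≫ Spec.map (iK f I).appTop :=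
    Scheme.toSpecΓ_naturality (iK f I)
  rw [h1]
  show _ = ((ZK f I).toSpecΓ ≫ Spec.map (CommRingCat.ofHom ψ)) ≫ _
  rw [Category.assoc, ← Spec.map_comp]
  congr 2

end S17965

end Groth.Agent.Lib.HensProperH8
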