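import Mathlib
import Groth.Agent.Lib.HensConn4_helper4

/-!
# Lifting open-closed proper subschemes over a henselian pair, part 1 (helper8)

`Lifts I f`: every closed-open subset of the locus of `X` over `V(I)` which is the image of a scheme
proper over the base is the trace of an open-closed subset of `X` proper over the base.
* `lifts_of_isProper`: holds for proper `f` over a henselian pair;
* `lifts_of_isOpenImmersion`: holds for `j ≫ f̄` with `j` an open immersion and `f̄` proper;
* `lifts_of_surjective`: descends along proper surjective `π : X' ⟶ X`.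
APPEND-ONLY once landed.
-/

set_option autoImplicit false
set_option linter.style.haveILetI false
universe u
open CategoryTheory CategoryTheory.Limits AlgebraicGeometry TopologicalSpace Opposite

namespace Groth.Agent.Lib.HensProperLiftH8

open Groth.Agent.Lib.HensConnH4

variable {A : Type u} [CommRing A] (I : Ideal A)

/-- the lifting property for open-closed proper subsets of the locus over `V(I)` -/
def Lifts {X : Scheme.{u}} (f : X ⟶ Spec (CommRingCat.of A)) : Prop :=
  ∀ (T : Scheme.{u}) (g : T ⟶ X), IsProper (g ≫ f) → Set.range g ⊆ locus I f →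
    IsClosed (locus I f \ Set.range g) →
    ∃ W : X.Opens, IsClosed (W : Set X) ∧ IsProper (W.ι ≫ f) ∧
      (W : Set X) ∩ locus I f = Set.range g

/-- the inclusion of an open and closed subscheme is a closed immersion -/
theorem isClosedImmersion_ι_of_isClosed {X : Scheme.{u}} (W : X.Opens)
    (hW : IsClosed (W : Set X)) : IsClosedImmersion W.ι := by
  refine IsClosedImmersion.of_isPreimmersion W.ι ?_
  rw [Scheme.Opens.range_ι]
  exact hW

theorem lifts_of_isProper [hI : HenselianRing A I] {X : Scheme.{u}}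
    (f : X ⟶ Spec (CommRingCat.of A)) [IsProper f] : Lifts I f := by
  intro T g hg hsub hcl
  haveI := hg
  haveI : IsProper g := IsProper.of_comp g f
  have hM₁ : IsClosed (Set.range g) := g.isClosedMap.isClosed_range
  have hrel := relLifts_of_isProper I f
  obtain ⟨N₁, N₂, hN₁, hN₂, hU, hD, hN⟩ := hrel (Set.range g) (locus I f \ Set.range g) hM₁ hcl
    (by rw [Set.univ_inter, Set.union_sdiff_cancel hsub]) Set.disjoint_sdiff_right
  have hcompl : N₂ᶜ = N₁ := by
    ext x
    constructor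
    · intro hx
      have : x ∈ N₁ ∪ N₂ := by rw [hU]; trivial
      exact this.resolve_right hx
    · intro hx hx2
      exact Set.disjoint_left.mp hD hx hx2
  refine ⟨⟨N₂ᶜ, hN₂.isOpen_compl⟩, ?_, ?_, ?_⟩
  · change IsClosed N₂ᶜ
    rw [hcompl]; exact hN₁
  · haveI : IsClosedImmersion (Scheme.Opens.ι (⟨N₂ᶜ, hN₂.isOpen_compl⟩ : X.Opens)) :=
      isClosedImmersion_ι_of_isClosed _ (by change IsClosed N₂ᶜ; rw [hcompl]; exact hN₁)
    infer_instance
  · change N₂ᶜ ∩ locus I f = Set.range g
    rw [hcompl, hN]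

theorem lifts_of_isOpenImmersion [hI : HenselianRing A I] {X Xb : Scheme.{u}} (j : X ⟶ Xb)
    [IsOpenImmersion j] (fb : Xb ⟶ Spec (CommRingCat.of A)) [IsProper fb] :
    Lifts I (j ≫ fb) := by
  intro T g hg hsub hcl
  haveI := hg
  have hloc : locus I (j ≫ fb) = j ⁻¹' locus I fb := locus_comp I j fb
  -- apply the proper case to `g ≫ j`
  have hg' : IsProper ((g ≫ j) ≫ fb) := by rw [Category.assoc]; exact hg
  have hrange : Set.range (g ≫ j) = j '' Set.range g := by
    rw [Scheme.Hom.comp_base, TopCat.coe_comp, Set.range_comp]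
  have hsub' : Set.range (g ≫ j) ⊆ locus I fb := by
    rw [hrange]
    rintro _ ⟨x, hx, rfl⟩
    have := hsub hx
    rw [hloc] at this
    exact this
  have hcl' : IsClosed (locus I fb \ Set.range (g ≫ j)) := by
    -- `range g = locus ∩ O` with `O` open
    have hO : IsOpen (locus I (j ≫ fb) \ Set.range g)ᶜ := hcl.isOpen_compl
    have hjO : IsOpen (j '' (locus I (j ≫ fb) \ Set.range g)ᶜ) := j.isOpenEmbedding.isOpenMap _ hO
    have heq : locus I fb \ Set.range (g ≫ j) =
        locus I fb ∩ (j '' (locus I (j ≫ fb) \ Set.range g)ᶜ)ᶜ := by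
      ext y
      rw [hrange]
      constructor
      · rintro ⟨hy1, hy2⟩
        refine ⟨hy1, ?_⟩
        rintro ⟨x, hx, rfl⟩
        apply hx
        refine ⟨by rw [hloc]; exact hy1, ?_⟩
        intro hxg
        exact hy2 ⟨x, hxg, rfl⟩
      · rintro ⟨hy1, hy2⟩
        refine ⟨hy1, ?_⟩
        rintro ⟨x, hx, rfl⟩
        apply hy2
        refine ⟨x, ?_, rfl⟩
        intro hx2
        exact hx2.2 hx
    rw [heq]
    exact (isClosed_locus I fb).inter hjO.isClosed_compl
  obtain ⟨Wb, hWbcl, hWbp, hWb⟩ := lifts_of_isProper I fb T (g ≫ j) hg' hsub' hcl'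
  haveI := hWbp
  -- `Wb ⊆ range j`
  have hWbsub : (Wb : Set Xb) ⊆ Set.range j := by
    by_contra hcon
    rw [Set.not_subset] at hcon
    obtain ⟨y, hy1, hy2⟩ := hcon
    have hC : IsClosed ((Wb : Set Xb) \ Set.range j) := by
      rw [Set.sdiff_eq]
      exact hWbcl.inter j.isOpenEmbedding.isOpen_range.isClosed_compl
    obtain ⟨z, ⟨hz1, hz2⟩, hz3⟩ := nonempty_inter_locus I HenselianRing.jac fb _ hC ⟨y, hy1, hy2⟩
    have : z ∈ Set.range (g ≫ j) := by rw [← hWb]; exact ⟨hz1, hz3⟩
    rw [hrange] at this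
    obtain ⟨x, -, rfl⟩ := this
    exact hz2 ⟨x, rfl⟩
  refine ⟨j ⁻¹ᵁ Wb, ?_, ?_, ?_⟩
  · exact hWbcl.preimage j.continuous
  · -- `(j ⁻¹ᵁ Wb).ι ≫ j` is a closed immersion
    have hr : Set.range ((j ⁻¹ᵁ Wb).ι ≫ j) = (Wb : Set Xb) := by
      rw [Scheme.Hom.comp_base, TopCat.coe_comp, Set.range_comp, Scheme.Opens.range_ι]
      change j '' (j ⁻¹' (Wb : Set Xb)) = _
      rw [Set.image_preimage_eq_inter_range, Set.inter_eq_left.mpr hWbsub]
    haveI : IsClosedImmersion ((j ⁻¹ᵁ Wb).ι ≫ j) := by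
      refine IsClosedImmersion.of_isPreimmersion _ ?_
      rw [hr]; exact hWbcl
    have : (j ⁻¹ᵁ Wb).ι ≫ j ≫ fb = ((j ⁻¹ᵁ Wb).ι ≫ j) ≫ fb := by rw [Category.assoc]
    rw [this]
    infer_instance
  · change j ⁻¹' (Wb : Set Xb) ∩ locus I (j ≫ fb) = Set.range g
    rw [hloc, ← Set.preimage_inter, hWb, hrange,
      Set.preimage_image_eq _ j.isOpenEmbedding.injective]

theorem lifts_of_surjective (hI : I ≤ Ideal.jacobson ⊥) {X X' : Scheme.{u}} (π : X' ⟶ X)
    [IsProper π] [Surjective π] (f : X ⟶ Spec (CommRingCat.of A)) [IsSeparated f]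
    [LocallyOfFiniteType f] (h : Lifts I (π ≫ f)) : Lifts I f := by
  intro T g hg hsub hcl
  haveI := hg
  have hloc : locus I (π ≫ f) = π ⁻¹' locus I f := locus_comp I π f
  have hg' : IsProper (pullback.snd g π ≫ π ≫ f) := by
    rw [← pullback.condition_assoc]
    infer_instance
  have hrange : Set.range (pullback.snd g π) = π ⁻¹' Set.range g :=
    Scheme.Pullback.range_snd g π
  have hsub' : Set.range (pullback.snd g π) ⊆ locus I (π ≫ f) := by
    rw [hrange, hloc]
    exact Set.preimage_mono hsub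
  have hcl' : IsClosed (locus I (π ≫ f) \ Set.range (pullback.snd g π)) := by
    rw [hrange, hloc, ← Set.preimage_sdiff]
    exact hcl.preimage π.continuous
  obtain ⟨W', hW'cl, hW'p, hW'⟩ := h _ (pullback.snd g π) hg' hsub' hcl'
  haveI := hW'p
  rw [hrange, hloc] at hW'
  -- the two closed images
  have hWc : IsClosed (π '' (W' : Set X')) := π.isClosedMap _ hW'cl
  have hQ : IsClosed (π '' (W' : Set X')ᶜ) := π.isClosedMap _ W'.isOpen.isClosed_compl
  have hcover : π '' (W' : Set X') ∪ π '' (W' : Set X')ᶜ = Set.univ := by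
    rw [← Set.image_union, Set.union_compl_self, Set.image_univ]
    exact π.surjective.range_eq
  have hdisj : Disjoint (π '' (W' : Set X')) (π '' (W' : Set X')ᶜ) := by
    rw [Set.disjoint_iff_inter_eq_empty]
    by_contra hne
    obtain ⟨x, hx1, hx2⟩ := Set.nonempty_iff_ne_empty.mpr hne
    -- the closed subset of `W'` over the intersection
    let C : Set ↥W' := (W'.ι ≫ π) ⁻¹' (π '' (W' : Set X') ∩ π '' (W' : Set X')ᶜ)
    have hC : IsClosed C := (hWc.inter hQ).preimage (W'.ι ≫ π).continuous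
    have hCne : C.Nonempty := by
      obtain ⟨x', hx'W, rfl⟩ := hx1
      exact ⟨⟨x', hx'W⟩, ⟨⟨x', hx'W, rfl⟩, hx2⟩⟩
    have hfC : IsClosed ((W'.ι ≫ π ≫ f) '' C) := (W'.ι ≫ π ≫ f).isClosedMap _ hC
    obtain ⟨_, ⟨c, hc, rfl⟩, hc2⟩ := nonempty_inter_zeroLocus hI _ hfC (hCne.image _)
    -- `c.1 ∈ W'` lies over the locus
    have hc3 : π c.1 ∈ locus I f := hc2
    have hc4 : c.1 ∈ π ⁻¹' Set.range g := by
      rw [← hW']
      exact ⟨c.2, hc3⟩
    obtain ⟨x'', hx''1, hx''2⟩ := hc.2
    have hx''3 : x'' ∈ π ⁻¹' Set.range g := by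
      change π x'' ∈ Set.range g
      have : π x'' = π c.1 := hx''2
      rw [this]; exact hc4
    rw [← hW'] at hx''3
    exact hx''1 hx''3.1
  have hcompl : (π '' (W' : Set X')ᶜ)ᶜ = π '' (W' : Set X') := by
    ext x
    constructor
    · intro hx
      have : x ∈ π '' (W' : Set X') ∪ π '' (W' : Set X')ᶜ := by rw [hcover]; trivial
      exact this.resolve_right hx
    · intro hx hx2
      exact Set.disjoint_left.mp hdisj hx hx2
  let W : X.Opens := ⟨(π '' (W' : Set X')ᶜ)ᶜ, hQ.isOpen_compl⟩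
  have hWcoe : (W : Set X) = π '' (W' : Set X') := hcompl
  have hpre : π ⁻¹ᵁ W = W' := by
    ext x'
    change π x' ∈ (W : Set X) ↔ x' ∈ W'
    constructor
    · intro hx
      by_contra hx2
      exact hx ⟨x', hx2, rfl⟩
    · intro hx
      rw [hWcoe]
      exact ⟨x', hx, rfl⟩
  refine ⟨W, by rw [hWcoe]; exact hWc, ?_, ?_⟩
  · haveI : Surjective (π ∣_ W) := IsZariskiLocalAtTarget.restrict (P := @Surjective) ‹_› W
    have hcomp : IsProper ((π ∣_ W) ≫ W.ι ≫ f) := by
      rw [morphismRestrict_ι_assoc, hpre]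
      exact hW'p
    haveI : UniversallyClosed ((π ∣_ W) ≫ W.ι ≫ f) := hcomp.toUniversallyClosed
    haveI : UniversallyClosed (W.ι ≫ f) := UniversallyClosed.of_comp_surjective (π ∣_ W) (W.ι ≫ f)
    exact { }
  · rw [hWcoe]
    ext x
    constructor
    · rintro ⟨⟨x', hx'W, rfl⟩, hx2⟩
      have : x' ∈ (W' : Set X') ∩ π ⁻¹' locus I f := ⟨hx'W, hx2⟩
      rw [hW'] at this
      exact this
    · intro hx
      obtain ⟨x', rfl⟩ := π.surjective x
      have : x' ∈ (W' : Set X') ∩ π ⁻¹' locus I f := by rw [hW']; exact hx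
      exact ⟨⟨x', this.1, rfl⟩, this.2⟩

end Groth.Agent.Lib.HensProperLiftH8
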