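import Mathlib
import Groth.Agent.Lib.HensProperLift1_helper8
import Groth.Agent.Lib.NApxH_helper7
import Groth.Agent.Lib.ProjSpaceProper_helper4

/-!
# Lifting open-closed proper subschemes over a henselian pair, part 2 (helper8)

* `lifts_of_separated`: `Lifts I f` for `f` separated of finite type over a henselian pair (via Chow's
  lemma);
* `main1366`.
APPEND-ONLY once landed.
-/

set_option autoImplicit false
set_option linter.style.haveILetI false
universe u
open CategoryTheory CategoryTheory.Limits AlgebraicGeometry TopologicalSpace Opposite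

namespace Groth.Agent.Lib.HensProperLiftH8

open Groth.Agent.Lib.HensConnH4

variable {A : Type u} [CommRing A] (I : Ideal A)

theorem lifts_of_separated [hI : HenselianRing A I] {X : Scheme.{u}}
    (f : X ⟶ Spec (CommRingCat.of A)) [IsSeparated f] [LocallyOfFiniteType f] [QuasiCompact f] :
    Lifts I f := by
  obtain ⟨n, X', π, j, hj, hjπ, hπ1, hπ2⟩ := Groth.Agent.Lib.NApxH_helper7.chow_qcqs f
  haveI := hj
  haveI := hπ1
  haveI := hπ2
  refine lifts_of_surjective I HenselianRing.jac π f ?_
  rw [← hjπ]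
  haveI : CompactSpace X := QuasiCompact.compactSpace_of_compactSpace f
  haveI : CompactSpace X' := QuasiCompact.compactSpace_of_compactSpace π
  haveI : IsProper (CohB1.ProjSpaceOver.toBase n (Spec (CommRingCat.of A))) :=
    Groth.Agent.Lib.ProjSpaceProperH4.isProper_toBase n _
  haveI : QuasiSeparatedSpace (CohB1.ProjSpaceOver n (Spec (CommRingCat.of A))) :=
    quasiSeparatedSpace_of_quasiSeparated (CohB1.ProjSpaceOver.toBase n (Spec (CommRingCat.of A)))
  haveI : QuasiCompact j := inferInstance
  obtain ⟨Z, g₁, g₂, h1, h2, h12⟩ := IsImmersion.isImmersion_iff_exists_of_quasiCompact.mp hj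
  haveI := h1
  haveI := h2
  rw [← h12, Category.assoc]
  exact lifts_of_isOpenImmersion I g₁ (g₂ ≫ CohB1.ProjSpaceOver.toBase n (Spec (CommRingCat.of A)))

local notation "i₀" => Spec.map (CommRingCat.ofHom (Ideal.Quotient.mk I))

theorem main1366 [hI : HenselianRing A I]
    {X : Scheme.{u}} (f : X ⟶ Spec (CommRingCat.of A)) [IsSeparated f] [LocallyOfFiniteType f]
    [QuasiCompact f]
    (Y : (pullback f (Spec.map (CommRingCat.ofHom (Ideal.Quotient.mk I)))).Opens)
    (hYc : IsClosed (Y : Set ↑(pullback f (Spec.map (CommRingCat.ofHom (Ideal.Quotient.mk I))))))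
    (hYp : IsProper (Y.ι ≫ pullback.snd f (Spec.map (CommRingCat.ofHom (Ideal.Quotient.mk I))))) :
    ∃ W : X.Opens, IsClosed (W : Set ↑X) ∧ IsProper (W.ι ≫ f) ∧
      pullback.fst f (Spec.map (CommRingCat.ofHom (Ideal.Quotient.mk I))) ⁻¹ᵁ W = Y := by
  haveI := hYp
  haveI : IsClosedImmersion (Spec.map (CommRingCat.ofHom (Ideal.Quotient.mk I))) :=
    IsClosedImmersion.spec_of_surjective _ Ideal.Quotient.mk_surjective
  have hg : IsProper ((Y.ι ≫ pullback.fst f i₀) ≫ f) := by
    rw [Category.assoc, pullback.condition, ← Category.assoc]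
    infer_instance
  have hinj : Function.Injective (pullback.fst f i₀) :=
    (pullback.fst f i₀).isClosedEmbedding.injective
  have hrange : Set.range (Y.ι ≫ pullback.fst f i₀) = pullback.fst f i₀ '' (Y : Set _) := by
    rw [Scheme.Hom.comp_base, TopCat.coe_comp, Set.range_comp, Scheme.Opens.range_ι]
  have hloc : locus I f = Set.range (pullback.fst f i₀) := (range_fst_eq_locus I f).symm
  have hsub : Set.range (Y.ι ≫ pullback.fst f i₀) ⊆ locus I f := by
    rw [hrange, hloc]
    exact Set.image_subset_range _ _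
  have hcl : IsClosed (locus I f \ Set.range (Y.ι ≫ pullback.fst f i₀)) := by
    have : locus I f \ Set.range (Y.ι ≫ pullback.fst f i₀) =
        pullback.fst f i₀ '' (Y : Set _)ᶜ := by
      rw [hrange, hloc, Set.image_compl_eq_range_sdiff_image hinj]
    rw [this]
    exact (pullback.fst f i₀).isClosedMap _ Y.isOpen.isClosed_compl
  obtain ⟨W, hW1, hW2, hW3⟩ := lifts_of_separated I f _ _ hg hsub hcl
  refine ⟨W, hW1, hW2, ?_⟩
  ext x
  change pullback.fst f i₀ x ∈ (W : Set X) ↔ x ∈ Y
  constructor
  · intro hx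
    have : pullback.fst f i₀ x ∈ (W : Set X) ∩ locus I f := ⟨hx, by rw [hloc]; exact ⟨x, rfl⟩⟩
    rw [hW3, hrange] at this
    obtain ⟨y, hy, hyx⟩ := this
    rw [← hinj hyx]; exact hy
  · intro hx
    have : pullback.fst f i₀ x ∈ (W : Set X) ∩ locus I f := by
      rw [hW3, hrange]; exact ⟨x, hx, rfl⟩
    exact this.1

end Groth.Agent.Lib.HensProperLiftH8
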