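import Mathlib
import Groth.Agent.Lib.HenselQF_helper3

open CategoryTheory CategoryTheory.Limits AlgebraicGeometry

universe u

namespace Groth.Agent.HensQFH8

/-- For `e` idempotent in `S`, a localization `T` of `S` away from `e` is a finite `R`-module as
soon as `S/(1-e)` is. -/
theorem finite_of_away_idem (R S T : Type u) [CommRing R] [CommRing S] [CommRing T]
    [Algebra R S] [Algebra S T] [Algebra R T] [IsScalarTower R S T] (e : S)
    (he : IsIdempotentElem e) [IsLocalization.Away e T]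
    [Module.Finite R (S ⧸ Ideal.span ({1 - e} : Set S))] : Module.Finite R T := by
  haveI := IsLocalization.Away.quotient_of_isIdempotentElem he
  let E : (S ⧸ Ideal.span ({1 - e} : Set S)) ≃ₐ[S] T :=
    IsLocalization.algEquiv (Submonoid.powers e) _ _
  exact Module.Finite.equiv (E.toLinearEquiv.restrictScalars R)

/-- The structure map of an affine open of `X` over `Spec R` as a ring map out of `R`. -/
noncomputable def phi {R : Type u} [CommRing R] {X : Scheme.{u}}
    (f : X ⟶ Spec (CommRingCat.of R)) (U : X.Opens) : CommRingCat.of R ⟶ Γ(X, U) :=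
  (Scheme.ΓSpecIso (CommRingCat.of R)).inv ≫ f.appLE ⊤ U (by simp)

theorem phi_map {R : Type u} [CommRing R] {X : Scheme.{u}}
    (f : X ⟶ Spec (CommRingCat.of R)) {U W : X.Opens} (h : W ≤ U) :
    phi f U ≫ X.presheaf.map (homOfLE h).op = phi f W := by
  unfold phi
  rw [Category.assoc, Scheme.Hom.appLE_map]

theorem fromSpec_comp {R : Type u} [CommRing R] {X : Scheme.{u}}
    (f : X ⟶ Spec (CommRingCat.of R)) {U : X.Opens} (hU : IsAffineOpen U) :
    hU.fromSpec ≫ f = Spec.map (phi f U) := by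
  unfold phi
  rw [Spec.map_comp, ← Scheme.isoSpec_Spec_inv, ← IsAffineOpen.fromSpec_top,
    IsAffineOpen.SpecMap_appLE_fromSpec]

theorem ι_comp {R : Type u} [CommRing R] {X : Scheme.{u}}
    (f : X ⟶ Spec (CommRingCat.of R)) {U : X.Opens} (hU : IsAffineOpen U) :
    U.ι ≫ f = hU.isoSpec.hom ≫ Spec.map (phi f U) := by
  rw [← fromSpec_comp f hU, ← Category.assoc, hU.isoSpec_hom_fromSpec]

theorem isFinite_ι_comp {R : Type u} [CommRing R] {X : Scheme.{u}}
    (f : X ⟶ Spec (CommRingCat.of R)) {U : X.Opens} (hU : IsAffineOpen U)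
    (h : (phi f U).hom.Finite) : IsFinite (U.ι ≫ f) := by
  rw [ι_comp f hU]
  haveI : IsFinite (Spec.map (phi f U)) := (IsFinite.SpecMap_iff _).mpr h
  infer_instance

end Groth.Agent.HensQFH8

namespace Groth.Agent.HensQFH8

theorem phi_finiteType {R : Type u} [CommRing R] {X : Scheme.{u}}
    (f : X ⟶ Spec (CommRingCat.of R)) [LocallyOfFiniteType f] {U : X.Opens}
    (hU : IsAffineOpen U) : (phi f U).hom.FiniteType := by
  unfold phi
  rw [CommRingCat.hom_comp]
  refine RingHom.FiniteType.comp (f.finiteType_appLE (isAffineOpen_top _) hU (by simp)) ?_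
  exact RingHom.FiniteType.of_surjective _
    (ConcreteCategory.bijective_of_isIso (Scheme.ΓSpecIso (CommRingCat.of R)).inv).2

theorem phi_quasiFinite {R : Type u} [CommRing R] {X : Scheme.{u}}
    (f : X ⟶ Spec (CommRingCat.of R)) [LocallyQuasiFinite f] {U : X.Opens}
    (hU : IsAffineOpen U) : (phi f U).hom.QuasiFinite := by
  unfold phi
  rw [CommRingCat.hom_comp]
  refine RingHom.QuasiFinite.comp
    (LocallyQuasiFinite.quasiFinite_appLE (isAffineOpen_top _) hU (by simp)) ?_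
  exact RingHom.QuasiFinite.of_finite (RingHom.Finite.of_surjective _
    (ConcreteCategory.bijective_of_isIso (Scheme.ΓSpecIso (CommRingCat.of R)).inv).2)

/-- Around a point of the special fibre, a locally quasi-finite `R`-scheme (with `R` henselian
local) has an open neighbourhood finite over `R`. -/
theorem exists_finite_nbhd (R : Type u) [CommRing R] [HenselianLocalRing R] {X : Scheme.{u}}
    (f : X ⟶ Spec (CommRingCat.of R)) [LocallyQuasiFinite f] [LocallyOfFiniteType f] (x : X)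
    (hx : f.base x = IsLocalRing.closedPoint R) :
    ∃ V : X.Opens, x ∈ V ∧ IsFinite (V.ι ≫ f) := by
  obtain ⟨_, ⟨U, hU, rfl⟩, hxU, -⟩ :=
    X.isBasis_affineOpens.exists_subset_of_mem_open (Set.mem_univ x) isOpen_univ
  have hft := phi_finiteType f hU
  have hqf := phi_quasiFinite f hU
  algebraize [(phi f U).hom]
  obtain ⟨q, hq⟩ : ∃ q, q = hU.primeIdealOf ⟨x, hxU⟩ := ⟨_, rfl⟩
  have hqx : hU.fromSpec q = x := by rw [hq]; exact hU.fromSpec_primeIdealOf ⟨x, hxU⟩
  haveI : q.asIdeal.LiesOver (IsLocalRing.maximalIdeal R) := by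
    constructor
    have h1 : (hU.fromSpec ≫ f) q = IsLocalRing.closedPoint R := by
      rw [Scheme.Hom.comp_apply, hqx]; exact hx
    rw [fromSpec_comp f hU] at h1
    have h2 := congrArg PrimeSpectrum.asIdeal h1
    exact h2.symm
  obtain ⟨ε, hε, hεq, hfin⟩ :=
    Groth.Agent.Lib.HenselFiniteH3.exists_idem_finite R Γ(X, U) q.asIdeal
  have hW : IsAffineOpen (X.basicOpen ε) := hU.basicOpen ε
  have hWU : X.basicOpen ε ≤ U := X.basicOpen_le _
  refine ⟨X.basicOpen ε, ?_, ?_⟩
  · have h1 : q ∈ hU.fromSpec ⁻¹ᵁ X.basicOpen ε := by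
      rw [hU.fromSpec_preimage_basicOpen]
      exact hεq
    change hU.fromSpec q ∈ X.basicOpen ε at h1
    rwa [hqx] at h1
  · refine isFinite_ι_comp f hW ?_
    haveI := hU.isLocalization_basicOpen ε
    letI : Algebra R Γ(X, X.basicOpen ε) := (phi f (X.basicOpen ε)).hom.toAlgebra
    haveI : IsScalarTower R Γ(X, U) Γ(X, X.basicOpen ε) := by
      refine IsScalarTower.of_algebraMap_eq' ?_
      have := congrArg CommRingCat.Hom.hom (phi_map f hWU)
      rw [CommRingCat.hom_comp] at this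
      exact this.symm
    haveI := finite_of_away_idem R Γ(X, U) Γ(X, X.basicOpen ε) ε hε
    exact RingHom.finite_algebraMap.mpr inferInstance

end Groth.Agent.HensQFH8

namespace Groth.Agent.HensQFH8

theorem isClosed_of_isFinite {X S : Scheme.{u}} (f : X ⟶ S) [IsSeparated f] (V : X.Opens)
    [IsFinite (V.ι ≫ f)] : IsClosed (V : Set X) := by
  haveI : IsProper V.ι := IsProper.of_comp V.ι f
  have := V.ι.isClosedMap.isClosed_range
  rwa [Scheme.Opens.range_ι] at this

theorem isFinite_sup {X S : Scheme.{u}} (f : X ⟶ S) [IsSeparated f] [LocallyOfFiniteType f]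
    [LocallyQuasiFinite f] (V₁ V₂ : X.Opens)
    [IsFinite (V₁.ι ≫ f)] [IsFinite (V₂.ι ≫ f)] : IsFinite ((V₁ ⊔ V₂).ι ≫ f) := by
  let h : V₁.toScheme ⨿ V₂.toScheme ⟶ (V₁ ⊔ V₂).toScheme :=
    coprod.desc (X.homOfLE le_sup_left) (X.homOfLE le_sup_right)
  have hcomp : h ≫ (V₁ ⊔ V₂).ι ≫ f = coprod.desc (V₁.ι ≫ f) (V₂.ι ≫ f) := by
    apply coprod.hom_ext <;> simp [h]
  haveI : Surjective h := by
    constructor
    rintro ⟨x, hx⟩
    rcases hx with hx | hx
    · refine ⟨(coprod.inl : V₁.toScheme ⟶ _) ⟨x, hx⟩, ?_⟩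
      rw [← Scheme.Hom.comp_apply]
      simp only [h, coprod.inl_desc]
      exact Scheme.homOfLE_apply' _ _ _
    · refine ⟨(coprod.inr : V₂.toScheme ⟶ _) ⟨x, hx⟩, ?_⟩
      rw [← Scheme.Hom.comp_apply]
      simp only [h, coprod.inr_desc]
      exact Scheme.homOfLE_apply' _ _ _
  haveI : UniversallyClosed (h ≫ (V₁ ⊔ V₂).ι ≫ f) := by
    rw [hcomp]; infer_instance
  haveI : UniversallyClosed ((V₁ ⊔ V₂).ι ≫ f) := UniversallyClosed.of_comp_surjective h _
  haveI : QuasiCompact ((V₁ ⊔ V₂).ι ≫ f) := inferInstance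
  haveI : IsProper ((V₁ ⊔ V₂).ι ≫ f) := { }
  exact IsFinite.of_isProper_of_locallyQuasiFinite _

theorem isFinite_finset_sup {X S : Scheme.{u}} (f : X ⟶ S) [IsSeparated f]
    [LocallyOfFiniteType f] [LocallyQuasiFinite f] {ι : Type*} (s : Finset ι) (V : ι → X.Opens)
    (hV : ∀ i ∈ s, IsFinite ((V i).ι ≫ f)) : IsFinite ((s.sup V).ι ≫ f) := by
  refine Finset.sup_induction (p := fun W : X.Opens => IsFinite (W.ι ≫ f)) ?_ ?_ hV
  · haveI : IsEmpty ((⊥ : X.Opens) : Scheme) := by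
      constructor
      rintro ⟨x, hx⟩
      exact hx
    infer_instance
  · intro V₁ h₁ V₂ h₂
    exact isFinite_sup f V₁ V₂

/-- A closed subset of a finite `R`-scheme (with `R` local) missing the special fibre is empty. -/
theorem eq_empty_of_isClosed (R : Type u) [CommRing R] [IsLocalRing R] {X : Scheme.{u}}
    (f : X ⟶ Spec (CommRingCat.of R)) (W : X.Opens) [IsFinite (W.ι ≫ f)] (Z : Set X)
    (hZ : IsClosed Z) (hZW : Z ⊆ W)
    (hs : ∀ z ∈ Z, f.base z ≠ IsLocalRing.closedPoint R) : Z = ∅ := by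
  by_contra hne
  obtain ⟨z, hz⟩ := Set.nonempty_iff_ne_empty.mpr hne
  have h1 : IsClosed ((W.ι ≫ f) '' (W.ι ⁻¹' Z)) :=
    (W.ι ≫ f).isClosedMap _ (hZ.preimage W.ι.continuous)
  have h2 : f z ∈ (W.ι ≫ f) '' (W.ι ⁻¹' Z) :=
    ⟨⟨z, hZW hz⟩, hz, rfl⟩
  have h3 : IsLocalRing.closedPoint R ∈ (W.ι ≫ f) '' (W.ι ⁻¹' Z) :=
    (IsLocalRing.specializes_closedPoint (f z)).mem_closed h1 h2
  obtain ⟨w, hw, hw'⟩ := h3
  exact hs _ hw hw'

end Groth.Agent.HensQFH8

namespace Groth.Agent.HensQFH8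

theorem existsUnique_finite_part (R : Type u) [CommRing R] [HenselianLocalRing R]
    {X : Scheme.{u}} (f : X ⟶ Spec (CommRingCat.of R))
    [LocallyQuasiFinite f] [LocallyOfFiniteType f] [QuasiCompact f] [IsSeparated f] :
    ∃! W : X.Opens, IsClosed (W : Set X) ∧ IsFinite (W.ι ≫ f) ∧
      ∀ x : X, f.base x = IsLocalRing.closedPoint R → x ∈ W := by
  classical
  have hfin : (f ⁻¹' {IsLocalRing.closedPoint R}).Finite := f.finite_preimage_singleton _
  have hex : ∀ x : (f ⁻¹' {IsLocalRing.closedPoint R}),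
      ∃ V : X.Opens, x.1 ∈ V ∧ IsFinite (V.ι ≫ f) := fun x => exists_finite_nbhd R f x.1 x.2
  choose V hxV hV using hex
  haveI := hfin.fintype
  obtain ⟨W, hWdef⟩ : ∃ W : X.Opens, W = Finset.univ.sup V := ⟨_, rfl⟩
  have hWfin : IsFinite (W.ι ≫ f) := by
    rw [hWdef]; exact isFinite_finset_sup f _ V (fun i _ => hV i)
  have hWs : ∀ x : X, f.base x = IsLocalRing.closedPoint R → x ∈ W := fun x hx => by
    have : V ⟨x, hx⟩ ≤ W := by rw [hWdef]; exact Finset.le_sup (Finset.mem_univ _)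
    exact this (hxV ⟨x, hx⟩)
  refine ⟨W, ⟨isClosed_of_isFinite f W, hWfin, hWs⟩, ?_⟩
  rintro W' ⟨hW'c, hW'f, hW's⟩
  have hWc := isClosed_of_isFinite f W
  apply le_antisymm
  · have hZ : (W' : Set X) \ W = ∅ :=
      eq_empty_of_isClosed R f W' _ (hW'c.sdiff W.2) Set.sdiff_subset
        (fun z hz hfz => hz.2 (hWs z hfz))
    exact Set.sdiff_eq_empty.mp hZ
  · have hZ : (W : Set X) \ W' = ∅ :=
      eq_empty_of_isClosed R f W _ (hWc.sdiff W'.2) Set.sdiff_subset
        (fun z hz hfz => hz.2 (hW's z hfz))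
    exact Set.sdiff_eq_empty.mp hZ

end Groth.Agent.HensQFH8
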