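import Mathlib
import Groth.Prelude.Def_HensSch

/-!
# Distinguished opens of affine Henselian spectra (helper3)
APPEND-ONLY once landed.

* `exists_mul_pow_sub_mem`: modulo `I`, every section over `D(f) ∩ V(I)` is a fraction `a / f^n`.
* `basicOpen_eq_dOpen`: the non-vanishing locus of a section over a distinguished open of an affine
  Henselian spectrum is again a distinguished open.
-/

set_option autoImplicit false
set_option linter.all false
set_option maxHeartbeats 1600000

universe u

open CategoryTheory Opposite TopologicalSpace Topology AlgebraicGeometry HensSch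

namespace Groth.Agent.Lib.HensSchH3

section Alg

theorem henselianRing_bot (C : Type*) [CommRing C] : HenselianRing C ⊥ where
  jac := bot_le
  is_henselian := fun f hf a₀ h₁ h₂ => ⟨a₀, by simpa using h₁, by simp⟩

variable {A : Type u} [CommRing A]

theorem exists_mul_pow_sub_mem (I : Ideal A) (f : A) (B : Type u) [CommRing B] (φ : A →+* B)
    (h : IsHensAway A I f B φ) (s : B) :
    ∃ (a : A) (n : ℕ), s * φ f ^ n - φ a ∈ I.map φ := by
  obtain ⟨q, hq⟩ : ∃ q : B →+* B ⧸ I.map φ, q = Ideal.Quotient.mk (I.map φ) := ⟨_, rfl⟩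
  have hqI : ∀ i ∈ I, q (φ i) = 0 := by
    intro i hi
    rw [hq]
    exact Ideal.Quotient.eq_zero_iff_mem.mpr (Ideal.mem_map_of_mem φ hi)
  have hu : IsUnit ((q.comp φ) f) := h.1.map q
  obtain ⟨ψ, hψ⟩ : ∃ ψ : Localization.Away f →+* B ⧸ I.map φ,
      ∀ a, ψ (algebraMap A (Localization.Away f) a) = q (φ a) :=
    ⟨IsLocalization.Away.lift f hu, fun a => IsLocalization.Away.lift_eq f hu a⟩
  -- the Henselian pair `(ψ.range, ⊥)`
  let g : A →+* ψ.range := ψ.rangeRestrict.comp (algebraMap A (Localization.Away f))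
  have hgI : I.map g ≤ ⊥ := by
    rw [Ideal.map_le_iff_le_comap]
    intro i hi
    rw [Ideal.mem_comap, Ideal.mem_bot]
    apply Subtype.ext
    show ψ (algebraMap A (Localization.Away f) i) = 0
    rw [hψ, hqI i hi]
  have hgf : IsUnit (g f) :=
    (IsLocalization.Away.algebraMap_isUnit (S := Localization.Away f) f).map ψ.rangeRestrict
  obtain ⟨h₁, hh₁, -⟩ := h.2.2 ψ.range ⊥ g (henselianRing_bot _) hgI hgf
  -- uniqueness for `(B ⧸ I B, ⊥)`
  have hg₂I : I.map (q.comp φ) ≤ ⊥ := by
    rw [Ideal.map_le_iff_le_comap]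
    intro i hi
    rw [Ideal.mem_comap, Ideal.mem_bot]
    exact hqI i hi
  obtain ⟨h₂, -, huniq⟩ := h.2.2 (B ⧸ I.map φ) ⊥ (q.comp φ) (henselianRing_bot _) hg₂I hu
  have e1 : q = h₂ := huniq q rfl
  have e2 : (ψ.range.subtype).comp h₁ = h₂ := by
    apply huniq
    rw [RingHom.comp_assoc, hh₁]
    ext a
    show ψ (algebraMap A (Localization.Away f) a) = q (φ a)
    exact hψ a
  have hmem : q s ∈ ψ.range := by
    rw [e1, ← e2]
    exact (h₁ s).2
  obtain ⟨z, hz⟩ := hmem
  obtain ⟨n, a, hza⟩ := IsLocalization.Away.surj f z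
  refine ⟨a, n, ?_⟩
  have h3 : q (s * φ f ^ n - φ a) = 0 := by
    rw [map_sub, map_mul, map_pow, ← hz, ← hψ, ← hψ, ← map_pow, ← map_mul, hza, sub_self]
  rw [hq] at h3
  exact Ideal.Quotient.eq_zero_iff_mem.mp h3

end Alg

section Geom

variable {A : Type u} [CommRing A] {X : LocallyRingedSpace.{u}} (π : X ⟶ specLRS A)

/-- the global section of `X` attached to `a : A` -/
noncomputable def sec (a : A) : X.presheaf.obj (op ((Opens.map π.base).obj ⊤)) :=
  (π.c.app (op ⊤)).hom ((Scheme.ΓSpecIso (CommRingCat.of A)).inv.hom a)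

theorem secMap_apply (U : Opens (PrimeSpectrum A)) (a : A) :
    secMap π U a =
      (X.presheaf.map ((Opens.map π.base).map (homOfLE (le_top : U ≤ ⊤))).op).hom (sec π a) :=
  rfl

theorem basicOpen_sec (a : A) : X.toRingedSpace.basicOpen (sec π a) = dOpen π a := by
  have h1 := LocallyRingedSpace.preimage_basicOpen π
    (s := ((Scheme.ΓSpecIso (CommRingCat.of A)).inv.hom a :
      (specLRS A).presheaf.obj (op ⊤)))
  have h2 : (specLRS A).toRingedSpace.basicOpen
      ((Scheme.ΓSpecIso (CommRingCat.of A)).inv.hom a : (specLRS A).presheaf.obj (op ⊤)) =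
      PrimeSpectrum.basicOpen a :=
    basicOpen_eq_of_affine (R := CommRingCat.of A) a
  rw [h2] at h1
  exact h1.symm

theorem basicOpen_secMap (f a : A) :
    X.toRingedSpace.basicOpen (secMap π (PrimeSpectrum.basicOpen f) a) =
      dOpen π f ⊓ dOpen π a := by
  rw [secMap_apply]
  have := X.toRingedSpace.basicOpen_res
    ((Opens.map π.base).map (homOfLE (le_top : PrimeSpectrum.basicOpen f ≤ ⊤))).op (sec π a)
  refine this.trans ?_
  show dOpen π f ⊓ X.toRingedSpace.basicOpen (sec π a) = _
  rw [basicOpen_sec]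

theorem dOpen_mul (a f : A) : dOpen π (a * f) = dOpen π f ⊓ dOpen π a := by
  ext x
  simp only [dOpen, PrimeSpectrum.basicOpen_mul, Opens.map_coe, Opens.coe_inf,
    Set.mem_preimage, Set.mem_inter_iff, SetLike.mem_coe]
  exact ⟨fun h => ⟨h.2, h.1⟩, fun h => ⟨h.2, h.1⟩⟩

/-- germs of elements of `I · O(D(f))` are non-units -/
theorem basicOpen_add_of_mem (I : Ideal A) (hX : IsSph A I X π) (f : A)
    (s t : X.presheaf.obj (op (dOpen π f)))
    (ht : t ∈ I.map (secMap π (PrimeSpectrum.basicOpen f))) :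
    X.toRingedSpace.basicOpen (s + t) = X.toRingedSpace.basicOpen s := by
  have key : ∀ (x : X) (hx : x ∈ dOpen π f),
      (X.presheaf.germ (dOpen π f) x hx).hom t ∈
        IsLocalRing.maximalIdeal (X.presheaf.stalk x) := by
    intro x hx
    have hle : I.map (secMap π (PrimeSpectrum.basicOpen f)) ≤
        (IsLocalRing.maximalIdeal (X.presheaf.stalk x)).comap
          (X.presheaf.germ (dOpen π f) x hx).hom := by
      rw [Ideal.map_le_iff_le_comap]
      intro i hi
      rw [Ideal.mem_comap, Ideal.mem_comap, IsLocalRing.mem_maximalIdeal, mem_nonunits_iff]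
      intro hunit
      have hmem : x ∈ X.toRingedSpace.basicOpen (secMap π (PrimeSpectrum.basicOpen f) i) :=
        (X.toRingedSpace.mem_basicOpen _ x hx).mpr hunit
      rw [basicOpen_secMap] at hmem
      have hxi : π.base x ∈ PrimeSpectrum.basicOpen i := hmem.2
      have hzl : π.base x ∈ PrimeSpectrum.zeroLocus (I : Set A) := by
        rw [← hX.2.1]; exact ⟨x, rfl⟩
      exact hxi (hzl hi)
    exact hle ht
  ext x
  constructor
  · rintro ⟨hx, hu⟩
    refine ⟨hx, ?_⟩
    rw [map_add] at hu
    by_contra hnu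
    have h1 : (X.presheaf.germ (dOpen π f) x hx).hom s ∈
        IsLocalRing.maximalIdeal (X.presheaf.stalk x) := by
      rw [IsLocalRing.mem_maximalIdeal, mem_nonunits_iff]; exact hnu
    have h2 := Ideal.add_mem _ h1 (key x hx)
    rw [IsLocalRing.mem_maximalIdeal, mem_nonunits_iff] at h2
    exact h2 hu
  · rintro ⟨hx, hu⟩
    refine ⟨hx, ?_⟩
    rw [map_add]
    by_contra hnu
    have h1 : (X.presheaf.germ (dOpen π f) x hx).hom s +
        (X.presheaf.germ (dOpen π f) x hx).hom t ∈
        IsLocalRing.maximalIdeal (X.presheaf.stalk x) := by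
      rw [IsLocalRing.mem_maximalIdeal, mem_nonunits_iff]; exact hnu
    have h2 := (Ideal.add_mem_iff_left _ (key x hx)).mp h1
    rw [IsLocalRing.mem_maximalIdeal, mem_nonunits_iff] at h2
    exact h2 hu

/-- **Step A.** The non-vanishing locus of a section over a distinguished open of an affine
Henselian spectrum is a distinguished open. -/
theorem basicOpen_eq_dOpen (I : Ideal A) (hX : IsSph A I X π) (f : A)
    (s : X.presheaf.obj (op (dOpen π f))) :
    ∃ a : A, X.toRingedSpace.basicOpen s = dOpen π (a * f) := by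
  obtain ⟨a, n, han⟩ := exists_mul_pow_sub_mem I f _ _ (hX.2.2 f) s
  refine ⟨a, ?_⟩
  have hunit : IsUnit (secMap π (PrimeSpectrum.basicOpen f) f ^ n) := (hX.2.2 f).1.pow n
  have h1 : X.toRingedSpace.basicOpen (s * secMap π (PrimeSpectrum.basicOpen f) f ^ n) =
      X.toRingedSpace.basicOpen s := by
    rw [X.toRingedSpace.basicOpen_mul, X.toRingedSpace.basicOpen_of_isUnit hunit]
    exact inf_eq_left.mpr (X.toRingedSpace.basicOpen_le s)
  have h2 : s * secMap π (PrimeSpectrum.basicOpen f) f ^ n =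
      secMap π (PrimeSpectrum.basicOpen f) a +
        (s * secMap π (PrimeSpectrum.basicOpen f) f ^ n -
          secMap π (PrimeSpectrum.basicOpen f) a) := by ring
  rw [← h1, h2, basicOpen_add_of_mem π I hX f _ _ han, basicOpen_secMap, dOpen_mul]

end Geom

end Groth.Agent.Lib.HensSchH3
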