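import Mathlib
import Groth.Agent.Lib.HensSchTop1_helper3

/-!
# Transport of sections through open immersions of locally ringed spaces; S17949 (helper3)
APPEND-ONLY once landed.
-/

set_option autoImplicit false
set_option linter.all false
set_option maxHeartbeats 1600000

universe u

open CategoryTheory Opposite TopologicalSpace Topology AlgebraicGeometry HensSch

namespace Groth.Agent.Lib.HensSchH3

section Transport

variable {X U V : LocallyRingedSpace.{u}} (iU : U ⟶ X) [hiU : LocallyRingedSpace.IsOpenImmersion iU]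
  (iV : V ⟶ X) [hiV : LocallyRingedSpace.IsOpenImmersion iV]

/-- a section over an open `V₁` of `V` extends to the image open of `X`, and its non-vanishing
locus is the image of the non-vanishing locus. -/
theorem exists_section_image (V₁ : Opens V) (γ : V.presheaf.obj (op V₁)) :
    ∃ (W : Opens X) (t : X.presheaf.obj (op W)), (W : Set X) = iV.base '' (V₁ : Set V) ∧
      SetLike.coe (X.toRingedSpace.basicOpen t) =
        iV.base '' SetLike.coe (V.toRingedSpace.basicOpen γ) := by
  have hopen : IsOpenEmbedding iV.base := hiV.base_open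
  obtain ⟨W, hW⟩ : ∃ W : Opens X, W = hopen.functor.obj V₁ := ⟨_, rfl⟩
  have hWset : (W : Set X) = iV.base '' (V₁ : Set V) := by rw [hW]; rfl
  have hpre : (Opens.map iV.base).obj W = V₁ := by
    ext v
    simp only [Opens.map_coe, Set.mem_preimage, SetLike.mem_coe]
    rw [← SetLike.mem_coe, hWset]
    exact hopen.injective.mem_set_image
  haveI hiso : IsIso (iV.c.app (op W)) := by
    rw [hW]
    exact hiV.c_iso V₁
  -- the section `γ` on `iV⁻¹ W`
  obtain ⟨γ', hγ'⟩ : ∃ γ' : V.presheaf.obj (op ((Opens.map iV.base).obj W)),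
      V.toRingedSpace.basicOpen γ' = V.toRingedSpace.basicOpen γ := by
    refine ⟨(V.presheaf.map (eqToHom (congrArg op hpre.symm))).hom γ, ?_⟩
    exact V.toRingedSpace.basicOpen_res_eq (eqToHom (congrArg op hpre.symm)) γ
  obtain ⟨t, ht⟩ : ∃ t : X.presheaf.obj (op W), (iV.c.app (op W)).hom t = γ' := by
    have hbij := (ConcreteCategory.isIso_iff_bijective (iV.c.app (op W))).mp hiso
    exact hbij.2 γ'
  refine ⟨W, t, hWset, ?_⟩
  have h1 := LocallyRingedSpace.preimage_basicOpen iV t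
  have h2 : (Opens.map iV.base).obj (X.toRingedSpace.basicOpen t) =
      V.toRingedSpace.basicOpen γ := by
    rw [h1, ← hγ', ← ht]
  have hle : SetLike.coe (X.toRingedSpace.basicOpen t) ⊆ Set.range iV.base := by
    intro y hy
    have : y ∈ (W : Set X) := X.toRingedSpace.basicOpen_le t hy
    rw [hWset] at this
    obtain ⟨v, -, rfl⟩ := this
    exact ⟨v, rfl⟩
  rw [← h2]
  ext y
  constructor
  · intro hy
    obtain ⟨v, rfl⟩ := hle hy
    exact ⟨v, hy, rfl⟩
  · rintro ⟨v, hv, rfl⟩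
    exact hv

/-- pull a section over the image open of `U₁` back to `U₁`. -/
theorem exists_section_preimage (U₁ : Opens U) (W : Opens X) (t : X.presheaf.obj (op W))
    (hW : (W : Set X) = iU.base '' (U₁ : Set U)) :
    ∃ s : U.presheaf.obj (op U₁),
      iU.base '' SetLike.coe (U.toRingedSpace.basicOpen s) =
        SetLike.coe (X.toRingedSpace.basicOpen t) := by
  have hopen : IsOpenEmbedding iU.base := hiU.base_open
  have hpre : (Opens.map iU.base).obj W = U₁ := by
    ext v
    simp only [Opens.map_coe, Set.mem_preimage, SetLike.mem_coe]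
    rw [← SetLike.mem_coe, hW]
    exact hopen.injective.mem_set_image
  refine ⟨(U.presheaf.map (eqToHom (congrArg op hpre))).hom ((iU.c.app (op W)).hom t), ?_⟩
  have h0 : U.toRingedSpace.basicOpen
      ((U.presheaf.map (eqToHom (congrArg op hpre))).hom ((iU.c.app (op W)).hom t)) =
      U.toRingedSpace.basicOpen ((iU.c.app (op W)).hom t) :=
    U.toRingedSpace.basicOpen_res_eq (eqToHom (congrArg op hpre)) _
  have h1 := LocallyRingedSpace.preimage_basicOpen iU t
  rw [h0, ← h1]
  have hle : SetLike.coe (X.toRingedSpace.basicOpen t) ⊆ Set.range iU.base := by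
    intro y hy
    have : y ∈ (W : Set X) := X.toRingedSpace.basicOpen_le t hy
    rw [hW] at this
    obtain ⟨v, -, rfl⟩ := this
    exact ⟨v, rfl⟩
  ext y
  constructor
  · rintro ⟨v, hv, rfl⟩
    exact hv
  · intro hy
    obtain ⟨v, rfl⟩ := hle hy
    exact ⟨v, hy, rfl⟩

end Transport

section Main

/-- distinguished opens form a basis of an affine Henselian spectrum -/
theorem exists_dOpen_subset {A : Type u} [CommRing A] {X : LocallyRingedSpace.{u}}
    (π : X ⟶ specLRS A) (hemb : IsEmbedding π.base) (O : Opens X) (x : X) (hx : x ∈ O) :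
    ∃ f : A, x ∈ dOpen π f ∧ dOpen π f ≤ O := by
  obtain ⟨O', hO'open, hpre⟩ := hemb.isInducing.isOpen_iff.mp O.2
  have hx' : π.base x ∈ O' := by
    have : x ∈ π.base ⁻¹' O' := by rw [hpre]; exact hx
    exact this
  obtain ⟨_, ⟨f, rfl⟩, hxf, hsub⟩ :=
    (PrimeSpectrum.isTopologicalBasis_basic_opens (R := A)).exists_subset_of_mem_open hx' hO'open
  refine ⟨f, hxf, ?_⟩
  intro y hy
  have : y ∈ π.base ⁻¹' O' := hsub hy
  rw [hpre] at this
  exact this

theorem main17949 (X U V : LocallyRingedSpace.{u}) (iU : U ⟶ X)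
    [hiU : LocallyRingedSpace.IsOpenImmersion iU]
    (iV : V ⟶ X) [hiV : LocallyRingedSpace.IsOpenImmersion iV]
    (A : Type u) [CommRing A] (I : Ideal A) (πU : U ⟶ specLRS A) (hU : IsSph A I U πU)
    (B : Type u) [CommRing B] (J : Ideal B) (πV : V ⟶ specLRS B) (hV : IsSph B J V πV)
    (x : X) (hxU : x ∈ Set.range iU.base) (hxV : x ∈ Set.range iV.base) :
    ∃ (f : A) (g : B), x ∈ iU.base '' (dOpen πU f : Set U) ∧
      iU.base '' (dOpen πU f : Set U) = iV.base '' (dOpen πV g : Set V) := by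
  obtain ⟨u, rfl⟩ := hxU
  obtain ⟨v, hv⟩ := hxV
  have hoU : IsOpenEmbedding iU.base := hiU.base_open
  have hoV : IsOpenEmbedding iV.base := hiV.base_open
  obtain ⟨O₁, hO₁⟩ : ∃ O₁ : Opens U, (O₁ : Set U) = iU.base ⁻¹' Set.range iV.base :=
    ⟨⟨_, hoV.isOpen_range.preimage hoU.continuous⟩, rfl⟩
  have huO₁ : u ∈ O₁ := by
    rw [← SetLike.mem_coe, hO₁]
    exact ⟨v, hv⟩
  obtain ⟨f₁, huf₁, hf₁⟩ := exists_dOpen_subset πU hU.1 O₁ u huO₁
  obtain ⟨V₁, hV₁⟩ : ∃ V₁ : Opens V,
      (V₁ : Set V) = iV.base ⁻¹' (iU.base '' (dOpen πU f₁ : Set U)) :=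
    ⟨⟨_, (hoU.isOpenMap _ (dOpen πU f₁).2).preimage hoV.continuous⟩, rfl⟩
  have hvV₁ : v ∈ V₁ := by
    rw [← SetLike.mem_coe, hV₁]
    exact ⟨u, huf₁, hv.symm⟩
  obtain ⟨g₁, hvg₁, hg₁⟩ := exists_dOpen_subset πV hV.1 V₁ v hvV₁
  have himg : iV.base '' (V₁ : Set V) = iU.base '' (dOpen πU f₁ : Set U) := by
    rw [hV₁, Set.image_preimage_eq_inter_range]
    refine Set.inter_eq_left.mpr ?_
    rintro _ ⟨w, hw, rfl⟩
    have : w ∈ (O₁ : Set U) := hf₁ hw
    rw [hO₁] at this
    exact this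
  obtain ⟨γ, hγ⟩ : ∃ γ : V.presheaf.obj (op V₁), V.toRingedSpace.basicOpen γ = dOpen πV g₁ := by
    refine ⟨(V.presheaf.map (homOfLE (show V₁ ≤ (Opens.map πV.base).obj ⊤ from
      fun _ _ => trivial)).op).hom (sec πV g₁), ?_⟩
    have := V.toRingedSpace.basicOpen_res (homOfLE (show V₁ ≤ (Opens.map πV.base).obj ⊤ from
      fun _ _ => trivial)).op (sec πV g₁)
    refine this.trans ?_
    rw [basicOpen_sec]
    exact inf_eq_right.mpr hg₁
  obtain ⟨W, t, hW, ht⟩ := exists_section_image iV V₁ γ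
  have hW' : (W : Set X) = iU.base '' (dOpen πU f₁ : Set U) := hW.trans himg
  obtain ⟨s, hs⟩ := exists_section_preimage iU (dOpen πU f₁) W t hW'
  obtain ⟨a, ha⟩ := basicOpen_eq_dOpen πU I hU f₁ s
  have hfin : iU.base '' (dOpen πU (a * f₁) : Set U) = iV.base '' (dOpen πV g₁ : Set V) := by
    rw [← ha, hs, ht, hγ]
  refine ⟨a * f₁, g₁, ?_, hfin⟩
  rw [hfin]
  exact ⟨v, hvg₁, hv⟩

end Main

end Groth.Agent.Lib.HensSchH3
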