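import Mathlib
import Groth.Agent.Lib.HensQF1_helper8
import Groth.Agent.Lib.HensFinLift_lead
import Groth.Agent.Lib.HensSection_helper7

open CategoryTheory CategoryTheory.Limits AlgebraicGeometry

universe u

namespace Groth.Agent.HensSecH8

open Groth.Agent.HensQFH8

/-- A morphism from a local spectrum whose closed point lands in an affine open factors through
that affine open. -/
theorem exists_factor_of_local {X : Scheme.{u}} {U : X.Opens} (hU : IsAffineOpen U)
    (K : Type u) [CommRing K] [IsLocalRing K] (g : Spec (CommRingCat.of K) ⟶ X)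
    (hg : g.base (IsLocalRing.closedPoint K) ∈ U) :
    ∃ ψ : Γ(X, U) ⟶ CommRingCat.of K, g = Spec.map ψ ≫ hU.fromSpec := by
  have hr : Set.range g ⊆ Set.range hU.fromSpec := by
    rw [hU.range_fromSpec]
    rintro _ ⟨p, rfl⟩
    have h1 : p ⤳ IsLocalRing.closedPoint K := IsLocalRing.specializes_closedPoint p
    exact (h1.map g.continuous).mem_open U.2 hg
  refine ⟨Spec.preimage (IsOpenImmersion.lift hU.fromSpec g hr), ?_⟩
  rw [Spec.map_preimage, IsOpenImmersion.lift_fac]

theorem phi_etale {R : Type u} [CommRing R] {X : Scheme.{u}}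
    (f : X ⟶ Spec (CommRingCat.of R)) [Etale f] {U : X.Opens}
    (hU : IsAffineOpen U) : (phi f U).hom.Etale := by
  unfold phi
  rw [CommRingCat.hom_comp]
  have h1 : (f.appLE ⊤ U (by simp)).hom.Etale :=
    HasRingHomProperty.appLE (P := @Etale) f inferInstance ⟨⊤, isAffineOpen_top _⟩ ⟨U, hU⟩ _
  exact RingHom.Etale.respectsIso.2 _ (Scheme.ΓSpecIso (CommRingCat.of R)).symm.commRingCatIsoToRingEquiv h1

end Groth.Agent.HensSecH8

namespace Groth.Agent.HensSecH8

open Groth.Agent.HensQFH8

theorem existsUnique_section (R : Type u) [CommRing R]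
    [HenselianLocalRing R] {X : Scheme.{u}} (f : X ⟶ Spec (CommRingCat.of R)) [Etale f]
    (t : Spec (CommRingCat.of (IsLocalRing.ResidueField R)) ⟶ X)
    (ht : t ≫ f = Spec.map (CommRingCat.ofHom (IsLocalRing.residue R))) :
    ∃! s : Spec (CommRingCat.of R) ⟶ X,
      s ≫ f = 𝟙 (Spec (CommRingCat.of R)) ∧
        Spec.map (CommRingCat.ofHom (IsLocalRing.residue R)) ≫ s = t := by
  obtain ⟨x, hx⟩ : ∃ x, x = t.base (IsLocalRing.closedPoint (IsLocalRing.ResidueField R)) :=
    ⟨_, rfl⟩
  obtain ⟨_, ⟨U, hU, rfl⟩, hxU, -⟩ :=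
    X.isBasis_affineOpens.exists_subset_of_mem_open (Set.mem_univ x) isOpen_univ
  obtain ⟨ψ, hψ⟩ := exists_factor_of_local hU (IsLocalRing.ResidueField R) t (hx ▸ hxU)
  have hφψ : phi f U ≫ ψ = CommRingCat.ofHom (IsLocalRing.residue R) := by
    apply Spec.map_injective
    rw [Spec.map_comp, ← fromSpec_comp f hU, ← Category.assoc, ← hψ, ht]
  have het := phi_etale f hU
  algebraize [(phi f U).hom]
  -- `ψ` as an algebra map
  let ψa : Γ(X, U) →ₐ[R] IsLocalRing.ResidueField R :=
    { ψ.hom with
      commutes' := fun r => by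
        have := congrArg (fun χ => χ.hom r) hφψ
        simp only [CommRingCat.hom_comp, RingHom.comp_apply, CommRingCat.hom_ofHom] at this
        exact this }
  obtain ⟨σ, hσ⟩ := Groth.Agent.Lib.HensSection_helper7.exists_section_of_etale ψa
  -- key facts on sections landing in `U`
  have key : ∀ s' : Spec (CommRingCat.of R) ⟶ X, s' ≫ f = 𝟙 (Spec (CommRingCat.of R)) →
      Spec.map (CommRingCat.ofHom (IsLocalRing.residue R)) ≫ s' = t →
      ∃ σ' : Γ(X, U) →ₐ[R] R, s' = Spec.map (CommRingCat.ofHom σ'.toRingHom) ≫ hU.fromSpec ∧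
        ∀ b, IsLocalRing.residue R (σ' b) = ψ.hom b := by
    intro s' h1 h2
    have hcl : s'.base (IsLocalRing.closedPoint R) ∈ U := by
      have h3 : (Spec.map (CommRingCat.ofHom (IsLocalRing.residue R))).base
          (IsLocalRing.closedPoint (IsLocalRing.ResidueField R)) = IsLocalRing.closedPoint R :=
        IsLocalRing.comap_closedPoint (IsLocalRing.residue R)
      rw [← h3, ← Scheme.Hom.comp_apply, h2, ← hx]
      exact hxU
    obtain ⟨τ, hτ⟩ := exists_factor_of_local hU R s' hcl
    have hφτ : phi f U ≫ τ = 𝟙 _ := by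
      apply Spec.map_injective
      rw [Spec.map_comp, ← fromSpec_comp f hU, ← Category.assoc, ← hτ, h1, Spec.map_id]
    have hτψ : τ ≫ CommRingCat.ofHom (IsLocalRing.residue R) = ψ := by
      apply Spec.map_injective
      rw [← cancel_mono hU.fromSpec, Spec.map_comp, Category.assoc, ← hτ, h2, hψ]
    refine ⟨{ τ.hom with
      commutes' := fun r => by
        have := congrArg (fun χ => χ.hom r) hφτ
        simp only [CommRingCat.hom_comp, RingHom.comp_apply, CommRingCat.hom_id,
          RingHom.id_apply] at this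
        exact this }, ?_, fun b => ?_⟩
    · exact hτ
    · have := congrArg (fun χ => χ.hom b) hτψ
      simpa using this
  have hs1 : (Spec.map (CommRingCat.ofHom σ.toRingHom) ≫ hU.fromSpec) ≫ f =
      𝟙 (Spec (CommRingCat.of R)) := by
    rw [Category.assoc, fromSpec_comp f hU, ← Spec.map_comp, ← Spec.map_id]
    congr 1
    ext r
    exact σ.commutes r
  have hs2 : Spec.map (CommRingCat.ofHom (IsLocalRing.residue R)) ≫
      (Spec.map (CommRingCat.ofHom σ.toRingHom) ≫ hU.fromSpec) = t := by
    rw [← Category.assoc, ← Spec.map_comp, hψ]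
    congr 2
    ext b
    exact hσ b
  refine ⟨_, ⟨hs1, hs2⟩, ?_⟩
  rintro s' ⟨h1, h2⟩
  obtain ⟨σ', hσ', hres'⟩ := key s' h1 h2
  have heq : σ' = σ := by
    apply Groth.Agent.Lib.HensFinLift.algHom_eq_of_sub_mem_jacobson
    intro c
    rw [IsLocalRing.jacobson_eq_maximalIdeal (⊥ : Ideal R) bot_ne_top,
      ← IsLocalRing.residue_eq_zero_iff, map_sub, hres' c, hσ c]
    exact sub_self _
  rw [hσ', heq]

end Groth.Agent.HensSecH8
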