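import Mathlib
import Groth.Agent.Lib.HensSec1_helper8

open CategoryTheory CategoryTheory.Limits AlgebraicGeometry TensorProduct

universe u

namespace Groth.Agent.HensSmH8

/-- Over a henselian local ring, a residue-field point of a standard smooth algebra lifts to a
section. -/
theorem exists_section_of_isStandardSmooth {R : Type u} [CommRing R] [HenselianLocalRing R]
    {B : Type u} [CommRing B] [Algebra R B] (hB : (algebraMap R B).IsStandardSmooth)
    (ψ : B →ₐ[R] IsLocalRing.ResidueField R) :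
    ∃ σ : B →ₐ[R] R, ∀ b, IsLocalRing.residue R (σ b) = ψ b := by
  obtain ⟨n, g, hgC, hg⟩ := hB.exists_etale_mvPolynomial
  choose a ha using fun i : Fin n => IsLocalRing.residue_surjective (ψ (g (MvPolynomial.X i)))
  let ev : MvPolynomial (Fin n) R →ₐ[R] R := MvPolynomial.aeval a
  letI : Algebra (MvPolynomial (Fin n) R) R := ev.toRingHom.toAlgebra
  letI : Algebra (MvPolynomial (Fin n) R) B := g.toAlgebra
  haveI : Algebra.Etale (MvPolynomial (Fin n) R) B := RingHom.etale_algebraMap.mp hg
  letI : Algebra (MvPolynomial (Fin n) R) (IsLocalRing.ResidueField R) :=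
    ((IsLocalRing.residue R).comp ev.toRingHom).toAlgebra
  haveI : IsScalarTower (MvPolynomial (Fin n) R) R (IsLocalRing.ResidueField R) :=
    IsScalarTower.of_algebraMap_eq' rfl
  haveI : IsScalarTower R (MvPolynomial (Fin n) R) B :=
    IsScalarTower.of_algebraMap_eq' hgC.symm
  have hcomm : ∀ p : MvPolynomial (Fin n) R, ψ (g p) = IsLocalRing.residue R (ev p) := by
    intro p
    have h1 : (ψ.comp (IsScalarTower.toAlgHom R (MvPolynomial (Fin n) R) B)) =
        ((Algebra.ofId R (IsLocalRing.ResidueField R)).comp ev) := by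
      apply MvPolynomial.algHom_ext
      intro i
      show ψ (g (MvPolynomial.X i)) = IsLocalRing.residue R (MvPolynomial.aeval a (MvPolynomial.X i))
      rw [MvPolynomial.aeval_X, ha]
    exact AlgHom.congr_fun h1 p
  let ψP : B →ₐ[MvPolynomial (Fin n) R] IsLocalRing.ResidueField R :=
    { ψ.toRingHom with commutes' := fun p => hcomm p }
  let ψ' : R ⊗[MvPolynomial (Fin n) R] B →ₐ[R] IsLocalRing.ResidueField R :=
    Algebra.TensorProduct.liftEquivRight (MvPolynomial (Fin n) R) R B
      (IsLocalRing.ResidueField R) ψP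
  obtain ⟨σ', hσ'⟩ := Groth.Agent.Lib.HensSection_helper7.exists_section_of_etale ψ'
  let incl : B →+* R ⊗[MvPolynomial (Fin n) R] B :=
    (Algebra.TensorProduct.includeRight :
      B →ₐ[MvPolynomial (Fin n) R] R ⊗[MvPolynomial (Fin n) R] B).toRingHom
  refine ⟨{ toRingHom := σ'.toRingHom.comp incl, commutes' := fun r => ?_ }, fun b => ?_⟩
  · show σ' ((1 : R) ⊗ₜ[MvPolynomial (Fin n) R] (algebraMap R B r)) = r
    have h1 : (1 : R) ⊗ₜ[MvPolynomial (Fin n) R] (algebraMap R B r) =
        algebraMap R (R ⊗[MvPolynomial (Fin n) R] B) r := by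
      rw [IsScalarTower.algebraMap_apply R (MvPolynomial (Fin n) R) B, Algebra.algebraMap_eq_smul_one,
        ← TensorProduct.smul_tmul, Algebra.TensorProduct.algebraMap_apply]
      congr 1
      show ev (MvPolynomial.C r) * 1 = _
      rw [mul_one]
      exact MvPolynomial.aeval_C a r
    rw [h1, AlgHom.commutes]
    rfl
  · show IsLocalRing.residue R (σ' ((1 : R) ⊗ₜ[MvPolynomial (Fin n) R] b)) = ψ b
    rw [hσ']
    show Algebra.TensorProduct.lift (Algebra.ofId R (IsLocalRing.ResidueField R)) ψP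
      (fun _ _ => Commute.all _ _) ((1 : R) ⊗ₜ b) = ψ b
    rw [Algebra.TensorProduct.lift_tmul, map_one, one_mul]
    rfl

end Groth.Agent.HensSmH8

namespace Groth.Agent.HensSmH8

open Groth.Agent.HensQFH8 Groth.Agent.HensSecH8

theorem exists_section_of_smooth (A : Type u) [CommRing A] [HenselianLocalRing A]
    {X : Scheme.{u}} (f : X ⟶ Spec (CommRingCat.of A)) [Smooth f]
    (u₀ : Spec (CommRingCat.of (IsLocalRing.ResidueField A)) ⟶ X)
    (h₀ : u₀ ≫ f = Spec.map (CommRingCat.ofHom (IsLocalRing.residue A))) :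
    ∃ u : Spec (CommRingCat.of A) ⟶ X, u ≫ f = 𝟙 _ ∧
      Spec.map (CommRingCat.ofHom (IsLocalRing.residue A)) ≫ u = u₀ := by
  obtain ⟨x, hx⟩ : ∃ x, x = u₀.base (IsLocalRing.closedPoint (IsLocalRing.ResidueField A)) :=
    ⟨_, rfl⟩
  have hfx : f.base x = IsLocalRing.closedPoint A := by
    rw [hx, ← Scheme.Hom.comp_apply, h₀]
    exact IsLocalRing.comap_closedPoint (IsLocalRing.residue A)
  obtain ⟨U, hU, V, hV, hxV, e, hsm⟩ := Smooth.exists_isStandardSmooth f x
  obtain rfl : U = ⊤ := by
    rw [eq_top_iff]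
    rintro p -
    have hcl : IsLocalRing.closedPoint A ∈ U := by
      rw [← hfx]; exact e hxV
    exact (IsLocalRing.specializes_closedPoint p).mem_open U.2 hcl
  obtain ⟨ψ, hψ⟩ := exists_factor_of_local hV (IsLocalRing.ResidueField A) u₀ (hx ▸ hxV)
  have hφψ : phi f V ≫ ψ = CommRingCat.ofHom (IsLocalRing.residue A) := by
    apply Spec.map_injective
    rw [Spec.map_comp, ← fromSpec_comp f hV, ← Category.assoc, ← hψ, h₀]
  have hss : (phi f V).hom.IsStandardSmooth := by
    unfold phi
    rw [CommRingCat.hom_comp]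
    exact RingHom.isStandardSmooth_respectsIso.2 _
      (Scheme.ΓSpecIso (CommRingCat.of A)).symm.commRingCatIsoToRingEquiv hsm
  algebraize [(phi f V).hom]
  have hB : (algebraMap A Γ(X, V)).IsStandardSmooth := by
    rw [RingHom.algebraMap_toAlgebra]; exact hss
  let ψa : Γ(X, V) →ₐ[A] IsLocalRing.ResidueField A :=
    { ψ.hom with
      commutes' := fun r => by
        have := congrArg (fun χ => χ.hom r) hφψ
        simp only [CommRingCat.hom_comp, RingHom.comp_apply, CommRingCat.hom_ofHom] at this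
        exact this }
  obtain ⟨σ, hσ⟩ := exists_section_of_isStandardSmooth hB ψa
  refine ⟨Spec.map (CommRingCat.ofHom σ.toRingHom) ≫ hV.fromSpec, ?_, ?_⟩
  · rw [Category.assoc, fromSpec_comp f hV, ← Spec.map_comp, ← Spec.map_id]
    congr 1
    ext r
    exact σ.commutes r
  · rw [← Category.assoc, ← Spec.map_comp, hψ]
    congr 2
    ext b
    exact hσ b

end Groth.Agent.HensSmH8
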