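import Mathlib
import Groth.Agent.Lib.HensSmooth3_helper3
import Groth.Agent.S9237

/-!
# Henselizations of `R_p` and `S_q` have the same number of minimal primes for `R → S` smooth
with `κ(q)/κ(p)` purely inseparable (helper3)
-/

set_option autoImplicit false
set_option maxSynthPendingDepth 3
universe u

namespace Groth.Agent.Lib.HensSmoothH3

open TensorProduct IsLocalRing Groth.Agent.Lib.SmoothUnibranchH3

section RingL

attribute [local instance] Algebra.TensorProduct.rightAlgebra

open Groth.Agent.Lib.BrEtNbhdH3 in
theorem numBranches_le_of_smooth_localization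
    {R B : Type u} [CommRing R] [CommRing B] [Algebra R B] [Algebra.Smooth R B]
    (q : Ideal B) [q.IsPrime] (Bq : Type u) [CommRing Bq] [IsLocalRing Bq] [Algebra B Bq]
    [IsLocalization.AtPrime Bq q]
    (M : Submonoid R) (A : Type u) [CommRing A] [IsLocalRing A] [Algebra R A] [IsLocalization M A]
    (Ah : Type u) [CommRing Ah] [IsLocalRing Ah] [Algebra A Ah]
    [IsLocalHom (algebraMap A Ah)] [Hensel.IsHenselization A Ah]
    [Algebra A Bq] [Algebra R Bq] [IsScalarTower R A Bq] [IsScalarTower R B Bq]
    (e : ℕ) (hpi : PIRes A Bq (maximalIdeal Bq) e)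
    (hloc : ∀ a ∈ maximalIdeal A, ¬ IsUnit (algebraMap A Bq a)) :
    Brnch.numBranches Bq ≤ (minimalPrimes Ah).encard := by
  haveI : IsLocalization (Algebra.algebraMapSubmonoid B M) (A ⊗[R] B) :=
    IsLocalization.tensorRight (R := R) (S := B) A M
  let ψ : A ⊗[R] B →ₐ[A] Bq :=
    Algebra.TensorProduct.lift (Algebra.ofId A Bq) (IsScalarTower.toAlgHom R B Bq)
      (fun _ _ => Commute.all _ _)
  letI : Algebra (A ⊗[R] B) Bq := ψ.toRingHom.toAlgebra
  haveI : IsScalarTower A (A ⊗[R] B) Bq :=
    IsScalarTower.of_algebraMap_eq' (by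
      ext a
      simp [RingHom.algebraMap_toAlgebra, ψ, Algebra.TensorProduct.algebraMap_apply,
        Algebra.ofId_apply])
  have hcompB : algebraMap B Bq = (algebraMap (A ⊗[R] B) Bq).comp (algebraMap B (A ⊗[R] B)) := by
    ext b
    simp [RingHom.algebraMap_toAlgebra, ψ]
  haveI : IsScalarTower B (A ⊗[R] B) Bq := IsScalarTower.of_algebraMap_eq' hcompB
  have hle : Algebra.algebraMapSubmonoid B M ≤ q.primeCompl := by
    rintro _ ⟨r, hr, rfl⟩
    rw [← IsLocalization.AtPrime.isUnit_to_map_iff Bq q]
    have h1 : algebraMap B Bq (algebraMap R B r) = algebraMap A Bq (algebraMap R A r) := by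
      rw [← IsScalarTower.algebraMap_apply, ← IsScalarTower.algebraMap_apply]
    rw [h1]
    exact (IsLocalization.map_units A ⟨r, hr⟩).map _
  haveI hlocN : IsLocalization (q.primeCompl.map (algebraMap B (A ⊗[R] B))) Bq :=
    IsLocalization.isLocalization_of_submonoid_le (A ⊗[R] B) Bq
      (Algebra.algebraMapSubmonoid B M) q.primeCompl hle
  obtain ⟨p'', hp''⟩ : ∃ p'' : Ideal (A ⊗[R] B),
      p'' = (maximalIdeal Bq).comap (algebraMap (A ⊗[R] B) Bq) := ⟨_, rfl⟩
  haveI : p''.IsPrime := by rw [hp'']; exact Ideal.comap_isPrime _ _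
  haveI : IsLocalization.AtPrime Bq p'' := by
    refine IsLocalization.of_le (M := q.primeCompl.map (algebraMap B (A ⊗[R] B))) p''.primeCompl
      ?_ ?_
    · rintro _ ⟨b, hb, rfl⟩
      show (algebraMap B (A ⊗[R] B)) b ∉ p''
      rw [hp'', Ideal.mem_comap, ← IsScalarTower.algebraMap_apply, mem_maximalIdeal,
        mem_nonunits_iff, not_not, IsLocalization.AtPrime.isUnit_to_map_iff Bq q]
      exact hb
    · intro r hr
      have hr' : r ∉ p'' := hr
      rw [hp'', Ideal.mem_comap, mem_maximalIdeal, mem_nonunits_iff, not_not] at hr'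
      exact hr'
  apply numBranches_le_of_isLocalization_of_smooth A Ah (A ⊗[R] B) p'' Bq e hpi
  rw [Ideal.map_le_iff_le_comap]
  intro a ha
  rw [Ideal.mem_comap, hp'', Ideal.mem_comap, ← IsScalarTower.algebraMap_apply, mem_maximalIdeal,
    mem_nonunits_iff]
  exact hloc a ha

end RingL

section Final

/-- **smooth local homomorphisms with purely inseparable residue field extension preserve the
number of branches** -/
theorem encard_minimalPrimes_henselization_eq_of_smooth
    {R S Ah Bh : Type u} [CommRing R] [CommRing S]
    [Algebra R S] [Algebra.Smooth R S] (q : Ideal S) [q.IsPrime] (p : Ideal R) [p.IsPrime]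
    [q.LiesOver p]
    (hpi : @IsPurelyInseparable p.ResidueField q.ResidueField _ _
      (Ideal.ResidueField.mapₐ p q (Algebra.ofId R S) (q.over_def p)).toRingHom.toAlgebra)
    [CommRing Ah] [IsLocalRing Ah] [Algebra (Localization.AtPrime p) Ah]
    [IsLocalHom (algebraMap (Localization.AtPrime p) Ah)]
    [Hensel.IsHenselization (Localization.AtPrime p) Ah]
    [CommRing Bh] [IsLocalRing Bh] [Algebra (Localization.AtPrime q) Bh]
    [IsLocalHom (algebraMap (Localization.AtPrime q) Bh)]
    [Hensel.IsHenselization (Localization.AtPrime q) Bh] :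
    (minimalPrimes Ah).encard = (minimalPrimes Bh).encard := by
  have hA : (minimalPrimes Ah).encard = Brnch.numBranches (Localization.AtPrime p) := by
    rw [← Groth.Agent.S9237.result (Localization.AtPrime p) Ah, ENat.card_coe_set_eq]
  have hB : (minimalPrimes Bh).encard = Brnch.numBranches (Localization.AtPrime q) := by
    rw [← Groth.Agent.S9237.result (Localization.AtPrime q) Bh, ENat.card_coe_set_eq]
  have hpq : p = q.comap (algebraMap R S) := q.over_def p
  letI algAB : Algebra (Localization.AtPrime p) (Localization.AtPrime q) :=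
    (Localization.localRingHom p q (algebraMap R S) hpq).toAlgebra
  haveI : IsLocalHom (algebraMap (Localization.AtPrime p) (Localization.AtPrime q)) :=
    Localization.isLocalHom_localRingHom _ _ _ hpq
  haveI hflat : Module.Flat (Localization.AtPrime p) (Localization.AtPrime q) :=
    RingHom.Flat.localRingHom (RingHom.flat_algebraMap_iff.mpr inferInstance) q p hpq
  haveI tow2 : IsScalarTower R (Localization.AtPrime p) (Localization.AtPrime q) :=
    IsScalarTower.of_algebraMap_eq (fun r => by
      rw [IsScalarTower.algebraMap_apply R S (Localization.AtPrime q)]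
      show algebraMap S (Localization.AtPrime q) (algebraMap R S r) =
        Localization.localRingHom p q (algebraMap R S) hpq (algebraMap R _ r)
      rw [Localization.localRingHom_to_map])
  have hf : (Ideal.ResidueField.mapₐ p q (Algebra.ofId R S) (q.over_def p)).toRingHom =
      ResidueField.map (algebraMap (Localization.AtPrime p) (Localization.AtPrime q)) :=
    RingHom.ext fun x => rfl
  have hpi' : @IsPurelyInseparable (ResidueField (Localization.AtPrime p))
      (ResidueField (Localization.AtPrime q)) _ _
      (ResidueField.map (algebraMap (Localization.AtPrime p)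
        (Localization.AtPrime q))).toAlgebra := by
    rw [← hf]
    exact hpi
  have hPI := PIRes.of_isPurelyInseparable hpi'
  rw [hB]
  apply le_antisymm
  · rw [hA]
    exact numBranches_le_of_flat (Localization.AtPrime p) (Localization.AtPrime q)
  · refine numBranches_le_of_smooth_localization (R := R) (B := S) q (Localization.AtPrime q)
      p.primeCompl (Localization.AtPrime p) Ah _ hPI ?_
    intro a ha hunit
    exact ha (isUnit_of_map_unit (algebraMap (Localization.AtPrime p) (Localization.AtPrime q)) a
      hunit)

end Final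

end Groth.Agent.Lib.HensSmoothH3
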