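import Mathlib
import Groth.Agent.Lib.HensFlatModel_helper3

/-!
# Smooth finitely presented models of a flat henselization with smooth reduction (helper3)

* `isSmoothAt_of_smooth_quotient`: a flat f.p. `A`-algebra `S` with `S/IS` smooth over `A/I` is
  smooth over `A` at all primes containing `IS` (fibrewise criterion).
* `exists_smooth_away`: hence `S_g` is smooth over `A` for some `g ≡ 1 mod IS`.
* `away_model`: recentring a henselization at `R_g`, `g ≡ 1`.
* `main17601`.
-/

set_option autoImplicit false
universe u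

namespace Groth.Agent.Lib.HensSmoothModelH3

open TensorProduct Groth.Agent.Lib Groth.Agent.Lib.EtaleNbhd Groth.Agent.Lib.HensFlatModelH3

section Fibre

variable {A S : Type u} [CommRing A] [CommRing S] [Algebra A S]

theorem isSmoothAt_of_smooth_quotient [Module.Flat A S] [Algebra.FinitePresentation A S]
    (I : Ideal A) [Algebra.FormallySmooth (A ⧸ I) (S ⧸ I.map (algebraMap A S))]
    (q : Ideal S) [q.IsPrime] (hq : I.map (algebraMap A S) ≤ q) : Algebra.IsSmoothAt A q := by
  have hIp : I ≤ q.under A := fun a ha => hq (Ideal.mem_map_of_mem _ ha)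
  letI : Algebra (A ⧸ I) (q.under A).ResidueField :=
    (Ideal.Quotient.lift I (algebraMap A (q.under A).ResidueField) (fun a ha =>
      Ideal.algebraMap_residueField_eq_zero.2 (hIp ha))).toAlgebra
  haveI : IsScalarTower A (A ⧸ I) (q.under A).ResidueField :=
    IsScalarTower.of_algebraMap_eq (fun a => rfl)
  haveI : Algebra.FormallySmooth (A ⧸ I) ((A ⧸ I) ⊗[A] S) :=
    .of_equiv (Algebra.TensorProduct.quotIdealMapEquivQuotTensor S I)
  haveI : Algebra.FormallySmooth (q.under A).ResidueField
      ((q.under A).ResidueField ⊗[A ⧸ I] ((A ⧸ I) ⊗[A] S)) := inferInstance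
  haveI : Algebra.FormallySmooth (q.under A).ResidueField ((q.under A).Fiber S) :=
    .of_equiv (Algebra.TensorProduct.cancelBaseChange A (A ⧸ I) (q.under A).ResidueField
      (q.under A).ResidueField S)
  exact Algebra.IsSmoothAt.of_formallySmooth_fiber (q.under A) q

theorem exists_smooth_away [Module.Flat A S] [Algebra.FinitePresentation A S]
    (I : Ideal A) [Algebra.FormallySmooth (A ⧸ I) (S ⧸ I.map (algebraMap A S))] :
    ∃ g : S, g - 1 ∈ I.map (algebraMap A S) ∧ Algebra.Smooth A (Localization.Away g) := by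
  set U : Set (PrimeSpectrum S) := Algebra.smoothLocus A S with hU
  have hopen : IsOpen U := Algebra.isOpen_smoothLocus
  have hVU : ∀ q : PrimeSpectrum S, I.map (algebraMap A S) ≤ q.asIdeal → q ∈ U := by
    intro q hq
    haveI := q.isPrime
    exact isSmoothAt_of_smooth_quotient I q.asIdeal hq
  set c : Ideal S := PrimeSpectrum.vanishingIdeal Uᶜ with hc
  have hZ : PrimeSpectrum.zeroLocus (c : Set S) = Uᶜ := by
    rw [hc, PrimeSpectrum.zeroLocus_vanishingIdeal_eq_closure, hopen.isClosed_compl.closure_eq]
  have htop : c ⊔ I.map (algebraMap A S) = ⊤ := by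
    by_contra hne
    obtain ⟨m, hm, hle⟩ := Ideal.exists_le_maximal _ hne
    let q : PrimeSpectrum S := ⟨m, hm.isPrime⟩
    have h1 : q ∈ Uᶜ := by
      rw [← hZ, PrimeSpectrum.mem_zeroLocus]
      exact fun x hx => hle (Ideal.mem_sup_left hx)
    exact h1 (hVU q (le_trans le_sup_right hle))
  obtain ⟨g, hg, i, hi, hgi⟩ := Submodule.mem_sup.mp (htop ▸ (Submodule.mem_top : (1 : S) ∈ ⊤))
  refine ⟨g, ?_, ?_⟩
  · have : g - 1 = -i := by rw [← hgi]; ring
    rw [this]
    exact neg_mem hi
  · rw [← Algebra.basicOpen_subset_smoothLocus_iff_smooth]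
    intro Q hQ
    by_contra hQU
    have h1 : Q ∈ PrimeSpectrum.zeroLocus (c : Set S) := by rw [hZ]; exact hQU
    exact hQ (h1 hg)

end Fibre

section Model

variable {A R B : Type u} [CommRing A] [CommRing R] [CommRing B] [Algebra A R] [Algebra R B]
  [Algebra A B] [IsScalarTower A R B]

theorem away_model (I : Ideal A) (hB : Hens2.IsPairHenselization R (I.map (algebraMap A R)) B)
    (g : R) (hg : g - 1 ∈ I.map (algebraMap A R)) :
    ∃ (_ : Algebra (Localization.Away g) B) (_ : IsScalarTower A (Localization.Away g) B)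
      (_ : IsScalarTower R (Localization.Away g) B),
      Hens2.IsPairHenselization (Localization.Away g)
        (I.map (algebraMap A (Localization.Away g))) B := by
  letI := awayAlgebra hB g hg
  haveI := away_tower hB g hg
  have hh := away_hens hB g hg
  haveI : IsScalarTower A (Localization.Away g) B := by
    refine IsScalarTower.of_algebraMap_eq fun x => ?_
    rw [IsScalarTower.algebraMap_apply A R (Localization.Away g),
      ← IsScalarTower.algebraMap_apply R (Localization.Away g) B,
      ← IsScalarTower.algebraMap_apply A R B]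
  refine ⟨inferInstance, inferInstance, inferInstance, ?_⟩
  rw [Ideal.map_map, ← IsScalarTower.algebraMap_eq] at hh
  exact hh

/-- the reduction of the henselization agrees with the reduction of the base, over `A/I` -/
theorem quotient_algEquiv (I : Ideal A)
    (hB : Hens2.IsPairHenselization R (I.map (algebraMap A R)) B) :
    Nonempty ((R ⧸ I.map (algebraMap A R)) ≃ₐ[A ⧸ I] (B ⧸ I.map (algebraMap A B))) := by
  have hbij := PairHensQuot.quotientMap_bijective B (I.map (algebraMap A R)) hB.1 hB.2
  obtain ⟨hS, hI⟩ := (EtaleNbhd.bijective_iff (I.map (algebraMap A R)) B).1 hbij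
  have hmap : (I.map (algebraMap A R)).map (algebraMap R B) = I.map (algebraMap A B) := by
    rw [Ideal.map_map, ← IsScalarTower.algebraMap_eq]
  have hle : I.map (algebraMap A R) ≤ (I.map (algebraMap A B)).comap (algebraMap R B) := by
    rw [← hmap]; exact Ideal.le_comap_map
  let f : (R ⧸ I.map (algebraMap A R)) →ₐ[A ⧸ I] (B ⧸ I.map (algebraMap A B)) :=
    { Ideal.quotientMap (I.map (algebraMap A B)) (algebraMap R B) hle with
      commutes' := fun x => by
        obtain ⟨a, rfl⟩ := Ideal.Quotient.mk_surjective x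
        show Ideal.quotientMap (I.map (algebraMap A B)) (algebraMap R B) hle
          (Ideal.Quotient.mk _ (algebraMap A R a)) = Ideal.Quotient.mk _ (algebraMap A B a)
        rw [Ideal.quotientMap_mk, ← IsScalarTower.algebraMap_apply] }
  have hf : ∀ r : R, f (Ideal.Quotient.mk _ r) = Ideal.Quotient.mk _ (algebraMap R B r) :=
    fun r => Ideal.quotientMap_mk (H := hle)
  refine ⟨AlgEquiv.ofBijective f ⟨?_, ?_⟩⟩
  · rw [injective_iff_map_eq_zero]
    intro x hx
    obtain ⟨r, rfl⟩ := Ideal.Quotient.mk_surjective x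
    rw [hf, Ideal.Quotient.eq_zero_iff_mem, ← hmap] at hx
    exact Ideal.Quotient.eq_zero_iff_mem.2 (hI r hx)
  · intro y
    obtain ⟨b, rfl⟩ := Ideal.Quotient.mk_surjective y
    obtain ⟨r, hr⟩ := hS b
    refine ⟨Ideal.Quotient.mk _ r, ?_⟩
    rw [hf, eq_comm, Ideal.Quotient.eq, ← hmap]
    exact hr

end Model

theorem main17601 (A : Type u) [CommRing A] (I : Ideal A)
    (R₀ : Type u) [CommRing R₀] [Algebra A R₀] [Algebra.FinitePresentation A R₀]
    (B : Type u) [CommRing B] [Algebra R₀ B] [Algebra A B] [IsScalarTower A R₀ B]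
    (hB : Hens2.IsPairHenselization R₀ (I.map (algebraMap A R₀)) B) [Module.Flat A B]
    (het : ∀ r : ℕ, 1 ≤ r → Algebra.Smooth (A ⧸ I ^ r) (B ⧸ (I ^ r).map (algebraMap A B))) :
    ∃ (R : Type u) (_ : CommRing R) (_ : Algebra A R) (_ : Algebra R B) (_ : IsScalarTower A R B),
      Algebra.Smooth A R ∧ Hens2.IsPairHenselization R (I.map (algebraMap A R)) B := by
  have key : ∀ K : Ideal A, K = I → Algebra.Smooth (A ⧸ K) (B ⧸ K.map (algebraMap A B)) →
      Algebra.Smooth (A ⧸ I) (B ⧸ I.map (algebraMap A B)) := by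
    rintro K rfl h; exact h
  haveI hsm : Algebra.Smooth (A ⧸ I) (B ⧸ I.map (algebraMap A B)) :=
    key _ (pow_one I) (het 1 le_rfl)
  obtain ⟨g, hg, hflat⟩ := exists_flat_away A I R₀ B hB
  obtain ⟨alg, tow, tow', hh⟩ := away_model I hB g hg
  haveI : Algebra.FinitePresentation R₀ (Localization.Away g) :=
    IsLocalization.Away.finitePresentation g
  haveI : Algebra.FinitePresentation A (Localization.Away g) :=
    Algebra.FinitePresentation.trans A R₀ (Localization.Away g)
  obtain ⟨e⟩ := quotient_algEquiv (R := Localization.Away g) I hh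
  haveI : Algebra.FormallySmooth (A ⧸ I)
      (Localization.Away g ⧸ I.map (algebraMap A (Localization.Away g))) :=
    .of_equiv e.symm
  obtain ⟨g', hg', hsmooth⟩ := exists_smooth_away (A := A) (S := Localization.Away g) I
  obtain ⟨alg', tow₂, tow₂', hh'⟩ := away_model I hh g' hg'
  exact ⟨Localization.Away g', inferInstance, inferInstance, alg', tow₂, hsmooth, hh'⟩

end Groth.Agent.Lib.HensSmoothModelH3
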