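import Mathlib
import Groth.Prelude.Def_SGA4b
import Groth.Agent.Lib.HensStalk_helper7

/-!
# Sections over a strictly henselian local scheme are the stalk at the closed geometric point:
general coefficients (helper7)
-/

set_option autoImplicit false
set_option backward.isDefEq.respectTransparency false
universe u
open CategoryTheory CategoryTheory.Limits AlgebraicGeometry Opposite

namespace Groth.Agent.Lib.HensStalkGen_helper7

open Groth.Agent.Lib.HensStalk_helper7

variable (R : Type u) [CommRing R] [HenselianLocalRing R]
  [IsSepClosed (IsLocalRing.ResidueField R)]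

variable {A : Type*} [Category A] [HasColimitsOfSize.{u, u} A]
  {FC : A → A → Type*} {CC : A → Type*} [∀ (X Y : A), FunLike (FC X Y) (CC X) (CC Y)]
  [ConcreteCategory A FC] [PreservesFilteredColimitsOfSize.{u, u} (forget A)]

theorem bijective_toStalk_gen (P : (Spec (CommRingCat.of R)).Etaleᵒᵖ ⥤ A) :
    Function.Bijective ((Scheme.pointSmallEtale (clPt R)).toPresheafFiber
      (EtCoh.top (Spec (CommRingCat.of R))) (clLift R) P) := by
  constructor
  · intro z₁ z₂ h
    obtain ⟨Y, f, y, hy, heq⟩ :=
      ((Scheme.pointSmallEtale (clPt R)).toPresheafFiber_eq_iff' (P := P) _ (clLift R)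
        z₁ z₂).1 h
    obtain ⟨s, hs⟩ := exists_hom_of_lift R Y y
    have e := end_top (s ≫ f)
    have h1 : ∀ z : ToType (P.obj (op (EtCoh.top (Spec (CommRingCat.of R))))),
        P.map s.op (P.map f.op z) = z := by
      intro z
      rw [← ConcreteCategory.comp_apply, ← Functor.map_comp, ← op_comp, e, op_id,
        CategoryTheory.Functor.map_id, ConcreteCategory.id_apply]
    rw [← h1 z₁, heq, h1 z₂]
  · intro t
    obtain ⟨U, x, z, rfl⟩ :=
      (Scheme.pointSmallEtale (clPt R)).toPresheafFiber_jointly_surjective (P := P) t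
    obtain ⟨s, hs⟩ := exists_hom_of_lift R U x
    refine ⟨P.map s.op z, ?_⟩
    rw [← hs]
    exact (Scheme.pointSmallEtale (clPt R)).toPresheafFiber_w_apply s (clLift R) P z

end Groth.Agent.Lib.HensStalkGen_helper7
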