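import Mathlib
import Groth.Prelude.Def_SGA4b
import Groth.Prelude.Def_Hens2
import Groth.Agent.Lib.HensStalkGen_helper7
import Groth.Agent.Lib.EtSchPullConserv_helper7

/-!
# The fibre functor at the closed geometric point of a strict localisation (helper7)

For `R` strictly henselian local and `g : Spec R ⟶ X`, the fibre functor of étale sheaves of sets
on `X` at the geometric point `Spec κ(R) ⟶ Spec R ⟶ X` is isomorphic to `F ↦ Γ(Spec R, g⁻¹ F)`.
-/

set_option autoImplicit false
set_option backward.isDefEq.respectTransparency false
set_option linter.style.haveILetI false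
universe u
open CategoryTheory CategoryTheory.Limits AlgebraicGeometry Opposite

namespace Groth.Agent.Lib.HensStalkShH7

open Groth.Agent.Lib.HensStalk_helper7 Groth.Agent.Lib.HensStalkGen_helper7
  Groth.Agent.Lib.EtSchPullConserv_helper7

variable (R : Type u) [CommRing R] [HenselianLocalRing R]
  [IsSepClosed (IsLocalRing.ResidueField R)]

/-- Global sections over a strictly henselian local scheme are the stalk at the closed geometric
point, for sheaves of sets. -/
noncomputable def sectionsIsoFiber :
    (sheafSections (Spec (CommRingCat.of R)).smallEtaleTopology (Type (u + 1))).obj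
      (op (EtCoh.top (Spec (CommRingCat.of R)))) ≅
    (Scheme.pointSmallEtale (clPt R)).sheafFiber (A := Type (u + 1)) := by
  haveI : ∀ F : Sheaf (Spec (CommRingCat.of R)).smallEtaleTopology (Type (u + 1)),
      IsIso ((Scheme.pointSmallEtale (clPt R)).toPresheafFiber (EtCoh.top _) (clLift R) F.obj) :=
    fun F => (isIso_iff_bijective _).2 (bijective_toStalk_gen R F.obj)
  exact NatIso.ofComponents
    (fun F => asIso ((Scheme.pointSmallEtale (clPt R)).toPresheafFiber (EtCoh.top _)
      (clLift R) F.obj))
    (fun {F G} φ =>
      ((Scheme.pointSmallEtale (clPt R)).toPresheafFiber_naturality φ.hom _ _).symm)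

theorem main6180_gen {X : Scheme.{u}} (g : Spec (CommRingCat.of R) ⟶ X) :
    Nonempty ((Scheme.pointSmallEtale (clPt R ≫ g)).sheafFiber (A := Type (u + 1)) ≅
      EtDesc.pullSh g ⋙
        (sheafSections (Spec (CommRingCat.of R)).smallEtaleTopology (Type (u + 1))).obj
          (op (EtCoh.top (Spec (CommRingCat.of R))))) :=
  ⟨(stalkPullIsoSh g (clPt R)).symm ≪≫
    Functor.isoWhiskerLeft (EtDesc.pullSh g) (sectionsIsoFiber R).symm⟩

end Groth.Agent.Lib.HensStalkShH7
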