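import Mathlib
import Groth.Agent.Lib.EtaleNbhd_lead

/-!
# Truncations of the henselization of an `A`-algebra `R` along `IR` (lead)
-/

set_option autoImplicit false
universe u

namespace Groth.Agent.Lib.HensTrunc

open Groth.Agent.Lib

theorem exists_algEquiv_quotient (A : Type u) [CommRing A] (I : Ideal A)
    (R : Type u) [CommRing R] [Algebra A R]
    (B : Type u) [CommRing B] [Algebra R B] [Algebra A B] [IsScalarTower A R B]
    (hB : Hens2.IsPairHenselization R (I.map (algebraMap A R)) B) (r : ℕ) :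
    Nonempty ((R ⧸ (I ^ r).map (algebraMap A R)) ≃ₐ[A ⧸ I ^ r]
      (B ⧸ (I ^ r).map (algebraMap A B))) := by
  have e1 : (I.map (algebraMap A R)) ^ r = (I ^ r).map (algebraMap A R) :=
    (Ideal.map_pow _ _ _).symm
  have e2 : ((I ^ r).map (algebraMap A R)).map (algebraMap R B) = (I ^ r).map (algebraMap A B) := by
    rw [Ideal.map_map, ← IsScalarTower.algebraMap_eq]
  have hmapeq : ((I.map (algebraMap A R)) ^ r).map (algebraMap R B)
      = (I ^ r).map (algebraMap A B) := by rw [e1, e2]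
  have hbij := EtaleNbhd.quotient_pow_bijective hB r
  rw [EtaleNbhd.bijective_iff] at hbij
  obtain ⟨hS, hI⟩ := hbij
  let ψ : (R ⧸ (I ^ r).map (algebraMap A R)) →+* (B ⧸ (I ^ r).map (algebraMap A B)) :=
    Ideal.quotientMap _ (algebraMap R B) (by rw [← e2]; exact Ideal.le_comap_map)
  have hψmk : ∀ ρ : R, ψ (Ideal.Quotient.mk _ ρ) = Ideal.Quotient.mk _ (algebraMap R B ρ) :=
    fun ρ => Ideal.quotientMap_mk
  have hψ : Function.Bijective ψ := by
    refine ⟨(injective_iff_map_eq_zero ψ).2 fun z hz => ?_, fun w => ?_⟩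
    · obtain ⟨ρ, rfl⟩ := Ideal.Quotient.mk_surjective z
      rw [hψmk] at hz
      have h1 : algebraMap R B ρ ∈ (I ^ r).map (algebraMap A B) :=
        Ideal.Quotient.eq_zero_iff_mem.1 hz
      rw [← hmapeq] at h1
      have h2 := hI ρ h1
      rw [e1] at h2
      exact Ideal.Quotient.eq_zero_iff_mem.2 h2
    · obtain ⟨x, rfl⟩ := Ideal.Quotient.mk_surjective w
      obtain ⟨ρ, hρ⟩ := hS x
      rw [hmapeq] at hρ
      exact ⟨Ideal.Quotient.mk _ ρ, by rw [hψmk]; exact (Ideal.Quotient.eq.2 hρ).symm⟩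
  have hcomm : ∀ x : A ⧸ I ^ r, (RingEquiv.ofBijective ψ hψ)
      (algebraMap (A ⧸ I ^ r) (R ⧸ (I ^ r).map (algebraMap A R)) x)
      = algebraMap (A ⧸ I ^ r) (B ⧸ (I ^ r).map (algebraMap A B)) x := by
    intro x
    obtain ⟨a, rfl⟩ := Ideal.Quotient.mk_surjective x
    show ψ (Ideal.Quotient.mk _ (algebraMap A R a)) = Ideal.Quotient.mk _ (algebraMap A B a)
    rw [hψmk, ← IsScalarTower.algebraMap_apply]
  exact ⟨AlgEquiv.ofRingEquiv (f := RingEquiv.ofBijective ψ hψ) hcomm⟩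

end Groth.Agent.Lib.HensTrunc
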