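import Mathlib
import Groth.Agent.Lib.EtaleNbhd_lead
import Groth.Agent.Lib.PairHensCRT_lead

/-!
# Uniqueness of the henselization of a pair; quotient by an idempotent (lead)

* `hens_unique`: two henselizations of `(S, J)` are isomorphic under `S`.
* `quotient_idem_hens`: if `e ∈ S` is idempotent with `1 - e ∈ J` and `S/(1-e)` is henselian along
  `J`, then `S/(1-e)` is the henselization of `(S, J)`.
* `finite_quotient_iff`: transfer of module-finiteness of `X/IX` along `X → Y` inducing a bijection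
  mod `I`.
-/

set_option autoImplicit false
universe u

namespace Groth.Agent.Lib.HensUnique

open Groth.Agent.Lib

theorem hens_unique {S : Type u} [CommRing S] {J : Ideal S} {C₁ C₂ : Type u} [CommRing C₁]
    [CommRing C₂] [Algebra S C₁] [Algebra S C₂]
    (h₁ : Hens2.IsPairHenselization S J C₁) (h₂ : Hens2.IsPairHenselization S J C₂) :
    ∃ e : C₁ ≃+* C₂, ∀ s, e (algebraMap S C₁ s) = algebraMap S C₂ s := by
  obtain ⟨u, hu, -⟩ := h₁.2 C₂ (J.map (algebraMap S C₂)) (algebraMap S C₂) h₂.1 le_rfl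
  obtain ⟨v, hv, -⟩ := h₂.2 C₁ (J.map (algebraMap S C₁)) (algebraMap S C₁) h₁.1 le_rfl
  obtain ⟨w₁, -, hw₁⟩ := h₁.2 C₁ (J.map (algebraMap S C₁)) (algebraMap S C₁) h₁.1 le_rfl
  obtain ⟨w₂, -, hw₂⟩ := h₂.2 C₂ (J.map (algebraMap S C₂)) (algebraMap S C₂) h₂.1 le_rfl
  have hu' : u.comp (algebraMap S C₁) = algebraMap S C₂ := hu
  have hv' : v.comp (algebraMap S C₂) = algebraMap S C₁ := hv
  have hvu : v.comp u = RingHom.id C₁ := by
    have e1 : v.comp u = w₁ := by
      apply hw₁
      show (v.comp u).comp (algebraMap S C₁) = algebraMap S C₁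
      rw [RingHom.comp_assoc, hu', hv']
    have e2 : RingHom.id C₁ = w₁ := by
      apply hw₁
      show (RingHom.id C₁).comp (algebraMap S C₁) = algebraMap S C₁
      rw [RingHom.id_comp]
    rw [e1, e2]
  have huv : u.comp v = RingHom.id C₂ := by
    have e1 : u.comp v = w₂ := by
      apply hw₂
      show (u.comp v).comp (algebraMap S C₂) = algebraMap S C₂
      rw [RingHom.comp_assoc, hv', hu']
    have e2 : RingHom.id C₂ = w₂ := by
      apply hw₂
      show (RingHom.id C₂).comp (algebraMap S C₂) = algebraMap S C₂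
      rw [RingHom.id_comp]
    rw [e1, e2]
  refine ⟨RingEquiv.ofRingHom u v huv hvu, fun s => ?_⟩
  exact RingHom.congr_fun hu' s

theorem quotient_idem_hens {S : Type u} [CommRing S] (J : Ideal S) (e : S)
    (he : IsIdempotentElem e) (h1e : 1 - e ∈ J)
    (hF : HenselianRing (S ⧸ Ideal.span {1 - e})
      (J.map (algebraMap S (S ⧸ Ideal.span {1 - e})))) :
    Hens2.IsPairHenselization S J (S ⧸ Ideal.span {1 - e}) := by
  refine ⟨hF, ?_⟩
  intro E _ K f hE hfK
  have hidem : IsIdempotentElem (f (1 - e)) := he.one_sub.map f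
  have hmem : f (1 - e) ∈ K := hfK (Ideal.mem_map_of_mem f h1e)
  have h0 : f (1 - e) = 0 := PairHensCRT.idem_eq_zero_of_mem_jacobson hidem (hE.jac hmem)
  have hker : ∀ a ∈ (Ideal.span {1 - e} : Ideal S), f a = 0 := by
    intro a ha
    obtain ⟨c, rfl⟩ := Ideal.mem_span_singleton'.1 ha
    rw [map_mul, h0, mul_zero]
  refine ⟨Ideal.Quotient.lift _ f hker, ?_, ?_⟩
  · show (Ideal.Quotient.lift _ f hker).comp (algebraMap S (S ⧸ Ideal.span {1 - e})) = f
    ext s
    show Ideal.Quotient.lift _ f hker (Ideal.Quotient.mk _ s) = f s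
    exact Ideal.Quotient.lift_mk _ _ _
  · intro g hg
    have hg' : g.comp (algebraMap S (S ⧸ Ideal.span {1 - e})) = f := hg
    apply Ideal.Quotient.ringHom_ext
    ext s
    show g (Ideal.Quotient.mk _ s) = Ideal.Quotient.lift _ f hker (Ideal.Quotient.mk _ s)
    rw [Ideal.Quotient.lift_mk]
    exact RingHom.congr_fun hg' s

theorem finite_quotient_iff {A : Type u} [CommRing A] (I : Ideal A) (X Y : Type u) [CommRing X]
    [CommRing Y] [Algebra A X] [Algebra X Y] [Algebra A Y] [IsScalarTower A X Y]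
    (hbij : Function.Bijective (Ideal.quotientMap ((I.map (algebraMap A X)).map (algebraMap X Y))
      (algebraMap X Y) Ideal.le_comap_map)) :
    Module.Finite A (X ⧸ I.map (algebraMap A X)) ↔ Module.Finite A (Y ⧸ I.map (algebraMap A Y)) := by
  have hXY : (I.map (algebraMap A X)).map (algebraMap X Y) = I.map (algebraMap A Y) := by
    rw [Ideal.map_map, ← IsScalarTower.algebraMap_eq]
  obtain ⟨hS, hInj⟩ := (EtaleNbhd.bijective_iff (I.map (algebraMap A X)) Y).1 hbij
  have hle : I.map (algebraMap A X) ≤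
      (I.map (algebraMap A Y)).comap (IsScalarTower.toAlgHom A X Y) := by
    rw [← hXY]; exact Ideal.le_comap_map
  obtain ⟨ψ, hψdef⟩ : ∃ ψ : (X ⧸ I.map (algebraMap A X)) →ₐ[A] (Y ⧸ I.map (algebraMap A Y)),
      ψ = Ideal.quotientMapₐ (I.map (algebraMap A Y)) (IsScalarTower.toAlgHom A X Y) hle := ⟨_, rfl⟩
  have hψ : ∀ x : X, ψ (Ideal.Quotient.mk _ x) = Ideal.Quotient.mk _ (algebraMap X Y x) := by
    intro x; rw [hψdef]; rfl
  have hψbij : Function.Bijective ψ := by
    refine ⟨(injective_iff_map_eq_zero ψ).2 fun z hz => ?_, fun z => ?_⟩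
    · obtain ⟨x, rfl⟩ := Ideal.Quotient.mk_surjective z
      rw [hψ] at hz
      have hm := Ideal.Quotient.eq_zero_iff_mem.1 hz
      rw [← hXY] at hm
      exact Ideal.Quotient.eq_zero_iff_mem.2 (hInj x hm)
    · obtain ⟨y, rfl⟩ := Ideal.Quotient.mk_surjective z
      obtain ⟨x, hx⟩ := hS y
      rw [hXY] at hx
      exact ⟨Ideal.Quotient.mk _ x, by rw [hψ]; exact (Ideal.Quotient.eq.2 hx).symm⟩
  have e : (X ⧸ I.map (algebraMap A X)) ≃ₗ[A] (Y ⧸ I.map (algebraMap A Y)) :=
    LinearEquiv.ofBijective ψ.toLinearMap hψbij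
  exact ⟨fun h => Module.Finite.equiv e, fun h => Module.Finite.equiv e.symm⟩

end Groth.Agent.Lib.HensUnique
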