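import Mathlib

/-!
# The localization of the integral closure in a decomposition / inertia field is Henselian (helper3)

`R` an integrally closed domain with fraction field `K`, `Ks` a separable closure, `Rs` the integral
closure of `R` in `Ks`, `Ps` a maximal ideal of `Rs`.  For any set `H0` of automorphisms stabilizing
`Ps`, with `L` the fixed field of the subgroup generated by `H0` and `Q = Ps ∩ L`, the local ring
`(integralClosure R L)_Q` is Henselian.
-/

universe u

namespace HenselDecompH3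

open Polynomial IntermediateField
open scoped Pointwise

section stab

variable {R K Ks : Type u} [CommRing R] [Field K] [Algebra R K]
  [Field Ks] [Algebra K Ks] [Algebra R Ks] [IsScalarTower R K Ks]
  (Ps : Ideal (integralClosure R Ks))

/-- `z ∈ Ps`, as a predicate on `Ks`. -/
def InPs (z : Ks) : Prop := ∃ h : IsIntegral R z, (⟨z, h⟩ : integralClosure R Ks) ∈ Ps

variable {Ps}

theorem InPs.isIntegral {z : Ks} (h : InPs Ps z) : IsIntegral R z := h.1

theorem inPs_coe (x : integralClosure R Ks) : InPs Ps (x : Ks) ↔ x ∈ Ps :=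
  ⟨fun ⟨_, h⟩ => h, fun h => ⟨x.2, h⟩⟩

theorem InPs.add {z w : Ks} (hz : InPs Ps z) (hw : InPs Ps w) : InPs Ps (z + w) := by
  obtain ⟨hz1, hz2⟩ := hz
  obtain ⟨hw1, hw2⟩ := hw
  exact ⟨hz1.add hw1, Ps.add_mem hz2 hw2⟩

theorem InPs.neg {z : Ks} (hz : InPs Ps z) : InPs Ps (-z) := by
  obtain ⟨hz1, hz2⟩ := hz
  exact ⟨hz1.neg, Ps.neg_mem hz2⟩

theorem InPs.sub {z w : Ks} (hz : InPs Ps z) (hw : InPs Ps w) : InPs Ps (z - w) := by
  rw [sub_eq_add_neg]; exact hz.add hw.neg

theorem inPs_zero : InPs Ps (0 : Ks) := ⟨isIntegral_zero, Ps.zero_mem⟩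

theorem InPs.mul_left {z w : Ks} (hz : IsIntegral R z) (hw : InPs Ps w) : InPs Ps (z * w) := by
  obtain ⟨hw1, hw2⟩ := hw
  exact ⟨hz.mul hw1, Ps.mul_mem_left ⟨z, hz⟩ hw2⟩

theorem InPs.mul_right {z w : Ks} (hz : InPs Ps z) (hw : IsIntegral R w) : InPs Ps (z * w) := by
  rw [mul_comm]; exact hz.mul_left hw

theorem inPs_or_of_mul [Ps.IsPrime] {z w : Ks} (hz : IsIntegral R z) (hw : IsIntegral R w)
    (h : InPs Ps (z * w)) : InPs Ps z ∨ InPs Ps w := by
  obtain ⟨_, h2⟩ := h
  have h3 : (⟨z, hz⟩ : integralClosure R Ks) * ⟨w, hw⟩ ∈ Ps := h2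
  rcases Ideal.IsPrime.mem_or_mem inferInstance h3 with h4 | h4
  · exact Or.inl ⟨hz, h4⟩
  · exact Or.inr ⟨hw, h4⟩

theorem not_inPs_one [Ps.IsPrime] : ¬ InPs Ps (1 : Ks) := by
  rintro ⟨_, h2⟩
  have : (1 : integralClosure R Ks) ∈ Ps := h2
  exact (Ideal.IsPrime.ne_top inferInstance) ((Ideal.eq_top_iff_one _).mpr this)

variable (K) (Ps)

/-- The stabilizer of `Ps` in the Galois group. -/
def stab : Subgroup (Ks ≃ₐ[K] Ks) where
  carrier := {σ | ∀ z, InPs Ps z ↔ InPs Ps (σ z)}
  mul_mem' := by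
    intro σ τ hσ hτ z
    rw [hτ z, hσ (τ z)]
    rfl
  one_mem' := fun z => Iff.rfl
  inv_mem' := by
    intro σ hσ z
    rw [hσ (σ⁻¹ z)]
    have : σ (σ⁻¹ z) = z := σ.apply_symm_apply z
    rw [this]

theorem mem_stab {σ : Ks ≃ₐ[K] Ks} : σ ∈ stab K Ps ↔ ∀ z, InPs Ps z ↔ InPs Ps (σ z) := Iff.rfl

theorem isOpen_setOf_apply_mem [Algebra.IsIntegral K Ks] (z : Ks) (P : Set Ks) :
    IsOpen {σ : Ks ≃ₐ[K] Ks | σ z ∈ P} := by
  rw [isOpen_iff_mem_nhds]
  intro σ0 hσ0
  have hopen := stabilizer_isOpen_of_isIntegral (K := K) z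
  refine mem_nhds_iff.mpr ⟨σ0 • (MulAction.stabilizer (Ks ≃ₐ[K] Ks) z : Set (Ks ≃ₐ[K] Ks)), ?_,
    hopen.leftCoset σ0, ?_⟩
  · rintro τ ⟨ρ, hρ, rfl⟩
    have h1 : ρ z = z := hρ
    change (σ0 * ρ) z ∈ P
    rw [AlgEquiv.mul_apply, h1]
    exact hσ0
  · exact ⟨1, one_mem _, mul_one σ0⟩

theorem isClosed_stab [Algebra.IsIntegral K Ks] :
    IsClosed (stab K Ps : Set (Ks ≃ₐ[K] Ks)) := by
  have h : (stab K Ps : Set (Ks ≃ₐ[K] Ks)) = ⋂ z : Ks, {σ | InPs Ps z ↔ InPs Ps (σ z)} := by
    ext σ
    simp only [Set.mem_iInter, Set.mem_setOf_eq]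
    rfl
  rw [h]
  refine isClosed_iInter fun z => ?_
  by_cases hz : InPs Ps z
  · have : {σ : Ks ≃ₐ[K] Ks | InPs Ps z ↔ InPs Ps (σ z)}
        = {σ : Ks ≃ₐ[K] Ks | σ z ∈ {w | ¬ InPs Ps w}}ᶜ := by
      ext σ
      simp [hz]
    rw [this]
    exact (isOpen_setOf_apply_mem K z _).isClosed_compl
  · have : {σ : Ks ≃ₐ[K] Ks | InPs Ps z ↔ InPs Ps (σ z)}
        = {σ : Ks ≃ₐ[K] Ks | σ z ∈ {w | InPs Ps w}}ᶜ := by
      ext σ
      simp [hz]
    rw [this]
    exact (isOpen_setOf_apply_mem K z _).isClosed_compl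

/-- Elements fixing the fixed field of a subgroup generated by elements of the stabilizer lie in
the stabilizer. -/
theorem mem_stab_of_fixes [IsGalois K Ks] (H0 : Set (Ks ≃ₐ[K] Ks))
    (hH0 : H0 ⊆ (stab K Ps : Set (Ks ≃ₐ[K] Ks)))
    (τ : Ks ≃ₐ[K] Ks)
    (hτ : τ ∈ (IntermediateField.fixedField (Subgroup.closure H0)).fixingSubgroup) :
    τ ∈ stab K Ps := by
  have hcl : Subgroup.closure H0 ≤ stab K Ps := (Subgroup.closure_le _).mpr hH0
  let D : ClosedSubgroup (Ks ≃ₐ[K] Ks) := ⟨stab K Ps, isClosed_stab K Ps⟩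
  have h1 : (IntermediateField.fixedField (stab K Ps)).fixingSubgroup = stab K Ps :=
    InfiniteGalois.fixingSubgroup_fixedField D
  have h2 : IntermediateField.fixedField (stab K Ps)
      ≤ IntermediateField.fixedField (Subgroup.closure H0) := by
    rw [IntermediateField.le_iff_le]
    refine hcl.trans ?_
    rw [h1]
  have h3 : (IntermediateField.fixedField (Subgroup.closure H0)).fixingSubgroup
      ≤ (IntermediateField.fixedField (stab K Ps)).fixingSubgroup := by
    intro σ hσ
    rw [IntermediateField.mem_fixingSubgroup_iff] at hσ ⊢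
    intro x hx
    exact hσ x (h2 hx)
  rw [← h1]
  exact h3 hτ

/-- The decomposition-type automorphisms stabilize `Ps`. -/
theorem decomp_mem_stab [hmax : Ps.IsMaximal] (σ : Ks ≃ₐ[K] Ks)
    (hσ : ∀ x : integralClosure R Ks, x ∈ Ps →
      ∃ h : σ (x : Ks) ∈ integralClosure R Ks, (⟨σ (x : Ks), h⟩ : integralClosure R Ks) ∈ Ps) :
    σ ∈ stab K Ps := by
  let σR : Ks ≃ₐ[R] Ks := σ.restrictScalars R
  let σRs : integralClosure R Ks ≃ₐ[R] integralClosure R Ks := σR.mapIntegralClosure
  have hσRs : ∀ x : integralClosure R Ks, ((σRs x : integralClosure R Ks) : Ks) = σ (x : Ks) :=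
    fun x => rfl
  have hle : Ps ≤ Ps.comap (σRs : integralClosure R Ks →+* integralClosure R Ks) := by
    intro x hx
    obtain ⟨h, h2⟩ := hσ x hx
    rw [Ideal.mem_comap]
    have : (σRs x : integralClosure R Ks) = ⟨σ (x : Ks), h⟩ := Subtype.ext (hσRs x)
    change σRs x ∈ Ps
    rw [this]
    exact h2
  have hne : Ps.comap (σRs : integralClosure R Ks →+* integralClosure R Ks) ≠ ⊤ :=
    Ideal.comap_ne_top _ hmax.ne_top
  have heq : Ps = Ps.comap (σRs : integralClosure R Ks →+* integralClosure R Ks) :=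
    hmax.eq_of_le hne hle
  intro z
  constructor
  · rintro ⟨hz, hz2⟩
    obtain ⟨h, h2⟩ := hσ ⟨z, hz⟩ hz2
    exact ⟨h, h2⟩
  · rintro ⟨hz, hz2⟩
    have hz' : IsIntegral R z := by
      have := hz.map (σR.symm : Ks →ₐ[R] Ks)
      have h3 : (σR.symm : Ks →ₐ[R] Ks) (σ z) = z := σ.symm_apply_apply z
      rwa [h3] at this
    refine ⟨hz', ?_⟩
    rw [heq, Ideal.mem_comap]
    have : (σRs ⟨z, hz'⟩ : integralClosure R Ks) = ⟨σ z, hz⟩ := Subtype.ext (hσRs _)
    change σRs ⟨z, hz'⟩ ∈ Ps
    rw [this]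
    exact hz2

/-- The inertia-type automorphisms stabilize `Ps`. -/
theorem inertia_mem_stab (σ : Ks ≃ₐ[K] Ks)
    (hσ : ∀ x : integralClosure R Ks,
      ∃ h : σ (x : Ks) ∈ integralClosure R Ks,
        (⟨σ (x : Ks), h⟩ : integralClosure R Ks) - x ∈ Ps) :
    σ ∈ stab K Ps := by
  let σR : Ks ≃ₐ[R] Ks := σ.restrictScalars R
  intro z
  constructor
  · rintro ⟨hz, hz2⟩
    obtain ⟨h, h2⟩ := hσ ⟨z, hz⟩
    refine ⟨h, ?_⟩
    have := Ps.add_mem h2 hz2
    rwa [sub_add_cancel] at this
  · rintro ⟨hz, hz2⟩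
    have hz' : IsIntegral R z := by
      have := hz.map (σR.symm : Ks →ₐ[R] Ks)
      have h3 : (σR.symm : Ks →ₐ[R] Ks) (σ z) = z := σ.symm_apply_apply z
      rwa [h3] at this
    obtain ⟨h, h2⟩ := hσ ⟨z, hz'⟩
    refine ⟨hz', ?_⟩
    have := Ps.sub_mem hz2 h2
    rwa [sub_sub_cancel] at this

end stab

section localring

variable {R Ks : Type u} [CommRing R] [Field Ks] [Algebra R Ks]
  (Ps : Ideal (integralClosure R Ks))

/-- Membership in the local ring `(Rs)_{Ps}`, as a predicate on `Ks`. -/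
def InO (z : Ks) : Prop := ∃ s : Ks, IsIntegral R s ∧ ¬ InPs Ps s ∧ IsIntegral R (s * z)

/-- Membership in the maximal ideal of `(Rs)_{Ps}`, as a predicate on `Ks`. -/
def InmO (z : Ks) : Prop := ∃ s : Ks, IsIntegral R s ∧ ¬ InPs Ps s ∧ InPs Ps (s * z)

variable {Ps} [hP : Ps.IsPrime]

theorem not_inPs_mul {s t : Ks} (hs : IsIntegral R s) (ht : IsIntegral R t) (hs' : ¬ InPs Ps s)
    (ht' : ¬ InPs Ps t) : ¬ InPs Ps (s * t) := by
  intro h
  rcases inPs_or_of_mul hs ht h with h1 | h1
  · exact hs' h1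
  · exact ht' h1

theorem InmO.inO {z : Ks} (h : InmO Ps z) : InO Ps z := by
  obtain ⟨s, hs, hs', hz⟩ := h
  exact ⟨s, hs, hs', hz.isIntegral⟩

theorem inO_of_isIntegral {z : Ks} (h : IsIntegral R z) : InO Ps z :=
  ⟨1, isIntegral_one, not_inPs_one, by rwa [one_mul]⟩

theorem InO.add {z w : Ks} (hz : InO Ps z) (hw : InO Ps w) : InO Ps (z + w) := by
  obtain ⟨s, hs, hs', hz⟩ := hz
  obtain ⟨t, ht, ht', hw⟩ := hw
  refine ⟨s * t, hs.mul ht, not_inPs_mul hs ht hs' ht', ?_⟩
  have : s * t * (z + w) = t * (s * z) + s * (t * w) := by ring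
  rw [this]
  exact (ht.mul hz).add (hs.mul hw)

theorem InO.mul {z w : Ks} (hz : InO Ps z) (hw : InO Ps w) : InO Ps (z * w) := by
  obtain ⟨s, hs, hs', hz⟩ := hz
  obtain ⟨t, ht, ht', hw⟩ := hw
  refine ⟨s * t, hs.mul ht, not_inPs_mul hs ht hs' ht', ?_⟩
  have : s * t * (z * w) = (s * z) * (t * w) := by ring
  rw [this]
  exact hz.mul hw

theorem InO.neg {z : Ks} (hz : InO Ps z) : InO Ps (-z) := by
  obtain ⟨s, hs, hs', hz⟩ := hz
  refine ⟨s, hs, hs', ?_⟩
  rw [mul_neg]
  exact hz.neg

theorem InO.sub {z w : Ks} (hz : InO Ps z) (hw : InO Ps w) : InO Ps (z - w) := by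
  rw [sub_eq_add_neg]; exact hz.add hw.neg

theorem InmO.add {z w : Ks} (hz : InmO Ps z) (hw : InmO Ps w) : InmO Ps (z + w) := by
  obtain ⟨s, hs, hs', hz⟩ := hz
  obtain ⟨t, ht, ht', hw⟩ := hw
  refine ⟨s * t, hs.mul ht, not_inPs_mul hs ht hs' ht', ?_⟩
  have : s * t * (z + w) = t * (s * z) + s * (t * w) := by ring
  rw [this]
  exact (hz.mul_left ht).add (hw.mul_left hs)

theorem InmO.mul_left {z w : Ks} (hz : InO Ps z) (hw : InmO Ps w) : InmO Ps (z * w) := by
  obtain ⟨s, hs, hs', hz⟩ := hz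
  obtain ⟨t, ht, ht', hw⟩ := hw
  refine ⟨s * t, hs.mul ht, not_inPs_mul hs ht hs' ht', ?_⟩
  have : s * t * (z * w) = (s * z) * (t * w) := by ring
  rw [this]
  exact hw.mul_left hz

theorem InmO.mul_right {z w : Ks} (hz : InmO Ps z) (hw : InO Ps w) : InmO Ps (z * w) := by
  rw [mul_comm]; exact hz.mul_left hw

theorem inmO_zero : InmO Ps (0 : Ks) :=
  ⟨1, isIntegral_one, not_inPs_one, by rw [mul_zero]; exact inPs_zero⟩

theorem not_inmO_one : ¬ InmO Ps (1 : Ks) := by
  rintro ⟨s, hs, hs', h⟩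
  rw [mul_one] at h
  exact hs' h

theorem inmO_or_of_mul {z w : Ks} (hz : InO Ps z) (hw : InO Ps w) (h : InmO Ps (z * w)) :
    InmO Ps z ∨ InmO Ps w := by
  obtain ⟨s, hs, hs', hz⟩ := hz
  obtain ⟨t, ht, ht', hw⟩ := hw
  obtain ⟨r, hr, hr', h⟩ := h
  have h1 : InPs Ps (r * ((s * z) * (t * w))) := by
    have : r * ((s * z) * (t * w)) = (s * t) * (r * (z * w)) := by ring
    rw [this]
    exact h.mul_left (hs.mul ht)
  rcases inPs_or_of_mul hr (hz.mul hw) h1 with h2 | h2
  · exact absurd h2 hr'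
  · rcases inPs_or_of_mul hz hw h2 with h3 | h3
    · exact Or.inl ⟨s, hs, hs', h3⟩
    · exact Or.inr ⟨t, ht, ht', h3⟩

theorem inO_multiset_prod (m : Multiset Ks) (h : ∀ z ∈ m, InO Ps z) : InO Ps m.prod := by
  induction m using Multiset.induction_on with
  | empty => rw [Multiset.prod_zero]; exact inO_of_isIntegral isIntegral_one
  | cons a m ih =>
    rw [Multiset.prod_cons]
    exact (h a (Multiset.mem_cons_self a m)).mul
      (ih fun z hz => h z (Multiset.mem_cons_of_mem hz))

theorem inmO_multiset_prod (m : Multiset Ks) (h : ∀ z ∈ m, InmO Ps z) (hne : m ≠ 0) :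
    InmO Ps m.prod := by
  obtain ⟨a, ha⟩ := Multiset.exists_mem_of_ne_zero hne
  obtain ⟨m', rfl⟩ := Multiset.exists_cons_of_mem ha
  rw [Multiset.prod_cons]
  exact (h a ha).mul_right (inO_multiset_prod m' fun z hz =>
    (h z (Multiset.mem_cons_of_mem hz)).inO)

theorem exists_inmO_of_multiset_prod (m : Multiset Ks) (h : ∀ z ∈ m, InO Ps z)
    (hp : InmO Ps m.prod) : ∃ z ∈ m, InmO Ps z := by
  induction m using Multiset.induction_on with
  | empty => rw [Multiset.prod_zero] at hp; exact absurd hp not_inmO_one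
  | cons a m ih =>
    rw [Multiset.prod_cons] at hp
    rcases inmO_or_of_mul (h a (Multiset.mem_cons_self a m))
      (inO_multiset_prod m fun z hz => h z (Multiset.mem_cons_of_mem hz)) hp with h1 | h1
    · exact ⟨a, Multiset.mem_cons_self a m, h1⟩
    · obtain ⟨z, hz, hz'⟩ := ih (fun z hz => h z (Multiset.mem_cons_of_mem hz)) h1
      exact ⟨z, Multiset.mem_cons_of_mem hz, hz'⟩

theorem inmO_multiset_sum (m : Multiset Ks) (h : ∀ z ∈ m, InmO Ps z) : InmO Ps m.sum := by
  induction m using Multiset.induction_on with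
  | empty => rw [Multiset.sum_zero]; exact inmO_zero
  | cons a m ih =>
    rw [Multiset.sum_cons]
    exact (h a (Multiset.mem_cons_self a m)).add
      (ih fun z hz => h z (Multiset.mem_cons_of_mem hz))

end localring

section invariance

variable {R K Ks : Type u} [CommRing R] [Field K] [Algebra R K]
  [Field Ks] [Algebra K Ks] [Algebra R Ks] [IsScalarTower R K Ks]
  {Ps : Ideal (integralClosure R Ks)}

theorem isIntegral_apply (τ : Ks ≃ₐ[K] Ks) {z : Ks} (hz : IsIntegral R z) : IsIntegral R (τ z) :=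
  hz.map ((τ.restrictScalars R : Ks ≃ₐ[R] Ks) : Ks →ₐ[R] Ks)

theorem InO.apply {τ : Ks ≃ₐ[K] Ks} (hτ : τ ∈ stab K Ps) {z : Ks} (hz : InO Ps z) :
    InO Ps (τ z) := by
  obtain ⟨s, hs, hs', hz⟩ := hz
  refine ⟨τ s, isIntegral_apply τ hs, fun h => hs' ((hτ s).mpr h), ?_⟩
  rw [← map_mul]
  exact isIntegral_apply τ hz

theorem InmO.apply {τ : Ks ≃ₐ[K] Ks} (hτ : τ ∈ stab K Ps) {z : Ks} (hz : InmO Ps z) :
    InmO Ps (τ z) := by
  obtain ⟨s, hs, hs', hz⟩ := hz
  refine ⟨τ s, isIntegral_apply τ hs, fun h => hs' ((hτ s).mpr h), ?_⟩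
  rw [← map_mul]
  exact (hτ _).mp hz

end invariance

section factor

theorem exists_irreducible_factor {B : Type*} [CommRing B] [IsDomain B] [IsLocalRing B] (a₀ : B) :
    ∀ (n : ℕ) (f : B[X]), f.natDegree ≤ n → f.Monic →
      f.eval a₀ ∈ IsLocalRing.maximalIdeal B → IsUnit (f.derivative.eval a₀) →
      ∃ g : B[X], g.Monic ∧ Irreducible g ∧ g ∣ f ∧ g.eval a₀ ∈ IsLocalRing.maximalIdeal B ∧
        IsUnit (g.derivative.eval a₀) := by
  have hone : (1 : B) ∉ IsLocalRing.maximalIdeal B := fun h =>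
    (Ideal.IsPrime.ne_top inferInstance) ((Ideal.eq_top_iff_one _).mpr h)
  have key : ∀ (f p q : B[X]), p * q = f → f.eval a₀ ∈ IsLocalRing.maximalIdeal B →
      IsUnit (f.derivative.eval a₀) → p.eval a₀ ∈ IsLocalRing.maximalIdeal B →
      IsUnit (p.derivative.eval a₀) := by
    intro f p q hpq h1 h2 hpm
    have hder : f.derivative.eval a₀ = p.derivative.eval a₀ * q.eval a₀
        + p.eval a₀ * q.derivative.eval a₀ := by
      rw [← hpq, derivative_mul, eval_add, eval_mul, eval_mul]
    have hu : IsUnit (p.derivative.eval a₀ * q.eval a₀) := by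
      by_contra hnu
      have hm : p.derivative.eval a₀ * q.eval a₀ ∈ IsLocalRing.maximalIdeal B :=
        (IsLocalRing.mem_maximalIdeal _).mpr hnu
      have := Ideal.add_mem _ hm (Ideal.mul_mem_right (q.derivative.eval a₀) _ hpm)
      rw [← hder] at this
      exact ((IsLocalRing.mem_maximalIdeal _).mp this) h2
    exact isUnit_of_mul_isUnit_left hu
  intro n
  induction n with
  | zero =>
    intro f hn hf h1 h2
    have : f = 1 := hf.natDegree_eq_zero.mp (Nat.le_zero.mp hn)
    rw [this, eval_one] at h1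
    exact absurd h1 hone
  | succ n ih =>
    intro f hn hf h1 h2
    by_cases hirr : Irreducible f
    · exact ⟨f, hf, hirr, dvd_rfl, h1, h2⟩
    · rw [hf.irreducible_iff_natDegree] at hirr
      push_neg at hirr
      have hf1 : f ≠ 1 := by
        rintro rfl
        rw [eval_one] at h1
        exact hone h1
      obtain ⟨p, q, hp, hq, hpq, hp0, hq0⟩ := hirr hf1
      have hdeg : p.natDegree + q.natDegree = f.natDegree := by
        rw [← hpq, hp.natDegree_mul hq]
      have hev : p.eval a₀ * q.eval a₀ ∈ IsLocalRing.maximalIdeal B := by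
        rw [← eval_mul, hpq]; exact h1
      rcases (IsLocalRing.maximalIdeal.isMaximal B).isPrime.mem_or_mem hev with hpm | hqm
      · have hu' := key f p q hpq h1 h2 hpm
        obtain ⟨g, hg1, hg2, hg3, hg4, hg5⟩ := ih p (by omega) hp hpm hu'
        exact ⟨g, hg1, hg2, hg3.trans ⟨q, hpq.symm⟩, hg4, hg5⟩
      · have hu' := key f q p (by rw [mul_comm]; exact hpq) h1 h2 hqm
        obtain ⟨g, hg1, hg2, hg3, hg4, hg5⟩ := ih q (by omega) hq hqm hu'
        exact ⟨g, hg1, hg2, hg3.trans ⟨p, by rw [mul_comm]; exact hpq.symm⟩, hg4, hg5⟩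

end factor

section main

variable {R K Ks : Type u} [CommRing R] [IsDomain R] [Field K] [Algebra R K] [IsFractionRing R K]
  [Field Ks] [Algebra K Ks] [IsSepClosure K Ks] [Algebra R Ks] [IsScalarTower R K Ks]

set_option maxHeartbeats 1600000 in
/-- The general theorem. -/
theorem henselian_of_stab
    (Ps : Ideal (integralClosure R Ks)) [hmax : Ps.IsMaximal]
    (H0 : Set (Ks ≃ₐ[K] Ks)) (hH0 : H0 ⊆ (stab K Ps : Set (Ks ≃ₐ[K] Ks)))
    (L : IntermediateField K Ks) (hL : L = IntermediateField.fixedField (Subgroup.closure H0))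
    (Q : Ideal (integralClosure R L)) [Q.IsPrime]
    (hQ : ∀ y : integralClosure R L, y ∈ Q ↔
      ∃ x : integralClosure R Ks, x ∈ Ps ∧ (x : Ks) = ((y : L) : Ks)) :
    HenselianLocalRing (Localization.AtPrime Q) := by
  classical
  haveI hPprime : Ps.IsPrime := hmax.isPrime
  haveI : IsSepClosed Ks := IsSepClosure.sep_closed K
  haveI hRLKs : IsScalarTower R L Ks := IsScalarTower.of_algebraMap_eq (fun x => by
    rw [IsScalarTower.algebraMap_apply R K Ks, IsScalarTower.algebraMap_apply K L Ks,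
      ← IsScalarTower.algebraMap_apply R K L])
  haveI hRAKs : IsScalarTower R (integralClosure R L) Ks :=
    IsScalarTower.of_algebraMap_eq (fun x => by
      rw [IsScalarTower.algebraMap_apply R L Ks]; rfl)
  haveI : Algebra.IsAlgebraic R L :=
    (IsFractionRing.comap_isAlgebraic_iff (K := K) (A := R)).mpr inferInstance
  have hinjRL : ∀ x : R, algebraMap R L x = 0 → x = 0 := by
    intro x hx
    rw [IsScalarTower.algebraMap_apply R K L, map_eq_zero] at hx
    exact (IsFractionRing.to_map_eq_zero_iff (K := K)).mp hx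
  haveI hfrac : IsFractionRing (integralClosure R L) L :=
    integralClosure.isFractionRing_of_algebraic (A := R) (L := L) hinjRL
  haveI : IsIntegrallyClosed (integralClosure R L) :=
    (IsIntegrallyClosed.integralClosure_eq_bot_iff L).mp integralClosure_idem
  have hQle : Q.primeCompl ≤ nonZeroDivisors (integralClosure R L) :=
    Q.primeCompl_le_nonZeroDivisors
  haveI : IsDomain (Localization.AtPrime Q) := IsLocalization.isDomain_localization hQle
  haveI : IsIntegrallyClosed (Localization.AtPrime Q) :=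
    isIntegrallyClosed_of_isLocalization _ Q.primeCompl hQle
  have hunitsL : ∀ y : Q.primeCompl, IsUnit (algebraMap (integralClosure R L) L y) := by
    intro y
    refine IsUnit.mk0 _ ?_
    intro h
    have h0 : (y : integralClosure R L) = 0 :=
      (IsFractionRing.injective (integralClosure R L) L) (h.trans (map_zero _).symm)
    exact y.2 (h0 ▸ Q.zero_mem)
  letI algBL : Algebra (Localization.AtPrime Q) L :=
    (IsLocalization.lift (M := Q.primeCompl) (g := algebraMap (integralClosure R L) L)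
      hunitsL).toAlgebra
  haveI : IsScalarTower (integralClosure R L) (Localization.AtPrime Q) L :=
    IsScalarTower.of_algebraMap_eq (fun x => (IsLocalization.lift_eq hunitsL x).symm)
  haveI : IsFractionRing (Localization.AtPrime Q) L :=
    IsFractionRing.isFractionRing_of_isDomain_of_isLocalization Q.primeCompl _ L
  -- the map to Ks
  let ι : integralClosure R L →+* Ks := (algebraMap L Ks).comp (algebraMap (integralClosure R L) L)
  let φ : Localization.AtPrime Q →+* Ks :=
    (algebraMap L Ks).comp (algebraMap (Localization.AtPrime Q) L)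
  have hφι : ∀ a : integralClosure R L,
      φ (algebraMap (integralClosure R L) (Localization.AtPrime Q) a) = ι a := by
    intro a
    change algebraMap L Ks (algebraMap (Localization.AtPrime Q) L
      (algebraMap (integralClosure R L) (Localization.AtPrime Q) a)) = _
    rw [← IsScalarTower.algebraMap_apply (integralClosure R L) (Localization.AtPrime Q) L]
    rfl
  have hιint : ∀ a : integralClosure R L, IsIntegral R (ι a) := by
    intro a
    have h1 : IsIntegral R (a : L) := a.2
    exact h1.map (IsScalarTower.toAlgHom R L Ks)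
  have hιQ : ∀ a : integralClosure R L, InPs Ps (ι a) ↔ a ∈ Q := by
    intro a
    rw [hQ a]
    constructor
    · rintro ⟨h1, h2⟩
      exact ⟨⟨ι a, h1⟩, h2, rfl⟩
    · rintro ⟨x, hx, hxa⟩
      have : InPs Ps (x : Ks) := (inPs_coe x).mpr hx
      rw [hxa] at this
      exact this
  -- F1, F2
  have F1 : ∀ b : Localization.AtPrime Q, InO Ps (φ b) := by
    intro b
    obtain ⟨⟨a, s⟩, hb⟩ := IsLocalization.surj Q.primeCompl b
    have h2 := congrArg φ hb
    rw [map_mul, hφι, hφι] at h2
    refine ⟨ι s, hιint _, fun h => s.2 ((hιQ _).mp h), ?_⟩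
    rw [mul_comm, h2]
    exact hιint a
  have F2 : ∀ b : Localization.AtPrime Q, b ∈ IsLocalRing.maximalIdeal (Localization.AtPrime Q) →
      InmO Ps (φ b) := by
    intro b hbm
    obtain ⟨⟨a, s⟩, hb⟩ := IsLocalization.surj Q.primeCompl b
    have h2 := congrArg φ hb
    rw [map_mul, hφι, hφι] at h2
    have ha : a ∈ Q := by
      have h3 : algebraMap (integralClosure R L) (Localization.AtPrime Q) a
          ∈ IsLocalRing.maximalIdeal (Localization.AtPrime Q) := by
        rw [← hb]
        exact Ideal.mul_mem_right _ _ hbm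
      exact (IsLocalization.AtPrime.to_map_mem_maximal_iff (Localization.AtPrime Q) Q a).mp h3
    refine ⟨ι s, hιint _, fun h => s.2 ((hιQ _).mp h), ?_⟩
    rw [mul_comm, h2]
    exact (hιQ a).mpr ha
  -- F5
  have F5 : ∀ (g : (Localization.AtPrime Q)[X]), g.Monic → ∀ x : Ks, (g.map φ).eval x = 0 →
      InO Ps x := by
    intro g hg x hx
    letI algBKs : Algebra (Localization.AtPrime Q) Ks := φ.toAlgebra
    haveI : IsScalarTower (integralClosure R L) (Localization.AtPrime Q) Ks :=
      IsScalarTower.of_algebraMap_eq (fun a => (hφι a).symm)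
    have hxint : IsIntegral (Localization.AtPrime Q) x := by
      refine ⟨g, hg, ?_⟩
      rw [← eval_map]
      exact hx
    obtain ⟨m, hm⟩ := hxint.exists_multiple_integral_of_isLocalization Q.primeCompl x
    have hm2 : IsIntegral R (m • x) := isIntegral_trans _ hm
    have hm3 : m • x = ι m * x := by
      rw [Submonoid.smul_def, Algebra.smul_def]
      rfl
    rw [hm3] at hm2
    exact ⟨ι m, hιint _, fun h => m.2 ((hιQ _).mp h), hm2⟩
  -- Henselian property
  refine { toIsLocalRing := inferInstance, is_henselian := ?_ }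
  intro f hf a₀ h1 h2
  obtain ⟨g, hg, hgirr, hgf, hg1, hg2⟩ :=
    exists_irreducible_factor a₀ f.natDegree f le_rfl hf h1 h2
  -- it suffices to show that `g` has degree one
  suffices hdeg : g.natDegree = 1 by
    have hgX : g = X + C (g.coeff 0) := hg.eq_X_add_C hdeg
    refine ⟨-(g.coeff 0), ?_, ?_⟩
    · obtain ⟨q, hq⟩ := hgf
      rw [IsRoot.def, hq, eval_mul, hgX]
      simp
    · have h3 : g.eval a₀ = a₀ + g.coeff 0 := by
        conv_lhs => rw [hgX]
        simp
      rw [h3] at hg1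
      have : -(g.coeff 0) - a₀ = -(a₀ + g.coeff 0) := by ring
      rw [this]
      exact Ideal.neg_mem_iff _ |>.mpr hg1
  -- the polynomial over L and Ks
  have hgLirr : Irreducible (g.map (algebraMap (Localization.AtPrime Q) L)) :=
    (hg.irreducible_iff_irreducible_map_fraction_map (K := L)).mp hgirr
  have hgder : (g.map (algebraMap (Localization.AtPrime Q) L)).derivative ≠ 0 := by
    rw [derivative_map]
    intro h0
    have h3 : g.derivative = 0 := by
      apply Polynomial.map_injective _ (IsFractionRing.injective (Localization.AtPrime Q) L)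
      rw [h0, Polynomial.map_zero]
    rw [h3, eval_zero] at hg2
    exact not_isUnit_zero hg2
  have hgsep : (g.map (algebraMap (Localization.AtPrime Q) L)).Separable :=
    (separable_iff_derivative_ne_zero hgLirr).mpr hgder
  have hsplit : ((g.map (algebraMap (Localization.AtPrime Q) L)).map (algebraMap L Ks)).Splits :=
    IsSepClosed.splits_codomain _ hgsep
  rw [Polynomial.map_map] at hsplit
  change (g.map φ).Splits at hsplit
  have hmonic : (g.map φ).Monic := hg.map φ
  have hcard : (g.map φ).roots.card = g.natDegree := by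
    rw [← hsplit.natDegree_eq_card_roots, hg.natDegree_map]
  have hgpos : g.natDegree ≠ 0 := by
    intro h0
    have : g = 1 := hg.natDegree_eq_zero.mp h0
    exact hgirr.not_isUnit (this ▸ isUnit_one)
  by_contra hne
  have hge2 : 2 ≤ g.natDegree := by omega
  -- evaluation at α
  set α : Ks := φ a₀ with hα
  have hαO : InO Ps α := F1 a₀
  have hrootO : ∀ x ∈ (g.map φ).roots, InO Ps x := by
    intro x hx
    exact F5 g hg x ((mem_roots hmonic.ne_zero).mp hx)
  have hevalα : (g.map φ).eval α = φ (g.eval a₀) := by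
    rw [eval_map, hα, eval₂_at_apply]
  have hprod : InmO Ps (((g.map φ).roots.map (α - ·)).prod) := by
    rw [← hsplit.eval_eq_prod_roots_of_monic hmonic, hevalα]
    exact F2 _ hg1
  obtain ⟨w, hw, hwm⟩ := exists_inmO_of_multiset_prod _ (by
    intro z hz
    obtain ⟨x, hx, rfl⟩ := Multiset.mem_map.mp hz
    exact hαO.sub (hrootO x hx)) hprod
  obtain ⟨x0, hx0, rfl⟩ := Multiset.mem_map.mp hw
  -- all roots are conjugate
  have hall : ∀ x ∈ (g.map φ).roots, InmO Ps (α - x) := by
    intro x hx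
    have hx' : (g.map φ).eval x = 0 := (mem_roots hmonic.ne_zero).mp hx
    have hx0' : (g.map φ).eval x0 = 0 := (mem_roots hmonic.ne_zero).mp hx0
    have hmin : ∀ y : Ks, (g.map φ).eval y = 0 →
        minpoly L y = g.map (algebraMap (Localization.AtPrime Q) L) := by
      intro y hy
      symm
      apply minpoly.eq_of_irreducible_of_monic hgLirr _ (hg.map _)
      rw [aeval_def, eval₂_map]
      rw [eval_map] at hy
      exact hy
    have horb : x ∈ MulAction.orbit (Ks ≃ₐ[L] Ks) x0 := by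
      rw [← Normal.minpoly_eq_iff_mem_orbit (F := L), hmin x hx', hmin x0 hx0']
    obtain ⟨τ, hτ⟩ := horb
    have hτx : τ x0 = x := hτ
    let τK : Ks ≃ₐ[K] Ks := τ.restrictScalars K
    have hτfix : τK ∈ L.fixingSubgroup := by
      rw [IntermediateField.mem_fixingSubgroup_iff]
      intro y hy
      exact τ.commutes ⟨y, hy⟩
    have hτstab : τK ∈ stab K Ps := by
      apply mem_stab_of_fixes K Ps H0 hH0
      rw [← hL]
      exact hτfix
    have hτα : τK α = α := by
      change τ (algebraMap L Ks (algebraMap (Localization.AtPrime Q) L a₀)) = _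
      rw [τ.commutes]
      rfl
    have := hwm.apply hτstab
    rw [map_sub, hτα] at this
    change InmO Ps (α - τ x0) at this
    rwa [hτx] at this
  -- the derivative
  have hder : InmO Ps ((g.map φ).derivative.eval α) := by
    rw [hsplit.eval_derivative, hmonic.leadingCoeff, one_mul]
    apply inmO_multiset_sum
    intro z hz
    obtain ⟨a, ha, rfl⟩ := Multiset.mem_map.mp hz
    apply inmO_multiset_prod
    · intro z hz
      obtain ⟨x, hx, rfl⟩ := Multiset.mem_map.mp hz
      exact hall x (Multiset.mem_of_mem_erase hx)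
    · intro h0
      have h3 := congrArg Multiset.card h0
      rw [Multiset.card_map, Multiset.card_zero] at h3
      have h5 := Multiset.card_erase_add_one ha
      rw [h3, hcard] at h5
      omega
  have hder2 : (g.map φ).derivative.eval α = φ (g.derivative.eval a₀) := by
    rw [derivative_map, eval_map, hα, eval₂_at_apply]
  rw [hder2] at hder
  obtain ⟨v, hv⟩ := hg2.exists_right_inv
  have h4 : InmO Ps (φ (g.derivative.eval a₀) * φ v) := hder.mul_right (F1 v)
  rw [← map_mul, hv, map_one] at h4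
  exact not_inmO_one h4

end main

end HenselDecompH3
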