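import Mathlib
import Groth.Agent.Lib.HenselPairOps_lead

/-!
# A directed colimit of henselian pairs is a henselian pair
(stated for an abstract "concrete directed colimit" so that it applies to both direct limit APIs)
-/

namespace Groth.Agent.Lib.HenselDirLim
open Polynomial Groth.Agent.Lib.HenselPairOpsLead

section
variable {ι : Type*} [Preorder ι] [IsDirected ι (· ≤ ·)] [Nonempty ι]
  {G : ι → Type*} [∀ i, CommRing (G i)] (f : ∀ i j, i ≤ j → G i →+* G j)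
  (hf : ∀ i j k (h₁ : i ≤ j) (h₂ : j ≤ k) (x : G i), f j k h₂ (f i j h₁ x) = f i k (h₁.trans h₂) x)
  (K : ∀ i, Ideal (G i)) (hK : ∀ i j (h : i ≤ j), (K i).map (f i j h) ≤ K j)
  {R : Type*} [CommRing R] (φ : ∀ i, G i →+* R)
  (hφ : ∀ i j (h : i ≤ j) (x : G i), φ j (f i j h x) = φ i x)
  (hsurj : ∀ r : R, ∃ i x, φ i x = r)
  (hzero : ∀ i (x : G i), φ i x = 0 → ∃ j, ∃ h : i ≤ j, f i j h x = 0)

include hK hφ hsurj in
theorem mem_iSup_iff (r : R) :
    r ∈ ⨆ i, (K i).map (φ i) ↔ ∃ i, ∃ x ∈ K i, φ i x = r := by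
  let S : Ideal R :=
    { carrier := {r | ∃ i, ∃ x ∈ K i, φ i x = r}
      zero_mem' := ⟨Classical.arbitrary ι, 0, (K _).zero_mem, map_zero _⟩
      add_mem' := by
        rintro _ _ ⟨i, x, hx, rfl⟩ ⟨j, y, hy, rfl⟩
        obtain ⟨k, hik, hjk⟩ := exists_ge_ge i j
        refine ⟨k, f i k hik x + f j k hjk y,
          (K k).add_mem (hK i k hik (Ideal.mem_map_of_mem _ hx))
            (hK j k hjk (Ideal.mem_map_of_mem _ hy)), ?_⟩
        rw [map_add, hφ, hφ]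
      smul_mem' := by
        rintro c _ ⟨i, x, hx, rfl⟩
        obtain ⟨j, z, rfl⟩ := hsurj c
        obtain ⟨k, hik, hjk⟩ := exists_ge_ge i j
        refine ⟨k, f j k hjk z * f i k hik x,
          (K k).mul_mem_left _ (hK i k hik (Ideal.mem_map_of_mem _ hx)), ?_⟩
        rw [map_mul, hφ, hφ, smul_eq_mul] }
  constructor
  · intro hr
    have hle : (⨆ i, (K i).map (φ i)) ≤ S :=
      iSup_le fun i => Ideal.map_le_iff_le_comap.mpr fun x hx => ⟨i, x, hx, rfl⟩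
    exact hle hr
  · rintro ⟨i, x, hx, rfl⟩
    exact Ideal.mem_iSup_of_mem i (Ideal.mem_map_of_mem _ hx)

include hf hK hφ hsurj hzero in
theorem exists_mem_of_map_mem {k : ι} (x : G k) (hx : φ k x ∈ ⨆ i, (K i).map (φ i)) :
    ∃ l, ∃ h : k ≤ l, f k l h x ∈ K l := by
  obtain ⟨m, w, hw, hwx⟩ := (mem_iSup_iff f K hK φ hφ hsurj _).mp hx
  obtain ⟨k', hkk', hmk'⟩ := exists_ge_ge k m
  have h0 : φ k' (f k k' hkk' x - f m k' hmk' w) = 0 := by
    rw [map_sub, hφ, hφ, hwx, sub_self]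
  obtain ⟨l, hk'l, hl⟩ := hzero k' _ h0
  refine ⟨l, hkk'.trans hk'l, ?_⟩
  rw [map_sub, sub_eq_zero, hf] at hl
  rw [hl]
  exact hK k' l hk'l (Ideal.mem_map_of_mem _ (hK m k' hmk' (Ideal.mem_map_of_mem _ hw)))

include hφ hsurj in
theorem exists_poly_lift (p : R[X]) : ∃ i, ∃ q : (G i)[X], q.map (φ i) = p := by
  induction p using Polynomial.induction_on' with
  | add p q hp hq =>
    obtain ⟨i, p', rfl⟩ := hp
    obtain ⟨j, q', rfl⟩ := hq
    obtain ⟨k, hik, hjk⟩ := exists_ge_ge i j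
    refine ⟨k, p'.map (f i k hik) + q'.map (f j k hjk), ?_⟩
    rw [Polynomial.map_add, Polynomial.map_map, Polynomial.map_map,
      show (φ k).comp (f i k hik) = φ i from RingHom.ext (hφ i k hik),
      show (φ k).comp (f j k hjk) = φ j from RingHom.ext (hφ j k hjk)]
  | monomial n a =>
    obtain ⟨i, x, rfl⟩ := hsurj a
    exact ⟨i, monomial n x, Polynomial.map_monomial _⟩

include hf hK hφ hsurj hzero in
theorem henselian_of_directed (hh : ∀ i, HenselianRing (G i) (K i)) :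
    HenselianRing R (⨆ i, (K i).map (φ i)) := by
  refine ⟨?_, ?_⟩
  · intro r hr
    rw [Ideal.mem_jacobson_bot]
    intro s
    obtain ⟨i, x, hx, rfl⟩ := (mem_iSup_iff f K hK φ hφ hsurj _).mp hr
    obtain ⟨j, y, rfl⟩ := hsurj s
    obtain ⟨k, hik, hjk⟩ := exists_ge_ge i j
    have hxk : f i k hik x ∈ K k := hK i k hik (Ideal.mem_map_of_mem _ hx)
    have hu := Ideal.mem_jacobson_bot.mp ((hh k).jac hxk) (f j k hjk y)
    have hu' := hu.map (φ k)
    rwa [map_add, map_mul, map_one, hφ, hφ] at hu'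
  · intro F hF a₀ hFa hunit
    obtain ⟨s, hs⟩ := (isUnit_mk_iff _ _).mp hunit
    obtain ⟨i₁, F₁, hF₁⟩ := exists_poly_lift f φ hφ hsurj F
    obtain ⟨i₂, a₂, ha₂⟩ := hsurj a₀
    obtain ⟨i₃, s₃, hs₃⟩ := hsurj s
    obtain ⟨k₀, h1, h2⟩ := exists_ge_ge i₁ i₂
    obtain ⟨k, h3, h4⟩ := exists_ge_ge k₀ i₃
    have hFlift : F ∈ Polynomial.lifts (φ k) := by
      rw [Polynomial.mem_lifts]
      refine ⟨F₁.map (f i₁ k (h1.trans h3)), ?_⟩
      rw [Polynomial.map_map,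
        show (φ k).comp (f i₁ k (h1.trans h3)) = φ i₁ from RingHom.ext (hφ _ _ _), hF₁]
    obtain ⟨Fk, hFk, -, hFkm⟩ := Polynomial.lifts_and_natDegree_eq_and_monic hFlift hF
    obtain ⟨ak, hakdef⟩ : ∃ ak : G k, ak = f i₂ k (h2.trans h3) a₂ := ⟨_, rfl⟩
    obtain ⟨sk, hskdef⟩ : ∃ sk : G k, sk = f i₃ k h4 s₃ := ⟨_, rfl⟩
    have hak : φ k ak = a₀ := by rw [hakdef, hφ, ha₂]
    have hsk : φ k sk = s := by rw [hskdef, hφ, hs₃]
    have he1 : φ k (Fk.eval ak) = F.eval a₀ := by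
      rw [← hFk, ← hak, eval_map, eval₂_at_apply]
    have he2 : φ k (Fk.derivative.eval ak * sk - 1) = F.derivative.eval a₀ * s - 1 := by
      rw [map_sub, map_mul, map_one, hsk, ← hFk, ← hak, derivative_map, eval_map, eval₂_at_apply]
    obtain ⟨l₁, hl₁, hm₁⟩ := exists_mem_of_map_mem f hf K hK φ hφ hsurj hzero (Fk.eval ak)
      (by rw [he1]; exact hFa)
    obtain ⟨l₂, hl₂, hm₂⟩ := exists_mem_of_map_mem f hf K hK φ hφ hsurj hzero
      (Fk.derivative.eval ak * sk - 1) (by rw [he2]; exact hs)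
    obtain ⟨l, hl₁l, hl₂l⟩ := exists_ge_ge l₁ l₂
    have hkl : k ≤ l := hl₁.trans hl₁l
    have hm₁' : f k l hkl (Fk.eval ak) ∈ K l := by
      rw [← hf k l₁ l hl₁ hl₁l]
      exact hK l₁ l hl₁l (Ideal.mem_map_of_mem _ hm₁)
    have hm₂' : f k l hkl (Fk.derivative.eval ak * sk - 1) ∈ K l := by
      rw [← hf k l₂ l hl₂ hl₂l]
      exact hK l₂ l hl₂l (Ideal.mem_map_of_mem _ hm₂)
    have hFlm : (Fk.map (f k l hkl)).Monic := hFkm.map _
    have hc1 : (Fk.map (f k l hkl)).eval (f k l hkl ak) ∈ K l := by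
      rw [eval_map, eval₂_at_apply]; exact hm₁'
    have hc2 : IsUnit (Ideal.Quotient.mk (K l)
        ((Fk.map (f k l hkl)).derivative.eval (f k l hkl ak))) := by
      refine (isUnit_mk_iff _ _).mpr ⟨f k l hkl sk, ?_⟩
      rw [derivative_map, eval_map, eval₂_at_apply]
      have h5 := hm₂'
      rwa [map_sub, map_mul, map_one] at h5
    obtain ⟨bl, hbl, hbal⟩ := (hh l).is_henselian (Fk.map (f k l hkl)) hFlm (f k l hkl ak) hc1 hc2
    have hbl' : (Fk.map (f k l hkl)).eval bl = 0 := hbl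
    have hFl : (Fk.map (f k l hkl)).map (φ l) = F := by
      rw [Polynomial.map_map,
        show (φ l).comp (f k l hkl) = φ k from RingHom.ext (hφ _ _ _), hFk]
    refine ⟨φ l bl, ?_, ?_⟩
    · show F.eval (φ l bl) = 0
      rw [← hFl, eval_map, eval₂_at_apply, hbl', map_zero]
    · have h6 : φ l bl - a₀ = φ l (bl - f k l hkl ak) := by
        rw [map_sub, hφ, hak]
      rw [h6]
      exact Ideal.mem_iSup_of_mem l (Ideal.mem_map_of_mem _ hbal)

end

end Groth.Agent.Lib.HenselDirLim
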