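import Mathlib

/-!
# A filtered colimit of henselian local rings along local homomorphisms is henselian local (lead)

Abstract version: rings `G i` with maps `φ i : G i →+* R` that are jointly surjective and such that
equalities in `R` are detected at a further stage (via local ring homomorphisms).
-/

set_option autoImplicit false
universe u v

namespace Groth.Agent.Lib.HenselFiltered

open Polynomial

variable {ι : Type v} {G : ι → Type u} [∀ i, CommRing (G i)] {R : Type u} [CommRing R]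

/-- abstract "filtered colimit along local homomorphisms" hypotheses -/
structure IsFilt (φ : ∀ i, G i →+* R) : Prop where
  rep : ∀ x : R, ∃ i y, φ i y = x
  eq : ∀ i j (x : G i) (y : G j), φ i x = φ j y →
    ∃ k, ∃ (f : G i →+* G k) (g : G j →+* G k), IsLocalHom f ∧ IsLocalHom g ∧
      (∀ z, φ k (f z) = φ i z) ∧ (∀ z, φ k (g z) = φ j z) ∧ f x = g y

variable {φ : ∀ i, G i →+* R}

theorem common (h : IsFilt φ) (i j : ι) : ∃ k, ∃ (f : G i →+* G k) (g : G j →+* G k),
    IsLocalHom f ∧ IsLocalHom g ∧ (∀ z, φ k (f z) = φ i z) ∧ (∀ z, φ k (g z) = φ j z) := by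
  obtain ⟨k, f, g, hf, hg, h1, h2, -⟩ := h.eq i j 0 0 (by rw [map_zero, map_zero])
  exact ⟨k, f, g, hf, hg, h1, h2⟩

theorem isUnit_of_isUnit_map (h : IsFilt φ) {i : ι} (u : G i) (hu : IsUnit (φ i u)) :
    IsUnit u := by
  obtain ⟨v, hv⟩ := hu.exists_right_inv
  obtain ⟨j, w, rfl⟩ := h.rep v
  obtain ⟨k, f, g, hf, hg, h1, h2⟩ := common h i j
  have e1 : φ k (f u * g w) = φ k 1 := by rw [map_mul, h1, h2, hv, map_one]
  obtain ⟨l, f', g', hf', hg', -, -, h3⟩ := h.eq k k (f u * g w) 1 e1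
  rw [map_mul, map_one] at h3
  have hu1 : IsUnit (f' (f u)) := IsUnit.of_mul_eq_one _ h3
  have hu2 : IsUnit (f u) := hf'.map_nonunit _ hu1
  exact hf.map_nonunit _ hu2

theorem exists_stage_finset (h : IsFilt φ) (T : Finset R) :
    ∃ i, ∀ x ∈ T, x ∈ Set.range (φ i) := by
  classical
  induction T using Finset.induction_on with
  | empty =>
    obtain ⟨i, -, -⟩ := h.rep 0
    exact ⟨i, fun x hx => absurd hx (Finset.notMem_empty x)⟩
  | insert a T _ ih =>
    obtain ⟨i, hi⟩ := ih
    obtain ⟨j, y, hy⟩ := h.rep a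
    obtain ⟨k, f, g, -, -, h1, h2⟩ := common h i j
    refine ⟨k, fun x hx => ?_⟩
    rcases Finset.mem_insert.1 hx with hxa | hx
    · exact ⟨g y, by rw [h2 y, hy, hxa]⟩
    · obtain ⟨z, hz⟩ := hi x hx
      exact ⟨f z, by rw [h1 z, hz]⟩

theorem henselianLocalRing (h : IsFilt φ) (hG : ∀ i, HenselianLocalRing (G i)) :
    HenselianLocalRing R := by
  classical
  haveI hloc : ∀ i, IsLocalRing (G i) := fun i => (hG i).toIsLocalRing
  obtain ⟨i₀, -, -⟩ := h.rep 0
  haveI : Nontrivial R := by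
    refine ⟨⟨0, 1, fun h01 => ?_⟩⟩
    have e : φ i₀ 0 = φ i₀ 1 := by rw [map_zero, map_one]; exact h01
    obtain ⟨k, f, g, -, -, -, -, h3⟩ := h.eq i₀ i₀ 0 1 e
    rw [map_zero, map_one] at h3
    exact zero_ne_one h3
  have hlocal : IsLocalRing R := by
    refine IsLocalRing.of_isUnit_or_isUnit_one_sub_self fun a => ?_
    obtain ⟨i, y, hy⟩ := h.rep a
    rcases IsLocalRing.isUnit_or_isUnit_one_sub_self y with hu | hu
    · left
      rw [← hy]; exact hu.map (φ i)
    · right
      have h1 := hu.map (φ i)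
      rw [map_sub, map_one, hy] at h1
      exact h1
  have hmem : ∀ i (y : G i), φ i y ∈ IsLocalRing.maximalIdeal R ↔
      y ∈ IsLocalRing.maximalIdeal (G i) := by
    intro i y
    rw [IsLocalRing.mem_maximalIdeal, IsLocalRing.mem_maximalIdeal, mem_nonunits_iff,
      mem_nonunits_iff]
    exact not_congr ⟨isUnit_of_isUnit_map h y, fun hy => hy.map (φ i)⟩
  refine @HenselianLocalRing.mk R _ hlocal ?_
  intro f hf a₀ h₁ h₂
  obtain ⟨i, hi⟩ := exists_stage_finset h (insert a₀ (f.support.image f.coeff))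
  obtain ⟨y₀, hy₀⟩ := hi a₀ (Finset.mem_insert_self _ _)
  have hlift : f ∈ Polynomial.lifts (φ i) := by
    rw [Polynomial.lifts_iff_coeff_lifts]
    intro n
    by_cases hn : n ∈ f.support
    · exact hi _ (Finset.mem_insert_of_mem (Finset.mem_image_of_mem _ hn))
    · rw [Polynomial.notMem_support_iff.1 hn]; exact ⟨0, map_zero _⟩
  obtain ⟨p, hpf, -, hpm⟩ := Polynomial.lifts_and_natDegree_eq_and_monic hlift hf
  have he : φ i (p.eval y₀) = f.eval a₀ := by
    rw [← hpf, ← hy₀, Polynomial.eval_map_apply]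
  have hd : φ i (p.derivative.eval y₀) = f.derivative.eval a₀ := by
    rw [← hpf, ← hy₀, Polynomial.derivative_map, Polynomial.eval_map_apply]
  have h₁' : p.eval y₀ ∈ IsLocalRing.maximalIdeal (G i) := by
    rw [← hmem, he]; exact h₁
  have h₂' : IsUnit (p.derivative.eval y₀) :=
    isUnit_of_isUnit_map h _ (by rw [hd]; exact h₂)
  obtain ⟨y, hy, hyy⟩ := (hG i).is_henselian p hpm y₀ h₁' h₂'
  refine ⟨φ i y, ?_, ?_⟩
  · show f.eval (φ i y) = 0
    rw [← hpf, Polynomial.eval_map_apply, show p.eval y = 0 from hy, map_zero]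
  · rw [← hy₀, ← map_sub, hmem]; exact hyy

end Groth.Agent.Lib.HenselFiltered
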