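import Mathlib
import Groth.Agent.Lib.HenselPairOps_lead
import Groth.Agent.Lib.PairHensExists_lead

/-!
# Limits of henselian pairs are henselian (abstract, category-free form)
-/

namespace Groth.Agent.Lib.HenselLimit

open Polynomial Groth.Agent.Lib.HenselPairOpsLead Groth.Agent.Lib.PairHensExists

theorem henselian_of_limit {ι : Type*} {L : Type*} [CommRing L] {R : ι → Type*}
    [∀ j, CommRing (R j)]
    (π : ∀ j, L →+* R j) (I : ∀ j, Ideal (R j)) (h : ∀ j, HenselianRing (R j) (I j))
    {tr : Type*} (src tgt : tr → ι) (m : ∀ t, R (src t) →+* R (tgt t))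
    (hπ : ∀ t x, m t (π (src t) x) = π (tgt t) x)
    (hI : ∀ t, (I (src t)).map (m t) ≤ I (tgt t))
    (hext : ∀ x y : L, (∀ j, π j x = π j y) → x = y)
    (hex : ∀ s : ∀ j, R j, (∀ t, m t (s (src t)) = s (tgt t)) → ∃ x : L, ∀ j, π j x = s j) :
    HenselianRing L (⨅ j, (I j).comap (π j)) := by
  have hmem : ∀ x : L, x ∈ (⨅ j, (I j).comap (π j)) ↔ ∀ j, π j x ∈ I j := by
    intro x; simp only [Ideal.mem_iInf, Ideal.mem_comap]
  refine ⟨?_, ?_⟩
  · intro x hx
    rw [Ideal.mem_jacobson_bot]
    intro y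
    have hu : ∀ j, IsUnit (π j (x * y + 1)) := fun j => by
      rw [map_add, map_mul, map_one]
      exact Ideal.mem_jacobson_bot.1 ((h j).jac ((hmem x).1 hx j)) _
    choose u hu' using fun j => (hu j).exists_right_inv
    have hcompat : ∀ t, m t (u (src t)) = u (tgt t) := by
      intro t
      have h1 : m t (u (src t)) * π (tgt t) (x * y + 1) = 1 := by
        rw [← hπ t, ← map_mul, mul_comm, hu' (src t), map_one]
      exact left_inv_eq_right_inv h1 (hu' (tgt t))
    obtain ⟨v, hv⟩ := hex u hcompat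
    refine isUnit_iff_exists_inv.2 ⟨v, hext _ _ fun j => ?_⟩
    rw [map_mul, hv, hu' j, map_one]
  · intro G hG a₀ h₁ h₂
    obtain ⟨y, hy⟩ := (isUnit_mk_iff _ _).1 h₂
    have e1 : ∀ j, (G.map (π j)).eval (π j a₀) = π j (G.eval a₀) :=
      fun j => Polynomial.eval_map_apply _ _
    have e2 : ∀ j, (G.map (π j)).derivative.eval (π j a₀) = π j (G.derivative.eval a₀) :=
      fun j => by rw [Polynomial.derivative_map, Polynomial.eval_map_apply]
    have hunit : ∀ j, IsUnit (Ideal.Quotient.mk (I j)
        ((G.map (π j)).derivative.eval (π j a₀))) := fun j => by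
      rw [e2]
      refine (isUnit_mk_iff _ _).2 ⟨π j y, ?_⟩
      have := (hmem _).1 hy j
      rwa [map_sub, map_mul, map_one] at this
    have key : ∀ j, ∃ b : R j, (G.map (π j)).eval b = 0 ∧ b - π j a₀ ∈ I j := fun j =>
      (h j).is_henselian _ (hG.map _) (π j a₀) (by rw [e1]; exact (hmem _).1 h₁ j) (hunit j)
    choose b hb hba using key
    have hGmap : ∀ t, (G.map (π (src t))).map (m t) = G.map (π (tgt t)) := by
      intro t
      rw [Polynomial.map_map]
      congr 1
      exact RingHom.ext fun x => hπ t x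
    have hcompat : ∀ t, m t (b (src t)) = b (tgt t) := by
      intro t
      refine root_unique (h (tgt t)).jac (G.map (π (tgt t))) (a₀ := π (tgt t) a₀) ?_ (hb _) ?_
        (hba _) (hunit _)
      · rw [← hGmap t, Polynomial.eval_map_apply, hb, map_zero]
      · rw [← hπ t, ← map_sub]
        exact hI t (Ideal.mem_map_of_mem _ (hba _))
    obtain ⟨c, hc⟩ := hex b hcompat
    refine ⟨c, hext _ _ fun j => ?_, (hmem _).2 fun j => ?_⟩
    · rw [map_zero, ← Polynomial.eval_map_apply, hc]; exact hb j
    · rw [map_sub, hc]; exact hba j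

end Groth.Agent.Lib.HenselLimit
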