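import Mathlib

universe u
open CategoryTheory CategoryTheory.Limits AlgebraicGeometry TopologicalSpace

namespace Groth.Agent.Lib.HenselNhd

theorem main {S S₀ : Scheme.{u}} (i : S₀ ⟶ S) [IsClosedImmersion i]
    (ha : ∀ (S' : Scheme.{u}) (g : S' ⟶ S), IsFinite g →
      ∀ V : Set ↥(pullback g i), IsClopen V →
        ∃! U : Set ↥S', IsClopen U ∧ (pullback.fst g i).base ⁻¹' U = V)
    {S' : Scheme.{u}} (g : S' ⟶ S) [IsFinite g] (U : Set ↥S') (hU : IsOpen U)
    (hU₀ : Set.range (pullback.fst g i).base ⊆ U) : U = Set.univ := by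
  let Zc : Closeds S' := ⟨Uᶜ, hU.isClosed_compl⟩
  obtain ⟨I, hI⟩ : ∃ I : S'.IdealSheafData, (I.support : Set S') = Uᶜ :=
    ⟨Scheme.IdealSheafData.vanishingIdeal Zc,
      Scheme.IdealSheafData.coe_support_vanishingIdeal Zc⟩
  have hrange : Set.range I.subschemeι = Uᶜ := by
    rw [I.range_subschemeι, hI]
  have hfin : IsFinite (I.subschemeι ≫ g) := inferInstance
  obtain ⟨l, hl⟩ : ∃ l : pullback (I.subschemeι ≫ g) i ⟶ pullback g i,
      l ≫ pullback.fst g i = pullback.fst (I.subschemeι ≫ g) i ≫ I.subschemeι :=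
    ⟨pullback.lift (pullback.fst _ _ ≫ I.subschemeι) (pullback.snd _ _)
      (by rw [Category.assoc]; exact pullback.condition), pullback.lift_fst _ _ _⟩
  haveI hempty : IsEmpty ↥(pullback (I.subschemeι ≫ g) i) := by
    constructor
    intro p
    have h1 : (l ≫ pullback.fst g i) p =
        (pullback.fst (I.subschemeι ≫ g) i ≫ I.subschemeι) p := by rw [hl]
    rw [Scheme.Hom.comp_apply, Scheme.Hom.comp_apply] at h1
    have h2 : (pullback.fst g i) (l p) ∈ U := hU₀ (Set.mem_range_self (l p))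
    have h3 : I.subschemeι ((pullback.fst (I.subschemeι ≫ g) i) p) ∈ Uᶜ := by
      rw [← hrange]; exact Set.mem_range_self _
    rw [h1] at h2
    exact h3 h2
  obtain ⟨W, -, hW⟩ := ha _ (I.subschemeι ≫ g) hfin ∅ isClopen_empty
  have e1 := hW ∅ ⟨isClopen_empty, Set.preimage_empty⟩
  have e2 := hW Set.univ ⟨isClopen_univ, Set.eq_empty_of_isEmpty _⟩
  have hZ : (Set.univ : Set I.subscheme) = ∅ := e2.trans e1.symm
  rw [Set.eq_univ_iff_forall]
  intro x
  by_contra hx
  have hx' : x ∈ Set.range I.subschemeι := by rw [hrange]; exact hx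
  obtain ⟨z, -⟩ := hx'
  have hz : z ∈ (∅ : Set I.subscheme) := hZ ▸ Set.mem_univ z
  exact hz

end Groth.Agent.Lib.HenselNhd
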