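import Mathlib

/-!
# Henselian pairs: basic permanence (helper5)
-/

namespace Groth.Agent.Lib.HenselPair_helper5

open Polynomial

universe u

/-- A ring is adically complete for a nilpotent ideal. -/
theorem isAdicComplete_of_pow_eq_bot {R : Type*} [CommRing R] (I : Ideal R) (N : ℕ)
    (hN : I ^ N = ⊥) : IsAdicComplete I R where
  haus' x hx := by
    have := hx N
    rw [SModEq.zero, Ideal.smul_top_eq_map, hN] at this
    simpa using this
  prec' f hf := by
    refine ⟨f N, fun n => ?_⟩
    rcases le_total n N with h | h
    · exact hf h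
    · have h1 := hf h
      have h2 : (I ^ N • ⊤ : Submodule R R) = ⊥ := by
        rw [hN]; simp
      rw [h2, SModEq.bot] at h1
      rw [← h1]

/-- Units modulo an ideal in the Jacobson radical are units. -/
theorem isUnit_of_isUnit_mk {R : Type*} [CommRing R] {I : Ideal R}
    (hI : I ≤ Ideal.jacobson ⊥) {x : R} (hx : IsUnit (Ideal.Quotient.mk I x)) : IsUnit x := by
  have := isLocalHom_of_le_jacobson_bot I hI
  exact IsUnit.of_map (Ideal.Quotient.mk I) x hx

/-- A ring is Henselian at a locally nilpotent ideal. -/
theorem henselianRing_of_locally_nilpotent (A : Type*) [CommRing A] (I : Ideal A)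
    (hI : ∀ x ∈ I, IsNilpotent x) : HenselianRing A I where
  jac := by
    intro x hx
    have h1 : x ∈ nilradical A := hI x hx
    exact (Ideal.radical_le_jacobson (I := (⊥ : Ideal A))) h1
  is_henselian := by
    intro f hf a₀ h₁ h₂
    have hjac : I ≤ Ideal.jacobson ⊥ := by
      intro x hx
      have h1 : x ∈ nilradical A := hI x hx
      exact (Ideal.radical_le_jacobson (I := (⊥ : Ideal A))) h1
    have hunit : IsUnit (f.derivative.eval a₀) := isUnit_of_isUnit_mk hjac h₂
    obtain ⟨N, hN⟩ := hI _ h₁
    set I' : Ideal A := Ideal.span {f.eval a₀} with hI'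
    have hpow : I' ^ N = ⊥ := by
      rw [hI', Ideal.span_singleton_pow, hN]
      simp
    have := isAdicComplete_of_pow_eq_bot I' N hpow
    have hle : I' ≤ I := by
      rw [hI', Ideal.span_le]
      simpa using h₁
    obtain ⟨a, ha, haI⟩ := HenselianRing.is_henselian (I := I') f hf a₀
      (Ideal.subset_span (Set.mem_singleton _)) (hunit.map _)
    exact ⟨a, ha, hle haI⟩

end Groth.Agent.Lib.HenselPair_helper5
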