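import Mathlib
import Groth.Agent.Lib.HenselQF2_helper3

set_option autoImplicit false
universe u

namespace Groth.Agent.Lib.HenselQFIff

open Polynomial IsLocalRing

theorem surjective_algebraMap_of_le {R : Type*} [CommRing R] [IsLocalRing R] {S : Type*}
    [CommRing S] [Algebra R S] (q : Ideal S) [q.IsMaximal]
    [Module.Finite R (Localization.AtPrime q)]
    (h1 : ∀ s : S, ∃ r : R, s - algebraMap R S r ∈ q)
    (h2 : maximalIdeal (Localization.AtPrime q) ≤
      Ideal.map (algebraMap R (Localization.AtPrime q)) (maximalIdeal R)) :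
    Function.Surjective (algebraMap R (Localization.AtPrime q)) := by
  have hN : (⊤ : Submodule R (Localization.AtPrime q)) ≤
      LinearMap.range (Algebra.linearMap R (Localization.AtPrime q)) := by
    apply Submodule.le_of_le_smul_of_le_jacobson_bot (I := maximalIdeal R) Module.Finite.fg_top
      (maximalIdeal_le_jacobson ⊥)
    intro t _
    obtain ⟨sbar, hs⟩ := (IsLocalization.AtPrime.equivQuotMaximalIdeal q
      (Localization.AtPrime q)).surjective (Ideal.Quotient.mk _ t)
    obtain ⟨s, rfl⟩ := Ideal.Quotient.mk_surjective sbar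
    rw [IsLocalization.AtPrime.equivQuotMaximalIdeal_apply_mk] at hs
    have hs' : algebraMap S (Localization.AtPrime q) s - t ∈
        maximalIdeal (Localization.AtPrime q) := Ideal.Quotient.eq.mp hs
    obtain ⟨r, hr⟩ := h1 s
    have hr' : algebraMap S (Localization.AtPrime q) (s - algebraMap R S r) ∈
        maximalIdeal (Localization.AtPrime q) :=
      (IsLocalization.AtPrime.to_map_mem_maximal_iff (Localization.AtPrime q) q _).mpr hr
    have hdecomp : t = algebraMap R (Localization.AtPrime q) r +
        (algebraMap S (Localization.AtPrime q) (s - algebraMap R S r) -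
          (algebraMap S (Localization.AtPrime q) s - t)) := by
      rw [map_sub, ← IsScalarTower.algebraMap_apply]; ring
    rw [hdecomp]
    refine Submodule.add_mem_sup ⟨r, rfl⟩ ?_
    rw [Ideal.smul_top_eq_map]
    exact h2 (sub_mem hr' hs')
  intro t
  obtain ⟨r, hr⟩ := hN (Submodule.mem_top : t ∈ ⊤)
  exact ⟨r, hr⟩

theorem injective_algebraMap_of_free {R : Type*} [CommRing R] [IsLocalRing R] {S : Type*}
    [CommRing S] [Algebra R S] [Module.Finite R S] [Module.Free R S] (q : Ideal S) [q.IsPrime]
    (hq : ∀ r ∈ maximalIdeal R, algebraMap R S r ∈ q) :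
    Function.Injective (algebraMap R (Localization.AtPrime q)) := by
  classical
  rw [injective_iff_map_eq_zero]
  intro r hr
  rw [IsScalarTower.algebraMap_apply R S (Localization.AtPrime q),
    IsLocalization.map_eq_zero_iff q.primeCompl] at hr
  obtain ⟨v, hv⟩ := hr
  let b := Module.Free.chooseBasis R S
  by_contra hr0
  have hcoord : ∀ i, b.repr (v : S) i ∈ maximalIdeal R := by
    intro i
    by_contra hi
    have hu : IsUnit (b.repr (v : S) i) := notMem_maximalIdeal.mp hi
    have h0 : r * b.repr (v : S) i = 0 := by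
      have h3 : r • (v : S) = 0 := by rw [Algebra.smul_def, mul_comm]; exact hv
      have h4 := congrArg (fun w => b.repr w i) h3
      simpa using h4
    exact hr0 (hu.mul_left_eq_zero.mp h0)
  have hvq : (v : S) ∈ q := by
    rw [← b.sum_repr (v : S)]
    refine q.sum_mem fun i _ => ?_
    rw [Algebra.smul_def]
    exact q.mul_mem_right _ (hq _ (hcoord i))
  exact v.2 hvq

theorem henselian_of_finite (R : Type u) [CommRing R] [IsLocalRing R]
    (h : ∀ (S : Type u) [CommRing S] [Algebra R S] [Algebra.FiniteType R S] (q : Ideal S)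
      [q.IsPrime], q.LiesOver (maximalIdeal R) → Algebra.QuasiFiniteAt R q →
        Module.Finite R (Localization.AtPrime q)) : HenselianLocalRing R := by
  classical
  refine { is_henselian := fun f hf a₀ h₁ h₂ => ?_ }
  haveI : Module.Finite R (AdjoinRoot f) := hf.finite_adjoinRoot
  haveI : Module.Free R (AdjoinRoot f) := hf.free_adjoinRoot
  have hroot₀ : f.eval₂ (residue R) (residue R a₀) = 0 := by
    rw [Polynomial.eval₂_at_apply]; exact (residue_eq_zero_iff _).mpr h₁
  obtain ⟨ψ, hψof, hψroot, hψmk⟩ : ∃ ψ : AdjoinRoot f →+* ResidueField R,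
      (∀ r, ψ (AdjoinRoot.of f r) = residue R r) ∧ ψ (AdjoinRoot.root f) = residue R a₀ ∧
      ∀ g, ψ (AdjoinRoot.mk f g) = g.eval₂ (residue R) (residue R a₀) :=
    ⟨AdjoinRoot.lift (residue R) (residue R a₀) hroot₀, fun r => AdjoinRoot.lift_of hroot₀,
      AdjoinRoot.lift_root hroot₀, fun g => AdjoinRoot.lift_mk hroot₀ g⟩
  have hψalg : ∀ r, ψ (algebraMap R (AdjoinRoot f) r) = residue R r := fun r => by
    rw [AdjoinRoot.algebraMap_eq]; exact hψof r
  have hψsurj : Function.Surjective ψ := fun y => by
    obtain ⟨r, rfl⟩ := residue_surjective y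
    exact ⟨AdjoinRoot.of f r, hψof r⟩
  obtain ⟨q, hq⟩ : ∃ q : Ideal (AdjoinRoot f), q = RingHom.ker ψ := ⟨_, rfl⟩
  have hmemq : ∀ s, s ∈ q ↔ ψ s = 0 := fun s => by rw [hq, RingHom.mem_ker]
  haveI hqmax : q.IsMaximal := by rw [hq]; exact RingHom.ker_isMaximal_of_surjective ψ hψsurj
  haveI hqprime : q.IsPrime := hqmax.isPrime
  have hlies : q.LiesOver (maximalIdeal R) := ⟨by
    ext r
    show r ∈ maximalIdeal R ↔ r ∈ Ideal.comap (algebraMap R (AdjoinRoot f)) q
    rw [Ideal.mem_comap, hmemq, hψalg, residue_eq_zero_iff]⟩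
  have hQF : Algebra.QuasiFiniteAt R q := inferInstance
  haveI hfinL : Module.Finite R (Localization.AtPrime q) := h (AdjoinRoot f) q hlies hQF
  have hmq : ∀ r ∈ maximalIdeal R, algebraMap R (AdjoinRoot f) r ∈ q := fun r hr =>
    (hmemq _).mpr (by rw [hψalg]; exact (residue_eq_zero_iff _).mpr hr)
  have h1 : ∀ s : AdjoinRoot f, ∃ r : R, s - algebraMap R (AdjoinRoot f) r ∈ q := by
    intro s
    obtain ⟨r, hr⟩ := residue_surjective (ψ s)
    exact ⟨r, (hmemq _).mpr (by rw [map_sub, hψalg, hr, sub_self])⟩
  have hyq : AdjoinRoot.root f - AdjoinRoot.of f a₀ ∈ q := by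
    rw [hmemq, map_sub, hψroot, hψof, sub_self]
  -- Taylor expansion
  obtain ⟨k, hk⟩ := Polynomial.binomExpansion (f.map (AdjoinRoot.of f)) (AdjoinRoot.of f a₀)
    (AdjoinRoot.root f - AdjoinRoot.of f a₀)
  simp only [add_sub_cancel, Polynomial.derivative_map, Polynomial.eval_map,
    AdjoinRoot.eval₂_root, Polynomial.eval₂_at_apply] at hk
  have huq : AdjoinRoot.of f (f.derivative.eval a₀) +
      k * (AdjoinRoot.root f - AdjoinRoot.of f a₀) ∉ q := by
    rw [hmemq, map_add, map_mul, (hmemq _).mp hyq, mul_zero, add_zero, hψof]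
    exact (residue_ne_zero_iff_isUnit _).mpr h₂
  have hyu : (AdjoinRoot.root f - AdjoinRoot.of f a₀) *
      (AdjoinRoot.of f (f.derivative.eval a₀) + k * (AdjoinRoot.root f - AdjoinRoot.of f a₀)) =
      - AdjoinRoot.of f (f.eval a₀) := by
    linear_combination (-1 : AdjoinRoot f) * hk
  have hunit : IsUnit (algebraMap (AdjoinRoot f) (Localization.AtPrime q)
      (AdjoinRoot.of f (f.derivative.eval a₀) +
        k * (AdjoinRoot.root f - AdjoinRoot.of f a₀))) :=
    IsLocalization.map_units (Localization.AtPrime q) (⟨_, huq⟩ : q.primeCompl)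
  have hyL : algebraMap (AdjoinRoot f) (Localization.AtPrime q)
      (AdjoinRoot.root f - AdjoinRoot.of f a₀) ∈
      Ideal.map (algebraMap R (Localization.AtPrime q)) (maximalIdeal R) := by
    have e1 : algebraMap (AdjoinRoot f) (Localization.AtPrime q)
        (AdjoinRoot.root f - AdjoinRoot.of f a₀) *
        algebraMap (AdjoinRoot f) (Localization.AtPrime q)
        (AdjoinRoot.of f (f.derivative.eval a₀) +
          k * (AdjoinRoot.root f - AdjoinRoot.of f a₀)) =
        - algebraMap R (Localization.AtPrime q) (f.eval a₀) := by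
      rw [← map_mul, hyu, map_neg, ← AdjoinRoot.algebraMap_eq f,
        ← IsScalarTower.algebraMap_apply]
    have e2 : algebraMap (AdjoinRoot f) (Localization.AtPrime q)
        (AdjoinRoot.root f - AdjoinRoot.of f a₀) =
        - algebraMap R (Localization.AtPrime q) (f.eval a₀) * ↑hunit.unit⁻¹ := by
      rw [← e1, mul_assoc, IsUnit.mul_val_inv, mul_one]
    rw [e2]
    exact Ideal.mul_mem_right _ _ (neg_mem (Ideal.mem_map_of_mem _ h₁))
  have hmaxle : maximalIdeal (Localization.AtPrime q) ≤
      Ideal.map (algebraMap R (Localization.AtPrime q)) (maximalIdeal R) := by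
    rw [← Localization.AtPrime.map_eq_maximalIdeal, Ideal.map_le_iff_le_comap]
    intro s hs
    rw [Ideal.mem_comap]
    obtain ⟨g, rfl⟩ := AdjoinRoot.mk_surjective s
    have hg : g.eval a₀ ∈ maximalIdeal R := by
      have h5 := (hmemq _).mp hs
      rw [hψmk, Polynomial.eval₂_at_apply, residue_eq_zero_iff] at h5
      exact h5
    have hdiv : g = C (g.eval a₀) + (X - C a₀) * (g /ₘ (X - C a₀)) := by
      rw [← Polynomial.modByMonic_X_sub_C_eq_C_eval]
      exact (Polynomial.modByMonic_add_div g (X - C a₀)).symm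
    have hmk : AdjoinRoot.mk f g = algebraMap R (AdjoinRoot f) (g.eval a₀) +
        (AdjoinRoot.root f - AdjoinRoot.of f a₀) * AdjoinRoot.mk f (g /ₘ (X - C a₀)) := by
      conv_lhs => rw [hdiv]
      rw [map_add, map_mul, map_sub, AdjoinRoot.mk_C, AdjoinRoot.mk_X, AdjoinRoot.mk_C,
        AdjoinRoot.algebraMap_eq]
    rw [hmk, map_add, map_mul, ← IsScalarTower.algebraMap_apply]
    exact add_mem (Ideal.mem_map_of_mem _ hg) (Ideal.mul_mem_right _ _ hyL)
  have hsurj := surjective_algebraMap_of_le q h1 hmaxle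
  have hinj := injective_algebraMap_of_free q hmq
  obtain ⟨a, ha⟩ := hsurj (algebraMap (AdjoinRoot f) (Localization.AtPrime q) (AdjoinRoot.root f))
  refine ⟨a, ?_, ?_⟩
  · show f.eval a = 0
    apply hinj
    rw [map_zero, ← Polynomial.eval₂_at_apply, ha,
      IsScalarTower.algebraMap_eq R (AdjoinRoot f) (Localization.AtPrime q),
      ← Polynomial.hom_eval₂, AdjoinRoot.algebraMap_eq, AdjoinRoot.eval₂_root, map_zero]
  · by_contra hnot
    have hu : IsUnit (a - a₀) := notMem_maximalIdeal.mp hnot
    have hu' : IsUnit (algebraMap R (Localization.AtPrime q) (a - a₀)) := hu.map _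
    have hmem : algebraMap R (Localization.AtPrime q) (a - a₀) ∈
        maximalIdeal (Localization.AtPrime q) := by
      have h6 : algebraMap R (Localization.AtPrime q) (a - a₀) =
          algebraMap (AdjoinRoot f) (Localization.AtPrime q)
            (AdjoinRoot.root f - AdjoinRoot.of f a₀) := by
        simp only [map_sub, ha]
        rw [← AdjoinRoot.algebraMap_eq f, ← IsScalarTower.algebraMap_apply]
      rw [h6]
      exact (IsLocalization.AtPrime.to_map_mem_maximal_iff (Localization.AtPrime q) q _).mpr hyq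
    exact (mem_maximalIdeal _).mp hmem hu'

theorem main (R : Type u) [CommRing R] [IsLocalRing R] :
    HenselianLocalRing R ↔
      ∀ (S : Type u) [CommRing S] [Algebra R S] [Algebra.FiniteType R S] (q : Ideal S)
        [q.IsPrime], q.LiesOver (maximalIdeal R) → Algebra.QuasiFiniteAt R q →
          Module.Finite R (Localization.AtPrime q) := by
  constructor
  · intro hH S _ _ _ q _ hl hq
    haveI := hH
    haveI := hl
    haveI := hq
    exact Groth.Agent.Lib.HenselFiniteH3.finite_localization R S q
  · exact henselian_of_finite R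

end Groth.Agent.Lib.HenselQFIff
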