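import Mathlib
import Groth.Agent.Lib.HenselQF_helper3

/-!
# Unramified algebras over strictly henselian local rings (helper3)
-/

set_option autoImplicit false
set_option maxSynthPendingDepth 3
universe u

namespace Groth.Agent.Lib.HenselFiniteH3

open IsLocalRing TensorProduct

/-- `S0503`: quasi-finite split over a henselian local ring. -/
theorem quasiFinite_split (R : Type u) [CommRing R] [HenselianLocalRing R] (S : Type u)
    [CommRing S] [Algebra R S] [Algebra.FiniteType R S] [Algebra.QuasiFinite R S] :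
    ∃ e : S, IsIdempotentElem e ∧ Module.Finite R (S ⧸ Ideal.span ({1 - e} : Set S)) ∧
      Ideal.map (algebraMap R (S ⧸ Ideal.span ({e} : Set S))) (maximalIdeal R) = ⊤ := by
  obtain ⟨e, he, hfin, hq⟩ := finiteType_split R S
  refine ⟨e, he, hfin, ?_⟩
  by_contra hne
  obtain ⟨M, hM, hle⟩ := Ideal.exists_le_maximal _ hne
  obtain ⟨Q, hQdef⟩ : ∃ Q : Ideal S, Q = M.comap (Ideal.Quotient.mk (Ideal.span ({e} : Set S))) :=
    ⟨_, rfl⟩
  haveI : Q.IsPrime := by rw [hQdef]; exact Ideal.comap_isPrime _ _
  have hQ : Q.LiesOver (maximalIdeal R) := by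
    refine ⟨(maximalIdeal.isMaximal R).eq_of_le ?_ ?_⟩
    · exact (Ideal.comap_isPrime (algebraMap R S) Q).ne_top
    · intro r hr
      rw [Ideal.under_def, Ideal.mem_comap, hQdef, Ideal.mem_comap]
      exact hle (Ideal.mem_map_of_mem _ hr)
  have heQ : e ∈ Q := by
    rw [hQdef, Ideal.mem_comap]
    have : Ideal.Quotient.mk (Ideal.span ({e} : Set S)) e = 0 :=
      Ideal.Quotient.eq_zero_iff_mem.mpr (Ideal.mem_span_singleton_self e)
    rw [this]
    exact M.zero_mem
  exact hq Q hQ inferInstance heQ

/-- A finite local formally unramified algebra over a local ring with separably closed residue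
field is a quotient of the base. -/
theorem surjective_algebraMap_of_unramified (R : Type u) [CommRing R] [IsLocalRing R]
    [IsSepClosed (ResidueField R)] (A : Type u) [CommRing A] [IsLocalRing A] [Algebra R A]
    [Module.Finite R A] [Algebra.FormallyUnramified R A] :
    Function.Surjective (algebraMap R A) := by
  have hcomap : (maximalIdeal A).comap (algebraMap R A) = maximalIdeal R :=
    IsLocalRing.eq_maximalIdeal (Ideal.isMaximal_comap_of_isIntegral_of_isMaximal (maximalIdeal A))
  haveI : IsLocalHom (algebraMap R A) :=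
    ((IsLocalRing.local_hom_TFAE (algebraMap R A)).out 0 4).mpr hcomap
  have hmap : (maximalIdeal R).map (algebraMap R A) = maximalIdeal A :=
    Algebra.FormallyUnramified.map_maximalIdeal
  have hres : Function.Surjective (algebraMap (ResidueField R) (ResidueField A)) :=
    IsSepClosed.algebraMap_surjective (ResidueField R) (ResidueField A)
  have htop : (⊤ : Submodule R A) ≤ LinearMap.range (Algebra.linearMap R A) := by
    apply Submodule.le_of_le_smul_of_le_jacobson_bot (I := maximalIdeal R) Module.Finite.fg_top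
      (IsLocalRing.maximalIdeal_le_jacobson _)
    intro a _
    obtain ⟨rb, hrb⟩ := hres (residue A a)
    obtain ⟨r, rfl⟩ := residue_surjective rb
    have h1 : a - algebraMap R A r ∈ maximalIdeal A := by
      rw [← residue_eq_zero_iff, map_sub, ← hrb, sub_eq_zero]
      rfl
    rw [← hmap] at h1
    have h2 : a - algebraMap R A r ∈ (maximalIdeal R • ⊤ : Submodule R A) := by
      rw [Ideal.smul_top_eq_map]
      exact h1
    have h3 : a = algebraMap R A r + (a - algebraMap R A r) := by ring
    rw [h3]
    exact Submodule.add_mem_sup ⟨r, rfl⟩ h2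
  intro a
  exact htop (Submodule.mem_top : a ∈ ⊤)

/-- An unramified algebra over a strictly henselian local ring is a product of finitely many
quotients of the base and an algebra with empty closed fibre. -/
theorem unramified_split (R : Type u) [CommRing R]
    [HenselianLocalRing R] [IsSepClosed (ResidueField R)] (S : Type u) [CommRing S] [Algebra R S]
    [Algebra.Unramified R S] :
    ∃ (ι : Type u) (_ : Fintype ι) (A : ι → Type u) (_ : ∀ i, CommRing (A i))
      (_ : ∀ i, Algebra R (A i)) (B : Type u) (_ : CommRing B) (_ : Algebra R B),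
      (∀ i, Function.Surjective (algebraMap R (A i))) ∧
      Ideal.map (algebraMap R B) (maximalIdeal R) = ⊤ ∧
      Nonempty (S ≃ₐ[R] ((∀ i, A i) × B)) := by
  classical
  obtain ⟨e, he, hfin, htop⟩ := quasiFinite_split R S
  haveI : Algebra.FormallyUnramified R (S ⧸ Ideal.span ({1 - e} : Set S)) :=
    Algebra.FormallyUnramified.of_surjective (Ideal.Quotient.mkₐ R _) Ideal.Quotient.mk_surjective
  obtain ⟨n, ε₀, hε₀, hloc₀⟩ := exists_idempotents R (S ⧸ Ideal.span ({1 - e} : Set S))
  obtain ⟨ε, hεdef⟩ : ∃ ε : ULift.{u} (Fin n) → S ⧸ Ideal.span ({1 - e} : Set S),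
    ε = ε₀ ∘ Equiv.ulift := ⟨_, rfl⟩
  have hε : CompleteOrthogonalIdempotents ε := by rw [hεdef]; exact (CompleteOrthogonalIdempotents.equiv Equiv.ulift).mpr hε₀
  have hloc : ∀ i, ∀ Q₁ Q₂ : Ideal (S ⧸ Ideal.span ({1 - e} : Set S)), Q₁.IsMaximal → Q₂.IsMaximal →
      ε i ∉ Q₁ → ε i ∉ Q₂ → Q₁ = Q₂ := by
    intro i; rw [hεdef]; exact hloc₀ i.down
  refine ⟨ULift.{u} (Fin n), inferInstance,
    fun i => (S ⧸ Ideal.span ({1 - e} : Set S)) ⧸ Ideal.span ({1 - ε i} : Set _),
    fun i => inferInstance, fun i => inferInstance, S ⧸ Ideal.span ({e} : Set S), inferInstance,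
    inferInstance, ?_, htop, ?_⟩
  · intro i
    rcases subsingleton_or_nontrivial
      ((S ⧸ Ideal.span ({1 - e} : Set S)) ⧸ Ideal.span ({1 - ε i} : Set _)) with hs | hnt
    · intro a; exact ⟨0, Subsingleton.elim _ _⟩
    · -- local
      haveI : IsLocalRing
          ((S ⧸ Ideal.span ({1 - e} : Set S)) ⧸ Ideal.span ({1 - ε i} : Set _)) := by
        obtain ⟨M, hM⟩ := Ideal.exists_maximal
          ((S ⧸ Ideal.span ({1 - e} : Set S)) ⧸ Ideal.span ({1 - ε i} : Set _))
        apply IsLocalRing.of_unique_max_ideal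
        have hnot : ∀ M' : Ideal
            ((S ⧸ Ideal.span ({1 - e} : Set S)) ⧸ Ideal.span ({1 - ε i} : Set _)),
            M'.IsMaximal → ε i ∉ M'.comap (Ideal.Quotient.mk (Ideal.span ({1 - ε i} : Set _))) := by
          intro M' hM' hmem
          rw [Ideal.mem_comap] at hmem
          have h1 : Ideal.Quotient.mk (Ideal.span ({1 - ε i} : Set _)) (1 - ε i) = 0 :=
            Ideal.Quotient.eq_zero_iff_mem.mpr (Ideal.mem_span_singleton_self _)
          rw [map_sub, map_one, sub_eq_zero] at h1
          rw [← h1] at hmem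
          exact hM'.ne_top ((Ideal.eq_top_iff_one _).mpr hmem)
        refine ⟨M, hM, fun M' hM' => ?_⟩
        have := hloc i (M'.comap (Ideal.Quotient.mk (Ideal.span ({1 - ε i} : Set _))))
          (M.comap (Ideal.Quotient.mk (Ideal.span ({1 - ε i} : Set _))))
          (Ideal.comap_isMaximal_of_surjective _ Ideal.Quotient.mk_surjective)
          (Ideal.comap_isMaximal_of_surjective _ Ideal.Quotient.mk_surjective)
          (hnot M' hM') (hnot M hM)
        exact Ideal.comap_injective_of_surjective _ Ideal.Quotient.mk_surjective this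
      haveI : Module.Finite R
          ((S ⧸ Ideal.span ({1 - e} : Set S)) ⧸ Ideal.span ({1 - ε i} : Set _)) :=
        Module.Finite.of_surjective (Ideal.Quotient.mkₐ R _).toLinearMap
          Ideal.Quotient.mk_surjective
      haveI : Algebra.FormallyUnramified R
          ((S ⧸ Ideal.span ({1 - e} : Set S)) ⧸ Ideal.span ({1 - ε i} : Set _)) :=
        Algebra.FormallyUnramified.of_surjective (Ideal.Quotient.mkₐ R _)
          Ideal.Quotient.mk_surjective
      exact surjective_algebraMap_of_unramified R _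
  · let e₁ : (S ⧸ Ideal.span ({1 - e} : Set S)) ≃ₐ[R]
        (∀ i, (S ⧸ Ideal.span ({1 - e} : Set S)) ⧸ Ideal.span ({1 - ε i} : Set _)) :=
      AlgEquiv.ofBijective (Pi.algHom R _ (fun i => Ideal.Quotient.mkₐ R _)) hε.bijective_pi
    let e₂ : S ≃ₐ[R] (S ⧸ Ideal.span ({1 - e} : Set S)) × (S ⧸ Ideal.span ({e} : Set S)) :=
      AlgEquiv.prodQuotientOfIsIdempotentElem R he.one_sub he (by ring)
        (by rw [sub_mul, one_mul, he.eq, sub_self])
    exact ⟨e₂.trans (AlgEquiv.prodCongr e₁ AlgEquiv.refl)⟩

end Groth.Agent.Lib.HenselFiniteH3
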