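import Mathlib
import Groth.Prelude.Def_CycAlg

set_option autoImplicit false
set_option maxHeartbeats 1000000
universe u v
open CycAlg

namespace Groth.Agent.Lib.HerbHexH1

section basic
variable {R : Type u} [CommRing R] {M N : Type v} [AddCommGroup M] [Module R M]
  [AddCommGroup N] [Module R N]

/-- The class map `ker φ → perH φ ψ`. -/
noncomputable def perMk (φ : M →ₗ[R] N) (ψ : N →ₗ[R] M) : ↥(LinearMap.ker φ) →ₗ[R] perH φ ψ :=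
  ((LinearMap.range ψ).submoduleOf (LinearMap.ker φ)).mkQ

lemma perMk_surj (φ : M →ₗ[R] N) (ψ : N →ₗ[R] M) : Function.Surjective (perMk φ ψ) :=
  Submodule.mkQ_surjective _

lemma perMk_eq_zero (φ : M →ₗ[R] N) (ψ : N →ₗ[R] M) (x : ↥(LinearMap.ker φ)) :
    perMk φ ψ x = 0 ↔ ∃ n, ψ n = x.1 := by
  unfold perMk
  rw [Submodule.mkQ_apply, Submodule.Quotient.mk_eq_zero]
  exact Iff.rfl

lemma perMk_eq (φ : M →ₗ[R] N) (ψ : N →ₗ[R] M) (x y : ↥(LinearMap.ker φ))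
    (h : ∃ n, ψ n = x.1 - y.1) : perMk φ ψ x = perMk φ ψ y := by
  rw [← sub_eq_zero, ← map_sub, perMk_eq_zero]
  obtain ⟨n, hn⟩ := h
  exact ⟨n, by rw [hn]; rfl⟩

lemma len_congr {φ φ' : M →ₗ[R] N} {ψ ψ' : N →ₗ[R] M} (h1 : φ = φ') (h2 : ψ = ψ') :
    Module.length R (perH φ ψ) = Module.length R (perH φ' ψ') := by
  subst h1 h2; rfl

lemma perH_subsingleton_of_inj (φ : M →ₗ[R] N) (ψ : N →ₗ[R] M) (h : ∀ x, φ x = 0 → x = 0) :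
    Subsingleton (perH φ ψ) := by
  refine ⟨fun a b => ?_⟩
  obtain ⟨x, rfl⟩ := perMk_surj φ ψ a
  obtain ⟨y, rfl⟩ := perMk_surj φ ψ b
  have hx : x = 0 := Subtype.ext (h _ (LinearMap.mem_ker.mp x.2))
  have hy : y = 0 := Subtype.ext (h _ (LinearMap.mem_ker.mp y.2))
  rw [hx, hy]

lemma perH_subsingleton_of_surj (φ : M →ₗ[R] N) (ψ : N →ₗ[R] M) (h : ∀ x, ∃ n, ψ n = x) :
    Subsingleton (perH φ ψ) := by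
  refine ⟨fun a b => ?_⟩
  obtain ⟨x, rfl⟩ := perMk_surj φ ψ a
  obtain ⟨y, rfl⟩ := perMk_surj φ ψ b
  exact perMk_eq φ ψ x y (h _)

lemma herbrand_zero_of_subsingleton (φ : M →ₗ[R] N) (ψ : N →ₗ[R] M)
    (h1 : Subsingleton (perH φ ψ)) (h2 : Subsingleton (perH ψ φ)) : herbrand R φ ψ = 0 := by
  unfold herbrand
  rw [Module.length_eq_zero_iff.mpr h1, Module.length_eq_zero_iff.mpr h2]
  simp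

variable {M' N' : Type v} [AddCommGroup M'] [Module R M'] [AddCommGroup N'] [Module R N']

/-- restriction of a commuting map to kernels -/
noncomputable def kerMap {φ : M →ₗ[R] N} {φ' : M' →ₗ[R] N'} (f : M →ₗ[R] M') (g : N →ₗ[R] N')
    (hφ : φ' ∘ₗ f = g ∘ₗ φ) : ↥(LinearMap.ker φ) →ₗ[R] ↥(LinearMap.ker φ') :=
  LinearMap.codRestrict (LinearMap.ker φ') (f ∘ₗ (LinearMap.ker φ).subtype) (fun x => by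
    rw [LinearMap.mem_ker]
    have h := LinearMap.congr_fun hφ x.1
    rw [LinearMap.comp_apply, LinearMap.comp_apply] at h
    rw [LinearMap.comp_apply, Submodule.subtype_apply, h, LinearMap.mem_ker.mp x.2, map_zero])

lemma kerMap_coe {φ : M →ₗ[R] N} {φ' : M' →ₗ[R] N'} (f : M →ₗ[R] M') (g : N →ₗ[R] N')
    (hφ : φ' ∘ₗ f = g ∘ₗ φ) (x : ↥(LinearMap.ker φ)) : (kerMap f g hφ x).1 = f x.1 := rfl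

/-- functoriality of `perH` -/
noncomputable def perMap {φ : M →ₗ[R] N} {ψ : N →ₗ[R] M} {φ' : M' →ₗ[R] N'} {ψ' : N' →ₗ[R] M'}
    (f : M →ₗ[R] M') (g : N →ₗ[R] N') (hφ : φ' ∘ₗ f = g ∘ₗ φ) (hψ : ψ' ∘ₗ g = f ∘ₗ ψ) :
    perH φ ψ →ₗ[R] perH φ' ψ' :=
  Submodule.mapQ _ _ (kerMap f g hφ) (fun x hx => by
    obtain ⟨n, hn⟩ : ∃ n, ψ n = x.1 := hx
    show ∃ n', ψ' n' = (kerMap f g hφ x).1
    refine ⟨g n, ?_⟩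
    have h := LinearMap.congr_fun hψ n
    rw [LinearMap.comp_apply, LinearMap.comp_apply] at h
    rw [h, hn]; rfl)

lemma perMap_mk {φ : M →ₗ[R] N} {ψ : N →ₗ[R] M} {φ' : M' →ₗ[R] N'} {ψ' : N' →ₗ[R] M'}
    (f : M →ₗ[R] M') (g : N →ₗ[R] N') (hφ : φ' ∘ₗ f = g ∘ₗ φ) (hψ : ψ' ∘ₗ g = f ∘ₗ ψ)
    (x : ↥(LinearMap.ker φ)) :
    perMap f g hφ hψ (perMk φ ψ x) = perMk φ' ψ' (kerMap f g hφ x) := rfl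

end basic

section len
variable {R : Type u} [CommRing R] {X Y Z : Type v} [AddCommGroup X] [Module R X]
  [AddCommGroup Y] [Module R Y] [AddCommGroup Z] [Module R Z]

lemma len_ker_range (f : X →ₗ[R] Y) : Module.length R X =
    Module.length R (LinearMap.ker f) + Module.length R (LinearMap.range f) :=
  Module.length_eq_add_of_exact (LinearMap.ker f).subtype f.rangeRestrict
    (Submodule.subtype_injective _) f.surjective_rangeRestrict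
    (LinearMap.exact_iff.mpr (by rw [LinearMap.ker_rangeRestrict, Submodule.range_subtype]))

lemma len_mid (f : X →ₗ[R] Y) (g : Y →ₗ[R] Z) (h : LinearMap.range f = LinearMap.ker g) :
    Module.length R Y = Module.length R (LinearMap.range f) + Module.length R (LinearMap.range g) := by
  rw [len_ker_range g, ← h]

lemma len_mid_lt_top (f : X →ₗ[R] Y) (g : Y →ₗ[R] Z) (h : LinearMap.range f = LinearMap.ker g)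
    (hX : Module.length R X < ⊤) (hZ : Module.length R Z < ⊤) : Module.length R Y < ⊤ := by
  rw [len_mid f g h]
  have h1 : Module.length R (LinearMap.range f) ≤ Module.length R X :=
    Module.length_le_of_surjective f.rangeRestrict f.surjective_rangeRestrict
  have h2 : Module.length R (LinearMap.range g) ≤ Module.length R Z :=
    Module.length_le_of_injective (LinearMap.range g).subtype (Submodule.subtype_injective _)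
  exact ENat.add_lt_top.mpr ⟨lt_of_le_of_lt h1 hX, lt_of_le_of_lt h2 hZ⟩

end len

section hex
variable {R : Type u} [CommRing R] {A₀ B₀ C₀ A₁ B₁ C₁ : Type v}
  [AddCommGroup A₀] [Module R A₀] [AddCommGroup B₀] [Module R B₀] [AddCommGroup C₀] [Module R C₀]
  [AddCommGroup A₁] [Module R A₁] [AddCommGroup B₁] [Module R B₁] [AddCommGroup C₁] [Module R C₁]

theorem hex_sum (a₀ : A₀ →ₗ[R] B₀) (b₀ : B₀ →ₗ[R] C₀) (c₀ : C₀ →ₗ[R] A₁) (a₁ : A₁ →ₗ[R] B₁)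
    (b₁ : B₁ →ₗ[R] C₁) (c₁ : C₁ →ₗ[R] A₀)
    (e1 : LinearMap.range a₀ = LinearMap.ker b₀) (e2 : LinearMap.range b₀ = LinearMap.ker c₀)
    (e3 : LinearMap.range c₀ = LinearMap.ker a₁) (e4 : LinearMap.range a₁ = LinearMap.ker b₁)
    (e5 : LinearMap.range b₁ = LinearMap.ker c₁) (e6 : LinearMap.range c₁ = LinearMap.ker a₀) :
    Module.length R A₀ + Module.length R C₀ + Module.length R B₁ =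
      Module.length R B₀ + Module.length R A₁ + Module.length R C₁ := by
  rw [len_mid c₁ a₀ e6, len_mid b₀ c₀ e2, len_mid a₁ b₁ e4, len_mid a₀ b₀ e1, len_mid c₀ a₁ e3,
    len_mid b₁ c₁ e5]
  ring

end hex

lemma herb_arith (a0 b0 c0 a1 b1 c1 : ℕ∞) (ha0 : a0 < ⊤) (hb0 : b0 < ⊤) (hc0 : c0 < ⊤)
    (ha1 : a1 < ⊤) (hb1 : b1 < ⊤) (hc1 : c1 < ⊤) (h : a0 + c0 + b1 = b0 + a1 + c1) :
    ((b0.toNat : ℤ) - (b1.toNat : ℤ)) =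
      ((a0.toNat : ℤ) - (a1.toNat : ℤ)) + ((c0.toNat : ℤ) - (c1.toNat : ℤ)) := by
  lift a0 to ℕ using ha0.ne
  lift b0 to ℕ using hb0.ne
  lift c0 to ℕ using hc0.ne
  lift a1 to ℕ using ha1.ne
  lift b1 to ℕ using hb1.ne
  lift c1 to ℕ using hc1.ne
  simp only [ENat.toNat_natCast]
  have h' : a0 + c0 + b1 = b0 + a1 + c1 := by exact_mod_cast h
  omega

section lift
variable {R : Type u} [CommRing R] {P A B : Type v} [AddCommGroup P] [Module R P]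
  [AddCommGroup A] [Module R A] [AddCommGroup B] [Module R B]

noncomputable def liftSurj (p : P →ₗ[R] A) (hp : Function.Surjective p) (q : P →ₗ[R] B)
    (h : LinearMap.ker p ≤ LinearMap.ker q) : A →ₗ[R] B :=
  ((LinearMap.ker p).liftQ q h) ∘ₗ (p.quotKerEquivOfSurjective hp).symm.toLinearMap

lemma liftSurj_apply (p : P →ₗ[R] A) (hp : Function.Surjective p) (q : P →ₗ[R] B)
    (h : LinearMap.ker p ≤ LinearMap.ker q) (z : P) : liftSurj p hp q h (p z) = q z := by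
  show ((LinearMap.ker p).liftQ q h) ((p.quotKerEquivOfSurjective hp).symm (p z)) = q z
  rw [LinearMap.quotKerEquivOfSurjective_symm_apply]
  rfl

end lift

section ses
variable {R : Type u} [CommRing R] {M₁ N₁ M₂ N₂ M₃ N₃ : Type v}
  [AddCommGroup M₁] [Module R M₁] [AddCommGroup N₁] [Module R N₁]
  [AddCommGroup M₂] [Module R M₂] [AddCommGroup N₂] [Module R N₂]
  [AddCommGroup M₃] [Module R M₃] [AddCommGroup N₃] [Module R N₃]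

/-- A short exact sequence of 2-periodic complexes (only periodicity of the middle one is needed). -/
structure SES (φ₁ : M₁ →ₗ[R] N₁) (ψ₁ : N₁ →ₗ[R] M₁) (φ₂ : M₂ →ₗ[R] N₂) (ψ₂ : N₂ →ₗ[R] M₂)
    (φ₃ : M₃ →ₗ[R] N₃) (ψ₃ : N₃ →ₗ[R] M₃) (f₁ : M₁ →ₗ[R] M₂) (g₁ : N₁ →ₗ[R] N₂)
    (f₂ : M₂ →ₗ[R] M₃) (g₂ : N₂ →ₗ[R] N₃) : Prop where
  pq₂ : ∀ n, φ₂ (ψ₂ n) = 0
  qp₂ : ∀ m, ψ₂ (φ₂ m) = 0
  cφ₁ : φ₂ ∘ₗ f₁ = g₁ ∘ₗ φ₁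
  cψ₁ : ψ₂ ∘ₗ g₁ = f₁ ∘ₗ ψ₁
  cφ₂ : φ₃ ∘ₗ f₂ = g₂ ∘ₗ φ₂
  cψ₂ : ψ₃ ∘ₗ g₂ = f₂ ∘ₗ ψ₂
  hf₁ : Function.Injective f₁
  hg₁ : Function.Injective g₁
  hf₂ : Function.Surjective f₂
  hg₂ : Function.Surjective g₂
  hM : LinearMap.range f₁ = LinearMap.ker f₂
  hN : LinearMap.range g₁ = LinearMap.ker g₂

variable {φ₁ : M₁ →ₗ[R] N₁} {ψ₁ : N₁ →ₗ[R] M₁} {φ₂ : M₂ →ₗ[R] N₂} {ψ₂ : N₂ →ₗ[R] M₂}
  {φ₃ : M₃ →ₗ[R] N₃} {ψ₃ : N₃ →ₗ[R] M₃} {f₁ : M₁ →ₗ[R] M₂} {g₁ : N₁ →ₗ[R] N₂}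
  {f₂ : M₂ →ₗ[R] M₃} {g₂ : N₂ →ₗ[R] N₃}

lemma SES.swap (S : SES φ₁ ψ₁ φ₂ ψ₂ φ₃ ψ₃ f₁ g₁ f₂ g₂) :
    SES ψ₁ φ₁ ψ₂ φ₂ ψ₃ φ₃ g₁ f₁ g₂ f₂ :=
  { pq₂ := S.qp₂, qp₂ := S.pq₂, cφ₁ := S.cψ₁, cψ₁ := S.cφ₁, cφ₂ := S.cψ₂, cψ₂ := S.cφ₂,
    hf₁ := S.hg₁, hg₁ := S.hf₁, hf₂ := S.hg₂, hg₂ := S.hf₂, hM := S.hN, hN := S.hM }

lemma SES.eφ₁ (S : SES φ₁ ψ₁ φ₂ ψ₂ φ₃ ψ₃ f₁ g₁ f₂ g₂) (m : M₁) : φ₂ (f₁ m) = g₁ (φ₁ m) :=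
  LinearMap.congr_fun S.cφ₁ m
lemma SES.eψ₁ (S : SES φ₁ ψ₁ φ₂ ψ₂ φ₃ ψ₃ f₁ g₁ f₂ g₂) (n : N₁) : ψ₂ (g₁ n) = f₁ (ψ₁ n) :=
  LinearMap.congr_fun S.cψ₁ n
lemma SES.eφ₂ (S : SES φ₁ ψ₁ φ₂ ψ₂ φ₃ ψ₃ f₁ g₁ f₂ g₂) (m : M₂) : φ₃ (f₂ m) = g₂ (φ₂ m) :=
  LinearMap.congr_fun S.cφ₂ m
lemma SES.eψ₂ (S : SES φ₁ ψ₁ φ₂ ψ₂ φ₃ ψ₃ f₁ g₁ f₂ g₂) (n : N₂) : ψ₃ (g₂ n) = f₂ (ψ₂ n) :=
  LinearMap.congr_fun S.cψ₂ n

lemma SES.ff (S : SES φ₁ ψ₁ φ₂ ψ₂ φ₃ ψ₃ f₁ g₁ f₂ g₂) (m : M₁) : f₂ (f₁ m) = 0 := by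
  have h : f₁ m ∈ LinearMap.ker f₂ := by rw [← S.hM]; exact LinearMap.mem_range_self f₁ m
  exact LinearMap.mem_ker.mp h

lemma SES.gg (S : SES φ₁ ψ₁ φ₂ ψ₂ φ₃ ψ₃ f₁ g₁ f₂ g₂) (n : N₁) : g₂ (g₁ n) = 0 := by
  have h : g₁ n ∈ LinearMap.ker g₂ := by rw [← S.hN]; exact LinearMap.mem_range_self g₁ n
  exact LinearMap.mem_ker.mp h

lemma SES.exM (S : SES φ₁ ψ₁ φ₂ ψ₂ φ₃ ψ₃ f₁ g₁ f₂ g₂) (x : M₂) (hx : f₂ x = 0) :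
    ∃ m, f₁ m = x := by
  have h : x ∈ LinearMap.range f₁ := by rw [S.hM]; exact LinearMap.mem_ker.mpr hx
  exact h

lemma SES.exN (S : SES φ₁ ψ₁ φ₂ ψ₂ φ₃ ψ₃ f₁ g₁ f₂ g₂) (y : N₂) (hy : g₂ y = 0) :
    ∃ n, g₁ n = y := by
  have h : y ∈ LinearMap.range g₁ := by rw [S.hN]; exact LinearMap.mem_ker.mpr hy
  exact h

theorem SES.mid (S : SES φ₁ ψ₁ φ₂ ψ₂ φ₃ ψ₃ f₁ g₁ f₂ g₂) :
    LinearMap.range (perMap (ψ := ψ₁) (ψ' := ψ₂) f₁ g₁ S.cφ₁ S.cψ₁) =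
      LinearMap.ker (perMap (ψ := ψ₂) (ψ' := ψ₃) f₂ g₂ S.cφ₂ S.cψ₂) := by
  apply le_antisymm
  · rintro _ ⟨c, rfl⟩
    obtain ⟨x, rfl⟩ := perMk_surj φ₁ ψ₁ c
    rw [LinearMap.mem_ker, perMap_mk, perMap_mk, perMk_eq_zero]
    refine ⟨0, ?_⟩
    rw [map_zero, kerMap_coe, kerMap_coe, S.ff]
  · intro c hc
    obtain ⟨x, rfl⟩ := perMk_surj φ₂ ψ₂ c
    rw [LinearMap.mem_ker, perMap_mk, perMk_eq_zero] at hc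
    obtain ⟨n₃, hn₃⟩ := hc
    rw [kerMap_coe] at hn₃
    obtain ⟨n₂, rfl⟩ := S.hg₂ n₃
    have h0 : f₂ (x.1 - ψ₂ n₂) = 0 := by rw [map_sub, ← S.eψ₂, hn₃, sub_self]
    obtain ⟨m₁, hm₁⟩ := S.exM _ h0
    have hk : φ₁ m₁ = 0 := by
      apply S.hg₁
      rw [map_zero, ← S.eφ₁, hm₁, map_sub, LinearMap.mem_ker.mp x.2, S.pq₂, sub_zero]
    refine ⟨perMk φ₁ ψ₁ ⟨m₁, LinearMap.mem_ker.mpr hk⟩, ?_⟩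
    rw [perMap_mk]
    apply perMk_eq
    refine ⟨-n₂, ?_⟩
    rw [kerMap_coe, map_neg]
    show -ψ₂ n₂ = f₁ m₁ - x.1
    rw [hm₁]; abel

/-- the pullback `{(x, y) : M₂ × N₁ | φ₂ x = g₁ y}` -/
def pbk (φ₂ : M₂ →ₗ[R] N₂) (g₁ : N₁ →ₗ[R] N₂) : Submodule R (M₂ × N₁) :=
  LinearMap.eqLocus (φ₂ ∘ₗ LinearMap.fst R M₂ N₁) (g₁ ∘ₗ LinearMap.snd R M₂ N₁)

lemma mem_pbk {φ₂ : M₂ →ₗ[R] N₂} {g₁ : N₁ →ₗ[R] N₂} {z : M₂ × N₁} :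
    z ∈ pbk φ₂ g₁ ↔ φ₂ z.1 = g₁ z.2 := Iff.rfl

noncomputable def SES.pKer (S : SES φ₁ ψ₁ φ₂ ψ₂ φ₃ ψ₃ f₁ g₁ f₂ g₂) :
    ↥(pbk φ₂ g₁) →ₗ[R] ↥(LinearMap.ker φ₃) :=
  LinearMap.codRestrict (LinearMap.ker φ₃)
    (f₂ ∘ₗ LinearMap.fst R M₂ N₁ ∘ₗ (pbk φ₂ g₁).subtype) (fun z => by
    rw [LinearMap.mem_ker]
    show φ₃ (f₂ z.1.1) = 0
    rw [S.eφ₂, mem_pbk.mp z.2, S.gg])

noncomputable def SES.qKer (S : SES φ₁ ψ₁ φ₂ ψ₂ φ₃ ψ₃ f₁ g₁ f₂ g₂) :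
    ↥(pbk φ₂ g₁) →ₗ[R] ↥(LinearMap.ker ψ₁) :=
  LinearMap.codRestrict (LinearMap.ker ψ₁)
    (LinearMap.snd R M₂ N₁ ∘ₗ (pbk φ₂ g₁).subtype) (fun z => by
    rw [LinearMap.mem_ker]
    show ψ₁ z.1.2 = 0
    apply S.hf₁
    rw [map_zero, ← S.eψ₁, ← mem_pbk.mp z.2, S.qp₂])

lemma SES.pKer_coe (S : SES φ₁ ψ₁ φ₂ ψ₂ φ₃ ψ₃ f₁ g₁ f₂ g₂) (z : ↥(pbk φ₂ g₁)) :
    (S.pKer z).1 = f₂ z.1.1 := rfl

lemma SES.qKer_coe (S : SES φ₁ ψ₁ φ₂ ψ₂ φ₃ ψ₃ f₁ g₁ f₂ g₂) (z : ↥(pbk φ₂ g₁)) :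
    (S.qKer z).1 = z.1.2 := rfl

noncomputable def SES.pMap (S : SES φ₁ ψ₁ φ₂ ψ₂ φ₃ ψ₃ f₁ g₁ f₂ g₂) :
    ↥(pbk φ₂ g₁) →ₗ[R] perH φ₃ ψ₃ := perMk φ₃ ψ₃ ∘ₗ S.pKer

noncomputable def SES.qMap (S : SES φ₁ ψ₁ φ₂ ψ₂ φ₃ ψ₃ f₁ g₁ f₂ g₂) :
    ↥(pbk φ₂ g₁) →ₗ[R] perH ψ₁ φ₁ := perMk ψ₁ φ₁ ∘ₗ S.qKer

lemma SES.pMap_apply (S : SES φ₁ ψ₁ φ₂ ψ₂ φ₃ ψ₃ f₁ g₁ f₂ g₂) (z : ↥(pbk φ₂ g₁)) :
    S.pMap z = perMk φ₃ ψ₃ (S.pKer z) := rfl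

lemma SES.qMap_apply (S : SES φ₁ ψ₁ φ₂ ψ₂ φ₃ ψ₃ f₁ g₁ f₂ g₂) (z : ↥(pbk φ₂ g₁)) :
    S.qMap z = perMk ψ₁ φ₁ (S.qKer z) := rfl

lemma SES.pMap_surj (S : SES φ₁ ψ₁ φ₂ ψ₂ φ₃ ψ₃ f₁ g₁ f₂ g₂) : Function.Surjective S.pMap := by
  intro c
  obtain ⟨x, rfl⟩ := perMk_surj φ₃ ψ₃ c
  obtain ⟨x₂, hx₂⟩ := S.hf₂ x.1
  have h0 : g₂ (φ₂ x₂) = 0 := by rw [← S.eφ₂, hx₂]; exact LinearMap.mem_ker.mp x.2
  obtain ⟨y₁, hy₁⟩ := S.exN _ h0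
  refine ⟨⟨(x₂, y₁), mem_pbk.mpr hy₁.symm⟩, ?_⟩
  rw [S.pMap_apply]
  exact congrArg _ (Subtype.ext hx₂)

lemma SES.ker_le (S : SES φ₁ ψ₁ φ₂ ψ₂ φ₃ ψ₃ f₁ g₁ f₂ g₂) :
    LinearMap.ker S.pMap ≤ LinearMap.ker S.qMap := by
  intro z hz
  rw [LinearMap.mem_ker] at hz ⊢
  rw [S.pMap_apply, perMk_eq_zero] at hz
  obtain ⟨n₃, hn₃⟩ := hz
  rw [S.pKer_coe] at hn₃
  obtain ⟨n₂, rfl⟩ := S.hg₂ n₃
  have h0 : f₂ (z.1.1 - ψ₂ n₂) = 0 := by rw [map_sub, ← S.eψ₂, hn₃, sub_self]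
  obtain ⟨m₁, hm₁⟩ := S.exM _ h0
  rw [S.qMap_apply, perMk_eq_zero]
  refine ⟨m₁, ?_⟩
  rw [S.qKer_coe]
  apply S.hg₁
  rw [← S.eφ₁, hm₁, map_sub, S.pq₂, sub_zero]
  exact mem_pbk.mp z.2

/-- the connecting homomorphism -/
noncomputable def SES.delta (S : SES φ₁ ψ₁ φ₂ ψ₂ φ₃ ψ₃ f₁ g₁ f₂ g₂) :
    perH φ₃ ψ₃ →ₗ[R] perH ψ₁ φ₁ := liftSurj S.pMap S.pMap_surj S.qMap S.ker_le

lemma SES.delta_apply (S : SES φ₁ ψ₁ φ₂ ψ₂ φ₃ ψ₃ f₁ g₁ f₂ g₂) (z : ↥(pbk φ₂ g₁)) :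
    S.delta (S.pMap z) = S.qMap z := liftSurj_apply _ _ _ _ z

theorem SES.at3 (S : SES φ₁ ψ₁ φ₂ ψ₂ φ₃ ψ₃ f₁ g₁ f₂ g₂) :
    LinearMap.range (perMap (ψ := ψ₂) (ψ' := ψ₃) f₂ g₂ S.cφ₂ S.cψ₂) = LinearMap.ker S.delta := by
  apply le_antisymm
  · rintro _ ⟨c, rfl⟩
    obtain ⟨x, rfl⟩ := perMk_surj φ₂ ψ₂ c
    have hz : ((x.1, (0 : N₁)) : M₂ × N₁) ∈ pbk φ₂ g₁ := by
      rw [mem_pbk]
      show φ₂ x.1 = g₁ 0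
      rw [map_zero]; exact LinearMap.mem_ker.mp x.2
    have e : perMap (ψ := ψ₂) (ψ' := ψ₃) f₂ g₂ S.cφ₂ S.cψ₂ (perMk φ₂ ψ₂ x)
        = S.pMap ⟨(x.1, 0), hz⟩ := rfl
    rw [LinearMap.mem_ker, e, S.delta_apply, S.qMap_apply, perMk_eq_zero]
    exact ⟨0, by rw [map_zero]; rfl⟩
  · intro c hc
    obtain ⟨z, rfl⟩ := S.pMap_surj c
    rw [LinearMap.mem_ker, S.delta_apply, S.qMap_apply, perMk_eq_zero] at hc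
    obtain ⟨m, hm⟩ := hc
    rw [S.qKer_coe] at hm
    have hk : φ₂ (z.1.1 - f₁ m) = 0 := by
      rw [map_sub, S.eφ₁, hm, mem_pbk.mp z.2, sub_self]
    refine ⟨perMk φ₂ ψ₂ ⟨z.1.1 - f₁ m, LinearMap.mem_ker.mpr hk⟩, ?_⟩
    rw [perMap_mk, S.pMap_apply]
    refine congrArg _ (Subtype.ext ?_)
    show f₂ (z.1.1 - f₁ m) = f₂ z.1.1
    rw [map_sub, S.ff, sub_zero]

theorem SES.at1 (S : SES φ₁ ψ₁ φ₂ ψ₂ φ₃ ψ₃ f₁ g₁ f₂ g₂) :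
    LinearMap.range S.delta =
      LinearMap.ker (perMap (ψ := φ₁) (ψ' := φ₂) g₁ f₁ S.cψ₁ S.cφ₁) := by
  apply le_antisymm
  · rintro _ ⟨c, rfl⟩
    obtain ⟨z, rfl⟩ := S.pMap_surj c
    rw [S.delta_apply, LinearMap.mem_ker, S.qMap_apply, perMap_mk, perMk_eq_zero]
    refine ⟨z.1.1, ?_⟩
    rw [kerMap_coe, S.qKer_coe]
    exact mem_pbk.mp z.2
  · intro c hc
    obtain ⟨y, rfl⟩ := perMk_surj ψ₁ φ₁ c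
    rw [LinearMap.mem_ker, perMap_mk, perMk_eq_zero] at hc
    obtain ⟨x, hx⟩ := hc
    rw [kerMap_coe] at hx
    refine ⟨S.pMap ⟨(x, y.1), mem_pbk.mpr hx⟩, ?_⟩
    rw [S.delta_apply, S.qMap_apply]
    exact congrArg _ (Subtype.ext rfl)

theorem SES.main (S : SES φ₁ ψ₁ φ₂ ψ₂ φ₃ ψ₃ f₁ g₁ f₂ g₂)
    (htwo : (FinCoh R φ₁ ψ₁ ∧ FinCoh R φ₂ ψ₂) ∨ (FinCoh R φ₁ ψ₁ ∧ FinCoh R φ₃ ψ₃) ∨
      (FinCoh R φ₂ ψ₂ ∧ FinCoh R φ₃ ψ₃)) :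
    FinCoh R φ₁ ψ₁ ∧ FinCoh R φ₂ ψ₂ ∧ FinCoh R φ₃ ψ₃ ∧
      herbrand R φ₂ ψ₂ = herbrand R φ₁ ψ₁ + herbrand R φ₃ ψ₃ := by
  have e1 := S.mid
  have e2 := S.at3
  have e3 := S.at1
  have e4 := S.swap.mid
  have e5 := S.swap.at3
  have e6 := S.swap.at1
  have all : (Module.length R (perH φ₁ ψ₁) < ⊤ ∧ Module.length R (perH ψ₁ φ₁) < ⊤) ∧
      (Module.length R (perH φ₂ ψ₂) < ⊤ ∧ Module.length R (perH ψ₂ φ₂) < ⊤) ∧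
      (Module.length R (perH φ₃ ψ₃) < ⊤ ∧ Module.length R (perH ψ₃ φ₃) < ⊤) := by
    rcases htwo with ⟨F1, F2⟩ | ⟨F1, F3⟩ | ⟨F2, F3⟩
    · obtain ⟨a0, a1⟩ := F1
      obtain ⟨b0, b1⟩ := F2
      exact ⟨⟨a0, a1⟩, ⟨b0, b1⟩,
        ⟨len_mid_lt_top _ _ e2 b0 a1, len_mid_lt_top _ _ e5 b1 a0⟩⟩
    · obtain ⟨a0, a1⟩ := F1
      obtain ⟨c0, c1⟩ := F3
      exact ⟨⟨a0, a1⟩, ⟨len_mid_lt_top _ _ e1 a0 c0, len_mid_lt_top _ _ e4 a1 c1⟩, ⟨c0, c1⟩⟩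
    · obtain ⟨b0, b1⟩ := F2
      obtain ⟨c0, c1⟩ := F3
      exact ⟨⟨len_mid_lt_top _ _ e6 c1 b0, len_mid_lt_top _ _ e3 c0 b1⟩, ⟨b0, b1⟩, ⟨c0, c1⟩⟩
  obtain ⟨⟨a0, a1⟩, ⟨b0, b1⟩, ⟨c0, c1⟩⟩ := all
  refine ⟨And.intro a0 a1, And.intro b0 b1, And.intro c0 c1, ?_⟩
  have hs := hex_sum _ _ _ _ _ _ e1 e2 e3 e4 e5 e6
  exact herb_arith _ _ _ _ _ _ a0 b0 c0 a1 b1 c1 hs

end ses

end Groth.Agent.Lib.HerbHexH1
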