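import Mathlib
import Groth.Statements.S6464

set_option autoImplicit false
universe u v
open CycAlg

namespace Groth.Agent.Lib.Herbrand

variable {R : Type u} [CommRing R] {M N : Type v} [AddCommGroup M] [Module R M]
  [AddCommGroup N] [Module R N]

lemma len_split (φ : M →ₗ[R] N) (ψ : N →ₗ[R] M) (h : φ ∘ₗ ψ = 0) :
    Module.length R M = Module.length R (LinearMap.range ψ) + Module.length R (perH φ ψ)
      + Module.length R (LinearMap.range φ) := by
  have hle : LinearMap.range ψ ≤ LinearMap.ker φ := by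
    rintro _ ⟨y, rfl⟩
    exact LinearMap.mem_ker.mpr (by simpa using LinearMap.congr_fun h y)
  have h1 : Module.length R M =
      Module.length R (LinearMap.ker φ) + Module.length R (LinearMap.range φ) :=
    Module.length_eq_add_of_exact (LinearMap.ker φ).subtype φ.rangeRestrict
      (Submodule.subtype_injective _) φ.surjective_rangeRestrict
      (LinearMap.exact_iff.mpr (by rw [LinearMap.ker_rangeRestrict, Submodule.range_subtype]))
  have h2 : Module.length R (LinearMap.ker φ) =
      Module.length R ((LinearMap.range ψ).submoduleOf (LinearMap.ker φ))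
        + Module.length R (perH φ ψ) :=
    Module.length_eq_add_of_exact (Submodule.subtype _) (Submodule.mkQ _)
      (Submodule.subtype_injective _) (Submodule.mkQ_surjective _)
      (LinearMap.exact_subtype_mkQ _)
  have h3 : Module.length R ((LinearMap.range ψ).submoduleOf (LinearMap.ker φ)) =
      Module.length R (LinearMap.range ψ) :=
    (Submodule.submoduleOfEquivOfLe hle).length_eq
  rw [h1, h2, h3]

theorem main (φ : M →ₗ[R] N) (ψ : N →ₗ[R] M) (h : CycAlg.IsPeriodic φ ψ)
    (hM : Module.length R M < ⊤) (hN : Module.length R N < ⊤) :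
    CycAlg.FinCoh R φ ψ ∧ CycAlg.herbrand R φ ψ =
      ((Module.length R M).toNat : ℤ) - ((Module.length R N).toNat : ℤ) := by
  have e1 := len_split φ ψ h.1
  have e2 := len_split ψ φ h.2
  have ha : Module.length R (LinearMap.range ψ) ≠ ⊤ :=
    ne_top_of_le_ne_top hM.ne (by rw [e1]; exact le_add_right (le_add_right le_rfl))
  have hc : Module.length R (perH φ ψ) ≠ ⊤ :=
    ne_top_of_le_ne_top hM.ne (by rw [e1]; exact le_add_right (le_add_left le_rfl))
  have hb : Module.length R (LinearMap.range φ) ≠ ⊤ :=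
    ne_top_of_le_ne_top hM.ne (by rw [e1]; exact le_add_left le_rfl)
  have hd : Module.length R (perH ψ φ) ≠ ⊤ :=
    ne_top_of_le_ne_top hN.ne (by rw [e2]; exact le_add_right (le_add_left le_rfl))
  have hF : CycAlg.FinCoh R φ ψ := And.intro hc.lt_top hd.lt_top
  refine ⟨hF, ?_⟩
  obtain ⟨a, ha'⟩ := ENat.ne_top_iff_exists.mp ha
  obtain ⟨b, hb'⟩ := ENat.ne_top_iff_exists.mp hb
  obtain ⟨c, hc'⟩ := ENat.ne_top_iff_exists.mp hc
  obtain ⟨d, hd'⟩ := ENat.ne_top_iff_exists.mp hd
  rw [← ha', ← hc', ← hb'] at e1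
  rw [← hb', ← hd', ← ha'] at e2
  have t1 : ((a : ℕ∞) + c + b).toNat = a + c + b := by
    exact_mod_cast ENat.toNat_coe (a + c + b)
  have t2 : ((b : ℕ∞) + d + a).toNat = b + d + a := by
    exact_mod_cast ENat.toNat_coe (b + d + a)
  unfold CycAlg.herbrand
  rw [← hc', ← hd', e1, e2, t1, t2, ENat.toNat_coe, ENat.toNat_coe]
  push_cast
  ring

end Groth.Agent.Lib.Herbrand
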