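import Mathlib
import Groth.Prelude.Def_CycAlg
import Groth.Agent.Lib.HerbHex_helper1
import Groth.Agent.Lib.Herbrand_lead

set_option autoImplicit false
set_option maxHeartbeats 1000000
universe u v
open CycAlg

namespace Groth.Agent.Lib.HerbHexH1

section s1870
variable {R : Type u} [CommRing R] {M M' : Type v} [AddCommGroup M] [Module R M]
  [AddCommGroup M'] [Module R M']

theorem main1870 (φ ψ : M →ₗ[R] M) (φ' ψ' : M' →ₗ[R] M') (h : IsPeriodic φ ψ)
    (h' : IsPeriodic φ' ψ') (f : M →ₗ[R] M') (cφ : φ' ∘ₗ f = f ∘ₗ φ) (cψ : ψ' ∘ₗ f = f ∘ₗ ψ)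
    (hfin : FinCoh R φ ψ) (hfin' : FinCoh R φ' ψ')
    (hker : Module.length R (LinearMap.ker f) < ⊤)
    (hcoker : Module.length R (M' ⧸ LinearMap.range f) < ⊤) :
    herbrand R φ ψ = herbrand R φ' ψ' := by
  have eφ : ∀ x, φ' (f x) = f (φ x) := fun x => LinearMap.congr_fun cφ x
  have eψ : ∀ x, ψ' (f x) = f (ψ x) := fun x => LinearMap.congr_fun cψ x
  have pq : ∀ x, φ (ψ x) = 0 := fun x => LinearMap.congr_fun h.1 x
  have qp : ∀ x, ψ (φ x) = 0 := fun x => LinearMap.congr_fun h.2 x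
  have pq' : ∀ x, φ' (ψ' x) = 0 := fun x => LinearMap.congr_fun h'.1 x
  have qp' : ∀ x, ψ' (φ' x) = 0 := fun x => LinearMap.congr_fun h'.2 x
  have hφK : ∀ x ∈ LinearMap.ker f, φ x ∈ LinearMap.ker f := by
    intro x hx
    rw [LinearMap.mem_ker] at hx ⊢
    rw [← eφ, hx, map_zero]
  have hψK : ∀ x ∈ LinearMap.ker f, ψ x ∈ LinearMap.ker f := by
    intro x hx
    rw [LinearMap.mem_ker] at hx ⊢
    rw [← eψ, hx, map_zero]
  have hφI : ∀ y ∈ LinearMap.range f, φ' y ∈ LinearMap.range f := by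
    rintro _ ⟨x, rfl⟩
    exact ⟨φ x, (eφ x).symm⟩
  have hψI : ∀ y ∈ LinearMap.range f, ψ' y ∈ LinearMap.range f := by
    rintro _ ⟨x, rfl⟩
    exact ⟨ψ x, (eψ x).symm⟩
  obtain ⟨φK, hφK'⟩ : ∃ g : ↥(LinearMap.ker f) →ₗ[R] ↥(LinearMap.ker f), ∀ x, (g x).1 = φ x.1 :=
    ⟨φ.restrict hφK, fun x => rfl⟩
  obtain ⟨ψK, hψK'⟩ : ∃ g : ↥(LinearMap.ker f) →ₗ[R] ↥(LinearMap.ker f), ∀ x, (g x).1 = ψ x.1 :=
    ⟨ψ.restrict hψK, fun x => rfl⟩
  obtain ⟨φI, hφI'⟩ : ∃ g : ↥(LinearMap.range f) →ₗ[R] ↥(LinearMap.range f),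
      ∀ x, (g x).1 = φ' x.1 := ⟨φ'.restrict hφI, fun x => rfl⟩
  obtain ⟨ψI, hψI'⟩ : ∃ g : ↥(LinearMap.range f) →ₗ[R] ↥(LinearMap.range f),
      ∀ x, (g x).1 = ψ' x.1 := ⟨ψ'.restrict hψI, fun x => rfl⟩
  obtain ⟨φQ, hφQ⟩ : ∃ g : (M' ⧸ LinearMap.range f) →ₗ[R] (M' ⧸ LinearMap.range f),
      ∀ y, g ((LinearMap.range f).mkQ y) = (LinearMap.range f).mkQ (φ' y) :=
    ⟨(LinearMap.range f).mapQ (LinearMap.range f) φ' (fun y hy => hφI y hy), fun y => rfl⟩
  obtain ⟨ψQ, hψQ⟩ : ∃ g : (M' ⧸ LinearMap.range f) →ₗ[R] (M' ⧸ LinearMap.range f),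
      ∀ y, g ((LinearMap.range f).mkQ y) = (LinearMap.range f).mkQ (ψ' y) :=
    ⟨(LinearMap.range f).mapQ (LinearMap.range f) ψ' (fun y hy => hψI y hy), fun y => rfl⟩
  have S1 : SES φK ψK φ ψ φI ψI (LinearMap.ker f).subtype (LinearMap.ker f).subtype
      f.rangeRestrict f.rangeRestrict :=
    { pq₂ := pq, qp₂ := qp
      cφ₁ := LinearMap.ext fun x => (hφK' x).symm
      cψ₁ := LinearMap.ext fun x => (hψK' x).symm
      cφ₂ := LinearMap.ext fun x => Subtype.ext ((hφI' _).trans (eφ x))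
      cψ₂ := LinearMap.ext fun x => Subtype.ext ((hψI' _).trans (eψ x))
      hf₁ := Submodule.subtype_injective _
      hg₁ := Submodule.subtype_injective _
      hf₂ := f.surjective_rangeRestrict
      hg₂ := f.surjective_rangeRestrict
      hM := by rw [Submodule.range_subtype, LinearMap.ker_rangeRestrict]
      hN := by rw [Submodule.range_subtype, LinearMap.ker_rangeRestrict] }
  have S2 : SES φI ψI φ' ψ' φQ ψQ (LinearMap.range f).subtype (LinearMap.range f).subtype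
      (LinearMap.range f).mkQ (LinearMap.range f).mkQ :=
    { pq₂ := pq', qp₂ := qp'
      cφ₁ := LinearMap.ext fun x => (hφI' x).symm
      cψ₁ := LinearMap.ext fun x => (hψI' x).symm
      cφ₂ := LinearMap.ext fun x => hφQ x
      cψ₂ := LinearMap.ext fun x => hψQ x
      hf₁ := Submodule.subtype_injective _
      hg₁ := Submodule.subtype_injective _
      hf₂ := Submodule.mkQ_surjective _
      hg₂ := Submodule.mkQ_surjective _
      hM := by rw [Submodule.range_subtype, Submodule.ker_mkQ]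
      hN := by rw [Submodule.range_subtype, Submodule.ker_mkQ] }
  have perK : IsPeriodic φK ψK :=
    And.intro (LinearMap.ext fun x => Subtype.ext (by
        show (φK (ψK x)).1 = 0
        rw [hφK', hψK', pq]))
      (LinearMap.ext fun x => Subtype.ext (by
        show (ψK (φK x)).1 = 0
        rw [hψK', hφK', qp]))
  have perQ : IsPeriodic φQ ψQ :=
    And.intro (LinearMap.ext fun c => by
        obtain ⟨y, rfl⟩ := Submodule.mkQ_surjective _ c
        show φQ (ψQ ((LinearMap.range f).mkQ y)) = 0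
        rw [hψQ, hφQ, pq', map_zero])
      (LinearMap.ext fun c => by
        obtain ⟨y, rfl⟩ := Submodule.mkQ_surjective _ c
        show ψQ (φQ ((LinearMap.range f).mkQ y)) = 0
        rw [hφQ, hψQ, qp', map_zero])
  have FK := Groth.Agent.Lib.Herbrand.main φK ψK perK hker hker
  have FQ := Groth.Agent.Lib.Herbrand.main φQ ψQ perQ hcoker hcoker
  have r1 := S1.main (Or.inl ⟨FK.1, hfin⟩)
  have r2 := S2.main (Or.inl ⟨r1.2.2.1, hfin'⟩)
  have k1 := FK.2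
  have k2 := FQ.2
  rw [sub_self] at k1 k2
  rw [r1.2.2.2, r2.2.2.2, k1, k2, zero_add, add_zero]

end s1870

section three
variable {R : Type u} [CommRing R] {M : Type v} [AddCommGroup M] [Module R M]

/-- `ker α / im βγ → ker αβ / im γ`, induced by the identity -/
noncomputable def incl3 (α β γ : M →ₗ[R] M) (c1 : α ∘ₗ β = β ∘ₗ α) (c2 : β ∘ₗ γ = γ ∘ₗ β) :
    perH α (β ∘ₗ γ) →ₗ[R] perH (α ∘ₗ β) γ :=
  perMap LinearMap.id β (by rw [LinearMap.comp_id]; exact c1)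
    (by rw [LinearMap.id_comp]; exact c2.symm)

/-- `ker αβ / im γ → ker β / im γα`, induced by `α` -/
noncomputable def mult3 (α β γ : M →ₗ[R] M) (c1 : α ∘ₗ β = β ∘ₗ α) (c3 : γ ∘ₗ α = α ∘ₗ γ) :
    perH (α ∘ₗ β) γ →ₗ[R] perH β (γ ∘ₗ α) :=
  perMap α LinearMap.id (by rw [LinearMap.id_comp]; exact c1.symm)
    (by rw [LinearMap.comp_id]; exact c3)

theorem E1 (α β γ : M →ₗ[R] M) (c1 : α ∘ₗ β = β ∘ₗ α) (c2 : β ∘ₗ γ = γ ∘ₗ β)
    (c3 : γ ∘ₗ α = α ∘ₗ γ) :
    LinearMap.range (incl3 α β γ c1 c2) = LinearMap.ker (mult3 α β γ c1 c3) := by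
  have e3 : ∀ m, γ (α m) = α (γ m) := fun m => LinearMap.congr_fun c3 m
  apply le_antisymm
  · rintro _ ⟨c, rfl⟩
    obtain ⟨x, rfl⟩ := perMk_surj α (β ∘ₗ γ) c
    rw [LinearMap.mem_ker]
    unfold incl3 mult3
    rw [perMap_mk, perMap_mk, perMk_eq_zero]
    refine ⟨0, ?_⟩
    rw [map_zero, kerMap_coe, kerMap_coe]
    show 0 = α x.1
    exact (LinearMap.mem_ker.mp x.2).symm
  · intro c hc
    obtain ⟨x, rfl⟩ := perMk_surj (α ∘ₗ β) γ c
    unfold mult3 at hc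
    rw [LinearMap.mem_ker, perMap_mk, perMk_eq_zero] at hc
    obtain ⟨m, hm⟩ := hc
    rw [kerMap_coe] at hm
    have hm' : γ (α m) = α x.1 := hm
    have hk : α (x.1 - γ m) = 0 := by rw [map_sub, ← e3, hm', sub_self]
    refine ⟨perMk α (β ∘ₗ γ) ⟨x.1 - γ m, LinearMap.mem_ker.mpr hk⟩, ?_⟩
    unfold incl3
    rw [perMap_mk]
    apply perMk_eq
    refine ⟨-m, ?_⟩
    rw [kerMap_coe, map_neg]
    show -γ m = (x.1 - γ m) - x.1
    abel

theorem E2 (α β γ : M →ₗ[R] M) (c1 : α ∘ₗ β = β ∘ₗ α) (c2 : β ∘ₗ γ = γ ∘ₗ β)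
    (c3 : γ ∘ₗ α = α ∘ₗ γ) :
    LinearMap.range (mult3 α β γ c1 c3) = LinearMap.ker (incl3 β γ α c2 c3) := by
  have e1 : ∀ m, α (β m) = β (α m) := fun m => LinearMap.congr_fun c1 m
  apply le_antisymm
  · rintro _ ⟨c, rfl⟩
    obtain ⟨x, rfl⟩ := perMk_surj (α ∘ₗ β) γ c
    rw [LinearMap.mem_ker]
    unfold incl3 mult3
    rw [perMap_mk, perMap_mk, perMk_eq_zero]
    refine ⟨x.1, ?_⟩
    rw [kerMap_coe, kerMap_coe]
    rfl
  · intro c hc
    obtain ⟨y, rfl⟩ := perMk_surj β (γ ∘ₗ α) c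
    unfold incl3 at hc
    rw [LinearMap.mem_ker, perMap_mk, perMk_eq_zero] at hc
    obtain ⟨m, hm⟩ := hc
    rw [kerMap_coe] at hm
    have hm' : α m = y.1 := hm
    have hk : (α ∘ₗ β) m = 0 := by
      show α (β m) = 0
      rw [e1, hm']; exact LinearMap.mem_ker.mp y.2
    refine ⟨perMk (α ∘ₗ β) γ ⟨m, LinearMap.mem_ker.mpr hk⟩, ?_⟩
    unfold mult3
    rw [perMap_mk]
    exact congrArg _ (Subtype.ext hm')

theorem three_all (α β γ αβ βγ γα : M →ₗ[R] M) (h1 : αβ = α ∘ₗ β) (h2 : βγ = β ∘ₗ γ)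
    (h3 : γα = γ ∘ₗ α) (c1 : α ∘ₗ β = β ∘ₗ α) (c2 : β ∘ₗ γ = γ ∘ₗ β) (c3 : γ ∘ₗ α = α ∘ₗ γ) :
    (Module.length R (perH α βγ) < ⊤ → Module.length R (perH β γα) < ⊤ →
      Module.length R (perH αβ γ) < ⊤) ∧
    (Module.length R (perH α βγ) + Module.length R (perH β γα) + Module.length R (perH γ αβ) =
      Module.length R (perH αβ γ) + Module.length R (perH βγ α) + Module.length R (perH γα β)) := by
  subst h1 h2 h3
  have x1 := E1 α β γ c1 c2 c3
  have x2 := E2 α β γ c1 c2 c3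
  have x3 := E1 β γ α c2 c3 c1
  have x4 := E2 β γ α c2 c3 c1
  have x5 := E1 γ α β c3 c1 c2
  have x6 := E2 γ α β c3 c1 c2
  refine ⟨fun hA hC => len_mid_lt_top _ _ x1 hA hC, ?_⟩
  exact hex_sum _ _ _ _ _ _ x1 x2 x3 x4 x5 x6

theorem three_herbrand (α β γ αβ βγ γα : M →ₗ[R] M) (h1 : αβ = α ∘ₗ β) (h2 : βγ = β ∘ₗ γ)
    (h3 : γα = γ ∘ₗ α) (c1 : α ∘ₗ β = β ∘ₗ α) (c2 : β ∘ₗ γ = γ ∘ₗ β) (c3 : γ ∘ₗ α = α ∘ₗ γ)
    (F1 : FinCoh R α βγ) (F2 : FinCoh R β γα) (F3 : FinCoh R γ αβ) :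
    herbrand R αβ γ = herbrand R α βγ + herbrand R β γα := by
  obtain ⟨a0, a1⟩ := F1
  obtain ⟨c0, c1'⟩ := F2
  obtain ⟨b1, b0⟩ := F3
  have hs := (three_all α β γ αβ βγ γα h1 h2 h3 c1 c2 c3).2
  exact herb_arith _ _ _ _ _ _ a0 b0 c0 a1 b1 c1' hs

theorem pow_main (φ : M →ₗ[R] M) (m : ℕ) (hfin : Module.length R (perH φ (φ ^ m)) < ⊤) :
    ∀ p q, p + q = m + 1 → FinCoh R (φ ^ p) (φ ^ q) ∧ herbrand R (φ ^ p) (φ ^ q) = 0 := by
  have cpow : ∀ i j : ℕ, φ ^ i * φ ^ j = φ ^ j * φ ^ i :=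
    fun i j => ((Commute.refl φ).pow_pow i j).eq
  have c1r : ∀ j : ℕ, φ * φ ^ j = φ ^ j * φ := fun j => ((Commute.refl φ).pow_right j).eq
  have inj0 : ∀ x, (φ ^ 0) x = 0 → x = 0 := by
    intro x hx
    simpa using hx
  have surj0 : ∀ x, ∃ n, (φ ^ 0) n = x := fun x => ⟨x, by simp⟩
  have fin : ∀ p q, p + q = m + 1 → Module.length R (perH (φ ^ p) (φ ^ q)) < ⊤ := by
    intro p
    induction p with
    | zero =>
      intro q _
      have hs : Subsingleton (perH (φ ^ 0) (φ ^ q)) := perH_subsingleton_of_inj _ _ inj0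
      rw [Module.length_eq_zero_iff.mpr hs]
      exact WithTop.top_pos
    | succ p ih =>
      intro q hq
      rcases p with _ | p
      · have hq' : q = m := by omega
        subst hq'
        rw [len_congr (show φ ^ (0 + 1) = φ by simp) rfl]
        exact hfin
      · have hA : Module.length R (perH φ (φ ^ (p + 1 + q))) < ⊤ := by
          have : p + 1 + q = m := by omega
          rw [this]; exact hfin
        have hC : Module.length R (perH (φ ^ (p + 1)) (φ ^ (q + 1))) < ⊤ := ih (q + 1) (by omega)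
        exact (three_all φ (φ ^ (p + 1)) (φ ^ q) (φ ^ (p + 1 + 1)) (φ ^ (p + 1 + q)) (φ ^ (q + 1))
          (pow_succ' φ (p + 1)) (pow_add φ (p + 1) q) (pow_succ φ q) (c1r _) (cpow _ _)
          (c1r q).symm).1 hA hC
  have F : ∀ p q, p + q = m + 1 → FinCoh R (φ ^ p) (φ ^ q) :=
    fun p q h => And.intro (fin p q h) (fin q p (by omega))
  have key : ∀ p q, p + q = m + 1 →
      herbrand R (φ ^ p) (φ ^ q) = (p : ℤ) * herbrand R φ (φ ^ m) := by
    intro p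
    induction p with
    | zero =>
      intro q _
      rw [herbrand_zero_of_subsingleton _ _ (perH_subsingleton_of_inj _ _ inj0)
        (perH_subsingleton_of_surj _ _ surj0)]
      simp
    | succ p ih =>
      intro q hq
      have hpq : p + q = m := by omega
      have FA : FinCoh R φ (φ ^ (p + q)) := by
        have := F 1 (p + q) (by omega)
        rwa [pow_one] at this
      have FB : FinCoh R (φ ^ p) (φ ^ (q + 1)) := F p (q + 1) (by omega)
      have FC : FinCoh R (φ ^ q) (φ ^ (p + 1)) := F q (p + 1) (by omega)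
      have h3 := three_herbrand φ (φ ^ p) (φ ^ q) (φ ^ (p + 1)) (φ ^ (p + q)) (φ ^ (q + 1))
        (pow_succ' φ p) (pow_add φ p q) (pow_succ φ q) (c1r p) (cpow p q) (c1r q).symm FA FB FC
      rw [h3, ih (q + 1) (by omega), hpq]
      push_cast
      ring
  have hE : herbrand R φ (φ ^ m) = 0 := by
    have h1 := key (m + 1) 0 (by omega)
    rw [herbrand_zero_of_subsingleton _ _ (perH_subsingleton_of_surj _ _ surj0)
      (perH_subsingleton_of_inj _ _ inj0)] at h1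
    have hne : ((m + 1 : ℕ) : ℤ) ≠ 0 := by exact_mod_cast Nat.succ_ne_zero m
    exact (mul_eq_zero.mp h1.symm).resolve_left hne
  intro p q hpq
  exact ⟨F p q hpq, by rw [key p q hpq, hE, mul_zero]⟩

end three

end Groth.Agent.Lib.HerbHexH1
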