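import Mathlib
import Groth.Prelude.Def_CycAlg
import Groth.Agent.Lib.HerbHex_helper1
import Groth.Agent.Lib.DimTheory_helper5

set_option autoImplicit false
set_option maxHeartbeats 1000000
universe u v
open CycAlg
open scoped Pointwise

namespace Groth.Agent.Lib.HerbHexH1

section core
variable {R : Type u} [CommRing R] {M N : Type v} [AddCommGroup M] [Module R M]
  [AddCommGroup N] [Module R N]

noncomputable def iotaA₀ (φ : M →ₗ[R] N) (x : R) :
    ↥(LinearMap.ker φ) →ₗ[R] ↥(LinearMap.ker (x • φ)) :=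
  LinearMap.codRestrict (LinearMap.ker (x • φ)) (LinearMap.ker φ).subtype (fun k => by
    rw [LinearMap.mem_ker, LinearMap.smul_apply]
    show x • φ k.1 = 0
    rw [LinearMap.mem_ker.mp k.2, smul_zero])

noncomputable def iotaA (φ : M →ₗ[R] N) (ψ : N →ₗ[R] M) (x : R) :
    perH φ ψ →ₗ[R] perH (x • φ) ψ :=
  Submodule.mapQ _ _ (iotaA₀ φ x) (fun _ hk => hk)

lemma iotaA_mk (φ : M →ₗ[R] N) (ψ : N →ₗ[R] M) (x : R) (k : ↥(LinearMap.ker φ)) :
    iotaA φ ψ x (perMk φ ψ k) = perMk (x • φ) ψ (iotaA₀ φ x k) := rfl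

noncomputable def piA₀ (φ : M →ₗ[R] N) (x : R) : ↥(LinearMap.ker (x • φ)) →ₗ[R]
    ↥(LinearMap.ker (x • (LinearMap.id : ↥(LinearMap.range φ) →ₗ[R] ↥(LinearMap.range φ)))) :=
  LinearMap.codRestrict _ (φ.rangeRestrict ∘ₗ (LinearMap.ker (x • φ)).subtype) (fun m => by
    rw [LinearMap.mem_ker]
    apply Subtype.ext
    show x • φ m.1 = 0
    exact LinearMap.mem_ker.mp m.2)

noncomputable def piA (φ : M →ₗ[R] N) (ψ : N →ₗ[R] M) (x : R) (pq : ∀ n, φ (ψ n) = 0) :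
    perH (x • φ) ψ →ₗ[R]
      perH (x • (LinearMap.id : ↥(LinearMap.range φ) →ₗ[R] ↥(LinearMap.range φ))) 0 :=
  Submodule.mapQ _ _ (piA₀ φ x) (fun m hm => by
    obtain ⟨n, hn⟩ : ∃ n, ψ n = m.1 := hm
    show ∃ y, (0 : ↥(LinearMap.range φ) →ₗ[R] ↥(LinearMap.range φ)) y = (piA₀ φ x m).1
    refine ⟨0, Subtype.ext ?_⟩
    show (0 : N) = φ m.1
    rw [← hn, pq])

lemma piA_mk (φ : M →ₗ[R] N) (ψ : N →ₗ[R] M) (x : R) (pq : ∀ n, φ (ψ n) = 0)
    (m : ↥(LinearMap.ker (x • φ))) :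
    piA φ ψ x pq (perMk (x • φ) ψ m) = perMk _ _ (piA₀ φ x m) := rfl

theorem lenA (φ : M →ₗ[R] N) (ψ : N →ₗ[R] M) (x : R) (pq : ∀ n, φ (ψ n) = 0) :
    Module.length R (perH (x • φ) ψ) = Module.length R (perH φ ψ) + Module.length R
      (perH (x • (LinearMap.id : ↥(LinearMap.range φ) →ₗ[R] ↥(LinearMap.range φ))) 0) := by
  apply Module.length_eq_add_of_exact (iotaA φ ψ x) (piA φ ψ x pq)
  · rw [← LinearMap.ker_eq_bot, LinearMap.ker_eq_bot']
    intro c hc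
    obtain ⟨k, rfl⟩ := perMk_surj φ ψ c
    rw [iotaA_mk, perMk_eq_zero] at hc
    rw [perMk_eq_zero]
    exact hc
  · intro c
    obtain ⟨y, rfl⟩ := perMk_surj _ _ c
    obtain ⟨m, hm⟩ := y.1.2
    have hk : (x • φ) m = 0 := by
      show x • φ m = 0
      rw [hm]
      have := LinearMap.mem_ker.mp y.2
      exact congrArg Subtype.val this
    refine ⟨perMk (x • φ) ψ ⟨m, LinearMap.mem_ker.mpr hk⟩, ?_⟩
    rw [piA_mk]
    exact congrArg _ (Subtype.ext (Subtype.ext hm))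
  · rw [LinearMap.exact_iff]
    apply le_antisymm
    · intro c hc
      obtain ⟨m, rfl⟩ := perMk_surj (x • φ) ψ c
      rw [LinearMap.mem_ker, piA_mk, perMk_eq_zero] at hc
      obtain ⟨n, hn⟩ := hc
      have h0 : φ m.1 = 0 := by
        have := congrArg Subtype.val hn
        exact this.symm
      refine ⟨perMk φ ψ ⟨m.1, LinearMap.mem_ker.mpr h0⟩, ?_⟩
      rw [iotaA_mk]
      exact congrArg _ (Subtype.ext rfl)
    · rintro _ ⟨c', rfl⟩
      obtain ⟨k, rfl⟩ := perMk_surj φ ψ c'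
      rw [LinearMap.mem_ker, iotaA_mk, piA_mk, perMk_eq_zero]
      refine ⟨0, Subtype.ext ?_⟩
      show (0 : N) = φ k.1
      exact (LinearMap.mem_ker.mp k.2).symm

noncomputable def iotaB₀ (φ : M →ₗ[R] N) (ψ : N →ₗ[R] M) (qp : ∀ m, ψ (φ m) = 0) :
    ↥(LinearMap.ker (0 : ↥(LinearMap.range φ) →ₗ[R] ↥(LinearMap.range φ))) →ₗ[R]
      ↥(LinearMap.ker ψ) :=
  LinearMap.codRestrict (LinearMap.ker ψ) ((LinearMap.range φ).subtype ∘ₗ
      (LinearMap.ker (0 : ↥(LinearMap.range φ) →ₗ[R] ↥(LinearMap.range φ))).subtype) (fun y => by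
    rw [LinearMap.mem_ker]
    obtain ⟨m, hm⟩ := y.1.2
    show ψ y.1.1 = 0
    rw [← hm, qp])

noncomputable def iotaB (φ : M →ₗ[R] N) (ψ : N →ₗ[R] M) (x : R) (qp : ∀ m, ψ (φ m) = 0) :
    perH (0 : ↥(LinearMap.range φ) →ₗ[R] ↥(LinearMap.range φ)) (x • LinearMap.id) →ₗ[R]
      perH ψ (x • φ) :=
  Submodule.mapQ _ _ (iotaB₀ φ ψ qp) (fun y hy => by
    obtain ⟨y', hy'⟩ : ∃ y', (x • (LinearMap.id : ↥(LinearMap.range φ) →ₗ[R]
      ↥(LinearMap.range φ))) y' = y.1 := hy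
    obtain ⟨m', hm'⟩ := y'.2
    show ∃ m, (x • φ) m = (iotaB₀ φ ψ qp y).1
    refine ⟨m', ?_⟩
    show x • φ m' = y.1.1
    rw [hm', ← hy']; rfl)

lemma iotaB_mk (φ : M →ₗ[R] N) (ψ : N →ₗ[R] M) (x : R) (qp : ∀ m, ψ (φ m) = 0)
    (y : ↥(LinearMap.ker (0 : ↥(LinearMap.range φ) →ₗ[R] ↥(LinearMap.range φ)))) :
    iotaB φ ψ x qp (perMk _ _ y) = perMk ψ (x • φ) (iotaB₀ φ ψ qp y) := rfl

noncomputable def piB (φ : M →ₗ[R] N) (ψ : N →ₗ[R] M) (x : R) :
    perH ψ (x • φ) →ₗ[R] perH ψ φ :=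
  Submodule.mapQ _ _ LinearMap.id (fun k hk => by
    obtain ⟨m, hm⟩ : ∃ m, (x • φ) m = k.1 := hk
    show ∃ m', φ m' = k.1
    exact ⟨x • m, by rw [map_smul]; exact hm⟩)

lemma piB_mk (φ : M →ₗ[R] N) (ψ : N →ₗ[R] M) (x : R) (k : ↥(LinearMap.ker ψ)) :
    piB φ ψ x (perMk ψ (x • φ) k) = perMk ψ φ k := rfl

theorem lenB (φ : M →ₗ[R] N) (ψ : N →ₗ[R] M) (x : R) (qp : ∀ m, ψ (φ m) = 0) :
    Module.length R (perH ψ (x • φ)) = Module.length R
      (perH (0 : ↥(LinearMap.range φ) →ₗ[R] ↥(LinearMap.range φ)) (x • LinearMap.id)) +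
      Module.length R (perH ψ φ) := by
  apply Module.length_eq_add_of_exact (iotaB φ ψ x qp) (piB φ ψ x)
  · rw [← LinearMap.ker_eq_bot, LinearMap.ker_eq_bot']
    intro c hc
    obtain ⟨y, rfl⟩ := perMk_surj _ _ c
    rw [iotaB_mk, perMk_eq_zero] at hc
    obtain ⟨m, hm⟩ := hc
    rw [perMk_eq_zero]
    refine ⟨⟨φ m, LinearMap.mem_range_self φ m⟩, Subtype.ext ?_⟩
    exact hm
  · intro c
    obtain ⟨k, rfl⟩ := perMk_surj ψ φ c
    exact ⟨perMk ψ (x • φ) k, rfl⟩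
  · rw [LinearMap.exact_iff]
    apply le_antisymm
    · intro c hc
      obtain ⟨k, rfl⟩ := perMk_surj ψ (x • φ) c
      rw [LinearMap.mem_ker, piB_mk, perMk_eq_zero] at hc
      obtain ⟨m, hm⟩ := hc
      refine ⟨perMk _ _ ⟨⟨k.1, ⟨m, hm⟩⟩, LinearMap.mem_ker.mpr (LinearMap.zero_apply _)⟩, ?_⟩
      rw [iotaB_mk]
      exact congrArg _ (Subtype.ext rfl)
    · rintro _ ⟨c', rfl⟩
      obtain ⟨y, rfl⟩ := perMk_surj _ _ c'
      rw [LinearMap.mem_ker, iotaB_mk, piB_mk, perMk_eq_zero]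
      obtain ⟨m, hm⟩ := y.1.2
      exact ⟨m, hm⟩

end core

section fin
variable {R : Type u} [CommRing R] [IsNoetherianRing R] [IsLocalRing R] {M : Type v}
  [AddCommGroup M] [Module R M] [Module.Finite R M]

omit [IsNoetherianRing R] in
lemma isMaximal_of_supportDim_le_zero {Q : Type v} [AddCommGroup Q] [Module R Q]
    (h : Module.supportDim R Q ≤ 0) (p : PrimeSpectrum R) (hp : p ∈ Module.support R Q) :
    p.asIdeal.IsMaximal := by
  have hne : (Module.support R Q).Nonempty := ⟨p, hp⟩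
  have h0 : Module.supportDim R Q = 0 := by
    apply le_antisymm h
    haveI : Nonempty (Module.support R Q) := hne.to_subtype
    exact Order.krullDim_nonneg
  have hs := support_of_supportDim_eq_zero R Q h0
  rw [hs, PrimeSpectrum.mem_zeroLocus] at hp
  have : IsLocalRing.maximalIdeal R = p.asIdeal :=
    (IsLocalRing.maximalIdeal.isMaximal R).eq_of_le p.2.ne_top (fun a ha => hp ha)
  rw [← this]; exact IsLocalRing.maximalIdeal.isMaximal R

lemma finlen_of_killed (x : R) (hx : Module.supportDim R (M ⧸ x • (⊤ : Submodule R M)) ≤ 0)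
    (T : Type v) [AddCommGroup T] [Module R T] [Module.Finite R T] (hk : ∀ t : T, x • t = 0)
    (hs : Module.support R T ⊆ Module.support R M) : Module.length R T < ⊤ := by
  have hfl : IsFiniteLength R T := by
    apply Groth.Agent.DimLib.isFiniteLength_of_support_isMaximal
    intro p hp
    have hxp : x ∈ p.asIdeal :=
      Module.annihilator_le_of_mem_support hp (Module.mem_annihilator.mpr hk)
    have hpQ : p ∈ Module.support R (M ⧸ x • (⊤ : Submodule R M)) := by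
      have h := Module.support_quotSMulTop (M := M) x
      rw [show Module.support R (M ⧸ x • (⊤ : Submodule R M)) = _ from h]
      exact ⟨hs hp, by rw [PrimeSpectrum.mem_zeroLocus]; exact Set.singleton_subset_iff.mpr hxp⟩
    exact isMaximal_of_supportDim_le_zero hx p hpQ
  exact (Module.length_ne_top_iff.mpr hfl).lt_top

lemma fin_T (x : R) (hx : Module.supportDim R (M ⧸ x • (⊤ : Submodule R M)) ≤ 0)
    (I : Submodule R M) :
    Module.length R (perH (x • (LinearMap.id : ↥I →ₗ[R] ↥I)) 0) < ⊤ ∧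
    Module.length R (perH (0 : ↥I →ₗ[R] ↥I) (x • LinearMap.id)) < ⊤ := by
  have sI : ∀ (K : Submodule R ↥I) (P : Submodule R ↥K),
      Module.support R (↥K ⧸ P) ⊆ Module.support R M := by
    intro K P
    exact ((Module.support_subset_of_surjective P.mkQ (Submodule.mkQ_surjective P)).trans
      (Module.support_subset_of_injective K.subtype (Submodule.subtype_injective K))).trans
      (Module.support_subset_of_injective I.subtype (Submodule.subtype_injective I))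
  constructor
  · apply finlen_of_killed x hx _ _ (sI _ _)
    intro t
    obtain ⟨k, rfl⟩ := perMk_surj _ _ t
    rw [← map_smul, perMk_eq_zero]
    refine ⟨0, ?_⟩
    rw [map_zero]
    exact (LinearMap.mem_ker.mp k.2).symm
  · apply finlen_of_killed x hx _ _ (sI _ _)
    intro t
    obtain ⟨k, rfl⟩ := perMk_surj _ _ t
    rw [← map_smul, perMk_eq_zero]
    exact ⟨k.1, rfl⟩

lemma arith_half (a b c d : ℕ∞) (ha : a < ⊤) (hb : b < ⊤) (hc : c < ⊤) (hd : d < ⊤) :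
    (((a + c).toNat : ℤ) - ((d + b).toNat : ℤ)) =
      ((a.toNat : ℤ) - (b.toNat : ℤ)) - ((d.toNat : ℤ) - (c.toNat : ℤ)) := by
  lift a to ℕ using ha.ne
  lift b to ℕ using hb.ne
  lift c to ℕ using hc.ne
  lift d to ℕ using hd.ne
  have e1 : ((a : ℕ∞) + c).toNat = a + c := by exact_mod_cast ENat.toNat_natCast (a + c)
  have e2 : ((d : ℕ∞) + b).toNat = d + b := by exact_mod_cast ENat.toNat_natCast (d + b)
  rw [e1, e2]
  simp only [ENat.toNat_natCast]
  push_cast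
  ring

theorem half (φ ψ : M →ₗ[R] M) (pq : ∀ n, φ (ψ n) = 0) (qp : ∀ m, ψ (φ m) = 0)
    (h0 : Module.length R (perH φ ψ) < ⊤) (h1 : Module.length R (perH ψ φ) < ⊤) (x : R)
    (hx : Module.supportDim R (M ⧸ x • (⊤ : Submodule R M)) ≤ 0) :
    Module.length R (perH (x • φ) ψ) < ⊤ ∧ Module.length R (perH ψ (x • φ)) < ⊤ ∧
    (((Module.length R (perH (x • φ) ψ)).toNat : ℤ) -
        ((Module.length R (perH ψ (x • φ))).toNat : ℤ)) =
      (((Module.length R (perH φ ψ)).toNat : ℤ) - ((Module.length R (perH ψ φ)).toNat : ℤ)) -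
      herbrand R (0 : ↥(LinearMap.range φ) →ₗ[R] ↥(LinearMap.range φ)) (x • LinearMap.id) := by
  obtain ⟨t0, t1⟩ := fin_T x hx (LinearMap.range φ)
  have eA := lenA φ ψ x pq
  have eB := lenB φ ψ x qp
  refine ⟨by rw [eA]; exact ENat.add_lt_top.mpr ⟨h0, t0⟩,
    by rw [eB]; exact ENat.add_lt_top.mpr ⟨t1, h1⟩, ?_⟩
  rw [eA, eB]
  unfold herbrand
  exact arith_half _ _ _ _ h0 h1 t0 t1

theorem main1832 (φ ψ : M →ₗ[R] M) (hper : IsPeriodic φ ψ) (hfin : FinCoh R φ ψ) (x : R)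
    (hx : Module.supportDim R (M ⧸ x • (⊤ : Submodule R M)) ≤ 0) :
    (FinCoh R (x • φ) ψ ∧ herbrand R (x • φ) ψ = herbrand R φ ψ -
      herbrand R (0 : ↥(LinearMap.range φ) →ₗ[R] ↥(LinearMap.range φ)) (x • LinearMap.id)) ∧
    (FinCoh R φ (x • ψ) ∧ herbrand R φ (x • ψ) = herbrand R φ ψ +
      herbrand R (0 : ↥(LinearMap.range ψ) →ₗ[R] ↥(LinearMap.range ψ)) (x • LinearMap.id)) := by
  have pq : ∀ n, φ (ψ n) = 0 := fun n => LinearMap.congr_fun hper.1 n
  have qp : ∀ m, ψ (φ m) = 0 := fun m => LinearMap.congr_fun hper.2 m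
  obtain ⟨h0, h1⟩ := hfin
  obtain ⟨a1, a2, a3⟩ := half φ ψ pq qp h0 h1 x hx
  obtain ⟨b1, b2, b3⟩ := half ψ φ qp pq h1 h0 x hx
  refine ⟨⟨And.intro a1 a2, ?_⟩, ⟨And.intro b2 b1, ?_⟩⟩
  · exact a3
  · have : herbrand R φ (x • ψ) = -(((Module.length R (perH (x • ψ) φ)).toNat : ℤ) -
        ((Module.length R (perH φ (x • ψ))).toNat : ℤ)) := by
      unfold herbrand; ring
    rw [this, b3]
    unfold herbrand
    ring

end fin

end Groth.Agent.Lib.HerbHexH1
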