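import Mathlib

set_option autoImplicit false
set_option maxHeartbeats 1000000

/-! Hermite normal form over `k[[t]]` (helper1). -/

namespace Groth.Agent.Lib.HermiteH1

universe u

open scoped Matrix

variable {k : Type u} [Field k] {r : ℕ}

/-- row-reduced with exponents `e`. -/
def RR (H : Matrix (Fin r) (Fin r) (PowerSeries k)) (e : Fin r → ℕ) : Prop :=
  (∀ i, H i i = PowerSeries.X ^ e i) ∧ (∀ i j, j < i → H i j = 0) ∧
    (∀ i j, i < j → ∀ n, e j ≤ n → PowerSeries.coeff n (H i j) = 0)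

theorem low_zero {U H₁ H₂ : Matrix (Fin r) (Fin r) (PowerSeries k)} {e₁ : Fin r → ℕ}
    (h1 : RR H₁ e₁) (h2 : ∀ i j, j < i → H₂ i j = 0) (hU : U * H₁ = H₂) :
    ∀ (n : ℕ) (j : Fin r), j.val = n → ∀ i, j < i → U i j = 0 := by
  intro n
  induction n using Nat.strong_induction_on with
  | _ n ih =>
    intro j hj i hji
    have h := congrFun (congrFun hU i) j
    rw [Matrix.mul_apply, h2 i j hji] at h
    rw [Finset.sum_eq_single j] at h
    · rw [h1.1 j] at h
      rcases mul_eq_zero.mp h with h | h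
      · exact h
      · exact absurd h (pow_ne_zero _ PowerSeries.X_ne_zero)
    · intro l _ hlj
      rcases lt_or_gt_of_ne hlj with hl | hl
      · rw [ih l.val (by rw [← hj]; exact Fin.lt_def.mp hl) l rfl i (lt_trans hl hji), zero_mul]
      · rw [h1.2.1 l j hl, mul_zero]
    · intro hj; exact absurd (Finset.mem_univ j) hj

theorem diag_eq {U H₁ H₂ : Matrix (Fin r) (Fin r) (PowerSeries k)} {e₁ : Fin r → ℕ}
    (h1 : RR H₁ e₁) (h2 : ∀ i j, j < i → H₂ i j = 0) (hU : U * H₁ = H₂) (i : Fin r) :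
    U i i * PowerSeries.X ^ e₁ i = H₂ i i := by
  have h := congrFun (congrFun hU i) i
  rw [Matrix.mul_apply, Finset.sum_eq_single i] at h
  · rw [h1.1 i] at h; exact h
  · intro l _ hli
    rcases lt_or_gt_of_ne hli with hl | hl
    · rw [low_zero h1 h2 hU l.val l rfl i hl, zero_mul]
    · rw [h1.2.1 l i hl, mul_zero]
  · intro hj; exact absurd (Finset.mem_univ i) hj

theorem e_le {U H₁ H₂ : Matrix (Fin r) (Fin r) (PowerSeries k)} {e₁ e₂ : Fin r → ℕ}
    (h1 : RR H₁ e₁) (h2 : RR H₂ e₂) (hU : U * H₁ = H₂) (i : Fin r) : e₁ i ≤ e₂ i := by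
  have h := diag_eq h1 h2.2.1 hU i
  rw [h2.1 i] at h
  have hd : (PowerSeries.X : PowerSeries k) ^ e₁ i ∣ PowerSeries.X ^ e₂ i :=
    ⟨U i i, by rw [← h, mul_comm]⟩
  exact (pow_dvd_pow_iff PowerSeries.X_ne_zero PowerSeries.X_prime.not_isUnit).mp hd

theorem diag_one {U H₁ H₂ : Matrix (Fin r) (Fin r) (PowerSeries k)} {e : Fin r → ℕ}
    (h1 : RR H₁ e) (h2 : RR H₂ e) (hU : U * H₁ = H₂) (i : Fin r) : U i i = 1 := by
  have := diag_eq h1 h2.2.1 hU i
  rw [h2.1 i] at this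
  have hne : (PowerSeries.X : PowerSeries k) ^ e i ≠ 0 := pow_ne_zero _ PowerSeries.X_ne_zero
  exact mul_right_cancel₀ hne (by rw [this, one_mul])

theorem up_zero {U H₁ H₂ : Matrix (Fin r) (Fin r) (PowerSeries k)} {e : Fin r → ℕ}
    (h1 : RR H₁ e) (h2 : RR H₂ e) (hU : U * H₁ = H₂) (i : Fin r) :
    ∀ (n : ℕ) (j : Fin r), j.val = n → i < j → U i j = 0 := by
  have hlow := low_zero h1 h2.2.1 hU
  have hdiag : U i i = 1 := diag_one h1 h2 hU i
  intro n
  induction n using Nat.strong_induction_on with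
  | _ n ih =>
    intro j hj hij
    have h := congrFun (congrFun hU i) j
    rw [Matrix.mul_apply, Finset.sum_eq_add i j (ne_of_lt hij)] at h
    · rw [hdiag, one_mul, h1.1 j] at h
      ext d
      have hc := congrArg (PowerSeries.coeff (d + e j)) h
      rw [map_add, h1.2.2 i j hij _ (Nat.le_add_left _ _),
        h2.2.2 i j hij _ (Nat.le_add_left _ _), zero_add,
        PowerSeries.coeff_mul_X_pow] at hc
      rw [hc, map_zero]
    · intro l _ hl
      rcases lt_or_gt_of_ne hl.1 with hli | hli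
      · rw [hlow l.val l rfl i hli, zero_mul]
      · rcases lt_or_gt_of_ne hl.2 with hlj | hlj
        · rw [ih l.val (by rw [← hj]; exact Fin.lt_def.mp hlj) l rfl hli, zero_mul]
        · rw [h1.2.1 l j hlj, mul_zero]
    · intro h; exact absurd (Finset.mem_univ i) h
    · intro h; exact absurd (Finset.mem_univ j) h

theorem U_eq_one {U H₁ H₂ : Matrix (Fin r) (Fin r) (PowerSeries k)} {e : Fin r → ℕ}
    (h1 : RR H₁ e) (h2 : RR H₂ e) (hU : U * H₁ = H₂) : U = 1 := by
  apply Matrix.ext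
  intro i j
  rcases lt_trichotomy i j with h | h | h
  · rw [up_zero h1 h2 hU i j.val j rfl h, Matrix.one_apply_ne (ne_of_lt h)]
  · subst h; rw [Matrix.one_apply_eq]; exact diag_one h1 h2 hU i
  · rw [low_zero h1 h2.2.1 hU j.val j rfl i h, Matrix.one_apply_ne (ne_of_gt h)]

theorem uniq {M H₁ H₂ N₁ N₂ : Matrix (Fin r) (Fin r) (PowerSeries k)} {e₁ e₂ : Fin r → ℕ}
    (h1 : RR H₁ e₁) (h2 : RR H₂ e₂) (hN₁ : IsUnit N₁) (hN₂ : IsUnit N₂)
    (hM₁ : N₁ * M = H₁) (hM₂ : N₂ * M = H₂) : H₁ = H₂ := by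
  obtain ⟨u, rfl⟩ := hN₁
  obtain ⟨v, rfl⟩ := hN₂
  have hU : ((v : Matrix (Fin r) (Fin r) (PowerSeries k)) *
      ((u⁻¹ : (Matrix (Fin r) (Fin r) (PowerSeries k))ˣ) :
        Matrix (Fin r) (Fin r) (PowerSeries k))) * H₁ = H₂ := by
    rw [← hM₁, ← hM₂, mul_assoc, Units.inv_mul_cancel_left]
  have hU' : ((u : Matrix (Fin r) (Fin r) (PowerSeries k)) *
      ((v⁻¹ : (Matrix (Fin r) (Fin r) (PowerSeries k))ˣ) :
        Matrix (Fin r) (Fin r) (PowerSeries k))) * H₂ = H₁ := by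
    rw [← hM₁, ← hM₂, mul_assoc, Units.inv_mul_cancel_left]
  have he : e₁ = e₂ := funext fun i => le_antisymm (e_le h1 h2 hU i) (e_le h2 h1 hU' i)
  subst he
  have := U_eq_one h1 h2 hU
  rw [this, one_mul] at hU
  exact hU

/-! ### Existence -/

theorem exists_pivot (L : Submodule (PowerSeries k) (Fin r → PowerSeries k))
    (hL : ∀ j : Fin r, ∃ a : PowerSeries k, a ≠ 0 ∧
      a • (Pi.single j 1 : Fin r → PowerSeries k) ∈ L)
    (j : Fin r) :
    ∃ (e : ℕ) (h : Fin r → PowerSeries k), h ∈ L ∧ (∀ l, l < j → h l = 0) ∧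
      h j = PowerSeries.X ^ e ∧
      (∀ v ∈ L, (∀ l, l < j → v l = 0) → PowerSeries.X ^ e ∣ v j) := by
  let I : Ideal (PowerSeries k) :=
    { carrier := {a | ∃ v ∈ L, (∀ l, l < j → v l = 0) ∧ v j = a}
      zero_mem' := ⟨0, L.zero_mem, fun _ _ => rfl, rfl⟩
      add_mem' := by
        rintro a b ⟨v, hv, hv0, rfl⟩ ⟨w, hw, hw0, rfl⟩
        exact ⟨v + w, L.add_mem hv hw, fun l hl => by
          rw [Pi.add_apply, hv0 l hl, hw0 l hl, add_zero], rfl⟩
      smul_mem' := by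
        rintro c a ⟨v, hv, hv0, rfl⟩
        exact ⟨c • v, L.smul_mem c hv, fun l hl => by
          rw [Pi.smul_apply, hv0 l hl, smul_zero], rfl⟩ }
  have hmem : ∀ a, a ∈ I ↔ ∃ v ∈ L, (∀ l, l < j → v l = 0) ∧ v j = a := fun a => Iff.rfl
  have hI : I ≠ ⊥ := by
    obtain ⟨a, ha0, haL⟩ := hL j
    intro hbot
    apply ha0
    have : a ∈ I := (hmem a).mpr ⟨_, haL, fun l hl => by
      rw [Pi.smul_apply, Pi.single_eq_of_ne (ne_of_lt hl), smul_zero], by
      rw [Pi.smul_apply, Pi.single_eq_same, smul_eq_mul, mul_one]⟩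
    rw [hbot] at this
    exact (Submodule.mem_bot _).mp this
  obtain ⟨e, he⟩ := IsDiscreteValuationRing.ideal_eq_span_pow_irreducible hI
    (PowerSeries.X_prime (R := k)).irreducible
  have hX : PowerSeries.X ^ e ∈ I := by rw [he]; exact Ideal.mem_span_singleton_self _
  obtain ⟨h, hhL, hh0, hhj⟩ := (hmem _).mp hX
  refine ⟨e, h, hhL, hh0, hhj, fun v hv hv0 => ?_⟩
  have : v j ∈ I := (hmem _).mpr ⟨v, hv, hv0, rfl⟩
  rw [he] at this
  exact Ideal.mem_span_singleton.mp this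

theorem reduce_row (L : Submodule (PowerSeries k) (Fin r → PowerSeries k))
    (e : Fin r → ℕ) (h : Fin r → Fin r → PowerSeries k)
    (hhL : ∀ j, h j ∈ L) (hh0 : ∀ j l, l < j → h j l = 0)
    (hhd : ∀ j, h j j = PowerSeries.X ^ e j) (i : Fin r) :
    ∀ m : ℕ, ∃ h' : Fin r → PowerSeries k, h' ∈ L ∧ (∀ l, l < i → h' l = 0) ∧
      h' i = PowerSeries.X ^ e i ∧
      ∀ j, i < j → j.val < m → ∀ n, e j ≤ n → PowerSeries.coeff n (h' j) = 0 := by
  intro m
  induction m with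
  | zero => exact ⟨h i, hhL i, hh0 i, hhd i, fun j _ hj => absurd hj (Nat.not_lt_zero _)⟩
  | succ m ih =>
    obtain ⟨h', h'L, h'0, h'd, h'c⟩ := ih
    by_cases hm : m < r ∧ i.val < m
    · obtain ⟨hmr, him⟩ := hm
      obtain ⟨mm, hmm⟩ : ∃ mm : Fin r, mm.val = m := ⟨⟨m, hmr⟩, rfl⟩
      have himm : i < mm := Fin.lt_def.mpr (by rw [hmm]; exact him)
      obtain ⟨q, hq⟩ : ∃ q : PowerSeries k, ∀ d, PowerSeries.coeff d q =
          PowerSeries.coeff (d + e mm) (h' mm) :=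
        ⟨PowerSeries.mk fun n => PowerSeries.coeff (n + e mm) (h' mm),
          fun d => PowerSeries.coeff_mk _ _⟩
      refine ⟨h' - q • h mm, L.sub_mem h'L (L.smul_mem q (hhL mm)), ?_, ?_, ?_⟩
      · intro l hl
        rw [Pi.sub_apply, Pi.smul_apply, h'0 l hl, hh0 mm l (lt_trans hl himm), smul_zero,
          sub_zero]
      · rw [Pi.sub_apply, Pi.smul_apply, h'd, hh0 mm i himm, smul_zero, sub_zero]
      · intro j hij hjm n hn
        rcases Nat.lt_succ_iff_lt_or_eq.mp hjm with hjm' | hjm'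
        · have hjmm : j < mm := Fin.lt_def.mpr (by rw [hmm]; exact hjm')
          rw [Pi.sub_apply, Pi.smul_apply, hh0 mm j hjmm, smul_zero, sub_zero]
          exact h'c j hij hjm' n hn
        · have hjmm : j = mm := Fin.ext (by rw [hmm]; exact hjm')
          rw [hjmm] at hn ⊢
          obtain ⟨d, rfl⟩ := Nat.exists_eq_add_of_le' hn
          rw [Pi.sub_apply, Pi.smul_apply, hhd mm, smul_eq_mul, map_sub,
            PowerSeries.coeff_mul_X_pow, hq, sub_self]
    · refine ⟨h', h'L, h'0, h'd, fun j hij hjm n hn => ?_⟩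
      rcases Nat.lt_succ_iff_lt_or_eq.mp hjm with hjm' | hjm'
      · exact h'c j hij hjm' n hn
      · exfalso
        apply hm
        exact ⟨by rw [← hjm']; exact j.isLt, by rw [← hjm']; exact Fin.lt_def.mp hij⟩

theorem elim (L : Submodule (PowerSeries k) (Fin r → PowerSeries k))
    (e : Fin r → ℕ) (h : Fin r → Fin r → PowerSeries k)
    (hhL : ∀ j, h j ∈ L) (hh0 : ∀ j l, l < j → h j l = 0)
    (hhd : ∀ j, h j j = PowerSeries.X ^ e j)
    (hdvd : ∀ j, ∀ v ∈ L, (∀ l, l < j → v l = 0) → PowerSeries.X ^ e j ∣ v j) :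
    ∀ d : ℕ, ∀ v ∈ L, (∀ l : Fin r, l.val + d < r → v l = 0) →
      ∃ a : Fin r → PowerSeries k, v = ∑ j, a j • h j := by
  intro d
  induction d with
  | zero =>
    intro v _ hv
    refine ⟨0, ?_⟩
    have : v = 0 := funext fun l => hv l (by have := l.isLt; omega)
    rw [this]; simp
  | succ d ih =>
    intro v hvL hv
    by_cases hd : d < r
    · obtain ⟨j₀, hj₀⟩ : ∃ j₀ : Fin r, j₀.val = r - 1 - d := ⟨⟨r - 1 - d, by omega⟩, rfl⟩
      have hv0 : ∀ l, l < j₀ → v l = 0 := fun l hl => hv l (by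
        have := Fin.lt_def.mp hl; omega)
      obtain ⟨c, hc⟩ := hdvd j₀ v hvL hv0
      obtain ⟨a, ha⟩ := ih (v - c • h j₀) (L.sub_mem hvL (L.smul_mem c (hhL j₀))) (by
        intro l hl
        rw [Pi.sub_apply, Pi.smul_apply]
        rcases lt_or_eq_of_le (show l.val ≤ j₀.val by omega) with hlt | heq
        · rw [hv0 l (Fin.lt_def.mpr hlt), hh0 j₀ l (Fin.lt_def.mpr hlt), smul_zero, sub_zero]
        · have : l = j₀ := Fin.ext heq
          rw [this, hhd j₀, hc, smul_eq_mul, mul_comm, sub_self])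
      refine ⟨a + Pi.single j₀ c, ?_⟩
      have hs : ∑ j, (Pi.single j₀ c : Fin r → PowerSeries k) j • h j = c • h j₀ := by
        rw [Finset.sum_eq_single j₀]
        · rw [Pi.single_eq_same]
        · intro l _ hl; rw [Pi.single_eq_of_ne hl, zero_smul]
        · intro hj; exact absurd (Finset.mem_univ j₀) hj
      simp only [Pi.add_apply, add_smul, Finset.sum_add_distrib]
      rw [hs, ← ha, sub_add_cancel]
    · exact ih v hvL (fun l hl => absurd hl (by omega))

theorem exists_H (M : Matrix (Fin r) (Fin r) (PowerSeries k)) (hM : M.det ≠ 0) :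
    ∃ (H : Matrix (Fin r) (Fin r) (PowerSeries k)) (e : Fin r → ℕ), RR H e ∧
      ∃ N : Matrix (Fin r) (Fin r) (PowerSeries k), IsUnit N ∧ N * M = H := by
  obtain ⟨L, hLmem⟩ : ∃ L : Submodule (PowerSeries k) (Fin r → PowerSeries k),
      ∀ v, v ∈ L ↔ ∃ w, w ᵥ* M = v :=
    ⟨LinearMap.range M.vecMulLinear, fun v => by
      simp only [LinearMap.mem_range, Matrix.vecMulLinear_apply]⟩
  have hL : ∀ j : Fin r, ∃ a : PowerSeries k, a ≠ 0 ∧
      a • (Pi.single j 1 : Fin r → PowerSeries k) ∈ L := by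
    intro j
    refine ⟨M.det, hM, (hLmem _).mpr
      ⟨(Pi.single j 1 : Fin r → PowerSeries k) ᵥ* M.adjugate, ?_⟩⟩
    rw [Matrix.vecMul_vecMul, Matrix.adjugate_mul, Matrix.vecMul_smul, Matrix.vecMul_one]
  choose e h hhL hh0 hhd hdvd using fun j => exists_pivot L hL j
  choose h' h'L h'0 h'd h'c using fun i => reduce_row L e h hhL hh0 hhd i r
  choose N hN using fun i => (hLmem _).mp (h'L i)
  have hrows : ∀ i, M i ∈ L := fun i =>
    (hLmem _).mpr ⟨Pi.single i 1, Matrix.single_one_vecMul i M⟩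
  choose a ha using fun i => elim L e h' h'L h'0 h'd hdvd r (M i) (hrows i)
    (fun l hl => absurd hl (by omega))
  have hNM : (Matrix.of N : Matrix (Fin r) (Fin r) (PowerSeries k)) * M = Matrix.of h' := by
    apply Matrix.ext
    intro i j
    have := congrFun (hN i) j
    rw [Matrix.mul_apply_eq_vecMul]
    exact this
  have hMH : M = (Matrix.of a : Matrix (Fin r) (Fin r) (PowerSeries k)) * Matrix.of h' := by
    apply Matrix.ext
    intro i l
    rw [Matrix.mul_apply]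
    have := congrFun (ha i) l
    rw [Finset.sum_apply] at this
    rw [this]
    rfl
  have hdet : (Matrix.of a).det * (Matrix.of N).det = 1 := by
    have h1 : M.det = ((Matrix.of a).det * (Matrix.of N).det) * M.det := by
      conv_lhs => rw [hMH, ← hNM, ← Matrix.mul_assoc, Matrix.det_mul, Matrix.det_mul]
    exact mul_right_cancel₀ hM (by rw [one_mul]; exact h1.symm)
  refine ⟨Matrix.of h', e, ⟨fun i => h'd i, fun i j hji => h'0 i j hji,
    fun i j hij n hn => h'c i j hij j.isLt n hn⟩, Matrix.of N, ?_, hNM⟩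
  rw [Matrix.isUnit_iff_isUnit_det]
  exact ⟨⟨(Matrix.of N).det, (Matrix.of a).det, by rw [mul_comm]; exact hdet, hdet⟩, rfl⟩

theorem main (k : Type u) [Field k] (r : ℕ)
    (M : Matrix (Fin r) (Fin r) (PowerSeries k)) (hM : M.det ≠ 0) :
    ∃! H : Matrix (Fin r) (Fin r) (PowerSeries k),
      (∃ e : Fin r → ℕ, (∀ i, H i i = PowerSeries.X ^ e i) ∧ (∀ i j, j < i → H i j = 0) ∧
        (∀ i j, i < j → ∀ n, e j ≤ n → PowerSeries.coeff n (H i j) = 0)) ∧
      ∃ N : Matrix (Fin r) (Fin r) (PowerSeries k), IsUnit N ∧ N * M = H := by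
  obtain ⟨H, e, hRR, N, hN, hNM⟩ := exists_H M hM
  refine ⟨H, ⟨⟨e, hRR⟩, N, hN, hNM⟩, ?_⟩
  rintro H' ⟨⟨e', hRR'⟩, N', hN', hNM'⟩
  exact uniq hRR' hRR hN' hN hNM' hNM

end Groth.Agent.Lib.HermiteH1
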