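import Mathlib
import Groth.Agent.Lib.Hermite_helper1

set_option autoImplicit false
set_option maxHeartbeats 1000000

/-! Hermite normal form over `k[[t]]` with column operations over `k[[t^p]]` (helper1). -/

namespace Groth.Agent.Lib.HermiteColH1

universe u

open scoped Matrix
open PowerSeries

section blk
variable {S : Type*} [CommRing S] {r : ℕ}

/-- block upper triangular matrix `[[A, b],[0, d]]`. -/
def blk (A : Matrix (Fin r) (Fin r) S) (b : Fin r → S) (d : S) :
    Matrix (Fin (r+1)) (Fin (r+1)) S :=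
  Matrix.of fun i j =>
    Fin.lastCases (motive := fun _ => S)
      (Fin.lastCases (motive := fun _ => S) d (fun _ => 0) j)
      (fun i' => Fin.lastCases (motive := fun _ => S) (b i') (fun j' => A i' j') j) i

@[simp] lemma blk_ll (A : Matrix (Fin r) (Fin r) S) (b : Fin r → S) (d : S) :
    blk A b d (Fin.last r) (Fin.last r) = d := by simp [blk]
@[simp] lemma blk_lc (A : Matrix (Fin r) (Fin r) S) (b : Fin r → S) (d : S) (j : Fin r) :
    blk A b d (Fin.last r) j.castSucc = 0 := by simp [blk]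
@[simp] lemma blk_cl (A : Matrix (Fin r) (Fin r) S) (b : Fin r → S) (d : S) (i : Fin r) :
    blk A b d i.castSucc (Fin.last r) = b i := by simp [blk]
@[simp] lemma blk_cc (A : Matrix (Fin r) (Fin r) S) (b : Fin r → S) (d : S) (i j : Fin r) :
    blk A b d i.castSucc j.castSucc = A i j := by simp [blk]

lemma blk_mul (A A' : Matrix (Fin r) (Fin r) S) (b b' : Fin r → S) (d d' : S) :
    blk A b d * blk A' b' d' = blk (A * A') (A *ᵥ b' + d' • b) (d * d') := by
  ext i j
  refine Fin.lastCases ?_ (fun i' => ?_) i <;> refine Fin.lastCases ?_ (fun j' => ?_) j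
  · simp [Matrix.mul_apply, Fin.sum_univ_castSucc]
  · simp [Matrix.mul_apply, Fin.sum_univ_castSucc]
  · simp [Matrix.mul_apply, Fin.sum_univ_castSucc, Matrix.mulVec, dotProduct, mul_comm]
  · simp [Matrix.mul_apply, Fin.sum_univ_castSucc]

lemma blk_one : blk (1 : Matrix (Fin r) (Fin r) S) 0 1 = 1 := by
  ext i j
  refine Fin.lastCases ?_ (fun i' => ?_) i <;> refine Fin.lastCases ?_ (fun j' => ?_) j
  · simp
  · simp [Matrix.one_apply, (Fin.castSucc_lt_last j').ne']
  · simp [Matrix.one_apply, (Fin.castSucc_lt_last i').ne]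
  · simp [Matrix.one_apply]

lemma isUnit_blk (A : Matrix (Fin r) (Fin r) S) (b : Fin r → S) (hA : IsUnit A) :
    IsUnit (blk A b 1) := by
  obtain ⟨u, rfl⟩ := hA
  refine (Matrix.isUnit_iff_isUnit_det _).mpr (Matrix.isUnit_det_of_right_inverse
    (B := blk (↑u⁻¹ : Matrix (Fin r) (Fin r) S) (-((↑u⁻¹ : Matrix (Fin r) (Fin r) S) *ᵥ b)) 1) ?_)
  rw [blk_mul]
  have h1 : (u : Matrix (Fin r) (Fin r) S) * (↑u⁻¹ : Matrix (Fin r) (Fin r) S) = 1 := u.mul_inv
  have h2 : (u : Matrix (Fin r) (Fin r) S) *ᵥ (-((↑u⁻¹ : Matrix (Fin r) (Fin r) S) *ᵥ b))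
      + (1:S) • b = 0 := by
    rw [Matrix.mulVec_neg, Matrix.mulVec_mulVec, h1, Matrix.one_mulVec, one_smul, neg_add_cancel]
  rw [h1, h2, mul_one, blk_one]

end blk

variable {k : Type u} [Field k]

/-- the subring `k[[t^p]]`. -/
def Rp (k : Type u) [Field k] (p : ℕ) : Subring (PowerSeries k) where
  carrier := {f | ∀ n, ¬ p ∣ n → coeff n f = 0}
  mul_mem' := by
    intro f g hf hg n hn
    rw [coeff_mul]
    apply Finset.sum_eq_zero
    rintro ⟨a, b⟩ hab
    rw [Finset.HasAntidiagonal.mem_antidiagonal] at hab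
    simp only at hab ⊢
    by_cases ha : p ∣ a
    · have hb : ¬ p ∣ b := by
        intro hb; apply hn; rw [← hab]; exact dvd_add ha hb
      rw [hg b hb, mul_zero]
    · rw [hf a ha, zero_mul]
  one_mem' := by
    intro n hn
    rw [coeff_one]
    have : n ≠ 0 := by rintro rfl; exact hn (dvd_zero p)
    simp [this]
  add_mem' := by
    intro f g hf hg n hn
    rw [map_add, hf n hn, hg n hn, add_zero]
  zero_mem' := by
    intro n hn; simp
  neg_mem' := by
    intro f hf n hn
    rw [map_neg, hf n hn, neg_zero]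

lemma mem_Rp {p : ℕ} {f : PowerSeries k} : f ∈ Rp k p ↔ ∀ n, ¬ p ∣ n → coeff n f = 0 := Iff.rfl

lemma coeff_sub_shift (t : PowerSeries k) (d n : ℕ) :
    coeff n (t - X ^ d * PowerSeries.mk (fun m => coeff (m + d) t))
      = if d ≤ n then 0 else coeff n t := by
  rw [map_sub, coeff_X_pow_mul']
  split_ifs with h
  · rw [coeff_mk, Nat.sub_add_cancel h, sub_self]
  · rw [sub_zero]

/-- the `k[[t^p]]`-multiplier killing the terms of `w` in degrees `≥ a`, `≡ a mod p`. -/
noncomputable def pc (p a : ℕ) (w : PowerSeries k) : PowerSeries k :=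
  -PowerSeries.mk (fun m => if p ∣ m then coeff (m + a) w else 0)

lemma pc_mem (p a : ℕ) (w : PowerSeries k) : pc p a w ∈ Rp k p := by
  apply neg_mem
  intro n hn
  rw [coeff_mk, if_neg hn]

lemma coeff_add_pc (p a : ℕ) (w : PowerSeries k) (n : ℕ) (h1 : a ≤ n) (h2 : n % p = a % p) :
    coeff n (w + X ^ a * pc p a w) = 0 := by
  have hdvd : p ∣ n - a := (Nat.modEq_iff_dvd' h1).mp h2.symm
  rw [map_add, coeff_X_pow_mul', if_pos h1, pc, map_neg, coeff_mk, if_pos hdvd,
    Nat.sub_add_cancel h1, add_neg_cancel]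

theorem tri (p : ℕ) : ∀ (r : ℕ) (e : Fin r → ℕ) (U : Matrix (Fin r) (Fin r) (PowerSeries k)),
    (∀ i, U i i = X ^ e i) → (∀ i j, j < i → U i j = 0) →
    ∃ N P : Matrix (Fin r) (Fin r) (PowerSeries k), IsUnit N ∧ IsUnit P ∧
      (∀ i j, P i j ∈ Rp k p) ∧
      (∀ i, (N * U * P) i i = X ^ e i) ∧ (∀ i j, j < i → (N * U * P) i j = 0) ∧
      (∀ i j, i < j → ∀ n, (e j ≤ n ∨ (e i ≤ n ∧ n % p = e i % p)) →
        coeff n ((N * U * P) i j) = 0) ∧
      (∀ w : Fin r → PowerSeries k, ∃ c : Fin r → PowerSeries k, (∀ i, c i ∈ Rp k p) ∧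
        ∀ i n, e i ≤ n → n % p = e i % p → coeff n (w i + ((N * U * P) *ᵥ c) i) = 0) := by
  intro r
  induction r with
  | zero =>
    intro e U _ _
    exact ⟨1, 1, isUnit_one, isUnit_one, fun i => i.elim0, fun i => i.elim0, fun i => i.elim0,
      fun i => i.elim0, fun w => ⟨fun i => i.elim0, fun i => i.elim0, fun i => i.elim0⟩⟩
  | succ r ih =>
    intro e U hd hl
    obtain ⟨U', hU'⟩ : ∃ U' : Matrix (Fin r) (Fin r) (PowerSeries k),
        ∀ i j, U' i j = U i.castSucc j.castSucc := ⟨Matrix.of fun i j => U i.castSucc j.castSucc,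
          fun i j => rfl⟩
    obtain ⟨u, hu⟩ : ∃ u : Fin r → PowerSeries k, ∀ i, u i = U i.castSucc (Fin.last r) :=
      ⟨fun i => U i.castSucc (Fin.last r), fun i => rfl⟩
    have hUblk : U = blk U' u (X ^ e (Fin.last r)) := by
      ext i j
      refine Fin.lastCases ?_ (fun i' => ?_) i <;> refine Fin.lastCases ?_ (fun j' => ?_) j
      · rw [blk_ll, hd]
      · rw [blk_lc, hl _ _ (Fin.castSucc_lt_last j')]
      · rw [blk_cl, hu]
      · rw [blk_cc, hU']
    obtain ⟨N', P', hN', hP', hPp, hdiag, hlow, hgood, hsolv⟩ :=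
      ih (fun i => e i.castSucc) U' (fun i => by rw [hU', hd])
        (fun i j hji => by rw [hU']; exact hl _ _ (Fin.castSucc_lt_castSucc_iff.mpr hji))
    obtain ⟨H, hH⟩ : ∃ H : Matrix (Fin r) (Fin r) (PowerSeries k), H = N' * U' * P' := ⟨_, rfl⟩
    rw [← hH] at hdiag hlow hgood hsolv
    obtain ⟨c, hc, hcs⟩ := hsolv (N' *ᵥ u)
    obtain ⟨t, ht⟩ : ∃ t : Fin r → PowerSeries k, ∀ i, t i = (N' *ᵥ u) i + (H *ᵥ c) i :=
      ⟨fun i => (N' *ᵥ u) i + (H *ᵥ c) i, fun i => rfl⟩
    obtain ⟨q, hq⟩ : ∃ q : Fin r → PowerSeries k,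
        ∀ i, q i = PowerSeries.mk fun m => coeff (m + e (Fin.last r)) (t i) :=
      ⟨fun i => PowerSeries.mk fun m => coeff (m + e (Fin.last r)) (t i), fun i => rfl⟩
    obtain ⟨s, hs⟩ : ∃ s : Fin r → PowerSeries k, ∀ i, s i = t i - X ^ e (Fin.last r) * q i :=
      ⟨fun i => t i - X ^ e (Fin.last r) * q i, fun i => rfl⟩
    have hvec : (N' * U') *ᵥ (P' *ᵥ c)
        + (1 : PowerSeries k) • (N' *ᵥ u + (X : PowerSeries k) ^ e (Fin.last r) • (-q)) = s := by
      rw [Matrix.mulVec_mulVec, one_smul, ← hH]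
      funext i
      simp only [hs, ht, Pi.add_apply, Pi.smul_apply, Pi.neg_apply, smul_eq_mul]
      ring
    have hprod : blk N' (-q) 1 * U * blk P' (P' *ᵥ c) 1 = blk H s (X ^ e (Fin.last r)) := by
      rw [hUblk, blk_mul, blk_mul, hvec, one_mul, mul_one, ← hH]
    refine ⟨blk N' (-q) 1, blk P' (P' *ᵥ c) 1, isUnit_blk _ _ hN', isUnit_blk _ _ hP',
      ?_, ?_, ?_, ?_, ?_⟩
    · -- entries of P in k[[t^p]]
      intro i j
      refine Fin.lastCases ?_ (fun i' => ?_) i <;> refine Fin.lastCases ?_ (fun j' => ?_) j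
      · rw [blk_ll]; exact one_mem _
      · rw [blk_lc]; exact zero_mem _
      · rw [blk_cl]
        simp only [Matrix.mulVec, dotProduct]
        exact sum_mem (fun l _ => mul_mem (hPp i' l) (hc l))
      · rw [blk_cc]; exact hPp i' j'
    · -- diagonal
      intro i
      rw [hprod]
      refine Fin.lastCases ?_ (fun i' => ?_) i
      · rw [blk_ll]
      · rw [blk_cc]; exact hdiag i'
    · -- lower zero
      intro i j
      rw [hprod]
      refine Fin.lastCases ?_ (fun i' => ?_) i <;> refine Fin.lastCases ?_ (fun j' => ?_) j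
      · intro h; exact absurd h (lt_irrefl _)
      · intro _; rw [blk_lc]
      · intro h; exact absurd h (not_lt.mpr (Fin.le_last _))
      · intro h; rw [blk_cc]; exact hlow i' j' (Fin.castSucc_lt_castSucc_iff.mp h)
    · -- good
      intro i j
      rw [hprod]
      refine Fin.lastCases ?_ (fun i' => ?_) i <;> refine Fin.lastCases ?_ (fun j' => ?_) j
      · intro h; exact absurd h (lt_irrefl _)
      · intro h; exact absurd h (not_lt.mpr (Fin.le_last _))
      · intro _ n hn
        rw [blk_cl, hs, hq, coeff_sub_shift]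
        split_ifs with hle
        · rfl
        · rcases hn with hn | ⟨hn1, hn2⟩
          · exact absurd hn hle
          · rw [ht]
            exact hcs i' n hn1 hn2
      · intro h n hn; rw [blk_cc]
        exact hgood i' j' (Fin.castSucc_lt_castSucc_iff.mp h) n hn
    · -- solvability
      intro w
      rw [hprod]
      obtain ⟨cl, hcl⟩ : ∃ cl : PowerSeries k, cl = pc p (e (Fin.last r)) (w (Fin.last r)) :=
        ⟨_, rfl⟩
      have hclmem : cl ∈ Rp k p := hcl ▸ pc_mem _ _ _
      obtain ⟨c', hc', hcs'⟩ := hsolv (fun i => w i.castSucc + s i * cl)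
      refine ⟨Fin.lastCases (motive := fun _ => PowerSeries k) cl c', ?_, ?_⟩
      · intro i
        refine Fin.lastCases ?_ (fun i' => ?_) i
        · simpa using hclmem
        · simpa using hc' i'
      · intro i
        refine Fin.lastCases ?_ (fun i' => ?_) i
        · intro n h1 h2
          have : (blk H s (X ^ e (Fin.last r)) *ᵥ
              (Fin.lastCases (motive := fun _ => PowerSeries k) cl c')) (Fin.last r)
              = X ^ e (Fin.last r) * cl := by
            simp [Matrix.mulVec, dotProduct, Fin.sum_univ_castSucc]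
          rw [this, hcl]
          exact coeff_add_pc p _ _ n h1 h2
        · intro n h1 h2
          have : (blk H s (X ^ e (Fin.last r)) *ᵥ
              (Fin.lastCases (motive := fun _ => PowerSeries k) cl c')) i'.castSucc
              = (H *ᵥ c') i' + s i' * cl := by
            simp [Matrix.mulVec, dotProduct, Fin.sum_univ_castSucc]
          rw [this, show w i'.castSucc + ((H *ᵥ c') i' + s i' * cl)
            = (w i'.castSucc + s i' * cl) + (H *ᵥ c') i' by ring]
          exact hcs' i' n h1 h2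

theorem main (k : Type u) [Field k] (p : ℕ) [Fact p.Prime] (r : ℕ)
    (M : Matrix (Fin r) (Fin r) (PowerSeries k)) (hM : M.det ≠ 0) :
    ∃ (N P : Matrix (Fin r) (Fin r) (PowerSeries k)) (e : Fin r → ℕ), IsUnit N ∧ IsUnit P ∧
      (∀ i j n, ¬ p ∣ n → PowerSeries.coeff n (P i j) = 0) ∧
      (∀ i, (N * M * P) i i = PowerSeries.X ^ e i) ∧ (∀ i j, j < i → (N * M * P) i j = 0) ∧
      (∀ i j, i < j → ∀ n, (e j ≤ n ∨ (e i ≤ n ∧ n % p = e i % p)) →
        PowerSeries.coeff n ((N * M * P) i j) = 0) := by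
  obtain ⟨H, e, ⟨hd, hl, _⟩, N₀, hN₀, hNM⟩ := Groth.Agent.Lib.HermiteH1.exists_H M hM
  obtain ⟨N, P, hN, hP, hPp, h1, h2, h3, _⟩ := tri p r e H hd hl
  refine ⟨N * N₀, P, e, hN.mul hN₀, hP, hPp, ?_, ?_, ?_⟩
  · rw [Matrix.mul_assoc N N₀ M, hNM]; exact h1
  · rw [Matrix.mul_assoc N N₀ M, hNM]; exact h2
  · rw [Matrix.mul_assoc N N₀ M, hNM]; exact h3

end Groth.Agent.Lib.HermiteColH1
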