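import Mathlib
import Groth.Agent.Lib.ComplIso_helper5
import Groth.Agent.Lib.ExtPS_helper1
import Groth.Agent.Lib.LubinTate_helper1
import Groth.Agent.Lib.PSComplete_helper1
import Groth.Agent.Lib.MonomialCharP_helper3
import Groth.Agent.Lib.RegPS_helper3

/-!
# Completion of the local ring of an affine hypersurface at a rational point (helper5)

For a field `k`, `f ∈ k[x_1..x_n]`, a point `p ∈ kⁿ` with `f(p) = 0` and `P` the maximal ideal of
`B = k[x]/(f)` at `p`: the completion of `B_P` is `k`-isomorphic to `k[[x]]/(f(x+p))`.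
-/

set_option autoImplicit false
set_option maxHeartbeats 1000000
set_option linter.unusedVariables false
universe u

open MvPowerSeries IsLocalRing

namespace Groth.Agent.Lib.HypComplH5

open Groth.Agent.Lib.ExtPSH1 Groth.Agent.Lib.LubinTateH1

variable {k : Type u} [Field k] {n : ℕ}

/-- expansion of a polynomial around the point `p`, as a power series -/
noncomputable def φ₀ (p : Fin n → k) : MvPolynomial (Fin n) k →ₐ[k] MvPowerSeries (Fin n) k :=
  MvPolynomial.aeval (fun i => (X i + C (p i) : MvPowerSeries (Fin n) k))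

/-- translation of polynomials -/
noncomputable def τ (p : Fin n → k) : MvPolynomial (Fin n) k →ₐ[k] MvPolynomial (Fin n) k :=
  MvPolynomial.aeval (fun i => (MvPolynomial.X i + MvPolynomial.C (p i) : MvPolynomial (Fin n) k))

theorem coe_τ (p : Fin n → k) (q : MvPolynomial (Fin n) k) :
    ((τ p q : MvPolynomial (Fin n) k) : MvPowerSeries (Fin n) k) = φ₀ p q := by
  have h : (MvPolynomial.coeToMvPowerSeries.algHom k).comp (τ p) = φ₀ p := by
    apply MvPolynomial.algHom_ext
    intro i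
    simp [τ, φ₀]
  exact AlgHom.congr_fun h q

theorem τ_τ (p p' : Fin n → k) (h : ∀ i, p i + p' i = 0) (q : MvPolynomial (Fin n) k) :
    τ p (τ p' q) = q := by
  have h' : (τ p).comp (τ p') = AlgHom.id k _ := by
    apply MvPolynomial.algHom_ext
    intro i
    simp only [τ, AlgHom.comp_apply, MvPolynomial.aeval_X, map_add, MvPolynomial.aeval_C,
      AlgHom.id_apply]
    rw [MvPolynomial.algebraMap_eq, add_assoc, ← map_add, h i, map_zero, add_zero]
  exact AlgHom.congr_fun h' q

theorem φ₀_τ (p p' : Fin n → k) (h : ∀ i, p i + p' i = 0) (q : MvPolynomial (Fin n) k) :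
    φ₀ p (τ p' q) = (q : MvPowerSeries (Fin n) k) := by
  rw [← coe_τ, τ_τ p p' h]

theorem constantCoeff_φ₀ (p : Fin n → k) (q : MvPolynomial (Fin n) k) :
    constantCoeff (φ₀ p q) = MvPolynomial.eval p q := by
  have h : (constantCoeff (σ := Fin n) (R := k)).comp (φ₀ p).toRingHom
      = MvPolynomial.eval p := by
    apply MvPolynomial.ringHom_ext
    · intro a
      simp [φ₀, ← c_eq_algebraMap]
    · intro i
      simp [φ₀]
  exact RingHom.congr_fun h q

theorem XI_le_ker : XI k n ≤ RingHom.ker (constantCoeff (σ := Fin n) (R := k)) := by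
  rw [Ideal.span_le]
  rintro _ ⟨i, rfl⟩
  exact constantCoeff_X i

theorem van_of_mem_pow (N : ℕ) (F : MvPowerSeries (Fin n) k) (hF : F ∈ XI k n ^ N) : Van N F := by
  induction N generalizing F with
  | zero => exact van_zero_left F
  | succ N ih =>
    rw [pow_succ] at hF
    refine Submodule.mul_induction_on hF ?_ ?_
    · intro a ha b hb
      have hb1 : Van 1 b := van_one_iff.mpr (XI_le_ker hb)
      exact (ih a ha).mul hb1
    · intro x y hx hy
      exact hx.add hy

theorem sub_truncTotal_mem (N : ℕ) (F : MvPowerSeries (Fin n) k) :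
    F - ((truncTotal N F : MvPolynomial (Fin n) k) : MvPowerSeries (Fin n) k) ∈ XI k n ^ N := by
  apply mem_pow_of_truncTotal_mem
  rw [MvPolynomial.mem_pow_idealOfVars_iff']
  intro x hx
  rw [coeff_truncTotal _ hx, map_sub, MvPolynomial.coeff_coe, coeff_truncTotal _ hx, sub_self]

/-- the ideal of the point `p` -/
noncomputable def Jp (p : Fin n → k) : Ideal (MvPolynomial (Fin n) k) :=
  Ideal.span (Set.range fun i => (MvPolynomial.X i - MvPolynomial.C (p i) : MvPolynomial (Fin n) k))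

theorem mem_Jp_pow (p : Fin n → k) (N : ℕ) (c : MvPolynomial (Fin n) k)
    (hc : φ₀ p c ∈ XI k n ^ N) : c ∈ Jp p ^ N := by
  rw [← coe_τ] at hc
  have h1 : Van N ((τ p c : MvPolynomial (Fin n) k) : MvPowerSeries (Fin n) k) :=
    van_of_mem_pow N _ hc
  have h2 : τ p c ∈ MvPolynomial.idealOfVars (Fin n) k ^ N := by
    rw [MvPolynomial.mem_pow_idealOfVars_iff']
    intro x hx
    have := h1 x hx
    rwa [MvPolynomial.coeff_coe] at this
  have h3 : (MvPolynomial.idealOfVars (Fin n) k ^ N).map (τ (fun i => - p i)) ≤ Jp p ^ N := by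
    rw [Ideal.map_pow]
    refine Ideal.pow_right_mono ?_ N
    rw [MvPolynomial.idealOfVars, Ideal.map_span, Ideal.span_le]
    rintro _ ⟨_, ⟨i, rfl⟩, rfl⟩
    have : τ (fun i => - p i) (MvPolynomial.X i) = MvPolynomial.X i - MvPolynomial.C (p i) := by
      simp [τ, sub_eq_add_neg]
    show τ (fun i => - p i) (MvPolynomial.X i) ∈ Jp p
    rw [this]
    exact Ideal.subset_span ⟨i, rfl⟩
  have h4 := h3 (Ideal.mem_map_of_mem _ h2)
  rwa [τ_τ (fun i => - p i) p (fun i => by simp)] at h4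

section Main

variable (p : Fin n → k) (f : MvPolynomial (Fin n) k)

/-- the model of the completion: `k[[x]]/(f(x+p))` -/
abbrev SQ : Type u := MvPowerSeries (Fin n) k ⧸ Ideal.span {φ₀ p f}

/-- the expansion map on the hypersurface ring -/
noncomputable def φB : (MvPolynomial (Fin n) k ⧸ Ideal.span {f}) →ₐ[k] SQ p f :=
  Ideal.Quotient.liftₐ (Ideal.span {f})
    ((Ideal.Quotient.mkₐ k (Ideal.span {φ₀ p f})).comp (φ₀ p)) (by
      intro a ha
      obtain ⟨c, rfl⟩ := Ideal.mem_span_singleton'.mp ha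
      show Ideal.Quotient.mk _ (φ₀ p (c * f)) = 0
      rw [map_mul]
      exact Ideal.Quotient.eq_zero_iff_mem.mpr
        (Ideal.mul_mem_left _ _ (Ideal.mem_span_singleton_self _)))

theorem φB_mk (q : MvPolynomial (Fin n) k) :
    φB p f (Ideal.Quotient.mk _ q) = Ideal.Quotient.mk _ (φ₀ p q) := rfl

theorem maximalIdeal_ps : maximalIdeal (MvPowerSeries (Fin n) k) = XI k n := by
  rw [Groth.Agent.Lib.RegPSH3.maximalIdeal_eq, IsLocalRing.maximalIdeal_eq_bot, Ideal.map_bot,
    bot_sup_eq]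

theorem φ₀_mem_XI (q : MvPolynomial (Fin n) k) (hq : MvPolynomial.eval p q = 0) :
    φ₀ p q ∈ XI k n := by
  rw [← maximalIdeal_ps, Groth.Agent.Lib.PSCompleteH1.mem_maximalIdeal_iff, constantCoeff_φ₀, hq]
  exact zero_mem _

theorem span_ne_top (hf : MvPolynomial.eval p f = 0) :
    Ideal.span {φ₀ p f} ≠ (⊤ : Ideal (MvPowerSeries (Fin n) k)) := by
  intro h
  rw [Ideal.span_singleton_eq_top, MvPowerSeries.isUnit_iff_constantCoeff, constantCoeff_φ₀, hf] at h
  exact not_isUnit_zero h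

theorem maximalIdeal_SQ [IsLocalRing (SQ p f)] :
    maximalIdeal (SQ p f) = (XI k n).map (Ideal.Quotient.mk (Ideal.span {φ₀ p f})) := by
  rw [← maximalIdeal_ps, Groth.Agent.Lib.MonomialCharPH3.map_mk_maximalIdeal]

/-- **completion of the local ring of a hypersurface at a rational point** -/
theorem exists_completion_equiv
    (P : Ideal (MvPolynomial (Fin n) k ⧸ Ideal.span {f})) [P.IsMaximal]
    (hP : ∀ q : MvPolynomial (Fin n) k,
      Ideal.Quotient.mk (Ideal.span {f}) q ∈ P ↔ MvPolynomial.eval p q = 0)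
    (L : Type u) [CommRing L] [IsLocalRing L] [Algebra (MvPolynomial (Fin n) k ⧸ Ideal.span {f}) L]
    [IsLocalization.AtPrime L P] [Algebra k L]
    [IsScalarTower k (MvPolynomial (Fin n) k ⧸ Ideal.span {f}) L] :
    ∃ e : AdicCompletion (maximalIdeal L) L ≃ₐ[k] SQ p f,
      ∀ q : MvPolynomial (Fin n) k,
        e (AdicCompletion.of _ _ (algebraMap _ L
          (Ideal.Quotient.mk (Ideal.span {f}) q))) = Ideal.Quotient.mk _ (φ₀ p q) := by
  classical
  have hf : MvPolynomial.eval p f = 0 := by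
    rw [← hP]
    have : Ideal.Quotient.mk (Ideal.span {f}) f = 0 :=
      Ideal.Quotient.eq_zero_iff_mem.mpr (Ideal.mem_span_singleton_self f)
    rw [this]
    exact zero_mem _
  haveI : Nontrivial (SQ p f) := Ideal.Quotient.nontrivial_iff.mpr (span_ne_top p f hf)
  haveI : IsLocalRing (SQ p f) :=
    IsLocalRing.of_surjective' (Ideal.Quotient.mk (Ideal.span {φ₀ p f})) Ideal.Quotient.mk_surjective
  haveI : IsAdicComplete (maximalIdeal k) k := by
    rw [IsLocalRing.maximalIdeal_eq_bot]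
    infer_instance
  haveI : IsAdicComplete (maximalIdeal (MvPowerSeries (Fin n) k)) (MvPowerSeries (Fin n) k) :=
    Groth.Agent.Lib.PSCompleteH1.isAdicComplete_maximalIdeal (σ := Fin n) (R := k)
  haveI : IsAdicComplete (maximalIdeal (SQ p f)) (SQ p f) :=
    Groth.Agent.Lib.MonomialCharPH3.isAdicComplete_quotient _ (Ideal.span {φ₀ p f})
  -- units
  have hunit : ∀ y : P.primeCompl, IsUnit (φB p f y) := by
    rintro ⟨y, hy⟩
    obtain ⟨q, rfl⟩ := Ideal.Quotient.mk_surjective y
    have hq : MvPolynomial.eval p q ≠ 0 := fun h => hy ((hP q).mpr h)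
    have hu : IsUnit (φ₀ p q) := by
      rw [MvPowerSeries.isUnit_iff_constantCoeff, constantCoeff_φ₀]
      exact isUnit_iff_ne_zero.mpr hq
    exact hu.map (Ideal.Quotient.mk (Ideal.span {φ₀ p f}))
  obtain ⟨φL, hφLdef⟩ : ∃ φL : L →ₐ[k] SQ p f,
      φL = IsLocalization.liftAlgHom (M := P.primeCompl) (f := φB p f) hunit := ⟨_, rfl⟩
  have hφL : ∀ b, φL (algebraMap _ L b) = φB p f b := by
    intro b
    rw [hφLdef]
    exact IsLocalization.lift_eq _ b
  have hmaxL : maximalIdeal L
      = P.map (algebraMap _ L) :=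
    (IsLocalization.AtPrime.map_eq_maximalIdeal P L).symm
  have hJP : (Jp p).map (Ideal.Quotient.mk (Ideal.span {f})) ≤ P := by
    rw [Jp, Ideal.map_span, Ideal.span_le]
    rintro _ ⟨_, ⟨i, rfl⟩, rfl⟩
    rw [SetLike.mem_coe, hP]
    simp
  have hle : (maximalIdeal L).map φL ≤ maximalIdeal (SQ p f) := by
    rw [hmaxL, Ideal.map_le_iff_le_comap, Ideal.map_le_iff_le_comap]
    intro b hb
    obtain ⟨q, rfl⟩ := Ideal.Quotient.mk_surjective b
    rw [Ideal.mem_comap, Ideal.mem_comap, hφL, φB_mk, maximalIdeal_SQ]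
    exact Ideal.mem_map_of_mem _ (φ₀_mem_XI p q ((hP q).mp hb))
  have hsurj : ∀ N, Function.Surjective
      (Groth.Agent.Lib.ComplIsoH5.lvl φL (maximalIdeal L) (maximalIdeal (SQ p f)) hle N) := by
    intro N y
    obtain ⟨y', rfl⟩ := Ideal.Quotient.mk_surjective y
    obtain ⟨F, rfl⟩ := Ideal.Quotient.mk_surjective y'
    refine ⟨Ideal.Quotient.mk (maximalIdeal L ^ N) (algebraMap _ L
      (Ideal.Quotient.mk (Ideal.span {f}) (τ (fun i => - p i) (truncTotal N F)))), ?_⟩
    rw [Groth.Agent.Lib.ComplIsoH5.lvl_mk, hφL, φB_mk, φ₀_τ p (fun i => - p i) (fun i => by simp)]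
    refine (Ideal.Quotient.mk_eq_mk_iff_sub_mem _ _).mpr ?_
    rw [← map_sub, maximalIdeal_SQ, ← Ideal.map_pow]
    apply Ideal.mem_map_of_mem
    have := sub_truncTotal_mem N F
    rw [← neg_sub]
    exact neg_mem this
  have hmkf : Ideal.Quotient.mk (Ideal.span {f}) f = 0 :=
    Ideal.Quotient.eq_zero_iff_mem.mpr (Ideal.mem_span_singleton_self f)
  have hinj : ∀ N, Function.Injective
      (Groth.Agent.Lib.ComplIsoH5.lvl φL (maximalIdeal L) (maximalIdeal (SQ p f)) hle N) := by
    intro N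
    rw [injective_iff_map_eq_zero]
    intro x hx
    obtain ⟨l, rfl⟩ := Ideal.Quotient.mk_surjective x
    rw [Groth.Agent.Lib.ComplIsoH5.lvl_mk, Ideal.Quotient.eq_zero_iff_mem] at hx
    rw [Ideal.Quotient.eq_zero_iff_mem]
    obtain ⟨b, s, rfl⟩ := IsLocalization.exists_mk'_eq P.primeCompl l
    obtain ⟨q, rfl⟩ := Ideal.Quotient.mk_surjective b
    have h1 : φL (IsLocalization.mk' L (Ideal.Quotient.mk (Ideal.span {f}) q) s) * φB p f s
        = φB p f (Ideal.Quotient.mk (Ideal.span {f}) q) := by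
      rw [← hφL, ← hφL, ← map_mul, IsLocalization.mk'_spec]
    have h2 : φB p f (Ideal.Quotient.mk (Ideal.span {f}) q) ∈ maximalIdeal (SQ p f) ^ N := by
      rw [← h1]
      exact Ideal.mul_mem_right _ _ hx
    rw [φB_mk, maximalIdeal_SQ, ← Ideal.map_pow, Ideal.mem_quotient_iff_mem_sup] at h2
    obtain ⟨r, hr, g, hg, hrg⟩ := Submodule.mem_sup.mp h2
    obtain ⟨a, rfl⟩ := Ideal.mem_span_singleton'.mp hg
    have h3 : φ₀ p (q - τ (fun i => - p i) (truncTotal N a) * f) ∈ XI k n ^ N := by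
      rw [map_sub, map_mul, φ₀_τ p _ (fun i => by simp), ← hrg]
      have e : r + a * φ₀ p f - ((truncTotal N a : MvPolynomial (Fin n) k) :
          MvPowerSeries (Fin n) k) * φ₀ p f
          = r + (a - ((truncTotal N a : MvPolynomial (Fin n) k) :
          MvPowerSeries (Fin n) k)) * φ₀ p f := by ring
      rw [e]
      exact add_mem hr (Ideal.mul_mem_right _ _ (sub_truncTotal_mem N a))
    have h4 := mem_Jp_pow p N _ h3
    have h5 : Ideal.Quotient.mk (Ideal.span {f}) q ∈ P ^ N := by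
      have e : Ideal.Quotient.mk (Ideal.span {f}) q
          = Ideal.Quotient.mk (Ideal.span {f}) (q - τ (fun i => - p i) (truncTotal N a) * f) := by
        rw [map_sub, map_mul, hmkf, mul_zero, sub_zero]
      rw [e]
      have h6 : (Jp p ^ N).map (Ideal.Quotient.mk (Ideal.span {f})) ≤ P ^ N := by
        rw [Ideal.map_pow]
        exact Ideal.pow_right_mono hJP N
      exact h6 (Ideal.mem_map_of_mem _ h4)
    rw [hmaxL, ← Ideal.map_pow, IsLocalization.mk'_eq_mul_mk'_one]
    exact Ideal.mul_mem_right _ _ (Ideal.mem_map_of_mem _ h5)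
  obtain ⟨e₁, he₁⟩ := Groth.Agent.Lib.ComplIsoH5.exists_algEquiv φL (maximalIdeal L)
    (maximalIdeal (SQ p f)) hle (fun N => ⟨hinj N, hsurj N⟩)
  obtain ⟨e₂, he₂⟩ : ∃ e₂ : SQ p f ≃ₐ[k] AdicCompletion (maximalIdeal (SQ p f)) (SQ p f),
      ∀ x, e₂ x = AdicCompletion.of _ _ x :=
    ⟨(AdicCompletion.ofAlgEquiv (maximalIdeal (SQ p f))).restrictScalars k,
      fun x => AdicCompletion.ofAlgEquiv_apply _ x⟩
  refine ⟨e₁.trans e₂.symm, fun q => ?_⟩
  show e₂.symm (e₁ _) = _
  rw [he₁, hφL, φB_mk, ← he₂, AlgEquiv.symm_apply_apply]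

end Main

end Groth.Agent.Lib.HypComplH5
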