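import Mathlib
import Groth.Agent.Lib.LubinTate_helper1

set_option autoImplicit false
set_option maxHeartbeats 1000000

universe u v w

open MvPowerSeries Finsupp

namespace Groth.Agent.Lib.MorseH1

open Groth.Agent.Lib.LubinTateH1

section Fixed
variable {τ : Type w} {R : Type u} [CommRing R]

lemma van_sum {ι : Type*} (s : Finset ι) {n : ℕ} (F : ι → MvPowerSeries τ R)
    (h : ∀ i ∈ s, Van n (F i)) : Van n (∑ i ∈ s, F i) := by
  intro d hd
  rw [map_sum]
  exact Finset.sum_eq_zero fun i hi => h i hi d hd

/-- fixed points of contracting self-maps of tuples of power series. -/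
theorem exists_fixed_tuple {ι : Type*} (r : ℕ)
    (T : (ι → MvPowerSeries τ R) → (ι → MvPowerSeries τ R))
    (hT0 : ∀ g, (∀ i, Van r (g i)) → ∀ i, Van r (T g i))
    (hT : ∀ n g g', (∀ i, Van r (g i)) → (∀ i, Van r (g' i)) →
      (∀ i, Van (n + r) (g i - g' i)) → ∀ i, Van (n + r + 1) (T g i - T g' i)) :
    ∃ g, (∀ i, Van r (g i)) ∧ T g = g := by
  obtain ⟨s, hsdef⟩ : ∃ s : ℕ → ι → MvPowerSeries τ R, s = fun m => T^[m] 0 := ⟨_, rfl⟩
  have hsz : s 0 = 0 := by rw [hsdef]; rfl
  have hsucc : ∀ m, s (m + 1) = T (s m) := fun m => by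
    rw [hsdef]; exact Function.iterate_succ_apply' T m 0
  have hs0 : ∀ m i, Van r (s m i) := by
    intro m
    induction m with
    | zero => intro i; rw [hsz]; exact van_zero _
    | succ m ih => rw [hsucc]; exact hT0 _ ih
  have hstep : ∀ m i, Van (m + r) (s (m + 1) i - s m i) := by
    intro m
    induction m with
    | zero => intro i; rw [zero_add]; exact (hs0 1 i).sub (hs0 0 i)
    | succ m ih =>
      intro i
      have := hT m _ _ (hs0 (m+1)) (hs0 m) ih i
      rw [← hsucc (m+1), ← hsucc m] at this
      exact this.mono (by omega)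
  have hle : ∀ m m', m ≤ m' → ∀ i, Van (m + r) (s m' i - s m i) := by
    intro m m' hmm
    induction m', hmm using Nat.le_induction with
    | base => intro i; rw [sub_self]; exact van_zero _
    | succ m' hmm ih =>
      intro i
      have e : s (m' + 1) i - s m i = (s (m' + 1) i - s m' i) + (s m' i - s m i) := by ring
      rw [e]
      exact ((hstep m' i).mono (by omega)).add (ih i)
  obtain ⟨g, hg⟩ : ∃ g : ι → MvPowerSeries τ R,
      ∀ i d, coeff d (g i) = coeff d (s (d.degree + 1) i) :=
    ⟨fun i d => coeff d (s (d.degree + 1) i), fun i d => rfl⟩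
  have hgm : ∀ m i, Van (m + r) (g i - s m i) := by
    intro m i d hd
    rw [map_sub, hg, ← map_sub]
    rcases le_total (d.degree + 1) m with h | h
    · have := (hle (d.degree + 1) m h i).neg
      rw [neg_sub] at this
      exact this d (by omega)
    · exact hle m (d.degree + 1) h i d hd
  have hg0 : ∀ i, Van r (g i) := by
    intro i d hd
    rw [hg]; exact hs0 _ i d hd
  refine ⟨g, hg0, ?_⟩
  funext i
  rw [← sub_eq_zero]
  apply eq_zero_of_forall_van
  intro n
  have e : T g i - g i = (T g i - T (s n) i) + (s (n + 1) i - g i) := by rw [hsucc]; ring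
  rw [e]
  have h1 : Van (n + r + 1) (T g i - T (s n) i) := hT n _ _ hg0 (hs0 n) (hgm n) i
  have h2 : Van (n + 1 + r) (s (n + 1) i - g i) := by
    have := (hgm (n + 1) i).neg
    rwa [neg_sub] at this
  exact ((h1.mono (by omega)).add (h2.mono (by omega)))

end Fixed

section Division
variable {σ : Type v} [DecidableEq σ] {R : Type u} [CommRing R]

/-- a chosen variable occurring in a nonzero monomial -/
noncomputable def pick (m : σ →₀ ℕ) : Option σ :=
  if h : m.support.Nonempty then some h.choose else none

lemma pick_mem {m : σ →₀ ℕ} {j : σ} (h : pick m = some j) : m j ≠ 0 := by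
  unfold pick at h
  split_ifs at h with hne
  have := hne.choose_spec
  rw [Option.some.injEq] at h
  rw [← h]
  exact Finsupp.mem_support_iff.mp this

lemma pick_zero : pick (0 : σ →₀ ℕ) = none := by
  unfold pick; simp

lemma pick_of_ne {m : σ →₀ ℕ} (h : m ≠ 0) : ∃ j, pick m = some j := by
  unfold pick
  have : m.support.Nonempty := Finsupp.support_nonempty_iff.mpr h
  exact ⟨this.choose, by rw [dif_pos this]⟩

/-- the `j`-th partial quotient: `g = g(0) + ∑ j, X j * Q j g`. -/
noncomputable def Q (j : σ) (g : MvPowerSeries σ R) : MvPowerSeries σ R :=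
  fun m => if pick (m + single j 1) = some j then coeff (m + single j 1) g else 0

lemma coeff_Q (j : σ) (g : MvPowerSeries σ R) (m : σ →₀ ℕ) :
    coeff m (Q j g) = if pick (m + single j 1) = some j then coeff (m + single j 1) g else 0 :=
  rfl

lemma Q_sub (j : σ) (g g' : MvPowerSeries σ R) : Q j (g - g') = Q j g - Q j g' := by
  ext m
  rw [map_sub, coeff_Q, coeff_Q, coeff_Q]
  split_ifs
  · rw [map_sub]
  · rw [sub_zero]

lemma Q_van (j : σ) {r : ℕ} {g : MvPowerSeries σ R} (h : Van (r + 1) g) : Van r (Q j g) := by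
  intro m hm
  rw [coeff_Q]
  split_ifs
  · apply h
    rw [map_add, degree_single]
    omega
  · rfl

lemma coeff_X_mul_Q (j : σ) (g : MvPowerSeries σ R) (m : σ →₀ ℕ) :
    coeff m (X j * Q j g) = if pick m = some j then coeff m g else 0 := by
  rw [X, coeff_monomial_mul, one_mul]
  by_cases hle : single j 1 ≤ m
  · rw [if_pos hle, coeff_Q, tsub_add_cancel_of_le hle]
  · rw [if_neg hle]
    have hmj : m j = 0 := by
      by_contra hne
      apply hle
      rw [Finsupp.single_le_iff]
      exact Nat.one_le_iff_ne_zero.mpr hne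
    rw [if_neg]
    intro hp
    exact pick_mem hp hmj

lemma sum_X_mul_Q [Fintype σ] (g : MvPowerSeries σ R) (h0 : constantCoeff g = 0) :
    ∑ j, X j * Q j g = g := by
  ext m
  rw [map_sum]
  simp only [coeff_X_mul_Q]
  by_cases hm : m = 0
  · subst hm
    rw [pick_zero]
    simp only [reduceCtorEq, if_false, Finset.sum_const_zero]
    rw [coeff_zero_eq_constantCoeff_apply, h0]
  · obtain ⟨j0, hj0⟩ := pick_of_ne hm
    rw [hj0]
    simp only [Option.some.injEq]
    rw [Finset.sum_ite_eq]
    simp

end Division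

section Quad
variable {σ : Type v} [Fintype σ] [DecidableEq σ] {R : Type u} [CommRing R]

lemma hom_degree {q : MvPolynomial σ R} {n : ℕ} (hq : q.IsHomogeneous n) {d : σ →₀ ℕ}
    (hd : MvPolynomial.coeff d q ≠ 0) : d.degree = n := by
  have := hq hd
  rw [Finsupp.degree_eq_weight_one]
  exact this

lemma deg_two (v : σ →₀ ℕ) (h : v.degree = 2) : ∃ a b, v = single a 1 + single b 1 := by
  have hv : v ≠ 0 := by
    rintro rfl
    simp at h
  obtain ⟨a, ha⟩ : ∃ a, v a ≠ 0 := by
    by_contra hc
    push Not at hc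
    exact hv (Finsupp.ext hc)
  have hle : single a 1 ≤ v := by
    intro j
    by_cases hj : j = a
    · subst hj
      simp only [single_eq_same]
      exact Nat.one_le_iff_ne_zero.mpr ha
    · rw [single_eq_of_ne (by exact hj)]
      exact Nat.zero_le _
  have hdec : v = single a 1 + (v - single a 1) := (add_tsub_cancel_of_le hle).symm
  have hdeg : (v - single a 1).degree < 2 := by
    have := congrArg degree hdec
    rw [map_add, degree_single, h] at this
    omega
  rcases degree_lt_two _ hdeg with h0 | ⟨b, hb⟩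
  · exfalso
    have := congrArg degree hdec
    rw [h0, add_zero, degree_single, h] at this
    omega
  · exact ⟨a, b, by rw [← hb]; exact hdec⟩

lemma quad_induction {P : MvPolynomial σ R → Prop} (h0 : P 0)
    (hadd : ∀ p q, P p → P q → P (p + q))
    (hmon : ∀ (a b : σ) (c : R), P (MvPolynomial.C c * MvPolynomial.X a * MvPolynomial.X b))
    (q : MvPolynomial σ R) (hq : q.IsHomogeneous 2) : P q := by
  rw [q.as_sum]
  apply Finset.sum_induction _ P hadd h0
  intro v hv
  have hd := hom_degree hq (MvPolynomial.mem_support_iff.mp hv)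
  obtain ⟨a, b, rfl⟩ := deg_two v hd
  have : MvPolynomial.monomial (single a 1 + single b 1)
      (MvPolynomial.coeff (single a 1 + single b 1) q)
      = MvPolynomial.C (MvPolynomial.coeff (single a 1 + single b 1) q) * MvPolynomial.X a
        * MvPolynomial.X b := by
    rw [MvPolynomial.X, MvPolynomial.X, mul_assoc, MvPolynomial.monomial_mul, one_mul,
      MvPolynomial.C_mul_monomial, mul_one]
  rw [this]
  exact hmon a b _

lemma taylor_quad {S : Type*} [CommRing S] [Algebra R S] (q : MvPolynomial σ R)
    (hq : q.IsHomogeneous 2) (x y : σ → S) :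
    MvPolynomial.aeval (fun i => x i + y i) q = MvPolynomial.aeval x q
      + ∑ i, MvPolynomial.aeval x (MvPolynomial.pderiv i q) * y i + MvPolynomial.aeval y q := by
  refine quad_induction (P := fun q => MvPolynomial.aeval (fun i => x i + y i) q
      = MvPolynomial.aeval x q
      + ∑ i, MvPolynomial.aeval x (MvPolynomial.pderiv i q) * y i + MvPolynomial.aeval y q)
    ?_ ?_ ?_ q hq
  · simp
  · intro p q hp hq
    show MvPolynomial.aeval (fun i => x i + y i) (p + q) = MvPolynomial.aeval x (p + q)
      + ∑ i, MvPolynomial.aeval x (MvPolynomial.pderiv i (p + q)) * y i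
      + MvPolynomial.aeval y (p + q)
    have hp' : MvPolynomial.aeval (fun i => x i + y i) p = MvPolynomial.aeval x p
      + ∑ i, MvPolynomial.aeval x (MvPolynomial.pderiv i p) * y i + MvPolynomial.aeval y p := hp
    have hq' : MvPolynomial.aeval (fun i => x i + y i) q = MvPolynomial.aeval x q
      + ∑ i, MvPolynomial.aeval x (MvPolynomial.pderiv i q) * y i + MvPolynomial.aeval y q := hq
    simp only [map_add, add_mul, Finset.sum_add_distrib]
    rw [hp', hq']
    ring
  · intro a b c
    show MvPolynomial.aeval (fun i => x i + y i)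
        (MvPolynomial.C c * MvPolynomial.X a * MvPolynomial.X b)
      = MvPolynomial.aeval x (MvPolynomial.C c * MvPolynomial.X a * MvPolynomial.X b)
      + ∑ i, MvPolynomial.aeval x (MvPolynomial.pderiv i
          (MvPolynomial.C c * MvPolynomial.X a * MvPolynomial.X b)) * y i
      + MvPolynomial.aeval y (MvPolynomial.C c * MvPolynomial.X a * MvPolynomial.X b)
    have hd : ∀ i, MvPolynomial.aeval x (MvPolynomial.pderiv i
          (MvPolynomial.C c * MvPolynomial.X a * MvPolynomial.X b)) * y i
        = (if b = i then algebraMap R S c * x a * y i else 0)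
          + (if a = i then algebraMap R S c * x b * y i else 0) := by
      intro i
      rw [Derivation.leibniz, Derivation.leibniz, MvPolynomial.pderiv_C, MvPolynomial.pderiv_X,
        MvPolynomial.pderiv_X, Pi.single_apply, Pi.single_apply]
      by_cases hb : b = i <;> by_cases ha : a = i <;>
        simp [hb, ha, MvPolynomial.aeval_C, MvPolynomial.aeval_X] <;> ring
    simp only [hd, Finset.sum_add_distrib, Finset.sum_ite_eq, Finset.mem_univ, if_true,
      map_mul, MvPolynomial.aeval_C, MvPolynomial.aeval_X]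
    ring

lemma quad_van {τ : Type w} (q : MvPolynomial σ R) (hq : q.IsHomogeneous 2)
    (ε : σ → MvPowerSeries τ R) (hε : ∀ i, Van 2 (ε i)) :
    Van 4 (MvPolynomial.aeval ε q) := by
  refine quad_induction (P := fun q => Van 4 (MvPolynomial.aeval ε q)) ?_ ?_ ?_ q hq
  · show Van 4 (MvPolynomial.aeval ε (0 : MvPolynomial σ R))
    rw [map_zero]; exact van_zero _
  · intro p q hp hq
    show Van 4 (MvPolynomial.aeval ε (p + q))
    rw [map_add]; exact Van.add hp hq
  · intro a b c
    show Van 4 (MvPolynomial.aeval ε (MvPolynomial.C c * MvPolynomial.X a * MvPolynomial.X b))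
    rw [map_mul, map_mul, MvPolynomial.aeval_C, MvPolynomial.aeval_X, MvPolynomial.aeval_X,
      mul_assoc]
    exact ((hε a).mul (hε b)).mul_left _

lemma quad_cong {τ : Type w} (q : MvPolynomial σ R) (hq : q.IsHomogeneous 2)
    (ε ε' : σ → MvPowerSeries τ R) (hε : ∀ i, Van 2 (ε i)) (hε' : ∀ i, Van 2 (ε' i)) (n : ℕ)
    (h : ∀ i, Van (n + 2) (ε i - ε' i)) :
    Van (n + 4) (MvPolynomial.aeval ε q - MvPolynomial.aeval ε' q) := by
  refine quad_induction
    (P := fun q => Van (n + 4) (MvPolynomial.aeval ε q - MvPolynomial.aeval ε' q)) ?_ ?_ ?_ q hq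
  · show Van (n + 4) (MvPolynomial.aeval ε (0 : MvPolynomial σ R) - MvPolynomial.aeval ε' 0)
    rw [map_zero, map_zero, sub_zero]; exact van_zero _
  · intro p q hp hq
    show Van (n + 4) (MvPolynomial.aeval ε (p + q) - MvPolynomial.aeval ε' (p + q))
    have e : MvPolynomial.aeval ε (p + q) - MvPolynomial.aeval ε' (p + q)
        = (MvPolynomial.aeval ε p - MvPolynomial.aeval ε' p)
          + (MvPolynomial.aeval ε q - MvPolynomial.aeval ε' q) := by
      rw [map_add, map_add]; ring
    rw [e]; exact Van.add hp hq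
  · intro a b c
    show Van (n + 4) (MvPolynomial.aeval ε (MvPolynomial.C c * MvPolynomial.X a * MvPolynomial.X b)
      - MvPolynomial.aeval ε' (MvPolynomial.C c * MvPolynomial.X a * MvPolynomial.X b))
    have e : MvPolynomial.aeval ε (MvPolynomial.C c * MvPolynomial.X a * MvPolynomial.X b)
      - MvPolynomial.aeval ε' (MvPolynomial.C c * MvPolynomial.X a * MvPolynomial.X b)
      = algebraMap R (MvPowerSeries τ R) c * ((ε a - ε' a) * ε b + ε' a * (ε b - ε' b)) := by
      simp only [map_mul, MvPolynomial.aeval_C, MvPolynomial.aeval_X]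
      ring
    rw [e]
    refine Van.mul_left _ (Van.add ?_ ?_)
    · exact ((h a).mul (hε b)).mono (by omega)
    · exact ((hε' a).mul (h b)).mono (by omega)

end Quad

section Main
variable {k : Type u} [Field k] {σ : Type v} [Fintype σ] [DecidableEq σ]

lemma van_pderiv {r : ℕ} {φ : MvPowerSeries σ k} (h : Van (r + 1) φ) (i : σ) :
    Van r (pderiv k i φ) := by
  intro d hd
  rw [coeff_pderiv, h _ (by rw [map_add, degree_single]; omega), zero_mul]

lemma aeval_X_eq_coe (p : MvPolynomial σ k) :
    MvPolynomial.aeval (X : σ → MvPowerSeries σ k) p = (p : MvPowerSeries σ k) := by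
  have h1 := subst_coe (a := (X : σ → MvPowerSeries σ k)) p
  rw [subst_self] at h1
  exact h1.symm

theorem morse (f : MvPowerSeries σ k) (hf0 : constantCoeff f = 0)
    (hJ : Ideal.span (Set.range fun i : σ => pderiv k i f)
      = IsLocalRing.maximalIdeal (MvPowerSeries σ k)) :
    ∃ (ε : σ → MvPowerSeries σ k) (_ : ∀ i (m : σ →₀ ℕ), m.degree < 2 → coeff m (ε i) = 0)
      (q : MvPolynomial σ k) (_ : q.IsHomogeneous 2)
      (_ : HasSubst (fun i : σ => X i + ε i)),
      f = subst (fun i : σ => X i + ε i) (q : MvPowerSeries σ k) := by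
  classical
  have hmem : ∀ i, pderiv k i f ∈ IsLocalRing.maximalIdeal (MvPowerSeries σ k) := fun i => by
    rw [← hJ]; exact Ideal.subset_span ⟨i, rfl⟩
  have hcc : ∀ i, constantCoeff (pderiv k i f) = 0 := by
    intro i
    have := hmem i
    rw [IsLocalRing.mem_maximalIdeal, mem_nonunits_iff,
      MvPowerSeries.isUnit_iff_constantCoeff] at this
    by_contra hne
    exact this (isUnit_iff_ne_zero.mpr hne)
  have hlin : ∀ i, coeff (single i 1) f = 0 := by
    intro i
    have := hcc i
    rw [← coeff_zero_eq_constantCoeff_apply, coeff_pderiv, zero_add] at this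
    simpa using this
  let N : σ →₀ ℕ := Finsupp.equivFunOnFinite.symm (fun _ => 2)
  let q : MvPolynomial σ k := MvPolynomial.homogeneousComponent 2 (trunc' k N f)
  have hq : q.IsHomogeneous 2 := MvPolynomial.homogeneousComponent_isHomogeneous 2 _
  have hcq : ∀ m : σ →₀ ℕ,
      coeff m (q : MvPowerSeries σ k) = if m.degree = 2 then coeff m f else 0 := by
    intro m
    rw [MvPolynomial.coeff_coe, MvPolynomial.coeff_homogeneousComponent, coeff_trunc']
    split_ifs with h1 h2
    · rfl
    · exfalso
      apply h2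
      intro i
      show m i ≤ 2
      have : m i ≤ m.degree := by
        rw [Finsupp.degree_eq_sum]
        exact Finset.single_le_sum (fun _ _ => Nat.zero_le _) (Finset.mem_univ i)
      omega
    · rfl
  have hfq : Van 3 (f - (q : MvPowerSeries σ k)) := by
    intro m hm
    rw [map_sub, hcq]
    by_cases h2 : m.degree = 2
    · rw [if_pos h2, sub_self]
    · rw [if_neg h2, sub_zero]
      rcases degree_lt_two m (by omega) with rfl | ⟨i, rfl⟩
      · rw [coeff_zero_eq_constantCoeff_apply]; exact hf0
      · exact hlin i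
  let ℓ : σ → MvPowerSeries σ k :=
    fun i => ((MvPolynomial.pderiv i q : MvPolynomial σ k) : MvPowerSeries σ k)
  have hℓ : ∀ i, ℓ i = pderiv k i (q : MvPowerSeries σ k) := fun i => (pderiv_coe q).symm
  have hℓlin : ∀ i (m : σ →₀ ℕ), m.degree ≠ 1 → coeff m (ℓ i) = 0 := by
    intro i m hm
    rw [hℓ, coeff_pderiv, hcq, if_neg, zero_mul]
    rw [map_add, degree_single]; omega
  have hgl : ∀ i, Van 2 (pderiv k i f - ℓ i) := by
    intro i
    rw [hℓ, ← map_sub]
    exact van_pderiv hfq i
  have hX : ∀ j : σ, ∃ a : σ → MvPowerSeries σ k, ∑ i, a i * pderiv k i f = X j := by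
    intro j
    have : (X j : MvPowerSeries σ k) ∈ Ideal.span (Set.range fun i : σ => pderiv k i f) := by
      rw [hJ, IsLocalRing.mem_maximalIdeal, mem_nonunits_iff,
        MvPowerSeries.isUnit_iff_constantCoeff, constantCoeff_X]
      exact not_isUnit_zero
    exact (Ideal.mem_span_range_iff_exists_fun).mp this
  choose a ha using hX
  let c : σ → σ → k := fun j i => constantCoeff (a j i)
  have hc : ∀ j, ∑ i, C (c j i) * ℓ i = X j := by
    intro j
    rw [← sub_eq_zero]
    ext m
    rw [map_zero]
    by_cases hm : m.degree = 1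
    · have hv : Van 2 (∑ i, C (c j i) * ℓ i - X j) := by
        rw [← ha j, ← Finset.sum_sub_distrib]
        apply van_sum
        intro i _
        have e : C (c j i) * ℓ i - a j i * pderiv k i f
            = (C (c j i) - a j i) * pderiv k i f - C (c j i) * (pderiv k i f - ℓ i) := by ring
        rw [e]
        refine Van.sub ?_ ((hgl i).mul_left _)
        have h1 : Van 1 (C (c j i) - a j i) := by
          rw [van_one_iff, map_sub, constantCoeff_C]; exact sub_self _
        have h2 : Van 1 (pderiv k i f) := van_one_iff.mpr (hcc i)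
        exact h1.mul h2
      exact hv m (by omega)
    · rw [map_sub, map_sum]
      rw [Finset.sum_eq_zero, zero_sub, neg_eq_zero]
      · rw [coeff_X, if_neg]
        rintro rfl
        apply hm
        exact degree_single _ _
      · intro i _
        rw [coeff_C_mul, hℓlin i m hm, mul_zero]
  let G : (σ → MvPowerSeries σ k) → MvPowerSeries σ k :=
    fun ε => f - (q : MvPowerSeries σ k) - MvPolynomial.aeval ε q
  let T : (σ → MvPowerSeries σ k) → (σ → MvPowerSeries σ k) :=
    fun ε i => ∑ j, C (c j i) * Q j (G ε)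
  have hG3 : ∀ ε, (∀ i, Van 2 (ε i)) → Van 3 (G ε) := fun ε hε =>
    hfq.sub ((quad_van q hq ε hε).mono (by omega))
  have hT0 : ∀ g, (∀ i, Van 2 (g i)) → ∀ i, Van 2 (T g i) := by
    intro g hg i
    apply van_sum
    intro j _
    exact (Q_van j (hG3 g hg)).mul_left _
  have hT : ∀ n g g', (∀ i, Van 2 (g i)) → (∀ i, Van 2 (g' i)) →
      (∀ i, Van (n + 2) (g i - g' i)) → ∀ i, Van (n + 2 + 1) (T g i - T g' i) := by
    intro n g g' hg hg' hgg i
    have e : T g i - T g' i = ∑ j, C (c j i) * Q j (G g - G g') := by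
      show ∑ j, C (c j i) * Q j (G g) - ∑ j, C (c j i) * Q j (G g') = _
      rw [← Finset.sum_sub_distrib]
      refine Finset.sum_congr rfl fun j _ => ?_
      rw [← mul_sub, ← Q_sub]
    rw [e]
    apply van_sum
    intro j _
    refine (Q_van j ?_).mul_left _
    have e2 : G g - G g' = -(MvPolynomial.aeval g q - MvPolynomial.aeval g' q) := by
      simp only [G]; ring
    rw [e2]
    exact ((quad_cong q hq g g' hg hg' n hgg).neg).mono (by omega)
  obtain ⟨ε, hε2, hfix⟩ := exists_fixed_tuple 2 T hT0 hT
  have hG0 : constantCoeff (G ε) = 0 := van_one_iff.mp ((hG3 ε hε2).mono (by omega))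
  have hsum : ∑ i, ℓ i * ε i = G ε := by
    have hfi : ∀ i, ε i = ∑ j, C (c j i) * Q j (G ε) := fun i => (congrFun hfix i).symm
    calc ∑ i, ℓ i * ε i = ∑ i, ℓ i * ∑ j, C (c j i) * Q j (G ε) := by
          refine Finset.sum_congr rfl fun i _ => ?_
          rw [← hfi i]
      _ = ∑ j, (∑ i, C (c j i) * ℓ i) * Q j (G ε) := by
          simp only [Finset.mul_sum, Finset.sum_mul]
          rw [Finset.sum_comm]
          refine Finset.sum_congr rfl fun j _ => Finset.sum_congr rfl fun i _ => by ring
      _ = ∑ j, X j * Q j (G ε) := by simp only [hc]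
      _ = G ε := sum_X_mul_Q _ hG0
  have htay := taylor_quad q hq (X : σ → MvPowerSeries σ k) ε
  have hsub : HasSubst (fun i : σ => X i + ε i) :=
    hasSubst_of_constantCoeff_zero (fun i => by
      rw [map_add, constantCoeff_X, zero_add]
      exact van_one_iff.mp ((hε2 i).mono (by omega)))
  refine ⟨ε, hε2, q, hq, hsub, ?_⟩
  rw [subst_coe, htay]
  simp only [aeval_X_eq_coe]
  have hsum' : ∑ i, ((MvPolynomial.pderiv i q : MvPolynomial σ k) : MvPowerSeries σ k) * ε i
      = G ε := hsum
  rw [hsum']
  simp only [G]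
  ring

end Main

theorem main3206 (k : Type) [Field k] (n : ℕ) (f : MvPowerSeries (Fin n) k)
    (hf0 : MvPowerSeries.constantCoeff f = 0)
    (hJ : Ideal.span (Set.range fun i : Fin n => MvPowerSeries.pderiv k i f) = IsLocalRing.maximalIdeal (MvPowerSeries (Fin n) k)) :
    ∃ (ε : Fin n → MvPowerSeries (Fin n) k) (_ : ∀ i (m : Fin n →₀ ℕ), m.degree < 2 → MvPowerSeries.coeff m (ε i) = 0)
      (q : MvPolynomial (Fin n) k) (_ : q.IsHomogeneous 2)
      (_ : MvPowerSeries.HasSubst (fun i : Fin n => MvPowerSeries.X i + ε i)),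
      f = MvPowerSeries.subst (fun i : Fin n => MvPowerSeries.X i + ε i) (q : MvPowerSeries (Fin n) k) :=
  morse f hf0 hJ

end Groth.Agent.Lib.MorseH1
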