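import Mathlib
import Groth.Prelude.Def_QuadSing

namespace Groth.Agent.Lib.QuadJac

open MvPowerSeries

universe u

theorem claimS {σ : Type*} {k : Type*} [CommRing k] [DecidableEq σ] (S : Finset σ) :
    ∀ φ : MvPowerSeries σ k,
      (∀ m : σ →₀ ℕ, (∀ s ∈ S, m s = 0) → MvPowerSeries.coeff m φ = 0) →
      φ ∈ Ideal.span ((MvPowerSeries.X : σ → MvPowerSeries σ k) '' (S : Set σ)) := by
  induction S using Finset.induction_on with
  | empty =>
    intro φ h
    have h0 : φ = 0 := by
      ext m
      rw [h m (by simp)]; simp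
    rw [h0]; exact zero_mem _
  | @insert s S' hs ih =>
    intro φ h
    let φ₁ : MvPowerSeries σ k := fun m => if m s = 0 then 0 else MvPowerSeries.coeff m φ
    let φ₂ : MvPowerSeries σ k := fun m => if m s = 0 then MvPowerSeries.coeff m φ else 0
    have c1 : ∀ m, MvPowerSeries.coeff m φ₁ =
        if m s = 0 then 0 else MvPowerSeries.coeff m φ := fun m => rfl
    have c2 : ∀ m, MvPowerSeries.coeff m φ₂ =
        if m s = 0 then MvPowerSeries.coeff m φ else 0 := fun m => rfl
    have hφ : φ = φ₁ + φ₂ := by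
      ext m
      rw [map_add, c1, c2]
      split_ifs <;> simp
    have h1 : φ₁ ∈ Ideal.span ((MvPowerSeries.X : σ → MvPowerSeries σ k) ''
        ((insert s S' : Finset σ) : Set σ)) := by
      have hdvd : (MvPowerSeries.X s : MvPowerSeries σ k) ∣ φ₁ :=
        MvPowerSeries.X_dvd_iff.mpr (fun m hm => by rw [c1, if_pos hm])
      obtain ⟨ψ, hψ⟩ := hdvd
      rw [hψ]
      exact Ideal.mul_mem_right ψ _
        (Ideal.subset_span ⟨s, Finset.mem_coe.mpr (Finset.mem_insert_self s S'), rfl⟩)
    have h2 : φ₂ ∈ Ideal.span ((MvPowerSeries.X : σ → MvPowerSeries σ k) ''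
        ((insert s S' : Finset σ) : Set σ)) := by
      have h2' := ih φ₂ (fun m hm => by
        rw [c2]
        by_cases hms : m s = 0
        · rw [if_pos hms]
          apply h m
          intro t ht
          rcases Finset.mem_insert.mp ht with rfl | ht'
          · exact hms
          · exact hm t ht'
        · rw [if_neg hms])
      exact Ideal.span_mono (Set.image_mono (Finset.coe_subset.mpr (Finset.subset_insert s S'))) h2'
    rw [hφ]
    exact add_mem h1 h2

theorem coeff_single_mul_X {σ : Type*} {k : Type*} [CommRing k] [DecidableEq σ]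
    (h : MvPowerSeries σ k) (l j : σ) :
    MvPowerSeries.coeff (Finsupp.single j 1) (h * MvPowerSeries.X l) =
      if l = j then MvPowerSeries.constantCoeff h else 0 := by
  rw [MvPowerSeries.X_def, MvPowerSeries.coeff_mul_monomial]
  by_cases hlj : l = j
  · subst hlj
    rw [if_pos le_rfl, if_pos rfl, tsub_self, mul_one,
      MvPowerSeries.coeff_zero_eq_constantCoeff_apply]
  · rw [if_neg hlj, if_neg]
    intro hle
    have := hle l
    simp [Finsupp.single_apply, hlj, Ne.symm hlj] at this

theorem main (k : Type u) [Field k] (n : ℕ)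
    (f : MvPowerSeries (Fin (n + 1)) k) (hf : VanCyc.NondegQuadSeries f) :
    Ideal.span (Set.range fun i : Fin (n + 1) => MvPowerSeries.pderiv k i f) =
      IsLocalRing.maximalIdeal (MvPowerSeries (Fin (n + 1)) k) := by
  classical
  obtain ⟨⟨hf0, hf1⟩, hdet⟩ := hf
  obtain ⟨g, hg⟩ : ∃ g : Fin (n + 1) → MvPowerSeries (Fin (n + 1)) k,
      g = fun i => MvPowerSeries.pderiv k i f := ⟨_, rfl⟩
  have hgi : ∀ i, g i = MvPowerSeries.pderiv k i f := fun i => by rw [hg]
  have hJ : Ideal.span (Set.range fun i : Fin (n + 1) => MvPowerSeries.pderiv k i f) =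
      Ideal.span (Set.range g) := by rw [hg]
  rw [hJ]
  have hmem_max : ∀ φ : MvPowerSeries (Fin (n + 1)) k,
      φ ∈ IsLocalRing.maximalIdeal (MvPowerSeries (Fin (n + 1)) k) ↔
        MvPowerSeries.constantCoeff φ = 0 := by
    intro φ
    rw [IsLocalRing.mem_maximalIdeal, mem_nonunits_iff, MvPowerSeries.isUnit_iff_constantCoeff,
      isUnit_iff_ne_zero, not_not]
  have hg0 : ∀ i, MvPowerSeries.constantCoeff (g i) = 0 := by
    intro i
    rw [hgi, ← MvPowerSeries.coeff_zero_eq_constantCoeff_apply, MvPowerSeries.coeff_pderiv,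
      zero_add, hf1 i, zero_mul]
  have hspanX : ∀ φ : MvPowerSeries (Fin (n + 1)) k, MvPowerSeries.constantCoeff φ = 0 →
      φ ∈ Ideal.span (Set.range
        (MvPowerSeries.X : Fin (n + 1) → MvPowerSeries (Fin (n + 1)) k)) := by
    intro φ hφ
    have h := claimS (Finset.univ : Finset (Fin (n + 1))) φ (fun m hm => by
      have hm0 : m = 0 := Finsupp.ext fun s => hm s (Finset.mem_univ s)
      rw [hm0, MvPowerSeries.coeff_zero_eq_constantCoeff_apply, hφ])
    rwa [Finset.coe_univ, Set.image_univ] at h
  have hex : ∀ i, ∃ c : Fin (n + 1) → MvPowerSeries (Fin (n + 1)) k,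
      ∑ j, c j * MvPowerSeries.X j = g i := fun i =>
    Ideal.mem_span_range_iff_exists_fun.mp (hspanX (g i) (hg0 i))
  choose H hH using hex
  have hconst : ∀ i j, MvPowerSeries.constantCoeff (H i j) =
      MvPowerSeries.coeff (Finsupp.single j 1) (g i) := by
    intro i j
    rw [← hH i, map_sum, Finset.sum_congr rfl (fun l _ => coeff_single_mul_X (H i l) l j),
      Finset.sum_ite_eq', if_pos (Finset.mem_univ j)]
  have hB : ∀ i j, MvPowerSeries.constantCoeff (H i j) =
      VanCyc.polarMatrix (VanCyc.quadPart f) i j := by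
    intro i j
    rw [hconst, hgi, MvPowerSeries.coeff_pderiv]
    unfold VanCyc.polarMatrix VanCyc.quadPart
    by_cases hij : i = j
    · subst hij
      simp only [if_true, Finsupp.single_eq_same, Nat.cast_one]
      rw [← Finsupp.single_add]
      ring
    · have hji : j ≠ i := Ne.symm hij
      simp only [hij, if_false, Finsupp.single_eq_of_ne hij, Nat.cast_zero, zero_add, mul_one]
      by_cases hlt : i < j
      · simp only [hlt, if_true]
        rw [add_comm (Finsupp.single j 1) (Finsupp.single i 1)]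
      · have hlt' : j < i := lt_of_le_of_ne (not_lt.mp hlt) hji
        simp only [hlt, if_false, hji, hlt', if_true]
  have hdetH : IsUnit (Matrix.of H).det := by
    rw [MvPowerSeries.isUnit_iff_constantCoeff, RingHom.map_det, RingHom.mapMatrix_apply]
    have hmap : (Matrix.of H).map (MvPowerSeries.constantCoeff (σ := Fin (n + 1)) (R := k)) =
        VanCyc.polarMatrix (VanCyc.quadPart f) := by
      ext i j
      exact hB i j
    rw [hmap]
    exact hdet
  have hgv : g = (Matrix.of H).mulVec MvPowerSeries.X := funext fun i => (hH i).symm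
  have hinv : ((Matrix.of H)⁻¹).mulVec g = MvPowerSeries.X := by
    rw [hgv, Matrix.mulVec_mulVec, Matrix.nonsing_inv_mul _ hdetH, Matrix.one_mulVec]
  apply le_antisymm
  · rw [Ideal.span_le]
    rintro _ ⟨i, rfl⟩
    exact (hmem_max _).mpr (hg0 i)
  · intro φ hφ
    have h1 := hspanX φ ((hmem_max φ).mp hφ)
    have hXJ : Ideal.span (Set.range
        (MvPowerSeries.X : Fin (n + 1) → MvPowerSeries (Fin (n + 1)) k)) ≤
        Ideal.span (Set.range g) := by
      rw [Ideal.span_le]
      rintro _ ⟨j, rfl⟩
      have hXj : (MvPowerSeries.X j : MvPowerSeries (Fin (n + 1)) k) =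
          ∑ i, (Matrix.of H)⁻¹ j i * g i := (congrFun hinv j).symm
      rw [hXj]
      exact Ideal.sum_mem _ fun i _ => Ideal.mul_mem_left _ _ (Ideal.subset_span ⟨i, rfl⟩)
    exact hXJ h1

end Groth.Agent.Lib.QuadJac
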