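import Mathlib
import Groth.Prelude.Def_QuadSing
import Groth.Agent.Lib.HypCompl_helper5
import Groth.Agent.Lib.Morse_helper1
import Groth.Agent.Lib.QuadJac_lead

/-!
# Chain rule for substitution of power series; the Jacobian ideal of a hypersurface germ is an
invariant of the quotient algebra (nondegenerate case) (helper5)
-/

set_option autoImplicit false
set_option maxHeartbeats 1000000
set_option linter.unusedVariables false
universe u

open MvPowerSeries IsLocalRing

namespace Groth.Agent.Lib.HessInvH5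

open Groth.Agent.Lib.ExtPSH1 Groth.Agent.Lib.LubinTateH1 Groth.Agent.Lib.MorseH1
  Groth.Agent.Lib.HypComplH5

variable {k : Type u} [Field k] {n : ℕ}

section CR

variable (y : Fin n → MvPowerSeries (Fin n) k)

/-- chain rule for polynomials -/
theorem pderiv_aeval (j : Fin n) (q : MvPolynomial (Fin n) k) :
    pderiv k j (MvPolynomial.aeval y q)
      = ∑ a, MvPolynomial.aeval y (MvPolynomial.pderiv a q) * pderiv k j (y a) := by
  classical
  induction q using MvPolynomial.induction_on with
  | C c =>
    have h1 : pderiv k j (MvPolynomial.aeval y (MvPolynomial.C c)) = 0 := by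
      rw [MvPolynomial.aeval_C, ← c_eq_algebraMap, pderiv_C]
    rw [h1]
    symm
    apply Finset.sum_eq_zero
    intro a _
    rw [MvPolynomial.pderiv_C, map_zero, zero_mul]
  | add p q hp hq =>
    rw [map_add, map_add, hp, hq, ← Finset.sum_add_distrib]
    refine Finset.sum_congr rfl fun a _ => ?_
    rw [map_add, map_add, add_mul]
  | mul_X q i hq =>
    rw [map_mul, MvPolynomial.aeval_X, Derivation.leibniz, hq]
    have hterm : ∀ a, MvPolynomial.aeval y (MvPolynomial.pderiv a (q * MvPolynomial.X i))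
        * pderiv k j (y a)
        = y i * (MvPolynomial.aeval y (MvPolynomial.pderiv a q) * pderiv k j (y a))
          + (if a = i then MvPolynomial.aeval y q * pderiv k j (y i) else 0) := by
      intro a
      rw [Derivation.leibniz, MvPolynomial.pderiv_X, smul_eq_mul, smul_eq_mul, map_add, map_mul,
        map_mul, MvPolynomial.aeval_X]
      by_cases hai : a = i
      · subst hai
        rw [if_pos rfl, Pi.single_eq_same, map_one]
        ring
      · rw [if_neg hai, Pi.single_eq_of_ne (Ne.symm hai), map_zero]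
        ring
    rw [Finset.sum_congr rfl (fun a _ => hterm a), Finset.sum_add_distrib, ← Finset.mul_sum,
      Finset.sum_ite_eq' Finset.univ i, if_pos (Finset.mem_univ i), smul_eq_mul, smul_eq_mul]
    ring

variable (hy : ∀ a, constantCoeff (y a) = 0)
include hy

/-- **chain rule** for substitution of power series without constant terms -/
theorem pderiv_subst (j : Fin n) (F : MvPowerSeries (Fin n) k) :
    pderiv k j (subst y F) = ∑ a, subst y (pderiv k a F) * pderiv k j (y a) := by
  classical
  have hs : HasSubst y := hasSubst_of_constantCoeff_zero hy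
  rw [← sub_eq_zero]
  apply eq_zero_of_forall_van
  intro N
  obtain ⟨q, hq⟩ : ∃ q : MvPolynomial (Fin n) k, q = truncTotal (N + 1) F := ⟨_, rfl⟩
  obtain ⟨R, hR⟩ : ∃ R : MvPowerSeries (Fin n) k, R = F - (q : MvPowerSeries (Fin n) k) :=
    ⟨_, rfl⟩
  have hRv : Van (N + 1) R := by
    intro d hd
    rw [hR, map_sub, hq, MvPolynomial.coeff_coe, coeff_truncTotal _ hd, sub_self]
  have hF : F = (q : MvPowerSeries (Fin n) k) + R := by rw [hR]; ring
  have hq0 : pderiv k j (subst y (q : MvPowerSeries (Fin n) k))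
      - ∑ a, subst y (pderiv k a (q : MvPowerSeries (Fin n) k)) * pderiv k j (y a) = 0 := by
    rw [sub_eq_zero, subst_coe, pderiv_aeval]
    refine Finset.sum_congr rfl fun a _ => ?_
    rw [pderiv_coe, subst_coe]
  have hsplit : pderiv k j (subst y F) - ∑ a, subst y (pderiv k a F) * pderiv k j (y a)
      = (pderiv k j (subst y (q : MvPowerSeries (Fin n) k))
          - ∑ a, subst y (pderiv k a (q : MvPowerSeries (Fin n) k)) * pderiv k j (y a))
        + (pderiv k j (subst y R) - ∑ a, subst y (pderiv k a R) * pderiv k j (y a)) := by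
    rw [hF, subst_add hs, map_add]
    have : ∀ a, subst y (pderiv k a ((q : MvPowerSeries (Fin n) k) + R)) * pderiv k j (y a)
        = subst y (pderiv k a (q : MvPowerSeries (Fin n) k)) * pderiv k j (y a)
          + subst y (pderiv k a R) * pderiv k j (y a) := by
      intro a
      rw [map_add, subst_add hs, add_mul]
    rw [Finset.sum_congr rfl (fun a _ => this a), Finset.sum_add_distrib]
    ring
  rw [hsplit, hq0, zero_add]
  refine Van.sub ?_ ?_
  · exact van_pderiv (Van.subst hy hRv) j
  · apply van_sum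
    intro a _
    have h1 : Van N (subst y (pderiv k a R)) := Van.subst hy (van_pderiv hRv a)
    have := h1.mul (van_zero_left (pderiv k j (y a)))
    simpa using this

end CR

section UQ

/-- uniqueness of local algebra maps out of a power series ring over a field -/
theorem algHom_ext_ps {T : Type u} [CommRing T] [Algebra k T] [IsLocalRing T]
    [IsHausdorff (maximalIdeal T) T]
    (u v : MvPowerSeries (Fin n) k →ₐ[k] T) (hu : ∀ i, u (X i) ∈ maximalIdeal T)
    (huv : ∀ i, u (X i) = v (X i)) : u = v := by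
  have hpoly : ∀ q : MvPolynomial (Fin n) k, u (q : MvPowerSeries (Fin n) k)
      = v (q : MvPowerSeries (Fin n) k) := by
    intro q
    have h : u.comp (MvPolynomial.coeToMvPowerSeries.algHom k)
        = v.comp (MvPolynomial.coeToMvPowerSeries.algHom k) := by
      apply MvPolynomial.algHom_ext
      intro i
      simpa using huv i
    exact AlgHom.congr_fun h q
  have hmap : ∀ (w : MvPowerSeries (Fin n) k →ₐ[k] T), (∀ i, w (X i) ∈ maximalIdeal T) →
      ∀ N, ∀ G ∈ XI k n ^ N, w G ∈ maximalIdeal T ^ N := by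
    intro w hw N G hG
    have h1 : (XI k n ^ N).map w ≤ maximalIdeal T ^ N := by
      rw [Ideal.map_pow]
      refine Ideal.pow_right_mono ?_ N
      rw [Ideal.map_span, Ideal.span_le]
      rintro _ ⟨_, ⟨i, rfl⟩, rfl⟩
      exact hw i
    exact h1 (Ideal.mem_map_of_mem _ hG)
  apply AlgHom.ext
  intro F
  rw [← sub_eq_zero]
  apply IsHausdorff.haus (inferInstance : IsHausdorff (maximalIdeal T) T)
  intro N
  rw [SModEq.sub_mem, sub_zero, smul_eq_mul, Ideal.mul_top]
  have hG := sub_truncTotal_mem N F
  have e : u F - v F = u (F - ((truncTotal N F : MvPolynomial (Fin n) k) :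
      MvPowerSeries (Fin n) k)) - v (F - ((truncTotal N F : MvPolynomial (Fin n) k) :
      MvPowerSeries (Fin n) k)) := by
    rw [map_sub, map_sub, hpoly]
    ring
  rw [e]
  exact sub_mem (hmap u hu N _ hG) (hmap v (fun i => huv i ▸ hu i) N _ hG)

end UQ

section Quot

variable (f : MvPowerSeries (Fin n) k)

theorem span_ne_top' (hf0 : constantCoeff f = 0) :
    Ideal.span {f} ≠ (⊤ : Ideal (MvPowerSeries (Fin n) k)) := by
  intro h
  rw [Ideal.span_singleton_eq_top, MvPowerSeries.isUnit_iff_constantCoeff, hf0] at h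
  exact not_isUnit_zero h

theorem isLocalRing_quot (hf0 : constantCoeff f = 0) :
    IsLocalRing (MvPowerSeries (Fin n) k ⧸ Ideal.span {f}) := by
  haveI : Nontrivial (MvPowerSeries (Fin n) k ⧸ Ideal.span {f}) :=
    Ideal.Quotient.nontrivial_iff.mpr (span_ne_top' f hf0)
  exact IsLocalRing.of_surjective' (Ideal.Quotient.mk (Ideal.span {f}))
    Ideal.Quotient.mk_surjective

theorem maximalIdeal_quot [IsLocalRing (MvPowerSeries (Fin n) k ⧸ Ideal.span {f})] :
    maximalIdeal (MvPowerSeries (Fin n) k ⧸ Ideal.span {f})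
      = (XI k n).map (Ideal.Quotient.mk (Ideal.span {f})) := by
  rw [← maximalIdeal_ps, Groth.Agent.Lib.MonomialCharPH3.map_mk_maximalIdeal]

theorem isAdicComplete_quot [IsLocalRing (MvPowerSeries (Fin n) k ⧸ Ideal.span {f})] :
    IsAdicComplete (maximalIdeal (MvPowerSeries (Fin n) k ⧸ Ideal.span {f}))
      (MvPowerSeries (Fin n) k ⧸ Ideal.span {f}) := by
  haveI : IsAdicComplete (maximalIdeal k) k := by
    rw [IsLocalRing.maximalIdeal_eq_bot]
    infer_instance
  haveI : IsAdicComplete (maximalIdeal (MvPowerSeries (Fin n) k)) (MvPowerSeries (Fin n) k) :=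
    Groth.Agent.Lib.PSCompleteH1.isAdicComplete_maximalIdeal (σ := Fin n) (R := k)
  exact Groth.Agent.Lib.MonomialCharPH3.isAdicComplete_quotient _ (Ideal.span {f})

theorem constantCoeff_subst' (y : Fin n → MvPowerSeries (Fin n) k)
    (hy : ∀ a, constantCoeff (y a) = 0) (G : MvPowerSeries (Fin n) k) :
    constantCoeff (subst y G) = constantCoeff G := by
  have hs : HasSubst y := hasSubst_of_constantCoeff_zero hy
  have e : G = C (constantCoeff G) + (G - C (constantCoeff G)) := by ring
  have h0 : constantCoeff (G - C (constantCoeff G)) = 0 := by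
    rw [map_sub, constantCoeff_C, sub_self]
  conv_lhs => rw [e]
  rw [subst_add hs, map_add, constantCoeff_subst_eq_zero hs hy h0, add_zero]
  have : subst y (C (constantCoeff G) : MvPowerSeries (Fin n) k)
      = (C (constantCoeff G) : MvPowerSeries (Fin n) k) := by
    have := subst_coe (a := y) (MvPolynomial.C (constantCoeff G) : MvPolynomial (Fin n) k)
    rw [MvPolynomial.coe_C, MvPolynomial.aeval_C, ← c_eq_algebraMap] at this
    exact this
  rw [this, constantCoeff_C]

theorem coeff_single_eq (l : Fin n) (G : MvPowerSeries (Fin n) k) :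
    coeff (Finsupp.single l 1) G = constantCoeff (pderiv k l G) := by
  rw [← coeff_zero_eq_constantCoeff_apply, coeff_pderiv, zero_add]
  simp

theorem mem_XI_sq_of_van (hf : Van 2 f) : f ∈ XI k n ^ 2 := by
  have h := sub_truncTotal_mem 2 f
  have h0 : (truncTotal 2 f : MvPolynomial (Fin n) k) = 0 := by
    ext d
    rw [coeff_truncTotal_eq_ite, MvPolynomial.coeff_zero]
    split_ifs with hd
    · exact hf d hd
    · rfl
  rwa [h0, MvPolynomial.coe_zero, sub_zero] at h

end Quot

section MA

/-- **Invariance of the Jacobian ideal.**  If `k[[x]]/(g) ≅ k[[x]]/(f)` as `k`-algebras, `f, g` have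
no terms of degree `< 2` and the partials of `g` generate the maximal ideal, so do those of `f`. -/
theorem XI_le_jac_of_equiv (f g : MvPowerSeries (Fin n) k) (hf : Van 2 f) (hg : Van 2 g)
    (hgJ : XI k n ≤ Ideal.span (Set.range fun a => pderiv k a g))
    (ψ : (MvPowerSeries (Fin n) k ⧸ Ideal.span {g}) ≃ₐ[k]
      (MvPowerSeries (Fin n) k ⧸ Ideal.span {f})) :
    XI k n ≤ Ideal.span (Set.range fun j => pderiv k j f) := by
  classical
  have hf0 : constantCoeff f = 0 := by
    rw [← coeff_zero_eq_constantCoeff_apply]; exact hf 0 (by simp)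
  have hg0 : constantCoeff g = 0 := by
    rw [← coeff_zero_eq_constantCoeff_apply]; exact hg 0 (by simp)
  haveI := isLocalRing_quot f hf0
  haveI := isLocalRing_quot g hg0
  haveI := isAdicComplete_quot f
  haveI := isAdicComplete_quot g
  -- ring isomorphisms preserve maximal ideals
  have hψmax : ∀ t, t ∈ maximalIdeal (MvPowerSeries (Fin n) k ⧸ Ideal.span {g}) →
      ψ t ∈ maximalIdeal (MvPowerSeries (Fin n) k ⧸ Ideal.span {f}) := by
    intro t ht
    rw [mem_maximalIdeal, mem_nonunits_iff] at ht ⊢
    intro hu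
    apply ht
    have := hu.map ψ.symm
    rwa [AlgEquiv.symm_apply_apply] at this
  have hψmax' : ∀ t, t ∈ maximalIdeal (MvPowerSeries (Fin n) k ⧸ Ideal.span {f}) →
      ψ.symm t ∈ maximalIdeal (MvPowerSeries (Fin n) k ⧸ Ideal.span {g}) := by
    intro t ht
    rw [mem_maximalIdeal, mem_nonunits_iff] at ht ⊢
    intro hu
    apply ht
    have := hu.map ψ
    rwa [AlgEquiv.apply_symm_apply] at this
  -- lifts
  have hyex : ∀ i, ∃ yi : MvPowerSeries (Fin n) k, yi ∈ XI k n ∧
      Ideal.Quotient.mk (Ideal.span {f}) yi = ψ (Ideal.Quotient.mk (Ideal.span {g}) (X i)) := by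
    intro i
    have h1 : Ideal.Quotient.mk (Ideal.span {g}) (X i) ∈
        maximalIdeal (MvPowerSeries (Fin n) k ⧸ Ideal.span {g}) := by
      rw [maximalIdeal_quot]
      exact Ideal.mem_map_of_mem _ (Ideal.subset_span ⟨i, rfl⟩)
    have h2 := hψmax _ h1
    rw [maximalIdeal_quot] at h2
    obtain ⟨yi, hyi, hyi'⟩ := (Ideal.mem_map_iff_of_surjective _ Ideal.Quotient.mk_surjective).mp h2
    exact ⟨yi, hyi, hyi'⟩
  have hzex : ∀ i, ∃ zi : MvPowerSeries (Fin n) k, zi ∈ XI k n ∧
      Ideal.Quotient.mk (Ideal.span {g}) zi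
        = ψ.symm (Ideal.Quotient.mk (Ideal.span {f}) (X i)) := by
    intro i
    have h1 : Ideal.Quotient.mk (Ideal.span {f}) (X i) ∈
        maximalIdeal (MvPowerSeries (Fin n) k ⧸ Ideal.span {f}) := by
      rw [maximalIdeal_quot]
      exact Ideal.mem_map_of_mem _ (Ideal.subset_span ⟨i, rfl⟩)
    have h2 := hψmax' _ h1
    rw [maximalIdeal_quot] at h2
    obtain ⟨zi, hzi, hzi'⟩ := (Ideal.mem_map_iff_of_surjective _ Ideal.Quotient.mk_surjective).mp h2
    exact ⟨zi, hzi, hzi'⟩
  choose y hyX hy using hyex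
  choose z hzX hz using hzex
  have hy0 : ∀ a, constantCoeff (y a) = 0 := fun a => XI_le_ker (hyX a)
  have hsY : HasSubst y := hasSubst_of_constantCoeff_zero hy0
  -- the substitution homomorphism is compatible with ψ
  have hcomp : (Ideal.Quotient.mkₐ k (Ideal.span {f})).comp (substAlgHom hsY)
      = (ψ : _ →ₐ[k] _).comp (Ideal.Quotient.mkₐ k (Ideal.span {g})) := by
    apply algHom_ext_ps
    · intro i
      show Ideal.Quotient.mk (Ideal.span {f}) (substAlgHom hsY (X i)) ∈ _
      rw [substAlgHom_X, maximalIdeal_quot]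
      exact Ideal.mem_map_of_mem _ (hyX i)
    · intro i
      show Ideal.Quotient.mk (Ideal.span {f}) (substAlgHom hsY (X i))
        = ψ (Ideal.Quotient.mk (Ideal.span {g}) (X i))
      rw [substAlgHom_X, hy]
  have hcomp' : ∀ G : MvPowerSeries (Fin n) k,
      Ideal.Quotient.mk (Ideal.span {f}) (subst y G) = ψ (Ideal.Quotient.mk (Ideal.span {g}) G) := by
    intro G
    have := AlgHom.congr_fun hcomp G
    rw [← coe_substAlgHom hsY]
    exact this
  -- Y g ∈ (f)
  obtain ⟨a, ha⟩ : ∃ a, a * f = subst y g := by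
    apply Ideal.mem_span_singleton'.mp
    rw [← Ideal.Quotient.eq_zero_iff_mem, hcomp',
      Ideal.Quotient.eq_zero_iff_mem.mpr (Ideal.mem_span_singleton_self g), map_zero]
  -- Y (z i) ≡ X i mod (f)
  have hbex : ∀ i, ∃ b, b * f = subst y (z i) - X i := by
    intro i
    apply Ideal.mem_span_singleton'.mp
    rw [← Ideal.Quotient.eq_zero_iff_mem, map_sub, hcomp', hz, AlgEquiv.apply_symm_apply, sub_self]
  choose b hb using hbex
  -- the linear parts are inverse to each other
  have hlin : ∀ i l, ∑ c, constantCoeff (pderiv k c (z i)) * constantCoeff (pderiv k l (y c))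
      = if i = l then 1 else 0 := by
    intro i l
    have h1 : coeff (Finsupp.single l 1) (subst y (z i)) = if i = l then 1 else 0 := by
      have e : subst y (z i) = X i + b i * f := by rw [hb]; ring
      rw [e, map_add, (Van.mul_left (b i) hf) _ (by rw [Finsupp.degree_single]; norm_num), add_zero,
        coeff_X]
      by_cases hil : i = l
      · subst hil; simp
      · rw [if_neg hil, if_neg]
        intro h
        exact hil (Finsupp.single_left_injective one_ne_zero h).symm
    rw [← h1, coeff_single_eq, pderiv_subst y hy0, map_sum]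
    refine Finset.sum_congr rfl fun c _ => ?_
    rw [map_mul, constantCoeff_subst' y hy0]
  obtain ⟨LY, hLY⟩ : ∃ LY : Matrix (Fin n) (Fin n) k,
      LY = Matrix.of fun c l => constantCoeff (pderiv k l (y c)) := ⟨_, rfl⟩
  have hLYdet : IsUnit LY.det := by
    apply Matrix.isUnit_det_of_left_inverse
      (B := Matrix.of fun i c => constantCoeff (pderiv k c (z i)))
    ext i l
    rw [Matrix.mul_apply, Matrix.one_apply, hLY]
    exact hlin i l
  obtain ⟨Jy, hJy⟩ : ∃ Jy : Matrix (Fin n) (Fin n) (MvPowerSeries (Fin n) k),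
      Jy = Matrix.of fun c j => pderiv k j (y c) := ⟨_, rfl⟩
  have hJydet : IsUnit Jy.det := by
    rw [MvPowerSeries.isUnit_iff_constantCoeff, RingHom.map_det]
    have : (constantCoeff (σ := Fin n) (R := k)).mapMatrix Jy = LY := by
      ext c l
      rw [hJy, hLY]
      rfl
    rw [this]
    exact hLYdet
  -- chain rule: ∇(Y g) = Jyᵀ (Y ∇g)
  obtain ⟨v, hv⟩ : ∃ v : Fin n → MvPowerSeries (Fin n) k, v = fun c => subst y (pderiv k c g) :=
    ⟨_, rfl⟩
  obtain ⟨w, hw⟩ : ∃ w : Fin n → MvPowerSeries (Fin n) k, w = fun j => pderiv k j (subst y g) :=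
    ⟨_, rfl⟩
  have hwv : w = Jy.transpose.mulVec v := by
    funext j
    rw [hw, hv, hJy]
    show pderiv k j (subst y g) = ∑ c, (Matrix.of fun c j => pderiv k j (y c)).transpose j c
      * subst y (pderiv k c g)
    rw [pderiv_subst y hy0]
    refine Finset.sum_congr rfl fun c _ => ?_
    rw [Matrix.transpose_apply, Matrix.of_apply, mul_comm]
  have hJyT : IsUnit Jy.transpose.det := by rw [Matrix.det_transpose]; exact hJydet
  have hvw : v = (Jy.transpose)⁻¹.mulVec w := by
    rw [hwv, Matrix.mulVec_mulVec, Matrix.nonsing_inv_mul _ hJyT, Matrix.one_mulVec]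
  -- the ideal J_f
  obtain ⟨Jf, hJf⟩ : ∃ Jf : Ideal (MvPowerSeries (Fin n) k),
      Jf = Ideal.span (Set.range fun j => pderiv k j f) ⊔ Ideal.span {f} := ⟨_, rfl⟩
  have hfJ : f ∈ Jf := by
    rw [hJf]; exact Ideal.mem_sup_right (Ideal.mem_span_singleton_self f)
  have hdfJ : ∀ j, pderiv k j f ∈ Jf := by
    intro j
    rw [hJf]; exact Ideal.mem_sup_left (Ideal.subset_span ⟨j, rfl⟩)
  have hwJ : ∀ j, w j ∈ Jf := by
    intro j
    rw [hw]
    show pderiv k j (subst y g) ∈ Jf
    rw [← ha, Derivation.leibniz, smul_eq_mul, smul_eq_mul]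
    exact add_mem (Ideal.mul_mem_left _ _ (hdfJ j)) (Ideal.mul_mem_right _ _ hfJ)
  have hvJ : ∀ c, v c ∈ Jf := by
    intro c
    rw [hvw]
    show ∑ j, (Jy.transpose)⁻¹ c j * w j ∈ Jf
    exact Ideal.sum_mem _ fun j _ => Ideal.mul_mem_left _ _ (hwJ j)
  have hYz : ∀ i, subst y (z i) ∈ Jf := by
    intro i
    obtain ⟨c, hc⟩ := Ideal.mem_span_range_iff_exists_fun.mp (hgJ (hzX i))
    rw [← hc, ← coe_substAlgHom hsY, map_sum]
    refine Ideal.sum_mem _ fun a' _ => ?_
    rw [map_mul]
    have : substAlgHom hsY (pderiv k a' g) = v a' := by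
      rw [hv, coe_substAlgHom hsY]
    rw [this]
    exact Ideal.mul_mem_left _ _ (hvJ a')
  have hXJ : XI k n ≤ Jf := by
    rw [XI, Ideal.span_le]
    rintro _ ⟨i, rfl⟩
    have e : (X i : MvPowerSeries (Fin n) k) = subst y (z i) - b i * f := by rw [hb]; ring
    rw [SetLike.mem_coe, e]
    exact sub_mem (hYz i) (Ideal.mul_mem_left _ _ hfJ)
  -- Nakayama
  have hfsq : Ideal.span {f} ≤ XI k n • XI k n := by
    rw [Ideal.span_le, Set.singleton_subset_iff, smul_eq_mul, ← pow_two]
    exact mem_XI_sq_of_van f hf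
  apply Submodule.le_of_le_smul_of_le_jacobson_bot (I := XI k n)
  · exact Submodule.fg_span (Set.finite_range _)
  · rw [IsLocalRing.jacobson_eq_maximalIdeal ⊥ bot_ne_top, maximalIdeal_ps]
  · refine hXJ.trans ?_
    rw [hJf]
    exact sup_le_sup_left hfsq _

end MA

end Groth.Agent.Lib.HessInvH5
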