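import Mathlib
import Groth.Prelude.Def_Hens2
import Groth.Agent.Lib.HenselQuot_lead
import Groth.Agent.Lib.ElkikG1_helper5
import Groth.Agent.Lib.PairHensExists_lead

/-!
# Compact henselian algebras are henselian finitely presented (helper5)

Tools for S17618: if `Hom_A(B, -)` commutes with directed colimits of henselian pairs over a
henselian pair `(A, I)`, then `B` is a quotient of a henselized polynomial ring by a finitely
generated ideal.
-/

set_option autoImplicit false
set_option maxHeartbeats 1000000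
set_option linter.unusedVariables false
universe u

open Groth.Agent.Lib

namespace Groth.Agent.Lib.HfpColimH5

/-- The compactness hypothesis of S17618. -/
def Compact (A : Type u) [CommRing A] (I : Ideal A) (B : Type u) [CommRing B] [Algebra A B] : Prop :=
  ∀ (κ : Type u) [Preorder κ] [IsDirectedOrder κ] [Nonempty κ]
      (Ra : κ → Type u) [∀ a, CommRing (Ra a)] [∀ a, Algebra A (Ra a)]
      [∀ a, HenselianRing (Ra a) (I.map (algebraMap A (Ra a)))]
      (t : ∀ a b : κ, a ≤ b → (Ra a →+* Ra b)) [DirectedSystem Ra (fun a b hab => t a b hab)],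
      (∀ (a b : κ) (hab : a ≤ b), (t a b hab).comp (algebraMap A (Ra a)) = algebraMap A (Ra b)) →
      ∀ [Algebra A (DirectLimit Ra t)],
      (∀ (a : κ) (x : A), algebraMap A (DirectLimit Ra t) x =
        DirectLimit.Ring.of Ra t a (algebraMap A (Ra a) x)) →
      (∀ χ : B →ₐ[A] DirectLimit Ra t, ∃ (a : κ) (φ : B →ₐ[A] Ra a),
          ∀ x : B, DirectLimit.Ring.of Ra t a (φ x) = χ x) ∧
      ∀ (a : κ) (φ ψ : B →ₐ[A] Ra a),
        (∀ x : B, DirectLimit.Ring.of Ra t a (φ x) = DirectLimit.Ring.of Ra t a (ψ x)) →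
        ∃ (b : κ) (hab : a ≤ b), ∀ x : B, t a b hab (φ x) = t a b hab (ψ x)

section Retract

variable {A : Type u} [CommRing A] {I : Ideal A} {B : Type u} [CommRing B] [Algebra A B]

/-- If `B` is the colimit of a directed system of henselian pairs over `A`, compactness gives a
section of one of the structure maps. -/
theorem exists_retract (h : Compact A I B)
    {κ : Type u} [Preorder κ] [IsDirectedOrder κ] [Nonempty κ]
    (Ra : κ → Type u) [∀ a, CommRing (Ra a)] [∀ a, Algebra A (Ra a)]
    [∀ a, HenselianRing (Ra a) (I.map (algebraMap A (Ra a)))]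
    (t : ∀ a b : κ, a ≤ b → (Ra a →+* Ra b)) [DirectedSystem Ra (fun a b hab => t a b hab)]
    (ht : ∀ (a b : κ) (hab : a ≤ b), (t a b hab).comp (algebraMap A (Ra a)) = algebraMap A (Ra b))
    (lam : ∀ a, Ra a →ₐ[A] B) (hlam : ∀ a b (hab : a ≤ b) (x : Ra a), lam b (t a b hab x) = lam a x)
    (hsurj : ∀ b : B, ∃ a x, lam a x = b)
    (hinj : ∀ a (x : Ra a), lam a x = 0 → ∃ b, ∃ hab : a ≤ b, t a b hab x = 0) :
    ∃ (a : κ) (φ : B →ₐ[A] Ra a), ∀ x, lam a (φ x) = x := by
  classical
  obtain ⟨a₀⟩ := ‹Nonempty κ›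
  letI alg : Algebra A (DirectLimit Ra t) :=
    ((DirectLimit.Ring.of Ra t a₀).comp (algebraMap A (Ra a₀))).toAlgebra
  have hof : ∀ i j (hij : i ≤ j) (x : Ra i),
      DirectLimit.Ring.of Ra t j (t i j hij x) = DirectLimit.Ring.of Ra t i x :=
    fun i j hij x => DirectLimit.Ring.of_f hij x
  have halg : ∀ (a : κ) (x : A), algebraMap A (DirectLimit Ra t) x =
      DirectLimit.Ring.of Ra t a (algebraMap A (Ra a) x) := by
    intro a x
    obtain ⟨c, hc₀, hc⟩ := exists_ge_ge a₀ a
    show DirectLimit.Ring.of Ra t a₀ (algebraMap A (Ra a₀) x) = _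
    rw [← hof a₀ c hc₀, ← hof a c hc]
    congr 1
    exact (RingHom.congr_fun (ht a₀ c hc₀) x).trans (RingHom.congr_fun (ht a c hc) x).symm
  let Ψ : DirectLimit Ra t →+* B :=
    DirectLimit.Ring.lift Ra t B (fun a => (lam a).toRingHom) (fun i j hij x => hlam i j hij x)
  have hΨ : ∀ a x, Ψ (DirectLimit.Ring.of Ra t a x) = lam a x := fun a x => rfl
  have hbij : Function.Bijective Ψ := by
    constructor
    · rw [injective_iff_map_eq_zero]
      intro z hz
      induction z using DirectLimit.induction with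
      | _ i x =>
        have hz' : lam i x = 0 := hz
        obtain ⟨j, hij, hj⟩ := hinj i x hz'
        have h2 : (⟦⟨i, x⟩⟧ : DirectLimit Ra t) = DirectLimit.Ring.of Ra t i x := rfl
        rw [h2, ← hof i j hij, hj, map_zero]
    · intro b
      obtain ⟨a, x, hx⟩ := hsurj b
      exact ⟨DirectLimit.Ring.of Ra t a x, (hΨ a x).trans hx⟩
  let e : DirectLimit Ra t ≃+* B := RingEquiv.ofBijective Ψ hbij
  have he : ∀ z, e z = Ψ z := fun z => rfl
  let χ : B →ₐ[A] DirectLimit Ra t :=
    { (e.symm : B →+* DirectLimit Ra t) with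
      commutes' := by
        intro x
        show e.symm (algebraMap A B x) = algebraMap A (DirectLimit Ra t) x
        rw [RingEquiv.symm_apply_eq, he, halg a₀, hΨ, AlgHom.commutes] }
  have hχ : ∀ x, χ x = e.symm x := fun x => rfl
  obtain ⟨a, φ, hφ⟩ := (h κ Ra t ht halg).1 χ
  refine ⟨a, φ, fun x => ?_⟩
  rw [← hΨ, hφ, hχ, ← he, RingEquiv.apply_symm_apply]

end Retract


section Surj

theorem henselian_of_surjective {R R' : Type*} [CommRing R] [CommRing R'] (g : R →+* R')
    (hg : Function.Surjective g) {K : Ideal R} (hK : HenselianRing R K) :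
    HenselianRing R' (K.map g) := by
  have h1 := HenselQuotLead.henselian_map_mk hK (RingHom.ker g)
  let e := RingHom.quotientKerEquivOfSurjective hg
  have h2 := ElkikG1H5.henselian_of_ringEquiv e _ h1
  have h3 : (K.map (Ideal.Quotient.mk (RingHom.ker g))).map (e : _ →+* R') = K.map g := by
    rw [Ideal.map_map]
    congr 1
  rwa [h3] at h2

end Surj

section Poly

variable {A : Type u} [CommRing A] {I : Ideal A} {n : ℕ} {P : Type u} [CommRing P]
  [Algebra (MvPolynomial (Fin n) A) P] [Algebra A P] [IsScalarTower A (MvPolynomial (Fin n) A) P]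
  {B : Type u} [CommRing B] [Algebra A B]

theorem henselian_poly
    (hP : Hens2.IsPairHenselization (MvPolynomial (Fin n) A)
      (I.map (algebraMap A (MvPolynomial (Fin n) A))) P) :
    HenselianRing P (I.map (algebraMap A P)) := by
  have h := hP.1
  rwa [Ideal.map_map, ← IsScalarTower.algebraMap_eq] at h

theorem exists_psi
    (hP : Hens2.IsPairHenselization (MvPolynomial (Fin n) A)
      (I.map (algebraMap A (MvPolynomial (Fin n) A))) P)
    (hB : HenselianRing B (I.map (algebraMap A B))) (f : Fin n → B) :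
    ∃ ψ : P →ₐ[A] B, ∀ p : MvPolynomial (Fin n) A,
      ψ (algebraMap (MvPolynomial (Fin n) A) P p) = MvPolynomial.aeval f p := by
  have hle : (I.map (algebraMap A (MvPolynomial (Fin n) A))).map
      (MvPolynomial.aeval f : MvPolynomial (Fin n) A →ₐ[A] B).toRingHom ≤ I.map (algebraMap A B) := by
    rw [Ideal.map_map]
    have : (MvPolynomial.aeval f : MvPolynomial (Fin n) A →ₐ[A] B).toRingHom.comp
        (algebraMap A (MvPolynomial (Fin n) A)) = algebraMap A B :=
      RingHom.ext fun a => (MvPolynomial.aeval f).commutes a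
    rw [this]
  obtain ⟨g, hg, -⟩ := hP.2 B _ (MvPolynomial.aeval f : MvPolynomial (Fin n) A →ₐ[A] B).toRingHom hB hle
  have hg' : ∀ p, g (algebraMap (MvPolynomial (Fin n) A) P p) = MvPolynomial.aeval f p :=
    fun p => RingHom.congr_fun hg p
  refine ⟨{ g with commutes' := fun a => ?_ }, hg'⟩
  show g (algebraMap A P a) = algebraMap A B a
  rw [IsScalarTower.algebraMap_apply A (MvPolynomial (Fin n) A) P, hg', AlgHom.commutes]

theorem algHom_ext_poly
    (hP : Hens2.IsPairHenselization (MvPolynomial (Fin n) A)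
      (I.map (algebraMap A (MvPolynomial (Fin n) A))) P)
    (hB : HenselianRing B (I.map (algebraMap A B))) {g₁ g₂ : P →ₐ[A] B}
    (h : ∀ i, g₁ (algebraMap (MvPolynomial (Fin n) A) P (MvPolynomial.X i)) =
      g₂ (algebraMap (MvPolynomial (Fin n) A) P (MvPolynomial.X i))) : g₁ = g₂ := by
  have hcomp : ∀ g : P →ₐ[A] B, (g.toRingHom.comp (algebraMap (MvPolynomial (Fin n) A) P)).comp
      (algebraMap A (MvPolynomial (Fin n) A)) = algebraMap A B := by
    intro g
    refine RingHom.ext fun a => ?_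
    show g (algebraMap (MvPolynomial (Fin n) A) P (algebraMap A _ a)) = _
    rw [← IsScalarTower.algebraMap_apply A (MvPolynomial (Fin n) A) P, AlgHom.commutes]
  have hle : (I.map (algebraMap A (MvPolynomial (Fin n) A))).map
      (g₁.toRingHom.comp (algebraMap (MvPolynomial (Fin n) A) P)) ≤ I.map (algebraMap A B) := by
    rw [Ideal.map_map, hcomp g₁]
  obtain ⟨g, -, huniq⟩ := hP.2 B _ (g₁.toRingHom.comp (algebraMap (MvPolynomial (Fin n) A) P)) hB hle
  have e1 : g₁.toRingHom = g := huniq _ rfl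
  have e2 : g₂.toRingHom = g := by
    refine huniq _ ?_
    refine MvPolynomial.ringHom_ext (fun a => ?_) (fun i => ?_)
    · show g₂ (algebraMap (MvPolynomial (Fin n) A) P (algebraMap A _ a)) =
        g₁ (algebraMap (MvPolynomial (Fin n) A) P (algebraMap A _ a))
      rw [← IsScalarTower.algebraMap_apply A (MvPolynomial (Fin n) A) P, AlgHom.commutes,
        AlgHom.commutes]
    · exact (h i).symm
  refine AlgHom.ext fun x => ?_
  exact RingHom.congr_fun (e1.trans e2.symm) x

end Poly

section Models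

/-- A chosen henselization of a pair. -/
structure HensModel (S : Type u) [CommRing S] (J : Ideal S) : Type (u + 1) where
  H : Type u
  [cr : CommRing H]
  [alg : Algebra S H]
  isH : Hens2.IsPairHenselization S J H

attribute [instance] HensModel.cr HensModel.alg

theorem nonempty_hensModel (S : Type u) [CommRing S] (J : Ideal S) : Nonempty (HensModel S J) := by
  obtain ⟨H, i1, i2, h⟩ := PairHensExists.exists_henselization S J
  exact ⟨@HensModel.mk S _ J H i1 i2 h⟩

noncomputable def hensModel (S : Type u) [CommRing S] (J : Ideal S) : HensModel S J :=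
  Classical.choice (nonempty_hensModel S J)

variable (A : Type u) [CommRing A] (I : Ideal A)

/-- A chosen henselized polynomial ring in `n` variables. -/
noncomputable abbrev HPoly (n : ℕ) : Type u :=
  (hensModel (MvPolynomial (Fin n) A) (I.map (algebraMap A (MvPolynomial (Fin n) A)))).H

noncomputable instance instAlgHPoly (n : ℕ) : Algebra A (HPoly A I n) :=
  ((algebraMap (MvPolynomial (Fin n) A) (HPoly A I n)).comp
    (algebraMap A (MvPolynomial (Fin n) A))).toAlgebra

instance instTowerHPoly (n : ℕ) : IsScalarTower A (MvPolynomial (Fin n) A) (HPoly A I n) :=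
  IsScalarTower.of_algebraMap_eq (fun _ => rfl)

theorem hPoly_isH (n : ℕ) : Hens2.IsPairHenselization (MvPolynomial (Fin n) A)
    (I.map (algebraMap A (MvPolynomial (Fin n) A))) (HPoly A I n) :=
  (hensModel _ _).isH

variable {A I} {B : Type u} [CommRing B] [Algebra A B]

/-- The canonical map from the henselized polynomial ring attached to a tuple of elements. -/
noncomputable def psi (hB : HenselianRing B (I.map (algebraMap A B))) (n : ℕ) (f : Fin n → B) :
    HPoly A I n →ₐ[A] B :=
  Classical.choose (exists_psi (hPoly_isH A I n) hB f)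

theorem psi_spec (hB : HenselianRing B (I.map (algebraMap A B))) (n : ℕ) (f : Fin n → B)
    (p : MvPolynomial (Fin n) A) :
    psi hB n f (algebraMap (MvPolynomial (Fin n) A) (HPoly A I n) p) = MvPolynomial.aeval f p :=
  Classical.choose_spec (exists_psi (hPoly_isH A I n) hB f) p

theorem psi_X (hB : HenselianRing B (I.map (algebraMap A B))) (n : ℕ) (f : Fin n → B) (i : Fin n) :
    psi hB n f (algebraMap (MvPolynomial (Fin n) A) (HPoly A I n) (MvPolynomial.X i)) = f i := by
  rw [psi_spec, MvPolynomial.aeval_X]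

theorem range_le (hB : HenselianRing B (I.map (algebraMap A B))) {n m : ℕ} (f : Fin n → B)
    (g : Fin m → B) (hfg : ∀ i, ∃ j, g j = f i) : (psi hB n f).range ≤ (psi hB m g).range := by
  choose σ hσ using hfg
  have hm : HenselianRing (HPoly A I m) (I.map (algebraMap A (HPoly A I m))) :=
    henselian_poly (hPoly_isH A I m)
  obtain ⟨θ, hθ⟩ := exists_psi (hPoly_isH A I n) hm
    (fun i => algebraMap (MvPolynomial (Fin m) A) (HPoly A I m) (MvPolynomial.X (σ i)))
  have key : psi hB n f = (psi hB m g).comp θ := by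
    refine algHom_ext_poly (hPoly_isH A I n) hB (fun i => ?_)
    rw [psi_X, AlgHom.comp_apply, hθ, MvPolynomial.aeval_X, psi_X, hσ]
  rw [key]
  exact AlgHom.range_comp_le_range θ (psi hB m g)

end Models


section Step1

variable {A : Type u} [CommRing A] {I : Ideal A} {B : Type u} [CommRing B] [Algebra A B]

/-- enumeration of a finite subset -/
noncomputable def fS (S : Finset B) : Fin S.card → B := fun i => (S.equivFin.symm i : B)

theorem fS_mem (S : Finset B) (i : Fin S.card) : fS S i ∈ S := (S.equivFin.symm i).2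

theorem exists_fS (S : Finset B) {b : B} (hb : b ∈ S) : ∃ i, fS S i = b :=
  ⟨S.equivFin ⟨b, hb⟩, by simp [fS]⟩

/-- the henselian subalgebra generated by a finite subset -/
noncomputable def US (hB : HenselianRing B (I.map (algebraMap A B))) (S : Finset B) :
    Subalgebra A B := (psi hB S.card (fS S)).range

theorem US_mono (hB : HenselianRing B (I.map (algebraMap A B))) {S S' : Finset B} (h : S ≤ S') :
    US hB S ≤ US hB S' := by
  refine range_le hB _ _ (fun i => ?_)
  exact exists_fS S' (h (fS_mem S i))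

theorem mem_US (hB : HenselianRing B (I.map (algebraMap A B))) {S : Finset B} {b : B}
    (hb : b ∈ S) : b ∈ US hB S := by
  obtain ⟨i, hi⟩ := exists_fS S hb
  exact ⟨algebraMap (MvPolynomial (Fin S.card) A) (HPoly A I S.card) (MvPolynomial.X i), by
    rw [← hi]; exact psi_X hB _ _ i⟩

theorem henselian_US (hB : HenselianRing B (I.map (algebraMap A B))) (S : Finset B) :
    HenselianRing (US hB S) (I.map (algebraMap A (US hB S))) := by
  have h1 : HenselianRing (HPoly A I S.card) (I.map (algebraMap A (HPoly A I S.card))) :=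
    henselian_poly (hPoly_isH A I S.card)
  have h2 := henselian_of_surjective (psi hB S.card (fS S)).rangeRestrict.toRingHom
    (psi hB S.card (fS S)).rangeRestrict_surjective h1
  have h3 : (I.map (algebraMap A (HPoly A I S.card))).map
      (psi hB S.card (fS S)).rangeRestrict.toRingHom = I.map (algebraMap A (US hB S)) := by
    rw [Ideal.map_map]
    congr 1
    exact RingHom.ext fun a => (psi hB S.card (fS S)).rangeRestrict.commutes a
  rwa [h3] at h2

theorem exists_surj (hB : HenselianRing B (I.map (algebraMap A B))) (h : Compact A I B) :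
    ∃ (n : ℕ) (f : Fin n → B), Function.Surjective (psi hB n f) := by
  classical
  haveI : ∀ S : Finset B, HenselianRing (US hB S) (I.map (algebraMap A (US hB S))) :=
    fun S => henselian_US hB S
  let t : ∀ S S' : Finset B, S ≤ S' → (US hB S →+* US hB S') :=
    fun S S' hSS' => (Subalgebra.inclusion (US_mono hB hSS')).toRingHom
  haveI : DirectedSystem (fun S : Finset B => US hB S) (fun a b hab => t a b hab) :=
    { map_self := fun S x => by
        apply Subtype.ext
        rfl
      map_map := fun S₁ S₂ S₃ h₁ h₂ x => by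
        apply Subtype.ext
        rfl }
  obtain ⟨S, φ, hφ⟩ := exists_retract (I := I) h (fun S : Finset B => US hB S) t
    (fun a b hab => by
      refine RingHom.ext fun x => ?_
      apply Subtype.ext
      rfl)
    (fun S => (US hB S).val) (fun a b hab x => rfl)
    (fun b => ⟨{b}, ⟨b, mem_US hB (Finset.mem_singleton_self b)⟩, rfl⟩)
    (fun a x hx => ⟨a, le_rfl, by
      have hx0 : x = 0 := Subtype.ext hx
      rw [hx0, map_zero]⟩)
  refine ⟨S.card, fS S, fun b => ?_⟩
  have hb : b ∈ US hB S := by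
    have := hφ b
    rw [← this]
    exact (φ b).2
  exact hb

end Step1


section Step2

variable {A : Type u} [CommRing A] {I : Ideal A} {B : Type u} [CommRing B] [Algebra A B]
  {n : ℕ} {P : Type u} [CommRing P] [Algebra (MvPolynomial (Fin n) A) P] [Algebra A P]
  [IsScalarTower A (MvPolynomial (Fin n) A) P]

/-- the ideal generated by a finite subset of the kernel -/
def Jd (ψ : P →ₐ[A] B) (T : Finset (RingHom.ker ψ)) : Ideal P :=
  Ideal.span ((fun x : RingHom.ker ψ => (x : P)) '' (T : Set (RingHom.ker ψ)))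

theorem Jd_le_ker (ψ : P →ₐ[A] B) (T : Finset (RingHom.ker ψ)) : Jd ψ T ≤ RingHom.ker ψ := by
  rw [Jd, Ideal.span_le]
  rintro _ ⟨x, -, rfl⟩
  exact x.2

theorem Jd_mono (ψ : P →ₐ[A] B) {T T' : Finset (RingHom.ker ψ)} (h : T ≤ T') :
    Jd ψ T ≤ Jd ψ T' :=
  Ideal.span_mono (Set.image_mono (Finset.coe_subset.2 h))

theorem mem_Jd (ψ : P →ₐ[A] B) {T : Finset (RingHom.ker ψ)} {x : RingHom.ker ψ} (hx : x ∈ T) :
    (x : P) ∈ Jd ψ T :=
  Ideal.subset_span ⟨x, Finset.mem_coe.2 hx, rfl⟩

theorem Jd_fg (ψ : P →ₐ[A] B) (T : Finset (RingHom.ker ψ)) : (Jd ψ T).FG :=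
  Submodule.fg_span (Set.Finite.image _ T.finite_toSet)

theorem henselian_quot (hPI : HenselianRing P (I.map (algebraMap A P))) (K : Ideal P) :
    HenselianRing (P ⧸ K) (I.map (algebraMap A (P ⧸ K))) := by
  have h1 := HenselQuotLead.henselian_map_mk hPI K
  rwa [Ideal.map_map] at h1

/-- transition maps of the system of quotients -/
def td (ψ : P →ₐ[A] B) (T T' : Finset (RingHom.ker ψ)) (hTT' : T ≤ T') :
    (P ⧸ Jd ψ T) →+* (P ⧸ Jd ψ T') :=
  Ideal.Quotient.factor (Jd_mono ψ hTT')

theorem td_mk (ψ : P →ₐ[A] B) (T T' : Finset (RingHom.ker ψ)) (hTT' : T ≤ T') (p : P) :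
    td ψ T T' hTT' (Ideal.Quotient.mk _ p) = Ideal.Quotient.mk _ p := rfl

instance directedSystem_td (ψ : P →ₐ[A] B) :
    DirectedSystem (fun T : Finset (RingHom.ker ψ) => P ⧸ Jd ψ T)
      (fun a b hab => td ψ a b hab) where
  map_self := fun T x => by
    obtain ⟨p, rfl⟩ := Ideal.Quotient.mk_surjective x
    exact td_mk ψ T T le_rfl p
  map_map := fun T₃ T₂ T₁ h₁ h₂ x => by
    obtain ⟨p, rfl⟩ := Ideal.Quotient.mk_surjective x
    show td ψ T₂ T₃ h₂ (td ψ T₁ T₂ h₁ _) = td ψ T₁ T₃ _ _
    rw [td_mk, td_mk, td_mk]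

/-- the structure maps to `B` -/
def lamd (ψ : P →ₐ[A] B) (T : Finset (RingHom.ker ψ)) : (P ⧸ Jd ψ T) →ₐ[A] B :=
  Ideal.Quotient.liftₐ (Jd ψ T) ψ (fun p hp => RingHom.mem_ker.1 (Jd_le_ker ψ T hp))

theorem lamd_mk (ψ : P →ₐ[A] B) (T : Finset (RingHom.ker ψ)) (p : P) :
    lamd ψ T (Ideal.Quotient.mk _ p) = ψ p := rfl

theorem td_comp_algebraMap (ψ : P →ₐ[A] B) (T T' : Finset (RingHom.ker ψ)) (hTT' : T ≤ T') :
    (td ψ T T' hTT').comp (algebraMap A (P ⧸ Jd ψ T)) = algebraMap A (P ⧸ Jd ψ T') := by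
  refine RingHom.ext fun x => ?_
  show td ψ T T' hTT' (Ideal.Quotient.mk _ (algebraMap A P x)) = Ideal.Quotient.mk _ (algebraMap A P x)
  rw [td_mk]

theorem lamd_td (ψ : P →ₐ[A] B) (T T' : Finset (RingHom.ker ψ)) (hTT' : T ≤ T')
    (x : P ⧸ Jd ψ T) : lamd ψ T' (td ψ T T' hTT' x) = lamd ψ T x := by
  obtain ⟨p, rfl⟩ := Ideal.Quotient.mk_surjective x
  rw [td_mk, lamd_mk, lamd_mk]

theorem lamd_surj (ψ : P →ₐ[A] B) (hψ : Function.Surjective ψ) (b : B) :
    ∃ (T : Finset (RingHom.ker ψ)) (x : P ⧸ Jd ψ T), lamd ψ T x = b := by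
  obtain ⟨p, rfl⟩ := hψ b
  exact ⟨∅, Ideal.Quotient.mk _ p, lamd_mk ψ ∅ p⟩

theorem lamd_inj (ψ : P →ₐ[A] B) (T : Finset (RingHom.ker ψ)) (x : P ⧸ Jd ψ T)
    (hx : lamd ψ T x = 0) : ∃ T', ∃ hTT' : T ≤ T', td ψ T T' hTT' x = 0 := by
  classical
  obtain ⟨p, rfl⟩ := Ideal.Quotient.mk_surjective x
  rw [lamd_mk] at hx
  have hp : p ∈ RingHom.ker ψ := RingHom.mem_ker.2 hx
  refine ⟨insert ⟨p, hp⟩ T, Finset.subset_insert _ _, ?_⟩
  rw [td_mk]
  exact Ideal.Quotient.eq_zero_iff_mem.2 (mem_Jd ψ (Finset.mem_insert_self _ _))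

theorem ker_fg
    (hP : Hens2.IsPairHenselization (MvPolynomial (Fin n) A)
      (I.map (algebraMap A (MvPolynomial (Fin n) A))) P)
    (h : Compact A I B) (ψ : P →ₐ[A] B) (hψ : Function.Surjective ψ) :
    (RingHom.ker ψ).FG := by
  classical
  have hPI := henselian_poly hP
  haveI : ∀ T : Finset (RingHom.ker ψ),
      HenselianRing (P ⧸ Jd ψ T) (I.map (algebraMap A (P ⧸ Jd ψ T))) :=
    fun T => henselian_quot hPI _
  obtain ⟨T, φ, hφ⟩ := exists_retract (I := I) h
    (fun T : Finset (RingHom.ker ψ) => P ⧸ Jd ψ T) (td ψ) (td_comp_algebraMap ψ)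
    (lamd ψ) (lamd_td ψ) (lamd_surj ψ hψ) (lamd_inj ψ)
  have hlam_mk : ∀ T (p : P), lamd ψ T (Ideal.Quotient.mk _ p) = ψ p := fun T p => rfl
  -- the variables and their corrections
  choose ℓ hℓ using fun i : Fin n => Ideal.Quotient.mk_surjective
    (φ (ψ (algebraMap (MvPolynomial (Fin n) A) P (MvPolynomial.X i))))
  obtain ⟨δ, hδdef⟩ : ∃ δ : Fin n → P,
      δ = fun i => algebraMap (MvPolynomial (Fin n) A) P (MvPolynomial.X i) - ℓ i := ⟨_, rfl⟩
  have hψℓ : ∀ i, ψ (ℓ i) = ψ (algebraMap (MvPolynomial (Fin n) A) P (MvPolynomial.X i)) := by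
    intro i
    rw [← hlam_mk T (ℓ i), hℓ i, hφ]
  have hδker : ∀ i, δ i ∈ RingHom.ker ψ := by
    intro i
    rw [RingHom.mem_ker, hδdef]
    show ψ (_ - _) = 0
    rw [map_sub, hψℓ, sub_self]
  obtain ⟨K', hK'⟩ : ∃ K' : Ideal P, K' = Jd ψ T ⊔ Ideal.span (Set.range δ) := ⟨_, rfl⟩
  have hK'fg : K'.FG := by
    rw [hK']
    exact Submodule.FG.sup (Jd_fg ψ T) (Submodule.fg_span (Set.finite_range δ))
  have hK'le : K' ≤ RingHom.ker ψ := by
    rw [hK']
    refine sup_le (Jd_le_ker ψ T) ?_
    rw [Ideal.span_le]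
    rintro _ ⟨i, rfl⟩
    exact hδker i
  have hJK : Jd ψ T ≤ K' := by rw [hK']; exact le_sup_left
  have hδK : ∀ i, δ i ∈ K' := fun i => by
    rw [hK']
    exact Ideal.mem_sup_right (Ideal.subset_span ⟨i, rfl⟩)
  have hQ' : HenselianRing (P ⧸ K') (I.map (algebraMap A (P ⧸ K'))) := henselian_quot hPI K'
  have key : Ideal.Quotient.mkₐ A K' = (Ideal.Quotient.factorₐ A hJK).comp (φ.comp ψ) := by
    refine algHom_ext_poly hP hQ' (fun i => ?_)
    rw [AlgHom.comp_apply, AlgHom.comp_apply, ← hℓ i]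
    show Ideal.Quotient.mk K' _ = Ideal.Quotient.mk K' (ℓ i)
    rw [Ideal.Quotient.eq]
    have := hδK i
    rw [hδdef] at this
    exact this
  have hle : RingHom.ker ψ ≤ K' := by
    intro p hp
    have h1 : Ideal.Quotient.mkₐ A K' p = 0 := by
      rw [key, AlgHom.comp_apply, AlgHom.comp_apply, RingHom.mem_ker.1 hp, map_zero, map_zero]
    exact Ideal.Quotient.eq_zero_iff_mem.1 h1
  rw [le_antisymm hle hK'le]
  exact hK'fg

end Step2

end Groth.Agent.Lib.HfpColimH5
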