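import Mathlib

/-!
# Auxiliary lemmas for h-finitely presented algebras with étale truncations (lead)

* `injective_of_surjective_of_isNilpotent_ker`: a surjection with nilpotent kernel from a formally
  unramified algebra onto a formally smooth algebra is injective.
* `mem_map_of_one_tmul_eq_zero`: `1 ⊗ r = 0` in `(A/I) ⊗ R` forces `r ∈ IR`.
* `ker_le_map_pow`: injectivity modulo `I` propagates to injectivity modulo `I ^ n` when the
  truncations are étale.
* `ker_eq_bot_of_flat`: a finitely generated kernel `K ≤ IH` of a surjection onto a flat algebra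
  vanishes when `IH` is in the Jacobson radical.
-/

set_option autoImplicit false
universe u

namespace Groth.Agent.Lib.HfpEtale

open TensorProduct

theorem injective_of_surjective_of_isNilpotent_ker {Λ S S' : Type u} [CommRing Λ] [CommRing S]
    [CommRing S'] [Algebra Λ S] [Algebra Λ S'] [Algebra.FormallyUnramified Λ S]
    [Algebra.FormallySmooth Λ S'] (π : S →ₐ[Λ] S') (hπ : Function.Surjective π)
    (hK : IsNilpotent (RingHom.ker (π : S →+* S'))) : Function.Injective π := by
  let θ : S' →ₐ[Λ] S := Algebra.FormallySmooth.liftOfSurjective (AlgHom.id Λ S') π hπ hK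
  have h1 : π.comp θ = AlgHom.id Λ S' :=
    Algebra.FormallySmooth.comp_liftOfSurjective (AlgHom.id Λ S') π hπ hK
  have h2 : θ.comp π = AlgHom.id Λ S := by
    apply Algebra.FormallyUnramified.lift_unique' π hK
    rw [← AlgHom.comp_assoc, h1, AlgHom.id_comp, AlgHom.comp_id]
  have h3 : ∀ z, θ (π z) = z := fun z => AlgHom.congr_fun h2 z
  intro x y hxy
  have h4 := congrArg θ hxy
  rwa [h3, h3] at h4

theorem mem_map_of_one_tmul_eq_zero {A R : Type u} [CommRing A] [CommRing R] [Algebra A R]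
    (I : Ideal A) (r : R) (h : (1 : A ⧸ I) ⊗ₜ[A] r = 0) : r ∈ I.map (algebraMap A R) := by
  have h1 := congrArg (TensorProduct.quotTensorEquivQuotSMul R I) h
  rw [map_zero, TensorProduct.quotTensorEquivQuotSMul_mk_one_tmul] at h1
  have h2 : r ∈ I • (⊤ : Submodule A R) := (Submodule.Quotient.mk_eq_zero _).1 h1
  rw [Ideal.smul_top_eq_map] at h2
  exact h2

theorem etale_quot_congr {A B : Type u} [CommRing A] [CommRing B] [Algebra A B] (J I : Ideal A)
    (h : J = I) (hJ : Algebra.Etale (A ⧸ J) (B ⧸ J.map (algebraMap A B))) :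
    Algebra.Etale (A ⧸ I) (B ⧸ I.map (algebraMap A B)) := by
  subst h; exact hJ

theorem ker_le_map_pow {A H B : Type u} [CommRing A] [CommRing H] [CommRing B] [Algebra A H]
    [Algebra A B] (I : Ideal A) (φ : H →ₐ[A] B) (hφ : Function.Surjective φ)
    (h1 : ∀ x : H, φ x ∈ I.map (algebraMap A B) → x ∈ I.map (algebraMap A H))
    (n : ℕ) (hn : 1 ≤ n)
    [Algebra.FormallyUnramified (A ⧸ I ^ n) (H ⧸ (I ^ n).map (algebraMap A H))]
    [Algebra.FormallySmooth (A ⧸ I ^ n) (B ⧸ (I ^ n).map (algebraMap A B))] :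
    RingHom.ker φ ≤ (I ^ n).map (algebraMap A H) := by
  have hJJ' : (I ^ n).map (algebraMap A H) ≤
      ((I ^ n).map (algebraMap A B)).comap (φ : H →+* B) := by
    rw [Ideal.map_le_iff_le_comap]
    intro a ha
    rw [Ideal.mem_comap, Ideal.mem_comap]
    show φ (algebraMap A H a) ∈ _
    rw [φ.commutes]
    exact Ideal.mem_map_of_mem _ ha
  let ψ : (H ⧸ (I ^ n).map (algebraMap A H)) →+* (B ⧸ (I ^ n).map (algebraMap A B)) :=
    Ideal.quotientMap _ (φ : H →+* B) hJJ'
  have hψmk : ∀ x : H, ψ (Ideal.Quotient.mk _ x) = Ideal.Quotient.mk _ (φ x) :=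
    fun x => Ideal.quotientMap_mk
  have hcomm : ∀ x : A ⧸ I ^ n,
      ψ (algebraMap (A ⧸ I ^ n) (H ⧸ (I ^ n).map (algebraMap A H)) x)
      = algebraMap (A ⧸ I ^ n) (B ⧸ (I ^ n).map (algebraMap A B)) x := by
    intro x
    obtain ⟨a, rfl⟩ := Ideal.Quotient.mk_surjective x
    show ψ (Ideal.Quotient.mk _ (algebraMap A H a)) = Ideal.Quotient.mk _ (algebraMap A B a)
    rw [hψmk, φ.commutes]
  let π : (H ⧸ (I ^ n).map (algebraMap A H)) →ₐ[A ⧸ I ^ n] (B ⧸ (I ^ n).map (algebraMap A B)) :=
    { ψ with commutes' := hcomm }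
  have hπψ : ∀ y, π y = ψ y := fun _ => rfl
  have hπs : Function.Surjective π := by
    intro w
    obtain ⟨b, rfl⟩ := Ideal.Quotient.mk_surjective w
    obtain ⟨x, rfl⟩ := hφ b
    exact ⟨Ideal.Quotient.mk _ x, by rw [hπψ, hψmk]⟩
  have hpowle : I ^ n ≤ I := Ideal.pow_le_self (by omega)
  have hK : IsNilpotent (RingHom.ker (π : (H ⧸ (I ^ n).map (algebraMap A H)) →+*
      (B ⧸ (I ^ n).map (algebraMap A B)))) := by
    have hle : RingHom.ker (π : (H ⧸ (I ^ n).map (algebraMap A H)) →+*
        (B ⧸ (I ^ n).map (algebraMap A B)))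
        ≤ (I.map (algebraMap A H)).map (Ideal.Quotient.mk ((I ^ n).map (algebraMap A H))) := by
      intro y hy
      obtain ⟨x, rfl⟩ := Ideal.Quotient.mk_surjective y
      have hy' : ψ (Ideal.Quotient.mk _ x) = 0 := RingHom.mem_ker.1 hy
      rw [hψmk, Ideal.Quotient.eq_zero_iff_mem] at hy'
      exact Ideal.mem_map_of_mem _ (h1 x (Ideal.map_mono hpowle hy'))
    refine ⟨n, ?_⟩
    rw [Ideal.zero_eq_bot, eq_bot_iff]
    refine (Ideal.pow_right_mono hle n).trans ?_
    rw [← Ideal.map_pow, ← Ideal.map_pow, Ideal.map_quotient_self]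
  have hinj : Function.Injective π := injective_of_surjective_of_isNilpotent_ker π hπs hK
  intro x hx
  have hx0 : φ x = 0 := RingHom.mem_ker.1 hx
  have h2 : π (Ideal.Quotient.mk _ x) = π 0 := by
    rw [hπψ, hπψ, hψmk, hx0, map_zero, map_zero]
  exact Ideal.Quotient.eq_zero_iff_mem.1 (hinj h2)

theorem ker_eq_bot_of_flat {A H B : Type u} [CommRing A] [CommRing H] [CommRing B] [Algebra A H]
    [Algebra A B] [Module.Flat A B] (I : Ideal A) (φ : H →ₐ[A] B) (hφ : Function.Surjective φ)
    (hfg : (RingHom.ker φ).FG) (hle : RingHom.ker φ ≤ I.map (algebraMap A H))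
    (hjac : I.map (algebraMap A H) ≤ Ideal.jacobson ⊥) : RingHom.ker φ = ⊥ := by
  have step : RingHom.ker φ ≤ (I.map (algebraMap A H)) • RingHom.ker φ := by
    intro x hx
    let Ka : Submodule A H := LinearMap.ker φ.toLinearMap
    have hxKa : x ∈ Ka := by
      have hx0 : φ x = 0 := RingHom.mem_ker.1 hx
      exact hx0
    have hinj : Function.Injective ((Ka.subtype).lTensor (A ⧸ I)) :=
      LinearMap.lTensor_injective_of_exact_of_flat φ.toLinearMap hφ Ka.subtype
        Ka.subtype_injective (LinearMap.exact_subtype_ker_map _) (A ⧸ I)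
    have hxI : x ∈ I • (⊤ : Submodule A H) := by
      rw [Ideal.smul_top_eq_map]; exact hle hx
    have h0 : (1 : A ⧸ I) ⊗ₜ[A] (⟨x, hxKa⟩ : Ka) = 0 := by
      apply hinj
      rw [map_zero, LinearMap.lTensor_tmul]
      apply (TensorProduct.quotTensorEquivQuotSMul H I).injective
      rw [map_zero]
      show (TensorProduct.quotTensorEquivQuotSMul H I) ((1 : A ⧸ I) ⊗ₜ[A] x) = 0
      rw [TensorProduct.quotTensorEquivQuotSMul_mk_one_tmul]
      exact (Submodule.Quotient.mk_eq_zero _).2 hxI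
    have h1 := congrArg (TensorProduct.quotTensorEquivQuotSMul Ka I) h0
    rw [map_zero, TensorProduct.quotTensorEquivQuotSMul_mk_one_tmul] at h1
    have h2 : (⟨x, hxKa⟩ : Ka) ∈ I • (⊤ : Submodule A Ka) :=
      (Submodule.Quotient.mk_eq_zero _).1 h1
    have h3 : x ∈ I • Ka := (Submodule.mem_smul_top_iff I Ka ⟨x, hxKa⟩).1 h2
    have h4 : I • Ka ≤ ((I.map (algebraMap A H)) • RingHom.ker φ).restrictScalars A := by
      rw [Submodule.smul_le]
      intro a ha k hk
      show a • k ∈ (I.map (algebraMap A H)) • RingHom.ker φ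
      rw [Algebra.smul_def a k]
      have hk0 : φ k = 0 := hk
      have hk' : k ∈ RingHom.ker φ := RingHom.mem_ker.2 hk0
      exact Submodule.smul_mem_smul (Ideal.mem_map_of_mem _ ha) hk'
    exact h4 h3
  exact Submodule.eq_bot_of_le_smul_of_le_jacobson_bot _ _ hfg step hjac

/-- transport of the universal property of a pair henselization along a ring isomorphism -/
theorem existsUnique_of_ringEquiv {R H B C : Type u} [CommRing R] [CommRing H] [CommRing B]
    [CommRing C] (ι : R →+* H) (e : H ≃+* B) (f : R →+* C)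
    (h : ∃! g : H →+* C, g.comp ι = f) :
    ∃! g : B →+* C, g.comp ((e : H →+* B).comp ι) = f := by
  obtain ⟨g', hg', hu⟩ := h
  refine ⟨g'.comp (e.symm : B →+* H), ?_, ?_⟩
  · show (g'.comp (e.symm : B →+* H)).comp ((e : H →+* B).comp ι) = f
    rw [← hg']
    ext r
    show g' (e.symm (e (ι r))) = g' (ι r)
    rw [RingEquiv.symm_apply_apply]
  · intro g₂ hg₂
    have h1 : g₂.comp (e : H →+* B) = g' := hu _ (by
      show (g₂.comp (e : H →+* B)).comp ι = f
      rw [RingHom.comp_assoc]; exact hg₂)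
    ext b
    show g₂ b = g' (e.symm b)
    rw [← h1]
    show g₂ b = g₂ (e (e.symm b))
    rw [RingEquiv.apply_symm_apply]

end Groth.Agent.Lib.HfpEtale
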