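import Mathlib
import Groth.Agent.Lib.EtNbhdSmoothLift_helper3

/-!
# Lifting idempotent matrices to étale neighbourhoods (helper6)

The affine scheme of idempotent `m × m` matrices is smooth; hence (by the lifting of sections of
smooth algebras to étale neighbourhoods) an idempotent matrix over `B ⧸ K` lifts to an idempotent
matrix over an étale neighbourhood of `(B, K)`.
-/

set_option autoImplicit false
set_option linter.style.haveILetI false
universe u

open MvPolynomial

namespace Groth.Agent.Lib.SyntLiftH6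

section IdemAlg

variable (B : Type u) [CommRing B] (m : ℕ)

/-- The relations `∑ⱼ X i j * X j k - X i k`. -/
noncomputable def idemRel (p : Fin m × Fin m) : MvPolynomial (Fin m × Fin m) B :=
  (∑ j, X (p.1, j) * X (j, p.2)) - X p

/-- The coordinate ring of the scheme of idempotent matrices. -/
abbrev IdemAlg : Type u := MvPolynomial (Fin m × Fin m) B ⧸ Ideal.span (Set.range (idemRel B m))

variable {B m}

theorem idem_poly_identity {E : Type*} [Ring E] (a : E) :
    (3 • (a * a) - 2 • (a * a * a)) * (3 • (a * a) - 2 • (a * a * a)) -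
      (3 • (a * a) - 2 • (a * a * a)) =
    (a * a - a) * (a * a - a) * (4 • (a * a) - 4 • a - 3) := by
  noncomm_ring

theorem matrix_mul_eq_zero_of_sq_zero {C : Type u} [CommRing C] (I : Ideal C) (hI : I ^ 2 = ⊥)
    (x y : Matrix (Fin m) (Fin m) C) (hx : ∀ i j, x i j ∈ I) (hy : ∀ i j, y i j ∈ I) :
    x * y = 0 := by
  ext i k
  rw [Matrix.mul_apply, Matrix.zero_apply]
  have : ∑ j, x i j * y j k ∈ I ^ 2 := by
    refine Ideal.sum_mem _ fun j _ => ?_
    rw [pow_two]
    exact Ideal.mul_mem_mul (hx i j) (hy j k)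
  rw [hI] at this
  exact this

variable (B m) in
/-- the tautological matrix over `IdemAlg`. -/
noncomputable def idemGen : Matrix (Fin m) (Fin m) (IdemAlg B m) :=
  fun i j => Ideal.Quotient.mk _ (X (i, j))

theorem idemGen_mul_self : idemGen B m * idemGen B m = idemGen B m := by
  ext i k
  rw [Matrix.mul_apply]
  show ∑ j, Ideal.Quotient.mk _ (X (i, j)) * Ideal.Quotient.mk _ (X (j, k)) =
    Ideal.Quotient.mk _ (X (i, k))
  rw [← sub_eq_zero]
  simp only [← map_mul, ← map_sum, ← map_sub]
  rw [Ideal.Quotient.eq_zero_iff_mem]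
  exact Ideal.subset_span ⟨(i, k), rfl⟩

variable (B) in
/-- maps out of `IdemAlg` are idempotent matrices. -/
noncomputable def idemLift {C : Type u} [CommRing C] [Algebra B C] (e : Matrix (Fin m) (Fin m) C)
    (he : e * e = e) : IdemAlg B m →ₐ[B] C :=
  Ideal.Quotient.liftₐ _ (aeval (fun p : Fin m × Fin m => e p.1 p.2)) (by
    intro a ha
    have hle : Ideal.span (Set.range (idemRel B m)) ≤
        RingHom.ker (aeval (fun p : Fin m × Fin m => e p.1 p.2) :
          MvPolynomial (Fin m × Fin m) B →ₐ[B] C).toRingHom := by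
      rw [Ideal.span_le]
      rintro _ ⟨p, rfl⟩
      show aeval (fun p : Fin m × Fin m => e p.1 p.2) (idemRel B m p) = 0
      unfold idemRel
      simp only [map_sub, map_sum, map_mul, aeval_X]
      rw [sub_eq_zero]
      have := congrFun (congrFun he p.1) p.2
      rw [Matrix.mul_apply] at this
      exact this
    exact hle ha)

theorem idemLift_gen {C : Type u} [CommRing C] [Algebra B C] (e : Matrix (Fin m) (Fin m) C)
    (he : e * e = e) (i j : Fin m) : idemLift B e he (idemGen B m i j) = e i j := by
  show Ideal.Quotient.liftₐ _ _ _ (Ideal.Quotient.mk _ (X (i, j))) = _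
  rw [Ideal.Quotient.liftₐ_apply, Ideal.Quotient.lift_mk]
  show aeval (fun p : Fin m × Fin m => e p.1 p.2) (X (i, j)) = _
  rw [aeval_X]

theorem idemAlg_hom_ext {C : Type u} [CommRing C] [Algebra B C] (f g : IdemAlg B m →ₐ[B] C)
    (h : ∀ i j, f (idemGen B m i j) = g (idemGen B m i j)) : f = g := by
  apply Ideal.Quotient.algHom_ext
  apply MvPolynomial.algHom_ext
  rintro ⟨i, j⟩
  exact h i j

instance : Algebra.FormallySmooth B (IdemAlg B m) := by
  refine Algebra.FormallySmooth.of_comp_surjective ?_
  intro C _ _ I hI f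
  classical
  -- the idempotent matrix over `C ⧸ I`
  let ebar : Matrix (Fin m) (Fin m) (C ⧸ I) := fun i j => f (idemGen B m i j)
  have hebar : ebar * ebar = ebar := by
    have h1 : ebar = (f : IdemAlg B m →+* C ⧸ I).mapMatrix (idemGen B m) := by
      ext i j; rfl
    rw [h1, ← map_mul, idemGen_mul_self]
  -- lift the entries
  choose a ha using fun p : Fin m × Fin m => Ideal.Quotient.mk_surjective (ebar p.1 p.2)
  let A : Matrix (Fin m) (Fin m) C := fun i j => a (i, j)
  have hA : (Ideal.Quotient.mk I).mapMatrix A = ebar := by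
    ext i j
    exact ha (i, j)
  let e : Matrix (Fin m) (Fin m) C := 3 • (A * A) - 2 • (A * A * A)
  have hAA : ∀ i j, (A * A - A) i j ∈ I := by
    intro i j
    rw [← Ideal.Quotient.eq_zero_iff_mem]
    have : (Ideal.Quotient.mk I).mapMatrix (A * A - A) = 0 := by
      rw [map_sub, map_mul, hA, hebar, sub_self]
    exact congrFun (congrFun this i) j
  have he : e * e = e := by
    rw [← sub_eq_zero]
    show (3 • (A * A) - 2 • (A * A * A)) * (3 • (A * A) - 2 • (A * A * A)) -
      (3 • (A * A) - 2 • (A * A * A)) = 0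
    rw [idem_poly_identity, matrix_mul_eq_zero_of_sq_zero I hI _ _ hAA hAA, zero_mul]
  have hemap : (Ideal.Quotient.mk I).mapMatrix e = ebar := by
    show (Ideal.Quotient.mk I).mapMatrix (3 • (A * A) - 2 • (A * A * A)) = ebar
    simp only [map_sub, map_nsmul, map_mul, hA, hebar]
    rw [show (3 : ℕ) • ebar = 2 • ebar + ebar by
      rw [show (3 : ℕ) = 2 + 1 by norm_num, add_smul, one_smul]]
    abel
  refine ⟨idemLift B e he, ?_⟩
  apply idemAlg_hom_ext
  intro i j
  show Ideal.Quotient.mkₐ B I (idemLift B e he (idemGen B m i j)) = f (idemGen B m i j)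
  rw [idemLift_gen]
  exact congrFun (congrFun hemap i) j

instance : Algebra.FinitePresentation B (IdemAlg B m) :=
  Algebra.FinitePresentation.quotient (Submodule.fg_span (Set.finite_range _))

instance : Algebra.Smooth B (IdemAlg B m) := ⟨inferInstance, inferInstance⟩

end IdemAlg

/-- **Lifting idempotent matrices to an étale neighbourhood.** -/
theorem exists_etale_idem_matrix {B : Type u} [CommRing B] (K : Ideal B) (m : ℕ)
    (ebar : Matrix (Fin m) (Fin m) (B ⧸ K)) (he : ebar * ebar = ebar) :
    ∃ (B' : Type u) (_ : CommRing B') (_ : Algebra B B'), Algebra.Etale B B' ∧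
      Function.Bijective (algebraMap (B ⧸ K) (B' ⧸ K.map (algebraMap B B'))) ∧
      ∃ e : Matrix (Fin m) (Fin m) B', e * e = e ∧
        ∀ i j, Ideal.Quotient.mk (K.map (algebraMap B B')) (e i j) =
          algebraMap (B ⧸ K) (B' ⧸ K.map (algebraMap B B')) (ebar i j) := by
  obtain ⟨B', i1, i2, hE, hbij, τ, hτ⟩ :=
    Groth.Agent.Lib.EtNbhdSmoothLiftH3.main2043 (A := B) (B := IdemAlg B m) K
      (idemLift B ebar he)
  refine ⟨B', i1, i2, hE, hbij, fun i j => τ (idemGen B m i j), ?_, ?_⟩
  · have h1 : (fun i j => τ (idemGen B m i j)) =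
        (τ : IdemAlg B m →+* B').mapMatrix (idemGen B m) := rfl
    rw [h1, ← map_mul, idemGen_mul_self]
  · intro i j
    rw [hτ, idemLift_gen]

end Groth.Agent.Lib.SyntLiftH6
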