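import Mathlib

/-!
# Lifting syntomic algebras (helper6), part 2: the projector matrix of a projective conormal module
-/

set_option autoImplicit false
set_option linter.style.haveILetI false
universe u

namespace Groth.Agent.Lib.SyntLiftH6

section LemmaB

variable {P₀ : Type u} [CommRing P₀] (J₀ : Ideal P₀) {m : ℕ} (f : Fin m → P₀)

/-- **Lemma B.** If `J₀ = (f₁, …, f_m)` has projective conormal module, there is a matrix `E₀` that is
idempotent modulo `J₀`, fixes the classes of the `f_i` in `J₀/J₀²`, and kills the relations. -/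
theorem exists_projector_matrix (hf : Ideal.span (Set.range f) = J₀)
    [Module.Projective (P₀ ⧸ J₀) J₀.Cotangent] :
    ∃ E₀ : Matrix (Fin m) (Fin m) P₀,
      (∀ i k, (E₀ * E₀) i k - E₀ i k ∈ J₀) ∧
      (∀ k, ∑ i, f i * E₀ i k - f k ∈ J₀ ^ 2) ∧
      (∀ v : Fin m → P₀, ∑ i, f i * v i ∈ J₀ ^ 2 → ∀ i, ∑ k, E₀ i k * v k ∈ J₀) := by
  classical
  have hfmem : ∀ i, f i ∈ J₀ := fun i => by
    rw [← hf]; exact Ideal.subset_span ⟨i, rfl⟩
  let fJ : Fin m → J₀ := fun i => ⟨f i, hfmem i⟩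
  -- the presentation of the cotangent module
  let π : (Fin m → P₀ ⧸ J₀) →ₗ[P₀ ⧸ J₀] J₀.Cotangent :=
    Fintype.linearCombination (P₀ ⧸ J₀) (fun i => J₀.toCotangent (fJ i))
  have hπ : ∀ v : Fin m → P₀ ⧸ J₀, π v = ∑ i, v i • J₀.toCotangent (fJ i) := fun v =>
    Fintype.linearCombination_apply _ _ _
  have hπmk : ∀ v : Fin m → P₀, π (fun i => Ideal.Quotient.mk J₀ (v i)) =
      J₀.toCotangent (∑ i, v i • fJ i) := by
    intro v
    rw [hπ, map_sum]
    refine Finset.sum_congr rfl fun i _ => ?_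
    rw [map_smul, ← Ideal.Quotient.algebraMap_eq, algebraMap_smul]
  have hcoe : ∀ v : Fin m → P₀, ((∑ i, v i • fJ i : J₀) : P₀) = ∑ i, f i * v i := by
    intro v
    rw [Submodule.coe_sum]
    refine Finset.sum_congr rfl fun i _ => ?_
    rw [Submodule.coe_smul, smul_eq_mul, mul_comm]
  have hπsurj : Function.Surjective π := by
    intro c
    obtain ⟨x, rfl⟩ := J₀.toCotangent_surjective c
    have hx : (x : P₀) ∈ Ideal.span (Set.range f) := by rw [hf]; exact x.2
    obtain ⟨c, hc⟩ := Ideal.mem_span_range_iff_exists_fun.mp hx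
    refine ⟨fun i => Ideal.Quotient.mk J₀ (c i), ?_⟩
    rw [hπmk]
    congr 1
    apply Subtype.ext
    rw [hcoe, ← hc]
    exact Finset.sum_congr rfl fun i _ => mul_comm _ _
  obtain ⟨σ, hσ⟩ := Module.projective_lifting_property π LinearMap.id hπsurj
  have hσ' : ∀ c, π (σ c) = c := fun c => LinearMap.congr_fun hσ c
  -- the matrix over the quotient
  let Eb : Fin m → Fin m → P₀ ⧸ J₀ := fun i k => σ (π (Pi.single k 1)) i
  have hEb : ∀ (v : Fin m → P₀ ⧸ J₀) (i : Fin m), σ (π v) i = ∑ k, Eb i k * v k := by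
    intro v i
    have hv : v = ∑ k, v k • (Pi.single k 1 : Fin m → P₀ ⧸ J₀) := by
      ext l
      rw [Finset.sum_apply, Finset.sum_eq_single l]
      · rw [Pi.smul_apply, Pi.single_eq_same, smul_eq_mul, mul_one]
      · intro b _ hb
        rw [Pi.smul_apply, Pi.single_eq_of_ne (Ne.symm hb), smul_zero]
      · intro h; exact absurd (Finset.mem_univ l) h
    conv_lhs => rw [hv]
    rw [map_sum, map_sum, Finset.sum_apply]
    refine Finset.sum_congr rfl fun k _ => ?_
    rw [map_smul, map_smul, Pi.smul_apply, smul_eq_mul, mul_comm]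
  choose E₀ hE₀ using fun i k => Ideal.Quotient.mk_surjective (Eb i k)
  refine ⟨Matrix.of E₀, ?_, ?_, ?_⟩
  · intro i k
    rw [← Ideal.Quotient.eq, Matrix.mul_apply, map_sum]
    simp only [map_mul, Matrix.of_apply, hE₀]
    rw [← hEb (fun l => Eb l k) i]
    have h1 : (fun l => Eb l k) = σ (π (Pi.single k 1)) := rfl
    rw [h1, hσ']
  · intro k
    have h1 : π (σ (π (Pi.single k 1))) = π (Pi.single k 1) := hσ' _
    have h2 : σ (π (Pi.single k 1)) = fun i => Ideal.Quotient.mk J₀ (E₀ i k) := by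
      ext i; exact (hE₀ i k).symm
    have h3 : (Pi.single k 1 : Fin m → P₀ ⧸ J₀) =
        fun i => Ideal.Quotient.mk J₀ ((Pi.single k 1 : Fin m → P₀) i) := by
      ext i
      by_cases hik : i = k
      · subst hik; rw [Pi.single_eq_same, Pi.single_eq_same, map_one]
      · rw [Pi.single_eq_of_ne hik, Pi.single_eq_of_ne hik, map_zero]
    rw [h2, h3, hπmk, hπmk, Ideal.toCotangent_eq, hcoe, hcoe] at h1
    have h4 : ∑ i, f i * (Pi.single k 1 : Fin m → P₀) i = f k := by
      rw [Finset.sum_eq_single k]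
      · rw [Pi.single_eq_same, mul_one]
      · intro b _ hb; rw [Pi.single_eq_of_ne hb, mul_zero]
      · intro h; exact absurd (Finset.mem_univ k) h
    rw [h4] at h1
    exact h1
  · intro v hv i
    have h1 : π (fun i => Ideal.Quotient.mk J₀ (v i)) = 0 := by
      rw [hπmk, Ideal.toCotangent_eq_zero, hcoe]
      exact hv
    have h2 := hEb (fun i => Ideal.Quotient.mk J₀ (v i)) i
    rw [h1, map_zero, Pi.zero_apply] at h2
    rw [← Ideal.Quotient.eq_zero_iff_mem, map_sum]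
    simp only [map_mul, Matrix.of_apply, hE₀]
    exact h2.symm

end LemmaB

section LemmaB'

variable {B : Type u} [CommRing B] (𝔞 K : Ideal B) {m : ℕ} (w : Fin m → B)

/-- **Lemma B'.** The relative form: `𝔞 ≤ K = (w) + 𝔞` and `K/𝔞` has projective conormal module. -/
theorem exists_projector_matrix_rel (h𝔞K : 𝔞 ≤ K) (hw : K = Ideal.span (Set.range w) ⊔ 𝔞)
    [Module.Projective ((B ⧸ 𝔞) ⧸ K.map (Ideal.Quotient.mk 𝔞)) (K.map (Ideal.Quotient.mk 𝔞)).Cotangent] :
    ∃ E : Matrix (Fin m) (Fin m) B,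
      (∀ i k, (E * E) i k - E i k ∈ K) ∧
      (∀ k, ∑ i, w i * E i k - w k ∈ K ^ 2 ⊔ 𝔞) ∧
      (∀ v : Fin m → B, ∑ i, w i * v i ∈ K ^ 2 ⊔ 𝔞 → ∀ i, ∑ k, E i k * v k ∈ K) := by
  classical
  have hsurj : Function.Surjective (Ideal.Quotient.mk 𝔞) := Ideal.Quotient.mk_surjective
  have hspan : Ideal.span (Set.range (fun i => Ideal.Quotient.mk 𝔞 (w i))) =
      K.map (Ideal.Quotient.mk 𝔞) := by
    rw [hw, Ideal.map_sup, Ideal.map_span, ← Set.range_comp]
    have : Ideal.map (Ideal.Quotient.mk 𝔞) 𝔞 = ⊥ := Ideal.map_quotient_self 𝔞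
    rw [this, sup_bot_eq]
    rfl
  obtain ⟨E₀, h1, h2, h3⟩ := exists_projector_matrix (K.map (Ideal.Quotient.mk 𝔞))
    (fun i => Ideal.Quotient.mk 𝔞 (w i)) hspan
  have hK : ∀ x : B, Ideal.Quotient.mk 𝔞 x ∈ K.map (Ideal.Quotient.mk 𝔞) ↔ x ∈ K := by
    intro x
    rw [← Ideal.mem_comap, Ideal.comap_map_of_surjective _ hsurj, ← RingHom.ker_eq_comap_bot,
      Ideal.mk_ker, sup_eq_left.mpr h𝔞K]
  have hK2 : ∀ x : B, Ideal.Quotient.mk 𝔞 x ∈ K.map (Ideal.Quotient.mk 𝔞) ^ 2 ↔ x ∈ K ^ 2 ⊔ 𝔞 := by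
    intro x
    rw [← Ideal.map_pow, ← Ideal.mem_comap, Ideal.comap_map_of_surjective _ hsurj,
      ← RingHom.ker_eq_comap_bot, Ideal.mk_ker]
  choose E hE using fun i k => hsurj (E₀ i k)
  refine ⟨Matrix.of E, ?_, ?_, ?_⟩
  · intro i k
    rw [← hK, map_sub, Matrix.mul_apply, map_sum]
    simp only [map_mul, Matrix.of_apply, hE]
    have := h1 i k
    rw [Matrix.mul_apply] at this
    exact this
  · intro k
    rw [← hK2, map_sub, map_sum]
    simp only [map_mul, Matrix.of_apply, hE]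
    exact h2 k
  · intro v hv i
    rw [← hK, map_sum]
    simp only [map_mul, Matrix.of_apply, hE]
    refine h3 (fun k => Ideal.Quotient.mk 𝔞 (v k)) ?_ i
    have := (hK2 _).mpr hv
    rw [map_sum] at this
    simp only [map_mul] at this
    exact this

end LemmaB'

end Groth.Agent.Lib.SyntLiftH6
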