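import Mathlib
import Groth.Agent.Lib.SyntLift1_helper6
import Groth.Agent.Lib.SyntLift2_helper6

/-!
# Lifting syntomic algebras (helper6), part 3: the étale neighbourhood carrying the idempotent
-/

set_option autoImplicit false
set_option linter.style.haveILetI false
universe u

namespace Groth.Agent.Lib.SyntLiftH6

/-- Nakayama's lemma in the form `N ≤ N' ⊔ I • N`. -/
theorem nakayama_sup {A M : Type*} [CommRing A] [AddCommGroup M] [Module A M] (I : Ideal A)
    (N N' : Submodule A M) (hN : N.FG) (h : N ≤ N' ⊔ I • N) :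
    ∃ r : A, r - 1 ∈ I ∧ ∀ n ∈ N, r • n ∈ N' := by
  have h1 : N.map N'.mkQ ≤ I • N.map N'.mkQ := by
    rw [← Submodule.map_smul'']
    rintro _ ⟨n, hn, rfl⟩
    obtain ⟨n', hn', y, hy, rfl⟩ := Submodule.mem_sup.mp (h hn)
    refine ⟨y, hy, ?_⟩
    have h0 : N'.mkQ n' = 0 := (Submodule.Quotient.mk_eq_zero N').mpr hn'
    rw [map_add, h0, zero_add]
  obtain ⟨r, hr, hr'⟩ := Submodule.exists_sub_one_mem_and_smul_eq_zero_of_fg_of_le_smul I _
    (hN.map _) h1
  refine ⟨r, hr, fun n hn => ?_⟩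
  have := hr' (N'.mkQ n) ⟨n, hn, rfl⟩
  rw [← map_smul] at this
  exact (Submodule.Quotient.mk_eq_zero N').mp this

section Nbhd

variable {B : Type u} [CommRing B] (𝔞 K : Ideal B) {m : ℕ} (w : Fin m → B)

/-- The relations modulo `𝔞` among the `w i` are killed by `e` modulo `K`, after a flat base change. -/
theorem relations_of_flat {B' : Type u} [CommRing B'] [Algebra B B'] [Module.Flat B B']
    (E : Matrix (Fin m) (Fin m) B)
    (hE3 : ∀ v : Fin m → B, ∑ i, w i * v i ∈ 𝔞 → ∀ i, ∑ k, E i k * v k ∈ K)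
    (e : Matrix (Fin m) (Fin m) B')
    (he : ∀ i k, e i k - algebraMap B B' (E i k) ∈ K.map (algebraMap B B'))
    (v : Fin m → B') (hv : ∑ i, algebraMap B B' (w i) * v i ∈ 𝔞.map (algebraMap B B')) (i : Fin m) :
    ∑ k, e i k * v k ∈ K.map (algebraMap B B') := by
  classical
  obtain ⟨n, β, α, hsum⟩ := Submodule.mem_span_set'.mp hv
  choose a ha using fun j => (α j).2
  -- the relation
  let F : Fin m ⊕ Fin n → B := Sum.elim w a
  let X : Fin m ⊕ Fin n → B' := Sum.elim v (fun j => - β j)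
  have hrel : ∑ s, F s • X s = 0 := by
    rw [Fintype.sum_sum_type]
    simp only [F, X, Sum.elim_inl, Sum.elim_inr, Algebra.smul_def]
    have h2 : ∑ j, algebraMap B B' (a j) * -β j = - ∑ j, β j • (α j : B') := by
      rw [← Finset.sum_neg_distrib]
      refine Finset.sum_congr rfl fun j _ => ?_
      rw [(ha j).2, smul_eq_mul]; ring
    rw [h2, hsum, add_neg_cancel]
  obtain ⟨k, c, y, hxy, hc⟩ :=
    Module.Flat.isTrivialRelation_of_sum_smul_eq_zero (R := B) (M := B') (f := F) (x := X) hrel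
  have hrelk : ∀ l, ∑ i, w i * c (Sum.inl i) l ∈ 𝔞 := by
    intro l
    have := hc l
    rw [Fintype.sum_sum_type] at this
    simp only [F, Sum.elim_inl, Sum.elim_inr] at this
    rw [add_eq_zero_iff_eq_neg] at this
    rw [this]
    refine 𝔞.neg_mem (Ideal.sum_mem _ fun j _ => Ideal.mul_mem_right _ _ (ha j).1)
  have hv' : ∀ k', v k' = ∑ l, algebraMap B B' (c (Sum.inl k') l) * y l := by
    intro k'
    have := hxy (Sum.inl k')
    simp only [X, Sum.elim_inl, Algebra.smul_def] at this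
    exact this
  -- replace `e` by `E`
  have h1 : ∑ k', e i k' * v k' - ∑ k', algebraMap B B' (E i k') * v k' ∈
      K.map (algebraMap B B') := by
    rw [← Finset.sum_sub_distrib]
    refine Ideal.sum_mem _ fun k' _ => ?_
    rw [← sub_mul]
    exact Ideal.mul_mem_right _ _ (he i k')
  have h2 : ∑ k', algebraMap B B' (E i k') * v k' =
      ∑ l, algebraMap B B' (∑ k', E i k' * c (Sum.inl k') l) * y l := by
    simp only [hv', Finset.mul_sum, map_sum, map_mul, Finset.sum_mul]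
    rw [Finset.sum_comm]
    refine Finset.sum_congr rfl fun l _ => Finset.sum_congr rfl fun k' _ => ?_
    ring
  have h3 : ∑ k', algebraMap B B' (E i k') * v k' ∈ K.map (algebraMap B B') := by
    rw [h2]
    refine Ideal.sum_mem _ fun l _ => Ideal.mul_mem_right _ _ (Ideal.mem_map_of_mem _ ?_)
    exact hE3 (fun k' => c (Sum.inl k') l) (hrelk l) i
  have := Ideal.add_mem _ h1 h3
  rwa [sub_add_cancel] at this

/-- **The étale neighbourhood.** -/
theorem exists_nbhd (h𝔞K : 𝔞 ≤ K) (hw : K = Ideal.span (Set.range w) ⊔ 𝔞)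
    (E : Matrix (Fin m) (Fin m) B)
    (hE1 : ∀ i k, (E * E) i k - E i k ∈ K)
    (hE2 : ∀ k, ∑ i, w i * E i k - w k ∈ K ^ 2 ⊔ 𝔞)
    (hE3 : ∀ v : Fin m → B, ∑ i, w i * v i ∈ K ^ 2 ⊔ 𝔞 → ∀ i, ∑ k, E i k * v k ∈ K) :
    ∃ (B' : Type u) (_ : CommRing B') (_ : Algebra B B'), Algebra.Etale B B' ∧
      Function.Bijective (algebraMap (B ⧸ K) (B' ⧸ K.map (algebraMap B B'))) ∧
      ∃ (e : Matrix (Fin m) (Fin m) B') (h₀ : B'), e * e = e ∧
        (∀ v : Fin m → B', ∑ i, algebraMap B B' (w i) * v i ∈ 𝔞.map (algebraMap B B') →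
          ∀ i, ∑ k, e i k * v k ∈ K.map (algebraMap B B')) ∧
        h₀ - 1 ∈ K.map (algebraMap B B') ∧
        ∀ i, h₀ * algebraMap B B' (w i) ∈
          Ideal.span (Set.range fun k => ∑ i, algebraMap B B' (w i) * e i k) ⊔
            𝔞.map (algebraMap B B') := by
  classical
  -- the idempotent over `B ⧸ K`
  have hebar : E.map (Ideal.Quotient.mk K) * E.map (Ideal.Quotient.mk K) =
      E.map (Ideal.Quotient.mk K) := by
    ext i k
    have h1 : (E.map (Ideal.Quotient.mk K) * E.map (Ideal.Quotient.mk K)) i k =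
        Ideal.Quotient.mk K ((E * E) i k) := by
      rw [Matrix.mul_apply, Matrix.mul_apply, map_sum]
      simp only [Matrix.map_apply, map_mul]
    rw [h1, Matrix.map_apply, Ideal.Quotient.eq]
    exact hE1 i k
  obtain ⟨B', i1, i2, hE, hbij, e, hee, hemk⟩ :=
    exists_etale_idem_matrix K m (E.map (Ideal.Quotient.mk K)) hebar
  haveI := hE
  haveI : Module.Flat B B' := inferInstance
  refine ⟨B', i1, i2, hE, hbij, e, ?_⟩
  have he : ∀ i k, e i k - algebraMap B B' (E i k) ∈ K.map (algebraMap B B') := by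
    intro i k
    rw [← Ideal.Quotient.eq, hemk i k]
    rfl
  have hN1 : ∀ v : Fin m → B', ∑ i, algebraMap B B' (w i) * v i ∈ 𝔞.map (algebraMap B B') →
      ∀ i, ∑ k, e i k * v k ∈ K.map (algebraMap B B') :=
    fun v hv i => relations_of_flat 𝔞 K w E
      (fun v hv => hE3 v (Ideal.mem_sup_right hv)) e he v hv i
  -- Nakayama
  set K' : Ideal B' := K.map (algebraMap B B') with hK'
  set 𝔞' : Ideal B' := 𝔞.map (algebraMap B B') with h𝔞'
  set J' : Ideal B' := Ideal.span (Set.range fun k => ∑ i, algebraMap B B' (w i) * e i k) with hJ'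
  obtain ⟨N, hN⟩ : ∃ N : Ideal B', N = Ideal.span (Set.range fun i => algebraMap B B' (w i)) :=
    ⟨_, rfl⟩
  have hK'eq : K' = N ⊔ 𝔞' := by
    rw [hK', hw, Ideal.map_sup, Ideal.map_span, ← Set.range_comp, hN]
    rfl
  have hwN : ∀ i, algebraMap B B' (w i) ∈ N := fun i => by
    rw [hN]; exact Ideal.subset_span ⟨i, rfl⟩
  have hKK : K' * K' ≤ K' * N ⊔ 𝔞' := by
    calc K' * K' = K' * (N ⊔ 𝔞') := by rw [← hK'eq]
      _ = K' * N ⊔ K' * 𝔞' := Ideal.mul_sup _ _ _
      _ ≤ K' * N ⊔ 𝔞' := sup_le_sup_left Ideal.mul_le_right _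
  have hmem : ∀ k, algebraMap B B' (w k) ∈ (J' ⊔ 𝔞') ⊔ K' • N := by
    intro k
    rw [smul_eq_mul]
    -- three pieces
    have p1 : ∑ i, algebraMap B B' (w i) * e i k ∈ J' := Ideal.subset_span ⟨k, rfl⟩
    have p2 : ∑ i, algebraMap B B' (w i) * e i k -
        ∑ i, algebraMap B B' (w i) * algebraMap B B' (E i k) ∈ K' * N := by
      rw [← Finset.sum_sub_distrib]
      refine Ideal.sum_mem _ fun i _ => ?_
      rw [← mul_sub, mul_comm (algebraMap B B' (w i))]
      exact Ideal.mul_mem_mul (he i k) (hwN i)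

    have p3 : ∑ i, algebraMap B B' (w i) * algebraMap B B' (E i k) - algebraMap B B' (w k) ∈
        K' * N ⊔ 𝔞' := by
      have h1 := Ideal.mem_map_of_mem (algebraMap B B') (hE2 k)
      rw [Ideal.map_sup, Ideal.map_pow, map_sub, map_sum] at h1
      simp only [map_mul] at h1
      rw [pow_two] at h1
      exact (sup_le hKK le_sup_right) h1
    have hdecomp : algebraMap B B' (w k) = ∑ i, algebraMap B B' (w i) * e i k -
        (∑ i, algebraMap B B' (w i) * e i k -
          ∑ i, algebraMap B B' (w i) * algebraMap B B' (E i k)) -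
        (∑ i, algebraMap B B' (w i) * algebraMap B B' (E i k) - algebraMap B B' (w k)) := by
      ring
    rw [hdecomp]
    refine Ideal.sub_mem _ (Ideal.sub_mem _ ?_ ?_) ?_
    · exact Ideal.mem_sup_left (Ideal.mem_sup_left p1)
    · exact Ideal.mem_sup_right p2
    · have hle : K' * N ⊔ 𝔞' ≤ (J' ⊔ 𝔞') ⊔ K' * N :=
        sup_le le_sup_right (le_sup_of_le_left le_sup_right)
      exact hle p3
  have hsub : N ≤ (J' ⊔ 𝔞') ⊔ K' • N := by
    conv_lhs => rw [hN]
    rw [Ideal.span_le]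
    rintro _ ⟨k, rfl⟩
    exact hmem k
  have hNfg : (N : Submodule B' B').FG := by
    rw [hN]; exact Submodule.fg_span (Set.finite_range _)
  obtain ⟨h₀, hh₀, hh₀'⟩ := nakayama_sup K' N (J' ⊔ 𝔞') hNfg hsub
  refine ⟨h₀, hee, hN1, hh₀, fun i => ?_⟩
  have := hh₀' _ (hwN i)
  rwa [smul_eq_mul] at this

end Nbhd

end Groth.Agent.Lib.SyntLiftH6
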