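import Mathlib

/-!
# Lifting syntomic algebras (helper6), part 5: determinant trick and the local generators
-/

set_option autoImplicit false
set_option linter.style.haveILetI false
universe u

namespace Groth.Agent.Lib.SyntLiftH6

/-- determinant trick -/
theorem det_smul_mem {A M : Type*} [CommRing A] [AddCommGroup M] [Module A M] {p : ℕ}
    (x : Fin p → M) (N₀ : Submodule A M) (U : Matrix (Fin p) (Fin p) A)
    (hU : ∀ a, ∑ b, U a b • x b ∈ N₀) (a : Fin p) : U.det • x a ∈ N₀ := by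
  classical
  have h1 : U.det • x a = ∑ c, U.adjugate a c • ∑ b, U c b • x b := by
    have h2 : ∀ b, (U.adjugate * U) a b = ∑ c, U.adjugate a c * U c b := fun b =>
      Matrix.mul_apply
    simp only [Finset.smul_sum, smul_smul]
    rw [Finset.sum_comm]
    simp only [← Finset.sum_smul, ← h2, Matrix.adjugate_mul, Matrix.smul_apply, smul_eq_mul]
    rw [Finset.sum_eq_single a]
    · rw [Matrix.one_apply_eq, mul_one]
    · intro b _ hb
      rw [Matrix.one_apply_ne (Ne.symm hb), mul_zero, zero_smul]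
    · intro h; exact absurd (Finset.mem_univ a) h
  rw [h1]
  exact Submodule.sum_mem _ fun c _ => Submodule.smul_mem _ _ (hU c)

/-- the determinant of `u • 1 - κ` is `u ^ p` modulo the ideal of the entries of `κ` -/
theorem det_sub_pow_mem {A : Type*} [CommRing A] (𝔨 : Ideal A) {p : ℕ} (u : A)
    (κ : Matrix (Fin p) (Fin p) A) (hκ : ∀ a b, κ a b ∈ 𝔨) :
    (u • (1 : Matrix (Fin p) (Fin p) A) - κ).det - u ^ p ∈ 𝔨 := by
  classical
  rw [← Ideal.Quotient.eq, RingHom.map_det]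
  have h1 : (Ideal.Quotient.mk 𝔨).mapMatrix (u • (1 : Matrix (Fin p) (Fin p) A) - κ) =
      (Ideal.Quotient.mk 𝔨 u) • (1 : Matrix (Fin p) (Fin p) (A ⧸ 𝔨)) := by
    ext a b
    simp only [RingHom.mapMatrix_apply, Matrix.map_apply, Matrix.sub_apply, Matrix.smul_apply,
      map_sub, smul_eq_mul, map_mul]
    rw [Ideal.Quotient.eq_zero_iff_mem.mpr (hκ a b), sub_zero]
    by_cases hab : a = b
    · subst hab; rw [Matrix.one_apply_eq, Matrix.one_apply_eq, map_one]
    · rw [Matrix.one_apply_ne hab, Matrix.one_apply_ne hab, map_zero]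
  rw [h1, Matrix.det_smul, Matrix.det_one, mul_one, Fintype.card_fin, map_pow]

/-- **Local generators.** -/
theorem exists_local_generators {B' : Type u} [CommRing B'] (K' 𝔞' : Ideal B') {m : ℕ}
    (w' : Fin m → B') (e : Matrix (Fin m) (Fin m) B') (hee : e * e = e)
    (hK' : K' = Ideal.span (Set.range w') ⊔ 𝔞')
    (hN1 : ∀ v : Fin m → B', ∑ i, w' i * v i ∈ 𝔞' → ∀ i, ∑ k, e i k * v k ∈ K')
    (h₀ : B') (hN2 : ∀ i, h₀ * w' i ∈ Ideal.span (Set.range fun k => ∑ i, w' i * e i k) ⊔ 𝔞')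
    {r : ℕ} (jj : Fin r → B') (γ : B') (N : ℕ)
    (hG1 : ∀ i, ∃ V : Fin r → B', γ ^ N * w' i - ∑ k, V k * jj k ∈ 𝔞')
    (hG2 : ∀ k, jj k ∈ Ideal.span (Set.range w') ⊔ 𝔞') :
    ∃ (ν : Fin r → B') (h' : B'),
      (∀ k, ν k ∈ Ideal.span (Set.range fun k => ∑ i, w' i * e i k)) ∧
      (∀ k, ν k - h₀ * jj k ∈ 𝔞') ∧
      h' - (h₀ * γ ^ N) ^ m ∈ K' ∧
      ∀ k', h' * ∑ i, w' i * e i k' ∈ Ideal.span (Set.range ν) := by
  classical
  obtain ⟨c, hc⟩ : ∃ c : Fin m → B', c = fun k => ∑ i, w' i * e i k := ⟨_, rfl⟩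
  rw [← hc] at hN2 ⊢
  have hck : ∀ k, c k = ∑ i, w' i * e i k := fun k => by rw [hc]
  simp only [← hck]
  obtain ⟨J', hJ'⟩ : ∃ J' : Ideal B', J' = Ideal.span (Set.range c) := ⟨_, rfl⟩
  rw [← hJ'] at hN2 ⊢
  obtain ⟨u, hu⟩ : ∃ u : B', u = h₀ * γ ^ N := ⟨_, rfl⟩
  rw [← hu]
  -- the linear form `s`
  let s : (Fin m → B') →ₗ[B'] B' := Fintype.linearCombination B' w'
  have hs : ∀ v, s v = ∑ i, w' i * v i := fun v => by
    show Fintype.linearCombination B' w' v = _
    rw [Fintype.linearCombination_apply]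
    exact Finset.sum_congr rfl fun i _ => by rw [smul_eq_mul, mul_comm]
  have hF1 : ∀ v, s (e.mulVec v) = ∑ k, v k * c k := by
    intro v
    rw [hs]
    simp only [Matrix.mulVec, dotProduct, Finset.mul_sum, hck]
    rw [Finset.sum_comm]
    exact Finset.sum_congr rfl fun k _ => Finset.sum_congr rfl fun i _ => by ring
  have hF0 : ∀ v, e.mulVec (e.mulVec v) = e.mulVec v := fun v => by
    rw [Matrix.mulVec_mulVec, hee]
  have hcmem : ∀ k, c k ∈ J' := fun k => by rw [hJ']; exact Ideal.subset_span ⟨k, rfl⟩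
  -- decompositions
  have hdec2 : ∀ k, ∃ C : Fin m → B', jj k - ∑ i, C i * w' i ∈ 𝔞' := by
    intro k
    obtain ⟨y, hy, z, hz, hyz⟩ := Submodule.mem_sup.mp (hG2 k)
    obtain ⟨C, hC⟩ := Ideal.mem_span_range_iff_exists_fun.mp hy
    refine ⟨C, ?_⟩
    rw [hC, ← hyz, add_sub_cancel_left]
    exact hz
  choose C hC using hdec2
  have hdec3 : ∀ i, ∃ D : Fin m → B', h₀ * w' i - ∑ k', D k' * c k' ∈ 𝔞' := by
    intro i
    obtain ⟨y, hy, z, hz, hyz⟩ := Submodule.mem_sup.mp (hN2 i)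
    rw [hJ'] at hy
    obtain ⟨D, hD⟩ := Ideal.mem_span_range_iff_exists_fun.mp hy
    refine ⟨D, ?_⟩
    rw [hD, ← hyz, add_sub_cancel_left]
    exact hz
  choose D hD using hdec3
  choose V hV using hG1
  -- the vectors `νz`
  obtain ⟨coef, hcoef⟩ : ∃ coef : Fin r → Fin m → B', coef = fun k k' => ∑ i, C k i * D i k' :=
    ⟨_, rfl⟩
  obtain ⟨νz, hνz⟩ : ∃ νz : Fin r → Fin m → B', νz = fun k => e.mulVec (coef k) := ⟨_, rfl⟩
  have hνze : ∀ k, e.mulVec (νz k) = νz k := fun k => by rw [hνz]; exact hF0 _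
  obtain ⟨ν, hν⟩ : ∃ ν : Fin r → B', ν = fun k => s (νz k) := ⟨_, rfl⟩
  have hνk : ∀ k, ν k = ∑ k', coef k k' * c k' := fun k => by rw [hν, hνz]; exact hF1 _
  have hC1 : ∀ k, ν k ∈ J' := fun k => by
    rw [hνk]; exact Ideal.sum_mem _ fun k' _ => Ideal.mul_mem_left _ _ (hcmem k')
  have hC2 : ∀ k, ν k - h₀ * jj k ∈ 𝔞' := by
    intro k
    have e1 : ν k = ∑ i, C k i * ∑ k', D i k' * c k' := by
      rw [hνk, hcoef]
      simp only [Finset.sum_mul, Finset.mul_sum]
      rw [Finset.sum_comm]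
      exact Finset.sum_congr rfl fun i _ => Finset.sum_congr rfl fun k' _ => by ring
    have e3 : h₀ * ∑ i, C k i * w' i = ∑ i, C k i * (h₀ * w' i) := by
      rw [Finset.mul_sum]; exact Finset.sum_congr rfl fun i _ => by ring
    have e4 : ∑ i, C k i * (h₀ * w' i - ∑ k', D i k' * c k') =
        ∑ i, C k i * (h₀ * w' i) - ∑ i, C k i * ∑ k', D i k' * c k' := by
      simp only [mul_sub, Finset.sum_sub_distrib]
    have e2 : ν k - h₀ * jj k = -(∑ i, C k i * (h₀ * w' i - ∑ k', D i k' * c k')) -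
        h₀ * (jj k - ∑ i, C k i * w' i) := by
      rw [e4, mul_sub, e3, e1]; ring
    rw [e2]
    refine 𝔞'.sub_mem (𝔞'.neg_mem (Ideal.sum_mem _ fun i _ => Ideal.mul_mem_left _ _ (hD i)))
      (Ideal.mul_mem_left _ _ (hC k))
  -- the key congruence
  have hG5 : ∀ v : Fin m → B', ∃ a : Fin r → B',
      (∀ i, (u • e.mulVec v - ∑ k, a k • νz k) i ∈ K') ∧
      e.mulVec (u • e.mulVec v - ∑ k, a k • νz k) = u • e.mulVec v - ∑ k, a k • νz k := by
    intro v
    obtain ⟨x, hx⟩ : ∃ x : Fin m → B', x = e.mulVec v := ⟨_, rfl⟩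
    rw [← hx]
    have hxe : e.mulVec x = x := by rw [hx]; exact hF0 v
    obtain ⟨a, ha⟩ : ∃ a : Fin r → B', a = fun k => ∑ i, V i k * x i := ⟨_, rfl⟩
    refine ⟨a, ?_⟩
    have hfix : e.mulVec (u • x - ∑ k, a k • νz k) = u • x - ∑ k, a k • νz k := by
      rw [← Matrix.mulVecLin_apply, map_sub, map_smul, map_sum]
      simp only [map_smul, Matrix.mulVecLin_apply, hxe, hνze]
    refine ⟨?_, hfix⟩
    have hy : s (u • x - ∑ k, a k • νz k) ∈ 𝔞' := by
      rw [map_sub, map_smul, map_sum]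
      simp only [map_smul, smul_eq_mul]
      have hνs : ∀ k, s (νz k) = ν k := fun k => by rw [hν]
      simp only [hνs]
      obtain ⟨T, hT⟩ : ∃ T : B', T = ∑ i, ∑ k, V i k * jj k * x i := ⟨_, rfl⟩
      have A1 : ∑ k, a k * (h₀ * jj k) = h₀ * T := by
        rw [ha, hT]
        simp only [Finset.sum_mul, Finset.mul_sum]
        rw [Finset.sum_comm]
        exact Finset.sum_congr rfl fun i _ => Finset.sum_congr rfl fun k _ => by ring
      have A2 : ∑ i, (γ ^ N * w' i - ∑ k, V i k * jj k) * x i =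
          γ ^ N * ∑ i, w' i * x i - T := by
        rw [hT]
        simp only [sub_mul, Finset.sum_sub_distrib, Finset.mul_sum, Finset.sum_mul]
        congr 1
        exact Finset.sum_congr rfl fun i _ => by ring
      have e5 : u * s x - ∑ k, a k * ν k = -(∑ k, a k * (ν k - h₀ * jj k)) +
          h₀ * ∑ i, (γ ^ N * w' i - ∑ k, V i k * jj k) * x i := by
        have e6 : ∑ k, a k * (ν k - h₀ * jj k) = ∑ k, a k * ν k - ∑ k, a k * (h₀ * jj k) := by
          simp only [mul_sub, Finset.sum_sub_distrib]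
        rw [e6, A1, A2, hs, hu]; ring
      rw [e5]
      refine 𝔞'.add_mem (𝔞'.neg_mem (Ideal.sum_mem _ fun k _ => Ideal.mul_mem_left _ _ (hC2 k)))
        (Ideal.mul_mem_left _ _ (Ideal.sum_mem _ fun i _ => Ideal.mul_mem_right _ _ (hV i)))
    intro i
    have h1 := hN1 (u • x - ∑ k, a k • νz k) (by rw [← hs]; exact hy) i
    have h2 : ∑ k, e i k * (u • x - ∑ k, a k • νz k) k =
        (e.mulVec (u • x - ∑ k, a k • νz k)) i := rfl
    rw [h2, hfix] at h1
    exact h1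
  choose a ha hafix using fun k' => hG5 (Pi.single k' 1)
  obtain ⟨col, hcol⟩ : ∃ col : Fin m → Fin m → B', col = fun k' => e.mulVec (Pi.single k' 1) :=
    ⟨_, rfl⟩
  have hscol : ∀ k', s (col k') = c k' := by
    intro k'
    rw [hcol, hF1, Finset.sum_eq_single k']
    · rw [Pi.single_eq_same, one_mul]
    · intro b _ hb; rw [Pi.single_eq_of_ne hb, zero_mul]
    · intro h; exact absurd (Finset.mem_univ k') h
  have hexp : ∀ y : Fin m → B', e.mulVec y = y → y = ∑ l, y l • col l := by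
    intro y hy
    conv_lhs => rw [← hy, pi_eq_sum_univ' y]
    rw [← Matrix.mulVecLin_apply, map_sum]
    refine Finset.sum_congr rfl fun l _ => ?_
    rw [map_smul, Matrix.mulVecLin_apply, hcol]
  -- the matrix
  obtain ⟨κ, hκ⟩ : ∃ κ : Matrix (Fin m) (Fin m) B',
      κ = fun k' l => (u • e.mulVec (Pi.single k' 1) - ∑ k, a k' k • νz k) l := ⟨_, rfl⟩
  have hκmem : ∀ k' l, κ k' l ∈ K' := fun k' l => by rw [hκ]; exact ha k' l
  obtain ⟨N₀, hN₀⟩ : ∃ N₀ : Submodule B' (Fin m → B'), N₀ = Submodule.span B' (Set.range νz) :=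
    ⟨_, rfl⟩
  have hU : ∀ k', ∑ l, (u • (1 : Matrix (Fin m) (Fin m) B') - κ) k' l • col l ∈ N₀ := by
    intro k'
    have h1 : ∑ l, (u • (1 : Matrix (Fin m) (Fin m) B') - κ) k' l • col l =
        u • col k' - ∑ l, κ k' l • col l := by
      simp only [Matrix.sub_apply, Matrix.smul_apply, sub_smul, Finset.sum_sub_distrib, smul_eq_mul]
      congr 1
      rw [Finset.sum_eq_single k']
      · rw [Matrix.one_apply_eq, mul_one]
      · intro b _ hb; rw [Matrix.one_apply_ne (Ne.symm hb), mul_zero, zero_smul]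
      · intro h; exact absurd (Finset.mem_univ k') h
    have h2 : ∑ l, κ k' l • col l = u • col k' - ∑ k, a k' k • νz k := by
      have := hexp _ (hafix k')
      rw [hcol]
      rw [hcol] at this
      rw [hκ]
      exact this.symm
    rw [h1, h2, sub_sub_cancel, hN₀]
    exact Submodule.sum_mem _ fun k _ => Submodule.smul_mem _ _ (Submodule.subset_span ⟨k, rfl⟩)
  have hdet := det_smul_mem col N₀ _ hU
  refine ⟨ν, (u • (1 : Matrix (Fin m) (Fin m) B') - κ).det, hC1, hC2,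
    det_sub_pow_mem K' u κ hκmem, fun k' => ?_⟩
  have h1 := hdet k'
  rw [hN₀] at h1
  obtain ⟨b, hb⟩ := (Submodule.mem_span_range_iff_exists_fun B').mp h1
  have h2 := congrArg s hb
  rw [map_sum, map_smul, hscol, smul_eq_mul] at h2
  simp only [map_smul, smul_eq_mul] at h2
  rw [← h2]
  refine Ideal.sum_mem _ fun k _ => Ideal.mul_mem_left _ _ (Ideal.subset_span ⟨k, ?_⟩)
  rw [hν]

end Groth.Agent.Lib.SyntLiftH6
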