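import Mathlib

/-!
# A tensor product localising to a ring (helper6)

Abstract criterion: for `Ab`-algebras `κ`, `Bb`, `T` with `ψκ : κ → T`, `ψB : Bb → T` and a submonoid
`Mb ⊆ Bb`, the ring `T` is the localisation of `κ ⊗[Ab] Bb` at the image of `Mb`, provided `T` is "the
localisation of `Bb` at `Mb` modulo the kernel of `Bb → κ ⊗ Bb`" and elements of `κ ⊗ Bb` have
denominators in `Mb`.
-/

set_option autoImplicit false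
set_option linter.style.haveILetI false
universe u

open TensorProduct

namespace Groth.Agent.Lib.QRNilH6

section abstract

variable {Ab Bb κ T : Type u} [CommRing Ab] [CommRing Bb] [CommRing κ] [CommRing T]
  [Algebra Ab Bb] [Algebra Ab κ] [Algebra Ab T]

/-- The inclusion `Bb → κ ⊗[Ab] Bb`. -/
noncomputable abbrev incR : Bb →+* κ ⊗[Ab] Bb :=
  (Algebra.TensorProduct.includeRight : Bb →ₐ[Ab] κ ⊗[Ab] Bb).toRingHom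

theorem isLocalization_productMap (ψκ : κ →ₐ[Ab] T) (ψB : Bb →ₐ[Ab] T) (Mb : Submonoid Bb)
    (hunit : ∀ m ∈ Mb, IsUnit (ψB m))
    (hsurj : ∀ t : T, ∃ b : Bb, ∃ m ∈ Mb, t * ψB m = ψB b)
    (hker : ∀ b : Bb, ψB b = 0 → ∃ m ∈ Mb, ((1 : κ) ⊗ₜ[Ab] (m * b) : κ ⊗[Ab] Bb) = 0)
    (hden : ∀ z : κ ⊗[Ab] Bb, ∃ m ∈ Mb, ∃ b : Bb, ((1 : κ) ⊗ₜ[Ab] m) * z = (1 : κ) ⊗ₜ[Ab] b) :
    letI := (Algebra.TensorProduct.productMap ψκ ψB).toRingHom.toAlgebra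
    IsLocalization (Mb.map (incR (Ab := Ab) (κ := κ) : Bb →+* κ ⊗[Ab] Bb)) T := by
  letI algFT : Algebra (κ ⊗[Ab] Bb) T := (Algebra.TensorProduct.productMap ψκ ψB).toRingHom.toAlgebra
  have hφ : ∀ z : κ ⊗[Ab] Bb, algebraMap (κ ⊗[Ab] Bb) T z = Algebra.TensorProduct.productMap ψκ ψB z :=
    fun z => rfl
  have hφ1 : ∀ b : Bb, algebraMap (κ ⊗[Ab] Bb) T ((1 : κ) ⊗ₜ[Ab] b) = ψB b := by
    intro b
    rw [hφ, Algebra.TensorProduct.productMap_apply_tmul, map_one, one_mul]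
  have hinc : ∀ b : Bb, (incR (Ab := Ab) (κ := κ) : Bb →+* κ ⊗[Ab] Bb) b = (1 : κ) ⊗ₜ[Ab] b := fun b => rfl
  refine ⟨?_, ?_, ?_⟩
  · rintro ⟨y, m, hm, rfl⟩
    show IsUnit (algebraMap (κ ⊗[Ab] Bb) T ((1 : κ) ⊗ₜ[Ab] m))
    rw [hφ1]
    exact hunit m hm
  · intro t
    obtain ⟨b, m, hm, hbm⟩ := hsurj t
    refine ⟨⟨(1 : κ) ⊗ₜ[Ab] b, ⟨(1 : κ) ⊗ₜ[Ab] m, m, hm, rfl⟩⟩, ?_⟩
    show t * algebraMap (κ ⊗[Ab] Bb) T ((1 : κ) ⊗ₜ[Ab] m) = algebraMap (κ ⊗[Ab] Bb) T ((1 : κ) ⊗ₜ[Ab] b)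
    rw [hφ1, hφ1, hbm]
  · intro x y hxy
    have hz : algebraMap (κ ⊗[Ab] Bb) T (x - y) = 0 := by rw [map_sub, hxy, sub_self]
    obtain ⟨m₁, hm₁, b, hb⟩ := hden (x - y)
    have hb0 : ψB b = 0 := by
      rw [← hφ1, ← hb, map_mul, hz, mul_zero]
    obtain ⟨m₂, hm₂, h0⟩ := hker b hb0
    refine ⟨⟨(1 : κ) ⊗ₜ[Ab] (m₂ * m₁), m₂ * m₁, Mb.mul_mem hm₂ hm₁, rfl⟩, ?_⟩
    show ((1 : κ) ⊗ₜ[Ab] (m₂ * m₁)) * x = ((1 : κ) ⊗ₜ[Ab] (m₂ * m₁)) * y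
    rw [← sub_eq_zero, ← mul_sub]
    have h1 : ((1 : κ) ⊗ₜ[Ab] (m₂ * m₁) : κ ⊗[Ab] Bb) =
        ((1 : κ) ⊗ₜ[Ab] m₂) * ((1 : κ) ⊗ₜ[Ab] m₁) := by
      rw [Algebra.TensorProduct.tmul_mul_tmul, one_mul]
    rw [h1, mul_assoc, hb, Algebra.TensorProduct.tmul_mul_tmul, one_mul]
    exact h0

end abstract

end Groth.Agent.Lib.QRNilH6
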