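import Mathlib
import Groth.Prelude.Def_CAlgX
import Groth.Agent.Lib.QRNil1_helper6
import Groth.Agent.Lib.QRegBC_helper2
import Groth.Agent.Lib.RegKindFlat_helper2
import Groth.Agent.Lib.QRJac_helper4

/-!
# Quasi-regular sequences modulo a nil ideal: regularity on the local rings of the fibres (helper6)
-/

set_option autoImplicit false
set_option linter.style.haveILetI false
universe u

open TensorProduct IsLocalRing

namespace Groth.Agent.Lib.QRNilH6

section concrete

variable {A' B' : Type u} [CommRing A'] [CommRing B'] [Algebra A' B']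

/-- Let `I ⊆ A'` be an ideal contained in the contraction `p'` of a prime `q'` of `B'`; if the images
of `f'` in `B'/IB'` are quasi-regular with quotient flat over `A'/I`, then the images of `f'` in the
local ring `B'_{q'}/p'B'_{q'}` of the fibre form a weakly regular sequence. -/
theorem fibre_weaklyRegular [Algebra.FiniteType A' B'] (I : Ideal A') (q' : Ideal B') [q'.IsPrime]
    (hIq : I ≤ q'.comap (algebraMap A' B')) (r : ℕ) (f' : Fin r → B') (hf'q : ∀ i, f' i ∈ q')
    (hq : CAlgX.IsQuasiRegular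
      (fun i => Ideal.Quotient.mk (Ideal.map (algebraMap A' B') I) (f' i)))
    (hflat : Module.Flat (A' ⧸ I)
      ((B' ⧸ Ideal.map (algebraMap A' B') I) ⧸
        Ideal.span (Set.range (fun i => Ideal.Quotient.mk (Ideal.map (algebraMap A' B') I) (f' i)))))
    (R S : Type u) [CommRing R] [CommRing S] [IsLocalRing R] [IsLocalRing S]
    [Algebra A' R] [Algebra B' S] [Algebra R S] [Algebra A' S] [IsScalarTower A' R S]
    [IsScalarTower A' B' S] [IsLocalization.AtPrime R (q'.comap (algebraMap A' B'))]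
    [IsLocalization.AtPrime S q'] :
    IsNoetherianRing (S ⧸ (maximalIdeal R).map (algebraMap R S)) ∧
    RingTheory.Sequence.IsWeaklyRegular (S ⧸ (maximalIdeal R).map (algebraMap R S))
      (List.ofFn fun i => Ideal.Quotient.mk ((maximalIdeal R).map (algebraMap R S))
        (algebraMap B' S (f' i))) := by
  classical
  obtain ⟨p', hp'⟩ : ∃ p' : Ideal A', p' = q'.comap (algebraMap A' B') := ⟨_, rfl⟩
  haveI hp'prime : p'.IsPrime := by rw [hp']; infer_instance
  obtain ⟨J, hJ⟩ : ∃ J : Ideal S, J = (maximalIdeal R).map (algebraMap R S) := ⟨_, rfl⟩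
  rw [← hJ]
  -- `p'` and the maximal ideal of `R`
  have hmemR : ∀ a : A', a ∈ p' → algebraMap A' R a ∈ maximalIdeal R := by
    intro a ha
    rw [hp'] at ha
    exact (IsLocalization.AtPrime.to_map_mem_maximal_iff R (q'.comap (algebraMap A' B')) a).mpr ha
  have hmemJ : ∀ a : A', a ∈ p' → algebraMap A' S a ∈ J := by
    intro a ha
    rw [hJ, IsScalarTower.algebraMap_apply A' R S]
    exact Ideal.mem_map_of_mem _ (hmemR a ha)
  have hIp : I ≤ p' := by rw [hp']; exact hIq
  -- the `A'/I`-algebra structures on `κ = R/𝔪` and `T = S/J`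
  have hIκ : ∀ a ∈ I, algebraMap A' (ResidueField R) a = 0 := by
    intro a ha
    rw [IsScalarTower.algebraMap_apply A' R (ResidueField R)]
    exact (residue_eq_zero_iff _).mpr (hmemR a (hIp ha))
  have hIT : ∀ a ∈ I, algebraMap A' (S ⧸ J) a = 0 := by
    intro a ha
    rw [IsScalarTower.algebraMap_apply A' S (S ⧸ J)]
    exact Ideal.Quotient.eq_zero_iff_mem.mpr (hmemJ a (hIp ha))
  letI algκ : Algebra (A' ⧸ I) (ResidueField R) :=
    (Ideal.Quotient.lift I (algebraMap A' (ResidueField R)) hIκ).toAlgebra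
  letI algT : Algebra (A' ⧸ I) (S ⧸ J) :=
    (Ideal.Quotient.lift I (algebraMap A' (S ⧸ J)) hIT).toAlgebra
  have halgκ : ∀ a : A', algebraMap (A' ⧸ I) (ResidueField R) (Ideal.Quotient.mk I a) =
      algebraMap A' (ResidueField R) a := fun a => rfl
  have halgT : ∀ a : A', algebraMap (A' ⧸ I) (S ⧸ J) (Ideal.Quotient.mk I a) =
      algebraMap A' (S ⧸ J) a := fun a => rfl
  -- the two maps to `T`
  have hmJ : maximalIdeal R ≤ J.comap (algebraMap R S) := by
    rw [hJ]; exact Ideal.le_comap_map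
  obtain ⟨ψκ, hψκ⟩ : ∃ ψκ : ResidueField R →ₐ[A' ⧸ I] (S ⧸ J),
      ∀ x : R, ψκ (residue R x) = Ideal.Quotient.mk J (algebraMap R S x) := by
    refine ⟨{ Ideal.quotientMap J (algebraMap R S) hmJ with
      commutes' := ?_ }, fun x => rfl⟩
    intro a
    obtain ⟨a, rfl⟩ := Ideal.Quotient.mk_surjective a
    rw [halgκ, halgT, IsScalarTower.algebraMap_apply A' R (ResidueField R),
      IsScalarTower.algebraMap_apply A' S (S ⧸ J), IsScalarTower.algebraMap_apply A' R S]
    rfl
  have hIB : ∀ b ∈ Ideal.map (algebraMap A' B') I,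
      ((Ideal.Quotient.mk J).comp (algebraMap B' S)) b = 0 := by
    intro b hb
    have hle : Ideal.map (algebraMap A' B') I ≤
        RingHom.ker ((Ideal.Quotient.mk J).comp (algebraMap B' S)) := by
      rw [Ideal.map_le_iff_le_comap]
      intro a ha
      rw [Ideal.mem_comap, RingHom.mem_ker, RingHom.comp_apply,
        ← IsScalarTower.algebraMap_apply A' B' S]
      exact Ideal.Quotient.eq_zero_iff_mem.mpr (hmemJ a (hIp ha))
    exact hle hb
  obtain ⟨ψB, hψB⟩ : ∃ ψB : (B' ⧸ Ideal.map (algebraMap A' B') I) →ₐ[A' ⧸ I] (S ⧸ J),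
      ∀ b : B', ψB (Ideal.Quotient.mk _ b) = Ideal.Quotient.mk J (algebraMap B' S b) := by
    refine ⟨{ Ideal.Quotient.lift (Ideal.map (algebraMap A' B') I)
      ((Ideal.Quotient.mk J).comp (algebraMap B' S)) hIB with
      commutes' := ?_ }, fun b => rfl⟩
    intro a
    obtain ⟨a, rfl⟩ := Ideal.Quotient.mk_surjective a
    rw [halgT, IsScalarTower.algebraMap_apply A' S (S ⧸ J),
      IsScalarTower.algebraMap_apply A' B' S]
    rfl
  -- the multiplicative set
  obtain ⟨Mb, hMb⟩ : ∃ Mb : Submonoid (B' ⧸ Ideal.map (algebraMap A' B') I),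
      Mb = q'.primeCompl.map (Ideal.Quotient.mk (Ideal.map (algebraMap A' B') I)) := ⟨_, rfl⟩
  have hMbmem : ∀ u : B', u ∉ q' → Ideal.Quotient.mk (Ideal.map (algebraMap A' B') I) u ∈ Mb := by
    intro u hu
    rw [hMb]
    exact ⟨u, hu, rfl⟩
  have hunit : ∀ m ∈ Mb, IsUnit (ψB m) := by
    intro m hm
    rw [hMb] at hm
    obtain ⟨u, hu, rfl⟩ := hm
    rw [hψB]
    exact (IsLocalization.map_units S (⟨u, hu⟩ : q'.primeCompl)).map (Ideal.Quotient.mk J)
  have hsurj : ∀ t : S ⧸ J, ∃ b : B' ⧸ Ideal.map (algebraMap A' B') I, ∃ m ∈ Mb,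
      t * ψB m = ψB b := by
    intro t
    obtain ⟨s, rfl⟩ := Ideal.Quotient.mk_surjective t
    obtain ⟨b, u, rfl⟩ := IsLocalization.exists_mk'_eq q'.primeCompl s
    refine ⟨Ideal.Quotient.mk _ b, Ideal.Quotient.mk _ (u : B'), hMbmem _ u.2, ?_⟩
    rw [hψB, hψB, ← map_mul, IsLocalization.mk'_spec]
  -- elements of `p' B'` die in the tensor product
  have hzero : ∀ y ∈ Ideal.map (algebraMap A' B') p',
      ((1 : ResidueField R) ⊗ₜ[A' ⧸ I] (Ideal.Quotient.mk (Ideal.map (algebraMap A' B') I) y) :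
        ResidueField R ⊗[A' ⧸ I] (B' ⧸ Ideal.map (algebraMap A' B') I)) = 0 := by
    intro y hy
    have hle : Ideal.map (algebraMap A' B') p' ≤
        RingHom.ker ((incR (Ab := A' ⧸ I) (κ := ResidueField R) :
          (B' ⧸ Ideal.map (algebraMap A' B') I) →+* _).comp
          (Ideal.Quotient.mk (Ideal.map (algebraMap A' B') I))) := by
      rw [Ideal.map_le_iff_le_comap]
      intro a ha
      rw [Ideal.mem_comap, RingHom.mem_ker, RingHom.comp_apply]
      show ((1 : ResidueField R) ⊗ₜ[A' ⧸ I]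
        (Ideal.Quotient.mk (Ideal.map (algebraMap A' B') I) (algebraMap A' B' a)) :
        ResidueField R ⊗[A' ⧸ I] (B' ⧸ Ideal.map (algebraMap A' B') I)) = 0
      have h1 : Ideal.Quotient.mk (Ideal.map (algebraMap A' B') I) (algebraMap A' B' a) =
          (Ideal.Quotient.mk I a) • (1 : B' ⧸ Ideal.map (algebraMap A' B') I) := by
        rw [Algebra.smul_def, mul_one]; rfl
      rw [h1, ← TensorProduct.smul_tmul, Algebra.smul_def, halgκ, mul_one,
        IsScalarTower.algebraMap_apply A' R (ResidueField R), ResidueField.algebraMap_eq,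
        (residue_eq_zero_iff _).mpr (hmemR a ha), TensorProduct.zero_tmul]
    exact hle hy
  -- `J` as an extended ideal
  have hJ' : J = Ideal.map (algebraMap B' S) (Ideal.map (algebraMap A' B') p') := by
    rw [hJ, ← IsLocalization.AtPrime.map_eq_maximalIdeal (q'.comap (algebraMap A' B')) R, ← hp',
      Ideal.map_map, Ideal.map_map, ← IsScalarTower.algebraMap_eq, ← IsScalarTower.algebraMap_eq]
  have hker : ∀ b : B' ⧸ Ideal.map (algebraMap A' B') I, ψB b = 0 → ∃ m ∈ Mb,
      ((1 : ResidueField R) ⊗ₜ[A' ⧸ I] (m * b) :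
        ResidueField R ⊗[A' ⧸ I] (B' ⧸ Ideal.map (algebraMap A' B') I)) = 0 := by
    intro b hb
    obtain ⟨b, rfl⟩ := Ideal.Quotient.mk_surjective b
    rw [hψB, Ideal.Quotient.eq_zero_iff_mem, hJ',
      IsLocalization.mem_map_algebraMap_iff q'.primeCompl S] at hb
    obtain ⟨⟨i, u⟩, hiu⟩ := hb
    rw [← map_mul, IsLocalization.eq_iff_exists q'.primeCompl S] at hiu
    obtain ⟨c, hc⟩ := hiu
    refine ⟨Ideal.Quotient.mk _ ((c : B') * (u : B')),
      hMbmem _ (q'.primeCompl.mul_mem c.2 u.2), ?_⟩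
    rw [← map_mul]
    have h1 : (c : B') * (u : B') * b = (c : B') * (i : B') := by
      rw [mul_assoc, mul_comm (u : B') b]; exact hc
    rw [h1]
    exact hzero _ (Ideal.mul_mem_left _ _ i.2)
  -- denominators
  have hden : ∀ z : ResidueField R ⊗[A' ⧸ I] (B' ⧸ Ideal.map (algebraMap A' B') I),
      ∃ m ∈ Mb, ∃ b : B' ⧸ Ideal.map (algebraMap A' B') I,
        ((1 : ResidueField R) ⊗ₜ[A' ⧸ I] m) * z = (1 : ResidueField R) ⊗ₜ[A' ⧸ I] b := by
    intro z
    induction z using TensorProduct.induction_on with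
    | zero => exact ⟨1, Mb.one_mem, 0, by rw [mul_zero, TensorProduct.tmul_zero]⟩
    | tmul k b =>
      obtain ⟨x, rfl⟩ := residue_surjective k
      obtain ⟨a, s, rfl⟩ := IsLocalization.exists_mk'_eq (q'.comap (algebraMap A' B')).primeCompl x
      have hs : algebraMap A' B' (s : A') ∉ q' := s.2
      refine ⟨Ideal.Quotient.mk _ (algebraMap A' B' (s : A')), hMbmem _ hs,
        (Ideal.Quotient.mk I a) • b, ?_⟩
      rw [Algebra.TensorProduct.tmul_mul_tmul, one_mul]
      have h1 : Ideal.Quotient.mk (Ideal.map (algebraMap A' B') I) (algebraMap A' B' (s : A')) * b =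
          (Ideal.Quotient.mk I (s : A')) • b := by
        rw [Algebra.smul_def]; rfl
      rw [h1, ← TensorProduct.smul_tmul, TensorProduct.tmul_smul, TensorProduct.smul_tmul']
      congr 1
      rw [Algebra.smul_def, Algebra.smul_def, halgκ, halgκ, mul_one,
        IsScalarTower.algebraMap_apply A' R (ResidueField R),
        IsScalarTower.algebraMap_apply A' R (ResidueField R), ResidueField.algebraMap_eq,
        ← map_mul, mul_comm, IsLocalization.mk'_spec]
    | add z₁ z₂ h₁ h₂ =>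
      obtain ⟨m₁, hm₁, b₁, hb₁⟩ := h₁
      obtain ⟨m₂, hm₂, b₂, hb₂⟩ := h₂
      refine ⟨m₁ * m₂, Mb.mul_mem hm₁ hm₂, m₂ * b₁ + m₁ * b₂, ?_⟩
      have h1 : ((1 : ResidueField R) ⊗ₜ[A' ⧸ I] (m₁ * m₂) :
          ResidueField R ⊗[A' ⧸ I] (B' ⧸ Ideal.map (algebraMap A' B') I)) =
          ((1 : ResidueField R) ⊗ₜ[A' ⧸ I] m₁) * ((1 : ResidueField R) ⊗ₜ[A' ⧸ I] m₂) := by
        rw [Algebra.TensorProduct.tmul_mul_tmul, one_mul]
      have h2 : ((1 : ResidueField R) ⊗ₜ[A' ⧸ I] m₁) * ((1 : ResidueField R) ⊗ₜ[A' ⧸ I] m₂) *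
          (z₁ + z₂) =
          ((1 : ResidueField R) ⊗ₜ[A' ⧸ I] m₂) * (((1 : ResidueField R) ⊗ₜ[A' ⧸ I] m₁) * z₁) +
          ((1 : ResidueField R) ⊗ₜ[A' ⧸ I] m₁) * (((1 : ResidueField R) ⊗ₜ[A' ⧸ I] m₂) * z₂) := by
        ring
      rw [h1, h2, hb₁, hb₂, Algebra.TensorProduct.tmul_mul_tmul,
        Algebra.TensorProduct.tmul_mul_tmul, one_mul, TensorProduct.tmul_add]
  -- `T` is a localisation of the fibre ring
  letI algFT : Algebra (ResidueField R ⊗[A' ⧸ I] (B' ⧸ Ideal.map (algebraMap A' B') I)) (S ⧸ J) :=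
    (Algebra.TensorProduct.productMap ψκ ψB).toRingHom.toAlgebra
  haveI hloc : IsLocalization (Mb.map (incR (Ab := A' ⧸ I) (κ := ResidueField R) :
      (B' ⧸ Ideal.map (algebraMap A' B') I) →+* _)) (S ⧸ J) :=
    isLocalization_productMap ψκ ψB Mb hunit hsurj hker hden
  -- Noetherian
  haveI : Algebra.FiniteType A' (B' ⧸ Ideal.map (algebraMap A' B') I) :=
    Algebra.FiniteType.of_surjective (Ideal.Quotient.mkₐ A' _) Ideal.Quotient.mk_surjective
  haveI : Algebra.FiniteType (A' ⧸ I) (B' ⧸ Ideal.map (algebraMap A' B') I) :=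
    Algebra.FiniteType.of_restrictScalars_finiteType A' _ _
  haveI : Algebra.FiniteType (ResidueField R)
      (ResidueField R ⊗[A' ⧸ I] (B' ⧸ Ideal.map (algebraMap A' B') I)) :=
    Algebra.FiniteType.baseChange _
  haveI hFnoeth : IsNoetherianRing
      (ResidueField R ⊗[A' ⧸ I] (B' ⧸ Ideal.map (algebraMap A' B') I)) :=
    Algebra.FiniteType.isNoetherianRing (ResidueField R) _
  have hTnoeth : IsNoetherianRing (S ⧸ J) :=
    IsLocalization.isNoetherianRing (Mb.map (incR (Ab := A' ⧸ I) (κ := ResidueField R) :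
      (B' ⧸ Ideal.map (algebraMap A' B') I) →+* _)) (S ⧸ J) hFnoeth
  refine ⟨hTnoeth, ?_⟩
  haveI := hTnoeth
  -- quasi-regularity in the fibre ring and in `T`
  have hqF := Groth.Agent.Lib.QRegBC.main9272 (A := A' ⧸ I)
    (B := B' ⧸ Ideal.map (algebraMap A' B') I) (A' := ResidueField R) r _ hflat hq
  have hflatFT : (algebraMap (ResidueField R ⊗[A' ⧸ I] (B' ⧸ Ideal.map (algebraMap A' B') I))
      (S ⧸ J)).Flat :=
    RingHom.flat_algebraMap_iff.mpr (IsLocalization.flat (S ⧸ J)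
      (Mb.map (incR (Ab := A' ⧸ I) (κ := ResidueField R) :
      (B' ⧸ Ideal.map (algebraMap A' B') I) →+* _)))
  have hqT := Groth.Agent.Lib.RegKindFlat.qr_comp_of_flat _ hflatFT _ hqF
  have hval : ∀ i, algebraMap (ResidueField R ⊗[A' ⧸ I] (B' ⧸ Ideal.map (algebraMap A' B') I))
      (S ⧸ J) ((1 : ResidueField R) ⊗ₜ[A' ⧸ I]
        (Ideal.Quotient.mk (Ideal.map (algebraMap A' B') I) (f' i))) =
      Ideal.Quotient.mk J (algebraMap B' S (f' i)) := by
    intro i
    show Algebra.TensorProduct.productMap ψκ ψB _ = _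
    rw [Algebra.TensorProduct.productMap_apply_tmul, map_one, one_mul, hψB]
  simp only [hval] at hqT
  refine Groth.Agent.Lib.QRJacH4.main5803 (S ⧸ J) r _ ?_ hqT
  intro i
  rw [← Ideal.jacobson_bot, Ideal.mem_jacobson_bot]
  intro y
  obtain ⟨y, rfl⟩ := Ideal.Quotient.mk_surjective y
  rw [← map_mul, ← map_one (Ideal.Quotient.mk J), ← map_add]
  refine IsUnit.map _ ?_
  have hmem : algebraMap B' S (f' i) * y ∈ maximalIdeal S :=
    Ideal.mul_mem_right _ _
      ((IsLocalization.AtPrime.to_map_mem_maximal_iff S q' (f' i)).mpr (hf'q i))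
  by_contra hnu
  have h2 : algebraMap B' S (f' i) * y + 1 ∈ maximalIdeal S := hnu
  have h3 : (1 : S) ∈ maximalIdeal S := by
    have := (maximalIdeal S).sub_mem h2 hmem
    rwa [add_sub_cancel_left] at this
  exact (maximalIdeal.isMaximal S).ne_top ((Ideal.eq_top_iff_one _).mpr h3)

end concrete

end Groth.Agent.Lib.QRNilH6
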