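import Mathlib
import Groth.Prelude.Def_CAlgX
import Groth.Agent.Lib.QRNil2_helper6
import Groth.Agent.Lib.RegFib1_helper8
import Groth.Agent.Lib.FibInjF_helper6

/-!
# Flatness of the quotient by a sequence that is quasi-regular modulo a nil ideal (helper6): S9270
-/

set_option autoImplicit false
set_option linter.style.haveILetI false
universe u

open TensorProduct IsLocalRing RingTheory.Sequence

namespace Groth.Agent.Lib.QRNilH6

variable {A' B' : Type u} [CommRing A'] [CommRing B'] [Algebra A' B']

/-- The local statement at a prime `q'` of `B'` containing the `f' i`. -/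
theorem flat_localization_quotient [Module.Flat A' B'] [Algebra.FinitePresentation A' B']
    (I : Ideal A') (hI : ∀ x ∈ I, IsNilpotent x) (r : ℕ) (f' : Fin r → B')
    (hq : CAlgX.IsQuasiRegular
      (fun i => Ideal.Quotient.mk (Ideal.map (algebraMap A' B') I) (f' i)))
    (hflat : Module.Flat (A' ⧸ I)
      ((B' ⧸ Ideal.map (algebraMap A' B') I) ⧸
        Ideal.span (Set.range (fun i => Ideal.Quotient.mk (Ideal.map (algebraMap A' B') I) (f' i)))))
    (q' : Ideal B') [q'.IsPrime] (hf'q : ∀ i, f' i ∈ q') :
    Module.Flat A' (Localization.AtPrime q' ⧸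
      (Ideal.span (Set.range f')).map (algebraMap B' (Localization.AtPrime q'))) := by
  classical
  obtain ⟨p', hp'⟩ : ∃ p' : Ideal A', p' = q'.comap (algebraMap A' B') := ⟨_, rfl⟩
  subst hp'
  haveI : q'.LiesOver (q'.comap (algebraMap A' B')) := ⟨rfl⟩
  letI algRS : Algebra (Localization.AtPrime (q'.comap (algebraMap A' B')))
      (Localization.AtPrime q') :=
    Localization.AtPrime.algebraOfLiesOver (q'.comap (algebraMap A' B')) q'
  haveI : IsLocalHom (algebraMap (Localization.AtPrime (q'.comap (algebraMap A' B')))
      (Localization.AtPrime q')) :=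
    Localization.isLocalHom_localRingHom (q'.comap (algebraMap A' B')) q' (algebraMap A' B') _
  haveI : IsScalarTower A' (Localization.AtPrime (q'.comap (algebraMap A' B')))
      (Localization.AtPrime q') := inferInstance
  have hS : CAlgX.IsEssFinitePresentation (Localization.AtPrime (q'.comap (algebraMap A' B')))
      (Localization.AtPrime q') :=
    Groth.Agent.Lib.FibInjH6.isEssFinitePresentation_of_localizations
      (q'.comap (algebraMap A' B')) q' (by
        rintro _ ⟨a, ha, rfl⟩
        exact ha)
  have hIq : I ≤ q'.comap (algebraMap A' B') := by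
    intro a ha
    obtain ⟨n, hn⟩ := hI a ha
    have h0 : a ^ n ∈ q'.comap (algebraMap A' B') := by rw [hn]; exact Ideal.zero_mem _
    exact Ideal.IsPrime.mem_of_pow_mem inferInstance n h0
  obtain ⟨hTnoeth, hwr⟩ := fibre_weaklyRegular I q' hIq r f' hf'q hq hflat
    (Localization.AtPrime (q'.comap (algebraMap A' B'))) (Localization.AtPrime q')
  obtain ⟨J, hJ⟩ : ∃ J : Ideal (Localization.AtPrime q'),
      J = (maximalIdeal (Localization.AtPrime (q'.comap (algebraMap A' B')))).map
        (algebraMap (Localization.AtPrime (q'.comap (algebraMap A' B')))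
          (Localization.AtPrime q')) := ⟨_, rfl⟩
  rw [← hJ] at hwr
  -- flatness of `S` over `R`
  haveI : Module.Flat A' (Localization.AtPrime q') := inferInstance
  haveI : Module.Flat (Localization.AtPrime (q'.comap (algebraMap A' B')))
      (Localization.AtPrime q') :=
    (Module.flat_iff_of_isLocalization (Localization.AtPrime (q'.comap (algebraMap A' B')))
      (q'.comap (algebraMap A' B')).primeCompl (Localization.AtPrime q')).mpr inferInstance
  -- the sequence
  obtain ⟨rs, hrs⟩ : ∃ rs : List (Localization.AtPrime q'),
      rs = List.ofFn (fun i => algebraMap B' (Localization.AtPrime q') (f' i)) := ⟨_, rfl⟩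
  have hw : IsWeaklyRegular (Localization.AtPrime q' ⧸
      (J • ⊤ : Submodule (Localization.AtPrime q') (Localization.AtPrime q'))) rs := by
    have h1 : IsWeaklyRegular (Localization.AtPrime q' ⧸ J)
        (rs.map (algebraMap (Localization.AtPrime q') (Localization.AtPrime q' ⧸ J))) := by
      rw [hrs, List.map_ofFn]; exact hwr
    have h2 : IsWeaklyRegular (Localization.AtPrime q' ⧸ J) rs :=
      (isWeaklyRegular_map_algebraMap_iff (Localization.AtPrime q' ⧸ J)
        (Localization.AtPrime q' ⧸ J) rs).mp h1
    have hJtop : (J • ⊤ : Submodule (Localization.AtPrime q') (Localization.AtPrime q')) = J := by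
      rw [smul_eq_mul, Ideal.mul_top]
    exact ((Submodule.quotEquivOfEq _ _ hJtop).isWeaklyRegular_congr rs).mpr h2
  rw [hJ] at hw
  obtain ⟨-, h2⟩ := Groth.Agent.Lib.RegFibH8.local_reg hS rs (Localization.AtPrime q') hw
  have h3 := h2 r
  have hlen : rs.length = r := by rw [hrs, List.length_ofFn]
  rw [List.take_of_length_le (le_of_eq hlen)] at h3
  have hK : (Ideal.ofList rs • ⊤ :
      Submodule (Localization.AtPrime q') (Localization.AtPrime q')) =
      (Ideal.span (Set.range f')).map (algebraMap B' (Localization.AtPrime q')) := by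
    rw [smul_eq_mul, Ideal.mul_top, Ideal.map_span, ← Set.range_comp]
    show Ideal.span {x | x ∈ rs} = _
    congr 1
    ext x
    rw [hrs]
    simp only [Set.mem_setOf_eq, List.mem_ofFn, Set.mem_range, Function.comp_apply]
  haveI := h3
  haveI : Module.Flat (Localization.AtPrime (q'.comap (algebraMap A' B')))
      (Localization.AtPrime q' ⧸
        (Ideal.span (Set.range f')).map (algebraMap B' (Localization.AtPrime q'))) :=
    Module.Flat.of_linearEquiv (((Submodule.quotEquivOfEq _ _ hK).restrictScalars
      (Localization.AtPrime (q'.comap (algebraMap A' B')))).symm)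
  exact Module.Flat.trans A' (Localization.AtPrime (q'.comap (algebraMap A' B'))) _

end Groth.Agent.Lib.QRNilH6
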