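import Mathlib
import Groth.Prelude.Def_CAlgX
import Groth.Agent.Lib.QRNil3_helper6
import Groth.Agent.Lib.RegKindFlat_helper2

/-!
# Lifting syntomic algebras (helper6), part 4: the flatness criterion at a prime
-/

set_option autoImplicit false
set_option linter.style.haveILetI false
universe u

open TensorProduct IsLocalRing RingTheory.Sequence

namespace Groth.Agent.Lib.SyntLiftH6

open Groth.Agent.Lib.QRNilH6

variable {A' B' : Type u} [CommRing A'] [CommRing B'] [Algebra A' B']

/-- The local statement at a prime `q'` of `B'` containing the `f' i`. -/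
theorem flat_localization_quotient' [Module.Flat A' B'] [Algebra.FinitePresentation A' B']
    (I : Ideal A') (r : ℕ) (f' : Fin r → B')
    (hq : CAlgX.IsQuasiRegular
      (fun i => Ideal.Quotient.mk (Ideal.map (algebraMap A' B') I) (f' i)))
    (hflat : Module.Flat (A' ⧸ I)
      ((B' ⧸ Ideal.map (algebraMap A' B') I) ⧸
        Ideal.span (Set.range (fun i => Ideal.Quotient.mk (Ideal.map (algebraMap A' B') I) (f' i)))))
    (q' : Ideal B') [q'.IsPrime] (hIq : I ≤ q'.comap (algebraMap A' B')) (hf'q : ∀ i, f' i ∈ q') :
    Module.Flat A' (Localization.AtPrime q' ⧸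
      (Ideal.span (Set.range f')).map (algebraMap B' (Localization.AtPrime q'))) := by
  classical
  obtain ⟨p', hp'⟩ : ∃ p' : Ideal A', p' = q'.comap (algebraMap A' B') := ⟨_, rfl⟩
  subst hp'
  haveI : q'.LiesOver (q'.comap (algebraMap A' B')) := ⟨rfl⟩
  letI algRS : Algebra (Localization.AtPrime (q'.comap (algebraMap A' B')))
      (Localization.AtPrime q') :=
    Localization.AtPrime.algebraOfLiesOver (q'.comap (algebraMap A' B')) q'
  haveI : IsLocalHom (algebraMap (Localization.AtPrime (q'.comap (algebraMap A' B')))
      (Localization.AtPrime q')) :=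
    Localization.isLocalHom_localRingHom (q'.comap (algebraMap A' B')) q' (algebraMap A' B') _
  haveI : IsScalarTower A' (Localization.AtPrime (q'.comap (algebraMap A' B')))
      (Localization.AtPrime q') := inferInstance
  have hS : CAlgX.IsEssFinitePresentation (Localization.AtPrime (q'.comap (algebraMap A' B')))
      (Localization.AtPrime q') :=
    Groth.Agent.Lib.FibInjH6.isEssFinitePresentation_of_localizations
      (q'.comap (algebraMap A' B')) q' (by
        rintro _ ⟨a, ha, rfl⟩
        exact ha)
  obtain ⟨hTnoeth, hwr⟩ := fibre_weaklyRegular I q' hIq r f' hf'q hq hflat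
    (Localization.AtPrime (q'.comap (algebraMap A' B'))) (Localization.AtPrime q')
  obtain ⟨J, hJ⟩ : ∃ J : Ideal (Localization.AtPrime q'),
      J = (maximalIdeal (Localization.AtPrime (q'.comap (algebraMap A' B')))).map
        (algebraMap (Localization.AtPrime (q'.comap (algebraMap A' B')))
          (Localization.AtPrime q')) := ⟨_, rfl⟩
  rw [← hJ] at hwr
  -- flatness of `S` over `R`
  haveI : Module.Flat A' (Localization.AtPrime q') := inferInstance
  haveI : Module.Flat (Localization.AtPrime (q'.comap (algebraMap A' B')))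
      (Localization.AtPrime q') :=
    (Module.flat_iff_of_isLocalization (Localization.AtPrime (q'.comap (algebraMap A' B')))
      (q'.comap (algebraMap A' B')).primeCompl (Localization.AtPrime q')).mpr inferInstance
  -- the sequence
  obtain ⟨rs, hrs⟩ : ∃ rs : List (Localization.AtPrime q'),
      rs = List.ofFn (fun i => algebraMap B' (Localization.AtPrime q') (f' i)) := ⟨_, rfl⟩
  have hw : IsWeaklyRegular (Localization.AtPrime q' ⧸
      (J • ⊤ : Submodule (Localization.AtPrime q') (Localization.AtPrime q'))) rs := by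
    have h1 : IsWeaklyRegular (Localization.AtPrime q' ⧸ J)
        (rs.map (algebraMap (Localization.AtPrime q') (Localization.AtPrime q' ⧸ J))) := by
      rw [hrs, List.map_ofFn]; exact hwr
    have h2 : IsWeaklyRegular (Localization.AtPrime q' ⧸ J) rs :=
      (isWeaklyRegular_map_algebraMap_iff (Localization.AtPrime q' ⧸ J)
        (Localization.AtPrime q' ⧸ J) rs).mp h1
    have hJtop : (J • ⊤ : Submodule (Localization.AtPrime q') (Localization.AtPrime q')) = J := by
      rw [smul_eq_mul, Ideal.mul_top]
    exact ((Submodule.quotEquivOfEq _ _ hJtop).isWeaklyRegular_congr rs).mpr h2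
  rw [hJ] at hw
  obtain ⟨-, h2⟩ := Groth.Agent.Lib.RegFibH8.local_reg hS rs (Localization.AtPrime q') hw
  have h3 := h2 r
  have hlen : rs.length = r := by rw [hrs, List.length_ofFn]
  rw [List.take_of_length_le (le_of_eq hlen)] at h3
  have hK : (Ideal.ofList rs • ⊤ :
      Submodule (Localization.AtPrime q') (Localization.AtPrime q')) =
      (Ideal.span (Set.range f')).map (algebraMap B' (Localization.AtPrime q')) := by
    rw [smul_eq_mul, Ideal.mul_top, Ideal.map_span, ← Set.range_comp]
    show Ideal.span {x | x ∈ rs} = _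
    congr 1
    ext x
    rw [hrs]
    simp only [Set.mem_setOf_eq, List.mem_ofFn, Set.mem_range, Function.comp_apply]
  haveI := h3
  haveI : Module.Flat (Localization.AtPrime (q'.comap (algebraMap A' B')))
      (Localization.AtPrime q' ⧸
        (Ideal.span (Set.range f')).map (algebraMap B' (Localization.AtPrime q'))) :=
    Module.Flat.of_linearEquiv (((Submodule.quotEquivOfEq _ _ hK).restrictScalars
      (Localization.AtPrime (q'.comap (algebraMap A' B')))).symm)
  exact Module.Flat.trans A' (Localization.AtPrime (q'.comap (algebraMap A' B'))) _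


/-- A more flexible form: the quasi-regular sequence comes from a flat ring map, and the flatness of
the quotient modulo `I` is transported along a linear equivalence. -/
theorem flat_localization_quotient₂ [Module.Flat A' B'] [Algebra.FinitePresentation A' B']
    (I : Ideal A') (r : ℕ) (f' : Fin r → B')
    (q' : Ideal B') [q'.IsPrime] (hIq : I ≤ q'.comap (algebraMap A' B')) (hf'q : ∀ i, f' i ∈ q')
    (T₀ : Type u) [CommRing T₀] (l : Fin r → T₀) (hl : CAlgX.IsQuasiRegular l)
    (χ : T₀ →+* B' ⧸ I.map (algebraMap A' B')) (hχ : χ.Flat)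
    (hχl : ∀ k, χ (l k) = Ideal.Quotient.mk _ (f' k))
    (M₀ : Type u) [AddCommGroup M₀] [Module A' M₀] [Module (A' ⧸ I) M₀]
    [IsScalarTower A' (A' ⧸ I) M₀] [Module.Flat (A' ⧸ I) M₀]
    (eM : M₀ ≃ₗ[A'] (B' ⧸ (I.map (algebraMap A' B') ⊔ Ideal.span (Set.range f')))) :
    Module.Flat A' (Localization.AtPrime q' ⧸
      (Ideal.span (Set.range f')).map (algebraMap B' (Localization.AtPrime q'))) := by
  have hq : CAlgX.IsQuasiRegular
      (fun i => Ideal.Quotient.mk (Ideal.map (algebraMap A' B') I) (f' i)) := by
    have h1 := Groth.Agent.Lib.RegKindFlat.qr_comp_of_flat χ hχ l hl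
    have h2 : (fun i => χ (l i)) =
        fun i => Ideal.Quotient.mk (Ideal.map (algebraMap A' B') I) (f' i) := funext hχl
    rw [h2] at h1
    exact h1
  have heq : Ideal.span (Set.range
      (fun i => Ideal.Quotient.mk (Ideal.map (algebraMap A' B') I) (f' i))) =
      (Ideal.span (Set.range f')).map (Ideal.Quotient.mkₐ A' (Ideal.map (algebraMap A' B') I)) := by
    rw [Ideal.map_span, ← Set.range_comp]
    rfl
  let e1 := DoubleQuot.quotQuotEquivQuotSupₐ A' (Ideal.map (algebraMap A' B') I)
    (Ideal.span (Set.range f'))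
  let e2 := Ideal.quotientEquivAlgOfEq A' heq
  let e3 : M₀ ≃ₗ[A'] ((B' ⧸ Ideal.map (algebraMap A' B') I) ⧸ Ideal.span (Set.range
      (fun i => Ideal.Quotient.mk (Ideal.map (algebraMap A' B') I) (f' i)))) :=
    eM.trans (e2.trans e1).symm.toLinearEquiv
  have hflat : Module.Flat (A' ⧸ I)
      ((B' ⧸ Ideal.map (algebraMap A' B') I) ⧸ Ideal.span (Set.range
        (fun i => Ideal.Quotient.mk (Ideal.map (algebraMap A' B') I) (f' i)))) :=
    Module.Flat.of_linearEquiv
      (LinearEquiv.extendScalarsOfSurjective (Ideal.Quotient.mk_surjective (I := I)) e3).symm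
  exact flat_localization_quotient' I r f' hq hflat q' hIq hf'q

end Groth.Agent.Lib.SyntLiftH6
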