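import Mathlib
import Groth.Prelude.Def_PP16
import Groth.Agent.Lib.QRegSym_helper1

/-! Quasi-regular ideals: the local criterion `J` f.g., `J/J²` projective, `Sym^n(J/J²) ≅ J^n/J^(n+1)`
(helper1). -/

set_option autoImplicit false
set_option maxHeartbeats 1000000

universe u

open TensorProduct

namespace Groth.Agent.Lib.QRegLocH1

open Groth.Agent.Lib.QRegSymH1
open Groth.Agent.Lib.SymPowH1 (hom_ext prodMap prodMap_tprod map map_tprod lift lift_tprod)
open Groth.Agent.Lib

section Aux

theorem eq_top_of_forall_prime {R : Type*} [CommRing R] (I : Ideal R)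
    (h : ∀ (P : Ideal R) [P.IsPrime], ∃ a ∈ I, a ∉ P) : I = ⊤ := by
  by_contra hne
  obtain ⟨P, hP, hle⟩ := Ideal.exists_le_maximal _ hne
  haveI := hP.isPrime
  obtain ⟨a, haI, haP⟩ := h P
  exact haP (hle haI)

theorem map_eval_eq {S T : Type*} [CommRing S] [CommRing T] (ρ : S →+* T) {σ : Type*} (j : σ → S)
    (Q : MvPolynomial σ S) :
    ρ (MvPolynomial.eval j Q) = MvPolynomial.eval (fun k => ρ (j k)) (MvPolynomial.map ρ Q) := by
  induction Q using MvPolynomial.induction_on with
  | C a => simp
  | add p q hp hq => simp only [map_add, hp, hq]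
  | mul_X p i hp => simp only [map_mul, hp, MvPolynomial.eval_X, MvPolynomial.map_X]

/-- the finitely supported function with given values -/
noncomputable def fs {R : Type*} [CommRing R] {r : ℕ} (v : Fin r → R) : Fin r →₀ R :=
  ∑ k, Finsupp.single k (v k)

theorem linearCombination_fs {R : Type*} [CommRing R] {r : ℕ} (j v : Fin r → R) :
    Finsupp.linearCombination R j (fs v) = ∑ k, v k * j k := by
  rw [fs, map_sum]
  refine Finset.sum_congr rfl fun k _ => ?_
  rw [Finsupp.linearCombination_single, smul_eq_mul]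

end Aux

section Loc

variable (R : Type u) [CommRing R] (J : Ideal R) (g : R) {r : ℕ} (j : Fin r → R)

/-- elementwise form of "`J` is generated on `D(g)` by the quasi-regular sequence `j`" -/
structure LocData : Prop where
  mem : ∀ k, j k ∈ J
  gen : ∀ x ∈ J, ∃ (N : ℕ) (v : Fin r → R), g ^ N * x = ∑ k, v k * j k
  qr : ∀ (n : ℕ) (Q : MvPolynomial (Fin r) R), Q.IsHomogeneous n →
    MvPolynomial.eval j Q ∈ J ^ (n + 1) → ∀ d : Fin r →₀ ℕ, ∃ N : ℕ, g ^ N * Q.coeff d ∈ J

theorem locData_of_lift (hj : ∀ k, j k ∈ J)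
    (hqr : CAlgX.IsQuasiRegular (fun k => algebraMap R (Localization.Away g) (j k)))
    (hsp : Ideal.span (Set.range (fun k => algebraMap R (Localization.Away g) (j k))) =
      J.map (algebraMap R (Localization.Away g))) : LocData R J g j := by
  refine ⟨hj, ?_, ?_⟩
  · intro x hx
    have hx' : algebraMap R (Localization.Away g) x ∈
        Ideal.span (Set.range (fun k => algebraMap R (Localization.Away g) (j k))) := by
      rw [hsp]
      exact Ideal.mem_map_of_mem _ hx
    obtain ⟨c, hc⟩ := Ideal.mem_span_range_iff_exists_fun.mp hx'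
    obtain ⟨b, hb⟩ := IsLocalization.exist_integer_multiples (Submonoid.powers g) Finset.univ c
    choose a ha using fun k => RingHom.mem_rangeS.mp (hb k (Finset.mem_univ k))
    have h2 : algebraMap R (Localization.Away g) ((b : R) * x) =
        algebraMap R (Localization.Away g) (∑ k, a k * j k) := by
      rw [map_mul, ← hc, Finset.mul_sum, map_sum]
      refine Finset.sum_congr rfl fun k _ => ?_
      rw [map_mul, ha k, Algebra.smul_def, mul_assoc]
    obtain ⟨c', hc'⟩ :=
      (IsLocalization.eq_iff_exists (Submonoid.powers g) (Localization.Away g)).mp h2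
    obtain ⟨N1, hN1⟩ := (Submonoid.mem_powers_iff _ _).mp c'.2
    obtain ⟨N2, hN2⟩ := (Submonoid.mem_powers_iff _ _).mp b.2
    refine ⟨N1 + N2, fun k => (c' : R) * a k, ?_⟩
    rw [pow_add, hN1, hN2, mul_assoc, hc', Finset.mul_sum]
    refine Finset.sum_congr rfl fun k _ => ?_
    rw [mul_assoc]
  · intro n Q hQ hev d
    have h1 : MvPolynomial.eval (fun k => algebraMap R (Localization.Away g) (j k))
        (MvPolynomial.map (algebraMap R (Localization.Away g)) Q) ∈
        Ideal.span (Set.range (fun k => algebraMap R (Localization.Away g) (j k))) ^ (n + 1) := by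
      rw [hsp, ← map_eval_eq, ← Ideal.map_pow]
      exact Ideal.mem_map_of_mem _ hev
    have h2 := hqr n _ (hQ.map _) h1 d
    rw [MvPolynomial.coeff_map, hsp] at h2
    obtain ⟨⟨⟨y, hy⟩, m⟩, h⟩ :=
      (IsLocalization.mem_map_algebraMap_iff (Submonoid.powers g) (Localization.Away g)).mp h2
    dsimp only at h
    rw [← map_mul] at h
    obtain ⟨c', hc'⟩ :=
      (IsLocalization.eq_iff_exists (Submonoid.powers g) (Localization.Away g)).mp h
    obtain ⟨N1, hN1⟩ := (Submonoid.mem_powers_iff _ _).mp c'.2
    obtain ⟨N2, hN2⟩ := (Submonoid.mem_powers_iff _ _).mp m.2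
    refine ⟨N1 + N2, ?_⟩
    have e : g ^ (N1 + N2) * Q.coeff d = (c' : R) * y := by
      rw [pow_add, hN1, hN2, ← hc']
      ring
    rw [e]
    exact Ideal.mul_mem_left _ _ hy

theorem exists_locData (f : Fin r → Localization.Away g) (hqr : CAlgX.IsQuasiRegular f)
    (hsp : Ideal.span (Set.range f) = J.map (algebraMap R (Localization.Away g))) :
    ∃ j : Fin r → R, LocData R J g j := by
  have hmem : ∀ k, f k ∈ J.map (algebraMap R (Localization.Away g)) := fun k => by
    rw [← hsp]
    exact Ideal.subset_span (Set.mem_range_self k)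
  have h1 : ∀ k, ∃ (y : R) (N : ℕ), y ∈ J ∧
      f k * algebraMap R (Localization.Away g) (g ^ N) =
        algebraMap R (Localization.Away g) y := by
    intro k
    obtain ⟨⟨⟨y, hy⟩, m⟩, h⟩ :=
      (IsLocalization.mem_map_algebraMap_iff (Submonoid.powers g) (Localization.Away g)).mp
        (hmem k)
    dsimp only at h
    obtain ⟨N, hN⟩ := (Submonoid.mem_powers_iff _ _).mp m.2
    exact ⟨y, N, hy, by rw [hN]; exact h⟩
  choose j N hjJ hjf using h1
  have hu : ∀ k, IsUnit (algebraMap R (Localization.Away g) (g ^ N k)) := fun k =>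
    IsLocalization.map_units (Localization.Away g)
      (⟨g ^ N k, pow_mem (Submonoid.mem_powers g) (N k)⟩ : Submonoid.powers g)
  have hspan : Ideal.span (Set.range (fun k => algebraMap R (Localization.Away g) (j k))) =
      Ideal.span (Set.range f) := by
    apply le_antisymm
    · rw [Ideal.span_le]
      rintro _ ⟨k, rfl⟩
      show algebraMap R (Localization.Away g) (j k) ∈ _
      rw [← hjf k]
      exact Ideal.mul_mem_right _ _ (Ideal.subset_span (Set.mem_range_self k))
    · rw [Ideal.span_le]
      rintro _ ⟨k, rfl⟩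
      have e : f k = algebraMap R (Localization.Away g) (j k) *
          (((hu k).unit⁻¹ : (Localization.Away g)ˣ) : Localization.Away g) := by
        rw [← hjf k, mul_assoc, IsUnit.mul_val_inv, mul_one]
      rw [SetLike.mem_coe, e]
      exact Ideal.mul_mem_right _ _ (Ideal.subset_span (Set.mem_range_self k))
  exact ⟨j, locData_of_lift R J g j hjJ (QRegSpanH1.main3824 f _ hqr hspan) (hspan.trans hsp)⟩

theorem quasiRegular_of_locData (h : LocData R J g j) :
    CAlgX.IsQuasiRegular (fun k => algebraMap R (Localization.Away g) (j k)) ∧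
      Ideal.span (Set.range (fun k => algebraMap R (Localization.Away g) (j k))) =
        J.map (algebraMap R (Localization.Away g)) := by
  have hunit : ∀ s : Submonoid.powers g,
      IsUnit (algebraMap R (Localization.Away g) (s : R)) :=
    fun s => IsLocalization.map_units (Localization.Away g) s
  have hsp : Ideal.span (Set.range (fun k => algebraMap R (Localization.Away g) (j k))) =
      J.map (algebraMap R (Localization.Away g)) := by
    apply le_antisymm
    · rw [Ideal.span_le]
      rintro _ ⟨k, rfl⟩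
      exact Ideal.mem_map_of_mem _ (h.mem k)
    · rw [Ideal.map, Ideal.span_le]
      rintro _ ⟨x, hx, rfl⟩
      obtain ⟨N, v, hv⟩ := h.gen x hx
      have h1 : algebraMap R (Localization.Away g) (g ^ N) *
          algebraMap R (Localization.Away g) x ∈
          Ideal.span (Set.range (fun k => algebraMap R (Localization.Away g) (j k))) := by
        rw [← map_mul, hv, map_sum]
        refine Ideal.sum_mem _ fun k _ => ?_
        rw [map_mul]
        exact Ideal.mul_mem_left _ _ (Ideal.subset_span (Set.mem_range_self k))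
      have hu := hunit ⟨g ^ N, pow_mem (Submonoid.mem_powers g) N⟩
      have h2 : algebraMap R (Localization.Away g) x =
          ((hu.unit⁻¹ : (Localization.Away g)ˣ) : Localization.Away g) *
            (algebraMap R (Localization.Away g) (g ^ N) *
              algebraMap R (Localization.Away g) x) := by
        rw [← mul_assoc, IsUnit.val_inv_mul, one_mul]
      rw [SetLike.mem_coe, h2]
      exact Ideal.mul_mem_left _ _ h1
  refine ⟨?_, hsp⟩
  intro n Q hQ hev d
  rw [hsp] at hev ⊢
  obtain ⟨b, hb⟩ := IsLocalization.exist_integer_multiples (Submonoid.powers g) Q.support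
    (fun e => Q.coeff e)
  have hb' : ∀ e, ∃ a : R, e ∈ Q.support → algebraMap R (Localization.Away g) a =
      algebraMap R (Localization.Away g) (b : R) * Q.coeff e := by
    intro e
    by_cases he : e ∈ Q.support
    · obtain ⟨a, ha⟩ := RingHom.mem_rangeS.mp (hb e he)
      exact ⟨a, fun _ => by rw [ha, Algebra.smul_def]⟩
    · exact ⟨0, fun h' => absurd h' he⟩
  choose a ha using hb'
  obtain ⟨Q', hQ'def⟩ : ∃ Q' : MvPolynomial (Fin r) R,
      Q' = ∑ e ∈ Q.support, MvPolynomial.monomial e (a e) := ⟨_, rfl⟩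
  have hQ'hom : Q'.IsHomogeneous n := by
    rw [hQ'def]
    apply MvPolynomial.IsHomogeneous.sum
    intro e he
    apply MvPolynomial.isHomogeneous_monomial
    by_contra hne
    exact (MvPolynomial.mem_support_iff.mp he) (hQ.coeff_eq_zero hne)
  have hmapQ' : MvPolynomial.map (algebraMap R (Localization.Away g)) Q' =
      MvPolynomial.C (algebraMap R (Localization.Away g) (b : R)) * Q := by
    conv_rhs => rw [← MvPolynomial.support_sum_monomial_coeff Q, Finset.mul_sum]
    rw [hQ'def, map_sum]
    refine Finset.sum_congr rfl fun e he => ?_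
    rw [MvPolynomial.map_monomial, ha e he, MvPolynomial.C_mul_monomial]
  have h3 : algebraMap R (Localization.Away g) (MvPolynomial.eval j Q') ∈
      (J ^ (n + 1)).map (algebraMap R (Localization.Away g)) := by
    rw [map_eval_eq, hmapQ', map_mul, MvPolynomial.eval_C, Ideal.map_pow]
    exact Ideal.mul_mem_left _ _ hev
  obtain ⟨⟨⟨y, hy⟩, m⟩, h4⟩ :=
    (IsLocalization.mem_map_algebraMap_iff (Submonoid.powers g) (Localization.Away g)).mp h3
  dsimp only at h4
  rw [← map_mul] at h4
  obtain ⟨c', hc'⟩ :=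
    (IsLocalization.eq_iff_exists (Submonoid.powers g) (Localization.Away g)).mp h4
  have h5 : MvPolynomial.eval j (MvPolynomial.C ((c' : R) * (m : R)) * Q') ∈ J ^ (n + 1) := by
    rw [map_mul, MvPolynomial.eval_C]
    have e : (c' : R) * (m : R) * MvPolynomial.eval j Q' = (c' : R) * y := by
      rw [← hc']
      ring
    rw [e]
    exact Ideal.mul_mem_left _ _ hy
  have h6 : (MvPolynomial.C ((c' : R) * (m : R)) * Q').IsHomogeneous n := by
    have := (MvPolynomial.isHomogeneous_C (Fin r) ((c' : R) * (m : R))).mul hQ'hom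
    rwa [zero_add] at this
  obtain ⟨N, hN⟩ := h.qr n _ h6 h5 d
  rw [MvPolynomial.coeff_C_mul] at hN
  by_cases hd : d ∈ Q.support
  · have hcoeff : Q'.coeff d = a d := by
      rw [hQ'def, MvPolynomial.coeff_sum]
      simp only [MvPolynomial.coeff_monomial]
      rw [Finset.sum_ite_eq' Q.support d, if_pos hd]
    rw [hcoeff] at hN
    obtain ⟨T, hT⟩ : ∃ T : Submonoid.powers g, (T : R) = g ^ N * ((c' : R) * (m : R)) * (b : R) :=
      ⟨⟨g ^ N, pow_mem (Submonoid.mem_powers g) N⟩ * (c' * m) * b, rfl⟩
    have h7 : algebraMap R (Localization.Away g) (T : R) * Q.coeff d ∈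
        J.map (algebraMap R (Localization.Away g)) := by
      have h8 := Ideal.mem_map_of_mem (algebraMap R (Localization.Away g)) hN
      have e : algebraMap R (Localization.Away g) (g ^ N * ((c' : R) * (m : R) * a d)) =
          algebraMap R (Localization.Away g) (T : R) * Q.coeff d := by
        rw [hT]
        simp only [map_mul]
        rw [ha d hd]
        ring
      rwa [e] at h8
    have hu := hunit T
    have e2 : Q.coeff d = ((hu.unit⁻¹ : (Localization.Away g)ˣ) : Localization.Away g) *
        (algebraMap R (Localization.Away g) (T : R) * Q.coeff d) := by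
      rw [← mul_assoc, IsUnit.val_inv_mul, one_mul]
    rw [e2]
    exact Ideal.mul_mem_left _ _ h7
  · rw [MvPolynomial.notMem_support_iff.mp hd]
    exact zero_mem _

theorem qr1_of_locData (h : LocData R J g j) (a : Fin r → R) (ha : ∑ k, a k * j k ∈ J ^ 2) :
    ∃ N : ℕ, ∀ k, g ^ N * a k ∈ J := by
  have h1 := h.qr 1 (QRegSpanH1.linPoly a) (QRegSpanH1.linPoly_hom a)
    (by rw [QRegSpanH1.eval_linPoly]; exact ha)
  choose N hN using fun k => h1 (Finsupp.single k 1)
  refine ⟨∑ k, N k, fun k => ?_⟩
  have h2 := hN k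
  rw [QRegSpanH1.coeff_linPoly] at h2
  obtain ⟨e, he⟩ := Nat.exists_eq_add_of_le
    (Finset.single_le_sum (fun _ _ => Nat.zero_le _) (Finset.mem_univ k) : N k ≤ ∑ k, N k)
  rw [he, pow_add, mul_comm (g ^ N k), mul_assoc]
  exact Ideal.mul_mem_left _ _ h2

end Loc


section Basis

variable (R : Type u) [CommRing R] (J : Ideal R) (g : R) {r : ℕ} (j : Fin r → R)

theorem exists_basis_of_locData (h : LocData R J g j) (gb : R ⧸ J)
    (hgb : Ideal.Quotient.mk J g = gb) :
    ∃ b : Module.Basis (Fin r) (Localization.Away gb) (LocalizedModule.Away gb J.Cotangent),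
      ∀ k, b k = LocalizedModule.mkLinearMap (Submonoid.powers gb) J.Cotangent
        (J.toCotangent ⟨j k, h.mem k⟩) := by
  have hli : LinearIndependent (Localization.Away gb)
      (fun k => LocalizedModule.mkLinearMap (Submonoid.powers gb) J.Cotangent
        (J.toCotangent ⟨j k, h.mem k⟩)) := by
    rw [Fintype.linearIndependent_iff]
    intro c hc k0
    obtain ⟨b, hb⟩ := IsLocalization.exist_integer_multiples (Submonoid.powers gb) Finset.univ c
    choose a ha using fun k => RingHom.mem_rangeS.mp (hb k (Finset.mem_univ k))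
    choose a' ha' using fun k => Ideal.Quotient.mk_surjective (a k)
    have h1 : LocalizedModule.mkLinearMap (Submonoid.powers gb) J.Cotangent
        (∑ k, a k • J.toCotangent ⟨j k, h.mem k⟩) = 0 := by
      rw [map_sum]
      have e : ∀ k, LocalizedModule.mkLinearMap (Submonoid.powers gb) J.Cotangent
          (a k • J.toCotangent ⟨j k, h.mem k⟩) =
          (b : R ⧸ J) • (c k • LocalizedModule.mkLinearMap (Submonoid.powers gb) J.Cotangent
            (J.toCotangent ⟨j k, h.mem k⟩)) := by
        intro k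
        rw [map_smul, ← algebraMap_smul (Localization.Away gb) (a k), ha k, smul_assoc]
      rw [Finset.sum_congr rfl (fun k _ => e k), ← Finset.smul_sum, hc, smul_zero]
    obtain ⟨t, ht⟩ := (IsLocalizedModule.eq_zero_iff (Submonoid.powers gb)
      (LocalizedModule.mkLinearMap (Submonoid.powers gb) J.Cotangent)).mp h1
    obtain ⟨N, hN⟩ := (Submonoid.mem_powers_iff _ _).mp t.2
    have h2 : J.toCotangent (∑ k, (g ^ N * a' k) • (⟨j k, h.mem k⟩ : J)) = 0 := by
      have e : J.toCotangent (∑ k, (g ^ N * a' k) • (⟨j k, h.mem k⟩ : J)) =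
          t • ∑ k, a k • J.toCotangent ⟨j k, h.mem k⟩ := by
        rw [Submonoid.smul_def, ← hN, ← hgb, Finset.smul_sum, map_sum]
        refine Finset.sum_congr rfl fun k _ => ?_
        rw [map_smul, mul_smul, ← ha' k, ← map_pow, ← Ideal.Quotient.algebraMap_eq,
          algebraMap_smul, algebraMap_smul]
      rw [e, ht]
    rw [Ideal.toCotangent_eq_zero, QRegSpanH1.coe_sum_smul] at h2
    obtain ⟨N', hN'⟩ := qr1_of_locData R J g j h _ h2
    have h3 : algebraMap (R ⧸ J) (Localization.Away gb) (a k0) = 0 := by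
      rw [IsLocalization.map_eq_zero_iff (Submonoid.powers gb) (Localization.Away gb)]
      refine ⟨⟨gb ^ (N' + N), pow_mem (Submonoid.mem_powers gb) _⟩, ?_⟩
      show gb ^ (N' + N) * a k0 = 0
      rw [← ha' k0, ← hgb, ← map_pow, ← map_mul, Ideal.Quotient.eq_zero_iff_mem, pow_add,
        mul_assoc]
      exact hN' k0
    rw [ha k0, Algebra.smul_def] at h3
    exact (IsUnit.mul_right_eq_zero (IsLocalization.map_units (Localization.Away gb) b)).mp h3
  have hsp : ⊤ ≤ Submodule.span (Localization.Away gb) (Set.range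
      (fun k => LocalizedModule.mkLinearMap (Submonoid.powers gb) J.Cotangent
        (J.toCotangent ⟨j k, h.mem k⟩))) := by
    intro y _
    obtain ⟨⟨m, s⟩, hy⟩ := IsLocalizedModule.surj (Submonoid.powers gb)
      (LocalizedModule.mkLinearMap (Submonoid.powers gb) J.Cotangent) y
    dsimp only at hy
    obtain ⟨x, rfl⟩ := J.toCotangent_surjective m
    obtain ⟨N, w, hw⟩ := h.gen x x.2
    have hx' : gb ^ N • J.toCotangent x =
        ∑ k, (Ideal.Quotient.mk J (w k)) • J.toCotangent ⟨j k, h.mem k⟩ := by
      rw [QRegSpanH1.cot_sum, ← hgb, ← map_pow, ← Ideal.Quotient.algebraMap_eq, algebraMap_smul,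
        ← map_smul]
      congr 1
      apply Subtype.ext
      rw [QRegSpanH1.coe_sum_smul, Submodule.coe_smul, smul_eq_mul]
      exact hw
    have h1 : (gb ^ N) • ((s : R ⧸ J) • y) ∈ Submodule.span (Localization.Away gb) (Set.range
        (fun k => LocalizedModule.mkLinearMap (Submonoid.powers gb) J.Cotangent
          (J.toCotangent ⟨j k, h.mem k⟩))) := by
      rw [← Submonoid.smul_def, hy, ← map_smul, hx', map_sum]
      refine Submodule.sum_mem _ fun k _ => ?_
      rw [map_smul]
      have h3 := Submodule.smul_mem (Submodule.span (Localization.Away gb) (Set.range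
        (fun k => LocalizedModule.mkLinearMap (Submonoid.powers gb) J.Cotangent
          (J.toCotangent ⟨j k, h.mem k⟩))))
        (algebraMap (R ⧸ J) (Localization.Away gb) (Ideal.Quotient.mk J (w k)))
        (Submodule.subset_span (Set.mem_range_self k))
      rwa [algebraMap_smul] at h3
    have hu : IsUnit (algebraMap (R ⧸ J) (Localization.Away gb) (gb ^ N * (s : R ⧸ J))) :=
      IsLocalization.map_units (Localization.Away gb)
        (⟨gb ^ N, pow_mem (Submonoid.mem_powers gb) N⟩ * s : Submonoid.powers gb)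
    have h2 : y = ((hu.unit⁻¹ : (Localization.Away gb)ˣ) : Localization.Away gb) •
        ((gb ^ N) • ((s : R ⧸ J) • y)) := by
      rw [← mul_smul, ← algebraMap_smul (Localization.Away gb) (gb ^ N * (s : R ⧸ J)) y,
        ← mul_smul, IsUnit.val_inv_mul, one_smul]
    rw [h2]
    exact Submodule.smul_mem _ _ h1
  exact ⟨Module.Basis.mk hli hsp, fun k => Module.Basis.mk_apply hli hsp k⟩

end Basis

section Forward

variable (R : Type u) [CommRing R] (J : Ideal R)

theorem fg_of_local (h : PP16.IsLocallyQuasiRegular R J) : J.FG := by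
  apply Ideal.fg_of_localizationSpan
    {g : R | (J.map (algebraMap R (Localization.Away g))).FG} ?_ (fun g => g.2)
  apply eq_top_of_forall_prime
  intro P _
  by_cases hJP : J ≤ P
  · obtain ⟨g, hg, r, f, -, hsp⟩ := h P hJP
    refine ⟨g, Ideal.subset_span ?_, hg⟩
    show (J.map (algebraMap R (Localization.Away g))).FG
    rw [← hsp]
    exact Submodule.fg_span (Set.finite_range f)
  · obtain ⟨g, hgJ, hgP⟩ := SetLike.not_le_iff_exists.mp hJP
    refine ⟨g, Ideal.subset_span ?_, hgP⟩
    show (J.map (algebraMap R (Localization.Away g))).FG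
    have e : J.map (algebraMap R (Localization.Away g)) = ⊤ := by
      apply Ideal.eq_top_of_isUnit_mem _ (Ideal.mem_map_of_mem _ hgJ)
      exact IsLocalization.map_units (Localization.Away g)
        (⟨g, Submonoid.mem_powers g⟩ : Submonoid.powers g)
    rw [e]
    exact ⟨{1}, by rw [Finset.coe_singleton, Ideal.span_singleton_one]⟩

theorem projective_of_local (h : PP16.IsLocallyQuasiRegular R J) :
    Module.Projective (R ⧸ J) J.Cotangent := by
  have hs : Ideal.span {gb : R ⧸ J |
      Module.Free (Localization.Away gb) (LocalizedModule.Away gb J.Cotangent) ∧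
        Module.Finite (Localization.Away gb) (LocalizedModule.Away gb J.Cotangent)} = ⊤ := by
    apply eq_top_of_forall_prime
    intro Pb _
    have hJP : J ≤ Pb.comap (Ideal.Quotient.mk J) := by
      intro x hx
      rw [Ideal.mem_comap, Ideal.Quotient.eq_zero_iff_mem.mpr hx]
      exact zero_mem _
    obtain ⟨g, hg, r, f, hqr, hsp⟩ := h (Pb.comap (Ideal.Quotient.mk J)) hJP
    obtain ⟨j, hloc⟩ := exists_locData R J g f hqr hsp
    obtain ⟨b, -⟩ := exists_basis_of_locData R J g j hloc _ rfl
    exact ⟨Ideal.Quotient.mk J g,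
      Ideal.subset_span ⟨Module.Free.of_basis b, Module.Finite.of_basis b⟩, hg⟩
  haveI : Module.FinitePresentation (R ⧸ J) J.Cotangent :=
    Module.FinitePresentation.of_localizationSpan _ hs (fun gb => by
      haveI := gb.2.1
      haveI := gb.2.2
      exact Module.finitePresentation_of_projective _ _)
  haveI : Module.Flat (R ⧸ J) J.Cotangent :=
    Module.flat_of_localized_span _ _ _ hs (fun gb => by
      haveI := gb.2.1
      exact Module.Flat.trans (R ⧸ J) (Localization.Away gb.1) _)
  exact Module.Flat.projective_of_finitePresentation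

variable {ι : Type u} [Fintype ι] (g : R) {r : ℕ} (j : Fin r → R)

theorem exists_pow_smul_eq_Xi (hloc : LocData R J g j) (x : Sym[R] ι J.Cotangent) :
    ∃ (N : ℕ) (w : Sym[R] ι (Fin r →₀ R)), g ^ N • x = Xi R J j hloc.mem w := by
  have hx : x ∈ (⊤ : Submodule R (Sym[R] ι J.Cotangent)) := trivial
  rw [← SymmetricPower.span_tprod_eq_top R ι J.Cotangent] at hx
  induction hx using Submodule.span_induction with
  | mem z hz =>
    obtain ⟨m, rfl⟩ := hz
    choose y hy using fun i => J.toCotangent_surjective (m i)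
    choose N v hv using fun i => hloc.gen (y i) (y i).2
    refine ⟨∑ i, N i, SymmetricPower.tprod R (fun i => fs (v i)), ?_⟩
    rw [Xi, map_tprod, ← Finset.prod_pow_eq_pow_sum,
      ← (SymmetricPower.tprod R).map_smul_univ (fun i => g ^ N i) m]
    congr 1
    funext i
    rw [← hy i, ← map_smul]
    show J.toCotangent (g ^ N i • y i) = J.toCotangent (lcJ' R J j hloc.mem (fs (v i)))
    congr 1
    apply Subtype.ext
    rw [coe_lcJ', linearCombination_fs, Submodule.coe_smul, smul_eq_mul]
    exact hv i
  | zero => exact ⟨0, 0, by rw [smul_zero, map_zero]⟩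
  | add u v _ _ hu hv =>
    obtain ⟨N1, w1, h1⟩ := hu
    obtain ⟨N2, w2, h2⟩ := hv
    refine ⟨N1 + N2, g ^ N2 • w1 + g ^ N1 • w2, ?_⟩
    have e1 : g ^ (N1 + N2) • u = g ^ N2 • (g ^ N1 • u) := by
      rw [smul_smul, ← pow_add, add_comm]
    have e2 : g ^ (N1 + N2) • v = g ^ N1 • (g ^ N2 • v) := by
      rw [smul_smul, ← pow_add]
    rw [smul_add, e1, e2, h1, h2, map_add, map_smul, map_smul]
  | smul c u _ hu =>
    obtain ⟨N1, w1, h1⟩ := hu
    exact ⟨N1, c • w1, by rw [map_smul, ← h1, smul_comm]⟩

theorem exists_pow_smul_eq_zero [Nonempty ι] (hloc : LocData R J g j) (x : Sym[R] ι J.Cotangent)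
    (hx : phiJ R J x = 0) : ∃ N : ℕ, g ^ N • x = 0 := by
  obtain ⟨N0, w, hw⟩ := exists_pow_smul_eq_Xi R J g j hloc x
  have h1 : phiJ R J (Xi R J j hloc.mem w) = 0 := by rw [← hw, map_smul, hx, smul_zero]
  obtain ⟨Q, hQ⟩ : ∃ Q, Q = Kp R w := ⟨_, rfl⟩
  have hwl : w = SymPowUH1.lam (ι := ι) (Fin r) Q := by rw [hQ, lam_Kp]
  have hQhom : Q.IsHomogeneous (Fintype.card ι) := by rw [hQ]; exact Kp_isHomogeneous R w
  have h2 : MvPolynomial.eval j Q ∈ J ^ (Fintype.card ι + 1) := by
    have h3 := jJ_phiJ_Xi R J j hloc.mem w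
    rw [h1, map_zero, ← hQ] at h3
    have h4 := Ideal.Quotient.eq_zero_iff_mem.mp h3.symm
    have h5 : MvPolynomial.aeval j Q = MvPolynomial.eval j Q := by
      rw [MvPolynomial.aeval_eq_eval]
    rwa [h5] at h4
  choose Nd hNd using hloc.qr (Fintype.card ι) Q hQhom h2
  refine ⟨(∑ d ∈ Q.support, Nd d) + N0, ?_⟩
  rw [pow_add, mul_smul, hw, hwl]
  have e1 : SymPowUH1.lam (ι := ι) (Fin r) Q =
      ∑ d ∈ Q.support, Q.coeff d • SymPowUH1.lamFun (R := R) (ι := ι) (Fin r) d := by
    conv_lhs => rw [← MvPolynomial.support_sum_monomial_coeff Q]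
    rw [map_sum]
    exact Finset.sum_congr rfl fun d _ => SymPowUH1.lam_monomial (Fin r) d _
  rw [e1, map_sum, Finset.smul_sum]
  apply Finset.sum_eq_zero
  intro d hd
  rw [map_smul, smul_smul]
  apply smul_eq_zero_of_mem R J
  obtain ⟨e, he⟩ := Nat.exists_eq_add_of_le
    (Finset.single_le_sum (fun _ _ => Nat.zero_le _) hd : Nd d ≤ ∑ d ∈ Q.support, Nd d)
  rw [he, pow_add, mul_comm (g ^ Nd d), mul_assoc]
  exact Ideal.mul_mem_left _ _ (hNd d)

theorem phiJ_injective_of_local [Nonempty ι] (h : PP16.IsLocallyQuasiRegular R J) :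
    Function.Injective (phiJ R J (ι := ι)) := by
  rw [injective_iff_map_eq_zero]
  intro x hx
  have hI : LinearMap.ker (LinearMap.toSpanSingleton R (Sym[R] ι J.Cotangent) x) = ⊤ := by
    apply eq_top_of_forall_prime
    intro P _
    by_cases hJP : J ≤ P
    · obtain ⟨g, hg, r, f, hqr, hsp⟩ := h P hJP
      obtain ⟨j, hloc⟩ := exists_locData R J g f hqr hsp
      obtain ⟨N, hN⟩ := exists_pow_smul_eq_zero R J g j hloc x hx
      refine ⟨g ^ N, ?_, fun hmem => hg (Ideal.IsPrime.mem_of_pow_mem inferInstance N hmem)⟩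
      rw [LinearMap.mem_ker, LinearMap.toSpanSingleton_apply]
      exact hN
    · obtain ⟨a, haJ, haP⟩ := SetLike.not_le_iff_exists.mp hJP
      refine ⟨a, ?_, haP⟩
      rw [LinearMap.mem_ker, LinearMap.toSpanSingleton_apply]
      exact smul_eq_zero_of_mem R J a haJ x
  have h1 : (1 : R) ∈ LinearMap.ker (LinearMap.toSpanSingleton R (Sym[R] ι J.Cotangent) x) := by
    rw [hI]
    exact Submodule.mem_top
  rw [LinearMap.mem_ker, LinearMap.toSpanSingleton_apply, one_smul] at h1
  exact h1

end Forward


section Backward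

variable (R : Type u) [CommRing R] (J : Ideal R)

theorem exists_basis_of_projective (hfg : J.FG) [Module.Projective (R ⧸ J) J.Cotangent]
    (P : Ideal R) [P.IsPrime] (hJP : J ≤ P) :
    ∃ (g : R) (_ : g ∉ P) (r : ℕ) (y : Fin r → J)
      (b : Module.Basis (Fin r) (Localization.Away (Ideal.Quotient.mk J g))
        (LocalizedModule.Away (Ideal.Quotient.mk J g) J.Cotangent)),
      ∀ k, b k = LocalizedModule.mkLinearMap (Submonoid.powers (Ideal.Quotient.mk J g))
        J.Cotangent (J.toCotangent (y k)) := by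
  haveI : Module.Finite R J := Module.Finite.iff_fg.mpr hfg
  haveI : Module.Finite R J.Cotangent :=
    Module.Finite.of_surjective J.toCotangent J.toCotangent_surjective
  haveI : Module.Finite (R ⧸ J) J.Cotangent :=
    Module.Finite.of_restrictScalars_finite R (R ⧸ J) J.Cotangent
  haveI : Module.FinitePresentation (R ⧸ J) J.Cotangent :=
    Module.finitePresentation_of_projective _ _
  haveI hPb : (P.map (Ideal.Quotient.mk J)).IsPrime :=
    Ideal.map_isPrime_of_surjective Ideal.Quotient.mk_surjective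
      (by rw [Ideal.mk_ker]; exact hJP)
  haveI : Module.Free (Localization.AtPrime (P.map (Ideal.Quotient.mk J)))
      (LocalizedModule (P.map (Ideal.Quotient.mk J)).primeCompl J.Cotangent) :=
    Module.free_of_flat_of_isLocalRing
  obtain ⟨gb, hgb, hfree, -⟩ := Module.FinitePresentation.exists_free_localizedModule_powers
    (P.map (Ideal.Quotient.mk J)).primeCompl
    (LocalizedModule.mkLinearMap (P.map (Ideal.Quotient.mk J)).primeCompl J.Cotangent)
    (Localization.AtPrime (P.map (Ideal.Quotient.mk J)))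
  obtain ⟨g, rfl⟩ := Ideal.Quotient.mk_surjective gb
  have hgP : g ∉ P := fun hg =>
    (Ideal.mem_primeCompl_iff.mp hgb) ((Ideal.mem_quotient_iff_mem hJP).mpr hg)
  haveI := hfree
  haveI : Module.Finite (Localization.Away (Ideal.Quotient.mk J g))
      (LocalizedModule.Away (Ideal.Quotient.mk J g) J.Cotangent) :=
    Module.Finite.of_isLocalizedModule (Submonoid.powers (Ideal.Quotient.mk J g))
      (LocalizedModule.mkLinearMap (Submonoid.powers (Ideal.Quotient.mk J g)) J.Cotangent)
  obtain ⟨b1, -⟩ : ∃ b1 : Module.Basis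
      (Fin (Fintype.card (Module.Free.ChooseBasisIndex (Localization.Away (Ideal.Quotient.mk J g))
        (LocalizedModule.Away (Ideal.Quotient.mk J g) J.Cotangent))))
      (Localization.Away (Ideal.Quotient.mk J g))
      (LocalizedModule.Away (Ideal.Quotient.mk J g) J.Cotangent), True :=
    ⟨(Module.Free.chooseBasis (Localization.Away (Ideal.Quotient.mk J g))
      (LocalizedModule.Away (Ideal.Quotient.mk J g) J.Cotangent)).reindex (Fintype.equivFin _),
      trivial⟩
  have hs : ∀ k, ∃ (y : J) (s : Submonoid.powers (Ideal.Quotient.mk J g)),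
      s • b1 k = LocalizedModule.mkLinearMap (Submonoid.powers (Ideal.Quotient.mk J g))
        J.Cotangent (J.toCotangent y) := by
    intro k
    obtain ⟨⟨m, s⟩, hms⟩ := IsLocalizedModule.surj (Submonoid.powers (Ideal.Quotient.mk J g))
      (LocalizedModule.mkLinearMap (Submonoid.powers (Ideal.Quotient.mk J g)) J.Cotangent) (b1 k)
    dsimp only at hms
    obtain ⟨y, rfl⟩ := J.toCotangent_surjective m
    exact ⟨y, s, hms⟩
  choose y s hys using hs
  refine ⟨g, hgP, _, y, b1.unitsSMul (fun k =>
    (IsLocalization.map_units (Localization.Away (Ideal.Quotient.mk J g)) (s k)).unit),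
    fun k => ?_⟩
  rw [Module.Basis.unitsSMul_apply, ← hys k, Units.smul_def, IsUnit.unit_spec, algebraMap_smul,
    Submonoid.smul_def]

variable (g : R) {r : ℕ}

theorem exists_pow_mul_sub_mem (gb : R ⧸ J) (hgb : Ideal.Quotient.mk J g = gb) (y : Fin r → J)
    (b : Module.Basis (Fin r) (Localization.Away gb) (LocalizedModule.Away gb J.Cotangent))
    (hb : ∀ k, b k = LocalizedModule.mkLinearMap (Submonoid.powers gb) J.Cotangent
      (J.toCotangent (y k)))
    (x : J) : ∃ (N : ℕ) (a : Fin r → R), g ^ N * (x : R) - ∑ k, a k * (y k : R) ∈ J ^ 2 := by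
  obtain ⟨u, hu⟩ : ∃ u, u = LocalizedModule.mkLinearMap (Submonoid.powers gb) J.Cotangent
      (J.toCotangent x) := ⟨_, rfl⟩
  obtain ⟨bd, hbd⟩ := IsLocalization.exist_integer_multiples (Submonoid.powers gb) Finset.univ
    (fun k => b.repr u k)
  choose a ha using fun k => RingHom.mem_rangeS.mp (hbd k (Finset.mem_univ k))
  choose a' ha' using fun k => Ideal.Quotient.mk_surjective (a k)
  have h1 : LocalizedModule.mkLinearMap (Submonoid.powers gb) J.Cotangent
      ((bd : R ⧸ J) • J.toCotangent x - ∑ k, a k • J.toCotangent (y k)) = 0 := by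
    rw [map_sub, map_smul, map_sum, sub_eq_zero, ← hu]
    conv_lhs => rw [← b.sum_repr u, Finset.smul_sum]
    refine Finset.sum_congr rfl fun k _ => ?_
    rw [map_smul, ← hb k, ← algebraMap_smul (Localization.Away gb) (a k) (b k), ha k, smul_assoc]
  obtain ⟨t, ht⟩ := (IsLocalizedModule.eq_zero_iff (Submonoid.powers gb)
    (LocalizedModule.mkLinearMap (Submonoid.powers gb) J.Cotangent)).mp h1
  obtain ⟨N1, hN1⟩ := (Submonoid.mem_powers_iff _ _).mp t.2
  obtain ⟨N2, hN2⟩ := (Submonoid.mem_powers_iff _ _).mp bd.2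
  refine ⟨N1 + N2, fun k => g ^ N1 * a' k, ?_⟩
  have h2 : J.toCotangent (g ^ (N1 + N2) • x - ∑ k, (g ^ N1 * a' k) • y k) = 0 := by
    have e : J.toCotangent (g ^ (N1 + N2) • x - ∑ k, (g ^ N1 * a' k) • y k) =
        t • ((bd : R ⧸ J) • J.toCotangent x - ∑ k, a k • J.toCotangent (y k)) := by
      rw [Submonoid.smul_def, ← hN1, ← hN2, ← hgb, smul_sub, Finset.smul_sum, map_sub, map_smul,
        map_sum]
      congr 1
      · rw [pow_add, mul_smul, ← map_pow, ← map_pow, ← Ideal.Quotient.algebraMap_eq,
          algebraMap_smul, algebraMap_smul]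
      · refine Finset.sum_congr rfl fun k _ => ?_
        rw [map_smul, mul_smul, ← ha' k, ← map_pow, ← Ideal.Quotient.algebraMap_eq,
          algebraMap_smul, algebraMap_smul]
    rw [e, ht]
  rw [Ideal.toCotangent_eq_zero] at h2
  have e2 : ((g ^ (N1 + N2) • x - ∑ k, (g ^ N1 * a' k) • y k : J) : R) =
      g ^ (N1 + N2) * (x : R) - ∑ k, g ^ N1 * a' k * (y k : R) := by
    rw [Submodule.coe_sub, Submodule.coe_smul, smul_eq_mul, QRegSpanH1.coe_sum_smul]
  rw [e2] at h2
  exact h2

/-- coordinates w.r.t. a basis of the localized cotangent module -/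
noncomputable def cbar (gb : R ⧸ J)
    (b : Module.Basis (Fin r) (Localization.Away gb) (LocalizedModule.Away gb J.Cotangent)) :
    J.Cotangent →ₗ[R] (Fin r →₀ Localization.Away gb) :=
  ((b.repr.toLinearMap.restrictScalars (R ⧸ J)) ∘ₗ
    LocalizedModule.mkLinearMap (Submonoid.powers gb) J.Cotangent).restrictScalars R

theorem cbar_apply (gb : R ⧸ J)
    (b : Module.Basis (Fin r) (Localization.Away gb) (LocalizedModule.Away gb J.Cotangent))
    (m : J.Cotangent) :
    cbar R J gb b m =
      b.repr (LocalizedModule.mkLinearMap (Submonoid.powers gb) J.Cotangent m) := rfl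

theorem exists_mul_mem_span (hfg : J.FG) (P : Ideal R) [P.IsPrime] (hJP : J ≤ P)
    (hg : g ∉ P) (j : Fin r → R)
    (hi : ∀ x ∈ J, ∃ (N : ℕ) (a : Fin r → R), g ^ N * x - ∑ k, a k * j k ∈ J ^ 2) :
    ∃ g' : R, g' ∉ P ∧ ∀ x ∈ J, g' * x ∈ Ideal.span (Set.range j) := by
  classical
  obtain ⟨m, x, hx⟩ := Submodule.fg_iff_exists_fin_generating_family.mp hfg
  have hxJ : ∀ i, x i ∈ J := fun i => by
    rw [← hx]
    exact Submodule.subset_span (Set.mem_range_self i)
  choose N a ha using fun i => hi (x i) (hxJ i)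
  have hJ2 : J ^ 2 = J • Submodule.span R (Set.range x) := by
    rw [hx, pow_two, smul_eq_mul]
  have hc : ∀ i, ∃ c : Fin m → R, (∀ l, c l ∈ J) ∧
      g ^ N i * x i - ∑ k, a i k * j k = ∑ l, c l * x l := by
    intro i
    have h1 := ha i
    rw [hJ2, Submodule.mem_ideal_smul_span_iff_exists_sum] at h1
    obtain ⟨cf, hcf, hsum⟩ := h1
    refine ⟨fun l => cf l, hcf, ?_⟩
    rw [← hsum, Finsupp.sum_fintype cf (fun i c => c • x i) (fun _ => zero_smul _ _)]
    simp only [smul_eq_mul]
  choose c hcJ hc using hc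
  obtain ⟨B, hBdef⟩ : ∃ B : Matrix (Fin m) (Fin m) R,
      B = Matrix.diagonal (fun i => g ^ N i) - Matrix.of c := ⟨_, rfl⟩
  have hB : ∀ i, (B.mulVec x) i ∈ Ideal.span (Set.range j) := by
    intro i
    have e : (B.mulVec x) i = ∑ k, a i k * j k := by
      have e1 : (B.mulVec x) i = g ^ N i * x i - ∑ l, c i l * x l := by
        rw [hBdef, Matrix.sub_mulVec, Pi.sub_apply, Matrix.mulVec_diagonal]
        rfl
      rw [e1, ← hc i]
      ring
    rw [e]
    exact Ideal.sum_mem _ fun k _ =>
      Ideal.mul_mem_left _ _ (Ideal.subset_span (Set.mem_range_self k))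
  have hdet : ∀ i, B.det * x i ∈ Ideal.span (Set.range j) := by
    intro i
    have h1 : (B.adjugate * B).mulVec x = B.det • x := by
      rw [Matrix.adjugate_mul, Matrix.smul_mulVec, Matrix.one_mulVec]
    have h2 : B.det * x i = (B.adjugate.mulVec (B.mulVec x)) i := by
      rw [Matrix.mulVec_mulVec, h1]
      rfl
    rw [h2]
    show ∑ p, B.adjugate i p * (B.mulVec x) p ∈ _
    exact Ideal.sum_mem _ fun p _ => Ideal.mul_mem_left _ _ (hB p)
  have hdetP : B.det ∉ P := by
    intro hmem
    have h1 : Ideal.Quotient.mk J B.det = Ideal.Quotient.mk J (∏ i, g ^ N i) := by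
      rw [RingHom.map_det]
      have e : (Ideal.Quotient.mk J).mapMatrix B =
          Matrix.diagonal (fun i => Ideal.Quotient.mk J (g ^ N i)) := by
        ext p q
        rw [hBdef, RingHom.mapMatrix_apply, Matrix.map_apply, Matrix.sub_apply, map_sub,
          Matrix.of_apply, Ideal.Quotient.eq_zero_iff_mem.mpr (hcJ p q), sub_zero,
          Matrix.diagonal_apply, Matrix.diagonal_apply]
        split_ifs <;> simp
      rw [e, Matrix.det_diagonal, map_prod]
    have h2 : B.det - ∏ i, g ^ N i ∈ J := by
      rw [← Ideal.Quotient.eq_zero_iff_mem, map_sub, h1, sub_self]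
    have h3 : ∏ i, g ^ N i ∈ P := by
      have h4 := P.sub_mem hmem (hJP h2)
      rwa [sub_sub_cancel] at h4
    rw [Finset.prod_pow_eq_pow_sum] at h3
    exact hg (Ideal.IsPrime.mem_of_pow_mem inferInstance _ h3)
  refine ⟨B.det, hdetP, fun z hz => ?_⟩
  rw [← hx] at hz
  obtain ⟨cz, rfl⟩ := Ideal.mem_span_range_iff_exists_fun.mp hz
  rw [Finset.mul_sum]
  refine Ideal.sum_mem _ fun i _ => ?_
  rw [mul_left_comm]
  exact Ideal.mul_mem_left _ _ (hdet i)

theorem local_of_rhs (hfg : J.FG) (hproj : Module.Projective (R ⧸ J) J.Cotangent)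
    (hsym : PP16.SymGrBijective R J) : PP16.IsLocallyQuasiRegular R J := by
  intro P _ hJP
  obtain ⟨g, hg, r, y, b, hb⟩ := exists_basis_of_projective R J hfg P hJP
  obtain ⟨g', hg', hgen⟩ := exists_mul_mem_span R J g hfg P hJP hg (fun k => (y k : R))
    (fun x hx => exists_pow_mul_sub_mem R J g _ rfl y b hb ⟨x, hx⟩)
  have hloc : LocData R J (g * g') (fun k => (y k : R)) := by
    refine ⟨fun k => (y k).2, ?_, ?_⟩
    · intro x hx
      obtain ⟨v, hv⟩ := Ideal.mem_span_range_iff_exists_fun.mp (hgen x hx)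
      refine ⟨1, fun k => g * v k, ?_⟩
      rw [pow_one, mul_assoc, ← hv, Finset.mul_sum]
      refine Finset.sum_congr rfl fun k _ => ?_
      rw [mul_assoc]
    · intro n Q hQ hev d
      rcases Nat.eq_zero_or_pos n with hn | hn
      · subst hn
        have hC : Q = MvPolynomial.C (Q.coeff 0) := by
          ext e
          rw [MvPolynomial.coeff_C]
          by_cases he : 0 = e
          · rw [if_pos he, he]
          · rw [if_neg he]
            apply hQ.coeff_eq_zero
            intro h0
            rw [Finsupp.degree_eq_zero_iff] at h0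
            exact he h0.symm
        obtain ⟨a0, rfl⟩ : ∃ a0, Q = MvPolynomial.C a0 := ⟨_, hC⟩
        rw [MvPolynomial.eval_C, zero_add, pow_one] at hev
        refine ⟨0, ?_⟩
        rw [pow_zero, one_mul, MvPolynomial.coeff_C]
        split_ifs
        · exact hev
        · exact zero_mem _
      · haveI : Nonempty (ULift.{u} (Fin n)) := ⟨⟨⟨0, hn⟩⟩⟩
        have hcard : Fintype.card (ULift.{u} (Fin n)) = n := by simp
        obtain ⟨φ, hφ, hφbij⟩ := hsym (ULift.{u} (Fin n))
        have hinj : Function.Injective (phiJ R J (ι := ULift.{u} (Fin n))) := by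
          rw [← eq_phiJ R J φ hφ]
          exact hφbij.1
        have hc : ∀ k, cbar R J _ b (J.toCotangent ⟨(y k : R), (y k).2⟩) =
            Finsupp.single k 1 := by
          intro k
          rw [cbar_apply, Subtype.coe_eta, ← hb k, Module.Basis.repr_self]
        have hmap := map_eq_zero_of_injective R J (fun k => (y k : R)) (fun k => (y k).2) hinj
          (cbar R J _ b) hc Q (by rw [hcard]; exact hQ) (by rw [hcard]; exact hev)
        have h1 := congrArg (MvPolynomial.coeff d) hmap
        rw [MvPolynomial.coeff_map, MvPolynomial.coeff_zero,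
          IsScalarTower.algebraMap_apply R (R ⧸ J) (Localization.Away (Ideal.Quotient.mk J g)),
          IsLocalization.map_eq_zero_iff (Submonoid.powers (Ideal.Quotient.mk J g))
            (Localization.Away (Ideal.Quotient.mk J g))] at h1
        obtain ⟨t, ht⟩ := h1
        obtain ⟨N, hN⟩ := (Submonoid.mem_powers_iff _ _).mp t.2
        refine ⟨N, ?_⟩
        rw [mul_pow, mul_comm (g ^ N), mul_assoc]
        apply Ideal.mul_mem_left
        rw [← Ideal.Quotient.eq_zero_iff_mem, map_mul, map_pow, hN]
        exact ht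
  obtain ⟨hqr, hsp⟩ := quasiRegular_of_locData R J (g * g') _ hloc
  exact ⟨g * g', fun h => (Ideal.IsPrime.mem_or_mem inferInstance h).elim hg hg', r, _, hqr, hsp⟩

/-- S3826 -/
theorem main : PP16.IsLocallyQuasiRegular R J ↔
    J.FG ∧ Module.Projective (R ⧸ J) J.Cotangent ∧ PP16.SymGrBijective R J := by
  constructor
  · intro h
    refine ⟨fg_of_local R J h, projective_of_local R J h, ?_⟩
    intro ι _ _
    exact ⟨phiJ R J, fun x => by rw [phiJ_tprod_cot]; rfl, phiJ_injective_of_local R J h,
      phiJ_surjective R J⟩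
  · rintro ⟨hfg, hproj, hsym⟩
    exact local_of_rhs R J hfg hproj hsym

end Backward

end Groth.Agent.Lib.QRegLocH1
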