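import Mathlib
import Groth.Prelude.Def_PP16
import Groth.Agent.Lib.QRegLoc_helper1
import Groth.Agent.Lib.FSNilp_helper3

/-!
# Lifting syntomic algebras (helper6), part 6: local data of a quasi-regular ideal, and the ring map
from the local model
-/

set_option autoImplicit false
set_option linter.style.haveILetI false
universe u

namespace Groth.Agent.Lib.SyntLiftH6

open Groth.Agent.Lib.QRegLocH1

section L1

variable {B : Type u} [CommRing B] (𝔞 K : Ideal B) {m : ℕ} (w : Fin m → B)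

/-- Local data of the quasi-regular ideal `K/𝔞` near a prime `q₀ ⊇ K`, lifted to `B`. -/
theorem exists_local_data (h𝔞K : 𝔞 ≤ K) (hw : K = Ideal.span (Set.range w) ⊔ 𝔞)
    (hqr : PP16.IsLocallyQuasiRegular (B ⧸ 𝔞) (K.map (Ideal.Quotient.mk 𝔞)))
    (q₀ : Ideal B) [q₀.IsPrime] (hKq : K ≤ q₀) :
    ∃ (g : B) (r : ℕ) (j : Fin r → B) (N : ℕ), g ∉ q₀ ∧ (∀ k, j k ∈ K) ∧
      (∀ i, ∃ V : Fin r → B, g ^ N * w i - ∑ k, V k * j k ∈ 𝔞) ∧
      CAlgX.IsQuasiRegular (fun k => algebraMap (B ⧸ 𝔞) (Localization.Away (Ideal.Quotient.mk 𝔞 g))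
        (Ideal.Quotient.mk 𝔞 (j k))) := by
  classical
  have hsurj : Function.Surjective (Ideal.Quotient.mk 𝔞) := Ideal.Quotient.mk_surjective
  have hker : RingHom.ker (Ideal.Quotient.mk 𝔞) ≤ q₀ := by
    rw [Ideal.mk_ker]; exact h𝔞K.trans hKq
  haveI : (q₀.map (Ideal.Quotient.mk 𝔞)).IsPrime := Ideal.map_isPrime_of_surjective hsurj hker
  obtain ⟨gb, hgb, r, l, hl, hsp⟩ := hqr (q₀.map (Ideal.Quotient.mk 𝔞)) (Ideal.map_mono hKq)
  obtain ⟨jb, hLD⟩ := exists_locData (B ⧸ 𝔞) (K.map (Ideal.Quotient.mk 𝔞)) gb l hl hsp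
  obtain ⟨g, rfl⟩ := hsurj gb
  have hg : g ∉ q₀ := fun h => hgb (Ideal.mem_map_of_mem _ h)
  have hj : ∀ k, ∃ x ∈ K, Ideal.Quotient.mk 𝔞 x = jb k := fun k =>
    (Ideal.mem_map_iff_of_surjective _ hsurj).mp (hLD.mem k)
  choose j hjK hjb using hj
  have hwK : ∀ i, w i ∈ K := fun i => by
    rw [hw]; exact Ideal.mem_sup_left (Ideal.subset_span ⟨i, rfl⟩)
  have hgen : ∀ i, ∃ (N : ℕ) (v : Fin r → B ⧸ 𝔞),
      Ideal.Quotient.mk 𝔞 g ^ N * Ideal.Quotient.mk 𝔞 (w i) = ∑ k, v k * jb k := fun i =>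
    hLD.gen _ (Ideal.mem_map_of_mem _ (hwK i))
  choose Ni vb hvb using hgen
  refine ⟨g, r, j, ∑ i, Ni i, hg, hjK, fun i => ?_, ?_⟩
  · choose V hV using fun k => hsurj (Ideal.Quotient.mk 𝔞 g ^ (∑ i, Ni i - Ni i) * vb i k)
    refine ⟨V, ?_⟩
    rw [← Ideal.Quotient.eq_zero_iff_mem, map_sub, map_mul, map_pow, map_sum]
    simp only [map_mul, hV, hjb]
    have hle : Ni i ≤ ∑ i, Ni i := Finset.single_le_sum (fun _ _ => Nat.zero_le _) (Finset.mem_univ i)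
    have h1 : Ideal.Quotient.mk 𝔞 g ^ (∑ i, Ni i) =
        Ideal.Quotient.mk 𝔞 g ^ (∑ i, Ni i - Ni i) * Ideal.Quotient.mk 𝔞 g ^ Ni i := by
      rw [← pow_add, Nat.sub_add_cancel hle]
    rw [h1, mul_assoc, hvb i, Finset.mul_sum, sub_eq_zero]
    exact Finset.sum_congr rfl fun k _ => by ring
  · have h1 := (quasiRegular_of_locData (B ⧸ 𝔞) (K.map (Ideal.Quotient.mk 𝔞))
      (Ideal.Quotient.mk 𝔞 g) jb hLD).1
    have h2 : (fun k => algebraMap (B ⧸ 𝔞) (Localization.Away (Ideal.Quotient.mk 𝔞 g)) (jb k)) =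
        fun k => algebraMap (B ⧸ 𝔞) (Localization.Away (Ideal.Quotient.mk 𝔞 g))
          (Ideal.Quotient.mk 𝔞 (j k)) := by
      funext k; rw [hjb]
    rw [h2] at h1
    exact h1

end L1

section L2

variable {R B B'' : Type u} [CommRing R] [CommRing B] [CommRing B'']
  [Algebra R B] [Algebra R B''] [Algebra B B''] [IsScalarTower R B B''] [Module.Flat B B'']

/-- The flat ring map from the local model `(B/IB)_g` to `B''/IB''`. -/
theorem exists_flat_map_of_localization (I : Ideal R) (g : B) (hg : IsUnit (algebraMap B B'' g)) :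
    ∃ χ : Localization.Away (Ideal.Quotient.mk (I.map (algebraMap R B)) g) →+*
        B'' ⧸ I.map (algebraMap R B''),
      χ.Flat ∧ ∀ b : B, χ (algebraMap (B ⧸ I.map (algebraMap R B)) _ (Ideal.Quotient.mk _ b)) =
        Ideal.Quotient.mk _ (algebraMap B B'' b) := by
  obtain ⟨𝔞, h𝔞def⟩ : ∃ 𝔞 : Ideal B, 𝔞 = I.map (algebraMap R B) := ⟨_, rfl⟩
  rw [← h𝔞def]
  have h𝔞 : 𝔞.map (algebraMap B B'') = I.map (algebraMap R B'') := by
    rw [h𝔞def, Ideal.map_map, ← IsScalarTower.algebraMap_eq]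
  let χ₁ : B ⧸ 𝔞 →+* B'' ⧸ 𝔞.map (algebraMap B B'') := algebraMap _ _
  have hχ₁ : χ₁.Flat := RingHom.flat_algebraMap_iff.mpr (Groth.Agent.Lib.FSNilpH3.flat_quot 𝔞)
  let ε : (B'' ⧸ 𝔞.map (algebraMap B B'')) ≃+* (B'' ⧸ I.map (algebraMap R B'')) :=
    Ideal.quotEquivOfEq h𝔞
  let χ₀ : B ⧸ 𝔞 →+* B'' ⧸ I.map (algebraMap R B'') := ε.toRingHom.comp χ₁
  have hχ₀ : χ₀.Flat := RingHom.Flat.comp hχ₁ (RingHom.Flat.of_bijective ε.bijective)
  have hχ₀mk : ∀ b : B, χ₀ (Ideal.Quotient.mk 𝔞 b) = Ideal.Quotient.mk _ (algebraMap B B'' b) := by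
    intro b
    show ε (algebraMap (B ⧸ 𝔞) (B'' ⧸ 𝔞.map (algebraMap B B'')) (Ideal.Quotient.mk 𝔞 b)) = _
    have h1 : algebraMap (B ⧸ 𝔞) (B'' ⧸ 𝔞.map (algebraMap B B'')) (Ideal.Quotient.mk 𝔞 b) =
        Ideal.Quotient.mk _ (algebraMap B B'' b) := rfl
    rw [h1]
    exact Ideal.quotEquivOfEq_mk h𝔞 _
  have hunit : IsUnit (χ₀ (Ideal.Quotient.mk 𝔞 g)) := by
    rw [hχ₀mk]; exact hg.map _
  refine ⟨IsLocalization.Away.lift (Ideal.Quotient.mk 𝔞 g) hunit, ?_, fun b => ?_⟩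
  · letI := χ₀.toAlgebra
    letI := (IsLocalization.Away.lift (S := Localization.Away (Ideal.Quotient.mk 𝔞 g))
      (Ideal.Quotient.mk 𝔞 g) hunit).toAlgebra
    haveI : IsScalarTower (B ⧸ 𝔞) (Localization.Away (Ideal.Quotient.mk 𝔞 g))
        (B'' ⧸ I.map (algebraMap R B'')) :=
      IsScalarTower.of_algebraMap_eq fun x =>
        (IsLocalization.Away.lift_eq (Ideal.Quotient.mk 𝔞 g) hunit x).symm
    haveI : Module.Flat (B ⧸ 𝔞) (B'' ⧸ I.map (algebraMap R B'')) := hχ₀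
    exact (Module.flat_iff_of_isLocalization (Localization.Away (Ideal.Quotient.mk 𝔞 g))
      (Submonoid.powers (Ideal.Quotient.mk 𝔞 g)) (B'' ⧸ I.map (algebraMap R B''))).mpr inferInstance
  · rw [IsLocalization.Away.lift_eq, hχ₀mk]

end L2

end Groth.Agent.Lib.SyntLiftH6
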