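import Mathlib
import Groth.Prelude.Def_PP16
import Groth.Agent.Lib.SyntLift4_helper6
import Groth.Agent.Lib.SyntLift6_helper6
import Groth.Agent.Lib.FlatLocFP1_helper6

/-!
# Lifting syntomic algebras (helper6), part 7: flatness at a prime, second stage
-/

set_option autoImplicit false
set_option linter.style.haveILetI false
universe u

namespace Groth.Agent.Lib.SyntLiftH6

section LA3

variable {R B B' B'' : Type u} [CommRing R] [CommRing B] [CommRing B'] [CommRing B'']
  [Algebra R B] [Algebra R B'] [Algebra B B'] [IsScalarTower R B B']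
  [Algebra R B''] [Algebra B B''] [Algebra B' B''] [IsScalarTower R B' B''] [IsScalarTower B B' B'']
  [IsScalarTower R B B'']
  [Module.Flat R B''] [Algebra.FinitePresentation R B''] [Module.Flat B B'']

theorem flat_at_prime_of_local_generators (t : B') [IsLocalization.Away t B'']
    (I : Ideal R) (K : Ideal B)
    [Algebra (R ⧸ I) (B' ⧸ K.map (algebraMap B B'))]
    [IsScalarTower R (R ⧸ I) (B' ⧸ K.map (algebraMap B B'))]
    [Module.Flat (R ⧸ I) (B' ⧸ K.map (algebraMap B B'))]
    (J' : Ideal B') (g : B) {r : ℕ} (j : Fin r → B)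
    (hqrj : CAlgX.IsQuasiRegular (fun k => algebraMap (B ⧸ I.map (algebraMap R B))
      (Localization.Away (Ideal.Quotient.mk (I.map (algebraMap R B)) g))
      (Ideal.Quotient.mk (I.map (algebraMap R B)) (j k))))
    (hgu : IsUnit (algebraMap B B'' g))
    (ν : Fin r → B') (h₀ h' : B') (hu₀ : IsUnit (algebraMap B' B'' h₀))
    (hu' : IsUnit (algebraMap B' B'' h'))
    (hC1 : ∀ k, ν k ∈ J')
    (hC2 : ∀ k, ν k - h₀ * algebraMap B B' (j k) ∈ I.map (algebraMap R B'))
    (hC4 : ∀ x ∈ J', h' * x ∈ Ideal.span (Set.range ν))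
    (hJK : J' ≤ K.map (algebraMap B B'))
    (hKJ : ∀ x ∈ K.map (algebraMap B B'), h₀ * x ∈ J' ⊔ I.map (algebraMap R B'))
    (h𝔞K' : I.map (algebraMap R B') ≤ K.map (algebraMap B B'))
    (q : Ideal B') [q.IsPrime] (htq : t ∉ q) (hKq : K.map (algebraMap B B') ≤ q) :
    Module.Flat R (LocalizedModule q.primeCompl (B' ⧸ J')) := by
  classical
  obtain ⟨K', hK'⟩ : ∃ K' : Ideal B', K' = K.map (algebraMap B B') := ⟨_, rfl⟩
  obtain ⟨η₀, hη₀⟩ := hu₀.exists_left_inv
  obtain ⟨η', hη'⟩ := hu'.exists_left_inv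
  have h𝔞'' : (I.map (algebraMap R B')).map (algebraMap B' B'') = I.map (algebraMap R B'') := by
    rw [Ideal.map_map, ← IsScalarTower.algebraMap_eq]
  obtain ⟨f', hf'⟩ : ∃ f' : Fin r → B'', f' = fun k => η₀ * algebraMap B' B'' (ν k) := ⟨_, rfl⟩
  have hf'k : ∀ k, f' k = η₀ * algebraMap B' B'' (ν k) := fun k => by rw [hf']
  have hνf' : ∀ k, algebraMap B' B'' (ν k) = algebraMap B' B'' h₀ * f' k := fun k => by
    rw [hf'k, ← mul_assoc, mul_comm _ η₀, hη₀, one_mul]
  -- (a)
  have ha : Ideal.span (Set.range f') = J'.map (algebraMap B' B'') := by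
    apply le_antisymm
    · rw [Ideal.span_le]
      rintro _ ⟨k, rfl⟩
      rw [SetLike.mem_coe, hf'k]
      exact Ideal.mul_mem_left _ _ (Ideal.mem_map_of_mem _ (hC1 k))
    · rw [Ideal.map_le_iff_le_comap]
      intro x hx
      rw [Ideal.mem_comap]
      have h1 : algebraMap B' B'' x = η' * algebraMap B' B'' (h' * x) := by
        rw [map_mul, ← mul_assoc, hη', one_mul]
      rw [h1]
      refine Ideal.mul_mem_left _ _ ?_
      have h2 := Ideal.mem_map_of_mem (algebraMap B' B'') (hC4 x hx)
      rw [Ideal.map_span, ← Set.range_comp] at h2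
      refine (Ideal.span_le.mpr ?_) h2
      rintro _ ⟨k, rfl⟩
      rw [SetLike.mem_coe, Function.comp_apply, hνf']
      exact Ideal.mul_mem_left _ _ (Ideal.subset_span ⟨k, rfl⟩)
  -- (c)
  have hc : ∀ k, f' k - algebraMap B B'' (j k) ∈ I.map (algebraMap R B'') := by
    intro k
    have h1 : f' k - algebraMap B B'' (j k) =
        η₀ * algebraMap B' B'' (ν k - h₀ * algebraMap B B' (j k)) := by
      rw [map_sub, map_mul, ← IsScalarTower.algebraMap_apply B B' B'', mul_sub, ← mul_assoc, hη₀,
        one_mul, hf'k]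
    rw [h1, ← h𝔞'']
    exact Ideal.mul_mem_left _ _ (Ideal.mem_map_of_mem _ (hC2 k))
  -- (e)
  have he : I.map (algebraMap R B'') ⊔ Ideal.span (Set.range f') =
      (K.map (algebraMap B B')).map (algebraMap B' B'') := by
    apply le_antisymm
    · refine sup_le ?_ ?_
      · rw [← h𝔞'']; exact Ideal.map_mono h𝔞K'
      · rw [ha]; exact Ideal.map_mono hJK
    · rw [Ideal.map_le_iff_le_comap]
      intro x hx
      rw [Ideal.mem_comap]
      have h1 : algebraMap B' B'' x = η₀ * algebraMap B' B'' (h₀ * x) := by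
        rw [map_mul, ← mul_assoc, hη₀, one_mul]
      rw [h1]
      refine Ideal.mul_mem_left _ _ ?_
      have h2 := Ideal.mem_map_of_mem (algebraMap B' B'') (hKJ x hx)
      rw [Ideal.map_sup, h𝔞'', ← ha, sup_comm] at h2
      exact h2
  -- the prime of `B''`
  have hdisj : Disjoint (Submonoid.powers t : Set B') (q : Set B') :=
    (Ideal.disjoint_powers_iff_notMem t (Ideal.IsPrime.isRadical inferInstance)).mpr htq
  haveI hq''prime : (q.map (algebraMap B' B'')).IsPrime :=
    IsLocalization.isPrime_of_isPrime_disjoint (Submonoid.powers t) B'' q inferInstance hdisj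
  have hq''comap : (q.map (algebraMap B' B'')).comap (algebraMap B' B'') = q :=
    IsLocalization.comap_map_of_isPrime_disjoint (Submonoid.powers t) B'' inferInstance hdisj
  have hKq'' : (K.map (algebraMap B B')).map (algebraMap B' B'') ≤ q.map (algebraMap B' B'') :=
    Ideal.map_mono hKq
  have hf'q : ∀ k, f' k ∈ q.map (algebraMap B' B'') := fun k =>
    hKq'' (he ▸ Ideal.mem_sup_right (Ideal.subset_span ⟨k, rfl⟩))
  have hIq : I ≤ (q.map (algebraMap B' B'')).comap (algebraMap R B'') := by
    rw [← Ideal.map_le_iff_le_comap]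
    exact le_trans (he ▸ le_sup_left) hKq''
  -- the flat ring map
  obtain ⟨χ, hχ, hχmk⟩ := exists_flat_map_of_localization (R := R) (B := B) (B'' := B'') I g hgu
  have hχl : ∀ k, χ (algebraMap (B ⧸ I.map (algebraMap R B))
      (Localization.Away (Ideal.Quotient.mk (I.map (algebraMap R B)) g))
      (Ideal.Quotient.mk (I.map (algebraMap R B)) (j k))) =
      Ideal.Quotient.mk (I.map (algebraMap R B'')) (f' k) := by
    intro k
    rw [hχmk, Ideal.Quotient.eq]
    have := (I.map (algebraMap R B'')).neg_mem (hc k)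
    rwa [neg_sub] at this
  -- the flat `R/I`-module
  letI algM₀ : Algebra (R ⧸ I) (B'' ⧸ (K.map (algebraMap B B')).map (algebraMap B' B'')) :=
    ((algebraMap (B' ⧸ K.map (algebraMap B B'))
      (B'' ⧸ (K.map (algebraMap B B')).map (algebraMap B' B''))).comp
      (algebraMap (R ⧸ I) (B' ⧸ K.map (algebraMap B B')))).toAlgebra
  haveI : IsScalarTower (R ⧸ I) (B' ⧸ K.map (algebraMap B B'))
      (B'' ⧸ (K.map (algebraMap B B')).map (algebraMap B' B'')) :=
    IsScalarTower.of_algebraMap_eq fun x => rfl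
  haveI : Module.Flat (B' ⧸ K.map (algebraMap B B'))
      (B'' ⧸ (K.map (algebraMap B B')).map (algebraMap B' B'')) :=
    IsLocalization.flat _ (Algebra.algebraMapSubmonoid (B' ⧸ K.map (algebraMap B B'))
      (Submonoid.powers t))
  haveI : Module.Flat (R ⧸ I) (B'' ⧸ (K.map (algebraMap B B')).map (algebraMap B' B'')) :=
    Module.Flat.trans (R ⧸ I) (B' ⧸ K.map (algebraMap B B')) _
  haveI : IsScalarTower R (R ⧸ I) (B'' ⧸ (K.map (algebraMap B B')).map (algebraMap B' B'')) := by
    refine IsScalarTower.of_algebraMap_eq fun x => ?_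
    show _ = algebraMap (B' ⧸ K.map (algebraMap B B')) _
      (algebraMap (R ⧸ I) (B' ⧸ K.map (algebraMap B B')) (algebraMap R (R ⧸ I) x))
    rw [← IsScalarTower.algebraMap_apply R (R ⧸ I) (B' ⧸ K.map (algebraMap B B'))]
    rw [IsScalarTower.algebraMap_apply R B'' (B'' ⧸ (K.map (algebraMap B B')).map (algebraMap B' B'')),
      IsScalarTower.algebraMap_apply R B' B'',
      IsScalarTower.algebraMap_apply R B' (B' ⧸ K.map (algebraMap B B'))]
    rfl
  let eM : (B'' ⧸ (K.map (algebraMap B B')).map (algebraMap B' B'')) ≃ₗ[R]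
      (B'' ⧸ (I.map (algebraMap R B'') ⊔ Ideal.span (Set.range f'))) :=
    (Ideal.quotientEquivAlgOfEq R he.symm).toLinearEquiv
  have hflat := flat_localization_quotient₂ (A' := R) (B' := B'') I r f' (q.map (algebraMap B' B''))
    hIq hf'q _ _ hqrj χ hχ hχl _ eM
  -- transfer
  rw [ha, Ideal.map_map, ← IsScalarTower.algebraMap_eq] at hflat
  haveI hloc : IsLocalization.AtPrime (Localization.AtPrime (q.map (algebraMap B' B'')))
      ((q.map (algebraMap B' B'')).comap (algebraMap B' B'')) :=
    IsLocalization.isLocalization_isLocalization_atPrime_isLocalization (Submonoid.powers t)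
      (Localization.AtPrime (q.map (algebraMap B' B''))) (q.map (algebraMap B' B''))
  have key : ∀ P : Ideal B', P = q → ∀ [hP : P.IsPrime],
      IsLocalization.AtPrime (Localization.AtPrime (q.map (algebraMap B' B''))) P →
      IsLocalization.AtPrime (Localization.AtPrime (q.map (algebraMap B' B''))) q := by
    rintro P rfl _ h; exact h
  haveI hloc' : IsLocalization.AtPrime (Localization.AtPrime (q.map (algebraMap B' B''))) q :=
    key _ hq''comap hloc
  haveI : IsScalarTower R B' (Localization.AtPrime (q.map (algebraMap B' B''))) := by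
    refine IsScalarTower.of_algebraMap_eq fun x => ?_
    rw [IsScalarTower.algebraMap_apply R B'' (Localization.AtPrime (q.map (algebraMap B' B''))),
      IsScalarTower.algebraMap_apply R B' B'',
      ← IsScalarTower.algebraMap_apply B' B'' (Localization.AtPrime (q.map (algebraMap B' B'')))]
  let gl : (B' ⧸ J') →ₗ[B'] (Localization.AtPrime (q.map (algebraMap B' B'')) ⧸
      J'.map (algebraMap B' (Localization.AtPrime (q.map (algebraMap B' B''))))) :=
    (IsScalarTower.toAlgHom B' (B' ⧸ J') (Localization.AtPrime (q.map (algebraMap B' B'')) ⧸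
      J'.map (algebraMap B' (Localization.AtPrime (q.map (algebraMap B' B'')))))).toLinearMap
  haveI : IsLocalizedModule q.primeCompl gl :=
    (isLocalizedModule_iff_isLocalization).mpr inferInstance
  exact (Groth.Agent.Lib.FlatLocFP1H6.flat_iff_of_isLocalizedModule (A := R) (C := B')
    q.primeCompl gl).mp hflat

end LA3

end Groth.Agent.Lib.SyntLiftH6
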