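import Mathlib
import Groth.Prelude.Def_PP16
import Groth.Agent.Lib.SyntLift5_helper6
import Groth.Agent.Lib.SyntLift7_helper6

/-!
# Lifting syntomic algebras (helper6), part 8: flatness at the primes containing `K B'`
-/

set_option autoImplicit false
set_option linter.style.haveILetI false
universe u

namespace Groth.Agent.Lib.SyntLiftH6

section LA

variable {R B B' : Type u} [CommRing R] [CommRing B] [CommRing B']
  [Algebra R B] [Algebra R B'] [Algebra B B'] [IsScalarTower R B B']
  [Module.Flat R B'] [Algebra.FinitePresentation R B'] [Module.Flat B B']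

theorem flat_localizedModule_at_prime
    (I : Ideal R) (K : Ideal B) (h𝔞K : I.map (algebraMap R B) ≤ K)
    (hqr : PP16.IsLocallyQuasiRegular (B ⧸ I.map (algebraMap R B))
      (K.map (Ideal.Quotient.mk (I.map (algebraMap R B)))))
    [Algebra (R ⧸ I) (B' ⧸ K.map (algebraMap B B'))]
    [IsScalarTower R (R ⧸ I) (B' ⧸ K.map (algebraMap B B'))]
    [Module.Flat (R ⧸ I) (B' ⧸ K.map (algebraMap B B'))]
    {m : ℕ} (w : Fin m → B) (hw : K = Ideal.span (Set.range w) ⊔ I.map (algebraMap R B))
    (e : Matrix (Fin m) (Fin m) B') (hee : e * e = e)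
    (hN1 : ∀ v : Fin m → B', ∑ i, algebraMap B B' (w i) * v i ∈
      (I.map (algebraMap R B)).map (algebraMap B B') →
      ∀ i, ∑ k, e i k * v k ∈ K.map (algebraMap B B'))
    (h₀ : B') (hh₀ : h₀ - 1 ∈ K.map (algebraMap B B'))
    (hN2 : ∀ i, h₀ * algebraMap B B' (w i) ∈
      Ideal.span (Set.range fun k => ∑ i, algebraMap B B' (w i) * e i k) ⊔
        (I.map (algebraMap R B)).map (algebraMap B B'))
    (q : Ideal B') [q.IsPrime] (hKq : K.map (algebraMap B B') ≤ q) :
    Module.Flat R (LocalizedModule q.primeCompl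
      (B' ⧸ Ideal.span (Set.range fun k => ∑ i, algebraMap B B' (w i) * e i k))) := by
  classical
  have hKq₀ : K ≤ q.comap (algebraMap B B') := Ideal.map_le_iff_le_comap.mp hKq
  obtain ⟨g, r, j, N, hg, hjK, hgen, hqrj⟩ := exists_local_data (I.map (algebraMap R B)) K w h𝔞K hw
    hqr (q.comap (algebraMap B B')) hKq₀
  have h𝔞eq : (I.map (algebraMap R B)).map (algebraMap B B') = I.map (algebraMap R B') := by
    rw [Ideal.map_map, ← IsScalarTower.algebraMap_eq]
  have hK' : K.map (algebraMap B B') = Ideal.span (Set.range fun i => algebraMap B B' (w i)) ⊔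
      (I.map (algebraMap R B)).map (algebraMap B B') := by
    conv_lhs => rw [hw]
    rw [Ideal.map_sup, Ideal.map_span, ← Set.range_comp]
    rfl
  have hG1 : ∀ i, ∃ V : Fin r → B', (algebraMap B B' g) ^ N * algebraMap B B' (w i) -
      ∑ k, V k * algebraMap B B' (j k) ∈ (I.map (algebraMap R B)).map (algebraMap B B') := by
    intro i
    obtain ⟨V, hV⟩ := hgen i
    refine ⟨fun k => algebraMap B B' (V k), ?_⟩
    have := Ideal.mem_map_of_mem (algebraMap B B') hV
    rw [map_sub, map_mul, map_pow, map_sum] at this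
    simp only [map_mul] at this
    exact this
  have hG2 : ∀ k, algebraMap B B' (j k) ∈
      Ideal.span (Set.range fun i => algebraMap B B' (w i)) ⊔
        (I.map (algebraMap R B)).map (algebraMap B B') := fun k => by
    rw [← hK']; exact Ideal.mem_map_of_mem _ (hjK k)
  obtain ⟨ν, h', hC1, hC2, hC3, hC4⟩ := exists_local_generators (K.map (algebraMap B B'))
    ((I.map (algebraMap R B)).map (algebraMap B B')) (fun i => algebraMap B B' (w i)) e hee hK' hN1
    h₀ hN2 (fun k => algebraMap B B' (j k)) (algebraMap B B' g) N hG1 hG2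
  -- elements outside `q`
  have hqne : q ≠ ⊤ := Ideal.IsPrime.ne_top inferInstance
  have hh₀q : h₀ ∉ q := fun h => hqne ((Ideal.eq_top_iff_one q).mpr (by
    have := q.sub_mem h (hKq hh₀); rwa [sub_sub_cancel] at this))
  have hγq : algebraMap B B' g ∉ q := fun h => hg h
  have hh'q : h' ∉ q := by
    intro h
    have h1 : (h₀ * algebraMap B B' g ^ N) ^ m ∈ q := by
      have := q.sub_mem h (hKq hC3); rwa [sub_sub_cancel] at this
    have h2 := Ideal.IsPrime.mem_of_pow_mem inferInstance m h1
    rcases Ideal.IsPrime.mem_or_mem inferInstance h2 with h3 | h3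
    · exact hh₀q h3
    · exact hγq (Ideal.IsPrime.mem_of_pow_mem inferInstance N h3)
  obtain ⟨t, ht⟩ : ∃ t : B', t = h₀ * algebraMap B B' g * h' := ⟨_, rfl⟩
  have htq : t ∉ q := by
    rw [ht]
    intro h
    rcases Ideal.IsPrime.mem_or_mem inferInstance h with h3 | h3
    · rcases Ideal.IsPrime.mem_or_mem inferInstance h3 with h4 | h4
      · exact hh₀q h4
      · exact hγq h4
    · exact hh'q h3
  -- the localization
  haveI : IsScalarTower R B (Localization.Away t) := by
    refine IsScalarTower.of_algebraMap_eq fun x => ?_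
    rw [IsScalarTower.algebraMap_apply R B' (Localization.Away t),
      IsScalarTower.algebraMap_apply R B B',
      ← IsScalarTower.algebraMap_apply B B' (Localization.Away t)]
  haveI : Module.Flat B' (Localization.Away t) := IsLocalization.flat _ (Submonoid.powers t)
  haveI : Module.Flat R (Localization.Away t) := Module.Flat.trans R B' _
  haveI : Module.Flat B (Localization.Away t) := Module.Flat.trans B B' _
  haveI : Algebra.FinitePresentation B' (Localization.Away t) :=
    IsLocalization.Away.finitePresentation t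
  haveI : Algebra.FinitePresentation R (Localization.Away t) :=
    Algebra.FinitePresentation.trans R B' _
  have hut : IsUnit (algebraMap B' (Localization.Away t) h₀ *
      algebraMap B' (Localization.Away t) (algebraMap B B' g) *
      algebraMap B' (Localization.Away t) h') := by
    rw [← map_mul, ← map_mul, ← ht]
    exact IsLocalization.Away.algebraMap_isUnit t
  have hu₀ : IsUnit (algebraMap B' (Localization.Away t) h₀) :=
    isUnit_of_mul_isUnit_left (isUnit_of_mul_isUnit_left hut)
  have hgu : IsUnit (algebraMap B (Localization.Away t) g) := by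
    rw [IsScalarTower.algebraMap_apply B B' (Localization.Away t)]
    exact isUnit_of_mul_isUnit_right (isUnit_of_mul_isUnit_left hut)
  have hu' : IsUnit (algebraMap B' (Localization.Away t) h') := isUnit_of_mul_isUnit_right hut
  -- hypotheses of the second stage
  have hwK' : ∀ i, algebraMap B B' (w i) ∈ K.map (algebraMap B B') := fun i => by
    rw [hK']; exact Ideal.mem_sup_left (Ideal.subset_span ⟨i, rfl⟩)
  have hJK : Ideal.span (Set.range fun k => ∑ i, algebraMap B B' (w i) * e i k) ≤
      K.map (algebraMap B B') := by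
    rw [Ideal.span_le]
    rintro _ ⟨k, rfl⟩
    exact Ideal.sum_mem _ fun i _ => Ideal.mul_mem_right _ _ (hwK' i)
  have hC4' : ∀ x ∈ Ideal.span (Set.range fun k => ∑ i, algebraMap B B' (w i) * e i k),
      h' * x ∈ Ideal.span (Set.range ν) := by
    intro x hx
    obtain ⟨a, rfl⟩ := Ideal.mem_span_range_iff_exists_fun.mp hx
    rw [Finset.mul_sum]
    refine Ideal.sum_mem _ fun k _ => ?_
    have : h' * (a k * ∑ i, algebraMap B B' (w i) * e i k) =
        a k * (h' * ∑ i, algebraMap B B' (w i) * e i k) := by ring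
    rw [this]
    exact Ideal.mul_mem_left _ _ (hC4 k)
  have hKJ : ∀ x ∈ K.map (algebraMap B B'), h₀ * x ∈
      Ideal.span (Set.range fun k => ∑ i, algebraMap B B' (w i) * e i k) ⊔
        I.map (algebraMap R B') := by
    intro x hx
    rw [hK'] at hx
    obtain ⟨y, hy, z, hz, rfl⟩ := Submodule.mem_sup.mp hx
    obtain ⟨a, rfl⟩ := Ideal.mem_span_range_iff_exists_fun.mp hy
    rw [mul_add, Finset.mul_sum]
    refine Ideal.add_mem _ (Ideal.sum_mem _ fun i _ => ?_) ?_
    · have : h₀ * (a i * algebraMap B B' (w i)) = a i * (h₀ * algebraMap B B' (w i)) := by ring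
      rw [this, ← h𝔞eq]
      exact Ideal.mul_mem_left _ _ (hN2 i)
    · rw [← h𝔞eq]
      exact Ideal.mem_sup_right (Ideal.mul_mem_left _ _ hz)
  have h𝔞K' : I.map (algebraMap R B') ≤ K.map (algebraMap B B') := by
    rw [← h𝔞eq]; exact Ideal.map_mono h𝔞K
  have hC2' : ∀ k, ν k - h₀ * algebraMap B B' (j k) ∈ I.map (algebraMap R B') := fun k => by
    rw [← h𝔞eq]; exact hC2 k
  exact flat_at_prime_of_local_generators (B'' := Localization.Away t) t I K _ g j hqrj hgu ν h₀ h'
    hu₀ hu' hC1 hC2' hC4' hJK hKJ h𝔞K' q htq hKq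

end LA

end Groth.Agent.Lib.SyntLiftH6
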