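import Mathlib
import Groth.Prelude.Def_PP16
import Groth.Agent.Lib.FlatLocFP1_helper6

/-!
# Lifting syntomic algebras (helper6), part 9: transfer lemmas for localizations of quotients
-/

set_option autoImplicit false
set_option linter.style.haveILetI false
universe u

namespace Groth.Agent.Lib.SyntLiftH6

section Transfer

variable {R B' B'' : Type u} [CommRing R] [CommRing B'] [CommRing B'']
  [Algebra R B'] [Algebra R B''] [Algebra B' B''] [IsScalarTower R B' B'']

/-- The local ring of `B''/J'B''` at a prime `P` of `B'' = B'_t`, as a localization of `B'/J'`. -/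
theorem flat_localization_quotient_iff (t : B') [IsLocalization.Away t B''] (J' : Ideal B')
    (P : Ideal B'') [P.IsPrime] :
    Module.Flat R (Localization.AtPrime P ⧸ J'.map (algebraMap B' (Localization.AtPrime P))) ↔
      Module.Flat R (LocalizedModule (P.comap (algebraMap B' B'')).primeCompl (B' ⧸ J')) := by
  haveI hloc : IsLocalization.AtPrime (Localization.AtPrime P) (P.comap (algebraMap B' B'')) :=
    IsLocalization.isLocalization_isLocalization_atPrime_isLocalization (Submonoid.powers t)
      (Localization.AtPrime P) P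
  haveI : IsScalarTower R B' (Localization.AtPrime P) := by
    refine IsScalarTower.of_algebraMap_eq fun x => ?_
    rw [IsScalarTower.algebraMap_apply R B'' (Localization.AtPrime P),
      IsScalarTower.algebraMap_apply R B' B'',
      ← IsScalarTower.algebraMap_apply B' B'' (Localization.AtPrime P)]
  let gl : (B' ⧸ J') →ₗ[B'] (Localization.AtPrime P ⧸
      J'.map (algebraMap B' (Localization.AtPrime P))) :=
    (IsScalarTower.toAlgHom B' (B' ⧸ J') (Localization.AtPrime P ⧸
      J'.map (algebraMap B' (Localization.AtPrime P)))).toLinearMap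
  haveI : IsLocalizedModule (P.comap (algebraMap B' B'')).primeCompl gl :=
    (isLocalizedModule_iff_isLocalization).mpr inferInstance
  exact Groth.Agent.Lib.FlatLocFP1H6.flat_iff_of_isLocalizedModule (A := R) (C := B')
    (P.comap (algebraMap B' B'')).primeCompl gl

/-- Flatness of `B'_t / J' B'_t` from flatness of the localizations of `B'/J'` on `D(t)`. -/
theorem flat_away_quotient (t : B') [IsLocalization.Away t B''] (J' : Ideal B')
    (h : ∀ (q : Ideal B') [q.IsPrime], t ∉ q →
      Module.Flat R (LocalizedModule q.primeCompl (B' ⧸ J'))) :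
    Module.Flat R (B'' ⧸ J'.map (algebraMap B' B'')) := by
  obtain ⟨J'', hJ''⟩ : ∃ J'' : Ideal B'', J'' = J'.map (algebraMap B' B'') := ⟨_, rfl⟩
  rw [← hJ'']
  refine Module.flat_of_isLocalized_maximal (S := B'') (M := B'' ⧸ J'')
    (Mₚ := fun P _ => LocalizedModule P.primeCompl (B'' ⧸ J''))
    (fun P _ => LocalizedModule.mkLinearMap _ _) ?_
  intro P hP
  haveI := hP.isPrime
  let g1 : (B'' ⧸ J'') →ₗ[B''] (Localization.AtPrime P ⧸
      J''.map (algebraMap B'' (Localization.AtPrime P))) :=
    (IsScalarTower.toAlgHom B'' (B'' ⧸ J'')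
      (Localization.AtPrime P ⧸ J''.map (algebraMap B'' (Localization.AtPrime P)))).toLinearMap
  haveI : IsLocalizedModule P.primeCompl g1 :=
    (isLocalizedModule_iff_isLocalization).mpr inferInstance
  let e := IsLocalizedModule.iso P.primeCompl g1
  suffices hfl : Module.Flat R (Localization.AtPrime P ⧸
      J''.map (algebraMap B'' (Localization.AtPrime P))) from
    Module.Flat.of_linearEquiv (e.restrictScalars R)
  rw [hJ'', Ideal.map_map, ← IsScalarTower.algebraMap_eq]
  rw [flat_localization_quotient_iff t J' P]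
  refine h _ ?_
  intro htP
  exact hP.ne_top (Ideal.eq_top_of_isUnit_mem _ htP (IsLocalization.Away.algebraMap_isUnit t))

end Transfer

section QuotAway

variable {R B' B'' : Type u} [CommRing R] [CommRing B'] [CommRing B'']
  [Algebra R B'] [Algebra R B''] [Algebra B' B''] [IsScalarTower R B' B'']

/-- If `t ≡ 1` modulo `𝔨` then `B'/𝔨 → B'_t/𝔨B'_t` is bijective. -/
theorem bijective_quotient_away (t : B') [IsLocalization.Away t B''] (𝔨 : Ideal B')
    (ht : t - 1 ∈ 𝔨) :
    Function.Bijective (algebraMap (B' ⧸ 𝔨) (B'' ⧸ 𝔨.map (algebraMap B' B''))) := by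
  have hu : ∀ x ∈ Algebra.algebraMapSubmonoid (B' ⧸ 𝔨) (Submonoid.powers t), IsUnit x := by
    rintro _ ⟨y, ⟨n, rfl⟩, rfl⟩
    have h1 : algebraMap B' (B' ⧸ 𝔨) t = 1 := by
      rw [← map_one (algebraMap B' (B' ⧸ 𝔨))]
      exact Ideal.Quotient.eq.mpr ht
    rw [map_pow, h1, one_pow]
    exact isUnit_one
  exact (IsLocalization.atUnits (B' ⧸ 𝔨) (Algebra.algebraMapSubmonoid (B' ⧸ 𝔨) (Submonoid.powers t))
    (S := B'' ⧸ 𝔨.map (algebraMap B' B'')) hu).bijective

end QuotAway

end Groth.Agent.Lib.SyntLiftH6
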