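import Mathlib
import Groth.Prelude.Def_PP16
import Groth.Agent.Lib.SyntLift3_helper6
import Groth.Agent.Lib.SyntLift8_helper6
import Groth.Agent.Lib.SyntLift9_helper6
import Groth.Agent.S0387

/-!
# Lifting syntomic algebras (helper6), part 10: the flat lift (core theorem)
-/

set_option autoImplicit false
set_option linter.style.haveILetI false
universe u

namespace Groth.Agent.Lib.SyntLiftH6

open Groth.Agent.Lib.QRegLocH1

theorem exists_flat_lift_core {R B : Type u} [CommRing R] [CommRing B] [Algebra R B]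
    [Module.Flat R B] [Algebra.FinitePresentation R B]
    (I : Ideal R) (K : Ideal B) (h𝔞K : I.map (algebraMap R B) ≤ K)
    (hqr : PP16.IsLocallyQuasiRegular (B ⧸ I.map (algebraMap R B))
      (K.map (Ideal.Quotient.mk (I.map (algebraMap R B)))))
    [Algebra (R ⧸ I) (B ⧸ K)] [IsScalarTower R (R ⧸ I) (B ⧸ K)] [Module.Flat (R ⧸ I) (B ⧸ K)] :
    ∃ (A : Type u) (_ : CommRing A) (_ : Algebra R A), Module.Flat R A ∧
      Algebra.FinitePresentation R A ∧
      Nonempty ((A ⧸ I.map (algebraMap R A)) ≃ₐ[R] (B ⧸ K)) := by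
  classical
  have hsurj : Function.Surjective (Ideal.Quotient.mk (I.map (algebraMap R B))) :=
    Ideal.Quotient.mk_surjective
  -- generators
  have hfg : (K.map (Ideal.Quotient.mk (I.map (algebraMap R B)))).FG := fg_of_local _ _ hqr
  obtain ⟨m, wb, hwb⟩ := Submodule.fg_iff_exists_fin_generating_family.mp hfg
  choose w hwmk using fun i => hsurj (wb i)
  have hw : K = Ideal.span (Set.range w) ⊔ I.map (algebraMap R B) := by
    have h1 : (Ideal.span (Set.range w)).map (Ideal.Quotient.mk (I.map (algebraMap R B))) =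
        K.map (Ideal.Quotient.mk (I.map (algebraMap R B))) := by
      rw [Ideal.map_span, ← Set.range_comp, ← hwb]
      congr 2
      funext i
      exact hwmk i
    have h2 := congrArg (Ideal.comap (Ideal.Quotient.mk (I.map (algebraMap R B)))) h1
    rw [Ideal.comap_map_of_surjective _ hsurj, Ideal.comap_map_of_surjective _ hsurj,
      ← RingHom.ker_eq_comap_bot, Ideal.mk_ker, sup_eq_left.mpr h𝔞K] at h2
    exact h2.symm
  haveI := projective_of_local _ _ hqr
  obtain ⟨E, hE1, hE2, hE3⟩ := exists_projector_matrix_rel (I.map (algebraMap R B)) K w h𝔞K hw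
  obtain ⟨B', _, _, hEt, hbij, e, h₀, hee, hN1, hh₀, hN2⟩ :=
    exists_nbhd (I.map (algebraMap R B)) K w h𝔞K hw E hE1 hE2 hE3
  haveI := hEt
  letI algRB' : Algebra R B' := ((algebraMap B B').comp (algebraMap R B)).toAlgebra
  haveI : IsScalarTower R B B' := IsScalarTower.of_algebraMap_eq fun x => rfl
  haveI : Module.Flat B B' := inferInstance
  haveI : Module.Flat R B' := Module.Flat.trans R B B'
  haveI : Algebra.FinitePresentation B B' := inferInstance
  haveI : Algebra.FinitePresentation R B' := Algebra.FinitePresentation.trans R B B'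
  obtain ⟨K', hK'⟩ : ∃ K' : Ideal B', K' = K.map (algebraMap B B') := ⟨_, rfl⟩
  obtain ⟨J', hJ'⟩ : ∃ J' : Ideal B',
      J' = Ideal.span (Set.range fun k => ∑ i, algebraMap B B' (w i) * e i k) := ⟨_, rfl⟩
  -- the `R/I`-structure on `B'/K'`
  haveI : IsScalarTower R (B ⧸ K) (B' ⧸ K.map (algebraMap B B')) :=
    IsScalarTower.of_algebraMap_eq fun x => rfl
  letI algRI : Algebra (R ⧸ I) (B' ⧸ K.map (algebraMap B B')) :=
    ((algebraMap (B ⧸ K) (B' ⧸ K.map (algebraMap B B'))).comp
      (algebraMap (R ⧸ I) (B ⧸ K))).toAlgebra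
  haveI : IsScalarTower (R ⧸ I) (B ⧸ K) (B' ⧸ K.map (algebraMap B B')) :=
    IsScalarTower.of_algebraMap_eq fun x => rfl
  haveI : IsScalarTower R (R ⧸ I) (B' ⧸ K.map (algebraMap B B')) := by
    refine IsScalarTower.of_algebraMap_eq fun x => ?_
    show _ = algebraMap (B ⧸ K) (B' ⧸ K.map (algebraMap B B'))
      (algebraMap (R ⧸ I) (B ⧸ K) (algebraMap R (R ⧸ I) x))
    rw [← IsScalarTower.algebraMap_apply R (R ⧸ I) (B ⧸ K),
      ← IsScalarTower.algebraMap_apply R (B ⧸ K) (B' ⧸ K.map (algebraMap B B'))]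
  haveI : Module.Flat (R ⧸ I) (B' ⧸ K.map (algebraMap B B')) :=
    Module.Flat.of_linearEquiv (LinearEquiv.ofBijective
      ((Algebra.linearMap (B ⧸ K) (B' ⧸ K.map (algebraMap B B'))).restrictScalars (R ⧸ I))
      hbij).symm
  -- flatness at the primes containing `K'`
  have hLA : ∀ (q : Ideal B') [q.IsPrime], K.map (algebraMap B B') ≤ q →
      Module.Flat R (LocalizedModule q.primeCompl
        (B' ⧸ Ideal.span (Set.range fun k => ∑ i, algebraMap B B' (w i) * e i k))) :=
    fun q _ hq => flat_localizedModule_at_prime I K h𝔞K hqr w hw e hee hN1 h₀ hh₀ hN2 q hq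
  rw [← hJ'] at hLA hN2
  rw [← hK'] at hLA hh₀
  -- the flat locus
  have hJ'fg : J'.FG := by rw [hJ']; exact Submodule.fg_span (Set.finite_range _)
  haveI : Module.FinitePresentation B' (B' ⧸ J') :=
    Module.finitePresentation_of_surjective (Algebra.linearMap B' (B' ⧸ J'))
      Ideal.Quotient.mk_surjective (by
        have hk : LinearMap.ker (Algebra.linearMap B' (B' ⧸ J')) = J' := by
          ext x
          rw [LinearMap.mem_ker, Algebra.linearMap_apply, Ideal.Quotient.algebraMap_eq,
            Ideal.Quotient.eq_zero_iff_mem]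
        rw [hk]; exact hJ'fg)
  have hopen := Groth.Agent.S0387.result (R := R) (S := B') (M := B' ⧸ J')
  obtain ⟨U, hU⟩ : ∃ U : Set (PrimeSpectrum B'),
      U = {q | Module.Flat R (LocalizedModule q.asIdeal.primeCompl (B' ⧸ J'))} := ⟨_, rfl⟩
  rw [← hU] at hopen
  have hVU : PrimeSpectrum.zeroLocus (K' : Set B') ⊆ U := by
    intro q hq
    rw [hU]
    exact hLA q.asIdeal hq
  obtain ⟨𝔠, h𝔠⟩ : ∃ 𝔠 : Ideal B', 𝔠 = PrimeSpectrum.vanishingIdeal Uᶜ := ⟨_, rfl⟩
  have hZ : PrimeSpectrum.zeroLocus (𝔠 : Set B') = Uᶜ := by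
    rw [h𝔠, PrimeSpectrum.zeroLocus_vanishingIdeal_eq_closure, hopen.isClosed_compl.closure_eq]
  have htop : 𝔠 ⊔ K' = ⊤ := by
    rw [← PrimeSpectrum.zeroLocus_empty_iff_eq_top, PrimeSpectrum.zeroLocus_sup, hZ]
    ext q
    simp only [Set.mem_inter_iff, Set.mem_compl_iff, Set.mem_empty_iff_false, iff_false, not_and]
    intro hq hq'
    exact hq (hVU hq')
  obtain ⟨c, hc, k, hk, hck⟩ := Submodule.mem_sup.mp ((Ideal.eq_top_iff_one _).mp htop)
  have hcU : ∀ (q : Ideal B') [hq : q.IsPrime], c ∉ q →
      Module.Flat R (LocalizedModule q.primeCompl (B' ⧸ J')) := by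
    intro q hq hcq
    have h1 : (⟨q, hq⟩ : PrimeSpectrum B') ∈ U := by
      by_contra hnot
      have h2 : (⟨q, hq⟩ : PrimeSpectrum B') ∈ PrimeSpectrum.zeroLocus (𝔠 : Set B') := by
        rw [hZ]; exact hnot
      exact hcq (h2 hc)
    rw [hU] at h1
    exact h1
  -- the element `g`
  obtain ⟨g, hg⟩ : ∃ g : B', g = c * h₀ := ⟨_, rfl⟩
  have hg1 : g - 1 ∈ K' := by
    have hc1 : c - 1 ∈ K' := by
      have : c - 1 = -k := by rw [← hck]; ring
      rw [this]; exact K'.neg_mem hk
    have : g - 1 = (c - 1) * h₀ + (h₀ - 1) := by rw [hg]; ring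
    rw [this]; exact K'.add_mem (K'.mul_mem_right _ hc1) hh₀
  have hflatA : Module.Flat R
      (Localization.Away g ⧸ J'.map (algebraMap B' (Localization.Away g))) :=
    flat_away_quotient (R := R) (B'' := Localization.Away g) g J' (fun q _ hgq =>
      hcU q (fun hcq => hgq (by rw [hg]; exact Ideal.mul_mem_right _ _ hcq)))
  haveI : Algebra.FinitePresentation B' (Localization.Away g) :=
    IsLocalization.Away.finitePresentation g
  haveI : Algebra.FinitePresentation R (Localization.Away g) :=
    Algebra.FinitePresentation.trans R B' _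
  have hfpA : Algebra.FinitePresentation R
      (Localization.Away g ⧸ J'.map (algebraMap B' (Localization.Away g))) :=
    Algebra.FinitePresentation.quotient (hJ'fg.map _)
  refine ⟨Localization.Away g ⧸ J'.map (algebraMap B' (Localization.Away g)), inferInstance,
    inferInstance, hflatA, hfpA, ?_⟩
  -- the ideals in `B'_g`
  have h𝔞eq : (I.map (algebraMap R B)).map (algebraMap B B') = I.map (algebraMap R B') := by
    rw [Ideal.map_map, ← IsScalarTower.algebraMap_eq]
  have hK'dec : K' = Ideal.span (Set.range fun i => algebraMap B B' (w i)) ⊔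
      I.map (algebraMap R B') := by
    rw [hK', ← h𝔞eq]
    conv_lhs => rw [hw]
    rw [Ideal.map_sup, Ideal.map_span, ← Set.range_comp]
    rfl
  have hwK' : ∀ i, algebraMap B B' (w i) ∈ K' := fun i => by
    rw [hK'dec]; exact Ideal.mem_sup_left (Ideal.subset_span ⟨i, rfl⟩)
  have hJK : J' ≤ K' := by
    rw [hJ', Ideal.span_le]
    rintro _ ⟨k, rfl⟩
    exact Ideal.sum_mem _ fun i _ => Ideal.mul_mem_right _ _ (hwK' i)
  have h𝔞K' : I.map (algebraMap R B') ≤ K' := by
    rw [hK'dec]; exact le_sup_right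
  have hKJ : ∀ x ∈ K', h₀ * x ∈ J' ⊔ I.map (algebraMap R B') := by
    intro x hx
    rw [hK'dec] at hx
    obtain ⟨y, hy, z, hz, rfl⟩ := Submodule.mem_sup.mp hx
    obtain ⟨a, rfl⟩ := Ideal.mem_span_range_iff_exists_fun.mp hy
    rw [mul_add, Finset.mul_sum]
    refine Ideal.add_mem _ (Ideal.sum_mem _ fun i _ => ?_) ?_
    · have : h₀ * (a i * algebraMap B B' (w i)) = a i * (h₀ * algebraMap B B' (w i)) := by ring
      rw [this, ← h𝔞eq]
      exact Ideal.mul_mem_left _ _ (hN2 i)
    · exact Ideal.mem_sup_right (Ideal.mul_mem_left _ _ hz)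
  have hu₀ : IsUnit (algebraMap B' (Localization.Away g) h₀) := by
    have hut : IsUnit (algebraMap B' (Localization.Away g) c *
        algebraMap B' (Localization.Away g) h₀) := by
      rw [← map_mul, ← hg]
      exact IsLocalization.Away.algebraMap_isUnit g
    exact isUnit_of_mul_isUnit_right hut
  obtain ⟨η₀, hη₀⟩ := hu₀.exists_left_inv
  have h𝔞'' : (I.map (algebraMap R B')).map (algebraMap B' (Localization.Away g)) =
      I.map (algebraMap R (Localization.Away g)) := by
    rw [Ideal.map_map, ← IsScalarTower.algebraMap_eq]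
  have h2 : J'.map (algebraMap B' (Localization.Away g)) ⊔
      I.map (algebraMap R (Localization.Away g)) =
      K'.map (algebraMap B' (Localization.Away g)) := by
    apply le_antisymm
    · refine sup_le (Ideal.map_mono hJK) ?_
      rw [← h𝔞'']; exact Ideal.map_mono h𝔞K'
    · rw [Ideal.map_le_iff_le_comap]
      intro x hx
      rw [Ideal.mem_comap]
      have h1 : algebraMap B' (Localization.Away g) x =
          η₀ * algebraMap B' (Localization.Away g) (h₀ * x) := by
        rw [map_mul, ← mul_assoc, hη₀, one_mul]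
      rw [h1]
      refine Ideal.mul_mem_left _ _ ?_
      have h3 := Ideal.mem_map_of_mem (algebraMap B' (Localization.Away g)) (hKJ x hx)
      rw [Ideal.map_sup, h𝔞''] at h3
      exact h3
  -- the chain of isomorphisms
  have h1 : I.map (algebraMap R (Localization.Away g ⧸
      J'.map (algebraMap B' (Localization.Away g)))) =
      (I.map (algebraMap R (Localization.Away g))).map
        (Ideal.Quotient.mkₐ R (J'.map (algebraMap B' (Localization.Away g)))) := by
    show _ = Ideal.map (Ideal.Quotient.mk (J'.map (algebraMap B' (Localization.Away g)))) _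
    rw [Ideal.map_map]
    rfl
  let e1 := Ideal.quotientEquivAlgOfEq R h1
  let e2 := DoubleQuot.quotQuotEquivQuotSupₐ R (J'.map (algebraMap B' (Localization.Away g)))
    (I.map (algebraMap R (Localization.Away g)))
  let e3 := Ideal.quotientEquivAlgOfEq R h2
  haveI : IsScalarTower R (B' ⧸ K') (Localization.Away g ⧸
      K'.map (algebraMap B' (Localization.Away g))) := by
    refine IsScalarTower.of_algebraMap_eq fun x => ?_
    rw [IsScalarTower.algebraMap_apply R (Localization.Away g)
        (Localization.Away g ⧸ K'.map (algebraMap B' (Localization.Away g))),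
      IsScalarTower.algebraMap_apply R B' (Localization.Away g),
      IsScalarTower.algebraMap_apply R B' (B' ⧸ K')]
    rfl
  let e4 : (B' ⧸ K') ≃ₐ[R] (Localization.Away g ⧸ K'.map (algebraMap B' (Localization.Away g))) :=
    AlgEquiv.ofBijective (IsScalarTower.toAlgHom R (B' ⧸ K') _)
      (bijective_quotient_away (B'' := Localization.Away g) g K' hg1)
  subst hK'
  let e5 : (B ⧸ K) ≃ₐ[R] (B' ⧸ K.map (algebraMap B B')) :=
    AlgEquiv.ofBijective (IsScalarTower.toAlgHom R (B ⧸ K) _) hbij
  exact ⟨e1.trans (e2.trans (e3.trans (e4.symm.trans e5.symm)))⟩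

end Groth.Agent.Lib.SyntLiftH6
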