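import Mathlib
import Groth.Prelude.Def_PP16
import Groth.Prelude.Def_LCI2
import Groth.Agent.Lib.SyntLift10_helper6
import Groth.Agent.Lib.KoszulLow_helper2
import Groth.Agent.Lib.H1QReg_helper1
import Groth.Agent.Lib.FpqcQuasi_helper2

/-!
# Lifting syntomic algebras (helper6), part 11: flat lift of a flat local complete intersection
-/

set_option autoImplicit false
set_option linter.style.haveILetI false
universe u

open MvPolynomial

namespace Groth.Agent.Lib.SyntLiftH6

/-- Koszul-regular ideals are locally quasi-regular. -/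
theorem isLocallyQuasiRegular_of_isKoszulRegularIdeal {A : Type u} [CommRing A] (J : Ideal A)
    (h : LCI.IsKoszulRegularIdeal J) : PP16.IsLocallyQuasiRegular A J := by
  intro P hP hJP
  obtain ⟨g, hg, l, hl, hsp⟩ := h ⟨P, hP⟩ hJP
  refine ⟨g, hg, l.length, l.get, ?_, ?_⟩
  · exact Groth.Agent.Lib.H1QRegH1.main2103 _
      (Groth.Agent.Lib.KoszulLow.h1_of_koszulRegular l hl)
  · rw [hsp, Set.range_list_get]

theorem exists_flat_lift {R A₀ : Type u} [CommRing R] (I : Ideal R) [CommRing A₀]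
    [Algebra (R ⧸ I) A₀] [Module.Flat (R ⧸ I) A₀] (h : LCI.IsLCI (R ⧸ I) A₀) :
    ∃ (A : Type u) (_ : CommRing A) (_ : Algebra R A), Module.Flat R A ∧
      Algebra.FinitePresentation R A ∧
      Nonempty ((A ⧸ I.map (algebraMap R A)) ≃ₐ[R ⧸ I] A₀) := by
  classical
  obtain ⟨-, n, f₀, hf₀, hkr⟩ := h
  have hlqr := isLocallyQuasiRegular_of_isKoszulRegularIdeal _ hkr
  -- the `R`-algebra structure on `A₀`
  letI algRA₀ : Algebra R A₀ := ((algebraMap (R ⧸ I) A₀).comp (Ideal.Quotient.mk I)).toAlgebra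
  haveI : IsScalarTower R (R ⧸ I) A₀ := IsScalarTower.of_algebraMap_eq fun x => rfl
  -- the reduction map
  let ρ : MvPolynomial (Fin n) R →+* MvPolynomial (Fin n) (R ⧸ I) :=
    MvPolynomial.map (Ideal.Quotient.mk I)
  have hρsurj : Function.Surjective ρ :=
    MvPolynomial.map_surjective _ Ideal.Quotient.mk_surjective
  have hρker : RingHom.ker ρ = I.map (algebraMap R (MvPolynomial (Fin n) R)) := by
    show RingHom.ker (MvPolynomial.map (Ideal.Quotient.mk I)) = _
    rw [MvPolynomial.ker_map, Ideal.mk_ker, MvPolynomial.algebraMap_eq]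
  let φ₀ : MvPolynomial (Fin n) R →ₐ[R] A₀ := aeval (fun i => f₀ (X i))
  have hφρ : ∀ p, φ₀ p = f₀ (ρ p) := by
    intro p
    have : (φ₀ : MvPolynomial (Fin n) R →+* A₀) = f₀.toRingHom.comp ρ := by
      apply MvPolynomial.ringHom_ext
      · intro r
        show φ₀ (C r) = f₀ (ρ (C r))
        show aeval (fun i => f₀ (X i)) (C r) = f₀ (MvPolynomial.map (Ideal.Quotient.mk I) (C r))
        rw [aeval_C, MvPolynomial.map_C, ← MvPolynomial.algebraMap_eq, f₀.commutes]
        rfl
      · intro i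
        show aeval (fun i => f₀ (X i)) (X i) = f₀ (MvPolynomial.map (Ideal.Quotient.mk I) (X i))
        rw [aeval_X, MvPolynomial.map_X]
    exact RingHom.congr_fun this p
  have hφ₀surj : Function.Surjective φ₀ := by
    intro a
    obtain ⟨p, rfl⟩ := hf₀ a
    obtain ⟨p', rfl⟩ := hρsurj p
    exact ⟨p', hφρ p'⟩
  have hKcomap : RingHom.ker φ₀ = (RingHom.ker f₀.toRingHom).comap ρ := by
    ext x
    rw [Ideal.mem_comap, RingHom.mem_ker, RingHom.mem_ker, hφρ]
    rfl
  have h𝔞K : I.map (algebraMap R (MvPolynomial (Fin n) R)) ≤ RingHom.ker φ₀ := by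
    rw [← hρker, hKcomap]
    intro x hx
    rw [Ideal.mem_comap, (RingHom.mem_ker).mp hx]
    exact Ideal.zero_mem _
  -- local quasi-regularity in `B ⧸ 𝔞`
  have hqr : PP16.IsLocallyQuasiRegular
      (MvPolynomial (Fin n) R ⧸ I.map (algebraMap R (MvPolynomial (Fin n) R)))
      ((RingHom.ker φ₀).map (Ideal.Quotient.mk (I.map (algebraMap R (MvPolynomial (Fin n) R))))) := by
    let ρb : (MvPolynomial (Fin n) R ⧸ I.map (algebraMap R (MvPolynomial (Fin n) R))) →+*
        MvPolynomial (Fin n) (R ⧸ I) :=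
      Ideal.Quotient.lift _ ρ (fun a ha => by rw [← hρker] at ha; exact ha)
    have hρbbij : Function.Bijective ρb := by
      constructor
      · rw [injective_iff_map_eq_zero]
        intro a ha
        obtain ⟨a, rfl⟩ := Ideal.Quotient.mk_surjective a
        rw [Ideal.Quotient.eq_zero_iff_mem, ← hρker]
        exact ha
      · intro p
        obtain ⟨p', rfl⟩ := hρsurj p
        exact ⟨Ideal.Quotient.mk _ p', rfl⟩
    letI := ρb.toAlgebra
    haveI : Module.FaithfullyFlat
        (MvPolynomial (Fin n) R ⧸ I.map (algebraMap R (MvPolynomial (Fin n) R)))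
        (MvPolynomial (Fin n) (R ⧸ I)) :=
      Module.FaithfullyFlat.of_linearEquiv _ _ (LinearEquiv.ofBijective
        (Algebra.linearMap (MvPolynomial (Fin n) R ⧸ I.map (algebraMap R (MvPolynomial (Fin n) R)))
          (MvPolynomial (Fin n) (R ⧸ I))) hρbbij).symm
    apply Groth.Agent.Lib.FpqcReg.main9252 _ (MvPolynomial (Fin n) (R ⧸ I))
    have hmap : Ideal.map (algebraMap
        (MvPolynomial (Fin n) R ⧸ I.map (algebraMap R (MvPolynomial (Fin n) R)))
        (MvPolynomial (Fin n) (R ⧸ I)))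
        ((RingHom.ker φ₀).map (Ideal.Quotient.mk (I.map (algebraMap R (MvPolynomial (Fin n) R))))) =
        RingHom.ker f₀.toRingHom := by
      rw [Ideal.map_map]
      have : (algebraMap (MvPolynomial (Fin n) R ⧸ I.map (algebraMap R (MvPolynomial (Fin n) R)))
          (MvPolynomial (Fin n) (R ⧸ I))).comp (Ideal.Quotient.mk _) = ρ := by
        exact RingHom.ext fun x => rfl
      rw [this, hKcomap, Ideal.map_comap_of_surjective ρ hρsurj]
    rw [hmap]
    exact hlqr
  -- the `R/I`-structure on `B/K`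
  letI algRI : Algebra (R ⧸ I) (MvPolynomial (Fin n) R ⧸ RingHom.ker φ₀) :=
    (Ideal.Quotient.lift I (algebraMap R (MvPolynomial (Fin n) R ⧸ RingHom.ker φ₀)) (by
      intro r hr
      rw [IsScalarTower.algebraMap_apply R (MvPolynomial (Fin n) R)
        (MvPolynomial (Fin n) R ⧸ RingHom.ker φ₀), Ideal.Quotient.algebraMap_eq,
        Ideal.Quotient.eq_zero_iff_mem]
      exact h𝔞K (Ideal.mem_map_of_mem _ hr))).toAlgebra
  haveI : IsScalarTower R (R ⧸ I) (MvPolynomial (Fin n) R ⧸ RingHom.ker φ₀) :=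
    IsScalarTower.of_algebraMap_eq fun x => rfl
  let e₀ : (MvPolynomial (Fin n) R ⧸ RingHom.ker φ₀) ≃ₐ[R] A₀ :=
    Ideal.quotientKerAlgEquivOfSurjective hφ₀surj
  haveI : Module.Flat (R ⧸ I) (MvPolynomial (Fin n) R ⧸ RingHom.ker φ₀) :=
    Module.Flat.of_linearEquiv (LinearEquiv.extendScalarsOfSurjective
      (Ideal.Quotient.mk_surjective (I := I)) e₀.toLinearEquiv)
  obtain ⟨A, _, _, hfl, hfp, ⟨e⟩⟩ := exists_flat_lift_core I (RingHom.ker φ₀) h𝔞K hqr
  refine ⟨A, inferInstance, inferInstance, hfl, hfp, ⟨AlgEquiv.ofRingEquiv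
    (f := (e.trans e₀).toRingEquiv) ?_⟩⟩
  intro x
  obtain ⟨r, rfl⟩ := Ideal.Quotient.mk_surjective x
  have h1 : algebraMap (R ⧸ I) (A ⧸ I.map (algebraMap R A)) (Ideal.Quotient.mk I r) =
      algebraMap R (A ⧸ I.map (algebraMap R A)) r := rfl
  rw [h1]
  exact (e.trans e₀).commutes r

end Groth.Agent.Lib.SyntLiftH6
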