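import Mathlib
import Groth.Agent.Lib.SyntLift11_helper6
import Groth.Agent.Lib.HensSmoothModel_helper3
import Groth.Agent.Lib.SmoothLCI_helper2

/-!
# Lifting smooth algebras along `R → R/I` (helper6): S6827
-/

set_option autoImplicit false
set_option linter.style.haveILetI false
universe u

namespace Groth.Agent.Lib.SyntLiftH6

/-- Localizing at an element `g ≡ 1` modulo `I A` does not change `A / I A`. -/
theorem nonempty_quotient_away_equiv {R A : Type u} [CommRing R] [CommRing A] [Algebra R A]
    (I : Ideal R) (g : A) (hg : g - 1 ∈ I.map (algebraMap R A)) :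
    Nonempty ((Localization.Away g ⧸ I.map (algebraMap R (Localization.Away g))) ≃ₐ[R ⧸ I]
      (A ⧸ I.map (algebraMap R A))) := by
  have h1 : (I.map (algebraMap R A)).map (algebraMap A (Localization.Away g)) =
      I.map (algebraMap R (Localization.Away g)) := by
    rw [Ideal.map_map, ← IsScalarTower.algebraMap_eq]
  let e1 := Ideal.quotientEquivAlgOfEq R h1
  haveI : IsScalarTower R (A ⧸ I.map (algebraMap R A)) (Localization.Away g ⧸
      (I.map (algebraMap R A)).map (algebraMap A (Localization.Away g))) := by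
    refine IsScalarTower.of_algebraMap_eq fun x => ?_
    rw [IsScalarTower.algebraMap_apply R (Localization.Away g)
        (Localization.Away g ⧸ (I.map (algebraMap R A)).map (algebraMap A (Localization.Away g))),
      IsScalarTower.algebraMap_apply R A (Localization.Away g),
      IsScalarTower.algebraMap_apply R A (A ⧸ I.map (algebraMap R A))]
    rfl
  let e2 : (A ⧸ I.map (algebraMap R A)) ≃ₐ[R] (Localization.Away g ⧸
      (I.map (algebraMap R A)).map (algebraMap A (Localization.Away g))) :=
    AlgEquiv.ofBijective (IsScalarTower.toAlgHom R (A ⧸ I.map (algebraMap R A)) _)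
      (bijective_quotient_away (B'' := Localization.Away g) g (I.map (algebraMap R A)) hg)
  refine ⟨AlgEquiv.ofRingEquiv (f := (e1.symm.trans e2.symm).toRingEquiv) ?_⟩
  intro x
  obtain ⟨r, rfl⟩ := Ideal.Quotient.mk_surjective x
  have h2 : algebraMap (R ⧸ I) (Localization.Away g ⧸ I.map (algebraMap R (Localization.Away g)))
      (Ideal.Quotient.mk I r) =
      algebraMap R (Localization.Away g ⧸ I.map (algebraMap R (Localization.Away g))) r := rfl
  rw [h2]
  exact (e1.symm.trans e2.symm).commutes r

/-- **S6827**: smooth algebras lift along `R → R/I`. -/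
theorem main6827 {R A₀ : Type u} [CommRing R] (I : Ideal R) [CommRing A₀]
    [Algebra (R ⧸ I) A₀] [Algebra.Smooth (R ⧸ I) A₀] :
    ∃ (A : Type u) (_ : CommRing A) (_ : Algebra R A), Algebra.Smooth R A ∧
      Nonempty ((A ⧸ I.map (algebraMap R A)) ≃ₐ[R ⧸ I] A₀) := by
  haveI : Module.Flat (R ⧸ I) A₀ := Algebra.Smooth.flat _ _
  have hlci : LCI.IsLCI (R ⧸ I) A₀ := by
    have h1 : (algebraMap (R ⧸ I) A₀).Smooth := RingHom.smooth_algebraMap.mpr inferInstance
    have h2 := Groth.Agent.Lib.SmoothLCI.isLCIHom_of_smooth _ h1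
    have h3 : (algebraMap (R ⧸ I) A₀).toAlgebra = (inferInstance : Algebra (R ⧸ I) A₀) :=
      Algebra.algebra_ext _ _ (fun r => rfl)
    unfold Groth.Agent.Lib.LCIComp.IsLCIHom at h2
    rw [h3] at h2
    exact h2
  obtain ⟨A, _, _, hfl, hfp, ⟨e⟩⟩ := exists_flat_lift I hlci
  haveI := hfl
  haveI := hfp
  haveI : Algebra.FormallySmooth (R ⧸ I) (A ⧸ I.map (algebraMap R A)) := .of_equiv e.symm
  obtain ⟨g, hg, hsm⟩ := Groth.Agent.Lib.HensSmoothModelH3.exists_smooth_away (A := R) (S := A) I
  obtain ⟨e'⟩ := nonempty_quotient_away_equiv I g hg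
  exact ⟨Localization.Away g, inferInstance, inferInstance, hsm, ⟨e'.trans e⟩⟩

end Groth.Agent.Lib.SyntLiftH6
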