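import Mathlib
import Groth.Agent.Lib.HfpEtale_lead
import Groth.Agent.Lib.PairHensExists_lead
import Groth.Agent.Lib.PairHensQuot_lead
import Groth.Agent.Lib.HensPairSm4_helper8
import Groth.Agent.Lib.SyntLift12_helper6
import Groth.Agent.S17609
import Groth.Agent.S17597
import Groth.Agent.S17596

set_option autoImplicit false
set_option linter.unusedVariables false
set_option linter.unusedTactic false
set_option linter.unreachableTactic false
set_option linter.unusedSectionVars false
set_option linter.style.haveILetI false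
set_option linter.deprecated false
set_option maxHeartbeats 1600000

universe u

/-!
# h-smooth maps of henselian pairs (helper4)

Smooth analogue of the lead's `S17598`: a Henselian finitely presented map of Henselian pairs whose
truncations are smooth is a quotient of the henselization of a smooth algebra by a finitely
generated ideal contained in all powers of `I`.
-/

namespace Groth.Agent.Lib.HfpSmoothH4

open TensorProduct

theorem smooth_quot_congr {A B : Type u} [CommRing A] [CommRing B] [Algebra A B] (J I : Ideal A)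
    (h : J = I) (hJ : Algebra.Smooth (A ⧸ J) (B ⧸ J.map (algebraMap A B))) :
    Algebra.Smooth (A ⧸ I) (B ⧸ I.map (algebraMap A B)) := by
  subst h; exact hJ

/-- For a surjection `φ : H → B` onto a flat `A`-algebra with `ker φ ⊆ IH`: `ker φ ⊆ IH · ker φ`. -/
theorem ker_le_smul_ker_of_flat {A H B : Type u} [CommRing A] [CommRing H] [CommRing B]
    [Algebra A H] [Algebra A B] [Module.Flat A B] (I : Ideal A) (φ : H →ₐ[A] B)
    (hφ : Function.Surjective φ) (hle : RingHom.ker φ ≤ I.map (algebraMap A H)) :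
    RingHom.ker φ ≤ (I.map (algebraMap A H)) • RingHom.ker φ := by
  intro x hx
  let Ka : Submodule A H := LinearMap.ker φ.toLinearMap
  have hxKa : x ∈ Ka := by
    have hx0 : φ x = 0 := RingHom.mem_ker.1 hx
    exact hx0
  have hinj : Function.Injective ((Ka.subtype).lTensor (A ⧸ I)) :=
    LinearMap.lTensor_injective_of_exact_of_flat φ.toLinearMap hφ Ka.subtype
      Ka.subtype_injective (LinearMap.exact_subtype_ker_map _) (A ⧸ I)
  have hxI : x ∈ I • (⊤ : Submodule A H) := by
    rw [Ideal.smul_top_eq_map]; exact hle hx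
  have h0 : (1 : A ⧸ I) ⊗ₜ[A] (⟨x, hxKa⟩ : Ka) = 0 := by
    apply hinj
    rw [map_zero, LinearMap.lTensor_tmul]
    apply (TensorProduct.quotTensorEquivQuotSMul H I).injective
    rw [map_zero]
    show (TensorProduct.quotTensorEquivQuotSMul H I) ((1 : A ⧸ I) ⊗ₜ[A] x) = 0
    rw [TensorProduct.quotTensorEquivQuotSMul_mk_one_tmul]
    exact (Submodule.Quotient.mk_eq_zero _).2 hxI
  have h1 := congrArg (TensorProduct.quotTensorEquivQuotSMul Ka I) h0
  rw [map_zero, TensorProduct.quotTensorEquivQuotSMul_mk_one_tmul] at h1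
  have h2 : (⟨x, hxKa⟩ : Ka) ∈ I • (⊤ : Submodule A Ka) :=
    (Submodule.Quotient.mk_eq_zero _).1 h1
  have h3 : x ∈ I • Ka := (Submodule.mem_smul_top_iff I Ka ⟨x, hxKa⟩).1 h2
  have h4 : I • Ka ≤ ((I.map (algebraMap A H)) • RingHom.ker φ).restrictScalars A := by
    rw [Submodule.smul_le]
    intro a ha k hk
    show a • k ∈ (I.map (algebraMap A H)) • RingHom.ker φ
    rw [Algebra.smul_def a k]
    have hk0 : φ k = 0 := hk
    have hk' : k ∈ RingHom.ker φ := RingHom.mem_ker.2 hk0
    exact Submodule.smul_mem_smul (Ideal.mem_map_of_mem _ ha) hk'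
  exact h4 h3

/-- If moreover `I` is nilpotent, `φ` is injective. -/
theorem ker_eq_bot_of_flat_of_pow_eq_bot {A H B : Type u} [CommRing A] [CommRing H] [CommRing B]
    [Algebra A H] [Algebra A B] [Module.Flat A B] (I : Ideal A) (n : ℕ) (hn : I ^ n = ⊥)
    (φ : H →ₐ[A] B) (hφ : Function.Surjective φ)
    (hle : RingHom.ker φ ≤ I.map (algebraMap A H)) : RingHom.ker φ = ⊥ := by
  have step' : RingHom.ker φ ≤ (I.map (algebraMap A H)) * RingHom.ker φ :=
    ker_le_smul_ker_of_flat I φ hφ hle
  have hpow : ∀ m : ℕ, RingHom.ker φ ≤ (I.map (algebraMap A H)) ^ m * RingHom.ker φ := by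
    intro m
    induction m with
    | zero => rw [pow_zero, one_mul]
    | succ m ih =>
      calc RingHom.ker φ ≤ (I.map (algebraMap A H)) * RingHom.ker φ := step'
        _ ≤ (I.map (algebraMap A H)) * ((I.map (algebraMap A H)) ^ m * RingHom.ker φ) :=
          Ideal.mul_mono_right ih
        _ = (I.map (algebraMap A H)) ^ (m + 1) * RingHom.ker φ := by
          rw [← mul_assoc, ← pow_succ']
  have hJn : (I.map (algebraMap A H)) ^ n = ⊥ := by
    rw [← Ideal.map_pow, hn, Ideal.map_bot]
  have h0 := hpow n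
  rw [hJn, Ideal.bot_mul] at h0
  exact le_bot_iff.mp h0

theorem ker_le_map_pow_flat {A H B : Type u} [CommRing A] [CommRing H] [CommRing B] [Algebra A H]
    [Algebra A B] (I : Ideal A) (φ : H →ₐ[A] B) (hφ : Function.Surjective φ)
    (h1 : ∀ x : H, φ x ∈ I.map (algebraMap A B) → x ∈ I.map (algebraMap A H))
    (n : ℕ) (hn : 1 ≤ n)
    [Module.Flat (A ⧸ I ^ n) (B ⧸ (I ^ n).map (algebraMap A B))] :
    RingHom.ker φ ≤ (I ^ n).map (algebraMap A H) := by
  have hJJ' : (I ^ n).map (algebraMap A H) ≤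
      ((I ^ n).map (algebraMap A B)).comap (φ : H →+* B) := by
    rw [Ideal.map_le_iff_le_comap]
    intro a ha
    rw [Ideal.mem_comap, Ideal.mem_comap]
    show φ (algebraMap A H a) ∈ _
    rw [φ.commutes]
    exact Ideal.mem_map_of_mem _ ha
  let ψ : (H ⧸ (I ^ n).map (algebraMap A H)) →+* (B ⧸ (I ^ n).map (algebraMap A B)) :=
    Ideal.quotientMap _ (φ : H →+* B) hJJ'
  have hψmk : ∀ x : H, ψ (Ideal.Quotient.mk _ x) = Ideal.Quotient.mk _ (φ x) :=
    fun x => Ideal.quotientMap_mk
  have hcomm : ∀ x : A ⧸ I ^ n,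
      ψ (algebraMap (A ⧸ I ^ n) (H ⧸ (I ^ n).map (algebraMap A H)) x)
      = algebraMap (A ⧸ I ^ n) (B ⧸ (I ^ n).map (algebraMap A B)) x := by
    intro x
    obtain ⟨a, rfl⟩ := Ideal.Quotient.mk_surjective x
    show ψ (Ideal.Quotient.mk _ (algebraMap A H a)) = Ideal.Quotient.mk _ (algebraMap A B a)
    rw [hψmk, φ.commutes]
  let π : (H ⧸ (I ^ n).map (algebraMap A H)) →ₐ[A ⧸ I ^ n] (B ⧸ (I ^ n).map (algebraMap A B)) :=
    { ψ with commutes' := hcomm }
  have hπψ : ∀ y, π y = ψ y := fun _ => rfl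
  have hπs : Function.Surjective π := by
    intro w
    obtain ⟨b, rfl⟩ := Ideal.Quotient.mk_surjective w
    obtain ⟨x, rfl⟩ := hφ b
    exact ⟨Ideal.Quotient.mk _ x, by rw [hπψ, hψmk]⟩
  have hpowle : I ^ n ≤ I := Ideal.pow_le_self (by omega)
  have hIn : (I.map (Ideal.Quotient.mk (I ^ n))) ^ n = ⊥ := by
    rw [← Ideal.map_pow, Ideal.map_quotient_self]
  have hcomp : (algebraMap (A ⧸ I ^ n) (H ⧸ (I ^ n).map (algebraMap A H))).comp
      (Ideal.Quotient.mk (I ^ n))
      = (Ideal.Quotient.mk ((I ^ n).map (algebraMap A H))).comp (algebraMap A H) :=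
    RingHom.ext (fun a => rfl)
  have hle' : RingHom.ker π ≤ (I.map (Ideal.Quotient.mk (I ^ n))).map
      (algebraMap (A ⧸ I ^ n) (H ⧸ (I ^ n).map (algebraMap A H))) := by
    intro y hy
    obtain ⟨x, rfl⟩ := Ideal.Quotient.mk_surjective y
    have hy0 : π (Ideal.Quotient.mk _ x) = 0 := RingHom.mem_ker.1 hy
    have hy' : ψ (Ideal.Quotient.mk _ x) = 0 := (hπψ _).symm.trans hy0
    rw [hψmk, Ideal.Quotient.eq_zero_iff_mem] at hy'
    have hx : x ∈ I.map (algebraMap A H) := h1 x (Ideal.map_mono hpowle hy')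
    rw [Ideal.map_map, hcomp, ← Ideal.map_map]
    exact Ideal.mem_map_of_mem _ hx
  have hker := ker_eq_bot_of_flat_of_pow_eq_bot (I.map (Ideal.Quotient.mk (I ^ n))) n hIn π hπs hle'
  intro x hx
  have hx0 : φ x = 0 := RingHom.mem_ker.1 hx
  have h2 : Ideal.Quotient.mk ((I ^ n).map (algebraMap A H)) x ∈ RingHom.ker π := by
    rw [RingHom.mem_ker, hπψ, hψmk, hx0, map_zero]
  rw [hker] at h2
  exact Ideal.Quotient.eq_zero_iff_mem.1 ((Ideal.mem_bot).mp h2)

/-- **S17599**. -/
theorem main17599 (A : Type u) [CommRing A] (I : Ideal A)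
    [HenselianRing A I] (R₀ : Type u) [CommRing R₀] [Algebra A R₀] [Algebra.FinitePresentation A R₀]
    (B : Type u) [CommRing B] [Algebra R₀ B] [Algebra A B] [IsScalarTower A R₀ B]
    (hB : Hens2.IsPairHenselization R₀ (I.map (algebraMap A R₀)) B)
    (het : ∀ r : ℕ, 1 ≤ r → Algebra.Smooth (A ⧸ I ^ r) (B ⧸ (I ^ r).map (algebraMap A B))) :
    ∃ (R : Type u) (_ : CommRing R) (_ : Algebra A R) (H : Type u) (_ : CommRing H) (_ : Algebra R H)
      (_ : Algebra A H) (_ : IsScalarTower A R H),
      Algebra.Smooth A R ∧ Hens2.IsPairHenselization R (I.map (algebraMap A R)) H ∧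
      ∃ φ : H →ₐ[A] B, Function.Surjective φ ∧ (RingHom.ker φ).FG ∧
        ∀ n : ℕ, RingHom.ker φ ≤ (I ^ n).map (algebraMap A H) := by
  classical
  have hmapB : (I.map (algebraMap A R₀)).map (algebraMap R₀ B) = I.map (algebraMap A B) := by
    rw [Ideal.map_map, ← IsScalarTower.algebraMap_eq]
  have hBI : HenselianRing B (I.map (algebraMap A B)) := by rw [← hmapB]; exact hB.1
  haveI het1 : Algebra.Smooth (A ⧸ I) (B ⧸ I.map (algebraMap A B)) :=
    smooth_quot_congr (I ^ 1) I (pow_one I) (het 1 le_rfl)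
  obtain ⟨R, instR, instAR, hRsm, ⟨e⟩⟩ :=
    Groth.Agent.Lib.SyntLiftH6.main6827 (R := A) (A₀ := B ⧸ I.map (algebraMap A B)) I
  haveI := hRsm
  haveI : Algebra.FinitePresentation A R := hRsm.finitePresentation
  obtain ⟨H, _, _, hH1, hH2⟩ :=
    Groth.Agent.Lib.PairHensExists.exists_henselization R (I.map (algebraMap A R))
  have hH : Hens2.IsPairHenselization R (I.map (algebraMap A R)) H := ⟨hH1, hH2⟩
  letI algAH : Algebra A H := ((algebraMap R H).comp (algebraMap A R)).toAlgebra
  haveI towAH : IsScalarTower A R H := IsScalarTower.of_algebraMap_eq (fun _ => rfl)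
  have hmapH : (I.map (algebraMap A R)).map (algebraMap R H) = I.map (algebraMap A H) := by
    rw [Ideal.map_map, ← IsScalarTower.algebraMap_eq]
  haveI hHI : HenselianRing H (I.map (algebraMap A H)) := by rw [← hmapH]; exact hH1
  -- the map `R → B/IB`
  let ρ : R →ₐ[A] (B ⧸ I.map (algebraMap A B)) :=
    (e.toAlgHom.restrictScalars A).comp (Ideal.Quotient.mkₐ A (I.map (algebraMap A R)))
  have hρ : ∀ r, ρ r = e (Ideal.Quotient.mk (I.map (algebraMap A R)) r) := fun _ => rfl
  have hρs : Function.Surjective ρ := by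
    intro w
    obtain ⟨t, rfl⟩ := e.surjective w
    obtain ⟨r, rfl⟩ := Ideal.Quotient.mk_surjective t
    exact ⟨r, rfl⟩
  obtain ⟨fR, hfR'⟩ := HensPairSmH8.main A R B (I.map (algebraMap A B)) ρ
  have hfR : ∀ r, Ideal.Quotient.mk (I.map (algebraMap A B)) (fR r) = ρ r :=
    fun r => AlgHom.congr_fun hfR' r
  have hmapJ : (I.map (algebraMap A R)).map fR.toRingHom ≤ I.map (algebraMap A B) := by
    rw [Ideal.map_map]
    have : fR.toRingHom.comp (algebraMap A R) = algebraMap A B :=
      RingHom.ext fun a => fR.commutes a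
    rw [this]
  obtain ⟨g, hg, -⟩ := hH2 B _ fR.toRingHom hBI hmapJ
  have hg' : ∀ r, g (algebraMap R H r) = fR r := fun r => RingHom.congr_fun hg r
  have hcφ : ∀ a, g (algebraMap A H a) = algebraMap A B a := fun a => by
    rw [IsScalarTower.algebraMap_apply A R H, hg', fR.commutes]
  let φ : H →ₐ[A] B := { g with commutes' := hcφ }
  have hφg : ∀ x, φ x = g x := fun _ => rfl
  letI algHB : Algebra H B := φ.toRingHom.toAlgebra
  have halg : ∀ x, algebraMap H B x = φ x := fun _ => rfl
  haveI towAHB : IsScalarTower A H B :=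
    IsScalarTower.of_algebraMap_eq (fun a => by rw [halg, φ.commutes])
  have hmapHB : (I.map (algebraMap A H)).map (algebraMap H B) = I.map (algebraMap A B) := by
    rw [Ideal.map_map, ← IsScalarTower.algebraMap_eq]
  obtain ⟨T, _, _, _, _, hTfp, hT⟩ := Groth.Agent.S17609.result A I R H hH R₀ B hB
  haveI := hTfp
  have hsurjq : Function.Surjective
      (Ideal.quotientMap ((I.map (algebraMap A H)).map (algebraMap H B)) (algebraMap H B)
        Ideal.le_comap_map) := by
    intro w
    obtain ⟨b, rfl⟩ := Ideal.Quotient.mk_surjective w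
    obtain ⟨r, hr⟩ := hρs (Ideal.Quotient.mk _ b)
    refine ⟨Ideal.Quotient.mk _ (algebraMap R H r), ?_⟩
    rw [Ideal.quotientMap_mk]
    apply Ideal.Quotient.eq.2
    rw [hmapHB, halg, hφg, hg']
    apply Ideal.Quotient.eq.1
    rw [hfR r, hr]
  have hφs : Function.Surjective φ :=
    Groth.Agent.S17597.result H (I.map (algebraMap A H)) T B hT hsurjq
  have hfinq : (Ideal.quotientMap ((I.map (algebraMap A H)).map (algebraMap H B))
      (algebraMap H B) Ideal.le_comap_map).Finite :=
    RingHom.Finite.of_surjective _ hsurjq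
  obtain ⟨-, hfpHB⟩ := Groth.Agent.S17596.result H (I.map (algebraMap A H)) T B hT hfinq
  haveI := hfpHB
  have hkerfg : (RingHom.ker φ).FG := by
    have h1 := Algebra.FinitePresentation.ker_fG_of_surjective (Algebra.ofId H B) hφs
    have h2 : RingHom.ker φ = RingHom.ker (Algebra.ofId H B).toRingHom := by
      ext x
      rw [RingHom.mem_ker, RingHom.mem_ker]
      exact Iff.rfl
    rw [h2]; exact h1
  -- injectivity modulo `I`
  have hφI : ∀ y ∈ I.map (algebraMap A H), φ y ∈ I.map (algebraMap A B) := by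
    have hle : I.map (algebraMap A H) ≤ (I.map (algebraMap A B)).comap (φ : H →+* B) := by
      rw [Ideal.map_le_iff_le_comap]
      intro a ha
      rw [Ideal.mem_comap, Ideal.mem_comap]
      show φ (algebraMap A H a) ∈ _
      rw [φ.commutes]
      exact Ideal.mem_map_of_mem _ ha
    exact fun y hy => hle hy
  have hinj1 : ∀ x : H, φ x ∈ I.map (algebraMap A B) → x ∈ I.map (algebraMap A H) := by
    intro x hx
    have hbij := Groth.Agent.Lib.PairHensQuot.quotientMap_bijective H (I.map (algebraMap A R))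
      hH1 hH2
    obtain ⟨z, hz⟩ := hbij.2 (Ideal.Quotient.mk _ x)
    obtain ⟨r, rfl⟩ := Ideal.Quotient.mk_surjective z
    rw [Ideal.quotientMap_mk] at hz
    have hi : x - algebraMap R H r ∈ (I.map (algebraMap A R)).map (algebraMap R H) := by
      rw [← Ideal.Quotient.eq]; exact hz.symm
    rw [hmapH] at hi
    have h1 : φ (x - algebraMap R H r) ∈ I.map (algebraMap A B) := hφI _ hi
    have h2 : fR r ∈ I.map (algebraMap A B) := by
      have h3 : φ (algebraMap R H r) = fR r := by rw [hφg, hg']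
      have h4 : fR r = φ x - φ (x - algebraMap R H r) := by
        rw [map_sub, h3]; ring
      rw [h4]
      exact Ideal.sub_mem _ hx h1
    have h5 : ρ r = 0 := by
      rw [← hfR r]; exact Ideal.Quotient.eq_zero_iff_mem.2 h2
    rw [hρ] at h5
    have h6 : Ideal.Quotient.mk (I.map (algebraMap A R)) r = 0 := by
      apply e.injective
      rw [h5, map_zero]
    have h7 : r ∈ I.map (algebraMap A R) := Ideal.Quotient.eq_zero_iff_mem.1 h6
    have h8 : algebraMap R H r ∈ I.map (algebraMap A H) := by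
      rw [← hmapH]; exact Ideal.mem_map_of_mem _ h7
    have h9 : x = (x - algebraMap R H r) + algebraMap R H r := by ring
    rw [h9]
    exact Ideal.add_mem _ hi h8
  refine ⟨R, inferInstance, inferInstance, H, inferInstance, inferInstance, algAH, towAH, hRsm,
    hH, φ, hφs, hkerfg, ?_⟩
  intro n
  rcases Nat.eq_zero_or_pos n with hn | hn
  · subst hn
    rw [pow_zero, Ideal.one_eq_top, Ideal.map_top]
    exact le_top
  · haveI := het n hn
    haveI : Module.Flat (A ⧸ I ^ n) (B ⧸ (I ^ n).map (algebraMap A B)) := inferInstance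
    exact ker_le_map_pow_flat I φ hφs hinj1 n hn

end Groth.Agent.Lib.HfpSmoothH4
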