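import Mathlib
import Groth.Agent.Lib.HensTrunc_lead

/-!
# h-formally étale / smooth versus étale / smooth truncations (lead)
-/

set_option autoImplicit false
universe u

namespace Groth.Agent.Lib.HfpTrunc

open Groth.Agent.Lib

section QuotHom

variable {A : Type u} [CommRing A] (J : Ideal A) {B : Type u} [CommRing B] [Algebra A B]
  {E : Type u} [CommRing E] [Algebra A E] [Algebra (A ⧸ J) E] [IsScalarTower A (A ⧸ J) E]

theorem map_le_ker (v : B →ₐ[A] E) : ∀ b ∈ J.map (algebraMap A B), v.toRingHom b = 0 := by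
  have hle : J.map (algebraMap A B) ≤ RingHom.ker v.toRingHom := by
    rw [Ideal.map_le_iff_le_comap]
    intro a ha
    rw [Ideal.mem_comap, RingHom.mem_ker]
    show v (algebraMap A B a) = 0
    rw [v.commutes, IsScalarTower.algebraMap_apply A (A ⧸ J) E]
    show algebraMap (A ⧸ J) E (Ideal.Quotient.mk J a) = 0
    rw [Ideal.Quotient.eq_zero_iff_mem.2 ha, map_zero]
  exact fun b hb => hle hb

theorem down_comm (v : B →ₐ[A] E) (x : A ⧸ J) :
    Ideal.Quotient.lift (J.map (algebraMap A B)) v.toRingHom (map_le_ker J v)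
      (algebraMap (A ⧸ J) (B ⧸ J.map (algebraMap A B)) x) = algebraMap (A ⧸ J) E x := by
  obtain ⟨a, rfl⟩ := Ideal.Quotient.mk_surjective x
  show v (algebraMap A B a) = algebraMap (A ⧸ J) E (Ideal.Quotient.mk J a)
  rw [v.commutes, IsScalarTower.algebraMap_apply A (A ⧸ J) E]
  rfl

/-- an `A`-algebra map to an `A/J`-algebra factors through `B/JB` -/
noncomputable def down (v : B →ₐ[A] E) : (B ⧸ J.map (algebraMap A B)) →ₐ[A ⧸ J] E :=
  { Ideal.Quotient.lift (J.map (algebraMap A B)) v.toRingHom (map_le_ker J v) with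
    commutes' := down_comm J v }

theorem down_mk (v : B →ₐ[A] E) (b : B) : down J v (Ideal.Quotient.mk _ b) = v b := rfl

noncomputable def up (w : (B ⧸ J.map (algebraMap A B)) →ₐ[A ⧸ J] E) : B →ₐ[A] E :=
  (w.restrictScalars A).comp (Ideal.Quotient.mkₐ A (J.map (algebraMap A B)))

theorem up_apply (w : (B ⧸ J.map (algebraMap A B)) →ₐ[A ⧸ J] E) (b : B) :
    up J w b = w (Ideal.Quotient.mk _ b) := rfl

end QuotHom

section Lift

variable {A : Type u} [CommRing A] (J : Ideal A) {B : Type u} [CommRing B] [Algebra A B]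

theorem existsUnique_lift_of_etale
    [Algebra.FormallyEtale (A ⧸ J) (B ⧸ J.map (algebraMap A B))]
    (E C : Type u) [CommRing E] [CommRing C] [Algebra A E] [Algebra A C]
    (hE : J.map (algebraMap A E) = ⊥) (hC : J.map (algebraMap A C) = ⊥)
    (p : E →ₐ[A] C) (hp : Function.Surjective p)
    (hnil : ∃ M : ℕ, 1 ≤ M ∧ RingHom.ker p ^ M = ⊥)
    (u : B →ₐ[A] C) : ∃! v : B →ₐ[A] E, p.comp v = u := by
  have hE' : ∀ a ∈ J, algebraMap A E a = 0 := fun a ha => by
    have h : algebraMap A E a ∈ J.map (algebraMap A E) := Ideal.mem_map_of_mem _ ha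
    rw [hE] at h; exact h
  have hC' : ∀ a ∈ J, algebraMap A C a = 0 := fun a ha => by
    have h : algebraMap A C a ∈ J.map (algebraMap A C) := Ideal.mem_map_of_mem _ ha
    rw [hC] at h; exact h
  letI algE : Algebra (A ⧸ J) E := (Ideal.Quotient.lift J (algebraMap A E) hE').toAlgebra
  haveI : IsScalarTower A (A ⧸ J) E := IsScalarTower.of_algebraMap_eq fun a => rfl
  letI algC : Algebra (A ⧸ J) C := (Ideal.Quotient.lift J (algebraMap A C) hC').toAlgebra
  haveI : IsScalarTower A (A ⧸ J) C := IsScalarTower.of_algebraMap_eq fun a => rfl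
  have hpc : ∀ x : A ⧸ J, p.toRingHom (algebraMap (A ⧸ J) E x) = algebraMap (A ⧸ J) C x := by
    intro x
    obtain ⟨a, rfl⟩ := Ideal.Quotient.mk_surjective x
    show p (algebraMap A E a) = algebraMap A C a
    exact p.commutes a
  let p' : E →ₐ[A ⧸ J] C := { p.toRingHom with commutes' := hpc }
  have hp' : Function.Surjective p' := hp
  have hker : RingHom.ker (p' : E →+* C) = RingHom.ker p := Ideal.ext fun x => by
    rw [RingHom.mem_ker, RingHom.mem_ker]; rfl
  obtain ⟨M, -, hM⟩ := hnil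
  have hnil' : IsNilpotent (RingHom.ker (p' : E →+* C)) := ⟨M, by rw [hker]; exact hM⟩
  obtain ⟨vb, hvb⟩ : ∃ vb : (B ⧸ J.map (algebraMap A B)) →ₐ[A ⧸ J] E, p'.comp vb = down J u :=
    ⟨Algebra.FormallySmooth.liftOfSurjective (down J u) p' hp' hnil',
      Algebra.FormallySmooth.comp_liftOfSurjective (down J u) p' hp' hnil'⟩
  refine ⟨up J vb, ?_, ?_⟩
  · show p.comp (up J vb) = u
    refine AlgHom.ext fun b => ?_
    exact AlgHom.congr_fun hvb (Ideal.Quotient.mk _ b)
  · intro v hv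
    have hv' : p.comp v = u := hv
    have h1 : p'.comp (down J v) = p'.comp vb := by
      rw [hvb]
      refine AlgHom.ext fun x => ?_
      obtain ⟨b, rfl⟩ := Ideal.Quotient.mk_surjective x
      exact AlgHom.congr_fun hv' b
    have h2 : down J v = vb := Algebra.FormallyUnramified.lift_unique' p' hnil' _ _ h1
    refine AlgHom.ext fun b => ?_
    show v b = vb (Ideal.Quotient.mk _ b)
    rw [← h2]
    rfl

theorem exists_lift_of_smooth
    [Algebra.FormallySmooth (A ⧸ J) (B ⧸ J.map (algebraMap A B))]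
    (E C : Type u) [CommRing E] [CommRing C] [Algebra A E] [Algebra A C]
    (hE : J.map (algebraMap A E) = ⊥) (hC : J.map (algebraMap A C) = ⊥)
    (p : E →ₐ[A] C) (hp : Function.Surjective p)
    (hnil : ∃ M : ℕ, 1 ≤ M ∧ RingHom.ker p ^ M = ⊥)
    (u : B →ₐ[A] C) : ∃ v : B →ₐ[A] E, p.comp v = u := by
  have hE' : ∀ a ∈ J, algebraMap A E a = 0 := fun a ha => by
    have h : algebraMap A E a ∈ J.map (algebraMap A E) := Ideal.mem_map_of_mem _ ha
    rw [hE] at h; exact h
  have hC' : ∀ a ∈ J, algebraMap A C a = 0 := fun a ha => by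
    have h : algebraMap A C a ∈ J.map (algebraMap A C) := Ideal.mem_map_of_mem _ ha
    rw [hC] at h; exact h
  letI algE : Algebra (A ⧸ J) E := (Ideal.Quotient.lift J (algebraMap A E) hE').toAlgebra
  haveI : IsScalarTower A (A ⧸ J) E := IsScalarTower.of_algebraMap_eq fun a => rfl
  letI algC : Algebra (A ⧸ J) C := (Ideal.Quotient.lift J (algebraMap A C) hC').toAlgebra
  haveI : IsScalarTower A (A ⧸ J) C := IsScalarTower.of_algebraMap_eq fun a => rfl
  have hpc : ∀ x : A ⧸ J, p.toRingHom (algebraMap (A ⧸ J) E x) = algebraMap (A ⧸ J) C x := by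
    intro x
    obtain ⟨a, rfl⟩ := Ideal.Quotient.mk_surjective x
    show p (algebraMap A E a) = algebraMap A C a
    exact p.commutes a
  let p' : E →ₐ[A ⧸ J] C := { p.toRingHom with commutes' := hpc }
  have hp' : Function.Surjective p' := hp
  have hker : RingHom.ker (p' : E →+* C) = RingHom.ker p := Ideal.ext fun x => by
    rw [RingHom.mem_ker, RingHom.mem_ker]; rfl
  obtain ⟨M, -, hM⟩ := hnil
  have hnil' : IsNilpotent (RingHom.ker (p' : E →+* C)) := ⟨M, by rw [hker]; exact hM⟩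
  obtain ⟨vb, hvb⟩ : ∃ vb : (B ⧸ J.map (algebraMap A B)) →ₐ[A ⧸ J] E, p'.comp vb = down J u :=
    ⟨Algebra.FormallySmooth.liftOfSurjective (down J u) p' hp' hnil',
      Algebra.FormallySmooth.comp_liftOfSurjective (down J u) p' hp' hnil'⟩
  refine ⟨up J vb, ?_⟩
  refine AlgHom.ext fun b => ?_
  exact AlgHom.congr_fun hvb (Ideal.Quotient.mk _ b)

theorem formallyEtale_of_lifting
    (H : ∀ (E C : Type u) [CommRing E] [CommRing C] [Algebra A E] [Algebra A C],
        J.map (algebraMap A E) = ⊥ → J.map (algebraMap A C) = ⊥ →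
        ∀ (p : E →ₐ[A] C), Function.Surjective p → RingHom.ker p ^ 2 = ⊥ →
        ∀ u : B →ₐ[A] C, ∃! v : B →ₐ[A] E, p.comp v = u) :
    Algebra.FormallyEtale (A ⧸ J) (B ⧸ J.map (algebraMap A B)) := by
  rw [Algebra.FormallyEtale.iff_comp_bijective]
  intro C' _ _ K hK
  letI : Algebra A C' := ((algebraMap (A ⧸ J) C').comp (Ideal.Quotient.mk J)).toAlgebra
  haveI : IsScalarTower A (A ⧸ J) C' := IsScalarTower.of_algebraMap_eq fun _ => rfl
  have hE : J.map (algebraMap A C') = ⊥ := by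
    rw [eq_bot_iff, Ideal.map_le_iff_le_comap]
    intro a ha
    rw [Ideal.mem_comap, Ideal.mem_bot]
    show algebraMap (A ⧸ J) C' (Ideal.Quotient.mk J a) = 0
    rw [Ideal.Quotient.eq_zero_iff_mem.2 ha, map_zero]
  have hC : J.map (algebraMap A (C' ⧸ K)) = ⊥ := by
    rw [eq_bot_iff, Ideal.map_le_iff_le_comap]
    intro a ha
    rw [Ideal.mem_comap, Ideal.mem_bot]
    show Ideal.Quotient.mk K (algebraMap (A ⧸ J) C' (Ideal.Quotient.mk J a)) = 0
    rw [Ideal.Quotient.eq_zero_iff_mem.2 ha, map_zero, map_zero]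
  have hker : RingHom.ker (Ideal.Quotient.mkₐ A K) = K := by
    ext x
    rw [RingHom.mem_ker, Ideal.Quotient.mkₐ_eq_mk, Ideal.Quotient.eq_zero_iff_mem]
  have Huse := H C' (C' ⧸ K) hE hC (Ideal.Quotient.mkₐ A K) (Ideal.Quotient.mkₐ_surjective A K)
    (by rw [hker]; exact hK)
  refine ⟨fun v₁ v₂ h => ?_, fun w => ?_⟩
  · obtain ⟨v₀, -, huniq⟩ := Huse ((Ideal.Quotient.mkₐ A K).comp (up J v₁))
    have h1 : up J v₁ = v₀ := huniq _ (by
      show (Ideal.Quotient.mkₐ A K).comp (up J v₁) = (Ideal.Quotient.mkₐ A K).comp (up J v₁)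
      rfl)
    have h2 : up J v₂ = v₀ := huniq _ (by
      show (Ideal.Quotient.mkₐ A K).comp (up J v₂) = (Ideal.Quotient.mkₐ A K).comp (up J v₁)
      refine AlgHom.ext fun b => ?_
      exact (AlgHom.congr_fun h (Ideal.Quotient.mk _ b)).symm)
    refine AlgHom.ext fun x => ?_
    obtain ⟨b, rfl⟩ := Ideal.Quotient.mk_surjective x
    exact AlgHom.congr_fun (h1.trans h2.symm) b
  · obtain ⟨v, hv, -⟩ := Huse (up J w)
    have hv' : (Ideal.Quotient.mkₐ A K).comp v = up J w := hv
    refine ⟨down J v, AlgHom.ext fun x => ?_⟩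
    obtain ⟨b, rfl⟩ := Ideal.Quotient.mk_surjective x
    exact AlgHom.congr_fun hv' b

theorem formallySmooth_of_lifting
    (H : ∀ (E C : Type u) [CommRing E] [CommRing C] [Algebra A E] [Algebra A C],
        J.map (algebraMap A E) = ⊥ → J.map (algebraMap A C) = ⊥ →
        ∀ (p : E →ₐ[A] C), Function.Surjective p → RingHom.ker p ^ 2 = ⊥ →
        ∀ u : B →ₐ[A] C, ∃ v : B →ₐ[A] E, p.comp v = u) :
    Algebra.FormallySmooth (A ⧸ J) (B ⧸ J.map (algebraMap A B)) := by
  rw [Algebra.FormallySmooth.iff_comp_surjective]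
  intro C' _ _ K hK
  letI : Algebra A C' := ((algebraMap (A ⧸ J) C').comp (Ideal.Quotient.mk J)).toAlgebra
  haveI : IsScalarTower A (A ⧸ J) C' := IsScalarTower.of_algebraMap_eq fun _ => rfl
  have hE : J.map (algebraMap A C') = ⊥ := by
    rw [eq_bot_iff, Ideal.map_le_iff_le_comap]
    intro a ha
    rw [Ideal.mem_comap, Ideal.mem_bot]
    show algebraMap (A ⧸ J) C' (Ideal.Quotient.mk J a) = 0
    rw [Ideal.Quotient.eq_zero_iff_mem.2 ha, map_zero]
  have hC : J.map (algebraMap A (C' ⧸ K)) = ⊥ := by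
    rw [eq_bot_iff, Ideal.map_le_iff_le_comap]
    intro a ha
    rw [Ideal.mem_comap, Ideal.mem_bot]
    show Ideal.Quotient.mk K (algebraMap (A ⧸ J) C' (Ideal.Quotient.mk J a)) = 0
    rw [Ideal.Quotient.eq_zero_iff_mem.2 ha, map_zero, map_zero]
  have hker : RingHom.ker (Ideal.Quotient.mkₐ A K) = K := by
    ext x
    rw [RingHom.mem_ker, Ideal.Quotient.mkₐ_eq_mk, Ideal.Quotient.eq_zero_iff_mem]
  have Huse := H C' (C' ⧸ K) hE hC (Ideal.Quotient.mkₐ A K) (Ideal.Quotient.mkₐ_surjective A K)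
    (by rw [hker]; exact hK)
  intro w
  obtain ⟨v, hv⟩ := Huse (up J w)
  refine ⟨down J v, AlgHom.ext fun x => ?_⟩
  obtain ⟨b, rfl⟩ := Ideal.Quotient.mk_surjective x
  exact AlgHom.congr_fun hv b

end Lift

theorem fp_trunc (A : Type u) [CommRing A] (I : Ideal A)
    (R : Type u) [CommRing R] [Algebra A R] [Algebra.FinitePresentation A R]
    (B : Type u) [CommRing B] [Algebra R B] [Algebra A B] [IsScalarTower A R B]
    (hB : Hens2.IsPairHenselization R (I.map (algebraMap A R)) B) (r : ℕ) :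
    Algebra.FinitePresentation (A ⧸ I ^ r) (B ⧸ (I ^ r).map (algebraMap A B)) := by
  obtain ⟨e⟩ := HensTrunc.exists_algEquiv_quotient A I R B hB r
  haveI : Algebra.FinitePresentation (A ⧸ I ^ r) (R ⧸ (I ^ r).map (algebraMap A R)) :=
    Algebra.FinitePresentation.equiv
      (Algebra.TensorProduct.quotIdealMapEquivQuotTensor R (I ^ r)).symm
  exact Algebra.FinitePresentation.equiv e

end Groth.Agent.Lib.HfpTrunc
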