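import Mathlib
import Groth.Prelude
import Groth.Agent.Lib.Higgs2_helper9
import Groth.Agent.Lib.VBCurve4_helper9
import Groth.Agent.Lib.VBSat1_helper9
import Groth.Agent.Lib.CurveSub1_helper9

/-!
# Twisted (Higgs) pairs on a curve: quotient by an invariant submodule of the same slope (helper9)

`Higgs.quotient_pair_ss`: for a semistable pair `(E, φ : E → E ⊗ L)` and an invariant finite
locally free submodule `F` with `μ(F) = μ(E)`, the quotient `E/F` is finite locally free and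
semistable for every induced twisted endomorphism (statement of S15328 over any field).
APPEND-ONLY once landed.
-/

set_option autoImplicit false
universe u
open CategoryTheory CategoryTheory.Limits AlgebraicGeometry Opposite TopologicalSpace

namespace Higgs

open Groth.Agent.TensInv

section Pull

variable {X : Scheme.{u}}

/-- the preimage of an invariant submodule of a quotient is invariant -/
theorem exists_restriction_pullback {L : X.Modules} (hL : PicF.IsInvertible L)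
    {E Q G : X.Modules} (π : E ⟶ Q) (j : G ⟶ Q)
    (φ : E ⟶ CohB1.tensorMod E L) (φ' : Q ⟶ CohB1.tensorMod Q L)
    (hφ' : π ≫ φ' = φ ≫ (tR L).map π)
    (ψ : G ⟶ CohB1.tensorMod G L) (hψ : ψ ≫ (tR L).map j = j ≫ φ') :
    ∃ χ : pullback π j ⟶ CohB1.tensorMod (pullback π j) L,
      χ ≫ (tR L).map (pullback.fst π j) = pullback.fst π j ≫ φ := by
  obtain ⟨L', hL', ⟨e0⟩⟩ := Groth.Agent.InvTensP.exists_inverse L hL
  haveI : (tR L).IsEquivalence := isEquivalence_tR ⟨e0⟩
  have hpb : IsPullback ((tR L).map (pullback.fst π j)) ((tR L).map (pullback.snd π j))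
      ((tR L).map π) ((tR L).map j) := (IsPullback.of_hasPullback π j).map (tR L)
  let φ₁ : E ⟶ (tR L).obj E := φ
  let φ₂ : Q ⟶ (tR L).obj Q := φ'
  let ψ₁ : G ⟶ (tR L).obj G := ψ
  have h1 : π ≫ φ₂ = φ₁ ≫ (tR L).map π := hφ'
  have h2 : ψ₁ ≫ (tR L).map j = j ≫ φ₂ := hψ
  have hcompat : (pullback.fst π j ≫ φ₁) ≫ (tR L).map π =
      (pullback.snd π j ≫ ψ₁) ≫ (tR L).map j := by
    rw [Category.assoc, ← h1, ← Category.assoc, pullback.condition, Category.assoc, ← h2,
      Category.assoc]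
  exact ⟨hpb.lift _ _ hcompat, hpb.lift_fst _ _ hcompat⟩

end Pull

section Quot

variable (k : Type u) [Field k] (X : Scheme.{u}) [X.Over (Spec (CommRingCat.of k))]
  [IsIntegral X] [IsProper (X ↘ Spec (CommRingCat.of k))]

/-- an invariant submodule of a semistable pair of the same slope has finite locally free
cokernel -/
theorem coker_locFree_of_pair_ss (hreg : ∀ x : X, IsRegularLocalRing (X.presheaf.stalk x))
    (hdim : topologicalKrullDim X = 1) {L : X.Modules} (hL : PicF.IsInvertible L)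
    {r : ℕ} (hr : 0 < r) {E : X.Modules} (hE : FlatMod.IsFinLocFreeOfRank r E)
    (φ : E ⟶ CohB1.tensorMod E L)
    (hss : ∀ (G : X.Modules) (n : ℕ) (j : G ⟶ E) (χ : G ⟶ CohB1.tensorMod G L), Mono j → 0 < n →
      FlatMod.IsFinLocFreeOfRank n G → χ ≫ (tR L).map j = j ≫ φ →
      Curv2.deg k X G n * (r : ℤ) ≤ Curv2.deg k X E r * (n : ℤ))
    {F : X.Modules} {r' : ℕ} (hr' : 0 < r') (hF : FlatMod.IsFinLocFreeOfRank r' F)
    (i : F ⟶ E) [Mono i] (ψF : F ⟶ CohB1.tensorMod F L) (hψF : ψF ≫ (tR L).map i = i ≫ φ)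
    (hslope : Curv2.deg k X F r' * (r : ℤ) = Curv2.deg k X E r * (r' : ℤ)) :
    FlatMod.IsFinLocFree (cokernel i) := by
  classical
  haveI : IsLocallyNoetherian X :=
    LocallyOfFiniteType.isLocallyNoetherian (X ↘ Spec (CommRingCat.of k))
  haveI : Nonempty X := inferInstance
  by_contra hnot
  obtain ⟨P₀, p₀, j₀, hp₀, hj₀, hP₀, hlt₀⟩ := VBSat.exists_larger_sub k X hreg hdim i hF hE hnot
  obtain ⟨B, hB⟩ := CurveSub.bddAbove_deg_locFree_sub k X hdim.le hE
  obtain ⟨z, ⟨P, p, jP, hp, hjP, hP, hPz⟩, hmax⟩ := Int.exists_greatest_of_bdd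
    (P := fun z => ∃ (P : X.Modules) (p : P ⟶ E) (jP : F ⟶ P), Mono p ∧ jP ≫ p = i ∧
      FlatMod.IsFinLocFreeOfRank r' P ∧ Curv2.deg k X P r' = z)
    ⟨B, fun z ⟨P, p, jP, hp, _, hP, hz⟩ => hz ▸ hB P r' p hp hP⟩
    ⟨_, P₀, p₀, j₀, hp₀, hj₀, hP₀, rfl⟩
  haveI := hp
  -- `P` is saturated
  have hsat : FlatMod.IsFinLocFree (cokernel p) := by
    by_contra hnot'
    obtain ⟨P', p', j', hp', hj', hP', hlt'⟩ :=
      VBSat.exists_larger_sub k X hreg hdim p hP hE hnot'
    have := hmax _ ⟨P', p', jP ≫ j', hp', by rw [Category.assoc, hj', hjP], hP', rfl⟩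
    linarith
  obtain ⟨c, hC⟩ := VBCurve.exists_rank hsat
  have hW : FlatMod.IsFinLocFreeOfRank c (CohB1.tensorMod (cokernel p) L) :=
    TensBasis.isFinLocFreeOfRank_tensorMod_of_isInvertible hC hL
  -- `P` is invariant
  let φ₁ : E ⟶ (tR L).obj E := φ
  let ψ₁ : F ⟶ (tR L).obj F := ψF
  have hψ₁ : ψ₁ ≫ (tR L).map i = i ≫ φ₁ := hψF
  have hg0 : p ≫ φ₁ ≫ (tR L).map (cokernel.π p) = 0 := by
    by_contra hg
    obtain ⟨rK, rI, hK, hI, hrr, hrI, -, -⟩ := VBCurve.exists_kerIm_data k X hreg hdim.le _ hg hP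
      (FLFH8.IsFinLocFreeOfRank.isFinLocFree _ hW)
    have hjg : jP ≫ (p ≫ φ₁ ≫ (tR L).map (cokernel.π p)) = 0 := by
      have h1 : i ≫ cokernel.π p = 0 := by
        rw [← hjP, Category.assoc, cokernel.condition, comp_zero]
      rw [← Category.assoc, hjP, ← Category.assoc, ← hψ₁, Category.assoc, ← Functor.map_comp, h1,
        Functor.map_zero, comp_zero]
    have hjg' : jP ≫ Abelian.factorThruImage (p ≫ φ₁ ≫ (tR L).map (cokernel.π p)) = 0 := by
      rw [← cancel_mono (Abelian.image.ι _), Category.assoc, Abelian.image.fac, hjg, zero_comp]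
    haveI : Mono jP := mono_of_mono_fac hjP
    haveI : Mono (kernel.lift _ jP hjg') := mono_of_mono_fac (kernel.lift_ι _ _ hjg')
    have hle := CurveSub.rank_le_of_mono (kernel.lift _ jP hjg') hF hK
    omega
  obtain ⟨χ, hχ⟩ := exists_restriction hL p φ hg0
  have h1 := hss P r' p χ hp hr' hP hχ
  have h2 := hmax _ ⟨P₀, p₀, j₀, hp₀, hj₀, hP₀, rfl⟩
  have hr0 : (0 : ℤ) < (r : ℤ) := by exact_mod_cast hr
  have h3 : Curv2.deg k X P r' * (r : ℤ) ≤ Curv2.deg k X F r' * (r : ℤ) := by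
    rw [hslope]; exact h1
  have h4 : Curv2.deg k X P r' ≤ Curv2.deg k X F r' := le_of_mul_le_mul_right h3 hr0
  linarith

/-- **statement of S15328** over any field -/
theorem quotient_pair_ss (hreg : ∀ x : X, IsRegularLocalRing (X.presheaf.stalk x))
    (hdim : topologicalKrullDim X = 1) {L : X.Modules} (hL : PicF.IsInvertible L)
    {r : ℕ} (hr : 0 < r) {E : X.Modules} (hE : FlatMod.IsFinLocFreeOfRank r E)
    (φ : E ⟶ CohB1.tensorMod E L)
    (hss : ∀ (G : X.Modules) (n : ℕ) (j : G ⟶ E) (χ : G ⟶ CohB1.tensorMod G L), Mono j → 0 < n →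
      FlatMod.IsFinLocFreeOfRank n G → χ ≫ (tR L).map j = j ≫ φ →
      Curv2.deg k X G n * (r : ℤ) ≤ Curv2.deg k X E r * (n : ℤ))
    {F : X.Modules} {r' : ℕ} (hr' : 0 < r') (hF : FlatMod.IsFinLocFreeOfRank r' F)
    (i : F ⟶ E) [Mono i] (ψF : F ⟶ CohB1.tensorMod F L) (hψF : ψF ≫ (tR L).map i = i ≫ φ)
    (hslope : Curv2.deg k X F r' * (r : ℤ) = Curv2.deg k X E r * (r' : ℤ)) :
    FlatMod.IsFinLocFreeOfRank (r - r') (cokernel i) ∧
    ∀ (φ' : cokernel i ⟶ CohB1.tensorMod (cokernel i) L),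
      cokernel.π i ≫ φ' = φ ≫ (tR L).map (cokernel.π i) →
      ∀ (G : X.Modules) (s : ℕ) (j : G ⟶ cokernel i) (ψ : G ⟶ CohB1.tensorMod G L), Mono j →
        0 < s → FlatMod.IsFinLocFreeOfRank s G → ψ ≫ (tR L).map j = j ≫ φ' →
        Curv2.deg k X G s * ((r - r' : ℕ) : ℤ) ≤
          Curv2.deg k X (cokernel i) (r - r') * (s : ℤ) := by
  haveI : IsLocallyNoetherian X :=
    LocallyOfFiniteType.isLocallyNoetherian (X ↘ Spec (CommRingCat.of k))
  haveI : Nonempty X := inferInstance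
  have hQf := coker_locFree_of_pair_ss k X hreg hdim hL hr hE φ hss hr' hF i ψF hψF hslope
  obtain ⟨c, hC⟩ := VBCurve.exists_rank hQf
  have hS := VBCurve.cokernel_shortExact X i
  have hrank : r = r' + c := CurveDegAdd.rank_add _ hS hF hE hC
  have hc : r - r' = c := by omega
  rw [hc]
  refine ⟨hC, ?_⟩
  intro φ' hφ' G s j ψ hj hs hG hψ
  haveI := hj
  have hdegE := CurveDegAdd.deg_additive k X _ hS r' r c hF hE hC
  -- the preimage of `G`
  have c₂ := KerFreeH8.isCoh_of_finLocFree (FLFH8.IsFinLocFreeOfRank.isFinLocFree _ hE)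
  have c₃ := KerFreeH8.isCoh_of_finLocFree (FLFH8.IsFinLocFreeOfRank.isFinLocFree _ hC)
  have cG := KerFreeH8.isCoh_of_finLocFree (FLFH8.IsFinLocFreeOfRank.isFinLocFree _ hG)
  have hPf : FlatMod.IsFinLocFree (pullback (cokernel.π i) j) :=
    VBCurve.isFinLocFree_of_mono hreg hdim.le (pullback.fst (cokernel.π i) j)
      (VBCurve.isCoh_pullback (cokernel.π i) j c₂ cG c₃)
      (FLFH8.IsFinLocFreeOfRank.isFinLocFree _ hE)
  obtain ⟨rP, hrP⟩ := VBCurve.exists_rank hPf
  have hS' := VBCurve.pullSC_shortExact _ hS j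
  have hadd : rP = r' + s := CurveDegAdd.rank_add _ hS' hF hrP hG
  subst hadd
  have hdegP := CurveDegAdd.deg_additive k X _ hS' r' (r' + s) s hF hrP hG
  obtain ⟨χ, hχ⟩ := exists_restriction_pullback hL (cokernel.π i) j φ φ' hφ' ψ hψ
  have h1 := hss _ (r' + s) (pullback.fst (cokernel.π i) j) χ inferInstance (by omega) hrP hχ
  have hdegP' : Curv2.deg k X (pullback (cokernel.π i) j) (r' + s) =
      Curv2.deg k X F r' + Curv2.deg k X G s := hdegP
  have hdegE' : Curv2.deg k X E r = Curv2.deg k X F r' + Curv2.deg k X (cokernel i) c := hdegE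
  rw [hdegP'] at h1
  push_cast at h1
  have hr0 : (0 : ℤ) < (r : ℤ) := by exact_mod_cast hr
  have hrc : (r : ℤ) = (r' : ℤ) + (c : ℤ) := by exact_mod_cast hrank
  -- `deg G · r ≤ deg E · s`
  have h2 : Curv2.deg k X G s * (r : ℤ) ≤ Curv2.deg k X E r * (s : ℤ) := by linarith
  have hc0 : (0 : ℤ) ≤ (c : ℤ) := Int.natCast_nonneg c
  have h3 : (Curv2.deg k X G s * (c : ℤ)) * (r : ℤ) ≤
      (Curv2.deg k X (cokernel i) c * (s : ℤ)) * (r : ℤ) := by
    have e1 : (Curv2.deg k X (cokernel i) c * (s : ℤ)) * (r : ℤ) =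
        Curv2.deg k X E r * (s : ℤ) * (c : ℤ) := by
      have : Curv2.deg k X (cokernel i) c = Curv2.deg k X E r - Curv2.deg k X F r' := by linarith
      rw [this]
      have hF' : Curv2.deg k X F r' * (r : ℤ) = Curv2.deg k X E r * (r' : ℤ) := hslope
      calc (Curv2.deg k X E r - Curv2.deg k X F r') * (s : ℤ) * (r : ℤ)
          = Curv2.deg k X E r * (s : ℤ) * (r : ℤ) - (Curv2.deg k X F r' * (r : ℤ)) * (s : ℤ) := by
            ring
        _ = Curv2.deg k X E r * (s : ℤ) * (r : ℤ) - (Curv2.deg k X E r * (r' : ℤ)) * (s : ℤ) := by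
            rw [hF']
        _ = Curv2.deg k X E r * (s : ℤ) * ((r : ℤ) - (r' : ℤ)) := by ring
        _ = _ := by rw [hrc]; ring
    rw [e1]
    calc (Curv2.deg k X G s * (c : ℤ)) * (r : ℤ) = (Curv2.deg k X G s * (r : ℤ)) * (c : ℤ) := by ring
      _ ≤ (Curv2.deg k X E r * (s : ℤ)) * (c : ℤ) := mul_le_mul_of_nonneg_right h2 hc0
  exact le_of_mul_le_mul_right h3 hr0

end Quot

end Higgs
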