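import Mathlib
import Groth.Prelude
import Groth.Agent.Lib.Higgs3_helper9
import Groth.Agent.Lib.VBCurve6_helper9

/-!
# Twisted pairs with a commuting endomorphism (helper9)

* `Higgs.exists_max_destab_of`: maximal destabilising submodule among submodules satisfying a
  predicate.
* `Higgs.exists_invariant_larger`: a non-saturated invariant submodule is contained in an
  invariant submodule of the same rank and larger degree.
* `Higgs.commuting_ss_iff`: `(E, φ, ψ)` is semistable iff `(E, φ)` is (statement of S16005 over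
  any field).
APPEND-ONLY once landed.
-/

set_option autoImplicit false
universe u
open CategoryTheory CategoryTheory.Limits AlgebraicGeometry Opposite TopologicalSpace

namespace Higgs

open Groth.Agent.TensInv

section MaxDestab

variable (k : Type u) [Field k] (X : Scheme.{u}) [X.Over (Spec (CommRingCat.of k))]
  [IsIntegral X] [IsProper (X ↘ Spec (CommRingCat.of k))]

open Classical in
/-- existence of a submodule satisfying `Inv` of maximal slope and, among those, of maximal rank -/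
theorem exists_max_destab_of (hdim : topologicalKrullDim X ≤ 1) {E : X.Modules} {r : ℕ} (hr : 0 < r)
    (hE : FlatMod.IsFinLocFreeOfRank r E) (Inv : ∀ G : X.Modules, (G ⟶ E) → Prop)
    (hInvE : Inv E (𝟙 E)) :
    ∃ (E₁ : X.Modules) (r₁ : ℕ) (i₁ : E₁ ⟶ E), Mono i₁ ∧ 0 < r₁ ∧
      FlatMod.IsFinLocFreeOfRank r₁ E₁ ∧ Inv E₁ i₁ ∧
      (∀ (G : X.Modules) (r' : ℕ) (j : G ⟶ E), Mono j → 0 < r' →
        FlatMod.IsFinLocFreeOfRank r' G → Inv G j →
        Curv2.deg k X G r' * (r₁ : ℤ) ≤ Curv2.deg k X E₁ r₁ * (r' : ℤ)) ∧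
      (∀ (G : X.Modules) (r' : ℕ) (j : G ⟶ E), Mono j → 0 < r' →
        FlatMod.IsFinLocFreeOfRank r' G → Inv G j →
        Curv2.deg k X G r' * (r₁ : ℤ) = Curv2.deg k X E₁ r₁ * (r' : ℤ) → r' ≤ r₁) := by
  -- weights clearing denominators
  let w : ℕ → ℕ := fun n => r.factorial / n
  have hw : ∀ n : ℕ, 0 < n → n ≤ r → ((w n : ℕ) : ℤ) * (n : ℤ) = (r.factorial : ℤ) := by
    intro n hn hnr
    have h1 : w n * n = r.factorial := Nat.div_mul_cancel (Nat.dvd_factorial hn hnr)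
    exact_mod_cast h1
  have hfac : (0 : ℤ) < (r.factorial : ℤ) := by exact_mod_cast r.factorial_pos
  have hwle : ∀ n : ℕ, ((w n : ℕ) : ℤ) ≤ (r.factorial : ℤ) := by
    intro n
    have : w n ≤ r.factorial := Nat.div_le_self _ _
    exact_mod_cast this
  let P : ℤ → Prop := fun z => ∃ (G : X.Modules) (r' : ℕ) (j : G ⟶ E), Mono j ∧ 0 < r' ∧
    FlatMod.IsFinLocFreeOfRank r' G ∧ Inv G j ∧ Curv2.deg k X G r' * ((w r' : ℕ) : ℤ) = z
  obtain ⟨B, hB⟩ := CurveSub.bddAbove_deg_locFree_sub k X hdim hE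
  have hbdd : ∃ b : ℤ, ∀ z : ℤ, P z → z ≤ b := by
    refine ⟨|B| * (r.factorial : ℤ), ?_⟩
    rintro z ⟨G, r', j, hj, hpos, hG, -, rfl⟩
    have h1 : Curv2.deg k X G r' ≤ |B| := (hB G r' j hj hG).trans (le_abs_self B)
    exact mul_le_mul h1 (hwle r') (by positivity) (abs_nonneg B)
  have hne : ∃ z : ℤ, P z := ⟨_, E, r, 𝟙 E, inferInstance, hr, hE, hInvE, rfl⟩
  obtain ⟨ub, hPub, hmax⟩ := Int.exists_greatest_of_bdd hbdd hne
  let Q : ℕ → Prop := fun n => ∃ (G : X.Modules) (j : G ⟶ E), Mono j ∧ 0 < n ∧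
    FlatMod.IsFinLocFreeOfRank n G ∧ Inv G j ∧ Curv2.deg k X G n * ((w n : ℕ) : ℤ) = ub
  obtain ⟨G₀, r₀, j₀, hj₀, hpos₀, hG₀, hInv₀, hval₀⟩ := hPub
  have hr₀ : r₀ ≤ r := by
    haveI := hj₀
    exact CurveSub.rank_le_of_mono j₀ hG₀ hE
  have hQ₀ : Q r₀ := ⟨G₀, j₀, hj₀, hpos₀, hG₀, hInv₀, hval₀⟩
  obtain ⟨E₁, i₁, hi₁, hpos₁, hE₁, hInv₁, hval₁⟩ := Nat.findGreatest_spec hr₀ hQ₀
  have hr₁ : Nat.findGreatest Q r ≤ r := Nat.findGreatest_le r
  refine ⟨E₁, Nat.findGreatest Q r, i₁, hi₁, hpos₁, hE₁, hInv₁, ?_, ?_⟩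
  · intro G r' j hj hpos hG hInv
    have hr' : r' ≤ r := by
      haveI := hj
      exact CurveSub.rank_le_of_mono j hG hE
    have h1 : Curv2.deg k X G r' * ((w r' : ℕ) : ℤ) ≤ ub := hmax _ ⟨G, r', j, hj, hpos, hG, hInv, rfl⟩
    rw [← hval₁] at h1
    have hw1 := hw r' hpos hr'
    have hw2 := hw _ hpos₁ hr₁
    have hr'Z : (0 : ℤ) < (r' : ℤ) := by exact_mod_cast hpos
    have hr₁Z : (0 : ℤ) < ((Nat.findGreatest Q r : ℕ) : ℤ) := by exact_mod_cast hpos₁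
    have h2 : Curv2.deg k X G r' * ((Nat.findGreatest Q r : ℕ) : ℤ) * (r.factorial : ℤ) ≤
        Curv2.deg k X E₁ (Nat.findGreatest Q r) * (r' : ℤ) * (r.factorial : ℤ) := by
      have h3 := mul_le_mul_of_nonneg_right h1 (mul_pos hr'Z hr₁Z).le
      calc Curv2.deg k X G r' * ((Nat.findGreatest Q r : ℕ) : ℤ) * (r.factorial : ℤ)
          = Curv2.deg k X G r' * ((w r' : ℕ) : ℤ) *
              ((r' : ℤ) * ((Nat.findGreatest Q r : ℕ) : ℤ)) := by rw [← hw1]; ring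
        _ ≤ Curv2.deg k X E₁ (Nat.findGreatest Q r) * ((w (Nat.findGreatest Q r) : ℕ) : ℤ) *
              ((r' : ℤ) * ((Nat.findGreatest Q r : ℕ) : ℤ)) := h3
        _ = Curv2.deg k X E₁ (Nat.findGreatest Q r) * (r' : ℤ) * (r.factorial : ℤ) := by
              rw [← hw2]; ring
    exact le_of_mul_le_mul_right h2 hfac
  · intro G r' j hj hpos hG hInv heq
    have hr' : r' ≤ r := by
      haveI := hj
      exact CurveSub.rank_le_of_mono j hG hE
    have hw1 := hw r' hpos hr'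
    have hw2 := hw _ hpos₁ hr₁
    have hr'Z : (0 : ℤ) < (r' : ℤ) := by exact_mod_cast hpos
    have hr₁Z : (0 : ℤ) < ((Nat.findGreatest Q r : ℕ) : ℤ) := by exact_mod_cast hpos₁
    have h2 : Curv2.deg k X G r' * ((w r' : ℕ) : ℤ) *
        ((r' : ℤ) * ((Nat.findGreatest Q r : ℕ) : ℤ)) =
        Curv2.deg k X E₁ (Nat.findGreatest Q r) * ((w (Nat.findGreatest Q r) : ℕ) : ℤ) *
        ((r' : ℤ) * ((Nat.findGreatest Q r : ℕ) : ℤ)) := by
      calc Curv2.deg k X G r' * ((w r' : ℕ) : ℤ) * ((r' : ℤ) * ((Nat.findGreatest Q r : ℕ) : ℤ))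
          = Curv2.deg k X G r' * ((Nat.findGreatest Q r : ℕ) : ℤ) *
              (((w r' : ℕ) : ℤ) * (r' : ℤ)) := by ring
        _ = Curv2.deg k X E₁ (Nat.findGreatest Q r) * (r' : ℤ) *
              (((w (Nat.findGreatest Q r) : ℕ) : ℤ) * ((Nat.findGreatest Q r : ℕ) : ℤ)) := by
              rw [hw1, hw2, heq]
        _ = _ := by ring
    have h3 := mul_right_cancel₀ (mul_pos hr'Z hr₁Z).ne' h2
    rw [hval₁] at h3
    exact Nat.le_findGreatest hr' ⟨G, j, hj, hpos, hG, hInv, h3⟩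


end MaxDestab

section Sat

variable (k : Type u) [Field k] (X : Scheme.{u}) [X.Over (Spec (CommRingCat.of k))]
  [IsIntegral X] [IsProper (X ↘ Spec (CommRingCat.of k))]

/-- a non-saturated invariant submodule lies in an invariant submodule of the same rank and
larger degree -/
theorem exists_invariant_larger (hreg : ∀ x : X, IsRegularLocalRing (X.presheaf.stalk x))
    (hdim : topologicalKrullDim X = 1) {L : X.Modules} (hL : PicF.IsInvertible L)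
    {r : ℕ} {E : X.Modules} (hE : FlatMod.IsFinLocFreeOfRank r E)
    (φ : E ⟶ CohB1.tensorMod E L)
    {F : X.Modules} {r' : ℕ} (hF : FlatMod.IsFinLocFreeOfRank r' F)
    (i : F ⟶ E) [Mono i] (ψF : F ⟶ CohB1.tensorMod F L) (hψF : ψF ≫ (tR L).map i = i ≫ φ)
    (hnot : ¬ FlatMod.IsFinLocFree (cokernel i)) :
    ∃ (P : X.Modules) (p : P ⟶ E) (χ : P ⟶ CohB1.tensorMod P L), Mono p ∧
      FlatMod.IsFinLocFreeOfRank r' P ∧ χ ≫ (tR L).map p = p ≫ φ ∧
      Curv2.deg k X F r' < Curv2.deg k X P r' := by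
  classical
  haveI : IsLocallyNoetherian X :=
    LocallyOfFiniteType.isLocallyNoetherian (X ↘ Spec (CommRingCat.of k))
  haveI : Nonempty X := inferInstance
  obtain ⟨P₀, p₀, j₀, hp₀, hj₀, hP₀, hlt₀⟩ := VBSat.exists_larger_sub k X hreg hdim i hF hE hnot
  obtain ⟨B, hB⟩ := CurveSub.bddAbove_deg_locFree_sub k X hdim.le hE
  obtain ⟨z, ⟨P, p, jP, hp, hjP, hP, hPz⟩, hmax⟩ := Int.exists_greatest_of_bdd
    (P := fun z => ∃ (P : X.Modules) (p : P ⟶ E) (jP : F ⟶ P), Mono p ∧ jP ≫ p = i ∧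
      FlatMod.IsFinLocFreeOfRank r' P ∧ Curv2.deg k X P r' = z)
    ⟨B, fun z ⟨P, p, jP, hp, _, hP, hz⟩ => hz ▸ hB P r' p hp hP⟩
    ⟨_, P₀, p₀, j₀, hp₀, hj₀, hP₀, rfl⟩
  haveI := hp
  have hsat : FlatMod.IsFinLocFree (cokernel p) := by
    by_contra hnot'
    obtain ⟨P', p', j', hp', hj', hP', hlt'⟩ :=
      VBSat.exists_larger_sub k X hreg hdim p hP hE hnot'
    have := hmax _ ⟨P', p', jP ≫ j', hp', by rw [Category.assoc, hj', hjP], hP', rfl⟩
    linarith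
  obtain ⟨c, hC⟩ := VBCurve.exists_rank hsat
  have hW : FlatMod.IsFinLocFreeOfRank c (CohB1.tensorMod (cokernel p) L) :=
    TensBasis.isFinLocFreeOfRank_tensorMod_of_isInvertible hC hL
  let φ₁ : E ⟶ (tR L).obj E := φ
  let ψ₁ : F ⟶ (tR L).obj F := ψF
  have hψ₁ : ψ₁ ≫ (tR L).map i = i ≫ φ₁ := hψF
  have hg0 : p ≫ φ₁ ≫ (tR L).map (cokernel.π p) = 0 := by
    by_contra hg
    obtain ⟨rK, rI, hK, hI, hrr, hrI, -, -⟩ := VBCurve.exists_kerIm_data k X hreg hdim.le _ hg hP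
      (FLFH8.IsFinLocFreeOfRank.isFinLocFree _ hW)
    have hjg : jP ≫ (p ≫ φ₁ ≫ (tR L).map (cokernel.π p)) = 0 := by
      have h1 : i ≫ cokernel.π p = 0 := by
        rw [← hjP, Category.assoc, cokernel.condition, comp_zero]
      rw [← Category.assoc, hjP, ← Category.assoc, ← hψ₁, Category.assoc, ← Functor.map_comp, h1,
        Functor.map_zero, comp_zero]
    have hjg' : jP ≫ Abelian.factorThruImage (p ≫ φ₁ ≫ (tR L).map (cokernel.π p)) = 0 := by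
      rw [← cancel_mono (Abelian.image.ι _), Category.assoc, Abelian.image.fac, hjg, zero_comp]
    haveI : Mono jP := mono_of_mono_fac hjP
    haveI : Mono (kernel.lift _ jP hjg') := mono_of_mono_fac (kernel.lift_ι _ _ hjg')
    have hle := CurveSub.rank_le_of_mono (kernel.lift _ jP hjg') hF hK
    omega
  obtain ⟨χ, hχ⟩ := exists_restriction hL p φ hg0
  have h2 := hmax _ ⟨P₀, p₀, j₀, hp₀, hj₀, hP₀, rfl⟩
  exact ⟨P, p, χ, hp, hP, hχ, by linarith⟩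

/-- **statement of S16005** over any field -/
theorem commuting_ss_iff (hreg : ∀ x : X, IsRegularLocalRing (X.presheaf.stalk x))
    (hdim : topologicalKrullDim X = 1) {L : X.Modules} (hL : PicF.IsInvertible L)
    {r : ℕ} (hr : 0 < r) {E : X.Modules} (hE : FlatMod.IsFinLocFreeOfRank r E)
    (φ : E ⟶ CohB1.tensorMod E L) (ψ : E ⟶ E) (hcomm : ψ ≫ φ = φ ≫ (tR L).map ψ) :
    (∀ (G : X.Modules) (n : ℕ) (j : G ⟶ E) (χ : G ⟶ CohB1.tensorMod G L) (ψ' : G ⟶ G), Mono j →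
      0 < n → FlatMod.IsFinLocFreeOfRank n G → χ ≫ (tR L).map j = j ≫ φ → ψ' ≫ j = j ≫ ψ →
      Curv2.deg k X G n * (r : ℤ) ≤ Curv2.deg k X E r * (n : ℤ)) ↔
    (∀ (G : X.Modules) (n : ℕ) (j : G ⟶ E) (χ : G ⟶ CohB1.tensorMod G L), Mono j → 0 < n →
      FlatMod.IsFinLocFreeOfRank n G → χ ≫ (tR L).map j = j ≫ φ →
      Curv2.deg k X G n * (r : ℤ) ≤ Curv2.deg k X E r * (n : ℤ)) := by
  haveI : IsLocallyNoetherian X :=
    LocallyOfFiniteType.isLocallyNoetherian (X ↘ Spec (CommRingCat.of k))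
  haveI : Nonempty X := inferInstance
  refine ⟨fun h => ?_, fun h G n j χ ψ' hj hn hG hχ _ => h G n j χ hj hn hG hχ⟩
  let φ₀ : E ⟶ (tR L).obj E := φ
  have hcomm₀ : ψ ≫ φ₀ = φ₀ ≫ (tR L).map ψ := hcomm
  obtain ⟨E₁, r₁, i₁, hi₁, hr₁, hE₁, ⟨χ₁, hχ₁⟩, ha, hb⟩ :=
    exists_max_destab_of k X hdim.le hr hE
      (fun G j => ∃ χ : G ⟶ (tR L).obj G, χ ≫ (tR L).map j = j ≫ φ₀)
      ⟨φ₀, by rw [CategoryTheory.Functor.map_id, Category.comp_id, Category.id_comp]⟩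
  haveI := hi₁
  -- `E₁` is saturated
  have hCf : FlatMod.IsFinLocFree (cokernel i₁) := by
    by_contra hnot
    obtain ⟨P, p, χ, hp, hP, hχ, hlt⟩ :=
      exists_invariant_larger k X hreg hdim hL hE φ hE₁ i₁ χ₁ hχ₁ hnot
    have h1 := ha P r₁ p hp hr₁ hP ⟨χ, hχ⟩
    have hr₁' : (0 : ℤ) < (r₁ : ℤ) := by exact_mod_cast hr₁
    have := le_of_mul_le_mul_right h1 hr₁'
    linarith
  obtain ⟨c, hC⟩ := VBCurve.exists_rank hCf
  -- the induced twisted endomorphism of the quotient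
  have hd0 : i₁ ≫ φ₀ ≫ (tR L).map (cokernel.π i₁) = 0 := by
    rw [← Category.assoc, ← hχ₁, Category.assoc, ← Functor.map_comp, cokernel.condition,
      Functor.map_zero, comp_zero]
  let φQ : cokernel i₁ ⟶ (tR L).obj (cokernel i₁) :=
    cokernel.desc i₁ (φ₀ ≫ (tR L).map (cokernel.π i₁)) hd0
  have hφQ : cokernel.π i₁ ≫ φQ = φ₀ ≫ (tR L).map (cokernel.π i₁) := cokernel.π_desc _ _ _
  -- `ψ` preserves `E₁`
  have hg0 : i₁ ≫ ψ ≫ cokernel.π i₁ = 0 := by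
    by_contra hg
    have hcompat : (i₁ ≫ ψ ≫ cokernel.π i₁) ≫ φQ = χ₁ ≫ (tR L).map (i₁ ≫ ψ ≫ cokernel.π i₁) := by
      rw [Category.assoc, Category.assoc, hφQ, ← Category.assoc ψ, hcomm₀, Category.assoc,
        ← Category.assoc i₁, ← hχ₁, Category.assoc, ← Functor.map_comp, ← Functor.map_comp]
    obtain ⟨⟨χK, hχK⟩, ⟨χI, hχI⟩⟩ :=
      ker_im_invariant hL χ₁ φQ (i₁ ≫ ψ ≫ cokernel.π i₁) hcompat
    obtain ⟨rK, rI, hK, hI, hrr, hrI, hdeg, hz⟩ := VBCurve.exists_kerIm_data k X hreg hdim.le _ hg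
      hE₁ hCf
    have hSg := VBCurve.kerImSC_shortExact (i₁ ≫ ψ ≫ cokernel.π i₁)
    -- slope of the image
    have h2 : Curv2.deg k X E₁ r₁ * (rI : ℤ) ≤
        Curv2.deg k X (Abelian.image (i₁ ≫ ψ ≫ cokernel.π i₁)) rI * (r₁ : ℤ) := by
      rcases Nat.eq_zero_or_pos rK with h0 | hpos
      · obtain ⟨hdK, -⟩ := hz h0
        have : r₁ = rI := by omega
        subst this
        rw [hdeg, hdK, zero_add]
      · let κ : kernel (Abelian.factorThruImage (i₁ ≫ ψ ≫ cokernel.π i₁)) ⟶ E₁ := kernel.ι _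
        let χK' : kernel (Abelian.factorThruImage (i₁ ≫ ψ ≫ cokernel.π i₁)) ⟶
            (tR L).obj (kernel (Abelian.factorThruImage (i₁ ≫ ψ ≫ cokernel.π i₁))) := χK
        have hχK' : χK' ≫ (tR L).map κ = κ ≫ χ₁ := hχK
        have hinvK : χK' ≫ (tR L).map (κ ≫ i₁) = (κ ≫ i₁) ≫ φ₀ := by
          calc χK' ≫ (tR L).map (κ ≫ i₁) = χK' ≫ ((tR L).map κ ≫ (tR L).map i₁) := by
                rw [CategoryTheory.Functor.map_comp]
            _ = (χK' ≫ (tR L).map κ) ≫ (tR L).map i₁ := (Category.assoc _ _ _).symm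
            _ = (κ ≫ χ₁) ≫ (tR L).map i₁ := by rw [hχK']
            _ = κ ≫ (χ₁ ≫ (tR L).map i₁) := Category.assoc _ _ _
            _ = κ ≫ (i₁ ≫ φ₀) := by rw [hχ₁]
            _ = (κ ≫ i₁) ≫ φ₀ := (Category.assoc _ _ _).symm
        haveI : Mono κ := inferInstanceAs (Mono (kernel.ι _))
        have h3 : Curv2.deg k X (VBCurve.kerImSC (i₁ ≫ ψ ≫ cokernel.π i₁)).X₁ rK * (r₁ : ℤ) ≤
            Curv2.deg k X E₁ r₁ * (rK : ℤ) :=
          ha _ rK (κ ≫ i₁) (mono_comp κ i₁) hpos hK ⟨χK', hinvK⟩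
        have h4 : (r₁ : ℤ) = (rK : ℤ) + (rI : ℤ) := by exact_mod_cast hrr
        rw [hdeg] at h3 ⊢
        rw [h4] at h3 ⊢
        nlinarith [h3]
    -- the preimage of the image
    have hS := VBCurve.cokernel_shortExact X i₁
    have c₂ := KerFreeH8.isCoh_of_finLocFree (FLFH8.IsFinLocFreeOfRank.isFinLocFree _ hE)
    have c₃ := KerFreeH8.isCoh_of_finLocFree (FLFH8.IsFinLocFreeOfRank.isFinLocFree _ hC)
    have cG := KerFreeH8.isCoh_of_finLocFree (FLFH8.IsFinLocFreeOfRank.isFinLocFree _ hI)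
    have hPf : FlatMod.IsFinLocFree (pullback (cokernel.π i₁)
        (Abelian.image.ι (i₁ ≫ ψ ≫ cokernel.π i₁))) :=
      VBCurve.isFinLocFree_of_mono hreg hdim.le (pullback.fst (cokernel.π i₁) _)
        (VBCurve.isCoh_pullback (cokernel.π i₁) _ c₂ cG c₃)
        (FLFH8.IsFinLocFreeOfRank.isFinLocFree _ hE)
    obtain ⟨rP, hrP⟩ := VBCurve.exists_rank hPf
    have hS' := VBCurve.pullSC_shortExact _ hS (Abelian.image.ι (i₁ ≫ ψ ≫ cokernel.π i₁))
    have hadd : rP = r₁ + rI := CurveDegAdd.rank_add _ hS' hE₁ hrP hI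
    subst hadd
    have hdegP : Curv2.deg k X (pullback (cokernel.π i₁)
        (Abelian.image.ι (i₁ ≫ ψ ≫ cokernel.π i₁))) (r₁ + rI) =
        Curv2.deg k X E₁ r₁ + Curv2.deg k X (Abelian.image (i₁ ≫ ψ ≫ cokernel.π i₁)) rI :=
      CurveDegAdd.deg_additive k X _ hS' r₁ (r₁ + rI) rI hE₁ hrP hI
    obtain ⟨χP, hχP⟩ := exists_restriction_pullback hL (cokernel.π i₁)
      (Abelian.image.ι (i₁ ≫ ψ ≫ cokernel.π i₁)) φ φQ hφQ χI hχI
    have h5 := ha _ (r₁ + rI) (pullback.fst (cokernel.π i₁) _) inferInstance (by omega) hrP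
      ⟨χP, hχP⟩
    rw [hdegP] at h5
    push_cast at h5
    have h6 : Curv2.deg k X (pullback (cokernel.π i₁)
        (Abelian.image.ι (i₁ ≫ ψ ≫ cokernel.π i₁))) (r₁ + rI) * (r₁ : ℤ) =
        Curv2.deg k X E₁ r₁ * ((r₁ + rI : ℕ) : ℤ) := by
      rw [hdegP]
      push_cast
      linarith
    have h7 := hb _ (r₁ + rI) (pullback.fst (cokernel.π i₁) _) inferInstance (by omega) hrP
      ⟨χP, hχP⟩ h6
    omega
  have hg0' : (i₁ ≫ ψ) ≫ cokernel.π i₁ = 0 := by rw [Category.assoc]; exact hg0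
  have h1 := h E₁ r₁ i₁ χ₁ (Abelian.monoLift i₁ (i₁ ≫ ψ) hg0') hi₁ hr₁ hE₁ hχ₁
    (Abelian.monoLift_comp i₁ (i₁ ≫ ψ) hg0')
  intro G n j χ hj hn hG hχ
  have h2 := ha G n j hj hn hG ⟨χ, hχ⟩
  have hr₁' : (0 : ℤ) < (r₁ : ℤ) := by exact_mod_cast hr₁
  have hn' : (0 : ℤ) < (n : ℤ) := by exact_mod_cast hn
  have hr' : (0 : ℤ) < (r : ℤ) := by exact_mod_cast hr
  have h3 : (Curv2.deg k X G n * (r : ℤ)) * (r₁ : ℤ) ≤ (Curv2.deg k X E r * (n : ℤ)) * (r₁ : ℤ) := by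
    calc (Curv2.deg k X G n * (r : ℤ)) * (r₁ : ℤ)
        = (Curv2.deg k X G n * (r₁ : ℤ)) * (r : ℤ) := by ring
      _ ≤ (Curv2.deg k X E₁ r₁ * (n : ℤ)) * (r : ℤ) := mul_le_mul_of_nonneg_right h2 hr'.le
      _ = (Curv2.deg k X E₁ r₁ * (r : ℤ)) * (n : ℤ) := by ring
      _ ≤ (Curv2.deg k X E r * (r₁ : ℤ)) * (n : ℤ) := mul_le_mul_of_nonneg_right h1 hn'.le
      _ = _ := by ring
  exact le_of_mul_le_mul_right h3 hr₁'

end Sat

end Higgs
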