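import Mathlib
import Groth.Prelude
import Groth.Agent.Lib.Higgs3_helper9
import Groth.Agent.Lib.DegPull1_helper9
import Groth.Agent.Lib.CohKer_helper8
import Groth.Agent.Lib.VBCurve5_helper9

/-!
# Twisted (Higgs) pairs on a curve: opposite invariant filtrations (helper9)

`Higgs.opposite_filtrations`: statement of S15330 over any field.
APPEND-ONLY once landed.
-/

set_option autoImplicit false
universe u
open CategoryTheory CategoryTheory.Limits AlgebraicGeometry Opposite TopologicalSpace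

namespace Higgs

open Groth.Agent.TensInv

section Opp

variable (k : Type u) [Field k] (X : Scheme.{u}) [X.Over (Spec (CommRingCat.of k))]
  [IsIntegral X] [IsProper (X ↘ Spec (CommRingCat.of k))]

/-- semistability of a twisted pair, in the form used by the statements -/
def PairSS (L : X.Modules) (r : ℕ) (E : X.Modules) (φ : E ⟶ CohB1.tensorMod E L) : Prop :=
  ∀ (G : X.Modules) (s : ℕ) (j : G ⟶ E) (χ : G ⟶ CohB1.tensorMod G L), Mono j → 0 < s →
    FlatMod.IsFinLocFreeOfRank s G → χ ≫ (tR L).map j = j ≫ φ →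
    Curv2.deg k X G s * (r : ℤ) ≤ Curv2.deg k X E r * (s : ℤ)

/-- an invariant submodule of the same slope of a semistable pair is semistable -/
theorem pairSS_sub {L : X.Modules} {r : ℕ} (hr : 0 < r) {E : X.Modules}
    (φ : E ⟶ CohB1.tensorMod E L) (hss : PairSS k X L r E φ)
    {F : X.Modules} {r' : ℕ} (i : F ⟶ E) [Mono i] (ψF : F ⟶ CohB1.tensorMod F L)
    (hψF : ψF ≫ (tR L).map i = i ≫ φ)
    (hslope : Curv2.deg k X F r' * (r : ℤ) = Curv2.deg k X E r * (r' : ℤ)) :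
    PairSS k X L r' F ψF := by
  intro G s j χ hj hs hG hχ
  haveI := hj
  let φ₁ : E ⟶ (tR L).obj E := φ
  let ψ₁ : F ⟶ (tR L).obj F := ψF
  let χ₁ : G ⟶ (tR L).obj G := χ
  have h1 : ψ₁ ≫ (tR L).map i = i ≫ φ₁ := hψF
  have h2 : χ₁ ≫ (tR L).map j = j ≫ ψ₁ := hχ
  have h3 : χ₁ ≫ (tR L).map (j ≫ i) = (j ≫ i) ≫ φ₁ := by
    rw [Functor.map_comp, ← Category.assoc, h2, Category.assoc, h1, Category.assoc]
  have h4 := hss G s (j ≫ i) χ (mono_comp j i) hs hG h3
  have hr0 : (0 : ℤ) < (r : ℤ) := by exact_mod_cast hr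
  have h5 : (Curv2.deg k X G s * (r' : ℤ)) * (r : ℤ) ≤ (Curv2.deg k X F r' * (s : ℤ)) * (r : ℤ) := by
    have e1 : (Curv2.deg k X F r' * (s : ℤ)) * (r : ℤ) =
        (Curv2.deg k X E r * (s : ℤ)) * (r' : ℤ) := by
      calc (Curv2.deg k X F r' * (s : ℤ)) * (r : ℤ)
          = (Curv2.deg k X F r' * (r : ℤ)) * (s : ℤ) := by ring
        _ = (Curv2.deg k X E r * (r' : ℤ)) * (s : ℤ) := by rw [hslope]
        _ = _ := by ring
    rw [e1]
    calc (Curv2.deg k X G s * (r' : ℤ)) * (r : ℤ)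
        = (Curv2.deg k X G s * (r : ℤ)) * (r' : ℤ) := by ring
      _ ≤ (Curv2.deg k X E r * (s : ℤ)) * (r' : ℤ) :=
          mul_le_mul_of_nonneg_right h4 (Int.natCast_nonneg r')
  exact le_of_mul_le_mul_right h5 hr0

/-- a pair isomorphic (compatibly) to a semistable pair is semistable -/
theorem pairSS_of_iso {L : X.Modules} {r : ℕ} {E E' : X.Modules}
    (φ : E ⟶ CohB1.tensorMod E L) (hss : PairSS k X L r E φ)
    (e : E ≅ E') (φ' : E' ⟶ CohB1.tensorMod E' L) (hφ' : e.hom ≫ φ' = φ ≫ (tR L).map e.hom) :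
    PairSS k X L r E' φ' := by
  intro G s j χ hj hs hG hχ
  haveI := hj
  let φ₁ : E ⟶ (tR L).obj E := φ
  let φ₂ : E' ⟶ (tR L).obj E' := φ'
  let χ₁ : G ⟶ (tR L).obj G := χ
  have h1 : e.hom ≫ φ₂ = φ₁ ≫ (tR L).map e.hom := hφ'
  have h2 : χ₁ ≫ (tR L).map j = j ≫ φ₂ := hχ
  have h1' : φ₂ ≫ (tR L).map e.inv = e.inv ≫ φ₁ := by
    rw [← cancel_epi e.hom, ← Category.assoc, h1, Category.assoc, ← Functor.map_comp,
      e.hom_inv_id, CategoryTheory.Functor.map_id, Category.comp_id, e.hom_inv_id_assoc]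
  have h3 : χ₁ ≫ (tR L).map (j ≫ e.inv) = (j ≫ e.inv) ≫ φ₁ := by
    rw [Functor.map_comp, ← Category.assoc, h2, Category.assoc, h1', Category.assoc]
  have h4 := hss G s (j ≫ e.inv) χ (mono_comp j e.inv) hs hG h3
  rw [← CurveTens.deg_of_iso k X e r]
  exact h4

/-- **statement of S15330** over any field -/
theorem opposite_filtrations (hreg : ∀ x : X, IsRegularLocalRing (X.presheaf.stalk x))
    (hdim : topologicalKrullDim X = 1)
    {L : X.Modules} (hL : PicF.IsInvertible L) {r : ℕ} (hr : 0 < r) (d : ℤ)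
    {E : X.Modules} (hE : FlatMod.IsFinLocFreeOfRank r E) (φE : E ⟶ CohB1.tensorMod E L)
    (hEd : Curv2.deg k X E r = d) (hEss : PairSS k X L r E φE)
    {F : X.Modules} (hF : FlatMod.IsFinLocFreeOfRank r F) (φF : F ⟶ CohB1.tensorMod F L)
    (hFd : Curv2.deg k X F r = d) (hFss : PairSS k X L r F φF)
    (n : ℕ)
    (Es : ℕ → X.Modules) (rE : ℕ → ℕ) (hEs : ∀ i, FlatMod.IsFinLocFreeOfRank (rE i) (Es i))
    (ιE : ∀ i, Es i ⟶ E) (hιE : ∀ i, Mono (ιE i))
    (ψE : ∀ i, Es i ⟶ CohB1.tensorMod (Es i) L)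
    (hψE : ∀ i, ψE i ≫ (tR L).map (ιE i) = ιE i ≫ φE)
    (a : ∀ i, Es i ⟶ Es (i + 1)) (ha : ∀ i, a i ≫ ιE (i + 1) = ιE i)
    (hE0 : IsZero (Es 0))
    (Fs : ℕ → X.Modules) (rF : ℕ → ℕ) (hFs : ∀ i, FlatMod.IsFinLocFreeOfRank (rF i) (Fs i))
    (ιF : ∀ i, Fs i ⟶ F) (hιF : ∀ i, Mono (ιF i))
    (ψF : ∀ i, Fs i ⟶ CohB1.tensorMod (Fs i) L)
    (hψF : ∀ i, ψF i ≫ (tR L).map (ιF i) = ιF i ≫ φF)
    (b : ∀ i, Fs (i + 1) ⟶ Fs i) (hb : ∀ i, b i ≫ ιF i = ιF (i + 1))
    (hF0 : IsIso (ιF 0))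
    (hrk : ∀ i, i ≤ n → rE i + rF i = r)
    (hopp : ∀ i, i < n → Nonempty (cokernel (a i) ≅ cokernel (b i))) :
    (∀ i, i ≤ n → 0 < rE i →
      Curv2.deg k X (Es i) (rE i) * (r : ℤ) = d * (rE i : ℤ) ∧
        PairSS k X L (rE i) (Es i) (ψE i)) ∧
    (∀ i, i ≤ n → 0 < rF i →
      Curv2.deg k X (Fs i) (rF i) * (r : ℤ) = d * (rF i : ℤ) ∧
        PairSS k X L (rF i) (Fs i) (ψF i)) ∧
    (∀ i, i < n → rE i < rE (i + 1) →
      FlatMod.IsFinLocFreeOfRank (rE (i + 1) - rE i) (cokernel (a i)) ∧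
      Curv2.deg k X (cokernel (a i)) (rE (i + 1) - rE i) * (r : ℤ) =
        d * ((rE (i + 1) - rE i : ℕ) : ℤ) ∧
      ∀ (φ' : cokernel (a i) ⟶ CohB1.tensorMod (cokernel (a i)) L),
        cokernel.π (a i) ≫ φ' = ψE (i + 1) ≫ (tR L).map (cokernel.π (a i)) →
        PairSS k X L (rE (i + 1) - rE i) (cokernel (a i)) φ') := by
  classical
  haveI : IsLocallyNoetherian X :=
    LocallyOfFiniteType.isLocallyNoetherian (X ↘ Spec (CommRingCat.of k))
  haveI : Nonempty X := inferInstance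
  have hr0 : (0 : ℤ) < (r : ℤ) := by exact_mod_cast hr
  have hamono : ∀ i, Mono (a i) := fun i => by
    haveI := hιE i
    exact mono_of_mono_fac (ha i)
  have hbmono : ∀ i, Mono (b i) := fun i => by
    haveI := hιF (i + 1)
    exact mono_of_mono_fac (hb i)
  have cE : ∀ i, Coh.IsCoh (Es i) := fun i =>
    KerFreeH8.isCoh_of_finLocFree (FLFH8.IsFinLocFreeOfRank.isFinLocFree _ (hEs i))
  have cF : ∀ i, Coh.IsCoh (Fs i) := fun i =>
    KerFreeH8.isCoh_of_finLocFree (FLFH8.IsFinLocFreeOfRank.isFinLocFree _ (hFs i))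
  have hχE : ∀ i, Curv2.euler k X (Es (i + 1)) =
      Curv2.euler k X (Es i) + Curv2.euler k X (cokernel (a i)) := fun i => by
    haveI := hamono i
    have hS := VBCurve.cokernel_shortExact X (a i)
    have hc := CohKerH8.isCoh_cokernel (cE i) (cE (i + 1)) (a i)
    have h := EulerField.euler_additive k X _ hS (cE i) (cE (i + 1)) hc
    exact h
  have hχF : ∀ i, Curv2.euler k X (Fs i) =
      Curv2.euler k X (Fs (i + 1)) + Curv2.euler k X (cokernel (b i)) := fun i => by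
    haveI := hbmono i
    have hS := VBCurve.cokernel_shortExact X (b i)
    have hc := CohKerH8.isCoh_cokernel (cF (i + 1)) (cF i) (b i)
    have h := EulerField.euler_additive k X _ hS (cF (i + 1)) (cF i) hc
    exact h
  have hsum : ∀ i, i ≤ n →
      Curv2.euler k X (Es i) + Curv2.euler k X (Fs i) = Curv2.euler k X F := by
    intro i
    induction i with
    | zero =>
      intro _
      rw [DegPull.euler_eq_zero_of_isZero k X hE0, zero_add]
      haveI := hF0
      exact CurveTens.euler_of_iso k X (asIso (ιF 0))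
    | succ i ih =>
      intro hi
      obtain ⟨e⟩ := hopp i (by omega)
      have h1 := ih (by omega)
      have h2 := hχE i
      have h3 := hχF i
      have h4 := CurveTens.euler_of_iso k X e
      linarith
  have hdsum : ∀ i, i ≤ n →
      Curv2.deg k X (Es i) (rE i) + Curv2.deg k X (Fs i) (rF i) = d := by
    intro i hi
    have h1 := hsum i hi
    have h2 : ((rE i : ℤ) + (rF i : ℤ)) = (r : ℤ) := by exact_mod_cast hrk i hi
    have h3 : Curv2.euler k X F - (r : ℤ) * Curv2.euler k X (Coh.structureModule X) = d := hFd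
    show (Curv2.euler k X (Es i) - (rE i : ℤ) * Curv2.euler k X (Coh.structureModule X)) +
      (Curv2.euler k X (Fs i) - (rF i : ℤ) * Curv2.euler k X (Coh.structureModule X)) = d
    rw [← h3, ← h1, ← h2]
    ring
  have hdeg0 : ∀ (M : X.Modules), FlatMod.IsFinLocFreeOfRank 0 M → Curv2.deg k X M 0 = 0 := by
    intro M hM
    unfold Curv2.deg
    rw [DegPull.euler_eq_zero_of_isZero k X (VBCurve.isZero_of_rank_zero hM)]
    simp
  have hleE : ∀ i, Curv2.deg k X (Es i) (rE i) * (r : ℤ) ≤ d * (rE i : ℤ) := by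
    intro i
    rcases Nat.eq_zero_or_pos (rE i) with h0 | hpos
    · have h1 := hEs i
      rw [h0] at h1 ⊢
      rw [hdeg0 _ h1]
      simp
    · rw [← hEd]
      exact hEss (Es i) (rE i) (ιE i) (ψE i) (hιE i) hpos (hEs i) (hψE i)
  have hleF : ∀ i, Curv2.deg k X (Fs i) (rF i) * (r : ℤ) ≤ d * (rF i : ℤ) := by
    intro i
    rcases Nat.eq_zero_or_pos (rF i) with h0 | hpos
    · have h1 := hFs i
      rw [h0] at h1 ⊢
      rw [hdeg0 _ h1]
      simp
    · rw [← hFd]
      exact hFss (Fs i) (rF i) (ιF i) (ψF i) (hιF i) hpos (hFs i) (hψF i)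
  have hkey : ∀ i, i ≤ n →
      Curv2.deg k X (Es i) (rE i) * (r : ℤ) + Curv2.deg k X (Fs i) (rF i) * (r : ℤ) =
        d * (rE i : ℤ) + d * (rF i : ℤ) := by
    intro i hi
    have h2 : ((rE i : ℤ) + (rF i : ℤ)) = (r : ℤ) := by exact_mod_cast hrk i hi
    rw [← add_mul, ← mul_add, hdsum i hi, h2]
  have heqE : ∀ i, i ≤ n → Curv2.deg k X (Es i) (rE i) * (r : ℤ) = d * (rE i : ℤ) := by
    intro i hi
    have h1 := hkey i hi
    have h2 := hleE i
    have h3 := hleF i
    linarith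
  have heqF : ∀ i, i ≤ n → Curv2.deg k X (Fs i) (rF i) * (r : ℤ) = d * (rF i : ℤ) := by
    intro i hi
    have h1 := hkey i hi
    have h2 := hleE i
    have h3 := hleF i
    linarith
  have part1 : ∀ i, i ≤ n → 0 < rE i →
      Curv2.deg k X (Es i) (rE i) * (r : ℤ) = d * (rE i : ℤ) ∧
        PairSS k X L (rE i) (Es i) (ψE i) := by
    intro i hi _
    haveI := hιE i
    exact ⟨heqE i hi, pairSS_sub k X hr φE hEss (ιE i) (ψE i) (hψE i)
      (by rw [hEd]; exact heqE i hi)⟩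
  refine ⟨part1, ?_, ?_⟩
  · intro i hi _
    haveI := hιF i
    exact ⟨heqF i hi, pairSS_sub k X hr φF hFss (ιF i) (ψF i) (hψF i)
      (by rw [hFd]; exact heqF i hi)⟩
  · intro i hi hlt
    haveI := hamono i
    have hpos1 : 0 < rE (i + 1) := by omega
    obtain ⟨heq1, hss1⟩ := part1 (i + 1) hi hpos1
    have heq0 := heqE i (by omega)
    have hdegc : Curv2.deg k X (cokernel (a i)) (rE (i + 1) - rE i) =
        Curv2.deg k X (Es (i + 1)) (rE (i + 1)) - Curv2.deg k X (Es i) (rE i) := by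
      have h1 := hχE i
      have h2 : ((rE (i + 1) - rE i : ℕ) : ℤ) = (rE (i + 1) : ℤ) - (rE i : ℤ) :=
        Nat.cast_sub hlt.le
      show Curv2.euler k X (cokernel (a i)) -
          ((rE (i + 1) - rE i : ℕ) : ℤ) * Curv2.euler k X (Coh.structureModule X) =
        (Curv2.euler k X (Es (i + 1)) -
          (rE (i + 1) : ℤ) * Curv2.euler k X (Coh.structureModule X)) -
        (Curv2.euler k X (Es i) - (rE i : ℤ) * Curv2.euler k X (Coh.structureModule X))
      rw [h2, h1]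
      ring
    have hdegc' : Curv2.deg k X (cokernel (a i)) (rE (i + 1) - rE i) * (r : ℤ) =
        d * ((rE (i + 1) - rE i : ℕ) : ℤ) := by
      rw [hdegc, Nat.cast_sub hlt.le, sub_mul, mul_sub, heq1, heq0]
    have hcomp : ψE i ≫ (tR L).map (a i) = a i ≫ ψE (i + 1) := by
      haveI := hιE (i + 1)
      haveI : Mono ((tR L).map (ιE (i + 1))) := CurveTens.mono_tR hL _
      let p0 : Es i ⟶ (tR L).obj (Es i) := ψE i
      let p1 : Es (i + 1) ⟶ (tR L).obj (Es (i + 1)) := ψE (i + 1)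
      let φ₁ : E ⟶ (tR L).obj E := φE
      have e0 : p0 ≫ (tR L).map (ιE i) = ιE i ≫ φ₁ := hψE i
      have e1 : p1 ≫ (tR L).map (ιE (i + 1)) = ιE (i + 1) ≫ φ₁ := hψE (i + 1)
      show p0 ≫ (tR L).map (a i) = a i ≫ p1
      rw [← cancel_mono ((tR L).map (ιE (i + 1))), Category.assoc, ← Functor.map_comp, ha i, e0,
        Category.assoc, e1, ← Category.assoc, ha i]
    rcases Nat.eq_zero_or_pos (rE i) with h0 | hpos0
    · have hz : IsZero (Es i) := VBCurve.isZero_of_rank_zero (by rw [← h0]; exact hEs i)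
      have hS := VBCurve.cokernel_shortExact X (a i)
      haveI : IsIso (cokernel.π (a i)) := (hS.isIso_g_iff).mpr hz
      let e : Es (i + 1) ≅ cokernel (a i) := asIso (cokernel.π (a i))
      have hrk' : rE (i + 1) - rE i = rE (i + 1) := by omega
      rw [hrk']
      refine ⟨isFinLocFreeOfRank_of_iso e (hEs (i + 1)), ?_, ?_⟩
      · rw [← CurveTens.deg_of_iso k X e]
        exact heq1
      · intro φ' hφ'
        exact pairSS_of_iso k X (ψE (i + 1)) hss1 e φ' hφ'
    · have hslope : Curv2.deg k X (Es i) (rE i) * (rE (i + 1) : ℤ) =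
          Curv2.deg k X (Es (i + 1)) (rE (i + 1)) * (rE i : ℤ) := by
        apply mul_right_cancel₀ (ne_of_gt hr0)
        calc Curv2.deg k X (Es i) (rE i) * (rE (i + 1) : ℤ) * (r : ℤ)
            = (Curv2.deg k X (Es i) (rE i) * (r : ℤ)) * (rE (i + 1) : ℤ) := by ring
          _ = (d * (rE i : ℤ)) * (rE (i + 1) : ℤ) := by rw [heq0]
          _ = (d * (rE (i + 1) : ℤ)) * (rE i : ℤ) := by ring
          _ = (Curv2.deg k X (Es (i + 1)) (rE (i + 1)) * (r : ℤ)) * (rE i : ℤ) := by rw [heq1]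
          _ = _ := by ring
      obtain ⟨hfl, hq⟩ := quotient_pair_ss k X hreg hdim hL hpos1 (hEs (i + 1)) (ψE (i + 1)) hss1
        hpos0 (hEs i) (a i) (ψE i) hcomp hslope
      exact ⟨hfl, hdegc', hq⟩

end Opp

end Higgs
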