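import Mathlib
import Groth.Agent.Lib.Branches2_helper6

/-!
# Local structure of a finite locally free algebra and of locally free modules over it (helper6)

For `A → B` finite locally free of rank `n` and `m` a prime of `A`, the ring
`B_m = (A ∖ m)⁻¹ B` is free of rank `n` over `A_m` and semilocal; a locally free `B`-module of
constant rank `k` becomes free of rank `k` over `B_m`.
-/

open scoped TensorProduct

universe u

namespace Groth.Agent.Lib.HilbChowH6

open Module

section Rank

variable (R : Type u) [CommRing R] (M : Type u) [AddCommGroup M] [Module R M]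
  [Module.Finite R M] [Module.Flat R M]

attribute [local instance] Ideal.Quotient.field in
theorem finrank_quotient_tensor_eq_rankAtStalk (P : Ideal R) [hP : P.IsMaximal] :
    finrank (R ⧸ P) ((R ⧸ P) ⊗[R] M) = rankAtStalk M ⟨P, hP.isPrime⟩ := by
  rw [rankAtStalk_eq]
  let e : P.ResidueField ⊗[R ⧸ P] ((R ⧸ P) ⊗[R] M) ≃ₗ[P.ResidueField] P.ResidueField ⊗[R] M :=
    TensorProduct.AlgebraTensorModule.cancelBaseChange R (R ⧸ P) P.ResidueField P.ResidueField M
  change _ = finrank P.ResidueField (P.ResidueField ⊗[R] M)
  rw [← e.finrank_eq]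
  exact (Module.finrank_baseChange (R := P.ResidueField) (S := R ⧸ P)
    (M' := (R ⧸ P) ⊗[R] M)).symm

/-- a finite flat module of constant rank `k` over a semilocal ring is free of rank `k` -/
theorem nonempty_basis_of_rankAtStalk [Finite (MaximalSpectrum R)] (k : ℕ)
    (hk : ∀ p : PrimeSpectrum R, rankAtStalk M p = k) : Nonempty (Basis (Fin k) R M) := by
  apply Module.nonempty_basis_of_flat_of_finrank_eq
  intro P
  haveI := P.isMaximal
  rw [finrank_quotient_tensor_eq_rankAtStalk]
  exact hk _

end Rank

section Local

variable {A B : Type u} [CommRing A] [CommRing B] [Algebra A B] (m : Ideal A) [m.IsPrime]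

/-- `B_m`, the localization of `B` at the image of `A ∖ m` -/
abbrev Bm (B : Type u) [CommRing B] [Algebra A B] (m : Ideal A) [m.IsPrime] : Type u :=
  Localization (Algebra.algebraMapSubmonoid B m.primeCompl)

variable [Module.Finite A B] [Module.Projective A B]

theorem free_Bm : Module.Free (Localization.AtPrime m) (Bm B m) :=
  Module.free_of_flat_of_isLocalRing

theorem finrank_Bm :
    finrank (Localization.AtPrime m) (Bm B m) =
      finrank (Localization.AtPrime m) (LocalizedModule m.primeCompl B) := by
  let e : LocalizedModule m.primeCompl B ≃ₗ[A] Bm B m :=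
    IsLocalizedModule.linearEquiv m.primeCompl (LocalizedModule.mkLinearMap m.primeCompl B)
      (IsScalarTower.toAlgHom A B (Bm B m)).toLinearMap
  exact (e.extendScalarsOfIsLocalization m.primeCompl (Localization.AtPrime m)).finrank_eq.symm

theorem nonempty_basis_Bm (n : ℕ)
    (hn : finrank (Localization.AtPrime m) (LocalizedModule m.primeCompl B) = n) :
    Nonempty (Basis (Fin n) (Localization.AtPrime m) (Bm B m)) := by
  haveI := free_Bm (B := B) m
  exact ⟨Module.finBasisOfFinrankEq _ _ ((finrank_Bm m).trans hn)⟩

theorem finite_maximalSpectrum_Bm : Finite (MaximalSpectrum (Bm B m)) :=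
  Groth.Agent.Lib.Branches.finite_maximalSpectrum (A := Localization.AtPrime m)

variable (M : Type u) [AddCommGroup M] [Module B M] [Module.Finite B M] [Module.Projective B M]

/-- coordinates of a locally free module of constant rank on `B_m` -/
theorem exists_coord (k : ℕ) (hk : ∀ q : PrimeSpectrum B, rankAtStalk M q = k) :
    ∃ c : M →ₗ[B] (Fin k → Bm B m),
      IsLocalizedModule (Algebra.algebraMapSubmonoid B m.primeCompl) c := by
  haveI := finite_maximalSpectrum_Bm (B := B) m
  let SB := Algebra.algebraMapSubmonoid B m.primeCompl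
  have hk' : ∀ p : PrimeSpectrum (Bm B m), rankAtStalk (LocalizedModule SB M) p = k := by
    intro p
    rw [rankAtStalk_isBaseChange (LocalizedModule.isBaseChange SB M)]
    exact hk _
  obtain ⟨b⟩ := nonempty_basis_of_rankAtStalk (Bm B m) (LocalizedModule SB M) k hk'
  refine ⟨(b.equivFun.restrictScalars B).toLinearMap ∘ₗ LocalizedModule.mkLinearMap SB M, ?_⟩
  exact IsLocalizedModule.of_linearEquiv SB (LocalizedModule.mkLinearMap SB M)
    (b.equivFun.restrictScalars B)

end Local

end Groth.Agent.Lib.HilbChowH6
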