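import Mathlib
import Groth.Agent.Lib.HilbChow1_helper6
import Groth.Agent.Lib.HilbChow2_helper6
import Groth.Agent.Lib.HilbChow3_helper6

/-!
# `⋀ⁿ_A B ⊗ ⋀ⁿ_A (M₁ ⊗_B M₂) ≅ ⋀ⁿ_A M₁ ⊗ ⋀ⁿ_A M₂` (helper6)
-/

open scoped TensorProduct

universe u

namespace Groth.Agent.Lib.HilbChowH6

open Module

section DetMul

variable {R : Type u} [CommRing R] {T : Type u} [CommRing T] [Algebra R T] {n : ℕ}
  (β : Basis (Fin n) R T)

theorem det_mul_right (w : Fin n → T) (u : T) :
    β.det (fun i => w i * u) = Algebra.norm R u * β.det w := by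
  have h1 : (fun i => w i * u) = (Algebra.lmul R T u) ∘ w := by
    funext i
    simp [mul_comm]
  rw [h1, Basis.det_comp, Algebra.norm_apply]

/-- a family which is a unit multiple of a basis has unit determinant -/
theorem isUnit_det_of_smul (w : Fin n → T) (s : Fin n → R) (hs : ∀ i, IsUnit (s i))
    (hw : ∀ i, w i = s i • β i) : IsUnit (β.det w) := by
  have h1 : w = fun i => s i • β i := funext hw
  rw [h1, (β.det).map_smul_univ, Basis.det_self, smul_eq_mul, mul_one]
  exact IsUnit.prod_univ_iff.mpr (fun i => hs i)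

end DetMul

section LocalData

variable {A B : Type u} [CommRing A] [CommRing B] [Algebra A B] (m : Ideal A) [m.IsPrime]

/-- the localization map `B → B_m` as an `A`-linear map -/
noncomputable abbrev psiB : B →ₗ[A] Bm B m := (IsScalarTower.toAlgHom A B (Bm B m)).toLinearMap

variable {n : ℕ} (β : Basis (Fin n) (Localization.AtPrime m) (Bm B m))

/-- there is a family in `B` whose image in `B_m` has unit determinant -/
theorem exists_isUnit_det :
    ∃ b : Fin n → B, IsUnit (β.det (fun i => algebraMap B (Bm B m) (b i))) := by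
  have h : ∀ i, ∃ (b : B) (s : m.primeCompl),
      algebraMap B (Bm B m) b = (algebraMap A (Localization.AtPrime m) s) • β i := by
    intro i
    obtain ⟨⟨b, t⟩, hbt⟩ := IsLocalization.surj (Algebra.algebraMapSubmonoid B m.primeCompl) (β i)
    obtain ⟨s, hs, hst⟩ := t.2
    refine ⟨b, ⟨s, hs⟩, ?_⟩
    rw [← hbt, mul_comm, ← hst, ← IsScalarTower.algebraMap_apply, Algebra.smul_def,
      ← IsScalarTower.algebraMap_apply]
  choose b s hbs using h
  refine ⟨b, isUnit_det_of_smul β _ (fun i => algebraMap A (Localization.AtPrime m) (s i))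
    (fun i => IsLocalization.map_units _ (s i)) hbs⟩

variable {M : Type u} [AddCommGroup M] [Module B M]
  (c : M →ₗ[B] Bm B m) [IsLocalizedModule (Algebra.algebraMapSubmonoid B m.primeCompl) c]

/-- there is an element whose coordinate is a unit -/
theorem exists_isUnit_coord : ∃ x : M, IsUnit (c x) := by
  obtain ⟨⟨x, t⟩, hxt⟩ := IsLocalizedModule.surj (Algebra.algebraMapSubmonoid B m.primeCompl) c 1
  refine ⟨x, ?_⟩
  rw [← hxt, Submonoid.smul_def, Algebra.smul_def, mul_one]
  exact IsLocalization.map_units _ t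

end LocalData

end Groth.Agent.Lib.HilbChowH6
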