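import Mathlib
import Groth.Agent.Lib.HilbChow4_helper6

/-!
# `⋀ⁿ_A B ⊗ ⋀ⁿ_A (M₁ ⊗_B M₂) ≅ ⋀ⁿ_A M₁ ⊗ ⋀ⁿ_A M₂`: the main theorem (helper6)
-/

open scoped TensorProduct

universe u

namespace Groth.Agent.Lib.HilbChowH6

open Module

variable (A B : Type u) [CommRing A] [CommRing B] [Algebra A B] [Module.Finite A B]
  [Module.Projective A B]
  (n : ℕ) (hn : ∀ q : PrimeSpectrum A, Module.finrank (Localization.AtPrime q.asIdeal)
    (LocalizedModule q.asIdeal.primeCompl B) = n)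
  (M₁ M₂ : Type u) [AddCommGroup M₁] [Module B M₁] [Module A M₁] [IsScalarTower A B M₁]
  [AddCommGroup M₂] [Module B M₂] [Module A M₂] [IsScalarTower A B M₂]
  [Module.Finite B M₁] [Module.Projective B M₁] [Module.Finite B M₂] [Module.Projective B M₂]
  (h₁ : ∀ q : PrimeSpectrum B, Module.finrank (Localization.AtPrime q.asIdeal)
    (LocalizedModule q.asIdeal.primeCompl M₁) = 1)
  (h₂ : ∀ q : PrimeSpectrum B, Module.finrank (Localization.AtPrime q.asIdeal)
    (LocalizedModule q.asIdeal.primeCompl M₂) = 1)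

include hn h₁ h₂ in
theorem main13118 :
    Nonempty ((⋀[A]^n B) ⊗[A] (⋀[A]^n (M₁ ⊗[B] M₂)) ≃ₗ[A] (⋀[A]^n M₁) ⊗[A] (⋀[A]^n M₂)) := by
  classical
  let g : (Fin n → B) × M₁ × M₂ → (⋀[A]^n B) ⊗[A] (⋀[A]^n (M₁ ⊗[B] M₂)) := fun t =>
    exteriorPower.ιMulti A n t.1 ⊗ₜ[A]
      exteriorPower.ιMulti A n (fun i => t.1 i • (t.2.1 ⊗ₜ[B] t.2.2))
  let g' : (Fin n → B) × M₁ × M₂ → (⋀[A]^n M₁) ⊗[A] (⋀[A]^n M₂) := fun t =>
    exteriorPower.ιMulti A n (fun i => t.1 i • t.2.1) ⊗ₜ[A]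
      exteriorPower.ιMulti A n (fun i => t.1 i • t.2.2)
  refine exists_linearEquiv_of_local g g' ?_
  intro m hm
  haveI : m.IsPrime := hm.isPrime
  let S := m.primeCompl
  let SB := Algebra.algebraMapSubmonoid B m.primeCompl
  obtain ⟨β⟩ := nonempty_basis_Bm (B := B) m n (hn ⟨m, inferInstance⟩)
  obtain ⟨c₁', hc₁'⟩ := exists_coord (B := B) m M₁ 1 h₁
  obtain ⟨c₂', hc₂'⟩ := exists_coord (B := B) m M₂ 1 h₂
  let eU : (Fin 1 → Bm B m) ≃ₗ[B] Bm B m := LinearEquiv.funUnique (Fin 1) B (Bm B m)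
  let c₁ : M₁ →ₗ[B] Bm B m := eU.toLinearMap ∘ₗ c₁'
  let c₂ : M₂ →ₗ[B] Bm B m := eU.toLinearMap ∘ₗ c₂'
  haveI hc₁ : IsLocalizedModule SB c₁ := IsLocalizedModule.of_linearEquiv SB c₁' eU
  haveI hc₂ : IsLocalizedModule SB c₂ := IsLocalizedModule.of_linearEquiv SB c₂' eU
  let c₁₂ : M₁ ⊗[B] M₂ →ₗ[B] Bm B m := mulMap (Bm B m) c₁ c₂
  haveI hc₁₂ : IsLocalizedModule SB c₁₂ := isLocalizedModule_mulMap SB (Bm B m) c₁ c₂
  let ψ₁ : M₁ →ₗ[A] Bm B m := c₁.restrictScalars A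
  let ψ₂ : M₂ →ₗ[A] Bm B m := c₂.restrictScalars A
  let ψ₁₂ : M₁ ⊗[B] M₂ →ₗ[A] Bm B m := c₁₂.restrictScalars A
  haveI : IsLocalizedModule S ψ₁ := IsLocalizedModule.restrictScalars S c₁
  haveI : IsLocalizedModule S ψ₂ := IsLocalizedModule.restrictScalars S c₂
  haveI : IsLocalizedModule S ψ₁₂ := IsLocalizedModule.restrictScalars S c₁₂
  let δB := delta (Localization.AtPrime m) (psiB (B := B) m) β
  let δ₁ := delta (Localization.AtPrime m) ψ₁ β
  let δ₂ := delta (Localization.AtPrime m) ψ₂ β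
  let δ₁₂ := delta (Localization.AtPrime m) ψ₁₂ β
  haveI : IsLocalizedModule S δB := isLocalizedModule_delta S _ (psiB (B := B) m) β
  haveI : IsLocalizedModule S δ₁ := isLocalizedModule_delta S _ ψ₁ β
  haveI : IsLocalizedModule S δ₂ := isLocalizedModule_delta S _ ψ₂ β
  haveI : IsLocalizedModule S δ₁₂ := isLocalizedModule_delta S _ ψ₁₂ β
  let lam := mulMap (Localization.AtPrime m) δB δ₁₂
  let lam' := mulMap (Localization.AtPrime m) δ₁ δ₂
  haveI hlam : IsLocalizedModule S lam := isLocalizedModule_mulMap S _ δB δ₁₂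
  haveI hlam' : IsLocalizedModule S lam' := isLocalizedModule_mulMap S _ δ₁ δ₂
  -- the values on generators
  have hval : ∀ (b : Fin n → B) (x : M₁) (y : M₂),
      lam (g (b, x, y)) = β.det (fun i => algebraMap B (Bm B m) (b i)) *
        (Algebra.norm (Localization.AtPrime m) (c₁ x * c₂ y) *
          β.det (fun i => algebraMap B (Bm B m) (b i))) := by
    intro b x y
    simp only [lam, g, mulMap_tmul, δB, δ₁₂, delta_ιMulti]
    congr 1
    rw [← det_mul_right]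
    congr 1
    funext i
    simp only [ψ₁₂, LinearMap.restrictScalars_apply, map_smul, c₁₂, mulMap_tmul, Algebra.smul_def]
  have hval' : ∀ (b : Fin n → B) (x : M₁) (y : M₂),
      lam' (g' (b, x, y)) =
        (Algebra.norm (Localization.AtPrime m) (c₁ x) *
          β.det (fun i => algebraMap B (Bm B m) (b i))) *
        (Algebra.norm (Localization.AtPrime m) (c₂ y) *
          β.det (fun i => algebraMap B (Bm B m) (b i))) := by
    intro b x y
    simp only [lam', g', mulMap_tmul, δ₁, δ₂, delta_ιMulti]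
    rw [← det_mul_right, ← det_mul_right]
    congr 2
    · funext i
      simp only [ψ₁, LinearMap.restrictScalars_apply, map_smul, Algebra.smul_def]
    · funext i
      simp only [ψ₂, LinearMap.restrictScalars_apply, map_smul, Algebra.smul_def]
  refine ⟨lam, lam', ?_, ?_, ?_, ?_⟩
  · rintro ⟨b, x, y⟩
    rw [hval, hval', map_mul]
    ring
  · intro l hl
    obtain ⟨s, hs⟩ := (IsLocalizedModule.eq_zero_iff S lam).mp hl
    exact ⟨s.1, s.2, hs⟩
  · intro l hl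
    obtain ⟨s, hs⟩ := (IsLocalizedModule.eq_zero_iff S lam').mp hl
    exact ⟨s.1, s.2, hs⟩
  · obtain ⟨b, hb⟩ := exists_isUnit_det (B := B) m β
    obtain ⟨x, hx⟩ := exists_isUnit_coord (B := B) m c₁
    obtain ⟨y, hy⟩ := exists_isUnit_coord (B := B) m c₂
    refine ⟨(b, x, y), ?_⟩
    rw [hval]
    exact hb.mul (((hx.mul hy).map (Algebra.norm (Localization.AtPrime m))).mul hb)

end Groth.Agent.Lib.HilbChowH6
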