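import Mathlib
import Groth.Agent.Lib.HilbChow4_helper6
import Groth.Agent.Lib.HilbChow6_helper6

/-!
# `⋀^{nk}_A M ≅ (⋀ⁿ_A B)^{⊗(k-1)} ⊗ ⋀ⁿ_A (⋀^k_B M)`: the main theorem (helper6)
-/

open scoped TensorProduct

universe u

namespace Groth.Agent.Lib.HilbChowH6

open Module

section Coord

variable {A B : Type u} [CommRing A] [CommRing B] [Algebra A B] (m : Ideal A) [m.IsPrime]
  {M : Type u} [AddCommGroup M] [Module B M] {k : ℕ}
  (c : M →ₗ[B] (Fin k → Bm B m)) [IsLocalizedModule (Algebra.algebraMapSubmonoid B m.primeCompl) c]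

/-- there is a family whose coordinate matrix has unit determinant -/
theorem exists_isUnit_det_coord :
    ∃ e : Fin k → M, IsUnit ((Pi.basisFun (Bm B m) (Fin k)).det (fun j => c (e j))) := by
  have h : ∀ j, ∃ (x : M) (t : Algebra.algebraMapSubmonoid B m.primeCompl),
      c x = (algebraMap B (Bm B m) t) • (Pi.basisFun (Bm B m) (Fin k)) j := by
    intro j
    obtain ⟨⟨x, t⟩, hxt⟩ := IsLocalizedModule.surj (Algebra.algebraMapSubmonoid B m.primeCompl) c
      ((Pi.basisFun (Bm B m) (Fin k)) j)
    refine ⟨x, t, ?_⟩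
    rw [← hxt, Submonoid.smul_def, algebraMap_smul]
  choose e t het using h
  refine ⟨e, isUnit_det_of_smul' _ _ (fun j => algebraMap B (Bm B m) (t j))
    (fun j => IsLocalization.map_units _ (t j)) het⟩

end Coord

variable (A B : Type u) [CommRing A] [CommRing B] [Algebra A B] [Module.Finite A B]
  [Module.Projective A B]
  (n : ℕ) (hn : ∀ q : PrimeSpectrum A, Module.finrank (Localization.AtPrime q.asIdeal)
    (LocalizedModule q.asIdeal.primeCompl B) = n)
  (M : Type u) [AddCommGroup M] [Module B M] [Module A M] [IsScalarTower A B M]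
  [Module.Finite B M] [Module.Projective B M] (k : ℕ) (hk : 1 ≤ k)
  (hM : ∀ q : PrimeSpectrum B, Module.finrank (Localization.AtPrime q.asIdeal)
    (LocalizedModule q.asIdeal.primeCompl M) = k)

include hn hk hM in
theorem main13119 :
    Nonempty ((⋀[A]^(n * k) M) ≃ₗ[A]
      (TensorPower A (k - 1) (⋀[A]^n B)) ⊗[A] (⋀[A]^n (⋀[B]^k M))) := by
  classical
  let g : (Fin n → B) × (Fin k → M) → ⋀[A]^(n * k) M := fun t =>
    exteriorPower.ιMulti A (n * k)
      (fun i => t.1 (finProdFinEquiv.symm i).1 • t.2 (finProdFinEquiv.symm i).2)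
  let g' : (Fin n → B) × (Fin k → M) →
      (TensorPower A (k - 1) (⋀[A]^n B)) ⊗[A] (⋀[A]^n (⋀[B]^k M)) := fun t =>
    (PiTensorProduct.tprod A (fun _ : Fin (k - 1) => exteriorPower.ιMulti A n t.1)) ⊗ₜ[A]
      exteriorPower.ιMulti A n (fun i => t.1 i • exteriorPower.ιMulti B k t.2)
  letI iG : AddCommGroup ((TensorPower A (k - 1) (⋀[A]^n B)) ⊗[A] (⋀[A]^n (⋀[B]^k M))) :=
    Module.addCommMonoidToAddCommGroup A
  refine exists_linearEquiv_of_local g g' ?_
  intro m hm
  haveI : m.IsPrime := hm.isPrime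
  let S := m.primeCompl
  let SB := Algebra.algebraMapSubmonoid B m.primeCompl
  obtain ⟨β⟩ := nonempty_basis_Bm (B := B) m n (hn ⟨m, inferInstance⟩)
  obtain ⟨c, hc⟩ := exists_coord (B := B) m M k hM
  let ε := Pi.basisFun (Bm B m) (Fin k)
  let c' : ⋀[B]^k M →ₗ[B] Bm B m := delta (Bm B m) c ε
  haveI hc' : IsLocalizedModule SB c' := isLocalizedModule_delta SB (Bm B m) c ε
  let ψM : M →ₗ[A] (Fin k → Bm B m) := c.restrictScalars A
  let ψ' : ⋀[B]^k M →ₗ[A] Bm B m := c'.restrictScalars A
  haveI : IsLocalizedModule S ψM := IsLocalizedModule.restrictScalars S c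
  haveI : IsLocalizedModule S ψ' := IsLocalizedModule.restrictScalars S c'
  let γ : Basis (Fin (n * k)) (Localization.AtPrime m) (Fin k → Bm B m) :=
    (β.smulTower ε).reindex finProdFinEquiv
  let lam := delta (Localization.AtPrime m) ψM γ
  let δB := delta (Localization.AtPrime m) (psiB (B := B) m) β
  let δ' := delta (Localization.AtPrime m) ψ' β
  haveI : IsLocalizedModule S lam := isLocalizedModule_delta S _ ψM γ
  haveI : IsLocalizedModule S δB := isLocalizedModule_delta S _ (psiB (B := B) m) β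
  haveI : IsLocalizedModule S δ' := isLocalizedModule_delta S _ ψ' β
  let pw := powMap (Localization.AtPrime m) δB (k - 1)
  haveI : IsLocalizedModule S pw := isLocalizedModule_powMap S _ δB (k - 1)
  let lam' := mulMap (Localization.AtPrime m) pw δ'
  haveI hlam' : IsLocalizedModule S lam' := isLocalizedModule_mulMap S _ pw δ'
  have hval : ∀ (b : Fin n → B) (e : Fin k → M),
      lam (g (b, e)) = Algebra.norm (Localization.AtPrime m) (ε.det (fun j => c (e j))) *
        (β.det (fun i => algebraMap B (Bm B m) (b i))) ^ k := by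
    intro b e
    simp only [lam, g, delta_ιMulti, γ]
    rw [Basis.det_reindex, ← det_smulTower_family]
    congr 1
    funext p
    simp only [Function.comp_apply, Equiv.symm_apply_apply, ψM, LinearMap.restrictScalars_apply,
      map_smul, algebraMap_smul]
  have hval' : ∀ (b : Fin n → B) (e : Fin k → M),
      lam' (g' (b, e)) = (β.det (fun i => algebraMap B (Bm B m) (b i))) ^ (k - 1) *
        (Algebra.norm (Localization.AtPrime m) (ε.det (fun j => c (e j))) *
          β.det (fun i => algebraMap B (Bm B m) (b i))) := by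
    intro b e
    simp only [lam', g', mulMap_tmul, pw, powMap_tprod, δB, δ', delta_ιMulti, Finset.prod_const,
      Finset.card_univ, Fintype.card_fin]
    congr 1
    rw [← det_mul_right]
    congr 1
    funext i
    simp only [ψ', LinearMap.restrictScalars_apply, map_smul, c', delta_ιMulti, Algebra.smul_def]
  refine ⟨lam, lam', ?_, ?_, ?_, ?_⟩
  · rintro ⟨b, e⟩
    rw [hval, hval']
    have hpow : (β.det (fun i => algebraMap B (Bm B m) (b i))) ^ k =
        (β.det (fun i => algebraMap B (Bm B m) (b i))) ^ (k - 1) *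
          β.det (fun i => algebraMap B (Bm B m) (b i)) := by
      rw [← pow_succ, Nat.sub_add_cancel hk]
    rw [hpow]
    ring
  · intro l hl
    obtain ⟨s, hs⟩ := (IsLocalizedModule.eq_zero_iff S lam).mp hl
    exact ⟨s.1, s.2, hs⟩
  · intro l hl
    obtain ⟨s, hs⟩ := (IsLocalizedModule.eq_zero_iff S lam').mp hl
    exact ⟨s.1, s.2, hs⟩
  · obtain ⟨b, hb⟩ := exists_isUnit_det (B := B) m β
    obtain ⟨e, he⟩ := exists_isUnit_det_coord (B := B) m c
    refine ⟨(b, e), ?_⟩
    rw [hval]
    exact (he.map (Algebra.norm (Localization.AtPrime m))).mul (hb.pow k)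

end Groth.Agent.Lib.HilbChowH6
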