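import Mathlib
import Groth.Agent.Lib.HilbDim3_helper9
import Groth.Agent.Lib.HilbDeg1_helper9

/-!
# Hilbert functions modulo lower order terms: the associativity formula (helper9)

For a homogeneous ideal `J` of `S = k[X_0..X_{N-1}]` with `dim S/J ≤ t + 1`,
`hf J m = ∑_p length((S/J)_p) · hf p m + O(m^(t-1))`, the sum over the primes `p ⊇ J` with
`dim S/p = t + 1`.
APPEND-ONLY once landed.
-/

set_option autoImplicit false
set_option maxHeartbeats 400000
set_option linter.style.haveILetI false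
universe u

namespace Groth.Agent.HilbDeg9

open MvPolynomial Groth.Agent.HilbSection Groth.Agent.ProjDeg9 Groth.Agent.HilbDim9

attribute [local instance] MvPolynomial.gradedAlgebra

section Arith

theorem Bdd.const_mul {d : ℕ} {f : ℕ → ℕ} (c : ℕ) (hf : Bdd d f) : Bdd d (fun m => c * f m) := by
  obtain ⟨C, m₀, h⟩ := hf
  refine ⟨c * C, m₀, fun m hm => ?_⟩
  calc c * f m * m = c * (f m * m) := mul_assoc _ _ _
    _ ≤ c * (C * m ^ d) := Nat.mul_le_mul_left _ (h m hm)
    _ = c * C * m ^ d := (mul_assoc _ _ _).symm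

/-- integer valued functions of growth `O(m^(t-1))` -/
def BddZ (t : ℕ) (u : ℕ → ℤ) : Prop := Bdd t (fun m => (u m).natAbs)

theorem BddZ.zero (t : ℕ) : BddZ t (fun _ => 0) := by
  unfold BddZ
  simpa using Bdd.zero t

theorem BddZ.add {t : ℕ} {u v : ℕ → ℤ} (hu : BddZ t u) (hv : BddZ t v) :
    BddZ t (fun m => u m + v m) :=
  Bdd.of_le (Bdd.add hu hv) 0 (fun m _ => Int.natAbs_add_le _ _)

theorem BddZ.neg {t : ℕ} {u : ℕ → ℤ} (hu : BddZ t u) : BddZ t (fun m => - u m) := by
  unfold BddZ at *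
  simpa [Int.natAbs_neg] using hu

theorem BddZ.sub {t : ℕ} {u v : ℕ → ℤ} (hu : BddZ t u) (hv : BddZ t v) :
    BddZ t (fun m => u m - v m) := by
  have := hu.add hv.neg
  simpa [sub_eq_add_neg] using this

theorem BddZ.shift {t : ℕ} {u : ℕ → ℤ} (hu : BddZ t u) (e : ℕ) : BddZ t (fun m => u (m - e)) :=
  Bdd.shift hu e

theorem BddZ.const_mul {t : ℕ} {u : ℕ → ℤ} (c : ℤ) (hu : BddZ t u) :
    BddZ t (fun m => c * u m) := by
  unfold BddZ at *
  have := Bdd.const_mul c.natAbs hu
  simpa [Int.natAbs_mul] using this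

theorem BddZ.sum {t : ℕ} {ι : Type*} (s : Finset ι) (u : ι → ℕ → ℤ)
    (h : ∀ i ∈ s, BddZ t (u i)) : BddZ t (fun m => ∑ i ∈ s, u i m) := by
  classical
  induction s using Finset.induction_on with
  | empty => simpa using BddZ.zero t
  | insert a s ha ih =>
    have h1 := (h a (Finset.mem_insert_self a s)).add
      (ih (fun i hi => h i (Finset.mem_insert_of_mem hi)))
    simpa [Finset.sum_insert ha] using h1

theorem BddZ.congr {t : ℕ} {u v : ℕ → ℤ} (hu : BddZ t u) (m₁ : ℕ)
    (h : ∀ m, m₁ ≤ m → v m = u m) : BddZ t v :=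
  Bdd.of_le hu m₁ (fun m hm => by rw [h m hm])

theorem BddZ.of_nat {t : ℕ} {f : ℕ → ℕ} (hf : Bdd t f) : BddZ t (fun m => (f m : ℤ)) := by
  unfold BddZ
  simpa using hf

end Arith

section Shift

variable (k : Type u) [Field k] (N : ℕ)

local notation "SS" => MvPolynomial (Fin N) k

/-- one variable outside a homogeneous prime -/
theorem prime_step (p : Ideal (MvPolynomial (Fin N) k)) [hp : p.IsPrime]
    (hph : p.IsHomogeneous (homogeneousSubmodule (Fin N) k)) (i : Fin N)
    (hi : (X i : MvPolynomial (Fin N) k) ∉ p) :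
    (p ⊔ Ideal.span {(X i : MvPolynomial (Fin N) k)}).IsHomogeneous
        (homogeneousSubmodule (Fin N) k) ∧
      ringKrullDim (MvPolynomial (Fin N) k ⧸ (p ⊔ Ideal.span {(X i : MvPolynomial (Fin N) k)})) + 1
        ≤ ringKrullDim (MvPolynomial (Fin N) k ⧸ p) ∧
      ∀ m, 1 ≤ m → hf k N p m =
        hf k N (p ⊔ Ideal.span {(X i : MvPolynomial (Fin N) k)}) m + hf k N p (m - 1) := by
  set J' := p ⊔ Ideal.span {(X i : SS)} with hJ'
  have hXJ' : (X i : SS) ∈ J' := Ideal.mem_sup_right (Ideal.mem_span_singleton_self _)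
  have hle : p ≤ J' := le_sup_left
  refine ⟨?_, ?_, ?_⟩
  · apply hph.sup
    apply Ideal.homogeneous_span
    intro x hx
    rw [Set.mem_singleton_iff] at hx
    subst hx
    exact ⟨1, (mem_homogeneousSubmodule _ _).2 (isHomogeneous_X k i)⟩
  · haveI : IsDomain (SS ⧸ p) := Ideal.Quotient.isDomain p
    refine ringKrullDim_succ_le_of_surjective (Ideal.Quotient.factor hle)
      (Ideal.Quotient.factor_surjective hle) (r := Ideal.Quotient.mk p (X i)) ?_ ?_
    · apply mem_nonZeroDivisors_of_ne_zero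
      intro h0
      exact hi (Ideal.Quotient.eq_zero_iff_mem.mp h0)
    · rw [Ideal.Quotient.factor_mk]
      exact Ideal.Quotient.eq_zero_iff_mem.mpr hXJ'
  · have hcolon : p.colon ({(X i : SS)} : Set SS) = p := by
      apply le_antisymm
      · intro a ha
        rw [Submodule.mem_colon_singleton, smul_eq_mul] at ha
        exact (hp.mem_or_mem ha).resolve_right hi
      · intro a ha
        rw [Submodule.mem_colon_singleton, smul_eq_mul]
        exact p.mul_mem_right _ ha
    intro m hm
    have := hf_rec k N p hph (X i) 1 (isHomogeneous_X k i) (X_ne_zero i) m hm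
    rw [hcolon, ← hJ'] at this
    exact this

/-- shifting the argument of the Hilbert function of a prime changes it by lower order terms -/
theorem hf_shift (p : Ideal (MvPolynomial (Fin N) k)) [hp : p.IsPrime]
    (hph : p.IsHomogeneous (homogeneousSubmodule (Fin N) k)) (t : ℕ)
    (hdim : ringKrullDim (MvPolynomial (Fin N) k ⧸ p) ≤ ((t + 1 : ℕ) : WithBot ℕ∞)) (e : ℕ) :
    BddZ t (fun m => (hf k N p m : ℤ) - (hf k N p (m - e) : ℤ)) := by
  by_cases hX : ∀ i, (X i : SS) ∈ p
  · refine (BddZ.zero t).congr (e + 1) (fun m hm => ?_)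
    rw [hf_eq_zero_of_X_mem k N p hX m (by omega), hf_eq_zero_of_X_mem k N p hX (m - e) (by omega)]
    simp
  · push Not at hX
    obtain ⟨i, hi⟩ := hX
    obtain ⟨h1, h2, h3⟩ := prime_step k N p hph i hi
    have hδ : Bdd t (hf k N (p ⊔ Ideal.span {(X i : SS)})) :=
      bdd_of_dim_le k N _ h1 t (withBot_le_of_add_one_le (le_trans h2 hdim))
    induction e with
    | zero =>
      refine (BddZ.zero t).congr 0 (fun m _ => ?_)
      simp
    | succ e ih =>
      refine (ih.add ((BddZ.of_nat hδ).shift e)).congr (e + 1) (fun m hm => ?_)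
      have h4 := h3 (m - e) (by omega)
      have h5 : m - e - 1 = m - (e + 1) := by omega
      rw [h5] at h4
      rw [h4]
      push_cast
      ring

end Shift

end Groth.Agent.HilbDeg9
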