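import Mathlib
import Groth.Agent.Lib.HilbDeg2_helper9

/-!
# The associativity formula for Hilbert functions, by Noetherian induction (helper9)
APPEND-ONLY once landed.
-/

set_option autoImplicit false
set_option maxHeartbeats 400000
set_option linter.style.haveILetI false
universe u

namespace Groth.Agent.HilbDeg9

open MvPolynomial Groth.Agent.HilbSection Groth.Agent.ProjDeg9 Groth.Agent.HilbDim9

attribute [local instance] MvPolynomial.gradedAlgebra

section LenT

variable {R : Type u} [CommRing R]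

open Classical in
/-- `lenAt`, as a total function of the prime -/
noncomputable def lenT (p J : Ideal R) : ℕ∞ :=
  if h : p.IsPrime then @lenAt _ _ p h J else 0

theorem lenT_eq (p J : Ideal R) [hp : p.IsPrime] : lenT p J = lenAt p J := dif_pos hp

theorem lenT_eq_zero (p J : Ideal R) [hp : p.IsPrime] (h : ¬ J ≤ p) : lenT p J = 0 := by
  rw [lenT_eq, lenAt_eq_zero p J h]

theorem lenT_self (p : Ideal R) [hp : p.IsPrime] : lenT p p = 1 := by
  rw [lenT_eq, lenAt_self]

theorem lenT_add (p : Ideal R) [hp : p.IsPrime] (J : Ideal R) (x : R) :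
    lenT p J = lenT p (J.colon ({x} : Set R)) + lenT p (J ⊔ Ideal.span {x}) := by
  rw [lenT_eq, lenT_eq, lenT_eq, lenAt_add p J x]

end LenT

section Key

variable (k : Type u) [Field k] (N : ℕ)

local notation "SS" => MvPolynomial (Fin N) k

/-- **associativity formula**, modulo lower order terms -/
theorem key (t : ℕ) (F : Finset (Ideal (MvPolynomial (Fin N) k)))
    (hFp : ∀ p ∈ F, p.IsPrime)
    (hFh : ∀ p ∈ F, p.IsHomogeneous (homogeneousSubmodule (Fin N) k))
    (hFd : ∀ p ∈ F, ringKrullDim (MvPolynomial (Fin N) k ⧸ p) = ((t + 1 : ℕ) : WithBot ℕ∞))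
    (J : Ideal (MvPolynomial (Fin N) k)) :
    J.IsHomogeneous (homogeneousSubmodule (Fin N) k) →
    ringKrullDim (MvPolynomial (Fin N) k ⧸ J) ≤ ((t + 1 : ℕ) : WithBot ℕ∞) →
    (∀ p : Ideal (MvPolynomial (Fin N) k), p.IsPrime → J ≤ p →
      ringKrullDim (MvPolynomial (Fin N) k ⧸ p) = ((t + 1 : ℕ) : WithBot ℕ∞) → p ∈ F) →
    (∀ p ∈ F, lenT p J ≠ ⊤) ∧
      BddZ t (fun m => (hf k N J m : ℤ) -
        ∑ p ∈ F, ((lenT p J).toNat : ℤ) * (hf k N p m : ℤ)) := by
  classical
  refine IsNoetherian.induction (R := SS) (M := SS)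
    (P := fun (J : Ideal SS) => J.IsHomogeneous (homogeneousSubmodule (Fin N) k) →
      ringKrullDim (SS ⧸ J) ≤ ((t + 1 : ℕ) : WithBot ℕ∞) →
      (∀ p : Ideal SS, p.IsPrime → J ≤ p →
        ringKrullDim (SS ⧸ p) = ((t + 1 : ℕ) : WithBot ℕ∞) → p ∈ F) →
      (∀ p ∈ F, lenT p J ≠ ⊤) ∧
        BddZ t (fun m => (hf k N J m : ℤ) -
          ∑ p ∈ F, ((lenT p J).toNat : ℤ) * (hf k N p m : ℤ))) ?_ J
  intro (J : Ideal SS) ih hJ hd hcov
  set 𝒜 := homogeneousSubmodule (Fin N) k with h𝒜
  -- the primes of `F` not containing `J` do not contribute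
  have hzero : ∀ p ∈ F, ¬ J ≤ p → lenT p J = 0 := by
    intro p hp h
    haveI := hFp p hp
    exact lenT_eq_zero p J h
  by_cases htop : J = ⊤
  · subst htop
    have h0 : ∀ p ∈ F, lenT p (⊤ : Ideal SS) = 0 := by
      intro p hp
      haveI := hFp p hp
      exact hzero p hp (fun h => (hFp p hp).ne_top (top_le_iff.1 h))
    refine ⟨fun p hp => by rw [h0 p hp]; simp, ?_⟩
    refine (BddZ.zero t).congr 0 (fun m _ => ?_)
    rw [hf_top, Finset.sum_eq_zero (fun p hp => by rw [h0 p hp]; simp)]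
    simp
  by_cases hp : J.IsPrime
  · haveI := hp
    by_cases hdJ : ringKrullDim (SS ⧸ J) = ((t + 1 : ℕ) : WithBot ℕ∞)
    · have hJF : J ∈ F := hcov J hp le_rfl hdJ
      have hother : ∀ p ∈ F, p ≠ J → lenT p J = 0 := by
        intro p hpF hne
        haveI := hFp p hpF
        apply hzero p hpF
        intro hle
        apply hne
        symm
        apply Groth.Agent.DepthLib.eq_of_le_of_ringKrullDim_quotient_eq J p hle
        · rw [hdJ, hFd p hpF]
        · rw [hFd p hpF]
          exact WithBot.coe_lt_coe.2 (ENat.coe_lt_top _)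
      refine ⟨fun p hpF => ?_, ?_⟩
      · by_cases hpJ : p = J
        · subst hpJ
          rw [lenT_self]
          simp
        · rw [hother p hpF hpJ]
          simp
      · refine (BddZ.zero t).congr 0 (fun m _ => ?_)
        rw [Finset.sum_eq_single J (fun p hpF hne => by rw [hother p hpF hne]; simp)
          (fun h => absurd hJF h), lenT_self]
        simp
    · have hdJ' : ringKrullDim (SS ⧸ J) ≤ ((t : ℕ) : WithBot ℕ∞) := by
        have := withBot_le_pred hd hdJ
        simpa using this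
      have h0 : ∀ p ∈ F, lenT p J = 0 := by
        intro p hpF
        apply hzero p hpF
        intro hle
        have h1 : ringKrullDim (SS ⧸ p) ≤ ringKrullDim (SS ⧸ J) :=
          ringKrullDim_le_of_surjective (Ideal.Quotient.factor hle)
            (Ideal.Quotient.factor_surjective hle)
        rw [hFd p hpF] at h1
        have h2 : ((t + 1 : ℕ) : WithBot ℕ∞) ≤ ((t : ℕ) : WithBot ℕ∞) := le_trans h1 hdJ'
        have h3 : t + 1 ≤ t := by exact_mod_cast h2
        omega
      refine ⟨fun p hpF => by rw [h0 p hpF]; simp, ?_⟩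
      refine (BddZ.of_nat (bdd_of_dim_le k N J hJ t hdJ')).congr 0 (fun m _ => ?_)
      rw [Finset.sum_eq_zero (fun p hpF => by rw [h0 p hpF]; simp)]
      simp
  · have hex : ∃ x y : SS, SetLike.IsHomogeneousElem 𝒜 x ∧ SetLike.IsHomogeneousElem 𝒜 y ∧
        x * y ∈ J ∧ x ∉ J ∧ y ∉ J := by
      by_contra hcon
      push Not at hcon
      apply hp
      apply hJ.isPrime_of_homogeneous_mem_or_mem htop
      intro x y hx hy hxy
      by_contra h
      push Not at h
      exact h.2 (hcon x y hx hy hxy h.1)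
    obtain ⟨x, y, ⟨e, hxe⟩, -, hxy, hxJ, hyJ⟩ := hex
    have hxe' : x.IsHomogeneous e := (mem_homogeneousSubmodule _ _).1 hxe
    have hx0 : x ≠ 0 := fun h => hxJ (h ▸ J.zero_mem)
    set J₁ := J ⊔ Ideal.span {x} with hJ₁
    set J₂ := J.colon ({x} : Set SS) with hJ₂
    have hxJ₁ : x ∈ J₁ := Ideal.mem_sup_right (Ideal.mem_span_singleton_self _)
    have hlt₁ : J < J₁ := lt_of_le_of_ne le_sup_left (fun h => hxJ (by rw [h]; exact hxJ₁))
    have hle₂ : J ≤ J₂ := by
      intro a ha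
      rw [hJ₂, Submodule.mem_colon_singleton, smul_eq_mul]
      exact J.mul_mem_right _ ha
    have hyJ₂ : y ∈ J₂ := by
      rw [hJ₂, Submodule.mem_colon_singleton, smul_eq_mul, mul_comm]
      exact hxy
    have hlt₂ : J < J₂ := lt_of_le_of_ne hle₂ (fun h => hyJ (by rw [h]; exact hyJ₂))
    have hJ₁hom : J₁.IsHomogeneous 𝒜 := by
      apply hJ.sup
      apply Ideal.homogeneous_span
      intro z hz
      rw [Set.mem_singleton_iff] at hz
      subst hz
      exact ⟨e, hxe⟩
    have hJ₂hom : J₂.IsHomogeneous 𝒜 := colon_isHomogeneous k N J hJ x e hxe'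
    have hd₁ : ringKrullDim (SS ⧸ J₁) ≤ ((t + 1 : ℕ) : WithBot ℕ∞) :=
      le_trans (ringKrullDim_le_of_surjective (Ideal.Quotient.factor hlt₁.le)
        (Ideal.Quotient.factor_surjective hlt₁.le)) hd
    have hd₂ : ringKrullDim (SS ⧸ J₂) ≤ ((t + 1 : ℕ) : WithBot ℕ∞) :=
      le_trans (ringKrullDim_le_of_surjective (Ideal.Quotient.factor hlt₂.le)
        (Ideal.Quotient.factor_surjective hlt₂.le)) hd
    obtain ⟨f₁, b₁⟩ := ih J₁ hlt₁ hJ₁hom hd₁
      (fun p hpp hle hdp => hcov p hpp (le_trans hlt₁.le hle) hdp)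
    obtain ⟨f₂, b₂⟩ := ih J₂ hlt₂ hJ₂hom hd₂
      (fun p hpp hle hdp => hcov p hpp (le_trans hlt₂.le hle) hdp)
    have hadd : ∀ p ∈ F, lenT p J = lenT p J₂ + lenT p J₁ := by
      intro p hpF
      haveI := hFp p hpF
      exact lenT_add p J x
    have hfin : ∀ p ∈ F, lenT p J ≠ ⊤ := by
      intro p hpF
      rw [hadd p hpF]
      exact WithTop.add_ne_top.2 ⟨f₂ p hpF, f₁ p hpF⟩
    refine ⟨hfin, ?_⟩
    have hsh : BddZ t (fun m => ∑ p ∈ F, ((lenT p J₂).toNat : ℤ) *
        (-((hf k N p m : ℤ) - (hf k N p (m - e) : ℤ)))) := by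
      apply BddZ.sum
      intro p hpF
      haveI := hFp p hpF
      exact ((hf_shift k N p (hFh p hpF) t (hFd p hpF).le e).neg).const_mul _
    refine ((b₁.add (b₂.shift e)).add hsh).congr e (fun m hm => ?_)
    have hrec := hf_rec k N J hJ x e hxe' hx0 m hm
    rw [← hJ₁, ← hJ₂] at hrec
    have hsum : ∑ p ∈ F, ((lenT p J).toNat : ℤ) * (hf k N p m : ℤ) =
        ∑ p ∈ F, ((lenT p J₁).toNat : ℤ) * (hf k N p m : ℤ) +
        ∑ p ∈ F, ((lenT p J₂).toNat : ℤ) * (hf k N p m : ℤ) := by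
      rw [← Finset.sum_add_distrib]
      apply Finset.sum_congr rfl
      intro p hpF
      rw [hadd p hpF, ENat.toNat_add (f₂ p hpF) (f₁ p hpF)]
      push_cast
      ring
    have hsum2 : ∑ p ∈ F, ((lenT p J₂).toNat : ℤ) *
        (-((hf k N p m : ℤ) - (hf k N p (m - e) : ℤ))) =
        ∑ p ∈ F, ((lenT p J₂).toNat : ℤ) * (hf k N p (m - e) : ℤ) -
        ∑ p ∈ F, ((lenT p J₂).toNat : ℤ) * (hf k N p m : ℤ) := by
      rw [← Finset.sum_sub_distrib]
      apply Finset.sum_congr rfl
      intro p _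
      ring
    rw [hsum, hsum2, hrec]
    push_cast
    ring

end Key

end Groth.Agent.HilbDeg9
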