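import Mathlib
import Groth.Agent.Lib.HilbDeg3_helper9

/-!
# The degree of a projective scheme as the sum of the degrees of its top-dimensional components
(helper9)
APPEND-ONLY once landed.
-/

set_option autoImplicit false
set_option maxHeartbeats 400000
set_option linter.style.haveILetI false
universe u

namespace Groth.Agent.HilbDeg9

open Polynomial Groth.Agent.HilbSection Groth.Agent.ProjDeg9 Groth.Agent.HilbDim9

attribute [local instance] MvPolynomial.gradedAlgebra

section Hilb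

variable (k : Type u) [Field k] (N : ℕ)

local notation "SS" => MvPolynomial (Fin N) k

/-- `Q` is the Hilbert polynomial of `S/J` -/
def IsHilb (J : Ideal (MvPolynomial (Fin N) k)) (Q : ℚ[X]) : Prop :=
  ∃ m₀ : ℕ, ∀ m : ℕ, m₀ ≤ m → Q.eval (m : ℚ) =
    (Module.finrank k ↥(MvPolynomial.homogeneousSubmodule (Fin N) k m) : ℚ) -
      Module.finrank k ↥(Submodule.restrictScalars k J ⊓
        MvPolynomial.homogeneousSubmodule (Fin N) k m)

variable {k N}

theorem IsHilb.eval_eq {J : Ideal (MvPolynomial (Fin N) k)} {Q : ℚ[X]} (h : IsHilb k N J Q) :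
    ∃ m₀ : ℕ, ∀ m : ℕ, m₀ ≤ m → Q.eval (m : ℚ) = (hf k N J m : ℚ) := by
  obtain ⟨m₀, hQ⟩ := h
  refine ⟨m₀, fun m hm => ?_⟩
  rw [hQ m hm]
  have h1 := hf_add k N J m
  unfold piece at h1
  rw [← h1]
  push_cast
  ring

theorem eq_zero_of_eventually {Q : ℚ[X]} (m₁ : ℕ) (h : ∀ m : ℕ, m₁ ≤ m → Q.eval (m : ℚ) = 0) :
    Q = 0 := by
  apply Polynomial.eq_zero_of_infinite_isRoot
  apply Set.infinite_of_injective_forall_mem (f := fun i : ℕ => ((m₁ + i : ℕ) : ℚ))
  · intro a b hab
    simpa using hab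
  · intro i
    rw [Set.mem_ofPred_eq, Polynomial.IsRoot.def, h _ (by omega)]

theorem IsHilb.dim_eq {J : Ideal (MvPolynomial (Fin N) k)} {Q : ℚ[X]} (h : IsHilb k N J Q)
    (hJ : J.IsHomogeneous (MvPolynomial.homogeneousSubmodule (Fin N) k)) (hQ : Q ≠ 0) :
    ringKrullDim (MvPolynomial (Fin N) k ⧸ J) = ((Q.natDegree + 1 : ℕ) : WithBot ℕ∞) := by
  rw [HilbDim9.main k N J hJ Q hQ h]
  push_cast
  rfl

theorem IsHilb.ne_zero {J : Ideal (MvPolynomial (Fin N) k)} {Q : ℚ[X]} (h : IsHilb k N J Q)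
    (r : ℕ) (hd : ringKrullDim (MvPolynomial (Fin N) k ⧸ J) = ((r + 1 : ℕ) : WithBot ℕ∞)) :
    Q ≠ 0 := by
  rintro rfl
  obtain ⟨m₀, hm₀⟩ := h.eval_eq
  obtain ⟨q, hq, hJq, hdq⟩ := exists_prime_dim_eq k N J (r + 1) hd (by omega)
  haveI := hq
  obtain ⟨j, hj⟩ := Groth.Agent.Fano9.exists_algIndep_vars k N q (r + 1) hdq
  have hlow := choose_le_hf k N J q hJq r j hj m₀
  have h1 := hm₀ m₀ le_rfl
  rw [Polynomial.eval_zero] at h1
  have h2 : hf k N J m₀ = 0 := by exact_mod_cast h1.symm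
  have h3 : 0 < (m₀ + r).choose r := Nat.choose_pos (by omega)
  omega

theorem IsHilb.eq_zero_of_le {J J' : Ideal (MvPolynomial (Fin N) k)} {Q' : ℚ[X]}
    (h : IsHilb k N J (0 : ℚ[X])) (h' : IsHilb k N J' Q') (hle : J ≤ J') : Q' = 0 := by
  obtain ⟨m₀, hm₀⟩ := h.eval_eq
  obtain ⟨m₁, hm₁⟩ := h'.eval_eq
  apply eq_zero_of_eventually (max m₀ m₁)
  intro m hm
  have h1 := hm₀ m (le_trans (le_max_left _ _) hm)
  rw [Polynomial.eval_zero] at h1
  have h2 : hf k N J m = 0 := by exact_mod_cast h1.symm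
  have h3 := hf_anti k N hle m
  rw [hm₁ m (le_trans (le_max_right _ _) hm)]
  have h4 : hf k N J' m = 0 := by omega
  rw [h4]
  simp

end Hilb

section Growth

/-- a rational polynomial with `|R(m)| ≤ C m^s` for large `m` has degree at most `s` -/
theorem natDegree_le_of_abs_growth (R : ℚ[X]) (s : ℕ) (C : ℚ) (m₁ : ℕ)
    (h : ∀ m : ℕ, m₁ ≤ m → |R.eval (m : ℚ)| ≤ C * (m : ℚ) ^ s) : R.natDegree ≤ s := by
  by_cases hR : R = 0
  · rw [hR]
    simp
  have h1 : (R * R).natDegree ≤ 2 * s := by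
    apply natDegree_le_of_growth (R * R) (2 * s) (C * C) m₁
    · intro m _
      rw [eval_mul]
      exact mul_self_nonneg _
    · intro m hm
      rw [eval_mul]
      have h2 := h m hm
      have h3 : 0 ≤ |R.eval (m : ℚ)| := abs_nonneg _
      have h4 : R.eval (m : ℚ) * R.eval (m : ℚ) = |R.eval (m : ℚ)| * |R.eval (m : ℚ)| :=
        (abs_mul_abs_self _).symm
      rw [h4]
      calc |R.eval (m : ℚ)| * |R.eval (m : ℚ)| ≤ (C * (m : ℚ) ^ s) * (C * (m : ℚ) ^ s) :=
            mul_le_mul h2 h2 h3 (le_trans h3 h2)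
        _ = C * C * (m : ℚ) ^ (2 * s) := by ring
  rw [natDegree_mul hR hR] at h1
  omega

end Growth

end Groth.Agent.HilbDeg9

namespace Groth.Agent.HilbDeg9

open Polynomial Groth.Agent.HilbSection Groth.Agent.ProjDeg9 Groth.Agent.HilbDim9

attribute [local instance] MvPolynomial.gradedAlgebra

section Main

variable (k : Type u) [Field k] (N : ℕ)

local notation "SS" => MvPolynomial (Fin N) k

/-- **S10906**: the degree is the sum over the top-dimensional components of multiplicity times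
degree -/
theorem degree_formula (I : Ideal (MvPolynomial (Fin N) k))
    (hIh : I.IsHomogeneous (MvPolynomial.homogeneousSubmodule (Fin N) k))
    (P : ℚ[X]) (hP : IsHilb k N I P)
    (r : ℕ) (p : Fin r → Ideal (MvPolynomial (Fin N) k)) [hp : ∀ i, (p i).IsPrime]
    (hpinj : Function.Injective p)
    (hpmin : ∀ q : Ideal (MvPolynomial (Fin N) k), q ∈ I.minimalPrimes ↔ ∃ i, q = p i)
    (Qp : Fin r → ℚ[X]) (hQp : ∀ i, IsHilb k N (p i) (Qp i)) :
    (P.natDegree.factorial : ℚ) * P.leadingCoeff =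
      ∑ i : Fin r, if (Qp i).natDegree = P.natDegree then
        ((Qp i).natDegree.factorial : ℚ) * (Qp i).leadingCoeff *
          (Module.length (Localization.AtPrime (p i))
            (LocalizedModule (p i).primeCompl (MvPolynomial (Fin N) k ⧸ I))).toNat
      else 0 := by
  classical
  have hIp : ∀ i, I ≤ p i := fun i => ((hpmin (p i)).2 ⟨i, rfl⟩).1.2
  have hph : ∀ i, (p i).IsHomogeneous (MvPolynomial.homogeneousSubmodule (Fin N) k) := fun i =>
    Groth.Agent.Link9.isHomogeneous_of_mem_minimalPrimes I hIh (p i) ((hpmin (p i)).2 ⟨i, rfl⟩)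
  by_cases hP0 : P = 0
  · subst hP0
    have hQ0 : ∀ i, Qp i = 0 := fun i => hP.eq_zero_of_le (hQp i) (hIp i)
    simp [hQ0]
  set t := P.natDegree with ht
  have hdI : ringKrullDim (SS ⧸ I) = ((t + 1 : ℕ) : WithBot ℕ∞) := hP.dim_eq hIh hP0
  set Top : Finset (Fin r) :=
    Finset.univ.filter (fun i => ringKrullDim (SS ⧸ p i) = ((t + 1 : ℕ) : WithBot ℕ∞)) with hTop
  have hdeg : ∀ i ∈ Top, (Qp i).natDegree = t := by
    intro i hi
    have hd := (Finset.mem_filter.1 hi).2
    have hne := (hQp i).ne_zero t hd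
    have h1 := (hQp i).dim_eq (hph i) hne
    rw [hd] at h1
    have h2 : t + 1 = (Qp i).natDegree + 1 := by exact_mod_cast h1
    omega
  set F : Finset (Ideal SS) := Top.image p with hF
  have hFmem : ∀ q ∈ F, ∃ i ∈ Top, p i = q := fun q hq => Finset.mem_image.1 hq
  have hcov : ∀ q : Ideal SS, q.IsPrime → I ≤ q →
      ringKrullDim (SS ⧸ q) = ((t + 1 : ℕ) : WithBot ℕ∞) → q ∈ F := by
    intro q hq hIq hdq
    have hmin : q ∈ I.minimalPrimes := by
      refine ⟨⟨hq, hIq⟩, ?_⟩
      rintro q' ⟨hq', hIq'⟩ hle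
      haveI := hq
      haveI := hq'
      have h1 : ringKrullDim (SS ⧸ q) ≤ ringKrullDim (SS ⧸ q') :=
        ringKrullDim_le_of_surjective (Ideal.Quotient.factor hle)
          (Ideal.Quotient.factor_surjective hle)
      have h2 : ringKrullDim (SS ⧸ q') ≤ ringKrullDim (SS ⧸ I) :=
        ringKrullDim_le_of_surjective (Ideal.Quotient.factor hIq')
          (Ideal.Quotient.factor_surjective hIq')
      have h3 : ringKrullDim (SS ⧸ q') = ringKrullDim (SS ⧸ q) :=
        le_antisymm (by rw [hdq, ← hdI]; exact h2) h1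
      have h4 := Groth.Agent.DepthLib.eq_of_le_of_ringKrullDim_quotient_eq q' q hle h3
        (by rw [hdq]; exact WithBot.coe_lt_coe.2 (ENat.coe_lt_top _))
      rw [h4]
    obtain ⟨i, rfl⟩ := (hpmin q).1 hmin
    exact Finset.mem_image.2 ⟨i, Finset.mem_filter.2 ⟨Finset.mem_univ _, hdq⟩, rfl⟩
  obtain ⟨-, hB⟩ := key k N t F
    (by rintro q hq; obtain ⟨i, -, rfl⟩ := hFmem q hq; exact hp i)
    (by rintro q hq; obtain ⟨i, -, rfl⟩ := hFmem q hq; exact hph i)
    (by rintro q hq; obtain ⟨i, hi, rfl⟩ := hFmem q hq; exact (Finset.mem_filter.1 hi).2)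
    I hIh hdI.le hcov
  set ℓ : Fin r → ℕ := fun i => (lenT (p i) I).toNat with hℓ
  set u : ℕ → ℤ := fun m => (hf k N I m : ℤ) - ∑ i ∈ Top, (ℓ i : ℤ) * (hf k N (p i) m : ℤ) with hu
  have hB' : BddZ t u := by
    refine hB.congr 0 (fun m _ => ?_)
    rw [hu, hF, Finset.sum_image (fun a _ b _ h => hpinj h)]
  -- the comparison polynomial
  set R : ℚ[X] := P - ∑ i ∈ Top, Polynomial.C (ℓ i : ℚ) * Qp i with hR
  obtain ⟨mP, hmP⟩ := hP.eval_eq
  have hex : ∀ i, ∃ m₀ : ℕ, ∀ m : ℕ, m₀ ≤ m → (Qp i).eval (m : ℚ) = (hf k N (p i) m : ℚ) :=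
    fun i => (hQp i).eval_eq
  choose mq hmq using hex
  set M := max mP (Finset.univ.sup mq) with hM
  have hReval : ∀ m : ℕ, M ≤ m → R.eval (m : ℚ) = ((u m : ℤ) : ℚ) := by
    intro m hm
    have hm1 : mP ≤ m := le_trans (le_max_left _ _) hm
    have hm2 : ∀ i, mq i ≤ m := fun i =>
      le_trans (Finset.le_sup (f := mq) (Finset.mem_univ i)) (le_trans (le_max_right _ _) hm)
    rw [hR, hu, eval_sub, eval_finset_sum, hmP m hm1]
    push_cast
    congr 1
    apply Finset.sum_congr rfl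
    intro i _
    rw [eval_mul, eval_C, hmq i m (hm2 i)]
  obtain ⟨C, m₀, hC⟩ := hB'
  have hcoeff : R.coeff t = 0 := by
    rcases Nat.eq_zero_or_pos t with h0 | hpos
    · have hR0 : R = 0 := by
        apply eq_zero_of_eventually (max M (max m₀ (C + 1)))
        intro m hm
        have hm1 : M ≤ m := le_trans (le_max_left _ _) hm
        have hm2 : m₀ ≤ m := le_trans (le_trans (le_max_left _ _) (le_max_right _ _)) hm
        have hm3 : C + 1 ≤ m := le_trans (le_trans (le_max_right _ _) (le_max_right _ _)) hm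
        have h1 : (u m).natAbs * m ≤ C * m ^ t := hC m hm2
        rw [h0, pow_zero, mul_one] at h1
        rw [hReval m hm1]
        have h2 : (u m).natAbs = 0 := by
          by_contra hne
          have h3 : 1 ≤ (u m).natAbs := Nat.one_le_iff_ne_zero.2 hne
          have h4 : m ≤ (u m).natAbs * m := Nat.le_mul_of_pos_left _ h3
          omega
        rw [Int.natAbs_eq_zero.1 h2]
        simp
      rw [hR0]
      simp
    · obtain ⟨s, hs⟩ : ∃ s, t = s + 1 := ⟨t - 1, by omega⟩
      have hle : R.natDegree ≤ s := by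
        apply natDegree_le_of_abs_growth R s (C : ℚ) (max M (max m₀ 1))
        intro m hm
        have hm1 : M ≤ m := le_trans (le_max_left _ _) hm
        have hm2 : m₀ ≤ m := le_trans (le_trans (le_max_left _ _) (le_max_right _ _)) hm
        have hm3 : 1 ≤ m := le_trans (le_trans (le_max_right _ _) (le_max_right _ _)) hm
        have h1 : (u m).natAbs * m ≤ C * m ^ t := hC m hm2
        rw [hs, pow_succ, ← mul_assoc] at h1
        have h2 : (u m).natAbs ≤ C * m ^ s := Nat.le_of_mul_le_mul_right h1 (by omega)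
        rw [hReval m hm1, ← Int.cast_abs, ← Nat.cast_natAbs]
        exact_mod_cast h2
      exact coeff_eq_zero_of_natDegree_lt (by omega)
  -- extract the leading coefficients
  have hlc : P.leadingCoeff = ∑ i ∈ Top, (ℓ i : ℚ) * (Qp i).leadingCoeff := by
    rw [hR, coeff_sub, finset_sum_coeff, sub_eq_zero] at hcoeff
    rw [Polynomial.leadingCoeff, ← ht, hcoeff]
    apply Finset.sum_congr rfl
    intro i hi
    rw [coeff_C_mul, Polynomial.leadingCoeff, hdeg i hi]
  rw [hlc, Finset.mul_sum, hTop, Finset.sum_filter]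
  apply Finset.sum_congr rfl
  intro i _
  have hlen : (Module.length (Localization.AtPrime (p i))
      (LocalizedModule (p i).primeCompl (SS ⧸ I))).toNat = ℓ i := by
    rw [hℓ]
    simp only
    rw [lenT_eq]
    rfl
  rw [hlen]
  by_cases hd : ringKrullDim (SS ⧸ p i) = ((t + 1 : ℕ) : WithBot ℕ∞)
  · have hi : i ∈ Top := Finset.mem_filter.2 ⟨Finset.mem_univ _, hd⟩
    rw [if_pos hd, if_pos (hdeg i hi), hdeg i hi]
    ring
  · rw [if_neg hd]
    by_cases hdg : (Qp i).natDegree = t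
    · rw [if_pos hdg]
      by_cases hQ0 : Qp i = 0
      · rw [hQ0]
        simp
      · exfalso
        apply hd
        rw [(hQp i).dim_eq (hph i) hQ0, hdg]
    · rw [if_neg hdg]

end Main

end Groth.Agent.HilbDeg9
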