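import Mathlib
import Groth.Agent.Lib.HilbDeg4_helper9
import Groth.Agent.Lib.DimFT3_helper8

/-!
# Bezout's theorem for a hypersurface section of a projective variety (helper9)
APPEND-ONLY once landed.
-/

set_option autoImplicit false
set_option maxHeartbeats 400000
set_option linter.style.haveILetI false
universe u

namespace Groth.Agent.HilbDeg9

open Polynomial Groth.Agent.HilbSection Groth.Agent.ProjDeg9 Groth.Agent.HilbDim9

attribute [local instance] MvPolynomial.gradedAlgebra

section Dim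

/-- in a finitely generated domain over a field of dimension `n + 1`, the quotient by a minimal
prime over a nonzero principal ideal has dimension `n` -/
theorem dim_quot_minimal_principal (k B : Type u) [Field k] [CommRing B] [IsDomain B] [Algebra k B]
    [Algebra.FiniteType k B] (g : B) (hg : g ≠ 0) (q : Ideal B)
    (hq : q ∈ (Ideal.span {g}).minimalPrimes) (n : ℕ)
    (hdim : ringKrullDim B = ((n + 1 : ℕ) : WithBot ℕ∞)) :
    ringKrullDim (B ⧸ q) = (n : WithBot ℕ∞) := by
  haveI := hq.1.1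
  haveI : IsNoetherianRing B := Algebra.FiniteType.isNoetherianRing k B
  have h1 : q.height ≤ 1 := Ideal.height_le_one_of_isPrincipal_of_mem_minimalPrimes _ q hq
  have h2 : q.height ≠ 0 := by
    rw [Ne, Ideal.height_eq_zero_iff_eq_bot]
    rintro rfl
    have h3 : g ∈ (⊥ : Ideal B) := hq.1.2 (Ideal.mem_span_singleton_self g)
    exact hg (by simpa using h3)
  have h3 : q.height = 1 := le_antisymm h1 (Order.one_le_iff_pos.2 (pos_iff_ne_zero.2 h2))
  obtain ⟨n', -, hn', hdimB, -⟩ := Groth.Agent.DimFTH8.exists_dim_eq k B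
  have hn1 : n' = n + 1 := by
    rw [hdimB] at hdim
    exact_mod_cast hdim
  obtain ⟨r, hr, hsum⟩ := Groth.Agent.DimFT3H8.height_add_trdeg_quotient (n + 1) k B
    (by rw [hn', hn1]) q
  haveI : Algebra.FiniteType k (B ⧸ q) :=
    Algebra.FiniteType.of_surjective (Ideal.Quotient.mkₐ k q) (Ideal.Quotient.mkₐ_surjective k q)
  obtain ⟨r', -, hr', hdimq, -⟩ := Groth.Agent.DimFTH8.exists_dim_eq k (B ⧸ q)
  have hrr : r' = r := by
    have : ((r' : ℕ) : Cardinal) = ((r : ℕ) : Cardinal) := by rw [← hr', hr]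
    exact_mod_cast this
  rw [h3] at hsum
  have h4 : (1 : ℕ∞) + (r : ℕ∞) = ((n + 1 : ℕ) : ℕ∞) := hsum
  have h5 : 1 + r = n + 1 := by exact_mod_cast h4
  rw [hdimq, hrr]
  have h6 : r = n := by omega
  rw [h6]

end Dim

section Bezout

variable (k : Type u) [Field k] (N : ℕ)

local notation "SS" => MvPolynomial (Fin N) k

variable {k N}

theorem IsHilb.of_eval_eq {J : Ideal (MvPolynomial (Fin N) k)} {Q : ℚ[X]}
    (h : ∃ m₀ : ℕ, ∀ m : ℕ, m₀ ≤ m → Q.eval (m : ℚ) = (hf k N J m : ℚ)) : IsHilb k N J Q := by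
  obtain ⟨m₀, h⟩ := h
  refine ⟨m₀, fun m hm => ?_⟩
  rw [h m hm]
  have h1 := hf_add k N J m
  unfold piece at h1
  rw [← h1]
  push_cast
  ring

/-- the Hilbert polynomial of a hypersurface section of a variety -/
theorem isHilb_section (I : Ideal (MvPolynomial (Fin N) k)) [hI : I.IsPrime]
    (hIh : I.IsHomogeneous (MvPolynomial.homogeneousSubmodule (Fin N) k))
    (f : MvPolynomial (Fin N) k) (d : ℕ) (hf : f.IsHomogeneous d) (hfI : f ∉ I)
    (P : ℚ[X]) (hP : IsHilb k N I P) :
    IsHilb k N (I ⊔ Ideal.span {f}) (P - taylor (-(d : ℚ)) P) := by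
  obtain ⟨m₀, h⟩ := hP.eval_eq
  apply IsHilb.of_eval_eq
  refine ⟨m₀ + d, fun m hm => ?_⟩
  have hf0 : f ≠ 0 := fun h => hfI (h ▸ I.zero_mem)
  have hcolon : I.colon ({f} : Set SS) = I := by
    apply le_antisymm
    · intro a ha
      rw [Submodule.mem_colon_singleton, smul_eq_mul] at ha
      exact (hI.mem_or_mem ha).resolve_right hfI
    · intro a ha
      rw [Submodule.mem_colon_singleton, smul_eq_mul]
      exact I.mul_mem_right _ ha
  have hrec := hf_rec k N I hIh f d hf hf0 m (by omega)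
  rw [hcolon] at hrec
  have hcast : (m : ℚ) + -(d : ℚ) = ((m - d : ℕ) : ℚ) := by
    rw [Nat.cast_sub (by omega)]
    ring
  rw [eval_sub, taylor_eval, hcast, h m (by omega), h (m - d) (by omega), hrec]
  push_cast
  ring

variable (k N)

/-- the dimension of a component of a hypersurface section -/
theorem dim_component_section (I : Ideal (MvPolynomial (Fin N) k)) [hI : I.IsPrime]
    (f : MvPolynomial (Fin N) k) (hfI : f ∉ I) (n : ℕ)
    (hdim : ringKrullDim (MvPolynomial (Fin N) k ⧸ I) = ((n + 1 : ℕ) : WithBot ℕ∞))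
    (q : Ideal (MvPolynomial (Fin N) k)) (hq : q ∈ (I ⊔ Ideal.span {f}).minimalPrimes) :
    ringKrullDim (MvPolynomial (Fin N) k ⧸ q) = (n : WithBot ℕ∞) := by
  haveI : IsDomain (SS ⧸ I) := Ideal.Quotient.isDomain I
  haveI : Algebra.FiniteType k (SS ⧸ I) :=
    Algebra.FiniteType.of_surjective (Ideal.Quotient.mkₐ k I) (Ideal.Quotient.mkₐ_surjective k I)
  set g : SS ⧸ I := Ideal.Quotient.mk I f with hg
  have hg0 : g ≠ 0 := fun h => hfI (Ideal.Quotient.eq_zero_iff_mem.1 h)
  have hcomap : (Ideal.span {g}).comap (Ideal.Quotient.mk I) = I ⊔ Ideal.span {f} := by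
    have h1 : Ideal.span {g} = (Ideal.span {f}).map (Ideal.Quotient.mk I) := by
      rw [Ideal.map_span, Set.image_singleton]
    rw [h1, Ideal.comap_map_of_surjective _ Ideal.Quotient.mk_surjective,
      ← RingHom.ker_eq_comap_bot, Ideal.mk_ker, sup_comm]
  have h2 := Ideal.comap_minimalPrimes_eq_of_surjective
    (f := Ideal.Quotient.mk I) Ideal.Quotient.mk_surjective (Ideal.span {g})
  rw [hcomap] at h2
  rw [h2] at hq
  obtain ⟨q', hq', rfl⟩ := hq
  haveI := hq'.1.1
  have hdq := dim_quot_minimal_principal k (SS ⧸ I) g hg0 q' hq' n hdim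
  have hle : I ≤ q'.comap (Ideal.Quotient.mk I) := by
    intro x hx
    rw [Ideal.mem_comap, Ideal.Quotient.eq_zero_iff_mem.mpr hx]
    exact q'.zero_mem
  have hmap : (q'.comap (Ideal.Quotient.mk I)).map (Ideal.Quotient.mk I) = q' :=
    Ideal.map_comap_of_surjective _ Ideal.Quotient.mk_surjective _
  have e : ((SS ⧸ I) ⧸ q') ≃+* (SS ⧸ q'.comap (Ideal.Quotient.mk I)) :=
    (Ideal.quotEquivOfEq hmap.symm).trans (DoubleQuot.quotQuotEquivQuotOfLE hle)
  rw [← ringKrullDim_eq_of_ringEquiv e, hdq]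

/-- **S10905**: Bezout's theorem for a hypersurface section -/
theorem bezout (I : Ideal (MvPolynomial (Fin N) k)) [hI : I.IsPrime]
    (hIh : I.IsHomogeneous (MvPolynomial.homogeneousSubmodule (Fin N) k))
    (f : MvPolynomial (Fin N) k) (d : ℕ) (hd : 0 < d) (hf : f.IsHomogeneous d) (hfI : f ∉ I)
    (P : ℚ[X]) (hP : IsHilb k N I P) (hdim : 1 ≤ P.natDegree)
    (r : ℕ) (p : Fin r → Ideal (MvPolynomial (Fin N) k)) [hp : ∀ i, (p i).IsPrime]
    (hpinj : Function.Injective p)
    (hpmin : ∀ q : Ideal (MvPolynomial (Fin N) k),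
      q ∈ (I ⊔ Ideal.span {f}).minimalPrimes ↔ ∃ i, q = p i)
    (Qp : Fin r → ℚ[X]) (hQp : ∀ i, IsHilb k N (p i) (Qp i)) :
    (d : ℚ) * ((P.natDegree.factorial : ℚ) * P.leadingCoeff) =
      ∑ i : Fin r, ((Qp i).natDegree.factorial : ℚ) * (Qp i).leadingCoeff *
        (Module.length (Localization.AtPrime (p i))
          (LocalizedModule (p i).primeCompl
            (MvPolynomial (Fin N) k ⧸ (I ⊔ Ideal.span {f})))).toNat := by
  have hP0 : P ≠ 0 := by
    rintro rfl
    simp at hdim
  set t := P.natDegree with ht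
  obtain ⟨s, hs⟩ : ∃ s, t = s + 1 := ⟨t - 1, by omega⟩
  have hdI : ringKrullDim (SS ⧸ I) = ((t + 1 : ℕ) : WithBot ℕ∞) := hP.dim_eq hIh hP0
  set I' := I ⊔ Ideal.span {f} with hI'
  have hI'h : I'.IsHomogeneous (MvPolynomial.homogeneousSubmodule (Fin N) k) := by
    apply hIh.sup
    apply Ideal.homogeneous_span
    intro x hx
    rw [Set.mem_singleton_iff] at hx
    subst hx
    exact ⟨d, (MvPolynomial.mem_homogeneousSubmodule _ _).2 hf⟩
  set Q' := P - taylor (-(d : ℚ)) P with hQ'
  have hQ'H : IsHilb k N I' Q' := isHilb_section I hIh f d hf hfI P hP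
  obtain ⟨hdegQ', hlcQ'⟩ := diff_poly P d hd hdim
  rw [← hQ', ← ht] at hdegQ' hlcQ'
  have hdegQ's : Q'.natDegree = s := by omega
  have hmain := degree_formula k N I' hI'h Q' hQ'H r p hpinj hpmin Qp hQp
  -- all the components have the top dimension
  have hdegi : ∀ i, (Qp i).natDegree = s := by
    intro i
    have hmin : p i ∈ I'.minimalPrimes := (hpmin (p i)).2 ⟨i, rfl⟩
    have hph : (p i).IsHomogeneous (MvPolynomial.homogeneousSubmodule (Fin N) k) :=
      Groth.Agent.Link9.isHomogeneous_of_mem_minimalPrimes I' hI'h (p i) hmin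
    have hdi : ringKrullDim (SS ⧸ p i) = ((s + 1 : ℕ) : WithBot ℕ∞) := by
      rw [dim_component_section k N I f hfI t hdI (p i) hmin, hs]
    have hne := (hQp i).ne_zero s hdi
    have h1 := (hQp i).dim_eq hph hne
    rw [hdi] at h1
    have h2 : s + 1 = (Qp i).natDegree + 1 := by exact_mod_cast h1
    omega
  have hsum : ∀ i : Fin r, (if (Qp i).natDegree = Q'.natDegree then
        ((Qp i).natDegree.factorial : ℚ) * (Qp i).leadingCoeff *
          (Module.length (Localization.AtPrime (p i))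
            (LocalizedModule (p i).primeCompl (SS ⧸ I'))).toNat
      else 0) = ((Qp i).natDegree.factorial : ℚ) * (Qp i).leadingCoeff *
          (Module.length (Localization.AtPrime (p i))
            (LocalizedModule (p i).primeCompl (SS ⧸ I'))).toNat := by
    intro i
    rw [if_pos (by rw [hdegi i, hdegQ's])]
  rw [Finset.sum_congr rfl (fun i _ => hsum i)] at hmain
  rw [← hmain, hdegQ's, hlcQ', hs, Nat.factorial_succ]
  push_cast
  ring

end Bezout

end Groth.Agent.HilbDeg9
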