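import Mathlib
import Groth.Prelude.Def_HilbD
import Groth.Agent.Lib.ClosedDescent_helper7
import Groth.Agent.Lib.TorsorFF_helper7

/-!
# fpqc sheaf property of the Hilbert functor of points for a single cover (helper7)
-/

set_option autoImplicit false
set_option backward.isDefEq.respectTransparency false
universe u
open CategoryTheory CategoryTheory.Limits AlgebraicGeometry

namespace Groth.Agent.Lib.HilbDescent_helper7

open Groth.Agent.Lib.ClosedDescent_helper7 Groth.Agent.Lib.TorsorProp_helper7
  Groth.Agent.Lib.TorsorFF_helper7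

variable {X S : Scheme.{u}} (f : X ⟶ S)

theorem pull_eq_comap {T T' : Over S} (k : T' ⟶ T) (I : (PicF.XT f T).IdealSheafData) :
    HilbD.pull f k I = I.comap (PicF.XTmap f k) := by
  unfold HilbD.pull
  rw [ker_snd_of_isClosedImmersion, Scheme.IdealSheafData.ker_subschemeι]

theorem XTmap_fst {T T' : Over S} (k : T' ⟶ T) :
    PicF.XTmap f k ≫ pullback.fst f T.hom = pullback.fst f T'.hom := by
  simp [PicF.XTmap]

theorem XTmap_snd {T T' : Over S} (k : T' ⟶ T) :
    PicF.XTmap f k ≫ pullback.snd f T.hom = pullback.snd f T'.hom ≫ k.left := by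
  simp [PicF.XTmap]

theorem isPullback_XTmap {T T' : Over S} (k : T' ⟶ T) :
    IsPullback (PicF.XTmap f k) (pullback.snd f T'.hom) (pullback.snd f T.hom) k.left := by
  have s : IsPullback (PicF.XTmap f k ≫ pullback.fst f T.hom) (pullback.snd f T'.hom) f
      (k.left ≫ T.hom) := by
    rw [XTmap_fst, Over.w k]
    exact IsPullback.of_hasPullback f T'.hom
  exact IsPullback.of_right s (XTmap_snd f k) (IsPullback.of_hasPullback f T.hom)

variable (d : ℕ) (T : Over S) {T' : Scheme.{u}} (g : T' ⟶ T.left)

theorem main [QuasiCompact g] [Flat g] [Surjective g] (Z' : HilbD.Obj f d (HilbD.coverOver T g))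
    (hZ' : HilbD.pull f (HilbD.overlapFst T g) Z'.1 = HilbD.pull f (HilbD.overlapSnd T g) Z'.1) :
    ∃! I : (PicF.XT f T).IdealSheafData,
      Mor2.IsFinLocFreeOfDeg d (I.subschemeι ≫ PicF.XTproj f T) ∧
      HilbD.pull f (HilbD.coverHom T g) I = Z'.1 := by
  obtain ⟨G, hGdef⟩ : ∃ G : PicF.XT f (HilbD.coverOver T g) ⟶ PicF.XT f T,
      G = PicF.XTmap f (HilbD.coverHom T g) := ⟨_, rfl⟩
  have sqG : IsPullback G (pullback.snd f (HilbD.coverOver T g).hom) (pullback.snd f T.hom) g := by
    rw [hGdef]; exact isPullback_XTmap f (HilbD.coverHom T g)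
  have hgQ : (@Surjective ⊓ @Flat ⊓ @QuasiCompact : MorphismProperty Scheme.{u}) g :=
    ⟨⟨inferInstance, inferInstance⟩, inferInstance⟩
  haveI : Flat G := MorphismProperty.of_isPullback (P := @Flat) sqG.flip inferInstance
  haveI : Surjective G := MorphismProperty.of_isPullback (P := @Surjective) sqG.flip inferInstance
  haveI : QuasiCompact G :=
    MorphismProperty.of_isPullback (P := @QuasiCompact) sqG.flip inferInstance
  have p : G ≫ pullback.snd f T.hom = pullback.snd f (HilbD.coverOver T g).hom ≫ g := by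
    rw [hGdef]; exact XTmap_snd f (HilbD.coverHom T g)
  have hG1 : G ≫ pullback.fst f T.hom = pullback.fst f (HilbD.coverOver T g).hom := by
    rw [hGdef]; exact XTmap_fst f (HilbD.coverHom T g)
  have c1 : (pullback.fst G G ≫ pullback.snd f (HilbD.coverOver T g).hom) ≫ g =
      (pullback.snd G G ≫ pullback.snd f (HilbD.coverOver T g).hom) ≫ g := by
    rw [Category.assoc, Category.assoc, ← p]; exact pullback.condition_assoc _
  have hc : pullback.fst f (HilbD.coverOver T g).hom ≫ f =
      pullback.snd f (HilbD.coverOver T g).hom ≫ g ≫ T.hom := pullback.condition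
  have c2 : (pullback.fst G G ≫ pullback.fst f (HilbD.coverOver T g).hom) ≫ f =
      pullback.lift (pullback.fst G G ≫ pullback.snd f (HilbD.coverOver T g).hom)
        (pullback.snd G G ≫ pullback.snd f (HilbD.coverOver T g).hom) c1 ≫
        (HilbD.overlapOver T g).hom := by
    rw [Category.assoc, hc]; simp [HilbD.overlapOver]
  obtain ⟨e, he1, he2, he3⟩ : ∃ e : pullback G G ⟶ PicF.XT f (HilbD.overlapOver T g),
      e ≫ pullback.fst f (HilbD.overlapOver T g).hom =
        pullback.fst G G ≫ pullback.fst f (HilbD.coverOver T g).hom ∧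
      e ≫ pullback.snd f (HilbD.overlapOver T g).hom ≫ pullback.fst g g =
        pullback.fst G G ≫ pullback.snd f (HilbD.coverOver T g).hom ∧
      e ≫ pullback.snd f (HilbD.overlapOver T g).hom ≫ pullback.snd g g =
        pullback.snd G G ≫ pullback.snd f (HilbD.coverOver T g).hom :=
    ⟨pullback.lift _ _ c2, by simp, by simp, by simp⟩
  have eq1 : e ≫ PicF.XTmap f (HilbD.overlapFst T g) = pullback.fst G G := by
    apply pullback.hom_ext
    · rw [Category.assoc, XTmap_fst, he1]
    · rw [Category.assoc, XTmap_snd]; exact he2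
  have eq2 : e ≫ PicF.XTmap f (HilbD.overlapSnd T g) = pullback.snd G G := by
    apply pullback.hom_ext
    · rw [Category.assoc, XTmap_fst, he1, ← hG1]; exact pullback.condition_assoc _
    · rw [Category.assoc, XTmap_snd]; exact he3
  have hK : Z'.1.comap (pullback.fst G G) = Z'.1.comap (pullback.snd G G) := by
    rw [← eq1, ← eq2, Scheme.IdealSheafData.comap_comp, Scheme.IdealSheafData.comap_comp,
      ← pull_eq_comap, ← pull_eq_comap, hZ']
  obtain ⟨J, hJdef⟩ : ∃ J : (PicF.XT f T).IdealSheafData, J = Z'.1.map G := ⟨_, rfl⟩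
  have hJ : J.comap G = Z'.1 := by rw [hJdef]; exact comap_map_of_stable G Z'.1 hK
  have hpull : ∀ I : (PicF.XT f T).IdealSheafData,
      HilbD.pull f (HilbD.coverHom T g) I = I.comap G := by
    intro I; rw [hGdef]; exact pull_eq_comap f _ I
  refine ⟨J, ⟨?_, (hpull J).trans hJ⟩, ?_⟩
  · have H' : Mor2.IsFinLocFreeOfDeg d
        ((J.comap G).subschemeι ≫ PicF.XTproj f (HilbD.coverOver T g)) := by
      rw [hJ]; exact Z'.2
    have big : IsPullback (pullback.snd G J.subschemeι)
        (pullback.fst G J.subschemeι ≫ PicF.XTproj f (HilbD.coverOver T g))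
        (J.subschemeι ≫ PicF.XTproj f T) g :=
      (IsPullback.of_hasPullback G J.subschemeι).flip.paste_vert sqG
    have hb : pullback.fst G J.subschemeι ≫ PicF.XTproj f (HilbD.coverOver T g) =
        (J.comapIso G).inv ≫ ((J.comap G).subschemeι ≫ PicF.XTproj f (HilbD.coverOver T g)) := by
      rw [← Category.assoc, Scheme.IdealSheafData.comapIso_inv_subschemeι]
    obtain ⟨⟨h1, h2, h3⟩, h4⟩ := H'
    have b1 : IsFinite (pullback.fst G J.subschemeι ≫ PicF.XTproj f (HilbD.coverOver T g)) := by
      rw [hb]; exact (MorphismProperty.cancel_left_of_respectsIso @IsFinite _ _).2 h1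
    have b2 : Flat (pullback.fst G J.subschemeι ≫ PicF.XTproj f (HilbD.coverOver T g)) := by
      rw [hb]; exact (MorphismProperty.cancel_left_of_respectsIso @Flat _ _).2 h2
    have b3 : LocallyOfFinitePresentation
        (pullback.fst G J.subschemeι ≫ PicF.XTproj f (HilbD.coverOver T g)) := by
      rw [hb]; exact (MorphismProperty.cancel_left_of_respectsIso @LocallyOfFinitePresentation _ _).2 h3
    haveI := isFinite_descends.{u}
    haveI := flat_descends.{u}
    have q1 : IsFinite (J.subschemeι ≫ PicF.XTproj f T) :=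
      MorphismProperty.of_isPullback_of_descendsAlong (P := @IsFinite)
        (Q := @Surjective ⊓ @Flat ⊓ @QuasiCompact) big.flip hgQ b1
    have q2 : Flat (J.subschemeι ≫ PicF.XTproj f T) :=
      MorphismProperty.of_isPullback_of_descendsAlong (P := @Flat)
        (Q := @Surjective ⊓ @Flat ⊓ @QuasiCompact) big.flip hgQ b2
    have q3 : LocallyOfFinitePresentation (J.subschemeι ≫ PicF.XTproj f T) :=
      MorphismProperty.of_isPullback_of_descendsAlong (P := @LocallyOfFinitePresentation)
        (Q := @Surjective ⊓ @Flat ⊓ @QuasiCompact) big.flip hgQ b3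
    refine ⟨⟨q1, q2, q3⟩, fun y => ?_⟩
    obtain ⟨t', rfl⟩ := g.surjective y
    haveI := q1
    haveI := q2
    haveI := h1
    haveI := h2
    have r1 := Scheme.Hom.finrank_of_isPullback _ _ _ _ big t'
    have r2 : Scheme.Hom.finrank
        (pullback.fst G J.subschemeι ≫ PicF.XTproj f (HilbD.coverOver T g)) =
        Scheme.Hom.finrank ((J.comap G).subschemeι ≫ PicF.XTproj f (HilbD.coverOver T g)) := by
      rw [hb]; exact Scheme.Hom.finrank_comp_left_of_isIso _ _
    exact r1.symm.trans ((congrFun r2 t').trans (h4 t'))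
  · rintro I ⟨-, hI⟩
    rw [hpull] at hI
    exact comap_injective G (hI.trans hJ.symm)

end Groth.Agent.Lib.HilbDescent_helper7
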