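import Mathlib
import Groth.Prelude

set_option autoImplicit false
set_option linter.style.haveILetI false
set_option linter.unusedVariables false

universe u

open CategoryTheory CategoryTheory.Limits AlgebraicGeometry

namespace Groth.Agent.Lib.HilbImmMonoH4

variable {W X S : Scheme.{u}} (f : X ⟶ S) (ι : W ⟶ X) (T : Over S)

noncomputable abbrev m : pullback (ι ≫ f) T.hom ⟶ pullback f T.hom :=
  pullback.map (ι ≫ f) T.hom f T.hom ι (𝟙 T.left) (𝟙 S)
    (Category.comp_id _) ((Category.comp_id _).trans (Category.id_comp _).symm)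

theorem m_snd : m f ι T ≫ pullback.snd f T.hom = pullback.snd (ι ≫ f) T.hom := by
  rw [m, pullback.lift_snd, Category.comp_id]

theorem isImmersion_m [IsImmersion ι] : IsImmersion (m f ι T) :=
  MorphismProperty.pullbackMap (P := @IsImmersion) (inferInstance : IsImmersion ι)
    (inferInstance : IsImmersion (𝟙 T.left)) rfl (Category.id_comp _).symm

theorem closedImm [IsSeparated f] [IsImmersion ι] (V : FGA.HilbSet (ι ≫ f) T) :
    IsClosedImmersion (V.1.subschemeι ≫ m f ι T) := by
  haveI := isImmersion_m f ι T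
  haveI : IsProper ((V.1.subschemeι ≫ m f ι T) ≫ pullback.snd f T.hom) := by
    rw [Category.assoc, m_snd]
    exact V.2.1
  haveI : IsProper (V.1.subschemeι ≫ m f ι T) :=
    IsProper.of_comp (V.1.subschemeι ≫ m f ι T) (pullback.snd f T.hom)
  haveI : IsImmersion (V.1.subschemeι ≫ m f ι T) := inferInstance
  exact IsClosedImmersion.of_isPreimmersion _
    (V.1.subschemeι ≫ m f ι T).isClosedMap.isClosed_range

theorem key [IsSeparated f] [IsImmersion ι] (V V' : FGA.HilbSet (ι ≫ f) T)
    (h : (V.1.subschemeι ≫ m f ι T).ker = (V'.1.subschemeι ≫ m f ι T).ker) : V'.1 ≤ V.1 := by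
  haveI := isImmersion_m f ι T
  haveI := closedImm f ι T V'
  have hφ : IsClosedImmersion.lift (V'.1.subschemeι ≫ m f ι T) (V.1.subschemeι ≫ m f ι T)
      (le_of_eq h.symm) ≫ V'.1.subschemeι ≫ m f ι T = V.1.subschemeι ≫ m f ι T :=
    IsClosedImmersion.lift_fac _ _ _
  have hφ' : IsClosedImmersion.lift (V'.1.subschemeι ≫ m f ι T) (V.1.subschemeι ≫ m f ι T)
      (le_of_eq h.symm) ≫ V'.1.subschemeι = V.1.subschemeι := by
    rw [← cancel_mono (m f ι T), Category.assoc]
    exact hφ
  calc V'.1 = V'.1.subschemeι.ker := V'.1.ker_subschemeι.symm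
    _ ≤ (IsClosedImmersion.lift (V'.1.subschemeι ≫ m f ι T) (V.1.subschemeι ≫ m f ι T)
          (le_of_eq h.symm) ≫ V'.1.subschemeι).ker := Scheme.Hom.le_ker_comp _ _
    _ = V.1.subschemeι.ker := by rw [hφ']
    _ = V.1 := V.1.ker_subschemeι

theorem main [IsSeparated f] [IsImmersion ι] :
    (∀ V : FGA.HilbSet (ι ≫ f) T,
      IsClosedImmersion (V.1.subschemeι ≫ m f ι T)) ∧
    Function.Injective (fun V : FGA.HilbSet (ι ≫ f) T =>
      (V.1.subschemeι ≫ m f ι T).ker) := by
  refine ⟨closedImm f ι T, fun V V' h => ?_⟩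
  have h' : (V.1.subschemeι ≫ m f ι T).ker = (V'.1.subschemeι ≫ m f ι T).ker := h
  exact Subtype.ext (le_antisymm (key f ι T V' V h'.symm) (key f ι T V V' h'))

end Groth.Agent.Lib.HilbImmMonoH4
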