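import Mathlib
import Groth.Agent.Lib.EWFin_helper6
import Groth.Agent.Lib.Depth_helper5

/-!
# Lengths of `Hom` and `Ext` modules: generalities (helper5)

* `length_four`: additivity of length along a four term exact sequence;
* `extT X n`: the functor `Ext^n(X, -)` on modules, additive, linear, right exact when
  `Ext^{n+1}(X, -) = 0`; `ext_tensor_equiv`: then `Ext^n(X, R) ⊗ M ≃ Ext^n(X, M)` for finite `M`
  (Eilenberg–Watts);
* `length_contra`, `ext_shift`: the start of the contravariant long exact sequence;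
* `length_hom_free`.
-/

set_option autoImplicit false
set_option linter.style.haveILetI false
universe u
open CategoryTheory CategoryTheory.Limits Abelian
open Groth.Agent.DepthLib

namespace Groth.Agent.Lib.HilbLen

section four

variable {R : Type*} [Ring R] {A B C D : Type*} [AddCommGroup A] [Module R A] [AddCommGroup B]
  [Module R B] [AddCommGroup C] [Module R C] [AddCommGroup D] [Module R D]

/-- additivity of length along a four term exact sequence -/
theorem length_four (f : A →ₗ[R] B) (g : B →ₗ[R] C) (h : C →ₗ[R] D) (hf : Function.Injective f)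
    (hfg : Function.Exact f g) (hgh : Function.Exact g h) (hh : Function.Surjective h) :
    Module.length R A + Module.length R C = Module.length R B + Module.length R D := by
  have h1 := Module.length_eq_add_of_exact f g.rangeRestrict hf g.surjective_rangeRestrict
    (fun y => by
      rw [← hfg y]
      constructor
      · intro hy
        exact congrArg Subtype.val hy
      · intro hy
        exact Subtype.ext hy)
  have h2 := Module.length_eq_add_of_exact (LinearMap.range g).subtype h
    (Submodule.injective_subtype _) hh (fun y => by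
      rw [hgh y]
      constructor
      · rintro ⟨x, rfl⟩
        exact ⟨⟨g x, x, rfl⟩, rfl⟩
      · rintro ⟨⟨_, x, rfl⟩, rfl⟩
        exact ⟨x, rfl⟩)
  rw [h1, h2]
  abel

end four

section ext

variable {R : Type u} [CommRing R]

/-- the functor `Ext^n(X, -)` on modules -/
noncomputable def extT (X : ModuleCat.{u} R) (n : ℕ) : ModuleCat.{u} R ⥤ ModuleCat.{u} R where
  obj Y := ModuleCat.of R (Ext X Y n)
  map f := ModuleCat.ofHom (Ext.postcompOfLinear (Ext.mk₀ f) R X (add_zero n))
  map_id Y := by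
    ext x
    simp
  map_comp f g := by
    ext x
    simp


lemma extT_map_apply (X : ModuleCat.{u} R) (n : ℕ) {Y Y' : ModuleCat.{u} R} (f : Y ⟶ Y')
    (x : Ext X Y n) : ((extT X n).map f).hom x = x.comp (Ext.mk₀ f) (add_zero n) := rfl

instance (X : ModuleCat.{u} R) (n : ℕ) : (extT X n).Additive where
  map_add {Y Y' f g} := by
    ext x
    rw [ModuleCat.hom_add, LinearMap.add_apply, extT_map_apply, extT_map_apply, extT_map_apply,
      Ext.mk₀_add, Ext.comp_add]
    rfl

instance (X : ModuleCat.{u} R) (n : ℕ) : (extT X n).Linear R where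
  map_smul {Y Y'} f r := by
    ext x
    rw [ModuleCat.hom_smul, LinearMap.smul_apply, extT_map_apply, extT_map_apply,
      Ext.mk₀_smul, Ext.comp_smul]
    rfl

/-- short exact sequence `0 → ker g → Y → Y' → 0` attached to a surjection. -/
lemma exists_ker_ses {Y Y' : ModuleCat.{u} R} (g : Y ⟶ Y') (hg : Function.Surjective g.hom) :
    ∃ (K : ModuleCat.{u} R) (ι : K ⟶ Y) (w : ι ≫ g = 0), (ShortComplex.mk ι g w).ShortExact ∧
      ∀ (Y₁ : ModuleCat.{u} R) (f : Y₁ ⟶ Y), f ≫ g = 0 → ∃ f' : Y₁ ⟶ K, f' ≫ ι = f ∧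
        (Function.Exact f.hom g.hom → Function.Surjective f'.hom) := by
  have hex : Function.Exact (LinearMap.ker g.hom).subtype g.hom :=
    LinearMap.exact_subtype_ker_map _
  refine ⟨ModuleCat.of R (LinearMap.ker g.hom), ModuleCat.ofHom (LinearMap.ker g.hom).subtype,
    ?_, ?_, ?_⟩
  · ext x
    exact x.2
  · exact shortComplexOf_shortExact (LinearMap.ker g.hom).subtype g.hom
      (Submodule.injective_subtype _) hg hex
  · intro Y₁ f hf
    have hf0 : ∀ x, g.hom (f.hom x) = 0 := fun x => by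
      have := congrArg (fun φ => φ.hom x) hf
      exact this
    refine ⟨ModuleCat.ofHom (f.hom.codRestrict _ hf0), rfl, ?_⟩
    intro hfg
    rintro ⟨y, hy⟩
    obtain ⟨x, rfl⟩ := (hfg y).mp hy
    exact ⟨x, rfl⟩

lemma comp_mk₀_surjective (X : ModuleCat.{u} R) (n : ℕ)
    (hX : ∀ Y : ModuleCat.{u} R, Subsingleton (Ext X Y (n + 1))) {Y Y' : ModuleCat.{u} R}
    (g : Y ⟶ Y') (hg : Function.Surjective g.hom) (x₃ : Ext X Y' n) :
    ∃ x₂ : Ext X Y n, x₂.comp (Ext.mk₀ g) (add_zero n) = x₃ := by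
  obtain ⟨K, ι, w, hS, -⟩ := exists_ker_ses g hg
  exact Ext.covariant_sequence_exact₃ X hS x₃ rfl (@Subsingleton.elim _ (hX _) _ _)

open Groth.Agent.Lib.EWFin_helper6 in
/-- `Ext^n(X, -)` is right exact when `Ext^{n+1}(X, -)` vanishes. -/
theorem extT_rightExact (X : ModuleCat.{u} R) (n : ℕ)
    (hX : ∀ Y : ModuleCat.{u} R, Subsingleton (Ext X Y (n + 1))) : RightExact (extT X n) := by
  rintro S ⟨hSex, hSepi⟩
  have hg : Function.Surjective S.g.hom := (ModuleCat.epi_iff_surjective _).mp hSepi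
  have hfg : Function.Exact S.f.hom S.g.hom :=
    (ShortComplex.ShortExact.moduleCat_exact_iff_function_exact S).mp hSex
  obtain ⟨K, ι, w, hS', hK⟩ := exists_ker_ses S.g hg
  obtain ⟨f', hf'ι, hf'⟩ := hK S.X₁ S.f S.zero
  constructor
  · rw [ShortComplex.ShortExact.moduleCat_exact_iff_function_exact]
    intro x₂
    constructor
    · intro hx₂
      obtain ⟨x₁, hx₁⟩ := Ext.covariant_sequence_exact₂ X hS' x₂ hx₂
      obtain ⟨x₀, hx₀⟩ := comp_mk₀_surjective X n hX f' (hf' hfg) x₁
      refine ⟨x₀, ?_⟩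
      change x₀.comp (Ext.mk₀ S.f) (add_zero n) = x₂
      rw [← hx₁, ← hx₀, Ext.comp_assoc_of_third_deg_zero, Ext.mk₀_comp_mk₀, hf'ι]
    · rintro ⟨x₁, rfl⟩
      change (x₁.comp (Ext.mk₀ S.f) (add_zero n)).comp (Ext.mk₀ S.g) (add_zero n) = 0
      rw [Ext.comp_assoc_of_third_deg_zero, Ext.mk₀_comp_mk₀, S.zero, Ext.mk₀_zero, Ext.comp_zero]
  · rw [ModuleCat.epi_iff_surjective]
    intro x₃
    exact comp_mk₀_surjective X n hX S.g hg x₃


section les

variable {S : ShortComplex (ModuleCat.{u} R)} (hS : S.ShortExact) (Y : ModuleCat.{u} R)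

/-- `Ext⁰ ≃ Hom` -/
noncomputable def ext0Equiv (X Y : ModuleCat.{u} R) : Ext X Y 0 ≃ₗ[R] (X →ₗ[R] Y) :=
  Ext.linearEquiv₀.trans (ModuleCat.homLinearEquiv (S := R))

lemma length_ext0 (X Y : ModuleCat.{u} R) :
    Module.length R (Ext X Y 0) = Module.length R (X →ₗ[R] Y) :=
  (ext0Equiv X Y).length_eq

include hS in
/-- the beginning of the contravariant long exact sequence, in terms of lengths -/
theorem length_contra (h : Subsingleton (Ext S.X₂ Y 1)) :
    Module.length R (S.X₃ →ₗ[R] Y) + Module.length R (S.X₁ →ₗ[R] Y) =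
      Module.length R (S.X₂ →ₗ[R] Y) + Module.length R (Ext S.X₃ Y 1) := by
  rw [← length_ext0, ← length_ext0, ← length_ext0]
  haveI : Epi S.g := hS.epi_g
  refine length_four (Ext.precompOfLinear (Ext.mk₀ S.g) R Y (zero_add 0))
    (Ext.precompOfLinear (Ext.mk₀ S.f) R Y (zero_add 0))
    (Ext.precompOfLinear hS.extClass R Y (add_zero 1)) ?_ ?_ ?_ ?_
  · exact Ext.precomp_mk₀_injective_of_epi Y S.g
  · intro x₂
    constructor
    · intro hx₂
      exact Ext.contravariant_sequence_exact₂ hS Y x₂ hx₂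
    · rintro ⟨x₃, rfl⟩
      change (Ext.mk₀ S.f).comp ((Ext.mk₀ S.g).comp x₃ (zero_add 0)) (zero_add 0) = 0
      rw [← Ext.comp_assoc_of_second_deg_zero, Ext.mk₀_comp_mk₀, S.zero, Ext.mk₀_zero,
        Ext.zero_comp]
  · intro x₁
    constructor
    · intro hx₁
      exact Ext.contravariant_sequence_exact₁ hS Y x₁ (add_zero 1) hx₁
    · rintro ⟨x₂, rfl⟩
      change hS.extClass.comp ((Ext.mk₀ S.f).comp x₂ (zero_add 0)) (add_zero 1) = 0
      exact hS.extClass_comp_assoc x₂
  · intro x₃
    exact Ext.contravariant_sequence_exact₃ hS Y x₃ (@Subsingleton.elim _ h _ _) (add_zero 1)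

include hS in
/-- `Ext¹(X₃, Y)` is a quotient of `Hom(X₁, Y)` when `Ext¹(X₂, Y) = 0`. -/
theorem length_ext_le (h : Subsingleton (Ext S.X₂ Y 1)) :
    Module.length R (Ext S.X₃ Y 1) ≤ Module.length R (S.X₁ →ₗ[R] Y) := by
  rw [← length_ext0]
  exact Module.length_le_of_surjective (Ext.precompOfLinear hS.extClass R Y (add_zero 1))
    (fun x₃ => Ext.contravariant_sequence_exact₃ hS Y x₃ (@Subsingleton.elim _ h _ _) (add_zero 1))

include hS in
/-- dimension shifting in the first variable -/
theorem ext_shift (n : ℕ) (h1 : Subsingleton (Ext S.X₂ Y n))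
    (h2 : Subsingleton (Ext S.X₂ Y (n + 1))) :
    Nonempty (Ext S.X₁ Y n ≃ₗ[R] Ext S.X₃ Y (n + 1)) := by
  refine ⟨LinearEquiv.ofBijective (Ext.precompOfLinear hS.extClass R Y (add_comm 1 n)) ⟨?_, ?_⟩⟩
  · rw [← LinearMap.ker_eq_bot, LinearMap.ker_eq_bot']
    intro x hx
    obtain ⟨x₂, hx₂⟩ := Ext.contravariant_sequence_exact₁ hS Y x (add_comm 1 n) hx
    rw [← hx₂, @Subsingleton.elim _ h1 x₂ 0, Ext.comp_zero]
  · intro x₃
    exact Ext.contravariant_sequence_exact₃ hS Y x₃ (@Subsingleton.elim _ h2 _ _) (add_comm 1 n)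

end les


section ew

open Groth.Agent.Lib.EWFin_helper6 Groth.Agent.Lib.EWH7 in
/-- `Ext^n(X, R) ⊗ M ≃ Ext^n(X, M)` for finite `M` when `Ext^{n+1}(X, -) = 0`. -/
theorem ext_tensor_equiv [IsNoetherianRing R] (X : ModuleCat.{u} R) (n : ℕ)
    (hX : ∀ Y : ModuleCat.{u} R, Subsingleton (Ext X Y (n + 1))) (M : Type u) [AddCommGroup M]
    [Module R M] [Module.Finite R M] :
    Nonempty (TensorProduct R (Ext X (ModuleCat.of R R) n) M ≃ₗ[R] Ext X (ModuleCat.of R M) n) :=
  ⟨LinearEquiv.ofBijective (tM (extT X n) (ModuleCat.of R M))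
    (tM_bij_of_finite (extT X n) (extT_rightExact X n hX) M)⟩

end ew

section free

/-- the length of `Hom(Z, N)` for a finite free module `Z` -/
theorem length_hom_free (Z N : Type u) [AddCommGroup Z] [Module R Z] [AddCommGroup N] [Module R N]
    [Module.Free R Z] [Module.Finite R Z] :
    Module.length R (Z →ₗ[R] N) = (Module.finrank R Z : ℕ∞) * Module.length R N := by
  nontriviality R
  have e := (Module.Free.chooseBasis R Z).constr (M' := N) R
  rw [← e.length_eq, Module.length_pi, Module.finrank_eq_card_chooseBasisIndex,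
    ENat.card_eq_coe_fintype_card]

end free

end ext

end Groth.Agent.Lib.HilbLen
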