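import Mathlib
import Groth.Agent.Lib.HilbLen1_helper5
import Groth.Agent.Lib.GlDim_helper5
import Groth.Agent.Lib.Regular_helper5

/-!
# `Hom(I, N)` for an ideal of a two-dimensional regular local ring (helper5)

* `length_hom_ideal`: `ℓ Hom(I, N) = ℓ N + ℓ Ext²(R/I, N)` for `I ≠ 0` and `N` of finite length
  (free resolution `0 → R^{b-1} → R^b → I → 0`), and `Ext²(R/I, N)` has finite length;
* `length_colon`: `ℓ Hom(R/J, R/I) + ℓ R/(I : J) = ℓ R/I`.
-/

set_option autoImplicit false
set_option linter.style.haveILetI false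
universe u
open CategoryTheory CategoryTheory.Limits Abelian IsLocalRing
open Groth.Agent.DepthLib

namespace Groth.Agent.Lib.HilbLen

section ideal

variable (R : Type u) [CommRing R] [IsRegularLocalRing R] (hdim : ringKrullDim R = 2)

lemma rank_ideal [IsDomain R] (I : Ideal R) (hI : I ≠ ⊥) : Module.rank R I = 1 := by
  apply le_antisymm
  · have := Submodule.rank_le I
    rwa [Module.rank_self] at this
  · rw [Cardinal.one_le_iff_pos, rank_pos_iff_exists_ne_zero]
    obtain ⟨x, hx, hx0⟩ := Submodule.exists_mem_ne_zero_of_ne_bot hI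
    exact ⟨⟨x, hx⟩, fun h => hx0 (congrArg Subtype.val h)⟩

lemma ext_free_subsingleton (F : Type u) [AddCommGroup F] [Module R F] [Module.Projective R F]
    (Y : ModuleCat.{u} R) (i : ℕ) : Subsingleton (Ext (ModuleCat.of R F) Y (i + 1)) := by
  haveI : Projective (ModuleCat.of R F) := (IsProjective.iff_projective _).mp inferInstance
  exact HasProjectiveDimensionLT.subsingleton (ModuleCat.of R F) 1 (i + 1) (by omega) Y

include hdim in
/-- `ℓ Hom(I, N) = ℓ N + ℓ Ext²(R/I, N)` for a nonzero ideal of a two-dimensional regular local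
ring and a module `N` of finite length. -/
theorem length_hom_ideal (I : Ideal R) (hI : I ≠ ⊥) (N : Type u) [AddCommGroup N] [Module R N]
    (hN : Module.length R N < ⊤) :
    Module.length R (I →ₗ[R] N) =
      Module.length R N + Module.length R (Ext (ModuleCat.of R (R ⧸ I)) (ModuleCat.of R N) 2) ∧
    Module.length R (Ext (ModuleCat.of R (R ⧸ I)) (ModuleCat.of R N) 2) < ⊤ := by
  haveI : IsDomain R := Groth.Agent.RegularLib.isDomain R
  obtain ⟨b, π, hπ⟩ := Module.Finite.exists_fin' R I
  -- the two short exact sequences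
  have hS₁ := shortComplexOf_shortExact (LinearMap.ker π).subtype π
    (Submodule.injective_subtype _) hπ (LinearMap.exact_subtype_ker_map π)
  have hS₂ := shortComplexOf_shortExact I.subtype I.mkQ
    (Submodule.injective_subtype _) (Submodule.mkQ_surjective I) (LinearMap.exact_subtype_mkQ I)
  -- the kernel is free
  have hd2 : ringKrullDim R = ((2 : ℕ) : WithBot ℕ∞) := by rw [hdim]; rfl
  have hpd3 : HasProjectiveDimensionLT (ModuleCat.of R (R ⧸ I)) 3 :=
    Groth.Agent.GlDim.hasProjectiveDimensionLT_of_regular R 2 hd2 (R ⧸ I)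
  haveI : Projective (ModuleCat.of R R) := (IsProjective.iff_projective _).mp inferInstance
  haveI : Projective (ModuleCat.of R (Fin b → R)) :=
    (IsProjective.iff_projective _).mp inferInstance
  have hpd2 : HasProjectiveDimensionLT (ModuleCat.of R I) 2 :=
    hS₂.hasProjectiveDimensionLT_X₁ 2
      (hasProjectiveDimensionLT_of_ge (ModuleCat.of R R) 1 2 (by omega)) hpd3
  have hpd1 : HasProjectiveDimensionLT (ModuleCat.of R (LinearMap.ker π)) 1 :=
    hS₁.hasProjectiveDimensionLT_X₁ 1
      (inferInstanceAs (HasProjectiveDimensionLT (ModuleCat.of R (Fin b → R)) 1)) hpd2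
  haveI : Projective (ModuleCat.of R (LinearMap.ker π)) :=
    projective_iff_hasProjectiveDimensionLT_one.mpr hpd1
  haveI : Module.Projective R (LinearMap.ker π) := (IsProjective.iff_projective _).mpr inferInstance
  haveI : Module.Free R (LinearMap.ker π) := Module.free_of_flat_of_isLocalRing
  -- ranks
  have hrank : Module.finrank R (LinearMap.ker π) + 1 = b := by
    have h1 := LinearMap.rank_range_add_rank_ker π
    rw [LinearMap.range_eq_top.mpr hπ, rank_top, rank_ideal R I hI, rank_fun',
      ← Module.finrank_eq_rank R (LinearMap.ker π)] at h1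
    have h2 : ((1 + Module.finrank R (LinearMap.ker π) : ℕ) : Cardinal) = (b : Cardinal) := by
      rw [Fintype.card_fin] at h1
      rw [← h1]
      push_cast
      rfl
    have h3 := Nat.cast_injective h2
    omega
  -- the long exact sequences
  have h1 := length_contra hS₁ (ModuleCat.of R N) (ext_free_subsingleton R (Fin b → R) _ 0)
  obtain ⟨e0⟩ := ext_shift hS₂ (ModuleCat.of R N) 1 (ext_free_subsingleton R R _ 0)
    (ext_free_subsingleton R R _ 1)
  have e : Ext (ModuleCat.of R I) (ModuleCat.of R N) 1 ≃ₗ[R]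
    Ext (ModuleCat.of R (R ⧸ I)) (ModuleCat.of R N) 2 := e0
  have h2 : Module.length R ((Fin b → R) →ₗ[R] N) = (b : ℕ∞) * Module.length R N := by
    rw [length_hom_free, Module.finrank_fin_fun]
  have h3 := length_hom_free (R := R) (LinearMap.ker π) N
  change Module.length R (I →ₗ[R] N) + Module.length R ((LinearMap.ker π) →ₗ[R] N) =
    Module.length R ((Fin b → R) →ₗ[R] N) + Module.length R (Ext (ModuleCat.of R I)
      (ModuleCat.of R N) 1) at h1
  rw [h2, h3, e.length_eq] at h1
  have hb : (b : ℕ∞) = (Module.finrank R (LinearMap.ker π) : ℕ∞) + 1 := by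
    exact_mod_cast congrArg (Nat.cast : ℕ → ℕ∞) hrank.symm
  rw [hb] at h1
  have hfin : (Module.finrank R (LinearMap.ker π) : ℕ∞) * Module.length R N ≠ ⊤ :=
    WithTop.mul_ne_top (ENat.natCast_ne_top _) hN.ne
  rw [add_mul, one_mul, add_assoc, add_comm] at h1
  refine ⟨(ENat.add_right_injective_of_ne_top hfin) h1, ?_⟩
  have h4 := length_ext_le hS₁ (ModuleCat.of R N) (ext_free_subsingleton R (Fin b → R) _ 0)
  change Module.length R (Ext (ModuleCat.of R I) (ModuleCat.of R N) 1) ≤
    Module.length R ((LinearMap.ker π) →ₗ[R] N) at h4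
  rw [e.length_eq, h3] at h4
  exact lt_of_le_of_lt h4 (lt_top_iff_ne_top.mpr hfin)

end ideal


section colon

variable {R : Type u} [CommRing R]

/-- `ℓ Hom(R/J, R/I) + ℓ R/(I : J) = ℓ R/I` -/
theorem length_colon (I J : Ideal R) :
    Module.length R ((R ⧸ J) →ₗ[R] (R ⧸ I)) + Module.length R (R ⧸ I.colon J) =
      Module.length R (R ⧸ I) := by
  have hle : I ≤ I.colon J := fun r hr => Submodule.mem_colon.mpr fun s _ => I.mul_mem_right s hr
  let ev : ((R ⧸ J) →ₗ[R] (R ⧸ I)) →ₗ[R] (R ⧸ I) := LinearMap.applyₗ (1 : R ⧸ J)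
  let q : (R ⧸ I) →ₗ[R] (R ⧸ I.colon J) := Submodule.mapQ I (I.colon J) LinearMap.id hle
  have hev : Function.Injective ev := by
    intro f g hfg
    apply LinearMap.ext
    intro x
    obtain ⟨r, rfl⟩ := Ideal.Quotient.mk_surjective x
    have h1 : (Ideal.Quotient.mk J r : R ⧸ J) = r • (1 : R ⧸ J) := by
      rw [Algebra.smul_def, mul_one]; rfl
    rw [h1, map_smul, map_smul]
    exact congrArg _ hfg
  have hq : Function.Surjective q := by
    intro y
    obtain ⟨r, rfl⟩ := Submodule.Quotient.mk_surjective _ y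
    exact ⟨Submodule.Quotient.mk r, rfl⟩
  have hex : Function.Exact ev q := by
    intro x
    obtain ⟨r, rfl⟩ := Submodule.Quotient.mk_surjective _ x
    constructor
    · intro hx
      have hr : r ∈ I.colon J := (Submodule.Quotient.mk_eq_zero _).mp hx
      rw [Submodule.mem_colon] at hr
      have hJ : J ≤ LinearMap.ker
          (LinearMap.toSpanSingleton R (R ⧸ I) (Submodule.Quotient.mk r)) := by
        intro s hs
        rw [LinearMap.mem_ker, LinearMap.toSpanSingleton_apply, ← Submodule.Quotient.mk_smul,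
          Submodule.Quotient.mk_eq_zero, smul_eq_mul, mul_comm]
        exact hr s hs
      refine ⟨Submodule.liftQ J _ hJ, ?_⟩
      have h1 : (1 : R ⧸ J) = Submodule.Quotient.mk (1 : R) := rfl
      change Submodule.liftQ J _ hJ (1 : R ⧸ J) = _
      rw [h1, Submodule.liftQ_apply, LinearMap.toSpanSingleton_apply, one_smul]
    · rintro ⟨f, hf⟩
      change f 1 = _ at hf
      change Submodule.Quotient.mk r = 0
      rw [Submodule.Quotient.mk_eq_zero, Submodule.mem_colon]
      intro s hs
      have h1 : s • f 1 = 0 := by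
        rw [← map_smul, Algebra.smul_def, mul_one]
        have : (algebraMap R (R ⧸ J) s) = 0 := Ideal.Quotient.eq_zero_iff_mem.mpr hs
        rw [this, map_zero]
      rw [hf, ← Submodule.Quotient.mk_smul, Submodule.Quotient.mk_eq_zero] at h1
      rw [smul_eq_mul, mul_comm]
      exact h1
  rw [Module.length_eq_add_of_exact ev q hev hq hex]

end colon

end Groth.Agent.Lib.HilbLen
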