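import Mathlib
import Groth.Prelude.Def_Wider
import Groth.Agent.Lib.HilbLen1_helper5
import Groth.Agent.Lib.GlDim_helper5
import Groth.Agent.Lib.LocDual2_helper6
import Groth.Agent.Lib.GorHull_helper7
import Groth.Agent.Lib.Matlis_helper5
import Groth.Agent.Lib.ExtBridge_helper5
import Groth.Agent.Lib.LocCohDeltaZero_helper7
import Groth.Agent.Lib.CanId2_helper5

/-!
# Serre duality on lengths over a two-dimensional regular local ring (helper5)

`length_ext_two`: `ℓ Ext²(M, N) = ℓ Hom(N, M)` for modules of finite length, via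
`Ext²(M, N) ≃ Ext²(M, R) ⊗ N` (Eilenberg–Watts), local duality `Hom(Ext²(M, R), E) ≃ H⁰_m(M) = M`
and Matlis duality.
-/

set_option autoImplicit false
set_option linter.style.haveILetI false
universe u
open CategoryTheory CategoryTheory.Limits Abelian IsLocalRing
open Groth.Agent.DepthLib

namespace Groth.Agent.Lib.HilbLen

section kill

variable (A : Type u) [CommRing A] [IsLocalRing A]

/-- a module of finite length over a local ring is killed by a power of the maximal ideal
(as in `Roberts2_helper2.exists_pow_kills`) -/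
theorem exists_pow_kills {M : Type u} [AddCommGroup M] [Module A M] (h : IsFiniteLength A M) :
    ∃ n : ℕ, ∀ a ∈ IsLocalRing.maximalIdeal A ^ n, ∀ x : M, a • x = 0 := by
  induction h with
  | of_subsingleton => exact ⟨0, fun a _ x => Subsingleton.elim _ _⟩
  | @of_simple_quotient M _ _ N _ _ ih =>
    obtain ⟨n, hn⟩ := ih
    have hann : Module.annihilator A (M ⧸ N) = IsLocalRing.maximalIdeal A :=
      IsLocalRing.eq_maximalIdeal IsSimpleModule.annihilator_isMaximal
    refine ⟨n + 1, fun a ha x => ?_⟩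
    rw [pow_succ] at ha
    refine Submodule.mul_induction_on ha (fun b hb c hc => ?_) (fun y z hy hz => ?_)
    · have hcx : c • x ∈ N := by
        have h0 : c • (N.mkQ x) = 0 := Module.mem_annihilator.1 (by rw [hann]; exact hc) _
        rw [← map_smul, Submodule.mkQ_apply, Submodule.Quotient.mk_eq_zero] at h0
        exact h0
      have h1 := hn b hb ⟨c • x, hcx⟩
      rw [mul_smul]
      exact congrArg Subtype.val h1
    · rw [add_smul, hy, hz, add_zero]

end kill

section dual

variable (R : Type u) [CommRing R] [IsRegularLocalRing R] (hdim : ringKrullDim R = 2)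

open Groth.Agent.Matlis in
include hdim in
/-- Serre duality for finite length modules over a two-dimensional regular local ring, on the level
of lengths: `ℓ Ext²(M, N) = ℓ Hom(N, M)`. -/
theorem length_ext_two (M N : Type u) [AddCommGroup M] [Module R M] [AddCommGroup N] [Module R N]
    (hM : IsFiniteLength R M) (hN : IsFiniteLength R N)
    (hfin : Module.length R (Ext (ModuleCat.of R M) (ModuleCat.of R N) 2) < ⊤) :
    Module.length R (Ext (ModuleCat.of R M) (ModuleCat.of R N) 2) =
      Module.length R (N →ₗ[R] M) := by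
  haveI : Module.Finite R M := by
    haveI := (isFiniteLength_iff_isNoetherian_isArtinian.mp hM).1
    infer_instance
  haveI : Module.Finite R N := by
    haveI := (isFiniteLength_iff_isNoetherian_isArtinian.mp hN).1
    infer_instance
  have hd2 : ringKrullDim R = ((2 : ℕ) : WithBot ℕ∞) := by rw [hdim]; rfl
  have hpd3 : HasProjectiveDimensionLT (ModuleCat.of R M) 3 :=
    Groth.Agent.GlDim.hasProjectiveDimensionLT_of_regular R 2 hd2 M
  have hX : ∀ Y : ModuleCat.{u} R, Subsingleton (Ext (ModuleCat.of R M) Y (2 + 1)) := fun Y =>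
    HasProjectiveDimensionLT.subsingleton (ModuleCat.of R M) 3 3 le_rfl Y
  obtain ⟨e1⟩ := ext_tensor_equiv (ModuleCat.of R M) 2 hX N
  -- the injective hull
  have hinj : ∃ K, HasInjectiveDimensionLT (ModuleCat.of R R) K :=
    ⟨2 + 1, Groth.Agent.GlDim.hasInjectiveDimensionLT_of_regular R 2 hd2 _⟩
  haveI hCMB : LocCoh.IsCohenMacaulayLocalRing R :=
    { supportDim_eq_depth := Groth.Agent.Lib.CanId.isCM_self R 2 hd2 }
  obtain ⟨g, hg⟩ := Groth.Agent.Lib.GorHullH7.gorenstein_hull 2 R hinj hd2
  haveI hE : Module.Injective R (LocCoh.H (maximalIdeal R) 2 R) := hg.isInjective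
  have hy : IsSocleGen R (g 1) := isSocleGen_of_isEssentialInj hg.toIsEssentialInj
  let eK : (R →ₗ[R] LocCoh.H (maximalIdeal R) 2 R) ≃ₗ[R] LocCoh.H (maximalIdeal R) 2 R :=
    LinearMap.ringLmapEquivSelf R R (LocCoh.H (maximalIdeal R) 2 R)
  obtain ⟨Ψ⟩ := Groth.Agent.Lib.LocDual2_helper6.duality 2 hd2 (LocCoh.H (maximalIdeal R) 2 R) hE R
    eK 2 0 (by omega) M
  obtain ⟨e0⟩ := Groth.Agent.ExtBridge.bridge (ModuleCat.of R M) (ModuleCat.of R R) 2
  obtain ⟨e3⟩ := Groth.Agent.Lib.LocCohDeltaZeroH7.H0_equiv' (maximalIdeal R) M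
  have htop : Groth.Agent.Lib.InjHull_helper3.Γ (maximalIdeal R) M = ⊤ := by
    rw [eq_top_iff]
    intro x _
    rw [Groth.Agent.Lib.InjHull_helper3.mem_Γ_iff]
    obtain ⟨n, hn⟩ := exists_pow_kills R hM
    exact ⟨n, fun a ha => hn a ha x⟩
  let e4 : ↥(Groth.Agent.Lib.InjHull_helper3.Γ (maximalIdeal R) M) ≃ₗ[R] M :=
    (LinearEquiv.ofEq _ _ htop).trans Submodule.topEquiv
  -- `Hom(Ext²(M, R), E) ≃ M`
  let eD : (Ext (ModuleCat.of R M) (ModuleCat.of R R) 2 →ₗ[R] LocCoh.H (maximalIdeal R) 2 R) ≃ₗ[R]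
      M :=
    (LinearEquiv.arrowCongr e0 (LinearEquiv.refl R _)).symm.trans (Ψ.symm.trans (e3.trans e4))
  let eH : (TensorProduct R (Ext (ModuleCat.of R M) (ModuleCat.of R R) 2) N →ₗ[R]
      LocCoh.H (maximalIdeal R) 2 R) ≃ₗ[R] (N →ₗ[R] M) :=
    (LinearEquiv.arrowCongr (TensorProduct.comm R _ _) (LinearEquiv.refl R _)).trans
      ((TensorProduct.lift.equiv (RingHom.id R) N _ _).symm.trans
        (LinearEquiv.arrowCongr (LinearEquiv.refl R N) eD))
  have hfl : IsFiniteLength R (TensorProduct R (Ext (ModuleCat.of R M) (ModuleCat.of R R) 2) N) := by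
    rw [← Module.length_ne_top_iff, e1.length_eq]
    exact hfin.ne
  rw [← e1.length_eq, ← length_hom hy _ hfl, eH.length_eq]

end dual

end Groth.Agent.Lib.HilbLen
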