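import Mathlib
import Groth.Prelude.Def_HilbD
import Groth.Agent.Lib.HilbDescent_helper7

/-!
# The Hilbert functor of one point of a separated morphism (helper7)
-/

set_option autoImplicit false
set_option backward.isDefEq.respectTransparency false
universe u
open CategoryTheory CategoryTheory.Limits AlgebraicGeometry

namespace Groth.Agent.Lib.HilbOne_helper7

open Groth.Agent.Lib.ClosedDescent_helper7 Groth.Agent.Lib.HilbDescent_helper7

variable {X S : Scheme.{u}} (f : X ⟶ S)

/-- The graph of a section. -/
noncomputable def graph (T : Over S) (x : T.left ⟶ X) (hx : x ≫ f = T.hom) :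
    T.left ⟶ PicF.XT f T :=
  pullback.lift x (𝟙 T.left) (by simpa using hx)

theorem graph_fst (T : Over S) (x : T.left ⟶ X) (hx : x ≫ f = T.hom) :
    graph f T x hx ≫ pullback.fst f T.hom = x := pullback.lift_fst _ _ _

theorem graph_snd (T : Over S) (x : T.left ⟶ X) (hx : x ≫ f = T.hom) :
    graph f T x hx ≫ pullback.snd f T.hom = 𝟙 _ := pullback.lift_snd _ _ _

theorem secGraph_eq (T : Over S) (x : T.left ⟶ X) (hx : x ≫ f = T.hom) :
    HilbD.secGraph f T x hx = (graph f T x hx).ker := rfl

/-- The diagonal, as graph of the identity. -/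
noncomputable abbrev diag : X ⟶ PicF.XT f (Over.mk f) :=
  graph f (Over.mk f) (𝟙 X) (Category.id_comp f)

theorem isPullback_graph (T : Over S) (t : T ⟶ Over.mk f) :
    IsPullback (graph f T t.left (Over.w t)) t.left (PicF.XTmap f t) (diag f) := by
  have w : graph f T t.left (Over.w t) ≫ PicF.XTmap f t = t.left ≫ diag f := by
    apply pullback.hom_ext
    · rw [Category.assoc, XTmap_fst, graph_fst, Category.assoc, graph_fst]
      exact (Category.comp_id _).symm
    · rw [Category.assoc, XTmap_snd, ← Category.assoc, graph_snd, Category.id_comp,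
        Category.assoc, graph_snd]
      exact (Category.comp_id _).symm
  refine ⟨⟨w⟩, ⟨PullbackCone.IsLimit.mk w (fun s => s.fst ≫ pullback.snd f T.hom) ?_ ?_ ?_⟩⟩
  · intro s
    have h1 := congrArg (· ≫ pullback.fst f (Over.mk f).hom) s.condition
    have h2 := congrArg (· ≫ pullback.snd f (Over.mk f).hom) s.condition
    simp only [Category.assoc] at h1 h2
    rw [XTmap_fst, graph_fst] at h1
    rw [XTmap_snd, graph_snd] at h2
    have h1' : s.fst ≫ pullback.fst f T.hom = s.snd := h1.trans (Category.comp_id _)
    have h2' : s.fst ≫ pullback.snd f T.hom ≫ t.left = s.snd := h2.trans (Category.comp_id _)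
    apply pullback.hom_ext
    · rw [Category.assoc, graph_fst, Category.assoc, h2', h1']
    · rw [Category.assoc, graph_snd]; exact Category.comp_id _
  · intro s
    have h2 := congrArg (· ≫ pullback.snd f (Over.mk f).hom) s.condition
    simp only [Category.assoc] at h2
    rw [XTmap_snd, graph_snd] at h2
    rw [Category.assoc]; exact h2.trans (Category.comp_id _)
  · intro s m hm _
    rw [← hm, Category.assoc, graph_snd]; exact (Category.comp_id _).symm

theorem pull_diag (T : Over S) (t : T ⟶ Over.mk f) [IsClosedImmersion (diag f)] :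
    HilbD.pull f t (diag f).ker = (graph f T t.left (Over.w t)).ker := by
  rw [pull_eq_comap, ← Scheme.IdealSheafData.ker_fst_of_isClosedImmersion,
    ← (isPullback_graph f T t).isoPullback_hom_fst, Scheme.Hom.ker_comp_of_isIso]

theorem isClosedImmersion_graph (T : Over S) (t : T ⟶ Over.mk f) [IsClosedImmersion (diag f)] :
    IsClosedImmersion (graph f T t.left (Over.w t)) :=
  MorphismProperty.of_isPullback (P := @IsClosedImmersion) (isPullback_graph f T t).flip
    inferInstance

theorem main [IsSeparated f] :
    ∃ Δ : HilbD.Obj f 1 (Over.mk f),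
      Δ.1 = HilbD.secGraph f (Over.mk f) (𝟙 X) (Category.id_comp f) ∧
      HilbD.IsUniversal f 1 (Over.mk f) Δ := by
  haveI hD : IsClosedImmersion (diag f) := by
    show IsClosedImmersion (pullback.diagonal f)
    infer_instance
  -- degree one
  have hcomp : (diag f).toImage ≫ ((diag f).imageι ≫ PicF.XTproj f (Over.mk f)) = 𝟙 X := by
    rw [← Category.assoc, Scheme.Hom.toImage_imageι]; exact graph_snd f _ _ _
  haveI : IsIso ((diag f).toImage ≫ ((diag f).imageι ≫ PicF.XTproj f (Over.mk f))) := by
    rw [hcomp]; infer_instance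
  haveI hq0 : IsIso ((diag f).imageι ≫ PicF.XTproj f (Over.mk f)) :=
    IsIso.of_isIso_comp_left (diag f).toImage _
  have hdeg : Mor2.IsFinLocFreeOfDeg 1 ((diag f).ker.subschemeι ≫ PicF.XTproj f (Over.mk f)) :=
    ⟨⟨inferInstance, inferInstance, inferInstance⟩, fun y =>
      congrFun (Scheme.Hom.finrank_eq_one_of_isIso _) y⟩
  refine ⟨⟨(diag f).ker, hdeg⟩, rfl, ?_⟩
  intro T Z'
  obtain ⟨⟨h1, h2, h3⟩, h4⟩ := Z'.2
  haveI := h1
  haveI := h2
  haveI := h3
  haveI hq : IsIso (Z'.1.subschemeι ≫ PicF.XTproj f T) :=
    (Scheme.Hom.isIso_iff_finrank_eq _).2 (funext fun y => h4 y)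
  have hx : (inv (Z'.1.subschemeι ≫ PicF.XTproj f T) ≫ Z'.1.subschemeι ≫ pullback.fst f T.hom) ≫ f
      = T.hom := by
    rw [Category.assoc, Category.assoc, pullback.condition, ← Category.assoc Z'.1.subschemeι,
      IsIso.inv_hom_id_assoc]
  have hΓ : graph f T _ hx = inv (Z'.1.subschemeι ≫ PicF.XTproj f T) ≫ Z'.1.subschemeι := by
    apply pullback.hom_ext
    · rw [graph_fst, Category.assoc]
    · rw [graph_snd, Category.assoc, IsIso.inv_hom_id]
  refine ⟨Over.homMk _ hx, ?_, ?_⟩
  · show HilbD.pull f (Over.homMk _ hx) (diag f).ker = Z'.1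
    rw [pull_diag]
    show (graph f T _ hx).ker = Z'.1
    rw [hΓ, Scheme.Hom.ker_comp_of_isIso, Scheme.IdealSheafData.ker_subschemeι]
  · intro t' ht'
    have ht'' : HilbD.pull f t' (diag f).ker = Z'.1 := ht'
    rw [pull_diag] at ht''
    have hker : (graph f T _ hx).ker = Z'.1 := by
      rw [hΓ, Scheme.Hom.ker_comp_of_isIso, Scheme.IdealSheafData.ker_subschemeι]
    haveI := isClosedImmersion_graph f T t'
    let φ := IsClosedImmersion.lift (graph f T t'.left (Over.w t')) (graph f T _ hx)
      (le_of_eq (ht''.trans hker.symm))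
    have hφ : φ ≫ graph f T t'.left (Over.w t') = graph f T _ hx :=
      IsClosedImmersion.lift_fac _ _ _
    have hφ1 : φ = 𝟙 _ := by
      have := congrArg (· ≫ pullback.snd f T.hom) hφ
      simp only [Category.assoc] at this
      rw [graph_snd, graph_snd, Category.comp_id] at this
      exact this
    rw [hφ1, Category.id_comp] at hφ
    apply Over.OverMorphism.ext
    have := congrArg (· ≫ pullback.fst f T.hom) hφ
    simp only [graph_fst] at this
    exact this

end Groth.Agent.Lib.HilbOne_helper7
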