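import Mathlib

namespace Groth.Agent.Lib.HilbZeta
open PowerSeries

universe u

lemma exists_eq_mul_of_order {k : Type u} [Field k] (a b : PowerSeries k) (l c : ℕ)
    (ha : a.order = l) (hb : ((l + c : ℕ) : ℕ∞) ≤ b.order) :
    ∃ h : PowerSeries k, b = a * h ∧ (c : ℕ∞) ≤ h.order := by
  obtain ⟨ha1, ha2⟩ := PowerSeries.order_eq_nat.mp ha
  obtain ⟨a', rfl⟩ : X ^ l ∣ a := PowerSeries.X_pow_dvd_iff.mpr ha2
  obtain ⟨b', rfl⟩ : X ^ (l + c) ∣ b := PowerSeries.X_pow_dvd_iff.mpr (fun m hm =>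
    PowerSeries.coeff_of_lt_order m (lt_of_lt_of_le (by exact_mod_cast hm) hb))
  have ha' : constantCoeff a' ≠ 0 := by
    have := PowerSeries.coeff_X_pow_mul a' l 0
    rw [zero_add] at this
    rw [this] at ha1
    rwa [PowerSeries.coeff_zero_eq_constantCoeff_apply] at ha1
  refine ⟨X ^ c * b' * a'⁻¹, ?_, ?_⟩
  · have : a' * a'⁻¹ = 1 := PowerSeries.mul_inv_cancel a' ha'
    calc X ^ (l + c) * b' = X ^ l * X ^ c * b' * (a' * a'⁻¹) := by rw [this, mul_one, pow_add]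
      _ = X ^ l * a' * (X ^ c * b' * a'⁻¹) := by ring
  · rw [mul_assoc, PowerSeries.order_mul, PowerSeries.order_X_pow]
    exact le_self_add

theorem main146 (k : Type u) [Field k] (s : ℕ) (R : Subalgebra k (Fin s → PowerSeries k))
    (c : Fin s → ℕ)
    (hc : ∀ f : Fin s → PowerSeries k,
      (∀ g : Fin s → PowerSeries k, g * f ∈ R) ↔ ∀ i, ((c i : ℕ) : ℕ∞) ≤ (f i).order)
    (J : Ideal ↥R) (l : Fin s → ℕ)
    (hl : ∀ i : Fin s, ∃ f ∈ J, ((f : Fin s → PowerSeries k) i).order = ((l i : ℕ) : ℕ∞))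
    (g : Fin s → PowerSeries k) (hg : ∀ i : Fin s, ((l i + c i : ℕ) : ℕ∞) ≤ (g i).order) :
    ∃ hgR : g ∈ R, (⟨g, hgR⟩ : ↥R) ∈ J := by
  classical
  choose F hFJ hFord using hl
  have hdiv : ∀ i, ∃ h : PowerSeries k, g i = (F i : Fin s → PowerSeries k) i * h ∧
      ((c i : ℕ) : ℕ∞) ≤ h.order :=
    fun i => exists_eq_mul_of_order _ _ _ _ (hFord i) (hg i)
  choose h hh1 hh2 using hdiv
  have hHR : ∀ i, (Pi.single i (h i) : Fin s → PowerSeries k) ∈ R := fun i => by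
    have h1 := (hc (Pi.single i (h i))).mpr (fun j => by
      by_cases hji : j = i
      · subst hji; rw [Pi.single_eq_same]; exact hh2 j
      · rw [Pi.single_eq_of_ne hji, PowerSeries.order_zero]; exact le_top) 1
    rwa [one_mul] at h1
  have hsum : (∑ i, (F i : Fin s → PowerSeries k) * Pi.single i (h i)) = g := by
    funext j
    rw [Finset.sum_apply, Finset.sum_eq_single j]
    · rw [Pi.mul_apply, Pi.single_eq_same, ← hh1 j]
    · intro b _ hb
      rw [Pi.mul_apply, Pi.single_eq_of_ne hb.symm, mul_zero]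
    · intro hj; exact absurd (Finset.mem_univ j) hj
  let G : ↥R := ∑ i, F i * ⟨Pi.single i (h i), hHR i⟩
  have hGJ : G ∈ J := J.sum_mem (fun i _ => J.mul_mem_right _ (hFJ i))
  have hGval : (G : Fin s → PowerSeries k) = g := by
    rw [← hsum]
    simp only [G, AddSubmonoidClass.coe_finset_sum, MulMemClass.coe_mul]
  have hgR : g ∈ R := hGval ▸ G.2
  refine ⟨hgR, ?_⟩
  have : (⟨g, hgR⟩ : ↥R) = G := Subtype.ext hGval.symm
  rw [this]; exact hGJ

theorem main147 (k : Type u) [Field k] (s : ℕ) (R : Subalgebra k (Fin s → PowerSeries k))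
    (c : Fin s → ℕ)
    (hc : ∀ f : Fin s → PowerSeries k,
      (∀ g : Fin s → PowerSeries k, g * f ∈ R) ↔ ∀ i, ((c i : ℕ) : ℕ∞) ≤ (f i).order)
    (I : Ideal ↥R) (a : Fin s → ℕ)
    (ha : (∀ i : Fin s, Ideal.map ((Pi.evalAlgHom k (fun _ : Fin s => PowerSeries k) i).comp R.val) I =
      Ideal.span {PowerSeries.X ^ (a i)})) :
    (∀ g : Fin s → PowerSeries k, (∀ i : Fin s, ((a i + c i : ℕ) : ℕ∞) ≤ (g i).order) →
      ∃ hgR : g ∈ R, (⟨g, hgR⟩ : ↥R) ∈ I) ∧
    (∀ f ∈ I, ∀ i : Fin s, ((a i : ℕ) : ℕ∞) ≤ ((f : Fin s → PowerSeries k) i).order) := by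
  have h2 : ∀ f ∈ I, ∀ i, ((a i : ℕ) : ℕ∞) ≤ ((f : Fin s → PowerSeries k) i).order := by
    intro f hf i
    have hmem : ((Pi.evalAlgHom k (fun _ : Fin s => PowerSeries k) i).comp R.val) f ∈
        Ideal.span {(PowerSeries.X : PowerSeries k) ^ (a i)} := by
      rw [← ha i]; exact Ideal.mem_map_of_mem _ hf
    rw [Ideal.mem_span_singleton] at hmem
    obtain ⟨y, hy⟩ := hmem
    have hy' : (f : Fin s → PowerSeries k) i = X ^ (a i) * y := hy
    rw [hy', PowerSeries.order_mul, PowerSeries.order_X_pow]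
    exact le_self_add
  refine ⟨fun g hg => main146 k s R c hc I a (fun i => ?_) g hg, h2⟩
  by_contra hno
  push_neg at hno
  have hle : Ideal.map ((Pi.evalAlgHom k (fun _ : Fin s => PowerSeries k) i).comp R.val) I ≤
      Ideal.span {(PowerSeries.X : PowerSeries k) ^ (a i + 1)} := by
    rw [Ideal.map_le_iff_le_comap]
    intro f hf
    rw [Ideal.mem_comap, Ideal.mem_span_singleton]
    show X ^ (a i + 1) ∣ (f : Fin s → PowerSeries k) i
    rw [PowerSeries.X_pow_dvd_iff]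
    intro m hm
    apply PowerSeries.coeff_of_lt_order
    have h1 := h2 f hf i
    have h3 := hno f hf
    have h4 : ((a i : ℕ) : ℕ∞) < ((f : Fin s → PowerSeries k) i).order :=
      lt_of_le_of_ne h1 (Ne.symm h3)
    exact lt_of_le_of_lt (by exact_mod_cast Nat.lt_succ_iff.mp hm) h4
  rw [ha i] at hle
  have hX : (X : PowerSeries k) ^ (a i) ∈ Ideal.span {(X : PowerSeries k) ^ (a i + 1)} :=
    hle (Ideal.subset_span rfl)
  rw [Ideal.mem_span_singleton] at hX
  obtain ⟨y, hy⟩ := hX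
  have h6 := congrArg PowerSeries.order hy
  rw [PowerSeries.order_mul, PowerSeries.order_X_pow, PowerSeries.order_X_pow] at h6
  have h5 : ((a i + 1 : ℕ) : ℕ∞) ≤ ((a i : ℕ) : ℕ∞) :=
    calc ((a i + 1 : ℕ) : ℕ∞) ≤ ((a i + 1 : ℕ) : ℕ∞) + y.order := le_self_add
      _ = _ := h6.symm
  exact absurd (by exact_mod_cast h5 : a i + 1 ≤ a i) (by omega)

end Groth.Agent.Lib.HilbZeta
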