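import Mathlib
import Groth.Agent.Lib.HilbZeta_lead

namespace Groth.Agent.Lib.HilbZeta2
open PowerSeries

universe u

/-- truncation map -/
noncomputable def T (k : Type u) [Field k] {s : ℕ} (b : Fin s → ℕ) :
    (Fin s → PowerSeries k) →ₗ[k] ((i : Fin s) → Fin (b i) → k) where
  toFun f := fun i j => coeff (j : ℕ) (f i)
  map_add' f g := by funext i j; simp
  map_smul' c f := by funext i j; simp

variable {k : Type u} [Field k] {s : ℕ}

lemma T_apply (b : Fin s → ℕ) (f : Fin s → PowerSeries k) (i : Fin s) (j : Fin (b i)) :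
    T k b f i j = coeff (j : ℕ) (f i) := rfl

lemma T_surjective (b : Fin s → ℕ) : Function.Surjective (T k b) := by
  intro w
  refine ⟨fun i => PowerSeries.mk (fun n => if h : n < b i then w i ⟨n, h⟩ else 0), ?_⟩
  funext i j
  rw [T_apply, PowerSeries.coeff_mk, dif_pos j.2]

lemma mem_ker_T (b : Fin s → ℕ) (f : Fin s → PowerSeries k) :
    f ∈ LinearMap.ker (T k b) ↔ ∀ i, ((b i : ℕ) : ℕ∞) ≤ (f i).order := by
  rw [LinearMap.mem_ker]
  constructor
  · intro h i
    refine PowerSeries.nat_le_order _ _ (fun j hj => ?_)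
    have := congrFun (congrFun h i) ⟨j, hj⟩
    exact this
  · intro h
    funext i j
    exact PowerSeries.coeff_of_lt_order _ (lt_of_lt_of_le (by exact_mod_cast j.2) (h i))

lemma finrank_quot_ker_T (b : Fin s → ℕ) :
    Module.finrank k ((Fin s → PowerSeries k) ⧸ LinearMap.ker (T k b)) = ∑ i, b i := by
  rw [((T k b).quotKerEquivOfSurjective (T_surjective b)).finrank_eq, Module.finrank_pi_fintype]
  simp

lemma finrank_quot_le {O : Type*} [AddCommGroup O] [Module k O] (P Q : Submodule k O)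
    (h : P ≤ Q) [Module.Finite k (O ⧸ P)] :
    Module.Finite k (O ⧸ Q) ∧ Module.finrank k (O ⧸ Q) ≤ Module.finrank k (O ⧸ P) ∧
      (Module.finrank k (O ⧸ Q) = Module.finrank k (O ⧸ P) → Q ≤ P) := by
  let f : (O ⧸ P) →ₗ[k] (O ⧸ Q) := Submodule.mapQ P Q LinearMap.id (by simpa using h)
  have hf : Function.Surjective f := by
    intro x
    obtain ⟨o, rfl⟩ := Submodule.Quotient.mk_surjective Q x
    exact ⟨Submodule.Quotient.mk o, rfl⟩
  haveI : Module.Finite k (O ⧸ Q) := Module.Finite.of_surjective f hf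
  refine ⟨inferInstance, ?_, ?_⟩
  · have := LinearMap.finrank_range_le f
    rwa [LinearMap.range_eq_top.mpr hf, finrank_top] at this
  · intro heq q hq
    have hinj : Function.Injective f :=
      (LinearMap.injective_iff_surjective_of_finrank_eq_finrank heq.symm).mpr hf
    have h1 : f (Submodule.Quotient.mk q) = 0 := by
      show Submodule.Quotient.mk q = (0 : O ⧸ Q)
      exact (Submodule.Quotient.mk_eq_zero Q).mpr hq
    have h0 := hinj (h1.trans (map_zero f).symm)
    exact (Submodule.Quotient.mk_eq_zero P).mp h0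

lemma finrank_add (R : Subalgebra k (Fin s → PowerSeries k)) (I : Ideal ↥R)
    [Module.Finite k ((Fin s → PowerSeries k) ⧸
      Submodule.map R.val.toLinearMap (I.restrictScalars k))] :
    Module.finrank k (↥R ⧸ I) +
      Module.finrank k ((Fin s → PowerSeries k) ⧸ Subalgebra.toSubmodule R) =
    Module.finrank k ((Fin s → PowerSeries k) ⧸
      Submodule.map R.val.toLinearMap (I.restrictScalars k)) := by
  have hle : Submodule.map R.val.toLinearMap (I.restrictScalars k) ≤ Subalgebra.toSubmodule R := by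
    rintro _ ⟨r, _, rfl⟩; exact r.2
  let f : ((Fin s → PowerSeries k) ⧸ Submodule.map R.val.toLinearMap (I.restrictScalars k)) →ₗ[k]
      ((Fin s → PowerSeries k) ⧸ Subalgebra.toSubmodule R) :=
    Submodule.mapQ _ _ LinearMap.id (by simpa using hle)
  have hf : Function.Surjective f := by
    intro x
    obtain ⟨o, rfl⟩ := Submodule.Quotient.mk_surjective _ x
    exact ⟨Submodule.Quotient.mk o, rfl⟩
  let ψ : ↥R →ₗ[k] ((Fin s → PowerSeries k) ⧸
      Submodule.map R.val.toLinearMap (I.restrictScalars k)) :=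
    (Submodule.map R.val.toLinearMap (I.restrictScalars k)).mkQ.comp R.val.toLinearMap
  have hrange : LinearMap.range ψ = LinearMap.ker f := by
    ext x; constructor
    · rintro ⟨r, rfl⟩
      rw [LinearMap.mem_ker]
      show Submodule.Quotient.mk (r : Fin s → PowerSeries k) =
        (0 : (Fin s → PowerSeries k) ⧸ Subalgebra.toSubmodule R)
      exact (Submodule.Quotient.mk_eq_zero _).mpr r.2
    · intro hx
      obtain ⟨o, rfl⟩ := Submodule.Quotient.mk_surjective _ x
      rw [LinearMap.mem_ker] at hx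
      have ho : o ∈ Subalgebra.toSubmodule R := (Submodule.Quotient.mk_eq_zero _).mp hx
      exact ⟨⟨o, ho⟩, rfl⟩
  have hker : LinearMap.ker ψ = I.restrictScalars k := by
    ext r
    rw [LinearMap.mem_ker]
    show Submodule.Quotient.mk (r : Fin s → PowerSeries k) =
      (0 : (Fin s → PowerSeries k) ⧸ Submodule.map R.val.toLinearMap (I.restrictScalars k)) ↔ _
    rw [Submodule.Quotient.mk_eq_zero]
    constructor
    · rintro ⟨r', hr', hrr'⟩
      have : r' = r := Subtype.ext hrr'
      rw [← this]; exact hr'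
    · intro hr; exact ⟨r, hr, rfl⟩
  have h1 : Module.finrank k (↥R ⧸ I) = Module.finrank k (LinearMap.ker f) :=
    calc Module.finrank k (↥R ⧸ I) = Module.finrank k (↥R ⧸ I.restrictScalars k) :=
          (Submodule.Quotient.restrictScalarsEquiv k I).finrank_eq.symm
      _ = Module.finrank k (↥R ⧸ LinearMap.ker ψ) :=
          (Submodule.quotEquivOfEq _ _ hker).finrank_eq.symm
      _ = Module.finrank k (LinearMap.range ψ) := ψ.quotKerEquivRange.finrank_eq
      _ = Module.finrank k (LinearMap.ker f) := (LinearEquiv.ofEq _ _ hrange).finrank_eq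
  have h2 := LinearMap.finrank_range_add_finrank_ker f
  rw [LinearMap.range_eq_top.mpr hf, finrank_top] at h2
  rw [h1, add_comm]; exact h2

lemma exists_order_eq (R : Subalgebra k (Fin s → PowerSeries k)) (I : Ideal ↥R) (a : Fin s → ℕ)
    (ha : (∀ i : Fin s, Ideal.map ((Pi.evalAlgHom k (fun _ : Fin s => PowerSeries k) i).comp R.val) I =
      Ideal.span {PowerSeries.X ^ (a i)}))
    (h2 : ∀ f ∈ I, ∀ i : Fin s, ((a i : ℕ) : ℕ∞) ≤ ((f : Fin s → PowerSeries k) i).order)
    (i : Fin s) : ∃ f ∈ I, ((f : Fin s → PowerSeries k) i).order = ((a i : ℕ) : ℕ∞) := by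
  by_contra hno
  push_neg at hno
  have hle : Ideal.map ((Pi.evalAlgHom k (fun _ : Fin s => PowerSeries k) i).comp R.val) I ≤
      Ideal.span {(PowerSeries.X : PowerSeries k) ^ (a i + 1)} := by
    rw [Ideal.map_le_iff_le_comap]
    intro f hf
    rw [Ideal.mem_comap, Ideal.mem_span_singleton]
    show X ^ (a i + 1) ∣ (f : Fin s → PowerSeries k) i
    rw [PowerSeries.X_pow_dvd_iff]
    intro m hm
    apply PowerSeries.coeff_of_lt_order
    have h1 := h2 f hf i
    have h3 := hno f hf
    have h4 : ((a i : ℕ) : ℕ∞) < ((f : Fin s → PowerSeries k) i).order :=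
      lt_of_le_of_ne h1 (Ne.symm h3)
    exact lt_of_le_of_lt (by exact_mod_cast Nat.lt_succ_iff.mp hm) h4
  rw [ha i] at hle
  have hX : (X : PowerSeries k) ^ (a i) ∈ Ideal.span {(X : PowerSeries k) ^ (a i + 1)} :=
    hle (Ideal.subset_span rfl)
  rw [Ideal.mem_span_singleton] at hX
  obtain ⟨y, hy⟩ := hX
  have h6 := congrArg PowerSeries.order hy
  rw [PowerSeries.order_mul, PowerSeries.order_X_pow, PowerSeries.order_X_pow] at h6
  have h5 : ((a i + 1 : ℕ) : ℕ∞) ≤ ((a i : ℕ) : ℕ∞) :=
    calc ((a i + 1 : ℕ) : ℕ∞) ≤ ((a i + 1 : ℕ) : ℕ∞) + y.order := le_self_add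
      _ = _ := h6.symm
  exact absurd (by exact_mod_cast h5 : a i + 1 ≤ a i) (by omega)

theorem main148 (k : Type u) [Field k] (s : ℕ)
    (R : Subalgebra k (Fin s → PowerSeries k))
    (c : Fin s → ℕ)
    (hc : ∀ f : Fin s → PowerSeries k,
      (∀ g : Fin s → PowerSeries k, g * f ∈ R) ↔ ∀ i, ((c i : ℕ) : ℕ∞) ≤ (f i).order)
    (I : Ideal ↥R) (a : Fin s → ℕ)
    (ha : (∀ i : Fin s, Ideal.map ((Pi.evalAlgHom k (fun _ : Fin s => PowerSeries k) i).comp R.val) I =
      Ideal.span {PowerSeries.X ^ (a i)})) :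
    (∑ i, a i) ≤ Module.finrank k (↥R ⧸ I) +
        Module.finrank k ((Fin s → PowerSeries k) ⧸ Subalgebra.toSubmodule R) ∧
    Module.finrank k (↥R ⧸ I) +
        Module.finrank k ((Fin s → PowerSeries k) ⧸ Subalgebra.toSubmodule R) ≤
      (∑ i, a i) + ∑ i, c i ∧
    (R ≠ ⊤ → Module.finrank k (↥R ⧸ I) +
        Module.finrank k ((Fin s → PowerSeries k) ⧸ Subalgebra.toSubmodule R) <
      (∑ i, a i) + ∑ i, c i) := by
  obtain ⟨h1, h2⟩ := Groth.Agent.Lib.HilbZeta.main147 k s R c hc I a ha
  have hlow : LinearMap.ker (T k (fun i => a i + c i)) ≤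
      Submodule.map R.val.toLinearMap (I.restrictScalars k) := by
    intro g hg
    rw [mem_ker_T] at hg
    obtain ⟨hgR, hgI⟩ := h1 g hg
    exact ⟨⟨g, hgR⟩, hgI, rfl⟩
  have hup : Submodule.map R.val.toLinearMap (I.restrictScalars k) ≤ LinearMap.ker (T k a) := by
    rintro _ ⟨f, hf, rfl⟩
    rw [mem_ker_T]
    exact h2 f hf
  haveI : Module.Finite k ((Fin s → PowerSeries k) ⧸ LinearMap.ker (T k (fun i => a i + c i))) :=
    Module.Finite.equiv ((T k _).quotKerEquivOfSurjective (T_surjective _)).symm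
  obtain ⟨hfinI', hle1, heq1⟩ := finrank_quot_le _ _ hlow
  haveI := hfinI'
  obtain ⟨_, hle2, _⟩ := finrank_quot_le _ _ hup
  have hadd := finrank_add R I
  rw [finrank_quot_ker_T] at hle1 hle2 heq1
  rw [hadd]
  have hsum : ∑ i, (a i + c i) = ∑ i, a i + ∑ i, c i := Finset.sum_add_distrib
  rw [hsum] at hle1 heq1
  refine ⟨hle2, hle1, fun hR => ?_⟩
  rcases lt_or_eq_of_le hle1 with hlt | heq
  · exact hlt
  · exfalso
    have hI'le := heq1 heq
    have hc0 : ∀ i, c i = 0 := by
      intro i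
      obtain ⟨f, hfI, hford⟩ := exists_order_eq R I a ha h2 i
      have hmem : (f : Fin s → PowerSeries k) ∈
          Submodule.map R.val.toLinearMap (I.restrictScalars k) := ⟨f, hfI, rfl⟩
      have h3 := (mem_ker_T _ _).mp (hI'le hmem) i
      rw [hford] at h3
      have : a i + c i ≤ a i := by exact_mod_cast h3
      omega
    apply hR
    rw [eq_top_iff]
    intro g _
    have := (hc 1).mpr (fun i => by rw [hc0 i]; simp) g
    rwa [mul_one] at this

end Groth.Agent.Lib.HilbZeta2
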