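import Mathlib

/-!
# S15149 (HilbZeta): multiplication by the uniformizer of a branch is a bijection between
branch-length strata of ideals of a curve-singularity-like subalgebra of `∏ k[[x]]`.
-/

set_option autoImplicit false
universe u

namespace Groth.Agent.Lib.HilbZetaH1

section General
variable {k : Type*} [Field k] {V W : Type*} [AddCommGroup V] [Module k V]
  [AddCommGroup W] [Module k W]

theorem codim_add (A B : Submodule k V) (h : A ≤ B) [Module.Finite k (V ⧸ A)] :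
    Module.finrank k (V ⧸ A) = Module.finrank k ↥(B.map A.mkQ) + Module.finrank k (V ⧸ B) := by
  have h1 := Submodule.finrank_quotient_add_finrank (B.map A.mkQ)
  have h2 := (Submodule.quotientQuotientEquivQuotient A B h).finrank_eq
  omega

theorem finite_quot_of (A B : Submodule k V) (h : A ≤ B) [Module.Finite k ↥(B.map A.mkQ)]
    [Module.Finite k (V ⧸ B)] : Module.Finite k (V ⧸ A) := by
  haveI : Module.Finite k ((V ⧸ A) ⧸ B.map A.mkQ) :=
    Module.Finite.equiv (Submodule.quotientQuotientEquivQuotient A B h).symm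
  exact Module.Finite.of_submodule_quotient (B.map A.mkQ)

theorem subq (g : W →ₗ[k] V) (A : Submodule k V) :
    Nonempty ((W ⧸ A.comap g) ≃ₗ[k] ↥((LinearMap.range g).map A.mkQ)) := by
  have h1 : LinearMap.ker (A.mkQ.comp g) = A.comap g := by
    rw [LinearMap.ker_comp, Submodule.ker_mkQ]
  have h2 : LinearMap.range (A.mkQ.comp g) = (LinearMap.range g).map A.mkQ :=
    LinearMap.range_comp g A.mkQ
  exact ⟨((Submodule.quotEquivOfEq _ _ h1.symm).trans
    (LinearMap.quotKerEquivRange (A.mkQ.comp g))).trans (LinearEquiv.ofEq _ _ h2)⟩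

theorem quot_map_of_injective (g : W →ₗ[k] V) (hg : Function.Injective g) (P : Submodule k W)
    (B : Submodule k V) (hB : LinearMap.range g = B) (Q : Submodule k V) (hQ : P.map g = Q)
    [Module.Finite k (V ⧸ B)] :
    (Module.Finite k (W ⧸ P) → Module.Finite k (V ⧸ Q) ∧
        Module.finrank k (V ⧸ Q) = Module.finrank k (W ⧸ P) + Module.finrank k (V ⧸ B)) ∧
    (Module.Finite k (V ⧸ Q) → Module.Finite k (W ⧸ P)) := by
  subst hB hQ
  have hAB : P.map g ≤ LinearMap.range g := LinearMap.map_le_range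
  obtain ⟨e⟩ := subq g (P.map g)
  have hcm : (P.map g).comap g = P := Submodule.comap_map_eq_of_injective hg P
  have e' : (W ⧸ P) ≃ₗ[k] ↥((LinearMap.range g).map (P.map g).mkQ) :=
    (Submodule.quotEquivOfEq _ _ hcm.symm).trans e
  constructor
  · intro hf
    haveI : Module.Finite k ↥((LinearMap.range g).map (P.map g).mkQ) := Module.Finite.equiv e'
    haveI : Module.Finite k (V ⧸ P.map g) := finite_quot_of (P.map g) _ hAB
    refine ⟨inferInstance, ?_⟩
    rw [codim_add (P.map g) _ hAB, e'.finrank_eq]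
  · intro hf
    exact Module.Finite.equiv e'.symm

end General

section Main
variable {k : Type u} [Field k] {s : ℕ}

local notation "VV" => (Fin s → PowerSeries k)

theorem xi_ne (j i : Fin s) : (Pi.mulSingle j PowerSeries.X : VV) i ≠ 0 := by
  rcases eq_or_ne i j with rfl | h
  · rw [Pi.mulSingle_eq_same]
    exact PowerSeries.X_ne_zero
  · rw [Pi.mulSingle_eq_of_ne h]
    exact one_ne_zero

theorem T_inj (j : Fin s) :
    Function.Injective (LinearMap.mulLeft k (Pi.mulSingle j PowerSeries.X : VV)) := by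
  intro f g h
  funext i
  have h1 := congrFun h i
  rw [LinearMap.mulLeft_apply, LinearMap.mulLeft_apply, Pi.mul_apply, Pi.mul_apply] at h1
  exact mul_left_cancel₀ (xi_ne j i) h1

theorem rank_TT (j : Fin s) :
    Module.Finite k (VV ⧸ LinearMap.range (LinearMap.mulLeft k (Pi.mulSingle j PowerSeries.X : VV))) ∧
    Module.finrank k
      (VV ⧸ LinearMap.range (LinearMap.mulLeft k (Pi.mulSingle j PowerSeries.X : VV))) = 1 := by
  let ev : VV →ₗ[k] k := (PowerSeries.coeff (R := k) 0).comp (LinearMap.proj j)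
  have hs : Function.Surjective ev := fun c =>
    ⟨fun _ => PowerSeries.C c, PowerSeries.coeff_zero_C c⟩
  have hk : LinearMap.range (LinearMap.mulLeft k (Pi.mulSingle j PowerSeries.X : VV)) =
      LinearMap.ker ev := by
    ext f
    rw [LinearMap.mem_ker]
    constructor
    · rintro ⟨g, rfl⟩
      show PowerSeries.coeff 0 (((Pi.mulSingle j PowerSeries.X : VV) * g) j) = 0
      rw [Pi.mul_apply, Pi.mulSingle_eq_same, PowerSeries.coeff_zero_eq_constantCoeff_apply]
      exact PowerSeries.X_dvd_iff.mp (Dvd.intro _ rfl)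
    · intro h
      have h' : PowerSeries.X ∣ f j := by
        rw [PowerSeries.X_dvd_iff, ← PowerSeries.coeff_zero_eq_constantCoeff_apply]
        exact h
      obtain ⟨q, hq⟩ := h'
      refine ⟨Function.update f j q, ?_⟩
      funext i
      rw [LinearMap.mulLeft_apply, Pi.mul_apply]
      rcases eq_or_ne i j with rfl | hi
      · rw [Pi.mulSingle_eq_same, Function.update_self, hq]
      · rw [Pi.mulSingle_eq_of_ne hi, Function.update_of_ne hi, one_mul]
  let e := (Submodule.quotEquivOfEq _ _ hk).trans (ev.quotKerEquivOfSurjective hs)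
  exact ⟨Module.Finite.equiv e.symm, e.finrank_eq.trans (Module.finrank_self k)⟩

theorem range_val (R : Subalgebra k VV) :
    LinearMap.range R.val.toLinearMap = Subalgebra.toSubmodule R := by
  ext x
  constructor
  · rintro ⟨y, rfl⟩
    exact y.2
  · intro h
    exact ⟨⟨x, h⟩, rfl⟩

/-- The `k`-subspace of `V` underlying an ideal of `R`. -/
noncomputable def PV (R : Subalgebra k VV) (I : Ideal ↥R) : Submodule k VV :=
  (I.restrictScalars k).map R.val.toLinearMap

theorem RC (R : Subalgebra k VV) [Module.Finite k (VV ⧸ Subalgebra.toSubmodule R)]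
    (I : Ideal ↥R) :
    (Module.Finite k (↥R ⧸ I) → Module.Finite k (VV ⧸ PV R I) ∧
        Module.finrank k (VV ⧸ PV R I) =
          Module.finrank k (↥R ⧸ I) + Module.finrank k (VV ⧸ Subalgebra.toSubmodule R)) ∧
    (Module.Finite k (VV ⧸ PV R I) → Module.Finite k (↥R ⧸ I)) := by
  have e := Submodule.Quotient.restrictScalarsEquiv k I
  obtain ⟨h1, h2⟩ := quot_map_of_injective R.val.toLinearMap Subtype.val_injective
    (I.restrictScalars k) _ (range_val R) (PV R I) rfl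
  constructor
  · intro hf
    haveI : Module.Finite k (↥R ⧸ I.restrictScalars k) := Module.Finite.equiv e.symm
    obtain ⟨h3, h4⟩ := h1 inferInstance
    refine ⟨h3, ?_⟩
    rw [h4, e.finrank_eq]
  · intro hf
    haveI := h2 hf
    exact Module.Finite.equiv e

theorem PV_eq (R : Subalgebra k VV) (j : Fin s) (I J : Ideal ↥R)
    (hset : (Subtype.val '' (J : Set ↥R)) =
      (fun f => Pi.mulSingle j PowerSeries.X * f) '' (Subtype.val '' (I : Set ↥R))) :
    (PV R I).map (LinearMap.mulLeft k (Pi.mulSingle j PowerSeries.X : VV)) = PV R J := by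
  ext x
  constructor
  · rintro ⟨v, ⟨f, hf, rfl⟩, rfl⟩
    have h1 : (Pi.mulSingle j PowerSeries.X * (f : VV)) ∈ Subtype.val '' (J : Set ↥R) := by
      rw [hset]
      exact ⟨_, ⟨f, hf, rfl⟩, rfl⟩
    obtain ⟨r, hr, hr'⟩ := h1
    exact ⟨r, hr, hr'⟩
  · rintro ⟨r, hr, rfl⟩
    have h1 : (r : VV) ∈ Subtype.val '' (J : Set ↥R) := ⟨r, hr, rfl⟩
    rw [hset] at h1
    obtain ⟨v, ⟨f, hf, rfl⟩, hv⟩ := h1
    exact ⟨_, ⟨f, hf, rfl⟩, hv⟩

theorem dims (R : Subalgebra k VV) [Module.Finite k (VV ⧸ Subalgebra.toSubmodule R)]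
    (j : Fin s) (I J : Ideal ↥R)
    (hset : (Subtype.val '' (J : Set ↥R)) =
      (fun f => Pi.mulSingle j PowerSeries.X * f) '' (Subtype.val '' (I : Set ↥R))) :
    (Module.Finite k (↥R ⧸ I) → Module.Finite k (↥R ⧸ J) ∧
        Module.finrank k (↥R ⧸ J) = Module.finrank k (↥R ⧸ I) + 1) ∧
    (Module.Finite k (↥R ⧸ J) → Module.Finite k (↥R ⧸ I) ∧
        Module.finrank k (↥R ⧸ J) = Module.finrank k (↥R ⧸ I) + 1) := by
  obtain ⟨a1, a2⟩ := RC R I
  obtain ⟨b1, b2⟩ := RC R J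
  haveI := (rank_TT (k := k) j).1
  obtain ⟨t1, t2⟩ := quot_map_of_injective
    (LinearMap.mulLeft k (Pi.mulSingle j PowerSeries.X : VV)) (T_inj j) (PV R I) _ rfl
    (PV R J) (PV_eq R j I J hset)
  rw [(rank_TT (k := k) j).2] at t1
  constructor
  · intro hI
    obtain ⟨f1, r1⟩ := a1 hI
    obtain ⟨f2, r2⟩ := t1 f1
    have f3 := b2 f2
    obtain ⟨f4, r4⟩ := b1 f3
    exact ⟨f3, by omega⟩
  · intro hJ
    obtain ⟨f1, r1⟩ := b1 hJ
    have f2 := t2 f1
    have f3 := a2 f2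
    obtain ⟨f4, r4⟩ := a1 f3
    obtain ⟨f5, r5⟩ := t1 f2
    exact ⟨f3, by omega⟩

theorem image_phi (R : Subalgebra k VV) (j : Fin s) (I J : Ideal ↥R)
    (hset : (Subtype.val '' (J : Set ↥R)) =
      (fun f => Pi.mulSingle j PowerSeries.X * f) '' (Subtype.val '' (I : Set ↥R))) (i : Fin s) :
    (⇑((Pi.evalAlgHom k (fun _ : Fin s => PowerSeries k) i).comp R.val) '' (J : Set ↥R)) =
      (fun x => (Pi.mulSingle j PowerSeries.X : VV) i * x) ''
        (⇑((Pi.evalAlgHom k (fun _ : Fin s => PowerSeries k) i).comp R.val) '' (I : Set ↥R)) := by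
  ext x
  constructor
  · rintro ⟨r, hr, rfl⟩
    have h1 : (r : VV) ∈ Subtype.val '' (J : Set ↥R) := ⟨r, hr, rfl⟩
    rw [hset] at h1
    obtain ⟨v, ⟨f, hf, rfl⟩, hv⟩ := h1
    exact ⟨_, ⟨f, hf, rfl⟩, congrFun hv i⟩
  · rintro ⟨y, ⟨f, hf, rfl⟩, rfl⟩
    have h1 : (Pi.mulSingle j PowerSeries.X * (f : VV)) ∈ Subtype.val '' (J : Set ↥R) := by
      rw [hset]
      exact ⟨_, ⟨f, hf, rfl⟩, rfl⟩
    obtain ⟨r, hr, hr'⟩ := h1
    exact ⟨r, hr, congrFun hr' i⟩

theorem map_phi (R : Subalgebra k VV) (j : Fin s) (I J : Ideal ↥R)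
    (hset : (Subtype.val '' (J : Set ↥R)) =
      (fun f => Pi.mulSingle j PowerSeries.X * f) '' (Subtype.val '' (I : Set ↥R))) (i : Fin s) :
    Ideal.map ((Pi.evalAlgHom k (fun _ : Fin s => PowerSeries k) i).comp R.val) J =
      Ideal.span {(Pi.mulSingle j PowerSeries.X : VV) i} *
        Ideal.map ((Pi.evalAlgHom k (fun _ : Fin s => PowerSeries k) i).comp R.val) I := by
  unfold Ideal.map
  rw [Ideal.span_mul_span', Set.singleton_mul]
  exact congrArg Ideal.span (image_phi R j I J hset i)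

theorem xi_mul_pow (j : Fin s) (a : Fin s → ℕ) (i : Fin s) :
    (Pi.mulSingle j PowerSeries.X : VV) i * PowerSeries.X ^ (a i) =
      PowerSeries.X ^ (Function.update a j (a j + 1) i) := by
  rcases eq_or_ne i j with rfl | h
  · rw [Pi.mulSingle_eq_same, Function.update_self, pow_succ']
  · rw [Pi.mulSingle_eq_of_ne h, Function.update_of_ne h, one_mul]

theorem COND (R : Subalgebra k VV) (c : Fin s → ℕ)
    (hc : ∀ f : Fin s → PowerSeries k,
      (∀ g : Fin s → PowerSeries k, g * f ∈ R) ↔ ∀ i, ((c i : ℕ) : ℕ∞) ≤ (f i).order)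
    (h : VV) (hd : ∀ i, PowerSeries.X ^ (c i) ∣ h i) : h ∈ R := by
  have := (hc h).mpr (fun i => PowerSeries.nat_le_order _ _
    (PowerSeries.X_pow_dvd_iff.mp (hd i))) 1
  rwa [one_mul] at this

theorem L1 (R : Subalgebra k VV) (c : Fin s → ℕ)
    (hc : ∀ f : Fin s → PowerSeries k,
      (∀ g : Fin s → PowerSeries k, g * f ∈ R) ↔ ∀ i, ((c i : ℕ) : ℕ∞) ≤ (f i).order)
    (j : Fin s) (f : VV) (hf : f ∈ R) (hd : PowerSeries.X ^ (c j) ∣ f j) :
    Pi.mulSingle j PowerSeries.X * f ∈ R := by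
  have hw : (Pi.single j ((PowerSeries.X - 1) * f j) : VV) ∈ R := by
    apply COND R c hc
    intro i
    rcases eq_or_ne i j with rfl | h
    · rw [Pi.single_eq_same]
      exact Dvd.dvd.mul_left hd _
    · rw [Pi.single_eq_of_ne h]
      exact dvd_zero _
  have he : Pi.mulSingle j PowerSeries.X * f =
      f + Pi.single j ((PowerSeries.X - 1) * f j) := by
    funext i
    rcases eq_or_ne i j with rfl | h
    · rw [Pi.mul_apply, Pi.add_apply, Pi.mulSingle_eq_same, Pi.single_eq_same]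
      ring
    · rw [Pi.mul_apply, Pi.add_apply, Pi.mulSingle_eq_of_ne h, Pi.single_eq_of_ne h, one_mul,
        add_zero]
  rw [he]
  exact R.add_mem hf hw

theorem L2 (R : Subalgebra k VV) (c : Fin s → ℕ)
    (hc : ∀ f : Fin s → PowerSeries k,
      (∀ g : Fin s → PowerSeries k, g * f ∈ R) ↔ ∀ i, ((c i : ℕ) : ℕ∞) ≤ (f i).order)
    (j : Fin s) (g : VV) (hg : g ∈ R) (hd : PowerSeries.X ^ (c j + 1) ∣ g j) :
    ∃ r ∈ R, Pi.mulSingle j PowerSeries.X * r = g := by
  obtain ⟨q, hq⟩ := hd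
  have hw : (Pi.single j (PowerSeries.X ^ (c j) * ((1 - PowerSeries.X) * q)) : VV) ∈ R := by
    apply COND R c hc
    intro i
    rcases eq_or_ne i j with rfl | h
    · rw [Pi.single_eq_same]
      exact Dvd.intro _ rfl
    · rw [Pi.single_eq_of_ne h]
      exact dvd_zero _
  refine ⟨g + Pi.single j (PowerSeries.X ^ (c j) * ((1 - PowerSeries.X) * q)),
    R.add_mem hg hw, ?_⟩
  funext i
  rcases eq_or_ne i j with rfl | h
  · rw [Pi.mul_apply, Pi.add_apply, Pi.mulSingle_eq_same, Pi.single_eq_same, hq]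
    ring
  · rw [Pi.mul_apply, Pi.add_apply, Pi.mulSingle_eq_of_ne h, Pi.single_eq_of_ne h, one_mul,
      add_zero]

theorem mem_comp (R : Subalgebra k VV) (I : Ideal ↥R) (i : Fin s) (n : ℕ)
    (hI : Ideal.map ((Pi.evalAlgHom k (fun _ : Fin s => PowerSeries k) i).comp R.val) I =
      Ideal.span {PowerSeries.X ^ n}) (f : ↥R) (hf : f ∈ I) :
    PowerSeries.X ^ n ∣ (f : VV) i := by
  have h1 : ((Pi.evalAlgHom k (fun _ : Fin s => PowerSeries k) i).comp R.val) f ∈
      Ideal.map ((Pi.evalAlgHom k (fun _ : Fin s => PowerSeries k) i).comp R.val) I :=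
    Ideal.mem_map_of_mem _ hf
  rw [hI, Ideal.mem_span_singleton] at h1
  exact h1

/-- `ξ · I` as an ideal of `R` (those elements of `R` of the form `ξ f`, `f ∈ I`). -/
noncomputable def Jdef (R : Subalgebra k VV) (j : Fin s) (I : Ideal ↥R) : Ideal ↥R where
  carrier := {r | ∃ f ∈ I, (r : VV) = Pi.mulSingle j PowerSeries.X * (f : VV)}
  zero_mem' := ⟨0, I.zero_mem, by rw [Subalgebra.coe_zero, mul_zero]⟩
  add_mem' := by
    rintro x y ⟨f, hf, hx⟩ ⟨g, hg, hy⟩
    exact ⟨f + g, I.add_mem hf hg, by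
      rw [Subalgebra.coe_add, Subalgebra.coe_add, hx, hy, mul_add]⟩
  smul_mem' := by
    rintro t x ⟨f, hf, hx⟩
    refine ⟨t * f, I.mul_mem_left t hf, ?_⟩
    rw [smul_eq_mul, Subalgebra.coe_mul, Subalgebra.coe_mul, hx]
    ring

/-- `ξ⁻¹ · J` as an ideal of `R`. -/
noncomputable def Idef (R : Subalgebra k VV) (j : Fin s) (J : Ideal ↥R) : Ideal ↥R where
  carrier := {r | ∃ g ∈ J, (g : VV) = Pi.mulSingle j PowerSeries.X * (r : VV)}
  zero_mem' := ⟨0, J.zero_mem, by rw [Subalgebra.coe_zero, mul_zero]⟩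
  add_mem' := by
    rintro x y ⟨f, hf, hx⟩ ⟨g, hg, hy⟩
    exact ⟨f + g, J.add_mem hf hg, by
      rw [Subalgebra.coe_add, Subalgebra.coe_add, hx, hy, mul_add]⟩
  smul_mem' := by
    rintro t x ⟨g, hg, hx⟩
    refine ⟨t * g, J.mul_mem_left t hg, ?_⟩
    rw [smul_eq_mul, Subalgebra.coe_mul, Subalgebra.coe_mul, hx]
    ring

theorem main15149 (k : Type u) [Field k] (s : ℕ)
    (R : Subalgebra k (Fin s → PowerSeries k))
    (hfin : Module.Finite k ((Fin s → PowerSeries k) ⧸ Subalgebra.toSubmodule R))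
    (hloc : ∀ f ∈ R, ∀ i j : Fin s, PowerSeries.constantCoeff (f i) = PowerSeries.constantCoeff (f j))
    (c : Fin s → ℕ)
    (hc : ∀ f : Fin s → PowerSeries k,
      (∀ g : Fin s → PowerSeries k, g * f ∈ R) ↔ ∀ i, ((c i : ℕ) : ℕ∞) ≤ (f i).order)
    (j : Fin s) (d : ℕ) (a : Fin s → ℕ) (hj : c j ≤ a j) :
    (∀ I ∈ {I : Ideal ↥R | Module.Finite k (↥R ⧸ I) ∧ Module.finrank k (↥R ⧸ I) = d ∧ (∀ i : Fin s, Ideal.map ((Pi.evalAlgHom k (fun _ : Fin s => PowerSeries k) i).comp R.val) I = Ideal.span {PowerSeries.X ^ (a i)})},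
      ∃ J ∈ {I : Ideal ↥R | Module.Finite k (↥R ⧸ I) ∧ Module.finrank k (↥R ⧸ I) = d + 1 ∧ (∀ i : Fin s, Ideal.map ((Pi.evalAlgHom k (fun _ : Fin s => PowerSeries k) i).comp R.val) I = Ideal.span {PowerSeries.X ^ ((Function.update a j (a j + 1)) i)})},
        (Subtype.val '' (J : Set ↥R)) = (fun f => Pi.mulSingle j PowerSeries.X * f) '' (Subtype.val '' (I : Set ↥R))) ∧
    (∀ J ∈ {I : Ideal ↥R | Module.Finite k (↥R ⧸ I) ∧ Module.finrank k (↥R ⧸ I) = d + 1 ∧ (∀ i : Fin s, Ideal.map ((Pi.evalAlgHom k (fun _ : Fin s => PowerSeries k) i).comp R.val) I = Ideal.span {PowerSeries.X ^ ((Function.update a j (a j + 1)) i)})},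
      ∃ I ∈ {I : Ideal ↥R | Module.Finite k (↥R ⧸ I) ∧ Module.finrank k (↥R ⧸ I) = d ∧ (∀ i : Fin s, Ideal.map ((Pi.evalAlgHom k (fun _ : Fin s => PowerSeries k) i).comp R.val) I = Ideal.span {PowerSeries.X ^ (a i)})},
        (Subtype.val '' (J : Set ↥R)) = (fun f => Pi.mulSingle j PowerSeries.X * f) '' (Subtype.val '' (I : Set ↥R))) := by
  refine ⟨?_, ?_⟩
  · rintro I ⟨hI1, hI2, hI3⟩
    have hmem : ∀ f : ↥R, f ∈ I → Pi.mulSingle j PowerSeries.X * (f : Fin s → PowerSeries k) ∈ R :=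
      fun f hf => L1 R c hc j f f.2
        (dvd_trans (pow_dvd_pow _ hj) (mem_comp R I j (a j) (hI3 j) f hf))
    have hset : (Subtype.val '' ((Jdef R j I : Ideal ↥R) : Set ↥R)) =
        (fun f => Pi.mulSingle j PowerSeries.X * f) '' (Subtype.val '' (I : Set ↥R)) := by
      ext x
      constructor
      · rintro ⟨r, ⟨f, hf, hr⟩, rfl⟩
        exact ⟨_, ⟨f, hf, rfl⟩, hr.symm⟩
      · rintro ⟨v, ⟨f, hf, rfl⟩, rfl⟩
        exact ⟨⟨_, hmem f hf⟩, ⟨f, hf, rfl⟩, rfl⟩
    obtain ⟨D1, -⟩ := dims R j I (Jdef R j I) hset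
    obtain ⟨hJ1, hJ2⟩ := D1 hI1
    refine ⟨Jdef R j I, ⟨hJ1, by rw [hJ2, hI2], ?_⟩, hset⟩
    intro i
    rw [map_phi R j I (Jdef R j I) hset i, hI3 i, Ideal.span_singleton_mul_span_singleton,
      xi_mul_pow]
  · rintro J ⟨hJ1, hJ2, hJ3⟩
    have hset : (Subtype.val '' (J : Set ↥R)) =
        (fun f => Pi.mulSingle j PowerSeries.X * f) ''
          (Subtype.val '' ((Idef R j J : Ideal ↥R) : Set ↥R)) := by
      ext x
      constructor
      · rintro ⟨g, hg, rfl⟩
        have hdv : PowerSeries.X ^ (c j + 1) ∣ (g : Fin s → PowerSeries k) j := by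
          have h1 := mem_comp R J j _ (hJ3 j) g hg
          rw [Function.update_self] at h1
          exact dvd_trans (pow_dvd_pow _ (Nat.succ_le_succ hj)) h1
        obtain ⟨r, hr, hr'⟩ := L2 R c hc j g g.2 hdv
        exact ⟨_, ⟨⟨r, hr⟩, ⟨g, hg, hr'.symm⟩, rfl⟩, hr'⟩
      · rintro ⟨v, ⟨r, ⟨g, hg, hgr⟩, rfl⟩, rfl⟩
        exact ⟨g, hg, hgr⟩
    obtain ⟨-, D2⟩ := dims R j (Idef R j J) J hset
    obtain ⟨hI1, hI2⟩ := D2 hJ1
    refine ⟨Idef R j J, ⟨hI1, by omega, ?_⟩, hset⟩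
    intro i
    have h1 := map_phi R j (Idef R j J) J hset i
    rw [hJ3 i, ← xi_mul_pow, ← Ideal.span_singleton_mul_span_singleton] at h1
    exact ((Ideal.span_singleton_mul_right_inj (xi_ne j i)).mp h1).symm

end Main

end Groth.Agent.Lib.HilbZetaH1
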