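import Mathlib
import Groth.Agent.Lib.HypSm3_helper9
import Groth.Agent.Lib.EtNormal3_helper4

set_option autoImplicit false

/-!
# Smoothness of `A[t]/(t^e - s)` versus smoothness of `A/(s)` (helper3)

Hypersurface criterion (helper9's `HypSm`): for `B` smooth over a field `k`, `g ∈ B` regular and
`R = B/(g)`, `R` is smooth over `k` iff for every prime `p` of `R` there is a `k`-derivation
`D : B → R` with `D g ∉ p`.
-/

namespace Groth.Agent.Lib.SmoothRootH3

open Polynomial TensorProduct

universe u

section Crit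

variable (k B R : Type u) [Field k] [CommRing B] [CommRing R] [Algebra k B] [Algebra B R]
  [Algebra k R] [IsScalarTower k B R]

/-- the functional on `R ⊗ Ω_{B/k}` attached to a derivation `B → R` -/
noncomputable def psiOf (D : Derivation k B R) : Module.Dual R (R ⊗[B] Ω[B⁄k]) :=
  LinearMap.liftBaseChange R D.liftKaehlerDifferential

theorem psiOf_xg (D : Derivation k B R) (g : B) :
    psiOf k B R D (Groth.Agent.HypAnn9.xg k B R g) = D g := by
  unfold psiOf Groth.Agent.HypAnn9.xg
  rw [LinearMap.liftBaseChange_tmul, Derivation.liftKaehlerDifferential_comp_D, one_smul]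

/-- the derivation `B → R` attached to a functional on `R ⊗ Ω_{B/k}` -/
noncomputable def derOf (ψ : Module.Dual R (R ⊗[B] Ω[B⁄k])) : Derivation k B R :=
  ((ψ.restrictScalars B).comp (TensorProduct.mk B R (Ω[B⁄k]) 1)).compDer
    (KaehlerDifferential.D k B)

theorem derOf_apply (ψ : Module.Dual R (R ⊗[B] Ω[B⁄k])) (g : B) :
    derOf k B R ψ g = ψ (Groth.Agent.HypAnn9.xg k B R g) := rfl

theorem smooth_iff [Algebra.Smooth k B] (g : B) (hg : IsSMulRegular B g)
    (hsurj : Function.Surjective (algebraMap B R))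
    (hker : RingHom.ker (algebraMap B R) = Ideal.span {g}) :
    Algebra.Smooth k R ↔ ∀ p : Ideal R, p.IsPrime → ∃ D : Derivation k B R, D g ∉ p := by
  haveI : Algebra.FinitePresentation k R := by
    refine Algebra.FinitePresentation.of_surjective (f := IsScalarTower.toAlgHom k B R) hsurj ?_
    have : RingHom.ker (IsScalarTower.toAlgHom k B R).toRingHom = RingHom.ker (algebraMap B R) :=
      rfl
    rw [this, hker]
    exact ⟨{g}, by simp⟩
  have hsm : Algebra.Smooth k R ↔ Algebra.FormallySmooth k R :=
    ⟨fun h => h.1, fun h => ⟨h, inferInstance⟩⟩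
  rw [hsm, ← Algebra.smoothLocus_eq_univ_iff]
  constructor
  · intro h p hp
    have hp' : (⟨p, hp⟩ : PrimeSpectrum R) ∈ Algebra.smoothLocus k R := by
      rw [h]; trivial
    by_contra hcon
    push_neg at hcon
    refine Groth.Agent.HypAnn9.notMem_smoothLocus_of k B R hsurj g hker hg ⟨p, hp⟩ ?_ hp'
    intro ψ
    have := hcon (derOf k B R ψ)
    rwa [derOf_apply] at this
  · intro h
    rw [Set.eq_univ_iff_forall]
    intro p
    obtain ⟨D, hD⟩ := h p.asIdeal p.2
    refine Groth.Agent.HypAnn9.mem_smoothLocus_of k B R hsurj g hker p (psiOf k B R D) ?_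
    rwa [psiOf_xg]

end Crit

section Regular

/-- an irreducible element of a smooth algebra over a field is a non-zero-divisor -/
theorem isSMulRegular_of_irreducible (k A : Type u) [Field k] [CommRing A] [Algebra k A]
    [Algebra.Smooth k A] (s : A) (hs : Irreducible s) : IsSMulRegular A s := by
  classical
  haveI : IsNoetherianRing A := Algebra.FiniteType.isNoetherianRing k A
  set I : Ideal A := (Ideal.span {s}).annihilator with hI
  set J : Ideal A := Submodule.annihilator I with hJ
  have memI : ∀ a : A, a ∈ I ↔ a * s = 0 := by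
    intro a
    rw [hI, Submodule.mem_annihilator_span_singleton, smul_eq_mul]
  have hsup : I ⊔ J = ⊤ := by
    by_contra hne
    obtain ⟨m, hm, hle⟩ := Ideal.exists_le_maximal _ hne
    haveI : m.IsPrime := hm.isPrime
    obtain ⟨hdom, -⟩ := Groth.Agent.Lib.EtNormal3H4.isDomain_and_isIntegrallyClosed_of_smooth
      (A := k) (B := A) (S := Localization.AtPrime m) m.primeCompl
    have hIm : I ≤ m := le_trans le_sup_left hle
    have hJm : J ≤ m := le_trans le_sup_right hle
    -- `s/1 ≠ 0`
    have hs1 : algebraMap A (Localization.AtPrime m) s ≠ 0 := by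
      intro h0
      obtain ⟨⟨t, ht⟩, hts⟩ := (IsLocalization.map_eq_zero_iff m.primeCompl _ s).mp h0
      exact ht (hIm ((memI t).mpr hts))
    -- each element of `I` is killed by some `t ∉ m`
    have hkill : ∀ a ∈ I, ∃ t : A, t ∉ m ∧ t * a = 0 := by
      intro a ha
      have h0 : algebraMap A (Localization.AtPrime m) a * algebraMap A (Localization.AtPrime m) s
          = 0 := by
        rw [← map_mul, (memI a).mp ha, map_zero]
      rcases mul_eq_zero.mp h0 with h | h
      · obtain ⟨⟨t, ht⟩, hta⟩ := (IsLocalization.map_eq_zero_iff m.primeCompl _ a).mp h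
        exact ⟨t, ht, hta⟩
      · exact absurd h hs1
    obtain ⟨T, hT⟩ := (isNoetherianRing_iff_ideal_fg A).mp inferInstance I
    choose! t ht using hkill
    have hTI : ∀ a ∈ T, a ∈ I := fun a ha => by
      rw [← hT]; exact Ideal.subset_span ha
    have hprod : (∏ a ∈ T, t a) ∉ m := by
      intro hmem
      obtain ⟨a, ha, hta⟩ := (Ideal.IsPrime.prod_mem_iff).mp hmem
      exact (ht a (hTI a ha)).1 hta
    apply hprod
    apply hJm
    rw [hJ, ← hT, Ideal.span, Submodule.mem_annihilator_span]
    rintro ⟨a, ha⟩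
    rw [smul_eq_mul]
    change (∏ b ∈ T, t b) * a = 0
    rw [← Finset.mul_prod_erase T t ha, mul_comm (t a), mul_assoc, (ht a (hTI a ha)).2, mul_zero]
  obtain ⟨u, hu, v, hv, huv⟩ := Submodule.mem_sup.mp (hsup ▸ Submodule.mem_top : (1 : A) ∈ I ⊔ J)
  have hsv : s = s * v := by
    have h1 : s * u = 0 := by rw [mul_comm]; exact (memI u).mp hu
    calc s = s * (u + v) := by rw [huv, mul_one]
      _ = s * v := by rw [mul_add, h1, zero_add]
  have hvu : IsUnit v := by
    rcases hs.isUnit_or_isUnit hsv with h | h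
    · exact absurd h hs.not_isUnit
    · exact h
  -- now `s * c = 0 → c = 0`
  have hzero : ∀ c : A, s * c = 0 → c = 0 := by
    intro c hc
    have hcI : c ∈ I := (memI c).mpr (by rw [mul_comm]; exact hc)
    have hvc : v * c = 0 := by
      have := (Submodule.mem_annihilator.mp hv) c hcI
      rwa [smul_eq_mul] at this
    exact (hvu.mul_right_eq_zero).mp hvc
  intro a b hab
  have : s * (a - b) = 0 := by
    rw [mul_sub]; exact sub_eq_zero.mpr hab
  exact sub_eq_zero.mp (hzero _ this)

end Regular

section Inst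

variable {k A : Type u} [Field k] [CommRing A] [Algebra k A] (g : A[X])

noncomputable instance algPoly : Algebra A[X] (AdjoinRoot g) :=
  inferInstanceAs (Algebra A[X] (A[X] ⧸ Ideal.span {g}))

instance towerA : IsScalarTower A A[X] (AdjoinRoot g) :=
  inferInstanceAs (IsScalarTower A A[X] (A[X] ⧸ Ideal.span {g}))

instance towerk : IsScalarTower k A[X] (AdjoinRoot g) :=
  inferInstanceAs (IsScalarTower k A[X] (A[X] ⧸ Ideal.span {g}))

theorem algebraMap_poly (p : A[X]) : algebraMap A[X] (AdjoinRoot g) p = AdjoinRoot.mk g p := rfl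

end Inst

section Ext

variable {k A : Type u} [Field k] [CommRing A] [Algebra k A] (g : A[X])

/-- evaluation of a polynomial with coefficients in `A[X]/(g)` at the root, `A[X]`-linear -/
noncomputable def evalRoot : PolynomialModule A (AdjoinRoot g) →ₗ[A[X]] AdjoinRoot g where
  toFun q := PolynomialModule.eval (AdjoinRoot.root g)
    (PolynomialModule.map (AdjoinRoot g) (LinearMap.id : AdjoinRoot g →ₗ[A] AdjoinRoot g) q)
  map_add' x y := by rw [map_add, map_add]
  map_smul' p q := by
    rw [RingHom.id_apply, PolynomialModule.map_smul, PolynomialModule.eval_smul,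
      Polynomial.eval_map, ← Polynomial.aeval_def, AdjoinRoot.aeval_eq]
    rfl

theorem evalRoot_single (i : ℕ) (m : AdjoinRoot g) :
    evalRoot g (PolynomialModule.single A i m) = AdjoinRoot.root g ^ i * m := by
  change PolynomialModule.eval (AdjoinRoot.root g)
    (PolynomialModule.map (AdjoinRoot g) (LinearMap.id : AdjoinRoot g →ₗ[A] AdjoinRoot g)
      (PolynomialModule.single A i m)) = _
  rw [PolynomialModule.map_single, PolynomialModule.eval_single, LinearMap.id_apply, smul_eq_mul]

/-- extension of a derivation `A → A[X]/(g)` to `A[X]`, killing `X` -/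
noncomputable def extDer (D₀ : Derivation k A (AdjoinRoot g)) :
    Derivation k A[X] (AdjoinRoot g) :=
  (evalRoot g).compDer D₀.mapCoeffs

theorem extDer_C (D₀ : Derivation k A (AdjoinRoot g)) (a : A) :
    extDer g D₀ (C a) = D₀ a := by
  change evalRoot g (D₀.mapCoeffs (C a)) = _
  rw [Derivation.mapCoeffs_C, evalRoot_single, pow_zero, one_mul]

theorem extDer_X (D₀ : Derivation k A (AdjoinRoot g)) :
    extDer g D₀ X = 0 := by
  change evalRoot g (D₀.mapCoeffs X) = _
  rw [Derivation.mapCoeffs_X, map_zero]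

end Ext

section Main

variable (k A : Type u) [Field k] [CommRing A] [Algebra k A] [Algebra.Smooth k A]
  (s : A) (e : ℕ)

/-- the polynomial `X^e - s` -/
noncomputable abbrev gpoly : A[X] := X ^ e - C s

/-- reduction `A[X]/(X^e - s) → A/(s)`, `X ↦ 0` -/
noncomputable def piHom (he : 1 ≤ e) : AdjoinRoot (gpoly A s e) →ₐ[A] A ⧸ Ideal.span {s} :=
  AdjoinRoot.liftAlgHom (gpoly A s e) (Algebra.ofId A (A ⧸ Ideal.span {s})) 0 (by
    rw [gpoly, eval₂_sub, eval₂_pow, eval₂_X, eval₂_C, zero_pow (by omega), zero_sub, neg_eq_zero]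
    change algebraMap A (A ⧸ Ideal.span {s}) s = 0
    rw [Ideal.Quotient.algebraMap_eq, Ideal.Quotient.eq_zero_iff_mem]
    exact Ideal.mem_span_singleton_self s)

theorem piHom_root (he : 1 ≤ e) : piHom A s e he (AdjoinRoot.root _) = 0 := by
  unfold piHom
  rw [AdjoinRoot.liftAlgHom_root]

theorem piHom_of (he : 1 ≤ e) (a : A) :
    piHom A s e he (AdjoinRoot.of _ a) = Ideal.Quotient.mk _ a := by
  unfold piHom
  rw [AdjoinRoot.liftAlgHom_of]
  rfl

theorem piHom_surjective (he : 1 ≤ e) : Function.Surjective (piHom A s e he) := by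
  intro y
  obtain ⟨a, rfl⟩ := Ideal.Quotient.mk_surjective y
  exact ⟨AdjoinRoot.of _ a, piHom_of A s e he a⟩

theorem root_pow_eq (he : 1 ≤ e) :
    (AdjoinRoot.root (gpoly A s e)) ^ e = AdjoinRoot.of _ s := by
  have h := AdjoinRoot.mk_self (f := gpoly A s e)
  rw [gpoly, map_sub, map_pow, AdjoinRoot.mk_X, AdjoinRoot.mk_C, sub_eq_zero] at h
  exact h

theorem ker_piHom (he : 1 ≤ e) :
    RingHom.ker (piHom A s e he : AdjoinRoot (gpoly A s e) →+* A ⧸ Ideal.span {s}) =
      Ideal.span {AdjoinRoot.root (gpoly A s e)} := by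
  apply le_antisymm
  · intro y hy
    rw [RingHom.mem_ker] at hy
    obtain ⟨f, rfl⟩ := AdjoinRoot.mk_surjective y
    have hf : f = f.divX * X + C (f.coeff 0) := (Polynomial.divX_mul_X_add f).symm
    have h0 : piHom A s e he (AdjoinRoot.mk _ f) = Ideal.Quotient.mk _ (f.coeff 0) := by
      change (piHom A s e he) (AdjoinRoot.mk _ f) = _
      rw [hf, map_add, map_mul, AdjoinRoot.mk_X, AdjoinRoot.mk_C]
      rw [map_add, map_mul, piHom_root, mul_zero, zero_add, piHom_of]
      simp
    have h1 : f.coeff 0 ∈ Ideal.span {s} := by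
      rw [← Ideal.Quotient.eq_zero_iff_mem, ← h0]
      exact hy
    obtain ⟨a, ha⟩ := Ideal.mem_span_singleton'.mp h1
    rw [hf, map_add, map_mul, AdjoinRoot.mk_X, AdjoinRoot.mk_C, ← ha, map_mul,
      ← root_pow_eq A s e he]
    obtain ⟨e', rfl⟩ : ∃ e', e = e' + 1 := ⟨e - 1, by omega⟩
    rw [Ideal.mem_span_singleton']
    refine ⟨AdjoinRoot.mk _ f.divX + AdjoinRoot.of _ a * AdjoinRoot.root _ ^ e', ?_⟩
    ring
  · rw [Ideal.span_le, Set.singleton_subset_iff]
    exact (RingHom.mem_ker).mpr (piHom_root A s e he)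

theorem gpoly_regular (he : 1 ≤ e) : IsSMulRegular A[X] (gpoly A s e) := by
  have hm : (gpoly A s e).Monic := Polynomial.monic_X_pow_sub_C s (by omega)
  exact (hm.isRegular).left.isSMulRegular

theorem main (hs : Irreducible s) (he : 2 ≤ e) (hek : (e : k) ≠ 0) :
    Algebra.Smooth k (AdjoinRoot (X ^ e - C s : A[X])) ↔
      Algebra.Smooth k (A ⧸ Ideal.span {s}) := by
  have he1 : 1 ≤ e := by omega
  haveI : Algebra.Smooth A A[X] := {}
  haveI : Algebra.Smooth k A[X] := Algebra.Smooth.comp k A A[X]
  have hsurj1 : Function.Surjective (algebraMap A[X] (AdjoinRoot (gpoly A s e))) := AdjoinRoot.mk_surjective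
  have hker1 : RingHom.ker (algebraMap A[X] (AdjoinRoot (gpoly A s e))) = Ideal.span {gpoly A s e} := Ideal.mk_ker
  have hsurj2 : Function.Surjective (algebraMap A (A ⧸ Ideal.span {s})) :=
    Ideal.Quotient.mk_surjective
  have hker2 : RingHom.ker (algebraMap A (A ⧸ Ideal.span {s})) = Ideal.span {s} := Ideal.mk_ker
  have hsreg : IsSMulRegular A s := isSMulRegular_of_irreducible k A s hs
  change Algebra.Smooth k (AdjoinRoot (gpoly A s e)) ↔ _
  rw [smooth_iff k A[X] (AdjoinRoot (gpoly A s e)) (gpoly A s e) (gpoly_regular A s e he1) hsurj1 hker1,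
    smooth_iff k A (A ⧸ Ideal.span {s}) s hsreg hsurj2 hker2]
  set π := piHom A s e he1 with hπ
  have hDg : ∀ D : Derivation k A[X] (AdjoinRoot (gpoly A s e)),
      D (gpoly A s e) = ((e : A[X]) * X ^ (e - 1)) • D X - D (C s) := by
    intro D
    change D (X ^ e - C s) = _
    rw [map_sub, Derivation.leibniz_pow, mul_smul, Nat.cast_smul_eq_nsmul]
  constructor
  · -- smoothness of `A[X]/(g)` implies that of `A/(s)`
    intro h q hq
    set p : Ideal (AdjoinRoot (gpoly A s e)) := q.comap (π : AdjoinRoot (gpoly A s e) →+* A ⧸ Ideal.span {s}) with hp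
    haveI : p.IsPrime := Ideal.comap_isPrime _ _
    obtain ⟨D, hD⟩ := h p inferInstance
    have hroot : AdjoinRoot.root (gpoly A s e) ∈ p := by
      rw [hp, Ideal.mem_comap]
      change π (AdjoinRoot.root (gpoly A s e)) ∈ q
      rw [hπ, piHom_root]
      exact zero_mem _
    have hDs : D (C s) ∉ p := by
      intro hmem
      apply hD
      rw [hDg]
      refine Ideal.sub_mem _ ?_ hmem
      rw [Algebra.smul_def]
      apply Ideal.mul_mem_right
      change AdjoinRoot.mk (gpoly A s e) ((e : A[X]) * X ^ (e - 1)) ∈ p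
      rw [map_mul, map_pow, AdjoinRoot.mk_X]
      apply Ideal.mul_mem_left
      obtain ⟨e', he'⟩ : ∃ e', e - 1 = e' + 1 := ⟨e - 2, by omega⟩
      rw [he', pow_succ]
      exact Ideal.mul_mem_left _ _ hroot
    refine ⟨(π.toLinearMap).compDer (D.compAlgebraMap A), ?_⟩
    intro hmem
    apply hDs
    rw [hp, Ideal.mem_comap]
    exact hmem
  · -- smoothness of `A/(s)` implies that of `A[X]/(g)`
    intro h p hp
    by_cases hroot : AdjoinRoot.root (gpoly A s e) ∈ p
    · have hkerp : RingHom.ker (π : AdjoinRoot (gpoly A s e) →+* A ⧸ Ideal.span {s}) ≤ p := by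
        rw [hπ, ker_piHom, Ideal.span_le, Set.singleton_subset_iff]
        exact hroot
      have hπs : Function.Surjective (π : AdjoinRoot (gpoly A s e) →+* A ⧸ Ideal.span {s}) :=
        piHom_surjective A s e he1
      set q : Ideal (A ⧸ Ideal.span {s}) := p.map (π : AdjoinRoot (gpoly A s e) →+* A ⧸ Ideal.span {s})
        with hq
      haveI : q.IsPrime := Ideal.map_isPrime_of_surjective hπs hkerp
      have hcomap : q.comap (π : AdjoinRoot (gpoly A s e) →+* A ⧸ Ideal.span {s}) = p := by
        rw [hq, Ideal.comap_map_of_surjective _ hπs]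
        exact sup_eq_left.mpr hkerp
      obtain ⟨D₀', hD₀'⟩ := h q inferInstance
      -- lift `D₀'` along `π`
      obtain ⟨l, hl⟩ := Module.projective_lifting_property π.toLinearMap
        D₀'.liftKaehlerDifferential hπs
      set D₀ : Derivation k A (AdjoinRoot (gpoly A s e)) := l.compDer (KaehlerDifferential.D k A) with hD₀
      have hπD₀ : ∀ a : A, π (D₀ a) = D₀' a := by
        intro a
        have := LinearMap.congr_fun hl (KaehlerDifferential.D k A a)
        rw [Derivation.liftKaehlerDifferential_comp_D] at this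
        exact this
      refine ⟨extDer (gpoly A s e) D₀, ?_⟩
      rw [hDg, extDer_X, smul_zero, zero_sub, extDer_C]
      intro hmem
      apply hD₀'
      have h2 : D₀ s ∈ p := by
        have := p.neg_mem hmem
        rwa [neg_neg] at this
      rw [← hπD₀, hq]
      exact Ideal.mem_map_of_mem _ h2
    · refine ⟨(Polynomial.mkDerivation A (1 : AdjoinRoot (gpoly A s e))).restrictScalars k, ?_⟩
      change (Polynomial.mkDerivation A (1 : AdjoinRoot (gpoly A s e))) (gpoly A s e) ∉ p
      rw [Polynomial.mkDerivation_apply]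
      change derivative (X ^ e - C s : A[X]) • (1 : AdjoinRoot (gpoly A s e)) ∉ p
      rw [derivative_sub, derivative_C, sub_zero,
        derivative_X_pow, Algebra.smul_def, mul_one]
      change AdjoinRoot.mk (gpoly A s e) (C (e : A) * X ^ (e - 1)) ∉ p
      rw [map_mul, map_pow, AdjoinRoot.mk_X, AdjoinRoot.mk_C]
      intro hmem
      rcases (hp.mem_or_mem hmem) with h1 | h1
      · have hu : IsUnit (AdjoinRoot.of (gpoly A s e) (e : A)) := by
          have : AdjoinRoot.of (gpoly A s e) (e : A) = algebraMap k (AdjoinRoot (gpoly A s e)) (e : k) := by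
            rw [map_natCast, map_natCast]
          rw [this]
          exact (IsUnit.mk0 _ hek).map _
        exact hp.ne_top (Ideal.eq_top_of_isUnit_mem _ h1 hu)
      · exact hroot (hp.mem_of_pow_mem _ h1)

end Main

end Groth.Agent.Lib.SmoothRootH3
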