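import Mathlib
import Groth.Agent.Lib.SmoothRoot_helper3

set_option autoImplicit false

/-!
# Smoothness of the charts `k[t,w]/(a(t) + b(t) w)`, `k[t,w]/(a(t) w + b(t))` (helper3)

Jacobian criterion for plane curves through `SmoothRootH3.smooth_iff`, and the comparison with the
resultant with prescribed sizes.
-/

namespace Groth.Agent.Lib.HirzSmoothH3

universe u

variable (k : Type u) [Field k]

/-- the polynomial ring in two variables -/
abbrev B := MvPolynomial (Fin 2) k

section Jac

variable {k}

theorem der_formula {M : Type u} [AddCommGroup M] [Module (B k) M] [Module k M]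
    [IsScalarTower k (B k) M] (D : Derivation k (B k) M) (g : B k) :
    D g = MvPolynomial.pderiv 0 g • D (MvPolynomial.X 0) +
      MvPolynomial.pderiv 1 g • D (MvPolynomial.X 1) := by
  set D'' : Derivation k (B k) M :=
    (LinearMap.toSpanSingleton (B k) M (D (MvPolynomial.X 0))).compDer (MvPolynomial.pderiv 0) +
    (LinearMap.toSpanSingleton (B k) M (D (MvPolynomial.X 1))).compDer (MvPolynomial.pderiv 1)
    with hD''
  have happ : ∀ f : B k, D'' f = MvPolynomial.pderiv 0 f • D (MvPolynomial.X 0) +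
      MvPolynomial.pderiv 1 f • D (MvPolynomial.X 1) := fun f => rfl
  have : D = D'' := by
    apply MvPolynomial.derivation_ext
    intro i
    rw [happ]
    fin_cases i
    · simp [MvPolynomial.pderiv_X_self, MvPolynomial.pderiv_X_of_ne]
    · simp [MvPolynomial.pderiv_X_self, MvPolynomial.pderiv_X_of_ne]
  rw [this, happ, ← this]

theorem smooth_quot_iff (g : B k) (hg : g ≠ 0) :
    Algebra.Smooth k (B k ⧸ Ideal.span {g}) ↔
      Ideal.span {g, MvPolynomial.pderiv 0 g, MvPolynomial.pderiv 1 g} = ⊤ := by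
  haveI : Algebra.Smooth k (B k) := {}
  have hreg : IsSMulRegular (B k) g := fun x y h => mul_left_cancel₀ hg h
  rw [Groth.Agent.Lib.SmoothRootH3.smooth_iff k (B k) (B k ⧸ Ideal.span {g}) g hreg
    Ideal.Quotient.mk_surjective Ideal.mk_ker]
  constructor
  · intro h
    by_contra hne
    obtain ⟨m, hm, hle⟩ := Ideal.exists_le_maximal _ hne
    have hgm : g ∈ m := hle (Ideal.subset_span (by simp))
    have h0m : MvPolynomial.pderiv 0 g ∈ m := hle (Ideal.subset_span (by simp))
    have h1m : MvPolynomial.pderiv 1 g ∈ m := hle (Ideal.subset_span (by simp))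
    have hker : RingHom.ker (Ideal.Quotient.mk (Ideal.span {g})) ≤ m := by
      rw [Ideal.mk_ker, Ideal.span_le, Set.singleton_subset_iff]
      exact hgm
    haveI : (m.map (Ideal.Quotient.mk (Ideal.span {g}))).IsPrime :=
      Ideal.map_isPrime_of_surjective Ideal.Quotient.mk_surjective hker
    obtain ⟨D, hD⟩ := h (m.map (Ideal.Quotient.mk (Ideal.span {g}))) inferInstance
    apply hD
    rw [der_formula D g]
    refine Ideal.add_mem _ ?_ ?_
    · rw [Algebra.smul_def]
      exact Ideal.mul_mem_right _ _ (Ideal.mem_map_of_mem _ h0m)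
    · rw [Algebra.smul_def]
      exact Ideal.mul_mem_right _ _ (Ideal.mem_map_of_mem _ h1m)
  · intro h p hp
    by_contra hcon
    push_neg at hcon
    have h0 : Ideal.Quotient.mk (Ideal.span {g}) (MvPolynomial.pderiv 0 g) ∈ p :=
      hcon ((Algebra.linearMap (B k) (B k ⧸ Ideal.span {g})).compDer (MvPolynomial.pderiv 0))
    have h1 : Ideal.Quotient.mk (Ideal.span {g}) (MvPolynomial.pderiv 1 g) ∈ p :=
      hcon ((Algebra.linearMap (B k) (B k ⧸ Ideal.span {g})).compDer (MvPolynomial.pderiv 1))
    have hg0 : Ideal.Quotient.mk (Ideal.span {g}) g ∈ p := by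
      rw [Ideal.Quotient.eq_zero_iff_mem.mpr (Ideal.mem_span_singleton_self g)]
      exact zero_mem _
    have hle : Ideal.span {g, MvPolynomial.pderiv 0 g, MvPolynomial.pderiv 1 g} ≤
        p.comap (Ideal.Quotient.mk (Ideal.span {g})) := by
      rw [Ideal.span_le]
      intro x hx
      simp only [Set.mem_insert_iff, Set.mem_singleton_iff] at hx
      rcases hx with rfl | rfl | rfl
      · exact hg0
      · exact h0
      · exact h1
    rw [h, top_le_iff] at hle
    exact hp.ne_top (by
      rw [Ideal.eq_top_iff_one]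
      have : (1 : B k) ∈ p.comap (Ideal.Quotient.mk (Ideal.span {g})) := by
        rw [hle]; exact Submodule.mem_top
      simpa using this)

end Jac

section Charts

variable {k}

/-- `k[X] → k[X₀,X₁]`, `X ↦ X₀` -/
noncomputable def φ : Polynomial k →ₐ[k] B k := Polynomial.aeval (MvPolynomial.X 0)

/-- `a(X₀) + b(X₀) X₁` -/
noncomputable def G₁ (a b : Polynomial k) : B k := φ a + φ b * MvPolynomial.X 1

/-- `a(X₀) X₁ + b(X₀)` -/
noncomputable def G₂ (a b : Polynomial k) : B k := φ a * MvPolynomial.X 1 + φ b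

theorem pderiv_φ (i : Fin 2) (c : Polynomial k) :
    MvPolynomial.pderiv i (φ c) = φ (Polynomial.derivative c) *
      MvPolynomial.pderiv i (MvPolynomial.X 0 : B k) := by
  unfold φ
  rw [Derivation.comp_aeval_eq, smul_eq_mul]

theorem pderiv0_φ (c : Polynomial k) :
    MvPolynomial.pderiv 0 (φ c) = φ (Polynomial.derivative c) := by
  rw [pderiv_φ, MvPolynomial.pderiv_X_self, mul_one]

theorem pderiv1_φ (c : Polynomial k) : MvPolynomial.pderiv 1 (φ c) = 0 := by
  rw [pderiv_φ, MvPolynomial.pderiv_X_of_ne (by decide), mul_zero]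

theorem pderiv1_G₁ (a b : Polynomial k) : MvPolynomial.pderiv 1 (G₁ a b) = φ b := by
  unfold G₁
  rw [map_add, Derivation.leibniz, pderiv1_φ, pderiv1_φ, MvPolynomial.pderiv_X_self]
  simp

theorem pderiv0_G₁ (a b : Polynomial k) :
    MvPolynomial.pderiv 0 (G₁ a b) =
      φ (Polynomial.derivative a) + φ (Polynomial.derivative b) * MvPolynomial.X 1 := by
  unfold G₁
  rw [map_add, Derivation.leibniz, pderiv0_φ, pderiv0_φ,
    MvPolynomial.pderiv_X_of_ne (by decide)]
  simp [mul_comm]

theorem pderiv1_G₂ (a b : Polynomial k) : MvPolynomial.pderiv 1 (G₂ a b) = φ a := by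
  unfold G₂
  rw [map_add, Derivation.leibniz, pderiv1_φ, pderiv1_φ, MvPolynomial.pderiv_X_self]
  simp

theorem pderiv0_G₂ (a b : Polynomial k) :
    MvPolynomial.pderiv 0 (G₂ a b) =
      φ (Polynomial.derivative a) * MvPolynomial.X 1 + φ (Polynomial.derivative b) := by
  unfold G₂
  rw [map_add, Derivation.leibniz, pderiv0_φ, pderiv0_φ,
    MvPolynomial.pderiv_X_of_ne (by decide)]
  simp [mul_comm]

/-- the Jacobian ideals of the two charts -/
noncomputable def I₁ (a b : Polynomial k) : Ideal (B k) :=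
  Ideal.span {G₁ a b, MvPolynomial.pderiv 0 (G₁ a b), MvPolynomial.pderiv 1 (G₁ a b)}

noncomputable def I₂ (a b : Polynomial k) : Ideal (B k) :=
  Ideal.span {G₂ a b, MvPolynomial.pderiv 0 (G₂ a b), MvPolynomial.pderiv 1 (G₂ a b)}

/-- evaluation at a point with coordinates in an extension field -/
noncomputable def evw {K : Type u} [CommRing K] [Algebra k K] (t₀ w : K) : B k →ₐ[k] K :=
  MvPolynomial.aeval ![t₀, w]

theorem evw_φ {K : Type u} [CommRing K] [Algebra k K] (t₀ w : K) (c : Polynomial k) :
    evw t₀ w (φ c) = Polynomial.aeval t₀ c := by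
  unfold φ evw
  rw [← Polynomial.aeval_algHom_apply, MvPolynomial.aeval_X]
  rfl

theorem evw_X1 {K : Type u} [CommRing K] [Algebra k K] (t₀ w : K) :
    evw t₀ w (MvPolynomial.X 1 : B k) = w := by
  unfold evw
  rw [MvPolynomial.aeval_X]
  rfl

theorem ideals_top_iff (a b : Polynomial k) (hab : a ≠ 0 ∨ b ≠ 0) :
    (I₁ a b = ⊤ ∧ I₂ a b = ⊤) ↔ IsCoprime a b := by
  classical
  constructor
  · rintro ⟨h1, h2⟩
    by_contra hnc
    -- an irreducible common factor
    have hd0 : EuclideanDomain.gcd a b ≠ 0 := by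
      intro h0
      rw [EuclideanDomain.gcd_eq_zero_iff] at h0
      rcases hab with h | h
      · exact h h0.1
      · exact h h0.2
    have hdu : ¬ IsUnit (EuclideanDomain.gcd a b) := by
      intro hu
      exact hnc (EuclideanDomain.gcd_isUnit_iff.mp hu)
    obtain ⟨π, hπ, hπd⟩ := WfDvdMonoid.exists_irreducible_factor hdu hd0
    have hπa : π ∣ a := hπd.trans (EuclideanDomain.gcd_dvd_left a b)
    have hπb : π ∣ b := hπd.trans (EuclideanDomain.gcd_dvd_right a b)
    haveI : Fact (Irreducible π) := ⟨hπ⟩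
    set t₀ : AdjoinRoot π := AdjoinRoot.root π with ht₀
    have ha0 : Polynomial.aeval t₀ a = 0 := by
      rw [ht₀, AdjoinRoot.aeval_eq, AdjoinRoot.mk_eq_zero]
      exact hπa
    have hb0 : Polynomial.aeval t₀ b = 0 := by
      rw [ht₀, AdjoinRoot.aeval_eq, AdjoinRoot.mk_eq_zero]
      exact hπb
    set α : AdjoinRoot π := Polynomial.aeval t₀ (Polynomial.derivative a) with hα
    set β : AdjoinRoot π := Polynomial.aeval t₀ (Polynomial.derivative b) with hβ
    have key1 : ∀ w : AdjoinRoot π, α + β * w ≠ 0 := by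
      intro w hw
      have hle : I₁ a b ≤ RingHom.ker (evw (k := k) t₀ w).toRingHom := by
        unfold I₁
        rw [Ideal.span_le]
        intro x hx
        simp only [Set.mem_insert_iff, Set.mem_singleton_iff] at hx
        rw [SetLike.mem_coe, RingHom.mem_ker]
        rcases hx with rfl | rfl | rfl
        · change evw t₀ w (G₁ a b) = 0
          unfold G₁
          rw [map_add, map_mul, evw_φ, evw_φ, ha0, hb0, zero_mul, add_zero]
        · change evw t₀ w (MvPolynomial.pderiv 0 (G₁ a b)) = 0
          rw [pderiv0_G₁, map_add, map_mul, evw_φ, evw_φ, evw_X1]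
          exact hw
        · change evw t₀ w (MvPolynomial.pderiv 1 (G₁ a b)) = 0
          rw [pderiv1_G₁, evw_φ, hb0]
      rw [h1, top_le_iff] at hle
      have h1' : (1 : B k) ∈ RingHom.ker (evw (k := k) t₀ w).toRingHom := by
        rw [hle]; exact Submodule.mem_top
      rw [RingHom.mem_ker, map_one] at h1'
      exact one_ne_zero h1'
    have key2 : ∀ w : AdjoinRoot π, α * w + β ≠ 0 := by
      intro w hw
      have hle : I₂ a b ≤ RingHom.ker (evw (k := k) t₀ w).toRingHom := by
        unfold I₂
        rw [Ideal.span_le]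
        intro x hx
        simp only [Set.mem_insert_iff, Set.mem_singleton_iff] at hx
        rw [SetLike.mem_coe, RingHom.mem_ker]
        rcases hx with rfl | rfl | rfl
        · change evw t₀ w (G₂ a b) = 0
          unfold G₂
          rw [map_add, map_mul, evw_φ, evw_φ, ha0, hb0, zero_mul, add_zero]
        · change evw t₀ w (MvPolynomial.pderiv 0 (G₂ a b)) = 0
          rw [pderiv0_G₂, map_add, map_mul, evw_φ, evw_φ, evw_X1]
          exact hw
        · change evw t₀ w (MvPolynomial.pderiv 1 (G₂ a b)) = 0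
          rw [pderiv1_G₂, evw_φ, ha0]
      rw [h2, top_le_iff] at hle
      have h1' : (1 : B k) ∈ RingHom.ker (evw (k := k) t₀ w).toRingHom := by
        rw [hle]; exact Submodule.mem_top
      rw [RingHom.mem_ker, map_one] at h1'
      exact one_ne_zero h1'
    have hβ0 : β = 0 := by
      by_contra hβne
      apply key1 (-α / β)
      field_simp
      ring
    apply key2 0
    rw [mul_zero, zero_add, hβ0]
  · rintro ⟨u, v, huv⟩
    have hφ : φ u * φ a + φ v * φ b = (1 : B k) := by
      rw [← map_mul, ← map_mul, ← map_add, huv, map_one]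
    constructor
    · rw [Ideal.eq_top_iff_one, ← hφ]
      have hb : φ b ∈ I₁ a b := by
        rw [← pderiv1_G₁ a b]
        exact Ideal.subset_span (by simp)
      have ha : φ a ∈ I₁ a b := by
        have hG : G₁ a b ∈ I₁ a b := Ideal.subset_span (by simp)
        have : φ a = G₁ a b - φ b * MvPolynomial.X 1 := by
          unfold G₁; ring
        rw [this]
        exact Ideal.sub_mem _ hG (Ideal.mul_mem_right _ _ hb)
      exact Ideal.add_mem _ (Ideal.mul_mem_left _ _ ha) (Ideal.mul_mem_left _ _ hb)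
    · rw [Ideal.eq_top_iff_one, ← hφ]
      have ha : φ a ∈ I₂ a b := by
        rw [← pderiv1_G₂ a b]
        exact Ideal.subset_span (by simp)
      have hb : φ b ∈ I₂ a b := by
        have hG : G₂ a b ∈ I₂ a b := Ideal.subset_span (by simp)
        have : φ b = G₂ a b - φ a * MvPolynomial.X 1 := by
          unfold G₂; ring
        rw [this]
        exact Ideal.sub_mem _ hG (Ideal.mul_mem_right _ _ ha)
      exact Ideal.add_mem _ (Ideal.mul_mem_left _ _ ha) (Ideal.mul_mem_left _ _ hb)

theorem G₁_ne_zero (a b : Polynomial k) (hab : a ≠ 0 ∨ b ≠ 0) : G₁ a b ≠ 0 := by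
  intro h0
  have ha : a = 0 := by
    have := congrArg (evw (K := Polynomial k) Polynomial.X 0) h0
    unfold G₁ at this
    rw [map_add, map_mul, evw_φ, evw_φ, evw_X1, mul_zero, add_zero, map_zero,
      Polynomial.aeval_X_left_apply] at this
    exact this
  have hb : b = 0 := by
    have h1 : MvPolynomial.pderiv 1 (G₁ a b) = 0 := by rw [h0, map_zero]
    rw [pderiv1_G₁] at h1
    have := congrArg (evw (K := Polynomial k) Polynomial.X 0) h1
    rw [evw_φ, map_zero, Polynomial.aeval_X_left_apply] at this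
    exact this
  rcases hab with h | h
  · exact h ha
  · exact h hb

theorem G₂_ne_zero (a b : Polynomial k) (hab : a ≠ 0 ∨ b ≠ 0) : G₂ a b ≠ 0 := by
  intro h0
  have hb : b = 0 := by
    have := congrArg (evw (K := Polynomial k) Polynomial.X 0) h0
    unfold G₂ at this
    rw [map_add, map_mul, evw_φ, evw_φ, evw_X1, mul_zero, zero_add, map_zero,
      Polynomial.aeval_X_left_apply] at this
    exact this
  have ha : a = 0 := by
    have h1 : MvPolynomial.pderiv 1 (G₂ a b) = 0 := by rw [h0, map_zero]
    rw [pderiv1_G₂] at h1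
    have := congrArg (evw (K := Polynomial k) Polynomial.X 0) h1
    rw [evw_φ, map_zero, Polynomial.aeval_X_left_apply] at this
    exact this
  rcases hab with h | h
  · exact h ha
  · exact h hb

theorem charts_smooth_iff (a b : Polynomial k) (hab : a ≠ 0 ∨ b ≠ 0) :
    (Algebra.Smooth k (B k ⧸ Ideal.span {G₁ a b}) ∧
      Algebra.Smooth k (B k ⧸ Ideal.span {G₂ a b})) ↔ IsCoprime a b := by
  rw [smooth_quot_iff _ (G₁_ne_zero a b hab), smooth_quot_iff _ (G₂_ne_zero a b hab)]
  exact ideals_top_iff a b hab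

end Charts

section Polys

variable {k}

/-- `∑ c_j X^(e j)` -/
noncomputable def psum {m : ℕ} (c : Fin m → k) (e : Fin m → ℕ) : Polynomial k :=
  ∑ j, Polynomial.C (c j) * Polynomial.X ^ e j

theorem coeff_psum {m : ℕ} (c : Fin m → k) (e : Fin m → ℕ) (he : Function.Injective e)
    (i : Fin m) : (psum c e).coeff (e i) = c i := by
  unfold psum
  rw [Polynomial.finset_sum_coeff, Finset.sum_eq_single i]
  · rw [Polynomial.coeff_C_mul_X_pow, if_pos rfl]
  · intro j _ hji
    rw [Polynomial.coeff_C_mul_X_pow, if_neg]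
    intro h
    exact hji (he h.symm)
  · intro h
    exact absurd (Finset.mem_univ i) h

theorem coeff_psum_of_forall_ne {m : ℕ} (c : Fin m → k) (e : Fin m → ℕ) (N : ℕ)
    (h : ∀ j, e j ≠ N) : (psum c e).coeff N = 0 := by
  unfold psum
  rw [Polynomial.finset_sum_coeff]
  refine Finset.sum_eq_zero fun j _ => ?_
  rw [Polynomial.coeff_C_mul_X_pow, if_neg]
  exact fun hN => h j hN.symm

theorem psum_ne_zero {m : ℕ} (c : Fin m → k) (e : Fin m → ℕ) (he : Function.Injective e)
    (hc : c ≠ 0) : psum c e ≠ 0 := by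
  obtain ⟨i, hi⟩ := Function.ne_iff.mp hc
  intro h0
  apply hi
  rw [← coeff_psum c e he i, h0]
  rfl

theorem natDegree_psum_le {m : ℕ} (c : Fin m → k) (e : Fin m → ℕ) (N : ℕ) (h : ∀ j, e j ≤ N) :
    (psum c e).natDegree ≤ N := by
  unfold psum
  refine Polynomial.natDegree_sum_le_of_forall_le _ _ fun j _ => ?_
  exact (Polynomial.natDegree_C_mul_X_pow_le _ _).trans (h j)

theorem φ_psum {m : ℕ} (c : Fin m → k) (e : Fin m → ℕ) :
    φ (psum c e) = ∑ j, MvPolynomial.C (c j) * (MvPolynomial.X 0 : B k) ^ e j := by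
  unfold psum φ
  rw [map_sum]
  refine Finset.sum_congr rfl fun j _ => ?_
  rw [map_mul, map_pow, Polynomial.aeval_X, Polynomial.aeval_C]
  rfl

theorem reflect_sum {ι : Type*} (s : Finset ι) (f : ι → Polynomial k) (N : ℕ) :
    Polynomial.reflect N (∑ i ∈ s, f i) = ∑ i ∈ s, Polynomial.reflect N (f i) := by
  classical
  induction s using Finset.induction_on with
  | empty => simp
  | insert a s ha ih => rw [Finset.sum_insert ha, Finset.sum_insert ha, Polynomial.reflect_add, ih]

theorem reflect_psum {m : ℕ} (c : Fin m → k) (e : Fin m → ℕ) (N : ℕ) (h : ∀ j, e j ≤ N) :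
    Polynomial.reflect N (psum c e) = psum c (fun j => N - e j) := by
  unfold psum
  rw [reflect_sum]
  refine Finset.sum_congr rfl fun j _ => ?_
  rw [Polynomial.reflect_C_mul_X_pow, Polynomial.revAt_le (h j)]

end Polys

section Res

variable {k}

/-- coprimality of the reflected polynomials from a Bezout relation with degree bounds -/
theorem isCoprime_reflect (a b p q' : Polynomial k) (n : ℕ) (hn : 1 ≤ n) (r : k) (hr : r ≠ 0)
    (ha : a.natDegree ≤ 2) (hb : b.natDegree ≤ n) (hp : p.natDegree ≤ n - 1)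
    (hq : q'.natDegree ≤ 1) (hrel : a * p + b * q' = Polynomial.C r)
    (hlead : a.coeff 2 ≠ 0 ∨ b.coeff n ≠ 0) :
    IsCoprime (Polynomial.reflect 2 a) (Polynomial.reflect n b) := by
  have h1 : Polynomial.reflect (2 + (n - 1)) (a * p) =
      Polynomial.reflect 2 a * Polynomial.reflect (n - 1) p := Polynomial.reflect_mul a p ha hp
  have h2 : Polynomial.reflect (n + 1) (b * q') =
      Polynomial.reflect n b * Polynomial.reflect 1 q' := Polynomial.reflect_mul b q' hb hq
  have hN : 2 + (n - 1) = n + 1 := by omega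
  rw [hN] at h1
  have h3 := congrArg (Polynomial.reflect (n + 1)) hrel
  rw [Polynomial.reflect_add, h1, h2, Polynomial.reflect_C] at h3
  -- `X^(n+1)` lies in the ideal; so does an element with nonzero constant term
  set at' := Polynomial.reflect 2 a with hat'
  set bt := Polynomial.reflect n b with hbt
  have hcop : ∀ c : Polynomial k, c.coeff 0 ≠ 0 → IsCoprime c (Polynomial.X ^ (n + 1)) := by
    intro c hc
    apply IsCoprime.pow_right
    obtain ⟨d, c0, hc0, hX⟩ : ∃ d c0, c0 ≠ 0 ∧ c = Polynomial.X * d + Polynomial.C c0 :=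
      ⟨c.divX, c.coeff 0, hc, (Polynomial.X_mul_divX_add c).symm⟩
    have hinv : Polynomial.C c0⁻¹ * Polynomial.C c0 = (1 : Polynomial k) := by
      rw [← Polynomial.C_mul, inv_mul_cancel₀ hc0, Polynomial.C_1]
    refine ⟨Polynomial.C c0⁻¹, - Polynomial.C c0⁻¹ * d, ?_⟩
    rw [hX]
    linear_combination hinv
  have hXmem : ∃ u v : Polynomial k, u * at' + v * bt = Polynomial.X ^ (n + 1) := by
    refine ⟨Polynomial.C r⁻¹ * Polynomial.reflect (n - 1) p,
      Polynomial.C r⁻¹ * Polynomial.reflect 1 q', ?_⟩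
    have : Polynomial.C r⁻¹ * Polynomial.C r = (1 : Polynomial k) := by
      rw [← Polynomial.C_mul, inv_mul_cancel₀ hr, Polynomial.C_1]
    linear_combination (Polynomial.C r⁻¹) * h3 + (Polynomial.X ^ (n + 1)) * this
  obtain ⟨u, v, huv⟩ := hXmem
  rcases hlead with h | h
  · have hc0 : at'.coeff 0 ≠ 0 := by
      rw [hat', Polynomial.coeff_reflect, Polynomial.revAt_le (by omega)]
      exact h
    obtain ⟨x, y, hxy⟩ := hcop at' hc0
    refine ⟨x + y * u, y * v, ?_⟩
    linear_combination hxy + y * huv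
  · have hc0 : bt.coeff 0 ≠ 0 := by
      rw [hbt, Polynomial.coeff_reflect, Polynomial.revAt_le (by omega)]
      exact h
    obtain ⟨x, y, hxy⟩ := hcop bt hc0
    refine ⟨y * u, x + y * v, ?_⟩
    linear_combination hxy + y * huv

theorem res_iff (a b : Polynomial k) (n : ℕ) (hn : 1 ≤ n) (ha : a.natDegree ≤ 2)
    (hb : b.natDegree ≤ n) :
    Polynomial.resultant a b 2 n ≠ 0 ↔
      (IsCoprime a b ∧ IsCoprime (Polynomial.reflect 2 a) (Polynomial.reflect n b)) := by
  constructor
  · intro hr
    obtain ⟨p, q', hp, hq, hrel⟩ :=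
      Polynomial.exists_mul_add_mul_eq_C_resultant a b ha hb (Or.inl (by norm_num))
    set r := Polynomial.resultant a b 2 n with hrdef
    have hCr : Polynomial.C r⁻¹ * Polynomial.C r = (1 : Polynomial k) := by
      rw [← Polynomial.C_mul, inv_mul_cancel₀ hr, Polynomial.C_1]
    refine ⟨⟨Polynomial.C r⁻¹ * p, Polynomial.C r⁻¹ * q', ?_⟩, ?_⟩
    · linear_combination (Polynomial.C r⁻¹) * hrel + hCr
    · have hlead : a.coeff 2 ≠ 0 ∨ b.coeff n ≠ 0 := by
        by_contra hcon
        push_neg at hcon
        have h1 : a.natDegree < 2 := by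
          have := Polynomial.natDegree_le_pred ha hcon.1
          omega
        have h2 : b.natDegree < n := by
          have := Polynomial.natDegree_le_pred hb hcon.2
          omega
        exact hr (Polynomial.resultant_eq_zero_of_lt_lt a b 2 n h1 h2)
      have hp' : p.natDegree ≤ n - 1 := by
        rcases eq_or_ne p 0 with rfl | hp0
        · simp
        · have := (Polynomial.natDegree_lt_iff_degree_lt hp0).mpr hp
          omega
      have hq' : q'.natDegree ≤ 1 := by
        rcases eq_or_ne q' 0 with rfl | hq0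
        · simp
        · have := (Polynomial.natDegree_lt_iff_degree_lt hq0).mpr hq
          omega
      exact isCoprime_reflect a b p q' n hn r hr ha hb hp' hq' hrel hlead
  · rintro ⟨hc, hc'⟩
    have hlead : a.coeff 2 ≠ 0 ∨ b.coeff n ≠ 0 := by
      by_contra hcon
      push_neg at hcon
      have h1 : Polynomial.X ∣ Polynomial.reflect 2 a := by
        rw [Polynomial.X_dvd_iff, Polynomial.coeff_reflect, Polynomial.revAt_le (by omega)]
        exact hcon.1
      have h2 : Polynomial.X ∣ Polynomial.reflect n b := by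
        rw [Polynomial.X_dvd_iff, Polynomial.coeff_reflect, Polynomial.revAt_le (by omega)]
        exact hcon.2
      exact Polynomial.not_isUnit_X (hc'.isUnit_of_dvd' h1 h2)
    have hres : Polynomial.resultant a b ≠ 0 := Polynomial.resultant_ne_zero a b hc
    rcases hlead with h | h
    · have hda : a.natDegree = 2 := le_antisymm ha (Polynomial.le_natDegree_of_ne_zero h)
      have h1 := Polynomial.resultant_add_right_deg a b 2 b.natDegree (n - b.natDegree) le_rfl
      have hn' : b.natDegree + (n - b.natDegree) = n := by omega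
      rw [hn'] at h1
      rw [h1]
      refine mul_ne_zero (pow_ne_zero _ h) ?_
      have : Polynomial.resultant a b 2 b.natDegree = Polynomial.resultant a b := by
        rw [← hda]
      rw [this]
      exact hres
    · have hdb : b.natDegree = n := le_antisymm hb (Polynomial.le_natDegree_of_ne_zero h)
      have h1 := Polynomial.resultant_add_left_deg a b a.natDegree n (2 - a.natDegree) le_rfl
      have hn' : a.natDegree + (2 - a.natDegree) = 2 := by omega
      rw [hn'] at h1
      rw [h1]
      refine mul_ne_zero (mul_ne_zero (pow_ne_zero _ (by norm_num)) (pow_ne_zero _ h)) ?_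
      have : Polynomial.resultant a b a.natDegree n = Polynomial.resultant a b := by
        rw [← hdb]
      rw [this]
      exact hres

end Res

section Final

variable {k}

theorem main (n : ℕ) (hn : 3 ≤ n) (q : Fin 3 → k) (ξ : Fin (n + 1) → k) (hqξ : q ≠ 0 ∨ ξ ≠ 0) :
    (Algebra.Smooth k (B k ⧸ Ideal.span
        {G₁ (psum q (fun i => (i : ℕ))) (psum ξ (fun j => (j : ℕ)))}) ∧
      Algebra.Smooth k (B k ⧸ Ideal.span
        {G₂ (psum q (fun i => (i : ℕ))) (psum ξ (fun j => (j : ℕ)))}) ∧
      Algebra.Smooth k (B k ⧸ Ideal.span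
        {G₁ (psum q (fun i => 2 - (i : ℕ))) (psum ξ (fun j => n - (j : ℕ)))}) ∧
      Algebra.Smooth k (B k ⧸ Ideal.span
        {G₂ (psum q (fun i => 2 - (i : ℕ))) (psum ξ (fun j => n - (j : ℕ)))})) ↔
    Polynomial.resultant (psum q (fun i => (i : ℕ))) (psum ξ (fun j => (j : ℕ))) 2 n ≠ 0 := by
  have inj3 : Function.Injective (fun i : Fin 3 => (i : ℕ)) := Fin.val_injective
  have injn : Function.Injective (fun j : Fin (n + 1) => (j : ℕ)) := Fin.val_injective
  have inj3' : Function.Injective (fun i : Fin 3 => 2 - (i : ℕ)) := by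
    intro i j h
    apply Fin.val_injective
    have hi := i.2
    have hj := j.2
    simp only at h
    omega
  have injn' : Function.Injective (fun j : Fin (n + 1) => n - (j : ℕ)) := by
    intro i j h
    apply Fin.val_injective
    have hi := i.2
    have hj := j.2
    simp only at h
    omega
  have hab : psum q (fun i => (i : ℕ)) ≠ 0 ∨ psum ξ (fun j => (j : ℕ)) ≠ 0 := by
    rcases hqξ with h | h
    · exact Or.inl (psum_ne_zero q _ inj3 h)
    · exact Or.inr (psum_ne_zero ξ _ injn h)
  have hab' : psum q (fun i => 2 - (i : ℕ)) ≠ 0 ∨ psum ξ (fun j => n - (j : ℕ)) ≠ 0 := by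
    rcases hqξ with h | h
    · exact Or.inl (psum_ne_zero q _ inj3' h)
    · exact Or.inr (psum_ne_zero ξ _ injn' h)
  have hda : (psum q (fun i => (i : ℕ))).natDegree ≤ 2 :=
    natDegree_psum_le q _ 2 (fun j => by have := j.2; omega)
  have hdb : (psum ξ (fun j => (j : ℕ))).natDegree ≤ n :=
    natDegree_psum_le ξ _ n (fun j => by have := j.2; omega)
  have h2le : ∀ j : Fin 3, (j : ℕ) ≤ 2 := fun j => by have := j.2; omega
  have hnle : ∀ j : Fin (n + 1), (j : ℕ) ≤ n := fun j => by have := j.2; omega
  have hres := res_iff (psum q (fun i => (i : ℕ))) (psum ξ (fun j => (j : ℕ))) n (by omega) hda hdb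
  rw [reflect_psum q _ 2 h2le, reflect_psum ξ _ n hnle] at hres
  have hc1 := charts_smooth_iff _ _ hab
  have hc2 := charts_smooth_iff _ _ hab'
  constructor
  · rintro ⟨s1, s2, s3, s4⟩
    exact hres.mpr ⟨hc1.mp ⟨s1, s2⟩, hc2.mp ⟨s3, s4⟩⟩
  · intro hr
    obtain ⟨c1, c2⟩ := hres.mp hr
    obtain ⟨s1, s2⟩ := hc1.mpr c1
    obtain ⟨s3, s4⟩ := hc2.mpr c2
    exact ⟨s1, s2, s3, s4⟩

end Final

end Groth.Agent.Lib.HirzSmoothH3
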