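import Mathlib
import Groth.Prelude.Def_Hoch
import Groth.Prelude.Def_CoactBr2

/-!
# Base change of Hochschild cohomology of a comodule over a field (S19275)
-/

open TensorProduct

namespace Groth.Agent.Lib.HochBCH1

universe u v w x

section Abstract

variable {K : Type u} [CommRing K] {R : Type w} [CommRing R] [Algebra K R] [Module.Flat K R]

theorem baseChange_exact {N N' N'' : Type*} [AddCommGroup N] [AddCommGroup N'] [AddCommGroup N'']
    [Module K N] [Module K N'] [Module K N''] {f : N →ₗ[K] N'} {g : N' →ₗ[K] N''}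
    (h : Function.Exact f g) : Function.Exact (f.baseChange R) (g.baseChange R) := by
  have h2 := Module.Flat.lTensor_exact R h
  intro y
  exact h2 y

variable {C1 : Type v} [AddCommGroup C1] [Module K C1] {C2 : Type v} [AddCommGroup C2] [Module K C2]
variable {C1' : Type x} [AddCommGroup C1'] [Module R C1'] {C2' : Type x} [AddCommGroup C2']
  [Module R C2']

theorem exists_cohom_equiv
    (d1 : C1 →ₗ[K] C2) (B : Submodule K C1) (d1' : C1' →ₗ[R] C2') (B' : Submodule R C1')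
    (φ1 : R ⊗[K] C1 →ₗ[R] C1') (φ2 : R ⊗[K] C2 →ₗ[R] C2')
    (h1 : Function.Bijective φ1) (h2 : Function.Injective φ2)
    (comm : ∀ x, φ2 (d1.baseChange R x) = d1' (φ1 x))
    (hB : B' = (LinearMap.range (B.subtype.baseChange R)).map φ1) :
    ∃ e : R ⊗[K] (LinearMap.ker d1 ⧸ B.comap (LinearMap.ker d1).subtype) ≃ₗ[R]
        (LinearMap.ker d1' ⧸ B'.comap (LinearMap.ker d1').subtype),
      ∀ (r : R) (z : LinearMap.ker d1) (hz : φ1 (r ⊗ₜ[K] (z : C1)) ∈ LinearMap.ker d1'),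
        e (r ⊗ₜ[K] (B.comap (LinearMap.ker d1).subtype).mkQ z) =
          (B'.comap (LinearMap.ker d1').subtype).mkQ ⟨φ1 (r ⊗ₜ[K] (z : C1)), hz⟩ := by
  classical
  obtain ⟨Z, hZ⟩ : ∃ Z, Z = LinearMap.ker d1 := ⟨_, rfl⟩
  obtain ⟨Z', hZ'⟩ : ∃ Z', Z' = LinearMap.ker d1' := ⟨_, rfl⟩
  rw [← hZ, ← hZ']
  obtain ⟨N, hN⟩ : ∃ N, N = B.comap Z.subtype := ⟨_, rfl⟩
  obtain ⟨N', hN'⟩ : ∃ N', N' = B'.comap Z'.subtype := ⟨_, rfl⟩
  rw [← hN, ← hN']
  have memZ : ∀ c : C1, c ∈ Z ↔ d1 c = 0 := fun c => by rw [hZ, LinearMap.mem_ker]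
  have memZ' : ∀ c : C1', c ∈ Z' ↔ d1' c = 0 := fun c => by rw [hZ', LinearMap.mem_ker]
  have memN : ∀ z : Z, z ∈ N ↔ (z : C1) ∈ B := fun z => by rw [hN]; rfl
  have memN' : ∀ z : Z', z ∈ N' ↔ (z : C1') ∈ B' := fun z => by rw [hN']; rfl
  have hmem : ∀ x : R ⊗[K] Z, (φ1 ∘ₗ Z.subtype.baseChange R) x ∈ Z' := by
    intro x
    rw [memZ', LinearMap.comp_apply, ← comm]
    have h0 : d1 ∘ₗ Z.subtype = 0 := by
      ext z
      exact (memZ _).1 z.2
    have h3 : d1.baseChange R (Z.subtype.baseChange R x) = 0 := by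
      rw [← LinearMap.comp_apply, ← LinearMap.baseChange_comp, h0, LinearMap.baseChange_zero,
        LinearMap.zero_apply]
    rw [h3, map_zero]
  let ψ₀ : R ⊗[K] Z →ₗ[R] Z' := LinearMap.codRestrict Z' (φ1 ∘ₗ Z.subtype.baseChange R) hmem
  have hψ₀ : ∀ x, (ψ₀ x : C1') = φ1 (Z.subtype.baseChange R x) := fun x => rfl
  have exZ : Function.Exact (Z.subtype.baseChange R) (d1.baseChange R) := by
    rw [hZ]
    exact baseChange_exact (LinearMap.exact_subtype_ker_map d1)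
  have injZ : Function.Injective (Z.subtype.baseChange R) :=
    Module.Flat.lTensor_preserves_injective_linearMap (M := R) Z.subtype Z.injective_subtype
  have hψinj : Function.Injective ψ₀ := by
    intro a b hab
    have h3 := congrArg Subtype.val hab
    rw [hψ₀, hψ₀] at h3
    exact injZ (h1.1 h3)
  have hψsurj : Function.Surjective ψ₀ := by
    intro z'
    obtain ⟨t, ht⟩ := h1.2 (z' : C1')
    have h3 : d1.baseChange R t = 0 := by
      apply h2
      rw [comm, ht, map_zero]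
      exact (memZ' _).1 z'.2
    obtain ⟨a, rfl⟩ := (exZ t).1 h3
    exact ⟨a, Subtype.ext ht⟩
  let ψ : R ⊗[K] Z ≃ₗ[R] Z' := LinearEquiv.ofBijective ψ₀ ⟨hψinj, hψsurj⟩
  let p : R ⊗[K] Z →ₗ[R] R ⊗[K] (Z ⧸ N) := N.mkQ.baseChange R
  have hp : Function.Surjective p :=
    LinearMap.lTensor_surjective R N.mkQ_surjective
  have hker : LinearMap.ker p = LinearMap.range (N.subtype.baseChange R) := by
    have h3 := baseChange_exact (R := R) (LinearMap.exact_subtype_mkQ N)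
    exact LinearMap.exact_iff.mp h3
  let j : N →ₗ[K] B := LinearMap.codRestrict B (Z.subtype ∘ₗ N.subtype)
    (fun n => (memN _).1 n.2)
  have hj : B.subtype ∘ₗ j = Z.subtype ∘ₗ N.subtype := by
    ext n
    rfl
  have exj : Function.Exact j (d1 ∘ₗ B.subtype) := by
    intro b
    constructor
    · intro hb
      have hbZ : (b : C1) ∈ Z := (memZ _).2 hb
      have hbN : (⟨(b : C1), hbZ⟩ : Z) ∈ N := (memN _).2 b.2
      exact ⟨⟨⟨b.1, hbZ⟩, hbN⟩, Subtype.ext rfl⟩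
    · rintro ⟨n, rfl⟩
      exact (memZ _).1 n.1.2
  have exjR := baseChange_exact (R := R) exj
  have hmap : (LinearMap.ker p).map (ψ : R ⊗[K] Z →ₗ[R] Z') = N' := by
    rw [hker]
    apply le_antisymm
    · rintro _ ⟨_, ⟨y, rfl⟩, rfl⟩
      rw [memN']
      show (ψ₀ (N.subtype.baseChange R y) : C1') ∈ B'
      rw [hB, hψ₀]
      refine ⟨B.subtype.baseChange R (j.baseChange R y), ⟨_, rfl⟩, ?_⟩
      show φ1 _ = φ1 (Z.subtype.baseChange R (N.subtype.baseChange R y))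
      rw [← LinearMap.comp_apply (Z.subtype.baseChange R), ← LinearMap.baseChange_comp, ← hj,
        LinearMap.baseChange_comp, LinearMap.comp_apply]
    · intro z' hz'
      have hz'B : (z' : C1') ∈ B' := (memN' _).1 hz'
      rw [hB] at hz'B
      obtain ⟨_, ⟨y, rfl⟩, hy⟩ := hz'B
      have h3 : (d1 ∘ₗ B.subtype).baseChange R y = 0 := by
        rw [LinearMap.baseChange_comp, LinearMap.comp_apply]
        apply h2
        rw [comm, hy, map_zero]
        exact (memZ' _).1 z'.2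
      obtain ⟨w, rfl⟩ := (exjR y).1 h3
      refine ⟨N.subtype.baseChange R w, ⟨w, rfl⟩, Subtype.ext ?_⟩
      show φ1 (Z.subtype.baseChange R (N.subtype.baseChange R w)) = z'
      rw [← hy, ← LinearMap.comp_apply (Z.subtype.baseChange R), ← LinearMap.baseChange_comp, ← hj,
        LinearMap.baseChange_comp, LinearMap.comp_apply]
  refine ⟨(LinearMap.quotKerEquivOfSurjective p hp).symm ≪≫ₗ
    Submodule.Quotient.equiv (LinearMap.ker p) N' ψ hmap, ?_⟩
  intro r z hz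
  have h3 : r ⊗ₜ[K] N.mkQ z = p (r ⊗ₜ z) := rfl
  rw [h3, LinearEquiv.trans_apply, LinearMap.quotKerEquivOfSurjective_symm_apply]
  rfl

end Abstract

section HochPart

variable (K : Type u) [CommRing K] (R : Type w) [CommRing R] [Algebra K R]
  (A : Type v) [CommRing A] [Bialgebra K A]

section Generic

variable {M : Type v} [AddCommGroup M] [Module K M] {M' : Type (max w v)} [AddCommGroup M']
  [Module R M']

/-- The extension `r ⊗ (m ⊗ a) ↦ ψ (r ⊗ m) ⊗ (1 ⊗ a)` of `ψ`. -/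
noncomputable def ext1 (ψ : R ⊗[K] M →ₗ[R] M') :
    R ⊗[K] (M ⊗[K] A) →ₗ[R] M' ⊗[R] (R ⊗[K] A) :=
  ψ.rTensor (R ⊗[K] A) ∘ₗ
    (TensorProduct.AlgebraTensorModule.distribBaseChange K R M A).toLinearMap

theorem ext1_tmul (ψ : R ⊗[K] M →ₗ[R] M') (r : R) (m : M) (a : A) :
    ext1 K R A ψ (r ⊗ₜ[K] (m ⊗ₜ[K] a)) = ψ (r ⊗ₜ m) ⊗ₜ[R] ((1 : R) ⊗ₜ[K] a) := rfl

theorem ext1_bijective (ψ : R ⊗[K] M →ₗ[R] M') (h : Function.Bijective ψ) :
    Function.Bijective (ext1 K R A ψ) := by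
  have h3 : Function.Bijective (ψ.rTensor (R ⊗[K] A)) :=
    (LinearEquiv.rTensor (R ⊗[K] A) (LinearEquiv.ofBijective ψ h)).bijective
  exact h3.comp (TensorProduct.AlgebraTensorModule.distribBaseChange K R M A).bijective

theorem eq_ext1 (ψ : R ⊗[K] M →ₗ[R] M') (Φ : R ⊗[K] (M ⊗[K] A) →ₗ[R] M' ⊗[R] (R ⊗[K] A))
    (h : ∀ (r : R) (m : M) (a : A),
      Φ (r ⊗ₜ[K] (m ⊗ₜ[K] a)) = ψ (r ⊗ₜ m) ⊗ₜ[R] ((1 : R) ⊗ₜ[K] a)) :
    Φ = ext1 K R A ψ := by
  apply LinearMap.ext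
  intro x
  induction x using TensorProduct.induction_on with
  | zero => simp only [map_zero]
  | add x y hx hy => simp only [map_add, hx, hy]
  | tmul r y =>
    induction y using TensorProduct.induction_on with
    | zero => simp only [tmul_zero, map_zero]
    | add x y hx hy => simp only [tmul_add, map_add, hx, hy]
    | tmul m a => rw [h, ext1_tmul]

theorem ext1_rTensor {N : Type v} [AddCommGroup N] [Module K N] {N' : Type (max w v)}
    [AddCommGroup N'] [Module R N']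
    (ψ : R ⊗[K] M →ₗ[R] M') (χ : R ⊗[K] N →ₗ[R] N') (δ : M →ₗ[K] N) (δ' : M' →ₗ[R] N')
    (h : ∀ x, χ (δ.baseChange R x) = δ' (ψ x)) (r : R) (y : M ⊗[K] A) :
    ext1 K R A χ (r ⊗ₜ[K] (δ.rTensor A y)) =
      δ'.rTensor (R ⊗[K] A) (ext1 K R A ψ (r ⊗ₜ[K] y)) := by
  induction y using TensorProduct.induction_on with
  | zero => simp only [map_zero, tmul_zero]
  | add x y hx hy => simp only [map_add, tmul_add, hx, hy]
  | tmul m a =>
    rw [LinearMap.rTensor_tmul, ext1_tmul, ext1_tmul, LinearMap.rTensor_tmul, ← h,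
      LinearMap.baseChange_tmul]

theorem ext1_ext1_assoc (ψ : R ⊗[K] M →ₗ[R] M') (r : R) (m : M) (u : A ⊗[K] A) :
    ext1 K R A (ext1 K R A ψ) (r ⊗ₜ[K] ((TensorProduct.assoc K M A A).symm (m ⊗ₜ[K] u))) =
      (TensorProduct.assoc R M' (R ⊗[K] A) (R ⊗[K] A)).symm
        (ψ (r ⊗ₜ m) ⊗ₜ[R]
          (AlgebraTensorModule.tensorTensorTensorComm K R K R R R A A
            (((1 : R) ⊗ₜ[R] (1 : R)) ⊗ₜ[K] u))) := by
  induction u using TensorProduct.induction_on with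
  | zero => simp only [tmul_zero, map_zero]
  | add x y hx hy => simp only [tmul_add, map_add, hx, hy]
  | tmul x y =>
    rw [TensorProduct.assoc_symm_tmul, ext1_tmul, ext1_tmul,
      AlgebraTensorModule.tensorTensorTensorComm_tmul, TensorProduct.assoc_symm_tmul]

theorem tttc_redComul (a : A) :
    AlgebraTensorModule.tensorTensorTensorComm K R K R R R A A
        (((1 : R) ⊗ₜ[R] (1 : R)) ⊗ₜ[K] Hoch.redComul K A a) =
      Hoch.redComul R (R ⊗[K] A) ((1 : R) ⊗ₜ[K] a) := by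
  rw [Hoch.redComul_apply, Hoch.redComul_apply, tmul_sub, tmul_sub, map_sub, map_sub,
    AlgebraTensorModule.tensorTensorTensorComm_tmul,
    AlgebraTensorModule.tensorTensorTensorComm_tmul, TensorProduct.comul_tmul]
  rfl

theorem ext1_tail (ψ : R ⊗[K] M →ₗ[R] M') (r : R) (y : M ⊗[K] A) :
    ext1 K R A (ext1 K R A ψ) (r ⊗ₜ[K] (Hoch.tail K A M y)) =
      Hoch.tail R (R ⊗[K] A) M' (ext1 K R A ψ (r ⊗ₜ[K] y)) := by
  induction y using TensorProduct.induction_on with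
  | zero => simp only [map_zero, tmul_zero]
  | add x y hx hy => simp only [map_add, tmul_add, hx, hy]
  | tmul m a =>
    show ext1 K R A (ext1 K R A ψ)
        (r ⊗ₜ[K] ((TensorProduct.assoc K M A A).symm (m ⊗ₜ[K] Hoch.redComul K A a))) =
      (TensorProduct.assoc R M' (R ⊗[K] A) (R ⊗[K] A)).symm
        (ψ (r ⊗ₜ m) ⊗ₜ[R] Hoch.redComul R (R ⊗[K] A) ((1 : R) ⊗ₜ[K] a))
    rw [ext1_ext1_assoc, tttc_redComul]

theorem swap_tmul {W : Type*} [AddCommGroup W] [Module K W] (r : R) (w : W) (a : A) :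
    (r ⊗ₜ[K] w) ⊗ₜ[R] ((1 : R) ⊗ₜ[K] a) = ((1 : R) ⊗ₜ[K] w) ⊗ₜ[R] (r ⊗ₜ[K] a) := by
  have e1 : r ⊗ₜ[K] w = r • ((1 : R) ⊗ₜ[K] w) := by rw [smul_tmul', smul_eq_mul, mul_one]
  have e2 : r ⊗ₜ[K] a = r • ((1 : R) ⊗ₜ[K] a) := by rw [smul_tmul', smul_eq_mul, mul_one]
  rw [e1, e2, TensorProduct.smul_tmul]

theorem sign_cases (m : ℕ) :
    ((-1 : K) ^ m = 1 ∧ (-1 : R) ^ m = 1) ∨ ((-1 : K) ^ m = -1 ∧ (-1 : R) ^ m = -1) := by
  rcases Nat.even_or_odd m with h | h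
  · exact Or.inl ⟨h.neg_one_pow, h.neg_one_pow⟩
  · exact Or.inr ⟨h.neg_one_pow, h.neg_one_pow⟩

end Generic

section Main

variable (V : Type v) [AddCommGroup V] [Module K V] [HopfRep.Comod K A V]

attribute [local instance] CoactBr.Comod.baseChange

theorem coact_eq (φ0 : R ⊗[K] V →ₗ[R] R ⊗[K] V) (h0 : ∀ x, φ0 x = x) (r : R) (y : V ⊗[K] A) :
    ext1 K R A φ0 (r ⊗ₜ[K] y) =
      AlgebraTensorModule.tensorTensorTensorComm K R K R R R V A
        (((1 : R) ⊗ₜ[R] r) ⊗ₜ[K] y) := by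
  induction y using TensorProduct.induction_on with
  | zero => simp only [tmul_zero, map_zero]
  | add x y hx hy => simp only [tmul_add, map_add, hx, hy]
  | tmul w a =>
    rw [ext1_tmul, h0, AlgebraTensorModule.tensorTensorTensorComm_tmul]
    exact swap_tmul K R A r w a

variable (φ : ∀ n : ℕ, R ⊗[K] (Hoch.cochain K A V n) →ₗ[R]
    (Hoch.cochain R (R ⊗[K] A) (R ⊗[K] V) n))

theorem phi_succ
    (hφs : ∀ (n : ℕ) (r : R) (c : Hoch.cochain K A V n) (a : A),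
      φ (n + 1) (r ⊗ₜ[K] (c ⊗ₜ[K] a)) = (φ n (r ⊗ₜ[K] c)) ⊗ₜ[R] ((1 : R) ⊗ₜ[K] a)) (n : ℕ) :
    φ (n + 1) = ext1 K R A (φ n) :=
  eq_ext1 K R A (φ n) (φ (n + 1)) (hφs n)

theorem phi_bijective (hφ0 : ∀ x : R ⊗[K] V, φ 0 x = x)
    (hφs : ∀ (n : ℕ) (r : R) (c : Hoch.cochain K A V n) (a : A),
      φ (n + 1) (r ⊗ₜ[K] (c ⊗ₜ[K] a)) = (φ n (r ⊗ₜ[K] c)) ⊗ₜ[R] ((1 : R) ⊗ₜ[K] a)) (n : ℕ) :
    Function.Bijective (φ n) := by
  induction n with
  | zero =>
    exact ⟨fun a b hab => (hφ0 a).symm.trans (hab.trans (hφ0 b)), fun y => ⟨y, hφ0 y⟩⟩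
  | succ n ih =>
    rw [phi_succ K R A V φ hφs n]
    exact ext1_bijective K R A (φ n) ih

theorem phi_comm (hφ0 : ∀ x : R ⊗[K] V, φ 0 x = x)
    (hφs : ∀ (n : ℕ) (r : R) (c : Hoch.cochain K A V n) (a : A),
      φ (n + 1) (r ⊗ₜ[K] (c ⊗ₜ[K] a)) = (φ n (r ⊗ₜ[K] c)) ⊗ₜ[R] ((1 : R) ⊗ₜ[K] a)) (n : ℕ) :
    ∀ x : R ⊗[K] (Hoch.cochain K A V n),
      φ (n + 1) ((Hoch.d K A V n).baseChange R x) =
        Hoch.d R (R ⊗[K] A) (R ⊗[K] V) n (φ n x) := by
  induction n with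
  | zero =>
    intro x
    rw [phi_succ K R A V φ hφs 0]
    induction x using TensorProduct.induction_on with
    | zero => simp only [map_zero]
    | add x y hx hy => simp only [map_add, hx, hy]
    | tmul r v =>
      rw [LinearMap.baseChange_tmul, Hoch.d_zero_apply, hφ0, Hoch.d_zero_apply, tmul_sub,
        map_sub, coact_eq K R A V (φ 0) hφ0, ext1_tmul, hφ0]
      rfl
  | succ n ih =>
    intro x
    have e1 := phi_succ K R A V φ hφs n
    have e2 : φ (n + 1 + 1) = ext1 K R A (ext1 K R A (φ n)) := by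
      rw [phi_succ K R A V φ hφs (n + 1), e1]
    induction x using TensorProduct.induction_on with
    | zero => simp only [map_zero]
    | add x y hx hy => simp only [map_add, hx, hy]
    | tmul r y =>
      have hA := ext1_rTensor K R A (φ n) (ext1 K R A (φ n)) (Hoch.d K A V n)
        (Hoch.d R (R ⊗[K] A) (R ⊗[K] V) n) (by intro x; rw [← e1]; exact ih x) r y
      have hB := ext1_tail K R A (φ n) r y
      rw [LinearMap.baseChange_tmul, Hoch.d_succ, Hoch.d_succ, LinearMap.add_apply,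
        LinearMap.add_apply, LinearMap.smul_apply, LinearMap.smul_apply, e2, e1]
      rcases sign_cases K R (n + 1) with ⟨s1, s2⟩ | ⟨s1, s2⟩
      · rw [s1, s2, one_smul, one_smul, tmul_add, map_add, hA, hB]
      · rw [s1, s2, neg_smul, neg_smul, one_smul, one_smul, tmul_add, tmul_neg, map_add,
          map_neg, hA, hB]

theorem coboundaries_eq [Module.Flat K R] (hφ0 : ∀ x : R ⊗[K] V, φ 0 x = x)
    (hφs : ∀ (n : ℕ) (r : R) (c : Hoch.cochain K A V n) (a : A),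
      φ (n + 1) (r ⊗ₜ[K] (c ⊗ₜ[K] a)) = (φ n (r ⊗ₜ[K] c)) ⊗ₜ[R] ((1 : R) ⊗ₜ[K] a)) (n : ℕ) :
    Hoch.coboundaries R (R ⊗[K] A) (R ⊗[K] V) n =
      (LinearMap.range ((Hoch.coboundaries K A V n).subtype.baseChange R)).map (φ n) := by
  have hb := phi_bijective K R A V φ hφ0 hφs
  have hc := phi_comm K R A V φ hφ0 hφs
  cases n with
  | zero =>
    symm
    show _ = (⊥ : Submodule R _)
    rw [eq_bot_iff]
    rintro _ ⟨_, ⟨y, rfl⟩, rfl⟩
    have hy : y = 0 := by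
      induction y using TensorProduct.induction_on with
      | zero => rfl
      | add a b ha hb => rw [ha, hb, add_zero]
      | tmul r b =>
        have hb0 : b = 0 := Subtype.ext ((Submodule.mem_bot K).1 b.2)
        rw [hb0, tmul_zero]
    rw [hy, map_zero, map_zero]
    exact Submodule.zero_mem _
  | succ m =>
    show LinearMap.range (Hoch.d R (R ⊗[K] A) (R ⊗[K] V) m) =
      (LinearMap.range ((LinearMap.range (Hoch.d K A V m)).subtype.baseChange R)).map (φ (m + 1))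
    have e1 : LinearMap.range ((LinearMap.range (Hoch.d K A V m)).subtype.baseChange R) =
        LinearMap.range ((Hoch.d K A V m).baseChange R) := by
      have h3 : Hoch.d K A V m =
          (LinearMap.range (Hoch.d K A V m)).subtype ∘ₗ (Hoch.d K A V m).rangeRestrict := rfl
      conv_rhs => rw [h3, LinearMap.baseChange_comp]
      rw [LinearMap.range_comp_of_range_eq_top]
      rw [LinearMap.range_eq_top]
      exact LinearMap.lTensor_surjective R (LinearMap.surjective_rangeRestrict _)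
    rw [e1, ← LinearMap.range_comp]
    have h4 : (φ (m + 1)) ∘ₗ (Hoch.d K A V m).baseChange R =
        Hoch.d R (R ⊗[K] A) (R ⊗[K] V) m ∘ₗ φ m := LinearMap.ext (hc m)
    rw [h4, LinearMap.range_comp_of_range_eq_top _ (LinearMap.range_eq_top.2 (hb m).2)]

end Main

end HochPart

section Final

open Hoch

theorem main19275
    (K : Type u) [Field K] (A : Type v) [CommRing A] [HopfAlgebra K A]
    (V : Type v) [AddCommGroup V] [Module K V] [HopfRep.Comod K A V]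
    (R : Type w) [CommRing R] [Algebra K R]
    (φ : ∀ n : ℕ, R ⊗[K] (Hoch.cochain K A V n) →ₗ[R] (Hoch.cochain R (R ⊗[K] A) (R ⊗[K] V) n))
    (hφ0 : ∀ x : R ⊗[K] V, φ 0 x = x)
    (hφs : ∀ (n : ℕ) (r : R) (c : Hoch.cochain K A V n) (a : A),
      φ (n + 1) (r ⊗ₜ[K] (c ⊗ₜ[K] a)) = (φ n (r ⊗ₜ[K] c)) ⊗ₜ[R] ((1 : R) ⊗ₜ[K] a)) :
    letI := CoactBr.Comod.baseChange K R A V
    (∀ n : ℕ, Function.Bijective (φ n)) ∧
    (∀ (n : ℕ) (x : R ⊗[K] (Hoch.cochain K A V n)),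
        φ (n + 1) ((Hoch.d K A V n).baseChange R x) = Hoch.d R (R ⊗[K] A) (R ⊗[K] V) n (φ n x)) ∧
      ∀ n : ℕ, ∃ e : R ⊗[K] Hoch.H K A V n ≃ₗ[R] Hoch.H R (R ⊗[K] A) (R ⊗[K] V) n,
        ∀ (r : R) (z : Hoch.cocycles K A V n)
          (hz : φ n (r ⊗ₜ[K] (z : Hoch.cochain K A V n)) ∈ Hoch.cocycles R (R ⊗[K] A) (R ⊗[K] V) n),
          e (r ⊗ₜ[K] Hoch.H.mk K A V n z) = Hoch.H.mk R (R ⊗[K] A) (R ⊗[K] V) n ⟨φ n (r ⊗ₜ[K] (z : Hoch.cochain K A V n)), hz⟩ := by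
  letI := CoactBr.Comod.baseChange K R A V
  have hb := phi_bijective K R A V φ hφ0 hφs
  have hc := phi_comm K R A V φ hφ0 hφs
  refine ⟨hb, hc, ?_⟩
  intro n
  exact exists_cohom_equiv (Hoch.d K A V n) (Hoch.coboundaries K A V n)
    (Hoch.d R (R ⊗[K] A) (R ⊗[K] V) n) (Hoch.coboundaries R (R ⊗[K] A) (R ⊗[K] V) n)
    (φ n) (φ (n + 1)) (hb n) (hb (n + 1)).1 (hc n) (coboundaries_eq K R A V φ hφ0 hφs n)

end Final

end Groth.Agent.Lib.HochBCH1
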