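import Mathlib
import Groth.Prelude.Def_SGA3b

/-!
# Convolution calculus for maps out of a Hopf algebra (helper1)

For a commutative Hopf algebra `C` over `R` and commutative `R`-algebras `X`, the convolution ring
`WithConv (C →ₗ[R] X)`; post-composition `push`, the units `L p` attached to algebra maps `p : C → X`
with inverse `Li p = p ∘ S`, the two-sided ideals `InN 𝔟` of maps with values in `𝔟 X`, and the
bimodule property of `push J` for a linear map `J` which is linear over an algebra map.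
APPEND-ONLY once landed.
-/

set_option autoImplicit false
set_option linter.unusedVariables false
set_option linter.unusedSectionVars false
set_option linter.style.longLine false
set_option maxHeartbeats 1600000

universe u

open TensorProduct Coalgebra WithConv

noncomputable section

namespace Groth.Agent.Lib.HochConvH1

section Gen

variable {R : Type u} [CommRing R] {C : Type u} [CommRing C] [HopfAlgebra R C]
variable {X Y Z : Type u} [CommRing X] [CommRing Y] [CommRing Z] [Algebra R X] [Algebra R Y]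
  [Algebra R Z]

/-- post-composition with a linear map -/
def push (ℓ : X →ₗ[R] Y) (f : WithConv (C →ₗ[R] X)) : WithConv (C →ₗ[R] Y) :=
  toConv (ℓ ∘ₗ f.ofConv)

theorem push_apply (ℓ : X →ₗ[R] Y) (f : WithConv (C →ₗ[R] X)) (c : C) :
    push ℓ f c = ℓ (f c) := rfl

theorem push_add (ℓ : X →ₗ[R] Y) (f g : WithConv (C →ₗ[R] X)) :
    push ℓ (f + g) = push ℓ f + push ℓ g := by
  show toConv (ℓ ∘ₗ (f.ofConv + g.ofConv)) = toConv (ℓ ∘ₗ f.ofConv) + toConv (ℓ ∘ₗ g.ofConv)
  rw [LinearMap.comp_add, toConv_add]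

theorem push_sub (ℓ : X →ₗ[R] Y) (f g : WithConv (C →ₗ[R] X)) :
    push ℓ (f - g) = push ℓ f - push ℓ g := by
  show toConv (ℓ ∘ₗ (f.ofConv - g.ofConv)) = toConv (ℓ ∘ₗ f.ofConv) - toConv (ℓ ∘ₗ g.ofConv)
  rw [LinearMap.comp_sub, toConv_sub]

theorem push_zero (ℓ : X →ₗ[R] Y) : push ℓ (0 : WithConv (C →ₗ[R] X)) = 0 := by
  show toConv (ℓ ∘ₗ (0 : C →ₗ[R] X)) = 0
  rw [LinearMap.comp_zero, toConv_zero]

theorem push_push (ℓ' : Y →ₗ[R] Z) (ℓ : X →ₗ[R] Y) (f : WithConv (C →ₗ[R] X)) :
    push ℓ' (push ℓ f) = push (ℓ' ∘ₗ ℓ) f := rfl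

theorem push_id (f : WithConv (C →ₗ[R] X)) : push LinearMap.id f = f := rfl

theorem push_mul (h : X →ₐ[R] Y) (f g : WithConv (C →ₗ[R] X)) :
    push h.toLinearMap (f * g) = push h.toLinearMap f * push h.toLinearMap g :=
  WithConv.ext (LinearMap.algHom_comp_convMul_distrib h f g)

theorem push_one (h : X →ₐ[R] Y) : push h.toLinearMap (1 : WithConv (C →ₗ[R] X)) = 1 := by
  apply WithConv.ext
  apply LinearMap.ext
  intro c
  show h (algebraMap R X (counit c)) = algebraMap R Y (counit c)
  exact h.commutes _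

/-- the element of the convolution ring attached to an algebra map -/
def L (p : C →ₐ[R] X) : WithConv (C →ₗ[R] X) := toConv p.toLinearMap

/-- its inverse -/
def Li (p : C →ₐ[R] X) : WithConv (C →ₗ[R] X) :=
  toConv (p.toLinearMap ∘ₗ HopfAlgebraStruct.antipode R (A := C))

theorem L_apply (p : C →ₐ[R] X) (c : C) : L p c = p c := rfl

theorem L_mul_Li (p : C →ₐ[R] X) : L p * Li p = 1 := by
  have h := congrArg (push p.toLinearMap) (LinearMap.id_mul_antipode (R := R) (C := C))
  rw [push_mul, push_one] at h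
  exact h

theorem Li_mul_L (p : C →ₐ[R] X) : Li p * L p = 1 := by
  have h := congrArg (push p.toLinearMap) (LinearMap.antipode_mul_id (R := R) (C := C))
  rw [push_mul, push_one] at h
  exact h

theorem L_mul_Li_assoc (p : C →ₐ[R] X) (z : WithConv (C →ₗ[R] X)) : L p * (Li p * z) = z := by
  rw [← mul_assoc, L_mul_Li, one_mul]

theorem Li_mul_L_assoc (p : C →ₐ[R] X) (z : WithConv (C →ₗ[R] X)) : Li p * (L p * z) = z := by
  rw [← mul_assoc, Li_mul_L, one_mul]

theorem push_L (e : X →ₐ[R] Y) (p : C →ₐ[R] X) : push e.toLinearMap (L p) = L (e.comp p) := rfl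

theorem push_Li (e : X →ₐ[R] Y) (p : C →ₐ[R] X) : push e.toLinearMap (Li p) = Li (e.comp p) := rfl

/-- maps with values in `𝔟 X` -/
def InN (𝔟 : Ideal R) (f : WithConv (C →ₗ[R] X)) : Prop :=
  ∀ c, f c ∈ 𝔟.map (algebraMap R X)

theorem map_mem {𝔟 : Ideal R} (ℓ : X →ₗ[R] Y) {x : X} (hx : x ∈ 𝔟.map (algebraMap R X)) :
    ℓ x ∈ 𝔟.map (algebraMap R Y) := by
  have hx' : x ∈ 𝔟 • (⊤ : Submodule R X) := by
    rw [Ideal.smul_top_eq_map]
    exact hx
  have h1 : ℓ x ∈ 𝔟 • (⊤ : Submodule R Y) := by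
    refine Submodule.smul_induction_on hx' (fun r hr m _ => ?_) (fun a b ha hb => ?_)
    · rw [map_smul]
      exact Submodule.smul_mem_smul hr Submodule.mem_top
    · rw [map_add]
      exact add_mem ha hb
  rw [Ideal.smul_top_eq_map] at h1
  exact h1

theorem InN.zero (𝔟 : Ideal R) : InN 𝔟 (0 : WithConv (C →ₗ[R] X)) := fun c => Ideal.zero_mem _

theorem InN.add {𝔟 : Ideal R} {f g : WithConv (C →ₗ[R] X)} (hf : InN 𝔟 f) (hg : InN 𝔟 g) :
    InN 𝔟 (f + g) := fun c => Ideal.add_mem _ (hf c) (hg c)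

theorem InN.sub {𝔟 : Ideal R} {f g : WithConv (C →ₗ[R] X)} (hf : InN 𝔟 f) (hg : InN 𝔟 g) :
    InN 𝔟 (f - g) := fun c => Ideal.sub_mem _ (hf c) (hg c)

theorem InN.neg {𝔟 : Ideal R} {f : WithConv (C →ₗ[R] X)} (hf : InN 𝔟 f) :
    InN 𝔟 (-f) := fun c => Ideal.neg_mem_iff _ |>.mpr (hf c)

theorem InN.mono {𝔟 𝔠 : Ideal R} (h : 𝔟 ≤ 𝔠) {f : WithConv (C →ₗ[R] X)} (hf : InN 𝔟 f) :
    InN 𝔠 f := fun c => Ideal.map_mono h (hf c)

theorem InN.push {𝔟 : Ideal R} (ℓ : X →ₗ[R] Y) {f : WithConv (C →ₗ[R] X)} (hf : InN 𝔟 f) :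
    InN 𝔟 (push ℓ f) := fun c => map_mem ℓ (hf c)

theorem inN_top (f : WithConv (C →ₗ[R] X)) : InN ⊤ f := fun c => by
  rw [Ideal.map_top]
  exact Submodule.mem_top

theorem InN.mul {𝔟 𝔠 : Ideal R} {f g : WithConv (C →ₗ[R] X)} (hf : InN 𝔟 f) (hg : InN 𝔠 g) :
    InN (𝔟 * 𝔠) (f * g) := by
  intro c
  have key : ∀ t : C ⊗[R] C, LinearMap.mul' R X (TensorProduct.map f.ofConv g.ofConv t) ∈
      (𝔟 * 𝔠).map (algebraMap R X) := by
    intro t
    induction t using TensorProduct.induction_on with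
    | zero =>
      rw [map_zero, map_zero]
      exact Ideal.zero_mem _
    | add a b ha hb =>
      rw [map_add, map_add]
      exact Ideal.add_mem _ ha hb
    | tmul a b =>
      rw [TensorProduct.map_tmul, LinearMap.mul'_apply, Ideal.map_mul]
      exact Ideal.mul_mem_mul (hf a) (hg b)
  exact key (comul c)

theorem InN.mul_left {𝔟 : Ideal R} (g : WithConv (C →ₗ[R] X)) {f : WithConv (C →ₗ[R] X)}
    (hf : InN 𝔟 f) : InN 𝔟 (g * f) := by
  have h := InN.mul (inN_top g) hf
  rwa [Ideal.top_mul] at h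

theorem InN.mul_right {𝔟 : Ideal R} (g : WithConv (C →ₗ[R] X)) {f : WithConv (C →ₗ[R] X)}
    (hf : InN 𝔟 f) : InN 𝔟 (f * g) := by
  have h := InN.mul hf (inN_top g)
  rwa [Ideal.mul_top] at h

/-- `push J` is a left module map when `J` is linear over the algebra map `e`. -/
theorem push_mul_left (e : X →ₐ[R] Y) (J : Y →ₗ[R] X) (hJ : ∀ w z, J (e w * z) = w * J z)
    (f : WithConv (C →ₗ[R] X)) (y : WithConv (C →ₗ[R] Y)) :
    push J (push e.toLinearMap f * y) = f * push J y := by
  apply WithConv.ext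
  apply LinearMap.ext
  intro c
  have key : ∀ t : C ⊗[R] C,
      J (LinearMap.mul' R Y (TensorProduct.map (e.toLinearMap ∘ₗ f.ofConv) y.ofConv t)) =
        LinearMap.mul' R X (TensorProduct.map f.ofConv (J ∘ₗ y.ofConv) t) := by
    intro t
    induction t using TensorProduct.induction_on with
    | zero => simp only [map_zero]
    | add a b ha hb => simp only [map_add, ha, hb]
    | tmul a b =>
      rw [TensorProduct.map_tmul, LinearMap.mul'_apply, TensorProduct.map_tmul,
        LinearMap.mul'_apply, LinearMap.comp_apply, LinearMap.comp_apply,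
        AlgHom.toLinearMap_apply, hJ]
  exact key (comul c)

theorem push_mul_right (e : X →ₐ[R] Y) (J : Y →ₗ[R] X) (hJ : ∀ w z, J (e w * z) = w * J z)
    (f : WithConv (C →ₗ[R] X)) (y : WithConv (C →ₗ[R] Y)) :
    push J (y * push e.toLinearMap f) = push J y * f := by
  apply WithConv.ext
  apply LinearMap.ext
  intro c
  have key : ∀ t : C ⊗[R] C,
      J (LinearMap.mul' R Y (TensorProduct.map y.ofConv (e.toLinearMap ∘ₗ f.ofConv) t)) =
        LinearMap.mul' R X (TensorProduct.map (J ∘ₗ y.ofConv) f.ofConv t) := by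
    intro t
    induction t using TensorProduct.induction_on with
    | zero => simp only [map_zero]
    | add a b ha hb => simp only [map_add, ha, hb]
    | tmul a b =>
      rw [TensorProduct.map_tmul, LinearMap.mul'_apply, TensorProduct.map_tmul,
        LinearMap.mul'_apply, LinearMap.comp_apply, LinearMap.comp_apply,
        AlgHom.toLinearMap_apply, mul_comm, hJ, mul_comm]
  exact key (comul c)

theorem inclL_mul_inclR (f g : WithConv (C →ₗ[R] X)) (c : C) :
    (push (Algebra.TensorProduct.includeLeft : X →ₐ[R] X ⊗[R] X).toLinearMap f *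
      push (Algebra.TensorProduct.includeRight : X →ₐ[R] X ⊗[R] X).toLinearMap g) c =
      TensorProduct.map f.ofConv g.ofConv (comul c) := by
  have key : ∀ t : C ⊗[R] C,
      LinearMap.mul' R (X ⊗[R] X) (TensorProduct.map
        ((Algebra.TensorProduct.includeLeft : X →ₐ[R] X ⊗[R] X).toLinearMap ∘ₗ f.ofConv)
        ((Algebra.TensorProduct.includeRight : X →ₐ[R] X ⊗[R] X).toLinearMap ∘ₗ g.ofConv) t) =
        TensorProduct.map f.ofConv g.ofConv t := by
    intro t
    induction t using TensorProduct.induction_on with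
    | zero => simp only [map_zero]
    | add a b ha hb => simp only [map_add, ha, hb]
    | tmul a b =>
      rw [TensorProduct.map_tmul, LinearMap.mul'_apply, TensorProduct.map_tmul,
        LinearMap.comp_apply, LinearMap.comp_apply, AlgHom.toLinearMap_apply,
        AlgHom.toLinearMap_apply, Algebra.TensorProduct.includeLeft_apply,
        Algebra.TensorProduct.includeRight_apply, Algebra.TensorProduct.tmul_mul_tmul, mul_one,
        one_mul]
  exact key (comul c)

end Gen

end Groth.Agent.Lib.HochConvH1
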