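import Mathlib
import Groth.Prelude.Def_SGA3b
import Groth.Agent.Lib.HochConv1_helper1

/-!
# The Hochschild averaging step for lifting homomorphisms from a group with an invariant integral
(helper1)

`A` a commutative Hopf algebra over `R` with a normalized left invariant integral `I0 : A → R`
(`I0 1 = 1`, `Σ a₁ ⊗ I0 a₂ = 1 ⊗ I0 a`), `C` a commutative Hopf algebra, formally smooth over `R`.
If an algebra map `ψ : C → A` is comultiplicative modulo `𝔞` (`𝔞` nilpotent), then there is an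
algebra map `ψ'`, congruent to `ψ` modulo `𝔞`, which is comultiplicative modulo `𝔞²` (`step`).
The defect `c = (ψ ⊗ ψ)Δ * (Δψ)⁻¹` in the convolution ring is a 2-cocycle; integrating its last
variable gives a 1-cochain `β` with `c ≡ ∂β`, and `(1 - β) * ψ` is the corrected map.
APPEND-ONLY once landed.
-/

set_option autoImplicit false
set_option linter.unusedVariables false
set_option linter.unusedSectionVars false
set_option linter.style.longLine false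
set_option maxHeartbeats 1600000

universe u

open TensorProduct Coalgebra WithConv

noncomputable section

namespace Groth.Agent.Lib.HochStepH1

open Groth.Agent.Lib.HochConvH1

section Maps

variable (R : Type u) [CommRing R] (A : Type u) [CommRing A] [HopfAlgebra R A]

def i1 : A →ₐ[R] A ⊗[R] A := Algebra.TensorProduct.includeLeft
def i2 : A →ₐ[R] A ⊗[R] A := Algebra.TensorProduct.includeRight
def dA : A →ₐ[R] A ⊗[R] A := Bialgebra.comulAlgHom R A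
def e12 : A ⊗[R] A →ₐ[R] (A ⊗[R] A) ⊗[R] A := Algebra.TensorProduct.includeLeft
def eD1 : A ⊗[R] A →ₐ[R] (A ⊗[R] A) ⊗[R] A :=
  Algebra.TensorProduct.map (dA R A) (AlgHom.id R A)
def e23 : A ⊗[R] A →ₐ[R] (A ⊗[R] A) ⊗[R] A :=
  Algebra.TensorProduct.map (i2 R A) (AlgHom.id R A)
def eD2 : A ⊗[R] A →ₐ[R] (A ⊗[R] A) ⊗[R] A :=
  Algebra.TensorProduct.lift ((e12 R A).comp (i1 R A)) ((e23 R A).comp (dA R A))
    (fun _ _ => Commute.all _ _)

variable {R A}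

theorem i1_apply (a : A) : i1 R A a = a ⊗ₜ[R] (1 : A) := rfl
theorem i2_apply (a : A) : i2 R A a = (1 : A) ⊗ₜ[R] a := rfl
theorem dA_apply (a : A) : dA R A a = comul (R := R) a := rfl
theorem e12_apply (x : A ⊗[R] A) : e12 R A x = x ⊗ₜ[R] (1 : A) := rfl
theorem eD1_tmul (a b : A) : eD1 R A (a ⊗ₜ[R] b) = comul (R := R) a ⊗ₜ[R] b := rfl
theorem e23_tmul (a b : A) : e23 R A (a ⊗ₜ[R] b) = ((1 : A) ⊗ₜ[R] a) ⊗ₜ[R] b := rfl

theorem eD2_tmul (a b : A) :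
    eD2 R A (a ⊗ₜ[R] b) = ((a ⊗ₜ[R] (1 : A)) ⊗ₜ[R] (1 : A)) * e23 R A (comul (R := R) b) := by
  rw [eD2, Algebra.TensorProduct.lift_tmul]
  rfl

theorem E1 : (eD1 R A).comp (i1 R A) = (e12 R A).comp (dA R A) := by
  apply AlgHom.ext
  intro a
  show eD1 R A (a ⊗ₜ[R] (1 : A)) = (comul (R := R) a) ⊗ₜ[R] (1 : A)
  rw [eD1_tmul]

theorem E2 : (eD1 R A).comp (i2 R A) = (e23 R A).comp (i2 R A) := by
  apply AlgHom.ext
  intro a
  show eD1 R A ((1 : A) ⊗ₜ[R] a) = e23 R A ((1 : A) ⊗ₜ[R] a)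
  rw [eD1_tmul, e23_tmul, Bialgebra.comul_one, Algebra.TensorProduct.one_def]

theorem E3 : (e23 R A).comp (i1 R A) = (e12 R A).comp (i2 R A) := by
  apply AlgHom.ext
  intro a
  show e23 R A (a ⊗ₜ[R] (1 : A)) = ((1 : A) ⊗ₜ[R] a) ⊗ₜ[R] (1 : A)
  rw [e23_tmul]

theorem E4 : (eD2 R A).comp (i1 R A) = (e12 R A).comp (i1 R A) := by
  apply AlgHom.ext
  intro a
  show eD2 R A (a ⊗ₜ[R] (1 : A)) = (a ⊗ₜ[R] (1 : A)) ⊗ₜ[R] (1 : A)
  rw [eD2_tmul, Bialgebra.comul_one, map_one, mul_one]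

theorem E5 : (eD2 R A).comp (i2 R A) = (e23 R A).comp (dA R A) := by
  apply AlgHom.ext
  intro a
  show eD2 R A ((1 : A) ⊗ₜ[R] a) = e23 R A (comul (R := R) a)
  rw [eD2_tmul, ← Algebra.TensorProduct.one_def, ← Algebra.TensorProduct.one_def, one_mul]

theorem eD2_eq (t : A ⊗[R] A) :
    eD2 R A t = (TensorProduct.assoc R A A A).symm (LinearMap.lTensor A (comul (R := R)) t) := by
  induction t using TensorProduct.induction_on with
  | zero => simp only [map_zero]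
  | add x y hx hy => simp only [map_add, hx, hy]
  | tmul x y =>
    rw [eD2_tmul, LinearMap.lTensor_tmul]
    have key : ∀ s : A ⊗[R] A, ((x ⊗ₜ[R] (1 : A)) ⊗ₜ[R] (1 : A)) * e23 R A s =
        (TensorProduct.assoc R A A A).symm (x ⊗ₜ[R] s) := by
      intro s
      induction s using TensorProduct.induction_on with
      | zero => simp only [map_zero, mul_zero, TensorProduct.tmul_zero]
      | add p q hp hq => simp only [map_add, mul_add, TensorProduct.tmul_add, hp, hq]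
      | tmul p q =>
        rw [e23_tmul, Algebra.TensorProduct.tmul_mul_tmul, Algebra.TensorProduct.tmul_mul_tmul,
          mul_one, one_mul, one_mul, TensorProduct.assoc_symm_tmul]
    exact key _

theorem eD1_eq (t : A ⊗[R] A) :
    eD1 R A t = LinearMap.rTensor A (comul (R := R)) t := by
  induction t using TensorProduct.induction_on with
  | zero => simp only [map_zero]
  | add x y hx hy => simp only [map_add, hx, hy]
  | tmul x y => rw [eD1_tmul, LinearMap.rTensor_tmul]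

theorem E6 : (eD2 R A).comp (dA R A) = (eD1 R A).comp (dA R A) := by
  apply AlgHom.ext
  intro a
  show eD2 R A (comul (R := R) a) = eD1 R A (comul (R := R) a)
  rw [eD2_eq, eD1_eq, Coalgebra.coassoc_symm_apply]

end Maps

section Int

variable {R : Type u} [CommRing R] {A : Type u} [CommRing A] [HopfAlgebra R A]
variable (I0 : A →ₗ[R] R)

/-- integrate the last variable: `y ⊗ a ↦ I0 a • y` -/
def JJ (Y : Type u) [CommRing Y] [Algebra R Y] : Y ⊗[R] A →ₗ[R] Y :=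
  (TensorProduct.rid R Y).toLinearMap ∘ₗ (LinearMap.lTensor Y I0)

theorem JJ_tmul (Y : Type u) [CommRing Y] [Algebra R Y] (y : Y) (a : A) :
    JJ I0 Y (y ⊗ₜ[R] a) = I0 a • y := by
  rw [JJ, LinearMap.comp_apply, LinearMap.lTensor_tmul, LinearEquiv.coe_coe,
    TensorProduct.rid_tmul]

variable (h1 : I0 1 = 1)
  (hL : ∀ a : A, LinearMap.lTensor A I0 (comul (R := R) a) = (1 : A) ⊗ₜ[R] I0 a)

include h1 in
theorem J1 : JJ I0 (A ⊗[R] A) ∘ₗ (e12 R A).toLinearMap = LinearMap.id := by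
  apply LinearMap.ext
  intro x
  rw [LinearMap.comp_apply, AlgHom.toLinearMap_apply, e12_apply, JJ_tmul, h1, one_smul,
    LinearMap.id_apply]

theorem J2 : JJ I0 (A ⊗[R] A) ∘ₗ (eD1 R A).toLinearMap = (dA R A).toLinearMap ∘ₗ JJ I0 A := by
  apply TensorProduct.ext'
  intro a b
  rw [LinearMap.comp_apply, AlgHom.toLinearMap_apply, eD1_tmul, JJ_tmul, LinearMap.comp_apply,
    JJ_tmul, map_smul, AlgHom.toLinearMap_apply, dA_apply]

theorem J2' : JJ I0 (A ⊗[R] A) ∘ₗ (e23 R A).toLinearMap = (i2 R A).toLinearMap ∘ₗ JJ I0 A := by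
  apply TensorProduct.ext'
  intro a b
  rw [LinearMap.comp_apply, AlgHom.toLinearMap_apply, e23_tmul, JJ_tmul, LinearMap.comp_apply,
    JJ_tmul, AlgHom.toLinearMap_apply, i2_apply, TensorProduct.tmul_smul]

theorem J4 (w : A ⊗[R] A) (z : (A ⊗[R] A) ⊗[R] A) :
    JJ I0 (A ⊗[R] A) (e12 R A w * z) = w * JJ I0 (A ⊗[R] A) z := by
  induction z using TensorProduct.induction_on with
  | zero => simp only [map_zero, mul_zero]
  | add x y hx hy => simp only [map_add, mul_add, hx, hy]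
  | tmul x a =>
    rw [e12_apply, Algebra.TensorProduct.tmul_mul_tmul, one_mul, JJ_tmul, JJ_tmul,
      mul_smul_comm]

include hL in
theorem JJ_comul (b : A) : JJ I0 A (comul (R := R) b) = I0 b • (1 : A) := by
  rw [JJ, LinearMap.comp_apply, hL, LinearEquiv.coe_coe, TensorProduct.rid_tmul]

include hL in
theorem J3 : JJ I0 (A ⊗[R] A) ∘ₗ (eD2 R A).toLinearMap = (i1 R A).toLinearMap ∘ₗ JJ I0 A := by
  apply TensorProduct.ext'
  intro a b
  have h2 := LinearMap.congr_fun (J2' I0) (comul (R := R) b)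
  rw [LinearMap.comp_apply, LinearMap.comp_apply, AlgHom.toLinearMap_apply,
    AlgHom.toLinearMap_apply] at h2
  have e : (a ⊗ₜ[R] (1 : A)) ⊗ₜ[R] (1 : A) = e12 R A (i1 R A a) := rfl
  rw [LinearMap.comp_apply, AlgHom.toLinearMap_apply, eD2_tmul, e, J4, h2, JJ_comul I0 hL,
    LinearMap.comp_apply, JJ_tmul, AlgHom.toLinearMap_apply, i1_apply, i2_apply, i1_apply,
    Algebra.TensorProduct.tmul_mul_tmul, mul_one, one_mul, TensorProduct.tmul_smul,
    TensorProduct.smul_tmul']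

end Int

section Step

variable {R : Type u} [CommRing R] {A : Type u} [CommRing A] [HopfAlgebra R A]
  {C : Type u} [CommRing C] [HopfAlgebra R C]
variable (I0 : A →ₗ[R] R) (ψ : C →ₐ[R] A)

def P1 : WithConv (C →ₗ[R] A ⊗[R] A) := L ((i1 R A).comp ψ)
def Q1 : WithConv (C →ₗ[R] A ⊗[R] A) := Li ((i1 R A).comp ψ)
def P2 : WithConv (C →ₗ[R] A ⊗[R] A) := L ((i2 R A).comp ψ)
def MM : WithConv (C →ₗ[R] A ⊗[R] A) := L ((dA R A).comp ψ)
def MI : WithConv (C →ₗ[R] A ⊗[R] A) := Li ((dA R A).comp ψ)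
def cc : WithConv (C →ₗ[R] A ⊗[R] A) := P1 ψ * P2 ψ * MI ψ
def dl : WithConv (C →ₗ[R] A ⊗[R] A) := cc ψ - 1
def bt : WithConv (C →ₗ[R] A) := push (JJ I0 A) (dl ψ)
def ps2 : WithConv (C →ₗ[R] A) := (1 - bt I0 ψ) * L ψ

/-- `ψ` is comultiplicative modulo `𝔟`. -/
def HomMod (𝔟 : Ideal R) (ψ : C →ₐ[R] A) : Prop :=
  ∀ c, TensorProduct.map ψ.toLinearMap ψ.toLinearMap (comul (R := R) c) - comul (R := R) (ψ c) ∈
    𝔟.map (algebraMap R (A ⊗[R] A))

theorem i1i2_apply (f g : WithConv (C →ₗ[R] A)) (c : C) :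
    (push (i1 R A).toLinearMap f * push (i2 R A).toLinearMap g) c =
      TensorProduct.map f.ofConv g.ofConv (comul (R := R) c) :=
  inclL_mul_inclR f g c

theorem P1P2_apply (c : C) :
    (P1 ψ * P2 ψ) c = TensorProduct.map ψ.toLinearMap ψ.toLinearMap (comul (R := R) c) :=
  i1i2_apply (L ψ) (L ψ) c

theorem homMod_iff (𝔟 : Ideal R) : HomMod 𝔟 ψ ↔ InN 𝔟 (P1 ψ * P2 ψ - MM ψ) := by
  constructor
  · intro H c
    show (P1 ψ * P2 ψ) c - MM ψ c ∈ _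
    rw [P1P2_apply]
    exact H c
  · intro H c
    have := H c
    rw [← P1P2_apply]
    exact this

theorem cc_mul_MM : cc ψ * MM ψ = P1 ψ * P2 ψ := by
  unfold cc MI MM
  rw [mul_assoc, Li_mul_L, mul_one]

theorem dl_eq : dl ψ = (P1 ψ * P2 ψ - MM ψ) * MI ψ := by
  unfold dl cc
  rw [sub_mul]
  unfold MM MI
  rw [L_mul_Li]

theorem one_add_dl : 1 + dl ψ = cc ψ := by
  unfold dl
  rw [add_sub_cancel]

theorem dl_mem {𝔞 : Ideal R} (H : HomMod 𝔞 ψ) : InN 𝔞 (dl ψ) := by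
  rw [dl_eq]
  exact InN.mul_right _ ((homMod_iff ψ 𝔞).mp H)

theorem push_cc {Y : Type u} [CommRing Y] [Algebra R Y] (e : A ⊗[R] A →ₐ[R] Y) :
    push e.toLinearMap (cc ψ) =
      L (e.comp ((i1 R A).comp ψ)) * L (e.comp ((i2 R A).comp ψ)) *
        Li (e.comp ((dA R A).comp ψ)) := by
  unfold cc P1 P2 MI
  rw [push_mul, push_mul, push_L, push_L, push_Li]

theorem push_cc' {Y : Type u} [CommRing Y] [Algebra R Y] (e : A ⊗[R] A →ₐ[R] Y) :
    push e.toLinearMap (cc ψ) = 1 + push e.toLinearMap (dl ψ) := by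
  rw [← one_add_dl, push_add, push_one]

theorem comp3 {Y : Type u} [CommRing Y] [Algebra R Y] {e e' : A ⊗[R] A →ₐ[R] Y}
    {j j' : A →ₐ[R] A ⊗[R] A} (h : e.comp j = e'.comp j') :
    e.comp (j.comp ψ) = e'.comp (j'.comp ψ) := by
  rw [← AlgHom.comp_assoc, h, AlgHom.comp_assoc]

section GenY

variable (Y : Type u) [CommRing Y] [Algebra R Y] (f12 fD1 f23 fD2 : A ⊗[R] A →ₐ[R] Y)
  (J : Y →ₗ[R] A ⊗[R] A)

theorem cocycle_exact_gen
    (hE1 : fD1.comp (i1 R A) = f12.comp (dA R A))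
    (hE2 : fD1.comp (i2 R A) = f23.comp (i2 R A))
    (hE3 : f23.comp (i1 R A) = f12.comp (i2 R A))
    (hE4 : fD2.comp (i1 R A) = f12.comp (i1 R A))
    (hE5 : fD2.comp (i2 R A) = f23.comp (dA R A))
    (hE6 : fD2.comp (dA R A) = fD1.comp (dA R A)) :
    push f12.toLinearMap (cc ψ) * push fD1.toLinearMap (cc ψ) =
      L (f12.comp ((i1 R A).comp ψ)) * push f23.toLinearMap (cc ψ) *
        Li (f12.comp ((i1 R A).comp ψ)) * push fD2.toLinearMap (cc ψ) := by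
  rw [push_cc, push_cc, push_cc, push_cc, comp3 ψ hE1, comp3 ψ hE2, comp3 ψ hE3, comp3 ψ hE4,
    comp3 ψ hE5, comp3 ψ hE6]
  simp only [mul_assoc, Li_mul_L_assoc]

theorem starstar_gen
    (hE1 : fD1.comp (i1 R A) = f12.comp (dA R A))
    (hE2 : fD1.comp (i2 R A) = f23.comp (i2 R A))
    (hE3 : f23.comp (i1 R A) = f12.comp (i2 R A))
    (hE4 : fD2.comp (i1 R A) = f12.comp (i1 R A))
    (hE5 : fD2.comp (i2 R A) = f23.comp (dA R A))
    (hE6 : fD2.comp (dA R A) = fD1.comp (dA R A))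
    (hJ1 : J ∘ₗ f12.toLinearMap = LinearMap.id)
    (hJ2 : J ∘ₗ fD1.toLinearMap = (dA R A).toLinearMap ∘ₗ JJ I0 A)
    (hJ2' : J ∘ₗ f23.toLinearMap = (i2 R A).toLinearMap ∘ₗ JJ I0 A)
    (hJ3 : J ∘ₗ fD2.toLinearMap = (i1 R A).toLinearMap ∘ₗ JJ I0 A)
    (hJ4 : ∀ w z, J (f12 w * z) = w * J z)
    {𝔞 : Ideal R} (H : InN 𝔞 (dl ψ)) :
    InN (𝔞 * 𝔞) (dl ψ + push (dA R A).toLinearMap (bt I0 ψ) -
      P1 ψ * push (i2 R A).toLinearMap (bt I0 ψ) * Q1 ψ -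
      push (i1 R A).toLinearMap (bt I0 ψ)) := by
  obtain ⟨a1, ha1⟩ : ∃ a1 : WithConv (C →ₗ[R] Y),
      a1 = L (f12.comp ((i1 R A).comp ψ)) := ⟨_, rfl⟩
  obtain ⟨b1, hb1⟩ : ∃ b1 : WithConv (C →ₗ[R] Y),
      b1 = Li (f12.comp ((i1 R A).comp ψ)) := ⟨_, rfl⟩
  have hab : a1 * b1 = 1 := by rw [ha1, hb1, L_mul_Li]
  obtain ⟨p, hp⟩ : ∃ p, p = push f12.toLinearMap (dl ψ) := ⟨_, rfl⟩
  obtain ⟨q, hq⟩ : ∃ q, q = push fD1.toLinearMap (dl ψ) := ⟨_, rfl⟩
  obtain ⟨r, hr⟩ : ∃ r, r = push f23.toLinearMap (dl ψ) := ⟨_, rfl⟩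
  obtain ⟨s, hs⟩ : ∃ s, s = push fD2.toLinearMap (dl ψ) := ⟨_, rfl⟩
  have hex : (1 + p) * (1 + q) = a1 * (1 + r) * b1 * (1 + s) := by
    rw [hp, hq, hr, hs, ← push_cc', ← push_cc', ← push_cc', ← push_cc', ha1, hb1]
    exact cocycle_exact_gen ψ Y f12 fD1 f23 fD2 hE1 hE2 hE3 hE4 hE5 hE6
  obtain ⟨v, hv⟩ : ∃ v, v = a1 * r * b1 := ⟨_, rfl⟩
  have hav : a1 * (1 + r) * b1 = 1 + v := by
    rw [hv, mul_add, mul_one, add_mul, hab]
  rw [hav] at hex
  have hkey : p + q - v - s = ((1 + p) * (1 + q) - (1 + v) * (1 + s)) + (v * s - p * q) := by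
    noncomm_ring
  rw [hex, sub_self, zero_add] at hkey
  have hpN : InN 𝔞 p := hp ▸ InN.push _ H
  have hqN : InN 𝔞 q := hq ▸ InN.push _ H
  have hrN : InN 𝔞 r := hr ▸ InN.push _ H
  have hsN : InN 𝔞 s := hs ▸ InN.push _ H
  have hvN : InN 𝔞 v := hv ▸ InN.mul_right _ (InN.mul_left _ hrN)
  have hρ : InN (𝔞 * 𝔞) (p + q - v - s) := by
    rw [hkey]
    exact InN.sub (InN.mul hvN hsN) (InN.mul hpN hqN)
  have hpush := InN.push J hρ
  have e_p : push J p = dl ψ := by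
    rw [hp, push_push, hJ1, push_id]
  have e_q : push J q = push (dA R A).toLinearMap (bt I0 ψ) := by
    rw [hq, push_push, hJ2]
    rfl
  have e_s : push J s = push (i1 R A).toLinearMap (bt I0 ψ) := by
    rw [hs, push_push, hJ3]
    rfl
  have e_r : push J r = push (i2 R A).toLinearMap (bt I0 ψ) := by
    rw [hr, push_push, hJ2']
    rfl
  have e_v : push J v = P1 ψ * push (i2 R A).toLinearMap (bt I0 ψ) * Q1 ψ := by
    have ea : a1 = push f12.toLinearMap (P1 ψ) := by rw [ha1]; rfl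
    have eb : b1 = push f12.toLinearMap (Q1 ψ) := by rw [hb1]; rfl
    rw [hv, ea, eb, push_mul_right f12 J hJ4, push_mul_left f12 J hJ4, e_r]
  rw [push_sub, push_sub, push_add, e_p, e_q, e_v, e_s] at hpush
  exact hpush

end GenY

variable (h1 : I0 1 = 1)
  (hL : ∀ a : A, LinearMap.lTensor A I0 (comul (R := R) a) = (1 : A) ⊗ₜ[R] I0 a)

include h1 hL in
theorem starstar {𝔞 : Ideal R} (H : InN 𝔞 (dl ψ)) :
    InN (𝔞 * 𝔞) (dl ψ + push (dA R A).toLinearMap (bt I0 ψ) -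
      P1 ψ * push (i2 R A).toLinearMap (bt I0 ψ) * Q1 ψ -
      push (i1 R A).toLinearMap (bt I0 ψ)) :=
  starstar_gen I0 ψ ((A ⊗[R] A) ⊗[R] A) (e12 R A) (eD1 R A) (e23 R A) (eD2 R A)
    (JJ I0 (A ⊗[R] A)) E1 E2 E3 E4 E5 E6 (J1 I0 h1) (J2 I0) (J2' I0) (J3 I0 hL) (J4 I0) H

include h1 hL in
theorem comult_ps2 {𝔞 : Ideal R} (H : HomMod 𝔞 ψ) :
    InN (𝔞 * 𝔞) (push (i1 R A).toLinearMap (ps2 I0 ψ) * push (i2 R A).toLinearMap (ps2 I0 ψ) -
      push (dA R A).toLinearMap (ps2 I0 ψ)) := by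
  have hδN : InN 𝔞 (dl ψ) := dl_mem ψ H
  have hβN : InN 𝔞 (bt I0 ψ) := InN.push _ hδN
  have hss := starstar I0 ψ h1 hL hδN
  obtain ⟨δ, hδ⟩ : ∃ δ, δ = dl ψ := ⟨_, rfl⟩
  obtain ⟨u, hu⟩ : ∃ u, u = push (i1 R A).toLinearMap (bt I0 ψ) := ⟨_, rfl⟩
  obtain ⟨v', hv'⟩ : ∃ v', v' = push (i2 R A).toLinearMap (bt I0 ψ) := ⟨_, rfl⟩
  obtain ⟨w, hw⟩ : ∃ w, w = push (dA R A).toLinearMap (bt I0 ψ) := ⟨_, rfl⟩
  obtain ⟨v, hv⟩ : ∃ v, v = P1 ψ * v' * Q1 ψ := ⟨_, rfl⟩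
  rw [← hδ, ← hw, ← hv', ← hv, ← hu] at hss
  rw [← hδ] at hδN
  have huN : InN 𝔞 u := hu ▸ InN.push _ hβN
  have hv'N : InN 𝔞 v' := hv' ▸ InN.push _ hβN
  have hvN : InN 𝔞 v := hv ▸ InN.mul_right _ (InN.mul_left _ hv'N)
  have hQP : Q1 ψ * P1 ψ = 1 := by
    unfold Q1 P1
    rw [Li_mul_L]
  have e_i1 : push (i1 R A).toLinearMap (ps2 I0 ψ) = (1 - u) * P1 ψ := by
    unfold ps2
    rw [push_mul, push_sub, push_one, hu]
    rfl
  have e_i2 : push (i2 R A).toLinearMap (ps2 I0 ψ) = (1 - v') * P2 ψ := by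
    unfold ps2
    rw [push_mul, push_sub, push_one, hv']
    rfl
  have e_d : push (dA R A).toLinearMap (ps2 I0 ψ) = (1 - w) * MM ψ := by
    unfold ps2
    rw [push_mul, push_sub, push_one, hw]
    rfl
  have hconj : P1 ψ * (1 - v') = (1 - v) * P1 ψ := by
    rw [hv, sub_mul, one_mul, mul_assoc (P1 ψ * v') (Q1 ψ) (P1 ψ), hQP, mul_one, mul_sub, mul_one]
  have hcM : P1 ψ * P2 ψ = (1 + δ) * MM ψ := by
    rw [hδ, one_add_dl, cc_mul_MM]
  have e1 : (1 - u) * P1 ψ * ((1 - v') * P2 ψ) = (1 - u) * (1 - v) * ((1 + δ) * MM ψ) := by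
    rw [← hcM, mul_assoc (1 - u) (P1 ψ), ← mul_assoc (P1 ψ) (1 - v') (P2 ψ), hconj,
      mul_assoc (1 - v) (P1 ψ) (P2 ψ), ← mul_assoc (1 - u)]
  have e2 : (1 - u) * (1 - v) * ((1 + δ) * MM ψ) - (1 - w) * MM ψ =
      ((u * v - u * δ - v * δ + u * v * δ) + (δ + w - v - u)) * MM ψ := by
    noncomm_ring
  rw [e_i1, e_i2, e_d, e1, e2]
  refine InN.mul_right _ (InN.add ?_ hss)
  refine InN.add (InN.sub (InN.sub (InN.mul huN hvN) (InN.mul huN hδN)) (InN.mul hvN hδN)) ?_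
  exact InN.mul_right _ (InN.mul huN hvN)

/-- the defect as an algebra map -/
def cT : C →ₐ[R] A ⊗[R] A :=
  ((toConv ((i1 R A).comp ψ) : WithConv (C →ₐ[R] A ⊗[R] A)) * toConv ((i2 R A).comp ψ) *
    toConv (((dA R A).comp ψ).comp (HopfAlgebra.antipodeAlgHom R C))).ofConv

theorem L_cT : L (cT ψ) = cc ψ := rfl

theorem dl_apply (c : C) :
    dl ψ c = cT ψ c - algebraMap R (A ⊗[R] A) (counit (R := R) c) := by
  show (cc ψ) c - (1 : WithConv (C →ₗ[R] A ⊗[R] A)) c = _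
  rw [← L_cT]
  rfl

theorem dl_mul (x y : C) :
    dl ψ (x * y) = dl ψ x * dl ψ y + counit (R := R) x • dl ψ y + counit (R := R) y • dl ψ x := by
  rw [dl_apply, dl_apply, dl_apply, map_mul, Bialgebra.counit_mul, map_mul, Algebra.smul_def,
    Algebra.smul_def]
  ring

theorem dl_one : dl ψ 1 = 0 := by
  rw [dl_apply, map_one, Bialgebra.counit_one, map_one, sub_self]

theorem bt_apply (c : C) : bt I0 ψ c = JJ I0 A (dl ψ c) := rfl

theorem bt_mul (x y : C) :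
    bt I0 ψ (x * y) = JJ I0 A (dl ψ x * dl ψ y) + counit (R := R) x • bt I0 ψ y +
      counit (R := R) y • bt I0 ψ x := by
  rw [bt_apply, bt_apply, bt_apply, dl_mul, map_add, map_add, map_smul, map_smul]

theorem bt_one : bt I0 ψ 1 = 0 := by
  rw [bt_apply, dl_one, map_zero]

theorem g_apply (c : C) :
    (1 - bt I0 ψ) c = algebraMap R A (counit (R := R) c) - bt I0 ψ c := rfl

theorem g_mul_mem {𝔞 : Ideal R} (H : InN 𝔞 (dl ψ)) (x y : C) :
    (1 - bt I0 ψ) (x * y) - (1 - bt I0 ψ) x * (1 - bt I0 ψ) y ∈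
      (𝔞 * 𝔞).map (algebraMap R A) := by
  have hβ : InN 𝔞 (bt I0 ψ) := InN.push _ H
  have e : (1 - bt I0 ψ) (x * y) - (1 - bt I0 ψ) x * (1 - bt I0 ψ) y =
      -(JJ I0 A (dl ψ x * dl ψ y)) - bt I0 ψ x * bt I0 ψ y := by
    rw [g_apply, g_apply, g_apply, bt_mul, Bialgebra.counit_mul, map_mul, Algebra.smul_def,
      Algebra.smul_def]
    ring
  rw [e]
  refine Ideal.sub_mem _ (Ideal.neg_mem_iff _ |>.mpr ?_) ?_
  · apply map_mem (JJ I0 A)
    rw [Ideal.map_mul]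
    exact Ideal.mul_mem_mul (H x) (H y)
  · rw [Ideal.map_mul]
    exact Ideal.mul_mem_mul (hβ x) (hβ y)

theorem relift [Algebra.FormallySmooth R C] {𝔞 : Ideal R} (hnil : IsNilpotent 𝔞)
    (H : InN 𝔞 (dl ψ)) :
    ∃ ψ' : C →ₐ[R] A, InN (𝔞 * 𝔞) (L ψ' - ps2 I0 ψ) := by
  obtain ⟨Jd, hJd⟩ : ∃ Jd : Ideal A, Jd = (𝔞 * 𝔞).map (algebraMap R A) := ⟨_, rfl⟩
  have hJnil : IsNilpotent Jd := by
    obtain ⟨n, hn⟩ := hnil
    refine ⟨n, ?_⟩
    rw [hJd, ← Ideal.map_pow, mul_pow, hn, zero_mul]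
    exact Ideal.map_bot
  obtain ⟨gbar, hgbar⟩ : ∃ gbar : C →ₐ[R] A ⧸ Jd,
      gbar.toLinearMap = (Ideal.Quotient.mkₐ R Jd).toLinearMap ∘ₗ (1 - bt I0 ψ).ofConv := by
    refine ⟨AlgHom.ofLinearMap
      ((Ideal.Quotient.mkₐ R Jd).toLinearMap ∘ₗ (1 - bt I0 ψ).ofConv) ?_ ?_,
      AlgHom.toLinearMap_ofLinearMap _ _ _⟩
    · show Ideal.Quotient.mkₐ R Jd ((1 - bt I0 ψ) 1) = 1
      rw [g_apply, bt_one, Bialgebra.counit_one, map_one, sub_zero, map_one]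
    · intro x y
      show Ideal.Quotient.mkₐ R Jd ((1 - bt I0 ψ) (x * y)) =
        Ideal.Quotient.mkₐ R Jd ((1 - bt I0 ψ) x) * Ideal.Quotient.mkₐ R Jd ((1 - bt I0 ψ) y)
      rw [← map_mul, Ideal.Quotient.mkₐ_eq_mk]
      apply Ideal.Quotient.eq.mpr
      rw [hJd]
      exact g_mul_mem I0 ψ H x y
  obtain ⟨psbar, hpsbar⟩ : ∃ psbar : C →ₐ[R] A ⧸ Jd, psbar =
      ((toConv gbar : WithConv (C →ₐ[R] A ⧸ Jd)) *
        toConv ((Ideal.Quotient.mkₐ R Jd).comp ψ)).ofConv := ⟨_, rfl⟩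
  have hL1 : L psbar = push (Ideal.Quotient.mkₐ R Jd).toLinearMap (ps2 I0 ψ) := by
    have e1 : L psbar = L gbar * L ((Ideal.Quotient.mkₐ R Jd).comp ψ) := by
      rw [hpsbar]
      rfl
    have e2 : L gbar = push (Ideal.Quotient.mkₐ R Jd).toLinearMap (1 - bt I0 ψ) := by
      show toConv gbar.toLinearMap = _
      rw [hgbar]
      rfl
    rw [e1, e2]
    unfold ps2
    rw [push_mul]
    rfl
  refine ⟨Algebra.FormallySmooth.lift Jd hJnil psbar, ?_⟩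
  intro c
  show (Algebra.FormallySmooth.lift Jd hJnil psbar) c - (ps2 I0 ψ) c ∈ _
  rw [← hJd]
  apply Ideal.Quotient.eq.mp
  rw [Algebra.FormallySmooth.mk_lift]
  have := congrArg (fun f : WithConv (C →ₗ[R] A ⧸ Jd) => f c) hL1
  exact this

include h1 hL in
/-- **The averaging step.** -/
theorem step [Algebra.FormallySmooth R C] {𝔞 : Ideal R} (hnil : IsNilpotent 𝔞)
    (H : HomMod 𝔞 ψ) :
    ∃ ψ' : C →ₐ[R] A, HomMod (𝔞 * 𝔞) ψ' ∧ ∀ c, ψ' c - ψ c ∈ 𝔞.map (algebraMap R A) := by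
  have hδN : InN 𝔞 (dl ψ) := dl_mem ψ H
  have hβN : InN 𝔞 (bt I0 ψ) := InN.push _ hδN
  obtain ⟨ψ', hψ'⟩ := relift I0 ψ hnil hδN
  obtain ⟨ν, hν⟩ : ∃ ν, ν = L ψ' - ps2 I0 ψ := ⟨_, rfl⟩
  rw [← hν] at hψ'
  have hLψ' : L ψ' = ps2 I0 ψ + ν := by rw [hν]; abel
  refine ⟨ψ', ?_, ?_⟩
  · rw [homMod_iff]
    have e : P1 ψ' * P2 ψ' - MM ψ' =
        (push (i1 R A).toLinearMap (ps2 I0 ψ) * push (i2 R A).toLinearMap (ps2 I0 ψ) -
          push (dA R A).toLinearMap (ps2 I0 ψ)) +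
        (push (i1 R A).toLinearMap (ps2 I0 ψ) * push (i2 R A).toLinearMap ν +
          push (i1 R A).toLinearMap ν * push (i2 R A).toLinearMap (ps2 I0 ψ) +
          push (i1 R A).toLinearMap ν * push (i2 R A).toLinearMap ν -
          push (dA R A).toLinearMap ν) := by
      have e1 : P1 ψ' = push (i1 R A).toLinearMap (ps2 I0 ψ) + push (i1 R A).toLinearMap ν := by
        rw [← push_add, ← hLψ']
        rfl
      have e2 : P2 ψ' = push (i2 R A).toLinearMap (ps2 I0 ψ) + push (i2 R A).toLinearMap ν := by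
        rw [← push_add, ← hLψ']
        rfl
      have e3 : MM ψ' = push (dA R A).toLinearMap (ps2 I0 ψ) + push (dA R A).toLinearMap ν := by
        rw [← push_add, ← hLψ']
        rfl
      rw [e1, e2, e3]
      noncomm_ring
    rw [e]
    refine InN.add (comult_ps2 I0 ψ h1 hL H) ?_
    refine InN.sub (InN.add (InN.add ?_ ?_) ?_) (InN.push _ hψ')
    · exact InN.mul_left _ (InN.push _ hψ')
    · exact InN.mul_right _ (InN.push _ hψ')
    · exact InN.mul_right _ (InN.push _ hψ')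
  · intro c
    have e : L ψ' - L ψ = ν - bt I0 ψ * L ψ := by
      rw [hLψ']
      unfold ps2
      noncomm_ring
    have hN : InN 𝔞 (L ψ' - L ψ) := by
      rw [e]
      exact InN.sub (InN.mono Ideal.mul_le_right hψ') (InN.mul_right _ hβN)
    exact hN c

end Step

end Groth.Agent.Lib.HochStepH1
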