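import Mathlib
import Groth.Prelude.Def_SGA3b
import Groth.Agent.Lib.DiagBC1_helper4
import Groth.Agent.Lib.MultQuot_helper1

/-!
# Diagonalisability with an explicit type, types at points, finite products (helper1)

* `DiagT R B T Q`: the base change of `B` to the `R`-algebra `T` is the group algebra `T[Q]`.
* `HasType R B p Q`: some field over the prime `p` diagonalises `B` with type `Q`; the type at a
  point is unique up to isomorphism (`hasType_unique`).
* `diagT_pi`: a finite product of `R`-algebras diagonalising `B` with one type `Q` does so too.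
APPEND-ONLY once landed.
-/

set_option backward.isDefEq.respectTransparency.types false
set_option autoImplicit false
set_option linter.unusedVariables false
set_option linter.unusedSectionVars false
set_option linter.style.longLine false
set_option maxHeartbeats 1600000

universe u

open TensorProduct Coalgebra

noncomputable section

namespace Groth.Agent.Lib.MultCovH1

open Groth.Agent.Lib.DiagNilH4 Groth.Agent.Lib.DiagBCH4 Groth.Agent.Lib.MultQuotH1 SGA3b

section LiSp

variable {S : Type u} [CommRing S] {B : Type u} [CommRing B] [HopfAlgebra S B]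

/-- explicit-type version of `DiagBCH4.isDiag_of_li_sp` -/
theorem diag_of_li_sp' {M : Type u} [CommGroup M] (γ : M → B)
    (hγ : ∀ m, IsGroupLikeElem S (γ m))
    (hone : γ 1 = 1) (hmul : ∀ m n, γ (m * n) = γ m * γ n)
    (hLI : ∀ (s : Finset M) (a : M → S), ∑ i ∈ s, a i • γ i = 0 → ∀ j ∈ s, a j = 0)
    (hSP : Submodule.span S (Set.range γ) = ⊤) : Nonempty (B ≃ₐc[S] MonoidAlgebra S M) := by
  classical
  let γh : M →* GroupLike S B :=
    { toFun := fun m => ⟨γ m, hγ m⟩
      map_one' := GroupLike.val_injective hone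
      map_mul' := fun m n => GroupLike.val_injective (hmul m n) }
  let Φ : MonoidAlgebra S M →ₐc[S] B :=
    (MonoidAlgebra.liftGroupLikeBialgHom (R := S) (A := B)).comp
      (MonoidAlgebra.mapDomainBialgHom S γh)
  have hΦ : ∀ (m : M) (r : S), Φ (MonoidAlgebra.single m r) = r • γ m := by
    intro m r
    show MonoidAlgebra.liftGroupLikeBialgHom (R := S) (A := B)
      (MonoidAlgebra.mapDomainBialgHom S γh (MonoidAlgebra.single m r)) = _
    rw [MonoidAlgebra.mapDomainBialgHom_single]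
    simp [MonoidAlgebra.liftGroupLikeBialgHom, γh]
  have hinj : Function.Injective Φ := by
    rw [injective_iff_map_eq_zero]
    intro a ha
    have h1 : ∑ m ∈ a.coeff.support, a.coeff m • γ m = 0 := by
      rw [← ha]
      conv_rhs => rw [← MonoidAlgebra.sum_coeff_single a]
      rw [Finsupp.sum, map_sum]
      exact Finset.sum_congr rfl (fun m _ => (hΦ m _).symm)
    apply MonoidAlgebra.coeff_injective
    ext m
    by_cases hm : m ∈ a.coeff.support
    · rw [hLI _ _ h1 m hm]
      rfl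
    · rw [Finsupp.notMem_support_iff.mp hm]
      rfl
  have hsurj : Function.Surjective Φ := by
    have hr : (⊤ : Submodule S B) ≤ LinearMap.range (Φ.toCoalgHom.toLinearMap) := by
      rw [← hSP, Submodule.span_le]
      rintro _ ⟨m, rfl⟩
      refine ⟨MonoidAlgebra.single m 1, ?_⟩
      have := hΦ m 1
      rw [one_smul] at this
      exact this
    intro x
    obtain ⟨y, hy⟩ := hr (Submodule.mem_top : x ∈ ⊤)
    exact ⟨y, hy⟩
  exact ⟨(BialgEquiv.ofBijective Φ ⟨hinj, hsurj⟩).symm⟩

/-- explicit-type version of `DiagBCH4.isDiag_baseChange` -/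
theorem diag_baseChange' {M : Type u} [CommGroup M] (e : B ≃ₐc[S] MonoidAlgebra S M)
    (T : Type u) [CommRing T] [Algebra S T] :
    Nonempty ((T ⊗[S] B) ≃ₐc[T] MonoidAlgebra T M) := by
  classical
  let bB : Module.Basis M S B :=
    (MonoidAlgebra.basis M S).map e.symm.toAlgEquiv.toLinearEquiv
  let bT : Module.Basis M T (T ⊗[S] B) := Algebra.TensorProduct.basis T bB
  have hbB : ∀ m, bB m = e.symm (MonoidAlgebra.single m 1) := fun m => by
    rw [Module.Basis.map_apply, MonoidAlgebra.basis_apply]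
    rfl
  have hbT : ∀ m, bT m = (1 : T) ⊗ₜ[S] e.symm (MonoidAlgebra.single m 1) := fun m => by
    rw [Algebra.TensorProduct.basis_apply, hbB]
  refine diag_of_li_sp' (fun m => (1 : T) ⊗ₜ[S] e.symm (MonoidAlgebra.single m 1)) ?_ ?_ ?_ ?_ ?_
  · intro m
    exact groupLike_base T ((isGroupLikeElem_map_equiv e.symm).mpr
      (MonoidAlgebra.isGroupLikeElem_single_one (R := S) (A := S) m))
  · show (1 : T) ⊗ₜ[S] e.symm (MonoidAlgebra.single 1 1) = 1
    rw [← MonoidAlgebra.one_def, map_one]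
    rfl
  · intro m n
    show (1 : T) ⊗ₜ[S] e.symm (MonoidAlgebra.single (m * n) 1) =
      ((1 : T) ⊗ₜ[S] e.symm (MonoidAlgebra.single m 1)) *
        ((1 : T) ⊗ₜ[S] e.symm (MonoidAlgebra.single n 1))
    rw [Algebra.TensorProduct.tmul_mul_tmul, mul_one, ← map_mul,
      MonoidAlgebra.single_mul_single, mul_one]
  · intro s a hrel j hj
    have hli := bT.linearIndependent
    rw [linearIndependent_iff'] at hli
    refine hli s a ?_ j hj
    rw [← hrel]
    exact Finset.sum_congr rfl (fun i _ => by rw [hbT])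
  · have hfun : (fun m => (1 : T) ⊗ₜ[S] e.symm (MonoidAlgebra.single m 1)) = bT :=
      funext (fun m => (hbT m).symm)
    rw [hfun, bT.span_eq]

end LiSp

/-- The base change of `B` to `T` is the group algebra of `Q`. -/
def DiagT (R : Type u) [CommRing R] (B : Type u) [CommRing B] [HopfAlgebra R B]
    (T : Type u) [CommRing T] [Algebra R T] (Q : Type u) [CommGroup Q] : Prop :=
  Nonempty ((T ⊗[R] B) ≃ₐc[T] MonoidAlgebra T Q)

section DiagT

variable {R : Type u} [CommRing R] {B : Type u} [CommRing B] [HopfAlgebra R B]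

theorem diagT_of_algHom {T T' : Type u} [CommRing T] [CommRing T'] [Algebra R T] [Algebra R T']
    {Q : Type u} [CommGroup Q] (ψ : T →ₐ[R] T') (h : DiagT R B T Q) : DiagT R B T' Q := by
  obtain ⟨e⟩ := h
  letI : Algebra T T' := ψ.toRingHom.toAlgebra
  haveI : IsScalarTower R T T' := IsScalarTower.of_algebraMap_eq (fun r => (ψ.commutes r).symm)
  obtain ⟨e'⟩ := diag_baseChange' e T'
  exact ⟨(kapB R B T T').symm.trans e'⟩

theorem diagT_congr {T : Type u} [CommRing T] [Algebra R T] {Q Q' : Type u} [CommGroup Q]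
    [CommGroup Q'] (σ : Q ≃* Q') (h : DiagT R B T Q) : DiagT R B T Q' := by
  obtain ⟨e⟩ := h
  exact ⟨e.trans (MonoidAlgebra.domCongrBialgEquiv T T σ)⟩

theorem diagT_tower {S T : Type u} [CommRing S] [CommRing T] [Algebra R S] [Algebra R T]
    [Algebra S T] [IsScalarTower R S T] {Q : Type u} [CommGroup Q] :
    DiagT S (S ⊗[R] B) T Q ↔ DiagT R B T Q := by
  constructor
  · rintro ⟨e⟩
    exact ⟨(kapB R B S T).symm.trans e⟩
  · rintro ⟨e⟩
    exact ⟨(kapB R B S T).trans e⟩

end DiagT

section Field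

theorem exists_common_field {R : Type u} [CommRing R] (L L' : Type u) [Field L] [Field L']
    [Algebra R L] [Algebra R L']
    (h : RingHom.ker (algebraMap R L) = RingHom.ker (algebraMap R L')) :
    ∃ (Ω : Type u) (_ : Field Ω) (j : L →+* Ω) (j' : L' →+* Ω),
      j.comp (algebraMap R L) = j'.comp (algebraMap R L') := by
  obtain ⟨p, hp⟩ : ∃ p : Ideal R, p = RingHom.ker (algebraMap R L) := ⟨_, rfl⟩
  haveI : p.IsPrime := by rw [hp]; exact RingHom.ker_isPrime _
  have H1 : ∀ a ∈ p, algebraMap R L a = 0 := fun a ha => by rw [hp] at ha; exact ha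
  have H2 : ∀ a ∈ p, algebraMap R L' a = 0 := fun a ha => by rw [hp, h] at ha; exact ha
  letI a1 : Algebra (R ⧸ p) L := (Ideal.Quotient.lift p (algebraMap R L) H1).toAlgebra
  letI a2 : Algebra (R ⧸ p) L' := (Ideal.Quotient.lift p (algebraMap R L') H2).toAlgebra
  have i1 : Function.Injective (algebraMap (R ⧸ p) L) :=
    (Ideal.injective_lift_iff H1).mpr hp.symm
  have i2 : Function.Injective (algebraMap (R ⧸ p) L') :=
    (Ideal.injective_lift_iff H2).mpr (by rw [← h]; exact hp.symm)
  haveI : Nontrivial (L ⊗[R ⧸ p] L') :=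
    Algebra.TensorProduct.nontrivial_of_algebraMap_injective_of_isDomain (R ⧸ p) L L' i1 i2
  obtain ⟨m, hm⟩ := Ideal.exists_maximal (L ⊗[R ⧸ p] L')
  haveI := hm
  refine ⟨(L ⊗[R ⧸ p] L') ⧸ m, Ideal.Quotient.field m,
    (Ideal.Quotient.mk m).comp
      (Algebra.TensorProduct.includeLeft : L →ₐ[R ⧸ p] L ⊗[R ⧸ p] L').toRingHom,
    (Ideal.Quotient.mk m).comp
      (Algebra.TensorProduct.includeRight : L' →ₐ[R ⧸ p] L ⊗[R ⧸ p] L').toRingHom, ?_⟩
  refine RingHom.ext (fun r => ?_)
  have e1 : algebraMap R L r = algebraMap (R ⧸ p) L (Ideal.Quotient.mk p r) := rfl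
  have e2 : algebraMap R L' r = algebraMap (R ⧸ p) L' (Ideal.Quotient.mk p r) := rfl
  show Ideal.Quotient.mk m
      ((Algebra.TensorProduct.includeLeft : L →ₐ[R ⧸ p] L ⊗[R ⧸ p] L') (algebraMap R L r)) =
    Ideal.Quotient.mk m
      ((Algebra.TensorProduct.includeRight : L' →ₐ[R ⧸ p] L ⊗[R ⧸ p] L') (algebraMap R L' r))
  rw [e1, e2, AlgHom.commutes, AlgHom.commutes]

theorem mulEquiv_of_bialgEquiv {Ω : Type u} [Field Ω] {Q Q' : Type u} [CommGroup Q]
    [CommGroup Q'] (e : MonoidAlgebra Ω Q ≃ₐc[Ω] MonoidAlgebra Ω Q') : Nonempty (Q ≃* Q') := by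
  let f : MonoidAlgebra Ω Q →ₐc[Ω] MonoidAlgebra Ω Q' := e
  let g : MonoidAlgebra Ω Q' →ₐc[Ω] MonoidAlgebra Ω Q := e.symm
  have h1 : g.comp f = BialgHom.id Ω _ := DFunLike.ext _ _ (fun x => e.symm_apply_apply x)
  have h2 : f.comp g = BialgHom.id Ω _ := DFunLike.ext _ _ (fun x => e.apply_symm_apply x)
  refine ⟨MonoidHom.toMulEquiv (MonoidAlgebra.mapDomainOfBialgHom f)
    (MonoidAlgebra.mapDomainOfBialgHom g) ?_ ?_⟩
  · rw [← MonoidAlgebra.mapDomainOfBialgHom_comp, h1, MonoidAlgebra.mapDomainOfBialgHom_id]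
  · rw [← MonoidAlgebra.mapDomainOfBialgHom_comp, h2, MonoidAlgebra.mapDomainOfBialgHom_id]

end Field

section HasType

variable (R : Type u) [CommRing R] (B : Type u) [CommRing B] [HopfAlgebra R B]

/-- Some field over the point `p` diagonalises `B` with type `Q`. -/
def HasType (p : PrimeSpectrum R) (Q : Type u) [CommGroup Q] : Prop :=
  ∃ (L : Type u) (_ : Field L) (_ : Algebra R L),
    RingHom.ker (algebraMap R L) = p.asIdeal ∧ DiagT R B L Q

variable {R B}

theorem hasType_unique {p : PrimeSpectrum R} {Q Q' : Type u} [CommGroup Q] [CommGroup Q']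
    (h : HasType R B p Q) (h' : HasType R B p Q') : Nonempty (Q ≃* Q') := by
  obtain ⟨L, _, _, hk, hd⟩ := h
  obtain ⟨L', _, _, hk', hd'⟩ := h'
  obtain ⟨Ω, _, j, j', hjj⟩ := exists_common_field (R := R) L L' (hk.trans hk'.symm)
  letI : Algebra R Ω := (j.comp (algebraMap R L)).toAlgebra
  let ψ : L →ₐ[R] Ω := { j with commutes' := fun r => rfl }
  let ψ' : L' →ₐ[R] Ω := { j' with commutes' := fun r => (RingHom.congr_fun hjj r).symm }
  obtain ⟨e1⟩ := diagT_of_algHom (B := B) ψ hd
  obtain ⟨e2⟩ := diagT_of_algHom (B := B) ψ' hd'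
  exact mulEquiv_of_bialgEquiv (e1.symm.trans e2)

theorem hasType_congr {p : PrimeSpectrum R} {Q Q' : Type u} [CommGroup Q] [CommGroup Q']
    (σ : Q ≃* Q') (h : HasType R B p Q) : HasType R B p Q' := by
  obtain ⟨L, i1, i2, hk, hd⟩ := h
  exact ⟨L, i1, i2, hk, diagT_congr σ hd⟩

theorem hasType_of_diagT {T : Type u} [CommRing T] [Algebra R T] {Q : Type u} [CommGroup Q]
    (h : DiagT R B T Q) (q : PrimeSpectrum T) :
    HasType R B (PrimeSpectrum.comap (algebraMap R T) q) Q := by
  refine ⟨q.asIdeal.ResidueField, inferInstance, inferInstance, ?_,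
    diagT_of_algHom (IsScalarTower.toAlgHom R T q.asIdeal.ResidueField) h⟩
  rw [IsScalarTower.algebraMap_eq R T q.asIdeal.ResidueField, ← RingHom.comap_ker,
    Ideal.ker_algebraMap_residueField]
  rfl

end HasType

section Pi

variable {R : Type u} [CommRing R] {B : Type u} [CommRing B] [HopfAlgebra R B]
  {ι : Type u} [Fintype ι] [DecidableEq ι] (T : ι → Type u) [∀ j, CommRing (T j)]
  [∀ j, Algebra R (T j)]

/-- projection to a factor -/
def PP (j : ι) : (∀ j, T j) ⊗[R] B →ₐ[R] T j ⊗[R] B := cc (Pi.evalAlgHom R T j)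

/-- extension by zero from a factor -/
def EE (j : ι) : T j ⊗[R] B →ₗ[R] (∀ j, T j) ⊗[R] B :=
  LinearMap.rTensor B (LinearMap.single R T j)

theorem PP_tmul (j : ι) (a : ∀ j, T j) (b : B) : PP T j (a ⊗ₜ[R] b) = a j ⊗ₜ[R] b :=
  cc_tmul _ a b

theorem EE_tmul (j : ι) (t : T j) (b : B) :
    EE T j (t ⊗ₜ[R] b) = (Pi.single j t : ∀ j, T j) ⊗ₜ[R] b := rfl

theorem PP_EE_same (j : ι) (y : T j ⊗[R] B) : PP T j (EE T j y) = y := by
  induction y using TensorProduct.induction_on with
  | zero => rw [map_zero, map_zero]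
  | add x y hx hy => rw [map_add, map_add, hx, hy]
  | tmul t b => rw [EE_tmul, PP_tmul, Pi.single_eq_same]

theorem PP_EE_ne {i j : ι} (h : i ≠ j) (y : T j ⊗[R] B) : PP T i (EE T j y) = 0 := by
  induction y using TensorProduct.induction_on with
  | zero => rw [map_zero, map_zero]
  | add x y hx hy => rw [map_add, map_add, hx, hy, add_zero]
  | tmul t b => rw [EE_tmul, PP_tmul, Pi.single_eq_of_ne h, TensorProduct.zero_tmul]

theorem single_mul (a : ∀ j, T j) (j : ι) (t : T j) :
    a * (Pi.single j t : ∀ j, T j) = Pi.single j (a j * t) := by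
  funext k
  by_cases hk : k = j
  · subst hk
    rw [Pi.mul_apply, Pi.single_eq_same, Pi.single_eq_same]
  · rw [Pi.mul_apply, Pi.single_eq_of_ne hk, Pi.single_eq_of_ne hk, mul_zero]

theorem smul_EE (a : ∀ j, T j) (j : ι) (y : T j ⊗[R] B) : a • EE T j y = EE T j (a j • y) := by
  induction y using TensorProduct.induction_on with
  | zero => rw [map_zero, smul_zero, smul_zero, map_zero]
  | add x y hx hy => rw [map_add, smul_add, hx, hy, smul_add, map_add]
  | tmul t b =>
    have h1 : a j • (t ⊗ₜ[R] b) = (a j * t) ⊗ₜ[R] b := by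
      rw [TensorProduct.smul_tmul', smul_eq_mul]
    rw [h1, EE_tmul, EE_tmul, TensorProduct.smul_tmul', smul_eq_mul, single_mul]

theorem sum_EE_PP (x : (∀ j, T j) ⊗[R] B) : ∑ j, EE T j (PP T j x) = x := by
  induction x using TensorProduct.induction_on with
  | zero => simp
  | add x y hx hy => simp only [map_add, Finset.sum_add_distrib, hx, hy]
  | tmul a b =>
    simp only [PP_tmul, EE_tmul]
    rw [← TensorProduct.sum_tmul, Finset.univ_sum_single]

theorem ext_PP {x y : (∀ j, T j) ⊗[R] B} (h : ∀ j, PP T j x = PP T j y) : x = y := by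
  rw [← sum_EE_PP T x, ← sum_EE_PP T y]
  exact Finset.sum_congr rfl (fun j _ => by rw [h j])

theorem EE_PP (j : ι) (x : (∀ j, T j) ⊗[R] B) :
    EE T j (PP T j x) = (Pi.single j (1 : T j) : ∀ j, T j) • x := by
  induction x using TensorProduct.induction_on with
  | zero => rw [map_zero, map_zero, smul_zero]
  | add x y hx hy => rw [map_add, map_add, hx, hy, smul_add]
  | tmul a b =>
    rw [PP_tmul, EE_tmul, TensorProduct.smul_tmul', smul_eq_mul, mul_comm, single_mul, mul_one]

theorem single_one_idem (j : ι) :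
    (Pi.single j (1 : T j) : ∀ j, T j) * Pi.single j (1 : T j) = Pi.single j (1 : T j) := by
  rw [single_mul, Pi.single_eq_same, mul_one]

theorem sum_single_one : ∑ j, (Pi.single j (1 : T j) : ∀ j, T j) = 1 :=
  Finset.univ_sum_single (1 : ∀ j, T j)

theorem exists_FF (j : ι) :
    ∃ F : (T j ⊗[R] B) ⊗[T j] (T j ⊗[R] B) →+
        ((∀ j, T j) ⊗[R] B) ⊗[∀ j, T j] ((∀ j, T j) ⊗[R] B),
      ∀ a b, F (a ⊗ₜ[T j] b) = EE T j a ⊗ₜ[∀ j, T j] EE T j b := by
  have hsm : ∀ (r : T j) (a : T j ⊗[R] B),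
      EE T j (r • a) = (Pi.single j r : ∀ j, T j) • EE T j a := by
    intro r a
    rw [smul_EE, Pi.single_eq_same]
  let f : (T j ⊗[R] B) →+ (T j ⊗[R] B) →+
      ((∀ j, T j) ⊗[R] B) ⊗[∀ j, T j] ((∀ j, T j) ⊗[R] B) :=
    AddMonoidHom.mk' (fun a => AddMonoidHom.mk' (fun b => EE T j a ⊗ₜ[∀ j, T j] EE T j b)
      (fun b b' => by rw [map_add, TensorProduct.tmul_add]))
      (fun a a' => by
        ext b
        show EE T j (a + a') ⊗ₜ[∀ j, T j] EE T j b =
          EE T j a ⊗ₜ[∀ j, T j] EE T j b + EE T j a' ⊗ₜ[∀ j, T j] EE T j b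
        rw [map_add, TensorProduct.add_tmul])
  refine ⟨TensorProduct.liftAddHom f ?_, fun a b => rfl⟩
  intro r a b
  show EE T j (r • a) ⊗ₜ[∀ j, T j] EE T j b = EE T j a ⊗ₜ[∀ j, T j] EE T j (r • b)
  rw [hsm, hsm, TensorProduct.smul_tmul]

theorem FF_Phi (j : ι)
    (F : (T j ⊗[R] B) ⊗[T j] (T j ⊗[R] B) →+
        ((∀ j, T j) ⊗[R] B) ⊗[∀ j, T j] ((∀ j, T j) ⊗[R] B))
    (hF : ∀ a b, F (a ⊗ₜ[T j] b) = EE T j a ⊗ₜ[∀ j, T j] EE T j b)
    (w : ((∀ j, T j) ⊗[R] B) ⊗[∀ j, T j] ((∀ j, T j) ⊗[R] B)) :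
    F (Phi (X := B) (Pi.evalAlgHom R T j) w) = (Pi.single j (1 : T j) : ∀ j, T j) • w := by
  induction w using TensorProduct.induction_on with
  | zero => rw [map_zero, map_zero, smul_zero]
  | add x y hx hy => rw [map_add, map_add, hx, hy, smul_add]
  | tmul x y =>
    rw [Phi_tmul, hF]
    show EE T j (PP T j x) ⊗ₜ[∀ j, T j] EE T j (PP T j y) = _
    rw [EE_PP, EE_PP, ← TensorProduct.smul_tmul', TensorProduct.tmul_smul, smul_smul,
      single_one_idem]

theorem ext_Phi {w w' : ((∀ j, T j) ⊗[R] B) ⊗[∀ j, T j] ((∀ j, T j) ⊗[R] B)}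
    (h : ∀ j, Phi (X := B) (Pi.evalAlgHom R T j) w = Phi (X := B) (Pi.evalAlgHom R T j) w') :
    w = w' := by
  have key : ∀ j, (Pi.single j (1 : T j) : ∀ j, T j) • w =
      (Pi.single j (1 : T j) : ∀ j, T j) • w' := by
    intro j
    obtain ⟨F, hF⟩ := exists_FF (R := R) (B := B) T j
    rw [← FF_Phi T j F hF w, ← FF_Phi T j F hF w', h j]
  have h1 : ∀ z : ((∀ j, T j) ⊗[R] B) ⊗[∀ j, T j] ((∀ j, T j) ⊗[R] B),
      z = ∑ j, (Pi.single j (1 : T j) : ∀ j, T j) • z := by
    intro z
    rw [← Finset.sum_smul, sum_single_one, one_smul]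
  rw [h1 w, h1 w']
  exact Finset.sum_congr rfl (fun j _ => key j)

theorem diagT_pi (Q : Type u) [CommGroup Q] (h : ∀ j, DiagT R B (T j) Q) :
    DiagT R B (∀ j, T j) Q := by
  classical
  have θ : ∀ j, (T j ⊗[R] B) ≃ₐc[T j] MonoidAlgebra (T j) Q := fun j => Classical.choice (h j)
  let g : ∀ j, Q → T j ⊗[R] B := fun j q => (θ j).symm (MonoidAlgebra.single q 1)
  have hg_gl : ∀ j q, IsGroupLikeElem (T j) (g j q) := fun j q =>
    (isGroupLikeElem_map_equiv (θ j).symm).mpr
      (MonoidAlgebra.isGroupLikeElem_single_one (R := T j) (A := T j) q)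
  have hg_one : ∀ j, g j 1 = 1 := fun j => by
    show (θ j).symm (MonoidAlgebra.single 1 1) = 1
    rw [← MonoidAlgebra.one_def, map_one]
  have hg_mul : ∀ j q q', g j (q * q') = g j q * g j q' := fun j q q' => by
    show (θ j).symm (MonoidAlgebra.single (q * q') 1) =
      (θ j).symm (MonoidAlgebra.single q 1) * (θ j).symm (MonoidAlgebra.single q' 1)
    rw [← map_mul, MonoidAlgebra.single_mul_single, mul_one]
  let bj : ∀ j, Module.Basis Q (T j) (T j ⊗[R] B) := fun j =>
    (MonoidAlgebra.basis Q (T j)).map (θ j).symm.toAlgEquiv.toLinearEquiv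
  have hbj : ∀ j q, bj j q = g j q := fun j q => by
    rw [Module.Basis.map_apply, MonoidAlgebra.basis_apply]
    rfl
  let γ : Q → (∀ j, T j) ⊗[R] B := fun q => ∑ j, EE T j (g j q)
  have hPγ : ∀ i q, PP T i (γ q) = g i q := by
    intro i q
    show PP T i (∑ j, EE T j (g j q)) = g i q
    rw [map_sum, Finset.sum_eq_single i]
    · exact PP_EE_same T i _
    · intro j _ hji
      exact PP_EE_ne T (Ne.symm hji) _
    · intro hi
      exact absurd (Finset.mem_univ i) hi
  have hcc : ∀ i q, cc (X := B) (Pi.evalAlgHom R T i) (γ q) = g i q := hPγ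
  refine diag_of_li_sp' γ ?_ ?_ ?_ ?_ ?_
  · intro q
    constructor
    · funext j
      have h1 := counit_cc (X := B) (Pi.evalAlgHom R T j) (γ q)
      rw [hcc, (hg_gl j q).counit_eq_one] at h1
      exact h1.symm
    · apply ext_Phi T
      intro j
      rw [← comul_cc, Phi_tmul, hcc]
      exact (hg_gl j q).comul_eq_tmul_self
  · apply ext_PP T
    intro j
    rw [hPγ, hg_one, map_one]
  · intro q q'
    apply ext_PP T
    intro j
    rw [hPγ, map_mul, hPγ, hPγ, hg_mul]
  · intro s a hrel k hk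
    funext j
    have h1 : ∑ i ∈ s, (a i j) • bj j i = 0 := by
      have h2 := congrArg (PP T j) hrel
      rw [map_sum, map_zero] at h2
      rw [← h2]
      refine Finset.sum_congr rfl (fun i _ => ?_)
      show _ = cc (X := B) (Pi.evalAlgHom R T j) (a i • γ i)
      rw [cc_smul, hcc, hbj]
      rfl
    have hli := (bj j).linearIndependent
    rw [linearIndependent_iff'] at hli
    exact hli s (fun i => a i j) h1 k hk
  · rw [Submodule.eq_top_iff']
    intro x
    rw [← sum_EE_PP T x]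
    refine Submodule.sum_mem _ (fun j _ => ?_)
    have hy : ∀ y : T j ⊗[R] B, EE T j y ∈ Submodule.span (∀ j, T j) (Set.range γ) := by
      intro y
      have hy' : y ∈ Submodule.span (T j) (Set.range (bj j)) := by
        rw [(bj j).span_eq]
        trivial
      induction hy' using Submodule.span_induction with
      | mem z hz =>
        obtain ⟨q, rfl⟩ := hz
        have h3 : EE T j (bj j q) = (Pi.single j (1 : T j) : ∀ j, T j) • γ q := by
          rw [← EE_PP, hPγ, hbj]
        rw [h3]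
        exact Submodule.smul_mem _ _ (Submodule.subset_span ⟨q, rfl⟩)
      | zero =>
        rw [map_zero]
        exact zero_mem _
      | add z z' _ _ hz hz' =>
        rw [map_add]
        exact add_mem hz hz'
      | smul c z _ hz =>
        have h4 : EE T j (c • z) = (Pi.single j c : ∀ j, T j) • EE T j z := by
          rw [smul_EE, Pi.single_eq_same]
        rw [h4]
        exact Submodule.smul_mem _ _ hz
    exact hy _

end Pi

theorem diagT_pi' {R : Type u} [CommRing R] {B : Type u} [CommRing B] [HopfAlgebra R B]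
    {ι : Type u} [Finite ι] (T : ι → Type u) [∀ j, CommRing (T j)] [∀ j, Algebra R (T j)]
    (Q : Type u) [CommGroup Q] (h : ∀ j, DiagT R B (T j) Q) : DiagT R B (∀ j, T j) Q := by
  classical
  haveI := Fintype.ofFinite ι
  exact diagT_pi T Q h

end Groth.Agent.Lib.MultCovH1
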