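import Mathlib
import Groth.Prelude.Def_SGA3b
import Groth.Agent.Lib.MultCov1_helper1

/-!
# Multiplicative type from a flat covering family (helper1)

`core`: if finitely many flat `R`-algebras `T j`, jointly surjective on spectra, each diagonalise
`B` (with types `Q j` which may differ), then `B` is of multiplicative type over `R` (the loci
of constant type are open since `Spec (∏ T j) → Spec R` is a quotient map).
`assemble`: the form used in applications: a Zariski covering `s` of `Spec R`, flat algebras
`T f` covering `D(f)`, each Zariski-locally diagonalising `B`.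
APPEND-ONLY once landed.
-/

set_option backward.isDefEq.respectTransparency.types false
set_option autoImplicit false
set_option linter.unusedVariables false
set_option linter.unusedSectionVars false
set_option linter.style.longLine false
set_option maxHeartbeats 1600000

universe u

open TensorProduct Coalgebra

noncomputable section

namespace Groth.Agent.Lib.MultCovH1

open Groth.Agent.Lib.DiagNilH4 Groth.Agent.Lib.DiagBCH4 SGA3b

/-- A flat `R`-algebra diagonalising `B`, with the type. -/
structure Piece (R : Type u) [CommRing R] (B : Type u) [CommRing B] [HopfAlgebra R B] where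
  T : Type u
  [cr : CommRing T]
  [alg : Algebra R T]
  flat : Module.Flat R T
  Q : Type u
  [grp : CommGroup Q]
  diag : DiagT R B T Q

attribute [instance] Piece.cr Piece.alg Piece.grp

variable {R : Type u} [CommRing R] {B : Type u} [CommRing B] [HopfAlgebra R B]

theorem flat_pi {ι : Type u} [Finite ι] (T : ι → Type u) [∀ j, CommRing (T j)]
    [∀ j, Algebra R (T j)] (h : ∀ j, Module.Flat R (T j)) : Module.Flat R (∀ j, T j) := by
  classical
  haveI := Fintype.ofFinite ι
  haveI := h
  exact Module.Flat.of_linearEquiv (DFinsupp.linearEquivFunOnFintype (R := R) (M := T)).symm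

theorem comap_eval {ι : Type u} (T : ι → Type u) [∀ j, CommRing (T j)] [∀ j, Algebra R (T j)]
    (j : ι) (q : PrimeSpectrum (T j)) :
    PrimeSpectrum.comap (algebraMap R (∀ j, T j)) (PrimeSpectrum.comap (Pi.evalRingHom T j) q) =
      PrimeSpectrum.comap (algebraMap R (T j)) q := by
  rw [← PrimeSpectrum.comap_comp_apply]
  rfl

theorem isMultType_of_isDiag (h : IsDiag R B) : IsMultType R B := by
  refine ⟨{1}, by rw [Ideal.span_singleton_one], ?_⟩
  intro f hf
  rw [Set.mem_singleton_iff] at hf
  subst hf
  refine ⟨Localization.Away (1 : R), inferInstance, inferInstance, inferInstance, ?_⟩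
  exact isDiag_baseChange (isDiag_baseChange h (Localization.Away (1 : R)))
    (Localization.Away (1 : R))

theorem const_of_diag (f : R) (S : Type u) [CommRing S] [Algebra R S] [Module.Flat R S]
    (Q : Type u) [CommGroup Q] (hd : DiagT R B S Q)
    (hsurj : ∀ p : PrimeSpectrum R, f ∉ p.asIdeal →
      p ∈ Set.range (PrimeSpectrum.comap (algebraMap R S))) :
    IsMultTypeConst (Localization.Away f) (Localization.Away f ⊗[R] B) := by
  have hu : IsUnit (algebraMap R (Localization.Away (algebraMap R S f)) f) := by
    rw [IsScalarTower.algebraMap_apply R S (Localization.Away (algebraMap R S f))]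
    exact IsLocalization.Away.algebraMap_isUnit (algebraMap R S f)
  letI : Algebra (Localization.Away f) (Localization.Away (algebraMap R S f)) :=
    (IsLocalization.Away.lift f hu).toAlgebra
  haveI : IsScalarTower R (Localization.Away f) (Localization.Away (algebraMap R S f)) :=
    IsScalarTower.of_algebraMap_eq (fun r => (IsLocalization.Away.lift_eq f hu r).symm)
  haveI : Module.Flat S (Localization.Away (algebraMap R S f)) :=
    IsLocalization.flat _ (Submonoid.powers (algebraMap R S f))
  haveI : Module.Flat R (Localization.Away (algebraMap R S f)) := Module.Flat.trans R S _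
  haveI : Module.Flat (Localization.Away f) (Localization.Away (algebraMap R S f)) :=
    (Module.flat_iff_of_isLocalization (Localization.Away f) (Submonoid.powers f) _).mpr
      inferInstance
  have hs : Function.Surjective (PrimeSpectrum.comap
      (algebraMap (Localization.Away f) (Localization.Away (algebraMap R S f)))) := by
    intro p'
    have hf' : f ∉ (PrimeSpectrum.comap (algebraMap R (Localization.Away f)) p').asIdeal := by
      intro hmem
      have hmem' : algebraMap R (Localization.Away f) f ∈ p'.asIdeal := hmem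
      exact p'.isPrime.ne_top (Ideal.eq_top_of_isUnit_mem _ hmem'
        (IsLocalization.Away.algebraMap_isUnit f))
    obtain ⟨q, hq⟩ := hsurj _ hf'
    have hq1 : q ∈ Set.range
        (PrimeSpectrum.comap (algebraMap S (Localization.Away (algebraMap R S f)))) := by
      rw [PrimeSpectrum.localization_comap_range (Localization.Away (algebraMap R S f))
        (Submonoid.powers (algebraMap R S f))]
      show Disjoint ((Submonoid.powers (algebraMap R S f) : Submonoid S) : Set S)
        (q.asIdeal : Set S)
      rw [Set.disjoint_left]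
      rintro x ⟨n, rfl⟩ hx
      have h1 : algebraMap R S f ∈ q.asIdeal := q.isPrime.mem_of_pow_mem n hx
      apply hf'
      rw [← hq]
      exact h1
    obtain ⟨q₂, hq₂⟩ := hq1
    refine ⟨q₂, ?_⟩
    apply PrimeSpectrum.localization_comap_injective (Localization.Away f) (Submonoid.powers f)
    rw [← PrimeSpectrum.comap_comp_apply,
      ← IsScalarTower.algebraMap_eq R (Localization.Away f)
        (Localization.Away (algebraMap R S f)),
      IsScalarTower.algebraMap_eq R S (Localization.Away (algebraMap R S f)),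
      PrimeSpectrum.comap_comp_apply, hq₂, hq]
  haveI : Module.FaithfullyFlat (Localization.Away f) (Localization.Away (algebraMap R S f)) :=
    Module.FaithfullyFlat.of_comap_surjective hs
  refine ⟨Localization.Away (algebraMap R S f), inferInstance, inferInstance, inferInstance, ?_⟩
  obtain ⟨e⟩ := diagT_of_algHom (B := B)
    (IsScalarTower.toAlgHom R S (Localization.Away (algebraMap R S f))) hd
  exact (isDiag_tower (R := R) (A := B) (S := Localization.Away f)
    (T := Localization.Away (algebraMap R S f))).mpr ⟨Q, inferInstance, ⟨e⟩⟩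

theorem const_of_pieces {ι : Type u} [Finite ι] (P : ι → Piece R B) (Q₀ : Type u)
    [CommGroup Q₀] (hQ : ∀ j, Nonempty ((P j).Q ≃* Q₀)) (f : R)
    (hsurj : ∀ p : PrimeSpectrum R, f ∉ p.asIdeal →
      ∃ j, p ∈ Set.range (PrimeSpectrum.comap (algebraMap R (P j).T))) :
    IsMultTypeConst (Localization.Away f) (Localization.Away f ⊗[R] B) := by
  have hd : ∀ j, DiagT R B (P j).T Q₀ := fun j =>
    diagT_congr (Classical.choice (hQ j)) (P j).diag
  have hPi : DiagT R B (∀ j, (P j).T) Q₀ := diagT_pi' (fun j => (P j).T) Q₀ hd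
  haveI : Module.Flat R (∀ j, (P j).T) := flat_pi (fun j => (P j).T) (fun j => (P j).flat)
  refine const_of_diag f (∀ j, (P j).T) Q₀ hPi (fun p hp => ?_)
  obtain ⟨j, q, hq⟩ := hsurj p hp
  refine ⟨PrimeSpectrum.comap (Pi.evalRingHom (fun j => (P j).T) j) q, ?_⟩
  rw [comap_eval]
  exact hq

theorem core {ι : Type u} [Finite ι] (P : ι → Piece R B)
    (hsurj : ∀ p : PrimeSpectrum R,
      ∃ j, p ∈ Set.range (PrimeSpectrum.comap (algebraMap R (P j).T))) :
    IsMultType R B := by
  classical
  have key : ∀ p : PrimeSpectrum R, ∃ f : R, f ∉ p.asIdeal ∧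
      IsMultTypeConst (Localization.Away f) (Localization.Away f ⊗[R] B) := by
    intro p
    obtain ⟨j₀, q₀, hq₀⟩ := hsurj p
    obtain ⟨V, hV⟩ : ∃ V : Set (PrimeSpectrum R), V = {p' | HasType R B p' (P j₀).Q} :=
      ⟨_, rfl⟩
    have hpV : p ∈ V := by
      rw [hV, ← hq₀]
      exact hasType_of_diagT (P j₀).diag q₀
    have hVopen : IsOpen V := by
      haveI : Module.Flat R (∀ j, (P j).T) := flat_pi (fun j => (P j).T) (fun j => (P j).flat)
      have h₁ : Function.Surjective (PrimeSpectrum.comap (algebraMap R (∀ j, (P j).T))) := by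
        intro p'
        obtain ⟨j, q, hq⟩ := hsurj p'
        refine ⟨PrimeSpectrum.comap (Pi.evalRingHom (fun j => (P j).T) j) q, ?_⟩
        rw [comap_eval]
        exact hq
      have h₂ : GeneralizingMap (PrimeSpectrum.comap (algebraMap R (∀ j, (P j).T))) :=
        RingHom.Flat.generalizingMap_comap (RingHom.flat_algebraMap_iff.mpr inferInstance)
      have hq := PrimeSpectrum.isQuotientMap_of_generalizingMap h₁ h₂
      rw [← hq.isOpen_preimage]
      have hpre : PrimeSpectrum.comap (algebraMap R (∀ j, (P j).T)) ⁻¹' V =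
          ⋃ j ∈ {j : ι | Nonempty ((P j).Q ≃* (P j₀).Q)},
            (PrimeSpectrum.basicOpen (Pi.single j (1 : (P j).T) : ∀ j, (P j).T) : Set _) := by
        ext q'
        obtain ⟨⟨k, q⟩, rfl⟩ :=
          (PrimeSpectrum.sigmaToPi_bijective (fun j => (P j).T)).surjective q'
        rw [PrimeSpectrum.sigmaToPi_apply]
        constructor
        · intro hq'
          have hT : HasType R B (PrimeSpectrum.comap (algebraMap R (P k).T) q) (P j₀).Q := by
            have h0 : PrimeSpectrum.comap (algebraMap R (∀ j, (P j).T))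
                (PrimeSpectrum.comap (Pi.evalRingHom (fun j => (P j).T) k) q) ∈ V := hq'
            rw [comap_eval, hV] at h0
            exact h0
          have hk : HasType R B (PrimeSpectrum.comap (algebraMap R (P k).T) q) (P k).Q :=
            hasType_of_diagT (P k).diag q
          refine Set.mem_biUnion (x := k) (hasType_unique hk hT) ?_
          show (Pi.single k (1 : (P k).T) : ∀ j, (P j).T) ∉
            (PrimeSpectrum.comap (Pi.evalRingHom (fun j => (P j).T) k) q).asIdeal
          intro h1
          have h2 : (Pi.single k (1 : (P k).T) : ∀ j, (P j).T) k ∈ q.asIdeal := h1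
          rw [Pi.single_eq_same] at h2
          exact q.isPrime.ne_top ((Ideal.eq_top_iff_one _).mpr h2)
        · intro hq'
          obtain ⟨j, hj, hjq⟩ := Set.mem_iUnion₂.mp hq'
          obtain ⟨σ⟩ := hj
          have hjq' : (Pi.single j (1 : (P j).T) : ∀ j, (P j).T) ∉
              (PrimeSpectrum.comap (Pi.evalRingHom (fun j => (P j).T) k) q).asIdeal := hjq
          have hjk : k = j := by
            by_contra hne
            apply hjq'
            show (Pi.single j (1 : (P j).T) : ∀ j, (P j).T) k ∈ q.asIdeal
            rw [Pi.single_eq_of_ne hne]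
            exact zero_mem _
          subst hjk
          show PrimeSpectrum.comap (algebraMap R (∀ j, (P j).T))
            (PrimeSpectrum.comap (Pi.evalRingHom (fun j => (P j).T) k) q) ∈ V
          rw [comap_eval, hV]
          exact hasType_congr σ (hasType_of_diagT (P k).diag q)
      rw [hpre]
      exact isOpen_biUnion (fun j _ => (PrimeSpectrum.basicOpen _).isOpen)
    obtain ⟨_, ⟨f, rfl⟩, hpf, hfV⟩ :=
      PrimeSpectrum.isTopologicalBasis_basic_opens.exists_subset_of_mem_open hpV hVopen
    have hpf' : f ∉ p.asIdeal := hpf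
    refine ⟨f, hpf', ?_⟩
    refine const_of_pieces
      (fun j : {j : ι // Nonempty ((P j).Q ≃* (P j₀).Q)} => P j.1) (P j₀).Q (fun j => j.2) f
      (fun p' hp' => ?_)
    have hp'V : p' ∈ V := hfV hp'
    rw [hV] at hp'V
    obtain ⟨j, q, hq⟩ := hsurj p'
    have hj : HasType R B p' (P j).Q := by
      rw [← hq]
      exact hasType_of_diagT (P j).diag q
    exact ⟨⟨j, hasType_unique hj hp'V⟩, q, hq⟩
  refine ⟨{f : R | IsMultTypeConst (Localization.Away f) (Localization.Away f ⊗[R] B)}, ?_,
    fun f hf => hf⟩
  by_contra hne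
  obtain ⟨m, hm, hle⟩ := Ideal.exists_le_maximal _ hne
  obtain ⟨f, hfm, hfc⟩ := key ⟨m, hm.isPrime⟩
  exact hfm (hle (Ideal.subset_span hfc))

theorem piece_family (T : Type u) [CommRing T] [Algebra R T] [Module.Flat R T]
    (hloc : ∀ q : PrimeSpectrum T, ∃ g : T, g ∉ q.asIdeal ∧
      ∃ (Q : Type u) (_ : CommGroup Q), DiagT R B (Localization.Away g) Q) :
    ∃ (κ : Type u) (_ : Finite κ) (Pc : κ → Piece R B),
      ∀ p : PrimeSpectrum R, p ∈ Set.range (PrimeSpectrum.comap (algebraMap R T)) →
        ∃ k, p ∈ Set.range (PrimeSpectrum.comap (algebraMap R (Pc k).T)) := by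
  classical
  obtain ⟨G, hG⟩ : ∃ G : Set T, G = {g : T | ∃ (Q : Type u) (_ : CommGroup Q),
      DiagT R B (Localization.Away g) Q} := ⟨_, rfl⟩
  have hspan : Ideal.span G = ⊤ := by
    by_contra hne
    obtain ⟨m, hm, hle⟩ := Ideal.exists_le_maximal _ hne
    obtain ⟨g, hgm, hgG⟩ := hloc ⟨m, hm.isPrime⟩
    exact hgm (hle (Ideal.subset_span (by rw [hG]; exact hgG)))
  obtain ⟨t, htG, htspan⟩ := (Ideal.span_eq_top_iff_finite G).mp hspan
  have hk : ∀ k : {x // x ∈ t}, ∃ (Q : Type u) (_ : CommGroup Q),
      DiagT R B (Localization.Away k.1) Q := by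
    intro k
    have h1 := htG (Finset.mem_coe.mpr k.2)
    rw [hG] at h1
    exact h1
  choose Qk grpk dk using hk
  refine ⟨{x // x ∈ t}, inferInstance, fun k =>
    { T := Localization.Away k.1
      flat := Module.Flat.trans R T (Localization.Away k.1)
      Q := Qk k
      grp := grpk k
      diag := dk k }, ?_⟩
  rintro p ⟨q, rfl⟩
  have hex : ∃ g ∈ t, g ∉ q.asIdeal := by
    by_contra hno
    have hle : Ideal.span (t : Set T) ≤ q.asIdeal :=
      Ideal.span_le.mpr (fun g hg => by
        by_contra hgq
        exact hno ⟨g, Finset.mem_coe.mp hg, hgq⟩)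
    rw [htspan] at hle
    exact q.isPrime.ne_top (top_le_iff.mp hle)
  obtain ⟨g, hgt, hgq⟩ := hex
  have hq1 : q ∈ Set.range (PrimeSpectrum.comap (algebraMap T (Localization.Away g))) := by
    rw [PrimeSpectrum.localization_comap_range (Localization.Away g) (Submonoid.powers g)]
    show Disjoint ((Submonoid.powers g : Submonoid T) : Set T) (q.asIdeal : Set T)
    rw [Set.disjoint_left]
    rintro x ⟨n, rfl⟩ hx
    exact hgq (q.isPrime.mem_of_pow_mem n hx)
  obtain ⟨q₂, hq₂⟩ := hq1
  refine ⟨⟨g, hgt⟩, q₂, ?_⟩
  show PrimeSpectrum.comap (algebraMap R (Localization.Away g)) q₂ =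
    PrimeSpectrum.comap (algebraMap R T) q
  rw [IsScalarTower.algebraMap_eq R T (Localization.Away g), PrimeSpectrum.comap_comp_apply, hq₂]

theorem assemble (s : Set R) (hs : Ideal.span s = ⊤)
    (H : ∀ f ∈ s, ∃ (T : Type u) (_ : CommRing T) (_ : Algebra R T), Module.Flat R T ∧
      (∀ p : PrimeSpectrum R, f ∉ p.asIdeal →
        p ∈ Set.range (PrimeSpectrum.comap (algebraMap R T))) ∧
      ∀ q : PrimeSpectrum T, ∃ g : T, g ∉ q.asIdeal ∧
        ∃ (Q : Type u) (_ : CommGroup Q), DiagT R B (Localization.Away g) Q) :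
    IsMultType R B := by
  classical
  obtain ⟨s', hs's, hs'⟩ := (Ideal.span_eq_top_iff_finite s).mp hs
  have step : ∀ f : {x // x ∈ s'}, ∃ (κ : Type u) (_ : Finite κ) (Pc : κ → Piece R B),
      ∀ p : PrimeSpectrum R, f.1 ∉ p.asIdeal →
        ∃ k, p ∈ Set.range (PrimeSpectrum.comap (algebraMap R (Pc k).T)) := by
    intro f
    obtain ⟨T, _, _, hfl, hrange, hloc⟩ := H f.1 (hs's (Finset.mem_coe.mpr f.2))
    haveI := hfl
    obtain ⟨κ, hκ, Pc, hPc⟩ := piece_family (R := R) (B := B) T hloc
    exact ⟨κ, hκ, Pc, fun p hp => hPc p (hrange p hp)⟩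
  choose κ finκ Pc hPc using step
  haveI := finκ
  refine core (ι := Σ f : {x // x ∈ s'}, κ f) (fun x => Pc x.1 x.2) (fun p => ?_)
  have hex : ∃ f ∈ s', f ∉ p.asIdeal := by
    by_contra hno
    have hle : Ideal.span (s' : Set R) ≤ p.asIdeal :=
      Ideal.span_le.mpr (fun g hg => by
        by_contra hgq
        exact hno ⟨g, Finset.mem_coe.mp hg, hgq⟩)
    rw [hs'] at hle
    exact p.isPrime.ne_top (top_le_iff.mp hle)
  obtain ⟨f, hfs, hfp⟩ := hex
  obtain ⟨k, hk⟩ := hPc ⟨f, hfs⟩ p hfp
  exact ⟨⟨⟨f, hfs⟩, k⟩, hk⟩

end Groth.Agent.Lib.MultCovH1
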