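import Mathlib
import Groth.Prelude.Def_SGA3b
import Groth.Agent.Lib.MultDescent_helper9

/-!
# Monomorphisms from groups of multiplicative type are closed immersions (helper9)

Hopf-algebra form: a bialgebra map `φ : C → A` with `A` of multiplicative type which is a
monomorphism on points is surjective.  The diagonalisable case `Φ : Ĉ → S'[M]` is done by hand:
if the `m`-th coefficient functional of `Φ` does not generate the unit ideal, pick a maximal ideal
`𝔫` containing its image, let `N ≤ M` be the subgroup of those `n` whose coefficient functional is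
not contained in `𝔫`, and compare the two points of `D(M)` with values in `(S'/𝔫)[M/N]` given by the
projection and by the trivial character.
-/

set_option autoImplicit false
universe u
open scoped TensorProduct

namespace MultMono9

section Antipode

open LinearMap WithConv

/-- A bialgebra map between Hopf algebras commutes with the antipodes. -/
theorem bialgHom_comp_antipode {R C A : Type*} [CommSemiring R] [Semiring C] [Semiring A]
    [HopfAlgebra R C] [HopfAlgebra R A] (φ : C →ₐc[R] A) :
    φ.toLinearMap ∘ₗ HopfAlgebraStruct.antipode R (A := C) =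
      HopfAlgebraStruct.antipode R (A := A) ∘ₗ φ.toLinearMap := by
  have hab : (toConv (φ.toLinearMap ∘ₗ HopfAlgebraStruct.antipode R (A := C)) *
      toConv φ.toLinearMap : WithConv (C →ₗ[R] A)) = 1 := by
    apply ofConv_injective
    calc (toConv (φ.toLinearMap ∘ₗ HopfAlgebraStruct.antipode R (A := C)) *
          toConv φ.toLinearMap : WithConv (C →ₗ[R] A)).ofConv
        = (AlgHomClass.toAlgHom φ).toLinearMap ∘ₗ
            (toConv (HopfAlgebraStruct.antipode R (A := C)) * toConv LinearMap.id :
              WithConv (C →ₗ[R] C)).ofConv := by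
          rw [algHom_comp_convMul_distrib]; rfl
      _ = (1 : WithConv (C →ₗ[R] A)).ofConv := by
          rw [antipode_mul_id, algHom_comp_convOne]
  have hbc : (toConv φ.toLinearMap *
      toConv (HopfAlgebraStruct.antipode R (A := A) ∘ₗ φ.toLinearMap) :
        WithConv (C →ₗ[R] A)) = 1 := by
    apply ofConv_injective
    calc (toConv φ.toLinearMap *
          toConv (HopfAlgebraStruct.antipode R (A := A) ∘ₗ φ.toLinearMap) :
            WithConv (C →ₗ[R] A)).ofConv
        = (toConv LinearMap.id * toConv (HopfAlgebraStruct.antipode R (A := A)) :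
              WithConv (A →ₗ[R] A)).ofConv ∘ₗ φ.toCoalgHom.toLinearMap := by
          rw [convMul_comp_coalgHom_distrib]; rfl
      _ = (1 : WithConv (C →ₗ[R] A)).ofConv := by
          rw [id_mul_antipode, convOne_comp_coalgHom]
  exact congrArg ofConv (left_inv_eq_right_inv hab hbc)

end Antipode

section Diag

theorem coeff_antipode_inv {R : Type*} [CommRing R] {M : Type*} [Group M]
    (x : MonoidAlgebra R M) (n : M) :
    (HopfAlgebraStruct.antipode R (A := MonoidAlgebra R M) x).coeff n⁻¹ = x.coeff n := by
  classical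
  induction x using MonoidAlgebra.induction_linear with
  | zero => simp
  | add x y hx hy =>
    rw [map_add, MonoidAlgebra.coeff_add, MonoidAlgebra.coeff_add, Finsupp.add_apply,
      Finsupp.add_apply, hx, hy]
  | single g a =>
    rw [MonoidAlgebra.antipode_single, MonoidAlgebra.coeff_single, MonoidAlgebra.coeff_single,
      Finsupp.single_apply, Finsupp.single_apply]
    simp only [inv_inj]
    rfl

theorem lid_rTensor_coeffL_comul {R : Type*} [CommRing R] {M : Type*} (m : M)
    (x : MonoidAlgebra R M) :
    TensorProduct.lid R (MonoidAlgebra R M) (LinearMap.rTensor (MonoidAlgebra R M)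
      (MultDescent9.coeffL m) (Coalgebra.comul (R := R) x)) =
      MonoidAlgebra.single m (x.coeff m) := by
  classical
  induction x using MonoidAlgebra.induction_linear with
  | zero => simp
  | add x y hx hy =>
    rw [map_add, map_add, map_add, hx, hy, MonoidAlgebra.coeff_add, Finsupp.add_apply,
      MonoidAlgebra.single_add]
  | single n r =>
    rw [MonoidAlgebra.comul_single, CommSemiring.comul_apply, TensorProduct.map_tmul,
      LinearMap.rTensor_tmul, TensorProduct.lid_tmul, MonoidAlgebra.lsingle_apply,
      MonoidAlgebra.lsingle_apply, MultDescent9.coeffL_apply, MonoidAlgebra.coeff_single,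
      MonoidAlgebra.coeff_single, Finsupp.single_apply, Finsupp.single_apply]
    split_ifs with h
    · subst h; rw [one_smul]
    · rw [zero_smul, MonoidAlgebra.single_zero]

/-- The image of a bialgebra map to a group algebra is stable under taking homogeneous
components. -/
theorem exists_map_eq_single {S' : Type*} [CommRing S'] {M : Type*} [Monoid M]
    {D : Type*} [CommRing D] [Bialgebra S' D] (Φ : D →ₐc[S'] MonoidAlgebra S' M) (c : D) (n : M) :
    ∃ y, Φ y = MonoidAlgebra.single n ((Φ c).coeff n) := by
  let fl : D →ₗ[S'] MonoidAlgebra S' M := Φ.toCoalgHom.toLinearMap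
  have hfl : ∀ x, fl x = Φ x := fun _ => rfl
  have hcomul : ∀ x : D, TensorProduct.map fl fl (Coalgebra.comul (R := S') x) =
      Coalgebra.comul (R := S') (Φ x) := fun x => LinearMap.congr_fun Φ.toCoalgHom.map_comp_comul x
  let γ : D ⊗[S'] D →ₗ[S'] D := (TensorProduct.lid S' D).toLinearMap ∘ₗ
    LinearMap.rTensor D (MultDescent9.coeffL n ∘ₗ fl)
  have hγ : ∀ (t : D ⊗[S'] D), Φ (γ t) = TensorProduct.lid S' (MonoidAlgebra S' M)
      (LinearMap.rTensor (MonoidAlgebra S' M) (MultDescent9.coeffL n)
        (TensorProduct.map fl fl t)) := by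
    intro t
    induction t using TensorProduct.induction_on with
    | zero => simp
    | tmul x y =>
      simp only [γ, LinearMap.comp_apply, LinearMap.rTensor_tmul, LinearEquiv.coe_coe,
        TensorProduct.lid_tmul, TensorProduct.map_tmul, map_smul, hfl]
    | add x y hx hy => simp only [map_add, hx, hy]
  exact ⟨γ (Coalgebra.comul (R := S') c), by rw [hγ, hcomul, lid_rTensor_coeffL_comul]⟩

/-- Diagonalisable case: a bialgebra map to a group algebra which is an epimorphism against
points is surjective. -/
theorem surjective_of_diag_mono {S' : Type u} [CommRing S'] {M : Type u} [CommGroup M]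
    {D : Type u} [CommRing D] [HopfAlgebra S' D] (Φ : D →ₐc[S'] MonoidAlgebra S' M)
    (hΦ : ∀ (T : Type u) [CommRing T] [Algebra S' T] (X Y : MonoidAlgebra S' M →ₐ[S'] T),
      (∀ c, X (Φ c) = Y (Φ c)) → X = Y) :
    Function.Surjective Φ := by
  classical
  have key : ∀ m : M, ∃ y, Φ y = MonoidAlgebra.single m (1 : S') := by
    intro m
    let Φl : D →ₗ[S'] MonoidAlgebra S' M := Φ.toCoalgHom.toLinearMap
    by_cases h𝔞 : LinearMap.range (MultDescent9.coeffL m ∘ₗ Φl) = (⊤ : Submodule S' S')
    · have h1 : (1 : S') ∈ LinearMap.range (MultDescent9.coeffL m ∘ₗ Φl) := by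
        rw [h𝔞]; exact Submodule.mem_top
      obtain ⟨c, hc⟩ := LinearMap.mem_range.mp h1
      obtain ⟨y, hy⟩ := exists_map_eq_single Φ c m
      refine ⟨y, ?_⟩
      rw [hy]
      congr 1
    · exfalso
      obtain ⟨𝔫, h𝔫max, h𝔞𝔫⟩ := Ideal.exists_le_maximal
        (LinearMap.range (MultDescent9.coeffL m ∘ₗ Φl) : Ideal S') h𝔞
      have h𝔫prime : 𝔫.IsPrime := h𝔫max.isPrime
      have h1𝔫 : (1 : S') ∉ 𝔫 := (Ideal.ne_top_iff_one 𝔫).mp h𝔫max.ne_top
      have hm𝔫 : ∀ c, (Φ c).coeff m ∈ 𝔫 := fun c => h𝔞𝔫 (LinearMap.mem_range.mpr ⟨c, rfl⟩)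
      let N : Subgroup M :=
        { carrier := {n | ∃ c, (Φ c).coeff n ∉ 𝔫}
          one_mem' := ⟨1, by
            rw [map_one Φ, MonoidAlgebra.one_def, MonoidAlgebra.coeff_single, Finsupp.single_eq_same]
            exact h1𝔫⟩
          mul_mem' := by
            rintro a b ⟨c, hc⟩ ⟨d, hd⟩
            obtain ⟨y, hy⟩ := exists_map_eq_single Φ c a
            obtain ⟨y', hy'⟩ := exists_map_eq_single Φ d b
            refine ⟨y * y', ?_⟩
            rw [map_mul Φ, hy, hy', MonoidAlgebra.single_mul_single, MonoidAlgebra.coeff_single,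
              Finsupp.single_eq_same]
            exact fun h => (h𝔫prime.mem_or_mem h).elim hc hd
          inv_mem' := by
            rintro a ⟨c, hc⟩
            refine ⟨HopfAlgebraStruct.antipode S' (A := D) c, ?_⟩
            have h1 : Φ (HopfAlgebraStruct.antipode S' (A := D) c) =
                HopfAlgebraStruct.antipode S' (A := MonoidAlgebra S' M) (Φ c) :=
              LinearMap.congr_fun (bialgHom_comp_antipode Φ) c
            rw [h1, coeff_antipode_inv]
            exact hc }
      have hmN : m ∉ N := fun ⟨c, hc⟩ => hc (hm𝔫 c)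
      haveI : Nontrivial (S' ⧸ 𝔫) := Ideal.Quotient.nontrivial_iff.mpr h𝔫max.ne_top
      let F : M →* MonoidAlgebra (S' ⧸ 𝔫) (M ⧸ N) :=
        (MonoidAlgebra.of (S' ⧸ 𝔫) (M ⧸ N)).comp (QuotientGroup.mk' N)
      have hXY : MonoidAlgebra.lift S' (MonoidAlgebra (S' ⧸ 𝔫) (M ⧸ N)) M F =
          MonoidAlgebra.lift S' (MonoidAlgebra (S' ⧸ 𝔫) (M ⧸ N)) M 1 := by
        apply hΦ
        intro c
        rw [MonoidAlgebra.lift_apply, MonoidAlgebra.lift_apply]
        apply Finsupp.sum_congr
        intro n _
        by_cases hn : n ∈ N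
        · have hF : F n = 1 := by
            show MonoidAlgebra.of _ _ (QuotientGroup.mk' N n) = 1
            rw [QuotientGroup.mk'_apply, (QuotientGroup.eq_one_iff n).mpr hn, map_one]
          rw [hF, MonoidHom.one_apply]
        · have hcn : (Φ c).coeff n ∈ 𝔫 := by
            by_contra hcon
            exact hn ⟨c, hcon⟩
          have hz : ∀ t : MonoidAlgebra (S' ⧸ 𝔫) (M ⧸ N), (Φ c).coeff n • t = 0 := by
            intro t
            rw [Algebra.smul_def, MonoidAlgebra.coe_algebraMap, Function.comp_apply,
              Ideal.Quotient.algebraMap_eq, Ideal.Quotient.eq_zero_iff_mem.mpr hcn,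
              MonoidAlgebra.single_zero, zero_mul]
          rw [hz, hz]
      have h2 := DFunLike.congr_fun hXY (MonoidAlgebra.single m (1 : S'))
      rw [MonoidAlgebra.lift_single, MonoidAlgebra.lift_single, one_smul, one_smul,
        MonoidHom.one_apply] at h2
      have h3 : MonoidAlgebra.of (S' ⧸ 𝔫) (M ⧸ N) (QuotientGroup.mk' N m) =
          MonoidAlgebra.of (S' ⧸ 𝔫) (M ⧸ N) 1 := by
        rw [map_one]; exact h2
      have h4 := MonoidAlgebra.of_injective h3
      exact hmN ((QuotientGroup.eq_one_iff m).mp h4)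
  intro z
  induction z using MonoidAlgebra.induction_linear with
  | zero => exact ⟨0, map_zero _⟩
  | add x y hx hy =>
    obtain ⟨a, ha⟩ := hx
    obtain ⟨b, hb⟩ := hy
    exact ⟨a + b, by rw [map_add, ha, hb]⟩
  | single n r =>
    obtain ⟨y, hy⟩ := key n
    exact ⟨r • y, by rw [map_smul, hy, MonoidAlgebra.smul_single, smul_eq_mul, mul_one]⟩

end Diag

section BaseChange

/-- The monomorphism condition is stable under base change. -/
theorem mono_baseChange (S : Type u) [CommRing S] (S' : Type u) [CommRing S'] [Algebra S S']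
    (B : Type u) [CommRing B] [Bialgebra S B] (D : Type u) [CommRing D] [Bialgebra S D]
    (ψ : D →ₐc[S] B)
    (hmono : ∀ (T : Type u) [CommRing T] [Algebra S T],
      Function.Injective (fun x : B →ₐ[S] T => x.comp (ψ : D →ₐ[S] B))) :
    ∀ (T : Type u) [CommRing T] [Algebra S' T],
      Function.Injective (fun x : S' ⊗[S] B →ₐ[S'] T =>
        x.comp ((Bialgebra.TensorProduct.map (BialgHom.id S' S') ψ :
          S' ⊗[S] D →ₐc[S'] S' ⊗[S] B) : S' ⊗[S] D →ₐ[S'] S' ⊗[S] B)) := by
  intro T _ _ x y hxy
  have hxy' : ∀ z, x (Bialgebra.TensorProduct.map (BialgHom.id S' S') ψ z) =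
      y (Bialgebra.TensorProduct.map (BialgHom.id S' S') ψ z) := fun z => DFunLike.congr_fun hxy z
  letI : Algebra S T := ((algebraMap S' T).comp (algebraMap S S')).toAlgebra
  haveI : IsScalarTower S S' T := IsScalarTower.of_algebraMap_eq (fun _ => rfl)
  let x' : B →ₐ[S] T := (x.restrictScalars S).comp Algebra.TensorProduct.includeRight
  let y' : B →ₐ[S] T := (y.restrictScalars S).comp Algebra.TensorProduct.includeRight
  have hx'y' : x' = y' := by
    apply hmono T
    show x'.comp (ψ : D →ₐ[S] B) = y'.comp (ψ : D →ₐ[S] B)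
    apply AlgHom.ext
    intro d
    exact hxy' ((1 : S') ⊗ₜ[S] d)
  apply AlgHom.ext
  intro z
  induction z using TensorProduct.induction_on with
  | zero => rw [map_zero, map_zero]
  | add a b ha hb => rw [map_add, map_add, ha, hb]
  | tmul r b =>
    have h1 : r ⊗ₜ[S] b = r • ((1 : S') ⊗ₜ[S] b) := by
      rw [TensorProduct.smul_tmul', smul_eq_mul, mul_one]
    rw [h1, map_smul, map_smul]
    congr 1
    exact DFunLike.congr_fun hx'y' b

theorem lTensor_eq_map (S : Type u) [CommRing S] (S' : Type u) [CommRing S'] [Algebra S S']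
    (B : Type u) [CommRing B] [Bialgebra S B] (D : Type u) [CommRing D] [Bialgebra S D]
    (ψ : D →ₐc[S] B) (w : S' ⊗[S] D) :
    (ψ.toCoalgHom.toLinearMap).lTensor S' w =
      Bialgebra.TensorProduct.map (BialgHom.id S' S') ψ w := by
  induction w using TensorProduct.induction_on with
  | zero => rw [map_zero, map_zero]
  | add a b ha hb => rw [map_add, map_add, ha, hb]
  | tmul r d => rfl

end BaseChange

section Const

open SGA3b

/-- Constant-type case. -/
theorem const_surjective (S : Type u) [CommRing S] (B : Type u) [CommRing B] [HopfAlgebra S B]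
    (hB : IsMultTypeConst S B) (D : Type u) [CommRing D] [HopfAlgebra S D] (ψ : D →ₐc[S] B)
    (hmono : ∀ (T : Type u) [CommRing T] [Algebra S T],
      Function.Injective (fun x : B →ₐ[S] T => x.comp (ψ : D →ₐ[S] B))) :
    Function.Surjective ψ := by
  obtain ⟨S', _, _, hff, M, _, ⟨e⟩⟩ := hB
  let ψ' : S' ⊗[S] D →ₐc[S'] S' ⊗[S] B := Bialgebra.TensorProduct.map (BialgHom.id S' S') ψ
  let Φ : S' ⊗[S] D →ₐc[S'] MonoidAlgebra S' M := e.toBialgHom.comp ψ'
  have hmono' := mono_baseChange S S' B D ψ hmono
  have hΦ : Function.Surjective Φ := by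
    apply surjective_of_diag_mono Φ
    intro T _ _ X Y hXY
    have h1 : X.comp (e.toBialgHom : S' ⊗[S] B →ₐ[S'] MonoidAlgebra S' M) =
        Y.comp (e.toBialgHom : S' ⊗[S] B →ₐ[S'] MonoidAlgebra S' M) := by
      apply hmono' T
      exact AlgHom.ext (fun c => hXY c)
    apply AlgHom.ext
    intro z
    obtain ⟨w, rfl⟩ := EquivLike.surjective e z
    exact DFunLike.congr_fun h1 w
  have hψ' : Function.Surjective ψ' := by
    intro z
    obtain ⟨w, hw⟩ := hΦ (e z)
    exact ⟨w, EquivLike.injective e hw⟩
  have hψl : Function.Surjective ((ψ.toCoalgHom.toLinearMap).lTensor S') := by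
    intro z
    obtain ⟨w, hw⟩ := hψ' z
    exact ⟨w, by rw [lTensor_eq_map]; exact hw⟩
  exact (Module.FaithfullyFlat.lTensor_surjective_iff_surjective S S' _).mp hψl

end Const

section Local

open SGA3b

/-- A monomorphism from a group of multiplicative type to an affine group is a closed immersion
(Hopf-algebra form). -/
theorem surjective_of_mono (R : Type u) [CommRing R] (A : Type u) [CommRing A] [HopfAlgebra R A]
    (h : IsMultType R A) (C : Type u) [CommRing C] [HopfAlgebra R C] (φ : C →ₐc[R] A)
    (hmono : ∀ (T : Type u) [CommRing T] [Algebra R T],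
      Function.Injective (fun x : A →ₐ[R] T => x.comp (φ : C →ₐ[R] A))) :
    Function.Surjective φ := by
  obtain ⟨s, hs, hloc⟩ := h
  intro a
  suffices ha : a ∈ LinearMap.range φ.toCoalgHom.toLinearMap by
    obtain ⟨c, hc⟩ := LinearMap.mem_range.mp ha
    exact ⟨c, hc⟩
  refine Submodule.mem_of_span_eq_top_of_smul_pow_mem _ s hs a ?_
  rintro ⟨f, hf⟩
  have hsurj : Function.Surjective (Bialgebra.TensorProduct.map
      (BialgHom.id (Localization.Away f) (Localization.Away f)) φ) :=
    const_surjective (Localization.Away f) (Localization.Away f ⊗[R] A) (hloc f hf)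
      (Localization.Away f ⊗[R] C) _ (mono_baseChange R (Localization.Away f) A C φ hmono)
  obtain ⟨z, hz⟩ := hsurj ((1 : Localization.Away f) ⊗ₜ[R] a)
  have h0 : ((LinearMap.range φ.toCoalgHom.toLinearMap).mkQ.lTensor (Localization.Away f))
      ((1 : Localization.Away f) ⊗ₜ[R] a) = 0 := by
    rw [← hz, ← lTensor_eq_map, ← LinearMap.comp_apply, ← LinearMap.lTensor_comp,
      LinearMap.range_mkQ_comp, LinearMap.lTensor_zero, LinearMap.zero_apply]
  rw [LinearMap.lTensor_tmul] at h0
  have h1 : TensorProduct.mk R (Localization.Away f)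
      (A ⧸ LinearMap.range φ.toCoalgHom.toLinearMap) 1
      ((LinearMap.range φ.toCoalgHom.toLinearMap).mkQ a) = 0 := h0
  obtain ⟨⟨_, n, rfl⟩, hn⟩ := (IsLocalizedModule.eq_zero_iff (Submonoid.powers f)
    (TensorProduct.mk R (Localization.Away f)
      (A ⧸ LinearMap.range φ.toCoalgHom.toLinearMap) 1)).mp h1
  refine ⟨n, ?_⟩
  rw [Submonoid.smul_def, ← map_smul, Submodule.mkQ_apply, Submodule.Quotient.mk_eq_zero] at hn
  exact hn

end Local

end MultMono9
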