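import Mathlib
import Groth.Prelude.Def_SGA3b

set_option autoImplicit false
set_option maxHeartbeats 1000000

universe u

open TensorProduct SGA3b WithConv Coalgebra

namespace MultRigidH1

section Core

variable {R : Type u} [CommRing R] {A C : Type u} [CommRing A] [CommRing C]
  [Bialgebra R A] [Bialgebra R C] {ι : Type u} (b : Module.Basis ι R A)

theorem repr_mem_of_mem_map (I : Ideal R) (x : A) (hx : x ∈ I.map (algebraMap R A)) (i : ι) :
    b.repr x i ∈ I := by
  have hx' : x ∈ I • (⊤ : Submodule R A) := by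
    rw [Ideal.smul_top_eq_map]; exact hx
  refine Submodule.smul_induction_on hx' ?_ ?_
  · intro r hr a _
    rw [map_smul, Finsupp.smul_apply, smul_eq_mul]
    exact I.mul_mem_right _ hr
  · intro x y hx hy
    rw [map_add, Finsupp.add_apply]
    exact I.add_mem hx hy

theorem mem_map_of_repr_mem (I : Ideal R) (x : A) (hx : ∀ i, b.repr x i ∈ I) :
    x ∈ I.map (algebraMap R A) := by
  rw [← b.linearCombination_repr x, Finsupp.linearCombination_apply, Finsupp.sum]
  refine Ideal.sum_mem _ (fun i _ => ?_)
  rw [Algebra.smul_def]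
  exact Ideal.mul_mem_right _ _ (Ideal.mem_map_of_mem _ (hx i))

theorem coord_conv (hb : ∀ i, IsGroupLikeElem R (b i)) (i : ι) (a : A) :
    LinearMap.mul' R R (TensorProduct.map (b.coord i) (b.coord i) (comul a)) = b.coord i a := by
  have : (LinearMap.mul' R R ∘ₗ TensorProduct.map (b.coord i) (b.coord i) ∘ₗ comul) = b.coord i := by
    apply b.ext
    intro j
    simp only [LinearMap.coe_comp, Function.comp_apply]
    rw [(hb j).comul_eq_tmul_self, TensorProduct.map_tmul, LinearMap.mul'_apply,
      Module.Basis.coord_apply, Module.Basis.repr_self]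
    by_cases h : j = i
    · subst h; simp
    · simp [Finsupp.single_apply, h]
  exact LinearMap.congr_fun this a

theorem conv_mem (f g : WithConv (C →ₗ[R] R)) (I₁ I₂ : Ideal R) (hf : ∀ z, f z ∈ I₁)
    (hg : ∀ z, g z ∈ I₂) (z : C) : (f * g) z ∈ I₁ * I₂ := by
  rw [LinearMap.convMul_apply]
  generalize comul (R := R) z = w
  induction w using TensorProduct.induction_on with
  | zero => simp
  | tmul x y =>
    rw [TensorProduct.map_tmul, LinearMap.mul'_apply]
    exact Ideal.mul_mem_mul (hf x) (hg y)
  | add x y hx hy =>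
    rw [map_add, map_add]
    exact Ideal.add_mem _ hx hy

theorem core [IsCocomm R C] [Algebra.FiniteType R C] (hb : ∀ i, IsGroupLikeElem R (b i))
    (I : Ideal R) (φ ψ : C →ₐc[R] A) (h : ∀ z, φ z - ψ z ∈ I.map (algebraMap R A)) :
    ∃ r ∈ I, ∀ z, (1 - r) • (φ z - ψ z) = 0 := by
  classical
  obtain ⟨T, hT⟩ := (Algebra.FiniteType.out : (⊤ : Subalgebra R C).FG)
  set Vals : Set R := ⋃ t ∈ (T : Set C), Set.range (b.repr (φ t - ψ t)) with hVals
  have hfin : Vals.Finite :=
    Set.Finite.biUnion T.finite_toSet (fun t _ => Finsupp.finite_range _)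
  set J : Ideal R := Ideal.span Vals with hJ
  have hJfg : J.FG := Submodule.fg_span hfin
  -- (a) all coefficient differences lie in J
  have ha : ∀ z i, b.repr (φ z - ψ z) i ∈ J := by
    let q := Ideal.Quotient.mkₐ R (J.map (algebraMap R A))
    have hle : Algebra.adjoin R (T : Set C) ≤
        AlgHom.equalizer (q.comp (φ : C →ₐ[R] A)) (q.comp (ψ : C →ₐ[R] A)) := by
      apply Algebra.adjoin_le
      intro t ht
      rw [SetLike.mem_coe, AlgHom.mem_equalizer]
      show q (φ t) = q (ψ t)
      rw [Ideal.Quotient.mkₐ_eq_mk, Ideal.Quotient.eq]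
      apply mem_map_of_repr_mem b
      intro i
      apply Ideal.subset_span
      exact Set.mem_biUnion ht ⟨i, rfl⟩
    intro z i
    have hz : z ∈ AlgHom.equalizer (q.comp (φ : C →ₐ[R] A)) (q.comp (ψ : C →ₐ[R] A)) :=
      hle (hT ▸ Algebra.mem_top)
    rw [AlgHom.mem_equalizer] at hz
    have hz' : q (φ z) = q (ψ z) := hz
    rw [Ideal.Quotient.mkₐ_eq_mk, Ideal.Quotient.eq] at hz'
    exact repr_mem_of_mem_map b J _ hz' i
  -- (b) J ≤ I
  have hJI : J ≤ I := by
    rw [hJ, Ideal.span_le]
    intro y hy
    obtain ⟨t, ht, i, rfl⟩ := Set.mem_iUnion₂.mp hy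
    exact repr_mem_of_mem_map b I _ (h t) i
  -- (c) J ≤ J * J
  have hJJ : J ≤ J * J := by
    have hgen : Vals ⊆ ((J * J : Ideal R) : Set R) := by
      intro y hy
      obtain ⟨t, ht, i, rfl⟩ := Set.mem_iUnion₂.mp hy
      let E : WithConv (C →ₗ[R] R) := toConv (b.coord i ∘ₗ (φ : C →ₗ[R] A))
      let F : WithConv (C →ₗ[R] R) := toConv (b.coord i ∘ₗ (ψ : C →ₗ[R] A))
      have hE : E * E = E := by
        apply WithConv.ext
        apply LinearMap.ext
        intro z
        show (E * E) z = b.coord i (φ z)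
        rw [LinearMap.convMul_apply]
        show LinearMap.mul' R R (TensorProduct.map (b.coord i ∘ₗ (φ : C →ₗ[R] A))
          (b.coord i ∘ₗ (φ : C →ₗ[R] A)) (comul z)) = _
        rw [TensorProduct.map_comp, LinearMap.comp_apply, CoalgHomClass.map_comp_comul_apply,
          coord_conv b hb]
      have hF : F * F = F := by
        apply WithConv.ext
        apply LinearMap.ext
        intro z
        show (F * F) z = b.coord i (ψ z)
        rw [LinearMap.convMul_apply]
        show LinearMap.mul' R R (TensorProduct.map (b.coord i ∘ₗ (ψ : C →ₗ[R] A))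
          (b.coord i ∘ₗ (ψ : C →ₗ[R] A)) (comul z)) = _
        rw [TensorProduct.map_comp, LinearMap.comp_apply, CoalgHomClass.map_comp_comul_apply,
          coord_conv b hb]
      have hD : (E - F) ^ 3 = E - F := by
        linear_combination (E + 1 - 3 * F) * hE + (3 * E - (F + 1)) * hF
      have hDval : ∀ z, (E - F) z = b.repr (φ z - ψ z) i := fun z => by
        show b.coord i (φ z) - b.coord i (ψ z) = _
        rw [← map_sub]; rfl
      have hDJ : ∀ z, (E - F) z ∈ J := fun z => by rw [hDval]; exact ha z i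
      have h3 : ∀ z, ((E - F) ^ 3) z ∈ J * J * J := by
        intro z
        rw [pow_succ, pow_two]
        exact conv_mem _ _ _ _ (fun z => conv_mem _ _ _ _ hDJ hDJ z) hDJ z
      have hy : b.repr (φ t - ψ t) i = ((E - F) ^ 3) t := by rw [hD, hDval]
      show b.repr (φ t - ψ t) i ∈ J * J
      rw [hy]
      exact Ideal.mul_le_left (h3 t)
    rw [hJ]
    exact Ideal.span_le.mpr hgen
  obtain ⟨r, hrJ, hr⟩ := Submodule.exists_mem_and_smul_eq_self_of_fg_of_le_smul J J hJfg
    (by rw [smul_eq_mul]; exact hJJ)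
  refine ⟨r, hJI hrJ, fun z => ?_⟩
  apply b.repr.injective
  ext i
  rw [map_smul, Finsupp.smul_apply, map_zero, Finsupp.zero_apply, smul_eq_mul, sub_mul, one_mul,
    sub_eq_zero]
  have := hr _ (ha z i)
  rw [smul_eq_mul] at this
  exact this.symm

end Core


section BC

variable {R S : Type u} [CommRing R] [CommRing S] [Algebra R S] {A C : Type u} [CommRing A]
  [CommRing C] [HopfAlgebra R A] [HopfAlgebra R C]

/-- base change of a bialgebra hom -/
noncomputable def bc (φ : C →ₐc[R] A) : S ⊗[R] C →ₐc[S] S ⊗[R] A :=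
  Bialgebra.TensorProduct.map (BialgHom.id S S) φ

theorem bc_tmul (φ : C →ₐc[R] A) (s : S) (c : C) : bc (S := S) φ (s ⊗ₜ c) = s ⊗ₜ φ c := by
  simp [bc]

theorem transfer (I : Ideal R) (φ ψ : C →ₐc[R] A)
    (h : ∀ c, φ c - ψ c ∈ I.map (algebraMap R A)) (z : S ⊗[R] C) :
    bc (S := S) φ z - bc (S := S) ψ z ∈
      (I.map (algebraMap R S)).map (algebraMap S (S ⊗[R] A)) := by
  induction z using TensorProduct.induction_on with
  | zero => simp
  | tmul s c =>
    rw [bc_tmul, bc_tmul, ← TensorProduct.tmul_sub]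
    have key : ∀ x ∈ I.map (algebraMap R A),
        s ⊗ₜ[R] x ∈ (I.map (algebraMap R S)).map (algebraMap S (S ⊗[R] A)) := by
      intro x hx
      have hx' : x ∈ I • (⊤ : Submodule R A) := by rw [Ideal.smul_top_eq_map]; exact hx
      refine Submodule.smul_induction_on hx' ?_ ?_
      · intro r hr a _
        have : s ⊗ₜ[R] (r • a) = algebraMap S (S ⊗[R] A) (algebraMap R S r) * (s ⊗ₜ a) := by
          rw [Algebra.TensorProduct.algebraMap_apply, Algebra.algebraMap_self, RingHom.id_apply,
            Algebra.TensorProduct.tmul_mul_tmul, one_mul, ← Algebra.smul_def,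
            TensorProduct.tmul_smul, TensorProduct.smul_tmul']
        rw [this]
        exact Ideal.mul_mem_right _ _ (Ideal.mem_map_of_mem _ (Ideal.mem_map_of_mem _ hr))
      · intro x y hx hy
        rw [TensorProduct.tmul_add]
        exact Ideal.add_mem _ hx hy
    exact key _ (h c)
  | add x y hx hy =>
    have : bc (S := S) φ (x + y) - bc (S := S) ψ (x + y) =
        (bc (S := S) φ x - bc (S := S) ψ x) + (bc (S := S) φ y - bc (S := S) ψ y) := by
      rw [map_add, map_add]; ring
    rw [this]
    exact Ideal.add_mem _ hx hy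

theorem descend [Module.FaithfullyFlat R S] (φ ψ : C →ₐc[R] A)
    (h : ∀ c, (1 : S) ⊗ₜ[R] φ c = (1 : S) ⊗ₜ[R] ψ c) : φ = ψ := by
  apply DFunLike.ext
  intro c
  exact Module.FaithfullyFlat.tensorProduct_mk_injective (A := R) (B := S) A (h c)

end BC

section Local

variable {R S : Type u} [CommRing R] [CommRing S] [Algebra R S] [IsLocalRing R]
  [Module.FaithfullyFlat R S] {N : Type u} [AddCommGroup N] [Module R N]

theorem eq_zero_of_tmul_eq_zero (r : S)
    (hr : r ∈ (IsLocalRing.maximalIdeal R).map (algebraMap R S)) (x : N)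
    (h : (1 - r) ⊗ₜ[R] x = (0 : S ⊗[R] N)) : x = 0 := by
  by_contra hx
  let g : R →ₗ[R] N := LinearMap.toSpanSingleton R N x
  have hker : LinearMap.ker g ≤ IsLocalRing.maximalIdeal R := by
    apply IsLocalRing.le_maximalIdeal
    intro htop
    have h1 : (1 : R) ∈ LinearMap.ker g := by rw [htop]; exact Submodule.mem_top
    rw [LinearMap.mem_ker, LinearMap.toSpanSingleton_apply, one_smul] at h1
    exact hx h1
  have hex : Function.Exact (LinearMap.ker g).subtype g := LinearMap.exact_subtype_ker_map g
  have hex' := Module.Flat.lTensor_exact S hex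
  have h0 : (g.lTensor S) ((1 - r) ⊗ₜ[R] (1 : R)) = 0 := by
    rw [LinearMap.lTensor_tmul, LinearMap.toSpanSingleton_apply, one_smul]
    exact h
  obtain ⟨y, hy⟩ := (hex' _).mp h0
  have hclaim : ∀ y : S ⊗[R] (LinearMap.ker g),
      TensorProduct.rid R S (((LinearMap.ker g).subtype.lTensor S) y) ∈
        (IsLocalRing.maximalIdeal R).map (algebraMap R S) := by
    intro y
    induction y using TensorProduct.induction_on with
    | zero => simp
    | tmul s a =>
      rw [LinearMap.lTensor_tmul, TensorProduct.rid_tmul, Submodule.subtype_apply,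
        Algebra.smul_def]
      exact Ideal.mul_mem_right _ _ (Ideal.mem_map_of_mem _ (hker a.2))
    | add x y hx hy =>
      rw [map_add, map_add]
      exact Ideal.add_mem _ hx hy
  have hu : (1 - r) ∈ (IsLocalRing.maximalIdeal R).map (algebraMap R S) := by
    have := hclaim y
    rw [hy, TensorProduct.rid_tmul, one_smul] at this
    exact this
  have h1 : (1 : S) ∈ (IsLocalRing.maximalIdeal R).map (algebraMap R S) := by
    have := Ideal.add_mem _ hu hr
    simpa using this
  have htop : (IsLocalRing.maximalIdeal R).map (algebraMap R S) = ⊤ :=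
    (Ideal.eq_top_iff_one _).mpr h1
  exact Module.FaithfullyFlat.submodule_ne_top (R := R) (M := S)
    (IsLocalRing.maximalIdeal.isMaximal R) (by rw [Ideal.smul_top_eq_map, htop]; rfl)

end Local

section Main

theorem const_local {R : Type u} [CommRing R] [IsLocalRing R] {A C : Type u} [CommRing A]
    [CommRing C] [HopfAlgebra R A] [HopfAlgebra R C] [IsCocomm R C] [Algebra.FiniteType R C]
    (hA : IsMultTypeConst R A) (φ ψ : C →ₐc[R] A)
    (hs : ∀ c, φ c - ψ c ∈ (IsLocalRing.maximalIdeal R).map (algebraMap R A)) : φ = ψ := by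
  obtain ⟨S, _, _, hff, M, _, ⟨e⟩⟩ := hA
  haveI := hff
  let b : Module.Basis M S (S ⊗[R] A) :=
    (MonoidAlgebra.basis M S).map e.symm.toAlgEquiv.toLinearEquiv
  have hb : ∀ m, IsGroupLikeElem S (b m) := by
    intro m
    have h1 : IsGroupLikeElem S (MonoidAlgebra.single m (1 : S) : MonoidAlgebra S M) :=
      MonoidAlgebra.isGroupLikeElem_single_one (R := S) (A := S) m
    exact h1.map e.symm.toBialgHom
  obtain ⟨r, hrI, hr⟩ := core b hb ((IsLocalRing.maximalIdeal R).map (algebraMap R S))
    (bc (S := S) φ) (bc (S := S) ψ) (transfer _ φ ψ hs)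
  apply descend (S := S)
  intro c
  have h1 := hr (1 ⊗ₜ c)
  rw [bc_tmul, bc_tmul, ← TensorProduct.tmul_sub, TensorProduct.smul_tmul', smul_eq_mul,
    mul_one] at h1
  have h2 := eq_zero_of_tmul_eq_zero r hrI (φ c - ψ c) h1
  rw [sub_eq_zero.mp h2]

theorem main (R : Type u) [CommRing R] (A : Type u) [CommRing A] [HopfAlgebra R A] [IsLocalRing R]
    (h : IsMultType R A) (C : Type u) [CommRing C] [HopfAlgebra R C] [IsCocomm R C]
    (hC : Algebra.FiniteType R C) (φ ψ : C →ₐc[R] A)
    (hs : ∀ c : C, φ c - ψ c ∈ Ideal.map (algebraMap R A) (IsLocalRing.maximalIdeal R)) :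
    φ = ψ := by
  obtain ⟨s, hs1, hconst⟩ := h
  have hex : ∃ f ∈ s, IsUnit f := by
    by_contra hno
    push_neg at hno
    have hle : Ideal.span s ≤ IsLocalRing.maximalIdeal R :=
      Ideal.span_le.mpr (fun f hf => (IsLocalRing.mem_maximalIdeal f).mpr (hno f hf))
    rw [hs1] at hle
    exact (IsLocalRing.maximalIdeal.isMaximal R).ne_top (top_le_iff.mp hle)
  obtain ⟨f, hf, hfu⟩ := hex
  have hunits : Submonoid.powers f ≤ IsUnit.submonoid R :=
    Submonoid.powers_le.mpr hfu
  let eS : R ≃ₐ[R] Localization.Away f := IsLocalization.atUnits R (Submonoid.powers f) hunits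
  haveI : IsLocalRing (Localization.Away f) := eS.toRingEquiv.isLocalRing
  haveI : Module.Free R (Localization.Away f) := Module.Free.of_equiv eS.toLinearEquiv
  haveI : Module.FaithfullyFlat R (Localization.Away f) := inferInstance
  have hle : (IsLocalRing.maximalIdeal R).map (algebraMap R (Localization.Away f)) ≤
      IsLocalRing.maximalIdeal (Localization.Away f) := by
    apply IsLocalRing.le_maximalIdeal
    intro htop
    exact Module.FaithfullyFlat.submodule_ne_top (R := R) (M := Localization.Away f)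
      (IsLocalRing.maximalIdeal.isMaximal R) (by rw [Ideal.smul_top_eq_map, htop]; rfl)
  haveI := hC
  have key : bc (S := Localization.Away f) φ = bc (S := Localization.Away f) ψ := by
    apply const_local (hconst f hf)
    intro z
    exact Ideal.map_mono hle (transfer _ φ ψ hs z)
  apply descend (S := Localization.Away f)
  intro c
  have := DFunLike.congr_fun key (1 ⊗ₜ c)
  rw [bc_tmul, bc_tmul] at this
  exact this

end Main

end MultRigidH1
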