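import Mathlib
import Groth.Prelude.Def_SGA3b
import Groth.Agent.Lib.MultRigid_helper1

set_option autoImplicit false
set_option maxHeartbeats 1000000

universe u

open TensorProduct SGA3b WithConv Coalgebra

namespace MultRigidH1

theorem cube_eq {X : Type*} [Ring X] (E F : X) (hE : E * E = E) (hF : F * F = F)
    (hc : E * F = F * E) : (E - F) ^ 3 = E - F := by
  have hEFE : E * F * E = E * F := by rw [mul_assoc, ← hc, ← mul_assoc, hE]
  have hEFF : E * F * F = E * F := by rw [mul_assoc, hF]
  have h2 : (E - F) * (E - F) = E - E * F - E * F + F := by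
    rw [sub_mul, mul_sub, mul_sub, hE, hF, ← hc]; abel
  rw [pow_succ, pow_two, h2]
  simp only [add_mul, sub_mul, mul_sub]
  rw [hE, hEFE, hEFF, ← hc, hF]
  abel

section Core2

variable {R : Type u} [CommRing R] {A C : Type u} [CommRing A] [CommRing C]
  [Bialgebra R A] [Bialgebra R C] {ι : Type u} (b : Module.Basis ι R A)

theorem core' (hb : ∀ i, IsGroupLikeElem R (b i)) (I : Ideal R) (φ ψ : C →ₐc[R] A)
    (hcomm : ∀ i, (toConv (b.coord i ∘ₗ (φ : C →ₗ[R] A)) : WithConv (C →ₗ[R] R)) *
        toConv (b.coord i ∘ₗ (ψ : C →ₗ[R] A)) =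
      toConv (b.coord i ∘ₗ (ψ : C →ₗ[R] A)) * toConv (b.coord i ∘ₗ (φ : C →ₗ[R] A)))
    (X : Set C) (hX : X.Finite)
    (hT : ∀ z, φ z - ψ z ∈ Ideal.span ((fun t => φ t - ψ t) '' X))
    (h : ∀ z, φ z - ψ z ∈ I.map (algebraMap R A)) :
    ∃ r ∈ I, ∀ z, (1 - r) • (φ z - ψ z) = 0 := by
  classical
  set Vals : Set R := ⋃ t ∈ X, Set.range (b.repr (φ t - ψ t)) with hVals
  have hfin : Vals.Finite :=
    Set.Finite.biUnion hX (fun t _ => Finsupp.finite_range _)
  set J : Ideal R := Ideal.span Vals with hJ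
  have hJfg : J.FG := Submodule.fg_span hfin
  have ha : ∀ z i, b.repr (φ z - ψ z) i ∈ J := by
    have hsub : Ideal.span ((fun t => φ t - ψ t) '' X) ≤ J.map (algebraMap R A) := by
      apply Ideal.span_le.mpr
      rintro _ ⟨t, ht, rfl⟩
      apply mem_map_of_repr_mem b
      intro i
      apply Ideal.subset_span
      exact Set.mem_biUnion ht ⟨i, rfl⟩
    intro z i
    exact repr_mem_of_mem_map b J _ (hsub (hT z)) i
  have hJI : J ≤ I := by
    rw [hJ, Ideal.span_le]
    intro y hy
    obtain ⟨t, ht, i, rfl⟩ := Set.mem_iUnion₂.mp hy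
    exact repr_mem_of_mem_map b I _ (h t) i
  have hJJ : J ≤ J * J := by
    have hgen : Vals ⊆ ((J * J : Ideal R) : Set R) := by
      intro y hy
      obtain ⟨t, ht, i, rfl⟩ := Set.mem_iUnion₂.mp hy
      let E : WithConv (C →ₗ[R] R) := toConv (b.coord i ∘ₗ (φ : C →ₗ[R] A))
      let F : WithConv (C →ₗ[R] R) := toConv (b.coord i ∘ₗ (ψ : C →ₗ[R] A))
      have hE : E * E = E := by
        apply WithConv.ext
        apply LinearMap.ext
        intro z
        show (E * E) z = b.coord i (φ z)
        rw [LinearMap.convMul_apply]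
        show LinearMap.mul' R R (TensorProduct.map (b.coord i ∘ₗ (φ : C →ₗ[R] A))
          (b.coord i ∘ₗ (φ : C →ₗ[R] A)) (comul z)) = _
        rw [TensorProduct.map_comp, LinearMap.comp_apply, CoalgHomClass.map_comp_comul_apply,
          coord_conv b hb]
      have hF : F * F = F := by
        apply WithConv.ext
        apply LinearMap.ext
        intro z
        show (F * F) z = b.coord i (ψ z)
        rw [LinearMap.convMul_apply]
        show LinearMap.mul' R R (TensorProduct.map (b.coord i ∘ₗ (ψ : C →ₗ[R] A))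
          (b.coord i ∘ₗ (ψ : C →ₗ[R] A)) (comul z)) = _
        rw [TensorProduct.map_comp, LinearMap.comp_apply, CoalgHomClass.map_comp_comul_apply,
          coord_conv b hb]
      have hD : (E - F) ^ 3 = E - F := cube_eq E F hE hF (hcomm i)
      have hDval : ∀ z, (E - F) z = b.repr (φ z - ψ z) i := fun z => by
        show b.coord i (φ z) - b.coord i (ψ z) = _
        rw [← map_sub]; rfl
      have hDJ : ∀ z, (E - F) z ∈ J := fun z => by rw [hDval]; exact ha z i
      have h3 : ∀ z, ((E - F) ^ 3) z ∈ J * J * J := by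
        intro z
        rw [pow_succ, pow_two]
        exact conv_mem _ _ _ _ (fun z => conv_mem _ _ _ _ hDJ hDJ z) hDJ z
      have hy : b.repr (φ t - ψ t) i = ((E - F) ^ 3) t := by rw [hD, hDval]
      show b.repr (φ t - ψ t) i ∈ J * J
      rw [hy]
      exact Ideal.mul_le_left (h3 t)
    rw [hJ]
    exact Ideal.span_le.mpr hgen
  obtain ⟨r, hrJ, hr⟩ := Submodule.exists_mem_and_smul_eq_self_of_fg_of_le_smul J J hJfg
    (by rw [smul_eq_mul]; exact hJJ)
  refine ⟨r, hJI hrJ, fun z => ?_⟩
  apply b.repr.injective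
  ext i
  rw [map_smul, Finsupp.smul_apply, map_zero, Finsupp.zero_apply, smul_eq_mul, sub_mul, one_mul,
    sub_eq_zero]
  have := hr _ (ha z i)
  rw [smul_eq_mul] at this
  exact this.symm

end Core2

section Triv

/-- the trivial homomorphism -/
noncomputable def triv (R A C : Type u) [CommRing R] [CommRing A] [CommRing C] [Bialgebra R A]
    [Bialgebra R C] : C →ₐc[R] A :=
  (Bialgebra.unitBialgHom R A).comp (Bialgebra.counitBialgHom R C)

variable {R : Type u} [CommRing R] {A C : Type u} [CommRing A] [CommRing C]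

theorem triv_apply [Bialgebra R A] [Bialgebra R C] (c : C) :
    triv R A C c = algebraMap R A (counit (R := R) c) := rfl

theorem triv_central [Bialgebra R A] [Bialgebra R C] {ι : Type u} (b : Module.Basis ι R A) (i : ι)
    (E : WithConv (C →ₗ[R] R)) :
    E * toConv (b.coord i ∘ₗ ((triv R A C : C →ₐc[R] A) : C →ₗ[R] A)) =
      toConv (b.coord i ∘ₗ ((triv R A C : C →ₐc[R] A) : C →ₗ[R] A)) * E := by
  have : (toConv (b.coord i ∘ₗ ((triv R A C : C →ₐc[R] A) : C →ₗ[R] A)) :
      WithConv (C →ₗ[R] R)) = (b.repr 1 i) • (1 : WithConv (C →ₗ[R] R)) := by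
    apply WithConv.ext
    apply LinearMap.ext
    intro z
    show b.coord i (algebraMap R A (counit (R := R) z)) =
      (b.repr 1 i) • (algebraMap R R (counit (R := R) z))
    rw [Algebra.algebraMap_eq_smul_one, map_smul, Module.Basis.coord_apply, smul_eq_mul,
      smul_eq_mul, Algebra.algebraMap_self, RingHom.id_apply, mul_comm]
  rw [this, mul_smul_comm, smul_mul_assoc, mul_one, one_mul]

variable [HopfAlgebra R A] [HopfAlgebra R C] {S : Type u} [CommRing S] [Algebra R S]

theorem bc_triv (z : S ⊗[R] C) :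
    bc (S := S) (triv R A C) z = triv S (S ⊗[R] A) (S ⊗[R] C) z := by
  induction z using TensorProduct.induction_on with
  | zero => simp
  | tmul s c =>
    rw [bc_tmul, triv_apply, triv_apply, TensorProduct.counit_tmul, CommSemiring.counit_apply,
      Algebra.TensorProduct.algebraMap_apply, Algebra.algebraMap_self, RingHom.id_apply,
      Algebra.algebraMap_eq_smul_one, TensorProduct.tmul_smul, TensorProduct.smul_tmul']
  | add x y hx hy => rw [map_add, map_add, hx, hy]

theorem transfer_span (φ ψ : C →ₐc[R] A) (X : Set C)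
    (hT : ∀ c, φ c - ψ c ∈ Ideal.span ((fun t => φ t - ψ t) '' X)) (z : S ⊗[R] C) :
    bc (S := S) φ z - bc (S := S) ψ z ∈
      Ideal.span ((fun t => bc (S := S) φ t - bc (S := S) ψ t) ''
        ((fun t => (1 : S) ⊗ₜ[R] t) '' X)) := by
  set K' := Ideal.span ((fun t => bc (S := S) φ t - bc (S := S) ψ t) ''
        ((fun t => (1 : S) ⊗ₜ[R] t) '' X)) with hK'
  have hgen : ∀ t ∈ X, (1 : S) ⊗ₜ[R] (φ t - ψ t) ∈ K' := by
    intro t ht
    have : (1 : S) ⊗ₜ[R] (φ t - ψ t) =
        bc (S := S) φ ((1 : S) ⊗ₜ[R] t) - bc (S := S) ψ ((1 : S) ⊗ₜ[R] t) := by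
      rw [bc_tmul, bc_tmul, TensorProduct.tmul_sub]
    rw [this]
    exact Ideal.subset_span ⟨(1 : S) ⊗ₜ[R] t, ⟨t, ht, rfl⟩, rfl⟩
  have hle : Ideal.span ((fun t => φ t - ψ t) '' X) ≤
      Ideal.comap (Algebra.TensorProduct.includeRight : A →ₐ[R] S ⊗[R] A) K' := by
    apply Ideal.span_le.mpr
    rintro _ ⟨t, ht, rfl⟩
    exact hgen t ht
  induction z using TensorProduct.induction_on with
  | zero => simp
  | tmul s c =>
    rw [bc_tmul, bc_tmul, ← TensorProduct.tmul_sub]
    have h1 : (1 : S) ⊗ₜ[R] (φ c - ψ c) ∈ K' := hle (hT c)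
    have h2 : s ⊗ₜ[R] (φ c - ψ c) = (s ⊗ₜ[R] (1 : A)) * ((1 : S) ⊗ₜ[R] (φ c - ψ c)) := by
      rw [Algebra.TensorProduct.tmul_mul_tmul, mul_one, one_mul]
    rw [h2]
    exact Ideal.mul_mem_left _ _ h1
  | add x y hx hy =>
    have : bc (S := S) φ (x + y) - bc (S := S) ψ (x + y) =
        (bc (S := S) φ x - bc (S := S) ψ x) + (bc (S := S) φ y - bc (S := S) ψ y) := by
      rw [map_add, map_add]; ring
    rw [this]
    exact Ideal.add_mem _ hx hy

end Triv

section Main2

theorem const_local' {R : Type u} [CommRing R] [IsLocalRing R] {A C : Type u} [CommRing A]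
    [CommRing C] [HopfAlgebra R A] [HopfAlgebra R C]
    (hA : IsMultTypeConst R A) (φ : C →ₐc[R] A) (X : Set C) (hX : X.Finite)
    (hT : ∀ c, φ c - triv R A C c ∈ Ideal.span ((fun t => φ t - triv R A C t) '' X))
    (hs : ∀ c, φ c - triv R A C c ∈ (IsLocalRing.maximalIdeal R).map (algebraMap R A)) :
    φ = triv R A C := by
  obtain ⟨S, _, _, hff, M, _, ⟨e⟩⟩ := hA
  haveI := hff
  let b : Module.Basis M S (S ⊗[R] A) :=
    (MonoidAlgebra.basis M S).map e.symm.toAlgEquiv.toLinearEquiv
  have hb : ∀ m, IsGroupLikeElem S (b m) := by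
    intro m
    have h1 : IsGroupLikeElem S (MonoidAlgebra.single m (1 : S) : MonoidAlgebra S M) :=
      MonoidAlgebra.isGroupLikeElem_single_one (R := S) (A := S) m
    exact h1.map e.symm.toBialgHom
  have hfun : (fun t => bc (S := S) φ t - bc (S := S) (triv R A C) t) =
      (fun t => bc (S := S) φ t - triv S (S ⊗[R] A) (S ⊗[R] C) t) :=
    funext (fun t => by rw [bc_triv])
  have hs' : ∀ z, bc (S := S) φ z - triv S (S ⊗[R] A) (S ⊗[R] C) z ∈
      ((IsLocalRing.maximalIdeal R).map (algebraMap R S)).map (algebraMap S (S ⊗[R] A)) := by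
    intro z
    rw [← bc_triv]
    exact transfer _ φ (triv R A C) hs z
  have hT' : ∀ z, bc (S := S) φ z - triv S (S ⊗[R] A) (S ⊗[R] C) z ∈
      Ideal.span ((fun t => bc (S := S) φ t - triv S (S ⊗[R] A) (S ⊗[R] C) t) ''
        ((fun t => (1 : S) ⊗ₜ[R] t) '' X)) := by
    intro z
    rw [← bc_triv, ← hfun]
    exact transfer_span φ (triv R A C) X hT z
  obtain ⟨r, hrI, hr⟩ := core' b hb ((IsLocalRing.maximalIdeal R).map (algebraMap R S))
    (bc (S := S) φ) (triv S (S ⊗[R] A) (S ⊗[R] C)) (fun i => triv_central b i _)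
    ((fun t => (1 : S) ⊗ₜ[R] t) '' X) (hX.image _) hT' hs'
  apply descend (S := S)
  intro c
  have h1 := hr (1 ⊗ₜ c)
  rw [← bc_triv, bc_tmul, bc_tmul, ← TensorProduct.tmul_sub, TensorProduct.smul_tmul',
    smul_eq_mul, mul_one] at h1
  have h2 := eq_zero_of_tmul_eq_zero r hrI (φ c - triv R A C c) h1
  rw [sub_eq_zero.mp h2]

theorem main5245 (R : Type u) [CommRing R] [IsLocalRing R]
    (A : Type u) [CommRing A] [HopfAlgebra R A] (hft : Algebra.FiniteType R A)
    (hH : IsMultType R A)
    (C : Type u) [CommRing C] [HopfAlgebra R C]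
    (hC : IsNoetherianRing R ∨ Algebra.FinitePresentation R C) (φ : C →ₐc[R] A)
    (hs : ∀ c : C, φ c - algebraMap R A (Coalgebra.counit c) ∈
      Ideal.map (algebraMap R A) (IsLocalRing.maximalIdeal R)) :
    ∀ c : C, φ c = algebraMap R A (Coalgebra.counit c) := by
  have hXex : ∃ X : Set C, X.Finite ∧
      ∀ c, φ c - triv R A C c ∈ Ideal.span ((fun t => φ t - triv R A C t) '' X) := by
    rcases hC with hN | hfp
    · haveI := hN
      haveI := hft
      haveI : IsNoetherianRing A := Algebra.FiniteType.isNoetherianRing R A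
      have hfg : (Submodule.span A (Set.range (fun t => φ t - triv R A C t))).FG :=
        IsNoetherian.noetherian _
      obtain ⟨s', hs'sub, hs'eq⟩ := (Submodule.fg_span_iff_fg_span_finset_subset _).mp hfg
      have hpre : ∀ y : (s' : Set A), ∃ t, φ t - triv R A C t = y.1 := fun y => hs'sub y.2
      choose g hg using hpre
      refine ⟨Set.range g, Set.finite_range g, fun c => ?_⟩
      have h1 : φ c - triv R A C c ∈ Submodule.span A (Set.range (fun t => φ t - triv R A C t)) :=
        Submodule.subset_span ⟨c, rfl⟩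
      rw [hs'eq] at h1
      refine Submodule.span_mono ?_ h1
      intro y hy
      exact ⟨g ⟨y, hy⟩, ⟨_, rfl⟩, hg ⟨y, hy⟩⟩
    · haveI := hfp
      obtain ⟨T, hT⟩ := (Algebra.FiniteType.out : (⊤ : Subalgebra R C).FG)
      refine ⟨(T : Set C), T.finite_toSet, ?_⟩
      set K := Ideal.span ((fun t => φ t - triv R A C t) '' (T : Set C)) with hK
      let q := Ideal.Quotient.mkₐ R K
      have hle : Algebra.adjoin R (T : Set C) ≤
          AlgHom.equalizer (q.comp (φ : C →ₐ[R] A))
            (q.comp ((triv R A C : C →ₐc[R] A) : C →ₐ[R] A)) := by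
        apply Algebra.adjoin_le
        intro t ht
        rw [SetLike.mem_coe, AlgHom.mem_equalizer]
        show q (φ t) = q (triv R A C t)
        rw [Ideal.Quotient.mkₐ_eq_mk, Ideal.Quotient.eq]
        exact Ideal.subset_span ⟨t, ht, rfl⟩
      intro c
      have hz : c ∈ AlgHom.equalizer (q.comp (φ : C →ₐ[R] A))
            (q.comp ((triv R A C : C →ₐc[R] A) : C →ₐ[R] A)) := hle (hT ▸ Algebra.mem_top)
      rw [AlgHom.mem_equalizer] at hz
      have hz' : q (φ c) = q (triv R A C c) := hz
      rwa [Ideal.Quotient.mkₐ_eq_mk, Ideal.Quotient.eq] at hz'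
  obtain ⟨X, hXfin, hXT⟩ := hXex
  obtain ⟨s, hs1, hconst⟩ := hH
  have hex : ∃ f ∈ s, IsUnit f := by
    by_contra hno
    push_neg at hno
    have hle : Ideal.span s ≤ IsLocalRing.maximalIdeal R :=
      Ideal.span_le.mpr (fun f hf => (IsLocalRing.mem_maximalIdeal f).mpr (hno f hf))
    rw [hs1] at hle
    exact (IsLocalRing.maximalIdeal.isMaximal R).ne_top (top_le_iff.mp hle)
  obtain ⟨f, hf, hfu⟩ := hex
  have hunits : Submonoid.powers f ≤ IsUnit.submonoid R :=
    Submonoid.powers_le.mpr hfu
  let eS : R ≃ₐ[R] Localization.Away f := IsLocalization.atUnits R (Submonoid.powers f) hunits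
  haveI : IsLocalRing (Localization.Away f) := eS.toRingEquiv.isLocalRing
  haveI : Module.Free R (Localization.Away f) := Module.Free.of_equiv eS.toLinearEquiv
  haveI : Module.FaithfullyFlat R (Localization.Away f) := inferInstance
  have hle : (IsLocalRing.maximalIdeal R).map (algebraMap R (Localization.Away f)) ≤
      IsLocalRing.maximalIdeal (Localization.Away f) := by
    apply IsLocalRing.le_maximalIdeal
    intro htop
    exact Module.FaithfullyFlat.submodule_ne_top (R := R) (M := Localization.Away f)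
      (IsLocalRing.maximalIdeal.isMaximal R) (by rw [Ideal.smul_top_eq_map, htop]; rfl)
  have hfun : (fun t => bc (S := Localization.Away f) φ t -
        bc (S := Localization.Away f) (triv R A C) t) =
      (fun t => bc (S := Localization.Away f) φ t -
        triv (Localization.Away f) (Localization.Away f ⊗[R] A) (Localization.Away f ⊗[R] C) t) :=
    funext (fun t => by rw [bc_triv])
  have key : bc (S := Localization.Away f) φ =
      triv (Localization.Away f) (Localization.Away f ⊗[R] A) (Localization.Away f ⊗[R] C) := by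
    apply const_local' (hconst f hf) (bc (S := Localization.Away f) φ)
      ((fun t => (1 : Localization.Away f) ⊗ₜ[R] t) '' X) (hXfin.image _)
    · intro z
      rw [← bc_triv, ← hfun]
      exact transfer_span φ (triv R A C) X hXT z
    · intro z
      rw [← bc_triv]
      exact Ideal.map_mono hle (transfer _ φ (triv R A C) hs z)
  intro c
  have := DFunLike.congr_fun key (1 ⊗ₜ c)
  rw [bc_tmul, ← bc_triv, bc_tmul] at this
  exact Module.FaithfullyFlat.tensorProduct_mk_injective (A := R) (B := Localization.Away f) A this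

end Main2

end MultRigidH1
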