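import Mathlib
import Groth.Prelude.Def_Found
import Groth.Agent.Lib.AlgClosureFG_helper1
import Groth.Agent.Lib.EtaleReduced_helper7
import Groth.Agent.Lib.DepthDescent_helper5

/-!
# The Nagata property descends along smooth faithfully flat ring maps (helper3)
APPEND-ONLY once landed.

* the integral closure of a Nagata ring in a reduced algebra *essentially* of finite type is finite
  (generalisation of `NagataIC_helper3`);
* a smooth algebra over a reduced ring is reduced (affine form of helper7's scheme statement);
* descent of the Nagata property, using Mathlib's "smooth base change commutes with integral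
  closure".
-/

set_option autoImplicit false
set_option maxSynthPendingDepth 3
universe u

open TensorProduct

namespace Groth.Agent.Lib.NagataSmoothH3

section Domain

variable (R₀ D : Type u) [CommRing R₀] [IsDomain R₀] [IsNoetherianRing R₀] [CommRing D]
  [IsDomain D] [Algebra R₀ D] [Algebra.EssFiniteType R₀ D]

/-- `R₀ ⊆ D` extension of domains essentially of finite type with `R₀` Noetherian N-2: the
integral closure of `R₀` in `D` is finite. -/
theorem finite_integralClosure_of_injective (hinj : Function.Injective (algebraMap R₀ D))
    (hN2 : CAlg.IsN2 R₀) : Module.Finite R₀ (integralClosure R₀ D) := by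
  have hinjDF : Function.Injective (algebraMap D (FractionRing D)) :=
    IsFractionRing.injective D (FractionRing D)
  have hinjF : Function.Injective (algebraMap R₀ (FractionRing D)) := by
    rw [IsScalarTower.algebraMap_eq R₀ D (FractionRing D)]
    exact hinjDF.comp hinj
  haveI : FaithfulSMul R₀ (FractionRing D) :=
    (faithfulSMul_iff_algebraMap_injective R₀ (FractionRing D)).mpr hinjF
  letI : Algebra (FractionRing R₀) (FractionRing D) := FractionRing.liftAlgebra R₀ (FractionRing D)
  haveI : IsScalarTower R₀ (FractionRing R₀) (FractionRing D) :=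
    FractionRing.isScalarTower_liftAlgebra R₀ (FractionRing D)
  haveI : Algebra.EssFiniteType D (FractionRing D) :=
    Algebra.EssFiniteType.of_isLocalization (FractionRing D) (nonZeroDivisors D)
  haveI : Algebra.EssFiniteType R₀ (FractionRing D) := Algebra.EssFiniteType.comp R₀ D _
  haveI : Algebra.EssFiniteType (FractionRing R₀) (FractionRing D) :=
    Algebra.EssFiniteType.of_comp R₀ _ _
  have hfg : (⊤ : IntermediateField (FractionRing R₀) (FractionRing D)).FG :=
    IntermediateField.fg_top_iff.mpr inferInstance
  haveI hfin : FiniteDimensional (FractionRing R₀)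
      (algebraicClosure (FractionRing R₀) (FractionRing D)) :=
    Groth.Agent.Lib.AlgClosureFGH1.algClosure_finite hfg
  have h1 : Module.Finite R₀
      (integralClosure R₀ (algebraicClosure (FractionRing R₀) (FractionRing D))) :=
    hN2 (algebraicClosure (FractionRing R₀) (FractionRing D)) hfin
  haveI := h1
  haveI : IsNoetherian R₀
      (integralClosure R₀ (algebraicClosure (FractionRing R₀) (FractionRing D))) :=
    isNoetherian_of_isNoetherianRing_of_finite R₀ _
  have hmem : ∀ x : integralClosure R₀ D, algebraMap D (FractionRing D) x.1 ∈
      algebraicClosure (FractionRing R₀) (FractionRing D) := by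
    intro x
    have hx : IsIntegral R₀ (algebraMap D (FractionRing D) x.1) :=
      (x.2 : IsIntegral R₀ x.1).map (IsScalarTower.toAlgHom R₀ D (FractionRing D))
    have hx' : IsIntegral (FractionRing R₀) (algebraMap D (FractionRing D) x.1) := hx.tower_top
    exact (mem_algebraicClosure_iff').mpr hx'
  have hint : ∀ x : integralClosure R₀ D, IsIntegral R₀
      (⟨algebraMap D (FractionRing D) x.1, hmem x⟩ :
        algebraicClosure (FractionRing R₀) (FractionRing D)) := by
    intro x
    have hx : IsIntegral R₀ (algebraMap D (FractionRing D) x.1) :=
      (x.2 : IsIntegral R₀ x.1).map (IsScalarTower.toAlgHom R₀ D (FractionRing D))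
    exact (isIntegral_algHom_iff
      ((algebraicClosure (FractionRing R₀) (FractionRing D)).val.restrictScalars R₀)
      Subtype.val_injective).mp hx
  let φ : integralClosure R₀ D →ₗ[R₀]
      integralClosure R₀ (algebraicClosure (FractionRing R₀) (FractionRing D)) :=
    { toFun := fun x => ⟨⟨algebraMap D (FractionRing D) x.1, hmem x⟩, hint x⟩
      map_add' := fun x y => by
        apply Subtype.ext
        apply Subtype.ext
        simp
      map_smul' := fun r x => by
        apply Subtype.ext
        apply Subtype.ext
        show algebraMap D (FractionRing D) (r • x.1) = r • algebraMap D (FractionRing D) x.1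
        rw [Algebra.smul_def, map_mul, ← IsScalarTower.algebraMap_apply, Algebra.smul_def] }
  have hφ : Function.Injective φ := by
    intro x y hxy
    apply Subtype.ext
    apply hinjDF
    have := congrArg (fun z => (z.1 : FractionRing D)) hxy
    exact this
  exact Module.Finite.of_injective φ hφ

end Domain

/-- Transfer of generators of the integral closure between `R` and `R ⧸ p`. -/
theorem span_integralClosure_quotient {R : Type u} [CommRing R] (p : Ideal R) (D : Type u)
    [CommRing D] [Algebra R D] [Algebra (R ⧸ p) D] [IsScalarTower R (R ⧸ p) D] (T : Set D) :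
    Submodule.span R T = (integralClosure R D).toSubmodule ↔
      Submodule.span (R ⧸ p) T = (integralClosure (R ⧸ p) D).toSubmodule := by
  haveI : Algebra.IsIntegral R (R ⧸ p) :=
    Algebra.isIntegral_of_surjective Ideal.Quotient.mk_surjective
  have hint : ∀ x : D, IsIntegral R x ↔ IsIntegral (R ⧸ p) x := fun x =>
    ⟨fun h => h.tower_top, fun h => isIntegral_trans (A := R ⧸ p) x h⟩
  have hspan : ∀ x : D, x ∈ Submodule.span R T ↔ x ∈ Submodule.span (R ⧸ p) T := by
    intro x
    constructor
    · intro hx
      induction hx using Submodule.span_induction with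
      | mem y hy => exact Submodule.subset_span hy
      | zero => exact Submodule.zero_mem _
      | add y z _ _ hy hz => exact Submodule.add_mem _ hy hz
      | smul c y _ hy =>
        have : (Ideal.Quotient.mk p c) • y = c • y := algebraMap_smul (R ⧸ p) c y
        rw [← this]
        exact Submodule.smul_mem _ _ hy
    · intro hx
      induction hx using Submodule.span_induction with
      | mem y hy => exact Submodule.subset_span hy
      | zero => exact Submodule.zero_mem _
      | add y z _ _ hy hz => exact Submodule.add_mem _ hy hz
      | smul c y _ hy =>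
        obtain ⟨r, rfl⟩ := Ideal.Quotient.mk_surjective c
        have : (Ideal.Quotient.mk p r) • y = r • y := algebraMap_smul (R ⧸ p) r y
        rw [this]
        exact Submodule.smul_mem _ _ hy
  constructor
  · intro h
    ext x
    rw [← hspan, h]
    exact hint x
  · intro h
    ext x
    rw [hspan, h]
    exact (hint x).symm

section General

variable (R : Type u) [CommRing R] (hR : CAlg.IsNagata R)

include hR

/-- the integral closure of a Nagata ring in a domain essentially of finite type is finite. -/
theorem finite_integralClosure_of_isDomain (D : Type u) [CommRing D] [IsDomain D] [Algebra R D]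
    [Algebra.EssFiniteType R D] : Module.Finite R (integralClosure R D) := by
  haveI : IsNoetherianRing R := hR.1
  let p : Ideal R := RingHom.ker (algebraMap R D)
  haveI : p.IsPrime := RingHom.ker_isPrime _
  letI : Algebra (R ⧸ p) D := (RingHom.kerLift (algebraMap R D)).toAlgebra
  haveI : IsScalarTower R (R ⧸ p) D := IsScalarTower.of_algebraMap_eq (fun r => rfl)
  have hinj : Function.Injective (algebraMap (R ⧸ p) D) := RingHom.kerLift_injective _
  haveI : Algebra.EssFiniteType (R ⧸ p) D := Algebra.EssFiniteType.of_comp R (R ⧸ p) D
  have h1 : Module.Finite (R ⧸ p) (integralClosure (R ⧸ p) D) :=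
    finite_integralClosure_of_injective (R ⧸ p) D hinj (hR.2 p)
  obtain ⟨T, hT⟩ := (Module.Finite.iff_fg (N := (integralClosure (R ⧸ p) D).toSubmodule)).mp h1
  exact (Module.Finite.iff_fg (N := (integralClosure R D).toSubmodule)).mpr
    ⟨T, (span_integralClosure_quotient p D (T : Set D)).mpr hT⟩

/-- If `R` is Nagata and `S` a reduced `R`-algebra essentially of finite type, then the integral
closure of `R` in `S` is a finite `R`-module. -/
theorem finite_integralClosure (S : Type u) [CommRing S] [IsReduced S] [Algebra R S]
    [Algebra.EssFiniteType R S] : Module.Finite R (integralClosure R S) := by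
  haveI : IsNoetherianRing R := hR.1
  haveI : IsNoetherianRing S := Algebra.EssFiniteType.isNoetherianRing R S
  haveI hfin : Finite (minimalPrimes S) := (minimalPrimes.finite_of_isNoetherianRing S).to_subtype
  haveI hprime : ∀ q : minimalPrimes S, (q.1).IsPrime := fun q => q.2.1.1
  haveI : ∀ q : minimalPrimes S, Algebra.EssFiniteType R (S ⧸ q.1) := fun q =>
    Algebra.EssFiniteType.comp R S (S ⧸ q.1)
  haveI : ∀ q : minimalPrimes S, Module.Finite R (integralClosure R (S ⧸ q.1)) := fun q =>
    finite_integralClosure_of_isDomain R hR (S ⧸ q.1)
  let ψ : integralClosure R S →ₗ[R] (∀ q : minimalPrimes S, integralClosure R (S ⧸ q.1)) :=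
    { toFun := fun x q => ⟨Ideal.Quotient.mk q.1 x.1,
        (x.2 : IsIntegral R x.1).map (Ideal.Quotient.mkₐ R q.1)⟩
      map_add' := fun x y => by
        funext q
        apply Subtype.ext
        simp
      map_smul' := fun r x => by
        funext q
        apply Subtype.ext
        show Ideal.Quotient.mk q.1 (r • x.1) = r • Ideal.Quotient.mk q.1 x.1
        rw [Algebra.smul_def, map_mul, Algebra.smul_def]
        rfl }
  have hψ : Function.Injective ψ := by
    intro x y hxy
    apply Subtype.ext
    rw [← sub_eq_zero]
    have hmem : x.1 - y.1 ∈ sInf (minimalPrimes S) := by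
      rw [Ideal.mem_sInf]
      intro q hq
      have h1 := congrFun hxy ⟨q, hq⟩
      have h2 : Ideal.Quotient.mk q x.1 = Ideal.Quotient.mk q y.1 := congrArg Subtype.val h1
      exact Ideal.Quotient.eq.mp h2
    have hbot : sInf (minimalPrimes S) = ⊥ := by
      show sInf (⊥ : Ideal S).minimalPrimes = ⊥
      rw [Ideal.sInf_minimalPrimes]
      exact nilradical_eq_zero S
    rw [hbot] at hmem
    exact hmem
  haveI : IsNoetherian R (∀ q : minimalPrimes S, integralClosure R (S ⧸ q.1)) :=
    isNoetherian_of_isNoetherianRing_of_finite R _
  exact Module.Finite.of_injective ψ hψ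

end General

open AlgebraicGeometry CategoryTheory in
/-- A smooth algebra over a reduced ring is reduced. -/
theorem isReduced_of_smooth (A B : Type u) [CommRing A] [CommRing B] [Algebra A B]
    [Algebra.Smooth A B] [_root_.IsReduced A] : _root_.IsReduced B := by
  have h : Smooth (Spec.map (CommRingCat.ofHom (algebraMap A B))) := by
    rw [HasRingHomProperty.Spec_iff (P := @Smooth)]
    exact RingHom.smooth_algebraMap.2 inferInstance
  haveI : AlgebraicGeometry.IsReduced (Spec (CommRingCat.of A)) :=
    (affine_isReduced_iff _).2 inferInstance
  have := Groth.Agent.Lib.EtaleReduced_helper7.isReduced_of_smooth_scheme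
    (Spec.map (CommRingCat.ofHom (algebraMap A B)))
  exact (affine_isReduced_iff (CommRingCat.of B)).1 this

/-- Descent of N-2 for the quotients: `R → S` smooth and faithfully flat with `S` Nagata. -/
theorem isN2_quotient_of_smooth (R S : Type u) [CommRing R] [CommRing S] [Algebra R S]
    [Algebra.Smooth R S] [Module.FaithfullyFlat R S] (hS : CAlg.IsNagata S) (p : Ideal R)
    [p.IsPrime] : CAlg.IsN2 (R ⧸ p) := by
  intro L _ _ _ _ hfin
  haveI := hfin
  haveI : IsNoetherianRing S := hS.1
  letI : Algebra R L := ((algebraMap (R ⧸ p) L).comp (Ideal.Quotient.mk p)).toAlgebra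
  haveI : IsScalarTower R (R ⧸ p) L := IsScalarTower.of_algebraMap_eq (fun r => rfl)
  haveI : Algebra.EssFiniteType (R ⧸ p) (FractionRing (R ⧸ p)) :=
    Algebra.EssFiniteType.of_isLocalization _ (nonZeroDivisors (R ⧸ p))
  haveI : Algebra.EssFiniteType (R ⧸ p) L :=
    Algebra.EssFiniteType.comp (R ⧸ p) (FractionRing (R ⧸ p)) L
  haveI : Algebra.EssFiniteType R L := Algebra.EssFiniteType.comp R (R ⧸ p) L
  haveI : _root_.IsReduced (S ⊗[R] L) := by
    haveI : _root_.IsReduced (L ⊗[R] S) := isReduced_of_smooth L (L ⊗[R] S)
    exact isReduced_of_injective (Algebra.TensorProduct.comm R S L).toRingHom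
      (Algebra.TensorProduct.comm R S L).injective
  have h1 : Module.Finite S (integralClosure S (S ⊗[R] L)) :=
    finite_integralClosure S hS (S ⊗[R] L)
  have hbij := TensorProduct.toIntegralClosure_bijective_of_smooth (R := R) (S := S) (B := L)
  haveI h2 : Module.Finite S (S ⊗[R] integralClosure R L) := by
    haveI := h1
    exact Module.Finite.equiv (AlgEquiv.ofBijective _ hbij).symm.toLinearEquiv
  have h3 : Module.Finite R (integralClosure R L) :=
    Module.Finite.of_finite_tensorProduct_of_faithfullyFlat S
  obtain ⟨T, hT⟩ := (Module.Finite.iff_fg (N := (integralClosure R L).toSubmodule)).mp h3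
  exact (Module.Finite.iff_fg (N := (integralClosure (R ⧸ p) L).toSubmodule)).mpr
    ⟨T, (span_integralClosure_quotient p L (T : Set L)).mp hT⟩

/-- **The Nagata property descends along smooth ring maps surjective on spectra.** -/
theorem main (R : Type u) [CommRing R] (S : Type u) [CommRing S] [Algebra R S]
    [Algebra.Smooth R S]
    (hs : Function.Surjective (PrimeSpectrum.comap (algebraMap R S))) (hS : CAlg.IsNagata S) :
    CAlg.IsNagata R := by
  haveI : Module.FaithfullyFlat R S := Module.FaithfullyFlat.of_comap_surjective hs
  haveI : IsNoetherianRing S := hS.1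
  exact ⟨Groth.Agent.DepthLib.isNoetherianRing_of_faithfullyFlat R S,
    fun p _ => isN2_quotient_of_smooth R S hS p⟩

end Groth.Agent.Lib.NagataSmoothH3
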