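import Mathlib
import Groth.Prelude.Def_SGA3b
import Groth.Agent.Lib.MultFin_helper1
import Groth.Agent.Lib.NagataSmooth_helper3

set_option autoImplicit false
set_option maxHeartbeats 1000000

/-!
# Density of the prime-to-`p` torsion in a smooth group of multiplicative type over a field (helper1)
-/

namespace MultDenseH1

open TensorProduct WithConv SGA3b MultFinH1 Pointwise

universe u

section Push

variable {R S A : Type u} [CommRing R] [CommRing S] [Algebra R S] [CommRing A] [HopfAlgebra R A]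

theorem counit_one_tmul (a : A) : Coalgebra.counit (R := S) ((1 : S) ⊗ₜ[R] a) =
    algebraMap R S (Coalgebra.counit (R := R) a) := by
  rw [TensorProduct.counit_tmul, CommSemiring.counit_apply, Algebra.algebraMap_eq_smul_one]

theorem push_baseChange (n : ℕ) (a : A) (ha : a ∈ torsionIdeal R A n) :
    (1 : S) ⊗ₜ[R] a ∈ torsionIdeal S (S ⊗[R] A) n := by
  have hle : torsionIdeal R A n ≤
      Ideal.comap (Algebra.TensorProduct.includeRight : A →ₐ[R] S ⊗[R] A)
        (torsionIdeal S (S ⊗[R] A) n) := by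
    unfold torsionIdeal
    rw [Ideal.map_le_iff_le_comap]
    intro b hb
    rw [Ideal.mem_comap, Ideal.mem_comap]
    have h1 : (Algebra.TensorProduct.includeRight : A →ₐ[R] S ⊗[R] A) (powConv R A n b) =
        powConv S (S ⊗[R] A) n ((1 : S) ⊗ₜ[R] b) := (powConv_baseChange n b).symm
    rw [h1]
    apply Ideal.mem_map_of_mem
    rw [RingHom.mem_ker] at hb ⊢
    rw [Bialgebra.counitAlgHom_apply] at hb ⊢
    rw [counit_one_tmul, hb, map_zero]
  exact hle ha

theorem push_equiv {X Y : Type u} [CommRing X] [CommRing Y] [HopfAlgebra R X] [HopfAlgebra R Y]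
    (e : X →ₐc[R] Y) (n : ℕ) (x : X) (hx : x ∈ torsionIdeal R X n) :
    e x ∈ torsionIdeal R Y n := by
  have hle : torsionIdeal R X n ≤ Ideal.comap (e : X →ₐ[R] Y) (torsionIdeal R Y n) := by
    unfold torsionIdeal
    rw [Ideal.map_le_iff_le_comap]
    intro b hb
    rw [Ideal.mem_comap, Ideal.mem_comap]
    show e (powConv R X n b) ∈ _
    rw [powConv_nat]
    apply Ideal.mem_map_of_mem
    rw [RingHom.mem_ker] at hb ⊢
    rw [Bialgebra.counitAlgHom_apply] at hb ⊢
    rw [CoalgHomClass.counit_comp_apply, hb]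
  exact hle hx

end Push

section Mon

variable {R M : Type u} [CommRing R] [CommGroup M]

/-- subgroup of `n`-th powers -/
def Hn (M : Type u) [CommGroup M] (n : ℕ) : Subgroup M := (powMonoidHom n : M →* M).range

/-- the projection `R[M] → R[M/Mⁿ]` -/
noncomputable def piN (R M : Type u) [CommRing R] [CommGroup M] (n : ℕ) :
    MonoidAlgebra R M →ₐ[R] MonoidAlgebra R (M ⧸ Hn M n) :=
  MonoidAlgebra.mapDomainAlgHom R R (QuotientGroup.mk' (Hn M n))

theorem piN_powConv (n : ℕ) :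
    (piN R M n).comp (powConv R (MonoidAlgebra R M) n) =
      (Algebra.ofId R _).comp (Bialgebra.counitAlgHom R (MonoidAlgebra R M)) := by
  refine MonoidAlgebra.algHom_ext (fun m => ?_) (Subsingleton.elim _ _)
  rw [AlgHom.comp_apply, AlgHom.comp_apply,
    powConv_groupLike _ (MonoidAlgebra.isGroupLikeElem_single_one (R := R) (A := R) m),
    MonoidAlgebra.single_pow, one_pow]
  show MonoidAlgebra.mapDomain (QuotientGroup.mk' (Hn M n)) (MonoidAlgebra.single (m ^ n) (1 : R)) =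
    algebraMap R _ (Coalgebra.counit (R := R) (MonoidAlgebra.single m (1 : R)))
  rw [MonoidAlgebra.mapDomain_single,
    (MonoidAlgebra.isGroupLikeElem_single_one (R := R) (A := R) m).counit_eq_one, map_one,
    MonoidAlgebra.one_def]
  congr 1
  exact (QuotientGroup.eq_one_iff _).mpr ⟨m, rfl⟩

theorem torsion_le_ker (n : ℕ) :
    torsionIdeal R (MonoidAlgebra R M) n ≤ RingHom.ker (piN R M n) := by
  unfold torsionIdeal
  rw [Ideal.map_le_iff_le_comap]
  intro z hz
  rw [Ideal.mem_comap, RingHom.mem_ker]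
  have h1 := AlgHom.congr_fun (piN_powConv (R := R) (M := M) n) z
  rw [AlgHom.comp_apply, AlgHom.comp_apply] at h1
  rw [h1]
  rw [RingHom.mem_ker] at hz
  rw [hz, map_zero]

theorem eq_zero_of_injOn (n : ℕ) (y : MonoidAlgebra R M) (hy : piN R M n y = 0)
    (hinj : Set.InjOn (QuotientGroup.mk' (Hn M n)) (y.coeff.support : Set M)) : y = 0 := by
  have h1 : Finsupp.mapDomain (QuotientGroup.mk' (Hn M n)) y.coeff =
      Finsupp.mapDomain (QuotientGroup.mk' (Hn M n)) 0 := by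
    rw [Finsupp.mapDomain_zero]
    exact congrArg MonoidAlgebra.coeff hy
  have h2 : y.coeff = 0 := Finsupp.mapDomain_injOn _ hinj
    (show y.coeff ∈ {w : M →₀ R | (w.support : Set M) ⊆ (y.coeff.support : Set M)} from
      (fun _ hh => hh))
    (show (0 : M →₀ R) ∈ {w : M →₀ R | (w.support : Set M) ⊆ (y.coeff.support : Set M)} by
      simp) h1
  apply MonoidAlgebra.coeff_injective
  rw [h2]
  rfl

end Mon

section Grp

theorem sep_add (G : Type u) [AddCommGroup G] [Module.Finite ℤ G] (p : ℕ)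
    (hp0 : p = 0 ∨ p.Prime) (hnt : p.Prime → ∀ x : G, p • x = 0 → x = 0) (g : G) (hg : g ≠ 0) :
    ∃ n : ℕ, 0 < n ∧ ¬ p ∣ n ∧ ∀ h : G, n • h ≠ g := by
  by_contra hcon
  push_neg at hcon
  have stepA : ∀ q : ℕ, q.Prime → q ≠ p → ∃ c : ℤ, ¬ (q : ℤ) ∣ c ∧ c • g = 0 := by
    intro q hq hqp
    have hmem : g ∈ (⨅ i : ℕ, (Ideal.span {(q : ℤ)}) ^ i • (⊤ : Submodule ℤ G)) := by
      rw [Submodule.mem_iInf]
      intro i
      rw [Ideal.span_singleton_pow, Submodule.ideal_span_singleton_smul]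
      have hqi : ¬ p ∣ q ^ i := by
        rcases hp0 with h0 | hpp
        · rw [h0, zero_dvd_iff]; exact pow_ne_zero i hq.ne_zero
        · intro hd
          exact hqp ((Nat.prime_dvd_prime_iff_eq hpp hq).mp (hpp.dvd_of_dvd_pow hd)).symm
      obtain ⟨h, hh⟩ := hcon (q ^ i) (pow_pos hq.pos i) hqi
      rw [Submodule.mem_smul_pointwise_iff_exists]
      refine ⟨h, Submodule.mem_top, ?_⟩
      rw [← hh, ← Nat.cast_pow, natCast_zsmul]
    obtain ⟨r, hr⟩ := (Ideal.mem_iInf_smul_pow_eq_bot_iff (Ideal.span {(q : ℤ)}) g).mp hmem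
    refine ⟨(r : ℤ) - 1, ?_, ?_⟩
    · intro hd
      have h1 : (q : ℤ) ∣ (r : ℤ) := Ideal.mem_span_singleton.mp r.2
      have h2 : (q : ℤ) ∣ 1 := by
        have h3 := dvd_sub h1 hd
        rwa [sub_sub_cancel] at h3
      have h4 : q ∣ 1 := by exact_mod_cast h2
      exact hq.one_lt.ne' (Nat.dvd_one.mp h4)
    · rw [sub_smul, one_smul, hr, sub_self]
  obtain ⟨q₀, hq₀, hq₀p⟩ : ∃ q : ℕ, q.Prime ∧ q ≠ p := by
    by_cases h2 : p = 2
    · exact ⟨3, Nat.prime_three, by omega⟩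
    · exact ⟨2, Nat.prime_two, fun h => h2 h.symm⟩
  obtain ⟨c₀, hc₀, hc₀g⟩ := stepA q₀ hq₀ hq₀p
  have hc₀0 : c₀ ≠ 0 := by
    rintro rfl
    exact hc₀ (dvd_zero _)
  have hd : ((addOrderOf g : ℕ) : ℤ) ∣ c₀ := addOrderOf_dvd_iff_zsmul_eq_zero.mpr hc₀g
  have hd0 : addOrderOf g ≠ 0 := by
    intro h0
    rw [h0, Nat.cast_zero, zero_dvd_iff] at hd
    exact hc₀0 hd
  have hd1 : addOrderOf g ≠ 1 := by
    intro h1
    exact hg (AddMonoid.addOrderOf_eq_one_iff.mp h1)
  have hℓ : (addOrderOf g).minFac.Prime := Nat.minFac_prime hd1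
  have hℓd : (addOrderOf g).minFac ∣ addOrderOf g := Nat.minFac_dvd _
  by_cases hℓp : (addOrderOf g).minFac = p
  · have hpp : p.Prime := hℓp ▸ hℓ
    have hpd : p ∣ addOrderOf g := hℓp ▸ hℓd
    have h1 : p • ((addOrderOf g / p) • g) = 0 := by
      rw [smul_smul, Nat.mul_div_cancel' hpd, addOrderOf_nsmul_eq_zero]
    have h2 := hnt hpp _ h1
    have h3 : addOrderOf g ∣ addOrderOf g / p := addOrderOf_dvd_iff_nsmul_eq_zero.mpr h2
    have h4 : addOrderOf g / p < addOrderOf g :=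
      Nat.div_lt_self (Nat.pos_of_ne_zero hd0) hpp.one_lt
    have h5 : 0 < addOrderOf g / p :=
      Nat.div_pos (Nat.le_of_dvd (Nat.pos_of_ne_zero hd0) hpd) hpp.pos
    exact absurd (Nat.le_of_dvd h5 h3) (not_le.mpr h4)
  · obtain ⟨c, hc, hcg⟩ := stepA _ hℓ hℓp
    have h6 : ((addOrderOf g : ℕ) : ℤ) ∣ c := addOrderOf_dvd_iff_zsmul_eq_zero.mpr hcg
    exact hc (dvd_trans (Int.natCast_dvd_natCast.mpr hℓd) h6)

theorem exists_injOn (M : Type u) [CommGroup M] [Group.FG M] (p : ℕ) (hp0 : p = 0 ∨ p.Prime)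
    (hnt : p.Prime → ∀ m : M, m ^ p = 1 → m = 1) (T : Finset M) :
    ∃ n : ℕ, 0 < n ∧ ¬ p ∣ n ∧ Set.InjOn (QuotientGroup.mk' (Hn M n)) (T : Set M) := by
  classical
  haveI : Module.Finite ℤ (Additive M) := Module.Finite.iff_addGroup_fg.mpr inferInstance
  have key : ∀ m : M, m ≠ 1 → ∃ n : ℕ, 0 < n ∧ ¬ p ∣ n ∧ m ∉ Hn M n := by
    intro m hm
    obtain ⟨n, hn, hpn, hne⟩ := sep_add (Additive M) p hp0
      (fun hpp x hx => by
        have h1 := hnt hpp (Additive.toMul x) (by rw [← toMul_nsmul, hx, toMul_zero])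
        exact Additive.toMul.injective (by rw [h1, toMul_zero]))
      (Additive.ofMul m) (fun h0 => hm (Additive.ofMul.injective (by rw [h0, ofMul_one])))
    refine ⟨n, hn, hpn, ?_⟩
    rintro ⟨h, hh⟩
    apply hne (Additive.ofMul h)
    rw [← ofMul_pow]
    exact congrArg Additive.ofMul hh
  choose! N hN using key
  have hpos : ∀ ab ∈ T ×ˢ T, 0 < (if ab.1 = ab.2 then 1 else N (ab.1⁻¹ * ab.2)) := by
    intro ab _
    split_ifs with h
    · exact one_pos
    · exact (hN _ (fun h1 => h (inv_mul_eq_one.mp h1))).1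
  refine ⟨∏ ab ∈ T ×ˢ T, (if ab.1 = ab.2 then 1 else N (ab.1⁻¹ * ab.2)),
    Finset.prod_pos hpos, ?_, ?_⟩
  · rcases hp0 with h0 | hpp
    · rw [h0, zero_dvd_iff]
      exact (Finset.prod_pos hpos).ne'
    · intro hd
      obtain ⟨ab, hab, hdab⟩ := (Prime.dvd_finset_prod_iff hpp.prime _).mp hd
      split_ifs at hdab with h
      · exact hpp.one_lt.ne' (Nat.dvd_one.mp hdab)
      · exact (hN _ (fun h1 => h (inv_mul_eq_one.mp h1))).2.1 hdab
  · intro a ha b hb hab
    by_contra hne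
    have hm : a⁻¹ * b ≠ 1 := fun h1 => hne (inv_mul_eq_one.mp h1)
    have h1 : a⁻¹ * b ∈ Hn M (∏ ab ∈ T ×ˢ T, (if ab.1 = ab.2 then 1 else N (ab.1⁻¹ * ab.2))) :=
      QuotientGroup.eq.mp hab
    obtain ⟨h, hh⟩ := h1
    have hdvd : N (a⁻¹ * b) ∣ ∏ ab ∈ T ×ˢ T, (if ab.1 = ab.2 then 1 else N (ab.1⁻¹ * ab.2)) := by
      have h2 := Finset.dvd_prod_of_mem
        (fun ab : M × M => (if ab.1 = ab.2 then 1 else N (ab.1⁻¹ * ab.2)))
        (Finset.mem_product.mpr ⟨Finset.mem_coe.mp ha, Finset.mem_coe.mp hb⟩ : (a, b) ∈ T ×ˢ T)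
      simpa [hne] using h2
    obtain ⟨c, hc⟩ := hdvd
    apply (hN _ hm).2.2
    refine ⟨h ^ c, ?_⟩
    show (h ^ c) ^ N (a⁻¹ * b) = a⁻¹ * b
    rw [← pow_mul, mul_comm, ← hc]
    exact hh

end Grp

section Smooth

theorem no_torsion {R' L M : Type u} [CommRing R'] [Nontrivial R'] [CommRing L] [Algebra R' L]
    [Algebra.Smooth R' L] [CommGroup M] (e : L ≃ₐ[R'] MonoidAlgebra R' M) (p : ℕ) (hp : p.Prime)
    (hpR : ((p : ℕ) : R') = 0) (m : M) (hm : m ^ p = 1) : m = 1 := by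
  obtain ⟨𝔪, h𝔪⟩ := Ideal.exists_maximal R'
  letI := Ideal.Quotient.field 𝔪
  haveI : Algebra.Smooth (R' ⧸ 𝔪) ((R' ⧸ 𝔪) ⊗[R'] L) := inferInstance
  haveI : IsReduced ((R' ⧸ 𝔪) ⊗[R'] L) :=
    Groth.Agent.Lib.NagataSmoothH3.isReduced_of_smooth (R' ⧸ 𝔪) ((R' ⧸ 𝔪) ⊗[R'] L)
  let E : (R' ⧸ 𝔪) ⊗[R'] L ≃ₐ[R' ⧸ 𝔪] (R' ⧸ 𝔪) ⊗[R'] MonoidAlgebra R' M :=
    Algebra.TensorProduct.congr AlgEquiv.refl e
  haveI : IsReduced ((R' ⧸ 𝔪) ⊗[R'] MonoidAlgebra R' M) :=
    isReduced_of_injective E.symm E.symm.injective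
  haveI : Fact p.Prime := ⟨hp⟩
  have hpM : ((p : ℕ) : MonoidAlgebra R' M) = 0 := by
    have h2 : ((p : ℕ) : MonoidAlgebra R' M) = algebraMap R' (MonoidAlgebra R' M) ((p : ℕ) : R') := by
      rw [map_natCast]
    rw [h2, hpR, map_zero]
  haveI : CharP (MonoidAlgebra R' M) p := (CharP.charP_iff_prime_eq_zero hp).mpr hpM
  have hz : (MonoidAlgebra.single m (1 : R') - 1 : MonoidAlgebra R' M) ^ p = 0 := by
    rw [sub_pow_char, MonoidAlgebra.single_pow, one_pow, one_pow, hm, ← MonoidAlgebra.one_def,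
      sub_self]
  have hx : ((1 : R' ⧸ 𝔪) ⊗ₜ[R'] (MonoidAlgebra.single m (1 : R') - 1 : MonoidAlgebra R' M)) ^ p
      = 0 := by
    rw [Algebra.TensorProduct.tmul_pow, hz, TensorProduct.tmul_zero]
  have hx0 : (1 : R' ⧸ 𝔪) ⊗ₜ[R'] (MonoidAlgebra.single m (1 : R') - 1 : MonoidAlgebra R' M) = 0 :=
    IsReduced.eq_zero _ ⟨p, hx⟩
  let b := Algebra.TensorProduct.basis (R' ⧸ 𝔪) (MonoidAlgebra.basis M R')
  have hb : ∀ m' : M, b m' = (1 : R' ⧸ 𝔪) ⊗ₜ[R'] (MonoidAlgebra.single m' (1 : R')) := fun m' => by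
    rw [Algebra.TensorProduct.basis_apply]
    rfl
  have hbb : b m = b 1 := by
    rw [hb, hb]
    rw [TensorProduct.tmul_sub, sub_eq_zero, MonoidAlgebra.one_def] at hx0
    exact hx0
  exact b.injective hbb

end Smooth

theorem main (k A : Type u) [Field k] [CommRing A] [HopfAlgebra k A]
    [Algebra.FiniteType k A] [Algebra.FormallySmooth k A] (h : IsMultType k A) :
    ⨅ n : {n : ℕ // 0 < n ∧ ¬ ringChar k ∣ n}, torsionIdeal k A n.1 = ⊥ := by
  rw [eq_bot_iff]
  intro x hx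
  rw [Ideal.mem_iInf] at hx
  rw [Ideal.mem_bot]
  obtain ⟨s, hs, hconst⟩ := h
  obtain ⟨f, hfs, hf0⟩ : ∃ f ∈ s, f ≠ 0 := by
    by_contra hcon
    push_neg at hcon
    have h1 : Ideal.span s ≤ ⊥ := Ideal.span_le.mpr (fun a ha => by
      rw [SetLike.mem_coe, Ideal.mem_bot]; exact hcon a ha)
    rw [hs] at h1
    exact bot_ne_top (le_bot_iff.mp h1).symm
  obtain ⟨R', _, _, hff, M, _, ⟨e⟩⟩ := hconst f hfs
  haveI := hff
  haveI : Nontrivial (Localization.Away f) :=
    (IsLocalization.injective (Localization.Away f)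
      (powers_le_nonZeroDivisors_of_noZeroDivisors hf0)).nontrivial
  haveI : Module.FaithfullyFlat k (Localization.Away f) := inferInstance
  haveI : Nontrivial R' :=
    (FaithfulSMul.algebraMap_injective (Localization.Away f) R').nontrivial
  haveI : Algebra.FinitePresentation k A := Algebra.FinitePresentation.of_finiteType.mp inferInstance
  haveI : Algebra.Smooth k A := {}
  haveI : Algebra.Smooth R' (R' ⊗[Localization.Away f] (Localization.Away f ⊗[k] A)) :=
    inferInstance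
  -- the group is finitely generated
  haveI : Algebra.FiniteType R' (R' ⊗[Localization.Away f] (Localization.Away f ⊗[k] A)) :=
    inferInstance
  have h3 : Algebra.FiniteType R' (MonoidAlgebra R' M) :=
    Algebra.FiniteType.equiv inferInstance e.toAlgEquiv
  haveI : Group.FG M := MonoidAlgebra.finiteType_iff_group_fg.mp h3
  -- characteristic
  have hp0 : ringChar k = 0 ∨ (ringChar k).Prime :=
    (CharP.char_is_prime_or_zero k (ringChar k)).symm
  have hpR : ((ringChar k : ℕ) : R') = 0 := by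
    have h1 : ((ringChar k : ℕ) : k) = 0 := ringChar.Nat.cast_ringChar
    have h2 : ((ringChar k : ℕ) : R') = algebraMap (Localization.Away f) R'
        (algebraMap k (Localization.Away f) ((ringChar k : ℕ) : k)) := by
      rw [map_natCast, map_natCast]
    rw [h2, h1, map_zero, map_zero]
  have hnt : (ringChar k).Prime → ∀ m : M, m ^ ringChar k = 1 → m = 1 :=
    fun hpp m hm => no_torsion e.toAlgEquiv (ringChar k) hpp hpR m hm
  -- the element
  set y : MonoidAlgebra R' M :=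
    e ((1 : R') ⊗ₜ[Localization.Away f] ((1 : Localization.Away f) ⊗ₜ[k] x)) with hy
  obtain ⟨n, hn, hpn, hinj⟩ := exists_injOn M (ringChar k) hp0 hnt y.coeff.support
  have hyt : y ∈ torsionIdeal R' (MonoidAlgebra R' M) n :=
    push_equiv e.toBialgHom n _ (push_baseChange n _ (push_baseChange n x (hx ⟨n, hn, hpn⟩)))
  have hy0 : y = 0 := eq_zero_of_injOn n y (RingHom.mem_ker.mp (torsion_le_ker n hyt)) hinj
  have h4 : (1 : R') ⊗ₜ[Localization.Away f] ((1 : Localization.Away f) ⊗ₜ[k] x) = 0 :=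
    (EquivLike.injective e) (by rw [map_zero]; exact hy0)
  have h5 : (1 : Localization.Away f) ⊗ₜ[k] x = 0 :=
    Module.FaithfullyFlat.tensorProduct_mk_injective (A := Localization.Away f) (B := R')
      (Localization.Away f ⊗[k] A) (by rw [map_zero]; exact h4)
  exact Module.FaithfullyFlat.tensorProduct_mk_injective (A := k) (B := Localization.Away f) A
    (by rw [map_zero]; exact h5)

end MultDenseH1
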