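import Mathlib
import Groth.Prelude.Def_SGA3b
import Groth.Agent.Lib.MultFin_helper1
import Groth.Agent.Lib.MultDense_helper1

set_option autoImplicit false
set_option maxHeartbeats 1000000

/-!
# The `n`-torsion of a group of multiplicative type (helper1)

* `mem_span_of_mapDomain_eq_zero`: the kernel of `R[M] → R[M/N]` is generated by the `h - 1`, `h ∈ N`;
* `powConv_sub_mem`, `torsion_baseChange_le`: the torsion ideal after base change;
* `exists_bialgEquiv_of_ker_eq`: two surjective bialgebra maps with the same kernel have isomorphic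
  targets;
* `kerEq`, `multType_quot`, `main5242`.
-/

namespace MultTorsH1

open TensorProduct SGA3b MultFinH1 MultDenseH1

universe u

section KerQuot

variable {R : Type*} [CommRing R] {M : Type*} [CommGroup M] (N : Subgroup M)

theorem mem_span_of_mapDomain_eq_zero (y : MonoidAlgebra R M)
    (hy : MonoidAlgebra.mapDomainAlgHom R R (QuotientGroup.mk' N) y = 0) :
    y ∈ Ideal.span (Set.range fun h : N =>
      (MonoidAlgebra.single (h : M) (1 : R) - 1 : MonoidAlgebra R M)) := by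
  obtain ⟨K, hK⟩ : ∃ K : Ideal (MonoidAlgebra R M), K = Ideal.span (Set.range fun h : N =>
      (MonoidAlgebra.single (h : M) (1 : R) - 1 : MonoidAlgebra R M)) := ⟨_, rfl⟩
  rw [← hK]
  let φ : M →* (MonoidAlgebra R M ⧸ K) :=
    ((Ideal.Quotient.mk K : MonoidAlgebra R M →+* _) : MonoidAlgebra R M →* _).comp
      (MonoidAlgebra.of R M)
  have hφ : N ≤ φ.ker := by
    intro h hh
    rw [MonoidHom.mem_ker]
    show Ideal.Quotient.mk K (MonoidAlgebra.single h 1) = 1
    rw [← map_one (Ideal.Quotient.mk K), Ideal.Quotient.eq, hK]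
    exact Ideal.subset_span ⟨⟨h, hh⟩, rfl⟩
  let ρ : MonoidAlgebra R (M ⧸ N) →ₐ[R] (MonoidAlgebra R M ⧸ K) :=
    MonoidAlgebra.lift R _ (M ⧸ N) (QuotientGroup.lift N φ hφ)
  have hcomp : ρ.comp (MonoidAlgebra.mapDomainAlgHom R R (QuotientGroup.mk' N)) =
      Ideal.Quotient.mkₐ R K := by
    refine MonoidAlgebra.algHom_ext (fun m => ?_) (Subsingleton.elim _ _)
    rw [AlgHom.comp_apply]
    show ρ (MonoidAlgebra.mapDomain (QuotientGroup.mk' N) (MonoidAlgebra.single m (1 : R))) = _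
    rw [MonoidAlgebra.mapDomain_single]
    show MonoidAlgebra.lift R _ (M ⧸ N) (QuotientGroup.lift N φ hφ)
      (MonoidAlgebra.single (QuotientGroup.mk' N m) (1 : R)) = _
    rw [MonoidAlgebra.lift_single, one_smul]
    rfl
  have h1 := AlgHom.congr_fun hcomp y
  rw [AlgHom.comp_apply, hy, map_zero] at h1
  exact Ideal.Quotient.eq_zero_iff_mem.mp h1.symm

end KerQuot

section TB

variable {R S A : Type u} [CommRing R] [CommRing S] [Algebra R S] [CommRing A] [HopfAlgebra R A]

theorem powConv_sub_mem (n : ℕ) (z : S ⊗[R] A) :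
    powConv S (S ⊗[R] A) n z - algebraMap S (S ⊗[R] A) (Coalgebra.counit (R := S) z) ∈
      (torsionIdeal R A n).map (Algebra.TensorProduct.includeRight : A →ₐ[R] S ⊗[R] A) := by
  induction z using TensorProduct.induction_on with
  | zero => simp
  | add x y hx hy =>
    rw [map_add, map_add, map_add, add_sub_add_comm]
    exact Ideal.add_mem _ hx hy
  | tmul s a =>
    have h1 : s ⊗ₜ[R] a = s • ((1 : S) ⊗ₜ[R] a) := by
      rw [TensorProduct.smul_tmul', smul_eq_mul, mul_one]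
    have h2 : powConv S (S ⊗[R] A) n (s ⊗ₜ[R] a) = s • ((1 : S) ⊗ₜ[R] powConv R A n a) := by
      rw [h1, map_smul, powConv_baseChange]
    have h3 : algebraMap S (S ⊗[R] A) (Coalgebra.counit (R := S) (s ⊗ₜ[R] a)) =
        s • ((1 : S) ⊗ₜ[R] algebraMap R A (Coalgebra.counit (R := R) a)) := by
      rw [h1, map_smul, smul_eq_mul, map_mul, ← Algebra.smul_def, one_tmul_algebraMap]
    have h4 : powConv R A n a - algebraMap R A (Coalgebra.counit (R := R) a) =
        powConv R A n (a - algebraMap R A (Coalgebra.counit (R := R) a)) := by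
      rw [map_sub, AlgHom.commutes]
    rw [h2, h3, ← smul_sub, ← TensorProduct.tmul_sub, h4, Algebra.smul_def]
    apply Ideal.mul_mem_left
    show (Algebra.TensorProduct.includeRight : A →ₐ[R] S ⊗[R] A) _ ∈ _
    apply Ideal.mem_map_of_mem
    unfold torsionIdeal
    apply Ideal.mem_map_of_mem
    rw [RingHom.mem_ker, map_sub, Bialgebra.counitAlgHom_apply, AlgHom.commutes, sub_eq_zero]
    rfl

theorem torsion_baseChange_le (n : ℕ) :
    torsionIdeal S (S ⊗[R] A) n ≤
      (torsionIdeal R A n).map (Algebra.TensorProduct.includeRight : A →ₐ[R] S ⊗[R] A) := by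
  have key : RingHom.ker (Bialgebra.counitAlgHom S (S ⊗[R] A)) ≤
      Ideal.comap (powConv S (S ⊗[R] A) n)
        ((torsionIdeal R A n).map (Algebra.TensorProduct.includeRight : A →ₐ[R] S ⊗[R] A)) := by
    intro z hz
    rw [Ideal.mem_comap]
    have h := powConv_sub_mem (R := R) (S := S) (A := A) n z
    rw [RingHom.mem_ker, Bialgebra.counitAlgHom_apply] at hz
    rw [hz, map_zero, sub_zero] at h
    exact h
  exact Ideal.map_le_iff_le_comap.mpr key

end TB

section L2

theorem exists_bialgEquiv_of_ker_eq {S X Y₁ Y₂ : Type*} [CommRing S] [CommRing X] [CommRing Y₁]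
    [CommRing Y₂] [Bialgebra S X] [Bialgebra S Y₁] [Bialgebra S Y₂]
    (p₁ : X →ₐc[S] Y₁) (p₂ : X →ₐc[S] Y₂) (h₁ : Function.Surjective p₁)
    (h₂ : Function.Surjective p₂) (hker : ∀ x, p₁ x = 0 ↔ p₂ x = 0) :
    Nonempty (Y₁ ≃ₐc[S] Y₂) := by
  have hk : RingHom.ker (p₁ : X →ₐ[S] Y₁) = RingHom.ker (p₂ : X →ₐ[S] Y₂) := by
    ext x
    rw [RingHom.mem_ker, RingHom.mem_ker]
    exact hker x
  have h₁' : Function.Surjective (p₁ : X →ₐ[S] Y₁) := h₁
  have h₂' : Function.Surjective (p₂ : X →ₐ[S] Y₂) := h₂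
  obtain ⟨ψ, hψ⟩ : ∃ ψ : Y₁ ≃ₐ[S] Y₂, ∀ x, ψ (p₁ x) = p₂ x := by
    refine ⟨(Ideal.quotientKerAlgEquivOfSurjective h₁').symm.trans
      ((Ideal.quotientEquivAlgOfEq S hk).trans (Ideal.quotientKerAlgEquivOfSurjective h₂')), ?_⟩
    intro x
    have h3 : (Ideal.quotientKerAlgEquivOfSurjective h₁').symm (p₁ x) =
        Ideal.Quotient.mk _ x := Ideal.quotientKerAlgEquivOfSurjective_symm_apply h₁' x
    rw [AlgEquiv.trans_apply, h3, AlgEquiv.trans_apply, Ideal.quotientEquivAlgOfEq_mk,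
      Ideal.quotientKerAlgEquivOfSurjective_mk]
    rfl
  let p₁l : X →ₗ[S] Y₁ := p₁.toCoalgHom.toLinearMap
  let p₂l : X →ₗ[S] Y₂ := p₂.toCoalgHom.toLinearMap
  have hc₁ : ∀ x, TensorProduct.map p₁l p₁l (Coalgebra.comul (R := S) x) =
      Coalgebra.comul (R := S) (p₁ x) := fun x =>
    LinearMap.congr_fun p₁.toCoalgHom.map_comp_comul x
  have hc₂ : ∀ x, TensorProduct.map p₂l p₂l (Coalgebra.comul (R := S) x) =
      Coalgebra.comul (R := S) (p₂ x) := fun x =>
    LinearMap.congr_fun p₂.toCoalgHom.map_comp_comul x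
  have key : ∀ t : X ⊗[S] X, Algebra.TensorProduct.map (ψ : Y₁ →ₐ[S] Y₂) (ψ : Y₁ →ₐ[S] Y₂)
      (TensorProduct.map p₁l p₁l t) = TensorProduct.map p₂l p₂l t := by
    intro t
    induction t using TensorProduct.induction_on with
    | zero => simp
    | add x y hx hy => rw [map_add, map_add, map_add, hx, hy]
    | tmul a b =>
      rw [TensorProduct.map_tmul, TensorProduct.map_tmul, Algebra.TensorProduct.map_tmul]
      show ψ (p₁ a) ⊗ₜ[S] ψ (p₁ b) = p₂ a ⊗ₜ[S] p₂ b
      rw [hψ, hψ]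
  refine ⟨BialgEquiv.ofAlgEquiv ψ ?_ ?_⟩
  · apply AlgHom.ext
    intro y
    obtain ⟨x, rfl⟩ := h₁ y
    show Coalgebra.counit (R := S) (ψ (p₁ x)) = Coalgebra.counit (R := S) (p₁ x)
    rw [hψ, CoalgHomClass.counit_comp_apply, CoalgHomClass.counit_comp_apply]
  · apply AlgHom.ext
    intro y
    obtain ⟨x, rfl⟩ := h₁ y
    show Algebra.TensorProduct.map (ψ : Y₁ →ₐ[S] Y₂) (ψ : Y₁ →ₐ[S] Y₂)
      (Coalgebra.comul (R := S) (p₁ x)) = Coalgebra.comul (R := S) (ψ (p₁ x))
    rw [← hc₁, key, hc₂, hψ]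

end L2

section KerEq

variable {R : Type u} [CommRing R] {A : Type u} [CommRing A] [HopfAlgebra R A]
  {S : Type u} [CommRing S] [Algebra R S] {S' : Type u} [CommRing S'] [Algebra S S']
  {M : Type u} [CommGroup M]

variable (R A S S') in
/-- the torsion ideal extended to the double base change -/
noncomputable def Tee (n : ℕ) : Ideal (S' ⊗[S] (S ⊗[R] A)) :=
  ((torsionIdeal R A n).map (Algebra.TensorProduct.includeRight : A →ₐ[R] S ⊗[R] A)).map
    (Algebra.TensorProduct.includeRight : S ⊗[R] A →ₐ[S] S' ⊗[S] (S ⊗[R] A))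

theorem kerEq (θ : S' ⊗[S] (S ⊗[R] A) ≃ₐc[S'] MonoidAlgebra S' M) (n : ℕ)
    (x : S' ⊗[S] (S ⊗[R] A)) : x ∈ Tee R A S S' n ↔ piN S' M n (θ x) = 0 := by
  constructor
  · intro hx
    have hle : Tee R A S S' n ≤ RingHom.ker ((piN S' M n).comp
        ((θ : S' ⊗[S] (S ⊗[R] A) →ₐc[S'] MonoidAlgebra S' M) :
          S' ⊗[S] (S ⊗[R] A) →ₐ[S'] MonoidAlgebra S' M)) := by
      unfold Tee
      rw [Ideal.map_le_iff_le_comap, Ideal.map_le_iff_le_comap]
      intro t ht
      rw [Ideal.mem_comap, Ideal.mem_comap, RingHom.mem_ker]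
      have h1 : (1 : S) ⊗ₜ[R] t ∈ torsionIdeal S (S ⊗[R] A) n := push_baseChange n t ht
      have h2 : (1 : S') ⊗ₜ[S] ((1 : S) ⊗ₜ[R] t) ∈ torsionIdeal S' (S' ⊗[S] (S ⊗[R] A)) n :=
        push_baseChange n _ h1
      have h3 := push_equiv (θ : S' ⊗[S] (S ⊗[R] A) →ₐc[S'] MonoidAlgebra S' M) n _ h2
      exact torsion_le_ker n h3
    exact hle hx
  · intro hx
    have h1 := mem_span_of_mapDomain_eq_zero (Hn M n) (θ x) hx
    have hle : Ideal.span (Set.range fun h : Hn M n =>
        (MonoidAlgebra.single (h : M) (1 : S') - 1 : MonoidAlgebra S' M)) ≤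
        Ideal.comap (θ.symm : MonoidAlgebra S' M →ₐc[S'] S' ⊗[S] (S ⊗[R] A)) (Tee R A S S' n) := by
      rw [Ideal.span_le]
      rintro _ ⟨⟨h, ⟨m, rfl⟩⟩, rfl⟩
      rw [SetLike.mem_coe, Ideal.mem_comap]
      have hg : IsGroupLikeElem S' (θ.symm (MonoidAlgebra.single m (1 : S'))) :=
        (MonoidAlgebra.isGroupLikeElem_single_one (R := S') (A := S') m).map θ.symm
      have h2 : (θ.symm : MonoidAlgebra S' M →ₐc[S'] S' ⊗[S] (S ⊗[R] A))
          (MonoidAlgebra.single ((powMonoidHom n : M →* M) m) (1 : S') - 1) =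
          powConv S' (S' ⊗[S] (S ⊗[R] A)) n (θ.symm (MonoidAlgebra.single m (1 : S'))) -
            algebraMap S' _ (Coalgebra.counit (R := S')
              (θ.symm (MonoidAlgebra.single m (1 : S')))) := by
        rw [powConv_groupLike _ hg, hg.counit_eq_one, map_one, map_sub, map_one]
        congr 1
        show θ.symm (MonoidAlgebra.single (m ^ n) (1 : S')) = _
        rw [← map_pow, MonoidAlgebra.single_pow, one_pow]
      rw [h2]
      unfold Tee
      exact Ideal.map_mono (torsion_baseChange_le (R := R) (S := S) (A := A) n)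
        (powConv_sub_mem (R := S) (S := S') (A := S ⊗[R] A) n _)
    have h3 := hle h1
    rw [Ideal.mem_comap] at h3
    have h4 : (θ.symm : MonoidAlgebra S' M →ₐc[S'] S' ⊗[S] (S ⊗[R] A)) (θ x) = x :=
      θ.symm_apply_apply x
    rw [h4] at h3
    exact h3

end KerEq

section Main

variable (R : Type u) [CommRing R] (A : Type u) [CommRing A] [HopfAlgebra R A]

theorem torsion_quot_eq_bot (n : ℕ) (J : Ideal A) [J.IsHopfIdeal R]
    (hJ : J = torsionIdeal R A n) : torsionIdeal R (A ⧸ J) n = ⊥ := by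
  show Ideal.map (powConv R (A ⧸ J) n) (RingHom.ker (Bialgebra.counitAlgHom R (A ⧸ J))) = ⊥
  rw [Ideal.map_eq_bot_iff_le_ker]
  intro b hb
  obtain ⟨a, rfl⟩ := Ideal.Quotient.mk_surjective b
  have ha : a ∈ RingHom.ker (Bialgebra.counitAlgHom R A) := hb
  rw [RingHom.mem_ker]
  have h1 : powConv R (A ⧸ J) n (Ideal.Quotient.mk J a) =
      Ideal.Quotient.mk J (powConv R A n a) := by
    have h0 := powConv_nat (R := R) (X := A) (Y := A ⧸ J) (Bialgebra.Quotient.mkBialgHom J) n a
    exact h0.symm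
  rw [h1, Ideal.Quotient.eq_zero_iff_mem, hJ]
  exact Ideal.mem_map_of_mem _ ha

theorem multType_quot (h : IsMultType R A) (n : ℕ) (J : Ideal A) [J.IsHopfIdeal R]
    (hJ : J = torsionIdeal R A n) : IsMultType R (A ⧸ J) := by
  obtain ⟨s, hs, hconst⟩ := h
  refine ⟨s, hs, fun f hf => ?_⟩
  obtain ⟨R', _, _, hff, M, _, ⟨θ⟩⟩ := hconst f hf
  refine ⟨R', inferInstance, inferInstance, hff, M ⧸ Hn M n, inferInstance, ?_⟩
  let q : (Localization.Away f ⊗[R] A) →ₐc[Localization.Away f]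
      (Localization.Away f ⊗[R] (A ⧸ J)) :=
    Bialgebra.TensorProduct.map (BialgHom.id _ _) (Bialgebra.Quotient.mkBialgHom J)
  let p₁ : R' ⊗[Localization.Away f] (Localization.Away f ⊗[R] A) →ₐc[R']
      R' ⊗[Localization.Away f] (Localization.Away f ⊗[R] (A ⧸ J)) :=
    Bialgebra.TensorProduct.map (BialgHom.id R' R') q
  let p₂ : R' ⊗[Localization.Away f] (Localization.Away f ⊗[R] A) →ₐc[R']
      MonoidAlgebra R' (M ⧸ Hn M n) :=
    (MonoidAlgebra.mapDomainBialgHom R' (QuotientGroup.mk' (Hn M n))).comp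
      (θ : _ →ₐc[R'] MonoidAlgebra R' M)
  have hq : Function.Surjective q := by
    intro y
    induction y using TensorProduct.induction_on with
    | zero => exact ⟨0, map_zero _⟩
    | add y z hy hz =>
      obtain ⟨y', rfl⟩ := hy
      obtain ⟨z', rfl⟩ := hz
      exact ⟨y' + z', map_add _ _ _⟩
    | tmul t b =>
      obtain ⟨a, rfl⟩ := Ideal.Quotient.mk_surjective b
      exact ⟨t ⊗ₜ[R] a, rfl⟩
  have hp₁ : Function.Surjective p₁ := by
    intro y
    induction y using TensorProduct.induction_on with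
    | zero => exact ⟨0, map_zero _⟩
    | add y z hy hz =>
      obtain ⟨y', rfl⟩ := hy
      obtain ⟨z', rfl⟩ := hz
      exact ⟨y' + z', map_add _ _ _⟩
    | tmul t w =>
      obtain ⟨w', rfl⟩ := hq w
      exact ⟨t ⊗ₜ[Localization.Away f] w', rfl⟩
  have hp₂ : Function.Surjective p₂ := by
    intro y
    induction y using MonoidAlgebra.induction_linear with
    | zero => exact ⟨0, map_zero _⟩
    | add y z hy hz =>
      obtain ⟨y', rfl⟩ := hy
      obtain ⟨z', rfl⟩ := hz
      exact ⟨y' + z', map_add _ _ _⟩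
    | single c r =>
      obtain ⟨m, rfl⟩ := QuotientGroup.mk'_surjective (Hn M n) c
      refine ⟨θ.symm (MonoidAlgebra.single m r), ?_⟩
      show MonoidAlgebra.mapDomainBialgHom R' (QuotientGroup.mk' (Hn M n))
        (θ (θ.symm (MonoidAlgebra.single m r))) = _
      rw [θ.apply_symm_apply, MonoidAlgebra.mapDomainBialgHom_single]
  have hk1 : RingHom.ker (q : (Localization.Away f ⊗[R] A) →ₐ[Localization.Away f]
      (Localization.Away f ⊗[R] (A ⧸ J))) =
      (torsionIdeal R A n).map (Algebra.TensorProduct.includeRight :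
        A →ₐ[R] Localization.Away f ⊗[R] A) := by
    have h1 := Algebra.TensorProduct.lTensor_ker (A := Localization.Away f)
      (Ideal.Quotient.mkₐ R J) (Ideal.Quotient.mkₐ_surjective R J)
    have hker : RingHom.ker (Ideal.Quotient.mkₐ R J) = torsionIdeal R A n := by
      ext x
      rw [RingHom.mem_ker, ← hJ]
      exact Ideal.Quotient.eq_zero_iff_mem
    rw [hker] at h1
    rw [← h1]
    rfl
  have hk2 : ∀ x, p₁ x = 0 ↔ x ∈ Tee R A (Localization.Away f) R' n := by
    intro x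
    have h1 := Algebra.TensorProduct.lTensor_ker (A := R')
      (q : (Localization.Away f ⊗[R] A) →ₐ[Localization.Away f]
        (Localization.Away f ⊗[R] (A ⧸ J))) hq
    rw [hk1] at h1
    unfold Tee
    rw [← h1, RingHom.mem_ker]
    rfl
  refine @exists_bialgEquiv_of_ker_eq R' (R' ⊗[Localization.Away f] (Localization.Away f ⊗[R] A))
    (R' ⊗[Localization.Away f] (Localization.Away f ⊗[R] (A ⧸ J)))
    (MonoidAlgebra R' (M ⧸ Hn M n)) _ _ _ _ _ _ _ p₁ p₂ hp₁ hp₂ ?_
  intro x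
  rw [hk2, kerEq θ n x]
  rfl

theorem main5242 (hft : Algebra.FiniteType R A) (h : IsMultType R A) (n : ℕ) (hn : 0 < n)
    (J : Ideal A) [J.IsHopfIdeal R] (hJ : J = torsionIdeal R A n) :
    IsMultType R (A ⧸ J) ∧ Module.Finite R (A ⧸ J) := by
  have hM := multType_quot R A h n J hJ
  refine ⟨hM, ?_⟩
  have hft' : Algebra.FiniteType R (A ⧸ J) :=
    Algebra.FiniteType.of_surjective (Ideal.Quotient.mkₐ R J) (Ideal.Quotient.mkₐ_surjective R J)
  exact (MultFinH1.main R (A ⧸ J) hft' hM).mpr ⟨n, hn, torsion_quot_eq_bot R A n J hJ⟩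

end Main

end MultTorsH1
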