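import Mathlib
import Groth.Prelude.Def_SGA3b
import Groth.Agent.Lib.MultCov2_helper1
import Groth.Agent.Lib.MultRigid2_helper1
import Groth.Agent.Lib.MultMono_helper9
import Groth.Agent.Lib.MultTors_helper1
import Groth.Agent.Lib.HopfPts_helper1

/-!
# The kernel of a homomorphism from a group of multiplicative type to an affine group (helper1)

`nearKer`: for a bialgebra map `Φ : D → T[M]` (`D` finitely presented, `M` finitely generated) and a
prime `𝔮` of `T`, the closed subgroup of `D(M)` cut out by `Φ(aug D)` becomes `D(M/N)` over a basic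
open neighbourhood of `𝔮`, for a subgroup `N ≤ M`.  The image of `Φ` is graded; `N` is the set of
degrees occurring with a coefficient outside `𝔮`; the other degrees die near `𝔮` by rigidity.
`main2982`: the kernel is of multiplicative type.
APPEND-ONLY once landed.
-/

set_option backward.isDefEq.respectTransparency.types false
set_option autoImplicit false
set_option linter.unusedVariables false
set_option linter.unusedSectionVars false
set_option linter.style.longLine false
set_option maxHeartbeats 1600000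

universe u

open TensorProduct Coalgebra

noncomputable section

namespace Groth.Agent.Lib.MultKerH1

open Groth.Agent.Lib.DiagNilH4 Groth.Agent.Lib.DiagBCH4 Groth.Agent.Lib.MultCovH1 SGA3b
open MultRigidH1

theorem subgroup_fg {G : Type*} [CommGroup G] [Group.FG G] (N : Subgroup G) : N.FG := by
  rw [Subgroup.fg_iff_add_fg]
  haveI : Module.Finite ℤ (Additive G) := Module.Finite.iff_addGroup_fg.mpr inferInstance
  haveI : IsNoetherian ℤ (Additive G) := isNoetherian_of_isNoetherianRing_of_finite ℤ _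
  have h := IsNoetherian.noetherian (AddSubgroup.toIntSubmodule (Subgroup.toAddSubgroup N))
  rw [Submodule.fg_iff_addSubgroup_fg] at h
  exact h

section Sat

variable {T X : Type*} [CommRing T] [CommRing X] [Algebra T X]

/-- the saturation of an ideal with respect to the powers of `g` -/
def sat (g : T) (K : Ideal X) : Ideal X where
  carrier := {x | ∃ k : ℕ, g ^ k • x ∈ K}
  add_mem' := by
    rintro x y ⟨k, hk⟩ ⟨l, hl⟩
    refine ⟨k + l, ?_⟩
    have hx : g ^ (k + l) • x ∈ K := by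
      rw [pow_add, mul_comm, mul_smul]
      exact Submodule.smul_of_tower_mem K (g ^ l) hk
    have hy : g ^ (k + l) • y ∈ K := by
      rw [pow_add, mul_smul]
      exact Submodule.smul_of_tower_mem K (g ^ k) hl
    show g ^ (k + l) • (x + y) ∈ K
    rw [smul_add]
    exact K.add_mem hx hy
  zero_mem' := ⟨0, by rw [smul_zero]; exact K.zero_mem⟩
  smul_mem' := by
    rintro c x ⟨k, hk⟩
    refine ⟨k, ?_⟩
    show g ^ k • (c • x) ∈ K
    rw [smul_eq_mul, ← mul_smul_comm]
    exact K.mul_mem_left c hk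

theorem mem_sat {g : T} {K : Ideal X} {x : X} : x ∈ sat g K ↔ ∃ k : ℕ, g ^ k • x ∈ K := Iff.rfl

theorem sat_mul_left (g₁ g₂ : T) (K : Ideal X) {x : X} (h : x ∈ sat g₂ K) :
    x ∈ sat (g₁ * g₂) K := by
  obtain ⟨k, hk⟩ := h
  refine ⟨k, ?_⟩
  show (g₁ * g₂) ^ k • x ∈ K
  rw [mul_pow, mul_smul]
  exact Submodule.smul_of_tower_mem K (g₁ ^ k) hk

theorem sat_mul_right (g₁ g₂ : T) (K : Ideal X) {x : X} (h : x ∈ sat g₁ K) :
    x ∈ sat (g₁ * g₂) K := by
  rw [mul_comm]
  exact sat_mul_left g₂ g₁ K h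

theorem map_incl_le {T X : Type u} [CommRing T] [CommRing X] [Algebra T X] (S : Type u)
    [CommRing S] [Algebra T S] (g : T) (hg : IsUnit (algebraMap T S g)) (K₁ K₂ : Ideal X)
    (h : K₁ ≤ sat g K₂) :
    Ideal.map (Algebra.TensorProduct.includeRight : X →ₐ[T] S ⊗[T] X) K₁ ≤
      Ideal.map (Algebra.TensorProduct.includeRight : X →ₐ[T] S ⊗[T] X) K₂ := by
  rw [Ideal.map_le_iff_le_comap]
  intro x hx
  obtain ⟨k, hk⟩ := h hx
  rw [Ideal.mem_comap]
  have h1 := Ideal.mem_map_of_mem (Algebra.TensorProduct.includeRight : X →ₐ[T] S ⊗[T] X) hk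
  have h2 : (Algebra.TensorProduct.includeRight : X →ₐ[T] S ⊗[T] X) (g ^ k • x) =
      algebraMap S (S ⊗[T] X) ((algebraMap T S g) ^ k) *
        (Algebra.TensorProduct.includeRight : X →ₐ[T] S ⊗[T] X) x := by
    rw [Algebra.TensorProduct.includeRight_apply, Algebra.TensorProduct.includeRight_apply,
      Algebra.TensorProduct.algebraMap_apply, Algebra.algebraMap_self, RingHom.id_apply,
      Algebra.TensorProduct.tmul_mul_tmul, mul_one, one_mul, TensorProduct.tmul_smul,
      TensorProduct.smul_tmul', Algebra.smul_def, mul_one, map_pow]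
  rw [h2] at h1
  exact (Ideal.unit_mul_mem_iff_mem _ ((hg.pow k).map (algebraMap S (S ⊗[T] X)))).mp h1

end Sat

section BC

variable {R S : Type u} [CommRing R] [CommRing S] [Algebra R S] {A C : Type u} [CommRing A]
  [CommRing C] [HopfAlgebra R A] [HopfAlgebra R C]

theorem bc_surjective (φ : C →ₐc[R] A) (h : Function.Surjective φ) :
    Function.Surjective (bc (S := S) φ) := by
  intro y
  induction y using TensorProduct.induction_on with
  | zero => exact ⟨0, map_zero _⟩
  | add y z hy hz =>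
    obtain ⟨y', rfl⟩ := hy
    obtain ⟨z', rfl⟩ := hz
    exact ⟨y' + z', map_add _ _ _⟩
  | tmul t a =>
    obtain ⟨c, rfl⟩ := h a
    exact ⟨t ⊗ₜ[R] c, bc_tmul φ t c⟩

theorem bc_eq_zero_iff (φ : C →ₐc[R] A) (h : Function.Surjective φ) (x : S ⊗[R] C) :
    bc (S := S) φ x = 0 ↔
      x ∈ Ideal.map (Algebra.TensorProduct.includeRight : C →ₐ[R] S ⊗[R] C)
        (RingHom.ker (φ : C →ₐ[R] A)) := by
  have h1 := Algebra.TensorProduct.lTensor_ker (A := S) (φ : C →ₐ[R] A) h
  rw [← h1, RingHom.mem_ker]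
  rfl

theorem sub_counit_mem (z : S ⊗[R] C) :
    z - algebraMap S (S ⊗[R] C) (Coalgebra.counit (R := S) z) ∈
      Ideal.map (Algebra.TensorProduct.includeRight : C →ₐ[R] S ⊗[R] C)
        (RingHom.ker (Bialgebra.counitAlgHom R C)) := by
  induction z using TensorProduct.induction_on with
  | zero => simp
  | add x y hx hy =>
    rw [map_add, map_add, add_sub_add_comm]
    exact Ideal.add_mem _ hx hy
  | tmul t c =>
    have h2 : algebraMap S (S ⊗[R] C) (Coalgebra.counit (R := S) (t ⊗ₜ[R] c)) =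
        t ⊗ₜ[R] algebraMap R C (Coalgebra.counit (R := R) c) := by
      rw [TensorProduct.counit_tmul, CommSemiring.counit_apply,
        Algebra.TensorProduct.algebraMap_apply, Algebra.algebraMap_self, RingHom.id_apply,
        TensorProduct.smul_tmul, Algebra.algebraMap_eq_smul_one]
    have hmem : c - algebraMap R C (Coalgebra.counit (R := R) c) ∈
        RingHom.ker (Bialgebra.counitAlgHom R C) := by
      rw [RingHom.mem_ker, map_sub, AlgHom.commutes]
      simp
    have h3 : t ⊗ₜ[R] (c - algebraMap R C (Coalgebra.counit (R := R) c)) =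
        (t ⊗ₜ[R] (1 : C)) * (Algebra.TensorProduct.includeRight : C →ₐ[R] S ⊗[R] C)
          (c - algebraMap R C (Coalgebra.counit (R := R) c)) := by
      rw [Algebra.TensorProduct.includeRight_apply, Algebra.TensorProduct.tmul_mul_tmul,
        mul_one, one_mul]
    rw [h2, ← TensorProduct.tmul_sub, h3]
    exact Ideal.mul_mem_left _ _ (Ideal.mem_map_of_mem _ hmem)

theorem aug_baseChange :
    RingHom.ker (Bialgebra.counitAlgHom S (S ⊗[R] C)) =
      Ideal.map (Algebra.TensorProduct.includeRight : C →ₐ[R] S ⊗[R] C)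
        (RingHom.ker (Bialgebra.counitAlgHom R C)) := by
  apply le_antisymm
  · intro z hz
    have h1 := sub_counit_mem (S := S) z
    rw [RingHom.mem_ker, Bialgebra.counitAlgHom_apply] at hz
    rw [hz, map_zero, sub_zero] at h1
    exact h1
  · rw [Ideal.map_le_iff_le_comap]
    intro c hc
    rw [RingHom.mem_ker, Bialgebra.counitAlgHom_apply] at hc
    rw [Ideal.mem_comap, RingHom.mem_ker, Bialgebra.counitAlgHom_apply,
      Algebra.TensorProduct.includeRight_apply, MultDenseH1.counit_one_tmul, hc, map_zero]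

theorem map_bc_aug (φ : C →ₐc[R] A) :
    Ideal.map (bc (S := S) φ) (RingHom.ker (Bialgebra.counitAlgHom S (S ⊗[R] C))) =
      Ideal.map (Algebra.TensorProduct.includeRight : A →ₐ[R] S ⊗[R] A)
        (Ideal.map φ (RingHom.ker (Bialgebra.counitAlgHom R C))) := by
  apply le_antisymm
  · rw [aug_baseChange, Ideal.map_le_iff_le_comap, Ideal.map_le_iff_le_comap]
    intro c hc
    rw [Ideal.mem_comap, Ideal.mem_comap, Algebra.TensorProduct.includeRight_apply, bc_tmul,
      ← Algebra.TensorProduct.includeRight_apply (R := R) (A := S)]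
    exact Ideal.mem_map_of_mem _ (Ideal.mem_map_of_mem _ hc)
  · rw [Ideal.map_le_iff_le_comap, Ideal.map_le_iff_le_comap]
    intro c hc
    rw [Ideal.mem_comap, Ideal.mem_comap, Algebra.TensorProduct.includeRight_apply,
      ← bc_tmul (S := S) φ 1 c]
    refine Ideal.mem_map_of_mem _ ?_
    rw [aug_baseChange, ← Algebra.TensorProduct.includeRight_apply (R := R) (A := S)]
    exact Ideal.mem_map_of_mem _ hc

end BC

section Coeff

variable {T : Type u} [CommRing T] {G : Type u} [CommGroup G]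

theorem algebraMap_eq_single (c : T) :
    algebraMap T (MonoidAlgebra T G) c = MonoidAlgebra.single 1 c := by
  rw [Algebra.algebraMap_eq_smul_one, MonoidAlgebra.one_def, MonoidAlgebra.smul_single,
    smul_eq_mul, mul_one]

theorem rho_sub_counit_mem {M : Type u} [CommGroup M] (N : Subgroup M) (I : Ideal T)
    (x : MonoidAlgebra T M) (hx : ∀ n, n ∉ N → x.coeff n ∈ I) :
    MonoidAlgebra.mapDomainBialgHom T (QuotientGroup.mk' N) x -
        algebraMap T (MonoidAlgebra T (M ⧸ N)) (Coalgebra.counit (R := T) x) ∈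
      Ideal.map (algebraMap T (MonoidAlgebra T (M ⧸ N))) I := by
  classical
  have hterm : ∀ (n : M) (c : T), (n ∈ N ∨ c ∈ I) →
      MonoidAlgebra.mapDomainBialgHom T (QuotientGroup.mk' N) (MonoidAlgebra.single n c) -
        algebraMap T (MonoidAlgebra T (M ⧸ N))
          (Coalgebra.counit (R := T) (MonoidAlgebra.single n c)) ∈
      Ideal.map (algebraMap T (MonoidAlgebra T (M ⧸ N))) I := by
    intro n c h
    rw [MonoidAlgebra.mapDomainBialgHom_single, MonoidAlgebra.counit_single,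
      CommSemiring.counit_apply, algebraMap_eq_single]
    rcases h with hn | hc
    · have h1 : (QuotientGroup.mk' N) n = 1 := (QuotientGroup.eq_one_iff n).mpr hn
      rw [h1, sub_self]
      exact zero_mem _
    · have h1 : (MonoidAlgebra.single ((QuotientGroup.mk' N) n) c : MonoidAlgebra T (M ⧸ N)) -
          MonoidAlgebra.single 1 c =
          algebraMap T (MonoidAlgebra T (M ⧸ N)) c *
            (MonoidAlgebra.single ((QuotientGroup.mk' N) n) 1 - 1) := by
        rw [algebraMap_eq_single, mul_sub, mul_one, MonoidAlgebra.single_mul_single, one_mul,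
          mul_one]
      rw [h1]
      exact Ideal.mul_mem_right _ _ (Ideal.mem_map_of_mem _ hc)
  obtain ⟨y, hy⟩ : ∃ y : MonoidAlgebra T M,
      y = ∑ n ∈ x.coeff.support, MonoidAlgebra.single n (x.coeff n) := ⟨_, rfl⟩
  have hxy : x = y := by
    rw [hy]
    conv_lhs => rw [← MonoidAlgebra.sum_coeff_single x]
    rfl
  have hgoal : MonoidAlgebra.mapDomainBialgHom T (QuotientGroup.mk' N) y -
        algebraMap T (MonoidAlgebra T (M ⧸ N)) (Coalgebra.counit (R := T) y) ∈
      Ideal.map (algebraMap T (MonoidAlgebra T (M ⧸ N))) I := by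
    rw [hy, map_sum, map_sum, map_sum, ← Finset.sum_sub_distrib]
    refine Ideal.sum_mem _ (fun n _ => hterm n _ ?_)
    by_cases hn : n ∈ N
    · exact Or.inl hn
    · exact Or.inr (hx n hn)
  rw [hxy]
  exact hgoal

end Coeff

section Near

variable {T : Type u} [CommRing T] (𝔮 : Ideal T) [h𝔮 : 𝔮.IsPrime] {M : Type u} [CommGroup M]
  {D : Type u} [CommRing D] [HopfAlgebra T D] (Φ : D →ₐc[T] MonoidAlgebra T M)

/-- the degrees occurring in the image of `Φ` with a coefficient outside `𝔮` -/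
def subN : Subgroup M where
  carrier := {n | ∃ (y : D) (c : T), c ∉ 𝔮 ∧ Φ y = MonoidAlgebra.single n c}
  mul_mem' := by
    rintro n n' ⟨y, c, hc, hy⟩ ⟨y', c', hc', hy'⟩
    refine ⟨y * y', c * c', ?_, ?_⟩
    · intro h
      rcases h𝔮.mem_or_mem h with h | h
      · exact hc h
      · exact hc' h
    · rw [map_mul, hy, hy', MonoidAlgebra.single_mul_single]
  one_mem' := ⟨1, 1, fun h => h𝔮.ne_top ((Ideal.eq_top_iff_one _).mpr h), by
    rw [map_one, MonoidAlgebra.one_def]⟩
  inv_mem' := by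
    rintro n ⟨y, c, hc, hy⟩
    refine ⟨HopfAlgebra.antipode T y, c, hc, ?_⟩
    rw [← Groth.Agent.Lib.HopfFFH1.antipode_bialgHom_apply, hy, MonoidAlgebra.antipode_single]
    simp

theorem mem_subN {n : M} :
    n ∈ subN 𝔮 Φ ↔ ∃ (y : D) (c : T), c ∉ 𝔮 ∧ Φ y = MonoidAlgebra.single n c := Iff.rfl

theorem mapDomain_surjective (N : Subgroup M) :
    Function.Surjective (MonoidAlgebra.mapDomainBialgHom T (QuotientGroup.mk' N)) := by
  intro y
  induction y using MonoidAlgebra.induction_linear with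
  | zero => exact ⟨0, map_zero _⟩
  | add y z hy hz =>
    obtain ⟨y', rfl⟩ := hy
    obtain ⟨z', rfl⟩ := hz
    exact ⟨y' + z', map_add _ _ _⟩
  | single c r =>
    obtain ⟨m, rfl⟩ := QuotientGroup.mk'_surjective N c
    exact ⟨MonoidAlgebra.single m r, MonoidAlgebra.mapDomainBialgHom_single _ _ _⟩

theorem nearKer [Group.FG M] [Algebra.FinitePresentation T D]
    (E : Type u) [CommRing E] [HopfAlgebra T E] (π : MonoidAlgebra T M →ₐc[T] E)
    (hπ : Function.Surjective π)
    (hker : ∀ x, π x = 0 ↔ x ∈ Ideal.map Φ (RingHom.ker (Bialgebra.counitAlgHom T D))) :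
    ∃ g : T, g ∉ 𝔮 ∧ ∃ N : Subgroup M,
      Nonempty ((Localization.Away g ⊗[T] E) ≃ₐc[Localization.Away g]
        MonoidAlgebra (Localization.Away g) (M ⧸ N)) := by
  classical
  obtain ⟨N, hNdef⟩ : ∃ N : Subgroup M, N = subN 𝔮 Φ := ⟨_, rfl⟩
  haveI : Group.FG (M ⧸ N) := QuotientGroup.fg N
  -- coefficients off `N` lie in `𝔮`
  have hq : ∀ (d : D) (n : M), n ∉ N → (Φ d).coeff n ∈ 𝔮 := by
    intro d n hn
    by_contra hc
    obtain ⟨y, hy⟩ := MultMono9.exists_map_eq_single Φ d n
    apply hn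
    rw [hNdef]
    exact ⟨y, _, hc, hy⟩
  obtain ⟨ρ, hρdef⟩ : ∃ ρ : MonoidAlgebra T M →ₐc[T] MonoidAlgebra T (M ⧸ N),
      ρ = MonoidAlgebra.mapDomainBialgHom T (QuotientGroup.mk' N) := ⟨_, rfl⟩
  have hρ : Function.Surjective ρ := by
    rw [hρdef]
    exact mapDomain_surjective N
  obtain ⟨φ, hφdef⟩ : ∃ φ : D →ₐc[T] MonoidAlgebra T (M ⧸ N), φ = ρ.comp Φ := ⟨_, rfl⟩
  have hφ : ∀ d, φ d = ρ (Φ d) := fun d => by rw [hφdef]; rfl
  have hs : ∀ d, φ d - triv T (MonoidAlgebra T (M ⧸ N)) D d ∈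
      Ideal.map (algebraMap T (MonoidAlgebra T (M ⧸ N))) 𝔮 := by
    intro d
    have h1 := rho_sub_counit_mem N 𝔮 (Φ d) (fun n hn => hq d n hn)
    have h2 : Coalgebra.counit (R := T) (Φ d) = Coalgebra.counit (R := T) d :=
      CoalgHomClass.counit_comp_apply Φ d
    rw [h2] at h1
    rw [hφ, hρdef, triv_apply]
    exact h1
  -- rigidity over the local ring
  have hrig : ∀ d : D, ∃ s : T, s ∉ 𝔮 ∧
      s • (φ d - triv T (MonoidAlgebra T (M ⧸ N)) D d) = 0 := by
    intro d
    have hft' : Algebra.FiniteType (Localization.AtPrime 𝔮)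
        (Localization.AtPrime 𝔮 ⊗[T] MonoidAlgebra T (M ⧸ N)) := inferInstance
    have hH' : IsMultType (Localization.AtPrime 𝔮)
        (Localization.AtPrime 𝔮 ⊗[T] MonoidAlgebra T (M ⧸ N)) :=
      isMultType_baseChange
        (isMultType_of_isDiag ⟨M ⧸ N, inferInstance, ⟨BialgEquiv.refl T _⟩⟩) _
    have hs' : ∀ z : Localization.AtPrime 𝔮 ⊗[T] D,
        bc (S := Localization.AtPrime 𝔮) φ z -
          algebraMap (Localization.AtPrime 𝔮)
            (Localization.AtPrime 𝔮 ⊗[T] MonoidAlgebra T (M ⧸ N))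
            (Coalgebra.counit (R := Localization.AtPrime 𝔮) z) ∈
        Ideal.map (algebraMap (Localization.AtPrime 𝔮)
          (Localization.AtPrime 𝔮 ⊗[T] MonoidAlgebra T (M ⧸ N)))
          (IsLocalRing.maximalIdeal (Localization.AtPrime 𝔮)) := by
      intro z
      have h1 := transfer (S := Localization.AtPrime 𝔮) 𝔮 φ
        (triv T (MonoidAlgebra T (M ⧸ N)) D) hs z
      rw [bc_triv, triv_apply, Localization.AtPrime.map_eq_maximalIdeal] at h1
      exact h1
    have h5 := main5245 (Localization.AtPrime 𝔮)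
      (Localization.AtPrime 𝔮 ⊗[T] MonoidAlgebra T (M ⧸ N)) hft' hH'
      (Localization.AtPrime 𝔮 ⊗[T] D) (Or.inr inferInstance)
      (bc (S := Localization.AtPrime 𝔮) φ) hs' ((1 : Localization.AtPrime 𝔮) ⊗ₜ[T] d)
    rw [bc_tmul, MultDenseH1.counit_one_tmul, Algebra.TensorProduct.algebraMap_apply,
      Algebra.algebraMap_self, RingHom.id_apply, Algebra.algebraMap_eq_smul_one,
      TensorProduct.smul_tmul, ← Algebra.algebraMap_eq_smul_one] at h5
    haveI : IsLocalizedModule 𝔮.primeCompl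
        (TensorProduct.mk T (Localization.AtPrime 𝔮) (MonoidAlgebra T (M ⧸ N)) 1) :=
      (isLocalizedModule_iff_isBaseChange 𝔮.primeCompl (Localization.AtPrime 𝔮) _).mpr
        (TensorProduct.isBaseChange T (MonoidAlgebra T (M ⧸ N)) (Localization.AtPrime 𝔮))
    have h0 : (TensorProduct.mk T (Localization.AtPrime 𝔮) (MonoidAlgebra T (M ⧸ N)) 1)
        (φ d - triv T (MonoidAlgebra T (M ⧸ N)) D d) = 0 := by
      rw [map_sub, sub_eq_zero]
      exact h5
    obtain ⟨s, hs0⟩ := (IsLocalizedModule.eq_zero_iff 𝔮.primeCompl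
      (TensorProduct.mk T (Localization.AtPrime 𝔮) (MonoidAlgebra T (M ⧸ N)) 1)).mp h0
    exact ⟨s.1, s.2, hs0⟩
  -- a common denominator on generators
  obtain ⟨X, hX⟩ := (Algebra.FiniteType.out : (⊤ : Subalgebra T D).FG)
  choose sd hsd1 hsd2 using hrig
  obtain ⟨g₁, hg₁def⟩ : ∃ g₁ : T, g₁ = ∏ d ∈ X, sd d := ⟨_, rfl⟩
  have hg₁ : g₁ ∉ 𝔮 := by
    intro h
    rw [hg₁def] at h
    obtain ⟨d, _, hd⟩ := (Ideal.IsPrime.prod_mem_iff).mp h
    exact hsd1 d hd
  have htor : ∀ d : D, φ d - triv T (MonoidAlgebra T (M ⧸ N)) D d ∈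
      sat g₁ (⊥ : Ideal (MonoidAlgebra T (M ⧸ N))) := by
    have heq : (Ideal.Quotient.mkₐ T (sat g₁ (⊥ : Ideal (MonoidAlgebra T (M ⧸ N))))).comp
        (φ : D →ₐ[T] MonoidAlgebra T (M ⧸ N)) =
        (Ideal.Quotient.mkₐ T (sat g₁ (⊥ : Ideal (MonoidAlgebra T (M ⧸ N))))).comp
          (triv T (MonoidAlgebra T (M ⧸ N)) D : D →ₐ[T] MonoidAlgebra T (M ⧸ N)) := by
      apply AlgHom.ext_of_adjoin_eq_top hX
      intro d hd
      show Ideal.Quotient.mk _ (φ d) = Ideal.Quotient.mk _ (triv T (MonoidAlgebra T (M ⧸ N)) D d)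
      rw [Ideal.Quotient.eq]
      refine ⟨1, ?_⟩
      rw [pow_one, Ideal.mem_bot]
      obtain ⟨r, hr⟩ := Finset.dvd_prod_of_mem sd (Finset.mem_coe.mp hd)
      rw [hg₁def, hr, mul_comm, mul_smul, hsd2, smul_zero]
    intro d
    have h1 := AlgHom.congr_fun heq d
    exact Ideal.Quotient.eq.mp h1
  -- generators of `N`
  obtain ⟨SN, hSN⟩ := subgroup_fg N
  have hmemN : ∀ n ∈ SN, n ∈ N := fun n hn => by
    rw [← hSN]
    exact Subgroup.subset_closure (Finset.mem_coe.mpr hn)
  have hyc : ∀ n : M, ∃ (y : D) (c : T), n ∈ SN →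
      (c ∉ 𝔮 ∧ Φ y = MonoidAlgebra.single n c) := by
    intro n
    by_cases hn : n ∈ SN
    · have h1 := hmemN n hn
      rw [hNdef] at h1
      obtain ⟨y, c, hc, hy⟩ := h1
      exact ⟨y, c, fun _ => ⟨hc, hy⟩⟩
    · exact ⟨0, 0, fun h => absurd h hn⟩
  choose yN cN hycN using hyc
  obtain ⟨g₂, hg₂def⟩ : ∃ g₂ : T, g₂ = ∏ n ∈ SN, cN n := ⟨_, rfl⟩
  have hg₂ : g₂ ∉ 𝔮 := by
    intro h
    rw [hg₂def] at h
    obtain ⟨n, hn, hd⟩ := (Ideal.IsPrime.prod_mem_iff).mp h
    exact (hycN n hn).1 hd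
  obtain ⟨K, hKdef⟩ : ∃ K : Ideal (MonoidAlgebra T M),
      K = Ideal.map Φ (RingHom.ker (Bialgebra.counitAlgHom T D)) := ⟨_, rfl⟩
  have hK_gen : ∀ y : D, Φ y - algebraMap T (MonoidAlgebra T M) (Coalgebra.counit (R := T) y) ∈
      K := by
    intro y
    have h1 : y - algebraMap T D (Coalgebra.counit (R := T) y) ∈
        RingHom.ker (Bialgebra.counitAlgHom T D) := by
      rw [RingHom.mem_ker, map_sub, AlgHom.commutes]
      simp
    have h2 := Ideal.mem_map_of_mem Φ h1
    rw [map_sub, AlgHomClass.commutes] at h2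
    rw [hKdef]
    exact h2
  have hNK : ∀ n ∈ N, (MonoidAlgebra.single n (1 : T) - 1 : MonoidAlgebra T M) ∈ sat g₂ K := by
    let ψ : M →* (MonoidAlgebra T M ⧸ sat g₂ K) :=
      ((Ideal.Quotient.mk (sat g₂ K) : MonoidAlgebra T M →+* _) : MonoidAlgebra T M →* _).comp
        (MonoidAlgebra.of T M)
    have hle : N ≤ ψ.ker := by
      rw [← hSN, Subgroup.closure_le]
      intro n hn
      have hn' : n ∈ SN := Finset.mem_coe.mp hn
      obtain ⟨hc, hy⟩ := hycN n hn'
      rw [SetLike.mem_coe, MonoidHom.mem_ker]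
      show Ideal.Quotient.mk (sat g₂ K) (MonoidAlgebra.single n 1) = 1
      rw [← map_one (Ideal.Quotient.mk (sat g₂ K)), Ideal.Quotient.eq]
      refine ⟨1, ?_⟩
      rw [pow_one]
      have h1 := hK_gen (yN n)
      have hcu : Coalgebra.counit (R := T) (yN n) = cN n := by
        rw [← CoalgHomClass.counit_comp_apply Φ (yN n), hy, MonoidAlgebra.counit_single,
          CommSemiring.counit_apply]
      rw [hy, hcu] at h1
      obtain ⟨r, hr⟩ := Finset.dvd_prod_of_mem cN hn'
      have hr' : g₂ = cN n * r := by rw [hg₂def]; exact hr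
      have hL : g₂ • (MonoidAlgebra.single n (1 : T) - 1 : MonoidAlgebra T M) =
          MonoidAlgebra.single n (cN n * r) - MonoidAlgebra.single 1 (cN n * r) := by
        rw [hr', smul_sub, MonoidAlgebra.one_def, MonoidAlgebra.smul_single,
          MonoidAlgebra.smul_single, smul_eq_mul, mul_one]
      have hR : algebraMap T (MonoidAlgebra T M) r *
          (MonoidAlgebra.single n (cN n) - algebraMap T (MonoidAlgebra T M) (cN n)) =
          MonoidAlgebra.single n (cN n * r) - MonoidAlgebra.single 1 (cN n * r) := by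
        rw [algebraMap_eq_single, algebraMap_eq_single, mul_sub, MonoidAlgebra.single_mul_single,
          MonoidAlgebra.single_mul_single, one_mul, mul_one, mul_comm r]
      rw [hL, ← hR]
      exact Ideal.mul_mem_left _ _ h1
    intro n hn
    have h1 := hle hn
    rw [MonoidHom.mem_ker] at h1
    have h3 : Ideal.Quotient.mk (sat g₂ K) (MonoidAlgebra.single n 1) =
        Ideal.Quotient.mk (sat g₂ K) 1 := by
      rw [map_one]
      exact h1
    exact Ideal.Quotient.eq.mp h3
  -- the two kernels agree up to powers of `g₁ * g₂`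
  have h12 : RingHom.ker (π : MonoidAlgebra T M →ₐ[T] E) ≤
      sat (g₁ * g₂) (RingHom.ker (ρ : MonoidAlgebra T M →ₐ[T] MonoidAlgebra T (M ⧸ N))) := by
    have hK_le : K ≤
        sat (g₁ * g₂) (RingHom.ker (ρ : MonoidAlgebra T M →ₐ[T] MonoidAlgebra T (M ⧸ N))) := by
      rw [hKdef, Ideal.map_le_iff_le_comap]
      intro d hd
      rw [RingHom.mem_ker, Bialgebra.counitAlgHom_apply] at hd
      rw [Ideal.mem_comap]
      apply sat_mul_right
      obtain ⟨k, hk⟩ := htor d
      rw [Ideal.mem_bot, triv_apply, hd, map_zero, sub_zero, hφ] at hk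
      refine ⟨k, ?_⟩
      rw [RingHom.mem_ker]
      show ρ (g₁ ^ k • Φ d) = 0
      rw [map_smul]
      exact hk
    intro x hx
    rw [RingHom.mem_ker] at hx
    have hx' : π x = 0 := hx
    rw [hker x, ← hKdef] at hx'
    exact hK_le hx'
  have h21 : RingHom.ker (ρ : MonoidAlgebra T M →ₐ[T] MonoidAlgebra T (M ⧸ N)) ≤
      sat (g₁ * g₂) (RingHom.ker (π : MonoidAlgebra T M →ₐ[T] E)) := by
    intro x hx
    rw [RingHom.mem_ker] at hx
    have hx' : MonoidAlgebra.mapDomainAlgHom T T (QuotientGroup.mk' N) x = 0 := by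
      have hx2 : ρ x = 0 := hx
      rw [hρdef] at hx2
      exact hx2
    have h1 := MultTorsH1.mem_span_of_mapDomain_eq_zero N x hx'
    have hle : Ideal.span (Set.range fun h : N =>
        (MonoidAlgebra.single (h : M) (1 : T) - 1 : MonoidAlgebra T M)) ≤
        sat (g₁ * g₂) (RingHom.ker (π : MonoidAlgebra T M →ₐ[T] E)) := by
      rw [Ideal.span_le]
      rintro _ ⟨h, rfl⟩
      apply sat_mul_left
      obtain ⟨k, hk⟩ := hNK h.1 h.2
      refine ⟨k, ?_⟩
      rw [RingHom.mem_ker]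
      show π (g₂ ^ k • (MonoidAlgebra.single (h : M) (1 : T) - 1)) = 0
      rw [hker, ← hKdef]
      exact hk
    exact hle h1
  have hgunit : IsUnit (algebraMap T (Localization.Away (g₁ * g₂)) (g₁ * g₂)) :=
    IsLocalization.Away.algebraMap_isUnit (g₁ * g₂)
  have hIdeals :
      Ideal.map (Algebra.TensorProduct.includeRight :
          MonoidAlgebra T M →ₐ[T] Localization.Away (g₁ * g₂) ⊗[T] MonoidAlgebra T M)
        (RingHom.ker (π : MonoidAlgebra T M →ₐ[T] E)) =
      Ideal.map (Algebra.TensorProduct.includeRight :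
          MonoidAlgebra T M →ₐ[T] Localization.Away (g₁ * g₂) ⊗[T] MonoidAlgebra T M)
        (RingHom.ker (ρ : MonoidAlgebra T M →ₐ[T] MonoidAlgebra T (M ⧸ N))) :=
    le_antisymm (map_incl_le _ (g₁ * g₂) hgunit _ _ h12) (map_incl_le _ (g₁ * g₂) hgunit _ _ h21)
  refine ⟨g₁ * g₂, fun h => (h𝔮.mem_or_mem h).elim hg₁ hg₂, N, ?_⟩
  obtain ⟨ζ⟩ := diag_baseChange' (BialgEquiv.refl T (MonoidAlgebra T (M ⧸ N)))
    (Localization.Away (g₁ * g₂))
  obtain ⟨ζh, hζh⟩ : ∃ ζh : Localization.Away (g₁ * g₂) ⊗[T] MonoidAlgebra T (M ⧸ N)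
      →ₐc[Localization.Away (g₁ * g₂)] MonoidAlgebra (Localization.Away (g₁ * g₂)) (M ⧸ N),
      ∀ x, ζh x = ζ x :=
    ⟨(ζ : Localization.Away (g₁ * g₂) ⊗[T] MonoidAlgebra T (M ⧸ N)
      →ₐc[Localization.Away (g₁ * g₂)] MonoidAlgebra (Localization.Away (g₁ * g₂)) (M ⧸ N)),
      fun _ => rfl⟩
  refine MultTorsH1.exists_bialgEquiv_of_ker_eq (bc (S := Localization.Away (g₁ * g₂)) π)
    (ζh.comp (bc (S := Localization.Away (g₁ * g₂)) ρ))
    (bc_surjective π hπ) ?_ (fun x => ?_)
  · intro y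
    obtain ⟨z, rfl⟩ := ζ.surjective y
    obtain ⟨w, rfl⟩ := bc_surjective (S := Localization.Away (g₁ * g₂)) ρ hρ z
    exact ⟨w, hζh _⟩
  · have h2 : (ζh.comp (bc (S := Localization.Away (g₁ * g₂)) ρ)) x = 0 ↔
        bc (S := Localization.Away (g₁ * g₂)) ρ x = 0 := by
      show ζh (bc (S := Localization.Away (g₁ * g₂)) ρ x) = 0 ↔ _
      rw [hζh]
      exact map_eq_zero_iff ζ ζ.injective
    rw [h2, bc_eq_zero_iff π hπ, bc_eq_zero_iff ρ hρ, hIdeals]

end Near

section Main

theorem main2982 (R : Type u) [CommRing R] (A : Type u) [CommRing A] [HopfAlgebra R A]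
    (hft : Algebra.FiniteType R A) (h : IsMultType R A)
    (C : Type u) [CommRing C] [HopfAlgebra R C] (hC : Algebra.FinitePresentation R C)
    (φ : C →ₐc[R] A)
    (J : Ideal A) [J.IsHopfIdeal R]
    (hJ : J = Ideal.map φ (RingHom.ker (Bialgebra.counitAlgHom R C))) :
    IsMultType R (A ⧸ J) := by
  obtain ⟨s, hs, hconst⟩ := h
  refine assemble s hs (fun f hf => ?_)
  obtain ⟨R', _, _, hff, M, _, ⟨θ⟩⟩ := hconst f hf
  haveI := hff
  haveI := hft
  haveI := hC
  letI : Algebra R R' :=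
    ((algebraMap (Localization.Away f) R').comp (algebraMap R (Localization.Away f))).toAlgebra
  haveI : IsScalarTower R (Localization.Away f) R' := IsScalarTower.of_algebraMap_eq' rfl
  haveI : Module.Flat R (Localization.Away f) := IsLocalization.flat _ (Submonoid.powers f)
  haveI : Module.Flat R R' := Module.Flat.trans R (Localization.Away f) R'
  refine ⟨R', inferInstance, inferInstance, inferInstance, ?_, ?_⟩
  · intro p hp
    have hp1 : p ∈ Set.range (PrimeSpectrum.comap (algebraMap R (Localization.Away f))) := by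
      rw [PrimeSpectrum.localization_comap_range (Localization.Away f) (Submonoid.powers f)]
      show Disjoint ((Submonoid.powers f : Submonoid R) : Set R) (p.asIdeal : Set R)
      rw [Set.disjoint_left]
      rintro x ⟨n, rfl⟩ hx
      exact hp (p.isPrime.mem_of_pow_mem n hx)
    obtain ⟨p₁, hp₁⟩ := hp1
    obtain ⟨p₂, hp₂⟩ := PrimeSpectrum.comap_surjective_of_faithfullyFlat
      (A := Localization.Away f) (B := R') p₁
    refine ⟨p₂, ?_⟩
    rw [IsScalarTower.algebraMap_eq R (Localization.Away f) R', PrimeSpectrum.comap_comp_apply,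
      hp₂, hp₁]
  · intro q
    haveI : Nontrivial R' := by
      by_contra hn
      rw [not_nontrivial_iff_subsingleton] at hn
      haveI := hn
      exact q.isPrime.ne_top ((Ideal.eq_top_iff_one _).mpr (by
        rw [Subsingleton.elim (1 : R') 0]
        exact zero_mem _))
    haveI : q.asIdeal.IsPrime := q.isPrime
    obtain ⟨θ', hθ'⟩ : ∃ θ' : (R' ⊗[R] A) ≃ₐc[R'] MonoidAlgebra R' M,
        θ' = (kapB R A (Localization.Away f) R').symm.trans θ := ⟨_, rfl⟩
    haveI : Group.FG M := by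
      have h1 : Algebra.FiniteType R' (R' ⊗[R] A) := inferInstance
      have h2 : Algebra.FiniteType R' (MonoidAlgebra R' M) :=
        Algebra.FiniteType.equiv h1 θ'.toAlgEquiv
      exact MonoidAlgebra.finiteType_iff_group_fg.mp h2
    obtain ⟨θh, hθh⟩ : ∃ θh : R' ⊗[R] A →ₐc[R'] MonoidAlgebra R' M, ∀ x, θh x = θ' x :=
      ⟨(θ' : _ →ₐc[R'] _), fun _ => rfl⟩
    obtain ⟨θsh, hθsh⟩ : ∃ θsh : MonoidAlgebra R' M →ₐc[R'] R' ⊗[R] A, ∀ x, θsh x = θ'.symm x :=
      ⟨(θ'.symm : _ →ₐc[R'] _), fun _ => rfl⟩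
    have hts : ∀ x, θh (θsh x) = x := fun x => by rw [hθh, hθsh, θ'.apply_symm_apply]
    have hst : ∀ x, θsh (θh x) = x := fun x => by rw [hθh, hθsh, θ'.symm_apply_apply]
    obtain ⟨Φ, hΦ⟩ : ∃ Φ : R' ⊗[R] C →ₐc[R'] MonoidAlgebra R' M,
        ∀ z, Φ z = θh (bc (S := R') φ z) := ⟨θh.comp (bc (S := R') φ), fun _ => rfl⟩
    obtain ⟨q', hq'def⟩ : ∃ q' : A →ₐc[R] A ⧸ J, q' = Bialgebra.Quotient.mkBialgHom J :=
      ⟨_, rfl⟩
    have hq's : Function.Surjective q' := by
      rw [hq'def]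
      exact Ideal.Quotient.mk_surjective
    obtain ⟨π, hπ'⟩ : ∃ π : MonoidAlgebra R' M →ₐc[R'] R' ⊗[R] (A ⧸ J),
        ∀ x, π x = bc (S := R') q' (θsh x) := ⟨(bc (S := R') q').comp θsh, fun _ => rfl⟩
    have hπ : Function.Surjective π := by
      intro y
      obtain ⟨z, rfl⟩ := bc_surjective (S := R') q' hq's y
      exact ⟨θh z, by rw [hπ', hst]⟩
    have hkerq : RingHom.ker (q' : A →ₐ[R] A ⧸ J) = J := by
      rw [hq'def]
      ext a
      rw [RingHom.mem_ker]
      exact Ideal.Quotient.eq_zero_iff_mem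
    have hid : Ideal.map (Algebra.TensorProduct.includeRight : A →ₐ[R] R' ⊗[R] A)
        (RingHom.ker (q' : A →ₐ[R] A ⧸ J)) =
        Ideal.map (bc (S := R') φ) (RingHom.ker (Bialgebra.counitAlgHom R' (R' ⊗[R] C))) := by
      rw [hkerq, hJ, map_bc_aug]
    have hker : ∀ x, π x = 0 ↔
        x ∈ Ideal.map Φ (RingHom.ker (Bialgebra.counitAlgHom R' (R' ⊗[R] C))) := by
      intro x
      have h1 : π x = 0 ↔ θsh x ∈ Ideal.map (bc (S := R') φ)
          (RingHom.ker (Bialgebra.counitAlgHom R' (R' ⊗[R] C))) := by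
        rw [← hid, ← bc_eq_zero_iff q' hq's, hπ']
      rw [h1]
      constructor
      · intro hx
        have h2 : Ideal.map (bc (S := R') φ)
            (RingHom.ker (Bialgebra.counitAlgHom R' (R' ⊗[R] C))) ≤
            Ideal.comap θh
              (Ideal.map Φ (RingHom.ker (Bialgebra.counitAlgHom R' (R' ⊗[R] C)))) := by
          rw [Ideal.map_le_iff_le_comap]
          intro z hz
          rw [Ideal.mem_comap, Ideal.mem_comap, ← hΦ]
          exact Ideal.mem_map_of_mem Φ hz
        have h3 := h2 hx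
        rw [Ideal.mem_comap, hts] at h3
        exact h3
      · intro hx
        have h2 : Ideal.map Φ (RingHom.ker (Bialgebra.counitAlgHom R' (R' ⊗[R] C))) ≤
            Ideal.comap θsh (Ideal.map (bc (S := R') φ)
              (RingHom.ker (Bialgebra.counitAlgHom R' (R' ⊗[R] C)))) := by
          rw [Ideal.map_le_iff_le_comap]
          intro z hz
          rw [Ideal.mem_comap, Ideal.mem_comap, hΦ, hst]
          exact Ideal.mem_map_of_mem _ hz
        exact h2 hx
    obtain ⟨g, hg, N, ⟨ζ⟩⟩ := nearKer q.asIdeal Φ (R' ⊗[R] (A ⧸ J)) π hπ hker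
    exact ⟨g, hg, M ⧸ N, inferInstance,
      ⟨(kapB R (A ⧸ J) R' (Localization.Away g)).symm.trans ζ⟩⟩

end Main

end Groth.Agent.Lib.MultKerH1
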