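import Mathlib
import Groth.Prelude.Def_SGA3b
import Groth.Agent.Lib.MultKer1_helper1
import Groth.Agent.Lib.DiagSub_helper1

/-!
# The kernel of a homomorphism between groups of multiplicative type (helper1)

`nearKer'`: for a bialgebra map `Φ : D → T[M]` with `D ≅ T[M']` (`M'` finitely generated, `M`
arbitrary) and a prime `𝔮` of `T`, the closed subgroup of `D(M)` cut out by `Φ(aug D)` becomes
`D(M/N)` over a basic open neighbourhood of `𝔮`, for a subgroup `N ≤ M`.  The images of the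
characters `m' ∈ M'` are group-like elements of `T[M]`, i.e. finite partitions of unity indexed by
`M`; near `𝔮` each generator `s` of `M'` maps to a single character `μ s`, and `N` is generated by the
`μ s`.
`main6062`: the kernel of a homomorphism from a group of multiplicative type to a group of
multiplicative type and of finite type is of multiplicative type.
APPEND-ONLY once landed.
-/

set_option backward.isDefEq.respectTransparency.types false
set_option autoImplicit false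
set_option linter.unusedVariables false
set_option linter.unusedSectionVars false
set_option linter.style.longLine false
set_option maxHeartbeats 1600000

universe u

open TensorProduct Coalgebra Pointwise

noncomputable section

namespace Groth.Agent.Lib.MultKer2H1

open Groth.Agent.Lib.DiagNilH4 Groth.Agent.Lib.DiagBCH4 Groth.Agent.Lib.MultCovH1
open Groth.Agent.Lib.MultKerH1 SGA3b
open MultRigidH1

theorem iso_of_sat {T : Type u} [CommRing T] {M Q : Type u} [CommGroup M] [CommGroup Q]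
    (ρ : MonoidAlgebra T M →ₐc[T] MonoidAlgebra T Q) (hρ : Function.Surjective ρ)
    (E : Type u) [CommRing E] [HopfAlgebra T E] (π : MonoidAlgebra T M →ₐc[T] E)
    (hπ : Function.Surjective π) (g : T)
    (h12 : RingHom.ker (π : MonoidAlgebra T M →ₐ[T] E) ≤
      sat g (RingHom.ker (ρ : MonoidAlgebra T M →ₐ[T] MonoidAlgebra T Q)))
    (h21 : RingHom.ker (ρ : MonoidAlgebra T M →ₐ[T] MonoidAlgebra T Q) ≤
      sat g (RingHom.ker (π : MonoidAlgebra T M →ₐ[T] E))) :
    Nonempty ((Localization.Away g ⊗[T] E) ≃ₐc[Localization.Away g]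
      MonoidAlgebra (Localization.Away g) Q) := by
  have hgunit : IsUnit (algebraMap T (Localization.Away g) g) :=
    IsLocalization.Away.algebraMap_isUnit g
  have hIdeals :
      Ideal.map (Algebra.TensorProduct.includeRight :
          MonoidAlgebra T M →ₐ[T] Localization.Away g ⊗[T] MonoidAlgebra T M)
        (RingHom.ker (π : MonoidAlgebra T M →ₐ[T] E)) =
      Ideal.map (Algebra.TensorProduct.includeRight :
          MonoidAlgebra T M →ₐ[T] Localization.Away g ⊗[T] MonoidAlgebra T M)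
        (RingHom.ker (ρ : MonoidAlgebra T M →ₐ[T] MonoidAlgebra T Q)) :=
    le_antisymm (map_incl_le _ g hgunit _ _ h12) (map_incl_le _ g hgunit _ _ h21)
  obtain ⟨ζ⟩ := diag_baseChange' (BialgEquiv.refl T (MonoidAlgebra T Q)) (Localization.Away g)
  obtain ⟨ζh, hζh⟩ : ∃ ζh : Localization.Away g ⊗[T] MonoidAlgebra T Q
      →ₐc[Localization.Away g] MonoidAlgebra (Localization.Away g) Q,
      ∀ x, ζh x = ζ x :=
    ⟨(ζ : Localization.Away g ⊗[T] MonoidAlgebra T Q
      →ₐc[Localization.Away g] MonoidAlgebra (Localization.Away g) Q), fun _ => rfl⟩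
  refine MultTorsH1.exists_bialgEquiv_of_ker_eq (bc (S := Localization.Away g) π)
    (ζh.comp (bc (S := Localization.Away g) ρ))
    (bc_surjective π hπ) ?_ (fun x => ?_)
  · intro y
    obtain ⟨z, rfl⟩ := ζ.surjective y
    obtain ⟨w, rfl⟩ := bc_surjective (S := Localization.Away g) ρ hρ z
    exact ⟨w, hζh _⟩
  · have h2 : (ζh.comp (bc (S := Localization.Away g) ρ)) x = 0 ↔
        bc (S := Localization.Away g) ρ x = 0 := by
      show ζh (bc (S := Localization.Away g) ρ x) = 0 ↔ _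
      rw [hζh]
      exact map_eq_zero_iff ζ ζ.injective
    rw [h2, bc_eq_zero_iff π hπ, bc_eq_zero_iff ρ hρ, hIdeals]

theorem ker_setup {R : Type u} [CommRing R] {A : Type u} [CommRing A] [HopfAlgebra R A]
    {C : Type u} [CommRing C] [HopfAlgebra R C] (φ : C →ₐc[R] A)
    (J : Ideal A) [J.IsHopfIdeal R]
    (hJ : J = Ideal.map φ (RingHom.ker (Bialgebra.counitAlgHom R C)))
    (R' : Type u) [CommRing R'] [Algebra R R'] {M : Type u} [CommGroup M]
    (θ' : (R' ⊗[R] A) ≃ₐc[R'] MonoidAlgebra R' M) :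
    ∃ (Φ : R' ⊗[R] C →ₐc[R'] MonoidAlgebra R' M)
      (π : MonoidAlgebra R' M →ₐc[R'] R' ⊗[R] (A ⧸ J)),
      Function.Surjective π ∧
      ∀ x, π x = 0 ↔
        x ∈ Ideal.map Φ (RingHom.ker (Bialgebra.counitAlgHom R' (R' ⊗[R] C))) := by
  obtain ⟨θh, hθh⟩ : ∃ θh : R' ⊗[R] A →ₐc[R'] MonoidAlgebra R' M, ∀ x, θh x = θ' x :=
    ⟨(θ' : _ →ₐc[R'] _), fun _ => rfl⟩
  obtain ⟨θsh, hθsh⟩ : ∃ θsh : MonoidAlgebra R' M →ₐc[R'] R' ⊗[R] A, ∀ x, θsh x = θ'.symm x :=
    ⟨(θ'.symm : _ →ₐc[R'] _), fun _ => rfl⟩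
  have hts : ∀ x, θh (θsh x) = x := fun x => by rw [hθh, hθsh, θ'.apply_symm_apply]
  have hst : ∀ x, θsh (θh x) = x := fun x => by rw [hθh, hθsh, θ'.symm_apply_apply]
  obtain ⟨Φ, hΦ⟩ : ∃ Φ : R' ⊗[R] C →ₐc[R'] MonoidAlgebra R' M,
      ∀ z, Φ z = θh (bc (S := R') φ z) := ⟨θh.comp (bc (S := R') φ), fun _ => rfl⟩
  obtain ⟨q', hq'def⟩ : ∃ q' : A →ₐc[R] A ⧸ J, q' = Bialgebra.Quotient.mkBialgHom J :=
    ⟨_, rfl⟩
  have hq's : Function.Surjective q' := by
    rw [hq'def]
    exact Ideal.Quotient.mk_surjective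
  obtain ⟨π, hπ'⟩ : ∃ π : MonoidAlgebra R' M →ₐc[R'] R' ⊗[R] (A ⧸ J),
      ∀ x, π x = bc (S := R') q' (θsh x) := ⟨(bc (S := R') q').comp θsh, fun _ => rfl⟩
  have hπ : Function.Surjective π := by
    intro y
    obtain ⟨z, rfl⟩ := bc_surjective (S := R') q' hq's y
    exact ⟨θh z, by rw [hπ', hst]⟩
  have hkerq : RingHom.ker (q' : A →ₐ[R] A ⧸ J) = J := by
    rw [hq'def]
    ext a
    rw [RingHom.mem_ker]
    exact Ideal.Quotient.eq_zero_iff_mem
  have hid : Ideal.map (Algebra.TensorProduct.includeRight : A →ₐ[R] R' ⊗[R] A)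
      (RingHom.ker (q' : A →ₐ[R] A ⧸ J)) =
      Ideal.map (bc (S := R') φ) (RingHom.ker (Bialgebra.counitAlgHom R' (R' ⊗[R] C))) := by
    rw [hkerq, hJ, map_bc_aug]
  have hker : ∀ x, π x = 0 ↔
      x ∈ Ideal.map Φ (RingHom.ker (Bialgebra.counitAlgHom R' (R' ⊗[R] C))) := by
    intro x
    have h1 : π x = 0 ↔ θsh x ∈ Ideal.map (bc (S := R') φ)
        (RingHom.ker (Bialgebra.counitAlgHom R' (R' ⊗[R] C))) := by
      rw [← hid, ← bc_eq_zero_iff q' hq's, hπ']
    rw [h1]
    constructor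
    · intro hx
      have h2 : Ideal.map (bc (S := R') φ)
          (RingHom.ker (Bialgebra.counitAlgHom R' (R' ⊗[R] C))) ≤
          Ideal.comap θh
            (Ideal.map Φ (RingHom.ker (Bialgebra.counitAlgHom R' (R' ⊗[R] C)))) := by
        rw [Ideal.map_le_iff_le_comap]
        intro z hz
        rw [Ideal.mem_comap, Ideal.mem_comap, ← hΦ]
        exact Ideal.mem_map_of_mem Φ hz
      have h3 := h2 hx
      rw [Ideal.mem_comap, hts] at h3
      exact h3
    · intro hx
      have h2 : Ideal.map Φ (RingHom.ker (Bialgebra.counitAlgHom R' (R' ⊗[R] C))) ≤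
          Ideal.comap θsh (Ideal.map (bc (S := R') φ)
            (RingHom.ker (Bialgebra.counitAlgHom R' (R' ⊗[R] C)))) := by
        rw [Ideal.map_le_iff_le_comap]
        intro z hz
        rw [Ideal.mem_comap, Ideal.mem_comap, hΦ, hst]
        exact Ideal.mem_map_of_mem _ hz
      exact h2 hx
  exact ⟨Φ, π, hπ, hker⟩

theorem exists_over {R : Type u} [CommRing R] (f : R) (R' : Type u) [CommRing R']
    [Algebra (Localization.Away f) R'] [Module.FaithfullyFlat (Localization.Away f) R']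
    [Algebra R R'] [IsScalarTower R (Localization.Away f) R'] (p : PrimeSpectrum R)
    (hp : f ∉ p.asIdeal) : p ∈ Set.range (PrimeSpectrum.comap (algebraMap R R')) := by
  have hp1 : p ∈ Set.range (PrimeSpectrum.comap (algebraMap R (Localization.Away f))) := by
    rw [PrimeSpectrum.localization_comap_range (Localization.Away f) (Submonoid.powers f)]
    show Disjoint ((Submonoid.powers f : Submonoid R) : Set R) (p.asIdeal : Set R)
    rw [Set.disjoint_left]
    rintro x ⟨n, rfl⟩ hx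
    exact hp (p.isPrime.mem_of_pow_mem n hx)
  obtain ⟨p₁, hp₁⟩ := hp1
  obtain ⟨p₂, hp₂⟩ := PrimeSpectrum.comap_surjective_of_faithfullyFlat
    (A := Localization.Away f) (B := R') p₁
  refine ⟨p₂, ?_⟩
  rw [IsScalarTower.algebraMap_eq R (Localization.Away f) R', PrimeSpectrum.comap_comp_apply,
    hp₂, hp₁]

theorem exists_prime_tensor {R : Type u} [CommRing R] (S₁ S₂ : Type u) [CommRing S₁]
    [CommRing S₂] [Algebra R S₁] [Algebra R S₂] (p₁ : PrimeSpectrum S₁) (p₂ : PrimeSpectrum S₂)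
    (h : PrimeSpectrum.comap (algebraMap R S₁) p₁ = PrimeSpectrum.comap (algebraMap R S₂) p₂) :
    PrimeSpectrum.comap (algebraMap R S₁) p₁ ∈
      Set.range (PrimeSpectrum.comap (algebraMap R (S₁ ⊗[R] S₂))) := by
  have hk1 : RingHom.ker (algebraMap R p₁.asIdeal.ResidueField) =
      (PrimeSpectrum.comap (algebraMap R S₁) p₁).asIdeal := by
    rw [IsScalarTower.algebraMap_eq R S₁ p₁.asIdeal.ResidueField, ← RingHom.comap_ker,
      Ideal.ker_algebraMap_residueField]
    rfl
  have hk2 : RingHom.ker (algebraMap R p₂.asIdeal.ResidueField) =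
      (PrimeSpectrum.comap (algebraMap R S₂) p₂).asIdeal := by
    rw [IsScalarTower.algebraMap_eq R S₂ p₂.asIdeal.ResidueField, ← RingHom.comap_ker,
      Ideal.ker_algebraMap_residueField]
    rfl
  obtain ⟨Ω, _, j, j', hjj⟩ := exists_common_field (R := R) p₁.asIdeal.ResidueField
    p₂.asIdeal.ResidueField (by rw [hk1, hk2, h])
  letI : Algebra R Ω := (j.comp (algebraMap R p₁.asIdeal.ResidueField)).toAlgebra
  let ψ₁ : S₁ →ₐ[R] Ω :=
    { j.comp (algebraMap S₁ p₁.asIdeal.ResidueField) with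
      commutes' := fun r => by
        show j (algebraMap S₁ p₁.asIdeal.ResidueField (algebraMap R S₁ r)) =
          j (algebraMap R p₁.asIdeal.ResidueField r)
        rw [← IsScalarTower.algebraMap_apply] }
  let ψ₂ : S₂ →ₐ[R] Ω :=
    { j'.comp (algebraMap S₂ p₂.asIdeal.ResidueField) with
      commutes' := fun r => by
        show j' (algebraMap S₂ p₂.asIdeal.ResidueField (algebraMap R S₂ r)) =
          j (algebraMap R p₁.asIdeal.ResidueField r)
        rw [← IsScalarTower.algebraMap_apply]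
        exact (RingHom.congr_fun hjj r).symm }
  let Ψ : S₁ ⊗[R] S₂ →ₐ[R] Ω := Algebra.TensorProduct.lift ψ₁ ψ₂ (fun _ _ => Commute.all _ _)
  refine ⟨⟨RingHom.ker Ψ.toRingHom, RingHom.ker_isPrime _⟩, ?_⟩
  apply PrimeSpectrum.ext
  show Ideal.comap (algebraMap R (S₁ ⊗[R] S₂)) (RingHom.ker Ψ.toRingHom) = _
  rw [← hk1]
  ext r
  rw [Ideal.mem_comap, RingHom.mem_ker, RingHom.mem_ker]
  show Ψ (algebraMap R (S₁ ⊗[R] S₂) r) = 0 ↔ _
  rw [AlgHom.commutes]
  show j (algebraMap R p₁.asIdeal.ResidueField r) = 0 ↔ _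
  exact map_eq_zero_iff j j.injective

section Near

variable {T : Type u} [CommRing T] (𝔮 : Ideal T) [h𝔮 : 𝔮.IsPrime] {M : Type u} [CommGroup M]
  {D : Type u} [CommRing D] [HopfAlgebra T D] (Φ : D →ₐc[T] MonoidAlgebra T M)

theorem nearKer' {M' : Type u} [CommGroup M'] [Group.FG M'] (χ : D ≃ₐc[T] MonoidAlgebra T M')
    (E : Type u) [CommRing E] [HopfAlgebra T E] (π : MonoidAlgebra T M →ₐc[T] E)
    (hπ : Function.Surjective π)
    (hker : ∀ x, π x = 0 ↔ x ∈ Ideal.map Φ (RingHom.ker (Bialgebra.counitAlgHom T D))) :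
    ∃ g : T, g ∉ 𝔮 ∧ ∃ N : Subgroup M,
      Nonempty ((Localization.Away g ⊗[T] E) ≃ₐc[Localization.Away g]
        MonoidAlgebra (Localization.Away g) (M ⧸ N)) := by
  classical
  -- the images of the characters of `D`
  obtain ⟨yy, hyy⟩ : ∃ yy : M' → D, ∀ m', yy m' = χ.symm (MonoidAlgebra.single m' 1) :=
    ⟨_, fun _ => rfl⟩
  obtain ⟨xx, hxx⟩ : ∃ xx : M' → MonoidAlgebra T M, ∀ m', xx m' = Φ (yy m') :=
    ⟨_, fun _ => rfl⟩
  have hygl : ∀ m', IsGroupLikeElem T (yy m') := fun m' => by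
    rw [hyy]
    exact (isGroupLikeElem_map_equiv χ.symm).mpr (MonoidAlgebra.isGroupLikeElem_single_one m')
  have hxgl : ∀ m', IsGroupLikeElem T (xx m') := fun m' => by
    rw [hxx]
    exact (hygl m').map Φ
  have hy1 : yy 1 = 1 := by
    rw [hyy, ← MonoidAlgebra.one_def, map_one]
  have hymul : ∀ a b, yy (a * b) = yy a * yy b := fun a b => by
    rw [hyy, hyy, hyy, ← map_mul, MonoidAlgebra.single_mul_single, mul_one]
  have hx1 : xx 1 = 1 := by rw [hxx, hy1, map_one]
  have hxmul : ∀ a b, xx (a * b) = xx a * xx b := fun a b => by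
    rw [hxx, hxx, hxx, hymul, map_mul]
  -- near `𝔮` each `xx m'` is a single character
  have hex : ∀ m' : M', ∃ m : M, (xx m').coeff m ∉ 𝔮 := by
    intro m'
    by_contra hno
    have hall : ∀ m, (xx m').coeff m ∈ 𝔮 := fun m => by
      by_contra hm
      exact hno ⟨m, hm⟩
    have h1 := DiagSubH1.gl_sum (xx m') (hxgl m')
    have h2 : ∑ m ∈ (xx m').coeff.support, (xx m').coeff m ∈ 𝔮 :=
      Ideal.sum_mem _ (fun m _ => hall m)
    rw [h1] at h2
    exact h𝔮.ne_top ((Ideal.eq_top_iff_one _).mpr h2)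
  choose μ hμ using hex
  obtain ⟨ee, hee⟩ : ∃ ee : M' → T, ∀ m', ee m' = (xx m').coeff (μ m') := ⟨_, fun _ => rfl⟩
  have heeq : ∀ m', ee m' ∉ 𝔮 := fun m' => by rw [hee]; exact hμ m'
  have hkey0 : ∀ m', ee m' • xx m' =
      ee m' • (MonoidAlgebra.single (μ m') (1 : T) : MonoidAlgebra T M) := by
    intro m'
    apply MonoidAlgebra.coeff_injective
    ext n
    rw [MonoidAlgebra.coeff_smul, MonoidAlgebra.coeff_smul, Finsupp.smul_apply,
      Finsupp.smul_apply, MonoidAlgebra.coeff_single, smul_eq_mul, smul_eq_mul,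
      Finsupp.single_apply]
    by_cases hn : μ m' = n
    · subst hn
      rw [if_pos rfl, mul_one, hee]
      exact DiagSubH1.gl_sq (xx m') (hxgl m') (μ m')
    · rw [if_neg hn, mul_zero, hee]
      exact DiagSubH1.gl_orth (xx m') (hxgl m') (μ m') n hn
  have hkey : ∀ m', ee m' • (xx m' - 1) =
      ee m' • ((MonoidAlgebra.single (μ m') (1 : T) : MonoidAlgebra T M) - 1) := by
    intro m'
    rw [smul_sub, smul_sub, hkey0]
  -- generators
  obtain ⟨S', hS'⟩ := (Group.FG.out : (⊤ : Subgroup M').FG)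
  obtain ⟨g, hgdef⟩ : ∃ g : T, g = ∏ s ∈ S', ee s := ⟨_, rfl⟩
  have hg : g ∉ 𝔮 := by
    intro h
    rw [hgdef] at h
    obtain ⟨s, _, hs⟩ := (Ideal.IsPrime.prod_mem_iff).mp h
    exact heeq s hs
  have hgs : ∀ s ∈ S', ∃ r : T, g = r * ee s := by
    intro s hs
    obtain ⟨r, hr⟩ := Finset.dvd_prod_of_mem ee hs
    exact ⟨r, by rw [hgdef, hr, mul_comm]⟩
  obtain ⟨N, hNdef⟩ : ∃ N : Subgroup M, N = Subgroup.closure (μ '' (S' : Set M')) := ⟨_, rfl⟩
  obtain ⟨ρ, hρdef⟩ : ∃ ρ : MonoidAlgebra T M →ₐc[T] MonoidAlgebra T (M ⧸ N),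
      ρ = MonoidAlgebra.mapDomainBialgHom T (QuotientGroup.mk' N) := ⟨_, rfl⟩
  have hρ : Function.Surjective ρ := by
    rw [hρdef]
    exact mapDomain_surjective N
  obtain ⟨K, hKdef⟩ : ∃ K : Ideal (MonoidAlgebra T M),
      K = Ideal.map Φ (RingHom.ker (Bialgebra.counitAlgHom T D)) := ⟨_, rfl⟩
  have hρs : ∀ s ∈ S', ρ ((MonoidAlgebra.single (μ s) (1 : T) : MonoidAlgebra T M) - 1) = 0 := by
    intro s hs
    have hmem : μ s ∈ N := by
      rw [hNdef]
      exact Subgroup.subset_closure (Set.mem_image_of_mem μ (Finset.mem_coe.mpr hs))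
    have h1 : (QuotientGroup.mk' N) (μ s) = 1 := (QuotientGroup.eq_one_iff (μ s)).mpr hmem
    rw [map_sub, map_one, hρdef, MonoidAlgebra.mapDomainBialgHom_single, h1,
      ← MonoidAlgebra.one_def, sub_self]
  obtain ⟨I₁, hI₁⟩ : ∃ I₁ : Ideal (MonoidAlgebra T M),
      I₁ = sat g (RingHom.ker (ρ : MonoidAlgebra T M →ₐ[T] MonoidAlgebra T (M ⧸ N))) :=
    ⟨_, rfl⟩
  have hx_mem : ∀ m' : M', xx m' - 1 ∈ I₁ := by
    let ψ₁ : M' →* (MonoidAlgebra T M ⧸ I₁) :=
      { toFun := fun m' => Ideal.Quotient.mk I₁ (xx m')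
        map_one' := by
          show Ideal.Quotient.mk I₁ (xx 1) = 1
          rw [hx1, map_one]
        map_mul' := fun a b => by
          show Ideal.Quotient.mk I₁ (xx (a * b)) =
            Ideal.Quotient.mk I₁ (xx a) * Ideal.Quotient.mk I₁ (xx b)
          rw [hxmul, map_mul] }
    have hle : (⊤ : Subgroup M') ≤ ψ₁.ker := by
      rw [← hS', Subgroup.closure_le]
      intro s hs
      have hs' : s ∈ S' := Finset.mem_coe.mp hs
      rw [SetLike.mem_coe, MonoidHom.mem_ker]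
      show Ideal.Quotient.mk I₁ (xx s) = 1
      rw [← map_one (Ideal.Quotient.mk I₁), Ideal.Quotient.eq, hI₁]
      refine ⟨1, ?_⟩
      rw [pow_one, RingHom.mem_ker]
      obtain ⟨r, hr⟩ := hgs s hs'
      show ρ (g • (xx s - 1)) = 0
      rw [hr, mul_smul, hkey, map_smul, map_smul, hρs s hs', smul_zero, smul_zero]
    intro m'
    have h1 := hle (Subgroup.mem_top m')
    rw [MonoidHom.mem_ker] at h1
    have h3 : Ideal.Quotient.mk I₁ (xx m') = Ideal.Quotient.mk I₁ 1 := by
      rw [map_one]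
      exact h1
    exact Ideal.Quotient.eq.mp h3
  have hΦ_mem : ∀ y : D,
      Φ y - algebraMap T (MonoidAlgebra T M) (Coalgebra.counit (R := T) y) ∈ I₁ := by
    intro y
    obtain ⟨z, rfl⟩ : ∃ z, y = χ.symm z := ⟨χ y, (χ.symm_apply_apply y).symm⟩
    induction z using MonoidAlgebra.induction_linear with
    | zero => simp
    | add a b ha hb =>
      simp only [map_add]
      rw [add_sub_add_comm]
      exact Ideal.add_mem _ ha hb
    | single m' c =>
      have h1 : (MonoidAlgebra.single m' c : MonoidAlgebra T M') =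
          c • MonoidAlgebra.single m' 1 := by
        rw [MonoidAlgebra.smul_single, smul_eq_mul, mul_one]
      have h2 : χ.symm (MonoidAlgebra.single m' c) = c • yy m' := by
        rw [h1, map_smul, hyy]
      rw [h2, map_smul, map_smul, (hygl m').counit_eq_one, smul_eq_mul, mul_one, ← hxx,
        Algebra.algebraMap_eq_smul_one, ← smul_sub]
      exact Submodule.smul_of_tower_mem I₁ c (hx_mem m')
  have h12 : RingHom.ker (π : MonoidAlgebra T M →ₐ[T] E) ≤ I₁ := by
    have hK_le : K ≤ I₁ := by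
      rw [hKdef, Ideal.map_le_iff_le_comap]
      intro d hd
      rw [RingHom.mem_ker, Bialgebra.counitAlgHom_apply] at hd
      rw [Ideal.mem_comap]
      have h1 := hΦ_mem d
      rw [hd, map_zero, sub_zero] at h1
      exact h1
    intro x hx
    rw [RingHom.mem_ker] at hx
    have hx' : π x = 0 := hx
    rw [hker x, ← hKdef] at hx'
    exact hK_le hx'
  have hK_gen : ∀ y : D, Φ y - algebraMap T (MonoidAlgebra T M) (Coalgebra.counit (R := T) y) ∈
      K := by
    intro y
    have h1 : y - algebraMap T D (Coalgebra.counit (R := T) y) ∈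
        RingHom.ker (Bialgebra.counitAlgHom T D) := by
      rw [RingHom.mem_ker, map_sub, AlgHom.commutes]
      simp
    have h2 := Ideal.mem_map_of_mem Φ h1
    rw [map_sub, AlgHomClass.commutes] at h2
    rw [hKdef]
    exact h2
  obtain ⟨I₂, hI₂⟩ : ∃ I₂ : Ideal (MonoidAlgebra T M), I₂ = sat g K := ⟨_, rfl⟩
  have hNK : ∀ n ∈ N, (MonoidAlgebra.single n (1 : T) - 1 : MonoidAlgebra T M) ∈ I₂ := by
    let ψ₂ : M →* (MonoidAlgebra T M ⧸ I₂) :=
      ((Ideal.Quotient.mk I₂ : MonoidAlgebra T M →+* _) : MonoidAlgebra T M →* _).comp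
        (MonoidAlgebra.of T M)
    have hle : N ≤ ψ₂.ker := by
      rw [hNdef, Subgroup.closure_le]
      rintro _ ⟨s, hs, rfl⟩
      have hs' : s ∈ S' := Finset.mem_coe.mp hs
      rw [SetLike.mem_coe, MonoidHom.mem_ker]
      show Ideal.Quotient.mk I₂ (MonoidAlgebra.single (μ s) 1) = 1
      rw [← map_one (Ideal.Quotient.mk I₂), Ideal.Quotient.eq, hI₂]
      refine ⟨1, ?_⟩
      rw [pow_one]
      obtain ⟨r, hr⟩ := hgs s hs'
      have h1 := hK_gen (yy s)
      rw [(hygl s).counit_eq_one, map_one, ← hxx] at h1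
      rw [hr, mul_smul, ← hkey]
      exact Submodule.smul_of_tower_mem K r (Submodule.smul_of_tower_mem K (ee s) h1)
    intro n hn
    have h1 := hle hn
    rw [MonoidHom.mem_ker] at h1
    have h3 : Ideal.Quotient.mk I₂ (MonoidAlgebra.single n 1) =
        Ideal.Quotient.mk I₂ 1 := by
      rw [map_one]
      exact h1
    exact Ideal.Quotient.eq.mp h3
  have h21 : RingHom.ker (ρ : MonoidAlgebra T M →ₐ[T] MonoidAlgebra T (M ⧸ N)) ≤
      sat g (RingHom.ker (π : MonoidAlgebra T M →ₐ[T] E)) := by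
    intro x hx
    rw [RingHom.mem_ker] at hx
    have hx' : MonoidAlgebra.mapDomainAlgHom T T (QuotientGroup.mk' N) x = 0 := by
      have hx2 : ρ x = 0 := hx
      rw [hρdef] at hx2
      exact hx2
    have h1 := MultTorsH1.mem_span_of_mapDomain_eq_zero N x hx'
    have hle : Ideal.span (Set.range fun h : N =>
        (MonoidAlgebra.single (h : M) (1 : T) - 1 : MonoidAlgebra T M)) ≤
        sat g (RingHom.ker (π : MonoidAlgebra T M →ₐ[T] E)) := by
      rw [Ideal.span_le]
      rintro _ ⟨h, rfl⟩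
      have h2 := hNK h.1 h.2
      rw [hI₂] at h2
      obtain ⟨k, hk⟩ := h2
      refine ⟨k, ?_⟩
      rw [RingHom.mem_ker]
      show π (g ^ k • (MonoidAlgebra.single (h : M) (1 : T) - 1)) = 0
      rw [hker, ← hKdef]
      exact hk
    exact hle h1
  refine ⟨g, hg, N, ?_⟩
  rw [hI₁] at h12
  exact iso_of_sat ρ hρ E π hπ g h12 h21

end Near

section Main

theorem main6062 (R : Type u) [CommRing R] (A : Type u) [CommRing A] [HopfAlgebra R A]
    (hA : IsMultType R A) (C : Type u) [CommRing C] [HopfAlgebra R C] (hC : IsMultType R C)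
    (hCft : Algebra.FiniteType R C) (φ : C →ₐc[R] A)
    (J : Ideal A) [J.IsHopfIdeal R]
    (hJ : J = Ideal.map φ (RingHom.ker (Bialgebra.counitAlgHom R C))) :
    IsMultType R (A ⧸ J) := by
  obtain ⟨sA, hsA, hcA⟩ := hA
  obtain ⟨sC, hsC, hcC⟩ := hC
  have hspan : Ideal.span (sA * sC) = ⊤ := by
    rw [← Ideal.span_mul_span', hsA, hsC, Ideal.top_mul]
  refine assemble (sA * sC) hspan (fun f hf => ?_)
  obtain ⟨f₁, hf₁, f₂, hf₂, rfl⟩ := Set.mem_mul.mp hf
  obtain ⟨R₁, _, _, hff₁, M, _, ⟨θ₁⟩⟩ := hcA f₁ hf₁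
  obtain ⟨R₂, _, _, hff₂, M', _, ⟨θ₂⟩⟩ := hcC f₂ hf₂
  haveI := hff₁
  haveI := hff₂
  haveI := hCft
  letI alg1 : Algebra R R₁ :=
    ((algebraMap (Localization.Away f₁) R₁).comp (algebraMap R (Localization.Away f₁))).toAlgebra
  haveI : IsScalarTower R (Localization.Away f₁) R₁ := IsScalarTower.of_algebraMap_eq' rfl
  haveI : Module.Flat R (Localization.Away f₁) := IsLocalization.flat _ (Submonoid.powers f₁)
  haveI : Module.Flat R R₁ := Module.Flat.trans R (Localization.Away f₁) R₁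
  letI alg2 : Algebra R R₂ :=
    ((algebraMap (Localization.Away f₂) R₂).comp (algebraMap R (Localization.Away f₂))).toAlgebra
  haveI : IsScalarTower R (Localization.Away f₂) R₂ := IsScalarTower.of_algebraMap_eq' rfl
  haveI : Module.Flat R (Localization.Away f₂) := IsLocalization.flat _ (Submonoid.powers f₂)
  haveI : Module.Flat R R₂ := Module.Flat.trans R (Localization.Away f₂) R₂
  refine ⟨R₁ ⊗[R] R₂, inferInstance, inferInstance, inferInstance, ?_, ?_⟩
  · intro p hp
    have hp1 : f₁ ∉ p.asIdeal := fun h => hp (Ideal.mul_mem_right _ _ h)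
    have hp2 : f₂ ∉ p.asIdeal := fun h => hp (Ideal.mul_mem_left _ _ h)
    obtain ⟨q₁, hq₁⟩ := exists_over f₁ R₁ p hp1
    obtain ⟨q₂, hq₂⟩ := exists_over f₂ R₂ p hp2
    have h3 := exists_prime_tensor R₁ R₂ q₁ q₂ (hq₁.trans hq₂.symm)
    rw [hq₁] at h3
    exact h3
  · intro q
    haveI : Nontrivial (R₁ ⊗[R] R₂) := by
      by_contra hn
      rw [not_nontrivial_iff_subsingleton] at hn
      haveI := hn
      exact q.isPrime.ne_top ((Ideal.eq_top_iff_one _).mpr (by
        rw [Subsingleton.elim (1 : R₁ ⊗[R] R₂) 0]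
        exact zero_mem _))
    haveI : q.asIdeal.IsPrime := q.isPrime
    haveI : Nontrivial R₂ := by
      by_contra hn
      rw [not_nontrivial_iff_subsingleton] at hn
      haveI := hn
      have h0 : (1 : R₁ ⊗[R] R₂) = 0 := by
        rw [Algebra.TensorProduct.one_def, Subsingleton.elim (1 : R₂) 0, TensorProduct.tmul_zero]
      exact one_ne_zero h0
    haveI : Group.FG M' := by
      have h1 : Algebra.FiniteType R₂
          (R₂ ⊗[Localization.Away f₂] (Localization.Away f₂ ⊗[R] C)) := inferInstance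
      have h2 : Algebra.FiniteType R₂ (MonoidAlgebra R₂ M') :=
        Algebra.FiniteType.equiv h1 θ₂.toAlgEquiv
      exact MonoidAlgebra.finiteType_iff_group_fg.mp h2
    have hdA : DiagT R A (R₁ ⊗[R] R₂) M := by
      have h1 : DiagT R A R₁ M :=
        (diagT_tower (R := R) (B := A) (S := Localization.Away f₁) (T := R₁) (Q := M)).mp ⟨θ₁⟩
      exact diagT_of_algHom (Algebra.TensorProduct.includeLeft : R₁ →ₐ[R] R₁ ⊗[R] R₂) h1
    have hdC : DiagT R C (R₁ ⊗[R] R₂) M' := by
      have h1 : DiagT R C R₂ M' :=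
        (diagT_tower (R := R) (B := C) (S := Localization.Away f₂) (T := R₂) (Q := M')).mp ⟨θ₂⟩
      exact diagT_of_algHom (Algebra.TensorProduct.includeRight : R₂ →ₐ[R] R₁ ⊗[R] R₂) h1
    obtain ⟨θA⟩ := hdA
    obtain ⟨θC⟩ := hdC
    obtain ⟨Φ, π, hπ, hker⟩ := ker_setup φ J hJ (R₁ ⊗[R] R₂) θA
    obtain ⟨g, hg, N, ⟨ζ⟩⟩ :=
      nearKer' q.asIdeal Φ θC ((R₁ ⊗[R] R₂) ⊗[R] (A ⧸ J)) π hπ hker
    exact ⟨g, hg, M ⧸ N, inferInstance,
      ⟨(kapB R (A ⧸ J) (R₁ ⊗[R] R₂) (Localization.Away g)).symm.trans ζ⟩⟩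

end Main

end Groth.Agent.Lib.MultKer2H1
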