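import Mathlib
import Groth.Prelude.Def_SGA3b
import Groth.Agent.Lib.MultKer2_helper1

/-!
# The normalized invariant integral of a group of multiplicative type (helper1)

For a Hopf algebra `A` over `R` and an `R`-algebra `T`, a `T`-valued integral is an `R`-linear map
`ℓ : A → T` with `ℓ 1 = 1`, `Σ a₁ ⊗ ℓ a₂ = 1 ⊗ ℓ a` and `Σ ℓ a₁ ⊗ a₂ = ℓ a ⊗ 1`.  Such integrals are
unique, compatible with change of `T`, exist when `T ⊗ A` is a group algebra (coefficient of the
unit), glue over finite products and descend along faithfully flat maps.  Hence a Hopf algebra of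
multiplicative type has an `R`-valued normalized invariant integral (`exists_integral`).
APPEND-ONLY once landed.
-/

set_option backward.isDefEq.respectTransparency.types false
set_option autoImplicit false
set_option linter.unusedVariables false
set_option linter.unusedSectionVars false
set_option linter.style.longLine false
set_option maxHeartbeats 1600000

universe u

open TensorProduct Coalgebra

noncomputable section

namespace Groth.Agent.Lib.MultIntH1

open Groth.Agent.Lib.DiagBCH4 Groth.Agent.Lib.MultCovH1 SGA3b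

section Basic

variable {R : Type u} [CommRing R] {A : Type u} [CommRing A] [HopfAlgebra R A]

/-- `ℓ : A → T` is a normalized two-sided invariant `T`-valued integral. -/
structure IsInt (T : Type u) [CommRing T] [Algebra R T] (ℓ : A →ₗ[R] T) : Prop where
  one : ℓ 1 = 1
  left : ∀ a : A, LinearMap.lTensor A ℓ (comul (R := R) a) = (1 : A) ⊗ₜ[R] ℓ a
  right : ∀ a : A, LinearMap.rTensor A ℓ (comul (R := R) a) = ℓ a ⊗ₜ[R] (1 : A)

theorem IsInt.comp {T T' : Type u} [CommRing T] [CommRing T'] [Algebra R T] [Algebra R T']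
    {ℓ : A →ₗ[R] T} (h : IsInt T ℓ) (j : T →ₐ[R] T') : IsInt T' (j.toLinearMap ∘ₗ ℓ) := by
  refine ⟨?_, ?_, ?_⟩
  · rw [LinearMap.comp_apply, h.one, AlgHom.toLinearMap_apply, map_one]
  · intro a
    rw [LinearMap.lTensor_comp, LinearMap.comp_apply, h.left, LinearMap.lTensor_tmul,
      LinearMap.comp_apply]
  · intro a
    rw [LinearMap.rTensor_comp, LinearMap.comp_apply, h.right, LinearMap.rTensor_tmul,
      LinearMap.comp_apply]

theorem IsInt.unique {T : Type u} [CommRing T] [Algebra R T] {ℓ ℓ' : A →ₗ[R] T}
    (h : IsInt T ℓ) (h' : IsInt T ℓ') : ℓ = ℓ' := by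
  apply LinearMap.ext
  intro a
  have e1 : LinearMap.mul' R T (TensorProduct.map ℓ' ℓ (comul (R := R) a)) = ℓ a := by
    have hm : TensorProduct.map ℓ' ℓ = (LinearMap.rTensor T ℓ') ∘ₗ (LinearMap.lTensor A ℓ) := by
      apply TensorProduct.ext'
      intro x y
      rw [TensorProduct.map_tmul, LinearMap.comp_apply, LinearMap.lTensor_tmul,
        LinearMap.rTensor_tmul]
    rw [hm, LinearMap.comp_apply, h.left, LinearMap.rTensor_tmul, LinearMap.mul'_apply, h'.one,
      one_mul]
  have e2 : LinearMap.mul' R T (TensorProduct.map ℓ' ℓ (comul (R := R) a)) = ℓ' a := by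
    have hm : TensorProduct.map ℓ' ℓ = (LinearMap.lTensor T ℓ) ∘ₗ (LinearMap.rTensor A ℓ') := by
      apply TensorProduct.ext'
      intro x y
      rw [TensorProduct.map_tmul, LinearMap.comp_apply, LinearMap.rTensor_tmul,
        LinearMap.lTensor_tmul]
    rw [hm, LinearMap.comp_apply, h'.right, LinearMap.lTensor_tmul, LinearMap.mul'_apply, h.one,
      mul_one]
  rw [← e1, e2]

end Basic

section Mon

variable {T : Type u} [CommRing T] {M : Type u} [CommGroup M]

/-- coefficient of the unit element -/
def c1 : MonoidAlgebra T M →ₗ[T] T :=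
  (Finsupp.lapply (1 : M)) ∘ₗ (MonoidAlgebra.coeffLinearEquiv T).toLinearMap

theorem c1_apply (x : MonoidAlgebra T M) : c1 x = x.coeff 1 := rfl

open Classical in
theorem c1_single (m : M) (r : T) :
    c1 (MonoidAlgebra.single m r) = if m = 1 then r else 0 := by
  rw [c1_apply, MonoidAlgebra.coeff_single, Finsupp.single_apply]

theorem c1_isInt : IsInt (R := T) (A := MonoidAlgebra T M) T c1 := by
  classical
  refine ⟨?_, ?_, ?_⟩
  · rw [MonoidAlgebra.one_def, c1_single, if_pos rfl]
  · intro x
    induction x using MonoidAlgebra.induction_linear with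
    | zero => rw [map_zero, map_zero, map_zero, TensorProduct.tmul_zero]
    | add x y hx hy => rw [map_add, map_add, hx, hy, map_add, TensorProduct.tmul_add]
    | single k r =>
      rw [MonoidAlgebra.comul_single, CommSemiring.comul_apply, TensorProduct.map_tmul,
        MonoidAlgebra.lsingle_apply, MonoidAlgebra.lsingle_apply, LinearMap.lTensor_tmul,
        c1_single]
      by_cases hk : k = 1
      · subst hk
        rw [if_pos rfl, ← MonoidAlgebra.one_def]
      · rw [if_neg hk, TensorProduct.tmul_zero, TensorProduct.tmul_zero]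
  · intro x
    induction x using MonoidAlgebra.induction_linear with
    | zero => rw [map_zero, map_zero, map_zero, TensorProduct.zero_tmul]
    | add x y hx hy => rw [map_add, map_add, hx, hy, map_add, TensorProduct.add_tmul]
    | single k r =>
      rw [MonoidAlgebra.comul_single, CommSemiring.comul_apply, TensorProduct.map_tmul,
        MonoidAlgebra.lsingle_apply, MonoidAlgebra.lsingle_apply, LinearMap.rTensor_tmul,
        c1_single, c1_single]
      by_cases hk : k = 1
      · subst hk
        rw [if_pos rfl, if_pos rfl]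
        have e : MonoidAlgebra.single (1 : M) r = r • (1 : MonoidAlgebra T M) := by
          rw [MonoidAlgebra.one_def, MonoidAlgebra.smul_single, smul_eq_mul, mul_one]
        rw [e, ← TensorProduct.smul_tmul, smul_eq_mul, mul_one]
      · rw [if_neg hk, if_neg hk, TensorProduct.zero_tmul, TensorProduct.zero_tmul]

end Mon

section Exist

variable {R : Type u} [CommRing R] {A : Type u} [CommRing A] [HopfAlgebra R A]
variable {T : Type u} [CommRing T] [Algebra R T]

/-- `x ⊗ y ↦ (1 ⊗ x) ⊗_T (1 ⊗ y)` -/
def GG : A ⊗[R] A →ₗ[R] (T ⊗[R] A) ⊗[T] (T ⊗[R] A) :=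
  ((TensorProduct.AlgebraTensorModule.tensorTensorTensorComm R T R T T T A
    A).toLinearMap.restrictScalars R) ∘ₗ
    (TensorProduct.mk R (T ⊗[T] T) (A ⊗[R] A) ((1 : T) ⊗ₜ[T] (1 : T)))

theorem GG_tmul (x y : A) :
    GG (T := T) (x ⊗ₜ[R] y) = ((1 : T) ⊗ₜ[R] x) ⊗ₜ[T] ((1 : T) ⊗ₜ[R] y) := by
  show (TensorProduct.AlgebraTensorModule.tensorTensorTensorComm R T R T T T A A)
    (((1 : T) ⊗ₜ[T] (1 : T)) ⊗ₜ[R] (x ⊗ₜ[R] y)) = _
  rw [TensorProduct.AlgebraTensorModule.tensorTensorTensorComm_tmul]

theorem comul_one_tmul (a : A) :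
    comul (R := T) ((1 : T) ⊗ₜ[R] a) = GG (T := T) (comul (R := R) a) := by
  rw [TensorProduct.comul_tmul, CommSemiring.comul_apply]
  rfl

theorem IsInt.restrict {lam : (T ⊗[R] A) →ₗ[T] T}
    (h : IsInt (R := T) (A := T ⊗[R] A) T lam) :
    IsInt T ((lam.restrictScalars R) ∘ₗ (TensorProduct.mk R T A 1)) := by
  obtain ⟨ℓ, hℓ⟩ : ∃ ℓ : A →ₗ[R] T,
      ℓ = (lam.restrictScalars R) ∘ₗ (TensorProduct.mk R T A 1) := ⟨_, rfl⟩
  have hℓa : ∀ a, ℓ a = lam ((1 : T) ⊗ₜ[R] a) := by
    intro a
    rw [hℓ]
    rfl
  rw [← hℓ]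
  refine ⟨?_, ?_, ?_⟩
  · rw [hℓa, ← Algebra.TensorProduct.one_def, h.one]
  · intro a
    have key : ∀ u : A ⊗[R] A,
        TensorProduct.rid T (T ⊗[R] A) (LinearMap.lTensor (T ⊗[R] A) lam (GG (T := T) u)) =
          TensorProduct.comm R A T (LinearMap.lTensor A ℓ u) := by
      intro u
      induction u using TensorProduct.induction_on with
      | zero => simp only [map_zero]
      | add x y hx hy => simp only [map_add, hx, hy]
      | tmul x y =>
        rw [GG_tmul, LinearMap.lTensor_tmul, TensorProduct.rid_tmul, LinearMap.lTensor_tmul,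
          TensorProduct.comm_tmul, ← hℓa, TensorProduct.smul_tmul', smul_eq_mul, mul_one]
    apply (TensorProduct.comm R A T).injective
    rw [← key, ← comul_one_tmul, h.left, TensorProduct.rid_tmul, TensorProduct.comm_tmul,
      ← hℓa, Algebra.TensorProduct.one_def, TensorProduct.smul_tmul', smul_eq_mul, mul_one]
  · intro a
    have key : ∀ u : A ⊗[R] A,
        TensorProduct.lid T (T ⊗[R] A) (LinearMap.rTensor (T ⊗[R] A) lam (GG (T := T) u)) =
          LinearMap.rTensor A ℓ u := by
      intro u
      induction u using TensorProduct.induction_on with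
      | zero => simp only [map_zero]
      | add x y hx hy => simp only [map_add, hx, hy]
      | tmul x y =>
        rw [GG_tmul, LinearMap.rTensor_tmul, TensorProduct.lid_tmul, LinearMap.rTensor_tmul,
          ← hℓa, TensorProduct.smul_tmul', smul_eq_mul, mul_one]
    rw [← key, ← comul_one_tmul, h.right, TensorProduct.lid_tmul, ← hℓa,
      Algebra.TensorProduct.one_def, TensorProduct.smul_tmul', smul_eq_mul, mul_one]

theorem exists_of_equiv {M : Type u} [CommGroup M]
    (θ : (T ⊗[R] A) ≃ₐc[T] MonoidAlgebra T M) : ∃ ℓ : A →ₗ[R] T, IsInt T ℓ := by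
  obtain ⟨θl, hθc, hθl⟩ : ∃ θl : (T ⊗[R] A) →ₗ[T] MonoidAlgebra T M,
      (∀ b, TensorProduct.map θl θl (comul (R := T) b) = comul (R := T) (θ b)) ∧
        ∀ b, θl b = θ b :=
    ⟨_, CoalgHomClass.map_comp_comul_apply θ, fun b => rfl⟩
  obtain ⟨θs, hθs⟩ : ∃ θs : MonoidAlgebra T M →ₗ[T] (T ⊗[R] A), ∀ b, θs b = θ.symm b :=
    ⟨{ toFun := fun b => θ.symm b
       map_add' := fun x y => map_add θ.symm x y
       map_smul' := fun c x => map_smul θ.symm c x }, fun b => rfl⟩
  obtain ⟨lam, hlam⟩ : ∃ lam : (T ⊗[R] A) →ₗ[T] T, lam = c1 ∘ₗ θl := ⟨_, rfl⟩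
  have hlama : ∀ b, lam b = c1 (θ b) := by
    intro b
    rw [hlam, LinearMap.comp_apply, hθl]
  have hB : IsInt (R := T) (A := T ⊗[R] A) T lam := by
    refine ⟨?_, ?_, ?_⟩
    · rw [hlama, map_one, c1_isInt.one]
    · intro b
      have key : ∀ w : (T ⊗[R] A) ⊗[T] (T ⊗[R] A),
          LinearMap.lTensor (T ⊗[R] A) lam w =
            LinearMap.rTensor T θs (LinearMap.lTensor (MonoidAlgebra T M) c1
              (TensorProduct.map θl θl w)) := by
        intro w
        induction w using TensorProduct.induction_on with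
        | zero => simp only [map_zero]
        | add x y hx hy => simp only [map_add, hx, hy]
        | tmul x y =>
          rw [LinearMap.lTensor_tmul, TensorProduct.map_tmul, LinearMap.lTensor_tmul,
            LinearMap.rTensor_tmul, hθs, hθl, hθl, hlama, BialgEquiv.symm_apply_apply]
      rw [key, hθc, c1_isInt.left, LinearMap.rTensor_tmul, hθs, map_one, hlama]
    · intro b
      have key : ∀ w : (T ⊗[R] A) ⊗[T] (T ⊗[R] A),
          LinearMap.rTensor (T ⊗[R] A) lam w =
            LinearMap.lTensor T θs (LinearMap.rTensor (MonoidAlgebra T M) c1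
              (TensorProduct.map θl θl w)) := by
        intro w
        induction w using TensorProduct.induction_on with
        | zero => simp only [map_zero]
        | add x y hx hy => simp only [map_add, hx, hy]
        | tmul x y =>
          rw [LinearMap.rTensor_tmul, TensorProduct.map_tmul, LinearMap.rTensor_tmul,
            LinearMap.lTensor_tmul, hθs, hθl, hθl, hlama, BialgEquiv.symm_apply_apply]
      rw [key, hθc, c1_isInt.right, LinearMap.lTensor_tmul, hθs, map_one, hlama]
  exact ⟨_, hB.restrict⟩

end Exist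

section Pi

variable {R : Type u} [CommRing R] {A : Type u} [CommRing A] [HopfAlgebra R A]
variable {ι : Type u} [Fintype ι] [DecidableEq ι] (T : ι → Type u) [∀ j, CommRing (T j)]
  [∀ j, Algebra R (T j)]

theorem isInt_pi (ℓ : ∀ j, A →ₗ[R] T j) (h : ∀ j, IsInt (T j) (ℓ j)) :
    IsInt (∀ j, T j) (LinearMap.pi ℓ) := by
  refine ⟨?_, ?_, ?_⟩
  · funext j
    rw [LinearMap.pi_apply, (h j).one, Pi.one_apply]
  · intro a
    have key : ∀ (u : A ⊗[R] A) (j : ι),
        TensorProduct.piRight R R A T (LinearMap.lTensor A (LinearMap.pi ℓ) u) j =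
          LinearMap.lTensor A (ℓ j) u := by
      intro u j
      induction u using TensorProduct.induction_on with
      | zero => simp only [map_zero, Pi.zero_apply]
      | add x y hx hy => simp only [map_add, Pi.add_apply, hx, hy]
      | tmul x y =>
        rw [LinearMap.lTensor_tmul, TensorProduct.piRight_apply, TensorProduct.piRightHom_tmul,
          LinearMap.lTensor_tmul]
        rfl
    apply (TensorProduct.piRight R R A T).injective
    funext j
    rw [key, (h j).left, TensorProduct.piRight_apply, TensorProduct.piRightHom_tmul]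
    rfl
  · intro a
    have key : ∀ (u : A ⊗[R] A) (j : ι),
        TensorProduct.piLeft R A T (LinearMap.rTensor A (LinearMap.pi ℓ) u) j =
          LinearMap.rTensor A (ℓ j) u := by
      intro u j
      induction u using TensorProduct.induction_on with
      | zero => simp only [map_zero, Pi.zero_apply]
      | add x y hx hy => simp only [map_add, Pi.add_apply, hx, hy]
      | tmul x y =>
        simp [TensorProduct.piLeft]
    apply (TensorProduct.piLeft R A T).injective
    funext j
    rw [key, (h j).right]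
    simp [TensorProduct.piLeft]

end Pi

section Descent

variable {R : Type u} [CommRing R] {A : Type u} [CommRing A] [HopfAlgebra R A]
variable {T : Type u} [CommRing T] [Algebra R T]

/-- normalized left invariant `R`-valued integral -/
def HasInt (R : Type u) [CommRing R] (A : Type u) [CommRing A] [HopfAlgebra R A] : Prop :=
  ∃ I0 : A →ₗ[R] R, I0 1 = 1 ∧
    ∀ a, LinearMap.lTensor A I0 (comul (R := R) a) = (1 : A) ⊗ₜ[R] I0 a

theorem descend [Module.FaithfullyFlat R T] {ℓ : A →ₗ[R] T} (h : IsInt T ℓ) : HasInt R A := by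
  have h12 := (h.comp (Algebra.TensorProduct.includeLeft : T →ₐ[R] T ⊗[R] T)).unique
    (h.comp (Algebra.TensorProduct.includeRight : T →ₐ[R] T ⊗[R] T))
  have hmem : ∀ a, ∃ r : R, algebraMap R T r = ℓ a := by
    intro a
    have heff := Algebra.IsEffective.of_faithfullyFlat R T
    have h0 : Algebra.TensorProduct.includeLeftSubRight R T (ℓ a) = 0 := by
      rw [Algebra.TensorProduct.includeLeftSubRight_apply, sub_eq_zero]
      exact LinearMap.congr_fun h12 a
    obtain ⟨r, hr⟩ := (heff (ℓ a)).mp h0
    exact ⟨r, hr⟩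
  choose f hf using hmem
  have hinj : Function.Injective (algebraMap R T) := FaithfulSMul.algebraMap_injective R T
  obtain ⟨I0, hI0⟩ : ∃ I0 : A →ₗ[R] R, ∀ a, I0 a = f a :=
    ⟨{ toFun := f
       map_add' := fun x y => by
         apply hinj
         rw [map_add, hf, hf, hf, map_add]
       map_smul' := fun c x => by
         apply hinj
         rw [hf, map_smul, RingHom.id_apply, smul_eq_mul, map_mul, hf, Algebra.smul_def] },
      fun a => rfl⟩
  have hI0' : ∀ a, algebraMap R T (I0 a) = ℓ a := fun a => by rw [hI0, hf]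
  have hcomp : (Algebra.linearMap R T) ∘ₗ I0 = ℓ := LinearMap.ext (fun a => hI0' a)
  refine ⟨I0, ?_, ?_⟩
  · apply hinj
    rw [hI0', h.one, map_one]
  · intro a
    have key : ∀ w : A ⊗[R] R, (1 : T) ⊗ₜ[R] (TensorProduct.rid R A w) =
        TensorProduct.comm R A T (LinearMap.lTensor A (Algebra.linearMap R T) w) := by
      intro w
      induction w using TensorProduct.induction_on with
      | zero => simp only [map_zero, TensorProduct.tmul_zero]
      | add x y hx hy => simp only [map_add, TensorProduct.tmul_add, hx, hy]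
      | tmul x r =>
        rw [TensorProduct.rid_tmul, LinearMap.lTensor_tmul, TensorProduct.comm_tmul,
          Algebra.linearMap_apply, Algebra.algebraMap_eq_smul_one, TensorProduct.smul_tmul]
    have e1 : LinearMap.lTensor A (Algebra.linearMap R T)
        (LinearMap.lTensor A I0 (comul (R := R) a)) = LinearMap.lTensor A ℓ (comul (R := R) a) := by
      rw [← LinearMap.comp_apply, ← LinearMap.lTensor_comp, hcomp]
    apply (TensorProduct.rid R A).injective
    apply Module.FaithfullyFlat.tensorProduct_mk_injective (A := R) (B := T) A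
    show (1 : T) ⊗ₜ[R] _ = (1 : T) ⊗ₜ[R] _
    rw [key, key, e1, h.left, LinearMap.lTensor_tmul, Algebra.linearMap_apply, hI0']

end Descent

section Assemble

variable {R : Type u} [CommRing R] {A : Type u} [CommRing A] [HopfAlgebra R A]

/-- a flat `R`-algebra with an integral with values in it -/
structure IPiece (R : Type u) [CommRing R] (A : Type u) [CommRing A] [HopfAlgebra R A] where
  T : Type u
  [cr : CommRing T]
  [alg : Algebra R T]
  flat : Module.Flat R T
  ℓ : A →ₗ[R] T
  isInt : IsInt T ℓ

attribute [instance] IPiece.cr IPiece.alg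

theorem piece_of_const (f : R)
    (h : IsMultTypeConst (Localization.Away f) (Localization.Away f ⊗[R] A)) :
    ∃ P : IPiece R A, ∀ p : PrimeSpectrum R, f ∉ p.asIdeal →
      p ∈ Set.range (PrimeSpectrum.comap (algebraMap R P.T)) := by
  obtain ⟨R', _, _, hff, hd⟩ := h
  letI : Algebra R R' :=
    ((algebraMap (Localization.Away f) R').comp (algebraMap R (Localization.Away f))).toAlgebra
  haveI : IsScalarTower R (Localization.Away f) R' :=
    IsScalarTower.of_algebraMap_eq (fun _ => rfl)
  haveI := hff
  obtain ⟨M, _, ⟨θ⟩⟩ := (isDiag_tower (R := R) (A := A) (S := Localization.Away f)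
    (T := R')).mp hd
  obtain ⟨ℓ, hℓ⟩ := exists_of_equiv θ
  have hflat : Module.Flat R R' := Module.Flat.trans R (Localization.Away f) R'
  exact ⟨⟨R', hflat, ℓ, hℓ⟩, fun p hp => Groth.Agent.Lib.MultKer2H1.exists_over f R' p hp⟩

/-- **A Hopf algebra of multiplicative type has a normalized invariant integral.** -/
theorem exists_integral (h : IsMultType R A) : HasInt R A := by
  classical
  obtain ⟨s, hs, hconst⟩ := h
  obtain ⟨s', hs's, hs'⟩ := (Ideal.span_eq_top_iff_finite s).mp hs
  have step : ∀ f : {x // x ∈ s'}, ∃ P : IPiece R A, ∀ p : PrimeSpectrum R,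
      (f : R) ∉ p.asIdeal → p ∈ Set.range (PrimeSpectrum.comap (algebraMap R P.T)) :=
    fun f => piece_of_const (f : R) (hconst f (hs's f.2))
  choose P hP using step
  haveI : Module.Flat R (∀ j, (P j).T) := flat_pi (fun j => (P j).T) (fun j => (P j).flat)
  haveI : Module.FaithfullyFlat R (∀ j, (P j).T) := by
    apply Module.FaithfullyFlat.of_comap_surjective
    intro p
    have hex : ∃ f ∈ s', f ∉ p.asIdeal := by
      by_contra hno
      have hsub : Ideal.span (s' : Set R) ≤ p.asIdeal := Ideal.span_le.mpr (fun g hg => by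
        by_contra hgm
        exact hno ⟨g, hg, hgm⟩)
      rw [hs'] at hsub
      exact p.isPrime.ne_top (top_le_iff.mp hsub)
    obtain ⟨f, hfs, hfp⟩ := hex
    obtain ⟨q, hq⟩ := hP ⟨f, hfs⟩ p hfp
    refine ⟨PrimeSpectrum.comap (Pi.evalRingHom (fun j => (P j).T) ⟨f, hfs⟩) q, ?_⟩
    rw [comap_eval]
    exact hq
  exact descend (isInt_pi (fun j => (P j).T) (fun j => (P j).ℓ) (fun j => (P j).isInt))

end Assemble

end Groth.Agent.Lib.MultIntH1
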