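import Mathlib
import Groth.Prelude.Def_SGA3b
import Groth.Agent.Lib.MultInt1_helper1
import Groth.Agent.Lib.HochStep1_helper1

/-!
# Lifting homomorphisms from a group of multiplicative type to a smooth affine group across a
nilpotent ideal (helper1)

`main5239`: SGA3 IX 3.6 in Hopf-algebra form.  A bialgebra map `φ₀ : C/I → A/I` is lifted to an
algebra map `ψ₀ : C → A` by formal smoothness; it is comultiplicative modulo `I`; the averaging step
of `HochStep1_helper1` improves it to a map comultiplicative modulo `I ^ 2 ^ k` for all `k`, hence to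
a comultiplicative algebra map, which is then automatically counital.
APPEND-ONLY once landed.
-/

set_option backward.isDefEq.respectTransparency.types false
set_option autoImplicit false
set_option linter.unusedVariables false
set_option linter.unusedSectionVars false
set_option linter.style.longLine false
set_option maxHeartbeats 1600000

universe u

open TensorProduct Coalgebra WithConv

noncomputable section

namespace Groth.Agent.Lib.HochLiftH1

open Groth.Agent.Lib.HochConvH1 Groth.Agent.Lib.HochStepH1 Groth.Agent.Lib.MultIntH1 SGA3b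

section Quot

variable {R : Type u} [CommRing R] (I : Ideal R) {M : Type u} [AddCommGroup M] [Module R M]

theorem mem_of_one_tmul_eq_zero (m : M) (h : (1 : R ⧸ I) ⊗ₜ[R] m = 0) :
    m ∈ I • (⊤ : Submodule R M) := by
  have h2 := TensorProduct.quotTensorEquivQuotSMul_mk_tmul I (1 : R) m
  rw [map_one, h, map_zero, one_smul] at h2
  exact (Submodule.Quotient.mk_eq_zero _).mp h2.symm

theorem one_tmul_eq_zero_of_mem (m : M) (h : m ∈ I • (⊤ : Submodule R M)) :
    (1 : R ⧸ I) ⊗ₜ[R] m = 0 := by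
  refine Submodule.smul_induction_on h (fun r hr x _ => ?_) (fun x y hx hy => ?_)
  · have e : r • (1 : R ⧸ I) = 0 := by
      rw [Algebra.smul_def, mul_one, Ideal.Quotient.algebraMap_eq]
      exact Ideal.Quotient.eq_zero_iff_mem.mpr hr
    rw [← TensorProduct.smul_tmul, e, TensorProduct.zero_tmul]
  · rw [TensorProduct.tmul_add, hx, hy, add_zero]

end Quot

section Iter

variable {R : Type u} [CommRing R] {A : Type u} [CommRing A] [HopfAlgebra R A]
  {C : Type u} [CommRing C] [HopfAlgebra R C] [Algebra.FormallySmooth R C]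

theorem iterate (I0 : A →ₗ[R] R) (h1 : I0 1 = 1)
    (hL : ∀ a : A, LinearMap.lTensor A I0 (comul (R := R) a) = (1 : A) ⊗ₜ[R] I0 a)
    (I : Ideal R) (hI : IsNilpotent I) (ψ₀ : C →ₐ[R] A) (H0 : HomMod I ψ₀) (k : ℕ) :
    ∃ ψ : C →ₐ[R] A, HomMod (I ^ (2 ^ k)) ψ ∧ ∀ c, ψ c - ψ₀ c ∈ I.map (algebraMap R A) := by
  induction k with
  | zero =>
    refine ⟨ψ₀, ?_, fun c => ?_⟩
    · rw [pow_zero, pow_one]
      exact H0
    · rw [sub_self]
      exact Ideal.zero_mem _
  | succ k ih =>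
    obtain ⟨ψ, hψ, hc⟩ := ih
    have hnil : IsNilpotent (I ^ (2 ^ k)) := by
      obtain ⟨n, hn⟩ := hI
      refine ⟨n, ?_⟩
      rw [← pow_mul, mul_comm, pow_mul, hn, zero_pow (by positivity)]
    obtain ⟨ψ', hψ', hc'⟩ := step I0 ψ h1 hL hnil hψ
    refine ⟨ψ', ?_, ?_⟩
    · have e : I ^ 2 ^ (k + 1) = I ^ 2 ^ k * I ^ 2 ^ k := by
        rw [← pow_add, pow_succ, mul_two]
      rw [e]
      exact hψ'
    · intro c
      have h3 : ψ' c - ψ c ∈ I.map (algebraMap R A) :=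
        Ideal.map_mono (Ideal.pow_le_self (by positivity)) (hc' c)
      have e : ψ' c - ψ₀ c = (ψ' c - ψ c) + (ψ c - ψ₀ c) := by ring
      rw [e]
      exact Ideal.add_mem _ h3 (hc c)

omit [Algebra.FormallySmooth R C] in
theorem counit_map_counit (a : A) :
    LinearMap.mul' R R (TensorProduct.map (counit (R := R)) (counit (R := R))
      (comul (R := R) a)) = counit (R := R) a := by
  have hm : TensorProduct.map (counit (R := R) (A := A)) (counit (R := R) (A := A)) =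
      (LinearMap.lTensor R (counit (R := R) (A := A))) ∘ₗ
        (LinearMap.rTensor A (counit (R := R) (A := A))) := by
    apply TensorProduct.ext'
    intro x y
    rw [TensorProduct.map_tmul, LinearMap.comp_apply, LinearMap.rTensor_tmul,
      LinearMap.lTensor_tmul]
  rw [hm, LinearMap.comp_apply, Coalgebra.rTensor_counit_comul, LinearMap.lTensor_tmul,
    LinearMap.mul'_apply, one_mul]

omit [Algebra.FormallySmooth R C] in
theorem counit_of_comul (ψ : C →ₐ[R] A)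
    (h : ∀ c, TensorProduct.map ψ.toLinearMap ψ.toLinearMap (comul (R := R) c) =
      comul (R := R) (ψ c)) (c : C) : counit (R := R) (ψ c) = counit (R := R) c := by
  obtain ⟨e, he⟩ : ∃ e : C →ₐ[R] R, e = (Bialgebra.counitAlgHom R A).comp ψ := ⟨_, rfl⟩
  have hea : ∀ c, e c = counit (R := R) (ψ c) := fun c => by rw [he]; rfl
  have hidem : L e * L e = L e := by
    apply WithConv.ext
    apply LinearMap.ext
    intro c
    show LinearMap.mul' R R (TensorProduct.map e.toLinearMap e.toLinearMap (comul (R := R) c)) =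
      e c
    have hm : TensorProduct.map e.toLinearMap e.toLinearMap =
        TensorProduct.map (counit (R := R) (A := A)) (counit (R := R) (A := A)) ∘ₗ
          TensorProduct.map ψ.toLinearMap ψ.toLinearMap := by
      apply TensorProduct.ext'
      intro x y
      rw [TensorProduct.map_tmul, LinearMap.comp_apply, TensorProduct.map_tmul,
        TensorProduct.map_tmul, AlgHom.toLinearMap_apply, AlgHom.toLinearMap_apply,
        AlgHom.toLinearMap_apply, AlgHom.toLinearMap_apply, hea, hea]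
    rw [hm, LinearMap.comp_apply, h, counit_map_counit, hea]
  have hone : L e = 1 := by
    calc L e = L e * (L e * Li e) := by rw [L_mul_Li, mul_one]
      _ = (L e * L e) * Li e := by rw [mul_assoc]
      _ = 1 := by rw [hidem, L_mul_Li]
  have h2 := congrArg (fun f : WithConv (C →ₗ[R] R) => f c) hone
  rw [← hea]
  exact h2

end Iter

section Main

variable {R : Type u} [CommRing R] (I : Ideal R) {A : Type u} [CommRing A] [HopfAlgebra R A]
  {C : Type u} [CommRing C] [HopfAlgebra R C]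

theorem includeRight_surjective :
    Function.Surjective (Algebra.TensorProduct.includeRight : A →ₐ[R] (R ⧸ I) ⊗[R] A) := by
  intro z
  induction z using TensorProduct.induction_on with
  | zero => exact ⟨0, map_zero _⟩
  | add x y hx hy =>
    obtain ⟨a, ha⟩ := hx
    obtain ⟨b, hb⟩ := hy
    exact ⟨a + b, by rw [map_add, ha, hb]⟩
  | tmul t a =>
    obtain ⟨r, rfl⟩ := Ideal.Quotient.mk_surjective t
    refine ⟨r • a, ?_⟩
    have e : Ideal.Quotient.mk I r = r • (1 : R ⧸ I) := by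
      rw [Algebra.smul_def, mul_one, Ideal.Quotient.algebraMap_eq]
    rw [Algebra.TensorProduct.includeRight_apply, e, TensorProduct.smul_tmul]

theorem ker_includeRight_nilpotent (hI : IsNilpotent I) :
    IsNilpotent (RingHom.ker
      ((Algebra.TensorProduct.includeRight : A →ₐ[R] (R ⧸ I) ⊗[R] A) : A →+* (R ⧸ I) ⊗[R] A)) := by
  obtain ⟨n, hn⟩ := hI
  refine ⟨n, ?_⟩
  have hle : RingHom.ker
      ((Algebra.TensorProduct.includeRight : A →ₐ[R] (R ⧸ I) ⊗[R] A) : A →+* (R ⧸ I) ⊗[R] A) ≤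
      I.map (algebraMap R A) := by
    intro a ha
    rw [RingHom.mem_ker] at ha
    have h2 : (1 : R ⧸ I) ⊗ₜ[R] a = 0 := ha
    have h3 := mem_of_one_tmul_eq_zero I a h2
    rw [Ideal.smul_top_eq_map] at h3
    exact h3
  have h4 := Ideal.pow_right_mono hle n
  rw [← Ideal.map_pow, hn] at h4
  rw [Ideal.zero_eq_bot] at h4 ⊢
  rw [Ideal.map_bot] at h4
  exact le_bot_iff.mp h4

theorem initial [Algebra.FormallySmooth R C] (hI : IsNilpotent I)
    (φ₀ : ((R ⧸ I) ⊗[R] C) →ₐc[R ⧸ I] ((R ⧸ I) ⊗[R] A)) :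
    ∃ ψ₀ : C →ₐ[R] A, ∀ c, (1 : R ⧸ I) ⊗ₜ[R] ψ₀ c = φ₀ ((1 : R ⧸ I) ⊗ₜ[R] c) := by
  obtain ⟨f, hf⟩ : ∃ f : C →ₐ[R] (R ⧸ I) ⊗[R] A, ∀ c, f c = φ₀ ((1 : R ⧸ I) ⊗ₜ[R] c) :=
    ⟨(AlgHom.restrictScalars R
      (φ₀ : ((R ⧸ I) ⊗[R] C) →ₐ[R ⧸ I] ((R ⧸ I) ⊗[R] A))).comp
      (Algebra.TensorProduct.includeRight : C →ₐ[R] (R ⧸ I) ⊗[R] C), fun c => rfl⟩
  refine ⟨Algebra.FormallySmooth.liftOfSurjective f
    (Algebra.TensorProduct.includeRight : A →ₐ[R] (R ⧸ I) ⊗[R] A)
    (includeRight_surjective I) (ker_includeRight_nilpotent I hI), ?_⟩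
  intro c
  have h := Algebra.FormallySmooth.liftOfSurjective_apply f
    (Algebra.TensorProduct.includeRight : A →ₐ[R] (R ⧸ I) ⊗[R] A)
    (includeRight_surjective I) (ker_includeRight_nilpotent I hI) c
  rw [hf] at h
  exact h

theorem GG_eq_zero (d : A ⊗[R] A) (h : GG (T := R ⧸ I) d = 0) :
    d ∈ I.map (algebraMap R (A ⊗[R] A)) := by
  have h1 : (TensorProduct.AlgebraTensorModule.tensorTensorTensorComm R (R ⧸ I) R (R ⧸ I) (R ⧸ I)
      (R ⧸ I) A A) ((((1 : R ⧸ I) ⊗ₜ[R ⧸ I] (1 : R ⧸ I))) ⊗ₜ[R] d) = 0 := h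
  have h2 : (((1 : R ⧸ I) ⊗ₜ[R ⧸ I] (1 : R ⧸ I))) ⊗ₜ[R] d =
      (0 : ((R ⧸ I) ⊗[R ⧸ I] (R ⧸ I)) ⊗[R] (A ⊗[R] A)) :=
    (LinearEquiv.map_eq_zero_iff _).mp h1
  have h3 := congrArg (LinearMap.rTensor (A ⊗[R] A)
    ((TensorProduct.lid (R ⧸ I) (R ⧸ I)).toLinearMap.restrictScalars R)) h2
  rw [LinearMap.rTensor_tmul, map_zero] at h3
  have h4 : (1 : R ⧸ I) ⊗ₜ[R] d = 0 := by
    rw [← h3]
    congr 1
    show (1 : R ⧸ I) = TensorProduct.lid (R ⧸ I) (R ⧸ I) ((1 : R ⧸ I) ⊗ₜ[R ⧸ I] (1 : R ⧸ I))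
    rw [TensorProduct.lid_tmul, smul_eq_mul, mul_one]
  have h5 := mem_of_one_tmul_eq_zero I d h4
  rw [Ideal.smul_top_eq_map] at h5
  exact h5

theorem homMod_initial (φ₀ : ((R ⧸ I) ⊗[R] C) →ₐc[R ⧸ I] ((R ⧸ I) ⊗[R] A)) (ψ₀ : C →ₐ[R] A)
    (hψ₀ : ∀ c, (1 : R ⧸ I) ⊗ₜ[R] ψ₀ c = φ₀ ((1 : R ⧸ I) ⊗ₜ[R] c)) : HomMod I ψ₀ := by
  intro c
  apply GG_eq_zero I
  obtain ⟨φl, hφc, hφl⟩ : ∃ φl : ((R ⧸ I) ⊗[R] C) →ₗ[R ⧸ I] ((R ⧸ I) ⊗[R] A),
      (∀ b, TensorProduct.map φl φl (comul (R := R ⧸ I) b) = comul (R := R ⧸ I) (φ₀ b)) ∧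
        ∀ b, φl b = φ₀ b :=
    ⟨_, CoalgHomClass.map_comp_comul_apply φ₀, fun b => rfl⟩
  have key : ∀ t : C ⊗[R] C,
      GG (T := R ⧸ I) (TensorProduct.map ψ₀.toLinearMap ψ₀.toLinearMap t) =
        TensorProduct.map φl φl (GG (T := R ⧸ I) t) := by
    intro t
    induction t using TensorProduct.induction_on with
    | zero => simp only [map_zero]
    | add x y hx hy => simp only [map_add, hx, hy]
    | tmul x y =>
      rw [TensorProduct.map_tmul, GG_tmul, GG_tmul, TensorProduct.map_tmul, hφl, hφl,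
        AlgHom.toLinearMap_apply, AlgHom.toLinearMap_apply, hψ₀, hψ₀]
  rw [map_sub, key, ← comul_one_tmul, hφc, ← hψ₀, comul_one_tmul, sub_self]

/-- **SGA3 IX 3.6, affine case.** -/
theorem main5239 (R : Type u) [CommRing R] (I : Ideal R) (hI : IsNilpotent I)
    (A : Type u) [CommRing A] [HopfAlgebra R A] (hH : IsMultType R A)
    (C : Type u) [CommRing C] [HopfAlgebra R C] [Algebra.Smooth R C]
    (φ₀ : ((R ⧸ I) ⊗[R] C) →ₐc[R ⧸ I] ((R ⧸ I) ⊗[R] A)) :
    ∃ φ : C →ₐc[R] A, ∀ c : C, φ₀ ((1 : R ⧸ I) ⊗ₜ[R] c) = (1 : R ⧸ I) ⊗ₜ[R] (φ c) := by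
  obtain ⟨I0, h1, hL⟩ := exists_integral hH
  obtain ⟨ψ₀, hψ₀⟩ := initial I hI φ₀
  have H0 : HomMod I ψ₀ := homMod_initial I φ₀ ψ₀ hψ₀
  obtain ⟨n, hn⟩ := hI
  obtain ⟨ψ, hψ, hc⟩ := iterate I0 h1 hL I ⟨n, hn⟩ ψ₀ H0 n
  have hbot : I ^ 2 ^ n = ⊥ := by
    have hle : I ^ 2 ^ n ≤ I ^ n := Ideal.pow_le_pow_right (Nat.lt_two_pow_self).le
    rw [hn, Ideal.zero_eq_bot] at hle
    exact le_bot_iff.mp hle
  rw [hbot] at hψ
  have hcomul : ∀ c, TensorProduct.map ψ.toLinearMap ψ.toLinearMap (comul (R := R) c) =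
      comul (R := R) (ψ c) := by
    intro c
    have h2 := hψ c
    rw [Ideal.map_bot, Ideal.mem_bot, sub_eq_zero] at h2
    exact h2
  have hcounit := counit_of_comul ψ hcomul
  have hmapeq : ∀ t : C ⊗[R] C, Algebra.TensorProduct.map ψ ψ t =
      TensorProduct.map ψ.toLinearMap ψ.toLinearMap t := fun t => rfl
  refine ⟨BialgHom.ofAlgHom ψ ?_ ?_, ?_⟩
  · apply AlgHom.ext
    intro c
    exact hcounit c
  · apply AlgHom.ext
    intro c
    show Algebra.TensorProduct.map ψ ψ (comul (R := R) c) = comul (R := R) (ψ c)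
    rw [hmapeq, hcomul]
  · intro c
    show φ₀ ((1 : R ⧸ I) ⊗ₜ[R] c) = (1 : R ⧸ I) ⊗ₜ[R] ψ c
    rw [← hψ₀]
    have h3 : (1 : R ⧸ I) ⊗ₜ[R] (ψ c - ψ₀ c) = 0 := by
      apply one_tmul_eq_zero_of_mem
      rw [Ideal.smul_top_eq_map]
      exact hc c
    rw [TensorProduct.tmul_sub, sub_eq_zero] at h3
    exact h3.symm

end Main

end Groth.Agent.Lib.HochLiftH1
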