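import Mathlib
import Groth.Prelude
import Groth.Agent.Lib.HocolimPerf2_helper3

/-!
# Pseudo-coherent complexes are homotopy colimits of perfect complexes (helper3; S7247, S1013)
-/

set_option autoImplicit false
set_option linter.all false
set_option maxHeartbeats 1600000
set_option backward.isDefEq.respectTransparency false
set_option backward.isDefEq.respectTransparency.types false
set_option backward.defeqAttrib.useBackward true

universe u

open CategoryTheory CategoryTheory.Limits AlgebraicGeometry TopologicalSpace Opposite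
open DerivedCategory CategoryTheory.Pretriangulated
open scoped ZeroObject

attribute [local instance] HasDerivedCategory.standard

namespace Groth.Agent.Lib.HocolimPerfH3

open Groth.Agent.Lib Groth.Agent.Lib.DCohLocLead Groth.Agent.Lib.PerfLocL
open Groth.Agent.Lib.HomVanL Groth.Agent.Lib.CompQL Groth.Agent.Lib.SerreHomL
open Groth.Agent.Lib.TTLiftL Groth.Agent.Lib.TTApxL Groth.Agent.Lib.TTSuppL
open Groth.Agent.Lib.TTGlueL Groth.Agent.Lib.ApxAffH3 Groth.Agent.Lib.ApxGlueH3

noncomputable section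

attribute [local instance] rpushI lpullI

/-- the "if" direction: no support condition, no homotopy colimit needed -/
theorem isPC_of_perfect_approx {X : Scheme.{u}} (K : DCoh.D X) (E : ℕ → DCoh.D X)
    (i : ∀ n, E n ⟶ K) (hE : ∀ n, DCoh.IsPerfect (E n))
    (hiso : ∀ n : ℕ, IsIso (((DerivedCategory.TStructure.t :
      CategoryTheory.Triangulated.TStructure (DCoh.D X)).truncGE (-(n : ℤ))).map (i n)))
    (m : ℤ) : DCoh.IsPseudoCoherentD m K := by
  obtain ⟨n, hn⟩ : ∃ n : ℕ, -(n : ℤ) ≤ m := ⟨(-m).toNat, by have := Int.self_le_toNat (-m); omega⟩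
  have hiso' : ∀ j : ℤ, -(n : ℤ) ≤ j → IsIso ((homologyFunctor X.Modules j).map (i n)) :=
    (isIso_truncGE_map_iff (i n) (-(n : ℤ))).1 (hiso n)
  obtain ⟨C, q, δ, hTri⟩ := distinguished_cocone_triangle (i n)
  have hCz := cone_vanish_of_approx (i n) q δ hTri (-(n : ℤ)) hiso'
  have hT' := inv_rot_of_distTriang _ hTri
  have h1 : DCoh.IsPseudoCoherentD (m + 1) (C⟦(-1 : ℤ)⟧) := by
    apply isPC_of_Lt
    intro j hj
    exact isZero_HD_shift C (-1) j (hCz (-1 + j) (by omega))
  exact isPC_obj₃ m _ hT' h1 (isPC_of_isPerfect (hE n) m)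

/-- **S7247** -/
theorem main7247 (X : Scheme.{u}) [CompactSpace X] [QuasiSeparatedSpace X]
    [HasColimitsOfShape (Discrete ℕ) (DCoh.D X)] (T : Set X) (hT : IsClosed T)
    (hTc : IsCompact Tᶜ) (K : DCoh.D X)
    (hK : ∀ i : ℤ, CohB1.support (DCoh.HD K i) ⊆ T) :
    (∀ m : ℤ, DCoh.IsPseudoCoherentD m K) ↔
    ∃ (E : ℕ → DCoh.D X) (f : ∀ n, E n ⟶ E (n + 1)) (i : ∀ n, E n ⟶ K),
      (∀ n, DCoh.IsPerfect (E n)) ∧
      (∀ (n : ℕ) (j : ℤ), CohB1.support (DCoh.HD (E n) j) ⊆ T) ∧
      DerLim.IsHocolim E f K i ∧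
      ∀ n : ℕ, IsIso (((DerivedCategory.TStructure.t :
        CategoryTheory.Triangulated.TStructure (DCoh.D X)).truncGE (-(n : ℤ))).map (i n)) := by
  constructor
  · intro hpc
    obtain ⟨Tc, hTcdef⟩ : ∃ Tc : X.Opens, (Tc : Set X) = Tᶜ := ⟨⟨Tᶜ, hT.isOpen_compl⟩, rfl⟩
    have hmemTc : ∀ x : X, x ∈ Tc ↔ x ∉ T := by
      intro x
      have : x ∈ (Tc : Set X) ↔ x ∈ Tᶜ := by rw [hTcdef]
      exact this
    have hKz : IsZero ((DD Tc.ι).obj K) :=
      isZero_DD_of_support_subset Tc T (fun x hx => (hmemTc x).1 hx) K hK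
    have hyp := exists_over X T hT hTc Tc hTcdef K hpc hKz
    obtain ⟨E, f, i, hE, hEz, hfi, hiso⟩ := exists_seq hyp
    haveI := hasExactN X
    haveI : ∀ j : ℤ, PreservesColimitsOfShape (Discrete ℕ) (homologyFunctor X.Modules j) :=
      fun j => preservesCoprodN X j
    refine ⟨E, f, i, hE, ?_, ?_, ?_⟩
    · intro n j
      apply support_subset_of_isZero
      intro x hx
      exact ⟨Tc, (hmemTc x).2 hx, hEz n⟩
    · apply isHocolim_of_eventually_iso E f K i hfi
      intro j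
      refine ⟨(-j).toNat, fun n hn => hiso n j ?_⟩
      have := Int.self_le_toNat (-j)
      omega
    · intro n
      exact (isIso_truncGE_map_iff (i n) (-(n : ℤ))).2 (hiso n)
  · rintro ⟨E, f, i, hE, -, -, hiso⟩ m
    exact isPC_of_perfect_approx K E i hE hiso m

/-- **S1013** -/
theorem main1013 (X : Scheme.{u}) [CompactSpace X] [QuasiSeparatedSpace X]
    [HasColimitsOfShape (Discrete ℕ) (DCoh.D X)] (K : DCoh.D X) :
    (∀ m : ℤ, DCoh.IsPseudoCoherentD m K) ↔
    ∃ (E : ℕ → DCoh.D X) (f : ∀ n, E n ⟶ E (n + 1)) (i : ∀ n, E n ⟶ K),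
      (∀ n, DCoh.IsPerfect (E n)) ∧ DerLim.IsHocolim E f K i ∧
      ∀ n : ℕ, IsIso (((DerivedCategory.TStructure.t :
        CategoryTheory.Triangulated.TStructure (DCoh.D X)).truncGE (-(n : ℤ))).map (i n)) := by
  have h := main7247 X Set.univ isClosed_univ (by rw [Set.compl_univ]; exact isCompact_empty) K
    (fun _ => Set.subset_univ _)
  rw [h]
  constructor
  · rintro ⟨E, f, i, hE, -, hh, hiso⟩
    exact ⟨E, f, i, hE, hh, hiso⟩
  · rintro ⟨E, f, i, hE, hh, hiso⟩
    exact ⟨E, f, i, hE, fun _ _ => Set.subset_univ _, hh, hiso⟩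

end

end Groth.Agent.Lib.HocolimPerfH3
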