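import Mathlib
import Groth.Prelude.Def_DerLim

/-!
# Homotopy colimit of a subsequence (helper9)
-/

open CategoryTheory CategoryTheory.Limits CategoryTheory.Pretriangulated

namespace Groth.Agent.Lib.HocolimSub

universe v u

section prelim

variable {D : Type u} [Category.{v} D] [Preadditive D] (F : ℕ ⥤ D)

/-- transition maps of the sequence -/
def tr {m l : ℕ} (h : m ≤ l) : F.obj m ⟶ F.obj l := F.map (homOfLE h)

lemma tr_refl (m : ℕ) (h : m ≤ m) : tr F h = 𝟙 _ := by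
  unfold tr
  rw [show homOfLE h = 𝟙 m from Subsingleton.elim _ _, F.map_id]

@[reassoc]
lemma tr_comp {a b c : ℕ} (h : a ≤ b) (h' : b ≤ c) :
    tr F h ≫ tr F h' = tr F (h.trans h') := by
  unfold tr
  rw [← F.map_comp]
  exact congrArg F.map (Subsingleton.elim _ _)

section sg

variable [HasCoproduct (fun m : ℕ => F.obj m)]

/-- the coproduct of all terms -/
noncomputable abbrev Sg : D := ∐ (fun m : ℕ => F.obj m)

/-- inclusions -/
noncomputable abbrev ιS (m : ℕ) : F.obj m ⟶ Sg F := Sigma.ι (fun m : ℕ => F.obj m) m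

/-- the shift map -/
noncomputable abbrev sh : Sg F ⟶ Sg F :=
  DerLim.shiftMap (fun m : ℕ => F.obj m) (fun m : ℕ => F.map (homOfLE (Nat.le_succ m)))

@[reassoc]
lemma ι_sh (m : ℕ) : ιS F m ≫ sh F = tr F (Nat.le_succ m) ≫ ιS F (m + 1) := by
  simp [sh, ιS, DerLim.shiftMap, tr]

/-- partial telescopes -/
noncomputable def B : ∀ (_ : ℕ) (m : ℕ), F.obj m ⟶ Sg F
  | 0, _ => 0
  | d + 1, m => ιS F m + tr F (Nat.le_succ m) ≫ B d (m + 1)

lemma B_zero (m : ℕ) : B F 0 m = 0 := rfl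

lemma B_succ (d m : ℕ) :
    B F (d + 1) m = ιS F m + tr F (Nat.le_succ m) ≫ B F d (m + 1) := rfl

lemma B_one_sub (d m N : ℕ) (h : m + d = N) :
    B F d m ≫ (𝟙 _ - sh F) = ιS F m - tr F (by omega : m ≤ N) ≫ ιS F N := by
  induction d generalizing m with
  | zero =>
    obtain rfl : m = N := by omega
    rw [B_zero, zero_comp, tr_refl, Category.id_comp, sub_self]
  | succ d ih =>
    rw [B_succ, Preadditive.add_comp, Category.assoc, ih (m + 1) (by omega),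
      Preadditive.comp_sub, Preadditive.comp_sub, Category.comp_id, ι_sh, tr_comp_assoc]
    abel

variable (n : ℕ → ℕ) (hn : StrictMono n)

section jj

include hn

lemma ex_le (m : ℕ) : ∃ j, m ≤ n j := ⟨m, hn.le_apply⟩

/-- the least index of the subsequence above `m` -/
def jj (m : ℕ) : ℕ := Nat.find (ex_le n hn m)

lemma le_jj (m : ℕ) : m ≤ n (jj n hn m) := Nat.find_spec (ex_le n hn m)

lemma jj_min (m j : ℕ) (h : m ≤ n j) : jj n hn m ≤ j := Nat.find_min' (ex_le n hn m) h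

lemma jj_apply (i : ℕ) : jj n hn (n i) = i := by
  apply le_antisymm (jj_min n hn _ _ le_rfl)
  exact hn.le_iff_le.1 (le_jj n hn (n i))

lemma jj_succ_of_lt (m : ℕ) (h : m < n (jj n hn m)) : jj n hn (m + 1) = jj n hn m := by
  apply le_antisymm
  · exact jj_min n hn _ _ h
  · exact jj_min n hn _ _ ((Nat.le_succ m).trans (le_jj n hn (m + 1)))

lemma jj_succ_apply (i : ℕ) : jj n hn (n i + 1) = i + 1 := by
  apply le_antisymm
  · exact jj_min n hn _ _ (hn (show i < i + 1 by omega))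
  · have h2 : n i < n (jj n hn (n i + 1)) := le_jj n hn (n i + 1)
    exact hn.lt_iff_lt.1 h2

end jj

variable [HasCoproduct (fun i : ℕ => F.obj (n i))]

/-- the coproduct of the subsequence -/
noncomputable abbrev Pg : D := ∐ (fun i : ℕ => F.obj (n i))

/-- inclusions -/
noncomputable abbrev ιP (i : ℕ) : F.obj (n i) ⟶ Pg F n := Sigma.ι (fun i : ℕ => F.obj (n i)) i

/-- shift map of the subsequence -/
noncomputable abbrev shP : Pg F n ⟶ Pg F n :=
  DerLim.shiftMap (fun i : ℕ => F.obj (n i))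
    (fun i : ℕ => F.map (homOfLE (hn.monotone (Nat.le_succ i))))

@[reassoc]
lemma ι_shP (i : ℕ) :
    ιP F n i ≫ shP F n hn = tr F (hn.monotone (Nat.le_succ i)) ≫ ιP F n (i + 1) := by
  simp [shP, ιP, DerLim.shiftMap, tr]

/-- the inclusion of the subsequence -/
noncomputable def amap : Pg F n ⟶ Sg F := Sigma.desc (fun i => ιS F (n i))

/-- the telescoped inclusion -/
noncomputable def bmap : Pg F n ⟶ Sg F := Sigma.desc (fun i => B F (n (i + 1) - n i) (n i))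

@[reassoc]
lemma ι_amap (i : ℕ) : ιP F n i ≫ amap F n = ιS F (n i) := by simp [amap, ιP]

@[reassoc]
lemma ι_bmap (i : ℕ) : ιP F n i ≫ bmap F n = B F (n (i + 1) - n i) (n i) := by
  simp [bmap, ιP]

lemma sq : (𝟙 _ - shP F n hn) ≫ amap F n = bmap F n ≫ (𝟙 _ - sh F) := by
  apply Sigma.hom_ext
  intro i
  have h1 : n i ≤ n (i + 1) := hn.monotone (Nat.le_succ i)
  have h2 := B_one_sub F (n (i + 1) - n i) (n i) (n (i + 1)) (by omega)
  rw [ι_bmap_assoc, h2, Preadditive.sub_comp, Preadditive.comp_sub, Category.id_comp, ι_amap,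
    ι_shP_assoc, ι_amap]

/-- components of the retraction -/
noncomputable def rr (m : ℕ) : F.obj m ⟶ Pg F n :=
  if n (jj n hn m) = m then tr F (le_jj n hn m) ≫ ιP F n (jj n hn m) else 0

lemma aux_ι (i k : ℕ) (hk : k = i) (h : n i ≤ n k) : tr F h ≫ ιP F n k = ιP F n i := by
  subst hk
  rw [tr_refl, Category.id_comp]

lemma rr_apply (i : ℕ) : rr F n hn (n i) = ιP F n i := by
  unfold rr
  rw [if_pos (show n (jj n hn (n i)) = n i by rw [jj_apply])]
  exact aux_ι F n i _ (jj_apply n hn i) _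

lemma rr_of_ne (m : ℕ) (h : n (jj n hn m) ≠ m) : rr F n hn m = 0 := if_neg h

/-- the retraction -/
noncomputable def rmap : Sg F ⟶ Pg F n := Sigma.desc (rr F n hn)

lemma B_rmap_zero (d m : ℕ) (h : ∀ l, m ≤ l → l < m + d → rr F n hn l = 0) :
    B F d m ≫ rmap F n hn = 0 := by
  induction d generalizing m with
  | zero => rw [B_zero, zero_comp]
  | succ d ih =>
    rw [B_succ, Preadditive.add_comp, Category.assoc,
      ih (m + 1) (fun l h1 h2 => h l (by omega) (by omega)), comp_zero, add_zero]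
    simp only [rmap, ιS, Sigma.ι_desc]
    exact h m le_rfl (by omega)

lemma b_r : bmap F n ≫ rmap F n hn = 𝟙 _ := by
  apply Sigma.hom_ext
  intro i
  obtain ⟨d', hd'⟩ := Nat.exists_eq_add_of_lt (hn (show i < i + 1 by omega))
  have hd : n (i + 1) - n i = d' + 1 := by omega
  rw [ι_bmap_assoc, hd, B_succ, Preadditive.add_comp, Category.assoc,
    B_rmap_zero F n hn d' (n i + 1) ?_, comp_zero, add_zero, Category.comp_id]
  · simp only [rmap, ιS, Sigma.ι_desc]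
    exact rr_apply F n hn i
  · intro l hl1 hl2
    apply rr_of_ne
    intro hcon
    have h3 : n i < n (jj n hn l) := by omega
    have h4 : n (jj n hn l) < n (i + 1) := by omega
    have h5 := hn.lt_iff_lt.1 h3
    have h6 := hn.lt_iff_lt.1 h4
    omega

include hn in
lemma lim_inj {V : D} (u : Sg F ⟶ V) (h1 : (𝟙 _ - sh F) ≫ u = 0) (h2 : amap F n ≫ u = 0) :
    u = 0 := by
  have hx : ∀ m, ιS F m ≫ u = tr F (Nat.le_succ m) ≫ ιS F (m + 1) ≫ u := by
    intro m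
    have := congrArg (fun t => ιS F m ≫ t) h1
    simp only [Preadditive.sub_comp, Preadditive.comp_sub, Category.id_comp, comp_zero,
      ι_sh_assoc] at this
    exact sub_eq_zero.1 this
  have hx' : ∀ (m N : ℕ) (h : m ≤ N), ιS F m ≫ u = tr F h ≫ ιS F N ≫ u := by
    intro m N h
    induction N, h using Nat.le_induction with
    | base => rw [tr_refl, Category.id_comp]
    | succ N hmN ih => rw [ih, hx N, tr_comp_assoc]
  apply Sigma.hom_ext
  intro m
  have h3 : ιS F (n m) ≫ u = 0 := by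
    have := congrArg (fun t => ιP F n m ≫ t) h2
    simp only [ι_amap_assoc, comp_zero] at this
    exact this
  rw [comp_zero, hx' m (n m) hn.le_apply, h3, comp_zero]

lemma lim_surj {V : D} (u' : Pg F n ⟶ V) (h : (𝟙 _ - shP F n hn) ≫ u' = 0) :
    ∃ u : Sg F ⟶ V, (𝟙 _ - sh F) ≫ u = 0 ∧ amap F n ≫ u = u' := by
  have hx : ∀ i, ιP F n i ≫ u' =
      tr F (hn.monotone (Nat.le_succ i)) ≫ ιP F n (i + 1) ≫ u' := by
    intro i
    have := congrArg (fun t => ιP F n i ≫ t) h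
    simp only [Preadditive.sub_comp, Preadditive.comp_sub, Category.id_comp, comp_zero,
      ι_shP_assoc] at this
    exact sub_eq_zero.1 this
  have hx' : ∀ (i j : ℕ) (hij : i ≤ j),
      ιP F n i ≫ u' = tr F (hn.monotone hij) ≫ ιP F n j ≫ u' := by
    intro i j hij
    induction j, hij using Nat.le_induction with
    | base => rw [tr_refl, Category.id_comp]
    | succ j hij ih => rw [ih, hx j, tr_comp_assoc]
  refine ⟨Sigma.desc (fun m => tr F (hn.le_apply : m ≤ n m) ≫ ιP F n m ≫ u'), ?_, ?_⟩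
  · apply Sigma.hom_ext
    intro m
    rw [comp_zero, Preadditive.sub_comp, Preadditive.comp_sub, Category.id_comp, ι_sh_assoc]
    simp only [ιS, Sigma.ι_desc]
    rw [hx m, tr_comp_assoc, tr_comp_assoc, sub_self]
  · apply Sigma.hom_ext
    intro i
    rw [ι_amap_assoc]
    simp only [ιS, Sigma.ι_desc]
    exact (hx' i (n i) hn.le_apply).symm

/-- the candidate solution -/
noncomputable def zz {V : D} (y : Sg F ⟶ V) (y' : Pg F n ⟶ V) (m : ℕ) : F.obj m ⟶ V :=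
  B F (n (jj n hn m) - m) m ≫ y + tr F (le_jj n hn m) ≫ ιP F n (jj n hn m) ≫ y'

lemma zz_eq {V : D} (y : Sg F ⟶ V) (y' : Pg F n ⟶ V) (m j : ℕ) (hj : jj n hn m = j)
    (h : m ≤ n j) :
    zz F n hn y y' m = B F (n j - m) m ≫ y + tr F h ≫ ιP F n j ≫ y' := by
  subst hj
  rfl

lemma coker_inj {V : D} (y : Sg F ⟶ V) (y' : Pg F n ⟶ V)
    (h : bmap F n ≫ y = (𝟙 _ - shP F n hn) ≫ y') :
    ∃ z : Sg F ⟶ V, y = (𝟙 _ - sh F) ≫ z := by
  have hi : ∀ i, B F (n (i + 1) - n i) (n i) ≫ y =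
      ιP F n i ≫ y' - tr F (hn.monotone (Nat.le_succ i)) ≫ ιP F n (i + 1) ≫ y' := by
    intro i
    have := congrArg (fun t => ιP F n i ≫ t) h
    simp only [ι_bmap_assoc, Preadditive.sub_comp, Preadditive.comp_sub, Category.id_comp,
      ι_shP_assoc] at this
    exact this
  refine ⟨Sigma.desc (zz F n hn y y'), ?_⟩
  apply Sigma.hom_ext
  intro m
  rw [Preadditive.sub_comp, Preadditive.comp_sub, Category.id_comp, ι_sh_assoc]
  simp only [ιS, Sigma.ι_desc]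
  by_cases hm : n (jj n hn m) = m
  · obtain ⟨i, rfl⟩ : ∃ i, m = n i := ⟨_, hm.symm⟩
    obtain ⟨d', hd'⟩ := Nat.exists_eq_add_of_lt (hn (show i < i + 1 by omega))
    have e1 : n (i + 1) - n i = d' + 1 := by omega
    have e2 : n (i + 1) - (n i + 1) = d' := by omega
    have e3 : n i - n i = 0 := by omega
    rw [zz_eq F n hn y y' (n i) i (jj_apply n hn i) le_rfl,
      zz_eq F n hn y y' (n i + 1) (i + 1) (jj_succ_apply n hn i)
        (Nat.succ_le_of_lt (hn (show i < i + 1 by omega))),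
      e2, e3, B_zero, zero_comp, zero_add, tr_refl, Category.id_comp]
    have key := hi i
    rw [e1, B_succ, Preadditive.add_comp, Category.assoc] at key
    rw [Preadditive.comp_add, tr_comp_assoc, eq_sub_of_add_eq key]
    abel
  · have hlt : m < n (jj n hn m) := lt_of_le_of_ne (le_jj n hn m) (Ne.symm hm)
    obtain ⟨d, hd⟩ := Nat.exists_eq_add_of_lt hlt
    have e1 : n (jj n hn m) - m = d + 1 := by omega
    have e2 : n (jj n hn m) - (m + 1) = d := by omega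
    rw [zz_eq F n hn y y' m (jj n hn m) rfl (le_jj n hn m),
      zz_eq F n hn y y' (m + 1) (jj n hn m) (jj_succ_of_lt n hn m hlt) (Nat.succ_le_of_lt hlt),
      e1, e2, B_succ, Preadditive.add_comp, Category.assoc, Preadditive.comp_add, tr_comp_assoc]
    abel

end sg

end prelim

section main

variable {D : Type u} [Category.{v} D] [Preadditive D] [HasZeroObject D] [HasShift D ℤ]
  [∀ n : ℤ, (shiftFunctor D n).Additive] [Pretriangulated D]

lemma isIso_of_bij {X Y : D} (φ : X ⟶ Y)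
    (h : ∀ V : D, Function.Bijective (fun x : Y ⟶ V⟦(1 : ℤ)⟧ => φ ≫ x)) : IsIso φ := by
  let eX : X ≅ (X⟦(-1 : ℤ)⟧)⟦(1 : ℤ)⟧ :=
    (shiftFunctorCompIsoId D (-1 : ℤ) 1 (by norm_num)).symm.app X
  let eY : Y ≅ (Y⟦(-1 : ℤ)⟧)⟦(1 : ℤ)⟧ :=
    (shiftFunctorCompIsoId D (-1 : ℤ) 1 (by norm_num)).symm.app Y
  obtain ⟨ψ, hψ⟩ := (h _).2 eX.hom
  have hψ' : φ ≫ ψ = eX.hom := hψ
  have h1 : φ ≫ (ψ ≫ eX.inv) = 𝟙 X := by
    rw [← Category.assoc, hψ', Iso.hom_inv_id]
  have h3 : ((ψ ≫ eX.inv) ≫ φ) ≫ eY.hom = eY.hom := by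
    apply (h _).1
    show φ ≫ ((ψ ≫ eX.inv) ≫ φ) ≫ eY.hom = φ ≫ eY.hom
    calc φ ≫ ((ψ ≫ eX.inv) ≫ φ) ≫ eY.hom
        = (φ ≫ (ψ ≫ eX.inv)) ≫ φ ≫ eY.hom := by simp only [Category.assoc]
      _ = φ ≫ eY.hom := by rw [h1, Category.id_comp]
  have h2 : (ψ ≫ eX.inv) ≫ φ = 𝟙 Y := by
    rw [← cancel_mono eY.hom, h3, Category.id_comp]
  exact ⟨⟨ψ ≫ eX.inv, h1, h2⟩⟩

theorem main (F : ℕ ⥤ D) (n : ℕ → ℕ) (hn : StrictMono n)
    [HasCoproduct (fun m : ℕ => F.obj m)] [HasCoproduct (fun i : ℕ => F.obj (n i))]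
    (L : D) (ι : ∀ m : ℕ, F.obj m ⟶ L)
    (hL : DerLim.IsHocolim (fun m : ℕ => F.obj m)
      (fun m : ℕ => F.map (homOfLE (Nat.le_succ m))) L ι)
    (L' : D) (ι' : ∀ i : ℕ, F.obj (n i) ⟶ L')
    (hL' : DerLim.IsHocolim (fun i : ℕ => F.obj (n i))
      (fun i : ℕ => F.map (homOfLE (hn.monotone (Nat.le_succ i)))) L' ι') :
    ∃ e : L' ≅ L, ∀ i : ℕ, ι' i ≫ e.hom = ι (n i) := by
  obtain ⟨c, hT⟩ := hL
  obtain ⟨c', hT'⟩ := hL'
  obtain ⟨φ, hφ1, hφ2⟩ : ∃ φ : L' ⟶ L, Sigma.desc ι' ≫ φ = amap F n ≫ Sigma.desc ι ∧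
      c' ≫ (bmap F n)⟦(1 : ℤ)⟧' = φ ≫ c :=
    complete_distinguished_triangle_morphism _ _ hT' hT (bmap F n) (amap F n) (sq F n hn)
  have h12 : (𝟙 _ - sh F) ≫ Sigma.desc ι = 0 := comp_distTriang_mor_zero₁₂ _ hT
  have h12' : (𝟙 _ - shP F n hn) ≫ Sigma.desc ι' = 0 := comp_distTriang_mor_zero₁₂ _ hT'
  have h31 : c ≫ (𝟙 _ - sh F)⟦(1 : ℤ)⟧' = 0 := comp_distTriang_mor_zero₃₁ _ hT
  have hiso : IsIso φ := by
    apply isIso_of_bij
    intro V
    constructor
    · intro x₁ x₂ hx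
      have hx' : φ ≫ x₁ = φ ≫ x₂ := hx
      rw [← sub_eq_zero]
      have hx0 : φ ≫ (x₁ - x₂) = 0 := by rw [Preadditive.comp_sub, hx', sub_self]
      generalize x₁ - x₂ = x at hx0 ⊢
      have hu : Sigma.desc ι ≫ x = 0 := by
        apply lim_inj F n hn
        · rw [← Category.assoc, h12, zero_comp]
        · rw [← Category.assoc, ← hφ1, Category.assoc, hx0, comp_zero]
      obtain ⟨y, hy⟩ : ∃ y : (Sg F)⟦(1 : ℤ)⟧ ⟶ V⟦(1 : ℤ)⟧, x = c ≫ y :=
        Triangle.yoneda_exact₃ _ hT x hu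
      obtain ⟨yt, rfl⟩ := (shiftFunctor D (1 : ℤ)).map_surjective y
      have h4 : c' ≫ (bmap F n ≫ yt)⟦(1 : ℤ)⟧' = 0 := by
        rw [Functor.map_comp, ← Category.assoc, hφ2, Category.assoc, ← hy, hx0]
      obtain ⟨g, hg⟩ : ∃ g : (Pg F n)⟦(1 : ℤ)⟧ ⟶ V⟦(1 : ℤ)⟧,
          (bmap F n ≫ yt)⟦(1 : ℤ)⟧' = (-(𝟙 _ - shP F n hn)⟦(1 : ℤ)⟧') ≫ g :=
        Triangle.yoneda_exact₃ _ (rot_of_distTriang _ hT') ((bmap F n ≫ yt)⟦(1 : ℤ)⟧') h4
      obtain ⟨gt, rfl⟩ := (shiftFunctor D (1 : ℤ)).map_surjective g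
      have h5 : bmap F n ≫ yt = (𝟙 _ - shP F n hn) ≫ (-gt) := by
        apply (shiftFunctor D (1 : ℤ)).map_injective
        rw [hg]
        simp only [Functor.map_comp, Functor.map_neg, Preadditive.neg_comp,
          Preadditive.comp_neg]
      obtain ⟨z, rfl⟩ := coker_inj F n hn yt (-gt) h5
      rw [hy, Functor.map_comp, ← Category.assoc, h31, zero_comp]
    · intro x'
      have hu' : (𝟙 _ - shP F n hn) ≫ Sigma.desc ι' ≫ x' = 0 := by
        rw [← Category.assoc, h12', zero_comp]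
      obtain ⟨u, hu1, hu2⟩ := lim_surj F n hn (Sigma.desc ι' ≫ x') hu'
      obtain ⟨x₀, hx₀⟩ : ∃ x₀ : L ⟶ V⟦(1 : ℤ)⟧, u = Sigma.desc ι ≫ x₀ :=
        Triangle.yoneda_exact₂ _ hT u hu1
      have h6 : Sigma.desc ι' ≫ (x' - φ ≫ x₀) = 0 := by
        rw [Preadditive.comp_sub, ← Category.assoc _ φ, hφ1, Category.assoc, ← hx₀, hu2,
          sub_self]
      obtain ⟨y', hy'⟩ : ∃ y' : (Pg F n)⟦(1 : ℤ)⟧ ⟶ V⟦(1 : ℤ)⟧, x' - φ ≫ x₀ = c' ≫ y' :=
        Triangle.yoneda_exact₃ _ hT' (x' - φ ≫ x₀) h6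
      refine ⟨x₀ + c ≫ (rmap F n hn)⟦(1 : ℤ)⟧' ≫ y', ?_⟩
      show φ ≫ (x₀ + c ≫ (rmap F n hn)⟦(1 : ℤ)⟧' ≫ y') = x'
      rw [Preadditive.comp_add, ← Category.assoc φ c, ← hφ2, Category.assoc,
        ← Functor.map_comp_assoc, b_r, CategoryTheory.Functor.map_id, Category.id_comp, ← hy']
      abel
  haveI := hiso
  refine ⟨asIso φ, fun i => ?_⟩
  have := congrArg (fun t => ιP F n i ≫ t) hφ1
  simp only [ι_amap_assoc] at this
  simpa [ιP, ιS] using this

end main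

end Groth.Agent.Lib.HocolimSub
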