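import Mathlib

/-!
# Hodge series of complete intersections: coefficients of the hypersurface series

Helper library for S8732.  The series `H` with `(1 - P_a) H = N_a` in `ℤ[[y,z]]`:
recursion for its coefficients, nonnegativity, support, positivity.
-/

set_option autoImplicit false
set_option maxHeartbeats 1000000

open MvPowerSeries

namespace Groth.Agent.Lib.HodgeCIH1

noncomputable section

/-- the ring `ℤ[[y,z]]` -/
abbrev S2 := MvPowerSeries (Fin 2) ℤ

/-- exponent `(u,v)` -/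
def e2 (u v : ℕ) : Fin 2 →₀ ℕ := Finsupp.single 0 u + Finsupp.single 1 v

@[simp] lemma e2_zero (u v : ℕ) : e2 u v 0 = u := by simp [e2, Finsupp.single_apply]
@[simp] lemma e2_one (u v : ℕ) : e2 u v 1 = v := by simp [e2, Finsupp.single_apply]

lemma fin2_ext {μ ν : Fin 2 →₀ ℕ} (h0 : μ 0 = ν 0) (h1 : μ 1 = ν 1) : μ = ν := by
  ext i
  fin_cases i
  · exact h0
  · exact h1

lemma eq_e2 (ν : Fin 2 →₀ ℕ) : ν = e2 (ν 0) (ν 1) := fin2_ext (by simp) (by simp)

lemma e2_add (u v u' v' : ℕ) : e2 u v + e2 u' v' = e2 (u + u') (v + v') :=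
  fin2_ext (by simp) (by simp)

lemma e2_inj {u v u' v' : ℕ} (h : e2 u v = e2 u' v') : u = u' ∧ v = v' := by
  have h0 := DFunLike.congr_fun h 0
  have h1 := DFunLike.congr_fun h 1
  rw [e2_zero, e2_zero] at h0
  rw [e2_one, e2_one] at h1
  exact ⟨h0, h1⟩

lemma e2_zero_zero : e2 0 0 = 0 := fin2_ext (by simp) (by simp)

lemma add_apply0 {μ μ' ν : Fin 2 →₀ ℕ} (h : μ + μ' = ν) : ν 0 = μ 0 + μ' 0 := by
  rw [← h]; rfl

lemma add_apply1 {μ μ' ν : Fin 2 →₀ ℕ} (h : μ + μ' = ν) : ν 1 = μ 1 + μ' 1 := by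
  rw [← h]; rfl

lemma natCast_mul_XX (n u v : ℕ) :
    ((n : S2) * X 0 ^ u * X 1 ^ v) = monomial (e2 u v) (n : ℤ) := by
  have h : ((n : ℕ) : S2) = monomial (0 : Fin 2 →₀ ℕ) (n : ℤ) := by
    rw [monomial_zero_eq_C_apply, map_natCast]
  rw [h, X_pow_eq, X_pow_eq, monomial_mul_monomial, monomial_mul_monomial, mul_one, mul_one,
    zero_add]
  rfl

/-- coefficient extraction from a double sum of monomials -/
lemma coeff_dsum (b₁ b₂ : ℕ) (f : ℕ → ℕ → ℤ) (cond : ℕ → ℕ → Prop)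
    [∀ u v, Decidable (cond u v)] (u v : ℕ) (hbound : cond u v → u < b₁ ∧ v < b₂) :
    coeff (e2 u v) (∑ u' ∈ Finset.range b₁, ∑ v' ∈ Finset.range b₂,
      if cond u' v' then monomial (e2 u' v') (f u' v') else 0 : S2) =
      if cond u v then f u v else 0 := by
  classical
  simp only [map_sum]
  by_cases hc : cond u v
  · obtain ⟨hu, hv⟩ := hbound hc
    rw [if_pos hc, Finset.sum_eq_single u, Finset.sum_eq_single v]
    · rw [if_pos hc, coeff_monomial_same]
    · intro v' _ hv'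
      split_ifs
      · rw [coeff_monomial_ne]
        intro h
        exact hv' (e2_inj h).2.symm
      · exact map_zero _
    · intro h
      exact absurd (Finset.mem_range.2 hv) h
    · intro u' _ hu'
      apply Finset.sum_eq_zero
      intro v' _
      split_ifs
      · rw [coeff_monomial_ne]
        intro h
        exact hu' (e2_inj h).1.symm
      · exact map_zero _
    · intro h
      exact absurd (Finset.mem_range.2 hu) h
  · rw [if_neg hc]
    apply Finset.sum_eq_zero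
    intro u' _
    apply Finset.sum_eq_zero
    intro v' _
    split_ifs with hc'
    · rw [coeff_monomial_ne]
      intro h
      obtain ⟨rfl, rfl⟩ := e2_inj h
      exact hc hc'
    · exact map_zero _

/-- the series `P_b = ∑_{u,v ≥ 1, u+v ≤ b} C(b,u+v) y^u z^v` -/
def Pser (b : ℕ) : S2 := ∑ u ∈ Finset.range (b + 1), ∑ v ∈ Finset.range (b + 1),
  if 1 ≤ u ∧ 1 ≤ v ∧ u + v ≤ b then (b.choose (u + v) : S2) * X 0 ^ u * X 1 ^ v else 0

/-- the series `N_b = ∑_{u+v+1 ≤ b-1} C(b-1,u+v+1) y^u z^v` -/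
def Nser (b : ℕ) : S2 := ∑ u ∈ Finset.range b, ∑ v ∈ Finset.range b,
  if u + v + 1 ≤ b - 1 then ((b - 1).choose (u + v + 1) : S2) * X 0 ^ u * X 1 ^ v else 0

lemma coeff_Pser (b u v : ℕ) : coeff (e2 u v) (Pser b) =
    if 1 ≤ u ∧ 1 ≤ v ∧ u + v ≤ b then (b.choose (u + v) : ℤ) else 0 := by
  rw [Pser]
  simp only [natCast_mul_XX]
  exact coeff_dsum (b + 1) (b + 1) (fun u v => (b.choose (u + v) : ℤ))
    (fun u v => 1 ≤ u ∧ 1 ≤ v ∧ u + v ≤ b) u v (fun h => by omega)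

lemma coeff_Nser (b u v : ℕ) : coeff (e2 u v) (Nser b) =
    if u + v + 1 ≤ b - 1 then ((b - 1).choose (u + v + 1) : ℤ) else 0 := by
  rw [Nser]
  simp only [natCast_mul_XX]
  exact coeff_dsum b b (fun u v => ((b - 1).choose (u + v + 1) : ℤ))
    (fun u v => u + v + 1 ≤ b - 1) u v (fun h => by omega)

lemma coeff_Pser' (b : ℕ) (ν : Fin 2 →₀ ℕ) : coeff ν (Pser b) =
    if 1 ≤ ν 0 ∧ 1 ≤ ν 1 ∧ ν 0 + ν 1 ≤ b then (b.choose (ν 0 + ν 1) : ℤ) else 0 := by
  have := coeff_Pser b (ν 0) (ν 1)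
  rwa [← eq_e2 ν] at this

lemma coeff_Nser' (b : ℕ) (ν : Fin 2 →₀ ℕ) : coeff ν (Nser b) =
    if ν 0 + ν 1 + 1 ≤ b - 1 then ((b - 1).choose (ν 0 + ν 1 + 1) : ℤ) else 0 := by
  have := coeff_Nser b (ν 0) (ν 1)
  rwa [← eq_e2 ν] at this

lemma coeff_Pser_nonneg (a : ℕ) (ν : Fin 2 →₀ ℕ) : 0 ≤ coeff ν (Pser a) := by
  rw [coeff_Pser']
  split_ifs
  · exact Int.natCast_nonneg _
  · exact le_rfl

lemma coeff_Nser_nonneg (a : ℕ) (ν : Fin 2 →₀ ℕ) : 0 ≤ coeff ν (Nser a) := by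
  rw [coeff_Nser']
  split_ifs
  · exact Int.natCast_nonneg _
  · exact le_rfl

lemma coeff_Pser_ne_zero {a : ℕ} {ν : Fin 2 →₀ ℕ} (h : coeff ν (Pser a) ≠ 0) :
    1 ≤ ν 0 ∧ 1 ≤ ν 1 ∧ ν 0 + ν 1 ≤ a := by
  rw [coeff_Pser'] at h
  by_contra hc
  exact h (if_neg hc)

lemma coeff_Nser_ne_zero {a : ℕ} {ν : Fin 2 →₀ ℕ} (h : coeff ν (Nser a) ≠ 0) :
    ν 0 + ν 1 + 1 ≤ a - 1 := by
  rw [coeff_Nser'] at h
  by_contra hc
  exact h (if_neg hc)

/-- the recursion for the coefficients of a solution of `(1 - P_a) H = N_a` -/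
lemma coeff_H_rec (a : ℕ) (H : S2) (hH : (1 - Pser a) * H = Nser a) (ν : Fin 2 →₀ ℕ) :
    coeff ν H = coeff ν (Nser a) +
      ∑ p ∈ Finset.HasAntidiagonal.antidiagonal ν, coeff p.1 (Pser a) * coeff p.2 H := by
  classical
  have h : H = Nser a + Pser a * H := by
    rw [← hH]
    ring
  conv_lhs => rw [h]
  rw [map_add, coeff_mul]

lemma coeff_H_nonneg (a : ℕ) (H : S2) (hH : (1 - Pser a) * H = Nser a) :
    ∀ ν, 0 ≤ coeff ν H := by
  suffices h : ∀ n, ∀ ν : Fin 2 →₀ ℕ, ν 0 + ν 1 = n → 0 ≤ coeff ν H from fun ν => h _ ν rfl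
  intro n
  induction n using Nat.strong_induction_on with
  | _ n ih =>
    intro ν hn
    rw [coeff_H_rec a H hH ν]
    apply add_nonneg (coeff_Nser_nonneg a ν)
    apply Finset.sum_nonneg
    intro p hp
    rw [Finset.HasAntidiagonal.mem_antidiagonal] at hp
    by_cases h0 : coeff p.1 (Pser a) = 0
    · rw [h0, zero_mul]
    · obtain ⟨h1, h2, _⟩ := coeff_Pser_ne_zero h0
      have e0 := add_apply0 hp
      have e1 := add_apply1 hp
      exact mul_nonneg (coeff_Pser_nonneg a p.1) (ih (p.2 0 + p.2 1) (by omega) p.2 rfl)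

/-- support of the hypersurface series -/
lemma coeff_H_supp (a : ℕ) (H : S2) (hH : (1 - Pser a) * H = Nser a) :
    ∀ ν : Fin 2 →₀ ℕ, coeff ν H ≠ 0 →
      ∃ j, j ≤ ν 0 ∧ j ≤ ν 1 ∧ ν 0 + ν 1 + 2 ≤ (j + 1) * a := by
  suffices h : ∀ n, ∀ ν : Fin 2 →₀ ℕ, ν 0 + ν 1 = n → coeff ν H ≠ 0 →
      ∃ j, j ≤ ν 0 ∧ j ≤ ν 1 ∧ ν 0 + ν 1 + 2 ≤ (j + 1) * a from fun ν => h _ ν rfl
  intro n
  induction n using Nat.strong_induction_on with
  | _ n ih =>
    intro ν hn hne
    rw [coeff_H_rec a H hH ν] at hne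
    by_cases hN : coeff ν (Nser a) = 0
    · rw [hN, zero_add] at hne
      obtain ⟨p, hp, hterm⟩ := Finset.exists_ne_zero_of_sum_ne_zero hne
      rw [Finset.HasAntidiagonal.mem_antidiagonal] at hp
      obtain ⟨h1, h2, h3⟩ := coeff_Pser_ne_zero (left_ne_zero_of_mul hterm)
      have e0 := add_apply0 hp
      have e1 := add_apply1 hp
      obtain ⟨j, hj0, hj1, hj⟩ := ih (p.2 0 + p.2 1) (by omega) p.2 rfl
        (right_ne_zero_of_mul hterm)
      refine ⟨j + 1, by omega, by omega, ?_⟩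
      have : (j + 1 + 1) * a = (j + 1) * a + a := by ring
      omega
    · have := coeff_Nser_ne_zero hN
      exact ⟨0, Nat.zero_le _, Nat.zero_le _, by omega⟩

/-- positivity of the hypersurface series on its support (the part with `p ≤ v`) -/
lemma coeff_H_pos (a : ℕ) (H : S2) (hH : (1 - Pser a) * H = Nser a) (ha : 2 ≤ a) :
    ∀ p v : ℕ, p ≤ v → p + v + 2 ≤ (p + 1) * a → 0 < coeff (e2 p v) H := by
  have hnn := coeff_H_nonneg a H hH
  have hsumnn : ∀ ν : Fin 2 →₀ ℕ, 0 ≤ ∑ p ∈ Finset.HasAntidiagonal.antidiagonal ν,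
      coeff p.1 (Pser a) * coeff p.2 H := fun ν =>
    Finset.sum_nonneg fun p _ => mul_nonneg (coeff_Pser_nonneg a p.1) (hnn p.2)
  intro p
  induction p with
  | zero =>
    intro v _ hv
    rw [coeff_H_rec a H hH]
    have h1 : 0 < coeff (e2 0 v) (Nser a) := by
      rw [coeff_Nser, if_pos (by omega)]
      exact_mod_cast Nat.choose_pos (by omega)
    have := hsumnn (e2 0 v)
    omega
  | succ p ih =>
    intro v hv hva
    have e : (p + 1 + 1) * a = (p + 1) * a + a := by ring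
    have e' : (p + 1) * 2 ≤ (p + 1) * a := Nat.mul_le_mul_left _ ha
    obtain ⟨v', hv'⟩ : ∃ v', v' = min (a - 1) (v - p) := ⟨_, rfl⟩
    have hv'1 : 1 ≤ v' := by omega
    have hv'2 : v' ≤ a - 1 := by omega
    have hv'3 : v' ≤ v - p := by omega
    have hih : 0 < coeff (e2 p (v - v')) H := by
      apply ih (v - v') (by omega)
      rcases min_choice (a - 1) (v - p) with h | h
      · rw [h] at hv'
        omega
      · rw [h] at hv'
        omega
    have hP : 0 < coeff (e2 1 v') (Pser a) := by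
      rw [coeff_Pser, if_pos (by omega)]
      exact_mod_cast Nat.choose_pos (by omega)
    rw [coeff_H_rec a H hH]
    have hmem : (e2 1 v', e2 p (v - v')) ∈
        Finset.HasAntidiagonal.antidiagonal (e2 (p + 1) v) := by
      rw [Finset.HasAntidiagonal.mem_antidiagonal, e2_add]
      congr 1 <;> omega
    have hle := Finset.single_le_sum
      (f := fun q : (Fin 2 →₀ ℕ) × (Fin 2 →₀ ℕ) => coeff q.1 (Pser a) * coeff q.2 H)
      (fun q _ => mul_nonneg (coeff_Pser_nonneg a q.1) (hnn q.2)) hmem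
    have hpos : 0 < coeff (e2 1 v') (Pser a) * coeff (e2 p (v - v')) H := mul_pos hP hih
    have hN := coeff_Nser_nonneg a (e2 (p + 1) v)
    have hle' : coeff (e2 1 v') (Pser a) * coeff (e2 p (v - v')) H ≤
        ∑ q ∈ Finset.HasAntidiagonal.antidiagonal (e2 (p + 1) v),
          coeff q.1 (Pser a) * coeff q.2 H := hle
    omega

end

end Groth.Agent.Lib.HodgeCIH1
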