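import Groth.Agent.Lib.HodgeCI1_helper1

/-!
# Hodge series of complete intersections: products and the nonvanishing criterion
-/

set_option autoImplicit false
set_option maxHeartbeats 1000000

open MvPowerSeries

namespace Groth.Agent.Lib.HodgeCIH1

noncomputable section

/-- nonnegative coefficients -/
def NN (G : S2) : Prop := ∀ ν, 0 ≤ coeff ν G

lemma NN.mul {G G' : S2} (h : NN G) (h' : NN G') : NN (G * G') := by
  classical
  intro ν
  rw [coeff_mul]
  exact Finset.sum_nonneg fun p _ => mul_nonneg (h _) (h' _)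

lemma NN_one : NN (1 : S2) := by
  classical
  intro ν
  rw [coeff_one]
  split_ifs <;> norm_num

lemma NN.pow {G : S2} (h : NN G) (n : ℕ) : NN (G ^ n) := by
  induction n with
  | zero => rw [pow_zero]; exact NN_one
  | succ n ih => rw [pow_succ]; exact ih.mul h

lemma NN.prod {ι : Type*} (S : Finset ι) (f : ι → S2) (h : ∀ i ∈ S, NN (f i)) :
    NN (∏ i ∈ S, f i) := by
  classical
  induction S using Finset.induction_on with
  | empty => rw [Finset.prod_empty]; exact NN_one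
  | insert i S hi ih =>
    rw [Finset.prod_insert hi]
    exact (h i (Finset.mem_insert_self i S)).mul
      (ih fun j hj => h j (Finset.mem_insert_of_mem hj))

lemma coeff_mul_pos {G G' : S2} (h : NN G) (h' : NN G') {μ ν : Fin 2 →₀ ℕ}
    (hμ : 0 < coeff μ G) (hν : 0 < coeff ν G') : 0 < coeff (μ + ν) (G * G') := by
  classical
  rw [coeff_mul]
  have hmem : (μ, ν) ∈ Finset.HasAntidiagonal.antidiagonal (μ + ν) := by
    rw [Finset.HasAntidiagonal.mem_antidiagonal]
  have := Finset.single_le_sum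
    (f := fun p : (Fin 2 →₀ ℕ) × (Fin 2 →₀ ℕ) => coeff p.1 G * coeff p.2 G')
    (fun p _ => mul_nonneg (h p.1) (h' p.2)) hmem
  exact lt_of_lt_of_le (mul_pos hμ hν) this

lemma coeff_mul_ne_zero {G G' : S2} {ν : Fin 2 →₀ ℕ} (h : coeff ν (G * G') ≠ 0) :
    ∃ μ μ' : Fin 2 →₀ ℕ, μ + μ' = ν ∧ coeff μ G ≠ 0 ∧ coeff μ' G' ≠ 0 := by
  classical
  rw [coeff_mul] at h
  obtain ⟨p, hp, hne⟩ := Finset.exists_ne_zero_of_sum_ne_zero h
  rw [Finset.HasAntidiagonal.mem_antidiagonal] at hp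
  exact ⟨p.1, p.2, hp, left_ne_zero_of_mul hne, right_ne_zero_of_mul hne⟩

/-! ### the box factor -/

/-- `(1+y)(1+z)` -/
def Wb : S2 := (1 + X 0) * (1 + X 1)

lemma Wb_eq : Wb = monomial (e2 0 0) 1 + monomial (e2 1 0) 1 + monomial (e2 0 1) 1 +
    monomial (e2 1 1) 1 := by
  have h1 : (X 0 : S2) = monomial (e2 1 0) 1 := by simpa using natCast_mul_XX 1 1 0
  have h2 : (X 1 : S2) = monomial (e2 0 1) 1 := by simpa using natCast_mul_XX 1 0 1
  have h3 : (1 : S2) = monomial (e2 0 0) 1 := by rw [e2_zero_zero, monomial_zero_one]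
  have h4 : (X 0 * X 1 : S2) = monomial (e2 1 1) 1 := by simpa using natCast_mul_XX 1 1 1
  have h5 : Wb = 1 + X 0 + X 1 + X 0 * X 1 := by rw [Wb]; ring
  rw [h5, h4, ← h1, ← h2, ← h3]

lemma coeff_Wb (u v : ℕ) : coeff (e2 u v) Wb = if u ≤ 1 ∧ v ≤ 1 then 1 else 0 := by
  classical
  rw [Wb_eq]
  simp only [map_add, coeff_monomial]
  have k : ∀ i j : ℕ, (e2 u v = e2 i j) ↔ (u = i ∧ v = j) :=
    fun i j => ⟨e2_inj, fun h => by rw [h.1, h.2]⟩
  simp only [k]
  by_cases hu : u ≤ 1 ∧ v ≤ 1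
  · rw [if_pos hu]
    obtain ⟨hu1, hv1⟩ := hu
    interval_cases u <;> interval_cases v <;> simp
  · rw [if_neg hu]
    have : ¬(u = 0 ∧ v = 0) ∧ ¬(u = 1 ∧ v = 0) ∧ ¬(u = 0 ∧ v = 1) ∧ ¬(u = 1 ∧ v = 1) := by
      omega
    rw [if_neg this.1, if_neg this.2.1, if_neg this.2.2.1, if_neg this.2.2.2]
    norm_num

lemma coeff_Wb' (ν : Fin 2 →₀ ℕ) : coeff ν Wb = if ν 0 ≤ 1 ∧ ν 1 ≤ 1 then 1 else 0 := by
  have := coeff_Wb (ν 0) (ν 1)
  rwa [← eq_e2 ν] at this

lemma NN_Wb : NN Wb := by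
  intro ν
  rw [coeff_Wb']
  split_ifs <;> norm_num

lemma coeff_Wb_pow_ne_zero (B : ℕ) :
    ∀ ν : Fin 2 →₀ ℕ, coeff ν (Wb ^ B) ≠ 0 → ν 0 ≤ B ∧ ν 1 ≤ B := by
  classical
  induction B with
  | zero =>
    intro ν h
    rw [pow_zero, coeff_one] at h
    by_cases hν : ν = 0
    · rw [hν]
      exact ⟨le_rfl, le_rfl⟩
    · rw [if_neg hν] at h
      exact absurd rfl h
  | succ B ih =>
    intro ν h
    rw [pow_succ] at h
    obtain ⟨μ, μ', hsum, h1, h2⟩ := coeff_mul_ne_zero h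
    obtain ⟨a1, a2⟩ := ih μ h1
    have h2' : μ' 0 ≤ 1 ∧ μ' 1 ≤ 1 := by
      by_contra hc
      exact h2 (by rw [coeff_Wb', if_neg hc])
    have e0 := add_apply0 hsum
    have e1 := add_apply1 hsum
    omega

lemma coeff_Wb_pow_pos (B : ℕ) : ∀ b ≤ B, 0 < coeff (e2 0 b) (Wb ^ B) := by
  induction B with
  | zero =>
    intro b hb
    obtain rfl : b = 0 := by omega
    rw [pow_zero, e2_zero_zero, coeff_zero_one]
    exact one_pos
  | succ B ih =>
    intro b hb
    rw [pow_succ]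
    by_cases hb' : b ≤ B
    · have h0 : 0 < coeff (e2 0 0) Wb := by
        rw [coeff_Wb, if_pos (by omega)]
        exact one_pos
      have := coeff_mul_pos (NN_Wb.pow B) NN_Wb (ih b hb') h0
      rwa [e2_add, add_zero, add_zero] at this
    · obtain rfl : b = B + 1 := by omega
      have h0 : 0 < coeff (e2 0 1) Wb := by
        rw [coeff_Wb, if_pos (by omega)]
        exact one_pos
      have := coeff_mul_pos (NN_Wb.pow B) NN_Wb (ih B le_rfl) h0
      rwa [e2_add, add_zero] at this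

/-! ### products of hypersurface series -/

variable {d : ℕ} (a : Fin d → ℕ) (Hs : Fin d → S2)
  (hH : ∀ i, (1 - Pser (a i)) * Hs i = Nser (a i))

include hH in
lemma prod_supp (M : ℕ) (hM : ∀ i, a i ≤ M) (S : Finset (Fin d)) :
    ∀ ν : Fin 2 →₀ ℕ, coeff ν (∏ i ∈ S, Hs i) ≠ 0 →
      ∃ J, J ≤ ν 0 ∧ J ≤ ν 1 ∧ ν 0 + ν 1 + 2 * S.card ≤ ∑ i ∈ S, a i + M * J := by
  classical
  induction S using Finset.induction_on with
  | empty =>
    intro ν h
    rw [Finset.prod_empty, coeff_one] at h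
    by_cases hν : ν = 0
    · rw [hν]
      exact ⟨0, le_rfl, le_rfl, by simp⟩
    · rw [if_neg hν] at h
      exact absurd rfl h
  | insert i S hi ih =>
    intro ν h
    rw [Finset.prod_insert hi] at h
    obtain ⟨μ, μ', hsum, h1, h2⟩ := coeff_mul_ne_zero h
    obtain ⟨j, hj0, hj1, hj⟩ := coeff_H_supp (a i) (Hs i) (hH i) μ h1
    obtain ⟨J, hJ0, hJ1, hJ⟩ := ih μ' h2
    have e0 := add_apply0 hsum
    have e1 := add_apply1 hsum
    refine ⟨j + J, by omega, by omega, ?_⟩
    rw [Finset.card_insert_of_notMem hi, Finset.sum_insert hi]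
    have k1 : (j + 1) * a i = j * a i + a i := by ring
    have k2 : j * a i ≤ j * M := Nat.mul_le_mul_left j (hM i)
    have k3 : M * (j + J) = j * M + M * J := by ring
    omega

include hH in
lemma prod_pos0 (S : Finset (Fin d)) (hS : ∀ i ∈ S, 2 ≤ a i) :
    ∀ w : ℕ, w ≤ ∑ i ∈ S, (a i - 2) → 0 < coeff (e2 0 w) (∏ i ∈ S, Hs i) := by
  classical
  have hNN : ∀ i, NN (Hs i) := fun i => coeff_H_nonneg (a i) (Hs i) (hH i)
  induction S using Finset.induction_on with
  | empty =>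
    intro w hw
    rw [Finset.sum_empty] at hw
    obtain rfl : w = 0 := by omega
    rw [Finset.prod_empty, e2_zero_zero, coeff_zero_one]
    exact one_pos
  | insert i S hi ih =>
    intro w hw
    rw [Finset.sum_insert hi] at hw
    rw [Finset.prod_insert hi]
    have hai : 2 ≤ a i := hS i (Finset.mem_insert_self i S)
    have h1 : 0 < coeff (e2 0 (min w (a i - 2))) (Hs i) :=
      coeff_H_pos (a i) (Hs i) (hH i) hai 0 _ (Nat.zero_le _) (by omega)
    have h2 : 0 < coeff (e2 0 (w - min w (a i - 2))) (∏ j ∈ S, Hs j) :=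
      ih (fun j hj => hS j (Finset.mem_insert_of_mem hj)) _ (by omega)
    have := coeff_mul_pos (hNN i) (NN.prod S Hs (fun j _ => hNN j)) h1 h2
    rwa [e2_add, add_zero, show min w (a i - 2) + (w - min w (a i - 2)) = w by omega] at this

include hH in
/-- the nonvanishing criterion for the coefficients of the Hodge series -/
theorem main8732 (ha : ∀ i, 1 ≤ a i) (p q : ℕ) (hpq : p ≤ q) :
    coeff (Finsupp.single 0 p + Finsupp.single 1 q)
      (∑ P ∈ (Finset.univ : Finset (Fin d)).powerset with P.Nonempty,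
        ((1 + X 0) * (1 + X 1)) ^ (P.card - 1) * ∏ i ∈ P, Hs i : S2) ≠ 0 ↔
      p + q + d < p * Finset.univ.sup a + ∑ i, a i := by
  classical
  change coeff (e2 p q) (∑ P ∈ (Finset.univ : Finset (Fin d)).powerset with P.Nonempty,
        Wb ^ (P.card - 1) * ∏ i ∈ P, Hs i : S2) ≠ 0 ↔ _
  have hNN : ∀ i, NN (Hs i) := fun i => coeff_H_nonneg (a i) (Hs i) (hH i)
  obtain ⟨M, hMdef⟩ : ∃ M, M = Finset.univ.sup a := ⟨_, rfl⟩
  rw [← hMdef]
  have hM : ∀ i, a i ≤ M := fun i => by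
    rw [hMdef]
    exact Finset.le_sup (Finset.mem_univ i)
  constructor
  · intro hne
    rw [map_sum] at hne
    obtain ⟨P, hP, hterm⟩ := Finset.exists_ne_zero_of_sum_ne_zero hne
    rw [Finset.mem_filter] at hP
    obtain ⟨_, hPne⟩ := hP
    obtain ⟨μ, μ', hsum, h1, h2⟩ := coeff_mul_ne_zero hterm
    obtain ⟨b1, b2⟩ := coeff_Wb_pow_ne_zero _ μ h1
    obtain ⟨J, hJ0, hJ1, hJ⟩ := prod_supp a Hs hH M hM P μ' h2
    have e0 := add_apply0 hsum
    have e1 := add_apply1 hsum
    rw [e2_zero] at e0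
    rw [e2_one] at e1
    have hcard : 1 ≤ P.card := Finset.card_pos.2 hPne
    have hPle : P.card ≤ d := by simpa using Finset.card_le_univ P
    have hsplit := Finset.sum_sdiff (Finset.subset_univ P) (f := a)
    have hoff : (Finset.univ \ P).card ≤ ∑ i ∈ Finset.univ \ P, a i := by
      rw [Finset.card_eq_sum_ones]
      exact Finset.sum_le_sum fun i _ => ha i
    have hcardoff : (Finset.univ \ P).card = d - P.card := by
      rw [Finset.card_univ_diff, Fintype.card_fin]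
    have hM1 : 1 ≤ M := by
      obtain ⟨i, _⟩ := hPne
      exact le_trans (ha i) (hM i)
    have hpM : μ 0 + M * J ≤ p * M := by
      have k1 : μ 0 ≤ μ 0 * M := Nat.le_mul_of_pos_right _ hM1
      have k2 : J * M ≤ μ' 0 * M := Nat.mul_le_mul_right M hJ0
      have k3 : p * M = μ 0 * M + μ' 0 * M := by rw [e0, Nat.add_mul]
      have k4 : M * J = J * M := Nat.mul_comm M J
      omega
    omega
  · intro hlt
    obtain ⟨P, hPdef⟩ : ∃ P : Finset (Fin d), P = Finset.univ.filter (fun i => 2 ≤ a i) :=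
      ⟨_, rfl⟩
    have hmemP : ∀ i, i ∈ P ↔ 2 ≤ a i := fun i => by
      rw [hPdef, Finset.mem_filter]
      exact ⟨fun h => h.2, fun h => ⟨Finset.mem_univ i, h⟩⟩
    have hoff : ∀ i, i ∉ P → a i = 1 := by
      intro i hi
      rw [hmemP] at hi
      have := ha i
      omega
    have hsumoff : ∑ i ∈ Finset.univ \ P, a i = d - P.card := by
      rw [Finset.sum_congr rfl (fun i hi => hoff i (Finset.mem_sdiff.1 hi).2), Finset.sum_const,
        smul_eq_mul, mul_one, Finset.card_univ_diff, Fintype.card_fin]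
    have hsplit := Finset.sum_sdiff (Finset.subset_univ P) (f := a)
    have hPle : P.card ≤ d := by simpa using Finset.card_le_univ P
    have hM2 : 2 ≤ M := by
      by_contra hM2
      have hPe : P = ∅ := by
        rw [Finset.eq_empty_iff_forall_notMem]
        intro i hi
        have h1 := (hmemP i).1 hi
        have h2 := hM i
        omega
      rw [hPe] at hsumoff hsplit
      rw [Finset.sum_empty, add_zero] at hsplit
      rw [Finset.card_empty, Nat.sub_zero] at hsumoff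
      have : p * M ≤ p * 1 := Nat.mul_le_mul_left p (by omega)
      omega
    have hex : ∃ i, 2 ≤ a i := by
      by_contra hc
      push_neg at hc
      have : M ≤ 1 := by
        rw [hMdef]
        exact Finset.sup_le fun i _ => by
          have := hc i
          omega
      omega
    obtain ⟨i₁, _⟩ := hex
    obtain ⟨i₀, _, hi₀⟩ := Finset.exists_mem_eq_sup Finset.univ ⟨i₁, Finset.mem_univ _⟩ a
    rw [← hMdef] at hi₀
    have hi₀P : i₀ ∈ P := by
      rw [hmemP, ← hi₀]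
      exact hM2
    have hsumP : ∑ i ∈ P, a i = M + ∑ i ∈ P.erase i₀, a i := by
      rw [← Finset.add_sum_erase P a hi₀P, hi₀]
    have hsumT : ∑ i ∈ P.erase i₀, a i =
        ∑ i ∈ P.erase i₀, (a i - 2) + 2 * (P.erase i₀).card := by
      rw [Finset.card_eq_sum_ones, Finset.mul_sum, ← Finset.sum_add_distrib]
      refine Finset.sum_congr rfl fun i hi => ?_
      have := (hmemP i).1 (Finset.mem_of_mem_erase hi)
      omega
    have hcardE : (P.erase i₀).card = P.card - 1 := Finset.card_erase_of_mem hi₀P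
    have hPpos : 1 ≤ P.card := Finset.card_pos.2 ⟨i₀, hi₀P⟩
    obtain ⟨T, hT⟩ : ∃ T, T = ∑ i ∈ P.erase i₀, (a i - 2) := ⟨_, rfl⟩
    rw [← hT] at hsumT
    obtain ⟨B, hB⟩ : ∃ B, B = P.card - 1 := ⟨_, rfl⟩
    have hkey : p + q + 2 ≤ (p + 1) * M + T + B := by
      have k : (p + 1) * M = p * M + M := by ring
      omega
    have hK : 2 * p + 2 ≤ (p + 1) * M := by
      have := Nat.mul_le_mul_left (p + 1) hM2
      omega
    obtain ⟨K, hKdef⟩ : ∃ K, K = (p + 1) * M - 2 - p := ⟨_, rfl⟩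
    obtain ⟨v, hv⟩ : ∃ v, v = min q K := ⟨_, rfl⟩
    obtain ⟨b₂, hb₂⟩ : ∃ b₂, b₂ = min (q - v) B := ⟨_, rfl⟩
    obtain ⟨w, hw⟩ : ∃ w, w = q - v - b₂ := ⟨_, rfl⟩
    have hv1 : p ≤ v := by omega
    have hv2 : p + v + 2 ≤ (p + 1) * M := by omega
    have hb₂B : b₂ ≤ B := by omega
    have hwT : w ≤ T := by omega
    have hq : b₂ + (v + w) = q := by omega
    have hpos1 := coeff_Wb_pow_pos B b₂ hb₂B
    have hpos2 : 0 < coeff (e2 p v) (Hs i₀) :=
      coeff_H_pos (a i₀) (Hs i₀) (hH i₀) (by rw [← hi₀]; exact hM2) p v hv1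
        (by rw [← hi₀]; exact hv2)
    have hpos3 : 0 < coeff (e2 0 w) (∏ i ∈ P.erase i₀, Hs i) :=
      prod_pos0 a Hs hH (P.erase i₀)
        (fun i hi => (hmemP i).1 (Finset.mem_of_mem_erase hi)) w (by rw [← hT]; exact hwT)
    have hposE := coeff_mul_pos (hNN i₀) (NN.prod (P.erase i₀) Hs (fun i _ => hNN i)) hpos2 hpos3
    have hposT := coeff_mul_pos (NN_Wb.pow B)
      ((hNN i₀).mul (NN.prod (P.erase i₀) Hs (fun i _ => hNN i))) hpos1 hposE
    rw [Finset.mul_prod_erase P Hs hi₀P, e2_add, e2_add, Nat.zero_add, Nat.add_zero, hq, hB]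
      at hposT
    rw [map_sum]
    have hPmem : P ∈ ((Finset.univ : Finset (Fin d)).powerset.filter fun P => P.Nonempty) := by
      rw [Finset.mem_filter, Finset.mem_powerset]
      exact ⟨Finset.subset_univ P, ⟨i₀, hi₀P⟩⟩
    have hle := Finset.single_le_sum
      (f := fun Q : Finset (Fin d) => coeff (e2 p q) (Wb ^ (Q.card - 1) * ∏ i ∈ Q, Hs i))
      (fun Q _ => ((NN_Wb.pow _).mul (NN.prod Q Hs (fun i _ => hNN i))) _) hPmem
    exact ne_of_gt (lt_of_lt_of_le hposT hle)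

end

end Groth.Agent.Lib.HodgeCIH1
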