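import Groth.Agent.Lib.HodgeCI2_helper1

/-!
# Hodge series of complete intersections: the Hodge level criterion
-/

set_option autoImplicit false
set_option maxHeartbeats 1000000

open MvPowerSeries

namespace Groth.Agent.Lib.HodgeCIH1

noncomputable section

variable {d : ℕ} (a : Fin d → ℕ) (Hs : Fin d → S2)
  (hH : ∀ i, (1 - Pser (a i)) * Hs i = Nser (a i))

include hH in
/-- the Hodge level criterion -/
theorem main8736 (hd : 1 ≤ d) (ha : ∀ i, 1 ≤ a i) (i₀ : Fin d) (hi₀ : ∀ i, a i ≤ a i₀)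
    (n l : ℕ) (hl : l < n) (hpar : l % 2 = n % 2) :
    (∀ p q : ℕ, p + q = n → p ≤ q → l < q - p →
        coeff (Finsupp.single 0 p + Finsupp.single 1 q)
          (∑ P ∈ (Finset.univ : Finset (Fin d)).powerset with P.Nonempty,
            ((1 + X 0) * (1 + X 1)) ^ (P.card - 1) * ∏ i ∈ P, Hs i : S2) = 0) ↔
      2 * (∑ i ∈ Finset.univ.erase i₀, ((a i : ℤ) - 1)) + ((a i₀ : ℤ) - 2) * ((n : ℤ) - l)
        ≤ 2 * ((l : ℤ) + 1) := by
  classical
  obtain ⟨m, hm⟩ : ∃ m, n = l + 2 * m := ⟨(n - l) / 2, by omega⟩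
  have hm1 : 1 ≤ m := by omega
  have hsup : Finset.univ.sup a = a i₀ :=
    le_antisymm (Finset.sup_le fun i _ => hi₀ i) (Finset.le_sup (Finset.mem_univ i₀))
  obtain ⟨T, hT⟩ : ∃ T, T = ∑ i ∈ Finset.univ.erase i₀, a i := ⟨_, rfl⟩
  have hsum : ∑ i, a i = a i₀ + T := by
    rw [hT]
    exact (Finset.add_sum_erase Finset.univ a (Finset.mem_univ i₀)).symm
  have hS : (∑ i ∈ Finset.univ.erase i₀, ((a i : ℤ) - 1)) = (T : ℤ) - ((d : ℤ) - 1) := by
    have hc : (Finset.univ.erase i₀).card = d - 1 := by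
      rw [Finset.card_erase_of_mem (Finset.mem_univ _), Finset.card_univ, Fintype.card_fin]
    rw [Finset.sum_sub_distrib, Finset.sum_const, hc, hT, Nat.cast_sum, nsmul_eq_mul, mul_one,
      Nat.cast_sub hd, Nat.cast_one]
  have hcoef : ∀ p q : ℕ, p ≤ q →
      (coeff (Finsupp.single 0 p + Finsupp.single 1 q)
          (∑ P ∈ (Finset.univ : Finset (Fin d)).powerset with P.Nonempty,
            ((1 + X 0) * (1 + X 1)) ^ (P.card - 1) * ∏ i ∈ P, Hs i : S2) = 0 ↔
        ¬ (p + q + d < p * a i₀ + (a i₀ + T))) := by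
    intro p q hpq
    have h := main8732 a Hs hH ha p q hpq
    rw [hsup, hsum] at h
    constructor
    · intro h0 hB
      exact h.mpr hB h0
    · intro hnB
      by_contra h0
      exact hnB (h.mp h0)
  have key : (∀ p q : ℕ, p + q = n → p ≤ q → l < q - p →
        coeff (Finsupp.single 0 p + Finsupp.single 1 q)
          (∑ P ∈ (Finset.univ : Finset (Fin d)).powerset with P.Nonempty,
            ((1 + X 0) * (1 + X 1)) ^ (P.card - 1) * ∏ i ∈ P, Hs i : S2) = 0) ↔
      m * a i₀ + T ≤ n + d := by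
    constructor
    · intro h
      obtain ⟨m', rfl⟩ : ∃ m', m = m' + 1 := ⟨m - 1, by omega⟩
      have h1 := (hcoef m' (l + m' + 2) (by omega)).mp
        (h m' (l + m' + 2) (by omega) (by omega) (by omega))
      have h2 : (m' + 1) * a i₀ = m' * a i₀ + a i₀ := Nat.succ_mul _ _
      omega
    · intro h p q hpq hle hlt
      rw [hcoef p q hle]
      have hp : p + 1 ≤ m := by omega
      have h1 : (p + 1) * a i₀ ≤ m * a i₀ := Nat.mul_le_mul_right _ hp
      have h2 : (p + 1) * a i₀ = p * a i₀ + a i₀ := Nat.succ_mul _ _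
      omega
  rw [key, hS]
  have hn : (n : ℤ) = (l : ℤ) + 2 * (m : ℤ) := by exact_mod_cast hm
  have hprod : ((a i₀ : ℤ) - 2) * ((n : ℤ) - l) = 2 * ((m : ℤ) * (a i₀ : ℤ)) - 4 * m := by
    rw [hn]
    ring
  rw [hprod]
  constructor
  · intro h
    have h' : ((m * a i₀ + T : ℕ) : ℤ) ≤ ((n + d : ℕ) : ℤ) := by exact_mod_cast h
    push_cast at h'
    linarith
  · intro h
    have h' : ((m * a i₀ + T : ℕ) : ℤ) ≤ ((n + d : ℕ) : ℤ) := by
      push_cast
      linarith
    exact_mod_cast h'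

end

end Groth.Agent.Lib.HodgeCIH1
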