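import Mathlib
import Groth.Prelude.Def_EtLim
import Groth.Agent.Lib.AdjExt_helper8
import Groth.Agent.Lib.EtPullExact_helper9

set_option autoImplicit false
universe u
open CategoryTheory CategoryTheory.Limits AlgebraicGeometry Opposite Abelian

namespace Groth.Agent.Lib.HofPushThetaH8

open Groth.Agent.Lib.AdjExtH8 EtPullExact

variable {X Y : Scheme.{u}} (f : X ⟶ Y)

theorem hofPush_eq [PreservesFiniteLimits (EtCoh.pull f)] (F : EtCoh.Ab X) (n : ℕ)
    (x : EtCoh.H Y ((EtCoh.push f).obj F) n) :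
    EtLim.HofPush f F n x =
      (Ext.mk₀ (EtCore.pullConst f ℤ).inv).comp (θ (EtCoh.pullPushAdj f) x) (zero_add n) := by
  have h1 : EtLim.HofPush f F n x =
      ((Ext.mk₀ (EtCore.pullConst f ℤ).inv).comp (x.mapExactFunctor (EtCoh.pull f)) (zero_add n)).comp
        (Ext.mk₀ ((EtCoh.pullPushAdj f).counit.app F)) (add_zero n) := rfl
  rw [h1]
  unfold θ
  rw [Ext.comp_assoc_of_third_deg_zero]

/-- injectivity of `HofPush` from injectivity of the edge map -/
theorem hofPush_injective_of_θ [PreservesFiniteLimits (EtCoh.pull f)] (F : EtCoh.Ab X) (n : ℕ)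
    (h : ∀ y : EtCoh.H Y ((EtCoh.push f).obj F) n, θ (EtCoh.pullPushAdj f) y = 0 → y = 0) :
    Function.Injective (EtLim.HofPush f F n) := by
  rw [injective_iff_map_eq_zero]
  intro y hy
  apply h
  rw [hofPush_eq] at hy
  have h2 : θ (EtCoh.pullPushAdj f) y = (Ext.mk₀ (EtCore.pullConst f ℤ).hom).comp
      ((Ext.mk₀ (EtCore.pullConst f ℤ).inv).comp (θ (EtCoh.pullPushAdj f) y) (zero_add n))
        (zero_add n) := by
    rw [Ext.mk₀_comp_mk₀_assoc, Iso.hom_inv_id, Ext.mk₀_id_comp]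
  rw [h2, hy, Ext.comp_zero]

end Groth.Agent.Lib.HofPushThetaH8
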