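import Mathlib
import Groth.Agent.Lib.AdicIso_helper3

/-!
# Artin–Rees for `Hom(M, N/IⁿN)` (helper3)
-/

set_option autoImplicit false

namespace Groth.Agent.Lib.HomARH3

open Submodule Groth.Agent.Lib.AdicIsoH3

universe u

variable {A : Type u} [CommRing A] (I : Ideal A) {M N : Type u} [AddCommGroup M] [Module A M]
  [AddCommGroup N] [Module A N]
variable {s r : ℕ} (π : (Fin s → A) →ₗ[A] M) (k : Fin r → Fin s → A)

/-- Transpose of the relation matrix. -/
noncomputable def phiK : (Fin s → N) →ₗ[A] (Fin r → N) :=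
  LinearMap.pi fun j => ∑ i, (k j i) • (LinearMap.proj i : (Fin s → N) →ₗ[A] N)

omit [AddCommGroup M] [Module A M] in
theorem phiK_apply (w : Fin s → N) (j : Fin r) :
    phiK (N := N) k w j = Fintype.linearCombination A w (k j) := by
  simp [phiK, Fintype.linearCombination_apply]

/-- Evaluation at the generators. -/
noncomputable def theta : (M →ₗ[A] N) →ₗ[A] (Fin s → N) :=
  LinearMap.pi fun i => LinearMap.applyₗ (π (Pi.single i 1))

theorem theta_apply (φ : M →ₗ[A] N) (i : Fin s) : theta (N := N) π φ i = φ (π (Pi.single i 1)) :=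
  rfl

theorem comp_eq_linearCombination (φ : M →ₗ[A] N) :
    φ ∘ₗ π = Fintype.linearCombination A (theta π φ) := by
  classical
  refine LinearMap.pi_ext' fun i => ?_
  ext
  simp [theta_apply]

theorem theta_injective (hπ : Function.Surjective π) : Function.Injective (theta (N := N) π) := by
  intro φ₁ φ₂ h
  ext m
  obtain ⟨a, rfl⟩ := hπ m
  have h1 := LinearMap.congr_fun (comp_eq_linearCombination π φ₁) a
  have h2 := LinearMap.congr_fun (comp_eq_linearCombination π φ₂) a
  simp only [LinearMap.comp_apply] at h1 h2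
  rw [h1, h2, h]

theorem exists_hom_of_phiK_eq_zero (hπ : Function.Surjective π)
    (hk : Submodule.span A (Set.range k) = LinearMap.ker π) (w : Fin s → N)
    (hw : phiK (N := N) k w = 0) :
    ∃ g : M →ₗ[A] N, ∀ a, g (π a) = Fintype.linearCombination A w a := by
  have hker : LinearMap.ker π ≤ LinearMap.ker (Fintype.linearCombination A w) := by
    rw [← hk, Submodule.span_le]
    rintro _ ⟨j, rfl⟩
    simp only [SetLike.mem_coe, LinearMap.mem_ker]
    rw [← phiK_apply, hw]; rfl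
  refine ⟨(LinearMap.ker π).liftQ _ hker ∘ₗ
    (LinearMap.quotKerEquivOfSurjective π hπ).symm.toLinearMap, fun a => ?_⟩
  simp only [LinearMap.comp_apply, LinearEquiv.coe_coe]
  have : (LinearMap.quotKerEquivOfSurjective π hπ).symm (π a) = Submodule.Quotient.mk a := by
    rw [LinearEquiv.symm_apply_eq]; rfl
  rw [this]; rfl

/-- Representing a map to `N ⧸ IⁿN` by a vector. -/
theorem exists_vector (hk : Submodule.span A (Set.range k) = LinearMap.ker π) (n : ℕ)
    (ψ : M →ₗ[A] N ⧸ (I ^ n • ⊤ : Submodule A N)) :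
    ∃ w : Fin s → N, (I ^ n • ⊤ : Submodule A N).mkQ ∘ₗ Fintype.linearCombination A w = ψ ∘ₗ π ∧
      phiK (N := N) k w ∈ (I ^ n • ⊤ : Submodule A (Fin r → N)) := by
  classical
  have hsurj := Submodule.Quotient.mk_surjective (I ^ n • ⊤ : Submodule A N)
  choose w hw using fun i : Fin s => hsurj (ψ (π (Pi.single i 1)))
  have hE : (I ^ n • ⊤ : Submodule A N).mkQ ∘ₗ Fintype.linearCombination A w = ψ ∘ₗ π := by
    refine LinearMap.pi_ext' fun i => ?_
    ext
    simp [hw]
  refine ⟨w, hE, pi_mem_smul_top _ _ fun j => ?_⟩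
  rw [phiK_apply, ← Submodule.Quotient.mk_eq_zero, ← Submodule.mkQ_apply, ← LinearMap.comp_apply, hE]
  have : π (k j) = 0 := by
    have : k j ∈ LinearMap.ker π := by rw [← hk]; exact Submodule.subset_span ⟨j, rfl⟩
    exact this
  simp [this]

omit [AddCommGroup M] [Module A M] in
/-- Artin–Rees for the image of `phiK`. -/
theorem exists_AR [IsNoetherianRing A] [Module.Finite A N] :
    ∃ c : ℕ, ∀ n : ℕ, ∀ w : Fin s → N, phiK (N := N) k w ∈ (I ^ n • ⊤ : Submodule A (Fin r → N)) →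
      (c ≤ n → ∃ v ∈ (I ^ (n - c) • ⊤ : Submodule A (Fin s → N)), phiK k v = phiK k w) ∧
      (∀ a ∈ I ^ c, ∃ v ∈ (I ^ n • ⊤ : Submodule A (Fin s → N)), phiK k v = a • phiK k w) := by
  obtain ⟨c, hc⟩ := Ideal.exists_pow_inf_eq_pow_smul I (LinearMap.range (phiK (N := N) k))
  refine ⟨c, fun n w hw => ⟨fun hn => ?_, fun a ha => ?_⟩⟩
  · have h1 : phiK k w ∈ (I ^ n • ⊤ : Submodule A (Fin r → N)) ⊓ LinearMap.range (phiK (N := N) k) :=
      ⟨hw, LinearMap.mem_range_self _ _⟩
    rw [hc n hn] at h1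
    have h2 : phiK k w ∈ (I ^ (n - c) • ⊤ : Submodule A (Fin s → N)).map (phiK (N := N) k) := by
      rw [Submodule.map_smul'', Submodule.map_top]
      exact Submodule.smul_mono le_rfl inf_le_right h1
    obtain ⟨v, hv, hvw⟩ := h2
    exact ⟨v, hv, hvw⟩
  · have h1 : a • phiK k w ∈ (I ^ (n + c) • ⊤ : Submodule A (Fin r → N)) ⊓
        LinearMap.range (phiK (N := N) k) := by
      refine ⟨?_, Submodule.smul_mem _ _ (LinearMap.mem_range_self _ _)⟩
      have : a • phiK k w ∈ I ^ c • (I ^ n • ⊤ : Submodule A (Fin r → N)) :=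
        Submodule.smul_mem_smul ha hw
      rwa [← Submodule.mul_smul, ← pow_add, add_comm] at this
    rw [hc (n + c) (Nat.le_add_left c n), Nat.add_sub_cancel] at h1
    have h2 : a • phiK k w ∈ (I ^ n • ⊤ : Submodule A (Fin s → N)).map (phiK (N := N) k) := by
      rw [Submodule.map_smul'', Submodule.map_top]
      exact Submodule.smul_mono le_rfl inf_le_right h1
    obtain ⟨v, hv, hvw⟩ := h2
    exact ⟨v, hv, hvw⟩

omit [AddCommGroup M] [Module A M] in
theorem linearCombination_mem (J : Ideal A) (v : Fin s → N)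
    (hv : v ∈ (J • ⊤ : Submodule A (Fin s → N))) (a : Fin s → A) :
    Fintype.linearCombination A v a ∈ (J • ⊤ : Submodule A N) := by
  rw [Fintype.linearCombination_apply]
  exact Submodule.sum_mem _ fun i _ => Submodule.smul_mem _ _ (apply_mem_smul_top _ v hv i)

theorem main (A : Type u) [CommRing A] [IsNoetherianRing A]
    (I : Ideal A) (M N : Type u) [AddCommGroup M] [Module A M] [Module.Finite A M] [AddCommGroup N]
    [Module A N] [Module.Finite A N] :
    let Nq : ℕ → Submodule A N := fun n => I ^ n • ⊤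
    let pr : ∀ n k : ℕ, n ≤ k → (N ⧸ Nq k) →ₗ[A] (N ⧸ Nq n) :=
      fun n k hnk => Submodule.mapQ (Nq k) (Nq n) (LinearMap.id : N →ₗ[A] N)
        (Submodule.smul_mono_left (Ideal.pow_le_pow_right hnk))
    let red : ∀ n : ℕ, (M →ₗ[A] N) → (M →ₗ[A] N ⧸ Nq n) := fun n φ => (Nq n).mkQ ∘ₗ φ
    (∀ n : ℕ, ∃ m : ℕ, n ≤ m ∧ ∀ (k : ℕ) (hmk : m ≤ k) (hnm : n ≤ m) (ψ : M →ₗ[A] N ⧸ Nq m),
        ∃ ψ' : M →ₗ[A] N ⧸ Nq k, pr n k (hnm.trans hmk) ∘ₗ ψ' = pr n m hnm ∘ₗ ψ) ∧
    ∃ c : ℕ, ∀ n : ℕ,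
      (∀ φ : M →ₗ[A] N, red n φ = 0 → ∀ a ∈ I ^ c,
        a • φ ∈ (I ^ n • ⊤ : Submodule A (M →ₗ[A] N))) ∧
      (∀ (ψ : M →ₗ[A] N ⧸ Nq n), ∀ a ∈ I ^ c, ∃ φ : M →ₗ[A] N, red n φ = a • ψ) := by
  classical
  intro Nq pr red
  obtain ⟨s, π, hπ⟩ := Module.Finite.exists_fin' A M
  have hfg : (LinearMap.ker π).FG := IsNoetherian.noetherian _
  obtain ⟨r, k, hk⟩ := Submodule.fg_iff_exists_fin_generating_family.mp hfg
  obtain ⟨c₁, hc₁⟩ := exists_AR (N := N) I k
  obtain ⟨c₂, hc₂⟩ := Ideal.exists_pow_inf_eq_pow_smul I (LinearMap.range (theta (N := N) π))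
  refine ⟨fun n => ⟨n + c₁, Nat.le_add_right n c₁, fun k' hmk hnm ψ => ?_⟩, max c₁ c₂, fun n => ⟨?_, ?_⟩⟩
  · obtain ⟨w, hE, hw⟩ := exists_vector I π k hk (n + c₁) ψ
    obtain ⟨v, hv, hvw⟩ := (hc₁ (n + c₁) w hw).1 (Nat.le_add_left c₁ n)
    rw [Nat.add_sub_cancel] at hv
    obtain ⟨g, hg⟩ := exists_hom_of_phiK_eq_zero π k hπ hk (w - v)
      (by rw [map_sub, hvw, sub_self])
    refine ⟨(Nq k').mkQ ∘ₗ g, ?_⟩
    ext m
    obtain ⟨a, rfl⟩ := hπ m
    have h1 := LinearMap.congr_fun hE a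
    simp only [LinearMap.comp_apply] at h1
    simp only [LinearMap.comp_apply, hg, ← h1, pr, Submodule.mkQ_apply, Submodule.mapQ_apply,
      LinearMap.id_apply]
    rw [Submodule.Quotient.eq]
    have h3 : Fintype.linearCombination A (w - v) a =
        Fintype.linearCombination A w a - Fintype.linearCombination A v a := by
      simp [Fintype.linearCombination_apply, smul_sub, Finset.sum_sub_distrib]
    rw [h3, sub_sub_cancel_left]
    exact Submodule.neg_mem _ (linearCombination_mem _ v hv a)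
  · intro φ hφ a ha
    have ha₂ : a ∈ I ^ c₂ := Ideal.pow_le_pow_right (le_max_right c₁ c₂) ha
    have hθ : theta π φ ∈ (I ^ n • ⊤ : Submodule A (Fin s → N)) := by
      refine pi_mem_smul_top _ _ fun i => ?_
      rw [theta_apply, ← Submodule.Quotient.mk_eq_zero]
      exact LinearMap.congr_fun hφ _
    by_cases hn : c₂ ≤ n
    · have h1 : theta π φ ∈ (I ^ n • ⊤ : Submodule A (Fin s → N)) ⊓
          LinearMap.range (theta (N := N) π) := ⟨hθ, LinearMap.mem_range_self _ _⟩
      rw [hc₂ n hn] at h1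
      have h2 : theta π φ ∈ (I ^ (n - c₂) • ⊤ : Submodule A (M →ₗ[A] N)).map (theta (N := N) π) := by
        rw [Submodule.map_smul'', Submodule.map_top]
        exact Submodule.smul_mono le_rfl inf_le_right h1
      obtain ⟨φ', hφ', hφφ'⟩ := h2
      have : φ' = φ := theta_injective π hπ hφφ'
      subst this
      have h3 : a • φ' ∈ I ^ c₂ • (I ^ (n - c₂) • ⊤ : Submodule A (M →ₗ[A] N)) :=
        Submodule.smul_mem_smul ha₂ hφ'
      rwa [← Submodule.mul_smul, ← pow_add, Nat.add_sub_cancel' hn] at h3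
    · have h3 : a • φ ∈ (I ^ c₂ • ⊤ : Submodule A (M →ₗ[A] N)) :=
        Submodule.smul_mem_smul ha₂ Submodule.mem_top
      exact Submodule.smul_mono_left (Ideal.pow_le_pow_right (le_of_not_ge hn)) h3
  · intro ψ a ha
    have ha₁ : a ∈ I ^ c₁ := Ideal.pow_le_pow_right (le_max_left c₁ c₂) ha
    obtain ⟨w, hE, hw⟩ := exists_vector I π k hk n ψ
    obtain ⟨v, hv, hvw⟩ := (hc₁ n w hw).2 a ha₁
    obtain ⟨g, hg⟩ := exists_hom_of_phiK_eq_zero π k hπ hk (a • w - v)
      (by rw [map_sub, hvw, map_smul, sub_self])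
    refine ⟨g, ?_⟩
    ext m
    obtain ⟨b, rfl⟩ := hπ m
    have h1 := LinearMap.congr_fun hE b
    simp only [LinearMap.comp_apply] at h1
    simp only [red, LinearMap.comp_apply, hg, LinearMap.smul_apply, ← h1, Submodule.mkQ_apply]
    rw [← Submodule.Quotient.mk_smul, Submodule.Quotient.eq]
    have h3 : Fintype.linearCombination A (a • w - v) b =
        a • Fintype.linearCombination A w b - Fintype.linearCombination A v b := by
      simp [Fintype.linearCombination_apply, smul_sub, Finset.sum_sub_distrib, Finset.smul_sum,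
        smul_comm a]
    rw [h3, sub_sub_cancel_left]
    exact Submodule.neg_mem _ (linearCombination_mem _ v hv b)

end Groth.Agent.Lib.HomARH3
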