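import Mathlib

/-!
# Homogeneous avoidance of finitely many primes in `ℤ[x₁,…,x_r]` (helper5)
APPEND-ONLY once landed.

* `eval₂_mul_of_isHomogeneous`: `P(c·t) = P(c)·t^d` for `P` homogeneous of degree `d`.
* `exists_homogeneous_notMem`: finitely many primes, none containing all variables, are avoided by
  a homogeneous polynomial of positive degree.
* `finite_comap_primes`: for integral elements `b_i` of an algebra over a field, the primes of
  `ℤ[x]` of the form `ψ⁻¹(𝔭)` (`ψ : x_i ↦ b_i`) are finite in number.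
-/

set_option autoImplicit false
universe u

open MvPolynomial

namespace Groth.Agent.HomAvoid

section Eval

variable {σ : Type*} [Fintype σ] {R S : Type*} [CommRing R] [CommRing S]

theorem eval₂_mul_of_isHomogeneous (f : R →+* S) (c : σ → S) (t : S) {P : MvPolynomial σ R}
    {d : ℕ} (hP : P.IsHomogeneous d) :
    P.eval₂ f (fun i => c i * t) = P.eval₂ f c * t ^ d := by
  rw [eval₂_eq', eval₂_eq', Finset.sum_mul]
  refine Finset.sum_congr rfl (fun α hα => ?_)
  have hα' : coeff α P ≠ 0 := mem_support_iff.mp hα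
  have hdeg : ∑ i, α i = d := by
    have h1 := hP hα'
    have h2 : Finsupp.degree α = d :=
      (congrArg (fun w => w α) (Finsupp.degree_eq_weight_one (R := ℕ) (σ := σ))).trans h1
    rw [Finsupp.degree_eq_sum] at h2
    exact h2
  rw [mul_assoc]
  congr 1
  simp only [mul_pow]
  rw [Finset.prod_mul_distrib, Finset.prod_pow_eq_pow_sum, hdeg]

end Eval

section Avoid

variable {σ : Type*} {R : Type*} [CommRing R] {ι : Type*} [DecidableEq ι]

theorem exists_homogeneous_notMem [Nonempty σ] (S : Finset ι) (q : ι → Ideal (MvPolynomial σ R))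
    (hq : ∀ i ∈ S, (q i).IsPrime) (h : ∀ i ∈ S, ∃ j : σ, (X j : MvPolynomial σ R) ∉ q i) :
    ∃ (d : ℕ) (P : MvPolynomial σ R), 0 < d ∧ P.IsHomogeneous d ∧ ∀ i ∈ S, P ∉ q i := by
  classical
  induction S using Finset.strongInduction with
  | H S ih =>
    by_cases hS : S = ∅
    · subst hS
      exact ⟨1, X (Classical.arbitrary σ), Nat.one_pos, isHomogeneous_X _ _, fun i hi => by simp at hi⟩
    · -- for each `μ ∈ S` an element avoiding the others
      have hz : ∀ μ ∈ S, ∃ (d : ℕ) (z : MvPolynomial σ R), 0 < d ∧ z.IsHomogeneous d ∧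
          ∀ i ∈ S.erase μ, z ∉ q i := fun μ hμ =>
        ih (S.erase μ) (Finset.erase_ssubset hμ)
          (fun i hi => hq i (Finset.mem_of_mem_erase hi))
          (fun i hi => h i (Finset.mem_of_mem_erase hi))
      by_cases hgood : ∃ μ ∈ S, ∃ (d : ℕ) (z : MvPolynomial σ R), 0 < d ∧ z.IsHomogeneous d ∧
          (∀ i ∈ S.erase μ, z ∉ q i) ∧ z ∉ q μ
      · obtain ⟨μ, hμ, d, z, hd, hz1, hz2, hz3⟩ := hgood
        refine ⟨d, z, hd, hz1, fun i hi => ?_⟩
        by_cases hiμ : i = μ
        · rw [hiμ]; exact hz3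
        · exact hz2 i (Finset.mem_erase.mpr ⟨hiμ, hi⟩)
      · -- every such element lies in its own prime
        have hbad : ∀ μ ∈ S, ∀ (d : ℕ) (z : MvPolynomial σ R), 0 < d → z.IsHomogeneous d →
            (∀ i ∈ S.erase μ, z ∉ q i) → z ∈ q μ := by
          intro μ hμ d z hd hz1 hz2
          by_contra hz3
          exact hgood ⟨μ, hμ, d, z, hd, hz1, hz2, hz3⟩
        choose! dz z hdz hzh hzav using hz
        obtain ⟨μ0, hμ0⟩ := Finset.nonempty_iff_ne_empty.mpr hS
        by_cases hS' : S.erase μ0 = ∅
        · -- `S = {μ0}`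
          obtain ⟨j, hj⟩ := h μ0 hμ0
          refine ⟨1, X j, Nat.one_pos, isHomogeneous_X _ _, fun i hi => ?_⟩
          have : i = μ0 := by
            by_contra hne
            have : i ∈ S.erase μ0 := Finset.mem_erase.mpr ⟨hne, hi⟩
            rw [hS'] at this
            simp at this
          rw [this]; exact hj
        · have hne' : (S.erase μ0).Nonempty := Finset.nonempty_iff_ne_empty.mpr hS'
          set S' := S.erase μ0 with hS'def
          set Z : MvPolynomial σ R := ∏ μ ∈ S', z μ with hZ
          set D : ℕ := ∑ μ ∈ S', dz μ with hD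
          have hZh : Z.IsHomogeneous D := by
            apply IsHomogeneous.prod
            intro μ hμ
            exact hzh μ (Finset.mem_of_mem_erase hμ)
          have hDpos : 0 < D := by
            obtain ⟨μ1, hμ1⟩ := hne'
            calc 0 < dz μ1 := hdz μ1 (Finset.mem_of_mem_erase hμ1)
              _ ≤ D := Finset.single_le_sum (f := dz) (fun i _ => Nat.zero_le _) hμ1
          have hd0 : 0 < dz μ0 := hdz μ0 hμ0
          have hz0 : z μ0 ∈ q μ0 := hbad μ0 hμ0 (dz μ0) (z μ0) hd0 (hzh μ0 hμ0) (hzav μ0 hμ0)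
          have hZ0 : Z ∉ q μ0 := by
            haveI := hq μ0 hμ0
            rw [hZ, Ideal.IsPrime.prod_mem_iff]
            rintro ⟨μ, hμ, hmem⟩
            have hμS : μ ∈ S := Finset.mem_of_mem_erase hμ
            have hne : μ0 ≠ μ := fun e => by
              rw [← e] at hμ
              exact (Finset.notMem_erase μ0 S) hμ
            exact hzav μ hμS μ0 (Finset.mem_erase.mpr ⟨hne, hμ0⟩) hmem
          refine ⟨D * dz μ0, Z ^ dz μ0 + z μ0 ^ D, Nat.mul_pos hDpos hd0, ?_, fun i hi => ?_⟩
          · refine IsHomogeneous.add (hZh.pow _) ?_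
            have := (hzh μ0 hμ0).pow D
            rwa [mul_comm] at this
          · by_cases hiμ : i = μ0
            · rw [hiμ]
              intro hmem
              haveI := hq μ0 hμ0
              have h1 : z μ0 ^ D ∈ q μ0 := Ideal.pow_mem_of_mem _ hz0 D hDpos
              have h2 : Z ^ dz μ0 ∈ q μ0 := by
                have := (q μ0).sub_mem hmem h1
                rwa [add_sub_cancel_right] at this
              exact hZ0 (Ideal.IsPrime.mem_of_pow_mem inferInstance _ h2)
            · have hiS' : i ∈ S' := Finset.mem_erase.mpr ⟨hiμ, hi⟩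
              haveI := hq i hi
              intro hmem
              have hzi : z i ∈ q i := hbad i hi (dz i) (z i) (hdz i hi) (hzh i hi) (hzav i hi)
              have hZi : Z ∈ q i := by
                rw [hZ, Ideal.IsPrime.prod_mem_iff]
                exact ⟨i, hiS', hzi⟩
              have h1 : Z ^ dz μ0 ∈ q i := Ideal.pow_mem_of_mem _ hZi _ hd0
              have h2 : z μ0 ^ D ∈ q i := by
                have := (q i).sub_mem hmem h1
                rwa [add_sub_cancel_left] at this
              exact hzav μ0 hμ0 i hiS' (Ideal.IsPrime.mem_of_pow_mem inferInstance _ h2)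

end Avoid

section Finite

variable {σ : Type*} [Finite σ] {k : Type*} [Field k] {R' : Type*} [CommRing R'] [Algebra k R']

/-- The evaluation homomorphism `ℤ[x] → R'`, `x_i ↦ b_i`. -/
noncomputable def evalHom (b : σ → R') : MvPolynomial σ ℤ →+* R' :=
  eval₂Hom (Int.castRingHom R') b

theorem evalHom_apply (b : σ → R') (P : MvPolynomial σ ℤ) :
    evalHom b P = P.eval₂ (Int.castRingHom R') b := rfl

theorem evalHom_X (b : σ → R') (i : σ) : evalHom b (X i) = b i := by
  rw [evalHom_apply, eval₂_X]

theorem finite_comap_primes (b : σ → R') (hb : ∀ i, IsIntegral k (b i)) :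
    {q : Ideal (MvPolynomial σ ℤ) | ∃ 𝔭 : Ideal R', 𝔭.IsPrime ∧ q = Ideal.comap (evalHom b) 𝔭}.Finite := by
  classical
  set B : Subalgebra k R' := Algebra.adjoin k (Set.range b) with hB
  haveI : Module.Finite k B := Algebra.finite_adjoin_of_finite_of_isIntegral (Set.finite_range b)
    (by rintro _ ⟨i, rfl⟩; exact hb i)
  haveI : IsArtinianRing B := IsArtinianRing.of_finite k B
  let b' : σ → B := fun i => ⟨b i, Algebra.subset_adjoin ⟨i, rfl⟩⟩
  have hcomp : (B.val.toRingHom).comp (evalHom b') = evalHom b := by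
    apply MvPolynomial.ringHom_ext
    · intro n
      simp [evalHom]
    · intro i
      simp [evalHom, b']
  refine ((IsArtinianRing.setOfPred_isPrime_finite B).image
    (fun 𝔫 => Ideal.comap (evalHom b') 𝔫)).subset ?_
  rintro q ⟨𝔭, h𝔭, rfl⟩
  refine ⟨Ideal.comap B.val.toRingHom 𝔭, Ideal.IsPrime.comap _, ?_⟩
  change Ideal.comap (evalHom b') (Ideal.comap B.val.toRingHom 𝔭) = _
  rw [Ideal.comap_comap, hcomp]

end Finite

section Span

variable {σ : Type*} [Fintype σ] {R S : Type*} [CommRing R] [CommRing S]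

/-- A homogeneous polynomial of positive degree evaluates into the ideal generated by the
values of the variables. -/
theorem eval₂_mem_span (f : R →+* S) (c : σ → S) {P : MvPolynomial σ R} {d : ℕ}
    (hP : P.IsHomogeneous d) (hd : 0 < d) : P.eval₂ f c ∈ Ideal.span (Set.range c) := by
  rw [eval₂_eq']
  refine Ideal.sum_mem _ (fun α hα => ?_)
  have hα' : coeff α P ≠ 0 := mem_support_iff.mp hα
  have hdeg : ∑ i, α i = d := by
    have h1 := hP hα'
    have h2 : Finsupp.degree α = d :=
      (congrArg (fun w => w α) (Finsupp.degree_eq_weight_one (R := ℕ) (σ := σ))).trans h1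
    rw [Finsupp.degree_eq_sum] at h2
    exact h2
  have hex : ∃ i, α i ≠ 0 := by
    by_contra hcon
    push Not at hcon
    have : ∑ i, α i = 0 := Finset.sum_eq_zero (fun i _ => hcon i)
    omega
  obtain ⟨i, hi⟩ := hex
  apply Ideal.mul_mem_left
  have h1 : c i ∣ ∏ j, c j ^ α j :=
    (dvd_pow_self (c i) hi).trans (Finset.dvd_prod_of_mem (fun j => c j ^ α j) (Finset.mem_univ i))
  obtain ⟨w, hw⟩ := h1
  rw [hw]
  exact Ideal.mul_mem_right _ _ (Ideal.subset_span ⟨i, rfl⟩)

end Span

end Groth.Agent.HomAvoid
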