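import Mathlib
import Groth.Prelude
import Groth.Agent.Lib.NApxG_helper7

/-!
# Morphisms from a limit with scheme-theoretically dominant transitions (helper7)

`main18742`: for a cofiltered system of qcqs `S`-schemes with affine, scheme-theoretically dominant
transition maps and `Y` of finite type over `S`, `colim Hom_S(X_i, Y) → Hom_S(lim X_i, Y)` is
bijective.
-/

set_option autoImplicit false
set_option linter.style.haveILetI false
universe u
open CategoryTheory CategoryTheory.Limits AlgebraicGeometry TopologicalSpace Opposite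

namespace Groth.Agent.Lib.HomColimDomH7

/-- The projections of a limit with affine scheme-theoretically dominant transition maps are
scheme-theoretically dominant. -/
theorem schemeDominant_π {I : Type u} [SmallCategory I] [IsCofiltered I] (D : I ⥤ Scheme.{u})
    [∀ {i j : I} (f : i ⟶ j), IsAffineHom (D.map f)]
    [∀ {i j : I} (f : i ⟶ j), IsSchemeTheoreticallyDominant (D.map f)]
    (c : Cone D) (hc : IsLimit c) (i : I) : IsSchemeTheoreticallyDominant (c.π.app i) := by
  haveI := isAffineHom_π_app D c hc i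
  rw [isSchemeTheoreticallyDominant_iff]
  refine Scheme.IdealSheafData.ext ?_
  funext U
  rw [Scheme.Hom.ker_apply, Scheme.IdealSheafData.ideal_bot, Pi.bot_apply, eq_bot_iff]
  intro s hs
  have hs' : (c.π.app i).app U.1 s = 0 := hs
  obtain ⟨j, f, hf⟩ := exists_app_map_eq_zero_of_isLimit D c hc U.2.isCompact s hs'
  have hinj := (D.map f).app_injective U.1
  have hs0 : s = 0 := hinj (hf.trans (map_zero _).symm)
  rw [hs0]
  exact Ideal.zero_mem _

attribute [local instance] IsCofiltered.isConnected in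
/-- **S18742** -/
theorem main18742 {S : Scheme.{u}} [CompactSpace S]
    [QuasiSeparatedSpace S] {I : Type u} [SmallCategory I] [IsCofiltered I] (D : I ⥤ Over S)
    (c : Cone D) (hc : IsLimit c)
    [∀ (i j : I) (t : i ⟶ j), IsAffineHom (D.map t).left]
    [∀ (i j : I) (t : i ⟶ j), IsSchemeTheoreticallyDominant (D.map t).left]
    [∀ i, CompactSpace (D.obj i).left] [∀ i, QuasiSeparatedSpace (D.obj i).left]
    (Y : Over S) [CompactSpace Y.left] [QuasiSeparatedSpace Y.left] [LocallyOfFiniteType Y.hom] :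
    (∀ φ : c.pt ⟶ Y, ∃ (i : I) (φi : D.obj i ⟶ Y), c.π.app i ≫ φi = φ) ∧
      ∀ (i : I) (φ ψ : D.obj i ⟶ Y), c.π.app i ≫ φ = c.π.app i ≫ ψ →
        ∃ (j : I) (t : j ⟶ i), D.map t ≫ φ = D.map t ≫ ψ := by
  have hcE : IsLimit ((Over.forget S).mapCone c) := isLimitOfPreserves (Over.forget S) hc
  haveI hAff : ∀ {i j : I} (a : i ⟶ j), IsAffineHom ((D ⋙ Over.forget S).map a) :=
    fun a => (inferInstance : IsAffineHom (D.map a).left)
  haveI hDom : ∀ {i j : I} (a : i ⟶ j),
      IsSchemeTheoreticallyDominant ((D ⋙ Over.forget S).map a) :=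
    fun a => (inferInstance : IsSchemeTheoreticallyDominant (D.map a).left)
  haveI hCpt : ∀ i : I, CompactSpace ((D ⋙ Over.forget S).obj i) :=
    fun i => (inferInstance : CompactSpace (D.obj i).left)
  haveI hQs : ∀ i : I, QuasiSeparatedSpace ((D ⋙ Over.forget S).obj i) :=
    fun i => (inferInstance : QuasiSeparatedSpace (D.obj i).left)
  obtain ⟨t, ht⟩ : ∃ t : D ⋙ Over.forget S ⟶ (Functor.const I).obj S,
      ∀ i, t.app i = (D.obj i).hom :=
    ⟨{ app := fun i => (D.obj i).hom
       naturality := fun i j a => by simp }, fun _ => rfl⟩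
  constructor
  · intro φ
    obtain ⟨Y', f', ι, hfp, hqc, hqs, hcl, hιf, -, -⟩ :=
      Groth.Agent.Lib.NApxG_helper7.closedImmersion_fp Y.hom
    haveI := hfp
    haveI := hcl
    obtain ⟨i, g, hg1, hg2⟩ : ∃ (i : I) (g : (D.obj i).left ⟶ Y'),
        (c.π.app i).left ≫ g = φ.left ≫ ι ∧ g ≫ f' = (D.obj i).hom := by
      obtain ⟨i, g, hg1, hg2⟩ := Scheme.exists_π_app_comp_eq_of_locallyOfFinitePresentation
        (D ⋙ Over.forget S) t f' ((Over.forget S).mapCone c) hcE (φ.left ≫ ι) (by
          ext k : 2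
          show (c.π.app k).left ≫ t.app k = (φ.left ≫ ι) ≫ f'
          rw [ht, Category.assoc, hιf, Over.w φ, Over.w (c.π.app k)]
          rfl)
      exact ⟨i, g, hg1, hg2.trans (ht i)⟩
    have hdom : IsSchemeTheoreticallyDominant (c.π.app i).left :=
      schemeDominant_π (D ⋙ Over.forget S) ((Over.forget S).mapCone c) hcE i
    have hker : ι.ker ≤ g.ker := by
      have h1 : ((c.π.app i).left ≫ g).ker = g.ker := by
        rw [Scheme.Hom.ker_comp, (c.π.app i).left.ker_eq_bot, Scheme.IdealSheafData.map_bot]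
      rw [← h1, hg1]
      exact Scheme.Hom.le_ker_comp φ.left ι
    obtain ⟨g', hg'⟩ : ∃ g' : (D.obj i).left ⟶ Y.left, g' ≫ ι = g :=
      ⟨IsClosedImmersion.lift ι g hker, IsClosedImmersion.lift_fac _ _ _⟩
    have hw : g' ≫ Y.hom = (D.obj i).hom := by
      rw [← hιf, ← Category.assoc, hg', hg2]
    refine ⟨i, Over.homMk g' hw, ?_⟩
    apply Over.OverMorphism.ext
    show (c.π.app i).left ≫ g' = φ.left
    rw [← cancel_mono ι, Category.assoc, hg', hg1]
  · intro i φ ψ h
    have hab : (c.π.app i).left ≫ φ.left = (c.π.app i).left ≫ ψ.left :=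
      congrArg (fun m => m.left) h
    obtain ⟨k, hik, hk⟩ := Scheme.exists_hom_comp_eq_comp_of_locallyOfFiniteType
      (D ⋙ Over.forget S) t Y.hom ((Over.forget S).mapCone c) hcE (i := i) φ.left ψ.left
      ((ht i).trans (Over.w φ).symm) ((ht i).trans (Over.w ψ).symm) hab
    refine ⟨k, hik, ?_⟩
    apply Over.OverMorphism.ext
    exact hk

end Groth.Agent.Lib.HomColimDomH7
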