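import Mathlib
import Groth.Prelude
import Groth.Agent.Lib.ExtHH1_helper3
import Groth.Agent.Lib.RpushCohD_helper3

/-!
# Finiteness of `Hom_{D(O_X)}(O_X, N[n])` for `N ∈ D^+_Coh`, `X` proper over a Noetherian ring
(helper3)
APPEND-ONLY once landed.
-/

set_option autoImplicit false
set_option linter.all false
set_option maxHeartbeats 1600000
set_option backward.isDefEq.respectTransparency false
set_option backward.isDefEq.respectTransparency.types false
set_option backward.defeqAttrib.useBackward true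

universe u v w

open CategoryTheory CategoryTheory.Limits AlgebraicGeometry Opposite TopologicalSpace
open CategoryTheory.Pretriangulated

attribute [local instance] HasDerivedCategory.standard

namespace Groth.Agent.Lib.HomFinH3

open Groth.Agent.Lib.DCohLocLead DerivedCategory Groth.Agent.Lib.CohSerreH3
  Groth.Agent.Lib.RpushPCUnbH3 Groth.Agent.Lib.RpushCohDH3

noncomputable section

variable (A : Type u) [CommRing A] {X : Scheme.{u}} [X.Over (Spec (CommRingCat.of A))]

/-- all shifted Hom modules out of `P` are finite -/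
def Fin (P N : DCoh.D X) : Prop := ∀ n : ℤ, Module.Finite A (P ⟶ N⟦n⟧)

variable {A}

theorem finite_of_iso {P N N' : DCoh.D X} (e : N ≅ N') (h : Module.Finite A (P ⟶ N)) :
    Module.Finite A (P ⟶ N') := by
  haveI := h
  refine Module.Finite.of_surjective (Linear.rightComp A P e.hom) (fun g => ⟨g ≫ e.inv, ?_⟩)
  simp

theorem finite_of_iso_left {P P' N : DCoh.D X} (e : P ≅ P') (h : Module.Finite A (P ⟶ N)) :
    Module.Finite A (P' ⟶ N) := by
  haveI := h
  refine Module.Finite.of_surjective (Linear.leftComp A N e.inv) (fun g => ⟨e.hom ≫ g, ?_⟩)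
  simp

theorem Fin.of_iso {P N N' : DCoh.D X} (e : N ≅ N') (h : Fin A P N) : Fin A P N' :=
  fun n => finite_of_iso ((shiftFunctor (DCoh.D X) n).mapIso e) (h n)

theorem Fin.of_iso_left {P P' N : DCoh.D X} (e : P ≅ P') (h : Fin A P N) : Fin A P' N :=
  fun n => finite_of_iso_left e (h n)

theorem Fin.shift {P N : DCoh.D X} (h : Fin A P N) (s : ℤ) : Fin A P (N⟦s⟧) :=
  fun n => finite_of_iso ((shiftFunctorAdd' (DCoh.D X) s n (s + n) rfl).app N) (h (s + n))

theorem Fin.of_isZero {P N : DCoh.D X} (h : IsZero N) : Fin A P N := by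
  intro n
  haveI : Subsingleton (P ⟶ N⟦n⟧) :=
    ⟨fun f g => ((shiftFunctor (DCoh.D X) n).map_isZero h).eq_of_tgt _ _⟩
  exact Module.Finite.of_finite

variable [IsNoetherianRing A]

/-- the middle term of a distinguished triangle -/
theorem finite_obj₂ {P : DCoh.D X} (T : Triangle (DCoh.D X)) (hT : T ∈ distTriang (DCoh.D X))
    (h1 : Module.Finite A (P ⟶ T.obj₁)) (h3 : Module.Finite A (P ⟶ T.obj₃)) :
    Module.Finite A (P ⟶ T.obj₂) := by
  haveI := h1
  haveI := h3
  haveI : IsNoetherian A (P ⟶ T.obj₁) := isNoetherian_of_isNoetherianRing_of_finite A _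
  haveI : IsNoetherian A (P ⟶ T.obj₃) := isNoetherian_of_isNoetherianRing_of_finite A _
  have hr : LinearMap.range (Linear.rightComp A P T.mor₁) =
      LinearMap.ker (Linear.rightComp A P T.mor₂) := by
    ext f
    constructor
    · rintro ⟨g, rfl⟩
      change (g ≫ T.mor₁) ≫ T.mor₂ = 0
      rw [Category.assoc, comp_distTriang_mor_zero₁₂ T hT, comp_zero]
    · intro hf
      obtain ⟨g, hg⟩ := Triangle.coyoneda_exact₂ T hT f hf
      exact ⟨g, hg.symm⟩
  haveI := isNoetherian_of_range_eq_ker _ _ hr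
  exact Module.IsNoetherian.finite A _

theorem Fin.obj₂ {P : DCoh.D X} (T : Triangle (DCoh.D X)) (hT : T ∈ distTriang (DCoh.D X))
    (h1 : Fin A P T.obj₁) (h3 : Fin A P T.obj₃) : Fin A P T.obj₂ := by
  intro n
  exact finite_obj₂ _ (Triangle.shift_distinguished T hT n) (h1 n) (h3 n)

variable [IsProper (X ↘ Spec (CommRingCat.of A))]

/-- the structure sheaf in degree `0` -/
abbrev O0 (X : Scheme.{u}) : DCoh.D X :=
  (DerivedCategory.singleFunctor X.Modules 0).obj (SheafOfModules.unit X.ringCatSheaf)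

theorem fin_single (G : X.Modules) (hG : Coh.IsCoh G) (b : ℤ) :
    Fin A (O0 X) ((DerivedCategory.singleFunctor X.Modules b).obj G) := by
  have h0 : Fin A (O0 X) ((DerivedCategory.singleFunctor X.Modules 0).obj G) :=
    fun n => Groth.Agent.Lib.ExtHHH3.finite_hom_single A G hG n
  exact (h0.shift (-b)).of_iso
    (((DerivedCategory.singleFunctors X.Modules).shiftIso (-b) b 0 (by omega)).app G)

theorem isCohD_truncLT [IsLocallyNoetherian X] (E : DCoh.D X) (hE : DCoh.IsCohD E) (c : ℤ) :
    DCoh.IsCohD ((TStructure.t.truncLT c).obj E) := by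
  let T := (TStructure.t.triangleLTGE c).obj E
  have hT : T ∈ distTriang _ := TStructure.t.triangleLTGE_distinguished c E
  haveI i1 : T.obj₁.IsLE (c - 1) := by dsimp [T]; infer_instance
  haveI i3 : T.obj₃.IsGE c := by dsimp [T]; infer_instance
  intro i
  show Coh.IsCoh (DCoh.HD T.obj₁ i)
  by_cases hi : i < c
  · haveI := isIso_homology_mor₁ T hT i
      (DerivedCategory.isZero_of_isGE T.obj₃ c (i - 1) (by omega))
      (DerivedCategory.isZero_of_isGE T.obj₃ c i hi)
    exact isCoh_of_iso (asIso ((homologyFunctor X.Modules i).map T.mor₁)).symm (hE i)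
  · exact CohDevH8.isCoh_of_isZero
      (DerivedCategory.isZero_of_isLE T.obj₁ (c - 1) i (by omega))

theorem fin_bounded (n : ℕ) :
    ∀ (E : DCoh.D X) (b : ℤ), E.IsLE b → E.IsGE (b + 1 - n) → DCoh.IsCohD E →
      Fin A (O0 X) E := by
  haveI : IsLocallyNoetherian X :=
    LocallyOfFiniteType.isLocallyNoetherian (X ↘ Spec (CommRingCat.of A))
  induction n with
  | zero =>
    intro E b h1 h2 hE
    haveI := h1
    haveI := h2
    haveI : E.IsGE (b + 1) := TStructure.t.isGE_of_ge E (b + 1) (b + 1 - ((0 : ℕ) : ℤ))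
      (by push_cast; omega)
    exact Fin.of_isZero (TStructure.t.isZero E b (b + 1) (by omega))
  | succ n ih =>
    intro E b h1 h2 hE
    haveI := h1
    haveI := h2
    haveI : E.IsGE (b - n) := TStructure.t.isGE_of_ge E (b - n) (b + 1 - ((n + 1 : ℕ) : ℤ))
      (by push_cast; omega)
    let T := (TStructure.t.triangleLTGE b).obj E
    have hT : T ∈ distTriang _ := TStructure.t.triangleLTGE_distinguished b E
    haveI i1 : T.obj₁.IsLE (b - 1) := by dsimp [T]; infer_instance
    haveI i1' : T.obj₁.IsGE (b - n) := by dsimp [T]; infer_instance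
    haveI i3 : T.obj₃.IsGE b := by dsimp [T]; infer_instance
    haveI i3' : T.obj₃.IsLE b := by dsimp [T]; infer_instance
    have hy1 : DCoh.IsCohD T.obj₁ := isCohD_truncLT E hE b
    have n1 : Fin A (O0 X) T.obj₁ :=
      ih T.obj₁ (b - 1) i1 (TStructure.t.isGE_of_ge T.obj₁ (b - 1 + 1 - (n : ℤ)) (b - n) (by omega))
        hy1
    obtain ⟨G, ⟨eG⟩⟩ := DerivedCategory.exists_iso_singleFunctor_obj_of_isGE_of_isLE T.obj₃ b
    haveI := isIso_homology_mor₂ T hT b
      (DerivedCategory.isZero_of_isLE T.obj₁ (b - 1) b (by omega))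
      (DerivedCategory.isZero_of_isLE T.obj₁ (b - 1) (b + 1) (by omega))
    have hG : Coh.IsCoh G :=
      isCoh_of_iso (asIso ((homologyFunctor X.Modules b).map T.mor₂) ≪≫
        (homologyFunctor X.Modules b).mapIso eG ≪≫
        (DerivedCategory.singleFunctorCompHomologyFunctorIso X.Modules b).app G) (hE b)
    have n3 : Fin A (O0 X) T.obj₃ := (fin_single G hG b).of_iso eG.symm
    exact Fin.obj₂ T hT n1 n3

/-- **`Hom(O_X, N)` is a finite `A`-module for `N ∈ D^+_Coh(O_X)`.** -/
theorem finite_hom_O (N : DCoh.D X) (hN : DCoh.IsCohD N) (a : ℤ) [N.IsGE a] :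
    Module.Finite A (O0 X ⟶ N) := by
  haveI : IsLocallyNoetherian X :=
    LocallyOfFiniteType.isLocallyNoetherian (X ↘ Spec (CommRingCat.of A))
  obtain ⟨c, hc⟩ : ∃ c : ℤ, c = 1 := ⟨1, rfl⟩
  let T := (TStructure.t.triangleLTGE c).obj N
  have hT : T ∈ distTriang _ := TStructure.t.triangleLTGE_distinguished c N
  haveI i1 : T.obj₁.IsLE (c - 1) := by dsimp [T]; infer_instance
  haveI i1' : T.obj₁.IsGE a := by dsimp [T]; infer_instance
  haveI i3 : T.obj₃.IsGE c := by dsimp [T]; infer_instance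
  have hy1 : DCoh.IsCohD T.obj₁ := isCohD_truncLT N hN c
  have n1 : Fin A (O0 X) T.obj₁ :=
    fin_bounded (c - 1 + 1 - a).toNat T.obj₁ (c - 1) i1
      (TStructure.t.isGE_of_ge T.obj₁ _ a (by omega)) hy1
  have h1 : Module.Finite A (O0 X ⟶ T.obj₁) :=
    finite_of_iso ((shiftFunctorZero (DCoh.D X) ℤ).app T.obj₁) (n1 0)
  haveI := h1
  refine Module.Finite.of_surjective (Linear.rightComp A (O0 X) T.mor₁) (fun f => ?_)
  haveI : (O0 X).IsLE 0 := inferInstance
  have hz : f ≫ T.mor₂ = 0 := TStructure.t.zero _ 0 c (by omega)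
  obtain ⟨g, hg⟩ := Triangle.coyoneda_exact₂ T hT f hz
  exact ⟨g, hg.symm⟩

end

end Groth.Agent.Lib.HomFinH3
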