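import Mathlib
import Groth.Prelude
import Groth.Agent.Lib.WeilGlue_helper7
import Groth.Agent.Lib.CentSch_helper1

/-!
# The scheme of homomorphisms out of a finite locally free group scheme, I (helper4)

Abstract part: from representability of the functors of morphisms `Mor_S(H, G)` and
`Mor_S(H ×_S H, G)` to representability of `Hom_{S-gr}(H, G)` (as an equaliser).
-/

set_option backward.isDefEq.respectTransparency.types false
set_option autoImplicit false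
set_option linter.unusedVariables false
set_option linter.unusedTactic false
set_option linter.unreachableTactic false
set_option linter.unusedSectionVars false
set_option linter.style.haveILetI false
set_option linter.deprecated false
set_option linter.unusedSimpArgs false
set_option linter.style.longLine false
set_option maxHeartbeats 1600000

universe u

open CategoryTheory CategoryTheory.Limits MonoidalCategory CartesianMonoidalCategory MonObj GrpObj
  AlgebraicGeometry Opposite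

namespace Groth.Agent.Lib.HomFinH4

open Groth.Agent.Lib.MorSOpenH4

variable {S : Scheme.{u}}

/-! ### From `Flatn.morS` to the tensor form -/

section MorRep

variable (Z X : Over S)

/-- The comparison isomorphism `Z ×_S T ≅ T ×_S Z` over `S`. -/
noncomputable def cT (T : Over S) : Z ⊗ T ≅ PX Z.hom T :=
  Over.isoMk (pullbackSymmetry Z.hom T.hom) (by
    show (pullbackSymmetry Z.hom T.hom).hom ≫ (pullback.snd T.hom Z.hom ≫ Z.hom) =
      pullback.fst Z.hom T.hom ≫ Z.hom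
    rw [← Category.assoc, pullbackSymmetry_hom_comp_snd])

lemma cT_hom_left (T : Over S) : (cT Z T).hom.left = (pullbackSymmetry Z.hom T.hom).hom := rfl

lemma cT_nat {T' T : Over S} (a : T' ⟶ T) :
    (Z ◁ a) ≫ (cT Z T).hom = (cT Z T').hom ≫ PXmap Z.hom a := by
  apply Over.OverMorphism.ext
  show (Z ◁ a).left ≫ (pullbackSymmetry Z.hom T.hom).hom =
    (pullbackSymmetry Z.hom T'.hom).hom ≫ (PXmap Z.hom a).left
  apply pullback.hom_ext
  · rw [Category.assoc, pullbackSymmetry_hom_comp_fst, Category.assoc, PXmap_left_fst,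
      ← Category.assoc, pullbackSymmetry_hom_comp_fst]
    exact Over.whiskerLeft_left_snd a
  · rw [Category.assoc, pullbackSymmetry_hom_comp_snd, Category.assoc, PXmap_left_snd,
      pullbackSymmetry_hom_comp_snd]
    exact Over.whiskerLeft_left_fst a

/-- Representability of `Mor_S(Z, X)` in tensor form. -/
def MorRepresents (W : Over S) (υ : Z ⊗ W ⟶ X) : Prop :=
  ∀ (T : Over S) (ψ : Z ⊗ T ⟶ X), ∃! a : T ⟶ W, (Z ◁ a) ≫ υ = ψ

theorem morRepresents_of_rep (W : Over S) (e : (Flatn.morS Z.hom X.hom).RepresentableBy W) :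
    ∃ υ : Z ⊗ W ⟶ X, MorRepresents Z X W υ := by
  let ξ : PX Z.hom W ⟶ X := e.homEquiv (𝟙 W)
  have hξ : ∀ {T : Over S} (a : T ⟶ W), (e.homEquiv a : PX Z.hom T ⟶ X) = PXmap Z.hom a ≫ ξ := by
    intro T a
    have h := (e.homEquiv_comp a (𝟙 W)).trans (Flatn.morS_map Z.hom X.hom a _)
    rw [Category.comp_id] at h
    exact h
  refine ⟨(cT Z W).hom ≫ ξ, ?_⟩
  intro T ψ
  refine ⟨e.homEquiv.symm ((cT Z T).inv ≫ ψ), ?_, ?_⟩
  · show (Z ◁ _) ≫ (cT Z W).hom ≫ ξ = ψ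
    rw [← Category.assoc, cT_nat, Category.assoc, ← hξ, Equiv.apply_symm_apply,
      Iso.hom_inv_id_assoc]
  · intro a ha
    apply e.homEquiv.injective
    rw [Equiv.apply_symm_apply]
    have h2 : (e.homEquiv a : PX Z.hom T ⟶ X) = (cT Z T).inv ≫ ψ := by
      rw [hξ, ← ha, ← Category.assoc (Z ◁ a), cT_nat, Category.assoc, Iso.inv_hom_id_assoc]
    exact h2

theorem exists_mor_rep (hZ : Mor2.IsFinLocFree Z.hom) [IsAffineHom X.hom] :
    ∃ (W : Over S) (υ : Z ⊗ W ⟶ X), IsAffineHom W.hom ∧ MorRepresents Z X W υ ∧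
      Nonempty ((Flatn.morS Z.hom X.hom).RepresentableBy W) := by
  obtain ⟨W, hW, ⟨e⟩⟩ := Groth.Agent.Lib.WeilGlueH7.main7194 Z.hom X.hom hZ
  obtain ⟨υ, hυ⟩ := morRepresents_of_rep Z X W e
  exact ⟨W, υ, hW, hυ, ⟨e⟩⟩

end MorRep

/-! ### Homomorphisms as an equaliser -/

section HomRep

variable (H G : Over S) [GrpObj H] [GrpObj G]

/-- The first point of `(H ⊗ H) ⊗ T`. -/
noncomputable def q₁ (T : Over S) : (H ⊗ H) ⊗ T ⟶ H := fst (H ⊗ H) T ≫ fst H H

/-- The second point of `(H ⊗ H) ⊗ T`. -/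
noncomputable def q₂ (T : Over S) : (H ⊗ H) ⊗ T ⟶ H := fst (H ⊗ H) T ≫ snd H H

/-- `(h₁, h₂, t) ↦ φ(h₁ h₂, t)`. -/
noncomputable def Lf {T : Over S} (φ : H ⊗ T ⟶ G) : (H ⊗ H) ⊗ T ⟶ G :=
  lift (q₁ H T * q₂ H T) (snd (H ⊗ H) T) ≫ φ

/-- `(h₁, h₂, t) ↦ φ(h₁, t) φ(h₂, t)`. -/
noncomputable def Rf {T : Over S} (φ : H ⊗ T ⟶ G) : (H ⊗ H) ⊗ T ⟶ G :=
  (lift (q₁ H T) (snd (H ⊗ H) T) ≫ φ) * (lift (q₂ H T) (snd (H ⊗ H) T) ≫ φ)

lemma wq₁ {T' T : Over S} (a : T' ⟶ T) : ((H ⊗ H) ◁ a) ≫ q₁ H T = q₁ H T' := by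
  unfold q₁
  rw [← Category.assoc, whiskerLeft_fst]

lemma wq₂ {T' T : Over S} (a : T' ⟶ T) : ((H ⊗ H) ◁ a) ≫ q₂ H T = q₂ H T' := by
  unfold q₂
  rw [← Category.assoc, whiskerLeft_fst]

lemma Lf_nat {T' T : Over S} (a : T' ⟶ T) (φ : H ⊗ T ⟶ G) :
    ((H ⊗ H) ◁ a) ≫ Lf H G φ = Lf H G ((H ◁ a) ≫ φ) := by
  unfold Lf
  rw [← Category.assoc, CartesianMonoidalCategory.comp_lift, MonObj.comp_mul, wq₁, wq₂,
    whiskerLeft_snd, ← Category.assoc (lift _ _) (H ◁ a) φ, lift_whiskerLeft]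

lemma Rf_nat {T' T : Over S} (a : T' ⟶ T) (φ : H ⊗ T ⟶ G) :
    ((H ⊗ H) ◁ a) ≫ Rf H G φ = Rf H G ((H ◁ a) ≫ φ) := by
  unfold Rf
  rw [MonObj.comp_mul]
  congr 1
  · rw [← Category.assoc, CartesianMonoidalCategory.comp_lift, wq₁, whiskerLeft_snd,
      ← Category.assoc (lift _ _) (H ◁ a) φ, lift_whiskerLeft]
  · rw [← Category.assoc, CartesianMonoidalCategory.comp_lift, wq₂, whiskerLeft_snd,
      ← Category.assoc (lift _ _) (H ◁ a) φ, lift_whiskerLeft]

lemma hom_iff {T : Over S} (φ : H ⊗ T ⟶ G) :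
    AutFam.IsHomFamily H G φ ↔ Lf H G φ = Rf H G φ := by
  constructor
  · intro h
    exact h _ (q₁ H T) (q₂ H T) (snd (H ⊗ H) T)
  · intro h X g₁ g₂ t
    have e1 : lift (lift g₁ g₂) t ≫ q₁ H T = g₁ := by
      unfold q₁
      rw [← Category.assoc, CartesianMonoidalCategory.lift_fst, CartesianMonoidalCategory.lift_fst]
    have e2 : lift (lift g₁ g₂) t ≫ q₂ H T = g₂ := by
      unfold q₂
      rw [← Category.assoc, CartesianMonoidalCategory.lift_fst, CartesianMonoidalCategory.lift_snd]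
    have e3 : lift (lift g₁ g₂) t ≫ snd (H ⊗ H) T = t := CartesianMonoidalCategory.lift_snd _ _
    have hL : lift (lift g₁ g₂) t ≫ Lf H G φ = lift (g₁ * g₂) t ≫ φ := by
      unfold Lf
      rw [← Category.assoc, CartesianMonoidalCategory.comp_lift, MonObj.comp_mul, e1, e2, e3]
    have hR : lift (lift g₁ g₂) t ≫ Rf H G φ = (lift g₁ t ≫ φ) * (lift g₂ t ≫ φ) := by
      unfold Rf
      rw [MonObj.comp_mul]
      congr 1
      · rw [← Category.assoc, CartesianMonoidalCategory.comp_lift, e1, e3]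
      · rw [← Category.assoc, CartesianMonoidalCategory.comp_lift, e2, e3]
    rw [← hL, ← hR, h]

theorem repHom_of_rep (W₁ W₂ : Over S) (υ₁ : H ⊗ W₁ ⟶ G) (υ₂ : (H ⊗ H) ⊗ W₂ ⟶ G)
    (h₁ : MorRepresents H G W₁ υ₁) (h₂ : MorRepresents (H ⊗ H) G W₂ υ₂) :
    ∃ (α β : W₁ ⟶ W₂),
      AutFam.RepresentsHom H G (equalizer α β) ((H ◁ equalizer.ι α β) ≫ υ₁) := by
  obtain ⟨α, hα, -⟩ := h₂ W₁ (Lf H G υ₁)
  obtain ⟨β, hβ, -⟩ := h₂ W₁ (Rf H G υ₁)
  have key : ∀ {T : Over S} (a : T ⟶ W₁),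
      a ≫ α = a ≫ β ↔ AutFam.IsHomFamily H G ((H ◁ a) ≫ υ₁) := by
    intro T a
    have e1 : ((H ⊗ H) ◁ (a ≫ α)) ≫ υ₂ = Lf H G ((H ◁ a) ≫ υ₁) := by
      rw [MonoidalCategory.whiskerLeft_comp, Category.assoc, hα, Lf_nat]
    have e2 : ((H ⊗ H) ◁ (a ≫ β)) ≫ υ₂ = Rf H G ((H ◁ a) ≫ υ₁) := by
      rw [MonoidalCategory.whiskerLeft_comp, Category.assoc, hβ, Rf_nat]
    rw [hom_iff, ← e1, ← e2]
    constructor
    · intro h
      rw [h]
    · intro h
      obtain ⟨c, -, huniq⟩ := h₂ T (((H ⊗ H) ◁ (a ≫ α)) ≫ υ₂)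
      exact (huniq _ rfl).trans (huniq _ h.symm).symm
  refine ⟨α, β, ?_, ?_⟩
  · exact (key _).mp (equalizer.condition α β)
  · intro T φ hφ
    obtain ⟨a₁, ha₁, hu₁⟩ := h₁ T φ
    have heq : a₁ ≫ α = a₁ ≫ β := (key a₁).mpr (by rw [ha₁]; exact hφ)
    refine ⟨equalizer.lift a₁ heq, ?_, ?_⟩
    · show (H ◁ _) ≫ (H ◁ _) ≫ υ₁ = φ
      rw [← Category.assoc, ← MonoidalCategory.whiskerLeft_comp, equalizer.lift_ι, ha₁]
    · intro a' ha'
      apply equalizer.hom_ext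
      rw [equalizer.lift_ι]
      apply hu₁
      rw [MonoidalCategory.whiskerLeft_comp, Category.assoc]
      exact ha'

end HomRep

end Groth.Agent.Lib.HomFinH4
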