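import Mathlib
import Groth.Prelude
import Groth.Agent.Lib.PjCx3_helper3
import Groth.Agent.Lib.PjShriek4_helper3

/-!
# `- ⊗^L E` is an `A`-linear functor on `D(O_X)` for `X` over `Spec A` (helper3)

* `tL_smul`: `(a • 𝟙_M) ⊗ N = a • 𝟙_{M ⊗ N}` on modules;
* `tensorCx_map_smul`: the same for complexes;
* `LTensorCx_map_smul`: `(- ⊗^L E).map (a • f) = a • (- ⊗^L E).map f`;
* `homEquiv_smul`: the adjunction bijection `Hom(K ⊗^L E, L) ≃ Hom(K, RHom(E, L))` is `A`-linear.
APPEND-ONLY once landed.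
-/

set_option autoImplicit false
set_option linter.all false
set_option maxHeartbeats 1600000
set_option backward.isDefEq.respectTransparency false
set_option backward.isDefEq.respectTransparency.types false
set_option backward.defeqAttrib.useBackward true

universe u
open CategoryTheory CategoryTheory.Limits AlgebraicGeometry Opposite TopologicalSpace
open HomologicalComplex

attribute [local instance] HasDerivedCategory.standard

namespace Groth.Agent.Lib.LTensLinH3

open Groth.Agent.Lib.StalkSkyL QcqsLoc MonoidalCategory Groth.Agent.Lib.StalkTensH3 PBH8 QCohExtn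
open PFormH9 TensH8 FLFH8 Groth.Agent.Lib.PullTensIsoH3 Groth.Agent.Lib.ProjFormulaH3 PullTensH9
open Groth.Agent.Lib.PjCxH3 Groth.Agent.Lib.PjShriekH3 DerivedCategory

noncomputable section

variable (A : Type u) [CommRing A] {X : Scheme.{u}} [X.Over (Spec (CommRingCat.of A))]

/-- `(a • 𝟙_M) ⊗ N = a • 𝟙_{M ⊗ N}` -/
theorem tL_smul (a : A) (M N : X.Modules) :
    ((DCoh.tensorBi (X := X)).map (a • 𝟙 M)).app N = a • 𝟙 (((DCoh.tensorBi (X := X)).obj M).obj N) := by
  apply PFormH9.hom_ext_tmul (M := M) (N := N)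
  intro U m n
  have h1 := tL_tm (a • 𝟙 M) N U m n
  have h2 : ap (a • 𝟙 M) U m =
      X.presheaf.map (homOfLE (le_top : U ≤ ⊤)).op
        (Coh.toGlobal (X ↘ Spec (CommRingCat.of A)) a) • m :=
    KLin.smul_app_apply a (𝟙 M) U m
  have h3 : ap (a • 𝟙 (CohB1.tensorMod M N)) U (tm M N U m n) =
      X.presheaf.map (homOfLE (le_top : U ≤ ⊤)).op
        (Coh.toGlobal (X ↘ Spec (CommRingCat.of A)) a) • tm M N U m n :=
    KLin.smul_app_apply a (𝟙 (CohB1.tensorMod M N)) U (tm M N U m n)
  rw [h2, tm_smul_left] at h1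
  exact h1.trans h3.symm

/-- the same for complexes -/
theorem tensorCx_map_smul (a : A) (K R : CochainComplex X.Modules ℤ) :
    (DCoh.tensorCx.map (a • 𝟙 K)).app R = a • 𝟙 ((DCoh.tensorCx.obj K).obj R) := by
  refine HomologicalComplex.hom_ext _ _ (fun n => ?_)
  apply HomologicalComplex.mapBifunctor.hom_ext
  intro p q hpq
  have hpq' : p + q = n := hpq
  have hR : CochainComplex.ιMapBifunctor K R (DCoh.tensorBi (X := X)) p q n hpq' ≫
      ((DCoh.tensorCx.map (a • 𝟙 K)).app R).f n =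
      ((DCoh.tensorBi (X := X)).map ((a • 𝟙 K : K ⟶ K).f p)).app (R.X q) ≫
        CochainComplex.ιMapBifunctor K R (DCoh.tensorBi (X := X)) p q n hpq' := by
    erw [HomologicalComplex.ι_mapBifunctorMap]
    rw [HomologicalComplex.id_f, CategoryTheory.Functor.map_id, Category.id_comp]
  have h1 : (a • 𝟙 K : K ⟶ K).f p = a • 𝟙 (K.X p) := by
    rw [HomologicalComplex.smul_f_apply, HomologicalComplex.id_f]
  have h2 : (a • 𝟙 ((DCoh.tensorCx.obj K).obj R) : _ ⟶ _).f n =
      a • 𝟙 (((DCoh.tensorCx.obj K).obj R).X n) := by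
    rw [HomologicalComplex.smul_f_apply, HomologicalComplex.id_f]
  show CochainComplex.ιMapBifunctor K R (DCoh.tensorBi (X := X)) p q n hpq' ≫
      ((DCoh.tensorCx.map (a • 𝟙 K)).app R).f n =
    CochainComplex.ιMapBifunctor K R (DCoh.tensorBi (X := X)) p q n hpq' ≫
      (a • 𝟙 ((DCoh.tensorCx.obj K).obj R) : _ ⟶ _).f n
  rw [hR, h1, tL_smul, h2, Linear.smul_comp, Linear.comp_smul, Category.id_comp]
  erw [Category.comp_id]

variable (E : CochainComplex X.Modules ℤ) [DCoh.HasLTensorCx E]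

theorem LTensorCx_map_smul_id_Q (a : A) (K : CochainComplex X.Modules ℤ) :
    (DCoh.LTensorCx E).map (a • 𝟙 (Q.obj K)) = a • 𝟙 ((DCoh.LTensorCx E).obj (Q.obj K)) := by
  obtain ⟨R, π, hR, hπ⟩ := Groth.Agent.Lib.DTorCmp.exists_kflat_resolution' E
  haveI := hπ
  obtain ⟨e⟩ := nonempty_ltNatIso E R π hR
  have h1 : a • 𝟙 (Q.obj K) = Q.map (a • 𝟙 K) := by
    rw [Functor.map_smul, CategoryTheory.Functor.map_id]
  have h2 := e.hom.naturality (a • 𝟙 K)
  have h3 : (DCoh.LTensorCx E).map (Q.map (a • 𝟙 K)) =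
      (e.app K).hom ≫ Q.map ((DCoh.tensorCx.map (a • 𝟙 K)).app R) ≫ (e.app K).inv := by
    have h4 : (DCoh.LTensorCx E).map (Q.map (a • 𝟙 K)) ≫ (e.app K).hom =
        (e.app K).hom ≫ Q.map ((DCoh.tensorCx.map (a • 𝟙 K)).app R) := h2
    rw [← Category.assoc, Iso.eq_comp_inv]
    exact h4
  rw [h1, h3, tensorCx_map_smul, Functor.map_smul]
  erw [CategoryTheory.Functor.map_id]
  rw [Linear.smul_comp, Linear.comp_smul]
  erw [Category.id_comp]
  rw [Iso.hom_inv_id]
  rfl

theorem LTensorCx_map_smul_id (a : A) (K : DCoh.D X) :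
    (DCoh.LTensorCx E).map (a • 𝟙 K) = a • 𝟙 ((DCoh.LTensorCx E).obj K) := by
  let θ := Q.objObjPreimageIso K
  have h1 : a • 𝟙 K = θ.inv ≫ (a • 𝟙 (Q.obj (Q.objPreimage K))) ≫ θ.hom := by
    rw [Linear.smul_comp, Linear.comp_smul, Category.id_comp, Iso.inv_hom_id]
  rw [h1, CategoryTheory.Functor.map_comp, CategoryTheory.Functor.map_comp,
    LTensorCx_map_smul_id_Q, Linear.smul_comp,
    Linear.comp_smul, Category.id_comp, ← CategoryTheory.Functor.map_comp, Iso.inv_hom_id,
    CategoryTheory.Functor.map_id]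

/-- **`- ⊗^L E` is `A`-linear.** -/
theorem LTensorCx_map_smul (a : A) {K L : DCoh.D X} (f : K ⟶ L) :
    (DCoh.LTensorCx E).map (a • f) = a • (DCoh.LTensorCx E).map f := by
  have h1 : a • f = (a • 𝟙 K) ≫ f := by rw [Linear.smul_comp, Category.id_comp]
  rw [h1, CategoryTheory.Functor.map_comp, LTensorCx_map_smul_id, Linear.smul_comp,
    Category.id_comp]

/-- **the tensor-hom adjunction bijection is `A`-linear** -/
theorem homEquiv_smul [DCoh.HasRSheafHom E] (a : A) {K L : DCoh.D X}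
    (f : (DCoh.LTensorCx E).obj K ⟶ L) :
    (DCoh.RSheafHomAdj E).homEquiv K L (a • f) = a • (DCoh.RSheafHomAdj E).homEquiv K L f := by
  have h1 : a • f = (DCoh.LTensorCx E).map (a • 𝟙 K) ≫ f := by
    rw [LTensorCx_map_smul_id, Linear.smul_comp, Category.id_comp]
  rw [h1, Adjunction.homEquiv_naturality_left, Linear.smul_comp, Category.id_comp]

/-- the adjunction bijection as a linear equivalence -/
def homLinearEquiv [DCoh.HasRSheafHom E] (K L : DCoh.D X) :
    ((DCoh.LTensorCx E).obj K ⟶ L) ≃ₗ[A] (K ⟶ (DCoh.RSheafHom E).obj L) where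
  toFun := (DCoh.RSheafHomAdj E).homEquiv K L
  invFun := ((DCoh.RSheafHomAdj E).homEquiv K L).symm
  left_inv := ((DCoh.RSheafHomAdj E).homEquiv K L).left_inv
  right_inv := ((DCoh.RSheafHomAdj E).homEquiv K L).right_inv
  map_add' f g := by
    haveI : PreservesColimitsOfSize.{0, 0} (DCoh.LTensorCx E) :=
      (DCoh.RSheafHomAdj E).leftAdjoint_preservesColimits
    haveI := preservesBinaryBiproducts_of_preservesBinaryCoproducts (DCoh.LTensorCx E)
    haveI : (DCoh.LTensorCx E).Additive := Functor.additive_of_preservesBinaryBiproducts _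
    haveI : (DCoh.RSheafHom E).Additive := (DCoh.RSheafHomAdj E).right_adjoint_additive
    rw [Adjunction.homEquiv_unit, Adjunction.homEquiv_unit, Adjunction.homEquiv_unit,
      Functor.map_add, Preadditive.comp_add]
  map_smul' a f := homEquiv_smul A E a f

end

end Groth.Agent.Lib.LTensLinH3
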