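import Mathlib
import Groth.Prelude
import Groth.Agent.Lib.HomFin1_helper3
import Groth.Agent.Lib.LTensLin1_helper3
import Groth.Agent.Lib.RHomPC3_helper3
import Groth.Agent.Lib.RSheafHomEx1_helper3
import Groth.Agent.Lib.DualSch2_helper3
import Groth.Agent.Lib.PjCx16_helper3
import Groth.Agent.Lib.PerfMorPush_helper3
import Groth.Agent.Lib.HomVan2_lead

/-!
# Finiteness of `Ext^n(K, L)` on a scheme proper over a Noetherian ring (helper3)

* `main7277`: `K ∈ D^-_Coh`, `L ∈ D^+_Coh` ⟹ `Hom(K, L[n])` is a finite `A`-module.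
* `main6742`: over a field, `E` perfect and `K ∈ D^b_Coh`: `Ext^i(E, K)` finite dimensional and
  nonzero for finitely many `i`.
APPEND-ONLY once landed.
-/

set_option autoImplicit false
set_option linter.all false
set_option maxHeartbeats 1600000
set_option backward.isDefEq.respectTransparency false
set_option backward.isDefEq.respectTransparency.types false
set_option backward.defeqAttrib.useBackward true

universe u

open CategoryTheory CategoryTheory.Limits AlgebraicGeometry Opposite TopologicalSpace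
open CategoryTheory.Pretriangulated

attribute [local instance] HasDerivedCategory.standard

namespace Groth.Agent.Lib.HomFinH3

open DerivedCategory Groth.Agent.Lib.RpushCohDH3

noncomputable section

variable (A : Type u) [CommRing A] [IsNoetherianRing A] {X : Scheme.{u}}
  [X.Over (Spec (CommRingCat.of A))] [IsProper (X ↘ Spec (CommRingCat.of A))]

/-- **S7277** -/
theorem main7277 (K L : DCoh.D X) (hK : DCoh.IsCohD K) (b : ℤ) [K.IsLE b]
    (hL : DCoh.IsCohD L) (a : ℤ) [L.IsGE a] (n : ℤ) : Module.Finite A (K ⟶ L⟦n⟧) := by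
  haveI : IsLocallyNoetherian X :=
    LocallyOfFiniteType.isLocallyNoetherian (X ↘ Spec (CommRingCat.of A))
  obtain ⟨P, q, hP, hq⟩ := Groth.Agent.Lib.DTorCmp.exists_kflat_resolution' (Q.objPreimage K)
  haveI := hq
  haveI : IsIso (Q.map q) := by rw [DerivedCategory.isIso_Q_map_iff_quasiIso]; infer_instance
  let θ : Q.obj P ≅ K := asIso (Q.map q) ≪≫ Q.objObjPreimageIso K
  haveI := Groth.Agent.Lib.PjCxH3.hasLTensorCx_of_isKFlat P hP
  haveI := Groth.Agent.Lib.RSheafHomExH3.hasRSheafHom P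
  haveI : (DCoh.toD X P).IsLE b := TStructure.t.isLE_of_iso θ.symm b
  have hP' : DCoh.IsCohD (DCoh.toD X P) := isCohD_of_iso θ.symm hK
  haveI : (L⟦n⟧).IsGE (a - n) := TStructure.t.isGE_shift L a n (a - n) (by omega)
  have hLn : DCoh.IsCohD (L⟦n⟧) := isCohD_shift L hL n
  obtain ⟨h1, a', h2⟩ := Groth.Agent.Lib.RHomPCH3.main1116 P b hP' (L⟦n⟧) (a - n) hLn
  haveI := h2
  haveI hfin : Module.Finite A (O0 X ⟶ (DCoh.RSheafHom P).obj (L⟦n⟧)) :=
    finite_hom_O _ h1 a'
  have h3 : Module.Finite A ((DCoh.LTensorCx P).obj (O0 X) ⟶ L⟦n⟧) :=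
    Module.Finite.equiv (Groth.Agent.Lib.LTensLinH3.homLinearEquiv A P (O0 X) (L⟦n⟧)).symm
  obtain ⟨u⟩ := Groth.Agent.Lib.DualSchH3.nonempty_LTensorCx_unit_iso P hP
  exact finite_of_iso_left (u ≪≫ θ) h3

end

noncomputable section

/-- **S6742** -/
theorem main6742 (k : Type u) [Field k] (X : Scheme.{u}) [X.Over (Spec (.of k))]
    [IsProper (X ↘ Spec (.of k))] (K : DCoh.D X) (hK : SGA6.cohbP X K) (E : DCoh.D X)
    (hE : DCoh.IsPerfect E) :
    (∀ i : ℤ, Module.Finite k (E ⟶ (shiftFunctor (DCoh.D X) i).obj K)) ∧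
      Set.Finite {i : ℤ | Nontrivial (E ⟶ (shiftFunctor (DCoh.D X) i).obj K)} := by
  haveI : IsLocallyNoetherian X :=
    LocallyOfFiniteType.isLocallyNoetherian (X ↘ Spec (CommRingCat.of k))
  haveI : CompactSpace X :=
    QuasiCompact.compactSpace_of_compactSpace (X ↘ Spec (CommRingCat.of k))
  haveI : QuasiSeparatedSpace X := inferInstance
  obtain ⟨hKc, a, b, ha, hb⟩ := hK
  haveI := ha
  haveI := hb
  obtain ⟨bE, hbE⟩ := Groth.Agent.Lib.PerfMorPushH3.exists_isLE_of_isPerfect E hE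
  haveI := hbE
  have hEc : DCoh.IsCohD E := fun i => Groth.Agent.Lib.TensPCH3.isCoh_HD_of_isPC E
    (fun m => Groth.Agent.Lib.DCohLocLead.isPC_of_isPerfect hE m) i
  refine ⟨fun i => main7277 k E K hEc bE hKc a i, ?_⟩
  have h := (Groth.Agent.Lib.HomVanL.main1011 X E hE).2 K a b (fun i => (hKc i).1) ha hb
  refine h.subset ?_
  intro i hi
  obtain ⟨φ, hφ⟩ := @exists_ne _ hi (0 : E ⟶ (shiftFunctor (DCoh.D X) i).obj K)
  exact ⟨φ, hφ⟩

end

end Groth.Agent.Lib.HomFinH3
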