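import Mathlib
import Groth.Prelude
import Groth.Agent.Lib.HomFin1_helper4

/-!
# The scheme of homomorphisms out of a finite locally free group scheme, II (helper4)

Finiteness properties of the Weil restriction `Mor_S(Z, X)` along a finite locally free `Z → S`:
if `X → S` is locally of finite type (resp. presentation), so is the representing object.
-/

set_option backward.isDefEq.respectTransparency.types false
set_option autoImplicit false
set_option linter.unusedVariables false
set_option linter.unusedTactic false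
set_option linter.unreachableTactic false
set_option linter.unusedSectionVars false
set_option linter.style.haveILetI false
set_option linter.deprecated false
set_option linter.unusedSimpArgs false
set_option linter.style.longLine false
set_option maxHeartbeats 1600000

universe u

open CategoryTheory CategoryTheory.Limits AlgebraicGeometry Opposite TensorProduct

namespace Groth.Agent.Lib.HomFinH4

open Groth.Agent.Lib.MorSOpenH4 Groth.Agent.Lib.WeilSchH7 Groth.Agent.Lib.WeilAlgH7
  Groth.Agent.Lib.WeilGlueH7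

/-! ### The Weil restriction algebra of a finitely generated / presented algebra -/

section Ring

variable {R : Type u} [CommRing R] {B : Type u} [CommRing B] [Algebra R B]
  {ι : Type u} [Fintype ι] (b : Module.Basis ι R B)

lemma content_fg {A : Type u} [CommRing A] [Algebra R A] (N : Ideal (A ⊗[R] B)) (hN : N.FG) :
    (content b N).FG := by
  classical
  haveI : Module.Finite R B := Module.Finite.of_basis b
  have h1 : (Submodule.restrictScalars A N).FG := Submodule.FG.restrictScalars hN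
  have h2 : ∀ i, ((Submodule.restrictScalars A N).map
      ((Algebra.TensorProduct.basis A b).coord i)).FG := fun i => h1.map _
  have h3 : (⨆ i, (Submodule.restrictScalars A N).map
      ((Algebra.TensorProduct.basis A b).coord i)).FG := Submodule.fg_iSup _ h2
  have e : content b N = ⨆ i, (Submodule.restrictScalars A N).map
      ((Algebra.TensorProduct.basis A b).coord i) := by
    apply le_antisymm
    · unfold content
      rw [Ideal.span_le]
      rintro a ⟨n, hn, i, rfl⟩
      refine (le_iSup (fun i => (Submodule.restrictScalars A N).map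
        ((Algebra.TensorProduct.basis A b).coord i)) i) ?_
      exact Submodule.mem_map.mpr ⟨n, hn, rfl⟩
    · refine iSup_le fun i => ?_
      rintro _ ⟨n, hn, rfl⟩
      exact Ideal.subset_span ⟨n, hn, i, rfl⟩
  rw [e]
  exact h3

variable (R B)

lemma WR_ft {C : Type u} [CommRing C] [Algebra R C] {σ : Type u} [Finite σ]
    (π : MvPolynomial σ R →ₐ[R] C) : Algebra.FiniteType R (WR R B b π) := by
  haveI : Finite (σ × ι) := inferInstance
  exact Algebra.FiniteType.of_surjective (q R B b π) (q_surjective R B b π)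

lemma WR_fp {C : Type u} [CommRing C] [Algebra R C] {σ : Type u} [Finite σ]
    (π : MvPolynomial σ R →ₐ[R] C) (hπ : (RingHom.ker π.toRingHom).FG) :
    Algebra.FinitePresentation R (WR R B b π) := by
  haveI : Finite (σ × ι) := inferInstance
  have hNN : (NN R B b π).FG := by
    unfold NN
    exact Ideal.FG.map hπ _
  have hII : (II R B b π).FG := content_fg b _ hNN
  show Algebra.FinitePresentation R (MvPolynomial (σ × ι) R ⧸ II R B b π)
  exact Algebra.FinitePresentation.quotient hII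

end Ring

theorem exists_weilAlg_ft (R : Type u) [CommRing R] (B : Type u) [CommRing B] [Algebra R B]
    [Module.Finite R B] [Module.Free R B] (C : Type u) [CommRing C] [Algebra R C]
    (hC : Algebra.FiniteType R C) :
    ∃ (W : Type u) (_ : CommRing W) (_ : Algebra R W) (univ : C →ₐ[R] W ⊗[R] B),
      (∀ (A : Type u) [CommRing A] [Algebra R A],
        Function.Bijective (fun ρ : W →ₐ[R] A =>
          (Algebra.TensorProduct.map ρ (AlgHom.id R B)).comp univ)) ∧
      Algebra.FiniteType R W := by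
  obtain ⟨σ, hσ, π, hπ⟩ := Algebra.FiniteType.iff_quotient_mvPolynomial'.mp hC
  let b := Module.Free.chooseBasis R B
  exact ⟨WR R B b π, inferInstance, inferInstance, univ R B b π hπ,
    fun A _ _ => Φ_bijective R B b π hπ A, WR_ft R B b π⟩

theorem exists_weilAlg_fp (R : Type u) [CommRing R] (B : Type u) [CommRing B] [Algebra R B]
    [Module.Finite R B] [Module.Free R B] (C : Type u) [CommRing C] [Algebra R C]
    (hC : Algebra.FinitePresentation R C) :
    ∃ (W : Type u) (_ : CommRing W) (_ : Algebra R W) (univ : C →ₐ[R] W ⊗[R] B),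
      (∀ (A : Type u) [CommRing A] [Algebra R A],
        Function.Bijective (fun ρ : W →ₐ[R] A =>
          (Algebra.TensorProduct.map ρ (AlgHom.id R B)).comp univ)) ∧
      Algebra.FinitePresentation R W := by
  obtain ⟨σ, hσ, π, hπ, hker⟩ :=
    (Algebra.FinitePresentation.iff_quotient_mvPolynomial'.{u, u, u} (R := R) (A := C)).mp hC
  let b := Module.Free.chooseBasis R B
  exact ⟨WR R B b π, inferInstance, inferInstance, univ R B b π hπ,
    fun A _ _ => Φ_bijective R B b π hπ A, WR_fp R B b π hker⟩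

/-! ### The affine representing object attached to a Weil restriction algebra -/

attribute [local instance] Groth.Agent.Lib.WeilSchH7.algOver

theorem rep_of_weilAlg {S : Scheme.{u}} [IsAffine S] (ZO XO : Over S) (hZ : IsAffine ZO.left)
    (hX : IsAffine XO.left) (WA : Type u) [CommRing WA] [Algebra Γ(S, ⊤) WA]
    (univ : Γ(XO.left, ⊤) →ₐ[Γ(S, ⊤)] WA ⊗[Γ(S, ⊤)] Γ(ZO.left, ⊤))
    (hbij : ∀ (A : Type u) [CommRing A] [Algebra Γ(S, ⊤) A],
      Function.Bijective (fun ρ : WA →ₐ[Γ(S, ⊤)] A =>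
        (Algebra.TensorProduct.map ρ (AlgHom.id Γ(S, ⊤) Γ(ZO.left, ⊤))).comp univ)) :
    Nonempty ((FF ZO XO).RepresentableBy
      (Over.mk (Spec.map (CommRingCat.ofHom (algebraMap Γ(S, ⊤) WA)) ≫ S.isoSpec.inv))) := by
  let α : Γ(S, ⊤) ⟶ CommRingCat.of WA := CommRingCat.ofHom (algebraMap Γ(S, ⊤) WA)
  let W : Over S := Over.mk (Spec.map α ≫ S.isoSpec.inv)
  have hW : IsAffine W.left := (inferInstance : IsAffine (Spec (CommRingCat.of WA)))
  have hWtop : W.hom.appTop = α ≫ (Scheme.ΓSpecIso (CommRingCat.of WA)).inv := by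
    show (Spec.map α ≫ S.isoSpec.inv).appTop = _
    rw [Scheme.Hom.comp_appTop, isoSpec_inv_appTop, ← Scheme.ΓSpecIso_inv_naturality]
  let e₀ : WA ≃+* Γ(W.left, ⊤) :=
    (Scheme.ΓSpecIso (CommRingCat.of WA)).symm.commRingCatIsoToRingEquiv
  have he₀ : ∀ r, e₀ (algebraMap Γ(S, ⊤) WA r) = algebraMap Γ(S, ⊤) Γ(W.left, ⊤) r := by
    intro r
    show _ = W.hom.appTop.hom r
    rw [hWtop]
    rfl
  let e : WA ≃ₐ[Γ(S, ⊤)] Γ(W.left, ⊤) := AlgEquiv.ofRingEquiv (f := e₀) he₀
  let univ' : Γ(XO.left, ⊤) →ₐ[Γ(S, ⊤)] Γ(W.left, ⊤) ⊗[Γ(S, ⊤)] Γ(ZO.left, ⊤) :=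
    (Algebra.TensorProduct.map e.toAlgHom (AlgHom.id Γ(S, ⊤) Γ(ZO.left, ⊤))).comp univ
  have hcomp : ∀ (A : Type u) [CommRing A] [Algebra Γ(S, ⊤) A]
      (ρ' : Γ(W.left, ⊤) →ₐ[Γ(S, ⊤)] A),
      (Algebra.TensorProduct.map ρ' (AlgHom.id Γ(S, ⊤) Γ(ZO.left, ⊤))).comp univ' =
        (Algebra.TensorProduct.map (ρ'.comp e.toAlgHom)
          (AlgHom.id Γ(S, ⊤) Γ(ZO.left, ⊤))).comp univ := by
    intro A _ _ ρ'
    apply AlgHom.ext
    intro c
    exact WeilAlgH7.map_map Γ(S, ⊤) Γ(ZO.left, ⊤) e.toAlgHom ρ' (univ c)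
  have hbij' : ∀ (A : Type u) [CommRing A] [Algebra Γ(S, ⊤) A],
      Function.Bijective (fun ρ' : Γ(W.left, ⊤) →ₐ[Γ(S, ⊤)] A =>
        (Algebra.TensorProduct.map ρ' (AlgHom.id Γ(S, ⊤) Γ(ZO.left, ⊤))).comp univ') := by
    intro A _ _
    constructor
    · intro ρ₁ ρ₂ h
      have h' : (Algebra.TensorProduct.map (ρ₁.comp e.toAlgHom)
          (AlgHom.id Γ(S, ⊤) Γ(ZO.left, ⊤))).comp univ =
          (Algebra.TensorProduct.map (ρ₂.comp e.toAlgHom)
            (AlgHom.id Γ(S, ⊤) Γ(ZO.left, ⊤))).comp univ := by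
        rw [← hcomp A ρ₁, ← hcomp A ρ₂]
        exact h
      have h2 : ρ₁.comp e.toAlgHom = ρ₂.comp e.toAlgHom := (hbij A).1 h'
      apply AlgHom.ext
      intro x
      have h3 := AlgHom.congr_fun h2 (e.symm x)
      simpa using h3
    · intro ψ
      obtain ⟨ρ, hρ⟩ := (hbij A).2 ψ
      refine ⟨ρ.comp e.symm.toAlgHom, ?_⟩
      show (Algebra.TensorProduct.map (ρ.comp e.symm.toAlgHom)
        (AlgHom.id Γ(S, ⊤) Γ(ZO.left, ⊤))).comp univ' = ψ
      rw [hcomp A]
      have h4 : (ρ.comp e.symm.toAlgHom).comp e.toAlgHom = ρ := by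
        apply AlgHom.ext
        intro x
        simp
      rw [h4]
      exact hρ
  exact representable ZO XO W univ' hbij' hZ hX hW

/-- The affine local statement: a representing object with property `P`. -/
def AffRep (P : MorphismProperty Scheme.{u}) : Prop :=
  ∀ (S : Scheme.{u}) [IsAffine S] (ZO XO : Over S), IsAffine ZO.left → IsAffine XO.left →
    Module.Finite Γ(S, ⊤) Γ(ZO.left, ⊤) → Module.Free Γ(S, ⊤) Γ(ZO.left, ⊤) → P XO.hom →
    ∃ W : Over S, P W.hom ∧ Nonempty ((FF ZO XO).RepresentableBy W)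

theorem affRep_lft : AffRep (@LocallyOfFiniteType : MorphismProperty Scheme.{u}) := by
  intro S _ ZO XO hZ hX hfin hfree hP
  haveI := hfin
  haveI := hfree
  have hC : Algebra.FiniteType Γ(S, ⊤) Γ(XO.left, ⊤) := by
    haveI := hX
    exact (HasRingHomProperty.iff_of_isAffine (P := @LocallyOfFiniteType)).mp hP
  obtain ⟨WA, iR, iA, univ, hbij, hfin'⟩ :=
    exists_weilAlg_ft Γ(S, ⊤) Γ(ZO.left, ⊤) Γ(XO.left, ⊤) hC
  refine ⟨_, ?_, rep_of_weilAlg ZO XO hZ hX WA univ hbij⟩
  show LocallyOfFiniteType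
    (Spec.map (CommRingCat.ofHom (algebraMap Γ(S, ⊤) WA)) ≫ S.isoSpec.inv)
  haveI : LocallyOfFiniteType (Spec.map (CommRingCat.ofHom (algebraMap Γ(S, ⊤) WA))) := by
    rw [HasRingHomProperty.Spec_iff (P := @LocallyOfFiniteType)]
    exact RingHom.finiteType_algebraMap.mpr hfin'
  infer_instance

theorem affRep_lfp : AffRep (@LocallyOfFinitePresentation : MorphismProperty Scheme.{u}) := by
  intro S _ ZO XO hZ hX hfin hfree hP
  haveI := hfin
  haveI := hfree
  have hC : Algebra.FinitePresentation Γ(S, ⊤) Γ(XO.left, ⊤) := by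
    haveI := hX
    exact (HasRingHomProperty.iff_of_isAffine (P := @LocallyOfFinitePresentation)).mp hP
  obtain ⟨WA, iR, iA, univ, hbij, hfin'⟩ :=
    exists_weilAlg_fp Γ(S, ⊤) Γ(ZO.left, ⊤) Γ(XO.left, ⊤) hC
  refine ⟨_, ?_, rep_of_weilAlg ZO XO hZ hX WA univ hbij⟩
  show LocallyOfFinitePresentation
    (Spec.map (CommRingCat.ofHom (algebraMap Γ(S, ⊤) WA)) ≫ S.isoSpec.inv)
  haveI : LocallyOfFinitePresentation
      (Spec.map (CommRingCat.ofHom (algebraMap Γ(S, ⊤) WA))) := by
    rw [HasRingHomProperty.Spec_iff (P := @LocallyOfFinitePresentation)]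
    exact RingHom.finitePresentation_algebraMap.mpr hfin'
  infer_instance

/-! ### Local representing objects with property `P` -/

theorem exists_local_rep_P (P : MorphismProperty Scheme.{u}) [P.IsStableUnderBaseChange]
    (hP : AffRep P) {Z X S : Scheme.{u}} (g : Z ⟶ S) (f : X ⟶ S) [IsFinite g] [Flat g]
    [LocallyOfFinitePresentation g] [IsAffineHom f] (hf : P f) (s : S) :
    ∃ (V : S.Opens) (_ : s ∈ V) (W₀ : Over (V : Scheme.{u})), P W₀.hom ∧
      Nonempty (((Over.map V.ι).op ⋙ FF (Over.mk g) (Over.mk f)).RepresentableBy W₀) := by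
  obtain ⟨V, ⟨hVaff, hfree⟩, hsV, -⟩ := FlatNormH4.exists_isFreeOpen g ⊤ s trivial
  have hfin : (g.app V).hom.Finite := IsFinite.finite_app g V hVaff
  haveI : IsAffine (V : Scheme.{u}) := hVaff
  let gv : pullback g V.ι ⟶ (V : Scheme.{u}) := pullback.snd g V.ι
  let fv : pullback f V.ι ⟶ (V : Scheme.{u}) := pullback.snd f V.ι
  let j : pullback g V.ι ⟶ Z := pullback.fst g V.ι
  have hjU : j ''ᵁ ⊤ = g ⁻¹ᵁ V := by
    rw [Scheme.Hom.image_top_eq_opensRange]
    apply TopologicalSpace.Opens.ext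
    show Set.range j = g ⁻¹' (V : Set S)
    rw [Scheme.Pullback.range_fst, Scheme.Opens.range_ι]
  have hle₁ : (⊤ : (V : Scheme.{u}).Opens) ≤ V.ι ⁻¹ᵁ V := fun x _ => x.2
  have hle₂ : (⊤ : (pullback g V.ι).Opens) ≤ j ⁻¹ᵁ (g ⁻¹ᵁ V) := by
    intro z _
    show g (j z) ∈ V
    rw [← Scheme.Hom.comp_apply, pullback.condition, Scheme.Hom.comp_apply]
    exact (gv z).2
  haveI i₁ : IsIso (V.ι.appLE V ⊤ hle₁) := isIso_appLE_top V.ι V V.ι_image_top hle₁
  haveI i₂ : IsIso (j.appLE (g ⁻¹ᵁ V) ⊤ hle₂) := isIso_appLE_top j _ hjU hle₂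
  let e₁ : Γ(S, V) ≃+* Γ((V : Scheme.{u}), ⊤) :=
    (asIso (V.ι.appLE V ⊤ hle₁)).commRingCatIsoToRingEquiv
  let e₂ : Γ(Z, g ⁻¹ᵁ V) ≃+* Γ(pullback g V.ι, ⊤) :=
    (asIso (j.appLE (g ⁻¹ᵁ V) ⊤ hle₂)).commRingCatIsoToRingEquiv
  have htop : gv.appTop = gv.appLE ⊤ ⊤ le_top := by
    simp [Scheme.Hom.appLE]
  have hc : g.app V ≫ j.appLE (g ⁻¹ᵁ V) ⊤ hle₂ = V.ι.appLE V ⊤ hle₁ ≫ gv.appTop := by
    rw [htop, Scheme.Hom.app_eq_appLE, Scheme.Hom.appLE_comp_appLE, Scheme.Hom.appLE_comp_appLE]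
    exact appLE_congr pullback.condition _ _ _ _
  have hc' : ∀ r, e₂ ((g.app V).hom r) = gv.appTop.hom (e₁ r) := fun r =>
    congrArg (fun k => k.hom r) hc
  obtain ⟨tfree, tfin⟩ := transport_free_finite (g.app V).hom gv.appTop.hom e₁ e₂ hc'
  have hZ : IsAffine (Over.mk gv).left := (inferInstance : IsAffine (pullback g V.ι))
  have hX : IsAffine (Over.mk fv).left := (inferInstance : IsAffine (pullback f V.ι))
  have hPfv : P (Over.mk fv).hom := MorphismProperty.pullback_snd (P := P) f V.ι hf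
  obtain ⟨W₀, hW₀, ⟨e₀⟩⟩ := hP (V : Scheme.{u}) (Over.mk gv) (Over.mk fv) hZ hX (tfin hfin)
    (tfree hfree) hPfv
  exact ⟨V, hsV, W₀, hW₀, ⟨e₀.ofIso (αIso g f V.ι).symm⟩⟩

/-! ### The global statement -/

theorem P_of_rep (P : MorphismProperty Scheme.{u}) [P.IsStableUnderBaseChange]
    [IsZariskiLocalAtTarget P] (hP : AffRep P) {Z X S : Scheme.{u}} (g : Z ⟶ S) (f : X ⟶ S)
    [IsFinite g] [Flat g] [LocallyOfFinitePresentation g] [IsAffineHom f] (W : Over S)
    (e : (Flatn.morS g f).RepresentableBy W) (hf : P f) : P W.hom := by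
  haveI : P.RespectsIso := inferInstance
  apply IsZariskiLocalAtTarget.of_forall_exists_morphismRestrict
  intro s
  obtain ⟨V, hsV, W₀, hW₀, ⟨e₀⟩⟩ := exists_local_rep_P P hP g f hf s
  refine ⟨V, hsV, ?_⟩
  let r1 : ((Over.map V.ι).op ⋙ yoneda.obj W).RepresentableBy ((Over.pullback V.ι).obj W) :=
    (Over.mapPullbackAdj V.ι).representableBy W
  let r2 : ((Over.map V.ι).op ⋙ FF (Over.mk g) (Over.mk f)).RepresentableBy
      ((Over.pullback V.ι).obj W) :=
    r1.ofIso (Functor.isoWhiskerLeft (Over.map V.ι).op e.toIso)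
  let i : (Over.pullback V.ι).obj W ≅ W₀ := r2.uniqueUpToIso e₀
  have hw : pullback.snd W.hom V.ι = i.hom.left ≫ W₀.hom := (Over.w i.hom).symm
  show P ((pullbackRestrictIsoRestrict W.hom V).inv ≫ pullback.snd W.hom V.ι)
  rw [P.cancel_left_of_respectsIso, hw]
  exact (P.cancel_left_of_respectsIso ((Over.forget _).mapIso i).hom W₀.hom).mpr hW₀

theorem lft_of_rep {Z X S : Scheme.{u}} (g : Z ⟶ S) (f : X ⟶ S)
    [IsFinite g] [Flat g] [LocallyOfFinitePresentation g] [IsAffineHom f] (W : Over S)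
    (e : (Flatn.morS g f).RepresentableBy W) [LocallyOfFiniteType f] :
    LocallyOfFiniteType W.hom :=
  P_of_rep (@LocallyOfFiniteType) affRep_lft g f W e inferInstance

theorem lfp_of_rep {Z X S : Scheme.{u}} (g : Z ⟶ S) (f : X ⟶ S)
    [IsFinite g] [Flat g] [LocallyOfFinitePresentation g] [IsAffineHom f] (W : Over S)
    (e : (Flatn.morS g f).RepresentableBy W) [LocallyOfFinitePresentation f] :
    LocallyOfFinitePresentation W.hom :=
  P_of_rep (@LocallyOfFinitePresentation) affRep_lfp g f W e inferInstance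

end Groth.Agent.Lib.HomFinH4
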