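import Mathlib
import Groth.Prelude
import Groth.Agent.Lib.HomFin2_helper4
import Groth.Agent.Lib.MTN6_helper4

/-!
# The scheme of homomorphisms out of a finite group of multiplicative type (helper4)

`Hom_{S-gr}(H, G)` is representable by a scheme affine over `S` for `H` finite of multiplicative
type and `G` affine over `S` (SGA3 XI 3.12 b).
-/

set_option backward.isDefEq.respectTransparency.types false
set_option autoImplicit false
set_option linter.unusedVariables false
set_option linter.unusedTactic false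
set_option linter.unreachableTactic false
set_option linter.unusedSectionVars false
set_option linter.style.haveILetI false
set_option linter.deprecated false
set_option linter.unusedSimpArgs false
set_option linter.style.longLine false
set_option maxHeartbeats 1600000

universe u

open CategoryTheory CategoryTheory.Limits MonoidalCategory CartesianMonoidalCategory MonObj GrpObj
  AlgebraicGeometry Opposite

namespace Groth.Agent.Lib.HomFinH4

open Groth.Agent.Lib.RedDictH8 Groth.Agent.Lib.DSDict Groth.Agent.Lib.MultGa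
  Groth.Agent.Lib.MultTrivH4 Groth.Agent.Lib.ConnActH4 Groth.Agent.Lib.TwConstFinH4
  Groth.Agent.Lib.MTHomH4 Groth.Agent.Lib.TorusQuotH4 Groth.Agent.Lib.KerTrivH4
  Groth.Agent.Lib.MTWeilH4 Groth.Agent.Lib.MTSmH4 Groth.Agent.Lib.MTNormH4

/-! ### Flatness of groups of multiplicative type -/

theorem flat_DS (B : Scheme.{u}) (N : Type) [AddCommGroup N] : Flat (Red.DS B N).hom := by
  haveI : Module.Free (ULift.{u} ℤ) (MonoidAlgebra (ULift.{u} ℤ) (Multiplicative N)) :=
    Module.Free.of_basis (MonoidAlgebra.basis (Multiplicative N) (ULift.{u} ℤ))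
  haveI : Flat (Red.diag (ULift.{u} ℤ) N).hom := by
    show Flat (Spec.map (CommRingCat.ofHom
      (algebraMap (ULift.{u} ℤ) (MonoidAlgebra (ULift.{u} ℤ) (Multiplicative N)))))
    rw [HasRingHomProperty.Spec_iff (P := @Flat)]
    exact RingHom.flat_algebraMap_iff.mpr inferInstance
  show Flat (pullback.snd (Red.diag (ULift.{u} ℤ) N).hom
    (Limits.IsTerminal.from specULiftZIsTerminal B))
  infer_instance

theorem flat_of_multType {S : Scheme.{u}} {H : Over S} [GrpObj H] (hH : SGA3x.IsMultTypeFT H) :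
    Flat H.hom := by
  obtain ⟨X, F, hcov, hraw⟩ := setup_raw H H hH hH
  obtain ⟨π, hπ⟩ : ∃ π : H ⟶ 𝟙_ (Over S), π = toUnit H := ⟨_, rfl⟩
  haveI : MorphismProperty.DescendsAlong (@Flat : MorphismProperty Scheme.{u})
      (@Surjective ⊓ @Flat ⊓ @QuasiCompact) := flat_descendsAlong'
  have hkey : ∀ {T : Scheme.{u}} (g : T ⟶ S),
      Flat (pullback.snd H.hom g) → Flat (bcL π g) := by
    intro T g h
    haveI := h
    have e : bcL π g ≫ pullback.snd (𝟙_ (Over S)).hom g = pullback.snd H.hom g := bcL_snd π g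
    haveI : IsIso (pullback.snd (𝟙_ (Over S)).hom g) := by
      show IsIso (pullback.snd (𝟙 S) g)
      infer_instance
    have e' : bcL π g = pullback.snd H.hom g ≫ inv (pullback.snd (𝟙_ (Over S)).hom g) := by
      rw [← e, Category.assoc, IsIso.hom_inv_id, Category.comp_id]
    rw [e']
    infer_instance
  have hmain : Flat π.left := by
    refine P_of_charts π (@Flat : MorphismProperty Scheme.{u}) F hcov (fun x => ?_)
    obtain ⟨Bo, hxB, M, N, iM, iN, hNfg, -, ⟨eH⟩⟩ := hraw x
    refine ⟨Bo, hxB, ?_⟩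
    intro T r hr
    apply hkey
    have hrange : Set.range r ⊆ Set.range Bo.ι := by
      rintro _ ⟨t, rfl⟩
      exact ⟨⟨r.base t, hr t⟩, rfl⟩
    obtain ⟨r', hr'⟩ : ∃ r' : T ⟶ (Bo : Scheme.{u}), r' ≫ Bo.ι = r :=
      ⟨IsOpenImmersion.lift Bo.ι r hrange, IsOpenImmersion.lift_fac _ _ _⟩
    have hs : Red.IsSplitTorusWith N (Red.bc (r ≫ F) H) :=
      split_of_restrict (Bo.ι ≫ F) eH r' (r ≫ F) (by rw [← Category.assoc, hr'])
    obtain ⟨ee⟩ := hs
    obtain ⟨a1, ainv, ha1, hainv, h1, h2⟩ := Groth.Agent.Lib.DiagHom.iso_data ee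
    have e : pullback.snd H.hom (r ≫ F) = a1.left ≫ (Red.DS T N).hom := (Over.w a1).symm
    rw [e]
    haveI := flat_DS T N
    haveI : IsIso a1.left := ⟨ainv.left, by rw [← Over.comp_left, h1]; rfl,
      by rw [← Over.comp_left, h2]; rfl⟩
    infer_instance
  have e : H.hom = π.left := by
    have h : π.left ≫ 𝟙 S = H.hom := Over.w π
    exact ((Category.comp_id π.left).symm.trans h).symm
  rw [e]
  exact hmain

/-! ### The main theorem -/

theorem finLocFree_tensor {S : Scheme.{u}} (H : Over S) (h : Mor2.IsFinLocFree H.hom) :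
    Mor2.IsFinLocFree (H ⊗ H).hom := by
  obtain ⟨h1, h2, h3⟩ := h
  haveI := h1
  haveI := h2
  haveI := h3
  refine ⟨?_, ?_, ?_⟩
  · show IsFinite (pullback.fst H.hom H.hom ≫ H.hom)
    infer_instance
  · show Flat (pullback.fst H.hom H.hom ≫ H.hom)
    infer_instance
  · show LocallyOfFinitePresentation (pullback.fst H.hom H.hom ≫ H.hom)
    infer_instance

theorem homRep_of_finLocFree {S : Scheme.{u}} (H G : Over S) [GrpObj H] [GrpObj G]
    (hfl : Mor2.IsFinLocFree H.hom) [IsAffineHom G.hom] :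
    ∃ (A : Over S) (υ : H ⊗ A ⟶ G), AutFam.RepresentsHom H G A υ ∧ IsAffineHom A.hom ∧
      (LocallyOfFiniteType G.hom → LocallyOfFiniteType A.hom) ∧
      (LocallyOfFinitePresentation G.hom → LocallyOfFinitePresentation A.hom) := by
  have hfl2 : Mor2.IsFinLocFree (H ⊗ H).hom := finLocFree_tensor H hfl
  obtain ⟨W₁, υ₁, hW₁, h₁, ⟨e₁⟩⟩ := exists_mor_rep H G hfl
  obtain ⟨W₂, υ₂, hW₂, h₂, ⟨e₂⟩⟩ := exists_mor_rep (H ⊗ H) G hfl2
  obtain ⟨α, β, hrep⟩ := repHom_of_rep H G W₁ W₂ υ₁ υ₂ h₁ h₂
  haveI := hW₁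
  haveI := hW₂
  haveI : IsSeparated W₂.hom := inferInstance
  haveI hcl : IsClosedImmersion (equalizer.ι α β).left := inferInstance
  have hA : (equalizer α β).hom = (equalizer.ι α β).left ≫ W₁.hom :=
    (Over.w (equalizer.ι α β)).symm
  obtain ⟨g1, g2, g3⟩ := hfl
  obtain ⟨k1, k2, k3⟩ := hfl2
  haveI := g1
  haveI := g2
  haveI := g3
  haveI := k1
  haveI := k2
  haveI := k3
  refine ⟨equalizer α β, (H ◁ equalizer.ι α β) ≫ υ₁, hrep, ?_, ?_, ?_⟩
  · rw [hA]
    infer_instance
  · intro hG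
    haveI := hG
    haveI : LocallyOfFiniteType W₁.hom := lft_of_rep H.hom G.hom W₁ e₁
    rw [hA]
    infer_instance
  · intro hG
    haveI := hG
    haveI : LocallyOfFinitePresentation W₁.hom := lfp_of_rep H.hom G.hom W₁ e₁
    haveI : LocallyOfFiniteType W₂.hom := lft_of_rep (H ⊗ H).hom G.hom W₂ e₂
    haveI : LocallyOfFinitePresentation (equalizer.ι α β).left :=
      Groth.Agent.Lib.CentSchH1.locallyOfFinitePresentation_equalizer_ι_left α β
    rw [hA]
    infer_instance

theorem main6064 {S : Scheme.{u}} (H G : Over S) [GrpObj H] [GrpObj G]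
    (hH : SGA3x.IsMultTypeFT H) [IsFinite H.hom] [IsAffineHom G.hom] :
    ∃ (A : Over S) (υ : H ⊗ A ⟶ G), AutFam.RepresentsHom H G A υ ∧ IsAffineHom A.hom ∧
      (LocallyOfFiniteType G.hom → LocallyOfFiniteType A.hom) ∧
      (LocallyOfFinitePresentation G.hom → LocallyOfFinitePresentation A.hom) :=
  homRep_of_finLocFree H G ⟨inferInstance, flat_of_multType hH, lfp_of_multType hH⟩

end Groth.Agent.Lib.HomFinH4
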