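import Mathlib
import Groth.Prelude
import Groth.Agent.Lib.HomFin3_helper4

/-!
# Local sections of the scheme of homomorphisms between groups of multiplicative type (helper4)

Over a chart where `G ≅ D(M)` and `H ≅ D(N)`, every point of `Hom_{S-gr}(G, H)` has an open
neighbourhood on which the universal homomorphism is the constant one `D(φ)`; hence the
structure map of the Hom scheme has "local sections through every point".
-/

set_option backward.isDefEq.respectTransparency.types false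
set_option autoImplicit false
set_option linter.unusedVariables false
set_option linter.unusedTactic false
set_option linter.unreachableTactic false
set_option linter.unusedSectionVars false
set_option linter.style.haveILetI false
set_option linter.deprecated false
set_option linter.unusedSimpArgs false
set_option linter.style.longLine false
set_option maxHeartbeats 1600000

universe u

open CategoryTheory CategoryTheory.Limits MonoidalCategory CartesianMonoidalCategory MonObj GrpObj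
  AlgebraicGeometry Opposite

namespace Groth.Agent.Lib.HomFinH4

open Groth.Agent.Lib.RedDictH8 Groth.Agent.Lib.DSDict Groth.Agent.Lib.MultGa
  Groth.Agent.Lib.MultTrivH4 Groth.Agent.Lib.ConnActH4 Groth.Agent.Lib.TwConstFinH4
  Groth.Agent.Lib.MTHomH4 Groth.Agent.Lib.TorusQuotH4 Groth.Agent.Lib.KerTrivH4
  Groth.Agent.Lib.MTWeilH4 Groth.Agent.Lib.MTSmH4 Groth.Agent.Lib.MTNormH4

section NuB

variable {S B : Scheme.{u}}

/-- the structure map of a `B`-scheme, as a morphism of `S`-schemes. -/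
noncomputable def sg (jj : B ⟶ S) (T' : Over B) : (Over.map jj).obj T' ⟶ Over.mk jj :=
  Over.homMk T'.hom rfl

theorem sg_nat (jj : B ⟶ S) {T'' T' : Over B} (c : T'' ⟶ T') :
    (Over.map jj).map c ≫ sg jj T' = sg jj T'' := by
  apply Over.OverMorphism.ext
  exact Over.w c

theorem exists_eps' (jj : B ⟶ S) {X' : Over S} (t : X' ⟶ Over.mk jj) :
    ∃ (T' : Over B) (ε : X' ⟶ (Over.map jj).obj T') (εi : (Over.map jj).obj T' ⟶ X'),
      ε ≫ εi = 𝟙 _ ∧ εi ≫ ε = 𝟙 _ ∧ ε ≫ sg jj T' = t := by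
  have hw : t.left ≫ jj = X'.hom := Over.w t
  refine ⟨Over.mk t.left, Over.homMk (𝟙 X'.left) ?_, Over.homMk (𝟙 X'.left) ?_, ?_, ?_, ?_⟩
  · show 𝟙 X'.left ≫ (t.left ≫ jj) = X'.hom
    rw [Category.id_comp]
    exact hw
  · show 𝟙 X'.left ≫ X'.hom = t.left ≫ jj
    rw [Category.id_comp]
    exact hw.symm
  · apply Over.OverMorphism.ext
    exact Category.id_comp _
  · apply Over.OverMorphism.ext
    exact Category.id_comp _
  · apply Over.OverMorphism.ext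
    exact Category.id_comp _

/-- a morphism of bases as a morphism of `S`-schemes. -/
noncomputable def rr (jj : B ⟶ S) {W : Scheme.{u}} (r : W ⟶ B) :
    Over.mk (r ≫ jj) ⟶ Over.mk jj :=
  Over.homMk r rfl

theorem sig_sg_rr (jj : B ⟶ S) {W : Scheme.{u}} (r : W ⟶ B) (T'' : Over W) :
    sig jj r T'' ≫ sg (r ≫ jj) T'' ≫ rr jj r = sg jj ((Over.map r).obj T'') := by
  apply Over.OverMorphism.ext
  show 𝟙 T''.left ≫ T''.hom ≫ r = T''.hom ≫ r
  exact Category.id_comp _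

variable {G H A : Over S} [GrpObj G] [GrpObj H] (υ : G ⊗ A ⟶ H) (jj : B ⟶ S)
  {M N : Type} [AddCommGroup M] [AddCommGroup N] (eG : PtIso G jj M) (eH : PtIso H jj N)

/-- the homomorphism of diagonalisable groups over `B` given by a `B`-point of `A`. -/
noncomputable def nuB (b : Over.mk jj ⟶ A) (T' : Over B) (d : T' ⟶ Red.DS B M) :
    T' ⟶ Red.DS B N :=
  eH.toD T' (lift (eG.ofD T' d) (sg jj T' ≫ b) ≫ υ)

theorem nuB_nat (b : Over.mk jj ⟶ A) (T'' T' : Over B) (c : T'' ⟶ T')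
    (d : T' ⟶ Red.DS B M) :
    c ≫ nuB υ jj eG eH b T' d = nuB υ jj eG eH b T'' (c ≫ d) := by
  show c ≫ eH.toD T' (lift (eG.ofD T' d) (sg jj T' ≫ b) ≫ υ) =
    eH.toD T'' (lift (eG.ofD T'' (c ≫ d)) (sg jj T'' ≫ b) ≫ υ)
  rw [← eH.to_nat, ← Category.assoc, comp_lift, eG.of_nat, ← Category.assoc, sg_nat]

theorem nuB_mul (hυ : AutFam.IsHomFamily G H υ) (b : Over.mk jj ⟶ A) (T' : Over B)
    (d d' : T' ⟶ Red.DS B M) :
    nuB υ jj eG eH b T' (d * d') = nuB υ jj eG eH b T' d * nuB υ jj eG eH b T' d' := by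
  show eH.toD T' (lift (eG.ofD T' (d * d')) (sg jj T' ≫ b) ≫ υ) =
    eH.toD T' (lift (eG.ofD T' d) (sg jj T' ≫ b) ≫ υ) *
      eH.toD T' (lift (eG.ofD T' d') (sg jj T' ≫ b) ≫ υ)
  rw [eG.of_mul, hυ, eH.to_mul]

theorem ofD_nuB (b : Over.mk jj ⟶ A) (T' : Over B) (x : (Over.map jj).obj T' ⟶ G) :
    eH.ofD T' (nuB υ jj eG eH b T' (eG.toD T' x)) = lift x (sg jj T' ≫ b) ≫ υ := by
  show eH.ofD T' (eH.toD T' (lift (eG.ofD T' (eG.toD T' x)) (sg jj T' ≫ b) ≫ υ)) = _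
  rw [eH.of_to, eG.of_to]

theorem whisker_eq_lift {Z : Over S} (b : Z ⟶ A) :
    (G ◁ b) ≫ υ = lift (fst G Z) (snd G Z ≫ b) ≫ υ := by
  have e : G ◁ b = lift (fst G Z) (snd G Z ≫ b) := by
    apply CartesianMonoidalCategory.hom_ext
    · rw [whiskerLeft_fst, lift_fst]
    · rw [whiskerLeft_snd, lift_snd]
  rw [e]

theorem isHomFamily_whisker (hυ : AutFam.IsHomFamily G H υ) {Z : Over S} (a : Z ⟶ A) :
    AutFam.IsHomFamily G H ((G ◁ a) ≫ υ) := by
  intro X g₁ g₂ t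
  rw [lift_whiskerLeft_assoc, lift_whiskerLeft_assoc, lift_whiskerLeft_assoc]
  exact hυ X g₁ g₂ (t ≫ a)

/-- **Injectivity**: a `B`-point of `A` is determined by the homomorphism it induces. -/
theorem nuB_inj
    (huniq : ∀ (T : Over S) (a a' : T ⟶ A), (G ◁ a) ≫ υ = (G ◁ a') ≫ υ → a = a')
    (b b' : Over.mk jj ⟶ A)
    (h : ∀ (T' : Over B) (d : T' ⟶ Red.DS B M),
      nuB υ jj eG eH b T' d = nuB υ jj eG eH b' T' d) : b = b' := by
  apply huniq (Over.mk jj) b b'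
  rw [whisker_eq_lift υ b, whisker_eq_lift υ b']
  obtain ⟨T', ε, εi, h1, h2, hx⟩ := exists_eps' jj (snd G (Over.mk jj))
  have hsnd : εi ≫ snd G (Over.mk jj) = sg jj T' := by
    rw [← hx, ← Category.assoc, h2, Category.id_comp]
  have key : ∀ b'' : Over.mk jj ⟶ A,
      εi ≫ lift (fst G (Over.mk jj)) (snd G (Over.mk jj) ≫ b'') ≫ υ =
      eH.ofD T' (nuB υ jj eG eH b'' T' (eG.toD T' (εi ≫ fst G (Over.mk jj)))) := by
    intro b''
    rw [ofD_nuB, ← Category.assoc, comp_lift, ← Category.assoc εi, hsnd]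
  have e1 := key b
  have e2 := key b'
  rw [h] at e1
  have e3 : εi ≫ lift (fst G (Over.mk jj)) (snd G (Over.mk jj) ≫ b) ≫ υ =
      εi ≫ lift (fst G (Over.mk jj)) (snd G (Over.mk jj) ≫ b') ≫ υ := e1.trans e2.symm
  have e5 : ∀ X : G ⊗ Over.mk jj ⟶ H, ε ≫ εi ≫ X = X := fun X => by
    rw [← Category.assoc, h1, Category.id_comp]
  have e4 : ε ≫ εi ≫ lift (fst G (Over.mk jj)) (snd G (Over.mk jj) ≫ b) ≫ υ =
      ε ≫ εi ≫ lift (fst G (Over.mk jj)) (snd G (Over.mk jj) ≫ b') ≫ υ := by rw [e3]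
  rw [e5, e5] at e4
  exact e4

/-- **Surjectivity**: every homomorphism `D(φ)` comes from a `B`-point of `A`. -/
theorem exists_b_of_phi
    (hex : ∀ (T : Over S) (ψ : G ⊗ T ⟶ H), AutFam.IsHomFamily G H ψ →
      ∃ a : T ⟶ A, (G ◁ a) ≫ υ = ψ) (φ : N →+ M) :
    ∃ b : Over.mk jj ⟶ A, ∀ (T' : Over B) (d : T' ⟶ Red.DS B M),
      nuB υ jj eG eH b T' d = d ≫ Red.DSmap B φ := by
  obtain ⟨T₀, ε₀, εi₀, h1, h2, hx⟩ := exists_eps' jj (snd G (Over.mk jj))
  obtain ⟨ψ, hψ⟩ : ∃ ψ : G ⊗ Over.mk jj ⟶ H,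
      ψ = ε₀ ≫ eH.ofD T₀ (eG.toD T₀ (εi₀ ≫ fst G (Over.mk jj)) ≫ Red.DSmap B φ) := ⟨_, rfl⟩
  have key : ∀ (T' : Over B) (x : (Over.map jj).obj T' ⟶ G),
      lift x (sg jj T') ≫ ψ = eH.ofD T' (eG.toD T' x ≫ Red.DSmap B φ) := by
    intro T' x
    have hc : (lift x (sg jj T') ≫ ε₀).left ≫ T₀.hom = T'.hom := by
      have e : (lift x (sg jj T') ≫ ε₀) ≫ sg jj T₀ = sg jj T' := by
        rw [Category.assoc, hx, lift_snd]
      exact congrArg (fun w => w.left) e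
    obtain ⟨c, hcl⟩ : ∃ c : T' ⟶ T₀, c.left = (lift x (sg jj T') ≫ ε₀).left :=
      ⟨Over.homMk _ hc, rfl⟩
    have hc2 : (Over.map jj).map c = lift x (sg jj T') ≫ ε₀ := by
      apply Over.OverMorphism.ext
      exact hcl
    have hc3 : (Over.map jj).map c ≫ εi₀ ≫ fst G (Over.mk jj) = x := by
      rw [hc2, Category.assoc, ← Category.assoc ε₀, h1, Category.id_comp, lift_fst]
    rw [hψ, ← Category.assoc, ← hc2, eH.of_nat, ← Category.assoc, ← eG.to_nat, hc3]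
  have hψhom : AutFam.IsHomFamily G H ψ := by
    intro X g₁ g₂ t
    obtain ⟨T', ε, εi, h1', h2', hx'⟩ := exists_eps' jj t
    have hpt : ∀ g : X ⟶ G,
        lift g t ≫ ψ = ε ≫ eH.ofD T' (eG.toD T' (εi ≫ g) ≫ Red.DSmap B φ) := by
      intro g
      rw [← key T' (εi ≫ g), ← Category.assoc, comp_lift, ← Category.assoc, h1',
        Category.id_comp, hx']
    rw [hpt (g₁ * g₂), hpt g₁, hpt g₂, MonObj.comp_mul εi g₁ g₂, eG.to_mul,
      DSmap_pointwise_mul, eH.of_mul, MonObj.comp_mul]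
  obtain ⟨b, hb⟩ := hex (Over.mk jj) ψ hψhom
  refine ⟨b, ?_⟩
  intro T' d
  show eH.toD T' (lift (eG.ofD T' d) (sg jj T' ≫ b) ≫ υ) = d ≫ Red.DSmap B φ
  have e1 : lift (eG.ofD T' d) (sg jj T' ≫ b) ≫ υ = lift (eG.ofD T' d) (sg jj T') ≫ ψ := by
    rw [← hb, ← Category.assoc, lift_whiskerLeft]
  rw [e1, key, eH.to_of, eG.to_of]

/-- restriction of `nuB` along a morphism of bases. -/
theorem nuB_restrict_eq (b : Over.mk jj ⟶ A) {W : Scheme.{u}} (r : W ⟶ B) (T'' : Over W)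
    (d : T'' ⟶ Red.DS W M) :
    nuB υ (r ≫ jj) (ptRestrict jj eG r) (ptRestrict jj eH r) (rr jj r ≫ b) T'' d =
      trDown r (nuB υ jj eG eH b ((Over.map r).obj T'') (trUp r d)) := by
  show trDown r (eH.toD ((Over.map r).obj T'')
    (sig jj r T'' ≫ lift (tau jj r T'' ≫ eG.ofD ((Over.map r).obj T'') (trUp r d))
      (sg (r ≫ jj) T'' ≫ rr jj r ≫ b) ≫ υ)) =
    trDown r (eH.toD ((Over.map r).obj T'')
      (lift (eG.ofD ((Over.map r).obj T'') (trUp r d))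
        (sg jj ((Over.map r).obj T'') ≫ b) ≫ υ))
  have h1 : sig jj r T'' ≫ lift (tau jj r T'' ≫ eG.ofD ((Over.map r).obj T'') (trUp r d))
      (sg (r ≫ jj) T'' ≫ rr jj r ≫ b) ≫ υ =
      lift (eG.ofD ((Over.map r).obj T'') (trUp r d))
        (sg jj ((Over.map r).obj T'') ≫ b) ≫ υ := by
    rw [← Category.assoc, comp_lift, ← Category.assoc (sig jj r T''), sig_tau, Category.id_comp,
      ← sig_sg_rr jj r T'', Category.assoc, Category.assoc]
  rw [h1]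

theorem nuB_restrict (b : Over.mk jj ⟶ A) (W₀ : B.Opens) (φ : N →+ M)
    (hloc : ∀ (T' : Over B), (∀ z : T'.left, T'.hom.base z ∈ W₀) →
      ∀ d : T' ⟶ Red.DS B M, nuB υ jj eG eH b T' d = d ≫ Red.DSmap B φ)
    {W : Scheme.{u}} (r : W ⟶ B) (hr : ∀ t : W, r.base t ∈ W₀) (T'' : Over W)
    (d : T'' ⟶ Red.DS W M) :
    nuB υ (r ≫ jj) (ptRestrict jj eG r) (ptRestrict jj eH r) (rr jj r ≫ b) T'' d =
      d ≫ Red.DSmap W φ := by
  rw [nuB_restrict_eq, hloc ((Over.map r).obj T'') (fun z => hr _) (trUp r d), trDown_DSmap,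
    trDown_trUp]

end NuB

/-! ### Local sections on a chart -/

section Chart

variable {S : Scheme.{u}} {G H A : Over S} [GrpObj G] [GrpObj H] (υ : G ⊗ A ⟶ H)
  {M N : Type} [AddCommGroup M] [AddCommGroup N]

theorem chart_sections (hrep : AutFam.RepresentsHom G H A υ) {U : Scheme.{u}} (j : U ⟶ S)
    (eG : PtIso G j M) (eH : PtIso H j N) (hN : AddGroup.FG N) (y₀ : ↥(pullback A.hom j)) :
    ∃ (W₀ : (pullback A.hom j).Opens) (s : U ⟶ pullback A.hom j), y₀ ∈ W₀ ∧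
      s ≫ pullback.snd A.hom j = 𝟙 U ∧
      W₀.ι ≫ pullback.snd A.hom j ≫ s = W₀.ι := by
  obtain ⟨hυ, hall⟩ := hrep
  have hex : ∀ (T : Over S) (ψ : G ⊗ T ⟶ H), AutFam.IsHomFamily G H ψ →
      ∃ a : T ⟶ A, (G ◁ a) ≫ υ = ψ := fun T ψ hψ => (hall T ψ hψ).exists
  have huniq : ∀ (T : Over S) (a a' : T ⟶ A), (G ◁ a) ≫ υ = (G ◁ a') ≫ υ → a = a' := by
    intro T a a' h
    have hfam : AutFam.IsHomFamily G H ((G ◁ a') ≫ υ) := isHomFamily_whisker υ hυ a'
    exact (hall T _ hfam).unique h rfl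
  obtain ⟨p, hp⟩ : ∃ p : pullback A.hom j ⟶ U, p = pullback.snd A.hom j := ⟨_, rfl⟩
  have hw₀ : pullback.fst A.hom j ≫ A.hom = p ≫ j := by
    rw [hp]
    exact pullback.condition
  obtain ⟨b₀, hb₀⟩ : ∃ b₀ : Over.mk (p ≫ j) ⟶ A, b₀.left = pullback.fst A.hom j :=
    ⟨Over.homMk (pullback.fst A.hom j) hw₀, rfl⟩
  obtain ⟨W₀, φ, hy₀, hloc⟩ := local_const
    (nuB υ (p ≫ j) (ptRestrict j eG p) (ptRestrict j eH p) b₀)
    (nuB_nat υ (p ≫ j) (ptRestrict j eG p) (ptRestrict j eH p) b₀)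
    (nuB_mul υ (p ≫ j) (ptRestrict j eG p) (ptRestrict j eH p) hυ b₀) hN y₀
  obtain ⟨bφ, hbφ⟩ := exists_b_of_phi υ j eG eH hex φ
  have hwφ : bφ.left ≫ A.hom = j := Over.w bφ
  obtain ⟨s, hs1, hs2⟩ : ∃ s : U ⟶ pullback A.hom j,
      s ≫ pullback.fst A.hom j = bφ.left ∧ s ≫ p = 𝟙 U := by
    refine ⟨pullback.lift bφ.left (𝟙 U) (by rw [hwφ, Category.id_comp]),
      pullback.lift_fst _ _ _, ?_⟩
    rw [hp]
    exact pullback.lift_snd _ _ _
  refine ⟨W₀, s, hy₀, by rw [← hp]; exact hs2, ?_⟩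
  rw [← hp]
  have hφ1 : ∀ (T' : Over (pullback A.hom j)),
      (∀ z : T'.left, T'.hom.base z ∈ (⊤ : (pullback A.hom j).Opens)) →
      ∀ d' : T' ⟶ Red.DS (pullback A.hom j) M,
        nuB υ (p ≫ j) (ptRestrict j eG p) (ptRestrict j eH p) (rr j p ≫ bφ) T' d' =
          d' ≫ Red.DSmap (pullback A.hom j) φ := by
    intro T' _ d'
    exact nuB_restrict υ j eG eH bφ ⊤ φ (fun T₁ _ d₁ => hbφ T₁ d₁) p (fun _ => trivial) T' d'
  have hA : rr (p ≫ j) W₀.ι ≫ rr j p ≫ bφ = rr (p ≫ j) W₀.ι ≫ b₀ := by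
    apply nuB_inj υ (W₀.ι ≫ p ≫ j) (ptRestrict (p ≫ j) (ptRestrict j eG p) W₀.ι)
      (ptRestrict (p ≫ j) (ptRestrict j eH p) W₀.ι) huniq
    intro T'' d
    exact (nuB_restrict υ (p ≫ j) (ptRestrict j eG p) (ptRestrict j eH p) (rr j p ≫ bφ) ⊤ φ
      hφ1 W₀.ι (fun _ => trivial) T'' d).trans
      (nuB_restrict υ (p ≫ j) (ptRestrict j eG p) (ptRestrict j eH p) b₀ W₀ φ hloc W₀.ι
        (fun t => t.2) T'' d).symm
  have hB : W₀.ι ≫ p ≫ bφ.left = W₀.ι ≫ b₀.left := congrArg (fun w => w.left) hA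
  apply pullback.hom_ext
  · rw [Category.assoc, Category.assoc, hs1, hB, hb₀]
  · rw [Category.assoc, Category.assoc, ← hp, hs2, Category.comp_id]

end Chart

end Groth.Agent.Lib.HomFinH4
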