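import Mathlib
import Groth.Prelude
import Groth.Agent.Lib.HomFin4_helper4
import Groth.Agent.Lib.SchDescent_helper6

/-!
# `Hom_{S-gr}(G, H)` is finite étale for `G`, `H` finite of multiplicative type (helper4)

SGA3 X 5.8 / XI: the scheme of homomorphisms between finite groups of multiplicative type is
finite and étale.
-/

set_option backward.isDefEq.respectTransparency.types false
set_option autoImplicit false
set_option linter.unusedVariables false
set_option linter.unusedTactic false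
set_option linter.unreachableTactic false
set_option linter.unusedSectionVars false
set_option linter.style.haveILetI false
set_option linter.deprecated false
set_option linter.unusedSimpArgs false
set_option linter.style.longLine false
set_option maxHeartbeats 1600000

universe u

open CategoryTheory CategoryTheory.Limits MonoidalCategory CartesianMonoidalCategory MonObj GrpObj
  AlgebraicGeometry Opposite

namespace Groth.Agent.Lib.HomFinH4

open Groth.Agent.Lib.RedDictH8 Groth.Agent.Lib.DSDict Groth.Agent.Lib.MultGa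
  Groth.Agent.Lib.MultTrivH4 Groth.Agent.Lib.ConnActH4 Groth.Agent.Lib.TwConstFinH4
  Groth.Agent.Lib.MTHomH4 Groth.Agent.Lib.TorusQuotH4 Groth.Agent.Lib.KerTrivH4
  Groth.Agent.Lib.MTWeilH4 Groth.Agent.Lib.MTSmH4 Groth.Agent.Lib.MTNormH4

/-! ### Morphisms with local sections through every point -/

theorem etale_of_local_sections {Y U : Scheme.{u}} (p : Y ⟶ U)
    (hloc : ∀ y₀ : Y, ∃ (W₀ : Y.Opens) (s : U ⟶ Y), y₀ ∈ W₀ ∧ s ≫ p = 𝟙 U ∧
      W₀.ι ≫ p ≫ s = W₀.ι) : Etale p := by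
  choose W s hW hs hWs using hloc
  have hcov : iSup W = ⊤ := by
    apply top_unique
    intro y _
    exact TopologicalSpace.Opens.mem_iSup.mpr ⟨y, hW y⟩
  rw [IsZariskiLocalAtSource.iff_of_iSup_eq_top (P := @Etale) W hcov]
  intro y
  obtain ⟨V₀, a₀, ha₀, hfac⟩ := open_of_retract (W y) ((W y).ι ≫ p) (s y) (𝟙 U) p
    (by rw [Category.assoc]; exact hWs y) (hs y)
  haveI := ha₀
  rw [← hfac]
  infer_instance

theorem valuative_of_local_sections {Y U : Scheme.{u}} (p : Y ⟶ U)
    (hloc : ∀ y₀ : Y, ∃ (W₀ : Y.Opens) (s : U ⟶ Y), y₀ ∈ W₀ ∧ s ≫ p = 𝟙 U ∧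
      W₀.ι ≫ p ≫ s = W₀.ι) : ValuativeCriterion.Existence p := by
  intro sq
  obtain ⟨x, -⟩ : ∃ x : Spec (CommRingCat.of sq.K), True := ⟨default, trivial⟩
  obtain ⟨W₀, s, hy, hs, hWs⟩ := hloc (sq.i₁.base x)
  have hrange : Set.range sq.i₁ ⊆ Set.range W₀.ι := by
    rintro _ ⟨x', rfl⟩
    have hx' : x' = x := Subsingleton.elim _ _
    rw [hx', Scheme.Opens.range_ι]
    exact hy
  obtain ⟨i', hi'⟩ : ∃ i' : Spec (CommRingCat.of sq.K) ⟶ (W₀ : Scheme.{u}), i' ≫ W₀.ι = sq.i₁ :=
    ⟨IsOpenImmersion.lift W₀.ι sq.i₁ hrange, IsOpenImmersion.lift_fac _ _ _⟩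
  have h1 : sq.i₁ ≫ p ≫ s = sq.i₁ := by
    rw [← hi', Category.assoc, hWs]
  have hw : sq.i₁ ≫ p = Spec.map (CommRingCat.ofHom (algebraMap sq.R sq.K)) ≫ sq.i₂ :=
    sq.commSq.w
  exact CommSq.HasLift.mk' ⟨sq.i₂ ≫ s,
    by rw [← Category.assoc, ← hw, Category.assoc, h1],
    by rw [Category.assoc, hs, Category.comp_id]⟩

theorem finite_of_local_sections {Y U : Scheme.{u}} (p : Y ⟶ U) [IsAffineHom p]
    (hloc : ∀ y₀ : Y, ∃ (W₀ : Y.Opens) (s : U ⟶ Y), y₀ ∈ W₀ ∧ s ≫ p = 𝟙 U ∧
      W₀.ι ≫ p ≫ s = W₀.ι) : IsFinite p := by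
  haveI : Etale p := etale_of_local_sections p hloc
  haveI : UniversallyClosed p :=
    UniversallyClosed.of_valuativeCriterion p (valuative_of_local_sections p hloc)
  haveI : IsIntegralHom p :=
    IsIntegralHom.iff_universallyClosed_and_isAffineHom.mpr ⟨inferInstance, inferInstance⟩
  exact (IsFinite.iff_isIntegralHom_and_locallyOfFiniteType p).mpr ⟨inferInstance, inferInstance⟩

/-! ### Descent from the charts -/

theorem hkey_gen {S : Scheme.{u}} {A : Over S} (π : A ⟶ 𝟙_ (Over S))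
    (P : MorphismProperty Scheme.{u}) [P.RespectsIso] {T : Scheme.{u}} (g : T ⟶ S)
    (h : P (pullback.snd A.hom g)) : P (bcL π g) := by
  have e : bcL π g ≫ pullback.snd (𝟙_ (Over S)).hom g = pullback.snd A.hom g := bcL_snd π g
  haveI : IsIso (pullback.snd (𝟙_ (Over S)).hom g) := by
    show IsIso (pullback.snd (𝟙 S) g)
    infer_instance
  rw [← e] at h
  exact (P.cancel_right_of_respectsIso _ _).mp h

theorem descend_chart {S : Scheme.{u}} (G H A : Over S) [GrpObj G] [GrpObj H]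
    (hG : SGA3x.IsMultTypeFT G) (hH : SGA3x.IsMultTypeFT H)
    (P : MorphismProperty Scheme.{u}) [P.IsStableUnderBaseChange] [IsZariskiLocalAtTarget P]
    [P.DescendsAlong (@Surjective ⊓ @Flat ⊓ @QuasiCompact : MorphismProperty Scheme.{u})]
    (hchart : ∀ {T : Scheme.{u}} (g : T ⟶ S) (M N : Type) [AddCommGroup M] [AddCommGroup N],
      AddGroup.FG N → PtIso G g M → PtIso H g N → P (pullback.snd A.hom g)) : P A.hom := by
  obtain ⟨X, F, hcov, hraw⟩ := setup_raw G H hG hH
  obtain ⟨π, hπ⟩ : ∃ π : A ⟶ 𝟙_ (Over S), π = toUnit A := ⟨_, rfl⟩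
  haveI : P.RespectsIso := inferInstance
  have hmain : P π.left := by
    refine P_of_charts π P F hcov (fun x => ?_)
    obtain ⟨Bo, hxB, M, N, iM, iN, hNfg, ⟨eG⟩, ⟨eH⟩⟩ := hraw x
    refine ⟨Bo, hxB, ?_⟩
    intro T r hr
    apply hkey_gen π P
    have hrange : Set.range r ⊆ Set.range Bo.ι := by
      rintro _ ⟨t, rfl⟩
      exact ⟨⟨r.base t, hr t⟩, rfl⟩
    obtain ⟨r', hr'⟩ : ∃ r' : T ⟶ (Bo : Scheme.{u}), r' ≫ Bo.ι = r :=
      ⟨IsOpenImmersion.lift Bo.ι r hrange, IsOpenImmersion.lift_fac _ _ _⟩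
    have hjj : r' ≫ Bo.ι ≫ F = r ≫ F := by rw [← Category.assoc, hr']
    obtain ⟨eG'⟩ := ptIso_congr hjj (ptRestrict (Bo.ι ≫ F) eG r')
    obtain ⟨eH'⟩ := ptIso_congr hjj (ptRestrict (Bo.ι ≫ F) eH r')
    exact hchart (r ≫ F) M N hNfg eG' eH'
  have e : A.hom = π.left := by
    have h : π.left ≫ 𝟙 S = A.hom := Over.w π
    exact ((Category.comp_id π.left).symm.trans h).symm
  rw [e]
  exact hmain

/-! ### The main theorem -/

/-- **SGA3 X 5.8**: for `G`, `H` finite of multiplicative type, `Hom_{S-gr}(G, H)` is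
representable by a finite étale `S`-scheme. -/
theorem main5263 {S : Scheme.{u}} (G H : Over S) [GrpObj G] [GrpObj H]
    (hG : SGA3x.IsMultTypeFT G) [IsFinite G.hom] (hH : SGA3x.IsMultTypeFT H) [IsFinite H.hom] :
    ∃ (A : Over S) (υ : G ⊗ A ⟶ H), AutFam.RepresentsHom G H A υ ∧ IsFinite A.hom ∧
      Etale A.hom := by
  haveI : IsAffineHom H.hom := inferInstance
  obtain ⟨A, υ, hrep, hAaff, -, -⟩ := main6064 G H hG
  haveI := hAaff
  refine ⟨A, υ, hrep, ?_, ?_⟩
  · haveI := Groth.Agent.Lib.SchDescent_helper6.descendsAlong_isFinite.{u}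
    exact descend_chart G H A hG hH @IsFinite
      (fun g M N _ _ hN eG eH => by
        haveI : IsAffineHom (pullback.snd A.hom g) :=
          MorphismProperty.pullback_snd (P := @IsAffineHom) _ _ hAaff
        exact finite_of_local_sections _ (chart_sections υ hrep g eG eH hN))
  · exact descend_chart G H A hG hH @Etale
      (fun g M N _ _ hN eG eH =>
        etale_of_local_sections _ (chart_sections υ hrep g eG eH hN))

end Groth.Agent.Lib.HomFinH4
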