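import Mathlib
import Groth.Prelude
import Groth.Agent.Lib.ClAdjSec1_helper2
import Groth.Agent.Lib.QCohCrit2_helper9
import Groth.Agent.Lib.QCohExtn_helper9

/-!
# `i_* Hom(O_Z, F)` is quasi-coherent for `F` quasi-coherent and `I` of finite type (helper2)
APPEND-ONLY once landed.
-/

set_option autoImplicit false
set_option maxHeartbeats 1600000
set_option linter.style.haveILetI false

universe u

open CategoryTheory Limits Opposite TopologicalSpace AlgebraicGeometry

namespace Groth.Agent.Lib.HomOQCohH2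

open QcqsLoc QCohExtn

variable {Z X : Scheme.{u}} (i : Z ⟶ X) [IsClosedImmersion i]

/-- S3669 in the language of `ap` -/
theorem ap_counit [Dual3.HasHomO i] (F : X.Modules) (U : X.affineOpens) :
    Function.Injective (ap ((Dual3.homOAdj i).counit.app F) U.1) ∧
    Set.range (ap ((Dual3.homOAdj i).counit.app F) U.1) =
      ((Submodule.torsionBySet Γ(X, U.1) Γ(F, U.1) (i.ker.ideal U : Set Γ(X, U.1)) :
        Submodule Γ(X, U.1) Γ(F, U.1)) : Set Γ(F, U.1)) :=
  Groth.Agent.Lib.ClAdjSecH2.main3669 i F U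

/-- the ideal of a closed immersion locally of finite presentation is finitely generated on affines -/
theorem fg_ker_ideal [LocallyOfFinitePresentation i] (U : X.affineOpens) : (i.ker.ideal U).FG := by
  rw [Scheme.Hom.ker_apply]
  have hfp : (i.app U.1).hom.FinitePresentation := by
    have h := i.finitePresentation_appLE U.2 (U.2.preimage i) le_rfl
    rwa [Scheme.Hom.appLE_eq_app] at h
  letI := (i.app U.1).hom.toAlgebra
  haveI : Algebra.FinitePresentation Γ(X, U.1) Γ(Z, i ⁻¹ᵁ U.1) := hfp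
  exact Algebra.FinitePresentation.ker_fG_of_surjective
    (Algebra.ofId Γ(X, U.1) Γ(Z, i ⁻¹ᵁ U.1)) (i.app_surjective U.1 U.2)

/-- a submodule sheaf of a quasi-coherent module cut out on affines by the torsion of a finite type
ideal satisfies the localisation criterion -/
theorem locOnU_of_mono_torsion {G F : X.Modules} [F.IsQuasicoherent] (ε : G ⟶ F)
    (I : X.IdealSheafData) (hI : ∀ U : X.affineOpens, (I.ideal U).FG)
    (hinj : ∀ U : X.affineOpens, Function.Injective (ap ε U.1))
    (hrange : ∀ U : X.affineOpens, ∀ t : Γ(F, U.1),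
      t ∈ Set.range (ap ε U.1) ↔ ∀ b ∈ I.ideal U, b • t = 0)
    (U : X.affineOpens) : QCohCrit.LocOnU G U.1 := by
  intro a
  have hF := QCohCrit.locOnU_of_isQuasicoherent F U.2 a
  have hinjU := hinj U
  have hinjD : Function.Injective (ap ε (X.basicOpen a)) := hinj (X.affineBasicOpen a)
  have hrangeD : ∀ t : Γ(F, X.basicOpen a), t ∈ Set.range (ap ε (X.basicOpen a)) ↔
      ∀ b : Γ(X, X.basicOpen a), b ∈ I.ideal (X.affineBasicOpen a) → b • t = 0 :=
    hrange (X.affineBasicOpen a)
  have hD : X.basicOpen a ≤ U.1 := X.basicOpen_le a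
  refine ⟨hF.isLoc, fun x m => rF_smul G hD x m, ?_, ?_⟩
  · intro m'
    obtain ⟨n, m, hm⟩ := hF.surj (ap ε (X.basicOpen a) m')
    have hkill' := (hrangeD (ap ε (X.basicOpen a) m')).1 ⟨m', rfl⟩
    have h1 : ∀ b ∈ I.ideal U, ∃ N : ℕ, a ^ N • (b • m) = 0 := by
      intro b hb
      apply hF.ker
      have hb' : rX hD b ∈ I.ideal (X.affineBasicOpen a) := by
        rw [← I.map_ideal_basicOpen U a]
        exact Ideal.mem_map_of_mem _ hb
      have h2 : rF F hD (b • m) = rX hD b • rF F hD m := rF_smul F hD b m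
      have h3 : rF F hD m = rX hD a ^ n • ap ε (X.basicOpen a) m' := hm.symm
      show rF F hD (b • m) = 0
      rw [h2, h3, smul_comm, hkill' _ hb', smul_zero]
    obtain ⟨S, hS⟩ := hI U
    choose! Nf hNf using h1
    have h2 : ∀ b ∈ S, b • (a ^ (S.sup Nf) • m) = 0 := by
      intro b hb
      have hbI : b ∈ I.ideal U := hS ▸ Ideal.subset_span hb
      have hN : S.sup Nf = (S.sup Nf - Nf b) + Nf b :=
        (Nat.sub_add_cancel (Finset.le_sup hb)).symm
      rw [smul_comm, hN, pow_add, mul_smul, hNf b hbI, smul_zero]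
    have h3 : ∀ b ∈ I.ideal U, b • (a ^ (S.sup Nf) • m) = 0 := by
      intro b hb
      rw [← hS] at hb
      refine Submodule.span_induction (p := fun b _ => b • (a ^ (S.sup Nf) • m) = 0)
        (fun b hb => h2 b hb) (zero_smul _ _) (fun x y _ _ hx hy => ?_) (fun r x _ hx => ?_) hb
      · rw [add_smul, hx, hy, add_zero]
      · rw [smul_eq_mul, mul_smul, hx, smul_zero]
    obtain ⟨g, hg⟩ := (hrange U _).2 h3
    refine ⟨S.sup Nf + n, g, hinjD ?_⟩
    have e1 : ap ε (X.basicOpen a) (rX hD a ^ (S.sup Nf + n) • m') =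
        rX hD a ^ (S.sup Nf + n) • ap ε (X.basicOpen a) m' := ap_smul ε _ m'
    have e2 : ap ε (X.basicOpen a) (rF G hD g) = rF F hD (ap ε U.1 g) := ap_rF ε hD g
    have e3 : rF F hD (a ^ (S.sup Nf) • m) = rX hD a ^ (S.sup Nf) • rF F hD m :=
      rF_pow_smul F hD a _ m
    have h4 : rF F hD m = rX hD a ^ n • ap ε (X.basicOpen a) m' := hm.symm
    show ap ε (X.basicOpen a) (rX hD a ^ (S.sup Nf + n) • m') = ap ε (X.basicOpen a) (rF G hD g)
    rw [e1, e2, hg, e3, h4, pow_add, mul_smul]
  · intro m hm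
    have hm' : rF G hD m = 0 := hm
    have h1 : rF F hD (ap ε U.1 m) = 0 := by
      rw [← ap_rF, hm', map_zero]
    obtain ⟨n, hn⟩ := hF.ker _ h1
    refine ⟨n, hinjU ?_⟩
    have e1 : ap ε U.1 (a ^ n • m) = a ^ n • ap ε U.1 m := ap_smul ε _ m
    rw [e1, hn, map_zero]

/-- **S9836** -/
theorem main9836 [LocallyOfFinitePresentation i] [Dual3.HasHomO i] (F : X.Modules)
    [F.IsQuasicoherent] :
    ((Scheme.Modules.pushforward i).obj ((Dual3.homO i).obj F)).IsQuasicoherent := by
  refine QCohCrit.isQuasicoherent_of_locOnU _ (fun U =>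
    locOnU_of_mono_torsion (G := (Scheme.Modules.pushforward i).obj ((Dual3.homO i).obj F))
      (F := F) ((Dual3.homOAdj i).counit.app F) i.ker (fun U => fg_ker_ideal i U)
      (fun U => (ap_counit i F U).1) (fun U t => ?_) U)
  rw [(ap_counit i F U).2]
  exact (Submodule.mem_torsionBySet_iff _ t).trans
    ⟨fun h b hb => h ⟨b, hb⟩, fun h b => h b.1 b.2⟩

end Groth.Agent.Lib.HomOQCohH2
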