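import Mathlib
import Groth.Prelude
import Groth.Agent.Lib.HomTildeRes1_helper4

/-!
# Restricting homomorphisms `M~ → O` on `Spec R` (helper4): statement S17476
APPEND-ONLY once landed.
-/

set_option autoImplicit false
set_option linter.style.haveILetI false
universe u
open CategoryTheory CategoryTheory.Limits AlgebraicGeometry TopologicalSpace Opposite

namespace Groth.Agent.Lib.HomTildeResH4

open QcqsLoc QCohExtn

/-- depth ≥ 2 of the local rings of `Spec R` at primes of height ≥ 2, `R` a Noetherian normal
domain. -/
theorem two_le_depth_stalk_of_normal (R : Type u) [CommRing R] [IsNoetherianRing R] [IsDomain R]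
    [IsIntegrallyClosed R] (x : ↥(Spec (CommRingCat.of R))) (hht : (2 : ℕ∞) ≤ x.asIdeal.height) :
    (2 : ℕ∞) ≤ LocCoh.depth ((Spec (CommRingCat.of R)).presheaf.stalk x)
      ((Spec (CommRingCat.of R)).presheaf.stalk x) := by
  letI : Algebra R ↑((Spec (CommRingCat.of R)).presheaf.stalk x) := StructureSheaf.stalkAlgebra R x
  haveI : IsLocalization.AtPrime (↑((Spec (CommRingCat.of R)).presheaf.stalk x)) x.asIdeal :=
    StructureSheaf.IsLocalization.to_stalk R x
  obtain ⟨e⟩ : Nonempty (↑((Spec (CommRingCat.of R)).presheaf.stalk x) ≃+*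
      Localization.AtPrime x.asIdeal) :=
    ⟨(IsLocalization.algEquiv x.asIdeal.primeCompl _ _).toRingEquiv⟩
  haveI : IsNoetherianRing (Localization.AtPrime x.asIdeal) :=
    IsLocalization.isNoetherianRing x.asIdeal.primeCompl _ inferInstance
  haveI : IsDomain (Localization.AtPrime x.asIdeal) :=
    IsLocalization.isDomain_localization x.asIdeal.primeCompl_le_nonZeroDivisors
  haveI : IsIntegrallyClosed (Localization.AtPrime x.asIdeal) :=
    isIntegrallyClosed_of_isLocalization (Localization.AtPrime x.asIdeal) x.asIdeal.primeCompl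
      x.asIdeal.primeCompl_le_nonZeroDivisors
  rw [Groth.Agent.FlatCM.depth_ringEquiv e]
  have hA : ringKrullDim (Localization.AtPrime x.asIdeal) = (x.asIdeal.height : WithBot ℕ∞) :=
    IsLocalization.AtPrime.ringKrullDim_eq_height x.asIdeal _
  have hmin := Groth.Agent.SerreLib.min_two_dim_le_depth (Localization.AtPrime x.asIdeal)
  have h2 : (2 : WithBot ℕ∞) ≤ (x.asIdeal.height : WithBot ℕ∞) := by
    have h := WithBot.coe_le_coe.mpr hht
    rwa [WithBot.coe_ofNat] at h
  rw [hA, min_eq_left h2] at hmin
  have h : ((2 : ℕ∞) : WithBot ℕ∞) ≤ ((LocCoh.depth (Localization.AtPrime x.asIdeal)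
      (Localization.AtPrime x.asIdeal) : ℕ∞) : WithBot ℕ∞) := by
    rw [WithBot.coe_ofNat]; exact hmin
  exact WithBot.coe_le_coe.mp h

theorem main17476 (R : Type u) [CommRing R] [IsNoetherianRing R]
    (M : ModuleCat.{u} (CommRingCat.of R)) [Module.Finite R M]
    (U : (Spec (CommRingCat.of R)).Opens) :
    (Function.Injective ((Spec (CommRingCat.of R)).presheaf.map (homOfLE (le_top : U ≤ ⊤)).op) →
      Function.Injective
        (fun φ : AlgebraicGeometry.tilde M ⟶ Coh.structureModule (Spec (CommRingCat.of R)) =>
          (Scheme.Modules.restrictFunctor U.ι).map φ)) ∧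
    (IsDomain R → IsIntegrallyClosed R →
      (∀ p : PrimeSpectrum R, p ∉ U → (2 : ℕ∞) ≤ p.asIdeal.height) →
      Function.Bijective
        (fun φ : AlgebraicGeometry.tilde M ⟶ Coh.structureModule (Spec (CommRingCat.of R)) =>
          (Scheme.Modules.restrictFunctor U.ι).map φ)) := by
  haveI hq : (AlgebraicGeometry.tilde M).IsQuasicoherent := inferInstance
  constructor
  · intro hinj
    exact restrict_map_injective (AlgebraicGeometry.tilde M)
      (Coh.structureModule (Spec (CommRingCat.of R))) U hinj
  · intro hdom hic hht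
    haveI := hdom
    haveI := hic
    apply restrict_map_bijective
    intro V
    haveI : (Coh.structureModule (Spec (CommRingCat.of R))).IsQuasicoherent :=
      SerreCrit.isQuasicoherent_OO
    haveI := Groth.Agent.HartogsRing.isFiniteType_structureModule (X := Spec (CommRingCat.of R))
    have hd : ∀ x : ↥(Spec (CommRingCat.of R)), x ∉ U → (2 : ℕ∞) ≤
        LocCoh.depth ((Spec (CommRingCat.of R)).presheaf.stalk x)
          ((Coh.structureModule (Spec (CommRingCat.of R))).presheaf.stalk x) := by
      intro x hx
      rw [Groth.Agent.HartogsRing.depth_structureModule_stalk]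
      exact two_le_depth_stalk_of_normal R x (hht x hx)
    have hinj := Groth.Agent.Hartogs.inj (Coh.structureModule (Spec (CommRingCat.of R))) U hd V
    have hsurj := Groth.Agent.Hartogs.surj (Coh.structureModule (Spec (CommRingCat.of R))) U hd V
    refine ⟨fun a b hab => ?_, hsurj⟩
    have h0 : rF (Coh.structureModule (Spec (CommRingCat.of R)))
        (inf_le_left : V ⊓ U ≤ V) (a - b) = 0 := by
      rw [map_sub, hab, sub_self]
    exact sub_eq_zero.mp (hinj _ h0)

end Groth.Agent.Lib.HomTildeResH4
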