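import Mathlib
import Groth.Agent.Lib.GradedQuot_helper3

/-!
# A finite type algebra as the degree-zero part of a localized graded algebra (helper3)

`R' = R[x₁..xₙ]/J`; `S = R[X₀..Xₙ]/Jʰ` where `Jʰ` is spanned by the homogeneous forms of positive
degree vanishing at `(1, x₁, …, xₙ)`; then `S_(X₀) ≅ R'`.
-/

set_option autoImplicit false

open MvPolynomial

namespace Groth.Agent.Lib.HomogFTH3

open Groth.Agent.Lib.GradedQuot_helper3

universe u

attribute [local instance] MvPolynomial.gradedAlgebra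

variable {R R' : Type u} [CommRing R] [CommRing R'] [Algebra R R'] (n : ℕ)
  (φ : MvPolynomial (Fin n) R →ₐ[R] R')

/-- Dehomogenizing evaluation `X₀ ↦ 1`, `Xᵢ ↦ φ xᵢ`. -/
noncomputable def ev : MvPolynomial (Option (Fin n)) R →ₐ[R] R' :=
  MvPolynomial.aeval (fun i : Option (Fin n) => Option.elim i 1 (fun j => φ (X j)))

@[simp] theorem ev_X_none : ev n φ (X none) = 1 := by simp [ev]

@[simp] theorem ev_X_some (j : Fin n) : ev n φ (X (some j)) = φ (X j) := by simp [ev]

/-- The homogenized ideal. -/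
noncomputable def Jh : Ideal (MvPolynomial (Option (Fin n)) R) :=
  Ideal.span {F | ∃ d : ℕ, 0 < d ∧ F.IsHomogeneous d ∧ ev n φ F = 0}

theorem Jh_isHomogeneous :
    (Jh n φ).IsHomogeneous (homogeneousSubmodule (Option (Fin n)) R) := by
  apply Ideal.homogeneous_span
  rintro F ⟨d, -, hF, -⟩
  exact ⟨d, (mem_homogeneousSubmodule d F).mpr hF⟩

theorem ev_eq_zero_of_mem_Jh {F : MvPolynomial (Option (Fin n)) R} (hF : F ∈ Jh n φ) :
    ev n φ F = 0 := by
  have : Jh n φ ≤ RingHom.ker (ev n φ).toRingHom := by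
    rw [Jh, Ideal.span_le]
    rintro F ⟨d, -, -, h⟩
    exact h
  exact this hF

theorem constantCoeff_eq_zero_of_mem_Jh {F : MvPolynomial (Option (Fin n)) R}
    (hF : F ∈ Jh n φ) : constantCoeff F = 0 := by
  have : Jh n φ ≤ RingHom.ker (constantCoeff (σ := Option (Fin n)) (R := R)) := by
    rw [Jh, Ideal.span_le]
    rintro F ⟨d, hd, hF, -⟩
    show constantCoeff F = 0
    rw [constantCoeff_eq]
    apply hF.coeff_eq_zero
    simp only [map_zero]
    exact hd.ne
  exact this hF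

/-- The graded algebra `S`. -/
abbrev S := MvPolynomial (Option (Fin n)) R ⧸ Jh n φ

/-- Its grading. -/
noncomputable abbrev 𝒮 : ℕ → Submodule R (S n φ) :=
  quotGrading (homogeneousSubmodule (Option (Fin n)) R) (Jh n φ)

noncomputable instance : GradedAlgebra (𝒮 n φ) :=
  quotGradedAlgebra _ _ (Jh_isHomogeneous n φ)

/-- The element `f = X₀`. -/
noncomputable def f₀ : S n φ := Ideal.Quotient.mk _ (X none)

theorem f₀_mem : f₀ n φ ∈ 𝒮 n φ 1 :=
  mk_mem_quotGrading _ _ ((mem_homogeneousSubmodule 1 _).mpr (isHomogeneous_X R none))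

theorem algebraMap_injective : Function.Injective (algebraMap R (S n φ)) := by
  rw [injective_iff_map_eq_zero]
  intro r hr
  have h1 : (C r : MvPolynomial (Option (Fin n)) R) ∈ Jh n φ := by
    rw [← Ideal.Quotient.eq_zero_iff_mem]
    exact hr
  simpa using constantCoeff_eq_zero_of_mem_Jh n φ h1

theorem mem_range_of_mem_zero (x : S n φ) (hx : x ∈ 𝒮 n φ 0) :
    x ∈ Set.range (algebraMap R (S n φ)) := by
  obtain ⟨F, hF, rfl⟩ := exists_of_mem_quotGrading _ _ hx
  rw [mem_homogeneousSubmodule] at hF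
  have h0 : F.totalDegree = 0 := Nat.le_zero.mp hF.totalDegree_le
  rw [totalDegree_eq_zero_iff_eq_C] at h0
  refine ⟨coeff 0 F, ?_⟩
  rw [h0]
  simp
  rfl

/-- The induced map `S → R'`. -/
noncomputable def evS : S n φ →ₐ[R] R' :=
  Ideal.Quotient.liftₐ (Jh n φ) (ev n φ) (fun _ ha => ev_eq_zero_of_mem_Jh n φ ha)

@[simp] theorem evS_mk (F : MvPolynomial (Option (Fin n)) R) :
    evS n φ (Ideal.Quotient.mk _ F) = ev n φ F := rfl

@[simp] theorem evS_f₀ : evS n φ (f₀ n φ) = 1 := by simp [f₀]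

/-- The map `S_f → R'`. -/
noncomputable def evLoc : Localization.Away (f₀ n φ) →+* R' :=
  IsLocalization.Away.lift (f₀ n φ) (g := (evS n φ).toRingHom)
    (by simp)

theorem evLoc_mk (a : S n φ) (d : ℕ) :
    evLoc n φ (Localization.mk a (⟨f₀ n φ ^ d, ⟨d, rfl⟩⟩ : Submonoid.powers (f₀ n φ))) = evS n φ a := by
  have h1 : Localization.mk a (⟨f₀ n φ ^ d, ⟨d, rfl⟩⟩ : Submonoid.powers (f₀ n φ)) * algebraMap _ _ (f₀ n φ ^ d) =
      algebraMap (S n φ) (Localization.Away (f₀ n φ)) a := by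
    rw [Localization.mk_eq_mk']
    exact IsLocalization.mk'_spec _ a (⟨f₀ n φ ^ d, ⟨d, rfl⟩⟩ : Submonoid.powers (f₀ n φ))
  have h2 := congrArg (evLoc n φ) h1
  rw [map_mul, evLoc, IsLocalization.Away.lift_eq, IsLocalization.Away.lift_eq] at h2
  rw [evLoc]
  simpa using h2

/-- The comparison map. -/
noncomputable def e₀ : HomogeneousLocalization.Away (𝒮 n φ) (f₀ n φ) →+* R' :=
  (evLoc n φ).comp (algebraMap _ (Localization.Away (f₀ n φ)))

theorem e₀_mk (d : ℕ) (a : S n φ) (ha : a ∈ 𝒮 n φ (d • 1)) :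
    e₀ n φ (HomogeneousLocalization.Away.mk (𝒮 n φ) (f₀_mem n φ) d a ha) = evS n φ a := by
  show evLoc n φ (HomogeneousLocalization.Away.mk (𝒮 n φ) (f₀_mem n φ) d a ha).val = _
  rw [HomogeneousLocalization.Away.val_mk]
  exact evLoc_mk n φ a d

theorem e₀_injective : Function.Injective (e₀ n φ) := by
  rw [injective_iff_map_eq_zero]
  intro z hz
  obtain ⟨d, a, ha, rfl⟩ := HomogeneousLocalization.Away.mk_surjective (𝒮 n φ) (f₀_mem n φ) z
  rw [e₀_mk] at hz
  obtain ⟨F, hF, rfl⟩ := exists_of_mem_quotGrading _ _ ha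
  rw [mem_homogeneousSubmodule] at hF
  rw [evS_mk] at hz
  have hmem : X none * F ∈ Jh n φ := by
    apply Ideal.subset_span
    refine ⟨1 + d • 1, by omega, (isHomogeneous_X R none).mul hF, ?_⟩
    rw [map_mul, hz, mul_zero]
  apply HomogeneousLocalization.val_injective
  rw [HomogeneousLocalization.Away.val_mk, HomogeneousLocalization.val_zero,
    Localization.mk_eq_mk', IsLocalization.mk'_eq_zero_iff]
  refine ⟨⟨f₀ n φ, ⟨1, pow_one _⟩⟩, ?_⟩
  show f₀ n φ * Ideal.Quotient.mk _ F = 0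
  rw [f₀, ← map_mul, Ideal.Quotient.eq_zero_iff_mem]
  exact hmem

theorem e₀_surjective (hφ : Function.Surjective φ) : Function.Surjective (e₀ n φ) := by
  intro y
  obtain ⟨g, rfl⟩ := hφ y
  induction g using MvPolynomial.induction_on with
  | C r =>
    refine ⟨HomogeneousLocalization.Away.mk (𝒮 n φ) (f₀_mem n φ) 0 (algebraMap R _ r)
      (by rw [zero_smul]; exact SetLike.algebraMap_mem_graded _ r), ?_⟩
    rw [e₀_mk, AlgHom.commutes, ← MvPolynomial.algebraMap_eq, AlgHom.commutes]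
  | add p q hp hq =>
    obtain ⟨zp, hzp⟩ := hp
    obtain ⟨zq, hzq⟩ := hq
    exact ⟨zp + zq, by rw [map_add, hzp, hzq, map_add]⟩
  | mul_X p i hp =>
    obtain ⟨zp, hzp⟩ := hp
    refine ⟨zp * HomogeneousLocalization.Away.mk (𝒮 n φ) (f₀_mem n φ) 1
      (Ideal.Quotient.mk _ (X (some i)))
      (mk_mem_quotGrading _ _ ((mem_homogeneousSubmodule _ _).mpr (by
        rw [one_smul]; exact isHomogeneous_X R (some i)))), ?_⟩
    rw [map_mul, hzp, e₀_mk, evS_mk, ev_X_some, map_mul]

/-- The isomorphism `S_(f) ≅ R'`. -/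
noncomputable def e (hφ : Function.Surjective φ) :
    HomogeneousLocalization.Away (𝒮 n φ) (f₀ n φ) ≃+* R' :=
  RingEquiv.ofBijective (e₀ n φ) ⟨e₀_injective n φ, e₀_surjective n φ hφ⟩

theorem e_symm_algebraMap (hφ : Function.Surjective φ) (r : R) :
    ((e n φ hφ).symm (algebraMap R R' r)).val =
      algebraMap (S n φ) (Localization.Away (f₀ n φ)) (algebraMap R (S n φ) r) := by
  have h1 : (e n φ hφ).symm (algebraMap R R' r) =
      HomogeneousLocalization.Away.mk (𝒮 n φ) (f₀_mem n φ) 0 (algebraMap R _ r)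
      (by rw [zero_smul]; exact SetLike.algebraMap_mem_graded _ r) := by
    rw [RingEquiv.symm_apply_eq]
    show _ = e₀ n φ _
    rw [e₀_mk, AlgHom.commutes]
  rw [h1, HomogeneousLocalization.Away.val_mk, ← Localization.mk_one_eq_algebraMap]
  congr 1

theorem adjoin_eq_top :
    Algebra.adjoin R (Set.range fun i : Option (Fin n) =>
      (Ideal.Quotient.mk (Jh n φ) (X i) : S n φ)) = ⊤ := by
  have h1 : (Set.range fun i : Option (Fin n) => (Ideal.Quotient.mk (Jh n φ) (X i) : S n φ)) =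
      (Ideal.Quotient.mkₐ R (Jh n φ)) '' (Set.range (X : Option (Fin n) → _)) := by
    rw [← Set.range_comp]
    rfl
  rw [h1, ← AlgHom.map_adjoin, adjoin_range_X, Algebra.map_top, AlgHom.range_eq_top]
  exact Ideal.Quotient.mkₐ_surjective R _

end Groth.Agent.Lib.HomogFTH3
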