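import Mathlib
import Groth.Prelude.Def_AlgGrp
import Groth.Agent.Lib.HomogSp_helper4

set_option autoImplicit false
set_option linter.unusedVariables false
set_option linter.unusedTactic false
set_option linter.unreachableTactic false
set_option linter.unusedSectionVars false
set_option linter.style.haveILetI false
set_option linter.deprecated false
set_option maxHeartbeats 1600000

/-!
# Homogeneous spaces under a group scheme over a field: transitivity of the identity component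
on irreducible components
-/

universe u

namespace Groth.Agent.Lib.HomogSpH4

open CategoryTheory CategoryTheory.Limits AlgebraicGeometry MonoidalCategory
  CartesianMonoidalCategory MonObj GrpObj TopologicalSpace

variable {k : Type u} [Field k]

theorem flat_act (G X : Over (Spec (CommRingCat.of k))) [GrpObj G] (a : AlgGrp.Action G X) :
    Flat a.act.left := by
  haveI : Subsingleton ↥(Spec (CommRingCat.of k)) :=
    (inferInstance : Subsingleton (PrimeSpectrum k))
  have hsq : IsPullback (fst G X).left a.act.left (toUnit G).left (toUnit X).left :=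
    (isPullback_act a).map (Over.forget _)
  have hfl : ∀ (t : G.left ⟶ Spec (CommRingCat.of k)), Flat t := fun t => inferInstance
  exact MorphismProperty.of_isPullback (P := @Flat) hsq (hfl _)

theorem mem_of_specializes_one (G : Over (Spec (CommRingCat.of k))) [GrpObj G]
    (C0 : Set G.left) (hC0 : C0 ∈ irreducibleComponents ↥G.left)
    (he : η[G].left (IsLocalRing.closedPoint k) ∈ C0) (g : G.left)
    (hg : g ⤳ η[G].left (IsLocalRing.closedPoint k)) : g ∈ C0 := by
  have h1 : η[G].left (IsLocalRing.closedPoint k) ∈ irreducibleComponent g :=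
    hg.mem_closed isClosed_irreducibleComponent mem_irreducibleComponent
  have h2 := Groth.Agent.Lib.GrpPtIrrH4.unique_comp_through G _ _ _
    (irreducibleComponent_mem_irreducibleComponents g) hC0 h1 he
  rw [← h2]
  exact mem_irreducibleComponent

/-- Key lemma: if `ξ` is a maximal point of `X` and `x` a specialisation of `ξ`, then `x = g · ξ`
for a point `g` of `G` specialising to the unit. -/
theorem exists_act_eq (G X : Over (Spec (CommRingCat.of k))) [GrpObj G] (a : AlgGrp.Action G X)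
    (hΦ : Surjective (lift a.act (snd G X)).left) (ξ x : X.left)
    (hmax : ∀ y : X.left, y ⤳ ξ → y = ξ) (hx : ξ ⤳ x) :
    ∃ z : ↥(G ⊗ X).left, (fst G X).left z ⤳ η[G].left (IsLocalRing.closedPoint k) ∧
      (snd G X).left z = ξ ∧ a.act.left z = x := by
  haveI hsub : Subsingleton ↥(Spec (CommRingCat.of k)) :=
    (inferInstance : Subsingleton (PrimeSpectrum k))
  have hpt : ∀ a b : ↥(Spec (CommRingCat.of k)), a = b := fun a b => Subsingleton.elim a b
  -- a point of `G × X` over `(x, ξ)`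
  obtain ⟨w, hw1, hw2⟩ : ∃ w : ↥(X ⊗ X).left, (fst X X).left w = x ∧ (snd X X).left w = ξ :=
    Scheme.Pullback.exists_preimage_pullback (f := X.hom) (g := X.hom) x ξ (hpt _ _)
  obtain ⟨h, hh⟩ := hΦ.surj w
  have eΦ1 : (lift a.act (snd G X)).left ≫ (fst X X).left = a.act.left := by
    rw [← Over.comp_left, lift_fst]
  have eΦ2 : (lift a.act (snd G X)).left ≫ (snd X X).left = (snd G X).left := by
    rw [← Over.comp_left, lift_snd]
  have ha_h : a.act.left h = x := by
    have e := congrArg (fun φ : (G ⊗ X).left ⟶ X.left => φ h) eΦ1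
    have e' : (fst X X).left ((lift a.act (snd G X)).left h) = a.act.left h := e
    rw [← e', hh]
    exact hw1
  have hs_h : (snd G X).left h = ξ := by
    have e := congrArg (fun φ : (G ⊗ X).left ⟶ X.left => φ h) eΦ2
    have e' : (snd X X).left ((lift a.act (snd G X)).left h) = (snd G X).left h := e
    rw [← e', hh]
    exact hw2
  -- lift the generalisation along the flat action map
  haveI := flat_act G X a
  have hgen : GeneralizingMap a.act.left := Flat.generalizingMap a.act.left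
  have hx' : ξ ⤳ a.act.left h := by rw [ha_h]; exact hx
  obtain ⟨h', hh', ha_h'⟩ := hgen hx'
  have hs_h' : (snd G X).left h' = ξ := by
    apply hmax
    have h1 := hh'.map (snd G X).left.continuous
    rwa [hs_h] at h1
  -- the fibre over `ξ`
  let Ξ : Over (Spec (CommRingCat.of k)) := Over.mk (X.left.fromSpecResidueField ξ ≫ X.hom)
  let jΞ : Ξ ⟶ X := Over.homMk (X.left.fromSpecResidueField ξ) rfl
  obtain ⟨φ, hφdef⟩ : ∃ φ : G ⊗ Ξ ⟶ G ⊗ X, φ = G ◁ jΞ := ⟨_, rfl⟩
  have hφ1 : φ ≫ fst G X = fst G Ξ := by rw [hφdef, whiskerLeft_fst]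
  have hφ2 : φ ≫ snd G X = snd G Ξ ≫ jΞ := by rw [hφdef, whiskerLeft_snd]
  have sqφ : IsPullback (snd G Ξ).left φ.left jΞ.left (snd G X).left := by
    rw [hφdef]
    exact (isPullback_whiskerLeft jΞ G).map (Over.forget _)
  haveI : IsPreimmersion jΞ.left :=
    (inferInstance : IsPreimmersion (X.left.fromSpecResidueField ξ))
  haveI hφpre : IsPreimmersion φ.left :=
    MorphismProperty.of_isPullback (P := @IsPreimmersion) sqφ inferInstance
  obtain ⟨ptΞ, hptΞ⟩ : ∃ ptΞ : ↥Ξ.left, ptΞ = IsLocalRing.closedPoint (X.left.residueField ξ) :=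
    ⟨_, rfl⟩
  have hjΞ : jΞ.left ptΞ = ξ := Scheme.fromSpecResidueField_apply _ _
  obtain ⟨hh1, -, hφh⟩ := exists_of_isPullback sqφ ptΞ h (by rw [hjΞ, hs_h])
  obtain ⟨hh2, -, hφh'⟩ := exists_of_isPullback sqφ ptΞ h' (by rw [hjΞ, hs_h'])
  have hspec : hh2 ⤳ hh1 := by
    apply φ.left.isEmbedding.isInducing.specializes_iff.mp
    rw [hφh, hφh']
    exact hh'
  -- the residue field of the point `hh1`
  let Kobj : Over (Spec (CommRingCat.of k)) :=
    Over.mk ((G ⊗ Ξ).left.fromSpecResidueField hh1 ≫ (G ⊗ Ξ).hom)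
  let c0 : Kobj ⟶ G ⊗ Ξ := Over.homMk ((G ⊗ Ξ).left.fromSpecResidueField hh1) rfl
  obtain ⟨gK, hgK⟩ : ∃ gK : Kobj ⟶ G, gK = c0 ≫ fst G Ξ := ⟨_, rfl⟩
  obtain ⟨ξK, hξK⟩ : ∃ ξK : Kobj ⟶ Ξ, ξK = c0 ≫ snd G Ξ := ⟨_, rfl⟩
  obtain ⟨ψ, hψdef⟩ : ∃ ψ : G ⊗ Kobj ⟶ G ⊗ Ξ, ψ = G ◁ ξK := ⟨_, rfl⟩
  have hψ1 : ψ ≫ fst G Ξ = fst G Kobj := by rw [hψdef, whiskerLeft_fst]
  have hψ2 : ψ ≫ snd G Ξ = snd G Kobj ≫ ξK := by rw [hψdef, whiskerLeft_snd]
  have sqψ : IsPullback (snd G Kobj).left ψ.left ξK.left (snd G Ξ).left := by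
    rw [hψdef]
    exact (isPullback_whiskerLeft ξK G).map (Over.forget _)
  haveI : Subsingleton ↥(Spec (X.left.residueField ξ)) :=
    (inferInstance : Subsingleton (PrimeSpectrum (X.left.residueField ξ)))
  have hflatK : ∀ (t : Kobj.left ⟶ Spec (X.left.residueField ξ)), Flat t :=
    fun t => inferInstance
  haveI : Flat ξK.left := hflatK _
  haveI : Flat ψ.left := MorphismProperty.of_isPullback (P := @Flat) sqψ inferInstance
  obtain ⟨s0, hs0def⟩ : ∃ s0 : Kobj ⟶ G ⊗ Kobj, s0 = lift gK (𝟙 Kobj) := ⟨_, rfl⟩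
  have hs0_1 : s0 ≫ fst G Kobj = gK := by rw [hs0def, lift_fst]
  have hs0_2 : s0 ≫ snd G Kobj = 𝟙 Kobj := by rw [hs0def, lift_snd]
  have hs0ψ : s0 ≫ ψ = c0 := by
    rw [hs0def, hψdef, lift_whiskerLeft, Category.id_comp, hgK, hξK]
    exact lift_comp_fst_snd c0
  obtain ⟨pt, hptdef⟩ : ∃ pt : ↥Kobj.left,
      pt = IsLocalRing.closedPoint ((G ⊗ Ξ).left.residueField hh1) := ⟨_, rfl⟩
  have hc0pt : c0.left pt = hh1 := Scheme.fromSpecResidueField_apply _ _
  have hψt0 : ψ.left (s0.left pt) = hh1 := by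
    have e := congrArg (fun φ' : Kobj ⟶ G ⊗ Ξ => φ'.left pt) hs0ψ
    have e' : ψ.left (s0.left pt) = c0.left pt := e
    rw [e', hc0pt]
  have hgenψ : GeneralizingMap ψ.left := Flat.generalizingMap ψ.left
  have hspec' : hh2 ⤳ ψ.left (s0.left pt) := by rw [hψt0]; exact hspec
  obtain ⟨t1, ht1, hψt1⟩ := hgenψ hspec'
  -- the morphisms on `T = G × Spec κ`
  obtain ⟨g₁, hg₁⟩ : ∃ g₁ : G ⊗ Kobj ⟶ G, g₁ = fst G Kobj := ⟨_, rfl⟩
  obtain ⟨g₂, hg₂⟩ : ∃ g₂ : G ⊗ Kobj ⟶ G, g₂ = snd G Kobj ≫ gK := ⟨_, rfl⟩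
  obtain ⟨xT, hxT⟩ : ∃ xT : G ⊗ Kobj ⟶ X, xT = snd G Kobj ≫ ξK ≫ jΞ := ⟨_, rfl⟩
  obtain ⟨c, hc⟩ : ∃ c : G ⊗ Kobj ⟶ G, c = g₂ * g₁⁻¹ := ⟨_, rfl⟩
  obtain ⟨z, hz⟩ : ∃ z : G ⊗ Kobj ⟶ G ⊗ X, z = lift c (lift g₁ xT ≫ a.act) := ⟨_, rfl⟩
  have hs0g1 : s0 ≫ g₁ = gK := by rw [hg₁, hs0_1]
  have hs0g2 : s0 ≫ g₂ = gK := by rw [hg₂, ← Category.assoc, hs0_2, Category.id_comp]
  have hs0c : s0 ≫ c = toUnit Kobj ≫ η[G] := by
    rw [hc, MonObj.comp_mul, GrpObj.comp_inv, hs0g1, hs0g2, mul_inv_cancel, Hom.one_def]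
  have hct0 : c.left (s0.left pt) = η[G].left (IsLocalRing.closedPoint k) := by
    have e := congrArg (fun φ' : Kobj ⟶ G => φ'.left pt) hs0c
    have e' : c.left (s0.left pt) = η[G].left ((toUnit Kobj).left pt) := e
    rw [e']
    exact congrArg (fun t => η[G].left t) (hpt ((toUnit Kobj).left pt) (IsLocalRing.closedPoint k))
  have hz1 : z ≫ fst G X = c := by rw [hz, lift_fst]
  have hψφ : lift g₁ xT = ψ ≫ φ := by
    apply CartesianMonoidalCategory.hom_ext
    · rw [lift_fst, Category.assoc, hφ1, hψ1, hg₁]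
    · rw [lift_snd, Category.assoc, hφ2, ← Category.assoc, hψ2, Category.assoc, hxT]
  have hz2 : z ≫ snd G X = ψ ≫ φ ≫ a.act := by
    rw [hz, lift_snd, hψφ, Category.assoc]
  have hg2 : lift g₂ xT = snd G Kobj ≫ c0 ≫ φ := by
    apply CartesianMonoidalCategory.hom_ext
    · rw [lift_fst, Category.assoc, Category.assoc, hφ1, hg₂, hgK]
    · rw [lift_snd, Category.assoc, Category.assoc, hφ2, hxT, hξK, Category.assoc]
  have hz3 : z ≫ a.act = snd G Kobj ≫ c0 ≫ φ ≫ a.act := by
    have hcg : c * g₁ = g₂ := by rw [hc]; exact inv_mul_cancel_right _ _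
    rw [hz, ← smul_mul a, hcg, hg2, Category.assoc, Category.assoc]
  haveI : Subsingleton ↥Kobj.left :=
    (inferInstance : Subsingleton (PrimeSpectrum ((G ⊗ Ξ).left.residueField hh1)))
  have e1 : (fst G X).left (z.left t1) = c.left t1 :=
    congrArg (fun φ' : G ⊗ Kobj ⟶ G => φ'.left t1) hz1
  have e2 : (snd G X).left (z.left t1) = a.act.left (φ.left (ψ.left t1)) :=
    congrArg (fun φ' : G ⊗ Kobj ⟶ X => φ'.left t1) hz2
  have e3 : a.act.left (z.left t1) = a.act.left (φ.left (c0.left ((snd G Kobj).left t1))) :=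
    congrArg (fun φ' : G ⊗ Kobj ⟶ X => φ'.left t1) hz3
  refine ⟨z.left t1, ?_, ?_, ?_⟩
  · rw [e1, ← hct0]
    exact ht1.map c.left.continuous
  · rw [e2, hψt1, hφh']
    exact ha_h'
  · have hq : (snd G Kobj).left t1 = pt := Subsingleton.elim _ _
    rw [e3, hq, hc0pt, hφh]
    exact ha_h

/-- Irreducible components of `X` are stable under the identity component of `G`. -/
theorem act_mem_comp (G X : Over (Spec (CommRingCat.of k))) [GrpObj G] (a : AlgGrp.Action G X)
    (C0 : Set G.left) (hC0 : C0 ∈ irreducibleComponents ↥G.left)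
    (he : η[G].left (IsLocalRing.closedPoint k) ∈ C0)
    (Z : Set X.left) (hZ : Z ∈ irreducibleComponents ↥X.left)
    (z : ↥(G ⊗ X).left) (h1 : (fst G X).left z ∈ C0) (h2 : (snd G X).left z ∈ Z) :
    a.act.left z ∈ Z := by
  haveI hsub : Subsingleton ↥(Spec (CommRingCat.of k)) :=
    (inferInstance : Subsingleton (PrimeSpectrum k))
  have hpt : ∀ a b : ↥(Spec (CommRingCat.of k)), a = b := fun a b => Subsingleton.elim a b
  have hW : IsIrreducible ((fst G X).left ⁻¹' C0 ∩ (snd G X).left ⁻¹' Z) :=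
    isIrreducible_box' G.hom X.hom C0 Z (isClosed_of_mem_irreducibleComponents C0 hC0)
      (isClosed_of_mem_irreducibleComponents Z hZ) hC0.1 hZ.1
      (fun Zs incl _ _ hr => Groth.Agent.Lib.GrpIdCompH4.main7517 k G Zs incl
        (by rw [hr]; exact hC0) (by rw [hr]; exact he))
  have hμW : IsIrreducible (a.act.left '' ((fst G X).left ⁻¹' C0 ∩ (snd G X).left ⁻¹' Z)) :=
    hW.image _ a.act.left.continuous.continuousOn
  obtain ⟨sL, hsLdef⟩ : ∃ sL : X ⟶ G ⊗ X, sL = lift (1 : X ⟶ G) (𝟙 X) := ⟨_, rfl⟩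
  have hsL1 : sL ≫ fst G X = toUnit X ≫ η[G] := by rw [hsLdef, lift_fst, Hom.one_def]
  have hsL2 : sL ≫ snd G X = 𝟙 X := by rw [hsLdef, lift_snd]
  have hsLa : sL ≫ a.act = 𝟙 X := by rw [hsLdef]; exact smul_one a (𝟙 X)
  have hsub' : Z ⊆ a.act.left '' ((fst G X).left ⁻¹' C0 ∩ (snd G X).left ⁻¹' Z) := by
    intro x hx
    have e1 : (fst G X).left (sL.left x) = η[G].left ((toUnit X).left x) :=
      congrArg (fun φ' : X ⟶ G => φ'.left x) hsL1
    have e2 : (snd G X).left (sL.left x) = x :=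
      congrArg (fun φ' : X ⟶ X => φ'.left x) hsL2
    have e3 : a.act.left (sL.left x) = x :=
      congrArg (fun φ' : X ⟶ X => φ'.left x) hsLa
    refine ⟨sL.left x, ⟨?_, ?_⟩, e3⟩
    · show (fst G X).left (sL.left x) ∈ C0
      rw [e1]
      have hh : η[G].left ((toUnit X).left x) = η[G].left (IsLocalRing.closedPoint k) :=
        congrArg (fun t => η[G].left t) (hpt _ _)
      rw [hh]
      exact he
    · show (snd G X).left (sL.left x) ∈ Z
      rw [e2]
      exact hx
  exact hZ.2 hμW hsub' ⟨z, ⟨h1, h2⟩, rfl⟩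

theorem eq_of_specializes_of_isMax {T : Type u} [TopologicalSpace T] [T0Space T]
    (Z : Set T) (hZ : Z ∈ irreducibleComponents T) (ξ : T) (hcl : closure {ξ} = Z)
    (y : T) (hy : y ⤳ ξ) : y = ξ := by
  have h1 : Z ⊆ closure {y} := by
    rw [← hcl]
    exact closure_minimal (Set.singleton_subset_iff.mpr (specializes_iff_mem_closure.mp hy))
      isClosed_closure
  have h2 : closure {y} ⊆ Z := hZ.2 (isIrreducible_singleton.closure) h1
  have h3 : closure {y} = closure {ξ} := by rw [hcl]; exact Set.Subset.antisymm h2 h1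
  have hy' : IsGenericPoint y (closure {ξ}) := by rw [← h3]; exact isGenericPoint_closure
  exact hy'.eq isGenericPoint_closure

theorem main5350' (G X : Over (Spec (CommRingCat.of k))) [GrpObj G] (a : AlgGrp.Action G X)
    (hΦ : Surjective (lift a.act (snd G X)).left)
    (C0 : Set G.left) (hC0 : C0 ∈ irreducibleComponents ↥G.left)
    (he : η[G].left (IsLocalRing.closedPoint k) ∈ C0) (U : X.left.Opens) :
    IsOpen (a.act.left '' ((fst G X).left ⁻¹' C0 ∩ (snd G X).left ⁻¹' (U : Set X.left))) ∧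
    a.act.left '' ((fst G X).left ⁻¹' C0 ∩ (snd G X).left ⁻¹' (U : Set X.left)) =
      ⋃₀ {Z : Set X.left | Z ∈ irreducibleComponents ↥X.left ∧ ∃ ξ ∈ U, closure {ξ} = Z} ∧
    (IsRetrocompact (U : Set X.left) →
      a.act.left '' ((fst G X).left ⁻¹' C0 ∩ (snd G X).left ⁻¹' (U : Set X.left)) =
        closure (U : Set X.left)) := by
  obtain ⟨V, hVdef⟩ : ∃ V : Set X.left,
      V = a.act.left '' ((fst G X).left ⁻¹' C0 ∩ (snd G X).left ⁻¹' (U : Set X.left)) :=
    ⟨_, rfl⟩
  rw [← hVdef]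
  have hopen : IsOpen V := by
    have hsq : IsPullback (fst G X).left a.act.left (toUnit G).left (toUnit X).left :=
      (isPullback_act a).map (Over.forget _)
    rw [hVdef]
    exact isOpen_image' (k := k) (fst G X).left a.act.left (toUnit G).left (toUnit X).left hsq C0
      (isClosed_of_mem_irreducibleComponents C0 hC0)
      ((snd G X).left ⁻¹' (U : Set X.left)) (U.2.preimage (snd G X).left.continuous)
  have hsubV : ∀ Z ∈ irreducibleComponents ↥X.left, ∀ ξ ∈ U, closure {ξ} = Z → Z ⊆ V := by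
    intro Z hZ ξ hξU hcl x hxZ
    have hmax : ∀ y : X.left, y ⤳ ξ → y = ξ :=
      fun y hy => eq_of_specializes_of_isMax Z hZ ξ hcl y hy
    have hx : ξ ⤳ x := specializes_iff_mem_closure.mpr (hcl ▸ hxZ)
    obtain ⟨z, hz1, hz2, hz3⟩ := exists_act_eq G X a hΦ ξ x hmax hx
    rw [hVdef]
    refine ⟨z, ⟨mem_of_specializes_one G C0 hC0 he _ hz1, ?_⟩, hz3⟩
    show (snd G X).left z ∈ (U : Set X.left)
    rw [hz2]
    exact hξU
  have hVsub : ∀ v ∈ V, ∃ Z : Set X.left,
      (Z ∈ irreducibleComponents ↥X.left ∧ ∃ ξ ∈ U, closure {ξ} = Z) ∧ v ∈ Z := by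
    intro v hv
    rw [hVdef] at hv
    obtain ⟨z, ⟨hz1, hz2⟩, rfl⟩ := hv
    have hZ := irreducibleComponent_mem_irreducibleComponents ((snd G X).left z)
    obtain ⟨ξ, hξ⟩ := QuasiSober.sober hZ.1 isClosed_irreducibleComponent
    have hξu : ξ ⤳ (snd G X).left z := by
      rw [specializes_iff_mem_closure, hξ.def]
      exact mem_irreducibleComponent
    refine ⟨irreducibleComponent ((snd G X).left z),
      ⟨hZ, ξ, hξu.mem_open U.2 hz2, hξ.def⟩, ?_⟩
    exact act_mem_comp G X a C0 hC0 he _ hZ z hz1 mem_irreducibleComponent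
  refine ⟨hopen, ?_, ?_⟩
  · apply Set.Subset.antisymm
    · intro v hv
      obtain ⟨Z, hZ, hvZ⟩ := hVsub v hv
      exact ⟨Z, hZ, hvZ⟩
    · rintro v ⟨Z, ⟨hZ, ξ, hξU, hcl⟩, hvZ⟩
      exact hsubV Z hZ ξ hξU hcl hvZ
  · intro hretro
    apply Set.Subset.antisymm
    · intro v hv
      obtain ⟨Z, ⟨hZ, ξ, hξU, hcl⟩, hvZ⟩ := hVsub v hv
      rw [← hcl] at hvZ
      exact closure_mono (Set.singleton_subset_iff.mpr hξU) hvZ
    · intro y hy
      obtain ⟨u, huU, huy⟩ := exists_specializes_of_mem_closure X.left U hretro y hy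
      have hZ := irreducibleComponent_mem_irreducibleComponents u
      obtain ⟨ξ, hξ⟩ := QuasiSober.sober hZ.1 isClosed_irreducibleComponent
      have hξu : ξ ⤳ u := by
        rw [specializes_iff_mem_closure, hξ.def]
        exact mem_irreducibleComponent
      have hyZ : y ∈ irreducibleComponent u :=
        huy.mem_closed isClosed_irreducibleComponent mem_irreducibleComponent
      exact hsubV _ hZ ξ (hξu.mem_open U.2 huU) hξ.def hyZ

theorem main5350 (k : Type u) [Field k] (G X : Over (Spec (CommRingCat.of k))) [GrpObj G]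
    (a : AlgGrp.Action G X) (hΦ : Surjective (lift a.act (snd G X)).left)
    (pt : ↥(𝟙_ (Over (Spec (CommRingCat.of k)))).left) (C0 : Set G.left)
    (hC0 : C0 ∈ irreducibleComponents ↥G.left)
    (he : η[G].left.base pt ∈ C0) (U : X.left.Opens) :
    letI V : Set X.left := a.act.left.base '' {z : ↥(G ⊗ X).left |
      (fst G X).left.base z ∈ C0 ∧ (snd G X).left.base z ∈ U}
    IsOpen V ∧ V = ⋃₀ {Z : Set X.left | Z ∈ irreducibleComponents ↥X.left ∧
      ∃ ξ ∈ U, closure {ξ} = Z} ∧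
    (IsRetrocompact (U : Set X.left) → V = closure (U : Set X.left)) := by
  haveI hsub : Subsingleton ↥(Spec (CommRingCat.of k)) :=
    (inferInstance : Subsingleton (PrimeSpectrum k))
  have hpt : η[G].left.base pt = η[G].left (IsLocalRing.closedPoint k) :=
    congrArg (fun q => η[G].left q) (@Subsingleton.elim _ hsub pt _)
  rw [hpt] at he
  exact main5350' G X a hΦ C0 hC0 he U

end Groth.Agent.Lib.HomogSpH4
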