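import Mathlib
import Groth.Prelude.Def_AlgGrp
import Groth.Agent.Lib.HomogSp2_helper4

set_option autoImplicit false
set_option linter.unusedVariables false
set_option linter.unusedTactic false
set_option linter.unreachableTactic false
set_option linter.unusedSectionVars false
set_option linter.style.haveILetI false
set_option linter.deprecated false
set_option maxHeartbeats 1600000

/-!
# Homogeneous spaces under a group scheme over a field: connected components are irreducible,
orbits of rational points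
-/

universe u

namespace Groth.Agent.Lib.HomogSpH4

open CategoryTheory CategoryTheory.Limits AlgebraicGeometry MonoidalCategory
  CartesianMonoidalCategory MonObj GrpObj TopologicalSpace

variable {k : Type u} [Field k]

theorem inv_one_apply (G : Over (Spec (CommRingCat.of k))) [GrpObj G] :
    ι[G].left (η[G].left (IsLocalRing.closedPoint k)) = η[G].left (IsLocalRing.closedPoint k) := by
  have h := congrArg (fun φ : 𝟙_ (Over (Spec (CommRingCat.of k))) ⟶ G =>
    φ.left (IsLocalRing.closedPoint k)) (GrpObj.one_inv (G := G))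
  exact h

/-- Every point of a homogeneous space lies on a unique irreducible component. -/
theorem unique_comp (G X : Over (Spec (CommRingCat.of k))) [GrpObj G] (a : AlgGrp.Action G X)
    (hΦ : Surjective (lift a.act (snd G X)).left)
    (Z₁ Z₂ : Set X.left) (hZ₁ : Z₁ ∈ irreducibleComponents ↥X.left)
    (hZ₂ : Z₂ ∈ irreducibleComponents ↥X.left) (x : X.left) (hx1 : x ∈ Z₁) (hx2 : x ∈ Z₂) :
    Z₁ = Z₂ := by
  obtain ⟨C0, hC0def⟩ : ∃ C0 : Set G.left,
      C0 = irreducibleComponent (η[G].left (IsLocalRing.closedPoint k)) := ⟨_, rfl⟩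
  have hC0 : C0 ∈ irreducibleComponents ↥G.left := by
    rw [hC0def]; exact irreducibleComponent_mem_irreducibleComponents _
  have he : η[G].left (IsLocalRing.closedPoint k) ∈ C0 := by
    rw [hC0def]; exact mem_irreducibleComponent
  have hZ₁cl : IsClosed Z₁ := isClosed_of_mem_irreducibleComponents Z₁ hZ₁
  have hZ₂cl : IsClosed Z₂ := isClosed_of_mem_irreducibleComponents Z₂ hZ₂
  obtain ⟨ξ, hξ⟩ := QuasiSober.sober hZ₁.1 hZ₁cl
  have hmax : ∀ y : X.left, y ⤳ ξ → y = ξ :=
    fun y hy => eq_of_specializes_of_isMax Z₁ hZ₁ ξ hξ.def y hy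
  have hx : ξ ⤳ x := specializes_iff_mem_closure.mpr (hξ.def.symm ▸ hx1)
  obtain ⟨z, hz1, hz2, hz3⟩ := exists_act_eq G X a hΦ ξ x hmax hx
  obtain ⟨τ, hτ⟩ : ∃ τ : G ⊗ X ⟶ G ⊗ X, τ = lift ((fst G X)⁻¹) a.act := ⟨_, rfl⟩
  have hτ1 : τ ≫ fst G X = fst G X ≫ ι[G] := by rw [hτ, lift_fst]; rfl
  have hτ2 : τ ≫ snd G X = a.act := by rw [hτ, lift_snd]
  have hτ3 : τ ≫ a.act = snd G X := by
    calc τ ≫ a.act = lift ((fst G X)⁻¹) (lift (fst G X) (snd G X) ≫ a.act) ≫ a.act := by
          rw [hτ, lift_fst_snd, Category.id_comp]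
      _ = lift ((fst G X)⁻¹ * fst G X) (snd G X) ≫ a.act := (smul_mul a _ _ _).symm
      _ = snd G X := by rw [inv_mul_cancel]; exact smul_one a _
  have e1 : (fst G X).left (τ.left z) = ι[G].left ((fst G X).left z) :=
    congrArg (fun φ' : G ⊗ X ⟶ G => φ'.left z) hτ1
  have e2 : (snd G X).left (τ.left z) = a.act.left z :=
    congrArg (fun φ' : G ⊗ X ⟶ X => φ'.left z) hτ2
  have e3 : a.act.left (τ.left z) = (snd G X).left z :=
    congrArg (fun φ' : G ⊗ X ⟶ X => φ'.left z) hτ3
  have hfst : (fst G X).left (τ.left z) ∈ C0 := by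
    apply mem_of_specializes_one G C0 hC0 he
    rw [e1, ← inv_one_apply G]
    exact hz1.map ι[G].left.continuous
  have hsnd : (snd G X).left (τ.left z) ∈ Z₂ := by rw [e2, hz3]; exact hx2
  have hξZ₂ : ξ ∈ Z₂ := by
    have h := act_mem_comp G X a C0 hC0 he Z₂ hZ₂ (τ.left z) hfst hsnd
    rwa [e3, hz2] at h
  have h12 : Z₁ ⊆ Z₂ := by
    rw [← hξ.def]
    exact closure_minimal (Set.singleton_subset_iff.mpr hξZ₂) hZ₂cl
  exact Set.Subset.antisymm h12 (hZ₁.2 hZ₂.1 h12)

theorem conn_eq_irr (G X : Over (Spec (CommRingCat.of k))) [GrpObj G]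
    [QuasiSeparatedSpace X.left] (a : AlgGrp.Action G X)
    (hΦ : Surjective (lift a.act (snd G X)).left) (x : X.left) :
    connectedComponent x = irreducibleComponent x := by
  obtain ⟨C0, hC0def⟩ : ∃ C0 : Set G.left,
      C0 = irreducibleComponent (η[G].left (IsLocalRing.closedPoint k)) := ⟨_, rfl⟩
  have hC0 : C0 ∈ irreducibleComponents ↥G.left := by
    rw [hC0def]; exact irreducibleComponent_mem_irreducibleComponents _
  have he : η[G].left (IsLocalRing.closedPoint k) ∈ C0 := by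
    rw [hC0def]; exact mem_irreducibleComponent
  have hZ := irreducibleComponent_mem_irreducibleComponents x
  obtain ⟨ξ, hξ⟩ := QuasiSober.sober hZ.1 isClosed_irreducibleComponent
  apply Set.Subset.antisymm
  · intro y hy
    rw [← hξ.def, mem_closure_iff]
    intro O hO hyO
    obtain ⟨_, ⟨U, hU, rfl⟩, hyU, hUO⟩ :=
      X.left.isBasis_affineOpens.exists_subset_of_mem_open hyO hO
    obtain ⟨hopen, heq, hcl⟩ := main5350' G X a hΦ C0 hC0 he U
    have hretro : IsRetrocompact (U : Set X.left) := fun W hWc hWo =>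
      QuasiSeparatedSpace.inter_isCompact _ _ U.2 hU.isCompact hWo hWc
    have hVcl := hcl hretro
    have hclopen : IsClopen (closure (U : Set X.left)) := ⟨isClosed_closure, hVcl ▸ hopen⟩
    have hyV : y ∈ closure (U : Set X.left) := subset_closure hyU
    have hsubset : connectedComponent y ⊆ closure (U : Set X.left) :=
      hclopen.connectedComponent_subset hyV
    have hxy : connectedComponent x = connectedComponent y := connectedComponent_eq hy
    have hxV : x ∈ closure (U : Set X.left) := by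
      apply hsubset
      rw [← hxy]
      exact mem_connectedComponent
    rw [← hVcl, heq] at hxV
    obtain ⟨Z', ⟨hZ', ξ', hξ'U, hcl'⟩, hxZ'⟩ := hxV
    have hZZ : Z' = irreducibleComponent x :=
      unique_comp G X a hΦ Z' _ hZ' hZ x hxZ' mem_irreducibleComponent
    have hξξ : ξ' = ξ := by
      have h1 : IsGenericPoint ξ' (irreducibleComponent x) := by
        rw [← hZZ, ← hcl']; exact isGenericPoint_closure
      exact h1.eq hξ
    exact ⟨ξ, hUO (hξξ ▸ hξ'U), rfl⟩
  · exact hZ.1.isConnected.isPreconnected.subset_connectedComponent mem_irreducibleComponent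

theorem main3039 (k : Type u) [Field k] (G X : Over (Spec (CommRingCat.of k))) [GrpObj G]
    [QuasiSeparatedSpace X.left] (a : AlgGrp.Action G X)
    (hΦ : Surjective (lift a.act (snd G X)).left) (x : X.left) :
    IsPreirreducible (connectedComponent x) := by
  rw [conn_eq_irr G X a hΦ x]
  exact isIrreducible_irreducibleComponent.isPreirreducible

/-- The identity component acts transitively on each irreducible component. -/
theorem exists_act_of_mem_comp (G X : Over (Spec (CommRingCat.of k))) [GrpObj G]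
    (a : AlgGrp.Action G X) (hΦ : Surjective (lift a.act (snd G X)).left)
    (C0 : Set G.left) (hC0 : C0 ∈ irreducibleComponents ↥G.left)
    (he : η[G].left (IsLocalRing.closedPoint k) ∈ C0)
    (Z : Set X.left) (hZ : Z ∈ irreducibleComponents ↥X.left) (x₀ y : X.left)
    (hx₀ : x₀ ∈ Z) (hy : y ∈ Z) :
    ∃ z : ↥(G ⊗ X).left, (fst G X).left z ∈ C0 ∧ (snd G X).left z = x₀ ∧ a.act.left z = y := by
  have hZcl : IsClosed Z := isClosed_of_mem_irreducibleComponents Z hZ
  obtain ⟨ξ, hξ⟩ := QuasiSober.sober hZ.1 hZcl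
  have hmax : ∀ y : X.left, y ⤳ ξ → y = ξ :=
    fun y hy => eq_of_specializes_of_isMax Z hZ ξ hξ.def y hy
  have hξx : ξ ⤳ x₀ := specializes_iff_mem_closure.mpr (hξ.def.symm ▸ hx₀)
  have hξy : ξ ⤳ y := specializes_iff_mem_closure.mpr (hξ.def.symm ▸ hy)
  obtain ⟨z₁, hz11, hz12, hz13⟩ := exists_act_eq G X a hΦ ξ x₀ hmax hξx
  obtain ⟨z₂, hz21, hz22, hz23⟩ := exists_act_eq G X a hΦ ξ y hmax hξy
  obtain ⟨w, hw1, hw2⟩ := Scheme.Pullback.exists_preimage_pullback
    (f := (snd G X).left) (g := (snd G X).left) z₂ z₁ (by rw [hz12, hz22])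
  let Wo : Over (Spec (CommRingCat.of k)) :=
    Over.mk (pullback.fst (snd G X).left (snd G X).left ≫ (G ⊗ X).hom)
  let P₁ : Wo ⟶ G ⊗ X := Over.homMk (pullback.fst (snd G X).left (snd G X).left) rfl
  let P₂ : Wo ⟶ G ⊗ X := Over.homMk (pullback.snd (snd G X).left (snd G X).left) (by
    have h1 : (snd G X).left ≫ X.hom = (G ⊗ X).hom := Over.w (snd G X)
    show pullback.snd (snd G X).left (snd G X).left ≫ (G ⊗ X).hom =
      pullback.fst (snd G X).left (snd G X).left ≫ (G ⊗ X).hom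
    rw [← h1, ← Category.assoc, ← Category.assoc, pullback.condition])
  have hP : P₁ ≫ snd G X = P₂ ≫ snd G X := by
    ext1
    exact pullback.condition
  have hP₁w : P₁.left w = z₂ := hw1
  have hP₂w : P₂.left w = z₁ := hw2
  obtain ⟨g₁, hg₁⟩ : ∃ g₁ : Wo ⟶ G, g₁ = P₂ ≫ fst G X := ⟨_, rfl⟩
  obtain ⟨g₂, hg₂⟩ : ∃ g₂ : Wo ⟶ G, g₂ = P₁ ≫ fst G X := ⟨_, rfl⟩
  obtain ⟨ξW, hξW⟩ : ∃ ξW : Wo ⟶ X, ξW = P₁ ≫ snd G X := ⟨_, rfl⟩
  have hP₁ : P₁ = lift g₂ ξW := by rw [hg₂, hξW, lift_comp_fst_snd]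
  have hP₂ : P₂ = lift g₁ ξW := by rw [hg₁, hξW, hP, lift_comp_fst_snd]
  obtain ⟨zW, hzW⟩ : ∃ zW : Wo ⟶ G ⊗ X, zW = lift (g₂ * g₁⁻¹) (P₂ ≫ a.act) := ⟨_, rfl⟩
  have hzW1 : zW ≫ fst G X = lift g₂ (g₁ ≫ ι[G]) ≫ μ[G] := by
    rw [hzW, lift_fst]; rfl
  have hzW2 : zW ≫ snd G X = P₂ ≫ a.act := by rw [hzW, lift_snd]
  have hzW3 : zW ≫ a.act = P₁ ≫ a.act := by
    calc zW ≫ a.act = lift (g₂ * g₁⁻¹) (lift g₁ ξW ≫ a.act) ≫ a.act := by rw [hzW, ← hP₂]
      _ = lift (g₂ * g₁⁻¹ * g₁) ξW ≫ a.act := (smul_mul a _ _ _).symm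
      _ = P₁ ≫ a.act := by rw [inv_mul_cancel_right, ← hP₁]
  obtain ⟨m, hm⟩ : ∃ m : ↥(G ⊗ G).left, m = (lift g₂ (g₁ ≫ ι[G])).left w := ⟨_, rfl⟩
  have hm1 : (fst G G).left m = (fst G X).left z₂ := by
    have e : lift g₂ (g₁ ≫ ι[G]) ≫ fst G G = P₁ ≫ fst G X := by rw [lift_fst, hg₂]
    have e' := congrArg (fun φ' : Wo ⟶ G => φ'.left w) e
    have e'' : (fst G G).left ((lift g₂ (g₁ ≫ ι[G])).left w) = (fst G X).left (P₁.left w) := e'
    rw [hm, e'', hP₁w]
  have hm2 : (snd G G).left m = ι[G].left ((fst G X).left z₁) := by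
    have e : lift g₂ (g₁ ≫ ι[G]) ≫ snd G G = P₂ ≫ fst G X ≫ ι[G] := by
      rw [lift_snd, hg₁, Category.assoc]
    have e' := congrArg (fun φ' : Wo ⟶ G => φ'.left w) e
    have e'' : (snd G G).left ((lift g₂ (g₁ ≫ ι[G])).left w) =
        ι[G].left ((fst G X).left (P₂.left w)) := e'
    rw [hm, e'', hP₂w]
  have hmC1 : (fst G G).left m ∈ C0 := by
    rw [hm1]; exact mem_of_specializes_one G C0 hC0 he _ hz21
  have hmC2 : (snd G G).left m ∈ C0 := by
    rw [hm2]
    apply mem_of_specializes_one G C0 hC0 he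
    rw [← inv_one_apply G]
    exact hz11.map ι[G].left.continuous
  have hμm : μ[G].left m ∈ C0 :=
    Groth.Agent.Lib.GrpConnIrrH4.mul_mem_comp G C0 C0 hC0 he hC0 m hmC1 hmC2
  have e1 : (fst G X).left (zW.left w) = μ[G].left m := by
    have e' := congrArg (fun φ' : Wo ⟶ G => φ'.left w) hzW1
    have e'' : (fst G X).left (zW.left w) = μ[G].left ((lift g₂ (g₁ ≫ ι[G])).left w) := e'
    rw [e'', hm]
  have e2 : (snd G X).left (zW.left w) = a.act.left (P₂.left w) :=
    congrArg (fun φ' : Wo ⟶ X => φ'.left w) hzW2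
  have e3 : a.act.left (zW.left w) = a.act.left (P₁.left w) :=
    congrArg (fun φ' : Wo ⟶ X => φ'.left w) hzW3
  refine ⟨zW.left w, ?_, ?_, ?_⟩
  · rw [e1]; exact hμm
  · rw [e2, hP₂w]; exact hz13
  · rw [e3, hP₁w]; exact hz23

theorem main5403 (k : Type u) [Field k] (G X : Over (Spec (CommRingCat.of k)))
    [GrpObj G] [QuasiSeparatedSpace X.left] (a : AlgGrp.Action G X)
    (hΦ : Surjective (lift a.act (snd G X)).left)
    (x : 𝟙_ (Over (Spec (CommRingCat.of k))) ⟶ X)
    (pt : ↥(𝟙_ (Over (Spec (CommRingCat.of k)))).left)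
    (C0 : Set G.left) (hC0 : C0 ∈ irreducibleComponents ↥G.left) (he : η[G].left.base pt ∈ C0) :
    (a.orbitMap x).left.base '' C0 = connectedComponent (x.left.base pt) ∧
    ∀ (K : Type u) [Field K] [Algebra k K],
      IsIrreducible ((pullback.fst X.hom (Spec.map (CommRingCat.ofHom (algebraMap k K)))).base ⁻¹'
        connectedComponent (x.left.base pt)) := by
  haveI hsub : Subsingleton ↥(Spec (CommRingCat.of k)) :=
    (inferInstance : Subsingleton (PrimeSpectrum k))
  have hpt : ∀ a b : ↥(Spec (CommRingCat.of k)), a = b := fun a b => Subsingleton.elim a b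
  have hpt1 : η[G].left.base pt = η[G].left (IsLocalRing.closedPoint k) :=
    congrArg (fun q => η[G].left q) (@Subsingleton.elim _ hsub pt _)
  rw [hpt1] at he
  obtain ⟨x₀, hx₀def⟩ : ∃ x₀ : X.left, x₀ = x.left (IsLocalRing.closedPoint k) := ⟨_, rfl⟩
  have hpt2 : x.left.base pt = x₀ := by
    rw [hx₀def]
    exact congrArg (fun q => x.left q) (@Subsingleton.elim _ hsub pt _)
  rw [hpt2]
  obtain ⟨sx, hsx⟩ : ∃ sx : G ⟶ G ⊗ X, sx = lift (𝟙 G) (toUnit G ≫ x) := ⟨_, rfl⟩
  obtain ⟨o, ho⟩ : ∃ o : G ⟶ X, o = a.orbitMap x := ⟨_, rfl⟩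
  have ho' : o = sx ≫ a.act := by rw [ho, hsx]; rfl
  rw [← ho]
  have hsx1 : sx ≫ fst G X = 𝟙 G := by rw [hsx, lift_fst]
  have hsx2 : sx ≫ snd G X = toUnit G ≫ x := by rw [hsx, lift_snd]
  -- `o (e) = x₀`
  have hηo : η[G] ≫ o = x := by
    have h1 : η[G] ≫ toUnit G = 𝟙 (𝟙_ (Over (Spec (CommRingCat.of k)))) := toUnit_unique _ _
    have h2 : (1 : 𝟙_ (Over (Spec (CommRingCat.of k))) ⟶ G) = η[G] := by
      rw [Hom.one_def]
      have h3 : toUnit (𝟙_ (Over (Spec (CommRingCat.of k)))) = 𝟙 _ := toUnit_unique _ _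
      rw [h3, Category.id_comp]
    rw [ho', hsx, ← Category.assoc, comp_lift, Category.comp_id, ← Category.assoc, h1,
      Category.id_comp, ← h2]
    exact smul_one a x
  have hoe : o.left (η[G].left (IsLocalRing.closedPoint k)) = x₀ := by
    have e := congrArg (fun φ' : 𝟙_ (Over (Spec (CommRingCat.of k))) ⟶ X =>
      φ'.left (IsLocalRing.closedPoint k)) hηo
    have e' : o.left (η[G].left (IsLocalRing.closedPoint k)) =
        x.left (IsLocalRing.closedPoint k) := e
    rw [e', hx₀def]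
  have hconn : connectedComponent x₀ = irreducibleComponent x₀ := conn_eq_irr G X a hΦ x₀
  have hZ := irreducibleComponent_mem_irreducibleComponents x₀
  -- the image of `C0`
  have himage : o.left '' C0 = connectedComponent x₀ := by
    apply Set.Subset.antisymm
    · have hpre : _root_.IsPreconnected (o.left '' C0) :=
        (hC0.1.isConnected.isPreconnected).image _ o.left.continuous.continuousOn
      exact hpre.subset_connectedComponent ⟨_, he, hoe⟩
    · intro y hy
      rw [hconn] at hy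
      obtain ⟨z, hz1, hz2, hz3⟩ := exists_act_of_mem_comp G X a hΦ C0 hC0 he _ hZ x₀ y
        mem_irreducibleComponent hy
      have sqs : IsPullback (toUnit G).left sx.left x.left (snd G X).left := by
        rw [hsx]
        exact (isPullback_section (G := G) x).map (Over.forget _)
      obtain ⟨g, -, hg⟩ := exists_of_isPullback sqs (IsLocalRing.closedPoint k) z (by
        rw [hz2, hx₀def])
      have e1 : (fst G X).left (sx.left g) = g :=
        congrArg (fun φ' : G ⟶ G => φ'.left g) hsx1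
      have e2 : o.left g = a.act.left (sx.left g) :=
        congrArg (fun φ' : G ⟶ X => φ'.left g) ho'
      refine ⟨g, ?_, ?_⟩
      · rw [← e1, hg]; exact hz1
      · rw [e2, hg]; exact hz3
  refine ⟨himage, ?_⟩
  intro K _ _
  rw [← himage]
  obtain ⟨s, hs⟩ : ∃ s : Spec (CommRingCat.of K) ⟶ Spec (CommRingCat.of k),
      s = Spec.map (CommRingCat.ofHom (algebraMap k K)) := ⟨_, rfl⟩
  rw [← hs]
  have hoX : o.left ≫ X.hom = G.hom := Over.w o
  obtain ⟨oK, hoK1, hoK2⟩ : ∃ oK : pullback G.hom s ⟶ pullback X.hom s,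
      oK ≫ pullback.fst X.hom s = pullback.fst G.hom s ≫ o.left ∧
      oK ≫ pullback.snd X.hom s = pullback.snd G.hom s :=
    ⟨pullback.lift (pullback.fst G.hom s ≫ o.left) (pullback.snd G.hom s)
      (by rw [Category.assoc, hoX, pullback.condition]), pullback.lift_fst _ _ _,
      pullback.lift_snd _ _ _⟩
  have big : IsPullback (oK ≫ pullback.snd X.hom s) (pullback.fst G.hom s) s
      (o.left ≫ X.hom) := by
    rw [hoK2, hoX]
    exact (IsPullback.of_hasPullback G.hom s).flip
  have sq : IsPullback oK (pullback.fst G.hom s) (pullback.fst X.hom s) o.left :=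
    IsPullback.of_right big hoK1 (IsPullback.of_hasPullback X.hom s).flip
  have hset : (pullback.fst X.hom s).base ⁻¹' (o.left '' C0) =
      oK '' (pullback.fst G.hom s ⁻¹' C0) := by
    ext x'
    constructor
    · rintro ⟨g, hgC, hgx⟩
      obtain ⟨g', hg'1, hg'2⟩ := exists_of_isPullback sq x' g hgx.symm
      exact ⟨g', by show pullback.fst G.hom s g' ∈ C0; rw [hg'2]; exact hgC, hg'1⟩
    · rintro ⟨g', hg'C, rfl⟩
      refine ⟨pullback.fst G.hom s g', hg'C, ?_⟩
      have e := congrArg (fun φ' : pullback G.hom s ⟶ X.left => φ' g') hoK1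
      exact e.symm
  rw [hset]
  have hbox : IsIrreducible (pullback.fst G.hom s ⁻¹' C0 ∩ pullback.snd G.hom s ⁻¹' Set.univ) :=
    isIrreducible_box' G.hom s C0 Set.univ (isClosed_of_mem_irreducibleComponents C0 hC0)
      isClosed_univ hC0.1 (IrreducibleSpace.isIrreducible_univ _)
      (fun Zs incl _ _ hr => Groth.Agent.Lib.GrpIdCompH4.main7517 k G Zs incl
        (by rw [hr]; exact hC0) (by rw [hr]; exact he))
  rw [Set.preimage_univ, Set.inter_univ] at hbox
  exact hbox.image _ oK.continuous.continuousOn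

end Groth.Agent.Lib.HomogSpH4
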