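import Mathlib
import Groth.Prelude.Def_AlgGrp
import Groth.Agent.Lib.HomogSp3_helper4
import Groth.Agent.Lib.GrpQC_helper4

set_option autoImplicit false
set_option linter.unusedVariables false
set_option linter.unusedTactic false
set_option linter.unreachableTactic false
set_option linter.unusedSectionVars false
set_option linter.style.haveILetI false
set_option linter.deprecated false
set_option maxHeartbeats 1600000

/-!
# Irreducible homogeneous spaces are quasi-compact
-/

universe u

namespace Groth.Agent.Lib.HomogSpH4

open CategoryTheory CategoryTheory.Limits AlgebraicGeometry MonoidalCategory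
  CartesianMonoidalCategory MonObj GrpObj TopologicalSpace

theorem main5349 (k : Type u) [Field k] (G X : Over (Spec (CommRingCat.of k))) [GrpObj G]
    (a : AlgGrp.Action G X) (hΦ : Surjective (lift a.act (snd G X)).left)
    [IrreducibleSpace X.left] : CompactSpace X.left := by
  have hirr : IsIrreducible (Set.univ : Set X.left) := IrreducibleSpace.isIrreducible_univ _
  obtain ⟨ξ, hξ⟩ := QuasiSober.sober hirr isClosed_univ
  have hZ : (Set.univ : Set X.left) ∈ irreducibleComponents ↥X.left :=
    ⟨hirr, fun b _ _ => Set.subset_univ b⟩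
  have hmax : ∀ y : X.left, y ⤳ ξ → y = ξ :=
    fun y hy => eq_of_specializes_of_isMax Set.univ hZ ξ hξ.def y hy
  obtain ⟨U, hU, hξU, -⟩ := exists_isAffineOpen_mem_and_subset (x := ξ) (U := ⊤) trivial
  obtain ⟨V, hV, heV, -⟩ := exists_isAffineOpen_mem_and_subset
    (x := η[G].left (IsLocalRing.closedPoint k)) (U := ⊤) trivial
  have hbox : IsCompact ((fst G X).left ⁻¹' (V : Set G.left) ∩
      (snd G X).left ⁻¹' (U : Set X.left)) :=
    Groth.Agent.Lib.GrpQCH4.isCompact_box G.hom X.hom V U hV hU
  have himg : a.act.left '' ((fst G X).left ⁻¹' (V : Set G.left) ∩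
      (snd G X).left ⁻¹' (U : Set X.left)) = Set.univ := by
    apply Set.eq_univ_of_forall
    intro x
    have hx : ξ ⤳ x := by
      rw [specializes_iff_mem_closure, hξ.def]
      exact Set.mem_univ x
    obtain ⟨z, hz1, hz2, hz3⟩ := exists_act_eq G X a hΦ ξ x hmax hx
    refine ⟨z, ⟨hz1.mem_open V.2 heV, ?_⟩, hz3⟩
    show (snd G X).left z ∈ (U : Set X.left)
    rw [hz2]
    exact hξU
  rw [← isCompact_univ_iff, ← himg]
  exact hbox.image a.act.left.continuous

end Groth.Agent.Lib.HomogSpH4
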