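import Mathlib
import Groth.Prelude.Def_AlgGrp
import Groth.Agent.Lib.HomogSp3_helper4
import Groth.Agent.Lib.MaxOpenSub_helper4

set_option autoImplicit false
set_option linter.unusedVariables false
set_option linter.unusedTactic false
set_option linter.unreachableTactic false
set_option linter.unusedSectionVars false
set_option linter.style.haveILetI false
set_option linter.deprecated false
set_option maxHeartbeats 1600000

/-!
# Homogeneous spaces under a group scheme over a field: base change to a field extension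
-/

universe v u

namespace Groth.Agent.Lib.HomogSpH4

open CategoryTheory CategoryTheory.Limits AlgebraicGeometry MonoidalCategory
  CartesianMonoidalCategory MonObj GrpObj TopologicalSpace

section abstract3

variable {C : Type u} [Category.{v} C] [CartesianMonoidalCategory C]

lemma isPullback_prod_whisker (X P : C) :
    IsPullback ((fst X X) ▷ P) ((snd X X) ▷ P) (snd X P) (snd X P) := by
  have w : ((fst X X) ▷ P) ≫ snd X P = ((snd X X) ▷ P) ≫ snd X P := by
    rw [whiskerRight_snd, whiskerRight_snd]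
  refine ⟨⟨w⟩, ⟨PullbackCone.IsLimit.mk w
    (fun s => lift (lift (s.fst ≫ fst X P) (s.snd ≫ fst X P)) (s.fst ≫ snd X P)) ?_ ?_ ?_⟩⟩
  · intro s
    rw [lift_whiskerRight, lift_fst, lift_comp_fst_snd]
  · intro s
    rw [lift_whiskerRight, lift_snd, s.condition, lift_comp_fst_snd]
  · intro s m h1 h2
    apply CartesianMonoidalCategory.hom_ext
    · rw [lift_fst]
      apply CartesianMonoidalCategory.hom_ext
      · rw [lift_fst, ← h1]
        simp only [Category.assoc, whiskerRight_fst]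
      · rw [lift_snd, ← h2]
        simp only [Category.assoc, whiskerRight_fst]
    · rw [lift_snd, ← h1]
      simp only [Category.assoc, whiskerRight_snd]

end abstract3

section act2

variable {S : Scheme.{u}} {G X : Over S} [GrpObj G]

/-- An action from its axioms on `T`-valued points. -/
noncomputable def actionOfPoints {Y : Over S} (b : G ⊗ Y ⟶ Y)
    (h1 : ∀ (T : Over S) (y : T ⟶ Y), lift (1 : T ⟶ G) y ≫ b = y)
    (hm : ∀ (T : Over S) (g h : T ⟶ G) (y : T ⟶ Y),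
      lift (g * h) y ≫ b = lift g (lift h y ≫ b) ≫ b) : AlgGrp.Action G Y where
  act := b
  one_act := by
    have e : η[G] ▷ Y = lift (1 : 𝟙_ (Over S) ⊗ Y ⟶ G) (snd (𝟙_ (Over S)) Y) := by
      apply CartesianMonoidalCategory.hom_ext
      · rw [whiskerRight_fst, lift_fst, Hom.one_def]
        congr 1 <;> exact toUnit_unique _ _
      · rw [whiskerRight_snd, lift_snd]
    rw [e, h1, leftUnitor_hom]
  mul_act := by
    have e1 : μ[G] ▷ Y = lift ((fst (G ⊗ G) Y ≫ fst G G) * (fst (G ⊗ G) Y ≫ snd G G))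
        (snd (G ⊗ G) Y) := by
      apply CartesianMonoidalCategory.hom_ext
      · rw [whiskerRight_fst, lift_fst, Hom.mul_def, lift_comp_fst_snd]
      · rw [whiskerRight_snd, lift_snd]
    have e3 : (α_ G G Y).hom ≫ snd G (G ⊗ Y) =
        lift (fst (G ⊗ G) Y ≫ snd G G) (snd (G ⊗ G) Y) := by
      apply CartesianMonoidalCategory.hom_ext
      · rw [Category.assoc, associator_hom_snd_fst, lift_fst]
      · rw [Category.assoc, associator_hom_snd_snd, lift_snd]
    have e2 : (α_ G G Y).hom ≫ (G ◁ b) = lift (fst (G ⊗ G) Y ≫ fst G G)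
        (lift (fst (G ⊗ G) Y ≫ snd G G) (snd (G ⊗ G) Y) ≫ b) := by
      apply CartesianMonoidalCategory.hom_ext
      · rw [Category.assoc, whiskerLeft_fst, associator_hom_fst, lift_fst]
      · rw [Category.assoc, whiskerLeft_snd, ← Category.assoc, e3, lift_snd]
    rw [e1, hm, ← e2, Category.assoc]

variable (a : AlgGrp.Action G X) (P : Over S)

theorem extAct_point {T : Over S} (g : T ⟶ G) (y : T ⟶ X ⊗ P) :
    lift g y ≫ (α_ G X P).inv ≫ (a.act ▷ P) =
      lift (lift g (y ≫ fst X P) ≫ a.act) (y ≫ snd X P) := by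
  have hy : lift g y = lift g (lift (y ≫ fst X P) (y ≫ snd X P)) := by rw [lift_comp_fst_snd]
  rw [hy, lift_lift_associator_inv_assoc, lift_whiskerRight]

/-- The action of `G` on `X × P` through the first factor. -/
noncomputable def extAct : AlgGrp.Action G (X ⊗ P) :=
  actionOfPoints ((α_ G X P).inv ≫ (a.act ▷ P))
    (fun T y => by
      rw [extAct_point, smul_one a, lift_comp_fst_snd])
    (fun T g h y => by
      simp only [extAct_point, lift_fst, lift_snd, smul_mul a])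

theorem extAct_act : (extAct a P).act = (α_ G X P).inv ≫ (a.act ▷ P) := rfl

end act2

variable {k : Type u} [Field k]

theorem exists_of_same_image (G X : Over (Spec (CommRingCat.of k))) [GrpObj G]
    (a : AlgGrp.Action G X) (hΦ : Surjective (lift a.act (snd G X)).left)
    (P : Over (Spec (CommRingCat.of k))) (ξ' x' : ↥(X ⊗ P).left)
    (hP : (snd X P).left ξ' = (snd X P).left x') :
    ∃ h : ↥(G ⊗ (X ⊗ P)).left, (snd G (X ⊗ P)).left h = ξ' ∧
      (extAct a P).act.left h = x' := by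
  obtain ⟨Φ, hΦdef⟩ : ∃ Φ : G ⊗ X ⟶ X ⊗ X, Φ = lift a.act (snd G X) := ⟨_, rfl⟩
  have hΦ1 : Φ ≫ fst X X = a.act := by rw [hΦdef, lift_fst]
  have hΦ2 : Φ ≫ snd X X = snd G X := by rw [hΦdef, lift_snd]
  have sqD : IsPullback ((fst X X) ▷ P).left ((snd X X) ▷ P).left (snd X P).left
      (snd X P).left := (isPullback_prod_whisker X P).map (Over.forget _)
  obtain ⟨d, hd1, hd2⟩ := exists_of_isPullback sqD x' ξ' hP.symm
  have sqΦ : IsPullback (fst (G ⊗ X) P).left (Φ ▷ P).left Φ.left (fst (X ⊗ X) P).left :=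
    (MaxOpenSubH4.isPullback_whiskerRight Φ P).map (Over.forget _)
  haveI : Surjective Φ.left := by rw [hΦdef]; exact hΦ
  haveI : Surjective (Φ ▷ P).left :=
    MorphismProperty.of_isPullback (P := @Surjective) sqΦ inferInstance
  obtain ⟨ε, hε⟩ := (Φ ▷ P).left.surjective d
  refine ⟨(α_ G X P).hom.left ε, ?_, ?_⟩
  · have e : (α_ G X P).hom ≫ snd G (X ⊗ P) = (Φ ▷ P) ≫ ((snd X X) ▷ P) := by
      rw [← comp_whiskerRight, hΦ2]
      apply CartesianMonoidalCategory.hom_ext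
      · rw [Category.assoc, associator_hom_snd_fst, whiskerRight_fst]
      · rw [Category.assoc, associator_hom_snd_snd, whiskerRight_snd]
    have e' := congrArg (fun φ' : (G ⊗ X) ⊗ P ⟶ X ⊗ P => φ'.left ε) e
    have e'' : (snd G (X ⊗ P)).left ((α_ G X P).hom.left ε) =
        ((snd X X) ▷ P).left ((Φ ▷ P).left ε) := e'
    rw [e'', hε, hd2]
  · have e : (α_ G X P).hom ≫ (extAct a P).act = (Φ ▷ P) ≫ ((fst X X) ▷ P) := by
      rw [← comp_whiskerRight, hΦ1, extAct_act, Iso.hom_inv_id_assoc]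
    have e' := congrArg (fun φ' : (G ⊗ X) ⊗ P ⟶ X ⊗ P => φ'.left ε) e
    have e'' : (extAct a P).act.left ((α_ G X P).hom.left ε) =
        ((fst X X) ▷ P).left ((Φ ▷ P).left ε) := e'
    rw [e'', hε, hd1]

/-- Variant of `exists_act_eq` assuming only that `x` lies in the orbit of `ξ`. -/
theorem exists_act_eq_of_exists (G X : Over (Spec (CommRingCat.of k))) [GrpObj G]
    (a : AlgGrp.Action G X) (ξ x : X.left)
    (hmax : ∀ y : X.left, y ⤳ ξ → y = ξ) (hx : ξ ⤳ x)
    (hex : ∃ h : ↥(G ⊗ X).left, (snd G X).left h = ξ ∧ a.act.left h = x) :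
    ∃ z : ↥(G ⊗ X).left, (fst G X).left z ⤳ η[G].left (IsLocalRing.closedPoint k) ∧
      (snd G X).left z = ξ ∧ a.act.left z = x := by
  haveI hsub : Subsingleton ↥(Spec (CommRingCat.of k)) :=
    (inferInstance : Subsingleton (PrimeSpectrum k))
  have hpt : ∀ a b : ↥(Spec (CommRingCat.of k)), a = b := fun a b => Subsingleton.elim a b
  obtain ⟨h, hs_h, ha_h⟩ := hex
  -- lift the generalisation along the flat action map
  haveI := flat_act G X a
  have hgen : GeneralizingMap a.act.left := Flat.generalizingMap a.act.left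
  have hx' : ξ ⤳ a.act.left h := by rw [ha_h]; exact hx
  obtain ⟨h', hh', ha_h'⟩ := hgen hx'
  have hs_h' : (snd G X).left h' = ξ := by
    apply hmax
    have h1 := hh'.map (snd G X).left.continuous
    rwa [hs_h] at h1
  -- the fibre over `ξ`
  let Ξ : Over (Spec (CommRingCat.of k)) := Over.mk (X.left.fromSpecResidueField ξ ≫ X.hom)
  let jΞ : Ξ ⟶ X := Over.homMk (X.left.fromSpecResidueField ξ) rfl
  obtain ⟨φ, hφdef⟩ : ∃ φ : G ⊗ Ξ ⟶ G ⊗ X, φ = G ◁ jΞ := ⟨_, rfl⟩
  have hφ1 : φ ≫ fst G X = fst G Ξ := by rw [hφdef, whiskerLeft_fst]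
  have hφ2 : φ ≫ snd G X = snd G Ξ ≫ jΞ := by rw [hφdef, whiskerLeft_snd]
  have sqφ : IsPullback (snd G Ξ).left φ.left jΞ.left (snd G X).left := by
    rw [hφdef]
    exact (isPullback_whiskerLeft jΞ G).map (Over.forget _)
  haveI : IsPreimmersion jΞ.left :=
    (inferInstance : IsPreimmersion (X.left.fromSpecResidueField ξ))
  haveI hφpre : IsPreimmersion φ.left :=
    MorphismProperty.of_isPullback (P := @IsPreimmersion) sqφ inferInstance
  obtain ⟨ptΞ, hptΞ⟩ : ∃ ptΞ : ↥Ξ.left, ptΞ = IsLocalRing.closedPoint (X.left.residueField ξ) :=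
    ⟨_, rfl⟩
  have hjΞ : jΞ.left ptΞ = ξ := Scheme.fromSpecResidueField_apply _ _
  obtain ⟨hh1, -, hφh⟩ := exists_of_isPullback sqφ ptΞ h (by rw [hjΞ, hs_h])
  obtain ⟨hh2, -, hφh'⟩ := exists_of_isPullback sqφ ptΞ h' (by rw [hjΞ, hs_h'])
  have hspec : hh2 ⤳ hh1 := by
    apply φ.left.isEmbedding.isInducing.specializes_iff.mp
    rw [hφh, hφh']
    exact hh'
  -- the residue field of the point `hh1`
  let Kobj : Over (Spec (CommRingCat.of k)) :=
    Over.mk ((G ⊗ Ξ).left.fromSpecResidueField hh1 ≫ (G ⊗ Ξ).hom)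
  let c0 : Kobj ⟶ G ⊗ Ξ := Over.homMk ((G ⊗ Ξ).left.fromSpecResidueField hh1) rfl
  obtain ⟨gK, hgK⟩ : ∃ gK : Kobj ⟶ G, gK = c0 ≫ fst G Ξ := ⟨_, rfl⟩
  obtain ⟨ξK, hξK⟩ : ∃ ξK : Kobj ⟶ Ξ, ξK = c0 ≫ snd G Ξ := ⟨_, rfl⟩
  obtain ⟨ψ, hψdef⟩ : ∃ ψ : G ⊗ Kobj ⟶ G ⊗ Ξ, ψ = G ◁ ξK := ⟨_, rfl⟩
  have hψ1 : ψ ≫ fst G Ξ = fst G Kobj := by rw [hψdef, whiskerLeft_fst]
  have hψ2 : ψ ≫ snd G Ξ = snd G Kobj ≫ ξK := by rw [hψdef, whiskerLeft_snd]
  have sqψ : IsPullback (snd G Kobj).left ψ.left ξK.left (snd G Ξ).left := by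
    rw [hψdef]
    exact (isPullback_whiskerLeft ξK G).map (Over.forget _)
  haveI : Subsingleton ↥(Spec (X.left.residueField ξ)) :=
    (inferInstance : Subsingleton (PrimeSpectrum (X.left.residueField ξ)))
  have hflatK : ∀ (t : Kobj.left ⟶ Spec (X.left.residueField ξ)), Flat t :=
    fun t => inferInstance
  haveI : Flat ξK.left := hflatK _
  haveI : Flat ψ.left := MorphismProperty.of_isPullback (P := @Flat) sqψ inferInstance
  obtain ⟨s0, hs0def⟩ : ∃ s0 : Kobj ⟶ G ⊗ Kobj, s0 = lift gK (𝟙 Kobj) := ⟨_, rfl⟩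
  have hs0_1 : s0 ≫ fst G Kobj = gK := by rw [hs0def, lift_fst]
  have hs0_2 : s0 ≫ snd G Kobj = 𝟙 Kobj := by rw [hs0def, lift_snd]
  have hs0ψ : s0 ≫ ψ = c0 := by
    rw [hs0def, hψdef, lift_whiskerLeft, Category.id_comp, hgK, hξK]
    exact lift_comp_fst_snd c0
  obtain ⟨pt, hptdef⟩ : ∃ pt : ↥Kobj.left,
      pt = IsLocalRing.closedPoint ((G ⊗ Ξ).left.residueField hh1) := ⟨_, rfl⟩
  have hc0pt : c0.left pt = hh1 := Scheme.fromSpecResidueField_apply _ _
  have hψt0 : ψ.left (s0.left pt) = hh1 := by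
    have e := congrArg (fun φ' : Kobj ⟶ G ⊗ Ξ => φ'.left pt) hs0ψ
    have e' : ψ.left (s0.left pt) = c0.left pt := e
    rw [e', hc0pt]
  have hgenψ : GeneralizingMap ψ.left := Flat.generalizingMap ψ.left
  have hspec' : hh2 ⤳ ψ.left (s0.left pt) := by rw [hψt0]; exact hspec
  obtain ⟨t1, ht1, hψt1⟩ := hgenψ hspec'
  -- the morphisms on `T = G × Spec κ`
  obtain ⟨g₁, hg₁⟩ : ∃ g₁ : G ⊗ Kobj ⟶ G, g₁ = fst G Kobj := ⟨_, rfl⟩
  obtain ⟨g₂, hg₂⟩ : ∃ g₂ : G ⊗ Kobj ⟶ G, g₂ = snd G Kobj ≫ gK := ⟨_, rfl⟩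
  obtain ⟨xT, hxT⟩ : ∃ xT : G ⊗ Kobj ⟶ X, xT = snd G Kobj ≫ ξK ≫ jΞ := ⟨_, rfl⟩
  obtain ⟨c, hc⟩ : ∃ c : G ⊗ Kobj ⟶ G, c = g₂ * g₁⁻¹ := ⟨_, rfl⟩
  obtain ⟨z, hz⟩ : ∃ z : G ⊗ Kobj ⟶ G ⊗ X, z = lift c (lift g₁ xT ≫ a.act) := ⟨_, rfl⟩
  have hs0g1 : s0 ≫ g₁ = gK := by rw [hg₁, hs0_1]
  have hs0g2 : s0 ≫ g₂ = gK := by rw [hg₂, ← Category.assoc, hs0_2, Category.id_comp]
  have hs0c : s0 ≫ c = toUnit Kobj ≫ η[G] := by
    rw [hc, MonObj.comp_mul, GrpObj.comp_inv, hs0g1, hs0g2, mul_inv_cancel, Hom.one_def]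
  have hct0 : c.left (s0.left pt) = η[G].left (IsLocalRing.closedPoint k) := by
    have e := congrArg (fun φ' : Kobj ⟶ G => φ'.left pt) hs0c
    have e' : c.left (s0.left pt) = η[G].left ((toUnit Kobj).left pt) := e
    rw [e']
    exact congrArg (fun t => η[G].left t) (hpt ((toUnit Kobj).left pt) (IsLocalRing.closedPoint k))
  have hz1 : z ≫ fst G X = c := by rw [hz, lift_fst]
  have hψφ : lift g₁ xT = ψ ≫ φ := by
    apply CartesianMonoidalCategory.hom_ext
    · rw [lift_fst, Category.assoc, hφ1, hψ1, hg₁]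
    · rw [lift_snd, Category.assoc, hφ2, ← Category.assoc, hψ2, Category.assoc, hxT]
  have hz2 : z ≫ snd G X = ψ ≫ φ ≫ a.act := by
    rw [hz, lift_snd, hψφ, Category.assoc]
  have hg2 : lift g₂ xT = snd G Kobj ≫ c0 ≫ φ := by
    apply CartesianMonoidalCategory.hom_ext
    · rw [lift_fst, Category.assoc, Category.assoc, hφ1, hg₂, hgK]
    · rw [lift_snd, Category.assoc, Category.assoc, hφ2, hxT, hξK, Category.assoc]
  have hz3 : z ≫ a.act = snd G Kobj ≫ c0 ≫ φ ≫ a.act := by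
    have hcg : c * g₁ = g₂ := by rw [hc]; exact inv_mul_cancel_right _ _
    rw [hz, ← smul_mul a, hcg, hg2, Category.assoc, Category.assoc]
  haveI : Subsingleton ↥Kobj.left :=
    (inferInstance : Subsingleton (PrimeSpectrum ((G ⊗ Ξ).left.residueField hh1)))
  have e1 : (fst G X).left (z.left t1) = c.left t1 :=
    congrArg (fun φ' : G ⊗ Kobj ⟶ G => φ'.left t1) hz1
  have e2 : (snd G X).left (z.left t1) = a.act.left (φ.left (ψ.left t1)) :=
    congrArg (fun φ' : G ⊗ Kobj ⟶ X => φ'.left t1) hz2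
  have e3 : a.act.left (z.left t1) = a.act.left (φ.left (c0.left ((snd G Kobj).left t1))) :=
    congrArg (fun φ' : G ⊗ Kobj ⟶ X => φ'.left t1) hz3
  refine ⟨z.left t1, ?_, ?_, ?_⟩
  · rw [e1, ← hct0]
    exact ht1.map c.left.continuous
  · rw [e2, hψt1, hφh']
    exact ha_h'
  · have hq : (snd G Kobj).left t1 = pt := Subsingleton.elim _ _
    rw [e3, hq, hc0pt, hφh]
    exact ha_h

theorem unique_comp' (G X : Over (Spec (CommRingCat.of k))) [GrpObj G] (a : AlgGrp.Action G X)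
    (hH : ∀ ξ x : X.left, ξ ⤳ x → ∃ h : ↥(G ⊗ X).left,
      (snd G X).left h = ξ ∧ a.act.left h = x)
    (Z₁ Z₂ : Set X.left) (hZ₁ : Z₁ ∈ irreducibleComponents ↥X.left)
    (hZ₂ : Z₂ ∈ irreducibleComponents ↥X.left) (x : X.left) (hx1 : x ∈ Z₁) (hx2 : x ∈ Z₂) :
    Z₁ = Z₂ := by
  obtain ⟨C0, hC0def⟩ : ∃ C0 : Set G.left,
      C0 = irreducibleComponent (η[G].left (IsLocalRing.closedPoint k)) := ⟨_, rfl⟩
  have hC0 : C0 ∈ irreducibleComponents ↥G.left := by
    rw [hC0def]; exact irreducibleComponent_mem_irreducibleComponents _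
  have he : η[G].left (IsLocalRing.closedPoint k) ∈ C0 := by
    rw [hC0def]; exact mem_irreducibleComponent
  have hZ₁cl : IsClosed Z₁ := isClosed_of_mem_irreducibleComponents Z₁ hZ₁
  have hZ₂cl : IsClosed Z₂ := isClosed_of_mem_irreducibleComponents Z₂ hZ₂
  obtain ⟨ξ, hξ⟩ := QuasiSober.sober hZ₁.1 hZ₁cl
  have hmax : ∀ y : X.left, y ⤳ ξ → y = ξ :=
    fun y hy => eq_of_specializes_of_isMax Z₁ hZ₁ ξ hξ.def y hy
  have hx : ξ ⤳ x := specializes_iff_mem_closure.mpr (hξ.def.symm ▸ hx1)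
  obtain ⟨z, hz1, hz2, hz3⟩ := exists_act_eq_of_exists G X a ξ x hmax hx (hH ξ x hx)
  obtain ⟨τ, hτ⟩ : ∃ τ : G ⊗ X ⟶ G ⊗ X, τ = lift ((fst G X)⁻¹) a.act := ⟨_, rfl⟩
  have hτ1 : τ ≫ fst G X = fst G X ≫ ι[G] := by rw [hτ, lift_fst]; rfl
  have hτ2 : τ ≫ snd G X = a.act := by rw [hτ, lift_snd]
  have hτ3 : τ ≫ a.act = snd G X := by
    calc τ ≫ a.act = lift ((fst G X)⁻¹) (lift (fst G X) (snd G X) ≫ a.act) ≫ a.act := by
          rw [hτ, lift_fst_snd, Category.id_comp]
      _ = lift ((fst G X)⁻¹ * fst G X) (snd G X) ≫ a.act := (smul_mul a _ _ _).symm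
      _ = snd G X := by rw [inv_mul_cancel]; exact smul_one a _
  have e1 : (fst G X).left (τ.left z) = ι[G].left ((fst G X).left z) :=
    congrArg (fun φ' : G ⊗ X ⟶ G => φ'.left z) hτ1
  have e2 : (snd G X).left (τ.left z) = a.act.left z :=
    congrArg (fun φ' : G ⊗ X ⟶ X => φ'.left z) hτ2
  have e3 : a.act.left (τ.left z) = (snd G X).left z :=
    congrArg (fun φ' : G ⊗ X ⟶ X => φ'.left z) hτ3
  have hfst : (fst G X).left (τ.left z) ∈ C0 := by
    apply mem_of_specializes_one G C0 hC0 he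
    rw [e1, ← inv_one_apply G]
    exact hz1.map ι[G].left.continuous
  have hsnd : (snd G X).left (τ.left z) ∈ Z₂ := by rw [e2, hz3]; exact hx2
  have hξZ₂ : ξ ∈ Z₂ := by
    have h := act_mem_comp G X a C0 hC0 he Z₂ hZ₂ (τ.left z) hfst hsnd
    rwa [e3, hz2] at h
  have h12 : Z₁ ⊆ Z₂ := by
    rw [← hξ.def]
    exact closure_minimal (Set.singleton_subset_iff.mpr hξZ₂) hZ₂cl
  exact Set.Subset.antisymm h12 (hZ₁.2 hZ₂.1 h12)

theorem orbit_image_eq (G X : Over (Spec (CommRingCat.of k))) [GrpObj G]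
    (a : AlgGrp.Action G X) (hΦ : Surjective (lift a.act (snd G X)).left)
    (x : 𝟙_ (Over (Spec (CommRingCat.of k))) ⟶ X)
    (C0 : Set G.left) (hC0 : C0 ∈ irreducibleComponents ↥G.left)
    (he : η[G].left (IsLocalRing.closedPoint k) ∈ C0)
    (C : Set X.left) (hC : C ∈ irreducibleComponents ↥X.left)
    (hxC : x.left (IsLocalRing.closedPoint k) ∈ C) :
    (a.orbitMap x).left '' C0 = C := by
  obtain ⟨x₀, hx₀def⟩ : ∃ x₀ : X.left, x₀ = x.left (IsLocalRing.closedPoint k) := ⟨_, rfl⟩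
  rw [← hx₀def] at hxC
  obtain ⟨sx, hsx⟩ : ∃ sx : G ⟶ G ⊗ X, sx = lift (𝟙 G) (toUnit G ≫ x) := ⟨_, rfl⟩
  obtain ⟨o, ho⟩ : ∃ o : G ⟶ X, o = a.orbitMap x := ⟨_, rfl⟩
  have ho' : o = sx ≫ a.act := by rw [ho, hsx]; rfl
  rw [← ho]
  have hsx1 : sx ≫ fst G X = 𝟙 G := by rw [hsx, lift_fst]
  have hηo : η[G] ≫ o = x := by
    have h1 : η[G] ≫ toUnit G = 𝟙 (𝟙_ (Over (Spec (CommRingCat.of k)))) := toUnit_unique _ _
    have h2 : (1 : 𝟙_ (Over (Spec (CommRingCat.of k))) ⟶ G) = η[G] := by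
      rw [Hom.one_def]
      have h3 : toUnit (𝟙_ (Over (Spec (CommRingCat.of k)))) = 𝟙 _ := toUnit_unique _ _
      rw [h3, Category.id_comp]
    rw [ho', hsx, ← Category.assoc, comp_lift, Category.comp_id, ← Category.assoc, h1,
      Category.id_comp, ← h2]
    exact smul_one a x
  have hoe : o.left (η[G].left (IsLocalRing.closedPoint k)) = x₀ := by
    have e := congrArg (fun φ' : 𝟙_ (Over (Spec (CommRingCat.of k))) ⟶ X =>
      φ'.left (IsLocalRing.closedPoint k)) hηo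
    have e' : o.left (η[G].left (IsLocalRing.closedPoint k)) =
        x.left (IsLocalRing.closedPoint k) := e
    rw [e', hx₀def]
  apply Set.Subset.antisymm
  · have hirr : IsIrreducible (o.left '' C0) :=
      hC0.1.image _ o.left.continuous.continuousOn
    obtain ⟨C', hC', hsub⟩ := exists_mem_irreducibleComponents_subset_of_isIrreducible _ hirr
    have hx₀C' : x₀ ∈ C' := hsub ⟨_, he, hoe⟩
    have hCC : C' = C := unique_comp G X a hΦ C' C hC' hC x₀ hx₀C' hxC
    rw [← hCC]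
    exact hsub
  · intro y hy
    obtain ⟨z, hz1, hz2, hz3⟩ := exists_act_of_mem_comp G X a hΦ C0 hC0 he C hC x₀ y hxC hy
    have sqs : IsPullback (toUnit G).left sx.left x.left (snd G X).left := by
      rw [hsx]
      exact (isPullback_section (G := G) x).map (Over.forget _)
    obtain ⟨g, -, hg⟩ := exists_of_isPullback sqs (IsLocalRing.closedPoint k) z (by
      rw [hz2, hx₀def])
    have e1 : (fst G X).left (sx.left g) = g :=
      congrArg (fun φ' : G ⟶ G => φ'.left g) hsx1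
    have e2 : o.left g = a.act.left (sx.left g) :=
      congrArg (fun φ' : G ⟶ X => φ'.left g) ho'
    refine ⟨g, ?_, ?_⟩
    · rw [← e1, hg]; exact hz1
    · rw [e2, hg]; exact hz3

theorem isIrreducible_preimage_orbit_image (G X : Over (Spec (CommRingCat.of k))) [GrpObj G]
    (o : G ⟶ X) (C0 : Set G.left) (hC0 : C0 ∈ irreducibleComponents ↥G.left)
    (he : η[G].left (IsLocalRing.closedPoint k) ∈ C0)
    (K : Type u) [Field K] [Algebra k K] :
    IsIrreducible ((pullback.fst X.hom (Spec.map (CommRingCat.ofHom (algebraMap k K)))).base ⁻¹'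
      (o.left '' C0)) := by
  obtain ⟨s, hs⟩ : ∃ s : Spec (CommRingCat.of K) ⟶ Spec (CommRingCat.of k),
      s = Spec.map (CommRingCat.ofHom (algebraMap k K)) := ⟨_, rfl⟩
  rw [← hs]
  have hoX : o.left ≫ X.hom = G.hom := Over.w o
  obtain ⟨oK, hoK1, hoK2⟩ : ∃ oK : pullback G.hom s ⟶ pullback X.hom s,
      oK ≫ pullback.fst X.hom s = pullback.fst G.hom s ≫ o.left ∧
      oK ≫ pullback.snd X.hom s = pullback.snd G.hom s :=
    ⟨pullback.lift (pullback.fst G.hom s ≫ o.left) (pullback.snd G.hom s)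
      (by rw [Category.assoc, hoX, pullback.condition]), pullback.lift_fst _ _ _,
      pullback.lift_snd _ _ _⟩
  have big : IsPullback (oK ≫ pullback.snd X.hom s) (pullback.fst G.hom s) s
      (o.left ≫ X.hom) := by
    rw [hoK2, hoX]
    exact (IsPullback.of_hasPullback G.hom s).flip
  have sq : IsPullback oK (pullback.fst G.hom s) (pullback.fst X.hom s) o.left :=
    IsPullback.of_right big hoK1 (IsPullback.of_hasPullback X.hom s).flip
  have hset : (pullback.fst X.hom s).base ⁻¹' (o.left '' C0) =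
      oK '' (pullback.fst G.hom s ⁻¹' C0) := by
    ext x'
    constructor
    · rintro ⟨g, hgC, hgx⟩
      obtain ⟨g', hg'1, hg'2⟩ := exists_of_isPullback sq x' g hgx.symm
      exact ⟨g', by show pullback.fst G.hom s g' ∈ C0; rw [hg'2]; exact hgC, hg'1⟩
    · rintro ⟨g', hg'C, rfl⟩
      refine ⟨pullback.fst G.hom s g', hg'C, ?_⟩
      have e := congrArg (fun φ' : pullback G.hom s ⟶ X.left => φ' g') hoK1
      exact e.symm
  rw [hset]
  have hbox : IsIrreducible (pullback.fst G.hom s ⁻¹' C0 ∩ pullback.snd G.hom s ⁻¹' Set.univ) :=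
    isIrreducible_box' G.hom s C0 Set.univ (isClosed_of_mem_irreducibleComponents C0 hC0)
      isClosed_univ hC0.1 (IrreducibleSpace.isIrreducible_univ _)
      (fun Zs incl _ _ hr => Groth.Agent.Lib.GrpIdCompH4.main7517 k G Zs incl
        (by rw [hr]; exact hC0) (by rw [hr]; exact he))
  rw [Set.preimage_univ, Set.inter_univ] at hbox
  exact hbox.image _ oK.continuous.continuousOn

theorem main5348 (k : Type u) [Field k] (G X : Over (Spec (CommRingCat.of k))) [GrpObj G]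
    (a : AlgGrp.Action G X) (hΦ : Surjective (lift a.act (snd G X)).left) :
    (∀ (K : Type u) [Field K] [Algebra k K]
      (z : ↥(pullback X.hom (Spec.map (CommRingCat.ofHom (algebraMap k K))))),
      ∃! C, C ∈ irreducibleComponents
        ↥(pullback X.hom (Spec.map (CommRingCat.ofHom (algebraMap k K)))) ∧ z ∈ C) ∧
    (∀ (x : 𝟙_ (Over (Spec (CommRingCat.of k))) ⟶ X)
      (pt : ↥(𝟙_ (Over (Spec (CommRingCat.of k)))).left) (C : Set X.left),
      C ∈ irreducibleComponents ↥X.left → x.left.base pt ∈ C →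
      ∀ (K : Type u) [Field K] [Algebra k K],
        IsIrreducible ((pullback.fst X.hom
          (Spec.map (CommRingCat.ofHom (algebraMap k K)))).base ⁻¹' C)) := by
  haveI hsub : Subsingleton ↥(Spec (CommRingCat.of k)) :=
    (inferInstance : Subsingleton (PrimeSpectrum k))
  refine ⟨?_, ?_⟩
  · intro K _ _ z
    let PK : Over (Spec (CommRingCat.of k)) :=
      Over.mk (Spec.map (CommRingCat.ofHom (algebraMap k K)))
    haveI : Subsingleton ↥PK.left := (inferInstance : Subsingleton (PrimeSpectrum K))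
    have hH : ∀ ξ' x' : ↥(X ⊗ PK).left, ξ' ⤳ x' → ∃ h : ↥(G ⊗ (X ⊗ PK)).left,
        (snd G (X ⊗ PK)).left h = ξ' ∧ (extAct a PK).act.left h = x' :=
      fun ξ' x' _ => exists_of_same_image G X a hΦ PK ξ' x' (Subsingleton.elim _ _)
    have key : ∀ z : ↥(X ⊗ PK).left,
        ∃! C, C ∈ irreducibleComponents ↥(X ⊗ PK).left ∧ z ∈ C := by
      intro z
      refine ⟨irreducibleComponent z,
        ⟨irreducibleComponent_mem_irreducibleComponents z, mem_irreducibleComponent⟩, ?_⟩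
      intro C' hC'
      exact unique_comp' G (X ⊗ PK) (extAct a PK) hH C' _ hC'.1
        (irreducibleComponent_mem_irreducibleComponents z) z hC'.2 mem_irreducibleComponent
    exact key z
  · intro x pt C hC hxC K _ _
    have hpt2 : x.left.base pt = x.left (IsLocalRing.closedPoint k) :=
      congrArg (fun q => x.left q) (@Subsingleton.elim _ hsub pt _)
    rw [hpt2] at hxC
    obtain ⟨C0, hC0def⟩ : ∃ C0 : Set G.left,
        C0 = irreducibleComponent (η[G].left (IsLocalRing.closedPoint k)) := ⟨_, rfl⟩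
    have hC0 : C0 ∈ irreducibleComponents ↥G.left := by
      rw [hC0def]; exact irreducibleComponent_mem_irreducibleComponents _
    have he : η[G].left (IsLocalRing.closedPoint k) ∈ C0 := by
      rw [hC0def]; exact mem_irreducibleComponent
    rw [← orbit_image_eq G X a hΦ x C0 hC0 he C hC hxC]
    exact isIrreducible_preimage_orbit_image G X (a.orbitMap x) C0 hC0 he K

end Groth.Agent.Lib.HomogSpH4
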