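import Mathlib.CategoryTheory.Triangulated.HomologicalFunctor
import Mathlib.CategoryTheory.Triangulated.Subcategory

/-!
# Objects on which a homological functor vanishes in a range of shifts

Shared helper (helper2) for S6583 / S6584.
-/

set_option autoImplicit false
universe v u v' u'
open CategoryTheory CategoryTheory.Limits ZeroObject

namespace Groth.Agent.Lib.HomologicalBounded_helper2

open CategoryTheory.Pretriangulated

variable {D : Type u} [Category.{v} D] [Preadditive D] [HasZeroObject D] [HasShift D ℤ]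
    [∀ n : ℤ, (shiftFunctor D n).Additive] [Pretriangulated D]
    {A : Type u'} [Category.{v'} A] [Abelian A] (H : D ⥤ A) [H.IsHomological]

/-- The property `∃ N, ∀ n, φ N n → H (X⟦n⟧) = 0`. -/
def bdd (φ : ℤ → ℤ → Prop) : ObjectProperty D :=
  fun X : D => ∃ N : ℤ, ∀ n : ℤ, φ N n → IsZero (H.obj ((shiftFunctor D n).obj X))

lemma isZero_of_retract_of_isZero {C : Type*} [Category C] [HasZeroMorphisms C] {X Y : C}
    (i : X ⟶ Y) (r : Y ⟶ X) (h : i ≫ r = 𝟙 X) (hY : IsZero Y) : IsZero X := by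
  rw [IsZero.iff_id_eq_zero, ← h, hY.eq_of_tgt i 0, zero_comp]

theorem bdd_props (φ : ℤ → ℤ → Prop)
    (hshift : ∀ a N : ℤ, ∃ N' : ℤ, ∀ n : ℤ, φ N' n → φ N (a + n))
    (hinter : ∀ N₁ N₂ : ℤ, ∃ N : ℤ, ∀ n : ℤ, φ N n → φ N₁ n ∧ φ N₂ n) :
    (bdd H φ).IsTriangulated ∧ (bdd H φ).IsClosedUnderIsomorphisms ∧
      ∀ X Y : D, bdd H φ (X ⊞ Y) → bdd H φ X ∧ bdd H φ Y := by
  have hiso : (bdd H φ).IsClosedUnderIsomorphisms :=
    ⟨fun {X Y} e ⟨N, hN⟩ => ⟨N, fun n hn =>
      (hN n hn).of_iso ((shiftFunctor D n ⋙ H).mapIso e.symm)⟩⟩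
  refine ⟨?_, hiso, ?_⟩
  · have h0 : (bdd H φ).ContainsZero :=
      ⟨⟨0, isZero_zero D, ⟨0, fun n _ => (shiftFunctor D n ⋙ H).map_isZero (isZero_zero D)⟩⟩⟩
    have hs : (bdd H φ).IsStableUnderShift ℤ :=
      { isStableUnderShiftBy := fun a =>
          { le_shift := fun X ⟨N, hN⟩ => by
              obtain ⟨N', hN'⟩ := hshift a N
              exact ⟨N', fun n hn => (hN (a + n) (hN' n hn)).of_iso
                (H.mapIso ((shiftFunctorAdd D a n).app X).symm)⟩ } }
    have h2 : (bdd H φ).IsTriangulatedClosed₂ :=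
      ObjectProperty.IsTriangulatedClosed₂.mk' (fun T hT ⟨N₁, h₁⟩ ⟨N₃, h₃⟩ => by
        obtain ⟨N, hN⟩ := hinter N₁ N₃
        exact ⟨N, fun n hn =>
          (H.map_distinguished_exact _ (Triangle.shift_distinguished T hT n)).isZero_of_both_zeros
            ((h₁ n (hN n hn).1).eq_of_src _ _) ((h₃ n (hN n hn).2).eq_of_tgt _ _)⟩)
    exact { toContainsZero := h0, toIsStableUnderShift := hs, toIsTriangulatedClosed₂ := h2 }
  · rintro X Y ⟨N, hN⟩
    constructor
    · exact ⟨N, fun n hn => isZero_of_retract_of_isZero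
        ((shiftFunctor D n ⋙ H).map biprod.inl) ((shiftFunctor D n ⋙ H).map biprod.fst)
        (by rw [← CategoryTheory.Functor.map_comp, biprod.inl_fst, CategoryTheory.Functor.map_id]; rfl) (hN n hn)⟩
    · exact ⟨N, fun n hn => isZero_of_retract_of_isZero
        ((shiftFunctor D n ⋙ H).map biprod.inr) ((shiftFunctor D n ⋙ H).map biprod.snd)
        (by rw [← CategoryTheory.Functor.map_comp, biprod.inr_snd, CategoryTheory.Functor.map_id]; rfl) (hN n hn)⟩

end Groth.Agent.Lib.HomologicalBounded_helper2
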