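import Mathlib
import Groth.Prelude
import Groth.Agent.Lib.GeomConnI_helper8

/-!
# Auxiliary results for the homotopy exact sequence (helper8)
APPEND-ONLY once landed.
-/

set_option autoImplicit false
set_option linter.all false
set_option maxHeartbeats 1600000

universe u

open CategoryTheory CategoryTheory.Limits AlgebraicGeometry TopologicalSpace Opposite

namespace Groth.Agent.Lib.HomotSeqH8

section Factor

variable {T B A : Scheme.{u}}

/-- a morphism inducing an isomorphism on global functions, to an affine scheme, is an
"affinization": every morphism to an affine scheme factors through it -/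
theorem exists_factor_of_isIso_appTop (str : T ⟶ B) [IsAffine B] [IsIso str.appTop] [IsAffine A]
    (u : T ⟶ A) : ∃ t : B ⟶ A, str ≫ t = u := by
  refine ⟨B.toSpecΓ ≫ Spec.map (inv str.appTop) ≫ Spec.map u.appTop ≫ A.isoSpec.inv, ?_⟩
  rw [← Category.assoc, Scheme.toSpecΓ_naturality, Category.assoc, ← Category.assoc (Spec.map _),
    ← Spec.map_comp, IsIso.inv_hom_id, Spec.map_id, Category.id_comp,
    ← Scheme.toSpecΓ_naturality_assoc]
  show u ≫ A.isoSpec.hom ≫ A.isoSpec.inv = u
  rw [Iso.hom_inv_id, Category.comp_id]

theorem eq_of_comp_eq_of_isIso_appTop (str : T ⟶ B) [IsIso str.appTop] [IsAffine A]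
    (t t' : B ⟶ A) (h : str ≫ t = str ≫ t') : t = t' := by
  apply ext_of_isAffine
  have h1 := congrArg Scheme.Hom.appTop h
  rw [Scheme.Hom.comp_appTop, Scheme.Hom.comp_appTop] at h1
  exact (cancel_mono str.appTop).mp h1

end Factor

section Section

variable {P T : Scheme.{u}}

/-- a separated étale morphism from a connected scheme which has a section is an isomorphism -/
theorem isIso_of_section (φ : P ⟶ T) [Etale φ] [IsSeparated φ] (τ : T ⟶ P) (hτ : τ ≫ φ = 𝟙 T)
    [ConnectedSpace P] [Nonempty T] : IsIso φ := by
  haveI : Etale (τ ≫ φ) := by rw [hτ]; infer_instance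
  haveI : Etale τ := Etale.of_comp τ φ
  haveI : Mono τ := mono_of_mono_fac hτ
  haveI : IsOpenImmersion τ := IsOpenImmersion.of_flat_of_mono τ
  haveI : IsProper (τ ≫ φ) := by rw [hτ]; infer_instance
  haveI : IsProper τ := IsProper.of_comp τ φ
  have hclopen : IsClopen (Set.range τ) :=
    ⟨τ.isClosedMap.isClosed_range, τ.isOpenEmbedding.isOpen_range⟩
  have hne : (Set.range τ).Nonempty := Set.range_nonempty _
  have huniv : Set.range τ = Set.univ := by
    rcases isClopen_iff.mp hclopen with h | h
    · exact (hne.ne_empty h).elim
    · exact h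
  haveI : Surjective τ := ⟨fun y => by
    have : y ∈ Set.range τ := by rw [huniv]; trivial
    exact this⟩
  haveI : IsIso τ := (isIso_iff_isOpenImmersion_and_surjective τ).mpr ⟨inferInstance, inferInstance⟩
  have : φ = inv τ := by
    rw [← cancel_epi τ, hτ, IsIso.hom_inv_id]
  rw [this]
  infer_instance

end Section

section Conn

variable {Z S' : Scheme.{u}}

/-- the total space of a universally closed surjective morphism with geometrically connected
fibres over a connected base is connected -/
theorem connectedSpace_of_geometricallyConnected (q : Z ⟶ S') [UniversallyClosed q] [Surjective q]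
    [GeometricallyConnected q] [ConnectedSpace S'] : ConnectedSpace Z := by
  have hfib : ∀ t : S', _root_.IsConnected (q ⁻¹' {t}) := by
    intro t
    haveI : ConnectedSpace ↥(q.fiber t) :=
      GeometricallyConnected.geometrically_connectedSpace (f := q) _ _ _
        (IsPullback.of_hasPullback q (S'.fromSpecResidueField t))
    have h1 : _root_.IsConnected (Set.univ : Set ↥(q.fiber t)) := isConnected_univ
    have h2 := h1.image (q.fiberι t) (q.fiberι t).continuous.continuousOn
    rw [Set.image_univ, q.range_fiberι] at h2
    exact h2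
  have hq : Topology.IsQuotientMap q :=
    IsClosedMap.isQuotientMap q.isClosedMap q.continuous q.surjective
  obtain ⟨t₀⟩ : Nonempty S' := inferInstance
  have h3 := preimage_connectedComponent_connected hfib hq.isCoinducing t₀
  rw [PreconnectedSpace.connectedComponent_eq_univ, Set.preimage_univ] at h3
  exact connectedSpace_iff_univ.mpr h3

end Conn

section GeomConn

variable {X S : Scheme.{u}} (f : X ⟶ S)

/-- geometric connectedness can be checked over algebraically closed fields -/
theorem geometricallyConnected_of_forall_algClosed
    (h : ∀ (Ω : Type u) [Field Ω] [IsAlgClosed Ω] (s : Spec (CommRingCat.of Ω) ⟶ S),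
      ConnectedSpace ↥(pullback f s)) : GeometricallyConnected f := by
  rw [GeomConnH8.geomConn_iff_forall]
  intro y
  let K := AlgebraicClosure (S.residueField y)
  let t : Spec (CommRingCat.of K) ⟶ S :=
    Spec.map (CommRingCat.ofHom (algebraMap (S.residueField y) K)) ≫ S.fromSpecResidueField y
  have ht : t (IsLocalRing.closedPoint K) = y := by
    show (Spec.map _ ≫ S.fromSpecResidueField y) _ = y
    rw [Scheme.Hom.comp_apply]
    exact Scheme.fromSpecResidueField_apply _ _
  have h1 := GeomConnH8.card_cc_pullback_eq_nGeomConnComp' f K t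
  rw [ht] at h1
  rw [← h1, ← GeomConnH8.connectedSpace_iff_card_eq_one]
  exact h K t

/-- surjectivity from nonemptiness of the geometric fibres -/
theorem surjective_of_forall_algClosed
    (h : ∀ (Ω : Type u) [Field Ω] [IsAlgClosed Ω] (s : Spec (CommRingCat.of Ω) ⟶ S),
      Nonempty ↥(pullback f s)) : Surjective f := by
  refine ⟨fun y => ?_⟩
  let K := AlgebraicClosure (S.residueField y)
  let t : Spec (CommRingCat.of K) ⟶ S :=
    Spec.map (CommRingCat.ofHom (algebraMap (S.residueField y) K)) ≫ S.fromSpecResidueField y
  obtain ⟨w⟩ := h K t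
  refine ⟨pullback.fst f t w, ?_⟩
  rw [← Scheme.Hom.comp_apply, pullback.condition, Scheme.Hom.comp_apply]
  show (Spec.map _ ≫ S.fromSpecResidueField y) _ = y
  rw [Scheme.Hom.comp_apply]
  exact Scheme.fromSpecResidueField_apply _ _

end GeomConn

end Groth.Agent.Lib.HomotSeqH8
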