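import Mathlib
import Groth.Prelude
import Groth.Agent.Lib.HomotSeq1_helper8
import Groth.Agent.Lib.SteinBC13_helper8
import Groth.Agent.Lib.EtaleReduced_helper7
import Groth.Agent.Lib.AbVarFibre_helper4
import Groth.Agent.Lib.SteinNN2_helper8

/-!
# Exactness of the homotopy sequence of étale fundamental groups at the middle term (helper8)
APPEND-ONLY once landed.
-/

set_option autoImplicit false
set_option linter.all false
set_option maxHeartbeats 1600000

universe u

open CategoryTheory CategoryTheory.Limits AlgebraicGeometry TopologicalSpace Opposite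

namespace Groth.Agent.Lib.HomotSeqH8

open Groth.Agent.Lib.SteinBCH8 Groth.Agent.Lib.SteinNNH8

section Main

variable {X S Y : Scheme.{u}} (f : X ⟶ S) (p : Y ⟶ X)

set_option maxHeartbeats 3200000 in
/-- the key isomorphism: a connected finite étale cover `Y` of `X` with a section over a
geometric fibre is the base change of its Stein factor -/
theorem isIso_lift_toNormalization [IsProper f] [Flat f] [LocallyOfFinitePresentation f]
    [ConnectedSpace S]
    (hfib : ∀ (Ω : Type u) [Field Ω] [IsAlgClosed Ω] (s : Spec (CommRingCat.of Ω) ⟶ S),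
      ConnectedSpace ↥(pullback f s) ∧ IsReduced (pullback f s))
    [IsFinite p] [Etale p] [ConnectedSpace Y] (Ω : Type u) [Field Ω] [IsAlgClosed Ω]
    (s : Spec (CommRingCat.of Ω) ⟶ S) (σ : pullback f s ⟶ Y)
    (hσ : σ ≫ p = pullback.fst f s)
    (hπ : IsFinite (p ≫ f).fromNormalization ∧ Etale (p ≫ f).fromNormalization) :
    IsIso (pullback.lift (p ≫ f).toNormalization p
      ((p ≫ f).toNormalization_fromNormalization) :
      Y ⟶ pullback (p ≫ f).fromNormalization f) := by
  obtain ⟨hπf, hπe⟩ := hπ
  set h := p ≫ f with hh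
  set π := h.fromNormalization with hπdef
  set c := h.toNormalization with hcdef
  have hcπ : c ≫ π = p ≫ f := h.toNormalization_fromNormalization
  set ν : Y ⟶ pullback π f := pullback.lift c p hcπ with hν
  have hν1 : ν ≫ pullback.fst π f = c := pullback.lift_fst _ _ _
  have hν2 : ν ≫ pullback.snd π f = p := pullback.lift_snd _ _ _
  -- `ν` is finite étale
  haveI : Etale (pullback.snd π f) := inferInstance
  haveI : IsFinite (pullback.snd π f) := inferInstance
  haveI : Etale (ν ≫ pullback.snd π f) := by rw [hν2]; infer_instance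
  haveI : IsFinite (ν ≫ pullback.snd π f) := by rw [hν2]; infer_instance
  haveI hνe : Etale ν := Etale.of_comp ν (pullback.snd π f)
  haveI hνf : IsFinite ν := IsFinite.of_comp ν (pullback.snd π f)
  -- geometric connectedness
  haveI hgc : GeometricallyConnected f :=
    geometricallyConnected_of_forall_algClosed f (fun Ω' _ _ s' => (hfib Ω' s').1)
  haveI hsurj : Surjective f :=
    surjective_of_forall_algClosed f (fun Ω' _ _ s' => by
      haveI := (hfib Ω' s').1
      infer_instance)
  haveI : IsProper h := inferInstance
  haveI hgcc : GeometricallyConnected c := geometricallyConnected_toNormalization h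
  -- the Stein factor is connected
  haveI : Surjective c :=
    surjective_of_isDominant_of_isClosed_range _ (by
      haveI : IsProper (c ≫ π) := by rw [hcπ]; infer_instance
      haveI : IsProper c := IsProper.of_comp c π
      exact c.isClosedMap.isClosed_range)
  haveI : ConnectedSpace ↥h.normalization :=
    Function.Surjective.connectedSpace c.surjective c.continuous
  -- the base change of `X` to the Stein factor is connected
  haveI : ConnectedSpace ↥(pullback π f) :=
    connectedSpace_of_geometricallyConnected (pullback.fst π f)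
  -- the rank is constant
  have hconst : ∀ z z' : ↥(pullback π f), ν.finrank z = ν.finrank z' := by
    intro z z'
    exact (Scheme.Hom.isLocallyConstant_finrank ν).apply_eq_of_isPreconnected
      isPreconnected_univ trivial trivial
  -- the geometric fibre
  haveI hTc : ConnectedSpace ↥(pullback f s) := (hfib Ω s).1
  haveI hTr : IsReduced (pullback f s) := (hfib Ω s).2
  haveI : IsProper (pullback.snd f s) := inferInstance
  haveI : IsProper (Over.mk (pullback.snd f s)).hom := by show IsProper (pullback.snd f s); infer_instance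
  haveI : IsReduced (Over.mk (pullback.snd f s)).left := hTr
  haveI : ConnectedSpace (Over.mk (pullback.snd f s)).left := hTc
  have hAA := Groth.Agent.Lib.AbVarFibreH4.aa_of_proper_connected_reduced (Over.mk (pullback.snd f s))
  haveI : IsIso (pullback.snd f s).appTop := hAA
  have hg₁ : (σ ≫ c) ≫ π = (pullback.snd f s) ≫ s := by
    rw [Category.assoc, hcπ, ← Category.assoc, hσ]
    exact pullback.condition
  haveI : IsAffine (pullback π s) := isAffine_of_isAffineHom (pullback.snd π s)
  let g₁' : pullback f s ⟶ pullback π s := pullback.lift (σ ≫ c) (pullback.snd f s) hg₁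
  obtain ⟨t', ht'⟩ := exists_factor_of_isIso_appTop (pullback.snd f s) g₁'
  have ht'snd : t' ≫ pullback.snd π s = 𝟙 _ :=
    eq_of_comp_eq_of_isIso_appTop (pullback.snd f s) _ _ (by
      rw [← Category.assoc, ht', pullback.lift_snd, Category.comp_id])
  set t := t' ≫ pullback.fst π s with ht
  have htπ : t ≫ π = s := by
    rw [ht, Category.assoc, pullback.condition, ← Category.assoc, ht'snd, Category.id_comp]
  have hstrt : (pullback.snd f s) ≫ t = σ ≫ c := by
    rw [ht, ← Category.assoc, ht', pullback.lift_fst]
  let j : pullback f s ⟶ pullback π f := pullback.lift ((pullback.snd f s) ≫ t) (pullback.fst f s) (by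
    rw [Category.assoc, htπ]
    exact pullback.condition.symm)
  have hj1 : j ≫ pullback.fst π f = (pullback.snd f s) ≫ t := pullback.lift_fst _ _ _
  have hj2 : j ≫ pullback.snd π f = pullback.fst f s := pullback.lift_snd _ _ _
  have hσν : σ ≫ ν = j := by
    apply pullback.hom_ext
    · rw [Category.assoc, hν1, hj1, hstrt]
    · rw [Category.assoc, hν2, hj2, hσ]
  have Hsq : IsPullback j (pullback.snd f s) (pullback.fst π f) t := by
    refine IsPullback.of_right ?_ hj1 (IsPullback.of_hasPullback π f).flip
    rw [hj2, htπ]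
    exact IsPullback.of_hasPullback f s
  have HP : IsPullback (pullback.fst ν j) (pullback.snd ν j ≫ (pullback.snd f s)) c t := by
    have h1 := (IsPullback.of_hasPullback ν j).paste_vert Hsq
    rw [hν1] at h1
    exact h1
  haveI : ConnectedSpace ↥(pullback ν j) :=
    GeometricallyConnected.geometrically_connectedSpace (f := c) t _ _ HP
  let τ : pullback f s ⟶ pullback ν j := pullback.lift σ (𝟙 (pullback f s)) (by rw [hσν, Category.id_comp])
  have hτ : τ ≫ pullback.snd ν j = 𝟙 (pullback f s) := pullback.lift_snd _ _ _
  haveI : Etale (pullback.snd ν j) := inferInstance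
  haveI : IsFinite (pullback.snd ν j) := inferInstance
  haveI : IsSeparated (pullback.snd ν j) := inferInstance
  haveI : Nonempty ↥(pullback f s) := inferInstance
  haveI : IsIso (pullback.snd ν j) := isIso_of_section (pullback.snd ν j) τ hτ
  obtain ⟨x₀⟩ : Nonempty ↥(pullback f s) := inferInstance
  have h1 : (pullback.snd ν j).finrank x₀ = 1 := by
    rw [Scheme.Hom.finrank_eq_one_of_isIso]
    rfl
  have h2 : (pullback.snd ν j).finrank x₀ = ν.finrank (j x₀) :=
    Scheme.Hom.finrank_pullback_snd ν j x₀
  rw [Scheme.Hom.isIso_iff_finrank_eq]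
  ext z
  rw [hconst z (j x₀), ← h2, h1]
  rfl

end Main

section Final

variable {X S : Scheme.{u}} (f : X ⟶ S)

set_option maxHeartbeats 3200000 in
/-- **exactness of the homotopy sequence at the middle term** (statement S0265) -/
theorem main0265 [IsProper f] [Flat f] [LocallyOfFinitePresentation f] [ConnectedSpace S]
    (hfib : ∀ (Ω : Type u) [Field Ω] [IsAlgClosed Ω] (s : Spec (CommRingCat.of Ω) ⟶ S),
      ConnectedSpace ↥(pullback f s) ∧ IsReduced (pullback f s))
    (Y : FEt.Cat X) [ConnectedSpace Y.left] (Ω : Type u) [Field Ω] [IsAlgClosed Ω]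
    (s : Spec (CommRingCat.of Ω) ⟶ S) (σ : pullback f s ⟶ Y.left)
    (hσ : σ ≫ Y.hom = pullback.fst f s) :
    (FEt.restrict f).essImage Y := by
  haveI hpf : IsFinite Y.hom := Y.prop.1
  haveI hpe : Etale Y.hom := Y.prop.2
  haveI : IsProper (Y.hom ≫ f) := inferInstance
  haveI : Flat (Y.hom ≫ f) := inferInstance
  haveI : LocallyOfFinitePresentation (Y.hom ≫ f) := inferInstance
  have hredh : ∀ (Ω' : Type u) [Field Ω'] [IsAlgClosed Ω'] (τ : Spec (CommRingCat.of Ω') ⟶ S),
      IsReduced (pullback (Y.hom ≫ f) τ) := by
    intro Ω' _ _ τ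
    haveI := (hfib Ω' τ).2
    haveI : IsReduced (pullback Y.hom (pullback.fst f τ)) :=
      Groth.Agent.Lib.EtaleReduced_helper7.isReduced_of_etale_scheme
        (pullback.snd Y.hom (pullback.fst f τ))
    exact isReduced_of_isOpenImmersion (pullbackRightPullbackFstIso f τ Y.hom).inv
  have hπ := main3701 (Y.hom ≫ f) hredh
  haveI : ConnectedSpace ↥((𝟭 Scheme).obj Y.left) := ‹ConnectedSpace ↥Y.left›
  haveI := isIso_lift_toNormalization f Y.hom hfib Ω s σ hσ hπ
  let W : FEt.Cat S := MorphismProperty.Over.mk ⊤ (Y.hom ≫ f).fromNormalization ⟨hπ.1, hπ.2⟩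
  refine ⟨W, ⟨?_⟩⟩
  refine MorphismProperty.Over.isoMk (asIso (pullback.lift (Y.hom ≫ f).toNormalization Y.hom
      ((Y.hom ≫ f).toNormalization_fromNormalization) :
      Y.left ⟶ pullback (Y.hom ≫ f).fromNormalization f)).symm ?_
  show inv (pullback.lift (Y.hom ≫ f).toNormalization Y.hom
      ((Y.hom ≫ f).toNormalization_fromNormalization)) ≫ Y.hom =
    pullback.snd (Y.hom ≫ f).fromNormalization f
  rw [IsIso.inv_comp_eq, pullback.lift_snd]

end Final

end Groth.Agent.Lib.HomotSeqH8
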