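import Mathlib
import Groth.Prelude
import Groth.Agent.Lib.HenselFinite_helper3

/-!
# Ring-theoretic lemmas for the homotopy sequence over a henselian local base (helper8)
APPEND-ONLY once landed.
-/

set_option autoImplicit false
set_option linter.all false
set_option maxHeartbeats 1600000

universe u

open TensorProduct IsLocalRing

namespace Groth.Agent.Lib.HomotSeqH8

section Radicial

variable {A' B Ω : Type u} [CommRing A'] [CommRing B] [IsLocalRing B] [Field Ω]
  [Algebra A' B] [Algebra.IsIntegral A' B] [Algebra A' Ω]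

/-- the image of the maximal ideal of `B` lies in every prime of `B ⊗ Ω` -/
theorem tmul_one_mem_of_mem_maximalIdeal
    (hmax : (RingHom.ker (algebraMap A' Ω)).IsMaximal)
    (P : Ideal (B ⊗[A'] Ω)) [P.IsPrime] (b : B) (hb : b ∈ maximalIdeal B) :
    b ⊗ₜ[A'] (1 : Ω) ∈ P := by
  let ιB : B →ₐ[A'] B ⊗[A'] Ω := Algebra.TensorProduct.includeLeft
  let p : Ideal B := P.comap ιB
  haveI : p.IsPrime := Ideal.comap_isPrime _ P
  have hle : RingHom.ker (algebraMap A' Ω) ≤ p.comap (algebraMap A' B) := by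
    intro a ha
    rw [RingHom.mem_ker] at ha
    show ιB (algebraMap A' B a) ∈ P
    rw [AlgHom.commutes]
    have : algebraMap A' (B ⊗[A'] Ω) a =
        (Algebra.TensorProduct.includeRight : Ω →ₐ[A'] B ⊗[A'] Ω) (algebraMap A' Ω a) := by
      rw [AlgHom.commutes]
    rw [this, ha, map_zero]
    exact P.zero_mem
  have hne : p.comap (algebraMap A' B) ≠ ⊤ := (Ideal.comap_isPrime _ p).ne_top
  have heq : p.comap (algebraMap A' B) = RingHom.ker (algebraMap A' Ω) :=
    (hmax.eq_of_le hne hle).symm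
  have hpmax : p.IsMaximal :=
    Ideal.isMaximal_of_isIntegral_of_isMaximal_comap (R := A') p (by rw [heq]; exact hmax)
  have hp : p = maximalIdeal B := eq_maximalIdeal hpmax
  have : b ∈ p := by rw [hp]; exact hb
  exact this

/-- a "radicial" finite local homomorphism has at most one point in each geometric fibre over
the closed point -/
theorem subsingleton_primeSpectrum_tensor (q : ℕ) [ExpChar Ω q]
    (hmax : (RingHom.ker (algebraMap A' Ω)).IsMaximal)
    (hpi : ∀ b : B, ∃ (n : ℕ) (a : A'),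
      b ^ (q ^ n) - algebraMap A' B a ∈ maximalIdeal B) :
    Subsingleton (PrimeSpectrum (B ⊗[A'] Ω)) := by
  rcases subsingleton_or_nontrivial (B ⊗[A'] Ω) with hs | hnt
  · refine ⟨fun P => ?_⟩
    exact (P.isPrime.ne_top (Ideal.eq_top_iff_one _ |>.mpr (by
      rw [Subsingleton.elim (1 : B ⊗[A'] Ω) 0]; exact P.asIdeal.zero_mem))).elim
  let ιΩ : Ω →ₐ[A'] B ⊗[A'] Ω := Algebra.TensorProduct.includeRight
  haveI : ExpChar (B ⊗[A'] Ω) q :=
    expChar_of_injective_ringHom (f := ιΩ.toRingHom) (RingHom.injective _) q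
  -- every element has a `q`-power which is a scalar modulo every prime
  have key : ∀ x : B ⊗[A'] Ω, ∃ (n : ℕ) (ω : Ω), ∀ P : PrimeSpectrum (B ⊗[A'] Ω),
      x ^ (q ^ n) - (1 : B) ⊗ₜ[A'] ω ∈ P.asIdeal := by
    intro x
    induction x using TensorProduct.induction_on with
    | zero =>
      refine ⟨0, 0, fun P => ?_⟩
      rw [TensorProduct.tmul_zero, sub_zero, pow_zero, pow_one]
      exact P.asIdeal.zero_mem
    | tmul b ω₀ =>
      obtain ⟨n, a, ha⟩ := hpi b
      refine ⟨n, algebraMap A' Ω a * ω₀ ^ (q ^ n), fun P => ?_⟩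
      have h1 : (1 : B) ⊗ₜ[A'] (algebraMap A' Ω a * ω₀ ^ (q ^ n)) =
          (algebraMap A' B a) ⊗ₜ[A'] (ω₀ ^ (q ^ n)) := by
        rw [← Algebra.smul_def, ← TensorProduct.smul_tmul, Algebra.smul_def, mul_one]
      rw [Algebra.TensorProduct.tmul_pow, h1, ← TensorProduct.sub_tmul]
      have h2 : (b ^ (q ^ n) - algebraMap A' B a) ⊗ₜ[A'] (ω₀ ^ (q ^ n)) =
          ((b ^ (q ^ n) - algebraMap A' B a) ⊗ₜ[A'] (1 : Ω)) * ((1 : B) ⊗ₜ[A'] (ω₀ ^ (q ^ n))) := by
        rw [Algebra.TensorProduct.tmul_mul_tmul, mul_one, one_mul]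
      rw [h2]
      exact P.asIdeal.mul_mem_right _ (tmul_one_mem_of_mem_maximalIdeal hmax P.asIdeal _ ha)
    | add x y hx hy =>
      obtain ⟨n, ω, hω⟩ := hx
      obtain ⟨m, ω', hω'⟩ := hy
      refine ⟨n + m, ω ^ (q ^ m) + ω' ^ (q ^ n), fun P => ?_⟩
      have e1 : x ^ (q ^ (n + m)) = (x ^ (q ^ n)) ^ (q ^ m) := by
        rw [← pow_mul, ← pow_add]
      have e2 : y ^ (q ^ (n + m)) = (y ^ (q ^ m)) ^ (q ^ n) := by
        rw [← pow_mul, ← pow_add, add_comm]
      have e3 : (1 : B) ⊗ₜ[A'] (ω ^ (q ^ m) + ω' ^ (q ^ n)) =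
          ((1 : B) ⊗ₜ[A'] ω) ^ (q ^ m) + ((1 : B) ⊗ₜ[A'] ω') ^ (q ^ n) := by
        rw [TensorProduct.tmul_add, Algebra.TensorProduct.tmul_pow,
          Algebra.TensorProduct.tmul_pow, one_pow, one_pow]
      rw [add_pow_expChar_pow, e1, e2, e3]
      have d1 : (x ^ (q ^ n)) ^ (q ^ m) - ((1 : B) ⊗ₜ[A'] ω) ^ (q ^ m) ∈ P.asIdeal :=
        Ideal.mem_of_dvd _ (sub_dvd_pow_sub_pow _ _ _) (hω P)
      have d2 : (y ^ (q ^ m)) ^ (q ^ n) - ((1 : B) ⊗ₜ[A'] ω') ^ (q ^ n) ∈ P.asIdeal :=
        Ideal.mem_of_dvd _ (sub_dvd_pow_sub_pow _ _ _) (hω' P)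
      have := P.asIdeal.add_mem d1 d2
      convert this using 1
      ring
  have hle : ∀ P P' : PrimeSpectrum (B ⊗[A'] Ω), P.asIdeal ≤ P'.asIdeal := by
    intro P P' x hx
    obtain ⟨n, ω, hω⟩ := key x
    have h1 : (1 : B) ⊗ₜ[A'] ω ∈ P.asIdeal := by
      have := P.asIdeal.sub_mem (P.asIdeal.pow_mem_of_mem hx (q ^ n)
        (pow_pos (expChar_pos Ω q) n)) (hω P)
      rwa [sub_sub_cancel] at this
    have hω0 : ω = 0 := by
      by_contra h0
      have hu : IsUnit ((1 : B) ⊗ₜ[A'] ω) := (IsUnit.mk0 ω h0).map ιΩ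
      exact P.isPrime.ne_top (Ideal.eq_top_of_isUnit_mem _ h1 hu)
    have h2 := hω P'
    rw [hω0, TensorProduct.tmul_zero, sub_zero] at h2
    exact P'.isPrime.mem_of_pow_mem _ h2
  refine ⟨fun P P' => ?_⟩
  ext1
  exact le_antisymm (hle P P') (hle P' P)

end Radicial

section EtaleSepClosed

/-- a ring homomorphism from an étale algebra over a separably closed field to a nontrivial ring
with only trivial idempotents factors through a rational point -/
theorem exists_algHom_of_trivIdem {Ω E R : Type u} [Field Ω] [IsSepClosed Ω] [CommRing E]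
    [Algebra Ω E] [Algebra.EssFiniteType Ω E] [Algebra.FormallyEtale Ω E] [CommRing R]
    [Nontrivial R] (hR : ∀ e : R, IsIdempotentElem e → e = 0 ∨ e = 1) (γ : E →+* R) :
    ∃ χ : E →ₐ[Ω] Ω, ∀ x, γ x = γ (algebraMap Ω E (χ x)) := by
  classical
  haveI := Algebra.FormallyUnramified.finite_of_free Ω E
  haveI : IsArtinianRing E := isArtinian_of_tower Ω inferInstance
  haveI : Finite (PrimeSpectrum E) := inferInstance
  letI : Fintype (PrimeSpectrum E) := Fintype.ofFinite _
  let e := Algebra.FormallyEtale.equivPiOfIsSepClosed Ω E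
  let ε : PrimeSpectrum E → E := fun i => e.symm (Pi.single i 1)
  have hεsum : ∑ i, ε i = 1 := by
    show ∑ i, e.symm (Pi.single i 1) = 1
    have hs : ∑ i : PrimeSpectrum E, (Pi.single i (1 : Ω) : PrimeSpectrum E → Ω) = 1 := by
      ext j
      rw [Finset.sum_apply, Pi.one_apply]
      simp [Pi.single_apply]
    rw [← map_sum, hs, map_one]
  have hεidem : ∀ i, IsIdempotentElem (ε i) := by
    intro i
    show e.symm (Pi.single i 1) * e.symm (Pi.single i 1) = e.symm (Pi.single i 1)
    rw [← map_mul, ← Pi.single_mul, mul_one]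
  have hex : ∃ i₀, γ (ε i₀) = 1 := by
    by_contra hne
    push Not at hne
    have h0 : ∀ i, γ (ε i) = 0 := fun i =>
      ((hR _ ((hεidem i).map γ)).resolve_right (hne i))
    have : (1 : R) = 0 := by
      rw [← map_one γ, ← hεsum, map_sum]
      exact Finset.sum_eq_zero (fun i _ => h0 i)
    exact one_ne_zero this
  obtain ⟨i₀, hi₀⟩ := hex
  let χ : E →ₐ[Ω] Ω := (Pi.evalAlgHom Ω (fun _ : PrimeSpectrum E => Ω) i₀).comp e.toAlgHom
  refine ⟨χ, fun x => ?_⟩
  have hχ : ∀ y, χ y = e y i₀ := fun y => rfl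
  set y := x - algebraMap Ω E (χ x) with hy
  have hy0 : e y i₀ = 0 := by
    rw [hy, map_sub, Pi.sub_apply, AlgEquiv.commutes, Pi.algebraMap_apply, hχ]
    simp
  have hyε : y * ε i₀ = 0 := by
    apply e.injective
    rw [map_mul, map_zero]
    show e y * e (e.symm (Pi.single i₀ 1)) = 0
    rw [AlgEquiv.apply_symm_apply]
    ext j
    rw [Pi.mul_apply, Pi.zero_apply]
    by_cases hj : j = i₀
    · rw [hj, hy0, zero_mul]
    · rw [Pi.single_eq_of_ne hj, mul_zero]
  have : γ y = 0 := by
    have h1 : γ y = γ y * γ (ε i₀) := by rw [hi₀, mul_one]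
    rw [h1, ← map_mul, hyε, map_zero]
  rw [hy, map_sub, sub_eq_zero] at this
  exact this

end EtaleSepClosed

section Local

/-- a nontrivial finite algebra over a henselian local ring with only trivial idempotents is
local -/
theorem isLocalRing_of_finite_of_trivIdem (A B : Type u) [CommRing A] [HenselianLocalRing A]
    [CommRing B] [Algebra A B] [Module.Finite A B] [Nontrivial B]
    (hB : ∀ e : B, IsIdempotentElem e → e = 0 ∨ e = 1) : IsLocalRing B := by
  classical
  obtain ⟨ι, _, Ai, _, hloc, ⟨f⟩⟩ := Groth.Agent.Lib.HenselFiniteH3.exists_pi_local A B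
  haveI := hloc
  have hsingle : ∀ i, f.symm (Pi.single i 1) = 1 := by
    intro i
    have hidem : IsIdempotentElem (f.symm (Pi.single i 1)) := by
      show f.symm (Pi.single i 1) * f.symm (Pi.single i 1) = f.symm (Pi.single i 1)
      rw [← map_mul, ← Pi.single_mul, mul_one]
    rcases hB _ hidem with h | h
    · exfalso
      have : (Pi.single i 1 : ∀ i, Ai i) = 0 := by
        have := congrArg f h
        rwa [RingEquiv.apply_symm_apply, map_zero] at this
      have := congrFun this i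
      rw [Pi.single_eq_same, Pi.zero_apply] at this
      exact one_ne_zero this
    · exact h
  have hsub : ∀ i j : ι, i = j := by
    intro i j
    by_contra hij
    have h1 : (Pi.single i 1 : ∀ i, Ai i) = 1 := by
      have := congrArg f (hsingle i)
      rwa [RingEquiv.apply_symm_apply, map_one] at this
    have := congrFun h1 j
    rw [Pi.single_eq_of_ne (Ne.symm hij), Pi.one_apply] at this
    exact zero_ne_one this
  have hne : Nonempty ι := by
    by_contra hemp
    rw [not_nonempty_iff] at hemp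
    have : (1 : B) = 0 := by
      apply f.injective
      ext i
      exact (hemp.false i).elim
    exact one_ne_zero this
  obtain ⟨i₀⟩ := hne
  letI : Unique ι := ⟨⟨i₀⟩, fun j => hsub j i₀⟩
  exact (f.trans (RingEquiv.piUnique Ai)).symm.isLocalRing

end Local

end Groth.Agent.Lib.HomotSeqH8
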