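import Mathlib
import Groth.Prelude
import Groth.Agent.Lib.FinEtLift_lead
import Groth.Agent.Lib.EssEt_lead
import Groth.Agent.Lib.HensIntDom_lead
import Groth.Agent.S0505

/-!
# The finite étale "separable part" of a finite local algebra over a henselian local ring (helper8)
APPEND-ONLY once landed.
-/

set_option autoImplicit false
set_option linter.all false
set_option maxHeartbeats 1600000

universe u

open TensorProduct IsLocalRing

namespace Groth.Agent.Lib.HomotSeqH8

noncomputable section

/-- kernel of `A' → (A/I) ⊗ A'` -/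
theorem mem_map_of_one_tmul_eq_zero {R S : Type u} [CommRing R] [CommRing S] [Algebra R S]
    (I : Ideal R) (x : S) (hx : (1 : R ⧸ I) ⊗ₜ[R] x = 0) : x ∈ I.map (algebraMap R S) := by
  have h1 := congrArg (TensorProduct.quotTensorEquivQuotSMul S I) hx
  rw [map_zero] at h1
  have h2 : TensorProduct.quotTensorEquivQuotSMul S I ((1 : R ⧸ I) ⊗ₜ[R] x) =
      Submodule.Quotient.mk ((1 : R) • x) :=
    TensorProduct.quotTensorEquivQuotSMul_mk_tmul I 1 x
  rw [h2, one_smul, Submodule.Quotient.mk_eq_zero] at h1
  rw [Ideal.smul_top_eq_map] at h1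
  exact h1

set_option maxHeartbeats 3200000 in
/-- for a local ring `B` finite over a henselian local ring `A` there is a finite étale local
`A`-algebra `A'` with an `A`-algebra map to `B` which is purely inseparable on residue fields -/
theorem exists_etale_lift_of_finite_local (A B : Type u) [CommRing A] [HenselianLocalRing A]
    [CommRing B] [IsLocalRing B] [Algebra A B] [Module.Finite A B] (q : ℕ)
    [ExpChar (ResidueField A) q] :
    ∃ (A' : Type u) (_ : CommRing A') (_ : Algebra A A'), Module.Finite A A' ∧
      Algebra.Etale A A' ∧ ((maximalIdeal A).map (algebraMap A A')).IsMaximal ∧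
      ∃ φ : A' →ₐ[A] B, ∀ b : B, ∃ (n : ℕ) (a : A'),
        b ^ (q ^ n) - φ a ∈ maximalIdeal B := by
  haveI : Algebra.IsIntegral A B := inferInstance
  haveI : IsLocalHom (algebraMap A B) := Groth.Agent.Lib.HensIntDom.isLocalHom_of_integral A B
  let k := ResidueField A
  let K := ResidueField B
  haveI : Module.Finite k K := inferInstance
  haveI : Algebra.IsAlgebraic k K := inferInstance
  let k₁ : IntermediateField k K := separableClosure k K
  haveI : Algebra.IsSeparable k k₁ := inferInstance
  haveI : IsPurelyInseparable k₁ K := inferInstance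
  haveI : Module.Finite k k₁ := inferInstance
  haveI : Algebra.FormallyEtale k k₁ := Algebra.FormallyEtale.of_isSeparable k k₁
  haveI : Algebra.FinitePresentation k k₁ := Algebra.FinitePresentation.of_finiteType.mp inferInstance
  haveI : Algebra.Etale k k₁ := { }
  letI i1 : Algebra (A ⧸ maximalIdeal A) k₁ := inferInstanceAs (Algebra k k₁)
  haveI i2 : Algebra.Etale (A ⧸ maximalIdeal A) k₁ := inferInstanceAs (Algebra.Etale k k₁)
  obtain ⟨A', _, _, hfin, het, ⟨e⟩⟩ :=
    Groth.Agent.Lib.FinEtLift.exists_finite_etale_lift A k₁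
  haveI := hfin
  haveI := het
  refine ⟨A', inferInstance, inferInstance, hfin, het, ?_⟩
  -- the map to the residue field
  let inc : A' →ₐ[A] (A ⧸ maximalIdeal A) ⊗[A] A' := Algebra.TensorProduct.includeRight
  have hinc : Function.Surjective inc :=
    Algebra.TensorProduct.includeRight_surjective (R := A) (S := A ⧸ maximalIdeal A) A'
      Ideal.Quotient.mk_surjective
  let ρ₁ : A' →+* k₁ := (e : (A ⧸ maximalIdeal A) ⊗[A] A' →+* k₁).comp inc.toRingHom
  have hρ₁surj : Function.Surjective ρ₁ := e.surjective.comp hinc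
  have hρ₁alg : ∀ a : A, ρ₁ (algebraMap A A' a) = algebraMap k k₁ (residue A a) := by
    intro a
    show e (inc (algebraMap A A' a)) = _
    rw [AlgHom.commutes]
    have : algebraMap A ((A ⧸ maximalIdeal A) ⊗[A] A') a =
        algebraMap (A ⧸ maximalIdeal A) ((A ⧸ maximalIdeal A) ⊗[A] A')
          (Ideal.Quotient.mk _ a) := by
      rw [Algebra.TensorProduct.algebraMap_apply, Algebra.TensorProduct.algebraMap_apply]
      rfl
    rw [this, AlgEquiv.commutes]
    rfl
  let ρ : A' →ₐ[A] K :=
    { toRingHom := (algebraMap k₁ K).comp ρ₁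
      commutes' := fun a => by
        show algebraMap k₁ K (ρ₁ (algebraMap A A' a)) = algebraMap A K a
        rw [hρ₁alg, ← IsScalarTower.algebraMap_apply k k₁ K]
        rfl }
  have hρ : ∀ c, ρ c = algebraMap k₁ K (ρ₁ c) := fun c => rfl
  -- maximality
  have hker : RingHom.ker ρ₁ = (maximalIdeal A).map (algebraMap A A') := by
    apply le_antisymm
    · intro s hs
      rw [RingHom.mem_ker] at hs
      have h1 : inc s = 0 := by
        apply e.injective
        rw [map_zero]
        exact hs
      exact mem_map_of_one_tmul_eq_zero (maximalIdeal A) s h1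
    · rw [Ideal.map_le_iff_le_comap]
      intro a ha
      rw [Ideal.mem_comap, RingHom.mem_ker, hρ₁alg]
      have : residue A a = 0 := (residue_eq_zero_iff a).mpr ha
      rw [this, map_zero]
  have hmax : ((maximalIdeal A).map (algebraMap A A')).IsMaximal := by
    rw [← hker]
    exact RingHom.ker_isMaximal_of_surjective ρ₁ hρ₁surj
  refine ⟨hmax, ?_⟩
  -- the lift
  haveI : HenselianLocalRing B := Groth.Agent.S0505.result A B
  let q₀ : Ideal A' := RingHom.ker ρ.toRingHom
  haveI : q₀.IsPrime := RingHom.ker_isPrime ρ.toRingHom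
  obtain ⟨φl, hφl⟩ := Groth.Agent.Lib.EssEt.exists_lift_of_henselian (A := A) (C := A') (B := B)
    q₀ ρ (fun c => Iff.rfl)
  let φ : A' →ₐ[A] B := φl.comp (IsScalarTower.toAlgHom A A' (Localization.AtPrime q₀))
  have hφ : ∀ c, residue B (φ c) = ρ c := fun c => hφl c
  refine ⟨φ, fun b => ?_⟩
  haveI : ExpChar k₁ q := expChar_of_injective_algebraMap (algebraMap k k₁).injective q
  obtain ⟨n, y, hy⟩ := IsPurelyInseparable.pow_mem k₁ q (residue B b)
  obtain ⟨a, rfl⟩ := hρ₁surj y
  refine ⟨n, a, ?_⟩
  rw [← residue_eq_zero_iff, map_sub, map_pow, hφ, hρ, hy, sub_self]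

end

end Groth.Agent.Lib.HomotSeqH8
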