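import Mathlib
import Groth.Prelude
import Groth.Agent.Lib.HomotSeq1_helper8
import Groth.Agent.Lib.HomotSeq3_helper8
import Groth.Agent.Lib.SchemeIdem_helper3

/-!
# The degree argument for the homotopy sequence, general form (helper8)
APPEND-ONLY once landed.
-/

set_option autoImplicit false
set_option linter.all false
set_option maxHeartbeats 1600000

universe u

open CategoryTheory CategoryTheory.Limits AlgebraicGeometry TopologicalSpace Opposite

namespace Groth.Agent.Lib.HomotSeqH8

section Affine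

/-- idempotent global functions on a connected scheme are trivial -/
theorem trivIdem_of_connectedSpace (Z : Scheme.{u}) [ConnectedSpace Z] (e : Γ(Z, ⊤))
    (he : IsIdempotentElem e) : e = 0 ∨ e = 1 := by
  have hcl := Groth.Agent.Lib.SchemeIdemH3.isClopen_basicOpen Z he
  rcases isClopen_iff.mp hcl with h | h
  · left
    apply Groth.Agent.Lib.SchemeIdemH3.eq_of_basicOpen_eq Z he IsIdempotentElem.zero
    apply Opens.ext
    rw [h, Scheme.basicOpen_zero]
    rfl
  · right
    apply Groth.Agent.Lib.SchemeIdemH3.eq_of_basicOpen_eq Z he IsIdempotentElem.one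
    apply Opens.ext
    rw [h, Scheme.basicOpen_one]
    rfl

/-- morphisms between affine schemes with prescribed map on global functions -/
theorem exists_hom_appTop_eq {X Y : Scheme.{u}} [IsAffine X] [IsAffine Y]
    (ψ : Γ(Y, ⊤) ⟶ Γ(X, ⊤)) : ∃ m : X ⟶ Y, m.appTop = ψ := by
  refine ⟨X.isoSpec.hom ≫ Spec.map ψ ≫ Y.isoSpec.inv, ?_⟩
  set m := X.isoSpec.hom ≫ Spec.map ψ ≫ Y.isoSpec.inv with hm
  have h1 := Scheme.isoSpec_inv_naturality m
  have h2 : X.isoSpec.inv ≫ m = Spec.map ψ ≫ Y.isoSpec.inv := by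
    rw [hm, Iso.inv_hom_id_assoc]
  rw [h2] at h1
  have h3 : Spec.map m.appTop = Spec.map ψ := by
    rw [← cancel_mono Y.isoSpec.inv]
    exact h1
  exact Spec.map_injective h3

set_option maxHeartbeats 3200000 in
/-- a morphism from a connected scheme to a finite étale scheme over a separably closed field
factors through a rational point -/
theorem exists_section_factor {T' Z : Scheme.{u}} (Ω : Type u) [Field Ω] [IsSepClosed Ω]
    (τ : T' ⟶ Spec (CommRingCat.of Ω)) [IsFinite τ] [Etale τ] [ConnectedSpace Z] (g : Z ⟶ T') :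
    ∃ t' : Spec (CommRingCat.of Ω) ⟶ T', t' ≫ τ = 𝟙 _ ∧ (g ≫ τ) ≫ t' = g := by
  haveI : IsAffine T' := isAffine_of_isAffineHom τ
  let a : Ω →+* Γ(T', ⊤) := τ.appTop.hom.comp (Scheme.ΓSpecIso (CommRingCat.of Ω)).inv.hom
  letI : Algebra Ω Γ(T', ⊤) := a.toAlgebra
  have het : RingHom.Etale τ.appTop.hom :=
    (HasRingHomProperty.iff_of_isAffine (P := @Etale)).mp inferInstance
  have hea : a.Etale := by
    refine RingHom.Etale.stableUnderComposition _ _ (RingHom.Etale.of_bijective ?_) het
    exact ConcreteCategory.bijective_of_isIso (Scheme.ΓSpecIso (CommRingCat.of Ω)).inv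
  haveI : Algebra.Etale Ω Γ(T', ⊤) := hea
  haveI : Algebra.FormallyEtale Ω Γ(T', ⊤) := inferInstance
  haveI : Algebra.EssFiniteType Ω Γ(T', ⊤) := inferInstance
  obtain ⟨z₀⟩ : Nonempty Z := inferInstance
  haveI : Nontrivial Γ(Z, ⊤) := (Z.presheaf.germ ⊤ z₀ trivial).hom.domain_nontrivial
  obtain ⟨χ, hχ⟩ := exists_algHom_of_trivIdem (Ω := Ω) (E := Γ(T', ⊤)) (R := Γ(Z, ⊤))
    (trivIdem_of_connectedSpace Z) g.appTop.hom
  obtain ⟨t', ht'⟩ := exists_hom_appTop_eq (X := Spec (CommRingCat.of Ω)) (Y := T')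
    (CommRingCat.ofHom χ.toRingHom ≫ (Scheme.ΓSpecIso (CommRingCat.of Ω)).inv)
  refine ⟨t', ?_, ?_⟩
  · apply ext_of_isAffine
    rw [Scheme.Hom.comp_appTop, ht', Scheme.Hom.id_appTop]
    have h1 : τ.appTop = (Scheme.ΓSpecIso (CommRingCat.of Ω)).hom ≫ CommRingCat.ofHom a := by
      ext x
      show τ.appTop.hom x = τ.appTop.hom ((Scheme.ΓSpecIso (CommRingCat.of Ω)).inv.hom
        ((Scheme.ΓSpecIso (CommRingCat.of Ω)).hom.hom x))
      rw [← CommRingCat.comp_apply (Scheme.ΓSpecIso (CommRingCat.of Ω)).hom, Iso.hom_inv_id]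
      rfl
    have h2 : CommRingCat.ofHom a ≫ CommRingCat.ofHom χ.toRingHom = 𝟙 _ := by
      ext x
      show χ (algebraMap Ω Γ(T', ⊤) x) = x
      rw [AlgHom.commutes]
      rfl
    rw [h1, Category.assoc, ← Category.assoc (CommRingCat.ofHom a), h2, Category.id_comp,
      Iso.hom_inv_id]
  · apply ext_of_isAffine
    rw [Scheme.Hom.comp_appTop, Scheme.Hom.comp_appTop, ht']
    ext x
    show g.appTop.hom (τ.appTop.hom ((Scheme.ΓSpecIso (CommRingCat.of Ω)).inv.hom (χ x))) =
      g.appTop.hom x
    exact (hχ x).symm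

end Affine

section Main

variable {X S Y T : Scheme.{u}} (f : X ⟶ S) (p : Y ⟶ X) (π : T ⟶ S) (c : Y ⟶ T)

set_option maxHeartbeats 3200000 in
/-- the key isomorphism, general form: a connected finite étale cover `Y` of `X` with a section
over a geometric fibre, mapping to a finite étale `S`-scheme `T` with connected geometric fibres
over the given geometric point, is the base change of `T` as soon as `T ×_S X` is connected -/
theorem isIso_lift_of_section (hc : c ≫ π = p ≫ f)
    [IsFinite p] [Etale p] [IsFinite π] [Etale π] [ConnectedSpace Y]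
    (Ω : Type u) [Field Ω] [IsAlgClosed Ω] (s : Spec (CommRingCat.of Ω) ⟶ S)
    [ConnectedSpace ↥(pullback f s)] (σ : pullback f s ⟶ Y) (hσ : σ ≫ p = pullback.fst f s)
    (hP : ∀ t : Spec (CommRingCat.of Ω) ⟶ T, t ≫ π = s → ConnectedSpace ↥(pullback π f))
    (hfib : ∀ t : Spec (CommRingCat.of Ω) ⟶ T, t ≫ π = s → Nonempty ↥(pullback c t) →
      ConnectedSpace ↥(pullback c t)) :
    IsIso (pullback.lift c p hc : Y ⟶ pullback π f) := by
  set ν : Y ⟶ pullback π f := pullback.lift c p hc with hν
  have hν1 : ν ≫ pullback.fst π f = c := pullback.lift_fst _ _ _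
  have hν2 : ν ≫ pullback.snd π f = p := pullback.lift_snd _ _ _
  -- `ν` is finite étale
  haveI : Etale (pullback.snd π f) := inferInstance
  haveI : IsFinite (pullback.snd π f) := inferInstance
  haveI : Etale (ν ≫ pullback.snd π f) := by rw [hν2]; infer_instance
  haveI : IsFinite (ν ≫ pullback.snd π f) := by rw [hν2]; infer_instance
  haveI hνe : Etale ν := Etale.of_comp ν (pullback.snd π f)
  haveI hνf : IsFinite ν := IsFinite.of_comp ν (pullback.snd π f)
  -- the geometric point of `T`
  have hg₁ : (σ ≫ c) ≫ π = (pullback.snd f s) ≫ s := by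
    rw [Category.assoc, hc, ← Category.assoc, hσ]
    exact pullback.condition
  let g₁' : pullback f s ⟶ pullback π s := pullback.lift (σ ≫ c) (pullback.snd f s) hg₁
  haveI : IsSepClosed Ω := inferInstance
  obtain ⟨t', ht'snd, ht'⟩ := exists_section_factor Ω (pullback.snd π s) g₁'
  have hg₁'snd : g₁' ≫ pullback.snd π s = pullback.snd f s := pullback.lift_snd _ _ _
  rw [hg₁'snd] at ht'
  set t := t' ≫ pullback.fst π s with ht
  have htπ : t ≫ π = s := by
    rw [ht, Category.assoc, pullback.condition, ← Category.assoc, ht'snd, Category.id_comp]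
  have hstrt : (pullback.snd f s) ≫ t = σ ≫ c := by
    rw [ht, ← Category.assoc, ht', pullback.lift_fst]
  -- the rank is constant
  haveI : ConnectedSpace ↥(pullback π f) := hP t htπ
  have hconst : ∀ z z' : ↥(pullback π f), ν.finrank z = ν.finrank z' := by
    intro z z'
    exact (Scheme.Hom.isLocallyConstant_finrank ν).apply_eq_of_isPreconnected
      isPreconnected_univ trivial trivial
  let j : pullback f s ⟶ pullback π f := pullback.lift ((pullback.snd f s) ≫ t) (pullback.fst f s) (by
    rw [Category.assoc, htπ]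
    exact pullback.condition.symm)
  have hj1 : j ≫ pullback.fst π f = (pullback.snd f s) ≫ t := pullback.lift_fst _ _ _
  have hj2 : j ≫ pullback.snd π f = pullback.fst f s := pullback.lift_snd _ _ _
  have hσν : σ ≫ ν = j := by
    apply pullback.hom_ext
    · rw [Category.assoc, hν1, hj1, hstrt]
    · rw [Category.assoc, hν2, hj2, hσ]
  have Hsq : IsPullback j (pullback.snd f s) (pullback.fst π f) t := by
    refine IsPullback.of_right ?_ hj1 (IsPullback.of_hasPullback π f).flip
    rw [hj2, htπ]
    exact IsPullback.of_hasPullback f s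
  have HP : IsPullback (pullback.fst ν j) (pullback.snd ν j ≫ (pullback.snd f s)) c t := by
    have h1 := (IsPullback.of_hasPullback ν j).paste_vert Hsq
    rw [hν1] at h1
    exact h1
  let τ : pullback f s ⟶ pullback ν j := pullback.lift σ (𝟙 (pullback f s)) (by rw [hσν, Category.id_comp])
  have hτ : τ ≫ pullback.snd ν j = 𝟙 (pullback f s) := pullback.lift_snd _ _ _
  obtain ⟨x₀⟩ : Nonempty ↥(pullback f s) := inferInstance
  haveI : Nonempty ↥(pullback c t) := ⟨(τ ≫ HP.isoPullback.hom) x₀⟩
  haveI : ConnectedSpace ↥(pullback c t) := hfib t htπ inferInstance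
  haveI : ConnectedSpace ↥(pullback ν j) :=
    Function.Surjective.connectedSpace (Scheme.homeoOfIso HP.isoPullback.symm).surjective
      (Scheme.homeoOfIso HP.isoPullback.symm).continuous
  haveI : Etale (pullback.snd ν j) := inferInstance
  haveI : IsFinite (pullback.snd ν j) := inferInstance
  haveI : IsSeparated (pullback.snd ν j) := inferInstance
  haveI : Nonempty ↥(pullback f s) := ⟨x₀⟩
  haveI : IsIso (pullback.snd ν j) := isIso_of_section (pullback.snd ν j) τ hτ
  have h1 : (pullback.snd ν j).finrank x₀ = 1 := by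
    rw [Scheme.Hom.finrank_eq_one_of_isIso]
    rfl
  have h2 : (pullback.snd ν j).finrank x₀ = ν.finrank (j x₀) :=
    Scheme.Hom.finrank_pullback_snd ν j x₀
  rw [Scheme.Hom.isIso_iff_finrank_eq]
  ext z
  rw [hconst z (j x₀), ← h2, h1]
  rfl

end Main

end Groth.Agent.Lib.HomotSeqH8
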