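import Mathlib
import Groth.Prelude
import Groth.Agent.Lib.HomotSeq4_helper8
import Groth.Agent.Lib.HomotSeq5_helper8
import Groth.Agent.Lib.SteinNN2_helper8
import Groth.Agent.Lib.SteinFin_helper3

/-!
# Exactness of the homotopy sequence over a complete local base (helper8)
APPEND-ONLY once landed.
-/

set_option autoImplicit false
set_option linter.all false
set_option maxHeartbeats 1600000

universe u

open CategoryTheory CategoryTheory.Limits AlgebraicGeometry TopologicalSpace Opposite IsLocalRing
open TensorProduct

namespace Groth.Agent.Lib.HomotSeqH8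

open Groth.Agent.Lib.SteinNNH8

section Top

/-- a space with a closed map to a "local" space whose closed fibre is connected is connected -/
theorem connectedSpace_of_closedFibre {P T : Type*} [TopologicalSpace P] [TopologicalSpace T]
    (q : P → T) (hq : IsClosedMap q) (m' : T) (hm : ∀ x : T, x ⤳ m')
    (hF : _root_.IsConnected (q ⁻¹' {m'})) : ConnectedSpace P := by
  obtain ⟨y₀, hy₀⟩ := hF.nonempty
  haveI : Nonempty P := ⟨y₀⟩
  haveI : PreconnectedSpace P := by
    rw [preconnectedSpace_iff_clopen]
    intro U hU
    have key : ∀ V : Set P, IsClosed V → V.Nonempty → (V ∩ q ⁻¹' {m'}).Nonempty := by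
      rintro V hV ⟨y, hy⟩
      have h1 : IsClosed (q '' V) := hq V hV
      have h2 : m' ∈ q '' V := (hm (q y)).mem_closed h1 ⟨y, hy, rfl⟩
      obtain ⟨y', hy', hqy'⟩ := h2
      exact ⟨y', hy', hqy'⟩
    by_cases hUF : (q ⁻¹' {m'} ∩ U).Nonempty
    · right
      have hsub : q ⁻¹' {m'} ⊆ U := hF.isPreconnected.subset_isClopen hU hUF
      by_contra hne
      have hcne : (Uᶜ).Nonempty := Set.nonempty_compl.mpr hne
      obtain ⟨y, hyc, hyF⟩ := key Uᶜ hU.compl.isClosed hcne
      exact hyc (hsub hyF)
    · left
      by_contra hne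
      have : U.Nonempty := Set.nonempty_iff_ne_empty.mpr hne
      obtain ⟨y, hyU, hyF⟩ := key U hU.isClosed this
      exact hUF ⟨y, hyF, hyU⟩
  exact { toNonempty := inferInstance }

end Top

section Fibre

variable {A' B Ω : Type u} [CommRing A'] [CommRing B] [IsLocalRing B] [Field Ω]
  [Algebra A' B] [Algebra.IsIntegral A' B] [Algebra A' Ω]

/-- the geometric fibre over the closed point of a geometrically connected morphism to `Spec B`
followed by a radicial finite local map `Spec B ⟶ Spec A'` is connected -/
theorem connectedSpace_pullback_comp_of_radicial {Y : Scheme.{u}}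
    (c₀ : Y ⟶ Spec (CommRingCat.of B)) [GeometricallyConnected c₀] (q : ℕ) [ExpChar Ω q]
    (hmax : (RingHom.ker (algebraMap A' Ω)).IsMaximal)
    (hpi : ∀ b : B, ∃ (n : ℕ) (a : A'),
      b ^ (q ^ n) - algebraMap A' B a ∈ maximalIdeal B)
    [Nonempty ↥(pullback (c₀ ≫ Spec.map (CommRingCat.ofHom (algebraMap A' B)))
      (Spec.map (CommRingCat.ofHom (algebraMap A' Ω))))] :
    ConnectedSpace ↥(pullback (c₀ ≫ Spec.map (CommRingCat.ofHom (algebraMap A' B)))
      (Spec.map (CommRingCat.ofHom (algebraMap A' Ω)))) := by
  set r := Spec.map (CommRingCat.ofHom (algebraMap A' B)) with hr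
  set t := Spec.map (CommRingCat.ofHom (algebraMap A' Ω)) with ht
  haveI hsub : Subsingleton (PrimeSpectrum (B ⊗[A'] Ω)) :=
    subsingleton_primeSpectrum_tensor q hmax hpi
  let eF : pullback r t ≅ Spec (CommRingCat.of (B ⊗[A'] Ω)) := pullbackSpecIso A' B Ω
  haveI : Subsingleton ↥(Spec (CommRingCat.of (B ⊗[A'] Ω))) := hsub
  haveI : Subsingleton ↥(pullback r t) :=
    (Scheme.homeoOfIso eF).injective.subsingleton
  let e := pullbackRightPullbackFstIso r t c₀
  obtain ⟨w⟩ : Nonempty ↥(pullback (c₀ ≫ r) t) := inferInstance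
  haveI : Nonempty ↥(pullback r t) := ⟨(e.inv ≫ pullback.snd c₀ (pullback.fst r t)) w⟩
  haveI : ConnectedSpace ↥(pullback c₀ (pullback.fst r t)) :=
    GeometricallyConnected.connectedSpace_of_subsingleton (pullback.snd c₀ (pullback.fst r t))
  exact Function.Surjective.connectedSpace (Scheme.homeoOfIso e).surjective
    (Scheme.homeoOfIso e).continuous

end Fibre


section Main

variable (A : Type u) [CommRing A] [IsLocalRing A]

theorem henselianLocalRing_of_isAdicComplete [IsAdicComplete (maximalIdeal A) A] :
    HenselianLocalRing A := by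
  have hH : HenselianRing A (maximalIdeal A) := inferInstance
  exact { is_henselian := fun f hf a₀ h1 h2 => hH.is_henselian f hf a₀ h1 (h2.map _) }

variable [HenselianLocalRing A]

set_option maxHeartbeats 6400000 in
/-- the affine core of the argument -/
theorem exists_isIso_lift_aux (B : Type u) [CommRing B] [Algebra A B] [Module.Finite A B]
    [IsLocalRing B] {X Y : Scheme.{u}} (f : X ⟶ Spec (CommRingCat.of A)) [IsProper f]
    (p : Y ⟶ X) [IsFinite p] [Etale p] [ConnectedSpace Y]
    (c₀ : Y ⟶ Spec (CommRingCat.of B)) [GeometricallyConnected c₀]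
    (hc₀ : c₀ ≫ Spec.map (CommRingCat.ofHom (algebraMap A B)) = p ≫ f)
    (ξ : Spec (CommRingCat.of (AlgebraicClosure (ResidueField A))) ⟶ Spec (CommRingCat.of A))
    (hξ : ξ = Spec.map (CommRingCat.ofHom ((algebraMap (ResidueField A)
      (AlgebraicClosure (ResidueField A))).comp (residue A))))
    [ConnectedSpace ↥(pullback f ξ)] (σ : pullback f ξ ⟶ Y) (hσ : σ ≫ p = pullback.fst f ξ) :
    ∃ (T : Scheme.{u}) (π : T ⟶ Spec (CommRingCat.of A)) (c : Y ⟶ T) (hc : c ≫ π = p ≫ f),
      IsFinite π ∧ Etale π ∧ IsIso (pullback.lift c p hc : Y ⟶ pullback π f) := by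
  obtain ⟨q, hq⟩ := ExpChar.exists (ResidueField A)
  haveI := hq
  haveI : ExpChar (AlgebraicClosure (ResidueField A)) q :=
    expChar_of_injective_algebraMap
      (algebraMap (ResidueField A) (AlgebraicClosure (ResidueField A))).injective q
  obtain ⟨A', _, _, hfin, het, hmax, φ, hφ⟩ := exists_etale_lift_of_finite_local A B q
  haveI := hfin
  haveI := het
  letI algA'B : Algebra A' B := φ.toRingHom.toAlgebra
  haveI : IsScalarTower A A' B := IsScalarTower.of_algebraMap_eq (fun a => (φ.commutes a).symm)
  haveI : Algebra.IsIntegral A B := inferInstance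
  haveI : Algebra.IsIntegral A' B := Algebra.IsIntegral.tower_top A
  let π : Spec (CommRingCat.of A') ⟶ Spec (CommRingCat.of A) :=
    Spec.map (CommRingCat.ofHom (algebraMap A A'))
  haveI : IsFinite π := (IsFinite.SpecMap_iff _).mpr (RingHom.finite_algebraMap.mpr hfin)
  haveI : Etale π :=
    (HasRingHomProperty.Spec_iff (P := @Etale)).mpr (RingHom.etale_algebraMap.mpr het)
  let r : Spec (CommRingCat.of B) ⟶ Spec (CommRingCat.of A') :=
    Spec.map (CommRingCat.ofHom (algebraMap A' B))
  have hrπ : r ≫ π = Spec.map (CommRingCat.ofHom (algebraMap A B)) := by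
    show Spec.map _ ≫ Spec.map _ = _
    rw [← Spec.map_comp, ← CommRingCat.ofHom_comp, ← IsScalarTower.algebraMap_eq]
  have hc : (c₀ ≫ r) ≫ π = p ≫ f := by rw [Category.assoc, hrπ, hc₀]
  refine ⟨Spec (CommRingCat.of A'), π, c₀ ≫ r, hc, inferInstance, inferInstance, ?_⟩
  -- analysis of the geometric points of `T` over `ξ`
  have hθ : ∀ θ : CommRingCat.of A' ⟶ CommRingCat.of (AlgebraicClosure (ResidueField A)),
      Spec.map θ ≫ π = ξ → RingHom.ker θ.hom = (maximalIdeal A).map (algebraMap A A') := by
    intro θ ht
    have h1 : CommRingCat.ofHom (algebraMap A A') ≫ θ =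
        CommRingCat.ofHom ((algebraMap (ResidueField A)
          (AlgebraicClosure (ResidueField A))).comp (residue A)) := by
      apply Spec.map_injective
      rw [Spec.map_comp, ← hξ]
      exact ht
    have h2 : ∀ a : A, θ.hom (algebraMap A A' a) =
        algebraMap (ResidueField A) (AlgebraicClosure (ResidueField A)) (residue A a) := by
      intro a
      have := congrArg (fun g => g.hom a) h1
      exact this
    have hle : (maximalIdeal A).map (algebraMap A A') ≤ RingHom.ker θ.hom := by
      rw [Ideal.map_le_iff_le_comap]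
      intro a ha
      rw [Ideal.mem_comap, RingHom.mem_ker, h2, (residue_eq_zero_iff a).mpr ha, map_zero]
    exact (hmax.eq_of_le (RingHom.ker_ne_top _) hle).symm
  apply isIso_lift_of_section f p π (c₀ ≫ r) hc (AlgebraicClosure (ResidueField A)) ξ σ hσ
  · -- connectedness of `T ×_S X`
    intro t ht
    obtain ⟨θ, rfl⟩ : ∃ θ : CommRingCat.of A' ⟶
        CommRingCat.of (AlgebraicClosure (ResidueField A)), Spec.map θ = t :=
      ⟨Spec.preimage t, Spec.map_preimage t⟩
    have hker := hθ θ ht
    let m' : ↥(Spec (CommRingCat.of A')) :=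
      (⟨(maximalIdeal A).map (algebraMap A A'), hmax.isPrime⟩ : PrimeSpectrum A')
    have hm : ∀ x : ↥(Spec (CommRingCat.of A')), x ⤳ m' := by
      intro x
      refine (PrimeSpectrum.le_iff_specializes (R := A') x m').mp ?_
      show x.asIdeal ≤ (maximalIdeal A).map (algebraMap A A')
      obtain ⟨n, hn, hxn⟩ := Ideal.exists_le_maximal x.asIdeal x.isPrime.ne_top
      haveI := hn
      have h1 : (n.comap (algebraMap A A')).IsMaximal :=
        Ideal.isMaximal_comap_of_isIntegral_of_isMaximal n
      have h2 : n.comap (algebraMap A A') = maximalIdeal A := eq_maximalIdeal h1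
      have h3 : (maximalIdeal A).map (algebraMap A A') ≤ n := by
        rw [Ideal.map_le_iff_le_comap, h2]
      rw [hmax.eq_of_le hn.ne_top h3]
      exact hxn
    have ht_apply : ∀ z : ↥(Spec (CommRingCat.of (AlgebraicClosure (ResidueField A)))),
        (Spec.map θ) z = m' := by
      intro z
      rw [Spec.map_apply]
      apply PrimeSpectrum.ext
      show Ideal.comap θ.hom z.asIdeal = (maximalIdeal A).map (algebraMap A A')
      have hz : z.asIdeal = ⊥ := Ideal.eq_bot_of_prime z.asIdeal
      rw [hz, ← RingHom.ker_eq_comap_bot, hker]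
    let j : pullback f ξ ⟶ pullback π f :=
      pullback.lift ((pullback.snd f ξ) ≫ Spec.map θ) (pullback.fst f ξ) (by
        rw [Category.assoc, ht]
        exact pullback.condition.symm)
    have hj1 : j ≫ pullback.fst π f = (pullback.snd f ξ) ≫ Spec.map θ := pullback.lift_fst _ _ _
    have hj2 : j ≫ pullback.snd π f = pullback.fst f ξ := pullback.lift_snd _ _ _
    have Hsq : IsPullback j (pullback.snd f ξ) (pullback.fst π f) (Spec.map θ) := by
      refine IsPullback.of_right ?_ hj1 (IsPullback.of_hasPullback π f).flip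
      rw [hj2, ht]
      exact IsPullback.of_hasPullback f ξ
    have hrange : Set.range j = (pullback.fst π f) ⁻¹' {m'} := by
      have h1 : Set.range (pullback.fst (pullback.fst π f) (Spec.map θ)) =
          (pullback.fst π f) ⁻¹' Set.range (Spec.map θ) := Scheme.Pullback.range_fst _ _
      have h2 : Set.range (Spec.map θ) = {m'} := by
        ext y
        constructor
        · rintro ⟨z, rfl⟩
          exact ht_apply z
        · intro hy
          obtain ⟨z⟩ : Nonempty ↥(Spec (CommRingCat.of (AlgebraicClosure (ResidueField A)))) :=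
            inferInstance
          exact ⟨z, (ht_apply z).trans hy.symm⟩
      have h3 : j = Hsq.isoPullback.hom ≫ pullback.fst (pullback.fst π f) (Spec.map θ) :=
        (Hsq.isoPullback_hom_fst).symm
      rw [← h2, ← h1, h3]
      ext y
      constructor
      · rintro ⟨z, rfl⟩
        exact ⟨Hsq.isoPullback.hom z, rfl⟩
      · rintro ⟨z, rfl⟩
        refine ⟨Hsq.isoPullback.inv z, ?_⟩
        rw [← Scheme.Hom.comp_apply, ← Category.assoc, Iso.inv_hom_id, Category.id_comp]
    have hF : _root_.IsConnected ((pullback.fst π f) ⁻¹' {m'}) := by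
      rw [← hrange]
      exact isConnected_range j.continuous
    haveI : IsProper (pullback.fst π f) := inferInstance
    exact connectedSpace_of_closedFibre (pullback.fst π f) (pullback.fst π f).isClosedMap m' hm hF
  · -- connectedness of the geometric fibres of `c`
    intro t ht hne
    obtain ⟨θ, rfl⟩ : ∃ θ : CommRingCat.of A' ⟶
        CommRingCat.of (AlgebraicClosure (ResidueField A)), Spec.map θ = t :=
      ⟨Spec.preimage t, Spec.map_preimage t⟩
    have hker := hθ θ ht
    letI algA'Ω : Algebra A' (AlgebraicClosure (ResidueField A)) := θ.hom.toAlgebra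
    have hmaxker : (RingHom.ker (algebraMap A' (AlgebraicClosure (ResidueField A)))).IsMaximal := by
      show (RingHom.ker θ.hom).IsMaximal
      rw [hker]; exact hmax
    haveI : Nonempty ↥(pullback (c₀ ≫ Spec.map (CommRingCat.ofHom (algebraMap A' B)))
      (Spec.map (CommRingCat.ofHom (algebraMap A' (AlgebraicClosure (ResidueField A)))))) := hne
    exact connectedSpace_pullback_comp_of_radicial c₀ q hmaxker hφ

end Main


section Final

variable (A : Type u) [CommRing A] [IsLocalRing A] [HenselianLocalRing A] [IsNoetherianRing A]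

set_option maxHeartbeats 6400000 in
/-- a connected finite étale cover of a proper scheme over a Noetherian henselian local ring with
a section over the (connected) geometric closed fibre is the base change of a finite étale cover
of the base -/
theorem exists_isIso_lift {X Y : Scheme.{u}} (f : X ⟶ Spec (CommRingCat.of A)) [IsProper f]
    (p : Y ⟶ X) [IsFinite p] [Etale p] [ConnectedSpace Y]
    (ξ : Spec (CommRingCat.of (AlgebraicClosure (ResidueField A))) ⟶ Spec (CommRingCat.of A))
    (hξ : ξ = Spec.map (CommRingCat.ofHom ((algebraMap (ResidueField A)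
      (AlgebraicClosure (ResidueField A))).comp (residue A))))
    [ConnectedSpace ↥(pullback f ξ)] (σ : pullback f ξ ⟶ Y) (hσ : σ ≫ p = pullback.fst f ξ) :
    ∃ (T : Scheme.{u}) (π : T ⟶ Spec (CommRingCat.of A)) (c : Y ⟶ T) (hc : c ≫ π = p ≫ f),
      IsFinite π ∧ Etale π ∧ IsIso (pullback.lift c p hc : Y ⟶ pullback π f) := by
  set h := p ≫ f with hh
  haveI : IsProper h := inferInstance
  have hcπ₀ : h.toNormalization ≫ h.fromNormalization = h := h.toNormalization_fromNormalization
  haveI : IsLocallyNoetherian (Spec (CommRingCat.of A)) := inferInstance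
  haveI : IsFinite h.fromNormalization := SteinFinH3.main1297 h
  haveI : IsAffine h.normalization := isAffine_of_isAffineHom h.fromNormalization
  haveI hgc : GeometricallyConnected h.toNormalization := geometricallyConnected_toNormalization h
  haveI : ConnectedSpace ↥h.normalization :=
    Function.Surjective.connectedSpace h.toNormalization.surjective h.toNormalization.continuous
  letI algAB : Algebra A Γ(h.normalization, ⊤) :=
    (h.fromNormalization.appTop.hom.comp (Scheme.ΓSpecIso (CommRingCat.of A)).inv.hom).toAlgebra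
  haveI : Module.Finite A Γ(h.normalization, ⊤) :=
    SteinFinH3.finite_comp_of_isProper A h.fromNormalization
  obtain ⟨n₀⟩ : Nonempty ↥h.normalization := inferInstance
  haveI : Nontrivial Γ(h.normalization, ⊤) :=
    (h.normalization.presheaf.germ ⊤ n₀ trivial).hom.domain_nontrivial
  haveI : IsLocalRing Γ(h.normalization, ⊤) :=
    isLocalRing_of_finite_of_trivIdem A _ (trivIdem_of_connectedSpace h.normalization)
  let c₀ : Y ⟶ Spec (CommRingCat.of Γ(h.normalization, ⊤)) :=
    h.toNormalization ≫ h.normalization.isoSpec.hom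
  haveI : GeometricallyConnected c₀ :=
    (MorphismProperty.cancel_right_of_respectsIso @GeometricallyConnected h.toNormalization
      h.normalization.isoSpec.hom).mpr hgc
  have hc₀ : c₀ ≫ Spec.map (CommRingCat.ofHom (algebraMap A Γ(h.normalization, ⊤))) = p ≫ f := by
    have h1 : CommRingCat.ofHom (algebraMap A Γ(h.normalization, ⊤)) =
        (Scheme.ΓSpecIso (CommRingCat.of A)).inv ≫ h.fromNormalization.appTop := rfl
    have h2 := Scheme.isoSpec_hom_naturality h.fromNormalization
    rw [Scheme.isoSpec_Spec_hom] at h2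
    show (h.toNormalization ≫ h.normalization.isoSpec.hom) ≫ _ = _
    rw [h1, Spec.map_comp, Category.assoc, ← Category.assoc h.normalization.isoSpec.hom, h2,
      Category.assoc, ← Spec.map_comp, Iso.inv_hom_id, Spec.map_id, Category.comp_id, hcπ₀]
  exact exists_isIso_lift_aux A Γ(h.normalization, ⊤) f p c₀ hc₀ ξ hξ σ hσ

end Final

section Statement

set_option maxHeartbeats 6400000 in
/-- **exactness in the middle of the homotopy sequence over a complete local base**
(statement S5130) -/
theorem main5130 (A : Type u) [CommRing A] [IsNoetherianRing A] [IsLocalRing A]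
    [IsAdicComplete (maximalIdeal A) A] {X : Scheme.{u}} (f : X ⟶ Spec (CommRingCat.of A))
    [IsProper f]
    (ξ : Spec (CommRingCat.of (AlgebraicClosure (ResidueField A))) ⟶ Spec (CommRingCat.of A))
    (hξ : ξ = Spec.map (CommRingCat.ofHom ((algebraMap (ResidueField A)
      (AlgebraicClosure (ResidueField A))).comp (residue A))))
    [ConnectedSpace ↥(pullback f ξ)] (X' : FEt.Cat X) [ConnectedSpace X'.left]
    (σ : pullback f ξ ⟶ X'.left) (hσ : σ ≫ X'.hom = pullback.fst f ξ) :
    ∃ T : FEt.Cat (Spec (CommRingCat.of A)), Nonempty ((FEt.restrict f).obj T ≅ X') := by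
  haveI : HenselianLocalRing A := henselianLocalRing_of_isAdicComplete A
  haveI hpf : IsFinite X'.hom := X'.prop.1
  haveI hpe : Etale X'.hom := X'.prop.2
  haveI : ConnectedSpace ↥((𝟭 Scheme).obj X'.left) := ‹ConnectedSpace ↥X'.left›
  obtain ⟨T, π, c, hc, hπf, hπe, hiso⟩ := exists_isIso_lift A f X'.hom ξ hξ σ hσ
  haveI := hiso
  let W : FEt.Cat (Spec (CommRingCat.of A)) := MorphismProperty.Over.mk ⊤ π ⟨hπf, hπe⟩
  refine ⟨W, ⟨?_⟩⟩
  refine MorphismProperty.Over.isoMk (asIso (pullback.lift c X'.hom hc :
      X'.left ⟶ pullback π f)).symm ?_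
  show inv (pullback.lift c X'.hom hc) ≫ X'.hom = pullback.snd π f
  rw [IsIso.inv_comp_eq, pullback.lift_snd]

end Statement

end Groth.Agent.Lib.HomotSeqH8
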