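import Mathlib
import Groth.Agent.Lib.HensSec1_helper8

open CategoryTheory CategoryTheory.Limits AlgebraicGeometry Polynomial

universe u

namespace Groth.Agent.StrictHensH8

/-- The section property: every point of an étale `A`-scheme over the closed point lies on a
section. -/
def SecProp (A : Type u) [CommRing A] [IsLocalRing A] : Prop :=
  ∀ (X : Scheme.{u}) (f : X ⟶ Spec (CommRingCat.of A)), Etale f →
    ∀ x : X, f.base x = IsLocalRing.closedPoint A →
      ∃ u : Spec (CommRingCat.of A) ⟶ X, u ≫ f = 𝟙 _ ∧ u.base (IsLocalRing.closedPoint A) = x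

theorem clPt_apply (A : Type u) [CommRing A] [IsLocalRing A]
    (p : Spec (CommRingCat.of (IsLocalRing.ResidueField A))) :
    (Spec.map (CommRingCat.ofHom (IsLocalRing.residue A))).base p = IsLocalRing.closedPoint A := by
  have hp : p = IsLocalRing.closedPoint (IsLocalRing.ResidueField A) :=
    Subsingleton.elim (α := PrimeSpectrum (IsLocalRing.ResidueField A)) _ _
  rw [hp]
  exact IsLocalRing.comap_closedPoint (IsLocalRing.residue A)

theorem secProp_of_strictlyHenselian (A : Type u) [CommRing A] [HenselianLocalRing A]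
    [IsSepClosed (IsLocalRing.ResidueField A)] : SecProp A := by
  intro X f hf x hx
  haveI := hf
  obtain ⟨l, hl1, hl2⟩ := Scheme.exists_fac_of_etale_of_isSepClosed f
    (Spec.map (CommRingCat.ofHom (IsLocalRing.residue A))) x
    (by rw [hx]; exact (clPt_apply A _).symm)
  obtain ⟨s, ⟨hs1, hs2⟩, -⟩ := Groth.Agent.HensSecH8.existsUnique_section A f l hl1
  refine ⟨s, hs1, ?_⟩
  rw [← clPt_apply A default, ← Scheme.Hom.comp_apply, hs2]
  exact hl2

/-- Ring-level consequence of the section property. -/
theorem exists_algHom_of_secProp {A : Type u} [CommRing A] [IsLocalRing A] (H : SecProp A)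
    (B : Type u) [CommRing B] [Algebra A B] [Algebra.Etale A B]
    (L : Type u) [Field L] [Algebra A L]
    (hAL : RingHom.ker (algebraMap A L) = IsLocalRing.maximalIdeal A) (ψ : B →ₐ[A] L) :
    ∃ σ : B →ₐ[A] A, ∀ b, ψ b = 0 → σ b ∈ IsLocalRing.maximalIdeal A := by
  haveI : Etale (Spec.map (CommRingCat.ofHom (algebraMap A B))) := by
    rw [HasRingHomProperty.Spec_iff (P := @Etale)]
    exact RingHom.etale_algebraMap.mpr inferInstance
  haveI : (RingHom.ker ψ.toRingHom).IsPrime := RingHom.ker_isPrime _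
  obtain ⟨x, hx⟩ : ∃ x : Spec (CommRingCat.of B), x = ⟨RingHom.ker ψ.toRingHom, inferInstance⟩ :=
    ⟨_, rfl⟩
  have hfx : (Spec.map (CommRingCat.ofHom (algebraMap A B))).base x =
      IsLocalRing.closedPoint A := by
    apply PrimeSpectrum.ext
    change Ideal.comap (algebraMap A B) x.asIdeal = IsLocalRing.maximalIdeal A
    rw [hx, ← hAL]
    ext a
    simp only [Ideal.mem_comap, RingHom.mem_ker, AlgHom.toRingHom_eq_coe, RingHom.coe_coe,
      AlgHom.commutes]
  obtain ⟨u, hu1, hu2⟩ := H _ _ inferInstance x hfx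
  obtain ⟨σ₀, hσ₀⟩ : ∃ σ₀ : CommRingCat.of B ⟶ CommRingCat.of A, Spec.map σ₀ = u :=
    ⟨Spec.preimage u, Spec.map_preimage _⟩
  have h1 : CommRingCat.ofHom (algebraMap A B) ≫ σ₀ = 𝟙 _ := by
    apply Spec.map_injective
    rw [Spec.map_comp, hσ₀, hu1, Spec.map_id]
  refine ⟨{ σ₀.hom with
    commutes' := fun r => by
      have := congrArg (fun χ => χ.hom r) h1
      simp only [CommRingCat.hom_comp, RingHom.comp_apply, CommRingCat.hom_id,
        RingHom.id_apply, CommRingCat.hom_ofHom] at this
      exact this }, fun b hb => ?_⟩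
  have h2 : Ideal.comap σ₀.hom (IsLocalRing.maximalIdeal A) = RingHom.ker ψ.toRingHom := by
    have := congrArg PrimeSpectrum.asIdeal hu2
    rw [← hσ₀, hx] at this
    exact this
  have hb' : b ∈ RingHom.ker ψ.toRingHom := hb
  rw [← h2] at hb'
  exact hb'

end Groth.Agent.StrictHensH8

namespace Groth.Agent.StrictHensH8

/-- The standard étale pair `(f, f')`. -/
noncomputable def pairOf {A : Type u} [CommRing A] (f : A[X]) (hf : f.Monic) :
    StandardEtalePair A where
  f := f
  monic_f := hf
  g := derivative f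
  cond := ⟨1, 0, 1, by simp⟩

theorem henselian_of_secProp {A : Type u} [CommRing A] [IsLocalRing A] (H : SecProp A) :
    HenselianLocalRing A := by
  refine ((HenselianLocalRing.TFAE A).out 0 1).2 ?_
  intro f hf a₀ h0 h1
  have hmap : (pairOf f hf).HasMap a₀ := ⟨h0, (IsUnit.mk0 _ h1)⟩
  have hAL : RingHom.ker (algebraMap A (IsLocalRing.ResidueField A)) =
      IsLocalRing.maximalIdeal A := IsLocalRing.ker_residue
  obtain ⟨σ, hσ⟩ := exists_algHom_of_secProp H (pairOf f hf).Ring (IsLocalRing.ResidueField A)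
    hAL ((pairOf f hf).lift a₀ hmap)
  refine ⟨σ (pairOf f hf).X, ?_, ?_⟩
  · have := (StandardEtalePair.hasMap_X (P := pairOf f hf)).map σ
    have h2 : aeval (σ (pairOf f hf).X) f = 0 := this.1
    rw [Polynomial.IsRoot.def, ← Polynomial.coe_aeval_eq_eval]
    exact h2
  · obtain ⟨a', ha'⟩ := IsLocalRing.residue_surjective a₀
    have h2 : ((pairOf f hf).lift a₀ hmap)
        ((pairOf f hf).X - algebraMap A (pairOf f hf).Ring a') = 0 := by
      rw [map_sub, StandardEtalePair.lift_X, AlgHom.commutes]
      show a₀ - IsLocalRing.residue A a' = 0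
      rw [ha', sub_self]
    have h3 := hσ _ h2
    rw [map_sub, AlgHom.commutes, ← IsLocalRing.residue_eq_zero_iff, map_sub, sub_eq_zero] at h3
    rw [h3]
    exact ha'

theorem isSepClosed_of_secProp {A : Type u} [CommRing A] [IsLocalRing A] (H : SecProp A) :
    IsSepClosed (IsLocalRing.ResidueField A) := by
  apply IsSepClosed.of_exists_root
  intro p hp hirr hsep
  obtain ⟨f, hfp, -, hf⟩ := Polynomial.lifts_and_natDegree_eq_and_monic
    ((Polynomial.mem_lifts p).mpr (Polynomial.map_surjective _ IsLocalRing.residue_surjective p)) hp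
  haveI : Fact (Irreducible p) := ⟨hirr⟩
  have hroot : aeval (AdjoinRoot.root p) f = 0 := by
    have h1 : aeval (AdjoinRoot.root p) f =
        aeval (AdjoinRoot.root p) (f.map (algebraMap A (IsLocalRing.ResidueField A))) := by
      rw [Polynomial.aeval_map_algebraMap]
    have hfp' : f.map (algebraMap A (IsLocalRing.ResidueField A)) = p := hfp
    rw [h1, hfp', AdjoinRoot.aeval_eq, AdjoinRoot.mk_self]
  have hder : aeval (AdjoinRoot.root p) (derivative f) ≠ 0 := by
    have h1 : aeval (AdjoinRoot.root p) (derivative f) =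
        aeval (AdjoinRoot.root p)
          (derivative (f.map (algebraMap A (IsLocalRing.ResidueField A)))) := by
      rw [Polynomial.derivative_map, Polynomial.aeval_map_algebraMap]
    have hfp' : f.map (algebraMap A (IsLocalRing.ResidueField A)) = p := hfp
    rw [h1, hfp']
    apply hsep.aeval_derivative_ne_zero
    rw [AdjoinRoot.aeval_eq, AdjoinRoot.mk_self]
  have hmap : (pairOf f hf).HasMap (AdjoinRoot.root p) := ⟨hroot, IsUnit.mk0 _ hder⟩
  have hAL : RingHom.ker (algebraMap A (AdjoinRoot p)) = IsLocalRing.maximalIdeal A := by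
    rw [IsScalarTower.algebraMap_eq A (IsLocalRing.ResidueField A) (AdjoinRoot p),
      ← RingHom.comap_ker,
      (RingHom.injective_iff_ker_eq_bot _).mp
        (algebraMap (IsLocalRing.ResidueField A) (AdjoinRoot p)).injective]
    exact IsLocalRing.ker_residue
  obtain ⟨σ, -⟩ := exists_algHom_of_secProp H (pairOf f hf).Ring (AdjoinRoot p)
    hAL ((pairOf f hf).lift _ hmap)
  have h2 : aeval (σ (pairOf f hf).X) f = 0 :=
    ((StandardEtalePair.hasMap_X (P := pairOf f hf)).map σ).1
  refine ⟨IsLocalRing.residue A (σ (pairOf f hf).X), ?_⟩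
  rw [← hfp, Polynomial.eval_map, Polynomial.eval₂_hom, ← Polynomial.coe_aeval_eq_eval, h2,
    map_zero]

end Groth.Agent.StrictHensH8
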