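import Mathlib
import Groth.Prelude
import Groth.Agent.Lib.HomotSeq2_helper8
import Groth.Agent.Lib.StrictHens1_helper8
import Groth.Agent.Lib.FEtFull_helper4
import Groth.Agent.Lib.FEtFaithful_helper4
import Groth.Agent.Lib.HLVT10_helper3

/-!
# Specialization of the fundamental group: full faithfulness over a strictly henselian base (helper8)
APPEND-ONLY once landed.
-/

set_option autoImplicit false
set_option linter.all false
set_option maxHeartbeats 1600000

universe u

open CategoryTheory CategoryTheory.Limits AlgebraicGeometry TopologicalSpace Opposite IsLocalRing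

namespace Groth.Agent.Lib.HomotSeqH8

open Groth.Agent.Lib.SteinBCH8 Groth.Agent.Lib.SteinNNH8

section Section

variable {P T : Scheme.{u}}

/-- a section of a separated étale morphism is an open immersion with closed range -/
theorem isOpenImmersion_of_section (φ : P ⟶ T) [Etale φ] [IsSeparated φ] (τ : T ⟶ P)
    (hτ : τ ≫ φ = 𝟙 T) : IsOpenImmersion τ ∧ IsClosed (Set.range τ) := by
  haveI : Etale (τ ≫ φ) := by rw [hτ]; infer_instance
  haveI : Etale τ := Etale.of_comp τ φ
  haveI : Mono τ := mono_of_mono_fac hτ
  haveI : IsOpenImmersion τ := IsOpenImmersion.of_flat_of_mono τ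
  haveI : IsProper (τ ≫ φ) := by rw [hτ]; infer_instance
  haveI : IsProper τ := IsProper.of_comp τ φ
  exact ⟨inferInstance, τ.isClosedMap.isClosed_range⟩

end Section

section Strict

variable (A : Type u) [CommRing A] [HenselianLocalRing A] [IsSepClosed (ResidueField A)]

/-- sections of a finite étale cover of a strictly henselian local scheme pass through every
point -/
theorem exists_section_through {N : Scheme.{u}} (π : N ⟶ Spec (CommRingCat.of A)) [IsFinite π]
    [Etale π] (n : N) :
    ∃ u : Spec (CommRingCat.of A) ⟶ N, u ≫ π = 𝟙 _ ∧ n ∈ Set.range u := by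
  by_contra hcon
  push Not at hcon
  let U : Set N := ⋃ (u : {u : Spec (CommRingCat.of A) ⟶ N // u ≫ π = 𝟙 _}), Set.range u.1
  have hUopen : IsOpen U := by
    refine isOpen_iUnion (fun u => ?_)
    haveI := (isOpenImmersion_of_section π u.1 u.2).1
    exact u.1.isOpenEmbedding.isOpen_range
  have hnU : n ∉ U := by
    intro hn
    obtain ⟨u, hu⟩ := Set.mem_iUnion.mp hn
    exact hcon u.1 u.2 hu
  have h1 : IsClosed (π '' Uᶜ) := π.isClosedMap _ hUopen.isClosed_compl
  have h2 : closedPoint A ∈ π '' Uᶜ :=
    (specializes_closedPoint (R := A) (π n)).mem_closed h1 ⟨n, hnU, rfl⟩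
  obtain ⟨n', hn'Z, hn'⟩ := h2
  obtain ⟨u, hu, hun'⟩ :=
    Groth.Agent.StrictHensH8.secProp_of_strictlyHenselian A N π inferInstance n' hn'
  exact hn'Z (Set.mem_iUnion.mpr ⟨⟨u, hu⟩, ⟨closedPoint A, hun'⟩⟩)

variable {X : Scheme.{u}} (f : X ⟶ Spec (CommRingCat.of A)) [IsProper f] [Flat f]
  [LocallyOfFinitePresentation f]

include A in
/-- reducedness of the geometric fibres passes to finite étale covers -/
theorem isReduced_pullback_comp_of_etale
    (hred : ∀ (Ω : Type u) [Field Ω] [IsAlgClosed Ω] (s : Spec (CommRingCat.of Ω) ⟶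
      Spec (CommRingCat.of A)), IsReduced (pullback f s))
    {Y : Scheme.{u}} (p : Y ⟶ X) [Etale p]
    (Ω' : Type u) [Field Ω'] [IsAlgClosed Ω'] (τ : Spec (CommRingCat.of Ω') ⟶
      Spec (CommRingCat.of A)) : IsReduced (pullback (p ≫ f) τ) := by
  haveI := hred Ω' τ
  haveI : IsReduced (pullback p (pullback.fst f τ)) :=
    Groth.Agent.Lib.EtaleReduced_helper7.isReduced_of_etale_scheme
      (pullback.snd p (pullback.fst f τ))
  exact isReduced_of_isOpenImmersion (pullbackRightPullbackFstIso f τ p).inv

set_option maxHeartbeats 3200000 in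
/-- a connected finite étale cover of `X` is geometrically connected over the strictly henselian
base -/
theorem geometricallyConnected_comp_of_connected
    (hred : ∀ (Ω : Type u) [Field Ω] [IsAlgClosed Ω] (s : Spec (CommRingCat.of Ω) ⟶
      Spec (CommRingCat.of A)), IsReduced (pullback f s))
    {Y : Scheme.{u}} (p : Y ⟶ X) [IsFinite p] [Etale p] [ConnectedSpace Y] :
    GeometricallyConnected (p ≫ f) := by
  set h := p ≫ f with hh
  haveI : IsProper h := inferInstance
  haveI : Flat h := inferInstance
  haveI : LocallyOfFinitePresentation h := inferInstance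
  have hπ := main3701 h (fun Ω' _ _ τ => isReduced_pullback_comp_of_etale A f hred p Ω' τ)
  haveI := hπ.1
  haveI := hπ.2
  have hcπ : h.toNormalization ≫ h.fromNormalization = h := h.toNormalization_fromNormalization
  haveI hgc : GeometricallyConnected h.toNormalization := geometricallyConnected_toNormalization h
  haveI : ConnectedSpace ↥h.normalization :=
    Function.Surjective.connectedSpace h.toNormalization.surjective h.toNormalization.continuous
  obtain ⟨n₀⟩ : Nonempty ↥h.normalization := inferInstance
  obtain ⟨u, hu, -⟩ := exists_section_through A h.fromNormalization n₀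
  haveI : IsSeparated h.fromNormalization := inferInstance
  haveI : Nonempty ↥(Spec (CommRingCat.of A)) := ⟨closedPoint A⟩
  haveI : IsIso h.fromNormalization := isIso_of_section h.fromNormalization u hu
  have := (MorphismProperty.cancel_right_of_respectsIso @GeometricallyConnected
    h.toNormalization h.fromNormalization).mpr hgc
  rw [hcπ] at this
  exact this

set_option maxHeartbeats 3200000 in
/-- every point of a finite étale cover of `X` has a clopen connected neighbourhood -/
theorem exists_clopen_connected_nhd
    (hred : ∀ (Ω : Type u) [Field Ω] [IsAlgClosed Ω] (s : Spec (CommRingCat.of Ω) ⟶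
      Spec (CommRingCat.of A)), IsReduced (pullback f s))
    {W : Scheme.{u}} (c : W ⟶ X) [IsFinite c] [Etale c] (w : W) :
    ∃ C : Set W, IsClopen C ∧ _root_.IsConnected C ∧ w ∈ C := by
  set h := c ≫ f with hh
  haveI : IsProper h := inferInstance
  haveI : Flat h := inferInstance
  haveI : LocallyOfFinitePresentation h := inferInstance
  have hπ := main3701 h (fun Ω' _ _ τ => isReduced_pullback_comp_of_etale A f hred c Ω' τ)
  haveI := hπ.1
  haveI := hπ.2
  haveI hgc : GeometricallyConnected h.toNormalization := geometricallyConnected_toNormalization h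
  have hcπ : h.toNormalization ≫ h.fromNormalization = h := h.toNormalization_fromNormalization
  haveI : IsProper (h.toNormalization ≫ h.fromNormalization) := by rw [hcπ]; infer_instance
  haveI : IsProper h.toNormalization := IsProper.of_comp h.toNormalization h.fromNormalization
  obtain ⟨u, hu, hnu⟩ := exists_section_through A h.fromNormalization (h.toNormalization w)
  haveI : IsSeparated h.fromNormalization := inferInstance
  obtain ⟨huo, huc⟩ := isOpenImmersion_of_section h.fromNormalization u hu
  haveI := huo
  haveI : ConnectedSpace ↥(Spec (CommRingCat.of A)) :=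
    Groth.Agent.Lib.HLVTH3.connectedSpace_of_isLocalRing A
  have hDconn : _root_.IsConnected (Set.range u) := isConnected_range u.continuous
  have hq : Topology.IsQuotientMap h.toNormalization :=
    IsClosedMap.isQuotientMap h.toNormalization.isClosedMap h.toNormalization.continuous
      h.toNormalization.surjective
  refine ⟨h.toNormalization ⁻¹' Set.range u, ?_, ?_, hnu⟩
  · exact ⟨huc.preimage h.toNormalization.continuous,
      u.isOpenEmbedding.isOpen_range.preimage h.toNormalization.continuous⟩
  · exact hq.isCoinducing.isConnected_preimage_of_isClosed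
      (fun y => h.toNormalization.isConnected_preimage_singleton y) huc hDconn

end Strict


section Descent

variable (A : Type u) [CommRing A] [HenselianLocalRing A] [IsSepClosed (ResidueField A)]
  {X : Scheme.{u}} (f : X ⟶ Spec (CommRingCat.of A)) [IsProper f] [Flat f]
  [LocallyOfFinitePresentation f]

set_option maxHeartbeats 3200000 in
/-- the preimage in the geometric fibre of a clopen connected subset of a finite étale cover is
preconnected -/
theorem isPreconnected_preimage_of_clopen_connected
    (hred : ∀ (Ω : Type u) [Field Ω] [IsAlgClosed Ω] (s : Spec (CommRingCat.of Ω) ⟶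
      Spec (CommRingCat.of A)), IsReduced (pullback f s))
    {W : Scheme.{u}} (c : W ⟶ X) [IsFinite c] [Etale c] (Ω : Type u) [Field Ω]
    (t : Spec (CommRingCat.of Ω) ⟶ Spec (CommRingCat.of A)) (C : Set W) (hC : IsClopen C)
    (hCconn : _root_.IsConnected C) :
    _root_.IsPreconnected ((pullback.fst c (pullback.fst f t)).base ⁻¹' C) := by
  let CO : W.Opens := ⟨C, hC.isOpen⟩
  have hrange : Set.range CO.ι = C := Scheme.Opens.range_ι CO
  haveI : IsClosedImmersion CO.ι :=
    IsClosedImmersion.of_isPreimmersion CO.ι (by rw [hrange]; exact hC.isClosed)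
  haveI : IsFinite (CO.ι ≫ c) := inferInstance
  haveI : Etale (CO.ι ≫ c) := inferInstance
  haveI : ConnectedSpace ↥(CO : Scheme.{u}) :=
    (isConnected_iff_connectedSpace (s := C)).mp hCconn
  haveI hgc : GeometricallyConnected ((CO.ι ≫ c) ≫ f) :=
    geometricallyConnected_comp_of_connected A f hred (CO.ι ≫ c)
  haveI : ConnectedSpace ↥(pullback ((CO.ι ≫ c) ≫ f) t) :=
    GeometricallyConnected.geometrically_connectedSpace (f := (CO.ι ≫ c) ≫ f) t _ _
      (IsPullback.of_hasPullback ((CO.ι ≫ c) ≫ f) t)
  let e1 := pullbackRightPullbackFstIso f t (CO.ι ≫ c)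
  let e2 := pullbackRightPullbackFstIso c (pullback.fst f t) CO.ι
  haveI : ConnectedSpace ↥(pullback (CO.ι ≫ c) (pullback.fst f t)) :=
    Function.Surjective.connectedSpace (Scheme.homeoOfIso e1.symm).surjective
      (Scheme.homeoOfIso e1.symm).continuous
  haveI : ConnectedSpace ↥(pullback CO.ι (pullback.fst c (pullback.fst f t))) :=
    Function.Surjective.connectedSpace (Scheme.homeoOfIso e2.symm).surjective
      (Scheme.homeoOfIso e2.symm).continuous
  have h1 : Set.range (pullback.snd CO.ι (pullback.fst c (pullback.fst f t))) =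
      (pullback.fst c (pullback.fst f t)) ⁻¹' Set.range CO.ι := Scheme.Pullback.range_snd _ _
  rw [hrange] at h1
  rw [← h1]
  exact isPreconnected_range (pullback.snd CO.ι (pullback.fst c (pullback.fst f t))).continuous

set_option maxHeartbeats 3200000 in
/-- clopen subsets of the geometric fibre of a finite étale cover descend -/
theorem exists_clopen_preimage
    (hred : ∀ (Ω : Type u) [Field Ω] [IsAlgClosed Ω] (s : Spec (CommRingCat.of Ω) ⟶
      Spec (CommRingCat.of A)), IsReduced (pullback f s))
    {W : Scheme.{u}} (c : W ⟶ X) [IsFinite c] [Etale c] (Ω : Type u) [Field Ω]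
    (t : Spec (CommRingCat.of Ω) ⟶ Spec (CommRingCat.of A))
    (V : Set ↥(pullback c (pullback.fst f t))) (hV : IsClopen V) :
    ∃ U : Set W, IsClopen U ∧ (pullback.fst c (pullback.fst f t)).base ⁻¹' U = V := by
  set ρ := pullback.fst c (pullback.fst f t) with hρ
  let U : Set W := {w | ∃ C : Set W, IsClopen C ∧ _root_.IsConnected C ∧ w ∈ C ∧ ρ.base ⁻¹' C ⊆ V}
  have hpre : ∀ C : Set W, IsClopen C → _root_.IsConnected C → _root_.IsPreconnected (ρ.base ⁻¹' C) :=
    fun C hC hCc => isPreconnected_preimage_of_clopen_connected A f hred c Ω t C hC hCc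
  refine ⟨U, ⟨?_, ?_⟩, ?_⟩
  · -- closed
    rw [← isOpen_compl_iff, isOpen_iff_forall_mem_open]
    intro w hw
    obtain ⟨C, hC, hCc, hwC⟩ := exists_clopen_connected_nhd A f hred c w
    refine ⟨C, ?_, hC.isOpen, hwC⟩
    intro w' hw'C hw'U
    obtain ⟨C', hC', hC'c, hw'C', hC'V⟩ := hw'U
    have hsub : C ⊆ C' := hCc.isPreconnected.subset_isClopen hC' ⟨w', hw'C, hw'C'⟩
    exact hw ⟨C', hC', hC'c, hsub hwC, hC'V⟩
  · -- open
    rw [isOpen_iff_forall_mem_open]
    intro w hw
    obtain ⟨C, hC, hCc, hwC, hCV⟩ := hw
    exact ⟨C, fun w' hw' => ⟨C, hC, hCc, hw', hCV⟩, hC.isOpen, hwC⟩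
  · ext z
    constructor
    · rintro ⟨C, hC, hCc, hzC, hCV⟩
      exact hCV hzC
    · intro hz
      obtain ⟨C, hC, hCc, hwC⟩ := exists_clopen_connected_nhd A f hred c (ρ.base z)
      refine ⟨C, hC, hCc, hwC, ?_⟩
      exact (hpre C hC hCc).subset_isClopen hV ⟨z, hwC, hz⟩

set_option maxHeartbeats 3200000 in
/-- **specialization of the fundamental group is surjective** (statement S3678): restriction of
finite étale covers to a geometric fibre is fully faithful over a strictly henselian base -/
theorem main3678
    (hfib : ∀ (Ω : Type u) [Field Ω] [IsAlgClosed Ω] (s : Spec (CommRingCat.of Ω) ⟶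
      Spec (CommRingCat.of A)), ConnectedSpace ↥(pullback f s) ∧ IsReduced (pullback f s))
    (Ω : Type u) [Field Ω] [IsAlgClosed Ω] (t : Spec (CommRingCat.of Ω) ⟶ Spec (CommRingCat.of A)) :
    (FEt.restrict (pullback.fst f t)).Full ∧ (FEt.restrict (pullback.fst f t)).Faithful := by
  have hred : ∀ (Ω : Type u) [Field Ω] [IsAlgClosed Ω] (s : Spec (CommRingCat.of Ω) ⟶
      Spec (CommRingCat.of A)), IsReduced (pullback f s) := fun Ω' _ _ s => (hfib Ω' s).2
  haveI hgc : GeometricallyConnected f :=
    geometricallyConnected_of_forall_algClosed f (fun Ω' _ _ s' => (hfib Ω' s').1)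
  haveI hsurj : Surjective f :=
    surjective_of_forall_algClosed f (fun Ω' _ _ s' => by
      haveI := (hfib Ω' s').1
      infer_instance)
  haveI : ConnectedSpace ↥(Spec (CommRingCat.of A)) :=
    Groth.Agent.Lib.HLVTH3.connectedSpace_of_isLocalRing A
  haveI : ConnectedSpace ↥X := connectedSpace_of_geometricallyConnected f
  haveI : ConnectedSpace ↥(pullback f t) := (hfib Ω t).1
  have hD : ∀ U : Set X, IsOpen U → IsClosed U → U.Nonempty →
      (U ∩ Set.range (pullback.fst f t).base).Nonempty := by
    intro U hUo hUc hUne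
    rcases isClopen_iff.mp (⟨hUc, hUo⟩ : IsClopen U) with h | h
    · exact absurd h hUne.ne_empty
    · rw [h, Set.univ_inter]
      exact Set.range_nonempty _
  refine ⟨Groth.Agent.Lib.FEtFullH4.full_of_clopen (pullback.fst f t) hD ?_,
    Groth.Agent.Lib.FEtFaithfulH4.faithful_of_clopen (pullback.fst f t) hD⟩
  intro W c _ _ V hV
  exact exists_clopen_preimage A f hred c Ω t V hV

end Descent

end Groth.Agent.Lib.HomotSeqH8
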