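import Mathlib
import Groth.Agent.Lib.HensIntegral_helper3
import Groth.Agent.Lib.HenselVal_lead

/-!
# The unit component of a finite flat group scheme over a henselian local ring (helper3)

`A` a finite flat commutative Hopf algebra over a henselian local ring `R`, `e ∈ A` an idempotent
with `ε(e) = 1` such that `A⁰ = A/(1-e)` is local.  Then `(1-e)` is a Hopf ideal, `A⁰` is henselian
local with residue field that of `R`, and flat over `R`.
-/

set_option autoImplicit false
set_option linter.unusedSectionVars false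

noncomputable section

open TensorProduct IsLocalRing

universe u v

namespace Groth.Agent.Lib.HopfConnComp_helper3

lemma idem_local {B : Type*} [CommRing B] [IsLocalRing B] (x : B) (hx : IsIdempotentElem x) :
    x = 0 ∨ x = 1 := by
  rcases IsLocalRing.isUnit_or_isUnit_one_sub_self x with h | h
  · right
    have h1 : x * (1 - x) = 0 := hx.mul_one_sub_self
    have h2 := (h.mul_right_eq_zero).1 h1
    exact (sub_eq_zero.1 h2).symm
  · left
    have h1 : (1 - x) * x = 0 := hx.one_sub_mul_self
    exact (h.mul_right_eq_zero).1 h1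

section Main

variable (R : Type u) [CommRing R] [IsLocalRing R]
  (A : Type v) [CommRing A] [HopfAlgebra R A] [Module.Finite R A]
  (e : A) (he : IsIdempotentElem e) (hε : Bialgebra.counitAlgHom R A e = 1)

/-- the ideal `(1 - e)`. -/
abbrev II : Ideal A := Ideal.span ({1 - e} : Set A)

/-- the quotient map as an algebra map. -/
abbrev qq : A →ₐ[R] A ⧸ II A e := Ideal.Quotient.mkₐ R (II A e)

include hε in
lemma counit_eq_zero_of_mem (a : A) (ha : a ∈ II A e) : Bialgebra.counitAlgHom R A a = 0 := by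
  rw [Ideal.mem_span_singleton'] at ha
  obtain ⟨c, rfl⟩ := ha
  rw [map_mul, map_sub, map_one, hε, sub_self, mul_zero]

/-- the counit of the quotient. -/
def eps0 : (A ⧸ II A e) →ₐ[R] R :=
  Ideal.Quotient.liftₐ (II A e) (Bialgebra.counitAlgHom R A) (counit_eq_zero_of_mem R A e hε)

lemma eps0_mk (a : A) : eps0 R A e hε (Ideal.Quotient.mk (II A e) a) =
    Bialgebra.counitAlgHom R A a := by
  unfold eps0
  rw [Ideal.Quotient.liftₐ_apply, Ideal.Quotient.lift_mk]
  rfl

lemma sub_mem_ker_eps0 (a : A ⧸ II A e) :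
    a - algebraMap R (A ⧸ II A e) (eps0 R A e hε a) ∈ RingHom.ker (eps0 R A e hε) := by
  rw [RingHom.mem_ker, map_sub, AlgHom.commutes, Algebra.algebraMap_self_apply, sub_self]

variable [IsLocalRing (A ⧸ II A e)]

lemma ker_eps0_le : RingHom.ker (eps0 R A e hε) ≤ maximalIdeal (A ⧸ II A e) :=
  IsLocalRing.le_maximalIdeal (RingHom.ker_ne_top _)

include hε in
lemma residue_surjective :
    Function.Surjective (⇑(IsLocalRing.residue (A ⧸ II A e)) ∘ ⇑(algebraMap R (A ⧸ II A e))) := by
  intro x
  obtain ⟨a, rfl⟩ := IsLocalRing.residue_surjective x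
  refine ⟨eps0 R A e hε a, ?_⟩
  rw [Function.comp_apply]
  symm
  rw [← sub_eq_zero, ← map_sub, IsLocalRing.residue_eq_zero_iff]
  exact ker_eps0_le R A e hε (sub_mem_ker_eps0 R A e hε a)

include he in
lemma flat_quot [Module.Flat R A] : Module.Flat R (A ⧸ II A e) := by
  have h0 : ∀ a ∈ II A e, (LinearMap.mulLeft A e) a = 0 := by
    intro a ha
    rw [Ideal.mem_span_singleton'] at ha
    obtain ⟨c, rfl⟩ := ha
    show e * (c * (1 - e)) = 0
    have := he.mul_one_sub_self
    calc e * (c * (1 - e)) = c * (e * (1 - e)) := by ring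
      _ = 0 := by rw [this, mul_zero]
  let i : (A ⧸ II A e) →ₗ[R] A :=
    (Submodule.liftQ (II A e) (LinearMap.mulLeft A e) h0).restrictScalars R
  refine Module.Flat.of_retract i (qq R A e).toLinearMap ?_
  apply LinearMap.ext
  intro x
  obtain ⟨a, rfl⟩ := Ideal.Quotient.mk_surjective x
  show Ideal.Quotient.mk (II A e) (e * a) = Ideal.Quotient.mk (II A e) a
  rw [Ideal.Quotient.eq, Ideal.mem_span_singleton']
  exact ⟨-a, by ring⟩

/-- `A⁰` is henselian. -/
lemma henselian_quot (R : Type u) [CommRing R] [HenselianLocalRing R]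
    (A : Type v) [CommRing A] [Algebra R A] [Module.Finite R A] (I : Ideal A)
    [IsLocalRing (A ⧸ I)] : HenselianLocalRing (A ⧸ I) := by
  haveI : Module.Finite R (A ⧸ I) :=
    Module.Finite.of_surjective (Ideal.Quotient.mkₐ R I).toLinearMap Ideal.Quotient.mk_surjective
  haveI : Algebra.FiniteType R (A ⧸ I) := Module.Finite.finiteType (A ⧸ I)
  obtain ⟨n, f, hf⟩ := Algebra.FiniteType.iff_quotient_mvPolynomial''.1
    (inferInstance : Algebra.FiniteType R (A ⧸ I))
  let T := MvPolynomial (Fin n) R ⧸ RingHom.ker f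
  let eq : T ≃ₐ[R] (A ⧸ I) := Ideal.quotientKerAlgEquivOfSurjective hf
  haveI : Nontrivial T := eq.toRingEquiv.toRingHom.domain_nontrivial
  haveI : IsLocalRing T :=
    IsLocalRing.of_surjective' (eq.symm : (A ⧸ I) →+* T) eq.symm.surjective
  haveI : Module.Finite R T := Module.Finite.equiv eq.symm.toLinearEquiv
  haveI : Algebra.IsIntegral R T := Algebra.IsIntegral.of_finite R T
  haveI : HenselianLocalRing T :=
    Groth.Agent.Lib.HensIntegralH3.henselianLocalRing_of_isIntegral R T
  exact Groth.Agent.Lib.HenselValLead.henselian_of_surjective (eq : T →+* (A ⧸ I)) eq.surjective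

/-! ### `A⁰ ⊗ A⁰` is local -/

/-- `A⁰ ⊗ A⁰ → R`. -/
def kapB : (A ⧸ II A e) ⊗[R] (A ⧸ II A e) →ₐ[R] R :=
  Algebra.TensorProduct.lift (eps0 R A e hε) (eps0 R A e hε) (fun _ _ => Commute.all _ _)

lemma kapB_tmul (a b : A ⧸ II A e) :
    kapB R A e hε (a ⊗ₜ[R] b) = eps0 R A e hε a * eps0 R A e hε b := by
  unfold kapB
  rw [Algebra.TensorProduct.lift_tmul]

/-- the ideal generated by the augmentation ideals of the two factors. -/
def JJ : Ideal ((A ⧸ II A e) ⊗[R] (A ⧸ II A e)) :=
  Ideal.map (Algebra.TensorProduct.includeLeft : (A ⧸ II A e) →ₐ[R] _)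
      (RingHom.ker (eps0 R A e hε)) ⊔
    Ideal.map (Algebra.TensorProduct.includeRight : (A ⧸ II A e) →ₐ[R] _)
      (RingHom.ker (eps0 R A e hε))

lemma sub_mem_JJ (x : (A ⧸ II A e) ⊗[R] (A ⧸ II A e)) :
    x - algebraMap R _ (kapB R A e hε x) ∈ JJ R A e hε := by
  induction x using TensorProduct.induction_on with
  | zero => rw [map_zero, map_zero, sub_zero]; exact (JJ R A e hε).zero_mem
  | add x y hx hy =>
    have := (JJ R A e hε).add_mem hx hy
    rw [map_add, map_add]
    convert this using 1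
    ring
  | tmul a b =>
    rw [kapB_tmul]
    set r := eps0 R A e hε a with hr
    set s := eps0 R A e hε b with hs
    have ha := sub_mem_ker_eps0 R A e hε a
    have hb := sub_mem_ker_eps0 R A e hε b
    rw [← hr] at ha
    rw [← hs] at hb
    have h1 : (a - algebraMap R _ r) ⊗ₜ[R] b ∈ JJ R A e hε := by
      have : (a - algebraMap R (A ⧸ II A e) r) ⊗ₜ[R] b =
          (Algebra.TensorProduct.includeLeft : (A ⧸ II A e) →ₐ[R] _) (a - algebraMap R _ r) *
            ((1 : A ⧸ II A e) ⊗ₜ[R] b) := by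
        rw [Algebra.TensorProduct.includeLeft_apply, Algebra.TensorProduct.tmul_mul_tmul, mul_one,
          one_mul]
      rw [this]
      exact Ideal.mul_mem_right _ _ (Ideal.mem_sup_left (Ideal.mem_map_of_mem _ ha))
    have h2 : (algebraMap R (A ⧸ II A e) r) ⊗ₜ[R] (b - algebraMap R _ s) ∈ JJ R A e hε := by
      have : (algebraMap R (A ⧸ II A e) r) ⊗ₜ[R] (b - algebraMap R (A ⧸ II A e) s) =
          ((algebraMap R (A ⧸ II A e) r) ⊗ₜ[R] (1 : A ⧸ II A e)) *
          (Algebra.TensorProduct.includeRight : (A ⧸ II A e) →ₐ[R] _) (b - algebraMap R _ s) := by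
        rw [Algebra.TensorProduct.includeRight_apply, Algebra.TensorProduct.tmul_mul_tmul, mul_one,
          one_mul]
      rw [this]
      exact Ideal.mul_mem_left _ _ (Ideal.mem_sup_right (Ideal.mem_map_of_mem _ hb))
    have h3 : a ⊗ₜ[R] b - algebraMap R ((A ⧸ II A e) ⊗[R] (A ⧸ II A e)) (r * s) =
        (a - algebraMap R _ r) ⊗ₜ[R] b +
          (algebraMap R (A ⧸ II A e) r) ⊗ₜ[R] (b - algebraMap R _ s) := by
      rw [TensorProduct.sub_tmul, TensorProduct.tmul_sub, Algebra.TensorProduct.algebraMap_apply,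
        map_mul]
      have : (algebraMap R (A ⧸ II A e) r) ⊗ₜ[R] (algebraMap R (A ⧸ II A e) s) =
          (algebraMap R (A ⧸ II A e) r * algebraMap R (A ⧸ II A e) s) ⊗ₜ[R] (1 : A ⧸ II A e) := by
        rw [Algebra.algebraMap_eq_smul_one s, TensorProduct.tmul_smul, TensorProduct.smul_tmul']
        congr 1
        rw [Algebra.smul_def, Algebra.smul_def, mul_one, mul_comm]
      rw [this]
      abel
    rw [h3]
    exact (JJ R A e hε).add_mem h1 h2

lemma isIntegral_include (g : (A ⧸ II A e) →ₐ[R] (A ⧸ II A e) ⊗[R] (A ⧸ II A e)) :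
    (g.toRingHom).IsIntegral := by
  haveI : Module.Finite R (A ⧸ II A e) :=
    Module.Finite.of_surjective (qq R A e).toLinearMap Ideal.Quotient.mk_surjective
  haveI : Algebra.IsIntegral R ((A ⧸ II A e) ⊗[R] (A ⧸ II A e)) := Algebra.IsIntegral.of_finite R _
  apply RingHom.IsIntegral.tower_top (algebraMap R (A ⧸ II A e))
  have : (g.toRingHom).comp (algebraMap R (A ⧸ II A e)) =
      algebraMap R ((A ⧸ II A e) ⊗[R] (A ⧸ II A e)) := g.comp_algebraMap
  rw [this]
  exact algebraMap_isIntegral_iff.2 inferInstance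

lemma JJ_le_maximal (𝔫 : Ideal ((A ⧸ II A e) ⊗[R] (A ⧸ II A e))) [𝔫.IsMaximal] :
    JJ R A e hε ≤ 𝔫 := by
  unfold JJ
  rw [sup_le_iff]
  constructor
  · rw [Ideal.map_le_iff_le_comap]
    haveI := Ideal.isMaximal_comap_of_isIntegral_of_isMaximal' _
      (isIntegral_include R A e Algebra.TensorProduct.includeLeft) 𝔫
    have h1 := IsLocalRing.eq_maximalIdeal (inferInstance : (Ideal.comap
      ((Algebra.TensorProduct.includeLeft : (A ⧸ II A e) →ₐ[R] _).toRingHom) 𝔫).IsMaximal)
    intro x hx
    have h2 := ker_eps0_le R A e hε hx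
    rw [← h1] at h2
    exact h2
  · rw [Ideal.map_le_iff_le_comap]
    haveI := Ideal.isMaximal_comap_of_isIntegral_of_isMaximal' _
      (isIntegral_include R A e Algebra.TensorProduct.includeRight) 𝔫
    have h1 := IsLocalRing.eq_maximalIdeal (inferInstance : (Ideal.comap
      ((Algebra.TensorProduct.includeRight : (A ⧸ II A e) →ₐ[R] _).toRingHom) 𝔫).IsMaximal)
    intro x hx
    have h2 := ker_eps0_le R A e hε hx
    rw [← h1] at h2
    exact h2

lemma isUnit_iff_kapB (x : (A ⧸ II A e) ⊗[R] (A ⧸ II A e)) :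
    IsUnit x ↔ IsUnit (kapB R A e hε x) := by
  constructor
  · intro h
    exact h.map _
  · intro h
    by_contra hx
    obtain ⟨𝔫, h𝔫, hx𝔫⟩ := exists_max_ideal_of_mem_nonunits (mem_nonunits_iff.2 hx)
    haveI := h𝔫
    have h1 := JJ_le_maximal R A e hε 𝔫 (sub_mem_JJ R A e hε x)
    have h2 : algebraMap R _ (kapB R A e hε x) ∈ 𝔫 := by
      have := 𝔫.sub_mem hx𝔫 h1
      rwa [sub_sub_cancel] at this
    exact h𝔫.ne_top (Ideal.eq_top_of_isUnit_mem _ h2 (h.map _))

include hε in
lemma isLocalRing_tensor : IsLocalRing ((A ⧸ II A e) ⊗[R] (A ⧸ II A e)) := by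
  haveI : Nontrivial ((A ⧸ II A e) ⊗[R] (A ⧸ II A e)) :=
    (kapB R A e hε : _ →+* R).domain_nontrivial
  apply IsLocalRing.of_nonunits_add
  intro a b ha hb
  rw [mem_nonunits_iff, isUnit_iff_kapB R A e hε] at ha hb ⊢
  rw [map_add]
  have ha' : kapB R A e hε a ∈ maximalIdeal R := (mem_maximalIdeal _).2 (mem_nonunits_iff.2 ha)
  have hb' : kapB R A e hε b ∈ maximalIdeal R := (mem_maximalIdeal _).2 (mem_nonunits_iff.2 hb)
  exact mem_nonunits_iff.1 ((mem_maximalIdeal _).1 ((maximalIdeal R).add_mem ha' hb'))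

/-- `(q ⊗ q) ∘ Δ`. -/
def psi : A →ₐ[R] (A ⧸ II A e) ⊗[R] (A ⧸ II A e) :=
  (Algebra.TensorProduct.map (qq R A e) (qq R A e)).comp (Bialgebra.comulAlgHom R A)

lemma kapB_psi (a : A) : kapB R A e hε (psi R A e a) = Bialgebra.counitAlgHom R A a := by
  have h1 : (kapB R A e hε).toLinearMap ∘ₗ
      (Algebra.TensorProduct.map (qq R A e) (qq R A e)).toLinearMap =
      (LinearMap.mul' R R) ∘ₗ (LinearMap.lTensor R (Coalgebra.counit : A →ₗ[R] R)) ∘ₗ
        (LinearMap.rTensor A (Coalgebra.counit : A →ₗ[R] R)) := by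
    apply TensorProduct.ext'
    intro x y
    simp only [LinearMap.comp_apply, AlgHom.toLinearMap_apply, Algebra.TensorProduct.map_tmul,
      kapB_tmul, LinearMap.rTensor_tmul, LinearMap.lTensor_tmul, LinearMap.mul'_apply]
    show eps0 R A e hε (Ideal.Quotient.mk _ x) * eps0 R A e hε (Ideal.Quotient.mk _ y) = _
    rw [eps0_mk, eps0_mk]
    rfl
  have h2 := LinearMap.congr_fun h1 (Coalgebra.comul a)
  simp only [LinearMap.comp_apply, AlgHom.toLinearMap_apply] at h2
  show kapB R A e hε ((Algebra.TensorProduct.map (qq R A e) (qq R A e)) (Coalgebra.comul a)) = _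
  rw [h2, Coalgebra.rTensor_counit_comul, LinearMap.lTensor_tmul, LinearMap.mul'_apply, one_mul]
  rfl

include he hε in
lemma psi_e : psi R A e e = 1 := by
  haveI := isLocalRing_tensor R A e hε
  have hid : IsIdempotentElem (psi R A e e) := he.map _
  rcases idem_local _ hid with h | h
  · exfalso
    have := kapB_psi R A e hε e
    rw [h, map_zero, hε] at this
    exact zero_ne_one this
  · exact h

include he hε in
lemma psi_eq_zero (x : A) (hx : x ∈ II A e) : psi R A e x = 0 := by
  rw [Ideal.mem_span_singleton'] at hx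
  obtain ⟨c, rfl⟩ := hx
  rw [map_mul, map_sub, map_one, psi_e R A e he hε, sub_self, mul_zero]

include he hε in
lemma antipode_e : Ideal.Quotient.mk (II A e) (HopfAlgebra.antipode R e) = 1 := by
  have hid : IsIdempotentElem (Ideal.Quotient.mk (II A e) (HopfAlgebra.antipodeAlgHom R A e)) :=
    (he.map (HopfAlgebra.antipodeAlgHom R A)).map _
  rcases idem_local _ hid with h | h
  · exfalso
    have h1 := eps0_mk R A e hε (HopfAlgebra.antipodeAlgHom R A e)
    rw [h, map_zero] at h1
    have h2 : Bialgebra.counitAlgHom R A (HopfAlgebra.antipodeAlgHom R A e) =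
        Bialgebra.counitAlgHom R A e := HopfAlgebra.counit_antipode e
    rw [h2, hε] at h1
    exact zero_ne_one h1
  · exact h

include he hε in
theorem isHopfIdeal : (II A e).IsHopfIdeal R := by
  have hco : ((II A e).restrictScalars R).IsCoideal := by
    refine ⟨?_, ?_⟩
    · intro x hx
      exact counit_eq_zero_of_mem R A e hε x hx
    · intro x hx
      let θ := Submodule.Quotient.restrictScalarsEquiv R (II A e)
      have key : (TensorProduct.congr θ θ).toLinearMap ∘ₗ
          TensorProduct.map ((II A e).restrictScalars R).mkQ ((II A e).restrictScalars R).mkQ =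
          (Algebra.TensorProduct.map (qq R A e) (qq R A e)).toLinearMap := by
        apply TensorProduct.ext'
        intro a b
        simp only [LinearMap.comp_apply, TensorProduct.map_tmul, LinearEquiv.coe_coe,
          TensorProduct.congr_tmul, AlgHom.toLinearMap_apply, Algebra.TensorProduct.map_tmul]
        rfl
      apply (TensorProduct.congr θ θ).injective
      rw [map_zero]
      have h2 := LinearMap.congr_fun key (Coalgebra.comul x)
      simp only [LinearMap.comp_apply, LinearEquiv.coe_coe, AlgHom.toLinearMap_apply] at h2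
      rw [h2]
      exact psi_eq_zero R A e he hε x hx
  refine { hco with antipode_mem := ?_ }
  intro x hx
  rw [Ideal.mem_span_singleton'] at hx
  obtain ⟨c, rfl⟩ := hx
  rw [HopfAlgebra.antipode_mul_distrib]
  apply Ideal.mul_mem_left
  rw [map_sub, HopfAlgebra.antipode_one, ← Ideal.Quotient.eq, map_one]
  exact (antipode_e R A e he hε).symm

end Main

end Groth.Agent.Lib.HopfConnComp_helper3
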