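import Groth.Agent.Lib.HopfFrob_helper1
import Groth.Agent.Lib.CartierRed_helper1

/-!
# Flatness of commutative Hopf algebras over Hopf subalgebras: the main theorem
-/

set_option autoImplicit false
set_option maxHeartbeats 1000000

namespace Groth.Agent.Lib.HopfFFH1

open TensorProduct WithConv

section Desc

variable {k : Type*} [Field k] {X X' Y : Type*} [CommRing X] [CommRing X'] [CommRing Y]
  [HopfAlgebra k X] [HopfAlgebra k X'] [HopfAlgebra k Y]

/-- descend a bialgebra map along a surjective bialgebra map -/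
noncomputable def descBialg (π : X →ₐc[k] X') (hπ : Function.Surjective (π : X →ₐ[k] X'))
    (Φ : X →ₐc[k] Y) (h : RingHom.ker (π : X →ₐ[k] X') ≤ RingHom.ker (Φ : X →ₐ[k] Y)) :
    X' →ₐc[k] Y :=
  BialgHom.ofAlgHom (liftSurj (π : X →ₐ[k] X') hπ (Φ : X →ₐ[k] Y) h)
    (by
      apply algHom_cancel_right hπ
      rw [AlgHom.comp_assoc, liftSurj_comp, BialgHom.counitAlgHom_comp,
        BialgHom.counitAlgHom_comp])
    (by
      apply algHom_cancel_right hπ
      rw [AlgHom.comp_assoc, ← BialgHom.map_comp_comulAlgHom, ← AlgHom.comp_assoc,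
        ← Algebra.TensorProduct.map_comp, liftSurj_comp, BialgHom.map_comp_comulAlgHom,
        AlgHom.comp_assoc, liftSurj_comp])

theorem descBialg_comp (π : X →ₐc[k] X') (hπ : Function.Surjective (π : X →ₐ[k] X'))
    (Φ : X →ₐc[k] Y) (h : RingHom.ker (π : X →ₐ[k] X') ≤ RingHom.ker (Φ : X →ₐ[k] Y)) :
    ((descBialg π hπ Φ h : X' →ₐc[k] Y) : X' →ₐ[k] Y).comp (π : X →ₐ[k] X') =
      (Φ : X →ₐ[k] Y) :=
  liftSurj_comp _ hπ _ h

theorem ker_mkBialgHom (J : Ideal X) [J.IsHopfIdeal k] :
    RingHom.ker ((Bialgebra.Quotient.mkBialgHom J : X →ₐc[k] X ⧸ J) : X →ₐ[k] X ⧸ J) = J := by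
  ext x
  rw [RingHom.mem_ker]
  exact Ideal.Quotient.eq_zero_iff_mem

theorem mkBialgHom_surjective (J : Ideal X) [J.IsHopfIdeal k] :
    Function.Surjective ((Bialgebra.Quotient.mkBialgHom J : X →ₐc[k] X ⧸ J) : X →ₐ[k] X ⧸ J) :=
  Ideal.Quotient.mk_surjective

end Desc

section D

variable {k : Type*} [Field k] {R A B A' B' : Type*} [CommRing R] [CommRing A] [CommRing B]
  [CommRing A'] [CommRing B'] [HopfAlgebra k R] [HopfAlgebra k A] [HopfAlgebra k B]
  [HopfAlgebra k A'] [HopfAlgebra k B']
  [Algebra R A] [Algebra R B] [IsScalarTower k R A] [IsScalarTower k R B]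
  (g : R →ₐc[k] A) (f : A →ₐc[k] B)
  (hg : ∀ r, algebraMap R A r = g r) (hfg : ∀ r, algebraMap R B r = f (g r))
  (πA : A →ₐc[k] A') (hπA : Function.Surjective (πA : A →ₐ[k] A'))
  (hkerA : RingHom.ker (πA : A →ₐ[k] A') = augIdeal g)
  (πB : B →ₐc[k] B') (hπB : Function.Surjective (πB : B →ₐ[k] B'))
  (hkerB : RingHom.ker (πB : B →ₐ[k] B') = augIdeal (f.comp g))
  (f' : A' →ₐc[k] B')
  (hf' : (f' : A' →ₐ[k] B').comp (πA : A →ₐ[k] A') = (πB : B →ₐ[k] B').comp (f : A →ₐ[k] B))

include hf' in
theorem map_comp_uX :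
    (Algebra.TensorProduct.map (f' : A' →ₐ[k] B') (AlgHom.id k B)).comp (uX f πA) =
      (uX (BialgHom.id k B) πB).comp (f : A →ₐ[k] B) := by
  rw [uX, uX, comp_cm, cm_comp]
  congr 1
  · rw [← AlgHom.comp_assoc, Algebra.TensorProduct.map_comp_includeLeft, AlgHom.comp_assoc, hf',
      AlgHom.comp_assoc]
  · rw [← AlgHom.comp_assoc, Algebra.TensorProduct.map_comp_includeRight, AlgHom.comp_assoc]
    rfl

include hkerA in
theorem hπg_A : (πA : A →ₐ[k] A').comp (g : R →ₐ[k] A) = c1 := by
  rw [comp_eq_c1_iff, hkerA]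

include hkerB in
theorem hπg_B : (πB : B →ₐ[k] B').comp ((f.comp g : R →ₐc[k] B) : R →ₐ[k] B) = c1 := by
  rw [comp_eq_c1_iff, hkerB]

include hg hfg hπA hkerA hπB hkerB hf' in
/-- **Descent step**: if `A/R⁺A → B/R⁺B` is flat and `B` is flat over `R`, then `B` is flat
over `A`. -/
theorem flat_of_quot_flat [Module.Flat R B]
    (hflat' : (f' : A' →ₐ[k] B').toRingHom.Flat) : (f : A →ₐ[k] B).toRingHom.Flat := by
  haveI : Nontrivial B' := nontrivial_of_hopf k B'
  haveI : Nontrivial B := nontrivial_of_hopf k B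
  apply flat_of_flat_comp f (uX (BialgHom.id k B) πB)
  rw [← map_comp_uX f πA πB f' hf']
  have h1 : (uX f πA).toRingHom.Flat := by
    have e : uX f πA = (fwdk g f πA hg hfg (hπg_A g πA hkerA)).comp (tL (R := R) (B := B)) :=
      (fwdk_comp_tL g f πA hg hfg (hπg_A g πA hkerA)).symm
    rw [e]
    refine RingHom.Flat.comp ?_
      (.of_bijective (fwdk_bijective g f πA hg hfg (hπg_A g πA hkerA) hπA hkerA))
    show (algebraMap A (A ⊗[R] B)).Flat
    rw [RingHom.flat_algebraMap_iff]
    infer_instance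
  have h2 : (Algebra.TensorProduct.map (f' : A' →ₐ[k] B') (AlgHom.id k B)).toRingHom.Flat :=
    RingHom.Flat.tensorProductMap hflat' (RingHom.Flat.id B)
  exact RingHom.Flat.comp h1 h2

include hg hfg hπA hkerA hπB hkerB hf' in
theorem injective_quot [Module.Flat R B] (hf : Function.Injective f) :
    Function.Injective f' := by
  let fR : A →ₐ[R] B := { (f : A →ₐ[k] B).toRingHom with
    commutes' := fun r => by
      show f (algebraMap R A r) = algebraMap R B r
      rw [hg, hfg] }
  have hfRinj : Function.Injective (Algebra.TensorProduct.map fR (AlgHom.id R B)) :=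
    Module.Flat.rTensor_preserves_injective_linearMap (M := B) fR.toLinearMap hf
  have hgB : ∀ r, algebraMap R B r = (f.comp g) r := hfg
  have hfgB : ∀ r, algebraMap R B r = (BialgHom.id k B) ((f.comp g) r) := hfg
  have key : ∀ t : A ⊗[R] B,
      (Algebra.TensorProduct.map (f' : A' →ₐ[k] B') (AlgHom.id k B))
        (fwdk g f πA hg hfg (hπg_A g πA hkerA) t) =
      fwdk (f.comp g) (BialgHom.id k B) πB hgB hfgB (hπg_B g f πB hkerB)
        (Algebra.TensorProduct.map fR (AlgHom.id R B) t) := by
    intro t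
    induction t using TensorProduct.induction_on with
    | zero => simp
    | tmul a b =>
      rw [fwdk_tmul, map_mul]
      have h1 := AlgHom.congr_fun (map_comp_uX f πA πB f' hf') a
      simp only [AlgHom.comp_apply] at h1
      rw [h1]
      show _ = fwdk (f.comp g) (BialgHom.id k B) πB hgB hfgB (hπg_B g f πB hkerB)
        (f a ⊗ₜ[R] b)
      rw [fwdk_tmul]
      congr 1
      simp
    | add x y hx hy => rw [map_add, map_add, map_add, map_add, hx, hy]
  have hmapinj : Function.Injective
      (Algebra.TensorProduct.map (f' : A' →ₐ[k] B') (AlgHom.id k B)) := by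
    rw [injective_iff_map_eq_zero]
    intro y hy
    obtain ⟨t, rfl⟩ := (fwdk_bijective g f πA hg hfg (hπg_A g πA hkerA) hπA hkerA).surjective y
    rw [key] at hy
    have h1 := (fwdk_bijective (f.comp g) (BialgHom.id k B) πB hgB hfgB
      (hπg_B g f πB hkerB) hπB hkerB).injective (hy.trans (map_zero _).symm)
    have h2 := hfRinj (h1.trans (map_zero _).symm)
    rw [h2, map_zero]
  intro x y hxy
  haveI : Nontrivial B := nontrivial_of_hopf k B
  have hincl : Function.Injective
      (Algebra.TensorProduct.includeLeft : A' →ₐ[k] A' ⊗[k] B) :=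
    Algebra.TensorProduct.includeLeft_injective (S := k) (algebraMap k B).injective
  apply hincl
  apply hmapinj
  show (Algebra.TensorProduct.map (f' : A' →ₐ[k] B') (AlgHom.id k B)) (x ⊗ₜ[k] 1) =
    (Algebra.TensorProduct.map (f' : A' →ₐ[k] B') (AlgHom.id k B)) (y ⊗ₜ[k] 1)
  simp only [Algebra.TensorProduct.map_tmul]
  have : (f' : A' →ₐ[k] B') x = (f' : A' →ₐ[k] B') y := hxy
  rw [this]

end D

section Main

variable {k : Type*} [Field k] {A B : Type*} [CommRing A] [CommRing B]
  [HopfAlgebra k A] [HopfAlgebra k B]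

theorem mem_augIdeal_comp {R : Type*} [CommRing R] [HopfAlgebra k R] (g : R →ₐc[k] A)
    (f : A →ₐc[k] B) {x : A} (hx : x ∈ augIdeal g) : f x ∈ augIdeal (f.comp g) := by
  have h : augIdeal g ≤ Ideal.comap (f : A →ₐ[k] B) (augIdeal (f.comp g)) := by
    rw [augIdeal, Ideal.map_le_iff_le_comap]
    intro r hr
    rw [Ideal.mem_comap, Ideal.mem_comap]
    exact Ideal.mem_map_of_mem ((f.comp g : R →ₐc[k] B) : R →ₐ[k] B) hr
  exact h hx

/-- Reduction step: `R → A → B` with `R` reduced and `A/R⁺A` infinitesimal. -/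
theorem flat_of_reduced_sub {R : Type*} [CommRing R] [HopfAlgebra k R] [IsReduced R]
    [Algebra R A] [IsScalarTower k R A] (g : R →ₐc[k] A) (hg : ∀ r, algebraMap R A r = g r)
    (hginj : Function.Injective g) (f : A →ₐc[k] B) (hf : Function.Injective f) (N : ℕ)
    (hN : (RingHom.ker (Bialgebra.counitAlgHom k (A ⧸ augIdeal g))) ^ N = ⊥) :
    (f : A →ₐ[k] B).toRingHom.Flat := by
  have hfginj : Function.Injective (f.comp g) := hf.comp hginj
  have hRB : ((f.comp g : R →ₐc[k] B) : R →ₐ[k] B).toRingHom.Flat :=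
    flat_of_isReduced _ hfginj
  letI algRB : Algebra R B := ((f.comp g : R →ₐc[k] B) : R →ₐ[k] B).toRingHom.toAlgebra
  haveI : IsScalarTower k R B :=
    IsScalarTower.of_algebraMap_eq (fun c =>
      (((f.comp g : R →ₐc[k] B) : R →ₐ[k] B).commutes c).symm)
  haveI : Module.Flat R B := hRB
  have hle : RingHom.ker ((Bialgebra.Quotient.mkBialgHom (R := k) (augIdeal g) :
        A →ₐc[k] A ⧸ augIdeal g) : A →ₐ[k] A ⧸ augIdeal g) ≤
      RingHom.ker ((((Bialgebra.Quotient.mkBialgHom (R := k) (augIdeal (f.comp g))).comp f :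
          A →ₐc[k] B ⧸ augIdeal (f.comp g)) : A →ₐ[k] B ⧸ augIdeal (f.comp g))) := by
    rw [ker_mkBialgHom]
    intro x hx
    rw [RingHom.mem_ker]
    show Ideal.Quotient.mk (augIdeal (f.comp g)) (f x) = 0
    rw [Ideal.Quotient.eq_zero_iff_mem]
    exact mem_augIdeal_comp g f hx
  have hfg : ∀ r : R, algebraMap R B r = f (g r) := fun r => rfl
  have hf' := descBialg_comp (Bialgebra.Quotient.mkBialgHom (R := k) (augIdeal g))
      (mkBialgHom_surjective (k := k) _)
      ((Bialgebra.Quotient.mkBialgHom (R := k) (augIdeal (f.comp g))).comp f) hle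
  have hf'inj := injective_quot g f hg hfg
    (Bialgebra.Quotient.mkBialgHom (R := k) (augIdeal g))
    (mkBialgHom_surjective (k := k) _) (ker_mkBialgHom (k := k) _)
    (Bialgebra.Quotient.mkBialgHom (R := k) (augIdeal (f.comp g)))
    (mkBialgHom_surjective (k := k) _) (ker_mkBialgHom (k := k) _) _ hf' hf
  have hf'flat := flat_of_nilpotent _
    (Bialgebra.Quotient.mkBialgHom (R := k) (augIdeal (descBialg (Bialgebra.Quotient.mkBialgHom
      (R := k) (augIdeal g)) (mkBialgHom_surjective (k := k) _)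
      ((Bialgebra.Quotient.mkBialgHom (R := k) (augIdeal (f.comp g))).comp f) hle)))
    hf'inj (mkBialgHom_surjective (k := k) _) (ker_mkBialgHom (k := k) _) N hN
  exact flat_of_quot_flat g f hg hfg
    (Bialgebra.Quotient.mkBialgHom (R := k) (augIdeal g))
    (mkBialgHom_surjective (k := k) _) (ker_mkBialgHom (k := k) _)
    (Bialgebra.Quotient.mkBialgHom (R := k) (augIdeal (f.comp g)))
    (mkBialgHom_surjective (k := k) _) (ker_mkBialgHom (k := k) _) _ hf' hf'flat

/-- Perfect base field of characteristic `p`, `A` finitely generated. -/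
theorem flat_of_perfect (p : ℕ) [Fact p.Prime] [CharP k p] [PerfectRing k p]
    [Algebra.FiniteType k A] (f : A →ₐc[k] B) (hf : Function.Injective f) :
    (f : A →ₐ[k] B).toRingHom.Flat := by
  haveI : Nontrivial A := nontrivial_of_hopf k A
  haveI : CharP A p := charP_of_injective_algebraMap (algebraMap k A).injective p
  haveI : IsNoetherianRing A := Algebra.FiniteType.isNoetherianRing k A
  obtain ⟨n, hred⟩ := exists_isReduced_frobSub (k := k) (A := A) p
  obtain ⟨N, hN⟩ := exists_pow_ker_counit_quot (k := k) (A := A) p n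
  exact flat_of_reduced_sub (subVal (frobSub (k := k) (A := A) p n)) (fun r => rfl)
    Subtype.val_injective f hf N hN

/-- Any base field of characteristic `p`, `A` finitely generated. -/
theorem flat_of_charP (p : ℕ) [Fact p.Prime] [CharP k p]
    [Algebra.FiniteType k A] (f : A →ₐc[k] B) (hf : Function.Injective f) :
    (f : A →ₐ[k] B).toRingHom.Flat := by
  haveI : CharP (AlgebraicClosure k) p :=
    charP_of_injective_algebraMap (algebraMap k (AlgebraicClosure k)).injective p
  have hfK : Function.Injective (Bialgebra.TensorProduct.map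
      (BialgHom.id (AlgebraicClosure k) (AlgebraicClosure k)) f) :=
    Module.Flat.lTensor_preserves_injective_linearMap (M := AlgebraicClosure k)
      (f : A →ₐ[k] B).toLinearMap hf
  have hflat := flat_of_perfect p (Bialgebra.TensorProduct.map
      (BialgHom.id (AlgebraicClosure k) (AlgebraicClosure k)) f) hfK
  refine flat_of_comp_ff
    (g := (Algebra.TensorProduct.includeRight : B →ₐ[k] AlgebraicClosure k ⊗[k] B).toRingHom)
    ff_incR ?_
  have e : (Algebra.TensorProduct.includeRight :
        B →ₐ[k] AlgebraicClosure k ⊗[k] B).toRingHom.comp (f : A →ₐ[k] B).toRingHom =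
      ((Bialgebra.TensorProduct.map
        (BialgHom.id (AlgebraicClosure k) (AlgebraicClosure k)) f :
          AlgebraicClosure k ⊗[k] A →ₐc[AlgebraicClosure k] AlgebraicClosure k ⊗[k] B) :
          AlgebraicClosure k ⊗[k] A →ₐ[AlgebraicClosure k]
            AlgebraicClosure k ⊗[k] B).toRingHom.comp
        (Algebra.TensorProduct.includeRight :
          A →ₐ[k] AlgebraicClosure k ⊗[k] A).toRingHom := by
    ext a
    simp
  rw [e]
  exact RingHom.Flat.comp flat_incR hflat

theorem flat_of_charZero [CharZero k] [Algebra.FiniteType k A] (f : A →ₐc[k] B)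
    (hf : Function.Injective f) : (f : A →ₐ[k] B).toRingHom.Flat := by
  haveI : IsReduced A := CartierRedH1.isReduced_charZero (k := k) (A := A)
  exact flat_of_isReduced f hf

/-- **Main theorem** (finitely generated source): an injective bialgebra map of commutative Hopf
algebras over a field is flat. -/
theorem flat_of_finiteType [Algebra.FiniteType k A] (f : A →ₐc[k] B)
    (hf : Function.Injective f) : (f : A →ₐ[k] B).toRingHom.Flat := by
  obtain ⟨p, hp⟩ := CharP.exists k
  rcases CharP.char_is_prime_or_zero k p with hpp | rfl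
  · haveI := Fact.mk hpp
    exact flat_of_charP p f hf
  · haveI : CharZero k := CharP.charP_to_charZero k
    exact flat_of_charZero f hf

theorem faithfullyFlat_of_finiteType [Algebra.FiniteType k A] (f : A →ₐc[k] B)
    (hf : Function.Injective f) : (f : A →ₐ[k] B).toRingHom.FaithfullyFlat :=
  faithfullyFlat_of_flat f hf (flat_of_finiteType f hf)

end Main

end Groth.Agent.Lib.HopfFFH1
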