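import Groth.Agent.Lib.HopfFFGen_helper1

/-!
# Universe-polymorphic f.g. Hopf subalgebras; Hopf domains of finite type (helper1)

* `exists_fg_hopfSub_poly`: universe polymorphic version of helper9's `exists_fg_hopfSubalgebra`.
* `finiteType_iff_fracField_fg`: a commutative Hopf domain over a field is of finite type iff its
  fraction field is a finitely generated field extension.

APPEND-ONLY once landed.
-/

set_option autoImplicit false
set_option maxHeartbeats 1000000

universe u v

namespace Groth.Agent.Lib.HopfFFH1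

open TensorProduct
open Groth.Agent.Lib.ComodDual_helper9 Groth.Agent.Lib.Comod_helper9
  Groth.Agent.Lib.Subcoalg_helper9 Groth.Agent.Lib.CoeffSpace_helper9
  Groth.Agent.Lib.Antipode_helper9 Groth.Agent.Lib.HopfSub_helper9

section Poly

variable {k : Type u} [Field k] {A : Type v} [CommRing A] [HopfAlgebra k A]

theorem exists_fg_hopfSub_poly (x : A) :
    ∃ B : Subalgebra k A, x ∈ B ∧ B.FG ∧ IsHopfSub B := by
  classical
  obtain ⟨E, hEfin, hxE, hE⟩ := exists_finite_subcomod_mem (k := k) (C := A)
    (c := HopfRep.Comod.regular k A) x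
  let cE : HopfRep.Comod k A E := ComodSub.Comod.restr (HopfRep.Comod.regular k A) E hE
  let D : Submodule k A := coeffSpaceSub E hE
  have hDsub : IsSubcoalg D := @isSubcoalg_coeffSpace k _ A _ _ _ E _ _ cE
  have hDfin : Module.Finite k D := @finite_coeffSpace k _ A _ _ _ E _ _ cE hEfin
  have hxD : x ∈ D := by
    have h := evl_comul_mem_coeffSpaceSub E hE (CoalgebraStruct.counit (R := k) (A := A)) x hxE
    rwa [evl_counit_comul] at h
  let S : A →ₗ[k] A := HopfAlgebraStruct.antipode k (A := A)
  have hSS : ∀ a, S (S a) = a := Groth.Agent.Lib.LinRed_helper9.antipode_antipode k A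
  let D' : Submodule k A := D ⊔ D.map S
  haveI : Module.Finite k (D.map S) := Module.Finite.map D S
  haveI : Module.Finite k D' := Submodule.finite_sup D (D.map S)
  let B : Subalgebra k A := Algebra.adjoin k (D' : Set A)
  have hD'B : ∀ d ∈ D', d ∈ B := fun d hd => Algebra.subset_adjoin hd
  have hDB : ∀ d ∈ D, d ∈ B := fun d hd => hD'B d (Submodule.mem_sup_left hd)
  have hSDB : ∀ d ∈ D, S d ∈ B := fun d hd =>
    hD'B _ (Submodule.mem_sup_right (Submodule.mem_map_of_mem hd))
  refine ⟨B, hDB x hxD, ?_, ⟨?_, ?_⟩⟩
  · -- finitely generated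
    obtain ⟨s, hs⟩ := (Module.Finite.iff_fg (N := D')).mp inferInstance
    refine ⟨s, ?_⟩
    show Algebra.adjoin k (s : Set A) = Algebra.adjoin k (D' : Set A)
    rw [← hs, Algebra.adjoin_span]
  · -- closed under comultiplication
    let T : Subalgebra k (A ⊗[k] A) := (Algebra.TensorProduct.map B.val B.val).range
    let B₁ : Subalgebra k A := T.comap (Bialgebra.comulAlgHom k A)
    have hle : B ≤ B₁ := by
      apply Algebra.adjoin_le
      intro d hd
      obtain ⟨d1, hd1, d2', hd2', rfl⟩ := Submodule.mem_sup.mp hd
      obtain ⟨d2, hd2, rfl⟩ := hd2'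
      show Bialgebra.comulAlgHom k A (d1 + S d2) ∈ T
      rw [map_add]
      refine T.add_mem ?_ ?_
      · rw [mem_algRange_iff]
        obtain ⟨y, hy⟩ := hDsub d1 hd1
        show CoalgebraStruct.comul (R := k) d1 ∈ _
        rw [← hy]
        exact map_mem_range_val B _ _ (fun v => hDB _ v.2) (fun v => hDB _ v.2) y
      · rw [mem_algRange_iff]
        obtain ⟨y, hy⟩ := hDsub d2 hd2
        show CoalgebraStruct.comul (R := k) (HopfAlgebraStruct.antipode k d2) ∈ _
        rw [comul_antipode, ← hy, ← TensorProduct.map_comm, ← LinearMap.comp_apply,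
          ← TensorProduct.map_comp]
        refine map_mem_range_val B _ _ ?_ ?_ _
        · intro v
          exact hSDB _ v.2
        · intro v
          exact hSDB _ v.2
    intro b hb
    exact hle hb
  · -- closed under the antipode
    let B₂ : Subalgebra k A := B.comap (HopfAlgebra.antipodeAlgHom k A)
    have hle : B ≤ B₂ := by
      apply Algebra.adjoin_le
      intro d hd
      obtain ⟨d1, hd1, d2', hd2', rfl⟩ := Submodule.mem_sup.mp hd
      obtain ⟨d2, hd2, rfl⟩ := hd2'
      show S (d1 + S d2) ∈ B
      rw [map_add, hSS]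
      exact B.add_mem (hSDB d1 hd1) (hDB d2 hd2)
    intro b hb
    exact hle hb

theorem exists_fg_hopfSub_finset_poly (s : Finset A) :
    ∃ S₀ : Subalgebra k A, IsHopfSub S₀ ∧ S₀.FG ∧ ∀ x ∈ s, x ∈ S₀ := by
  classical
  induction s using Finset.induction_on with
  | empty =>
    obtain ⟨S, -, hfg, hS⟩ := exists_fg_hopfSub_poly (k := k) (0 : A)
    exact ⟨S, hS, hfg, by simp⟩
  | insert x s hx ih =>
    obtain ⟨S₁, h1, hfg1, hs⟩ := ih
    obtain ⟨S₂, hx2, hfg2, h2⟩ := exists_fg_hopfSub_poly (k := k) x
    refine ⟨S₁ ⊔ S₂, h1.sup h2, hfg1.sup hfg2, ?_⟩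
    intro y hy
    rcases Finset.mem_insert.mp hy with rfl | hy
    · exact (le_sup_right : S₂ ≤ S₁ ⊔ S₂) hx2
    · exact (le_sup_left : S₁ ≤ S₁ ⊔ S₂) (hs y hy)

end Poly

section Frac

theorem finiteType_iff_fracField_fg (k : Type u) (B : Type v) [Field k] [CommRing B] [IsDomain B]
    [HopfAlgebra k B] :
    Algebra.FiniteType k B ↔
      ∃ s : Finset (FractionRing B), IntermediateField.adjoin k (s : Set (FractionRing B)) = ⊤ := by
  classical
  constructor
  · intro h
    obtain ⟨s, hs⟩ := h.out
    refine ⟨s.image (algebraMap B (FractionRing B)), ?_⟩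
    rw [eq_top_iff]
    intro z _
    obtain ⟨a, b, hb, rfl⟩ := IsFractionRing.div_surjective (A := B) z
    have hmem : ∀ c : B, algebraMap B (FractionRing B) c ∈
        IntermediateField.adjoin k
          (↑(s.image (algebraMap B (FractionRing B))) : Set (FractionRing B)) := by
      intro c
      have hc : c ∈ Algebra.adjoin k (s : Set B) := by rw [hs]; trivial
      induction hc using Algebra.adjoin_induction with
      | mem x hx =>
        refine IntermediateField.subset_adjoin _ _ ?_
        simp only [Finset.coe_image, Set.mem_image, Finset.mem_coe]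
        exact ⟨x, hx, rfl⟩
      | algebraMap r =>
        rw [← IsScalarTower.algebraMap_apply]
        exact IntermediateField.algebraMap_mem _ r
      | add x y _ _ hx hy => rw [map_add]; exact add_mem hx hy
      | mul x y _ _ hx hy => rw [map_mul]; exact mul_mem hx hy
    exact div_mem (hmem a) (hmem b)
  · rintro ⟨s, hs⟩
    have hfrac : ∀ z : FractionRing B, ∃ x y : B, y ∈ nonZeroDivisors B ∧
        algebraMap B (FractionRing B) x / algebraMap B (FractionRing B) y = z :=
      IsFractionRing.div_surjective (A := B)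
    choose num den hden hnd using hfrac
    obtain ⟨S₀, hS₀, hfg, hmem⟩ :=
      exists_fg_hopfSub_finset_poly (k := k) (s.image num ∪ s.image den)
    haveI := hS₀
    haveI : Algebra.FiniteType k ↥S₀ := (Subalgebra.fg_iff_finiteType S₀).mp hfg
    have hff : Module.FaithfullyFlat ↥S₀ B := by
      have h := faithfullyFlat_of_finiteType (subVal S₀) Subtype.val_injective
      exact h
    let ι : ↥S₀ →ₐ[k] FractionRing B :=
      (IsScalarTower.toAlgHom k B (FractionRing B)).comp S₀.val
    have hι : Function.Injective ι :=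
      (IsFractionRing.injective B (FractionRing B)).comp Subtype.val_injective
    let L : FractionRing ↥S₀ →ₐ[k] FractionRing B :=
      IsFractionRing.liftAlgHom (K := FractionRing ↥S₀) (g := ι) hι
    have hL : ∀ x : ↥S₀, L (algebraMap ↥S₀ (FractionRing ↥S₀) x) =
        algebraMap B (FractionRing B) (x : B) := fun x =>
      IsFractionRing.lift_algebraMap hι x
    have hF : L.fieldRange = ⊤ := by
      rw [eq_top_iff, ← hs, IntermediateField.adjoin_le_iff]
      intro z hz
      have hz' : z ∈ s := hz
      have hn : num z ∈ S₀ :=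
        hmem _ (Finset.mem_union_left _ (Finset.mem_image_of_mem _ hz'))
      have hd : den z ∈ S₀ :=
        hmem _ (Finset.mem_union_right _ (Finset.mem_image_of_mem _ hz'))
      have hLz : L (algebraMap _ _ (⟨num z, hn⟩ : ↥S₀) / algebraMap _ _ (⟨den z, hd⟩ : ↥S₀)) = z := by
        rw [map_div₀, hL, hL]
        exact hnd z
      exact ⟨_, hLz⟩
    have htop : S₀ = ⊤ := by
      rw [eq_top_iff]
      intro b _
      have hb : algebraMap B (FractionRing B) b ∈ L.fieldRange := by rw [hF]; trivial
      obtain ⟨w, hw⟩ := hb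
      replace hw : L w = algebraMap B (FractionRing B) b := hw
      obtain ⟨x, y, hy, rfl⟩ := IsFractionRing.div_surjective (A := ↥S₀) w
      rw [map_div₀, hL, hL] at hw
      have hy0' : y ≠ 0 := nonZeroDivisors.ne_zero hy
      have hy0 : (y : B) ≠ 0 := fun h => hy0' (Subtype.ext h)
      have hy0'' : algebraMap B (FractionRing B) (y : B) ≠ 0 := fun h =>
        hy0 ((IsFractionRing.injective B (FractionRing B)) (by rw [h, map_zero]))
      have hxy : (x : B) = b * (y : B) := by
        apply IsFractionRing.injective B (FractionRing B)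
        rw [map_mul, ← hw, div_mul_cancel₀ _ hy0'']
      have hcomap := Ideal.comap_map_eq_self_of_faithfullyFlat (A := ↥S₀) (B := B)
        (Ideal.span {y})
      have hx : x ∈ Ideal.span ({y} : Set ↥S₀) := by
        rw [← hcomap, Ideal.mem_comap, Ideal.map_span, Set.image_singleton,
          Ideal.mem_span_singleton']
        exact ⟨b, hxy.symm⟩
      obtain ⟨b', hb'⟩ := Ideal.mem_span_singleton'.mp hx
      have hbb : b = (b' : B) := by
        have h1 : (b' : B) * (y : B) = b * (y : B) := by
          rw [← hxy, ← hb']; rfl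
        exact (mul_right_cancel₀ hy0 h1).symm
      rw [hbb]
      exact b'.2
    refine ⟨?_⟩
    rw [← htop]
    exact hfg

end Frac

end Groth.Agent.Lib.HopfFFH1
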