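import Groth.Agent.Lib.HopfPts_helper1

/-!
# Flatness of Hopf algebra maps: translation principle, reduced case, flat ⇒ faithfully flat
-/

set_option autoImplicit false
set_option maxHeartbeats 1000000

namespace Groth.Agent.Lib.HopfFFH1

open TensorProduct WithConv

section Descent

variable {A B C : Type*} [CommRing A] [CommRing B] [CommRing C]

theorem flat_of_comp_ff_module [Algebra A B] [Algebra B C] [Algebra A C] [IsScalarTower A B C]
    [Module.FaithfullyFlat B C] [Module.Flat A C] : Module.Flat A B := by
  rw [Module.Flat.iff_lTensor_preserves_injective_linearMap]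
  intro N P _ _ _ _ l hl
  have hC : Function.Injective (l.lTensor C) :=
    Module.Flat.lTensor_preserves_injective_linearMap l hl
  have h1 : Function.Injective ((l.baseChange B).lTensor C) := by
    let eN := TensorProduct.AlgebraTensorModule.cancelBaseChange A B C C N
    let eP := TensorProduct.AlgebraTensorModule.cancelBaseChange A B C C P
    have key : ∀ x, eP ((l.baseChange B).lTensor C x) = (l.lTensor C) (eN x) := by
      intro x
      induction x using TensorProduct.induction_on with
      | zero => simp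
      | tmul c y =>
        induction y using TensorProduct.induction_on with
        | zero => simp
        | tmul b n => simp [eN, eP]
        | add y z hy hz => simp only [tmul_add, map_add, hy, hz]
      | add x y hx hy => simp only [map_add, hx, hy]
    intro x y hxy
    apply eN.injective
    apply hC
    rw [← key, ← key, hxy]
  have h2 : Function.Injective (l.baseChange B) :=
    (Module.FaithfullyFlat.lTensor_injective_iff_injective B C _).mp h1
  exact fun x y h => h2 h

theorem flat_of_comp_ff {f : A →+* B} {g : B →+* C} (hg : g.FaithfullyFlat)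
    (h : (g.comp f).Flat) : f.Flat := by
  letI := f.toAlgebra
  letI := g.toAlgebra
  letI := (g.comp f).toAlgebra
  haveI : IsScalarTower A B C := IsScalarTower.of_algebraMap_eq' rfl
  haveI : Module.FaithfullyFlat B C := hg
  haveI : Module.Flat A C := h
  exact flat_of_comp_ff_module (A := A) (B := B) (C := C)

theorem ff_comp {f : A →+* B} {g : B →+* C} (hf : f.FaithfullyFlat) (hg : g.FaithfullyFlat) :
    (g.comp f).FaithfullyFlat := by
  letI := f.toAlgebra
  letI := g.toAlgebra
  letI := (g.comp f).toAlgebra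
  haveI : IsScalarTower A B C := IsScalarTower.of_algebraMap_eq' rfl
  haveI : Module.FaithfullyFlat A B := hf
  haveI : Module.FaithfullyFlat B C := hg
  exact Module.FaithfullyFlat.trans A B C

end Descent

section Incl

variable {k : Type*} [CommRing k] {A B : Type*} [CommRing A] [CommRing B]
  [Algebra k A] [Algebra k B]

theorem flat_incL [Module.Flat k B] :
    (Algebra.TensorProduct.includeLeft : A →ₐ[k] A ⊗[k] B).toRingHom.Flat := by
  have : (Algebra.TensorProduct.includeLeft : A →ₐ[k] A ⊗[k] B).toRingHom =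
      algebraMap A (A ⊗[k] B) := rfl
  rw [this, RingHom.flat_algebraMap_iff]
  infer_instance

theorem ff_incL [Module.FaithfullyFlat k B] :
    (Algebra.TensorProduct.includeLeft : A →ₐ[k] A ⊗[k] B).toRingHom.FaithfullyFlat := by
  have : (Algebra.TensorProduct.includeLeft : A →ₐ[k] A ⊗[k] B).toRingHom =
      algebraMap A (A ⊗[k] B) := rfl
  rw [this, RingHom.faithfullyFlat_algebraMap_iff]
  infer_instance

theorem flat_incR [Module.Flat k A] :
    (Algebra.TensorProduct.includeRight : B →ₐ[k] A ⊗[k] B).toRingHom.Flat := by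
  have : (Algebra.TensorProduct.includeRight : B →ₐ[k] A ⊗[k] B).toRingHom =
      ((Algebra.TensorProduct.comm k B A : B ⊗[k] A →ₐ[k] A ⊗[k] B).toRingHom).comp
        (Algebra.TensorProduct.includeLeft : B →ₐ[k] B ⊗[k] A).toRingHom := rfl
  rw [this]
  exact RingHom.Flat.comp flat_incL (.of_bijective (Algebra.TensorProduct.comm k B A).bijective)

theorem ff_incR [Module.FaithfullyFlat k A] :
    (Algebra.TensorProduct.includeRight : B →ₐ[k] A ⊗[k] B).toRingHom.FaithfullyFlat := by
  have : (Algebra.TensorProduct.includeRight : B →ₐ[k] A ⊗[k] B).toRingHom =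
      ((Algebra.TensorProduct.comm k B A : B ⊗[k] A →ₐ[k] A ⊗[k] B).toRingHom).comp
        (Algebra.TensorProduct.includeLeft : B →ₐ[k] B ⊗[k] A).toRingHom := rfl
  rw [this]
  exact ff_comp ff_incL (.of_bijective (Algebra.TensorProduct.comm k B A).bijective)

end Incl

section T1

variable {k : Type*} [Field k] {A B P : Type*} [CommRing A] [CommRing B] [CommRing P]
  [HopfAlgebra k A] [HopfAlgebra k B] [Algebra k P]

/-- **Translation principle.** If the composite of `f : A → B` with some algebra map `u : B → P`
to a nonzero algebra is flat, then `f` is flat. -/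
theorem flat_of_flat_comp [Nontrivial P] (f : A →ₐc[k] B) (u : B →ₐ[k] P)
    (h : (u.comp (f : A →ₐ[k] B)).toRingHom.Flat) : (f : A →ₐ[k] B).toRingHom.Flat := by
  set α : B →ₐ[k] B ⊗[k] P :=
    cm Algebra.TensorProduct.includeLeft (Algebra.TensorProduct.includeRight.comp u) with hα
  have hαff : α.toRingHom.FaithfullyFlat := by
    have e : α = (twistL u).comp Algebra.TensorProduct.includeLeft := (twistL_comp_incL u).symm
    rw [e]
    exact ff_comp ff_incL (.of_bijective (twistL_bijective u))
  apply flat_of_comp_ff hαff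
  set lam : A →ₐ[k] B ⊗[k] A :=
    cm (Algebra.TensorProduct.includeLeft.comp (f : A →ₐ[k] B))
      Algebra.TensorProduct.includeRight with hlam
  have hlamflat : lam.toRingHom.Flat := by
    have e : lam = (twistR (f : A →ₐ[k] B)).comp Algebra.TensorProduct.includeRight :=
      (twistR_comp_incR _).symm
    rw [e]
    exact RingHom.Flat.comp flat_incR (.of_bijective (twistR_bijective _))
  have hmap : (Algebra.TensorProduct.lTensor (S := k) B
      (u.comp (f : A →ₐ[k] B))).toRingHom.Flat := RingHom.Flat.lTensor B h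
  have e : α.comp (f : A →ₐ[k] B) =
      (Algebra.TensorProduct.lTensor (S := k) B (u.comp (f : A →ₐ[k] B))).comp lam := by
    rw [hα, hlam, cm_comp, comp_cm]
    congr 1
    ext a
    simp
  have e' : α.toRingHom.comp (f : A →ₐ[k] B).toRingHom =
      (Algebra.TensorProduct.lTensor (S := k) B (u.comp (f : A →ₐ[k] B))).toRingHom.comp
        lam.toRingHom := by
    ext a
    exact congrArg (fun g : A →ₐ[k] B ⊗[k] P => g a) e
  rw [e']
  exact RingHom.Flat.comp hlamflat hmap

end T1

section Reduced

variable {k : Type*} [Field k] {A B : Type*} [CommRing A] [CommRing B]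
  [HopfAlgebra k A] [HopfAlgebra k B]

theorem nontrivial_of_hopf (k : Type*) [Field k] (A : Type*) [CommRing A] [HopfAlgebra k A] :
    Nontrivial A := by
  refine ⟨⟨0, 1, fun h => ?_⟩⟩
  have := congrArg (Bialgebra.counitAlgHom k A) h
  simp at this

/-- Reduced case: an injective bialgebra map out of a reduced Hopf algebra is flat. -/
theorem flat_of_isReduced [IsReduced A] (f : A →ₐc[k] B) (hf : Function.Injective f) :
    (f : A →ₐ[k] B).toRingHom.Flat := by
  letI : Algebra A B := (f : A →ₐ[k] B).toRingHom.toAlgebra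
  haveI : IsScalarTower k A B :=
    IsScalarTower.of_algebraMap_eq (fun c => ((f : A →ₐ[k] B).commutes c).symm)
  haveI : Nontrivial A := nontrivial_of_hopf k A
  obtain ⟨q, hq⟩ := Ideal.nonempty_minimalPrimes (bot_ne_top : (⊥ : Ideal A) ≠ ⊤)
  haveI : q.IsPrime := hq.1.1
  haveI : Ring.KrullDimLE 0 (Localization.AtPrime q) := .of_isLocalization q hq _
  have hfield : IsField (Localization.AtPrime q) := Ring.KrullDimLE.isField_of_isReduced
  have hinj : Function.Injective
      (Algebra.TensorProduct.includeLeft :
        Localization.AtPrime q →ₐ[A] Localization.AtPrime q ⊗[A] B) :=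
    Algebra.TensorProduct.includeLeft_injective (S := A) hf
  haveI : Nontrivial (Localization.AtPrime q ⊗[A] B) := hinj.nontrivial
  let u : B →ₐ[k] Localization.AtPrime q ⊗[A] B :=
    (Algebra.TensorProduct.includeRight :
      B →ₐ[A] Localization.AtPrime q ⊗[A] B).restrictScalars k
  apply flat_of_flat_comp f u
  have e : (u.comp (f : A →ₐ[k] B)).toRingHom =
      (Algebra.TensorProduct.includeLeft :
        Localization.AtPrime q →ₐ[A] Localization.AtPrime q ⊗[A] B).toRingHom.comp
        (algebraMap A (Localization.AtPrime q)) := by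
    ext a
    show (1 : Localization.AtPrime q) ⊗ₜ[A] (algebraMap A B a) =
      (algebraMap A (Localization.AtPrime q) a) ⊗ₜ[A] (1 : B)
    rw [Algebra.algebraMap_eq_smul_one, Algebra.algebraMap_eq_smul_one, TensorProduct.smul_tmul]
  rw [e]
  refine RingHom.Flat.comp ?_ (RingHom.Flat.of_isField hfield _)
  rw [RingHom.flat_algebraMap_iff]
  infer_instance

end Reduced

section T2

variable {k : Type*} [Field k] {A B : Type*} [CommRing A] [CommRing B]
  [HopfAlgebra k A] [HopfAlgebra k B]

theorem map_ker_ne_top {K : Type*} [CommRing K] [Nontrivial K] [Algebra k K]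
    (f : A →ₐc[k] B) (hf : Function.Injective f) (hflat : (f : A →ₐ[k] B).toRingHom.Flat)
    (h : A →ₐ[k] K) : Ideal.map (f : A →ₐ[k] B) (RingHom.ker h) ≠ ⊤ := by
  letI : Algebra A B := (f : A →ₐ[k] B).toRingHom.toAlgebra
  haveI : IsScalarTower k A B :=
    IsScalarTower.of_algebraMap_eq (fun c => ((f : A →ₐ[k] B).commutes c).symm)
  haveI : Module.Flat A B := hflat
  haveI : Nontrivial B := nontrivial_of_hopf k B
  let φ₂ : A →ₐ[k] K ⊗[k] B :=
    cm (Algebra.TensorProduct.includeLeft.comp h)
      (Algebra.TensorProduct.includeRight.comp (f : A →ₐ[k] B))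
  have hφ₂ : Function.Injective φ₂ := by
    have e : φ₂ = (Algebra.TensorProduct.map (AlgHom.id k K) (f : A →ₐ[k] B)).comp
        ((twistR h).comp Algebra.TensorProduct.includeRight) := by
      rw [twistR_comp_incR, comp_cm]
      show cm _ _ = cm _ _
      congr 1
      ext a; simp
    rw [e]
    have h1 : Function.Injective (Algebra.TensorProduct.includeRight : A →ₐ[k] K ⊗[k] A) :=
      Algebra.TensorProduct.includeRight_injective (algebraMap k K).injective
    have h2 : Function.Injective
        (Algebra.TensorProduct.map (AlgHom.id k K) (f : A →ₐ[k] B)) :=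
      Module.Flat.lTensor_preserves_injective_linearMap (M := K)
        (f : A →ₐ[k] B).toLinearMap hf
    exact h2.comp ((twistR_bijective h).injective.comp h1)
  letI : Algebra A (K ⊗[k] B) := φ₂.toRingHom.toAlgebra
  haveI : IsScalarTower k A (K ⊗[k] B) :=
    IsScalarTower.of_algebraMap_eq (fun c => (φ₂.commutes c).symm)
  have hinj : Function.Injective
      (Algebra.TensorProduct.includeLeft : B →ₐ[A] B ⊗[A] (K ⊗[k] B)) :=
    Algebra.TensorProduct.includeLeft_injective (S := A) hφ₂
  haveI : Nontrivial (B ⊗[A] (K ⊗[k] B)) := hinj.nontrivial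
  let p : B →ₐ[k] B ⊗[A] (K ⊗[k] B) := Algebra.TensorProduct.includeLeft
  let jE : K ⊗[k] B →ₐ[k] B ⊗[A] (K ⊗[k] B) :=
    (Algebra.TensorProduct.includeRight : K ⊗[k] B →ₐ[A] B ⊗[A] (K ⊗[k] B)).restrictScalars k
  let q : B →ₐ[k] B ⊗[A] (K ⊗[k] B) := jE.comp Algebra.TensorProduct.includeRight
  let μ : B →ₐ[k] B ⊗[A] (K ⊗[k] B) := cm p (ci q)
  have hpf : p.comp (f : A →ₐ[k] B) = jE.comp φ₂ := by
    ext a
    show (algebraMap A B a) ⊗ₜ[A] (1 : K ⊗[k] B) = (1 : B) ⊗ₜ[A] (algebraMap A (K ⊗[k] B) a)
    rw [Algebra.algebraMap_eq_smul_one, Algebra.algebraMap_eq_smul_one, TensorProduct.smul_tmul]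
  have hμf : μ.comp (f : A →ₐ[k] B) = jE.comp (Algebra.TensorProduct.includeLeft.comp h) := by
    show (cm p (ci q)).comp (f : A →ₐ[k] B) = _
    rw [cm_comp, ci_comp, hpf]
    show cm (jE.comp (cm _ _)) _ = _
    rw [comp_cm]
    exact cm_cm_ci _ _
  intro htop
  have h1 : (1 : B) ∈ Ideal.map (f : A →ₐ[k] B) (RingHom.ker h) := htop ▸ Submodule.mem_top
  have h2 : Ideal.map (f : A →ₐ[k] B) (RingHom.ker h) ≤ RingHom.ker μ := by
    rw [Ideal.map_le_iff_le_comap]
    intro a ha
    rw [Ideal.mem_comap, RingHom.mem_ker]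
    have := congrArg (fun g : A →ₐ[k] B ⊗[A] (K ⊗[k] B) => g a) hμf
    simp only [AlgHom.comp_apply] at this
    rw [this, (RingHom.mem_ker).mp ha, map_zero, map_zero]
  have h3 := h2 h1
  rw [RingHom.mem_ker, map_one] at h3
  exact one_ne_zero h3

/-- For an injective map of commutative Hopf algebras over a field, flat implies faithfully flat. -/
theorem faithfullyFlat_of_flat (f : A →ₐc[k] B) (hf : Function.Injective f)
    (hflat : (f : A →ₐ[k] B).toRingHom.Flat) : (f : A →ₐ[k] B).toRingHom.FaithfullyFlat := by
  letI : Algebra A B := (f : A →ₐ[k] B).toRingHom.toAlgebra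
  haveI : Module.Flat A B := hflat
  show Module.FaithfullyFlat A B
  refine ⟨fun m hm htop => ?_⟩
  haveI := hm
  apply map_ker_ne_top f hf hflat (Ideal.Quotient.mkₐ k m)
  have hker : RingHom.ker (Ideal.Quotient.mkₐ k m) = m := by
    ext x
    rw [RingHom.mem_ker, Ideal.Quotient.mkₐ_eq_mk, Ideal.Quotient.eq_zero_iff_mem]
  rw [hker]
  rw [Ideal.smul_top_eq_map] at htop
  have : ((Ideal.map (algebraMap A B) m).restrictScalars A : Set B) = Set.univ := by
    rw [htop]; rfl
  apply Ideal.eq_top_iff_one _ |>.mpr
  have h1 : (1 : B) ∈ ((Ideal.map (algebraMap A B) m).restrictScalars A : Set B) := by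
    rw [this]; trivial
  exact h1

theorem faithfullyFlat_of_isReduced [IsReduced A] (f : A →ₐc[k] B) (hf : Function.Injective f) :
    (f : A →ₐ[k] B).toRingHom.FaithfullyFlat :=
  faithfullyFlat_of_flat f hf (flat_of_isReduced f hf)

end T2

end Groth.Agent.Lib.HopfFFH1
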