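import Groth.Agent.Lib.HopfQuot_helper1

/-!
# Infinitesimal lemma: a Hopf algebra is free over a Hopf subalgebra with nilpotent augmentation
ideal.
-/

set_option autoImplicit false
set_option maxHeartbeats 1000000

namespace Groth.Agent.Lib.HopfFFH1

open TensorProduct WithConv

section Inf

variable {k : Type*} [Field k] {A B C : Type*} [CommRing A] [CommRing B] [CommRing C]
  [HopfAlgebra k A] [HopfAlgebra k B] [HopfAlgebra k C]
  (f : A →ₐc[k] B) (π : B →ₐc[k] C)

/-- `b ↦ b₁ ⊗ π(b₂)` -/
noncomputable def rho : B →ₐ[k] B ⊗[k] C :=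
  cm Algebra.TensorProduct.includeLeft
    (Algebra.TensorProduct.includeRight.comp (π : B →ₐ[k] C))

/-- `b ↦ S(b₁) ⊗ π(b₂)` -/
noncomputable def rho' : B →ₐ[k] B ⊗[k] C :=
  cm (ci Algebra.TensorProduct.includeLeft)
    (Algebra.TensorProduct.includeRight.comp (π : B →ₐ[k] C))

noncomputable def qq : B ⊗[k] C →ₐ[k] C ⊗[k] C :=
  Algebra.TensorProduct.map (π : B →ₐ[k] C) (AlgHom.id k C)

variable (C) in
noncomputable def PsiC : C ⊗[k] C →ₐ[k] C ⊗[k] C :=
  Algebra.TensorProduct.productMap Algebra.TensorProduct.includeLeft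
    (cm Algebra.TensorProduct.includeLeft Algebra.TensorProduct.includeRight)

variable (C) in
noncomputable def PhiC : C ⊗[k] C →ₐ[k] C ⊗[k] C :=
  Algebra.TensorProduct.productMap Algebra.TensorProduct.includeLeft
    (cm (ci Algebra.TensorProduct.includeLeft) Algebra.TensorProduct.includeRight)

theorem PhiC_comp_PsiC : (PhiC (k := k) C).comp (PsiC C) = AlgHom.id k _ := by
  apply tensor_algHom_ext
  · rw [AlgHom.comp_assoc, PsiC, Algebra.TensorProduct.productMap_left, PhiC,
      Algebra.TensorProduct.productMap_left, AlgHom.id_comp]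
  · rw [AlgHom.comp_assoc, PsiC, Algebra.TensorProduct.productMap_right, comp_cm, PhiC,
      Algebra.TensorProduct.productMap_left, Algebra.TensorProduct.productMap_right,
      cm_ci_cm', AlgHom.id_comp]

theorem qq_comp_incL : (qq π).comp Algebra.TensorProduct.includeLeft =
    Algebra.TensorProduct.includeLeft.comp (π : B →ₐ[k] C) := by
  ext b; simp [qq]

theorem qq_comp_incR : (qq π).comp Algebra.TensorProduct.includeRight =
    Algebra.TensorProduct.includeRight := by
  ext b; simp [qq]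

theorem qq_comp_rho : (qq π).comp (rho π) =
    (cm Algebra.TensorProduct.includeLeft Algebra.TensorProduct.includeRight).comp
      (π : B →ₐ[k] C) := by
  rw [rho, comp_cm, cm_comp, qq_comp_incL, ← AlgHom.comp_assoc, qq_comp_incR]

theorem qq_comp_rho' : (qq π).comp (rho' π) =
    (cm (ci Algebra.TensorProduct.includeLeft) Algebra.TensorProduct.includeRight).comp
      (π : B →ₐ[k] C) := by
  rw [rho', comp_cm, cm_comp, comp_ci, ci_comp, qq_comp_incL, ← AlgHom.comp_assoc, qq_comp_incR]

variable (s : C →ₗ[k] B)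

noncomputable def Psi : B ⊗[k] C →ₗ[B] B ⊗[k] C :=
  ((rho π).toLinearMap ∘ₗ s).liftBaseChange B

noncomputable def Phi : B ⊗[k] C →ₗ[B] B ⊗[k] C :=
  ((rho' π).toLinearMap ∘ₗ s).liftBaseChange B

theorem smul_eq_tmul_mul (b : B) (y : B ⊗[k] C) : b • y = (b ⊗ₜ[k] (1 : C)) * y := by
  rw [Algebra.smul_def]; rfl

theorem Psi_tmul (b : B) (c : C) :
    Psi π s (b ⊗ₜ[k] c) = (b ⊗ₜ[k] (1 : C)) * rho π (s c) := by
  rw [Psi, LinearMap.liftBaseChange_tmul, smul_eq_tmul_mul]; rfl

theorem Phi_tmul (b : B) (c : C) :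
    Phi π s (b ⊗ₜ[k] c) = (b ⊗ₜ[k] (1 : C)) * rho' π (s c) := by
  rw [Phi, LinearMap.liftBaseChange_tmul, smul_eq_tmul_mul]; rfl

variable (hs : ∀ c, π (s c) = c)

include hs in
theorem qq_Psi (x : B ⊗[k] C) : qq π (Psi π s x) = PsiC C (qq π x) := by
  induction x using TensorProduct.induction_on with
  | zero => simp
  | tmul b c =>
    rw [Psi_tmul, map_mul]
    have h1 : qq π (rho π (s c)) =
        (cm Algebra.TensorProduct.includeLeft Algebra.TensorProduct.includeRight) (π (s c)) :=
      AlgHom.congr_fun (qq_comp_rho π) (s c)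
    rw [h1, hs]
    show (π b ⊗ₜ[k] (1 : C)) * _ = PsiC C (π b ⊗ₜ[k] c)
    rw [PsiC, Algebra.TensorProduct.productMap_apply_tmul]
    rfl
  | add x y hx hy => rw [map_add, map_add, map_add, map_add, hx, hy]

include hs in
theorem qq_Phi (x : B ⊗[k] C) : qq π (Phi π s x) = PhiC C (qq π x) := by
  induction x using TensorProduct.induction_on with
  | zero => simp
  | tmul b c =>
    rw [Phi_tmul, map_mul]
    have h1 : qq π (rho' π (s c)) =
        (cm (ci Algebra.TensorProduct.includeLeft) Algebra.TensorProduct.includeRight)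
          (π (s c)) :=
      AlgHom.congr_fun (qq_comp_rho' π) (s c)
    rw [h1, hs]
    show (π b ⊗ₜ[k] (1 : C)) * _ = PhiC C (π b ⊗ₜ[k] c)
    rw [PhiC, Algebra.TensorProduct.productMap_apply_tmul]
    rfl
  | add x y hx hy => rw [map_add, map_add, map_add, map_add, hx, hy]

include hs in
theorem qq_Phi_Psi (x : B ⊗[k] C) : qq π (Phi π s (Psi π s x)) = qq π x := by
  rw [qq_Phi π s hs, qq_Psi π s hs]
  exact AlgHom.congr_fun PhiC_comp_PsiC (qq π x)

theorem mem_smul_top_of_qq_eq_zero (hπs : Function.Surjective π) (x : B ⊗[k] C)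
    (hx : qq π x = 0) :
    x ∈ (RingHom.ker (π : B →ₐ[k] C) • (⊤ : Submodule B (B ⊗[k] C))) := by
  have hex : Function.Exact
      (LinearMap.rTensor C (LinearMap.ker (π : B →ₐ[k] C).toLinearMap).subtype)
      (LinearMap.rTensor C (π : B →ₐ[k] C).toLinearMap) :=
    rTensor_exact C (LinearMap.exact_subtype_ker_map _) hπs
  have hx' : LinearMap.rTensor C (π : B →ₐ[k] C).toLinearMap x = 0 := hx
  obtain ⟨y, rfl⟩ := (hex x).mp hx'
  induction y using TensorProduct.induction_on with
  | zero => simp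
  | tmul j c =>
    have hj : (j : B) ∈ RingHom.ker (π : B →ₐ[k] C) := j.2
    have : LinearMap.rTensor C (LinearMap.ker (π : B →ₐ[k] C).toLinearMap).subtype (j ⊗ₜ[k] c) =
        (j : B) • ((1 : B) ⊗ₜ[k] c) := by
      rw [LinearMap.rTensor_tmul, TensorProduct.smul_tmul', smul_eq_mul, mul_one]
      rfl
    rw [this]
    exact Submodule.smul_mem_smul hj Submodule.mem_top
  | add y z hy hz =>
    rw [map_add]
    exact Submodule.add_mem _ (hy (by
      have := (hex _).mpr ⟨y, rfl⟩; exact this) (by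
      have := (hex _).mpr ⟨y, rfl⟩; exact this)) (hz (by
      have := (hex _).mpr ⟨z, rfl⟩; exact this) (by
      have := (hex _).mpr ⟨z, rfl⟩; exact this))

include hs in
theorem Psi_injective (hπs : Function.Surjective π) (n : ℕ)
    (hn : (RingHom.ker (π : B →ₐ[k] C)) ^ n = ⊥) : Function.Injective (Psi π s) := by
  rw [injective_iff_map_eq_zero]
  intro x hx
  set J := RingHom.ker (π : B →ₐ[k] C) with hJ
  let N : B ⊗[k] C →ₗ[B] B ⊗[k] C := LinearMap.id - (Phi π s) ∘ₗ (Psi π s)
  have hN : ∀ y, N y ∈ J • (⊤ : Submodule B (B ⊗[k] C)) := by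
    intro y
    apply mem_smul_top_of_qq_eq_zero π hπs
    show qq π (y - Phi π s (Psi π s y)) = 0
    rw [map_sub, qq_Phi_Psi π s hs, sub_self]
  have hstep : ∀ i : ℕ, ∀ y ∈ J ^ i • (⊤ : Submodule B (B ⊗[k] C)),
      N y ∈ J ^ (i + 1) • (⊤ : Submodule B (B ⊗[k] C)) := by
    intro i y hy
    refine Submodule.smul_induction_on hy ?_ ?_
    · intro j hj m _
      rw [map_smul, pow_succ, Submodule.mul_smul]
      exact Submodule.smul_mem_smul hj (hN m)
    · intro y z hy hz
      rw [map_add]
      exact Submodule.add_mem _ hy hz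
  have hNx : N x = x := by
    show x - Phi π s (Psi π s x) = x
    rw [hx, map_zero, sub_zero]
  have hall : ∀ i : ℕ, x ∈ J ^ i • (⊤ : Submodule B (B ⊗[k] C)) := by
    intro i
    induction i with
    | zero => rw [pow_zero, Ideal.one_eq_top, Submodule.top_smul]; exact Submodule.mem_top
    | succ i ih => rw [← hNx]; exact hstep i x ih
  have := hall n
  rw [hn, Submodule.bot_smul] at this
  exact (Submodule.mem_bot _).mp this

theorem rho_comp_f (hker : RingHom.ker (π : B →ₐ[k] C) = augIdeal f) :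
    (rho π).comp (f : A →ₐ[k] B) = Algebra.TensorProduct.includeLeft.comp (f : A →ₐ[k] B) := by
  have h1 : (π : B →ₐ[k] C).comp (f : A →ₐ[k] B) = c1 := by
    rw [comp_eq_c1_iff, hker]
  rw [rho, cm_comp, AlgHom.comp_assoc, h1, comp_c1, cm_c1]

/-- **Infinitesimal lemma.** If the augmentation ideal of `A` is nilpotent and `f : A → B` is an
injective bialgebra map, then `B` is flat (indeed free) over `A`. -/
theorem flat_of_nilpotent (hf : Function.Injective f) (hπs : Function.Surjective π)
    (hker : RingHom.ker (π : B →ₐ[k] C) = augIdeal f) (n : ℕ)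
    (hn : (RingHom.ker (Bialgebra.counitAlgHom k A)) ^ n = ⊥) :
    (f : A →ₐ[k] B).toRingHom.Flat := by
  obtain ⟨s, hs'⟩ := LinearMap.exists_rightInverse_of_surjective (π : B →ₐ[k] C).toLinearMap
    (LinearMap.range_eq_top.mpr hπs)
  have hs : ∀ c, π (s c) = c := fun c => LinearMap.congr_fun hs' c
  letI : Algebra A B := (f : A →ₐ[k] B).toRingHom.toAlgebra
  haveI : IsScalarTower k A B :=
    IsScalarTower.of_algebraMap_eq (fun c => ((f : A →ₐ[k] B).commutes c).symm)
  have hJn : (RingHom.ker (π : B →ₐ[k] C)) ^ n = ⊥ := by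
    rw [hker, augIdeal, ← Ideal.map_pow, hn, Ideal.map_bot]
  have hΨ := Psi_injective π s hs hπs n hJn
  let Λ : A ⊗[k] C →ₗ[A] B := s.liftBaseChange A
  have hΛt : ∀ (a : A) (c : C), Λ (a ⊗ₜ[k] c) = f a * s c := by
    intro a c
    show (s.liftBaseChange A) (a ⊗ₜ[k] c) = _
    rw [LinearMap.liftBaseChange_tmul, Algebra.smul_def]
    rfl
  have hΛ : ∀ x, rho π (Λ x) =
      Psi π s (Algebra.TensorProduct.map (f : A →ₐ[k] B) (AlgHom.id k C) x) := by
    intro x
    induction x using TensorProduct.induction_on with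
    | zero => simp
    | tmul a c =>
      rw [hΛt, map_mul]
      have h1 : rho π (f a) = f a ⊗ₜ[k] (1 : C) := AlgHom.congr_fun (rho_comp_f f π hker) a
      rw [h1]
      show _ = Psi π s (f a ⊗ₜ[k] c)
      rw [Psi_tmul]
    | add x y hx hy => rw [map_add, map_add, map_add, map_add, hx, hy]
  have hfid : Function.Injective
      (Algebra.TensorProduct.map (f : A →ₐ[k] B) (AlgHom.id k C)) :=
    Module.Flat.rTensor_preserves_injective_linearMap (M := C) (f : A →ₐ[k] B).toLinearMap hf
  have hΛinj : Function.Injective Λ := by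
    rw [injective_iff_map_eq_zero]
    intro x hx
    have := hΛ x
    rw [hx, map_zero] at this
    have h2 := hΨ (this.symm.trans (map_zero _).symm)
    exact hfid (h2.trans (map_zero _).symm)
  have hΛsurj : Function.Surjective Λ := by
    set 𝔫 := RingHom.ker (Bialgebra.counitAlgHom k A) with h𝔫
    set N₀ : Submodule A B := LinearMap.range Λ with hN₀
    have h0 : (⊤ : Submodule A B) ≤ N₀ ⊔ 𝔫 • (⊤ : Submodule A B) := by
      intro b _
      have e : b = s (π b) + (b - s (π b)) := by ring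
      rw [e]
      refine Submodule.add_mem_sup ⟨(1 : A) ⊗ₜ[k] π b, ?_⟩ ?_
      · rw [hΛt, map_one, one_mul]
      · rw [Ideal.smul_top_eq_map]
        show b - s (π b) ∈ Ideal.map (algebraMap A B) 𝔫
        have h1 : b - s (π b) ∈ RingHom.ker (π : B →ₐ[k] C) := by
          rw [RingHom.mem_ker, map_sub]
          show π b - π (s (π b)) = 0
          rw [hs, sub_self]
        rw [hker] at h1
        exact h1
    have hall : ∀ i : ℕ, (⊤ : Submodule A B) ≤ N₀ ⊔ 𝔫 ^ i • (⊤ : Submodule A B) := by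
      intro i
      induction i with
      | zero => rw [pow_zero, Ideal.one_eq_top, Submodule.top_smul]; exact le_sup_right
      | succ i ih =>
        calc (⊤ : Submodule A B) ≤ N₀ ⊔ 𝔫 • (⊤ : Submodule A B) := h0
          _ ≤ N₀ ⊔ 𝔫 • (N₀ ⊔ 𝔫 ^ i • (⊤ : Submodule A B)) :=
              sup_le_sup_left (Submodule.smul_mono le_rfl ih) _
          _ = N₀ ⊔ (𝔫 • N₀ ⊔ 𝔫 • (𝔫 ^ i • (⊤ : Submodule A B))) := by rw [Submodule.smul_sup]
          _ ≤ N₀ ⊔ 𝔫 ^ (i + 1) • (⊤ : Submodule A B) := by
              rw [← Submodule.mul_smul, ← pow_succ']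
              exact sup_le le_sup_left
                (sup_le (le_sup_of_le_left Submodule.smul_le_right) le_sup_right)
    have := hall n
    rw [hn, Submodule.bot_smul, sup_bot_eq] at this
    intro b
    exact this Submodule.mem_top
  let e : (A ⊗[k] C) ≃ₗ[A] B := LinearEquiv.ofBijective Λ ⟨hΛinj, hΛsurj⟩
  show Module.Flat A B
  exact Module.Flat.of_linearEquiv e.symm

end Inf

end Groth.Agent.Lib.HopfFFH1
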