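import Groth.Agent.Lib.HopfSubInst_helper1
import Groth.Agent.Lib.HopfInf_helper1

/-!
# The Hopf subalgebra of `p^n`-th powers over a perfect field of characteristic `p`
-/

set_option autoImplicit false
set_option maxHeartbeats 1000000

namespace Groth.Agent.Lib.HopfFFH1

open TensorProduct WithConv

section Frob

variable {k : Type*} [Field k] (p : ℕ) [Fact p.Prime] [CharP k p] [PerfectRing k p]
  {A : Type*} [CommRing A] [HopfAlgebra k A] [CharP A p]

/-- The subalgebra of `p^n`-th powers. -/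
def frobSub (n : ℕ) : Subalgebra k A where
  carrier := {x | ∃ a : A, a ^ p ^ n = x}
  mul_mem' := by
    rintro _ _ ⟨a, rfl⟩ ⟨b, rfl⟩
    exact ⟨a * b, mul_pow a b _⟩
  one_mem' := ⟨1, one_pow _⟩
  add_mem' := by
    rintro _ _ ⟨a, rfl⟩ ⟨b, rfl⟩
    exact ⟨a + b, add_pow_char_pow a b p n⟩
  zero_mem' := ⟨0, zero_pow (pow_pos (Fact.out : p.Prime).pos n).ne'⟩
  algebraMap_mem' c := ⟨algebraMap k A ((iterateFrobeniusEquiv k p n).symm c), by
    rw [← map_pow, ← iterateFrobeniusEquiv_def, RingEquiv.apply_symm_apply]⟩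

theorem mem_frobSub {n : ℕ} {x : A} : x ∈ frobSub (k := k) p n ↔ ∃ a : A, a ^ p ^ n = x :=
  Iff.rfl

theorem pow_mem_frobSub (n : ℕ) (a : A) : a ^ p ^ n ∈ frobSub (k := k) p n := ⟨a, rfl⟩

instance frobSub_isHopfSub (n : ℕ) : IsHopfSub (frobSub (k := k) (A := A) p n) where
  comul_mem := by
    rintro _ ⟨a, rfl⟩
    haveI : Nontrivial A := nontrivial_of_hopf k A
    haveI : CharP (A ⊗[k] A) p :=
      charP_of_injective_algebraMap (algebraMap k (A ⊗[k] A)).injective p
    have key : ∀ z : A ⊗[k] A, z ^ p ^ n ∈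
        (Algebra.TensorProduct.map (frobSub (k := k) (A := A) p n).val
          (frobSub (k := k) (A := A) p n).val).range := by
      intro z
      induction z using TensorProduct.induction_on with
      | zero =>
        rw [zero_pow (pow_pos (Fact.out : p.Prime).pos n).ne']
        exact Subalgebra.zero_mem _
      | tmul x y =>
        rw [Algebra.TensorProduct.tmul_pow]
        exact ⟨(⟨x ^ p ^ n, pow_mem_frobSub p n x⟩ : frobSub (k := k) (A := A) p n) ⊗ₜ[k]
          (⟨y ^ p ^ n, pow_mem_frobSub p n y⟩ : frobSub (k := k) (A := A) p n), rfl⟩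
      | add x y hx hy =>
        rw [add_pow_char_pow]
        exact Subalgebra.add_mem _ hx hy
    have := key (Coalgebra.comul (R := k) a)
    rwa [← Bialgebra.comulAlgHom_apply, ← map_pow] at this
  antipode_mem := by
    rintro _ ⟨a, rfl⟩
    have : HopfAlgebra.antipode k (a ^ p ^ n) = (HopfAlgebra.antipode k a) ^ p ^ n :=
      map_pow (HopfAlgebra.antipodeAlgHom k A) a _
    rw [this]
    exact pow_mem_frobSub p n _

theorem exists_isReduced_frobSub [IsNoetherianRing A] :
    ∃ n : ℕ, IsReduced ↥(frobSub (k := k) (A := A) p n) := by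
  obtain ⟨m, hm⟩ := IsNoetherianRing.isNilpotent_nilradical A
  have hp1 : 1 < p := (Fact.out : p.Prime).one_lt
  have hnil : ∀ a : A, IsNilpotent a → a ^ p ^ m = 0 := by
    intro a ha
    have h1 : a ^ m ∈ (nilradical A) ^ m := Ideal.pow_mem_pow (mem_nilradical.mpr ha) m
    rw [hm] at h1
    have h2 : a ^ m = 0 := h1
    exact pow_eq_zero_of_le (Nat.lt_pow_self hp1).le h2
  refine ⟨m, ⟨?_⟩⟩
  rintro ⟨x, a, rfl⟩ ⟨j, hj⟩
  have hj' : (a ^ p ^ m) ^ j = 0 := congrArg Subtype.val hj
  have ha : IsNilpotent a := ⟨p ^ m * j, by rw [pow_mul]; exact hj'⟩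
  exact Subtype.ext (hnil a ha)

/-- The quotient by the augmentation ideal of the subalgebra of `p^n`-th powers has nilpotent
augmentation ideal. -/
theorem exists_pow_ker_counit_quot [IsNoetherianRing A] (n : ℕ) :
    ∃ N : ℕ, (RingHom.ker (Bialgebra.counitAlgHom k
      (A ⧸ augIdeal (subVal (frobSub (k := k) (A := A) p n))))) ^ N = ⊥ := by
  set J := augIdeal (subVal (frobSub (k := k) (A := A) p n)) with hJ
  have hfg : (RingHom.ker (Bialgebra.counitAlgHom k (A ⧸ J))).FG := IsNoetherian.noetherian _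
  have hle : RingHom.ker (Bialgebra.counitAlgHom k (A ⧸ J)) ≤ nilradical (A ⧸ J) := by
    intro x' hx'
    obtain ⟨x, rfl⟩ := Ideal.Quotient.mk_surjective x'
    rw [RingHom.mem_ker] at hx'
    have hx : Coalgebra.counit (R := k) x = 0 := hx'
    rw [mem_nilradical]
    refine ⟨p ^ n, ?_⟩
    rw [← map_pow, Ideal.Quotient.eq_zero_iff_mem]
    have h1 : (⟨x ^ p ^ n, pow_mem_frobSub p n x⟩ : frobSub (k := k) (A := A) p n) ∈
        RingHom.ker (Bialgebra.counitAlgHom k ↥(frobSub (k := k) (A := A) p n)) := by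
      rw [RingHom.mem_ker, sub_counitAlgHom]
      show Coalgebra.counit (R := k) (x ^ p ^ n) = 0
      rw [← Bialgebra.counitAlgHom_apply, map_pow, Bialgebra.counitAlgHom_apply, hx,
        zero_pow (pow_pos (Fact.out : p.Prime).pos n).ne']
    exact Ideal.mem_map_of_mem _ h1
  obtain ⟨N, hN⟩ := hfg.isNilpotent_iff_le_nilradical.mpr hle
  exact ⟨N, hN⟩

end Frob

end Groth.Agent.Lib.HopfFFH1
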