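import Mathlib
import Groth.Prelude.Def_HopfRep

/-!
# Coactions of a finite commutative Hopf algebra: translation automorphisms and characteristic
polynomials (helper3)

For a commutative `k`-algebra `B` and `j : H →ₐ[k] B` ("a `B`-point of the group"), translation by
`j` is a `B`-algebra automorphism of `B ⊗ H`.  For a comodule algebra `R` this is used to show that
the characteristic polynomial of (multiplication by) `ρ x` on the finite free `R`-module `R ⊗ H` has
invariant coefficients and kills `x`; hence `R` is integral over its invariants.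
-/

set_option autoImplicit false
set_option linter.style.haveILetI false
set_option maxHeartbeats 400000
set_option linter.unusedSectionVars false
set_option linter.unusedSimpArgs false

namespace Groth.Agent.Lib.HopfInvH3

open TensorProduct Polynomial WithConv

universe u

section convMap

variable (k : Type u) [Field k] (H : Type u) [CommRing H] [HopfAlgebra k H]
variable {B : Type u} [CommRing B] [Algebra k B] {C : Type u} [CommRing C] [Algebra k C]

/-- post-composition with an algebra homomorphism is a homomorphism of convolution groups -/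
noncomputable def convMap (h : B →ₐ[k] C) :
    WithConv (H →ₐ[k] B) →* WithConv (H →ₐ[k] C) where
  toFun j := toConv (h.comp j.ofConv)
  map_one' := by
    apply WithConv.ofConv_injective
    ext x
    simp [AlgHom.convOne_def]
  map_mul' f g := by
    apply WithConv.ofConv_injective
    rw [WithConv.ofConv_toConv, AlgHom.comp_convMul_distrib]

theorem convMap_apply (h : B →ₐ[k] C) (j : WithConv (H →ₐ[k] B)) (x : H) :
    (convMap k H h j).ofConv x = h (j.ofConv x) := rfl

/-- the convolution inverse `j ∘ antipode` -/
noncomputable def cinv (j : WithConv (H →ₐ[k] B)) : WithConv (H →ₐ[k] B) :=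
  convMap k H j.ofConv (toConv (HopfAlgebra.antipodeAlgHom k H))

theorem convMap_id (j : WithConv (H →ₐ[k] B)) :
    convMap k H j.ofConv (toConv (AlgHom.id k H)) = j := by
  apply WithConv.ofConv_injective
  ext x
  rfl

theorem cinv_mul (j : WithConv (H →ₐ[k] B)) : cinv k H j * j = 1 := by
  have h : cinv k H j * convMap k H j.ofConv (toConv (AlgHom.id k H)) = 1 := by
    rw [cinv, ← map_mul, AlgHom.antipode_id_cancel, map_one]
  rwa [convMap_id] at h

theorem mul_cinv (j : WithConv (H →ₐ[k] B)) : j * cinv k H j = 1 := by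
  have h0 : toConv (AlgHom.id k H) * toConv (HopfAlgebra.antipodeAlgHom k H) = 1 := by
    have h1 : toConv (HopfAlgebra.antipodeAlgHom k H) = (toConv (AlgHom.id k H))⁻¹ :=
      eq_inv_of_mul_eq_one_left AlgHom.antipode_id_cancel
    rw [h1, mul_inv_cancel]
  have h : convMap k H j.ofConv (toConv (AlgHom.id k H)) * cinv k H j = 1 := by
    rw [cinv, ← map_mul, h0, map_one]
  rwa [convMap_id] at h

end convMap

section transl

variable (k : Type u) [Field k] (H : Type u) [CommRing H] [HopfAlgebra k H]
variable (B : Type u) [CommRing B] [Algebra k B]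

/-- the `B`-algebra endomorphism of `B ⊗ H` determined by `g : H → B ⊗ H`. -/
noncomputable def endOf (g : H →ₐ[k] B ⊗[k] H) : B ⊗[k] H →ₐ[B] B ⊗[k] H :=
  Algebra.TensorProduct.lift (Algebra.ofId B (B ⊗[k] H)) g (fun _ _ => Commute.all _ _)

theorem endOf_tmul (g : H →ₐ[k] B ⊗[k] H) (b : B) (h : H) :
    endOf k H B g (b ⊗ₜ[k] h) = (b ⊗ₜ[k] (1 : H)) * g h := by
  rw [endOf, Algebra.TensorProduct.lift_tmul, Algebra.ofId_apply,
    Algebra.TensorProduct.algebraMap_apply, Algebra.algebraMap_self_apply]

theorem endOf_one_tmul (g : H →ₐ[k] B ⊗[k] H) (h : H) :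
    endOf k H B g ((1 : B) ⊗ₜ[k] h) = g h := by
  rw [endOf_tmul, ← Algebra.TensorProduct.one_def, one_mul]

theorem endOf_tmul_one (g : H →ₐ[k] B ⊗[k] H) (b : B) :
    endOf k H B g (b ⊗ₜ[k] (1 : H)) = b ⊗ₜ[k] (1 : H) := by
  rw [endOf_tmul, map_one, mul_one]

/-- the convolution-group element `(incl_B ∘ j) * incl_H` of `H → B ⊗ H` -/
noncomputable def trG (j : WithConv (H →ₐ[k] B)) : WithConv (H →ₐ[k] B ⊗[k] H) :=
  convMap k H (Algebra.TensorProduct.includeLeft : B →ₐ[k] B ⊗[k] H) j *
    toConv (Algebra.TensorProduct.includeRight : H →ₐ[k] B ⊗[k] H)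

/-- translation by the `B`-point `j` -/
noncomputable def transl (j : WithConv (H →ₐ[k] B)) : B ⊗[k] H →ₐ[B] B ⊗[k] H :=
  endOf k H B (trG k H B j).ofConv

theorem transl_one_tmul (j : WithConv (H →ₐ[k] B)) (x : H) :
    transl k H B j ((1 : B) ⊗ₜ[k] x) = (trG k H B j).ofConv x :=
  endOf_one_tmul k H B _ _

theorem convMap_transl_trG (j j' : WithConv (H →ₐ[k] B)) :
    convMap k H ((transl k H B j).restrictScalars k) (trG k H B j') = trG k H B (j' * j) := by
  have h1 : convMap k H ((transl k H B j).restrictScalars k)
      (convMap k H (Algebra.TensorProduct.includeLeft : B →ₐ[k] B ⊗[k] H) j') =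
      convMap k H (Algebra.TensorProduct.includeLeft : B →ₐ[k] B ⊗[k] H) j' := by
    apply WithConv.ofConv_injective
    ext x
    rw [convMap_apply, convMap_apply]
    exact endOf_tmul_one k H B _ _
  have h2 : convMap k H ((transl k H B j).restrictScalars k)
      (toConv (Algebra.TensorProduct.includeRight : H →ₐ[k] B ⊗[k] H)) = trG k H B j := by
    apply WithConv.ofConv_injective
    ext x
    rw [convMap_apply]
    exact endOf_one_tmul k H B _ _
  rw [trG, map_mul, h1, h2, trG, trG, map_mul, mul_assoc]

theorem transl_transl (j j' : WithConv (H →ₐ[k] B)) (y : B ⊗[k] H) :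
    transl k H B j (transl k H B j' y) = transl k H B (j' * j) y := by
  have h : (transl k H B j).comp (transl k H B j') = transl k H B (j' * j) := by
    apply Algebra.TensorProduct.ext
    · exact Algebra.ext_id _ _ _
    · ext x
      have h1 := congrArg (fun f : WithConv (H →ₐ[k] B ⊗[k] H) => f.ofConv x)
        (convMap_transl_trG k H B j j')
      simp only [convMap_apply] at h1
      simp only [AlgHom.comp_apply, AlgHom.restrictScalars_apply,
        Algebra.TensorProduct.includeRight_apply]
      rw [transl_one_tmul, transl_one_tmul]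
      exact h1
  exact AlgHom.congr_fun h y

theorem transl_one (y : B ⊗[k] H) : transl k H B 1 y = y := by
  have h : transl k H B 1 = AlgHom.id B (B ⊗[k] H) := by
    apply Algebra.TensorProduct.ext
    · exact Algebra.ext_id _ _ _
    · ext x
      simp only [AlgHom.comp_apply, AlgHom.restrictScalars_apply,
        Algebra.TensorProduct.includeRight_apply, AlgHom.id_apply]
      rw [transl_one_tmul, trG, map_one, one_mul]
      rfl
  rw [h]
  rfl

/-- translation as an algebra automorphism -/
noncomputable def translEquiv (j : WithConv (H →ₐ[k] B)) : (B ⊗[k] H) ≃ₐ[B] (B ⊗[k] H) :=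
  AlgEquiv.ofAlgHom (transl k H B j) (transl k H B (cinv k H j))
    (AlgHom.ext fun y => by
      rw [AlgHom.comp_apply, transl_transl, cinv_mul, transl_one, AlgHom.id_apply])
    (AlgHom.ext fun y => by
      rw [AlgHom.comp_apply, transl_transl, mul_cinv, transl_one, AlgHom.id_apply])

theorem translEquiv_apply (j : WithConv (H →ₐ[k] B)) (y : B ⊗[k] H) :
    translEquiv k H B j y = transl k H B j y := rfl

end transl

section chi

variable (k : Type u) [Field k] (H : Type u) [CommRing H] [HopfAlgebra k H] [Module.Finite k H]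
variable (B : Type u) [CommRing B] [Algebra k B]

/-- the characteristic polynomial of multiplication by `s` on the finite free `B`-module `B ⊗ H` -/
noncomputable def chi (s : B ⊗[k] H) : B[X] :=
  LinearMap.charpoly (Algebra.lmul B (B ⊗[k] H) s)

theorem chi_monic (s : B ⊗[k] H) : (chi k H B s).Monic :=
  LinearMap.charpoly_monic _

theorem aeval_chi (s : B ⊗[k] H) : aeval s (chi k H B s) = 0 := by
  have h1 := LinearMap.aeval_self_charpoly (Algebra.lmul B (B ⊗[k] H) s)
  rw [aeval_algHom_apply (Algebra.lmul B (B ⊗[k] H)) s] at h1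
  have h2 := LinearMap.congr_fun h1 1
  simpa [chi] using h2

theorem chi_equiv (e : (B ⊗[k] H) ≃ₐ[B] (B ⊗[k] H)) (s : B ⊗[k] H) :
    chi k H B (e s) = chi k H B s := by
  have h := LinearEquiv.charpoly_conj e.toLinearEquiv (Algebra.lmul B (B ⊗[k] H) s)
  rw [chi, chi, ← h]
  congr 1
  ext y
  simp [LinearEquiv.conj_apply]

variable {B} in
theorem repr_map {R : Type u} [CommRing R] [Algebra k R] (φ : R →ₐ[k] B)
    {n : Type} (b : Module.Basis n k H) (y : R ⊗[k] H) (i : n) :
    (Algebra.TensorProduct.basis B b).repr
        (Algebra.TensorProduct.map φ (AlgHom.id k H) y) i =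
      φ ((Algebra.TensorProduct.basis R b).repr y i) := by
  induction y using TensorProduct.induction_on with
  | zero => simp
  | tmul r h =>
    rw [Algebra.TensorProduct.map_tmul, Algebra.TensorProduct.basis_repr_tmul,
      Algebra.TensorProduct.basis_repr_tmul]
    simp [Algebra.smul_def]
  | add y1 y2 h1 h2 =>
    rw [map_add, map_add, map_add, Finsupp.add_apply, Finsupp.add_apply, h1, h2, map_add]

variable {B} in
theorem chi_map {R : Type u} [CommRing R] [Algebra k R] (φ : R →ₐ[k] B) (s : R ⊗[k] H) :
    chi k H B (Algebra.TensorProduct.map φ (AlgHom.id k H) s) =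
      (chi k H R s).map (φ : R →+* B) := by
  classical
  obtain ⟨b⟩ : Nonempty (Module.Basis (Fin (Module.finrank k H)) k H) := ⟨Module.finBasis k H⟩
  rw [chi, chi, ← LinearMap.charpoly_toMatrix _ (Algebra.TensorProduct.basis B b),
    ← LinearMap.charpoly_toMatrix _ (Algebra.TensorProduct.basis R b),
    ← Algebra.leftMulMatrix_apply, ← Algebra.leftMulMatrix_apply, ← Matrix.charpoly_map]
  congr 1
  ext i j
  rw [Matrix.map_apply, Algebra.leftMulMatrix_eq_repr_mul, Algebra.leftMulMatrix_eq_repr_mul,
    Algebra.TensorProduct.basis_apply, Algebra.TensorProduct.basis_apply]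
  have h1 : Algebra.TensorProduct.map φ (AlgHom.id k H) s * ((1 : B) ⊗ₜ[k] b j) =
      Algebra.TensorProduct.map φ (AlgHom.id k H) (s * ((1 : R) ⊗ₜ[k] b j)) := by
    rw [map_mul, Algebra.TensorProduct.map_tmul, map_one, AlgHom.id_apply]
  rw [h1, repr_map]
  rfl

end chi

section counit

variable (k : Type u) [Field k] (H : Type u) [CommRing H] [HopfAlgebra k H]
variable (R : Type u) [CommRing R] [Algebra k R]

/-- `id ⊗ ε : R ⊗ H → R` as an `R`-algebra homomorphism -/
noncomputable def cε : R ⊗[k] H →ₐ[R] R :=
  Algebra.TensorProduct.lift (AlgHom.id R R)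
    ((Algebra.ofId k R).comp (Bialgebra.counitAlgHom k H)) (fun _ _ => Commute.all _ _)

theorem cε_tmul (r : R) (h : H) :
    cε k H R (r ⊗ₜ[k] h) = r * algebraMap k R (Coalgebra.counit (R := k) h) := by
  simp [cε, Algebra.ofId_apply]

theorem cε_eq (y : R ⊗[k] H) :
    cε k H R y = TensorProduct.rid k R ((Coalgebra.counit (R := k) (A := H)).lTensor R y) := by
  induction y using TensorProduct.induction_on with
  | zero => simp
  | tmul r h =>
    rw [cε_tmul, LinearMap.lTensor_tmul, TensorProduct.rid_tmul, Algebra.smul_def, mul_comm]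
  | add y1 y2 h1 h2 => rw [map_add, map_add, map_add, h1, h2]

end counit

section comodule

variable (k : Type u) [Field k] (H : Type u) [CommRing H] [HopfAlgebra k H]
variable (R : Type u) [CommRing R] [Algebra k R] [HopfRep.Comod k H R]

/-- the coaction -/
noncomputable abbrev co : R →ₗ[k] R ⊗[k] H := HopfRep.Comod.coact (k := k) (A := H)

theorem coassoc_apply (x : R) :
    (co k H R).rTensor H (co k H R x) =
      (TensorProduct.assoc k R H H).symm
        ((Coalgebra.comul (R := k) (A := H)).lTensor R (co k H R x)) := by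
  have h := LinearMap.congr_fun (HopfRep.Comod.coassoc (k := k) (A := H) (V := R)) x
  simp only [LinearMap.comp_apply, LinearEquiv.coe_coe] at h
  rw [← h, LinearEquiv.symm_apply_apply]

theorem counit_apply (x : R) :
    (Coalgebra.counit (R := k) (A := H)).lTensor R (co k H R x) = x ⊗ₜ[k] (1 : k) := by
  have h := LinearMap.congr_fun (HopfRep.Comod.counit_comp (k := k) (A := H) (V := R)) x
  simpa using h

theorem cε_co (x : R) : cε k H R (co k H R x) = x := by
  rw [cε_eq, counit_apply, TensorProduct.rid_tmul, one_smul]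

variable (hmul : ∀ x y : R, co k H R (x * y) = co k H R x * co k H R y)
  (hone : co k H R 1 = 1)

/-- the coaction as an algebra homomorphism -/
noncomputable def rho : R →ₐ[k] R ⊗[k] H := AlgHom.ofLinearMap (co k H R) hone hmul

theorem rho_apply (x : R) : rho k H R hmul hone x = co k H R x := rfl

theorem map_rho_eq (y : R ⊗[k] H) :
    Algebra.TensorProduct.map (rho k H R hmul hone) (AlgHom.id k H) y =
      (co k H R).rTensor H y := by
  induction y using TensorProduct.induction_on with
  | zero => simp
  | tmul r h => rw [Algebra.TensorProduct.map_tmul, LinearMap.rTensor_tmul]; rfl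
  | add y1 y2 h1 h2 => rw [map_add, map_add, h1, h2]

/-- the universal point `H → R ⊗ H` -/
noncomputable def jR : WithConv (H →ₐ[k] R ⊗[k] H) :=
  toConv (Algebra.TensorProduct.includeRight : H →ₐ[k] R ⊗[k] H)

theorem transl_aux (r : R) (t : H ⊗[k] H) :
    ((r ⊗ₜ[k] (1 : H)) ⊗ₜ[k] (1 : H) : (R ⊗[k] H) ⊗[k] H) *
      Algebra.TensorProduct.lift
        ((Algebra.TensorProduct.includeLeft : R ⊗[k] H →ₐ[k] (R ⊗[k] H) ⊗[k] H).comp
          (Algebra.TensorProduct.includeRight : H →ₐ[k] R ⊗[k] H))
        (Algebra.TensorProduct.includeRight : H →ₐ[k] (R ⊗[k] H) ⊗[k] H)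
        (fun _ _ => Commute.all _ _) t =
      (TensorProduct.assoc k R H H).symm (r ⊗ₜ[k] t) := by
  induction t using TensorProduct.induction_on with
  | zero => simp
  | tmul a b =>
    rw [Algebra.TensorProduct.lift_tmul, TensorProduct.assoc_symm_tmul]
    simp [Algebra.TensorProduct.tmul_mul_tmul]
  | add t1 t2 h1 h2 => rw [map_add, mul_add, h1, h2, TensorProduct.tmul_add, map_add]

theorem transl_map_includeLeft (y : R ⊗[k] H) :
    transl k H (R ⊗[k] H) (jR k H R)
        (Algebra.TensorProduct.map (Algebra.TensorProduct.includeLeft : R →ₐ[k] R ⊗[k] H)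
          (AlgHom.id k H) y) =
      (TensorProduct.assoc k R H H).symm
        ((Coalgebra.comul (R := k) (A := H)).lTensor R y) := by
  induction y using TensorProduct.induction_on with
  | zero => simp
  | tmul r h =>
    rw [Algebra.TensorProduct.map_tmul, LinearMap.lTensor_tmul, AlgHom.id_apply,
      Algebra.TensorProduct.includeLeft_apply, transl, endOf_tmul, trG, AlgHom.convMul_apply]
    exact transl_aux k H R r _
  | add y1 y2 h1 h2 => rw [map_add, map_add, map_add, map_add, h1, h2]

variable [Module.Finite k H]

/-- the characteristic polynomial of `ρ x` has invariant coefficients -/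
theorem chi_co_map (x : R) :
    (chi k H R (co k H R x)).map (rho k H R hmul hone : R →+* R ⊗[k] H) =
      (chi k H R (co k H R x)).map
        ((Algebra.TensorProduct.includeLeft : R →ₐ[k] R ⊗[k] H) : R →+* R ⊗[k] H) := by
  rw [← chi_map, ← chi_map, map_rho_eq, coassoc_apply, ← transl_map_includeLeft,
    ← translEquiv_apply, chi_equiv]

include hmul hone in
theorem coeff_chi_co (x : R) (n : ℕ) :
    co k H R ((chi k H R (co k H R x)).coeff n) =
      ((chi k H R (co k H R x)).coeff n) ⊗ₜ[k] (1 : H) := by
  have h := congrArg (fun p => Polynomial.coeff p n) (chi_co_map k H R hmul hone x)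
  simp only [Polynomial.coeff_map] at h
  exact h

theorem eval_chi_co (x : R) : (chi k H R (co k H R x)).eval x = 0 := by
  have h1 := aeval_chi k H R (co k H R x)
  have h2 := congrArg (cε k H R) h1
  rw [← aeval_algHom_apply, cε_co, map_zero] at h2
  rwa [Polynomial.coe_aeval_eq_eval] at h2

end comodule

end Groth.Agent.Lib.HopfInvH3
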