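import Mathlib
import Groth.Prelude.Def_HopfRep
import Groth.Agent.Lib.HopfInv1_helper3
import Groth.Agent.Lib.ComodInvNormal_helper1

/-!
# Coactions of a finite commutative Hopf algebra: integrality over the invariants, finiteness,
transitivity on the fibres of `Spec R → Spec R^{co H}` and equality of heights (helper3)
-/

set_option autoImplicit false
set_option linter.style.haveILetI false
set_option maxHeartbeats 400000
set_option linter.unusedSectionVars false
set_option linter.unusedSimpArgs false

namespace Groth.Agent.Lib.HopfInvH3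

open TensorProduct Polynomial

universe u

section general

/-- For a flat quasi-finite algebra, heights are preserved under contraction. -/
theorem height_under_of_flat_of_quasiFinite {A B : Type*} [CommRing A] [CommRing B] [Algebra A B]
    [Module.Flat A B] [Algebra.QuasiFinite A B] (Q : Ideal B) [Q.IsPrime] :
    (Q.under A).height = Q.height := by
  let p : PrimeSpectrum A := ⟨Q.under A, inferInstance⟩
  let q : PrimeSpectrum B := ⟨Q, inferInstance⟩
  show p.asIdeal.height = q.asIdeal.height
  rw [PrimeSpectrum.height_eq_orderHeight, PrimeSpectrum.height_eq_orderHeight]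
  apply le_antisymm
  · rw [Order.height_eq_iSup_last_eq]
    apply iSup₂_le
    intro l hl
    haveI : Q.LiesOver l.last.asIdeal := ⟨by rw [hl]⟩
    obtain ⟨L, hlen, hlast, -⟩ := Ideal.exists_ltSeries_of_hasGoingDown l Q
    rw [← hlen]
    exact Order.length_le_height hlast.le
  · have hsm : StrictMono (PrimeSpectrum.comap (algebraMap A B)) := by
      intro a b hab
      have hle : a.asIdeal ≤ b.asIdeal := hab.le
      refine lt_of_le_of_ne (Ideal.comap_mono hle) fun heq => ?_
      have h1 : a.asIdeal.under A = b.asIdeal.under A := congrArg PrimeSpectrum.asIdeal heq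
      have h2 := Algebra.QuasiFinite.eq_of_le_of_under_eq (R := A) _ _ hle h1
      exact hab.ne (PrimeSpectrum.ext h2)
    exact Order.height_le_height_apply_of_strictMono _ hsm q

/-- If the norm of `s` lies in the prime `q`, some prime over `q` contains `s`. -/
theorem exists_prime_of_norm_mem {R B : Type u} [CommRing R] [CommRing B] [Algebra R B]
    {ι : Type} [Fintype ι] (b : Module.Basis ι R B)
    (q : Ideal R) [q.IsPrime] (s : B) (hs : Algebra.norm R s ∈ q) :
    ∃ Q : Ideal B, Q.IsPrime ∧ s ∈ Q ∧ Q.comap (algebraMap R B) = q := by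
  classical
  haveI : Module.Finite R B := Module.Finite.of_basis b
  haveI : Algebra.IsIntegral R B := Algebra.IsIntegral.of_finite R B
  have hI : (Ideal.span {s}).comap (algebraMap R B) ≤ q := by
    intro r hr
    rw [Ideal.mem_comap, Ideal.mem_span_singleton'] at hr
    obtain ⟨c, hc⟩ := hr
    have h1 : Algebra.norm R (algebraMap R B r) = r ^ Fintype.card ι :=
      Algebra.norm_algebraMap_of_basis b r
    rw [← hc, map_mul] at h1
    have h2 : r ^ Fintype.card ι ∈ q := by
      rw [← h1]
      exact q.mul_mem_left _ hs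
    exact Ideal.IsPrime.mem_of_pow_mem inferInstance _ h2
  obtain ⟨Q, hQI, hQp, hQ⟩ := Ideal.exists_ideal_over_prime_of_isIntegral q (Ideal.span {s}) hI
  exact ⟨Q, hQp, hQI (Ideal.mem_span_singleton_self s), hQ⟩

end general

section integral

variable (k : Type u) [Field k] (H : Type u) [CommRing H] [HopfAlgebra k H] [Module.Finite k H]
variable (R : Type u) [CommRing R] [Algebra k R] [HopfRep.Comod k H R]
variable (hmul : ∀ x y : R, co k H R (x * y) = co k H R x * co k H R y)
  (hone : co k H R 1 = 1)
variable (A : Subalgebra k R) (hA : ∀ a : R, a ∈ A ↔ co k H R a = a ⊗ₜ[k] (1 : H))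

include hmul hone hA in
theorem coeff_mem (x : R) (n : ℕ) : (chi k H R (co k H R x)).coeff n ∈ A :=
  (hA _).2 (coeff_chi_co k H R hmul hone x n)

include hmul hone hA in
theorem isIntegral_elem (x : R) : IsIntegral A x := by
  rcases subsingleton_or_nontrivial R with hs | hn
  · have h0 : x = algebraMap A R 0 := Subsingleton.elim _ _
    rw [h0]
    exact isIntegral_algebraMap
  · have hl : chi k H R (co k H R x) ∈ Polynomial.lifts (algebraMap A R) := by
      rw [Polynomial.lifts_iff_coeff_lifts]
      intro n
      exact ⟨⟨_, coeff_mem k H R hmul hone A hA x n⟩, rfl⟩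
    obtain ⟨q, hq, -, hqm⟩ := Polynomial.lifts_and_degree_eq_and_monic hl (chi_monic k H R _)
    refine ⟨q, hqm, ?_⟩
    rw [← Polynomial.eval_map, hq]
    exact eval_chi_co k H R x

include hmul hone hA in
theorem isIntegral_invariants : Algebra.IsIntegral A R :=
  ⟨isIntegral_elem k H R hmul hone A hA⟩

include hmul hone hA in
theorem finite_invariants [Algebra.FiniteType k R] : Module.Finite A R := by
  haveI : Algebra.IsIntegral A R := isIntegral_invariants k H R hmul hone A hA
  haveI : Algebra.FiniteType A R := Algebra.FiniteType.of_restrictScalars_finiteType k A R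
  exact Algebra.IsIntegral.finite

include hmul hone hA in
theorem finiteType_invariants [Algebra.FiniteType k R] : Algebra.FiniteType k A := by
  haveI : Module.Finite A R := finite_invariants k H R hmul hone A hA
  refine ⟨fg_of_fg_of_fg k A R Algebra.FiniteType.out Module.Finite.fg_top ?_⟩
  exact Subtype.val_injective

include hmul hone hA in
theorem isNoetherianRing_invariants [Algebra.FiniteType k R] : IsNoetherianRing A := by
  haveI : Algebra.FiniteType k A := finiteType_invariants k H R hmul hone A hA
  exact Algebra.FiniteType.isNoetherianRing k A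

include hmul hone hA in
theorem norm_mem (x : R) : Algebra.norm R (co k H R x) ∈ A := by
  rw [Algebra.norm_apply, LinearMap.det_eq_sign_charpoly_coeff]
  exact A.mul_mem (pow_mem (neg_mem A.one_mem) _) (coeff_mem k H R hmul hone A hA x 0)

theorem norm_dvd (x : R) : x ∣ Algebra.norm R (co k H R x) := by
  rw [Algebra.norm_apply, LinearMap.det_eq_sign_charpoly_coeff]
  apply Dvd.dvd.mul_left
  have h0 := eval_chi_co k H R x
  obtain ⟨p, hp⟩ : ∃ p, p = chi k H R (co k H R x) := ⟨_, rfl⟩
  have h1 := congrArg (Polynomial.eval x) (Polynomial.divX_mul_X_add p)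
  rw [eval_add, eval_mul, eval_X, eval_C, hp, h0] at h1
  refine ⟨-((chi k H R (co k H R x)).divX.eval x), ?_⟩
  show (chi k H R (co k H R x)).coeff 0 = _
  linear_combination h1

include hA in
/-- **Transitivity on fibres**: two primes of `R` over the same prime of the invariants are
the contractions of one prime of `R ⊗ H` along `x ↦ x ⊗ 1` and along the coaction. -/
theorem exists_prime_comap_eq (q q' : Ideal R) [q.IsPrime] [q'.IsPrime]
    (hqq' : q.comap (algebraMap A R) = q'.comap (algebraMap A R)) :
    ∃ Q : Ideal (R ⊗[k] H), Q.IsPrime ∧ Q.comap (algebraMap R (R ⊗[k] H)) = q ∧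
      Q.comap (rho k H R hmul hone : R →+* R ⊗[k] H) = q' := by
  classical
  haveI : Algebra.IsIntegral A R := isIntegral_invariants k H R hmul hone A hA
  have hfin : (q.primesOver (R ⊗[k] H)).Finite := Algebra.QuasiFinite.finite_primesOver q
  by_contra hcon
  push Not at hcon
  have hover : ∀ Q : Ideal (R ⊗[k] H), Q.comap (algebraMap R (R ⊗[k] H)) = q →
      (Q.comap (rho k H R hmul hone : R →+* R ⊗[k] H)).comap (algebraMap A R) =
        q.comap (algebraMap A R) := by
    intro Q hQq
    ext a
    simp only [Ideal.mem_comap]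
    have h1 : (rho k H R hmul hone : R →+* R ⊗[k] H) (algebraMap A R a) =
        algebraMap R (R ⊗[k] H) (algebraMap A R a) := by
      show co k H R (a : R) = _
      rw [(hA _).1 a.2, Algebra.TensorProduct.algebraMap_apply]
      rfl
    rw [h1, ← hQq]
    rfl
  have hnle : ∀ Q ∈ hfin.toFinset,
      ¬ (q' ≤ Q.comap (rho k H R hmul hone : R →+* R ⊗[k] H)) := by
    intro Q hQ hle
    rw [Set.Finite.mem_toFinset] at hQ
    obtain ⟨hQp, hQo⟩ := hQ
    have hQq : Q.comap (algebraMap R (R ⊗[k] H)) = q := hQo.over.symm
    haveI := hQp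
    haveI : (Q.comap (rho k H R hmul hone : R →+* R ⊗[k] H)).IsPrime := Ideal.comap_isPrime _ _
    rcases eq_or_lt_of_le hle with heq | hlt
    · exact hcon Q hQp hQq heq.symm
    · have h2 := Ideal.IsIntegral.comap_lt_comap (R := A) hlt
      rw [hover Q hQq, hqq'] at h2
      exact lt_irrefl _ h2
  have hnot : ¬ ((q' : Set R) ⊆ ⋃ Q ∈ (hfin.toFinset : Set (Ideal (R ⊗[k] H))),
      ((Q.comap (rho k H R hmul hone : R →+* R ⊗[k] H) : Ideal R) : Set R)) := by
    rw [Ideal.subset_union_prime
      (f := fun Q : Ideal (R ⊗[k] H) => Q.comap (rho k H R hmul hone : R →+* R ⊗[k] H)) ⊥ ⊥]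
    · push Not
      exact hnle
    · intro Q hQ _ _
      rw [Set.Finite.mem_toFinset] at hQ
      haveI := hQ.1
      exact Ideal.comap_isPrime _ _
  rw [Set.not_subset] at hnot
  obtain ⟨x, hxq', hx⟩ := hnot
  have hN : Algebra.norm R (co k H R x) ∈ q := by
    have h1 : Algebra.norm R (co k H R x) ∈ q' := by
      obtain ⟨y, hy⟩ := norm_dvd k H R x
      rw [hy]
      exact q'.mul_mem_right _ hxq'
    have h2 := norm_mem k H R hmul hone A hA x
    have h3 : (⟨_, h2⟩ : A) ∈ q'.comap (algebraMap A R) := h1
    rw [← hqq'] at h3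
    exact h3
  obtain ⟨Q, hQp, hsQ, hQq⟩ := exists_prime_of_norm_mem
    (Algebra.TensorProduct.basis R (Module.finBasis k H)) q (co k H R x) hN
  apply hx
  simp only [Set.mem_iUnion]
  refine ⟨Q, ?_, hsQ⟩
  rw [Finset.mem_coe, Set.Finite.mem_toFinset]
  exact ⟨hQp, ⟨hQq.symm⟩⟩

/-- the shear automorphism of `R ⊗ H` -/
noncomputable def shear : (R ⊗[k] H) ≃+* (R ⊗[k] H) :=
  RingEquiv.ofRingHom
    (Groth.Agent.Lib.ComodInvNormalH1.psi k H R hmul hone : R ⊗[k] H →+* R ⊗[k] H)
    (Groth.Agent.Lib.ComodInvNormalH1.psi' k H R hmul hone : R ⊗[k] H →+* R ⊗[k] H)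
    (RingHom.ext fun y => Groth.Agent.Lib.ComodInvNormalH1.psi_psi' k H R hmul hone y)
    (RingHom.ext fun y => by
      show Groth.Agent.Lib.ComodInvNormalH1.psi' k H R hmul hone
        (Groth.Agent.Lib.ComodInvNormalH1.psi k H R hmul hone y) = y
      induction y using TensorProduct.induction_on with
      | zero => simp
      | tmul a b =>
        rw [Groth.Agent.Lib.ComodInvNormalH1.psi_tmul, map_mul,
          Groth.Agent.Lib.ComodInvNormalH1.psi'_co,
          Groth.Agent.Lib.ComodInvNormalH1.psi'_tmul, map_one, one_mul,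
          Algebra.TensorProduct.tmul_mul_tmul, mul_one, one_mul]
      | add y1 y2 h1 h2 => rw [map_add, map_add, h1, h2])

theorem shear_algebraMap (x : R) :
    shear k H R hmul hone (algebraMap R (R ⊗[k] H) x) = co k H R x := by
  rw [Algebra.TensorProduct.algebraMap_apply]
  show Groth.Agent.Lib.ComodInvNormalH1.psi k H R hmul hone (x ⊗ₜ[k] (1 : H)) = _
  rw [Groth.Agent.Lib.ComodInvNormalH1.psi_tmul, ← Algebra.TensorProduct.one_def, mul_one]

include hmul hone hA in
/-- primes of `R` over the same prime of the invariants have the same height -/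
theorem height_eq_of_comap_eq [IsNoetherianRing R] (q q' : Ideal R) [q.IsPrime] [q'.IsPrime]
    (hqq' : q.comap (algebraMap A R) = q'.comap (algebraMap A R)) :
    q.height = q'.height := by
  obtain ⟨Q, hQp, hQq, hQq'⟩ := exists_prime_comap_eq k H R hmul hone A hA q q' hqq'
  haveI := hQp
  have h1 : q.height = Q.height := by
    rw [← hQq]
    exact height_under_of_flat_of_quasiFinite Q
  have h2 : Q.comap (rho k H R hmul hone : R →+* R ⊗[k] H) =
      (Q.comap (shear k H R hmul hone)).comap (algebraMap R (R ⊗[k] H)) := by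
    ext x
    simp only [Ideal.mem_comap]
    rw [shear_algebraMap]
    rfl
  haveI : (Q.comap (shear k H R hmul hone)).IsPrime := Ideal.comap_isPrime _ _
  have h3 : ((Q.comap (shear k H R hmul hone)).comap (algebraMap R (R ⊗[k] H))).height =
      (Q.comap (shear k H R hmul hone)).height :=
    height_under_of_flat_of_quasiFinite (Q.comap (shear k H R hmul hone))
  rw [h1, ← hQq', h2, h3, RingEquiv.height_comap]

end integral

end Groth.Agent.Lib.HopfInvH3
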