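import Mathlib
import Groth.Prelude.Def_HopfRep
import Groth.Prelude.Def_CAlg
import Groth.Agent.Lib.HopfInv2_helper3
import Groth.Agent.Lib.LinRed_helper9
import Groth.Agent.Lib.FiniteRestrictCor_helper6
import Groth.Agent.Lib.DepthRefl_helper5
import Groth.Agent.Lib.DepthLoc_helper5

/-!
# Invariants of a linearly reductive finite Hopf coaction: Serre's conditions and
Cohen–Macaulayness descend (helper3)
-/

set_option autoImplicit false
set_option linter.style.haveILetI false
set_option maxHeartbeats 400000
set_option linter.unusedSectionVars false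
set_option linter.unusedSimpArgs false

namespace Groth.Agent.Lib.HopfInvH3

open TensorProduct CategoryTheory

universe u

section retract

theorem ext_subsingleton_of_retract {A : Type u} [CommRing A] (X M N : ModuleCat.{u} A)
    (i : N ⟶ M) (r : M ⟶ N) (h : i ≫ r = 𝟙 N) (n : ℕ)
    (hM : Subsingleton (Abelian.Ext X M n)) : Subsingleton (Abelian.Ext X N n) := by
  refine ⟨fun x y => ?_⟩
  have key : ∀ z : Abelian.Ext X N n, z = 0 := by
    intro z
    have h1 : z = (z.comp (Abelian.Ext.mk₀ i) (add_zero n)).comp (Abelian.Ext.mk₀ r)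
        (add_zero n) := by
      rw [Abelian.Ext.comp_assoc_of_third_deg_zero, Abelian.Ext.mk₀_comp_mk₀, h,
        Abelian.Ext.comp_mk₀_id]
    rw [h1, Subsingleton.elim (z.comp (Abelian.Ext.mk₀ i) (add_zero n)) 0,
      Abelian.Ext.zero_comp]
  rw [key x, key y]

/-- a retract of a module has at least its depth -/
theorem idealDepth_le_of_retract {A : Type u} [CommRing A] [IsNoetherianRing A] (I : Ideal A)
    (M N : Type u) [AddCommGroup M] [Module A M] [Module.Finite A M]
    [AddCommGroup N] [Module A N] [Module.Finite A N]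
    (i : N →ₗ[A] M) (r : M →ₗ[A] N) (hri : ∀ x, r (i x) = x) :
    LocCoh.idealDepth I M ≤ LocCoh.idealDepth I N := by
  rw [← ENat.forall_natCast_le_iff_le]
  intro n hn
  rw [Groth.Agent.DepthLib.le_idealDepth_iff_ext] at hn ⊢
  intro j hj
  refine ext_subsingleton_of_retract _ (ModuleCat.of A M) (ModuleCat.of A N)
    (ModuleCat.ofHom i) (ModuleCat.ofHom r) ?_ j (hn j hj)
  ext x
  exact hri x

theorem le_of_forall_min_le (d : WithBot ℕ∞) (e : ℕ∞)
    (h : ∀ r : ℕ, min ((r : ℕ) : WithBot ℕ∞) d ≤ ((e : ℕ∞) : WithBot ℕ∞)) :
    d ≤ ((e : ℕ∞) : WithBot ℕ∞) := by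
  induction d using WithBot.recBotCoe with
  | bot => exact bot_le
  | coe a =>
    rw [WithBot.coe_le_coe]
    induction a using ENat.recTopCoe with
    | top =>
      rw [top_le_iff, ENat.eq_top_iff_forall_ge]
      intro m
      have h1 := h m
      have h2 : min ((m : ℕ) : WithBot ℕ∞) ((⊤ : ℕ∞) : WithBot ℕ∞) = ((m : ℕ∞) : WithBot ℕ∞) := by
        apply min_eq_left
        exact WithBot.coe_le_coe.2 le_top
      rw [h2] at h1
      exact WithBot.coe_le_coe.1 h1
    | coe n =>
      have h1 := h n
      have h2 : min ((n : ℕ) : WithBot ℕ∞) (((n : ℕ∞)) : WithBot ℕ∞) =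
          ((n : ℕ∞) : WithBot ℕ∞) := min_self _
      rw [h2] at h1
      exact WithBot.coe_le_coe.1 h1

end retract

section main

variable (k : Type u) [Field k] (H : Type u) [CommRing H] [HopfAlgebra k H]
variable (R : Type u) [CommRing R] [Algebra k R] [HopfRep.Comod k H R]
variable (hmul : ∀ x y : R, co k H R (x * y) = co k H R x * co k H R y)
  (hone : co k H R 1 = 1)
variable (A : Subalgebra k R) (hA : ∀ a : R, a ∈ A ↔ co k H R a = a ⊗ₜ[k] (1 : H))

include hmul hA in
/-- the Reynolds operator gives an `A`-linear retraction of `A ⊆ R` -/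
theorem exists_retraction (hG : HopfRep.IsLinearlyReductive k H) :
    ∃ π : R →ₗ[A] A, ∀ a : A, π (a : R) = a := by
  obtain ⟨α, hint, h1⟩ :=
    Groth.Agent.Lib.LinRed_helper9.exists_totalIntegral_of_isLinearlyReductive k H hG
  obtain ⟨β, hβdef⟩ : ∃ β : H →ₗ[k] k, β = α ∘ₗ HopfAlgebraStruct.antipode k (A := H) :=
    ⟨_, rfl⟩
  have hβ : ∀ a : H, Groth.Agent.Lib.LinRed_helper9.hB k H β H
      (CoalgebraStruct.comul (R := k) a) = β a • (1 : H) := by
    rw [hβdef]
    exact Groth.Agent.Lib.LinRed_helper9.leftIntegral k H α hint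
  have hβ1 : β 1 = 1 := by
    rw [hβdef, LinearMap.comp_apply, HopfAlgebra.antipode_one, h1]
  obtain ⟨E, hE⟩ : ∃ E : R →ₗ[k] R, E = Groth.Agent.Lib.LinRed_helper9.rey k H β R := ⟨_, rfl⟩
  have hE_mem : ∀ x, E x ∈ A := by
    intro x
    rw [hE]
    exact (hA _).2 (Groth.Agent.Lib.LinRed_helper9.rey_mem_fixedPts k H β R hβ x)
  have hE_fix : ∀ a : A, E (a : R) = a := by
    intro a
    rw [hE]
    exact Groth.Agent.Lib.LinRed_helper9.rey_of_mem_fixedPts k H β R hβ1 a ((hA _).1 a.2)
  have hE_lin : ∀ (a : A) (x : R), E ((a : R) * x) = (a : R) * E x := by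
    intro a x
    have hcm : Hoch.IsComodHom H (LinearMap.mulLeft k (a : R)) := by
      unfold Hoch.IsComodHom
      ext y
      simp only [LinearMap.comp_apply, LinearMap.mulLeft_apply]
      have h2 : HopfRep.Comod.coact (k := k) (A := H) ((a : R) * y) =
          ((a : R) ⊗ₜ[k] (1 : H)) * HopfRep.Comod.coact (k := k) (A := H) y := by
        rw [hmul, (hA _).1 a.2]
      rw [h2]
      generalize HopfRep.Comod.coact (k := k) (A := H) y = t
      induction t using TensorProduct.induction_on with
      | zero => simp
      | tmul u v =>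
        rw [Algebra.TensorProduct.tmul_mul_tmul, one_mul, LinearMap.rTensor_tmul,
          LinearMap.mulLeft_apply]
      | add t1 t2 h1 h2 => rw [mul_add, map_add, h1, h2]
    rw [hE]
    exact (Groth.Agent.Lib.LinRed_helper9.rey_natural k H β R
      (LinearMap.mulLeft k (a : R)) hcm x).symm
  refine ⟨{ toFun := fun x => ⟨E x, hE_mem x⟩
            map_add' := fun x y => Subtype.ext (map_add E x y)
            map_smul' := fun a x => Subtype.ext ?_ }, fun a => Subtype.ext (hE_fix a)⟩
  show E ((a : R) * x) = (a : R) * E x
  exact hE_lin a x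

variable [Module.Finite k H] [Algebra.FiniteType k R]

include hmul hone hA in
theorem hasSk_restrict (r : ℕ) (hR : LocCoh.HasSk r R R) :
    haveI : IsNoetherianRing A := isNoetherianRing_invariants k H R hmul hone A hA
    LocCoh.HasSk r A R := by
  haveI : IsNoetherianRing R := Algebra.FiniteType.isNoetherianRing k R
  haveI : IsNoetherianRing A := isNoetherianRing_invariants k H R hmul hone A hA
  haveI : Module.Finite A R := finite_invariants k H R hmul hone A hA
  apply Groth.Agent.Lib.FiniteRestrictCor_helper6.hasSk_A_of_B r A R R _ hR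
  intro q _ q' _ hqq'
  rw [Groth.Agent.DepthLib.supportDim_locSelf, Groth.Agent.DepthLib.supportDim_locSelf,
    height_eq_of_comap_eq k H R hmul hone A hA q.asIdeal q'.asIdeal hqq']

include hmul hone hA in
/-- `R_p` is a faithful `A_p`-module: its support has the dimension of `A_p` -/
theorem supportDim_loc_eq (p : Ideal A) [p.IsPrime] :
    Module.supportDim (Localization.AtPrime p) (LocalizedModule p.primeCompl R) =
      ringKrullDim (Localization.AtPrime p) := by
  apply le_antisymm (Module.supportDim_le_ringKrullDim _ _)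
  have h1 : Module.supportDim (Localization.AtPrime p) (LocalizedModule p.primeCompl A) ≤
      Module.supportDim (Localization.AtPrime p) (LocalizedModule p.primeCompl R) :=
    Module.supportDim_le_of_injective
      (LocalizedModule.map p.primeCompl (Algebra.linearMap A R))
      (LocalizedModule.map_injective _ _ Subtype.val_injective)
  rw [Groth.Agent.DepthLib.supportDim_locSelf] at h1
  rwa [IsLocalization.AtPrime.ringKrullDim_eq_height p]

include hmul hone hA in
theorem depth_loc_le (hG : HopfRep.IsLinearlyReductive k H) (p : Ideal A) [p.IsPrime] :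
    LocCoh.depth (Localization.AtPrime p) (LocalizedModule p.primeCompl R) ≤
      LocCoh.depth (Localization.AtPrime p) (LocalizedModule p.primeCompl A) := by
  haveI : IsNoetherianRing A := isNoetherianRing_invariants k H R hmul hone A hA
  haveI : Module.Finite A R := finite_invariants k H R hmul hone A hA
  haveI : IsNoetherianRing (Localization.AtPrime p) :=
    IsLocalization.isNoetherianRing p.primeCompl _ inferInstance
  haveI : Module.Finite (Localization.AtPrime p) (LocalizedModule p.primeCompl R) :=
    Module.Finite.of_isLocalizedModule p.primeCompl (LocalizedModule.mkLinearMap p.primeCompl R)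
  haveI : Module.Finite (Localization.AtPrime p) (LocalizedModule p.primeCompl A) :=
    Module.Finite.of_isLocalizedModule p.primeCompl (LocalizedModule.mkLinearMap p.primeCompl A)
  obtain ⟨π, hπ⟩ := exists_retraction k H R hmul A hA hG
  unfold LocCoh.depth
  refine idealDepth_le_of_retract _ _ _
    (LocalizedModule.map p.primeCompl (Algebra.linearMap A R))
    (LocalizedModule.map p.primeCompl π) ?_
  intro x
  induction x using LocalizedModule.induction_on with
  | h a s =>
    rw [LocalizedModule.map_mk, LocalizedModule.map_mk]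
    congr 1
    exact hπ a

include hmul hone hA in
theorem main_Sk (hG : HopfRep.IsLinearlyReductive k H) (r : ℕ) (hR : LocCoh.HasSk r R R) :
    LocCoh.HasSk r A R ∧ LocCoh.HasSk r A A := by
  have h1 : LocCoh.HasSk r A R := hasSk_restrict k H R hmul hone A hA r hR
  refine ⟨h1, ?_⟩
  intro p hp
  have h2 := h1 p
  rw [supportDim_loc_eq k H R hmul hone A hA p] at h2
  rw [Groth.Agent.DepthLib.supportDim_locSelf,
    ← IsLocalization.AtPrime.ringKrullDim_eq_height p (Localization.AtPrime p)]
  exact le_trans h2 (WithBot.coe_le_coe.2 (depth_loc_le k H R hmul hone A hA hG p))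

include hmul hone hA in
theorem main_CM (hG : HopfRep.IsLinearlyReductive k H) (hR : LocCoh.IsCohenMacaulayRing R) :
    LocCoh.IsCohenMacaulayRing A ∧ ∀ (p : Ideal A) [p.IsPrime],
      LocCoh.IsCohenMacaulayModule (Localization.AtPrime p) (LocalizedModule p.primeCompl R) ∧
        Module.supportDim (Localization.AtPrime p) (LocalizedModule p.primeCompl R) =
          ringKrullDim (Localization.AtPrime p) := by
  haveI : IsNoetherianRing R := Algebra.FiniteType.isNoetherianRing k R
  haveI : IsNoetherianRing A := isNoetherianRing_invariants k H R hmul hone A hA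
  haveI : Module.Finite A R := finite_invariants k H R hmul hone A hA
  have hSkR : ∀ r : ℕ, LocCoh.HasSk r R R := by
    intro r q hq
    have h1 := (hR.isCohenMacaulayLocalRing_localization q).supportDim_eq_depth
    rw [Groth.Agent.DepthLib.supportDim_locSelf, Groth.Agent.DepthLib.depth_locSelf, ← h1,
      Module.supportDim_self_eq_ringKrullDim, IsLocalization.AtPrime.ringKrullDim_eq_height q]
    exact min_le_right _ _
  have hSk : ∀ r : ℕ, LocCoh.HasSk r A R := fun r =>
    (main_Sk k H R hmul hone A hA hG r (hSkR r)).1
  have hmod : ∀ (p : Ideal A) [p.IsPrime],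
      Module.supportDim (Localization.AtPrime p) (LocalizedModule p.primeCompl R) =
        ((LocCoh.depth (Localization.AtPrime p) (LocalizedModule p.primeCompl R) : ℕ∞) :
          WithBot ℕ∞) := by
    intro p hp
    haveI : IsNoetherianRing (Localization.AtPrime p) :=
      IsLocalization.isNoetherianRing p.primeCompl _ inferInstance
    haveI : Module.Finite (Localization.AtPrime p) (LocalizedModule p.primeCompl R) :=
      Module.Finite.of_isLocalizedModule p.primeCompl
        (LocalizedModule.mkLinearMap p.primeCompl R)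
    haveI : Nontrivial (LocalizedModule p.primeCompl R) := by
      rw [← Module.supportDim_ne_bot_iff_nontrivial (Localization.AtPrime p),
        supportDim_loc_eq k H R hmul hone A hA p]
      exact ringKrullDim_ne_bot
    apply le_antisymm
    · exact le_of_forall_min_le _ _ (fun r => hSk r p)
    · exact Groth.Agent.DepthLib.depth_le_supportDim _ _
  refine ⟨?_, fun p hp => ⟨hmod p, supportDim_loc_eq k H R hmul hone A hA p⟩⟩
  refine ⟨fun p hp => ?_⟩
  haveI : IsNoetherianRing (Localization.AtPrime p) :=
    IsLocalization.isNoetherianRing p.primeCompl _ inferInstance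
  refine @LocCoh.IsCohenMacaulayLocalRing.mk _ _ inferInstance inferInstance ?_
  apply le_antisymm
  · rw [Module.supportDim_self_eq_ringKrullDim, ← supportDim_loc_eq k H R hmul hone A hA p,
      hmod p, ← Groth.Agent.DepthLib.depth_locSelf]
    exact WithBot.coe_le_coe.2 (depth_loc_le k H R hmul hone A hA hG p)
  · exact Groth.Agent.DepthLib.depth_le_supportDim _ _

end main

end Groth.Agent.Lib.HopfInvH3
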