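import Groth.Agent.Lib.ComodFlag_helper9
import Groth.Agent.Lib.Comod_helper9

/-!
# Unipotent groups: flags with trivial graded pieces (helper9)

* `HasTrivFlag k A V`: `V` has a finite chain of subcomodules from `0` to `V` with trivial coaction on
  the successive quotients.
* `hasTrivFlag_of_isUnipotent`, `isUnipotent_of_hasTrivFlag`.
* `act_sub_one_pow_eq_zero`: on a comodule with such a flag of length `m`, `(g - 1)^m = 0` for every
  point `g`.

APPEND-ONLY once landed.
-/

set_option autoImplicit false
universe u v w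

open TensorProduct

namespace Groth.Agent.Lib.UnipFlag_helper9

open Groth.Agent.Lib.Comod_helper9 Groth.Agent.Lib.ComodDual_helper9 Groth.Agent.Lib.ComodFlag_helper9

variable (k : Type u) [Field k] (A : Type v) [CommRing A] [HopfAlgebra k A]

/-- a finite flag of subcomodules with trivial coaction on the graded pieces -/
def HasTrivFlag (V : Type w) [AddCommGroup V] [Module k V] [HopfRep.Comod k A V] : Prop :=
  ∃ (m : ℕ) (F : ℕ → Submodule k V), Monotone F ∧ F 0 = ⊥ ∧ F m = ⊤ ∧
    (∀ i, HopfRep.IsSubcomod (k := k) (A := A) (F i)) ∧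
    ∀ i, ∀ v ∈ F (i + 1),
      HopfRep.Comod.coact (k := k) (A := A) v - v ⊗ₜ[k] (1 : A) ∈
        LinearMap.range ((F i).subtype.rTensor A)

theorem isSubcomod_fixedPts' (V : Type w) [AddCommGroup V] [Module k V] [HopfRep.Comod k A V] :
    HopfRep.IsSubcomod (k := k) (A := A) (HopfRep.fixedPts k A V) := by
  intro w hw
  have hw' : HopfRep.Comod.coact (k := k) (A := A) w = w ⊗ₜ[k] (1 : A) := hw
  rw [hw']
  exact ⟨(⟨w, hw⟩ : HopfRep.fixedPts k A V) ⊗ₜ[k] (1 : A), by rw [LinearMap.rTensor_tmul]; rfl⟩

theorem hasTrivFlag_of_isUnipotent (hU : HopfRep.IsUnipotent k A) :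
    ∀ (n : ℕ) (V : Type v) [AddCommGroup V] [Module k V] [HopfRep.Comod k A V],
      Module.Finite k V → Module.finrank k V = n → HasTrivFlag k A V := by
  intro n
  induction n using Nat.strong_induction_on with
  | _ n ih =>
    intro V _ _ c hfin hn
    by_cases hnt : Nontrivial V
    · -- the fixed vectors
      have hF₁ne : HopfRep.fixedPts k A V ≠ ⊥ := hU V hfin hnt
      have hF₁ : HopfRep.IsSubcomod (k := k) (A := A) (HopfRep.fixedPts k A V) :=
        isSubcomod_fixedPts' k A V
      set F₁ : Submodule k V := HopfRep.fixedPts k A V with hF₁def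
      letI cQ : HopfRep.Comod k A (V ⧸ F₁) := ComodSub.Comod.quot c F₁ hF₁
      have hmkQ : Hoch.IsComodHom A F₁.mkQ := ComodSub.isComodHom_mkQ c F₁ hF₁
      have hlt : Module.finrank k (V ⧸ F₁) < n := by
        have h1 := Submodule.finrank_quotient_add_finrank F₁
        have h2 : 0 < Module.finrank k F₁ := by
          rw [Module.finrank_pos_iff]
          exact (Submodule.nontrivial_iff_ne_bot).mpr hF₁ne
        omega
      obtain ⟨m', F', hmono', h0', hm', hsub', hgr'⟩ :=
        ih _ hlt (V ⧸ F₁) inferInstance rfl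
      let F : ℕ → Submodule k V := fun i =>
        match i with
        | 0 => ⊥
        | j + 1 => (F' j).comap F₁.mkQ
      have hF0 : F 0 = ⊥ := rfl
      have hFs : ∀ j, F (j + 1) = (F' j).comap F₁.mkQ := fun j => rfl
      refine ⟨m' + 1, F, ?_, hF0, ?_, ?_, ?_⟩
      · apply monotone_nat_of_le_succ
        intro i
        cases i with
        | zero => rw [hF0]; exact bot_le
        | succ j =>
          rw [hFs, hFs]
          exact Submodule.comap_mono (hmono' (Nat.le_succ j))
      · rw [hFs, hm', Submodule.comap_top]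
      · intro i
        cases i with
        | zero => rw [hF0]; exact isSubcomod_bot
        | succ j =>
          rw [hFs]
          exact isSubcomod_comap F₁.mkQ hmkQ (F' j) (hsub' j)
      · intro i v hv
        cases i with
        | zero =>
          rw [hFs, h0'] at hv
          have hv' : F₁.mkQ v = 0 := hv
          have hv'' : v ∈ F₁ := by
            rw [← Submodule.ker_mkQ F₁]; exact hv'
          have hv3 : HopfRep.Comod.coact (k := k) (A := A) v = v ⊗ₜ[k] (1 : A) := hv''
          rw [hv3, sub_self]
          exact Submodule.zero_mem _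
        | succ j =>
          rw [hFs] at hv
          have hv' : F₁.mkQ v ∈ F' (j + 1) := hv
          have h1 := hgr' j (F₁.mkQ v) hv'
          rw [mem_range_subtype_rTensor_iff] at h1
          have hker : LinearMap.ker ((F' j).mkQ ∘ₗ F₁.mkQ) = F (j + 1) := by
            rw [LinearMap.ker_comp, Submodule.ker_mkQ]
          have h2 : cQ.coact (F₁.mkQ v) = F₁.mkQ.rTensor A (c.coact v) := rfl
          rw [← hker, ← ker_rTensor_eq_range, LinearMap.mem_ker, LinearMap.rTensor_comp,
            LinearMap.comp_apply, map_sub, LinearMap.rTensor_tmul, ← h2]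
          exact h1
    · -- the zero module
      have hss : Subsingleton V := not_nontrivial_iff_subsingleton.mp hnt
      refine ⟨0, fun _ => ⊥, monotone_const, rfl, ?_, fun _ => isSubcomod_bot, ?_⟩
      · exact Subsingleton.elim _ _
      · intro i v _
        rw [Subsingleton.elim v 0, map_zero, TensorProduct.zero_tmul, sub_self]
        exact Submodule.zero_mem _

theorem isUnipotent_of_hasTrivFlag
    (h : ∀ (V : Type v) [AddCommGroup V] [Module k V] [HopfRep.Comod k A V],
      Module.Finite k V → HasTrivFlag k A V) : HopfRep.IsUnipotent k A := by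
  classical
  intro V _ _ c hfin hnt
  obtain ⟨m, F, hmono, h0, hm, hsub, hgr⟩ := h V hfin
  have hex : ∃ i, F i ≠ ⊥ := ⟨m, by rw [hm]; exact top_ne_bot⟩
  have hi := Nat.find_spec hex
  have hipos : Nat.find hex ≠ 0 := by
    intro h00
    rw [h00] at hi
    exact hi h0
  obtain ⟨j, hj⟩ := Nat.exists_eq_succ_of_ne_zero hipos
  have hjbot : F j = ⊥ := by
    by_contra hne
    exact Nat.find_min hex (by omega : j < Nat.find hex) hne
  have hle : F (j + 1) ≤ HopfRep.fixedPts k A V := by
    intro v hv
    have h1 := hgr j v hv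
    obtain ⟨y, hy⟩ := h1
    have hy0 : y = 0 := by
      haveI : Subsingleton (F j) := by
        rw [hjbot]; infer_instance
      haveI : Subsingleton ((F j) ⊗[k] A) := inferInstance
      exact Subsingleton.elim _ _
    rw [hy0, map_zero] at hy
    show HopfRep.Comod.coact (k := k) (A := A) v = v ⊗ₜ[k] (1 : A)
    exact (sub_eq_zero.mp hy.symm)
  intro hbot
  rw [hbot, le_bot_iff] at hle
  rw [hj] at hi
  exact hi hle

/-- `(id ⊗ g)` maps the image of `W ⊗ A` into `W` -/
theorem ev_rTensor_subtype_mem {V : Type w} [AddCommGroup V] [Module k V] (W : Submodule k V)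
    (φ : A →ₗ[k] k) (y : W ⊗[k] A) : ev V φ (W.subtype.rTensor A y) ∈ W := by
  rw [ev_rTensor]
  exact (ev W φ y).2

theorem act_sub_one_pow_eq_zero {V : Type w} [AddCommGroup V] [Module k V] [HopfRep.Comod k A V]
    (g : A →ₐ[k] k) (m : ℕ) (F : ℕ → Submodule k V) (h0 : F 0 = ⊥) (hm : F m = ⊤)
    (hgr : ∀ i, ∀ v ∈ F (i + 1),
      HopfRep.Comod.coact (k := k) (A := A) v - v ⊗ₜ[k] (1 : A) ∈
        LinearMap.range ((F i).subtype.rTensor A)) :
    (HopfRep.Comod.act k A V g - 1) ^ m = 0 := by
  have hact : ∀ v, HopfRep.Comod.act k A V g v =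
      ev V g.toLinearMap (HopfRep.Comod.coact (k := k) (A := A) v) := fun v => rfl
  have hN : ∀ i, ∀ v ∈ F (i + 1), (HopfRep.Comod.act k A V g - 1) v ∈ F i := by
    intro i v hv
    obtain ⟨y, hy⟩ := hgr i v hv
    have h1 : (HopfRep.Comod.act k A V g - 1) v =
        ev V g.toLinearMap (HopfRep.Comod.coact (k := k) (A := A) v - v ⊗ₜ[k] (1 : A)) := by
      rw [LinearMap.sub_apply, hact, map_sub, ev_tmul]
      have : g.toLinearMap (1 : A) = 1 := map_one g
      rw [this, one_smul]
      rfl
    rw [h1, ← hy]
    exact ev_rTensor_subtype_mem k A (F i) g.toLinearMap y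
  have hpow : ∀ j, ∀ v ∈ F j, ((HopfRep.Comod.act k A V g - 1) ^ j) v = 0 := by
    intro j
    induction j with
    | zero =>
      intro v hv
      rw [h0, Submodule.mem_bot] at hv
      rw [hv, map_zero]
    | succ j ih =>
      intro v hv
      rw [pow_succ, Module.End.mul_apply]
      exact ih _ (hN j v hv)
  apply LinearMap.ext
  intro v
  rw [LinearMap.zero_apply]
  exact hpow m v (by rw [hm]; exact Submodule.mem_top)

end Groth.Agent.Lib.UnipFlag_helper9
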