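import Groth.Agent.Lib.HopfNormalG_helper1
import Groth.Agent.Lib.PointAct_helper9

/-!
# Normal Hopf ideals of finitely generated Hopf algebras (helper1)

For `A` finitely generated and `π : A → K` a normal surjection, `ker π` is generated by the
augmentation ideal of the coinvariants.  Consequence: a normal subgroup of an affine algebraic group
is the kernel of a finite-dimensional representation (S7969).
-/

set_option autoImplicit false
set_option maxHeartbeats 1000000

universe u

open TensorProduct WithConv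

namespace HopfNrmH1

open Groth.Agent.Lib.HopfFFH1 Groth.Agent.Lib.ComodDual_helper9 Groth.Agent.Lib.ComodFlag_helper9

section CT

variable {k : Type u} [Field k] {A K : Type u} [CommRing A] [CommRing K] [HopfAlgebra k A]
  [HopfAlgebra k K] {π : A →ₐc[k] K}

theorem nrm_of_sga3 (k A : Type u) [Field k] [CommRing A] [HopfAlgebra k A] (I : Ideal A)
    [I.IsHopfIdeal k] (hI : SGA3.IsNormalHopfIdeal k A I) :
    Nrm (Bialgebra.Quotient.mkBialgHom I : A →ₐc[k] A ⧸ I) := by
  intro R _ _ g h hle a ha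
  rw [ker_mkBialgHom] at hle ha
  rw [RingHom.mem_ker]
  have h1 := hI R g h (fun a ha => RingHom.mem_ker.mp (hle ha)) a ha
  rw [PointAct9.conv3_eq] at h1
  show (cm (cm g h) (ci g)) a = 0
  simp only [cm, ci, toConv_ofConv]
  exact h1

/-- on coinvariants `π` is the counit -/
theorem pi_eq_counit_of_mem (hπ : Function.Surjective (π : A →ₐ[k] K)) (hn : Nrm π) {b : A}
    (hb : b ∈ coinvR π) : π b = algebraMap k K (Coalgebra.counit (R := k) b) := by
  have h1 := (mem_coinvL_iff π).mp (coinvR_le_coinvL hn hπ hb) K (AlgHom.id k K) c1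
  rw [AlgHom.id_comp, cm_c1, c1_apply] at h1
  exact h1

theorem span_le_ker (hπ : Function.Surjective (π : A →ₐ[k] K)) (hn : Nrm π) :
    Ideal.span {b : A | b ∈ coinvR π ∧ Coalgebra.counit (R := k) b = 0} ≤
      RingHom.ker (π : A →ₐ[k] K) := by
  rw [Ideal.span_le]
  rintro b ⟨hb, hb0⟩
  have h1 := pi_eq_counit_of_mem hπ hn hb
  rw [hb0, map_zero] at h1
  exact RingHom.mem_ker.mpr h1

theorem ker_le_span_fg [Algebra.FiniteType k A] (hπ : Function.Surjective (π : A →ₐ[k] K))
    (hn : Nrm π) :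
    RingHom.ker (π : A →ₐ[k] K) ≤
      Ideal.span {b : A | b ∈ coinvR π ∧ Coalgebra.counit (R := k) b = 0} := by
  haveI : IsHopfSub (coinvR π) := isHopfSub_of_sga3 (coinvR_isHopfSubalgebra hn hπ)
  have hq : Function.Surjective ((Bialgebra.Quotient.mkBialgHom (augIdeal (subVal (coinvR π))) :
      A →ₐc[k] A ⧸ augIdeal (subVal (coinvR π))) : A →ₐ[k] A ⧸ augIdeal (subVal (coinvR π))) :=
    mkBialgHom_surjective _
  have hker := ker_mkBialgHom (k := k) (augIdeal (subVal (coinvR π)))
  have hJle : RingHom.ker ((Bialgebra.Quotient.mkBialgHom (augIdeal (subVal (coinvR π))) :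
      A →ₐc[k] A ⧸ augIdeal (subVal (coinvR π))) : A →ₐ[k] A ⧸ augIdeal (subVal (coinvR π))) ≤
      RingHom.ker (π : A →ₐ[k] K) := by
    rw [hker, ← comp_eq_c1_iff]
    ext b
    exact pi_eq_counit_of_mem hπ hn b.2
  have hπ' := descBialg_comp _ hq π hJle
  have hπ's : Function.Surjective ((descBialg _ hq π hJle :
      A ⧸ augIdeal (subVal (coinvR π)) →ₐc[k] K) : A ⧸ augIdeal (subVal (coinvR π)) →ₐ[k] K) := by
    intro y
    obtain ⟨x, rfl⟩ := hπ y
    exact ⟨_, AlgHom.congr_fun hπ' x⟩
  have hn' : Nrm (descBialg _ hq π hJle) := by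
    intro R _ _ g' h' hle z hz
    obtain ⟨x, rfl⟩ := hq z
    have hx : x ∈ RingHom.ker (π : A →ₐ[k] K) := by
      rw [RingHom.mem_ker] at hz ⊢
      rw [← hπ']
      exact hz
    have hle' : RingHom.ker (π : A →ₐ[k] K) ≤ RingHom.ker (h'.comp
        ((Bialgebra.Quotient.mkBialgHom (augIdeal (subVal (coinvR π))) :
          A →ₐc[k] A ⧸ augIdeal (subVal (coinvR π))) :
          A →ₐ[k] A ⧸ augIdeal (subVal (coinvR π)))) := by
      intro a ha
      rw [RingHom.mem_ker] at ha ⊢
      rw [AlgHom.comp_apply]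
      apply RingHom.mem_ker.mp
      apply hle
      rw [RingHom.mem_ker]
      rw [← hπ'] at ha
      exact ha
    have h1 := hn R (g'.comp ((Bialgebra.Quotient.mkBialgHom (augIdeal (subVal (coinvR π))) :
          A →ₐc[k] A ⧸ augIdeal (subVal (coinvR π))) :
          A →ₐ[k] A ⧸ augIdeal (subVal (coinvR π)))) (h'.comp
        ((Bialgebra.Quotient.mkBialgHom (augIdeal (subVal (coinvR π))) :
          A →ₐc[k] A ⧸ augIdeal (subVal (coinvR π))) :
          A →ₐ[k] A ⧸ augIdeal (subVal (coinvR π)))) hle' hx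
    rw [← ci_comp, ← cm_comp, ← cm_comp] at h1
    exact h1
  have htriv : ∀ z ∈ coinvR (descBialg _ hq π hJle), ∃ c : k, z = algebraMap k _ c := fun z hz =>
    trivial_coinvL _ (descBialg _ hq π hJle) hq hker hπ'
      (fun a => by rw [coinvL_eq_coinvR hn hπ]) z (coinvR_le_coinvL hn' hπ's hz)
  haveI : Algebra.FiniteType k (A ⧸ augIdeal (subVal (coinvR π))) :=
    Algebra.FiniteType.of_surjective
      ((Bialgebra.Quotient.mkBialgHom (augIdeal (subVal (coinvR π))) :
        A →ₐc[k] A ⧸ augIdeal (subVal (coinvR π))) : A →ₐ[k] A ⧸ augIdeal (subVal (coinvR π))) hq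
  have hinj := injective_of_trivial_coinv hπ's hn' htriv
  intro x hx
  rw [RingHom.mem_ker] at hx
  have hqx : (Bialgebra.Quotient.mkBialgHom (augIdeal (subVal (coinvR π))) :
      A →ₐc[k] A ⧸ augIdeal (subVal (coinvR π))) x = 0 := by
    apply hinj
    rw [map_zero]
    exact (AlgHom.congr_fun hπ' x).trans hx
  have hxJ : x ∈ augIdeal (subVal (coinvR π)) := by
    rw [← hker]
    exact RingHom.mem_ker.mpr hqx
  have hJspan : augIdeal (subVal (coinvR π)) ≤
      Ideal.span {b : A | b ∈ coinvR π ∧ Coalgebra.counit (R := k) b = 0} := by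
    rw [augIdeal, Ideal.map_le_iff_le_comap]
    intro b hb
    rw [Ideal.mem_comap]
    apply Ideal.subset_span
    refine ⟨b.2, ?_⟩
    rw [RingHom.mem_ker] at hb
    exact hb
  exact hJspan hxJ

end CT

section S7969

theorem s7969 (k A : Type u) [Field k] [CommRing A] [HopfAlgebra k A] [Algebra.FiniteType k A]
    (I : Ideal A) [I.IsHopfIdeal k] (hI : SGA3.IsNormalHopfIdeal k A I) :
    ∃ (V : Type u) (_ : AddCommGroup V) (_ : Module k V) (_ : HopfRep.Comod k A V),
      Module.Finite k V ∧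
      ∀ J : Ideal A, I ≤ J ↔ ∀ v : V,
        LinearMap.lTensor V (Ideal.Quotient.mkₐ k J).toLinearMap
          (HopfRep.Comod.coact (k := k) (A := A) v) = v ⊗ₜ[k] (1 : A ⧸ J) := by
  have hπ : Function.Surjective ((Bialgebra.Quotient.mkBialgHom I : A →ₐc[k] A ⧸ I) :
      A →ₐ[k] A ⧸ I) := mkBialgHom_surjective I
  have hkerπ := ker_mkBialgHom (k := k) I
  have hn := nrm_of_sga3 k A I hI
  have hCT := ker_le_span_fg hπ hn
  have hSI := span_le_ker hπ hn
  rw [hkerπ] at hCT hSI
  have hIS : I = Ideal.span {b : A | b ∈ coinvR (Bialgebra.Quotient.mkBialgHom I : A →ₐc[k] A ⧸ I) ∧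
      Coalgebra.counit (R := k) b = 0} := le_antisymm hCT hSI
  haveI : IsNoetherianRing A := Algebra.FiniteType.isNoetherianRing k A
  have hfg : (Ideal.span {b : A | b ∈ coinvR (Bialgebra.Quotient.mkBialgHom I : A →ₐc[k] A ⧸ I) ∧
      Coalgebra.counit (R := k) b = 0}).FG := by
    rw [← hIS]
    exact IsNoetherian.noetherian I
  obtain ⟨s', hs'S, hs'⟩ := (Submodule.fg_span_iff_fg_span_finset_subset _).mp hfg
  have hBsub : HopfRep.IsSubcomod (k := k) (A := A)
      (Subalgebra.toSubmodule (coinvR (Bialgebra.Quotient.mkBialgHom I : A →ₐc[k] A ⧸ I))) := by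
    intro w hw
    obtain ⟨t, ht⟩ := (coinvR_isHopfSubalgebra hn hπ).1 w hw
    refine ⟨LinearMap.lTensor _ (coinvR (Bialgebra.Quotient.mkBialgHom I :
      A →ₐc[k] A ⧸ I)).val.toLinearMap t, ?_⟩
    rw [← LinearMap.comp_apply, LinearMap.rTensor_comp_lTensor]
    exact ht
  have hW : ∀ s : Finset A,
      (∀ b ∈ s, b ∈ coinvR (Bialgebra.Quotient.mkBialgHom I : A →ₐc[k] A ⧸ I)) →
      ∃ W : Submodule k A, Module.Finite k W ∧ HopfRep.IsSubcomod (k := k) (A := A) W ∧
        (∀ b ∈ s, b ∈ W) ∧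
        W ≤ Subalgebra.toSubmodule (coinvR (Bialgebra.Quotient.mkBialgHom I : A →ₐc[k] A ⧸ I)) := by
    intro s
    classical
    induction s using Finset.induction_on with
    | empty =>
      intro _
      refine ⟨⊥, inferInstance, ?_, by simp, bot_le⟩
      intro w hw
      rw [(Submodule.mem_bot k).mp hw, map_zero]
      exact Submodule.zero_mem _
    | insert b s hb ih =>
      intro h
      obtain ⟨W, hWf, hWs, hWm, hWB⟩ := ih (fun x hx => h x (Finset.mem_insert_of_mem hx))
      haveI := hWf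
      haveI := finite_cyclicSub (k := k) (C := A) b
      refine ⟨cyclicSub (k := k) (C := A) b ⊔ W, inferInstance,
        isSubcomod_sup _ _ (isSubcomod_cyclicSub b) hWs, ?_, sup_le ?_ hWB⟩
      · intro x hx
        rcases Finset.mem_insert.mp hx with rfl | hx
        · exact Submodule.mem_sup_left (self_mem_cyclicSub x)
        · exact Submodule.mem_sup_right (hWm x hx)
      · rintro _ ⟨φ, rfl⟩
        exact act_mem_of_isSubcomod _ hBsub φ (h b (Finset.mem_insert_self b s))
  obtain ⟨W, hWfin, hWsub, hs'W, hWB⟩ := hW s' (fun b hb => (hs'S hb).1)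
  refine ⟨↥W, inferInstance, inferInstance,
    ComodSub.Comod.restr (HopfRep.Comod.regular k A) W hWsub, hWfin, fun J => ?_⟩
  have e1 : ∀ t : ↥W ⊗[k] A, LinearMap.rTensor (A ⧸ J) W.subtype
      (LinearMap.lTensor ↥W (Ideal.Quotient.mkₐ k J).toLinearMap t) =
      LinearMap.lTensor A (Ideal.Quotient.mkₐ k J).toLinearMap (LinearMap.rTensor A W.subtype t) := by
    intro t
    rw [← LinearMap.comp_apply, ← LinearMap.comp_apply, LinearMap.rTensor_comp_lTensor,
      LinearMap.lTensor_comp_rTensor]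
  constructor
  · intro hIJ v
    apply Module.Flat.rTensor_preserves_injective_linearMap (M := A ⧸ J) W.subtype
      W.injective_subtype
    rw [e1, ComodSub.restr_coact_coe, LinearMap.rTensor_tmul, Submodule.subtype_apply]
    show LinearMap.lTensor A (Ideal.Quotient.mkₐ k J).toLinearMap
      (Coalgebra.comul (R := k) (v : A)) = (v : A) ⊗ₜ[k] (1 : A ⧸ J)
    have hv : rhoR (Bialgebra.Quotient.mkBialgHom I : A →ₐc[k] A ⧸ I) (v : A) =
        (v : A) ⊗ₜ[k] (1 : A ⧸ I) := hWB v.2
    rw [rhoR_eq, AlgHom.comp_apply, Bialgebra.comulAlgHom_apply, map_id_apply] at hv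
    have hle : RingHom.ker ((Bialgebra.Quotient.mkBialgHom I : A →ₐc[k] A ⧸ I) : A →ₐ[k] A ⧸ I) ≤
        RingHom.ker (Ideal.Quotient.mkₐ k J) := by
      rw [hkerπ]
      intro a ha
      rw [RingHom.mem_ker, Ideal.Quotient.mkₐ_eq_mk, Ideal.Quotient.eq_zero_iff_mem]
      exact hIJ ha
    have hfac := liftSurj_comp _ hπ (Ideal.Quotient.mkₐ k J) hle
    have e2 : (Ideal.Quotient.mkₐ k J).toLinearMap =
        (liftSurj _ hπ (Ideal.Quotient.mkₐ k J) hle).toLinearMap ∘ₗ
          ((Bialgebra.Quotient.mkBialgHom I : A →ₐc[k] A ⧸ I) : A →ₐ[k] A ⧸ I).toLinearMap :=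
      (congrArg AlgHom.toLinearMap hfac).symm
    rw [e2, LinearMap.lTensor_comp, LinearMap.comp_apply, hv, LinearMap.lTensor_tmul,
      AlgHom.toLinearMap_apply, map_one]
  · intro h
    have hs'' : Ideal.span (s' : Set A) = I := hs'.symm.trans hIS.symm
    rw [← hs'', Ideal.span_le]
    intro b hb
    have hbW : b ∈ W := hs'W b hb
    have h1 := congrArg (LinearMap.rTensor (A ⧸ J) W.subtype) (h ⟨b, hbW⟩)
    rw [e1, ComodSub.restr_coact_coe, LinearMap.rTensor_tmul, Submodule.subtype_apply] at h1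
    have h2 : ∀ t : A ⊗[k] A, TensorProduct.lid k (A ⧸ J)
        (LinearMap.rTensor (A ⧸ J) (Coalgebra.counit (R := k) (A := A))
          (LinearMap.lTensor A (Ideal.Quotient.mkₐ k J).toLinearMap t)) =
        Ideal.Quotient.mkₐ k J (TensorProduct.lid k A
          (LinearMap.rTensor A (Coalgebra.counit (R := k) (A := A)) t)) := by
      intro t
      induction t using TensorProduct.induction_on with
      | zero => simp
      | add x y hx hy => simp only [map_add, hx, hy]
      | tmul x y => simp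
    have h3 := congrArg (fun t => TensorProduct.lid k (A ⧸ J)
        (LinearMap.rTensor (A ⧸ J) (Coalgebra.counit (R := k) (A := A)) t)) h1
    simp only at h3
    have h4 : LinearMap.rTensor A (Coalgebra.counit (R := k) (A := A))
        (HopfRep.Comod.coact (k := k) (A := A) b) = (1 : k) ⊗ₜ[k] b :=
      Coalgebra.rTensor_counit_comul b
    rw [h2, h4, LinearMap.rTensor_tmul, (hs'S hb).2] at h3
    simp only [TensorProduct.lid_tmul, one_smul, zero_smul] at h3
    rw [Ideal.Quotient.mkₐ_eq_mk, Ideal.Quotient.eq_zero_iff_mem] at h3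
    exact h3

end S7969

end HopfNrmH1
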