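import Groth.Agent.Lib.HopfNormalZ_helper1

/-!
# Reduction to trivial coinvariants (helper1)

`π : A → K` a surjective bialgebra map, `B` a Hopf subalgebra of `A` which is the algebra of left
coinvariants of `π`, `q : A → Hq` the quotient by `B⁺A` and `π' : Hq → K` the induced map.  Then
the left coinvariants of `π'` are trivial.  The proof uses the torsor isomorphism
`A ⊗_B A ≅ Hq ⊗ A` and flatness of `A` over `B`.
-/

set_option autoImplicit false
set_option maxHeartbeats 1000000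

universe u

open TensorProduct WithConv

namespace HopfNrmH1

open Groth.Agent.Lib.HopfFFH1

theorem flat_ker_rTensor {R M N P : Type*} [CommRing R] [AddCommGroup M] [Module R M]
    [AddCommGroup N] [Module R N] [AddCommGroup P] [Module R P] [Module.Flat R P]
    (D : M →ₗ[R] N) (w : M ⊗[R] P) (h : D.rTensor P w = 0) :
    w ∈ LinearMap.range ((LinearMap.ker D).subtype.rTensor P) := by
  have hex := Module.Flat.rTensor_exact P (LinearMap.exact_subtype_ker_map D)
  exact (hex w).mp h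

section DOne

variable {k : Type u} [Field k] {A K : Type u} [CommRing A] [CommRing K] [HopfAlgebra k A]
  [HopfAlgebra k K] (π : A →ₐc[k] K)

/-- `x ↦ x₂ ⊗ π x₁` -/
noncomputable def dOne : A →ₐ[k] A ⊗[k] K :=
  cm ((Algebra.TensorProduct.includeRight : K →ₐ[k] A ⊗[k] K).comp (π : A →ₐ[k] K))
    (Algebra.TensorProduct.includeLeft : A →ₐ[k] A ⊗[k] K)

theorem pm_comp_dOne {R : Type*} [CommRing R] [Algebra k R] (g : A →ₐ[k] R) (n : K →ₐ[k] R) :
    (Algebra.TensorProduct.productMap g n).comp (dOne π) = cm (n.comp (π : A →ₐ[k] K)) g := by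
  rw [dOne, comp_cm, ← AlgHom.comp_assoc, Algebra.TensorProduct.productMap_right,
    Algebra.TensorProduct.productMap_left]

theorem mem_coinvL_iff_dOne {x : A} : x ∈ coinvL π ↔ dOne π x = x ⊗ₜ[k] (1 : K) := by
  constructor
  · intro hx
    exact (mem_coinvL_iff π).mp hx (A ⊗[k] K) Algebra.TensorProduct.includeRight
      Algebra.TensorProduct.includeLeft
  · intro hx
    rw [mem_coinvL_iff]
    intro R _ _ n g
    rw [← pm_comp_dOne, AlgHom.comp_apply, hx]
    simp

end DOne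

section Torsor

variable {k : Type u} [Field k] {A K Hq : Type u} [CommRing A] [CommRing K] [CommRing Hq]
  [HopfAlgebra k A] [HopfAlgebra k K] [HopfAlgebra k Hq]
  {π : A →ₐc[k] K} {B : Subalgebra k A} [IsHopfSub B] (q : A →ₐc[k] Hq) (π' : Hq →ₐc[k] K)
  (hq : Function.Surjective (q : A →ₐ[k] Hq))
  (hker : RingHom.ker (q : A →ₐ[k] Hq) = augIdeal (subVal B))
  (hπ' : (π' : Hq →ₐ[k] K).comp (q : A →ₐ[k] Hq) = (π : A →ₐ[k] K))
  (hB : ∀ a, a ∈ B ↔ a ∈ coinvL π)

/-- `dOne` as a `B`-algebra map -/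
noncomputable def dOneB (hB : ∀ a, a ∈ B ↔ a ∈ coinvL π) : A →ₐ[↥B] A ⊗[k] K :=
  { (dOne π).toRingHom with
    commutes' := fun b => by
      show dOne π (b : A) = (b : A) ⊗ₜ[k] (1 : K)
      exact (mem_coinvL_iff_dOne π).mp ((hB _).mp b.2) }

theorem dOneB_apply (x : A) : dOneB hB x = dOne π x := rfl

/-- `x ↦ x ⊗ 1` as a `B`-algebra map -/
noncomputable def dTwoB (B : Subalgebra k A) (K : Type u) [CommRing K] [Algebra k K] :
    A →ₐ[↥B] A ⊗[k] K := Algebra.TensorProduct.includeLeft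

include hker in
theorem hπg : (q : A →ₐ[k] Hq).comp (subVal B : ↥B →ₐ[k] A) = c1 :=
  (comp_eq_c1_iff (subVal B) (q : A →ₐ[k] Hq)).mpr (le_of_eq hker.symm)

/-- the torsor map `A ⊗_B A → Hq ⊗ A`, `x ⊗ a ↦ q(x₁) ⊗ x₂ a` -/
noncomputable def theta : A ⊗[↥B] A →ₐ[k] Hq ⊗[k] A :=
  fwdk (subVal B) (BialgHom.id k A) q (fun _ => rfl) (fun _ => rfl) (hπg q hker)

/-- `x ↦ q(x₁) ⊗ x₂` -/
noncomputable def uQ : A →ₐ[k] Hq ⊗[k] A :=
  cm ((Algebra.TensorProduct.includeLeft : Hq →ₐ[k] Hq ⊗[k] A).comp (q : A →ₐ[k] Hq))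
    (Algebra.TensorProduct.includeRight : A →ₐ[k] Hq ⊗[k] A)

theorem theta_tmul (x a : A) :
    theta q hker (x ⊗ₜ[↥B] a) = uQ q x * ((1 : Hq) ⊗ₜ[k] a) := rfl

include hq in
theorem theta_bijective : Function.Bijective (theta (B := B) q hker) :=
  fwdk_bijective (subVal B) (BialgHom.id k A) q (fun _ => rfl) (fun _ => rfl) (hπg q hker) hq hker

/-- `z ⊗ a ↦ (z₂ ⊗ a) ⊗ π'(z₁)` -/
noncomputable def ellOne : Hq ⊗[k] A →ₐ[k] (Hq ⊗[k] A) ⊗[k] K :=
  Algebra.TensorProduct.productMap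
    ((Algebra.TensorProduct.map (Algebra.TensorProduct.includeLeft : Hq →ₐ[k] Hq ⊗[k] A)
      (AlgHom.id k K)).comp (dOne π'))
    ((Algebra.TensorProduct.includeLeft : Hq ⊗[k] A →ₐ[k] (Hq ⊗[k] A) ⊗[k] K).comp
      (Algebra.TensorProduct.includeRight : A →ₐ[k] Hq ⊗[k] A))

include hπ' in
theorem map_uQ_comp_dOne :
    (Algebra.TensorProduct.map (uQ q) (AlgHom.id k K)).comp (dOne π) =
      (ellOne π').comp (uQ q) := by
  have h1 : (dOne π').comp (q : A →ₐ[k] Hq) =
      cm ((Algebra.TensorProduct.includeRight : K →ₐ[k] Hq ⊗[k] K).comp (π : A →ₐ[k] K))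
        ((Algebra.TensorProduct.includeLeft : Hq →ₐ[k] Hq ⊗[k] K).comp (q : A →ₐ[k] Hq)) := by
    rw [dOne, cm_comp, AlgHom.comp_assoc, hπ']
  have hL : (Algebra.TensorProduct.map (uQ q) (AlgHom.id k K)).comp (dOne π) =
      cm ((Algebra.TensorProduct.includeRight : K →ₐ[k] (Hq ⊗[k] A) ⊗[k] K).comp (π : A →ₐ[k] K))
        (cm (((Algebra.TensorProduct.includeLeft : Hq ⊗[k] A →ₐ[k] (Hq ⊗[k] A) ⊗[k] K).comp
            (Algebra.TensorProduct.includeLeft : Hq →ₐ[k] Hq ⊗[k] A)).comp (q : A →ₐ[k] Hq))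
          ((Algebra.TensorProduct.includeLeft : Hq ⊗[k] A →ₐ[k] (Hq ⊗[k] A) ⊗[k] K).comp
            (Algebra.TensorProduct.includeRight : A →ₐ[k] Hq ⊗[k] A))) := by
    rw [dOne, comp_cm, ← AlgHom.comp_assoc, Algebra.TensorProduct.map_comp_includeRight,
      AlgHom.comp_id, Algebra.TensorProduct.map_comp_includeLeft, uQ, comp_cm,
      ← AlgHom.comp_assoc]
  have hR : (ellOne π').comp (uQ q) =
      cm (cm ((Algebra.TensorProduct.includeRight : K →ₐ[k] (Hq ⊗[k] A) ⊗[k] K).comp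
          (π : A →ₐ[k] K))
        (((Algebra.TensorProduct.includeLeft : Hq ⊗[k] A →ₐ[k] (Hq ⊗[k] A) ⊗[k] K).comp
            (Algebra.TensorProduct.includeLeft : Hq →ₐ[k] Hq ⊗[k] A)).comp (q : A →ₐ[k] Hq)))
          ((Algebra.TensorProduct.includeLeft : Hq ⊗[k] A →ₐ[k] (Hq ⊗[k] A) ⊗[k] K).comp
            (Algebra.TensorProduct.includeRight : A →ₐ[k] Hq ⊗[k] A)) := by
    rw [uQ, comp_cm, ← AlgHom.comp_assoc, ellOne, Algebra.TensorProduct.productMap_left,
      Algebra.TensorProduct.productMap_right, AlgHom.comp_assoc, h1, comp_cm,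
      ← AlgHom.comp_assoc, Algebra.TensorProduct.map_comp_includeRight, AlgHom.comp_id,
      ← AlgHom.comp_assoc, Algebra.TensorProduct.map_comp_includeLeft]
  rw [hL, hR, cm_assoc]

/-- the comparison map `(A ⊗ K) ⊗_B A → (Hq ⊗ A) ⊗ K` -/
noncomputable def bigTheta : (A ⊗[k] K) ⊗[↥B] A → (Hq ⊗[k] A) ⊗[k] K := fun s =>
  LinearMap.rTensor K (theta (B := B) q hker).toLinearMap
    ((TensorProduct.AlgebraTensorModule.rightComm k ↥B ↥B A A K).symm s)

theorem bigTheta_zero : bigTheta (K := K) q hker 0 = 0 := by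
  have h : (TensorProduct.AlgebraTensorModule.rightComm k ↥B ↥B A A K).symm 0 = 0 :=
    LinearEquiv.map_zero _
  show LinearMap.rTensor K (theta (B := B) q hker).toLinearMap
    ((TensorProduct.AlgebraTensorModule.rightComm k ↥B ↥B A A K).symm 0) = 0
  rw [h]
  exact LinearMap.map_zero _

theorem bigTheta_add (s t : (A ⊗[k] K) ⊗[↥B] A) :
    bigTheta q hker (s + t) = bigTheta q hker s + bigTheta q hker t := by
  have h : (TensorProduct.AlgebraTensorModule.rightComm k ↥B ↥B A A K).symm (s + t) =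
      (TensorProduct.AlgebraTensorModule.rightComm k ↥B ↥B A A K).symm s +
      (TensorProduct.AlgebraTensorModule.rightComm k ↥B ↥B A A K).symm t :=
    LinearEquiv.map_add _ _ _
  show LinearMap.rTensor K (theta (B := B) q hker).toLinearMap
    ((TensorProduct.AlgebraTensorModule.rightComm k ↥B ↥B A A K).symm (s + t)) = _
  rw [h]
  exact LinearMap.map_add _ _ _

include hq in
theorem bigTheta_injective : Function.Injective (bigTheta (K := K) (B := B) q hker) := by
  have h1 : Function.Injective (LinearMap.rTensor K (theta (B := B) q hker).toLinearMap) :=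
    Module.Flat.rTensor_preserves_injective_linearMap _ (theta_bijective q hq hker).1
  exact h1.comp (LinearEquiv.injective _)

theorem bigTheta_tmul (t : A ⊗[k] K) (a : A) :
    bigTheta q hker (t ⊗ₜ[↥B] a) =
      Algebra.TensorProduct.map (uQ q) (AlgHom.id k K) t *
        (((1 : Hq) ⊗ₜ[k] a) ⊗ₜ[k] (1 : K)) := by
  induction t using TensorProduct.induction_on with
  | zero => rw [TensorProduct.zero_tmul, bigTheta_zero, map_zero, zero_mul]
  | add x y hx hy => rw [TensorProduct.add_tmul, bigTheta_add, hx, hy, map_add, add_mul]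
  | tmul u κ =>
    show LinearMap.rTensor K (theta (B := B) q hker).toLinearMap ((u ⊗ₜ[↥B] a) ⊗ₜ[k] κ) = _
    rw [LinearMap.rTensor_tmul, AlgHom.toLinearMap_apply, theta_tmul,
      Algebra.TensorProduct.map_tmul, Algebra.TensorProduct.tmul_mul_tmul, AlgHom.id_apply,
      mul_one]

include hπ' in
theorem bigTheta_dOne (w : A ⊗[↥B] A) :
    bigTheta q hker (LinearMap.rTensor A (dOneB hB).toLinearMap w) =
      ellOne π' (theta q hker w) := by
  induction w using TensorProduct.induction_on with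
  | zero => rw [map_zero, map_zero, bigTheta_zero, map_zero]
  | add x y hx hy => rw [map_add, map_add, bigTheta_add, hx, hy, map_add]
  | tmul x a =>
    rw [LinearMap.rTensor_tmul, AlgHom.toLinearMap_apply, dOneB_apply, bigTheta_tmul, theta_tmul,
      map_mul]
    have h1 := AlgHom.congr_fun (map_uQ_comp_dOne q π' hπ') x
    rw [AlgHom.comp_apply, AlgHom.comp_apply] at h1
    rw [h1]
    congr 1
    simp [ellOne]

theorem bigTheta_dTwo (w : A ⊗[↥B] A) :
    bigTheta q hker (LinearMap.rTensor A (dTwoB B K).toLinearMap w) =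
      (theta q hker w) ⊗ₜ[k] (1 : K) := by
  induction w using TensorProduct.induction_on with
  | zero => rw [map_zero, map_zero, bigTheta_zero, TensorProduct.zero_tmul]
  | add x y hx hy => rw [map_add, map_add, bigTheta_add, hx, hy, TensorProduct.add_tmul]
  | tmul x a =>
    rw [LinearMap.rTensor_tmul, AlgHom.toLinearMap_apply, bigTheta_tmul, theta_tmul]
    show Algebra.TensorProduct.map (uQ q) (AlgHom.id k K) (x ⊗ₜ[k] (1 : K)) * _ = _
    rw [Algebra.TensorProduct.map_tmul, Algebra.TensorProduct.tmul_mul_tmul, AlgHom.id_apply,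
      mul_one]

end Torsor

section Gamma

variable {k : Type u} [Field k] {A K Hq : Type u} [CommRing A] [CommRing K] [CommRing Hq]
  [HopfAlgebra k A] [HopfAlgebra k K] [HopfAlgebra k Hq]
  {π : A →ₐc[k] K} {B : Subalgebra k A} [IsHopfSub B] (q : A →ₐc[k] Hq) (π' : Hq →ₐc[k] K)
  (hq : Function.Surjective (q : A →ₐ[k] Hq))
  (hker : RingHom.ker (q : A →ₐ[k] Hq) = augIdeal (subVal B))
  (hπ' : (π' : Hq →ₐ[k] K).comp (q : A →ₐ[k] Hq) = (π : A →ₐ[k] K))
  (hB : ∀ a, a ∈ B ↔ a ∈ coinvL π)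

include hq hker hπ' hB in
theorem trivial_coinvL (z : Hq) (hz : z ∈ coinvL π') : ∃ c : k, z = algebraMap k Hq c := by
  haveI : Module.Flat ↥B A := by
    have h := flat_of_injective (subVal B) Subtype.val_injective
    exact h
  obtain ⟨w, hw⟩ := (theta_bijective q hq hker).2 (z ⊗ₜ[k] (1 : A))
  have hz' : dOne π' z = z ⊗ₜ[k] (1 : K) := (mem_coinvL_iff_dOne π').mp hz
  have h1 : bigTheta q hker (LinearMap.rTensor A (dOneB hB).toLinearMap w) =
      bigTheta q hker (LinearMap.rTensor A (dTwoB B K).toLinearMap w) := by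
    rw [bigTheta_dOne q π' hker hπ' hB, bigTheta_dTwo, hw]
    simp [ellOne, hz']
  have h2 := bigTheta_injective q hq hker h1
  have h3 : LinearMap.rTensor A ((dOneB hB).toLinearMap - (dTwoB B K).toLinearMap) w = 0 := by
    rw [LinearMap.rTensor_sub, LinearMap.sub_apply, h2, sub_self]
  obtain ⟨w', hw'⟩ := flat_ker_rTensor _ w h3
  have key : ∀ w' : ↥(LinearMap.ker ((dOneB hB).toLinearMap - (dTwoB B K).toLinearMap)) ⊗[↥B] A,
      ∃ a : A, LinearMap.rTensor A
        (LinearMap.ker ((dOneB hB).toLinearMap - (dTwoB B K).toLinearMap)).subtype w' =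
        (1 : A) ⊗ₜ[↥B] a := by
    intro w'
    induction w' using TensorProduct.induction_on with
    | zero => exact ⟨0, by rw [map_zero, TensorProduct.tmul_zero]⟩
    | add x y hx hy =>
      obtain ⟨a, ha⟩ := hx
      obtain ⟨b, hb⟩ := hy
      exact ⟨a + b, by rw [map_add, ha, hb, TensorProduct.tmul_add]⟩
    | tmul d a =>
      have hd : (d : A) ∈ B := by
        have h4 := d.2
        rw [LinearMap.mem_ker, LinearMap.sub_apply, sub_eq_zero] at h4
        exact (hB _).mpr ((mem_coinvL_iff_dOne π).mpr h4)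
      refine ⟨(d : A) * a, ?_⟩
      rw [LinearMap.rTensor_tmul, Submodule.subtype_apply]
      have h5 : (d : A) = (⟨(d : A), hd⟩ : ↥B) • (1 : A) := by
        rw [Subalgebra.smul_def, smul_eq_mul, mul_one]
      have h6 : (d : A) * a = (⟨(d : A), hd⟩ : ↥B) • a := by
        rw [Subalgebra.smul_def, smul_eq_mul]
      calc (d : A) ⊗ₜ[↥B] a = ((⟨(d : A), hd⟩ : ↥B) • (1 : A)) ⊗ₜ[↥B] a :=
            congrArg (· ⊗ₜ[↥B] a) h5
        _ = (1 : A) ⊗ₜ[↥B] ((⟨(d : A), hd⟩ : ↥B) • a) := TensorProduct.smul_tmul _ _ _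
        _ = (1 : A) ⊗ₜ[↥B] ((d : A) * a) := by rw [h6]
  obtain ⟨a, ha⟩ := key w'
  rw [hw'] at ha
  rw [ha, theta_tmul, map_one, one_mul] at hw
  have h7 := congrArg (Algebra.TensorProduct.productMap (AlgHom.id k Hq) (c1 : A →ₐ[k] Hq)) hw
  simp only [Algebra.TensorProduct.productMap_apply_tmul, AlgHom.id_apply, map_one, one_mul,
    mul_one, c1_apply] at h7
  exact ⟨_, h7.symm⟩

end Gamma

end HopfNrmH1
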