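import Groth.Agent.Lib.HopfNormalCT_helper1
import Groth.Agent.Lib.HopfFG_helper1

/-!
# Normal Hopf ideals of arbitrary commutative Hopf algebras over a field (helper1)

Reduction to the finitely generated case via finitely generated Hopf subalgebras; the
correspondence between normal Hopf ideals and Hopf subalgebras (S3018, S4105).
-/

set_option autoImplicit false
set_option maxHeartbeats 1000000

universe u

open TensorProduct WithConv

namespace HopfNrmH1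

open Groth.Agent.Lib.HopfFFH1

section Sub

variable {k : Type u} [Field k] {A K : Type u} [CommRing A] [CommRing K] [HopfAlgebra k A]
  [HopfAlgebra k K] {π : A →ₐc[k] K}
  (A₀ K₀ : Type u) [CommRing A₀] [CommRing K₀] [HopfAlgebra k A₀] [HopfAlgebra k K₀]
  (ι : A₀ →ₐc[k] A) (π₀ : A₀ →ₐc[k] K₀) (ib : K₀ →ₐc[k] K)
  (hcomm : (ib : K₀ →ₐ[k] K).comp (π₀ : A₀ →ₐ[k] K₀) =
    (π : A →ₐ[k] K).comp (ι : A₀ →ₐ[k] A))

include hcomm in
theorem nrm_sub (hι : Function.Injective ι) (hib : Function.Injective ib)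
    (hπ₀ : Function.Surjective (π₀ : A₀ →ₐ[k] K₀)) (hn : Nrm π) : Nrm π₀ := by
  intro R _ _ g h hle a ha
  obtain ⟨hbar, hh⟩ := exists_lift_of_surjective (π₀ : A₀ →ₐ[k] K₀) hπ₀ h hle
  have hfac : cm (cm g h) (ci g) = (Algebra.TensorProduct.productMap g hbar).comp
      (cm (cm (Algebra.TensorProduct.includeLeft : A₀ →ₐ[k] A₀ ⊗[k] K₀)
        ((Algebra.TensorProduct.includeRight : K₀ →ₐ[k] A₀ ⊗[k] K₀).comp (π₀ : A₀ →ₐ[k] K₀)))
        (ci (Algebra.TensorProduct.includeLeft : A₀ →ₐ[k] A₀ ⊗[k] K₀))) := by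
    rw [comp_cm, comp_cm, comp_ci, Algebra.TensorProduct.productMap_left, ← AlgHom.comp_assoc,
      Algebra.TensorProduct.productMap_right, hh]
  rw [RingHom.mem_ker, hfac, AlgHom.comp_apply]
  suffices hu0 : cm (cm (Algebra.TensorProduct.includeLeft : A₀ →ₐ[k] A₀ ⊗[k] K₀)
        ((Algebra.TensorProduct.includeRight : K₀ →ₐ[k] A₀ ⊗[k] K₀).comp (π₀ : A₀ →ₐ[k] K₀)))
        (ci (Algebra.TensorProduct.includeLeft : A₀ →ₐ[k] A₀ ⊗[k] K₀)) a = 0 by
    rw [hu0, map_zero]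
  have hj : Function.Injective
      (Algebra.TensorProduct.map (ι : A₀ →ₐ[k] A) (ib : K₀ →ₐ[k] K)) :=
    TensorProduct.map_injective_of_flat_flat (ι : A₀ →ₐ[k] A).toLinearMap
      (ib : K₀ →ₐ[k] K).toLinearMap hι hib
  apply hj
  rw [map_zero, ← AlgHom.comp_apply, comp_cm, comp_cm, comp_ci,
    Algebra.TensorProduct.map_comp_includeLeft, ← AlgHom.comp_assoc,
    Algebra.TensorProduct.map_comp_includeRight, AlgHom.comp_assoc, hcomm, ← AlgHom.comp_assoc,
    ← ci_comp, ← cm_comp, ← cm_comp, AlgHom.comp_apply]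
  have hle' : RingHom.ker (π : A →ₐ[k] K) ≤ RingHom.ker
      ((Algebra.TensorProduct.includeRight : K →ₐ[k] A ⊗[k] K).comp (π : A →ₐ[k] K)) := by
    intro x hx
    rw [RingHom.mem_ker] at hx ⊢
    rw [AlgHom.comp_apply, hx, map_zero]
  have hιa : ι a ∈ RingHom.ker (π : A →ₐ[k] K) := by
    rw [RingHom.mem_ker] at ha ⊢
    have h1 := AlgHom.congr_fun hcomm a
    rw [AlgHom.comp_apply, AlgHom.comp_apply, ha, map_zero] at h1
    exact h1.symm
  exact RingHom.mem_ker.mp (hn (A ⊗[k] K) Algebra.TensorProduct.includeLeft _ hle' hιa)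

include hcomm in
theorem map_mem_coinvR {b : A₀} (hb : b ∈ coinvR π₀) : ι b ∈ coinvR π := by
  rw [mem_coinvR_iff] at hb ⊢
  intro R _ _ g n
  have h1 := hb R (g.comp (ι : A₀ →ₐ[k] A)) (n.comp (ib : K₀ →ₐ[k] K))
  rw [AlgHom.comp_assoc, hcomm, ← AlgHom.comp_assoc, ← cm_comp] at h1
  exact h1

end Sub

section Gen

variable {k : Type u} [Field k] {A K : Type u} [CommRing A] [CommRing K] [HopfAlgebra k A]
  [HopfAlgebra k K] {π : A →ₐc[k] K}

theorem ker_le_span (hπ : Function.Surjective (π : A →ₐ[k] K)) (hn : Nrm π) :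
    RingHom.ker (π : A →ₐ[k] K) ≤
      Ideal.span {b : A | b ∈ coinvR π ∧ Coalgebra.counit (R := k) b = 0} := by
  intro x hx
  obtain ⟨A₀, hxA₀, hfg, hH⟩ := exists_fg_hopfSub_poly (k := k) x
  haveI := hH
  haveI : Algebra.FiniteType k ↥A₀ := (Subalgebra.fg_iff_finiteType A₀).mp hfg
  haveI := ChevH1.ker_isHopfIdeal (π.comp (subVal A₀))
  have hπ₀ := mkBialgHom_surjective (k := k)
    (RingHom.ker ((π.comp (subVal A₀) : ↥A₀ →ₐc[k] K) : ↥A₀ →+* K))
  have hker₀ := ker_mkBialgHom (k := k)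
    (RingHom.ker ((π.comp (subVal A₀) : ↥A₀ →ₐc[k] K) : ↥A₀ →+* K))
  have hle : RingHom.ker ((Bialgebra.Quotient.mkBialgHom
      (RingHom.ker ((π.comp (subVal A₀) : ↥A₀ →ₐc[k] K) : ↥A₀ →+* K)) :
        ↥A₀ →ₐc[k] ↥A₀ ⧸ RingHom.ker ((π.comp (subVal A₀) : ↥A₀ →ₐc[k] K) : ↥A₀ →+* K)) :
        ↥A₀ →ₐ[k] ↥A₀ ⧸ RingHom.ker ((π.comp (subVal A₀) : ↥A₀ →ₐc[k] K) : ↥A₀ →+* K)) ≤
      RingHom.ker ((π.comp (subVal A₀) : ↥A₀ →ₐc[k] K) : ↥A₀ →ₐ[k] K) := by
    rw [hker₀]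
    intro a ha
    exact ha
  have hcomm := descBialg_comp _ hπ₀ (π.comp (subVal A₀)) hle
  have hcomm' : ((descBialg _ hπ₀ (π.comp (subVal A₀)) hle :
      ↥A₀ ⧸ RingHom.ker ((π.comp (subVal A₀) : ↥A₀ →ₐc[k] K) : ↥A₀ →+* K) →ₐc[k] K) :
      ↥A₀ ⧸ RingHom.ker ((π.comp (subVal A₀) : ↥A₀ →ₐc[k] K) : ↥A₀ →+* K) →ₐ[k] K).comp
      ((Bialgebra.Quotient.mkBialgHom
      (RingHom.ker ((π.comp (subVal A₀) : ↥A₀ →ₐc[k] K) : ↥A₀ →+* K)) :
        ↥A₀ →ₐc[k] ↥A₀ ⧸ RingHom.ker ((π.comp (subVal A₀) : ↥A₀ →ₐc[k] K) : ↥A₀ →+* K)) :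
        ↥A₀ →ₐ[k] ↥A₀ ⧸ RingHom.ker ((π.comp (subVal A₀) : ↥A₀ →ₐc[k] K) : ↥A₀ →+* K)) =
      (π : A →ₐ[k] K).comp (subVal A₀ : ↥A₀ →ₐ[k] A) := hcomm
  have hib : Function.Injective (descBialg _ hπ₀ (π.comp (subVal A₀)) hle) := by
    rw [injective_iff_map_eq_zero]
    intro z hz
    obtain ⟨a, rfl⟩ := hπ₀ z
    have h1 := AlgHom.congr_fun hcomm a
    rw [AlgHom.comp_apply] at h1
    have h2 : a ∈ RingHom.ker ((π.comp (subVal A₀) : ↥A₀ →ₐc[k] K) : ↥A₀ →+* K) := by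
      rw [RingHom.mem_ker]
      exact h1.symm.trans hz
    exact (Ideal.Quotient.eq_zero_iff_mem).mpr h2
  have hn₀ := nrm_sub ↥A₀ _ (subVal A₀) _ _ hcomm' Subtype.val_injective hib hπ₀ hn
  have hCT := ker_le_span_fg hπ₀ hn₀
  have hx₀ : (⟨x, hxA₀⟩ : ↥A₀) ∈ RingHom.ker ((Bialgebra.Quotient.mkBialgHom
      (RingHom.ker ((π.comp (subVal A₀) : ↥A₀ →ₐc[k] K) : ↥A₀ →+* K)) :
        ↥A₀ →ₐc[k] ↥A₀ ⧸ RingHom.ker ((π.comp (subVal A₀) : ↥A₀ →ₐc[k] K) : ↥A₀ →+* K)) :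
        ↥A₀ →ₐ[k] ↥A₀ ⧸ RingHom.ker ((π.comp (subVal A₀) : ↥A₀ →ₐc[k] K) : ↥A₀ →+* K)) := by
    rw [hker₀, RingHom.mem_ker]
    exact RingHom.mem_ker.mp hx
  have h1 := hCT hx₀
  have h2 := Ideal.mem_map_of_mem (subVal A₀ : ↥A₀ →ₐ[k] A) h1
  rw [Ideal.map_span] at h2
  refine (Ideal.span_mono ?_) h2
  rintro _ ⟨b₀, ⟨hb₀, hb₀0⟩, rfl⟩
  refine ⟨map_mem_coinvR ↥A₀ _ (subVal A₀) _ _ hcomm' hb₀, ?_⟩
  have h3 := CoalgHomClass.counit_comp_apply (subVal A₀) b₀
  exact h3.trans hb₀0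

theorem ker_eq_span (hπ : Function.Surjective (π : A →ₐ[k] K)) (hn : Nrm π) :
    RingHom.ker (π : A →ₐ[k] K) =
      Ideal.span {b : A | b ∈ coinvR π ∧ Coalgebra.counit (R := k) b = 0} :=
  le_antisymm (ker_le_span hπ hn) (span_le_ker hπ hn)

end Gen

section S3018

theorem s3018 (k : Type u) [Field k] (A : Type u) [CommRing A] [HopfAlgebra k A] (I : Ideal A)
    [I.IsHopfIdeal k] (hI : SGA3.IsNormalHopfIdeal k A I) :
    ∃ B : Subalgebra k A, SGA3.IsHopfSubalgebra k A B ∧ Module.FaithfullyFlat B A ∧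
      I = SGA3.augIdealSpan k A B := by
  have hπ : Function.Surjective ((Bialgebra.Quotient.mkBialgHom I : A →ₐc[k] A ⧸ I) :
      A →ₐ[k] A ⧸ I) := mkBialgHom_surjective I
  have hkerπ := ker_mkBialgHom (k := k) I
  have hn := nrm_of_sga3 k A I hI
  have hB := coinvR_isHopfSubalgebra hn hπ
  refine ⟨coinvR (Bialgebra.Quotient.mkBialgHom I : A →ₐc[k] A ⧸ I), hB, ?_, ?_⟩
  · haveI : IsHopfSub (coinvR (Bialgebra.Quotient.mkBialgHom I : A →ₐc[k] A ⧸ I)) :=
      isHopfSub_of_sga3 hB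
    have h := faithfullyFlat_of_injective
      (subVal (coinvR (Bialgebra.Quotient.mkBialgHom I : A →ₐc[k] A ⧸ I))) Subtype.val_injective
    exact h
  · have h1 := ker_eq_span hπ hn
    rw [hkerπ] at h1
    exact h1

end S3018

section Descent

theorem mem_of_tmul_eq {R S : Type*} [CommRing R] [CommRing S] [Algebra R S]
    [Module.FaithfullyFlat R S] (y : S) (h : y ⊗ₜ[R] (1 : S) = (1 : S) ⊗ₜ[R] y) :
    ∃ r : R, algebraMap R S r = y := by
  have h1 := congrArg (LinearMap.lTensor S (LinearMap.range (Algebra.linearMap R S)).mkQ) h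
  rw [LinearMap.lTensor_tmul, LinearMap.lTensor_tmul] at h1
  have hp1 : (LinearMap.range (Algebra.linearMap R S)).mkQ (1 : S) = 0 := by
    rw [Submodule.mkQ_apply, Submodule.Quotient.mk_eq_zero]
    exact ⟨1, by simp⟩
  rw [hp1, TensorProduct.tmul_zero] at h1
  have h2 : TensorProduct.mk R S (S ⧸ LinearMap.range (Algebra.linearMap R S)) 1
      ((LinearMap.range (Algebra.linearMap R S)).mkQ y) =
      TensorProduct.mk R S (S ⧸ LinearMap.range (Algebra.linearMap R S)) 1 0 := by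
    rw [TensorProduct.mk_apply, TensorProduct.mk_apply, ← h1, TensorProduct.tmul_zero]
  have h3 := Module.FaithfullyFlat.tensorProduct_mk_injective (A := R) (B := S) _ h2
  rw [Submodule.mkQ_apply, Submodule.Quotient.mk_eq_zero] at h3
  obtain ⟨r, hr⟩ := h3
  exact ⟨r, hr⟩

end Descent

section S4105

theorem mem_coinvR_mk_iff {k : Type u} [Field k] {A : Type u} [CommRing A] [HopfAlgebra k A]
    (J : Ideal A) [J.IsHopfIdeal k] (x : A) :
    x ∈ coinvR (Bialgebra.Quotient.mkBialgHom J : A →ₐc[k] A ⧸ J) ↔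
      CoalgebraStruct.comul (R := k) (A := A) x - x ⊗ₜ[k] (1 : A) ∈
        LinearMap.range (LinearMap.lTensor A (J.restrictScalars k).subtype) := by
  have hex0 : Function.Exact (J.restrictScalars k).subtype (Ideal.Quotient.mkₐ k J).toLinearMap := by
    intro a
    constructor
    · intro h
      exact ⟨⟨a, (Ideal.Quotient.eq_zero_iff_mem).mp h⟩, rfl⟩
    · rintro ⟨b, rfl⟩
      exact (Ideal.Quotient.eq_zero_iff_mem).mpr b.2
  have hex := lTensor_exact A hex0 (Ideal.Quotient.mkₐ_surjective k J)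
  have hmk : ((Bialgebra.Quotient.mkBialgHom J : A →ₐc[k] A ⧸ J) : A →ₐ[k] A ⧸ J) =
      Ideal.Quotient.mkₐ k J := rfl
  rw [mem_coinvR, rhoR_eq, AlgHom.comp_apply, Bialgebra.comulAlgHom_apply, map_id_apply, hmk]
  have h1 := hex (CoalgebraStruct.comul (R := k) (A := A) x - x ⊗ₜ[k] (1 : A))
  rw [map_sub, sub_eq_zero, LinearMap.lTensor_tmul, AlgHom.toLinearMap_apply, map_one] at h1
  exact h1

theorem s4105 (k : Type u) [Field k] (A : Type u) [CommRing A] [HopfAlgebra k A]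
    (B : Subalgebra k A) (hB : SGA3.IsHopfSubalgebra k A B) (J : Ideal A) [J.IsHopfIdeal k]
    (hJ : SGA3.IsNormalHopfIdeal k A J) :
    J = SGA3.augIdealSpan k A B ↔
      (B : Set A) = {x : A | CoalgebraStruct.comul (R := k) (A := A) x - x ⊗ₜ[k] (1 : A) ∈
        LinearMap.range (LinearMap.lTensor A (J.restrictScalars k).subtype)} := by
  haveI : IsHopfSub B := isHopfSub_of_sga3 hB
  have hπ : Function.Surjective ((Bialgebra.Quotient.mkBialgHom J : A →ₐc[k] A ⧸ J) :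
      A →ₐ[k] A ⧸ J) := mkBialgHom_surjective J
  have hkerπ := ker_mkBialgHom (k := k) J
  have hn := nrm_of_sga3 k A J hJ
  have hset : {x : A | CoalgebraStruct.comul (R := k) (A := A) x - x ⊗ₜ[k] (1 : A) ∈
        LinearMap.range (LinearMap.lTensor A (J.restrictScalars k).subtype)} =
      (coinvR (Bialgebra.Quotient.mkBialgHom J : A →ₐc[k] A ⧸ J) : Set A) := by
    ext x
    exact (mem_coinvR_mk_iff J x).symm
  rw [hset]
  constructor
  · intro hJB
    have haug : RingHom.ker ((Bialgebra.Quotient.mkBialgHom J : A →ₐc[k] A ⧸ J) :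
        A →ₐ[k] A ⧸ J) = augIdeal (subVal B) := by
      rw [hkerπ, hJB]
      apply le_antisymm
      · rw [SGA3.augIdealSpan, Ideal.span_le]
        rintro a ⟨haB, ha0⟩
        have h1 : (⟨a, haB⟩ : ↥B) ∈ RingHom.ker (Bialgebra.counitAlgHom k ↥B) := by
          rw [RingHom.mem_ker]
          exact ha0
        exact Ideal.mem_map_of_mem (subVal B : ↥B →ₐ[k] A) h1
      · rw [augIdeal, Ideal.map_le_iff_le_comap]
        intro b hb
        rw [Ideal.mem_comap]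
        apply Ideal.subset_span
        refine ⟨b.2, ?_⟩
        rw [RingHom.mem_ker] at hb
        exact hb
    ext x
    constructor
    · intro hx
      rw [SetLike.mem_coe, mem_coinvR_iff]
      intro R _ _ g n
      have hc1 : ((Bialgebra.Quotient.mkBialgHom J : A →ₐc[k] A ⧸ J) : A →ₐ[k] A ⧸ J).comp
          (subVal B : ↥B →ₐ[k] A) = c1 :=
        (comp_eq_c1_iff (subVal B) _).mpr (le_of_eq haug.symm)
      have h1 := cm_comp (subVal B) g
        (n.comp ((Bialgebra.Quotient.mkBialgHom J : A →ₐc[k] A ⧸ J) : A →ₐ[k] A ⧸ J))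
      rw [AlgHom.comp_assoc, hc1, comp_c1, cm_c1] at h1
      exact AlgHom.congr_fun h1 ⟨x, hx⟩
    · intro hx
      have hy : HopfAlgebra.antipode k x ∈
          coinvL (Bialgebra.Quotient.mkBialgHom J : A →ₐc[k] A ⧸ J) := by
        rw [mem_coinvL_iff]
        intro R _ _ n g
        have h1 : cm (n.comp ((Bialgebra.Quotient.mkBialgHom J : A →ₐc[k] A ⧸ J) :
            A →ₐ[k] A ⧸ J)) g (HopfAlgebra.antipode k x) =
            ci (cm (n.comp ((Bialgebra.Quotient.mkBialgHom J : A →ₐc[k] A ⧸ J) :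
              A →ₐ[k] A ⧸ J)) g) x := rfl
        rw [h1, ci_cm_anti, ← ci_comp]
        exact (mem_coinvR_iff _).mp hx R (ci g) (ci n)
      have hθ := theta_bijective (B := B) (Bialgebra.Quotient.mkBialgHom J : A →ₐc[k] A ⧸ J)
        hπ haug
      have e1 : theta (Bialgebra.Quotient.mkBialgHom J : A →ₐc[k] A ⧸ J) haug
          (HopfAlgebra.antipode k x ⊗ₜ[↥B] (1 : A)) =
          theta (Bialgebra.Quotient.mkBialgHom J : A →ₐc[k] A ⧸ J) haug
          ((1 : A) ⊗ₜ[↥B] HopfAlgebra.antipode k x) := by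
        rw [theta_tmul, theta_tmul, map_one, one_mul, ← Algebra.TensorProduct.one_def, mul_one]
        exact (mem_coinvL _).mp hy
      have e2 := hθ.1 e1
      haveI : Module.FaithfullyFlat ↥B A := by
        have h := faithfullyFlat_of_injective (subVal B) Subtype.val_injective
        exact h
      obtain ⟨r, hr⟩ := mem_of_tmul_eq _ e2
      have h3 : HopfAlgebra.antipode k (HopfAlgebra.antipode k x) ∈ B := by
        apply hB.2
        rw [← hr]
        exact r.2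
      rwa [Groth.Agent.Lib.LinRed_helper9.antipode_antipode] at h3
  · intro hBset
    have h1 := ker_eq_span hπ hn
    rw [hkerπ] at h1
    have h2 : SGA3.augIdealSpan k A B = Ideal.span
        {b : A | b ∈ coinvR (Bialgebra.Quotient.mkBialgHom J : A →ₐc[k] A ⧸ J) ∧
          Coalgebra.counit (R := k) b = 0} := by
      unfold SGA3.augIdealSpan
      congr 1
      ext a
      simp only [Set.mem_ofPred_eq]
      rw [← SetLike.mem_coe, hBset]
      rfl
    rw [h2]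
    exact h1

end S4105

end HopfNrmH1
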