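import Groth.Agent.Lib.HopfNormal_helper1
import Groth.Agent.Lib.ChevTriv_helper1

/-!
# A normal surjection with trivial coinvariants is injective (helper1)

`π : H → K` surjective, normal, `H` finitely generated, `H^{co K} = k` implies `π` injective.
Proof via Chevalley's theorem: the kernel is the stabiliser of a line `k v`; the matrix
coefficients `f_λ = (λ ⊗ id) ρ(v)` are semi-invariant on both sides, hence `f_λ S(f_μ)` are
coinvariant, i.e. constants, which forces `ρ(v) = v ⊗ f`.
-/

set_option autoImplicit false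
set_option maxHeartbeats 1000000

universe u

open TensorProduct WithConv

namespace HopfNrmH1

open Groth.Agent.Lib.HopfFFH1 Groth.Agent.Lib.Comod_helper9

section Coef

variable {k : Type u} [Field k] {H : Type u} [CommRing H] [HopfAlgebra k H]
  {V : Type u} [AddCommGroup V] [Module k V] (cV : HopfRep.Comod k H V)

/-- matrix coefficient `w ↦ (λ ⊗ id)(ρ w)` -/
noncomputable def cf (l : Module.Dual k V) : V →ₗ[k] H :=
  (TensorProduct.lid k H).toLinearMap ∘ₗ (LinearMap.rTensor H l) ∘ₗ cV.coact

theorem counit_cf (l : Module.Dual k V) (w : V) :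
    Coalgebra.counit (R := k) (cf cV l w) = l w := by
  have aux : ∀ t : V ⊗[k] H,
      Coalgebra.counit (R := k) (TensorProduct.lid k H (LinearMap.rTensor H l t)) =
      l (TensorProduct.rid k V (LinearMap.lTensor V (Coalgebra.counit (R := k) (A := H)) t)) := by
    intro t
    induction t using TensorProduct.induction_on with
    | zero => simp
    | add a b ha hb => simp only [map_add, ha, hb]
    | tmul a b => simp [mul_comm]
  have h1 := LinearMap.congr_fun cV.counit_comp w
  simp only [LinearMap.comp_apply, LinearMap.flip_apply, TensorProduct.mk_apply] at h1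
  rw [cf, LinearMap.comp_apply, LinearMap.comp_apply, LinearEquiv.coe_coe, aux, h1]
  simp

theorem comul_cf (l : Module.Dual k V) (w : V) :
    Coalgebra.comul (R := k) (cf cV l w) = LinearMap.rTensor H (cf cV l) (cV.coact w) := by
  have L1 : ∀ t : V ⊗[k] H,
      Coalgebra.comul (R := k) (TensorProduct.lid k H (LinearMap.rTensor H l t)) =
      TensorProduct.lid k (H ⊗[k] H) (LinearMap.rTensor (H ⊗[k] H) l
        (LinearMap.lTensor V (Coalgebra.comul (R := k) (A := H)) t)) := by
    intro t
    induction t using TensorProduct.induction_on with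
    | zero => simp
    | add a b ha hb => simp only [map_add, ha, hb]
    | tmul a b => simp
  have L2 : ∀ s : (V ⊗[k] H) ⊗[k] H,
      TensorProduct.lid k (H ⊗[k] H) (LinearMap.rTensor (H ⊗[k] H) l
        (TensorProduct.assoc k V H H s)) =
      LinearMap.rTensor H ((TensorProduct.lid k H).toLinearMap ∘ₗ LinearMap.rTensor H l) s := by
    intro s
    induction s using TensorProduct.induction_on with
    | zero => simp
    | add a b ha hb => simp only [map_add, ha, hb]
    | tmul t h =>
      induction t using TensorProduct.induction_on with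
      | zero => simp
      | add a b ha hb => simp only [TensorProduct.add_tmul, map_add, ha, hb]
      | tmul u g => simp [TensorProduct.smul_tmul']
  have h1 := LinearMap.congr_fun cV.coassoc w
  simp only [LinearMap.comp_apply, LinearEquiv.coe_coe] at h1
  rw [cf, LinearMap.comp_apply, LinearMap.comp_apply, LinearEquiv.coe_coe, L1, ← h1, L2,
    ← LinearMap.rTensor_comp_apply]
  rfl

variable {K : Type u} [CommRing K] [HopfAlgebra k K] (π : H →ₐc[k] K)

theorem rhoR_cf (l : Module.Dual k V) (v : V) (χ₀ : K)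
    (hχ : LinearMap.lTensor V (π : H →ₐ[k] K).toLinearMap (cV.coact v) = v ⊗ₜ[k] χ₀) :
    rhoR π (cf cV l v) = cf cV l v ⊗ₜ[k] χ₀ := by
  rw [rhoR_eq, AlgHom.comp_apply, Bialgebra.comulAlgHom_apply, map_id_apply, comul_cf]
  have h1 : ∀ t : V ⊗[k] H, LinearMap.lTensor H (π : H →ₐ[k] K).toLinearMap
      (LinearMap.rTensor H (cf cV l) t) =
      LinearMap.rTensor K (cf cV l) (LinearMap.lTensor V (π : H →ₐ[k] K).toLinearMap t) := by
    intro t
    induction t using TensorProduct.induction_on with
    | zero => simp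
    | add a b ha hb => simp only [map_add, ha, hb]
    | tmul a b => simp
  rw [h1, hχ, LinearMap.rTensor_tmul]

end Coef

section Main

variable {k : Type u} [Field k] {H K : Type u} [CommRing H] [CommRing K] [HopfAlgebra k H]
  [HopfAlgebra k K] {π : H →ₐc[k] K}

theorem injective_of_trivial_coinv [Algebra.FiniteType k H]
    (hπ : Function.Surjective (π : H →ₐ[k] K)) (hn : Nrm π)
    (htriv : ∀ x ∈ coinvR π, ∃ c : k, x = algebraMap k H c) : Function.Injective π := by
  haveI := ChevH1.ker_isHopfIdeal π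
  obtain ⟨V, i1, i2, cV, i3, v, hv, hrep⟩ := ChevH1.chevalley k H (RingHom.ker (π : H →+* K))
  obtain ⟨χ₀, hχ₀⟩ := (hrep K (π : H →ₐ[k] K)).mp (fun a ha => ha)
  have hgl : IsGroupLikeElem k χ₀ :=
    ChevH1.isGroupLike_of_eigen (comodPush (π : H →ₗc[k] K) cV) v hv χ₀ hχ₀
  have hR : ∀ (l : Module.Dual k V) (R : Type u) [CommRing R] [Algebra k R] (g : H →ₐ[k] R)
      (n : K →ₐ[k] R), cm g (n.comp (π : H →ₐ[k] K)) (cf cV l v) = g (cf cV l v) * n χ₀ := by
    intro l R _ _ g n
    rw [← pm_comp_rhoR, AlgHom.comp_apply, rhoR_cf cV π l v χ₀ hχ₀]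
    simp
  have hL : ∀ (l : Module.Dual k V) (R : Type u) [CommRing R] [Algebra k R] (g : H →ₐ[k] R)
      (n : K →ₐ[k] R), cm (n.comp (π : H →ₐ[k] K)) g (cf cV l v) = g (cf cV l v) * n χ₀ := by
    intro l R _ _ g n
    obtain ⟨n', hn'⟩ := hn.exists_conj' hπ g n
    have e : cm (n.comp (π : H →ₐ[k] K)) g = cm g (n'.comp (π : H →ₐ[k] K)) := by
      rw [← hn', ← cm_assoc, ← cm_assoc, cm_ci, c1_cm]
    rw [e, hR, conj_groupLike hn hπ htriv hgl g n n' hn']
  have hS : ∀ (l : Module.Dual k V) (R : Type u) [CommRing R] [Algebra k R] (g : H →ₐ[k] R)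
      (n : K →ₐ[k] R), cm g (n.comp (π : H →ₐ[k] K)) (HopfAlgebra.antipode k (cf cV l v)) =
        g (HopfAlgebra.antipode k (cf cV l v)) * n (HopfAlgebra.antipode k χ₀) := by
    intro l R _ _ g n
    have h1 : cm g (n.comp (π : H →ₐ[k] K)) (HopfAlgebra.antipode k (cf cV l v)) =
        ci (cm g (n.comp (π : H →ₐ[k] K))) (cf cV l v) := rfl
    rw [h1, ci_cm_anti, ← ci_comp, hL]
    rfl
  have hprod : ∀ l l' : Module.Dual k V,
      cf cV l v * HopfAlgebra.antipode k (cf cV l' v) = algebraMap k H (l v * l' v) := by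
    intro l l'
    have hmem : cf cV l v * HopfAlgebra.antipode k (cf cV l' v) ∈ coinvR π := by
      rw [mem_coinvR_iff]
      intro R _ _ g n
      rw [map_mul, hR, hS, map_mul]
      have h2 : n χ₀ * n (HopfAlgebra.antipode k χ₀) = 1 := by
        rw [← map_mul, hgl.mul_antipode_cancel, map_one]
      calc g (cf cV l v) * n χ₀ *
            (g (HopfAlgebra.antipode k (cf cV l' v)) * n (HopfAlgebra.antipode k χ₀))
          = g (cf cV l v) * g (HopfAlgebra.antipode k (cf cV l' v)) *
            (n χ₀ * n (HopfAlgebra.antipode k χ₀)) := by ring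
        _ = _ := by rw [h2, mul_one]
    obtain ⟨c, hc⟩ := htriv _ hmem
    have h3 := congrArg (Coalgebra.counit (R := k)) hc
    rw [Bialgebra.counit_mul, HopfAlgebra.counit_antipode, counit_cf, counit_cf,
      Bialgebra.counit_algebraMap] at h3
    rw [hc, h3]
  -- a functional with `l' v = 1`
  obtain ⟨l', hl'⟩ : ∃ l' : Module.Dual k V, l' v = 1 := by
    have h1 : ¬ ∀ φ : Module.Dual k V, φ v = 0 := fun h =>
      hv ((Module.forall_dual_apply_eq_zero_iff k v).mp h)
    push Not at h1
    obtain ⟨φ, hφ⟩ := h1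
    refine ⟨(φ v)⁻¹ • φ, ?_⟩
    rw [LinearMap.smul_apply, smul_eq_mul, inv_mul_cancel₀ hφ]
  set f₁ := cf cV l' v with hf₁
  have hf : ∀ l : Module.Dual k V, cf cV l v = l v • f₁ := by
    intro l
    have h1 := hprod l l'
    have h2 := hprod l' l'
    rw [hl', mul_one] at h1
    rw [hl', mul_one, map_one] at h2
    calc cf cV l v = cf cV l v * (f₁ * HopfAlgebra.antipode k f₁) := by rw [h2, mul_one]
      _ = (cf cV l v * HopfAlgebra.antipode k f₁) * f₁ := by ring
      _ = l v • f₁ := by rw [h1, Algebra.smul_def]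
  have hco : cV.coact v = v ⊗ₜ[k] f₁ := by
    let b := Module.finBasis k V
    rw [← ChevH1.sum_coef b (cV.coact v), ← ChevH1.sum_coef b (v ⊗ₜ[k] f₁)]
    refine Finset.sum_congr rfl fun i _ => ?_
    rw [ChevH1.coef_tmul]
    have : ChevH1.coef b i (cV.coact v) = cf cV (b.coord i) v := rfl
    rw [this, hf, Module.Basis.coord_apply]
  have hst : SGA3.StabilizesLine k H v H (AlgHom.id k H) := by
    refine ⟨f₁, ?_⟩
    have : (AlgHom.id k H).toLinearMap = LinearMap.id := rfl
    rw [this, LinearMap.lTensor_id, LinearMap.id_apply]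
    exact hco
  have hker := (hrep H (AlgHom.id k H)).mpr hst
  refine (injective_iff_map_eq_zero π).mpr fun a ha => ?_
  exact hker a (RingHom.mem_ker.mpr ha)

end Main

end HopfNrmH1
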