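import Groth.Agent.Lib.HopfFFGen_helper1

/-!
# Normal surjections of commutative Hopf algebras: coinvariants (helper1)

For a surjective bialgebra map `π : H → K` of commutative Hopf algebras over a field which is
normal (conjugates of points of `K` are points of `K`), the right coinvariants form a Hopf
subalgebra, equal to the left coinvariants; and if the coinvariants are trivial then conjugation
fixes the group-like elements of `K`.
-/

set_option autoImplicit false
set_option maxHeartbeats 1000000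

universe u

open TensorProduct WithConv

namespace HopfNrmH1

open Groth.Agent.Lib.HopfFFH1

section Gen

variable {k : Type*} [CommRing k] {X : Type*} [CommRing X] [HopfAlgebra k X]
  {C : Type*} [CommRing C] [Algebra k C]

theorem ci_cm_anti (a b : X →ₐ[k] C) : ci (cm a b) = cm (ci b) (ci a) := by
  symm
  apply eq_ci_of_cm_eq_c1
  rw [cm_assoc, ci_cm_cm, ci_cm]

theorem cm_eq_comp (a b : X →ₐ[k] C) :
    cm a b = (Algebra.TensorProduct.lmul' k).comp
      ((Algebra.TensorProduct.map a b).comp (Bialgebra.comulAlgHom k X)) := by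
  simp only [cm, AlgHom.convMul_def, ofConv_toConv]

theorem cm_groupLike (a b : X →ₐ[k] C) {χ : X} (hχ : IsGroupLikeElem k χ) :
    cm a b χ = a χ * b χ := by
  rw [cm_eq_comp]
  simp [hχ.comul_eq_tmul_self]

theorem ci_apply (a : X →ₐ[k] C) (x : X) : ci a x = a (HopfAlgebra.antipode k x) := rfl

theorem conj_cm (g m ν : X →ₐ[k] C) :
    cm (cm (ci (cm g m)) ν) (cm g m) = cm (cm (ci m) (cm (cm (ci g) ν) g)) m := by
  rw [ci_cm_anti]
  simp only [cm_assoc]

end Gen

section Flat

variable {k : Type*} [Field k] {M N P : Type*} [AddCommGroup M] [Module k M] [AddCommGroup N]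
  [Module k N] [AddCommGroup P] [Module k P]

theorem mem_range_lTensor_eqLocus (f g : N →ₗ[k] P) (z : M ⊗[k] N)
    (h : f.lTensor M z = g.lTensor M z) :
    z ∈ LinearMap.range ((LinearMap.eqLocus f g).subtype.lTensor M) := by
  have hz : (f - g).lTensor M z = 0 := by
    rw [LinearMap.lTensor_sub, LinearMap.sub_apply, h, sub_self]
  have hex := Module.Flat.lTensor_exact M (LinearMap.exact_subtype_ker_map (f - g))
  have h1 := (hex z).mp hz
  rw [LinearMap.eqLocus_eq_ker_sub]
  exact h1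

theorem mem_range_rTensor_eqLocus (f g : N →ₗ[k] P) (z : N ⊗[k] M)
    (h : f.rTensor M z = g.rTensor M z) :
    z ∈ LinearMap.range ((LinearMap.eqLocus f g).subtype.rTensor M) := by
  have hz : (f - g).rTensor M z = 0 := by
    rw [LinearMap.rTensor_sub, LinearMap.sub_apply, h, sub_self]
  have hex := Module.Flat.rTensor_exact M (LinearMap.exact_subtype_ker_map (f - g))
  have h1 := (hex z).mp hz
  rw [LinearMap.eqLocus_eq_ker_sub]
  exact h1

theorem mem_range_map_of_mem_both (E : Submodule k M) (z : M ⊗[k] M)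
    (h1 : z ∈ LinearMap.range (E.subtype.rTensor M))
    (h2 : z ∈ LinearMap.range (E.subtype.lTensor M)) :
    z ∈ LinearMap.range (TensorProduct.map E.subtype E.subtype) := by
  obtain ⟨p, hp⟩ := LinearMap.exists_leftInverse_of_injective E.subtype (Submodule.ker_subtype E)
  obtain ⟨w, hw⟩ := h1
  obtain ⟨w', hw'⟩ := h2
  refine ⟨p.rTensor E w', ?_⟩
  have e1 : (E.subtype ∘ₗ p).rTensor M z = z := by
    rw [← hw, ← LinearMap.rTensor_comp_apply, LinearMap.comp_assoc, hp, LinearMap.comp_id]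
  have e2 : ∀ t : M ⊗[k] E, TensorProduct.map E.subtype E.subtype (p.rTensor E t) =
      (E.subtype ∘ₗ p).rTensor M (E.subtype.lTensor M t) := by
    intro t
    induction t using TensorProduct.induction_on with
    | zero => simp
    | add x y hx hy => simp only [map_add, hx, hy]
    | tmul a b => simp
  rw [e2, hw', e1]

theorem map_id_apply {A B C : Type*} [CommRing A] [Algebra k A] [CommRing B] [Algebra k B]
    [CommRing C] [Algebra k C] (φ : B →ₐ[k] C) (z : A ⊗[k] B) :
    Algebra.TensorProduct.map (AlgHom.id k A) φ z = φ.toLinearMap.lTensor A z := by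
  induction z using TensorProduct.induction_on with
  | zero => simp
  | add x y hx hy => simp only [map_add, hx, hy]
  | tmul a b => simp

theorem map_apply_id {A B C : Type*} [CommRing A] [Algebra k A] [CommRing B] [Algebra k B]
    [CommRing C] [Algebra k C] (φ : B →ₐ[k] C) (z : B ⊗[k] A) :
    Algebra.TensorProduct.map φ (AlgHom.id k A) z = φ.toLinearMap.rTensor A z := by
  induction z using TensorProduct.induction_on with
  | zero => simp
  | add x y hx hy => simp only [map_add, hx, hy]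
  | tmul a b => simp

end Flat

section Setup

variable {k : Type u} [Field k] {H K : Type u} [CommRing H] [CommRing K] [HopfAlgebra k H]
  [HopfAlgebra k K] (π : H →ₐc[k] K)

/-- right coaction `x ↦ x₁ ⊗ π x₂` -/
noncomputable def rhoR : H →ₐ[k] H ⊗[k] K :=
  cm (Algebra.TensorProduct.includeLeft : H →ₐ[k] H ⊗[k] K)
    ((Algebra.TensorProduct.includeRight : K →ₐ[k] H ⊗[k] K).comp (π : H →ₐ[k] K))

/-- left coaction `x ↦ π x₁ ⊗ x₂` -/
noncomputable def rhoL : H →ₐ[k] K ⊗[k] H :=
  cm ((Algebra.TensorProduct.includeLeft : K →ₐ[k] K ⊗[k] H).comp (π : H →ₐ[k] K))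
    (Algebra.TensorProduct.includeRight : H →ₐ[k] K ⊗[k] H)

theorem pm_comp_rhoR {R : Type*} [CommRing R] [Algebra k R] (g : H →ₐ[k] R) (n : K →ₐ[k] R) :
    (Algebra.TensorProduct.productMap g n).comp (rhoR π) = cm g (n.comp (π : H →ₐ[k] K)) := by
  rw [rhoR, comp_cm, ← AlgHom.comp_assoc, Algebra.TensorProduct.productMap_left,
    Algebra.TensorProduct.productMap_right]

theorem pm_comp_rhoL {R : Type*} [CommRing R] [Algebra k R] (n : K →ₐ[k] R) (g : H →ₐ[k] R) :
    (Algebra.TensorProduct.productMap n g).comp (rhoL π) = cm (n.comp (π : H →ₐ[k] K)) g := by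
  rw [rhoL, comp_cm, ← AlgHom.comp_assoc, Algebra.TensorProduct.productMap_left,
    Algebra.TensorProduct.productMap_right]

theorem rhoR_eq : rhoR π = (Algebra.TensorProduct.map (AlgHom.id k H) (π : H →ₐ[k] K)).comp
    (Bialgebra.comulAlgHom k H) := by
  rw [← cm_incL_incR, comp_cm, Algebra.TensorProduct.map_comp_includeLeft,
    Algebra.TensorProduct.map_comp_includeRight, AlgHom.comp_id]
  rfl

theorem rhoL_eq : rhoL π = (Algebra.TensorProduct.map (π : H →ₐ[k] K) (AlgHom.id k H)).comp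
    (Bialgebra.comulAlgHom k H) := by
  rw [← cm_incL_incR, comp_cm, Algebra.TensorProduct.map_comp_includeLeft,
    Algebra.TensorProduct.map_comp_includeRight, AlgHom.comp_id]
  rfl

/-- right coinvariants -/
noncomputable def coinvR : Subalgebra k H :=
  AlgHom.equalizer (rhoR π) (Algebra.TensorProduct.includeLeft : H →ₐ[k] H ⊗[k] K)

/-- left coinvariants -/
noncomputable def coinvL : Subalgebra k H :=
  AlgHom.equalizer (rhoL π) (Algebra.TensorProduct.includeRight : H →ₐ[k] K ⊗[k] H)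

theorem mem_coinvR {x : H} : x ∈ coinvR π ↔ rhoR π x = x ⊗ₜ[k] (1 : K) := Iff.rfl

theorem mem_coinvL {x : H} : x ∈ coinvL π ↔ rhoL π x = (1 : K) ⊗ₜ[k] x := Iff.rfl

theorem mem_coinvR_iff {x : H} : x ∈ coinvR π ↔
    ∀ (R : Type u) [CommRing R] [Algebra k R] (g : H →ₐ[k] R) (n : K →ₐ[k] R),
      cm g (n.comp (π : H →ₐ[k] K)) x = g x := by
  constructor
  · intro hx R _ _ g n
    rw [← pm_comp_rhoR, AlgHom.comp_apply, (mem_coinvR π).mp hx]
    simp
  · intro h
    exact h (H ⊗[k] K) Algebra.TensorProduct.includeLeft Algebra.TensorProduct.includeRight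

theorem mem_coinvL_iff {x : H} : x ∈ coinvL π ↔
    ∀ (R : Type u) [CommRing R] [Algebra k R] (n : K →ₐ[k] R) (g : H →ₐ[k] R),
      cm (n.comp (π : H →ₐ[k] K)) g x = g x := by
  constructor
  · intro hx R _ _ n g
    rw [← pm_comp_rhoL, AlgHom.comp_apply, (mem_coinvL π).mp hx]
    simp
  · intro h
    exact h (K ⊗[k] H) Algebra.TensorProduct.includeLeft Algebra.TensorProduct.includeRight

/-- normality of the quotient `π`, in terms of points -/
def Nrm : Prop :=
  ∀ (R : Type u) [CommRing R] [Algebra k R] (g h : H →ₐ[k] R),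
    RingHom.ker (π : H →ₐ[k] K) ≤ RingHom.ker h →
      RingHom.ker (π : H →ₐ[k] K) ≤ RingHom.ker (cm (cm g h) (ci g))

variable {π}

theorem Nrm.exists_conj (hn : Nrm π) (hπ : Function.Surjective (π : H →ₐ[k] K))
    {R : Type u} [CommRing R] [Algebra k R] (g : H →ₐ[k] R) (n : K →ₐ[k] R) :
    ∃ n' : K →ₐ[k] R,
      cm (cm g (n.comp (π : H →ₐ[k] K))) (ci g) = n'.comp (π : H →ₐ[k] K) := by
  have h1 : RingHom.ker (π : H →ₐ[k] K) ≤ RingHom.ker (n.comp (π : H →ₐ[k] K)) := by
    intro a ha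
    rw [RingHom.mem_ker] at ha ⊢
    rw [AlgHom.comp_apply, ha, map_zero]
  exact ⟨liftSurj (π : H →ₐ[k] K) hπ _ (hn R g _ h1), (liftSurj_comp _ hπ _ _).symm⟩

theorem Nrm.exists_conj' (hn : Nrm π) (hπ : Function.Surjective (π : H →ₐ[k] K))
    {R : Type u} [CommRing R] [Algebra k R] (g : H →ₐ[k] R) (n : K →ₐ[k] R) :
    ∃ n' : K →ₐ[k] R,
      cm (cm (ci g) (n.comp (π : H →ₐ[k] K))) g = n'.comp (π : H →ₐ[k] K) := by
  have := hn.exists_conj hπ (ci g) n
  rwa [ci_ci] at this

theorem coinvR_le_coinvL (hn : Nrm π) (hπ : Function.Surjective (π : H →ₐ[k] K)) :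
    coinvR π ≤ coinvL π := by
  intro x hx
  rw [mem_coinvL_iff]
  intro R _ _ n g
  obtain ⟨n', hn'⟩ := hn.exists_conj' hπ g n
  have e : cm (n.comp (π : H →ₐ[k] K)) g = cm g (n'.comp (π : H →ₐ[k] K)) := by
    rw [← hn', ← cm_assoc, ← cm_assoc, cm_ci, c1_cm]
  rw [e]
  exact (mem_coinvR_iff π).mp hx R g n'

theorem coinvL_le_coinvR (hn : Nrm π) (hπ : Function.Surjective (π : H →ₐ[k] K)) :
    coinvL π ≤ coinvR π := by
  intro x hx
  rw [mem_coinvR_iff]
  intro R _ _ g n
  obtain ⟨n', hn'⟩ := hn.exists_conj hπ g n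
  have e : cm g (n.comp (π : H →ₐ[k] K)) = cm (n'.comp (π : H →ₐ[k] K)) g := by
    rw [← hn', cm_ci_cm]
  rw [e]
  exact (mem_coinvL_iff π).mp hx R n' g

theorem coinvL_eq_coinvR (hn : Nrm π) (hπ : Function.Surjective (π : H →ₐ[k] K)) :
    coinvL π = coinvR π :=
  le_antisymm (coinvL_le_coinvR hn hπ) (coinvR_le_coinvL hn hπ)

theorem antipode_mem_coinvR (hn : Nrm π) (hπ : Function.Surjective (π : H →ₐ[k] K))
    {x : H} (hx : x ∈ coinvR π) : HopfAlgebra.antipode k x ∈ coinvR π := by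
  rw [mem_coinvR_iff]
  intro R _ _ g n
  have h1 : cm g (n.comp (π : H →ₐ[k] K)) (HopfAlgebra.antipode k x) =
      ci (cm g (n.comp (π : H →ₐ[k] K))) x := rfl
  rw [h1, ci_cm_anti, ← ci_comp]
  exact (mem_coinvL_iff π).mp (coinvR_le_coinvL hn hπ hx) R (ci n) (ci g)

theorem comul_lTensor_eq {x : H} (hx : x ∈ coinvR π) :
    (Algebra.TensorProduct.map (AlgHom.id k H) (rhoR π)) (Coalgebra.comul (R := k) x) =
    (Algebra.TensorProduct.map (AlgHom.id k H)
      (Algebra.TensorProduct.includeLeft : H →ₐ[k] H ⊗[k] K)) (Coalgebra.comul (R := k) x) := by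
  have e1 : (Algebra.TensorProduct.map (AlgHom.id k H) (rhoR π)).comp (Bialgebra.comulAlgHom k H) =
      cm (cm (Algebra.TensorProduct.includeLeft : H →ₐ[k] H ⊗[k] (H ⊗[k] K))
        ((Algebra.TensorProduct.includeRight : H ⊗[k] K →ₐ[k] H ⊗[k] (H ⊗[k] K)).comp
          Algebra.TensorProduct.includeLeft))
        (((Algebra.TensorProduct.includeRight : H ⊗[k] K →ₐ[k] H ⊗[k] (H ⊗[k] K)).comp
          Algebra.TensorProduct.includeRight).comp (π : H →ₐ[k] K)) := by
    rw [← cm_incL_incR, comp_cm, Algebra.TensorProduct.map_comp_includeLeft,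
      Algebra.TensorProduct.map_comp_includeRight, AlgHom.comp_id, rhoR, comp_cm, cm_assoc]
    rfl
  have e2 : (Algebra.TensorProduct.map (AlgHom.id k H)
      (Algebra.TensorProduct.includeLeft : H →ₐ[k] H ⊗[k] K)).comp (Bialgebra.comulAlgHom k H) =
      cm (Algebra.TensorProduct.includeLeft : H →ₐ[k] H ⊗[k] (H ⊗[k] K))
        ((Algebra.TensorProduct.includeRight : H ⊗[k] K →ₐ[k] H ⊗[k] (H ⊗[k] K)).comp
          Algebra.TensorProduct.includeLeft) := by
    rw [← cm_incL_incR, comp_cm, Algebra.TensorProduct.map_comp_includeLeft,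
      Algebra.TensorProduct.map_comp_includeRight, AlgHom.comp_id]
  have h1 := AlgHom.congr_fun e1 x
  have h2 := AlgHom.congr_fun e2 x
  rw [AlgHom.comp_apply, Bialgebra.comulAlgHom_apply] at h1 h2
  rw [h1, h2]
  exact (mem_coinvR_iff π).mp hx _ _ _

theorem comul_rTensor_eq {x : H} (hx : x ∈ coinvL π) :
    (Algebra.TensorProduct.map (rhoL π) (AlgHom.id k H)) (Coalgebra.comul (R := k) x) =
    (Algebra.TensorProduct.map (Algebra.TensorProduct.includeRight : H →ₐ[k] K ⊗[k] H)
      (AlgHom.id k H)) (Coalgebra.comul (R := k) x) := by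
  have e1 : (Algebra.TensorProduct.map (rhoL π) (AlgHom.id k H)).comp (Bialgebra.comulAlgHom k H) =
      cm (((Algebra.TensorProduct.includeLeft : K ⊗[k] H →ₐ[k] (K ⊗[k] H) ⊗[k] H).comp
          Algebra.TensorProduct.includeLeft).comp (π : H →ₐ[k] K))
        (cm ((Algebra.TensorProduct.includeLeft : K ⊗[k] H →ₐ[k] (K ⊗[k] H) ⊗[k] H).comp
          Algebra.TensorProduct.includeRight)
          (Algebra.TensorProduct.includeRight : H →ₐ[k] (K ⊗[k] H) ⊗[k] H)) := by
    rw [← cm_incL_incR, comp_cm, Algebra.TensorProduct.map_comp_includeLeft,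
      Algebra.TensorProduct.map_comp_includeRight, AlgHom.comp_id, rhoL, comp_cm, cm_assoc]
    rfl
  have e2 : (Algebra.TensorProduct.map (Algebra.TensorProduct.includeRight : H →ₐ[k] K ⊗[k] H)
      (AlgHom.id k H)).comp (Bialgebra.comulAlgHom k H) =
      cm ((Algebra.TensorProduct.includeLeft : K ⊗[k] H →ₐ[k] (K ⊗[k] H) ⊗[k] H).comp
          Algebra.TensorProduct.includeRight)
          (Algebra.TensorProduct.includeRight : H →ₐ[k] (K ⊗[k] H) ⊗[k] H) := by
    rw [← cm_incL_incR, comp_cm, Algebra.TensorProduct.map_comp_includeLeft,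
      Algebra.TensorProduct.map_comp_includeRight, AlgHom.comp_id]
  have h1 := AlgHom.congr_fun e1 x
  have h2 := AlgHom.congr_fun e2 x
  rw [AlgHom.comp_apply, Bialgebra.comulAlgHom_apply] at h1 h2
  rw [h1, h2]
  exact (mem_coinvL_iff π).mp hx _ _ _

theorem coinvR_isHopfSubalgebra (hn : Nrm π) (hπ : Function.Surjective (π : H →ₐ[k] K)) :
    SGA3.IsHopfSubalgebra k H (coinvR π) := by
  refine ⟨fun x hx => ?_, fun x hx => antipode_mem_coinvR hn hπ hx⟩
  have hxL : x ∈ coinvL π := coinvR_le_coinvL hn hπ hx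
  have hE1 : LinearMap.eqLocus (rhoR π).toLinearMap
      (Algebra.TensorProduct.includeLeft : H →ₐ[k] H ⊗[k] K).toLinearMap =
      Subalgebra.toSubmodule (coinvR π) := by
    ext y
    exact Iff.rfl
  have hE2 : LinearMap.eqLocus (rhoL π).toLinearMap
      (Algebra.TensorProduct.includeRight : H →ₐ[k] K ⊗[k] H).toLinearMap =
      Subalgebra.toSubmodule (coinvR π) := by
    ext y
    show y ∈ coinvL π ↔ y ∈ coinvR π
    rw [coinvL_eq_coinvR hn hπ]
  have h2 := mem_range_lTensor_eqLocus (M := H) (rhoR π).toLinearMap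
      (Algebra.TensorProduct.includeLeft : H →ₐ[k] H ⊗[k] K).toLinearMap
      (Coalgebra.comul (R := k) x)
      (by rw [← map_id_apply, ← map_id_apply]; exact comul_lTensor_eq hx)
  have h1 := mem_range_rTensor_eqLocus (M := H) (rhoL π).toLinearMap
      (Algebra.TensorProduct.includeRight : H →ₐ[k] K ⊗[k] H).toLinearMap
      (Coalgebra.comul (R := k) x)
      (by rw [← map_apply_id, ← map_apply_id]; exact comul_rTensor_eq hxL)
  rw [hE1] at h2
  rw [hE2] at h1
  exact mem_range_map_of_mem_both _ _ h1 h2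

section Finv

variable {R₀ R₂ : Type*} [CommRing R₀] [Algebra k R₀] [CommRing R₂] [Algebra k R₂]

theorem univ_step (hπ : Function.Surjective (π : H →ₐ[k] K)) (φ ψ : R₀ →ₐ[k] R₂)
    (n₀ : K →ₐ[k] R₀) (g₀ : H →ₐ[k] R₀) (n₁ : K →ₐ[k] R₂) (g₂ : H →ₐ[k] R₂) (m₃ : K →ₐ[k] R₂)
    (hφn : φ.comp n₀ = n₁) (hφg : φ.comp g₀ = cm g₂ (m₃.comp (π : H →ₐ[k] K)))
    (hψn : ψ.comp n₀ = n₁) (hψg : ψ.comp g₀ = g₂) (y : K →ₐ[k] R₀)
    (hy : cm (cm (ci g₀) (n₀.comp (π : H →ₐ[k] K))) g₀ = y.comp (π : H →ₐ[k] K)) :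
    φ.comp y = cm (cm (ci m₃) (ψ.comp y)) m₃ := by
  apply algHom_cancel_right hπ
  have hψy : (ψ.comp y).comp (π : H →ₐ[k] K) =
      cm (cm (ci g₂) (n₁.comp (π : H →ₐ[k] K))) g₂ := by
    rw [AlgHom.comp_assoc, ← hy, comp_cm, comp_cm, comp_ci, ← AlgHom.comp_assoc, hψn, hψg]
  rw [cm_comp, cm_comp, ci_comp, hψy, AlgHom.comp_assoc, ← hy, comp_cm, comp_cm, comp_ci,
    ← AlgHom.comp_assoc, hφn, hφg, conj_cm]

end Finv

theorem conj_groupLike_univ (hn : Nrm π) (hπ : Function.Surjective (π : H →ₐ[k] K))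
    (htriv : ∀ x ∈ coinvR π, ∃ c : k, x = algebraMap k H c)
    {χ : K} (hχ : IsGroupLikeElem k χ) (y : K →ₐ[k] K ⊗[k] H)
    (hy : cm (cm (ci (Algebra.TensorProduct.includeRight : H →ₐ[k] K ⊗[k] H))
        ((Algebra.TensorProduct.includeLeft : K →ₐ[k] K ⊗[k] H).comp (π : H →ₐ[k] K)))
        (Algebra.TensorProduct.includeRight : H →ₐ[k] K ⊗[k] H) = y.comp (π : H →ₐ[k] K)) :
    y χ = χ ⊗ₜ[k] (1 : H) := by
  -- step A
  have hA := univ_step hπ
    (Algebra.TensorProduct.map (AlgHom.id k K) (rhoR π))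
    (Algebra.TensorProduct.map (AlgHom.id k K)
      (Algebra.TensorProduct.includeLeft : H →ₐ[k] H ⊗[k] K))
    (Algebra.TensorProduct.includeLeft : K →ₐ[k] K ⊗[k] H)
    (Algebra.TensorProduct.includeRight : H →ₐ[k] K ⊗[k] H)
    (Algebra.TensorProduct.includeLeft : K →ₐ[k] K ⊗[k] (H ⊗[k] K))
    ((Algebra.TensorProduct.includeRight : H ⊗[k] K →ₐ[k] K ⊗[k] (H ⊗[k] K)).comp
      Algebra.TensorProduct.includeLeft)
    ((Algebra.TensorProduct.includeRight : H ⊗[k] K →ₐ[k] K ⊗[k] (H ⊗[k] K)).comp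
      Algebra.TensorProduct.includeRight)
    (by rw [Algebra.TensorProduct.map_comp_includeLeft, AlgHom.comp_id])
    (by rw [Algebra.TensorProduct.map_comp_includeRight, rhoR, comp_cm]; rfl)
    (by rw [Algebra.TensorProduct.map_comp_includeLeft, AlgHom.comp_id])
    (by rw [Algebra.TensorProduct.map_comp_includeRight]) y hy
  have hA' := AlgHom.congr_fun hA χ
  rw [cm_groupLike _ _ hχ, cm_groupLike _ _ hχ, ci_apply, AlgHom.comp_apply, AlgHom.comp_apply]
    at hA'
  have hA'' : (Algebra.TensorProduct.map (AlgHom.id k K) (rhoR π)) (y χ) =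
      (Algebra.TensorProduct.map (AlgHom.id k K)
        (Algebra.TensorProduct.includeLeft : H →ₐ[k] H ⊗[k] K)) (y χ) := by
    rw [hA']
    set m₃ := ((Algebra.TensorProduct.includeRight : H ⊗[k] K →ₐ[k] K ⊗[k] (H ⊗[k] K)).comp
      Algebra.TensorProduct.includeRight) with hm₃
    set t := (Algebra.TensorProduct.map (AlgHom.id k K)
        (Algebra.TensorProduct.includeLeft : H →ₐ[k] H ⊗[k] K)) (y χ) with ht
    have : m₃ (HopfAlgebra.antipode k χ) * m₃ χ = 1 := by
      rw [← map_mul, hχ.antipode_mul_cancel, map_one]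
    calc m₃ (HopfAlgebra.antipode k χ) * t * m₃ χ
        = t * (m₃ (HopfAlgebra.antipode k χ) * m₃ χ) := by ring
      _ = t := by rw [this, mul_one]
  -- step B
  rw [map_id_apply, map_id_apply] at hA''
  obtain ⟨w, hw⟩ := mem_range_lTensor_eqLocus (M := K) _ _ _ hA''
  -- step C
  have he : (Algebra.TensorProduct.productMap (AlgHom.id k K) (c1 : H →ₐ[k] K)).comp y =
      AlgHom.id k K := by
    apply algHom_cancel_right hπ
    rw [AlgHom.comp_assoc, ← hy, comp_cm, comp_cm, comp_ci, ← AlgHom.comp_assoc,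
      Algebra.TensorProduct.productMap_left, Algebra.TensorProduct.productMap_right, ci_c1,
      c1_cm, cm_c1]
  have key : ∀ w : K ⊗[k] ↥(LinearMap.eqLocus (rhoR π).toLinearMap
      (Algebra.TensorProduct.includeLeft : H →ₐ[k] H ⊗[k] K).toLinearMap),
      (LinearMap.eqLocus (rhoR π).toLinearMap
        (Algebra.TensorProduct.includeLeft : H →ₐ[k] H ⊗[k] K).toLinearMap).subtype.lTensor K w =
      (Algebra.TensorProduct.productMap (AlgHom.id k K) (c1 : H →ₐ[k] K)
        ((LinearMap.eqLocus (rhoR π).toLinearMap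
        (Algebra.TensorProduct.includeLeft : H →ₐ[k] H ⊗[k] K).toLinearMap).subtype.lTensor K w))
        ⊗ₜ[k] (1 : H) := by
    intro w
    induction w using TensorProduct.induction_on with
    | zero => rw [map_zero, map_zero, TensorProduct.zero_tmul]
    | add a b ha hb =>
      rw [map_add, map_add, TensorProduct.add_tmul, ← ha, ← hb]
    | tmul κ e =>
      obtain ⟨c, hc⟩ := htriv e.1 e.2
      simp only [LinearMap.lTensor_tmul, Submodule.subtype_apply,
        Algebra.TensorProduct.productMap_apply_tmul, AlgHom.id_apply, c1_apply]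
      rw [hc]
      simp only [Algebra.algebraMap_eq_smul_one, map_smul, Bialgebra.counit_one, smul_eq_mul,
        TensorProduct.tmul_smul, mul_smul_comm, mul_one, TensorProduct.smul_tmul']
  have h3 := key w
  rw [hw] at h3
  rw [h3]
  congr 1
  exact AlgHom.congr_fun he χ

theorem conj_groupLike (hn : Nrm π) (hπ : Function.Surjective (π : H →ₐ[k] K))
    (htriv : ∀ x ∈ coinvR π, ∃ c : k, x = algebraMap k H c)
    {χ : K} (hχ : IsGroupLikeElem k χ) {R : Type u} [CommRing R] [Algebra k R]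
    (g : H →ₐ[k] R) (n n' : K →ₐ[k] R)
    (h : cm (cm (ci g) (n.comp (π : H →ₐ[k] K))) g = n'.comp (π : H →ₐ[k] K)) :
    n' χ = n χ := by
  obtain ⟨y, hy⟩ := hn.exists_conj' hπ (Algebra.TensorProduct.includeRight : H →ₐ[k] K ⊗[k] H)
    (Algebra.TensorProduct.includeLeft : K →ₐ[k] K ⊗[k] H)
  have hyχ := conj_groupLike_univ hn hπ htriv hχ y hy
  have e : ((Algebra.TensorProduct.productMap n g).comp y).comp (π : H →ₐ[k] K) =
      n'.comp (π : H →ₐ[k] K) := by
    rw [AlgHom.comp_assoc, ← hy, comp_cm, comp_cm, comp_ci, ← AlgHom.comp_assoc,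
      Algebra.TensorProduct.productMap_left, Algebra.TensorProduct.productMap_right, h]
  have e' := algHom_cancel_right hπ e
  rw [← e', AlgHom.comp_apply, hyχ]
  simp

end Setup

end HopfNrmH1
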