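import Groth.Agent.Lib.HopfPts_helper1

/-!
# The Hopf algebra structure on a Hopf subalgebra (over a field)
-/

set_option autoImplicit false
set_option maxHeartbeats 1000000

namespace Groth.Agent.Lib.HopfFFH1

open TensorProduct WithConv

section SubHopf

variable {k : Type*} [Field k] {A : Type*} [CommRing A] [HopfAlgebra k A]

/-- A subalgebra stable under comultiplication and antipode. -/
class IsHopfSub (B : Subalgebra k A) : Prop where
  comul_mem : ∀ b ∈ B, Coalgebra.comul (R := k) b ∈
    (Algebra.TensorProduct.map B.val B.val : ↥B ⊗[k] ↥B →ₐ[k] A ⊗[k] A).range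
  antipode_mem : ∀ b ∈ B, HopfAlgebra.antipode k b ∈ B

theorem algHom_cancel_left {X Y Z : Type*} [Semiring X] [Semiring Y] [Semiring Z]
    [Algebra k X] [Algebra k Y] [Algebra k Z] {g : Y →ₐ[k] Z} (hg : Function.Injective g)
    {a b : X →ₐ[k] Y} (h : g.comp a = g.comp b) : a = b :=
  AlgHom.ext fun x => hg (AlgHom.congr_fun h x)

variable {B : Subalgebra k A}

theorem M2_injective : Function.Injective
    (Algebra.TensorProduct.map B.val B.val : ↥B ⊗[k] ↥B →ₐ[k] A ⊗[k] A) :=
  TensorProduct.map_injective_of_flat_flat B.val.toLinearMap B.val.toLinearMap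
    Subtype.val_injective Subtype.val_injective

variable [hB : IsHopfSub B]

variable (B) in
noncomputable def subComul : ↥B →ₐ[k] ↥B ⊗[k] ↥B :=
  ((AlgEquiv.ofInjective _ (M2_injective (B := B))).symm : _ →ₐ[k] _).comp
    (((Bialgebra.comulAlgHom k A).comp B.val).codRestrict _ (fun b => hB.comul_mem b b.2))

theorem M2_comp_subComul :
    (Algebra.TensorProduct.map B.val B.val).comp (subComul B) =
      (Bialgebra.comulAlgHom k A).comp B.val := by
  ext b
  have := (AlgEquiv.ofInjective _ (M2_injective (B := B))).apply_symm_apply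
    ((((Bialgebra.comulAlgHom k A).comp B.val).codRestrict _
      (fun b => hB.comul_mem b b.2)) b)
  exact congrArg Subtype.val this

noncomputable def subCounit (B : Subalgebra k A) : ↥B →ₐ[k] k :=
  (Bialgebra.counitAlgHom k A).comp B.val

theorem coassocA :
    (Algebra.TensorProduct.assoc k k k A A A).toAlgHom.comp
      ((Algebra.TensorProduct.map (Bialgebra.comulAlgHom k A) (.id k A)).comp
        (Bialgebra.comulAlgHom k A)) =
    (Algebra.TensorProduct.map (.id k A) (Bialgebra.comulAlgHom k A)).comp
      (Bialgebra.comulAlgHom k A) :=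
  AlgHom.ext fun x => Coalgebra.coassoc_apply x

theorem rTensorA :
    (Algebra.TensorProduct.map (Bialgebra.counitAlgHom k A) (.id k A)).comp
      (Bialgebra.comulAlgHom k A) = (Algebra.TensorProduct.lid k A).symm :=
  AlgHom.ext fun x => Coalgebra.rTensor_counit_comul x

theorem lTensorA :
    (Algebra.TensorProduct.map (.id k A) (Bialgebra.counitAlgHom k A)).comp
      (Bialgebra.comulAlgHom k A) = (Algebra.TensorProduct.rid k k A).symm :=
  AlgHom.ext fun x => Coalgebra.lTensor_counit_comul x

theorem sub_coassoc :
    (Algebra.TensorProduct.assoc k k k ↥B ↥B ↥B).toAlgHom.comp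
      ((Algebra.TensorProduct.map (subComul B) (.id k ↥B)).comp (subComul B)) =
    (Algebra.TensorProduct.map (.id k ↥B) (subComul B)).comp (subComul B) := by
  have H := M2_comp_subComul (B := B)
  have hinj3 : Function.Injective
      (Algebra.TensorProduct.map B.val (Algebra.TensorProduct.map B.val B.val) :
        ↥B ⊗[k] (↥B ⊗[k] ↥B) →ₐ[k] A ⊗[k] (A ⊗[k] A)) :=
    TensorProduct.map_injective_of_flat_flat B.val.toLinearMap
      (Algebra.TensorProduct.map B.val B.val).toLinearMap Subtype.val_injective M2_injective
  apply algHom_cancel_left hinj3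
  have nat : (Algebra.TensorProduct.map B.val (Algebra.TensorProduct.map B.val B.val)).comp
      (Algebra.TensorProduct.assoc k k k ↥B ↥B ↥B).toAlgHom =
      (Algebra.TensorProduct.assoc k k k A A A).toAlgHom.comp
        (Algebra.TensorProduct.map (Algebra.TensorProduct.map B.val B.val) B.val) := by
    ext <;> simp [Algebra.TensorProduct.one_def]
  have e1 : (Algebra.TensorProduct.map (Algebra.TensorProduct.map B.val B.val) B.val).comp
      (Algebra.TensorProduct.map (subComul B) (.id k ↥B)) =
      (Algebra.TensorProduct.map (Bialgebra.comulAlgHom k A) (.id k A)).comp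
        (Algebra.TensorProduct.map B.val B.val) := by
    rw [← Algebra.TensorProduct.map_comp, ← Algebra.TensorProduct.map_comp, H,
      AlgHom.comp_id, AlgHom.id_comp]
  have e2 : (Algebra.TensorProduct.map B.val (Algebra.TensorProduct.map B.val B.val)).comp
      (Algebra.TensorProduct.map (.id k ↥B) (subComul B)) =
      (Algebra.TensorProduct.map (.id k A) (Bialgebra.comulAlgHom k A)).comp
        (Algebra.TensorProduct.map B.val B.val) := by
    rw [← Algebra.TensorProduct.map_comp, ← Algebra.TensorProduct.map_comp, H,
      AlgHom.comp_id, AlgHom.id_comp]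
  calc (Algebra.TensorProduct.map B.val (Algebra.TensorProduct.map B.val B.val)).comp
        ((Algebra.TensorProduct.assoc k k k ↥B ↥B ↥B).toAlgHom.comp
          ((Algebra.TensorProduct.map (subComul B) (.id k ↥B)).comp (subComul B)))
      = ((Algebra.TensorProduct.map B.val (Algebra.TensorProduct.map B.val B.val)).comp
          (Algebra.TensorProduct.assoc k k k ↥B ↥B ↥B).toAlgHom).comp
          ((Algebra.TensorProduct.map (subComul B) (.id k ↥B)).comp (subComul B)) := by
        rw [AlgHom.comp_assoc]
    _ = (Algebra.TensorProduct.assoc k k k A A A).toAlgHom.comp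
          (((Algebra.TensorProduct.map (Algebra.TensorProduct.map B.val B.val) B.val).comp
            (Algebra.TensorProduct.map (subComul B) (.id k ↥B))).comp (subComul B)) := by
        rw [nat]; simp only [AlgHom.comp_assoc]
    _ = (Algebra.TensorProduct.assoc k k k A A A).toAlgHom.comp
          ((Algebra.TensorProduct.map (Bialgebra.comulAlgHom k A) (.id k A)).comp
            ((Bialgebra.comulAlgHom k A).comp B.val)) := by
        rw [e1, AlgHom.comp_assoc, H]
    _ = ((Algebra.TensorProduct.assoc k k k A A A).toAlgHom.comp
          ((Algebra.TensorProduct.map (Bialgebra.comulAlgHom k A) (.id k A)).comp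
            (Bialgebra.comulAlgHom k A))).comp B.val := by
        simp only [AlgHom.comp_assoc]
    _ = ((Algebra.TensorProduct.map (.id k A) (Bialgebra.comulAlgHom k A)).comp
          (Bialgebra.comulAlgHom k A)).comp B.val := by rw [coassocA]
    _ = ((Algebra.TensorProduct.map (.id k A) (Bialgebra.comulAlgHom k A)).comp
          (Algebra.TensorProduct.map B.val B.val)).comp (subComul B) := by
        rw [AlgHom.comp_assoc, AlgHom.comp_assoc, H]
    _ = (Algebra.TensorProduct.map B.val (Algebra.TensorProduct.map B.val B.val)).comp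
          ((Algebra.TensorProduct.map (.id k ↥B) (subComul B)).comp (subComul B)) := by
        rw [← e2, AlgHom.comp_assoc]

theorem sub_rTensor :
    (Algebra.TensorProduct.map (subCounit B) (.id k ↥B)).comp (subComul B) =
      (Algebra.TensorProduct.lid k ↥B).symm := by
  have H := M2_comp_subComul (B := B)
  have hinj : Function.Injective
      (Algebra.TensorProduct.map (AlgHom.id k k) B.val : k ⊗[k] ↥B →ₐ[k] k ⊗[k] A) :=
    Module.Flat.lTensor_preserves_injective_linearMap (M := k) B.val.toLinearMap
      Subtype.val_injective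
  apply algHom_cancel_left hinj
  have e1 : (Algebra.TensorProduct.map (AlgHom.id k k) B.val).comp
      (Algebra.TensorProduct.map (subCounit B) (.id k ↥B)) =
      (Algebra.TensorProduct.map (Bialgebra.counitAlgHom k A) (.id k A)).comp
        (Algebra.TensorProduct.map B.val B.val) := by
    rw [← Algebra.TensorProduct.map_comp, ← Algebra.TensorProduct.map_comp,
      AlgHom.comp_id, AlgHom.id_comp, AlgHom.id_comp]
    rfl
  have e2 : (Algebra.TensorProduct.map (AlgHom.id k k) B.val).comp
      ((Algebra.TensorProduct.lid k ↥B).symm : ↥B →ₐ[k] k ⊗[k] ↥B) =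
      ((Algebra.TensorProduct.lid k A).symm : A →ₐ[k] k ⊗[k] A).comp B.val := by
    ext b
    simp
  rw [← AlgHom.comp_assoc, e1, AlgHom.comp_assoc, H, ← AlgHom.comp_assoc, rTensorA, e2]

theorem sub_lTensor :
    (Algebra.TensorProduct.map (.id k ↥B) (subCounit B)).comp (subComul B) =
      (Algebra.TensorProduct.rid k k ↥B).symm := by
  have H := M2_comp_subComul (B := B)
  have hinj : Function.Injective
      (Algebra.TensorProduct.map B.val (AlgHom.id k k) : ↥B ⊗[k] k →ₐ[k] A ⊗[k] k) :=
    Module.Flat.rTensor_preserves_injective_linearMap (M := k) B.val.toLinearMap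
      Subtype.val_injective
  apply algHom_cancel_left hinj
  have e1 : (Algebra.TensorProduct.map B.val (AlgHom.id k k)).comp
      (Algebra.TensorProduct.map (.id k ↥B) (subCounit B)) =
      (Algebra.TensorProduct.map (.id k A) (Bialgebra.counitAlgHom k A)).comp
        (Algebra.TensorProduct.map B.val B.val) := by
    rw [← Algebra.TensorProduct.map_comp, ← Algebra.TensorProduct.map_comp,
      AlgHom.comp_id, AlgHom.id_comp, AlgHom.id_comp]
    rfl
  have e2 : (Algebra.TensorProduct.map B.val (AlgHom.id k k)).comp
      ((Algebra.TensorProduct.rid k k ↥B).symm : ↥B →ₐ[k] ↥B ⊗[k] k) =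
      ((Algebra.TensorProduct.rid k k A).symm : A →ₐ[k] A ⊗[k] k).comp B.val := by
    ext b
    simp
  rw [← AlgHom.comp_assoc, e1, AlgHom.comp_assoc, H, ← AlgHom.comp_assoc, lTensorA, e2]

variable (B) in
/-- The bialgebra structure on a Hopf subalgebra. -/
noncomputable instance subBialgebra : Bialgebra k ↥B :=
  Bialgebra.ofAlgHom (subComul B) (subCounit B) (sub_coassoc) (sub_rTensor)
    (sub_lTensor)

theorem sub_comulAlgHom :
    Bialgebra.comulAlgHom k ↥B = subComul B :=
  AlgHom.ext fun _ => rfl

theorem sub_counitAlgHom :
    Bialgebra.counitAlgHom k ↥B = subCounit B :=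
  AlgHom.ext fun _ => rfl

variable (B) in
noncomputable def subAntipode : ↥B →ₐ[k] ↥B :=
  ((HopfAlgebra.antipodeAlgHom k A).comp B.val).codRestrict B (fun b => hB.antipode_mem b b.2)

theorem subAntipode_coe (b : ↥B) :
    ((subAntipode B b : ↥B) : A) = HopfAlgebra.antipode k (b : A) := rfl

theorem val_comp_subAntipode :
    B.val.comp (subAntipode B) = (HopfAlgebra.antipodeAlgHom k A).comp B.val :=
  AlgHom.val_comp_codRestrict _ _ _

theorem antipodeA₁ :
    (Algebra.TensorProduct.lift (HopfAlgebra.antipodeAlgHom k A) (.id k A)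
      fun _ _ => Commute.all _ _).comp (Bialgebra.comulAlgHom k A) =
      (Algebra.ofId k A).comp (Bialgebra.counitAlgHom k A) := by
  have := cm_antipode_id (k := k) (X := A)
  simp only [cm, c1, AlgHom.convMul_def, AlgHom.convOne_def, ofConv_toConv] at this
  rw [← this, ← Algebra.TensorProduct.lmul'_comp_map, AlgHom.comp_assoc]

theorem antipodeA₂ :
    (Algebra.TensorProduct.lift (.id k A) (HopfAlgebra.antipodeAlgHom k A)
      fun _ _ => Commute.all _ _).comp (Bialgebra.comulAlgHom k A) =
      (Algebra.ofId k A).comp (Bialgebra.counitAlgHom k A) := by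
  have := cm_id_antipode (k := k) (X := A)
  simp only [cm, c1, AlgHom.convMul_def, AlgHom.convOne_def, ofConv_toConv] at this
  rw [← this, ← Algebra.TensorProduct.lmul'_comp_map, AlgHom.comp_assoc]

variable (B) in
/-- The Hopf algebra structure on a Hopf subalgebra. -/
noncomputable instance subHopf : HopfAlgebra k ↥B :=
  HopfAlgebra.ofAlgHom (subAntipode B)
    (by
      rw [sub_comulAlgHom, sub_counitAlgHom]
      apply algHom_cancel_left (g := B.val) Subtype.val_injective
      have e1 : B.val.comp (Algebra.TensorProduct.lift (subAntipode B) (.id k ↥B)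
          fun _ _ => Commute.all _ _) =
          (Algebra.TensorProduct.lift (HopfAlgebra.antipodeAlgHom k A) (.id k A)
            fun _ _ => Commute.all _ _).comp (Algebra.TensorProduct.map B.val B.val) := by
        apply Algebra.TensorProduct.ext'
        intro a b
        simp [subAntipode_coe]
      have e2 : B.val.comp ((Algebra.ofId k ↥B).comp (subCounit B)) =
          ((Algebra.ofId k A).comp (Bialgebra.counitAlgHom k A)).comp B.val := by
        ext b
        simp [subCounit]
      rw [← AlgHom.comp_assoc, e1, AlgHom.comp_assoc, M2_comp_subComul,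
        ← AlgHom.comp_assoc, antipodeA₁, e2])
    (by
      rw [sub_comulAlgHom, sub_counitAlgHom]
      apply algHom_cancel_left (g := B.val) Subtype.val_injective
      have e1 : B.val.comp (Algebra.TensorProduct.lift (.id k ↥B) (subAntipode B)
          fun _ _ => Commute.all _ _) =
          (Algebra.TensorProduct.lift (.id k A) (HopfAlgebra.antipodeAlgHom k A)
            fun _ _ => Commute.all _ _).comp (Algebra.TensorProduct.map B.val B.val) := by
        apply Algebra.TensorProduct.ext'
        intro a b
        simp [subAntipode_coe]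
      have e2 : B.val.comp ((Algebra.ofId k ↥B).comp (subCounit B)) =
          ((Algebra.ofId k A).comp (Bialgebra.counitAlgHom k A)).comp B.val := by
        ext b
        simp [subCounit]
      rw [← AlgHom.comp_assoc, e1, AlgHom.comp_assoc, M2_comp_subComul,
        ← AlgHom.comp_assoc, antipodeA₂, e2])

variable (B) in
/-- The inclusion of a Hopf subalgebra as a bialgebra map. -/
noncomputable def subVal : ↥B →ₐc[k] A :=
  BialgHom.ofAlgHom B.val
    (by rw [sub_counitAlgHom]; rfl)
    (by rw [sub_comulAlgHom, M2_comp_subComul])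

theorem subVal_apply (b : ↥B) : subVal B b = (b : A) := rfl

end SubHopf

end Groth.Agent.Lib.HopfFFH1
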