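import Mathlib
import Groth.Agent.Lib.Birkhoff_helper3

/-!
# Affine Horrocks, part A (helper4): matrix model of vector bundles on `P¹_A`
APPEND-ONLY once landed.

A vector bundle on `P¹_A` is modelled by two idempotent matrices `ε` (chart `Spec A[T]`),
`ε'` (chart `Spec A[T⁻¹]`) and mutually inverse transition matrices `τ`, `τ'` over `A[T;T⁻¹]`.
-/

set_option autoImplicit false
set_option linter.unusedVariables false
set_option linter.unusedTactic false
set_option linter.unreachableTactic false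
set_option linter.unusedSectionVars false
set_option linter.style.haveILetI false
set_option linter.deprecated false
set_option linter.unusedSimpArgs false
set_option linter.style.longLine false
set_option maxHeartbeats 1600000

universe u

noncomputable section

open Polynomial LaurentPolynomial Matrix

namespace Groth.Agent.Lib.HorrocksH4

variable {A : Type u} [CommRing A] {A' : Type u} [CommRing A']

/-- `p ↦ p(T)`. -/
def σp : A[X] →+* A[T;T⁻¹] := Polynomial.toLaurent

/-- `T ↦ T⁻¹` as a ring hom. -/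
def ivt : A[T;T⁻¹] →+* A[T;T⁻¹] := (LaurentPolynomial.invert (R := A)).toRingEquiv.toRingHom

/-- `p ↦ p(T⁻¹)`. -/
def σm : A[X] →+* A[T;T⁻¹] := (ivt (A := A)).comp Polynomial.toLaurent

lemma σp_apply (p : A[X]) : σp p = Polynomial.toLaurent p := rfl
lemma ivt_apply (f : A[T;T⁻¹]) : ivt f = LaurentPolynomial.invert f := rfl
lemma σm_apply (p : A[X]) : σm p = LaurentPolynomial.invert (Polynomial.toLaurent p) := rfl
lemma ivt_ivt (f : A[T;T⁻¹]) : ivt (ivt f) = f := LaurentPolynomial.involutive_invert f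
lemma ivt_σp (p : A[X]) : ivt (σp p) = σm p := rfl
lemma ivt_σm (p : A[X]) : ivt (σm p) = σp p := ivt_ivt _
lemma ivt_T (n : ℤ) : ivt (T n : A[T;T⁻¹]) = T (-n) := LaurentPolynomial.invert_T n
lemma ivt_C (a : A) : ivt (LaurentPolynomial.C a) = LaurentPolynomial.C a :=
  LaurentPolynomial.invert_C a
lemma σp_injective : Function.Injective (σp (A := A)) := Polynomial.toLaurent_injective
lemma ivt_injective : Function.Injective (ivt (A := A)) :=
  (LaurentPolynomial.involutive_invert (R := A)).injective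
lemma σm_injective : Function.Injective (σm (A := A)) :=
  ivt_injective.comp σp_injective
lemma σp_X_pow (n : ℕ) : σp (X ^ n : A[X]) = T n := Polynomial.toLaurent_X_pow n
lemma σm_X_pow (n : ℕ) : σm (X ^ n : A[X]) = T (-(n : ℤ)) := by
  rw [σm_apply, Polynomial.toLaurent_X_pow, LaurentPolynomial.invert_T]
lemma σp_C (a : A) : σp (Polynomial.C a) = LaurentPolynomial.C a := Polynomial.toLaurent_C a
lemma σm_C (a : A) : σm (Polynomial.C a) = LaurentPolynomial.C a := by
  rw [σm_apply, Polynomial.toLaurent_C, LaurentPolynomial.invert_C]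

/-- Coefficientwise map of Laurent polynomials. -/
def mapL (ρ : A →+* A') : A[T;T⁻¹] →+* A'[T;T⁻¹] := AddMonoidAlgebra.mapRingHom ℤ ρ

lemma coeff_mapL (ρ : A →+* A') (f : A[T;T⁻¹]) (n : ℤ) : (mapL ρ f).coeff n = ρ (f.coeff n) :=
  AddMonoidAlgebra.coeff_mapRingHom ρ f n

lemma mapL_T (ρ : A →+* A') (n : ℤ) : mapL ρ (T n) = T n := by
  show AddMonoidAlgebra.mapRingHom ℤ ρ (AddMonoidAlgebra.single n 1) = _
  rw [AddMonoidAlgebra.mapRingHom_single, map_one]; rfl

lemma mapL_C (ρ : A →+* A') (a : A) :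
    mapL ρ (LaurentPolynomial.C a) = LaurentPolynomial.C (ρ a) := by
  show AddMonoidAlgebra.mapRingHom ℤ ρ (AddMonoidAlgebra.single 0 a) = _
  rw [AddMonoidAlgebra.mapRingHom_single]; rfl

lemma mapL_toLaurent (ρ : A →+* A') (p : A[X]) :
    mapL ρ (Polynomial.toLaurent p) = Polynomial.toLaurent (p.map ρ) := by
  have : (mapL ρ).comp Polynomial.toLaurent =
      (Polynomial.toLaurent).comp (Polynomial.mapRingHom ρ) := by
    refine Polynomial.ringHom_ext (fun a => ?_) ?_
    · simp [mapL_C]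
    · simp [mapL_T]
  exact DFunLike.congr_fun this p

lemma mapL_invert (ρ : A →+* A') (f : A[T;T⁻¹]) :
    mapL ρ (LaurentPolynomial.invert f) = LaurentPolynomial.invert (mapL ρ f) := by
  refine LaurentPolynomial.ext fun n => ?_
  rw [coeff_mapL, LaurentPolynomial.invert_apply, LaurentPolynomial.invert_apply, coeff_mapL]

lemma mapL_σp (ρ : A →+* A') (p : A[X]) : mapL ρ (σp p) = σp (p.map ρ) := mapL_toLaurent ρ p
lemma mapL_σm (ρ : A →+* A') (p : A[X]) : mapL ρ (σm p) = σm (p.map ρ) := by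
  rw [σm_apply, mapL_invert, mapL_toLaurent]; rfl
lemma mapL_ivt (ρ : A →+* A') (f : A[T;T⁻¹]) : mapL ρ (ivt f) = ivt (mapL ρ f) := mapL_invert ρ f

lemma map_map_σp (ρ : A →+* A') {m n : Type*} (M : Matrix m n A[X]) :
    (M.map (Polynomial.mapRingHom ρ)).map σp = (M.map σp).map (mapL ρ) := by
  refine Matrix.ext fun i j => ?_
  simp only [Matrix.map_apply, Polynomial.coe_mapRingHom]
  exact (mapL_σp ρ _).symm

lemma map_map_σm (ρ : A →+* A') {m n : Type*} (M : Matrix m n A[X]) :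
    (M.map (Polynomial.mapRingHom ρ)).map σm = (M.map σm).map (mapL ρ) := by
  refine Matrix.ext fun i j => ?_
  simp only [Matrix.map_apply, Polynomial.coe_mapRingHom]
  exact (mapL_σm ρ _).symm

/-- Matrix model of a vector bundle on `P¹_A`. -/
structure PData (A : Type u) [CommRing A] (r r' : ℕ) where
  ε : Matrix (Fin r) (Fin r) A[X]
  ε' : Matrix (Fin r') (Fin r') A[X]
  τ : Matrix (Fin r') (Fin r) A[T;T⁻¹]
  τ' : Matrix (Fin r) (Fin r') A[T;T⁻¹]
  hε : ε * ε = ε
  hε' : ε' * ε' = ε'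
  h1 : τ * ε.map σp = τ
  h2 : ε'.map σm * τ = τ
  h3 : ε.map σp * τ' = τ'
  h4 : τ' * ε'.map σm = τ'
  h5 : τ' * τ = ε.map σp
  h6 : τ * τ' = ε'.map σm

variable {r r' : ℕ}

/-- Base change of the matrix model. -/
def PData.map (D : PData A r r') (ρ : A →+* A') : PData A' r r' where
  ε := D.ε.map (Polynomial.mapRingHom ρ)
  ε' := D.ε'.map (Polynomial.mapRingHom ρ)
  τ := D.τ.map (mapL ρ)
  τ' := D.τ'.map (mapL ρ)
  hε := by rw [← Matrix.map_mul, D.hε]
  hε' := by rw [← Matrix.map_mul, D.hε']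
  h1 := by rw [map_map_σp, ← Matrix.map_mul, D.h1]
  h2 := by rw [map_map_σm, ← Matrix.map_mul, D.h2]
  h3 := by rw [map_map_σp, ← Matrix.map_mul, D.h3]
  h4 := by rw [map_map_σm, ← Matrix.map_mul, D.h4]
  h5 := by rw [map_map_σp, ← Matrix.map_mul, D.h5]
  h6 := by rw [map_map_σm, ← Matrix.map_mul, D.h6]

/-- Over a PID an idempotent matrix splits through a free module. -/
theorem exists_split_of_pid {R : Type u} [CommRing R] [IsDomain R] [IsPrincipalIdealRing R]
    {r : ℕ} (ε : Matrix (Fin r) (Fin r) R) (hε : ε * ε = ε) :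
    ∃ (n : ℕ) (u : Matrix (Fin r) (Fin n) R) (v : Matrix (Fin n) (Fin r) R),
      u * v = ε ∧ v * u = 1 := by
  classical
  let N : Submodule R (Fin r → R) := LinearMap.range (Matrix.toLin' ε)
  obtain ⟨n, b⟩ := Submodule.basisOfPid (Pi.basisFun R (Fin r)) N
  let g : (Fin r → R) →ₗ[R] N := (Matrix.toLin' ε).rangeRestrict
  have hg : N.subtype ∘ₗ g = Matrix.toLin' ε := LinearMap.ext fun x => rfl
  have hg' : g ∘ₗ N.subtype = LinearMap.id := by
    refine LinearMap.ext fun x => ?_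
    obtain ⟨x, y, rfl⟩ := x
    refine Subtype.ext ?_
    show Matrix.toLin' ε (Matrix.toLin' ε y) = Matrix.toLin' ε y
    rw [← LinearMap.comp_apply, ← Matrix.toLin'_mul, hε]
  refine ⟨n, LinearMap.toMatrix b (Pi.basisFun R (Fin r)) N.subtype,
    LinearMap.toMatrix (Pi.basisFun R (Fin r)) b g, ?_, ?_⟩
  · rw [← LinearMap.toMatrix_comp (Pi.basisFun R (Fin r)) b (Pi.basisFun R (Fin r)), hg,
      LinearMap.toMatrix_eq_toMatrix', LinearMap.toMatrix'_toLin']
  · rw [← LinearMap.toMatrix_comp b (Pi.basisFun R (Fin r)) b, hg', LinearMap.toMatrix_id]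

lemma map_ivt_map_ivt {m n : Type*} (M : Matrix m n A[T;T⁻¹]) : (M.map ivt).map ivt = M := by
  refine Matrix.ext fun i j => ?_
  simp only [Matrix.map_apply]
  exact ivt_ivt _

lemma map_σp_map_ivt {m n : Type*} (M : Matrix m n A[X]) : (M.map σp).map ivt = M.map σm := by
  refine Matrix.ext fun i j => ?_
  simp only [Matrix.map_apply]
  rfl

lemma map_σm_map_ivt {m n : Type*} (M : Matrix m n A[X]) : (M.map σm).map ivt = M.map σp := by
  refine Matrix.ext fun i j => ?_
  simp only [Matrix.map_apply]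
  exact ivt_σm _

/-- Over a field, the two charts admit bases adapted to each other (Birkhoff/Grothendieck). -/
theorem adapted_basis {k : Type u} [Field k] {r r' n : ℕ} (D : PData k r r')
    (u : Matrix (Fin r) (Fin n) k[X]) (v : Matrix (Fin n) (Fin r) k[X])
    (huv : u * v = D.ε) (hvu : v * u = 1) :
    ∃ (u₂ : Matrix (Fin r) (Fin n) k[X]) (v₂ : Matrix (Fin n) (Fin r) k[X])
      (u' : Matrix (Fin r') (Fin n) k[X]) (v' : Matrix (Fin n) (Fin r') k[X]) (c : Fin n → ℤ),
      u₂ * v₂ = D.ε ∧ v₂ * u₂ = 1 ∧ u' * v' = D.ε' ∧ v' * u' = 1 ∧ Monotone c ∧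
      D.τ * u₂.map σp = u'.map σm * Matrix.diagonal (fun i => (T (c i) : k[T;T⁻¹])) := by
  classical
  obtain ⟨n', u'₀, v'₀, hu'v', hv'u'⟩ := exists_split_of_pid D.ε' D.hε'
  obtain ⟨a, ha⟩ : ∃ a : Matrix (Fin n') (Fin n) k[T;T⁻¹], a = v'₀.map σm * D.τ * u.map σp :=
    ⟨_, rfl⟩
  obtain ⟨a', ha'⟩ : ∃ a' : Matrix (Fin n) (Fin n') k[T;T⁻¹],
    a' = v.map σp * D.τ' * u'₀.map σm := ⟨_, rfl⟩
  have h1 : a' * a = 1 := by
    calc a' * a = v.map σp * (D.τ' * ((u'₀ * v'₀).map σm) * D.τ) * u.map σp := by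
          rw [ha, ha', Matrix.map_mul]; simp only [Matrix.mul_assoc]
      _ = v.map σp * (D.ε.map σp) * u.map σp := by rw [hu'v', D.h4, D.h5]
      _ = ((v * u) * (v * u)).map σp := by
          rw [← huv]; simp only [Matrix.map_mul, Matrix.mul_assoc]
      _ = 1 := by rw [hvu, Matrix.one_mul, Matrix.map_one _ (map_zero _) (map_one _)]
  have h2 : a * a' = 1 := by
    calc a * a' = v'₀.map σm * (D.τ * ((u * v).map σp) * D.τ') * u'₀.map σm := by
          rw [ha, ha', Matrix.map_mul]; simp only [Matrix.mul_assoc]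
      _ = v'₀.map σm * (D.ε'.map σm) * u'₀.map σm := by rw [huv, D.h1, D.h6]
      _ = ((v'₀ * u'₀) * (v'₀ * u'₀)).map σm := by
          rw [← hu'v']; simp only [Matrix.map_mul, Matrix.mul_assoc]
      _ = 1 := by rw [hv'u', Matrix.one_mul, Matrix.map_one _ (map_zero _) (map_one _)]
  have hn : n' = n := by
    have := Matrix.square_of_invertible a a' h2 h1
    simpa using this
  subst hn
  have hunit : IsUnit (a.map (⇑(LaurentPolynomial.invert (R := k)))) := by
    refine ⟨⟨a.map ivt, a'.map ivt, ?_, ?_⟩, rfl⟩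
    · rw [← Matrix.map_mul, h2, Matrix.map_one _ (map_zero _) (map_one _)]
    · rw [← Matrix.map_mul, h1, Matrix.map_one _ (map_zero _) (map_one _)]
  obtain ⟨P, Q, d, hP, hQ, hd, hfac⟩ := Groth.Agent.Lib.Birkhoff_helper3.birkhoff _ hunit
  obtain ⟨⟨P, Pi, hP1, hP2⟩, rfl⟩ := hP
  obtain ⟨⟨Q, Qi, hQ1, hQ2⟩, rfl⟩ := hQ
  simp only at hfac hP1 hP2 hQ1 hQ2
  have h3 : a = P.map σm * Matrix.diagonal (fun i => (T (-(d i)) : k[T;T⁻¹])) * Q.map σp := by
    have e1 := congrArg (fun M : Matrix (Fin n') (Fin n') k[T;T⁻¹] => M.map ivt) hfac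
    rw [show (a.map (⇑(LaurentPolynomial.invert (R := k)))) = a.map ivt from rfl,
      map_ivt_map_ivt, Matrix.map_mul, Matrix.map_mul] at e1
    rw [e1]
    have e2 : (P.map (⇑(Polynomial.toLaurent (R := k)))).map ivt = P.map σm := map_σp_map_ivt P
    have e3 : (Matrix.diagonal (fun i => (T (d i) : k[T;T⁻¹]))).map ivt =
        Matrix.diagonal (fun i => (T (-(d i)) : k[T;T⁻¹])) := by
      rw [Matrix.diagonal_map (map_zero _)]
      congr 1
      funext i
      exact ivt_T _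
    have e4 : ((Q.map (⇑(Polynomial.toLaurent (R := k)))).map
        (⇑(LaurentPolynomial.invert (R := k)))).map ivt = Q.map σp :=
      map_ivt_map_ivt (Q.map σp)
    rw [e2, e3, e4]
  have h4 : u'₀.map σm * a = D.τ * u.map σp := by
    rw [ha, ← Matrix.mul_assoc, ← Matrix.mul_assoc, ← Matrix.map_mul, hu'v', D.h2]
  refine ⟨u * Qi, Q * v, u'₀ * P, Pi * v'₀, fun i => -(d i), ?_, ?_, ?_, ?_, ?_, ?_⟩
  · rw [Matrix.mul_assoc, ← Matrix.mul_assoc Qi, hQ2, Matrix.one_mul, huv]
  · rw [Matrix.mul_assoc, ← Matrix.mul_assoc v, hvu, Matrix.one_mul, hQ1]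
  · rw [Matrix.mul_assoc, ← Matrix.mul_assoc P, hP1, Matrix.one_mul, hu'v']
  · rw [Matrix.mul_assoc, ← Matrix.mul_assoc v'₀, hv'u', Matrix.one_mul, hP2]
  · intro i j hij
    exact neg_le_neg (hd hij)
  · calc D.τ * (u * Qi).map σp = (D.τ * u.map σp) * Qi.map σp := by
          rw [Matrix.map_mul, Matrix.mul_assoc]
      _ = u'₀.map σm * P.map σm * Matrix.diagonal (fun i => (T (-(d i)) : k[T;T⁻¹])) *
            (Q.map σp * Qi.map σp) := by
          rw [← h4, h3]; simp only [Matrix.mul_assoc]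
      _ = (u'₀ * P).map σm * Matrix.diagonal (fun i => (T (-(d i)) : k[T;T⁻¹])) := by
          rw [show Q.map σp * Qi.map σp = (1 : Matrix (Fin n') (Fin n') k[T;T⁻¹]) by
            rw [← Matrix.map_mul, hQ1, Matrix.map_one _ (map_zero _) (map_one _)], Matrix.mul_one,
            Matrix.map_mul]

end Groth.Agent.Lib.HorrocksH4
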