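import Mathlib
import Groth.Agent.Lib.HorrA_helper4

/-!
# Affine Horrocks, part B (helper4): vanishing of `H¹` of a twist (Nakayama) in the matrix model
APPEND-ONLY once landed.
-/

set_option autoImplicit false
set_option linter.unusedVariables false
set_option linter.unusedTactic false
set_option linter.unreachableTactic false
set_option linter.unusedSectionVars false
set_option linter.style.haveILetI false
set_option linter.deprecated false
set_option linter.unusedSimpArgs false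
set_option linter.style.longLine false
set_option maxHeartbeats 1600000

universe u

noncomputable section

open Polynomial LaurentPolynomial Matrix

namespace Groth.Agent.Lib.HorrocksH4

variable {A : Type u} [CommRing A] {A' : Type u} [CommRing A'] {r r' : ℕ}

lemma comp_mulVec {R S : Type*} [CommRing R] [CommRing S] (f : R →+* S) {m n : Type*} [Fintype n]
    (M : Matrix m n R) (w : n → R) : f ∘ (M *ᵥ w) = M.map f *ᵥ (f ∘ w) :=
  funext fun i => RingHom.map_mulVec f M w i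

lemma σp_smul (a : A) (p : A[X]) : σp (a • p) = a • σp p := by
  rw [Polynomial.smul_eq_C_mul, map_mul, σp_C, LaurentPolynomial.smul_eq_C_mul]

lemma σm_smul (a : A) (p : A[X]) : σm (a • p) = a • σm p := by
  rw [Polynomial.smul_eq_C_mul, map_mul, σm_C, LaurentPolynomial.smul_eq_C_mul]

/-- every Laurent polynomial is `T^c · (polynomial in T) + T^j · (polynomial in T⁻¹)` if
`c ≤ j + 1`. -/
lemma exists_split_laurent {R : Type u} [CommRing R] (f : R[T;T⁻¹]) (c j : ℤ) (h : c ≤ j + 1) :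
    ∃ g h' : R[X], f = T c * σp g + T j * σm h' := by
  induction f using LaurentPolynomial.induction_on' with
  | add p q hp hq =>
    obtain ⟨g₁, h₁, e₁⟩ := hp
    obtain ⟨g₂, h₂, e₂⟩ := hq
    exact ⟨g₁ + g₂, h₁ + h₂, by rw [e₁, e₂, map_add, map_add]; ring⟩
  | C_mul_T n a =>
    by_cases hn : c ≤ n
    · refine ⟨Polynomial.C a * X ^ (n - c).toNat, 0, ?_⟩
      rw [map_zero, mul_zero, add_zero, map_mul, σp_C, σp_X_pow, mul_left_comm, ← T_add]
      congr 2
      omega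
    · refine ⟨0, Polynomial.C a * X ^ (j - n).toNat, ?_⟩
      rw [map_zero, mul_zero, zero_add, map_mul, σm_C, σm_X_pow, mul_left_comm, ← T_add]
      congr 2
      omega

/-- clearing denominators of finitely many Laurent polynomials. -/
lemma exists_common_T_pow {ι : Type*} [Finite ι] (f : ι → A[T;T⁻¹]) :
    ∃ (N : ℕ) (g : ι → A[X]), ∀ i, σp (g i) = T N * f i := by
  classical
  cases nonempty_fintype ι
  choose n g hg using fun i => LaurentPolynomial.exists_T_pow (f i)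
  refine ⟨∑ i, n i, fun i => X ^ ((∑ i, n i) - n i) * g i, fun i => ?_⟩
  have hle : n i ≤ ∑ i, n i := Finset.single_le_sum (fun _ _ => Nat.zero_le _) (Finset.mem_univ i)
  rw [map_mul, σp_X_pow, σp_apply, hg i, mul_comm (f i), ← mul_assoc, ← T_add]
  congr 2
  push_cast [Nat.cast_sub hle]
  ring

/-- `(x, y) ↦ τ·x(T) + T^j · ε'(T⁻¹)·y(T⁻¹)`: the sum of the two lattices. -/
def phi (D : PData A r r') (j : ℤ) (x : Fin r → A[X]) (y : Fin r' → A[X]) :
    Fin r' → A[T;T⁻¹] :=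
  D.τ *ᵥ (σp ∘ x) + (T j : A[T;T⁻¹]) • (D.ε'.map σm *ᵥ (σm ∘ y))

lemma phi_zero (D : PData A r r') (j : ℤ) : phi D j 0 0 = 0 := by
  unfold phi
  have e1 : (σp ∘ (0 : Fin r → A[X]) : Fin r → A[T;T⁻¹]) = 0 := by funext i; simp
  have e2 : (σm ∘ (0 : Fin r' → A[X]) : Fin r' → A[T;T⁻¹]) = 0 := by funext i; simp
  rw [e1, e2, Matrix.mulVec_zero, Matrix.mulVec_zero, smul_zero, add_zero]

lemma phi_add (D : PData A r r') (j : ℤ) (x x' : Fin r → A[X]) (y y' : Fin r' → A[X]) :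
    phi D j (x + x') (y + y') = phi D j x y + phi D j x' y' := by
  unfold phi
  have e1 : (σp ∘ (x + x') : Fin r → A[T;T⁻¹]) = σp ∘ x + σp ∘ x' := by funext i; simp
  have e2 : (σm ∘ (y + y') : Fin r' → A[T;T⁻¹]) = σm ∘ y + σm ∘ y' := by funext i; simp
  rw [e1, e2, Matrix.mulVec_add, Matrix.mulVec_add, smul_add]
  abel

lemma phi_smul (D : PData A r r') (j : ℤ) (a : A) (x : Fin r → A[X]) (y : Fin r' → A[X]) :
    phi D j (a • x) (a • y) = a • phi D j x y := by
  unfold phi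
  have e1 : (σp ∘ (a • x) : Fin r → A[T;T⁻¹]) = a • (σp ∘ x) := by
    funext i; simp [σp_smul]
  have e2 : (σm ∘ (a • y) : Fin r' → A[T;T⁻¹]) = a • (σm ∘ y) := by
    funext i; simp [σm_smul]
  rw [e1, e2, Matrix.mulVec_smul, Matrix.mulVec_smul, smul_add, smul_comm a (T j)]

lemma phi_map (D : PData A r r') (ρ : A →+* A') (j : ℤ) (x : Fin r → A[X])
    (y : Fin r' → A[X]) :
    (mapL ρ) ∘ phi D j x y =
      phi (D.map ρ) j (Polynomial.map ρ ∘ x) (Polynomial.map ρ ∘ y) := by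
  have e1 : (mapL ρ) ∘ (σp ∘ x) = σp ∘ (Polynomial.map ρ ∘ x) := by
    funext i; exact mapL_σp ρ _
  have e2 : (mapL ρ) ∘ (σm ∘ y) = σm ∘ (Polynomial.map ρ ∘ y) := by
    funext i; exact mapL_σm ρ _
  have e3 : (mapL ρ) ∘ (D.τ *ᵥ (σp ∘ x)) = (D.map ρ).τ *ᵥ (σp ∘ (Polynomial.map ρ ∘ x)) := by
    rw [comp_mulVec, e1]; rfl
  have e4 : (mapL ρ) ∘ (D.ε'.map σm *ᵥ (σm ∘ y)) =
      (D.map ρ).ε'.map σm *ᵥ (σm ∘ (Polynomial.map ρ ∘ y)) := by
    rw [comp_mulVec, e2]
    show _ = (D.ε'.map (Polynomial.mapRingHom ρ)).map σm *ᵥ _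
    rw [map_map_σm]
  unfold phi
  rw [← e3, ← e4]
  funext i
  simp only [Function.comp_apply, Pi.add_apply, Pi.smul_apply, smul_eq_mul, map_add, map_mul,
    mapL_T]

/-- the module `V` of the bundle over `A[T;T⁻¹]`, as an `A`-module. -/
def Vsub (D : PData A r r') : Submodule A (Fin r' → A[T;T⁻¹]) where
  carrier := {z | D.ε'.map σm *ᵥ z = z}
  add_mem' := by
    intro a b ha hb
    show _ = _
    rw [Matrix.mulVec_add, ha, hb]
  zero_mem' := Matrix.mulVec_zero _
  smul_mem' := by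
    intro c z hz
    show _ = _
    rw [Matrix.mulVec_smul, hz]

lemma mem_Vsub (D : PData A r r') (z : Fin r' → A[T;T⁻¹]) :
    z ∈ Vsub D ↔ D.ε'.map σm *ᵥ z = z := Iff.rfl

/-- the sum of the two lattices `M + T^j N`, as an `A`-module. -/
def Ssub (D : PData A r r') (j : ℤ) : Submodule A (Fin r' → A[T;T⁻¹]) where
  carrier := {z | ∃ x y, z = phi D j x y}
  add_mem' := by
    rintro _ _ ⟨x, y, rfl⟩ ⟨x', y', rfl⟩
    exact ⟨x + x', y + y', (phi_add D j x x' y y').symm⟩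
  zero_mem' := ⟨0, 0, (phi_zero D j).symm⟩
  smul_mem' := by
    rintro a _ ⟨x, y, rfl⟩
    exact ⟨a • x, a • y, (phi_smul D j a x y).symm⟩

lemma mem_Ssub (D : PData A r r') (j : ℤ) (z : Fin r' → A[T;T⁻¹]) :
    z ∈ Ssub D j ↔ ∃ x y, z = phi D j x y := Iff.rfl

lemma ε'σm_idem (D : PData A r r') : D.ε'.map σm * D.ε'.map σm = D.ε'.map σm := by
  rw [← Matrix.map_mul, D.hε']

lemma εσp_idem (D : PData A r r') : D.ε.map σp * D.ε.map σp = D.ε.map σp := by
  rw [← Matrix.map_mul, D.hε]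

lemma Vsub_smul_mem (D : PData A r r') (f : A[T;T⁻¹]) {z : Fin r' → A[T;T⁻¹]}
    (hz : z ∈ Vsub D) : f • z ∈ Vsub D := by
  rw [mem_Vsub] at hz ⊢
  rw [Matrix.mulVec_smul, hz]

lemma phi_mem_Vsub (D : PData A r r') (j : ℤ) (x : Fin r → A[X]) (y : Fin r' → A[X]) :
    phi D j x y ∈ Vsub D := by
  rw [mem_Vsub]
  unfold phi
  rw [Matrix.mulVec_add, Matrix.mulVec_mulVec, D.h2, Matrix.mulVec_smul, Matrix.mulVec_mulVec,
    ε'σm_idem]

lemma Ssub_le_Vsub (D : PData A r r') (j : ℤ) : Ssub D j ≤ Vsub D := by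
  rintro _ ⟨x, y, rfl⟩
  exact phi_mem_Vsub D j x y

/-- columns of `ε'(T⁻¹)`. -/
def vcol (D : PData A r r') (l : Fin r') : Fin r' → A[T;T⁻¹] := fun i => (D.ε'.map σm) i l

/-- columns of `τ'`. -/
def tcol (D : PData A r r') (l : Fin r') : Fin r → A[T;T⁻¹] := fun i => D.τ' i l

lemma vcol_mem (D : PData A r r') (l : Fin r') : vcol D l ∈ Vsub D := by
  rw [mem_Vsub]
  funext i
  show (D.ε'.map σm *ᵥ fun i => (D.ε'.map σm) i l) i = (D.ε'.map σm) i l
  conv_rhs => rw [← ε'σm_idem D]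
  rfl

lemma τ_mulVec_tcol (D : PData A r r') (l : Fin r') : D.τ *ᵥ tcol D l = vcol D l := by
  funext i
  show (D.τ *ᵥ fun i => D.τ' i l) i = (D.ε'.map σm) i l
  rw [← D.h6]
  rfl

lemma mulVec_eq_sum_vcol (D : PData A r r') (z : Fin r' → A[T;T⁻¹]) :
    D.ε'.map σm *ᵥ z = ∑ l, z l • vcol D l := by
  funext i
  rw [Finset.sum_apply]
  show ∑ l, (D.ε'.map σm) i l * z l = ∑ l, (z l • vcol D l) i
  refine Finset.sum_congr rfl fun l _ => ?_
  show _ = z l * (D.ε'.map σm) i l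
  ring

lemma mulVec_single_eq (D : PData A r r') (l : Fin r') (c : A[T;T⁻¹]) :
    D.ε'.map σm *ᵥ Pi.single l c = c • vcol D l := by
  classical
  funext m
  rw [Matrix.mulVec_single]
  show (D.ε'.map σm) m l * c = c * (D.ε'.map σm) m l
  exact mul_comm _ _

/-- `T^i • vcol l ∈ S` for `i ≤ j`. -/
lemma T_smul_vcol_mem_of_le (D : PData A r r') (j i : ℤ) (hi : i ≤ j) (l : Fin r') :
    (T i : A[T;T⁻¹]) • vcol D l ∈ Ssub D j := by
  classical
  refine ⟨0, Pi.single l (X ^ (j - i).toNat), ?_⟩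
  unfold phi
  have e1 : (σp ∘ (0 : Fin r → A[X]) : Fin r → A[T;T⁻¹]) = 0 := by funext i; simp
  have e2 : (σm ∘ (Pi.single l (X ^ (j - i).toNat) : Fin r' → A[X]) : Fin r' → A[T;T⁻¹]) =
      Pi.single l (T (-(((j - i).toNat : ℕ) : ℤ))) := by
    funext m
    by_cases hm : m = l
    · subst hm; simp [σm_X_pow]
    · simp [Pi.single_eq_of_ne hm]
  rw [e1, Matrix.mulVec_zero, zero_add, e2, mulVec_single_eq, smul_smul, ← T_add]
  congr 2
  omega

/-- `T^i • vcol l ∈ S` for `i ≥ N`. -/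
lemma T_smul_vcol_mem_of_ge (D : PData A r r') (j : ℤ) (N : ℕ) (G : Matrix (Fin r) (Fin r') A[X])
    (hG : ∀ m l, σp (G m l) = T N * D.τ' m l) (i : ℤ) (hi : (N : ℤ) ≤ i) (l : Fin r') :
    (T i : A[T;T⁻¹]) • vcol D l ∈ Ssub D j := by
  refine ⟨fun m => X ^ (i - N).toNat * G m l, 0, ?_⟩
  unfold phi
  have e2 : (σm ∘ (0 : Fin r' → A[X]) : Fin r' → A[T;T⁻¹]) = 0 := by funext i; simp
  have e1 : (σp ∘ (fun m => X ^ (i - N).toNat * G m l) : Fin r → A[T;T⁻¹]) =
      (T i : A[T;T⁻¹]) • tcol D l := by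
    funext m
    show σp (X ^ (i - N).toNat * G m l) = T i * D.τ' m l
    rw [map_mul, σp_X_pow, hG, ← mul_assoc, ← T_add]
    congr 2
    omega
  rw [e1, e2, Matrix.mulVec_zero, smul_zero, add_zero, Matrix.mulVec_smul, τ_mulVec_tcol]

/-- the finitely many "middle" generators. -/
def W0 (D : PData A r r') (j : ℤ) (N : ℕ) : Submodule A (Fin r' → A[T;T⁻¹]) :=
  Submodule.span A ((fun p : ℤ × Fin r' => (T p.1 : A[T;T⁻¹]) • vcol D p.2) ''
    ((Finset.Ioo j (N : ℤ) ×ˢ (Finset.univ : Finset (Fin r')) : Finset (ℤ × Fin r')) :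
      Set (ℤ × Fin r')))

lemma W0_fg (D : PData A r r') (j : ℤ) (N : ℕ) : (W0 D j N).FG :=
  Submodule.fg_span ((Finset.finite_toSet _).image _)

lemma W0_le_Vsub (D : PData A r r') (j : ℤ) (N : ℕ) : W0 D j N ≤ Vsub D := by
  refine Submodule.span_le.2 ?_
  rintro _ ⟨p, _, rfl⟩
  exact Vsub_smul_mem D _ (vcol_mem D p.2)

lemma Vsub_le_sup (D : PData A r r') (j : ℤ) (N : ℕ) (G : Matrix (Fin r) (Fin r') A[X])
    (hG : ∀ m l, σp (G m l) = T N * D.τ' m l) : Vsub D ≤ Ssub D j ⊔ W0 D j N := by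
  intro z hz
  rw [mem_Vsub] at hz
  rw [← hz, mulVec_eq_sum_vcol]
  refine Submodule.sum_mem _ fun l _ => ?_
  generalize z l = f
  induction f using LaurentPolynomial.induction_on' with
  | add p q hp hq => rw [add_smul]; exact add_mem hp hq
  | C_mul_T n a =>
    have : (LaurentPolynomial.C a * T n : A[T;T⁻¹]) • vcol D l =
        a • ((T n : A[T;T⁻¹]) • vcol D l) := by
      rw [← LaurentPolynomial.smul_eq_C_mul, smul_assoc]
    rw [this]
    refine Submodule.smul_mem _ _ ?_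
    by_cases h1 : n ≤ j
    · exact Submodule.mem_sup_left (T_smul_vcol_mem_of_le D j n h1 l)
    · by_cases h2 : (N : ℤ) ≤ n
      · exact Submodule.mem_sup_left (T_smul_vcol_mem_of_ge D j N G hG n h2 l)
      · refine Submodule.mem_sup_right (Submodule.subset_span ⟨(n, l), ?_, rfl⟩)
        exact Finset.mem_coe.2 (Finset.mem_product.2
          ⟨Finset.mem_Ioo.2 ⟨by omega, by omega⟩, Finset.mem_univ _⟩)

lemma smul_mem_smul_Vsub [IsLocalRing A] (D : PData A r r') (f : A[T;T⁻¹])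
    (hf : mapL (IsLocalRing.residue A) f = 0) {v : Fin r' → A[T;T⁻¹]} (hv : v ∈ Vsub D) :
    f • v ∈ IsLocalRing.maximalIdeal A • Vsub D := by
  have hc : ∀ n, f.coeff n ∈ IsLocalRing.maximalIdeal A := by
    intro n
    have h1 : (mapL (IsLocalRing.residue A) f).coeff n = 0 := by rw [hf]; rfl
    rw [coeff_mapL] at h1
    exact (IsLocalRing.residue_eq_zero_iff _).1 h1
  have hf' : f = ∑ n ∈ f.coeff.support, AddMonoidAlgebra.single n (f.coeff n) :=
    (AddMonoidAlgebra.sum_coeff_single f).symm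
  rw [hf', Finset.sum_smul]
  refine Submodule.sum_mem _ fun n _ => ?_
  have : (AddMonoidAlgebra.single n (f.coeff n) : A[T;T⁻¹]) • v =
      f.coeff n • ((T n : A[T;T⁻¹]) • v) := by
    rw [LaurentPolynomial.single_eq_C_mul_T, ← LaurentPolynomial.smul_eq_C_mul, smul_assoc]
  rw [this]
  exact Submodule.smul_mem_smul (hc n) (Vsub_smul_mem D _ hv)

lemma mem_smul_of_map_eq_zero [IsLocalRing A] (D : PData A r r') (z : Fin r' → A[T;T⁻¹])
    (hz : z ∈ Vsub D) (h0 : mapL (IsLocalRing.residue A) ∘ z = 0) :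
    z ∈ IsLocalRing.maximalIdeal A • Vsub D := by
  have h1 := (mem_Vsub D z).1 hz
  rw [← h1, mulVec_eq_sum_vcol]
  refine Submodule.sum_mem _ fun l _ => ?_
  exact smul_mem_smul_Vsub D (z l) (congrFun h0 l) (vcol_mem D l)

/-- over a field, with adapted bases, the two lattices span. -/
theorem field_level {k : Type u} [Field k] {n : ℕ} (D : PData k r r')
    (u₂ : Matrix (Fin r) (Fin n) k[X]) (u' : Matrix (Fin r') (Fin n) k[X])
    (v' : Matrix (Fin n) (Fin r') k[X]) (c : Fin n → ℤ)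
    (hu'v' : u' * v' = D.ε') (hv'u' : v' * u' = 1)
    (hrel : D.τ * u₂.map σp = u'.map σm * Matrix.diagonal (fun i => (T (c i) : k[T;T⁻¹])))
    (j : ℤ) (hj : ∀ i, c i ≤ j + 1) (z : Fin r' → k[T;T⁻¹]) (hz : D.ε'.map σm *ᵥ z = z) :
    ∃ x y, z = phi D j x y := by
  classical
  choose ξ η hξη using fun i => exists_split_laurent ((v'.map σm *ᵥ z) i) (c i) j (hj i)
  refine ⟨u₂ *ᵥ ξ, u' *ᵥ η, ?_⟩
  have e0 : z = u'.map σm *ᵥ (v'.map σm *ᵥ z) := by
    rw [Matrix.mulVec_mulVec, ← Matrix.map_mul, hu'v', hz]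
  have e1 : v'.map σm *ᵥ z = Matrix.diagonal (fun i => (T (c i) : k[T;T⁻¹])) *ᵥ (σp ∘ ξ) +
      (T j : k[T;T⁻¹]) • (σm ∘ η) := by
    funext i
    rw [hξη i]
    simp [Matrix.mulVec_diagonal]
  have e2 : D.ε' * u' = u' := by
    rw [← hu'v', Matrix.mul_assoc, hv'u', Matrix.mul_one]
  unfold phi
  rw [comp_mulVec σp, comp_mulVec σm, Matrix.mulVec_mulVec, Matrix.mulVec_mulVec, hrel,
    ← Matrix.map_mul, e2]
  conv_lhs => rw [e0, e1]
  rw [Matrix.mulVec_add, Matrix.mulVec_mulVec, Matrix.mulVec_smul]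

lemma Vsub_le_sup_smul [IsLocalRing A] (D : PData A r r') (j : ℤ)
    (hFL : ∀ z : Fin r' → (IsLocalRing.ResidueField A)[T;T⁻¹],
      (D.map (IsLocalRing.residue A)).ε'.map σm *ᵥ z = z →
      ∃ x y, z = phi (D.map (IsLocalRing.residue A)) j x y) :
    Vsub D ≤ Ssub D j ⊔ IsLocalRing.maximalIdeal A • Vsub D := by
  intro z hz
  have hzb : (D.map (IsLocalRing.residue A)).ε'.map σm *ᵥ (mapL (IsLocalRing.residue A) ∘ z) =
      mapL (IsLocalRing.residue A) ∘ z := by
    show (D.ε'.map (Polynomial.mapRingHom (IsLocalRing.residue A))).map σm *ᵥ _ = _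
    rw [map_map_σm, ← comp_mulVec, (mem_Vsub D z).1 hz]
  obtain ⟨xb, yb, h⟩ := hFL _ hzb
  have hsurj : Function.Surjective (Polynomial.map (IsLocalRing.residue A)) :=
    Polynomial.map_surjective _ IsLocalRing.residue_surjective
  choose x hx using fun i => hsurj (xb i)
  choose y hy using fun i => hsurj (yb i)
  have hs : mapL (IsLocalRing.residue A) ∘ phi D j x y = mapL (IsLocalRing.residue A) ∘ z := by
    rw [phi_map, h]
    congr 1
    · funext i; exact hx i
    · funext i; exact hy i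
  have hmem : z - phi D j x y ∈ IsLocalRing.maximalIdeal A • Vsub D := by
    refine mem_smul_of_map_eq_zero D _ (sub_mem hz (phi_mem_Vsub D j x y)) ?_
    funext i
    have := congrFun hs i
    simp only [Function.comp_apply] at this
    simp only [Function.comp_apply, Pi.sub_apply, map_sub, this, sub_self, Pi.zero_apply]
  have : z = phi D j x y + (z - phi D j x y) := by abel
  rw [this]
  exact Submodule.add_mem_sup ⟨x, y, rfl⟩ hmem

/-- **Vanishing of `H¹`**: if the two lattices span modulo the maximal ideal, they span. -/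
theorem vanish [IsLocalRing A] (D : PData A r r') (j : ℤ)
    (hFL : ∀ z : Fin r' → (IsLocalRing.ResidueField A)[T;T⁻¹],
      (D.map (IsLocalRing.residue A)).ε'.map σm *ᵥ z = z →
      ∃ x y, z = phi (D.map (IsLocalRing.residue A)) j x y) :
    Vsub D ≤ Ssub D j := by
  classical
  obtain ⟨N, g, hg⟩ := exists_common_T_pow (fun p : Fin r × Fin r' => D.τ' p.1 p.2)
  let G : Matrix (Fin r) (Fin r') A[X] := fun m l => g (m, l)
  have hG : ∀ m l, σp (G m l) = T N * D.τ' m l := fun m l => hg (m, l)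
  have h1 := Vsub_le_sup D j N G hG
  have h2 := Vsub_le_sup_smul D j hFL
  have h3 : W0 D j N ≤ Ssub D j ⊔ IsLocalRing.maximalIdeal A • W0 D j N := by
    refine (W0_le_Vsub D j N).trans (h2.trans ?_)
    refine sup_le le_sup_left ?_
    calc IsLocalRing.maximalIdeal A • Vsub D
        ≤ IsLocalRing.maximalIdeal A • (Ssub D j ⊔ W0 D j N) := Submodule.smul_mono le_rfl h1
      _ = IsLocalRing.maximalIdeal A • Ssub D j ⊔ IsLocalRing.maximalIdeal A • W0 D j N :=
          Submodule.smul_sup _ _ _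
      _ ≤ Ssub D j ⊔ IsLocalRing.maximalIdeal A • W0 D j N :=
          sup_le_sup_right Submodule.smul_le_right _
  have h4 : W0 D j N ≤ Ssub D j :=
    Submodule.le_of_le_smul_of_le_jacobson_bot (W0_fg D j N)
      (IsLocalRing.maximalIdeal_le_jacobson _) h3
  exact h1.trans (sup_le le_rfl h4)

end Groth.Agent.Lib.HorrocksH4
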