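import Mathlib
import Groth.Agent.Lib.HorrB_helper4

/-!
# Affine Horrocks, part C (helper4): lifting a section and unimodularity (Nashier–Nichols)
APPEND-ONLY once landed.
-/

set_option autoImplicit false
set_option linter.unusedVariables false
set_option linter.unusedTactic false
set_option linter.unreachableTactic false
set_option linter.unusedSectionVars false
set_option linter.style.haveILetI false
set_option linter.deprecated false
set_option linter.unusedSimpArgs false
set_option linter.style.longLine false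
set_option maxHeartbeats 1600000

universe u

noncomputable section

open Polynomial LaurentPolynomial Matrix

namespace Groth.Agent.Lib.HorrocksH4

variable {A : Type u} [CommRing A] {r r' : ℕ}

/-- **Nashier–Nichols**: over a local ring, an ideal of `A[X]` containing a monic polynomial and
comaximal with `𝔪[X]` is the unit ideal. -/
theorem ideal_eq_top_of_monic_mem [IsLocalRing A] (J : Ideal A[X]) (f : A[X]) (hf : f.Monic)
    (hfJ : f ∈ J) (h : J ⊔ (IsLocalRing.maximalIdeal A).map (Polynomial.C) = ⊤) : J = ⊤ := by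
  classical
  let J' : Submodule A A[X] := J.restrictScalars A
  let W : Submodule A A[X] := Polynomial.degreeLT A f.natDegree
  have hWfg : W.FG := by
    show (Polynomial.degreeLT A f.natDegree).FG
    rw [Polynomial.degreeLT_eq_span_X_pow]
    exact Submodule.fg_span (Finset.finite_toSet _)
  have htop : (⊤ : Submodule A A[X]) ≤ J' ⊔ W := by
    intro p _
    rw [← Polynomial.modByMonic_add_div p f, add_comm]
    refine Submodule.add_mem_sup ?_ ?_
    · exact J.mul_mem_right _ hfJ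
    · show p %ₘ f ∈ Polynomial.degreeLT A f.natDegree
      rw [Polynomial.mem_degreeLT]
      calc (p %ₘ f).degree < f.degree := Polynomial.degree_modByMonic_lt p hf
        _ = f.natDegree := Polynomial.degree_eq_natDegree hf.ne_zero
  have hmap : ∀ q : A[X], q ∈ (IsLocalRing.maximalIdeal A).map Polynomial.C →
      q ∈ IsLocalRing.maximalIdeal A • (⊤ : Submodule A A[X]) := by
    intro q hq
    rw [Ideal.mem_map_C_iff] at hq
    rw [Polynomial.as_sum_support q]
    refine Submodule.sum_mem _ fun n _ => ?_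
    have : Polynomial.monomial n (q.coeff n) = q.coeff n • (Polynomial.monomial n (1 : A)) := by
      rw [Polynomial.smul_monomial, smul_eq_mul, mul_one]
    rw [this]
    exact Submodule.smul_mem_smul (hq n) Submodule.mem_top
  have hW : W ≤ J' ⊔ IsLocalRing.maximalIdeal A • W := by
    intro w hw
    have h1 : (1 : A[X]) ∈ J ⊔ (IsLocalRing.maximalIdeal A).map Polynomial.C := by
      rw [h]; trivial
    obtain ⟨a, ha, b, hb, hab⟩ := Submodule.mem_sup.1 h1
    have hw' : w = w * a + w * b := by rw [← mul_add, hab, mul_one]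
    have h2 : w * b ∈ IsLocalRing.maximalIdeal A • (⊤ : Submodule A A[X]) :=
      hmap _ (Ideal.mul_mem_left _ _ hb)
    have h3 : IsLocalRing.maximalIdeal A • (⊤ : Submodule A A[X]) ≤
        J' ⊔ IsLocalRing.maximalIdeal A • W := by
      calc IsLocalRing.maximalIdeal A • (⊤ : Submodule A A[X])
          ≤ IsLocalRing.maximalIdeal A • (J' ⊔ W) := Submodule.smul_mono le_rfl htop
        _ = IsLocalRing.maximalIdeal A • J' ⊔ IsLocalRing.maximalIdeal A • W :=
            Submodule.smul_sup _ _ _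
        _ ≤ _ := sup_le_sup_right Submodule.smul_le_right _
    rw [hw']
    exact add_mem (Submodule.mem_sup_left (J.mul_mem_left _ ha)) (h3 h2)
  have h4 : W ≤ J' := Submodule.le_of_le_smul_of_le_jacobson_bot hWfg
    (IsLocalRing.maximalIdeal_le_jacobson _) hW
  rw [Ideal.eq_top_iff_one]
  have : (1 : A[X]) ∈ J' := (htop.trans (sup_le le_rfl h4)) Submodule.mem_top
  exact this

/-- transporting elements of the order ideal through the gluing. -/
lemma transport (x : Fin r → A[X]) (y : Fin r' → A[X]) (M : Matrix (Fin r') (Fin r) A[T;T⁻¹])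
    (h : σm ∘ y = M *ᵥ (σp ∘ x)) (g : A[X]) (hg : g ∈ Ideal.span (Set.range y)) :
    ∃ a₀ : ℕ, ∀ a, a₀ ≤ a → ∃ f ∈ Ideal.span (Set.range x), σp f = T a * σm g := by
  classical
  obtain ⟨b, rfl⟩ := (Ideal.mem_span_range_iff_exists_fun).1 hg
  let ρ : Fin r → A[T;T⁻¹] := fun k => ∑ l, σm (b l) * M l k
  obtain ⟨N, β, hβ⟩ := exists_common_T_pow ρ
  have hsum : σm (∑ l, b l * y l) = ∑ k, ρ k * σp (x k) := by
    rw [map_sum]
    have : ∀ l, σm (b l * y l) = ∑ k, σm (b l) * M l k * σp (x k) := by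
      intro l
      rw [map_mul]
      have := congrFun h l
      simp only [Function.comp_apply] at this
      rw [this, Matrix.mulVec, dotProduct, Finset.mul_sum]
      refine Finset.sum_congr rfl fun k _ => ?_
      simp only [Function.comp_apply]
      ring
    simp_rw [this]
    rw [Finset.sum_comm]
    refine Finset.sum_congr rfl fun k _ => ?_
    rw [Finset.sum_mul]
  refine ⟨N, fun a ha => ⟨∑ k, (X ^ (a - N) * β k) * x k, ?_, ?_⟩⟩
  · exact Ideal.sum_mem _ fun k _ => Ideal.mul_mem_left _ _ (Ideal.subset_span ⟨k, rfl⟩)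
  · rw [map_sum, hsum, Finset.mul_sum]
    refine Finset.sum_congr rfl fun k _ => ?_
    rw [map_mul, map_mul, σp_X_pow, hβ k, ← mul_assoc, ← mul_assoc, ← T_add]
    congr 3
    push_cast [Nat.cast_sub ha]
    ring

lemma monic_of_σp_eq [Nontrivial A] (g : A[X]) (hg : g.coeff 0 = 1) (a : ℕ)
    (ha : g.natDegree ≤ a) (f : A[X]) (hf : σp f = T a * σm g) : f.Monic := by
  have h1 : σp g.reverse = σm g * T g.natDegree := LaurentPolynomial.toLaurent_reverse g
  have h2 : f = X ^ (a - g.natDegree) * g.reverse := by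
    apply σp_injective
    rw [hf, map_mul, σp_X_pow, h1, mul_comm (σm g), ← mul_assoc, ← T_add]
    congr 2
    push_cast [Nat.cast_sub ha]
    ring
  rw [h2]
  refine (Polynomial.monic_X_pow _).mul ?_
  show g.reverse.leadingCoeff = 1
  rw [Polynomial.reverse_leadingCoeff,
    Polynomial.trailingCoeff_eq_coeff_zero (by rw [hg]; exact one_ne_zero), hg]

lemma map_comp_mulVec {A' : Type u} [CommRing A'] (ρ : A →+* A') {m n : Type*} [Fintype n]
    (M : Matrix m n A[X]) (w : n → A[X]) :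
    Polynomial.map ρ ∘ (M *ᵥ w) = M.map (Polynomial.mapRingHom ρ) *ᵥ (Polynomial.map ρ ∘ w) :=
  comp_mulVec (Polynomial.mapRingHom ρ) M w

section lift

variable [IsLocalRing A]

/-- elements of `𝔪 • S` are `phi` of vectors reducing to zero. -/
lemma mem_smul_Ssub (D : PData A r r') (j : ℤ) (z : Fin r' → A[T;T⁻¹])
    (hz : z ∈ IsLocalRing.maximalIdeal A • Ssub D j) :
    ∃ x y, z = phi D j x y ∧ Polynomial.map (IsLocalRing.residue A) ∘ x = 0 ∧
      Polynomial.map (IsLocalRing.residue A) ∘ y = 0 := by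
  refine Submodule.smul_induction_on hz ?_ ?_
  · rintro a ha _ ⟨x, y, rfl⟩
    refine ⟨a • x, a • y, (phi_smul D j a x y).symm, ?_, ?_⟩
    · funext i
      simp only [Function.comp_apply, Pi.smul_apply, Pi.zero_apply]
      rw [Polynomial.smul_eq_C_mul, Polynomial.map_mul, Polynomial.map_C,
        (IsLocalRing.residue_eq_zero_iff a).2 ha, map_zero, zero_mul]
    · funext i
      simp only [Function.comp_apply, Pi.smul_apply, Pi.zero_apply]
      rw [Polynomial.smul_eq_C_mul, Polynomial.map_mul, Polynomial.map_C,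
        (IsLocalRing.residue_eq_zero_iff a).2 ha, map_zero, zero_mul]
  · rintro _ _ ⟨x, y, rfl, hx, hy⟩ ⟨x', y', rfl, hx', hy'⟩
    refine ⟨x + x', y + y', (phi_add D j x x' y y').symm, ?_, ?_⟩
    · funext i
      have h1 := congrFun hx i
      have h2 := congrFun hx' i
      simp only [Function.comp_apply, Pi.zero_apply] at h1 h2
      simp only [Function.comp_apply, Pi.add_apply, Pi.zero_apply, Polynomial.map_add, h1, h2,
        add_zero]
    · funext i
      have h1 := congrFun hy i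
      have h2 := congrFun hy' i
      simp only [Function.comp_apply, Pi.zero_apply] at h1 h2
      simp only [Function.comp_apply, Pi.add_apply, Pi.zero_apply, Polynomial.map_add, h1, h2,
        add_zero]

/-- lifting a section of the twist from the residue field. -/
theorem lift_section (D : PData A r r') (j : ℤ) (hV : Vsub D ≤ Ssub D j)
    (pb : Fin r → (IsLocalRing.ResidueField A)[X]) (qb : Fin r' → (IsLocalRing.ResidueField A)[X])
    (hpb : (D.map (IsLocalRing.residue A)).ε *ᵥ pb = pb)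
    (hqb : (D.map (IsLocalRing.residue A)).ε' *ᵥ qb = qb)
    (hrel : (D.map (IsLocalRing.residue A)).τ *ᵥ (σp ∘ pb) =
      (T j : (IsLocalRing.ResidueField A)[T;T⁻¹]) • (σm ∘ qb)) :
    ∃ (p : Fin r → A[X]) (q : Fin r' → A[X]), D.ε *ᵥ p = p ∧ D.ε' *ᵥ q = q ∧
      D.τ *ᵥ (σp ∘ p) = (T j : A[T;T⁻¹]) • (σm ∘ q) ∧
      Polynomial.map (IsLocalRing.residue A) ∘ p = pb ∧
      Polynomial.map (IsLocalRing.residue A) ∘ q = qb := by
  have hsurj := Polynomial.map_surjective _ (IsLocalRing.residue_surjective (R := A))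
  choose p₀' hp₀' using fun i => hsurj (pb i)
  choose q₀' hq₀' using fun i => hsurj (qb i)
  obtain ⟨p₀, hp₀def⟩ : ∃ p₀, p₀ = D.ε *ᵥ p₀' := ⟨_, rfl⟩
  obtain ⟨q₀, hq₀def⟩ : ∃ q₀, q₀ = D.ε' *ᵥ q₀' := ⟨_, rfl⟩
  have hp₀ : D.ε *ᵥ p₀ = p₀ := by rw [hp₀def, Matrix.mulVec_mulVec, D.hε]
  have hq₀ : D.ε' *ᵥ q₀ = q₀ := by rw [hq₀def, Matrix.mulVec_mulVec, D.hε']
  have hp₀b : Polynomial.map (IsLocalRing.residue A) ∘ p₀ = pb := by
    rw [hp₀def, map_comp_mulVec,
      show Polynomial.map (IsLocalRing.residue A) ∘ p₀' = pb from funext hp₀']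
    exact hpb
  have hq₀b : Polynomial.map (IsLocalRing.residue A) ∘ q₀ = qb := by
    rw [hq₀def, map_comp_mulVec,
      show Polynomial.map (IsLocalRing.residue A) ∘ q₀' = qb from funext hq₀']
    exact hqb
  have hσq₀ : D.ε'.map σm *ᵥ (σm ∘ q₀) = σm ∘ q₀ := by rw [← comp_mulVec, hq₀]
  have hσqb : (D.map (IsLocalRing.residue A)).ε'.map σm *ᵥ (σm ∘ qb) = σm ∘ qb := by
    rw [← comp_mulVec, hqb]
  have hz_eq : phi D j p₀ (-q₀) = D.τ *ᵥ (σp ∘ p₀) - (T j : A[T;T⁻¹]) • (σm ∘ q₀) := by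
    unfold phi
    have : (σm ∘ (-q₀) : Fin r' → A[T;T⁻¹]) = -(σm ∘ q₀) := by funext i; simp
    rw [this, Matrix.mulVec_neg, hσq₀, smul_neg, sub_eq_add_neg]
  have hz0 : mapL (IsLocalRing.residue A) ∘ phi D j p₀ (-q₀) = 0 := by
    rw [phi_map]
    have e1 : Polynomial.map (IsLocalRing.residue A) ∘ (-q₀) = -qb := by
      rw [← hq₀b]; funext i; simp
    rw [hp₀b, e1]
    unfold phi
    have : (σm ∘ (-qb) : Fin r' → (IsLocalRing.ResidueField A)[T;T⁻¹]) = -(σm ∘ qb) := by
      funext i; simp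
    rw [this, Matrix.mulVec_neg, hσqb, smul_neg, hrel, add_neg_cancel]
  have hzm : phi D j p₀ (-q₀) ∈ IsLocalRing.maximalIdeal A • Ssub D j :=
    Submodule.smul_mono le_rfl hV
      (mem_smul_of_map_eq_zero D _ (phi_mem_Vsub D j _ _) hz0)
  obtain ⟨x, y, hxy, hx, hy⟩ := mem_smul_Ssub D j _ hzm
  refine ⟨p₀ - D.ε *ᵥ x, q₀ + D.ε' *ᵥ y, ?_, ?_, ?_, ?_, ?_⟩
  · rw [Matrix.mulVec_sub, hp₀, Matrix.mulVec_mulVec, D.hε]
  · rw [Matrix.mulVec_add, hq₀, Matrix.mulVec_mulVec, D.hε']
  · have e1 : (σp ∘ (p₀ - D.ε *ᵥ x) : Fin r → A[T;T⁻¹]) =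
        σp ∘ p₀ - D.ε.map σp *ᵥ (σp ∘ x) := by
      rw [← comp_mulVec]; funext i; simp
    have e2 : (σm ∘ (q₀ + D.ε' *ᵥ y) : Fin r' → A[T;T⁻¹]) =
        σm ∘ q₀ + D.ε'.map σm *ᵥ (σm ∘ y) := by
      rw [← comp_mulVec]; funext i; simp
    rw [e1, e2, Matrix.mulVec_sub, Matrix.mulVec_mulVec, D.h1, smul_add]
    have h3 := hxy
    rw [hz_eq] at h3
    unfold phi at h3
    rw [sub_eq_iff_eq_add] at h3 ⊢
    rw [h3]
    abel
  · have e1 : Polynomial.map (IsLocalRing.residue A) ∘ (p₀ - D.ε *ᵥ x) =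
        Polynomial.map (IsLocalRing.residue A) ∘ p₀ -
          Polynomial.map (IsLocalRing.residue A) ∘ (D.ε *ᵥ x) := by
      funext i; simp
    rw [e1, map_comp_mulVec, hx, Matrix.mulVec_zero, sub_zero, hp₀b]
  · have e1 : Polynomial.map (IsLocalRing.residue A) ∘ (q₀ + D.ε' *ᵥ y) =
        Polynomial.map (IsLocalRing.residue A) ∘ q₀ +
          Polynomial.map (IsLocalRing.residue A) ∘ (D.ε' *ᵥ y) := by
      funext i; simp
    rw [e1, map_comp_mulVec, hy, Matrix.mulVec_zero, add_zero, hq₀b]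

/-- from a residue-level unimodularity certificate: comaximality with `𝔪[X]` and an element
with constant term `1`. -/
lemma exists_of_residue {n : ℕ} (x : Fin n → A[X]) (φb : Fin n → (IsLocalRing.ResidueField A)[X])
    (h : ∑ l, φb l * Polynomial.map (IsLocalRing.residue A) (x l) = 1) :
    Ideal.span (Set.range x) ⊔ (IsLocalRing.maximalIdeal A).map Polynomial.C = ⊤ ∧
      ∃ g ∈ Ideal.span (Set.range x), g.coeff 0 = 1 := by
  have hsurj := Polynomial.map_surjective _ (IsLocalRing.residue_surjective (R := A))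
  choose φ₀ hφ₀ using fun i => hsurj (φb i)
  obtain ⟨g₀, hg₀def⟩ : ∃ g₀, g₀ = ∑ l, φ₀ l * x l := ⟨_, rfl⟩
  have hg₀mem : g₀ ∈ Ideal.span (Set.range x) := by
    rw [hg₀def]
    exact Ideal.sum_mem _ fun k _ => Ideal.mul_mem_left _ _ (Ideal.subset_span ⟨k, rfl⟩)
  have hg₀map : Polynomial.map (IsLocalRing.residue A) g₀ = 1 := by
    rw [hg₀def, Polynomial.map_sum, ← h]
    refine Finset.sum_congr rfl fun l _ => ?_
    rw [Polynomial.map_mul, hφ₀]
  constructor
  · rw [Ideal.eq_top_iff_one]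
    have h1 : g₀ - 1 ∈ (IsLocalRing.maximalIdeal A).map Polynomial.C := by
      rw [Ideal.mem_map_C_iff]
      intro n
      rw [← IsLocalRing.residue_eq_zero_iff, ← Polynomial.coeff_map, Polynomial.map_sub, hg₀map,
        Polynomial.map_one, sub_self, Polynomial.coeff_zero]
    have : (1 : A[X]) = g₀ - (g₀ - 1) := by ring
    rw [this]
    exact sub_mem (Submodule.mem_sup_left hg₀mem) (Submodule.mem_sup_right h1)
  · have hu : IsUnit (g₀.coeff 0) := by
      rw [← IsLocalRing.residue_ne_zero_iff_isUnit, ← Polynomial.coeff_map, hg₀map,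
        Polynomial.coeff_one_zero]
      exact one_ne_zero
    obtain ⟨u, hu⟩ := hu
    refine ⟨Polynomial.C (↑u⁻¹ : A) * g₀, Ideal.mul_mem_left _ _ hg₀mem, ?_⟩
    rw [Polynomial.coeff_C_mul, ← hu, Units.inv_mul]

/-- **Unimodularity** of the lifted section in both charts. -/
theorem unimodular (D : PData A r r') (j : ℤ) (p : Fin r → A[X]) (q : Fin r' → A[X])
    (hp : D.ε *ᵥ p = p) (hrel : D.τ *ᵥ (σp ∘ p) = (T j : A[T;T⁻¹]) • (σm ∘ q))
    (φb : Fin r → (IsLocalRing.ResidueField A)[X])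
    (hφb : ∑ l, φb l * Polynomial.map (IsLocalRing.residue A) (p l) = 1)
    (ψb : Fin r' → (IsLocalRing.ResidueField A)[X])
    (hψb : ∑ l, ψb l * Polynomial.map (IsLocalRing.residue A) (q l) = 1) :
    Ideal.span (Set.range p) = ⊤ ∧ Ideal.span (Set.range q) = ⊤ := by
  obtain ⟨hptop, -⟩ := exists_of_residue p φb hφb
  obtain ⟨hqtop, g, hg, hg0⟩ := exists_of_residue q ψb hψb
  have hrel1 : σm ∘ q = ((T (-j) : A[T;T⁻¹]) • D.τ) *ᵥ (σp ∘ p) := by
    rw [Matrix.smul_mulVec, hrel, smul_smul, ← T_add, neg_add_cancel, T_zero, one_smul]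
  obtain ⟨a₀, ha₀⟩ := transport p q _ hrel1 g hg
  obtain ⟨f, hfmem, hf⟩ := ha₀ (max a₀ g.natDegree) (le_max_left _ _)
  have hfmonic : f.Monic := monic_of_σp_eq g hg0 _ (le_max_right _ _) f hf
  have hP : Ideal.span (Set.range p) = ⊤ := ideal_eq_top_of_monic_mem _ f hfmonic hfmem hptop
  refine ⟨hP, ?_⟩
  have e1 : σp ∘ p = (T j : A[T;T⁻¹]) • (D.τ' *ᵥ (σm ∘ q)) := by
    rw [← Matrix.mulVec_smul, ← hrel, Matrix.mulVec_mulVec, D.h5, ← comp_mulVec, hp]
  have hrel2 : σm ∘ p = ((T (-j) : A[T;T⁻¹]) • D.τ'.map ivt) *ᵥ (σp ∘ q) := by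
    have e2 : (σm ∘ p : Fin r → A[T;T⁻¹]) = ivt ∘ (σp ∘ p) := by funext i; rfl
    have e3 : (σp ∘ q : Fin r' → A[T;T⁻¹]) = ivt ∘ (σm ∘ q) := by
      funext i; exact (ivt_σm _).symm
    rw [e2, e1, Matrix.smul_mulVec, e3, ← comp_mulVec]
    funext i
    simp only [Function.comp_apply, Pi.smul_apply, smul_eq_mul, map_mul, ivt_T]
  obtain ⟨b₀, hb₀⟩ := transport q p _ hrel2 1 (by rw [hP]; trivial)
  obtain ⟨f', hf'mem, hf'⟩ := hb₀ b₀ le_rfl
  have hf'eq : f' = X ^ b₀ := by
    apply σp_injective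
    rw [hf', map_one, mul_one, σp_X_pow]
  exact ideal_eq_top_of_monic_mem _ f' (hf'eq ▸ Polynomial.monic_X_pow _) hf'mem hqtop

end lift

end Groth.Agent.Lib.HorrocksH4
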