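import Mathlib
import Groth.Agent.Lib.HorrC_helper4

/-!
# Affine Horrocks, part D (helper4): splitting off a line and the local Horrocks theorem
(matrix form).  APPEND-ONLY once landed.
-/

set_option autoImplicit false
set_option linter.unusedVariables false
set_option linter.unusedTactic false
set_option linter.unreachableTactic false
set_option linter.unusedSectionVars false
set_option linter.style.haveILetI false
set_option linter.deprecated false
set_option linter.unusedSimpArgs false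
set_option linter.style.longLine false
set_option maxHeartbeats 1600000

universe u

noncomputable section

open Polynomial LaurentPolynomial Matrix

namespace Groth.Agent.Lib.HorrocksH4

section split

variable {R : Type*} [CommRing R] {r r' : ℕ}

lemma sub_vmv_mulVec (e : Matrix (Fin r) (Fin r) R) (P Φ : Fin r → R) (hP : e *ᵥ P = P)
    (hΦP : Φ ⬝ᵥ P = 1) : (e - vecMulVec P Φ) *ᵥ P = 0 := by
  rw [Matrix.sub_mulVec, hP, Matrix.vecMulVec_mulVec, hΦP]
  simp

lemma sub_vmv_mul (e : Matrix (Fin r) (Fin r) R) (P Φ : Fin r → R) (he : e * e = e)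
    (hΦ : Φ ᵥ* e = Φ) : (e - vecMulVec P Φ) * e = e - vecMulVec P Φ := by
  rw [Matrix.sub_mul, he, Matrix.vecMulVec_mul, hΦ]

lemma vecMul_sub_vmv (e : Matrix (Fin r) (Fin r) R) (P Φ : Fin r → R) (hΦ : Φ ᵥ* e = Φ)
    (hΦP : Φ ⬝ᵥ P = 1) : Φ ᵥ* (e - vecMulVec P Φ) = 0 := by
  rw [Matrix.vecMul_sub, hΦ, Matrix.vecMul_vecMulVec, hΦP, one_smul, sub_self]

lemma sub_vmv_idem (e : Matrix (Fin r) (Fin r) R) (P Φ : Fin r → R) (he : e * e = e)
    (hP : e *ᵥ P = P) (hΦ : Φ ᵥ* e = Φ) (hΦP : Φ ⬝ᵥ P = 1) :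
    (e - vecMulVec P Φ) * (e - vecMulVec P Φ) = e - vecMulVec P Φ := by
  rw [Matrix.mul_sub, sub_vmv_mul e P Φ he hΦ, Matrix.mul_vecMulVec,
    sub_vmv_mulVec e P Φ hP hΦP, Matrix.zero_vecMulVec, sub_zero]

/-- the six gluing identities after splitting off a unimodular section. -/
theorem split_identities (e : Matrix (Fin r) (Fin r) R) (e' : Matrix (Fin r') (Fin r') R)
    (τ : Matrix (Fin r') (Fin r) R) (τ' : Matrix (Fin r) (Fin r') R)
    (he : e * e = e) (he' : e' * e' = e')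
    (h1 : τ * e = τ) (h2 : e' * τ = τ) (h3 : e * τ' = τ') (h4 : τ' * e' = τ')
    (h5 : τ' * τ = e) (h6 : τ * τ' = e')
    (P Φ : Fin r → R) (Q Ψ : Fin r' → R)
    (hP : e *ᵥ P = P) (hΦ : Φ ᵥ* e = Φ) (hΦP : Φ ⬝ᵥ P = 1)
    (hQ : e' *ᵥ Q = Q) (hΨ : Ψ ᵥ* e' = Ψ) (hΨQ : Ψ ⬝ᵥ Q = 1)
    (t t' : R) (ht : t' * t = 1) (hτP : τ *ᵥ P = t • Q) :
    ((e' - vecMulVec Q Ψ) * τ) * (e - vecMulVec P Φ) = (e' - vecMulVec Q Ψ) * τ ∧
    (e' - vecMulVec Q Ψ) * ((e' - vecMulVec Q Ψ) * τ) = (e' - vecMulVec Q Ψ) * τ ∧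
    (e - vecMulVec P Φ) * ((e - vecMulVec P Φ) * τ') = (e - vecMulVec P Φ) * τ' ∧
    ((e - vecMulVec P Φ) * τ') * (e' - vecMulVec Q Ψ) = (e - vecMulVec P Φ) * τ' ∧
    ((e - vecMulVec P Φ) * τ') * ((e' - vecMulVec Q Ψ) * τ) = e - vecMulVec P Φ ∧
    ((e' - vecMulVec Q Ψ) * τ) * ((e - vecMulVec P Φ) * τ') = e' - vecMulVec Q Ψ := by
  have hτ'Q : τ' *ᵥ Q = t' • P := by
    have h : t • τ' *ᵥ Q = P := by
      rw [← Matrix.mulVec_smul, ← hτP, Matrix.mulVec_mulVec, h5, hP]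
    calc τ' *ᵥ Q = (t' * t) • τ' *ᵥ Q := by rw [ht, one_smul]
      _ = t' • (t • τ' *ᵥ Q) := mul_smul _ _ _
      _ = t' • P := by rw [h]
  have hi := sub_vmv_idem e P Φ he hP hΦ hΦP
  have hi' := sub_vmv_idem e' Q Ψ he' hQ hΨ hΨQ
  have hd := sub_vmv_mul e P Φ he hΦ
  have hd' := sub_vmv_mul e' Q Ψ he' hΨ
  have hb : τ * (e - vecMulVec P Φ) = τ - vecMulVec (t • Q) Φ := by
    rw [Matrix.mul_sub, h1, Matrix.mul_vecMulVec, hτP]
  have hb' : τ' * (e' - vecMulVec Q Ψ) = τ' - vecMulVec (t' • P) Ψ := by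
    rw [Matrix.mul_sub, h4, Matrix.mul_vecMulVec, hτ'Q]
  have hc : (e' - vecMulVec Q Ψ) * vecMulVec (t • Q) Φ = 0 := by
    rw [Matrix.mul_vecMulVec, Matrix.mulVec_smul, sub_vmv_mulVec e' Q Ψ hQ hΨQ, smul_zero,
      Matrix.zero_vecMulVec]
  have hc' : (e - vecMulVec P Φ) * vecMulVec (t' • P) Ψ = 0 := by
    rw [Matrix.mul_vecMulVec, Matrix.mulVec_smul, sub_vmv_mulVec e P Φ hP hΦP, smul_zero,
      Matrix.zero_vecMulVec]
  refine ⟨?_, ?_, ?_, ?_, ?_, ?_⟩
  · rw [Matrix.mul_assoc, hb, Matrix.mul_sub, hc, sub_zero]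
  · rw [← Matrix.mul_assoc, hi']
  · rw [← Matrix.mul_assoc, hi]
  · rw [Matrix.mul_assoc, hb', Matrix.mul_sub, hc', sub_zero]
  · have e1 : (τ' - vecMulVec (t' • P) Ψ) * τ = e - vecMulVec (t' • P) Ψ * τ := by
      rw [Matrix.sub_mul, h5]
    rw [Matrix.mul_assoc, ← Matrix.mul_assoc τ', hb', e1, Matrix.mul_sub, hd,
      ← Matrix.mul_assoc (e - vecMulVec P Φ), hc', Matrix.zero_mul, sub_zero]
  · have e1 : (τ - vecMulVec (t • Q) Φ) * τ' = e' - vecMulVec (t • Q) Φ * τ' := by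
      rw [Matrix.sub_mul, h6]
    rw [Matrix.mul_assoc, ← Matrix.mul_assoc τ, hb, e1, Matrix.mul_sub, hd',
      ← Matrix.mul_assoc (e' - vecMulVec Q Ψ), hc, Matrix.zero_mul, sub_zero]

lemma map_sub_vmv {S : Type*} [CommRing S] (f : R →+* S) {m n : Type*}
    (M : Matrix m n R) (P : m → R) (Φ : n → R) :
    (M - vecMulVec P Φ).map f = M.map f - vecMulVec (f ∘ P) (f ∘ Φ) := by
  refine Matrix.ext fun i j => ?_
  simp [Matrix.map_apply, Matrix.sub_apply, Matrix.vecMulVec_apply]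

lemma comp_vecMul {S : Type*} [CommRing S] (f : R →+* S) {m n : Type*} [Fintype m]
    (M : Matrix m n R) (w : m → R) : f ∘ (w ᵥ* M) = (f ∘ w) ᵥ* M.map f :=
  funext fun i => RingHom.map_vecMul f M w i

end split

variable {A : Type u} [CommRing A] {r r' : ℕ}

/-- over a local ring, an idempotent polynomial matrix vanishing modulo `𝔪` vanishes. -/
theorem eq_zero_of_map_eq_zero [IsLocalRing A] (ε : Matrix (Fin r) (Fin r) A[X])
    (hε : ε * ε = ε)
    (h0 : ε.map (Polynomial.mapRingHom (IsLocalRing.residue A)) = 0) : ε = 0 := by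
  classical
  obtain ⟨ε₀, hε₀def⟩ : ∃ ε₀ : Matrix (Fin r) (Fin r) A, ε₀ = ε.map (Polynomial.evalRingHom 0) :=
    ⟨_, rfl⟩
  have hε₀ : ε₀ * ε₀ = ε₀ := by rw [hε₀def, ← Matrix.map_mul, hε]
  have hres : ε₀.map (IsLocalRing.residue A) = 0 := by
    refine Matrix.ext fun i j => ?_
    have h1 := congrFun (congrFun h0 i) j
    simp only [Matrix.map_apply, Matrix.zero_apply, Polynomial.coe_mapRingHom] at h1
    rw [hε₀def]
    simp only [Matrix.map_apply, Matrix.zero_apply, Polynomial.coe_evalRingHom]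
    rw [← Polynomial.eval_zero_map, h1, Polynomial.eval_zero]
  have hunit : IsUnit (1 - ε₀) := by
    rw [Matrix.isUnit_iff_isUnit_det, ← IsLocalRing.residue_ne_zero_iff_isUnit, RingHom.map_det]
    have : (IsLocalRing.residue A).mapMatrix (1 - ε₀) = 1 := by
      rw [map_sub, map_one]
      show 1 - ε₀.map (IsLocalRing.residue A) = 1
      rw [hres, sub_zero]
    rw [this, Matrix.det_one]
    exact one_ne_zero
  have hzero : ε₀ = 0 := by
    have h1 : ε₀ * (1 - ε₀) = 0 := by rw [Matrix.mul_sub, Matrix.mul_one, hε₀, sub_self]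
    exact (hunit.mul_left_eq_zero).1 h1
  have hc0 : ∀ i j, (ε i j).coeff 0 = 0 := by
    intro i j
    have h1 := congrFun (congrFun hzero i) j
    rw [hε₀def] at h1
    simp only [Matrix.map_apply, Matrix.zero_apply, Polynomial.coe_evalRingHom] at h1
    rw [Polynomial.coeff_zero_eq_eval_zero, h1]
  have key : ∀ n : ℕ, ∀ i j, ∀ m < n, (ε i j).coeff m = 0 := by
    intro n
    induction n with
    | zero => intro i j m hm; exact absurd hm (Nat.not_lt_zero _)
    | succ n ih =>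
      intro i j m hm
      rcases Nat.lt_succ_iff_lt_or_eq.1 hm with hlt | rfl
      · exact ih i j m hlt
      · have h1 : ε i j = ∑ l, ε i l * ε l j := by
          conv_lhs => rw [← hε]
          rfl
        rw [h1, Polynomial.finset_sum_coeff]
        refine Finset.sum_eq_zero fun l _ => ?_
        rw [Polynomial.coeff_mul]
        refine Finset.sum_eq_zero fun ab hab => ?_
        rcases Nat.lt_or_ge ab.1 m with hlt | hge
        · rw [ih i l ab.1 hlt, zero_mul]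
        · have h2 : ab.2 = 0 := by
            have := Finset.HasAntidiagonal.mem_antidiagonal.1 hab
            omega
          rw [h2, hc0, mul_zero]
  refine Matrix.ext fun i j => ?_
  refine Polynomial.ext fun m => ?_
  rw [key (m + 1) i j m (Nat.lt_succ_self m)]
  simp

section induction

variable [IsLocalRing A]

local notation "𝕜" => IsLocalRing.ResidueField A
local notation "π" => IsLocalRing.residue A

/-- the matrix model after splitting off the unimodular section `(p, q)`. -/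
def PData.split (D : PData A r r') (j : ℤ) (p φ : Fin r → A[X]) (q ψ : Fin r' → A[X])
    (hp : D.ε *ᵥ p = p) (hφ : φ ᵥ* D.ε = φ) (hφp : φ ⬝ᵥ p = 1)
    (hq : D.ε' *ᵥ q = q) (hψ : ψ ᵥ* D.ε' = ψ) (hψq : ψ ⬝ᵥ q = 1)
    (hrel : D.τ *ᵥ (σp ∘ p) = (T j : A[T;T⁻¹]) • (σm ∘ q)) : PData A r r' :=
  have H := split_identities (D.ε.map σp) (D.ε'.map σm) D.τ D.τ' (εσp_idem D) (ε'σm_idem D)
    D.h1 D.h2 D.h3 D.h4 D.h5 D.h6 (σp ∘ p) (σp ∘ φ) (σm ∘ q) (σm ∘ ψ)
    (by rw [← comp_mulVec, hp]) (by rw [← comp_vecMul, hφ])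
    (by rw [← RingHom.map_dotProduct, hφp, map_one])
    (by rw [← comp_mulVec, hq]) (by rw [← comp_vecMul, hψ])
    (by rw [← RingHom.map_dotProduct, hψq, map_one])
    (T j) (T (-j)) (by rw [← T_add, neg_add_cancel, T_zero]) hrel
  { ε := D.ε - vecMulVec p φ
    ε' := D.ε' - vecMulVec q ψ
    τ := (D.ε' - vecMulVec q ψ).map σm * D.τ
    τ' := (D.ε - vecMulVec p φ).map σp * D.τ'
    hε := sub_vmv_idem D.ε p φ D.hε hp hφ hφp
    hε' := sub_vmv_idem D.ε' q ψ D.hε' hq hψ hψq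
    h1 := by rw [map_sub_vmv, map_sub_vmv]; exact H.1
    h2 := by rw [map_sub_vmv]; exact H.2.1
    h3 := by rw [map_sub_vmv]; exact H.2.2.1
    h4 := by rw [map_sub_vmv, map_sub_vmv]; exact H.2.2.2.1
    h5 := by rw [map_sub_vmv, map_sub_vmv]; exact H.2.2.2.2.1
    h6 := by rw [map_sub_vmv, map_sub_vmv]; exact H.2.2.2.2.2 }

theorem local_horrocks_aux : ∀ (n : ℕ) (D : PData A r r'),
    (∃ (u : Matrix (Fin r) (Fin n) 𝕜[X]) (v : Matrix (Fin n) (Fin r) 𝕜[X]),
      u * v = (D.map π).ε ∧ v * u = 1) →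
    ∃ (κ : Type) (_ : Fintype κ) (_ : DecidableEq κ) (u : Matrix (Fin r) κ A[X])
      (v : Matrix κ (Fin r) A[X]), u * v = D.ε ∧ v * u = 1 := by
  intro n
  induction n with
  | zero =>
    rintro D ⟨u, v, huv, -⟩
    have h0 : (D.map π).ε = 0 := by
      rw [← huv]
      refine Matrix.ext fun i j => ?_
      simp [Matrix.mul_apply]
    have hε : D.ε = 0 := eq_zero_of_map_eq_zero D.ε D.hε h0
    refine ⟨Fin 0, inferInstance, inferInstance, 0, 0, ?_, ?_⟩
    · rw [hε, Matrix.zero_mul]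
    · exact Subsingleton.elim _ _
  | succ n ih =>
    rintro D ⟨u, v, huv, hvu⟩
    classical
    obtain ⟨u₂, v₂, u', v', c, h₁, h₂, h₃, h₄, hc, hrel⟩ :=
      adapted_basis (D.map π) u v huv hvu
    obtain ⟨j, hjdef⟩ : ∃ j, j = c (Fin.last n) := ⟨_, rfl⟩
    have hj : ∀ i, c i ≤ j + 1 := fun i => by
      have := hc (Fin.le_last i)
      omega
    have hV := vanish D j (fun z hz => field_level _ u₂ u' v' c h₃ h₄ hrel j hj z hz)
    obtain ⟨pb, hpbdef⟩ : ∃ pb : Fin r → 𝕜[X], pb = fun l => u₂ l (Fin.last n) := ⟨_, rfl⟩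
    obtain ⟨qb, hqbdef⟩ : ∃ qb : Fin r' → 𝕜[X], qb = fun l => u' l (Fin.last n) := ⟨_, rfl⟩
    have hεu : (D.map π).ε * u₂ = u₂ := by rw [← h₁, Matrix.mul_assoc, h₂, Matrix.mul_one]
    have hε'u : (D.map π).ε' * u' = u' := by rw [← h₃, Matrix.mul_assoc, h₄, Matrix.mul_one]
    have hvε : v₂ * (D.map π).ε = v₂ := by rw [← h₁, ← Matrix.mul_assoc, h₂, Matrix.one_mul]
    have hpb : (D.map π).ε *ᵥ pb = pb := by
      funext l
      have := congrFun (congrFun hεu l) (Fin.last n)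
      rw [hpbdef]
      exact this
    have hqb : (D.map π).ε' *ᵥ qb = qb := by
      funext l
      have := congrFun (congrFun hε'u l) (Fin.last n)
      rw [hqbdef]
      exact this
    have hrelb : (D.map π).τ *ᵥ (σp ∘ pb) = (T j : 𝕜[T;T⁻¹]) • (σm ∘ qb) := by
      funext l
      have := congrFun (congrFun hrel l) (Fin.last n)
      rw [Matrix.mul_diagonal] at this
      rw [hpbdef, hqbdef, hjdef]
      show (D.map π).τ l ⬝ᵥ (fun m => σp (u₂ m (Fin.last n))) =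
        T (c (Fin.last n)) * σm (u' l (Fin.last n))
      rw [mul_comm]
      exact this
    obtain ⟨p, q, hp, hq, hpq, hpmap, hqmap⟩ := lift_section D j hV pb qb hpb hqb hrelb
    have hφb : ∑ l, v₂ (Fin.last n) l * Polynomial.map π (p l) = 1 := by
      have h := congrFun (congrFun h₂ (Fin.last n)) (Fin.last n)
      rw [Matrix.one_apply_eq, Matrix.mul_apply] at h
      rw [← h]
      refine Finset.sum_congr rfl fun l _ => ?_
      have := congrFun hpmap l
      simp only [Function.comp_apply] at this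
      rw [this, hpbdef]
    have hψb : ∑ l, v' (Fin.last n) l * Polynomial.map π (q l) = 1 := by
      have h := congrFun (congrFun h₄ (Fin.last n)) (Fin.last n)
      rw [Matrix.one_apply_eq, Matrix.mul_apply] at h
      rw [← h]
      refine Finset.sum_congr rfl fun l _ => ?_
      have := congrFun hqmap l
      simp only [Function.comp_apply] at this
      rw [this, hqbdef]
    obtain ⟨hP, hQ⟩ := unimodular D j p q hp hpq _ hφb _ hψb
    obtain ⟨φ₀, hφ₀⟩ := (Ideal.mem_span_range_iff_exists_fun).1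
      (show (1 : A[X]) ∈ Ideal.span (Set.range p) by rw [hP]; trivial)
    obtain ⟨ψ₀, hψ₀⟩ := (Ideal.mem_span_range_iff_exists_fun).1
      (show (1 : A[X]) ∈ Ideal.span (Set.range q) by rw [hQ]; trivial)
    obtain ⟨φ, hφdef⟩ : ∃ φ, φ = φ₀ ᵥ* D.ε := ⟨_, rfl⟩
    obtain ⟨ψ, hψdef⟩ : ∃ ψ, ψ = ψ₀ ᵥ* D.ε' := ⟨_, rfl⟩
    have hφ : φ ᵥ* D.ε = φ := by rw [hφdef, Matrix.vecMul_vecMul, D.hε]
    have hψ : ψ ᵥ* D.ε' = ψ := by rw [hψdef, Matrix.vecMul_vecMul, D.hε']
    have hφp : φ ⬝ᵥ p = 1 := by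
      rw [hφdef, ← Matrix.dotProduct_mulVec, hp]
      exact hφ₀
    have hψq : ψ ⬝ᵥ q = 1 := by
      rw [hψdef, ← Matrix.dotProduct_mulVec, hq]
      exact hψ₀
    -- the split data
    obtain ⟨D₁, hD₁⟩ : ∃ D₁, D₁ = D.split j p φ q ψ hp hφ hφp hq hψ hψq hpq := ⟨_, rfl⟩
    have hD₁ε : D₁.ε = D.ε - vecMulVec p φ := by rw [hD₁]; rfl
    -- residue-level splitting of size `n`
    obtain ⟨φb, hφbdef⟩ : ∃ φb : Fin r → 𝕜[X], φb = Polynomial.map π ∘ φ := ⟨_, rfl⟩
    have hε₁b : (D₁.map π).ε = (D.map π).ε - vecMulVec pb φb := by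
      show D₁.ε.map (Polynomial.mapRingHom π) = _
      rw [hD₁ε, map_sub_vmv, hφbdef, ← hpmap]
      rfl
    have hφbε : φb ᵥ* (D.map π).ε = φb := by
      rw [hφbdef]
      show (Polynomial.mapRingHom π ∘ φ) ᵥ* D.ε.map (Polynomial.mapRingHom π) = _
      rw [← comp_vecMul, hφ]
      rfl
    have hφbpb : φb ⬝ᵥ pb = 1 := by
      rw [hφbdef, ← hpmap]
      show (Polynomial.mapRingHom π ∘ φ) ⬝ᵥ (Polynomial.mapRingHom π ∘ p) = 1
      rw [← RingHom.map_dotProduct, hφp, map_one]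
    obtain ⟨uc, hucdef⟩ : ∃ uc : Matrix (Fin r) (Fin n) 𝕜[X],
      uc = u₂.submatrix id Fin.castSucc := ⟨_, rfl⟩
    obtain ⟨vc, hvcdef⟩ : ∃ vc : Matrix (Fin n) (Fin r) 𝕜[X],
      vc = v₂.submatrix Fin.castSucc id := ⟨_, rfl⟩
    have hvcuc : vc * uc = 1 := by
      rw [hvcdef, hucdef, ← Matrix.submatrix_mul _ _ _ _ _ Function.bijective_id, h₂,
        Matrix.submatrix_one _ (Fin.castSucc_injective n)]
    have hvcpb : vc *ᵥ pb = 0 := by
      funext i
      have h := congrFun (congrFun h₂ (Fin.castSucc i)) (Fin.last n)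
      rw [Matrix.one_apply_ne (Fin.castSucc_lt_last i).ne, Matrix.mul_apply] at h
      rw [hvcdef, hpbdef]
      exact h
    have hucvc : uc * vc = (D.map π).ε - vecMulVec pb (v₂ (Fin.last n)) := by
      rw [eq_sub_iff_add_eq, ← h₁]
      refine Matrix.ext fun l l' => ?_
      rw [Matrix.add_apply, Matrix.mul_apply, Matrix.mul_apply, Fin.sum_univ_castSucc,
        Matrix.vecMulVec_apply, hucdef, hvcdef, hpbdef]
      rfl
    have hvcε : vc * (D.map π).ε = vc := by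
      rw [hvcdef, ← Matrix.submatrix_id_id (D.map π).ε,
        ← Matrix.submatrix_mul _ _ _ _ _ Function.bijective_id, hvε]
    have ih1 : ((D.map π).ε - vecMulVec pb φb) * uc * vc = (D₁.map π).ε := by
      rw [Matrix.mul_assoc, hucvc, Matrix.mul_sub, sub_vmv_mul _ pb φb (D.map π).hε hφbε,
        Matrix.mul_vecMulVec, sub_vmv_mulVec _ pb φb hpb hφbpb, Matrix.zero_vecMulVec, sub_zero,
        hε₁b]
    have ih2 : vc * (((D.map π).ε - vecMulVec pb φb) * uc) = 1 := by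
      rw [← Matrix.mul_assoc, Matrix.mul_sub, hvcε, Matrix.mul_vecMulVec, hvcpb,
        Matrix.zero_vecMulVec, sub_zero, hvcuc]
    obtain ⟨κ₁, hκ₁, hκ₁', u₁, v₁, hu₁v₁, hv₁u₁⟩ := ih D₁ ⟨_, _, ih1, ih2⟩
    rw [hD₁ε] at hu₁v₁
    have hv₁ : v₁ * (D.ε - vecMulVec p φ) = v₁ := by
      rw [← hu₁v₁, ← Matrix.mul_assoc, hv₁u₁, Matrix.one_mul]
    have hu₁ : (D.ε - vecMulVec p φ) * u₁ = u₁ := by
      rw [← hu₁v₁, Matrix.mul_assoc, hv₁u₁, Matrix.mul_one]
    have hv₁p : v₁ *ᵥ p = 0 := by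
      rw [← hv₁, ← Matrix.mulVec_mulVec, sub_vmv_mulVec D.ε p φ hp hφp, Matrix.mulVec_zero]
    have hφu₁ : φ ᵥ* u₁ = 0 := by
      rw [← hu₁, ← Matrix.vecMul_vecMul, vecMul_sub_vmv D.ε p φ hφ hφp, Matrix.zero_vecMul]
    refine ⟨κ₁ ⊕ Unit, inferInstance, inferInstance,
      Matrix.fromCols u₁ (Matrix.replicateCol Unit p),
      Matrix.fromRows v₁ (Matrix.replicateRow Unit φ), ?_, ?_⟩
    · rw [Matrix.fromCols_mul_fromRows, hu₁v₁, ← Matrix.vecMulVec_eq Unit, sub_add_cancel]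
    · rw [Matrix.fromRows_mul_fromCols, hv₁u₁, ← Matrix.replicateCol_mulVec, hv₁p,
        ← Matrix.replicateRow_vecMul, hφu₁]
      have h11 : Matrix.replicateRow Unit φ * Matrix.replicateCol Unit p =
          (1 : Matrix Unit Unit A[X]) := by
        refine Matrix.ext fun a b => ?_
        rw [Matrix.mul_apply, Matrix.one_apply_eq]
        exact hφp
      rw [h11]
      have hz1 : Matrix.replicateCol Unit (0 : κ₁ → A[X]) = 0 := by
        refine Matrix.ext fun a b => rfl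
      have hz2 : Matrix.replicateRow Unit (0 : κ₁ → A[X]) = 0 := by
        refine Matrix.ext fun a b => rfl
      rw [hz1, hz2, Matrix.fromBlocks_one]

/-- **Local Horrocks (matrix form)**: over a local ring, the restriction to the affine line of
a vector bundle on `P¹` is free. -/
theorem local_horrocks (D : PData A r r') :
    ∃ (κ : Type) (_ : Fintype κ) (_ : DecidableEq κ) (u : Matrix (Fin r) κ A[X])
      (v : Matrix κ (Fin r) A[X]), u * v = D.ε ∧ v * u = 1 := by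
  obtain ⟨n, u, v, huv, hvu⟩ := exists_split_of_pid (D.map π).ε (D.map π).hε
  exact local_horrocks_aux n D ⟨u, v, huv, hvu⟩

end induction

end Groth.Agent.Lib.HorrocksH4
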