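import Mathlib

/-!
# Quillen patching, part A (helper4): localisation bookkeeping and the scaling lemma
APPEND-ONLY once landed.
-/

set_option autoImplicit false
set_option linter.unusedVariables false
set_option linter.unusedTactic false
set_option linter.unreachableTactic false
set_option linter.unusedSectionVars false
set_option linter.style.haveILetI false
set_option linter.deprecated false
set_option linter.unusedSimpArgs false
set_option linter.style.longLine false
set_option maxHeartbeats 1600000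

universe u v

noncomputable section

open Polynomial Matrix

namespace Groth.Agent.Lib.QPatchH4

/-- `ι : S → S'` behaves like the localisation of `S` at the powers of `c`
(without requiring `c` to become invertible). -/
structure IsLocAt {S : Type u} {S' : Type v} [CommRing S] [CommRing S'] (ι : S →+* S') (c : S) :
    Prop where
  surj : ∀ x : S', ∃ (n : ℕ) (s : S), ι c ^ n * x = ι s
  ker : ∀ s : S, ι s = 0 → ∃ n : ℕ, c ^ n * s = 0

namespace IsLocAt

variable {S : Type u} {S' : Type v} [CommRing S] [CommRing S'] {ι : S →+* S'} {c : S}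

lemma of_away (c : S) [Algebra S S'] [IsLocalization.Away c S'] :
    IsLocAt (algebraMap S S') c where
  surj x := by
    obtain ⟨n, a, h⟩ := IsLocalization.Away.surj c x
    exact ⟨n, a, by rw [mul_comm, h]⟩
  ker s hs := by
    obtain ⟨n, h⟩ := IsLocalization.Away.exists_of_eq (S := S') c (a := s) (b := 0)
      (by rw [hs, map_zero])
    exact ⟨n, by rw [h, mul_zero]⟩

lemma exists_common (h : IsLocAt ι c) {κ : Type*} [Finite κ] (f : κ → S') :
    ∃ (n : ℕ) (g : κ → S), ∀ k, ι c ^ n * f k = ι (g k) := by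
  classical
  cases nonempty_fintype κ
  choose n g hg using fun k => h.surj (f k)
  refine ⟨∑ k, n k, fun k => c ^ ((∑ k, n k) - n k) * g k, fun k => ?_⟩
  have hle : n k ≤ ∑ k, n k := Finset.single_le_sum (fun _ _ => Nat.zero_le _) (Finset.mem_univ k)
  rw [map_mul, map_pow, ← hg k, ← mul_assoc, ← pow_add, Nat.sub_add_cancel hle]

lemma exists_common_ker (h : IsLocAt ι c) {κ : Type*} [Finite κ] (g : κ → S)
    (hg : ∀ k, ι (g k) = 0) : ∃ n : ℕ, ∀ k, c ^ n * g k = 0 := by
  classical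
  cases nonempty_fintype κ
  choose n hn using fun k => h.ker (g k) (hg k)
  refine ⟨∑ k, n k, fun k => ?_⟩
  have hle : n k ≤ ∑ k, n k := Finset.single_le_sum (fun _ _ => Nat.zero_le _) (Finset.mem_univ k)
  rw [← Nat.sub_add_cancel hle, pow_add, mul_assoc, hn k, mul_zero]

/-- `IsLocAt` passes to polynomial rings. -/
lemma polynomial (h : IsLocAt ι c) : IsLocAt (Polynomial.mapRingHom ι) (Polynomial.C c) where
  surj p := by
    obtain ⟨n, g, hg⟩ := h.exists_common (fun i : Fin (p.natDegree + 1) => p.coeff i)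
    refine ⟨n, ∑ i : Fin (p.natDegree + 1), Polynomial.monomial (i : ℕ) (g i), ?_⟩
    rw [Polynomial.coe_mapRingHom, Polynomial.map_C, ← Polynomial.C_pow, ← map_pow]
    refine Polynomial.ext fun m => ?_
    rw [Polynomial.coeff_C_mul, Polynomial.coeff_map, Polynomial.finset_sum_coeff, map_sum]
    by_cases hm : m < p.natDegree + 1
    · rw [Finset.sum_eq_single (⟨m, hm⟩ : Fin (p.natDegree + 1))]
      · rw [Polynomial.coeff_monomial, if_pos rfl, ← hg ⟨m, hm⟩, map_pow]
      · intro b _ hb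
        rw [Polynomial.coeff_monomial, if_neg, map_zero]
        intro h'
        exact hb (Fin.ext h')
      · intro h'; exact absurd (Finset.mem_univ _) h'
    · rw [Polynomial.coeff_eq_zero_of_natDegree_lt (by omega), mul_zero]
      symm
      refine Finset.sum_eq_zero fun b _ => ?_
      rw [Polynomial.coeff_monomial, if_neg, map_zero]
      intro h'
      exact hm (h' ▸ b.2)
  ker s hs := by
    have h0 : ∀ i : Fin (s.natDegree + 1), ι (s.coeff i) = 0 := by
      intro i
      have := congrArg (fun q => Polynomial.coeff q (i : ℕ)) hs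
      simpa [Polynomial.coeff_map] using this
    obtain ⟨n, hn⟩ := h.exists_common_ker (fun i : Fin (s.natDegree + 1) => s.coeff i) h0
    refine ⟨n, ?_⟩
    rw [← Polynomial.C_pow]
    refine Polynomial.ext fun m => ?_
    rw [Polynomial.coeff_C_mul, Polynomial.coeff_zero]
    by_cases hm : m < s.natDegree + 1
    · exact hn ⟨m, hm⟩
    · rw [Polynomial.coeff_eq_zero_of_natDegree_lt (by omega), mul_zero]

/-- clearing denominators in a matrix. -/
lemma exists_matrix (h : IsLocAt ι c) {m n : Type*} [Finite m] [Finite n] (M : Matrix m n S') :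
    ∃ (N : ℕ) (G : Matrix m n S), G.map ι = (ι c ^ N) • M := by
  obtain ⟨N, g, hg⟩ := h.exists_common (fun p : m × n => M p.1 p.2)
  refine ⟨N, Matrix.of fun i j => g (i, j), ?_⟩
  refine Matrix.ext fun i j => ?_
  rw [Matrix.map_apply, Matrix.smul_apply, smul_eq_mul, Matrix.of_apply]
  exact (hg (i, j)).symm

/-- killing a matrix that dies in the localisation. -/
lemma exists_matrix_ker (h : IsLocAt ι c) {m n : Type*} [Finite m] [Finite n] (G : Matrix m n S)
    (hG : G.map ι = 0) : ∃ N : ℕ, (c ^ N) • G = 0 := by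
  obtain ⟨N, hN⟩ := h.exists_common_ker (fun p : m × n => G p.1 p.2) (fun p => by
    have := congrFun (congrFun hG p.1) p.2
    simpa using this)
  refine ⟨N, Matrix.ext fun i j => ?_⟩
  rw [Matrix.smul_apply, smul_eq_mul]
  exact hN (i, j)

end IsLocAt

section scale

variable {S : Type u} [CommRing S] {S' : Type v} [CommRing S']

/-- `p(Y) ↦ p(dY)`. -/
def scale (d : S) : S[X] →+* S[X] := Polynomial.compRingHom (Polynomial.C d * X)

/-- the constant term, as a ring endomorphism `p ↦ C (p(0))`. -/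
def κ₀ : S[X] →+* S[X] := Polynomial.C.comp (Polynomial.evalRingHom 0)

@[simp] lemma scale_C (d a : S) : scale d (Polynomial.C a) = Polynomial.C a := by simp [scale]
@[simp] lemma scale_X (d : S) : scale d X = Polynomial.C d * X := by simp [scale]
@[simp] lemma κ₀_C (a : S) : κ₀ (Polynomial.C a) = Polynomial.C a := by simp [κ₀]
@[simp] lemma κ₀_X : κ₀ (X : S[X]) = 0 := by simp [κ₀]

lemma scale_comp_C (d : S) : (scale d).comp Polynomial.C = Polynomial.C :=
  RingHom.ext fun a => scale_C d a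

lemma κ₀_comp_C : (κ₀ (S := S)).comp Polynomial.C = Polynomial.C :=
  RingHom.ext fun a => κ₀_C a

lemma scale_comp_scale (d₁ d₂ : S) : (scale d₂).comp (scale d₁) = scale (d₁ * d₂) := by
  refine Polynomial.ringHom_ext (fun a => ?_) ?_
  · simp
  · simp only [RingHom.comp_apply, scale_X, map_mul, scale_C]
    ring

lemma κ₀_comp_scale (d : S) : (κ₀ (S := S)).comp (scale d) = κ₀ := by
  refine Polynomial.ringHom_ext (fun a => ?_) ?_
  · simp
  · simp

lemma map_comp_scale (ι : S →+* S') (d : S) :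
    (Polynomial.mapRingHom ι).comp (scale d) = (scale (ι d)).comp (Polynomial.mapRingHom ι) := by
  refine Polynomial.ringHom_ext (fun a => ?_) ?_
  · simp
  · simp

lemma map_comp_κ₀ (ι : S →+* S') :
    (Polynomial.mapRingHom ι).comp κ₀ = (κ₀ (S := S')).comp (Polynomial.mapRingHom ι) := by
  refine Polynomial.ringHom_ext (fun a => ?_) ?_
  · simp
  · simp

lemma mm {R₁ R₂ R₃ : Type*} [Semiring R₁] [Semiring R₂] [Semiring R₃] {m n : Type*}
    (M : Matrix m n R₁) (f : R₁ →+* R₂) (g : R₂ →+* R₃) : (M.map f).map g = M.map (g.comp f) := by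
  rw [Matrix.map_map, RingHom.coe_comp]

lemma X_mul_eq_zero {q : S[X]} (h : X * q = 0) : q = 0 := by
  refine Polynomial.ext fun n => ?_
  have := congrArg (fun p => Polynomial.coeff p (n + 1)) h
  simpa [Polynomial.coeff_X_mul] using this

lemma eq_X_mul_divX_of_κ₀ {p : S[X]} (h : κ₀ p = 0) : p = X * p.divX := by
  have h3 : p.coeff 0 = 0 := by
    have : Polynomial.C (p.eval 0) = 0 := h
    rw [Polynomial.coeff_zero_eq_eval_zero]
    exact Polynomial.C_eq_zero.1 this
  conv_lhs => rw [← Polynomial.X_mul_divX_add p, h3, map_zero, add_zero]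

lemma map_one_add_X_smul {T : Type*} [CommRing T] {r : ℕ} (f : S[X] →+* T)
    (M : Matrix (Fin r) (Fin r) S[X]) :
    (1 + (X : S[X]) • M).map f = 1 + f X • M.map f := by
  refine Matrix.ext fun i j => ?_
  simp only [Matrix.map_apply, Matrix.add_apply, Matrix.smul_apply, smul_eq_mul, map_add, map_mul]
  congr 1
  by_cases hij : i = j
  · subst hij; simp
  · simp [Matrix.one_apply_ne hij]

lemma exists_X_smul {r : ℕ} (Θ : Matrix (Fin r) (Fin r) S[X]) (h0 : Θ.map κ₀ = 1) :
    ∃ Θ₁ : Matrix (Fin r) (Fin r) S[X], Θ = 1 + (X : S[X]) • Θ₁ := by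
  refine ⟨Matrix.of fun i j => (Θ i j - (1 : Matrix (Fin r) (Fin r) S[X]) i j).divX, ?_⟩
  refine Matrix.ext fun i j => ?_
  have h1 : κ₀ (Θ i j - (1 : Matrix (Fin r) (Fin r) S[X]) i j) = 0 := by
    have h2 := congrFun (congrFun h0 i) j
    rw [Matrix.map_apply] at h2
    rw [map_sub, h2]
    by_cases hij : i = j
    · subst hij; simp
    · simp [Matrix.one_apply_ne hij]
  have h3 := eq_X_mul_divX_of_κ₀ h1
  rw [Matrix.add_apply, Matrix.smul_apply, smul_eq_mul, Matrix.of_apply, ← h3]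
  ring

/-- a polynomial matrix with zero constant term which dies in the localisation is killed by
rescaling the variable. -/
lemma kill {ι : S →+* S'} {c : S} (h : IsLocAt ι c) {r : ℕ} (Z : Matrix (Fin r) (Fin r) S[X])
    (h0 : Z.map κ₀ = 0) (h1 : Z.map (Polynomial.mapRingHom ι) = 0) :
    ∃ l : ℕ, ∀ l', l ≤ l' → Z.map (scale (c ^ l')) = 0 := by
  have hZ : ∀ i j, Z i j = X * (Z i j).divX := fun i j =>
    eq_X_mul_divX_of_κ₀ (by simpa using congrFun (congrFun h0 i) j)
  obtain ⟨W, hWdef⟩ : ∃ W : Matrix (Fin r) (Fin r) S[X],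
    W = Matrix.of fun i j => (Z i j).divX := ⟨_, rfl⟩
  have hW : W.map (Polynomial.mapRingHom ι) = 0 := by
    refine Matrix.ext fun i j => ?_
    have h2 := congrFun (congrFun h1 i) j
    simp only [Matrix.map_apply, Matrix.zero_apply, Polynomial.coe_mapRingHom] at h2 ⊢
    rw [hZ i j, Polynomial.map_mul, Polynomial.map_X] at h2
    rw [hWdef, Matrix.of_apply]
    exact X_mul_eq_zero h2
  obtain ⟨l, hl⟩ := h.polynomial.exists_matrix_ker W hW
  refine ⟨l, fun l' hl' => ?_⟩
  refine Matrix.ext fun i j => ?_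
  rw [Matrix.map_apply, hZ i j, map_mul, scale_X, Matrix.zero_apply]
  have h3 : Polynomial.C (c ^ l') * (Z i j).divX = 0 := by
    have h2 := congrFun (congrFun hl i) j
    simp only [Matrix.smul_apply, smul_eq_mul, Matrix.zero_apply] at h2
    rw [hWdef, Matrix.of_apply] at h2
    rw [← Nat.sub_add_cancel hl', pow_add, map_mul, mul_assoc, map_pow Polynomial.C c l, h2,
      mul_zero]
  calc Polynomial.C (c ^ l') * X * scale (c ^ l') (Z i j).divX
      = X * scale (c ^ l') (Polynomial.C (c ^ l') * (Z i j).divX) := by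
        rw [map_mul, scale_C]; ring
    _ = 0 := by rw [h3, map_zero, mul_zero]

lemma map_const_scale {r : ℕ} (e₀ : Matrix (Fin r) (Fin r) S) (d : S) :
    (e₀.map Polynomial.C).map (scale d) = e₀.map Polynomial.C := by
  rw [mm, scale_comp_C]

lemma map_const_κ₀ {r : ℕ} (e₀ : Matrix (Fin r) (Fin r) S) :
    (e₀.map Polynomial.C).map κ₀ = e₀.map Polynomial.C := by
  rw [mm, κ₀_comp_C]

lemma map_const_map {r : ℕ} (e₀ : Matrix (Fin r) (Fin r) S) (ι : S →+* S') :
    (e₀.map Polynomial.C).map (Polynomial.mapRingHom ι) = (e₀.map ι).map Polynomial.C := by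
  rw [mm, mm]
  have : (Polynomial.mapRingHom ι).comp Polynomial.C = Polynomial.C.comp ι :=
    RingHom.ext fun a => by simp
  rw [this]

lemma map_one' {R₁ R₂ : Type*} [Semiring R₁] [Semiring R₂] {r : ℕ} (f : R₁ →+* R₂) :
    (1 : Matrix (Fin r) (Fin r) R₁).map f = 1 :=
  Matrix.map_one _ (map_zero _) (map_one _)

lemma map_sub' {R₁ R₂ : Type*} [Ring R₁] [Ring R₂] {m n : Type*} (f : R₁ →+* R₂)
    (M N : Matrix m n R₁) : (M - N).map f = M.map f - N.map f := by
  refine Matrix.ext fun i j => ?_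
  simp

/-- **Scaling lemma**: an invertible polynomial matrix over the localisation which is the
identity at `0` descends after rescaling the variable by a power of `c`. -/
theorem scaling_lemma {ι : S →+* S'} {c : S} (h : IsLocAt ι c) {r : ℕ}
    (e₀ : Matrix (Fin r) (Fin r) S)
    (Θ Θ' : Matrix (Fin r) (Fin r) S'[X]) (h1 : Θ * Θ' = 1) (h2 : Θ' * Θ = 1)
    (h0 : Θ.map κ₀ = 1)
    (hcomm : Θ * (e₀.map ι).map Polynomial.C = (e₀.map ι).map Polynomial.C * Θ)
    (hfix : Θ * (1 - (e₀.map ι).map Polynomial.C) = 1 - (e₀.map ι).map Polynomial.C) :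
    ∃ (N : ℕ) (α α' : Matrix (Fin r) (Fin r) S[X]), α * α' = 1 ∧ α' * α = 1 ∧ α.map κ₀ = 1 ∧
      α * e₀.map Polynomial.C = e₀.map Polynomial.C * α ∧
      α * (1 - e₀.map Polynomial.C) = 1 - e₀.map Polynomial.C ∧
      α.map (Polynomial.mapRingHom ι) = Θ.map (scale (ι c ^ N)) ∧
      α'.map (Polynomial.mapRingHom ι) = Θ'.map (scale (ι c ^ N)) := by
  have h0' : Θ'.map κ₀ = 1 := by
    have := congrArg (fun M : Matrix (Fin r) (Fin r) S'[X] => M.map κ₀) h1
    simp only [Matrix.map_mul, h0, Matrix.one_mul, map_one'] at this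
    exact this
  obtain ⟨Θ₁, hΘ₁⟩ := exists_X_smul Θ h0
  obtain ⟨Θ'₁, hΘ'₁⟩ := exists_X_smul Θ' h0'
  obtain ⟨n₁, Γ₁, hΓ₁⟩ := h.polynomial.exists_matrix Θ₁
  obtain ⟨n₂, Γ₂, hΓ₂⟩ := h.polynomial.exists_matrix Θ'₁
  -- common exponent
  obtain ⟨n, hn⟩ : ∃ n, n = n₁ + n₂ := ⟨_, rfl⟩
  obtain ⟨Γ, hΓdef⟩ : ∃ Γ : Matrix (Fin r) (Fin r) S[X],
    Γ = (Polynomial.C c ^ n₂) • Γ₁ := ⟨_, rfl⟩
  obtain ⟨Γ', hΓ'def⟩ : ∃ Γ' : Matrix (Fin r) (Fin r) S[X],
    Γ' = (Polynomial.C c ^ n₁) • Γ₂ := ⟨_, rfl⟩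
  have hΓ : Γ.map (Polynomial.mapRingHom ι) = (Polynomial.C (ι c) ^ n) • Θ₁ := by
    rw [hΓdef, hn]
    refine Matrix.ext fun i j => ?_
    have := congrFun (congrFun hΓ₁ i) j
    simp only [Matrix.map_apply, Matrix.smul_apply, smul_eq_mul, Polynomial.coe_mapRingHom,
      Polynomial.map_C] at this ⊢
    rw [Polynomial.map_mul, this, Polynomial.map_pow, Polynomial.map_C]
    ring
  have hΓ' : Γ'.map (Polynomial.mapRingHom ι) = (Polynomial.C (ι c) ^ n) • Θ'₁ := by
    rw [hΓ'def, hn]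
    refine Matrix.ext fun i j => ?_
    have := congrFun (congrFun hΓ₂ i) j
    simp only [Matrix.map_apply, Matrix.smul_apply, smul_eq_mul, Polynomial.coe_mapRingHom,
      Polynomial.map_C] at this ⊢
    rw [Polynomial.map_mul, this, Polynomial.map_pow, Polynomial.map_C]
    ring
  -- first approximation
  have key : ∀ (Ξ Ξ₁ : Matrix (Fin r) (Fin r) S'[X]) (G : Matrix (Fin r) (Fin r) S[X]),
      Ξ = 1 + (X : S'[X]) • Ξ₁ →
      G.map (Polynomial.mapRingHom ι) = (Polynomial.C (ι c) ^ n) • Ξ₁ →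
      (1 + (X : S[X]) • G.map (scale (c ^ n))).map (Polynomial.mapRingHom ι) =
        Ξ.map (scale (ι c ^ n)) := by
    intro Ξ Ξ₁ G hΞ hG
    rw [map_one_add_X_smul, hΞ, map_one_add_X_smul, mm, map_comp_scale, ← mm, hG]
    refine Matrix.ext fun i j => ?_
    simp only [Matrix.add_apply, Matrix.smul_apply, Matrix.map_apply, smul_eq_mul,
      Polynomial.coe_mapRingHom, Polynomial.map_X, scale_X, map_mul, map_pow, scale_C]
    ring
  obtain ⟨α₀, hα₀def⟩ : ∃ α₀ : Matrix (Fin r) (Fin r) S[X],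
    α₀ = 1 + (X : S[X]) • Γ.map (scale (c ^ n)) := ⟨_, rfl⟩
  obtain ⟨α₀', hα₀'def⟩ : ∃ α₀' : Matrix (Fin r) (Fin r) S[X],
    α₀' = 1 + (X : S[X]) • Γ'.map (scale (c ^ n)) := ⟨_, rfl⟩
  have hα₀ : α₀.map (Polynomial.mapRingHom ι) = Θ.map (scale (ι c ^ n)) := by
    rw [hα₀def]; exact key Θ Θ₁ Γ hΘ₁ hΓ
  have hα₀' : α₀'.map (Polynomial.mapRingHom ι) = Θ'.map (scale (ι c ^ n)) := by
    rw [hα₀'def]; exact key Θ' Θ'₁ Γ' hΘ'₁ hΓ'
  have hα₀κ : α₀.map κ₀ = 1 := by
    rw [hα₀def, map_one_add_X_smul, κ₀_X, zero_smul, add_zero]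
  have hα₀'κ : α₀'.map κ₀ = 1 := by
    rw [hα₀'def, map_one_add_X_smul, κ₀_X, zero_smul, add_zero]
  have hE : ((e₀.map ι).map Polynomial.C).map (scale (ι c ^ n)) = (e₀.map ι).map Polynomial.C :=
    map_const_scale _ _
  -- the four defects
  obtain ⟨l₁, hl₁⟩ := kill h (α₀ * α₀' - 1)
    (by rw [map_sub', Matrix.map_mul, hα₀κ, hα₀'κ, Matrix.one_mul, map_one', sub_self])
    (by rw [map_sub', Matrix.map_mul, hα₀, hα₀', ← Matrix.map_mul, h1, map_one', map_one',
      sub_self])
  obtain ⟨l₂, hl₂⟩ := kill h (α₀' * α₀ - 1)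
    (by rw [map_sub', Matrix.map_mul, hα₀κ, hα₀'κ, Matrix.one_mul, map_one', sub_self])
    (by rw [map_sub', Matrix.map_mul, hα₀, hα₀', ← Matrix.map_mul, h2, map_one', map_one',
      sub_self])
  obtain ⟨l₃, hl₃⟩ := kill h (α₀ * e₀.map Polynomial.C - e₀.map Polynomial.C * α₀)
    (by rw [map_sub', Matrix.map_mul, Matrix.map_mul, hα₀κ, map_const_κ₀, Matrix.one_mul,
      Matrix.mul_one, sub_self])
    (by rw [map_sub', Matrix.map_mul, Matrix.map_mul, hα₀, map_const_map, ← hE,
      ← Matrix.map_mul, ← Matrix.map_mul, hcomm, sub_self])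
  obtain ⟨l₄, hl₄⟩ := kill h (α₀ * (1 - e₀.map Polynomial.C) - (1 - e₀.map Polynomial.C))
    (by rw [map_sub', Matrix.map_mul, map_sub', hα₀κ, map_const_κ₀, map_one', Matrix.one_mul,
      sub_self])
    (by rw [map_sub', Matrix.map_mul, map_sub', hα₀, map_const_map, map_one', ← hE,
      ← map_one' (scale (ι c ^ n)), ← map_sub', ← Matrix.map_mul, hfix, sub_self])
  obtain ⟨l, hl⟩ : ∃ l, l = max (max l₁ l₂) (max l₃ l₄) := ⟨_, rfl⟩
  have hll₁ : l₁ ≤ l := by rw [hl]; exact le_trans (le_max_left _ _) (le_max_left _ _)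
  have hll₂ : l₂ ≤ l := by rw [hl]; exact le_trans (le_max_right _ _) (le_max_left _ _)
  have hll₃ : l₃ ≤ l := by rw [hl]; exact le_trans (le_max_left _ _) (le_max_right _ _)
  have hll₄ : l₄ ≤ l := by rw [hl]; exact le_trans (le_max_right _ _) (le_max_right _ _)
  have hs1 : ∀ (M N : Matrix (Fin r) (Fin r) S[X]) (g : S[X] →+* S[X]),
      (M - N).map g = 0 → M.map g = N.map g := by
    intro M N g hg
    rw [map_sub', sub_eq_zero] at hg
    exact hg
  refine ⟨n + l, α₀.map (scale (c ^ l)), α₀'.map (scale (c ^ l)), ?_, ?_, ?_, ?_, ?_, ?_, ?_⟩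
  · rw [← Matrix.map_mul, hs1 _ _ _ (hl₁ l hll₁), map_one']
  · rw [← Matrix.map_mul, hs1 _ _ _ (hl₂ l hll₂), map_one']
  · rw [mm, κ₀_comp_scale, hα₀κ]
  · have := hs1 _ _ _ (hl₃ l hll₃)
    rw [Matrix.map_mul, Matrix.map_mul, map_const_scale] at this
    exact this
  · have := hs1 _ _ _ (hl₄ l hll₄)
    rw [Matrix.map_mul, map_sub', map_const_scale, map_one'] at this
    exact this
  · rw [mm, map_comp_scale, ← mm, hα₀, mm, scale_comp_scale, map_pow, ← pow_add]
  · rw [mm, map_comp_scale, ← mm, hα₀', mm, scale_comp_scale, map_pow, ← pow_add]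

end scale

end Groth.Agent.Lib.QPatchH4
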