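import Mathlib
import Groth.Agent.Lib.QPatchA_helper4

/-!
# Quillen patching, part B (helper4): gluing squares and the factorisation lemma
APPEND-ONLY once landed.
-/

set_option autoImplicit false
set_option linter.unusedVariables false
set_option linter.unusedTactic false
set_option linter.unreachableTactic false
set_option linter.unusedSectionVars false
set_option linter.style.haveILetI false
set_option linter.deprecated false
set_option linter.unusedSimpArgs false
set_option linter.style.longLine false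
set_option maxHeartbeats 1600000

universe u

noncomputable section

open Polynomial Matrix

namespace Groth.Agent.Lib.QPatchH4

/-- a commutative square of rings `A → Aa, Ab → Aab` which is a pull-back square. -/
structure GlueSq {A Aa Ab Aab : Type u} [CommRing A] [CommRing Aa] [CommRing Ab] [CommRing Aab]
    (ιa : A →+* Aa) (ιb : A →+* Ab) (ja : Aa →+* Aab) (jb : Ab →+* Aab) : Prop where
  comm : ∀ x, ja (ιa x) = jb (ιb x)
  inj : ∀ x, ιa x = 0 → ιb x = 0 → x = 0
  glue : ∀ xa xb, ja xa = jb xb → ∃ x, ιa x = xa ∧ ιb x = xb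

namespace GlueSq

variable {A Aa Ab Aab : Type u} [CommRing A] [CommRing Aa] [CommRing Ab] [CommRing Aab]
  {ιa : A →+* Aa} {ιb : A →+* Ab} {ja : Aa →+* Aab} {jb : Ab →+* Aab}

lemma comm' (h : GlueSq ιa ιb ja jb) : ja.comp ιa = jb.comp ιb := RingHom.ext h.comm

lemma inj' (h : GlueSq ιa ιb ja jb) {x y : A} (h1 : ιa x = ιa y) (h2 : ιb x = ιb y) : x = y := by
  rw [← sub_eq_zero]
  exact h.inj _ (by rw [map_sub, h1, sub_self]) (by rw [map_sub, h2, sub_self])

/-- the pull-back property passes to polynomial rings. -/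
lemma polynomial (h : GlueSq ιa ιb ja jb) :
    GlueSq (Polynomial.mapRingHom ιa) (Polynomial.mapRingHom ιb) (Polynomial.mapRingHom ja)
      (Polynomial.mapRingHom jb) where
  comm p := by
    simp only [Polynomial.coe_mapRingHom, Polynomial.map_map, h.comm']
  inj p h1 h2 := by
    refine Polynomial.ext fun n => ?_
    rw [Polynomial.coeff_zero]
    refine h.inj _ ?_ ?_
    · have := congrArg (fun q => Polynomial.coeff q n) h1
      simpa [Polynomial.coeff_map] using this
    · have := congrArg (fun q => Polynomial.coeff q n) h2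
      simpa [Polynomial.coeff_map] using this
  glue pa pb hab := by
    have hc : ∀ n, ja (pa.coeff n) = jb (pb.coeff n) := by
      intro n
      have := congrArg (fun q => Polynomial.coeff q n) hab
      simpa [Polynomial.coeff_map] using this
    choose x hxa hxb using fun n => h.glue _ _ (hc n)
    obtain ⟨N, hN⟩ : ∃ N, N = max pa.natDegree pb.natDegree + 1 := ⟨_, rfl⟩
    refine ⟨∑ i ∈ Finset.range N, Polynomial.monomial i (x i), ?_, ?_⟩
    · refine Polynomial.ext fun n => ?_
      rw [Polynomial.coe_mapRingHom, Polynomial.coeff_map, Polynomial.finset_sum_coeff, map_sum]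
      by_cases hn : n < N
      · rw [Finset.sum_eq_single n]
        · rw [Polynomial.coeff_monomial, if_pos rfl, hxa]
        · intro b _ hb
          rw [Polynomial.coeff_monomial, if_neg hb, map_zero]
        · intro h'; exact absurd (Finset.mem_range.2 hn) h'
      · rw [Polynomial.coeff_eq_zero_of_natDegree_lt (by omega)]
        refine Finset.sum_eq_zero fun b hb => ?_
        rw [Polynomial.coeff_monomial, if_neg, map_zero]
        intro h'
        exact hn (h' ▸ Finset.mem_range.1 hb)
    · refine Polynomial.ext fun n => ?_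
      rw [Polynomial.coe_mapRingHom, Polynomial.coeff_map, Polynomial.finset_sum_coeff, map_sum]
      by_cases hn : n < N
      · rw [Finset.sum_eq_single n]
        · rw [Polynomial.coeff_monomial, if_pos rfl, hxb]
        · intro b _ hb
          rw [Polynomial.coeff_monomial, if_neg hb, map_zero]
        · intro h'; exact absurd (Finset.mem_range.2 hn) h'
      · rw [Polynomial.coeff_eq_zero_of_natDegree_lt (by omega)]
        refine Finset.sum_eq_zero fun b hb => ?_
        rw [Polynomial.coeff_monomial, if_neg, map_zero]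
        intro h'
        exact hn (h' ▸ Finset.mem_range.1 hb)

lemma matrix_glue (h : GlueSq ιa ιb ja jb) {m n : Type*} (Ma : Matrix m n Aa) (Mb : Matrix m n Ab)
    (hab : Ma.map ja = Mb.map jb) : ∃ M : Matrix m n A, M.map ιa = Ma ∧ M.map ιb = Mb := by
  have hc : ∀ i j, ja (Ma i j) = jb (Mb i j) := fun i j => by
    have := congrFun (congrFun hab i) j
    simpa using this
  choose x hxa hxb using fun i j => h.glue _ _ (hc i j)
  exact ⟨Matrix.of x, Matrix.ext fun i j => hxa i j, Matrix.ext fun i j => hxb i j⟩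

lemma matrix_inj (h : GlueSq ιa ιb ja jb) {m n : Type*} {M N : Matrix m n A}
    (h1 : M.map ιa = N.map ιa) (h2 : M.map ιb = N.map ιb) : M = N := by
  refine Matrix.ext fun i j => h.inj' ?_ ?_
  · simpa using congrFun (congrFun h1 i) j
  · simpa using congrFun (congrFun h2 i) j

end GlueSq

section away

variable {A : Type u} [CommRing A]

/-- the localisation `A_a → A_{ab}` is a localisation at `b`. -/
lemma isLocAt_of_away {Aa Aab : Type u} [CommRing Aa] [CommRing Aab] [Algebra A Aa]
    [Algebra A Aab] (a b c : A) (hc : c = a * b) [IsLocalization.Away a Aa]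
    [IsLocalization.Away c Aab] (j : Aa →+* Aab)
    (hj : ∀ x, j (algebraMap A Aa x) = algebraMap A Aab x) :
    IsLocAt j (algebraMap A Aa b) where
  surj y := by
    obtain ⟨n, x, hx⟩ := IsLocalization.Away.surj c y
    refine ⟨n, algebraMap A Aa x * IsLocalization.Away.invSelf a ^ n, ?_⟩
    have h1 : algebraMap A Aab a * j (IsLocalization.Away.invSelf a) = 1 := by
      rw [← hj, ← map_mul, IsLocalization.Away.mul_invSelf, map_one]
    rw [hj, map_mul, map_pow, hj, ← hx, hc, map_mul]
    calc algebraMap A Aab b ^ n * y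
        = y * algebraMap A Aab b ^ n *
          (algebraMap A Aab a * j (IsLocalization.Away.invSelf a)) ^ n := by
          rw [h1, one_pow, mul_one, mul_comm]
      _ = y * (algebraMap A Aab a * algebraMap A Aab b) ^ n *
          j (IsLocalization.Away.invSelf a) ^ n := by ring
  ker s hs := by
    obtain ⟨n, x, hx⟩ := IsLocalization.Away.surj a s
    have h1 : algebraMap A Aab x = 0 := by
      rw [← hj, ← hx, map_mul, hs, zero_mul]
    obtain ⟨m, hm⟩ := IsLocalization.Away.exists_of_eq (S := Aab) c (a := x) (b := 0)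
      (by rw [h1, map_zero])
    rw [mul_zero] at hm
    refine ⟨m, ?_⟩
    rw [← map_pow]
    calc algebraMap A Aa (b ^ m) * s
        = algebraMap A Aa (b ^ m) * s *
          (algebraMap A Aa a * IsLocalization.Away.invSelf a) ^ (m + n) := by
          rw [IsLocalization.Away.mul_invSelf, one_pow, mul_one]
      _ = (algebraMap A Aa (a ^ m) * algebraMap A Aa (b ^ m) * (s * algebraMap A Aa a ^ n)) *
          IsLocalization.Away.invSelf a ^ (m + n) := by
          rw [map_pow, map_pow]; ring
      _ = algebraMap A Aa (c ^ m * x) * IsLocalization.Away.invSelf a ^ (m + n) := by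
          rw [hx, hc, mul_pow, map_mul, map_mul]
      _ = 0 := by rw [hm, map_zero, zero_mul]

/-- the square of localisations at two coprime elements is a pull-back square. -/
lemma glueSq_of_away {Aa Ab Aab : Type u} [CommRing Aa] [CommRing Ab] [CommRing Aab]
    [Algebra A Aa] [Algebra A Ab] [Algebra A Aab] (a b : A) (hab : IsCoprime a b)
    [IsLocalization.Away a Aa] [IsLocalization.Away b Ab] [IsLocalization.Away (a * b) Aab]
    (ja : Aa →+* Aab) (jb : Ab →+* Aab)
    (hja : ∀ x, ja (algebraMap A Aa x) = algebraMap A Aab x)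
    (hjb : ∀ x, jb (algebraMap A Ab x) = algebraMap A Aab x) :
    GlueSq (algebraMap A Aa) (algebraMap A Ab) ja jb where
  comm x := by rw [hja, hjb]
  inj x h1 h2 := by
    obtain ⟨n, hn⟩ := IsLocalization.Away.exists_of_eq (S := Aa) a (a := x) (b := 0)
      (by rw [h1, map_zero])
    obtain ⟨m, hm⟩ := IsLocalization.Away.exists_of_eq (S := Ab) b (a := x) (b := 0)
      (by rw [h2, map_zero])
    rw [mul_zero] at hn hm
    obtain ⟨u, v, huv⟩ : IsCoprime (a ^ n) (b ^ m) := IsCoprime.pow hab
    calc x = (u * a ^ n + v * b ^ m) * x := by rw [huv, one_mul]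
      _ = u * (a ^ n * x) + v * (b ^ m * x) := by ring
      _ = 0 := by rw [hn, hm, mul_zero, mul_zero, add_zero]
  glue xa xb h := by
    obtain ⟨n, p, hp⟩ := IsLocalization.Away.surj a xa
    obtain ⟨m, q, hq⟩ := IsLocalization.Away.surj b xb
    have h1 : algebraMap A Aab (p * b ^ m) = algebraMap A Aab (q * a ^ n) := by
      have e1 : algebraMap A Aab p = ja xa * algebraMap A Aab a ^ n := by
        rw [← hja p, ← hp, map_mul, map_pow, hja]
      have e2 : algebraMap A Aab q = jb xb * algebraMap A Aab b ^ m := by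
        rw [← hjb q, ← hq, map_mul, map_pow, hjb]
      rw [map_mul, map_mul, e1, e2, map_pow, map_pow, h]
      ring
    obtain ⟨k, hk⟩ := IsLocalization.Away.exists_of_eq (S := Aab) (a * b) h1
    obtain ⟨u, v, huv⟩ : IsCoprime (a ^ (n + k)) (b ^ (m + k)) := IsCoprime.pow hab
    refine ⟨u * a ^ k * p + v * b ^ k * q, ?_, ?_⟩
    · have e : (u * a ^ k * p + v * b ^ k * q) * a ^ (n + k) = p * a ^ k := by
        linear_combination (a ^ k * p) * huv - v * hk
      have hu : IsUnit (algebraMap A Aa a ^ (n + k)) :=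
        IsLocalization.Away.algebraMap_pow_isUnit a (n + k)
      apply hu.mul_left_inj.1
      rw [← map_pow, ← map_mul, e, map_mul, ← hp, map_pow, map_pow]
      ring
    · have e : (u * a ^ k * p + v * b ^ k * q) * b ^ (m + k) = q * b ^ k := by
        linear_combination (b ^ k * q) * huv + u * hk
      have hu : IsUnit (algebraMap A Ab b ^ (m + k)) :=
        IsLocalization.Away.algebraMap_pow_isUnit b (m + k)
      apply hu.mul_left_inj.1
      rw [← map_pow, ← map_mul, e, map_mul, ← hq, map_pow, map_pow]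
      ring

end away

section sub1

variable {R : Type u} [CommRing R]

/-- `p(t) ↦ p((1 - Y) t)` as a ring homomorphism `R[t] → R[t][Y]`. -/
def sub1 : R[X] →+* R[X][X] :=
  Polynomial.eval₂RingHom (Polynomial.C.comp Polynomial.C) ((1 - X) * Polynomial.C X)

@[simp] lemma sub1_C (a : R) : sub1 (Polynomial.C a) = Polynomial.C (Polynomial.C a) := by
  simp [sub1]

@[simp] lemma sub1_X : sub1 (X : R[X]) = (1 - X) * Polynomial.C X := by simp [sub1]

lemma κ₀_comp_sub1 : (κ₀ (S := R[X])).comp sub1 = Polynomial.C := by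
  refine Polynomial.ringHom_ext (fun a => ?_) ?_
  · simp
  · simp [κ₀]

lemma eval_scale_C (d y : R) :
    (Polynomial.evalRingHom (Polynomial.C y : R[X])).comp
      ((scale (Polynomial.C d : R[X])).comp Polynomial.C) = RingHom.id R[X] := by
  refine RingHom.ext fun p => ?_
  simp

lemma eval_scale_sub1 (d y : R) :
    (Polynomial.evalRingHom (Polynomial.C y : R[X])).comp
      ((scale (Polynomial.C d : R[X])).comp sub1) = scale (1 - d * y) := by
  refine Polynomial.ringHom_ext (fun a => ?_) ?_
  · simp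
  · simp only [RingHom.comp_apply, sub1_X, map_mul, map_sub, map_one, scale_X, scale_C,
      Polynomial.coe_evalRingHom, Polynomial.eval_mul, Polynomial.eval_sub, Polynomial.eval_one,
      Polynomial.eval_C, Polynomial.eval_X]

lemma map_comp_eval {R' : Type u} [CommRing R'] (f : R →+* R') (x : R[X]) :
    (Polynomial.mapRingHom f).comp (Polynomial.evalRingHom x) =
      (Polynomial.evalRingHom (Polynomial.mapRingHom f x)).comp
        (Polynomial.mapRingHom (Polynomial.mapRingHom f)) := by
  refine Polynomial.ringHom_ext (fun a => ?_) ?_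
  · simp
  · simp

lemma eval_comp_C (x : R[X]) :
    (Polynomial.evalRingHom x).comp Polynomial.C = RingHom.id R[X] := by
  refine RingHom.ext fun p => ?_
  simp

end sub1


section InE

variable {M : Type*} [Ring M]

/-- `θ ∈ 1 + E M E`. -/
def InE (E θ : M) : Prop := E * (θ - 1) = θ - 1 ∧ (θ - 1) * E = θ - 1

namespace InE

variable {E θ θ' : M}

lemma comm (h : InE E θ) : θ * E = E * θ := by
  obtain ⟨h1, h2⟩ := h
  linear_combination (norm := noncomm_ring) h2 - h1

lemma fix (h : InE E θ) : θ * (1 - E) = 1 - E := by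
  obtain ⟨h1, h2⟩ := h
  linear_combination (norm := noncomm_ring) - h2

lemma of_comm_fix (hc : θ * E = E * θ) (hf : θ * (1 - E) = 1 - E) : InE E θ := by
  constructor
  · linear_combination (norm := noncomm_ring) - hc - hf
  · linear_combination (norm := noncomm_ring) - hf

lemma mul (h : InE E θ) (h' : InE E θ') : InE E (θ * θ') := by
  obtain ⟨h1, h2⟩ := h
  obtain ⟨h1', h2'⟩ := h'
  constructor
  · linear_combination (norm := noncomm_ring) h1 * θ' + h1'
  · linear_combination (norm := noncomm_ring) θ * h2' + h2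

lemma inv (h : InE E θ) (h1 : θ * θ' = 1) (h2 : θ' * θ = 1) : InE E θ' := by
  obtain ⟨e1, e2⟩ := h
  constructor
  · linear_combination (norm := noncomm_ring) - e1 * θ' + E * h1 - h1
  · linear_combination (norm := noncomm_ring) - θ' * e2 + h2 * E - h2

lemma map {M' : Type*} [Ring M'] (f : M →+* M') (h : InE E θ) : InE (f E) (f θ) := by
  obtain ⟨h1, h2⟩ := h
  constructor
  · rw [← map_one f, ← map_sub, ← map_mul, h1]
  · rw [← map_one f, ← map_sub, ← map_mul, h2]

lemma mapM {R R' : Type*} [Ring R] [Ring R'] {n : Type*} [Fintype n] [DecidableEq n]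
    {E θ : Matrix n n R} (g : R →+* R') (h : InE E θ) : InE (E.map g) (θ.map g) :=
  h.map (RingHom.mapMatrix g)

end InE

end InE

section core

lemma map_id' {R : Type*} [Semiring R] {m n : Type*} (M : Matrix m n R) :
    M.map (RingHom.id R) = M :=
  Matrix.ext fun _ _ => rfl

lemma sub1_comp_C {R : Type u} [CommRing R] :
    (sub1 (R := R)).comp Polynomial.C = (Polynomial.C).comp Polynomial.C :=
  RingHom.ext fun a => sub1_C a

/-- **Quillen's factorisation lemma**. -/
theorem core_factor {A Aa Ab Aab : Type u} [CommRing A] [CommRing Aa] [CommRing Ab] [CommRing Aab]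
    {ιa : A →+* Aa} {ιb : A →+* Ab} {ja : Aa →+* Aab} {jb : Ab →+* Aab}
    (hcomm : ∀ x, ja (ιa x) = jb (ιb x)) {a b : A} (hab : IsCoprime a b)
    (ha : IsLocAt ja (ιa b)) (hb : IsLocAt jb (ιb a)) {r : ℕ}
    (e₀ : Matrix (Fin r) (Fin r) A)
    (θ θ' : Matrix (Fin r) (Fin r) Aab[X]) (h1 : θ * θ' = 1) (h2 : θ' * θ = 1)
    (h0 : θ.map κ₀ = 1) (hE : InE (((e₀.map ιa).map ja).map Polynomial.C) θ) :
    ∃ (θ₁ θ₁' : Matrix (Fin r) (Fin r) Aa[X]) (θ₂ θ₂' : Matrix (Fin r) (Fin r) Ab[X]),
      θ₁ * θ₁' = 1 ∧ θ₁' * θ₁ = 1 ∧ θ₂ * θ₂' = 1 ∧ θ₂' * θ₂ = 1 ∧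
      InE ((e₀.map ιa).map Polynomial.C) θ₁ ∧ InE ((e₀.map ιb).map Polynomial.C) θ₂ ∧
      θ = θ₂.map (Polynomial.mapRingHom jb) * θ₁.map (Polynomial.mapRingHom ja) := by
  have hjj : jb.comp ιb = ja.comp ιa := RingHom.ext fun x => (hcomm x).symm
  have hEb : (e₀.map ιb).map jb = (e₀.map ιa).map ja := by rw [mm, mm, hjj]
  have hE' : InE (((e₀.map ιa).map ja).map Polynomial.C) θ' := hE.inv h1 h2
  -- first scaling
  obtain ⟨N₁, α₁, α₁', h11, h12, -, hc1, hf1, hm1, hm1'⟩ :=
    scaling_lemma ha (e₀.map ιa) θ θ' h1 h2 h0 hE.comm hE.fix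
  -- second scaling
  obtain ⟨Θ, hΘdef⟩ : ∃ Θ : Matrix (Fin r) (Fin r) Aab[X][X],
    Θ = θ.map Polynomial.C * θ'.map sub1 := ⟨_, rfl⟩
  obtain ⟨Θ', hΘ'def⟩ : ∃ Θ' : Matrix (Fin r) (Fin r) Aab[X][X],
    Θ' = θ.map sub1 * θ'.map Polynomial.C := ⟨_, rfl⟩
  have hΘ1 : Θ * Θ' = 1 := by
    rw [hΘdef, hΘ'def, Matrix.mul_assoc, ← Matrix.mul_assoc (θ'.map sub1), ← Matrix.map_mul, h2,
      map_one', Matrix.one_mul, ← Matrix.map_mul, h1, map_one']
  have hΘ2 : Θ' * Θ = 1 := by
    rw [hΘdef, hΘ'def, Matrix.mul_assoc, ← Matrix.mul_assoc (θ'.map Polynomial.C),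
      ← Matrix.map_mul, h2, map_one', Matrix.one_mul, ← Matrix.map_mul, h1, map_one']
  have hΘ0 : Θ.map κ₀ = 1 := by
    rw [hΘdef, Matrix.map_mul, mm θ, mm θ', κ₀_comp_C, κ₀_comp_sub1, ← Matrix.map_mul, h1,
      map_one']
  have hs : ∀ M : Matrix (Fin r) (Fin r) Aab,
      (M.map Polynomial.C).map (sub1 (R := Aab)) =
        (M.map Polynomial.C).map (Polynomial.C : Aab[X] →+* Aab[X][X]) := fun M => by
    rw [mm, sub1_comp_C, ← mm]
  have hΘE : InE ((((e₀.map ιa).map ja).map Polynomial.C).map
      (Polynomial.C : Aab[X] →+* Aab[X][X])) Θ := by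
    rw [hΘdef]
    refine (hE.mapM Polynomial.C).mul ?_
    have := hE'.mapM (sub1 (R := Aab))
    rw [hs] at this
    exact this
  have hEC : ((e₀.map ιb).map Polynomial.C).map (Polynomial.mapRingHom jb) =
      ((e₀.map ιa).map ja).map Polynomial.C := by rw [map_const_map, hEb]
  obtain ⟨N₂, α₂, α₂', h21, h22, -, hc2, hf2, hm2, hm2'⟩ :=
    scaling_lemma hb.polynomial ((e₀.map ιb).map Polynomial.C) Θ Θ' hΘ1 hΘ2 hΘ0
      (by rw [hEC]; exact hΘE.comm) (by rw [hEC]; exact hΘE.fix)
  obtain ⟨g', g'', hg⟩ : IsCoprime (b ^ N₁) (a ^ N₂) := IsCoprime.pow hab.symm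
  have k1 : ∀ (M : Matrix (Fin r) (Fin r) Aab[X]) (f : Aab[X] →+* Aab[X][X]) (d y : Aab),
      ((M.map f).map (scale (Polynomial.C d : Aab[X]))).map
        (Polynomial.evalRingHom (Polynomial.C y : Aab[X])) =
      M.map ((Polynomial.evalRingHom (Polynomial.C y : Aab[X])).comp
        ((scale (Polynomial.C d : Aab[X])).comp f)) := fun M f d y =>
    Matrix.ext fun i j => rfl
  have e1 : (α₁.map (scale (ιa g'))).map (Polynomial.mapRingHom ja) =
      θ.map (scale (ja (ιa (b ^ N₁ * g')))) := by
    have hd : ja (ιa b) ^ N₁ * ja (ιa g') = ja (ιa (b ^ N₁ * g')) := by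
      simp only [map_mul, map_pow]
    rw [mm, map_comp_scale, ← mm, hm1, mm, scale_comp_scale, hd]
  have e2 : (α₂.map (Polynomial.evalRingHom (Polynomial.C (ιb g'') : Ab[X]))).map
      (Polynomial.mapRingHom jb) =
      θ * θ'.map (scale (1 - jb (ιb a) ^ N₂ * jb (ιb g''))) := by
    have hc1' : (Polynomial.mapRingHom jb) (Polynomial.C (ιb a)) ^ N₂ =
        Polynomial.C (jb (ιb a) ^ N₂) := by simp
    have hc2' : (Polynomial.mapRingHom jb) (Polynomial.C (ιb g'')) =
        Polynomial.C (jb (ιb g'')) := by simp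
    rw [mm, map_comp_eval, ← mm, hm2, hc1', hc2', hΘdef, Matrix.map_mul, Matrix.map_mul, k1, k1,
      eval_scale_C, eval_scale_sub1, map_id']
  have hd2 : 1 - jb (ιb a) ^ N₂ * jb (ιb g'') = ja (ιa (b ^ N₁ * g')) := by
    have : b ^ N₁ * g' = 1 - a ^ N₂ * g'' := by linear_combination hg
    rw [hcomm, this]
    simp only [map_sub, map_one, map_mul, map_pow]
  refine ⟨α₁.map (scale (ιa g')), α₁'.map (scale (ιa g')),
    α₂.map (Polynomial.evalRingHom (Polynomial.C (ιb g'') : Ab[X])),
    α₂'.map (Polynomial.evalRingHom (Polynomial.C (ιb g'') : Ab[X])), ?_, ?_, ?_, ?_, ?_, ?_, ?_⟩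
  · rw [← Matrix.map_mul, h11, map_one']
  · rw [← Matrix.map_mul, h12, map_one']
  · rw [← Matrix.map_mul, h21, map_one']
  · rw [← Matrix.map_mul, h22, map_one']
  · have := (InE.of_comm_fix hc1 hf1).mapM (scale (ιa g'))
    rw [map_const_scale] at this
    exact this
  · have := (InE.of_comm_fix hc2 hf2).mapM
      (Polynomial.evalRingHom (Polynomial.C (ιb g'') : Ab[X]))
    rw [mm ((e₀.map ιb).map Polynomial.C) Polynomial.C, eval_comp_C, map_id'] at this
    exact this
  · rw [e1, e2, hd2, Matrix.mul_assoc, ← Matrix.map_mul, h2, map_one', Matrix.mul_one]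

end core

end Groth.Agent.Lib.QPatchH4
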