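import Mathlib
import Groth.Agent.Lib.QPatchB_helper4

/-!
# Quillen patching, part C (helper4): extended idempotents, two-element patching, Quillen ideal
APPEND-ONLY once landed.
-/

set_option autoImplicit false
set_option linter.unusedVariables false
set_option linter.unusedTactic false
set_option linter.unreachableTactic false
set_option linter.unusedSectionVars false
set_option linter.style.haveILetI false
set_option linter.deprecated false
set_option linter.unusedSimpArgs false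
set_option linter.style.longLine false
set_option maxHeartbeats 1600000

universe u

noncomputable section

open Polynomial Matrix

namespace Groth.Agent.Lib.QPatchH4

/-- `u : im E → im ε` and `v : im ε → im E` are mutually inverse. -/
structure Ext6 {M : Type*} [Ring M] (ε E u v : M) : Prop where
  h1 : ε * u = u
  h2 : u * E = u
  h3 : E * v = v
  h4 : v * ε = v
  h5 : u * v = ε
  h6 : v * u = E

namespace Ext6

variable {M : Type*} [Ring M] {ε E u v ua va ub vb : M}

lemma idemE (h : Ext6 ε E u v) : E * E = E := by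
  obtain ⟨h1, h2, h3, h4, h5, h6⟩ := h
  linear_combination (norm := noncomm_ring) - E * h6 + h3 * u + h6

lemma map {M' : Type*} [Ring M'] (f : M →+* M') (h : Ext6 ε E u v) :
    Ext6 (f ε) (f E) (f u) (f v) where
  h1 := by rw [← map_mul, h.h1]
  h2 := by rw [← map_mul, h.h2]
  h3 := by rw [← map_mul, h.h3]
  h4 := by rw [← map_mul, h.h4]
  h5 := by rw [← map_mul, h.h5]
  h6 := by rw [← map_mul, h.h6]

lemma inv_pair (ha : Ext6 ε E ua va) (hb : Ext6 ε E ub vb) :
    (vb * ua + (1 - E)) * (va * ub + (1 - E)) = 1 := by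
  obtain ⟨a1, a2, a3, a4, a5, a6⟩ := ha
  obtain ⟨b1, b2, b3, b4, b5, b6⟩ := hb
  linear_combination (norm := noncomm_ring)
    vb * a5 * ub + vb * b1 + b6 - vb * a2 - a3 * ub - E * a6 + a3 * ua + a6

lemma left_mul (ha : Ext6 ε E ua va) (hb : Ext6 ε E ub vb) :
    ub * (vb * ua + (1 - E)) = ua := by
  obtain ⟨a1, a2, a3, a4, a5, a6⟩ := ha
  obtain ⟨b1, b2, b3, b4, b5, b6⟩ := hb
  linear_combination (norm := noncomm_ring) b5 * ua + a1 - b2

lemma right_mul (ha : Ext6 ε E ua va) (hb : Ext6 ε E ub vb) :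
    (vb * ua + (1 - E)) * va = vb := by
  obtain ⟨a1, a2, a3, a4, a5, a6⟩ := ha
  obtain ⟨b1, b2, b3, b4, b5, b6⟩ := hb
  linear_combination (norm := noncomm_ring) vb * a5 + b4 - a3

lemma inE (ha : Ext6 ε E ua va) (hb : Ext6 ε E ub vb) : InE E (vb * ua + (1 - E)) := by
  have hid := ha.idemE
  obtain ⟨a1, a2, a3, a4, a5, a6⟩ := ha
  obtain ⟨b1, b2, b3, b4, b5, b6⟩ := hb
  constructor
  · linear_combination (norm := noncomm_ring) b3 * ua - hid
  · linear_combination (norm := noncomm_ring) vb * a2 - hid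

lemma conj {t t' : M} (h : Ext6 ε E u v) (tt' : t * t' = 1) (t't : t' * t = 1)
    (hc : t * E = E * t) (hc' : t' * E = E * t') : Ext6 ε E (u * t') (t * v) where
  h1 := by rw [← mul_assoc, h.h1]
  h2 := by rw [mul_assoc, hc', ← mul_assoc, h.h2]
  h3 := by rw [← mul_assoc, ← hc, mul_assoc, h.h3]
  h4 := by rw [mul_assoc, h.h4]
  h5 := by rw [mul_assoc, ← mul_assoc t', t't, one_mul, h.h5]
  h6 := by rw [mul_assoc, ← mul_assoc v, h.h6, ← mul_assoc, hc, mul_assoc, tt', mul_one]

lemma normalize {u0 v0 : M} (h : Ext6 ε E u v) (h0 : Ext6 E E u0 v0) :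
    Ext6 ε E (u * v0) (u0 * v) where
  h1 := by rw [← mul_assoc, h.h1]
  h2 := by rw [mul_assoc, h0.h4]
  h3 := by rw [← mul_assoc, h0.h1]
  h4 := by rw [mul_assoc, h.h4]
  h5 := by rw [mul_assoc, ← mul_assoc v0, h0.h6, h.h3, h.h5]
  h6 := by rw [mul_assoc, ← mul_assoc v, h.h6, h0.h3, h0.h5]

lemma of_two (hε : ε * ε = ε) (hE : E * E = E) (huv : u * v = ε) (hvu : v * u = E) :
    Ext6 ε E (ε * u * E) (E * v * ε) where
  h1 := by linear_combination (norm := noncomm_ring) hε * u * E
  h2 := by linear_combination (norm := noncomm_ring) ε * u * hE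
  h3 := by linear_combination (norm := noncomm_ring) hE * v * ε
  h4 := by linear_combination (norm := noncomm_ring) E * v * hε
  h5 := by
    linear_combination (norm := noncomm_ring) ε * u * hE * v * ε - ε * u * hvu * v * ε +
      ε * huv * (u * v) * ε + ε * ε * huv * ε + hε * ε * ε + hε * ε + hε
  h6 := by
    linear_combination (norm := noncomm_ring) E * v * hε * u * E - E * v * huv * u * E +
      E * hvu * (v * u) * E + E * E * hvu * E + hE * E * E + hE * E + hE

end Ext6

section IsExt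

variable {R : Type u} [CommRing R] {R' : Type u} [CommRing R'] {r : ℕ}

/-- the idempotent matrix `ε` over `R[X]` defines an extended module. -/
def IsExt (ε : Matrix (Fin r) (Fin r) R[X]) : Prop :=
  ∃ u v : Matrix (Fin r) (Fin r) R[X], Ext6 ε (ε.map κ₀) u v

lemma κ₀_comp_κ₀ : (κ₀ (S := R)).comp κ₀ = κ₀ := by
  refine Polynomial.ringHom_ext (fun a => ?_) ?_
  · simp
  · simp

lemma map_κ₀_map (f : R →+* R') {m n : Type*} (ε : Matrix m n R[X]) :
    (ε.map (Polynomial.mapRingHom f)).map κ₀ = (ε.map κ₀).map (Polynomial.mapRingHom f) := by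
  rw [mm, mm, map_comp_κ₀]

lemma map_map_κ₀_eq (f : R →+* R') {m n : Type*} (ε : Matrix m n R[X]) :
    (ε.map (Polynomial.mapRingHom f)).map κ₀ =
      ((ε.map (Polynomial.evalRingHom 0)).map f).map Polynomial.C := by
  refine Matrix.ext fun i j => ?_
  simp only [Matrix.map_apply, κ₀, RingHom.comp_apply, Polynomial.coe_mapRingHom,
    Polynomial.coe_evalRingHom, Polynomial.eval_zero_map]

lemma IsExt.map (f : R →+* R') {ε : Matrix (Fin r) (Fin r) R[X]} (h : IsExt ε) :
    IsExt (ε.map (Polynomial.mapRingHom f)) := by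
  obtain ⟨u, v, h⟩ := h
  refine ⟨u.map (Polynomial.mapRingHom f), v.map (Polynomial.mapRingHom f), ?_⟩
  rw [map_κ₀_map]
  exact h.map (RingHom.mapMatrix (Polynomial.mapRingHom f))

lemma IsExt.map_comp {R'' : Type u} [CommRing R''] (f : R →+* R') (g : R' →+* R'')
    (ε : Matrix (Fin r) (Fin r) R[X]) (h : IsExt (ε.map (Polynomial.mapRingHom f))) :
    IsExt (ε.map (Polynomial.mapRingHom (g.comp f))) := by
  have := h.map g
  rwa [mm, Polynomial.mapRingHom_comp] at this

lemma IsExt.normalize {ε : Matrix (Fin r) (Fin r) R[X]} (h : IsExt ε) :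
    ∃ u v : Matrix (Fin r) (Fin r) R[X], Ext6 ε (ε.map κ₀) u v ∧ u.map κ₀ = ε.map κ₀ ∧
      v.map κ₀ = ε.map κ₀ := by
  obtain ⟨u, v, h⟩ := h
  have hk : ∀ M : Matrix (Fin r) (Fin r) R[X], (M.map κ₀).map κ₀ = M.map κ₀ := fun M => by
    rw [mm, κ₀_comp_κ₀]
  have h0 : Ext6 (ε.map κ₀) (ε.map κ₀) (u.map κ₀) (v.map κ₀) := by
    have := h.map (RingHom.mapMatrix (κ₀ (S := R)))
    simp only [RingHom.mapMatrix_apply, hk] at this
    exact this
  refine ⟨u * v.map κ₀, u.map κ₀ * v, h.normalize h0, ?_, ?_⟩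
  · rw [Matrix.map_mul, hk, h0.h5]
  · rw [Matrix.map_mul, hk, h0.h5]

lemma IsExt.of_split {κ : Type*} [Fintype κ] [DecidableEq κ] {ε : Matrix (Fin r) (Fin r) R[X]}
    (u : Matrix (Fin r) κ R[X]) (v : Matrix κ (Fin r) R[X]) (huv : u * v = ε) (hvu : v * u = 1) :
    IsExt ε := by
  have hvu0 : v.map κ₀ * u.map κ₀ = 1 := by
    rw [← Matrix.map_mul, hvu, Matrix.map_one _ (map_zero _) (map_one _)]
  have huv0 : u.map κ₀ * v.map κ₀ = ε.map κ₀ := by rw [← Matrix.map_mul, huv]
  refine ⟨u * v.map κ₀, u.map κ₀ * v, ?_, ?_, ?_, ?_, ?_, ?_⟩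
  · rw [← huv, Matrix.mul_assoc u v, ← Matrix.mul_assoc v u, hvu, Matrix.one_mul]
  · rw [← huv0, Matrix.mul_assoc u, ← Matrix.mul_assoc (v.map κ₀), hvu0, Matrix.one_mul]
  · rw [← huv0, Matrix.mul_assoc (u.map κ₀), ← Matrix.mul_assoc (v.map κ₀), hvu0, Matrix.one_mul]
  · rw [← huv, Matrix.mul_assoc (u.map κ₀), ← Matrix.mul_assoc v, hvu, Matrix.one_mul]
  · rw [Matrix.mul_assoc u, ← Matrix.mul_assoc (v.map κ₀), hvu0, Matrix.one_mul, huv]
  · rw [Matrix.mul_assoc (u.map κ₀), ← Matrix.mul_assoc v, hvu, Matrix.one_mul, huv0]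

lemma IsExt.of_two {ε : Matrix (Fin r) (Fin r) R[X]} (hε : ε * ε = ε)
    (u v : Matrix (Fin r) (Fin r) R[X]) (huv : u * v = ε) (hvu : v * u = ε.map κ₀) : IsExt ε := by
  have hE : ε.map κ₀ * ε.map κ₀ = ε.map κ₀ := by rw [← Matrix.map_mul, hε]
  exact ⟨_, _, Ext6.of_two hε hE huv hvu⟩

lemma IsExt.of_subsingleton [Subsingleton R] (ε : Matrix (Fin r) (Fin r) R[X]) : IsExt ε := by
  haveI : Subsingleton (Matrix (Fin r) (Fin r) R[X]) :=
    ⟨fun M N => Matrix.ext fun i j => Polynomial.ext fun n => Subsingleton.elim _ _⟩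
  exact ⟨0, 0, ⟨Subsingleton.elim _ _, Subsingleton.elim _ _, Subsingleton.elim _ _,
    Subsingleton.elim _ _, Subsingleton.elim _ _, Subsingleton.elim _ _⟩⟩

end IsExt

section patch

/-- **Two-element patching**. -/
theorem patch_two {A Aa Ab Aab : Type u} [CommRing A] [CommRing Aa] [CommRing Ab] [CommRing Aab]
    {ιa : A →+* Aa} {ιb : A →+* Ab} {ja : Aa →+* Aab} {jb : Ab →+* Aab}
    (sq : GlueSq ιa ιb ja jb) {a b : A} (hab : IsCoprime a b)
    (ha : IsLocAt ja (ιa b)) (hb : IsLocAt jb (ιb a)) {r : ℕ}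
    (ε : Matrix (Fin r) (Fin r) A[X])
    (hA : IsExt (ε.map (Polynomial.mapRingHom ιa)))
    (hB : IsExt (ε.map (Polynomial.mapRingHom ιb))) : IsExt ε := by
  obtain ⟨ua, va, hXa, hua0, hva0⟩ := hA.normalize
  obtain ⟨ub, vb, hXb, hub0, hvb0⟩ := hB.normalize
  obtain ⟨e₀, he₀⟩ : ∃ e₀ : Matrix (Fin r) (Fin r) A, e₀ = ε.map (Polynomial.evalRingHom 0) :=
    ⟨_, rfl⟩
  have hEa : (ε.map (Polynomial.mapRingHom ιa)).map κ₀ = (e₀.map ιa).map Polynomial.C := by
    rw [he₀]; exact map_map_κ₀_eq ιa ε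
  have hEb : (ε.map (Polynomial.mapRingHom ιb)).map κ₀ = (e₀.map ιb).map Polynomial.C := by
    rw [he₀]; exact map_map_κ₀_eq ιb ε
  have hjj : jb.comp ιb = ja.comp ιa := RingHom.ext fun x => (sq.comm x).symm
  -- everything over `Aab[X]`
  obtain ⟨εab, hεab⟩ : ∃ εab : Matrix (Fin r) (Fin r) Aab[X],
    εab = (ε.map (Polynomial.mapRingHom ιa)).map (Polynomial.mapRingHom ja) := ⟨_, rfl⟩
  have hεab' : (ε.map (Polynomial.mapRingHom ιb)).map (Polynomial.mapRingHom jb) = εab := by
    rw [hεab, mm, mm, Polynomial.mapRingHom_comp, Polynomial.mapRingHom_comp, hjj]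
  obtain ⟨Eab, hEab⟩ : ∃ Eab : Matrix (Fin r) (Fin r) Aab[X],
    Eab = ((e₀.map ιa).map ja).map Polynomial.C := ⟨_, rfl⟩
  have hEab1 : ((e₀.map ιa).map Polynomial.C).map (Polynomial.mapRingHom ja) = Eab := by
    rw [hEab, map_const_map]
  have hEb' : (e₀.map ιb).map jb = (e₀.map ιa).map ja := by rw [mm, mm, hjj]
  have hEab2 : ((e₀.map ιb).map Polynomial.C).map (Polynomial.mapRingHom jb) = Eab := by
    rw [hEab, map_const_map, hEb']
  obtain ⟨Ua, hUa⟩ : ∃ Ua, Ua = ua.map (Polynomial.mapRingHom ja) := ⟨_, rfl⟩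
  obtain ⟨Va, hVa⟩ : ∃ Va, Va = va.map (Polynomial.mapRingHom ja) := ⟨_, rfl⟩
  obtain ⟨Ub, hUb⟩ : ∃ Ub, Ub = ub.map (Polynomial.mapRingHom jb) := ⟨_, rfl⟩
  obtain ⟨Vb, hVb⟩ : ∃ Vb, Vb = vb.map (Polynomial.mapRingHom jb) := ⟨_, rfl⟩
  have HA : Ext6 εab Eab Ua Va := by
    have := hXa.map (RingHom.mapMatrix (Polynomial.mapRingHom ja))
    simp only [RingHom.mapMatrix_apply] at this
    rw [hEa, hEab1, ← hεab, ← hUa, ← hVa] at this
    exact this
  have HB : Ext6 εab Eab Ub Vb := by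
    have := hXb.map (RingHom.mapMatrix (Polynomial.mapRingHom jb))
    simp only [RingHom.mapMatrix_apply] at this
    rw [hEb, hEab2, hεab', ← hUb, ← hVb] at this
    exact this
  have hUa0 : Ua.map κ₀ = Eab := by rw [hUa, map_κ₀_map, hua0, hEa, hEab1]
  have hVb0 : Vb.map κ₀ = Eab := by rw [hVb, map_κ₀_map, hvb0, hEb, hEab2]
  have hEab0 : Eab.map κ₀ = Eab := by rw [hEab, map_const_κ₀]
  obtain ⟨φ, hφdef⟩ : ∃ φ, φ = Vb * Ua + (1 - Eab) := ⟨_, rfl⟩
  obtain ⟨φ', hφ'def⟩ : ∃ φ', φ' = Va * Ub + (1 - Eab) := ⟨_, rfl⟩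
  have hφ1 : φ * φ' = 1 := by rw [hφdef, hφ'def]; exact Ext6.inv_pair HA HB
  have hφ2 : φ' * φ = 1 := by rw [hφdef, hφ'def]; exact Ext6.inv_pair HB HA
  have hφ0 : φ.map κ₀ = 1 := by
    rw [hφdef, Matrix.map_add κ₀ (map_add κ₀), Matrix.map_mul, map_sub', map_one', hVb0, hUa0,
      hEab0, HA.idemE, add_sub_cancel]
  have hφE : InE Eab φ := by rw [hφdef]; exact Ext6.inE HA HB
  have HL : Ub * φ = Ua := by rw [hφdef]; exact Ext6.left_mul HA HB
  have HR : φ * Va = Vb := by rw [hφdef]; exact Ext6.right_mul HA HB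
  rw [hEab] at hφE
  obtain ⟨θ₁, θ₁', θ₂, θ₂', h11, h12, h21, h22, hI1, hI2, hfac⟩ :=
    core_factor sq.comm hab ha hb e₀ φ φ' hφ1 hφ2 hφ0 hφE
  have hI1' : InE ((e₀.map ιa).map Polynomial.C) θ₁' := hI1.inv h11 h12
  have hI2' : InE ((e₀.map ιb).map Polynomial.C) θ₂' := hI2.inv h21 h22
  have HA' : Ext6 (ε.map (Polynomial.mapRingHom ιa)) ((ε.map (Polynomial.mapRingHom ιa)).map κ₀)
      (ua * θ₁') (θ₁ * va) := by
    refine hXa.conj h11 h12 ?_ ?_
    · rw [hEa]; exact hI1.comm
    · rw [hEa]; exact hI1'.comm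
  have HB' : Ext6 (ε.map (Polynomial.mapRingHom ιb)) ((ε.map (Polynomial.mapRingHom ιb)).map κ₀)
      (ub * θ₂) (θ₂' * vb) := by
    refine hXb.conj h22 h21 ?_ ?_
    · rw [hEb]; exact hI2'.comm
    · rw [hEb]; exact hI2.comm
  obtain ⟨T1, hT1def⟩ : ∃ T1, T1 = θ₁.map (Polynomial.mapRingHom ja) := ⟨_, rfl⟩
  obtain ⟨T1', hT1'def⟩ : ∃ T1', T1' = θ₁'.map (Polynomial.mapRingHom ja) := ⟨_, rfl⟩
  obtain ⟨T2, hT2def⟩ : ∃ T2, T2 = θ₂.map (Polynomial.mapRingHom jb) := ⟨_, rfl⟩
  obtain ⟨T2', hT2'def⟩ : ∃ T2', T2' = θ₂'.map (Polynomial.mapRingHom jb) := ⟨_, rfl⟩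
  have hT1 : T1 * T1' = 1 := by rw [hT1def, hT1'def, ← Matrix.map_mul, h11, map_one']
  have hT2' : T2' * T2 = 1 := by rw [hT2def, hT2'def, ← Matrix.map_mul, h22, map_one']
  rw [← hT1def, ← hT2def] at hfac
  have hU : (ua * θ₁').map (Polynomial.mapRingHom ja) =
      (ub * θ₂).map (Polynomial.mapRingHom jb) := by
    rw [Matrix.map_mul, Matrix.map_mul, ← hUa, ← hUb, ← hT1'def, ← hT2def, ← HL, hfac,
      Matrix.mul_assoc, Matrix.mul_assoc, hT1, Matrix.mul_one]
  have hV : (θ₁ * va).map (Polynomial.mapRingHom ja) =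
      (θ₂' * vb).map (Polynomial.mapRingHom jb) := by
    rw [Matrix.map_mul, Matrix.map_mul, ← hVa, ← hVb, ← hT1def, ← hT2'def, ← HR, hfac,
      ← Matrix.mul_assoc, ← Matrix.mul_assoc, hT2', Matrix.one_mul]
  obtain ⟨U, hUa', hUb'⟩ := sq.polynomial.matrix_glue _ _ hU
  obtain ⟨V, hVa', hVb'⟩ := sq.polynomial.matrix_glue _ _ hV
  have key : ∀ X Y : Matrix (Fin r) (Fin r) A[X],
      X.map (Polynomial.mapRingHom ιa) = Y.map (Polynomial.mapRingHom ιa) →
      X.map (Polynomial.mapRingHom ιb) = Y.map (Polynomial.mapRingHom ιb) → X = Y :=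
    fun X Y h1 h2 => sq.polynomial.matrix_inj h1 h2
  refine ⟨U, V, ⟨key _ _ ?_ ?_, key _ _ ?_ ?_, key _ _ ?_ ?_, key _ _ ?_ ?_, key _ _ ?_ ?_,
    key _ _ ?_ ?_⟩⟩
  · rw [Matrix.map_mul, hUa']; exact HA'.h1
  · rw [Matrix.map_mul, hUb']; exact HB'.h1
  · rw [Matrix.map_mul, hUa', ← map_κ₀_map]; exact HA'.h2
  · rw [Matrix.map_mul, hUb', ← map_κ₀_map]; exact HB'.h2
  · rw [Matrix.map_mul, hVa', ← map_κ₀_map]; exact HA'.h3
  · rw [Matrix.map_mul, hVb', ← map_κ₀_map]; exact HB'.h3
  · rw [Matrix.map_mul, hVa']; exact HA'.h4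
  · rw [Matrix.map_mul, hVb']; exact HB'.h4
  · rw [Matrix.map_mul, hUa', hVa']; exact HA'.h5
  · rw [Matrix.map_mul, hUb', hVb']; exact HB'.h5
  · rw [Matrix.map_mul, hUa', hVa', ← map_κ₀_map]; exact HA'.h6
  · rw [Matrix.map_mul, hUb', hVb', ← map_κ₀_map]; exact HB'.h6

/-- two-element patching for honest localisations. -/
theorem patch_two_away {B : Type u} [CommRing B] (a b : B) (hab : IsCoprime a b) {r : ℕ}
    (ε : Matrix (Fin r) (Fin r) B[X])
    (hA : IsExt (ε.map (Polynomial.mapRingHom (algebraMap B (Localization.Away a)))))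
    (hB : IsExt (ε.map (Polynomial.mapRingHom (algebraMap B (Localization.Away b))))) :
    IsExt ε := by
  have hu : IsUnit (algebraMap B (Localization.Away (a * b)) a *
      algebraMap B (Localization.Away (a * b)) b) := by
    rw [← map_mul]; exact IsLocalization.Away.algebraMap_isUnit (a * b)
  have hua : IsUnit (algebraMap B (Localization.Away (a * b)) a) := isUnit_of_mul_isUnit_left hu
  have hub : IsUnit (algebraMap B (Localization.Away (a * b)) b) := isUnit_of_mul_isUnit_right hu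
  obtain ⟨ja, hjadef⟩ : ∃ ja : Localization.Away a →+* Localization.Away (a * b),
    ja = IsLocalization.Away.lift a hua := ⟨_, rfl⟩
  obtain ⟨jb, hjbdef⟩ : ∃ jb : Localization.Away b →+* Localization.Away (a * b),
    jb = IsLocalization.Away.lift b hub := ⟨_, rfl⟩
  have hja : ∀ x, ja (algebraMap B (Localization.Away a) x) =
      algebraMap B (Localization.Away (a * b)) x := fun x => by
    rw [hjadef]; exact IsLocalization.Away.lift_eq a hua x
  have hjb : ∀ x, jb (algebraMap B (Localization.Away b) x) =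
      algebraMap B (Localization.Away (a * b)) x := fun x => by
    rw [hjbdef]; exact IsLocalization.Away.lift_eq b hub x
  have sq := glueSq_of_away a b hab ja jb hja hjb
  have ha := isLocAt_of_away a b (a * b) rfl ja hja
  have hb := isLocAt_of_away b a (a * b) (mul_comm a b) jb hjb
  exact patch_two sq hab ha hb ε hA hB

end patch

section quillen

variable {A : Type u} [CommRing A] {r : ℕ}

/-- the **Quillen ideal** of an idempotent matrix over `A[X]`. -/
def QIdeal (ε : Matrix (Fin r) (Fin r) A[X]) : Ideal A where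
  carrier := {a | IsExt (ε.map (Polynomial.mapRingHom (algebraMap A (Localization.Away a))))}
  zero_mem' := by
    haveI : Subsingleton (Localization.Away (0 : A)) :=
      IsLocalization.subsingleton (M := Submonoid.powers (0 : A)) ⟨1, pow_one 0⟩
    exact IsExt.of_subsingleton _
  add_mem' := by
    intro a b ha hb
    show IsExt _
    have hu : IsUnit (algebraMap A (Localization.Away (a + b)) a +
        algebraMap A (Localization.Away (a + b)) b) := by
      rw [← map_add]; exact IsLocalization.Away.algebraMap_isUnit (a + b)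
    have hcop : IsCoprime (algebraMap A (Localization.Away (a + b)) a)
        (algebraMap A (Localization.Away (a + b)) b) := by
      obtain ⟨w, hw⟩ := hu.exists_left_inv
      exact ⟨w, w, by rw [← mul_add, hw]⟩
    refine patch_two_away _ _ hcop _ ?_ ?_
    · have hunit : IsUnit (((algebraMap (Localization.Away (a + b))
          (Localization.Away (algebraMap A (Localization.Away (a + b)) a))).comp
          (algebraMap A (Localization.Away (a + b)))) a) := by
        rw [RingHom.comp_apply]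
        exact IsLocalization.Away.algebraMap_isUnit (algebraMap A (Localization.Away (a + b)) a)
      have := IsExt.map_comp (algebraMap A (Localization.Away a))
        (IsLocalization.Away.lift (S := Localization.Away a) a hunit) ε ha
      rw [IsLocalization.Away.lift_comp, ← Polynomial.mapRingHom_comp, ← mm] at this
      exact this
    · have hunit : IsUnit (((algebraMap (Localization.Away (a + b))
          (Localization.Away (algebraMap A (Localization.Away (a + b)) b))).comp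
          (algebraMap A (Localization.Away (a + b)))) b) := by
        rw [RingHom.comp_apply]
        exact IsLocalization.Away.algebraMap_isUnit (algebraMap A (Localization.Away (a + b)) b)
      have := IsExt.map_comp (algebraMap A (Localization.Away b))
        (IsLocalization.Away.lift (S := Localization.Away b) b hunit) ε hb
      rw [IsLocalization.Away.lift_comp, ← Polynomial.mapRingHom_comp, ← mm] at this
      exact this
  smul_mem' := by
    intro c a ha
    show IsExt _
    rw [smul_eq_mul]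
    have hu : IsUnit (algebraMap A (Localization.Away (c * a)) c *
        algebraMap A (Localization.Away (c * a)) a) := by
      rw [← map_mul]; exact IsLocalization.Away.algebraMap_isUnit (c * a)
    have hunit : IsUnit ((algebraMap A (Localization.Away (c * a))) a) :=
      isUnit_of_mul_isUnit_right hu
    have := IsExt.map_comp (algebraMap A (Localization.Away a))
      (IsLocalization.Away.lift (S := Localization.Away a) a hunit) ε ha
    rw [IsLocalization.Away.lift_comp] at this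
    exact this

lemma mem_QIdeal {ε : Matrix (Fin r) (Fin r) A[X]} {a : A} :
    a ∈ QIdeal ε ↔
      IsExt (ε.map (Polynomial.mapRingHom (algebraMap A (Localization.Away a)))) := Iff.rfl

/-- **Quillen's local–global principle**, ideal form. -/
theorem isExt_of_forall_maximal (ε : Matrix (Fin r) (Fin r) A[X])
    (h : ∀ m : Ideal A, m.IsMaximal → ∃ a, a ∉ m ∧ a ∈ QIdeal ε) : IsExt ε := by
  have htop : QIdeal ε = ⊤ := by
    by_contra hne
    obtain ⟨m, hm, hle⟩ := Ideal.exists_le_maximal _ hne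
    obtain ⟨a, ha, haQ⟩ := h m hm
    exact ha (hle haQ)
  have h1 : (1 : A) ∈ QIdeal ε := by rw [htop]; trivial
  rw [mem_QIdeal] at h1
  have hunit : IsUnit ((RingHom.id A) 1) := isUnit_one
  have := IsExt.map_comp (algebraMap A (Localization.Away (1 : A)))
    (IsLocalization.Away.lift (S := Localization.Away (1 : A)) (1 : A) hunit) ε h1
  rw [IsLocalization.Away.lift_comp, Polynomial.mapRingHom_id, map_id'] at this
  exact this

end quillen

end Groth.Agent.Lib.QPatchH4
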