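import Mathlib
import Groth.Agent.Lib.QPatchC_helper4

/-!
# Quillen patching, part D (helper4): spreading out from a local ring, local-global principle
APPEND-ONLY once landed.
-/

set_option autoImplicit false
set_option linter.unusedVariables false
set_option linter.unusedTactic false
set_option linter.unreachableTactic false
set_option linter.unusedSectionVars false
set_option linter.style.haveILetI false
set_option linter.deprecated false
set_option linter.unusedSimpArgs false
set_option linter.style.longLine false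
set_option maxHeartbeats 1600000

universe u v

noncomputable section

open Polynomial Matrix

namespace Groth.Agent.Lib.QPatchH4

/-- `ι : S → S'` behaves like the localisation of `S` at the submonoid `M`. -/
structure IsLocSub {S : Type u} {S' : Type v} [CommRing S] [CommRing S'] (ι : S →+* S')
    (M : Submonoid S) : Prop where
  surj : ∀ x : S', ∃ s ∈ M, ∃ y : S, ι s * x = ι y
  ker : ∀ y : S, ι y = 0 → ∃ s ∈ M, s * y = 0

namespace IsLocSub

variable {S : Type u} {S' : Type v} [CommRing S] [CommRing S'] {ι : S →+* S'} {M : Submonoid S}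

lemma of_isLocalization (M : Submonoid S) [Algebra S S'] [IsLocalization M S'] :
    IsLocSub (algebraMap S S') M where
  surj x := by
    obtain ⟨⟨y, s⟩, h⟩ := IsLocalization.surj M x
    exact ⟨s, s.2, y, by rw [mul_comm]; exact h⟩
  ker y hy := by
    obtain ⟨c, hc⟩ := (IsLocalization.map_eq_zero_iff M S' y).1 hy
    exact ⟨c, c.2, hc⟩

lemma exists_common (h : IsLocSub ι M) {κ : Type*} [Finite κ] (f : κ → S') :
    ∃ s ∈ M, ∃ g : κ → S, ∀ k, ι s * f k = ι (g k) := by
  classical
  cases nonempty_fintype κ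
  choose s hs g hg using fun k => h.surj (f k)
  refine ⟨∏ k, s k, Submonoid.prod_mem _ (fun k _ => hs k),
    fun k => (∏ j ∈ Finset.univ.erase k, s j) * g k, fun k => ?_⟩
  rw [map_mul, ← hg k, ← mul_assoc, ← map_mul, Finset.prod_erase_mul _ _ (Finset.mem_univ k)]

lemma exists_common_ker (h : IsLocSub ι M) {κ : Type*} [Finite κ] (g : κ → S)
    (hg : ∀ k, ι (g k) = 0) : ∃ s ∈ M, ∀ k, s * g k = 0 := by
  classical
  cases nonempty_fintype κ
  choose s hs hsg using fun k => h.ker (g k) (hg k)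
  refine ⟨∏ k, s k, Submonoid.prod_mem _ (fun k _ => hs k), fun k => ?_⟩
  rw [← Finset.prod_erase_mul _ _ (Finset.mem_univ k), mul_assoc, hsg k, mul_zero]

lemma polynomial (h : IsLocSub ι M) :
    IsLocSub (Polynomial.mapRingHom ι) (M.map (Polynomial.C : S →+* S[X])) where
  surj p := by
    obtain ⟨s, hs, g, hg⟩ := h.exists_common (fun i : Fin (p.natDegree + 1) => p.coeff i)
    refine ⟨Polynomial.C s, Submonoid.mem_map_of_mem _ hs,
      ∑ i : Fin (p.natDegree + 1), Polynomial.monomial (i : ℕ) (g i), ?_⟩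
    rw [Polynomial.coe_mapRingHom, Polynomial.map_C]
    refine Polynomial.ext fun m => ?_
    rw [Polynomial.coeff_C_mul, Polynomial.coeff_map, Polynomial.finset_sum_coeff, map_sum]
    by_cases hm : m < p.natDegree + 1
    · rw [Finset.sum_eq_single (⟨m, hm⟩ : Fin (p.natDegree + 1))]
      · rw [Polynomial.coeff_monomial, if_pos rfl, ← hg ⟨m, hm⟩]
      · intro b _ hb
        rw [Polynomial.coeff_monomial, if_neg, map_zero]
        intro h'
        exact hb (Fin.ext h')
      · intro h'; exact absurd (Finset.mem_univ _) h'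
    · rw [Polynomial.coeff_eq_zero_of_natDegree_lt (by omega), mul_zero]
      symm
      refine Finset.sum_eq_zero fun b _ => ?_
      rw [Polynomial.coeff_monomial, if_neg, map_zero]
      intro h'
      exact hm (h' ▸ b.2)
  ker y hy := by
    have h0 : ∀ i : Fin (y.natDegree + 1), ι (y.coeff i) = 0 := by
      intro i
      have := congrArg (fun q => Polynomial.coeff q (i : ℕ)) hy
      simpa [Polynomial.coeff_map] using this
    obtain ⟨s, hs, hn⟩ := h.exists_common_ker (fun i : Fin (y.natDegree + 1) => y.coeff i) h0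
    refine ⟨Polynomial.C s, Submonoid.mem_map_of_mem _ hs, ?_⟩
    refine Polynomial.ext fun m => ?_
    rw [Polynomial.coeff_C_mul, Polynomial.coeff_zero]
    by_cases hm : m < y.natDegree + 1
    · exact hn ⟨m, hm⟩
    · rw [Polynomial.coeff_eq_zero_of_natDegree_lt (by omega), mul_zero]

lemma exists_matrix (h : IsLocSub ι M) {m n : Type*} [Finite m] [Finite n] (Mx : Matrix m n S') :
    ∃ s ∈ M, ∃ G : Matrix m n S, G.map ι = ι s • Mx := by
  obtain ⟨s, hs, g, hg⟩ := h.exists_common (fun p : m × n => Mx p.1 p.2)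
  refine ⟨s, hs, Matrix.of fun i j => g (i, j), ?_⟩
  refine Matrix.ext fun i j => ?_
  rw [Matrix.map_apply, Matrix.smul_apply, smul_eq_mul, Matrix.of_apply]
  exact (hg (i, j)).symm

lemma exists_matrix_ker (h : IsLocSub ι M) {m n : Type*} [Finite m] [Finite n] (G : Matrix m n S)
    (hG : G.map ι = 0) : ∃ s ∈ M, s • G = 0 := by
  obtain ⟨s, hs, hN⟩ := h.exists_common_ker (fun p : m × n => G p.1 p.2) (fun p => by
    have := congrFun (congrFun hG p.1) p.2
    simpa using this)
  refine ⟨s, hs, Matrix.ext fun i j => ?_⟩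
  rw [Matrix.smul_apply, smul_eq_mul]
  exact hN (i, j)

end IsLocSub

lemma map_smul' {R₁ R₂ : Type*} [CommRing R₁] [CommRing R₂] {m n : Type*} (f : R₁ →+* R₂)
    (c : R₁) (M : Matrix m n R₁) : (c • M).map f = f c • M.map f := by
  refine Matrix.ext fun i j => ?_
  simp

/-- spreading out an extension datum from a localisation. -/
theorem spread {A Am : Type u} [CommRing A] [CommRing Am] {ι : A →+* Am} {M : Submonoid A}
    (h : IsLocSub ι M) {r : ℕ} (ε : Matrix (Fin r) (Fin r) A[X])
    (hext : IsExt (ε.map (Polynomial.mapRingHom ι))) :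
    ∃ a ∈ M, ∃ U V : Matrix (Fin r) (Fin r) A[X],
      U * V = Polynomial.C (a ^ 2) • ε ∧ V * U = Polynomial.C (a ^ 2) • ε.map κ₀ := by
  obtain ⟨u, v, hx⟩ := hext
  have hp := h.polynomial
  have hc : ∀ x : A, (Polynomial.mapRingHom ι) (Polynomial.C x) = Polynomial.C (ι x) :=
    fun x => by simp
  obtain ⟨s₁', hs₁', U₀, hU₀⟩ := hp.exists_matrix u
  obtain ⟨s₁, hs₁, rfl⟩ := Submonoid.mem_map.1 hs₁'
  obtain ⟨s₂', hs₂', V₀, hV₀⟩ := hp.exists_matrix v
  obtain ⟨s₂, hs₂, rfl⟩ := Submonoid.mem_map.1 hs₂'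
  obtain ⟨s, hs⟩ : ∃ s, s = s₁ * s₂ := ⟨_, rfl⟩
  have hsM : s ∈ M := by rw [hs]; exact mul_mem hs₁ hs₂
  obtain ⟨U₁, hU₁def⟩ : ∃ U₁, U₁ = Polynomial.C s₂ • U₀ := ⟨_, rfl⟩
  obtain ⟨V₁, hV₁def⟩ : ∃ V₁, V₁ = Polynomial.C s₁ • V₀ := ⟨_, rfl⟩
  have hU₁ : U₁.map (Polynomial.mapRingHom ι) = Polynomial.C (ι s) • u := by
    rw [hU₁def, map_smul', hU₀, smul_smul, hs, hc, hc, ← Polynomial.C_mul, ← map_mul,
      mul_comm s₂ s₁]
  have hV₁ : V₁.map (Polynomial.mapRingHom ι) = Polynomial.C (ι s) • v := by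
    rw [hV₁def, map_smul', hV₀, smul_smul, hs, hc, hc, ← Polynomial.C_mul, ← map_mul]
  have hss : Polynomial.C (ι s) * Polynomial.C (ι s) = Polynomial.C (ι (s ^ 2)) := by
    rw [← Polynomial.C_mul, ← map_mul, ← pow_two]
  have hD5 : (U₁ * V₁ - Polynomial.C (s ^ 2) • ε).map (Polynomial.mapRingHom ι) = 0 := by
    rw [map_sub', Matrix.map_mul, hU₁, hV₁, map_smul', Matrix.smul_mul, Matrix.mul_smul,
      smul_smul, hx.h5, hc, hss, sub_self]
  have hD6 : (V₁ * U₁ - Polynomial.C (s ^ 2) • ε.map κ₀).map (Polynomial.mapRingHom ι) = 0 := by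
    rw [map_sub', Matrix.map_mul, hU₁, hV₁, map_smul', Matrix.smul_mul, Matrix.mul_smul,
      smul_smul, hx.h6, hc, hss, map_κ₀_map, sub_self]
  obtain ⟨t₅', ht₅', hk5⟩ := hp.exists_matrix_ker _ hD5
  obtain ⟨t₅, ht₅, rfl⟩ := Submonoid.mem_map.1 ht₅'
  obtain ⟨t₆', ht₆', hk6⟩ := hp.exists_matrix_ker _ hD6
  obtain ⟨t₆, ht₆, rfl⟩ := Submonoid.mem_map.1 ht₆'
  have e5 : Polynomial.C t₅ • (U₁ * V₁) = Polynomial.C t₅ • (Polynomial.C (s ^ 2) • ε) := by
    rw [smul_sub, sub_eq_zero] at hk5; exact hk5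
  have e6 : Polynomial.C t₆ • (V₁ * U₁) =
      Polynomial.C t₆ • (Polynomial.C (s ^ 2) • ε.map κ₀) := by
    rw [smul_sub, sub_eq_zero] at hk6; exact hk6
  refine ⟨t₅ * t₆ * s, mul_mem (mul_mem ht₅ ht₆) hsM, Polynomial.C (t₅ * t₆) • U₁,
    Polynomial.C (t₅ * t₆) • V₁, ?_, ?_⟩
  · rw [Matrix.smul_mul, Matrix.mul_smul, smul_smul]
    have e : (Polynomial.C (t₅ * t₆) * Polynomial.C (t₅ * t₆) : A[X]) =
        (Polynomial.C (t₅ * t₆) * Polynomial.C t₆) * Polynomial.C t₅ := by
      simp only [map_mul]; ring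
    rw [e, mul_smul, e5, smul_smul, smul_smul]
    congr 1
    simp only [map_mul, map_pow]; ring
  · rw [Matrix.smul_mul, Matrix.mul_smul, smul_smul]
    have e : (Polynomial.C (t₅ * t₆) * Polynomial.C (t₅ * t₆) : A[X]) =
        (Polynomial.C (t₅ * t₆) * Polynomial.C t₅) * Polynomial.C t₆ := by
      simp only [map_mul]; ring
    rw [e, mul_smul, e6, smul_smul, smul_smul]
    congr 1
    simp only [map_mul, map_pow]; ring

/-- an extension datum up to the scalar `a²` gives `a ∈ QIdeal`. -/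
theorem mem_QIdeal_of_scaled {A : Type u} [CommRing A] {r : ℕ} (ε : Matrix (Fin r) (Fin r) A[X])
    (hε : ε * ε = ε) (a : A) (U V : Matrix (Fin r) (Fin r) A[X])
    (h1 : U * V = Polynomial.C (a ^ 2) • ε) (h2 : V * U = Polynomial.C (a ^ 2) • ε.map κ₀) :
    a ∈ QIdeal ε := by
  rw [mem_QIdeal]
  obtain ⟨w, hw⟩ : ∃ w : Localization.Away a, w = IsLocalization.Away.invSelf a := ⟨_, rfl⟩
  have hw1 : algebraMap A (Localization.Away a) a * w = 1 := by
    rw [hw]; exact IsLocalization.Away.mul_invSelf a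
  have hcw : Polynomial.C w * Polynomial.C w *
      (Polynomial.mapRingHom (algebraMap A (Localization.Away a))) (Polynomial.C (a ^ 2)) = 1 := by
    rw [Polynomial.coe_mapRingHom, Polynomial.map_C, ← Polynomial.C_mul, ← Polynomial.C_mul,
      map_pow]
    have : w * w * (algebraMap A (Localization.Away a)) a ^ 2 = 1 := by
      calc w * w * (algebraMap A (Localization.Away a)) a ^ 2
          = ((algebraMap A (Localization.Away a)) a * w) ^ 2 := by ring
        _ = 1 := by rw [hw1, one_pow]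
    rw [this, Polynomial.C_1]
  refine IsExt.of_two (by rw [← Matrix.map_mul, hε])
    (Polynomial.C w • U.map (Polynomial.mapRingHom (algebraMap A (Localization.Away a))))
    (Polynomial.C w • V.map (Polynomial.mapRingHom (algebraMap A (Localization.Away a)))) ?_ ?_
  · rw [Matrix.smul_mul, Matrix.mul_smul, smul_smul, ← Matrix.map_mul, h1, map_smul', smul_smul,
      hcw, one_smul]
  · rw [Matrix.smul_mul, Matrix.mul_smul, smul_smul, ← Matrix.map_mul, h2, map_smul', smul_smul,
      hcw, one_smul, map_κ₀_map]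

/-- **Quillen's local–global principle**. -/
theorem isExt_of_local {A : Type u} [CommRing A] {r : ℕ} (ε : Matrix (Fin r) (Fin r) A[X])
    (hε : ε * ε = ε)
    (h : ∀ (m : Ideal A) [m.IsMaximal],
      IsExt (ε.map (Polynomial.mapRingHom (algebraMap A (Localization.AtPrime m))))) :
    IsExt ε := by
  refine isExt_of_forall_maximal ε (fun m hm => ?_)
  haveI := hm
  obtain ⟨a, ha, U, V, h1, h2⟩ :=
    spread (IsLocSub.of_isLocalization (S' := Localization.AtPrime m) m.primeCompl) ε (h m)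
  exact ⟨a, ha, mem_QIdeal_of_scaled ε hε a U V h1 h2⟩

end Groth.Agent.Lib.QPatchH4
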