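import Mathlib
import Groth.Agent.Lib.HorrD_helper4
import Groth.Agent.Lib.QPatchD_helper4

/-!
# Affine Horrocks, part E (helper4): global Horrocks for matrix models, and the matrix model
of a pair of projective modules glued over `A[T;T⁻¹]`
APPEND-ONLY once landed.
-/

set_option autoImplicit false
set_option linter.unusedVariables false
set_option linter.unusedTactic false
set_option linter.unreachableTactic false
set_option linter.unusedSectionVars false
set_option linter.style.haveILetI false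
set_option linter.deprecated false
set_option linter.unusedSimpArgs false
set_option linter.style.longLine false
set_option maxHeartbeats 1600000

universe u

noncomputable section

open Polynomial LaurentPolynomial Matrix TensorProduct

namespace Groth.Agent.Lib.HorrocksH4

variable {A : Type u} [CommRing A]

/-- **Affine Horrocks (matrix form)**: the idempotent of the affine chart of a matrix model of a
vector bundle on `P¹_A` is extended from `A`. -/
theorem horrocks_isExt {r r' : ℕ} (D : PData A r r') : QPatchH4.IsExt D.ε := by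
  refine QPatchH4.isExt_of_local D.ε D.hε (fun m _ => ?_)
  obtain ⟨κ, _, _, u, v, huv, hvu⟩ :=
    local_horrocks (D.map (algebraMap A (Localization.AtPrime m)))
  exact QPatchH4.IsExt.of_split u v huv hvu

section modules

variable {M : Type*} [AddCommGroup M] [Module A[X] M] {r : ℕ}

/-- the image of the `j`-th basis vector in `L ⊗ M`. -/
def bvec (p : (Fin r → A[X]) →ₗ[A[X]] M) (j : Fin r) : A[T;T⁻¹] ⊗[A[X]] M :=
  (1 : A[T;T⁻¹]) ⊗ₜ[A[X]] p (Pi.single j 1)

/-- the `j`-th coordinate functional on `L ⊗ M`. -/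
def coord (i : M →ₗ[A[X]] (Fin r → A[X])) (j : Fin r) :
    A[T;T⁻¹] ⊗[A[X]] M →ₗ[A[T;T⁻¹]] A[T;T⁻¹] :=
  LinearMap.liftBaseChange A[T;T⁻¹]
    ((Algebra.linearMap A[X] A[T;T⁻¹]) ∘ₗ (LinearMap.proj j) ∘ₗ i)

lemma coord_tmul (i : M →ₗ[A[X]] (Fin r → A[X])) (j : Fin r) (y : A[T;T⁻¹]) (m : M) :
    coord i j (y ⊗ₜ m) = y * σp (i m j) := by
  rw [coord, LinearMap.liftBaseChange_tmul]
  rfl

lemma coord_bvec (p : (Fin r → A[X]) →ₗ[A[X]] M) (i : M →ₗ[A[X]] (Fin r → A[X])) (k j : Fin r) :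
    coord i k (bvec p j) = σp (LinearMap.toMatrix' (i ∘ₗ p) k j) := by
  rw [bvec, coord_tmul, one_mul, LinearMap.toMatrix'_apply]
  rfl

lemma decomp (p : (Fin r → A[X]) →ₗ[A[X]] M) (i : M →ₗ[A[X]] (Fin r → A[X]))
    (h : p ∘ₗ i = LinearMap.id) (x : A[T;T⁻¹] ⊗[A[X]] M) :
    x = ∑ j, coord i j x • bvec p j := by
  induction x using TensorProduct.induction_on with
  | zero => simp
  | tmul y m =>
    have hm : m = ∑ j, (i m j) • p (Pi.single j 1) := by
      have h1 : p (i m) = m := LinearMap.congr_fun h m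
      conv_lhs => rw [← h1, pi_eq_sum_univ' (i m), map_sum]
      refine Finset.sum_congr rfl fun j _ => ?_
      rw [map_smul]
    have key : ∀ j, coord i j (y ⊗ₜ[A[X]] m) • bvec p j =
        y ⊗ₜ[A[X]] ((i m j) • p (Pi.single j 1)) := by
      intro j
      have hal : (algebraMap A[X] A[T;T⁻¹]) (i m j) = σp (i m j) := rfl
      rw [coord_tmul, bvec, TensorProduct.smul_tmul', smul_eq_mul, mul_one,
        TensorProduct.tmul_smul, TensorProduct.smul_tmul', Algebra.smul_def, hal, mul_comm]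
    rw [Finset.sum_congr rfl (fun j _ => key j), ← TensorProduct.tmul_sum, ← hm]
  | add x y hx hy =>
    simp only [map_add, add_smul, Finset.sum_add_distrib]
    rw [← hx, ← hy]

lemma coord_eq_sum (p : (Fin r → A[X]) →ₗ[A[X]] M) (i : M →ₗ[A[X]] (Fin r → A[X]))
    (h : p ∘ₗ i = LinearMap.id) (k : Fin r) (x : A[T;T⁻¹] ⊗[A[X]] M) :
    coord i k x = ∑ l, coord i l x * σp (LinearMap.toMatrix' (i ∘ₗ p) k l) := by
  conv_lhs => rw [decomp p i h x, map_sum]
  refine Finset.sum_congr rfl fun l _ => ?_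
  rw [map_smul, smul_eq_mul, coord_bvec]

lemma bvec_eq_sum (p : (Fin r → A[X]) →ₗ[A[X]] M) (i : M →ₗ[A[X]] (Fin r → A[X]))
    (h : p ∘ₗ i = LinearMap.id) (j : Fin r) :
    bvec p j = ∑ l, σp (LinearMap.toMatrix' (i ∘ₗ p) l j) • bvec p l := by
  conv_lhs => rw [decomp p i h (bvec p j)]
  refine Finset.sum_congr rfl fun l _ => ?_
  rw [coord_bvec]

lemma toMatrix'_idem (p : (Fin r → A[X]) →ₗ[A[X]] M) (i : M →ₗ[A[X]] (Fin r → A[X]))
    (h : p ∘ₗ i = LinearMap.id) :
    LinearMap.toMatrix' (i ∘ₗ p) * LinearMap.toMatrix' (i ∘ₗ p) = LinearMap.toMatrix' (i ∘ₗ p) := by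
  have hpi : ∀ m, p (i m) = m := fun m => LinearMap.congr_fun h m
  rw [← LinearMap.toMatrix'_comp]
  congr 1
  refine LinearMap.ext fun x => ?_
  simp only [LinearMap.comp_apply, hpi]

end modules

section pdata

variable {M N : Type*} [AddCommGroup M] [Module A[X] M] [AddCommGroup N] [Module A[X] N]
  {r r' : ℕ}

lemma e_sum_smul (e : (A[T;T⁻¹] ⊗[A[X]] M) →ₛₗ[ivt (A := A)] (A[T;T⁻¹] ⊗[A[X]] N))
    {κ : Type*} (s : Finset κ) (c : κ → A[T;T⁻¹]) (x : κ → A[T;T⁻¹] ⊗[A[X]] M) :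
    e (∑ l ∈ s, c l • x l) = ∑ l ∈ s, ivt (c l) • e (x l) := by
  rw [map_sum]
  refine Finset.sum_congr rfl fun l _ => ?_
  rw [map_smulₛₗ]

lemma g_sum_smul (e : (A[T;T⁻¹] ⊗[A[X]] M) →ₛₗ[ivt (A := A)] (A[T;T⁻¹] ⊗[A[X]] N))
    (g : A[T;T⁻¹] ⊗[A[X]] N → A[T;T⁻¹] ⊗[A[X]] M) (hge : ∀ x, g (e x) = x)
    (heg : ∀ y, e (g y) = y)
    {κ : Type*} (s : Finset κ) (c : κ → A[T;T⁻¹]) (y : κ → A[T;T⁻¹] ⊗[A[X]] N) :
    g (∑ l ∈ s, c l • y l) = ∑ l ∈ s, ivt (c l) • g (y l) := by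
  have : e (∑ l ∈ s, ivt (c l) • g (y l)) = ∑ l ∈ s, c l • y l := by
    rw [e_sum_smul]
    refine Finset.sum_congr rfl fun l _ => ?_
    rw [ivt_ivt, heg]
  rw [← this, hge]

/-- the matrix model of two projective modules glued over `A[T;T⁻¹]`. -/
theorem exists_pdata (pM : (Fin r → A[X]) →ₗ[A[X]] M) (iM : M →ₗ[A[X]] (Fin r → A[X]))
    (hM : pM ∘ₗ iM = LinearMap.id)
    (pN : (Fin r' → A[X]) →ₗ[A[X]] N) (iN : N →ₗ[A[X]] (Fin r' → A[X]))
    (hN : pN ∘ₗ iN = LinearMap.id)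
    (e : (A[T;T⁻¹] ⊗[A[X]] M) →ₛₗ[ivt (A := A)] (A[T;T⁻¹] ⊗[A[X]] N))
    (g : A[T;T⁻¹] ⊗[A[X]] N → A[T;T⁻¹] ⊗[A[X]] M) (hge : ∀ x, g (e x) = x)
    (heg : ∀ y, e (g y) = y) :
    ∃ D : PData A r r', D.ε = LinearMap.toMatrix' (iM ∘ₗ pM) := by
  refine ⟨⟨LinearMap.toMatrix' (iM ∘ₗ pM), LinearMap.toMatrix' (iN ∘ₗ pN),
    Matrix.of fun k j => ivt (coord iN k (e (bvec pM j))),
    Matrix.of fun j k => coord iM j (g (bvec pN k)),
    toMatrix'_idem pM iM hM, toMatrix'_idem pN iN hN, ?_, ?_, ?_, ?_, ?_, ?_⟩, rfl⟩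
  · refine Matrix.ext fun k j => ?_
    rw [Matrix.mul_apply]
    simp only [Matrix.map_apply, Matrix.of_apply]
    conv_rhs => rw [bvec_eq_sum pM iM hM j, e_sum_smul, map_sum, map_sum]
    refine Finset.sum_congr rfl fun l _ => ?_
    rw [map_smul, smul_eq_mul, map_mul, ivt_ivt, mul_comm]
  · refine Matrix.ext fun k j => ?_
    rw [Matrix.mul_apply]
    simp only [Matrix.map_apply, Matrix.of_apply]
    conv_rhs => rw [coord_eq_sum pN iN hN k, map_sum]
    refine Finset.sum_congr rfl fun l _ => ?_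
    rw [map_mul, ivt_σp, mul_comm]
  · refine Matrix.ext fun j k => ?_
    rw [Matrix.mul_apply]
    simp only [Matrix.map_apply, Matrix.of_apply]
    conv_rhs => rw [coord_eq_sum pM iM hM j]
    refine Finset.sum_congr rfl fun l _ => ?_
    rw [mul_comm]
  · refine Matrix.ext fun j k => ?_
    rw [Matrix.mul_apply]
    simp only [Matrix.map_apply, Matrix.of_apply]
    conv_rhs => rw [bvec_eq_sum pN iN hN k, g_sum_smul e g hge heg, map_sum]
    refine Finset.sum_congr rfl fun l _ => ?_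
    rw [map_smul, smul_eq_mul, ivt_σp, mul_comm]
  · refine Matrix.ext fun j j' => ?_
    rw [Matrix.mul_apply]
    simp only [Matrix.map_apply, Matrix.of_apply]
    rw [← coord_bvec pM iM j j']
    conv_rhs => rw [← hge (bvec pM j'), decomp pN iN hN (e (bvec pM j')),
      g_sum_smul e g hge heg, map_sum]
    refine Finset.sum_congr rfl fun k _ => ?_
    rw [map_smul, smul_eq_mul, mul_comm]
  · refine Matrix.ext fun k k' => ?_
    rw [Matrix.mul_apply]
    simp only [Matrix.map_apply, Matrix.of_apply]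
    rw [← ivt_σp, ← coord_bvec pN iN k k']
    conv_rhs => rw [← heg (bvec pN k'), decomp pM iM hM (g (bvec pN k')), e_sum_smul, map_sum,
      map_sum]
    refine Finset.sum_congr rfl fun j _ => ?_
    rw [map_smul, smul_eq_mul, map_mul, ivt_ivt, mul_comm]

end pdata

end Groth.Agent.Lib.HorrocksH4
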