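import Mathlib
import Groth.Agent.Lib.HorrE_helper4

/-!
# Affine Horrocks, part F (helper4): from an extended idempotent to an extended module, and the
final equivalence
APPEND-ONLY once landed.
-/

set_option autoImplicit false
set_option linter.unusedVariables false
set_option linter.unusedTactic false
set_option linter.unreachableTactic false
set_option linter.unusedSectionVars false
set_option linter.style.haveILetI false
set_option linter.deprecated false
set_option linter.unusedSimpArgs false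
set_option linter.style.longLine false
set_option maxHeartbeats 1600000

universe u

noncomputable section

open Polynomial LaurentPolynomial Matrix TensorProduct

namespace Groth.Agent.Lib.HorrocksH4

variable {A : Type u} [CommRing A]

section retractP

variable {r : ℕ} (e₀ : Matrix (Fin r) (Fin r) A)

/-- the image of the idempotent `e₀`. -/
def Pmod : Submodule A (Fin r → A) := LinearMap.range (Matrix.toLin' e₀)

/-- the projection onto the image. -/
def πP : (Fin r → A) →ₗ[A] Pmod e₀ := (Matrix.toLin' e₀).rangeRestrict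

lemma πP_comp_subtype (he : e₀ * e₀ = e₀) : πP e₀ ∘ₗ (Pmod e₀).subtype = LinearMap.id := by
  refine LinearMap.ext fun x => Subtype.ext ?_
  obtain ⟨y, hy⟩ := x.2
  show Matrix.toLin' e₀ (x : Fin r → A) = x
  rw [← hy, ← LinearMap.comp_apply, ← Matrix.toLin'_mul, he]

/-- `A[X] ⊗ P → A[X]^r`. -/
def i2 : A[X] ⊗[A] (Pmod e₀) →ₗ[A[X]] (Fin r → A[X]) :=
  (TensorProduct.piScalarRight A A[X] A[X] (Fin r)).toLinearMap ∘ₗ
    ((Pmod e₀).subtype.baseChange A[X])

/-- `A[X]^r → A[X] ⊗ P`. -/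
def p2 : (Fin r → A[X]) →ₗ[A[X]] A[X] ⊗[A] (Pmod e₀) :=
  ((πP e₀).baseChange A[X]) ∘ₗ
    (TensorProduct.piScalarRight A A[X] A[X] (Fin r)).symm.toLinearMap

lemma p2_i2 (he : e₀ * e₀ = e₀) (x : A[X] ⊗[A] (Pmod e₀)) : p2 e₀ (i2 e₀ x) = x := by
  show ((πP e₀).baseChange A[X]) ((TensorProduct.piScalarRight A A[X] A[X] (Fin r)).symm
    ((TensorProduct.piScalarRight A A[X] A[X] (Fin r))
      (((Pmod e₀).subtype.baseChange A[X]) x))) = x
  rw [LinearEquiv.symm_apply_apply, ← LinearMap.comp_apply, ← LinearMap.baseChange_comp,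
    πP_comp_subtype e₀ he, LinearMap.baseChange_id]
  rfl

lemma i2_p2 (x : Fin r → A[X]) : i2 e₀ (p2 e₀ x) = (e₀.map Polynomial.C) *ᵥ x := by
  have h : i2 e₀ ∘ₗ p2 e₀ = Matrix.toLin' (e₀.map Polynomial.C) := by
    refine LinearMap.pi_ext fun j c => ?_
    show (TensorProduct.piScalarRight A A[X] A[X] (Fin r))
      (((Pmod e₀).subtype.baseChange A[X]) (((πP e₀).baseChange A[X])
        ((TensorProduct.piScalarRight A A[X] A[X] (Fin r)).symm (Pi.single j c)))) =
      (e₀.map Polynomial.C) *ᵥ Pi.single j c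
    rw [TensorProduct.piScalarRight_symm_single, LinearMap.baseChange_tmul,
      LinearMap.baseChange_tmul, TensorProduct.piScalarRight_apply,
      TensorProduct.piScalarRightHom_tmul]
    funext k
    show ((Matrix.toLin' e₀) (Pi.single j 1)) k • c = _
    rw [Matrix.toLin'_apply, Matrix.mulVec_single_one, Matrix.mulVec_single]
    simp [Polynomial.smul_eq_C_mul, mul_comm]
  exact LinearMap.congr_fun h x

end retractP

/-- an extended idempotent gives an extended module. -/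
theorem exists_iso_of_isExt {M : Type u} [AddCommGroup M] [Module A[X] M] {r : ℕ}
    (pM : (Fin r → A[X]) →ₗ[A[X]] M) (iM : M →ₗ[A[X]] (Fin r → A[X]))
    (hM : pM ∘ₗ iM = LinearMap.id)
    (hext : QPatchH4.IsExt (LinearMap.toMatrix' (iM ∘ₗ pM))) :
    ∃ (P : Type u) (_ : AddCommGroup P) (_ : Module A P),
      Nonempty (M ≃ₗ[A[X]] (A[X] ⊗[A] P)) := by
  obtain ⟨u, v, hx⟩ := hext
  obtain ⟨ε, hεdef⟩ : ∃ ε : Matrix (Fin r) (Fin r) A[X], ε = LinearMap.toMatrix' (iM ∘ₗ pM) :=
    ⟨_, rfl⟩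
  rw [← hεdef] at hx
  obtain ⟨e₀, he₀⟩ : ∃ e₀ : Matrix (Fin r) (Fin r) A, e₀ = ε.map (Polynomial.evalRingHom 0) :=
    ⟨_, rfl⟩
  have hE : ε.map QPatchH4.κ₀ = e₀.map Polynomial.C := by
    rw [he₀, QPatchH4.mm]; rfl
  rw [hE] at hx
  have hpi : ∀ m, pM (iM m) = m := fun m => LinearMap.congr_fun hM m
  have hεε : ε * ε = ε := by rw [hεdef]; exact toMatrix'_idem pM iM hM
  have he₀id : e₀ * e₀ = e₀ := by rw [he₀, ← Matrix.map_mul, hεε]
  have hεv : ∀ x, ε *ᵥ x = iM (pM x) := fun x => by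
    rw [hεdef]; exact LinearMap.toMatrix'_mulVec _ _
  refine ⟨Pmod e₀, inferInstance, inferInstance,
    ⟨LinearEquiv.ofLinearMap (p2 e₀ ∘ₗ Matrix.toLin' v ∘ₗ iM)
      (pM ∘ₗ Matrix.toLin' u ∘ₗ i2 e₀) ?_ ?_⟩⟩
  · refine LinearMap.ext fun x => ?_
    show p2 e₀ (v *ᵥ iM (pM (u *ᵥ i2 e₀ x))) = x
    have h1 : v *ᵥ iM (pM (u *ᵥ i2 e₀ x)) = (e₀.map Polynomial.C) *ᵥ (i2 e₀ x) := by
      rw [← hεv, Matrix.mulVec_mulVec, Matrix.mulVec_mulVec, hx.h4, hx.h6]
    rw [h1, ← i2_p2, p2_i2 e₀ he₀id, p2_i2 e₀ he₀id]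
  · refine LinearMap.ext fun x => ?_
    show pM (u *ᵥ i2 e₀ (p2 e₀ (v *ᵥ iM x))) = x
    rw [i2_p2, Matrix.mulVec_mulVec, Matrix.mulVec_mulVec, hx.h2, hx.h5, hεv, hpi, hpi]

section forward

/-- the tower `A → A[X] → A[T;T⁻¹]`. -/
lemma isScalarTower_laurent : IsScalarTower A A[X] A[T;T⁻¹] :=
  IsScalarTower.of_algebraMap_eq fun a => (Polynomial.toLaurent_C a).symm

/-- an extended module extends to the projective line. -/
theorem exists_gluing_of_extended (M : Type u) [AddCommGroup M] [Module A[X] M]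
    (P : Type u) [AddCommGroup P] [Module A P] (eqv : M ≃ₗ[A[X]] (A[X] ⊗[A] P)) :
    ∃ e : (A[T;T⁻¹] ⊗[A[X]] M) →ₛₗ[(LaurentPolynomial.invert (R := A)).toRingEquiv.toRingHom]
      (A[T;T⁻¹] ⊗[A[X]] M), Function.Bijective e := by
  haveI := isScalarTower_laurent (A := A)
  obtain ⟨Φ, -⟩ : ∃ Φ : A[T;T⁻¹] ⊗[A[X]] M ≃ₗ[A[T;T⁻¹]] A[T;T⁻¹] ⊗[A] P, Φ = Φ :=
    ⟨(TensorProduct.AlgebraTensorModule.congr (LinearEquiv.refl A[T;T⁻¹] A[T;T⁻¹]) eqv) ≪≫ₗ
      (TensorProduct.AlgebraTensorModule.cancelBaseChange A A[X] A[T;T⁻¹] A[T;T⁻¹] P), rfl⟩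
  obtain ⟨J, hJdef⟩ : ∃ J : A[T;T⁻¹] ⊗[A] P →ₗ[A] A[T;T⁻¹] ⊗[A] P,
    J = LinearMap.rTensor P (LaurentPolynomial.invert (R := A)).toLinearMap := ⟨_, rfl⟩
  have hJt : ∀ (l : A[T;T⁻¹]) (p : P), J (l ⊗ₜ[A] p) = LaurentPolynomial.invert l ⊗ₜ[A] p := by
    intro l p; rw [hJdef]; rfl
  have hJ : ∀ (a : A[T;T⁻¹]) (x : A[T;T⁻¹] ⊗[A] P),
      J (a • x) = LaurentPolynomial.invert a • J x := by
    intro a x
    induction x using TensorProduct.induction_on with
    | zero => simp
    | tmul l p =>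
      rw [TensorProduct.smul_tmul', smul_eq_mul, hJt, hJt, map_mul, TensorProduct.smul_tmul',
        smul_eq_mul]
    | add x y hx hy => rw [smul_add, map_add, hx, hy, map_add, smul_add]
  have hJJ : ∀ x : A[T;T⁻¹] ⊗[A] P, J (J x) = x := by
    intro x
    induction x using TensorProduct.induction_on with
    | zero => simp
    | tmul l p => rw [hJt, hJt, LaurentPolynomial.involutive_invert l]
    | add x y hx hy => rw [map_add, map_add, hx, hy]
  refine ⟨{ toFun := fun x => Φ.symm (J (Φ x))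
            map_add' := fun x y => by simp only [map_add]
            map_smul' := fun a x => ?_ }, ?_⟩
  · show Φ.symm (J (Φ (a • x))) = LaurentPolynomial.invert a • Φ.symm (J (Φ x))
    rw [map_smul, hJ, map_smul]
  · refine Function.Involutive.bijective fun x => ?_
    show Φ.symm (J (Φ (Φ.symm (J (Φ x))))) = x
    rw [LinearEquiv.apply_symm_apply, hJJ, LinearEquiv.symm_apply_apply]

end forward

/-- **Horrocks' theorem, affine form, over an arbitrary commutative ring**. -/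
theorem horrocks_iff (A : Type u) [CommRing A] (M : Type u) [AddCommGroup M] [Module A[X] M]
    [Module.Finite A[X] M] [Module.Projective A[X] M] :
    (∃ (P : Type u) (_ : AddCommGroup P) (_ : Module A P),
        Nonempty (M ≃ₗ[A[X]] (A[X] ⊗[A] P))) ↔
      ∃ (N : Type u) (_ : AddCommGroup N) (_ : Module A[X] N),
        Module.Finite A[X] N ∧ Module.Projective A[X] N ∧
        ∃ e : (A[T;T⁻¹] ⊗[A[X]] M) →ₛₗ[(LaurentPolynomial.invert (R := A)).toRingEquiv.toRingHom]
            (A[T;T⁻¹] ⊗[A[X]] N), Function.Bijective e := by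
  constructor
  · rintro ⟨P, _, _, ⟨eqv⟩⟩
    exact ⟨M, inferInstance, inferInstance, inferInstance, inferInstance,
      exists_gluing_of_extended M P eqv⟩
  · rintro ⟨N, _, _, _, _, e, he⟩
    obtain ⟨r, pM, iM, -, -, hM⟩ := Module.Finite.exists_comp_eq_id_of_projective A[X] M
    obtain ⟨r', pN, iN, -, -, hN⟩ := Module.Finite.exists_comp_eq_id_of_projective A[X] N
    obtain ⟨D, hD⟩ := exists_pdata pM iM hM pN iN hN e (Equiv.ofBijective e he).symm
      (fun x => (Equiv.ofBijective e he).symm_apply_apply x)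
      (fun y => (Equiv.ofBijective e he).apply_symm_apply y)
    have hext := horrocks_isExt D
    rw [hD] at hext
    exact exists_iso_of_isExt pM iM hM hext

end Groth.Agent.Lib.HorrocksH4
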