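import Mathlib
import Groth.Agent.Lib.HorrF_helper4

/-!
# Affine Horrocks, part G (helper4): finiteness/projectivity of the descended module, local
freeness of extended modules
APPEND-ONLY once landed.
-/

set_option autoImplicit false
set_option linter.unusedVariables false
set_option linter.unusedTactic false
set_option linter.unreachableTactic false
set_option linter.unusedSectionVars false
set_option linter.style.haveILetI false
set_option linter.deprecated false
set_option linter.unusedSimpArgs false
set_option linter.style.longLine false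
set_option maxHeartbeats 1600000

universe u

noncomputable section

open Polynomial LaurentPolynomial Matrix TensorProduct

namespace Groth.Agent.Lib.HorrocksH4

variable {A : Type u} [CommRing A]

section

variable {r : ℕ} (e₀ : Matrix (Fin r) (Fin r) A)

lemma Pmod_finite : Module.Finite A (Pmod e₀) := by
  unfold Pmod; infer_instance

lemma Pmod_projective (he : e₀ * e₀ = e₀) : Module.Projective A (Pmod e₀) :=
  Module.Projective.of_split (Pmod e₀).subtype (πP e₀) (πP_comp_subtype e₀ he)

end

/-- an extended idempotent gives an extended module, with a finite projective descent. -/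
theorem exists_iso_of_isExt' {M : Type u} [AddCommGroup M] [Module A[X] M] {r : ℕ}
    (pM : (Fin r → A[X]) →ₗ[A[X]] M) (iM : M →ₗ[A[X]] (Fin r → A[X]))
    (hM : pM ∘ₗ iM = LinearMap.id)
    (hext : QPatchH4.IsExt (LinearMap.toMatrix' (iM ∘ₗ pM))) :
    ∃ (P : Type u) (_ : AddCommGroup P) (_ : Module A P),
      Module.Finite A P ∧ Module.Projective A P ∧ Nonempty (M ≃ₗ[A[X]] (A[X] ⊗[A] P)) := by
  obtain ⟨u, v, hx⟩ := hext
  obtain ⟨ε, hεdef⟩ : ∃ ε : Matrix (Fin r) (Fin r) A[X], ε = LinearMap.toMatrix' (iM ∘ₗ pM) :=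
    ⟨_, rfl⟩
  rw [← hεdef] at hx
  obtain ⟨e₀, he₀⟩ : ∃ e₀ : Matrix (Fin r) (Fin r) A, e₀ = ε.map (Polynomial.evalRingHom 0) :=
    ⟨_, rfl⟩
  have hE : ε.map QPatchH4.κ₀ = e₀.map Polynomial.C := by
    rw [he₀, QPatchH4.mm]; rfl
  rw [hE] at hx
  have hpi : ∀ m, pM (iM m) = m := fun m => LinearMap.congr_fun hM m
  have hεε : ε * ε = ε := by rw [hεdef]; exact toMatrix'_idem pM iM hM
  have he₀id : e₀ * e₀ = e₀ := by rw [he₀, ← Matrix.map_mul, hεε]
  have hεv : ∀ x, ε *ᵥ x = iM (pM x) := fun x => by
    rw [hεdef]; exact LinearMap.toMatrix'_mulVec _ _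
  refine ⟨Pmod e₀, inferInstance, inferInstance, Pmod_finite e₀, Pmod_projective e₀ he₀id,
    ⟨LinearEquiv.ofLinearMap (p2 e₀ ∘ₗ Matrix.toLin' v ∘ₗ iM)
      (pM ∘ₗ Matrix.toLin' u ∘ₗ i2 e₀) ?_ ?_⟩⟩
  · refine LinearMap.ext fun x => ?_
    show p2 e₀ (v *ᵥ iM (pM (u *ᵥ i2 e₀ x))) = x
    have h1 : v *ᵥ iM (pM (u *ᵥ i2 e₀ x)) = (e₀.map Polynomial.C) *ᵥ (i2 e₀ x) := by
      rw [← hεv, Matrix.mulVec_mulVec, Matrix.mulVec_mulVec, hx.h4, hx.h6]
    rw [h1, ← i2_p2, p2_i2 e₀ he₀id, p2_i2 e₀ he₀id]
  · refine LinearMap.ext fun x => ?_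
    show pM (u *ᵥ i2 e₀ (p2 e₀ (v *ᵥ iM x))) = x
    rw [i2_p2, Matrix.mulVec_mulVec, Matrix.mulVec_mulVec, hx.h2, hx.h5, hεv, hpi, hpi]

/-- **Horrocks**: a finite projective `A[X]`-module which extends to `P¹_A` is extended from a
finite projective `A`-module. -/
theorem horrocks_extended_fp (A : Type u) [CommRing A] (M : Type u) [AddCommGroup M]
    [Module A[X] M] [Module.Finite A[X] M] [Module.Projective A[X] M]
    (N : Type u) [AddCommGroup N] [Module A[X] N] [Module.Finite A[X] N]
    [Module.Projective A[X] N]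
    (e : (A[T;T⁻¹] ⊗[A[X]] M) →ₛₗ[(LaurentPolynomial.invert (R := A)).toRingEquiv.toRingHom]
      (A[T;T⁻¹] ⊗[A[X]] N)) (he : Function.Bijective e) :
    ∃ (P : Type u) (_ : AddCommGroup P) (_ : Module A P),
      Module.Finite A P ∧ Module.Projective A P ∧ Nonempty (M ≃ₗ[A[X]] (A[X] ⊗[A] P)) := by
  obtain ⟨r, pM, iM, -, -, hM⟩ := Module.Finite.exists_comp_eq_id_of_projective A[X] M
  obtain ⟨r', pN, iN, -, -, hN⟩ := Module.Finite.exists_comp_eq_id_of_projective A[X] N
  obtain ⟨D, hD⟩ := exists_pdata pM iM hM pN iN hN e (Equiv.ofBijective e he).symm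
    (fun x => (Equiv.ofBijective e he).symm_apply_apply x)
    (fun y => (Equiv.ofBijective e he).apply_symm_apply y)
  have hext := horrocks_isExt D
  rw [hD] at hext
  exact exists_iso_of_isExt' pM iM hM hext

section free

/-- if `(P₀)_g` is free over `R_g` then `T ⊗ P₀` is free over any `R`-algebra `T` in which `g`
is invertible. -/
lemma free_of_tower {R : Type u} {T : Type u} [CommRing R] [CommRing T] [Algebra R T] (g : R)
    (hg : IsUnit (algebraMap R T g)) (P₀ : Type u) [AddCommGroup P₀] [Module R P₀]
    [Module.Free (Localization.Away g) (LocalizedModule (Submonoid.powers g) P₀)] :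
    Module.Free T (T ⊗[R] P₀) := by
  letI : Algebra (Localization.Away g) T :=
    (IsLocalization.Away.lift (S := Localization.Away g) g hg).toAlgebra
  haveI : IsScalarTower R (Localization.Away g) T :=
    IsScalarTower.of_algebraMap_eq (fun x =>
      (IsLocalization.Away.lift_eq (S := Localization.Away g) g hg x).symm)
  haveI : Module.Free (Localization.Away g) (Localization.Away g ⊗[R] P₀) :=
    Module.Free.of_equiv (LocalizedModule.equivTensorProduct (Submonoid.powers g) P₀)
  haveI : Module.Free T (T ⊗[Localization.Away g] (Localization.Away g ⊗[R] P₀)) :=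
    inferInstance
  exact Module.Free.of_equiv
    (TensorProduct.AlgebraTensorModule.cancelBaseChange R (Localization.Away g) T T P₀)

lemma free_localizedModule_of_extended {R : Type u} [CommRing R] (P₀ : Type u) [AddCommGroup P₀]
    [Module R P₀] (P : Type u) [AddCommGroup P] [Module R[X] P]
    (eqv : P ≃ₗ[R[X]] R[X] ⊗[R] P₀) (g : R)
    [Module.Free (Localization.Away g) (LocalizedModule (Submonoid.powers g) P₀)] :
    Module.Free (Localization.Away (Polynomial.C g : R[X]))
      (LocalizedModule (Submonoid.powers (Polynomial.C g : R[X])) P) := by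
  have hg : IsUnit (algebraMap R (Localization.Away (Polynomial.C g : R[X])) g) := by
    rw [IsScalarTower.algebraMap_apply R R[X] (Localization.Away (Polynomial.C g : R[X])),
      ← Polynomial.C_eq_algebraMap]
    exact IsLocalization.Away.algebraMap_isUnit (Polynomial.C g)
  haveI : Module.Free (Localization.Away (Polynomial.C g : R[X]))
      (Localization.Away (Polynomial.C g : R[X]) ⊗[R] P₀) := free_of_tower g hg P₀
  haveI : Module.Free (Localization.Away (Polynomial.C g : R[X]))
      (Localization.Away (Polynomial.C g : R[X]) ⊗[R[X]] (R[X] ⊗[R] P₀)) :=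
    Module.Free.of_equiv (TensorProduct.AlgebraTensorModule.cancelBaseChange R R[X]
      (Localization.Away (Polynomial.C g : R[X])) (Localization.Away (Polynomial.C g : R[X]))
      P₀).symm
  haveI : Module.Free (Localization.Away (Polynomial.C g : R[X]))
      (Localization.Away (Polynomial.C g : R[X]) ⊗[R[X]] P) :=
    Module.Free.of_equiv (TensorProduct.AlgebraTensorModule.congr
      (LinearEquiv.refl (Localization.Away (Polynomial.C g : R[X]))
        (Localization.Away (Polynomial.C g : R[X]))) eqv).symm
  exact Module.Free.of_equiv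
    (LocalizedModule.equivTensorProduct (Submonoid.powers (Polynomial.C g : R[X])) P).symm

/-- a finite projective module is free on a finite cover by basic opens. -/
lemma exists_cover_free {R : Type u} [CommRing R] (P₀ : Type u) [AddCommGroup P₀] [Module R P₀]
    [Module.Finite R P₀] [Module.Projective R P₀] :
    ∃ (n : ℕ) (g : Fin n → R), Ideal.span (Set.range g) = ⊤ ∧
      ∀ i, Module.Free (Localization.Away (g i))
        (LocalizedModule (Submonoid.powers (g i)) P₀) := by
  classical
  obtain ⟨F, hF⟩ : ∃ F : Set R, F = {f | Module.Free (Localization.Away f)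
    (LocalizedModule (Submonoid.powers f) P₀)} := ⟨_, rfl⟩
  have hspan : Ideal.span F = ⊤ := by
    by_contra hne
    obtain ⟨m, hm, hle⟩ := Ideal.exists_le_maximal _ hne
    haveI := hm.isPrime
    haveI : Module.FinitePresentation R P₀ := Module.finitePresentation_of_projective R P₀
    haveI : Module.Free (Localization.AtPrime m) (LocalizedModule m.primeCompl P₀) :=
      Module.free_of_flat_of_isLocalRing
    obtain ⟨f, hf, hfree, -⟩ := Module.FinitePresentation.exists_free_localizedModule_powers
      m.primeCompl (LocalizedModule.mkLinearMap m.primeCompl P₀) (Localization.AtPrime m)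
    refine hf (hle (Ideal.subset_span ?_))
    rw [hF]
    exact hfree
  obtain ⟨s, hsF, hs⟩ := (Ideal.span_eq_top_iff_finite F).1 hspan
  refine ⟨s.card, fun i => ((s.equivFin.symm i : s) : R), ?_, fun i => ?_⟩
  · have : Set.range (fun i => ((s.equivFin.symm i : s) : R)) = ↑s := by
      ext x
      constructor
      · rintro ⟨i, rfl⟩
        exact (s.equivFin.symm i).2
      · intro hx
        exact ⟨s.equivFin ⟨x, hx⟩, by simp⟩
    rw [this, hs]
  · have := hsF (s.equivFin.symm i).2
    rw [hF] at this
    exact this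

end free

end Groth.Agent.Lib.HorrocksH4
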