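import Mathlib
import Groth.Agent.Lib.HorrG_helper4

/-!
# Affine Horrocks, part H (helper4): general index types, and descent along the localisation at
monic polynomials (matrix form)
APPEND-ONLY once landed.
-/

set_option autoImplicit false
set_option linter.unusedVariables false
set_option linter.unusedTactic false
set_option linter.unreachableTactic false
set_option linter.unusedSectionVars false
set_option linter.style.haveILetI false
set_option linter.deprecated false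
set_option linter.unusedSimpArgs false
set_option linter.style.longLine false
set_option maxHeartbeats 1600000

universe u

noncomputable section

open Polynomial LaurentPolynomial Matrix TensorProduct

namespace Groth.Agent.Lib.HorrocksH4

variable {A : Type u} [CommRing A]

section transport

lemma Ext6_submatrix {R : Type*} [CommRing R] {m n : Type*} [Fintype m] [DecidableEq m]
    [Fintype n] [DecidableEq n] {ε E u v : Matrix m m R} (h : QPatchH4.Ext6 ε E u v)
    (e : n ≃ m) :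
    QPatchH4.Ext6 (ε.submatrix e e) (E.submatrix e e) (u.submatrix e e) (v.submatrix e e) where
  h1 := by rw [Matrix.submatrix_mul_equiv, h.h1]
  h2 := by rw [Matrix.submatrix_mul_equiv, h.h2]
  h3 := by rw [Matrix.submatrix_mul_equiv, h.h3]
  h4 := by rw [Matrix.submatrix_mul_equiv, h.h4]
  h5 := by rw [Matrix.submatrix_mul_equiv, h.h5]
  h6 := by rw [Matrix.submatrix_mul_equiv, h.h6]

/-- `horrocks_isExt` for arbitrary finite index types. -/
theorem horrocks_isExt' {ι κ : Type*} [Fintype ι] [DecidableEq ι] [Fintype κ] [DecidableEq κ]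
    (ε : Matrix ι ι A[X]) (ε' : Matrix κ κ A[X]) (τ : Matrix κ ι A[T;T⁻¹])
    (τ' : Matrix ι κ A[T;T⁻¹])
    (hε : ε * ε = ε) (hε' : ε' * ε' = ε') (h1 : τ * ε.map σp = τ) (h2 : ε'.map σm * τ = τ)
    (h3 : ε.map σp * τ' = τ') (h4 : τ' * ε'.map σm = τ') (h5 : τ' * τ = ε.map σp)
    (h6 : τ * τ' = ε'.map σm) :
    ∃ u v : Matrix ι ι A[X], QPatchH4.Ext6 ε (ε.map QPatchH4.κ₀) u v := by
  classical
  obtain ⟨eι, -⟩ : ∃ eι : ι ≃ Fin (Fintype.card ι), eι = eι := ⟨Fintype.equivFin ι, rfl⟩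
  obtain ⟨eκ, -⟩ : ∃ eκ : κ ≃ Fin (Fintype.card κ), eκ = eκ := ⟨Fintype.equivFin κ, rfl⟩
  obtain ⟨D, hD⟩ : ∃ D : PData A (Fintype.card ι) (Fintype.card κ),
      D.ε = ε.submatrix eι.symm eι.symm :=
    ⟨{ ε := ε.submatrix eι.symm eι.symm
       ε' := ε'.submatrix eκ.symm eκ.symm
       τ := τ.submatrix eκ.symm eι.symm
       τ' := τ'.submatrix eι.symm eκ.symm
       hε := by rw [Matrix.submatrix_mul_equiv, hε]
       hε' := by rw [Matrix.submatrix_mul_equiv, hε']
       h1 := by rw [← Matrix.submatrix_map, Matrix.submatrix_mul_equiv, h1]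
       h2 := by rw [← Matrix.submatrix_map, Matrix.submatrix_mul_equiv, h2]
       h3 := by rw [← Matrix.submatrix_map, Matrix.submatrix_mul_equiv, h3]
       h4 := by rw [← Matrix.submatrix_map, Matrix.submatrix_mul_equiv, h4]
       h5 := by rw [← Matrix.submatrix_map, Matrix.submatrix_mul_equiv, h5]
       h6 := by rw [← Matrix.submatrix_map, Matrix.submatrix_mul_equiv, h6] }, rfl⟩
  obtain ⟨u, v, hx⟩ := horrocks_isExt D
  rw [hD] at hx
  have hback : ∀ M : Matrix ι ι A[X], (M.submatrix eι.symm eι.symm).submatrix eι eι = M := by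
    intro M
    refine Matrix.ext fun i j => ?_
    simp
  refine ⟨u.submatrix eι eι, v.submatrix eι eι, ?_⟩
  have := Ext6_submatrix hx eι
  rw [hback, ← Matrix.submatrix_map, hback] at this
  exact this

end transport

section blocks

variable {B : Type*} [CommRing B] {m n : Type*} [Fintype m] [DecidableEq m] [Fintype n]
  [DecidableEq n] (e : Matrix m m B) (e' : Matrix n n B) (a : Matrix n m B) (b : Matrix m n B)
  (q α β : B)

lemma block1 (hee : e * e = e) (hae : a * e = a) (heb : e * b = b) (hba : b * a = q • e)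
    (hab : a * b = q • e') (hαβ : α + β * q = 1) :
    Matrix.fromCols e b * Matrix.fromRows (α • e) (β • a) = e ∧
    Matrix.fromRows (α • e) (β • a) * Matrix.fromCols e b =
      Matrix.fromBlocks (α • e) (α • b) (β • a) ((β * q) • e') := by
  constructor
  · rw [Matrix.fromCols_mul_fromRows, Matrix.mul_smul, Matrix.mul_smul, hee, hba, smul_smul,
      ← add_smul, hαβ, one_smul]
  · rw [Matrix.fromRows_mul_fromCols]
    simp only [Matrix.smul_mul, hee, heb, hae, hab, smul_smul]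

lemma block2 (he'e' : e' * e' = e') (he'a : e' * a = a) (hbe' : b * e' = b) (hba : b * a = q • e)
    (hab : a * b = q • e') (hαβ : α * q + β = 1) :
    Matrix.fromCols a e' * Matrix.fromRows (α • b) (β • e') = e' ∧
    Matrix.fromRows (α • b) (β • e') * Matrix.fromCols a e' =
      Matrix.fromBlocks ((α * q) • e) (α • b) (β • a) (β • e') := by
  constructor
  · rw [Matrix.fromCols_mul_fromRows, Matrix.mul_smul, Matrix.mul_smul, he'e', hab, smul_smul,
      ← add_smul, hαβ, one_smul]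
  · rw [Matrix.fromRows_mul_fromCols]
    simp only [Matrix.smul_mul, he'e', he'a, hbe', hba, smul_smul]

end blocks

lemma σp_rev (N : ℕ) (p : A[X]) (h : p.natDegree ≤ N) :
    σp (X ^ (N - p.natDegree) * p.reverse) = (T (N : ℤ) : A[T;T⁻¹]) * σm p := by
  have hT : (T (N : ℤ) : A[T;T⁻¹]) = T ((N - p.natDegree : ℕ) : ℤ) * T (p.natDegree : ℤ) := by
    rw [← LaurentPolynomial.T_add]; congr 1; omega
  rw [map_mul, σp_X_pow, σp_apply, LaurentPolynomial.toLaurent_reverse, hT, σm_apply]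
  ring

lemma map_σp_injective {m n : Type*} {M N : Matrix m n A[X]} (h : M.map σp = N.map σp) :
    M = N := by
  refine Matrix.ext fun i j => σp_injective ?_
  simpa using congrFun (congrFun h i) j


section monic

/-- **Descent along the localisation at monic polynomials, matrix form**: two idempotent matrices
over `A` whose images become isomorphic after inverting a monic polynomial have isomorphic
images. -/
theorem monic_descent_matrix {r r' : ℕ} (e : Matrix (Fin r) (Fin r) A)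
    (e' : Matrix (Fin r') (Fin r') A) (he : e * e = e) (he' : e' * e' = e') (f : A[X])
    (hf : f.Monic) (a₀ : Matrix (Fin r') (Fin r) A[X]) (b₀ : Matrix (Fin r) (Fin r') A[X])
    (H1 : a₀ * e.map Polynomial.C = a₀) (H2 : e'.map Polynomial.C * a₀ = a₀)
    (H3 : e.map Polynomial.C * b₀ = b₀) (H4 : b₀ * e'.map Polynomial.C = b₀)
    (H5 : b₀ * a₀ = (f ^ 2) • e.map Polynomial.C)
    (H6 : a₀ * b₀ = (f ^ 2) • e'.map Polynomial.C) :
    ∃ (F : Matrix (Fin r') (Fin r) A) (G : Matrix (Fin r) (Fin r') A),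
      G * F = e ∧ F * G = e' := by
  classical
  obtain ⟨E, hE⟩ : ∃ E : Matrix (Fin r) (Fin r) A[X], E = e.map Polynomial.C := ⟨_, rfl⟩
  obtain ⟨E', hE'⟩ : ∃ E' : Matrix (Fin r') (Fin r') A[X], E' = e'.map Polynomial.C := ⟨_, rfl⟩
  rw [← hE] at H1 H3 H5
  rw [← hE'] at H2 H4 H6
  obtain ⟨EL, hEL⟩ : ∃ EL : Matrix (Fin r) (Fin r) A[T;T⁻¹],
    EL = e.map LaurentPolynomial.C := ⟨_, rfl⟩
  obtain ⟨EL', hEL'⟩ : ∃ EL' : Matrix (Fin r') (Fin r') A[T;T⁻¹],
    EL' = e'.map LaurentPolynomial.C := ⟨_, rfl⟩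
  have hEσp : E.map σp = EL := by rw [hE, hEL]; exact Matrix.ext fun i j => σp_C _
  have hEσm : E.map σm = EL := by rw [hE, hEL]; exact Matrix.ext fun i j => σm_C _
  have hE'σp : E'.map σp = EL' := by rw [hE', hEL']; exact Matrix.ext fun i j => σp_C _
  have hE'σm : E'.map σm = EL' := by rw [hE', hEL']; exact Matrix.ext fun i j => σm_C _
  have hEE : E * E = E := by rw [hE, ← Matrix.map_mul, he]
  have hE'E' : E' * E' = E' := by rw [hE', ← Matrix.map_mul, he']
  -- degree bounds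
  obtain ⟨d, hd⟩ : ∃ d, d = f.natDegree := ⟨_, rfl⟩
  obtain ⟨N, hN⟩ : ∃ N, N = d + (∑ i, ∑ j, (a₀ i j).natDegree) +
    (∑ i, ∑ j, (b₀ i j).natDegree) := ⟨_, rfl⟩
  have hNa : ∀ i j, (a₀ i j).natDegree ≤ N := fun i j => by
    have h1 : (a₀ i j).natDegree ≤ ∑ j', (a₀ i j').natDegree :=
      Finset.single_le_sum (f := fun j' => (a₀ i j').natDegree) (fun _ _ => Nat.zero_le _)
        (Finset.mem_univ j)
    have h2 : (∑ j', (a₀ i j').natDegree) ≤ ∑ i', ∑ j', (a₀ i' j').natDegree :=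
      Finset.single_le_sum (f := fun i' => ∑ j', (a₀ i' j').natDegree)
        (fun _ _ => Nat.zero_le _) (Finset.mem_univ i)
    omega
  have hNb : ∀ i j, (b₀ i j).natDegree ≤ N := fun i j => by
    have h1 : (b₀ i j).natDegree ≤ ∑ j', (b₀ i j').natDegree :=
      Finset.single_le_sum (f := fun j' => (b₀ i j').natDegree) (fun _ _ => Nat.zero_le _)
        (Finset.mem_univ j)
    have h2 : (∑ j', (b₀ i j').natDegree) ≤ ∑ i', ∑ j', (b₀ i' j').natDegree :=
      Finset.single_le_sum (f := fun i' => ∑ j', (b₀ i' j').natDegree)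
        (fun _ _ => Nat.zero_le _) (Finset.mem_univ i)
    omega
  obtain ⟨k, hk⟩ : ∃ k, k = N - d := ⟨_, rfl⟩
  have hkd : k + d = N := by omega
  obtain ⟨a₂, ha₂⟩ : ∃ a₂ : Matrix (Fin r') (Fin r) A[X],
    a₂ = Matrix.of fun i j => X ^ (N - (a₀ i j).natDegree) * (a₀ i j).reverse := ⟨_, rfl⟩
  obtain ⟨b₂, hb₂⟩ : ∃ b₂ : Matrix (Fin r) (Fin r') A[X],
    b₂ = Matrix.of fun i j => X ^ (N - (b₀ i j).natDegree) * (b₀ i j).reverse := ⟨_, rfl⟩
  obtain ⟨g, hg⟩ : ∃ g : A[X], g = f.reverse := ⟨_, rfl⟩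
  have hA2 : a₂.map σp = (T (N : ℤ) : A[T;T⁻¹]) • a₀.map σm := by
    refine Matrix.ext fun i j => ?_
    rw [ha₂]
    simp only [Matrix.map_apply, Matrix.of_apply, Matrix.smul_apply, smul_eq_mul]
    exact σp_rev N _ (hNa i j)
  have hB2 : b₂.map σp = (T (N : ℤ) : A[T;T⁻¹]) • b₀.map σm := by
    refine Matrix.ext fun i j => ?_
    rw [hb₂]
    simp only [Matrix.map_apply, Matrix.of_apply, Matrix.smul_apply, smul_eq_mul]
    exact σp_rev N _ (hNb i j)
  have hgσ : σp g = (T (d : ℤ) : A[T;T⁻¹]) * σm f := by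
    rw [hg, σp_apply, LaurentPolynomial.toLaurent_reverse, σm_apply, hd, mul_comm]
  -- Laurent monomials
  obtain ⟨Tk, hTk⟩ : ∃ Tk : A[T;T⁻¹], Tk = T (k : ℤ) := ⟨_, rfl⟩
  obtain ⟨Tm, hTm⟩ : ∃ Tm : A[T;T⁻¹], Tm = T (-(k : ℤ)) := ⟨_, rfl⟩
  obtain ⟨T2, hT2⟩ : ∃ T2 : A[T;T⁻¹], T2 = σp (X ^ (2 * k)) := ⟨_, rfl⟩
  have hT2' : T2 = T ((2 * k : ℕ) : ℤ) := by rw [hT2, σp_X_pow]
  have hkk : Tk * Tk = T2 := by
    rw [hTk, hT2', ← LaurentPolynomial.T_add]; congr 1; push_cast; ring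
  have hkm : Tk * Tm = 1 := by
    rw [hTk, hTm, ← LaurentPolynomial.T_add, add_neg_cancel, LaurentPolynomial.T_zero]
  have hmm : Tm * Tm * T2 = 1 := by
    rw [hTm, hT2', ← LaurentPolynomial.T_add, ← LaurentPolynomial.T_add]
    have : (-(k : ℤ) + -(k : ℤ) + ((2 * k : ℕ) : ℤ)) = 0 := by push_cast; ring
    rw [this, LaurentPolynomial.T_zero]
  have hNN : (T (N : ℤ) : A[T;T⁻¹]) * T (N : ℤ) = T2 * (T (d : ℤ) * T (d : ℤ)) := by
    rw [hT2', ← LaurentPolynomial.T_add, ← LaurentPolynomial.T_add, ← LaurentPolynomial.T_add]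
    congr 1; push_cast; omega
  -- relations in the variable `s = 1/t`
  have P1 : a₂ * E = a₂ := by
    apply map_σp_injective
    rw [Matrix.map_mul, hA2, hEσp, ← hEσm, Matrix.smul_mul, ← Matrix.map_mul, H1]
  have P2 : E' * a₂ = a₂ := by
    apply map_σp_injective
    rw [Matrix.map_mul, hA2, hE'σp, ← hE'σm, Matrix.mul_smul, ← Matrix.map_mul, H2]
  have P3 : E * b₂ = b₂ := by
    apply map_σp_injective
    rw [Matrix.map_mul, hB2, hEσp, ← hEσm, Matrix.mul_smul, ← Matrix.map_mul, H3]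
  have P4 : b₂ * E' = b₂ := by
    apply map_σp_injective
    rw [Matrix.map_mul, hB2, hE'σp, ← hE'σm, Matrix.smul_mul, ← Matrix.map_mul, H4]
  have P5 : b₂ * a₂ = (X ^ (2 * k) * g ^ 2) • E := by
    apply map_σp_injective
    rw [Matrix.map_mul, hB2, hA2, Matrix.smul_mul, Matrix.mul_smul, smul_smul, ← Matrix.map_mul,
      H5, QPatchH4.map_smul', QPatchH4.map_smul', smul_smul, hEσm, hEσp]
    congr 1
    rw [map_mul σp, ← hT2]
    simp only [map_pow]
    rw [hgσ]
    linear_combination (σm f) ^ 2 * hNN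
  have P6 : a₂ * b₂ = (X ^ (2 * k) * g ^ 2) • E' := by
    apply map_σp_injective
    rw [Matrix.map_mul, hB2, hA2, Matrix.smul_mul, Matrix.mul_smul, smul_smul, ← Matrix.map_mul,
      H6, QPatchH4.map_smul', QPatchH4.map_smul', smul_smul, hE'σm, hE'σp]
    congr 1
    rw [map_mul σp, ← hT2]
    simp only [map_pow]
    rw [hgσ]
    linear_combination (σm f) ^ 2 * hNN
  have hg0 : g.coeff 0 = 1 := by rw [hg, Polynomial.coeff_zero_reverse, hf.leadingCoeff]
  have hg1 : g.divX * X + 1 = g := by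
    have := Polynomial.divX_mul_X_add g
    rw [hg0, map_one] at this
    exact this
  have hXg : IsCoprime (X : A[X]) g := ⟨-g.divX, 1, by linear_combination (-1 : A[X]) * hg1⟩
  obtain ⟨α, β, hαβ⟩ : IsCoprime ((X : A[X]) ^ (2 * k)) (g ^ 2) := IsCoprime.pow hXg
  -- Laurent versions
  obtain ⟨A2, hA2def⟩ : ∃ A2, A2 = a₂.map σp := ⟨_, rfl⟩
  obtain ⟨B2, hB2def⟩ : ∃ B2, B2 = b₂.map σp := ⟨_, rfl⟩
  have hELEL : EL * EL = EL := by rw [← hEσp, ← Matrix.map_mul, hEE]
  have L1 : A2 * EL = A2 := by rw [hA2def, ← hEσp, ← Matrix.map_mul, P1]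
  have L3 : EL * B2 = B2 := by rw [hB2def, ← hEσp, ← Matrix.map_mul, P3]
  have L5 : B2 * A2 = (T2 * σp g ^ 2) • EL := by
    rw [hB2def, hA2def, ← Matrix.map_mul, P5, QPatchH4.map_smul', hEσp, map_mul σp, ← hT2,
      map_pow]
  have L6 : A2 * B2 = (T2 * σp g ^ 2) • EL' := by
    rw [hB2def, hA2def, ← Matrix.map_mul, P6, QPatchH4.map_smul', hE'σp, map_mul σp, ← hT2,
      map_pow]
  have L7 : σp α * T2 + σp β * σp g ^ 2 = 1 := by
    have := congrArg σp hαβ
    rw [map_add, map_mul σp α, map_mul σp β, map_pow σp g, ← hT2, map_one] at this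
    exact this
  obtain ⟨Pm, hPm⟩ : ∃ Pm : Matrix (Fin r ⊕ Fin r') (Fin r ⊕ Fin r') A[X],
    Pm = Matrix.fromBlocks ((α * X ^ (2 * k)) • E) (α • b₂) (β • a₂) ((β * g ^ 2) • E') :=
    ⟨_, rfl⟩
  have hPmσ : Pm.map σp = Matrix.fromBlocks ((σp α * T2) • EL) (σp α • B2) (σp β • A2)
      ((σp β * σp g ^ 2) • EL') := by
    rw [hPm, Matrix.fromBlocks_map, QPatchH4.map_smul', QPatchH4.map_smul', QPatchH4.map_smul',
      QPatchH4.map_smul', hEσp, hE'σp, ← hA2def, ← hB2def, map_mul σp α, ← hT2, map_mul σp β,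
      map_pow σp g]
  obtain ⟨τD, hτD⟩ : ∃ τD : Matrix (Fin r) (Fin r ⊕ Fin r') A[T;T⁻¹],
    τD = Matrix.fromCols (Tk • EL) (Tm • B2) := ⟨_, rfl⟩
  obtain ⟨τD', hτD'⟩ : ∃ τD' : Matrix (Fin r ⊕ Fin r') (Fin r) A[T;T⁻¹],
    τD' = Matrix.fromRows ((σp α * Tk) • EL) ((σp β * Tm) • A2) := ⟨_, rfl⟩
  have h6 : τD * τD' = EL := by
    have t1 : (Tk • EL) * ((σp α * Tk) • EL) = (σp α * T2) • EL := by
      rw [Matrix.smul_mul, Matrix.mul_smul, smul_smul, hELEL, ← hkk]; congr 1; ring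
    have t2 : (Tm • B2) * ((σp β * Tm) • A2) = (σp β * σp g ^ 2) • EL := by
      rw [Matrix.smul_mul, Matrix.mul_smul, smul_smul, L5, smul_smul]
      congr 1
      linear_combination (σp β * σp g ^ 2) * hmm
    rw [hτD, hτD', Matrix.fromCols_mul_fromRows, t1, t2, ← add_smul, L7, one_smul]
  have h5 : τD' * τD = Pm.map σp := by
    have s11 : ((σp α * Tk) • EL) * (Tk • EL) = (σp α * T2) • EL := by
      rw [Matrix.smul_mul, Matrix.mul_smul, smul_smul, hELEL, ← hkk]; congr 1; ring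
    have s12 : ((σp α * Tk) • EL) * (Tm • B2) = σp α • B2 := by
      rw [Matrix.smul_mul, Matrix.mul_smul, smul_smul, L3]; congr 1
      linear_combination σp α * hkm
    have s21 : ((σp β * Tm) • A2) * (Tk • EL) = σp β • A2 := by
      rw [Matrix.smul_mul, Matrix.mul_smul, smul_smul, L1]; congr 1
      linear_combination σp β * hkm
    have s22 : ((σp β * Tm) • A2) * (Tm • B2) = (σp β * σp g ^ 2) • EL' := by
      rw [Matrix.smul_mul, Matrix.mul_smul, smul_smul, L6, smul_smul]; congr 1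
      linear_combination (σp β * σp g ^ 2) * hmm
    rw [hτD, hτD', Matrix.fromRows_mul_fromCols, s11, s12, s21, s22, hPmσ]
  have h2 : EL * τD = τD := by
    rw [hτD, Matrix.mul_fromCols, Matrix.mul_smul, Matrix.mul_smul, hELEL, L3]
  have h4 : τD' * EL = τD' := by
    rw [hτD', Matrix.fromRows_mul, Matrix.smul_mul, Matrix.smul_mul, hELEL, L1]
  have h1 : τD * Pm.map σp = τD := by rw [← h5, ← Matrix.mul_assoc, h6, h2]
  have h3 : Pm.map σp * τD' = τD' := by rw [← h5, Matrix.mul_assoc, h6, h4]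
  have hPmPm : Pm * Pm = Pm := by
    apply map_σp_injective
    rw [Matrix.map_mul, ← h5, Matrix.mul_assoc, ← Matrix.mul_assoc τD, h6, h2]
  obtain ⟨u, v, hx⟩ := horrocks_isExt' Pm E τD τD' hPmPm hEE h1 (by rw [hEσm]; exact h2) h3
    (by rw [hEσm]; exact h4) h5 (by rw [hEσm]; exact h6)
  -- evaluation
  have hEc : ∀ x : A, E.map (Polynomial.evalRingHom x) = e := fun x => by
    rw [hE]; refine Matrix.ext fun i j => ?_; simp
  have hE'c : ∀ x : A, E'.map (Polynomial.evalRingHom x) = e' := fun x => by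
    rw [hE']; refine Matrix.ext fun i j => ?_; simp
  have hκc : (Pm.map QPatchH4.κ₀).map (Polynomial.evalRingHom (1 : A)) =
      Pm.map (Polynomial.evalRingHom (0 : A)) := by
    refine Matrix.ext fun i j => ?_
    simp [QPatchH4.κ₀]
  have hx₁ : QPatchH4.Ext6 (Pm.map (Polynomial.evalRingHom (1 : A)))
      (Pm.map (Polynomial.evalRingHom (0 : A))) (u.map (Polynomial.evalRingHom (1 : A)))
      (v.map (Polynomial.evalRingHom (1 : A))) := by
    have := hx.map (RingHom.mapMatrix (Polynomial.evalRingHom (1 : A)))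
    simp only [RingHom.mapMatrix_apply, hκc] at this
    exact this
  have ev : ∀ x : A,
      (a₂.map (Polynomial.evalRingHom x)) * e = a₂.map (Polynomial.evalRingHom x) ∧
      e' * (a₂.map (Polynomial.evalRingHom x)) = a₂.map (Polynomial.evalRingHom x) ∧
      e * b₂.map (Polynomial.evalRingHom x) = b₂.map (Polynomial.evalRingHom x) ∧
      b₂.map (Polynomial.evalRingHom x) * e' = b₂.map (Polynomial.evalRingHom x) ∧
      b₂.map (Polynomial.evalRingHom x) * a₂.map (Polynomial.evalRingHom x) =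
        (x ^ (2 * k) * (g.eval x) ^ 2) • e ∧
      a₂.map (Polynomial.evalRingHom x) * b₂.map (Polynomial.evalRingHom x) =
        (x ^ (2 * k) * (g.eval x) ^ 2) • e' ∧
      α.eval x * x ^ (2 * k) + β.eval x * (g.eval x) ^ 2 = 1 ∧
      Pm.map (Polynomial.evalRingHom x) =
        Matrix.fromBlocks ((α.eval x * x ^ (2 * k)) • e)
          (α.eval x • b₂.map (Polynomial.evalRingHom x))
          (β.eval x • a₂.map (Polynomial.evalRingHom x)) ((β.eval x * (g.eval x) ^ 2) • e') := by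
    intro x
    refine ⟨?_, ?_, ?_, ?_, ?_, ?_, ?_, ?_⟩
    · conv_lhs => rw [← hEc x, ← Matrix.map_mul, P1]
    · conv_lhs => rw [← hE'c x, ← Matrix.map_mul, P2]
    · conv_lhs => rw [← hEc x, ← Matrix.map_mul, P3]
    · conv_lhs => rw [← hE'c x, ← Matrix.map_mul, P4]
    · rw [← Matrix.map_mul, P5, QPatchH4.map_smul', hEc]; congr 1; simp
    · rw [← Matrix.map_mul, P6, QPatchH4.map_smul', hE'c]; congr 1; simp
    · have := congrArg (Polynomial.eval x) hαβ
      simpa using this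
    · rw [hPm, Matrix.fromBlocks_map, QPatchH4.map_smul', QPatchH4.map_smul', QPatchH4.map_smul',
        QPatchH4.map_smul', hEc, hE'c]
      simp only [Polynomial.coe_evalRingHom, Polynomial.eval_mul, Polynomial.eval_pow,
        Polynomial.eval_X]
  obtain ⟨r1a, r1b, r1c, r1d, r1e, r1f, r1g, r1Pm⟩ := ev 1
  obtain ⟨r0a, r0b, r0c, r0d, r0e, r0f, r0g, r0Pm⟩ := ev 0
  have hg00 : g.eval 0 = 1 := by rw [← Polynomial.coeff_zero_eq_eval_zero, hg0]
  simp only [one_pow, one_mul, mul_one] at r1e r1f r1g r1Pm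
  rw [hg00] at r0e r0f r0g r0Pm
  simp only [one_pow, mul_one] at r0e r0f r0g r0Pm
  obtain ⟨hττ', hτ'τ⟩ := block1 e e' (a₂.map (Polynomial.evalRingHom 1))
    (b₂.map (Polynomial.evalRingHom 1)) ((g.eval 1) ^ 2) (α.eval 1) (β.eval 1) he r1a r1c r1e
    r1f r1g
  obtain ⟨hlm, hml⟩ := block2 e e' (a₂.map (Polynomial.evalRingHom 0))
    (b₂.map (Polynomial.evalRingHom 0)) (0 ^ (2 * k)) (α.eval 0) (β.eval 0) he' r0b r0d r0e
    r0f r0g
  rw [← r1Pm] at hτ'τ
  rw [← r0Pm] at hml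
  obtain ⟨τ₁, hτ₁⟩ : ∃ τ₁, τ₁ = Matrix.fromCols e (b₂.map (Polynomial.evalRingHom 1)) :=
    ⟨_, rfl⟩
  obtain ⟨τ'₁, hτ'₁⟩ : ∃ τ'₁, τ'₁ = Matrix.fromRows (α.eval 1 • e)
    (β.eval 1 • a₂.map (Polynomial.evalRingHom 1)) := ⟨_, rfl⟩
  obtain ⟨lam, hlam⟩ : ∃ lam, lam = Matrix.fromCols (a₂.map (Polynomial.evalRingHom 0)) e' :=
    ⟨_, rfl⟩
  obtain ⟨mu, hmu⟩ : ∃ mu, mu = Matrix.fromRows (α.eval 0 • b₂.map (Polynomial.evalRingHom 0))
    (β.eval 0 • e') := ⟨_, rfl⟩
  rw [← hτ₁, ← hτ'₁] at hττ' hτ'τ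
  rw [← hlam, ← hmu] at hlm hml
  obtain ⟨u₁, hu₁⟩ : ∃ u₁, u₁ = u.map (Polynomial.evalRingHom (1 : A)) := ⟨_, rfl⟩
  obtain ⟨v₁, hv₁⟩ : ∃ v₁, v₁ = v.map (Polynomial.evalRingHom (1 : A)) := ⟨_, rfl⟩
  rw [← hu₁, ← hv₁] at hx₁
  refine ⟨lam * v₁ * τ'₁, τ₁ * u₁ * mu, ?_, ?_⟩
  · calc τ₁ * u₁ * mu * (lam * v₁ * τ'₁)
        = τ₁ * (u₁ * (mu * lam) * v₁) * τ'₁ := by simp only [Matrix.mul_assoc]
      _ = τ₁ * (u₁ * v₁) * τ'₁ := by rw [hml, hx₁.h2]
      _ = τ₁ * (τ'₁ * τ₁) * τ'₁ := by rw [hx₁.h5, ← hτ'τ]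
      _ = (τ₁ * τ'₁) * (τ₁ * τ'₁) := by simp only [Matrix.mul_assoc]
      _ = e := by rw [hττ', he]
  · calc lam * v₁ * τ'₁ * (τ₁ * u₁ * mu)
        = lam * (v₁ * (τ'₁ * τ₁) * u₁) * mu := by simp only [Matrix.mul_assoc]
      _ = lam * (v₁ * u₁) * mu := by rw [hτ'τ, hx₁.h4]
      _ = lam * (mu * lam) * mu := by rw [hx₁.h6, ← hml]
      _ = (lam * mu) * (lam * mu) := by simp only [Matrix.mul_assoc]
      _ = e' := by rw [hlm, he']

end monic

end Groth.Agent.Lib.HorrocksH4
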