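import Mathlib
import Groth.Agent.Lib.HorrH_helper4

/-!
# Affine Horrocks, part I (helper4): descent of isomorphisms along the localisation of `A[X]` at
the monic polynomials
APPEND-ONLY once landed.
-/

set_option autoImplicit false
set_option linter.unusedVariables false
set_option linter.unusedTactic false
set_option linter.unreachableTactic false
set_option linter.unusedSectionVars false
set_option linter.style.haveILetI false
set_option linter.deprecated false
set_option linter.unusedSimpArgs false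
set_option linter.style.longLine false
set_option maxHeartbeats 1600000

universe u

noncomputable section

open Polynomial Matrix TensorProduct

namespace Groth.Agent.Lib.HorrocksH4

variable {A : Type u} [CommRing A]

lemma toMatrix'_idem' {P : Type*} [AddCommGroup P] [Module A P] {r : ℕ}
    (p : (Fin r → A) →ₗ[A] P) (i : P →ₗ[A] (Fin r → A)) (h : p ∘ₗ i = LinearMap.id) :
    LinearMap.toMatrix' (i ∘ₗ p) * LinearMap.toMatrix' (i ∘ₗ p) = LinearMap.toMatrix' (i ∘ₗ p) := by
  have hpi : ∀ m, p (i m) = m := fun m => LinearMap.congr_fun h m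
  rw [← LinearMap.toMatrix'_comp]
  congr 1
  refine LinearMap.ext fun x => ?_
  simp only [LinearMap.comp_apply, hpi]

/-- base change of a map between finite free modules, in coordinates. -/
lemma piScalarRight_baseChange {B : Type*} [CommRing B] [Algebra A B] {n m : ℕ}
    (f : (Fin n → A) →ₗ[A] (Fin m → A)) (x : Fin n → B) :
    (TensorProduct.piScalarRight A B B (Fin m)) ((f.baseChange B)
      ((TensorProduct.piScalarRight A B B (Fin n)).symm x)) =
      ((LinearMap.toMatrix' f).map (algebraMap A B)) *ᵥ x := by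
  have h : (TensorProduct.piScalarRight A B B (Fin m)).toLinearMap ∘ₗ (f.baseChange B) ∘ₗ
      (TensorProduct.piScalarRight A B B (Fin n)).symm.toLinearMap =
      Matrix.toLin' ((LinearMap.toMatrix' f).map (algebraMap A B)) := by
    refine LinearMap.pi_ext fun j c => ?_
    show (TensorProduct.piScalarRight A B B (Fin m)) ((f.baseChange B)
      ((TensorProduct.piScalarRight A B B (Fin n)).symm (Pi.single j c))) =
      ((LinearMap.toMatrix' f).map (algebraMap A B)) *ᵥ Pi.single j c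
    rw [TensorProduct.piScalarRight_symm_single, LinearMap.baseChange_tmul,
      TensorProduct.piScalarRight_apply, TensorProduct.piScalarRightHom_tmul]
    funext k
    show (f (Pi.single j 1)) k • c = _
    rw [Matrix.mulVec_single]
    simp [Algebra.smul_def, mul_comm]
  exact LinearMap.congr_fun h x

section matOf

variable {B : Type*} [CommRing B] [Algebra A B]
  {P P' P'' : Type*} [AddCommGroup P] [Module A P] [AddCommGroup P'] [Module A P']
  [AddCommGroup P''] [Module A P''] {r r' r'' : ℕ}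

/-- the map `B^r → B^r'` induced by a `B`-linear map `B ⊗ P → B ⊗ P'` and retract data. -/
def matOf (B : Type*) [CommRing B] [Algebra A B] (i' : P' →ₗ[A] (Fin r' → A))
    (p : (Fin r → A) →ₗ[A] P) (φ : B ⊗[A] P →ₗ[B] B ⊗[A] P') :
    (Fin r → B) →ₗ[B] (Fin r' → B) :=
  (TensorProduct.piScalarRight A B B (Fin r')).toLinearMap ∘ₗ (i'.baseChange B) ∘ₗ φ ∘ₗ
    (p.baseChange B) ∘ₗ (TensorProduct.piScalarRight A B B (Fin r)).symm.toLinearMap

lemma matOf_comp (i'' : P'' →ₗ[A] (Fin r'' → A)) (p' : (Fin r' → A) →ₗ[A] P')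
    (i' : P' →ₗ[A] (Fin r' → A)) (p : (Fin r → A) →ₗ[A] P) (hpi' : p' ∘ₗ i' = LinearMap.id)
    (ψ : B ⊗[A] P' →ₗ[B] B ⊗[A] P'') (φ : B ⊗[A] P →ₗ[B] B ⊗[A] P') :
    matOf B i'' p' ψ ∘ₗ matOf B i' p φ = matOf B i'' p (ψ ∘ₗ φ) := by
  have hB : ∀ y, (p'.baseChange B) ((i'.baseChange B) y) = y := fun y => by
    rw [← LinearMap.comp_apply, ← LinearMap.baseChange_comp, hpi', LinearMap.baseChange_id]; rfl
  refine LinearMap.ext fun x => ?_
  simp only [matOf, LinearMap.comp_apply, LinearEquiv.coe_coe, LinearEquiv.symm_apply_apply, hB]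

lemma matOf_id (i : P →ₗ[A] (Fin r → A)) (p : (Fin r → A) →ₗ[A] P) :
    matOf B i p LinearMap.id =
      Matrix.toLin' ((LinearMap.toMatrix' (i ∘ₗ p)).map (algebraMap A B)) := by
  refine LinearMap.ext fun x => ?_
  rw [Matrix.toLin'_apply, ← piScalarRight_baseChange (i ∘ₗ p) x, LinearMap.baseChange_comp]
  rfl

end matOf

/-- **Monic inversion descends isomorphism classes of finite projective modules.** -/
theorem monic_descent (A : Type u) [CommRing A] (M : Submonoid A[X])
    (hM : ∀ f : A[X], f ∈ M ↔ f.Monic)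
    (At : Type u) [CommRing At] [Algebra A[X] At] [IsLocalization M At]
    [Algebra A At] [IsScalarTower A A[X] At]
    (P P' : Type u) [AddCommGroup P] [Module A P] [Module.Finite A P] [Module.Projective A P]
    [AddCommGroup P'] [Module A P'] [Module.Finite A P'] [Module.Projective A P']
    (h : (At ⊗[A] P) ≃ₗ[At] (At ⊗[A] P')) : Nonempty (P ≃ₗ[A] P') := by
  classical
  obtain ⟨r, p, i, -, -, hpi⟩ := Module.Finite.exists_comp_eq_id_of_projective A P
  obtain ⟨r', p', i', -, -, hpi'⟩ := Module.Finite.exists_comp_eq_id_of_projective A P'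
  have hpiA : ∀ y, p (i y) = y := fun y => LinearMap.congr_fun hpi y
  have hpiA' : ∀ y, p' (i' y) = y := fun y => LinearMap.congr_fun hpi' y
  obtain ⟨e, hedef⟩ : ∃ e : Matrix (Fin r) (Fin r) A, e = LinearMap.toMatrix' (i ∘ₗ p) :=
    ⟨_, rfl⟩
  obtain ⟨e', he'def⟩ : ∃ e' : Matrix (Fin r') (Fin r') A, e' = LinearMap.toMatrix' (i' ∘ₗ p') :=
    ⟨_, rfl⟩
  have he : e * e = e := by rw [hedef]; exact toMatrix'_idem' p i hpi
  have he' : e' * e' = e' := by rw [he'def]; exact toMatrix'_idem' p' i' hpi'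
  obtain ⟨eb, hebdef⟩ : ∃ eb : Matrix (Fin r) (Fin r) At, eb = e.map (algebraMap A At) :=
    ⟨_, rfl⟩
  obtain ⟨eb', heb'def⟩ : ∃ eb' : Matrix (Fin r') (Fin r') At, eb' = e'.map (algebraMap A At) :=
    ⟨_, rfl⟩
  have hsymm1 : h.symm.toLinearMap ∘ₗ h.toLinearMap = LinearMap.id :=
    LinearMap.ext fun x => by simp
  have hsymm2 : h.toLinearMap ∘ₗ h.symm.toLinearMap = LinearMap.id :=
    LinearMap.ext fun x => by simp
  obtain ⟨ah, hah⟩ : ∃ ah, ah = matOf At i' p h.toLinearMap := ⟨_, rfl⟩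
  obtain ⟨bh, hbh⟩ : ∃ bh, bh = matOf At i p' h.symm.toLinearMap := ⟨_, rfl⟩
  have hidE : matOf At i p LinearMap.id = Matrix.toLin' eb := by
    rw [matOf_id, ← hedef, ← hebdef]
  have hidE' : matOf At i' p' LinearMap.id = Matrix.toLin' eb' := by
    rw [matOf_id, ← he'def, ← heb'def]
  have m1 : ah ∘ₗ Matrix.toLin' eb = ah := by
    rw [← hidE, hah, matOf_comp i' p i p hpi, LinearMap.comp_id]
  have m2 : Matrix.toLin' eb' ∘ₗ ah = ah := by
    rw [← hidE', hah, matOf_comp i' p' i' p hpi', LinearMap.id_comp]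
  have m3 : Matrix.toLin' eb ∘ₗ bh = bh := by
    rw [← hidE, hbh, matOf_comp i p i p' hpi, LinearMap.id_comp]
  have m4 : bh ∘ₗ Matrix.toLin' eb' = bh := by
    rw [← hidE', hbh, matOf_comp i p' i' p' hpi', LinearMap.comp_id]
  have m5 : bh ∘ₗ ah = Matrix.toLin' eb := by
    rw [hbh, hah, matOf_comp i p' i' p hpi', hsymm1, hidE]
  have m6 : ah ∘ₗ bh = Matrix.toLin' eb' := by
    rw [hah, hbh, matOf_comp i' p i p' hpi, hsymm2, hidE']
  obtain ⟨a, hadef⟩ : ∃ a, a = LinearMap.toMatrix' ah := ⟨_, rfl⟩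
  obtain ⟨b, hbdef⟩ : ∃ b, b = LinearMap.toMatrix' bh := ⟨_, rfl⟩
  have q1 : a * eb = a := by
    rw [hadef, ← LinearMap.toMatrix'_toLin' eb, ← LinearMap.toMatrix'_comp, m1]
  have q2 : eb' * a = a := by
    rw [hadef, ← LinearMap.toMatrix'_toLin' eb', ← LinearMap.toMatrix'_comp, m2]
  have q3 : eb * b = b := by
    rw [hbdef, ← LinearMap.toMatrix'_toLin' eb, ← LinearMap.toMatrix'_comp, m3]
  have q4 : b * eb' = b := by
    rw [hbdef, ← LinearMap.toMatrix'_toLin' eb', ← LinearMap.toMatrix'_comp, m4]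
  have q5 : b * a = eb := by
    rw [hbdef, hadef, ← LinearMap.toMatrix'_comp, m5, LinearMap.toMatrix'_toLin']
  have q6 : a * b = eb' := by
    rw [hbdef, hadef, ← LinearMap.toMatrix'_comp, m6, LinearMap.toMatrix'_toLin']
  -- clearing denominators
  have hloc : QPatchH4.IsLocSub (algebraMap A[X] At) M := QPatchH4.IsLocSub.of_isLocalization M
  obtain ⟨f₁, hf₁, a₁, ha₁⟩ := hloc.exists_matrix a
  obtain ⟨f₂, hf₂, b₁, hb₁⟩ := hloc.exists_matrix b
  obtain ⟨f, hfdef⟩ : ∃ f, f = f₁ * f₂ := ⟨_, rfl⟩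
  obtain ⟨a₀, ha₀def⟩ : ∃ a₀, a₀ = f₂ • a₁ := ⟨_, rfl⟩
  obtain ⟨b₀, hb₀def⟩ : ∃ b₀, b₀ = f₁ • b₁ := ⟨_, rfl⟩
  have ha₀ : a₀.map (algebraMap A[X] At) = (algebraMap A[X] At) f • a := by
    rw [ha₀def, QPatchH4.map_smul', ha₁, smul_smul, hfdef, map_mul, mul_comm]
  have hb₀ : b₀.map (algebraMap A[X] At) = (algebraMap A[X] At) f • b := by
    rw [hb₀def, QPatchH4.map_smul', hb₁, smul_smul, hfdef, map_mul]
  have hinj : Function.Injective (algebraMap A[X] At) :=
    IsLocalization.injective At (fun x hx => ((hM x).1 hx).mem_nonZeroDivisors)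
  have hEt : (e.map Polynomial.C).map (algebraMap A[X] At) = eb := by
    rw [hebdef]
    refine Matrix.ext fun i j => ?_
    simp only [Matrix.map_apply]
    rw [Polynomial.C_eq_algebraMap, ← IsScalarTower.algebraMap_apply]
  have hE't : (e'.map Polynomial.C).map (algebraMap A[X] At) = eb' := by
    rw [heb'def]
    refine Matrix.ext fun i j => ?_
    simp only [Matrix.map_apply]
    rw [Polynomial.C_eq_algebraMap, ← IsScalarTower.algebraMap_apply]
  have H1 : a₀ * e.map Polynomial.C = a₀ := by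
    refine Matrix.map_injective hinj ?_
    show (a₀ * e.map Polynomial.C).map (algebraMap A[X] At) = a₀.map (algebraMap A[X] At)
    rw [Matrix.map_mul, ha₀, hEt, Matrix.smul_mul, q1]
  have H2 : e'.map Polynomial.C * a₀ = a₀ := by
    refine Matrix.map_injective hinj ?_
    show (e'.map Polynomial.C * a₀).map (algebraMap A[X] At) = a₀.map (algebraMap A[X] At)
    rw [Matrix.map_mul, ha₀, hE't, Matrix.mul_smul, q2]
  have H3 : e.map Polynomial.C * b₀ = b₀ := by
    refine Matrix.map_injective hinj ?_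
    show (e.map Polynomial.C * b₀).map (algebraMap A[X] At) = b₀.map (algebraMap A[X] At)
    rw [Matrix.map_mul, hb₀, hEt, Matrix.mul_smul, q3]
  have H4 : b₀ * e'.map Polynomial.C = b₀ := by
    refine Matrix.map_injective hinj ?_
    show (b₀ * e'.map Polynomial.C).map (algebraMap A[X] At) = b₀.map (algebraMap A[X] At)
    rw [Matrix.map_mul, hb₀, hE't, Matrix.smul_mul, q4]
  have H5 : b₀ * a₀ = (f ^ 2) • e.map Polynomial.C := by
    refine Matrix.map_injective hinj ?_
    show (b₀ * a₀).map (algebraMap A[X] At) =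
      ((f ^ 2) • e.map Polynomial.C).map (algebraMap A[X] At)
    rw [Matrix.map_mul, hb₀, ha₀, Matrix.smul_mul, Matrix.mul_smul, smul_smul, q5,
      QPatchH4.map_smul', hEt, map_pow, pow_two]
  have H6 : a₀ * b₀ = (f ^ 2) • e'.map Polynomial.C := by
    refine Matrix.map_injective hinj ?_
    show (a₀ * b₀).map (algebraMap A[X] At) =
      ((f ^ 2) • e'.map Polynomial.C).map (algebraMap A[X] At)
    rw [Matrix.map_mul, hb₀, ha₀, Matrix.smul_mul, Matrix.mul_smul, smul_smul, q6,
      QPatchH4.map_smul', hE't, map_pow, pow_two]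
  have hfm : f.Monic := (hM f).1 (by rw [hfdef]; exact mul_mem hf₁ hf₂)
  obtain ⟨F, G, hGF, hFG⟩ := monic_descent_matrix e e' he he' f hfm a₀ b₀ H1 H2 H3 H4 H5 H6
  -- the isomorphism
  have hev : ∀ x, e *ᵥ x = i (p x) := fun x => by
    rw [hedef]; exact LinearMap.toMatrix'_mulVec _ _
  have he'v : ∀ x, e' *ᵥ x = i' (p' x) := fun x => by
    rw [he'def]; exact LinearMap.toMatrix'_mulVec _ _
  have hFeG : F * e * G = e' := by
    rw [← hGF, ← Matrix.mul_assoc, hFG, Matrix.mul_assoc, hFG, he']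
  have hGe'F : G * e' * F = e := by
    rw [← hFG, ← Matrix.mul_assoc, hGF, Matrix.mul_assoc, hGF, he]
  refine ⟨LinearEquiv.ofLinearMap (p' ∘ₗ Matrix.toLin' F ∘ₗ i) (p ∘ₗ Matrix.toLin' G ∘ₗ i')
    ?_ ?_⟩
  · refine LinearMap.ext fun x => ?_
    show p' (F *ᵥ i (p (G *ᵥ i' x))) = x
    have key : F *ᵥ (e *ᵥ (G *ᵥ i' x)) = (F * e * G) *ᵥ i' x := by
      rw [Matrix.mulVec_mulVec, Matrix.mulVec_mulVec, Matrix.mul_assoc]
    rw [← hev, key, hFeG, he'v, hpiA', hpiA']
  · refine LinearMap.ext fun x => ?_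
    show p (G *ᵥ i' (p' (F *ᵥ i x))) = x
    have key : G *ᵥ (e' *ᵥ (F *ᵥ i x)) = (G * e' * F) *ᵥ i x := by
      rw [Matrix.mulVec_mulVec, Matrix.mulVec_mulVec, Matrix.mul_assoc]
    rw [← he'v, key, hGe'F, hev, hpiA, hpiA]

end Groth.Agent.Lib.HorrocksH4
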