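import Mathlib
import Groth.Agent.Lib.HorseshoeCx_helper9

/-!
# Projective horseshoe lemma for bounded above complexes (helper9)

Dual of `HorseshoeCx.horseshoe`; the existence of epimorphic projective resolutions of bounded
above complexes is obtained from the injective case in the opposite category.
-/

namespace Groth.Agent.Lib.HorseshoeProj

open CategoryTheory CategoryTheory.Limits Opposite

universe v u

variable {A : Type u} [Category.{v} A] [Abelian A]

/-! ### Transfer through the opposite category -/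

section Op

lemma quasiIso_restriction {L₁ L₂ : CochainComplex Aᵒᵖ ℤ} (g : L₁ ⟶ L₂) [QuasiIso g] :
    QuasiIso ((ComplexShape.embeddingDownIntUpInt.restrictionFunctor Aᵒᵖ).map g) := by
  rw [quasiIso_iff]
  intro j
  have h : QuasiIsoAt g (-j) := inferInstance
  rw [quasiIsoAt_iff' _ (-(j + 1)) (-j) (-(j - 1)) (by simp; ring) (by simp; ring)] at h
  rw [quasiIsoAt_iff' _ (j + 1) j (j - 1) (by simp) (by simp)]
  exact h

lemma quasiIso_opInverse {X Y : HomologicalComplex Aᵒᵖ (ComplexShape.up ℤ).symm} (f : X ⟶ Y)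
    [QuasiIso f] :
    QuasiIso ((HomologicalComplex.opInverse A (ComplexShape.up ℤ)).map f).unop := by
  rw [← HomologicalComplex.quasiIso_opFunctor_map_iff]
  have h : (HomologicalComplex.opFunctor A (ComplexShape.up ℤ)).map
      (((HomologicalComplex.opInverse A (ComplexShape.up ℤ)).map f).unop).op =
      (HomologicalComplex.opCounitIso A (ComplexShape.up ℤ)).hom.app X ≫ f ≫
        (HomologicalComplex.opCounitIso A (ComplexShape.up ℤ)).inv.app Y := by
    rw [Quiver.Hom.op_unop]
    have := (HomologicalComplex.opCounitIso A (ComplexShape.up ℤ)).hom.naturality f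
    dsimp only [Functor.comp_map, Functor.id_map] at this
    rw [← Category.assoc, ← this, Category.assoc, Iso.hom_inv_id_app, Category.comp_id]
  rw [h]
  infer_instance

lemma projective_of_retract {X Y : A} (s : X ⟶ Y) (r : Y ⟶ X) (h : s ≫ r = 𝟙 X)
    [Projective Y] : Projective X where
  factors f e _ := ⟨s ≫ Projective.factorThru (r ≫ f) e, by
    rw [Category.assoc, Projective.factorThru_comp, ← Category.assoc, h, Category.id_comp]⟩

set_option backward.isDefEq.respectTransparency false in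
/-- A complex strictly `≤ n` admits an epimorphic quasi-isomorphism from a complex of projectives
strictly `≤ n`. -/
theorem exists_epi_quasiIso_projective_le [EnoughProjectives A] (K : CochainComplex A ℤ) (n : ℤ)
    [K.IsStrictlyLE n] :
    ∃ (P : CochainComplex A ℤ) (p : P ⟶ K), Epi p ∧ QuasiIso p ∧ (∀ q, Projective (P.X q)) ∧
      P.IsStrictlyLE n := by
  let E := CochainComplex.opEquivalence A
  let L : CochainComplex Aᵒᵖ ℤ := E.functor.obj (op K)
  haveI : L.IsStrictlyGE (-n) := by
    rw [CochainComplex.isStrictlyGE_iff]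
    intro i hi
    exact (K.isZero_of_isStrictlyLE n (-i) (by omega)).op
  obtain ⟨I, i, hi, hq, hI, hIn⟩ := HorseshoeCx.exists_mono_quasiIso_injective_ge L (-n)
  let R := (ComplexShape.embeddingDownIntUpInt.restrictionFunctor Aᵒᵖ)
  let P : CochainComplex A ℤ := (E.inverse.obj I).unop
  let p₁ : P ⟶ (E.inverse.obj L).unop := (E.inverse.map i).unop
  let p₂ : (E.inverse.obj L).unop ⟶ K := (E.unit.app (op K)).unop
  haveI : QuasiIso p₁ := by
    haveI := quasiIso_restriction i
    exact quasiIso_opInverse (R.map i)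
  haveI : Mono (E.inverse.map i) := inferInstance
  haveI : Epi p₁ := unop_epi_of_mono (E.inverse.map i)
  haveI : IsIso p₂ := inferInstanceAs (IsIso (E.unit.app (op K)).unop)
  refine ⟨P, p₁ ≫ p₂, epi_comp _ _, inferInstance, fun q => ?_, ?_⟩
  · haveI := hI (-q)
    exact inferInstanceAs (Projective (unop (I.X (-q))))
  · rw [CochainComplex.isStrictlyLE_iff]
    intro q hq'
    exact (I.isZero_of_isStrictlyGE (-n) (-q) (by omega)).unop

end Op

/-! ### Five lemma for the first term -/

section Five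

open ComposableArrows Abelian HomologicalComplex HomologySequence

variable {S₁ S₂ : ShortComplex (CochainComplex A ℤ)} (φ : S₁ ⟶ S₂)
  (hS₁ : S₁.ShortExact) (hS₂ : S₂.ShortExact)

include hS₁ hS₂ in
lemma quasiIso_τ₁ (h₂ : QuasiIso φ.τ₂) (h₃ : QuasiIso φ.τ₃) : QuasiIso φ.τ₁ := by
  rw [quasiIso_iff]
  intro j
  rw [quasiIsoAt_iff_isIso_homologyMap]
  have hij : (ComplexShape.up ℤ).Rel (j - 1) j := by simp
  have hm : Mono (homologyMap φ.τ₁ j) := by
    apply mono_of_epi_of_mono_of_mono
      ((δ₀Functor ⋙ δlastFunctor).map (mapComposableArrows₅ φ hS₁ hS₂ (j - 1) j hij))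
    · exact (composableArrows₅_exact hS₁ (j - 1) j hij).δ₀.δlast
    · exact (composableArrows₅_exact hS₂ (j - 1) j hij).δ₀.δlast
    · exact (inferInstance : Epi (homologyMap φ.τ₂ (j - 1)))
    · exact (inferInstance : Mono (homologyMap φ.τ₃ (j - 1)))
    · exact (inferInstance : Mono (homologyMap φ.τ₂ j))
  have he : Epi (homologyMap φ.τ₁ j) := by
    apply epi_of_epi_of_epi_of_mono
      ((δ₀Functor ⋙ δ₀Functor).map (mapComposableArrows₅ φ hS₁ hS₂ (j - 1) j hij))
    · exact (composableArrows₅_exact hS₁ (j - 1) j hij).δ₀.δ₀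
    · exact (composableArrows₅_exact hS₂ (j - 1) j hij).δ₀.δ₀
    · exact (inferInstance : Epi (homologyMap φ.τ₃ (j - 1)))
    · exact (inferInstance : Epi (homologyMap φ.τ₂ j))
    · exact (inferInstance : Mono (homologyMap φ.τ₃ j))
  exact isIso_of_mono_of_epi _

end Five

/-! ### Short exact sequences of complexes: bounds, projectivity, pullbacks -/

section SES

variable {S : ShortComplex (CochainComplex A ℤ)} (hS : S.ShortExact)

include hS in
lemma isStrictlyLE_X₂ (n : ℤ) [S.X₁.IsStrictlyLE n] [S.X₃.IsStrictlyLE n] :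
    S.X₂.IsStrictlyLE n := by
  rw [CochainComplex.isStrictlyLE_iff]
  intro i hi
  have h := hS.map_of_exact (HomologicalComplex.eval A (ComplexShape.up ℤ) i)
  exact h.exact.isZero_X₂ ((S.X₁.isZero_of_isStrictlyLE n i hi).eq_of_src _ _)
    ((S.X₃.isZero_of_isStrictlyLE n i hi).eq_of_tgt _ _)

include hS in
lemma isStrictlyLE_X₁ (n : ℤ) [S.X₂.IsStrictlyLE n] : S.X₁.IsStrictlyLE n := by
  rw [CochainComplex.isStrictlyLE_iff]
  intro i hi
  have h := hS.map_of_exact (HomologicalComplex.eval A (ComplexShape.up ℤ) i)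
  exact @IsZero.of_mono _ _ _ _ _ (S.f.f i) h.mono_f (S.X₂.isZero_of_isStrictlyLE n i hi)

include hS in
lemma projective_X₁ (q : ℤ) [Projective (S.X₂.X q)] [Projective (S.X₃.X q)] :
    Projective (S.X₁.X q) := by
  have h := hS.map_of_exact (HomologicalComplex.eval A (ComplexShape.up ℤ) q)
  haveI := h.mono_f
  haveI := h.epi_g
  haveI : Projective (S.map (HomologicalComplex.eval A (ComplexShape.up ℤ) q)).X₃ :=
    (inferInstance : Projective (S.X₃.X q))
  let σ := ShortComplex.Splitting.ofExactOfSection _ h.exact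
    (Projective.factorThru (𝟙 _) (S.map (HomologicalComplex.eval A (ComplexShape.up ℤ) q)).g)
    (by simp) inferInstance
  exact projective_of_retract (Y := S.X₂.X q) (S.f.f q) σ.r σ.f_r

end SES

section Pullback

variable {𝒞 : Type*} [Category 𝒞] [Abelian 𝒞] {S : ShortComplex 𝒞} (hS : S.ShortExact)
  {Y : 𝒞} (c : Y ⟶ S.X₃)

/-- The map from `S.X₁` to the pullback of `S.g` along `c`. -/
noncomputable def pullbackLift : S.X₁ ⟶ pullback S.g c :=
  pullback.lift S.f 0 (by rw [S.zero, zero_comp])

@[reassoc (attr := simp)]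
lemma pullbackLift_fst : pullbackLift c ≫ pullback.fst S.g c = S.f := pullback.lift_fst _ _ _

@[reassoc (attr := simp)]
lemma pullbackLift_snd : pullbackLift c ≫ pullback.snd S.g c = 0 := pullback.lift_snd _ _ _

/-- The pulled-back short complex `S.X₁ ⟶ pullback ⟶ Y`. -/
noncomputable abbrev pullbackSC : ShortComplex 𝒞 :=
  ShortComplex.mk (pullbackLift c) (pullback.snd S.g c) (pullbackLift_snd c)

include hS in
lemma pullbackSC_shortExact : (pullbackSC (S := S) c).ShortExact := by
  haveI := hS.mono_f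
  haveI := hS.epi_g
  haveI : Mono (pullbackLift (S := S) c) := mono_of_mono_fac (pullbackLift_fst c)
  refine { exact := ?_, mono_f := ‹_›, epi_g := (inferInstance : Epi (pullback.snd S.g c)) }
  refine ShortComplex.exact_of_f_is_kernel _ ?_
  refine KernelFork.IsLimit.ofι _ _
    (fun {W} h hh => hS.exact.lift (h ≫ pullback.fst S.g c) (by
      rw [Category.assoc, pullback.condition, ← Category.assoc, hh, zero_comp]))
    (fun {W} h hh => ?_) (fun {W} h hh m hm => ?_)
  · apply pullback.hom_ext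
    · rw [Category.assoc, pullbackLift_fst, ShortComplex.Exact.lift_f]
    · rw [Category.assoc, pullbackLift_snd, comp_zero]; exact hh.symm
  · rw [← cancel_mono S.f, ShortComplex.Exact.lift_f, ← hm, Category.assoc, pullbackLift_fst]

/-- The morphism from the pulled-back short complex to `S`. -/
noncomputable def fromPullbackSC : pullbackSC (S := S) c ⟶ S :=
  ShortComplex.homMk (𝟙 _) (pullback.fst S.g c) c
    (by rw [Category.id_comp, pullbackLift_fst]) pullback.condition

end Pullback

/-! ### The projective horseshoe lemma -/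

theorem horseshoe [EnoughProjectives A] (S : ShortComplex (CochainComplex A ℤ))
    (hS : S.ShortExact) (n : ℤ)
    [S.X₁.IsStrictlyLE n] [S.X₂.IsStrictlyLE n] [S.X₃.IsStrictlyLE n] :
    ∃ (T : ShortComplex (CochainComplex A ℤ)) (φ : T ⟶ S), T.ShortExact ∧
      T.X₁.IsStrictlyLE n ∧ T.X₂.IsStrictlyLE n ∧ T.X₃.IsStrictlyLE n ∧
      (∀ k : ℤ, Projective (T.X₁.X k) ∧ Projective (T.X₂.X k) ∧ Projective (T.X₃.X k)) ∧
      QuasiIso φ.τ₁ ∧ QuasiIso φ.τ₂ ∧ QuasiIso φ.τ₃ := by
  haveI := hS.mono_f
  haveI := hS.epi_g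
  obtain ⟨P₃, c, _, hc, hP₃, hP₃n⟩ := exists_epi_quasiIso_projective_le S.X₃ n
  have hS' := pullbackSC_shortExact hS c
  haveI : (pullbackSC (S := S) c).X₃.IsStrictlyLE n := hP₃n
  haveI : (pullbackSC (S := S) c).X₁.IsStrictlyLE n := (inferInstance : S.X₁.IsStrictlyLE n)
  haveI hPn : (pullback S.g c).IsStrictlyLE n := isStrictlyLE_X₂ hS' n
  obtain ⟨P₂, b, hbe, hb, hP₂, hP₂n⟩ := exists_epi_quasiIso_projective_le (pullback S.g c) n
  haveI : Epi (pullback.snd S.g c) := inferInstance
  let u : P₂ ⟶ P₃ := b ≫ pullback.snd S.g c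
  haveI : Epi u := epi_comp _ _
  let T : ShortComplex (CochainComplex A ℤ) :=
    ShortComplex.mk (kernel.ι u) u (kernel.condition u)
  have hT : T.ShortExact :=
    { exact := ShortComplex.exact_of_f_is_kernel _ (kernelIsKernel u)
      mono_f := (inferInstance : Mono (kernel.ι u))
      epi_g := (inferInstance : Epi u) }
  haveI := hS'.mono_f
  let a : kernel u ⟶ S.X₁ := hS'.exact.lift (kernel.ι u ≫ b) (by
    change (kernel.ι u ≫ b) ≫ pullback.snd S.g c = 0
    rw [Category.assoc]; exact kernel.condition u)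
  have ha : a ≫ pullbackLift c = kernel.ι u ≫ b := hS'.exact.lift_f _ _
  let ψ : T ⟶ pullbackSC (S := S) c :=
    ShortComplex.homMk a b (𝟙 _) ha (Category.comp_id _).symm
  have haq : QuasiIso a :=
    quasiIso_τ₁ ψ hT hS' hb (inferInstanceAs (QuasiIso (𝟙 P₃)))
  have hfst : QuasiIso (pullback.fst S.g c) :=
    HorseshoeCx.quasiIso_τ₂ (fromPullbackSC c) hS' hS (inferInstanceAs (QuasiIso (𝟙 S.X₁))) hc
  haveI : T.X₂.IsStrictlyLE n := hP₂n
  have hP₁n : T.X₁.IsStrictlyLE n := isStrictlyLE_X₁ hT n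
  refine ⟨T, ψ ≫ fromPullbackSC c, hT, hP₁n, hP₂n, hP₃n, fun k => ⟨?_, hP₂ k, hP₃ k⟩, ?_, ?_, ?_⟩
  · haveI : Projective (T.X₂.X k) := hP₂ k
    haveI : Projective (T.X₃.X k) := hP₃ k
    exact projective_X₁ hT k
  · change QuasiIso (a ≫ 𝟙 _)
    rw [Category.comp_id]; exact haq
  · change QuasiIso (b ≫ pullback.fst S.g c)
    infer_instance
  · change QuasiIso (𝟙 _ ≫ c)
    rw [Category.id_comp]; exact hc

end Groth.Agent.Lib.HorseshoeProj
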