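import Mathlib
import Groth.Prelude.Def_Wider
import Groth.Agent.Lib.LocCohAff1_helper9
import Groth.Agent.Lib.AffVanish_helper9
import Groth.Agent.S0380
import Groth.Agent.S11626

/-!
# Complement of an affine open in a Noetherian affine scheme has codimension ≤ 1 (helper9)
APPEND-ONLY once landed.
-/

set_option autoImplicit false
universe u
open AlgebraicGeometry CategoryTheory TopologicalSpace

namespace HtAff

/-- if the punctured open `Spec A ∖ V(I)` is affine then `cd(A, I) ≤ 1`. -/
theorem cdLE_one_of_isAffineOpen (A : Type u) [CommRing A] [IsNoetherianRing A] (I : Ideal A)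
    (h : IsAffineOpen (LocCoh.puncturedOpen A I)) : LocCoh.CdLE A I 1 := by
  intro M _ _ i hi
  obtain ⟨j, rfl⟩ : ∃ j, i = j + 1 + 1 := ⟨i - 2, by omega⟩
  obtain ⟨e⟩ := LocCohAff.nonempty_HH_punctured_H A I M (j + 1) (by omega)
  haveI : IsAffine (↑(LocCoh.puncturedOpen A I) : Scheme.{u}) := h
  haveI : ((tilde (R := CommRingCat.of A) (ModuleCat.of A M)).restrict
      (LocCoh.puncturedOpen A I).ι).IsQuasicoherent := inferInstance
  haveI := AffVanish.HH_subsingleton_of_isAffine (↑(LocCoh.puncturedOpen A I) : Scheme.{u})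
    ((tilde (R := CommRingCat.of A) (ModuleCat.of A M)).restrict (LocCoh.puncturedOpen A I).ι) j
  exact e.symm.injective.subsingleton

/-- `cd(A, I) ≤ 1` forces minimal primes over `I` to have height `≤ 1`. -/
theorem height_le_one_of_cdLE_one (A : Type u) [CommRing A] [IsNoetherianRing A] (I : Ideal A)
    (hcd : LocCoh.CdLE A I 1) (p : Ideal A) (hp : p ∈ I.minimalPrimes) : p.height ≤ 1 := by
  haveI : p.IsPrime := hp.1.1
  have hIp : I ≤ p := hp.1.2
  let R := Localization.AtPrime p
  let J : Ideal R := I.map (algebraMap A R)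
  have hcd' : LocCoh.CdLE R J 1 := (Groth.Agent.S0380.result A I 1).mp hcd p
  have hm : Ideal.map (algebraMap A R) p = IsLocalRing.maximalIdeal R :=
    Localization.AtPrime.map_eq_maximalIdeal
  have hJm : J ≤ IsLocalRing.maximalIdeal R := by
    rw [← hm]
    exact Ideal.map_mono hIp
  have hJ : J ≠ ⊤ := fun h => (IsLocalRing.maximalIdeal.isMaximal R).ne_top (top_le_iff.mp (h ▸ hJm))
  have hmin : ∀ q ∈ J.minimalPrimes, q = IsLocalRing.maximalIdeal R := by
    intro q hq
    haveI : q.IsPrime := hq.1.1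
    have h1 : I ≤ q.comap (algebraMap A R) := Ideal.map_le_iff_le_comap.mp hq.1.2
    have h2 : q.comap (algebraMap A R) ≤ p := by
      have h3 : q ≤ IsLocalRing.maximalIdeal R := IsLocalRing.le_maximalIdeal hq.1.1.ne_top
      have h4 := Ideal.comap_mono (f := algebraMap A R) h3
      have h7 : (IsLocalRing.maximalIdeal R).comap (algebraMap A R) = p :=
        Localization.AtPrime.under_maximalIdeal (I := p)
      rw [h7] at h4
      exact h4
    have h5 : p ≤ q.comap (algebraMap A R) := hp.2 ⟨inferInstance, h1⟩ h2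
    have h6 : q.comap (algebraMap A R) = p := le_antisymm h2 h5
    have h8 : (q.comap (algebraMap A R)).map (algebraMap A R) = q :=
      IsLocalization.map_under p.primeCompl R q
    rw [← h8, h6, hm]
  have hht : J.height = (IsLocalRing.maximalIdeal R).height := by
    apply le_antisymm (Ideal.height_mono hJm)
    rw [Ideal.height_eq_inf_minimalPrimes J]
    refine le_iInf₂ (fun q hq => ?_)
    rw [hmin q hq]
  have hpht : ((IsLocalRing.maximalIdeal R).height : WithBot ℕ∞) = p.height := by
    rw [IsLocalRing.maximalIdeal_height_eq_ringKrullDim,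
      IsLocalization.AtPrime.ringKrullDim_eq_height p R]
  have hpht' : (IsLocalRing.maximalIdeal R).height = p.height := by
    exact_mod_cast hpht
  have hfin : J.height ≠ ⊤ := Ideal.height_ne_top hJ
  obtain ⟨h, hh⟩ : ∃ h : ℕ, J.height = h := ⟨J.height.toNat, (ENat.natCast_toNat hfin).symm⟩
  haveI := Groth.Agent.S11626.result R J hJ h hh
  have hle : h ≤ 1 := by
    by_contra hlt
    push Not at hlt
    haveI := hcd' R h hlt
    exact not_subsingleton (LocCoh.H J h R) inferInstance
  rw [← hpht', ← hht, hh]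
  exact_mod_cast hle

/-- S5161 core. -/
theorem height_le_one_of_isAffineOpen (A : Type u) [CommRing A] [IsNoetherianRing A]
    (U : (Spec (CommRingCat.of A)).Opens) (hU : IsAffineOpen U) (p : PrimeSpectrum A)
    (hpU : (p : (Spec (CommRingCat.of A) : Type u)) ∉ (U : Set (Spec (CommRingCat.of A) : Type u)))
    (hmin : ∀ q : PrimeSpectrum A, q.asIdeal ≤ p.asIdeal →
      (q : (Spec (CommRingCat.of A) : Type u)) ∉ (U : Set (Spec (CommRingCat.of A) : Type u)) →
        q = p) : p.asIdeal.height ≤ 1 := by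
  let Y : Set (PrimeSpectrum A) := (U.1 : Set (PrimeSpectrum A))ᶜ
  have hYc : IsClosed Y := U.2.isClosed_compl
  let I : Ideal A := PrimeSpectrum.vanishingIdeal Y
  have hz : PrimeSpectrum.zeroLocus (I : Set A) = Y := by
    rw [PrimeSpectrum.zeroLocus_vanishingIdeal_eq_closure, hYc.closure_eq]
  have hUe : LocCoh.puncturedOpen A I = U := by
    apply Opens.ext
    show (PrimeSpectrum.zeroLocus (R := A) (I : Set A))ᶜ = _
    rw [hz]
    exact compl_compl _
  have hcd := cdLE_one_of_isAffineOpen A I (hUe ▸ hU)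
  apply height_le_one_of_cdLE_one A I hcd
  refine ⟨⟨p.2, ?_⟩, ?_⟩
  · have : p ∈ PrimeSpectrum.zeroLocus (I : Set A) := by
      rw [hz]
      exact hpU
    exact this
  · rintro q ⟨hq, hIq⟩ hqp
    have hqY : (⟨q, hq⟩ : PrimeSpectrum A) ∈ Y := by
      rw [← hz]
      exact hIq
    have := hmin ⟨q, hq⟩ hqp hqY
    rw [← this]

end HtAff
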