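import Mathlib
import Groth.Agent.Lib.DerCoprod_helper9
import Groth.Agent.Lib.FunInjCx_helper9

/-!
# A functorial embedding killing (up to homotopy) all maps from a family of acyclic complexes
(helper9)

`N(M) = cone (∐_{(i, w : K i ⟶ M)} K i ⟶ M)`.
-/

namespace Groth.Agent.Lib.HtpyKill

open CategoryTheory CategoryTheory.Limits CochainComplex HomComplex ZeroObject

universe v u

section general

variable {A : Type u} [Category.{v} A] [Abelian A]

lemma quasiIso_inr_of_exactAt {P M : CochainComplex A ℤ} (φ : P ⟶ M)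
    (hP : ∀ n, P.ExactAt n) : QuasiIso (mappingCone.inr φ) := by
  have h1 : (HomotopyCategory.subcategoryAcyclic A).trW
      ((HomotopyCategory.quotient _ _).map (mappingCone.inr φ)) :=
    ObjectProperty.trW.mk' (HomotopyCategory.subcategoryAcyclic A) (T := mappingCone.triangleh φ)
      (HomotopyCategory.mappingCone_triangleh_distinguished φ)
      ((HomotopyCategory.quotient_obj_mem_subcategoryAcyclic_iff_exactAt P).2 hP)
  rw [← HomotopyCategory.quasiIso_eq_trW_subcategoryAcyclic,
    HomotopyCategory.quotient_map_mem_quasiIso_iff] at h1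
  exact (HomologicalComplex.mem_quasiIso_iff _).1 h1

instance mono_inr_f {P M : CochainComplex A ℤ} (φ : P ⟶ M) (n : ℤ) :
    Mono ((mappingCone.inr φ).f n) :=
  mono_of_mono_fac (mappingCone.inr_f_snd_v φ n)

/-- `φ ≫ inr φ` is null-homotopic -/
noncomputable def inrCompHomotopy {P M : CochainComplex A ℤ} (φ : P ⟶ M) :
    Homotopy (φ ≫ mappingCone.inr φ) 0 :=
  HomologicalComplex.homotopyCofiber.inrCompHomotopy φ (fun j => ⟨j - 1, by simp⟩)

lemma exactAt_zero (n : ℤ) : (0 : CochainComplex A ℤ).ExactAt n := by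
  apply ShortComplex.exact_of_isZero_X₂
  exact Functor.map_isZero (HomologicalComplex.eval A (ComplexShape.up ℤ) n)
    (isZero_zero (CochainComplex A ℤ))

lemma exactAt_sig {J : Type v} [HasColimitsOfShape (Discrete J) A]
    [HasExactColimitsOfShape (Discrete J) A] (K : J → CochainComplex A ℤ)
    (hK : ∀ j n, (K j).ExactAt n) (n : ℤ) : (DerCoprod.sig K).ExactAt n := by
  let s : ∀ j, (0 : CochainComplex A ℤ) ⟶ K j := fun _ => 0
  haveI : ∀ j, QuasiIso (s j) := fun j => by
    rw [quasiIso_iff]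
    intro m
    rw [quasiIsoAt_iff_exactAt _ _ (exactAt_zero m)]
    exact hK j m
  haveI := DerCoprod.quasiIso_sigMap s
  have h0 : (DerCoprod.sig (fun _ : J => (0 : CochainComplex A ℤ))).ExactAt n := by
    apply ShortComplex.exact_of_isZero_X₂
    rw [IsZero.iff_id_eq_zero]
    apply DerCoprod.homX_ext
    intro j
    have hz : IsZero ((0 : CochainComplex A ℤ).X n) :=
      Functor.map_isZero (HomologicalComplex.eval A (ComplexShape.up ℤ) n)
        (isZero_zero (CochainComplex A ℤ))
    exact hz.eq_of_src _ _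
  have hq : QuasiIsoAt (DerCoprod.sigMap s) n := inferInstance
  exact (quasiIsoAt_iff_exactAt _ _ h0).1 hq

end general

variable {A : Type u} [Category.{v} A] [Abelian A] [IsGrothendieckAbelian.{v} A]
  {ι : Type v} (K : ι → CochainComplex A ℤ)

/-- index set: pairs of an index and a map to `M` -/
abbrev Idx (M : CochainComplex A ℤ) : Type v := Σ i : ι, (K i ⟶ M)

/-- the family -/
abbrev Fam (M : CochainComplex A ℤ) : Idx K M → CochainComplex A ℤ := fun p => K p.1

/-- the coproduct of all `K i` over all maps to `M` -/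
noncomputable def P (M : CochainComplex A ℤ) : CochainComplex A ℤ := DerCoprod.sig (Fam K M)

/-- inclusion of a summand -/
noncomputable def inc {M : CochainComplex A ℤ} (i : ι) (w : K i ⟶ M) : K i ⟶ P K M :=
  DerCoprod.ι (Fam K M) ⟨i, w⟩

/-- the evaluation map -/
noncomputable def ev (M : CochainComplex A ℤ) : P K M ⟶ M :=
  DerCoprod.desc (K := Fam K M) (fun p => p.2)

@[reassoc (attr := simp)]
lemma inc_ev {M : CochainComplex A ℤ} (i : ι) (w : K i ⟶ M) : inc K i w ≫ ev K M = w :=
  DerCoprod.ι_desc (K := Fam K M) (fun p => p.2) ⟨i, w⟩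

lemma P_hom_ext {M L : CochainComplex A ℤ} {a b : P K M ⟶ L}
    (h : ∀ (i : ι) (w : K i ⟶ M), inc K i w ≫ a = inc K i w ≫ b) : a = b :=
  DerCoprod.hom_ext (K := Fam K M) (fun p => h p.1 p.2)

/-- functoriality -/
noncomputable def PMap {M M' : CochainComplex A ℤ} (f : M ⟶ M') : P K M ⟶ P K M' :=
  DerCoprod.desc (K := Fam K M) (fun p => inc K p.1 (p.2 ≫ f))

@[reassoc (attr := simp)]
lemma inc_PMap {M M' : CochainComplex A ℤ} (f : M ⟶ M') (i : ι) (w : K i ⟶ M) :
    inc K i w ≫ PMap K f = inc K i (w ≫ f) :=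
  DerCoprod.ι_desc (K := Fam K M) (fun p => inc K p.1 (p.2 ≫ f)) ⟨i, w⟩

@[simp]
lemma PMap_id (M : CochainComplex A ℤ) : PMap K (𝟙 M) = 𝟙 _ := by
  apply P_hom_ext
  intro i w
  rw [inc_PMap, Category.comp_id, Category.comp_id]

@[simp]
lemma PMap_comp {M M' M'' : CochainComplex A ℤ} (f : M ⟶ M') (g : M' ⟶ M'') :
    PMap K (f ≫ g) = PMap K f ≫ PMap K g := by
  apply P_hom_ext
  intro i w
  rw [inc_PMap, inc_PMap_assoc, inc_PMap, Category.assoc]

@[reassoc]
lemma ev_naturality {M M' : CochainComplex A ℤ} (f : M ⟶ M') :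
    ev K M ≫ f = PMap K f ≫ ev K M' := by
  apply P_hom_ext
  intro i w
  rw [inc_ev_assoc, inc_PMap_assoc, inc_ev]

lemma exactAt_P (hK : ∀ i (n : ℤ), IsZero ((K i).homology n)) (M : CochainComplex A ℤ) (n : ℤ) :
    (P K M).ExactAt n := by
  haveI : HasFiniteBiproducts A := HasFiniteBiproducts.of_hasFiniteProducts
  haveI : HasExactColimitsOfShape (Discrete (Idx K M)) A :=
    hasExactColimitsOfShape_discrete_of_hasExactColimitsOfShape_finset_discrete A (Idx K M)
  exact exactAt_sig (Fam K M)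
    (fun p m => (HomologicalComplex.exactAt_iff_isZero_homology _ _).2 (hK p.1 m)) n

/-- the cone of the evaluation map -/
noncomputable abbrev NK (M : CochainComplex A ℤ) : CochainComplex A ℤ := mappingCone (ev K M)

/-- functoriality -/
noncomputable def NKMap {M M' : CochainComplex A ℤ} (f : M ⟶ M') : NK K M ⟶ NK K M' :=
  mappingCone.map (ev K M) (ev K M') (PMap K f) f (ev_naturality K f)

lemma NKMap_id (M : CochainComplex A ℤ) : NKMap K (𝟙 M) = 𝟙 _ :=
  (FunInjCx.map_congr _ _ (PMap_id K M) rfl _).trans (mappingCone.map_id _)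

lemma NKMap_comp {M M' M'' : CochainComplex A ℤ} (f : M ⟶ M') (g : M' ⟶ M'') :
    NKMap K (f ≫ g) = NKMap K f ≫ NKMap K g :=
  (FunInjCx.map_congr _ _ (PMap_comp K f g) rfl _).trans
    (mappingCone.map_comp _ _ _ _ _ _ _ _ _)

/-- the functor -/
noncomputable def NKF : CochainComplex A ℤ ⥤ CochainComplex A ℤ where
  obj := NK K
  map f := NKMap K f
  map_id M := NKMap_id K M
  map_comp f g := NKMap_comp K f g

/-- the natural transformation -/
noncomputable def jK : 𝟭 (CochainComplex A ℤ) ⟶ NKF K where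
  app M := mappingCone.inr (ev K M)
  naturality M M' f := by
    refine HomologicalComplex.hom_ext _ _ (fun n => ?_)
    exact (FunInjCx.inr_f_map_f (ev K M) (ev K M') (PMap K f) f (ev_naturality K f) n).symm

theorem main (hK : ∀ i (n : ℤ), IsZero ((K i).homology n)) :
    ∃ (N : CochainComplex A ℤ ⥤ CochainComplex A ℤ) (j : 𝟭 _ ⟶ N),
      ∀ M : CochainComplex A ℤ, (∀ n : ℤ, Mono ((j.app M).f n)) ∧ QuasiIso (j.app M) ∧
        ∀ (i : ι) (w : K i ⟶ M), Nonempty (Homotopy (w ≫ j.app M) 0) := by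
  refine ⟨NKF K, jK K, fun M => ⟨fun n => ?_, ?_, fun i w => ⟨?_⟩⟩⟩
  · exact mono_inr_f (ev K M) n
  · exact quasiIso_inr_of_exactAt (ev K M) (exactAt_P K hK M)
  · have e : w ≫ (jK K).app M = inc K i w ≫ ev K M ≫ mappingCone.inr (ev K M) := by
      rw [inc_ev_assoc]
      rfl
    exact (Homotopy.ofEq e).trans
      (((inrCompHomotopy (ev K M)).compLeft (inc K i w)).trans (Homotopy.ofEq comp_zero))

end Groth.Agent.Lib.HtpyKill
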