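import Mathlib
import Groth.Prelude.Def_CAlg
import Groth.Agent.Lib.Depth_helper5
import Groth.Agent.Lib.DepthHom_helper5

set_option autoImplicit false
set_option linter.style.haveILetI false
universe u

namespace Groth.Agent.Lib.HullBC2H5

open Groth.Agent.DepthLib

section bij

variable {R : Type u} [CommRing R] [IsNoetherianRing R] (I : Ideal R)
  {P Q : Type u} [AddCommGroup P] [Module R P] [Module.Finite R P]
  [AddCommGroup Q] [Module R Q] [Module.Finite R Q]

/-- a map which is an isomorphism up to multiplication by elements outside every prime not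
containing `I`, from a module of `I`-depth `≥ 2` to a module of `I`-depth `≥ 1`, is bijective -/
theorem bijective_of_depth (Φ : P →ₗ[R] Q)
    (hP : 2 ≤ LocCoh.idealDepth I P) (hQ : 1 ≤ LocCoh.idealDepth I Q)
    (h : ∀ 𝔭 : Ideal R, 𝔭.IsPrime → ¬ I ≤ 𝔭 → ∃ s : R, s ∉ 𝔭 ∧ ∃ Ψ : Q →ₗ[R] P,
      (∀ x, Ψ (Φ x) = s • x) ∧ (∀ y, Φ (Ψ y) = s • y)) :
    Function.Bijective Φ := by
  have hP1 : 1 ≤ LocCoh.idealDepth I P := le_trans (by norm_num) hP
  have hinj : Function.Injective Φ := by
    rw [← LinearMap.ker_eq_bot]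
    by_contra hne
    set K := LinearMap.ker Φ with hK
    haveI : Nontrivial K := Submodule.nontrivial_iff_ne_bot.2 hne
    obtain ⟨𝔭, h𝔭⟩ := associatedPrimes.nonempty R K
    have h𝔭P : 𝔭 ∈ associatedPrimes R P :=
      associatedPrimes.subset_of_injective (f := K.subtype) K.injective_subtype h𝔭
    obtain ⟨hprime, k, hk⟩ := isAssociatedPrime_iff.1 h𝔭
    have hmem : ∀ a, a ∈ 𝔭 ↔ a • k = 0 := by
      intro a
      rw [hk, Submodule.mem_colon_singleton, Submodule.mem_bot]
    have hI𝔭 : I ≤ 𝔭 := by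
      by_contra hI𝔭
      obtain ⟨s, hs, Ψ, h1, -⟩ := h 𝔭 hprime hI𝔭
      apply hs
      rw [hmem]
      apply Subtype.ext
      have hk0 : Φ (k : P) = 0 := k.2
      have := h1 (k : P)
      rw [hk0, map_zero] at this
      simpa using this.symm
    exact not_one_le_idealDepth_of_le_associatedPrime I P 𝔭 h𝔭P hI𝔭 hP1
  refine ⟨hinj, ?_⟩
  rw [← LinearMap.range_eq_top]
  by_contra hne
  set Rg := LinearMap.range Φ with hRg
  set C := Q ⧸ Rg with hC
  haveI : Nontrivial C := Submodule.Quotient.nontrivial_iff.2 hne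
  obtain ⟨𝔭, h𝔭⟩ := associatedPrimes.nonempty R C
  obtain ⟨hprime, c, hc⟩ := isAssociatedPrime_iff.1 h𝔭
  have hmem : ∀ a, a ∈ 𝔭 ↔ a • c = 0 := by
    intro a
    rw [hc, Submodule.mem_colon_singleton, Submodule.mem_bot]
  obtain ⟨θ, rfl⟩ := Submodule.Quotient.mk_surjective _ c
  have hI𝔭 : I ≤ 𝔭 := by
    by_contra hI𝔭
    obtain ⟨s, hs, Ψ, -, h2⟩ := h 𝔭 hprime hI𝔭
    apply hs
    rw [hmem, ← Submodule.Quotient.mk_smul, Submodule.Quotient.mk_eq_zero]
    exact ⟨Ψ θ, h2 θ⟩
  have hses := (depth_ses I P Q C Φ Rg.mkQ hinj (Submodule.mkQ_surjective _) (by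
    rw [LinearMap.exact_iff, Submodule.ker_mkQ])).2.1
  have d2 : 1 ≤ LocCoh.idealDepth I P - 1 := by
    apply ENat.le_sub_of_add_le_left (by norm_num)
    exact le_trans (by norm_num) hP
  exact not_one_le_idealDepth_of_le_associatedPrime I C 𝔭 h𝔭 hI𝔭 ((le_min hQ d2).trans hses)

end bij

section sinv

variable {B : Type u} [CommRing B] {M N : Type u} [AddCommGroup M] [Module B M]
  [AddCommGroup N] [Module B N] [Module.FinitePresentation B M] [Module.FinitePresentation B N]

/-- a map of finitely presented modules which is bijective at a prime has an inverse up to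
multiplication by an element outside the prime -/
theorem exists_smul_inverse (g : M →ₗ[B] N) (q : Ideal B) [q.IsPrime]
    (hg : Function.Bijective (LocalizedModule.map q.primeCompl g)) :
    ∃ t : B, t ∉ q ∧ ∃ ψ : N →ₗ[B] M, (∀ x, ψ (g x) = t • x) ∧ (∀ y, g (ψ y) = t • y) := by
  set S := q.primeCompl with hS
  let e := LinearEquiv.ofBijective (LocalizedModule.map S g) hg
  let σ : LocalizedModule S N →ₗ[Localization S] LocalizedModule S M := e.symm.toLinearMap
  let g' : N →ₗ[B] LocalizedModule S M := (σ.restrictScalars B) ∘ₗ LocalizedModule.mkLinearMap S N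
  obtain ⟨ψ₀, s₀, hψ₀⟩ := Module.FinitePresentation.exists_lift_of_isLocalizedModule S
    (LocalizedModule.mkLinearMap S M) g'
  have hσg : ∀ x : M, σ (LocalizedModule.mkLinearMap S N (g x)) =
      LocalizedModule.mkLinearMap S M x := by
    intro x
    have : LocalizedModule.mkLinearMap S N (g x) =
        e (LocalizedModule.mkLinearMap S M x) := by
      simp [e, LocalizedModule.mkLinearMap_apply, LocalizedModule.map_mk]
    rw [this]
    exact e.symm_apply_apply _
  have hgσ : ∀ y : LocalizedModule S N, LocalizedModule.map S g (σ y) = y :=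
    fun y => e.apply_symm_apply y
  have hψ₀' : ∀ y : N, LocalizedModule.mkLinearMap S M (ψ₀ y) =
      (s₀ : B) • σ (LocalizedModule.mkLinearMap S N y) := fun y => LinearMap.congr_fun hψ₀ y
  have hcomp1 : (LocalizedModule.mkLinearMap S M) ∘ₗ (ψ₀ ∘ₗ g) =
      (LocalizedModule.mkLinearMap S M) ∘ₗ ((s₀ : B) • LinearMap.id) := by
    refine LinearMap.ext fun x => ?_
    change LocalizedModule.mkLinearMap S M (ψ₀ (g x)) =
      LocalizedModule.mkLinearMap S M ((s₀ : B) • x)
    rw [hψ₀', hσg, map_smul]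
  have hcomp2 : (LocalizedModule.mkLinearMap S N) ∘ₗ (g ∘ₗ ψ₀) =
      (LocalizedModule.mkLinearMap S N) ∘ₗ ((s₀ : B) • LinearMap.id) := by
    refine LinearMap.ext fun y => ?_
    change LocalizedModule.mkLinearMap S N (g (ψ₀ y)) =
      LocalizedModule.mkLinearMap S N ((s₀ : B) • y)
    have h1 : LocalizedModule.mkLinearMap S N (g (ψ₀ y)) =
        LocalizedModule.map S g (LocalizedModule.mkLinearMap S M (ψ₀ y)) := by
      simp [LocalizedModule.mkLinearMap_apply, LocalizedModule.map_mk]
    rw [h1, hψ₀', LinearMap.map_smul_of_tower, hgσ, map_smul]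
  obtain ⟨s₁, hs₁⟩ := Module.Finite.exists_smul_of_comp_eq_of_isLocalizedModule S
    (LocalizedModule.mkLinearMap S M) _ _ hcomp1
  obtain ⟨s₂, hs₂⟩ := Module.Finite.exists_smul_of_comp_eq_of_isLocalizedModule S
    (LocalizedModule.mkLinearMap S N) _ _ hcomp2
  refine ⟨(s₁ : B) * (s₂ : B) * (s₀ : B), (S.mul_mem (S.mul_mem s₁.2 s₂.2) s₀.2),
    ((s₁ : B) * (s₂ : B)) • ψ₀, ?_, ?_⟩
  · intro x
    have := LinearMap.congr_fun hs₁ x
    simp only [LinearMap.smul_apply, LinearMap.comp_apply, LinearMap.id_apply,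
      Submonoid.smul_def] at this
    rw [LinearMap.smul_apply, mul_comm (s₁ : B) (s₂ : B), mul_smul, this, smul_smul, smul_smul]
  · intro y
    have := LinearMap.congr_fun hs₂ y
    simp only [LinearMap.smul_apply, LinearMap.comp_apply, LinearMap.id_apply,
      Submonoid.smul_def] at this
    rw [LinearMap.smul_apply, map_smul, mul_smul, this, smul_smul, smul_smul]

end sinv

end Groth.Agent.Lib.HullBC2H5
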