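import Mathlib
import Groth.Prelude.Def_CAlg
import Groth.Prelude.Def_EGA4b
import Groth.Prelude.Def_FlatCA
import Groth.Agent.Lib.FibDepth_helper3
import Groth.Agent.Lib.FibDepth2_helper3
import Groth.Agent.Lib.FlatFibDepth_helper3
import Groth.Agent.Lib.DepthHom_helper5

/-!
# Hulls: reflexivity, depth and flatness of the cokernel for a four-term exact sequence with
projective middle terms over a flat base with fibres of depth `≥ 2` along `V(J)` (helper5)

APPEND-ONLY once landed.
-/

set_option autoImplicit false
set_option linter.style.haveILetI false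
universe u

namespace Groth.Agent.Lib.HullCoreH5

open RingTheory.Sequence Pointwise Groth.Agent.DepthLib TensorProduct IsLocalRing
open Groth.Agent.Lib.FibDepthH3 Groth.Agent.Lib.FibDepth2H3 Groth.Agent.Lib.FlatFibDepthH3

section free

/-- `N / I N ≃ (S / I)^r` for a free module of rank `r` -/
theorem le_idealDepth_quot_of_free {S : Type u} [CommRing S] [IsNoetherianRing S] [Nontrivial S]
    (I K : Ideal S)
    (N : Type u) [AddCommGroup N] [Module S N] [Module.Free S N] [Module.Finite S N] (n : ℕ)
    (h : (n : ℕ∞) ≤ LocCoh.idealDepth K (S ⧸ I)) :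
    (n : ℕ∞) ≤ LocCoh.idealDepth K (N ⧸ (I • ⊤ : Submodule S N)) := by
  let b := Module.finBasis S N
  let e : (N ⧸ (I • ⊤ : Submodule S N)) ≃ₗ[S] (Fin (Module.finrank S N) → S ⧸ I) :=
    (TensorProduct.quotTensorEquivQuotSMul N I).symm ≪≫ₗ
      (LinearEquiv.lTensor (S ⧸ I) b.equivFun) ≪≫ₗ
        TensorProduct.piScalarRight S S (S ⧸ I) (Fin (Module.finrank S N))
  rw [idealDepth_congr K _ e]
  exact le_idealDepth_pi K (S ⧸ I) n h _

end free

section proj

variable (A B : Type u) [CommRing A] [CommRing B] [IsNoetherianRing B] [Algebra A B]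
  (E : Type u) [AddCommGroup E] [Module B E] [Module.Finite B E] [Module.Projective B E]

/-- the fibre stalks of a finite projective module have at least the depth of the fibre local
ring -/
theorem le_fibDepth_of_projective (Q : Ideal B) [Q.IsPrime] (n : ℕ)
    (h : (n : ℕ∞) ≤ LocCoh.idealDepth (Q.map (algebraMap B (EGA4.FibLocRing A B Q)))
      (EGA4.FibLocRing A B Q)) :
    (n : ℕ∞) ≤ LocCoh.idealDepth (Q.map (algebraMap B (EGA4.FibLocRing A B Q)))
      (EGA4.FibLocMod A B Q E) := by
  set S := Localization.AtPrime Q with hS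
  set I : Ideal S := (Q.comap (algebraMap A B)).map (algebraMap A S) with hI
  have hmax : (maximalIdeal S).map (Ideal.Quotient.mk I) =
      Q.map (algebraMap B (EGA4.FibLocRing A B Q)) := by
    rw [← Localization.AtPrime.map_eq_maximalIdeal, Ideal.map_map]
    rfl
  haveI : Module.Free S (LocalizedModule Q.primeCompl E) := by
    have := Module.freeLocus_eq_univ (R := B) (M := E)
    have hm : (⟨Q, inferInstance⟩ : PrimeSpectrum B) ∈ Module.freeLocus B E := by
      rw [this]; trivial
    exact hm
  rw [← hmax] at h ⊢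
  have h1 : (n : ℕ∞) ≤ LocCoh.idealDepth (maximalIdeal S) (S ⧸ I) :=
    h.trans (idealDepth_map_le_of_surjective (Ideal.Quotient.mk I) Ideal.Quotient.mk_surjective
      (S ⧸ I) (fun s m => (Algebra.smul_def s m).symm) (maximalIdeal S))
  have h2 := le_idealDepth_quot_of_free I (maximalIdeal S) (LocalizedModule Q.primeCompl E) n h1
  exact h2.trans (idealDepth_le_map_of_surjective (Ideal.Quotient.mk I)
    (EGA4.FibLocMod A B Q E) (fun _ _ => rfl) (maximalIdeal S))

end proj

section core

theorem isScalarTower_loc (A B : Type u) [CommRing A] [CommRing B] [Algebra A B]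
    (q : Ideal B) [q.IsPrime] (G : Type u) [AddCommGroup G] [Module B G] [Module A G]
    [IsScalarTower A B G] :
    IsScalarTower A (Localization.AtPrime q) (LocalizedModule q.primeCompl G) := by
  refine IsScalarTower.of_algebraMap_smul fun a m => ?_
  rw [IsScalarTower.algebraMap_apply A B (Localization.AtPrime q), algebraMap_smul,
    algebraMap_smul]

variable (A B : Type u) [CommRing A] [CommRing B]
    [IsNoetherianRing A] [IsNoetherianRing B] [Algebra A B] [Module.Flat A B] (J : Ideal B)
    (F E0 E1 G : Type u) [AddCommGroup F] [Module B F] [Module A F] [IsScalarTower A B F]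
    [Module.Finite B F]
    [AddCommGroup E0] [Module B E0] [Module A E0] [IsScalarTower A B E0] [Module.Finite B E0]
    [Module.Projective B E0]
    [AddCommGroup E1] [Module B E1] [Module A E1] [IsScalarTower A B E1] [Module.Finite B E1]
    [Module.Projective B E1]
    [AddCommGroup G] [Module B G] [Module A G] [IsScalarTower A B G] [Module.Finite B G]
    (f : F →ₗ[B] E0) (u : E0 →ₗ[B] E1) (v : E1 →ₗ[B] G)

include f u v in
/-- the hull theorem over a fixed base -/
theorem core
    (hZ : ∀ q : PrimeSpectrum B, J ≤ q.asIdeal →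
      2 ≤ LocCoh.idealDepth (q.asIdeal.map (algebraMap B (EGA4.FibLocRing A B q.asIdeal)))
        (EGA4.FibLocRing A B q.asIdeal))
    (hf : Function.Injective f) (hfu : Function.Exact f u) (huv : Function.Exact u v)
    (hv : Function.Surjective v)
    (hFU : ∀ q : PrimeSpectrum B, ¬ J ≤ q.asIdeal →
      Module.Free (Localization.AtPrime q.asIdeal) (LocalizedModule q.asIdeal.primeCompl F))
    (hGU : ∀ q : PrimeSpectrum B, ¬ J ≤ q.asIdeal →
      Module.Free (Localization.AtPrime q.asIdeal) (LocalizedModule q.asIdeal.primeCompl G)) :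
    Module.IsReflexive B F ∧ 2 ≤ LocCoh.idealDepth J F ∧
    ((∀ q : PrimeSpectrum B, FlatCA.FlatAt A q.asIdeal F ∧
        2 ≤ LocCoh.idealDepth (J.map (algebraMap B (EGA4.FibLocRing A B q.asIdeal)))
          (EGA4.FibLocMod A B q.asIdeal F)) ↔
      Module.Flat A G) := by
  haveI : Module.Flat A E0 := Module.Flat.trans A B E0
  haveI : Module.Flat A E1 := Module.Flat.trans A B E1
  have h0 : ∀ q : PrimeSpectrum B, J ≤ q.asIdeal →
      2 ≤ LocCoh.idealDepth (q.asIdeal.map (algebraMap B (EGA4.FibLocRing A B q.asIdeal)))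
        (EGA4.FibLocMod A B q.asIdeal E0) := by
    intro q hq
    have := le_fibDepth_of_projective A B E0 q.asIdeal 2 (by exact_mod_cast hZ q hq)
    exact_mod_cast this
  have h1' : ∀ q : PrimeSpectrum B, J ≤ q.asIdeal →
      2 ≤ LocCoh.idealDepth (q.asIdeal.map (algebraMap B (EGA4.FibLocRing A B q.asIdeal)))
        (EGA4.FibLocMod A B q.asIdeal E1) := by
    intro q hq
    have := le_fibDepth_of_projective A B E1 q.asIdeal 2 (by exact_mod_cast hZ q hq)
    exact_mod_cast this
  have h1 : ∀ q : PrimeSpectrum B, J ≤ q.asIdeal →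
      1 ≤ LocCoh.idealDepth (q.asIdeal.map (algebraMap B (EGA4.FibLocRing A B q.asIdeal)))
        (EGA4.FibLocMod A B q.asIdeal E1) :=
    fun q hq => le_trans (by norm_num) (h1' q hq)
  have d2 : 2 ≤ LocCoh.idealDepth J F := main18707 A B J F E0 E1 f u hf hfu h0 h1
  have dB1 : 1 ≤ LocCoh.idealDepth J B := by
    have := le_idealDepth_ring_of_fib A B J 1
      (fun q hq => le_trans (by norm_num) (hZ q hq))
    exact_mod_cast this
  have hrefl : Module.IsReflexive B F := by
    refine isReflexive_of_depth J F dB1 (fun q hq => ?_) d2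
    haveI := hFU q hq
    infer_instance
  refine ⟨hrefl, d2, ?_⟩
  -- flatness of `G` off `V(J)`
  have hGUflat : ∀ q : PrimeSpectrum B, ¬ J ≤ q.asIdeal → FlatCA.FlatAt A q.asIdeal G := by
    intro q hq
    unfold FlatCA.FlatAt
    haveI := hGU q hq
    haveI := isScalarTower_loc A B q.asIdeal G
    haveI : Module.Flat A (Localization.AtPrime q.asIdeal) := inferInstance
    exact Module.Flat.trans A (Localization.AtPrime q.asIdeal) _
  have key := fun (q : Ideal B) [q.IsPrime] =>
    local_equiv A B J F E0 E1 G f u v hf hfu huv hv hGUflat h0 h1 q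
  have hideal : ∀ (q : Ideal B) [q.IsPrime],
      (J.map (algebraMap B (Localization.AtPrime q))).map
        (Ideal.Quotient.mk ((q.comap (algebraMap A B)).map
          (algebraMap A (Localization.AtPrime q)))) =
      J.map (algebraMap B (EGA4.FibLocRing A B q)) := by
    intro q _
    rw [Ideal.map_map]
    rfl
  constructor
  · intro H
    apply Module.flat_of_isLocalized_maximal B G
      (fun P _ => LocalizedModule P.primeCompl G)
      (fun P _ => LocalizedModule.mkLinearMap P.primeCompl G)
    intro P hP
    haveI : P.IsPrime := hP.isPrime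
    obtain ⟨k1, -⟩ := key P
    apply k1.2
    have h5 := idealDepth_map_le_of_surjective
      (Ideal.Quotient.mk ((P.comap (algebraMap A B)).map
        (algebraMap A (Localization.AtPrime P)))) Ideal.Quotient.mk_surjective
      (EGA4.FibLocMod A B P F) (fun _ _ => rfl) (J.map (algebraMap B (Localization.AtPrime P)))
    rw [hideal P] at h5
    exact ((H ⟨P, inferInstance⟩).2).trans h5
  · intro hG q
    haveI := hG
    have hGq : FlatCA.FlatAt A q.asIdeal G :=
      Groth.Agent.Lib.FlatDepth3H3.flat_localizedModule q.asIdeal.primeCompl G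
    obtain ⟨k1, k2⟩ := key q.asIdeal
    refine ⟨k2 hGq, ?_⟩
    have h5 := idealDepth_le_map_of_surjective
      (Ideal.Quotient.mk ((q.asIdeal.comap (algebraMap A B)).map
        (algebraMap A (Localization.AtPrime q.asIdeal))))
      (EGA4.FibLocMod A B q.asIdeal F) (fun _ _ => rfl)
      (J.map (algebraMap B (Localization.AtPrime q.asIdeal)))
    rw [hideal q.asIdeal] at h5
    exact (k1.1 hGq).trans h5

end core

end Groth.Agent.Lib.HullCoreH5
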