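import Mathlib
import Groth.Prelude.Def_CAlg
import Groth.Prelude.Def_EGA4b
import Groth.Prelude.Def_FlatCA
import Groth.Agent.Lib.FibLocBC_helper5
import Groth.Agent.Lib.HullCore_helper5

/-!
# Hulls and base change (helper5): S18711

APPEND-ONLY once landed.
-/
set_option autoImplicit false
set_option linter.style.haveILetI false
universe u

namespace Groth.Agent.Lib.HullBCH5

section proj

variable {R : Type u} [CommRing R] {K P0 P1 G : Type u}
  [AddCommGroup K] [Module R K] [AddCommGroup P0] [Module R P0] [AddCommGroup P1] [Module R P1]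
  [AddCommGroup G] [Module R G]

/-- the kernel of a surjection onto a projective module from a projective module is projective -/
theorem projective_of_ses (f : K →ₗ[R] P0) (g : P0 →ₗ[R] G) (hf : Function.Injective f)
    (hfg : Function.Exact f g) (hg : Function.Surjective g)
    [Module.Projective R P0] [Module.Projective R G] : Module.Projective R K := by
  obtain ⟨s, hs⟩ := Module.projective_lifting_property g LinearMap.id hg
  have h := (hfg.split_tfae' (R := R)).out 0 1
  obtain ⟨-, l, hl⟩ := h.1 ⟨hf, s, hs⟩
  exact Module.Projective.of_split f l hl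

theorem projective_of_fourTerm (f : K →ₗ[R] P0) (u : P0 →ₗ[R] P1) (v : P1 →ₗ[R] G)
    (hf : Function.Injective f) (hfu : Function.Exact f u) (huv : Function.Exact u v)
    (hv : Function.Surjective v)
    [Module.Projective R P0] [Module.Projective R P1] [Module.Projective R G] :
    Module.Projective R K := by
  haveI : Module.Projective R (LinearMap.ker v) :=
    projective_of_ses (LinearMap.ker v).subtype v (Submodule.injective_subtype _)
      (LinearMap.exact_subtype_ker_map v) hv
  let u' : P0 →ₗ[R] LinearMap.ker v := u.codRestrict (LinearMap.ker v)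
    (fun x => (huv (u x)).2 ⟨x, rfl⟩)
  refine projective_of_ses f u' hf ?_ ?_
  · intro x
    rw [← hfu x]
    constructor
    · intro h
      have := congrArg Subtype.val h
      simpa [u'] using this
    · intro h
      apply Subtype.ext
      simpa [u'] using h
  · rintro ⟨y, hy⟩
    obtain ⟨x, rfl⟩ := (huv y).1 hy
    exact ⟨x, rfl⟩

/-- in a four-term exact sequence with projective middle terms, the kernel is free at every prime
where the cokernel is free -/
theorem free_loc_of_fourTerm [IsNoetherianRing R] (q : Ideal R) [q.IsPrime] [Module.Finite R K]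
    [Module.Projective R P0] [Module.Projective R P1]
    (f : K →ₗ[R] P0) (u : P0 →ₗ[R] P1) (v : P1 →ₗ[R] G)
    (hf : Function.Injective f) (hfu : Function.Exact f u) (huv : Function.Exact u v)
    (hv : Function.Surjective v)
    (hG : Module.Free (Localization.AtPrime q) (LocalizedModule q.primeCompl G)) :
    Module.Free (Localization.AtPrime q) (LocalizedModule q.primeCompl K) := by
  haveI := hG
  haveI : Module.Projective (Localization.AtPrime q) (LocalizedModule q.primeCompl K) :=
    projective_of_fourTerm (R := Localization.AtPrime q)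
      (LocalizedModule.map q.primeCompl f)
      (LocalizedModule.map q.primeCompl u)
      (LocalizedModule.map q.primeCompl v)
      (LocalizedModule.map_injective q.primeCompl _ hf)
      (LocalizedModule.map_exact q.primeCompl _ _ hfu)
      (LocalizedModule.map_exact q.primeCompl _ _ huv)
      (LocalizedModule.map_surjective q.primeCompl _ hv)
  exact Module.free_of_flat_of_isLocalRing

end proj


section main

open TensorProduct Groth.Agent.Lib.FibLocBCH5 Groth.Agent.Lib.HullCoreH5

theorem main18711 (A B : Type u) [CommRing A] [CommRing B] [IsNoetherianRing A] [IsNoetherianRing B] [Algebra A B]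
    (A' B' : Type u) [CommRing A'] [CommRing B'] [IsNoetherianRing A'] [IsNoetherianRing B']
    [Algebra A A'] [Algebra B B'] [Algebra A' B'] [Algebra A B'] [IsScalarTower A B B'] [IsScalarTower A A' B']
    [Algebra.IsPushout A B A' B'] [Module.Flat A B] (J : Ideal B)
    (hZ : ∀ q : PrimeSpectrum B, J ≤ q.asIdeal →
      2 ≤ LocCoh.idealDepth (q.asIdeal.map (algebraMap B (EGA4.FibLocRing A B q.asIdeal))) (EGA4.FibLocRing A B q.asIdeal))
    (F E0 E1 G : Type u) [AddCommGroup F] [Module B F] [Module.Finite B F]
    [AddCommGroup E0] [Module B E0] [Module.Finite B E0] [Module.Projective B E0]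
    [AddCommGroup E1] [Module B E1] [Module.Finite B E1] [Module.Projective B E1]
    [AddCommGroup G] [Module B G] [Module.Finite B G]
    (f : F →ₗ[B] E0) (u : E0 →ₗ[B] E1) (v : E1 →ₗ[B] G)
    (hf : Function.Injective f) (hfu : Function.Exact f u) (huv : Function.Exact u v) (hv : Function.Surjective v)
    (hFU : ∀ q : PrimeSpectrum B, ¬ J ≤ q.asIdeal → Module.Free (Localization.AtPrime q.asIdeal) (LocalizedModule q.asIdeal.primeCompl F))
    (hGU : ∀ q : PrimeSpectrum B, ¬ J ≤ q.asIdeal → Module.Free (Localization.AtPrime q.asIdeal) (LocalizedModule q.asIdeal.primeCompl G)) :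
    Module.IsReflexive B F ∧
    Module.IsReflexive B' (LinearMap.ker (u.baseChange B')) ∧
    2 ≤ LocCoh.idealDepth (J.map (algebraMap B B')) (LinearMap.ker (u.baseChange B')) ∧
    ((∀ q' : PrimeSpectrum B', FlatCA.FlatAt A' q'.asIdeal (LinearMap.ker (u.baseChange B')) ∧
        2 ≤ LocCoh.idealDepth ((J.map (algebraMap B B')).map (algebraMap B' (EGA4.FibLocRing A' B' q'.asIdeal)))
          (EGA4.FibLocMod A' B' q'.asIdeal (LinearMap.ker (u.baseChange B')))) ↔
      Module.Flat A' (B' ⊗[B] G)) := by
  -- part 1: `F` is reflexive
  have part1 : Module.IsReflexive B F := by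
    letI : Module A F := Module.compHom F (algebraMap A B)
    haveI : IsScalarTower A B F := IsScalarTower.of_algebraMap_smul fun _ _ => rfl
    letI : Module A E0 := Module.compHom E0 (algebraMap A B)
    haveI : IsScalarTower A B E0 := IsScalarTower.of_algebraMap_smul fun _ _ => rfl
    letI : Module A E1 := Module.compHom E1 (algebraMap A B)
    haveI : IsScalarTower A B E1 := IsScalarTower.of_algebraMap_smul fun _ _ => rfl
    letI : Module A G := Module.compHom G (algebraMap A B)
    haveI : IsScalarTower A B G := IsScalarTower.of_algebraMap_smul fun _ _ => rfl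
    exact (core A B J F E0 E1 G f u v hZ hf hfu huv hv hFU hGU).1
  refine ⟨part1, ?_⟩
  -- part 2: base change
  haveI : Module.Flat A' B' := by
    have h : Algebra.IsPushout A A' B B' := Algebra.IsPushout.symm inferInstance
    exact Module.Flat.isBaseChange (R := A) (S := A') (M := B) B' h.out
  set J' : Ideal B' := J.map (algebraMap B B') with hJ'
  set u' := u.baseChange B' with hu'
  set v' := v.baseChange B' with hv'
  have hZ' := le_depth_fibLocRing_baseChange A B A' B' J 2 hZ
  have hf' : Function.Injective (LinearMap.ker u').subtype := Submodule.injective_subtype _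
  have hfu' : Function.Exact (LinearMap.ker u').subtype u' := LinearMap.exact_subtype_ker_map u'
  have huv' : Function.Exact u' v' := lTensor_exact B' huv hv
  have hvs' : Function.Surjective v' := LinearMap.lTensor_surjective B' hv
  have hGU' : ∀ q' : PrimeSpectrum B', ¬ J' ≤ q'.asIdeal →
      Module.Free (Localization.AtPrime q'.asIdeal)
        (LocalizedModule q'.asIdeal.primeCompl (B' ⊗[B] G)) := by
    intro q' hq'
    have h1 : PrimeSpectrum.comap (algebraMap B B') q' ∈ Module.freeLocus B G := by
      apply hGU
      intro hJ
      exact hq' (Ideal.map_le_iff_le_comap.2 hJ)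
    exact Module.comap_freeLocus_le (A := B') h1
  obtain ⟨c1, c2, c3⟩ := core A' B' J' (LinearMap.ker u') (B' ⊗[B] E0) (B' ⊗[B] E1) (B' ⊗[B] G)
    (LinearMap.ker u').subtype u' v' hZ' hf' hfu' huv' hvs'
    (fun q' hq' => free_loc_of_fourTerm q'.asIdeal (LinearMap.ker u').subtype u' v'
      hf' hfu' huv' hvs' (hGU' q' hq')) hGU'
  exact ⟨c1, c2, c3⟩

end main

end Groth.Agent.Lib.HullBCH5
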