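import Mathlib
import Groth.Prelude.Def_CAlg
import Groth.Prelude.Def_EGA4b
import Groth.Prelude.Def_FlatCA
import Groth.Agent.Lib.Depth_helper5
import Groth.Agent.Lib.DepthHom_helper5
import Groth.Agent.Lib.ReflexiveLoc_helper5
import Groth.Agent.Lib.HullBC2a_helper5
import Groth.Agent.Lib.HullBC_helper5
import Groth.Agent.S18709

/-!
# Hulls and base change II (helper5): S18718

APPEND-ONLY once landed.
-/

set_option autoImplicit false
set_option linter.style.haveILetI false
universe u

namespace Groth.Agent.Lib.HullBC2H5

open Groth.Agent.DepthLib TensorProduct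

section bidual

variable (B B' : Type u) [CommRing B] [CommRing B'] [IsNoetherianRing B] [IsNoetherianRing B']
  [Algebra B B'] (J : Ideal B)
  (F : Type u) [AddCommGroup F] [Module B F] [Module.Finite B F]

theorem baseChange_comp_apply {M N : Type u} [AddCommGroup M] [Module B M] [AddCommGroup N]
    [Module B N] (g : M →ₗ[B] N) (ψ : N →ₗ[B] M) (t : B) (h : ∀ x, ψ (g x) = t • x)
    (z : B' ⊗[B] M) : ψ.baseChange B' (g.baseChange B' z) = algebraMap B B' t • z := by
  induction z using TensorProduct.induction_on with
  | zero => simp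
  | add x y hx hy => rw [map_add, map_add, hx, hy, smul_add]
  | tmul b m =>
    rw [LinearMap.baseChange_tmul, LinearMap.baseChange_tmul, h, TensorProduct.tmul_smul,
      algebraMap_smul]

theorem bijective_bidual_baseChange
    (dB' : 2 ≤ LocCoh.idealDepth (J.map (algebraMap B B')) B')
    (hFU : ∀ q : PrimeSpectrum B, ¬ J ≤ q.asIdeal →
      Module.Free (Localization.AtPrime q.asIdeal) (LocalizedModule q.asIdeal.primeCompl F)) :
    Function.Bijective (((Module.Dual.eval B F).baseChange B').dualMap.dualMap) := by
  haveI : Module.FinitePresentation B F := Module.finitePresentation_of_finite B F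
  haveI : Module.Finite B (Module.Dual B F) := finite_hom F B
  haveI : Module.FinitePresentation B (Module.Dual B F) := Module.finitePresentation_of_finite B _
  haveI : Module.Finite B (Module.Dual B (Module.Dual B F)) := finite_hom _ B
  haveI : Module.FinitePresentation B (Module.Dual B (Module.Dual B F)) :=
    Module.finitePresentation_of_finite B _
  haveI : Module.Finite B' (Module.Dual B' (B' ⊗[B] F)) := finite_hom _ B'
  haveI : Module.Finite B' (Module.Dual B' (Module.Dual B' (B' ⊗[B] F))) := finite_hom _ B'
  haveI : Module.Finite B' (Module.Dual B' (B' ⊗[B] Module.Dual B (Module.Dual B F))) :=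
    finite_hom _ B'
  haveI : Module.Finite B' (Module.Dual B' (Module.Dual B' (B' ⊗[B] Module.Dual B (Module.Dual B F)))) :=
    finite_hom _ B'
  refine bijective_of_depth (J.map (algebraMap B B')) _
    ((idealDepth_hom _ (Module.Dual B' (B' ⊗[B] F)) B').2 dB')
    ((idealDepth_hom _ (Module.Dual B' (B' ⊗[B] Module.Dual B (Module.Dual B F))) B').1
      (le_trans (by norm_num) dB')) ?_
  intro q' hq' hJq'
  haveI := hq'
  set q : Ideal B := q'.comap (algebraMap B B') with hq
  have hJq : ¬ J ≤ q := fun h => hJq' (Ideal.map_le_iff_le_comap.2 h)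
  haveI : Module.Free (Localization.AtPrime q) (LocalizedModule q.primeCompl F) :=
    hFU ⟨q, inferInstance⟩ hJq
  haveI : Module.IsReflexive (Localization.AtPrime q) (LocalizedModule q.primeCompl F) :=
    inferInstance
  obtain ⟨t, ht, ψ, h1, h2⟩ := exists_smul_inverse (Module.Dual.eval B F) q
    (Groth.Agent.ReflexiveLoc.bijective_map_eval F q)
  refine ⟨algebraMap B B' t, ht, (ψ.baseChange B').dualMap.dualMap, ?_, ?_⟩
  · intro θ
    ext l
    rw [LinearMap.dualMap_apply, LinearMap.dualMap_apply, LinearMap.smul_apply, ← map_smul]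
    congr 1
    refine LinearMap.ext fun z => ?_
    rw [LinearMap.dualMap_apply, LinearMap.dualMap_apply, LinearMap.smul_apply,
      baseChange_comp_apply B B' (Module.Dual.eval B F) ψ t h1, map_smul]
  · intro θ
    ext l
    rw [LinearMap.dualMap_apply, LinearMap.dualMap_apply, LinearMap.smul_apply, ← map_smul]
    congr 1
    refine LinearMap.ext fun z => ?_
    rw [LinearMap.dualMap_apply, LinearMap.dualMap_apply, LinearMap.smul_apply,
      baseChange_comp_apply B B' ψ (Module.Dual.eval B F) t h2, map_smul]

end bidual


section flatker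

variable {A : Type u} [CommRing A] {Z E G : Type u} [AddCommGroup Z] [Module A Z]
  [AddCommGroup E] [Module A E] [AddCommGroup G] [Module A G]

/-- the kernel of a surjection of flat modules is flat -/
theorem flat_of_ses (ι : Z →ₗ[A] E) (v : E →ₗ[A] G) (hι : Function.Injective ι)
    (hιv : Function.Exact ι v) (hv : Function.Surjective v) [Module.Flat A E] [Module.Flat A G] :
    Module.Flat A Z := by
  rw [Module.Flat.iff_rTensor_preserves_injective_linearMap]
  intro N N' _ _ _ _ L hL
  have h1 : Function.Injective (ι.lTensor N) :=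
    LinearMap.lTensor_injective_of_exact_of_flat v hv ι hι hιv N
  have h2 : Function.Injective (L.rTensor E) :=
    Module.Flat.rTensor_preserves_injective_linearMap L hL
  have hsq : (ι.lTensor N') ∘ₗ (L.rTensor Z) = (L.rTensor E) ∘ₗ (ι.lTensor N) := by
    ext x z
    simp
  have h3 : Function.Injective ((ι.lTensor N') ∘ₗ (L.rTensor Z)) := by
    rw [hsq]
    exact h2.comp h1
  exact Function.Injective.of_comp h3

variable {F E0 E1 : Type u} [AddCommGroup F] [Module A F] [AddCommGroup E0] [Module A E0]
  [AddCommGroup E1] [Module A E1]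

/-- a four-term exact sequence with flat last two terms stays exact (on the left) after any base
change -/
theorem lTensor_exact_of_fourTerm (g : F →ₗ[A] E0) (h : E0 →ₗ[A] E1) (v : E1 →ₗ[A] G)
    (hg : Function.Injective g) (hgh : Function.Exact g h) (hhv : Function.Exact h v)
    (hv : Function.Surjective v) [Module.Flat A E1] [Module.Flat A G]
    (P : Type u) [AddCommGroup P] [Module A P] :
    Function.Injective (g.lTensor P) ∧ Function.Exact (g.lTensor P) (h.lTensor P) := by
  set Zs := LinearMap.range h with hZs
  let ι : Zs →ₗ[A] E1 := Zs.subtype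
  let hr : E0 →ₗ[A] Zs := h.rangeRestrict
  have hι : Function.Injective ι := Submodule.injective_subtype _
  have hιv : Function.Exact ι v := by
    intro y
    rw [hhv y]
    constructor
    · rintro ⟨x, rfl⟩
      exact ⟨⟨h x, x, rfl⟩, rfl⟩
    · rintro ⟨⟨z, x, rfl⟩, rfl⟩
      exact ⟨x, rfl⟩
  haveI : Module.Flat A Zs := flat_of_ses ι v hι hιv hv
  have hrs : Function.Surjective hr := LinearMap.surjective_rangeRestrict h
  have hghr : Function.Exact g hr := by
    intro x
    rw [← hgh x]
    constructor
    · intro hx
      exact congrArg Subtype.val hx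
    · intro hx
      exact Subtype.ext hx
  have hcomp : h.lTensor P = (ι.lTensor P) ∘ₗ (hr.lTensor P) := by
    rw [← LinearMap.lTensor_comp]
    rfl
  have hιP : Function.Injective (ι.lTensor P) :=
    LinearMap.lTensor_injective_of_exact_of_flat v hv ι hι hιv P
  refine ⟨LinearMap.lTensor_injective_of_exact_of_flat hr hrs g hg hghr P, ?_⟩
  have hex := lTensor_exact P hghr hrs
  intro x
  rw [← hex x, hcomp, LinearMap.comp_apply]
  constructor
  · intro hx
    exact hιP (by rw [hx, map_zero])
  · intro hx
    rw [hx, map_zero]

end flatker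

section transfer

variable (A B A' B' : Type u) [CommRing A] [CommRing B] [CommRing A'] [CommRing B']
    [Algebra A B] [Algebra A A'] [Algebra B B'] [Algebra A' B'] [Algebra A B']
    [IsScalarTower A B B'] [IsScalarTower A A' B'] [Algebra.IsPushout A A' B B']
  {M N : Type u} [AddCommGroup M] [Module B M] [Module A M] [IsScalarTower A B M]
  [AddCommGroup N] [Module B N] [Module A N] [IsScalarTower A B N]

theorem cancel_natural (φ : M →ₗ[B] N) (y : A' ⊗[A] M) :
    φ.baseChange B' ((Algebra.IsPushout.cancelBaseChange A A' B B' M).symm y) =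
      (Algebra.IsPushout.cancelBaseChange A A' B B' N).symm
        ((φ.restrictScalars A).lTensor A' y) := by
  induction y using TensorProduct.induction_on with
  | zero => simp
  | add x y hx hy => simp only [map_add, hx, hy]
  | tmul s m =>
    rw [Algebra.IsPushout.cancelBaseChange_symm_tmul, LinearMap.baseChange_tmul,
      LinearMap.lTensor_tmul, Algebra.IsPushout.cancelBaseChange_symm_tmul]
    rfl

theorem baseChange_eq (φ : M →ₗ[B] N) (x : B' ⊗[B] M) :
    φ.baseChange B' x = (Algebra.IsPushout.cancelBaseChange A A' B B' N).symm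
        ((φ.restrictScalars A).lTensor A' (Algebra.IsPushout.cancelBaseChange A A' B B' M x)) := by
  rw [← cancel_natural, LinearEquiv.symm_apply_apply]

variable {P : Type u} [AddCommGroup P] [Module B P] [Module A P] [IsScalarTower A B P]

theorem baseChange_injective_of_lTensor (φ : M →ₗ[B] N)
    (h : Function.Injective ((φ.restrictScalars A).lTensor A')) :
    Function.Injective (φ.baseChange B') := by
  intro x y hxy
  rw [baseChange_eq A B A' B', baseChange_eq A B A' B'] at hxy
  exact (Algebra.IsPushout.cancelBaseChange A A' B B' M).injective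
    (h ((Algebra.IsPushout.cancelBaseChange A A' B B' N).symm.injective hxy))

theorem baseChange_exact_of_lTensor (φ : M →ₗ[B] N) (χ : N →ₗ[B] P)
    (h : Function.Exact ((φ.restrictScalars A).lTensor A') ((χ.restrictScalars A).lTensor A')) :
    Function.Exact (φ.baseChange B') (χ.baseChange B') := by
  intro y
  rw [baseChange_eq A B A' B' χ y]
  constructor
  · intro hy
    have h0 : ((χ.restrictScalars A).lTensor A')
        (Algebra.IsPushout.cancelBaseChange A A' B B' N y) = 0 := by
      apply (Algebra.IsPushout.cancelBaseChange A A' B B' P).symm.injective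
      rw [hy, map_zero]
    obtain ⟨x, hx⟩ := (h _).1 h0
    refine ⟨(Algebra.IsPushout.cancelBaseChange A A' B B' M).symm x, ?_⟩
    rw [cancel_natural, hx, LinearEquiv.symm_apply_apply]
  · rintro ⟨x, rfl⟩
    rw [baseChange_eq A B A' B' φ x, LinearEquiv.apply_symm_apply]
    have : ((χ.restrictScalars A).lTensor A')
        (((φ.restrictScalars A).lTensor A')
          (Algebra.IsPushout.cancelBaseChange A A' B B' M x)) = 0 :=
      (h _).2 ⟨_, rfl⟩
    rw [this, map_zero]

end transfer


section main

open Groth.Agent.Lib.FibLocBCH5 Groth.Agent.Lib.HullCoreH5 Groth.Agent.Lib.HullBCH5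
open Groth.Agent.Lib.FibDepthH3 Groth.Agent.Lib.FibDepth2H3 Groth.Agent.Lib.FlatFibDepthH3

theorem main18718 (A B : Type u) [CommRing A] [CommRing B] [IsNoetherianRing A] [IsNoetherianRing B] [Algebra A B]
    (A' B' : Type u) [CommRing A'] [CommRing B'] [IsNoetherianRing A'] [IsNoetherianRing B']
    [Algebra A A'] [Algebra B B'] [Algebra A' B'] [Algebra A B'] [IsScalarTower A B B'] [IsScalarTower A A' B']
    [Algebra.IsPushout A B A' B'] [Module.Flat A B] (J : Ideal B)
    (hZ : ∀ q : PrimeSpectrum B, J ≤ q.asIdeal →
      2 ≤ LocCoh.idealDepth (q.asIdeal.map (algebraMap B (EGA4.FibLocRing A B q.asIdeal))) (EGA4.FibLocRing A B q.asIdeal))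
    (F : Type u) [AddCommGroup F] [Module B F] [Module A F] [IsScalarTower A B F] [Module.Finite B F]
    (hFU : ∀ q : PrimeSpectrum B, ¬ J ≤ q.asIdeal → Module.Free (Localization.AtPrime q.asIdeal) (LocalizedModule q.asIdeal.primeCompl F)) :
    2 ≤ LocCoh.idealDepth J (Module.Dual B (Module.Dual B F)) ∧
    Function.Bijective (((Module.Dual.eval B F).baseChange B').dualMap.dualMap) ∧
    (Module.Flat A F →
      (∀ q : PrimeSpectrum B, J ≤ q.asIdeal →
        2 ≤ LocCoh.idealDepth (q.asIdeal.map (algebraMap B (EGA4.FibLocRing A B q.asIdeal))) (EGA4.FibLocMod A B q.asIdeal F)) →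
      Module.IsReflexive B F ∧ Module.IsReflexive B' (B' ⊗[B] F)) := by
  have dB2 : 2 ≤ LocCoh.idealDepth J B := by
    have := le_idealDepth_ring_of_fib A B J 2 (fun q hq => by exact_mod_cast hZ q hq)
    exact_mod_cast this
  have dB1 : 1 ≤ LocCoh.idealDepth J B := le_trans (by norm_num) dB2
  haveI : Module.Finite B (Module.Dual B F) := finite_hom F B
  haveI : Module.Flat A' B' := by
    have h : Algebra.IsPushout A A' B B' := Algebra.IsPushout.symm inferInstance
    exact Module.Flat.isBaseChange (R := A) (S := A') (M := B) B' h.out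
  have hZ' := le_depth_fibLocRing_baseChange A B A' B' J 2 hZ
  refine ⟨(idealDepth_hom J (Module.Dual B F) B).2 dB2, ?_, ?_⟩
  · have dB'2 : 2 ≤ LocCoh.idealDepth (J.map (algebraMap B B')) B' := by
      have := le_idealDepth_ring_of_fib A' B' (J.map (algebraMap B B')) 2
        (fun q hq => by exact_mod_cast hZ' q hq)
      exact_mod_cast this
    exact bijective_bidual_baseChange B B' J F dB'2 hFU
  · intro hFflat hFfib
    haveI := hFflat
    have d2F : 2 ≤ LocCoh.idealDepth J F := by
      have := le_idealDepth_of_fib A B J F 2 (fun q hq => by exact_mod_cast hFfib q hq)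
      exact_mod_cast this
    have reflF : Module.IsReflexive B F := by
      refine isReflexive_of_depth J F dB1 (fun q hq => ?_) d2F
      haveI := hFU q hq
      infer_instance
    refine ⟨reflF, ?_⟩
    haveI := reflF
    obtain ⟨n, m, g, h, hg, hgh, hfree⟩ := Groth.Agent.S18709.result B J F hFU
    set G := (Fin m → B) ⧸ LinearMap.range h with hG
    set v : (Fin m → B) →ₗ[B] G := (LinearMap.range h).mkQ with hv
    have hhv : Function.Exact h v := by
      rw [LinearMap.exact_iff, Submodule.ker_mkQ]
    have hvs : Function.Surjective v := Submodule.mkQ_surjective _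
    obtain ⟨-, -, c3⟩ := core A B J F (Fin n → B) (Fin m → B) G g h v hZ hg hgh hhv hvs hFU hfree
    have hideal : ∀ (q : Ideal B) [q.IsPrime],
        (J.map (algebraMap B (Localization.AtPrime q))).map
          (Ideal.Quotient.mk ((q.comap (algebraMap A B)).map
            (algebraMap A (Localization.AtPrime q)))) =
        J.map (algebraMap B (EGA4.FibLocRing A B q)) := by
      intro q _
      rw [Ideal.map_map]
      rfl
    haveI Gflat : Module.Flat A G := by
      apply c3.1
      intro q
      refine ⟨Groth.Agent.Lib.FlatDepth3H3.flat_localizedModule q.asIdeal.primeCompl F, ?_⟩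
      have h4 := le_idealDepth_loc_of_pointwise A B J F q.asIdeal 2
        (fun Q _ hJQ => by exact_mod_cast hFfib Q hJQ)
      have h5 := idealDepth_le_map_of_surjective
        (Ideal.Quotient.mk ((q.asIdeal.comap (algebraMap A B)).map
          (algebraMap A (Localization.AtPrime q.asIdeal))))
        (EGA4.FibLocMod A B q.asIdeal F) (fun _ _ => rfl)
        (J.map (algebraMap B (Localization.AtPrime q.asIdeal)))
      rw [hideal q.asIdeal] at h5
      exact (by exact_mod_cast h4 : (2 : ℕ∞) ≤ _).trans h5
    haveI : Module.Flat A (Fin m → B) := Module.Flat.trans A B (Fin m → B)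
    haveI hpo : Algebra.IsPushout A A' B B' := Algebra.IsPushout.symm inferInstance
    obtain ⟨hinj, hex⟩ := lTensor_exact_of_fourTerm (g.restrictScalars A) (h.restrictScalars A)
      (v.restrictScalars A) hg hgh hhv hvs A'
    have hinj' : Function.Injective (g.baseChange B') :=
      baseChange_injective_of_lTensor A B A' B' g hinj
    have hex' : Function.Exact (g.baseChange B') (h.baseChange B') :=
      baseChange_exact_of_lTensor A B A' B' g h hex
    have hK := (main18711 A B A' B' J hZ F (Fin n → B) (Fin m → B) G g h v hg hgh hhv hvs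
      hFU hfree).2.1
    let e : (B' ⊗[B] F) ≃ₗ[B'] LinearMap.ker (h.baseChange B') :=
      (LinearEquiv.ofInjective (g.baseChange B') hinj').trans
        (LinearEquiv.ofEq _ _ (LinearMap.exact_iff.1 hex').symm)
    haveI := hK
    exact Module.equiv e.symm

end main

end Groth.Agent.Lib.HullBC2H5
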