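import Mathlib
import Groth.Prelude.Def_CohB1
import Groth.Agent.Lib.ProjDim18_helper8

/-!
# Hypersurfaces through a closed subset cutting a closed subset of `P^n_k` down to it (helper8)
(Hartshorne III Ex. 4.8-type lemma: `r + 1` hypersurfaces through `Y` with `X ∖ Y ⊆ ⋃ D_+(h_j)`.)
APPEND-ONLY once landed.
-/

set_option autoImplicit false

universe u

open HomogeneousIdeal AlgebraicGeometry

namespace HypCoverH8

section HPA

variable {R σ : Type*} [CommRing R] [SetLike σ R] [AddSubgroupClass σ R] (𝒜 : ℕ → σ)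
  [GradedRing 𝒜]

/-- Homogeneous prime avoidance for an `ℕ`-graded ring (after helper1's `hpa`). -/
theorem hpaNat (I : Ideal R) :
    ∀ S : Finset (Ideal R), (∀ Q ∈ S, Q.IsPrime) →
      (∀ Q ∈ S, ∃ t : ℕ, 0 < t ∧ ∃ y ∈ 𝒜 t, y ∈ I ∧ y ∉ Q) →
      ∃ t : ℕ, 0 < t ∧ ∃ x ∈ 𝒜 t, x ∈ I ∧ ∀ Q ∈ S, x ∉ Q := by
  classical
  intro S
  induction S using Finset.strongInduction with
  | H S ih =>
    intro hS h
    have key : ∀ Q ∈ S, ∃ t : ℕ, 0 < t ∧ ∃ x ∈ 𝒜 t, x ∈ I ∧ ∀ Q' ∈ S.erase Q, x ∉ Q' :=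
      fun Q hQ => ih (S.erase Q) (Finset.erase_ssubset hQ)
        (fun Q' h' => hS Q' (Finset.mem_of_mem_erase h'))
        (fun Q' h' => h Q' (Finset.mem_of_mem_erase h'))
    choose t ht x hx hxI hxav using key
    by_cases hgood : ∃ Q, ∃ hQ : Q ∈ S, x Q hQ ∉ Q
    · obtain ⟨Q, hQ, hn⟩ := hgood
      refine ⟨t Q hQ, ht Q hQ, x Q hQ, hx Q hQ, hxI Q hQ, fun Q' hQ' => ?_⟩
      by_cases e : Q' = Q
      · rw [e]
        exact hn
      · exact hxav Q hQ Q' (Finset.mem_erase.2 ⟨e, hQ'⟩)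
    · push Not at hgood
      rcases S.eq_empty_or_nonempty with hemp | ⟨Q₁, hQ₁⟩
      · refine ⟨1, one_pos, 0, zero_mem _, zero_mem _, fun Q hQ => ?_⟩
        rw [hemp] at hQ
        exact absurd hQ (Finset.notMem_empty _)
      by_cases hS1 : S.erase Q₁ = ∅
      · obtain ⟨t₀, ht₀, y, hy, hyI, hyQ⟩ := h Q₁ hQ₁
        refine ⟨t₀, ht₀, y, hy, hyI, fun Q hQ => ?_⟩
        have : Q = Q₁ := by
          by_contra hne
          have hmem : Q ∈ S.erase Q₁ := Finset.mem_erase.2 ⟨hne, hQ⟩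
          rw [hS1] at hmem
          exact absurd hmem (Finset.notMem_empty _)
        rw [this]
        exact hyQ
      · have hne : (S.erase Q₁).Nonempty := Finset.nonempty_iff_ne_empty.2 hS1
        have hmem : ∀ Q : {Q // Q ∈ S.erase Q₁}, Q.1 ∈ S := fun Q => Finset.mem_of_mem_erase Q.2
        obtain ⟨w, hwdef⟩ : ∃ w : R, w = ∏ Q ∈ (S.erase Q₁).attach, x Q.1 (hmem Q) := ⟨_, rfl⟩
        obtain ⟨tw, htwdef⟩ : ∃ tw : ℕ, tw = ∑ Q ∈ (S.erase Q₁).attach, t Q.1 (hmem Q) := ⟨_, rfl⟩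
        have htw : 0 < tw := by
          rw [htwdef]
          exact Finset.sum_pos (fun Q _ => ht Q.1 (hmem Q)) (Finset.attach_nonempty_iff.2 hne)
        have hw : w ∈ 𝒜 tw := by
          rw [hwdef, htwdef]
          exact SetLike.prod_mem_graded 𝒜 (fun Q : {Q // Q ∈ S.erase Q₁} => t Q.1 (hmem Q))
            (fun Q => x Q.1 (hmem Q)) (fun Q _ => hx Q.1 (hmem Q))
        obtain ⟨Q₂, hQ₂⟩ := hne
        have hwI : w ∈ I := by
          rw [hwdef]
          exact Ideal.prod_mem I (Finset.mem_attach _ ⟨Q₂, hQ₂⟩) (hxI Q₂ (hmem ⟨Q₂, hQ₂⟩))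
        have hwQ₁ : w ∉ Q₁ := by
          haveI := hS Q₁ hQ₁
          intro hc
          rw [hwdef] at hc
          obtain ⟨Q, _, hQc⟩ := (Ideal.IsPrime.prod_mem_iff).1 hc
          have h1 : Q₁ ∈ S.erase Q.1 :=
            Finset.mem_erase.2 ⟨fun e => (Finset.mem_erase.1 Q.2).1 e.symm, hQ₁⟩
          exact hxav Q.1 (hmem Q) Q₁ h1 hQc
        have hwQ : ∀ Q ∈ S.erase Q₁, w ∈ Q := fun Q hQ => by
          rw [hwdef]
          exact Ideal.prod_mem Q (Finset.mem_attach _ ⟨Q, hQ⟩) (hgood Q (hmem ⟨Q, hQ⟩))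
        have ht₁ : 0 < t Q₁ hQ₁ := ht Q₁ hQ₁
        have hx₁Q₁ : x Q₁ hQ₁ ∈ Q₁ := hgood Q₁ hQ₁
        have hx₁Q : ∀ Q ∈ S.erase Q₁, x Q₁ hQ₁ ∉ Q := fun Q hQ => hxav Q₁ hQ₁ Q hQ
        have h1 : x Q₁ hQ₁ ^ tw ∈ 𝒜 (tw * t Q₁ hQ₁) := by
          have := SetLike.pow_mem_graded tw (hx Q₁ hQ₁)
          rwa [smul_eq_mul] at this
        have h2 : w ^ (t Q₁ hQ₁) ∈ 𝒜 (tw * t Q₁ hQ₁) := by
          have := SetLike.pow_mem_graded (t Q₁ hQ₁) hw
          rwa [smul_eq_mul, mul_comm] at this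
        refine ⟨tw * t Q₁ hQ₁, Nat.mul_pos htw ht₁, x Q₁ hQ₁ ^ tw + w ^ (t Q₁ hQ₁),
          add_mem h1 h2,
          I.add_mem (Ideal.pow_mem_of_mem I (hxI Q₁ hQ₁) tw htw)
            (Ideal.pow_mem_of_mem I hwI _ ht₁),
          fun Q hQ => ?_⟩
        by_cases e : Q = Q₁
        · rw [e]
          intro hc
          have h3 : w ^ (t Q₁ hQ₁) ∈ Q₁ := by
            have := Q₁.sub_mem hc (Ideal.pow_mem_of_mem Q₁ hx₁Q₁ tw htw)
            rwa [add_sub_cancel_left] at this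
          exact hwQ₁ ((hS Q₁ hQ₁).mem_of_pow_mem _ h3)
        · have hQ' : Q ∈ S.erase Q₁ := Finset.mem_erase.2 ⟨e, hQ⟩
          intro hc
          have h3 : x Q₁ hQ₁ ^ tw ∈ Q := by
            have := Q.sub_mem hc (Ideal.pow_mem_of_mem Q (hwQ Q hQ') _ ht₁)
            rwa [add_sub_cancel_right] at this
          exact hx₁Q Q hQ' ((hS Q hQ).mem_of_pow_mem _ h3)

/-- A homogeneous prime containing neither the homogeneous ideal `I` nor the irrelevant ideal
misses a homogeneous element of `I` of positive degree. -/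
theorem exists_pos_homogeneous_notMem (I : Ideal R) (hI : I.IsHomogeneous 𝒜) (Q : Ideal R)
    [Q.IsPrime] (h1 : ¬ I ≤ Q) (h2 : ¬ (irrelevant 𝒜).toIdeal ≤ Q) :
    ∃ t : ℕ, 0 < t ∧ ∃ y ∈ 𝒜 t, y ∈ I ∧ y ∉ Q := by
  classical
  obtain ⟨a, haI, haQ⟩ := Set.not_subset.mp h1
  obtain ⟨b, hb, hbQ⟩ := Set.not_subset.mp h2
  -- homogeneous components
  obtain ⟨i, hi⟩ : ∃ i, (DirectSum.decompose 𝒜 a i : R) ∉ Q := by
    by_contra hcon
    push Not at hcon
    apply haQ
    rw [← DirectSum.sum_support_decompose 𝒜 a]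
    exact Ideal.sum_mem _ (fun i _ => hcon i)
  obtain ⟨j, hj⟩ : ∃ j, (DirectSum.decompose 𝒜 b j : R) ∉ Q := by
    by_contra hcon
    push Not at hcon
    apply hbQ
    rw [← DirectSum.sum_support_decompose 𝒜 b]
    exact Ideal.sum_mem _ (fun i _ => hcon i)
  have haiI : (DirectSum.decompose 𝒜 a i : R) ∈ I := hI i haI
  have hbj : (DirectSum.decompose 𝒜 b j : R) ∈ (irrelevant 𝒜).toIdeal :=
    (irrelevant 𝒜).isHomogeneous j hb
  have hj0 : 0 < j := by
    rcases Nat.eq_zero_or_pos j with h0 | h0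
    · exfalso
      subst h0
      have h3 : GradedRing.proj 𝒜 0 (DirectSum.decompose 𝒜 b 0 : R) = 0 :=
        (HomogeneousIdeal.mem_irrelevant_iff 𝒜 _).mp hbj
      rw [GradedRing.proj_apply, DirectSum.decompose_coe, DirectSum.of_eq_same] at h3
      apply hj
      rw [h3]
      exact Q.zero_mem
    · exact h0
  refine ⟨i + j, by omega, (DirectSum.decompose 𝒜 a i : R) * (DirectSum.decompose 𝒜 b j : R),
    SetLike.mul_mem_graded (SetLike.coe_mem _) (SetLike.coe_mem _),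
    I.mul_mem_right _ haiI, fun hmem => ?_⟩
  rcases (inferInstance : Q.IsPrime).mem_or_mem hmem with h | h
  · exact hi h
  · exact hj h

end HPA

section Core

open Groth.Agent.Lib.ProjDimH8

variable {k : Type u} [Field k] {n : ℕ}

local notation "T" => ProjectiveSpectrum (CohB1.polyGrading n k)

/-- For closed `C, Y ⊆ P^n_k` there is a hypersurface through `Y` such that every point of
`C ∖ Y` on it is a proper specialization of a point of `C ∖ Y`. -/
theorem exists_avoid (C Y : Set T) (hC : IsClosed C) (hY : IsClosed Y) :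
    ∃ (t : ℕ) (f : MvPolynomial (Fin (n + 1)) k), 0 < t ∧ f ∈ CohB1.polyGrading n k t ∧
      (∀ y ∈ Y, f ∈ y.asHomogeneousIdeal.toIdeal) ∧
      ∀ x ∈ C, x ∉ Y → f ∈ x.asHomogeneousIdeal.toIdeal → ∃ g ∈ C, g ∉ Y ∧ g < x := by
  classical
  set IY := (ProjectiveSpectrum.vanishingIdeal Y).toIdeal with hIY
  set IC := (ProjectiveSpectrum.vanishingIdeal C).toIdeal with hIC
  have hIYh : IY.IsHomogeneous (CohB1.polyGrading n k) :=
    (ProjectiveSpectrum.vanishingIdeal Y).isHomogeneous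
  have hICh : IC.IsHomogeneous (CohB1.polyGrading n k) :=
    (ProjectiveSpectrum.vanishingIdeal C).isHomogeneous
  have hYz : ∀ x : T, IY ≤ x.asHomogeneousIdeal.toIdeal → x ∈ Y := by
    intro x hx
    have h1 : x ∈ ProjectiveSpectrum.zeroLocus (CohB1.polyGrading n k)
        ((ProjectiveSpectrum.vanishingIdeal Y : Set _)) := hx
    rw [ProjectiveSpectrum.zeroLocus_vanishingIdeal_eq_closure, hY.closure_eq] at h1
    exact h1
  have hCz : ∀ x : T, IC ≤ x.asHomogeneousIdeal.toIdeal → x ∈ C := by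
    intro x hx
    have h1 : x ∈ ProjectiveSpectrum.zeroLocus (CohB1.polyGrading n k)
        ((ProjectiveSpectrum.vanishingIdeal C : Set _)) := hx
    rw [ProjectiveSpectrum.zeroLocus_vanishingIdeal_eq_closure, hC.closure_eq] at h1
    exact h1
  have hfin : (IC.minimalPrimes).Finite := Ideal.finite_minimalPrimes_of_isNoetherianRing _ IC
  set S := hfin.toFinset.filter
    (fun Q => ¬ IY ≤ Q ∧ ¬ (irrelevant (CohB1.polyGrading n k)).toIdeal ≤ Q) with hS
  have hSp : ∀ Q ∈ S, Q.IsPrime := by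
    intro Q hQ
    rw [hS, Finset.mem_filter, Set.Finite.mem_toFinset] at hQ
    exact hQ.1.1.1
  obtain ⟨t, ht, f, hft, hfI, hfav⟩ := hpaNat (CohB1.polyGrading n k) IY S hSp (by
    intro Q hQ
    haveI := hSp Q hQ
    rw [hS, Finset.mem_filter] at hQ
    exact exists_pos_homogeneous_notMem _ IY hIYh Q hQ.2.1 hQ.2.2)
  refine ⟨t, f, ht, hft, ?_, ?_⟩
  · intro y hy
    exact (ProjectiveSpectrum.mem_vanishingIdeal Y f).mp hfI y hy
  · intro x hxC hxY hfx
    have hICx : IC ≤ x.asHomogeneousIdeal.toIdeal := by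
      intro a ha
      exact (ProjectiveSpectrum.mem_vanishingIdeal C a).mp ha x hxC
    obtain ⟨Q, hQ, hQx⟩ := Ideal.exists_minimalPrimes_le hICx
    haveI hQp : Q.IsPrime := hQ.1.1
    have hQh := isHomogeneous_of_mem_minimalPrimes _ hICh hQ
    have hirr : ¬ (irrelevant (CohB1.polyGrading n k)).toIdeal ≤ Q := by
      intro hle
      exact x.not_irrelevant_le (hle.trans hQx)
    have hIYQ : ¬ IY ≤ Q := fun hle => hxY (hYz x (hle.trans hQx))
    have hQS : Q ∈ S := by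
      rw [hS, Finset.mem_filter, Set.Finite.mem_toFinset]
      exact ⟨hQ, hIYQ, hirr⟩
    have hne : Q ≠ (irrelevant (CohB1.polyGrading n k)).toIdeal := by
      intro h
      exact hirr h.ge
    refine ⟨pointOf k n Q hQh hQp hne, hCz _ hQ.1.2, fun hgY => hIYQ ?_, ?_⟩
    · intro a ha
      exact (ProjectiveSpectrum.mem_vanishingIdeal Y a).mp ha _ hgY
    · refine lt_of_le_of_ne hQx ?_
      intro heq
      apply hfav Q hQS
      have : f ∈ (pointOf k n Q hQh hQp hne).asHomogeneousIdeal.toIdeal := by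
        rw [heq]
        exact hfx
      exact this

/-- **Core**: if all points of `C ∖ Y` have coheight `≤ m`, then `m + 1` hypersurfaces through `Y`
cut `C` down to a subset of `Y`. -/
theorem core : ∀ (m : ℕ) (C Y : Set T), IsClosed C → IsClosed Y →
    (∀ x ∈ C, x ∉ Y → Order.coheight x ≤ (m : ℕ∞)) →
    ∃ h : Fin (m + 1) → MvPolynomial (Fin (n + 1)) k,
      (∀ j, ∃ d : ℕ, 0 < d ∧ h j ∈ CohB1.polyGrading n k d) ∧
      (∀ j, ∀ y ∈ Y, h j ∈ y.asHomogeneousIdeal.toIdeal) ∧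
      ∀ x ∈ C, (∀ j, h j ∈ x.asHomogeneousIdeal.toIdeal) → x ∈ Y
  | 0, C, Y, hC, hY, hdim => by
    obtain ⟨t, f, ht, hft, hfY, hfav⟩ := exists_avoid C Y hC hY
    refine ⟨fun _ => f, fun _ => ⟨t, ht, hft⟩, fun _ => hfY, ?_⟩
    intro x hxC hx
    by_contra hxY
    obtain ⟨g, hgC, hgY, hgx⟩ := hfav x hxC hxY (hx 0)
    have h1 := Order.coheight_add_one_le hgx
    have h2 := hdim g hgC hgY
    have h3 : Order.coheight x + 1 ≤ ((0 : ℕ) : ℕ∞) := h1.trans h2
    simp at h3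
  | m + 1, C, Y, hC, hY, hdim => by
    obtain ⟨t, f, ht, hft, hfY, hfav⟩ := exists_avoid C Y hC hY
    have hC' : IsClosed (C ∩ ProjectiveSpectrum.zeroLocus (CohB1.polyGrading n k) {f}) :=
      hC.inter (ProjectiveSpectrum.isClosed_zeroLocus _ _)
    obtain ⟨h', hd', hY', hcut'⟩ := core m
      (C ∩ ProjectiveSpectrum.zeroLocus (CohB1.polyGrading n k) {f}) Y hC' hY (by
        intro x hx hxY
        have hfx : f ∈ x.asHomogeneousIdeal.toIdeal := hx.2 (Set.mem_singleton f)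
        obtain ⟨g, hgC, hgY, hgx⟩ := hfav x hx.1 hxY hfx
        have h1 := Order.coheight_add_one_le hgx
        have h2 := hdim g hgC hgY
        have h3 : Order.coheight x + 1 ≤ ((m + 1 : ℕ) : ℕ∞) := h1.trans h2
        have h4 : Order.coheight x + 1 ≤ (m : ℕ∞) + 1 := by
          simpa using h3
        exact (ENat.add_le_add_iff_right ENat.one_ne_top).mp h4)
    refine ⟨Fin.cons f h', ?_, ?_, ?_⟩
    · intro j
      refine Fin.cases ?_ (fun i => ?_) j
      · exact ⟨t, ht, by simpa using hft⟩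
      · simpa using hd' i
    · intro j
      refine Fin.cases ?_ (fun i => ?_) j
      · simpa using hfY
      · simpa using hY' i
    · intro x hxC hx
      have h0 : f ∈ x.asHomogeneousIdeal.toIdeal := by simpa using hx 0
      refine hcut' x ⟨hxC, ?_⟩ (fun i => by simpa using hx i.succ)
      intro a ha
      rw [Set.mem_singleton_iff] at ha
      rw [ha]
      exact h0

end Core

section Main

open Groth.Agent.Lib.ProjDimH8

theorem main10939 (k : Type u) [Field k] (n r : ℕ)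
    {X Y : Scheme.{u}} (iX : X ⟶ CohB1.ProjSpace n k) (iY : Y ⟶ CohB1.ProjSpace n k)
    [IsClosedImmersion iX] [IsClosedImmersion iY] (hX : topologicalKrullDim ↥X = r) :
    ∃ (h : Fin (r + 1) → MvPolynomial (Fin (n + 1)) k)
      (D : Fin (r + 1) → (CohB1.ProjSpace n k).Opens),
      (∀ j, D j = Proj.basicOpen (CohB1.polyGrading n k) (h j)) ∧
      (∀ j, ∃ d : ℕ, 0 < d ∧ (h j).IsHomogeneous d) ∧
      (∀ j, Set.range iY.base ⊆ (D j : Set ↥(CohB1.ProjSpace n k))ᶜ) ∧
      (Set.range iX.base \ Set.range iY.base ⊆ ⋃ j, (D j : Set ↥(CohB1.ProjSpace n k))) ∧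
      ∀ j, IsAffineOpen (iX ⁻¹ᵁ (D j)) := by
  classical
  set C : Set (ProjectiveSpectrum (CohB1.polyGrading n k)) := Set.range iX.base with hCdef
  set Y' : Set (ProjectiveSpectrum (CohB1.polyGrading n k)) := Set.range iY.base with hYdef
  have hCc : IsClosed C := iX.isClosedEmbedding.isClosed_range
  have hYc : IsClosed Y' := iY.isClosedEmbedding.isClosed_range
  have hdimC : topologicalKrullDim ↥C = r := by
    rw [← hX]
    have e := iX.isClosedEmbedding.toIsEmbedding.toHomeomorph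
    exact (IsHomeomorph.topologicalKrullDim_eq e e.isHomeomorph).symm
  obtain ⟨h, hd, hY, hcut⟩ := core (k := k) (n := n) r C Y' hCc hYc (by
    intro x hxC _
    have h1 := coheight_le_dim_of_mem (CohB1.polyGrading n k) C hCc x hxC
    rw [hdimC] at h1
    exact_mod_cast h1)
  refine ⟨h, fun j => Proj.basicOpen (CohB1.polyGrading n k) (h j), fun j => rfl, ?_, ?_, ?_, ?_⟩
  · intro j
    obtain ⟨d, hd0, hdj⟩ := hd j
    exact ⟨d, hd0, (MvPolynomial.mem_homogeneousSubmodule d (h j)).mp hdj⟩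
  · intro j y hy hyD
    exact hyD (hY j y hy)
  · intro x hx
    by_contra hcon
    apply hx.2
    apply hcut x hx.1
    intro j
    by_contra hj
    apply hcon
    exact Set.mem_iUnion.mpr ⟨j, hj⟩
  · intro j
    obtain ⟨d, hd0, hdj⟩ := hd j
    have haff : IsAffineOpen (Proj.basicOpen (CohB1.polyGrading n k) (h j)) :=
      Proj.isAffineOpen_basicOpen (CohB1.polyGrading n k) (h j) hdj hd0
    exact @IsAffineOpen.preimage X (CohB1.ProjSpace n k) _ haff iX inferInstance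

end Main

end HypCoverH8
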