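import Mathlib
import Groth.Prelude.Def_CohB1
import Groth.Agent.Lib.HypCover1_helper8

/-!
# A quasi-projective scheme of dimension `r` over a field is covered by `r + 1` affines (helper8)
APPEND-ONLY once landed.
-/

set_option autoImplicit false

universe u

open HomogeneousIdeal AlgebraicGeometry

namespace HypCoverH8

section Core2

variable {k : Type u} [Field k] {n : ℕ}

local notation "T" => ProjectiveSpectrum (CohB1.polyGrading n k)

/-- Variant of `core` with an abstract height function `μ`. -/
theorem core' (μ : T → ℕ∞) : ∀ (m : ℕ) (C Y : Set T), IsClosed C → IsClosed Y →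
    (∀ g ∈ C, g ∉ Y → ∀ x ∈ C, x ∉ Y → g < x → μ x + 1 ≤ μ g) →
    (∀ x ∈ C, x ∉ Y → μ x ≤ (m : ℕ∞)) →
    ∃ h : Fin (m + 1) → MvPolynomial (Fin (n + 1)) k,
      (∀ j, ∃ d : ℕ, 0 < d ∧ h j ∈ CohB1.polyGrading n k d) ∧
      (∀ j, ∀ y ∈ Y, h j ∈ y.asHomogeneousIdeal.toIdeal) ∧
      ∀ x ∈ C, (∀ j, h j ∈ x.asHomogeneousIdeal.toIdeal) → x ∈ Y
  | 0, C, Y, hC, hY, hμ, hdim => by
    obtain ⟨t, f, ht, hft, hfY, hfav⟩ := exists_avoid C Y hC hY
    refine ⟨fun _ => f, fun _ => ⟨t, ht, hft⟩, fun _ => hfY, ?_⟩
    intro x hxC hx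
    by_contra hxY
    obtain ⟨g, hgC, hgY, hgx⟩ := hfav x hxC hxY (hx 0)
    have h1 := hμ g hgC hgY x hxC hxY hgx
    have h2 := hdim g hgC hgY
    have h3 : μ x + 1 ≤ ((0 : ℕ) : ℕ∞) := h1.trans h2
    simp at h3
  | m + 1, C, Y, hC, hY, hμ, hdim => by
    obtain ⟨t, f, ht, hft, hfY, hfav⟩ := exists_avoid C Y hC hY
    have hC' : IsClosed (C ∩ ProjectiveSpectrum.zeroLocus (CohB1.polyGrading n k) {f}) :=
      hC.inter (ProjectiveSpectrum.isClosed_zeroLocus _ _)
    obtain ⟨h', hd', hY', hcut'⟩ := core' μ m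
      (C ∩ ProjectiveSpectrum.zeroLocus (CohB1.polyGrading n k) {f}) Y hC' hY
      (fun g hg hgY x hx hxY hgx => hμ g hg.1 hgY x hx.1 hxY hgx) (by
        intro x hx hxY
        have hfx : f ∈ x.asHomogeneousIdeal.toIdeal := hx.2 (Set.mem_singleton f)
        obtain ⟨g, hgC, hgY, hgx⟩ := hfav x hx.1 hxY hfx
        have h1 := hμ g hgC hgY x hx.1 hxY hgx
        have h2 := hdim g hgC hgY
        have h3 : μ x + 1 ≤ ((m + 1 : ℕ) : ℕ∞) := h1.trans h2
        have h4 : μ x + 1 ≤ (m : ℕ∞) + 1 := by
          simpa using h3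
        exact (ENat.add_le_add_iff_right ENat.one_ne_top).mp h4)
    refine ⟨Fin.cons f h', ?_, ?_, ?_⟩
    · intro j
      refine Fin.cases ?_ (fun i => ?_) j
      · exact ⟨t, ht, by simpa using hft⟩
      · simpa using hd' i
    · intro j
      refine Fin.cases ?_ (fun i => ?_) j
      · simpa using hfY
      · simpa using hY' i
    · intro x hxC hx
      have h0 : f ∈ x.asHomogeneousIdeal.toIdeal := by simpa using hx 0
      refine hcut' x ⟨hxC, ?_⟩ (fun i => by simpa using hx i.succ)
      intro a ha
      rw [Set.mem_singleton_iff] at ha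
      rw [ha]
      exact h0

/-- The coheight of a point of a subset `S` (in the induced order) is at most `dim S`. -/
theorem coheight_subtype_le_dim (S : Set T) (s : S) :
    ((Order.coheight s : ℕ∞) : WithBot ℕ∞) ≤ topologicalKrullDim ↥S := by
  have h1 : ((Order.coheight s : ℕ∞) : WithBot ℕ∞) ≤ Order.krullDim ↥S :=
    Order.coheight_le_krullDim s
  refine h1.trans ?_
  rw [← Order.krullDim_orderDual]
  unfold topologicalKrullDim
  refine Order.krullDim_le_of_strictMono (fun a : (↥S)ᵒᵈ =>
    (⟨closure {OrderDual.ofDual a}, isIrreducible_singleton.closure, isClosed_closure⟩ :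
      TopologicalSpace.IrreducibleCloseds S)) ?_
  intro a b hab
  have hab' : ((OrderDual.ofDual b : S) : T) < ((OrderDual.ofDual a : S) : T) := hab
  have hmem : (OrderDual.ofDual a : S) ∈ closure ({OrderDual.ofDual b} : Set S) := by
    rw [← specializes_iff_mem_closure, subtype_specializes_iff, specializes_iff_mem_closure,
      ← ProjectiveSpectrum.le_iff_mem_closure]
    exact hab'.le
  refine lt_of_le_of_ne ?_ ?_
  · change closure ({OrderDual.ofDual a} : Set S) ⊆ closure ({OrderDual.ofDual b} : Set S)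
    exact closure_minimal (Set.singleton_subset_iff.mpr hmem) isClosed_closure
  · intro heq
    have heq' : closure ({OrderDual.ofDual a} : Set S) = closure ({OrderDual.ofDual b} : Set S) :=
      congrArg (fun Z : TopologicalSpace.IrreducibleCloseds S => (Z : Set S)) heq
    have hmem' : (OrderDual.ofDual b : S) ∈ closure ({OrderDual.ofDual a} : Set S) := by
      rw [heq']
      exact subset_closure rfl
    rw [← specializes_iff_mem_closure, subtype_specializes_iff, specializes_iff_mem_closure,
      ← ProjectiveSpectrum.le_iff_mem_closure] at hmem'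
    exact absurd hmem' (not_le_of_gt hab')

end Core2

section Main2

theorem main10940 (k : Type u) [Field k] (n r : ℕ)
    {X : Scheme.{u}} (j : X ⟶ CohB1.ProjSpace n k) [IsImmersion j]
    (hX : topologicalKrullDim ↥X = r) :
    ∃ U : Fin (r + 1) → X.Opens, (∀ i, IsAffineOpen (U i)) ∧ ⨆ i, U i = ⊤ := by
  classical
  set S : Set (ProjectiveSpectrum (CohB1.polyGrading n k)) := Set.range j with hSdef
  set C : Set (ProjectiveSpectrum (CohB1.polyGrading n k)) := closure S with hCdef
  set Y : Set (ProjectiveSpectrum (CohB1.polyGrading n k)) := C \ S with hYdef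
  have hSlc : IsLocallyClosed S := j.isLocallyClosed_range
  have hCc : IsClosed C := isClosed_closure
  have hYc : IsClosed Y := by
    have := hSlc.isOpen_coborder
    rw [coborder, isOpen_compl_iff] at this
    exact this
  have hCY : ∀ x, x ∈ C → x ∉ Y → x ∈ S := by
    intro x hxC hxY
    by_contra hxS
    exact hxY ⟨hxC, hxS⟩
  have hdimS : topologicalKrullDim ↥S = r := by
    rw [← hX]
    have e := j.isEmbedding.toHomeomorph
    exact (IsHomeomorph.topologicalKrullDim_eq e e.isHomeomorph).symm
  let μ : ProjectiveSpectrum (CohB1.polyGrading n k) → ℕ∞ := fun x =>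
    if hx : x ∈ S then Order.coheight (⟨x, hx⟩ : S) else 0
  obtain ⟨h, hd, hY, hcut⟩ := core' (k := k) (n := n) μ r C Y hCc hYc (by
    intro g hgC hgY x hxC hxY hgx
    have hgS := hCY g hgC hgY
    have hxS := hCY x hxC hxY
    simp only [μ, dif_pos hgS, dif_pos hxS]
    exact Order.coheight_add_one_le (show (⟨g, hgS⟩ : S) < ⟨x, hxS⟩ from hgx)) (by
    intro x hxC hxY
    have hxS := hCY x hxC hxY
    simp only [μ, dif_pos hxS]
    have h1 := coheight_subtype_le_dim (k := k) (n := n) S ⟨x, hxS⟩
    rw [hdimS] at h1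
    exact_mod_cast h1)
  refine ⟨fun i => j ⁻¹ᵁ (Proj.basicOpen (CohB1.polyGrading n k) (h i)), ?_, ?_⟩
  · intro i
    obtain ⟨d, hd0, hdi⟩ := hd i
    have haff : IsAffineOpen (X := CohB1.ProjSpace n k)
        (Proj.basicOpen (CohB1.polyGrading n k) (h i)) :=
      Proj.isAffineOpen_basicOpen (CohB1.polyGrading n k) (h i) hdi hd0
    set D : (CohB1.ProjSpace n k).Opens := Proj.basicOpen (CohB1.polyGrading n k) (h i) with hD
    haveI : IsAffine (D : Scheme) := haff
    haveI : IsClosedImmersion (j ∣_ D) := by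
      refine IsClosedImmersion.of_isPreimmersion _ ?_
      have hrange : Set.range ⇑(j ∣_ D) = (Subtype.val : ↥D → _) ⁻¹' C := by
        ext x
        constructor
        · rintro ⟨y, rfl⟩
          have h1 := morphismRestrict_base_coe j D y
          change ((j ∣_ D) y).1 ∈ C
          rw [h1]
          exact subset_closure (Set.mem_range_self _)
        · intro hx
          have hxS : x.1 ∈ S := by
            by_contra hxS
            have hxY : x.1 ∈ Y := ⟨hx, hxS⟩
            exact x.2 (hY i _ hxY)
          obtain ⟨y, hy⟩ := hxS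
          have hyD : y ∈ j ⁻¹ᵁ D := by
            change j y ∈ D
            rw [hy]
            exact x.2
          refine ⟨⟨y, hyD⟩, Subtype.ext ?_⟩
          rw [morphismRestrict_base_coe]
          exact hy
      rw [hrange]
      exact hCc.preimage continuous_subtype_val
    exact isAffine_of_isAffineHom (j ∣_ D)
  · rw [_root_.eq_top_iff]
    intro x _
    have hxS : j x ∈ S := Set.mem_range_self x
    have hxY : j x ∉ Y := fun hy => hy.2 hxS
    by_contra hcon
    apply hxY
    apply hcut (j x) (subset_closure hxS)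
    intro i
    by_contra hi
    apply hcon
    rw [TopologicalSpace.Opens.mem_iSup]
    exact ⟨i, hi⟩

end Main2

end HypCoverH8
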