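import Mathlib
import Groth.Prelude.Def_CohB1
import Groth.Agent.Lib.HypCover2_helper8
import Groth.Agent.Lib.PnOver_helper5

/-!
# Generic graded-ring versions of the hypersurface cover lemmas; quasi-projective over a Noetherian
ring (helper8).  APPEND-ONLY once landed.
-/

set_option autoImplicit false

universe u

open HomogeneousIdeal AlgebraicGeometry CategoryTheory

namespace HypCoverH8

section CoreG

open Groth.Agent.Lib.ProjDimH8

variable {A σ : Type*} [CommRing A] [SetLike σ A] [AddSubgroupClass σ A] (𝒜 : ℕ → σ)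
  [GradedRing 𝒜] [IsNoetherianRing A]

/-- For closed `C, Y ⊆ P^n_k` there is a hypersurface through `Y` such that every point of
`C ∖ Y` on it is a proper specialization of a point of `C ∖ Y`. -/
theorem exists_avoidG (C Y : Set (ProjectiveSpectrum 𝒜)) (hC : IsClosed C) (hY : IsClosed Y) :
    ∃ (t : ℕ) (f : A), 0 < t ∧ f ∈ 𝒜 t ∧
      (∀ y ∈ Y, f ∈ y.asHomogeneousIdeal.toIdeal) ∧
      ∀ x ∈ C, x ∉ Y → f ∈ x.asHomogeneousIdeal.toIdeal → ∃ g ∈ C, g ∉ Y ∧ g < x := by
  classical
  set IY := (ProjectiveSpectrum.vanishingIdeal Y).toIdeal with hIY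
  set IC := (ProjectiveSpectrum.vanishingIdeal C).toIdeal with hIC
  have hIYh : IY.IsHomogeneous (𝒜) :=
    (ProjectiveSpectrum.vanishingIdeal Y).isHomogeneous
  have hICh : IC.IsHomogeneous (𝒜) :=
    (ProjectiveSpectrum.vanishingIdeal C).isHomogeneous
  have hYz : ∀ x : ProjectiveSpectrum 𝒜, IY ≤ x.asHomogeneousIdeal.toIdeal → x ∈ Y := by
    intro x hx
    have h1 : x ∈ ProjectiveSpectrum.zeroLocus (𝒜)
        ((ProjectiveSpectrum.vanishingIdeal Y : Set _)) := hx
    rw [ProjectiveSpectrum.zeroLocus_vanishingIdeal_eq_closure, hY.closure_eq] at h1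
    exact h1
  have hCz : ∀ x : ProjectiveSpectrum 𝒜, IC ≤ x.asHomogeneousIdeal.toIdeal → x ∈ C := by
    intro x hx
    have h1 : x ∈ ProjectiveSpectrum.zeroLocus (𝒜)
        ((ProjectiveSpectrum.vanishingIdeal C : Set _)) := hx
    rw [ProjectiveSpectrum.zeroLocus_vanishingIdeal_eq_closure, hC.closure_eq] at h1
    exact h1
  have hfin : (IC.minimalPrimes).Finite := Ideal.finite_minimalPrimes_of_isNoetherianRing _ IC
  set S := hfin.toFinset.filter
    (fun Q => ¬ IY ≤ Q ∧ ¬ (irrelevant (𝒜)).toIdeal ≤ Q) with hS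
  have hSp : ∀ Q ∈ S, Q.IsPrime := by
    intro Q hQ
    rw [hS, Finset.mem_filter, Set.Finite.mem_toFinset] at hQ
    exact hQ.1.1.1
  obtain ⟨t, ht, f, hft, hfI, hfav⟩ := hpaNat (𝒜) IY S hSp (by
    intro Q hQ
    haveI := hSp Q hQ
    rw [hS, Finset.mem_filter] at hQ
    exact exists_pos_homogeneous_notMem _ IY hIYh Q hQ.2.1 hQ.2.2)
  refine ⟨t, f, ht, hft, ?_, ?_⟩
  · intro y hy
    exact (ProjectiveSpectrum.mem_vanishingIdeal Y f).mp hfI y hy
  · intro x hxC hxY hfx
    have hICx : IC ≤ x.asHomogeneousIdeal.toIdeal := by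
      intro a ha
      exact (ProjectiveSpectrum.mem_vanishingIdeal C a).mp ha x hxC
    obtain ⟨Q, hQ, hQx⟩ := Ideal.exists_minimalPrimes_le hICx
    haveI hQp : Q.IsPrime := hQ.1.1
    have hQh := isHomogeneous_of_mem_minimalPrimes _ hICh hQ
    have hirr : ¬ (irrelevant (𝒜)).toIdeal ≤ Q := by
      intro hle
      exact x.not_irrelevant_le (hle.trans hQx)
    have hIYQ : ¬ IY ≤ Q := fun hle => hxY (hYz x (hle.trans hQx))
    have hQS : Q ∈ S := by
      rw [hS, Finset.mem_filter, Set.Finite.mem_toFinset]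
      exact ⟨hQ, hIYQ, hirr⟩
    have hne : Q ≠ (irrelevant (𝒜)).toIdeal := by
      intro h
      exact hirr h.ge
    refine ⟨(⟨⟨Q, hQh⟩, hQp, hirr⟩ : ProjectiveSpectrum 𝒜), hCz _ hQ.1.2, fun hgY => hIYQ ?_, ?_⟩
    · intro a ha
      exact (ProjectiveSpectrum.mem_vanishingIdeal Y a).mp ha _ hgY
    · refine lt_of_le_of_ne hQx ?_
      intro heq
      apply hfav Q hQS
      have : f ∈ ((⟨⟨Q, hQh⟩, hQp, hirr⟩ : ProjectiveSpectrum 𝒜)).asHomogeneousIdeal.toIdeal := by
        rw [heq]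
        exact hfx
      exact this

/-- Variant of `core` with an abstract height function `μ`. -/
theorem coreG (μ : ProjectiveSpectrum 𝒜 → ℕ∞) : ∀ (m : ℕ) (C Y : Set (ProjectiveSpectrum 𝒜)), IsClosed C → IsClosed Y →
    (∀ g ∈ C, g ∉ Y → ∀ x ∈ C, x ∉ Y → g < x → μ x + 1 ≤ μ g) →
    (∀ x ∈ C, x ∉ Y → μ x ≤ (m : ℕ∞)) →
    ∃ h : Fin (m + 1) → A,
      (∀ j, ∃ d : ℕ, 0 < d ∧ h j ∈ 𝒜 d) ∧
      (∀ j, ∀ y ∈ Y, h j ∈ y.asHomogeneousIdeal.toIdeal) ∧
      ∀ x ∈ C, (∀ j, h j ∈ x.asHomogeneousIdeal.toIdeal) → x ∈ Y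
  | 0, C, Y, hC, hY, hμ, hdim => by
    obtain ⟨t, f, ht, hft, hfY, hfav⟩ := exists_avoidG 𝒜 C Y hC hY
    refine ⟨fun _ => f, fun _ => ⟨t, ht, hft⟩, fun _ => hfY, ?_⟩
    intro x hxC hx
    by_contra hxY
    obtain ⟨g, hgC, hgY, hgx⟩ := hfav x hxC hxY (hx 0)
    have h1 := hμ g hgC hgY x hxC hxY hgx
    have h2 := hdim g hgC hgY
    have h3 : μ x + 1 ≤ ((0 : ℕ) : ℕ∞) := h1.trans h2
    simp at h3
  | m + 1, C, Y, hC, hY, hμ, hdim => by
    obtain ⟨t, f, ht, hft, hfY, hfav⟩ := exists_avoidG 𝒜 C Y hC hY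
    have hC' : IsClosed (C ∩ ProjectiveSpectrum.zeroLocus (𝒜) {f}) :=
      hC.inter (ProjectiveSpectrum.isClosed_zeroLocus _ _)
    obtain ⟨h', hd', hY', hcut'⟩ := coreG μ m
      (C ∩ ProjectiveSpectrum.zeroLocus (𝒜) {f}) Y hC' hY
      (fun g hg hgY x hx hxY hgx => hμ g hg.1 hgY x hx.1 hxY hgx) (by
        intro x hx hxY
        have hfx : f ∈ x.asHomogeneousIdeal.toIdeal := hx.2 (Set.mem_singleton f)
        obtain ⟨g, hgC, hgY, hgx⟩ := hfav x hx.1 hxY hfx
        have h1 := hμ g hgC hgY x hx.1 hxY hgx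
        have h2 := hdim g hgC hgY
        have h3 : μ x + 1 ≤ ((m + 1 : ℕ) : ℕ∞) := h1.trans h2
        have h4 : μ x + 1 ≤ (m : ℕ∞) + 1 := by
          simpa using h3
        exact (ENat.add_le_add_iff_right ENat.one_ne_top).mp h4)
    refine ⟨Fin.cons f h', ?_, ?_, ?_⟩
    · intro j
      refine Fin.cases ?_ (fun i => ?_) j
      · exact ⟨t, ht, by simpa using hft⟩
      · simpa using hd' i
    · intro j
      refine Fin.cases ?_ (fun i => ?_) j
      · simpa using hfY
      · simpa using hY' i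
    · intro x hxC hx
      have h0 : f ∈ x.asHomogeneousIdeal.toIdeal := by simpa using hx 0
      refine hcut' x ⟨hxC, ?_⟩ (fun i => by simpa using hx i.succ)
      intro a ha
      rw [Set.mem_singleton_iff] at ha
      rw [ha]
      exact h0

omit [IsNoetherianRing A] in
/-- The coheight of a point of a subset `S` (in the induced order) is at most `dim S`. -/
theorem coheight_subtype_le_dimG (S : Set (ProjectiveSpectrum 𝒜)) (s : S) :
    ((Order.coheight s : ℕ∞) : WithBot ℕ∞) ≤ topologicalKrullDim ↥S := by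
  have h1 : ((Order.coheight s : ℕ∞) : WithBot ℕ∞) ≤ Order.krullDim ↥S :=
    Order.coheight_le_krullDim s
  refine h1.trans ?_
  rw [← Order.krullDim_orderDual]
  unfold topologicalKrullDim
  refine Order.krullDim_le_of_strictMono (fun a : (↥S)ᵒᵈ =>
    (⟨closure {OrderDual.ofDual a}, isIrreducible_singleton.closure, isClosed_closure⟩ :
      TopologicalSpace.IrreducibleCloseds S)) ?_
  intro a b hab
  have hab' : ((OrderDual.ofDual b : S) : ProjectiveSpectrum 𝒜) < ((OrderDual.ofDual a : S) : ProjectiveSpectrum 𝒜) := hab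
  have hmem : (OrderDual.ofDual a : S) ∈ closure ({OrderDual.ofDual b} : Set S) := by
    rw [← specializes_iff_mem_closure, subtype_specializes_iff, specializes_iff_mem_closure,
      ← ProjectiveSpectrum.le_iff_mem_closure]
    exact hab'.le
  refine lt_of_le_of_ne ?_ ?_
  · change closure ({OrderDual.ofDual a} : Set S) ⊆ closure ({OrderDual.ofDual b} : Set S)
    exact closure_minimal (Set.singleton_subset_iff.mpr hmem) isClosed_closure
  · intro heq
    have heq' : closure ({OrderDual.ofDual a} : Set S) = closure ({OrderDual.ofDual b} : Set S) :=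
      congrArg (fun Z : TopologicalSpace.IrreducibleCloseds S => (Z : Set S)) heq
    have hmem' : (OrderDual.ofDual b : S) ∈ closure ({OrderDual.ofDual a} : Set S) := by
      rw [heq']
      exact subset_closure rfl
    rw [← specializes_iff_mem_closure, subtype_specializes_iff, specializes_iff_mem_closure,
      ← ProjectiveSpectrum.le_iff_mem_closure] at hmem'
    exact absurd hmem' (not_le_of_gt hab')

end CoreG

section MainG

theorem mainG {A σ : Type u} [CommRing A] [SetLike σ A] [AddSubgroupClass σ A] (𝒜 : ℕ → σ)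
    [GradedRing 𝒜] [IsNoetherianRing A] (r : ℕ)
    {X : Scheme.{u}} (j : X ⟶ Proj 𝒜) [IsImmersion j]
    (hX : topologicalKrullDim ↥X = r) :
    ∃ U : Fin (r + 1) → X.Opens, (∀ i, IsAffineOpen (U i)) ∧ ⨆ i, U i = ⊤ := by
  classical
  set S : Set (ProjectiveSpectrum (𝒜)) := Set.range j with hSdef
  set C : Set (ProjectiveSpectrum (𝒜)) := closure S with hCdef
  set Y : Set (ProjectiveSpectrum (𝒜)) := C \ S with hYdef
  have hSlc : IsLocallyClosed S := j.isLocallyClosed_range
  have hCc : IsClosed C := isClosed_closure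
  have hYc : IsClosed Y := by
    have := hSlc.isOpen_coborder
    rw [coborder, isOpen_compl_iff] at this
    exact this
  have hCY : ∀ x, x ∈ C → x ∉ Y → x ∈ S := by
    intro x hxC hxY
    by_contra hxS
    exact hxY ⟨hxC, hxS⟩
  have hdimS : topologicalKrullDim ↥S = r := by
    rw [← hX]
    have e := j.isEmbedding.toHomeomorph
    exact (IsHomeomorph.topologicalKrullDim_eq e e.isHomeomorph).symm
  let μ : ProjectiveSpectrum (𝒜) → ℕ∞ := fun x =>
    if hx : x ∈ S then Order.coheight (⟨x, hx⟩ : S) else 0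
  obtain ⟨h, hd, hY, hcut⟩ := coreG 𝒜 μ r C Y hCc hYc (by
    intro g hgC hgY x hxC hxY hgx
    have hgS := hCY g hgC hgY
    have hxS := hCY x hxC hxY
    simp only [μ, dif_pos hgS, dif_pos hxS]
    exact Order.coheight_add_one_le (show (⟨g, hgS⟩ : S) < ⟨x, hxS⟩ from hgx)) (by
    intro x hxC hxY
    have hxS := hCY x hxC hxY
    simp only [μ, dif_pos hxS]
    have h1 := coheight_subtype_le_dimG 𝒜 S ⟨x, hxS⟩
    rw [hdimS] at h1
    exact_mod_cast h1)
  refine ⟨fun i => j ⁻¹ᵁ (Proj.basicOpen (𝒜) (h i)), ?_, ?_⟩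
  · intro i
    obtain ⟨d, hd0, hdi⟩ := hd i
    have haff : IsAffineOpen (X := Proj 𝒜)
        (Proj.basicOpen (𝒜) (h i)) :=
      Proj.isAffineOpen_basicOpen (𝒜) (h i) hdi hd0
    set D : (Proj 𝒜).Opens := Proj.basicOpen (𝒜) (h i) with hD
    haveI : IsAffine (D : Scheme) := haff
    haveI : IsClosedImmersion (j ∣_ D) := by
      refine IsClosedImmersion.of_isPreimmersion _ ?_
      have hrange : Set.range ⇑(j ∣_ D) = (Subtype.val : ↥D → _) ⁻¹' C := by
        ext x
        constructor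
        · rintro ⟨y, rfl⟩
          have h1 := morphismRestrict_base_coe j D y
          change ((j ∣_ D) y).1 ∈ C
          rw [h1]
          exact subset_closure (Set.mem_range_self _)
        · intro hx
          have hxS : x.1 ∈ S := by
            by_contra hxS
            have hxY : x.1 ∈ Y := ⟨hx, hxS⟩
            exact x.2 (hY i _ hxY)
          obtain ⟨y, hy⟩ := hxS
          have hyD : y ∈ j ⁻¹ᵁ D := by
            change j y ∈ D
            rw [hy]
            exact x.2
          refine ⟨⟨y, hyD⟩, Subtype.ext ?_⟩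
          rw [morphismRestrict_base_coe]
          exact hy
      rw [hrange]
      exact hCc.preimage continuous_subtype_val
    exact isAffine_of_isAffineHom (j ∣_ D)
  · rw [_root_.eq_top_iff]
    intro x _
    have hxS : j x ∈ S := Set.mem_range_self x
    have hxY : j x ∉ Y := fun hy => hy.2 hxS
    by_contra hcon
    apply hxY
    apply hcut (j x) (subset_closure hxS)
    intro i
    by_contra hi
    apply hcon
    rw [TopologicalSpace.Opens.mem_iSup]
    exact ⟨i, hi⟩


theorem main11556 (A : Type u)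
    [CommRing A] [IsNoetherianRing A] (n d : ℕ) {X : Scheme.{u}}
    (j : X ⟶ CohB1.ProjSpaceOver n (Spec (CommRingCat.of A))) [IsImmersion j]
    (hX : topologicalKrullDim ↥X = d) :
    ∃ U : Fin (d + 1) → X.Opens, (∀ i, IsAffineOpen (U i)) ∧ ⨆ i, U i = ⊤ := by
  have hU : IsAffineOpen (⊤ : (Spec (CommRingCat.of A)).Opens) := isAffineOpen_top _
  haveI : IsNoetherianRing Γ(Spec (CommRingCat.of A), ⊤) :=
    isNoetherianRing_of_ringEquiv A
      (Scheme.ΓSpecIso (CommRingCat.of A)).symm.commRingCatIsoToRingEquiv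
  haveI : IsIso (Groth.Agent.PnOver.sigma n (⊤ : (Spec (CommRingCat.of A)).Opens) hU) := by
    apply isIso_of_isOpenImmersion_of_opensRange_eq_top
    rw [Groth.Agent.PnOver.opensRange_sigma]
    rfl
  have key : ∀ (j' : X ⟶ CohB1.ProjSpace n Γ(Spec (CommRingCat.of A), ⊤)) (_ : IsImmersion j'),
      ∃ U : Fin (d + 1) → X.Opens, (∀ i, IsAffineOpen (U i)) ∧ ⨆ i, U i = ⊤ := by
    intro j' hj'
    exact @mainG _ _ _ _ _ (CohB1.polyGrading n Γ(Spec (CommRingCat.of A), ⊤)) _ _ d X j' hj' hX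
  exact key (j ≫ inv (Groth.Agent.PnOver.sigma n (⊤ : (Spec (CommRingCat.of A)).Opens) hU))
    inferInstance

end MainG

end HypCoverH8
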