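import Mathlib
import Groth.Prelude.Def_CAlg
import Groth.Agent.Lib.ExtRees3_helper1
import Groth.Agent.Lib.SkLift_helper6

/-! Descent of Serre's conditions `(S_k)` along a cyclically pure ring map `R → S` such that the
radical of every extended prime is a prime lying over it (e.g. the inclusion of the degree zero
part of a `ℤ`-graded ring having a homogeneous unit of positive degree) (helper1). -/

set_option autoImplicit false
set_option maxHeartbeats 400000

namespace Groth.Agent.Lib.PureSkH1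

open IsLocalRing Groth.Agent.FlatCM Groth.Agent.Lib.ExtRees3H1

universe u

section defs

variable {R S : Type u} [CommRing R] [CommRing S]

/-- cyclic purity, and: every prime `q` of `R` is the contraction of a prime of `S` which is the
smallest prime containing `q S` -/
structure Good (φ : R →+* S) : Prop where
  cp : ∀ I : Ideal R, (I.map φ).comap φ ≤ I
  gd : ∀ (q : Ideal R), q.IsPrime → ∃ P : Ideal S, P.IsPrime ∧ P.comap φ = q ∧
    ∀ 𝔑 : Ideal S, 𝔑.IsPrime → q.map φ ≤ 𝔑 → P ≤ 𝔑

variable {φ : R →+* S}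

theorem Good.injective (h : Good φ) : Function.Injective φ := by
  rw [injective_iff_map_eq_zero]
  intro r hr
  have h1 : r ∈ ((⊥ : Ideal R).map φ).comap φ := by
    rw [Ideal.mem_comap, hr]
    exact Ideal.zero_mem _
  exact (Submodule.mem_bot R).1 (h.cp ⊥ h1)

theorem Good.isNoetherianRing (h : Good φ) [IsNoetherianRing S] : IsNoetherianRing R := by
  have hmono : StrictMono (fun I : Ideal R => I.map φ) := by
    intro I J hIJ
    refine lt_of_le_of_ne (Ideal.map_mono hIJ.le) ?_
    intro heq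
    have heq' : I.map φ = J.map φ := heq
    apply hIJ.not_ge
    calc J ≤ (J.map φ).comap φ := Ideal.le_comap_map
      _ = (I.map φ).comap φ := by rw [heq']
      _ ≤ I := h.cp I
  haveI : WellFoundedGT (Ideal S) := isNoetherian_iff'.1 (inferInstance : IsNoetherian S S)
  have hw : WellFoundedGT (Ideal R) := hmono.wellFoundedGT
  exact isNoetherian_iff'.2 hw

theorem Good.comap_mem_minimalPrimes (h : Good φ) {𝔑 : Ideal S} (h𝔑 : 𝔑 ∈ minimalPrimes S) :
    𝔑.comap φ ∈ minimalPrimes R := by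
  haveI h𝔑p : 𝔑.IsPrime := h𝔑.1.1
  refine ⟨⟨Ideal.comap_isPrime φ 𝔑, bot_le⟩, ?_⟩
  intro q hq' hle
  obtain ⟨hq, -⟩ := hq'
  obtain ⟨P, hP, hPc, hPmin⟩ := h.gd q hq
  have h1 : P ≤ 𝔑 := hPmin 𝔑 h𝔑p (Ideal.map_le_iff_le_comap.2 hle)
  have h2 : 𝔑 ≤ P := h𝔑.2 ⟨hP, bot_le⟩ h1
  rw [← hPc]
  exact Ideal.comap_mono h2

end defs

/-! ### prime avoidance -/

theorem exists_notMem_minimalPrimes {R : Type u} [CommRing R] [IsNoetherianRing R] (q : Ideal R)
    [hq : q.IsPrime] (hmin : q ∉ minimalPrimes R) : ∃ x ∈ q, ∀ p ∈ minimalPrimes R, x ∉ p := by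
  classical
  by_contra hcon
  have hcon' : ∀ x ∈ q, ∃ p ∈ minimalPrimes R, x ∈ p := by
    intro x hx
    by_contra hx'
    exact hcon ⟨x, hx, fun p hp hxp => hx' ⟨p, hp, hxp⟩⟩
  have hfin : (minimalPrimes R).Finite := minimalPrimes.finite_of_isNoetherianRing R
  have hsub : (q : Set R) ⊆ ⋃ p ∈ (↑hfin.toFinset : Set (Ideal R)), ((fun p : Ideal R => p) p : Set R) := by
    intro x hx
    obtain ⟨p, hp, hxp⟩ := hcon' x hx
    exact Set.mem_biUnion (show p ∈ (↑hfin.toFinset : Set (Ideal R)) from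
      Finset.mem_coe.2 (hfin.mem_toFinset.2 hp)) hxp
  obtain ⟨p, hp, hqp⟩ := (Ideal.subset_union_prime (f := fun p : Ideal R => p) ⊥ ⊥
    (fun p hp _ _ => (hfin.mem_toFinset.1 hp).1.1)).1 hsub
  have hp' : p ∈ minimalPrimes R := hfin.mem_toFinset.1 hp
  have hpq : p ≤ q := hp'.2 ⟨hq, bot_le⟩ hqp
  exact hmin (by rw [le_antisymm hqp hpq]; exact hp')

/-! ### non-zero-divisors of rings with `(S_1)` -/

theorem mem_nonZeroDivisors_of_hasS1 {S : Type u} [CommRing S] [IsNoetherianRing S]
    (hS : LocCoh.HasSk 1 S S) {r : S} (hr : ∀ p ∈ minimalPrimes S, r ∉ p) :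
    r ∈ nonZeroDivisors S := by
  by_contra hnz
  have h1 : r ∈ ((nonZeroDivisors S : Set S))ᶜ := hnz
  rw [← biUnion_associatedPrimes_eq_compl_nonZeroDivisors S] at h1
  obtain ⟨p, hp, hrp⟩ := Set.mem_iUnion₂.1 h1
  haveI hpp : p.IsPrime := IsAssociatedPrime.isPrime hp
  obtain ⟨p0, hp0, hp0le⟩ := Ideal.exists_minimalPrimes_le (bot_le : (⊥ : Ideal S) ≤ p)
  have hp0ass : p0 ∈ associatedPrimes S S := by
    apply Module.associatedPrimes.minimalPrimes_annihilator_subset_associatedPrimes S S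
    rw [Module.annihilator_eq_bot.2 inferInstance]
    exact hp0
  have heq := Groth.Agent.Lib.SkLift_helper6.noEmbedded_of_hasS1 S 1 le_rfl hS p0 p hp0ass hp hp0le
  exact hr p0 hp0 (heq ▸ hrp)

/-! ### quotients -/
section quot

variable {R S : Type u} [CommRing R] [CommRing S] (φ : R →+* S) (I0 : Ideal R)

/-- the induced map on quotients -/
noncomputable def qmap : R ⧸ I0 →+* S ⧸ I0.map φ :=
  Ideal.quotientMap (I0.map φ) φ Ideal.le_comap_map

theorem qmap_mk (r : R) :
    qmap φ I0 (Ideal.Quotient.mk I0 r) = Ideal.Quotient.mk (I0.map φ) (φ r) :=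
  Ideal.quotientMap_mk

theorem qmap_comp :
    (qmap φ I0).comp (Ideal.Quotient.mk I0) = (Ideal.Quotient.mk (I0.map φ)).comp φ :=
  Ideal.quotientMap_comp_mk _

variable {φ}

theorem good_qmap (h : Good φ) : Good (qmap φ I0) := by
  have hsR : Function.Surjective (Ideal.Quotient.mk I0) := Ideal.Quotient.mk_surjective
  have hsS : Function.Surjective (Ideal.Quotient.mk (I0.map φ)) := Ideal.Quotient.mk_surjective
  have hkS : (⊥ : Ideal (S ⧸ I0.map φ)).comap (Ideal.Quotient.mk (I0.map φ)) = I0.map φ := by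
    rw [← RingHom.ker_eq_comap_bot, Ideal.mk_ker]
  have hkR : (⊥ : Ideal (R ⧸ I0)).comap (Ideal.Quotient.mk I0) = I0 := by
    rw [← RingHom.ker_eq_comap_bot, Ideal.mk_ker]
  refine ⟨?_, ?_⟩
  · intro Ibar rbar hrbar
    obtain ⟨r, rfl⟩ := hsR rbar
    obtain ⟨I, hI⟩ : ∃ I : Ideal R, I = Ibar.comap (Ideal.Quotient.mk I0) := ⟨_, rfl⟩
    have hIbar : Ibar = I.map (Ideal.Quotient.mk I0) := by
      rw [hI, Ideal.map_comap_of_surjective _ hsR]
    have hI0 : I0 ≤ I := by
      intro a ha
      rw [hI, Ideal.mem_comap, Ideal.Quotient.eq_zero_iff_mem.2 ha]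
      exact Ibar.zero_mem
    rw [Ideal.mem_comap, qmap_mk] at hrbar
    have h1 : Ibar.map (qmap φ I0) = (I.map φ).map (Ideal.Quotient.mk (I0.map φ)) := by
      rw [hIbar, Ideal.map_map, qmap_comp, ← Ideal.map_map]
    rw [h1] at hrbar
    have h3 : φ r ∈ I.map φ := by
      have h2 : φ r ∈ ((I.map φ).map (Ideal.Quotient.mk (I0.map φ))).comap
          (Ideal.Quotient.mk (I0.map φ)) := Ideal.mem_comap.2 hrbar
      rw [Ideal.comap_map_of_surjective _ hsS, hkS, sup_eq_left.2 (Ideal.map_mono hI0)] at h2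
      exact h2
    have h4 : r ∈ I := h.cp I (Ideal.mem_comap.2 h3)
    rw [hI] at h4
    exact h4
  · intro qbar hqbar
    haveI := hqbar
    obtain ⟨q, hq⟩ : ∃ q : Ideal R, q = qbar.comap (Ideal.Quotient.mk I0) := ⟨_, rfl⟩
    have hqp : q.IsPrime := hq ▸ Ideal.comap_isPrime _ _
    obtain ⟨P, hP, hPc, hPmin⟩ := h.gd q hqp
    haveI := hP
    have hI0q : I0 ≤ q := by
      intro a ha
      rw [hq, Ideal.mem_comap, Ideal.Quotient.eq_zero_iff_mem.2 ha]
      exact qbar.zero_mem
    have hqP : q.map φ ≤ P := by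
      rw [Ideal.map_le_iff_le_comap, hPc]
    have hI0P : I0.map φ ≤ P := le_trans (Ideal.map_mono hI0q) hqP
    have hPbar : (P.map (Ideal.Quotient.mk (I0.map φ))).IsPrime :=
      Ideal.map_isPrime_of_surjective hsS (by rw [Ideal.mk_ker]; exact hI0P)
    have hPcomap : (P.map (Ideal.Quotient.mk (I0.map φ))).comap
        (Ideal.Quotient.mk (I0.map φ)) = P := by
      rw [Ideal.comap_map_of_surjective _ hsS, hkS, sup_eq_left.2 hI0P]
    refine ⟨P.map (Ideal.Quotient.mk (I0.map φ)), hPbar, ?_, ?_⟩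
    · apply Ideal.comap_injective_of_surjective _ hsR
      rw [Ideal.comap_comap, qmap_comp, ← Ideal.comap_comap, hPcomap, hPc, hq]
    · intro Nbar hNbar hle
      haveI := hNbar
      have hNp : (Nbar.comap (Ideal.Quotient.mk (I0.map φ))).IsPrime := Ideal.comap_isPrime _ _
      have h1 : q.map φ ≤ Nbar.comap (Ideal.Quotient.mk (I0.map φ)) := by
        rw [Ideal.map_le_iff_le_comap, Ideal.comap_comap, ← qmap_comp, ← Ideal.comap_comap, hq]
        exact Ideal.comap_mono (Ideal.map_le_iff_le_comap.1 hle)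
      have h2 := hPmin _ hNp h1
      calc P.map (Ideal.Quotient.mk (I0.map φ))
          ≤ (Nbar.comap (Ideal.Quotient.mk (I0.map φ))).map (Ideal.Quotient.mk (I0.map φ)) :=
            Ideal.map_mono h2
        _ = Nbar := Ideal.map_comap_of_surjective _ hsS _

end quot

/-! ### the descent -/

theorem skLoc_zero (T : Type u) [CommRing T] [IsLocalRing T] : SkLoc 0 T := by
  unfold SkLoc
  rw [Nat.cast_zero]
  refine le_trans (min_le_left _ _) ?_
  rw [← WithBot.coe_zero]
  exact WithBot.coe_le_coe.2 zero_le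

theorem skLoc_mono {k l : ℕ} (hkl : k ≤ l) {T : Type u} [CommRing T] [IsLocalRing T]
    (h : SkLoc l T) : SkLoc k T := by
  unfold SkLoc at h ⊢
  refine le_trans (min_le_min ?_ le_rfl) h
  exact_mod_cast hkl

theorem skLoc_of_dim_zero (k : ℕ) (T : Type u) [CommRing T] [IsLocalRing T]
    (hd : ringKrullDim T = 0) : SkLoc k T := by
  unfold SkLoc
  rw [hd]
  refine le_trans (min_le_right _ _) ?_
  rw [← WithBot.coe_zero]
  exact WithBot.coe_le_coe.2 zero_le

theorem skRing_of_good (k : ℕ) : ∀ {R S : Type u} [CommRing R] [CommRing S] [IsNoetherianRing S]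
    (φ : R →+* S), Good φ →
    (∀ (𝔑 : Ideal S) [𝔑.IsPrime], SkLoc k (Localization.AtPrime 𝔑)) →
    ∀ (q : Ideal R) [q.IsPrime], SkLoc k (Localization.AtPrime q) := by
  induction k with
  | zero =>
    intro R S _ _ _ φ _ _ q hq
    exact skLoc_zero _
  | succ k ih =>
    intro R S _ _ _ φ h hS q hq
    haveI : IsNoetherianRing R := h.isNoetherianRing
    by_cases hmin : q ∈ minimalPrimes R
    · apply skLoc_of_dim_zero
      rw [IsLocalization.AtPrime.ringKrullDim_eq_height q, Ideal.height_eq_zero_iff.2 hmin]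
      rfl
    · obtain ⟨x, hxq, hx⟩ := exists_notMem_minimalPrimes q hmin
      have hS1 : LocCoh.HasSk 1 S S := by
        rw [hasSk_self_iff_skLoc]
        intro 𝔑 h𝔑
        exact skLoc_mono (Nat.le_add_left 1 k) (hS 𝔑)
      have hφx : φ x ∈ nonZeroDivisors S :=
        mem_nonZeroDivisors_of_hasS1 hS1
          (fun p hp hxp => hx _ (h.comap_mem_minimalPrimes hp) hxp)
      have hxnz : x ∈ nonZeroDivisors R := by
        rw [mem_nonZeroDivisors_iff_right]
        intro y hy
        apply h.injective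
        rw [map_zero]
        exact (mem_nonZeroDivisors_iff_right.1 hφx) (φ y) (by rw [← map_mul, hy, map_zero])
      have hG := good_qmap (Ideal.span {x}) h
      have hmapspan : (Ideal.span {x}).map φ = Ideal.span {φ x} := by
        rw [Ideal.map_span, Set.image_singleton]
      have hSbar : ∀ (𝔑 : Ideal (S ⧸ (Ideal.span {x}).map φ)) [𝔑.IsPrime],
          SkLoc k (Localization.AtPrime 𝔑) := by
        intro 𝔑 h𝔑
        exact (skLoc_quot_iff (Ideal.Quotient.mk _) Ideal.Quotient.mk_surjective (φ x)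
          (by rw [Ideal.mk_ker, hmapspan]) hφx 𝔑 k).2 (hS _)
      have hRbar := ih (qmap φ (Ideal.span {x})) hG hSbar
      have hker : RingHom.ker (Ideal.Quotient.mk (Ideal.span {x})) = Ideal.span {x} :=
        Ideal.mk_ker
      have hle : Ideal.span {x} ≤ q := (Ideal.span_singleton_le_iff_mem _).2 hxq
      haveI hqbar : (q.map (Ideal.Quotient.mk (Ideal.span {x}))).IsPrime :=
        Ideal.map_isPrime_of_surjective Ideal.Quotient.mk_surjective (by rw [hker]; exact hle)
      have hcomap : (q.map (Ideal.Quotient.mk (Ideal.span {x}))).comap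
          (Ideal.Quotient.mk (Ideal.span {x})) = q := by
        rw [Ideal.comap_map_of_surjective _ Ideal.Quotient.mk_surjective,
          ← RingHom.ker_eq_comap_bot, hker, sup_eq_left.2 hle]
      have h1 := (skLoc_quot_iff (Ideal.Quotient.mk _) Ideal.Quotient.mk_surjective x hker hxnz
        (q.map (Ideal.Quotient.mk (Ideal.span {x}))) k).1 (hRbar _)
      exact (skLoc_congr hcomap).1 h1

theorem hasSk_of_good {R S : Type u} [CommRing R] [CommRing S] [IsNoetherianRing S]
    (φ : R →+* S) (h : Good φ) (k : ℕ) (hS : LocCoh.HasSk k S S) : LocCoh.HasSk k R R := by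
  rw [hasSk_self_iff_skLoc] at hS ⊢
  exact skRing_of_good k φ h hS

/-- a Noetherian local ring satisfying all `(S_k)` inequalities is Cohen–Macaulay -/
theorem cmLocal_of_skLoc (T : Type u) [CommRing T] [IsLocalRing T] [IsNoetherianRing T]
    (h : ∀ k, SkLoc k T) : LocCoh.IsCohenMacaulayLocalRing T := by
  rw [isCMLocalRing_iff]
  obtain ⟨d, hd⟩ := exists_nat_ringKrullDim T
  have h1 := h d
  unfold SkLoc at h1
  rw [hd, min_self] at h1
  refine le_antisymm ?_ (depth_le_dim T)
  rw [hd]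
  exact h1

theorem cmRing_of_good {R S : Type u} [CommRing R] [CommRing S]
    (φ : R →+* S) (h : Good φ) [hS : LocCoh.IsCohenMacaulayRing S] :
    LocCoh.IsCohenMacaulayRing R := by
  haveI : IsNoetherianRing S := hS.toIsNoetherian
  haveI : IsNoetherianRing R := h.isNoetherianRing
  refine { isCohenMacaulayLocalRing_localization := fun q hq => ?_ }
  haveI := hq
  haveI : IsNoetherianRing (Localization.AtPrime q) :=
    IsLocalization.isNoetherianRing q.primeCompl _ inferInstance
  apply cmLocal_of_skLoc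
  intro k
  exact (hasSk_self_iff_skLoc k R).1 (hasSk_of_good φ h k (hasSk_of_isCMRing k S)) q

end Groth.Agent.Lib.PureSkH1
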