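import Mathlib
import Groth.Prelude.Def_CAlg
import Groth.Agent.Lib.BassShift_helper1
import Groth.Agent.Lib.TorLES_helper5
import Groth.Agent.Lib.RectDepth_helper8
import Groth.Agent.Lib.Depth_helper5
import Groth.Agent.Lib.PureSk_helper1
import Groth.Agent.Lib.NormalTotalFrac_lead

/-! `Ext²` and `Tor₁` of maximal Cohen–Macaulay modules with transversal supports over a quotient
`R` of a two-dimensional regular local ring `S`: the base change `R ⊗_S (0 → K → F → M → 0)` of a
length one free resolution over `S` gives `P → F' → M → 0` with `P`, `F'` projective over `R`, and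
every `a ∈ Ann M` factors `a : P → P` through `P → F'` (helper1). -/

set_option autoImplicit false
set_option maxHeartbeats 400000

namespace Groth.Agent.Lib.HypExtH1

open IsLocalRing CategoryTheory TensorProduct Groth.Agent.TorLES

universe u

/-! ### the base-changed presentation -/
section core

variable {S R : Type u} [CommRing S] [CommRing R] [Algebra S R]
  (hπ : Function.Surjective (algebraMap S R))
  {M : Type u} [AddCommGroup M] [Module R M] [Module S M] [IsScalarTower S R M]
  {F : Type u} [AddCommGroup F] [Module S F] (p : F →ₗ[S] M)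

include hπ in
theorem exists_one_tmul {X : Type u} [AddCommGroup X] [Module S X] (w : R ⊗[S] X) :
    ∃ x : X, w = (1 : R) ⊗ₜ[S] x := by
  induction w using TensorProduct.induction_on with
  | zero => exact ⟨0, (TensorProduct.tmul_zero _ _).symm⟩
  | tmul r x =>
    obtain ⟨s, rfl⟩ := hπ r
    refine ⟨s • x, ?_⟩
    rw [← TensorProduct.smul_tmul, Algebra.smul_def, mul_one]
  | add w₁ w₂ h₁ h₂ =>
    obtain ⟨x₁, rfl⟩ := h₁
    obtain ⟨x₂, rfl⟩ := h₂
    exact ⟨x₁ + x₂, (TensorProduct.tmul_add _ _ _).symm⟩

/-- `P = R ⊗ K → F' = R ⊗ F` -/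
noncomputable def Φ : R ⊗[S] (LinearMap.ker p) →ₗ[R] R ⊗[S] F :=
  (LinearMap.ker p).subtype.baseChange R

/-- `F' = R ⊗ F → M` -/
noncomputable def pb : R ⊗[S] F →ₗ[R] M := p.liftBaseChange R

theorem pb_one_tmul (v : F) : pb (R := R) p ((1 : R) ⊗ₜ[S] v) = p v := by
  unfold pb
  rw [LinearMap.liftBaseChange_tmul, one_smul]

theorem Φ_one_tmul (k : LinearMap.ker p) :
    Φ (R := R) p ((1 : R) ⊗ₜ[S] k) = (1 : R) ⊗ₜ[S] (k : F) := rfl

include hπ in
theorem pb_Φ (w : R ⊗[S] (LinearMap.ker p)) : pb (R := R) p (Φ p w) = 0 := by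
  obtain ⟨k, rfl⟩ := exists_one_tmul hπ w
  rw [Φ_one_tmul, pb_one_tmul]
  exact k.2

include hπ in
theorem exists_of_pb_eq_zero (w : R ⊗[S] F) (hw : pb (R := R) p w = 0) :
    ∃ z, Φ (R := R) p z = w := by
  obtain ⟨v, rfl⟩ := exists_one_tmul hπ w
  rw [pb_one_tmul] at hw
  exact ⟨(1 : R) ⊗ₜ[S] (⟨v, hw⟩ : LinearMap.ker p), rfl⟩

theorem pb_surjective (hp : Function.Surjective p) : Function.Surjective (pb (R := R) p) := by
  intro m
  obtain ⟨v, rfl⟩ := hp m
  exact ⟨(1 : R) ⊗ₜ[S] v, pb_one_tmul p v⟩

/-- the homotopy for an element of the annihilator -/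
noncomputable def hS (a : S) (ha : ∀ m : M, a • m = 0) : F →ₗ[S] LinearMap.ker p :=
  (a • (LinearMap.id : F →ₗ[S] F)).codRestrict (LinearMap.ker p) (fun v => by
    rw [LinearMap.mem_ker, LinearMap.smul_apply, LinearMap.id_apply, map_smul]
    exact ha _)

theorem hS_comp (a : S) (ha : ∀ m : M, a • m = 0) :
    (hS p a ha).comp (LinearMap.ker p).subtype = a • LinearMap.id := by
  apply LinearMap.ext
  intro k
  apply Subtype.ext
  rfl

/-- the base-changed homotopy -/
noncomputable def hb (a : S) (ha : ∀ m : M, a • m = 0) :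
    R ⊗[S] F →ₗ[R] R ⊗[S] (LinearMap.ker p) :=
  (hS p a ha).baseChange R

theorem hb_Φ (a : S) (ha : ∀ m : M, a • m = 0) (w : R ⊗[S] (LinearMap.ker p)) :
    hb (R := R) p a ha (Φ p w) = algebraMap S R a • w := by
  have h1 : (hb (R := R) p a ha).comp (Φ p) = a • LinearMap.id := by
    unfold hb Φ
    rw [← LinearMap.baseChange_comp, hS_comp, LinearMap.baseChange_smul, LinearMap.baseChange_id]
  have h2 := LinearMap.congr_fun h1 w
  rw [LinearMap.comp_apply] at h2
  rw [h2, LinearMap.smul_apply, LinearMap.id_apply, algebraMap_smul]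

end core

/-! ### the general homological lemma -/
section general

variable {R : Type u} [CommRing R]
  {P F' M : Type u} [AddCommGroup P] [Module R P] [AddCommGroup F'] [Module R F']
  [AddCommGroup M] [Module R M]
  (Φg : P →ₗ[R] F') (pg : F' →ₗ[R] M) (hg : F' →ₗ[R] P) (r : R)
  (hpΦ : ∀ w, pg (Φg w) = 0) (hex : ∀ w, pg w = 0 → ∃ z, Φg z = w)
  (hsurj : Function.Surjective pg) (hhg : ∀ w, hg (Φg w) = r • w)

/-- `P → ker (F' → M)` -/
noncomputable def qg : P →ₗ[R] LinearMap.ker pg :=
  Φg.codRestrict (LinearMap.ker pg) (fun w => hpΦ w)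

include hex in
theorem qg_surjective : Function.Surjective (qg Φg pg hpΦ) := by
  intro k
  obtain ⟨z, hz⟩ := hex k.1 k.2
  exact ⟨z, Subtype.ext hz⟩

include hhg in
theorem smul_eq_zero_of_mem_ker_qg (z : P) (hz : qg Φg pg hpΦ z = 0) : r • z = 0 := by
  have h1 : Φg z = 0 := congrArg Subtype.val hz
  rw [← hhg z, h1, map_zero]

include hpΦ hex hsurj hhg in
theorem ext_two_gen [Module.Projective R P] [Module.Projective R F'] (N : Type u)
    [AddCommGroup N] [Module R N] (hreg : IsSMulRegular N r) :
    Subsingleton (Abelian.Ext.{u} (ModuleCat.of R M) (ModuleCat.of R N) 2) := by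
  have hS1 := mk_shortExact (LinearMap.ker pg).subtype pg
    (Submodule.injective_subtype _) (LinearMap.exact_subtype_ker_map _) hsurj
  haveI hproj1 : Projective (ModuleCat.of R F') :=
    (IsProjective.iff_projective F').1 inferInstance
  haveI hproj1' : Projective (ShortComplex.moduleCatMk (LinearMap.ker pg).subtype pg
      (LinearMap.exact_subtype_ker_map pg).linearMap_comp_eq_zero).X₂ := hproj1
  refine Groth.Agent.Lib.BassShiftH1.ext_succ_of_ses hS1 (ModuleCat.of R N) 0 ?_
  have hS2 := mk_shortExact (LinearMap.ker (qg Φg pg hpΦ)).subtype (qg Φg pg hpΦ)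
    (Submodule.injective_subtype _) (LinearMap.exact_subtype_ker_map _)
    (qg_surjective Φg pg hpΦ hex)
  haveI hproj2 : Projective (ModuleCat.of R P) :=
    (IsProjective.iff_projective P).1 inferInstance
  haveI hproj2' : Projective (ShortComplex.moduleCatMk (LinearMap.ker (qg Φg pg hpΦ)).subtype
      (qg Φg pg hpΦ)
      (LinearMap.exact_subtype_ker_map (qg Φg pg hpΦ)).linearMap_comp_eq_zero).X₂ := hproj2
  refine Groth.Agent.Lib.BassShiftH1.ext_one_of_ses hS2 (ModuleCat.of R N) ?_
  intro φ
  refine ⟨0, ?_⟩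
  rw [Limits.comp_zero]
  symm
  apply ModuleCat.hom_ext
  apply LinearMap.ext
  intro z
  apply hreg
  change r • φ.hom z = r • (0 : N)
  rw [smul_zero, ← map_smul]
  have hz : r • z = 0 := by
    apply Subtype.ext
    exact smul_eq_zero_of_mem_ker_qg Φg pg hg r hpΦ hhg z.1 z.2
  rw [hz, map_zero]

theorem smul_injective_tensor (P N : Type u) [AddCommGroup P] [Module R P] [Module.Flat R P]
    [AddCommGroup N] [Module R N] (r : R) (hreg : IsSMulRegular N r) (w : P ⊗[R] N)
    (hw : r • w = 0) : w = 0 := by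
  have hinj : Function.Injective ((LinearMap.lsmul R N r).lTensor P) :=
    Module.Flat.lTensor_preserves_injective_linearMap _ hreg
  have h1 : (LinearMap.lsmul R N r) = r • LinearMap.id := by
    apply LinearMap.ext
    intro n
    rfl
  apply hinj
  rw [map_zero, h1, LinearMap.lTensor_smul, LinearMap.lTensor_id, LinearMap.smul_apply,
    LinearMap.id_apply]
  exact hw

include hpΦ hex hsurj hhg in
theorem tor_one_gen [Module.Flat R P] [Module.Flat R F'] (N : Type u)
    [AddCommGroup N] [Module R N] (hreg : IsSMulRegular N r) :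
    TorZero R 1 M N := by
  rw [torZero_one_iff_left (LinearMap.ker pg).subtype pg N
    (Submodule.injective_subtype _) (LinearMap.exact_subtype_ker_map _) hsurj]
  rw [injective_iff_map_eq_zero]
  intro u hu
  obtain ⟨ut, rfl⟩ := LinearMap.rTensor_surjective N (qg_surjective Φg pg hpΦ hex) u
  have hΦ : Φg = (LinearMap.ker pg).subtype.comp (qg Φg pg hpΦ) := rfl
  have h1 : Φg.rTensor N ut = 0 := by
    rw [hΦ, LinearMap.rTensor_comp, LinearMap.comp_apply]
    exact hu
  have h2 : r • ut = 0 := by
    have h3 : hg.comp Φg = r • LinearMap.id := by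
      apply LinearMap.ext
      intro w
      rw [LinearMap.comp_apply, hhg, LinearMap.smul_apply, LinearMap.id_apply]
    have h4 := congrArg (hg.rTensor N) h1
    rw [map_zero, ← LinearMap.comp_apply, ← LinearMap.rTensor_comp, h3, LinearMap.rTensor_smul,
      LinearMap.rTensor_id, LinearMap.smul_apply, LinearMap.id_apply] at h4
    exact h4
  rw [smul_injective_tensor _ N _ hreg ut h2, map_zero]

end general

/-! ### `Ext²` and `Tor₁` -/
section apply

variable {S R : Type u} [CommRing S] [CommRing R] [Algebra S R]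
  (hπ : Function.Surjective (algebraMap S R))
  {M : Type u} [AddCommGroup M] [Module R M] [Module S M] [IsScalarTower S R M]
  {F : Type u} [AddCommGroup F] [Module S F] (p : F →ₗ[S] M)

include hπ in
theorem ext_two (hp : Function.Surjective p) [Module.Projective S (LinearMap.ker p)]
    [Module.Projective S F] (N : Type u) [AddCommGroup N] [Module R N] (a : S)
    (ha : ∀ m : M, a • m = 0) (hreg : IsSMulRegular N (algebraMap S R a)) :
    Subsingleton (Abelian.Ext.{u} (ModuleCat.of R M) (ModuleCat.of R N) 2) :=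
  ext_two_gen (Φ (R := R) p) (pb (R := R) p) (hb (R := R) p a ha) (algebraMap S R a)
    (pb_Φ hπ p) (exists_of_pb_eq_zero hπ p) (pb_surjective p hp) (hb_Φ p a ha) N hreg

include hπ in
theorem tor_one (hp : Function.Surjective p) [Module.Projective S (LinearMap.ker p)]
    [Module.Projective S F] (N : Type u) [AddCommGroup N] [Module R N] (a : S)
    (ha : ∀ m : M, a • m = 0) (hreg : IsSMulRegular N (algebraMap S R a)) :
    TorZero R 1 M N :=
  tor_one_gen (Φ (R := R) p) (pb (R := R) p) (hb (R := R) p a ha) (algebraMap S R a)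
    (pb_Φ hπ p) (exists_of_pb_eq_zero hπ p) (pb_surjective p hp) (hb_Φ p a ha) N hreg

end apply


/-! ### the kernel is projective -/

theorem pd_lt_two (S : Type u) [CommRing S] [IsRegularLocalRing S] (hS : ringKrullDim S = 2)
    (M : Type u) [AddCommGroup M] [Module S M] [Module.Finite S M] (x : S)
    (hx : x ∈ maximalIdeal S) (hreg : IsSMulRegular M x) :
    HasProjectiveDimensionLT (ModuleCat.of S M) 2 := by
  rcases subsingleton_or_nontrivial M with h | h
  · haveI : HasProjectiveDimensionLT (ModuleCat.of S M) 0 :=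
      (ModuleCat.isZero_of_subsingleton _).hasProjectiveDimensionLT_zero
    exact hasProjectiveDimensionLT_of_ge _ 0 2 (by omega)
  · obtain ⟨e, d', hpd, hdep, hdim⟩ := RectDepthH8.exists_pd_depth S M
    have h1 : (1 : ℕ∞) ≤ LocCoh.depth S M :=
      (Groth.Agent.DepthLib.one_le_idealDepth_iff (maximalIdeal S) M).2 (Or.inr ⟨x, hx, hreg⟩)
    rw [hdep] at h1
    have h1' : 1 ≤ d' := by exact_mod_cast h1
    rw [hS] at hdim
    have h2 : 2 = e + d' := by exact_mod_cast hdim
    rw [← projectiveDimension_lt_iff, hpd]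
    have h3 : e < 2 := by omega
    exact_mod_cast h3

theorem projective_ker (S : Type u) [CommRing S] [IsRegularLocalRing S] (hS : ringKrullDim S = 2)
    (M : Type u) [AddCommGroup M] [Module S M] [Module.Finite S M] (x : S)
    (hx : x ∈ maximalIdeal S) (hreg : IsSMulRegular M x)
    (F : Type u) [AddCommGroup F] [Module S F] [Module.Projective S F] (p : F →ₗ[S] M)
    (hp : Function.Surjective p) : Module.Projective S (LinearMap.ker p) := by
  have hSE := mk_shortExact (LinearMap.ker p).subtype p
    (Submodule.injective_subtype _) (LinearMap.exact_subtype_ker_map _) hp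
  have h2 : HasProjectiveDimensionLT (ModuleCat.of S F) 1 :=
    projective_iff_hasProjectiveDimensionLT_one.1 ((IsProjective.iff_projective F).1 inferInstance)
  have h3 : HasProjectiveDimensionLT (ModuleCat.of S M) (1 + 1) := pd_lt_two S hS M x hx hreg
  have h1 := hSE.hasProjectiveDimensionLT_X₁ 1 h2 h3
  exact (IsProjective.iff_projective (LinearMap.ker p)).2
    (projective_iff_hasProjectiveDimensionLT_one.2 h1)

/-! ### elements -/

theorem exists_regular_mem {R : Type u} [CommRing R] [IsLocalRing R] (I J : Ideal R) (n : ℕ)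
    (hIJ : maximalIdeal R ^ n ≤ I ⊔ J) (Y : Type u) [AddCommGroup Y] [Module R Y]
    (hJ : J ≤ Module.annihilator R Y) (y : R) (hy : y ∈ maximalIdeal R)
    (hreg : IsSMulRegular Y y) : ∃ a ∈ I, IsSMulRegular Y a := by
  have h1 : y ^ n ∈ I ⊔ J := hIJ (Ideal.pow_mem_pow hy n)
  obtain ⟨a, ha, b, hb, hab⟩ := Submodule.mem_sup.1 h1
  refine ⟨a, ha, ?_⟩
  have hsm : ∀ ν : Y, a • ν = y ^ n • ν := by
    intro ν
    rw [← hab, add_smul, Module.mem_annihilator.1 (hJ hb) ν, add_zero]
  intro ν₁ ν₂ h
  apply hreg.pow n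
  change y ^ n • ν₁ = y ^ n • ν₂
  rw [← hsm, ← hsm]
  exact h

theorem exists_regular_maximal (S : Type u) [CommRing S] [IsRegularLocalRing S]
    (hS : ringKrullDim S = 2) (f : S) (R : Type u) [CommRing R] [IsLocalRing R] [IsReduced R]
    (π : S →+* R) (hπ : Function.Surjective π) (hker : RingHom.ker π = Ideal.span {f}) :
    ∃ t ∈ maximalIdeal R, t ∈ nonZeroDivisors R := by
  haveI : IsNoetherianRing R := isNoetherianRing_of_surjective S R π hπ
  have hmin : maximalIdeal R ∉ minimalPrimes R := by
    intro hm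
    have h1 : (maximalIdeal R).comap π ∈ ((⊥ : Ideal R).comap π).minimalPrimes := by
      rw [Ideal.comap_minimalPrimes_eq_of_surjective hπ]
      exact ⟨_, hm, rfl⟩
    rw [← RingHom.ker_eq_comap_bot, hker] at h1
    haveI : IsLocalHom π := IsLocalHom.of_surjective π hπ
    have h2 : (maximalIdeal R).comap π = maximalIdeal S := by
      ext s
      rw [Ideal.mem_comap, IsLocalRing.mem_maximalIdeal, IsLocalRing.mem_maximalIdeal,
        mem_nonunits_iff, mem_nonunits_iff, isUnit_map_iff]
    rw [h2] at h1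
    haveI : (Ideal.span {f}).IsPrincipal := ⟨⟨f, rfl⟩⟩
    have h3 := Ideal.height_le_one_of_isPrincipal_of_mem_minimalPrimes _ _ h1
    have h4 : ((maximalIdeal S).height : WithBot ℕ∞) = 2 := by
      rw [IsLocalRing.maximalIdeal_height_eq_ringKrullDim, hS]
    have h4' : ((maximalIdeal S).height : WithBot ℕ∞) = ((2 : ℕ∞) : WithBot ℕ∞) := by
      rw [h4]
      rfl
    have h5 : (maximalIdeal S).height = 2 := WithBot.coe_injective h4'
    rw [h5] at h3
    exact absurd h3 (by norm_num)
  obtain ⟨t, ht, htmin⟩ := Groth.Agent.Lib.PureSkH1.exists_notMem_minimalPrimes (maximalIdeal R) hmin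
  exact ⟨t, ht, Groth.Agent.Lib.NormalTotalFrac.mem_nonZeroDivisors_of_forall_notMem htmin⟩

/-! ### the main results -/

section mains

variable (S : Type u) [CommRing S] [IsRegularLocalRing S] (hS : ringKrullDim S = 2)
  (R : Type u) [CommRing R] [IsLocalRing R]
  (π : S →+* R) (hπ : Function.Surjective π)
  (I : Ideal R)
  (M : Type u) [AddCommGroup M] [Module R M] [Module.Finite R M]
  (hI : I ≤ Module.annihilator R M)
  (x : R) (hx : x ∈ maximalIdeal R) (hxM : IsSMulRegular M x)

include hS hπ hI hx hxM in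
/-- common part: for any `R`-module `N'` with an element of `I` regular on `N'`. -/
theorem common (N' : Type u) [AddCommGroup N'] [Module R N'] (a : R) (ha : a ∈ I)
    (hreg : IsSMulRegular N' a) :
    Subsingleton (Abelian.Ext.{u} (ModuleCat.of R M) (ModuleCat.of R N') 2) ∧
      TorZero R 1 M N' := by
  letI : Algebra S R := π.toAlgebra
  letI : Module S M := Module.compHom M π
  haveI : IsScalarTower S R M := IsScalarTower.of_algebraMap_smul (fun s m => rfl)
  have hπ' : Function.Surjective (algebraMap S R) := hπ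
  haveI : Module.Finite S R := Module.Finite.of_surjective (Algebra.linearMap S R) hπ'
  haveI : Module.Finite S M := Module.Finite.trans R M
  obtain ⟨k, s, hs⟩ := Module.Finite.exists_fin (R := S) (M := M)
  have hp : Function.Surjective (Fintype.linearCombination S s) := by
    rw [← LinearMap.range_eq_top, Fintype.range_linearCombination]
    exact hs
  obtain ⟨xt, rfl⟩ := hπ x
  have hxt : xt ∈ maximalIdeal S := by
    rw [IsLocalRing.mem_maximalIdeal, mem_nonunits_iff] at hx ⊢
    intro hu
    exact hx (hu.map π)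
  have hxtreg : IsSMulRegular M xt := fun m₁ m₂ h => hxM h
  haveI : Module.Projective S (LinearMap.ker (Fintype.linearCombination S s)) :=
    projective_ker S hS M xt hxt hxtreg _ _ hp
  obtain ⟨at', rfl⟩ := hπ a
  have hann : ∀ m : M, at' • m = 0 := fun m => Module.mem_annihilator.1 (hI ha) m
  exact ⟨ext_two hπ' _ hp N' at' hann hreg, tor_one hπ' _ hp N' at' hann hreg⟩

end mains

theorem main13992 (S : Type u) [CommRing S] [IsRegularLocalRing S] (hS : ringKrullDim S = 2)
    (R : Type u) [CommRing R] [IsLocalRing R] (π : S →+* R)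
    (hπ : Function.Surjective π) (I J : Ideal R) (n : ℕ)
    (hIJ : IsLocalRing.maximalIdeal R ^ n ≤ I ⊔ J) (M N : Type u) [AddCommGroup M] [Module R M]
    [Module.Finite R M] [AddCommGroup N] [Module R N]
    (hI : I ≤ Module.annihilator R M) (hJ : J ≤ Module.annihilator R N) (x : R)
    (hx : x ∈ IsLocalRing.maximalIdeal R) (hxM : IsSMulRegular M x) (y : R)
    (hy : y ∈ IsLocalRing.maximalIdeal R) (hyN : IsSMulRegular N y) :
    Subsingleton (Abelian.Ext.{u} (ModuleCat.of R M) (ModuleCat.of R N) 2) := by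
  obtain ⟨a, ha, hreg⟩ := exists_regular_mem I J n hIJ N hJ y hy hyN
  exact (common S hS R π hπ I M hI x hx hxM N a ha hreg).1

theorem main13994 (S : Type u) [CommRing S] [IsRegularLocalRing S] (hS : ringKrullDim S = 2)
    (f : S) (R : Type u) [CommRing R] [IsLocalRing R] [IsReduced R] (π : S →+* R)
    (hπ : Function.Surjective π) (hker : RingHom.ker π = Ideal.span {f}) (I J : Ideal R) (n : ℕ)
    (hIJ : IsLocalRing.maximalIdeal R ^ n ≤ I ⊔ J) (M N : Type u) [AddCommGroup M] [Module R M]
    [Module.Finite R M] [AddCommGroup N] [Module R N]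
    (hI : I ≤ Module.annihilator R M) (hJ : J ≤ Module.annihilator R N) (x : R)
    (hx : x ∈ IsLocalRing.maximalIdeal R) (hxM : IsSMulRegular M x) :
    TorZero R 1 M (Module.Dual R N) := by
  obtain ⟨t, ht, htreg⟩ := exists_regular_maximal S hS f R π hπ hker
  have htD : IsSMulRegular (Module.Dual R N) t := by
    intro φ ψ h
    apply LinearMap.ext
    intro ν
    have h1 : t • φ ν = t • ψ ν := LinearMap.congr_fun h ν
    rw [smul_eq_mul, smul_eq_mul] at h1
    exact (mul_cancel_left_mem_nonZeroDivisors htreg).1 h1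
  have hJD : J ≤ Module.annihilator R (Module.Dual R N) := by
    intro b hb
    rw [Module.mem_annihilator]
    intro φ
    apply LinearMap.ext
    intro ν
    rw [LinearMap.smul_apply, ← map_smul, Module.mem_annihilator.1 (hJ hb) ν, map_zero,
      LinearMap.zero_apply]
  obtain ⟨a, ha, hreg⟩ := exists_regular_mem I J n hIJ (Module.Dual R N) hJD t ht htD
  exact (common S hS R π hπ I M hI x hx hxM (Module.Dual R N) a ha hreg).2

end Groth.Agent.Lib.HypExtH1
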