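import Mathlib

/-!
# Index of the hypersurface `x₀^d = π x₁^d + ⋯ + π^N x_N^d` over the fraction field of a DVR
(helper3)

`idx d N` is the gcd of the `d / δ` over the divisors `δ` of `d` with `1 ≤ δ ≤ N`.
* `exists_ext`: for each such `δ` the Eisenstein extension `K[T]/(T^(d/δ) - π)` has a solution;
* `idx_dvd_finrank`: every finite extension with a non-zero solution has degree divisible by
  `idx d N` (separable closure + fundamental identity `∑ e f = n` + purely inseparable part);
* `main`: the resulting equality of subgroups of `ℤ`.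
-/

set_option autoImplicit false
universe u

namespace Groth.Agent.Lib.HypIndexH3

open Polynomial IsDedekindDomain

/-- the gcd `I(d,N)` of the quotients `d / δ`, `δ ∣ d`, `1 ≤ δ ≤ N`. -/
def idx (d N : ℕ) : ℕ := ((Finset.Icc 1 N).filter (fun δ => δ ∣ d)).gcd (fun δ => d / δ)

theorem idx_dvd_of_dvd_mul {d N m t : ℕ} (hd : 1 ≤ d) (hm1 : 1 ≤ m) (hmN : m ≤ N)
    (h : d ∣ m * t) : idx d N ∣ t := by
  have hδpos : 0 < Nat.gcd m d := Nat.gcd_pos_of_pos_left _ (by omega)
  have hδd : Nat.gcd m d ∣ d := Nat.gcd_dvd_right m d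
  have hδm : Nat.gcd m d ∣ m := Nat.gcd_dvd_left m d
  have hδle : Nat.gcd m d ≤ m := Nat.le_of_dvd (by omega) hδm
  have hmem : Nat.gcd m d ∈ (Finset.Icc 1 N).filter (fun δ => δ ∣ d) := by
    simp only [Finset.mem_filter, Finset.mem_Icc]
    exact ⟨⟨hδpos, by omega⟩, hδd⟩
  have h1 : idx d N ∣ d / Nat.gcd m d := Finset.gcd_dvd (f := fun δ => d / δ) hmem
  refine h1.trans ?_
  have hcop : Nat.Coprime (d / Nat.gcd m d) (m / Nat.gcd m d) :=
    (Nat.coprime_div_gcd_div_gcd hδpos).symm
  have h2 : d / Nat.gcd m d ∣ (m / Nat.gcd m d) * t := by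
    have h3 : (d / Nat.gcd m d) * Nat.gcd m d ∣ ((m / Nat.gcd m d) * t) * Nat.gcd m d := by
      rw [Nat.div_mul_cancel hδd, mul_right_comm, Nat.div_mul_cancel hδm]
      exact h
    exact Nat.dvd_of_mul_dvd_mul_right hδpos h3
  exact hcop.dvd_of_dvd_mul_left h2

theorem idx_dvd_of_int_eq {d N a b t : ℕ} (hd : 1 ≤ d) (ha : a ≤ N) (hb : b ≤ N) (hab : a ≠ b)
    (α β : ℤ) (h : (a : ℤ) * (-(t : ℤ)) + d * α = (b : ℤ) * (-(t : ℤ)) + d * β) :
    idx d N ∣ t := by
  rcases lt_or_gt_of_ne hab with hlt | hlt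
  · refine idx_dvd_of_dvd_mul (m := b - a) hd (by omega) (by omega) ?_
    refine Int.natCast_dvd_natCast.mp ⟨β - α, ?_⟩
    push_cast [Nat.cast_sub hlt.le]
    linarith
  · refine idx_dvd_of_dvd_mul (m := a - b) hd (by omega) (by omega) ?_
    refine Int.natCast_dvd_natCast.mp ⟨α - β, ?_⟩
    push_cast [Nat.cast_sub hlt.le]
    linarith

theorem idx_mem_of_forall (d N : ℕ) (H : AddSubgroup ℤ)
    (h : ∀ δ, 1 ≤ δ → δ ≤ N → δ ∣ d → ((d / δ : ℕ) : ℤ) ∈ H) : ((idx d N : ℕ) : ℤ) ∈ H := by
  obtain ⟨c, hc⟩ := Int.subgroup_cyclic H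
  have hc' : H = AddSubgroup.zmultiples c := by
    rw [hc, AddSubgroup.zmultiples_eq_closure]
  have hdvd : c.natAbs ∣ idx d N := by
    refine Finset.dvd_gcd fun δ hδ => ?_
    simp only [Finset.mem_filter, Finset.mem_Icc] at hδ
    have := h δ hδ.1.1 hδ.1.2 hδ.2
    rw [hc', Int.mem_zmultiples_iff] at this
    exact Int.natAbs_dvd_natAbs.mpr this
  rw [hc', Int.mem_zmultiples_iff]
  exact Int.natAbs_dvd_natAbs.mp (by simpa using hdvd)

/-- In a vanishing finite sum in a valued ring with a term of non-zero valuation, two distinct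
terms have the same non-zero valuation. -/
theorem exists_ne_val_eq {A ι : Type*} [Ring A] (v : Valuation A (WithZero (Multiplicative ℤ)))
    [DecidableEq ι] (s : Finset ι) (f : ι → A)
    (hsum : ∑ i ∈ s, f i = 0) {j : ι} (hj : j ∈ s) (hfj : v (f j) ≠ 0) :
    ∃ a ∈ s, ∃ b ∈ s, a ≠ b ∧ v (f a) = v (f b) ∧ v (f a) ≠ 0 := by
  obtain ⟨a, ha, hmax⟩ := Finset.exists_max_image s (fun i => v (f i)) ⟨j, hj⟩
  have ha0 : v (f a) ≠ 0 := by
    have := hmax j hj
    intro h0
    rw [h0] at this
    exact hfj (le_antisymm this zero_le')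
  by_contra hcon
  push_neg at hcon
  have hlt : ∀ i ∈ s \ {a}, v (f i) < v (f a) := by
    intro i hi
    rw [Finset.mem_sdiff, Finset.mem_singleton] at hi
    refine lt_of_le_of_ne (hmax i hi.1) fun heq => ?_
    exact ha0 (hcon a ha i hi.1 (Ne.symm hi.2) heq.symm)
  have := Valuation.map_sum_eq_of_lt v ha hlt
  rw [hsum, map_zero] at this
  exact ha0 this.symm

/-- The separable core: a non-zero solution of `z₀^d = ∑ π^((i+1)Q) z_{i+1}^d` in a finite
separable extension `M` of `K` forces `idx d N ∣ Q * [M : K]`. -/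
theorem core_sep (R : Type*) [CommRing R] [IsDomain R] [IsDiscreteValuationRing R]
    (K : Type*) [Field K] [Algebra R K] [IsFractionRing R K]
    (M : Type*) [Field M] [Algebra K M] [Algebra R M] [IsScalarTower R K M]
    [FiniteDimensional K M] [Algebra.IsSeparable K M]
    (ϖ : R) (hϖ : Irreducible ϖ) (d N Q : ℕ) (hd : 1 ≤ d)
    (z : Fin (N + 1) → M) (hz : z ≠ 0)
    (heq : z 0 ^ d = ∑ i : Fin N, algebraMap R M (ϖ ^ (((i : ℕ) + 1) * Q)) * z i.succ ^ d) :
    idx d N ∣ Q * Module.finrank K M := by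
  classical
  let S := integralClosure R M
  haveI : IsDedekindDomain S := integralClosure.isDedekindDomain R K M
  haveI : IsFractionRing S M := integralClosure.isFractionRing_of_finite_extension K M
  haveI : Module.Finite R S := IsIntegralClosure.finite R K M S
  have hinjRM : Function.Injective (algebraMap R M) := by
    rw [IsScalarTower.algebraMap_eq R K M]
    exact (algebraMap K M).injective.comp (IsFractionRing.injective R K)
  have hinjRS : Function.Injective (algebraMap R S) := by
    intro a b hab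
    apply hinjRM
    have := congrArg (algebraMap S M) hab
    rwa [← IsScalarTower.algebraMap_apply, ← IsScalarTower.algebraMap_apply] at this
  haveI : Module.IsTorsionFree R S := Module.isTorsionFree_iff_algebraMap_injective.mpr hinjRS
  haveI : Module.Flat R S := inferInstance
  have hp0 : IsLocalRing.maximalIdeal R ≠ ⊥ := IsDiscreteValuationRing.not_a_field R
  have hpspan : IsLocalRing.maximalIdeal R = Ideal.span {ϖ} := hϖ.maximalIdeal_eq
  haveI : Fintype ((IsLocalRing.maximalIdeal R).primesOver S) :=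
    (Algebra.QuasiFinite.finite_primesOver (IsLocalRing.maximalIdeal R)).fintype
  have hsum := Ideal.sum_ramification_inertia_eq_finrank (IsLocalRing.maximalIdeal R) S
  have hfr : Module.finrank K M = Module.finrank R S := IsFractionRing.finrank_eq R K S M
  rw [hfr, ← hsum, Finset.mul_sum]
  refine Finset.dvd_sum fun q _ => ?_
  rw [← mul_assoc]
  refine Dvd.dvd.mul_right ?_ _
  -- the prime `q`
  haveI hqprime : q.1.IsPrime := q.2.1
  haveI hqlies : q.1.LiesOver (IsLocalRing.maximalIdeal R) := q.2.2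
  have hpS : (IsLocalRing.maximalIdeal R).map (algebraMap R S) ≠ ⊥ :=
    Ideal.map_ne_bot_of_ne_bot hp0
  have hq0 : q.1 ≠ ⊥ :=
    ne_bot_of_le_ne_bot hpS (Ideal.map_le_of_le_comap (q.1.over_def (IsLocalRing.maximalIdeal R)).le)
  let v : HeightOneSpectrum S := ⟨q.1, hqprime, hq0⟩
  let w : Valuation M (WithZero (Multiplicative ℤ)) := v.valuation M
  set e : ℕ := q.1.ramificationIdx R with he
  have hϖS : algebraMap R S ϖ ≠ 0 := by
    intro h0
    exact hϖ.ne_zero (hinjRS (by rw [h0, map_zero]))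
  have hwϖ : w (algebraMap R M ϖ) = WithZero.exp (-(e : ℤ)) := by
    have hmap : (IsLocalRing.maximalIdeal R).map (algebraMap R S) = Ideal.span {algebraMap R S ϖ} := by
      rw [hpspan, Ideal.map_span, Set.image_singleton]
    have h1 : e = multiplicity q.1 (Ideal.span {algebraMap R S ϖ}) := by
      rw [he, Ideal.IsDedekindDomain.ramificationIdx_eq_multiplicity (IsLocalRing.maximalIdeal R) q.1 hpS,
        hmap]
    change v.valuation M (algebraMap R M ϖ) = _
    rw [IsScalarTower.algebraMap_apply R S M, HeightOneSpectrum.valuation_of_algebraMap,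
      v.intValuation_eq_exp_neg_multiplicity hϖS, h1]
  -- the terms
  let F : Fin (N + 1) → M := fun j =>
    if j = 0 then z 0 ^ d else -(algebraMap R M (ϖ ^ ((j : ℕ) * Q)) * z j ^ d)
  have hFsum : ∑ j, F j = 0 := by
    rw [Fin.sum_univ_succ]
    have hs : ∀ i : Fin N,
        F i.succ = -(algebraMap R M (ϖ ^ (((i : ℕ) + 1) * Q)) * z i.succ ^ d) := by
      intro i
      simp only [F, Fin.succ_ne_zero, if_false, Fin.val_succ]
    have h0 : F 0 = z 0 ^ d := by simp [F]
    simp only [hs, Finset.sum_neg_distrib]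
    rw [h0, heq, add_neg_cancel]
  have hwF : ∀ j, w (F j) = WithZero.exp (-(e : ℤ)) ^ ((j : ℕ) * Q) * w (z j) ^ d := by
    intro j
    by_cases hj : j = 0
    · subst hj
      simp [F]
    · simp only [F, hj, if_false, Valuation.map_neg, map_mul, map_pow, hwϖ]
  obtain ⟨j, hj⟩ := Function.ne_iff.mp hz
  have hFj : w (F j) ≠ 0 := by
    rw [hwF]
    exact mul_ne_zero (pow_ne_zero _ WithZero.exp_ne_zero)
      (pow_ne_zero _ ((Valuation.ne_zero_iff _).mpr hj))
  obtain ⟨a, -, b, -, hab, hval, hne⟩ :=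
    exists_ne_val_eq w Finset.univ F hFsum (Finset.mem_univ j) hFj
  have hd0 : d ≠ 0 := by omega
  have hza : w (z a) ≠ 0 := by
    intro h0
    apply hne
    rw [hwF, h0, zero_pow hd0, mul_zero]
  have hzb : w (z b) ≠ 0 := by
    intro h0
    apply hne
    rw [hval, hwF, h0, zero_pow hd0, mul_zero]
  have hlog := congrArg WithZero.log hval
  rw [hwF, hwF, WithZero.log_mul (pow_ne_zero _ WithZero.exp_ne_zero) (pow_ne_zero _ hza),
    WithZero.log_mul (pow_ne_zero _ WithZero.exp_ne_zero) (pow_ne_zero _ hzb),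
    WithZero.log_pow, WithZero.log_pow, WithZero.log_pow, WithZero.log_pow, WithZero.log_exp] at hlog
  refine idx_dvd_of_int_eq (a := (a : ℕ)) (b := (b : ℕ)) hd (by omega) (by omega)
    (fun h => hab (Fin.ext h)) (WithZero.log (w (z a))) (WithZero.log (w (z b))) ?_
  simp only [nsmul_eq_mul] at hlog
  push_cast at hlog ⊢
  linarith

/-- Every finite extension with a non-zero solution has degree divisible by `idx d N`. -/
theorem idx_dvd_finrank (R : Type u) [CommRing R] [IsDomain R] [IsDiscreteValuationRing R]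
    (K : Type u) [Field K] [Algebra R K] [IsFractionRing R K]
    (ϖ : R) (hϖ : Irreducible ϖ) (d N : ℕ) (hd : 1 ≤ d)
    (L : Type u) [Field L] [Algebra K L] [FiniteDimensional K L]
    (x : Fin (N + 1) → L) (hx : x ≠ 0)
    (heq : x 0 ^ d =
      ∑ i : Fin N, algebraMap K L (algebraMap R K (ϖ ^ ((i : ℕ) + 1))) * x i.succ ^ d) :
    idx d N ∣ Module.finrank K L := by
  classical
  letI : Algebra R L := ((algebraMap K L).comp (algebraMap R K)).toAlgebra
  haveI : IsScalarTower R K L := IsScalarTower.of_algebraMap_eq fun _ => rfl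
  obtain ⟨p, hp⟩ := ExpChar.exists K
  haveI := hp
  haveI : ExpChar L p := expChar_of_injective_algebraMap (algebraMap K L).injective p
  haveI : IsScalarTower R (separableClosure K L) L := IsScalarTower.of_algebraMap_eq fun _ => rfl
  obtain ⟨k, hk⟩ := IsPurelyInseparable.finrank_eq_pow (separableClosure K L) L p
  have hpow : ∀ y : L, ∃ z : separableClosure K L,
      algebraMap (separableClosure K L) L z = y ^ p ^ k := by
    intro y
    have h1 : (minpoly (separableClosure K L) y).natDegree ∣
        Module.finrank (separableClosure K L) L :=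
      minpoly.degree_dvd (Algebra.IsIntegral.isIntegral y)
    rw [IsPurelyInseparable.minpoly_natDegree_eq' (separableClosure K L) p y, hk] at h1
    obtain ⟨c, hc⟩ := h1
    refine ⟨IsPurelyInseparable.elemReduct (separableClosure K L) y ^ c, ?_⟩
    rw [map_pow, IsPurelyInseparable.algebraMap_elemReduct_eq' (separableClosure K L) p y,
      ← pow_mul, ← hc]
  choose zf hzf using hpow
  have key := core_sep R K (separableClosure K L) ϖ hϖ d N (p ^ k) hd (fun j => zf (x j)) ?_ ?_
  · rw [← Module.finrank_mul_finrank K (separableClosure K L) L, hk, mul_comm]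
    exact key
  · obtain ⟨j, hj⟩ := Function.ne_iff.mp hx
    refine Function.ne_iff.mpr ⟨j, fun h0 => hj ?_⟩
    have h1 := hzf (x j)
    rw [show zf (x j) = 0 from h0, map_zero] at h1
    exact pow_eq_zero_iff (pow_ne_zero _ (expChar_ne_zero L p)) |>.mp h1.symm
  · apply (algebraMap (separableClosure K L) L).injective
    have h2 := congrArg (iterateFrobenius L p k) heq
    simp only [map_pow, map_sum, map_mul, iterateFrobenius_def] at h2
    simp only [map_pow, map_sum, map_mul, hzf]
    rw [h2]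
    refine Finset.sum_congr rfl fun i _ => ?_
    congr 1
    rw [← IsScalarTower.algebraMap_apply R (separableClosure K L) L, pow_mul, pow_right_comm]
    rfl

/-- The Eisenstein extension `K[T]/(T^(d/δ) - π)` carries a non-zero solution. -/
theorem exists_ext (R : Type u) [CommRing R] [IsDomain R] [IsDiscreteValuationRing R]
    (K : Type u) [Field K] [Algebra R K] [IsFractionRing R K]
    (ϖ : R) (hϖ : Irreducible ϖ) (d N δ : ℕ) (hd : 1 ≤ d) (hδ1 : 1 ≤ δ) (hδN : δ ≤ N)
    (hδd : δ ∣ d) :
    ∃ (L : Type u) (_ : Field L) (_ : Algebra K L),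
      FiniteDimensional K L ∧ ((d / δ : ℕ) : ℤ) = (Module.finrank K L : ℤ) ∧
      ∃ x : Fin (N + 1) → L, x ≠ 0 ∧
        x 0 ^ d =
          ∑ i : Fin N, algebraMap K L (algebraMap R K (ϖ ^ ((i : ℕ) + 1))) * x i.succ ^ d := by
  classical
  have he : 1 ≤ d / δ := Nat.div_pos (Nat.le_of_dvd hd hδd) hδ1
  have hde : d = (d / δ) * δ := (Nat.div_mul_cancel hδd).symm
  set e := d / δ with hedef
  have he0 : e ≠ 0 := by omega
  let fR : R[X] := X ^ e - C ϖ
  have hmonic : fR.Monic := monic_X_pow_sub_C ϖ he0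
  have hdeg : fR.natDegree = e := natDegree_X_pow_sub_C
  have hprime : (Ideal.span {ϖ} : Ideal R).IsPrime :=
    (Ideal.span_singleton_prime hϖ.ne_zero).mpr hϖ.prime
  have hE : fR.IsEisensteinAt (Ideal.span {ϖ}) := by
    refine ⟨?_, ?_, ?_⟩
    · rw [hmonic.leadingCoeff]
      intro h
      exact hprime.ne_top ((Ideal.eq_top_iff_one _).mpr h)
    · intro n hn
      rw [hdeg] at hn
      simp only [fR, coeff_sub, coeff_X_pow, coeff_C]
      rw [if_neg (by omega)]
      split_ifs
      · rw [zero_sub]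
        exact neg_mem (Ideal.mem_span_singleton_self ϖ)
      · simp
    · have hc0 : fR.coeff 0 = -ϖ := by
        simp only [fR, coeff_sub, coeff_X_pow, coeff_C_zero]
        rw [if_neg (by omega), zero_sub]
      rw [hc0, Ideal.span_singleton_pow, Ideal.mem_span_singleton, dvd_neg]
      intro hdvd
      have h1 : ϖ * ϖ ∣ ϖ * 1 := by simpa [pow_two] using hdvd
      exact hϖ.not_isUnit (isUnit_of_dvd_one ((mul_dvd_mul_iff_left hϖ.ne_zero).mp h1))
  have hirrR : Irreducible fR :=
    hE.irreducible hprime hmonic.isPrimitive (by rw [hdeg]; omega)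
  have hirr : Irreducible (fR.map (algebraMap R K)) :=
    (Monic.irreducible_iff_irreducible_map_fraction_map hmonic).mp hirrR
  haveI : Fact (Irreducible (fR.map (algebraMap R K))) := ⟨hirr⟩
  have hf0 : fR.map (algebraMap R K) ≠ 0 := hirr.ne_zero
  have hroot : (AdjoinRoot.root (fR.map (algebraMap R K))) ^ e =
      algebraMap K (AdjoinRoot (fR.map (algebraMap R K))) (algebraMap R K ϖ) := by
    have h := AdjoinRoot.eval₂_root (fR.map (algebraMap R K))
    simp only [fR, Polynomial.map_sub, Polynomial.map_pow, Polynomial.map_X, Polynomial.map_C,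
      eval₂_sub, eval₂_pow, eval₂_X, eval₂_C] at h
    rw [AdjoinRoot.algebraMap_eq]
    exact sub_eq_zero.mp h
  refine ⟨AdjoinRoot (fR.map (algebraMap R K)), inferInstance, inferInstance, ?_, ?_, ?_⟩
  · exact (AdjoinRoot.powerBasis hf0).finite
  · rw [(AdjoinRoot.powerBasis hf0).finrank, AdjoinRoot.powerBasis_dim, hmonic.natDegree_map, hdeg]
  · refine ⟨fun j => if j = 0 then AdjoinRoot.root (fR.map (algebraMap R K))
      else if (j : ℕ) = δ then 1 else 0, ?_, ?_⟩
    · refine Function.ne_iff.mpr ⟨⟨δ, by omega⟩, ?_⟩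
      have hne : (⟨δ, by omega⟩ : Fin (N + 1)) ≠ 0 := by
        intro h
        have := congrArg Fin.val h
        simp at this
        omega
      simp [hne]
    · have hN0 : δ - 1 < N := by omega
      rw [Finset.sum_eq_single (⟨δ - 1, hN0⟩ : Fin N)]
      · have h1 : ((⟨δ - 1, hN0⟩ : Fin N).succ : ℕ) = δ := by
          simp only [Fin.val_succ]
          omega
        have h2 : δ - 1 + 1 = δ := by omega
        simp only [if_true, Fin.succ_ne_zero, if_false, h1, one_pow, mul_one, h2]
        rw [hde, pow_mul, hroot, map_pow, map_pow]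
      · intro i _ hi
        have h1 : ((i.succ : Fin (N + 1)) : ℕ) ≠ δ := by
          simp only [Fin.val_succ]
          intro h
          apply hi
          apply Fin.ext
          simp only
          omega
        simp only [Fin.succ_ne_zero, if_false, h1]
        rw [zero_pow (by omega), mul_zero]
      · intro h
        exact absurd (Finset.mem_univ _) h

/-- The index of the hypersurface, as an equality of subgroups of `ℤ`. -/
theorem main (R : Type u) [CommRing R] [IsDomain R]
    [IsDiscreteValuationRing R] (K : Type u) [Field K] [Algebra R K] [IsFractionRing R K]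
    (ϖ : R) (hϖ : Irreducible ϖ) (d N : ℕ) (hd : 1 ≤ d) (_hN : 1 ≤ N) :
    AddSubgroup.closure {m : ℤ | ∃ (L : Type u) (_ : Field L) (_ : Algebra K L),
        FiniteDimensional K L ∧ m = (Module.finrank K L : ℤ) ∧
        ∃ x : Fin (N + 1) → L, x ≠ 0 ∧
          x 0 ^ d = ∑ i : Fin N, algebraMap K L (algebraMap R K (ϖ ^ ((i : ℕ) + 1))) * x i.succ ^ d} =
      AddSubgroup.zmultiples ((((Finset.Icc 1 N).filter (fun δ => δ ∣ d)).gcd (fun δ => d / δ) : ℕ) : ℤ) := by
  change _ = AddSubgroup.zmultiples ((idx d N : ℕ) : ℤ)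
  apply le_antisymm
  · rw [AddSubgroup.closure_le]
    rintro m ⟨L, hF, hA, hfd, rfl, x, hx, heq⟩
    rw [SetLike.mem_coe, Int.mem_zmultiples_iff]
    exact Int.natCast_dvd_natCast.mpr (idx_dvd_finrank R K ϖ hϖ d N hd L x hx heq)
  · refine AddSubgroup.zmultiples_le_of_mem ?_
    refine idx_mem_of_forall d N _ fun δ h1 h2 h3 => AddSubgroup.subset_closure ?_
    exact exists_ext R K ϖ hϖ d N δ hd h1 h2 h3

end Groth.Agent.Lib.HypIndexH3
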