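import Mathlib

/-!
# Monomial span in `R[x,y,z]/(y² - P(x), yz - 1)` (helper1)
-/

set_option autoImplicit false

namespace Groth.Agent.Lib.HypMonomialsH1

universe u

open MvPolynomial

theorem S15526 (R : Type u) [CommRing R] (g : ℕ)
    (P : Polynomial R) (hP : P.Monic) (hdeg : P.natDegree = 2 * g + 1) :
    Submodule.span R {a : MvPolynomial (Fin 3) R ⧸
        Ideal.span ({X 1 ^ 2 - Polynomial.aeval (X 0 : MvPolynomial (Fin 3) R) P, X 1 * X 2 - 1} :
          Set (MvPolynomial (Fin 3) R)) |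
        ∃ i n : ℕ, i ≤ 2 * g ∧
          (a = Ideal.Quotient.mk _ (X 0 ^ i * X 1 ^ n) ∨ a = Ideal.Quotient.mk _ (X 0 ^ i * X 2 ^ n))} =
      ⊤ := by
  classical
  obtain ⟨I, hI⟩ : ∃ I : Ideal (MvPolynomial (Fin 3) R), I = Ideal.span
    ({X 1 ^ 2 - Polynomial.aeval (X 0 : MvPolynomial (Fin 3) R) P, X 1 * X 2 - 1} :
          Set (MvPolynomial (Fin 3) R)) := ⟨_, rfl⟩
  rw [← hI]
  obtain ⟨x, hx⟩ : ∃ x : MvPolynomial (Fin 3) R ⧸ I, x = Ideal.Quotient.mk I (X 0) := ⟨_, rfl⟩
  obtain ⟨y, hy⟩ : ∃ y : MvPolynomial (Fin 3) R ⧸ I, y = Ideal.Quotient.mk I (X 1) := ⟨_, rfl⟩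
  obtain ⟨z, hz⟩ : ∃ z : MvPolynomial (Fin 3) R ⧸ I, z = Ideal.Quotient.mk I (X 2) := ⟨_, rfl⟩
  have hyz : y * z = 1 := by
    rw [hy, hz, ← map_mul, ← map_one (Ideal.Quotient.mk I), ← sub_eq_zero, ← map_sub,
      Ideal.Quotient.eq_zero_iff_mem, hI]
    exact Ideal.subset_span (by simp)
  have hy2 : y ^ 2 = Polynomial.aeval x P := by
    have h1 : Ideal.Quotient.mk I
        (X 1 ^ 2 - Polynomial.aeval (X 0 : MvPolynomial (Fin 3) R) P) = 0 := by
      rw [Ideal.Quotient.eq_zero_iff_mem, hI]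
      exact Ideal.subset_span (by simp)
    rw [map_sub, sub_eq_zero, map_pow] at h1
    rw [hy, h1, hx]
    exact (Polynomial.aeval_algHom_apply (Ideal.Quotient.mkₐ R I) (X 0) P).symm
  have hxpow : x ^ (2 * g + 1) =
      y ^ 2 - ∑ j ∈ Finset.range (2 * g + 1), P.coeff j • x ^ j := by
    have h3 : Polynomial.aeval x P =
        ∑ j ∈ Finset.range (2 * g + 1), P.coeff j • x ^ j + x ^ (2 * g + 1) := by
      rw [Polynomial.aeval_eq_sum_range, hdeg, Finset.sum_range_succ]
      have h4 : P.coeff (2 * g + 1) = 1 := by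
        have := hP.coeff_natDegree
        rwa [hdeg] at this
      rw [h4, one_smul]
    rw [hy2, h3, add_sub_cancel_left]
  let yu : (MvPolynomial (Fin 3) R ⧸ I)ˣ := ⟨y, z, hyz, by rw [mul_comm]; exact hyz⟩
  have hyu_nat : ∀ n : ℕ, ((yu ^ (n : ℤ) : (MvPolynomial (Fin 3) R ⧸ I)ˣ) :
      MvPolynomial (Fin 3) R ⧸ I) = y ^ n := by
    intro n
    rw [zpow_natCast, Units.val_pow_eq_pow_val]
  have hyu_neg : ∀ n : ℕ, ((yu ^ (-(n : ℤ)) : (MvPolynomial (Fin 3) R ⧸ I)ˣ) :
      MvPolynomial (Fin 3) R ⧸ I) = z ^ n := by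
    intro n
    rw [zpow_neg, zpow_natCast, ← inv_pow, Units.val_pow_eq_pow_val]
    rfl
  -- the Laurent-monomial generating set
  let S' : Set (MvPolynomial (Fin 3) R ⧸ I) := {a | ∃ i : ℕ, i ≤ 2 * g ∧ ∃ k : ℤ,
    a = x ^ i * ((yu ^ k : (MvPolynomial (Fin 3) R ⧸ I)ˣ) : MvPolynomial (Fin 3) R ⧸ I)}
  have hS' : Submodule.span R S' ≤ Submodule.span R {a : MvPolynomial (Fin 3) R ⧸ I |
        ∃ i n : ℕ, i ≤ 2 * g ∧
          (a = Ideal.Quotient.mk _ (X 0 ^ i * X 1 ^ n) ∨
            a = Ideal.Quotient.mk _ (X 0 ^ i * X 2 ^ n))} := by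
    apply Submodule.span_mono
    rintro a ⟨i, hi, k, rfl⟩
    obtain ⟨n, rfl | rfl⟩ := Int.eq_nat_or_neg k
    · refine ⟨i, n, hi, Or.inl ?_⟩
      rw [hyu_nat, map_mul, map_pow, map_pow, hx, hy]
    · refine ⟨i, n, hi, Or.inr ?_⟩
      rw [hyu_neg, map_mul, map_pow, map_pow, hx, hz]
  rw [eq_top_iff]
  refine le_trans ?_ hS'
  -- closure properties
  have hmem : ∀ (i : ℕ) (k : ℤ), i ≤ 2 * g →
      x ^ i * ((yu ^ k : (MvPolynomial (Fin 3) R ⧸ I)ˣ) : MvPolynomial (Fin 3) R ⧸ I) ∈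
        Submodule.span R S' := fun i k hi => Submodule.subset_span ⟨i, hi, k, rfl⟩
  have hyW : ∀ w ∈ Submodule.span R S', w * y ∈ Submodule.span R S' := by
    intro w hw
    induction hw using Submodule.span_induction with
    | mem a ha =>
      obtain ⟨i, hi, k, rfl⟩ := ha
      have : x ^ i * ((yu ^ k : (MvPolynomial (Fin 3) R ⧸ I)ˣ) : MvPolynomial (Fin 3) R ⧸ I) * y =
          x ^ i * ((yu ^ (k + 1) : (MvPolynomial (Fin 3) R ⧸ I)ˣ) :
            MvPolynomial (Fin 3) R ⧸ I) := by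
        rw [zpow_add_one, Units.val_mul, mul_assoc]
      rw [this]
      exact hmem i (k + 1) hi
    | zero => rw [zero_mul]; exact zero_mem _
    | add a b _ _ ha hb => rw [add_mul]; exact add_mem ha hb
    | smul r a _ ha => rw [smul_mul_assoc]; exact Submodule.smul_mem _ _ ha
  have hzW : ∀ w ∈ Submodule.span R S', w * z ∈ Submodule.span R S' := by
    intro w hw
    induction hw using Submodule.span_induction with
    | mem a ha =>
      obtain ⟨i, hi, k, rfl⟩ := ha
      have : x ^ i * ((yu ^ k : (MvPolynomial (Fin 3) R ⧸ I)ˣ) : MvPolynomial (Fin 3) R ⧸ I) * z =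
          x ^ i * ((yu ^ (k - 1) : (MvPolynomial (Fin 3) R ⧸ I)ˣ) :
            MvPolynomial (Fin 3) R ⧸ I) := by
        rw [zpow_sub_one, Units.val_mul, mul_assoc]
        rfl
      rw [this]
      exact hmem i (k - 1) hi
    | zero => rw [zero_mul]; exact zero_mem _
    | add a b _ _ ha hb => rw [add_mul]; exact add_mem ha hb
    | smul r a _ ha => rw [smul_mul_assoc]; exact Submodule.smul_mem _ _ ha
  have hxW : ∀ w ∈ Submodule.span R S', w * x ∈ Submodule.span R S' := by
    intro w hw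
    induction hw using Submodule.span_induction with
    | mem a ha =>
      obtain ⟨i, hi, k, rfl⟩ := ha
      rcases Nat.lt_or_ge i (2 * g) with hlt | hge
      · have : x ^ i * ((yu ^ k : (MvPolynomial (Fin 3) R ⧸ I)ˣ) :
            MvPolynomial (Fin 3) R ⧸ I) * x =
            x ^ (i + 1) * ((yu ^ k : (MvPolynomial (Fin 3) R ⧸ I)ˣ) :
              MvPolynomial (Fin 3) R ⧸ I) := by
          rw [pow_succ]; ring
        rw [this]
        exact hmem (i + 1) k hlt
      · have hi' : i = 2 * g := le_antisymm hi hge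
        subst hi'
        have : x ^ (2 * g) * ((yu ^ k : (MvPolynomial (Fin 3) R ⧸ I)ˣ) :
            MvPolynomial (Fin 3) R ⧸ I) * x =
            x ^ 0 * ((yu ^ (k + 2) : (MvPolynomial (Fin 3) R ⧸ I)ˣ) :
              MvPolynomial (Fin 3) R ⧸ I) -
            ∑ j ∈ Finset.range (2 * g + 1), P.coeff j •
              (x ^ j * ((yu ^ k : (MvPolynomial (Fin 3) R ⧸ I)ˣ) :
                MvPolynomial (Fin 3) R ⧸ I)) := by
          have h1 : x ^ (2 * g) * ((yu ^ k : (MvPolynomial (Fin 3) R ⧸ I)ˣ) :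
            MvPolynomial (Fin 3) R ⧸ I) * x = x ^ (2 * g + 1) *
              ((yu ^ k : (MvPolynomial (Fin 3) R ⧸ I)ˣ) : MvPolynomial (Fin 3) R ⧸ I) := by
            rw [pow_succ]; ring
          have h2 : ((yu ^ (k + 2) : (MvPolynomial (Fin 3) R ⧸ I)ˣ) :
              MvPolynomial (Fin 3) R ⧸ I) =
              ((yu ^ k : (MvPolynomial (Fin 3) R ⧸ I)ˣ) : MvPolynomial (Fin 3) R ⧸ I) * y ^ 2 := by
            rw [zpow_add, Units.val_mul]
            congr 1
          rw [h1, hxpow, h2, sub_mul, Finset.sum_mul, pow_zero, one_mul]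
          congr 1
          · ring
          · refine Finset.sum_congr rfl (fun j _ => ?_)
            rw [smul_mul_assoc]
        rw [this]
        refine sub_mem (hmem 0 (k + 2) (Nat.zero_le _)) (Submodule.sum_mem _ (fun j hj => ?_))
        refine Submodule.smul_mem _ _ (hmem j k ?_)
        have := Finset.mem_range.mp hj
        omega
    | zero => rw [zero_mul]; exact zero_mem _
    | add a b _ _ ha hb => rw [add_mul]; exact add_mem ha hb
    | smul r a _ ha => rw [smul_mul_assoc]; exact Submodule.smul_mem _ _ ha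
  have hone : (1 : MvPolynomial (Fin 3) R ⧸ I) ∈ Submodule.span R S' := by
    have := hmem 0 0 (Nat.zero_le _)
    simpa using this
  have key : ∀ p : MvPolynomial (Fin 3) R, Ideal.Quotient.mk I p ∈ Submodule.span R S' := by
    intro p
    induction p using MvPolynomial.induction_on with
    | C r =>
      have : Ideal.Quotient.mk I (C r) = r • (1 : MvPolynomial (Fin 3) R ⧸ I) := by
        rw [← Algebra.algebraMap_eq_smul_one]
        rfl
      rw [this]
      exact Submodule.smul_mem _ _ hone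
    | add p q hp hq =>
      rw [map_add]
      exact add_mem hp hq
    | mul_X p i hp =>
      rw [map_mul]
      fin_cases i
      · have := hxW _ hp
        rwa [hx] at this
      · have := hyW _ hp
        rwa [hy] at this
      · have := hzW _ hp
        rwa [hz] at this
  intro a _
  obtain ⟨p, rfl⟩ := Ideal.Quotient.mk_surjective a
  exact key p

end Groth.Agent.Lib.HypMonomialsH1
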