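import Mathlib
import Groth.Prelude.Def_CAlg
import Groth.Agent.Lib.SerreNormal_helper5
import Groth.Agent.Lib.ExtTop_helper5
import Groth.Agent.Lib.CM_helper5

/-!
# Hypersurfaces in regular rings: normal ⟺ (R₁) (helper5)
-/

universe u

open IsLocalRing

namespace Groth.Agent.HypNormal

open Groth.Agent.DepthLib Groth.Agent.ExtTop Groth.Agent.GlDim Groth.Agent.SerreLib

/-- a regular local ring modulo one element of the maximal ideal has `dim ≤ depth` -/
theorem dim_le_depth_quot (R : Type u) [CommRing R] [IsRegularLocalRing R] (g : R)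
    (hg : g ∈ maximalIdeal R) [IsLocalRing (R ⧸ Ideal.span {g})] :
    ringKrullDim (R ⧸ Ideal.span {g}) ≤
      ((LocCoh.depth (R ⧸ Ideal.span {g}) (R ⧸ Ideal.span {g}) : ℕ∞) : WithBot ℕ∞) := by
  obtain ⟨n, hn⟩ := exists_dim R
  haveI : IsDomain R := Groth.Agent.RegularLib.isDomain R
  by_cases hg0 : g = 0
  · subst hg0
    let e : (R ⧸ Ideal.span {(0 : R)}) ≃+* R :=
      (Ideal.quotEquivOfEq (by simp)).trans (RingEquiv.quotientBot R)
    rw [ringKrullDim_eq_of_ringEquiv e, depth_eq_of_ringEquiv _ _ e]
    have h := regular_depth R n hn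
    unfold LocCoh.depth
    rw [h, hn]
    exact le_rfl
  · have hreg : IsSMulRegular R g := by
      intro a b hab
      exact mul_left_cancel₀ hg0 hab
    have hd := idealDepth_quotSMulTop_add_one (maximalIdeal R) R hg hreg
    rw [regular_depth R n hn] at hd
    let e₀ : (QuotSMulTop g R) ≃ₗ[R] (R ⧸ Ideal.span {g}) :=
      Submodule.quotEquivOfEq _ _ (by
        rw [← Submodule.ideal_span_singleton_smul g (⊤ : Submodule R R)]
        exact Ideal.mul_top _)
    have hd'' : LocCoh.idealDepth (maximalIdeal R) (R ⧸ Ideal.span {g}) + 1 = (n : ℕ∞) := by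
      rw [← idealDepth_congr (maximalIdeal R) _ e₀]
      exact hd
    haveI : IsLocalHom (algebraMap R (R ⧸ Ideal.span {g})) :=
      IsLocalHom.of_surjective _
        (Ideal.Quotient.mk_surjective : Function.Surjective (algebraMap R (R ⧸ Ideal.span {g})))
    have h3 := depth_eq_of_isLocalHom R (R ⧸ Ideal.span {g}) (R ⧸ Ideal.span {g})
    have hdim := ringKrullDim_quotient_span_singleton_succ_eq_ringKrullDim hreg hg
    rw [← h3]
    unfold LocCoh.depth
    have h4 : ((LocCoh.idealDepth (maximalIdeal R) (R ⧸ Ideal.span {g}) : ℕ∞) : WithBot ℕ∞) + 1 =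
        (n : WithBot ℕ∞) := by exact_mod_cast hd''
    have h5 : ringKrullDim (R ⧸ Ideal.span {g}) + 1 =
        ((LocCoh.idealDepth (maximalIdeal R) (R ⧸ Ideal.span {g}) : ℕ∞) : WithBot ℕ∞) + 1 := by
      rw [hdim, hn, h4]
    exact (add_one_cancel' h5).le

/-- a hypersurface in a regular ring satisfies `(S₂)` (it is Cohen–Macaulay) -/
theorem hasSk_two (A : Type u) [CommRing A] [IsNoetherianRing A]
    (hreg : ∀ (p : Ideal A) (_ : p.IsPrime), IsRegularLocalRing (Localization.AtPrime p))
    (f : A) (I : Ideal A) (hI : I = Ideal.span ({f} : Set A)) :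
    LocCoh.HasSk 2 (A ⧸ I) (A ⧸ I) := by
  intro Q hQ
  rw [supportDim_locSelf, depth_locSelf]
  set q := Q.comap (Ideal.Quotient.mk I) with hq
  haveI : q.IsPrime := Ideal.comap_isPrime _ _
  haveI := hreg q inferInstance
  have hfq : f ∈ q := by
    rw [hq, Ideal.mem_comap]
    have : Ideal.Quotient.mk I f = 0 := Ideal.Quotient.eq_zero_iff_mem.mpr
      (hI ▸ Ideal.mem_span_singleton_self f)
    rw [this]
    exact Q.zero_mem
  set Rq := Localization.AtPrime q
  have hmem : algebraMap A Rq f ∈ maximalIdeal Rq := by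
    rw [← Localization.AtPrime.map_eq_maximalIdeal]
    exact Ideal.mem_map_of_mem _ hfq
  have hmap : I.map (algebraMap A Rq) = Ideal.span {algebraMap A Rq f} := by
    rw [hI, Ideal.map_span, Set.image_singleton]
  have hsub : Algebra.algebraMapSubmonoid (A ⧸ I) q.primeCompl = Q.primeCompl := by
    ext y
    constructor
    · rintro ⟨x, hx, rfl⟩
      exact hx
    · intro hy
      obtain ⟨x, rfl⟩ := Ideal.Quotient.mk_surjective y
      exact ⟨x, hy, rfl⟩
  haveI hloc : IsLocalization.AtPrime (Rq ⧸ I.map (algebraMap A Rq)) Q := by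
    have := (inferInstance : IsLocalization (Algebra.algebraMapSubmonoid (A ⧸ I) q.primeCompl)
      (Rq ⧸ I.map (algebraMap A Rq)))
    rw [hsub] at this
    exact this
  let e1 : (Rq ⧸ I.map (algebraMap A Rq)) ≃+* Localization.AtPrime Q :=
    (IsLocalization.algEquiv Q.primeCompl (Rq ⧸ I.map (algebraMap A Rq))
      (Localization.AtPrime Q)).toRingEquiv
  let e2 : (Rq ⧸ Ideal.span {algebraMap A Rq f}) ≃+* (Rq ⧸ I.map (algebraMap A Rq)) :=
    Ideal.quotEquivOfEq hmap.symm
  let e := e2.trans e1
  haveI : IsLocalRing (Rq ⧸ Ideal.span {algebraMap A Rq f}) :=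
    Groth.Agent.RegularLib.isLocalRing_quotient _
      (Groth.Agent.RegularLib.span_singleton_ne_top _ hmem)
  have h1 := dim_le_depth_quot Rq (algebraMap A Rq f) hmem
  rw [ringKrullDim_eq_of_ringEquiv e, depth_eq_of_ringEquiv _ _ e,
    IsLocalization.AtPrime.ringKrullDim_eq_height Q] at h1
  exact (min_le_right _ _).trans h1

/-- an integral hypersurface in a regular ring is normal iff it is regular in codimension one -/
theorem main (A : Type u) [CommRing A] [IsNoetherianRing A]
    (hreg : ∀ (p : Ideal A) (_ : p.IsPrime), IsRegularLocalRing (Localization.AtPrime p))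
    (f : A) (hf : (Ideal.span ({f} : Set A)).IsPrime) :
    IsIntegrallyClosed (A ⧸ Ideal.span ({f} : Set A)) ↔
      ∀ q : PrimeSpectrum (A ⧸ Ideal.span ({f} : Set A)),
        ringKrullDim (Localization.AtPrime q.asIdeal) = 1 →
          IsRegularLocalRing (Localization.AtPrime q.asIdeal) := by
  haveI : IsDomain (A ⧸ Ideal.span ({f} : Set A)) := (Ideal.Quotient.isDomain_iff_prime _).mpr hf
  constructor
  · intro hic q hq
    haveI := hic
    haveI : IsIntegrallyClosed (Localization.AtPrime q.asIdeal) :=
      isIntegrallyClosed_of_isLocalization (Localization.AtPrime q.asIdeal) q.asIdeal.primeCompl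
        q.asIdeal.primeCompl_le_nonZeroDivisors
    exact regular_of_normal_of_dim_le_one (Localization.AtPrime q.asIdeal) (by rw [hq])
  · intro h
    have hR1 : LocCoh.HasRk 1 (A ⧸ Ideal.span ({f} : Set A)) := by
      intro P hP hht
      have hdim : ringKrullDim (Localization.AtPrime P) = P.height :=
        IsLocalization.AtPrime.ringKrullDim_eq_height P _
      by_cases h1 : ringKrullDim (Localization.AtPrime P) = 1
      · exact h ⟨P, hP⟩ h1
      · have hle : ringKrullDim (Localization.AtPrime P) ≤ 1 := by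
          rw [hdim]
          exact_mod_cast hht
        have h0 : ringKrullDim (Localization.AtPrime P) ≤ 0 :=
          le_zero_of_lt_one (lt_of_le_of_ne hle h1)
        haveI : Ring.KrullDimLE 0 (Localization.AtPrime P) :=
          Ring.krullDimLE_iff.2 (by exact_mod_cast h0)
        have hfld : IsField (Localization.AtPrime P) := Ring.KrullDimLE.isField_of_isDomain
        haveI : IsPrincipalIdealRing (Localization.AtPrime P) := by
          letI := hfld.toField
          infer_instance
        infer_instance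
    have hS2 := hasSk_two A hreg f (Ideal.span ({f} : Set A)) rfl
    have hall := (serre_criterion (A ⧸ Ideal.span ({f} : Set A))).2 ⟨hR1, hS2⟩
    exact IsIntegrallyClosed.of_localization_maximal (fun P _ _ => (hall P).2)

end Groth.Agent.HypNormal
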