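import Mathlib
import Groth.Prelude
import Groth.Agent.Lib.ProjClosed_helper3

/-!
# Hyperplanes in projective space, I: algebra (helper9)

A nonzero linear form `b` in `k[X_0..X_{n+1}]`: a graded surjection onto `k[X_0..X_n]` with kernel
`(b)`, and the kernel of the induced maps on homogeneous localizations.
APPEND-ONLY once landed.
-/

set_option autoImplicit false
universe u
open CategoryTheory AlgebraicGeometry MvPolynomial HomogeneousLocalization

namespace HypPlane

open Groth.Agent.Lib.ProjClosed_helper3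

section General

variable {A σ : Type*} [CommRing A] [SetLike σ A] [AddSubgroupClass σ A] (𝒜 : ℕ → σ)
  [GradedRing 𝒜]
  {B τ : Type*} [CommRing B] [SetLike τ B] [AddSubgroupClass τ B] {ℬ : ℕ → τ} [GradedRing ℬ]

/-- the kernel of the map on degree-zero localizations induced by a graded ring homomorphism with
kernel generated by an element of degree one -/
theorem ker_away_map_eq_span (φ : 𝒜 →+*ᵍ ℬ) {b : A} (hb : b ∈ 𝒜 1)
    (hker : ∀ a, φ a = 0 ↔ a ∈ Ideal.span {b}) {f : A} (hf : f ∈ 𝒜 1)
    (hb' : b ∈ 𝒜 (1 • 1)) :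
    RingHom.ker (Away.map φ f) = Ideal.span {Away.mk 𝒜 hf 1 b hb'} := by
  classical
  apply le_antisymm
  · intro x hx
    obtain ⟨n, a, ha, rfl⟩ := Away.mk_surjective 𝒜 hf x
    have han : a ∈ 𝒜 n := by rwa [smul_eq_mul, mul_one] at ha
    rw [RingHom.mem_ker, Away.map_mk, HomogeneousLocalization.ext_iff_val, Away.val_mk,
      HomogeneousLocalization.val_zero, Localization.mk_eq_mk', IsLocalization.mk'_eq_zero_iff]
      at hx
    obtain ⟨⟨_, m, rfl⟩, hm⟩ := hx
    simp only at hm
    have h1 : φ (f ^ m * a) = 0 := by rw [map_mul, map_pow]; exact hm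
    obtain ⟨y, hy⟩ := Ideal.mem_span_singleton'.mp ((hker _).mp h1)
    have hdeg : f ^ m * a ∈ 𝒜 (m + n) := by
      have := SetLike.mul_mem_graded (SetLike.pow_mem_graded m hf) han
      rwa [smul_eq_mul, mul_one] at this
    have hy2 : b * y = f ^ m * a := by rw [mul_comm]; exact hy
    by_cases h0 : m + n = 0
    · have hm0 : m = 0 := by omega
      have hn0 : n = 0 := by omega
      subst hm0 hn0
      have h2 : (DirectSum.decompose 𝒜 (b * y) 0 : A) = 0 :=
        DirectSum.coe_decompose_mul_of_left_mem_of_not_le 𝒜 hb (by omega)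
      rw [hy2, DirectSum.decompose_of_mem_same 𝒜 hdeg] at h2
      have ha0 : a = 0 := by simpa using h2
      have hx0 : Away.mk 𝒜 hf 0 a ha = 0 := by
        rw [HomogeneousLocalization.ext_iff_val, Away.val_mk, HomogeneousLocalization.val_zero,
          ha0]
        exact Localization.mk_zero _
      rw [hx0]
      exact Ideal.zero_mem _
    · have h2 : (DirectSum.decompose 𝒜 (b * y) (m + n) : A) =
          b * DirectSum.decompose 𝒜 y (m + n - 1) :=
        DirectSum.coe_decompose_mul_of_left_mem_of_le 𝒜 hb (by omega)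
      rw [hy2, DirectSum.decompose_of_mem_same 𝒜 hdeg] at h2
      have hy' : ((DirectSum.decompose 𝒜 y (m + n - 1) : 𝒜 (m + n - 1)) : A) ∈
          𝒜 ((m + n - 1) • 1) := by
        rw [smul_eq_mul, mul_one]; exact SetLike.coe_mem _
      rw [Ideal.mem_span_singleton']
      refine ⟨Away.mk 𝒜 hf (m + n - 1) _ hy', ?_⟩
      rw [HomogeneousLocalization.ext_iff_val, HomogeneousLocalization.val_mul,
        val_mk_eq_frac, val_mk_eq_frac, val_mk_eq_frac, frac_mul]
      apply frac_eq_of
      have e : m + n - 1 + 1 = m + n := by omega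
      rw [e, mul_comm _ b, ← h2]
      ring
  · rw [Ideal.span_le, Set.singleton_subset_iff]
    show Away.map φ f (Away.mk 𝒜 hf 1 b hb') = 0
    rw [Away.map_mk, HomogeneousLocalization.ext_iff_val, Away.val_mk,
      HomogeneousLocalization.val_zero, (hker b).mpr (Ideal.mem_span_singleton_self b)]
    exact Localization.mk_zero _

end General

section Poly

variable {k : Type u} [Field k] {n : ℕ}

/-- a linear form is a linear combination of the variables -/
theorem exists_coeffs (b : MvPolynomial (Fin (n + 2)) k)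
    (hb : b ∈ CohB1.polyGrading (n + 1) k 1) :
    ∃ c : Fin (n + 2) → k, b = ∑ i, c i • (X i : MvPolynomial (Fin (n + 2)) k) := by
  have h1 : b ∈ Submodule.span k (Set.range (X : Fin (n + 2) → MvPolynomial (Fin (n + 2)) k)) := by
    rw [← MvPolynomial.homogeneousSubmodule_one_eq_span_X]
    exact hb
  obtain ⟨c, hc⟩ := (Submodule.mem_span_range_iff_exists_fun k).mp h1
  exact ⟨c, hc.symm⟩

variable (c : Fin (n + 2) → k) (j : Fin (n + 2))

/-- the linear form `Σ c_i X_i` -/
noncomputable def lin : MvPolynomial (Fin (n + 2)) k := ∑ i, c i • (X i : MvPolynomial (Fin (n + 2)) k)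

/-- the image of `X_j` -/
noncomputable def ell : MvPolynomial (Fin (n + 1)) k :=
  (-(c j)⁻¹) • ∑ i' : Fin (n + 1), c (j.succAbove i') • (X i' : MvPolynomial (Fin (n + 1)) k)

/-- the images of the variables -/
noncomputable def gfun : Fin (n + 2) → MvPolynomial (Fin (n + 1)) k :=
  Fin.insertNth (α := fun _ => MvPolynomial (Fin (n + 1)) k) j (ell c j) (fun i' => X i')

theorem gfun_same : gfun c j j = ell c j := by
  unfold gfun
  exact Fin.insertNth_apply_same _ _ _

theorem gfun_succAbove (i' : Fin (n + 1)) : gfun c j (j.succAbove i') = X i' := by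
  unfold gfun
  exact Fin.insertNth_apply_succAbove _ _ _ _

theorem isHomogeneous_ell : (ell c j).IsHomogeneous 1 := by
  unfold ell
  have h : (∑ i' : Fin (n + 1), c (j.succAbove i') • (X i' : MvPolynomial (Fin (n + 1)) k)) ∈
      MvPolynomial.homogeneousSubmodule (Fin (n + 1)) k 1 :=
    Submodule.sum_mem _ (fun i' _ => Submodule.smul_mem _ _ (isHomogeneous_X k i'))
  exact Submodule.smul_mem _ _ h

theorem isHomogeneous_gfun (i : Fin (n + 2)) : (gfun c j i).IsHomogeneous 1 := by
  rcases Fin.eq_self_or_eq_succAbove j i with h | ⟨i', h⟩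
  · rw [h, gfun_same]; exact isHomogeneous_ell c j
  · rw [h, gfun_succAbove]; exact isHomogeneous_X k i'

/-- the algebra map -/
noncomputable def phiAlg : MvPolynomial (Fin (n + 2)) k →ₐ[k] MvPolynomial (Fin (n + 1)) k :=
  aeval (gfun c j)

/-- the section -/
noncomputable def psiAlg : MvPolynomial (Fin (n + 1)) k →ₐ[k] MvPolynomial (Fin (n + 2)) k :=
  aeval (fun i' => (X (j.succAbove i') : MvPolynomial (Fin (n + 2)) k))

theorem phiAlg_X (i : Fin (n + 2)) : phiAlg c j (X i) = gfun c j i := by
  unfold phiAlg; exact aeval_X _ _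

theorem psiAlg_X (i' : Fin (n + 1)) : psiAlg (k := k) j (X i') = X (j.succAbove i') := by
  unfold psiAlg; exact aeval_X _ _

theorem phiAlg_psiAlg (q : MvPolynomial (Fin (n + 1)) k) : phiAlg c j (psiAlg j q) = q := by
  have h : (phiAlg c j).comp (psiAlg j) = AlgHom.id k _ := by
    apply MvPolynomial.algHom_ext
    intro i'
    rw [AlgHom.comp_apply, psiAlg_X, phiAlg_X, gfun_succAbove]
    rfl
  exact congrArg (fun F : MvPolynomial (Fin (n + 1)) k →ₐ[k] MvPolynomial (Fin (n + 1)) k => F q) h

theorem phiAlg_surjective : Function.Surjective (phiAlg c j) :=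
  fun q => ⟨psiAlg j q, phiAlg_psiAlg c j q⟩

theorem phiAlg_mem {d : ℕ} {x : MvPolynomial (Fin (n + 2)) k}
    (hx : x ∈ CohB1.polyGrading (n + 1) k d) : phiAlg c j x ∈ CohB1.polyGrading n k d := by
  have h := MvPolynomial.IsHomogeneous.aeval (S := k) hx (gfun c j) (isHomogeneous_gfun c j)
  rw [one_mul] at h
  exact h

variable (hj : c j ≠ 0)

include hj in
theorem X_sub_mem (i : Fin (n + 2)) :
    (X i : MvPolynomial (Fin (n + 2)) k) - psiAlg j (phiAlg c j (X i)) ∈
      Ideal.span {lin c} := by
  rcases Fin.eq_self_or_eq_succAbove j i with h | ⟨i', h⟩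
  · rw [h, phiAlg_X, gfun_same]
    have h1 : (X j : MvPolynomial (Fin (n + 2)) k) - psiAlg j (ell c j) =
        C (c j)⁻¹ * lin c := by
      unfold ell lin
      rw [map_smul, map_sum, Fin.sum_univ_succAbove _ j]
      simp only [map_smul, psiAlg_X]
      rw [MvPolynomial.smul_eq_C_mul, MvPolynomial.smul_eq_C_mul, mul_add, ← mul_assoc, ← C_mul,
        inv_mul_cancel₀ hj, C_1, one_mul, map_neg, neg_mul, sub_neg_eq_add]
    rw [h1]
    exact Ideal.mul_mem_left _ _ (Ideal.mem_span_singleton_self _)
  · rw [h, phiAlg_X, gfun_succAbove, psiAlg_X, sub_self]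
    exact Ideal.zero_mem _

include hj in
theorem sub_mem (x : MvPolynomial (Fin (n + 2)) k) :
    x - psiAlg j (phiAlg c j x) ∈ Ideal.span {lin c} := by
  induction x using MvPolynomial.induction_on with
  | C a =>
    have h1 : phiAlg c j (C a) = C a := by
      unfold phiAlg; exact aeval_C _ _
    have h2 : psiAlg (k := k) j (C a) = C a := by
      unfold psiAlg; exact aeval_C _ _
    rw [h1, h2, sub_self]
    exact Ideal.zero_mem _
  | add p q hp hq =>
    rw [map_add, map_add]
    have : p + q - (psiAlg j (phiAlg c j p) + psiAlg j (phiAlg c j q)) =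
        (p - psiAlg j (phiAlg c j p)) + (q - psiAlg j (phiAlg c j q)) := by ring
    rw [this]
    exact Ideal.add_mem _ hp hq
  | mul_X p i hp =>
    rw [map_mul, map_mul]
    have : p * X i - psiAlg j (phiAlg c j p) * psiAlg j (phiAlg c j (X i)) =
        (p - psiAlg j (phiAlg c j p)) * X i +
          psiAlg j (phiAlg c j p) * (X i - psiAlg j (phiAlg c j (X i))) := by ring
    rw [this]
    exact Ideal.add_mem _ (Ideal.mul_mem_right _ _ hp)
      (Ideal.mul_mem_left _ _ (X_sub_mem c j hj i))

include hj in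
theorem phiAlg_lin : phiAlg c j (lin c) = 0 := by
  unfold lin
  rw [map_sum, Fin.sum_univ_succAbove _ j]
  simp only [map_smul, phiAlg_X, gfun_same, gfun_succAbove]
  unfold ell
  rw [smul_smul, mul_neg, mul_inv_cancel₀ hj, neg_smul, one_smul, neg_add_cancel]

include hj in
theorem phiAlg_eq_zero_iff (x : MvPolynomial (Fin (n + 2)) k) :
    phiAlg c j x = 0 ↔ x ∈ Ideal.span {lin c} := by
  constructor
  · intro h
    have h1 := sub_mem c j hj x
    rw [h, map_zero, sub_zero] at h1
    exact h1
  · intro h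
    obtain ⟨y, rfl⟩ := Ideal.mem_span_singleton'.mp h
    rw [map_mul, phiAlg_lin c j hj, mul_zero]

/-- the graded ring homomorphism -/
noncomputable def phiG : CohB1.polyGrading (n + 1) k →+*ᵍ CohB1.polyGrading n k where
  toRingHom := (phiAlg c j).toRingHom
  map_mem := fun hx => phiAlg_mem c j hx

theorem phiG_apply (x : MvPolynomial (Fin (n + 2)) k) : phiG c j x = phiAlg c j x := rfl

end Poly

end HypPlane
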