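import Mathlib
import Groth.Prelude
import Groth.Agent.Lib.HypPlane1_helper9
import Groth.Agent.Lib.ProjPullTw_helper9
import Groth.Agent.Lib.ProjCech3_helper9
import Groth.Agent.Lib.ZeroSch2_helper8
import Groth.Agent.Lib.HypIdeal1_helper9
import Groth.Agent.Lib.InvInt1_helper9
import Groth.Agent.Lib.ProjGamma_helper5
import Groth.Agent.Lib.ProjTens1_helper9

/-!
# Hyperplanes in projective space, II: a hyperplane of `P^{n+1}` is `P^n` (helper9)
APPEND-ONLY once landed.
-/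

set_option autoImplicit false
universe u
open CategoryTheory CategoryTheory.Limits AlgebraicGeometry TopologicalSpace Opposite MvPolynomial
open HomogeneousLocalization

namespace HypPlane

open Groth.Agent.ProjCech Groth.Agent.HypIdeal QcqsLoc QCohExtn
  Groth.Agent.Lib.ProjClosed_helper3

variable {k : Type u} [Field k] {n : ℕ}

theorem isInvertible_LL :
    PicF.IsInvertible (Twist.twistProjSpace (n + 1) k 1) :=
  Groth.Agent.ProjTw.isInvertible_twist (𝒜 (n + 1) k) (Groth.Agent.ProjTens.hcov' (n + 1) k) 1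

variable (s : Coh.structureModule (CohB1.ProjSpace (n + 1) k) ⟶ Twist.twistProjSpace (n + 1) k 1)

theorem exists_form :
    ∃ b : LefPen.Form (n + 1) k 1,
      (glob 1 b : Sec (n + 1) k 1 ⊤) = (SecTwist.val s ⊤ : Sec (n + 1) k 1 ⊤) :=
  glob_surjective 1 _

theorem form_ne_zero (hs : s ≠ 0) (b : LefPen.Form (n + 1) k 1)
    (hb : (glob 1 b : Sec (n + 1) k 1 ⊤) = (SecTwist.val s ⊤ : Sec (n + 1) k 1 ⊤)) :
    b.1 ≠ 0 := by
  intro h0
  apply hs
  apply Groth.Agent.InvInt.hom_OO_eq_zero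
  refine Eq.trans (show _ = (glob 1 b : Sec (n + 1) k 1 ⊤) from hb.symm) ?_
  apply ext_val
  intro x
  rw [val_glob, h0]
  exact Localization.mk_zero _

/-- the ideal of the zero scheme on the chart `D_+(X_j)` -/
theorem zeroScheme_ideal_chart (b : LefPen.Form (n + 1) k 1)
    (hb : (glob 1 b : Sec (n + 1) k 1 ⊤) = (SecTwist.val s ⊤ : Sec (n + 1) k 1 ⊤))
    (j : Fin (n + 2)) :
    (PicF2.zeroScheme (Twist.twistProjSpace (n + 1) k 1) s).ideal
        (affD (𝒜 (n + 1) k) (LefPen.X_mem (n + 1) k j) one_pos) =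
      Ideal.span {LefPen.dehom b j} := by
  refine ZeroSchH8.zeroScheme_ideal_of_isGen isInvertible_LL s
    (Groth.Agent.ProjTw.isGen_genSecK (𝒜 (n + 1) k) one_pos (LefPen.X_mem (n + 1) k j) 1 1
      (by simp)) (affD (𝒜 (n + 1) k) (LefPen.X_mem (n + 1) k j) one_pos) le_rfl
    (LefPen.dehom b j) ?_
  rw [SubExt.rF_self]
  have h1 : (SecTwist.val s (LefPen.chart (n + 1) k j) : Sec (n + 1) k 1 _) =
      rs (le_top : LefPen.chart (n + 1) k j ≤ ⊤) (glob 1 b) := by
    rw [hb]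
    exact (TensH8.rF_val s (le_top : LefPen.chart (n + 1) k j ≤ ⊤)).symm
  refine Eq.trans h1 ?_
  apply ext_val
  intro x
  refine Eq.trans (val_glob 1 b _) ?_
  refine Eq.trans ?_ (val_smul (LefPen.dehom b j) _ x).symm
  refine Eq.trans ?_ (congrArg₂ (· * ·) (valO_dehom b j x).symm
    (ProjPullTwH9.genSec_val' (𝒜 (n + 1) k) (LefPen.X_mem (n + 1) k j) 1 x).symm)
  rw [Localization.mk_mul, Localization.mk_eq_mk_iff, Localization.r_iff_exists]
  refine ⟨1, ?_⟩
  simp only [Submonoid.coe_mul, Submonoid.coe_one, one_mul]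
  rw [mon_zero]
  simp
  ring

/-- the finite set of variables -/
noncomputable def vars (n : ℕ) (k : Type u) [Field k] : Finset (MvPolynomial (Fin (n + 2)) k) :=
  (Finset.univ : Finset (Fin (n + 2))).map
    ⟨fun i : Fin (n + 2) => (X i : MvPolynomial (Fin (n + 2)) k), MvPolynomial.X_injective⟩

theorem vars_mem {f : MvPolynomial (Fin (n + 2)) k} (hf : f ∈ vars n k) :
    ∃ i : Fin (n + 2), f = X i := by
  unfold vars at hf
  rw [Finset.mem_map] at hf
  obtain ⟨i, -, hi⟩ := hf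
  exact ⟨i, hi.symm⟩

theorem irrelevant_eq_span_vars :
    (HomogeneousIdeal.irrelevant (𝒜 (n + 1) k)).toIdeal = Ideal.span (vars n k : Set _) := by
  have e : (vars n k : Set (MvPolynomial (Fin (n + 2)) k)) =
      Set.range fun i : Fin (n + 2) => (X i : MvPolynomial (Fin (n + 2)) k) := by
    unfold vars
    rw [Finset.coe_map, Finset.coe_univ, Set.image_univ]
    rfl
  rw [e]
  apply le_antisymm
  · exact Groth.Agent.ProjGamma5.irrelevant_le_span (n + 1) k
  · rw [Ideal.span_le]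
    rintro _ ⟨i, rfl⟩
    exact HomogeneousIdeal.mem_irrelevant_of_mem (𝒜 (n + 1) k) one_pos (LefPen.X_mem (n + 1) k i)

theorem main_aux (I : (Proj (𝒜 (n + 1) k)).IdealSheafData) (b : LefPen.Form (n + 1) k 1)
    (hb0 : b.1 ≠ 0)
    (hI : ∀ j, I.ideal (affD (𝒜 (n + 1) k) (LefPen.X_mem (n + 1) k j) one_pos) =
      Ideal.span {LefPen.dehom b j}) :
    ∃ φ : Proj (𝒜 n k) ≅ I.subscheme,
      Nonempty ((Scheme.Modules.pullback (φ.hom ≫ I.subschemeι)).obj
          (Twist.twist (𝒜 (n + 1) k) 1) ≅ Twist.twist (𝒜 n k) 1) := by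
  obtain ⟨c, hc⟩ := exists_coeffs b.1 b.2
  have hlin : lin c = b.1 := hc.symm
  obtain ⟨j, hj⟩ : ∃ j, c j ≠ 0 := by
    by_contra hcon
    push Not at hcon
    apply hb0
    rw [hc]
    exact Finset.sum_eq_zero (fun i _ => by rw [hcon i, zero_smul])
  have hker : ∀ a, phiG c j a = 0 ↔ a ∈ Ideal.span {b.1} := by
    intro a
    rw [← hlin]
    exact phiAlg_eq_zero_iff c j hj a
  have hsurj : Function.Surjective (phiG c j) := phiAlg_surjective c j
  have hφ := Groth.Agent.Lib.GradedQuot_helper3.irrelevant_le_map_of_surjective (phiG c j) hsurj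
  have hvars1 : ∀ f ∈ vars n k, f ∈ 𝒜 (n + 1) k 1 := by
    intro f hf
    obtain ⟨i, rfl⟩ := vars_mem hf
    exact LefPen.X_mem (n + 1) k i
  obtain ⟨e, he⟩ := exists_iso_of_ker_eq (𝒜 (n + 1) k) (𝒜 n k) (phiG c j) hsurj hφ (vars n k)
    hvars1 irrelevant_eq_span_vars I.subschemeι (by
      intro f hf
      obtain ⟨i, rfl⟩ := vars_mem hf
      have hb' : b.1 ∈ 𝒜 (n + 1) k (1 • 1) := by
        rw [smul_eq_mul, mul_one]; exact b.2
      rw [ker_away_map_eq_span (𝒜 (n + 1) k) (phiG c j) b.2 hker (LefPen.X_mem (n + 1) k i) hb',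
        Jfam_eq (𝒜 (n + 1) k) _ (LefPen.X_mem (n + 1) k i) one_pos,
        Scheme.IdealSheafData.ker_subschemeι, hI i]
      have hbij := awayToSection_bijective (𝒜 (n + 1) k) (LefPen.X_mem (n + 1) k i) one_pos
      have h2 : Ideal.span {LefPen.dehom b i} =
          Ideal.map (Proj.awayToSection (𝒜 (n + 1) k) (X i)).hom
            (Ideal.span {Away.mk (𝒜 (n + 1) k) (LefPen.X_mem (n + 1) k i) 1 b.1 hb'}) := by
        rw [Ideal.map_span, Set.image_singleton]
        rfl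
      rw [h2, Ideal.comap_map_of_bijective _ hbij])
  have hcomp : e.symm.hom ≫ I.subschemeι = Proj.map (phiG c j) hφ := by
    rw [← he, Iso.symm_hom, Iso.inv_hom_id_assoc]
  refine ⟨e.symm, ?_⟩
  obtain ⟨t⟩ := ProjPullTwH9.nonempty_pullback_twist_iso (phiG c j) hφ
    (Groth.Agent.ProjTens.hcov' (n + 1) k) 1
  exact ⟨(Scheme.Modules.pullbackCongr hcomp).app _ ≪≫ t⟩

theorem main (hs : s ≠ 0) :
    ∃ φ : CohB1.ProjSpace n k ≅ (PicF2.zeroScheme _ s).subscheme,
      Nonempty ((Scheme.Modules.pullback (φ.hom ≫ (PicF2.zeroScheme _ s).subschemeι)).obj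
          (Twist.twistProjSpace (n + 1) k 1) ≅ Twist.twistProjSpace n k 1) := by
  obtain ⟨b, hb⟩ := exists_form s
  exact main_aux (PicF2.zeroScheme _ s) b (form_ne_zero s hs b hb) (zeroScheme_ideal_chart s b hb)

end HypPlane
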