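import Mathlib
import Groth.Prelude

set_option autoImplicit false
set_option linter.unusedVariables false
set_option linter.unusedTactic false
set_option linter.unreachableTactic false
set_option linter.unusedSectionVars false
set_option linter.style.haveILetI false
set_option linter.deprecated false
set_option maxHeartbeats 1600000

universe u

open CategoryTheory AlgebraicGeometry

namespace Groth.Agent.Lib.HypTangentH4

section Eval

variable {k : Type u} [Field k] [Fintype k] {n : ℕ}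
variable {B : Type u} [CommRing B] [Algebra k B]

/-- Evaluation of `F = ∑ (X_i Y_i^q - Y_i X_i^q)` at a point. -/
def EF (q : ℕ) (ζ : Fin (n + 1) ⊕ Fin (n + 1) → B) : B :=
  ∑ i : Fin (n + 1), (ζ (Sum.inl i) * ζ (Sum.inr i) ^ q - ζ (Sum.inr i) * ζ (Sum.inl i) ^ q)

/-- Evaluation of `L = ∑ c_v x_v` at a point. -/
def EL (c : Fin (n + 1) ⊕ Fin (n + 1) → k) (ζ : Fin (n + 1) ⊕ Fin (n + 1) → B) : B :=
  ∑ x, algebraMap k B (c x) * ζ x

theorem aeval_F (F : MvPolynomial (Fin (n + 1) ⊕ Fin (n + 1)) k) (q : ℕ)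
    (hF : F = ∑ i : Fin (n + 1), (MvPolynomial.X (Sum.inl i) * MvPolynomial.X (Sum.inr i) ^ q -
      MvPolynomial.X (Sum.inr i) * MvPolynomial.X (Sum.inl i) ^ q))
    (ζ : Fin (n + 1) ⊕ Fin (n + 1) → B) : MvPolynomial.aeval ζ F = EF q ζ := by
  rw [hF]
  simp only [EF, map_sum, map_sub, map_mul, map_pow, MvPolynomial.aeval_X]

theorem aeval_L (L : MvPolynomial (Fin (n + 1) ⊕ Fin (n + 1)) k)
    (c : Fin (n + 1) ⊕ Fin (n + 1) → k)
    (hL : L = ∑ v, MvPolynomial.C (c v) * MvPolynomial.X v)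
    (ζ : Fin (n + 1) ⊕ Fin (n + 1) → B) : MvPolynomial.aeval ζ L = EL c ζ := by
  rw [hL]
  simp only [EL, map_sum, map_mul, MvPolynomial.aeval_C, MvPolynomial.aeval_X]

theorem EL_add (c : Fin (n + 1) ⊕ Fin (n + 1) → k) (ζ ξ : Fin (n + 1) ⊕ Fin (n + 1) → B) :
    EL c (fun x => ζ x + ξ x) = EL c ζ + EL c ξ := by
  simp only [EL, mul_add, Finset.sum_add_distrib]

theorem EL_smul (c : Fin (n + 1) ⊕ Fin (n + 1) → k) (t : B) (θ : Fin (n + 1) ⊕ Fin (n + 1) → B) :
    EL c (fun x => t * θ x) = t * EL c θ := by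
  simp only [EL, Finset.mul_sum]
  exact Finset.sum_congr rfl (fun x _ => by ring)

theorem EL_split (c : Fin (n + 1) ⊕ Fin (n + 1) → k) (ζ : Fin (n + 1) ⊕ Fin (n + 1) → B) :
    EL c ζ = ∑ i : Fin (n + 1), (algebraMap k B (c (Sum.inl i)) * ζ (Sum.inl i) +
      algebraMap k B (c (Sum.inr i)) * ζ (Sum.inr i)) := by
  rw [EL, Fintype.sum_sum_type, Finset.sum_add_distrib]

theorem frob (k : Type u) [Field k] [Fintype k] (B : Type u) [CommRing B] [Algebra k B] :
    ∃ φ : B →+* B, ∀ x, φ x = x ^ Fintype.card k := by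
  rcases subsingleton_or_nontrivial B with hB | hB
  · exact ⟨RingHom.id B, fun x => Subsingleton.elim _ _⟩
  · obtain ⟨p, hp⟩ := CharP.exists k
    have hprime : p.Prime := CharP.char_is_prime k p
    haveI : Fact p.Prime := ⟨hprime⟩
    obtain ⟨f, _, hq⟩ := FiniteField.card k p
    haveI : CharP B p := charP_of_injective_algebraMap (algebraMap k B).injective p
    haveI : ExpChar B p := ExpChar.prime hprime
    refine ⟨iterateFrobenius B p f, fun x => ?_⟩
    rw [iterateFrobenius_def, hq]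

/-- The rational point attached to `c`. -/
def Pt (c : Fin (n + 1) ⊕ Fin (n + 1) → k) : Fin (n + 1) ⊕ Fin (n + 1) → k :=
  Sum.elim (fun i => - c (Sum.inr i)) (fun i => c (Sum.inl i))

theorem EL_Pt (c : Fin (n + 1) ⊕ Fin (n + 1) → k) :
    EL c (fun x => algebraMap k B (Pt c x)) = 0 := by
  rw [EL_split]
  apply Finset.sum_eq_zero
  intro i _
  show algebraMap k B (c (Sum.inl i)) * algebraMap k B (- c (Sum.inr i)) +
    algebraMap k B (c (Sum.inr i)) * algebraMap k B (c (Sum.inl i)) = 0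
  rw [map_neg]
  ring

theorem EF_shift (c : Fin (n + 1) ⊕ Fin (n + 1) → k) (ξ : Fin (n + 1) ⊕ Fin (n + 1) → B) :
    EF (Fintype.card k) (fun x => algebraMap k B (Pt c x) + ξ x) =
      EF (Fintype.card k) ξ + EL c ξ - (EL c ξ) ^ Fintype.card k := by
  obtain ⟨φ, hφ⟩ := frob k B
  have hφa : ∀ a : k, φ (algebraMap k B a) = algebraMap k B a := by
    intro a
    rw [hφ, ← map_pow, FiniteField.pow_card]
  rw [EL_split, ← hφ, map_sum, EF, EF, ← Finset.sum_add_distrib, ← Finset.sum_sub_distrib]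
  apply Finset.sum_congr rfl
  intro i _
  show (algebraMap k B (- c (Sum.inr i)) + ξ (Sum.inl i)) *
      (algebraMap k B (c (Sum.inl i)) + ξ (Sum.inr i)) ^ Fintype.card k -
      (algebraMap k B (c (Sum.inl i)) + ξ (Sum.inr i)) *
      (algebraMap k B (- c (Sum.inr i)) + ξ (Sum.inl i)) ^ Fintype.card k = _
  rw [← hφ, ← hφ, ← hφ, ← hφ, map_add, map_add, map_add, map_mul, map_mul]
  simp only [hφa, map_neg]
  ring

theorem EF_smul (q : ℕ) (t : B) (θ : Fin (n + 1) ⊕ Fin (n + 1) → B) :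
    EF q (fun x => t * θ x) = t ^ (q + 1) * EF q θ := by
  simp only [EF, Finset.mul_sum]
  exact Finset.sum_congr rfl (fun i _ => by ring)

theorem pow_add_mul (b t β : B) (q : ℕ) : ∃ γ : B, (b + t * β) ^ q = b ^ q + t * γ := by
  obtain ⟨d, hd⟩ := sub_dvd_pow_sub_pow (b + t * β) b q
  exact ⟨β * d, by linear_combination hd⟩

theorem EF_trunc (q : ℕ) (t : B) (ht : t ^ (q + 2) = 0)
    (ν u : Fin (n + 1) ⊕ Fin (n + 1) → B) :
    t ^ (q + 1) * EF q (fun x => ν x + t * u x) = t ^ (q + 1) * EF q ν := by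
  simp only [EF, Finset.mul_sum]
  apply Finset.sum_congr rfl
  intro i _
  obtain ⟨γ, hγ⟩ := pow_add_mul (ν (Sum.inr i)) t (u (Sum.inr i)) q
  obtain ⟨γ', hγ'⟩ := pow_add_mul (ν (Sum.inl i)) t (u (Sum.inl i)) q
  rw [hγ, hγ']
  linear_combination (ν (Sum.inl i) * γ + u (Sum.inl i) * ν (Sum.inr i) ^ q +
    t * u (Sum.inl i) * γ - ν (Sum.inr i) * γ' - u (Sum.inr i) * ν (Sum.inl i) ^ q -
    t * u (Sum.inr i) * γ') * ht

theorem EF_map {B' : Type u} [CommRing B'] [Algebra k B'] (ψ : B →ₐ[k] B') (q : ℕ)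
    (ζ : Fin (n + 1) ⊕ Fin (n + 1) → B) : ψ (EF q ζ) = EF q (fun x => ψ (ζ x)) := by
  simp only [EF, map_sum, map_sub, map_mul, map_pow]

theorem EL_map {B' : Type u} [CommRing B'] [Algebra k B'] (ψ : B →ₐ[k] B')
    (c : Fin (n + 1) ⊕ Fin (n + 1) → k)
    (ζ : Fin (n + 1) ⊕ Fin (n + 1) → B) : ψ (EL c ζ) = EL c (fun x => ψ (ζ x)) := by
  simp only [EL, map_sum, map_mul, AlgHom.commutes]

end Eval

section Witness

variable {k : Type u} [Field k] [Fintype k] {n : ℕ}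

theorem exists_witness (hn : 1 ≤ n) (c : Fin (n + 1) ⊕ Fin (n + 1) → k) (hc : c ≠ 0) :
    ∃ v : Fin (n + 1) ⊕ Fin (n + 1) → Polynomial k,
      EL c v = 0 ∧ EF (Fintype.card k) v =
        (Polynomial.X : Polynomial k) ^ Fintype.card k - Polynomial.X := by
  classical
  have hq : 1 ≤ Fintype.card k := Fintype.card_pos
  obtain ⟨j₀, hj₀⟩ : ∃ j : Fin (n + 1), c (Sum.inl j) ≠ 0 ∨ c (Sum.inr j) ≠ 0 := by
    by_contra h
    push_neg at h
    apply hc
    funext x
    rcases x with i | i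
    · exact (h i).1
    · exact (h i).2
  haveI : Nontrivial (Fin (n + 1)) := Fin.nontrivial_iff_two_le.mpr (by omega)
  obtain ⟨i₀, hi₀⟩ := exists_ne j₀
  obtain ⟨m, hm⟩ : ∃ m : Polynomial k, m = algebraMap k (Polynomial k) (c (Sum.inl i₀)) * 1 +
      algebraMap k (Polynomial k) (c (Sum.inr i₀)) * Polynomial.X := ⟨_, rfl⟩
  obtain ⟨r₁, r₂, hr, hr0⟩ : ∃ r₁ r₂ : Polynomial k,
      algebraMap k (Polynomial k) (c (Sum.inl j₀)) * r₁ +
        algebraMap k (Polynomial k) (c (Sum.inr j₀)) * r₂ = - m ∧ (r₁ = 0 ∨ r₂ = 0) := by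
    rcases hj₀ with h | h
    · refine ⟨- (algebraMap k (Polynomial k) (c (Sum.inl j₀))⁻¹ * m), 0, ?_, Or.inr rfl⟩
      have h1 : algebraMap k (Polynomial k) (c (Sum.inl j₀)) *
          algebraMap k (Polynomial k) (c (Sum.inl j₀))⁻¹ = 1 := by
        rw [← map_mul, mul_inv_cancel₀ h, map_one]
      linear_combination (-m) * h1
    · refine ⟨0, - (algebraMap k (Polynomial k) (c (Sum.inr j₀))⁻¹ * m), ?_, Or.inl rfl⟩
      have h1 : algebraMap k (Polynomial k) (c (Sum.inr j₀)) *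
          algebraMap k (Polynomial k) (c (Sum.inr j₀))⁻¹ = 1 := by
        rw [← map_mul, mul_inv_cancel₀ h, map_one]
      linear_combination (-m) * h1
  obtain ⟨a, ha⟩ : ∃ a : Fin (n + 1) → Polynomial k,
      a = fun i => if i = i₀ then 1 else if i = j₀ then r₁ else 0 := ⟨_, rfl⟩
  obtain ⟨b, hb⟩ : ∃ b : Fin (n + 1) → Polynomial k,
      b = fun i => if i = i₀ then Polynomial.X else if i = j₀ then r₂ else 0 := ⟨_, rfl⟩
  have ha_i : a i₀ = 1 := by rw [ha]; simp
  have hb_i : b i₀ = Polynomial.X := by rw [hb]; simp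
  have ha_j : a j₀ = r₁ := by rw [ha]; simp [hi₀.symm]
  have hb_j : b j₀ = r₂ := by rw [hb]; simp [hi₀.symm]
  have ha_o : ∀ x, x ≠ i₀ ∧ x ≠ j₀ → a x = 0 := by
    intro x hx; rw [ha]; simp [hx.1, hx.2]
  have hb_o : ∀ x, x ≠ i₀ ∧ x ≠ j₀ → b x = 0 := by
    intro x hx; rw [hb]; simp [hx.1, hx.2]
  refine ⟨Sum.elim a b, ?_, ?_⟩
  · rw [EL_split]
    rw [Finset.sum_eq_add_of_mem i₀ j₀ (Finset.mem_univ _) (Finset.mem_univ _) hi₀]
    · show (algebraMap k (Polynomial k) (c (Sum.inl i₀)) * a i₀ +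
        algebraMap k (Polynomial k) (c (Sum.inr i₀)) * b i₀) +
        (algebraMap k (Polynomial k) (c (Sum.inl j₀)) * a j₀ +
        algebraMap k (Polynomial k) (c (Sum.inr j₀)) * b j₀) = 0
      rw [ha_i, hb_i, ha_j, hb_j, hr, ← hm]
      ring
    · intro x _ hx
      show algebraMap k (Polynomial k) (c (Sum.inl x)) * a x +
        algebraMap k (Polynomial k) (c (Sum.inr x)) * b x = 0
      rw [ha_o x hx, hb_o x hx]
      ring
  · rw [EF]
    rw [Finset.sum_eq_add_of_mem i₀ j₀ (Finset.mem_univ _) (Finset.mem_univ _) hi₀]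
    · show (a i₀ * b i₀ ^ Fintype.card k - b i₀ * a i₀ ^ Fintype.card k) +
        (a j₀ * b j₀ ^ Fintype.card k - b j₀ * a j₀ ^ Fintype.card k) = _
      rw [ha_i, hb_i, ha_j, hb_j]
      have h0 : r₁ * r₂ ^ Fintype.card k - r₂ * r₁ ^ Fintype.card k = 0 := by
        rcases hr0 with h | h
        · rw [h, zero_pow (by omega)]; ring
        · rw [h, zero_pow (by omega)]; ring
      rw [h0]
      ring
    · intro x _ hx
      show a x * b x ^ Fintype.card k - b x * a x ^ Fintype.card k = 0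
      rw [ha_o x hx, hb_o x hx]
      ring

end Witness

section Main

variable (k : Type u) [Field k] [Fintype k] (n : ℕ)

theorem exists_test_ring (q : ℕ) (hqdef : q = Fintype.card k) :
    ∃ (B : Type u) (_ : CommRing B) (_ : Algebra k B) (t : B) (ψ : Polynomial k →ₐ[k] B),
      t ^ (q + 2) = 0 ∧
        t ^ (q + 1) * ψ ((Polynomial.X : Polynomial k) ^ q - Polynomial.X) ≠ 0 := by
  obtain ⟨IB, hIB⟩ : ∃ IB : Ideal (Polynomial (Polynomial k)),
      IB = Ideal.span {(Polynomial.X : Polynomial (Polynomial k)) ^ (q + 2)} := ⟨_, rfl⟩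
  obtain ⟨t, htdef⟩ : ∃ t : Polynomial (Polynomial k) ⧸ IB,
      t = Ideal.Quotient.mk IB Polynomial.X := ⟨_, rfl⟩
  have ht : t ^ (q + 2) = 0 := by
    rw [htdef, ← map_pow, Ideal.Quotient.eq_zero_iff_mem, hIB]
    exact Ideal.mem_span_singleton_self _
  let ofK : Polynomial k →ₐ[k] (Polynomial (Polynomial k) ⧸ IB) :=
    (Ideal.Quotient.mkₐ k IB).comp (IsScalarTower.toAlgHom k (Polynomial k) (Polynomial (Polynomial k)))
  have hofK : ∀ D : Polynomial k, ofK D = Ideal.Quotient.mk IB (Polynomial.C D) := fun D => rfl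
  have hkey : t ^ (q + 1) * ofK ((Polynomial.X : Polynomial k) ^ q - Polynomial.X) ≠ 0 := by
    intro h0
    rw [hofK, htdef, ← map_pow, ← map_mul, Ideal.Quotient.eq_zero_iff_mem, hIB,
      Ideal.mem_span_singleton, pow_succ (Polynomial.X : Polynomial (Polynomial k)) (q + 1),
      mul_dvd_mul_iff_left (pow_ne_zero _ Polynomial.X_ne_zero), Polynomial.X_dvd_iff,
      Polynomial.coeff_C_zero] at h0
    rw [hqdef] at h0
    exact FiniteField.X_pow_card_sub_X_ne_zero k Fintype.one_lt_card h0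
  exact ⟨Polynomial (Polynomial k) ⧸ IB, inferInstance, inferInstance, t, ofK, ht, hkey⟩

theorem core (hn : 1 ≤ n)
    (F L : MvPolynomial (Fin (n + 1) ⊕ Fin (n + 1)) k)
    (hF : F = ∑ i : Fin (n + 1), (MvPolynomial.X (Sum.inl i) * MvPolynomial.X (Sum.inr i) ^ Fintype.card k -
      MvPolynomial.X (Sum.inr i) * MvPolynomial.X (Sum.inl i) ^ Fintype.card k))
    (c : Fin (n + 1) ⊕ Fin (n + 1) → k) (hc : c ≠ 0)
    (hL : L = ∑ v, MvPolynomial.C (c v) * MvPolynomial.X v)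
    (w : Fin (n + 1) ⊕ Fin (n + 1)) (hw : Pt c w ≠ 0)
    (q : ℕ) (hqdef : q = Fintype.card k)
    (B : Type u) [CommRing B] [Algebra k B] (t : B) (ht : t ^ (q + 2) = 0)
    (vB : Fin (n + 1) ⊕ Fin (n + 1) → B) (hvBL : EL c vB = 0)
    (hkey : t ^ (q + 1) * EF q vB ≠ 0) :
    ¬ Algebra.FormallySmooth k
      (Localization.Away (Ideal.Quotient.mk (Ideal.span {F, L}) (MvPolynomial.X w))) := by
  intro hsm
  have hq1 : 1 < q := by rw [hqdef]; exact Fintype.one_lt_card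
  -- the nilpotent ideal
  obtain ⟨J, hJ⟩ : ∃ J : Ideal B, J = Ideal.span {t ^ 2} := ⟨_, rfl⟩
  have hJnil : IsNilpotent J := by
    refine ⟨q + 2, ?_⟩
    rw [hJ, Ideal.span_singleton_pow, ← pow_mul, mul_comm, pow_mul, ht, zero_pow (by norm_num)]
    exact Ideal.span_singleton_eq_bot.mpr rfl
  -- the points
  obtain ⟨ζ₁, hζ₁⟩ : ∃ ζ₁ : Fin (n + 1) ⊕ Fin (n + 1) → B,
      ζ₁ = fun x => algebraMap k B (Pt c x) + t * vB x := ⟨_, rfl⟩
  have hζ₁x : ∀ x, ζ₁ x = algebraMap k B (Pt c x) + t * vB x := fun x => by rw [hζ₁]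
  have hζ₁L : EL c ζ₁ = 0 := by
    rw [hζ₁, EL_add c (fun x => algebraMap k B (Pt c x)) (fun x => t * vB x), EL_Pt, EL_smul, hvBL,
      mul_zero, add_zero]
  have hζ₁F : EF q ζ₁ = t ^ (q + 1) * EF q vB := by
    rw [hζ₁, hqdef, EF_shift c (fun x => t * vB x), EL_smul, hvBL, mul_zero,
      zero_pow (by omega), add_zero, sub_zero, EF_smul]
  have hζ₁FJ : EF q ζ₁ ∈ J := by
    rw [hζ₁F, hJ]
    apply Ideal.mem_span_singleton'.mpr
    refine ⟨t ^ (q - 1) * EF q vB, ?_⟩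
    have : t ^ (q + 1) = t ^ (q - 1) * t ^ 2 := by
      rw [← pow_add]; congr 1; omega
    rw [this]; ring
  -- the homomorphism g
  let g₀ : MvPolynomial (Fin (n + 1) ⊕ Fin (n + 1)) k →ₐ[k] B ⧸ J :=
    (Ideal.Quotient.mkₐ k J).comp (MvPolynomial.aeval ζ₁)
  have hg₀ : ∀ a, g₀ a = Ideal.Quotient.mk J (MvPolynomial.aeval ζ₁ a) := fun a => rfl
  have hkill : ∀ a ∈ Ideal.span ({F, L} : Set (MvPolynomial (Fin (n + 1) ⊕ Fin (n + 1)) k)),
      g₀ a = 0 := by
    have hle : Ideal.span ({F, L} : Set (MvPolynomial (Fin (n + 1) ⊕ Fin (n + 1)) k)) ≤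
        RingHom.ker g₀ := by
      rw [Ideal.span_le]
      intro a ha
      rw [SetLike.mem_coe, RingHom.mem_ker]
      rcases Set.mem_insert_iff.mp ha with h | h
      · show g₀ a = 0
        rw [h, hg₀, aeval_F F (Fintype.card k) hF, ← hqdef, Ideal.Quotient.eq_zero_iff_mem]
        exact hζ₁FJ
      · have h' : a = L := Set.mem_singleton_iff.mp h
        show g₀ a = 0
        rw [h', hg₀, aeval_L L c hL, hζ₁L, map_zero]
    intro a ha
    have := hle ha
    rw [RingHom.mem_ker] at this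
    exact this
  let g₁ : (MvPolynomial (Fin (n + 1) ⊕ Fin (n + 1)) k ⧸ Ideal.span {F, L}) →ₐ[k] B ⧸ J :=
    Ideal.Quotient.liftₐ (Ideal.span {F, L}) g₀ hkill
  have hg₁ : ∀ a, g₁ (Ideal.Quotient.mk (Ideal.span {F, L}) a) = g₀ a := fun a => rfl
  have hunit : ∀ y : Submonoid.powers (Ideal.Quotient.mk (Ideal.span {F, L}) (MvPolynomial.X w)),
      IsUnit (g₁ y) := by
    rintro ⟨y, m, rfl⟩
    show IsUnit (g₁ ((Ideal.Quotient.mk (Ideal.span {F, L}) (MvPolynomial.X w)) ^ m))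
    rw [map_pow]
    apply IsUnit.pow
    rw [hg₁, hg₀, MvPolynomial.aeval_X]
    apply IsUnit.map
    rw [hζ₁x]
    apply IsNilpotent.isUnit_add_left_of_commute
    · exact (Commute.all _ _).isNilpotent_mul_right ⟨q + 2, ht⟩
    · exact (IsUnit.mk0 _ hw).map _
    · exact Commute.all _ _
  let g : Localization.Away (Ideal.Quotient.mk (Ideal.span {F, L}) (MvPolynomial.X w)) →ₐ[k] B ⧸ J :=
    IsLocalization.liftAlgHom
      (M := Submonoid.powers (Ideal.Quotient.mk (Ideal.span {F, L}) (MvPolynomial.X w))) hunit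
  have hg : ∀ a, g (algebraMap _ _ (Ideal.Quotient.mk (Ideal.span {F, L}) a)) = g₀ a := by
    intro a
    show IsLocalization.lift hunit _ = _
    rw [IsLocalization.lift_eq]
    rfl
  -- lift
  obtain ⟨f, hf⟩ := Algebra.FormallySmooth.exists_lift J hJnil g
  obtain ⟨ζ', hζ'⟩ : ∃ ζ' : Fin (n + 1) ⊕ Fin (n + 1) → B,
      ζ' = fun x => f (algebraMap _ _ (Ideal.Quotient.mk (Ideal.span {F, L}) (MvPolynomial.X x))) :=
    ⟨_, rfl⟩
  let incl : MvPolynomial (Fin (n + 1) ⊕ Fin (n + 1)) k →ₐ[k]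
      Localization.Away (Ideal.Quotient.mk (Ideal.span {F, L}) (MvPolynomial.X w)) :=
    (IsScalarTower.toAlgHom k (MvPolynomial (Fin (n + 1) ⊕ Fin (n + 1)) k ⧸ Ideal.span {F, L}) _).comp
      (Ideal.Quotient.mkₐ k (Ideal.span {F, L}))
  have hincl : ∀ a, incl a = algebraMap _ _ (Ideal.Quotient.mk (Ideal.span {F, L}) a) := fun a => rfl
  have haev : f.comp incl = MvPolynomial.aeval ζ' := by
    apply MvPolynomial.algHom_ext
    intro x
    rw [MvPolynomial.aeval_X, hζ']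
    rfl
  have hzero : ∀ a ∈ Ideal.span ({F, L} : Set (MvPolynomial (Fin (n + 1) ⊕ Fin (n + 1)) k)),
      MvPolynomial.aeval ζ' a = 0 := by
    intro a ha
    rw [← haev]
    show f (incl a) = 0
    rw [hincl, (Ideal.Quotient.eq_zero_iff_mem).mpr ha, map_zero, map_zero]
  have hζ'F : EF q ζ' = 0 := by
    rw [hqdef, ← aeval_F F (Fintype.card k) hF]
    exact hzero F (Ideal.subset_span (by simp))
  have hζ'L : EL c ζ' = 0 := by
    rw [← aeval_L L c hL]
    exact hzero L (Ideal.subset_span (by simp))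
  have hdiff : ∀ x, ζ' x - ζ₁ x ∈ J := by
    intro x
    rw [← Ideal.Quotient.eq]
    have h1 : Ideal.Quotient.mk J (ζ' x) = g (incl (MvPolynomial.X x)) := by
      have h2 : g (incl (MvPolynomial.X x)) =
          ((Ideal.Quotient.mkₐ k J).comp f) (incl (MvPolynomial.X x)) := by rw [hf]
      rw [h2, hζ']
      rfl
    rw [h1, hincl, hg, hg₀, MvPolynomial.aeval_X]
  have hdiff' : ∀ x, ∃ ux, ux * t ^ 2 = ζ' x - ζ₁ x := by
    intro x
    have := hdiff x
    rw [hJ] at this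
    exact Ideal.mem_span_singleton'.mp this
  choose u hu using hdiff'
  obtain ⟨θ, hθ⟩ : ∃ θ : Fin (n + 1) ⊕ Fin (n + 1) → B,
      θ = fun x => vB x + t * u x := ⟨_, rfl⟩
  have hθx : ∀ x, θ x = vB x + t * u x := fun x => by rw [hθ]
  have hζ'eq : ζ' = fun x => algebraMap k B (Pt c x) + t * θ x := by
    funext x
    have h1 : u x * t ^ 2 = ζ' x - (algebraMap k B (Pt c x) + t * vB x) := by
      rw [← hζ₁x]; exact hu x
    show ζ' x = algebraMap k B (Pt c x) + t * θ x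
    rw [hθx]
    linear_combination (-1 : B) * h1
  have hLξ : EL c (fun x => t * θ x) = 0 := by
    have h1 := hζ'L
    rw [hζ'eq, EL_add c (fun x => algebraMap k B (Pt c x)) (fun x => t * θ x), EL_Pt, zero_add] at h1
    exact h1
  have hFξ : EF q (fun x => t * θ x) = 0 := by
    have h1 := hζ'F
    rw [hζ'eq, hqdef, EF_shift c (fun x => t * θ x), hLξ, zero_pow (by omega), add_zero,
      sub_zero] at h1
    rw [hqdef]
    exact h1
  rw [EF_smul, hθ, EF_trunc q t ht vB u] at hFξ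
  exact hkey hFξ

theorem not_formallySmooth (hn : 1 ≤ n)
    (F L : MvPolynomial (Fin (n + 1) ⊕ Fin (n + 1)) k)
    (hF : F = ∑ i : Fin (n + 1), (MvPolynomial.X (Sum.inl i) * MvPolynomial.X (Sum.inr i) ^ Fintype.card k -
      MvPolynomial.X (Sum.inr i) * MvPolynomial.X (Sum.inl i) ^ Fintype.card k))
    (c : Fin (n + 1) ⊕ Fin (n + 1) → k) (hc : c ≠ 0)
    (hL : L = ∑ v, MvPolynomial.C (c v) * MvPolynomial.X v)
    (w : Fin (n + 1) ⊕ Fin (n + 1)) (hw : Pt c w ≠ 0) :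
    ¬ Algebra.FormallySmooth k
      (Localization.Away (Ideal.Quotient.mk (Ideal.span {F, L}) (MvPolynomial.X w))) := by
  obtain ⟨q, hqdef⟩ : ∃ q : ℕ, q = Fintype.card k := ⟨_, rfl⟩
  obtain ⟨v, hvL, hvF⟩ := exists_witness hn c hc
  rw [← hqdef] at hvF
  obtain ⟨B, instB, instA, t, ψ, ht, hkey⟩ := exists_test_ring k q hqdef
  have hvBL : EL c (fun x => ψ (v x)) = 0 := by
    rw [← EL_map ψ c v, hvL, map_zero]
  have hvBF : EF q (fun x => ψ (v x)) = ψ ((Polynomial.X : Polynomial k) ^ q - Polynomial.X) := by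
    rw [← EF_map ψ q v, hvF]
  rw [← hvBF] at hkey
  exact core k n hn F L hF c hc hL w hw q hqdef B t ht (fun x => ψ (v x)) hvBL hkey

theorem main15555 (hn : 1 ≤ n)
    (F L : MvPolynomial (Fin (n + 1) ⊕ Fin (n + 1)) k)
    (hF : F = ∑ i : Fin (n + 1), (MvPolynomial.X (Sum.inl i) * MvPolynomial.X (Sum.inr i) ^ Fintype.card k -
      MvPolynomial.X (Sum.inr i) * MvPolynomial.X (Sum.inl i) ^ Fintype.card k))
    (c : Fin (n + 1) ⊕ Fin (n + 1) → k) (hc : c ≠ 0)
    (hL : L = ∑ v, MvPolynomial.C (c v) * MvPolynomial.X v) :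
    ¬ ∀ w : Fin (n + 1) ⊕ Fin (n + 1),
      Smooth (Spec.map (CommRingCat.ofHom (algebraMap k
        (Localization.Away (Ideal.Quotient.mk (Ideal.span {F, L}) (MvPolynomial.X w)))))) := by
  intro H
  obtain ⟨w, hw⟩ : ∃ w, Pt c w ≠ 0 := by
    by_contra h
    push_neg at h
    apply hc
    funext x
    rcases x with i | i
    · have := h (Sum.inr i)
      exact this
    · have := h (Sum.inl i)
      have h2 : - c (Sum.inr i) = 0 := this
      exact neg_eq_zero.mp h2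
  have h1 := H w
  rw [HasRingHomProperty.Spec_iff (P := @Smooth), CommRingCat.hom_ofHom,
    RingHom.smooth_algebraMap] at h1
  exact not_formallySmooth k n hn F L hF c hc hL w hw h1.formallySmooth

end Main

end Groth.Agent.Lib.HypTangentH4
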