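import Mathlib
import Groth.Prelude.Def_CohCx
import Groth.Prelude.Def_CohTop
import Groth.Agent.Lib.KInjSect_helper7
import Groth.Agent.Lib.RDPlusLES_helper9
import Groth.Agent.Lib.Leray_helper9

/-!
# The cohomology sheaves of `Rf_* K` are the sheaves associated to `V ↦ H^p(f⁻¹V, K)` (helper7)
-/

set_option autoImplicit false
universe u
open CategoryTheory CategoryTheory.Limits Opposite TopologicalSpace

namespace Groth.Agent.Lib.HyperPush_helper7

open Groth.Agent.Lib.HDSheaf_helper7 Groth.Agent.Lib.KInjSect_helper7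

variable {X Y : TopCat.{u}} (f : X ⟶ Y)

/-- sections of `f_* M` over `V` are sections of `M` over `f⁻¹ V` -/
noncomputable def secPushIso (M : CochainComplex (CohTop.Ab X) ℤ) :
    (Opens.map f).op ⋙ secF M ≅
      secF (((CohTop.push f).mapHomologicalComplex (ComplexShape.up ℤ)).obj M) :=
  Iso.refl _

theorem main8351 [HasDerivedCategory.{u} (CohTop.Ab X)] [HasDerivedCategory.{u} (CohTop.Ab Y)]
    (K : CochainComplex.Plus (CohTop.Ab X)) (p : ℤ) :
    Nonempty ((DerivedCategory.Plus.homologyFunctor (CohTop.Ab Y) p).obj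
        ((CohTop.push f).rightDerivedFunctorPlus.obj
          (DerivedCategory.Plus.Qh.obj ((HomotopyCategory.Plus.quotient (CohTop.Ab X)).obj K))) ≅
      (presheafToSheaf (Opens.grothendieckTopology Y) AddCommGrpCat.{u}).obj
        ((Opens.map f).op ⋙ CohCx.HDUPresheaf (DerivedCategory.Q.obj K.obj) p)) := by
  obtain ⟨n, hn⟩ := K.property
  haveI := hn
  obtain ⟨I, i, hi, hI, hI'⟩ :=
    CochainComplex.Plus.modelCategoryQuillen.exists_quasiIso_injective K.obj n
  haveI := hi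
  haveI := hI
  haveI := hI'
  let L : CochainComplex.Plus (CohTop.Ab X) := ⟨I, n, hI'⟩
  let pp : K ⟶ L := ObjectProperty.homMk i
  let θ := RDPlusLES.theta (CohTop.push f) p pp hi hI
  let FI : CochainComplex (CohTop.Ab Y) ℤ :=
    ((CohTop.push f).mapHomologicalComplex (ComplexShape.up ℤ)).obj I
  obtain ⟨e2⟩ := HDSheaf_helper7.main (DerivedCategory.Q.obj FI) p
  haveI hKI : I.IsKInjective := CochainComplex.isKInjective_of_injective I n
  haveI : (I⟦p⟧).IsKInjective := inferInstance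
  let FIp : CochainComplex (CohTop.Ab Y) ℤ :=
    ((CohTop.push f).mapHomologicalComplex (ComplexShape.up ℤ)).obj (I⟦p⟧)
  haveI : ∀ k, Injective (FIp.X k) := fun k =>
    Leray.injective_push f (I.X (k + p)) (hI (k + p))
  haveI : (I⟦p⟧).IsStrictlyGE (n - p) :=
    CochainComplex.isStrictlyGE_shift I n p (n - p) (by omega)
  haveI : CochainComplex.IsStrictlyGE FIp (n - p) := by
    rw [CochainComplex.isStrictlyGE_iff]
    intro k hk
    exact Functor.map_isZero (CohTop.push f) ((I⟦p⟧).isZero_of_isStrictlyGE (n - p) k hk)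
  haveI : CochainComplex.IsKInjective FIp := CochainComplex.isKInjective_of_injective FIp (n - p)
  let j1 : CohCx.HDUPresheaf (DerivedCategory.Q.obj FI) p ≅ PP (DerivedCategory.Q.obj (FI⟦p⟧)) :=
    ppIso ((DerivedCategory.Q.commShiftIso p).app FI).symm
  let j2 : PP (DerivedCategory.Q.obj (FI⟦p⟧)) ≅ PP (DerivedCategory.Q.obj FIp) :=
    ppIso (DerivedCategory.Q.mapIso
      (((CohTop.push f).mapCochainComplexShiftIso p).app I).symm)
  let j3 : PP (DerivedCategory.Q.obj FIp) ≅ PH FIp 0 := (kiIso FIp).symm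
  let j4 : PH FIp 0 ≅ (Opens.map f).op ⋙ PH (I⟦p⟧) 0 :=
    (Functor.isoWhiskerRight (secPushIso f (I⟦p⟧))
      (HomologicalComplex.homologyFunctor AddCommGrpCat.{u} (ComplexShape.up ℤ) 0)).symm
  let j5 : (Opens.map f).op ⋙ PH (I⟦p⟧) 0 ≅ (Opens.map f).op ⋙ PP (DerivedCategory.Q.obj (I⟦p⟧)) :=
    Functor.isoWhiskerLeft _ (kiIso (I⟦p⟧))
  let j6 : (Opens.map f).op ⋙ PP (DerivedCategory.Q.obj (I⟦p⟧)) ≅
      (Opens.map f).op ⋙ PP ((DerivedCategory.Q.obj I)⟦p⟧) :=
    Functor.isoWhiskerLeft _ (ppIso ((DerivedCategory.Q.commShiftIso p).app I))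
  let j7 : (Opens.map f).op ⋙ PP ((DerivedCategory.Q.obj I)⟦p⟧) ≅
      (Opens.map f).op ⋙ CohCx.HDUPresheaf (DerivedCategory.Q.obj K.obj) p :=
    Functor.isoWhiskerLeft _ (ppIso ((shiftFunctor (DerivedCategory (CohTop.Ab X)) p).mapIso
      (asIso (DerivedCategory.Q.map i)).symm))
  exact ⟨θ ≪≫ e2.symm ≪≫ (presheafToSheaf (Opens.grothendieckTopology Y) AddCommGrpCat.{u}).mapIso
    (j1 ≪≫ j2 ≪≫ j3 ≪≫ j4 ≪≫ j5 ≪≫ j6 ≪≫ j7)⟩

end Groth.Agent.Lib.HyperPush_helper7
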