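import Mathlib
import Groth.Agent.Lib.HyperPush_helper7
import Groth.Agent.Lib.TruncSectSh_helper7
import Groth.Agent.Lib.KInjAdj_helper7
import Groth.Agent.Lib.KInjGen8_helper7
import Groth.Agent.Lib.DerSmall_helper7
import Groth.Agent.Lib.Leray_helper9

/-!
# Negative vanishing of hypercohomology on a basis and the sheaf of `H^0` (helper7)
-/

set_option autoImplicit false
universe u
open CategoryTheory CategoryTheory.Limits Opposite DerivedCategory Pretriangulated TopologicalSpace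

namespace Groth.Agent.Lib.HyperPush2

open Groth.Agent.Lib Groth.Agent.Lib.HDSheaf_helper7 Groth.Agent.Lib.SiteCmpLoc_helper7
  Groth.Agent.Lib.RlimInj_helper7 Groth.Agent.Lib.TruncTower_helper7
  Groth.Agent.Lib.TruncSect_helper7 Groth.Agent.Lib.TruncRlim_helper7
  Groth.Agent.Lib.TruncSectSh_helper7 Groth.Agent.Lib.KInjSect_helper7
  Groth.Agent.Lib.HyperPush_helper7

section site

variable {C : Type u} [SmallCategory C] {J : GrothendieckTopology C}
  [HasDerivedCategory.{u} (Sheaf J AddCommGrpCat.{u})]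

theorem etaApp_bijective_of_isGE (M' : DerivedCategory (Sheaf J AddCommGrpCat.{u}))
    (hM' : M'.IsGE 0) (U : C) : Function.Bijective (etaApp M' U) := by
  have hG : ((singleFunctor (Sheaf J AddCommGrpCat.{u}) 0).obj (Z J U)).IsLE 0 := inferInstance
  obtain ⟨hB1, hB2, Y, ⟨eY⟩⟩ := heart_step
    ((singleFunctor (Sheaf J AddCommGrpCat.{u}) 0).obj (Z J U)) M' hG hM'
  refine (etaApp_bij_iff (M := (tS.truncLT 1).obj M')
    (M' := M') ((tS.truncLTι 1).app M') U hB1 hB2).1 ?_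
  have hC : Function.Bijective
      (fun φ : (singleFunctor (Sheaf J AddCommGrpCat.{u}) 0).obj (Z J U) ⟶
        (tS.truncLT 1).obj M' => φ ≫ eY.hom) := by
    refine Function.bijective_iff_has_inverse.2 ⟨fun ψ => ψ ≫ eY.inv, fun φ => ?_, fun ψ => ?_⟩
    · show (φ ≫ eY.hom) ≫ eY.inv = φ
      rw [Category.assoc, Iso.hom_inv_id, Category.comp_id]
    · show (ψ ≫ eY.inv) ≫ eY.hom = ψ
      rw [Category.assoc, Iso.inv_hom_id, Category.comp_id]
  exact (etaApp_bij_iff eY.hom U hC inferInstance).2 (etaApp_single_bijective Y U)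

/-- for `M'` in `D^{≥ 0}`, `U ↦ Hom(ℤ_U, M')` is the sheaf `H^0(M')` -/
noncomputable def etaIso (M' : DerivedCategory (Sheaf J AddCommGrpCat.{u})) (hM' : M'.IsGE 0) :
    PP M' ≅ ((homologyFunctor (Sheaf J AddCommGrpCat.{u}) 0).obj M').obj :=
  NatIso.ofComponents
    (fun X => (AddEquiv.ofBijective (etaApp M' X.unop)
      (etaApp_bijective_of_isGE M' hM' X.unop)).toAddCommGrpIso)
    (fun {X Y} g => by
      apply AddCommGrpCat.hom_ext
      apply AddMonoidHom.ext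
      intro φ
      exact etaApp_naturality M' g.unop φ)

theorem isSheaf_PP_of_isGE (M' : DerivedCategory (Sheaf J AddCommGrpCat.{u}))
    (hM' : M'.IsGE 0) : Presheaf.IsSheaf J (PP M') :=
  (Presheaf.isSheaf_of_iso_iff (etaIso M' hM')).2
    ((homologyFunctor (Sheaf J AddCommGrpCat.{u}) 0).obj M').property

theorem subsingleton_HDU_of_isGE (M : DerivedCategory (Sheaf J AddCommGrpCat.{u}))
    (hM : M.IsGE 0) (q : ℤ) (hq : q < 0) (U : C) : Subsingleton (CohCx.HDU M q U) := by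
  have hLE : ((singleFunctor (Sheaf J AddCommGrpCat.{u}) 0).obj (CohCx.freeSheaf J U)).IsLE 0 :=
    inferInstance
  have hGE : (tS (A := Sheaf J AddCommGrpCat.{u})).IsGE (M⟦q⟧) (-q) :=
    (tS (A := Sheaf J AddCommGrpCat.{u})).isGE_shift M 0 q (-q) (by omega)
  constructor
  intro a b
  rw [(tS (A := Sheaf J AddCommGrpCat.{u})).zero_of_isLE_of_isGE a 0 (-q) (by omega) hLE hGE,
    (tS (A := Sheaf J AddCommGrpCat.{u})).zero_of_isLE_of_isGE b 0 (-q) (by omega) hLE hGE]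

end site

section top

variable {X Y : TopCat.{u}}

lemma hom_eq_of_basis (B : Set (Opens Y)) (hB : Opens.IsBasis B)
    (P : (Opens Y)ᵒᵖ ⥤ AddCommGrpCat.{u}) (hP : ∀ V ∈ B, Subsingleton (P.obj (op V)))
    (G : TopCat.Sheaf AddCommGrpCat.{u} Y) (φ ψ : P ⟶ G.obj) : φ = ψ := by
  apply NatTrans.ext
  funext V
  apply ConcreteCategory.hom_ext
  intro s
  refine TopCat.Sheaf.eq_of_locally_eq' G
    (fun i : {W : Opens Y // W ∈ B ∧ W ≤ V.unop} => i.1) V.unop
    (fun i => homOfLE i.2.2) ?_ _ _ ?_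
  · intro x hx
    obtain ⟨W, hWB, hxW, hWV⟩ := Opens.isBasis_iff_nbhd.1 hB hx
    exact Opens.mem_iSup.2 ⟨⟨W, hWB, hWV⟩, hxW⟩
  · intro i
    haveI := hP i.1 i.2.1
    have h1 := ConcreteCategory.congr_hom (φ.naturality (homOfLE i.2.2).op) s
    have h2 := ConcreteCategory.congr_hom (ψ.naturality (homOfLE i.2.2).op) s
    rw [ConcreteCategory.comp_apply, ConcreteCategory.comp_apply] at h1 h2
    rw [← h1, ← h2, Subsingleton.elim (P.map (homOfLE i.2.2).op s) 0, map_zero, map_zero]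

lemma isZero_sheafify_of_basis (B : Set (Opens Y)) (hB : Opens.IsBasis B)
    (P : (Opens Y)ᵒᵖ ⥤ AddCommGrpCat.{u}) (hP : ∀ V ∈ B, Subsingleton (P.obj (op V))) :
    IsZero ((presheafToSheaf (Opens.grothendieckTopology Y) AddCommGrpCat.{u}).obj P) := by
  rw [IsZero.iff_id_eq_zero]
  apply ((sheafificationAdjunction (Opens.grothendieckTopology Y)
    AddCommGrpCat.{u}).homEquiv P _).injective
  exact hom_eq_of_basis B hB P hP _ _ _

variable (f : X ⟶ Y)

theorem thetaIso [HasDerivedCategory.{u} (CohTop.Ab X)] [HasDerivedCategory.{u} (CohTop.Ab Y)]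
    (I : CochainComplex (CohTop.Ab X) ℤ) [I.IsKInjective] (K : DerivedCategory (CohTop.Ab X))
    (e : DerivedCategory.Q.obj I ≅ K) (q : ℤ) :
    Nonempty (CohCx.HDUPresheaf (DerivedCategory.Q.obj
      (((CohTop.push f).mapHomologicalComplex (ComplexShape.up ℤ)).obj I)) q ≅
      (Opens.map f).op ⋙ CohCx.HDUPresheaf K q) := by
  let adj := TopCat.Sheaf.pullbackPushforwardAdjunction AddCommGrpCat.{u} f
  haveI := Leray.preservesFiniteLimits_pull f
  haveI : PreservesFiniteColimits (TopCat.Sheaf.pullback AddCommGrpCat.{u} f) := by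
    haveI : PreservesColimitsOfSize.{0, 0} (TopCat.Sheaf.pullback AddCommGrpCat.{u} f) :=
      adj.leftAdjoint_preservesColimits
    exact PreservesColimitsOfSize.preservesFiniteColimits _
  haveI : (TopCat.Sheaf.pushforward AddCommGrpCat.{u} f).Additive :=
    inferInstanceAs ((CohTop.push f).Additive)
  haveI : (TopCat.Sheaf.pullback AddCommGrpCat.{u} f).Additive := adj.left_adjoint_additive
  let FI : CochainComplex (CohTop.Ab Y) ℤ :=
    ((CohTop.push f).mapHomologicalComplex (ComplexShape.up ℤ)).obj I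
  haveI hIq : (I⟦q⟧).IsKInjective := inferInstance
  let FIq : CochainComplex (CohTop.Ab Y) ℤ :=
    ((CohTop.push f).mapHomologicalComplex (ComplexShape.up ℤ)).obj (I⟦q⟧)
  haveI : CochainComplex.IsKInjective FIq :=
    @KInjAdj_helper7.isKInjective_map _ _ _ _ _ _ _ _ adj _ _ _ _ (I⟦q⟧) hIq
  let j1 : CohCx.HDUPresheaf (DerivedCategory.Q.obj FI) q ≅ PP (DerivedCategory.Q.obj (FI⟦q⟧)) :=
    ppIso ((DerivedCategory.Q.commShiftIso q).app FI).symm
  let j2 : PP (DerivedCategory.Q.obj (FI⟦q⟧)) ≅ PP (DerivedCategory.Q.obj FIq) :=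
    ppIso (DerivedCategory.Q.mapIso
      (((CohTop.push f).mapCochainComplexShiftIso q).app I).symm)
  let j3 : PP (DerivedCategory.Q.obj FIq) ≅ PH FIq 0 := (kiIso FIq).symm
  let j4 : PH FIq 0 ≅ (Opens.map f).op ⋙ PH (I⟦q⟧) 0 :=
    (Functor.isoWhiskerRight (secPushIso f (I⟦q⟧))
      (HomologicalComplex.homologyFunctor AddCommGrpCat.{u} (ComplexShape.up ℤ) 0)).symm
  let j5 : (Opens.map f).op ⋙ PH (I⟦q⟧) 0 ≅ (Opens.map f).op ⋙ PP (DerivedCategory.Q.obj (I⟦q⟧)) :=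
    Functor.isoWhiskerLeft _ (kiIso (I⟦q⟧))
  let j6 : (Opens.map f).op ⋙ PP (DerivedCategory.Q.obj (I⟦q⟧)) ≅
      (Opens.map f).op ⋙ PP ((DerivedCategory.Q.obj I)⟦q⟧) :=
    Functor.isoWhiskerLeft _ (ppIso ((DerivedCategory.Q.commShiftIso q).app I))
  let j7 : (Opens.map f).op ⋙ PP ((DerivedCategory.Q.obj I)⟦q⟧) ≅
      (Opens.map f).op ⋙ CohCx.HDUPresheaf K q :=
    Functor.isoWhiskerLeft _ (ppIso ((shiftFunctor (DerivedCategory (CohTop.Ab X)) q).mapIso e))
  exact ⟨j1 ≪≫ j2 ≪≫ j3 ≪≫ j4 ≪≫ j5 ≪≫ j6 ≪≫ j7⟩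

theorem main0883 [HasDerivedCategory.{u} (CohTop.Ab X)] (B : Set (Opens Y))
    (hB : Opens.IsBasis B) (K : DerivedCategory (CohTop.Ab X))
    (h : ∀ V ∈ B, ∀ i : ℤ, i < 0 → Subsingleton (CohCx.HDU K i ((Opens.map f).obj V))) :
    (∀ (V : Opens Y) (i : ℤ), i < 0 → Subsingleton (CohCx.HDU K i ((Opens.map f).obj V))) ∧
    Presheaf.IsSheaf (Opens.grothendieckTopology Y)
      ((Opens.map f).op ⋙ CohCx.HDUPresheaf K 0) := by
  letI : HasDerivedCategory.{u} (CohTop.Ab Y) := DerSmall.hasDerivedCategorySmall (CohTop.Ab Y)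
  obtain ⟨I, hI, _, ⟨e⟩⟩ := KInjGen8.exists_kInjective_rep K
  haveI := hI
  let FI : CochainComplex (CohTop.Ab Y) ℤ :=
    ((CohTop.push f).mapHomologicalComplex (ComplexShape.up ℤ)).obj I
  let M : DerivedCategory (CohTop.Ab Y) := DerivedCategory.Q.obj FI
  have θ : ∀ q, Nonempty (CohCx.HDUPresheaf M q ≅ (Opens.map f).op ⋙ CohCx.HDUPresheaf K q) :=
    fun q => thetaIso f I K e q
  have hM : M.IsGE 0 := by
    rw [DerivedCategory.isGE_iff]
    intro i hi
    obtain ⟨e2⟩ := HDSheaf_helper7.main M i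
    refine IsZero.of_iso ?_ e2.symm
    apply isZero_sheafify_of_basis B hB
    intro V hV
    obtain ⟨t⟩ := θ i
    exact @Equiv.subsingleton _ _ (t.app (op V)).addCommGroupIsoToAddEquiv.toEquiv (h V hV i hi)
  refine ⟨fun V i hi => ?_, ?_⟩
  · obtain ⟨t⟩ := θ i
    exact @Equiv.subsingleton _ _ (t.app (op V)).symm.addCommGroupIsoToAddEquiv.toEquiv
      (subsingleton_HDU_of_isGE M hM i hi V)
  · obtain ⟨t⟩ := θ 0
    rw [← Presheaf.isSheaf_of_iso_iff t]
    haveI := hM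
    exact isSheaf_PP_of_isGE (M⟦(0 : ℤ)⟧)
      ((tS (A := CohTop.Ab Y)).isGE_shift M 0 0 0 (by norm_num))

end top

end Groth.Agent.Lib.HyperPush2
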