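import Mathlib
import Groth.Prelude.Def_Hyper
import Groth.Prelude.Def_SpSeq
import Groth.Agent.Lib.HyperCechInj_helper7
import Groth.Agent.Lib.HyperAcyc_helper7
import Groth.Agent.Lib.CxGrothSS_helper7
import Groth.Agent.Lib.PshDer_helper2
import Groth.Agent.Lib.GrothSS_helper2
import Groth.Agent.Lib.DeltaComp_helper2

/-!
# The spectral sequence of a hypercovering of a site

For a hypercovering `K` of a small site and an abelian sheaf `F` there is a spectral sequence
`E₂^{p,q} = Ȟ^p(K, H^q(F)) ⇒ H^{p+q}(F)`.  It is obtained as the Grothendieck spectral sequence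
of the composite of `F ↦ Č(K, F)` (with values in cochain complexes) and `Z⁰`.
-/

set_option backward.isDefEq.respectTransparency false
set_option backward.isDefEq.respectTransparency.types false
set_option linter.style.haveILetI false
set_option linter.unusedSectionVars false
set_option autoImplicit false

universe u

open CategoryTheory CategoryTheory.Limits Opposite Simplicial Abelian

namespace Groth.Agent.Lib.HyperSS

open Groth.Agent.Lib.HyperH0L Groth.Agent.Lib.FreeSheaf Groth.Agent.Lib.HyperAcyc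
  Groth.Agent.Lib.HyperCechInj Groth.Agent.Lib.CxHomDeltaH7

section Ev

variable {D₀ : Type u} [Category.{u} D₀] {P Q R : D₀ᵒᵖ ⥤ AddCommGrpCat.{u}}

lemma cmp_add (P : D₀ᵒᵖ ⥤ AddCommGrpCat.{u}) (A : FormalCoproduct.{u} D₀)
    (x y : (Ev P).obj (op A)) (i : A.I) : cmp P A (x + y) i = cmp P A x i + cmp P A y i :=
  map_add _ x y

lemma evMap_add (ψ ψ' : P ⟶ Q) (A : FormalCoproduct.{u} D₀) :
    evMap (ψ + ψ') A = evMap ψ A + evMap ψ' A := by
  ext x
  apply ev_ext
  intro i
  have h : (evMap ψ A + evMap ψ' A).hom x = (evMap ψ A).hom x + (evMap ψ' A).hom x := rfl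
  rw [h, cmp_add, cmp_evMap, cmp_evMap, cmp_evMap]
  rfl

lemma evMap_injective (ψ : P ⟶ Q) (h : ∀ U : D₀, Function.Injective (ψ.app (op U)).hom)
    (A : FormalCoproduct.{u} D₀) : Function.Injective (evMap ψ A).hom := by
  intro x y hxy
  apply ev_ext
  intro i
  apply h (A.obj i)
  have h1 := congrArg (fun z => cmp Q A z i) hxy
  simp only [cmp_evMap] at h1
  exact h1

lemma evMap_surjective (ψ : P ⟶ Q) (h : ∀ U : D₀, Function.Surjective (ψ.app (op U)).hom)
    (A : FormalCoproduct.{u} D₀) : Function.Surjective (evMap ψ A).hom := by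
  intro w
  choose b hb using fun i : A.I => h (A.obj i) (cmp Q A w i)
  refine ⟨mkEv P A b, ?_⟩
  apply ev_ext
  intro i
  rw [cmp_evMap, cmp_mkEv]
  exact hb i

lemma evMap_exact (ψ₁ : P ⟶ Q) (ψ₂ : Q ⟶ R)
    (h : ∀ (U : D₀) (b : Q.obj (op U)), (ψ₂.app (op U)).hom b = 0 →
      ∃ a, (ψ₁.app (op U)).hom a = b)
    (A : FormalCoproduct.{u} D₀) (y : (Ev Q).obj (op A)) (hy : (evMap ψ₂ A).hom y = 0) :
    ∃ z, (evMap ψ₁ A).hom z = y := by
  have hex : ∀ i : A.I, ∃ a : P.obj (op (A.obj i)),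
      (ψ₁.app (op (A.obj i))).hom a = cmp Q A y i := by
    intro i
    apply h
    have h1 := congrArg (fun z => cmp R A z i) hy
    simp only [cmp_evMap] at h1
    exact h1.trans (cmp_zero _ _ i)
  choose a ha using hex
  refine ⟨mkEv P A a, ?_⟩
  apply ev_ext
  intro i
  rw [cmp_evMap, cmp_mkEv]
  exact ha i

end Ev

variable {C : Type u} [SmallCategory C] (K : SimplicialObject (FormalCoproduct.{u} C))

/-- The Čech complex functor on presheaves (sheaves for the trivial topology). -/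
noncomputable abbrev CK : Sheaf (⊥ : GrothendieckTopology C) AddCommGrpCat.{u} ⥤
    CochainComplex AddCommGrpCat.{u} ℕ :=
  sheafToPresheaf _ _ ⋙ FormalCoproduct.cochainComplexFunctor K

lemma CK_map_f {B B' : Sheaf (⊥ : GrothendieckTopology C) AddCommGrpCat.{u}} (f : B ⟶ B')
    (n : ℕ) : ((CK K).map f).f n = evMap f.hom (K.obj (op ⦋n⦌)) := rfl

instance CK_additive : (CK K).Additive where
  map_add {B B' f g} := by
    apply HomologicalComplex.hom_ext
    intro n
    rw [HomologicalComplex.add_f_apply, CK_map_f, CK_map_f, CK_map_f]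
    exact evMap_add f.hom g.hom _

lemma CK_shortExact (S : ShortComplex (Sheaf (⊥ : GrothendieckTopology C) AddCommGrpCat.{u}))
    (hS : S.ShortExact) : (S.map (CK K)).ShortExact := by
  apply HomologicalComplex.shortExact_of_degreewise_shortExact
  intro n
  have hsec : ∀ V : C, (S.map (Groth.Agent.Lib.SectionsDer.sections
      (⊥ : GrothendieckTopology C) V)).ShortExact :=
    fun V => hS.map_of_exact (Groth.Agent.Lib.SectionsDer.sections (⊥ : GrothendieckTopology C) V)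
  have hinj : ∀ V : C, Function.Injective (S.f.hom.app (op V)).hom := fun V =>
    (AddCommGrpCat.mono_iff_injective _).1 (hsec V).mono_f
  have hsurj : ∀ V : C, Function.Surjective (S.g.hom.app (op V)).hom := fun V =>
    (AddCommGrpCat.epi_iff_surjective _).1 (hsec V).epi_g
  have hex : ∀ (V : C) (b : S.X₂.obj.obj (op V)), (S.g.hom.app (op V)).hom b = 0 →
      ∃ a, (S.f.hom.app (op V)).hom a = b := fun V =>
    (ShortComplex.ab_exact_iff _).1 (hsec V).exact
  refine ShortComplex.ShortExact.mk' ?_ ?_ ?_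
  · rw [ShortComplex.ab_exact_iff]
    intro y hy
    exact evMap_exact S.f.hom S.g.hom hex (K.obj (op ⦋n⦌)) y hy
  · rw [AddCommGrpCat.mono_iff_injective]
    exact evMap_injective S.f.hom hinj (K.obj (op ⦋n⦌))
  · rw [AddCommGrpCat.epi_iff_surjective]
    exact evMap_surjective S.g.hom hsurj (K.obj (op ⦋n⦌))

instance CK_preservesHomology : (CK K).PreservesHomology :=
  ((Functor.exact_tfae (CK K)).out 0 2 rfl rfl).1 (CK_shortExact K)

instance CK_preservesFiniteLimits : PreservesFiniteLimits (CK K) :=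
  (((Functor.exact_tfae (CK K)).out 0 3 rfl rfl).1 (CK_shortExact K)).1

instance CK_preservesFiniteColimits : PreservesFiniteColimits (CK K) :=
  (((Functor.exact_tfae (CK K)).out 0 3 rfl rfl).1 (CK_shortExact K)).2

variable (J : GrothendieckTopology C)

instance toBot_preservesFiniteLimits : PreservesFiniteLimits (Groth.Agent.Lib.PshDer.toBot J) := by
  haveI : PreservesLimitsOfSize.{u, u} (Groth.Agent.Lib.PshDer.toBot J) :=
    (Groth.Agent.Lib.PshDer.toBotAdj J).rightAdjoint_preservesLimits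
  infer_instance

/-- The Čech complex functor on sheaves. -/
noncomputable abbrev TK : Sheaf J AddCommGrpCat.{u} ⥤ CochainComplex AddCommGrpCat.{u} ℕ :=
  Groth.Agent.Lib.PshDer.toBot J ⋙ CK K

lemma TK_map_f {F F' : Sheaf J AddCommGrpCat.{u}} (f : F ⟶ F') (n : ℕ) :
    ((TK K J).map f).f n = evMap f.hom (K.obj (op ⦋n⦌)) := rfl

/-- The constant sheaf `ℤ`. -/
noncomputable abbrev Zc : Sheaf J AddCommGrpCat.{u} :=
  (constantSheaf J AddCommGrpCat.{u}).obj (AddCommGrpCat.of (ULift.{u} ℤ))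

lemma Ψ_nat {F F' : Sheaf J AddCommGrpCat.{u}} (f : F ⟶ F') (A : FormalCoproduct.{u} C)
    (φ : Z J A ⟶ F) : Ψ J F' A (φ ≫ f) = (evMap f.hom A).hom (Ψ J F A φ) := by
  apply ev_ext
  intro i
  rw [cmp_Ψ, cmp_evMap, cmp_Ψ, ← Category.assoc]
  exact freeSheafHomEquiv_comp J (A.obj i) (jj J A i ≫ φ) f

section Aug

variable [∀ (n : ℕ) (F : (SimplexCategory.Truncated n)ᵒᵖ ⥤ FormalCoproduct.{u} C),
      (SimplexCategory.Truncated.inclusion n).op.HasRightKanExtension F]
  (hK : Hyper.IsHypercoveringSite J K)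

include hK in
lemma hT (Q : Sheaf J AddCommGrpCat.{u}) (hQ : Injective Q) (q : ℕ) (hq : 0 < q) :
    IsZero (((Z0 AddCommGrpCat.{u}).rightDerived q).obj ((TK K J).obj Q)) := by
  obtain ⟨q', rfl⟩ : ∃ q', q = q' + 1 := ⟨q - 1, by omega⟩
  obtain ⟨e1⟩ := nonempty_rightDerived_Z0_obj_iso (𝒜 := AddCommGrpCat.{u}) (q' + 1)
    ((TK K J).obj Q)
  exact IsZero.of_iso (isZero_cech_homology J Q K hK q') e1

/-- `H₀(ℤ[F(K)]^#) ≅ ℤ`. -/
noncomputable def e0 : (Hyper.freeChainCx J K).homology 0 ≅ Zc J :=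
  (Groth.Agent.Lib.HyperFC.main_site' J K hK).2.some

/-- The augmentation `ℤ[F(K₀)]^# ⟶ ℤ`. -/
noncomputable def ε : Z J (K.obj (op ⦋0⦌)) ⟶ Zc J :=
  (Hyper.freeChainCx J K).pOpcycles 0 ≫
    (ChainComplex.isoHomologyι₀ (Hyper.freeChainCx J K)).inv ≫ (e0 K J hK).hom

lemma d_ε : (Hyper.freeChainCx J K).d 1 0 ≫ ε K J hK = 0 := by
  have h := (Hyper.freeChainCx J K).d_pOpcycles 1 0
  unfold ε
  rw [← Category.assoc]
  exact (congrArg (fun m => m ≫ (ChainComplex.isoHomologyι₀ (Hyper.freeChainCx J K)).inv ≫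
    (e0 K J hK).hom) h).trans zero_comp

instance epi_ε : Epi (ε K J hK) := by
  unfold ε
  infer_instance

lemma exists_factor {F : Sheaf J AddCommGrpCat.{u}} (φ : Z J (K.obj (op ⦋0⦌)) ⟶ F)
    (hφ : (Hyper.freeChainCx J K).d 1 0 ≫ φ = 0) : ∃ g : Zc J ⟶ F, ε K J hK ≫ g = φ := by
  refine ⟨(e0 K J hK).inv ≫ (ChainComplex.isoHomologyι₀ (Hyper.freeChainCx J K)).hom ≫
    (Hyper.freeChainCx J K).descOpcycles φ 1 (by simp) hφ, ?_⟩
  unfold ε
  simp only [Category.assoc, Iso.hom_inv_id_assoc, Iso.inv_hom_id_assoc]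
  exact (Hyper.freeChainCx J K).p_descOpcycles φ 1 (by simp) hφ

/-- Morphisms `ℤ ⟶ F` as `0`-cochains. -/
noncomputable def α (F : Sheaf J AddCommGrpCat.{u}) :
    (Zc J ⟶ F) →+ (Ev F.obj).obj (op (K.obj (op ⦋0⦌))) :=
  AddMonoidHom.mk' (fun g => Ψ J F (K.obj (op ⦋0⦌)) (ε K J hK ≫ g))
    (fun g g' => by rw [Preadditive.comp_add, map_add])

lemma α_apply (F : Sheaf J AddCommGrpCat.{u}) (g : Zc J ⟶ F) :
    α K J hK F g = Ψ J F (K.obj (op ⦋0⦌)) (ε K J hK ≫ g) := rfl

lemma d_α (F : Sheaf J AddCommGrpCat.{u}) (g : Zc J ⟶ F) :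
    ((Hyper.cechCxSite K F.obj).d 0 1).hom (α K J hK F g) = 0 := by
  rw [α_apply, ← Ψ_d, ← Category.assoc, d_ε, zero_comp, map_zero]

lemma α_injective (F : Sheaf J AddCommGrpCat.{u}) : Function.Injective (α K J hK F) := by
  intro g g' h
  have h1 := Ψ_injective J F _ h
  exact (cancel_epi (ε K J hK)).1 h1

lemma α_surjective (F : Sheaf J AddCommGrpCat.{u}) (x : (Ev F.obj).obj (op (K.obj (op ⦋0⦌))))
    (hx : ((Hyper.cechCxSite K F.obj).d 0 1).hom x = 0) : ∃ g, α K J hK F g = x := by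
  obtain ⟨φ, rfl⟩ := Ψ_surjective J F (K.obj (op ⦋0⦌)) x
  have h1 : (Hyper.freeChainCx J K).d 1 0 ≫ φ = 0 := by
    apply Ψ_injective J F
    rw [Ψ_d, map_zero]
    exact hx
  obtain ⟨g, hg⟩ := exists_factor K J hK φ h1
  exact ⟨g, by rw [α_apply, hg]⟩

lemma α_nat {F F' : Sheaf J AddCommGrpCat.{u}} (f : F ⟶ F') (g : Zc J ⟶ F) :
    α K J hK F' (g ≫ f) = (evMap f.hom (K.obj (op ⦋0⦌))).hom (α K J hK F g) := by
  rw [α_apply, α_apply, ← Category.assoc, Ψ_nat]

/-- The component of the comparison `Hom(ℤ, F) ⟶ Z⁰(Č(K, F))`. -/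
noncomputable def νApp (F : Sheaf J AddCommGrpCat.{u}) :
    (ExtDer.hom (Zc J)).obj F ⟶ (TK K J ⋙ Z0 AddCommGrpCat.{u}).obj F :=
  ((TK K J).obj F).liftCycles (AddCommGrpCat.ofHom (α K J hK F)) 1 (by simp) (by
    ext g
    exact d_α K J hK F g)

lemma νApp_i (F : Sheaf J AddCommGrpCat.{u}) :
    νApp K J hK F ≫ ((TK K J).obj F).iCycles 0 = AddCommGrpCat.ofHom (α K J hK F) :=
  ((TK K J).obj F).liftCycles_i _ _ _ _

lemma νApp_i_apply (F : Sheaf J AddCommGrpCat.{u}) (g : Zc J ⟶ F) :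
    (((TK K J).obj F).iCycles 0).hom ((νApp K J hK F).hom g) = α K J hK F g :=
  congrArg (fun m => m.hom g) (νApp_i K J hK F)

instance isIso_νApp (F : Sheaf J AddCommGrpCat.{u}) : IsIso (νApp K J hK F) := by
  rw [ConcreteCategory.isIso_iff_bijective]
  have hi : Function.Injective (((TK K J).obj F).iCycles 0).hom :=
    (AddCommGrpCat.mono_iff_injective _).1 inferInstance
  constructor
  · intro g g' h
    apply α_injective K J hK F
    have h1 := congrArg (fun z => (((TK K J).obj F).iCycles 0).hom z) h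
    exact (νApp_i_apply K J hK F g).symm.trans (h1.trans (νApp_i_apply K J hK F g'))
  · intro z
    have hz : ((Hyper.cechCxSite K F.obj).d 0 1).hom ((((TK K J).obj F).iCycles 0).hom z) = 0 :=
      congrArg (fun m => m.hom z) (((TK K J).obj F).iCycles_d 0 1)
    obtain ⟨g, hg⟩ := α_surjective K J hK F _ hz
    refine ⟨g, hi ?_⟩
    exact (νApp_i_apply K J hK F g).trans hg

/-- `Hom(ℤ, -) ≅ Z⁰(Č(K, -))`. -/
noncomputable def ν : ExtDer.hom (Zc J) ≅ TK K J ⋙ Z0 AddCommGrpCat.{u} :=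
  NatIso.ofComponents (fun F => asIso (νApp K J hK F)) (by
    intro F F' f
    rw [← cancel_mono (((TK K J).obj F').iCycles 0)]
    have e1 : (TK K J ⋙ Z0 AddCommGrpCat.{u}).map f ≫ ((TK K J).obj F').iCycles 0 =
        ((TK K J).obj F).iCycles 0 ≫ ((TK K J).map f).f 0 :=
      HomologicalComplex.cyclesMap_i ((TK K J).map f) 0
    simp only [asIso_hom, Category.assoc]
    rw [e1, νApp_i, ← Category.assoc, νApp_i]
    ext g
    exact α_nat K J hK f g)

end Aug

section Main

variable [∀ (n : ℕ) (F : (SimplexCategory.Truncated n)ᵒᵖ ⥤ FormalCoproduct.{u} C),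
      (SimplexCategory.Truncated.inclusion n).op.HasRightKanExtension F]

lemma nonempty_rightDerived_TK (F : Sheaf J AddCommGrpCat.{u}) (q : ℕ) :
    Nonempty (((TK K J).rightDerived q).obj F ≅
      Hyper.cechCxSite K (Sheaf.cohomologyPresheaf F q)) := by
  obtain ⟨e2⟩ := Groth.Agent.Lib.DeltaComp.nonempty_rightDerived_baseChange
    (Groth.Agent.Lib.PshDer.toBot J) (TK K J) (𝟭 (Sheaf J AddCommGrpCat.{u})) (CK K)
    (Functor.leftUnitor _).symm
    (fun I hI n => by
      haveI := hI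
      exact (TK K J).isZero_rightDerived_obj_injective_succ n I) q
  exact ⟨(e2.app F).symm ≪≫ (CK K).mapIso (Groth.Agent.Lib.PshDer.key J F q)⟩

theorem main (hK : Hyper.IsHypercoveringSite J K) (F : Sheaf J AddCommGrpCat.{u}) :
    ∃ (E : E₂CohomologicalSpectralSequence AddCommGrpCat.{u})
      (a : SpSeq.Abutment E (fun n : ℤ =>
        if 0 ≤ n then AddCommGrpCat.of (Sheaf.H F n.toNat) else AddCommGrpCat.of PUnit.{u + 1})),
      (∀ n, a.IsFinite n) ∧ SpSeq.IsBounded E ∧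
      ∀ p q : ℤ, Nonempty ((E.page 2 le_rfl).X (p, q) ≅
        (if 0 ≤ p ∧ 0 ≤ q then
          (Hyper.cechCxSite K (Sheaf.cohomologyPresheaf F q.toNat)).homology p.toNat
         else AddCommGrpCat.of PUnit.{u + 1})) := by
  apply Groth.Agent.Lib.GrothSS.grothendieck_ss_flex (TK K J) (Z0 AddCommGrpCat.{u})
    (hT K J hK) F
  · intro n
    rw [if_pos (by omega)]
    simp only [Int.toNat_natCast]
    exact ⟨(ExtDer.rightDerivedIso (ν K J hK).symm n).app F ≪≫
      (ExtDer.natIso (Zc J) n).app F⟩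
  · intro n hn
    rw [if_neg (by omega)]
    exact AddCommGrpCat.isZero_of_subsingleton _
  · intro p q
    rw [if_pos ⟨by omega, by omega⟩]
    simp only [Int.toNat_natCast]
    obtain ⟨e1⟩ := nonempty_rightDerived_Z0_obj_iso (𝒜 := AddCommGrpCat.{u}) p
      (((TK K J).rightDerived q).obj F)
    obtain ⟨e3⟩ := nonempty_rightDerived_TK K J F q
    exact ⟨e1 ≪≫ (HomologicalComplex.homologyFunctor _ _ p).mapIso e3⟩
  · intro p q h
    rw [if_neg (by omega)]
    exact AddCommGrpCat.isZero_of_subsingleton _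

end Main

end Groth.Agent.Lib.HyperSS
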