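import Mathlib
import Groth.Prelude.Def_Hyper
import Groth.Agent.Lib.HyperH0_lead
import Groth.Agent.Lib.HyperSiteOver_lead

set_option autoImplicit false
set_option linter.unusedSimpArgs false
set_option linter.unusedVariables false
set_option linter.unusedSectionVars false
set_option linter.style.longLine false
set_option linter.unnecessarySimpa false
set_option linter.deprecated false
set_option linter.style.haveILetI false
set_option maxHeartbeats 1600000
set_option backward.isDefEq.respectTransparency false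
set_option backward.isDefEq.respectTransparency.types false
set_option backward.defeqAttrib.useBackward true

universe u

noncomputable section

namespace Groth.Agent.Lib.HyperSiteH0L

open CategoryTheory CategoryTheory.Limits Opposite Groth.Agent.Lib.HyperH0L Groth.Agent.Lib.HyperSiteL

section Val

variable {D₀ : Type u} [Category.{u} D₀] (P : D₀ᵒᵖ ⥤ AddCommGrpCat.{u})

/-- value at `a : incl w ⟶ A` of a cochain -/
def val {A : FormalCoproduct.{u} D₀} (x : (Ev P).obj (op A)) {w : D₀}
    (a : (FormalCoproduct.incl D₀).obj w ⟶ A) : P.obj (op w) :=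
  HyperH0L.cmp P _ (pb P a x) PUnit.unit

lemma val_eq {A : FormalCoproduct.{u} D₀} (x : (Ev P).obj (op A)) {w : D₀}
    (a : (FormalCoproduct.incl D₀).obj w ⟶ A) :
    val P x a = (P.map (a.φ PUnit.unit).op).hom (HyperH0L.cmp P A x (a.f PUnit.unit)) :=
  cmp_pb P a x PUnit.unit

lemma val_incl_comp {A : FormalCoproduct.{u} D₀} (x : (Ev P).obj (op A)) {w w' : D₀} (t : w' ⟶ w)
    (a : (FormalCoproduct.incl D₀).obj w ⟶ A) :
    val P x ((FormalCoproduct.incl D₀).map t ≫ a) = (P.map t.op).hom (val P x a) := by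
  unfold val
  rw [pb_comp, cmp_pb]
  rfl

lemma val_comp {A B : FormalCoproduct.{u} D₀} (ψ : A ⟶ B) (x : (Ev P).obj (op B)) {w : D₀}
    (c : (FormalCoproduct.incl D₀).obj w ⟶ A) :
    val P x (c ≫ ψ) = val P (pb P ψ x) c := by
  unfold val
  rw [pb_comp]

/-- evaluation natural transformation -/
def evY {A : FormalCoproduct.{u} D₀} (x : (Ev P).obj (op A)) :
    (yo (D₀ := D₀)).obj A ⟶ P ⋙ forget AddCommGrpCat.{u} :=
  Sigma.desc (fun i : A.I =>
    (yonedaEquiv (F := P ⋙ forget AddCommGrpCat.{u})).symm (HyperH0L.cmp P A x i))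

lemma evY_toY {A : FormalCoproduct.{u} D₀} (x : (Ev P).obj (op A)) {w : D₀}
    (a : (FormalCoproduct.incl D₀).obj w ⟶ A) :
    (evY P x).app (op w) (toY A w a) = val P x a := by
  have h : Sigma.ι (fun i : A.I => yoneda.obj (A.obj i)) (a.f PUnit.unit) ≫ evY P x =
      (yonedaEquiv (F := P ⋙ forget AddCommGrpCat.{u})).symm (HyperH0L.cmp P A x (a.f PUnit.unit)) :=
    Sigma.ι_desc _ _
  have h2 := congrArg (fun m => m.app (op w) (a.φ PUnit.unit)) h
  rw [val_eq]
  exact h2

lemma val_congr {A : FormalCoproduct.{u} D₀} (x : (Ev P).obj (op A)) {w : D₀}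
    (a b : (FormalCoproduct.incl D₀).obj w ⟶ A) (h : toY A w a = toY A w b) :
    val P x a = val P x b := by
  rw [← evY_toY, ← evY_toY, h]

/-- restriction from the limit to the components of a formal coproduct -/
def limRes [HasLimit P] (A : FormalCoproduct.{u} D₀) : limit P ⟶ (Ev P).obj (op A) :=
  Pi.lift (fun i => limit.π P (op (A.obj i)))

lemma limRes_π [HasLimit P] (A : FormalCoproduct.{u} D₀) (i : A.I) :
    limRes P A ≫ Pi.π (fun i : A.I => P.obj (op (A.obj i))) i = limit.π P (op (A.obj i)) :=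
  Pi.lift_π _ _

lemma limRes_map [HasLimit P] {A B : FormalCoproduct.{u} D₀} (ψ : A ⟶ B) :
    limRes P B ≫ (Ev P).map ψ.op = limRes P A := by
  refine Pi.hom_ext _ _ (fun i => ?_)
  rw [Category.assoc, ev_map_π, ← Category.assoc, limRes_π, limRes_π]
  exact limit.w P (ψ.φ i).op

end Val

section Main

variable {C : Type u} [SmallCategory C] (J : GrothendieckTopology C)
  [∀ (n : ℕ) (F : (SimplexCategory.Truncated n)ᵒᵖ ⥤ FormalCoproduct.{u} C),
      (SimplexCategory.Truncated.inclusion n).op.HasRightKanExtension F]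
  (K : SimplicialObject (FormalCoproduct.{u} C))

theorem cechSite_h0 (hK : Hyper.IsHypercoveringSite J K) (F : Sheaf J AddCommGrpCat.{u}) :
    Nonempty ((Hyper.cechCxSite K F.obj).homology 0 ≅ limit F.obj) := by
  let P : Cᵒᵖ ⥤ AddCommGrpCat.{u} := F.obj
  let CX := Hyper.cechCxSite K F.obj
  have hF : Presieve.IsSheaf J (F.obj ⋙ forget _) :=
    (isSheaf_iff_isSheaf_of_type J _).1
      ((Presheaf.isSheaf_iff_isSheaf_forget J F.obj (forget _)).1 F.property)
  let K0 := K.obj (op (SimplexCategory.mk 0))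
  let K1 := K.obj (op (SimplexCategory.mk 1))
  have hs1 := hK.1
  have hs2 := hK.2.1
  -- condition (1)
  let T : ∀ U : C, Sieve U := fun U =>
    Presheaf.imageSieve (terminal.from ((yo (D₀ := C)).obj K0))
      ((terminal.from (yoneda.obj U)).app (op U) (𝟙 U))
  have h1a : ∀ U : C, T U ∈ J U := fun U => hs1.imageSieve_mem _
  have h1b : ∀ (U : C) {V : C} (t : V ⟶ U), (T U) t →
      Nonempty ((FormalCoproduct.incl C).obj V ⟶ K0) := by
    intro U V t ht
    obtain ⟨z, _⟩ := ht
    obtain ⟨a, _⟩ := toY_surj K0 V z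
    exact ⟨a⟩
  have h1c : ∀ (U : C) {V : C} (t : V ⟶ U) (a : (FormalCoproduct.incl C).obj V ⟶ K0),
      (T U) t := by
    intro U V t a
    haveI := subsingleton_terminal_obj (D₀ := C) V
    exact ⟨toY K0 V a, Subsingleton.elim _ _⟩
  -- condition (2)
  have h2 : ∀ (V : C) (a b : (FormalCoproduct.incl C).obj V ⟶ K0), ∃ S : Sieve V, S ∈ J V ∧
      ∀ (V' : C) (t' : V' ⟶ V), S t' → ∃ c' : (FormalCoproduct.incl C).obj V' ⟶ K1,
        toY K0 V' (c' ≫ K.δ (1 : Fin 2)) = toY K0 V' ((FormalCoproduct.incl C).map t' ≫ a) ∧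
        toY K0 V' (c' ≫ K.δ (0 : Fin 2)) = toY K0 V' ((FormalCoproduct.incl C).map t' ≫ b) := by
    intro V a b
    let Y := (yo (D₀ := C)).obj K0
    let s : (Y ⨯ Y).obj (op V) :=
      (FunctorToTypes.binaryProductIso Y Y).inv.app (op V) (toY K0 V a, toY K0 V b)
    refine ⟨_, hs2.imageSieve_mem s, ?_⟩
    intro V' t' ht'
    obtain ⟨z, hz⟩ := ht'
    obtain ⟨c', rfl⟩ := toY_surj K1 V' z
    refine ⟨c', ?_, ?_⟩
    · have e1 := congrArg (fun m => m.app (op V') (toY K1 V' c'))
        (prod.lift_fst ((yo (D₀ := C)).map (K.δ (1 : Fin 2))) ((yo (D₀ := C)).map (K.δ (0 : Fin 2))))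
      have e2 := congrArg (fun m => m s) ((Limits.prod.fst (X := Y) (Y := Y)).naturality t'.op)
      have e3 : (Limits.prod.fst (X := Y) (Y := Y)).app (op V) s = toY K0 V a :=
        FunctorToTypes.binaryProductIso_inv_comp_fst_apply Y Y (op V) (toY K0 V a, toY K0 V b)
      have e4 : ((yo (D₀ := C)).map (K.δ (1 : Fin 2))).app (op V') (toY K1 V' c') =
          Y.map t'.op (toY K0 V a) := by
        refine e1.symm.trans ?_
        refine (congrArg (fun w => (Limits.prod.fst (X := Y) (Y := Y)).app (op V') w) hz).trans ?_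
        refine e2.trans ?_
        exact congrArg (fun w => Y.map t'.op w) e3
      rw [toY_map, toY_res] at e4
      exact e4
    · have e1 := congrArg (fun m => m.app (op V') (toY K1 V' c'))
        (prod.lift_snd ((yo (D₀ := C)).map (K.δ (1 : Fin 2))) ((yo (D₀ := C)).map (K.δ (0 : Fin 2))))
      have e2 := congrArg (fun m => m s) ((Limits.prod.snd (X := Y) (Y := Y)).naturality t'.op)
      have e3 : (Limits.prod.snd (X := Y) (Y := Y)).app (op V) s = toY K0 V b :=
        FunctorToTypes.binaryProductIso_inv_comp_snd_apply Y Y (op V) (toY K0 V a, toY K0 V b)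
      have e4 : ((yo (D₀ := C)).map (K.δ (0 : Fin 2))).app (op V') (toY K1 V' c') =
          Y.map t'.op (toY K0 V b) := by
        refine e1.symm.trans ?_
        refine (congrArg (fun w => (Limits.prod.snd (X := Y) (Y := Y)).app (op V') w) hz).trans ?_
        refine e2.trans ?_
        exact congrArg (fun w => Y.map t'.op w) e3
      rw [toY_map, toY_res] at e4
      exact e4
  let Φ : limit F.obj ⟶ (Ev P).obj (op K0) := limRes P K0
  have hd : CX.d 0 1 = (Ev P).map (K.δ (0 : Fin 2)).op - (Ev P).map (K.δ (1 : Fin 2)).op :=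
    d01 P K
  have hΦd : Φ ≫ CX.d 0 1 = 0 := by
    rw [hd, Preadditive.comp_sub]
    erw [limRes_map P (K.δ (0 : Fin 2)), limRes_map P (K.δ (1 : Fin 2))]
    rw [sub_self]
  have hΦπ : ∀ (i : K0.I) (σ : ToType (limit F.obj)),
      HyperH0L.cmp P K0 (Φ.hom σ) i = (limit.π F.obj (op (K0.obj i))).hom σ := fun i σ =>
    congrArg (fun m => m.hom σ) (limRes_π P K0 i)
  have hinj : Function.Injective Φ.hom := by
    intro σ₁ σ₂ hss
    refine Concrete.limit_ext F.obj σ₁ σ₂ (fun U => ?_)
    refine (hF _ (h1a U.unop)).isSeparatedFor.ext ?_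
    intro V t ht
    obtain ⟨a⟩ := h1b U.unop t ht
    have key : ∀ σ' : ToType (limit F.obj), (P.map t.op).hom ((limit.π F.obj U).hom σ') =
        (P.map (a.φ PUnit.unit).op).hom (HyperH0L.cmp P K0 (Φ.hom σ') (a.f PUnit.unit)) := by
      intro σ'
      rw [hΦπ]
      have e1 := congrArg (fun m => m.hom σ') (limit.w F.obj t.op)
      have e2 := congrArg (fun m => m.hom σ') (limit.w F.obj (a.φ PUnit.unit).op)
      exact e1.trans e2.symm
    show (P.map t.op).hom ((limit.π F.obj U).hom σ₁) = (P.map t.op).hom ((limit.π F.obj U).hom σ₂)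
    rw [key, key, hss]
  have hex : ∀ x : (Ev P).obj (op K0), (CX.d 0 1).hom x = 0 → ∃ σ, Φ.hom σ = x := by
    intro x hx
    have hx' : pb P (K.δ (0 : Fin 2)) x = pb P (K.δ (1 : Fin 2)) x := by
      have h2 : (CX.d 0 1).hom x = pb P (K.δ (0 : Fin 2)) x - pb P (K.δ (1 : Fin 2)) x := by
        rw [hd]
        rfl
      rw [hx] at h2
      exact sub_eq_zero.mp h2.symm
    have indep : ∀ (V : C) (a b : (FormalCoproduct.incl C).obj V ⟶ K0),
        val P x a = val P x b := by
      intro V a b
      obtain ⟨S, hS, hS'⟩ := h2 V a b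
      refine (hF _ hS).isSeparatedFor.ext ?_
      intro V' t' ht'
      obtain ⟨c', e1, e0⟩ := hS' V' t' ht'
      show (P.map t'.op).hom (val P x a) = (P.map t'.op).hom (val P x b)
      rw [← val_incl_comp, ← val_incl_comp, ← val_congr P x _ _ e1, ← val_congr P x _ _ e0,
        val_comp, val_comp, hx']
    let aOf : ∀ (U : C) {V : C} (t : V ⟶ U), (T U) t → ((FormalCoproduct.incl C).obj V ⟶ K0) :=
      fun U V t ht => (h1b U t ht).some
    let fam : ∀ U : C, Presieve.FamilyOfElements (F.obj ⋙ forget _) (T U).arrows :=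
      fun U V t ht => val P x (aOf U t ht)
    have hfam : ∀ U : C, (fam U).Compatible := by
      intro U Y₁ Y₂ Z g₁ g₂ f₁ f₂ h₁ h₂ comm
      show (P.map g₁.op).hom (val P x (aOf U f₁ h₁)) = (P.map g₂.op).hom (val P x (aOf U f₂ h₂))
      rw [← val_incl_comp, ← val_incl_comp]
      exact indep _ _ _
    let s : ∀ U : C, P.obj (op U) := fun U => (hF _ (h1a U)).amalgamate (fam U) (hfam U)
    have hs : ∀ (U : C) {V : C} (t : V ⟶ U) (a : (FormalCoproduct.incl C).obj V ⟶ K0),
        (P.map t.op).hom (s U) = val P x a := by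
      intro U V t a
      have ht := h1c U t a
      have := (hF _ (h1a U)).valid_glue (hfam U) t ht
      exact this.trans (indep _ _ _)
    have hcompat : ∀ {U U' : C} (h : U' ⟶ U), (P.map h.op).hom (s U) = s U' := by
      intro U U' h
      refine (hF _ (h1a U')).isSeparatedFor.ext ?_
      intro V t ht
      obtain ⟨a⟩ := h1b U' t ht
      show (P.map t.op).hom ((P.map h.op).hom (s U)) = (P.map t.op).hom (s U')
      rw [hs U' t a]
      have e := congrArg (fun m => m.hom (s U)) (P.map_comp h.op t.op)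
      exact e.symm.trans (hs U (t ≫ h) a)
    let hc := isLimitOfPreserves (forget AddCommGrpCat.{u}) (limit.isLimit F.obj)
    let sec : (F.obj ⋙ forget AddCommGrpCat.{u}).sections :=
      ⟨fun U => s U.unop, fun {U U'} h => hcompat h.unop⟩
    let σ : ToType (limit F.obj) := (Types.isLimitEquivSections hc).symm sec
    have hσ : ∀ U : Cᵒᵖ, (limit.π F.obj U).hom σ = s U.unop := fun U =>
      Types.isLimitEquivSections_symm_apply hc sec U
    refine ⟨σ, ?_⟩
    apply ev_ext P K0
    intro i
    rw [hΦπ, hσ]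
    have e := hs (K0.obj i) (𝟙 _) (FormalCoproduct.Hom.fromIncl i (𝟙 _))
    rw [val_eq] at e
    have e' : ∀ z : P.obj (op (K0.obj i)), (P.map (𝟙 (K0.obj i)).op).hom z = z := fun z => by
      rw [op_id, P.map_id]
      rfl
    rw [e'] at e
    exact e.trans (e' _)
  let S : ShortComplex AddCommGrpCat.{u} := ShortComplex.mk Φ (CX.d 0 1) hΦd
  have hS : S.Exact := by
    rw [ShortComplex.ab_exact_iff]
    intro x hx
    exact hex x hx
  haveI : Mono S.f := (AddCommGrpCat.mono_iff_injective _).2 hinj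
  have e1 : CX.cycles 0 ≅ limit F.obj :=
    IsLimit.conePointUniqueUpToIso (CX.cyclesIsKernel 0 1 (by simp)) hS.fIsKernel
  exact ⟨CX.isoHomologyπ₀.symm ≪≫ e1⟩

end Main

end Groth.Agent.Lib.HyperSiteH0L
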