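import Mathlib
import Groth.Prelude.Def_Found
import Groth.Agent.Lib.AnUnram_helper3
import Groth.Agent.Lib.FSAdicCompl2_helper3

/-!
# The integral closure of a Noetherian local domain in a finite extension is semi-local (helper3)

`A` Noetherian local domain, `K'` a finite extension of `Frac A`, `A'` the integral closure of `A`
in `K'`.  Then `A'` has finitely many maximal ideals and their residue fields are finite over `A`
(EGA 0_IV 23.2.?/Nagata 33.10).

Proof: `Ah` the completion of `A` (a Nagata ring).  `W = Ah ⊗ A'` embeds into the Noetherian ring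
`T = Ah ⊗ K'`; every maximal ideal of `A'` lifts to a prime of `W`, which contains `Q ∩ W` for some
minimal prime `Q` of `T`; the integral closure `E` of `Ah/(Q ∩ Ah)` in `Frac (T/Q)` is a finite
`Ah/(Q ∩ Ah)`-module receiving `W`, and lying over produces a prime of `E` above the maximal ideal.

* `finite_of_dense`, `exists_finite_of_finite`, `exists_finite_of_prime`, `main_abstract`, `main`.
APPEND-ONLY once landed.
-/

set_option autoImplicit false
universe u

namespace Groth.Agent.Lib.ICSemilocalH3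

open TensorProduct IsLocalRing

/-- A finite `R`-module killed by an ideal `𝔫` is finite over `A` when `A → R/𝔫` is surjective. -/
theorem finite_of_dense (A R M : Type*) [CommRing A] [CommRing R] [Algebra A R]
    [AddCommGroup M] [Module A M] [Module R M] [IsScalarTower A R M] [Module.Finite R M]
    (𝔫 : Ideal R) (hkill : ∀ r ∈ 𝔫, ∀ y : M, r • y = 0)
    (hdense : ∀ r : R, ∃ a : A, r - algebraMap A R a ∈ 𝔫) :
    Module.Finite A M := by
  obtain ⟨s, hs⟩ := (Module.Finite.fg_top : (⊤ : Submodule R M).FG)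
  refine ⟨⟨s, ?_⟩⟩
  rw [eq_top_iff]
  rintro y -
  have hy : y ∈ Submodule.span R (s : Set M) := hs ▸ Submodule.mem_top
  induction hy using Submodule.span_induction with
  | mem x hx => exact Submodule.subset_span hx
  | zero => exact zero_mem _
  | add x y _ _ hx hy => exact add_mem hx hy
  | smul r x _ hx =>
    obtain ⟨a, ha⟩ := hdense r
    have h0 := hkill _ ha x
    rw [sub_smul, sub_eq_zero, algebraMap_smul] at h0
    rw [h0]
    exact Submodule.smul_mem _ _ hx

section Abstract

variable (A A' R E : Type u) [CommRing A] [IsLocalRing A] [IsNoetherianRing A]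
  [CommRing A'] [Algebra A A'] [Algebra.IsIntegral A A']
  [CommRing R] [IsLocalRing R] [Algebra A R]
  [CommRing E] [Algebra R E] [Algebra A E] [IsScalarTower A R E] [Module.Finite R E]

/-- `E` finite over the local ring `R`, `A → R` dense modulo `𝔪_A R = 𝔪_R`, `A'` integral over
`A` and `Φ : A' → E`: only finitely many maximal ideals of `A'` are contracted from primes of
`E`, and their residue fields are finite over `A`. -/
theorem exists_finite_of_finite
    (hmap : maximalIdeal R ≤ (maximalIdeal A).map (algebraMap A R))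
    (hdense : ∀ r : R, ∃ a : A, r - algebraMap A R a ∈ (maximalIdeal A).map (algebraMap A R))
    (Φ : A' →ₐ[A] E) :
    ∃ F : Set (Ideal A'), F.Finite ∧ ∀ 𝔐 : Ideal E, 𝔐.IsPrime → (𝔐.comap Φ).IsMaximal →
      𝔐.comap Φ ∈ F ∧ Module.Finite A (A' ⧸ 𝔐.comap Φ) := by
  refine ⟨(fun 𝔐 : Ideal E => 𝔐.comap Φ) '' ((maximalIdeal R).primesOver E),
    (Algebra.QuasiFinite.finite_primesOver _).image _, ?_⟩
  intro 𝔐 h𝔐 hmax
  haveI := hmax
  have h1 : ((𝔐.comap Φ).comap (algebraMap A A')).IsMaximal :=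
    Ideal.isMaximal_comap_of_isIntegral_of_isMaximal (R := A) (𝔐.comap Φ)
  have h2 : (𝔐.comap Φ).comap (algebraMap A A') = maximalIdeal A :=
    IsLocalRing.eq_maximalIdeal h1
  have h3 : (maximalIdeal A).map (algebraMap A R) ≤ 𝔐.comap (algebraMap R E) := by
    rw [Ideal.map_le_iff_le_comap, ← h2]
    intro a ha
    simp only [Ideal.mem_comap] at ha ⊢
    rw [← IsScalarTower.algebraMap_apply A R E]
    rwa [AlgHom.commutes] at ha
  have h4 : 𝔐.comap (algebraMap R E) = maximalIdeal R :=
    ((maximalIdeal.isMaximal R).eq_of_le (Ideal.comap_ne_top _ h𝔐.ne_top) (hmap.trans h3)).symm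
  refine ⟨⟨𝔐, ⟨h𝔐, ⟨h4.symm⟩⟩, rfl⟩, ?_⟩
  haveI : Module.Finite A (E ⧸ 𝔐) := by
    refine finite_of_dense A R (E ⧸ 𝔐) ((maximalIdeal A).map (algebraMap A R)) ?_ hdense
    intro r hr y
    obtain ⟨e, rfl⟩ := Ideal.Quotient.mk_surjective y
    have hmem : r • e ∈ 𝔐 := by
      rw [Algebra.smul_def]
      exact Ideal.mul_mem_right _ _ (h3 hr)
    exact (Ideal.Quotient.eq_zero_iff_mem).2 hmem
  haveI : IsNoetherian A (E ⧸ 𝔐) := isNoetherian_of_isNoetherianRing_of_finite A (E ⧸ 𝔐)
  refine Module.Finite.of_injective (Ideal.quotientMapₐ 𝔐 Φ le_rfl).toLinearMap ?_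
  rw [← LinearMap.ker_eq_bot, LinearMap.ker_eq_bot']
  intro x hx
  obtain ⟨a', rfl⟩ := Ideal.Quotient.mk_surjective x
  have h5 : Ideal.Quotient.mk 𝔐 (Φ a') = 0 := hx
  rw [Ideal.Quotient.eq_zero_iff_mem] at h5
  exact (Ideal.Quotient.eq_zero_iff_mem).2 h5

end Abstract

section PerPrime

variable (A A' Ah W T : Type u) [CommRing A] [IsLocalRing A] [IsNoetherianRing A]
  [CommRing A'] [Algebra A A'] [Algebra.IsIntegral A A']
  [CommRing Ah] [IsLocalRing Ah] [IsNoetherianRing Ah] [Algebra A Ah]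
  [CommRing W] [Algebra A W] [Algebra A' W] [IsScalarTower A A' W] [Algebra Ah W]
  [IsScalarTower A Ah W] [Algebra.IsIntegral Ah W]
  [CommRing T] [Algebra A T] [Algebra Ah T] [IsScalarTower A Ah T] [Algebra W T]
  [IsScalarTower Ah W T] [Algebra.EssFiniteType Ah T]

attribute [local instance] FractionRing.liftAlgebra FractionRing.isScalarTower_liftAlgebra

set_option maxHeartbeats 1600000 in
set_option synthInstance.maxHeartbeats 400000 in
/-- The contribution of one prime `Q` of `T`. -/
theorem exists_finite_of_prime (hNag : CAlg.IsNagata Ah)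
    (hmapAh : maximalIdeal Ah ≤ (maximalIdeal A).map (algebraMap A Ah))
    (hdenseAh : ∀ x : Ah, ∃ a : A, x - algebraMap A Ah a ∈ (maximalIdeal A).map (algebraMap A Ah))
    (hden : ∀ t : T, ∃ a : A, IsUnit (algebraMap A T a) ∧
      ∃ w : W, algebraMap A T a * t = algebraMap W T w)
    (Q : Ideal T) [Q.IsPrime] :
    ∃ F : Set (Ideal A'), F.Finite ∧ ∀ 𝔓 : Ideal W, 𝔓.IsPrime → Q.comap (algebraMap W T) ≤ 𝔓 →
      (𝔓.comap (algebraMap A' W)).IsMaximal →
      𝔓.comap (algebraMap A' W) ∈ F ∧ Module.Finite A (A' ⧸ 𝔓.comap (algebraMap A' W)) := by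
  haveI hAWT : IsScalarTower A W T := IsScalarTower.of_algebraMap_eq (fun a => by
    rw [IsScalarTower.algebraMap_apply A Ah T, IsScalarTower.algebraMap_apply Ah W T,
      ← IsScalarTower.algebraMap_apply A Ah W])
  haveI : IsLocalRing (Ah ⧸ Q.comap (algebraMap Ah T)) :=
    IsLocalRing.of_surjective' (Ideal.Quotient.mk _) Ideal.Quotient.mk_surjective
  have hinjRL : Function.Injective
      (algebraMap (Ah ⧸ Q.comap (algebraMap Ah T)) (FractionRing (T ⧸ Q))) := by
    rw [IsScalarTower.algebraMap_eq (Ah ⧸ Q.comap (algebraMap Ah T)) (T ⧸ Q)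
      (FractionRing (T ⧸ Q))]
    exact (IsFractionRing.injective (T ⧸ Q) (FractionRing (T ⧸ Q))).comp
      Ideal.algebraMap_quotient_injective
  haveI : FaithfulSMul (Ah ⧸ Q.comap (algebraMap Ah T)) (FractionRing (T ⧸ Q)) :=
    (faithfulSMul_iff_algebraMap_injective _ _).2 hinjRL
  haveI t1 : IsScalarTower Ah (Ah ⧸ Q.comap (algebraMap Ah T)) (FractionRing (T ⧸ Q)) :=
    IsScalarTower.to₁₂₄ Ah (Ah ⧸ Q.comap (algebraMap Ah T)) (T ⧸ Q) (FractionRing (T ⧸ Q))
  haveI t2 : IsScalarTower Ah (FractionRing (Ah ⧸ Q.comap (algebraMap Ah T)))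
      (FractionRing (T ⧸ Q)) :=
    IsScalarTower.to₁₃₄ Ah (Ah ⧸ Q.comap (algebraMap Ah T))
      (FractionRing (Ah ⧸ Q.comap (algebraMap Ah T))) (FractionRing (T ⧸ Q))
  haveI t3 : IsScalarTower A (Ah ⧸ Q.comap (algebraMap Ah T)) (FractionRing (T ⧸ Q)) :=
    IsScalarTower.to₁₂₄ A (Ah ⧸ Q.comap (algebraMap Ah T)) (T ⧸ Q) (FractionRing (T ⧸ Q))
  haveI t4 : IsScalarTower A (FractionRing (Ah ⧸ Q.comap (algebraMap Ah T)))
      (FractionRing (T ⧸ Q)) :=
    IsScalarTower.to₁₃₄ A (Ah ⧸ Q.comap (algebraMap Ah T))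
      (FractionRing (Ah ⧸ Q.comap (algebraMap Ah T))) (FractionRing (T ⧸ Q))
  -- `W` maps into the integral closure
  have hmem : ∀ w : W, algebraMap W (FractionRing (T ⧸ Q)) w ∈
      integralClosure (Ah ⧸ Q.comap (algebraMap Ah T)) (FractionRing (T ⧸ Q)) := by
    intro w
    have h1 : IsIntegral Ah w := Algebra.IsIntegral.isIntegral w
    have h2 : IsIntegral Ah (algebraMap W (FractionRing (T ⧸ Q)) w) := h1.algebraMap
    exact h2.tower_top
  -- algebraicity
  have hT : ∀ t : T, algebraMap T (FractionRing (T ⧸ Q)) t ∈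
      algebraicClosure (FractionRing (Ah ⧸ Q.comap (algebraMap Ah T))) (FractionRing (T ⧸ Q)) := by
    intro t
    obtain ⟨a, hu, w, hw⟩ := hden t
    have h1 : algebraMap A (FractionRing (T ⧸ Q)) a * algebraMap T (FractionRing (T ⧸ Q)) t =
        algebraMap W (FractionRing (T ⧸ Q)) w := by
      rw [IsScalarTower.algebraMap_apply A T (FractionRing (T ⧸ Q)), ← map_mul, hw,
        ← IsScalarTower.algebraMap_apply W T (FractionRing (T ⧸ Q))]
    have h2 : IsUnit (algebraMap A (FractionRing (T ⧸ Q)) a) := by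
      rw [IsScalarTower.algebraMap_apply A T (FractionRing (T ⧸ Q))]
      exact hu.map _
    have h3 : algebraMap T (FractionRing (T ⧸ Q)) t =
        (algebraMap A (FractionRing (T ⧸ Q)) a)⁻¹ * algebraMap W (FractionRing (T ⧸ Q)) w := by
      rw [eq_inv_mul_iff_mul_eq₀ h2.ne_zero, h1]
    rw [h3]
    refine mul_mem (inv_mem ?_) ?_
    · rw [IsScalarTower.algebraMap_apply A (FractionRing (Ah ⧸ Q.comap (algebraMap Ah T)))
        (FractionRing (T ⧸ Q))]
      exact algebraMap_mem _ _
    · rw [mem_algebraicClosure_iff']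
      exact (hmem w).tower_top
  haveI halg : Algebra.IsAlgebraic (FractionRing (Ah ⧸ Q.comap (algebraMap Ah T)))
      (FractionRing (T ⧸ Q)) := by
    refine ⟨fun x => ?_⟩
    rw [← mem_algebraicClosure_iff]
    obtain ⟨n, d, -, rfl⟩ := IsFractionRing.div_surjective (A := T ⧸ Q) x
    obtain ⟨t1, rfl⟩ := Ideal.Quotient.mk_surjective n
    obtain ⟨t2, rfl⟩ := Ideal.Quotient.mk_surjective d
    exact div_mem (hT t1) (hT t2)
  haveI e1 : Algebra.EssFiniteType (T ⧸ Q) (FractionRing (T ⧸ Q)) :=
    Algebra.EssFiniteType.of_isLocalization _ (nonZeroDivisors (T ⧸ Q))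
  haveI e2 : Algebra.EssFiniteType Ah (T ⧸ Q) := Algebra.EssFiniteType.comp Ah T (T ⧸ Q)
  haveI e3 : Algebra.EssFiniteType Ah (FractionRing (T ⧸ Q)) :=
    Algebra.EssFiniteType.comp Ah (T ⧸ Q) (FractionRing (T ⧸ Q))
  haveI e4 : Algebra.EssFiniteType (FractionRing (Ah ⧸ Q.comap (algebraMap Ah T)))
      (FractionRing (T ⧸ Q)) :=
    Algebra.EssFiniteType.of_comp Ah _ _
  have hfin : FiniteDimensional (FractionRing (Ah ⧸ Q.comap (algebraMap Ah T)))
      (FractionRing (T ⧸ Q)) := Algebra.finite_of_essFiniteType_of_isAlgebraic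
  haveI hE : Module.Finite (Ah ⧸ Q.comap (algebraMap Ah T))
      (integralClosure (Ah ⧸ Q.comap (algebraMap Ah T)) (FractionRing (T ⧸ Q))) :=
    hNag.2 (Q.comap (algebraMap Ah T)) (FractionRing (T ⧸ Q)) hfin
  -- the map `Φ`
  let Φ : A' →ₐ[A] integralClosure (Ah ⧸ Q.comap (algebraMap Ah T)) (FractionRing (T ⧸ Q)) :=
    { toRingHom := RingHom.codRestrict
        ((algebraMap W (FractionRing (T ⧸ Q))).comp (algebraMap A' W))
        (integralClosure (Ah ⧸ Q.comap (algebraMap Ah T)) (FractionRing (T ⧸ Q)))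
        (fun a' => hmem _)
      commutes' := fun a => Subtype.ext (by
        show algebraMap W (FractionRing (T ⧸ Q)) (algebraMap A' W (algebraMap A A' a)) =
          algebraMap A (FractionRing (T ⧸ Q)) a
        rw [← IsScalarTower.algebraMap_apply A A' W,
          ← IsScalarTower.algebraMap_apply A W (FractionRing (T ⧸ Q))]) }
  have hRmap : (maximalIdeal A).map (algebraMap A (Ah ⧸ Q.comap (algebraMap Ah T))) =
      ((maximalIdeal A).map (algebraMap A Ah)).map
        (Ideal.Quotient.mk (Q.comap (algebraMap Ah T))) := by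
    rw [Ideal.map_map]; rfl
  have hmapR : maximalIdeal (Ah ⧸ Q.comap (algebraMap Ah T)) ≤
      (maximalIdeal A).map (algebraMap A (Ah ⧸ Q.comap (algebraMap Ah T))) := by
    intro r hr
    obtain ⟨x, rfl⟩ := Ideal.Quotient.mk_surjective r
    have hx : x ∈ maximalIdeal Ah := by
      by_contra h
      have hux : IsUnit x := by
        by_contra h'
        exact h ((mem_maximalIdeal x).2 h')
      exact (mem_maximalIdeal _).1 hr (hux.map _)
    rw [hRmap]
    exact Ideal.mem_map_of_mem _ (hmapAh hx)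
  have hdenseR : ∀ r : Ah ⧸ Q.comap (algebraMap Ah T), ∃ a : A,
      r - algebraMap A (Ah ⧸ Q.comap (algebraMap Ah T)) a ∈
        (maximalIdeal A).map (algebraMap A (Ah ⧸ Q.comap (algebraMap Ah T))) := by
    intro r
    obtain ⟨x, rfl⟩ := Ideal.Quotient.mk_surjective r
    obtain ⟨a, ha⟩ := hdenseAh x
    refine ⟨a, ?_⟩
    rw [hRmap]
    have h1 := Ideal.mem_map_of_mem (Ideal.Quotient.mk (Q.comap (algebraMap Ah T))) ha
    rw [map_sub] at h1
    exact h1
  obtain ⟨F, hFfin, hF⟩ := exists_finite_of_finite A A' (Ah ⧸ Q.comap (algebraMap Ah T))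
    (integralClosure (Ah ⧸ Q.comap (algebraMap Ah T)) (FractionRing (T ⧸ Q))) hmapR hdenseR Φ
  refine ⟨F, hFfin, ?_⟩
  intro 𝔓 h𝔓 hle hmax
  -- lying over
  let Ψ : W →+* integralClosure (Ah ⧸ Q.comap (algebraMap Ah T)) (FractionRing (T ⧸ Q)) :=
    RingHom.codRestrict (algebraMap W (FractionRing (T ⧸ Q)))
      (integralClosure (Ah ⧸ Q.comap (algebraMap Ah T)) (FractionRing (T ⧸ Q))) hmem
  letI : Algebra W (integralClosure (Ah ⧸ Q.comap (algebraMap Ah T)) (FractionRing (T ⧸ Q))) :=
    Ψ.toAlgebra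
  haveI : IsScalarTower Ah W
      (integralClosure (Ah ⧸ Q.comap (algebraMap Ah T)) (FractionRing (T ⧸ Q))) :=
    IsScalarTower.of_algebraMap_eq (fun x => Subtype.ext (by
      show algebraMap Ah (FractionRing (T ⧸ Q)) x =
        algebraMap W (FractionRing (T ⧸ Q)) (algebraMap Ah W x)
      exact IsScalarTower.algebraMap_apply Ah W (FractionRing (T ⧸ Q)) x))
  haveI : Algebra.IsIntegral Ah (Ah ⧸ Q.comap (algebraMap Ah T)) :=
    Algebra.IsIntegral.of_finite Ah _
  haveI : Algebra.IsIntegral Ah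
      (integralClosure (Ah ⧸ Q.comap (algebraMap Ah T)) (FractionRing (T ⧸ Q))) :=
    Algebra.IsIntegral.trans (Ah ⧸ Q.comap (algebraMap Ah T))
  haveI : Algebra.IsIntegral W
      (integralClosure (Ah ⧸ Q.comap (algebraMap Ah T)) (FractionRing (T ⧸ Q))) :=
    Algebra.IsIntegral.tower_top (R := Ah)
  have hker : (⊥ : Ideal (integralClosure (Ah ⧸ Q.comap (algebraMap Ah T))
      (FractionRing (T ⧸ Q)))).comap (algebraMap W _) ≤ 𝔓 := by
    intro w hw
    refine hle ?_
    rw [Ideal.mem_comap, Ideal.mem_bot] at hw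
    have h1 : algebraMap W (FractionRing (T ⧸ Q)) w = 0 := congrArg Subtype.val hw
    rw [IsScalarTower.algebraMap_apply W T (FractionRing (T ⧸ Q)),
      IsScalarTower.algebraMap_apply T (T ⧸ Q) (FractionRing (T ⧸ Q))] at h1
    have h2 := (injective_iff_map_eq_zero _).1
      (IsFractionRing.injective (T ⧸ Q) (FractionRing (T ⧸ Q))) _ h1
    show algebraMap W T w ∈ Q
    exact Ideal.Quotient.eq_zero_iff_mem.1 h2
  haveI := h𝔓
  obtain ⟨𝔐, -, h𝔐, h𝔐𝔓⟩ := Ideal.exists_ideal_over_prime_of_isIntegral 𝔓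
    (⊥ : Ideal (integralClosure (Ah ⧸ Q.comap (algebraMap Ah T)) (FractionRing (T ⧸ Q)))) hker
  have heq : 𝔐.comap Φ = 𝔓.comap (algebraMap A' W) := by
    rw [← h𝔐𝔓]
    rfl
  have h6 := hF 𝔐 h𝔐 (by rw [heq]; exact hmax)
  rw [heq] at h6
  exact h6

end PerPrime

section MainAbstract

variable (A A' Ah W T : Type u) [CommRing A] [IsLocalRing A] [IsNoetherianRing A]
  [CommRing A'] [Algebra A A'] [Algebra.IsIntegral A A']
  [CommRing Ah] [IsLocalRing Ah] [IsNoetherianRing Ah] [Algebra A Ah]
  [CommRing W] [Algebra A W] [Algebra A' W] [IsScalarTower A A' W] [Algebra Ah W]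
  [IsScalarTower A Ah W] [Algebra.IsIntegral Ah W]
  [CommRing T] [Algebra A T] [Algebra Ah T] [IsScalarTower A Ah T] [Algebra W T]
  [IsScalarTower Ah W T] [Algebra.EssFiniteType Ah T]

/-- Abstract form of the semi-locality theorem. -/
theorem main_abstract (hNag : CAlg.IsNagata Ah)
    (hmapAh : maximalIdeal Ah ≤ (maximalIdeal A).map (algebraMap A Ah))
    (hdenseAh : ∀ x : Ah, ∃ a : A, x - algebraMap A Ah a ∈ (maximalIdeal A).map (algebraMap A Ah))
    (hden : ∀ t : T, ∃ a : A, IsUnit (algebraMap A T a) ∧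
      ∃ w : W, algebraMap A T a * t = algebraMap W T w)
    (hinj : Function.Injective (algebraMap W T))
    (hlo : ∀ m : Ideal A', m.IsMaximal →
      ∃ 𝔓 : Ideal W, 𝔓.IsPrime ∧ 𝔓.comap (algebraMap A' W) = m) :
    {m : Ideal A' | m.IsMaximal}.Finite ∧
      ∀ m : Ideal A', m.IsMaximal → Module.Finite A (A' ⧸ m) := by
  haveI : IsNoetherianRing T := Algebra.EssFiniteType.isNoetherianRing Ah T
  have hY : ∀ Q : Ideal T, Q.IsPrime → ∃ F : Set (Ideal A'), F.Finite ∧
      ∀ 𝔓 : Ideal W, 𝔓.IsPrime → Q.comap (algebraMap W T) ≤ 𝔓 →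
      (𝔓.comap (algebraMap A' W)).IsMaximal →
      𝔓.comap (algebraMap A' W) ∈ F ∧ Module.Finite A (A' ⧸ 𝔓.comap (algebraMap A' W)) :=
    fun Q hQ => exists_finite_of_prime A A' Ah W T hNag hmapAh hdenseAh hden Q
  choose! F hF using hY
  have key : ∀ m : Ideal A', m.IsMaximal →
      ∃ Q ∈ minimalPrimes T, m ∈ F Q ∧ Module.Finite A (A' ⧸ m) := by
    intro m hm
    obtain ⟨𝔓, h𝔓, h𝔓m⟩ := hlo m hm
    haveI := h𝔓
    obtain ⟨QW, hQW, hle⟩ := Ideal.exists_minimalPrimes_le (I := ⊥) (J := 𝔓) bot_le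
    obtain ⟨Q, hQ, hQe⟩ := Ideal.exists_minimalPrimes_comap_eq (I := ⊥) (algebraMap W T) QW
      (by rwa [Ideal.comap_bot_of_injective _ hinj])
    have h1 := (hF Q hQ.isPrime).2 𝔓 h𝔓 (hQe ▸ hle) (h𝔓m ▸ hm)
    rw [h𝔓m] at h1
    exact ⟨Q, hQ, h1⟩
  refine ⟨?_, fun m hm => ?_⟩
  · refine Set.Finite.subset (Set.Finite.biUnion (minimalPrimes.finite_of_isNoetherianRing T)
      (fun Q hQ => (hF Q hQ.isPrime).1)) ?_
    intro m hm
    obtain ⟨Q, hQ, hmF, -⟩ := key m hm
    exact Set.mem_biUnion hQ hmF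
  · obtain ⟨Q, -, -, h⟩ := key m hm
    exact h

end MainAbstract

section Concrete

variable (A K' : Type u) [CommRing A] [IsDomain A] [IsLocalRing A] [IsNoetherianRing A]
  [Field K'] [Algebra A K'] [Algebra (FractionRing A) K'] [IsScalarTower A (FractionRing A) K']
  [FiniteDimensional (FractionRing A) K']

set_option maxHeartbeats 1600000 in
set_option synthInstance.maxHeartbeats 400000 in
/-- The integral closure of a Noetherian local domain in a finite extension of its fraction
field is semi-local with residue fields finite over `A`. -/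
theorem main :
    {m : Ideal (integralClosure A K') | m.IsMaximal}.Finite ∧
      ∀ (m : Ideal (integralClosure A K')), m.IsMaximal →
        Module.Finite A (integralClosure A K' ⧸ m) := by
  obtain ⟨hloc, hnoeth, hcompl, hff, hlh, hmap⟩ := AnUnramH3.completion_facts A
  haveI := hff
  have hinjAK : Function.Injective (algebraMap A K') := by
    rw [IsScalarTower.algebraMap_eq A (FractionRing A) K']
    exact (algebraMap (FractionRing A) K').injective.comp
      (IsFractionRing.injective A (FractionRing A))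
  haveI : Algebra.IsAlgebraic (FractionRing A) K' := Algebra.IsAlgebraic.of_finite _ _
  haveI : Algebra.IsAlgebraic A K' :=
    (IsFractionRing.comap_isAlgebraic_iff (A := A) (K := FractionRing A) (C := K')).2 inferInstance
  haveI : Algebra.EssFiniteType A (FractionRing A) :=
    Algebra.EssFiniteType.of_isLocalization _ (nonZeroDivisors A)
  haveI : Algebra.EssFiniteType A K' := Algebra.EssFiniteType.comp A (FractionRing A) K'
  letI : Algebra (integralClosure A K')
      (AdicCompletion (maximalIdeal A) A ⊗[A] integralClosure A K') :=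
    (Algebra.TensorProduct.includeRight : integralClosure A K' →ₐ[A]
      AdicCompletion (maximalIdeal A) A ⊗[A] integralClosure A K').toRingHom.toAlgebra
  haveI : IsScalarTower A (integralClosure A K')
      (AdicCompletion (maximalIdeal A) A ⊗[A] integralClosure A K') :=
    IsScalarTower.of_algebraMap_eq (fun a =>
      ((Algebra.TensorProduct.includeRight : integralClosure A K' →ₐ[A]
        AdicCompletion (maximalIdeal A) A ⊗[A] integralClosure A K').commutes a).symm)
  let ι : AdicCompletion (maximalIdeal A) A ⊗[A] integralClosure A K' →ₐ[AdicCompletion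
      (maximalIdeal A) A] AdicCompletion (maximalIdeal A) A ⊗[A] K' :=
    Algebra.TensorProduct.map (AlgHom.id _ _) (integralClosure A K').val
  letI : Algebra (AdicCompletion (maximalIdeal A) A ⊗[A] integralClosure A K')
      (AdicCompletion (maximalIdeal A) A ⊗[A] K') := ι.toRingHom.toAlgebra
  haveI : IsScalarTower (AdicCompletion (maximalIdeal A) A)
      (AdicCompletion (maximalIdeal A) A ⊗[A] integralClosure A K')
      (AdicCompletion (maximalIdeal A) A ⊗[A] K') :=
    IsScalarTower.of_algebraMap_eq (fun x => (ι.commutes x).symm)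
  refine main_abstract A (integralClosure A K') (AdicCompletion (maximalIdeal A) A)
    (AdicCompletion (maximalIdeal A) A ⊗[A] integralClosure A K')
    (AdicCompletion (maximalIdeal A) A ⊗[A] K') (AnUnramH3.isNagata_completion A) hmap.ge
    ?_ ?_ ?_ ?_
  · intro x
    obtain ⟨a, ha⟩ := FSAdicComplH3.exists_sub_mem_map_pow (maximalIdeal A)
      (IsNoetherian.noetherian _) 1 x
    exact ⟨a, by rwa [pow_one] at ha⟩
  · -- denominators
    intro t
    induction t using TensorProduct.induction_on with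
    | zero => exact ⟨1, by rw [map_one]; exact isUnit_one, 0, by simp⟩
    | tmul x k =>
      have hk : IsAlgebraic A k := Algebra.IsAlgebraic.isAlgebraic k
      obtain ⟨y, hy0, hy⟩ := hk.exists_integral_multiple
      refine ⟨y, ?_, x ⊗ₜ ⟨y • k, hy⟩, ?_⟩
      · have hyK : IsUnit (algebraMap A K' y) :=
          IsUnit.mk0 _ (fun h => hy0 (hinjAK (by rw [h, map_zero])))
        have h1 := hyK.map (Algebra.TensorProduct.includeRight :
          K' →ₐ[A] AdicCompletion (maximalIdeal A) A ⊗[A] K')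
        rwa [AlgHom.commutes] at h1
      · show _ = ι (x ⊗ₜ ⟨y • k, hy⟩)
        rw [← Algebra.smul_def, ← TensorProduct.tmul_smul]
        simp [ι]
    | add t1 t2 h1 h2 =>
      obtain ⟨a1, hu1, w1, hw1⟩ := h1
      obtain ⟨a2, hu2, w2, hw2⟩ := h2
      refine ⟨a1 * a2, by rw [map_mul]; exact hu1.mul hu2,
        algebraMap A _ a2 * w1 + algebraMap A _ a1 * w2, ?_⟩
      have hc : ∀ a : A, algebraMap (AdicCompletion (maximalIdeal A) A ⊗[A] integralClosure A K')
          (AdicCompletion (maximalIdeal A) A ⊗[A] K') (algebraMap A _ a) = algebraMap A _ a :=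
        fun a => (ι.restrictScalars A).commutes a
      simp only [map_add, map_mul, hc, ← hw1, ← hw2]
      ring
  · -- injectivity
    show Function.Injective ι
    have h1 := Module.Flat.lTensor_preserves_injective_linearMap
      (M := AdicCompletion (maximalIdeal A) A) ((integralClosure A K').val.toLinearMap)
      Subtype.val_injective
    intro a b hab
    apply h1
    have : ∀ z, LinearMap.lTensor (AdicCompletion (maximalIdeal A) A)
        ((integralClosure A K').val.toLinearMap) z = ι z := by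
      intro z
      induction z using TensorProduct.induction_on with
      | zero => simp
      | tmul x y => simp [ι]
      | add z1 z2 h1 h2 => rw [map_add, map_add, h1, h2]
    rw [this, this, hab]
  · -- lying over for `A' → W`
    intro m hm
    haveI := hm.isPrime
    obtain ⟨P', hP', hP'm⟩ := Ideal.exists_isPrime_liesOver_of_faithfullyFlat
      (B := integralClosure A K' ⊗[A] AdicCompletion (maximalIdeal A) A) m
    let c := Algebra.TensorProduct.comm A (AdicCompletion (maximalIdeal A) A)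
      (integralClosure A K')
    refine ⟨P'.comap c.toRingEquiv.toRingHom, Ideal.comap_isPrime _ _, ?_⟩
    rw [hP'm.over, Ideal.under, Ideal.comap_comap]
    congr 1

end Concrete

end Groth.Agent.Lib.ICSemilocalH3
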