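import Mathlib

/-!
# Resolutions of bounded below complexes by objects of a class (helper9)

`A` abelian, `J : A → A` with monomorphisms `j X : X ⟶ J X`.  For an `ℕ`-indexed cochain complex `K`
we construct (`IRes.Lcx`, `IRes.αmap`) a complex `L` with `L.X n` of the form `J _` and a
termwise monomorphic quasi-isomorphism `K ⟶ L`:
`L^{n+1} = J (coker (L^{n-1} ⊞ K^n ⟶ L^n ⊞ K^{n+1}))`.

`IRes.exists_resolution`: the `ℤ`-indexed statement for a class `I` of objects such that every object
embeds into an object of `I`, keeping the lower bound.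
-/

open CategoryTheory CategoryTheory.Limits HomologicalComplex ZeroObject

namespace IRes

universe v u

variable {A : Type u} [Category.{v} A] [Abelian A]

/-- the state of the recursion -/
structure St (Kn : A) where
  /-- `L^{n-1}` -/
  Lp : A
  /-- `L^n` -/
  L : A
  /-- the differential -/
  d : Lp ⟶ L
  /-- the comparison map -/
  α : Kn ⟶ L

section Step

variable (J : A → A) (j : ∀ X, X ⟶ J X) {Kn Kn1 : A} (dK : Kn ⟶ Kn1) (s : St Kn)

/-- the matrix `L^{n-1} ⊞ K^n ⟶ L^n ⊞ K^{n+1}` -/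
noncomputable def St.M : s.Lp ⊞ Kn ⟶ s.L ⊞ Kn1 :=
  biprod.desc (s.d ≫ biprod.inl) (s.α ≫ biprod.inl - dK ≫ biprod.inr)

/-- the next state -/
noncomputable def St.next : St Kn1 where
  Lp := s.L
  L := J (cokernel (s.M dK))
  d := biprod.inl ≫ cokernel.π (s.M dK) ≫ j _
  α := biprod.inr ≫ cokernel.π (s.M dK) ≫ j _

lemma St.d_comp_d : s.d ≫ (s.next J j dK).d = 0 := by
  have h : s.d ≫ biprod.inl = biprod.inl ≫ s.M dK := by
    simp [St.M]
  change s.d ≫ biprod.inl ≫ cokernel.π (s.M dK) ≫ j _ = 0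
  rw [← Category.assoc, h, Category.assoc, cokernel.condition_assoc, zero_comp, comp_zero]

lemma St.comm : s.α ≫ (s.next J j dK).d = dK ≫ (s.next J j dK).α := by
  have h : s.α ≫ biprod.inl - dK ≫ biprod.inr = biprod.inr ≫ s.M dK := by
    simp [St.M]
  change s.α ≫ biprod.inl ≫ cokernel.π (s.M dK) ≫ j _ = dK ≫ biprod.inr ≫ cokernel.π (s.M dK) ≫ j _
  rw [← sub_eq_zero, ← Category.assoc, ← Category.assoc dK, ← Preadditive.sub_comp, h,
    Category.assoc, cokernel.condition_assoc, zero_comp, comp_zero]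

/-- the key property, up to refinements -/
lemma St.key [∀ X, Mono (j X)] {T : A} (y : T ⟶ s.L) (x : T ⟶ Kn1)
    (h : y ≫ (s.next J j dK).d = x ≫ (s.next J j dK).α) :
    ∃ (T' : A) (π : T' ⟶ T) (_ : Epi π) (u : T' ⟶ s.Lp) (v : T' ⟶ Kn),
      π ≫ y = u ≫ s.d + v ≫ s.α ∧ π ≫ x = v ≫ dK := by
  have h' : y ≫ biprod.inl ≫ cokernel.π (s.M dK) ≫ j _ =
      x ≫ biprod.inr ≫ cokernel.π (s.M dK) ≫ j _ := h
  have h0 : (y ≫ biprod.inl - x ≫ biprod.inr) ≫ cokernel.π (s.M dK) = 0 := by
    rw [← cancel_mono (j (cokernel (s.M dK))), zero_comp, Category.assoc, Preadditive.sub_comp,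
      sub_eq_zero]
    simpa only [Category.assoc] using h'
  have hex : (ShortComplex.mk (s.M dK) (cokernel.π (s.M dK)) (cokernel.condition _)).Exact :=
    ShortComplex.exact_of_g_is_cokernel _ (cokernelIsCokernel _)
  obtain ⟨T', π, hπ, w, hw⟩ := hex.exact_up_to_refinements _ h0
  dsimp at w hw
  refine ⟨T', π, hπ, w ≫ biprod.fst, w ≫ biprod.snd, ?_, ?_⟩
  · have h1 := congrArg (fun t => t ≫ biprod.fst) hw
    simp only [St.M, Category.assoc, Preadditive.comp_sub, Preadditive.sub_comp, biprod.inl_fst,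
      biprod.inr_fst, comp_zero, sub_zero, Category.comp_id, biprod.desc_eq,
      Preadditive.comp_add, Preadditive.add_comp] at h1
    simpa using h1
  · have h1 := congrArg (fun t => t ≫ biprod.snd) hw
    simp only [St.M, Category.assoc, Preadditive.comp_sub, Preadditive.sub_comp, biprod.inl_snd,
      biprod.inr_snd, comp_zero, zero_sub, Category.comp_id, biprod.desc_eq,
      Preadditive.comp_add, Preadditive.add_comp, zero_add, neg_inj] at h1
    simpa using h1

end Step

section Cx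

variable (J : A → A) (j : ∀ X, X ⟶ J X) (K : CochainComplex A ℕ)

/-- the sequence of states -/
noncomputable def init : St (K.X 0) where
  Lp := 0
  L := J (K.X 0)
  d := 0
  α := j (K.X 0)

/-- the sequence of states -/
noncomputable def seq : ∀ n : ℕ, St (K.X n)
  | 0 => init J j K
  | n + 1 => (seq n).next J j (K.d n (n + 1))

lemma seq_zero_d : (seq J j K 0).d = 0 := rfl

lemma comp_seq_zero_d {T : A} (u : T ⟶ (seq J j K 0).Lp) : u ≫ (seq J j K 0).d = 0 := by
  rw [seq_zero_d, comp_zero]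

/-- the resolution -/
noncomputable def Lcx : CochainComplex A ℕ :=
  CochainComplex.of (fun n => (seq J j K n).L) (fun n => (seq J j K (n + 1)).d)
    (fun n => (seq J j K (n + 1)).d_comp_d J j (K.d (n + 1) (n + 1 + 1)))

lemma Lcx_d (n : ℕ) : (Lcx J j K).d n (n + 1) = (seq J j K (n + 1)).d := by
  unfold Lcx
  exact CochainComplex.of_d (fun n => (seq J j K n).L) (fun n => (seq J j K (n + 1)).d) n

/-- the comparison map -/
noncomputable def αmap : K ⟶ Lcx J j K where
  f n := (seq J j K n).α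
  comm' i k hik := by
    obtain rfl : i + 1 = k := hik
    rw [Lcx_d]
    change (seq J j K i).α ≫ ((seq J j K i).next J j (K.d i (i + 1))).d =
      K.d i (i + 1) ≫ ((seq J j K i).next J j (K.d i (i + 1))).α
    exact (seq J j K i).comm J j (K.d i (i + 1))

lemma αmap_f (n : ℕ) : (αmap J j K).f n = (seq J j K n).α := rfl

variable [∀ X, Mono (j X)]

lemma key (n : ℕ) {T : A} (y : T ⟶ (Lcx J j K).X n) (x : T ⟶ K.X (n + 1))
    (h : y ≫ (Lcx J j K).d n (n + 1) = x ≫ (αmap J j K).f (n + 1)) :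
    ∃ (T' : A) (π : T' ⟶ T) (_ : Epi π) (u : T' ⟶ (seq J j K n).Lp) (v : T' ⟶ K.X n),
      π ≫ y = (u ≫ (seq J j K n).d : T' ⟶ (Lcx J j K).X n) + v ≫ (αmap J j K).f n ∧
        π ≫ x = v ≫ K.d n (n + 1) := by
  rw [Lcx_d] at h
  exact (seq J j K n).key J j (K.d n (n + 1)) y x h

/-- a "boundary" in `L` coming from `K` is killed by the differential of `K` -/
lemma inj (n : ℕ) {T : A} (v : T ⟶ K.X n) (u : T ⟶ (seq J j K n).Lp)
    (h : v ≫ (αmap J j K).f n = u ≫ (seq J j K n).d) (hm : Mono ((αmap J j K).f n)) :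
    v ≫ K.d n (n + 1) = 0 := by
  cases n with
  | zero =>
    have h0 : v ≫ (αmap J j K).f 0 = 0 := h.trans (comp_seq_zero_d J j K u)
    rw [zero_of_comp_mono _ h0, zero_comp]
  | succ k =>
    have h' : u ≫ (Lcx J j K).d k (k + 1) = v ≫ (αmap J j K).f (k + 1) := by
      rw [Lcx_d]; exact h.symm
    obtain ⟨T', π, hπ, u', v', -, h2⟩ := key J j K k u v h'
    rw [← cancel_epi π, comp_zero, ← Category.assoc, h2, Category.assoc, K.d_comp_d, comp_zero]

lemma mono_αmap_f (n : ℕ) : Mono ((αmap J j K).f n) := by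
  induction n with
  | zero => exact (inferInstance : Mono (j (K.X 0)))
  | succ k ih =>
    refine Preadditive.mono_of_cancel_zero _ (fun {T} x hx => ?_)
    obtain ⟨T', π, hπ, u, v, h1, h2⟩ := key J j K k (0 : T ⟶ _) x (by rw [zero_comp, hx])
    rw [comp_zero] at h1
    have h3 : v ≫ (αmap J j K).f k = (-u) ≫ (seq J j K k).d :=
      (eq_neg_of_add_eq_zero_right h1.symm).trans (Preadditive.neg_comp _ _).symm
    have h4 := inj J j K k v (-u) h3 ih
    rw [← cancel_epi π, comp_zero, h2, h4]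

instance (n : ℕ) : Mono ((αmap J j K).f n) := mono_αmap_f J j K n

instance quasiIso_αmap : QuasiIso (αmap J j K) := by
  rw [quasiIso_iff]
  intro n
  rw [quasiIsoAt_iff_isIso_homologyMap]
  have hm : Mono (homologyMap (αmap J j K) n) := by
    cases n with
    | zero =>
      rw [mono_homologyMap_iff_up_to_refinements (αmap J j K) 0 0 1 (by simp) (by simp)]
      intro T x₂ _ y₁ hy
      have h0 : x₂ ≫ (αmap J j K).f 0 = 0 := by
        rw [hy, (Lcx J j K).shape 0 0 (by simp), comp_zero]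
      refine ⟨T, 𝟙 _, inferInstance, 0, ?_⟩
      rw [zero_of_comp_mono _ h0, comp_zero, zero_comp]
    | succ k =>
      rw [mono_homologyMap_iff_up_to_refinements (αmap J j K) k (k + 1) (k + 1 + 1) (by simp)
        (by simp)]
      intro T x₂ _ y₁ hy
      obtain ⟨T', π, hπ, u, v, -, h2⟩ := key J j K k y₁ x₂ hy.symm
      exact ⟨T', π, hπ, v, h2⟩
  have he : Epi (homologyMap (αmap J j K) n) := by
    cases n with
    | zero =>
      rw [epi_homologyMap_iff_up_to_refinements (αmap J j K) 0 0 1 (by simp) (by simp)]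
      intro T y₂ hy₂
      obtain ⟨T', π, hπ, u, v, h1, h2⟩ := key J j K 0 y₂ 0 (by rw [hy₂, zero_comp])
      refine ⟨T', π, hπ, v, ?_, 0, ?_⟩
      · rw [← h2, comp_zero]
      · rw [h1, zero_comp, add_zero]
        have hu : (u ≫ (seq J j K 0).d : T' ⟶ (Lcx J j K).X 0) = 0 := comp_seq_zero_d J j K u
        rw [hu, zero_add]
    | succ k =>
      rw [epi_homologyMap_iff_up_to_refinements (αmap J j K) k (k + 1) (k + 1 + 1) (by simp)
        (by simp)]
      intro T y₂ hy₂
      obtain ⟨T', π, hπ, u, v, h1, h2⟩ := key J j K (k + 1) y₂ 0 (by rw [hy₂, zero_comp])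
      refine ⟨T', π, hπ, v, ?_, u, ?_⟩
      · rw [← h2, comp_zero]
      · rw [h1, Lcx_d]
        exact add_comm _ _
  exact isIso_of_mono_of_epi _

omit [∀ X, Mono (j X)] in
lemma Lcx_X_mem (I : A → Prop) (hJ : ∀ X, I (J X)) (n : ℕ) : I ((Lcx J j K).X n) := by
  cases n with
  | zero => exact hJ _
  | succ k => exact hJ _

end Cx

section Replace

variable {ι : Type*} {c : ComplexShape ι} (M : HomologicalComplex A c) (X' : ι → A)
  (φ : ∀ i, M.X i ≅ X' i)

/-- replace the objects of a complex by isomorphic ones -/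
@[simps]
def replace : HomologicalComplex A c where
  X := X'
  d i k := (φ i).inv ≫ M.d i k ≫ (φ k).hom
  shape i k h := by rw [M.shape i k h, zero_comp, comp_zero]
  d_comp_d' i k l _ _ := by simp

/-- the isomorphism to the replaced complex -/
def replaceIso : M ≅ replace M X' φ :=
  Hom.isoOfComponents (fun i => (φ i : M.X i ≅ (replace M X' φ).X i)) (fun i k _ => by
    change (φ i).hom ≫ ((φ i).inv ≫ M.d i k ≫ (φ k).hom) = M.d i k ≫ (φ k).hom
    rw [Iso.hom_inv_id_assoc])

@[simp] lemma replaceIso_hom_f (i : ι) : (replaceIso M X' φ).hom.f i = (φ i).hom := rfl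

end Replace

section Z

open CochainComplex

/-- the `ℤ`-indexed version -/
theorem exists_resolution_aux (J : A → A) (j : ∀ X, X ⟶ J X) [∀ X, Mono (j X)] (I : A → Prop) (hJ : ∀ X, I (J X)) (Z : A) (hZ : IsZero Z)
    (hZI : I Z) (K : CochainComplex A ℤ) (a : ℤ) [K.IsStrictlyGE a] :
    ∃ (L : CochainComplex A ℤ) (α : K ⟶ L), L.IsStrictlyGE a ∧ (∀ n, I (L.X n)) ∧
      (∀ n, Mono (α.f n)) ∧ QuasiIso α := by
  let e := ComplexShape.embeddingUpIntGE a
  let K' : CochainComplex A ℕ := HomologicalComplex.truncGE' K e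
  let L' : CochainComplex A ℕ := Lcx J j K'
  let α' : K' ⟶ L' := αmap J j K'
  let X' : ℤ → A := fun i => if a ≤ i then L'.X (i - a).toNat else Z
  have hX' : ∀ i, I (X' i) := by
    intro i
    dsimp only [X']
    split_ifs with h
    · exact Lcx_X_mem J j K' I hJ _
    · exact hZI
  have hX'0 : ∀ i, i < a → IsZero (X' i) := by
    intro i hi
    dsimp only [X']
    rw [if_neg (by lia)]
    exact hZ
  let φ : ∀ i, (L'.extend e).X i ≅ X' i := fun i =>
    if h : a ≤ i then
      (L'.extendXIso e (i := (i - a).toNat) (i' := i) (by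
        change a + ((i - a).toNat : ℤ) = i; lia)) ≪≫
        eqToIso (by dsimp only [X']; rw [if_pos h])
    else
      (L'.isZero_extend_X e i (by
        rw [ComplexShape.notMem_range_embeddingUpIntGE_iff]; lia)).iso (hX'0 i (by lia))
  let L := replace (L'.extend e) X' φ
  let β : K'.extend e ⟶ L'.extend e := extendMap α' e
  have hα'q : QuasiIso α' := quasiIso_αmap J j K'
  have hβq : QuasiIso β := by
    dsimp only [β]
    rw [quasiIso_extendMap_iff]
    exact hα'q
  have hβm : ∀ i, Mono (β.f i) := by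
    intro i
    by_cases h : a ≤ i
    · have h' : e.f (i - a).toNat = i := by
        change a + ((i - a).toNat : ℤ) = i; lia
      dsimp only [β]
      rw [extendMap_f α' e h']
      haveI : Mono (α'.f (i - a).toNat) := mono_αmap_f J j K' _
      infer_instance
    · have hz : IsZero ((K'.extend e).X i) :=
        K'.isZero_extend_X e i (by rw [ComplexShape.notMem_range_embeddingUpIntGE_iff]; lia)
      exact ⟨fun _ _ _ => hz.eq_of_tgt _ _⟩
  let π : K ⟶ K'.extend e := K.πTruncGE a
  haveI : IsIso π := (inferInstance : IsIso (K.πTruncGE a))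
  refine ⟨L, π ≫ β ≫ (replaceIso (L'.extend e) X' φ).hom, ?_, hX', ?_, ?_⟩
  · rw [isStrictlyGE_iff]
    intro i hi
    exact hX'0 i hi
  · intro i
    haveI := hβm i
    rw [comp_f, comp_f]
    infer_instance
  · infer_instance

theorem exists_resolution (I : A → Prop)
    (hI0 : ∃ Z : A, Limits.IsZero Z ∧ I Z) (hI : ∀ X : A, ∃ (Y : A) (ι : X ⟶ Y), I Y ∧ Mono ι)
    (K : CochainComplex A ℤ) (a : ℤ) [K.IsStrictlyGE a] :
    ∃ (L : CochainComplex A ℤ) (α : K ⟶ L), L.IsStrictlyGE a ∧ (∀ n, I (L.X n)) ∧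
      (∀ n, Mono (α.f n)) ∧ QuasiIso α := by
  obtain ⟨Z, hZ, hZI⟩ := hI0
  haveI : ∀ X, Mono ((hI X).choose_spec.choose) := fun X => (hI X).choose_spec.choose_spec.2
  exact exists_resolution_aux (fun X => (hI X).choose) (fun X => (hI X).choose_spec.choose) I
    (fun X => (hI X).choose_spec.choose_spec.1) Z hZ hZI K a

theorem exists_resolution_of_homology (I : A → Prop)
    (hI0 : ∃ Z : A, Limits.IsZero Z ∧ I Z) (hI : ∀ X : A, ∃ (Y : A) (ι : X ⟶ Y), I Y ∧ Mono ι)
    (K : CochainComplex A ℤ) (a : ℤ) (hK : ∀ n : ℤ, n < a → Limits.IsZero (K.homology n)) :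
    ∃ (L : CochainComplex A ℤ) (α : K ⟶ L), L.IsStrictlyGE a ∧ (∀ n, I (L.X n)) ∧
      QuasiIso α := by
  haveI : K.IsGE a := by
    rw [isGE_iff]
    intro i hi
    rw [exactAt_iff_isZero_homology]
    exact hK i hi
  obtain ⟨L, α, h1, h2, -, h4⟩ := exists_resolution I hI0 hI (K.truncGE a) a
  exact ⟨L, K.πTruncGE a ≫ α, h1, h2, inferInstance⟩

end Z

end IRes
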