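import Mathlib
import Groth.Agent.Lib.HorseshoeCx_helper9
import Groth.Agent.Lib.IRes_helper9

/-!
# Towers of resolutions of the truncations of a complex (helper9)

For a class `I` of objects of an abelian category such that every object embeds into an object
of `I`, we construct compatible resolutions `τ_{≥ -n} K ⟶ Q n` by bounded below complexes with terms
in `I`, with termwise split epimorphisms `Q (n+1) ⟶ Q n` whose kernels are in `I`.
-/

open CategoryTheory CategoryTheory.Limits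

namespace Groth.Agent.Lib.ITower

universe v u

variable {A : Type u} [Category.{v} A] [Abelian A]

/-! ### A contractible complex mapping onto a given complex -/

section P

variable (J : CochainComplex A ℤ)

/-- The differential of `P J`. -/
noncomputable def dP (n : ℤ) : J.X n ⊞ J.X (n - 1) ⟶ J.X (n + 1) ⊞ J.X (n + 1 - 1) :=
  biprod.lift (biprod.fst ≫ J.d n (n + 1))
    ((biprod.fst - biprod.snd ≫ J.d (n - 1) n) ≫ (J.XIsoOfEq (show n = n + 1 - 1 by omega)).hom)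

lemma dP_fst (n : ℤ) : dP J n ≫ biprod.fst = biprod.fst ≫ J.d n (n + 1) := biprod.lift_fst _ _

lemma dP_snd (n : ℤ) : dP J n ≫ biprod.snd =
    (biprod.fst - biprod.snd ≫ J.d (n - 1) n) ≫ (J.XIsoOfEq (show n = n + 1 - 1 by omega)).hom :=
  biprod.lift_snd _ _

lemma dP_comp_dP (n : ℤ) : dP J n ≫ dP J (n + 1) = 0 := by
  apply biprod.hom_ext
  · rw [Category.assoc, dP_fst, ← Category.assoc, dP_fst, Category.assoc, J.d_comp_d, comp_zero,
      zero_comp]
  · have h1 : dP J n ≫ biprod.snd ≫ J.d (n + 1 - 1) (n + 1) = biprod.fst ≫ J.d n (n + 1) := by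
      rw [← Category.assoc, dP_snd, Category.assoc, HomologicalComplex.XIsoOfEq_hom_comp_d,
        Preadditive.sub_comp, Category.assoc, J.d_comp_d, comp_zero, sub_zero]
    rw [Category.assoc, dP_snd, zero_comp, ← Category.assoc, Preadditive.comp_sub, dP_fst, h1,
      sub_self, zero_comp]

/-- A contractible complex with terms `J^n ⊞ J^(n-1)`. -/
noncomputable def P : CochainComplex A ℤ :=
  CochainComplex.of (fun n => J.X n ⊞ J.X (n - 1)) (dP J) (dP_comp_dP J)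

lemma P_d (n : ℤ) : (P J).d n (n + 1) = dP J n := by
  unfold P
  exact CochainComplex.of_d (fun n => J.X n ⊞ J.X (n - 1)) (dP J) n

/-- The projection `P J ⟶ J`. -/
noncomputable def q : P J ⟶ J :=
  CochainComplex.ofHom (X := P J) (Y := J)
    (fun n => (biprod.fst : J.X n ⊞ J.X (n - 1) ⟶ J.X n))
    (fun n => by rw [P_d]; exact (dP_fst J n).symm)

lemma q_f (n : ℤ) : (q J).f n = (biprod.fst : J.X n ⊞ J.X (n - 1) ⟶ J.X n) := rfl

/-- The termwise section of `q`. -/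
noncomputable def sP (n : ℤ) : J.X n ⟶ (P J).X n := (biprod.inl : J.X n ⟶ J.X n ⊞ J.X (n - 1))

lemma sP_q (n : ℤ) : sP J n ≫ (q J).f n = 𝟙 _ := by
  rw [q_f]
  exact biprod.inl_fst

/-- The contracting homotopy of `P J`. -/
noncomputable def hP (i : ℤ) : J.X (i + 1) ⊞ J.X (i + 1 - 1) ⟶ J.X i ⊞ J.X (i - 1) :=
  biprod.snd ≫ (J.XIsoOfEq (show i + 1 - 1 = i by omega)).hom ≫ biprod.inl

lemma hP_spec (i : ℤ) : hP J i ≫ dP J i + dP J (i + 1) ≫ hP J (i + 1) = 𝟙 _ := by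
  apply biprod.hom_ext
  · rw [Preadditive.add_comp, Category.assoc, dP_fst, Category.assoc, Category.id_comp]
    simp only [hP, Category.assoc, biprod.inl_fst, Category.comp_id, biprod.inl_fst_assoc,
      HomologicalComplex.XIsoOfEq_hom_comp_d]
    rw [← Category.assoc, dP_snd]
    simp [HomologicalComplex.XIsoOfEq_hom_comp_XIsoOfEq_hom]
  · rw [Preadditive.add_comp, Category.assoc, dP_snd, Category.assoc, Category.id_comp]
    simp [hP, HomologicalComplex.XIsoOfEq_hom_comp_XIsoOfEq_hom]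

lemma exact_dP (i : ℤ) :
    (ShortComplex.mk (dP J i) (dP J (i + 1)) (dP_comp_dP J i)).Exact := by
  rw [ShortComplex.exact_iff_exact_up_to_refinements]
  intro T x hx
  refine ⟨T, 𝟙 T, inferInstance, x ≫ hP J i, ?_⟩
  have hx' : x ≫ dP J (i + 1) = 0 := hx
  have h := hP_spec J i
  rw [Category.id_comp]
  change x = (x ≫ hP J i) ≫ dP J i
  calc x = x ≫ 𝟙 _ := (Category.comp_id x).symm
    _ = x ≫ (hP J i ≫ dP J i + dP J (i + 1) ≫ hP J (i + 1)) := by rw [h]
    _ = (x ≫ hP J i) ≫ dP J i := by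
      rw [Preadditive.comp_add, ← Category.assoc x (dP J (i + 1)), hx', zero_comp, add_zero,
        Category.assoc]

lemma acyclic_P : (P J).Acyclic := by
  intro j
  obtain ⟨i, rfl⟩ : ∃ i, i + 1 = j := ⟨j - 1, by omega⟩
  rw [HomologicalComplex.exactAt_iff' _ i (i + 1) (i + 1 + 1) (by simp) (by simp)]
  have h1 := P_d J i
  have h2 := P_d J (i + 1)
  suffices ∀ (f : (P J).X i ⟶ (P J).X (i + 1)) (g : (P J).X (i + 1) ⟶ (P J).X (i + 1 + 1))
      (w : f ≫ g = 0), f = dP J i → g = dP J (i + 1) → (ShortComplex.mk f g w).Exact from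
    this _ _ _ h1 h2
  rintro f g w rfl rfl
  exact exact_dP J i

instance isStrictlyGE_P (a : ℤ) [J.IsStrictlyGE a] : (P J).IsStrictlyGE a := by
  rw [CochainComplex.isStrictlyGE_iff]
  intro i hi
  change IsZero (J.X i ⊞ J.X (i - 1))
  rw [biprod_isZero_iff]
  exact ⟨J.isZero_of_isStrictlyGE a i hi, J.isZero_of_isStrictlyGE a (i - 1) (by omega)⟩

end P

/-! ### The relative resolution step -/

lemma quasiIso_biprod_inl (K' L : CochainComplex A ℤ) (hL : L.Acyclic) :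
    QuasiIso (biprod.inl : K' ⟶ K' ⊞ L) := by
  have hS : (ShortComplex.mk (biprod.inl : K' ⟶ K' ⊞ L) biprod.snd biprod.inl_snd).ShortExact :=
    (ShortComplex.Splitting.ofHasBinaryBiproduct K' L).shortExact
  rw [quasiIso_iff]
  intro j
  rw [quasiIsoAt_iff_isIso_homologyMap]
  have hz : ∀ k, IsZero (L.homology k) := fun k =>
    (HomologicalComplex.exactAt_iff_isZero_homology _ _).1 (hL k)
  haveI : Mono (HomologicalComplex.homologyMap (biprod.inl : K' ⟶ K' ⊞ L) j) :=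
    (hS.homology_exact₁ (j - 1) j (by simp)).mono_g ((hz _).eq_of_src _ _)
  haveI : Epi (HomologicalComplex.homologyMap (biprod.inl : K' ⟶ K' ⊞ L) j) :=
    (hS.homology_exact₂ j).epi_f ((hz _).eq_of_tgt _ _)
  exact isIso_of_mono_of_epi _

lemma isStrictlyGE_biprod (K' L : CochainComplex A ℤ) (a : ℤ) [K'.IsStrictlyGE a]
    [L.IsStrictlyGE a] : (K' ⊞ L).IsStrictlyGE a := by
  have hS : (ShortComplex.mk (biprod.inl : K' ⟶ K' ⊞ L) biprod.snd biprod.inl_snd).ShortExact :=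
    (ShortComplex.Splitting.ofHasBinaryBiproduct K' L).shortExact
  haveI : (ShortComplex.mk (biprod.inl : K' ⟶ K' ⊞ L) biprod.snd biprod.inl_snd).X₁.IsStrictlyGE a :=
    (inferInstance : K'.IsStrictlyGE a)
  haveI : (ShortComplex.mk (biprod.inl : K' ⟶ K' ⊞ L) biprod.snd biprod.inl_snd).X₃.IsStrictlyGE a :=
    (inferInstance : L.IsStrictlyGE a)
  exact HorseshoeCx.isStrictlyGE_X₂ hS a

theorem exists_step (I : ObjectProperty A) [I.IsClosedUnderIsomorphisms]
    (hI0 : ∃ Z : A, IsZero Z ∧ I Z) (hIprod : ∀ X Y : A, I X → I Y → I (X ⊞ Y))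
    (hI : ∀ X : A, ∃ (Y : A) (ι : X ⟶ Y), I Y ∧ Mono ι)
    {K' J : CochainComplex A ℤ} (β : K' ⟶ J) (a : ℤ) [K'.IsStrictlyGE a] [J.IsStrictlyGE a]
    (hJ : ∀ n, I (J.X n)) :
    ∃ (J' : CochainComplex A ℤ) (π' : K' ⟶ J') (p : J' ⟶ J), J'.IsStrictlyGE a ∧
      (∀ n, I (J'.X n)) ∧ QuasiIso π' ∧ (∀ n, Mono (π'.f n)) ∧ π' ≫ p = β ∧
      (∀ n, (∃ s : J.X n ⟶ J'.X n, s ≫ p.f n = 𝟙 _) ∧ I (kernel (p.f n))) := by
  -- the factorization `K' ⟶ M ⟶ J`
  let r : K' ⊞ P J ⟶ J := biprod.desc β (q J)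
  let sM : ∀ n, J.X n ⟶ (K' ⊞ P J).X n := fun n => sP J n ≫ (biprod.inr : P J ⟶ K' ⊞ P J).f n
  have hsM : ∀ n, sM n ≫ r.f n = 𝟙 _ := fun n => by
    change (sP J n ≫ (biprod.inr : P J ⟶ K' ⊞ P J).f n) ≫ r.f n = 𝟙 _
    rw [Category.assoc, ← HomologicalComplex.comp_f, biprod.inr_desc, sP_q]
  haveI : ∀ n, Epi (r.f n) := fun n => epi_of_epi_fac (hsM n)
  haveI : Epi r := HomologicalComplex.epi_of_epi_f _ inferInstance
  haveI : (K' ⊞ P J).IsStrictlyGE a := isStrictlyGE_biprod K' (P J) a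
  let S₀ : ShortComplex (CochainComplex A ℤ) := ShortComplex.mk (kernel.ι r) r (kernel.condition r)
  have hS : S₀.ShortExact :=
    { exact := ShortComplex.exact_kernel r
      mono_f := (inferInstance : Mono (kernel.ι r))
      epi_g := (inferInstance : Epi r) }
  haveI : (kernel r).IsStrictlyGE a := by
    rw [CochainComplex.isStrictlyGE_iff]
    intro i hi
    exact IsZero.of_mono ((kernel.ι r).f i) ((K' ⊞ P J).isZero_of_isStrictlyGE a i hi)
  obtain ⟨N, α, hN, hNI, hαm, hα⟩ := IRes.exists_resolution I hI0 hI (kernel r) a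
  haveI := hN
  haveI : Mono α := HomologicalComplex.mono_of_mono_f α hαm
  have hS' := HorseshoeCx.pushoutSC_shortExact (S := S₀) hS α
  have hinl : QuasiIso (pushout.inl (kernel.ι r) α) :=
    HorseshoeCx.quasiIso_τ₂ (HorseshoeCx.toPushoutSC (S := S₀) α) hS hS'
      (show QuasiIso (HorseshoeCx.toPushoutSC (S := S₀) α).τ₁ from hα)
      (inferInstanceAs (QuasiIso (𝟙 J)))
  have hinlK : QuasiIso (biprod.inl : K' ⟶ K' ⊞ P J) := quasiIso_biprod_inl K' (P J) (acyclic_P J)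
  haveI : (HorseshoeCx.pushoutSC (S := S₀) α).X₁.IsStrictlyGE a := hN
  haveI : (HorseshoeCx.pushoutSC (S := S₀) α).X₃.IsStrictlyGE a :=
    (inferInstance : J.IsStrictlyGE a)
  have hJ'a : (pushout (kernel.ι r) α).IsStrictlyGE a := HorseshoeCx.isStrictlyGE_X₂ hS' a
  let p : pushout (kernel.ι r) α ⟶ J := HorseshoeCx.pushoutDesc (S := S₀) α
  have hp : pushout.inl (kernel.ι r) α ≫ p = r := HorseshoeCx.inl_pushoutDesc (S := S₀) α
  -- termwise data
  have hterm : ∀ n, (∃ s : J.X n ⟶ (pushout (kernel.ι r) α).X n, s ≫ p.f n = 𝟙 _) ∧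
      I (kernel (p.f n)) ∧ I ((pushout (kernel.ι r) α).X n) := by
    intro n
    have hn := hS'.map_of_exact (HomologicalComplex.eval A (ComplexShape.up ℤ) n)
    haveI := hn.mono_f
    have hsec : (sM n ≫ (pushout.inl (kernel.ι r) α).f n) ≫ p.f n = 𝟙 _ := by
      rw [Category.assoc, ← HomologicalComplex.comp_f, hp, hsM]
    refine ⟨⟨_, hsec⟩, ?_, ?_⟩
    · let e : N.X n ≅ kernel (p.f n) :=
        IsLimit.conePointUniqueUpToIso hn.exact.fIsKernel (limit.isLimit _)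
      exact I.prop_of_iso e (hNI n)
    · let σ := ShortComplex.Splitting.ofExactOfSection _ hn.exact
        (sM n ≫ (pushout.inl (kernel.ι r) α).f n) hsec hn.mono_f
      exact I.prop_of_iso σ.isoBinaryBiproduct.symm (hIprod _ _ (hNI n) (hJ n))
  refine ⟨pushout (kernel.ι r) α, biprod.inl ≫ pushout.inl (kernel.ι r) α, p, hJ'a,
    fun n => (hterm n).2.2, ?_, ?_, ?_, fun n => ⟨(hterm n).1, (hterm n).2.1⟩⟩
  · haveI := hinl
    haveI := hinlK
    infer_instance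
  · intro n
    rw [HomologicalComplex.comp_f]
    haveI : Mono ((biprod.inl : K' ⟶ K' ⊞ P J).f n) := inferInstance
    exact mono_comp _ _
  · rw [Category.assoc, hp, biprod.inl_desc]

/-! ### The canonical maps between truncations -/

section tmap

variable (K : CochainComplex A ℤ) (m m' : ℤ) (h : m ≤ m')

/-- The canonical map `τ_{≥ m} K ⟶ τ_{≥ m'} K` for `m ≤ m'`. -/
noncomputable def tmap : K.truncGE m ⟶ K.truncGE m' :=
  haveI : (K.truncGE m').IsStrictlyGE m := (K.truncGE m').isStrictlyGE_of_ge m m' h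
  CochainComplex.truncGEMap (K.πTruncGE m') m ≫ inv ((K.truncGE m').πTruncGE m)

lemma π_tmap : K.πTruncGE m ≫ tmap K m m' h = K.πTruncGE m' := by
  haveI : (K.truncGE m').IsStrictlyGE m := (K.truncGE m').isStrictlyGE_of_ge m m' h
  unfold tmap
  rw [← Category.assoc, CochainComplex.πTruncGE_naturality, Category.assoc, IsIso.hom_inv_id,
    Category.comp_id]

end tmap

/-! ### The tower -/

section tower

variable (I : ObjectProperty A) (K : CochainComplex A ℤ)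

/-- The data of the `n`-th stage of the tower. -/
structure St (n : ℕ) where
  /-- the resolution -/
  Q : CochainComplex A ℤ
  /-- the quasi-isomorphism -/
  π : K.truncGE (-(n : ℤ)) ⟶ Q
  hGE : Q.IsStrictlyGE (-(n : ℤ))
  hI : ∀ i, I (Q.X i)
  hq : QuasiIso π
  hm : ∀ i, Mono (π.f i)

variable [I.IsClosedUnderIsomorphisms]
  (hI0 : ∃ Z : A, IsZero Z ∧ I Z) (hIprod : ∀ X Y : A, I X → I Y → I (X ⊞ Y))
  (hI : ∀ X : A, ∃ (Y : A) (ι : X ⟶ Y), I Y ∧ Mono ι)

include hI0 hI in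
lemma exists_init : Nonempty (St I K 0) := by
  obtain ⟨L, α, h1, h2, h3, h4⟩ := IRes.exists_resolution I hI0 hI (K.truncGE (-((0 : ℕ) : ℤ)))
    (-((0 : ℕ) : ℤ))
  exact ⟨⟨L, α, h1, h2, h4, h3⟩⟩

include hI0 hIprod hI in
lemma exists_next (n : ℕ) (s : St I K n) :
    ∃ (s' : St I K (n + 1)) (p : s'.Q ⟶ s.Q),
      tmap K (-((n + 1 : ℕ) : ℤ)) (-(n : ℤ)) (by push_cast; omega) ≫ s.π = s'.π ≫ p ∧
      ∀ i, (∃ σ : s.Q.X i ⟶ s'.Q.X i, σ ≫ p.f i = 𝟙 _) ∧ I (kernel (p.f i)) := by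
  haveI := s.hGE
  haveI : s.Q.IsStrictlyGE (-((n + 1 : ℕ) : ℤ)) :=
    s.Q.isStrictlyGE_of_ge (-((n + 1 : ℕ) : ℤ)) (-(n : ℤ)) (by push_cast; omega)
  obtain ⟨J', π', p, h1, h2, h3, h4, h5, h6⟩ := exists_step I hI0 hIprod hI
    (tmap K (-((n + 1 : ℕ) : ℤ)) (-(n : ℤ)) (by push_cast; omega) ≫ s.π) (-((n + 1 : ℕ) : ℤ)) s.hI
  exact ⟨⟨J', π', h1, h2, h3, h4⟩, p, h5.symm, h6⟩

/-- The tower, by recursion. -/
noncomputable def seq : ∀ n : ℕ, St I K n
  | 0 => (exists_init I K hI0 hI).some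
  | n + 1 => (exists_next I K hI0 hIprod hI n (seq n)).choose

/-- The transition maps of the tower. -/
noncomputable def pmap (n : ℕ) :
    (seq I K hI0 hIprod hI (n + 1)).Q ⟶ (seq I K hI0 hIprod hI n).Q :=
  (exists_next I K hI0 hIprod hI n (seq I K hI0 hIprod hI n)).choose_spec.choose

lemma pmap_spec (n : ℕ) :
    (tmap K (-((n + 1 : ℕ) : ℤ)) (-(n : ℤ)) (by push_cast; omega) ≫
      (seq I K hI0 hIprod hI n).π =
        (seq I K hI0 hIprod hI (n + 1)).π ≫ pmap I K hI0 hIprod hI n) ∧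
      ∀ i, (∃ σ : (seq I K hI0 hIprod hI n).Q.X i ⟶ (seq I K hI0 hIprod hI (n + 1)).Q.X i,
        σ ≫ (pmap I K hI0 hIprod hI n).f i = 𝟙 _) ∧ I (kernel ((pmap I K hI0 hIprod hI n).f i)) :=
  (exists_next I K hI0 hIprod hI n (seq I K hI0 hIprod hI n)).choose_spec.choose_spec

include hI0 hIprod hI in
theorem main :
    ∃ (Q : ℕ → CochainComplex A ℤ) (p : ∀ n, Q (n + 1) ⟶ Q n)
      (π : ∀ n : ℕ, K.truncGE (-(n : ℤ)) ⟶ Q n),
      (∀ n, QuasiIso (π n) ∧ ∀ i, Mono ((π n).f i)) ∧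
      (∀ n, ∃ a : ℤ, (Q n).IsStrictlyGE a) ∧ (∀ n i, I ((Q n).X i)) ∧
      (∀ n i, (∃ s : (Q n).X i ⟶ (Q (n + 1)).X i, s ≫ (p n).f i = 𝟙 _) ∧
        I (kernel ((p n).f i))) ∧
      (∀ n : ℕ, K.πTruncGE (-((n + 1 : ℕ) : ℤ)) ≫ π (n + 1) ≫ p n =
        K.πTruncGE (-(n : ℤ)) ≫ π n) := by
  refine ⟨fun n => (seq I K hI0 hIprod hI n).Q, pmap I K hI0 hIprod hI,
    fun n => (seq I K hI0 hIprod hI n).π, fun n => ⟨(seq I K hI0 hIprod hI n).hq,
      (seq I K hI0 hIprod hI n).hm⟩, fun n => ⟨_, (seq I K hI0 hIprod hI n).hGE⟩,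
    fun n => (seq I K hI0 hIprod hI n).hI, fun n => (pmap_spec I K hI0 hIprod hI n).2, ?_⟩
  intro n
  rw [← (pmap_spec I K hI0 hIprod hI n).1, ← Category.assoc, π_tmap]

end tower

end Groth.Agent.Lib.ITower
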