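import Groth.Agent.Lib.KzC_helper1

/-!
# From Koszul homology to graded Betti numbers (helper1)

Dimension shifting along a minimal graded free resolution: if the Koszul homology of `M` vanishes
at exterior degree `p` and total degree `j`, no basis vector of the `p`-th term has degree `j`.
-/

set_option autoImplicit false

namespace Groth.Agent.Lib.KzH1

open DirectSum Groth.Agent.Lib.GrSyz3H1 Groth.Agent.Lib.GrSyzH1 Groth.Agent.Lib.GrSyz5H1

universe u

section free

variable (k : Type u) [Field k] (n : ℕ)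

/-- a graded free module with basis degrees `dg` -/
@[reducible] noncomputable def GF {r : ℕ} (dg : Fin r → ℤ) : GM k n where
  N := Fin r → MvPolynomial (Fin n) k
  lev := fun d => piece (GrSyz.stdGr k (Fin n)) dg d
  x v := (LinearMap.mulLeft k (MvPolynomial.X v)).compLeft (Fin r)
  x_mem := by
    intro v d a ha
    rw [mem_piece (GrSyz.stdGr k (Fin n))] at ha ⊢
    intro b
    have h := SetLike.GradedMul.mul_mem (A := GrSyz.stdGr k (Fin n)) (X_mem k n v) (ha b)
    have e : 1 + (d - dg b) = d + 1 - dg b := by ring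
    rw [e] at h
    exact h
  comm := by
    intro v w a
    funext b
    show MvPolynomial.X v * (MvPolynomial.X w * a b) = MvPolynomial.X w * (MvPolynomial.X v * a b)
    ring

theorem GF_x_apply {r : ℕ} (dg : Fin r → ℤ) (v : Fin n) (a : Fin r → MvPolynomial (Fin n) k) :
    (GF k n dg).x v a = (MvPolynomial.X v : MvPolynomial (Fin n) k) • a := by
  funext b
  rfl

theorem HV_GF {r : ℕ} (dg : Fin r → ℤ) (t : ℕ) (j : ℤ) : HV (GF k n dg) (t + 1) j := by
  intro z hz hlev hcyc
  have hproj : ∀ (m : Finset (Fin n) → (Fin r → MvPolynomial (Fin n) k)) (b : Fin r),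
      (fun J => kd (GF k n dg).x m J b) = kd (GS k n).x (fun I => m I b) := fun m b =>
    kd_comp (GF k n dg).x (GS k n).x (LinearMap.proj b) (LinearMap.proj b) (fun v a => rfl) m
  have hb : ∀ b : Fin r, ∃ y : Finset (Fin n) → MvPolynomial (Fin n) k, Supp (t + 1 + 1) y ∧
      (∀ I, y I ∈ GrSyz.stdGr k (Fin n) (j - dg b - ((t + 1 : ℕ) : ℤ) - 1)) ∧
      kd (GS k n).x y = fun I => z I b := by
    intro b
    apply HV_GS (k := k) (n := n) t (j - dg b) (fun I => z I b)
    · intro I hI
      show z I b = 0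
      rw [hz I hI]
      rfl
    · intro I
      have h := (mem_piece (GrSyz.stdGr k (Fin n))).mp (hlev I) b
      have e : j - ((t + 1 : ℕ) : ℤ) - dg b = j - dg b - ((t + 1 : ℕ) : ℤ) := by ring
      rw [e] at h
      exact h
    · rw [← hproj z b, hcyc]
      rfl
  choose y hy1 hy2 hy3 using hb
  refine ⟨fun I b => y b I, ?_, ?_, ?_⟩
  · intro I hI
    funext b
    exact hy1 b I hI
  · intro I
    rw [mem_piece (GrSyz.stdGr k (Fin n))]
    intro b
    have h := hy2 b I
    have e : j - dg b - ((t + 1 : ℕ) : ℤ) - 1 = j - ((t + 1 : ℕ) : ℤ) - 1 - dg b := by ring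
    rw [e] at h
    exact h
  · funext J
    funext b
    have h2 := congrFun (hproj (fun I b => y b I) b) J
    exact h2.trans (congrFun (hy3 b) J)

end free

section shift

variable {k : Type u} [CommRing k] {n : ℕ}

/-- dimension shifting for Koszul homology along a short exact sequence `0 → A → B → C → 0` -/
theorem shift {B C : GM k n} (levA : ℤ → Submodule k B.N) (π : B.N →ₗ[k] C.N)
    (hπx : ∀ v a, π (B.x v a) = C.x v (π a))
    (h1 : ∀ d b, b ∈ B.lev d → π b ∈ C.lev d)
    (h2 : ∀ d c, c ∈ C.lev d → ∃ b ∈ B.lev d, π b = c)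
    (h3 : ∀ d b, b ∈ B.lev d → π b = 0 → b ∈ levA d)
    (h4 : ∀ d b, b ∈ levA d → π b = 0)
    (q : ℕ) (j : ℤ) (hC : HV C (q + 1) j)
    (hB : ∀ a : Finset (Fin n) → B.N, Supp q a → (∀ I, a I ∈ levA (j - q)) → kd B.x a = 0 →
      ∃ b : Finset (Fin n) → B.N, Supp (q + 1) b ∧ (∀ I, b I ∈ B.lev (j - q - 1)) ∧
        kd B.x b = a) :
    HV' levA B.x q j := by
  intro a haS halev hacyc
  obtain ⟨b, hbS, hblev, hbkd⟩ := hB a haS halev hacyc
  have hcS : Supp (q + 1) (fun I => π (b I)) := fun I hI => by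
    show π (b I) = 0
    rw [hbS I hI, map_zero]
  have e1 : j - (q : ℤ) - 1 = j - ((q + 1 : ℕ) : ℤ) := by
    push_cast
    ring
  have hclev : ∀ I, π (b I) ∈ C.lev (j - ((q + 1 : ℕ) : ℤ)) := fun I => by
    rw [← e1]
    exact h1 _ _ (hblev I)
  have hccyc : kd C.x (fun I => π (b I)) = 0 := by
    rw [← kd_comp B.x C.x π π hπx b, hbkd]
    funext J
    exact h4 _ _ (halev J)
  obtain ⟨c', hc'S, hc'lev, hc'kd⟩ := hC _ hcS hclev hccyc
  have hl : ∀ I, ∃ b' ∈ B.lev (j - ((q + 1 : ℕ) : ℤ) - 1), π b' = c' I :=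
    fun I => h2 _ _ (hc'lev I)
  choose b₀ hb₀1 hb₀2 using hl
  let b' : Finset (Fin n) → B.N := fun I => if I.card = q + 1 + 1 then b₀ I else 0
  have hb'S : Supp (q + 1 + 1) b' := fun I hI => if_neg hI
  have hb'lev : ∀ I, b' I ∈ B.lev (j - ((q + 1 : ℕ) : ℤ) - 1) := by
    intro I
    show (if I.card = q + 1 + 1 then b₀ I else 0) ∈ _
    split_ifs
    · exact hb₀1 I
    · exact Submodule.zero_mem _
  have hb'π : (fun I => π (b' I)) = c' := by
    funext I
    show π (if I.card = q + 1 + 1 then b₀ I else 0) = c' I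
    split_ifs with h
    · exact hb₀2 I
    · rw [map_zero, hc'S I h]
  refine ⟨b - kd B.x b', ?_, ?_, ?_⟩
  · intro I hI
    show b I - kd B.x b' I = 0
    rw [hbS I hI, kd_supp B.x hb'S I hI, sub_zero]
  · intro I
    apply h3
    · refine Submodule.sub_mem _ (hblev I) ?_
      have h := kd_mem B.x (L' := B.lev (j - ((q + 1 : ℕ) : ℤ) - 1))
        (L := B.lev (j - ((q + 1 : ℕ) : ℤ) - 1 + 1)) (fun v a ha => B.x_mem v _ a ha) hb'lev I
      have e2 : j - ((q + 1 : ℕ) : ℤ) - 1 + 1 = j - (q : ℤ) - 1 := by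
        push_cast
        ring
      rw [e2] at h
      exact h
    · show π (b I - kd B.x b' I) = 0
      rw [map_sub]
      have h5 := congrFun (kd_comp B.x C.x π π hπx b') I
      rw [hb'π, hc'kd] at h5
      rw [h5, sub_self]
  · rw [map_sub, hbkd, kd_kd B.x B.x B.comm b', sub_zero]

end shift

section res

variable (k : Type u) [Field k] (r : ℕ)
    (R : Type u) [AddCommGroup R] [Module k R] [Module (MvPolynomial (Fin (r + 1)) k) R]
    [IsScalarTower k (MvPolynomial (Fin (r + 1)) k) R]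
    (ℛ : ℤ → Submodule k R) [DirectSum.Decomposition ℛ]
    [SetLike.GradedSMul (GrSyz.stdGr k (Fin (r + 1))) ℛ]

/-- a graded module over the polynomial ring as linear algebra data -/
@[reducible] noncomputable def GR : GM k (r + 1) where
  N := R
  lev := ℛ
  x v := (LinearMap.lsmul (MvPolynomial (Fin (r + 1)) k) R (MvPolynomial.X v)).restrictScalars k
  x_mem := by
    intro v d a ha
    have h := smul_mem_gr' (GrSyz.stdGr k (Fin (r + 1))) ℛ (X_mem k (r + 1) v) ha
    rwa [add_comm] at h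
  comm := by
    intro v w a
    exact smul_comm _ _ _

theorem GR_x_apply (v : Fin (r + 1)) (a : R) :
    (GR k r R ℛ).x v a = (MvPolynomial.X v : MvPolynomial (Fin (r + 1)) k) • a := rfl

variable (F : GrSyz.FreeRes (GrSyz.stdGr k (Fin (r + 1))) ℛ)

/-- the graded pieces of the cycle modules of the resolution -/
noncomputable def Zlev (i : ℕ) (d : ℤ) :
    Submodule k (Fin (F.rk i) → MvPolynomial (Fin (r + 1)) k) :=
  piece (GrSyz.stdGr k (Fin (r + 1))) (F.deg i) d ⊓ (Zk F i).restrictScalars k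

/-- the cycle modules as graded modules -/
@[reducible] noncomputable def GZ (i : ℕ) : GM k (r + 1) where
  N := Fin (F.rk i) → MvPolynomial (Fin (r + 1)) k
  lev := Zlev k r R ℛ F i
  x := (GF k (r + 1) (F.deg i)).x
  x_mem := by
    intro v d a ha
    refine ⟨(GF k (r + 1) (F.deg i)).x_mem v d a ha.1, ?_⟩
    show (GF k (r + 1) (F.deg i)).x v a ∈ Zk F i
    rw [GF_x_apply]
    exact (Zk F i).smul_mem _ ha.2
  comm := (GF k (r + 1) (F.deg i)).comm

/-- homogeneous lifts of cycles -/
theorem exists_lift_Zk (i : ℕ) (d : ℤ) (c : Fin (F.rk i) → MvPolynomial (Fin (r + 1)) k)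
    (hc : c ∈ Zlev k r R ℛ F i d) :
    ∃ b ∈ piece (GrSyz.stdGr k (Fin (r + 1))) (F.deg (i + 1)) d, (F.d i).mulVec b = c := by
  have h := hc.2
  change c ∈ Zk F i at h
  rw [Zk_eq] at h
  obtain ⟨w, hw⟩ := h
  rw [Matrix.mulVecLin_apply] at hw
  refine ⟨comp (GrSyz.stdGr k (Fin (r + 1))) (F.deg (i + 1)) d w, comp_mem _ _ d w, ?_⟩
  rw [mulVec_comp (GrSyz.stdGr k (Fin (r + 1))) (F.d i) (F.d_mem i), hw,
    comp_of_mem (GrSyz.stdGr k (Fin (r + 1))) hc.1]

theorem X_mem_irr (v : Fin (r + 1)) :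
    (MvPolynomial.X v : MvPolynomial (Fin (r + 1)) k) ∈ irr k (Fin (r + 1)) :=
  mem_irr_of_pos (X_mem k (r + 1) v) one_pos

variable (hF : F.IsMinimal (GrSyz.irrel (GrSyz.stdGr k (Fin (r + 1)))).toIdeal)

include hF in
theorem hB_zero (i : ℕ) (j : ℤ) (a : Finset (Fin (r + 1)) → (Fin (F.rk i) → MvPolynomial (Fin (r + 1)) k))
    (haS : Supp 0 a) (halev : ∀ I, a I ∈ Zlev k r R ℛ F i (j - ((0 : ℕ) : ℤ))) :
    ∃ b : Finset (Fin (r + 1)) → (Fin (F.rk i) → MvPolynomial (Fin (r + 1)) k), Supp (0 + 1) b ∧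
      (∀ I, b I ∈ (GF k (r + 1) (F.deg i)).lev (j - ((0 : ℕ) : ℤ) - 1)) ∧
      kd (GF k (r + 1) (F.deg i)).x b = a := by
  have h0 := halev ∅
  have hrange : a ∅ ∈ LinearMap.range (Matrix.mulVecLin (F.d i)) := by
    have h := h0.2
    change a ∅ ∈ Zk F i at h
    rwa [Zk_eq] at h
  have hirr : ∀ b, a ∅ b ∈ irr k (Fin (r + 1)) := range_le_irr k r R ℛ F hF i (a ∅) hrange
  have hc : ∀ b : Fin (F.rk i), ∃ c : Fin (r + 1) → MvPolynomial (Fin (r + 1)) k,
      (∀ v, c v ∈ GrSyz.stdGr k (Fin (r + 1)) (j - ((0 : ℕ) : ℤ) - F.deg i b - 1)) ∧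
      a ∅ b = ∑ v, MvPolynomial.X v * c v := fun b =>
    homGen_irr ((mem_piece (GrSyz.stdGr k (Fin (r + 1)))).mp h0.1 b) (hirr b)
  choose c hc1 hc2 using hc
  refine ⟨sc (fun v b => c b v), sc_supp _, fun I => sc_mem (fun v => ?_) I, ?_⟩
  · rw [mem_piece (GrSyz.stdGr k (Fin (r + 1)))]
    intro b
    have h := hc1 b v
    have e : j - ((0 : ℕ) : ℤ) - F.deg i b - 1 = j - ((0 : ℕ) : ℤ) - 1 - F.deg i b := by ring
    rw [e] at h
    exact h
  · rw [kd_sc, eq_pc_of_supp_zero haS]
    funext J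
    unfold pc
    split_ifs
    · funext b
      rw [Finset.sum_apply, hc2 b]
      rfl
    · rfl

theorem single_mem_piece (i : ℕ) (b : Fin (F.rk i)) :
    (Pi.single b 1 : Fin (F.rk i) → MvPolynomial (Fin (r + 1)) k) ∈
      piece (GrSyz.stdGr k (Fin (r + 1))) (F.deg i) (F.deg i b) := by
  rw [mem_piece (GrSyz.stdGr k (Fin (r + 1)))]
  intro b'
  by_cases hb : b' = b
  · subst hb
    rw [Pi.single_eq_same, sub_self]
    exact SetLike.GradedOne.one_mem (A := GrSyz.stdGr k (Fin (r + 1)))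
  · rw [Pi.single_eq_of_ne hb]
    exact Submodule.zero_mem _

/-- the common end of the argument: a basis vector is not congruent to zero modulo the
irrelevant ideal -/
theorem single_sub_not_irr (i : ℕ) (b : Fin (F.rk i))
    (g : Fin (r + 1) → (Fin (F.rk i) → MvPolynomial (Fin (r + 1)) k))
    (h : ((Pi.single b 1 : Fin (F.rk i) → MvPolynomial (Fin (r + 1)) k) -
      ∑ v, (MvPolynomial.X v : MvPolynomial (Fin (r + 1)) k) • g v) b ∈ irr k (Fin (r + 1))) :
    False := by
  rw [Pi.sub_apply, Pi.single_eq_same, Finset.sum_apply] at h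
  have h2 : ∑ v, ((MvPolynomial.X v : MvPolynomial (Fin (r + 1)) k) • g v) b ∈
      irr k (Fin (r + 1)) :=
    Ideal.sum_mem _ fun v _ => Ideal.mul_mem_right _ _ (X_mem_irr k r v)
  have h3 := Ideal.add_mem _ h h2
  rw [sub_add_cancel] at h3
  exact one_not_mem_irr h3

include hF in
/-- dimension shifting down the resolution -/
theorem HV_GZ (p : ℕ) (j : ℤ) (h : HV (GR k r R ℛ) p j) :
    ∀ i t : ℕ, i + 1 + t = p → HV (GZ k r R ℛ F i) t j := by
  intro i
  induction i with
  | zero =>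
    intro t ht
    have hC : HV (GR k r R ℛ) (t + 1) j := by
      have e : t + 1 = p := by omega
      rw [e]
      exact h
    refine shift (B := GF k (r + 1) (F.deg 0)) (C := GR k r R ℛ) (Zlev k r R ℛ F 0)
      ((Fintype.linearCombination (MvPolynomial (Fin (r + 1)) k) F.aug).restrictScalars k)
      ?_ ?_ ?_ ?_ ?_ t j hC ?_
    · intro v a
      show Fintype.linearCombination _ F.aug ((GF k (r + 1) (F.deg 0)).x v a) =
        (MvPolynomial.X v : MvPolynomial (Fin (r + 1)) k) • Fintype.linearCombination _ F.aug a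
      rw [GF_x_apply, map_smul]
    · intro d b hb
      show Fintype.linearCombination _ F.aug b ∈ ℛ d
      rw [Fintype.linearCombination_apply]
      exact linComb_mem (GrSyz.stdGr k (Fin (r + 1))) ℛ F.aug F.aug_mem hb
    · intro d c hc
      obtain ⟨w, hw1, hw2⟩ := exists_lift_aug (𝒜 := GrSyz.stdGr k (Fin (r + 1))) F hc
      exact ⟨w, hw1, hw2⟩
    · intro d b hb hb0
      exact ⟨hb, hb0⟩
    · intro d b hb
      exact hb.2
    · cases t with
      | zero =>
        intro a haS halev _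
        exact hB_zero k r R ℛ F hF 0 j a haS halev
      | succ t' =>
        intro a haS halev hacyc
        exact HV_GF k (r + 1) (F.deg 0) t' j a haS (fun I => (halev I).1) hacyc
  | succ i ih =>
    intro t ht
    have hC : HV (GZ k r R ℛ F i) (t + 1) j := ih (t + 1) (by omega)
    refine shift (B := GF k (r + 1) (F.deg (i + 1))) (C := GZ k r R ℛ F i)
      (Zlev k r R ℛ F (i + 1)) ((Matrix.mulVecLin (F.d i)).restrictScalars k)
      ?_ ?_ ?_ ?_ ?_ t j hC ?_
    · intro v a
      show (F.d i).mulVec ((GF k (r + 1) (F.deg (i + 1))).x v a) =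
        (GF k (r + 1) (F.deg i)).x v ((F.d i).mulVec a)
      rw [GF_x_apply, GF_x_apply, Matrix.mulVec_smul]
    · intro d b hb
      refine ⟨mulVec_mem_piece (GrSyz.stdGr k (Fin (r + 1))) (F.d i) (F.d_mem i) hb, ?_⟩
      show (F.d i).mulVec b ∈ Zk F i
      rw [Zk_eq]
      exact ⟨b, rfl⟩
    · intro d c hc
      exact exists_lift_Zk k r R ℛ F i d c hc
    · intro d b hb hb0
      exact ⟨hb, hb0⟩
    · intro d b hb
      exact hb.2
    · cases t with
      | zero =>
        intro a haS halev _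
        exact hB_zero k r R ℛ F hF (i + 1) j a haS halev
      | succ t' =>
        intro a haS halev hacyc
        exact HV_GF k (r + 1) (F.deg (i + 1)) t' j a haS (fun I => (halev I).1) hacyc

include hF in
/-- vanishing of Koszul homology kills the graded Betti number -/
theorem betti_eq_zero_of_HV (p : ℕ) (j : ℤ) (h : HV (GR k r R ℛ) p j) : F.betti p j = 0 := by
  unfold GrSyz.FreeRes.betti
  rw [Finset.card_eq_zero, Finset.filter_eq_empty_iff]
  intro b _ hbj
  cases p with
  | zero =>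
    have hm : F.aug b ∈ ℛ (j - ((0 : ℕ) : ℤ)) := by
      have h1 := F.aug_mem b
      rw [hbj] at h1
      simpa using h1
    obtain ⟨y, -, hylev, hykd⟩ := h (pc (F.aug b)) (pc_supp _) (fun I => pc_mem hm I)
      (kd_of_supp_zero _ (pc_supp _))
    have h0 := congrFun hykd ∅
    rw [kd_apply, Finset.compl_empty, pc_empty] at h0
    have hl : ∀ v : Fin (r + 1), ∃ w ∈ piece (GrSyz.stdGr k (Fin (r + 1))) (F.deg 0)
        (j - ((0 : ℕ) : ℤ) - 1), Fintype.linearCombination _ F.aug w = y (insert v ∅) := fun v =>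
      exists_lift_aug (𝒜 := GrSyz.stdGr k (Fin (r + 1))) F (hylev (insert v ∅))
    choose g _ hg2 using hl
    have hker : ((Pi.single b 1 : Fin (F.rk 0) → MvPolynomial (Fin (r + 1)) k) -
        ∑ v, (MvPolynomial.X v : MvPolynomial (Fin (r + 1)) k) • g v) ∈
        LinearMap.ker (Fintype.linearCombination (MvPolynomial (Fin (r + 1)) k) F.aug) := by
      rw [LinearMap.mem_ker, map_sub, map_sum]
      have h1 : Fintype.linearCombination (MvPolynomial (Fin (r + 1)) k) F.aug (Pi.single b 1) =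
          F.aug b := by
        rw [Fintype.linearCombination_apply_single, one_smul]
      rw [h1, ← h0, sub_eq_zero]
      refine Finset.sum_congr rfl fun v _ => ?_
      rw [eps_empty, one_smul, map_smul, hg2 v]
      rfl
    rw [F.exact_zero] at hker
    exact single_sub_not_irr k r R ℛ F 0 b g (range_le_irr k r R ℛ F hF 0 _ hker b)
  | succ p' =>
    have hZ := HV_GZ k r R ℛ F hF (p' + 1) j h p' 0 (by omega)
    have hm : (F.d p').mulVec (Pi.single b 1) ∈ Zlev k r R ℛ F p' (j - ((0 : ℕ) : ℤ)) := by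
      refine ⟨?_, ?_⟩
      · have h1 := mulVec_mem_piece (GrSyz.stdGr k (Fin (r + 1))) (F.d p') (F.d_mem p')
          (single_mem_piece k r R ℛ F (p' + 1) b)
        rw [hbj] at h1
        simpa using h1
      · show (F.d p').mulVec (Pi.single b 1) ∈ Zk F p'
        rw [mulVec_single_one']
        exact col_mem_Zk F p' b
    obtain ⟨y, -, hylev, hykd⟩ := hZ (pc ((F.d p').mulVec (Pi.single b 1))) (pc_supp _)
      (fun I => pc_mem hm I) (kd_of_supp_zero _ (pc_supp _))
    have h0 := congrFun hykd ∅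
    rw [kd_apply, Finset.compl_empty, pc_empty] at h0
    have hl : ∀ v : Fin (r + 1), ∃ w ∈ piece (GrSyz.stdGr k (Fin (r + 1))) (F.deg (p' + 1))
        (j - ((0 : ℕ) : ℤ) - 1), (F.d p').mulVec w = y (insert v ∅) := fun v =>
      exists_lift_Zk k r R ℛ F p' _ _ (hylev (insert v ∅))
    choose g _ hg2 using hl
    have hker : ((Pi.single b 1 : Fin (F.rk (p' + 1)) → MvPolynomial (Fin (r + 1)) k) -
        ∑ v, (MvPolynomial.X v : MvPolynomial (Fin (r + 1)) k) • g v) ∈
        LinearMap.ker (Matrix.mulVecLin (F.d p')) := by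
      rw [LinearMap.mem_ker, map_sub, map_sum, Matrix.mulVecLin_apply, ← h0, sub_eq_zero]
      refine Finset.sum_congr rfl fun v _ => ?_
      rw [eps_empty, one_smul, map_smul, Matrix.mulVecLin_apply, hg2 v]
      rfl
    rw [F.exact_succ p'] at hker
    exact single_sub_not_irr k r R ℛ F (p' + 1) b g
      (range_le_irr k r R ℛ F hF (p' + 1) _ hker b)

end res

end Groth.Agent.Lib.KzH1
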