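import Mathlib
import Groth.Prelude.Def_GrMod2

/-!
# Functoriality of `M ↦ M(n)~` on `Proj` in graded linear maps (helper1)
-/

set_option autoImplicit false

namespace Groth.Agent.Lib.TlMapH1

universe u

open CategoryTheory CategoryTheory.Limits AlgebraicGeometry TopologicalSpace Opposite

section Pointwise

variable {R A : Type u} [CommRing R] [CommRing A] [Algebra R A] (𝒜 : ℕ → Submodule R A)
  [GradedAlgebra 𝒜]
variable {M M' M'' : Type u} [AddCommGroup M] [Module R M] [Module A M]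
  [AddCommGroup M'] [Module R M'] [Module A M'] [AddCommGroup M''] [Module R M''] [Module A M'']
variable (ℳ : ℕ → Submodule R M) (ℳ' : ℕ → Submodule R M')

/-- compatibility of a linear map with shifted gradings -/
def Compat (n n' : ℤ) (φ : M →ₗ[A] M') : Prop :=
  ∀ (i j : ℕ) (m : M), m ∈ ℳ i → (i : ℤ) = j + n →
    φ m = 0 ∨ ∃ i' : ℕ, (i' : ℤ) = j + n' ∧ φ m ∈ ℳ' i'

theorem compat_of_deg {φ : M →ₗ[A] M'} (hφ : ∀ i m, m ∈ ℳ i → φ m ∈ ℳ' i) (n : ℤ) :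
    Compat ℳ ℳ' n n φ := fun i _ m hm hij => Or.inr ⟨i, hij, hφ i m hm⟩

theorem mk_mem_tildeAt (n : ℤ) (P : ProjectiveSpectrum 𝒜) (i j : ℕ) (w : M) (hw : w ∈ ℳ i) (t : A)
    (ht : t ∈ 𝒜 j) (hij : (i : ℤ) = j + n) (hg : t ∉ P.asHomogeneousIdeal) :
    (LocalizedModule.mk w ⟨t, hg⟩ : GrTilde.LocMod 𝒜 (M := M) P) ∈ GrTilde.tildeAt 𝒜 ℳ n P := by
  unfold GrTilde.tildeAt
  exact Submodule.subset_span ⟨i, j, ⟨w, hw⟩, ⟨t, ht⟩, hg, hij, rfl⟩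

/-- the localisation of a linear map at a point of `Proj` -/
noncomputable abbrev locMap (x : ProjectiveSpectrum 𝒜) (φ : M →ₗ[A] M') :
    GrTilde.LocMod 𝒜 (M := M) x →ₗ[Twist.Loc 𝒜 x] GrTilde.LocMod 𝒜 (M := M') x :=
  LocalizedModule.map x.asHomogeneousIdeal.toIdeal.primeCompl φ

theorem locMap_mk (x : ProjectiveSpectrum 𝒜) (φ : M →ₗ[A] M') (m : M)
    (s : x.asHomogeneousIdeal.toIdeal.primeCompl) :
    locMap 𝒜 x φ (LocalizedModule.mk m s) = LocalizedModule.mk (φ m) s :=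
  LocalizedModule.map_mk _ φ m s

theorem locMap_comp (x : ProjectiveSpectrum 𝒜) (φ : M →ₗ[A] M') (ψ : M' →ₗ[A] M'')
    (q : GrTilde.LocMod 𝒜 (M := M) x) :
    locMap 𝒜 x (ψ ∘ₗ φ) q = locMap 𝒜 x ψ (locMap 𝒜 x φ q) := by
  induction q using LocalizedModule.induction_on with
  | h m s =>
    rw [locMap_mk, locMap_mk, locMap_mk]
    rfl

theorem locMap_id (x : ProjectiveSpectrum 𝒜) (q : GrTilde.LocMod 𝒜 (M := M) x) :
    locMap 𝒜 x (LinearMap.id : M →ₗ[A] M) q = q := by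
  induction q using LocalizedModule.induction_on with
  | h m s =>
    rw [locMap_mk]
    rfl

theorem locMap_zero (x : ProjectiveSpectrum 𝒜) (q : GrTilde.LocMod 𝒜 (M := M) x) :
    locMap 𝒜 x (0 : M →ₗ[A] M') q = 0 := by
  induction q using LocalizedModule.induction_on with
  | h m s =>
    rw [locMap_mk, LinearMap.zero_apply, LocalizedModule.zero_mk]

theorem locMap_sum {ι : Type*} (S : Finset ι) (x : ProjectiveSpectrum 𝒜) (φ : ι → (M →ₗ[A] M'))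
    (q : GrTilde.LocMod 𝒜 (M := M) x) :
    locMap 𝒜 x (∑ b ∈ S, φ b) q = ∑ b ∈ S, locMap 𝒜 x (φ b) q := by
  show LocalizedModule.map x.asHomogeneousIdeal.toIdeal.primeCompl (∑ b ∈ S, φ b) q = _
  rw [map_sum, LinearMap.sum_apply]

theorem locMap_mem (n n' : ℤ) (φ : M →ₗ[A] M') (hφ : Compat ℳ ℳ' n n' φ)
    (x : ProjectiveSpectrum 𝒜) (q : GrTilde.LocMod 𝒜 (M := M) x)
    (hq : q ∈ GrTilde.tildeAt 𝒜 ℳ n x) :
    locMap 𝒜 x φ q ∈ GrTilde.tildeAt 𝒜 ℳ' n' x := by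
  unfold GrTilde.tildeAt at hq
  induction hq using Submodule.span_induction with
  | mem q hq =>
    obtain ⟨i, j, m, s, hs, hij, rfl⟩ := hq
    rw [locMap_mk]
    rcases hφ i j m.1 m.2 hij with h0 | ⟨i', hi', hm'⟩
    · rw [h0, LocalizedModule.zero_mk]
      exact zero_mem _
    · exact mk_mem_tildeAt 𝒜 ℳ' n' x i' j _ hm' s.1 s.2 hi' hs
  | zero =>
    rw [map_zero]
    exact zero_mem _
  | add a b _ _ ha hb =>
    rw [map_add]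
    exact add_mem ha hb
  | smul c a _ ha =>
    have h := Submodule.smul_mem _ c ha
    rw [GrTilde.a0_smul_def] at h ⊢
    rw [map_smul]
    exact h

end Pointwise

section Sections

variable {R A : Type u} [CommRing R] [CommRing A] [Algebra R A] (𝒜 : ℕ → Submodule R A)
  [GradedAlgebra 𝒜]
variable {M M' M'' : Type u} [AddCommGroup M] [Module R M] [Module A M]
  [AddCommGroup M'] [Module R M'] [Module A M'] [AddCommGroup M''] [Module R M''] [Module A M'']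
variable (ℳ : ℕ → Submodule R M) (ℳ' : ℕ → Submodule R M') (ℳ'' : ℕ → Submodule R M'')
  [SetLike.GradedSMul 𝒜 ℳ] [SetLike.GradedSMul 𝒜 ℳ'] [SetLike.GradedSMul 𝒜 ℳ'']
variable (n n' n'' : ℤ) (φ : M →ₗ[A] M') (hφ : Compat ℳ ℳ' n n' φ)

/-- the induced map on sections -/
noncomputable def mapSec (U : (Opens (ProjectiveSpectrum.top 𝒜))ᵒᵖ) (s : GrTilde.sect 𝒜 ℳ n U) :
    GrTilde.sect 𝒜 ℳ' n' U :=
  ⟨fun x => ⟨locMap 𝒜 x.1 φ (s.1 x).1, locMap_mem 𝒜 ℳ ℳ' n n' φ hφ x.1 _ (s.1 x).2⟩, fun x => by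
    obtain ⟨V, hxV, ι, i, j, m, t, nin, cond, w⟩ := s.2 x
    have hw : ∀ y : V, locMap 𝒜 (ι y).1 φ (s.1 (ι y)).1 =
        LocalizedModule.mk (φ m.1) ⟨t.1, nin y⟩ := by
      intro y
      have hwy : (s.1 (ι y)).1 = LocalizedModule.mk m.1 ⟨t.1, nin y⟩ := w y
      rw [hwy]
      exact locMap_mk 𝒜 _ φ m.1 ⟨t.1, nin y⟩
    rcases cond with cond | cond
    · rcases hφ i j m.1 m.2 cond with h0 | ⟨i', hi', hm'⟩
      · exact ⟨V, hxV, ι, 0, j, 0, t, nin, Or.inr rfl, fun y => (hw y).trans (by rw [h0]; rfl)⟩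
      · exact ⟨V, hxV, ι, i', j, ⟨φ m.1, hm'⟩, t, nin, Or.inl hi', fun y => hw y⟩
    · exact ⟨V, hxV, ι, 0, j, 0, t, nin, Or.inr rfl,
        fun y => (hw y).trans (by rw [cond, map_zero]; rfl)⟩⟩

theorem mapSec_add (U : (Opens (ProjectiveSpectrum.top 𝒜))ᵒᵖ) (s t : GrTilde.sect 𝒜 ℳ n U) :
    mapSec 𝒜 ℳ ℳ' n n' φ hφ U (s + t) =
      mapSec 𝒜 ℳ ℳ' n n' φ hφ U s + mapSec 𝒜 ℳ ℳ' n n' φ hφ U t := by
  apply Subtype.ext
  funext x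
  apply Subtype.ext
  show locMap 𝒜 x.1 φ ((s.1 x).1 + (t.1 x).1) =
    locMap 𝒜 x.1 φ (s.1 x).1 + locMap 𝒜 x.1 φ (t.1 x).1
  exact map_add _ _ _

theorem mapSec_smul (U : (Opens (ProjectiveSpectrum.top 𝒜))ᵒᵖ) (c : Twist.O (𝒜 := 𝒜) U)
    (s : GrTilde.sect 𝒜 ℳ n U) :
    mapSec 𝒜 ℳ ℳ' n n' φ hφ U (c • s) = c • mapSec 𝒜 ℳ ℳ' n n' φ hφ U s := by
  apply Subtype.ext
  funext x
  apply Subtype.ext
  show locMap 𝒜 x.1 φ (((c.1 x • s.1 x : GrTilde.tildeAt 𝒜 ℳ n x.1)) :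
      GrTilde.LocMod 𝒜 (M := M) x.1) =
    (((c.1 x • (mapSec 𝒜 ℳ ℳ' n n' φ hφ U s).1 x : GrTilde.tildeAt 𝒜 ℳ' n' x.1)) :
      GrTilde.LocMod 𝒜 (M := M') x.1)
  have e1 := GrTilde.coe_smul_val (𝒜 := 𝒜) (ℳ := ℳ) n x.1 (c.1 x) (s.1 x)
  have e2 := GrTilde.coe_smul_val (𝒜 := 𝒜) (ℳ := ℳ') n' x.1 (c.1 x)
    ((mapSec 𝒜 ℳ ℳ' n n' φ hφ U s).1 x)
  exact (congrArg (locMap 𝒜 x.1 φ) e1).trans
    ((map_smul (locMap 𝒜 x.1 φ) (c.1 x).val (s.1 x).1).trans e2.symm)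

/-- the induced map of presheaves of abelian groups -/
noncomputable def mapPre : GrTilde.tildePre 𝒜 ℳ n ⟶ GrTilde.tildePre 𝒜 ℳ' n' where
  app U := AddCommGrpCat.ofHom (AddMonoidHom.mk' (mapSec 𝒜 ℳ ℳ' n n' φ hφ U)
    (mapSec_add 𝒜 ℳ ℳ' n n' φ hφ U))
  naturality := by intros; rfl

/-- the induced map of presheaves of modules -/
noncomputable def mapP : GrTilde.tildePMod 𝒜 ℳ n ⟶ GrTilde.tildePMod 𝒜 ℳ' n' :=
  PresheafOfModules.homMk (mapPre 𝒜 ℳ ℳ' n n' φ hφ)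
    (fun U c s => mapSec_smul 𝒜 ℳ ℳ' n n' φ hφ U c s)

/-- the morphism of `O`-modules `M(n)~ ⟶ M'(n')~` induced by a graded linear map -/
noncomputable def tildeMap : GrTilde.tilde 𝒜 ℳ n ⟶ GrTilde.tilde 𝒜 ℳ' n' :=
  ⟨mapP 𝒜 ℳ ℳ' n n' φ hφ⟩

variable {n} in
/-- the value of a section at a point -/
def valT {V : (Proj 𝒜).Opens} (s : Γ(GrTilde.tilde 𝒜 ℳ n, V)) (x : V) :
    GrTilde.LocMod 𝒜 (M := M) x.1 :=
  ((show GrTilde.sect 𝒜 ℳ n (op V) from s).1 x).1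

variable {n} in
theorem ext_valT {V : (Proj 𝒜).Opens} (s t : Γ(GrTilde.tilde 𝒜 ℳ n, V))
    (h : ∀ x : V, valT 𝒜 ℳ s x = valT 𝒜 ℳ t x) : s = t := by
  show (show GrTilde.sect 𝒜 ℳ n (op V) from s) = (show GrTilde.sect 𝒜 ℳ n (op V) from t)
  apply Subtype.ext
  funext y
  apply Subtype.ext
  exact h y

variable {n} in
theorem valT_add {V : (Proj 𝒜).Opens} (s t : Γ(GrTilde.tilde 𝒜 ℳ n, V)) (x : V) :
    valT 𝒜 ℳ (s + t) x = valT 𝒜 ℳ s x + valT 𝒜 ℳ t x := rfl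

variable {n} in
theorem valT_zero {V : (Proj 𝒜).Opens} (x : V) :
    valT 𝒜 ℳ (0 : Γ(GrTilde.tilde 𝒜 ℳ n, V)) x = 0 := rfl

variable {n} in
theorem valT_sum {ι : Type*} (S : Finset ι) {V : (Proj 𝒜).Opens}
    (s : ι → Γ(GrTilde.tilde 𝒜 ℳ n, V)) (x : V) :
    valT 𝒜 ℳ (∑ b ∈ S, s b) x = ∑ b ∈ S, valT 𝒜 ℳ (s b) x := by
  classical
  induction S using Finset.induction_on with
  | empty => simp only [Finset.sum_empty]; rfl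
  | insert a S ha ih => rw [Finset.sum_insert ha, Finset.sum_insert ha, valT_add, ih]

variable {n} in
theorem valT_res {V W : (Proj 𝒜).Opens} (h : W ≤ V) (s : Γ(GrTilde.tilde 𝒜 ℳ n, V)) (x : W) :
    valT 𝒜 ℳ (((GrTilde.tilde 𝒜 ℳ n).presheaf.map (homOfLE h).op).hom s) x =
      valT 𝒜 ℳ s ⟨x.1, h x.2⟩ := rfl

theorem valT_tildeMap {V : (Proj 𝒜).Opens} (s : Γ(GrTilde.tilde 𝒜 ℳ n, V)) (x : V) :
    valT 𝒜 ℳ' (((tildeMap 𝒜 ℳ ℳ' n n' φ hφ).app V).hom s) x =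
      locMap 𝒜 x.1 φ (valT 𝒜 ℳ s x) := rfl

theorem app_sum {X : Scheme.{u}} {F G : X.Modules} {ι : Type*} (S : Finset ι) (f : ι → (F ⟶ G))
    (V : X.Opens) (s : Γ(F, V)) :
    ((∑ b ∈ S, f b).app V).hom s = ∑ b ∈ S, ((f b).app V).hom s := by
  classical
  induction S using Finset.induction_on with
  | empty => simp only [Finset.sum_empty]; rfl
  | insert a S ha ih =>
    rw [Finset.sum_insert ha, Finset.sum_insert ha, ← ih]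
    rfl

variable {n} in
/-- local representation of a section as a single homogeneous fraction -/
theorem exists_local_frac {V : (Proj 𝒜).Opens} (s : Γ(GrTilde.tilde 𝒜 ℳ n, V)) (x : V) :
    ∃ (W : (Proj 𝒜).Opens) (hW : W ≤ V) (_ : x.1 ∈ W) (i j : ℕ) (m : M) (t : A) (_ : m ∈ ℳ i)
      (_ : t ∈ 𝒜 j) (nin : ∀ y : W, t ∉ y.1.asHomogeneousIdeal), ((i : ℤ) = j + n ∨ m = 0) ∧
      ∀ y : W, valT 𝒜 ℳ s ⟨y.1, hW y.2⟩ = LocalizedModule.mk m ⟨t, nin y⟩ := by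
  obtain ⟨W, hxW, ι, i, j, m, t, nin, cond, w⟩ := (show GrTilde.sect 𝒜 ℳ n (op V) from s).2 x
  exact ⟨W, ι.le, hxW, i, j, m.1, t.1, m.2, t.2, nin, cond, fun y => w y⟩

/-- the section `w / t` -/
noncomputable def mkSec {i j : ℕ} (w : M) (hw : w ∈ ℳ i) (t : A) (ht : t ∈ 𝒜 j)
    (hij : (i : ℤ) = j + n) (U : (Proj 𝒜).Opens) (hU : ∀ x : U, t ∉ x.1.asHomogeneousIdeal) :
    Γ(GrTilde.tilde 𝒜 ℳ n, U) :=
  (show GrTilde.sect 𝒜 ℳ n (op U) from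
    ⟨fun x => ⟨LocalizedModule.mk w ⟨t, hU x⟩,
      mk_mem_tildeAt 𝒜 ℳ n x.1 i j w hw t ht hij (hU x)⟩,
    fun x => ⟨U, x.2, 𝟙 _, i, j, ⟨w, hw⟩, ⟨t, ht⟩, hU, Or.inl hij, fun _ => rfl⟩⟩)

theorem valT_mkSec {i j : ℕ} (w : M) (hw : w ∈ ℳ i) (t : A) (ht : t ∈ 𝒜 j)
    (hij : (i : ℤ) = j + n) (U : (Proj 𝒜).Opens) (hU : ∀ x : U, t ∉ x.1.asHomogeneousIdeal)
    (x : U) :
    valT 𝒜 ℳ (mkSec 𝒜 ℳ n w hw t ht hij U hU) x = LocalizedModule.mk w ⟨t, hU x⟩ := rfl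

theorem tildeMap_comp (ψ : M' →ₗ[A] M'') (hψ : Compat ℳ' ℳ'' n' n'' ψ)
    (hψφ : Compat ℳ ℳ'' n n'' (ψ ∘ₗ φ)) :
    tildeMap 𝒜 ℳ ℳ' n n' φ hφ ≫ tildeMap 𝒜 ℳ' ℳ'' n' n'' ψ hψ =
      tildeMap 𝒜 ℳ ℳ'' n n'' (ψ ∘ₗ φ) hψφ := by
  apply Scheme.Modules.hom_ext
  intro V
  ext s
  apply ext_valT
  intro x
  show locMap 𝒜 x.1 ψ (locMap 𝒜 x.1 φ (valT 𝒜 ℳ s x)) = locMap 𝒜 x.1 (ψ ∘ₗ φ) (valT 𝒜 ℳ s x)
  exact (locMap_comp 𝒜 x.1 φ ψ _).symm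

theorem tildeMap_id (h : Compat ℳ ℳ n n (LinearMap.id : M →ₗ[A] M)) :
    tildeMap 𝒜 ℳ ℳ n n LinearMap.id h = 𝟙 _ := by
  apply Scheme.Modules.hom_ext
  intro V
  ext s
  apply ext_valT
  intro x
  show locMap 𝒜 x.1 LinearMap.id (valT 𝒜 ℳ s x) = valT 𝒜 ℳ s x
  exact locMap_id 𝒜 x.1 _

theorem tildeMap_zero (h : Compat ℳ ℳ' n n' (0 : M →ₗ[A] M')) :
    tildeMap 𝒜 ℳ ℳ' n n' 0 h = 0 := by
  apply Scheme.Modules.hom_ext
  intro V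
  ext s
  apply ext_valT
  intro x
  show locMap 𝒜 x.1 0 (valT 𝒜 ℳ s x) = 0
  exact locMap_zero 𝒜 x.1 _

theorem tildeMap_congr {φ' : M →ₗ[A] M'} (e : φ = φ') (hφ' : Compat ℳ ℳ' n n' φ') :
    tildeMap 𝒜 ℳ ℳ' n n' φ hφ = tildeMap 𝒜 ℳ ℳ' n n' φ' hφ' := by
  subst e
  rfl

end Sections

end Groth.Agent.Lib.TlMapH1
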