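import Mathlib
import Groth.Prelude.Def_GrMod2
import Groth.Agent.Lib.TlMap1_helper1

/-!
# Exactness of `M ↦ M(n)~` on `Proj` (helper1)
-/

set_option autoImplicit false

namespace Groth.Agent.Lib.TlMapH1

universe u

open CategoryTheory CategoryTheory.Limits AlgebraicGeometry TopologicalSpace Opposite

section General

variable {X : Scheme.{u}}

/-- two sections which agree locally are equal -/
theorem eq_of_cover' (F : X.Modules) {U : X.Opens} (s t : Γ(F, U))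
    (h : ∀ x ∈ U, ∃ (W : X.Opens) (hW : W ≤ U), x ∈ W ∧
      (F.presheaf.map (homOfLE hW).op).hom s = (F.presheaf.map (homOfLE hW).op).hom t) :
    s = t := by
  choose W hW hxW heq using h
  refine TopCat.Sheaf.eq_of_locally_eq' ⟨F.presheaf, F.isSheaf⟩ (fun x : U => W x.1 x.2) U
    (fun x => homOfLE (hW x.1 x.2)) ?_ s t ?_
  · intro x hx
    exact Opens.mem_iSup.mpr ⟨⟨x, hx⟩, hxW x hx⟩
  · intro x
    exact heq x.1 x.2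

theorem app_res {M N : X.Modules} (φ : M ⟶ N) {U V : X.Opens} (h : V ≤ U) (m : Γ(M, U)) :
    (φ.app V).hom ((M.presheaf.map (homOfLE h).op).hom m) =
      (N.presheaf.map (homOfLE h).op).hom ((φ.app U).hom m) := by
  have := congrArg (fun ψ => ψ.hom m) (φ.mapPresheaf.naturality (homOfLE h).op)
  exact this

/-- a locally surjective morphism of modules is an epimorphism -/
theorem epi_of_locally_surjective' {F G : X.Modules} (p : G ⟶ F)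
    (h : ∀ (U : X.Opens) (m : Γ(F, U)) (x : X), x ∈ U →
      ∃ (W : X.Opens) (hW : W ≤ U), x ∈ W ∧ ∃ z : Γ(G, W),
        (p.app W).hom z = (F.presheaf.map (homOfLE hW).op).hom m) : Epi p := by
  constructor
  intro H a b hab
  apply Scheme.Modules.hom_ext
  intro W
  ext x
  apply eq_of_cover' H
  intro y hy
  obtain ⟨U, hUW, hyU, z, hz⟩ := h W x y hy
  refine ⟨U, hUW, hyU, ?_⟩
  have ha := app_res a hUW x
  have hb := app_res b hUW x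
  refine ha.symm.trans (Eq.trans ?_ hb)
  rw [← hz]
  exact congrArg (fun φ => (φ.app U).hom z) hab

theorem app_injective_of_mono' {F G : X.Modules} (φ : F ⟶ G) [Mono φ] (V : X.Opens) :
    Function.Injective (φ.app V).hom := by
  haveI : Mono ((Scheme.Modules.toPresheaf X).map φ) := inferInstance
  haveI : Mono (((Scheme.Modules.toPresheaf X).map φ).app (op V)) :=
    (NatTrans.mono_iff_mono_app ((Scheme.Modules.toPresheaf X).map φ)).mp inferInstance (op V)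
  exact (AddCommGrpCat.mono_iff_injective
    (((Scheme.Modules.toPresheaf X).map φ).app (op V))).mp inferInstance

/-- the cokernel of the first map of an exact sequence `A → B → C → 0` -/
theorem nonempty_cokernel_iso {C : Type*} [Category C] [Abelian C] {X₁ X₂ X₃ : C} (f : X₁ ⟶ X₂)
    (g : X₂ ⟶ X₃) (w : f ≫ g = 0) (hex : (ShortComplex.mk f g w).Exact) [Epi g] :
    Nonempty (cokernel f ≅ X₃) := by
  haveI : Epi (ShortComplex.mk f g w).g := ‹Epi g›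
  exact ⟨IsColimit.coconePointUniqueUpToIso (cokernelIsCokernel f) hex.gIsCokernel⟩

end General

section Deg

variable {R A : Type u} [CommRing R] [CommRing A] [Algebra R A] (𝒜 : ℕ → Submodule R A)
  [GradedAlgebra 𝒜]
variable {M M' M'' : Type u} [AddCommGroup M] [Module R M] [Module A M]
  [AddCommGroup M'] [Module R M'] [Module A M'] [AddCommGroup M''] [Module R M''] [Module A M'']
variable (ℳ : ℕ → Submodule R M) (ℳ' : ℕ → Submodule R M') (ℳ'' : ℕ → Submodule R M'')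
  [SetLike.GradedSMul 𝒜 ℳ] [SetLike.GradedSMul 𝒜 ℳ'] [SetLike.GradedSMul 𝒜 ℳ'']

/-- degree-preserving linear maps -/
def DegPres (φ : M →ₗ[A] M') : Prop := ∀ i m, m ∈ ℳ i → φ m ∈ ℳ' i

variable {ℳ ℳ' ℳ''} in
theorem DegPres.comp {φ : M →ₗ[A] M'} {ψ : M' →ₗ[A] M''} (hψ : DegPres ℳ' ℳ'' ψ)
    (hφ : DegPres ℳ ℳ' φ) : DegPres ℳ ℳ'' (ψ ∘ₗ φ) := fun i m hm => hψ i _ (hφ i m hm)

theorem degPres_id : DegPres ℳ ℳ (LinearMap.id : M →ₗ[A] M) := fun _ _ hm => hm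

theorem degPres_zero : DegPres ℳ ℳ' (0 : M →ₗ[A] M') := fun _ _ _ => zero_mem _

variable (n : ℤ)

/-- the morphism `M(n)~ ⟶ M'(n)~` induced by a degree-preserving linear map -/
noncomputable def tMap (φ : M →ₗ[A] M') (hφ : DegPres ℳ ℳ' φ) :
    GrTilde.tilde 𝒜 ℳ n ⟶ GrTilde.tilde 𝒜 ℳ' n :=
  tildeMap 𝒜 ℳ ℳ' n n φ (compat_of_deg ℳ ℳ' hφ n)

theorem valT_tMap (φ : M →ₗ[A] M') (hφ : DegPres ℳ ℳ' φ) {V : (Proj 𝒜).Opens}
    (s : Γ(GrTilde.tilde 𝒜 ℳ n, V)) (x : V) :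
    valT 𝒜 ℳ' (((tMap 𝒜 ℳ ℳ' n φ hφ).app V).hom s) x = locMap 𝒜 x.1 φ (valT 𝒜 ℳ s x) := rfl

theorem valT_tMap_frac (φ : M →ₗ[A] M') (hφ : DegPres ℳ ℳ' φ) {V : (Proj 𝒜).Opens}
    (s : Γ(GrTilde.tilde 𝒜 ℳ n, V)) (x : V) (m : M) (t : A) (ht : t ∉ x.1.asHomogeneousIdeal)
    (h : valT 𝒜 ℳ s x = LocalizedModule.mk m ⟨t, ht⟩) :
    valT 𝒜 ℳ' (((tMap 𝒜 ℳ ℳ' n φ hφ).app V).hom s) x = LocalizedModule.mk (φ m) ⟨t, ht⟩ :=
  (valT_tMap 𝒜 ℳ ℳ' n φ hφ s x).trans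
    ((congrArg (locMap 𝒜 x.1 φ) h).trans (locMap_mk 𝒜 x.1 φ m ⟨t, ht⟩))

theorem tMap_comp (φ : M →ₗ[A] M') (hφ : DegPres ℳ ℳ' φ) (ψ : M' →ₗ[A] M'')
    (hψ : DegPres ℳ' ℳ'' ψ) :
    tMap 𝒜 ℳ ℳ' n φ hφ ≫ tMap 𝒜 ℳ' ℳ'' n ψ hψ = tMap 𝒜 ℳ ℳ'' n (ψ ∘ₗ φ) (hψ.comp hφ) :=
  tildeMap_comp 𝒜 ℳ ℳ' ℳ'' n n n φ _ ψ _ _

theorem tMap_id : tMap 𝒜 ℳ ℳ n LinearMap.id (degPres_id ℳ) = 𝟙 _ :=
  tildeMap_id 𝒜 ℳ n _

theorem tMap_zero : tMap 𝒜 ℳ ℳ' n 0 (degPres_zero ℳ ℳ') = 0 :=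
  tildeMap_zero 𝒜 ℳ ℳ' n n _

theorem tMap_congr {φ φ' : M →ₗ[A] M'} (e : φ = φ') (hφ : DegPres ℳ ℳ' φ)
    (hφ' : DegPres ℳ ℳ' φ') : tMap 𝒜 ℳ ℳ' n φ hφ = tMap 𝒜 ℳ ℳ' n φ' hφ' := by
  subst e
  rfl

theorem tMap_comp_eq_zero (φ : M →ₗ[A] M') (hφ : DegPres ℳ ℳ' φ) (ψ : M' →ₗ[A] M'')
    (hψ : DegPres ℳ' ℳ'' ψ) (h : ψ ∘ₗ φ = 0) :
    tMap 𝒜 ℳ ℳ' n φ hφ ≫ tMap 𝒜 ℳ' ℳ'' n ψ hψ = 0 := by
  rw [tMap_comp, tMap_congr 𝒜 ℳ ℳ'' n h _ (degPres_zero ℳ ℳ''), tMap_zero]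

/-- the homogeneous components of an annihilator of a homogeneous element annihilate it -/
def HomAnn : Prop :=
  ∀ (i : ℕ) (z : M), z ∈ ℳ i → ∀ u : A, u • z = 0 →
    ∀ l : ℕ, (DirectSum.decompose 𝒜 u l : A) • z = 0

theorem exists_smul_eq_zero_of_mk_eq_zero (x : ProjectiveSpectrum 𝒜) (w : M)
    (s : x.asHomogeneousIdeal.toIdeal.primeCompl)
    (h : (LocalizedModule.mk w s : GrTilde.LocMod 𝒜 (M := M) x) = 0) :
    ∃ u : A, u ∉ x.asHomogeneousIdeal ∧ u • w = 0 := by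
  rw [← LocalizedModule.zero_mk s, LocalizedModule.mk_eq] at h
  obtain ⟨u, hu⟩ := h
  refine ⟨u.1 * s.1, fun h => (x.isPrime.mem_or_mem h).elim u.2 s.2, ?_⟩
  simp only [smul_zero] at hu
  have h2 : u.1 • (s.1 • w) = 0 := hu
  rw [mul_smul]
  exact h2

theorem exists_proj_notMem (x : ProjectiveSpectrum 𝒜) {u : A}
    (hu : u ∉ x.asHomogeneousIdeal) :
    ∃ l : ℕ, (DirectSum.decompose 𝒜 u l : A) ∉ x.asHomogeneousIdeal := by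
  classical
  by_contra hcon
  apply hu
  have hall : ∀ l, (DirectSum.decompose 𝒜 u l : A) ∈ x.asHomogeneousIdeal.toIdeal := fun l => by
    by_contra h
    exact hcon ⟨l, h⟩
  have hsum := DirectSum.sum_support_decompose 𝒜 u
  have hmem : (∑ i ∈ (DirectSum.decompose 𝒜 u).support, (DirectSum.decompose 𝒜 u i : A)) ∈
      x.asHomogeneousIdeal.toIdeal := Ideal.sum_mem _ (fun l _ => hall l)
  rw [hsum] at hmem
  exact hmem

variable {ℳ ℳ' ℳ''} in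
/-- local exactness -/
theorem exists_local_primitive (f : M →ₗ[A] M') (hf : DegPres ℳ ℳ' f) (g : M' →ₗ[A] M'')
    (hg : DegPres ℳ' ℳ'' g)
    (hex : ∀ (i : ℕ) (m : M'), m ∈ ℳ' i → g m = 0 → ∃ m₁ ∈ ℳ i, f m₁ = m)
    (hann : HomAnn 𝒜 ℳ'') (U : (Proj 𝒜).Opens) (σ : Γ(GrTilde.tilde 𝒜 ℳ' n, U))
    (hσ : ((tMap 𝒜 ℳ' ℳ'' n g hg).app U).hom σ = 0) (x : Proj 𝒜) (hx : x ∈ U) :
    ∃ (W : (Proj 𝒜).Opens) (hW : W ≤ U), x ∈ W ∧ ∃ τ : Γ(GrTilde.tilde 𝒜 ℳ n, W),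
      ((tMap 𝒜 ℳ ℳ' n f hf).app W).hom τ =
        ((GrTilde.tilde 𝒜 ℳ' n).presheaf.map (homOfLE hW).op).hom σ := by
  obtain ⟨W, hW, hxW, i, j, m₂, t, hm₂, ht, nin, cond, hval⟩ :=
    exists_local_frac 𝒜 ℳ' σ ⟨x, hx⟩
  rcases cond with cond | cond
  · -- value of `g σ` at `x`
    have h0 : (LocalizedModule.mk (g m₂) ⟨t, nin ⟨x, hxW⟩⟩ : GrTilde.LocMod 𝒜 (M := M'') x) = 0 := by
      have h1 := valT_tMap_frac 𝒜 ℳ' ℳ'' n g hg σ ⟨x, hx⟩ m₂ t (nin ⟨x, hxW⟩) (hval ⟨x, hxW⟩)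
      rw [hσ] at h1
      exact h1.symm.trans rfl
    obtain ⟨u, hu, hu0⟩ := exists_smul_eq_zero_of_mk_eq_zero 𝒜 x (g m₂) _ h0
    obtain ⟨l, hl⟩ := exists_proj_notMem 𝒜 x hu
    have hhm : (DirectSum.decompose 𝒜 u l : A) ∈ 𝒜 l := (DirectSum.decompose 𝒜 u l).2
    have hkill : (DirectSum.decompose 𝒜 u l : A) • g m₂ = 0 := hann i (g m₂) (hg i m₂ hm₂) u hu0 l
    have hker : g ((DirectSum.decompose 𝒜 u l : A) • m₂) = 0 := by rw [map_smul, hkill]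
    have hdeg : (DirectSum.decompose 𝒜 u l : A) • m₂ ∈ ℳ' (l + i) := by
      have := SetLike.GradedSMul.smul_mem (A := 𝒜) (B := ℳ') hhm hm₂
      rwa [vadd_eq_add] at this
    obtain ⟨m₁, hm₁, hfm₁⟩ := hex (l + i) _ hdeg hker
    have hW' : W ⊓ Proj.basicOpen 𝒜 (DirectSum.decompose 𝒜 u l : A) ≤ U :=
      inf_le_left.trans hW
    have hnin' : ∀ y : (W ⊓ Proj.basicOpen 𝒜 (DirectSum.decompose 𝒜 u l : A) : (Proj 𝒜).Opens),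
        (DirectSum.decompose 𝒜 u l : A) * t ∉ y.1.asHomogeneousIdeal := fun y h =>
      (y.1.isPrime.mem_or_mem h).elim y.2.2 (nin ⟨y.1, y.2.1⟩)
    have hij : ((l + i : ℕ) : ℤ) = ((l + j : ℕ) : ℤ) + n := by
      push_cast
      omega
    refine ⟨W ⊓ Proj.basicOpen 𝒜 (DirectSum.decompose 𝒜 u l : A), hW', ⟨hxW, hl⟩,
      mkSec 𝒜 ℳ n m₁ hm₁ ((DirectSum.decompose 𝒜 u l : A) * t)
        (SetLike.mul_mem_graded hhm ht) hij _ hnin', ?_⟩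
    apply ext_valT
    intro y
    refine (valT_tMap_frac 𝒜 ℳ ℳ' n f hf _ y m₁ ((DirectSum.decompose 𝒜 u l : A) * t) (hnin' y)
      (valT_mkSec 𝒜 ℳ n m₁ hm₁ _ _ hij _ hnin' y)).trans ?_
    refine (congrArg (fun w => (LocalizedModule.mk w ⟨_, hnin' y⟩ :
      GrTilde.LocMod 𝒜 (M := M') y.1)) hfm₁).trans ?_
    have hcanc : (LocalizedModule.mk ((DirectSum.decompose 𝒜 u l : A) • m₂)
        ⟨(DirectSum.decompose 𝒜 u l : A) * t, hnin' y⟩ : GrTilde.LocMod 𝒜 (M := M') y.1) =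
        LocalizedModule.mk m₂ ⟨t, nin ⟨y.1, y.2.1⟩⟩ :=
      LocalizedModule.mk_cancel_common_left ⟨(DirectSum.decompose 𝒜 u l : A), y.2.2⟩
        ⟨t, nin ⟨y.1, y.2.1⟩⟩ m₂
    exact hcanc.trans (hval ⟨y.1, y.2.1⟩).symm
  · refine ⟨W, hW, hxW, 0, ?_⟩
    apply ext_valT
    intro y
    rw [map_zero, valT_zero, valT_res, hval y, cond, LocalizedModule.zero_mk]

variable {ℳ ℳ' ℳ''} in
/-- exactness of `M ↦ M(n)~` -/
theorem tMap_exact (f : M →ₗ[A] M') (hf : DegPres ℳ ℳ' f) (g : M' →ₗ[A] M'')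
    (hg : DegPres ℳ' ℳ'' g) (hgf : g ∘ₗ f = 0)
    (hex : ∀ (i : ℕ) (m : M'), m ∈ ℳ' i → g m = 0 → ∃ m₁ ∈ ℳ i, f m₁ = m)
    (hann : HomAnn 𝒜 ℳ'') :
    (ShortComplex.mk (tMap 𝒜 ℳ ℳ' n f hf) (tMap 𝒜 ℳ' ℳ'' n g hg)
      (tMap_comp_eq_zero 𝒜 ℳ ℳ' ℳ'' n f hf g hg hgf)).Exact := by
  rw [ShortComplex.exact_iff_epi_kernel_lift]
  apply epi_of_locally_surjective'
  intro U m x hx
  have ht : ((tMap 𝒜 ℳ' ℳ'' n g hg).app U).hom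
      (((kernel.ι (tMap 𝒜 ℳ' ℳ'' n g hg)).app U).hom m) = 0 := by
    have h1 : kernel.ι (tMap 𝒜 ℳ' ℳ'' n g hg) ≫ tMap 𝒜 ℳ' ℳ'' n g hg = 0 := kernel.condition _
    exact congrArg (fun φ => (φ.app U).hom m) h1
  obtain ⟨W, hW, hxW, τ, hτ⟩ := exists_local_primitive 𝒜 n f hf g hg hex hann U _ ht x hx
  refine ⟨W, hW, hxW, τ, ?_⟩
  apply app_injective_of_mono' (kernel.ι (tMap 𝒜 ℳ' ℳ'' n g hg)) W
  rw [app_res]
  refine Eq.trans ?_ hτ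
  have h2 : kernel.lift (tMap 𝒜 ℳ' ℳ'' n g hg) (tMap 𝒜 ℳ ℳ' n f hf)
      (tMap_comp_eq_zero 𝒜 ℳ ℳ' ℳ'' n f hf g hg hgf) ≫ kernel.ι (tMap 𝒜 ℳ' ℳ'' n g hg) =
      tMap 𝒜 ℳ ℳ' n f hf := kernel.lift_ι _ _ _
  exact congrArg (fun φ => (φ.app W).hom τ) h2

variable {ℳ ℳ'} in
/-- surjectivity in every degree gives an epimorphism -/
theorem tMap_epi (g : M →ₗ[A] M') (hg : DegPres ℳ ℳ' g)
    (hsurj : ∀ (i : ℕ) (z : M'), z ∈ ℳ' i → ∃ m ∈ ℳ i, g m = z) :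
    Epi (tMap 𝒜 ℳ ℳ' n g hg) := by
  apply epi_of_locally_surjective'
  intro U σ x hx
  obtain ⟨W, hW, hxW, i, j, z, t, hz, ht, nin, cond, hval⟩ := exists_local_frac 𝒜 ℳ' σ ⟨x, hx⟩
  rcases cond with cond | cond
  · obtain ⟨m, hm, hgm⟩ := hsurj i z hz
    refine ⟨W, hW, hxW, mkSec 𝒜 ℳ n m hm t ht cond W nin, ?_⟩
    apply ext_valT
    intro y
    refine (valT_tMap_frac 𝒜 ℳ ℳ' n g hg _ y m t (nin y)
      (valT_mkSec 𝒜 ℳ n m hm t ht cond W nin y)).trans ?_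
    refine (congrArg (fun w => (LocalizedModule.mk w ⟨_, nin y⟩ :
      GrTilde.LocMod 𝒜 (M := M') y.1)) hgm).trans ?_
    exact (hval y).symm
  · refine ⟨W, hW, hxW, 0, ?_⟩
    apply ext_valT
    intro y
    rw [map_zero, valT_zero, valT_res, hval y, cond, LocalizedModule.zero_mk]

end Deg

end Groth.Agent.Lib.TlMapH1
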