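import Mathlib
import Groth.Prelude
import Groth.Agent.Lib.TlMap2_helper1
import Groth.Agent.Lib.KzD_helper1

/-!
# The complex of sheaves on projective space attached to a graded free resolution (helper1)
-/

set_option autoImplicit false

namespace Groth.Agent.Lib.TlMapH1

universe u

open CategoryTheory CategoryTheory.Limits AlgebraicGeometry TopologicalSpace Opposite
open DirectSum Groth.Agent.Lib.GrSyz3H1 Groth.Agent.Lib.GrSyzH1 Groth.Agent.Lib.GrSyz5H1
  Groth.Agent.Lib.KzH1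

section Gradings

variable (k : Type u) [Field k] (r : ℕ)

theorem weight_int_nat (d : Fin (r + 1) →₀ ℕ) :
    Finsupp.weight (fun _ : Fin (r + 1) => (1 : ℤ)) d =
      ((Finsupp.weight (1 : Fin (r + 1) → ℕ) d : ℕ) : ℤ) := by
  simp [Finsupp.weight_apply, Finsupp.sum]

theorem mem_stdGr_natCast (d : ℕ) (p : MvPolynomial (Fin (r + 1)) k) :
    p ∈ GrSyz.stdGr k (Fin (r + 1)) (d : ℤ) ↔ p ∈ CohB1.polyGrading r k d := by
  rw [GrSyz.mem_stdGr_iff]
  show _ ↔ p.IsHomogeneous d
  unfold MvPolynomial.IsHomogeneous MvPolynomial.IsWeightedHomogeneous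
  constructor
  · intro h m hm
    have h1 := h hm
    rw [weight_int_nat] at h1
    exact_mod_cast h1
  · intro h m hm
    rw [weight_int_nat, h hm]

theorem eq_zero_of_mem_stdGr_neg {d : ℤ} (hd : d < 0) {p : MvPolynomial (Fin (r + 1)) k}
    (hp : p ∈ GrSyz.stdGr k (Fin (r + 1)) d) : p = 0 := by
  by_contra hne
  obtain ⟨m, hm⟩ := MvPolynomial.ne_zero_iff.mp hne
  have h1 : Finsupp.weight (fun _ : Fin (r + 1) => (1 : ℤ)) m = d := hp hm
  rw [weight_int_nat] at h1
  omega

variable {k r}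

/-- truncation of a `ℤ`-grading to non-negative degrees -/
def truncN {N : Type u} [AddCommGroup N] [Module k N] (𝒩 : ℤ → Submodule k N) :
    ℕ → Submodule k N := fun n => 𝒩 (n : ℤ)

instance gsmul_truncN {N : Type u} [AddCommGroup N] [Module k N]
    [Module (MvPolynomial (Fin (r + 1)) k) N] (𝒩 : ℤ → Submodule k N)
    [SetLike.GradedSMul (GrSyz.stdGr k (Fin (r + 1))) 𝒩] :
    SetLike.GradedSMul (CohB1.polyGrading r k) (truncN 𝒩) where
  smul_mem := by
    intro i j a z ha hz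
    have ha' : a ∈ GrSyz.stdGr k (Fin (r + 1)) (i : ℤ) := (mem_stdGr_natCast k r i a).mpr ha
    have hz' : z ∈ 𝒩 (j : ℤ) := hz
    have h := SetLike.GradedSMul.smul_mem (A := GrSyz.stdGr k (Fin (r + 1))) (B := 𝒩) ha' hz'
    rw [vadd_eq_add] at h
    show a • z ∈ 𝒩 ((i +ᵥ j : ℕ) : ℤ)
    rw [vadd_eq_add]
    push_cast
    exact h

/-- homogeneous annihilators for truncations of `ℤ`-graded modules -/
theorem homAnn_truncN {N : Type u} [AddCommGroup N] [Module k N]
    [Module (MvPolynomial (Fin (r + 1)) k) N] (𝒩 : ℤ → Submodule k N)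
    [DirectSum.Decomposition 𝒩] [SetLike.GradedSMul (GrSyz.stdGr k (Fin (r + 1))) 𝒩] :
    HomAnn (CohB1.polyGrading r k) (truncN 𝒩) := by
  classical
  intro i z hz u hu l
  have hsum : u • z = ∑ l' ∈ (decompose (CohB1.polyGrading r k) u).support,
      (decompose (CohB1.polyGrading r k) u l' : MvPolynomial (Fin (r + 1)) k) • z := by
    conv_lhs => rw [← DirectSum.sum_support_decompose (CohB1.polyGrading r k) u]
    rw [Finset.sum_smul]
  have hcomp : ∀ l' : ℕ,
      (decompose (CohB1.polyGrading r k) u l' : MvPolynomial (Fin (r + 1)) k) • z ∈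
        𝒩 ((l' + i : ℕ) : ℤ) := fun l' => by
    have h := SetLike.GradedSMul.smul_mem (A := CohB1.polyGrading r k) (B := truncN 𝒩)
      (decompose (CohB1.polyGrading r k) u l').2 hz
    rwa [vadd_eq_add] at h
  have hne : ∀ l' : ℕ, l' ≠ l → ((l' + i : ℕ) : ℤ) ≠ ((l + i : ℕ) : ℤ) := by
    intro l' h h2
    apply h
    have h3 : l' + i = l + i := by exact_mod_cast h2
    omega
  have h1 : (decompose 𝒩 (u • z) ((l + i : ℕ) : ℤ) : N) =
      (decompose (CohB1.polyGrading r k) u l : MvPolynomial (Fin (r + 1)) k) • z := by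
    rw [hsum, coe_decompose_sum' 𝒩]
    by_cases hl : l ∈ (decompose (CohB1.polyGrading r k) u).support
    · rw [Finset.sum_eq_single l]
      · exact decompose_of_mem_same 𝒩 (hcomp l)
      · intro l' _ hl'
        exact decompose_of_mem_ne 𝒩 (hcomp l') (hne l' hl')
      · intro h
        exact absurd hl h
    · have h0 : (decompose (CohB1.polyGrading r k) u l : MvPolynomial (Fin (r + 1)) k) = 0 := by
        have h2 := DFinsupp.notMem_support_iff.mp hl
        rw [h2]
        rfl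
      rw [h0, zero_smul]
      refine Finset.sum_eq_zero fun l' hl' => ?_
      have hl'' : l' ≠ l := fun h => hl (h ▸ hl')
      exact decompose_of_mem_ne 𝒩 (hcomp l') (hne l' hl'')
  rw [hu, decompose_zero] at h1
  exact h1.symm.trans rfl

instance gsmul_piece {m : ℕ} (dg : Fin m → ℤ) :
    SetLike.GradedSMul (GrSyz.stdGr k (Fin (r + 1)))
      (piece (GrSyz.stdGr k (Fin (r + 1))) dg) where
  smul_mem := by
    intro i j a v ha hv
    rw [vadd_eq_add]
    rw [mem_piece (GrSyz.stdGr k (Fin (r + 1)))] at hv ⊢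
    intro b
    have h := SetLike.GradedMul.mul_mem (A := GrSyz.stdGr k (Fin (r + 1))) ha (hv b)
    have e : i + (j - dg b) = i + j - dg b := by ring
    rw [e] at h
    exact h

/-- homogeneous annihilators for graded free modules -/
theorem homAnn_free {m : ℕ} (dg : Fin m → ℤ) :
    HomAnn (CohB1.polyGrading r k) (truncN (piece (GrSyz.stdGr k (Fin (r + 1))) dg)) := by
  intro i z _ u hu l
  by_cases hu0 : u = 0
  · subst hu0
    rw [decompose_zero, DirectSum.zero_apply, ZeroMemClass.coe_zero, zero_smul]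
  · have hz : z = 0 := by
      funext b
      have h := congrFun hu b
      exact (mul_eq_zero.mp h).resolve_left hu0
    rw [hz, smul_zero]

end Gradings

section Res

variable (k : Type u) [Field k] (r : ℕ)
    (M : Type u) [AddCommGroup M] [Module k M] [Module (MvPolynomial (Fin (r + 1)) k) M]
    [IsScalarTower k (MvPolynomial (Fin (r + 1)) k) M]
    (ℳ : ℤ → Submodule k M) [DirectSum.Decomposition ℳ]
    [SetLike.GradedSMul (GrSyz.stdGr k (Fin (r + 1))) ℳ]
    (F : GrSyz.FreeRes (GrSyz.stdGr k (Fin (r + 1))) ℳ)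

theorem degPres_d (s : ℕ) :
    DegPres (truncN (piece (GrSyz.stdGr k (Fin (r + 1))) (F.deg (s + 1))))
      (truncN (piece (GrSyz.stdGr k (Fin (r + 1))) (F.deg s))) (Matrix.mulVecLin (F.d s)) :=
  fun _ _ hm => mulVec_mem_piece (GrSyz.stdGr k (Fin (r + 1))) (F.d s) (F.d_mem s) hm

theorem degPres_aug :
    DegPres (truncN (piece (GrSyz.stdGr k (Fin (r + 1))) (F.deg 0))) (truncN ℳ)
      (Fintype.linearCombination (MvPolynomial (Fin (r + 1)) k) F.aug) := by
  intro i m hm
  rw [Fintype.linearCombination_apply]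
  exact linComb_mem (GrSyz.stdGr k (Fin (r + 1))) ℳ F.aug F.aug_mem hm

theorem d_comp_d (s : ℕ) :
    Matrix.mulVecLin (F.d s) ∘ₗ Matrix.mulVecLin (F.d (s + 1)) = 0 := by
  apply LinearMap.ext
  intro v
  have h : Matrix.mulVecLin (F.d (s + 1)) v ∈ LinearMap.ker (Matrix.mulVecLin (F.d s)) := by
    rw [F.exact_succ s]
    exact LinearMap.mem_range_self _ v
  exact h

theorem aug_comp_d :
    Fintype.linearCombination (MvPolynomial (Fin (r + 1)) k) F.aug ∘ₗ
      Matrix.mulVecLin (F.d 0) = 0 := by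
  apply LinearMap.ext
  intro v
  have h : Matrix.mulVecLin (F.d 0) v ∈
      LinearMap.ker (Fintype.linearCombination (MvPolynomial (Fin (r + 1)) k) F.aug) := by
    rw [F.exact_zero]
    exact LinearMap.mem_range_self _ v
  exact h

/-- the sheaf associated with the `s`-th term of the resolution -/
noncomputable def EX (s : ℕ) : (CohB1.ProjSpace r k).Modules :=
  GrTilde.tilde (CohB1.polyGrading r k)
    (truncN (piece (GrSyz.stdGr k (Fin (r + 1))) (F.deg s))) 0

/-- the sheaf associated with the module -/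
noncomputable def MT : (CohB1.ProjSpace r k).Modules :=
  GrTilde.tilde (CohB1.polyGrading r k) (truncN ℳ) 0

/-- the differential -/
noncomputable def dE (s : ℕ) : EX k r M ℳ F (s + 1) ⟶ EX k r M ℳ F s :=
  tMap (CohB1.polyGrading r k) _ _ 0 (Matrix.mulVecLin (F.d s)) (degPres_d k r M ℳ F s)

/-- the augmentation -/
noncomputable def augE : EX k r M ℳ F 0 ⟶ MT k r M ℳ :=
  tMap (CohB1.polyGrading r k) _ _ 0
    (Fintype.linearCombination (MvPolynomial (Fin (r + 1)) k) F.aug) (degPres_aug k r M ℳ F)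

theorem dE_comp (s : ℕ) : dE k r M ℳ F (s + 1) ≫ dE k r M ℳ F s = 0 :=
  tMap_comp_eq_zero (CohB1.polyGrading r k) _ _ _ 0 _ _ _ _ (d_comp_d k r M ℳ F s)

theorem dE_aug : dE k r M ℳ F 0 ≫ augE k r M ℳ F = 0 :=
  tMap_comp_eq_zero (CohB1.polyGrading r k) _ _ _ 0 _ _ _ _ (aug_comp_d k r M ℳ F)

theorem exact_dE (s : ℕ) :
    (ShortComplex.mk (dE k r M ℳ F (s + 1)) (dE k r M ℳ F s) (dE_comp k r M ℳ F s)).Exact := by
  refine tMap_exact (CohB1.polyGrading r k) 0 (Matrix.mulVecLin (F.d (s + 1)))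
    (degPres_d k r M ℳ F (s + 1)) (Matrix.mulVecLin (F.d s)) (degPres_d k r M ℳ F s)
    (d_comp_d k r M ℳ F s) ?_ (homAnn_free (F.deg s))
  intro i m hm hker
  have hc : m ∈ Zlev k r M ℳ F (s + 1) (i : ℤ) := by
    refine ⟨hm, ?_⟩
    show m ∈ LinearMap.ker (Matrix.mulVecLin (F.d s))
    exact hker
  obtain ⟨b, hb, hbm⟩ := exists_lift_Zk k r M ℳ F (s + 1) (i : ℤ) m hc
  exact ⟨b, hb, hbm⟩

theorem exact_aug :
    (ShortComplex.mk (dE k r M ℳ F 0) (augE k r M ℳ F) (dE_aug k r M ℳ F)).Exact := by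
  refine tMap_exact (CohB1.polyGrading r k) 0 (Matrix.mulVecLin (F.d 0))
    (degPres_d k r M ℳ F 0) (Fintype.linearCombination (MvPolynomial (Fin (r + 1)) k) F.aug)
    (degPres_aug k r M ℳ F) (aug_comp_d k r M ℳ F) ?_ (homAnn_truncN ℳ)
  intro i m hm hker
  have hc : m ∈ Zlev k r M ℳ F 0 (i : ℤ) := by
    refine ⟨hm, ?_⟩
    show m ∈ LinearMap.ker (Fintype.linearCombination (MvPolynomial (Fin (r + 1)) k) F.aug)
    exact hker
  obtain ⟨b, hb, hbm⟩ := exists_lift_Zk k r M ℳ F 0 (i : ℤ) m hc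
  exact ⟨b, hb, hbm⟩

instance epi_augE : Epi (augE k r M ℳ F) := by
  refine tMap_epi (CohB1.polyGrading r k) 0
    (Fintype.linearCombination (MvPolynomial (Fin (r + 1)) k) F.aug) (degPres_aug k r M ℳ F) ?_
  intro i z hz
  obtain ⟨w, hw1, hw2⟩ := exists_lift_aug (𝒜 := GrSyz.stdGr k (Fin (r + 1))) F
    (show z ∈ ℳ (i : ℤ) from hz)
  exact ⟨w, hw1, hw2⟩

/-- the complex of sheaves attached to the resolution -/
noncomputable def Ecx : ChainComplex (CohB1.ProjSpace r k).Modules ℕ :=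
  ChainComplex.of (fun s => EX k r M ℳ F s) (fun s => dE k r M ℳ F s)
    (fun s => dE_comp k r M ℳ F s)

theorem Ecx_d (s : ℕ) : (Ecx k r M ℳ F).d (s + 1) s = dE k r M ℳ F s :=
  ChainComplex.of_d _ _ _

theorem Ecx_exactAt (s : ℕ) : (Ecx k r M ℳ F).ExactAt (s + 1) := by
  rw [(Ecx k r M ℳ F).exactAt_iff' (s + 2) (s + 1) s (by simp) (by simp)]
  have e : ShortComplex.mk (dE k r M ℳ F (s + 1)) (dE k r M ℳ F s) (dE_comp k r M ℳ F s) ≅
      (Ecx k r M ℳ F).sc' (s + 2) (s + 1) s := by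
    refine ShortComplex.isoMk (Iso.refl _) (Iso.refl _) (Iso.refl _) ?_ ?_
    · exact (Category.id_comp _).trans ((Ecx_d k r M ℳ F (s + 1)).trans (Category.comp_id _).symm)
    · exact (Category.id_comp _).trans ((Ecx_d k r M ℳ F s).trans (Category.comp_id _).symm)
  exact ShortComplex.exact_of_iso e (exact_dE k r M ℳ F s)

theorem isZero_homology (s : ℕ) : IsZero ((Ecx k r M ℳ F).homology (s + 1)) :=
  (HomologicalComplex.exactAt_iff_isZero_homology _ _).mp (Ecx_exactAt k r M ℳ F s)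

theorem nonempty_cokernel_iso_MT :
    Nonempty (cokernel ((Ecx k r M ℳ F).d 1 0) ≅ MT k r M ℳ) := by
  obtain ⟨e⟩ := nonempty_cokernel_iso (dE k r M ℳ F 0) (augE k r M ℳ F) (dE_aug k r M ℳ F)
    (exact_aug k r M ℳ F)
  exact ⟨cokernelIsoOfEq (Ecx_d k r M ℳ F 0) ≪≫ e⟩

end Res

end Groth.Agent.Lib.TlMapH1
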