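import Mathlib
import Groth.Prelude
import Groth.Agent.Lib.TlMap3_helper1
import Groth.Agent.Lib.ProjTw_helper5

/-!
# Sheaves of graded free modules on projective space are sums of twists (helper1)
-/

set_option autoImplicit false

namespace Groth.Agent.Lib.TlMapH1

universe u

open CategoryTheory CategoryTheory.Limits AlgebraicGeometry TopologicalSpace Opposite
open DirectSum Groth.Agent.Lib.GrSyz3H1 Groth.Agent.Lib.GrSyzH1 Groth.Agent.Lib.GrSyz5H1
  Groth.Agent.Lib.KzH1

theorem sum_single_proj (P : Type*) [CommRing P] (m : ℕ) :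
    ∑ b : Fin m, (LinearMap.single P (fun _ : Fin m => P) b) ∘ₗ (LinearMap.proj b) =
      (LinearMap.id : (Fin m → P) →ₗ[P] (Fin m → P)) := by
  apply LinearMap.ext
  intro v
  rw [LinearMap.sum_apply]
  show ∑ b : Fin m, (Pi.single b (v b) : Fin m → P) = v
  funext c
  rw [Finset.sum_apply]
  simp [Pi.single_apply]

section SumGen

variable {R A : Type u} [CommRing R] [CommRing A] [Algebra R A] (𝒜 : ℕ → Submodule R A)
  [GradedAlgebra 𝒜]
variable {M M' : Type u} [AddCommGroup M] [Module R M] [Module A M]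
  [AddCommGroup M'] [Module R M'] [Module A M']
variable (ℳ : ℕ → Submodule R M) (ℳ' : ℕ → Submodule R M')
  [SetLike.GradedSMul 𝒜 ℳ] [SetLike.GradedSMul 𝒜 ℳ']
variable (n : ℤ)

theorem tMap_sum {ι : Type*} (S : Finset ι) (φ : ι → (M →ₗ[A] M'))
    (hφ : ∀ b, DegPres ℳ ℳ' (φ b)) (h : DegPres ℳ ℳ' (∑ b ∈ S, φ b)) :
    ∑ b ∈ S, tMap 𝒜 ℳ ℳ' n (φ b) (hφ b) = tMap 𝒜 ℳ ℳ' n (∑ b ∈ S, φ b) h := by
  apply Scheme.Modules.hom_ext
  intro V
  ext s
  show ((∑ b ∈ S, tMap 𝒜 ℳ ℳ' n (φ b) (hφ b)).app V).hom s =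
    ((tMap 𝒜 ℳ ℳ' n (∑ b ∈ S, φ b) h).app V).hom s
  apply ext_valT 𝒜 ℳ'
  intro x
  refine (congrArg (fun σ => valT 𝒜 ℳ' σ x)
    (app_sum S (fun b => tMap 𝒜 ℳ ℳ' n (φ b) (hφ b)) V s)).trans ?_
  refine (valT_sum 𝒜 ℳ' S (fun b => ((tMap 𝒜 ℳ ℳ' n (φ b) (hφ b)).app V).hom s) x).trans ?_
  refine (Finset.sum_congr rfl (fun b _ => valT_tMap 𝒜 ℳ ℳ' n (φ b) (hφ b) s x)).trans ?_
  refine (locMap_sum 𝒜 S x.1 φ (valT 𝒜 ℳ s x)).symm.trans ?_
  exact (valT_tMap 𝒜 ℳ ℳ' n (∑ b ∈ S, φ b) h s x).symm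

end SumGen

section Shift

variable (k : Type u) [Field k] (r : ℕ)

/-- the grading of `P(-a)` -/
def shiftZ (a : ℤ) : ℤ → Submodule k (MvPolynomial (Fin (r + 1)) k) :=
  fun d => GrSyz.stdGr k (Fin (r + 1)) (d - a)

instance gsmul_shiftZ (a : ℤ) :
    SetLike.GradedSMul (GrSyz.stdGr k (Fin (r + 1))) (shiftZ k r a) where
  smul_mem := by
    intro i j p q hp hq
    have hq' : q ∈ GrSyz.stdGr k (Fin (r + 1)) (j - a) := hq
    have h := SetLike.GradedMul.mul_mem (A := GrSyz.stdGr k (Fin (r + 1))) hp hq'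
    have e : i + (j - a) = i + j - a := by ring
    rw [e] at h
    rw [vadd_eq_add]
    exact h

theorem compat_shift_to (a : ℤ) :
    Compat (truncN (shiftZ k r a)) (CohB1.polyGrading r k) 0 (-a)
      (LinearMap.id : MvPolynomial (Fin (r + 1)) k →ₗ[MvPolynomial (Fin (r + 1)) k]
        MvPolynomial (Fin (r + 1)) k) := by
  intro i j m hm hij
  have hm' : m ∈ GrSyz.stdGr k (Fin (r + 1)) ((i : ℤ) - a) := hm
  by_cases hneg : (i : ℤ) - a < 0
  · left
    exact eq_zero_of_mem_stdGr_neg k r hneg hm'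
  · right
    have h0 : 0 ≤ (i : ℤ) - a := by omega
    refine ⟨((i : ℤ) - a).toNat, ?_, ?_⟩
    · rw [Int.toNat_of_nonneg h0]
      omega
    · show m ∈ CohB1.polyGrading r k ((i : ℤ) - a).toNat
      rw [← mem_stdGr_natCast, Int.toNat_of_nonneg h0]
      exact hm'

theorem compat_shift_from (a : ℤ) :
    Compat (CohB1.polyGrading r k) (truncN (shiftZ k r a)) (-a) 0
      (LinearMap.id : MvPolynomial (Fin (r + 1)) k →ₗ[MvPolynomial (Fin (r + 1)) k]
        MvPolynomial (Fin (r + 1)) k) := by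
  intro i j m hm hij
  right
  refine ⟨j, by simp, ?_⟩
  show m ∈ GrSyz.stdGr k (Fin (r + 1)) ((j : ℤ) - a)
  have e : (j : ℤ) - a = (i : ℤ) := by omega
  rw [e]
  exact (mem_stdGr_natCast k r i m).mpr hm

/-- `P(-a)~ ≅ O(-a)` -/
noncomputable def shiftIso (a : ℤ) :
    GrTilde.tilde (CohB1.polyGrading r k) (truncN (shiftZ k r a)) 0 ≅
      Twist.twist (CohB1.polyGrading r k) (-a) :=
  ({ hom := tildeMap (CohB1.polyGrading r k) (truncN (shiftZ k r a)) (CohB1.polyGrading r k) 0 (-a)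
        LinearMap.id (compat_shift_to k r a)
     inv := tildeMap (CohB1.polyGrading r k) (CohB1.polyGrading r k) (truncN (shiftZ k r a)) (-a) 0
        LinearMap.id (compat_shift_from k r a)
     hom_inv_id :=
      (tildeMap_comp (CohB1.polyGrading r k) (truncN (shiftZ k r a)) (CohB1.polyGrading r k)
        (truncN (shiftZ k r a)) 0 (-a) 0 LinearMap.id (compat_shift_to k r a) LinearMap.id
        (compat_shift_from k r a)
        (compat_of_deg (truncN (shiftZ k r a)) (truncN (shiftZ k r a)) (fun _ _ hm => hm) 0)).trans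
      ((tildeMap_congr (CohB1.polyGrading r k) (truncN (shiftZ k r a)) (truncN (shiftZ k r a)) 0 0
        (LinearMap.id ∘ₗ LinearMap.id) _ (LinearMap.id_comp _)
        (compat_of_deg (truncN (shiftZ k r a)) (truncN (shiftZ k r a)) (fun _ _ hm => hm) 0)).trans
      (tildeMap_id (CohB1.polyGrading r k) (truncN (shiftZ k r a)) 0 _))
     inv_hom_id :=
      (tildeMap_comp (CohB1.polyGrading r k) (CohB1.polyGrading r k) (truncN (shiftZ k r a))
        (CohB1.polyGrading r k) (-a) 0 (-a) LinearMap.id (compat_shift_from k r a) LinearMap.id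
        (compat_shift_to k r a)
        (compat_of_deg (CohB1.polyGrading r k) (CohB1.polyGrading r k) (fun _ _ hm => hm) (-a))).trans
      ((tildeMap_congr (CohB1.polyGrading r k) (CohB1.polyGrading r k) (CohB1.polyGrading r k)
        (-a) (-a) (LinearMap.id ∘ₗ LinearMap.id) _ (LinearMap.id_comp _)
        (compat_of_deg (CohB1.polyGrading r k) (CohB1.polyGrading r k) (fun _ _ hm => hm) (-a))).trans
      (tildeMap_id (CohB1.polyGrading r k) (CohB1.polyGrading r k) (-a) _)) } :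
    GrTilde.tilde (CohB1.polyGrading r k) (truncN (shiftZ k r a)) 0 ≅
      GrTilde.tilde (CohB1.polyGrading r k) (M := MvPolynomial (Fin (r + 1)) k)
        (CohB1.polyGrading r k) (-a)) ≪≫
  (Groth.Agent.ProjTw.twistIso (CohB1.polyGrading r k) (-a)).symm

end Shift

section Free

variable (k : Type u) [Field k] (r : ℕ) {m : ℕ} (dg : Fin m → ℤ)

theorem degPres_proj (b : Fin m) :
    DegPres (truncN (piece (GrSyz.stdGr k (Fin (r + 1))) dg)) (truncN (shiftZ k r (dg b)))
      (LinearMap.proj b : (Fin m → MvPolynomial (Fin (r + 1)) k) →ₗ[MvPolynomial (Fin (r + 1)) k]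
        MvPolynomial (Fin (r + 1)) k) := by
  intro i v hv
  exact (mem_piece (GrSyz.stdGr k (Fin (r + 1)))).mp hv b

theorem degPres_single (b : Fin m) :
    DegPres (truncN (shiftZ k r (dg b))) (truncN (piece (GrSyz.stdGr k (Fin (r + 1))) dg))
      (LinearMap.single (MvPolynomial (Fin (r + 1)) k)
        (fun _ : Fin m => MvPolynomial (Fin (r + 1)) k) b) := by
  intro i p hp
  have hp' : p ∈ GrSyz.stdGr k (Fin (r + 1)) ((i : ℤ) - dg b) := hp
  show (Pi.single b p : Fin m → MvPolynomial (Fin (r + 1)) k) ∈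
    piece (GrSyz.stdGr k (Fin (r + 1))) dg (i : ℤ)
  rw [mem_piece (GrSyz.stdGr k (Fin (r + 1)))]
  intro b'
  by_cases hb : b' = b
  · subst hb
    rw [Pi.single_eq_same]
    exact hp'
  · rw [Pi.single_eq_of_ne hb]
    exact zero_mem _

/-- the sheaf of the graded free module -/
noncomputable abbrev YF : (Proj (CohB1.polyGrading r k)).Modules :=
  GrTilde.tilde (CohB1.polyGrading r k) (truncN (piece (GrSyz.stdGr k (Fin (r + 1))) dg)) 0

/-- the sheaf of the shifted ring -/
noncomputable abbrev YT (a : ℤ) : (Proj (CohB1.polyGrading r k)).Modules :=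
  GrTilde.tilde (CohB1.polyGrading r k) (truncN (shiftZ k r a)) 0

/-- the projections -/
noncomputable def freeπ (b : Fin m) : YF k r dg ⟶ YT k r (dg b) :=
  tMap (CohB1.polyGrading r k) (truncN (piece (GrSyz.stdGr k (Fin (r + 1))) dg))
    (truncN (shiftZ k r (dg b))) 0 (LinearMap.proj b) (degPres_proj k r dg b)

/-- the inclusions -/
noncomputable def freeι (b : Fin m) : YT k r (dg b) ⟶ YF k r dg :=
  tMap (CohB1.polyGrading r k) (truncN (shiftZ k r (dg b)))
    (truncN (piece (GrSyz.stdGr k (Fin (r + 1))) dg)) 0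
    (LinearMap.single (MvPolynomial (Fin (r + 1)) k)
      (fun _ : Fin m => MvPolynomial (Fin (r + 1)) k) b) (degPres_single k r dg b)

theorem freeι_π_same (b : Fin m) : freeι k r dg b ≫ freeπ k r dg b = 𝟙 _ :=
  (tMap_comp (CohB1.polyGrading r k) (truncN (shiftZ k r (dg b)))
    (truncN (piece (GrSyz.stdGr k (Fin (r + 1))) dg)) (truncN (shiftZ k r (dg b))) 0
    _ (degPres_single k r dg b) _ (degPres_proj k r dg b)).trans
  ((tMap_congr (CohB1.polyGrading r k) (truncN (shiftZ k r (dg b))) (truncN (shiftZ k r (dg b))) 0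
    (LinearMap.proj_comp_single_same (MvPolynomial (Fin (r + 1)) k)
      (fun _ : Fin m => MvPolynomial (Fin (r + 1)) k) b) _ (degPres_id _)).trans
  (tMap_id (CohB1.polyGrading r k) (truncN (shiftZ k r (dg b))) 0))

theorem freeι_π_ne (b b' : Fin m) (h : b ≠ b') : freeι k r dg b ≫ freeπ k r dg b' = 0 :=
  (tMap_comp (CohB1.polyGrading r k) (truncN (shiftZ k r (dg b)))
    (truncN (piece (GrSyz.stdGr k (Fin (r + 1))) dg)) (truncN (shiftZ k r (dg b'))) 0
    _ (degPres_single k r dg b) _ (degPres_proj k r dg b')).trans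
  ((tMap_congr (CohB1.polyGrading r k) (truncN (shiftZ k r (dg b))) (truncN (shiftZ k r (dg b'))) 0
    (LinearMap.proj_comp_single_ne (MvPolynomial (Fin (r + 1)) k)
      (fun _ : Fin m => MvPolynomial (Fin (r + 1)) k) b' b (Ne.symm h)) _ (degPres_zero _ _)).trans
  (tMap_zero (CohB1.polyGrading r k) (truncN (shiftZ k r (dg b))) (truncN (shiftZ k r (dg b'))) 0))

/-- the bicone exhibiting the sheaf of a graded free module as a sum -/
noncomputable def freeBicone : Bicone (fun b : Fin m => YT k r (dg b)) where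
  pt := YF k r dg
  π := freeπ k r dg
  ι := freeι k r dg
  ι_π := by
    intro j j'
    by_cases h : j = j'
    · subst h
      rw [dif_pos rfl, eqToHom_refl]
      exact freeι_π_same k r dg j
    · rw [dif_neg h]
      exact freeι_π_ne k r dg j j' h

theorem freeπ_ι (b : Fin m) : freeπ k r dg b ≫ freeι k r dg b =
    tMap (CohB1.polyGrading r k) (truncN (piece (GrSyz.stdGr k (Fin (r + 1))) dg))
      (truncN (piece (GrSyz.stdGr k (Fin (r + 1))) dg)) 0
      ((LinearMap.single (MvPolynomial (Fin (r + 1)) k)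
        (fun _ : Fin m => MvPolynomial (Fin (r + 1)) k) b) ∘ₗ (LinearMap.proj b))
      ((degPres_single k r dg b).comp (degPres_proj k r dg b)) :=
  tMap_comp (CohB1.polyGrading r k) (truncN (piece (GrSyz.stdGr k (Fin (r + 1))) dg))
    (truncN (shiftZ k r (dg b))) (truncN (piece (GrSyz.stdGr k (Fin (r + 1))) dg)) 0
    _ (degPres_proj k r dg b) _ (degPres_single k r dg b)

theorem degPres_sum_single_proj :
    DegPres (truncN (piece (GrSyz.stdGr k (Fin (r + 1))) dg))
      (truncN (piece (GrSyz.stdGr k (Fin (r + 1))) dg))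
      (∑ b : Fin m, (LinearMap.single (MvPolynomial (Fin (r + 1)) k)
        (fun _ : Fin m => MvPolynomial (Fin (r + 1)) k) b) ∘ₗ (LinearMap.proj b)) := by
  rw [sum_single_proj]
  exact degPres_id _

theorem free_total :
    ∑ b : Fin m, freeπ k r dg b ≫ freeι k r dg b = 𝟙 (YF k r dg) :=
  (Finset.sum_congr rfl (fun b _ => freeπ_ι k r dg b)).trans
  ((tMap_sum (CohB1.polyGrading r k) (truncN (piece (GrSyz.stdGr k (Fin (r + 1))) dg))
    (truncN (piece (GrSyz.stdGr k (Fin (r + 1))) dg)) 0 Finset.univ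
    (fun b : Fin m => (LinearMap.single (MvPolynomial (Fin (r + 1)) k)
      (fun _ : Fin m => MvPolynomial (Fin (r + 1)) k) b) ∘ₗ (LinearMap.proj b))
    (fun b => (degPres_single k r dg b).comp (degPres_proj k r dg b))
    (degPres_sum_single_proj k r dg)).trans
  ((tMap_congr (CohB1.polyGrading r k) (truncN (piece (GrSyz.stdGr k (Fin (r + 1))) dg))
    (truncN (piece (GrSyz.stdGr k (Fin (r + 1))) dg)) 0
    (sum_single_proj (MvPolynomial (Fin (r + 1)) k) m) (degPres_sum_single_proj k r dg)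
    (degPres_id _)).trans
  (tMap_id (CohB1.polyGrading r k) (truncN (piece (GrSyz.stdGr k (Fin (r + 1))) dg)) 0)))

theorem nonempty_free_iso :
    Nonempty (YF k r dg ≅ ∐ fun b : Fin m => Twist.twist (CohB1.polyGrading r k) (-(dg b))) := by
  have hB : (freeBicone k r dg).IsBilimit := isBilimitOfTotal _ (free_total k r dg)
  exact ⟨hB.isColimit.coconePointUniqueUpToIso (coproductIsCoproduct _) ≪≫
    Sigma.mapIso (fun b => shiftIso k r (dg b))⟩

theorem isZero_YF_of_eq_zero (hm : m = 0) : IsZero (YF k r dg) := by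
  subst hm
  rw [IsZero.iff_id_eq_zero]
  have e : (LinearMap.id : (Fin 0 → MvPolynomial (Fin (r + 1)) k) →ₗ[MvPolynomial (Fin (r + 1)) k]
      (Fin 0 → MvPolynomial (Fin (r + 1)) k)) = 0 := LinearMap.ext fun v => Subsingleton.elim _ _
  exact (tMap_id (CohB1.polyGrading r k) (truncN (piece (GrSyz.stdGr k (Fin (r + 1))) dg)) 0).symm.trans
    ((tMap_congr (CohB1.polyGrading r k) (truncN (piece (GrSyz.stdGr k (Fin (r + 1))) dg))
      (truncN (piece (GrSyz.stdGr k (Fin (r + 1))) dg)) 0 e (degPres_id _) (degPres_zero _ _)).trans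
    (tMap_zero (CohB1.polyGrading r k) (truncN (piece (GrSyz.stdGr k (Fin (r + 1))) dg))
      (truncN (piece (GrSyz.stdGr k (Fin (r + 1))) dg)) 0))

end Free

section Res2

variable (k : Type u) [Field k] (r : ℕ)
    (M : Type u) [AddCommGroup M] [Module k M] [Module (MvPolynomial (Fin (r + 1)) k) M]
    [IsScalarTower k (MvPolynomial (Fin (r + 1)) k) M]
    (ℳ : ℤ → Submodule k M) [DirectSum.Decomposition ℳ]
    [SetLike.GradedSMul (GrSyz.stdGr k (Fin (r + 1))) ℳ]
    (F : GrSyz.FreeRes (GrSyz.stdGr k (Fin (r + 1))) ℳ)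

/-- the terms of the complex are sums of twisting sheaves -/
theorem nonempty_EX_iso (s : ℕ) :
    Nonempty (EX k r M ℳ F s ≅
      ∐ fun b : Fin (F.rk s) => Twist.twistProjSpace r k (-(F.deg s b))) :=
  nonempty_free_iso k r (F.deg s)

theorem isZero_EX_of_rk (s : ℕ) (h : F.rk s = 0) : IsZero (EX k r M ℳ F s) :=
  isZero_YF_of_eq_zero k r (F.deg s) h

/-- a minimal resolution over the polynomial ring in `r + 1` variables has length `≤ r + 1` -/
theorem rk_eq_zero_of_minimal
    (hF : F.IsMinimal (GrSyz.irrel (GrSyz.stdGr k (Fin (r + 1)))).toIdeal)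
    (s : ℕ) (hs : r + 1 < s) : F.rk s = 0 := by
  by_contra hne
  have hpos : 0 < F.rk s := Nat.pos_of_ne_zero hne
  have hHV : HV (GR k r M ℳ) s (F.deg s ⟨0, hpos⟩) := by
    intro z hz _ _
    have hz0 : z = 0 := by
      funext I
      apply hz I
      have h1 : I.card ≤ r + 1 := by
        have h2 := Finset.card_le_univ I
        rwa [Fintype.card_fin] at h2
      omega
    refine ⟨0, fun _ _ => rfl, fun _ => zero_mem _, ?_⟩
    rw [map_zero, hz0]
  have h0 := betti_eq_zero_of_HV k r M ℳ F hF s (F.deg s ⟨0, hpos⟩) hHV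
  unfold GrSyz.FreeRes.betti at h0
  rw [Finset.card_eq_zero, Finset.filter_eq_empty_iff] at h0
  exact h0 (Finset.mem_univ _) rfl

theorem isZero_EX_of_minimal
    (hF : F.IsMinimal (GrSyz.irrel (GrSyz.stdGr k (Fin (r + 1)))).toIdeal)
    (s : ℕ) (hs : r + 1 < s) : IsZero (EX k r M ℳ F s) :=
  isZero_EX_of_rk k r M ℳ F s (rk_eq_zero_of_minimal k r M ℳ F hF s hs)

end Res2

end Groth.Agent.Lib.TlMapH1
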