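import Mathlib
import Groth.Prelude
import Groth.Agent.Lib.TlMap4_helper1

/-!
# The graded module structure of an ideal of the polynomial ring (helper1)
-/

set_option autoImplicit false

namespace Groth.Agent.Lib.TlMapH1

universe u

open CategoryTheory CategoryTheory.Limits AlgebraicGeometry TopologicalSpace Opposite

section IdealGr

variable (k : Type u) [Field k] (r : ℕ)

/-- the induced `ℕ`-grading on an ideal of the polynomial ring, viewed as a module -/
noncomputable def idealGr (J : Ideal (MvPolynomial (Fin (r + 1)) k)) : ℕ → Submodule k ↥J :=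
  fun m => (CohB1.polyGrading r k m).comap ((Submodule.subtype J).restrictScalars k)

variable {k r} in
theorem mem_idealGr {J : Ideal (MvPolynomial (Fin (r + 1)) k)} {m : ℕ} {w : ↥J} :
    w ∈ idealGr k r J m ↔ (w : MvPolynomial (Fin (r + 1)) k) ∈ CohB1.polyGrading r k m := Iff.rfl

instance gsmul_idealGr (J : Ideal (MvPolynomial (Fin (r + 1)) k)) :
    SetLike.GradedSMul (CohB1.polyGrading r k) (idealGr k r J) where
  smul_mem := by
    intro i j a w ha hw
    have h := SetLike.GradedMul.mul_mem (A := CohB1.polyGrading r k) ha (mem_idealGr.mp hw)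
    rw [vadd_eq_add]
    exact h

/-- the sheaf on projective space attached to an ideal of the polynomial ring -/
noncomputable def idealTilde (J : Ideal (MvPolynomial (Fin (r + 1)) k)) :
    (CohB1.ProjSpace r k).Modules :=
  GrTilde.tilde (CohB1.polyGrading r k) (idealGr k r J) 0

end IdealGr

end Groth.Agent.Lib.TlMapH1
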