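import Mathlib
import Groth.Prelude
import Groth.Agent.Lib.TlMap6_helper1
import Groth.Agent.Lib.HypIdeal2_helper9
import Groth.Agent.Lib.ProjQC_helper5

/-!
# Ideal sheaves on projective space vs. homogeneous ideals, I (lead)

* `ρ' i : k[x] →+* Γ(P^n, D_+(x_i))`, `x_l ↦ x_l / x_i` (dehomogenisation), `ρ'_eq_dehom`.
* `φ 𝔞 : 𝔞~ ⟶ O` for an ideal `𝔞` of `k[x]`, a monomorphism, with `valO_φ`.
* `imgIdeal_φ_chart`: for `𝔞` homogeneous, the image of `𝔞~(D_+(x_i))` in `O(D_+(x_i))` is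
  `ρ' i (𝔞)`.
-/

set_option autoImplicit false

namespace Groth.Agent.Lib.IdealDict

universe u

open CategoryTheory CategoryTheory.Limits AlgebraicGeometry TopologicalSpace Opposite MvPolynomial
open Groth.Agent.ProjCech Groth.Agent.HypIdeal QCohExtn QcqsLoc SerreCrit
open Groth.Agent.Lib.TlMapH1 HomogeneousLocalization CohB1

section Scale

/-- scaling the variables of a homogeneous polynomial. -/
theorem eval₂_scale {σ R S : Type*} [CommSemiring R] [CommSemiring S] (φ : R →+* S)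
    (v : σ → S) (u : S) {g : MvPolynomial σ R} {m : ℕ} (hg : g.IsHomogeneous m) :
    eval₂ φ (fun l => v l * u) g = eval₂ φ v g * u ^ m := by
  rw [eval₂_eq, eval₂_eq, Finset.sum_mul]
  refine Finset.sum_congr rfl (fun d hd => ?_)
  have hdeg : m = ∑ i ∈ d.support, d i := hg.degree_eq_sum_deg_support hd
  simp only [mul_pow]
  rw [Finset.prod_mul_distrib, Finset.prod_pow_eq_pow_sum, ← hdeg, mul_assoc]

end Scale

variable {k : Type u} [Field k] {n : ℕ}

section Rho

/-- `k[x]_(x_i)`. -/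
abbrev Ai (k : Type u) [Field k] {n : ℕ} (i : Fin (n + 1)) : Type u :=
  Away (polyGrading n k) (X i : MvPolynomial (Fin (n + 1)) k)

/-- `k[x]_{x_i}`. -/
abbrev Li (k : Type u) [Field k] {n : ℕ} (i : Fin (n + 1)) : Type u :=
  Localization (Submonoid.powers (X i : MvPolynomial (Fin (n + 1)) k))

/-- the standard chart `D_+(x_i)`, as an open of `Proj`. -/
noncomputable abbrev Ui (k : Type u) [Field k] {n : ℕ} (i : Fin (n + 1)) : (Proj (polyGrading n k)).Opens :=
  Proj.basicOpen (polyGrading n k) (X i)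

variable (i : Fin (n + 1))

/-- constants. -/
noncomputable def cst : k →+* Ai k i :=
  (fromZeroRingHom (polyGrading n k) _).comp (algebraMap k (polyGrading n k 0))

/-- `x_l / x_i`. -/
noncomputable def xq (l : Fin (n + 1)) : Ai k i :=
  Away.mk (polyGrading n k) (LefPen.X_mem n k i) 1 (X l) (by
    have := LefPen.X_mem n k l
    simpa using this)

/-- `k[x] → k[x]_(x_i)`, `x_l ↦ x_l / x_i`. -/
noncomputable def ρ : MvPolynomial (Fin (n + 1)) k →+* Ai k i := eval₂Hom (cst i) (xq i)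

/-- `1/x_i`. -/
noncomputable def uq : Li k i := Localization.mk 1 ⟨(X i) ^ 1, ⟨1, rfl⟩⟩

theorem val_cst (r : k) :
    (cst i r).val = algebraMap (MvPolynomial (Fin (n + 1)) k) (Li k i) (C r) := rfl

theorem val_xq (l : Fin (n + 1)) :
    (xq (k := k) i l).val = algebraMap (MvPolynomial (Fin (n + 1)) k) (Li k i) (X l) * uq i := by
  show Localization.mk (X l) ⟨(X i) ^ 1, _⟩ = _ * Localization.mk 1 ⟨(X i) ^ 1, _⟩
  rw [Localization.mk_eq_mk'_apply, Localization.mk_eq_mk'_apply,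
    ← IsLocalization.mk'_eq_mul_mk'_one]

theorem uq_pow (m : ℕ) : uq (k := k) i ^ m =
    Localization.mk 1 (⟨(X i) ^ m, ⟨m, rfl⟩⟩ :
      Submonoid.powers (X i : MvPolynomial (Fin (n + 1)) k)) := by
  rw [uq, Localization.mk_pow, one_pow]
  congr 1
  exact Subtype.ext (by simp)

theorem val_ρ (g : MvPolynomial (Fin (n + 1)) k) :
    (ρ i g).val = eval₂ ((algebraMap (MvPolynomial (Fin (n + 1)) k) (Li k i)).comp C)
      (fun l => algebraMap (MvPolynomial (Fin (n + 1)) k) (Li k i) (X l) * uq i) g := by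
  induction g using MvPolynomial.induction_on with
  | C r =>
    simp only [ρ, coe_eval₂Hom, eval₂_C]
    exact val_cst i r
  | add p q hp hq => rw [map_add, HomogeneousLocalization.val_add, hp, hq, eval₂_add]
  | mul_X p l hp =>
    rw [map_mul, val_mul, hp, eval₂_mul, eval₂_X]
    congr 1
    simp only [ρ, coe_eval₂Hom, eval₂_X]
    exact val_xq i l

theorem ρ_mk (m : ℕ) (g : MvPolynomial (Fin (n + 1)) k) (hg : g ∈ polyGrading n k (m • 1)) :
    ρ i g = Away.mk (polyGrading n k) (LefPen.X_mem n k i) m g hg := by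
  apply HomogeneousLocalization.val_injective
  rw [Away.val_mk]
  have hg' : g.IsHomogeneous m := by simpa using hg
  rw [val_ρ, eval₂_scale _ _ _ hg']
  have h2 : eval₂ ((algebraMap (MvPolynomial (Fin (n + 1)) k) (Li k i)).comp C)
      (fun l => algebraMap (MvPolynomial (Fin (n + 1)) k) (Li k i) (X l)) g =
      algebraMap (MvPolynomial (Fin (n + 1)) k) (Li k i) g := by
    have : (eval₂Hom ((algebraMap (MvPolynomial (Fin (n + 1)) k) (Li k i)).comp C)
        (fun l => algebraMap (MvPolynomial (Fin (n + 1)) k) (Li k i) (X l))) =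
        algebraMap (MvPolynomial (Fin (n + 1)) k) (Li k i) := by
      refine MvPolynomial.ringHom_ext (fun r => by simp) (fun l => by simp)
    exact congrArg (fun F : MvPolynomial (Fin (n + 1)) k →+* Li k i => F g) this
  rw [h2, uq_pow, Localization.mk_eq_mk'_apply, Localization.mk_eq_mk'_apply,
    ← IsLocalization.mk'_eq_mul_mk'_one]

/-- dehomogenisation `k[x] → Γ(P^n, D_+(x_i))`. -/
noncomputable def ρ' : MvPolynomial (Fin (n + 1)) k →+* Γ(Proj (polyGrading n k), Ui k i) :=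
  (Proj.awayToSection (polyGrading n k) (X i)).hom.comp (ρ i)

theorem ρ'_eq_dehom {d : ℕ} (G : LefPen.Form n k d) : ρ' i G.1 = LefPen.dehom G i := by
  unfold LefPen.dehom
  show (Proj.awayToSection (polyGrading n k) (X i)).hom (ρ i G.1) = _
  rw [ρ_mk i d G.1 (by rw [smul_eq_mul, mul_one]; exact G.2)]

theorem valO_ρ' {d : ℕ} (g : MvPolynomial (Fin (n + 1)) k) (hg : g ∈ polyGrading n k d)
    (x : Ui k i) :
    valO (n := n) (R := k) (ρ' i g) x =
      Localization.mk g ⟨(X i : MvPolynomial (Fin (n + 1)) k) ^ d, pow_notMem i x⟩ := by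
  rw [ρ'_eq_dehom i ⟨g, hg⟩]
  exact valO_dehom ⟨g, hg⟩ i x

end Rho

section Phi

variable (𝔞 : Ideal (MvPolynomial (Fin (n + 1)) k))

/-- `𝔞~` as a module on `Proj`. -/
noncomputable abbrev iT : (Proj (polyGrading n k)).Modules :=
  GrTilde.tilde (polyGrading n k) (idealGr k n 𝔞) 0

theorem iT_eq : idealTilde k n 𝔞 = iT 𝔞 := rfl

theorem degPres_subtype :
    DegPres (idealGr k n 𝔞) (polyGrading n k) (Submodule.subtype 𝔞) := fun _ _ hm => hm

/-- `𝔞~ ⟶ S~`. -/
noncomputable def φ0 : iT 𝔞 ⟶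
    GrTilde.tilde (polyGrading n k) (M := MvPolynomial (Fin (n + 1)) k) (polyGrading n k) 0 :=
  tMap (polyGrading n k) (idealGr k n 𝔞) (polyGrading n k) 0 (Submodule.subtype 𝔞)
    (degPres_subtype 𝔞)

instance isIso_u0 : IsIso (Groth.Agent.ProjTw.unitToTwist0 (polyGrading n k)) :=
  Groth.Agent.ProjTw.isIso_unitToTwist0 (polyGrading n k) (Groth.Agent.ProjTens.hcov' n k)

/-- `O(0) ⟶ O`. -/
noncomputable def invU : Twist.twist (polyGrading n k) 0 ⟶ OO (Proj (polyGrading n k)) :=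
  inv (Groth.Agent.ProjTw.unitToTwist0 (polyGrading n k))

theorem invU_comp : invU (n := n) (k := k) ≫ Groth.Agent.ProjTw.unitToTwist0 (polyGrading n k) =
    𝟙 _ := IsIso.inv_hom_id _

theorem comp_invU : Groth.Agent.ProjTw.unitToTwist0 (polyGrading n k) ≫ invU (n := n) (k := k) =
    𝟙 _ := IsIso.hom_inv_id _

/-- `𝔞~ ⟶ O`. -/
noncomputable def φ : iT 𝔞 ⟶ OO (Proj (polyGrading n k)) :=
  φ0 𝔞 ≫ (Groth.Agent.ProjTw.twistIso (polyGrading n k) 0).inv ≫ invU

theorem φ_comp : φ 𝔞 ≫ Groth.Agent.ProjTw.unitToTwist0 (polyGrading n k) =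
    φ0 𝔞 ≫ (Groth.Agent.ProjTw.twistIso (polyGrading n k) 0).inv := by
  unfold φ
  rw [Category.assoc, Category.assoc, invU_comp, Category.comp_id]

theorem valO_φ {V : (Proj (𝒜 n k)).Opens} (σ : Γ(iT 𝔞, V)) (x : V)
    (m : 𝔞) (t : MvPolynomial (Fin (n + 1)) k) (ht : t ∉ x.1.asHomogeneousIdeal)
    (h : valT (𝒜 n k) (idealGr k n 𝔞) σ x = LocalizedModule.mk m ⟨t, ht⟩) :
    valO (n := n) (R := k) (toFn (ap (φ 𝔞) V σ)) x = Localization.mk m.1 ⟨t, ht⟩ := by
  have h1 := val_unitToTwist0 (n := n) (R := k) (toFn (ap (φ 𝔞) V σ)) x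
  have h2 : ap (Groth.Agent.ProjTw.unitToTwist0 (𝒜 n k)) V (ofFn (toFn (ap (φ 𝔞) V σ))) =
      ap (Groth.Agent.ProjTw.twistIso (𝒜 n k) 0).inv V (ap (φ0 𝔞) V σ) :=
    congrArg (fun ψ : iT 𝔞 ⟶ Twist.twist (𝒜 n k) 0 => ap ψ V σ) (φ_comp 𝔞)
  rw [← h1, h2]
  have h3 : valT (𝒜 n k) (𝒜 n k) (ap (φ0 𝔞) V σ) x =
      LocalizedModule.mk (Submodule.subtype 𝔞 m) ⟨t, ht⟩ :=
    valT_tMap_frac (𝒜 n k) (idealGr k n 𝔞) (𝒜 n k) 0 (Submodule.subtype 𝔞) (degPres_subtype 𝔞)
      σ x m t ht h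
  show Groth.Agent.ProjTw.ofLM _ (valT (𝒜 n k) (𝒜 n k) (ap (φ0 𝔞) V σ) x) = _
  rw [h3]
  rfl

instance mono_φ0 : Mono (φ0 𝔞) := by
  apply AcycEmb.mono_of_injective
  intro W
  rw [injective_iff_map_eq_zero]
  intro σ hσ
  apply ext_valT
  intro x
  have h1 : valT (𝒜 n k) (𝒜 n k) (ap (φ0 𝔞) W σ) x =
      locMap (𝒜 n k) x.1 (Submodule.subtype 𝔞) (valT (𝒜 n k) (idealGr k n 𝔞) σ x) :=
    valT_tMap (𝒜 n k) (idealGr k n 𝔞) (𝒜 n k) 0 (Submodule.subtype 𝔞) (degPres_subtype 𝔞) σ x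
  rw [hσ] at h1
  have h2 : locMap (𝒜 n k) x.1 (Submodule.subtype 𝔞) (valT (𝒜 n k) (idealGr k n 𝔞) σ x) = 0 :=
    h1.symm.trans (valT_zero (𝒜 n k) (𝒜 n k) x)
  have hinj : Function.Injective (locMap (𝒜 n k) x.1 (Submodule.subtype 𝔞)) :=
    IsLocalizedModule.map_injective _ _ _ _ (Submodule.subtype_injective 𝔞)
  exact hinj (h2.trans (map_zero _).symm)

instance mono_φ : Mono (φ 𝔞) := by
  have h : φ 𝔞 ≫ Groth.Agent.ProjTw.unitToTwist0 (polyGrading n k) ≫
      (Groth.Agent.ProjTw.twistIso (polyGrading n k) 0).hom = φ0 𝔞 := by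
    rw [← Category.assoc, φ_comp, Category.assoc, Iso.inv_hom_id, Category.comp_id]
  exact mono_of_mono_fac h

theorem iSupIndep_comap {R M M' ι : Type*} [Ring R] [AddCommGroup M] [Module R M]
    [AddCommGroup M'] [Module R M'] (f : M →ₗ[R] M') (inj : Function.Injective f)
    {m : ι → Submodule R M'} (ind : iSupIndep m) : iSupIndep fun i => (m i).comap f := by
  intro i
  rw [Submodule.disjoint_def]
  intro w hw1 hw2
  have h := ind i
  rw [Submodule.disjoint_def] at h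
  have h1 : f w ∈ ⨆ j, ⨆ (_ : j ≠ i), m j := by
    have h2 : f w ∈ Submodule.map f (⨆ j, ⨆ (_ : j ≠ i), (m j).comap f) :=
      Submodule.mem_map_of_mem hw2
    rw [Submodule.map_iSup] at h2
    have hle : (⨆ j, Submodule.map f (⨆ (_ : j ≠ i), (m j).comap f)) ≤ ⨆ j, ⨆ (_ : j ≠ i), m j := by
      refine iSup_mono fun j => ?_
      rw [Submodule.map_iSup]
      exact iSup_mono fun _ => Submodule.map_comap_le f (m j)
    exact hle h2
  have h3 := h (f w) hw1 h1
  exact inj (h3.trans (map_zero f).symm)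

theorem isInternal_idealGr (h𝔞 : 𝔞.IsHomogeneous (polyGrading n k)) :
    DirectSum.IsInternal (idealGr k n 𝔞) := by
  apply DirectSum.isInternal_submodule_of_iSupIndep_of_iSup_eq_top
  · exact iSupIndep_comap ((Submodule.subtype 𝔞).restrictScalars k)
      (Submodule.subtype_injective 𝔞)
      (DirectSum.Decomposition.isInternal (polyGrading n k)).submodule_iSupIndep
  · classical
    rw [eq_top_iff]
    intro w _
    have hw : w = ∑ i ∈ (DirectSum.decompose (polyGrading n k) w.1).support,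
        (⟨(DirectSum.decompose (polyGrading n k) w.1 i : MvPolynomial (Fin (n + 1)) k),
          h𝔞 i w.2⟩ : 𝔞) := by
      apply Subtype.ext
      rw [AddSubmonoidClass.coe_finsetSum]
      exact (DirectSum.sum_support_decompose (polyGrading n k) w.1).symm
    rw [hw]
    refine Submodule.sum_mem _ (fun i _ => Submodule.mem_iSup_of_mem i ?_)
    exact (DirectSum.decompose (polyGrading n k) w.1 i).2

/-- the decomposition of a homogeneous ideal into its graded pieces. -/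
noncomputable def decompIdealGr (h𝔞 : 𝔞.IsHomogeneous (polyGrading n k)) :
    DirectSum.Decomposition (idealGr k n 𝔞) :=
  (isInternal_idealGr 𝔞 h𝔞).chooseDecomposition

theorem isQuasicoherent_idealTilde (h𝔞 : 𝔞.IsHomogeneous (polyGrading n k)) :
    (iT 𝔞).IsQuasicoherent :=
  letI := decompIdealGr 𝔞 h𝔞
  Groth.Agent.ProjQC.isQuasicoherent_tilde (polyGrading n k) (idealGr k n 𝔞) 0

end Phi

section ImgIdeal

variable (𝔞 : Ideal (MvPolynomial (Fin (n + 1)) k)) (i : Fin (n + 1))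

theorem X_pow_mem (e : ℕ) :
    (X i : MvPolynomial (Fin (n + 1)) k) ^ e ∈ polyGrading n k e := by
  have := SetLike.pow_mem_graded e (LefPen.X_mem n k i)
  simpa using this

/-- the section `g / x_i^e` of `𝔞~` over `D_+(x_i)` for `g ∈ 𝔞` homogeneous of degree `e`. -/
noncomputable def secOf {e : ℕ} (g : 𝔞) (hg : g.1 ∈ polyGrading n k e) :
    Γ(iT 𝔞, Ui k i) :=
  mkSec (polyGrading n k) (idealGr k n 𝔞) 0 g hg ((X i) ^ e) (X_pow_mem i e) (by simp)
    (Ui k i) (fun x h => x.2 (x.1.isPrime.mem_of_pow_mem _ h))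

theorem toFn_φ_secOf {e : ℕ} (g : 𝔞) (hg : g.1 ∈ polyGrading n k e) :
    toFn (ap (φ 𝔞) (Ui k i) (secOf 𝔞 i g hg)) = ρ' i g.1 := by
  apply ext_valO (n := n) (R := k)
  intro x
  rw [valO_ρ' i g.1 hg x]
  exact valO_φ 𝔞 (secOf 𝔞 i g hg) x g ((X i) ^ e) _
    (valT_mkSec (polyGrading n k) (idealGr k n 𝔞) 0 g hg ((X i) ^ e) (X_pow_mem i e) (by simp)
      (Ui k i) (fun x h => x.2 (x.1.isPrime.mem_of_pow_mem _ h)) x)

/-- **the image of `𝔞~(D_+(x_i))` in `O(D_+(x_i))` is the dehomogenisation of `𝔞`.** -/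
theorem imgIdeal_φ_chart (h𝔞 : 𝔞.IsHomogeneous (polyGrading n k)) :
    TensH8.imgIdeal (X := Proj (polyGrading n k)) (φ 𝔞) (Ui k i) =
      Ideal.map (ρ' i) 𝔞 := by
  apply le_antisymm
  · rintro a ⟨σ, rfl⟩
    letI := decompIdealGr 𝔞 h𝔞
    obtain ⟨K, e, m, he, hval⟩ :=
      Groth.Agent.Lib.ProjSectH1.sections_basicOpen (polyGrading n k) (idealGr k n 𝔞) 0 one_pos
        (LefPen.X_mem n k i)
        (show GrTilde.sect (polyGrading n k) (idealGr k n 𝔞) 0
          (op (ProjectiveSpectrum.basicOpen (polyGrading n k) (X i))) from σ)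
    have heK : e = K := by
      have : (e : ℤ) = K := by rw [he]; simp
      exact_mod_cast this
    subst heK
    have hm : m.1.1 ∈ polyGrading n k e := m.2
    have key : toFn (ap (φ 𝔞) (Ui k i) σ) = ρ' i m.1.1 := by
      apply ext_valO (n := n) (R := k)
      intro x
      rw [valO_ρ' i m.1.1 hm x]
      exact valO_φ 𝔞 σ x m.1 ((X i) ^ e) _ (hval ⟨x.1, x.2⟩)
    rw [key]
    exact Ideal.mem_map_of_mem _ m.1.2
  · refine Ideal.map_le_iff_le_comap.mpr ?_
    intro g hg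
    refine Ideal.mem_comap.mpr ?_
    classical
    have hsum : ρ' i g = ∑ e ∈ (DirectSum.decompose (polyGrading n k) g).support,
        ρ' i (DirectSum.decompose (polyGrading n k) g e : MvPolynomial (Fin (n + 1)) k) := by
      conv_lhs => rw [← DirectSum.sum_support_decompose (polyGrading n k) g]
      exact map_sum (ρ' i) _ _
    rw [hsum]
    refine Ideal.sum_mem _ (fun e _ => ?_)
    exact ⟨secOf 𝔞 i ⟨_, h𝔞 e hg⟩ (DirectSum.decompose (polyGrading n k) g e).2,
      toFn_φ_secOf 𝔞 i ⟨_, h𝔞 e hg⟩ (DirectSum.decompose (polyGrading n k) g e).2⟩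

end ImgIdeal

end Groth.Agent.Lib.IdealDict
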