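import Mathlib
import Groth.Prelude
import Groth.Agent.Lib.IdealDictA_lead
import Groth.Agent.Lib.CMMul1_helper9
import Groth.Agent.Lib.GG1_helper8
import Groth.Agent.Lib.ProjCech3_helper9

/-!
# Ideal sheaves on projective space vs. homogeneous ideals, II (lead)

`exists_forms_of_gg`: if `I(d)` is globally generated on `P^n_k`, there are finitely many forms
`s_j` of degree `d` with `idealMod (I^p) ≅ (J^p)~` for all `p`, `J = (s_j)`.
-/

set_option autoImplicit false

namespace Groth.Agent.Lib.IdealDict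

universe u

open CategoryTheory CategoryTheory.Limits AlgebraicGeometry TopologicalSpace Opposite MvPolynomial
open Groth.Agent.ProjCech Groth.Agent.HypIdeal QCohExtn QcqsLoc SerreCrit GenLocH8 TensH8
open Groth.Agent.Lib.TlMapH1 HomogeneousLocalization CohB1

section LG

variable {X : Scheme.{u}}

theorem rF_self' (F : X.Modules) {U : X.Opens} (h : U ≤ U) (s : Γ(F, U)) : rF F h s = s := by
  change F.presheaf.map (homOfLE h).op s = s
  have : (homOfLE h).op = 𝟙 (op U) := rfl
  rw [this, F.presheaf.map_id]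
  rfl

/-- membership in an ideal of the ring of an affine open is local. -/
theorem mem_of_locally_mem {U : X.Opens} (hU : IsAffineOpen U) (K : Ideal Γ(X, U)) (a : Γ(X, U))
    (h : ∀ x ∈ U, ∃ (W : X.Opens) (hW : W ≤ U), x ∈ W ∧ rX hW a ∈ K.map (rX hW)) : a ∈ K := by
  have key : ∀ x : U, ∃ f : Γ(X, U), x.1 ∈ X.basicOpen f ∧ ∃ N : ℕ, f ^ N * a ∈ K := by
    intro x
    obtain ⟨W, hW, hxW, hmem⟩ := h x.1 x.2
    obtain ⟨f, hfW, hxf⟩ := hU.exists_basicOpen_le (V := W) ⟨x.1, hxW⟩ x.2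
    refine ⟨f, hxf, ?_⟩
    have hD : X.basicOpen f ≤ U := X.basicOpen_le f
    have h1 : rX hD a ∈ K.map (rX hD) := by
      have h2 : rX hfW (rX hW a) ∈ (K.map (rX hW)).map (rX hfW) := Ideal.mem_map_of_mem _ hmem
      rw [rX_rX, Ideal.map_map] at h2
      have h3 : (rX hfW).comp (rX hW) = rX hD := RingHom.ext (fun r => rX_rX hfW hW r)
      rw [h3] at h2
      exact h2
    haveI := hU.isLocalization_basicOpen f
    have h1' : algebraMap Γ(X, U) Γ(X, X.basicOpen f) a ∈
        Ideal.map (algebraMap Γ(X, U) Γ(X, X.basicOpen f)) K := h1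
    obtain ⟨⟨b, m⟩, hbm⟩ :=
      (IsLocalization.mem_map_algebraMap_iff (Submonoid.powers f) Γ(X, X.basicOpen f)).mp h1'
    obtain ⟨N, hN⟩ := m.2
    have h4 : algebraMap Γ(X, U) Γ(X, X.basicOpen f) (a * m.1) =
        algebraMap Γ(X, U) Γ(X, X.basicOpen f) b.1 := by
      rw [map_mul]
      exact hbm
    obtain ⟨c, hc⟩ := (IsLocalization.eq_iff_exists (Submonoid.powers f) _).mp h4
    obtain ⟨N', hN'⟩ := c.2
    refine ⟨N' + N, ?_⟩
    have h5 : f ^ (N' + N) * a = c.1 * b.1 := by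
      rw [← hc, pow_add]
      show f ^ N' * f ^ N * a = c.1 * (a * m.1)
      rw [show f ^ N' = c.1 from hN', show f ^ N = m.1 from hN]
      ring
    rw [h5]
    exact K.mul_mem_left _ b.2
  choose f hxf N hN using key
  apply Submodule.mem_of_span_eq_top_of_smul_pow_mem K (Set.range f) ?_ a ?_
  · rw [← hU.self_le_iSup_basicOpen_iff]
    intro x hx
    exact Opens.mem_iSup.mpr ⟨⟨f ⟨x, hx⟩, ⟨⟨x, hx⟩, rfl⟩⟩, hxf ⟨x, hx⟩⟩
  · rintro ⟨_, ⟨x, rfl⟩⟩
    exact ⟨N x, hN x⟩

end LG

variable {k : Type u} [Field k] {n : ℕ}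

theorem isHomogeneous_pow {𝔞 : Ideal (MvPolynomial (Fin (n + 1)) k)}
    (h : 𝔞.IsHomogeneous (polyGrading n k)) (p : ℕ) : (𝔞 ^ p).IsHomogeneous (polyGrading n k) := by
  induction p with
  | zero =>
    rw [pow_zero, Ideal.one_eq_top]
    exact Ideal.IsHomogeneous.top _
  | succ p ih =>
    rw [pow_succ]
    exact ih.mul h

theorem isAffine_Ui (l : Fin (n + 1)) : IsAffineOpen (Ui k l) :=
  Proj.isAffineOpen_basicOpen (polyGrading n k) (X l) (LefPen.X_mem n k l) one_pos

section Mu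

/-- `O(d)`. -/
noncomputable abbrev Od (k : Type u) [Field k] (n d : ℕ) : (Proj (polyGrading n k)).Modules :=
  Twist.twist (polyGrading n k) (d : ℤ)

variable (I : (Proj (polyGrading n k)).IdealSheafData) (d : ℕ)

/-- the ideal sheaf as a module. -/
noncomputable abbrev IM : (Proj (polyGrading n k)).Modules := ClSub.idealMod I

/-- `I(d)`. -/
noncomputable abbrev HH : (Proj (polyGrading n k)).Modules := CohB1.tensorMod (IM I) (Od k n d)

/-- the multiplication `I ⊗ O(d) ⟶ O(d)`. -/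
noncomputable def μ : HH I d ⟶ Od k n d :=
  (Groth.Agent.TensInv.tR (Od k n d)).map (ClSub.idealModι I) ≫
    (Groth.Agent.CMMul.unitorL (Od k n d)).hom

theorem μ_tmul (W : (Proj (polyGrading n k)).Opens) (a : Γ(IM I, W)) (e : Γ(Od k n d, W)) :
    ap (μ I d) W (SecTwist.tmul (IM I) (Od k n d) W a e) =
      toFn (ap (ClSub.idealModι I) W a) • e := by
  have h1 := Groth.Agent.CMMul.ap_tR_map_tmul (ClSub.idealModι I) (Od k n d) W a e
  have h2 := Groth.Agent.CMMul.unitorL_tmul (Od k n d) W e (toFn (ap (ClSub.idealModι I) W a))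
  show ap (Groth.Agent.CMMul.unitorL (Od k n d)).hom W
    (ap ((Groth.Agent.TensInv.tR (Od k n d)).map (ClSub.idealModι I)) W _) = _
  rw [h1]
  exact h2

/-- the generator `x_l^d` of `O(d)` over `D_+(x_l)`. -/
noncomputable def eG (l : Fin (n + 1)) : Γ(Od k n d, Ui k l) :=
  Groth.Agent.ProjTw.genSecK (polyGrading n k) (LefPen.X_mem n k l) (d : ℤ) (d : ℤ) (by simp)

theorem isGen_eG (l : Fin (n + 1)) : IsGen (Od k n d) (Ui k l) (eG d l) :=
  Groth.Agent.ProjTw.isGen_genSecK (polyGrading n k) one_pos (LefPen.X_mem n k l) (d : ℤ) (d : ℤ)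
    (by simp)

/-- the complement of the homogeneous prime of a point. -/
noncomputable abbrev pc (x : Proj (polyGrading n k)) : Submonoid (MvPolynomial (Fin (n + 1)) k) :=
  (x : ProjectiveSpectrum (polyGrading n k)).asHomogeneousIdeal.toIdeal.primeCompl

theorem pow_nm (l : Fin (n + 1)) (x : Ui k l) (m : ℕ) :
    (X l : MvPolynomial (Fin (n + 1)) k) ^ m ∈
      (x.1 : ProjectiveSpectrum (polyGrading n k)).asHomogeneousIdeal.toIdeal.primeCompl :=
  fun h => x.2 ((x.1 : ProjectiveSpectrum (polyGrading n k)).isPrime.mem_of_pow_mem _ h)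

theorem val_eG (l : Fin (n + 1)) (x : Ui k l) :
    val (n := n) (R := k) (d := (d : ℤ)) (eG d l) x =
      Localization.mk ((X l : MvPolynomial (Fin (n + 1)) k) ^ (d : ℤ).toNat)
        ⟨(X l : MvPolynomial (Fin (n + 1)) k) ^ (-(d : ℤ)).toNat, pow_nm l x _⟩ := rfl

/-- a global section of `I(d)` is, on each chart, `a' ⊗ x_l^d` with `a' = G / x_l^d` for one form
`G` of degree `d`. -/
theorem exists_form (t : Γ(HH I d, ⊤)) :
    ∃ G : MvPolynomial (Fin (n + 1)) k, G ∈ polyGrading n k d ∧ ∀ l : Fin (n + 1),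
      ∃ a' : Γ(IM I, Ui k l),
        SecTwist.tmul (IM I) (Od k n d) (Ui k l) a' (eG d l) =
          rF (HH I d) (le_top : Ui k l ≤ ⊤) t ∧
        toFn (ap (ClSub.idealModι I) (Ui k l) a') = ρ' l G := by
  obtain ⟨G, hG⟩ := glob_surjective (n := n) (R := k) d (ap (μ I d) ⊤ t)
  refine ⟨G.1, G.2, fun l => ?_⟩
  obtain ⟨a', ha'⟩ := tmulGen_surjective (IM I) (Od k n d) (isGen_eG d l) (le_refl (Ui k l))
    (rF (HH I d) le_top t)
  rw [rF_self'] at ha'
  refine ⟨a', ha', ?_⟩
  apply ext_valO (n := n) (R := k)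
  intro x
  rw [valO_ρ' l G.1 G.2 x]
  have h1 : rF (Od k n d) (le_top : Ui k l ≤ ⊤) (ap (μ I d) ⊤ t) =
      toFn (ap (ClSub.idealModι I) (Ui k l) a') • eG d l := by
    rw [← ap_rF, ← ha', μ_tmul]
  rw [← hG] at h1
  have h2 := congrArg (fun s : Γ(Od k n d, Ui k l) =>
    val (n := n) (R := k) (d := (d : ℤ)) s x) h1
  have h3 : val (n := n) (R := k) (d := (d : ℤ))
      (rF (Od k n d) (le_top : Ui k l ≤ ⊤) (glob d G)) x =
      Localization.mk G.1 (⟨mon n k 0, mon_zero_notMem x.1⟩ : pc x.1) := rfl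
  have h4 := val_smul (n := n) (R := k) (d := (d : ℤ))
    (toFn (ap (ClSub.idealModι I) (Ui k l) a')) (eG d l) x
  have h5 : Localization.mk G.1 (⟨mon n k 0, mon_zero_notMem x.1⟩ : pc x.1) =
      valO (n := n) (R := k) (toFn (ap (ClSub.idealModι I) (Ui k l) a')) x *
        Localization.mk ((X l : MvPolynomial (Fin (n + 1)) k) ^ (d : ℤ).toNat)
        ⟨(X l : MvPolynomial (Fin (n + 1)) k) ^ (-(d : ℤ)).toNat, pow_nm l x _⟩ := by
    rw [← h3, ← val_eG d l x]
    exact h2.trans h4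
  have hu : Localization.mk ((X l : MvPolynomial (Fin (n + 1)) k) ^ (d : ℤ).toNat)
        ⟨(X l : MvPolynomial (Fin (n + 1)) k) ^ (-(d : ℤ)).toNat, pow_nm l x _⟩ *
      Localization.mk 1 ⟨(X l : MvPolynomial (Fin (n + 1)) k) ^ d, pow_nm l x d⟩ = 1 := by
    rw [Localization.mk_mul, ← Localization.mk_one, Localization.mk_eq_mk_iff,
      Localization.r_iff_exists]
    exact ⟨1, by simp⟩
  calc valO (n := n) (R := k) (toFn (ap (ClSub.idealModι I) (Ui k l) a')) x
      = valO (n := n) (R := k) (toFn (ap (ClSub.idealModι I) (Ui k l) a')) x *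
          (Localization.mk ((X l : MvPolynomial (Fin (n + 1)) k) ^ (d : ℤ).toNat)
            ⟨(X l : MvPolynomial (Fin (n + 1)) k) ^ (-(d : ℤ)).toNat, pow_nm l x _⟩ *
            Localization.mk 1 ⟨(X l : MvPolynomial (Fin (n + 1)) k) ^ d, pow_nm l x d⟩) := by
        rw [hu, mul_one]
    _ = Localization.mk G.1 (⟨mon n k 0, mon_zero_notMem x.1⟩ : pc x.1) *
          Localization.mk 1 ⟨(X l : MvPolynomial (Fin (n + 1)) k) ^ d, pow_nm l x d⟩ := by
        rw [h5, mul_assoc]
    _ = Localization.mk G.1 ⟨(X l : MvPolynomial (Fin (n + 1)) k) ^ d, pow_nm l x d⟩ := by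
        rw [Localization.mk_mul, Localization.mk_eq_mk_iff, Localization.r_iff_exists]
        exact ⟨1, by simp [mon_zero]⟩

/-- the forms of degree `d` whose dehomogenisations lie in `I` on every chart. -/
def formSet : Set (MvPolynomial (Fin (n + 1)) k) :=
  {G | G ∈ polyGrading n k d ∧ ∀ l : Fin (n + 1), ρ' l G ∈ I.ideal ⟨Ui k l, isAffine_Ui l⟩}

/-- **the ideal of `I` on a chart is the dehomogenisation of the ideal generated by the forms.** -/
theorem ideal_chart_eq (hgg : Curv2.IsGloballyGenerated (HH I d)) (i : Fin (n + 1)) :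
    I.ideal ⟨Ui k i, isAffine_Ui i⟩ = Ideal.map (ρ' i) (Ideal.span (formSet I d)) := by
  apply le_antisymm
  · intro a ha
    apply mem_of_locally_mem (isAffine_Ui i) _ a
    intro x hx
    obtain ⟨ι, g, hls⟩ := GGH8.exists_locSpan hgg
    obtain ⟨a', ha'⟩ := exists_idealMod_section I (isAffine_Ui i) a ha
    obtain ⟨W, hW, hxW, hspan⟩ :=
      hls (Ui k i) (SecTwist.tmul (IM I) (Od k n d) (Ui k i) a' (eG d i)) x hx
    refine ⟨W, hW, hxW, ?_⟩
    have claim : ∀ z ∈ GGH8.spanAt (HH I d) g W, ∃ b : Γ(IM I, W),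
        z = SecTwist.tmul (IM I) (Od k n d) W b (rF (Od k n d) hW (eG d i)) ∧
        toFn (ap (ClSub.idealModι I) W b) ∈
          (Ideal.map (ρ' i) (Ideal.span (formSet I d))).map (rX hW) := by
      intro z hz
      unfold GGH8.spanAt at hz
      induction hz using Submodule.span_induction with
      | mem y hy =>
        obtain ⟨ν, rfl⟩ := hy
        obtain ⟨G, hGd, hG⟩ := exists_form I d (g ν)
        obtain ⟨aν, haν, haν'⟩ := hG i
        refine ⟨rF (IM I) hW aν, ?_, ?_⟩
        · show rF (HH I d) le_top (g ν) = _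
          rw [← rF_tmul, haν, rF_rF]
        · rw [ap_rF]
          show rX hW (toFn (ap (ClSub.idealModι I) (Ui k i) aν)) ∈ _
          rw [haν']
          apply Ideal.mem_map_of_mem
          apply Ideal.mem_map_of_mem
          apply Ideal.subset_span
          refine ⟨hGd, fun l => ?_⟩
          obtain ⟨al, _, hal'⟩ := hG l
          rw [← hal']
          exact idealModι_mem I (isAffine_Ui l) al
      | zero =>
        exact ⟨0, (tmul_zero_left _ _ _ _).symm, by rw [map_zero]; exact Ideal.zero_mem _⟩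
      | add y z _ _ hy hz =>
        obtain ⟨b1, rfl, h1⟩ := hy
        obtain ⟨b2, rfl, h2⟩ := hz
        exact ⟨b1 + b2, (tmul_add_left _ _ _ _ _ _).symm,
          by rw [map_add]; exact Ideal.add_mem _ h1 h2⟩
      | smul r y _ hy =>
        obtain ⟨b1, rfl, h1⟩ := hy
        exact ⟨r • b1, (tmul_smul_left _ _ _ _ _ _).symm,
          by rw [ap_smul]; exact Ideal.mul_mem_left _ _ h1⟩
    obtain ⟨b, hb, hbK⟩ := claim _ hspan
    rw [rF_tmul] at hb
    have hab : rF (IM I) hW a' = b :=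
      tmulGen_injective (IM I) (Od k n d) (isGen_eG d i) hW _ _ hb
    have hfin : rX hW a = toFn (ap (ClSub.idealModι I) W b) := by
      rw [← hab, ap_rF, ← ha']
      rfl
    rw [hfin]
    exact hbK
  · rw [Ideal.map_span, Ideal.span_le]
    rintro _ ⟨G, hG, rfl⟩
    exact hG.2 i

theorem main (hgg : Curv2.IsGloballyGenerated (HH I d)) :
    ∃ (N : ℕ) (s : Fin N → MvPolynomial (Fin (n + 1)) k), (∀ j, s j ∈ polyGrading n k d) ∧
      ∀ p : ℕ, Nonempty (ClSub.idealMod (I ^ p) ≅ iT ((Ideal.span (Set.range s)) ^ p)) := by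
  classical
  have hfg : (Ideal.span (formSet I d)).FG := IsNoetherian.noetherian _
  obtain ⟨s', hs's, hspan⟩ := (Submodule.fg_span_iff_fg_span_finset_subset (formSet I d)).mp hfg
  refine ⟨s'.card, fun j => (s'.equivFin.symm j).1,
    fun j => (hs's (s'.equivFin.symm j).2).1, fun p => ?_⟩
  have hrange : Set.range (fun j => ((s'.equivFin.symm j).1 : MvPolynomial (Fin (n + 1)) k)) =
      ↑s' := by
    ext y
    constructor
    · rintro ⟨j, rfl⟩
      exact (s'.equivFin.symm j).2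
    · intro hy
      exact ⟨s'.equivFin ⟨y, hy⟩, by simp⟩
  rw [hrange]
  have hJeq : Ideal.span (↑s' : Set (MvPolynomial (Fin (n + 1)) k)) =
      Ideal.span (formSet I d) := hspan.symm
  have hJhom : (Ideal.span (↑s' : Set (MvPolynomial (Fin (n + 1)) k))).IsHomogeneous
      (polyGrading n k) :=
    Ideal.homogeneous_span _ _ (fun y hy => ⟨d, (hs's hy).1⟩)
  have hJp := isHomogeneous_pow hJhom p
  haveI := isQuasicoherent_idealTilde _ hJp
  obtain ⟨e⟩ := Groth.Agent.HypIdeal.nonempty_iso_idealMod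
    (φ ((Ideal.span (↑s' : Set (MvPolynomial (Fin (n + 1)) k))) ^ p))
  have heq : TensH8.idealOfSub
      (φ ((Ideal.span (↑s' : Set (MvPolynomial (Fin (n + 1)) k))) ^ p)) = I ^ p := by
    apply Scheme.IdealSheafData.ext_of_iSup_eq_top
      (fun i : Fin (n + 1) =>
        (⟨Ui k i, isAffine_Ui i⟩ : (Proj (polyGrading n k)).affineOpens))
    · exact eq_top_iff.mpr (fun x _ => Opens.mem_iSup.mpr (chart_cover x))
    · intro i
      show TensH8.imgIdeal
        (φ ((Ideal.span (↑s' : Set (MvPolynomial (Fin (n + 1)) k))) ^ p)) (Ui k i) =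
        (I.ideal ⟨Ui k i, isAffine_Ui i⟩) ^ p
      rw [imgIdeal_φ_chart _ i hJp, Ideal.map_pow, ideal_chart_eq I d hgg i, hJeq]
  rw [heq] at e
  exact ⟨e.symm⟩

end Mu

open Groth.Agent.Lib.TlMapH1 in
theorem exists_forms_of_gg (k : Type u) [Field k] (n d : ℕ)
    (I : (CohB1.ProjSpace n k).IdealSheafData)
    (hd : Curv2.IsGloballyGenerated
      (CohB1.tensorMod (ClSub.idealMod I) (Twist.twistProjSpace n k (d : ℤ)))) :
    ∃ (N : ℕ) (s : Fin N → MvPolynomial (Fin (n + 1)) k),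
      (∀ j, s j ∈ CohB1.polyGrading n k d) ∧
      ∀ p : ℕ, 1 ≤ p → Nonempty (ClSub.idealMod (I ^ p) ≅
        idealTilde k n ((Ideal.span (Set.range s)) ^ p)) := by
  obtain ⟨N, s, hs, h⟩ := main (k := k) (n := n) I d hd
  exact ⟨N, s, hs, fun p _ => h p⟩

end Groth.Agent.Lib.IdealDict
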