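import Mathlib
import Groth.Prelude
import Groth.Agent.Lib.IdealDict_lead

/-!
# Ideal sheaves on projective space: negative twists (lead)

`isZero_of_gg_neg`: on `P^n_k` with `1 ≤ n`, if `I(d)` is globally generated for some `d < 0`,
then `I = 0`; in particular `idealMod (I^p)` is zero for all `p ≥ 1`.
-/

set_option autoImplicit false

namespace Groth.Agent.Lib.IdealDict

universe u

open CategoryTheory CategoryTheory.Limits AlgebraicGeometry TopologicalSpace Opposite MvPolynomial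
open Groth.Agent.ProjCech Groth.Agent.HypIdeal QCohExtn QcqsLoc SerreCrit GenLocH8 TensH8
open Groth.Agent.Lib.TlMapH1 HomogeneousLocalization CohB1

theorem isZero_of_sections {X : Scheme.{u}} (M : X.Modules)
    (h : ∀ (W : X.Opens) (s : Γ(M, W)), s = 0) : IsZero M := by
  rw [IsZero.iff_id_eq_zero]
  apply Scheme.Modules.hom_ext
  intro W
  ext s
  exact (h W _).trans (h W _).symm

variable {k : Type u} [Field k] {n : ℕ}

section Neg

/-- `O(d)`, `d : ℤ`. -/
noncomputable abbrev OdZ (k : Type u) [Field k] (n : ℕ) (d : ℤ) :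
    (Proj (polyGrading n k)).Modules :=
  Twist.twist (polyGrading n k) d

variable (I : (Proj (polyGrading n k)).IdealSheafData) (d : ℤ)

/-- `I(d)`. -/
noncomputable abbrev HZ : (Proj (polyGrading n k)).Modules := CohB1.tensorMod (IM I) (OdZ k n d)

/-- the multiplication `I ⊗ O(d) ⟶ O(d)`. -/
noncomputable def μZ : HZ I d ⟶ OdZ k n d :=
  (Groth.Agent.TensInv.tR (OdZ k n d)).map (ClSub.idealModι I) ≫
    (Groth.Agent.CMMul.unitorL (OdZ k n d)).hom

theorem μZ_tmul (W : (Proj (polyGrading n k)).Opens) (a : Γ(IM I, W)) (e : Γ(OdZ k n d, W)) :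
    ap (μZ I d) W (SecTwist.tmul (IM I) (OdZ k n d) W a e) =
      toFn (ap (ClSub.idealModι I) W a) • e := by
  have h1 := Groth.Agent.CMMul.ap_tR_map_tmul (ClSub.idealModι I) (OdZ k n d) W a e
  have h2 := Groth.Agent.CMMul.unitorL_tmul (OdZ k n d) W e (toFn (ap (ClSub.idealModι I) W a))
  show ap (Groth.Agent.CMMul.unitorL (OdZ k n d)).hom W
    (ap ((Groth.Agent.TensInv.tR (OdZ k n d)).map (ClSub.idealModι I)) W _) = _
  rw [h1]
  exact h2

/-- the generator of `O(d)` over `D_+(x_l)`. -/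
noncomputable def eZ (l : Fin (n + 1)) : Γ(OdZ k n d, Ui k l) :=
  Groth.Agent.ProjTw.genSecK (polyGrading n k) (LefPen.X_mem n k l) d d (by simp)

theorem isGen_eZ (l : Fin (n + 1)) : IsGen (OdZ k n d) (Ui k l) (eZ d l) :=
  Groth.Agent.ProjTw.isGen_genSecK (polyGrading n k) one_pos (LefPen.X_mem n k l) d d (by simp)

theorem subsingleton_global (hn : 1 ≤ n) (hd : d < 0) : Subsingleton Γ(OdZ k n d, ⊤) := by
  haveI := subsingleton_HH_twist (n := n) (R := k) d 0 (by omega) (by omega)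
  exact (Sheaf.H.equiv₀ (Coh.toAb (OdZ k n d)) Limits.isTerminalTop).symm.toEquiv.subsingleton

/-- if `I(d)` is globally generated with `d < 0` (and `n ≥ 1`), all sections of `I` vanish. -/
theorem sections_zero_of_gg_neg (hn : 1 ≤ n) (hd : d < 0)
    (hgg : Curv2.IsGloballyGenerated (HZ I d))
    (W : (Proj (polyGrading n k)).Opens) (a : Γ(IM I, W)) : a = 0 := by
  haveI := subsingleton_global (k := k) (n := n) d hn hd
  have step1 : ∀ t : Γ(HZ I d, ⊤), t = 0 := by
    intro t
    apply eq_zero_of_cover (HZ I d)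
    intro x _
    obtain ⟨l, hl⟩ := chart_cover x
    refine ⟨Ui k l, le_top, hl, ?_⟩
    obtain ⟨a', ha'⟩ := tmulGen_surjective (IM I) (OdZ k n d) (isGen_eZ d l) (le_refl (Ui k l))
      (rF (HZ I d) le_top t)
    rw [rF_self'] at ha'
    have h0 : ap (μZ I d) ⊤ t = 0 := Subsingleton.elim _ _
    have h1 : toFn (ap (ClSub.idealModι I) (Ui k l) a') • eZ (k := k) (n := n) d l = 0 := by
      rw [← μZ_tmul, ha', ap_rF, h0, map_zero]
    have hgen := isGen_eZ (k := k) (n := n) d l
    have h2 : toFn (ap (ClSub.idealModι I) (Ui k l) a') = 0 :=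
      (hgen (Ui k l) le_rfl).2 _ (by rw [rF_self']; exact h1)
    have h3 : a' = 0 := by
      haveI : Mono (ClSub.idealModι I) :=
        inferInstanceAs (Mono (kernel.ι (ClSub.toSubscheme I)))
      apply app_injective_of_mono' (ClSub.idealModι I) (Ui k l)
      rw [map_zero]
      exact h2
    rw [← ha', h3, tmul_zero_left]
  obtain ⟨ι, g, hls⟩ := GGH8.exists_locSpan hgg
  have step2 : ∀ (W' : (Proj (polyGrading n k)).Opens) (s : Γ(HZ I d, W')), s = 0 := by
    intro W' s
    apply eq_zero_of_cover (HZ I d)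
    intro x hx
    obtain ⟨W'', hW'', hxW'', hspan⟩ := hls W' s x hx
    refine ⟨W'', hW'', hxW'', ?_⟩
    have hbot : GGH8.spanAt (HZ I d) g W'' = ⊥ := by
      unfold GGH8.spanAt
      rw [Submodule.span_eq_bot]
      rintro _ ⟨ν, rfl⟩
      show rF (HZ I d) le_top (g ν) = 0
      rw [step1 (g ν), map_zero]
    rw [hbot] at hspan
    exact (Submodule.mem_bot _).mp hspan
  apply eq_zero_of_cover (IM I)
  intro x hx
  obtain ⟨l, hl⟩ := chart_cover x
  refine ⟨W ⊓ Ui k l, inf_le_left, ⟨hx, hl⟩, ?_⟩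
  apply tmulGen_injective (IM I) (OdZ k n d) (isGen_eZ d l)
    (inf_le_right : W ⊓ Ui k l ≤ Ui k l)
  exact (step2 _ _).trans (step2 _ _).symm

theorem eq_bot_of_gg_neg (hn : 1 ≤ n) (hd : d < 0)
    (hgg : Curv2.IsGloballyGenerated (HZ I d)) : I = ⊥ := by
  apply Scheme.IdealSheafData.ext
  funext U
  rw [Scheme.IdealSheafData.ideal_bot, Pi.bot_apply, eq_bot_iff]
  intro a ha
  obtain ⟨t, ht⟩ := exists_idealMod_section I U.2 a ha
  rw [sections_zero_of_gg_neg I d hn hd hgg U.1 t, map_zero] at ht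
  rw [← ht]
  exact Ideal.zero_mem _

theorem main_neg (hn : 1 ≤ n) (hd : d < 0) (hgg : Curv2.IsGloballyGenerated (HZ I d))
    (p : ℕ) (hp : 1 ≤ p) : IsZero (ClSub.idealMod (I ^ p)) := by
  have hI : I = ⊥ := eq_bot_of_gg_neg I d hn hd hgg
  have hIp : I ^ p = I := by
    rw [hI]
    exact zero_pow (by omega)
  rw [hIp]
  exact isZero_of_sections _ (fun W s => sections_zero_of_gg_neg I d hn hd hgg W s)

end Neg

theorem isZero_of_gg_neg (k : Type u) [Field k] (n : ℕ) (hn : 1 ≤ n) (d : ℤ) (hd0 : d < 0)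
    (I : (CohB1.ProjSpace n k).IdealSheafData)
    (hd : Curv2.IsGloballyGenerated
      (CohB1.tensorMod (ClSub.idealMod I) (Twist.twistProjSpace n k d))) :
    ∀ p : ℕ, 1 ≤ p → IsZero (ClSub.idealMod (I ^ p)) :=
  fun p hp => main_neg (k := k) (n := n) I d hn hd0 hd p hp

end Groth.Agent.Lib.IdealDict
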