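import Groth.Agent.Lib.IdealEtB_helper7
import Groth.Agent.Lib.RedInduced_helper7

/-!
# Closed subspaces and quasi-coherent sheaves of ideals (helper7)

* `isQCoh_idealOfRep`: the kernel family of a quasi-compact representable morphism is quasi-coherent.
* `isCutOutBy_of_isSchImage`, `isSchImage_of_isCutOutBy`: the scheme theoretic image is the closed
  subspace cut out by the kernel family.
* `exists_isCutOutBy`: every quasi-coherent family of ideals cuts out a closed subspace.
-/

set_option autoImplicit false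
universe u
open CategoryTheory CategoryTheory.Limits AlgebraicGeometry Opposite

namespace Groth.Agent.Lib.IdealEtCH7

open AlgSp Groth.Agent.Lib.IdealEtAH7 Groth.Agent.Lib.IdealEtBH7
  Groth.Agent.Lib.AlgSpPoints_helper7
  Groth.Agent.Lib.AlgSpPullback_helper7
  Groth.Agent.Lib.AlgSpQC_helper7 Groth.Agent.Lib.AlgSpFpqc_helper7 Groth.Agent.Lib.SchImageH7
  Groth.Agent.Lib.ImmDescendH7 Groth.Agent.Lib.RedFactorH7 Groth.Agent.Lib.AlgSpIso_helper7
  Groth.Agent.Lib.AlgSpUnram_helper7 Groth.Agent.Lib.SchImKerH7 Groth.Agent.Lib.SchImKTH7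
open Scheme (IdealSheafData)

variable {S : Scheme.{u}}

theorem isQCoh_idealOfRep {X Y : Sp S} {f : X ⟶ Y} (hf : Representable f)
    (hq : IsQuasiCompactMor f) : (idealOfRep hf).IsQCoh := by
  intro E E' g hE hE'
  have hrq := repWith_quasiCompact_of_isQuasiCompactMor f hf hq
  obtain ⟨l, sq, -⟩ := exists_isPullback_snd hf E.obj.hom g.hom.left E'.obj.hom (EtOver.w g)
  haveI : QuasiCompact (hf.snd E.obj.hom).left := hrq.property_snd E.obj.hom
  haveI : Etale g.hom.left.left := EtOver.etale_left g
  haveI : Flat g.hom.left.left := inferInstance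
  haveI : IsAffine E.obj.left.left := hE
  haveI : IsAffine E'.obj.left.left := hE'
  have h1 : (hf.snd E'.obj.hom).left.ker =
      (hf.snd E.obj.hom).left.ker.comap g.hom.left.left := by
    rw [← sq.isoPullback_hom_snd, Scheme.Hom.ker_comp_of_isIso]
    exact Groth.Agent.Lib.SchImage.ker_pullback_snd_of_flat _ _
  rw [Scheme.ker_of_isAffine, Scheme.ker_of_isAffine, comap_ofIdealTop] at h1
  have h2 := IdealSheafData.equivOfIsAffine.symm.injective h1
  show RingHom.ker (hf.snd E'.obj.hom).left.appTop.hom ≤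
    (RingHom.ker (hf.snd E.obj.hom).left.appTop.hom).map g.hom.left.left.appTop.hom
  rw [h2]

lemma repWith_id (P : MorphismProperty Scheme.{u}) [P.IsStableUnderBaseChange]
    [P.ContainsIdentities] (T : Over S) : RepWith P (𝟙 ((yon S).obj T)) := by
  rw [← CategoryTheory.Functor.map_id]
  exact (repWith_yon_map_iff _ _).2 (P.id_mem _)

/-- The chart data of a representable morphism: the chosen fibre product, with itself as atlas. -/
noncomputable def chartDataOfRep {X Y : Sp S} {f : X ⟶ Y} (hf : Representable f) {W : Over S}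
    (b : (yon S).obj W ⟶ Y) : ChartData f b where
  P := (yon S).obj (hf.pullback b)
  fst := hf.fst b
  snd := (yon S).map (hf.snd b)
  sq := hf.isPullback b
  T := hf.pullback b
  q := 𝟙 _
  hqe := repWith_id @Etale _
  hqs := repWith_id @Surjective _
  g := hf.snd b
  hg := (Category.id_comp _).symm

theorem isCutOutBy_of_isSchImage {X Y Z : Sp S} (hX : IsAlgSpace X) (hY : IsAlgSpace Y)
    {f : X ⟶ Y} (hf : Representable f) (hq : IsQuasiCompactMor f) {i : Z ⟶ Y}
    (hZ : IsSchImage f i) : IsCutOutBy (idealOfRep hf) i := by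
  refine ⟨hZ.1, ?_⟩
  have hrq := repWith_quasiCompact_of_isQuasiCompactMor f hf hq
  apply IdealEt.ext
  funext E hE
  haveI : QuasiCompact (hf.snd E.obj.hom).left := hrq.property_snd E.obj.hom
  haveI : IsClosedImmersion (hZ.1.rep.snd E.obj.hom).left := hZ.1.property_snd _
  haveI : QuasiCompact (chartDataOfRep hf E.obj.hom).g.left := hrq.property_snd E.obj.hom
  have hfl : LocP @Flat E.obj.hom :=
    Groth.Agent.Lib.AlgSpLocP_helper7.locP_of_repWith @Flat (fun _ _ g hg => inferInstance) _
      (repWith_mono (fun _ _ g (hg : Etale g) => (inferInstance : Flat g)) E.property)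
  have key := ker_eq_of_isSchImage hX hY f hq i hZ E.obj.hom hfl (chartDataOfRep hf E.obj.hom)
  have := congrArg (fun J => J.ideal ⟨⊤, @isAffineOpen_top _ hE⟩) key
  simp only [Scheme.Hom.ker_apply] at this
  exact this

theorem isSchImage_of_isCutOutBy {X Y Z : Sp S} (hY : IsAlgSpace Y)
    {f : X ⟶ Y} (hf : Representable f) {i : Z ⟶ Y}
    (h : IsCutOutBy (idealOfRep hf) i) : IsSchImage f i := by
  obtain ⟨hi, e⟩ := h
  refine ⟨hi, exists_factor_of_le hY hi hf ?_, ?_⟩
  · rw [e]; exact fun E hE => le_rfl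
  · rintro Z' i' hZ' hi' ⟨f'', hf''⟩
    have h1 : idealOfRep hi'.1 ≤ idealOfRep hf := le_of_factor hi'.1 hf f'' hf''
    rw [← e] at h1
    exact exists_factor_of_le hY hi' hi.1 h1

/-- Every quasi-coherent family of ideals on the small étale site cuts out a closed subspace. -/
theorem exists_isCutOutBy (X : Space S) (I : IdealEt X.obj) (hI : I.IsQCoh) :
    ∃ (Z : Space S) (i : Z ⟶ X), IsCutOutBy I i.hom := by
  obtain ⟨R, U, s, t, p, hp⟩ := Groth.Agent.Lib.RedInducedH7.exists_presentation X.property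
  have hpe := hp.etale
  have hw : (yon S).map t ≫ p = (yon S).map s ≫ p := hp.isPullback.w
  have hse : RepWith @Etale ((yon S).map s ≫ p) :=
    (repWith_isMultiplicative (S := S) @Etale).comp_mem _ _
      (repWith_snd_of_isPullback _ hp.isPullback hpe) hpe
  obtain ⟨J, hJd⟩ : ∃ J : U.left.IdealSheafData, J = sheafOn I hI p hpe := ⟨_, rfl⟩
  have hJ : J.comap s.left = J.comap t.left := by
    rw [hJd, sheafOn_comap I hI s p hpe _ hse rfl, sheafOn_comap I hI t p hpe _ hse hw]
  obtain ⟨s', t', hs, ht⟩ := exists_isPullback_of_comap_eq s.left t.left J hJ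
  obtain ⟨Z, i, q, -, sq, hcl, -⟩ :=
    exists_subspace X s t p hp J.subschemeι _ s' t' hs ht
  have hi : RepWith @IsClosedImmersion i.hom := hcl inferInstance
  refine ⟨Z, i, hi, ?_⟩
  have e3 : (hi.rep.snd p).left.ker = J :=
    (ker_eq_idl hi p _ q sq).symm.trans J.ker_subschemeι
  apply IdealEt.ext
  funext E hE
  have sqV := hpe.rep.isPullback' E.obj.hom
  haveI : Etale (hpe.rep.snd E.obj.hom).left := hpe.property_snd _
  haveI : Surjective (hpe.rep.snd E.obj.hom).left := hp.surjective.property_snd _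
  haveI : Flat (hpe.rep.snd E.obj.hom).left := inferInstance
  have hb₁ : RepWith @Etale ((yon S).map (hpe.rep.snd E.obj.hom) ≫ E.obj.hom) :=
    (repWith_isMultiplicative (S := S) @Etale).comp_mem _ _
      ((repWith_yon_map_iff _ _).2 (show Etale (hpe.rep.snd E.obj.hom).left from inferInstance))
      E.property
  have e1 := idl_comap hi E.obj.hom (hpe.rep.snd E.obj.hom)
  have e2 := idl_comap hi p (hpe.rep.fst' E.obj.hom)
  have e4 : ∀ (b₁ b₂ : (yon S).obj (hpe.rep.pullback E.obj.hom) ⟶ X.obj) (_ : b₁ = b₂),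
      (hi.rep.snd b₁).left.ker = (hi.rep.snd b₂).left.ker := by
    intro b₁ b₂ h; subst h; rfl
  have e5 : J.comap (hpe.rep.fst' E.obj.hom).left = _ :=
    hJd ▸ sheafOn_comap I hI (hpe.rep.fst' E.obj.hom) p hpe _ hb₁ sqV.w
  have e6 := sheafOn_comap I hI (hpe.rep.snd E.obj.hom) E.obj.hom E.property _ hb₁ rfl
  have key : (hi.rep.snd E.obj.hom).left.ker = sheafOn I hI E.obj.hom E.property := by
    apply comap_injective_of_flat_surjective (hpe.rep.snd E.obj.hom).left
    rw [← e1, e4 _ _ sqV.w.symm, e2, e3, e5, e6]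
  haveI : IsClosedImmersion (hi.rep.snd E.obj.hom).left := hi.property_snd _
  have h7 := congrArg (fun K => K.ideal ⟨⊤, @isAffineOpen_top _ hE⟩) key
  simp only [Scheme.Hom.ker_apply] at h7
  rw [sheafOn_ideal_top I hI E hE] at h7
  exact h7

end Groth.Agent.Lib.IdealEtCH7
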