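import Groth.Agent.Lib.IdealEtC_helper7
import Groth.Prelude.Def_AlgSpOX2

/-!
# The comparison map `O_X ⟶ i_* O_Z` of a closed immersion is locally surjective (helper7)
-/

set_option autoImplicit false
universe u
open CategoryTheory CategoryTheory.Limits AlgebraicGeometry Opposite

namespace Groth.Agent.Lib.IdealEtDH7

open AlgSp Groth.Agent.Lib.IdealEtAH7 Groth.Agent.Lib.IdealEtBH7

variable {S : Scheme.{u}}

theorem isLocallySurjective_bcRingHom {Z X : Sp S} {i : Z ⟶ X}
    (hi : RepWith @IsClosedImmersion i) :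
    Presheaf.IsLocallySurjective (etTop X) (bcRingHom hi.1).hom := by
  refine ⟨fun {E} s => ?_⟩
  refine (etTop X).superset_covering ?_
    (ofArrows_mem_etTop
      (fun k : E.obj.left.left.affineOpens => chartOpen E.obj.hom E.property k.1)
      (fun k => EtOver.homMk (openι E.obj.left k.1) rfl) ?_)
  · rw [Sieve.ofArrows, Sieve.generate_le_iff]
    rintro _ _ ⟨k⟩
    haveI : IsAffine (chartOpen E.obj.hom E.property k.1).obj.left.left := k.2
    haveI : IsClosedImmersion
        (hi.rep.snd (chartOpen E.obj.hom E.property k.1).obj.hom).left := hi.property_snd _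
    obtain ⟨-, hsurj⟩ := IsClosedImmersion.isAffine_surjective_of_isAffine
      (hi.rep.snd (chartOpen E.obj.hom E.property k.1).obj.hom).left
    obtain ⟨a, ha⟩ := hsurj (ULift.down
      (α := Γ((hi.rep.pullback (chartOpen E.obj.hom E.property k.1).obj.hom).left, ⊤))
      ((((EtOver.bc hi.1).sheafPushforwardContinuous RingCat.{u+1} (etTop X) (etTop Z)).obj
        (OEtRing Z)).obj.map
          (EtOver.homMk (openι E.obj.left k.1) rfl :
            chartOpen E.obj.hom E.property k.1 ⟶ E).op s))
    exact ⟨ULift.up a, ULift.ext _ _ ha⟩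
  · intro x
    obtain ⟨U, hxU, -⟩ := exists_affineOpen_mem_le _ ⊤ x trivial
    exact ⟨U, ⟨⟨x, hxU⟩, rfl⟩⟩

end Groth.Agent.Lib.IdealEtDH7
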