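import Groth.Agent.Lib.IdealEtC_helper7
import Groth.Agent.Lib.AlgSpLocP_helper7

/-!
# A closed immersion of algebraic spaces is locally of finite presentation iff its ideal is
finitely generated on affine étale charts (helper7)
-/

set_option autoImplicit false
universe u
open CategoryTheory CategoryTheory.Limits AlgebraicGeometry Opposite

namespace Groth.Agent.Lib.IdealEtEH7

open AlgSp Groth.Agent.Lib.IdealEtAH7 Groth.Agent.Lib.IdealEtBH7
  Groth.Agent.Lib.AlgSpQC_helper7 Groth.Agent.Lib.AlgSpLocP_helper7

variable {S : Scheme.{u}}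

theorem fg_ker_of_lfp {Z W : Scheme.{u}} (φ : Z ⟶ W) [IsClosedImmersion φ] [IsAffine W]
    [LocallyOfFinitePresentation φ] : (RingHom.ker φ.appTop.hom).FG := by
  obtain ⟨hZ, hsurj⟩ := IsClosedImmersion.isAffine_surjective_of_isAffine φ
  haveI := hZ
  have hfp : RingHom.FinitePresentation φ.appTop.hom :=
    (HasRingHomProperty.iff_of_isAffine (P := @LocallyOfFinitePresentation)).1 inferInstance
  algebraize [φ.appTop.hom]
  exact Algebra.FinitePresentation.ker_fG_of_surjective (Algebra.ofId Γ(W, ⊤) Γ(Z, ⊤)) hsurj

theorem lfp_of_fg_ker {Z W : Scheme.{u}} (φ : Z ⟶ W) [IsClosedImmersion φ] [IsAffine W]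
    (h : (RingHom.ker φ.appTop.hom).FG) : LocallyOfFinitePresentation φ := by
  obtain ⟨hZ, hsurj⟩ := IsClosedImmersion.isAffine_surjective_of_isAffine φ
  haveI := hZ
  exact (HasRingHomProperty.iff_of_isAffine (P := @LocallyOfFinitePresentation)).2
    (RingHom.FinitePresentation.of_surjective _ hsurj h)

theorem locP_lfp_iff_fg {Z X : Sp S} {i : Z ⟶ X} (hi : RepWith @IsClosedImmersion i) :
    LocP @LocallyOfFinitePresentation i ↔
      ∀ (E : EtOver X) (hE : IsAffine E.obj.left.left), ((idealOfRep hi.1).ideal E hE).FG := by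
  constructor
  · intro hL E hE
    have sq := hi.rep.isPullback E.obj.hom
    have hfe : RepWith @Etale (hi.rep.fst E.obj.hom) :=
      repWith_fst_of_isPullback _ sq E.property
    haveI : LocallyOfFinitePresentation (hi.rep.snd E.obj.hom).left :=
      hL (hi.rep.fst E.obj.hom) E.obj.hom (hi.rep.snd E.obj.hom) hfe E.property sq.w
    haveI : IsClosedImmersion (hi.rep.snd E.obj.hom).left := hi.property_snd _
    haveI : IsAffine E.obj.left.left := hE
    exact fg_ker_of_lfp (hi.rep.snd E.obj.hom).left
  · intro h U V a b g hae hbe comm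
    have sq := hi.rep.isPullback b
    have hfst : RepWith @Etale (hi.rep.fst b) := repWith_fst_of_isPullback _ sq hbe
    have hu1 : (yon S).map (hi.rep.lift a g comm) ≫ hi.rep.fst b = a := hi.rep.lift_fst a g comm
    have hu2 : hi.rep.lift a g comm ≫ hi.rep.snd b = g := hi.rep.lift_snd a g comm
    have hue : RepWith @Etale ((yon S).map (hi.rep.lift a g comm)) :=
      repWith_etale_of_comp _ (hi.rep.fst b) (by rw [hu1]; exact hae) hfst
    haveI hu : Etale (hi.rep.lift a g comm).left := (repWith_yon_map_iff _ _).1 hue
    have hs : LocallyOfFinitePresentation (hi.rep.snd b).left := by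
      refine (IsZariskiLocalAtTarget.iff_of_openCover (P := @LocallyOfFinitePresentation)
        V.left.affineCover).2 (fun k => ?_)
      let c : Over.mk (V.left.affineCover.f k ≫ V.hom) ⟶ V :=
        Over.homMk (V.left.affineCover.f k) rfl
      have hc : RepWith @Etale ((yon S).map c ≫ b) :=
        (repWith_isMultiplicative (S := S) @Etale).comp_mem _ _
          ((repWith_yon_map_iff _ _).2
            (show Etale (V.left.affineCover.f k) from inferInstance)) hbe
      obtain ⟨l, sqk, -⟩ := exists_isPullback_snd hi.rep b c _ rfl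
      have hA : IsAffine (EtOver.mk ((yon S).map c ≫ b) hc).obj.left.left :=
        inferInstanceAs (IsAffine (V.left.affineCover.X k))
      haveI : IsAffine (Over.mk (V.left.affineCover.f k ≫ V.hom)).left := hA
      haveI : IsClosedImmersion (hi.rep.snd ((yon S).map c ≫ b)).left := hi.property_snd _
      haveI : LocallyOfFinitePresentation (hi.rep.snd ((yon S).map c ≫ b)).left :=
        lfp_of_fg_ker _ (h (EtOver.mk ((yon S).map c ≫ b) hc) hA)
      have e : V.left.affineCover.pullbackHom (hi.rep.snd b).left k =
          sqk.isoPullback.inv ≫ (hi.rep.snd ((yon S).map c ≫ b)).left :=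
        (Iso.eq_inv_comp _).2 sqk.isoPullback_hom_snd
      rw [e]
      exact (MorphismProperty.cancel_left_of_respectsIso @LocallyOfFinitePresentation _ _).2 this
    have : g.left = (hi.rep.lift a g comm).left ≫ (hi.rep.snd b).left := by
      rw [← Over.comp_left, hu2]
    rw [this]
    infer_instance

end Groth.Agent.Lib.IdealEtEH7
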