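import Mathlib
import Groth.Prelude
import Groth.Agent.Lib.CurvePtInv6_helper9
import Groth.Agent.Lib.CycLen1_helper8

/-!
# The ideal sheaf of a closed point of a (possibly reducible) proper curve (helper9).
APPEND-ONLY once landed.
-/

set_option autoImplicit false
universe u
open CategoryTheory CategoryTheory.Limits AlgebraicGeometry Opposite TopologicalSpace

namespace IdealPt

section Stalk

variable {X : Scheme.{u}}

/-- a submodule of the structure sheaf is torsion free -/
theorem isTorsionFree_of_mono {F : X.Modules} (φ : F ⟶ Coh.structureModule X) [Mono φ] :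
    TorSh.IsTorsionFree F := by
  intro x
  have hO : FlatMod.IsFinLocFreeOfRank 1 (Coh.structureModule X) := fun y =>
    FLFH8.finLocFreeOfRank_one_of_isInvertible TensH8.isInvertible_structureModule y
  obtain ⟨hf, -⟩ := FLFH8.free_stalk_of_finLocFreeOfRank (Coh.structureModule X) hO x
  haveI := hf
  exact Function.Injective.moduleIsTorsionFree (Algz.stalkMapₗ φ x)
    (DescH8.stk_injective_of_mono φ x) (fun r m => map_smul (Algz.stalkMapₗ φ x) r m)

/-- away from the support, the stalk of an ideal sheaf has rank one -/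
theorem finrank_stalk_idealMod_of_notMem (Z : X.IdealSheafData) (η : X)
    (hη : η ∉ (Z.support : Set X)) :
    Module.finrank (X.presheaf.stalk η) ((ClSub.idealMod Z).presheaf.stalk η) = 1 := by
  have hS := Groth.Agent.HypSurf.ses_shortExact Z
  have hsub : Subsingleton ((ClSub.quotMod Z).presheaf.stalk η) := by
    by_contra h
    exact hη (CurveIdeal.support_quotMod_subset Z (Iso.refl _) h)
  have hinj := CycLenH8.stalk_injective _ hS η
  have hex := CycLenH8.stalk_exact _ hS η
  have hsurj : Function.Surjective (Algz.stalkMapₗ (Groth.Agent.HypSurf.ses Z).f η) := by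
    intro s
    haveI : Subsingleton ((Groth.Agent.HypSurf.ses Z).X₃.presheaf.stalk η) := hsub
    exact (hex s).mp (Subsingleton.elim _ _)
  have e : ((ClSub.idealMod Z).presheaf.stalk η) ≃ₗ[X.presheaf.stalk η]
      ((Coh.structureModule X).presheaf.stalk η) :=
    LinearEquiv.ofBijective (Algz.stalkMapₗ (Groth.Agent.HypSurf.ses Z).f η) ⟨hinj, hsurj⟩
  rw [e.finrank_eq]
  have hO : FlatMod.IsFinLocFreeOfRank 1 (Coh.structureModule X) := fun y =>
    FLFH8.finLocFreeOfRank_one_of_isInvertible TensH8.isInvertible_structureModule y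
  exact (FLFH8.free_stalk_of_finLocFreeOfRank (Coh.structureModule X) hO η).2

end Stalk

section Deg

variable (k : Type u) [Field k] (X : Scheme.{u}) [X.Over (Spec (CommRingCat.of k))]
  [IsProper (X ↘ Spec (CommRingCat.of k))]

/-- `χ(O) = χ(I) + deg Z` (no integrality) -/
theorem euler_structureModule_eq (Z : X.IdealSheafData)
    (hZ : topologicalKrullDim (Z.support : Set X) ≤ 0) :
    Curv2.euler k X (Coh.structureModule X) = Curv2.euler k X (ClSub.idealMod Z) +
      (Module.finrank k (Coh.HH X (ClSub.quotMod Z) 0) : ℤ) := by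
  haveI : IsLocallyNoetherian X :=
    LocallyOfFiniteType.isLocallyNoetherian (X ↘ Spec (CommRingCat.of k))
  have h := EulerField.euler_additive k X _ (Groth.Agent.HypSurf.ses_shortExact Z)
    (CurveIdeal.isCoh_idealMod Z) (CohDevH8.isCoh_structureModule X) (CurveIdeal.isCoh_quotMod Z)
  rw [← CurveDeg.euler_eq_finrank_of_closed_support k X _ (CurveIdeal.isCoh_quotMod Z)
    (CurveIdeal.isClosed_of_mem_support Z (Iso.refl _) hZ)]
  exact h

variable [IsAlgClosed k]

/-- over an algebraically closed field, `dim H⁰(O/I_q) = 1` for a closed point `q` -/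
theorem finrank_HH0_quotMod_point (q : X) (hq : IsClosed ({q} : Set X)) :
    Module.finrank k (Coh.HH X (ClSub.quotMod (Scheme.IdealSheafData.vanishingIdeal ⟨{q}, hq⟩)) 0)
      = 1 := by
  have h1 := CurvePtInv.finrank_HH0_quotMod_ker k
    (pointOfClosedPoint (X ↘ Spec (CommRingCat.of k)) q hq)
    (pointOfClosedPoint_comp (X ↘ Spec (CommRingCat.of k)) q hq)
  haveI : IsReduced (Spec (CommRingCat.of k)) := inferInstance
  have h2 : (pointOfClosedPoint (X ↘ Spec (CommRingCat.of k)) q hq).ker =
      Scheme.IdealSheafData.vanishingIdeal ⟨{q}, hq⟩ := by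
    apply CurvePtInv.ker_eq_vanishingIdeal_of_range
    ext y
    constructor
    · rintro ⟨a, rfl⟩
      exact pointOfClosedPoint_apply (X ↘ Spec (CommRingCat.of k)) q hq a
    · intro hy
      haveI : Nonempty ↥(Spec (CommRingCat.of k)) :=
        inferInstanceAs (Nonempty (PrimeSpectrum k))
      obtain ⟨a⟩ : Nonempty ↥(Spec (CommRingCat.of k)) := inferInstance
      exact ⟨a, (pointOfClosedPoint_apply (X ↘ Spec (CommRingCat.of k)) q hq a).trans
        (Set.mem_singleton_iff.mp hy).symm⟩
  rw [h2] at h1
  exact h1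

/-- the ideal sheaf of a closed point has degree `-1` -/
theorem deg_idealMod_point (q : X) (hq : IsClosed ({q} : Set X)) :
    Curv2.deg k X (ClSub.idealMod (Scheme.IdealSheafData.vanishingIdeal ⟨{q}, hq⟩)) 1 = -1 := by
  haveI : IsLocallyNoetherian X :=
    LocallyOfFiniteType.isLocallyNoetherian (X ↘ Spec (CommRingCat.of k))
  have hZ : topologicalKrullDim
      ((Scheme.IdealSheafData.vanishingIdeal ⟨{q}, hq⟩).support : Set X) ≤ 0 := by
    have h2 : ((Scheme.IdealSheafData.vanishingIdeal ⟨{q}, hq⟩).support : Set X) = {q} :=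
      Scheme.IdealSheafData.coe_support_vanishingIdeal _
    rw [h2]
    exact CurveSpec.dim_le_zero_of_closed_points {q} hq
      (fun y hy => by rw [Set.mem_singleton_iff.mp hy]; exact hq)
  have e := euler_structureModule_eq k X _ hZ
  rw [finrank_HH0_quotMod_point k X q hq] at e
  unfold Curv2.deg
  push_cast at e ⊢
  linarith

/-- **statement of S15922** -/
theorem main15922
    (hequi : ∀ Z ∈ irreducibleComponents (X : Type u), topologicalKrullDim Z = 1)
    (P : X) (hP : IsClosed ({P} : Set X)) :
    TorSh.IsTorsionFree (ClSub.idealMod (Scheme.IdealSheafData.vanishingIdeal ⟨{P}, hP⟩)) ∧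
    (∀ η : X, closure ({η} : Set X) ∈ irreducibleComponents (X : Type u) →
      Module.finrank (X.presheaf.stalk η)
        ((ClSub.idealMod (Scheme.IdealSheafData.vanishingIdeal ⟨{P}, hP⟩)).presheaf.stalk η) = 1) ∧
    Curv2.deg k X (ClSub.idealMod (Scheme.IdealSheafData.vanishingIdeal ⟨{P}, hP⟩)) 1 = -1 := by
  refine ⟨?_, ?_, deg_idealMod_point k X P hP⟩
  · haveI : Mono (ClSub.idealModι (Scheme.IdealSheafData.vanishingIdeal ⟨{P}, hP⟩)) :=
      CurveIdeal.mono_idealModι _
    exact isTorsionFree_of_mono (ClSub.idealModι _)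
  · intro η hη
    apply finrank_stalk_idealMod_of_notMem
    have h2 : ((Scheme.IdealSheafData.vanishingIdeal ⟨{P}, hP⟩).support : Set X) = {P} :=
      Scheme.IdealSheafData.coe_support_vanishingIdeal _
    rw [h2, Set.mem_singleton_iff]
    intro h
    subst h
    have h3 := hequi _ hη
    rw [hP.closure_eq] at h3
    haveI : IsLocallyNoetherian X :=
      LocallyOfFiniteType.isLocallyNoetherian (X ↘ Spec (CommRingCat.of k))
    have h4 : topologicalKrullDim ({η} : Set X) ≤ 0 :=
      CurveSpec.dim_le_zero_of_closed_points {η} hP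
        (fun y hy => by rw [Set.mem_singleton_iff.mp hy]; exact hP)
    rw [h3] at h4
    exact absurd h4 (by decide)

end Deg

end IdealPt
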