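import Mathlib
import Groth.Prelude
import Groth.Agent.Lib.Snap19_helper9
import Groth.Agent.Lib.ClosHt_helper8

/-!
# Euler characteristic of `E ⊗ F` on a proper scheme all of whose components are curves, as a sum
over the irreducible components (S17659, helper9).  APPEND-ONLY once landed.
-/

set_option autoImplicit false
universe u
open CategoryTheory CategoryTheory.Limits AlgebraicGeometry Opposite TopologicalSpace

namespace Snap9

section Curve2

open Groth.Agent.TensInv

variable (k : Type u) [Field k] (X : Scheme.{u}) [X.Over (Spec (CommRingCat.of k))]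
  [IsProper (X ↘ Spec (CommRingCat.of k))]

/-- a scheme all of whose irreducible components have dimension one has dimension `≤ 1` -/
theorem topDim_le_one_of_components
    (hdim : ∀ Z ∈ irreducibleComponents (X : Type u), topologicalKrullDim Z = 1) :
    topologicalKrullDim X ≤ 1 := by
  rw [Groth.Agent.ClosHtH8.topologicalKrullDim_eq_iSup_height X]
  refine iSup_le fun a => ?_
  rw [← Groth.Agent.ClosHtH8.topologicalKrullDim_closure_singleton X a]
  obtain ⟨W, hWirr, haW, hWmax⟩ := exists_preirreducible (closure ({a} : Set X))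
    isIrreducible_singleton.closure.isPreirreducible
  have hWcomp : W ∈ irreducibleComponents (X : Type u) := by
    refine ⟨⟨⟨a, haW (subset_closure rfl)⟩, hWirr⟩, ?_⟩
    intro V hV hWV
    exact (hWmax V hV.2 hWV).le
  rw [← hdim W hWcomp]
  exact (Topology.IsInducing.topologicalKrullDim_le
    (f := Set.inclusion haW) (Topology.IsInducing.of_comp
      (continuous_inclusion haW) continuous_subtype_val
      (by
        have : (Subtype.val : W → X) ∘ Set.inclusion haW = Subtype.val := rfl
        rw [this]
        exact Topology.IsInducing.subtypeVal)))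

/-- **S17659** -/
theorem main17659 [IsNoetherian X]
    (hdim : ∀ Z ∈ irreducibleComponents (X : Type u), topologicalKrullDim Z = 1)
    (n : ℕ) (E : X.Modules) (hE : FlatMod.IsFinLocFreeOfRank n E) (F : X.Modules)
    (hF : Coh.IsCoh F) :
    Curv2.euler k X (CohB1.tensorMod E F) =
      (∑ᶠ Z : irreducibleComponents (X : Type u),
        ((Module.length (X.presheaf.stalk Z.2.1.genericPoint)
          (F.presheaf.stalk Z.2.1.genericPoint)).toNat : ℤ) *
          @Curv2.deg k _ (X.irreducibleComponentIdeal Z.1 Z.2).radical.subscheme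
            ⟨(X.irreducibleComponentIdeal Z.1 Z.2).radical.subschemeι ≫
              (X ↘ (Spec (CommRingCat.of k)))⟩
            ((Scheme.Modules.pullback
              (X.irreducibleComponentIdeal Z.1 Z.2).radical.subschemeι).obj E) n) +
        (n : ℤ) * Curv2.euler k X F := by
  have hdimX : topologicalKrullDim X ≤ 1 := topDim_le_one_of_components X hdim
  have hFsupp : topologicalKrullDim ↥(CohB1.support F) ≤ ((1 : ℕ) : WithBot ℕ∞) := by
    rw [Nat.cast_one]
    exact (topologicalKrullDim_subspace_le X _).trans hdimX
  have h := hom_eq_finsum (phiHom k X E n hE) 1 (fun G hG hd => by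
    rw [phiHom_clSub k X E n hE G hG]
    exact phi_eq_zero_of_dim k X E n hE G hG hd) F hF hFsupp
  rw [phiHom_clSub k X E n hE _ hF] at h
  have hphi : Curv2.euler k X (CohB1.tensorMod E F) =
      DegPull.phi k X E n F + (n : ℤ) * Curv2.euler k X F := by
    unfold DegPull.phi
    rw [CurveTens.euler_of_iso k X (comm E F)]
    ring
  rw [hphi, h]
  congr 1
  set g : X → ℤ := fun ξ =>
    (if topologicalKrullDim (closure ({ξ} : Set X)) = ((1 : ℕ) : WithBot ℕ∞) then
      ((Module.length (X.presheaf.stalk ξ) (F.presheaf.stalk ξ)).toNat : ℤ) *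
        phiHom k X E n hE (KZero.clSub (fun M : X.Modules => Coh.IsCoh M)
          (Cyc.closureStructureSheaf ξ)) else 0) with hg
  let e : irreducibleComponents (X : Type u) → X := fun Z => Z.2.1.genericPoint
  have he : ∀ Z : irreducibleComponents (X : Type u), closure ({e Z} : Set X) = Z.1 := fun Z =>
    Z.2.1.closure_genericPoint (isClosed_of_mem_irreducibleComponents Z.1 Z.2)
  have hinj : Function.Injective e := fun Z W hZW => Subtype.ext (by rw [← he Z, ← he W, hZW])
  have hterm : ∀ Z : irreducibleComponents (X : Type u),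
      ((Module.length (X.presheaf.stalk Z.2.1.genericPoint)
          (F.presheaf.stalk Z.2.1.genericPoint)).toNat : ℤ) *
          @Curv2.deg k _ (X.irreducibleComponentIdeal Z.1 Z.2).radical.subscheme
            ⟨(X.irreducibleComponentIdeal Z.1 Z.2).radical.subschemeι ≫
              (X ↘ (Spec (CommRingCat.of k)))⟩
            ((Scheme.Modules.pullback
              (X.irreducibleComponentIdeal Z.1 Z.2).radical.subschemeι).obj E) n = g (e Z) := by
    intro Z
    have hideal : (X.irreducibleComponentIdeal Z.1 Z.2).radical = IntMult.ptIdeal (e Z) := by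
      rw [← Scheme.IdealSheafData.vanishingIdeal_support]
      unfold IntMult.ptIdeal
      congr 1
      apply TopologicalSpace.Closeds.ext
      exact (he Z).symm
    simp only [hg]
    rw [he Z, Nat.cast_one, if_pos (hdim Z.1 Z.2)]
    rw [phiHom_clSub k X E n hE _ (CohDevH8.isCoh_closureStructureSheaf (e Z))]
    have hq : DegPull.phi k X E n (Cyc.closureStructureSheaf (e Z)) =
        DegPull.phi k X E n (ClSub.quotMod (IntMult.ptIdeal (e Z))) := rfl
    rw [hq, phi_quotMod k X E n hE, deg_subscheme_congr k X E n hideal]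
  rw [finsum_congr hterm]
  rw [← finsum_mem_range hinj, ← finsum_mem_univ g]
  apply finsum_mem_inter_support_eq'
  intro ξ hξ
  refine ⟨fun _ => ?_, fun _ => Set.mem_univ _⟩
  have hd1 : topologicalKrullDim (closure ({ξ} : Set X)) = ((1 : ℕ) : WithBot ℕ∞) := by
    by_contra hne
    apply hξ
    simp only [hg]
    rw [if_neg hne]
  obtain ⟨W, hWirr, hξW, hWmax⟩ := exists_preirreducible (closure ({ξ} : Set X))
    isIrreducible_singleton.closure.isPreirreducible
  have hWcomp : W ∈ irreducibleComponents (X : Type u) := by
    refine ⟨⟨⟨ξ, hξW (subset_closure rfl)⟩, hWirr⟩, ?_⟩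
    intro V hV hWV
    exact (hWmax V hV.2 hWV).le
  refine ⟨⟨W, hWcomp⟩, ?_⟩
  have hη := he ⟨W, hWcomp⟩
  have hηW : e ⟨W, hWcomp⟩ ⤳ ξ := by
    rw [specializes_iff_mem_closure, hη]
    exact hξW (subset_closure rfl)
  have hdimU : topologicalKrullDim ↥(Set.univ : Set X) ≤ ((1 : ℕ) : WithBot ℕ∞) := by
    rw [Nat.cast_one, (Homeomorph.Set.univ X).isHomeomorph.topologicalKrullDim_eq]
    exact hdimX
  exact CycLenH8.eq_of_specializes_of_dim isClosed_univ hdimU (Set.mem_univ _) hηW hd1

end Curve2

end Snap9
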