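import Mathlib
import Groth.Prelude
import Groth.Agent.Lib.IdealPt_helper9
import Groth.Agent.Lib.Snap19b_helper9
import Groth.Agent.Lib.Regular_helper5
import Groth.Agent.Lib.DefTrivArt5_helper3
import Groth.Agent.Lib.JacDimSch2_helper3
import Groth.Agent.Lib.Curve1_helper8

/-!
# The ideal sheaf of a closed point of a reduced curve is invertible iff the point is smooth
(helper9).  APPEND-ONLY once landed.
-/

set_option autoImplicit false
universe u
open CategoryTheory CategoryTheory.Limits AlgebraicGeometry Opposite TopologicalSpace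

namespace IdealPt

open QcqsLoc QCohExtn GenLocH8 TensH8 FLFH8 CohB1 SerreCrit

section Dim

variable {X : Scheme.{u}}

/-- the local ring at a closed point of a scheme all of whose components are curves has
dimension one -/
theorem ringKrullDim_stalk_of_closed' [IsLocallyNoetherian X]
    (hequi : ∀ Z ∈ irreducibleComponents (X : Type u), topologicalKrullDim Z = 1)
    {x : X} (hx : IsClosed ({x} : Set X)) : ringKrullDim (X.presheaf.stalk x) = 1 := by
  rw [AlgebraicGeometry.ringKrullDim_stalk_eq_coheight]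
  have hsup := Groth.Agent.BCDimSchH8.dim_eq_iSup_coheight X
  have hdim := Snap9.topDim_le_one_of_components X hequi
  have hle : ((Order.coheight x : ℕ∞) : WithBot ℕ∞) ≤ 1 := by
    refine le_trans ?_ hdim
    rw [hsup]
    exact le_iSup (fun y : X => ((Order.coheight y : ℕ∞) : WithBot ℕ∞)) x
  have hne : Order.coheight x ≠ 0 := by
    intro h0
    have hmax : IsMax x := Order.coheight_eq_zero.mp h0
    have h1 := CurveH8.closure_mem_irreducibleComponents hmax
    have h2 := hequi _ h1
    rw [hx.closure_eq] at h2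
    have h4 : topologicalKrullDim ({x} : Set X) ≤ 0 :=
      CurveSpec.dim_le_zero_of_closed_points {x} hx
        (fun y hy => by rw [Set.mem_singleton_iff.mp hy]; exact hx)
    rw [h2] at h4
    exact absurd h4 (by decide)
  have h1 : Order.coheight x ≤ 1 := by exact_mod_cast hle
  have h6 : Order.coheight x = 1 := le_antisymm h1 (ENat.one_le_iff_ne_zero.mpr hne)
  rw [h6]
  rfl

/-- the ideal sheaf of a regular closed point is invertible -/
theorem isInvertible_idealMod_point' [IsLocallyNoetherian X]
    (hequi : ∀ Z ∈ irreducibleComponents (X : Type u), topologicalKrullDim Z = 1)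
    {x : X} (hx : IsClosed ({x} : Set X)) (hreg : IsRegularLocalRing (X.presheaf.stalk x)) :
    PicF.IsInvertible (ClSub.idealMod (Scheme.IdealSheafData.vanishingIdeal ⟨{x}, hx⟩)) := by
  have h2 : ((Scheme.IdealSheafData.vanishingIdeal ⟨{x}, hx⟩).support : Set X) = {x} :=
    Scheme.IdealSheafData.coe_support_vanishingIdeal _
  apply TensH8.isInvertible_idealMod_of_isEffCartierIdeal
  apply Groth.Agent.EffCartierUFD.main_general
  · intro z _
    have h0 : (Scheme.IdealSheafData.vanishingIdeal ⟨{x}, hx⟩).subschemeι z ∈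
        ((Scheme.IdealSheafData.vanishingIdeal ⟨{x}, hx⟩).support : Set X) := by
      rw [← Scheme.IdealSheafData.range_subschemeι]
      exact ⟨z, rfl⟩
    rw [h2, Set.mem_singleton_iff] at h0
    rw [h0]
    exact ringKrullDim_stalk_of_closed' hequi hx
  · intro y hy
    have hy' : y ∈ ((Scheme.IdealSheafData.vanishingIdeal ⟨{x}, hx⟩).support : Set X) := hy
    rw [h2, Set.mem_singleton_iff] at hy'
    subst hy'
    haveI := hreg
    haveI : IsDomain (X.presheaf.stalk y) := Groth.Agent.RegularLib.isDomain _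
    exact ⟨inferInstance,
      CurvePtInv.ufd_of_regular_dim_one _ (ringKrullDim_stalk_of_closed' hequi hx)⟩

/-- if the ideal sheaf of a closed point is invertible, the local ring there is regular -/
theorem regular_of_isInvertible_idealMod_point [IsLocallyNoetherian X]
    (hequi : ∀ Z ∈ irreducibleComponents (X : Type u), topologicalKrullDim Z = 1)
    {x : X} (hx : IsClosed ({x} : Set X))
    (hinv : PicF.IsInvertible
      (ClSub.idealMod (Scheme.IdealSheafData.vanishingIdeal ⟨{x}, hx⟩))) :
    IsRegularLocalRing (X.presheaf.stalk x) := by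
  obtain ⟨I, hI⟩ : ∃ I : X.IdealSheafData, I = Scheme.IdealSheafData.vanishingIdeal ⟨{x}, hx⟩ :=
    ⟨_, rfl⟩
  rw [← hI] at hinv
  obtain ⟨W, hW, hxW, t, ht⟩ := GenLocH8.exists_isGen hinv x
  obtain ⟨f, hf⟩ : ∃ f : Γ(X, W), f = toFn (ap (ClSub.idealModι I) W t) := ⟨_, rfl⟩
  have hIW : I.ideal ⟨W, hW⟩ = Ideal.span {f} := by
    apply le_antisymm
    · intro a ha
      obtain ⟨s, hs⟩ := TensH8.exists_idealMod_section I hW a ha
      obtain ⟨c, hc⟩ := (ht W le_rfl).1 s
      rw [Ideal.mem_span_singleton']
      refine ⟨c, ?_⟩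
      rw [← hs, hc, TensH8.idealModι_smul, TensH8.idealModι_rF, hf]
      congr 1
      exact (X.presheaf.map_id_apply _ _).symm
    · rw [Ideal.span_singleton_le_iff_mem, hf]
      exact TensH8.idealModι_mem I hW t
  have hprime : I.ideal ⟨W, hW⟩ = (hW.primeIdealOf ⟨x, hxW⟩).asIdeal := by
    rw [hI]
    exact CurvePt.vanishingIdeal_ideal_eq hx hW hxW
  letI := TopCat.Presheaf.algebra_section_stalk X.presheaf (⟨x, hxW⟩ : W)
  haveI : IsLocalization.AtPrime (X.presheaf.stalk x) (hW.primeIdealOf ⟨x, hxW⟩).asIdeal :=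
    hW.isLocalization_stalk ⟨x, hxW⟩
  have hm : IsLocalRing.maximalIdeal (X.presheaf.stalk x) =
      Ideal.span {algebraMap Γ(X, W) (X.presheaf.stalk x) f} := by
    rw [← IsLocalization.AtPrime.map_eq_maximalIdeal (hW.primeIdealOf ⟨x, hxW⟩).asIdeal
      (X.presheaf.stalk x), ← hprime, hIW, Ideal.map_span, Set.image_singleton]
  apply IsRegularLocalRing.of_spanFinrank_maximalIdeal_le
  rw [ringKrullDim_stalk_of_closed' hequi hx, hm]
  have h1 := Submodule.spanFinrank_span_le_ncard_of_finite (R := X.presheaf.stalk x)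
    (Set.finite_singleton (algebraMap Γ(X, W) (X.presheaf.stalk x) f))
  rw [Set.ncard_singleton] at h1
  have h2 : ((Submodule.spanFinrank (Ideal.span
      {algebraMap Γ(X, W) (X.presheaf.stalk x) f}) : ℕ) : WithBot ℕ∞) ≤ ((1 : ℕ) : WithBot ℕ∞) := by
    exact_mod_cast h1
  exact h2

end Dim

section Main

variable (k : Type u) [Field k] [IsAlgClosed k] (X : Scheme.{u}) [X.Over (Spec (CommRingCat.of k))]
  [IsProper (X ↘ Spec (CommRingCat.of k))]

/-- **statement of S15923** -/
theorem main15923
    (hequi : ∀ Z ∈ irreducibleComponents (X : Type u), topologicalKrullDim Z = 1)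
    (P : X) (hP : IsClosed ({P} : Set X)) :
    PicF.IsInvertible (ClSub.idealMod (Scheme.IdealSheafData.vanishingIdeal ⟨{P}, hP⟩)) ↔
      ∃ U : X.Opens, P ∈ U ∧ Smooth (U.ι ≫ (X ↘ (Spec (CommRingCat.of k)))) := by
  haveI : IsLocallyNoetherian X :=
    LocallyOfFiniteType.isLocallyNoetherian (X ↘ Spec (CommRingCat.of k))
  haveI : LocallyOfFinitePresentation (X ↘ Spec (CommRingCat.of k)) :=
    LocallyOfFinitePresentation.iff_locallyOfFiniteType.mpr inferInstance
  constructor
  · intro hinv
    have hreg := regular_of_isInvertible_idealMod_point hequi hP hinv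
    obtain ⟨φ, hφ⟩ := Groth.Agent.Lib.SmoothRegFieldH3.exists_bijective_stalk_spec_field k
      (genericPoint (Spec (CommRingCat.of k)))
    haveI : IsAlgClosed (Spec (CommRingCat.of k)).functionField :=
      IsAlgClosed.of_ringEquiv (k := k) _ (RingEquiv.ofBijective φ hφ)
    haveI : PerfectField (Spec (CommRingCat.of k)).functionField := inferInstance
    haveI : Subsingleton ↥(Spec (CommRingCat.of k)) :=
      inferInstanceAs (Subsingleton (PrimeSpectrum k))
    have hmem := Groth.Agent.Lib.GenSmoothRegH6.mem_smoothLocus_of_regular_of_perfect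
      (X ↘ Spec (CommRingCat.of k)) P (Subsingleton.elim _ _) hreg
    refine ⟨(X ↘ Spec (CommRingCat.of k)).smoothLocus, hmem, ?_⟩
    rw [← Scheme.Hom.smoothLocus_eq_top_iff, ← Scheme.Hom.preimage_smoothLocus_eq]
    ext y
    refine ⟨fun _ => trivial, fun _ => ?_⟩
    exact y.2
  · rintro ⟨U, hPU, hsm⟩
    haveI := hsm
    have h1 := Groth.Agent.Lib.JacDimSchH3.regular_stalk_of_smooth_field (k := k)
      (U.ι ≫ (X ↘ Spec (CommRingCat.of k))) ⟨P, hPU⟩
    have e := asIso (U.ι.stalkMap ⟨P, hPU⟩)
    haveI := h1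
    have hreg : IsRegularLocalRing (X.presheaf.stalk P) :=
      IsRegularLocalRing.of_ringEquiv e.commRingCatIsoToRingEquiv.symm
    exact isInvertible_idealMod_point' hequi hP hreg

end Main

end IdealPt
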