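import Mathlib
import Groth.Agent.Lib.IdemApx2_helper5

/-!
# Descent of finitely generated projective modules from `Â[1/t]` to `A[1/t]` (helper5)
-/

set_option autoImplicit false
set_option maxHeartbeats 1000000
universe u

open Matrix TensorProduct

namespace Groth.Agent.Lib.IdemApxH5

open Groth.Agent.Lib.LaurApproxH1

section General

variable {Λ : Type u} [CommRing Λ]

/-- a finitely generated projective module is the image of an idempotent matrix -/
theorem exists_idem_matrix (M : Type u) [AddCommGroup M] [Module Λ M] [Module.Finite Λ M]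
    [Module.Projective Λ M] :
    ∃ (b : ℕ) (E : Matrix (Fin b) (Fin b) Λ), E * E = E ∧
      Nonempty (M ≃ₗ[Λ] LinearMap.range (Matrix.toLin' E)) := by
  classical
  obtain ⟨b, f, g, hf, hg, hfg⟩ := Module.Finite.exists_comp_eq_id_of_projective Λ M
  obtain ⟨p, hp⟩ : ∃ p : (Fin b → Λ) →ₗ[Λ] (Fin b → Λ), p = g ∘ₗ f := ⟨_, rfl⟩
  have hpp : p ∘ₗ p = p := by
    rw [hp, LinearMap.comp_assoc, ← LinearMap.comp_assoc f g, hfg, LinearMap.id_comp]
  refine ⟨b, LinearMap.toMatrix' p, ?_, ?_⟩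
  · rw [← LinearMap.toMatrix'_comp, hpp]
  · rw [Matrix.toLin'_toMatrix']
    have hr : LinearMap.range p = LinearMap.range g := by
      rw [hp, LinearMap.range_comp_of_range_eq_top _ (LinearMap.range_eq_top.2 hf)]
    rw [hr]
    exact ⟨LinearEquiv.ofInjective g hg⟩

theorem toLin'_apply_of_mem {b : ℕ} (E : Matrix (Fin b) (Fin b) Λ) (hE : E * E = E)
    (x : Fin b → Λ) (hx : x ∈ LinearMap.range (Matrix.toLin' E)) : Matrix.toLin' E x = x := by
  obtain ⟨z, rfl⟩ := hx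
  rw [← LinearMap.comp_apply, ← Matrix.toLin'_mul, hE]

/-- the image of an idempotent matrix is finitely generated projective -/
theorem range_idem_projective {b : ℕ} (E : Matrix (Fin b) (Fin b) Λ) (hE : E * E = E) :
    Module.Finite Λ (LinearMap.range (Matrix.toLin' E)) ∧
      Module.Projective Λ (LinearMap.range (Matrix.toLin' E)) := by
  refine ⟨Module.Finite.range _, ?_⟩
  refine Module.Projective.of_split (LinearMap.range (Matrix.toLin' E)).subtype
    ((Matrix.toLin' E).rangeRestrict) ?_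
  refine LinearMap.ext fun ⟨x, hx⟩ => ?_
  simp only [LinearMap.comp_apply, Submodule.subtype_apply, LinearMap.id_apply]
  apply Subtype.ext
  exact toLin'_apply_of_mem E hE x hx

/-- nearby idempotent matrices have isomorphic images -/
theorem range_equiv_of_close {b : ℕ} (E₁ E₂ : Matrix (Fin b) (Fin b) Λ) (h₁ : E₁ * E₁ = E₁)
    (h₂ : E₂ * E₂ = E₂) (hu : IsUnit (1 - (E₁ - E₂) * (E₁ - E₂))) :
    Nonempty (LinearMap.range (Matrix.toLin' E₁) ≃ₗ[Λ] LinearMap.range (Matrix.toLin' E₂)) := by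
  classical
  obtain ⟨U, hU⟩ : ∃ U : Matrix (Fin b) (Fin b) Λ, U = E₁ * E₂ + (1 - E₁) * (1 - E₂) := ⟨_, rfl⟩
  obtain ⟨U', hU'⟩ : ∃ U' : Matrix (Fin b) (Fin b) Λ, U' = E₂ * E₁ + (1 - E₂) * (1 - E₁) :=
    ⟨_, rfl⟩
  have hUU' : U * U' = 1 - (E₁ - E₂) * (E₁ - E₂) := by
    rw [hU, hU']
    have e1 : (E₁ * E₂ + (1 - E₁) * (1 - E₂)) * (E₂ * E₁ + (1 - E₂) * (1 - E₁)) =
        E₁ * (E₂ * E₂) * E₁ + E₁ * (E₂ * (1 - E₂)) * (1 - E₁) + (1 - E₁) * ((1 - E₂) * E₂) * E₁
          + (1 - E₁) * ((1 - E₂) * (1 - E₂)) * (1 - E₁) := by noncomm_ring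
    have e2 : E₂ * (1 - E₂) = 0 := by rw [mul_sub, mul_one, h₂, sub_self]
    have e3 : (1 - E₂) * E₂ = 0 := by rw [sub_mul, one_mul, h₂, sub_self]
    have e4 : (1 - E₂) * (1 - E₂) = 1 - E₂ := by
      rw [mul_sub, mul_one, e3, sub_zero]
    rw [e1, h₂, e2, e3, e4, mul_zero, zero_mul, mul_zero, zero_mul, add_zero, add_zero]
    have e5 : E₁ * E₂ * E₁ + (1 - E₁) * (1 - E₂) * (1 - E₁) =
        1 - E₁ - E₁ + E₁ * E₁ - E₂ + E₁ * E₂ + E₂ * E₁ := by noncomm_ring
    have e6 : 1 - (E₁ - E₂) * (E₁ - E₂) = 1 - E₁ * E₁ + E₁ * E₂ + E₂ * E₁ - E₂ * E₂ := by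
      noncomm_ring
    rw [e5, e6, h₁, h₂]
    abel
  have hdet : IsUnit U.det := by
    have h3 := (Matrix.isUnit_iff_isUnit_det _).1 hu
    rw [← hUU', Matrix.det_mul] at h3
    exact isUnit_of_mul_isUnit_left h3
  have hUunit : IsUnit U := (Matrix.isUnit_iff_isUnit_det _).2 hdet
  have hE₁U : E₁ * U = U * E₂ := by
    rw [hU]
    have e1 : E₁ * (E₁ * E₂ + (1 - E₁) * (1 - E₂)) =
        (E₁ * E₁) * E₂ + (E₁ - E₁ * E₁) * (1 - E₂) := by noncomm_ring
    have e2 : (E₁ * E₂ + (1 - E₁) * (1 - E₂)) * E₂ =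
        E₁ * (E₂ * E₂) + (1 - E₁) * (E₂ - E₂ * E₂) := by noncomm_ring
    rw [e1, e2, h₁, h₂, sub_self, sub_self, zero_mul, mul_zero]
  -- the linear automorphism given by `U`
  obtain ⟨Uu, hUu⟩ := hUunit
  let e : (Fin b → Λ) ≃ₗ[Λ] (Fin b → Λ) :=
    LinearEquiv.ofLinear (Matrix.toLin' (Uu : Matrix (Fin b) (Fin b) Λ))
      (Matrix.toLin' ((Uu⁻¹ : (Matrix (Fin b) (Fin b) Λ)ˣ) : Matrix (Fin b) (Fin b) Λ))
      (by rw [← Matrix.toLin'_mul, Units.mul_inv, Matrix.toLin'_one])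
      (by rw [← Matrix.toLin'_mul, Units.inv_mul, Matrix.toLin'_one])
  have hmap : (LinearMap.range (Matrix.toLin' E₂)).map (e : (Fin b → Λ) →ₗ[Λ] (Fin b → Λ)) =
      LinearMap.range (Matrix.toLin' E₁) := by
    rw [← LinearMap.range_comp]
    have h4 : (e : (Fin b → Λ) →ₗ[Λ] (Fin b → Λ)) ∘ₗ Matrix.toLin' E₂ =
        Matrix.toLin' E₁ ∘ₗ (e : (Fin b → Λ) →ₗ[Λ] (Fin b → Λ)) := by
      show Matrix.toLin' (Uu : Matrix (Fin b) (Fin b) Λ) ∘ₗ Matrix.toLin' E₂ =
        Matrix.toLin' E₁ ∘ₗ Matrix.toLin' (Uu : Matrix (Fin b) (Fin b) Λ)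
      rw [← Matrix.toLin'_mul, ← Matrix.toLin'_mul, hUu, hE₁U]
    rw [h4, LinearMap.range_comp_of_range_eq_top _ (LinearEquiv.range e)]
  exact ⟨((e.submoduleMap (LinearMap.range (Matrix.toLin' E₂))).trans
    (LinearEquiv.ofEq _ _ hmap)).symm⟩

end General

section Main

variable (A : Type u) [CommRing A] (t : A) [Algebra (Lt A t) (Lh A t)]
  (halg : algebraMap (Lt A t) (Lh A t) = Localization.awayMap (algebraMap A (Ah A t)) t)

include halg in
/-- S19778: every finitely generated projective `Â[1/t]`-module descends to `A[1/t]` -/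
theorem main19778 [HenselianRing A (Ideal.span {t})]
    (hbd : ∃ N : ℕ, ∀ a : A, (∃ m : ℕ, t ^ m * a = 0) → t ^ N * a = 0)
    (M' : Type u) [AddCommGroup M'] [Module (Lh A t) M'] [Module.Finite (Lh A t) M']
    [Module.Projective (Lh A t) M'] :
    ∃ (M : Type u) (_ : AddCommGroup M) (_ : Module (Lt A t) M),
      Module.Finite (Lt A t) M ∧ Module.Projective (Lt A t) M ∧
      Nonempty ((Lh A t) ⊗[Lt A t] M ≃ₗ[Lh A t] M') := by
  classical
  have ht : t ∈ (⊥ : Ideal A).jacobson :=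
    (HenselianRing.jac (R := A) (I := Ideal.span {t})) (Ideal.mem_span_singleton_self t)
  obtain ⟨D, hD⟩ : ∃ D : ApproxData (Lt A t) (Lh A t), D.F = GA A t :=
    ⟨approxDataAdic A t halg ht, rfl⟩
  obtain ⟨b, E', hE', ⟨e1⟩⟩ := exists_idem_matrix (Λ := Lh A t) M'
  obtain ⟨E, hE, hclose⟩ := exists_idem_approx A t halg hbd E' hE' 1
  obtain ⟨hfin, hproj⟩ := range_idem_projective E hE
  refine ⟨LinearMap.range (Matrix.toLin' E), inferInstance, inferInstance, hfin, hproj, ?_⟩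
  obtain ⟨e2⟩ := ApproxData.nonempty_baseChange_range_equiv (L' := Lh A t) E hE
  have hE₁ : E.map (algebraMap (Lt A t) (Lh A t)) * E.map (algebraMap (Lt A t) (Lh A t)) =
      E.map (algebraMap (Lt A t) (Lh A t)) := by
    rw [← Matrix.map_mul, hE]
  have hu : IsUnit (1 - (E.map (algebraMap (Lt A t) (Lh A t)) - E') *
      (E.map (algebraMap (Lt A t) (Lh A t)) - E')) := by
    have hs : D.Small 1 (E' - E.map (algebraMap (Lt A t) (Lh A t))) := by
      intro i j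
      rw [hD, Matrix.sub_apply, Matrix.map_apply]
      exact hclose i j
    have hs2 := (hs.mul hs).mono (show (1 : ℤ) ≤ 1 + 1 by norm_num)
    have := D.isUnit_one_sub_of_small' _ hs2
    have e : (E.map (algebraMap (Lt A t) (Lh A t)) - E') *
        (E.map (algebraMap (Lt A t) (Lh A t)) - E') =
        (E' - E.map (algebraMap (Lt A t) (Lh A t))) *
          (E' - E.map (algebraMap (Lt A t) (Lh A t))) := by noncomm_ring
    rw [e]
    exact this
  obtain ⟨e3⟩ := range_equiv_of_close _ _ hE₁ hE' hu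
  exact ⟨e2.trans (e3.trans e1.symm)⟩

end Main

end Groth.Agent.Lib.IdemApxH5
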