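import Mathlib
import Groth.Agent.Lib.IdemApx3_helper5

/-!
# Descent of finitely generated projective modules along a dense map, given approximation of
idempotent matrices; transport of approximation data along a ring isomorphism (helper5)
-/

set_option autoImplicit false
set_option maxHeartbeats 1000000
universe u

open Matrix TensorProduct

namespace Groth.Agent.Lib.IdemApxH5

open Groth.Agent.Lib.LaurApproxH1

section Generic

variable {L L' : Type u} [CommRing L] [CommRing L'] [Algebra L L'] (D : ApproxData L L')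

/-- If idempotent matrices over `L'` can be approximated by idempotent matrices over `L`, then every
finitely generated projective `L'`-module descends to `L`. -/
theorem exists_descent_of_idem_approx
    (happ : ∀ (n : ℕ) (E' : Matrix (Fin n) (Fin n) L'), E' * E' = E' →
      ∃ E : Matrix (Fin n) (Fin n) L, E * E = E ∧ D.Small 1 (E' - E.map (algebraMap L L')))
    (M' : Type u) [AddCommGroup M'] [Module L' M'] [Module.Finite L' M']
    [Module.Projective L' M'] :
    ∃ (M : Type u) (_ : AddCommGroup M) (_ : Module L M),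
      Module.Finite L M ∧ Module.Projective L M ∧ Nonempty (L' ⊗[L] M ≃ₗ[L'] M') := by
  classical
  obtain ⟨b, E', hE', ⟨e1⟩⟩ := exists_idem_matrix (Λ := L') M'
  obtain ⟨E, hE, hs⟩ := happ b E' hE'
  obtain ⟨hfin, hproj⟩ := range_idem_projective E hE
  refine ⟨LinearMap.range (Matrix.toLin' E), inferInstance, inferInstance, hfin, hproj, ?_⟩
  obtain ⟨e2⟩ := ApproxData.nonempty_baseChange_range_equiv (L' := L') E hE
  have hE₁ : E.map (algebraMap L L') * E.map (algebraMap L L') = E.map (algebraMap L L') := by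
    rw [← Matrix.map_mul, hE]
  have hu : IsUnit (1 - (E.map (algebraMap L L') - E') * (E.map (algebraMap L L') - E')) := by
    have hs2 := (hs.mul hs).mono (show (1 : ℤ) ≤ 1 + 1 by norm_num)
    have := D.isUnit_one_sub_of_small' _ hs2
    have e : (E.map (algebraMap L L') - E') * (E.map (algebraMap L L') - E') =
        (E' - E.map (algebraMap L L')) * (E' - E.map (algebraMap L L')) := by noncomm_ring
    rw [e]
    exact this
  obtain ⟨e3⟩ := range_equiv_of_close _ _ hE₁ hE' hu
  exact ⟨e2.trans (e3.trans e1.symm)⟩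

end Generic

section Transport

variable {L L₁ L₂ : Type u} [CommRing L] [CommRing L₁] [CommRing L₂] [Algebra L L₁] [Algebra L L₂]

/-- transport of approximation data along a ring isomorphism of the targets -/
noncomputable def transportData (D : ApproxData L L₁) (Ξ : L₁ ≃+* L₂)
    (hΞ : ∀ y : L, Ξ (algebraMap L L₁ y) = algebraMap L L₂ y) : ApproxData L L₂ where
  F := fun k => (D.F k).comap Ξ.symm.toRingHom.toAddMonoidHom
  anti := fun h => AddSubgroup.comap_mono (D.anti h)
  mul_mem := fun {j k x y} hx hy => by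
    show Ξ.symm (x * y) ∈ D.F (j + k)
    rw [map_mul]
    exact D.mul_mem hx hy
  one_mem := by
    show Ξ.symm 1 ∈ D.F 0
    rw [map_one]
    exact D.one_mem
  exists_mem := fun x => D.exists_mem (Ξ.symm x)
  dense := fun x c => by
    obtain ⟨y, hy⟩ := D.dense (Ξ.symm x) c
    refine ⟨y, ?_⟩
    show Ξ.symm (x - algebraMap L L₂ y) ∈ D.F c
    rw [map_sub, ← hΞ, RingEquiv.symm_apply_apply]
    exact hy
  unit_of_small := fun y hy => by
    apply D.unit_of_small
    have h : Ξ.symm (algebraMap L L₂ y) ∈ D.F 1 := hy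
    rwa [← hΞ, RingEquiv.symm_apply_apply] at h
  unit_of_small' := fun z hz => by
    have h : IsUnit (1 - Ξ.symm z) := D.unit_of_small' _ hz
    have h2 : 1 - z = Ξ (1 - Ξ.symm z) := by
      rw [map_sub, map_one, RingEquiv.apply_symm_apply]
    rw [h2]
    exact h.map Ξ

theorem transportData_F (D : ApproxData L L₁) (Ξ : L₁ ≃+* L₂)
    (hΞ : ∀ y : L, Ξ (algebraMap L L₁ y) = algebraMap L L₂ y) (k : ℤ) (x : L₂) :
    x ∈ (transportData D Ξ hΞ).F k ↔ Ξ.symm x ∈ D.F k := Iff.rfl

/-- transport of the idempotent approximation property -/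
theorem transport_idem_approx (D : ApproxData L L₁) (Ξ : L₁ ≃+* L₂)
    (hΞ : ∀ y : L, Ξ (algebraMap L L₁ y) = algebraMap L L₂ y)
    (happ : ∀ (n : ℕ) (E' : Matrix (Fin n) (Fin n) L₁), E' * E' = E' →
      ∃ E : Matrix (Fin n) (Fin n) L, E * E = E ∧ D.Small 1 (E' - E.map (algebraMap L L₁)))
    (n : ℕ) (E' : Matrix (Fin n) (Fin n) L₂) (hE' : E' * E' = E') :
    ∃ E : Matrix (Fin n) (Fin n) L, E * E = E ∧
      (transportData D Ξ hΞ).Small 1 (E' - E.map (algebraMap L L₂)) := by
  have h1 : E'.map Ξ.symm * E'.map Ξ.symm = E'.map Ξ.symm := by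
    rw [← Matrix.map_mul, hE']
  obtain ⟨E, hE, hs⟩ := happ n (E'.map Ξ.symm) h1
  refine ⟨E, hE, fun i j => ?_⟩
  rw [transportData_F, Matrix.sub_apply, Matrix.map_apply, map_sub, ← hΞ,
    RingEquiv.symm_apply_apply]
  exact hs i j

end Transport

end Groth.Agent.Lib.IdemApxH5
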