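import Mathlib
import Groth.Agent.Lib.GabberFactor_lead

/-!
# Ideals of `R[s]` and of `R[t]_Σ` missing the closed fibre (helper3)

`R` henselian local, `L = Σ⁻¹ R[t]` with `Σ` generated by `t` and the polynomials with constant term
`1`, `ψ : R[s] → L`, `s ↦ t⁻¹`.
-/

set_option autoImplicit false
universe u

open Polynomial IsLocalRing

namespace Groth.Agent.Lib.LaurentIdealsH3

section Reflect

variable {R : Type u} [CommRing R] {L : Type u} [CommRing L] [Algebra R[X] L] [Algebra R L]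
  [IsScalarTower R R[X] L] (ψ : R[X] →ₐ[R] L) (hψ : ψ X * algebraMap R[X] L X = 1)

theorem eval₂_psi (g : R[X]) : eval₂ (algebraMap R L) (ψ X) g = ψ g := by
  rw [← aeval_def, aeval_algHom_apply, aeval_X_left, AlgHom.id_apply]

omit [IsScalarTower R R[X] L] in
theorem eval₂_psi' (g : R[X]) : eval₂ (algebraMap R L) (ψ X) g = ψ g := by
  rw [← aeval_def, aeval_algHom_apply, aeval_X_left, AlgHom.id_apply]

theorem eval₂_algebraMap (f : R[X]) :
    eval₂ (algebraMap R L) (algebraMap R[X] L X) f = algebraMap R[X] L f := by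
  have := eval₂_psi' (IsScalarTower.toAlgHom R R[X] L) f
  exact this

include hψ in
theorem psi_reflect (N : ℕ) (f : R[X]) (hf : f.natDegree ≤ N) :
    ψ (reflect N f) = algebraMap R[X] L f * ψ X ^ N := by
  letI : Invertible (algebraMap R[X] L X) := ⟨ψ X, hψ, by rw [mul_comm]; exact hψ⟩
  have h := eval₂_reflect_mul_pow (algebraMap R L) (algebraMap R[X] L X) N f hf
  have h0 : ⅟(algebraMap R[X] L X) = ψ X := rfl
  rw [h0, eval₂_psi' ψ, eval₂_algebraMap] at h
  calc ψ (reflect N f) = ψ (reflect N f) * (algebraMap R[X] L X * ψ X) ^ N := by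
        rw [mul_comm (algebraMap R[X] L X), hψ, one_pow, mul_one]
    _ = (ψ (reflect N f) * algebraMap R[X] L X ^ N) * ψ X ^ N := by rw [mul_pow]; ring
    _ = algebraMap R[X] L f * ψ X ^ N := by rw [h]

include hψ in
theorem algebraMap_reflect (N : ℕ) (g : R[X]) (hg : g.natDegree ≤ N) :
    algebraMap R[X] L (reflect N g) = ψ g * algebraMap R[X] L X ^ N := by
  letI : Invertible (ψ X) := ⟨algebraMap R[X] L X, by rw [mul_comm]; exact hψ, hψ⟩
  have h := eval₂_reflect_mul_pow (algebraMap R L) (ψ X) N g hg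
  have h0 : ⅟(ψ X) = algebraMap R[X] L X := rfl
  rw [h0, eval₂_psi' ψ, eval₂_algebraMap] at h
  calc algebraMap R[X] L (reflect N g)
      = algebraMap R[X] L (reflect N g) * (ψ X * algebraMap R[X] L X) ^ N := by
        rw [hψ, one_pow, mul_one]
    _ = (algebraMap R[X] L (reflect N g) * ψ X ^ N) * algebraMap R[X] L X ^ N := by
        rw [mul_pow]; ring
    _ = ψ g * algebraMap R[X] L X ^ N := by rw [h]

theorem monic_reflect {f : R[X]} (hf : f.coeff 0 = 1) : (reflect f.natDegree f).Monic := by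
  apply monic_of_natDegree_le_of_coeff_eq_one f.natDegree
  · exact natDegree_reflect_le.trans (le_of_eq (max_self _))
  · rw [coeff_reflect, revAt_le (le_refl _), Nat.sub_self, hf]

end Reflect

section Loc

variable {R : Type u} [CommRing R] {L : Type u} [CommRing L] [Algebra R[X] L]
  [IsLocalization (Submonoid.closure ({f : R[X] | f.coeff 0 = 1} ∪ {X})) L]
  [Algebra R L] [IsScalarTower R R[X] L]
  (ψ : R[X] →ₐ[R] L) (hψ : ψ X * algebraMap R[X] L X = 1)

omit [IsLocalization (Submonoid.closure ({f : R[X] | f.coeff 0 = 1} ∪ {X})) L] [Algebra R[X] L]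
  [Algebra R L] [IsScalarTower R R[X] L] in
theorem closure_le_nonZeroDivisors :
    Submonoid.closure ({f : R[X] | f.coeff 0 = 1} ∪ {X}) ≤ nonZeroDivisors R[X] := by
  rw [Submonoid.closure_le]
  rintro f (hf | hf)
  · rw [SetLike.mem_coe, Polynomial.mem_nonZeroDivisors_iff]
    intro a ha
    have h1 := congrArg (fun p : R[X] => p.coeff 0) ha
    simp only [coeff_smul, smul_eq_mul, coeff_zero] at h1
    have hf' : f.coeff 0 = 1 := hf
    rwa [hf', mul_one] at h1
  · rw [Set.mem_singleton_iff] at hf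
    rw [hf]
    exact X_mem_nonzeroDivisors

include hψ in
theorem psi_injective : Function.Injective ψ := by
  rw [injective_iff_map_eq_zero]
  intro g hg
  have h := algebraMap_reflect ψ hψ g.natDegree g le_rfl
  rw [hg, zero_mul] at h
  have h2 : reflect g.natDegree g = 0 :=
    (IsLocalization.to_map_eq_zero_iff L closure_le_nonZeroDivisors).1 h
  exact reflect_eq_zero_iff.1 h2

include hψ in
theorem exists_monic_of_mem_closure (σ : R[X])
    (hσ : σ ∈ Submonoid.closure ({f : R[X] | f.coeff 0 = 1} ∪ {X})) :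
    ∃ Q : R[X], ∃ n : ℕ, Q.Monic ∧ algebraMap R[X] L σ * ψ X ^ n = ψ Q := by
  induction hσ using Submonoid.closure_induction with
  | mem f hf =>
    rcases hf with hf | hf
    · exact ⟨reflect f.natDegree f, f.natDegree, monic_reflect hf,
        (psi_reflect ψ hψ f.natDegree f le_rfl).symm⟩
    · rw [Set.mem_singleton_iff] at hf
      refine ⟨1, 1, monic_one, ?_⟩
      rw [hf, pow_one, mul_comm, hψ, map_one]
  | one => exact ⟨1, 0, monic_one, by rw [map_one, pow_zero, mul_one, map_one]⟩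
  | mul σ₁ σ₂ _ _ h₁ h₂ =>
    obtain ⟨Q₁, n₁, hQ₁, e₁⟩ := h₁
    obtain ⟨Q₂, n₂, hQ₂, e₂⟩ := h₂
    refine ⟨Q₁ * Q₂, n₁ + n₂, hQ₁.mul hQ₂, ?_⟩
    rw [map_mul, map_mul, ← e₁, ← e₂, pow_add]
    ring

include hψ in
/-- every element of `L` is `ψ g / ψ Q` with `Q` monic -/
theorem exists_monic_mul (l : L) : ∃ Q g : R[X], Q.Monic ∧ l * ψ Q = ψ g := by
  obtain ⟨p, σ, rfl⟩ := IsLocalization.exists_mk'_eq
    (Submonoid.closure ({f : R[X] | f.coeff 0 = 1} ∪ {X})) l
  obtain ⟨Q, n, hQ, e⟩ := exists_monic_of_mem_closure ψ hψ σ σ.2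
  have hp := psi_reflect ψ hψ p.natDegree p le_rfl
  refine ⟨Q * X ^ p.natDegree, reflect p.natDegree p * X ^ n, hQ.mul (monic_X_pow _), ?_⟩
  rw [map_mul, map_mul, map_pow, map_pow, hp, ← e]
  have := IsLocalization.mk'_spec L p σ
  calc IsLocalization.mk' L p σ * (algebraMap R[X] L σ * ψ X ^ n * ψ X ^ p.natDegree)
      = (IsLocalization.mk' L p σ * algebraMap R[X] L σ) * ψ X ^ n * ψ X ^ p.natDegree := by ring
    _ = algebraMap R[X] L p * ψ X ^ p.natDegree * ψ X ^ n := by rw [this]; ring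

end Loc

section Nak

variable {R : Type u} [CommRing R] [IsLocalRing R]

/-- a monic polynomial is a unit modulo an ideal comaximal with `m R[s]` -/
theorem exists_mul_sub_one_mem (I : Ideal R[X])
    (hI : I ⊔ (maximalIdeal R).map (algebraMap R R[X]) = ⊤) (P : R[X]) (hP : P.Monic) :
    ∃ u : R[X], P * u - 1 ∈ I := by
  set K : Ideal R[X] := I ⊔ Ideal.span {P} with hK
  have hPK : Ideal.span {P} ≤ K := le_sup_right
  haveI : Module.Finite R (R[X] ⧸ Ideal.span {P}) := hP.finite_adjoinRoot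
  haveI : Module.Finite R (R[X] ⧸ K) :=
    Module.Finite.of_surjective (Ideal.Quotient.factorₐ R hPK).toLinearMap
      (Ideal.Quotient.factor_surjective hPK)
  have h1 : (1 : R[X]) ∈ I ⊔ (maximalIdeal R).map (algebraMap R R[X]) := by rw [hI]; trivial
  obtain ⟨i, hi, z, hz, hiz⟩ := Submodule.mem_sup.1 h1
  have htop : (⊤ : Submodule R (R[X] ⧸ K)) ≤ maximalIdeal R • ⊤ := by
    intro x _
    obtain ⟨f, rfl⟩ := Ideal.Quotient.mk_surjective x
    have hf : f = f * i + f * z := by rw [← mul_add, hiz, mul_one]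
    have h2 : Ideal.Quotient.mk K (f * i) = 0 :=
      Ideal.Quotient.eq_zero_iff_mem.2 (le_sup_left (a := I) (Ideal.mul_mem_left _ _ hi))
    have h3 : f * z ∈ (maximalIdeal R • ⊤ : Submodule R R[X]) := by
      rw [Ideal.smul_top_eq_map]
      exact Ideal.mul_mem_left _ _ hz
    have h4 : Ideal.Quotient.mk K (f * z) ∈ (maximalIdeal R • ⊤ : Submodule R (R[X] ⧸ K)) := by
      refine Submodule.smul_induction_on h3 ?_ ?_
      · intro a ha y _
        have : Ideal.Quotient.mk K (a • y) = a • Ideal.Quotient.mk K y := by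
          rw [Algebra.smul_def, map_mul, Algebra.smul_def]
          rfl
        rw [this]
        exact Submodule.smul_mem_smul ha Submodule.mem_top
      · intro x y hx hy
        rw [map_add]
        exact add_mem hx hy
    rw [hf, map_add, h2, zero_add]
    exact h4
  have hbot := Submodule.eq_bot_of_le_smul_of_le_jacobson_bot (maximalIdeal R)
    (⊤ : Submodule R (R[X] ⧸ K)) Module.Finite.fg_top htop
    (IsLocalRing.maximalIdeal_le_jacobson _)
  have hKtop : K = ⊤ := by
    rw [← Ideal.Quotient.subsingleton_iff]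
    refine ⟨fun a b => ?_⟩
    have ha : a ∈ (⊤ : Submodule R (R[X] ⧸ K)) := trivial
    have hb : b ∈ (⊤ : Submodule R (R[X] ⧸ K)) := trivial
    rw [hbot, Submodule.mem_bot] at ha hb
    rw [ha, hb]
  have h5 : (1 : R[X]) ∈ I ⊔ Ideal.span {P} := by rw [← hK, hKtop]; trivial
  obtain ⟨i', hi', w, hw, hiw⟩ := Submodule.mem_sup.1 h5
  obtain ⟨u, rfl⟩ := Ideal.mem_span_singleton'.1 hw
  refine ⟨u, ?_⟩
  have : P * u - 1 = -i' := by rw [← hiw]; ring
  rw [this]
  exact neg_mem hi'

end Nak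

section Main

variable (R : Type u) [CommRing R] [HenselianLocalRing R] (L : Type u) [CommRing L]
  [Algebra R[X] L]
  [IsLocalization (Submonoid.closure ({f : R[X] | f.coeff 0 = 1} ∪ {X})) L]
  [Algebra R L] [IsScalarTower R R[X] L]
  (ψ : R[X] →ₐ[R] L) (hψ : ψ X * algebraMap R[X] L X = 1)

include hψ in
theorem part1 (I : Ideal R[X])
    (hI : I ⊔ (maximalIdeal R).map (algebraMap R R[X]) = ⊤) :
    (I.map ψ.toRingHom).comap ψ.toRingHom = I ∧
      I.map ψ.toRingHom ⊔ (maximalIdeal R).map (algebraMap R L) = ⊤ ∧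
      Function.Bijective
        (Ideal.quotientMap (I.map ψ.toRingHom) ψ.toRingHom Ideal.le_comap_map) := by
  -- contraction of the extension
  have hcomap : (I.map ψ.toRingHom).comap ψ.toRingHom ≤ I := by
    intro g hg
    rw [Ideal.mem_comap] at hg
    -- every element of `I L` is `ψ i / ψ Q`
    have key : ∀ y ∈ I.map ψ.toRingHom, ∃ Q i' : R[X], Q.Monic ∧ i' ∈ I ∧ y * ψ Q = ψ i' := by
      intro y hy
      unfold Ideal.map at hy
      refine Submodule.span_induction (p := fun y _ => ∃ Q i' : R[X], Q.Monic ∧ i' ∈ I ∧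
        y * ψ Q = ψ i') ?_ ?_ ?_ ?_ hy
      · rintro _ ⟨i, hi, rfl⟩
        exact ⟨1, i, monic_one, hi, by rw [map_one, mul_one]; rfl⟩
      · exact ⟨1, 0, monic_one, zero_mem _, by rw [zero_mul, map_zero]⟩
      · rintro y₁ y₂ _ _ ⟨Q₁, i₁, hQ₁, hi₁, e₁⟩ ⟨Q₂, i₂, hQ₂, hi₂, e₂⟩
        refine ⟨Q₁ * Q₂, i₁ * Q₂ + i₂ * Q₁, hQ₁.mul hQ₂,
          add_mem (Ideal.mul_mem_right _ _ hi₁) (Ideal.mul_mem_right _ _ hi₂), ?_⟩
        rw [map_mul, map_add, map_mul, map_mul, ← e₁, ← e₂]
        ring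
      · rintro l y _ ⟨Q, i', hQ, hi', e⟩
        obtain ⟨Q', g', hQ', e'⟩ := exists_monic_mul ψ hψ l
        refine ⟨Q' * Q, g' * i', hQ'.mul hQ, Ideal.mul_mem_left _ _ hi', ?_⟩
        rw [map_mul, map_mul, ← e, ← e', smul_eq_mul]
        ring
    obtain ⟨Q, i', hQ, hi', e⟩ := key _ hg
    have h1 : g * Q = i' := by
      apply psi_injective ψ hψ
      rw [map_mul]
      exact e
    obtain ⟨u, hu⟩ := exists_mul_sub_one_mem I hI Q hQ
    have h2 : g = g * Q * u - g * (Q * u - 1) := by ring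
    rw [h2, h1]
    exact sub_mem (Ideal.mul_mem_right _ _ hi') (Ideal.mul_mem_left _ _ hu)
  have hcomap' : (I.map ψ.toRingHom).comap ψ.toRingHom = I :=
    le_antisymm hcomap Ideal.le_comap_map
  refine ⟨hcomap', ?_, ?_, ?_⟩
  · -- comaximality
    rw [eq_top_iff]
    have h1 : (1 : R[X]) ∈ I ⊔ (maximalIdeal R).map (algebraMap R R[X]) := by rw [hI]; trivial
    obtain ⟨i, hi, z, hz, hiz⟩ := Submodule.mem_sup.1 h1
    have h2 : ψ z ∈ (maximalIdeal R).map (algebraMap R L) := by
      have : (maximalIdeal R).map (algebraMap R L) =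
          ((maximalIdeal R).map (algebraMap R R[X])).map ψ.toRingHom := by
        rw [Ideal.map_map]
        congr 1
        exact ψ.comp_algebraMap.symm
      rw [this]
      exact Ideal.mem_map_of_mem _ hz
    have h3 : (1 : L) = ψ i + ψ z := by rw [← map_add, hiz, map_one]
    intro x _
    have : x = x * ψ i + x * ψ z := by rw [← mul_add, ← h3, mul_one]
    rw [this]
    exact add_mem (Ideal.mem_sup_left (Ideal.mul_mem_left _ _ (Ideal.mem_map_of_mem _ hi)))
      (Ideal.mem_sup_right (Ideal.mul_mem_left _ _ h2))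
  · -- injectivity
    rw [injective_iff_map_eq_zero]
    intro x hx
    obtain ⟨g, rfl⟩ := Ideal.Quotient.mk_surjective x
    rw [Ideal.quotientMap_mk, Ideal.Quotient.eq_zero_iff_mem] at hx
    rw [Ideal.Quotient.eq_zero_iff_mem]
    exact hcomap hx
  · -- surjectivity
    intro y
    obtain ⟨l, rfl⟩ := Ideal.Quotient.mk_surjective y
    obtain ⟨Q, g, hQ, e⟩ := exists_monic_mul ψ hψ l
    obtain ⟨u, hu⟩ := exists_mul_sub_one_mem I hI Q hQ
    refine ⟨Ideal.Quotient.mk I (g * u), ?_⟩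
    rw [Ideal.quotientMap_mk, Ideal.Quotient.eq]
    have : ψ.toRingHom (g * u) - l = l * ψ (Q * u - 1) := by
      show ψ (g * u) - l = _
      rw [map_mul, ← e, map_sub, map_mul, map_one]
      ring
    rw [this]
    exact Ideal.mul_mem_left _ _ (Ideal.mem_map_of_mem _ hu)

include hψ in
theorem exists_mem_comap (J : Ideal L)
    (hJ : J ⊔ (maximalIdeal R).map (algebraMap R L) = ⊤) :
    ∃ g : R[X], ψ g ∈ J ∧ g - 1 ∈ (maximalIdeal R).map (algebraMap R R[X]) := by
  classical
  have h1 : (1 : L) ∈ J ⊔ (maximalIdeal R).map (algebraMap R L) := by rw [hJ]; trivial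
  obtain ⟨j, hj, z, hz, hjz⟩ := Submodule.mem_sup.1 h1
  have hmap : (maximalIdeal R).map (algebraMap R L) =
      ((maximalIdeal R).map (algebraMap R R[X])).map (algebraMap R[X] L) := by
    rw [Ideal.map_map, ← IsScalarTower.algebraMap_eq]
  rw [hmap, IsLocalization.mem_map_algebraMap_iff
    (Submonoid.closure ({f : R[X] | f.coeff 0 = 1} ∪ {X}))] at hz
  obtain ⟨⟨⟨p, hp⟩, σ⟩, hzσ⟩ := hz
  -- `h = σ - p` maps into `J`
  have hzσ' : z * algebraMap R[X] L (σ : R[X]) = algebraMap R[X] L p := hzσ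
  have hh : algebraMap R[X] L ((σ : R[X]) - p) ∈ J := by
    have : algebraMap R[X] L ((σ : R[X]) - p) = j * algebraMap R[X] L σ := by
      rw [map_sub, ← hzσ']
      have : j = 1 - z := by rw [← hjz]; ring
      rw [this]
      ring
    rw [this]
    exact Ideal.mul_mem_right _ _ hj
  -- shape of `σ`
  have hshape : ∀ τ ∈ Submonoid.closure ({f : R[X] | f.coeff 0 = 1} ∪ {X}),
      ∃ (a : ℕ) (F : R[X]), F.coeff 0 = 1 ∧ τ = X ^ a * F := by
    intro τ hτ
    induction hτ using Submonoid.closure_induction with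
    | mem f hf =>
      rcases hf with hf | hf
      · exact ⟨0, f, hf, by rw [pow_zero, one_mul]⟩
      · rw [Set.mem_singleton_iff] at hf
        exact ⟨1, 1, coeff_one_zero, by rw [hf, pow_one, mul_one]⟩
    | one => exact ⟨0, 1, coeff_one_zero, by rw [pow_zero, one_mul]⟩
    | mul τ₁ τ₂ _ _ h₁ h₂ =>
      obtain ⟨a₁, F₁, hF₁, rfl⟩ := h₁
      obtain ⟨a₂, F₂, hF₂, rfl⟩ := h₂
      refine ⟨a₁ + a₂, F₁ * F₂, ?_, by rw [pow_add]; ring⟩
      rw [mul_coeff_zero, hF₁, hF₂, mul_one]
  obtain ⟨a, F, hF, hσF⟩ := hshape σ σ.2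
  -- reduction mod `m`
  set k := R ⧸ maximalIdeal R with hk
  letI : Field k := Ideal.Quotient.field (maximalIdeal R)
  set π := Ideal.Quotient.mk (maximalIdeal R) with hπ
  have hpm : p.map π = 0 := by
    ext n
    rw [coeff_map, coeff_zero, hπ, Ideal.Quotient.eq_zero_iff_mem]
    have := hp
    rw [Polynomial.algebraMap_eq] at this
    exact (Ideal.mem_map_C_iff.1 this) n
  have hmap' : ((σ : R[X]) - p).map π = X ^ a * F.map π := by
    rw [Polynomial.map_sub, hpm, sub_zero, hσF, Polynomial.map_mul, Polynomial.map_pow, map_X]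
  have hF0 : (F.map π).coeff 0 = 1 := by rw [coeff_map, hF, map_one]
  have hcop : IsCoprime (X ^ a : k[X]) (F.map π) := by
    apply IsCoprime.pow_left
    obtain ⟨G, hG⟩ := X_dvd_sub_C (p := F.map π)
    rw [hF0] at hG
    refine ⟨-G, 1, ?_⟩
    have : F.map π = C 1 + X * G := by rw [← hG]; ring
    rw [this, map_one]
    ring
  obtain ⟨P, H, hPH, hPmonic, hPmap, hHmap⟩ :=
    Groth.Agent.Lib.GabberFactor.factor_lift
      (inferInstance : HenselianRing R (maximalIdeal R)) ((σ : R[X]) - p)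
      (X ^ a) (F.map π) (monic_X_pow a) hcop hmap'
  -- `H` is a unit of `L`
  have hH0 : IsUnit (H.coeff 0) := by
    have h2 : π (H.coeff 0) = 1 := by rw [← coeff_map, hHmap, hF0]
    have h3 : H.coeff 0 - 1 ∈ maximalIdeal R := by
      rw [← Ideal.Quotient.eq_zero_iff_mem, map_sub, map_one]
      show π (H.coeff 0) - 1 = 0
      rw [h2, sub_self]
    by_contra hnu
    have h4 : H.coeff 0 ∈ maximalIdeal R := (mem_maximalIdeal _).2 hnu
    have h5 : (1 : R) ∈ maximalIdeal R := by
      have := sub_mem h4 h3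
      rwa [sub_sub_cancel] at this
    exact (maximalIdeal.isMaximal R).ne_top ((Ideal.eq_top_iff_one _).2 h5)
  obtain ⟨c, hc⟩ := hH0.exists_left_inv
  have hHu : IsUnit (algebraMap R[X] L H) := by
    have hmem : C c * H ∈ Submonoid.closure ({f : R[X] | f.coeff 0 = 1} ∪ {X}) := by
      apply Submonoid.subset_closure
      left
      show (C c * H).coeff 0 = 1
      rw [coeff_C_mul, hc]
    have h6 : IsUnit (algebraMap R[X] L (C c * H)) :=
      IsLocalization.map_units L ⟨C c * H, hmem⟩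
    rw [map_mul] at h6
    exact isUnit_of_mul_isUnit_right h6
  have hPJ : algebraMap R[X] L P ∈ J := by
    rw [hPH, map_mul] at hh
    obtain ⟨v, hv⟩ := hHu.exists_right_inv
    have : algebraMap R[X] L P = algebraMap R[X] L P * algebraMap R[X] L H * v := by
      rw [mul_assoc, hv, mul_one]
    rw [this]
    exact Ideal.mul_mem_right _ _ hh
  -- the polynomial `g`
  have hPdeg : P.natDegree = a := by
    rw [← hPmonic.natDegree_map π, hPmap, natDegree_X_pow]
  refine ⟨reflect a P, ?_, ?_⟩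
  · rw [psi_reflect ψ hψ a P (le_of_eq hPdeg)]
    exact Ideal.mul_mem_right _ _ hPJ
  · rw [Polynomial.algebraMap_eq, Ideal.mem_map_C_iff]
    intro n
    rw [coeff_sub, coeff_reflect, coeff_one]
    by_cases hn : n = 0
    · subst hn
      have : P.coeff (revAt a 0) = 1 := by
        rw [revAt_le (Nat.zero_le a), Nat.sub_zero, ← hPdeg]
        exact hPmonic.coeff_natDegree
      rw [this, if_pos rfl, sub_self]
      exact zero_mem _
    · rw [if_neg hn, sub_zero, ← Ideal.Quotient.eq_zero_iff_mem]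
      show π (P.coeff (revAt a n)) = 0
      rw [← coeff_map, hPmap, coeff_X_pow]
      have : revAt a n ≠ a := by
        intro h
        by_cases hna : n ≤ a
        · rw [revAt_le hna] at h
          omega
        · rw [revAt_eq_self_of_lt (not_le.1 hna)] at h
          omega
      rw [if_neg this]

include hψ in
theorem part2 (J : Ideal L)
    (hJ : J ⊔ (maximalIdeal R).map (algebraMap R L) = ⊤) :
    (J.comap ψ.toRingHom).map ψ.toRingHom = J ∧
      J.comap ψ.toRingHom ⊔ (maximalIdeal R).map (algebraMap R R[X]) = ⊤ := by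
  obtain ⟨g, hgJ, hg1⟩ := exists_mem_comap R L ψ hψ J hJ
  have hsup : J.comap ψ.toRingHom ⊔ (maximalIdeal R).map (algebraMap R R[X]) = ⊤ := by
    rw [Ideal.eq_top_iff_one]
    have : (1 : R[X]) = g - (g - 1) := by ring
    rw [this]
    exact sub_mem (Ideal.mem_sup_left (Ideal.mem_comap.2 hgJ)) (Ideal.mem_sup_right hg1)
  refine ⟨le_antisymm Ideal.map_comap_le ?_, hsup⟩
  intro l hl
  obtain ⟨Q, g', hQ, e⟩ := exists_monic_mul ψ hψ l
  have hg' : g' ∈ J.comap ψ.toRingHom := by
    rw [Ideal.mem_comap]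
    show ψ g' ∈ J
    rw [← e]
    exact Ideal.mul_mem_right _ _ hl
  obtain ⟨u, hu⟩ := exists_mul_sub_one_mem (J.comap ψ.toRingHom) hsup Q hQ
  have : l = ψ.toRingHom (g' * u) - l * ψ.toRingHom (Q * u - 1) := by
    show l = ψ (g' * u) - l * ψ (Q * u - 1)
    rw [map_mul, ← e, map_sub, map_mul, map_one]
    ring
  rw [this]
  exact sub_mem (Ideal.mem_map_of_mem _ (Ideal.mul_mem_right _ _ hg'))
    (Ideal.mul_mem_left _ _ (Ideal.mem_map_of_mem _ hu))

end Main

end Groth.Agent.Lib.LaurentIdealsH3
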