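import Mathlib
import Groth.Prelude.Def_Hens2
import Groth.Agent.Lib.EtaleNbhd_lead
import Groth.Agent.Lib.GabberIdem_lead
import Groth.Agent.Lib.HenselPairOps_lead
import Groth.Agent.Lib.HensNoeth_helper3

/-!
# Weierstrass preparation in `R{t}` — part A (helper5)

Generalities on a henselization `B` of `(R[X], (X))`:
* henselization commutes with quotients (`quot_isPairHenselization`);
* truncation `b = p(t) + t^n c`, `deg p < n`;
* the augmentation `ε : B → R` and the unit criterion;
* the map `ρ : B → k⟦X⟧` for local `R` and `ker ρ = 𝔪 B`.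
-/

set_option autoImplicit false
universe u

open Polynomial

namespace Groth.Agent.Lib.WPrepAH5

open Groth.Agent.Lib.HenselPairOpsLead Groth.Agent.Lib

section Quot

variable {A : Type u} [CommRing A] {I : Ideal A} {B : Type u} [CommRing B] [Algebra A B]

/-- any quotient of a henselian pair is a henselian pair -/
theorem henselian_quot {J : Ideal B} (hJ : HenselianRing B J) (K : Ideal B) :
    HenselianRing (B ⧸ K) (J.map (Ideal.Quotient.mk K)) := by
  haveI : Algebra.IsIntegral B (B ⧸ K) := inferInstance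
  exact GabberIdem.henselian_of_integral hJ (B ⧸ K)

/-- henselization commutes with quotients -/
theorem quot_isPairHenselization (hB : Hens2.IsPairHenselization A I B) (𝔞 : Ideal A) :
    Hens2.IsPairHenselization (A ⧸ 𝔞) (I.map (Ideal.Quotient.mk 𝔞))
      (B ⧸ 𝔞.map (algebraMap A B)) := by
  obtain ⟨h1, h2⟩ := hB
  refine ⟨?_, ?_⟩
  · have := henselian_quot h1 (𝔞.map (algebraMap A B))
    have e : (I.map (Ideal.Quotient.mk 𝔞)).map
        (algebraMap (A ⧸ 𝔞) (B ⧸ 𝔞.map (algebraMap A B))) =
        (I.map (algebraMap A B)).map (Ideal.Quotient.mk (𝔞.map (algebraMap A B))) := by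
      rw [Ideal.map_map, Ideal.map_map]
      congr 1
    rw [e]; exact this
  · intro C _ J f hJ hfJ
    have hF : I.map (f.comp (Ideal.Quotient.mk 𝔞)) ≤ J := by
      rw [← Ideal.map_map]; exact hfJ
    obtain ⟨G, hG, hGu⟩ := h2 C J (f.comp (Ideal.Quotient.mk 𝔞)) hJ hF
    have hGa : ∀ a : A, G (algebraMap A B a) = f (Ideal.Quotient.mk 𝔞 a) := fun a => by
      have := RingHom.congr_fun hG a
      simpa using this
    have hGk : ∀ x ∈ 𝔞.map (algebraMap A B), G x = 0 := by
      have hle : 𝔞.map (algebraMap A B) ≤ RingHom.ker G := by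
        rw [Ideal.map_le_iff_le_comap]
        intro a ha
        rw [Ideal.mem_comap, RingHom.mem_ker, hGa, Ideal.Quotient.eq_zero_iff_mem.2 ha, map_zero]
      exact fun x hx => hle hx
    refine ⟨Ideal.Quotient.lift _ G hGk, ?_, ?_⟩
    · refine RingHom.ext fun z => ?_
      obtain ⟨a, rfl⟩ := Ideal.Quotient.mk_surjective z
      rw [RingHom.comp_apply, Ideal.Quotient.algebraMap_quotient_map_quotient,
        Ideal.Quotient.lift_mk, hGa]
    · intro g' hg'
      have h3 : g'.comp (Ideal.Quotient.mk (𝔞.map (algebraMap A B))) = G := by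
        apply hGu
        refine RingHom.ext fun a => ?_
        have := RingHom.congr_fun hg' (Ideal.Quotient.mk 𝔞 a)
        rw [RingHom.comp_apply, Ideal.Quotient.algebraMap_quotient_map_quotient] at this
        rw [RingHom.comp_apply, RingHom.comp_apply, RingHom.comp_apply]
        exact this
      apply Ideal.Quotient.ringHom_ext
      rw [h3]
      refine RingHom.ext fun b => ?_
      rw [RingHom.comp_apply, Ideal.Quotient.lift_mk]

end Quot

section Poly

variable {R : Type u} [CommRing R] {B : Type u} [CommRing B] [Algebra R[X] B]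

theorem map_span_X : (Ideal.span {(X : R[X])}).map (algebraMap R[X] B) =
    Ideal.span {algebraMap R[X] B X} := by
  rw [Ideal.map_span, Set.image_singleton]

theorem hens_t (hB : Hens2.IsPairHenselization R[X] (Ideal.span {(X : R[X])}) B) :
    HenselianRing B (Ideal.span {algebraMap R[X] B X}) :=
  map_span_X (R := R) (B := B) ▸ hB.1

theorem isUnit_one_add_t_mul (hB : Hens2.IsPairHenselization R[X] (Ideal.span {(X : R[X])}) B)
    (c : B) : IsUnit (1 + algebraMap R[X] B X * c) := by
  have h1 : algebraMap R[X] B X ∈ (⊥ : Ideal B).jacobson :=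
    (hens_t hB).jac (Ideal.mem_span_singleton_self _)
  have := Ideal.mem_jacobson_bot.mp h1 c
  rwa [add_comm] at this

theorem exists_trunc (hB : Hens2.IsPairHenselization R[X] (Ideal.span {(X : R[X])}) B)
    (n : ℕ) (b : B) :
    ∃ (p : R[X]) (c : B), p.degree < n ∧
      b = algebraMap R[X] B p + (algebraMap R[X] B X) ^ n * c := by
  obtain ⟨z, hz⟩ := (EtaleNbhd.quotient_pow_bijective hB n).2 (Ideal.Quotient.mk _ b)
  obtain ⟨p₀, rfl⟩ := Ideal.Quotient.mk_surjective z
  rw [Ideal.quotientMap_mk, Ideal.Quotient.eq, Ideal.map_pow, map_span_X,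
    Ideal.span_singleton_pow, Ideal.mem_span_singleton] at hz
  obtain ⟨c', hc'⟩ := hz
  rcases subsingleton_or_nontrivial R with hsub | hnt
  · haveI : Subsingleton R[X] := inferInstance
    refine ⟨0, 0, ?_, ?_⟩
    · rw [degree_zero]; exact WithBot.bot_lt_coe n
    · haveI : Subsingleton B := by
        have h01 : (0 : B) = 1 := by
          rw [← map_zero (algebraMap R[X] B), ← map_one (algebraMap R[X] B)]
          exact congrArg _ (Subsingleton.elim _ _)
        exact subsingleton_of_zero_eq_one h01
      exact Subsingleton.elim _ _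
  have hmon : (X ^ n : R[X]).Monic := monic_X_pow n
  refine ⟨p₀ %ₘ X ^ n, algebraMap R[X] B (p₀ /ₘ X ^ n) - c', ?_, ?_⟩
  · have := degree_modByMonic_lt p₀ hmon
    rwa [degree_X_pow] at this
  · have h1 := modByMonic_add_div p₀ (q := X ^ n)
    have h2 : algebraMap R[X] B p₀ = algebraMap R[X] B (p₀ %ₘ X ^ n) +
        (algebraMap R[X] B X) ^ n * algebraMap R[X] B (p₀ /ₘ X ^ n) := by
      conv_lhs => rw [← h1]
      rw [map_add, map_mul, map_pow]
    linear_combination h2 - hc'

theorem exists_eps (hB : Hens2.IsPairHenselization R[X] (Ideal.span {(X : R[X])}) B) :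
    ∃ ε : B →+* R, ∀ p : R[X], ε (algebraMap R[X] B p) = p.eval 0 := by
  obtain ⟨ε, hε, -⟩ := hB.2 R ⊥ (Polynomial.evalRingHom 0) henselian_bot (by
    rw [Ideal.map_span, Set.image_singleton, Polynomial.coe_evalRingHom, eval_X]
    simp)
  refine ⟨ε, fun p => ?_⟩
  have := RingHom.congr_fun hε p
  simpa using this

theorem isUnit_of_isUnit_eps (hB : Hens2.IsPairHenselization R[X] (Ideal.span {(X : R[X])}) B)
    (ε : B →+* R) (hε : ∀ p : R[X], ε (algebraMap R[X] B p) = p.eval 0) (b : B)
    (h : IsUnit (ε b)) : IsUnit b := by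
  obtain ⟨p, c, -, hb⟩ := exists_trunc hB 1 b
  have hεt : ε (algebraMap R[X] B X) = 0 := by rw [hε, eval_X]
  have hεb : ε b = p.eval 0 := by
    rw [hb, map_add, map_mul, pow_one, hεt, zero_mul, add_zero, hε]
  have hp : p = C (p.eval 0) + X * p.divX := by
    conv_lhs => rw [← divX_mul_X_add p]
    rw [coeff_zero_eq_eval_zero]; ring
  have hu : IsUnit (algebraMap R[X] B (C (p.eval 0))) := by
    rw [← hεb]; exact (h.map C).map _
  obtain ⟨w, hw⟩ := hu.exists_right_inv
  have hb2 : b = algebraMap R[X] B (C (p.eval 0)) *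
      (1 + algebraMap R[X] B X * (w * (algebraMap R[X] B p.divX + c))) := by
    have h3 : algebraMap R[X] B p = algebraMap R[X] B (C (p.eval 0)) +
        algebraMap R[X] B X * algebraMap R[X] B p.divX := by
      conv_lhs => rw [hp]
      rw [map_add, map_mul]
    rw [hb, h3, pow_one]
    linear_combination (-(algebraMap R[X] B X * (algebraMap R[X] B p.divX + c))) * hw
  rw [hb2]
  exact hu.mul (isUnit_one_add_t_mul hB _)

theorem exists_iota (hB : Hens2.IsPairHenselization R[X] (Ideal.span {(X : R[X])}) B) :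
    ∃ ι : B →+* PowerSeries R, ∀ p : R[X], ι (algebraMap R[X] B p) = (p : PowerSeries R) := by
  have hPS : HenselianRing (PowerSeries R) (Ideal.span {(PowerSeries.X : PowerSeries R)}) :=
    inferInstance
  obtain ⟨ι, hι, -⟩ := hB.2 (PowerSeries R) _ Polynomial.coeToPowerSeries.ringHom hPS (by
    rw [Ideal.map_span, Set.image_singleton]
    apply le_of_eq
    congr 2
    exact Polynomial.coe_X)
  refine ⟨ι, fun p => ?_⟩
  have := RingHom.congr_fun hι p
  rw [RingHom.comp_apply] at this
  rw [this]; rfl

end Poly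

section Local

open IsLocalRing

variable {R : Type u} [CommRing R] [IsLocalRing R] {B : Type u} [CommRing B] [Algebra R[X] B]
  [Algebra R B] [IsScalarTower R R[X] B]

theorem map_map_C (J : Ideal R) :
    (J.map (C : R →+* R[X])).map (algebraMap R[X] B) = J.map (algebraMap R B) := by
  rw [Ideal.map_map]
  congr 1
  refine RingHom.ext fun r => ?_
  rw [RingHom.comp_apply, IsScalarTower.algebraMap_apply R R[X] B, Polynomial.algebraMap_apply,
    Algebra.algebraMap_self, RingHom.id_apply]

/-- the reduction map to power series over the residue field -/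
theorem exists_rho (hB : Hens2.IsPairHenselization R[X] (Ideal.span {(X : R[X])}) B) :
    ∃ ρ : B →+* PowerSeries (ResidueField R),
      (∀ (p : R[X]) (i : ℕ), PowerSeries.coeff i (ρ (algebraMap R[X] B p)) =
        residue R (p.coeff i)) ∧
      ρ (algebraMap R[X] B X) = PowerSeries.X ∧
      (∀ z ∈ (maximalIdeal R).map (algebraMap R B), ρ z = 0) := by
  obtain ⟨ι, hι⟩ := exists_iota hB
  have h1 : ∀ (p : R[X]) (i : ℕ), PowerSeries.coeff i
      (((PowerSeries.map (residue R)).comp ι) (algebraMap R[X] B p)) = residue R (p.coeff i) := by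
    intro p i
    rw [RingHom.comp_apply, hι, PowerSeries.coeff_map, Polynomial.coeff_coe]
  refine ⟨(PowerSeries.map (residue R)).comp ι, h1, ?_, ?_⟩
  · ext i
    rw [h1, PowerSeries.coeff_X, Polynomial.coeff_X]
    split_ifs with h h' h'
    · rw [map_one]
    · exact absurd h.symm h'
    · exact absurd h'.symm h
    · rw [map_zero]
  · have hle : (maximalIdeal R).map (algebraMap R B) ≤
        RingHom.ker ((PowerSeries.map (residue R)).comp ι) := by
      rw [Ideal.map_le_iff_le_comap]
      intro r hr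
      rw [Ideal.mem_comap, RingHom.mem_ker]
      have e : algebraMap R B r = algebraMap R[X] B (C r) := by
        rw [IsScalarTower.algebraMap_apply R R[X] B, Polynomial.algebraMap_apply,
          Algebra.algebraMap_self, RingHom.id_apply]
      rw [e]
      ext i
      rw [h1, map_zero, Polynomial.coeff_C]
      split_ifs
      · exact (residue_eq_zero_iff r).2 hr
      · rw [map_zero]
    exact fun z hz => hle hz

/-- `ker ρ = 𝔪 B` (the nontrivial inclusion): `B / 𝔪 B` is the henselization of `k[X]`, hence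
Noetherian, so it is `t`-adically separated. -/
theorem mem_map_of_rho_eq_zero (hB : Hens2.IsPairHenselization R[X] (Ideal.span {(X : R[X])}) B)
    (ρ : B →+* PowerSeries (ResidueField R))
    (hρ : ∀ (p : R[X]) (i : ℕ), PowerSeries.coeff i (ρ (algebraMap R[X] B p)) =
        residue R (p.coeff i))
    (hρX : ρ (algebraMap R[X] B X) = PowerSeries.X)
    (g : B) (hg : ρ g = 0) : g ∈ (maximalIdeal R).map (algebraMap R B) := by
  classical
  obtain ⟨𝔞, h𝔞⟩ : ∃ 𝔞 : Ideal R[X], 𝔞 = (maximalIdeal R).map (C : R →+* R[X]) := ⟨_, rfl⟩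
  have hK : 𝔞.map (algebraMap R[X] B) = (maximalIdeal R).map (algebraMap R B) := by
    rw [h𝔞, map_map_C]
  rw [← hK]
  have hBq := quot_isPairHenselization hB 𝔞
  haveI : IsNoetherianRing (R[X] ⧸ 𝔞) := by
    rw [h𝔞]
    haveI : IsNoetherianRing (R ⧸ maximalIdeal R) := by
      letI := Ideal.Quotient.field (maximalIdeal R)
      infer_instance
    exact isNoetherianRing_of_ringEquiv _
      (Ideal.polynomialQuotientEquivQuotientPolynomial (maximalIdeal R))
  haveI : IsNoetherianRing (B ⧸ 𝔞.map (algebraMap R[X] B)) := HensNoethH3.isNoetherianRing hBq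
  -- the image of `t` lies in the Jacobson radical
  have hjac : Ideal.span {Ideal.Quotient.mk (𝔞.map (algebraMap R[X] B)) (algebraMap R[X] B X)} ≤
      Ideal.jacobson (⊥ : Ideal (B ⧸ 𝔞.map (algebraMap R[X] B))) := by
    have h1 := (henselian_quot (hens_t hB) (𝔞.map (algebraMap R[X] B))).jac
    rwa [Ideal.map_span, Set.image_singleton] at h1
  have hkrull := Ideal.iInf_pow_smul_eq_bot_of_le_jacobson
    (R := B ⧸ 𝔞.map (algebraMap R[X] B)) (M := B ⧸ 𝔞.map (algebraMap R[X] B)) _ hjac
  have hmem : Ideal.Quotient.mk (𝔞.map (algebraMap R[X] B)) g ∈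
      (⨅ i : ℕ, Ideal.span {Ideal.Quotient.mk (𝔞.map (algebraMap R[X] B))
        (algebraMap R[X] B X)} ^ i • (⊤ : Submodule (B ⧸ 𝔞.map (algebraMap R[X] B))
          (B ⧸ 𝔞.map (algebraMap R[X] B)))) := by
    rw [Submodule.mem_iInf]
    intro n
    rw [smul_eq_mul, Ideal.mul_top, Ideal.span_singleton_pow, Ideal.mem_span_singleton]
    obtain ⟨p, c, hp, hgp⟩ := exists_trunc hB n g
    have hp𝔞 : p ∈ 𝔞 := by
      rw [h𝔞, Ideal.mem_map_C_iff]
      intro i
      by_cases hi : i < n
      · have h2 : PowerSeries.coeff i (ρ g) = 0 := by rw [hg, map_zero]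
        rw [hgp, map_add, map_mul, map_pow, hρX, map_add, hρ, PowerSeries.coeff_X_pow_mul',
          if_neg (not_le.2 hi), add_zero] at h2
        exact (residue_eq_zero_iff _).1 h2
      · have : p.coeff i = 0 := by
          apply coeff_eq_zero_of_degree_lt
          exact lt_of_lt_of_le hp (by exact_mod_cast not_lt.1 hi)
        rw [this]; exact Ideal.zero_mem _
    refine ⟨Ideal.Quotient.mk _ c, ?_⟩
    rw [← map_pow, ← map_mul, Ideal.Quotient.eq, hgp, add_sub_cancel_right]
    exact Ideal.mem_map_of_mem _ hp𝔞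
  rw [hkrull, Submodule.mem_bot] at hmem
  exact Ideal.Quotient.eq_zero_iff_mem.1 hmem

end Local

end Groth.Agent.Lib.WPrepAH5
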