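import Mathlib
import Groth.Prelude.Def_Hens2
import Groth.Agent.Lib.WPrepA_helper5

/-!
# Weierstrass preparation in `R{t}` — part B (helper5)

`R` henselian local, `B` a henselization of `(R[X], (X))`.
* normal form modulo `𝔪`: `f ∉ 𝔪B ⇒ f ≡ t^d · unit mod 𝔪B`;
* Weierstrass division by Weierstrass polynomials: `R[X]/(P) ≃ B/(P)`.
-/

set_option autoImplicit false
universe u

open Polynomial IsLocalRing

namespace Groth.Agent.Lib.WPrepBH5

open Groth.Agent.Lib.HenselPairOpsLead Groth.Agent.Lib Groth.Agent.Lib.WPrepAH5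

section Loc

variable {R : Type u} [CommRing R] [IsLocalRing R] {B : Type u} [CommRing B] [Algebra R[X] B]
  [Algebra R B] [IsScalarTower R R[X] B]

/-- normal form modulo the maximal ideal -/
theorem exists_order (hB : Hens2.IsPairHenselization R[X] (Ideal.span {(X : R[X])}) B)
    (f : B) (hf : f ∉ (maximalIdeal R).map (algebraMap R B)) :
    ∃ (d : ℕ) (u : Bˣ), f - (algebraMap R[X] B X) ^ d * (u : B) ∈
      (maximalIdeal R).map (algebraMap R B) := by
  classical
  obtain ⟨ρ, hρ, hρX, hρm⟩ := exists_rho (R := R) hB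
  obtain ⟨ε, hε⟩ := exists_eps hB
  have hne : ρ f ≠ 0 := fun h => hf (mem_map_of_rho_eq_zero hB ρ hρ hρX f h)
  have hex : ∃ i, PowerSeries.coeff i (ρ f) ≠ 0 := by
    by_contra hcon
    push Not at hcon
    exact hne (PowerSeries.ext fun i => by rw [hcon i, map_zero])
  obtain ⟨d, hd, hdmin⟩ : ∃ d, PowerSeries.coeff d (ρ f) ≠ 0 ∧
      ∀ i < d, PowerSeries.coeff i (ρ f) = 0 :=
    ⟨Nat.find hex, Nat.find_spec hex, fun i hi => not_not.1 (Nat.find_min hex hi)⟩
  obtain ⟨p, c, hp, hfp⟩ := exists_trunc hB (d + 1) f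
  have hcoef : ∀ i ≤ d, PowerSeries.coeff i (ρ f) = residue R (p.coeff i) := by
    intro i hi
    rw [hfp, map_add, map_mul, map_pow, hρX, map_add, hρ, PowerSeries.coeff_X_pow_mul',
      if_neg (by omega), add_zero]
  have hlow : ∀ i < d, p.coeff i ∈ maximalIdeal R := fun i hi =>
    (residue_eq_zero_iff _).1 (by rw [← hcoef i hi.le, hdmin i hi])
  have htop : IsUnit (p.coeff d) := by
    by_contra hnu
    have : p.coeff d ∈ maximalIdeal R := (mem_maximalIdeal _).2 hnu
    exact hd (by rw [hcoef d le_rfl, (residue_eq_zero_iff _).2 this])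
  have hεt : ε (algebraMap R[X] B X) = 0 := by rw [hε, eval_X]
  have hu : IsUnit (algebraMap R[X] B (C (p.coeff d)) + algebraMap R[X] B X * c) := by
    apply isUnit_of_isUnit_eps hB ε hε
    rw [map_add, map_mul, hεt, zero_mul, add_zero, hε, eval_C]
    exact htop
  refine ⟨d, hu.unit, ?_⟩
  rw [IsUnit.unit_spec]
  have h1 : f - (algebraMap R[X] B X) ^ d *
      (algebraMap R[X] B (C (p.coeff d)) + algebraMap R[X] B X * c) =
      algebraMap R[X] B (p - C (p.coeff d) * X ^ d) := by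
    rw [hfp, map_sub, map_mul, map_pow]; ring
  rw [h1, ← map_map_C (B := B)]
  apply Ideal.mem_map_of_mem
  rw [Ideal.mem_map_C_iff]
  intro i
  rw [coeff_sub, coeff_C_mul, coeff_X_pow]
  rcases lt_trichotomy i d with hi | hi | hi
  · rw [if_neg hi.ne, mul_zero, sub_zero]; exact hlow i hi
  · rw [if_pos hi, mul_one, hi, sub_self]; exact Ideal.zero_mem _
  · rw [if_neg hi.ne', mul_zero, sub_zero]
    have : p.coeff i = 0 := by
      apply coeff_eq_zero_of_degree_lt
      exact lt_of_lt_of_le hp (by exact_mod_cast hi)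
    rw [this]; exact Ideal.zero_mem _

/-- Weierstrass polynomials: monic with the lower coefficients in the maximal ideal -/
def IsW (P : R[X]) : Prop := P.Monic ∧ ∀ i < P.natDegree, P.coeff i ∈ maximalIdeal R

end Loc

section Hens

variable {R : Type u} [CommRing R] [HenselianLocalRing R] {B : Type u} [CommRing B]
  [Algebra R[X] B]

/-- the quotient by a Weierstrass polynomial is henselian along `X` -/
theorem henselian_quot_W (P : R[X]) (hP : IsW P) :
    HenselianRing (R[X] ⧸ Ideal.span {P})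
      (Ideal.span {Ideal.Quotient.mk (Ideal.span {P}) X}) := by
  haveI : Module.Finite R (R[X] ⧸ Ideal.span {P}) := hP.1.finite_quotient
  haveI : Algebra.IsIntegral R (R[X] ⧸ Ideal.span {P}) := Algebra.IsIntegral.of_finite R _
  have hR : HenselianRing R (maximalIdeal R) := inferInstance
  have h1 := GabberIdem.henselian_of_integral hR (R[X] ⧸ Ideal.span {P})
  refine henselian_of_le ?_ (henselian_radical h1)
  rw [Ideal.span_le, Set.singleton_subset_iff]
  refine ⟨P.natDegree, ?_⟩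
  have h2 : Ideal.Quotient.mk (Ideal.span {P}) P = 0 :=
    Ideal.Quotient.eq_zero_iff_mem.2 (Ideal.mem_span_singleton_self P)
  have h3 := congrArg (Ideal.Quotient.mk (Ideal.span {P})) hP.1.as_sum
  rw [h2, map_add, map_sum, map_pow] at h3
  have h4 : Ideal.Quotient.mk (Ideal.span {P}) X ^ P.natDegree =
      -∑ i ∈ Finset.range P.natDegree,
        Ideal.Quotient.mk (Ideal.span {P}) (C (P.coeff i) * X ^ i) := by
    linear_combination -h3
  rw [h4]
  apply neg_mem
  apply Ideal.sum_mem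
  intro i hi
  rw [map_mul]
  apply Ideal.mul_mem_right
  have : Ideal.Quotient.mk (Ideal.span {P}) (C (P.coeff i)) =
      algebraMap R (R[X] ⧸ Ideal.span {P}) (P.coeff i) := rfl
  rw [this]
  exact Ideal.mem_map_of_mem _ (hP.2 i (Finset.mem_range.1 hi))

theorem exists_toQuot
    (hB : Hens2.IsPairHenselization R[X] (Ideal.span {(X : R[X])}) B) (P : R[X]) (hP : IsW P) :
    ∃ g : B →+* (R[X] ⧸ Ideal.span {P}),
      ∀ p : R[X], g (algebraMap R[X] B p) = Ideal.Quotient.mk (Ideal.span {P}) p := by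
  obtain ⟨g, hg, -⟩ := hB.2 (R[X] ⧸ Ideal.span {P}) _ (Ideal.Quotient.mk (Ideal.span {P}))
    (henselian_quot_W P hP) (by rw [Ideal.map_span, Set.image_singleton])
  exact ⟨g, fun p => RingHom.congr_fun hg p⟩

/-- Weierstrass division: injectivity of `R[X]/(P) → B/(P)` -/
theorem wdiv_inj
    (hB : Hens2.IsPairHenselization R[X] (Ideal.span {(X : R[X])}) B) (P : R[X]) (hP : IsW P)
    (q : R[X]) (hq : algebraMap R[X] B q ∈ Ideal.span {algebraMap R[X] B P}) :
    q ∈ Ideal.span {P} := by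
  obtain ⟨g, hg⟩ := exists_toQuot hB P hP
  obtain ⟨b, hb⟩ := Ideal.mem_span_singleton.1 hq
  have := congrArg g hb
  rw [map_mul, hg, hg, Ideal.Quotient.eq_zero_iff_mem.2 (Ideal.mem_span_singleton_self P),
    zero_mul] at this
  exact Ideal.Quotient.eq_zero_iff_mem.1 this

/-- Weierstrass division: surjectivity of `R[X]/(P) → B/(P)` -/
theorem wdiv_surj
    (hB : Hens2.IsPairHenselization R[X] (Ideal.span {(X : R[X])}) B) (P : R[X]) (hP : IsW P)
    (b : B) : ∃ q : R[X], algebraMap R[X] B q - b ∈ Ideal.span {algebraMap R[X] B P} := by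
  obtain ⟨g, hg⟩ := exists_toQuot hB P hP
  obtain ⟨K, hK⟩ : ∃ K : Ideal B, K = Ideal.span {algebraMap R[X] B P} := ⟨_, rfl⟩
  rw [← hK]
  have hkill : ∀ a ∈ Ideal.span {P},
      ((Ideal.Quotient.mk K).comp (algebraMap R[X] B)) a = 0 := by
    intro a ha
    obtain ⟨c, rfl⟩ := Ideal.mem_span_singleton.1 ha
    rw [RingHom.comp_apply, Ideal.Quotient.eq_zero_iff_mem, hK, map_mul]
    exact Ideal.mul_mem_right _ _ (Ideal.mem_span_singleton_self _)
  obtain ⟨j, hj⟩ : ∃ j : (R[X] ⧸ Ideal.span {P}) →+* B ⧸ K,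
      ∀ p, j (Ideal.Quotient.mk _ p) = Ideal.Quotient.mk K (algebraMap R[X] B p) :=
    ⟨Ideal.Quotient.lift _ _ hkill, fun p => by rw [Ideal.Quotient.lift_mk]; rfl⟩
  have hD : HenselianRing (B ⧸ K)
      ((Ideal.span {algebraMap R[X] B X}).map (Ideal.Quotient.mk K)) :=
    henselian_quot (hens_t hB) K
  obtain ⟨G, -, hGu⟩ := hB.2 (B ⧸ K) _ ((Ideal.Quotient.mk K).comp (algebraMap R[X] B)) hD (by
    rw [← Ideal.map_map, map_span_X])
  have e1 : Ideal.Quotient.mk K = G := hGu _ rfl
  have e2 : j.comp g = G := hGu _ (by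
    refine RingHom.ext fun p => ?_
    rw [RingHom.comp_apply, RingHom.comp_apply, hg, hj]; rfl)
  obtain ⟨q, hq⟩ := Ideal.Quotient.mk_surjective (g b)
  refine ⟨q, ?_⟩
  rw [← Ideal.Quotient.eq, ← hj, hq, ← RingHom.comp_apply, e2, ← e1]

end Hens

end Groth.Agent.Lib.WPrepBH5
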