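import Mathlib
import Groth.Prelude.Def_Hens2
import Groth.Agent.Lib.WPrepB_helper5
import Groth.Agent.Lib.FiniteNbhd_lead
import Groth.Agent.Lib.EtaleNbhdKill_lead
import Groth.Agent.Lib.GabberFactor_lead

/-!
# Weierstrass preparation in `R{t}` — part C (helper5)

Finiteness: if `t^d ∈ fB + 𝔪B` then `f` divides (the image of) a Weierstrass polynomial.
-/

set_option autoImplicit false
universe u

open Polynomial IsLocalRing

namespace Groth.Agent.Lib.WPrepCH5

open Groth.Agent.Lib.HenselPairOpsLead Groth.Agent.Lib Groth.Agent.Lib.WPrepAH5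
  Groth.Agent.Lib.WPrepBH5

section Step

variable {R : Type u} [CommRing R] {Cc : Type u} [CommRing Cc] [Algebra R[X] Cc]

/-- surjectivity modulo powers of `X` from surjectivity modulo `X` -/
theorem surj_pow (hS : ∀ c : Cc, ∃ a : R[X], c - algebraMap R[X] Cc a ∈
      Ideal.span {algebraMap R[X] Cc X}) (n : ℕ) (c : Cc) :
    ∃ (a : R[X]) (c₂ : Cc), c = algebraMap R[X] Cc a + (algebraMap R[X] Cc X) ^ n * c₂ := by
  induction n generalizing c with
  | zero => exact ⟨0, c, by rw [map_zero, pow_zero, one_mul, zero_add]⟩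
  | succ n ih =>
    obtain ⟨a, c₂, h⟩ := ih c
    obtain ⟨a', ha'⟩ := hS c₂
    obtain ⟨c₃, hc₃⟩ := Ideal.mem_span_singleton.1 ha'
    refine ⟨a + X ^ n * a', c₃, ?_⟩
    rw [h, map_add, map_mul, map_pow, pow_succ]
    linear_combination (algebraMap R[X] Cc X) ^ n * hc₃

/-- the closed fibre of `C/(F)` is finite once `X^d ∈ (F) + 𝔪C` -/
theorem finite_fibre [IsLocalRing R] [Algebra R Cc] [IsScalarTower R R[X] Cc]
    (hS : ∀ c : Cc, ∃ a : R[X], c - algebraMap R[X] Cc a ∈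
      Ideal.span {algebraMap R[X] Cc X}) (F : Cc) (d : ℕ)
    (hrel : algebraMap R[X] Cc (X ^ d) ∈
      Ideal.span {F} ⊔ (maximalIdeal R).map (algebraMap R Cc)) :
    Module.Finite R ((Cc ⧸ Ideal.span {F}) ⧸
      (maximalIdeal R).map (algebraMap R (Cc ⧸ Ideal.span {F}))) := by
  obtain ⟨𝔫, h𝔫⟩ : ∃ 𝔫 : Ideal (Cc ⧸ Ideal.span {F}),
      𝔫 = (maximalIdeal R).map (algebraMap R (Cc ⧸ Ideal.span {F})) := ⟨_, rfl⟩
  rw [← h𝔫]
  let θ : R[X] →ₐ[R] (Cc ⧸ Ideal.span {F}) ⧸ 𝔫 :=
    (Ideal.Quotient.mkₐ R 𝔫).comp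
      ((Ideal.Quotient.mkₐ R (Ideal.span {F})).comp (IsScalarTower.toAlgHom R R[X] Cc))
  have hθ : ∀ p : R[X], θ p = Ideal.Quotient.mk 𝔫
      (Ideal.Quotient.mk (Ideal.span {F}) (algebraMap R[X] Cc p)) := fun p => rfl
  have hkill : θ (X ^ d) = 0 := by
    rw [hθ, Ideal.Quotient.eq_zero_iff_mem]
    obtain ⟨a, ha, z, hz, haz⟩ := Submodule.mem_sup.1 hrel
    rw [← haz, map_add, Ideal.Quotient.eq_zero_iff_mem.2 ha, zero_add, h𝔫]
    have : (maximalIdeal R).map (algebraMap R (Cc ⧸ Ideal.span {F})) =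
        ((maximalIdeal R).map (algebraMap R Cc)).map (Ideal.Quotient.mk (Ideal.span {F})) := by
      rw [Ideal.map_map]; rfl
    rw [this]
    exact Ideal.mem_map_of_mem _ hz
  have hsurj : Function.Surjective θ := by
    intro y
    obtain ⟨y', rfl⟩ := Ideal.Quotient.mk_surjective y
    obtain ⟨c, rfl⟩ := Ideal.Quotient.mk_surjective y'
    obtain ⟨a, c₂, hc⟩ := surj_pow hS d c
    refine ⟨a, ?_⟩
    have h1 : Ideal.Quotient.mk 𝔫 (Ideal.Quotient.mk (Ideal.span {F}) c) =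
        θ a + θ (X ^ d) * Ideal.Quotient.mk 𝔫 (Ideal.Quotient.mk (Ideal.span {F}) c₂) := by
      rw [hθ, hθ, hc]
      simp only [map_add, map_mul, map_pow]
    rw [h1, hkill, zero_mul, add_zero]
  have hker : ∀ a ∈ Ideal.span {(X ^ d : R[X])}, θ a = 0 := by
    intro a ha
    obtain ⟨b, rfl⟩ := Ideal.mem_span_singleton.1 ha
    rw [map_mul, hkill, zero_mul]
  let Θ : (R[X] ⧸ Ideal.span {(X ^ d : R[X])}) →ₐ[R] (Cc ⧸ Ideal.span {F}) ⧸ 𝔫 :=
    Ideal.Quotient.liftₐ _ θ hker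
  have hΘ : Function.Surjective Θ := by
    intro y
    obtain ⟨a, rfl⟩ := hsurj y
    exact ⟨Ideal.Quotient.mk _ a, by
      show Ideal.Quotient.liftₐ _ θ hker (Ideal.Quotient.mk _ a) = θ a
      exact Ideal.Quotient.liftₐ_apply _ θ hker _⟩
  haveI : Module.Finite R (R[X] ⧸ Ideal.span {(X ^ d : R[X])}) :=
    (monic_X_pow d).finite_quotient
  exact Module.Finite.of_surjective Θ.toLinearMap hΘ

end Step

section Main

variable {R : Type u} [CommRing R] [HenselianLocalRing R] {B : Type u} [CommRing B]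
  [Algebra R[X] B] [Algebra R B] [IsScalarTower R R[X] B]

theorem algebraMap_eq_C (r : R) : algebraMap R B r = algebraMap R[X] B (C r) := by
  rw [IsScalarTower.algebraMap_apply R R[X] B, Polynomial.algebraMap_apply,
    Algebra.algebraMap_self, RingHom.id_apply]

/-- `1 - z` is a unit for `z ∈ 𝔪B` -/
theorem isUnit_one_sub_of_mem
    (hB : Hens2.IsPairHenselization R[X] (Ideal.span {(X : R[X])}) B) (z : B)
    (hz : z ∈ (maximalIdeal R).map (algebraMap R B)) : IsUnit (1 - z) := by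
  obtain ⟨ε, hε⟩ := exists_eps hB
  apply isUnit_of_isUnit_eps hB ε hε
  have hεm : ε z ∈ maximalIdeal R := by
    have hle : (maximalIdeal R).map (algebraMap R B) ≤ (maximalIdeal R).comap ε := by
      rw [Ideal.map_le_iff_le_comap]
      intro r hr
      rw [Ideal.mem_comap, Ideal.mem_comap, algebraMap_eq_C, hε, eval_C]
      exact hr
    exact hle hz
  rw [map_sub, map_one]
  by_contra hnu
  have h1 : 1 - ε z ∈ maximalIdeal R := (mem_maximalIdeal _).2 hnu
  have : (1 : R) ∈ maximalIdeal R := by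
    have := Ideal.add_mem _ h1 hεm
    rwa [sub_add_cancel] at this
  exact (Ideal.ne_top_iff_one _).1 (maximalIdeal.isMaximal R).ne_top this

/-- the key finiteness step on an étale neighbourhood -/
theorem monic_of_nbhd
    (hB : Hens2.IsPairHenselization R[X] (Ideal.span {(X : R[X])}) B)
    {Cc : Type u} [CommRing Cc] [Algebra R[X] Cc] [Algebra R Cc] [IsScalarTower R R[X] Cc]
    [Algebra.FiniteType R[X] Cc] (φ : Cc →ₐ[R[X]] B)
    (hS : ∀ c : Cc, ∃ a : R[X], c - algebraMap R[X] Cc a ∈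
      Ideal.span {algebraMap R[X] Cc X}) (F : Cc) (d : ℕ)
    (hrel : algebraMap R[X] Cc (X ^ d) ∈
      Ideal.span {F} ⊔ (maximalIdeal R).map (algebraMap R Cc)) :
    ∃ F₀ : R[X], F₀.Monic ∧ algebraMap R[X] B F₀ ∈ Ideal.span {φ F} := by
  classical
  haveI : Algebra.FiniteType R Cc :=
    Algebra.FiniteType.trans (inferInstance : Algebra.FiniteType R R[X]) inferInstance
  haveI : Algebra.FiniteType R (Cc ⧸ Ideal.span {F}) :=
    Algebra.FiniteType.of_surjective (Ideal.Quotient.mkₐ R (Ideal.span {F}))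
      (Ideal.Quotient.mkₐ_surjective R _)
  have hfin := finite_fibre hS F d hrel
  have hR : HenselianRing R (maximalIdeal R) := inferInstance
  obtain ⟨j, hj, hfinj⟩ := FiniteNbhd.exists_finite_away hR (Cc ⧸ Ideal.span {F}) hfin
  -- the map to `D = B/(f)`
  obtain ⟨K, hK⟩ : ∃ K : Ideal B, K = Ideal.span {φ F} := ⟨_, rfl⟩
  rw [← hK]
  have hkill : ∀ a ∈ Ideal.span {F}, ((Ideal.Quotient.mk K).comp φ.toRingHom) a = 0 := by
    intro a ha
    obtain ⟨c, rfl⟩ := Ideal.mem_span_singleton.1 ha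
    rw [RingHom.comp_apply, Ideal.Quotient.eq_zero_iff_mem, hK]
    show φ (F * c) ∈ _
    rw [map_mul]
    exact Ideal.mul_mem_right _ _ (Ideal.mem_span_singleton_self _)
  obtain ⟨Φ, hΦ⟩ : ∃ Φ : (Cc ⧸ Ideal.span {F}) →+* B ⧸ K,
      ∀ c, Φ (Ideal.Quotient.mk _ c) = Ideal.Quotient.mk K (φ c) :=
    ⟨Ideal.Quotient.lift _ _ hkill, fun c => by rw [Ideal.Quotient.lift_mk]; rfl⟩
  have hΦR : Φ.comp (algebraMap R (Cc ⧸ Ideal.span {F})) =
      (Ideal.Quotient.mk K).comp (algebraMap R B) := by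
    refine RingHom.ext fun r => ?_
    rw [RingHom.comp_apply, RingHom.comp_apply]
    have : algebraMap R (Cc ⧸ Ideal.span {F}) r =
        Ideal.Quotient.mk _ (algebraMap R[X] Cc (C r)) := by
      rw [← algebraMap_eq_C (R := R) (B := Cc) r]; rfl
    rw [this, hΦ, AlgHom.commutes, algebraMap_eq_C (R := R) (B := B) r]
  have hunit : IsUnit (Φ (1 - j)) := by
    have h1 : Φ j ∈ ((maximalIdeal R).map (algebraMap R B)).map (Ideal.Quotient.mk K) := by
      have := Ideal.mem_map_of_mem Φ hj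
      rwa [Ideal.map_map, hΦR, ← Ideal.map_map] at this
    obtain ⟨z, hz, hzj⟩ :=
      (Ideal.mem_map_iff_of_surjective _ Ideal.Quotient.mk_surjective).1 h1
    have := (isUnit_one_sub_of_mem hB z hz).map (Ideal.Quotient.mk K)
    rwa [map_sub, map_one, hzj, ← map_one Φ, ← map_sub] at this
  obtain ⟨Φ', hΦ'⟩ : ∃ Φ' : Localization.Away (1 - j) →+* B ⧸ K,
      ∀ s, Φ' (algebraMap _ _ s) = Φ s :=
    ⟨IsLocalization.Away.lift (1 - j) hunit, fun s => IsLocalization.Away.lift_eq _ hunit s⟩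
  -- integrality of the image of `X`
  obtain ⟨x', hx'⟩ : ∃ x' : Localization.Away (1 - j), x' = algebraMap _ _
      (Ideal.Quotient.mk (Ideal.span {F}) (algebraMap R[X] Cc X)) := ⟨_, rfl⟩
  obtain ⟨F₀, hF₀m, hF₀⟩ := Algebra.IsIntegral.isIntegral (R := R) x'
  refine ⟨F₀, hF₀m, ?_⟩
  have h2 := congrArg Φ' hF₀
  rw [map_zero, Polynomial.hom_eval₂] at h2
  have h3 : Φ'.comp (algebraMap R (Localization.Away (1 - j))) =
      ((Ideal.Quotient.mk K).comp (algebraMap R[X] B)).comp C := by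
    refine RingHom.ext fun r => ?_
    rw [RingHom.comp_apply, IsScalarTower.algebraMap_apply R (Cc ⧸ Ideal.span {F})
      (Localization.Away (1 - j)), hΦ', ← RingHom.comp_apply Φ, hΦR]
    simp only [RingHom.comp_apply]
    rw [algebraMap_eq_C (R := R) (B := B) r]
  have h4 : Φ' x' = ((Ideal.Quotient.mk K).comp (algebraMap R[X] B)) X := by
    rw [hx', hΦ', hΦ, AlgHom.commutes]; rfl
  rw [h3, h4, ← Polynomial.hom_eval₂, Polynomial.eval₂_C_X, RingHom.comp_apply] at h2
  exact Ideal.Quotient.eq_zero_iff_mem.1 h2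

open Groth.Agent.Lib.EtaleNbhd in
/-- if `t^d ∈ fB + 𝔪B` then `f` divides a monic polynomial in `t` -/
theorem exists_monic_dvd
    (hB : Hens2.IsPairHenselization R[X] (Ideal.span {(X : R[X])}) B) (f v z : B) (d : ℕ)
    (hz : z ∈ (maximalIdeal R).map (algebraMap R B))
    (hrel : (algebraMap R[X] B X) ^ d = f * v + z) :
    ∃ F₀ : R[X], F₀.Monic ∧ algebraMap R[X] B F₀ ∈ Ideal.span {f} := by
  classical
  -- finite representation of `z`
  obtain ⟨n, cf, g, hsum⟩ := Submodule.mem_span_set'.1 hz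
  choose r hr hrg using fun i => (g i).2
  -- a common neighbourhood
  obtain ⟨N, hN⟩ := exists_common_fin hB (Fin.cons f (Fin.cons v cf) : Fin (n + 1 + 1) → B)
  obtain ⟨F, hF⟩ : ∃ F : N.C, N.φ F = f := by
    have := hN 0
    rw [Fin.cons_zero] at this
    exact (AlgHom.mem_range _).1 this
  obtain ⟨V, hV⟩ : ∃ V : N.C, N.φ V = v := by
    have := hN (Fin.succ 0)
    rw [Fin.cons_succ, Fin.cons_zero] at this
    exact (AlgHom.mem_range _).1 this
  have hc : ∀ i : Fin n, ∃ c' : N.C, N.φ c' = cf i := by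
    intro i
    have := hN (Fin.succ (Fin.succ i))
    rw [Fin.cons_succ, Fin.cons_succ] at this
    exact (AlgHom.mem_range _).1 this
  choose c' hc' using hc
  obtain ⟨s, hs⟩ : ∃ s : N.C, s = algebraMap R[X] N.C (X ^ d) - F * V -
      ∑ i, algebraMap R[X] N.C (C (r i)) * c' i := ⟨_, rfl⟩
  have hφs : N.φ s = 0 := by
    rw [hs, map_sub, map_sub, map_mul, map_sum, AlgHom.commutes, hF, hV, map_pow, hrel]
    have : ∑ i, N.φ (algebraMap R[X] N.C (C (r i)) * c' i) = z := by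
      rw [← hsum]
      refine Finset.sum_congr rfl fun i _ => ?_
      rw [map_mul, AlgHom.commutes, hc', ← algebraMap_eq_C (R := R) (B := B) (r i), hrg,
        smul_eq_mul, mul_comm]
    rw [this]; ring
  obtain ⟨C'', _, _, _, hq'', ψ, hψs⟩ := exists_kill hB N.C (Nb.bijective hB N) N.φ s hφs
  obtain ⟨uq⟩ := unique_algHom hB C'' hq''
  obtain ⟨φ'', -⟩ : ∃ φ'' : C'' →ₐ[R[X]] B, φ'' = φ'' := ⟨uq.default, rfl⟩
  have hcomp : φ''.comp ψ = N.φ := algHom_eq hB N.C (Nb.bijective hB N) _ _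
  have hφF : φ'' (ψ F) = f := by
    rw [← hF, ← hcomp]; rfl
  letI : Algebra R C'' := Algebra.compHom C'' (C : R →+* R[X])
  haveI : IsScalarTower R R[X] C'' := IsScalarTower.of_algebraMap_eq fun r => by
    rw [← Polynomial.C_eq_algebraMap]; rfl
  haveI : Algebra.FinitePresentation R[X] C'' := Algebra.Etale.finitePresentation
  haveI : Algebra.FiniteType R[X] C'' := inferInstance
  have hS'' : ∀ c : C'', ∃ a : R[X], c - algebraMap R[X] C'' a ∈
      Ideal.span {algebraMap R[X] C'' X} := by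
    intro c
    obtain ⟨a, ha⟩ := ((bijective_iff _ C'').1 hq'').1 c
    rw [map_span_X] at ha
    exact ⟨a, ha⟩
  have hrel'' : algebraMap R[X] C'' (X ^ d) ∈
      Ideal.span {ψ F} ⊔ (maximalIdeal R).map (algebraMap R C'') := by
    have h1 : algebraMap R[X] C'' (X ^ d) = ψ F * ψ V +
        ∑ i, algebraMap R[X] C'' (C (r i)) * ψ (c' i) := by
      have := hψs
      rw [hs, map_sub, map_sub, map_mul, map_sum, AlgHom.commutes] at this
      have h2 : ∑ i, ψ (algebraMap R[X] N.C (C (r i)) * c' i) =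
          ∑ i, algebraMap R[X] C'' (C (r i)) * ψ (c' i) :=
        Finset.sum_congr rfl fun i _ => by rw [map_mul, AlgHom.commutes]
      rw [h2] at this
      linear_combination this
    rw [h1]
    refine Ideal.add_mem _ (Ideal.mem_sup_left
      (Ideal.mul_mem_right _ _ (Ideal.mem_span_singleton_self _)))
      (Ideal.mem_sup_right (Ideal.sum_mem _ fun i _ => Ideal.mul_mem_right _ _ ?_))
    have : algebraMap R[X] C'' (C (r i)) = algebraMap R C'' (r i) := rfl
    rw [this]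
    exact Ideal.mem_map_of_mem _ (hr i)
  have := monic_of_nbhd hB φ'' hS'' (ψ F) d hrel''
  rwa [hφF] at this

/-- pass from a monic polynomial to its Weierstrass factor -/
theorem exists_W_dvd
    (hB : Hens2.IsPairHenselization R[X] (Ideal.span {(X : R[X])}) B) (f : B) (F₀ : R[X])
    (hF₀ : F₀.Monic) (hmem : algebraMap R[X] B F₀ ∈ Ideal.span {f}) :
    ∃ F₁ : R[X], IsW F₁ ∧ algebraMap R[X] B F₁ ∈ Ideal.span {f} := by
  classical
  letI := Ideal.Quotient.field (maximalIdeal R)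
  have hR : HenselianRing R (maximalIdeal R) := inferInstance
  have hne : F₀.map (Ideal.Quotient.mk (maximalIdeal R)) ≠ 0 :=
    (hF₀.map (Ideal.Quotient.mk (maximalIdeal R))).ne_zero
  obtain ⟨q, hq, hqX⟩ := exists_eq_pow_rootMultiplicity_mul_and_not_dvd _ hne 0
  rw [C_0, sub_zero] at hq hqX
  obtain ⟨e, he⟩ : ∃ e : ℕ, e = rootMultiplicity 0 (F₀.map (Ideal.Quotient.mk (maximalIdeal R))) :=
    ⟨_, rfl⟩
  rw [← he] at hq
  have hcop : IsCoprime ((X : (R ⧸ maximalIdeal R)[X]) ^ e) q :=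
    IsCoprime.pow_left ((Polynomial.irreducible_X).coprime_iff_not_dvd.2 hqX)
  obtain ⟨g, h, hgh, hg, hgmap, hhmap⟩ :=
    GabberFactor.factor_lift hR F₀ (X ^ e) q (monic_X_pow e) hcop hq
  have hdeg : g.natDegree = e := by
    rw [← hg.natDegree_map (Ideal.Quotient.mk (maximalIdeal R)), hgmap, natDegree_X_pow]
  refine ⟨g, ⟨hg, fun i hi => ?_⟩, ?_⟩
  · rw [hdeg] at hi
    have := congrArg (fun p => p.coeff i) hgmap
    simp only [coeff_map, coeff_X_pow, if_neg hi.ne] at this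
    exact Ideal.Quotient.eq_zero_iff_mem.1 this
  · obtain ⟨ε, hε⟩ := exists_eps hB
    have hu : IsUnit (algebraMap R[X] B h) := by
      apply isUnit_of_isUnit_eps hB ε hε
      rw [hε, ← coeff_zero_eq_eval_zero]
      by_contra hnu
      have h1 : h.coeff 0 ∈ maximalIdeal R := (mem_maximalIdeal _).2 hnu
      apply hqX
      rw [X_dvd_iff, ← hhmap, coeff_map]
      exact Ideal.Quotient.eq_zero_iff_mem.2 h1
    rw [hgh, map_mul] at hmem
    exact (Ideal.mul_unit_mem_iff_mem _ hu).1 hmem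

end Main

end Groth.Agent.Lib.WPrepCH5
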