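import Mathlib
import Groth.Prelude.Def_Hens2
import Groth.Agent.Lib.WPrepC_helper5

/-!
# Weierstrass preparation in `R{t}` — part D (helper5)

Existence and uniqueness of the Weierstrass factorization `f = P · u`.
-/

set_option autoImplicit false
universe u

open Polynomial IsLocalRing

namespace Groth.Agent.Lib.WPrepDH5

open Groth.Agent.Lib.HenselPairOpsLead Groth.Agent.Lib Groth.Agent.Lib.WPrepAH5
  Groth.Agent.Lib.WPrepBH5 Groth.Agent.Lib.WPrepCH5

variable {R : Type u} [CommRing R] [HenselianLocalRing R] {B : Type u} [CommRing B]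
  [Algebra R[X] B] [Algebra R B] [IsScalarTower R R[X] B]

/-- images of polynomials of degree `< n` lie in the span of `1, t, …, t^(n-1)` -/
theorem mk_mem_span (f : B) (n : ℕ) (p : R[X]) (hp : p.degree < n) :
    Ideal.Quotient.mk (Ideal.span {f}) (algebraMap R[X] B p) ∈
      Submodule.span R (Set.range fun i : Fin n =>
        (Ideal.Quotient.mk (Ideal.span {f}) (algebraMap R[X] B X)) ^ (i : ℕ)) := by
  classical
  let L : R[X] →ₗ[R] B ⧸ Ideal.span {f} :=
    (Ideal.Quotient.mkₐ R (Ideal.span {f})).toLinearMap.comp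
      (IsScalarTower.toAlgHom R R[X] B).toLinearMap
  have hL : ∀ q, L q = Ideal.Quotient.mk (Ideal.span {f}) (algebraMap R[X] B q) := fun q => rfl
  rw [← hL]
  have h1 : p ∈ degreeLT R n := mem_degreeLT.2 hp
  rw [degreeLT_eq_span_X_pow] at h1
  have h2 := Submodule.apply_mem_span_image_of_mem_span L h1
  refine Submodule.span_mono ?_ h2
  rintro _ ⟨q, hq, rfl⟩
  rw [Finset.mem_coe, Finset.mem_image] at hq
  obtain ⟨i, hi, rfl⟩ := hq
  refine ⟨⟨i, Finset.mem_range.1 hi⟩, ?_⟩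
  show (Ideal.Quotient.mk (Ideal.span {f}) (algebraMap R[X] B X)) ^ i = L (X ^ i)
  rw [hL, map_pow, map_pow]

theorem mk_mem_smul_top (f x : B) (hx : x ∈ (maximalIdeal R).map (algebraMap R B)) :
    Ideal.Quotient.mk (Ideal.span {f}) x ∈
      (maximalIdeal R • ⊤ : Submodule R (B ⧸ Ideal.span {f})) := by
  rw [Ideal.smul_top_eq_map, Submodule.restrictScalars_mem]
  have h1 := Ideal.mem_map_of_mem (Ideal.Quotient.mk (Ideal.span {f})) hx
  rw [Ideal.map_map] at h1
  exact h1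

/-- Nakayama: `t^d` is an `R`-combination of lower powers modulo `f` -/
theorem exists_coeffs
    (hB : Hens2.IsPairHenselization R[X] (Ideal.span {(X : R[X])}) B) (f v z : B) (d : ℕ)
    (hz : z ∈ (maximalIdeal R).map (algebraMap R B))
    (hrel : (algebraMap R[X] B X) ^ d = f * v + z)
    (F₁ : R[X]) (hF₁ : IsW F₁) (hF₁f : algebraMap R[X] B F₁ ∈ Ideal.span {f}) :
    ∃ c : Fin d → R,
      algebraMap R[X] B (X ^ d - ∑ i : Fin d, C (c i) * X ^ (i : ℕ)) ∈ Ideal.span {f} := by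
  classical
  obtain ⟨τ, hτ⟩ : ∃ τ : B ⧸ Ideal.span {f},
      τ = Ideal.Quotient.mk (Ideal.span {f}) (algebraMap R[X] B X) := ⟨_, rfl⟩
  have hle : Ideal.span {algebraMap R[X] B F₁} ≤ Ideal.span {f} := by
    rw [Ideal.span_le, Set.singleton_subset_iff]; exact hF₁f
  -- generation by `1, …, τ^(e-1)`
  have hB1 : ∀ b : B, Ideal.Quotient.mk (Ideal.span {f}) b ∈
      Submodule.span R (Set.range fun i : Fin F₁.natDegree => τ ^ (i : ℕ)) := by
    intro b
    obtain ⟨q, hq⟩ := wdiv_surj hB F₁ hF₁ b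
    have h1 : Ideal.Quotient.mk (Ideal.span {f}) b =
        Ideal.Quotient.mk (Ideal.span {f}) (algebraMap R[X] B (q %ₘ F₁)) := by
      rw [eq_comm, Ideal.Quotient.eq]
      have h2 := modByMonic_add_div q (q := F₁)
      have h4 : algebraMap R[X] B q = algebraMap R[X] B (q %ₘ F₁) +
          algebraMap R[X] B F₁ * algebraMap R[X] B (q /ₘ F₁) := by
        rw [← map_mul, ← map_add, h2]
      have h3 : algebraMap R[X] B (q %ₘ F₁) - b = (algebraMap R[X] B q - b) -
          algebraMap R[X] B F₁ * algebraMap R[X] B (q /ₘ F₁) := by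
        rw [h4]; ring
      rw [h3]
      exact Ideal.sub_mem _ (hle hq)
        (hle (Ideal.mul_mem_right _ _ (Ideal.mem_span_singleton_self _)))
    rw [h1, hτ]
    apply mk_mem_span
    have := degree_modByMonic_lt q hF₁.1
    rwa [degree_eq_natDegree hF₁.1.ne_zero] at this
  have htop : (⊤ : Submodule R (B ⧸ Ideal.span {f})) =
      Submodule.span R (Set.range fun i : Fin F₁.natDegree => τ ^ (i : ℕ)) := by
    refine le_antisymm (fun y _ => ?_) le_top
    obtain ⟨b, rfl⟩ := Ideal.Quotient.mk_surjective y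
    exact hB1 b
  have hfg : (⊤ : Submodule R (B ⧸ Ideal.span {f})).FG := by
    rw [htop]; exact Submodule.fg_span (Set.finite_range _)
  -- modulo `𝔪`, generation by `1, …, τ^(d-1)`
  have hB2 : (⊤ : Submodule R (B ⧸ Ideal.span {f})) ≤
      Submodule.span R (Set.range fun i : Fin d => τ ^ (i : ℕ)) ⊔
        maximalIdeal R • (⊤ : Submodule R (B ⧸ Ideal.span {f})) := by
    intro y _
    obtain ⟨b, rfl⟩ := Ideal.Quotient.mk_surjective y
    obtain ⟨p, c, hp, hb⟩ := exists_trunc hB d b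
    have h1 : Ideal.Quotient.mk (Ideal.span {f}) b =
        Ideal.Quotient.mk (Ideal.span {f}) (algebraMap R[X] B p) +
          Ideal.Quotient.mk (Ideal.span {f}) (z * c) := by
      rw [← map_add, Ideal.Quotient.eq, hb, hrel]
      have : algebraMap R[X] B p + (f * v + z) * c - (algebraMap R[X] B p + z * c) =
          f * (v * c) := by ring
      rw [this]
      exact Ideal.mul_mem_right _ _ (Ideal.mem_span_singleton_self _)
    rw [h1]
    refine Submodule.add_mem_sup ?_ ?_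
    · rw [hτ]; exact mk_mem_span f d p hp
    · exact mk_mem_smul_top f _ (Ideal.mul_mem_right _ _ hz)
  have hnak := Submodule.le_of_le_smul_of_le_jacobson_bot hfg
    (IsLocalRing.maximalIdeal_le_jacobson ⊥) hB2
  have hmem : τ ^ d ∈ Submodule.span R (Set.range fun i : Fin d => τ ^ (i : ℕ)) :=
    hnak Submodule.mem_top
  obtain ⟨c, hc⟩ := (Submodule.mem_span_range_iff_exists_fun R).1 hmem
  refine ⟨c, ?_⟩
  rw [← Ideal.Quotient.eq_zero_iff_mem, map_sub, map_sub, map_pow, map_pow, ← hτ, ← hc,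
    map_sum, map_sum]
  rw [sub_eq_zero]
  refine Finset.sum_congr rfl fun i _ => ?_
  rw [map_mul, map_mul, map_pow, map_pow, ← hτ, ← algebraMap_eq_C (R := R) (B := B) (c i),
    Algebra.smul_def]
  rfl

/-- existence of the Weierstrass factorization -/
theorem exists_prep
    (hB : Hens2.IsPairHenselization R[X] (Ideal.span {(X : R[X])}) B) (f : B)
    (hf : f ∉ (maximalIdeal R).map (algebraMap R B)) :
    ∃ (P : R[X]) (u : Bˣ), IsW P ∧ f = algebraMap R[X] B P * (u : B) := by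
  classical
  obtain ⟨d, u₀, hfu⟩ := exists_order hB f hf
  obtain ⟨w, hw⟩ : ∃ w : B, w = f - (algebraMap R[X] B X) ^ d * (u₀ : B) := ⟨_, rfl⟩
  rw [← hw] at hfu
  have hz : -(w * ((u₀⁻¹ : Bˣ) : B)) ∈ (maximalIdeal R).map (algebraMap R B) :=
    neg_mem (Ideal.mul_mem_right _ _ hfu)
  have hrel : (algebraMap R[X] B X) ^ d = f * ((u₀⁻¹ : Bˣ) : B) + -(w * ((u₀⁻¹ : Bˣ) : B)) := by
    have h1 : (u₀ : B) * ((u₀⁻¹ : Bˣ) : B) = 1 := Units.mul_inv u₀
    rw [hw]
    linear_combination (-(algebraMap R[X] B X) ^ d) * h1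
  obtain ⟨F₀, hF₀m, hF₀⟩ := exists_monic_dvd hB f _ _ d hz hrel
  obtain ⟨F₁, hF₁, hF₁f⟩ := exists_W_dvd hB f F₀ hF₀m hF₀
  obtain ⟨c, hc⟩ := exists_coeffs hB f _ _ d hz hrel F₁ hF₁ hF₁f
  obtain ⟨P, hP⟩ : ∃ P : R[X], P = X ^ d - ∑ i : Fin d, C (c i) * X ^ (i : ℕ) := ⟨_, rfl⟩
  rw [← hP] at hc
  obtain ⟨h, hh⟩ := Ideal.mem_span_singleton.1 hc
  have hdeg : (∑ i : Fin d, C (c i) * X ^ (i : ℕ)).degree < (d : WithBot ℕ) :=
    degree_sum_fin_lt c
  have hPm : P.Monic := by rw [hP]; exact monic_X_pow_sub hdeg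
  have hPd : P.natDegree = d := by
    apply natDegree_eq_of_degree_eq_some
    rw [hP, degree_sub_eq_left_of_degree_lt (by rwa [degree_X_pow]), degree_X_pow]
  obtain ⟨ρ, hρ, hρX, hρm⟩ := exists_rho (R := R) hB
  obtain ⟨ε, hε⟩ := exists_eps hB
  have hρf : ρ f = PowerSeries.X ^ d * ρ (u₀ : B) := by
    have := hρm w hfu
    rw [hw, map_sub, map_mul, map_pow, hρX, sub_eq_zero] at this
    exact this
  have hρP : ρ (algebraMap R[X] B P) = PowerSeries.X ^ d * (ρ (u₀ : B) * ρ h) := by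
    rw [hh, map_mul, hρf]; ring
  have hlow : ∀ i < d, P.coeff i ∈ maximalIdeal R := by
    intro i hi
    have := congrArg (PowerSeries.coeff i) hρP
    rw [hρ, PowerSeries.coeff_X_pow_mul', if_neg (not_le.2 hi)] at this
    exact (residue_eq_zero_iff _).1 this
  have hρP2 : ρ (algebraMap R[X] B P) = PowerSeries.X ^ d := by
    ext i
    rw [hρ, PowerSeries.coeff_X_pow]
    rcases lt_trichotomy i d with hi | hi | hi
    · rw [if_neg hi.ne, (residue_eq_zero_iff _).2 (hlow i hi)]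
    · rw [if_pos hi, hi, ← hPd, hPm.coeff_natDegree, map_one]
    · rw [if_neg hi.ne', coeff_eq_zero_of_natDegree_lt (by rw [hPd]; exact hi), map_zero]
  have hone : ρ (u₀ : B) * ρ h = 1 := by
    have h1 : (PowerSeries.X : PowerSeries (ResidueField R)) ^ d * (ρ (u₀ : B) * ρ h) =
        PowerSeries.X ^ d * 1 := by rw [← hρP, hρP2, mul_one]
    exact mul_left_cancel₀ (pow_ne_zero d PowerSeries.X_ne_zero) h1
  have hρh : IsUnit (ρ h) := IsUnit.of_mul_eq_one _ (by rw [mul_comm]; exact hone)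
  have hhu : IsUnit h := by
    apply isUnit_of_isUnit_eps hB ε hε
    obtain ⟨p₁, c₁, -, hh1⟩ := exists_trunc hB 1 h
    have hεt : ε (algebraMap R[X] B X) = 0 := by rw [hε, eval_X]
    have h1 : ε h = p₁.coeff 0 := by
      rw [hh1, map_add, map_mul, pow_one, hεt, zero_mul, add_zero, hε, coeff_zero_eq_eval_zero]
    have h2 : PowerSeries.coeff 0 (ρ h) = residue R (p₁.coeff 0) := by
      rw [hh1, map_add, map_mul, map_pow, hρX, map_add, hρ, PowerSeries.coeff_X_pow_mul',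
        if_neg (by omega), add_zero]
    rw [h1]
    by_contra hnu
    have h3 : p₁.coeff 0 ∈ maximalIdeal R := (mem_maximalIdeal _).2 hnu
    have h4 := (PowerSeries.isUnit_iff_constantCoeff.1 hρh)
    rw [← PowerSeries.coeff_zero_eq_constantCoeff_apply, h2, (residue_eq_zero_iff _).2 h3] at h4
    exact not_isUnit_zero h4
  refine ⟨P, hhu.unit⁻¹, ⟨hPm, fun i hi => hlow i (by rwa [hPd] at hi)⟩, ?_⟩
  rw [hh, mul_assoc]
  have : h * ((hhu.unit⁻¹ : Bˣ) : B) = 1 := by
    have := Units.mul_inv hhu.unit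
    rwa [IsUnit.unit_spec] at this
  rw [this, mul_one]

/-- uniqueness of the Weierstrass factorization -/
theorem prep_unique
    (hB : Hens2.IsPairHenselization R[X] (Ideal.span {(X : R[X])}) B) (f : B)
    (P P' : R[X]) (u u' : Bˣ) (hP : IsW P) (hP' : IsW P')
    (h : f = algebraMap R[X] B P * (u : B)) (h' : f = algebraMap R[X] B P' * (u' : B)) :
    P = P' ∧ u = u' := by
  have key : ∀ (Q Q' : R[X]) (w w' : Bˣ), IsW Q → IsW Q' →
      algebraMap R[X] B Q * (w : B) = algebraMap R[X] B Q' * (w' : B) → Q ∣ Q' := by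
    intro Q Q' w w' hQ hQ' he
    have h1 : algebraMap R[X] B Q' ∈ Ideal.span {algebraMap R[X] B Q} := by
      rw [Ideal.mem_span_singleton]
      refine ⟨(w : B) * ((w'⁻¹ : Bˣ) : B), ?_⟩
      have h2 : (w' : B) * ((w'⁻¹ : Bˣ) : B) = 1 := Units.mul_inv w'
      linear_combination (-(algebraMap R[X] B Q')) * h2 - ((w'⁻¹ : Bˣ) : B) * he
    exact Ideal.mem_span_singleton.1 (wdiv_inj hB Q hQ Q' h1)
  have hPP' : P = P' := by
    obtain ⟨c, hc⟩ := key P P' u u' hP hP' (h.symm.trans h')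
    obtain ⟨c', hc'⟩ := key P' P u' u hP' hP (h'.symm.trans h)
    have hcm : c.Monic := hP.1.of_mul_monic_left (hc ▸ hP'.1)
    have hcm' : c'.Monic := hP'.1.of_mul_monic_left (hc' ▸ hP.1)
    have hd1 : P'.natDegree = P.natDegree + c.natDegree := by
      rw [hc, hP.1.natDegree_mul hcm]
    have hd2 : P.natDegree = P'.natDegree + c'.natDegree := by
      conv_lhs => rw [hc']
      rw [hP'.1.natDegree_mul hcm']
    have hc0 : c.natDegree = 0 := by omega
    rw [hc, (hcm.natDegree_eq_zero).1 hc0, mul_one]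
  refine ⟨hPP', ?_⟩
  subst hPP'
  haveI : Module.Flat R[X] B := EtaleNbhd.flat hB
  have hreg : IsSMulRegular B (algebraMap R[X] B P) :=
    IsSMulRegular.of_flat (hP.1.isRegular.left.isSMulRegular)
  apply Units.ext
  apply hreg
  show algebraMap R[X] B P • (u : B) = algebraMap R[X] B P • (u' : B)
  rw [smul_eq_mul, smul_eq_mul, ← h, ← h']

/-- S15752 -/
theorem main15752
    (hB : Hens2.IsPairHenselization R[X] (Ideal.span {(X : R[X])}) B)
    (f : B) (hf : f ∉ (IsLocalRing.maximalIdeal R).map (algebraMap R B)) :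
    (∃! Pu : R[X] × Bˣ, Pu.1.Monic ∧
        (∀ i : ℕ, i < Pu.1.natDegree → Pu.1.coeff i ∈ IsLocalRing.maximalIdeal R) ∧
        f = algebraMap R[X] B Pu.1 * (Pu.2 : B)) ∧
    (∀ (P : R[X]) (u : Bˣ), P.Monic →
        (∀ i : ℕ, i < P.natDegree → P.coeff i ∈ IsLocalRing.maximalIdeal R) →
        f = algebraMap R[X] B P * (u : B) →
      (∀ b : B, ∃ q : R[X], algebraMap R[X] B q - b ∈ Ideal.span {f}) ∧
      (∀ q : R[X], algebraMap R[X] B q ∈ Ideal.span {f} → q ∈ Ideal.span {P})) := by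
  refine ⟨?_, ?_⟩
  · obtain ⟨P, u, hP, hfP⟩ := exists_prep hB f hf
    refine ⟨(P, u), ⟨hP.1, hP.2, hfP⟩, ?_⟩
    rintro ⟨P', u'⟩ ⟨h1, h2, h3⟩
    obtain ⟨e1, e2⟩ := prep_unique hB f P' P u' u ⟨h1, h2⟩ hP h3 hfP
    rw [e1, e2]
  · intro P u hPm hPc hfP
    have hspan : Ideal.span {f} = Ideal.span {algebraMap R[X] B P} := by
      rw [hfP]
      exact Ideal.span_singleton_mul_right_unit u.isUnit _
    rw [hspan]
    exact ⟨fun b => wdiv_surj hB P ⟨hPm, hPc⟩ b, fun q hq => wdiv_inj hB P ⟨hPm, hPc⟩ q hq⟩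

end Groth.Agent.Lib.WPrepDH5
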