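import Mathlib
import Groth.Prelude.Def_Hens2
import Groth.Agent.Lib.WPrepD_helper5
import Groth.Agent.Lib.LaurentIdeals_helper3

/-!
# Ideals of `R[s]` and of `R{t}[1/t]` missing the closed fibre (helper5)

`R` henselian local, `B` a henselization of `(R[X], (X))`, `L = B[1/t]`, `ψ : R[s] → L`, `s ↦ t⁻¹`.
-/

set_option autoImplicit false
universe u

open Polynomial IsLocalRing

namespace Groth.Agent.Lib.LaurHensH5

open Groth.Agent.Lib Groth.Agent.Lib.WPrepAH5 Groth.Agent.Lib.WPrepBH5 Groth.Agent.Lib.WPrepCH5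
  Groth.Agent.Lib.WPrepDH5 Groth.Agent.Lib.LaurentIdealsH3

section Basic

variable {R : Type u} [CommRing R] {B : Type u} [CommRing B] [Algebra R[X] B]

theorem algebraMap_injective
    (hB : Hens2.IsPairHenselization R[X] (Ideal.span {(X : R[X])}) B) :
    Function.Injective (algebraMap R[X] B) := by
  obtain ⟨ι, hι⟩ := exists_iota hB
  intro p q hpq
  have := congrArg ι hpq
  rw [hι, hι] at this
  exact Polynomial.coe_injective R this

theorem t_regular (hB : Hens2.IsPairHenselization R[X] (Ideal.span {(X : R[X])}) B) :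
    IsSMulRegular B (algebraMap R[X] B X) := by
  haveI : Module.Flat R[X] B := EtaleNbhd.flat hB
  exact IsSMulRegular.of_flat ((monic_X (R := R)).isRegular.left.isSMulRegular)

variable {L : Type u} [CommRing L] [Algebra B L] [IsLocalization.Away (algebraMap R[X] B X) L]

theorem algebraMap_BL_injective
    (hB : Hens2.IsPairHenselization R[X] (Ideal.span {(X : R[X])}) B) :
    Function.Injective (algebraMap B L) := by
  apply IsLocalization.injective L (M := Submonoid.powers (algebraMap R[X] B X))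
  rw [Submonoid.powers_le]
  rw [mem_nonZeroDivisors_iff_right]
  intro x hx
  apply t_regular hB
  show algebraMap R[X] B X • x = algebraMap R[X] B X • 0
  rw [smul_eq_mul, smul_eq_mul, mul_zero, mul_comm]; exact hx

end Basic

section Main

variable {R : Type u} [CommRing R] [HenselianLocalRing R] {B : Type u} [CommRing B]
  [Algebra R[X] B] [Algebra R B] [IsScalarTower R R[X] B]
  {L : Type u} [CommRing L] [Algebra B L] [IsLocalization.Away (algebraMap R[X] B X) L]
  [Algebra R[X] L] [IsScalarTower R[X] B L] [Algebra R L] [IsScalarTower R R[X] L]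
  (ψ : R[X] →ₐ[R] L) (hψ : ψ X * algebraMap R[X] L X = 1)

/-- polynomials in `s` congruent to `1` modulo `𝔪`, normalised -/
def IsG (g : R[X]) : Prop := g.coeff 0 = 1 ∧ ∀ i, 0 < i → g.coeff i ∈ maximalIdeal R

omit [HenselianLocalRing R] in
theorem natDegree_reflect_of_coeff_zero [Nontrivial R] (g : R[X]) (hg : g.coeff 0 = 1) :
    (reflect g.natDegree g).natDegree = g.natDegree := by
  apply le_antisymm
  · exact natDegree_reflect_le.trans (le_of_eq (max_self _))
  · apply le_natDegree_of_ne_zero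
    rw [coeff_reflect, revAt_le (le_refl _), Nat.sub_self, hg]
    exact one_ne_zero

theorem isW_reflect (g : R[X]) (hg : IsG g) : IsW (reflect g.natDegree g) := by
  refine ⟨monic_reflect hg.1, fun i hi => ?_⟩
  rw [natDegree_reflect_of_coeff_zero g hg.1] at hi
  rw [coeff_reflect, revAt_le hi.le]
  exact hg.2 _ (by omega)

theorem isG_reflect (W : R[X]) (hW : IsW W) : IsG (reflect W.natDegree W) := by
  refine ⟨?_, fun i hi => ?_⟩
  · rw [coeff_reflect, revAt_le (Nat.zero_le _), Nat.sub_zero]; exact hW.1.coeff_natDegree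
  · rw [coeff_reflect]
    by_cases h : i ≤ W.natDegree
    · rw [revAt_le h]; exact hW.2 _ (by omega)
    · rw [revAt_eq_self_of_lt (not_le.1 h), coeff_eq_zero_of_natDegree_lt (not_le.1 h)]
      exact Ideal.zero_mem _

include hψ in
theorem psi_injective (hB : Hens2.IsPairHenselization R[X] (Ideal.span {(X : R[X])}) B) :
    Function.Injective ψ := by
  rw [injective_iff_map_eq_zero]
  intro h hh
  have h1 := algebraMap_reflect ψ hψ h.natDegree h le_rfl
  rw [hh, zero_mul, IsScalarTower.algebraMap_apply R[X] B L] at h1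
  have h2 : algebraMap R[X] B (reflect h.natDegree h) = 0 :=
    algebraMap_BL_injective (L := L) hB (by rw [h1, map_zero])
  have h3 : reflect h.natDegree h = 0 := algebraMap_injective hB (by rw [h2, map_zero])
  exact (reflect_eq_zero_iff).1 h3

include hψ in
/-- `R[s]/(g) → L/(ψ g)` is surjective -/
theorem Ksurj (hB : Hens2.IsPairHenselization R[X] (Ideal.span {(X : R[X])}) B)
    (g : R[X]) (hg : IsG g) (l : L) : ∃ a : R[X], l - ψ a ∈ Ideal.span {ψ g} := by
  obtain ⟨N, hN⟩ : ∃ N : ℕ, N = g.natDegree := ⟨_, rfl⟩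
  obtain ⟨W, hWdef⟩ : ∃ W : R[X], W = reflect N g := ⟨_, rfl⟩
  have hW : IsW W := by rw [hWdef, hN]; exact isW_reflect g hg
  have hWd : W.natDegree = N := by
    rw [hWdef, hN]; exact natDegree_reflect_of_coeff_zero g hg.1
  obtain ⟨k, b, hb⟩ := IsLocalization.Away.surj (algebraMap R[X] B X) l
  have htL : algebraMap B L (algebraMap R[X] B X) = algebraMap R[X] L X :=
    (IsScalarTower.algebraMap_apply R[X] B L X).symm
  rw [htL] at hb
  obtain ⟨q, hq⟩ := wdiv_surj hB W hW (b * (algebraMap R[X] B X) ^ N)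
  have hp : algebraMap R[X] B (q %ₘ W) - b * (algebraMap R[X] B X) ^ N ∈
      Ideal.span {algebraMap R[X] B W} := by
    have h2 := modByMonic_add_div q (q := W)
    have h4 : algebraMap R[X] B q = algebraMap R[X] B (q %ₘ W) +
        algebraMap R[X] B W * algebraMap R[X] B (q /ₘ W) := by
      rw [← map_mul, ← map_add, h2]
    have h3 : algebraMap R[X] B (q %ₘ W) - b * (algebraMap R[X] B X) ^ N =
        (algebraMap R[X] B q - b * (algebraMap R[X] B X) ^ N) -
          algebraMap R[X] B W * algebraMap R[X] B (q /ₘ W) := by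
      rw [h4]; ring
    rw [h3]
    exact Ideal.sub_mem _ hq (Ideal.mul_mem_right _ _ (Ideal.mem_span_singleton_self _))
  obtain ⟨c, hc⟩ := Ideal.mem_span_singleton.1 hp
  have hpdeg : (q %ₘ W).natDegree ≤ k + N := by
    have := natDegree_modByMonic_le q hW.1
    omega
  have e3 : algebraMap R[X] L (q %ₘ W) - algebraMap B L b * (algebraMap R[X] L X) ^ N =
      algebraMap R[X] L W * algebraMap B L c := by
    have := congrArg (algebraMap B L) hc
    rw [map_sub, map_mul, map_mul, map_pow, htL, ← IsScalarTower.algebraMap_apply R[X] B L,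
      ← IsScalarTower.algebraMap_apply R[X] B L] at this
    exact this
  have e4 : algebraMap R[X] L W = ψ g * (algebraMap R[X] L X) ^ N := by
    rw [hWdef]; exact algebraMap_reflect ψ hψ N g (le_of_eq hN.symm)
  have e5 := psi_reflect ψ hψ (k + N) (q %ₘ W) hpdeg
  refine ⟨reflect (k + N) (q %ₘ W), ?_⟩
  rw [Ideal.mem_span_singleton]
  refine ⟨-((algebraMap R[X] L X) ^ N * algebraMap B L c * ψ X ^ (k + N)), ?_⟩
  have hone : (algebraMap R[X] L X) ^ (k + N) * ψ X ^ (k + N) = 1 := by
    rw [← mul_pow, mul_comm, hψ, one_pow]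
  have h6 : l = l * (algebraMap R[X] L X) ^ k * (algebraMap R[X] L X) ^ N * ψ X ^ (k + N) := by
    rw [mul_assoc l, ← pow_add, mul_assoc, hone, mul_one]
  rw [e5]
  conv_lhs => rw [h6, hb]
  rw [e4] at e3
  linear_combination (-(ψ X ^ (k + N))) * e3

include hψ in
/-- `R[s]/(g) → L/(ψ g)` is injective -/
theorem Kinj (hB : Hens2.IsPairHenselization R[X] (Ideal.span {(X : R[X])}) B)
    (g : R[X]) (hg : IsG g) (a : R[X]) (h : ψ a ∈ Ideal.span {ψ g}) : a ∈ Ideal.span {g} := by
  obtain ⟨l, hl⟩ := Ideal.mem_span_singleton.1 h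
  obtain ⟨N, hN⟩ : ∃ N : ℕ, N = g.natDegree := ⟨_, rfl⟩
  obtain ⟨W, hWdef⟩ : ∃ W : R[X], W = reflect N g := ⟨_, rfl⟩
  have hW : IsW W := by rw [hWdef, hN]; exact isW_reflect g hg
  have hWd : W.natDegree = N := by
    rw [hWdef, hN]; exact natDegree_reflect_of_coeff_zero g hg.1
  obtain ⟨n, hn⟩ : ∃ n : ℕ, n = a.natDegree := ⟨_, rfl⟩
  obtain ⟨A, hA⟩ : ∃ A : R[X], A = reflect n a := ⟨_, rfl⟩
  have eA : algebraMap R[X] L A = ψ a * (algebraMap R[X] L X) ^ n := by
    rw [hA]; exact algebraMap_reflect ψ hψ n a (le_of_eq hn.symm)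
  have e4 : algebraMap R[X] L W = ψ g * (algebraMap R[X] L X) ^ N := by
    rw [hWdef]; exact algebraMap_reflect ψ hψ N g (le_of_eq hN.symm)
  obtain ⟨k, b, hb⟩ := IsLocalization.Away.surj (algebraMap R[X] B X) l
  have htL : algebraMap B L (algebraMap R[X] B X) = algebraMap R[X] L X :=
    (IsScalarTower.algebraMap_apply R[X] B L X).symm
  rw [htL] at hb
  have h1 : algebraMap B L (algebraMap R[X] B (A * X ^ (N + k))) =
      algebraMap B L (algebraMap R[X] B W * (b * (algebraMap R[X] B X) ^ n)) := by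
    rw [← IsScalarTower.algebraMap_apply R[X] B L, map_mul (algebraMap B L),
      map_mul (algebraMap B L), map_pow (algebraMap B L), htL,
      ← IsScalarTower.algebraMap_apply R[X] B L, map_mul, map_pow, eA, e4, ← hb, hl]
    ring
  have h2 := algebraMap_BL_injective (L := L) hB h1
  have h3 : A * X ^ (N + k) ∈ Ideal.span {W} := by
    apply wdiv_inj hB W hW
    rw [h2]
    exact Ideal.mul_mem_right _ _ (Ideal.mem_span_singleton_self _)
  obtain ⟨q, hq⟩ := Ideal.mem_span_singleton.1 h3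
  have hqdeg : q.natDegree ≤ n + k := by
    by_cases hq0 : q = 0
    · rw [hq0, natDegree_zero]; exact Nat.zero_le _
    · have h4 : (W * q).natDegree = N + q.natDegree := by
        rw [hW.1.natDegree_mul' hq0, hWd]
      have h5 : (A * X ^ (N + k)).natDegree ≤ n + (N + k) := by
        refine natDegree_mul_le.trans (add_le_add ?_ (natDegree_X_pow_le _))
        rw [hA]
        exact natDegree_reflect_le.trans (by rw [hn, max_self])
      rw [hq, h4] at h5
      omega
  have e5 := psi_reflect ψ hψ (n + k) q hqdeg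
  have hone : ∀ j : ℕ, (algebraMap R[X] L X) ^ j * ψ X ^ j = 1 := fun j => by
    rw [← mul_pow, mul_comm, hψ, one_pow]
  have h6 : ψ a = ψ (g * reflect (n + k) q) := by
    rw [map_mul, e5]
    have h7 := congrArg (algebraMap R[X] L) hq
    rw [map_mul, map_mul, map_pow, eA, e4] at h7
    have h8 : ψ a = ψ a * ((algebraMap R[X] L X) ^ (n + (N + k)) * ψ X ^ (n + (N + k))) := by
      rw [hone, mul_one]
    have h9 : ψ g * (algebraMap R[X] L q * ψ X ^ (n + k)) =
        ψ g * algebraMap R[X] L q * ψ X ^ (n + k) * ((algebraMap R[X] L X) ^ N * ψ X ^ N) := by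
      rw [hone, mul_one, mul_assoc]
    rw [h8, h9, pow_add (algebraMap R[X] L X) n, pow_add (ψ X) n (N + k), pow_add (ψ X) N k,
      pow_add (ψ X) n k]
    linear_combination (ψ X ^ n * (ψ X ^ N * ψ X ^ k)) * h7
  have h10 := psi_injective ψ hψ hB h6
  rw [h10]
  exact Ideal.mul_mem_right _ _ (Ideal.mem_span_singleton_self _)

omit [HenselianLocalRing R] in
theorem exists_G_of_ideal [IsLocalRing R] (I : Ideal R[X])
    (hI : I ⊔ (maximalIdeal R).map (algebraMap R R[X]) = ⊤) :
    ∃ g ∈ I, g.coeff 0 = 1 ∧ ∀ i, 0 < i → g.coeff i ∈ maximalIdeal R := by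
  have h1 : (1 : R[X]) ∈ I ⊔ (maximalIdeal R).map (algebraMap R R[X]) := by rw [hI]; trivial
  obtain ⟨i, hi, z, hz, hiz⟩ := Submodule.mem_sup.1 h1
  have hzc : ∀ n, z.coeff n ∈ maximalIdeal R := by
    have : (maximalIdeal R).map (algebraMap R R[X]) = (maximalIdeal R).map C := rfl
    rw [this, Ideal.mem_map_C_iff] at hz
    exact hz
  have hi' : i = 1 - z := by rw [← hiz]; ring
  have hu : IsUnit (i.coeff 0) := by
    rw [hi', coeff_sub, coeff_one_zero]
    by_contra hnu
    have h2 : 1 - z.coeff 0 ∈ maximalIdeal R := (mem_maximalIdeal _).2 hnu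
    have : (1 : R) ∈ maximalIdeal R := by
      have := Ideal.add_mem _ h2 (hzc 0)
      rwa [sub_add_cancel] at this
    exact (Ideal.ne_top_iff_one _).1 (maximalIdeal.isMaximal R).ne_top this
  obtain ⟨w, hw⟩ := hu.exists_left_inv
  refine ⟨C w * i, Ideal.mul_mem_left _ _ hi, ?_, fun n hn => ?_⟩
  · rw [coeff_C_mul, hw]
  · rw [coeff_C_mul, hi', coeff_sub, coeff_one, if_neg hn.ne', zero_sub]
    exact Ideal.mul_mem_left _ _ (neg_mem (hzc n))

omit [HenselianLocalRing R] in
theorem algebraMap_RL_eq [IsLocalRing R] :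
    algebraMap R L = (algebraMap B L).comp (algebraMap R B) := by
  refine RingHom.ext fun r => ?_
  rw [RingHom.comp_apply, IsScalarTower.algebraMap_apply R R[X] L,
    IsScalarTower.algebraMap_apply R[X] B L, ← IsScalarTower.algebraMap_apply R R[X] B]

include hψ in
theorem exists_G_of_ideal_L (hB : Hens2.IsPairHenselization R[X] (Ideal.span {(X : R[X])}) B)
    (J : Ideal L) (hJ : J ⊔ (maximalIdeal R).map (algebraMap R L) = ⊤) :
    ∃ g : R[X], IsG g ∧ ψ g ∈ J := by
  have h1 : (1 : L) ∈ J ⊔ (maximalIdeal R).map (algebraMap R L) := by rw [hJ]; trivial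
  obtain ⟨j, hj, z, hz, hjz⟩ := Submodule.mem_sup.1 h1
  have htL : algebraMap B L (algebraMap R[X] B X) = algebraMap R[X] L X :=
    (IsScalarTower.algebraMap_apply R[X] B L X).symm
  rw [algebraMap_RL_eq (R := R) (B := B) (L := L), ← Ideal.map_map,
    IsLocalization.mem_map_algebraMap_iff (Submonoid.powers (algebraMap R[X] B X))] at hz
  obtain ⟨⟨⟨zB, hzB⟩, ⟨_, k, rfl⟩⟩, hzk⟩ := hz
  simp only [map_pow, htL] at hzk
  obtain ⟨k', b, hb⟩ := IsLocalization.Away.surj (algebraMap R[X] B X) j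
  rw [htL] at hb
  -- the equation `t^(k+k') = b t^k + zB t^k'` in `B`
  have h2 : algebraMap B L ((algebraMap R[X] B X) ^ (k + k')) =
      algebraMap B L (b * (algebraMap R[X] B X) ^ k + zB * (algebraMap R[X] B X) ^ k') := by
    rw [map_pow, map_add, map_mul, map_mul, map_pow, map_pow, htL, ← hb, ← hzk, pow_add]
    have : j + z = 1 := hjz
    linear_combination (-(algebraMap R[X] L X ^ k * algebraMap R[X] L X ^ k')) * this
  have h3 := algebraMap_BL_injective (L := L) hB h2
  obtain ⟨b', hb'⟩ : ∃ b' : B, b' = b * (algebraMap R[X] B X) ^ k := ⟨_, rfl⟩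
  have hb'm : b' ∉ (maximalIdeal R).map (algebraMap R B) := by
    intro hmem
    obtain ⟨ρ, -, hρX, hρm⟩ := exists_rho (R := R) hB
    have h4 : (algebraMap R[X] B X) ^ (k + k') ∈ (maximalIdeal R).map (algebraMap R B) := by
      rw [h3, ← hb']
      exact Ideal.add_mem _ hmem (Ideal.mul_mem_right _ _ hzB)
    have := hρm _ h4
    rw [map_pow, hρX] at this
    exact pow_ne_zero _ PowerSeries.X_ne_zero this
  have hb'J : algebraMap B L b' ∈ J := by
    rw [hb', map_mul, map_pow, htL, ← hb]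
    rw [mul_assoc]
    exact Ideal.mul_mem_right _ _ hj
  obtain ⟨P, u, hP, hPu⟩ := exists_prep hB b' hb'm
  have hPJ : algebraMap R[X] L P ∈ J := by
    have h5 : algebraMap R[X] B P = b' * ((u⁻¹ : Bˣ) : B) := by
      rw [hPu, mul_assoc, Units.mul_inv, mul_one]
    rw [IsScalarTower.algebraMap_apply R[X] B L, h5, map_mul]
    exact Ideal.mul_mem_right _ _ hb'J
  refine ⟨reflect P.natDegree P, isG_reflect P hP, ?_⟩
  rw [psi_reflect ψ hψ P.natDegree P le_rfl]
  exact Ideal.mul_mem_right _ _ hPJ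

include hψ in
theorem part1 (hB : Hens2.IsPairHenselization R[X] (Ideal.span {(X : R[X])}) B)
    (I : Ideal R[X]) (hI : I ⊔ (maximalIdeal R).map (algebraMap R R[X]) = ⊤) :
    (I.map ψ.toRingHom).comap ψ.toRingHom = I ∧
      I.map ψ.toRingHom ⊔ (maximalIdeal R).map (algebraMap R L) = ⊤ ∧
      Function.Bijective
        (Ideal.quotientMap (I.map ψ.toRingHom) ψ.toRingHom Ideal.le_comap_map) := by
  obtain ⟨g, hgI, hg⟩ := exists_G_of_ideal I hI
  have hgL : Ideal.span {ψ g} ≤ I.map ψ.toRingHom := by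
    rw [Ideal.span_le, Set.singleton_subset_iff]
    exact Ideal.mem_map_of_mem ψ.toRingHom hgI
  have hcomap : (I.map ψ.toRingHom).comap ψ.toRingHom ≤ I := by
    intro a ha
    rw [Ideal.mem_comap] at ha
    have key : ∀ y ∈ I.map ψ.toRingHom, ∃ i' ∈ I, y - ψ i' ∈ Ideal.span {ψ g} := by
      intro y hy
      unfold Ideal.map at hy
      refine Submodule.span_induction (p := fun y _ => ∃ i' ∈ I, y - ψ i' ∈ Ideal.span {ψ g})
        ?_ ?_ ?_ ?_ hy
      · rintro _ ⟨i, hi, rfl⟩
        exact ⟨i, hi, by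
          show ψ i - ψ i ∈ _
          rw [sub_self]; exact Ideal.zero_mem _⟩
      · exact ⟨0, zero_mem _, by rw [map_zero, sub_zero]; exact Ideal.zero_mem _⟩
      · rintro y₁ y₂ _ _ ⟨i₁, hi₁, e₁⟩ ⟨i₂, hi₂, e₂⟩
        refine ⟨i₁ + i₂, add_mem hi₁ hi₂, ?_⟩
        have : y₁ + y₂ - ψ (i₁ + i₂) = (y₁ - ψ i₁) + (y₂ - ψ i₂) := by rw [map_add]; ring
        rw [this]; exact add_mem e₁ e₂
      · rintro l y _ ⟨i', hi', e⟩
        obtain ⟨al, hal⟩ := Ksurj ψ hψ hB g hg l
        refine ⟨al * i', Ideal.mul_mem_left _ _ hi', ?_⟩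
        have : l • y - ψ (al * i') = (l - ψ al) * y + ψ al * (y - ψ i') := by
          rw [map_mul, smul_eq_mul]; ring
        rw [this]
        exact add_mem (Ideal.mul_mem_right _ _ hal) (Ideal.mul_mem_left _ _ e)
    obtain ⟨i', hi', e⟩ := key _ ha
    have h1 : ψ (a - i') ∈ Ideal.span {ψ g} := by rw [map_sub]; exact e
    have h2 := Kinj ψ hψ hB g hg _ h1
    have h3 : a - i' ∈ I := by
      obtain ⟨c, hc⟩ := Ideal.mem_span_singleton.1 h2
      rw [hc]; exact Ideal.mul_mem_right _ _ hgI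
    have : a = (a - i') + i' := by ring
    rw [this]; exact add_mem h3 hi'
  have hcomap' : (I.map ψ.toRingHom).comap ψ.toRingHom = I :=
    le_antisymm hcomap Ideal.le_comap_map
  refine ⟨hcomap', ?_, ?_, ?_⟩
  · -- comaximality
    rw [eq_top_iff]
    have h1 : (1 : R[X]) ∈ I ⊔ (maximalIdeal R).map (algebraMap R R[X]) := by rw [hI]; trivial
    obtain ⟨i, hi, z, hz, hiz⟩ := Submodule.mem_sup.1 h1
    have h2 : ψ z ∈ (maximalIdeal R).map (algebraMap R L) := by
      have : (maximalIdeal R).map (algebraMap R L) =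
          ((maximalIdeal R).map (algebraMap R R[X])).map ψ.toRingHom := by
        rw [Ideal.map_map]
        congr 1
        exact ψ.comp_algebraMap.symm
      rw [this]
      exact Ideal.mem_map_of_mem _ hz
    have h3 : (1 : L) = ψ i + ψ z := by rw [← map_add, hiz, map_one]
    intro x _
    have : x = x * ψ i + x * ψ z := by rw [← mul_add, ← h3, mul_one]
    rw [this]
    exact add_mem (Ideal.mem_sup_left (Ideal.mul_mem_left _ _ (Ideal.mem_map_of_mem _ hi)))
      (Ideal.mem_sup_right (Ideal.mul_mem_left _ _ h2))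
  · -- injectivity
    rw [injective_iff_map_eq_zero]
    intro x hx
    obtain ⟨a, rfl⟩ := Ideal.Quotient.mk_surjective x
    rw [Ideal.quotientMap_mk, Ideal.Quotient.eq_zero_iff_mem] at hx
    rw [Ideal.Quotient.eq_zero_iff_mem]
    exact hcomap hx
  · -- surjectivity
    intro y
    obtain ⟨l, rfl⟩ := Ideal.Quotient.mk_surjective y
    obtain ⟨al, hal⟩ := Ksurj ψ hψ hB g hg l
    refine ⟨Ideal.Quotient.mk I al, ?_⟩
    rw [Ideal.quotientMap_mk, Ideal.Quotient.eq]
    have : ψ.toRingHom al - l = -(l - ψ al) := by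
      show ψ al - l = _
      ring
    rw [this]
    exact neg_mem (hgL hal)

include hψ in
theorem part2 (hB : Hens2.IsPairHenselization R[X] (Ideal.span {(X : R[X])}) B)
    (J : Ideal L) (hJ : J ⊔ (maximalIdeal R).map (algebraMap R L) = ⊤) :
    (J.comap ψ.toRingHom).map ψ.toRingHom = J ∧
      J.comap ψ.toRingHom ⊔ (maximalIdeal R).map (algebraMap R R[X]) = ⊤ := by
  obtain ⟨g, hg, hgJ⟩ := exists_G_of_ideal_L ψ hψ hB J hJ
  have hgc : g ∈ J.comap ψ.toRingHom := Ideal.mem_comap.2 hgJ
  refine ⟨le_antisymm Ideal.map_comap_le ?_, ?_⟩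
  · intro x hx
    obtain ⟨a, ha⟩ := Ksurj ψ hψ hB g hg x
    obtain ⟨y, hy⟩ := Ideal.mem_span_singleton.1 ha
    have hψa : ψ a ∈ J := by
      have : ψ a = x - ψ g * y := by rw [← hy]; ring
      rw [this]
      exact sub_mem hx (Ideal.mul_mem_right _ _ hgJ)
    have hx' : x = ψ.toRingHom a + ψ.toRingHom g * y := by
      show x = ψ a + ψ g * y
      rw [← hy]; ring
    rw [hx']
    exact add_mem (Ideal.mem_map_of_mem _ (Ideal.mem_comap.2 hψa))
      (Ideal.mul_mem_right _ _ (Ideal.mem_map_of_mem _ hgc))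
  · rw [Ideal.eq_top_iff_one]
    have hg1 : g - 1 ∈ (maximalIdeal R).map (algebraMap R R[X]) := by
      have : (maximalIdeal R).map (algebraMap R R[X]) = (maximalIdeal R).map C := rfl
      rw [this, Ideal.mem_map_C_iff]
      intro n
      rw [coeff_sub, coeff_one]
      by_cases hn : n = 0
      · rw [if_pos hn, hn, hg.1, sub_self]; exact Ideal.zero_mem _
      · rw [if_neg hn, sub_zero]; exact hg.2 n (Nat.pos_of_ne_zero hn)
    have : (1 : R[X]) = g - (g - 1) := by ring
    rw [this]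
    exact sub_mem (Ideal.mem_sup_left hgc) (Ideal.mem_sup_right hg1)

end Main

end Groth.Agent.Lib.LaurHensH5
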