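import Mathlib
import Groth.Prelude.Def_Hens2
import Groth.Agent.Lib.IdemApx4_helper5
import Groth.Agent.Lib.ComplIso_helper5
import Groth.Agent.Lib.LaurHens_helper5

/-!
# `R{t}[1/t] → R((t))`: descent of finitely generated projective modules (helper5)
-/

set_option autoImplicit false
set_option maxHeartbeats 1000000
universe u

open Polynomial TensorProduct

namespace Groth.Agent.Lib.IdemApx5H5

open Groth.Agent.Lib Groth.Agent.Lib.LaurApproxH1 Groth.Agent.Lib.IdemApxH5
  Groth.Agent.Lib.WPrepAH5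

variable {R : Type u} [CommRing R] {B : Type u} [CommRing B] [Algebra R[X] B]

theorem psi_map_le (ψ : B →ₐ[R[X]] PowerSeries R) :
    (Ideal.span {algebraMap R[X] B X}).map ψ ≤ Ideal.span {(PowerSeries.X : PowerSeries R)} := by
  rw [Ideal.map_span, Set.image_singleton]
  apply Ideal.span_mono
  rw [Set.singleton_subset_iff, Set.mem_singleton_iff]
  show ψ (algebraMap R[X] B X) = PowerSeries.X
  rw [ψ.commutes]
  exact Polynomial.coe_X

theorem psi_algebraMap (ψ : B →ₐ[R[X]] PowerSeries R) (p : R[X]) :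
    ψ (algebraMap R[X] B p) = (p : PowerSeries R) := ψ.commutes p

theorem psi_t (ψ : B →ₐ[R[X]] PowerSeries R) :
    ψ (algebraMap R[X] B X) = PowerSeries.X := by
  rw [psi_algebraMap, Polynomial.coe_X]

theorem lvl_bijective (hB : Hens2.IsPairHenselization R[X] (Ideal.span {(X : R[X])}) B)
    (ψ : B →ₐ[R[X]] PowerSeries R) (n : ℕ) :
    Function.Bijective (ComplIsoH5.lvl ψ (Ideal.span {algebraMap R[X] B X})
      (Ideal.span {(PowerSeries.X : PowerSeries R)}) (psi_map_le ψ) n) := by
  constructor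
  · rw [injective_iff_map_eq_zero]
    intro z hz
    obtain ⟨b, rfl⟩ := Ideal.Quotient.mk_surjective z
    rw [ComplIsoH5.lvl_mk, Ideal.Quotient.eq_zero_iff_mem, Ideal.span_singleton_pow,
      Ideal.mem_span_singleton] at hz
    obtain ⟨p, c, hp, rfl⟩ := exists_trunc hB n b
    rw [map_add, map_mul, map_pow, psi_algebraMap, psi_t, dvd_add_left (Dvd.intro _ rfl),
      PowerSeries.X_pow_dvd_iff] at hz
    have hp0 : p = 0 := by
      ext m
      rw [Polynomial.coeff_zero]
      by_cases hm : m < n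
      · have := hz m hm
        rwa [Polynomial.coeff_coe] at this
      · apply Polynomial.coeff_eq_zero_of_degree_lt
        exact lt_of_lt_of_le hp (by exact_mod_cast not_lt.mp hm)
    rw [hp0, map_zero, zero_add, Ideal.Quotient.eq_zero_iff_mem, Ideal.span_singleton_pow]
    exact Ideal.mem_span_singleton.2 (Dvd.intro _ rfl)
  · intro y
    obtain ⟨g, rfl⟩ := Ideal.Quotient.mk_surjective y
    refine ⟨Ideal.Quotient.mk _ (algebraMap R[X] B (PowerSeries.trunc n g)), ?_⟩
    rw [ComplIsoH5.lvl_mk, psi_algebraMap, Ideal.Quotient.eq, Ideal.span_singleton_pow,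
      Ideal.mem_span_singleton, PowerSeries.X_pow_dvd_iff]
    intro m hm
    rw [map_sub, Polynomial.coeff_coe, PowerSeries.coeff_trunc, if_pos hm, sub_self]

/-- the completion of `R{t}` is `R⟦t⟧` -/
theorem exists_theta (hB : Hens2.IsPairHenselization R[X] (Ideal.span {(X : R[X])}) B)
    (ψ : B →ₐ[R[X]] PowerSeries R) :
    ∃ Θ : Ah B (algebraMap R[X] B X) ≃+* PowerSeries R,
      ∀ b : B, Θ (algebraMap B (Ah B (algebraMap R[X] B X)) b) = ψ b := by
  obtain ⟨e, he⟩ := ComplIsoH5.exists_algEquiv ψ (Ideal.span {algebraMap R[X] B X})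
    (Ideal.span {(PowerSeries.X : PowerSeries R)}) (psi_map_le ψ) (lvl_bijective hB ψ)
  refine ⟨e.toRingEquiv.trans
    (AdicCompletion.ofAlgEquiv (Ideal.span {(PowerSeries.X : PowerSeries R)})).symm.toRingEquiv,
    fun b => ?_⟩
  show (AdicCompletion.ofAlgEquiv (Ideal.span {(PowerSeries.X : PowerSeries R)})).symm
    (e (AdicCompletion.of _ B b)) = ψ b
  rw [he, AdicCompletion.ofAlgEquiv_symm_of]

/-- `R{t}^[1/t] ≅ R((t))`, compatibly with `R{t}[1/t]` -/
theorem exists_xi (hB : Hens2.IsPairHenselization R[X] (Ideal.span {(X : R[X])}) B)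
    (ψ : B →ₐ[R[X]] PowerSeries R)
    (L' : Type u) [CommRing L'] [Algebra (Localization.Away (algebraMap R[X] B X)) L']
    (e : L' ≃+* LaurentSeries R)
    (he : ∀ b : B, e (algebraMap (Localization.Away (algebraMap R[X] B X)) L'
      (algebraMap B (Localization.Away (algebraMap R[X] B X)) b)) =
      HahnSeries.ofPowerSeries ℤ R (ψ b))
    [Algebra (Lt B (algebraMap R[X] B X)) (Lh B (algebraMap R[X] B X))]
    (halg : algebraMap (Lt B (algebraMap R[X] B X)) (Lh B (algebraMap R[X] B X)) =
      Localization.awayMap (algebraMap B (Ah B (algebraMap R[X] B X))) (algebraMap R[X] B X)) :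
    ∃ Ξ : Lh B (algebraMap R[X] B X) ≃+* L',
      ∀ y : Lt B (algebraMap R[X] B X),
        Ξ (algebraMap (Lt B (algebraMap R[X] B X)) (Lh B (algebraMap R[X] B X)) y) =
          algebraMap (Lt B (algebraMap R[X] B X)) L' y := by
  obtain ⟨Θ, hΘ⟩ := exists_theta hB ψ
  have hH : Submonoid.map Θ.toMonoidHom
      (Submonoid.powers (th B (algebraMap R[X] B X))) =
      Submonoid.powers (PowerSeries.X : PowerSeries R) := by
    rw [Submonoid.map_powers]
    congr 1
    show Θ (algebraMap B (Ah B (algebraMap R[X] B X)) (algebraMap R[X] B X)) = PowerSeries.X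
    rw [hΘ, psi_t]
  obtain ⟨Ξ₀, hΞ₀⟩ : ∃ Ξ₀ : Lh B (algebraMap R[X] B X) ≃+* LaurentSeries R,
      Ξ₀ = IsLocalization.ringEquivOfRingEquiv (Lh B (algebraMap R[X] B X)) (LaurentSeries R) Θ hH :=
    ⟨_, rfl⟩
  have hΞ₀a : ∀ x : Ah B (algebraMap R[X] B X),
      Ξ₀ (algebraMap (Ah B (algebraMap R[X] B X)) (Lh B (algebraMap R[X] B X)) x) =
        HahnSeries.ofPowerSeries ℤ R (Θ x) := by
    intro x
    rw [hΞ₀, IsLocalization.ringEquivOfRingEquiv_eq, LaurentSeries.coe_algebraMap]
  refine ⟨Ξ₀.trans e.symm, fun y => ?_⟩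
  have hcomp : ((Ξ₀.trans e.symm : Lh B (algebraMap R[X] B X) ≃+* L') : 
      Lh B (algebraMap R[X] B X) →+* L').comp
      (algebraMap (Lt B (algebraMap R[X] B X)) (Lh B (algebraMap R[X] B X))) =
      algebraMap (Lt B (algebraMap R[X] B X)) L' := by
    apply IsLocalization.ringHom_ext (Submonoid.powers (algebraMap R[X] B X))
    ext b
    show e.symm (Ξ₀ (algebraMap (Lt B (algebraMap R[X] B X)) (Lh B (algebraMap R[X] B X))
      (algebraMap B (Lt B (algebraMap R[X] B X)) b))) = algebraMap _ L' (algebraMap B _ b)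
    rw [phi_algebraMap B _ halg, hΞ₀a, hΘ, ← he, RingEquiv.symm_apply_apply]
  exact RingHom.congr_fun hcomp y

/-- S19779 -/
theorem main19779 (hB : Hens2.IsPairHenselization R[X] (Ideal.span {(X : R[X])}) B)
    (ψ : B →ₐ[R[X]] PowerSeries R)
    (L' : Type u) [CommRing L'] [Algebra (Localization.Away (algebraMap R[X] B X)) L']
    (e : L' ≃+* LaurentSeries R)
    (he : ∀ b : B, e (algebraMap (Localization.Away (algebraMap R[X] B X)) L'
      (algebraMap B (Localization.Away (algebraMap R[X] B X)) b)) =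
      HahnSeries.ofPowerSeries ℤ R (ψ b)) :
    (∀ (M N : Type u) [AddCommGroup M] [Module (Localization.Away (algebraMap R[X] B X)) M]
        [Module.Finite (Localization.Away (algebraMap R[X] B X)) M]
        [Module.Projective (Localization.Away (algebraMap R[X] B X)) M]
        [AddCommGroup N] [Module (Localization.Away (algebraMap R[X] B X)) N]
        [Module.Finite (Localization.Away (algebraMap R[X] B X)) N]
        [Module.Projective (Localization.Away (algebraMap R[X] B X)) N],
        Nonempty (L' ⊗[Localization.Away (algebraMap R[X] B X)] M ≃ₗ[L']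
          L' ⊗[Localization.Away (algebraMap R[X] B X)] N) →
        Nonempty (M ≃ₗ[Localization.Away (algebraMap R[X] B X)] N)) ∧
    (∀ (M' : Type u) [AddCommGroup M'] [Module L' M'] [Module.Finite L' M']
        [Module.Projective L' M'],
        ∃ (M : Type u) (_ : AddCommGroup M)
          (_ : Module (Localization.Away (algebraMap R[X] B X)) M),
          Module.Finite (Localization.Away (algebraMap R[X] B X)) M ∧
          Module.Projective (Localization.Away (algebraMap R[X] B X)) M ∧
          Nonempty (L' ⊗[Localization.Away (algebraMap R[X] B X)] M ≃ₗ[L'] M')) := by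
  classical
  letI : Algebra (Lt B (algebraMap R[X] B X)) (Lh B (algebraMap R[X] B X)) :=
    (Localization.awayMap (algebraMap B (Ah B (algebraMap R[X] B X)))
      (algebraMap R[X] B X)).toAlgebra
  have halg : algebraMap (Lt B (algebraMap R[X] B X)) (Lh B (algebraMap R[X] B X)) =
      Localization.awayMap (algebraMap B (Ah B (algebraMap R[X] B X))) (algebraMap R[X] B X) :=
    rfl
  haveI : HenselianRing B (Ideal.span {algebraMap R[X] B X}) := hens_t hB
  have ht : algebraMap R[X] B X ∈ (⊥ : Ideal B).jacobson :=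
    (HenselianRing.jac (R := B) (I := Ideal.span {algebraMap R[X] B X}))
      (Ideal.mem_span_singleton_self _)
  obtain ⟨Ξ, hΞ⟩ := exists_xi hB ψ L' e he halg
  have hreg : ∀ (m : ℕ) (a : B), algebraMap R[X] B X ^ m * a = 0 → a = 0 := by
    intro m
    induction m with
    | zero => intro a ha; rwa [pow_zero, one_mul] at ha
    | succ m ih =>
      intro a ha
      apply ih
      apply LaurHensH5.t_regular hB
      show algebraMap R[X] B X • (algebraMap R[X] B X ^ m * a) = algebraMap R[X] B X • 0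
      rw [smul_eq_mul, smul_eq_mul, mul_zero, ← ha]
      ring
  have hbd : ∃ N : ℕ, ∀ a : B, (∃ m : ℕ, algebraMap R[X] B X ^ m * a = 0) →
      algebraMap R[X] B X ^ N * a = 0 :=
    ⟨0, fun a ⟨m, hm⟩ => by rw [hreg m a hm, mul_zero]⟩
  obtain ⟨D₀, hD₀⟩ : ∃ D₀ : ApproxData (Lt B (algebraMap R[X] B X)) (Lh B (algebraMap R[X] B X)),
      D₀.F = GA B (algebraMap R[X] B X) := ⟨approxDataAdic B _ halg ht, rfl⟩
  have happ : ∀ (n : ℕ) (E' : Matrix (Fin n) (Fin n) (Lh B (algebraMap R[X] B X))), E' * E' = E' →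
      ∃ E : Matrix (Fin n) (Fin n) (Lt B (algebraMap R[X] B X)), E * E = E ∧
        D₀.Small 1 (E' - E.map (algebraMap (Lt B (algebraMap R[X] B X))
          (Lh B (algebraMap R[X] B X)))) := by
    intro n E' hE'
    obtain ⟨E, hE, hc⟩ := exists_idem_approx B _ halg hbd E' hE' 1
    refine ⟨E, hE, fun i j => ?_⟩
    rw [hD₀, Matrix.sub_apply, Matrix.map_apply]
    have := hc i j
    rwa [Nat.cast_one] at this
  constructor
  · intro M N _ _ _ _ _ _ _ _ hφ
    obtain ⟨φ⟩ := hφ
    exact (transportData D₀ Ξ hΞ).nonempty_equiv_of_baseChange M N φ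
  · intro M' _ _ _ _
    exact exists_descent_of_idem_approx (transportData D₀ Ξ hΞ)
      (transport_idem_approx D₀ Ξ hΞ happ) M'

end Groth.Agent.Lib.IdemApx5H5
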