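import Mathlib
import Groth.Prelude
import Groth.Agent.Lib.GLDict_helper4

/-!
# Homomorphisms from a finite diagonalisable group to a matrix group over a field (helper4)

A natural multiplicative family of maps from the points of `D(M)` (`M` finite) to the points of a
group scheme with a matrix dictionary is given by a complete family of orthogonal idempotent
matrices `Pc a`, `a ∈ M`: the point with character `χ` goes to `∑ χ(a) Pc a`.
APPEND-ONLY once landed.
-/

set_option backward.isDefEq.respectTransparency.types false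
set_option autoImplicit false
set_option linter.unusedVariables false
set_option linter.unusedTactic false
set_option linter.unreachableTactic false
set_option linter.unusedSectionVars false
set_option linter.style.haveILetI false
set_option linter.deprecated false
set_option linter.unusedSimpArgs false
set_option linter.style.longLine false
set_option maxHeartbeats 1600000

universe u

open CategoryTheory CategoryTheory.Limits MonoidalCategory CartesianMonoidalCategory MonObj GrpObj
  AlgebraicGeometry Opposite TensorProduct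

namespace Groth.Agent.Lib.IdemClassH4

open Groth.Agent.Lib.RedDictH8 Groth.Agent.Lib.DSDict Groth.Agent.Lib.DiagHom
  Groth.Agent.Lib.GLDictH4 CoordGrp

/-- a matrix dictionary for the points of a group scheme over a field. -/
structure MatDict {F : Type u} [Field F] (GG : Over (Sk F)) [GrpObj GG] (m : ℕ) where
  mat : ∀ {T : Over (Sk F)}, (T ⟶ GG) → Matrix (Fin m) (Fin m) Γ(T.left, ⊤)
  mat_mul : ∀ {T : Over (Sk F)} (x y : T ⟶ GG), mat (x * y) = mat x * mat y
  mat_one : ∀ {T : Over (Sk F)}, mat (1 : T ⟶ GG) = 1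
  mat_inj : ∀ {T : Over (Sk F)} (x y : T ⟶ GG), mat x = mat y → x = y
  mat_nat : ∀ {T' T : Over (Sk F)} (h : T' ⟶ T) (y : T ⟶ GG) (i j : Fin m),
    mat (h ≫ y) i j = h.left.appTop (mat y i j)

/-- the matrix dictionary of `GL_m`. -/
noncomputable def mdGk (k : Type u) [Field k] (m : ℕ) : MatDict (Gk k m) m where
  mat := fun y => GLDictH4.mat y
  mat_mul := fun x y => GLDictH4.mat_mul x y
  mat_one := GLDictH4.mat_one
  mat_inj := fun x y h => GLDictH4.mat_inj x y h
  mat_nat := fun h y i j => GLDictH4.mat_nat h y i j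

/-! ### algebra in the group algebra -/

section Alg

variable {F : Type u} [Field F] {G : Type} [CommMonoid G]

lemma coeff_th1_mul_th2' (u v : MonoidAlgebra F G) (g₀ : G) :
    (th1 u * th2 v).coeff g₀ = algebraMap F (MonoidAlgebra F G) (u.coeff g₀) * v := by
  unfold th1 th2
  show (MonoidAlgebra.mapAlgHom G (Algebra.ofId F (MonoidAlgebra F G)) u *
    MonoidAlgebra.single 1 v).coeff g₀ = _
  rw [MonoidAlgebra.coeff_mul_single_one, MonoidAlgebra.coeff_mapAlgHom]
  rfl

lemma coeff_algebraMap_mul (c : F) (v : MonoidAlgebra F G) (g : G) :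
    (algebraMap F (MonoidAlgebra F G) c * v).coeff g = c * v.coeff g := by
  rw [← Algebra.smul_def, MonoidAlgebra.coeff_smul]
  rfl

lemma single_eq_algebraMap_mul (g : G) (c : F) :
    MonoidAlgebra.single g c = algebraMap F (MonoidAlgebra F G) c * MonoidAlgebra.single g 1 := by
  show MonoidAlgebra.single g c = MonoidAlgebra.single (1 : G) c * MonoidAlgebra.single g 1
  rw [MonoidAlgebra.single_mul_single, _root_.one_mul, _root_.mul_one]

end Alg

section Aug

variable {F : Type u} [Field F] {M : Type} [AddCommGroup M]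

/-- the augmentation of the group algebra. -/
noncomputable def aug : MonoidAlgebra F (Multiplicative M) →ₐ[F] F :=
  MonoidAlgebra.lift F F (Multiplicative M) (1 : Multiplicative M →* F)

lemma aug_single (g : Multiplicative M) (c : F) :
    aug (F := F) (M := M) (MonoidAlgebra.single g c) = c := by
  unfold aug
  rw [MonoidAlgebra.lift_single]
  simp

lemma aug_eq_sum [Fintype M] [DecidableEq M] (u : MonoidAlgebra F (Multiplicative M)) :
    aug u = ∑ a : M, u.coeff (Multiplicative.ofAdd a) := by
  classical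
  induction u using MonoidAlgebra.induction_linear with
  | zero => simp
  | add x y hx hy =>
    rw [map_add, hx, hy, ← Finset.sum_add_distrib]
    refine Finset.sum_congr rfl (fun a _ => ?_)
    rw [MonoidAlgebra.coeff_add, Finsupp.add_apply]
  | single g c =>
    rw [aug_single, Finset.sum_eq_single (Multiplicative.toAdd g)]
    · rw [MonoidAlgebra.coeff_single_apply,
        if_pos (show g = Multiplicative.ofAdd (Multiplicative.toAdd g) from rfl)]
    · intro a _ ha
      rw [MonoidAlgebra.coeff_single_apply, if_neg]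
      intro h
      exact ha (by rw [h]; rfl)
    · intro h
      exact absurd (Finset.mem_univ _) h

theorem P_aug : P (aug (F := F) (M := M)) = 1 := by
  apply chr_injective
  intro n
  rw [chr_P, chr_one, aug_single, map_one]

end Aug

/-! ### the classification -/

section Classify

variable {F : Type u} [Field F] {GG : Over (Sk F)} [GrpObj GG] {m : ℕ} (MD : MatDict GG m)
  {M : Type} [AddCommGroup M]
  (ν : ∀ T : Over (Sk F), (T ⟶ Red.DS (Sk F) M) → (T ⟶ GG))
  (hnat : ∀ (T' T : Over (Sk F)) (c : T' ⟶ T) (d : T ⟶ Red.DS (Sk F) M),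
    c ≫ ν T d = ν T' (c ≫ d))
  (hmul : ∀ (T : Over (Sk F)) (d d' : T ⟶ Red.DS (Sk F) M), ν T (d * d') = ν T d * ν T d')

/-- the universal matrix, with entries in `F[M]`. -/
noncomputable def univMat (i j : Fin m) : MonoidAlgebra F (Multiplicative M) :=
  (Scheme.ΓSpecIso (CommRingCat.of (MonoidAlgebra F (Multiplicative M)))).hom
    (MD.mat (ν (TB F (MonoidAlgebra F (Multiplicative M))) (x0 F M)) i j)

theorem mat_univ (i j : Fin m) :
    MD.mat (ν (TB F (MonoidAlgebra F (Multiplicative M))) (x0 F M)) i j =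
      (Scheme.ΓSpecIso (CommRingCat.of (MonoidAlgebra F (Multiplicative M)))).inv
        (univMat MD ν i j) :=
  (Iso.hom_inv_id_apply _ _).symm

include hnat in
theorem mat_nu_P {B : Type u} [CommRing B] [Algebra F B]
    (θ : MonoidAlgebra F (Multiplicative M) →ₐ[F] B) (i j : Fin m) :
    MD.mat (ν (TB F B) (P θ)) i j =
      (Scheme.ΓSpecIso (CommRingCat.of B)).inv (θ (univMat MD ν i j)) := by
  have h1 : ν (TB F B) (P θ) = specOver θ ≫ ν _ (x0 F M) :=
    (hnat _ _ (specOver θ) (x0 F M)).symm
  rw [h1, MD.mat_nat, mat_univ]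
  exact appTop_specMap_inv (CommRingCat.ofHom θ.toRingHom) _

include hnat hmul in
theorem univMat_grouplike (i j : Fin m) :
    thD (univMat MD ν i j) = ∑ l, th1 (univMat MD ν i l) * th2 (univMat MD ν l j) := by
  have hP : P (thD (k := F) (G := Multiplicative M)) =
      P (th1 (k := F) (G := Multiplicative M)) * P (th2 (k := F) (G := Multiplicative M)) :=
    P_mul _ _ _ (fun n => thD_single _)
  have h1 : MD.mat (ν _ (P (thD (k := F) (G := Multiplicative M)))) i j =
      (MD.mat (ν _ (P (th1 (k := F) (G := Multiplicative M)))) *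
        MD.mat (ν _ (P (th2 (k := F) (G := Multiplicative M))))) i j := by
    rw [hP, hmul, MD.mat_mul]
  rw [Matrix.mul_apply, mat_nu_P MD ν hnat] at h1
  have h2 : ∀ l, MD.mat (ν _ (P (th1 (k := F) (G := Multiplicative M)))) i l *
      MD.mat (ν _ (P (th2 (k := F) (G := Multiplicative M)))) l j =
      (Scheme.ΓSpecIso _).inv (th1 (univMat MD ν i l) * th2 (univMat MD ν l j)) := by
    intro l
    rw [mat_nu_P MD ν hnat, mat_nu_P MD ν hnat, map_mul]
  rw [Finset.sum_congr rfl (fun l _ => h2 l), ← map_sum] at h1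
  have h3 := congrArg (Scheme.ΓSpecIso _).hom h1
  rwa [Iso.inv_hom_id_apply, Iso.inv_hom_id_apply] at h3

include hmul in
theorem nu_one (T : Over (Sk F)) : ν T 1 = 1 := by
  have h := hmul T 1 1
  rw [_root_.mul_one] at h
  simpa using h.symm

/-- the idempotents of the family. -/
noncomputable def Pc (a : M) : Matrix (Fin m) (Fin m) F :=
  fun i j => (univMat MD ν i j).coeff (Multiplicative.ofAdd a)

include hnat hmul in
theorem Pc_mul [DecidableEq M] (a b : M) :
    Pc MD ν a * Pc MD ν b = if a = b then Pc MD ν a else 0 := by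
  classical
  ext i j
  have h1 := congrArg
    (fun x : MonoidAlgebra (MonoidAlgebra F (Multiplicative M)) (Multiplicative M) =>
      (x.coeff (Multiplicative.ofAdd a)).coeff (Multiplicative.ofAdd b))
    (univMat_grouplike MD ν hnat hmul i j)
  simp only [coeff_thD, MonoidAlgebra.coeff_sum, Finsupp.finset_sum_apply, coeff_th1_mul_th2',
    coeff_algebraMap_mul, MonoidAlgebra.coeff_single_apply] at h1
  rw [Matrix.mul_apply]
  show ∑ l, (univMat MD ν i l).coeff (Multiplicative.ofAdd a) *
    (univMat MD ν l j).coeff (Multiplicative.ofAdd b) = _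
  rw [← h1]
  by_cases hab : a = b
  · subst hab
    rw [if_pos rfl, if_pos rfl]
    rfl
  · rw [if_neg hab, if_neg (fun h => hab (Multiplicative.ofAdd.injective h))]
    rfl

include hnat hmul in
theorem Pc_sum [Fintype M] [DecidableEq M] : ∑ a, Pc MD ν a = 1 := by
  ext i j
  have h1 := mat_nu_P MD ν hnat (aug (F := F) (M := M)) i j
  rw [P_aug, nu_one ν hmul, MD.mat_one] at h1
  have h2 := congrArg (Scheme.ΓSpecIso _).hom h1
  rw [Iso.inv_hom_id_apply] at h2
  rw [Matrix.sum_apply]
  show ∑ a, (univMat MD ν i j).coeff (Multiplicative.ofAdd a) = _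
  rw [← aug_eq_sum, ← h2, Matrix.one_apply, Matrix.one_apply]
  split_ifs
  · rw [map_one]
  · rw [map_zero]

include hnat in
theorem mat_nu [Fintype M] [DecidableEq M] (T : Over (Sk F)) (d : T ⟶ Red.DS (Sk F) M) :
    MD.mat (ν T d) = ∑ a, chr d a • (Pc MD ν a).map (rho T) := by
  classical
  haveI := isIso_x0 (k := F) (N := M)
  ext i j
  rw [Matrix.sum_apply]
  simp only [Matrix.smul_apply, Matrix.map_apply, smul_eq_mul]
  obtain ⟨h, hd⟩ : ∃ h : T ⟶ TB F (MonoidAlgebra F (Multiplicative M)), h ≫ x0 F M = d :=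
    ⟨d ≫ inv (x0 F M), by rw [Category.assoc, IsIso.inv_hom_id, Category.comp_id]⟩
  have h1 : ν T d = h ≫ ν _ (x0 F M) := by rw [hnat, hd]
  rw [h1, MD.mat_nat, mat_univ]
  have key : ∀ u : MonoidAlgebra F (Multiplicative M),
      h.left.appTop ((Scheme.ΓSpecIso (CommRingCat.of (MonoidAlgebra F (Multiplicative M)))).inv u)
        = ∑ a, chr d a * rho T (u.coeff (Multiplicative.ofAdd a)) := by
    intro u
    induction u using MonoidAlgebra.induction_linear with
    | zero => simp
    | add x y hx hy =>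
      rw [map_add, map_add, hx, hy, ← Finset.sum_add_distrib]
      refine Finset.sum_congr rfl (fun a _ => ?_)
      rw [MonoidAlgebra.coeff_add, Finsupp.add_apply, map_add, mul_add]
    | single g c =>
      rw [single_eq_algebraMap_mul, map_mul, map_mul, ← rho_TB, rho_comp]
      have e2 : h.left.appTop ((Scheme.ΓSpecIso
          (CommRingCat.of (MonoidAlgebra F (Multiplicative M)))).inv (MonoidAlgebra.single g 1)) =
          chr d (Multiplicative.toAdd g) := by
        have e3 := chr_x0 (k := F) (N := M) (Multiplicative.toAdd g)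
        have e4 := chr_comp h (x0 F M) (Multiplicative.toAdd g)
        rw [hd, e3] at e4
        exact e4.symm
      rw [e2, Finset.sum_eq_single (Multiplicative.toAdd g)]
      · rw [coeff_algebraMap_mul, MonoidAlgebra.coeff_single_apply,
          if_pos (show g = Multiplicative.ofAdd (Multiplicative.toAdd g) from rfl), _root_.mul_one,
          mul_comm]
      · intro a _ ha
        rw [coeff_algebraMap_mul, MonoidAlgebra.coeff_single_apply, if_neg, mul_zero, map_zero,
          mul_zero]
        intro hh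
        exact ha (by rw [hh]; rfl)
      · intro hh
        exact absurd (Finset.mem_univ _) hh
  exact key _

/-- the constant matrix of a rational point. -/
noncomputable def cmat (y : 𝟙_ (Over (Sk F)) ⟶ GG) : Matrix (Fin m) (Fin m) F :=
  fun i j => (Scheme.ΓSpecIso (CommRingCat.of F)).hom (MD.mat y i j)

theorem mat_toUnit (y : 𝟙_ (Over (Sk F)) ⟶ GG) (T : Over (Sk F)) :
    MD.mat (toUnit T ≫ y) = (cmat MD y).map (rho T) := by
  ext i j
  rw [MD.mat_nat, Matrix.map_apply]
  show (toUnit T).left.appTop (MD.mat y i j) =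
    T.hom.appTop ((Scheme.ΓSpecIso (CommRingCat.of F)).inv
      ((Scheme.ΓSpecIso (CommRingCat.of F)).hom (MD.mat y i j)))
  rw [Iso.hom_inv_id_apply]
  rfl

theorem cmat_mul (y y' : 𝟙_ (Over (Sk F)) ⟶ GG) :
    cmat MD (y * y') = cmat MD y * cmat MD y' := by
  ext i j
  show (Scheme.ΓSpecIso (CommRingCat.of F)).hom (MD.mat (y * y') i j) = _
  rw [MD.mat_mul, Matrix.mul_apply, Matrix.mul_apply, map_sum]
  refine Finset.sum_congr rfl (fun l _ => ?_)
  rw [map_mul]
  rfl

theorem cmat_one : cmat MD (1 : 𝟙_ (Over (Sk F)) ⟶ GG) = 1 := by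
  ext i j
  show (Scheme.ΓSpecIso (CommRingCat.of F)).hom (MD.mat (1 : 𝟙_ (Over (Sk F)) ⟶ GG) i j) = _
  rw [MD.mat_one, Matrix.one_apply, Matrix.one_apply]
  split_ifs
  · rw [map_one]
  · rw [map_zero]

theorem cmat_inj (y y' : 𝟙_ (Over (Sk F)) ⟶ GG) (h : cmat MD y = cmat MD y') : y = y' := by
  apply MD.mat_inj
  ext i j
  have h1 : (Scheme.ΓSpecIso (CommRingCat.of F)).hom (MD.mat y i j) =
      (Scheme.ΓSpecIso (CommRingCat.of F)).hom (MD.mat y' i j) := congrFun (congrFun h i) j
  have h2 := congrArg (Scheme.ΓSpecIso (CommRingCat.of F)).inv h1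
  rwa [Iso.hom_inv_id_apply, Iso.hom_inv_id_apply] at h2

include hnat in
theorem mat_conj [Fintype M] [DecidableEq M] (T : Over (Sk F)) (d : T ⟶ Red.DS (Sk F) M)
    (g g' : 𝟙_ (Over (Sk F)) ⟶ GG) :
    MD.mat ((toUnit T ≫ g) * ν T d * (toUnit T ≫ g')) =
      ∑ a, chr d a • ((cmat MD g * Pc MD ν a * cmat MD g').map (rho T)) := by
  rw [MD.mat_mul, MD.mat_mul, mat_toUnit, mat_toUnit, mat_nu MD ν hnat, Matrix.mul_sum,
    Matrix.sum_mul]
  refine Finset.sum_congr rfl (fun a _ => ?_)
  rw [Matrix.mul_smul, Matrix.smul_mul, Matrix.map_mul, Matrix.map_mul]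

end Classify

/-! ### rational points of `GL_m` with a given matrix -/

theorem exists_cpt {k : Type u} [Field k] {m : ℕ} (w w' : Matrix (Fin m) (Fin m) k)
    (h : w * w' = 1) : ∃ g : 𝟙_ (Over (Sk k)) ⟶ Gk k m, cmat (mdGk k m) g = w := by
  have hA : w.map (rho (𝟙_ (Over (Sk k)))) * w'.map (rho (𝟙_ (Over (Sk k)))) = 1 := by
    rw [← Matrix.map_mul, h, Matrix.map_one _ (map_zero _) (map_one _)]
  obtain ⟨g, hg⟩ := exists_mat (T := 𝟙_ (Over (Sk k))) _ _ hA
  refine ⟨g, ?_⟩
  ext i j
  show (Scheme.ΓSpecIso (CommRingCat.of k)).hom (GLDictH4.mat g i j) = w i j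
  rw [hg, Matrix.map_apply]
  show (Scheme.ΓSpecIso (CommRingCat.of k)).hom
    ((𝟙 (Sk k) : Sk k ⟶ Sk k).appTop ((Scheme.ΓSpecIso (CommRingCat.of k)).inv (w i j))) = w i j
  simp

end Groth.Agent.Lib.IdemClassH4
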