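import Mathlib

/-!
# Complete families of orthogonal idempotent matrices over a field (helper4)

A complete family of orthogonal idempotent `m × m` matrices indexed by a finite type is conjugate
to a family of standard diagonal idempotents; two such families which become conjugate (up to a
reindexing) over a field extension are already conjugate.
APPEND-ONLY once landed.
-/

set_option autoImplicit false
set_option linter.unusedVariables false
set_option linter.unusedTactic false
set_option linter.unreachableTactic false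
set_option linter.unusedSectionVars false
set_option linter.style.haveILetI false
set_option linter.deprecated false
set_option linter.unusedSimpArgs false
set_option linter.style.longLine false
set_option maxHeartbeats 1600000

universe u v

namespace Groth.Agent.Lib.IdemDiagH4

open Matrix Module

variable {m : ℕ} {M : Type} [Fintype M] [DecidableEq M]

/-- the standard diagonal idempotent attached to a type function `t`. -/
def E (F : Type u) [Field F] (t : Fin m → M) (a : M) : Matrix (Fin m) (Fin m) F :=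
  Matrix.diagonal (fun l => if t l = a then 1 else 0)

theorem E_map {F : Type u} {K : Type v} [Field F] [Field K] (f : F →+* K) (t : Fin m → M) (a : M) :
    (E F t a).map f = E K t a := by
  unfold E
  rw [Matrix.diagonal_map (map_zero f)]
  congr 1
  funext l
  split_ifs
  · exact map_one f
  · exact map_zero f

theorem rank_E (F : Type u) [Field F] (t : Fin m → M) (a : M) :
    (E F t a).rank = Fintype.card {l // t l = a} := by
  classical
  unfold E
  rw [Matrix.rank_diagonal]
  apply Fintype.card_congr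
  refine Equiv.subtypeEquivRight (fun l => ?_)
  split_ifs with h
  · simp [h]
  · simp [h]

theorem rank_conj {F : Type u} [Field F] (g g' X : Matrix (Fin m) (Fin m) F) (h : g * g' = 1) :
    (g * X * g').rank = X.rank := by
  have hd : g.det * g'.det = 1 := by rw [← Matrix.det_mul, h, Matrix.det_one]
  have hg : IsUnit g.det := IsUnit.of_mul_eq_one _ hd
  have hg' : IsUnit g'.det := IsUnit.of_mul_eq_one _ (by rw [mul_comm]; exact hd)
  rw [Matrix.rank_mul_eq_left_of_isUnit_det g' (g * X) hg',
    Matrix.rank_mul_eq_right_of_isUnit_det g X hg]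

/-- simultaneous diagonalisation of a complete family of orthogonal idempotents. -/
theorem exists_diag {F : Type u} [Field F] (P : M → Matrix (Fin m) (Fin m) F)
    (hmul : ∀ a b, P a * P b = if a = b then P a else 0) (hsum : ∑ a, P a = 1) :
    ∃ (g g' : Matrix (Fin m) (Fin m) F) (t : Fin m → M), g * g' = 1 ∧ g' * g = 1 ∧
      ∀ a, g * P a * g' = E F t a := by
  classical
  let p : M → ((Fin m → F) →ₗ[F] (Fin m → F)) := fun a => Matrix.toLin' (P a)
  have hp_comp : ∀ a b v, p a (p b v) = if a = b then p a v else 0 := by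
    intro a b v
    show Matrix.toLin' (P a) (Matrix.toLin' (P b) v) = _
    rw [← LinearMap.comp_apply, ← Matrix.toLin'_mul, hmul]
    split_ifs with h
    · rfl
    · simp
  have hp_sum : ∀ v, ∑ a, p a v = v := by
    intro v
    have h1 : (∑ a, p a) v = v := by
      show (∑ a, Matrix.toLin' (P a)) v = v
      rw [← map_sum, hsum, Matrix.toLin'_one]
      rfl
    rwa [LinearMap.sum_apply] at h1
  let R : M → Submodule F (Fin m → F) := fun a => LinearMap.range (p a)
  let Φ₁ : (Fin m → F) →ₗ[F] (∀ a, R a) := LinearMap.pi (fun a => (p a).rangeRestrict)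
  let Φ₂ : (∀ a, R a) →ₗ[F] (Fin m → F) := ∑ a, (R a).subtype ∘ₗ LinearMap.proj a
  have hΦ₂ : ∀ w : (∀ a, R a), Φ₂ w = ∑ a, ((w a : R a) : Fin m → F) := by
    intro w
    show (∑ a, (R a).subtype ∘ₗ LinearMap.proj a) w = _
    rw [LinearMap.sum_apply]
    rfl
  have hΦ₁ : ∀ (v : Fin m → F) (a : M), ((Φ₁ v a : R a) : Fin m → F) = p a v := fun v a => rfl
  have h21 : Φ₂ ∘ₗ Φ₁ = LinearMap.id := by
    apply LinearMap.ext
    intro v
    show Φ₂ (Φ₁ v) = v
    rw [hΦ₂]
    simp only [hΦ₁]
    exact hp_sum v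
  have h12 : Φ₁ ∘ₗ Φ₂ = LinearMap.id := by
    apply LinearMap.ext
    intro w
    show Φ₁ (Φ₂ w) = w
    funext b
    apply Subtype.ext
    rw [hΦ₁, hΦ₂, map_sum]
    have h3 : ∀ a ∈ (Finset.univ : Finset M), p b ((w a : R a) : Fin m → F) =
        if b = a then ((w a : R a) : Fin m → F) else 0 := by
      intro a _
      obtain ⟨u, hu⟩ := (w a).property
      rw [← hu, hp_comp]
      split_ifs with h
      · subst h; rfl
      · rfl
    rw [Finset.sum_congr rfl h3, Finset.sum_ite_eq]
    simp
  let Φ : (Fin m → F) ≃ₗ[F] (∀ a, R a) := LinearEquiv.ofLinear Φ₁ Φ₂ h12 h21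
  let r : M → ℕ := fun a => Module.finrank F (R a)
  let bR : ∀ a, Basis (Fin (r a)) F (R a) := fun a => Module.finBasis F (R a)
  let bPi : Basis (Σ a, Fin (r a)) F (∀ a, R a) := Pi.basis bR
  let b : Basis (Σ a, Fin (r a)) F (Fin m → F) := bPi.map Φ.symm
  have hb : ∀ x : (Σ a, Fin (r a)), b x = ((bR x.1 x.2 : R x.1) : Fin m → F) := by
    intro x
    show Φ.symm (bPi x) = _
    show Φ₂ (Pi.basis bR x) = _
    rw [hΦ₂, Pi.basis_apply, Finset.sum_eq_single x.1]
    · rw [Pi.single_eq_same]
    · intro a _ ha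
      rw [Pi.single_eq_of_ne ha]
      rfl
    · intro h
      exact absurd (Finset.mem_univ _) h
  have hcard : Fintype.card (Σ a, Fin (r a)) = m :=
    (Module.finrank_eq_card_basis b).symm.trans (Module.finrank_fin_fun F)
  let e : Fin m ≃ (Σ a, Fin (r a)) := (Fintype.equivFinOfCardEq hcard).symm
  let b' : Basis (Fin m) F (Fin m → F) := b.reindex e.symm
  have hb' : ∀ l, b' l = b (e l) := by
    intro l
    show (b.reindex e.symm) l = b (e l)
    rw [Basis.reindex_apply]
    rfl
  let t : Fin m → M := fun l => (e l).1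
  have hpb : ∀ a l, p a (b' l) = if t l = a then b' l else 0 := by
    intro a l
    rw [hb', hb]
    obtain ⟨u, hu⟩ := (bR (e l).1 (e l).2).property
    rw [← hu, hp_comp]
    by_cases h : a = (e l).1
    · subst h
      rw [if_pos rfl]
    · rw [if_neg h]
      first
        | rw [if_neg (fun h' => h h'.symm)]
        | exact (if_neg (fun h' => h h'.symm)).symm
  let g' : Matrix (Fin m) (Fin m) F := (Pi.basisFun F (Fin m)).toMatrix b'
  let g : Matrix (Fin m) (Fin m) F := b'.toMatrix (Pi.basisFun F (Fin m))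
  have hg'apply : ∀ i l, g' i l = b' l i := by
    intro i l
    show (Pi.basisFun F (Fin m)).toMatrix b' i l = _
    rw [Basis.toMatrix_apply, Pi.basisFun_repr]
  have hgg' : g * g' = 1 := Basis.toMatrix_mul_toMatrix_flip b' (Pi.basisFun F (Fin m))
  have hg'g : g' * g = 1 := Basis.toMatrix_mul_toMatrix_flip (Pi.basisFun F (Fin m)) b'
  refine ⟨g, g', t, hgg', hg'g, fun a => ?_⟩
  have key : P a * g' = g' * E F t a := by
    ext i l
    have h1 : (P a * g') i l = (p a (b' l)) i := by
      show (P a * g') i l = (Matrix.toLin' (P a) (b' l)) i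
      rw [Matrix.toLin'_apply, Matrix.mul_apply]
      show _ = ∑ j, P a i j * b' l j
      exact Finset.sum_congr rfl (fun j _ => by rw [hg'apply])
    rw [h1, hpb]
    unfold E
    rw [Matrix.mul_diagonal, hg'apply]
    split_ifs with h
    · rw [mul_one]
    · rw [mul_zero]; rfl
  rw [Matrix.mul_assoc, key, ← Matrix.mul_assoc, hgg', Matrix.one_mul]

/-- two type functions with the same fibre cardinalities (up to `ψ`) differ by a permutation. -/
theorem exists_perm_conj (F : Type u) [Field F] (t₁ t₂ : Fin m → M) (ψ : M → M)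
    (hψ : Function.Injective ψ)
    (hc : ∀ a, Fintype.card {l // t₁ l = a} = Fintype.card {l // t₂ l = ψ a}) :
    ∃ (W W' : Matrix (Fin m) (Fin m) F), W * W' = 1 ∧ W' * W = 1 ∧
      ∀ a, W * E F t₁ a * W' = E F t₂ (ψ a) := by
  classical
  let e : ∀ a, {l // t₁ l = a} ≃ {l // t₂ l = ψ a} := fun a => Fintype.equivOfCardEq (hc a)
  let π : Fin m → Fin m := fun l => (e (t₁ l) ⟨l, rfl⟩ : Fin m)
  have hπt : ∀ l, t₂ (π l) = ψ (t₁ l) := fun l => (e (t₁ l) ⟨l, rfl⟩).2
  have key : ∀ a (x : {l // t₁ l = a}), π x.1 = (e a x : Fin m) := by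
    intro a x
    obtain ⟨l, hl⟩ := x
    subst hl
    rfl
  have hinj : Function.Injective π := by
    intro l l' h
    have h1 : ψ (t₁ l) = ψ (t₁ l') := by rw [← hπt, ← hπt, h]
    have h2 : t₁ l' = t₁ l := (hψ h1).symm
    have k1 := key (t₁ l) ⟨l, rfl⟩
    have k2 := key (t₁ l) ⟨l', h2⟩
    have h3 : e (t₁ l) ⟨l, rfl⟩ = e (t₁ l) ⟨l', h2⟩ := Subtype.ext (k1.symm.trans (h.trans k2))
    exact congrArg Subtype.val ((e (t₁ l)).injective h3)
  have hsurj : Function.Surjective π := (Finite.injective_iff_surjective).mp hinj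
  let W : Matrix (Fin m) (Fin m) F := fun i j => if i = π j then 1 else 0
  let W' : Matrix (Fin m) (Fin m) F := fun i j => if π i = j then 1 else 0
  have hWW' : W * W' = 1 := by
    ext i j
    rw [Matrix.mul_apply, Matrix.one_apply]
    obtain ⟨l₀, hl₀⟩ := hsurj i
    rw [Finset.sum_eq_single l₀]
    · show (if i = π l₀ then (1 : F) else 0) * (if π l₀ = j then 1 else 0) = _
      rw [if_pos hl₀.symm, one_mul, hl₀]
    · intro l _ hne
      show (if i = π l then (1 : F) else 0) * _ = 0
      rw [if_neg, zero_mul]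
      intro h
      exact hne (hinj (h.symm.trans hl₀.symm))
    · intro h
      exact absurd (Finset.mem_univ _) h
  have hW'W : W' * W = 1 := _root_.mul_eq_one_comm.mp hWW'
  refine ⟨W, W', hWW', hW'W, fun a => ?_⟩
  have key2 : W * E F t₁ a = E F t₂ (ψ a) * W := by
    ext i j
    unfold E
    rw [Matrix.mul_diagonal, Matrix.diagonal_mul]
    show (if i = π j then (1 : F) else 0) * _ = _ * (if i = π j then (1 : F) else 0)
    by_cases h : i = π j
    · subst h
      rw [if_pos rfl, one_mul, mul_one, hπt]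
      by_cases h' : t₁ j = a
      · rw [if_pos h', if_pos (congrArg ψ h')]
      · rw [if_neg h', if_neg (fun h'' => h' (hψ h''))]
    · rw [if_neg h, zero_mul, mul_zero]
  rw [key2, Matrix.mul_assoc, hWW', Matrix.mul_one]

/-- descent of conjugacy of complete families of orthogonal idempotents along a field extension. -/
theorem conj_descent {k : Type u} {K : Type v} [Field k] [Field K] (f : k →+* K)
    (P Q : M → Matrix (Fin m) (Fin m) k)
    (hPmul : ∀ a b, P a * P b = if a = b then P a else 0) (hPsum : ∑ a, P a = 1)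
    (hQmul : ∀ a b, Q a * Q b = if a = b then Q a else 0) (hQsum : ∑ a, Q a = 1)
    (ψ : M → M) (hψ : Function.Injective ψ) (g₀ g₀' : Matrix (Fin m) (Fin m) K)
    (h1 : g₀ * g₀' = 1)
    (hconj : ∀ a, g₀ * (P a).map f * g₀' = (Q (ψ a)).map f) :
    ∃ (w w' : Matrix (Fin m) (Fin m) k), w * w' = 1 ∧ w' * w = 1 ∧
      ∀ a, w * P a * w' = Q (ψ a) := by
  obtain ⟨gP, gP', tP, hP1, hP2, hP3⟩ := exists_diag P hPmul hPsum
  obtain ⟨gQ, gQ', tQ, hQ1, hQ2, hQ3⟩ := exists_diag Q hQmul hQsum
  have hc : ∀ a, Fintype.card {l // tP l = a} = Fintype.card {l // tQ l = ψ a} := by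
    intro a
    rw [← rank_E K tP a, ← rank_E K tQ (ψ a), ← E_map f tP a, ← E_map f tQ (ψ a), ← hP3 a,
      ← hQ3 (ψ a), Matrix.map_mul, Matrix.map_mul, Matrix.map_mul, Matrix.map_mul]
    have e1 : gP.map f * gP'.map f = 1 := by rw [← Matrix.map_mul, hP1, Matrix.map_one _ (map_zero f) (map_one f)]
    have e2 : gQ.map f * gQ'.map f = 1 := by rw [← Matrix.map_mul, hQ1, Matrix.map_one _ (map_zero f) (map_one f)]
    rw [rank_conj _ _ _ e1, rank_conj _ _ _ e2, ← hconj a, rank_conj _ _ _ h1]
  obtain ⟨W, W', hW1, hW2, hW3⟩ := exists_perm_conj k tP tQ ψ hψ hc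
  have hQ4 : ∀ b, Q b = gQ' * E k tQ b * gQ := by
    intro b
    rw [← hQ3 b]
    calc Q b = (gQ' * gQ) * Q b * (gQ' * gQ) := by rw [hQ2, Matrix.one_mul, Matrix.mul_one]
      _ = gQ' * (gQ * Q b * gQ') * gQ := by simp only [Matrix.mul_assoc]
  refine ⟨gQ' * W * gP, gP' * W' * gQ, ?_, ?_, fun a => ?_⟩
  · calc gQ' * W * gP * (gP' * W' * gQ) = gQ' * (W * (gP * gP') * W') * gQ := by
          simp only [Matrix.mul_assoc]
      _ = 1 := by rw [hP1, Matrix.mul_one, hW1, Matrix.mul_one, hQ2]
  · calc gP' * W' * gQ * (gQ' * W * gP) = gP' * (W' * (gQ * gQ') * W) * gP := by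
          simp only [Matrix.mul_assoc]
      _ = 1 := by rw [hQ1, Matrix.mul_one, hW2, Matrix.mul_one, hP2]
  · calc gQ' * W * gP * P a * (gP' * W' * gQ) = gQ' * (W * (gP * P a * gP') * W') * gQ := by
          simp only [Matrix.mul_assoc]
      _ = Q (ψ a) := by rw [hP3 a, hW3 a, ← hQ4]

end Groth.Agent.Lib.IdemDiagH4
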