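import Mathlib

/-!
# Liftable sections on a fibre (helper4)
APPEND-ONLY once landed.

`liftable f s` : the subring of `Γ(X_s, ⊤)` of sections that are restrictions of sections of `𝒪_X`
over `f⁻¹ V` for some open neighbourhood `V` of `s`.

`liftable_of_flat`: flat base change `h : Spec B ⟶ S` with a factorisation of
`Spec κ(s) ⟶ S` through `Spec B` such that residues lift: every global section of `X ×_S Spec B`
restricts to a liftable section on the fibre `X_s`.
-/

set_option autoImplicit false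
set_option linter.unusedVariables false
set_option linter.unusedSectionVars false
set_option linter.style.longLine false
set_option linter.style.haveILetI false
set_option maxHeartbeats 1600000

universe u

open AlgebraicGeometry CategoryTheory CategoryTheory.Limits TopologicalSpace Opposite

namespace Groth.Agent.Lib.IdemLiftH4

variable {X S : Scheme.{u}} (f : X ⟶ S) (s : S)

theorem fib_le {V : S.Opens} (hV : s ∈ V) : (⊤ : (f.fiber s).Opens) ≤ (f.fiberι s) ⁻¹ᵁ (f ⁻¹ᵁ V) := by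
  intro x _
  have hx : (f.fiberι s) x ∈ Set.range (f.fiberι s) := ⟨x, rfl⟩
  rw [Scheme.Hom.range_fiberι] at hx
  show f ((f.fiberι s) x) ∈ V
  rw [hx]
  exact hV

theorem res_le {V : S.Opens} (hV : s ∈ V) :
    (⊤ : (Spec (S.residueField s)).Opens) ≤ (S.fromSpecResidueField s) ⁻¹ᵁ V := by
  intro x _
  show (S.fromSpecResidueField s) x ∈ V
  rw [Scheme.fromSpecResidueField_apply]
  exact hV

/-- restriction of a section over `f⁻¹ V` to the fibre -/
noncomputable def resFib {V : S.Opens} (hV : s ∈ V) : Γ(X, f ⁻¹ᵁ V) →+* Γ(f.fiber s, ⊤) :=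
  ((f.fiberι s).appLE (f ⁻¹ᵁ V) ⊤ (fib_le f s hV)).hom

theorem resFib_res {V V' : S.Opens} (hV : s ∈ V) (hV' : s ∈ V') (hle : V' ≤ V)
    (t : Γ(X, f ⁻¹ᵁ V)) :
    resFib f s hV' ((X.presheaf.map (homOfLE (f.preimage_mono hle)).op).hom t) = resFib f s hV t := by
  unfold resFib
  rw [← CommRingCat.comp_apply, Scheme.Hom.map_appLE]

/-- sections on the fibre which are restrictions of sections over a neighbourhood of `s` -/
noncomputable def liftable : Subring Γ(f.fiber s, ⊤) where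
  carrier := {x | ∃ (V : S.Opens) (hV : s ∈ V) (t : Γ(X, f ⁻¹ᵁ V)), resFib f s hV t = x}
  mul_mem' := by
    rintro a b ⟨V₁, h₁, t₁, rfl⟩ ⟨V₂, h₂, t₂, rfl⟩
    refine ⟨V₁ ⊓ V₂, ⟨h₁, h₂⟩,
      (X.presheaf.map (homOfLE (f.preimage_mono (inf_le_left : V₁ ⊓ V₂ ≤ V₁))).op).hom t₁ *
      (X.presheaf.map (homOfLE (f.preimage_mono (inf_le_right : V₁ ⊓ V₂ ≤ V₂))).op).hom t₂, ?_⟩
    have h12 : s ∈ V₁ ⊓ V₂ := ⟨h₁, h₂⟩
    rw [map_mul, resFib_res f s h₁ h12 inf_le_left, resFib_res f s h₂ h12 inf_le_right]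
  one_mem' := ⟨⊤, trivial, 1, map_one _⟩
  add_mem' := by
    rintro a b ⟨V₁, h₁, t₁, rfl⟩ ⟨V₂, h₂, t₂, rfl⟩
    refine ⟨V₁ ⊓ V₂, ⟨h₁, h₂⟩,
      (X.presheaf.map (homOfLE (f.preimage_mono (inf_le_left : V₁ ⊓ V₂ ≤ V₁))).op).hom t₁ +
      (X.presheaf.map (homOfLE (f.preimage_mono (inf_le_right : V₁ ⊓ V₂ ≤ V₂))).op).hom t₂, ?_⟩
    have h12 : s ∈ V₁ ⊓ V₂ := ⟨h₁, h₂⟩
    rw [map_add, resFib_res f s h₁ h12 inf_le_left, resFib_res f s h₂ h12 inf_le_right]
  zero_mem' := ⟨⊤, trivial, 0, map_zero _⟩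
  neg_mem' := by
    rintro a ⟨V, hV, t, rfl⟩
    exact ⟨V, hV, -t, map_neg _ _⟩

theorem mem_liftable_iff (x : Γ(f.fiber s, ⊤)) :
    x ∈ liftable f s ↔ ∃ (V : S.Opens) (hV : s ∈ V) (t : Γ(X, f ⁻¹ᵁ V)), resFib f s hV t = x :=
  Iff.rfl

/-- conversion to the form of the statement -/
theorem exists_of_mem_liftable {e : Γ(f.fiber s, ⊤)} (he : e ∈ liftable f s) :
    ∃ (V : S.Opens) (_ : s ∈ V) (t : X.presheaf.obj (op (f ⁻¹ᵁ V))),
      ((f.fiberι s).app (f ⁻¹ᵁ V)).hom t =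
        ((f.fiber s).presheaf.map (homOfLE (le_top : (f.fiberι s) ⁻¹ᵁ (f ⁻¹ᵁ V) ≤ ⊤)).op).hom e := by
  obtain ⟨V, hV, t, rfl⟩ := he
  refine ⟨V, hV, t, ?_⟩
  unfold resFib
  rw [Scheme.Hom.appLE, CommRingCat.hom_comp, RingHom.comp_apply, ← RingHom.comp_apply,
    ← CommRingCat.hom_comp, ← Functor.map_comp]
  have : ((homOfLE (fib_le f s hV)).op ≫ (homOfLE (le_top : (f.fiberι s) ⁻¹ᵁ (f ⁻¹ᵁ V) ≤ ⊤)).op) =
      𝟙 _ := Subsingleton.elim _ _
  rw [this, CategoryTheory.Functor.map_id]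
  rfl

section PartA

variable {B : CommRingCat.{u}} (h : Spec B ⟶ S)
  (k : Spec (S.residueField s) ⟶ Spec B) (hk : k ≫ h = S.fromSpecResidueField s)

/-- the comparison map from the fibre to the base change -/
noncomputable def toBC : f.fiber s ⟶ pullback f h :=
  pullback.lift (f.fiberι s) (f.fiberToSpecResidueField s ≫ k)
    (by rw [Category.assoc, hk, Scheme.Hom.fiber_fac])

theorem toBC_fst : toBC f s h k hk ≫ pullback.fst f h = f.fiberι s :=
  pullback.lift_fst _ _ _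

theorem toBC_snd : toBC f s h k hk ≫ pullback.snd f h = f.fiberToSpecResidueField s ≫ k :=
  pullback.lift_snd _ _ _

theorem liftable_of_flat [QuasiCompact f] [QuasiSeparated f] [Flat h]
    (hT : ∀ V : S.Opens, s ∈ V → h ⁻¹ᵁ V = ⊤)
    (hres : ∀ z : Γ(Spec B, ⊤), ∃ (V : S.Opens) (hV : s ∈ V) (c : Γ(S, V)),
       k.appTop.hom z = ((S.fromSpecResidueField s).appLE V ⊤ (res_le s hV)).hom c)
    (y : Γ(pullback f h, ⊤)) :
    (toBC f s h k hk).appTop.hom y ∈ liftable f s := by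
  obtain ⟨_, ⟨US, hUS, rfl⟩, hsUS, -⟩ := S.isBasis_affineOpens.exists_subset_of_mem_open
    (Set.mem_univ s) isOpen_univ
  have hsUS' : s ∈ US := hsUS
  have H : IsPullback (pullback.fst f h) (pullback.snd f h) f h := IsPullback.of_hasPullback f h
  have hUST : (⊤ : (Spec B).Opens) ≤ h ⁻¹ᵁ US := (hT US hsUS').ge
  have hUSX : f ⁻¹ᵁ US ≤ f ⁻¹ᵁ US := le_rfl
  obtain ⟨UY, hUY⟩ : ∃ UY : (pullback f h).Opens,
      UY = (pullback.fst f h) ⁻¹ᵁ (f ⁻¹ᵁ US) ⊓ (pullback.snd f h) ⁻¹ᵁ ⊤ := ⟨_, rfl⟩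
  have hUYtop : UY = ⊤ := by
    rw [hUY, ← Scheme.Hom.comp_preimage, pullback.condition, Scheme.Hom.comp_preimage,
      hT US hsUS', Scheme.Hom.preimage_top, inf_idem]
  have hcpt : IsCompact ((f ⁻¹ᵁ US : X.Opens) : Set X) := f.isCompact_preimage hUS.isCompact
  have hqs : IsQuasiSeparated ((f ⁻¹ᵁ US : X.Opens) : Set X) :=
    f.isQuasiSeparated_preimage hUS.isQuasiSeparated
  have hiso := isIso_pushoutSection_of_isQuasiSeparated_of_flat_right H hUST hUSX hUY hUS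
    (isAffineOpen_top _) hcpt hqs
  have hpo := (isIso_pushoutSection_iff H hUST hUSX hUY).mp hiso
  have hcl := CommRingCat.closure_range_union_range_eq_top_of_isPushout hpo
  -- the restriction map to the fibre
  have hjle : (⊤ : (f.fiber s).Opens) ≤ (toBC f s h k hk) ⁻¹ᵁ UY := by
    rw [hUYtop]; exact le_rfl
  have hsub : Subring.closure
      (Set.range ((pullback.fst f h).appLE (f ⁻¹ᵁ US) UY (by rw [hUY]; exact inf_le_left)) ∪
        Set.range ((pullback.snd f h).appLE ⊤ UY (by rw [hUY]; exact inf_le_right))) ≤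
      (liftable f s).comap ((toBC f s h k hk).appLE UY ⊤ hjle).hom := by
    rw [Subring.closure_le]
    rintro _ (⟨x, rfl⟩ | ⟨z, rfl⟩)
    · rw [SetLike.mem_coe, Subring.mem_comap]
      refine ⟨US, hsUS', x, ?_⟩
      unfold resFib
      rw [← CommRingCat.comp_apply, Scheme.Hom.appLE_comp_appLE]
      simp only [toBC_fst]
    · rw [SetLike.mem_coe, Subring.mem_comap]
      obtain ⟨V, hV, c, hc⟩ := hres z
      refine ⟨V, hV, (f.app V).hom c, ?_⟩
      unfold resFib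
      rw [← CommRingCat.comp_apply, ← CommRingCat.comp_apply, Scheme.Hom.appLE_comp_appLE,
        ← Scheme.Hom.comp_appLE]
      simp only [toBC_snd, Scheme.Hom.fiber_fac]
      have e1 : (f.fiberToSpecResidueField s ≫ S.fromSpecResidueField s).appLE V ⊤
          (by rw [← Scheme.Hom.fiber_fac]; exact fib_le f s hV) =
          (S.fromSpecResidueField s).appLE V ⊤ (res_le s hV) ≫
            (f.fiberToSpecResidueField s).appLE ⊤ ⊤ le_top :=
        (Scheme.Hom.appLE_comp_appLE _ _ _ _ _ _ _).symm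
      have e2 : (f.fiberToSpecResidueField s ≫ k).appLE ⊤ ⊤ le_top =
          k.appLE ⊤ ⊤ le_top ≫ (f.fiberToSpecResidueField s).appLE ⊤ ⊤ le_top :=
        (Scheme.Hom.appLE_comp_appLE _ _ _ _ _ _ _).symm
      have e3 : k.appLE ⊤ ⊤ le_top = k.appTop := Scheme.Hom.appLE_eq_app k
      rw [e1, e2, e3, CommRingCat.comp_apply, CommRingCat.comp_apply]
      exact congrArg _ hc.symm
  have hy : (((pullback f h).presheaf.map (homOfLE (le_top : UY ≤ ⊤)).op).hom y) ∈
      Subring.closure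
      (Set.range ((pullback.fst f h).appLE (f ⁻¹ᵁ US) UY (by rw [hUY]; exact inf_le_left)) ∪
        Set.range ((pullback.snd f h).appLE ⊤ UY (by rw [hUY]; exact inf_le_right))) := by
    rw [hcl]; trivial
  have h3 := hsub hy
  rw [Subring.mem_comap, ← CommRingCat.comp_apply, Scheme.Hom.map_appLE] at h3
  rw [Scheme.Hom.appTop, Scheme.Hom.app_eq_appLE]
  exact h3

end PartA

end Groth.Agent.Lib.IdemLiftH4
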