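import Mathlib
import Groth.Agent.Lib.IdemLift1_helper4
import Groth.Agent.Lib.HensConn3_helper4
import Groth.Agent.Lib.Henselization12_helper3
import Groth.Agent.Lib.Henselization6_helper3
import Groth.Agent.Lib.SchemeIdem_helper3

/-!
# Idempotents on a fibre of a proper morphism lift to a neighbourhood (helper4)
APPEND-ONLY once landed.

`main0979`: `f : X ⟶ S` proper, `e` idempotent on the fibre `X_s`: `e ∈ liftable f s`.
Route: henselization `B` of `𝒪_{S,s}`; closed decompositions of the closed fibre of
`X ×_S Spec B` lift (`relLifts_of_isProper`), flat base change of global sections.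
-/

set_option autoImplicit false
set_option linter.unusedVariables false
set_option linter.unusedSectionVars false
set_option linter.style.longLine false
set_option linter.style.haveILetI false
set_option maxHeartbeats 1600000

universe u

open AlgebraicGeometry CategoryTheory CategoryTheory.Limits TopologicalSpace Opposite IsLocalRing Topology
open Groth.Agent.Lib.HenselizationH3 Groth.Agent.Lib.HensConnH4

namespace Groth.Agent.Lib.IdemLiftH4

section Setup

variable (S : Scheme.{u}) (s : S)

theorem flat_fromSpecStalk : Flat (S.fromSpecStalk s) := by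
  obtain ⟨_, ⟨U, hU, rfl⟩, hxU, -⟩ := S.isBasis_affineOpens.exists_subset_of_mem_open
    (Set.mem_univ s) isOpen_univ
  rw [← IsAffineOpen.fromSpecStalk_eq_fromSpecStalk hU hxU, IsAffineOpen.fromSpecStalk]
  haveI : Flat (Spec.map (S.presheaf.germ U s hxU)) := by
    rw [Flat.SpecMap_iff]
    letI := TopCat.Presheaf.algebra_section_stalk S.presheaf (⟨s, hxU⟩ : U)
    haveI := hU.isLocalization_stalk ⟨s, hxU⟩
    have hfl : Module.Flat Γ(S, U) (S.presheaf.stalk s) :=
      IsLocalization.flat _ (hU.primeIdealOf ⟨s, hxU⟩).asIdeal.primeCompl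
    exact RingHom.flat_algebraMap_iff.mpr hfl
  infer_instance

/-- the henselization of the local ring at `s` -/
noncomputable abbrev BB : CommRingCat.{u} := CommRingCat.of (Hens (S.presheaf.stalk s))

noncomputable def phi : S.presheaf.stalk s ⟶ BB S s :=
  CommRingCat.ofHom (algebraMap (S.presheaf.stalk s) (Hens (S.presheaf.stalk s)))

noncomputable def rho : BB S s ⟶ S.residueField s :=
  CommRingCat.ofHom ((resEquiv (R := S.presheaf.stalk s)).symm.toRingHom.comp
    (residue (Hens (S.presheaf.stalk s))))

theorem rho_apply (b : Hens (S.presheaf.stalk s)) :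
    (rho S s).hom b = (resEquiv (R := S.presheaf.stalk s)).symm (residue _ b) := rfl

theorem phi_rho : phi S s ≫ rho S s = S.residue s := by
  ext a
  show (resEquiv (R := S.presheaf.stalk s)).symm (residue _ (algebraMap _ _ a)) = residue _ a
  rw [← resEquiv_residue, RingEquiv.symm_apply_apply]

theorem rho_surjective : Function.Surjective (rho S s).hom := by
  intro x
  obtain ⟨b, hb⟩ := residue_surjective ((resEquiv (R := S.presheaf.stalk s)) x)
  refine ⟨b, ?_⟩
  rw [rho_apply, hb, RingEquiv.symm_apply_apply]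

theorem rho_eq_zero_iff (b : Hens (S.presheaf.stalk s)) :
    (rho S s).hom b = 0 ↔ b ∈ maximalIdeal (Hens (S.presheaf.stalk s)) := by
  show ((resEquiv (R := S.presheaf.stalk s)).symm (residue _ b) :
    ResidueField (S.presheaf.stalk s)) = 0 ↔ _
  rw [map_eq_zero_iff _ (resEquiv (R := S.presheaf.stalk s)).symm.injective,
    residue_eq_zero_iff]

theorem ker_rho : RingHom.ker (rho S s).hom = maximalIdeal (Hens (S.presheaf.stalk s)) := by
  ext b
  rw [RingHom.mem_ker, rho_eq_zero_iff]

noncomputable def hh : Spec (BB S s) ⟶ S := Spec.map (phi S s) ≫ S.fromSpecStalk s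

noncomputable def kk : Spec (S.residueField s) ⟶ Spec (BB S s) := Spec.map (rho S s)

theorem kk_hh : kk S s ≫ hh S s = S.fromSpecResidueField s := by
  unfold kk hh Scheme.fromSpecResidueField
  rw [← Category.assoc, ← Spec.map_comp, phi_rho]

instance flat_hh : Flat (hh S s) := by
  unfold hh
  haveI : Flat (Spec.map (phi S s)) := by
    rw [Flat.SpecMap_iff]
    exact RingHom.flat_algebraMap_iff.mpr inferInstance
  haveI := flat_fromSpecStalk S s
  infer_instance

theorem hh_preimage (V : S.Opens) (hV : s ∈ V) : hh S s ⁻¹ᵁ V = ⊤ := by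
  apply Scheme.preimage_eq_top_of_closedPoint_mem
  have h1 : (hh S s) (closedPoint (BB S s)) = s := by
    unfold hh
    rw [Scheme.Hom.comp_apply]
    haveI : IsLocalHom (phi S s).hom :=
      inferInstanceAs (IsLocalHom (algebraMap (S.presheaf.stalk s) (Hens (S.presheaf.stalk s))))
    rw [Spec_closedPoint, Scheme.fromSpecStalk_closedPoint]
  rw [h1]
  exact hV

theorem fromSpecResidueField_appLE {V : S.Opens} (hV : s ∈ V) :
    (S.fromSpecResidueField s).appLE V ⊤ (res_le s hV) =
      S.presheaf.germ V s hV ≫ S.residue s ≫ (Scheme.ΓSpecIso (S.residueField s)).inv := by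
  unfold Scheme.fromSpecResidueField
  rw [Scheme.Hom.comp_appLE, Scheme.fromSpecStalk_app hV, Category.assoc, Category.assoc,
    Scheme.Hom.map_appLE, Scheme.ΓSpecIso_inv_naturality]
  congr 2

theorem kk_appTop : (kk S s).appTop =
    (Scheme.ΓSpecIso (BB S s)).hom ≫ rho S s ≫ (Scheme.ΓSpecIso (S.residueField s)).inv := by
  unfold kk
  rw [← Category.assoc, ← Scheme.ΓSpecIso_naturality, Category.assoc, Iso.hom_inv_id,
    Category.comp_id]

theorem hres_hens (z : Γ(Spec (BB S s), ⊤)) : ∃ (V : S.Opens) (hV : s ∈ V) (c : Γ(S, V)),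
    (kk S s).appTop.hom z = ((S.fromSpecResidueField s).appLE V ⊤ (res_le s hV)).hom c := by
  obtain ⟨a₀, ha₀⟩ := exists_sub_mem_maximalIdeal_hens
    ((Scheme.ΓSpecIso (BB S s)).hom.hom z)
  obtain ⟨V, hV, c, hc⟩ := TopCat.Presheaf.exists_germ_eq S.presheaf a₀
  refine ⟨V, hV, c, ?_⟩
  rw [fromSpecResidueField_appLE S s hV, kk_appTop]
  simp only [CommRingCat.hom_comp, RingHom.comp_apply]
  congr 1
  rw [← rho_eq_zero_iff, map_sub, sub_eq_zero] at ha₀
  rw [ha₀]
  have h2 := congrArg (fun ψ => ψ.hom a₀) (phi_rho S s)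
  simp only [CommRingCat.hom_comp, RingHom.comp_apply] at h2
  rw [← hc] at h2 ⊢
  exact h2

end Setup

section Main

variable {X S : Scheme.{u}} (f : X ⟶ S) (s : S)

theorem isPullback_toBC :
    IsPullback (toBC f s (hh S s) (kk S s) (kk_hh S s)) (f.fiberToSpecResidueField s)
      (pullback.snd f (hh S s)) (kk S s) := by
  have big : IsPullback (toBC f s (hh S s) (kk S s) (kk_hh S s) ≫ pullback.fst f (hh S s))
      (f.fiberToSpecResidueField s) f (kk S s ≫ hh S s) := by
    rw [toBC_fst, kk_hh]
    exact IsPullback.of_hasPullback f (S.fromSpecResidueField s)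
  exact IsPullback.of_right big (toBC_snd f s (hh S s) (kk S s) (kk_hh S s))
    (IsPullback.of_hasPullback f (hh S s))

instance isClosedImmersion_kk : IsClosedImmersion (kk S s) :=
  IsClosedImmersion.spec_of_surjective _ (rho_surjective S s)

instance isClosedImmersion_toBC :
    IsClosedImmersion (toBC f s (hh S s) (kk S s) (kk_hh S s)) :=
  MorphismProperty.of_isPullback (P := @IsClosedImmersion) (isPullback_toBC f s).flip
    (isClosedImmersion_kk s)

theorem range_kk : Set.range (kk S s) =
    (PrimeSpectrum.zeroLocus (maximalIdeal (Hens (S.presheaf.stalk s)) : Set _) :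
      Set (PrimeSpectrum (Hens (S.presheaf.stalk s)))) := by
  have h2 := _root_.range_comap_of_surjective _ (rho S s).hom (rho_surjective S s)
  rw [ker_rho] at h2
  exact h2

theorem range_toBC : Set.range (toBC f s (hh S s) (kk S s) (kk_hh S s)) =
    locus (maximalIdeal (Hens (S.presheaf.stalk s))) (pullback.snd f (hh S s)) := by
  have h1 := Scheme.image_preimage_eq_of_isPullback (isPullback_toBC f s).flip Set.univ
  rw [Set.preimage_univ, Set.image_univ, Set.image_univ, range_kk] at h1
  exact h1

theorem main0979 [IsProper f] (e : Γ(f.fiber s, ⊤)) (he : IsIdempotentElem e) :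
    e ∈ liftable f s := by
  haveI : HenselianRing (Hens (S.presheaf.stalk s)) (maximalIdeal (Hens (S.presheaf.stalk s))) :=
    inferInstance
  have hrl := relLifts_of_isProper (maximalIdeal (Hens (S.presheaf.stalk s)))
    (pullback.snd f (hh S s))
  obtain ⟨j, hj⟩ : ∃ j, j = toBC f s (hh S s) (kk S s) (kk_hh S s) := ⟨_, rfl⟩
  have hjcl : IsClosedEmbedding j := by
    rw [hj]; exact (toBC f s (hh S s) (kk S s) (kk_hh S s)).isClosedEmbedding
  have hjr : Set.range j = locus (maximalIdeal (Hens (S.presheaf.stalk s)))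
      (pullback.snd f (hh S s)) := by rw [hj]; exact range_toBC f s
  -- the decomposition of the fibre
  have hc1 := Groth.Agent.Lib.SchemeIdemH3.isClopen_basicOpen (f.fiber s) he
  have hc2 := Groth.Agent.Lib.SchemeIdemH3.isClopen_basicOpen (f.fiber s) he.one_sub
  have hinf := congrArg (fun U : (f.fiber s).Opens => (U : Set (f.fiber s)))
    (Groth.Agent.Lib.SchemeIdemH3.basicOpen_inf_eq_bot (f.fiber s) he)
  have hsup := congrArg (fun U : (f.fiber s).Opens => (U : Set (f.fiber s)))
    (Groth.Agent.Lib.SchemeIdemH3.basicOpen_sup_eq_top (f.fiber s) e)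
  simp only [Opens.coe_inf, Opens.coe_bot, Opens.coe_sup, Opens.coe_top] at hinf hsup
  obtain ⟨N₁, N₂, hN₁, hN₂, hNU, hND, hN1⟩ := hrl
    (j '' ((f.fiber s).basicOpen e : Set (f.fiber s)))
    (j '' ((f.fiber s).basicOpen (1 - e) : Set (f.fiber s)))
    (hjcl.isClosedMap _ hc1.1) (hjcl.isClosedMap _ hc2.1)
    (by rw [← Set.image_union, hsup, Set.image_univ, hjr, Set.univ_inter])
    (by
      rw [Set.disjoint_image_iff hjcl.injective, Set.disjoint_iff_inter_eq_empty]
      exact hinf)
  have hN₁clopen : IsClopen N₁ := by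
    refine ⟨hN₁, ?_⟩
    have : N₁ = N₂ᶜ := by
      ext y
      constructor
      · intro h1 h2
        exact Set.disjoint_left.mp hND h1 h2
      · intro h2
        have : y ∈ N₁ ∪ N₂ := by rw [hNU]; trivial
        exact this.resolve_right h2
    rw [this]
    exact hN₂.isOpen_compl
  obtain ⟨eh, heh, hehN⟩ := Groth.Agent.Lib.SchemeIdemH3.exists_idem_of_isClopen
    (pullback f (hh S s)) N₁ hN₁clopen
  -- the restriction of `eh` to the fibre is `e`
  have hres : j.appTop.hom eh = e := by
    apply Groth.Agent.Lib.SchemeIdemH3.eq_of_basicOpen_eq (f.fiber s) (heh.map j.appTop.hom) he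
    apply Opens.ext
    have h1 : ((f.fiber s).basicOpen (j.appTop.hom eh) : Set (f.fiber s)) =
        j ⁻¹' ((pullback f (hh S s)).basicOpen eh : Set _) := by
      have := Scheme.preimage_basicOpen_top j eh
      exact (congrArg (fun U : (f.fiber s).Opens => (U : Set (f.fiber s))) this).symm
    rw [h1, hehN]
    ext x
    constructor
    · intro hx
      have hx2 : j x ∈ N₁ ∩ locus (maximalIdeal (Hens (S.presheaf.stalk s)))
          (pullback.snd f (hh S s)) := ⟨hx, by rw [← hjr]; exact ⟨x, rfl⟩⟩
      rw [hN1] at hx2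
      obtain ⟨x', hx', hxx⟩ := hx2
      rw [hjcl.injective hxx] at hx'
      exact hx'
    · intro hx
      have hx2 : j x ∈ j '' ((f.fiber s).basicOpen e : Set (f.fiber s)) := ⟨x, hx, rfl⟩
      rw [← hN1] at hx2
      exact hx2.1
  rw [← hres, hj]
  exact liftable_of_flat f s (hh S s) (kk S s) (kk_hh S s) (hh_preimage S s) (hres_hens S s) eh

end Main

end Groth.Agent.Lib.IdemLiftH4
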