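import Mathlib

/-!
# Completeness of `W(R)` for a `p`-adically complete ring `R` (helper3)

* `isAdicComplete_span_of_coarser`: a ring that is complete and separated for a linear topology
  coarser than the `π`-adic one is `π`-adically complete.
* `isAdicComplete_of_sq_eq`: if `A` is `π`-adically complete, `I² = πI` and `I` is `π`-adically
  closed, then `A` is `I`-adically complete.
* `witt_complete`: both completeness statements for `W(R)`.
-/

set_option autoImplicit false
set_option linter.unusedSectionVars false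

noncomputable section

universe u

namespace Groth.Agent.Lib.WittComplete_helper3

section General

variable {A : Type*} [CommRing A]

lemma smodEq_iff (J : Ideal A) (x y : A) :
    x ≡ y [SMOD (J • ⊤ : Submodule A A)] ↔ x - y ∈ J := by
  rw [SModEq.sub_mem, smul_eq_mul, Ideal.mul_top]

lemma smodEq_zero_iff (J : Ideal A) (x : A) :
    x ≡ 0 [SMOD (J • ⊤ : Submodule A A)] ↔ x ∈ J := by
  rw [SModEq.zero, smul_eq_mul, Ideal.mul_top]

lemma telescope_mem (J : Ideal A) (a : ℕ → A) (M0 : ℕ)
    (h : ∀ M ≥ M0, a (M + 1) - a M ∈ J) :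
    ∀ M ≥ M0, a M - a M0 ∈ J := by
  intro M hM
  induction M, hM using Nat.le_induction with
  | base => rw [sub_self]; exact J.zero_mem
  | succ M hM ih =>
    have := J.add_mem (h M hM) ih
    rwa [sub_add_sub_cancel] at this

/-- eventually-Cauchy sequences converge in an adically complete ring. -/
lemma exists_limit_of_eventually {I : Ideal A} [IsAdicComplete I A] (a : ℕ → A)
    (h : ∀ m, ∃ M0, ∀ M ≥ M0, a (M + 1) - a M ∈ I ^ m) :
    ∃ L, ∀ m, ∃ M0, ∀ M ≥ M0, a M - L ∈ I ^ m := by
  choose M0 hM0 using h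
  let N : ℕ → ℕ := fun m => (Finset.range (m + 1)).sup M0
  have hN : ∀ m, M0 m ≤ N m := fun m =>
    Finset.le_sup (f := M0) (Finset.mem_range.2 (Nat.lt_succ_self m))
  have hNmono : Monotone N := by
    intro m n hmn
    exact Finset.sup_mono (Finset.range_mono (by omega))
  have hclose : ∀ m, ∀ M ≥ N m, a M - a (N m) ∈ I ^ m := by
    intro m M hM
    exact telescope_mem (I ^ m) a (N m)
      (fun M' hM' => hM0 m M' (le_trans (hN m) hM')) M hM
  have hprec := IsPrecomplete.prec (I := I) (M := A) inferInstance (f := fun m => a (N m)) (by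
    intro m n hmn
    rw [SModEq.sub_mem, smul_eq_mul, Ideal.mul_top]
    have := hclose m (N n) (hNmono hmn)
    have h2 := (I ^ m).neg_mem this
    rwa [neg_sub] at h2)
  obtain ⟨L, hL⟩ := hprec
  refine ⟨L, fun m => ⟨N m, fun M hM => ?_⟩⟩
  have h1 := hclose m M hM
  have h2 := hL m
  rw [SModEq.sub_mem, smul_eq_mul, Ideal.mul_top] at h2
  have := (I ^ m).add_mem h1 h2
  rwa [sub_add_sub_cancel] at this

lemma isAdicComplete_span_of_coarser (π : A) (U : ℕ → Ideal A)
    (hsep : ∀ x, (∀ m, x ∈ U m) → x = 0)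
    (hcomp : ∀ f : ℕ → A, (∀ m, ∃ M0, ∀ M ≥ M0, f (M + 1) - f M ∈ U m) →
      ∃ L, ∀ m, ∃ M0, ∀ M ≥ M0, f M - L ∈ U m)
    (hπ : ∀ m, ∃ N, π ^ N ∈ U m) :
    IsAdicComplete (Ideal.span {π}) A := by
  have hpow : ∀ m, ∃ N, ∀ M ≥ N, ∀ y : A, π ^ M * y ∈ U m := by
    intro m
    obtain ⟨N, hN⟩ := hπ m
    refine ⟨N, fun M hM y => ?_⟩
    obtain ⟨e, rfl⟩ := Nat.exists_eq_add_of_le hM
    rw [pow_add, mul_assoc]
    exact (U m).mul_mem_right _ hN
  haveI : IsHausdorff (Ideal.span {π}) A := by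
    refine ⟨fun x hx => hsep x fun m => ?_⟩
    obtain ⟨N, hN⟩ := hpow m
    have h1 := hx N
    rw [SModEq.zero, smul_eq_mul, Ideal.mul_top, Ideal.span_singleton_pow,
      Ideal.mem_span_singleton'] at h1
    obtain ⟨y, rfl⟩ := h1
    rw [mul_comm]
    exact hN N le_rfl y
  haveI : IsPrecomplete (Ideal.span {π}) A := by
    refine ⟨fun f hf => ?_⟩
    have hstep : ∀ n, ∃ x, f (n + 1) - f n = π ^ n * x := by
      intro n
      have h1 := hf (Nat.le_succ n)
      rw [SModEq.sub_mem, smul_eq_mul, Ideal.mul_top, Ideal.span_singleton_pow] at h1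
      have h2 := (Ideal.span {π ^ n}).neg_mem h1
      rw [neg_sub, Ideal.mem_span_singleton'] at h2
      obtain ⟨y, hy⟩ := h2
      exact ⟨y, by rw [← hy, mul_comm]⟩
    choose x hx using hstep
    let S : ℕ → ℕ → A := fun N M => ∑ k ∈ Finset.range M, π ^ k * x (N + k)
    have hScauchy : ∀ N m, ∃ M0, ∀ M ≥ M0, S N (M + 1) - S N M ∈ U m := by
      intro N m
      obtain ⟨N0, hN0⟩ := hpow m
      refine ⟨N0, fun M hM => ?_⟩
      show ∑ k ∈ Finset.range (M + 1), π ^ k * x (N + k) -
        ∑ k ∈ Finset.range M, π ^ k * x (N + k) ∈ U m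
      rw [Finset.sum_range_succ, add_sub_cancel_left]
      exact hN0 M hM _
    have hG : ∀ N, ∃ G, ∀ m, ∃ M0, ∀ M ≥ M0, S N M - G ∈ U m := fun N =>
      hcomp (S N) (hScauchy N)
    choose G hG using hG
    have hfS : ∀ N, f N = f 0 + S 0 N := by
      intro N
      induction N with
      | zero => show f 0 = f 0 + ∑ k ∈ Finset.range 0, _; rw [Finset.sum_range_zero, add_zero]
      | succ N ih =>
        show f (N + 1) = f 0 + ∑ k ∈ Finset.range (N + 1), π ^ k * x (0 + k)
        rw [Finset.sum_range_succ, ← add_assoc]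
        have : f 0 + ∑ k ∈ Finset.range N, π ^ k * x (0 + k) = f N := ih.symm
        rw [this, zero_add, ← hx N]
        ring
    have hsplit : ∀ N M, S 0 (N + M) = S 0 N + π ^ N * S N M := by
      intro N M
      show ∑ k ∈ Finset.range (N + M), π ^ k * x (0 + k) =
        ∑ k ∈ Finset.range N, π ^ k * x (0 + k) + π ^ N * ∑ k ∈ Finset.range M, π ^ k * x (N + k)
      rw [Finset.sum_range_add, Finset.mul_sum]
      congr 1
      refine Finset.sum_congr rfl fun k _ => ?_
      rw [pow_add, zero_add, mul_assoc]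
    have hkey : ∀ N, G 0 - S 0 N = π ^ N * G N := by
      intro N
      rw [← sub_eq_zero]
      apply hsep
      intro m
      obtain ⟨M1, hM1⟩ := hG 0 m
      obtain ⟨M2, hM2⟩ := hG N m
      have h1 := hM1 (N + (M1 + M2)) (by omega)
      have h2 := hM2 (M1 + M2) (by omega)
      have h3 : G 0 - S 0 N - π ^ N * G N =
          -(S 0 (N + (M1 + M2)) - G 0) + π ^ N * (S N (M1 + M2) - G N) := by
        rw [hsplit]
        ring
      rw [h3]
      exact (U m).add_mem ((U m).neg_mem h1) ((U m).mul_mem_left _ h2)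
    refine ⟨f 0 + G 0, fun N => ?_⟩
    rw [SModEq.sub_mem, smul_eq_mul, Ideal.mul_top, Ideal.span_singleton_pow,
      Ideal.mem_span_singleton']
    refine ⟨-G N, ?_⟩
    have := hkey N
    rw [hfS N]
    linear_combination this
  exact {}

lemma pow_succ_eq_of_sq_eq (P I : Ideal A) (hI : I * I = P * I) (n : ℕ) :
    I ^ (n + 1) = P ^ n * I := by
  induction n with
  | zero => rw [pow_zero, one_mul, zero_add, pow_one]
  | succ n ih =>
    rw [pow_succ, ih, mul_assoc, hI, ← mul_assoc, ← pow_succ]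

lemma isAdicComplete_of_sq_eq (π : A) (I : Ideal A) [IsAdicComplete (Ideal.span {π}) A]
    (hI : I * I = Ideal.span {π} * I)
    (hclosed : ∀ z, (∀ n, ∃ a ∈ I, z - a ∈ Ideal.span {π ^ n}) → z ∈ I) :
    IsAdicComplete I A := by
  have hpow : ∀ n, I ^ (n + 1) = Ideal.span {π ^ n} * I := fun n => by
    rw [pow_succ_eq_of_sq_eq _ I hI n, Ideal.span_singleton_pow]
  have hP0 : ∀ x : A, (∀ n, x ∈ Ideal.span {π ^ n}) → x = 0 := by
    intro x hx
    apply IsHausdorff.haus (I := Ideal.span {π}) (M := A) inferInstance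
    intro n
    rw [smodEq_zero_iff, Ideal.span_singleton_pow]
    exact hx n
  haveI : IsHausdorff I A := by
    refine ⟨fun x hx => hP0 x fun n => ?_⟩
    have h1 := (smodEq_zero_iff (I ^ (n + 1)) x).1 (hx (n + 1))
    rw [hpow] at h1
    exact Ideal.mul_le_left h1
  haveI : IsPrecomplete I A := by
    refine ⟨fun f hf => ?_⟩
    have hstep : ∀ n, ∃ a ∈ I, f (n + 2) - f (n + 1) = π ^ n * a := by
      intro n
      have h1 := (smodEq_iff (I ^ (n + 1)) _ _).1 (hf (Nat.le_succ (n + 1)))
      rw [hpow] at h1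
      have h2 := (Ideal.span {π ^ n} * I).neg_mem h1
      rw [neg_sub, Ideal.mem_span_singleton_mul] at h2
      obtain ⟨z, hz, hz2⟩ := h2
      exact ⟨z, hz, hz2.symm⟩
    choose a haI ha using hstep
    let S : ℕ → ℕ → A := fun N M => ∑ k ∈ Finset.range M, π ^ k * a (N + k)
    have hSI : ∀ N M, S N M ∈ I := fun N M =>
      I.sum_mem fun k _ => I.mul_mem_left _ (haI _)
    have hSprec : ∀ N, ∃ G, ∀ M, S N M - G ∈ Ideal.span {π ^ M} := by
      intro N
      have := IsPrecomplete.prec (I := Ideal.span {π}) (M := A) inferInstance (f := S N) (by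
        intro m n hmn
        rw [SModEq.sub_mem, smul_eq_mul, Ideal.mul_top, Ideal.span_singleton_pow]
        obtain ⟨e, rfl⟩ := Nat.exists_eq_add_of_le hmn
        show ∑ k ∈ Finset.range m, π ^ k * a (N + k) -
          ∑ k ∈ Finset.range (m + e), π ^ k * a (N + k) ∈ _
        rw [Finset.sum_range_add, sub_add_cancel_left]
        apply (Ideal.span {π ^ m}).neg_mem
        apply (Ideal.span {π ^ m}).sum_mem
        intro k _
        rw [pow_add, mul_assoc]
        exact Ideal.mul_mem_right _ _ (Ideal.mem_span_singleton_self _))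
      obtain ⟨G, hG⟩ := this
      refine ⟨G, fun M => ?_⟩
      have h1 := hG M
      rwa [SModEq.sub_mem, smul_eq_mul, Ideal.mul_top, Ideal.span_singleton_pow] at h1
    choose G hG using hSprec
    have hGI : ∀ N, G N ∈ I := by
      intro N
      apply hclosed
      intro n
      refine ⟨S N n, hSI N n, ?_⟩
      have := (Ideal.span {π ^ n}).neg_mem (hG N n)
      rwa [neg_sub] at this
    have hfS : ∀ N, f (N + 1) = f 1 + S 0 N := by
      intro N
      induction N with
      | zero => show f 1 = f 1 + ∑ k ∈ Finset.range 0, _; rw [Finset.sum_range_zero, add_zero]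
      | succ N ih =>
        show f (N + 1 + 1) = f 1 + ∑ k ∈ Finset.range (N + 1), π ^ k * a (0 + k)
        rw [Finset.sum_range_succ, ← add_assoc]
        have : f 1 + ∑ k ∈ Finset.range N, π ^ k * a (0 + k) = f (N + 1) := ih.symm
        rw [this, zero_add, ← ha N]
        ring
    have hsplit : ∀ N M, S 0 (N + M) = S 0 N + π ^ N * S N M := by
      intro N M
      show ∑ k ∈ Finset.range (N + M), π ^ k * a (0 + k) =
        ∑ k ∈ Finset.range N, π ^ k * a (0 + k) + π ^ N * ∑ k ∈ Finset.range M, π ^ k * a (N + k)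
      rw [Finset.sum_range_add, Finset.mul_sum]
      congr 1
      refine Finset.sum_congr rfl fun k _ => ?_
      rw [pow_add, zero_add, mul_assoc]
    have hkey : ∀ N, G 0 - S 0 N = π ^ N * G N := by
      intro N
      rw [← sub_eq_zero]
      apply hP0
      intro m
      have h1 := hG 0 (N + m)
      have h2 := hG N m
      have h3 : G 0 - S 0 N - π ^ N * G N =
          -(S 0 (N + m) - G 0) + π ^ N * (S N m - G N) := by
        rw [hsplit]
        ring
      rw [h3]
      refine (Ideal.span {π ^ m}).add_mem ((Ideal.span {π ^ m}).neg_mem ?_)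
        ((Ideal.span {π ^ m}).mul_mem_left _ h2)
      rw [Ideal.mem_span_singleton'] at h1 ⊢
      obtain ⟨y, hy⟩ := h1
      exact ⟨y * π ^ N, by rw [← hy, pow_add]; ring⟩
    refine ⟨f 1 + G 0, fun N => ?_⟩
    rw [smodEq_iff]
    rcases Nat.eq_zero_or_pos N with hN0 | hN0
    · rw [hN0, pow_zero, Ideal.one_eq_top]; exact Submodule.mem_top
    · obtain ⟨N, rfl⟩ : ∃ N', N = N' + 1 := ⟨N - 1, by omega⟩
      rw [hpow, Ideal.mem_span_singleton_mul]
      refine ⟨-G N, I.neg_mem (hGI N), ?_⟩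
      have := hkey N
      rw [hfS N]
      linear_combination this
  exact {}

end General

section Witt

variable (p : ℕ) [hp : Fact p.Prime] (R : Type u) [CommRing R]

local notation "𝕎" => WittVector p

/-- the kernel of `W(R) → W_m(R/p^m)`. -/
def U (m : ℕ) : Ideal (𝕎 R) :=
  RingHom.ker ((WittVector.truncate (p := p) m).comp
    (WittVector.map (Ideal.Quotient.mk (Ideal.span {(p : R) ^ m}))))

lemma mem_U (m : ℕ) (x : 𝕎 R) :
    x ∈ U p R m ↔ ∀ i < m, x.coeff i ∈ Ideal.span {(p : R) ^ m} := by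
  unfold U
  rw [RingHom.mem_ker, RingHom.comp_apply, ← RingHom.mem_ker, WittVector.mem_ker_truncate]
  simp only [WittVector.map_coeff, Ideal.Quotient.eq_zero_iff_mem]

lemma sub_mem_U (m : ℕ) (x y : 𝕎 R) :
    x - y ∈ U p R m ↔ ∀ i < m, x.coeff i - y.coeff i ∈ Ideal.span {(p : R) ^ m} := by
  unfold U
  rw [RingHom.mem_ker, map_sub, RingHom.comp_apply, RingHom.comp_apply, ← map_sub,
    ← RingHom.mem_ker, WittVector.mem_ker_truncate,
    ← WittVector.le_coeff_eq_iff_le_sub_coeff_eq_zero]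
  simp only [WittVector.map_coeff, Ideal.Quotient.eq]

lemma iterate_verschiebung_nsmul {S : Type*} [CommRing S] (j n : ℕ) (z : 𝕎 S) :
    (WittVector.verschiebung)^[j] (n • z) = n • (WittVector.verschiebung)^[j] z := by
  induction j with
  | zero => rfl
  | succ j ih => rw [Function.iterate_succ_apply', Function.iterate_succ_apply', ih, map_nsmul]

lemma coeff_pow_mul_eq_zero {S : Type*} [CommRing S] (m : ℕ) (hS : (p : S) ^ m = 0) (j : ℕ)
    (y : 𝕎 S) (hy : ∀ i < j, y.coeff i = 0) :
    ∀ i < j + 1, ((p : 𝕎 S) ^ m * y).coeff i = 0 := by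
  have h1 : (p : 𝕎 S) ^ m * y = (p ^ m) • y := by
    rw [nsmul_eq_mul, Nat.cast_pow]
  rw [h1, WittVector.eq_iterate_verschiebung hy, ← iterate_verschiebung_nsmul]
  have h0 : ((p ^ m) • (y.shift j)).coeff 0 = 0 := by
    have h2 : ((p ^ m) • (y.shift j)).coeff 0 = (p ^ m) • (y.shift j).coeff 0 :=
      map_nsmul (WittVector.constantCoeff : 𝕎 S →+* S) _ _
    rw [h2, nsmul_eq_mul, Nat.cast_pow, hS, zero_mul]
  intro i hi
  by_cases hij : i < j
  · exact WittVector.iterate_verschiebung_coeff_eq_zero _ hij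
  · have : i = 0 + j := by omega
    rw [this, WittVector.iterate_verschiebung_coeff, h0]

lemma coeff_pow_mul_eq_zero' {S : Type*} [CommRing S] (m : ℕ) (hS : (p : S) ^ m = 0) (j : ℕ)
    (y : 𝕎 S) : ∀ i < j, ((p : 𝕎 S) ^ (m * j) * y).coeff i = 0 := by
  induction j with
  | zero => intro i hi; exact absurd hi (Nat.not_lt_zero _)
  | succ j ih =>
    have : (p : 𝕎 S) ^ (m * (j + 1)) * y = (p : 𝕎 S) ^ m * ((p : 𝕎 S) ^ (m * j) * y) := by
      rw [mul_add, mul_one, pow_add]
      ring
    rw [this]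
    exact coeff_pow_mul_eq_zero p m hS j _ ih

lemma p_pow_mem_U (m : ℕ) : ((p : 𝕎 R)) ^ (m * m) ∈ U p R m := by
  unfold U
  rw [RingHom.mem_ker, RingHom.comp_apply, ← RingHom.mem_ker, WittVector.mem_ker_truncate]
  intro i hi
  rw [map_pow, map_natCast]
  have hS : ((p : R ⧸ Ideal.span {(p : R) ^ m})) ^ m = 0 := by
    have : ((p : R ⧸ Ideal.span {(p : R) ^ m})) = Ideal.Quotient.mk _ (p : R) := by
      rw [map_natCast]
    rw [this, ← map_pow, Ideal.Quotient.eq_zero_iff_mem]
    exact Ideal.mem_span_singleton_self _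
  have := coeff_pow_mul_eq_zero' p m hS m 1 i hi
  rwa [mul_one] at this

variable [IsAdicComplete (Ideal.span {(p : R)}) R]

lemma eq_zero_of_forall_mem_span (c : R) (h : ∀ m, c ∈ Ideal.span {(p : R) ^ m}) : c = 0 := by
  apply IsHausdorff.haus (I := Ideal.span {(p : R)}) (M := R) inferInstance
  intro n
  rw [SModEq.zero, smul_eq_mul, Ideal.mul_top, Ideal.span_singleton_pow]
  exact h n

lemma span_pow_antitone {m m' : ℕ} (h : m ≤ m') :
    Ideal.span {(p : R) ^ m'} ≤ Ideal.span {(p : R) ^ m} := by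
  rw [Ideal.span_singleton_le_iff_mem, Ideal.mem_span_singleton]
  exact pow_dvd_pow _ h

lemma U_sep (x : 𝕎 R) (hx : ∀ m, x ∈ U p R m) : x = 0 := by
  ext i
  rw [WittVector.zero_coeff]
  apply eq_zero_of_forall_mem_span p R
  intro m
  have h1 := (mem_U p R (max m (i + 1)) x).1 (hx _) i (by omega)
  exact span_pow_antitone p R (le_max_left _ _) h1

lemma U_complete (f : ℕ → 𝕎 R) (hf : ∀ m, ∃ M0, ∀ M ≥ M0, f (M + 1) - f M ∈ U p R m) :
    ∃ L, ∀ m, ∃ M0, ∀ M ≥ M0, f M - L ∈ U p R m := by
  have hcoeff : ∀ i, ∃ c : R, ∀ m, ∃ M0, ∀ M ≥ M0,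
      (f M).coeff i - c ∈ (Ideal.span {(p : R)}) ^ m := by
    intro i
    apply exists_limit_of_eventually (I := Ideal.span {(p : R)}) (fun M => (f M).coeff i)
    intro m
    obtain ⟨M0, hM0⟩ := hf (max m (i + 1))
    refine ⟨M0, fun M hM => ?_⟩
    have h1 := (sub_mem_U p R _ _ _).1 (hM0 M hM) i (by omega)
    rw [Ideal.span_singleton_pow]
    exact span_pow_antitone p R (le_max_left _ _) h1
  choose c hc using hcoeff
  refine ⟨WittVector.mk p c, fun m => ?_⟩
  choose M0 hM0 using fun i => hc i m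
  refine ⟨(Finset.range m).sup M0, fun M hM => ?_⟩
  rw [sub_mem_U]
  intro i hi
  have h1 := hM0 i M (le_trans (Finset.le_sup (f := M0) (Finset.mem_range.2 hi)) hM)
  rw [Ideal.span_singleton_pow] at h1
  exact h1

/-- `W(R)` is `p`-adically complete. -/
theorem witt_complete_p : IsAdicComplete (Ideal.span {(p : 𝕎 R)}) (𝕎 R) :=
  isAdicComplete_span_of_coarser (p : 𝕎 R) (U p R) (U_sep p R) (U_complete p R)
    (fun m => ⟨m * m, p_pow_mem_U p R m⟩)

lemma mem_ker_iff (x : 𝕎 R) :
    x ∈ RingHom.ker (WittVector.constantCoeff : 𝕎 R →+* R) ↔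
      ∃ y : 𝕎 R, x = WittVector.verschiebung y := by
  rw [RingHom.mem_ker, WittVector.constantCoeff_apply]
  constructor
  · intro h
    refine ⟨x.shift 1, ?_⟩
    have := WittVector.eq_iterate_verschiebung (x := x) (n := 1) (by
      intro i hi
      have : i = 0 := by omega
      rw [this, h])
    simpa using this
  · rintro ⟨y, rfl⟩
    exact WittVector.verschiebung_coeff_zero y

lemma verschiebung_mul_verschiebung (x y : 𝕎 R) :
    WittVector.verschiebung x * WittVector.verschiebung y =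
      (p : 𝕎 R) * WittVector.verschiebung (x * y) := by
  rw [← WittVector.verschiebung_mul_frobenius, WittVector.frobenius_verschiebung, ← mul_assoc,
    mul_comm (p : 𝕎 R)]
  have : x * y * (p : 𝕎 R) = p • (x * y) := by rw [nsmul_eq_mul, mul_comm]
  rw [this, map_nsmul, nsmul_eq_mul, mul_comm]

lemma ker_mul_self :
    RingHom.ker (WittVector.constantCoeff : 𝕎 R →+* R) *
        RingHom.ker (WittVector.constantCoeff : 𝕎 R →+* R) =
      Ideal.span {(p : 𝕎 R)} * RingHom.ker (WittVector.constantCoeff : 𝕎 R →+* R) := by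
  apply le_antisymm
  · rw [Ideal.mul_le]
    intro a ha b hb
    obtain ⟨a', rfl⟩ := (mem_ker_iff p R a).1 ha
    obtain ⟨b', rfl⟩ := (mem_ker_iff p R b).1 hb
    rw [verschiebung_mul_verschiebung, Ideal.mem_span_singleton_mul]
    exact ⟨_, (mem_ker_iff p R _).2 ⟨_, rfl⟩, rfl⟩
  · rw [Ideal.mul_le]
    intro a ha b hb
    rw [Ideal.mem_span_singleton'] at ha
    obtain ⟨c, rfl⟩ := ha
    obtain ⟨b', rfl⟩ := (mem_ker_iff p R b).1 hb
    have h1 : c * (p : 𝕎 R) * WittVector.verschiebung b' =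
        WittVector.verschiebung 1 * (c * WittVector.verschiebung b') := by
      have := verschiebung_mul_verschiebung p R 1 b'
      rw [one_mul] at this
      calc c * (p : 𝕎 R) * WittVector.verschiebung b'
          = c * ((p : 𝕎 R) * WittVector.verschiebung b') := by ring
        _ = c * (WittVector.verschiebung 1 * WittVector.verschiebung b') := by rw [this]
        _ = _ := by ring
    rw [h1]
    exact Ideal.mul_mem_mul ((mem_ker_iff p R _).2 ⟨_, rfl⟩)
      (Ideal.mul_mem_left _ _ ((mem_ker_iff p R _).2 ⟨_, rfl⟩))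

theorem witt_complete_I :
    IsAdicComplete (RingHom.ker (WittVector.constantCoeff : 𝕎 R →+* R)) (𝕎 R) := by
  haveI := witt_complete_p p R
  refine isAdicComplete_of_sq_eq (p : 𝕎 R) _ (ker_mul_self p R) ?_
  intro z hz
  rw [RingHom.mem_ker]
  apply eq_zero_of_forall_mem_span p R
  intro n
  obtain ⟨a, ha, hza⟩ := hz n
  rw [RingHom.mem_ker] at ha
  rw [Ideal.mem_span_singleton'] at hza ⊢
  obtain ⟨b, hb⟩ := hza
  refine ⟨WittVector.constantCoeff b, ?_⟩
  have := congrArg (WittVector.constantCoeff : 𝕎 R →+* R) hb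
  rw [map_mul, map_pow, map_natCast, map_sub, ha, sub_zero] at this
  exact this

end Witt

end Groth.Agent.Lib.WittComplete_helper3
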