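import Mathlib
import Groth.Prelude.Def_W4c1extbt610Disp
import Groth.Agent.Lib.AdicRetract_helper9
import Groth.Agent.Lib.WittComplete_helper3
import Groth.Agent.Lib.DispBCx2_helper1

/-! Lifting idempotent endomorphisms of an adically complete module, and normal decompositions
over `W(R)` for `p`-adically complete `R` (helper1; S14858). APPEND-ONLY once landed. -/

set_option autoImplicit false
universe u v

namespace Groth.Agent.Lib.IdemLiftH1

section General

variable {A : Type u} [CommRing A] (I : Ideal A) {P : Type v} [AddCommGroup P] [Module A P]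

/-- the endomorphism `a` has values in `I^n P` -/
def Small (n : ℕ) (a : Module.End A P) : Prop := ∀ x, a x ∈ (I ^ n • ⊤ : Submodule A P)

variable {I}

lemma Small.mono {m n : ℕ} (h : m ≤ n) {a : Module.End A P} (ha : Small I n a) : Small I m a :=
  fun x => Submodule.smul_mono_left (Ideal.pow_le_pow_right h) (ha x)

lemma Small.add {n : ℕ} {a b : Module.End A P} (ha : Small I n a) (hb : Small I n b) :
    Small I n (a + b) := fun x => Submodule.add_mem _ (ha x) (hb x)

lemma Small.sub {n : ℕ} {a b : Module.End A P} (ha : Small I n a) (hb : Small I n b) :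
    Small I n (a - b) := fun x => Submodule.sub_mem _ (ha x) (hb x)

lemma map_mem (a : Module.End A P) {n : ℕ} {y : P} (hy : y ∈ (I ^ n • ⊤ : Submodule A P)) :
    a y ∈ (I ^ n • ⊤ : Submodule A P) := by
  refine Submodule.smul_induction_on hy (fun c hc z _ => ?_) (fun x y hx hy => ?_)
  · rw [map_smul]
    exact Submodule.smul_mem_smul hc Submodule.mem_top
  · rw [map_add]
    exact Submodule.add_mem _ hx hy

lemma Small.mul_left {n : ℕ} {a : Module.End A P} (b : Module.End A P) (ha : Small I n a) :
    Small I n (b * a) := fun x => map_mem b (ha x)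

lemma Small.mul_right {n : ℕ} {a : Module.End A P} (b : Module.End A P) (ha : Small I n a) :
    Small I n (a * b) := fun x => ha (b x)

lemma Small.mul {n m : ℕ} {a b : Module.End A P} (ha : Small I n a) (hb : Small I m b) :
    Small I (n + m) (a * b) := by
  intro x
  show a (b x) ∈ _
  have key : ∀ y ∈ (I ^ m • ⊤ : Submodule A P), a y ∈ (I ^ (n + m) • ⊤ : Submodule A P) := by
    intro y hy
    refine Submodule.smul_induction_on hy (fun c hc z _ => ?_) (fun x y hx hy => ?_)
    · rw [map_smul, add_comm, pow_add, Submodule.mul_smul]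
      exact Submodule.smul_mem_smul hc (ha z)
    · rw [map_add]
      exact Submodule.add_mem _ hx hy
  exact key _ (hb x)

/-- a Cauchy sequence of endomorphisms of a complete module converges -/
theorem exists_limit [IsAdicComplete I P] (a : ℕ → Module.End A P)
    (hC : ∀ k, Small I k (a (k + 1) - a k)) :
    ∃ e : Module.End A P, ∀ n x, a n x - e x ∈ (I ^ n • ⊤ : Submodule A P) := by
  have hcauchy : ∀ (x : P) {m n : ℕ}, m ≤ n →
      a m x - a n x ∈ (I ^ m • ⊤ : Submodule A P) := by
    intro x m n hmn
    induction n, hmn using Nat.le_induction with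
    | base => rw [sub_self]; exact Submodule.zero_mem _
    | succ n hmn ih =>
      have h1 : a m x - a (n + 1) x = (a m x - a n x) - (a (n + 1) - a n) x := by
        rw [LinearMap.sub_apply]; abel
      rw [h1]
      exact Submodule.sub_mem _ ih ((hC n).mono hmn x)
  have hex : ∀ x : P, ∃ L : P, ∀ n, a n x - L ∈ (I ^ n • ⊤ : Submodule A P) := by
    intro x
    obtain ⟨L, hL⟩ := IsPrecomplete.prec' (I := I) (fun n => a n x) (fun {m n} hmn => by
      rw [SModEq.sub_mem]
      exact hcauchy x hmn)
    exact ⟨L, fun n => SModEq.sub_mem.1 (hL n)⟩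
  choose e he using hex
  refine ⟨{ toFun := e, map_add' := fun x y => ?_, map_smul' := fun c x => ?_ },
    fun n x => he x n⟩
  · rw [← sub_eq_zero]
    apply IsHausdorff.haus' (I := I)
    intro n
    rw [SModEq.zero]
    have h1 : e (x + y) - (e x + e y) =
        (a n x - e x) + (a n y - e y) - (a n (x + y) - e (x + y)) := by
      rw [map_add]; abel
    rw [h1]
    exact Submodule.sub_mem _ (Submodule.add_mem _ (he x n) (he y n)) (he (x + y) n)
  · rw [RingHom.id_apply, ← sub_eq_zero]
    apply IsHausdorff.haus' (I := I)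
    intro n
    rw [SModEq.zero]
    have h1 : e (c • x) - c • e x = c • (a n x - e x) - (a n (c • x) - e (c • x)) := by
      rw [map_smul, smul_sub]; abel
    rw [h1]
    exact Submodule.sub_mem _ (Submodule.smul_mem _ c (he x n)) (he (c • x) n)

/-- one Newton step towards an idempotent -/
def nxt (a : Module.End A P) : Module.End A P := a + (a * a - a) * (1 - 2 * a)

lemma nxt_sub (a : Module.End A P) : nxt a - a = (a * a - a) * (1 - 2 * a) := by
  unfold nxt; abel

lemma nxt_idem (a : Module.End A P) :
    nxt a * nxt a - nxt a = (a * a - a) * (a * a - a) * (4 * (a * a) - 4 * a - 3) := by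
  unfold nxt
  noncomm_ring

/-- the Newton sequence -/
def seqA (a₀ : Module.End A P) : ℕ → Module.End A P
  | 0 => a₀
  | k + 1 => nxt (seqA a₀ k)

/-- lifting of idempotents -/
theorem exists_idem_lift [IsAdicComplete I P] (a₀ : Module.End A P)
    (h₀ : Small I 1 (a₀ * a₀ - a₀)) :
    ∃ e : Module.End A P, e * e = e ∧ Small I 1 (e - a₀) := by
  have hd : ∀ k, Small I (k + 1) (seqA a₀ k * seqA a₀ k - seqA a₀ k) := by
    intro k
    induction k with
    | zero => exact h₀
    | succ k ih =>
      show Small I (k + 1 + 1) (nxt (seqA a₀ k) * nxt (seqA a₀ k) - nxt (seqA a₀ k))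
      rw [nxt_idem]
      exact ((ih.mul ih).mul_right _).mono (by omega)
  have hs : ∀ k, Small I (k + 1) (seqA a₀ (k + 1) - seqA a₀ k) := by
    intro k
    show Small I (k + 1) (nxt (seqA a₀ k) - seqA a₀ k)
    rw [nxt_sub]
    exact (hd k).mul_right _
  obtain ⟨e, he⟩ := exists_limit (I := I) (seqA a₀) (fun k => (hs k).mono (Nat.le_succ k))
  refine ⟨e, ?_, ?_⟩
  · refine LinearMap.ext fun x => ?_
    show e (e x) = e x
    rw [← sub_eq_zero]
    apply IsHausdorff.haus' (I := I)
    intro n
    rw [SModEq.zero]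
    have h1 : e (e x) - e x = (seqA a₀ n x - e x) - (seqA a₀ n (e x) - e (e x))
        - seqA a₀ n (seqA a₀ n x - e x)
        + (seqA a₀ n * seqA a₀ n - seqA a₀ n) x := by
      rw [map_sub, LinearMap.sub_apply, Module.End.mul_apply]; abel
    rw [h1]
    exact Submodule.add_mem _ (Submodule.sub_mem _ (Submodule.sub_mem _ (he n x) (he n (e x)))
      (map_mem _ (he n x))) ((hd n).mono (Nat.le_succ n) x)
  · intro x
    have h1 : (e - a₀) x = (seqA a₀ 1 - seqA a₀ 0) x - (seqA a₀ 1 x - e x) := by
      rw [LinearMap.sub_apply, LinearMap.sub_apply]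
      show e x - a₀ x = seqA a₀ 1 x - a₀ x - (seqA a₀ 1 x - e x)
      abel
    rw [h1]
    exact Submodule.sub_mem _ (hs 0 x) (he 1 x)

end General

section Normal

variable {A : Type u} [CommRing A] (I : Ideal A) {P : Type v} [AddCommGroup P] [Module A P]

theorem exists_normal_of_complement [IsAdicComplete I A] [Module.Finite A P]
    [Module.Projective A P] (Q C : Submodule A P) (h1 : Q ⊔ C = ⊤)
    (h2 : Q ⊓ C = I • (⊤ : Submodule A P)) :
    ∃ L T : Submodule A P, IsCompl L T ∧ Q = L ⊔ I • T := by
  haveI : IsAdicComplete I P :=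
    Groth.Agent.Lib.AdicRetract.isAdicComplete_of_finite_projective I P
  have hIQ : I • (⊤ : Submodule A P) ≤ Q := by rw [← h2]; exact inf_le_left
  -- a section of `Q × C → P`
  have hsurj : Function.Surjective (Q.subtype.coprod C.subtype) := by
    intro x
    have hx : x ∈ Q ⊔ C := by rw [h1]; exact Submodule.mem_top
    obtain ⟨q, hq, c, hc, rfl⟩ := Submodule.mem_sup.1 hx
    exact ⟨(⟨q, hq⟩, ⟨c, hc⟩), by simp⟩
  obtain ⟨s, hs⟩ := Module.projective_lifting_property (Q.subtype.coprod C.subtype)
    (LinearMap.id : P →ₗ[A] P) hsurj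
  have hs' : ∀ x, ((s x).1 : P) + ((s x).2 : P) = x := by
    intro x
    have := LinearMap.congr_fun hs x
    simpa using this
  obtain ⟨a₀, ha₀⟩ : ∃ a₀ : Module.End A P, ∀ x, a₀ x = ((s x).1 : P) :=
    ⟨Q.subtype ∘ₗ LinearMap.fst A Q C ∘ₗ s, fun x => rfl⟩
  have hi : ∀ x, a₀ x ∈ Q := fun x => by rw [ha₀]; exact (s x).1.2
  have hii : ∀ x, x - a₀ x ∈ C := fun x => by
    have : x - a₀ x = ((s x).2 : P) := by
      rw [ha₀, sub_eq_iff_eq_add, add_comm]; exact (hs' x).symm
    rw [this]; exact (s x).2.2
  have hiii : ∀ q ∈ Q, q - a₀ q ∈ I • (⊤ : Submodule A P) := by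
    intro q hq
    rw [← h2]
    exact ⟨Submodule.sub_mem _ hq (hi q), hii q⟩
  have h₀ : Small I 1 (a₀ * a₀ - a₀) := by
    intro x
    rw [pow_one]
    have := hiii (a₀ x) (hi x)
    have e : (a₀ * a₀ - a₀) x = -(a₀ x - a₀ (a₀ x)) := by
      rw [LinearMap.sub_apply, Module.End.mul_apply]; abel
    rw [e]
    exact Submodule.neg_mem _ this
  obtain ⟨e, hee, hea⟩ := exists_idem_lift (I := I) a₀ h₀
  have hee' : ∀ x, e (e x) = e x := fun x => LinearMap.congr_fun hee x
  have hea' : ∀ x, e x - a₀ x ∈ I • (⊤ : Submodule A P) := fun x => by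
    have := hea x
    rw [pow_one] at this
    exact this
  have heQ : ∀ x, e x ∈ Q := by
    intro x
    have : e x = a₀ x + (e x - a₀ x) := by abel
    rw [this]
    exact Submodule.add_mem _ (hi x) (hIQ (hea' x))
  refine ⟨LinearMap.range e, LinearMap.ker e, LinearMap.IsIdempotentElem.isCompl hee, ?_⟩
  apply le_antisymm
  · intro q hq
    have hy1 : q - e q ∈ LinearMap.ker e := by
      rw [LinearMap.mem_ker, map_sub, hee', sub_self]
    have hy2 : q - e q ∈ I • (⊤ : Submodule A P) := by
      have : q - e q = (q - a₀ q) - (e q - a₀ q) := by abel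
      rw [this]
      exact Submodule.sub_mem _ (hiii q hq) (hea' q)
    have key : ∀ y ∈ I • (⊤ : Submodule A P), y - e y ∈ I • LinearMap.ker e := by
      intro y hy
      refine Submodule.smul_induction_on hy (fun c hc z _ => ?_) (fun x y hx hy => ?_)
      · have : c • z - e (c • z) = c • (z - e z) := by rw [map_smul, smul_sub]
        rw [this]
        refine Submodule.smul_mem_smul hc ?_
        rw [LinearMap.mem_ker, map_sub, hee', sub_self]
      · have : x + y - e (x + y) = (x - e x) + (y - e y) := by rw [map_add]; abel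
        rw [this]
        exact Submodule.add_mem _ hx hy
    have hy3 := key _ hy2
    rw [LinearMap.mem_ker.1 hy1, sub_zero] at hy3
    have : q = e q + (q - e q) := by abel
    rw [this]
    exact Submodule.add_mem_sup (LinearMap.mem_range_self e q) hy3
  · refine sup_le ?_ ?_
    · rintro _ ⟨x, rfl⟩
      exact heQ x
    · exact (Submodule.smul_mono le_rfl le_top).trans hIQ

end Normal

section Witt

open W4c1extbt610

theorem IV_eq_ker (p : ℕ) [Fact p.Prime] (R : Type u) [CommRing R] :
    IV p R = RingHom.ker (WittVector.constantCoeff : WittVector p R →+* R) := by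
  ext a
  rw [Groth.Agent.Lib.DispBCx.mem_IV_iff, RingHom.mem_ker]
  rfl

theorem main14858 (p : ℕ) [Fact p.Prime] (R : Type u) [CommRing R]
    [IsAdicComplete (Ideal.span {(p : R)}) R]
    (P : Type v) [AddCommGroup P] [Module (WittVector p R) P]
    [Module.Finite (WittVector p R) P] [Module.Projective (WittVector p R) P]
    (Q : Submodule (WittVector p R) P)
    (hQ : ∃ C : Submodule (WittVector p R) P,
      Q ⊔ C = ⊤ ∧ Q ⊓ C = IV p R • (⊤ : Submodule (WittVector p R) P)) :
    ∃ L T : Submodule (WittVector p R) P, IsCompl L T ∧ Q = L ⊔ IV p R • T := by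
  obtain ⟨C, h1, h2⟩ := hQ
  haveI : IsAdicComplete (IV p R) (WittVector p R) := by
    rw [IV_eq_ker]
    exact Groth.Agent.Lib.WittComplete_helper3.witt_complete_I p R
  exact exists_normal_of_complement (IV p R) Q C h1 h2

end Witt

end Groth.Agent.Lib.IdemLiftH1
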