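import Mathlib

open AlgebraicGeometry CategoryTheory Limits TopologicalSpace

namespace Groth.Agent.Lib.ImageFlat

universe u

section alg

def colonIdeal {A : Type*} [CommRing A] (I : Ideal A) (t : A) : Ideal A :=
  Submodule.comap (LinearMap.mulLeft A t) I

lemma mem_colonIdeal {A : Type*} [CommRing A] {I : Ideal A} {t a : A} :
    a ∈ colonIdeal I t ↔ t * a ∈ I := Iff.rfl

lemma map_colonIdeal {A S : Type*} [CommRing A] [CommRing S] [Algebra A S] (s : A)
    [IsLocalization.Away s S] (I : Ideal A) (t : A) :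
    (colonIdeal I t).map (algebraMap A S) =
      colonIdeal (I.map (algebraMap A S)) (algebraMap A S t) := by
  apply le_antisymm
  · refine Ideal.map_le_iff_le_comap.mpr fun a ha => ?_
    rw [Ideal.mem_comap, mem_colonIdeal, ← map_mul]
    exact Ideal.mem_map_of_mem _ (mem_colonIdeal.mp ha)
  · intro b hb
    obtain ⟨a, m, rfl⟩ := IsLocalization.exists_mk'_eq (Submonoid.powers s) b
    rw [mem_colonIdeal, IsLocalization.mul_mk'_eq_mk'_of_mul,
      IsLocalization.mk'_mem_map_algebraMap_iff] at hb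
    obtain ⟨s', hs', h⟩ := hb
    refine (IsLocalization.mk'_mem_map_algebraMap_iff (Submonoid.powers s) S _ a m).mpr
      ⟨s', hs', ?_⟩
    rw [mem_colonIdeal]
    have : t * (s' * a) = s' * (t * a) := by ring
    rw [this]; exact h

end alg

variable {R : Type u} [CommRing R]

/-- The function on `U` pulled back from `r : R`. -/
noncomputable def ρ {Y : Scheme.{u}} (q : Y ⟶ Spec (CommRingCat.of R)) (U : Y.Opens) :
    R →+* Γ(Y, U) :=
  ((Scheme.ΓSpecIso (CommRingCat.of R)).inv ≫ q.appLE ⊤ U (fun _ _ => trivial)).hom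

lemma ρ_res {Y : Scheme.{u}} (q : Y ⟶ Spec (CommRingCat.of R)) {U V : Y.Opens} (h : V ≤ U)
    (r : R) : (Y.presheaf.map (homOfLE h).op).hom (ρ q U r) = ρ q V r := by
  show ((Scheme.ΓSpecIso (CommRingCat.of R)).inv ≫ q.appLE ⊤ U _ ≫
    Y.presheaf.map (homOfLE h).op).hom r = _
  rw [Scheme.Hom.appLE_map]
  rfl

lemma ρ_comp {X Y : Scheme.{u}} (f : X ⟶ Y) (q : Y ⟶ Spec (CommRingCat.of R)) (U : Y.Opens)
    (r : R) : (f.app U).hom (ρ q U r) = ρ (f ≫ q) (f ⁻¹ᵁ U) r := by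
  show ((Scheme.ΓSpecIso (CommRingCat.of R)).inv ≫ q.appLE ⊤ U _ ≫ f.app U).hom r = _
  rw [Scheme.Hom.app_eq_appLE, Scheme.Hom.appLE_comp_appLE]
  rfl

noncomputable def colonSheaf {Y : Scheme.{u}} (K : Y.IdealSheafData)
    (q : Y ⟶ Spec (CommRingCat.of R)) (r : R) : Y.IdealSheafData where
  ideal U := colonIdeal (K.ideal U) (ρ q U.1 r)
  map_ideal_basicOpen U s := by
    haveI := U.2.isLocalization_basicOpen s
    have h := map_colonIdeal (S := Γ(Y, Y.basicOpen s)) s (K.ideal U) (ρ q U.1 r)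
    have h2 : algebraMap Γ(Y, U.1) Γ(Y, Y.basicOpen s) (ρ q U.1 r) = ρ q (Y.basicOpen s) r :=
      ρ_res q (Y.basicOpen_le s) r
    have h3 : Ideal.map (algebraMap Γ(Y, U.1) Γ(Y, Y.basicOpen s)) (K.ideal U) =
        K.ideal (Y.affineBasicOpen s) := K.map_ideal_basicOpen U s
    rw [h2, h3] at h
    exact h

lemma eq_zero_of_flat [IsDomain R] {X : Scheme.{u}} (p : X ⟶ Spec (CommRingCat.of R)) [Flat p]
    (W : X.Opens) (r : R) (hr : r ≠ 0) (b : Γ(X, W)) (hb : ρ p W r * b = 0) : b = 0 := by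
  have key : ∀ x : W, ∃ W' : X.Opens, ∃ (h : W' ≤ W), x.1 ∈ W' ∧
      (X.presheaf.map (homOfLE h).op).hom b = 0 := by
    intro x
    obtain ⟨_, ⟨W', hW', rfl⟩, hxW', hW'W⟩ :=
      X.isBasis_affineOpens.exists_subset_of_mem_open (show x.1 ∈ (W : Set X) from x.2) W.isOpen
    have hle : W' ≤ W := hW'W
    refine ⟨W', hle, hxW', ?_⟩
    have hfl : (p.appLE ⊤ W' (fun _ _ => trivial)).hom.Flat :=
      HasRingHomProperty.appLE @Flat p inferInstance ⟨⊤, isAffineOpen_top _⟩ ⟨W', hW'⟩ _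
    have hfl2 : (ρ p W').Flat :=
      RingHom.Flat.comp (RingHom.Flat.of_bijective
        (ConcreteCategory.bijective_of_isIso (Scheme.ΓSpecIso (CommRingCat.of R)).inv)) hfl
    letI := (ρ p W').toAlgebra
    haveI : Module.Flat R Γ(X, W') := hfl2
    have h1 : ρ p W' r * (X.presheaf.map (homOfLE hle).op).hom b = 0 := by
      rw [← ρ_res p hle r, ← map_mul, hb, map_zero]
    have hreg : IsSMulRegular Γ(X, W') r :=
      Module.IsTorsionFree.isSMulRegular (IsRegular.of_ne_zero hr)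
    apply hreg
    show r • _ = r • (0 : Γ(X, W'))
    rw [smul_zero, Algebra.smul_def]
    exact h1
  choose U' hU' hxU' hres using key
  refine TopCat.Sheaf.eq_of_locally_eq' X.sheaf (fun x : W => U' x) W
    (fun x => homOfLE (hU' x)) ?_ b 0 ?_
  · intro x hx
    exact Opens.mem_iSup.2 ⟨⟨x, hx⟩, hxU' _⟩
  · intro x
    rw [map_zero]
    exact hres x

theorem main (R : Type u) [CommRing R] [IsDedekindDomain R]
    {X Y : Scheme.{u}} (p : X ⟶ Spec (CommRingCat.of R)) (q : Y ⟶ Spec (CommRingCat.of R))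
    (f : X ⟶ Y) (w : f ≫ q = p) [Flat p] : Flat (f.imageι ≫ q) := by
  subst w
  have hcolon : ∀ r : R, r ≠ 0 → colonSheaf f.ker q r ≤ f.ker := by
    intro r hr
    refine (Scheme.IdealSheafData.le_ofIdeals_iff
      (J := fun U ↦ RingHom.ker (f.app U).hom)).mpr fun U a ha => ?_
    have h1 : ρ q U.1 r * a ∈ RingHom.ker (f.app U.1).hom :=
      f.ideal_ker_le U (mem_colonIdeal.mp ha)
    rw [RingHom.mem_ker, map_mul, ρ_comp f q U.1 r] at h1
    exact (RingHom.mem_ker).mpr (eq_zero_of_flat (f ≫ q) (f ⁻¹ᵁ U.1) r hr _ h1)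
  rw [IsZariskiLocalAtSource.iff_of_openCover (P := @Flat) f.ker.subschemeCover.openCover]
  intro (U : Y.affineOpens)
  have e1 : f.ker.subschemeCover.f U ≫ f.ker.subschemeι =
      Spec.map (CommRingCat.ofHom (Ideal.Quotient.mk (f.ker.ideal U))) ≫ U.2.fromSpec :=
    (Scheme.IdealSheafData.subschemeCover_map_subschemeι f.ker U).trans
      (Scheme.IdealSheafData.glueDataObjι_ι f.ker U)
  have e2 : f.ker.subschemeCover.openCover.f U ≫ f.imageι ≫ q =
      Spec.map (CommRingCat.ofHom (Ideal.Quotient.mk (f.ker.ideal U))) ≫ U.2.fromSpec ≫ q :=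
    (Category.assoc _ _ _).symm.trans ((congrArg (· ≫ q) e1).trans (Category.assoc _ _ _))
  refine Eq.mpr (congrArg (fun g => Flat g) e2) ?_
  show Flat (Spec.map (CommRingCat.ofHom (Ideal.Quotient.mk (f.ker.ideal U))) ≫ U.2.fromSpec ≫ q)
  rw [← IsAffineOpen.SpecMap_appLE_fromSpec q (isAffineOpen_top _) U.2 (fun _ _ => trivial),
    ← Spec.map_comp_assoc, IsAffineOpen.fromSpec_top,
    MorphismProperty.cancel_right_of_respectsIso @Flat, HasRingHomProperty.Spec_iff (P := @Flat)]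
  have hbij : Function.Bijective (Scheme.ΓSpecIso (CommRingCat.of R)).inv.hom :=
    ConcreteCategory.bijective_of_isIso _
  rw [← RingHom.Flat.comp_iff_of_bijective_right hbij]
  letI : Algebra R (Γ(Y, U.1) ⧸ f.ker.ideal U) :=
    (((q.appLE ⊤ U.1 (fun _ _ => trivial) ≫
      CommRingCat.ofHom (Ideal.Quotient.mk (f.ker.ideal U))).hom).comp
        (Scheme.ΓSpecIso (CommRingCat.of R)).inv.hom).toAlgebra
  have halg : ∀ r : R, algebraMap R (Γ(Y, U.1) ⧸ f.ker.ideal U) r =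
      Ideal.Quotient.mk _ (ρ q U.1 r) := fun r => rfl
  haveI : Module.IsTorsionFree R (Γ(Y, U.1) ⧸ f.ker.ideal U) := by
    refine ⟨fun r hr => ?_⟩
    have hr0 : r ≠ 0 := hr.ne_zero
    intro z₁ z₂ hz
    have hz' : r • (z₁ - z₂) = 0 := by
      rw [smul_sub]; exact sub_eq_zero.mpr hz
    obtain ⟨a, ha⟩ := Ideal.Quotient.mk_surjective (z₁ - z₂)
    rw [Algebra.smul_def, halg, ← ha, ← map_mul, Ideal.Quotient.eq_zero_iff_mem] at hz'
    have hmem : a ∈ f.ker.ideal U := hcolon r hr0 U (mem_colonIdeal.mpr hz')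
    rw [← sub_eq_zero, ← ha]
    exact Ideal.Quotient.eq_zero_iff_mem.mpr hmem
  show Module.Flat R (Γ(Y, U.1) ⧸ f.ker.ideal U)
  infer_instance

end Groth.Agent.Lib.ImageFlat
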