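import Groth.Agent.Lib.SchImage_helper7
import Groth.Agent.Lib.AlgSpImage_helper7
import Groth.Agent.Lib.EtCharts_helper7
import Groth.Agent.Lib.ImmFppf_helper7
import Groth.Agent.S10531

set_option autoImplicit false
universe u
open CategoryTheory CategoryTheory.Limits AlgebraicGeometry Opposite

namespace Groth.Agent.Lib.ImmDescendH7

open AlgSp Groth.Agent.Lib.AlgSpPoints_helper7 Groth.Agent.Lib.AlgSpTop_helper7
  Groth.Agent.Lib.AlgSpPullback_helper7 Groth.Agent.Lib.AlgSpBasic_helper7
  Groth.Agent.Lib.AlgSpOpenSub_helper7 Groth.Agent.Lib.SchImageH7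
  Groth.Agent.Lib.AlgSpImage_helper7 Groth.Agent.Lib.EtChartsH7 Groth.Agent.Lib.ImmFppfH7

variable {S : Scheme.{u}}

theorem map_yE {X : Sp S} {T T' : Over S} (c : T' ⟶ T) (g : (yon S).obj T ⟶ X) :
    X.obj.map c.op (yE g) = yE ((yon S).map c ≫ g) := by
  have h := yE_symm_map c (yE g)
  rw [Equiv.symm_apply_apply] at h
  rw [h, Equiv.apply_symm_apply]

section

variable {X : Sp S} {R U : Over S} {s t : R ⟶ U} {p : (yon S).obj U ⟶ X}
  (hp : IsPresentation s t p) {Z' R' : Scheme.{u}} (i' : Z' ⟶ U.left)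
  (k : R' ⟶ R.left) (s' t' : R' ⟶ Z') (hs : IsPullback k s' s.left i')
  (ht : IsPullback k t' t.left i')

/-- `Z'` over `S`, included in `U`. -/
abbrev incl : Over.mk (i' ≫ U.hom) ⟶ U := Over.homMk i' rfl

include hs in
theorem hs'' : s' ≫ i' ≫ U.hom = k ≫ R.hom := by
  rw [← Category.assoc, ← hs.w, Category.assoc, Over.w]

include ht in
theorem ht'' : t' ≫ i' ≫ U.hom = k ≫ R.hom := by
  rw [← Category.assoc, ← ht.w, Category.assoc, Over.w]

/-- The restricted relation. -/
abbrev sR : Over.mk (k ≫ R.hom) ⟶ Over.mk (i' ≫ U.hom) := Over.homMk s' (hs'' i' k s' hs)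

abbrev tR : Over.mk (k ≫ R.hom) ⟶ Over.mk (i' ≫ U.hom) := Over.homMk t' (ht'' i' k t' ht)

abbrev kR : Over.mk (k ≫ R.hom) ⟶ R := Over.homMk k rfl

theorem sR_incl : sR i' k s' hs ≫ incl i' = kR k ≫ s := by
  ext
  exact hs.w.symm

theorem tR_incl : tR i' k t' ht ≫ incl i' = kR k ≫ t := by
  ext
  exact ht.w.symm

include hp in
/-- The invariance argument. -/
theorem exists_factor {T : Over S} (ζ : T ⟶ Over.mk (i' ≫ U.hom)) (υ : T ⟶ U)
    (h : (yon S).map υ ≫ p = (yon S).map (ζ ≫ incl i') ≫ p) :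
    ∃ ρ : T ⟶ Over.mk (k ≫ R.hom), ρ ≫ sR i' k s' hs = ζ ∧ ρ ≫ tR i' k t' ht ≫ incl i' = υ := by
  obtain ⟨r, hr⟩ := (yon S).map_surjective (hp.isPullback.lift _ _ h)
  have hr1 : r ≫ t = υ := by
    apply (yon S).map_injective
    rw [Functor.map_comp, hr, hp.isPullback.lift_fst]
  have hr2 : r ≫ s = ζ ≫ incl i' := by
    apply (yon S).map_injective
    rw [Functor.map_comp, hr, hp.isPullback.lift_snd]
  have hr2' : r.left ≫ s.left = ζ.left ≫ i' := congrArg (fun m => m.left) hr2
  let ρl : T.left ⟶ R' := hs.lift r.left ζ.left hr2'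
  have hρ1 : ρl ≫ k = r.left := hs.lift_fst _ _ _
  have hρ2 : ρl ≫ s' = ζ.left := hs.lift_snd _ _ _
  let ρ : T ⟶ Over.mk (k ≫ R.hom) := Over.homMk ρl (by
    show ρl ≫ k ≫ R.hom = T.hom
    rw [← Category.assoc, hρ1, Over.w])
  refine ⟨ρ, ?_, ?_⟩
  · ext
    exact hρ2
  · rw [tR_incl, ← hr1]
    ext
    show ρl ≫ k ≫ t.left = r.left ≫ t.left
    rw [← Category.assoc, hρ1]

include hp in
theorem isPullback_kernel [Mono i'] :
    IsPullback ((yon S).map (tR i' k t' ht)) ((yon S).map (sR i' k s' hs))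
      ((yon S).map (incl i') ≫ p) ((yon S).map (incl i') ≫ p) := by
  haveI : Mono (incl (U := U) i') := by
    have : Mono (incl (U := U) i').left := inferInstanceAs (Mono i')
    exact Over.mono_of_mono_left _
  have w : (yon S).map (tR i' k t' ht) ≫ (yon S).map (incl i') ≫ p =
      (yon S).map (sR i' k s' hs) ≫ (yon S).map (incl i') ≫ p := by
    rw [← Category.assoc, ← Functor.map_comp, tR_incl, ← Category.assoc, ← Functor.map_comp,
      sR_incl, Functor.map_comp, Functor.map_comp, Category.assoc, Category.assoc,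
      hp.isPullback.w]
  refine isPullback_of_forall_yon w ?_
  intro T a b hab
  obtain ⟨α, rfl⟩ := (yon S).map_surjective a
  obtain ⟨β, rfl⟩ := (yon S).map_surjective b
  have h : (yon S).map (α ≫ incl i') ≫ p = (yon S).map (β ≫ incl i') ≫ p := by
    rw [Functor.map_comp, Functor.map_comp, Category.assoc, Category.assoc, hab]
  obtain ⟨ρ, hρ1, hρ2⟩ := exists_factor hp i' k s' t' hs ht β (α ≫ incl i') h
  have hρ3 : ρ ≫ tR i' k t' ht = α := by
    rw [← cancel_mono (incl (U := U) i'), Category.assoc, hρ2]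
  refine ⟨(yon S).map ρ, ⟨?_, ?_⟩, ?_⟩
  · rw [← Functor.map_comp, hρ3]
  · rw [← Functor.map_comp, hρ1]
  · rintro c ⟨hc1, hc2⟩
    obtain ⟨c₀, rfl⟩ := (yon S).map_surjective c
    rw [← Functor.map_comp] at hc1 hc2
    have hc1' : c₀ ≫ tR i' k t' ht = α := (yon S).map_injective hc1
    have hc2' : c₀ ≫ sR i' k s' hs = β := (yon S).map_injective hc2
    congr 1
    have e : c₀ ≫ kR k = ρ ≫ kR k := by
      apply hp.eqvRel.injective
      · rw [Category.assoc, Category.assoc, ← tR_incl i' k t' ht, ← Category.assoc,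
          ← Category.assoc, hc1', hρ3]
      · rw [Category.assoc, Category.assoc, ← sR_incl i' k s' hs, ← Category.assoc,
          ← Category.assoc, hc2', hρ1]
    ext
    apply hs.hom_ext
    · exact congrArg (fun m => m.left) e
    · have e1 := congrArg (fun m => m.left) hc2'
      have e2 := congrArg (fun m => m.left) hρ1
      exact e1.trans e2.symm

include hp hs ht in
/-- The image of an invariant immersion is a subspace whose preimage in the chart is the given
subscheme. -/
theorem isPullback_image [Mono i'] :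
    IsPullback (Sheaf.toImage ((yon S).map (incl i') ≫ p)) ((yon S).map (incl i'))
      (Sheaf.imageι ((yon S).map (incl i') ≫ p)) p := by
  haveI : Mono (incl (U := U) i') := by
    have : Mono (incl (U := U) i').left := inferInstanceAs (Mono i')
    exact Over.mono_of_mono_left _
  haveI : Mono ((yon S).map (incl (U := U) i')) := inferInstance
  refine isPullback_of_forall_yon (Sheaf.toImage_ι _) ?_
  intro T a b hab
  obtain ⟨β, rfl⟩ := (yon S).map_surjective b
  have hy : (Subfunctor.range ((yon S).map (incl i') ≫ p).hom).sieveOfSection (yE a).1 ∈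
      J S T := (yE a).2
  have hya : (yE a).1 = yE ((yon S).map β ≫ p) := by
    rw [← hab, yE_comp]
    rfl
  have hle : (Subfunctor.range ((yon S).map (incl i') ≫ p).hom).sieveOfSection (yE a).1 ≤
      (Subfunctor.range ((yon S).map (incl (U := U) i')).hom).sieveOfSection
        (yE ((yon S).map β)) := by
    intro T' c hc
    obtain ⟨z', hz'⟩ := (show X.obj.map c.op (yE a).1 ∈
      Set.range ((((yon S).map (incl i') ≫ p).hom).app (op T')) from hc)
    obtain ⟨ζ, hζ⟩ := (yon S).map_surjective (yE.symm z')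
    have hz'' : z' = yE ((yon S).map ζ) := by rw [hζ, Equiv.apply_symm_apply]
    rw [hya, map_yE, hz'', ← yE_comp] at hz'
    have h1 := yE.injective hz'
    have h2 : (yon S).map (c ≫ β) ≫ p = (yon S).map (ζ ≫ incl i') ≫ p := by
      rw [Functor.map_comp, Functor.map_comp, Category.assoc, Category.assoc, h1]
    obtain ⟨ρ, -, hρ2⟩ := exists_factor hp i' k s' t' hs ht ζ (c ≫ β) h2
    show ((yon S).obj U).obj.map c.op (yE ((yon S).map β)) ∈
      Set.range ((((yon S).map (incl (U := U) i')).hom).app (op T'))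
    refine ⟨yE ((yon S).map (ρ ≫ tR i' k t' ht)), ?_⟩
    rw [map_yE, ← Functor.map_comp, ← hρ2, ← yE_comp, ← Functor.map_comp, Category.assoc]
  obtain ⟨z, hz⟩ := mem_range_of_sieve ((yon S).map (incl (U := U) i')) (yE ((yon S).map β))
    ((J S).superset_covering hle hy)
  obtain ⟨γ, hγ⟩ := (yon S).map_surjective (yE.symm z)
  have hγ' : (yon S).map γ ≫ (yon S).map (incl i') = (yon S).map β := by
    apply yE.injective
    rw [yE_comp, hγ, Equiv.apply_symm_apply]
    exact hz
  refine ⟨(yon S).map γ, ⟨?_, hγ'⟩, ?_⟩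
  · rw [← cancel_mono (Sheaf.imageι ((yon S).map (incl i') ≫ p)), Category.assoc,
      Sheaf.toImage_ι, ← Category.assoc, hγ', hab]
  · rintro c ⟨-, hc2⟩
    rw [← cancel_mono ((yon S).map (incl (U := U) i')), hc2, hγ']

end

/-- Descent of an invariant immersion along a presentation. -/
theorem exists_subspace (X : Space S) {R U : Over S} (s t : R ⟶ U)
    (p : (yon S).obj U ⟶ X.obj) (hp : IsPresentation s t p)
    {Z' R' : Scheme.{u}} (i' : Z' ⟶ U.left) [IsImmersion i'] (k : R' ⟶ R.left) (s' t' : R' ⟶ Z')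
    (hs : IsPullback k s' s.left i') (ht : IsPullback k t' t.left i') :
    ∃ (Z : Space S) (i : Z ⟶ X) (q : (yon S).obj (Over.mk (i' ≫ U.hom)) ⟶ Z.obj),
      RepWith @IsImmersion i.hom ∧
      IsPullback q ((yon S).map (Over.homMk i' rfl : Over.mk (i' ≫ U.hom) ⟶ U)) i.hom p ∧
      (IsClosedImmersion i' → RepWith @IsClosedImmersion i.hom) ∧
      (IsOpenImmersion i' → RepWith @IsOpenImmersion i.hom) := by
  haveI : Mono i' := inferInstance
  have hker := isPullback_kernel hp i' k s' t' hs ht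
  have hse : Etale (sR i' k s' hs).left :=
    MorphismProperty.of_isPullback (P := @Etale) hs hp.eqvRel.etale_left
  have hss0 : Surjective s.left := hp.surjective.property _ _ _ hp.isPullback
  have hss : Surjective (sR i' k s' hs).left :=
    MorphismProperty.of_isPullback (P := @Surjective) hs hss0
  obtain ⟨hZ, -, -⟩ := isAlgSpace_image X.property ((yon S).map (incl i') ≫ p)
    (tR i' k t' ht) (sR i' k s' hs) hker hse hss
  have sqP := isPullback_image hp i' k s' t' hs ht
  refine ⟨⟨Sheaf.image ((yon S).map (incl i') ≫ p), hZ⟩,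
    ObjectProperty.homMk (Sheaf.imageι ((yon S).map (incl i') ≫ p)),
    Sheaf.toImage ((yon S).map (incl i') ≫ p), ?_, sqP, ?_, ?_⟩
  · exact of_etale_chart isLocalOnBase_fppf_repWith_isImmersion hZ X.property _ U p hp.etale
      hp.surjective _ _ sqP ((repWith_yon_map_iff _ _).2 (inferInstanceAs (IsImmersion i')))
  · intro hc
    exact of_etale_chart
      (isLocalOnBase_fppf_of_fpqc Groth.Agent.Lib.AffDescH7.isLocalOnBase_fpqc_repWith_isClosedImmersion)
      hZ X.property _ U p hp.etale hp.surjective _ _ sqP ((repWith_yon_map_iff _ _).2 hc)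
  · intro ho
    exact of_etale_chart (isLocalOnBase_fppf_of_fpqc (Groth.Agent.S10531.result S))
      hZ X.property _ U p hp.etale hp.surjective _ _ sqP ((repWith_yon_map_iff _ _).2 ho)

end Groth.Agent.Lib.ImmDescendH7
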