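import Mathlib
import Groth.Prelude
import Groth.Agent.Lib.LineImm7_helper5

set_option autoImplicit false
set_option linter.style.haveILetI false
set_option linter.unusedVariables false

universe u

open CategoryTheory CategoryTheory.Limits AlgebraicGeometry TopologicalSpace Opposite

namespace Groth.Agent.Lib.ImmDescentH6

theorem isClosedImmersion_restrict_of_eq {X Z : Scheme.{u}} (h : X ⟶ Z) {A B : Z.Opens}
    (e : A = B) (H : IsClosedImmersion (h ∣_ A)) : IsClosedImmersion (h ∣_ B) := by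
  subst e; exact H

/-- A morphism which is a closed immersion over each member of a family of opens of the target whose
preimages cover the source is an immersion. -/
theorem isImmersion_of_cover {X Z : Scheme.{u}} (h : X ⟶ Z)
    (H : ∀ x : X, ∃ D : Z.Opens, h x ∈ D ∧ IsClosedImmersion (h ∣_ D)) : IsImmersion h := by
  choose D hxD hD using H
  let U : Z.Opens := ⨆ x, D x
  have hpre : h ⁻¹ᵁ U = ⊤ := by
    rw [eq_top_iff]
    intro x _
    exact Opens.mem_iSup.mpr ⟨x, hxD x⟩
  haveI : IsClosedImmersion (h ∣_ U) := by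
    rw [IsZariskiLocalAtTarget.iff_of_iSup_eq_top (P := @IsClosedImmersion)
      (fun x : X => U.ι ⁻¹ᵁ D x) ?_]
    · intro x
      rw [(MorphismProperty.arrow_mk_iso_iff @IsClosedImmersion
        (morphismRestrictRestrict h U (U.ι ⁻¹ᵁ D x)))]
      refine isClosedImmersion_restrict_of_eq h ?_ (hD x)
      rw [Scheme.Hom.image_preimage_eq_opensRange_inf, Scheme.Opens.opensRange_ι]
      exact (inf_eq_right.mpr (le_iSup D x)).symm
    · rw [eq_top_iff]
      intro z _
      obtain ⟨x, hx⟩ := Opens.mem_iSup.mp z.2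
      exact Opens.mem_iSup.mpr ⟨x, hx⟩
  haveI : IsIso (h ⁻¹ᵁ U).ι := by
    rw [hpre]; exact (Scheme.topIso X).isIso_hom
  have hfac : h = inv (h ⁻¹ᵁ U).ι ≫ (h ∣_ U) ≫ U.ι := by
    rw [morphismRestrict_ι, IsIso.inv_hom_id_assoc]
  rw [hfac]
  infer_instance

/-- Ring-level core: finitely many numerators suffice to generate a finite type quotient of a
localization. -/
theorem exists_finset_generating {R A Ac B : Type u} [CommRing R] [CommRing A] [CommRing Ac]
    [CommRing B] (ρ : R →+* A) (res : A →+* Ac) (γ : Ac →+* B) (c : A)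
    (hloc : letI := res.toAlgebra; IsLocalization.Away c Ac)
    (hγ : Function.Surjective γ) (hft : ((γ.comp res).comp ρ).FiniteType) :
    ∃ T : Finset A, ∀ S : Subring Ac, (∀ r, res (ρ r) ∈ S) → (∀ a ∈ T, res a ∈ S) →
      (∀ v, v * res c = 1 → v ∈ S) → ∀ y : B, ∃ s ∈ S, γ s = y := by
  classical
  letI algA : Algebra A Ac := res.toAlgebra
  haveI := hloc
  letI algB : Algebra R B := ((γ.comp res).comp ρ).toAlgebra
  have hft' : Algebra.FiniteType R B := hft
  obtain ⟨H, hH⟩ := hft'.out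
  -- lift the generators
  choose sH hsH using fun h : B => hγ h
  have hnum : ∀ s : Ac, ∃ (a : A) (n : ℕ), s * res c ^ n = res a := by
    intro s
    obtain ⟨⟨a, ⟨_, n, rfl⟩⟩, hs⟩ := IsLocalization.surj (Submonoid.powers c) s
    exact ⟨a, n, by simpa [RingHom.algebraMap_toAlgebra] using hs⟩
  choose num ex hnumex using hnum
  refine ⟨H.image (fun h => num (sH h)), fun S hR hT hinv y => ?_⟩
  have hcu : IsUnit (res c) := IsLocalization.Away.algebraMap_isUnit (S := Ac) c
  obtain ⟨v, hv⟩ := hcu.exists_left_inv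
  have hvS : v ∈ S := hinv v hv
  have hsS : ∀ h ∈ H, sH h ∈ S := by
    intro h hh
    have h1 : sH h = res (num (sH h)) * v ^ ex (sH h) := by
      rw [← hnumex (sH h), mul_assoc, ← mul_pow, mul_comm (res c), hv, one_pow, mul_one]
    rw [h1]
    exact S.mul_mem (hT _ (Finset.mem_image_of_mem _ hh)) (S.pow_mem hvS _)
  let SB : Subalgebra R B :=
    { (S.map γ) with
      algebraMap_mem' := fun r => ⟨res (ρ r), hR r, rfl⟩ }
  have hle : Algebra.adjoin R (H : Set B) ≤ SB := by
    refine Algebra.adjoin_le ?_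
    intro h hh
    exact ⟨sH h, hsS h hh, hsH h⟩
  have hy : y ∈ SB := hle (hH ▸ Algebra.mem_top)
  obtain ⟨s, hs, hsy⟩ := hy
  exact ⟨s, hs, hsy⟩

theorem surjective_comp_of {A B D : CommRingCat.{u}} (a : A ⟶ B) (b : B ⟶ D)
    (ha : Function.Surjective a.hom) (hb : Function.Surjective b.hom) :
    Function.Surjective (a ≫ b).hom := by
  rw [CommRingCat.hom_comp, RingHom.coe_comp]
  exact hb.comp ha

/-- A morphism whose restriction over an affine open `D` has affine source and is surjective on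
sections is a closed immersion over `D`. -/
theorem isClosedImmersion_restrict_of_surjective {X Z : Scheme.{u}} (h : X ⟶ Z) (D : Z.Opens)
    (hD : IsAffineOpen D) (hW : IsAffineOpen (h ⁻¹ᵁ D))
    (hs : Function.Surjective (h.app D).hom) : IsClosedImmersion (h ∣_ D) := by
  haveI : IsAffine ↑D := hD
  haveI : IsAffine ↑(h ⁻¹ᵁ D) := hW
  apply IsClosedImmersion.of_surjective_of_isAffine
  rw [morphismRestrict_appTop]
  have h1 : ∀ D₂ : Z.Opens, D₂ = D → Function.Surjective (h.app D₂).hom := by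
    rintro D₂ rfl; exact hs
  have h2 : Function.Surjective
      (X.presheaf.map (eqToHom (image_morphismRestrict_preimage h D ⊤)).op).hom :=
    (ConcreteCategory.bijective_of_isIso _).surjective
  exact surjective_comp_of _ _ (h1 _ (by simp)) h2

section local_descent

variable {X Z : Scheme.{u}} (g : X ⟶ Z) [IsImmersion g]

/-- Pointwise local descent of an immersion into an affine open. -/
theorem local_descent_pt {O : Z.Opens} (hO : IsAffineOpen O) (R : CommRingCat.{u})
    (ρ : R ⟶ Γ(Z, O))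
    (hft : ∀ (W : X.Opens), IsAffineOpen W → ∀ hW : W ≤ g ⁻¹ᵁ O,
      (ρ ≫ g.appLE O W hW).hom.FiniteType)
    (x : X) (hx : g x ∈ O) :
    ∃ (W : X.Opens) (T : Finset Γ(Z, O)), x ∈ W ∧
      ∀ (Z' : Scheme.{u}) (ψ : Z ⟶ Z') (O' : Z'.Opens) (hO' : IsAffineOpen O')
        (e : ψ ⁻¹ᵁ O' = O) (ρ' : R ⟶ Γ(Z', O')), ρ' ≫ ψ.appLE O' O e.ge = ρ →
        (∀ t ∈ T, t ∈ Set.range (ψ.appLE O' O e.ge).hom) →
        ∃ D' : Z'.Opens, (∀ y ∈ W, (g ≫ ψ) y ∈ D') ∧ IsClosedImmersion ((g ≫ ψ) ∣_ D') := by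
  classical
  obtain ⟨c, hcle, hxc⟩ := hO.exists_basicOpen_le (V := g.coborderRange ⊓ O)
    ⟨g x, ⟨by simpa using! subset_coborder (Set.mem_range_self x), hx⟩⟩ hx
  have hDcO : Z.basicOpen c ≤ O := Z.basicOpen_le c
  have hDc : IsAffineOpen (Z.basicOpen c) := hO.basicOpen c
  obtain ⟨hWaff, hsurj⟩ := Groth.Agent.LineImm.of_isImmersion g (Z.basicOpen c) hDc
    (hcle.trans inf_le_left)
  have hWO : g ⁻¹ᵁ Z.basicOpen c ≤ g ⁻¹ᵁ O := g.preimage_mono hDcO
  have hft1 := hft (g ⁻¹ᵁ Z.basicOpen c) hWaff hWO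
  have hcomp : g.appLE O (g ⁻¹ᵁ Z.basicOpen c) hWO =
      Z.presheaf.map (homOfLE hDcO).op ≫ g.app (Z.basicOpen c) := by
    rw [Scheme.Hom.app_eq_appLE, Scheme.Hom.map_appLE]
  rw [hcomp] at hft1
  obtain ⟨T, hT⟩ := exists_finset_generating ρ.hom (Z.presheaf.map (homOfLE hDcO).op).hom
    (g.app (Z.basicOpen c)).hom c (hO.isLocalization_basicOpen c) hsurj hft1
  refine ⟨g ⁻¹ᵁ Z.basicOpen c, insert c T, hxc, ?_⟩
  intro Z' ψ O' hO' e ρ' hρ hTr
  obtain ⟨c', hc'⟩ := hTr c (Finset.mem_insert_self _ _)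
  have hD'O' : Z'.basicOpen c' ≤ O' := Z'.basicOpen_le c'
  have hpre : ψ ⁻¹ᵁ Z'.basicOpen c' = Z.basicOpen c := by
    have h1 := Scheme.basicOpen_appLE ψ O O' e.ge c'
    rw [hc'] at h1
    rw [h1]
    exact (inf_eq_right.mpr (by rw [← e]; exact ψ.preimage_mono hD'O')).symm
  refine ⟨Z'.basicOpen c', ?_, ?_⟩
  · intro y hy
    have : g y ∈ ψ ⁻¹ᵁ Z'.basicOpen c' := by rw [hpre]; exact hy
    exact this
  · refine isClosedImmersion_restrict_of_surjective (g ≫ ψ) _ (hO'.basicOpen c') ?_ ?_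
    · rw [Scheme.Hom.comp_preimage, hpre]
      exact hWaff
    · rw [Scheme.Hom.comp_app]
      suffices H : ∀ (Q : Z.Opens) (hQ : ψ ⁻¹ᵁ Z'.basicOpen c' = Q),
          Function.Surjective (ψ.appLE (Z'.basicOpen c') Q hQ.ge ≫ g.app Q).hom →
          Function.Surjective (ψ.app (Z'.basicOpen c') ≫ g.app (ψ ⁻¹ᵁ Z'.basicOpen c')).hom by
        refine H _ hpre ?_
        let S : Subring Γ(Z, Z.basicOpen c) :=
          (ψ.appLE (Z'.basicOpen c') (Z.basicOpen c) hpre.ge).hom.range
        have hsq : Z'.presheaf.map (homOfLE hD'O').op ≫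
            ψ.appLE (Z'.basicOpen c') (Z.basicOpen c) hpre.ge =
            ψ.appLE O' O e.ge ≫ Z.presheaf.map (homOfLE hDcO).op := by
          rw [Scheme.Hom.map_appLE, Scheme.Hom.appLE_map]
        have key : ∀ a' : Γ(Z', O'), (Z.presheaf.map (homOfLE hDcO).op).hom
            ((ψ.appLE O' O e.ge).hom a') =
            (ψ.appLE (Z'.basicOpen c') (Z.basicOpen c) hpre.ge).hom
              ((Z'.presheaf.map (homOfLE hD'O').op).hom a') := fun a' =>
          (congr_arg (fun f => f.hom a') hsq).symm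
        have hy := hT S ?_ ?_ ?_
        · intro y
          obtain ⟨s, ⟨s', rfl⟩, hs⟩ := hy y
          exact ⟨s', hs⟩
        · intro r
          have hr : ρ.hom r = (ψ.appLE O' O e.ge).hom (ρ'.hom r) := by
            rw [← hρ]; rfl
          rw [hr, key]
          exact ⟨_, rfl⟩
        · intro a ha
          obtain ⟨a', rfl⟩ := hTr a (Finset.mem_insert_of_mem ha)
          rw [key]
          exact ⟨_, rfl⟩
        · intro v hv
          have hu : IsUnit ((Z'.presheaf.map (homOfLE hD'O').op).hom c') :=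
            Z'.toRingedSpace.isUnit_res_basicOpen c'
          obtain ⟨u, hu'⟩ := hu.exists_left_inv
          have hc : (Z.presheaf.map (homOfLE hDcO).op).hom c =
              (ψ.appLE (Z'.basicOpen c') (Z.basicOpen c) hpre.ge).hom
                ((Z'.presheaf.map (homOfLE hD'O').op).hom c') := by
            have h3 := key c'
            rw [hc'] at h3
            exact h3
          have hv' : v = (ψ.appLE (Z'.basicOpen c') (Z.basicOpen c) hpre.ge).hom u := by
            have h2 : (ψ.appLE (Z'.basicOpen c') (Z.basicOpen c) hpre.ge).hom u *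
                (Z.presheaf.map (homOfLE hDcO).op).hom c = 1 := by
              rw [hc, ← map_mul, hu', map_one]
            calc v = v * ((ψ.appLE (Z'.basicOpen c') (Z.basicOpen c) hpre.ge).hom u *
                  (Z.presheaf.map (homOfLE hDcO).op).hom c) := by rw [h2, mul_one]
              _ = (v * (Z.presheaf.map (homOfLE hDcO).op).hom c) *
                  (ψ.appLE (Z'.basicOpen c') (Z.basicOpen c) hpre.ge).hom u := by ring
              _ = (ψ.appLE (Z'.basicOpen c') (Z.basicOpen c) hpre.ge).hom u := by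
                rw [hv, one_mul]
          rw [hv']
          exact ⟨u, rfl⟩
      rintro Q rfl hs
      rwa [Scheme.Hom.appLE_eq_app] at hs

/-- Local descent of an immersion into an affine open with quasi-compact preimage. -/
theorem local_descent {O : Z.Opens} (hO : IsAffineOpen O) (hc : IsCompact (g ⁻¹ᵁ O : Set X))
    (R : CommRingCat.{u}) (ρ : R ⟶ Γ(Z, O))
    (hft : ∀ (W : X.Opens), IsAffineOpen W → ∀ hW : W ≤ g ⁻¹ᵁ O,
      (ρ ≫ g.appLE O W hW).hom.FiniteType) :
    ∃ T : Finset Γ(Z, O),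
      ∀ (Z' : Scheme.{u}) (ψ : Z ⟶ Z') (O' : Z'.Opens) (hO' : IsAffineOpen O')
        (e : ψ ⁻¹ᵁ O' = O) (ρ' : R ⟶ Γ(Z', O')), ρ' ≫ ψ.appLE O' O e.ge = ρ →
        (∀ t ∈ T, t ∈ Set.range (ψ.appLE O' O e.ge).hom) →
        ∀ y : X, g y ∈ O →
          ∃ D' : Z'.Opens, (g ≫ ψ) y ∈ D' ∧ IsClosedImmersion ((g ≫ ψ) ∣_ D') := by
  classical
  choose W T hxW hWT using fun x : (g ⁻¹ᵁ O : X.Opens) =>
    local_descent_pt g hO R ρ hft x.1 x.2
  obtain ⟨t, ht⟩ := hc.elim_finite_subcover (fun x : (g ⁻¹ᵁ O : X.Opens) => (W x : Set X))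
    (fun x => (W x).isOpen) (fun y hy => Set.mem_iUnion.mpr ⟨⟨y, hy⟩, hxW ⟨y, hy⟩⟩)
  refine ⟨t.biUnion T, ?_⟩
  intro Z' ψ O' hO' e ρ' hρ hTr y hy
  obtain ⟨x, hxt, hyx⟩ : ∃ x ∈ t, y ∈ W x := by
    have := ht hy
    simp only [Set.mem_iUnion] at this
    obtain ⟨x, hxt, hyx⟩ := this
    exact ⟨x, hxt, hyx⟩
  obtain ⟨D', hD'1, hD'2⟩ := hWT x Z' ψ O' hO' e ρ' hρ
    (fun a ha => hTr a (Finset.mem_biUnion.mpr ⟨x, hxt, ha⟩))
  exact ⟨D', hD'1 y hyx, hD'2⟩

end local_descent

end Groth.Agent.Lib.ImmDescentH6
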