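import Mathlib
import Groth.Prelude.Def_RelSpec
import Groth.Prelude.Def_CohB1
import Groth.Agent.Lib.QCAlgMod_helper9

/-!
# The quasi-coherent subalgebra generated by a quasi-coherent submodule

For a quasi-coherent algebra `B` and a morphism `j : E ⟶ B.toModule` from a quasi-coherent module,
`QCAlgSub.subAlg B j` is the subalgebra of `B` generated by (the image of) `E`; it is a
quasi-coherent algebra, of finite type over every affine open when `E` is of finite type.
-/

universe u

open CategoryTheory CategoryTheory.Limits AlgebraicGeometry Opposite TopologicalSpace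
open Groth.Agent.Lib.QCohLoc_helper4 QcqsLoc QCohExtn QCAlgMod

namespace QCAlgSub

/-- A subpresheaf (given by an injective map) of a sheaf of rings, whose image is local, is a
sheaf. -/
theorem isSheaf_of_subRing {Y : TopCat.{u}} {F' F : TopCat.Presheaf CommRingCat.{u} Y}
    (φ : F' ⟶ F) (hF : F.IsSheaf) (hinj : ∀ W : Opens Y, Function.Injective (φ.app (op W)))
    (hloc : ∀ (W : Opens Y) (s : ToType (F.obj (op W))),
      (∀ x ∈ W, ∃ (W' : Opens Y) (h : W' ≤ W), x ∈ W' ∧
        ∃ t, φ.app (op W') t = F.map (homOfLE h).op s) → ∃ t, φ.app (op W) t = s) :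
    F'.IsSheaf := by
  refine (TopCat.Presheaf.isSheaf_iff_isSheafUniqueGluing F').mpr (fun ι U sf hsf => ?_)
  let sf' : ∀ i, ToType (F.obj (op (U i))) := fun i => φ.app (op (U i)) (sf i)
  have nat : ∀ {A B : (Opens Y)ᵒᵖ} (f : A ⟶ B) (x : ToType (F'.obj A)),
      φ.app B (F'.map f x) = F.map f (φ.app A x) := fun f x => NatTrans.naturality_apply φ f x
  have hsf' : TopCat.Presheaf.IsCompatible F U sf' := by
    intro i j
    show F.map _ (φ.app _ (sf i)) = F.map _ (φ.app _ (sf j))
    rw [← nat, ← nat, hsf i j]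
  obtain ⟨s, hs, huniq⟩ := TopCat.Sheaf.existsUnique_gluing ⟨F, hF⟩ U sf' hsf'
  obtain ⟨s₀, hs₀⟩ := hloc (iSup U) s (fun x hx => by
    obtain ⟨i, hi⟩ := Opens.mem_iSup.mp hx
    exact ⟨U i, le_iSup U i, hi, sf i, (hs i).symm⟩)
  refine ⟨s₀, fun i => ?_, fun s₁ hs₁ => ?_⟩
  · apply hinj
    rw [nat, hs₀]
    exact hs i
  · apply hinj
    rw [hs₀]
    apply huniq
    intro i
    show F.map _ (φ.app _ s₁) = φ.app _ (sf i)
    rw [← nat, hs₁ i]

variable {X : Scheme.{u}} (B : RelSpec.QCAlg X)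

/-- Restriction in `B`. -/
abbrev rB {W' W : X.Opens} (h : W' ≤ W) : B.presheaf.obj (op W) →+* B.presheaf.obj (op W') :=
  (B.presheaf.map (homOfLE h).op).hom

theorem rB_rB {W'' W' W : X.Opens} (h' : W'' ≤ W') (h : W' ≤ W) (s : B.presheaf.obj (op W)) :
    rB B h' (rB B h s) = rB B (h'.trans h) s := by
  show ((B.presheaf.map (homOfLE h).op ≫ B.presheaf.map (homOfLE h').op)).hom s = _
  rw [← B.presheaf.map_comp]
  rfl

theorem rB_self {W : X.Opens} (h : W ≤ W) (s : B.presheaf.obj (op W)) : rB B h s = s := by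
  have e : (homOfLE h).op = 𝟙 (op W) := rfl
  show (B.presheaf.map (homOfLE h).op).hom s = s
  rw [e, B.presheaf.map_id]
  rfl

variable {E : X.Modules} (j : E ⟶ B.toModule)

/-- `s` is locally in the subring generated by functions and sections of `E`. -/
def SWmem (W : X.Opens) (s : B.presheaf.obj (op W)) : Prop :=
  ∀ x ∈ W, ∃ (W' : X.Opens) (h : W' ≤ W), x ∈ W' ∧ rB B h s ∈ AW B j W'

theorem SWmem.of_AW {W : X.Opens} {s : B.presheaf.obj (op W)} (hs : s ∈ AW B j W) :
    SWmem B j W s :=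
  fun x hx => ⟨W, le_rfl, hx, by rw [rB_self]; exact hs⟩

theorem SWmem.res {W'' W : X.Opens} (h : W'' ≤ W) {s : B.presheaf.obj (op W)}
    (hs : SWmem B j W s) : SWmem B j W'' (rB B h s) := by
  intro x hx
  obtain ⟨W', h', hxW', hm⟩ := hs x (h hx)
  refine ⟨W' ⊓ W'', inf_le_right, ⟨hxW', hx⟩, ?_⟩
  rw [rB_rB]
  have h3 := AW_res B j (inf_le_left : W' ⊓ W'' ≤ W') hm
  rw [rB_rB] at h3
  exact h3

theorem SWmem.loc {W : X.Opens} (s : B.presheaf.obj (op W))
    (hs : ∀ x ∈ W, ∃ (W' : X.Opens) (h : W' ≤ W), x ∈ W' ∧ SWmem B j W' (rB B h s)) :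
    SWmem B j W s := by
  intro x hx
  obtain ⟨W', h, hxW', hm⟩ := hs x hx
  obtain ⟨W'', h', hxW'', hm'⟩ := hm x hxW'
  refine ⟨W'', h'.trans h, hxW'', ?_⟩
  rw [rB_rB] at hm'
  exact hm'

theorem SWmem.add {W : X.Opens} {s t : B.presheaf.obj (op W)} (hs : SWmem B j W s)
    (ht : SWmem B j W t) : SWmem B j W (s + t) := by
  intro x hx
  obtain ⟨W₁, h₁, hx₁, hm₁⟩ := hs x hx
  obtain ⟨W₂, h₂, hx₂, hm₂⟩ := ht x hx
  refine ⟨W₁ ⊓ W₂, inf_le_left.trans h₁, ⟨hx₁, hx₂⟩, ?_⟩
  have e₁ := AW_res B j (inf_le_left : W₁ ⊓ W₂ ≤ W₁) hm₁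
  have e₂ := AW_res B j (inf_le_right : W₁ ⊓ W₂ ≤ W₂) hm₂
  rw [rB_rB] at e₁ e₂
  rw [map_add]
  exact Subring.add_mem _ e₁ e₂

theorem SWmem.mul {W : X.Opens} {s t : B.presheaf.obj (op W)} (hs : SWmem B j W s)
    (ht : SWmem B j W t) : SWmem B j W (s * t) := by
  intro x hx
  obtain ⟨W₁, h₁, hx₁, hm₁⟩ := hs x hx
  obtain ⟨W₂, h₂, hx₂, hm₂⟩ := ht x hx
  refine ⟨W₁ ⊓ W₂, inf_le_left.trans h₁, ⟨hx₁, hx₂⟩, ?_⟩
  have e₁ := AW_res B j (inf_le_left : W₁ ⊓ W₂ ≤ W₁) hm₁
  have e₂ := AW_res B j (inf_le_right : W₁ ⊓ W₂ ≤ W₂) hm₂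
  rw [rB_rB] at e₁ e₂
  rw [map_mul]
  exact Subring.mul_mem _ e₁ e₂

theorem SWmem.neg {W : X.Opens} {s : B.presheaf.obj (op W)} (hs : SWmem B j W s) :
    SWmem B j W (-s) := by
  intro x hx
  obtain ⟨W₁, h₁, hx₁, hm₁⟩ := hs x hx
  refine ⟨W₁, h₁, hx₁, ?_⟩
  rw [map_neg]
  exact Subring.neg_mem _ hm₁

/-- The sections over `W` of the subalgebra generated by `E`. -/
def SW (W : X.Opens) : Subring (B.presheaf.obj (op W)) where
  carrier := {s | SWmem B j W s}
  mul_mem' := fun hs ht => SWmem.mul B j hs ht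
  one_mem' := SWmem.of_AW B j (Subring.one_mem _)
  add_mem' := fun hs ht => SWmem.add B j hs ht
  zero_mem' := SWmem.of_AW B j (Subring.zero_mem _)
  neg_mem' := fun hs => SWmem.neg B j hs

theorem mem_SW {W : X.Opens} {s : B.presheaf.obj (op W)} : s ∈ SW B j W ↔ SWmem B j W s :=
  Iff.rfl

/-- On an affine open, a section locally in `AW` is in `AW`. -/
theorem AW_of_locally [E.IsQuasicoherent] {U : X.Opens} (hU : IsAffineOpen U)
    (b : B.presheaf.obj (op U)) (hb : SWmem B j U b) : b ∈ AW B j U := by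
  let I : Ideal Γ(X, U) :=
    { carrier := {r | (B.str.app (op U)).hom r * b ∈ AW B j U}
      add_mem' := fun {r s} hr hs => by
        show (B.str.app (op U)).hom (r + s) * b ∈ AW B j U
        rw [map_add, add_mul]
        exact Subring.add_mem _ hr hs
      zero_mem' := by
        show (B.str.app (op U)).hom 0 * b ∈ AW B j U
        rw [map_zero, zero_mul]
        exact Subring.zero_mem _
      smul_mem' := fun c r hr => by
        show (B.str.app (op U)).hom (c • r) * b ∈ AW B j U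
        rw [smul_eq_mul, map_mul, mul_assoc]
        exact Subring.mul_mem _ (str_mem_AW B j c) hr }
  have hI : I = ⊤ := by
    have hspan : Ideal.span (I : Set Γ(X, U)) = ⊤ := by
      rw [← hU.self_le_iSup_basicOpen_iff]
      intro x hxU
      obtain ⟨W', h, hxW', hm⟩ := hb x hxU
      obtain ⟨f, hfle, hxf⟩ := hU.exists_basicOpen_le (V := W') ⟨x, hxW'⟩ hxU
      have h2 : rB B (X.basicOpen_le f) b ∈ AW B j (X.basicOpen f) := by
        have h3 := AW_res B j hfle hm
        rw [rB_rB] at h3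
        exact h3
      obtain ⟨N, hN⟩ := AW_descend B j hU f b h2
      have hfN : f ^ N ∈ I := hN
      have hfN' : f ^ (N + 1) ∈ I := by
        rw [pow_succ']
        exact I.mul_mem_left f hfN
      refine Opens.mem_iSup.mpr ⟨⟨f ^ (N + 1), hfN'⟩, ?_⟩
      show x ∈ X.basicOpen (f ^ (N + 1))
      rw [X.basicOpen_pow f (Nat.succ_pos N)]
      exact hxf
    rwa [Ideal.span_eq] at hspan
  have h1 : (B.str.app (op U)).hom 1 * b ∈ AW B j U := by
    have : (1 : Γ(X, U)) ∈ I := by rw [hI]; trivial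
    exact this
  rwa [map_one, one_mul] at h1

/-- The presheaf of rings `W ↦ SW W`. -/
def subPresheaf : TopCat.Presheaf CommRingCat.{u} X.carrier where
  obj W := CommRingCat.of (SW B j W.unop)
  map {W W'} f := CommRingCat.ofHom ((B.presheaf.map f).hom.restrict (SW B j W.unop)
    (SW B j W'.unop) (fun s hs => SWmem.res B j (leOfHom f.unop) hs))
  map_id W := by
    ext s
    show (B.presheaf.map (𝟙 W)).hom s.1 = s.1
    rw [B.presheaf.map_id]
    rfl
  map_comp f g := by
    ext s
    show (B.presheaf.map (f ≫ g)).hom s.1 = (B.presheaf.map g).hom ((B.presheaf.map f).hom s.1)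
    rw [B.presheaf.map_comp]
    rfl

/-- The inclusion of the presheaf of subrings. -/
def subι : subPresheaf B j ⟶ B.presheaf where
  app W := CommRingCat.ofHom (SW B j W.unop).subtype
  naturality _ _ f := by
    ext s
    rfl

theorem isSheaf_subPresheaf : (subPresheaf B j).IsSheaf := by
  refine isSheaf_of_subRing (subι B j) B.isSheaf (fun W => Subtype.val_injective)
    (fun W s hs => ?_)
  have hsN : SWmem B j W s := by
    apply SWmem.loc
    intro x hx
    obtain ⟨W', h, hxW', t, ht⟩ := hs x hx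
    refine ⟨W', h, hxW', ?_⟩
    have h1 : rB B h s = (subι B j).app (op W') t := ht.symm
    rw [h1]
    exact t.2
  exact ⟨⟨s, hsN⟩, rfl⟩

/-- The structure map of the subalgebra. -/
def subStr : X.presheaf ⟶ subPresheaf B j where
  app W := CommRingCat.ofHom ((B.str.app W).hom.codRestrict (SW B j W.unop)
    (fun r => SWmem.of_AW B j (str_mem_AW B j r)))
  naturality W W' f := by
    ext r
    apply Subtype.ext
    have h := congr_arg (fun ψ => ψ.hom r) (B.str.naturality f)
    simp only [CommRingCat.hom_comp] at h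
    exact h

set_option backward.isDefEq.respectTransparency false in
theorem isQC_sub [E.IsQuasicoherent] : RelSpec.IsQC (subPresheaf B j) (subStr B j) := by
  intro U hU r
  have hl : X.basicOpen r ≤ U := X.basicOpen_le r
  letI alg : Algebra (B.presheaf.obj (op U)) (B.presheaf.obj (op (X.basicOpen r))) :=
    (B.presheaf.map (homOfLE hl).op).hom.toAlgebra
  haveI hloc : IsLocalization.Away ((B.str.app (op U)).hom r)
      (B.presheaf.obj (op (X.basicOpen r))) := B.isQC U hU r
  letI alg' : Algebra ((subPresheaf B j).obj (op U)) ((subPresheaf B j).obj (op (X.basicOpen r))) :=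
    ((subPresheaf B j).map (homOfLE (X.basicOpen_le r)).op).hom.toAlgebra
  refine (isLocalization_iff _ _).mpr ⟨?_, ?_, ?_⟩
  · rintro ⟨_, n, rfl⟩
    have hunit : IsUnit (rX hl r) := X.toRingedSpace.isUnit_res_basicOpen r
    obtain ⟨u, hu⟩ := hunit
    show IsUnit (algebraMap _ _ (((subStr B j).app (op U)).hom r ^ n))
    rw [map_pow]
    refine IsUnit.pow n (isUnit_iff_exists_inv.mpr
      ⟨((subStr B j).app (op (X.basicOpen r))).hom ↑u⁻¹, ?_⟩)
    apply Subtype.ext
    show rB B hl ((B.str.app (op U)).hom r) * (B.str.app (op (X.basicOpen r))).hom ↑u⁻¹ = 1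
    rw [str_res B hl r, ← map_mul, ← hu, Units.mul_inv, map_one]
  · intro z
    have hz : z.1 ∈ AW B j (X.basicOpen r) := AW_of_locally B j (hU.basicOpen r) z.1 z.2
    obtain ⟨n, a, ha, h⟩ := AW_loc B j hU r hz
    refine ⟨(⟨a, SWmem.of_AW B j ha⟩, ⟨((subStr B j).app (op U)).hom r ^ n, n, rfl⟩), ?_⟩
    apply Subtype.ext
    show z.1 * rB B hl ((B.str.app (op U)).hom r ^ n) = rB B hl a
    rw [map_pow, mul_comm]
    exact h
  · intro x y hxy
    have h1 : algebraMap (B.presheaf.obj (op U)) (B.presheaf.obj (op (X.basicOpen r))) x.1 =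
        algebraMap (B.presheaf.obj (op U)) (B.presheaf.obj (op (X.basicOpen r))) y.1 :=
      congrArg Subtype.val hxy
    obtain ⟨n, hn⟩ := IsLocalization.Away.exists_of_eq ((B.str.app (op U)).hom r) h1
    refine ⟨⟨((subStr B j).app (op U)).hom r ^ n, n, rfl⟩, ?_⟩
    apply Subtype.ext
    exact hn

/-- The quasi-coherent subalgebra of `B` generated by `E`. -/
def subAlg [E.IsQuasicoherent] : RelSpec.QCAlg X where
  presheaf := subPresheaf B j
  isSheaf := isSheaf_subPresheaf B j
  str := subStr B j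
  isQC := isQC_sub B j

/-- The inclusion of the subalgebra. -/
def subHom [E.IsQuasicoherent] : subAlg B j ⟶ B :=
  RelSpec.QCAlg.Hom.mk (subι B j) (by ext W r; rfl)

set_option backward.isDefEq.respectTransparency false in
theorem finiteType_sub [E.IsQuasicoherent]
    (hft : SheafOfModules.IsFiniteType (R := X.ringCatSheaf) E) (V : X.affineOpens) :
    ((subStr B j).app (op (V : X.Opens))).hom.FiniteType := by
  classical
  haveI := hft
  haveI hfin : Module.Finite Γ(X, (V : X.Opens)) Γ(E, (V : X.Opens)) :=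
    QCohFT.finite_of_isFiniteType E V.2
  obtain ⟨S, hS⟩ := hfin.fg_top
  letI alg : Algebra Γ(X, (V : X.Opens)) ↥(SW B j (V : X.Opens)) :=
    ((subStr B j).app (op (V : X.Opens))).hom.toAlgebra
  show Algebra.FiniteType Γ(X, (V : X.Opens)) ↥(SW B j (V : X.Opens))
  let gen : Γ(E, (V : X.Opens)) → ↥(SW B j (V : X.Opens)) := fun e =>
    ⟨toB B (ap j V e), SWmem.of_AW B j (j_mem_AW B j e)⟩
  have hgen_add : ∀ a b, gen (a + b) = gen a + gen b := fun a b => Subtype.ext (by
    show toB B (ap j V (a + b)) = toB B (ap j V a) + toB B (ap j V b)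
    rw [map_add])
  have hgen_zero : gen 0 = 0 := Subtype.ext (by
    show toB B (ap j V 0) = 0
    rw [map_zero])
  have hgen_smul : ∀ (c : Γ(X, (V : X.Opens))) (a : Γ(E, (V : X.Opens))),
      gen (c • a) = algebraMap Γ(X, (V : X.Opens)) ↥(SW B j (V : X.Opens)) c * gen a :=
    fun c a => Subtype.ext (by
      show toB B (ap j V (c • a)) = (B.str.app (op (V : X.Opens))).hom c * toB B (ap j V a)
      rw [ap_smul, smul_eq])
  let A : Subalgebra Γ(X, (V : X.Opens)) ↥(SW B j (V : X.Opens)) :=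
    Algebra.adjoin _ (↑(S.image gen) : Set ↥(SW B j (V : X.Opens)))
  have hgenA : ∀ e, gen e ∈ A := by
    intro e
    have he : e ∈ Submodule.span Γ(X, (V : X.Opens)) (S : Set Γ(E, (V : X.Opens))) := by
      rw [hS]; trivial
    induction he using Submodule.span_induction with
    | mem e he =>
      exact Algebra.subset_adjoin (Finset.mem_coe.mpr (Finset.mem_image_of_mem gen he))
    | zero => rw [hgen_zero]; exact Subalgebra.zero_mem _
    | add a b _ _ ha hb => rw [hgen_add]; exact Subalgebra.add_mem _ ha hb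
    | smul c a _ ha =>
      rw [hgen_smul]
      exact Subalgebra.mul_mem _ (Subalgebra.algebraMap_mem _ c) ha
  have key : ∀ x, x ∈ AW B j (V : X.Opens) → ∀ h : x ∈ SW B j (V : X.Opens),
      (⟨x, h⟩ : ↥(SW B j (V : X.Opens))) ∈ A := by
    intro x hx
    have hx' : x ∈ Subring.closure (Set.range (B.str.app (op (V : X.Opens))).hom ∪
      Set.range (fun e : Γ(E, (V : X.Opens)) => toB B (ap j V e))) := hx
    clear hx
    induction hx' using Subring.closure_induction with
    | mem x hx =>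
      intro h
      rcases hx with ⟨r, rfl⟩ | ⟨e, rfl⟩
      · exact Subalgebra.algebraMap_mem A r
      · exact hgenA e
    | zero => intro h; exact Subalgebra.zero_mem A
    | one => intro h; exact Subalgebra.one_mem A
    | add x y hx hy ihx ihy =>
      intro h
      exact Subalgebra.add_mem A (ihx (SWmem.of_AW B j hx)) (ihy (SWmem.of_AW B j hy))
    | neg x hx ih =>
      intro h
      exact Subalgebra.neg_mem A (ih (SWmem.of_AW B j hx))
    | mul x y hx hy ihx ihy =>
      intro h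
      exact Subalgebra.mul_mem A (ihx (SWmem.of_AW B j hx)) (ihy (SWmem.of_AW B j hy))
  exact ⟨⟨S.image gen, eq_top_iff.mpr
    (fun z _ => key z.1 (AW_of_locally B j V.2 z.1 z.2) z.2)⟩⟩

set_option backward.isDefEq.respectTransparency false in
/-- Sectionwise form of EGA I 9.6.6: given a quasi-coherent finite type `E ⟶ B` containing `b`. -/
theorem main_of_sub [E.IsQuasicoherent]
    (hft : SheafOfModules.IsFiniteType (R := X.ringCatSheaf) E)
    (U : X.affineOpens) (b : B.presheaf.obj (op (U : X.Opens)))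
    (hb : ∃ g : Γ(E, (U : X.Opens)), ap j U g = ofB B b) :
    ∃ (B' : RelSpec.QCAlg X) (φ : B' ⟶ B),
      (∀ V : X.Opens, Function.Injective (φ.hom.app (op V)).hom) ∧
      (∀ V : X.affineOpens, (B'.str.app (op (V : X.Opens))).hom.FiniteType) ∧
      b ∈ Set.range (φ.hom.app (op (U : X.Opens))).hom := by
  obtain ⟨g, hg⟩ := hb
  refine ⟨subAlg B j, subHom B j, fun V => Subtype.val_injective,
    fun V => finiteType_sub B j hft V, ?_⟩
  have h1 : toB B (ap j U g) ∈ AW B j (U : X.Opens) := j_mem_AW B j g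
  rw [hg] at h1
  exact ⟨⟨b, SWmem.of_AW B j h1⟩, rfl⟩

/-- S4352. -/
theorem main_qcqs [CompactSpace X] [QuasiSeparatedSpace X]
    (U : X.affineOpens) (b : B.presheaf.obj (op (U : X.Opens))) :
    ∃ (B' : RelSpec.QCAlg X) (φ : B' ⟶ B),
      (∀ V : X.Opens, Function.Injective (φ.hom.app (op V)).hom) ∧
      (∀ V : X.affineOpens, (B'.str.app (op (V : X.Opens))).hom.FiniteType) ∧
      b ∈ Set.range (φ.hom.app (op (U : X.Opens))).hom := by
  haveI := isQuasicoherent_toModule B
  obtain ⟨E, j, _, hE, hft, g, hg⟩ := SubExt.exists_ft_sub_section B.toModule U.2 (ofB B b)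
  haveI := hE
  exact main_of_sub B j hft U b ⟨g, hg⟩

/-- S4351. -/
theorem main_locNoeth
    (hX : ∀ x : X, ∃ U : X.Opens, x ∈ U ∧ TopologicalSpace.NoetherianSpace (U : Set X))
    (U : X.affineOpens) (b : B.presheaf.obj (op (U : X.Opens))) :
    ∃ (B' : RelSpec.QCAlg X) (φ : B' ⟶ B),
      (∀ V : X.Opens, Function.Injective (φ.hom.app (op V)).hom) ∧
      (∀ V : X.affineOpens, (B'.str.app (op (V : X.Opens))).hom.FiniteType) ∧
      b ∈ Set.range (φ.hom.app (op (U : X.Opens))).hom := by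
  haveI := isQuasicoherent_toModule B
  obtain ⟨E, j, _, hE, hft, g, hg⟩ :=
    SubExt.exists_ft_sub_section_locNoeth hX B.toModule U.2 (ofB B b)
  haveI := hE
  exact main_of_sub B j hft U b ⟨g, hg⟩

end QCAlgSub
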