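import Mathlib
import Groth.Prelude
import Groth.Agent.S8255
import Groth.Agent.Lib.ImmDescent_helper6
import Groth.Agent.Lib.QCAlgSub_helper9
import Groth.Agent.Lib.RelSpecBC_helper5

set_option autoImplicit false
set_option linter.style.haveILetI false
set_option linter.unusedVariables false

universe u

open CategoryTheory CategoryTheory.Limits AlgebraicGeometry TopologicalSpace Opposite RelSpec

namespace Groth.Agent.Lib.ImmDescent2H6

variable {S : Scheme.{u}}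

theorem appLE_congr {Z T : Scheme.{u}} {g₁ g₂ : Z ⟶ T} (e : g₁ = g₂) (U : T.Opens) (W : Z.Opens)
    (e₁ : W ≤ g₁ ⁻¹ᵁ U) (e₂ : W ≤ g₂ ⁻¹ᵁ U) : g₁.appLE U W e₁ = g₂.appLE U W e₂ := by
  subst e; rfl

theorem specMap_preimage {A B : QCAlg S} (φ : A ⟶ B) (U : S.Opens) :
    (QCAlg.specMap φ) ⁻¹ᵁ (A.π ⁻¹ᵁ U) = B.π ⁻¹ᵁ U := by
  rw [← Scheme.Hom.comp_preimage, QCAlg.specMap_π]

/-- Naturality of `gammaAff` with respect to `specMap`. -/
theorem specMap_appLE_gammaAff {A B : QCAlg S} (φ : A ⟶ B) (U : S.Opens) (hU : IsAffineOpen U) :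
    (QCAlg.specMap φ).appLE (A.π ⁻¹ᵁ U) (B.π ⁻¹ᵁ U) (specMap_preimage φ U).ge ≫
      B.gammaAff U hU = A.gammaAff U hU ≫ φ.hom.app (op U) := by
  rw [QCAlg.gammaAff, QCAlg.gammaAff, ← Category.assoc, Scheme.Hom.appLE_comp_appLE,
    appLE_congr (QCAlg.ι_specMap U hU φ) _ _ _
      (show (⊤ : (Spec (B.presheaf.obj (op U))).Opens) ≤
        (Spec.map (φ.hom.app (op U)) ≫ A.ι U hU) ⁻¹ᵁ (A.π ⁻¹ᵁ U) from by
          rw [Scheme.Hom.comp_preimage]
          exact le_top.trans (Scheme.Hom.preimage_mono _ (A.top_le_preimage U hU))),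
    ← Scheme.Hom.appLE_comp_appLE _ _ _ ⊤ _ (A.top_le_preimage U hU) le_top, Category.assoc,
    Category.assoc]
  congr 1
  exact Scheme.ΓSpecIso_naturality _

theorem π_app_specMap_appLE {A B : QCAlg S} (φ : A ⟶ B) (U : S.Opens) :
    A.π.app U ≫ (QCAlg.specMap φ).appLE (A.π ⁻¹ᵁ U) (B.π ⁻¹ᵁ U) (specMap_preimage φ U).ge =
      B.π.app U := by
  rw [Scheme.Hom.app_eq_appLE, Scheme.Hom.appLE_comp_appLE, Scheme.Hom.app_eq_appLE]
  exact appLE_congr (QCAlg.specMap_π φ) _ _ _ _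

open Groth.Agent.Lib.ImmDescentH6 QCAlgMod in
/-- **EGA II 5.1.9 / IV 8** (hard direction): an immersion of a finite type `Y`-scheme into a
relative spectrum descends to a quasi-coherent subalgebra of finite type. -/
theorem exists_sub {X Y : Scheme.{u}} [CompactSpace Y] [QuasiSeparatedSpace Y]
    (f : X ⟶ Y) [LocallyOfFiniteType f] [QuasiCompact f]
    (C : QCAlg Y) (g : X ⟶ C.spec) (hg : g ≫ C.π = f) [IsImmersion g] :
    ∃ (C' : QCAlg Y) (φ : C' ⟶ C),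
      (∀ U : Y.Opens, Function.Injective (φ.hom.app (op U))) ∧
      (∀ U : Y.affineOpens, (C'.str.app (op (U : Y.Opens))).hom.FiniteType) ∧
      IsImmersion (g ≫ QCAlg.specMap φ) := by
  classical
  subst hg
  have hloc : ∀ V : Y.affineOpens, ∃ T : Finset Γ(C.spec, C.π ⁻¹ᵁ V.1),
      ∀ (Z' : Scheme.{u}) (ψ : C.spec ⟶ Z') (O' : Z'.Opens) (hO' : IsAffineOpen O')
        (e : ψ ⁻¹ᵁ O' = C.π ⁻¹ᵁ V.1) (ρ' : Γ(Y, V.1) ⟶ Γ(Z', O')),
        ρ' ≫ ψ.appLE O' (C.π ⁻¹ᵁ V.1) e.ge = C.π.app V.1 →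
        (∀ t ∈ T, t ∈ Set.range (ψ.appLE O' (C.π ⁻¹ᵁ V.1) e.ge).hom) →
        ∀ y : X, g y ∈ C.π ⁻¹ᵁ V.1 →
          ∃ D' : Z'.Opens, (g ≫ ψ) y ∈ D' ∧ IsClosedImmersion ((g ≫ ψ) ∣_ D') := by
    intro V
    refine local_descent g (V.2.preimage C.π) ?_ Γ(Y, V.1) (C.π.app V.1) ?_
    · exact (g ≫ C.π).isCompact_preimage V.2.isCompact
    · intro W hW hWle
      have h1 : C.π.app V.1 ≫ g.appLE (C.π ⁻¹ᵁ V.1) W hWle =
          (g ≫ C.π).appLE V.1 W hWle := by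
        rw [Scheme.Hom.app_eq_appLE, Scheme.Hom.appLE_comp_appLE]
      rw [h1]
      exact HasRingHomProperty.appLE (P := @LocallyOfFiniteType) (g ≫ C.π) inferInstance
        ⟨V.1, V.2⟩ ⟨W, hW⟩ hWle
  choose T hT using hloc
  obtain ⟨s, hs⟩ := isCompact_univ.elim_finite_subcover
    (fun V : Y.affineOpens => ((V.1 : Y.Opens) : Set Y)) (fun V => V.1.isOpen) (by
      intro y _
      obtain ⟨_, ⟨V, hV : IsAffineOpen V, rfl⟩, hyV, -⟩ :=
        (Y.isBasis_affineOpens).exists_subset_of_mem_open (Set.mem_univ y) isOpen_univ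
      exact Set.mem_iUnion.mpr ⟨⟨V, hV⟩, hyV⟩)
  let L : List (Σ U : Y.affineOpens, Γ(C.toModule, (U : Y.Opens))) :=
    s.toList.flatMap (fun V => (T V).toList.map
      (fun t => (⟨V, ofB C ((C.gammaAff V.1 V.2).hom t)⟩ :
        Σ U : Y.affineOpens, Γ(C.toModule, (U : Y.Opens)))))
  haveI := QCAlgMod.isQuasicoherent_toModule C
  obtain ⟨E, j, _, hE, hftE, hL⟩ := QCAlgMod.exists_ft_sub_family C.toModule L
  haveI := hE
  refine ⟨QCAlgSub.subAlg C j, QCAlgSub.subHom C j, fun V => Subtype.val_injective,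
    fun V => QCAlgSub.finiteType_sub C j hftE V, ?_⟩
  apply isImmersion_of_cover
  intro x
  obtain ⟨V, hVs, hxV⟩ : ∃ V ∈ s, (g ≫ C.π) x ∈ V.1 := by
    have := hs (Set.mem_univ ((g ≫ C.π) x))
    simp only [Set.mem_iUnion] at this
    obtain ⟨V, hVs, hxV⟩ := this
    exact ⟨V, hVs, hxV⟩
  refine hT V (QCAlgSub.subAlg C j).spec (QCAlg.specMap (QCAlgSub.subHom C j))
    ((QCAlgSub.subAlg C j).π ⁻¹ᵁ V.1) (V.2.preimage (QCAlgSub.subAlg C j).π)
    (specMap_preimage (QCAlgSub.subHom C j) V.1) ((QCAlgSub.subAlg C j).π.app V.1)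
    (π_app_specMap_appLE (QCAlgSub.subHom C j) V.1) ?_ x hxV
  intro t ht
  have hmem : (⟨V, ofB C ((C.gammaAff V.1 V.2).hom t)⟩ :
      Σ U : Y.affineOpens, Γ(C.toModule, (U : Y.Opens))) ∈ L :=
    List.mem_flatMap.mpr ⟨V, Finset.mem_toList.mpr hVs,
      List.mem_map.mpr ⟨t, Finset.mem_toList.mpr ht, rfl⟩⟩
  obtain ⟨gE, hgE⟩ := hL _ hmem
  have h1 : toB C (QCohExtn.ap j V.1 gE) ∈ AW C j V.1 := j_mem_AW C j gE
  rw [hgE] at h1
  let b' : (QCAlgSub.subAlg C j).presheaf.obj (op V.1) :=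
    ⟨(C.gammaAff V.1 V.2).hom t, QCAlgSub.SWmem.of_AW C j h1⟩
  haveI i1 := Groth.Agent.RelSpecBC.isIso_gammaAff (QCAlgSub.subAlg C j) V.1 V.2
  haveI i2 := Groth.Agent.RelSpecBC.isIso_gammaAff C V.1 V.2
  refine ⟨(inv ((QCAlgSub.subAlg C j).gammaAff V.1 V.2)).hom b', ?_⟩
  apply (ConcreteCategory.bijective_of_isIso (C.gammaAff V.1 V.2)).injective
  have h2 := congr_arg (fun ψ => ψ.hom ((inv ((QCAlgSub.subAlg C j).gammaAff V.1 V.2)).hom b'))
    (specMap_appLE_gammaAff (QCAlgSub.subHom C j) V.1 V.2)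
  have h3 : ((QCAlgSub.subAlg C j).gammaAff V.1 V.2).hom
      ((inv ((QCAlgSub.subAlg C j).gammaAff V.1 V.2)).hom b') = b' := by
    rw [← CommRingCat.comp_apply, IsIso.inv_hom_id]
    rfl
  simp only [CommRingCat.hom_comp, RingHom.comp_apply] at h2
  rw [h3] at h2
  exact h2

end Groth.Agent.Lib.ImmDescent2H6
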