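import Mathlib
import Groth.Agent.Lib.TorsorProp_helper7

/-!
# fppf descent of immersions (helper7)
-/

set_option autoImplicit false
set_option backward.isDefEq.respectTransparency false
set_option backward.isDefEq.respectTransparency.types false
universe u
open CategoryTheory CategoryTheory.Limits AlgebraicGeometry MorphismProperty

namespace Groth.Agent.Lib.ImmDescent_helper7

open Groth.Agent.Lib.TorsorProp_helper7

theorem isImmersion_descends_fppf :
    MorphismProperty.DescendsAlong (@IsImmersion : MorphismProperty Scheme.{u})
      (@Surjective ⊓ @Flat ⊓ @LocallyOfFinitePresentation : MorphismProperty Scheme.{u}) := by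
  apply MorphismProperty.DescendsAlong.mk'
  intro X Y Z f g _ hf hg
  haveI : Surjective f := hf.1.1
  haveI : Flat f := hf.1.2
  haveI : LocallyOfFinitePresentation f := hf.2
  haveI : IsImmersion (pullback.fst f g) := hg
  have hopen : IsOpenMap f := f.isOpenMap
  have hr : Set.range (pullback.fst f g) = f ⁻¹' Set.range g := Scheme.Pullback.range_fst f g
  have hcob : f ⁻¹' coborder (Set.range g) = coborder (Set.range (pullback.fst f g)) := by
    rw [hr, coborder_preimage hopen f.continuous]
  have hquot : Topology.IsQuotientMap f := hopen.isQuotientMap f.continuous f.surjective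
  have hW : IsOpen (coborder (Set.range g)) := by
    rw [← hquot.isOpen_preimage, hcob]
    exact (pullback.fst f g).isLocallyClosed_range.isOpen_coborder
  let W : Z.Opens := ⟨coborder (Set.range g), hW⟩
  have hsub : Set.range g ⊆ Set.range W.ι := by
    rw [Scheme.Opens.range_ι]; exact subset_coborder
  let g₀ : Y ⟶ W := IsOpenImmersion.lift W.ι g hsub
  have hg₀ : g₀ ≫ W.ι = g := IsOpenImmersion.lift_fac _ _ _
  suffices IsClosedImmersion g₀ by rw [← hg₀]; infer_instance
  let f' := pullback.snd f W.ι
  have hf' : (@Surjective ⊓ @Flat ⊓ @LocallyOfFinitePresentation : MorphismProperty Scheme.{u}) f' :=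
    MorphismProperty.pullback_snd _ _ hf
  haveI := isClosedImmersion_descends.{u}
  apply MorphismProperty.of_pullback_fst_of_descendsAlong (P := @IsClosedImmersion)
    (Q := @Surjective ⊓ @Flat ⊓ @LocallyOfFinitePresentation) (f := f') (g := g₀) hf'
  have : IsImmersion (pullback.fst f (g₀ ≫ W.ι)) := by rwa [hg₀]
  have himm : IsImmersion (pullback.fst f' g₀ ≫ pullback.fst f W.ι) := by
    rw [← pullbackLeftPullbackSndIso_hom_fst]
    infer_instance
  haveI : IsImmersion (pullback.fst f' g₀) := IsImmersion.of_comp _ (pullback.fst f W.ι)
  have hcl : IsClosed (Set.range g₀) := by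
    convert! isClosed_preimage_val_coborder (s := Set.range g)
    apply Set.image_injective.mpr W.ι.isEmbedding.injective
    rw [← Set.range_comp, ← TopCat.coe_comp, ← Scheme.Hom.comp_base, hg₀]
    exact (Set.image_preimage_eq_of_subset (by simpa using! subset_coborder)).symm
  refine IsClosedImmersion.of_isPreimmersion _ ?_
  rw [Scheme.Pullback.range_fst]
  exact hcl.preimage f'.continuous

end Groth.Agent.Lib.ImmDescent_helper7
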