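import Mathlib

set_option autoImplicit false
set_option linter.style.haveILetI false
set_option linter.unusedSectionVars false

universe v

open CategoryTheory CategoryTheory.Limits Opposite

namespace Groth.Agent.Lib.IndBasicH4

variable {C : Type v} [SmallCategory C] [Abelian C]

instance yoneda_additive : (Ind.yoneda (C := C)).Additive :=
  Functor.additive_of_preserves_binary_products _

lemma map_nsmul_id (k : ℕ) (T : C) :
    (Ind.yoneda (C := C)).map (k • 𝟙 T) = k • 𝟙 (Ind.yoneda.obj T) := by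
  rw [Functor.map_nsmul, CategoryTheory.Functor.map_id]

/-! ### Compactness of representables -/

section Compact

variable (T : C)

/-- Evaluation of the underlying presheaf at `T`. -/
noncomputable abbrev Φ : Ind C ⥤ Type v :=
  Ind.inclusion C ⋙ (evaluation Cᵒᵖ (Type v)).obj (op T)

/-- The Yoneda bijection. -/
noncomputable def e {A : Ind C} (x : (Ind.yoneda (C := C)).obj T ⟶ A) : (Φ T).obj A :=
  yonedaEquiv (Ind.yonedaCompInclusion.inv.app T ≫ (Ind.inclusion C).map x)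

lemma e_nat {A B : Ind C} (x : (Ind.yoneda (C := C)).obj T ⟶ A) (g : A ⟶ B) :
    e T (x ≫ g) = (Φ T).map g (e T x) := by
  unfold e
  rw [Functor.map_comp, ← Category.assoc]
  rfl

lemma e_inj {A : Ind C} : Function.Injective (e T (A := A)) := by
  intro x x' h
  have h1 := yonedaEquiv.injective h
  rw [cancel_epi] at h1
  exact (Ind.inclusion C).map_injective h1

lemma e_surj {A : Ind C} : Function.Surjective (e T (A := A)) := by
  intro u
  refine ⟨(Ind.inclusion C).preimage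
    (Ind.yonedaCompInclusion.hom.app T ≫ yonedaEquiv.symm u), ?_⟩
  unfold e
  rw [Functor.map_preimage, Iso.inv_hom_id_app_assoc, Equiv.apply_symm_apply]

lemma exists_factor {J : Type v} [SmallCategory J] [IsFiltered J] {K : J ⥤ Ind C}
    {c : Cocone K} (hc : IsColimit c) (x : (Ind.yoneda (C := C)).obj T ⟶ c.pt) :
    ∃ (j : J) (xj : (Ind.yoneda (C := C)).obj T ⟶ K.obj j), xj ≫ c.ι.app j = x := by
  have hc' := isColimitOfPreserves (Φ T) hc
  obtain ⟨j, u, hu⟩ := Types.jointly_surjective_of_isColimit hc' (e T x)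
  obtain ⟨xj, rfl⟩ := e_surj T u
  refine ⟨j, xj, e_inj T ?_⟩
  rw [e_nat]
  exact hu

lemma exists_eq_of_comp_eq {J : Type v} [SmallCategory J] [IsFiltered J] {K : J ⥤ Ind C}
    {c : Cocone K} (hc : IsColimit c) {j : J}
    (x x' : (Ind.yoneda (C := C)).obj T ⟶ K.obj j) (h : x ≫ c.ι.app j = x' ≫ c.ι.app j) :
    ∃ (j' : J) (φ : j ⟶ j'), x ≫ K.map φ = x' ≫ K.map φ := by
  have hc' := isColimitOfPreserves (Φ T) hc
  have h' : ((Φ T).mapCocone c).ι.app j (e T x) = ((Φ T).mapCocone c).ι.app j (e T x') := by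
    have := congrArg (e T) h
    rw [e_nat, e_nat] at this
    exact this
  obtain ⟨j', φ, hφ⟩ := (Types.FilteredColimit.isColimit_eq_iff' hc' _ _).mp h'
  refine ⟨j', φ, e_inj T ?_⟩
  rw [e_nat, e_nat]
  exact hφ

end Compact

/-! ### Lifting elements along epimorphisms -/

theorem exists_lift_of_epi {A B : Ind C} (f : A ⟶ B) [Epi f] {T : C}
    (x : (Ind.yoneda (C := C)).obj T ⟶ B) :
    ∃ (T' : C) (π : T' ⟶ T) (_ : Epi π) (x' : (Ind.yoneda (C := C)).obj T' ⟶ A),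
      x' ≫ f = Ind.yoneda.map π ≫ x := by
  obtain ⟨I, _, _, F, G, φ, ⟨i⟩⟩ := Ind.exists_nonempty_arrow_mk_iso_ind_lim (f := f)
  obtain ⟨a, ha⟩ : ∃ a : A ⟶ colimit (F ⋙ Ind.yoneda), a = i.hom.left := ⟨_, rfl⟩
  obtain ⟨b, hb⟩ : ∃ b : B ⟶ colimit (G ⋙ Ind.yoneda), b = i.hom.right := ⟨_, rfl⟩
  obtain ⟨Lφ, hLφ⟩ : ∃ Lφ : colimit (F ⋙ Ind.yoneda) ⟶ colimit (G ⋙ Ind.yoneda),
      Lφ = colimMap (Functor.whiskerRight φ Ind.yoneda) := ⟨_, rfl⟩
  have hw : a ≫ Lφ = f ≫ b := by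
    rw [ha, hb, hLφ]; exact Arrow.w i.hom
  have hia : IsIso i.hom.left := inferInstance
  have hib : IsIso i.hom.right := inferInstance
  haveI : IsIso a := by rw [ha]; exact hia
  haveI : IsIso b := by rw [hb]; exact hib
  have hw' : inv a ≫ f ≫ b = Lφ := by
    rw [← hw, IsIso.inv_hom_id_assoc]
  haveI hepi : Epi Lφ := by
    rw [← hw']; infer_instance
  have hι : ∀ j, colimit.ι (F ⋙ Ind.yoneda) j ≫ Lφ =
      Ind.yoneda.map (φ.app j) ≫ colimit.ι (G ⋙ Ind.yoneda) j := by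
    intro j
    rw [hLφ, ι_colimMap]
    rfl
  obtain ⟨c, hc⟩ : ∃ c : G ⟶ cokernel φ, c = cokernel.π φ := ⟨_, rfl⟩
  obtain ⟨Lc, hLc⟩ : ∃ Lc : colimit (G ⋙ Ind.yoneda) ⟶ colimit (cokernel φ ⋙ Ind.yoneda),
      Lc = colimMap (Functor.whiskerRight c Ind.yoneda) := ⟨_, rfl⟩
  have hι' : ∀ j, colimit.ι (G ⋙ Ind.yoneda) j ≫ Lc =
      Ind.yoneda.map (c.app j) ≫ colimit.ι (cokernel φ ⋙ Ind.yoneda) j := by
    intro j
    rw [hLc, ι_colimMap]
    rfl
  have hφc : ∀ j, φ.app j ≫ c.app j = 0 := by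
    intro j
    rw [← NatTrans.comp_app, hc, cokernel.condition]
    rfl
  have hzero : Lc = 0 := by
    rw [← cancel_epi Lφ, comp_zero]
    apply colimit.hom_ext
    intro j
    rw [reassoc_of% (hι j), hι' j, ← Category.assoc, ← Functor.map_comp, hφc j,
      Functor.map_zero, zero_comp, comp_zero]
  obtain ⟨j, g₀, hg₀⟩ :=
    exists_factor T (colimit.isColimit (G ⋙ Ind.yoneda)) (x ≫ b)
  have hg₀' : g₀ ≫ colimit.ι (G ⋙ Ind.yoneda) j = x ≫ b := hg₀
  have h1 : (g₀ ≫ Ind.yoneda.map (c.app j)) ≫ colimit.ι (cokernel φ ⋙ Ind.yoneda) j =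
      0 ≫ colimit.ι (cokernel φ ⋙ Ind.yoneda) j := by
    rw [Category.assoc, ← hι' j, hzero, comp_zero, comp_zero, zero_comp]
  obtain ⟨j', ψ, hψ⟩ :=
    exists_eq_of_comp_eq T (colimit.isColimit (cokernel φ ⋙ Ind.yoneda)) _ _ h1
  obtain ⟨g, rfl⟩ : ∃ g : T ⟶ G.obj j, Ind.yoneda.map g = g₀ :=
    ⟨Ind.yoneda.preimage g₀, Functor.map_preimage _ _⟩
  have h2 : (g ≫ G.map ψ) ≫ c.app j' = 0 := by
    apply (Ind.yoneda (C := C)).map_injective
    have h3 : (Ind.yoneda.map g ≫ Ind.yoneda.map (c.app j)) ≫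
        Ind.yoneda.map ((cokernel φ).map ψ) = 0 := by
      have := hψ
      rw [zero_comp] at this
      exact this
    rw [Functor.map_zero, Category.assoc, c.naturality, ← Category.assoc, Functor.map_comp,
      Functor.map_comp]
    exact h3
  have hex : (ShortComplex.mk φ c (by rw [hc]; exact cokernel.condition φ)).Exact := by
    subst hc
    exact ShortComplex.exact_cokernel φ
  have hex' := hex.map ((evaluation I C).obj j')
  obtain ⟨T', π, hπ, x₁', hx₁⟩ := hex'.exact_up_to_refinements (g ≫ G.map ψ) h2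
  obtain ⟨x₁, rfl⟩ : ∃ x₁ : T' ⟶ F.obj j', x₁ = x₁' := ⟨x₁', rfl⟩
  have hx₁' : π ≫ g ≫ G.map ψ = x₁ ≫ φ.app j' := hx₁
  refine ⟨T', π, hπ,
    Ind.yoneda.map x₁ ≫ colimit.ι (F ⋙ Ind.yoneda) j' ≫ inv a, ?_⟩
  rw [← cancel_mono b]
  have hwψ : Ind.yoneda.map (G.map ψ) ≫ colimit.ι (G ⋙ Ind.yoneda) j' =
      colimit.ι (G ⋙ Ind.yoneda) j := colimit.w (G ⋙ Ind.yoneda) ψ
  calc ((Ind.yoneda.map x₁ ≫ colimit.ι (F ⋙ Ind.yoneda) j' ≫ inv a) ≫ f) ≫ b
      = Ind.yoneda.map x₁ ≫ colimit.ι (F ⋙ Ind.yoneda) j' ≫ Lφ := by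
        simp only [Category.assoc]; rw [hw']
    _ = Ind.yoneda.map (x₁ ≫ φ.app j') ≫ colimit.ι (G ⋙ Ind.yoneda) j' := by
        rw [hι j', Functor.map_comp, Category.assoc]
    _ = Ind.yoneda.map π ≫ Ind.yoneda.map g ≫
          Ind.yoneda.map (G.map ψ) ≫ colimit.ι (G ⋙ Ind.yoneda) j' := by
        rw [← hx₁', Functor.map_comp, Functor.map_comp]; simp only [Category.assoc]
    _ = (Ind.yoneda.map π ≫ x) ≫ b := by
        rw [hwψ, hg₀', Category.assoc]

/-! ### Detecting zero morphisms and epimorphisms on representable elements -/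

lemma eq_zero_of_elements {A Z : Ind C} (g : A ⟶ Z)
    (h : ∀ (T : C) (x : (Ind.yoneda (C := C)).obj T ⟶ A), x ≫ g = 0) : g = 0 := by
  apply Ind.isSeparating_range_yoneda
  intro G hG x
  obtain ⟨T⟩ := hG
  rw [comp_zero]
  exact h T x

lemma epi_of_lifts {A B : Ind C} (f : A ⟶ B)
    (h : ∀ (T : C) (x : (Ind.yoneda (C := C)).obj T ⟶ B),
      ∃ (T' : C) (π : T' ⟶ T) (_ : Epi π) (x' : (Ind.yoneda (C := C)).obj T' ⟶ A),
        x' ≫ f = Ind.yoneda.map π ≫ x) : Epi f := by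
  apply Preadditive.epi_of_cancel_zero
  intro Z g hg
  apply eq_zero_of_elements
  intro T x
  obtain ⟨T', π, hπ, x', hx'⟩ := h T x
  haveI : Epi ((Ind.yoneda (C := C)).map π) := inferInstance
  rw [← cancel_epi ((Ind.yoneda (C := C)).map π), comp_zero, ← Category.assoc, ← hx',
    Category.assoc, hg, comp_zero]

/-! ### Closure properties of the essential image -/

abbrev Ess (A : Ind C) : Prop := (Ind.yoneda (C := C)).essImage A

lemma ess_iso {A B : Ind C} (e : A ≅ B) (h : Ess A) : Ess B :=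
  Functor.essImage.ofIso e h

lemma ess_obj (X : C) : Ess ((Ind.yoneda (C := C)).obj X) :=
  Functor.obj_mem_essImage _ _

lemma ess_kernel {A B : Ind C} (hA : Ess A) (hB : Ess B) (f : A ⟶ B) : Ess (kernel f) := by
  obtain ⟨X, ⟨eA⟩⟩ := hA
  obtain ⟨Y, ⟨eB⟩⟩ := hB
  obtain ⟨f', hf'⟩ : ∃ f' : X ⟶ Y, Ind.yoneda.map f' = eA.hom ≫ f ≫ eB.inv :=
    ⟨_, Functor.map_preimage _ _⟩
  refine ⟨kernel f', ⟨PreservesKernel.iso Ind.yoneda f' ≪≫ ?_⟩⟩
  exact kernel.mapIso _ _ eA eB (by rw [hf']; simp)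

lemma ess_cokernel {A B : Ind C} (hA : Ess A) (hB : Ess B) (f : A ⟶ B) : Ess (cokernel f) := by
  obtain ⟨X, ⟨eA⟩⟩ := hA
  obtain ⟨Y, ⟨eB⟩⟩ := hB
  obtain ⟨f', hf'⟩ : ∃ f' : X ⟶ Y, Ind.yoneda.map f' = eA.hom ≫ f ≫ eB.inv :=
    ⟨_, Functor.map_preimage _ _⟩
  refine ⟨cokernel f', ⟨PreservesCokernel.iso Ind.yoneda f' ≪≫ ?_⟩⟩
  exact cokernel.mapIso _ _ eA eB (by rw [hf']; simp)

lemma ess_biprod {A B : Ind C} (hA : Ess A) (hB : Ess B) : Ess (A ⊞ B) := by
  obtain ⟨X, ⟨eA⟩⟩ := hA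
  obtain ⟨Y, ⟨eB⟩⟩ := hB
  haveI := preservesBinaryBiproducts_of_preservesBinaryProducts (Ind.yoneda (C := C))
  exact ⟨X ⊞ Y, ⟨Functor.mapBiprod Ind.yoneda X Y ≪≫ biprod.mapIso eA eB⟩⟩

lemma ess_of_epi_mono {Z E W : Ind C} (hZ : Ess Z) (hW : Ess W) (e : Z ⟶ E) [Epi e]
    (m : E ⟶ W) [Mono m] : Ess E := by
  have hK : Ess (kernel (cokernel.π (e ≫ m))) :=
    ess_kernel hW (ess_cokernel hZ hW (e ≫ m)) _
  obtain ⟨u, hu⟩ : ∃ u : E ⟶ kernel (cokernel.π (e ≫ m)),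
      u ≫ kernel.ι (cokernel.π (e ≫ m)) = m :=
    ⟨kernel.lift _ m (by rw [← cancel_epi e, ← Category.assoc, cokernel.condition, comp_zero]),
      kernel.lift_ι _ _ _⟩
  haveI : Mono u := mono_of_mono_fac hu
  haveI : Epi u := by
    have h1 : e ≫ u = Abelian.factorThruImage (e ≫ m) := by
      rw [← cancel_mono (Abelian.image.ι (e ≫ m)), Abelian.image.fac, Category.assoc]
      show e ≫ u ≫ kernel.ι (cokernel.π (e ≫ m)) = _
      rw [hu]
    exact epi_of_epi_fac h1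
  haveI : IsIso u := isIso_of_mono_of_epi u
  exact ess_iso (asIso u).symm hK

/-! ### Extensions -/

theorem ess_of_shortExact (S : ShortComplex (Ind C)) (hS : S.ShortExact)
    (h₁ : Ess S.X₁) (h₃ : Ess S.X₃) : Ess S.X₂ := by
  haveI := hS.mono_f
  haveI := hS.epi_g
  obtain ⟨T, ⟨e⟩⟩ := h₃
  obtain ⟨T', π, hπ, s, hs⟩ := exists_lift_of_epi S.g e.hom
  haveI : Epi ((Ind.yoneda (C := C)).map π) := inferInstance
  obtain ⟨k, hk⟩ : ∃ k : kernel ((Ind.yoneda (C := C)).map π) ⟶ Ind.yoneda.obj T',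
      k = kernel.ι _ := ⟨_, rfl⟩
  have hkπ : k ≫ Ind.yoneda.map π = 0 := by rw [hk, kernel.condition]
  have hks : (k ≫ s) ≫ S.g = 0 := by
    rw [Category.assoc, hs, reassoc_of% hkπ, zero_comp]
  obtain ⟨t, ht⟩ : ∃ t : kernel ((Ind.yoneda (C := C)).map π) ⟶ S.X₁, t ≫ S.f = k ≫ s :=
    ⟨hS.exact.lift _ hks, hS.exact.lift_f _ hks⟩
  obtain ⟨h, hh⟩ : ∃ h : kernel ((Ind.yoneda (C := C)).map π) ⟶ S.X₁ ⊞ Ind.yoneda.obj T',
      h = biprod.lift (-t) k := ⟨_, rfl⟩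
  obtain ⟨g, hg⟩ : ∃ g : S.X₁ ⊞ Ind.yoneda.obj T' ⟶ S.X₂, g = biprod.desc S.f s := ⟨_, rfl⟩
  have hzero : h ≫ g = 0 := by
    rw [hh, hg, biprod.lift_desc, Preadditive.neg_comp, ht, neg_add_cancel]
  have hgdec : g = biprod.fst ≫ S.f + biprod.snd ≫ s := by
    rw [hg]; exact biprod.desc_eq
  have hexact : (ShortComplex.mk h g hzero).Exact := by
    rw [ShortComplex.exact_iff_exact_up_to_refinements]
    intro Z x hx
    dsimp at x hx
    have hx' : x ≫ biprod.fst ≫ S.f + x ≫ biprod.snd ≫ s = 0 := by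
      have : x ≫ g = 0 := hx
      rw [hgdec, Preadditive.comp_add] at this
      exact this
    have hx'' : x ≫ biprod.snd ≫ s = -(x ≫ biprod.fst ≫ S.f) :=
      eq_neg_of_add_eq_zero_right hx'
    have hx2 : (x ≫ biprod.snd) ≫ Ind.yoneda.map π = 0 := by
      rw [← cancel_mono e.hom, zero_comp, Category.assoc, Category.assoc, ← hs,
        reassoc_of% hx'', Preadditive.neg_comp, Category.assoc, Category.assoc, S.zero,
        comp_zero, comp_zero, neg_zero]
    refine ⟨Z, 𝟙 Z, inferInstance, kernel.lift _ (x ≫ biprod.snd) hx2, ?_⟩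
    dsimp
    rw [Category.id_comp]
    have hl : kernel.lift _ (x ≫ biprod.snd) hx2 ≫ k = x ≫ biprod.snd := by
      rw [hk, kernel.lift_ι]
    have e1 : x ≫ biprod.fst = -(kernel.lift _ (x ≫ biprod.snd) hx2 ≫ t) := by
      rw [← cancel_mono S.f, Preadditive.neg_comp]
      simp only [Category.assoc]
      rw [ht, reassoc_of% hl]
      exact eq_neg_of_add_eq_zero_left hx'
    apply biprod.hom_ext
    · rw [hh, Category.assoc, biprod.lift_fst, Preadditive.comp_neg, e1]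
    · rw [hh, Category.assoc, biprod.lift_snd, hl]
  haveI hgepi : Epi g := by
    apply Preadditive.epi_of_cancel_zero
    intro Z c hc
    have h1 : S.f ≫ c = 0 := by
      have : biprod.inl ≫ g ≫ c = 0 := by rw [hc, comp_zero]
      rwa [hg, biprod.inl_desc_assoc] at this
    have h2 : s ≫ c = 0 := by
      have : biprod.inr ≫ g ≫ c = 0 := by rw [hc, comp_zero]
      rwa [hg, biprod.inr_desc_assoc] at this
    have h3 : hS.exact.desc c h1 = 0 := by
      rw [← cancel_epi e.hom, ← cancel_epi ((Ind.yoneda (C := C)).map π), comp_zero, comp_zero,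
        ← Category.assoc, ← hs, Category.assoc, hS.exact.g_desc, h2]
    rw [← hS.exact.g_desc c h1, h3, comp_zero]
  have hcok := hexact.gIsCokernel
  have hK : Ess (kernel ((Ind.yoneda (C := C)).map π)) := ess_kernel (ess_obj _) (ess_obj _) _
  have hB : Ess (S.X₁ ⊞ Ind.yoneda.obj T') := ess_biprod h₁ (ess_obj _)
  exact ess_iso (IsColimit.coconePointUniqueUpToIso (colimit.isColimit _) hcok)
    (ess_cokernel hK hB h)

/-! ### Descending chains of representable subobjects -/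

theorem chain_stabilizes (hart : ∀ X : C, IsArtinianObject X) {W : Ind C}
    (S : ℕ → Subobject W) (hS : Antitone S)
    (hess : ∀ m, Ess ((S m : Subobject W) : Ind C)) :
    ∃ N, ∀ m, N ≤ m → S m = S N := by
  choose Z e using fun m => (hess m)
  have e' : ∀ m, (Ind.yoneda (C := C)).obj (Z m) ≅ ((S m : Subobject W) : Ind C) :=
    fun m => (e m).some
  obtain ⟨g, hg⟩ : ∃ g : ∀ m, Z m ⟶ Z 0, ∀ m, Ind.yoneda.map (g m) =
      (e' m).hom ≫ Subobject.ofLE (S m) (S 0) (hS (Nat.zero_le m)) ≫ (e' 0).inv :=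
    ⟨fun m => Ind.yoneda.preimage _, fun m => Functor.map_preimage _ _⟩
  haveI hmono : ∀ m, Mono (g m) := by
    intro m
    haveI : Mono ((Ind.yoneda (C := C)).map (g m)) := by rw [hg m]; infer_instance
    exact (Ind.yoneda (C := C)).mono_of_mono_map this
  have hr : ∀ m, (e' m).hom ≫ (S m).arrow =
      Ind.yoneda.map (g m) ≫ (e' 0).hom ≫ (S 0).arrow := by
    intro m
    rw [hg m]
    simp only [Category.assoc, Iso.inv_hom_id_assoc, Subobject.ofLE_arrow]
  have hanti : ∀ m m', m ≤ m' → Subobject.mk (g m') ≤ Subobject.mk (g m) := by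
    intro m m' hmm'
    refine Subobject.mk_le_mk_of_comm (Ind.yoneda.preimage
      ((e' m').hom ≫ Subobject.ofLE (S m') (S m) (hS hmm') ≫ (e' m).inv)) ?_
    apply (Ind.yoneda (C := C)).map_injective
    rw [Functor.map_comp, Functor.map_preimage, hg m, hg m']
    simp only [Category.assoc, Iso.inv_hom_id_assoc, Subobject.ofLE_comp_ofLE_assoc]
  haveI := hart (Z 0)
  obtain ⟨N, hN⟩ := antitone_chain_condition_of_isArtinianObject
    (⟨fun m => OrderDual.toDual (Subobject.mk (g m)), fun m m' h => hanti m m' h⟩ :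
      ℕ →o (Subobject (Z 0))ᵒᵈ)
  refine ⟨N, fun m hm => le_antisymm (hS hm) ?_⟩
  have hle : Subobject.mk (g N) ≤ Subobject.mk (g m) := by
    have := hN m hm
    exact le_of_eq (congrArg OrderDual.ofDual this)
  refine Subobject.le_of_comm ((e' N).inv ≫ Ind.yoneda.map (Subobject.ofMkLEMk _ _ hle) ≫
    (e' m).hom) ?_
  rw [Category.assoc, Category.assoc, hr m, ← Functor.map_comp_assoc, Subobject.ofMkLEMk_comp,
    ← hr N, Iso.inv_hom_id_assoc]

end Groth.Agent.Lib.IndBasicH4
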