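import Mathlib
import Groth.Agent.Lib.IndBasic_helper4
import Groth.Agent.Lib.ARSES_helper4

set_option autoImplicit false
set_option linter.style.haveILetI false
set_option linter.unusedSectionVars false

universe v

open CategoryTheory CategoryTheory.Limits Opposite

namespace Groth.Agent.Lib.IndCofH4

open Groth.Agent.Lib.IndBasicH4

section Scalar

variable {D : Type*} [Category D] [Preadditive D]

lemma comp_smul_id {X Y : D} (a : X ⟶ Y) (k : ℕ) : a ≫ (k • 𝟙 Y) = k • a := by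
  rw [Preadditive.comp_nsmul, Category.comp_id]

lemma smul_id_comp {X Y : D} (a : X ⟶ Y) (k : ℕ) : (k • 𝟙 X) ≫ a = k • a := by
  rw [Preadditive.nsmul_comp, Category.id_comp]

lemma smul_id_comp_smul_id (X : D) (j k : ℕ) : (j • 𝟙 X) ≫ (k • 𝟙 X) = (j * k) • 𝟙 X := by
  rw [comp_smul_id, smul_smul, mul_comm]

end Scalar

lemma image_congr {D : Type*} [Category D] {X Y : D} {f g : X ⟶ Y} [HasImage f] [HasImage g]
    (h : f = g) : imageSubobject f = imageSubobject g := by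
  subst h; rfl

lemma smul_mod {M : Type*} [AddCommMonoid M] (a : M) (m k : ℕ) (h : m • a = 0) :
    k • a = (k % m) • a := by
  conv_lhs => rw [← Nat.div_add_mod k m, add_nsmul, mul_nsmul, h, nsmul_zero, zero_add]

lemma exists_pow_smul_eq {M : Type*} [AddCommMonoid M] (n m : ℕ) (hm : 0 < m) (a : M)
    (h : m • a = 0) : ∃ J r : ℕ, n ^ J • a = n ^ (J + 1) • (r • a) := by
  haveI : NeZero m := ⟨hm.ne'⟩
  obtain ⟨x, y, hxy, hf⟩ :=
    Finite.exists_ne_map_eq_of_infinite (fun j : ℕ => ((n : ZMod m)) ^ j)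
  wlog hlt : x < y generalizing x y
  · exact this y x hxy.symm hf.symm (lt_of_le_of_ne (not_lt.mp hlt) hxy.symm)
  have hmod : n ^ x ≡ n ^ y [MOD m] := by
    rw [← ZMod.natCast_eq_natCast_iff]; push_cast; exact hf
  have hmod' : n ^ x % m = n ^ y % m := hmod
  obtain ⟨d, rfl⟩ : ∃ d, y = x + 1 + d := ⟨y - x - 1, by omega⟩
  refine ⟨x, n ^ d, ?_⟩
  rw [smul_mod a m (n ^ x) h, hmod', ← smul_mod a m _ h, pow_add, mul_nsmul']

variable {C : Type v} [SmallCategory C] [Abelian C]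

lemma exists_smul_eq_zero (htor : ∀ X : C, ∃ m : ℕ, 0 < m ∧ m • 𝟙 X = 0) {A : Ind C} {T : C}
    (a : (Ind.yoneda (C := C)).obj T ⟶ A) : ∃ m : ℕ, 0 < m ∧ m • a = 0 := by
  obtain ⟨m, hm, h⟩ := htor T
  refine ⟨m, hm, ?_⟩
  rw [← smul_id_comp a m, ← map_nsmul_id, h, Functor.map_zero, zero_comp]

variable (n : ℕ) (A : Ind C)

/-- The subobject `n^k A[n^(k+1)]` of `A`. -/
noncomputable abbrev V (k : ℕ) : Subobject A :=
  imageSubobject (kernel.ι (n ^ (k + 1) • 𝟙 A) ≫ (n ^ k • 𝟙 A))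

lemma V_arrow_comp (k : ℕ) : (V n A k).arrow ≫ (n ^ 1 • 𝟙 A) = 0 := by
  rw [← cancel_epi (factorThruImageSubobject
    (kernel.ι (n ^ (k + 1) • 𝟙 A) ≫ (n ^ k • 𝟙 A))), comp_zero, ← Category.assoc,
    imageSubobject_arrow_comp, Category.assoc, smul_id_comp_smul_id, ← pow_add, kernel.condition]

lemma V_ess (hA : ∀ j, Ess (kernel (n ^ j • 𝟙 A))) (k : ℕ) :
    Ess ((V n A k : Subobject A) : Ind C) := by
  haveI : Mono (kernel.lift (n ^ 1 • 𝟙 A) (V n A k).arrow (V_arrow_comp n A k)) :=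
    mono_of_mono_fac (kernel.lift_ι _ _ _)
  exact ess_of_epi_mono (hA (k + 1)) (hA 1)
    (factorThruImageSubobject (kernel.ι (n ^ (k + 1) • 𝟙 A) ≫ (n ^ k • 𝟙 A)))
    (kernel.lift (n ^ 1 • 𝟙 A) (V n A k).arrow (V_arrow_comp n A k))

lemma V_succ_le (k : ℕ) : V n A (k + 1) ≤ V n A k := by
  have h0 : (kernel.ι (n ^ (k + 1 + 1) • 𝟙 A) ≫ (n • 𝟙 A)) ≫ (n ^ (k + 1) • 𝟙 A) = 0 := by
    rw [Category.assoc, smul_id_comp_smul_id, ← pow_succ', kernel.condition]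
  have h1 : kernel.ι (n ^ (k + 1 + 1) • 𝟙 A) ≫ (n ^ (k + 1) • 𝟙 A) =
      kernel.lift _ _ h0 ≫ (kernel.ι (n ^ (k + 1) • 𝟙 A) ≫ (n ^ k • 𝟙 A)) := by
    rw [← Category.assoc, kernel.lift_ι, Category.assoc, smul_id_comp_smul_id, ← pow_succ']
  show imageSubobject _ ≤ imageSubobject _
  rw [image_congr h1]
  exact imageSubobject_comp_le _ _

theorem claim (N : ℕ) (hN : ∀ k, N ≤ k → V n A k = V n A N) :
    ∀ (m : ℕ) (T : C) (a : (Ind.yoneda (C := C)).obj T ⟶ A), n ^ m • a = 0 →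
      ∃ (T' : C) (π : T' ⟶ T) (_ : Epi π) (w : (Ind.yoneda (C := C)).obj T' ⟶ A),
        n ^ N • (Ind.yoneda.map π ≫ a) = n ^ (N + 1) • w := by
  intro m
  induction m with
  | zero =>
    intro T a ha
    rw [pow_zero, one_nsmul] at ha
    refine ⟨T, 𝟙 T, inferInstance, 0, ?_⟩
    rw [ha, comp_zero, smul_zero, smul_zero]
  | succ m ih =>
    intro T a ha
    by_cases hmN : m + 1 ≤ N
    · refine ⟨T, 𝟙 T, inferInstance, 0, ?_⟩
      obtain ⟨d, hd⟩ : ∃ d, N = (m + 1) + d := ⟨N - (m + 1), by omega⟩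
      rw [CategoryTheory.Functor.map_id, Category.id_comp, smul_zero, hd, pow_add, mul_comm,
        ← smul_smul, ha, smul_zero]
    · have hNm : N ≤ m := by omega
      have ha' : a ≫ (n ^ (m + 1) • 𝟙 A) = 0 := by rw [comp_smul_id]; exact ha
      obtain ⟨a₁, ha₁⟩ : ∃ a₁ : (Ind.yoneda (C := C)).obj T ⟶ kernel (n ^ (m + 1) • 𝟙 A),
          a₁ ≫ kernel.ι _ = a := ⟨kernel.lift _ a ha', kernel.lift_ι _ _ _⟩
      have hV : V n A m = V n A (m + 1) := by rw [hN m hNm, hN (m + 1) (by omega)]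
      obtain ⟨z₂, hz₂⟩ : ∃ z₂ : (Ind.yoneda (C := C)).obj T ⟶
          ((V n A (m + 1) : Subobject A) : Ind C), z₂ ≫ (V n A (m + 1)).arrow = n ^ m • a := by
        refine ⟨a₁ ≫ factorThruImageSubobject (kernel.ι (n ^ (m + 1) • 𝟙 A) ≫ (n ^ m • 𝟙 A)) ≫
          Subobject.ofLE _ _ (le_of_eq hV), ?_⟩
        rw [Category.assoc, Category.assoc, Subobject.ofLE_arrow, imageSubobject_arrow_comp,
          ← Category.assoc, ha₁, comp_smul_id]
      obtain ⟨T₁, π₁, hπ₁, u, hu⟩ := exists_lift_of_epi (factorThruImageSubobject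
        (kernel.ι (n ^ (m + 1 + 1) • 𝟙 A) ≫ (n ^ (m + 1) • 𝟙 A))) z₂
      obtain ⟨w₁, hw₁⟩ : ∃ w₁ : (Ind.yoneda (C := C)).obj T₁ ⟶ A,
          n ^ (m + 1) • w₁ = n ^ m • (Ind.yoneda.map π₁ ≫ a) := by
        refine ⟨u ≫ kernel.ι _, ?_⟩
        calc n ^ (m + 1) • (u ≫ kernel.ι (n ^ (m + 1 + 1) • 𝟙 A))
            = u ≫ (kernel.ι (n ^ (m + 1 + 1) • 𝟙 A) ≫ (n ^ (m + 1) • 𝟙 A)) := by
              rw [← comp_smul_id, Category.assoc]
          _ = u ≫ (factorThruImageSubobject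
                (kernel.ι (n ^ (m + 1 + 1) • 𝟙 A) ≫ (n ^ (m + 1) • 𝟙 A)) ≫
                (V n A (m + 1)).arrow) := by
              rw [imageSubobject_arrow_comp]
          _ = (Ind.yoneda.map π₁ ≫ z₂) ≫ (V n A (m + 1)).arrow := by
              rw [← hu, Category.assoc]
          _ = n ^ m • (Ind.yoneda.map π₁ ≫ a) := by
              rw [Category.assoc, hz₂, Preadditive.comp_nsmul]
      obtain ⟨a', ha'def⟩ : ∃ a' : (Ind.yoneda (C := C)).obj T₁ ⟶ A,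
          a' = Ind.yoneda.map π₁ ≫ a - n • w₁ := ⟨_, rfl⟩
      have ha'0 : n ^ m • a' = 0 := by
        rw [ha'def, smul_sub, smul_smul, ← pow_succ, hw₁, sub_self]
      obtain ⟨T₂, π₂, hπ₂, w₂, hw₂⟩ := ih T₁ a' ha'0
      haveI := hπ₁
      haveI := hπ₂
      refine ⟨T₂, π₂ ≫ π₁, epi_comp _ _, w₂ + Ind.yoneda.map π₂ ≫ w₁, ?_⟩
      have hdec : Ind.yoneda.map π₁ ≫ a = a' + n • w₁ := by rw [ha'def, sub_add_cancel]
      calc n ^ N • (Ind.yoneda.map (π₂ ≫ π₁) ≫ a)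
          = n ^ N • (Ind.yoneda.map π₂ ≫ a') + n ^ N • (Ind.yoneda.map π₂ ≫ (n • w₁)) := by
            rw [Functor.map_comp, Category.assoc, hdec, Preadditive.comp_add, smul_add]
        _ = n ^ (N + 1) • w₂ + n ^ (N + 1) • (Ind.yoneda.map π₂ ≫ w₁) := by
            rw [hw₂, Preadditive.comp_nsmul, smul_smul, ← pow_succ]
        _ = n ^ (N + 1) • (w₂ + Ind.yoneda.map π₂ ≫ w₁) := by rw [smul_add]

variable (htor : ∀ X : C, ∃ m : ℕ, 0 < m ∧ m • 𝟙 X = 0)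

include htor in
theorem div_all (N : ℕ) (hN : ∀ k, N ≤ k → V n A k = V n A N) :
    ∀ (T : C) (a : (Ind.yoneda (C := C)).obj T ⟶ A),
      ∃ (T' : C) (π : T' ⟶ T) (_ : Epi π) (w : (Ind.yoneda (C := C)).obj T' ⟶ A),
        n ^ N • (Ind.yoneda.map π ≫ a) = n ^ (N + 1) • w := by
  intro T a
  obtain ⟨m, hm, hma⟩ := exists_smul_eq_zero htor a
  obtain ⟨J, r, hJ⟩ := exists_pow_smul_eq n m hm a hma
  obtain ⟨a'', ha''⟩ : ∃ a'' : (Ind.yoneda (C := C)).obj T ⟶ A, a'' = a - n • (r • a) :=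
    ⟨_, rfl⟩
  have h0 : n ^ J • a'' = 0 := by
    rw [ha'', smul_sub, smul_smul, ← pow_succ, hJ, sub_self]
  obtain ⟨T', π, hπ, w', hw'⟩ := claim n A N hN J T a'' h0
  refine ⟨T', π, hπ, w' + Ind.yoneda.map π ≫ (r • a), ?_⟩
  have hdec : a = a'' + n • (r • a) := by rw [ha'', sub_add_cancel]
  calc n ^ N • (Ind.yoneda.map π ≫ a)
      = n ^ N • (Ind.yoneda.map π ≫ a'') + n ^ N • (Ind.yoneda.map π ≫ (n • (r • a))) := by
        conv_lhs => rw [hdec]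
        rw [Preadditive.comp_add, smul_add]
    _ = n ^ (N + 1) • w' + n ^ (N + 1) • (Ind.yoneda.map π ≫ (r • a)) := by
        rw [hw', Preadditive.comp_nsmul, smul_smul, ← pow_succ]
    _ = n ^ (N + 1) • (w' + Ind.yoneda.map π ≫ (r • a)) := by rw [smul_add]

include htor in
theorem div_pow (N : ℕ) (hN : ∀ k, N ≤ k → V n A k = V n A N) (d : ℕ) :
    ∀ (T : C) (a : (Ind.yoneda (C := C)).obj T ⟶ A),
      ∃ (T' : C) (π : T' ⟶ T) (_ : Epi π) (w : (Ind.yoneda (C := C)).obj T' ⟶ A),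
        n ^ N • (Ind.yoneda.map π ≫ a) = n ^ (N + d) • w := by
  induction d with
  | zero =>
    intro T a
    exact ⟨T, 𝟙 T, inferInstance, a, by
      rw [CategoryTheory.Functor.map_id, Category.id_comp, add_zero]⟩
  | succ d ih =>
    intro T a
    obtain ⟨T₁, π₁, hπ₁, w₁, hw₁⟩ := ih T a
    obtain ⟨T₂, π₂, hπ₂, w₂, hw₂⟩ := div_all n A htor N hN T₁ w₁
    haveI := hπ₁
    haveI := hπ₂
    refine ⟨T₂, π₂ ≫ π₁, epi_comp _ _, w₂, ?_⟩
    calc n ^ N • (Ind.yoneda.map (π₂ ≫ π₁) ≫ a)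
        = Ind.yoneda.map π₂ ≫ (n ^ N • (Ind.yoneda.map π₁ ≫ a)) := by
          rw [Functor.map_comp, Category.assoc, Preadditive.comp_nsmul]
      _ = n ^ d • (n ^ N • (Ind.yoneda.map π₂ ≫ w₁)) := by
          rw [hw₁, Preadditive.comp_nsmul, pow_add, mul_comm, ← smul_smul]
      _ = n ^ (N + (d + 1)) • w₂ := by
          rw [hw₂, smul_smul, ← pow_add]
          congr 2
          ring

include htor in
theorem image_stab (N : ℕ) (hN : ∀ k, N ≤ k → V n A k = V n A N) (k : ℕ) (hk : N ≤ k) :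
    imageSubobject (n ^ k • 𝟙 A) = imageSubobject (n ^ N • 𝟙 A) := by
  obtain ⟨d, rfl⟩ : ∃ d, k = N + d := ⟨k - N, by omega⟩
  apply le_antisymm
  · have : n ^ (N + d) • 𝟙 A = (n ^ d • 𝟙 A) ≫ (n ^ N • 𝟙 A) := by
      rw [smul_id_comp_smul_id, ← pow_add, add_comm]
    rw [this]
    exact imageSubobject_comp_le _ _
  · apply ARSESH4.le_image_of_comp_cokernel
    apply eq_zero_of_elements
    intro T a
    obtain ⟨T', π, hπ, w, hw⟩ := div_pow n A htor N hN d T a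
    haveI := hπ
    haveI : Epi ((Ind.yoneda (C := C)).map π) := inferInstance
    rw [← cancel_epi ((Ind.yoneda (C := C)).map π), comp_zero]
    calc Ind.yoneda.map π ≫ a ≫ (n ^ N • 𝟙 A) ≫ cokernel.π (n ^ (N + d) • 𝟙 A)
        = (n ^ N • (Ind.yoneda.map π ≫ a)) ≫ cokernel.π (n ^ (N + d) • 𝟙 A) := by
          rw [← comp_smul_id (Ind.yoneda.map π ≫ a) (n ^ N)]; simp only [Category.assoc]
      _ = w ≫ (n ^ (N + d) • 𝟙 A) ≫ cokernel.π (n ^ (N + d) • 𝟙 A) := by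
          rw [hw, ← comp_smul_id w (n ^ (N + d)), Category.assoc]
      _ = 0 := by rw [cokernel.condition, comp_zero]

variable (hart : ∀ X : C, IsArtinianObject X) (hA : ∀ j, Ess (kernel (n ^ j • 𝟙 A)))

include hart hA in
theorem exists_stab : ∃ N : ℕ, ∀ k, N ≤ k → V n A k = V n A N :=
  chain_stabilizes hart (V n A) (antitone_nat_of_succ_le (V_succ_le n A)) (V_ess n A hA)

include htor hart hA in
theorem coker_ess (d : ℕ) : Ess (cokernel (n ^ d • 𝟙 A)) := by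
  obtain ⟨N, hN⟩ := exists_stab n A hart hA
  have h0 : (kernel.ι (n ^ (N + d) • 𝟙 A) ≫ (n ^ d • 𝟙 A)) ≫ (n ^ N • 𝟙 A) = 0 := by
    rw [Category.assoc, smul_id_comp_smul_id, ← pow_add, add_comm d N, kernel.condition]
  obtain ⟨g, hg⟩ : ∃ g : kernel (n ^ (N + d) • 𝟙 A) ⟶ kernel (n ^ N • 𝟙 A),
      g ≫ kernel.ι _ = kernel.ι _ ≫ (n ^ d • 𝟙 A) := ⟨kernel.lift _ _ h0, kernel.lift_ι _ _ _⟩
  obtain ⟨q, hq⟩ : ∃ q : kernel (n ^ N • 𝟙 A) ⟶ cokernel (n ^ d • 𝟙 A),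
      q = kernel.ι _ ≫ cokernel.π _ := ⟨_, rfl⟩
  have hzero : g ≫ q = 0 := by
    rw [hq, reassoc_of% hg, cokernel.condition, comp_zero]
  have hpow : n ^ (N + d) • 𝟙 A = (n ^ d • 𝟙 A) ≫ (n ^ N • 𝟙 A) := by
    rw [smul_id_comp_smul_id, ← pow_add, add_comm]
  have hexact : (ShortComplex.mk g q hzero).Exact := by
    rw [ShortComplex.exact_iff_exact_up_to_refinements]
    intro Z x hx
    dsimp at x hx
    have hx' : (x ≫ kernel.ι (n ^ N • 𝟙 A)) ≫ cokernel.π (n ^ d • 𝟙 A) = 0 := by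
      rw [Category.assoc, ← hq]; exact hx
    obtain ⟨Z', π, hπ, a, ha⟩ :=
      (ShortComplex.exact_cokernel (n ^ d • 𝟙 A)).exact_up_to_refinements _ hx'
    have ha' : π ≫ x ≫ kernel.ι (n ^ N • 𝟙 A) = a ≫ (n ^ d • 𝟙 A) := ha
    have ha0 : a ≫ (n ^ (N + d) • 𝟙 A) = 0 := by
      rw [hpow, ← Category.assoc, ← ha']
      simp only [Category.assoc]
      rw [kernel.condition, comp_zero, comp_zero]
    refine ⟨Z', π, hπ, kernel.lift _ a ha0, ?_⟩
    dsimp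
    rw [← cancel_mono (kernel.ι (n ^ N • 𝟙 A)), Category.assoc, Category.assoc, hg,
      kernel.lift_ι_assoc, ha']
  haveI hepi : Epi q := by
    apply epi_of_lifts
    intro T x
    obtain ⟨T₁, π₁, hπ₁, a, ha⟩ := exists_lift_of_epi (cokernel.π (n ^ d • 𝟙 A)) x
    obtain ⟨T₂, π₂, hπ₂, w, hw⟩ := div_pow n A htor N hN d T₁ a
    haveI := hπ₁
    haveI := hπ₂
    obtain ⟨a', ha'⟩ : ∃ a' : (Ind.yoneda (C := C)).obj T₂ ⟶ A,
        a' = Ind.yoneda.map π₂ ≫ a - n ^ d • w := ⟨_, rfl⟩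
    have h0' : a' ≫ (n ^ N • 𝟙 A) = 0 := by
      rw [comp_smul_id, ha', smul_sub, hw, smul_smul, ← pow_add, sub_self]
    refine ⟨T₂, π₂ ≫ π₁, epi_comp _ _, kernel.lift _ a' h0', ?_⟩
    have h1 : (n ^ d • w) ≫ cokernel.π (n ^ d • 𝟙 A) = 0 := by
      rw [← comp_smul_id w (n ^ d), Category.assoc, cokernel.condition, comp_zero]
    rw [hq, kernel.lift_ι_assoc, ha', Preadditive.sub_comp, h1, sub_zero, Functor.map_comp,
      Category.assoc, Category.assoc, ha]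
  have hcok := hexact.gIsCokernel
  have e : cokernel g ≅ cokernel (n ^ d • 𝟙 A) :=
    IsColimit.coconePointUniqueUpToIso (colimit.isColimit (parallelPair g 0)) hcok
  exact ess_iso e (ess_cokernel (hA (N + d)) (hA N) g)

end Groth.Agent.Lib.IndCofH4
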