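import Mathlib
import Groth.Agent.Lib.IndBasic_helper4
import Groth.Agent.Lib.IndCof_helper4

set_option autoImplicit false
set_option linter.style.haveILetI false
set_option linter.unusedSectionVars false

universe v

open CategoryTheory CategoryTheory.Limits Opposite

namespace Groth.Agent.Lib.IndCofKerH4

open Groth.Agent.Lib.IndBasicH4 Groth.Agent.Lib.IndCofH4

variable {C : Type v} [SmallCategory C] [Abelian C]

/-- Five-term lemma for the essential image of `Ind.yoneda`. -/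
theorem ess_five {Z₁ Z₂ E Z₃ Z₄ : Ind C} (a : Z₁ ⟶ Z₂) (b : Z₂ ⟶ E) (c : E ⟶ Z₃) (d : Z₃ ⟶ Z₄)
    (wab : a ≫ b = 0) (wbc : b ≫ c = 0) (wcd : c ≫ d = 0)
    (hab : (ShortComplex.mk a b wab).Exact) (hbc : (ShortComplex.mk b c wbc).Exact)
    (hcd : (ShortComplex.mk c d wcd).Exact)
    (h₁ : Ess Z₁) (h₂ : Ess Z₂) (h₃ : Ess Z₃) (h₄ : Ess Z₄) : Ess E := by
  have hb' : Epi (kernel.lift c b wbc) :=
    (ShortComplex.exact_iff_epi_kernel_lift (ShortComplex.mk b c wbc)).1 hbc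
  have hc' : Epi (kernel.lift d c wcd) :=
    (ShortComplex.exact_iff_epi_kernel_lift (ShortComplex.mk c d wcd)).1 hcd
  have wab' : a ≫ kernel.lift c b wbc = 0 := by
    rw [← cancel_mono (kernel.ι c), Category.assoc, kernel.lift_ι, wab, zero_comp]
  have hab' : (ShortComplex.mk a (kernel.lift c b wbc) wab').Exact := by
    rw [ShortComplex.exact_iff_exact_up_to_refinements]
    intro T x hx
    dsimp at x hx
    have hx' : x ≫ b = 0 := by
      rw [← kernel.lift_ι c b wbc, ← Category.assoc, hx, zero_comp]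
    obtain ⟨T', π, hπ, y, hy⟩ := hab.exact_up_to_refinements x hx'
    exact ⟨T', π, hπ, y, hy⟩
  haveI : Epi (ShortComplex.mk a (kernel.lift c b wbc) wab').g := hb'
  have eK : cokernel a ≅ kernel c :=
    IsColimit.coconePointUniqueUpToIso (cokernelIsCokernel a) hab'.gIsCokernel
  have hK : Ess (kernel c) := ess_iso eK (ess_cokernel h₁ h₂ a)
  have hQ : Ess (kernel d) := ess_kernel h₃ h₄ d
  have w : kernel.ι c ≫ kernel.lift d c wcd = 0 := by
    rw [← cancel_mono (kernel.ι d), Category.assoc, kernel.lift_ι, kernel.condition, zero_comp]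
  have hex : (ShortComplex.mk (kernel.ι c) (kernel.lift d c wcd) w).Exact := by
    rw [ShortComplex.exact_iff_exact_up_to_refinements]
    intro T x hx
    dsimp at x hx
    have hx' : x ≫ c = 0 := by
      rw [← kernel.lift_ι d c wcd, ← Category.assoc, hx, zero_comp]
    refine ⟨T, 𝟙 T, inferInstance, kernel.lift c x hx', ?_⟩
    rw [Category.id_comp]
    exact (kernel.lift_ι c x hx').symm
  have hSE : (ShortComplex.mk (kernel.ι c) (kernel.lift d c wcd) w).ShortExact :=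
    ShortComplex.ShortExact.mk' hex (show Mono (kernel.ι c) from inferInstance) hc'
  exact ess_of_shortExact _ hSE hK hQ

theorem ess_of_isLimit {X Y K : Ind C} {g : X ⟶ Y} {i : K ⟶ X} {w : i ≫ g = 0}
    (h : IsLimit (KernelFork.ofι i w)) (hE : Ess (kernel g)) : Ess K := by
  have e : kernel g ≅ K := IsLimit.conePointUniqueUpToIso (kernelIsKernel g) h
  exact ess_iso e hE

theorem ess_kernel_of_isLimit {X Y K : Ind C} {g : X ⟶ Y} {i : K ⟶ X} {w : i ≫ g = 0}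
    (h : IsLimit (KernelFork.ofι i w)) (hK : Ess K) : Ess (kernel g) := by
  have e : kernel g ≅ K := IsLimit.conePointUniqueUpToIso (kernelIsKernel g) h
  exact ess_iso e.symm hK

theorem ess_of_isColimit {X Y Q : Ind C} {g : X ⟶ Y} {p : Y ⟶ Q} {w : g ≫ p = 0}
    (h : IsColimit (CokernelCofork.ofπ p w)) (hE : Ess (cokernel g)) : Ess Q := by
  have e : cokernel g ≅ Q := IsColimit.coconePointUniqueUpToIso (cokernelIsCokernel g) h
  exact ess_iso e hE

theorem ess_of_snake (sn : ShortComplex.SnakeInput (Ind C))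
    (h₁ : Ess sn.L₀.X₁) (h₂ : Ess sn.L₀.X₂) (h₃ : Ess sn.L₃.X₁) (h₄ : Ess sn.L₃.X₂) :
    Ess sn.L₀.X₃ :=
  ess_five sn.L₀.f sn.L₀.g sn.δ sn.L₃.f sn.L₀.zero sn.L₀_g_δ sn.δ_L₃_f sn.L₀_exact
    sn.L₁'_exact sn.L₂'_exact h₁ h₂ h₃ h₄

/-- The `k`-torsion of a kernel. -/
theorem ess_ker_kernel {A B : Ind C} (f : A ⟶ B) (k : ℕ)
    (hA : Ess (kernel (k • 𝟙 A))) (hB : Ess (kernel (k • 𝟙 B))) :
    Ess (kernel (k • 𝟙 (kernel f))) := by
  have w0 : (kernel.ι (k • 𝟙 A) ≫ f) ≫ (k • 𝟙 B) = 0 := by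
    rw [Category.assoc, comp_smul_id f k, ← smul_id_comp f k, ← Category.assoc,
      kernel.condition, zero_comp]
  obtain ⟨fk, hfk⟩ : ∃ fk : kernel (k • 𝟙 A) ⟶ kernel (k • 𝟙 B),
      fk ≫ kernel.ι (k • 𝟙 B) = kernel.ι (k • 𝟙 A) ≫ f :=
    ⟨kernel.lift _ _ w0, kernel.lift_ι _ _ _⟩
  have hfkE : Ess (kernel fk) := ess_kernel hA hB fk
  have hu1 : (kernel.ι (k • 𝟙 (kernel f)) ≫ kernel.ι f) ≫ (k • 𝟙 A) = 0 := by
    rw [Category.assoc, comp_smul_id (kernel.ι f) k, ← smul_id_comp (kernel.ι f) k,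
      ← Category.assoc, kernel.condition, zero_comp]
  obtain ⟨u₀, hu₀⟩ : ∃ u₀ : kernel (k • 𝟙 (kernel f)) ⟶ kernel (k • 𝟙 A),
      u₀ ≫ kernel.ι (k • 𝟙 A) = kernel.ι (k • 𝟙 (kernel f)) ≫ kernel.ι f :=
    ⟨kernel.lift _ _ hu1, kernel.lift_ι _ _ _⟩
  have hu2 : u₀ ≫ fk = 0 := by
    rw [← cancel_mono (kernel.ι (k • 𝟙 B)), Category.assoc, hfk, ← Category.assoc, hu₀,
      Category.assoc, kernel.condition, comp_zero, zero_comp]
  obtain ⟨u, hu⟩ : ∃ u : kernel (k • 𝟙 (kernel f)) ⟶ kernel fk, u ≫ kernel.ι fk = u₀ :=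
    ⟨kernel.lift _ _ hu2, kernel.lift_ι _ _ _⟩
  have hv1 : (kernel.ι fk ≫ kernel.ι (k • 𝟙 A)) ≫ f = 0 := by
    rw [Category.assoc, ← hfk, ← Category.assoc, kernel.condition, zero_comp]
  obtain ⟨v₀, hv₀⟩ : ∃ v₀ : kernel fk ⟶ kernel f,
      v₀ ≫ kernel.ι f = kernel.ι fk ≫ kernel.ι (k • 𝟙 A) :=
    ⟨kernel.lift _ _ hv1, kernel.lift_ι _ _ _⟩
  have hv2 : v₀ ≫ (k • 𝟙 (kernel f)) = 0 := by
    rw [← cancel_mono (kernel.ι f), Category.assoc, smul_id_comp (kernel.ι f) k,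
      ← comp_smul_id (kernel.ι f) k, ← Category.assoc, hv₀, Category.assoc, kernel.condition,
      comp_zero, zero_comp]
  obtain ⟨v, hv⟩ : ∃ v : kernel fk ⟶ kernel (k • 𝟙 (kernel f)),
      v ≫ kernel.ι (k • 𝟙 (kernel f)) = v₀ := ⟨kernel.lift _ _ hv2, kernel.lift_ι _ _ _⟩
  have huv : u ≫ v = 𝟙 _ := by
    rw [← cancel_mono (kernel.ι (k • 𝟙 (kernel f))), ← cancel_mono (kernel.ι f)]
    simp only [Category.assoc, reassoc_of% hv, hv₀, reassoc_of% hu, hu₀, Category.id_comp]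
  have hvu : v ≫ u = 𝟙 _ := by
    rw [← cancel_mono (kernel.ι fk), ← cancel_mono (kernel.ι (k • 𝟙 A))]
    simp only [Category.assoc, reassoc_of% hv, hv₀, reassoc_of% hu, hu₀, Category.id_comp]
  have e : kernel (k • 𝟙 (kernel f)) ≅ kernel fk := ⟨u, v, huv, hvu⟩
  exact ess_iso e.symm hfkE

/-- Multiplication by `k` on a short complex. -/
noncomputable def mulHom (S : ShortComplex (Ind C)) (k : ℕ) : S ⟶ S where
  τ₁ := k • 𝟙 S.X₁
  τ₂ := k • 𝟙 S.X₂
  τ₃ := k • 𝟙 S.X₃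
  comm₁₂ := by rw [smul_id_comp S.f k, comp_smul_id S.f k]
  comm₂₃ := by rw [smul_id_comp S.g k, comp_smul_id S.g k]

/-- The snake input of multiplication by `k` on a short exact sequence. -/
noncomputable def snk (S : ShortComplex (Ind C)) (hS : S.ShortExact) (k : ℕ) :
    ShortComplex.SnakeInput (Ind C) where
  L₀ := kernel (mulHom S k)
  L₁ := S
  L₂ := S
  L₃ := cokernel (mulHom S k)
  v₀₁ := kernel.ι _
  v₁₂ := mulHom S k
  v₂₃ := cokernel.π _
  w₀₂ := kernel.condition _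
  w₁₃ := cokernel.condition _
  h₀ := kernelIsKernel _
  h₃ := cokernelIsCokernel _
  L₁_exact := hS.exact
  epi_L₁_g := hS.epi_g
  L₂_exact := hS.exact
  mono_L₂_f := hS.mono_f

theorem ess_ker_of_ses (S : ShortComplex (Ind C)) (hS : S.ShortExact) (k : ℕ)
    (hk₁ : Ess (kernel (k • 𝟙 S.X₁))) (hk₂ : Ess (kernel (k • 𝟙 S.X₂)))
    (hc₁ : Ess (cokernel (k • 𝟙 S.X₁))) (hc₂ : Ess (cokernel (k • 𝟙 S.X₂))) :
    Ess (kernel (k • 𝟙 S.X₃)) := by
  have h1 : Ess (snk S hS k).L₀.X₁ :=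
    ess_of_isLimit (g := k • 𝟙 S.X₁) (snk S hS k).h₀τ₁ hk₁
  have h2 : Ess (snk S hS k).L₀.X₂ :=
    ess_of_isLimit (g := k • 𝟙 S.X₂) (snk S hS k).h₀τ₂ hk₂
  have h3 : Ess (snk S hS k).L₃.X₁ :=
    ess_of_isColimit (g := k • 𝟙 S.X₁) (snk S hS k).h₃τ₁ hc₁
  have h4 : Ess (snk S hS k).L₃.X₂ :=
    ess_of_isColimit (g := k • 𝟙 S.X₂) (snk S hS k).h₃τ₂ hc₂
  have h5 : Ess (snk S hS k).L₀.X₃ := ess_of_snake _ h1 h2 h3 h4
  exact ess_kernel_of_isLimit (g := k • 𝟙 S.X₃) (snk S hS k).h₀τ₃ h5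

/-- Cofinite type with respect to `n`. -/
abbrev Cof (n : ℕ) (X : Ind C) : Prop := ∀ j : ℕ, Ess (kernel (n ^ j • 𝟙 X))

theorem cof_kernel (n : ℕ) {A B : Ind C} (f : A ⟶ B) (hA : Cof n A) (hB : Cof n B) :
    Cof n (kernel f) :=
  fun j => ess_ker_kernel f (n ^ j) (hA j) (hB j)

theorem cof_of_ses (n : ℕ) (htor : ∀ X : C, ∃ m : ℕ, 0 < m ∧ m • 𝟙 X = 0)
    (hart : ∀ X : C, IsArtinianObject X) (S : ShortComplex (Ind C)) (hS : S.ShortExact)
    (h₁ : Cof n S.X₁) (h₂ : Cof n S.X₂) : Cof n S.X₃ :=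
  fun j => ess_ker_of_ses S hS (n ^ j) (h₁ j) (h₂ j) (coker_ess n S.X₁ htor hart h₁ j)
    (coker_ess n S.X₂ htor hart h₂ j)

theorem ses1_w {A B : Ind C} (f : A ⟶ B) : kernel.ι f ≫ Abelian.factorThruImage f = 0 := by
  rw [← cancel_mono (Abelian.image.ι f), Category.assoc, Abelian.image.fac, kernel.condition,
    zero_comp]

theorem ses1 {A B : Ind C} (f : A ⟶ B) :
    (ShortComplex.mk (kernel.ι f) (Abelian.factorThruImage f) (ses1_w f)).ShortExact := by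
  have hex1 : (ShortComplex.mk (kernel.ι f) (Abelian.factorThruImage f) (ses1_w f)).Exact := by
    rw [ShortComplex.exact_iff_exact_up_to_refinements]
    intro T x hx
    dsimp at x hx
    have hx' : x ≫ f = 0 := by
      have h := Abelian.image.fac f
      rw [← h, ← Category.assoc, hx, zero_comp]
    refine ⟨T, 𝟙 T, inferInstance, kernel.lift f x hx', ?_⟩
    rw [Category.id_comp]
    exact (kernel.lift_ι f x hx').symm
  exact ShortComplex.ShortExact.mk' hex1 (show Mono (kernel.ι f) from inferInstance)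
      (show Epi (Abelian.factorThruImage f) from inferInstance)

theorem ses2_w {A B : Ind C} (f : A ⟶ B) : Abelian.image.ι f ≫ cokernel.π f = 0 :=
  kernel.condition _

theorem ses2 {A B : Ind C} (f : A ⟶ B) :
    (ShortComplex.mk (Abelian.image.ι f) (cokernel.π f) (ses2_w f)).ShortExact := by
  have hex2 : (ShortComplex.mk (Abelian.image.ι f) (cokernel.π f) (ses2_w f)).Exact :=
    ShortComplex.exact_kernel (cokernel.π f)
  exact ShortComplex.ShortExact.mk' hex2 (show Mono (Abelian.image.ι f) from inferInstance)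
      (show Epi (cokernel.π f) from inferInstance)

theorem cof_ker_coker (n : ℕ) (htor : ∀ X : C, ∃ m : ℕ, 0 < m ∧ m • 𝟙 X = 0)
    (hart : ∀ X : C, IsArtinianObject X) {A B : Ind C} (f : A ⟶ B)
    (hA : Cof n A) (hB : Cof n B) : Cof n (kernel f) ∧ Cof n (cokernel f) := by
  have hK : Cof n (kernel f) := cof_kernel n f hA hB
  refine ⟨hK, ?_⟩
  have hI := cof_of_ses n htor hart
    (ShortComplex.mk (kernel.ι f) (Abelian.factorThruImage f) (ses1_w f)) (ses1 f) hK hA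
  have hQ := cof_of_ses n htor hart
    (ShortComplex.mk (Abelian.image.ι f) (cokernel.π f) (ses2_w f)) (ses2 f) hI hB
  exact hQ

theorem ess_ker_congr {X : Ind C} {a b : ℕ} (h : a = b) (H : Ess (kernel (a • 𝟙 X))) :
    Ess (kernel (b • 𝟙 X)) := by
  subst h
  exact H

theorem cof_ker_coker_one (n : ℕ) (htor : ∀ X : C, ∃ m : ℕ, 0 < m ∧ m • 𝟙 X = 0)
    (hart : ∀ X : C, IsArtinianObject X) {A B : Ind C} (f : A ⟶ B)
    (hA : Cof n A) (hB : Cof n B) :
    Ess (kernel (n • 𝟙 (kernel f))) ∧ Ess (kernel (n • 𝟙 (cokernel f))) :=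
  ⟨ess_ker_congr (pow_one n) ((cof_ker_coker n htor hart f hA hB).1 1),
    ess_ker_congr (pow_one n) ((cof_ker_coker n htor hart f hA hB).2 1)⟩

end Groth.Agent.Lib.IndCofKerH4
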