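import Groth.Agent.Lib.ConstrNF_lead
import Groth.Agent.Lib.GenFlatHom_lead
import Groth.Statements.S5395

/-! # Ind-constructible sets in Jacobson spaces contain closed points; products of rational points (lead) -/

set_option backward.isDefEq.respectTransparency false
set_option backward.isDefEq.respectTransparency.types false
set_option linter.unusedSimpArgs false
set_option linter.unusedVariables false
set_option linter.unusedSectionVars false
set_option linter.style.longLine false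
set_option linter.style.haveILetI false
set_option linter.unnecessarySimpa false
set_option maxHeartbeats 800000

universe u

open CategoryTheory CategoryTheory.Limits MonoidalCategory CartesianMonoidalCategory MonObj GrpObj
  AlgebraicGeometry Opposite Topology TopologicalSpace

namespace Groth.Agent.Lib.IndConsPt

open Groth.Agent.Lib.ConstrNF

theorem FinLC.exists_lc_mem {X : Type*} [TopologicalSpace X] {s : Set X} (hs : FinLC s) {x : X}
    (hx : x ∈ s) : ∃ L : Set X, L ⊆ s ∧ IsLocallyClosed L ∧ x ∈ L := by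
  induction hs with
  | empty => exact absurd hx (Set.notMem_empty x)
  | @union s' L hs' hL ih =>
    rcases hx with hx | hx
    · obtain ⟨L', h1, h2, h3⟩ := ih hx
      exact ⟨L', h1.trans Set.subset_union_left, h2, h3⟩
    · exact ⟨L, Set.subset_union_right, hL, hx⟩

/-- every point of an ind-constructible set lies in a locally closed subset of it -/
theorem exists_lc_of_ind {X : Type*} [TopologicalSpace X] {E : Set X}
    (hE : ProCons.IsIndConstructible E) {x : X} (hx : x ∈ E) :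
    ∃ L : Set X, L ⊆ E ∧ IsLocallyClosed L ∧ x ∈ L := by
  obtain ⟨U, hU, hxU, S, hS, hES⟩ := hE x
  have hxE : (⟨x, hxU⟩ : ↥U) ∈ (Subtype.val ⁻¹' E : Set ↥U) := hx
  rw [hES] at hxE
  obtain ⟨T, hTS, hxT⟩ := hxE
  obtain ⟨V, hV, hVo, hVc⟩ := hS T hTS ⟨x, hxU⟩
  have hxV : (⟨x, hxU⟩ : ↥U) ∈ V := mem_of_mem_nhds hV
  obtain ⟨L₀, hL₀sub, hL₀lc, hxL₀⟩ :=
    FinLC.exists_lc_mem (finLC_of_isConstructible hVc) (x := (⟨⟨x, hxU⟩, hxV⟩ : ↥V)) hxT
  refine ⟨Subtype.val '' (Subtype.val '' L₀), ?_, ?_, ?_⟩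
  · rintro _ ⟨_, ⟨l, hl, rfl⟩, rfl⟩
    have h1 : (l : ↥U) ∈ T := hL₀sub hl
    have h2 : (l : ↥U) ∈ ⋃₀ S := ⟨T, hTS, h1⟩
    rw [← hES] at h2
    exact h2
  · refine IsLocallyClosed.image ?_ IsInducing.subtypeVal ?_
    · refine IsLocallyClosed.image hL₀lc IsInducing.subtypeVal ?_
      rw [Subtype.range_coe]
      exact hVo.isLocallyClosed
    · rw [Subtype.range_coe]
      exact hU.isLocallyClosed
  · exact ⟨⟨x, hxU⟩, ⟨⟨⟨x, hxU⟩, hxV⟩, hxL₀, rfl⟩, rfl⟩

theorem main5395 (k : Type u) [Field k] (G : Over (Spec (CommRingCat.of k))) [GrpObj G]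
    [LocallyOfFiniteType G.hom] (A B : Set G.left) (hA : ProCons.IsIndConstructible A)
    (hB : ProCons.IsIndConstructible B)
    (z : G.left) (hz : IsClosed ({z} : Set G.left))
    (hzAB : z ∈ μ[G].left.base '' {w : ↥(G ⊗ G).left | (fst G G).left.base w ∈ A ∧ (snd G G).left.base w ∈ B}) :
    ∃ w : ↥(G ⊗ G).left, IsClosed ({w} : Set ↥(G ⊗ G).left) ∧ (fst G G).left.base w ∈ A ∧ (snd G G).left.base w ∈ B ∧
      μ[G].left.base w = z := by
  obtain ⟨w₀, ⟨hw₀A, hw₀B⟩, hw₀z⟩ := hzAB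
  obtain ⟨LA, hLAsub, hLAlc, hLAx⟩ := exists_lc_of_ind hA hw₀A
  obtain ⟨LB, hLBsub, hLBlc, hLBx⟩ := exists_lc_of_ind hB hw₀B
  have hpb : IsPullback (fst G G).left (snd G G).left G.hom G.hom :=
    (Groth.Agent.Lib.GenFlatHom.isPullback_fst_snd G G).map (Over.forget _)
  haveI : LocallyOfFiniteType (fst G G).left :=
    MorphismProperty.of_isPullback (P := @LocallyOfFiniteType) hpb.flip inferInstance
  haveI : LocallyOfFiniteType (G ⊗ G).hom := by
    rw [← Over.w (fst G G)]; infer_instance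
  haveI : JacobsonSpace ↥(Spec (CommRingCat.of k)) := inferInstance
  haveI : JacobsonSpace ↥(G ⊗ G).left := LocallyOfFiniteType.jacobsonSpace (G ⊗ G).hom
  have hZlc : IsLocallyClosed ((fst G G).left.base ⁻¹' LA ∩ (snd G G).left.base ⁻¹' LB ∩
      μ[G].left.base ⁻¹' {z}) :=
    ((hLAlc.preimage (fst G G).left.continuous).inter
      (hLBlc.preimage (snd G G).left.continuous)).inter
      (hz.preimage μ[G].left.continuous).isLocallyClosed
  have hZne : ((fst G G).left.base ⁻¹' LA ∩ (snd G G).left.base ⁻¹' LB ∩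
      μ[G].left.base ⁻¹' {z}).Nonempty := ⟨w₀, ⟨hLAx, hLBx⟩, hw₀z⟩
  obtain ⟨w, ⟨⟨hwA, hwB⟩, hwz⟩, hwcl⟩ := nonempty_inter_closedPoints hZne hZlc
  exact ⟨w, hwcl, hLAsub hwA, hLBsub hwB, hwz⟩

end Groth.Agent.Lib.IndConsPt
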