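import Mathlib
import Groth.Agent.Lib.IndBasic_helper4
import Groth.Agent.Lib.IndCof_helper4
import Groth.Agent.Lib.IndCofKer_helper4

set_option autoImplicit false
set_option linter.style.haveILetI false
set_option linter.unusedSectionVars false

universe v

open CategoryTheory CategoryTheory.Limits Opposite

namespace Groth.Agent.Lib.IndDivH4

open Groth.Agent.Lib.IndBasicH4 Groth.Agent.Lib.IndCofH4 Groth.Agent.Lib.IndCofKerH4

variable {C : Type v} [SmallCategory C] [Abelian C]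

/-! ### Factorisation calculus -/

lemma factors_iff' {A T : Ind C} (P : Subobject A) (a : T ⟶ A) :
    P.Factors a ↔ a ≫ cokernel.π P.arrow = 0 := by
  constructor
  · intro h
    rw [← P.factorThru_arrow a h, Category.assoc, cokernel.condition, comp_zero]
  · intro h
    rw [← Abelian.monoLift_comp P.arrow a h]
    exact Subobject.factors_comp_arrow _

lemma factors_of_eq {A T : Ind C} (P : Subobject A) {a : T ⟶ A} (g : T ⟶ (P : Ind C))
    (h : g ≫ P.arrow = a) : P.Factors a := by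
  rw [← h]
  exact Subobject.factors_comp_arrow g

lemma factors_of_epi_comp {A T T' : Ind C} (P : Subobject A) (π : T' ⟶ T) [Epi π] (a : T ⟶ A)
    (h : P.Factors (π ≫ a)) : P.Factors a := by
  rw [factors_iff'] at h ⊢
  rw [← cancel_epi π, comp_zero, ← Category.assoc]
  exact h

lemma factors_sub {A T : Ind C} (P : Subobject A) (a b : T ⟶ A) (ha : P.Factors a)
    (hb : P.Factors b) : P.Factors (a - b) := by
  rw [factors_iff'] at ha hb ⊢
  rw [Preadditive.sub_comp, ha, hb, sub_zero]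

lemma factors_add' {A T : Ind C} (P : Subobject A) (a b : T ⟶ A) (ha : P.Factors a)
    (hb : P.Factors b) : P.Factors (a + b) := by
  rw [factors_iff'] at ha hb ⊢
  rw [Preadditive.add_comp, ha, hb, add_zero]

lemma factors_nsmul {A T : Ind C} (P : Subobject A) (k : ℕ) (a : T ⟶ A) (ha : P.Factors a) :
    P.Factors (k • a) := by
  rw [factors_iff'] at ha ⊢
  rw [Preadditive.nsmul_comp, ha, smul_zero]

lemma le_of_factors {A : Ind C} (P Q : Subobject A)
    (h : ∀ (T : C) (x : (Ind.yoneda (C := C)).obj T ⟶ (P : Ind C)), Q.Factors (x ≫ P.arrow)) :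
    P ≤ Q := by
  have h0 : P.arrow ≫ cokernel.π Q.arrow = 0 := by
    apply eq_zero_of_elements
    intro T x
    rw [← Category.assoc]
    exact (factors_iff' Q _).1 (h T x)
  exact Subobject.le_of_comm (Abelian.monoLift Q.arrow P.arrow h0) (Abelian.monoLift_comp _ _ _)

lemma factors_image {X A : Ind C} (f : X ⟶ A) {T : C} (a : (Ind.yoneda (C := C)).obj T ⟶ A)
    (h : (imageSubobject f).Factors a) :
    ∃ (T' : C) (π : T' ⟶ T) (_ : Epi π) (x : (Ind.yoneda (C := C)).obj T' ⟶ X),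
      x ≫ f = Ind.yoneda.map π ≫ a := by
  obtain ⟨T', π, hπ, x, hx⟩ := exists_lift_of_epi (factorThruImageSubobject f)
    ((imageSubobject f).factorThru a h)
  refine ⟨T', π, hπ, x, ?_⟩
  have h1 : x ≫ factorThruImageSubobject f ≫ (imageSubobject f).arrow =
      Ind.yoneda.map π ≫ (imageSubobject f).factorThru a h ≫ (imageSubobject f).arrow := by
    rw [← Category.assoc, hx, Category.assoc]
  rwa [imageSubobject_arrow_comp, Subobject.factorThru_arrow] at h1

lemma image_factors {X A T' T : Ind C} (f : X ⟶ A) (a : T ⟶ A) (π : T' ⟶ T) [Epi π]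
    (x : T' ⟶ X) (h : x ≫ f = π ≫ a) : (imageSubobject f).Factors a := by
  apply factors_of_epi_comp _ π
  rw [← h]
  exact factors_of_eq _ (x ≫ factorThruImageSubobject f)
    (by rw [Category.assoc, imageSubobject_arrow_comp])

lemma factors_image_of_comp_cokernel {X A T : Ind C} (g : X ⟶ A) (d : T ⟶ A)
    (h : d ≫ cokernel.π g = 0) : (imageSubobject g).Factors d := by
  have h1 : g ≫ cokernel.π (imageSubobject g).arrow = 0 := by
    have h2 : (factorThruImageSubobject g ≫ (imageSubobject g).arrow) ≫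
        cokernel.π (imageSubobject g).arrow = 0 := by
      rw [Category.assoc, cokernel.condition, comp_zero]
    rwa [imageSubobject_arrow_comp] at h2
  rw [factors_iff', ← cokernel.π_desc g (cokernel.π (imageSubobject g).arrow) h1,
    ← Category.assoc, h, zero_comp]

/-! ### Scalars -/

lemma epi_pow {X : Ind C} (n : ℕ) (h : Epi (n • 𝟙 X)) (k : ℕ) : Epi (n ^ k • 𝟙 X) := by
  induction k with
  | zero =>
    rw [pow_zero, one_nsmul]
    infer_instance
  | succ k ih =>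
    have h1 : n ^ (k + 1) • 𝟙 X = (n ^ k • 𝟙 X) ≫ (n • 𝟙 X) := by
      rw [smul_id_comp_smul_id, pow_succ]
    rw [h1]
    haveI := ih
    haveI := h
    exact epi_comp _ _

lemma exists_pow_smul_zero (n : ℕ) (htorp : ∀ X : C, ∃ k : ℕ, n ^ k • 𝟙 X = 0) {A : Ind C}
    {T : C} (a : (Ind.yoneda (C := C)).obj T ⟶ A) : ∃ k : ℕ, n ^ k • a = 0 := by
  obtain ⟨k, hk⟩ := htorp T
  refine ⟨k, ?_⟩
  rw [← smul_id_comp a (n ^ k), ← map_nsmul_id, hk, Functor.map_zero, zero_comp]

lemma ess_pow_zero (n : ℕ) (htorp : ∀ X : C, ∃ k : ℕ, n ^ k • 𝟙 X = 0) {Q : Ind C}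
    (hQ : Ess Q) : ∃ k : ℕ, n ^ k • 𝟙 Q = 0 := by
  obtain ⟨T, ⟨e⟩⟩ := hQ
  obtain ⟨k, hk⟩ := htorp T
  refine ⟨k, ?_⟩
  rw [← cancel_epi e.hom, comp_zero, comp_smul_id e.hom (n ^ k), ← smul_id_comp e.hom (n ^ k),
    ← map_nsmul_id, hk, Functor.map_zero, zero_comp]

/-! ### The divisible part `n^N A` -/

section Div

variable (n : ℕ) (A : Ind C) (N : ℕ)

theorem div_epi
    (hN : ∀ k, N ≤ k → imageSubobject (n ^ k • 𝟙 A) = imageSubobject (n ^ N • 𝟙 A)) :
    Epi (n • 𝟙 ((imageSubobject (n ^ N • 𝟙 A) : Subobject A) : Ind C)) := by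
  apply epi_of_lifts
  intro T x
  have h1 : (imageSubobject (n ^ (N + 1) • 𝟙 A)).Factors
      (x ≫ (imageSubobject (n ^ N • 𝟙 A)).arrow) := by
    rw [hN (N + 1) (Nat.le_succ N)]
    exact Subobject.factors_comp_arrow x
  obtain ⟨T', π, hπ, w, hw⟩ := factors_image _ _ h1
  refine ⟨T', π, hπ, w ≫ factorThruImageSubobject (n ^ N • 𝟙 A), ?_⟩
  rw [← cancel_mono (imageSubobject (n ^ N • 𝟙 A)).arrow]
  simp only [Category.assoc]
  rw [smul_id_comp (imageSubobject (n ^ N • 𝟙 A)).arrow n,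
    ← comp_smul_id (imageSubobject (n ^ N • 𝟙 A)).arrow n, imageSubobject_arrow_comp_assoc,
    smul_id_comp_smul_id, ← pow_succ, hw]

theorem le_div (D' : Subobject A) (h : Epi (n • 𝟙 (D' : Ind C))) :
    D' ≤ imageSubobject (n ^ N • 𝟙 A) := by
  apply le_of_factors
  intro T x
  haveI : Epi (n ^ N • 𝟙 (D' : Ind C)) := epi_pow n h N
  obtain ⟨T', π, hπ, x', hx'⟩ := exists_lift_of_epi (n ^ N • 𝟙 (D' : Ind C)) x
  haveI : Epi ((Ind.yoneda (C := C)).map π) := inferInstance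
  apply image_factors (n ^ N • 𝟙 A) (x ≫ D'.arrow) ((Ind.yoneda (C := C)).map π)
    (x' ≫ D'.arrow)
  rw [Category.assoc, comp_smul_id D'.arrow (n ^ N), ← smul_id_comp D'.arrow (n ^ N),
    ← Category.assoc, hx', Category.assoc]

theorem div_comp_zero
    (hN : ∀ k, N ≤ k → imageSubobject (n ^ k • 𝟙 A) = imageSubobject (n ^ N • 𝟙 A))
    (Q : Ind C) (q : A ⟶ Q) (k : ℕ) (hQ : n ^ k • 𝟙 Q = 0) :
    (imageSubobject (n ^ N • 𝟙 A)).arrow ≫ q = 0 := by
  haveI : Epi (n ^ k • 𝟙 ((imageSubobject (n ^ N • 𝟙 A) : Subobject A) : Ind C)) :=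
    epi_pow n (div_epi n A N hN) k
  rw [← cancel_epi (n ^ k • 𝟙 ((imageSubobject (n ^ N • 𝟙 A) : Subobject A) : Ind C)), comp_zero,
    smul_id_comp ((imageSubobject (n ^ N • 𝟙 A)).arrow ≫ q) (n ^ k),
    ← comp_smul_id ((imageSubobject (n ^ N • 𝟙 A)).arrow ≫ q) (n ^ k), hQ, comp_zero]

end Div

theorem ses_image_w {A B : Ind C} (g : A ⟶ B) : kernel.ι g ≫ factorThruImageSubobject g = 0 := by
  rw [← cancel_mono (imageSubobject g).arrow, Category.assoc, imageSubobject_arrow_comp,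
    kernel.condition, zero_comp]

theorem ses_image {A B : Ind C} (g : A ⟶ B) :
    (ShortComplex.mk (kernel.ι g) (factorThruImageSubobject g) (ses_image_w g)).ShortExact := by
  have hex : (ShortComplex.mk (kernel.ι g) (factorThruImageSubobject g)
      (ses_image_w g)).Exact := by
    rw [ShortComplex.exact_iff_exact_up_to_refinements]
    intro T x hx
    dsimp at x hx
    have hx' : x ≫ g = 0 := by
      have h := imageSubobject_arrow_comp g
      rw [← h, ← Category.assoc, hx, zero_comp]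
    refine ⟨T, 𝟙 T, inferInstance, kernel.lift g x hx', ?_⟩
    rw [Category.id_comp]
    exact (kernel.lift_ι g x hx').symm
  exact ShortComplex.ShortExact.mk' hex (show Mono (kernel.ι g) from inferInstance)
    (show Epi (factorThruImageSubobject g) from inferInstance)

theorem cof_image (n : ℕ) (htor : ∀ X : C, ∃ m : ℕ, 0 < m ∧ m • 𝟙 X = 0)
    (hart : ∀ X : C, IsArtinianObject X) {A B : Ind C} (g : A ⟶ B) (hA : Cof n A)
    (hB : Cof n B) : Cof n ((imageSubobject g : Subobject B) : Ind C) := by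
  have h := cof_of_ses n htor hart
    (ShortComplex.mk (kernel.ι g) (factorThruImageSubobject g) (ses_image_w g)) (ses_image g)
    (cof_kernel n g hA hB) hA
  exact h

/-! ### Chains of cofinite subobjects -/

section Chain

variable (n : ℕ) {A : Ind C}

/-- `n^k P` as a subobject of `A`. -/
noncomputable abbrev Im (P : Subobject A) (k : ℕ) : Subobject A :=
  imageSubobject (P.arrow ≫ (n ^ k • 𝟙 A))

lemma Im_factors_of (P : Subobject A) (k : ℕ) {T T' : Ind C} (a : T ⟶ A) (π : T' ⟶ T) [Epi π]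
    (x : T' ⟶ (P : Ind C)) (h : n ^ k • (x ≫ P.arrow) = π ≫ a) : (Im n P k).Factors a :=
  image_factors (P.arrow ≫ (n ^ k • 𝟙 A)) a π x
    (by rw [← Category.assoc, comp_smul_id (x ≫ P.arrow) (n ^ k)]; exact h)

lemma Im_factors (P : Subobject A) (k : ℕ) {T : C} (a : (Ind.yoneda (C := C)).obj T ⟶ A)
    (h : (Im n P k).Factors a) :
    ∃ (T' : C) (π : T' ⟶ T) (_ : Epi π) (x : (Ind.yoneda (C := C)).obj T' ⟶ (P : Ind C)),
      n ^ k • (x ≫ P.arrow) = Ind.yoneda.map π ≫ a := by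
  obtain ⟨T', π, hπ, x, hx⟩ := factors_image _ a h
  refine ⟨T', π, hπ, x, ?_⟩
  rw [← hx, ← Category.assoc, comp_smul_id (x ≫ P.arrow) (n ^ k)]

lemma Im_le (P : Subobject A) (k : ℕ) : Im n P k ≤ P := by
  apply le_of_factors
  intro T x
  obtain ⟨T', π, hπ, b, hb⟩ := Im_factors n P k (x ≫ (Im n P k).arrow)
    (Subobject.factors_comp_arrow x)
  haveI : Epi ((Ind.yoneda (C := C)).map π) := inferInstance
  apply factors_of_epi_comp _ ((Ind.yoneda (C := C)).map π)
  rw [← hb, ← Preadditive.nsmul_comp]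
  exact Subobject.factors_comp_arrow _

/-- Stabilisation data for `P`. -/
abbrev Stab (P : Subobject A) (N : ℕ) : Prop :=
  ∀ k, N ≤ k → V n ((P : Subobject A) : Ind C) k = V n ((P : Subobject A) : Ind C) N

variable (htor : ∀ X : C, ∃ m : ℕ, 0 < m ∧ m • 𝟙 X = 0)

include htor in
lemma Im_stab (P : Subobject A) (N : ℕ) (hN : Stab n P N) (d : ℕ) :
    Im n P N ≤ Im n P (N + d) := by
  apply le_of_factors
  intro T x
  obtain ⟨T', π, hπ, b, hb⟩ := Im_factors n P N (x ≫ (Im n P N).arrow)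
    (Subobject.factors_comp_arrow x)
  obtain ⟨T'', π', hπ', w, hw⟩ := div_pow n ((P : Subobject A) : Ind C) htor N hN d T' b
  haveI : Epi ((Ind.yoneda (C := C)).map π) := inferInstance
  haveI : Epi ((Ind.yoneda (C := C)).map π') := inferInstance
  apply factors_of_epi_comp _ ((Ind.yoneda (C := C)).map π)
  apply Im_factors_of n P (N + d) _ ((Ind.yoneda (C := C)).map π') w
  have h1 : (n ^ N • ((Ind.yoneda (C := C)).map π' ≫ b)) ≫ P.arrow =
      (Ind.yoneda (C := C)).map π' ≫ (n ^ N • (b ≫ P.arrow)) := by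
    rw [Preadditive.nsmul_comp, Preadditive.comp_nsmul, Category.assoc]
  rw [← hb, ← h1, hw, Preadditive.nsmul_comp]

include htor in
lemma Im_div (P : Subobject A) (N : ℕ) (hN : Stab n P N) {T : C}
    (a : (Ind.yoneda (C := C)).obj T ⟶ A) (h : (Im n P N).Factors a) :
    ∃ (T' : C) (π : T' ⟶ T) (_ : Epi π) (b : (Ind.yoneda (C := C)).obj T' ⟶ A),
      (Im n P N).Factors b ∧ n • b = Ind.yoneda.map π ≫ a := by
  have h' : (Im n P (N + 1)).Factors a :=
    Subobject.factors_of_le a (Im_stab n htor P N hN 1) h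
  obtain ⟨T', π, hπ, x, hx⟩ := Im_factors n P (N + 1) a h'
  refine ⟨T', π, hπ, n ^ N • (x ≫ P.arrow), ?_, ?_⟩
  · exact Im_factors_of n P N _ (𝟙 _) x (by rw [Category.id_comp])
  · rw [← hx, smul_smul, ← pow_succ']

include htor in
lemma Im_mono {P' P : Subobject A} (hle : P' ≤ P) (N' : ℕ) (hN' : Stab n P' N') (N : ℕ) :
    Im n P' N' ≤ Im n P N := by
  apply le_of_factors
  intro T x
  have h' : (Im n P' (N' + N)).Factors (x ≫ (Im n P' N').arrow) :=
    Subobject.factors_of_le _ (Im_stab n htor P' N' hN' N) (Subobject.factors_comp_arrow x)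
  obtain ⟨T', π, hπ, b, hb⟩ := Im_factors n P' (N' + N) _ h'
  haveI : Epi ((Ind.yoneda (C := C)).map π) := inferInstance
  apply factors_of_epi_comp _ ((Ind.yoneda (C := C)).map π)
  apply Im_factors_of n P N _ (𝟙 _) (n ^ N' • (b ≫ Subobject.ofLE P' P hle))
  rw [Category.id_comp, ← hb, Preadditive.nsmul_comp, Category.assoc, Subobject.ofLE_arrow,
    smul_smul, ← pow_add, Nat.add_comm N N']

/-- The `n`-torsion of `n^N P`, as a subobject of `A`. -/
noncomputable abbrev Tor (P : Subobject A) (N : ℕ) : Subobject A :=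
  imageSubobject (kernel.ι (n ^ (N + 1) • 𝟙 ((P : Subobject A) : Ind C)) ≫
    (n ^ N • 𝟙 ((P : Subobject A) : Ind C)) ≫ P.arrow)

lemma Tor_w (P : Subobject A) (N : ℕ) :
    (kernel.ι (n ^ (N + 1) • 𝟙 ((P : Subobject A) : Ind C)) ≫
      (n ^ N • 𝟙 ((P : Subobject A) : Ind C)) ≫ P.arrow) ≫ (n • 𝟙 A) = 0 := by
  have h1 : ((n ^ N • 𝟙 ((P : Subobject A) : Ind C)) ≫ P.arrow) ≫ (n • 𝟙 A) =
      (n ^ (N + 1) • 𝟙 ((P : Subobject A) : Ind C)) ≫ P.arrow := by
    rw [Category.assoc, comp_smul_id P.arrow n, ← smul_id_comp P.arrow n, ← Category.assoc,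
      smul_id_comp_smul_id, ← pow_succ]
  rw [Category.assoc, h1, ← Category.assoc, kernel.condition, zero_comp]

lemma Tor_arrow_comp (P : Subobject A) (N : ℕ) : (Tor n P N).arrow ≫ (n ^ 1 • 𝟙 A) = 0 := by
  rw [pow_one, ← cancel_epi (factorThruImageSubobject
    (kernel.ι (n ^ (N + 1) • 𝟙 ((P : Subobject A) : Ind C)) ≫
      (n ^ N • 𝟙 ((P : Subobject A) : Ind C)) ≫ P.arrow)), comp_zero,
    imageSubobject_arrow_comp_assoc]
  exact Tor_w n P N

lemma Tor_ess (P : Subobject A) (N : ℕ) (hA1 : Ess (kernel (n ^ 1 • 𝟙 A)))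
    (hP : Ess (kernel (n ^ (N + 1) • 𝟙 ((P : Subobject A) : Ind C)))) :
    Ess ((Tor n P N : Subobject A) : Ind C) := by
  haveI : Mono (kernel.lift (n ^ 1 • 𝟙 A) (Tor n P N).arrow (Tor_arrow_comp n P N)) :=
    mono_of_mono_fac (kernel.lift_ι _ _ _)
  exact ess_of_epi_mono hP hA1
    (factorThruImageSubobject
      (kernel.ι (n ^ (N + 1) • 𝟙 ((P : Subobject A) : Ind C)) ≫
        (n ^ N • 𝟙 ((P : Subobject A) : Ind C)) ≫ P.arrow))
    (kernel.lift (n ^ 1 • 𝟙 A) (Tor n P N).arrow (Tor_arrow_comp n P N))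

lemma Tor_factors_iff (P : Subobject A) (N : ℕ) {T : C}
    (a : (Ind.yoneda (C := C)).obj T ⟶ A) :
    (Tor n P N).Factors a ↔ (Im n P N).Factors a ∧ n • a = 0 := by
  constructor
  · intro h
    obtain ⟨T', π, hπ, z, hz⟩ := factors_image _ a h
    haveI : Epi ((Ind.yoneda (C := C)).map π) := inferInstance
    constructor
    · apply Im_factors_of n P N a ((Ind.yoneda (C := C)).map π) (z ≫ kernel.ι _)
      rw [← hz, smul_id_comp P.arrow (n ^ N), Preadditive.comp_nsmul, Preadditive.comp_nsmul,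
        Category.assoc]
    · have h3 : (Ind.yoneda (C := C)).map π ≫ (n • a) = 0 := by
        rw [Preadditive.comp_nsmul, ← hz,
          ← comp_smul_id (z ≫ kernel.ι (n ^ (N + 1) • 𝟙 ((P : Subobject A) : Ind C)) ≫
            (n ^ N • 𝟙 ((P : Subobject A) : Ind C)) ≫ P.arrow) n, Category.assoc, Tor_w,
          comp_zero]
      rw [← cancel_epi ((Ind.yoneda (C := C)).map π), comp_zero]
      exact h3
  · rintro ⟨h1, h2⟩
    obtain ⟨T', π, hπ, x, hx⟩ := Im_factors n P N a h1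
    haveI : Epi ((Ind.yoneda (C := C)).map π) := inferInstance
    have hx0 : x ≫ (n ^ (N + 1) • 𝟙 ((P : Subobject A) : Ind C)) = 0 := by
      rw [← cancel_mono P.arrow, zero_comp, Category.assoc, smul_id_comp P.arrow (n ^ (N + 1)),
        Preadditive.comp_nsmul, pow_succ', mul_smul, hx, ← Preadditive.comp_nsmul, h2, comp_zero]
    apply image_factors _ a ((Ind.yoneda (C := C)).map π) (kernel.lift _ x hx0)
    rw [kernel.lift_ι_assoc, smul_id_comp P.arrow (n ^ N), Preadditive.comp_nsmul, hx]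

include htor in
lemma Tor_mono {P' P : Subobject A} (hle : P' ≤ P) (N' : ℕ) (hN' : Stab n P' N') (N : ℕ) :
    Tor n P' N' ≤ Tor n P N := by
  apply le_of_factors
  intro T x
  have h := (Tor_factors_iff n P' N' (x ≫ (Tor n P' N').arrow)).1
    (Subobject.factors_comp_arrow x)
  exact (Tor_factors_iff n P N _).2
    ⟨Subobject.factors_of_le _ (Im_mono n htor hle N' hN' N) h.1, h.2⟩

include htor in
lemma Im_le_of_Tor_eq (htorp : ∀ X : C, ∃ k : ℕ, n ^ k • 𝟙 X = 0) {P' P : Subobject A}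
    (hle : P' ≤ P) (N' : ℕ) (hN' : Stab n P' N') (N : ℕ) (hX : Tor n P' N' = Tor n P N) :
    Im n P N ≤ Im n P' N' := by
  have key : ∀ j : ℕ, ∀ (T : C) (a : (Ind.yoneda (C := C)).obj T ⟶ A), n ^ j • a = 0 →
      (Im n P N).Factors a → (Im n P' N').Factors a := by
    intro j
    induction j with
    | zero =>
      intro T a ha _
      rw [pow_zero, one_nsmul] at ha
      rw [ha]
      exact Subobject.factors_zero
    | succ j ih =>
      intro T a ha hfa
      have h1 : (Im n P' N').Factors (n • a) := by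
        refine ih T (n • a) ?_ (factors_nsmul _ n a hfa)
        rw [smul_smul, ← pow_succ]
        exact ha
      obtain ⟨T', π, hπ, b, hb, hnb⟩ := Im_div n htor P' N' hN' (n • a) h1
      haveI : Epi ((Ind.yoneda (C := C)).map π) := inferInstance
      have hc : (Tor n P N).Factors ((Ind.yoneda (C := C)).map π ≫ a - b) := by
        rw [Tor_factors_iff]
        refine ⟨factors_sub _ _ _ (Subobject.factors_of_factors_right _ hfa)
          (Subobject.factors_of_le _ (Im_mono n htor hle N' hN' N) hb), ?_⟩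
        rw [smul_sub, hnb, Preadditive.comp_nsmul, sub_self]
      rw [← hX, Tor_factors_iff] at hc
      apply factors_of_epi_comp _ ((Ind.yoneda (C := C)).map π)
      have h2 : (Ind.yoneda (C := C)).map π ≫ a =
          ((Ind.yoneda (C := C)).map π ≫ a - b) + b := (sub_add_cancel _ _).symm
      rw [h2]
      exact factors_add' _ _ _ hc.1 hb
  apply le_of_factors
  intro T x
  obtain ⟨j, hj⟩ := exists_pow_smul_zero n htorp (x ≫ (Im n P N).arrow)
  exact key j T _ hj (Subobject.factors_comp_arrow x)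

include htor in
lemma Quo_zero {P P₁ : Subobject A} (hle : P ≤ P₁) (N' : ℕ) (hN' : Stab n P N') (N₁ : ℕ) :
    (n ^ N' • 𝟙 ((P : Subobject A) : Ind C)) ≫ Subobject.ofLE P P₁ hle ≫
      cokernel.π (n ^ N₁ • 𝟙 ((P₁ : Subobject A) : Ind C)) = 0 := by
  apply eq_zero_of_elements
  intro T x
  obtain ⟨T', π, hπ, w, hw⟩ := div_pow n ((P : Subobject A) : Ind C) htor N' hN' N₁ T x
  haveI : Epi ((Ind.yoneda (C := C)).map π) := inferInstance
  rw [← cancel_epi ((Ind.yoneda (C := C)).map π), comp_zero]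
  have h1 : (Ind.yoneda (C := C)).map π ≫ x ≫ (n ^ N' • 𝟙 ((P : Subobject A) : Ind C)) =
      n ^ (N' + N₁) • w := by
    rw [← Category.assoc, comp_smul_id ((Ind.yoneda (C := C)).map π ≫ x) (n ^ N')]
    exact hw
  have h2 : (n ^ (N' + N₁) • w) ≫ Subobject.ofLE P P₁ hle =
      (n ^ N' • (w ≫ Subobject.ofLE P P₁ hle)) ≫
        (n ^ N₁ • 𝟙 ((P₁ : Subobject A) : Ind C)) := by
    rw [comp_smul_id (n ^ N' • (w ≫ Subobject.ofLE P P₁ hle)) (n ^ N₁), smul_smul, ← pow_add,
      Nat.add_comm N₁ N', Preadditive.nsmul_comp]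
  calc (Ind.yoneda (C := C)).map π ≫ x ≫ (n ^ N' • 𝟙 ((P : Subobject A) : Ind C)) ≫
        Subobject.ofLE P P₁ hle ≫ cokernel.π (n ^ N₁ • 𝟙 ((P₁ : Subobject A) : Ind C))
      = ((Ind.yoneda (C := C)).map π ≫ x ≫ (n ^ N' • 𝟙 ((P : Subobject A) : Ind C))) ≫
        Subobject.ofLE P P₁ hle ≫ cokernel.π (n ^ N₁ • 𝟙 ((P₁ : Subobject A) : Ind C)) := by
        simp only [Category.assoc]
    _ = ((n ^ (N' + N₁) • w) ≫ Subobject.ofLE P P₁ hle) ≫
        cokernel.π (n ^ N₁ • 𝟙 ((P₁ : Subobject A) : Ind C)) := by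
        rw [h1, Category.assoc]
    _ = 0 := by rw [h2, Category.assoc, cokernel.condition, comp_zero]

/-- The image of `P ≤ P₁` in `P₁ / n^N₁ P₁`. -/
noncomputable abbrev Quo {P P₁ : Subobject A} (hle : P ≤ P₁) (N₁ : ℕ) :
    Subobject (cokernel (n ^ N₁ • 𝟙 ((P₁ : Subobject A) : Ind C))) :=
  imageSubobject (Subobject.ofLE P P₁ hle ≫
    cokernel.π (n ^ N₁ • 𝟙 ((P₁ : Subobject A) : Ind C)))

include htor in
lemma Quo_ess (hart : ∀ X : C, IsArtinianObject X) {P P₁ : Subobject A} (hle : P ≤ P₁) (N' : ℕ)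
    (hN' : Stab n P N') (N₁ : ℕ) (hP : Cof n ((P : Subobject A) : Ind C))
    (hP₁ : Cof n ((P₁ : Subobject A) : Ind C)) :
    Ess ((Quo n hle N₁ : Subobject _) : Ind C) := by
  have h0' : (n ^ N' • 𝟙 ((P : Subobject A) : Ind C)) ≫ factorThruImageSubobject
      (Subobject.ofLE P P₁ hle ≫ cokernel.π (n ^ N₁ • 𝟙 ((P₁ : Subobject A) : Ind C))) = 0 := by
    rw [← cancel_mono (imageSubobject (Subobject.ofLE P P₁ hle ≫
      cokernel.π (n ^ N₁ • 𝟙 ((P₁ : Subobject A) : Ind C)))).arrow, Category.assoc,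
      imageSubobject_arrow_comp, zero_comp]
    exact Quo_zero n htor hle N' hN' N₁
  haveI : Epi (cokernel.desc (n ^ N' • 𝟙 ((P : Subobject A) : Ind C)) (factorThruImageSubobject
      (Subobject.ofLE P P₁ hle ≫ cokernel.π (n ^ N₁ • 𝟙 ((P₁ : Subobject A) : Ind C)))) h0') :=
    epi_of_epi_fac (cokernel.π_desc _ _ _)
  exact ess_of_epi_mono (coker_ess n ((P : Subobject A) : Ind C) htor hart hP N')
    (coker_ess n ((P₁ : Subobject A) : Ind C) htor hart hP₁ N₁)
    (cokernel.desc (n ^ N' • 𝟙 ((P : Subobject A) : Ind C)) _ h0')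
    (imageSubobject (Subobject.ofLE P P₁ hle ≫
      cokernel.π (n ^ N₁ • 𝟙 ((P₁ : Subobject A) : Ind C)))).arrow

lemma le_of_Quo_eq {P P₂ P₁ : Subobject A} (hle : P ≤ P₁) (hle₂ : P₂ ≤ P₁) (N₁ : ℕ)
    (hD : Im n P₁ N₁ ≤ P) (hQ : Quo n hle N₁ = Quo n hle₂ N₁) : P₂ ≤ P := by
  apply le_of_factors
  intro T x
  have h1 : (Quo n hle₂ N₁).Factors (x ≫ Subobject.ofLE P₂ P₁ hle₂ ≫
      cokernel.π (n ^ N₁ • 𝟙 ((P₁ : Subobject A) : Ind C))) :=
    image_factors _ _ (𝟙 _) x (by rw [Category.id_comp])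
  rw [← hQ] at h1
  obtain ⟨T', π, hπ, x', hx'⟩ := factors_image _ _ h1
  haveI : Epi ((Ind.yoneda (C := C)).map π) := inferInstance
  obtain ⟨d, hd⟩ : ∃ d : (Ind.yoneda (C := C)).obj T' ⟶ ((P₁ : Subobject A) : Ind C),
      d = (Ind.yoneda (C := C)).map π ≫ x ≫ Subobject.ofLE P₂ P₁ hle₂ -
        x' ≫ Subobject.ofLE P P₁ hle := ⟨_, rfl⟩
  have hd0 : d ≫ cokernel.π (n ^ N₁ • 𝟙 ((P₁ : Subobject A) : Ind C)) = 0 := by
    rw [hd, Preadditive.sub_comp]
    simp only [Category.assoc]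
    rw [hx', sub_self]
  obtain ⟨T'', π', hπ', w, hw⟩ := factors_image _ _ (factors_image_of_comp_cokernel _ _ hd0)
  haveI : Epi ((Ind.yoneda (C := C)).map π') := inferInstance
  have h2 : (Im n P₁ N₁).Factors (d ≫ P₁.arrow) := by
    apply Im_factors_of n P₁ N₁ _ ((Ind.yoneda (C := C)).map π') w
    rw [← Preadditive.nsmul_comp, ← comp_smul_id w (n ^ N₁), hw, Category.assoc]
  have h3 : P.Factors (d ≫ P₁.arrow) := Subobject.factors_of_le _ hD h2
  apply factors_of_epi_comp _ ((Ind.yoneda (C := C)).map π)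
  have h4 : (Ind.yoneda (C := C)).map π ≫ x ≫ P₂.arrow = d ≫ P₁.arrow + x' ≫ P.arrow := by
    rw [hd]
    simp only [Preadditive.sub_comp, Category.assoc, Subobject.ofLE_arrow, sub_add_cancel]
  rw [h4]
  exact factors_add' _ _ _ h3 (Subobject.factors_comp_arrow x')

end Chain

theorem chain_stab (n : ℕ) (hn : 0 < n) (htorp : ∀ X : C, ∃ k : ℕ, n ^ k • 𝟙 X = 0)
    (hart : ∀ X : C, IsArtinianObject X) {A : Ind C} (hA : Cof n A) (S : ℕ → Subobject A)
    (hS : Antitone S) (hcof : ∀ m, Cof n ((S m : Subobject A) : Ind C)) :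
    ∃ M : ℕ, ∀ m : ℕ, M ≤ m → S m = S M := by
  have htor : ∀ X : C, ∃ m : ℕ, 0 < m ∧ m • 𝟙 X = 0 := fun X => by
    obtain ⟨k, hk⟩ := htorp X
    exact ⟨n ^ k, pow_pos hn k, hk⟩
  choose N hN using fun m => exists_stab n ((S m : Subobject A) : Ind C) hart (hcof m)
  have hTanti : Antitone (fun m => Tor n (S m) (N m)) :=
    antitone_nat_of_succ_le (fun m => Tor_mono n htor (hS (Nat.le_add_right m 1)) (N (m + 1))
      (hN (m + 1)) (N m))
  obtain ⟨M₁, hM₁⟩ := chain_stabilizes hart (fun m => Tor n (S m) (N m)) hTanti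
    (fun m => Tor_ess n (S m) (N m) (hA 1) (hcof m (N m + 1)))
  have hD : ∀ m, M₁ ≤ m → Im n (S M₁) (N M₁) ≤ S m := fun m hm =>
    (Im_le_of_Tor_eq n htor htorp (hS hm) (N m) (hN m) (N M₁) (hM₁ m hm)).trans
      (Im_le n (S m) (N m))
  have hle : ∀ m, S (M₁ + m) ≤ S M₁ := fun m => hS (Nat.le_add_right M₁ m)
  have hQanti : Antitone (fun m => Quo n (hle m) (N M₁)) := by
    apply antitone_nat_of_succ_le
    intro m
    have h1 : Subobject.ofLE (S (M₁ + (m + 1))) (S M₁) (hle (m + 1)) ≫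
        cokernel.π (n ^ N M₁ • 𝟙 ((S M₁ : Subobject A) : Ind C)) =
        Subobject.ofLE (S (M₁ + (m + 1))) (S (M₁ + m)) (hS (Nat.le_add_right (M₁ + m) 1)) ≫
          (Subobject.ofLE (S (M₁ + m)) (S M₁) (hle m) ≫
            cokernel.π (n ^ N M₁ • 𝟙 ((S M₁ : Subobject A) : Ind C))) := by
      rw [← Category.assoc, Subobject.ofLE_comp_ofLE]
    show imageSubobject _ ≤ imageSubobject _
    rw [image_congr h1]
    exact imageSubobject_comp_le _ _
  obtain ⟨M₂, hM₂⟩ := chain_stabilizes hart (fun m => Quo n (hle m) (N M₁)) hQanti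
    (fun m => Quo_ess n htor hart (hle m) (N (M₁ + m)) (hN (M₁ + m)) (N M₁) (hcof (M₁ + m))
      (hcof M₁))
  refine ⟨M₁ + M₂, fun m hm => ?_⟩
  obtain ⟨m', rfl⟩ : ∃ m', m = M₁ + m' := ⟨m - M₁, by omega⟩
  have hm' : M₂ ≤ m' := by omega
  apply le_antisymm (hS hm)
  exact le_of_Quo_eq n (hle m') (hle M₂) (N M₁) (hD (M₁ + m') (Nat.le_add_right M₁ m'))
    (hM₂ m' hm')

end Groth.Agent.Lib.IndDivH4
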