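import Mathlib

/-!
# The inertia ring and the separable closure of the residue field

Library for S12937 (helper3).
-/

universe u v w
open Polynomial IntermediateField
open scoped Pointwise

namespace Groth.Agent.Lib.InertiaSep

section L1

variable {A : Type w} {B : Type u} {G : Type v} [CommRing A] [CommRing B] [Algebra A B]
  [Group G] [Finite G] [MulSemiringAction G B] [Algebra.IsInvariant A B G]

/-- If `G` acts trivially on `B ⧸ P`, every element of `B ⧸ P` separable over `A ⧸ p` comes from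
`A`. -/
theorem exists_sub_mem_of_separable (P : Ideal B) [P.IsMaximal]
    (htriv : ∀ (g : G) (b : B), g • b - b ∈ P) (x : B) (f : A[X])
    (hsep : ((f.map (algebraMap A B)).map (Ideal.Quotient.mk P)).Separable)
    (hroot : Polynomial.aeval x f ∈ P) :
    ∃ a : A, x - algebraMap A B a ∈ P := by
  classical
  cases nonempty_fintype G
  haveI : Algebra.IsIntegral A B := Algebra.IsInvariant.isIntegral A B G
  let p : Ideal A := P.under A
  haveI : p.IsMaximal := Ideal.IsMaximal.under A P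
  letI : Field (A ⧸ p) := Ideal.Quotient.field p
  letI : Field (B ⧸ P) := Ideal.Quotient.field P
  -- compatibility of maps
  have hcomp : (algebraMap (A ⧸ p) (B ⧸ P)).comp (Ideal.Quotient.mk p) =
      (Ideal.Quotient.mk P).comp (algebraMap A B) := by
    ext a; rfl
  let xbar : B ⧸ P := Ideal.Quotient.mk P x
  let f' : (A ⧸ p)[X] := f.map (Ideal.Quotient.mk p)
  have hf'map : f'.map (algebraMap (A ⧸ p) (B ⧸ P)) =
      (f.map (algebraMap A B)).map (Ideal.Quotient.mk P) := by
    simp only [f', Polynomial.map_map, hcomp]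
  have hf'sep : f'.Separable := by
    rw [← Polynomial.separable_map (algebraMap (A ⧸ p) (B ⧸ P)), hf'map]
    exact hsep
  have hf'root : Polynomial.aeval xbar f' = 0 := by
    rw [Polynomial.aeval_def, ← Polynomial.eval_map, hf'map, Polynomial.eval_map,
      Polynomial.eval₂_map, ← Polynomial.hom_eval₂]
    rw [← Polynomial.aeval_def]
    exact Ideal.Quotient.eq_zero_iff_mem.mpr hroot
  have hint : IsIntegral (A ⧸ p) xbar := by
    refine ⟨f' * Polynomial.C (f'.leadingCoeff)⁻¹, ?_, ?_⟩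
    · exact Polynomial.monic_mul_leadingCoeff_inv hf'sep.ne_zero
    · rw [← Polynomial.aeval_def, map_mul, hf'root, zero_mul]
  have hmsep : (minpoly (A ⧸ p) xbar).Separable :=
    hf'sep.of_dvd (minpoly.dvd _ _ hf'root)
  -- the charpoly
  obtain ⟨N₀, hN₀⟩ := Algebra.IsInvariant.charpoly_mem_lifts A B G x
  let N' : (A ⧸ p)[X] := N₀.map (Ideal.Quotient.mk p)
  have hN'map : N'.map (algebraMap (A ⧸ p) (B ⧸ P)) = (X - C xbar) ^ Fintype.card G := by
    have h1 : N'.map (algebraMap (A ⧸ p) (B ⧸ P)) =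
        (MulSemiringAction.charpoly G x).map (Ideal.Quotient.mk P) := by
      simp only [N', Polynomial.map_map, hcomp]
      rw [← Polynomial.map_map]
      congr 1
    rw [h1, MulSemiringAction.charpoly, Polynomial.map_prod]
    have h2 : ∀ g : G, (X - C (g • x)).map (Ideal.Quotient.mk P) = X - C xbar := by
      intro g
      rw [Polynomial.map_sub, Polynomial.map_X, Polynomial.map_C]
      congr 2
      exact Ideal.Quotient.eq.mpr (htriv g x)
    simp only [h2, Finset.prod_const, Finset.card_univ]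
  have hN'root : Polynomial.aeval xbar N' = 0 := by
    rw [Polynomial.aeval_def, ← Polynomial.eval_map, hN'map]
    simp [Fintype.card_ne_zero]
  have hmdvd : (minpoly (A ⧸ p) xbar).map (algebraMap (A ⧸ p) (B ⧸ P)) ∣
      (X - C xbar) ^ Fintype.card G := by
    rw [← hN'map]
    exact Polynomial.map_dvd _ (minpoly.dvd _ _ hN'root)
  -- so the minimal polynomial has degree one
  obtain ⟨i, _, hassoc⟩ := (dvd_prime_pow (Polynomial.prime_X_sub_C xbar) _).mp hmdvd
  have hsq : Squarefree ((minpoly (A ⧸ p) xbar).map (algebraMap (A ⧸ p) (B ⧸ P))) :=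
    (hmsep.map).squarefree
  have hi : i ≤ 1 := by
    by_contra hlt
    push_neg at hlt
    have hsq' : Squarefree ((X - C xbar) ^ i) := (hassoc.squarefree_iff).mp hsq
    have := hsq' (X - C xbar) (by
      refine Dvd.intro ((X - C xbar) ^ (i - 2)) ?_
      rw [← pow_two, ← pow_add]
      congr 1; omega)
    exact (Polynomial.prime_X_sub_C xbar).not_unit this
  have hdeg : (minpoly (A ⧸ p) xbar).natDegree = 1 := by
    have h1 : ((minpoly (A ⧸ p) xbar).map (algebraMap (A ⧸ p) (B ⧸ P))).natDegree =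
        ((X - C xbar) ^ i).natDegree := Polynomial.natDegree_eq_of_degree_eq
          (Polynomial.degree_eq_degree_of_associated hassoc)
    rw [Polynomial.natDegree_map, Polynomial.natDegree_pow, Polynomial.natDegree_X_sub_C,
      mul_one] at h1
    have h2 := minpoly.natDegree_pos hint
    omega
  obtain ⟨a', ha'⟩ := (minpoly.natDegree_eq_one_iff).mp hdeg
  obtain ⟨a, rfl⟩ := Ideal.Quotient.mk_surjective a'
  refine ⟨a, ?_⟩
  rw [← Ideal.Quotient.eq]
  exact ha'.symm

end L1

section partB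

variable {B : Type u} [CommRing B] {Γ : Type v} [Group Γ] [Finite Γ] [MulSemiringAction Γ B]

instance invFixed (G : Type*) [Group G] [MulSemiringAction G B] :
    Algebra.IsInvariant (FixedPoints.subring B G) B G :=
  ⟨fun b hb => ⟨⟨b, hb⟩, rfl⟩⟩

variable (P : Ideal B) [P.IsMaximal]

/-- direction (⇐) -/
theorem lift_of_separable (x : B) (g : B[X])
    (hinv : ∀ (i : ℕ) (γ : Γ), γ • g.coeff i = g.coeff i)
    (hsep : (g.map (Ideal.Quotient.mk P)).Separable) (hroot : Polynomial.aeval x g ∈ P) :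
    ∃ y : B, (∀ γ : Γ, γ ∈ P.inertia Γ → γ • y = y) ∧ x - y ∈ P := by
  let T : Subgroup Γ := P.inertia Γ
  let AT : Subring B := FixedPoints.subring B ↥T
  have hcoeffs : (↑g.coeffs : Set B) ⊆ AT := by
    intro c hc
    obtain ⟨i, -, rfl⟩ := Polynomial.mem_coeffs_iff.mp hc
    intro t
    exact hinv i t.1
  let f : (↥AT)[X] := g.toSubring AT hcoeffs
  have hf : f.map (algebraMap ↥AT B) = g := Polynomial.map_toSubring g AT hcoeffs
  have htriv : ∀ (t : ↥T) (b : B), t • b - b ∈ P := fun t b => t.2 b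
  obtain ⟨a, ha⟩ := exists_sub_mem_of_separable (A := ↥AT) (G := ↥T) P htriv x f
    (by rw [hf]; exact hsep)
    (by
      have : Polynomial.aeval x f = Polynomial.aeval x g := by
        rw [Polynomial.aeval_def, ← Polynomial.eval_map, hf]
        rfl
      rw [this]; exact hroot)
  refine ⟨a.1, ?_, ha⟩
  intro γ hγ
  exact a.2 ⟨γ, hγ⟩

end partB

section partE

variable {B : Type u} [CommRing B] {Γ : Type v} [Group Γ] [Finite Γ] [MulSemiringAction Γ B]
variable (P : Ideal B) [P.IsMaximal]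

omit [Finite Γ] in
lemma exists_of_not_mem_stabilizer (η : Γ) (hη : η ∉ MulAction.stabilizer Γ P) :
    ∃ c : B, c ∉ P ∧ η • c ∈ P := by
  have hne : η • P ≠ P := fun h => hη (MulAction.mem_stabilizer_iff.mpr h)
  have htop : η • P ≠ ⊤ := by
    intro h
    have h1 : (1 : B) ∈ η • P := by rw [h]; trivial
    rw [Ideal.mem_pointwise_smul_iff_inv_smul_mem, smul_one] at h1
    exact (Ideal.ne_top_iff_one P).mp (Ideal.IsMaximal.ne_top inferInstance) h1
  have hnle : ¬ P ≤ η • P := fun hle =>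
    hne (Ideal.IsMaximal.eq_of_le inferInstance htop hle).symm
  obtain ⟨b, hbP, hb⟩ := Set.not_subset.mp hnle
  refine ⟨η⁻¹ • b, ?_, ?_⟩
  · intro h
    exact hb (Ideal.mem_pointwise_smul_iff_inv_smul_mem.mpr h)
  · rw [smul_inv_smul]; exact hbP

/-- an element congruent to `1`, invariant under inertia, and mapped into `P` by every element
outside the decomposition group -/
lemma exists_E : ∃ E : B, (∀ γ : Γ, γ ∈ P.inertia Γ → γ • E = E) ∧ E - 1 ∈ P ∧
    ∀ η : Γ, η ∉ MulAction.stabilizer Γ P → η • E ∈ P := by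
  classical
  cases nonempty_fintype Γ
  haveI : P.IsPrime := Ideal.IsMaximal.isPrime inferInstance
  let D : Subgroup Γ := MulAction.stabilizer Γ P
  let T : Subgroup Γ := P.inertia Γ
  have hTD : T ≤ D := Ideal.inertia_le_stabilizer P
  have h : ∀ η : Γ, ∃ c : B, η ∉ D → (c ∉ P ∧ η • c ∈ P) := by
    intro η
    by_cases hη : η ∈ D
    · exact ⟨1, fun h => (h hη).elim⟩
    · obtain ⟨c, hc⟩ := exists_of_not_mem_stabilizer P η hη
      exact ⟨c, fun _ => hc⟩
  choose c hc using h
  let b₀ : B := ∏ η ∈ Finset.univ.filter (fun η : Γ => η ∉ D), c η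
  have hb₀ : b₀ ∉ P := by
    intro hmem
    obtain ⟨η, hη, hcη⟩ := (Ideal.IsPrime.prod_mem_iff).mp hmem
    exact (hc η (Finset.mem_filter.mp hη).2).1 hcη
  have hηb₀ : ∀ η : Γ, η ∉ D → η • b₀ ∈ P := by
    intro η hη
    have : η • b₀ = ∏ η' ∈ Finset.univ.filter (fun η : Γ => η ∉ D), η • c η' := by
      simp only [b₀]
      exact map_prod (MulSemiringAction.toRingHom Γ B η) _ _
    rw [this]
    exact (Ideal.IsPrime.prod_mem_iff).mpr ⟨η, Finset.mem_filter.mpr ⟨Finset.mem_univ _, hη⟩,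
      (hc η hη).2⟩
  obtain ⟨c', i, hi, hci⟩ := Ideal.IsMaximal.exists_inv (inferInstance : P.IsMaximal) hb₀
  have hbc : b₀ * c' - 1 ∈ P := by
    have : b₀ * c' - 1 = -i := by rw [← hci]; ring
    rw [this]; exact P.neg_mem hi
  refine ⟨∏ t : ↥T, t • (b₀ * c'), ?_, ?_, ?_⟩
  · intro γ hγ
    have : γ • ∏ t : ↥T, t • (b₀ * c') = ∏ t : ↥T, γ • (t • (b₀ * c')) :=
      map_prod (MulSemiringAction.toRingHom Γ B γ) _ _
    rw [this]
    refine Fintype.prod_equiv (Equiv.mulLeft (⟨γ, hγ⟩ : ↥T)) _ _ ?_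
    intro t
    rw [Equiv.coe_mulLeft, mul_smul]
    rfl
  · rw [← Ideal.Quotient.eq, map_prod, map_one]
    apply Finset.prod_eq_one
    intro t _
    have h1 : Ideal.Quotient.mk P (t • (b₀ * c')) = Ideal.Quotient.mk P (b₀ * c') :=
      Ideal.Quotient.eq.mpr (t.2 (b₀ * c'))
    rw [h1, ← map_one (Ideal.Quotient.mk P)]
    exact Ideal.Quotient.eq.mpr hbc
  · intro η hη
    have : η • ∏ t : ↥T, t • (b₀ * c') = ∏ t : ↥T, η • (t • (b₀ * c')) :=
      map_prod (MulSemiringAction.toRingHom Γ B η) _ _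
    rw [this]
    refine (Ideal.IsPrime.prod_mem_iff).mpr ⟨1, Finset.mem_univ _, ?_⟩
    rw [one_smul, smul_mul']
    exact P.mul_mem_right _ (hηb₀ η hη)

end partE

section interp

variable {B : Type u} [CommRing B] {Γ : Type v} [Group Γ] [MulSemiringAction Γ B]
variable (T : Subgroup Γ)

/-- value on cosets -/
def phi (c : B) (hc : ∀ t : Γ, t ∈ T → t • c = c) : Γ ⧸ T → B :=
  Quotient.lift (fun γ : Γ => γ • c) (by
    intro a b hab
    have h1 : a⁻¹ * b ∈ T := QuotientGroup.leftRel_apply.mp hab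
    have h2 : b = a * (a⁻¹ * b) := by group
    change a • c = b • c
    rw [h2, mul_smul, hc _ h1])

lemma phi_mk (c : B) (hc : ∀ t : Γ, t ∈ T → t • c = c) (γ : Γ) :
    phi T c hc (γ : Γ ⧸ T) = γ • c := rfl

lemma smul_phi (c : B) (hc : ∀ t : Γ, t ∈ T → t • c = c) (η : Γ) (q : Γ ⧸ T) :
    η • phi T c hc q = phi T c hc (η • q) := by
  induction q using QuotientGroup.induction_on with
  | H γ =>
    rw [phi_mk, MulAction.Quotient.smul_mk, phi_mk, smul_eq_mul, mul_smul]

variable [Fintype (Γ ⧸ T)] [DecidableEq (Γ ⧸ T)]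

/-- the Lagrange-type interpolation polynomial -/
noncomputable def F (c θ : B) (hc : ∀ t : Γ, t ∈ T → t • c = c)
    (hθ : ∀ t : Γ, t ∈ T → t • θ = θ) : B[X] :=
  ∑ q : Γ ⧸ T, C (phi T c hc q) *
    ∏ q' : Γ ⧸ T, (if q' = q then 1 else (X - C (phi T θ hθ q')))

lemma F_map (c θ : B) (hc : ∀ t : Γ, t ∈ T → t • c = c)
    (hθ : ∀ t : Γ, t ∈ T → t • θ = θ) (η : Γ) :
    (F T c θ hc hθ).map (MulSemiringAction.toRingHom Γ B η) = F T c θ hc hθ := by
  unfold F
  rw [Polynomial.map_sum]
  refine Fintype.sum_equiv (MulAction.toPerm η) _ _ ?_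
  intro q
  rw [Polynomial.map_mul, Polynomial.map_C, Polynomial.map_prod]
  congr 1
  · congr 1
    exact smul_phi T c hc η q
  · refine Fintype.prod_equiv (MulAction.toPerm η) _ _ ?_
    intro q'
    simp only [MulAction.toPerm_apply, smul_left_cancel_iff]
    split_ifs
    · simp
    · rw [Polynomial.map_sub, Polynomial.map_X, Polynomial.map_C]
      congr 2
      exact smul_phi T θ hθ η q'

lemma F_coeff_smul (c θ : B) (hc : ∀ t : Γ, t ∈ T → t • c = c)
    (hθ : ∀ t : Γ, t ∈ T → t • θ = θ) (η : Γ) (i : ℕ) :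
    η • (F T c θ hc hθ).coeff i = (F T c θ hc hθ).coeff i := by
  conv_rhs => rw [← F_map T c θ hc hθ η]
  rw [Polynomial.coeff_map]
  rfl

lemma F_eval (c θ : B) (hc : ∀ t : Γ, t ∈ T → t • c = c)
    (hθ : ∀ t : Γ, t ∈ T → t • θ = θ) :
    (F T c θ hc hθ).eval θ =
      c * ∏ q' : Γ ⧸ T, (if q' = ((1 : Γ) : Γ ⧸ T) then 1 else (θ - phi T θ hθ q')) := by
  unfold F
  rw [Polynomial.eval_finset_sum]
  rw [Finset.sum_eq_single ((1 : Γ) : Γ ⧸ T)]
  · rw [Polynomial.eval_mul, Polynomial.eval_C, phi_mk, one_smul, Polynomial.eval_prod]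
    congr 1
    refine Finset.prod_congr rfl ?_
    intro q' _
    split_ifs
    · simp
    · simp
  · intro q _ hq
    rw [Polynomial.eval_mul, Polynomial.eval_prod]
    have : ∏ q' : Γ ⧸ T, (if q' = q then (1 : B[X]) else (X - C (phi T θ hθ q'))).eval θ = 0 := by
      refine Finset.prod_eq_zero (Finset.mem_univ ((1 : Γ) : Γ ⧸ T)) ?_
      rw [if_neg (Ne.symm hq), phi_mk, one_smul]
      simp
    rw [this, mul_zero]
  · intro h
    exact (h (Finset.mem_univ _)).elim

end interp

section FT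

variable {k : Type u} {ℓ : Type v} [Field k] [Field ℓ] [Algebra k ℓ] [Algebra.IsAlgebraic k ℓ]

lemma exists_sep_moved (s : ℓ ≃ₐ[k] ℓ) (hs : s ≠ AlgEquiv.refl) :
    ∃ a : ℓ, IsSeparable k a ∧ s a ≠ a := by
  by_contra hcon
  push_neg at hcon
  apply hs
  have h1 : (s : ℓ →+* ℓ).comp (algebraMap (separableClosure k ℓ) ℓ) =
      (RingHom.id ℓ).comp (algebraMap (separableClosure k ℓ) ℓ) := by
    ext a
    exact hcon a.1 (mem_separableClosure_iff.mp a.2)
  have h2 := IsPurelyInseparable.injective_comp_algebraMap (separableClosure k ℓ) ℓ ℓ h1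
  ext x
  exact congrArg (fun f : ℓ →+* ℓ => f x) h2

theorem exists_theta {ι : Type*} [Finite ι] (s : ι → (ℓ ≃ₐ[k] ℓ))
    (hs : ∀ i, s i ≠ AlgEquiv.refl) :
    ∃ θ : ℓ, IsSeparable k θ ∧ θ ≠ 0 ∧ ∀ i, s i θ ≠ θ := by
  classical
  have h := fun i => exists_sep_moved (s i) (hs i)
  choose a hasep hamoved using h
  let E : IntermediateField k ℓ := IntermediateField.adjoin k (Set.range a)
  haveI : FiniteDimensional k E :=
    IntermediateField.finiteDimensional_adjoin (fun x _ => Algebra.IsIntegral.isIntegral x)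
  haveI : Algebra.IsSeparable k E := by
    rw [IntermediateField.isSeparable_adjoin_iff_isSeparable]
    rintro x ⟨i, rfl⟩
    exact hasep i
  obtain ⟨α, hα⟩ := Field.exists_primitive_element k E
  have hlift : k⟮(α : ℓ)⟯ = E := by
    simpa only [IntermediateField.lift_adjoin_simple, IntermediateField.lift_top] using
      congr_arg IntermediateField.lift hα
  have hθ₁sep : IsSeparable k (α : ℓ) := by
    rw [← mem_separableClosure_iff]
    have hle : E ≤ separableClosure k ℓ := by
      apply IntermediateField.adjoin_le_iff.mpr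
      rintro x ⟨i, rfl⟩
      exact mem_separableClosure_iff.mpr (hasep i)
    exact hle α.2
  have hθ₁moved : ∀ i, s i (α : ℓ) ≠ (α : ℓ) := by
    intro i hfix
    apply hamoved i
    have h1 : ∀ x ∈ IntermediateField.adjoin k {(α : ℓ)}, (s i) • x = x := by
      rw [IntermediateField.forall_mem_adjoin_smul_eq_self_iff]
      intro x hx
      rw [Set.mem_singleton_iff] at hx
      rw [hx]
      exact hfix
    have h2 : a i ∈ IntermediateField.adjoin k {(α : ℓ)} := by
      rw [hlift]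
      exact IntermediateField.subset_adjoin k _ ⟨i, rfl⟩
    exact h1 _ h2
  by_cases h0 : (α : ℓ) = 0
  · refine ⟨1, ?_, one_ne_zero, ?_⟩
    · have : (1 : ℓ) = algebraMap k ℓ 1 := (map_one _).symm
      rw [this]
      exact isSeparable_algebraMap (1 : k)
    · intro i
      exfalso
      apply hθ₁moved i
      rw [h0, map_zero]
  · exact ⟨α, hθ₁sep, h0, hθ₁moved⟩

end FT


section final

lemma mk_aeval_self {B : Type u} [CommRing B] (P : Ideal B) (x : B) (g : B[X]) :
    Ideal.Quotient.mk P (Polynomial.aeval x g) =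
      (g.map (Ideal.Quotient.mk P)).eval (Ideal.Quotient.mk P x) := by
  rw [Polynomial.coe_aeval_eq_eval, Polynomial.eval_map, Polynomial.eval₂_at_apply]

variable {B : Type u} [CommRing B] {Γ : Type v} [Group Γ] [Finite Γ] [MulSemiringAction Γ B]
variable (P : Ideal B) [P.IsMaximal]

/-- direction (⇒) -/
theorem separable_of_invariant (y : B) (hy : ∀ γ : Γ, γ ∈ P.inertia Γ → γ • y = y) :
    ∃ g : Polynomial B, (∀ (i : ℕ) (γ : Γ), γ • g.coeff i = g.coeff i) ∧
      (g.map (Ideal.Quotient.mk P)).Separable ∧ Polynomial.aeval y g ∈ P := by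
  classical
  cases nonempty_fintype Γ
  let A : Subring B := FixedPoints.subring B Γ
  haveI : Algebra.IsIntegral ↥A B := Algebra.IsInvariant.isIntegral ↥A B Γ
  let p : Ideal ↥A := P.under ↥A
  haveI : p.IsMaximal := Ideal.IsMaximal.under ↥A P
  letI : Field (↥A ⧸ p) := Ideal.Quotient.field p
  letI : Field (B ⧸ P) := Ideal.Quotient.field P
  let T : Subgroup Γ := P.inertia Γ
  let D : Subgroup Γ := MulAction.stabilizer Γ P
  have hcomp : (algebraMap (↥A ⧸ p) (B ⧸ P)).comp (Ideal.Quotient.mk p) =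
      (Ideal.Quotient.mk P).comp (algebraMap ↥A B) := by
    ext a; rfl
  -- the automorphisms coming from `D \ T`
  let ι := {σ : ↥D // (σ : Γ) ∉ T}
  let s : ι → ((B ⧸ P) ≃ₐ[↥A ⧸ p] (B ⧸ P)) := fun σ => Ideal.Quotient.stabilizerHom P p Γ σ.1
  have hs : ∀ σ : ι, s σ ≠ AlgEquiv.refl := by
    intro σ h1
    have h2 : σ.1 ∈ (Ideal.Quotient.stabilizerHom P p Γ).ker := h1
    rw [Ideal.Quotient.ker_stabilizerHom] at h2
    exact σ.2 (Ideal.coe_mem_inertia.mpr h2)
  obtain ⟨θbar, hθsep, hθ0, hθmoved⟩ := exists_theta s hs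
  -- lift `θbar` to an inertia-invariant element
  obtain ⟨x₀, hx₀⟩ := Ideal.Quotient.mk_surjective θbar
  obtain ⟨g₀, hg₀⟩ := Polynomial.map_surjective (Ideal.Quotient.mk p)
    Ideal.Quotient.mk_surjective (minpoly (↥A ⧸ p) θbar)
  have hmapg₀ : ∀ q : (↥A)[X], (q.map (algebraMap ↥A B)).map (Ideal.Quotient.mk P) =
      (q.map (Ideal.Quotient.mk p)).map (algebraMap (↥A ⧸ p) (B ⧸ P)) := by
    intro q
    rw [Polynomial.map_map, Polynomial.map_map, hcomp]
  have hinvcoeff : ∀ (q : (↥A)[X]) (i : ℕ) (γ : Γ),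
      γ • (q.map (algebraMap ↥A B)).coeff i = (q.map (algebraMap ↥A B)).coeff i := by
    intro q i γ
    rw [Polynomial.coeff_map]
    exact (q.coeff i).2 γ
  obtain ⟨w, hwinv, hw⟩ := lift_of_separable P x₀ (g₀.map (algebraMap ↥A B))
    (hinvcoeff g₀)
    (by rw [hmapg₀, hg₀]; exact Polynomial.Separable.map hθsep)
    (by
      rw [← Ideal.Quotient.eq_zero_iff_mem, mk_aeval_self, hmapg₀, hg₀, hx₀,
        Polynomial.eval_map, ← Polynomial.aeval_def]
      exact minpoly.aeval _ _)
  have hwbar : Ideal.Quotient.mk P w = θbar := by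
    rw [← hx₀]
    exact (Ideal.Quotient.eq.mpr hw).symm
  -- the auxiliary element `E`
  obtain ⟨E, hEinv, hE1, hEout⟩ := exists_E (Γ := Γ) P
  let θ : B := E * w
  have hθinv : ∀ t : Γ, t ∈ T → t • θ = θ := by
    intro t ht
    simp only [θ, smul_mul', hEinv t ht, hwinv t ht]
  have hθbar : Ideal.Quotient.mk P θ = θbar := by
    simp only [θ, map_mul]
    have : Ideal.Quotient.mk P E = 1 := by
      rw [← map_one (Ideal.Quotient.mk P)]
      exact Ideal.Quotient.eq.mpr hE1
    rw [this, one_mul, hwbar]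
  have hθout : ∀ η : Γ, η ∉ T → Ideal.Quotient.mk P (η • θ) ≠ Ideal.Quotient.mk P θ := by
    intro η hη
    by_cases hηD : η ∈ D
    · have hmv := hθmoved ⟨⟨η, hηD⟩, hη⟩
      intro h
      apply hmv
      rw [← hθbar]
      exact h
    · have h1 : η • θ ∈ P := by
        simp only [θ, smul_mul']
        exact P.mul_mem_right _ (hEout η hηD)
      rw [Ideal.Quotient.eq_zero_iff_mem.mpr h1, hθbar]
      exact hθ0.symm
  -- interpolation
  have h1inv : ∀ t : Γ, t ∈ T → t • (1 : B) = 1 := fun t _ => smul_one t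
  let Fy := F T y θ hy hθinv
  let F1 := F T 1 θ h1inv hθinv
  let u : B := ∏ q' : Γ ⧸ T, (if q' = ((1 : Γ) : Γ ⧸ T) then 1 else (θ - phi T θ hθinv q'))
  have hFy : Fy.eval θ = y * u := F_eval T y θ hy hθinv
  have hF1 : F1.eval θ = 1 * u := F_eval T 1 θ h1inv hθinv
  have hu : Ideal.Quotient.mk P u ≠ 0 := by
    simp only [u, map_prod]
    rw [Finset.prod_ne_zero_iff]
    intro q' _
    induction q' using QuotientGroup.induction_on with
    | H η =>
      by_cases hq : ((η : Γ) : Γ ⧸ T) = ((1 : Γ) : Γ ⧸ T)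
      · rw [if_pos hq, map_one]; exact one_ne_zero
      · rw [if_neg hq, map_sub, phi_mk, sub_ne_zero]
        have hηT : η ∉ T := by
          intro hηT
          apply hq
          rw [QuotientGroup.eq]
          simpa using hηT
        exact (hθout η hηT).symm
  -- descend the polynomials to `A`
  have hcoeffsy : (↑Fy.coeffs : Set B) ⊆ A := by
    intro c hc
    obtain ⟨i, -, rfl⟩ := Polynomial.mem_coeffs_iff.mp hc
    intro γ
    exact F_coeff_smul T y θ hy hθinv γ i
  have hcoeffs1 : (↑F1.coeffs : Set B) ⊆ A := by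
    intro c hc
    obtain ⟨i, -, rfl⟩ := Polynomial.mem_coeffs_iff.mp hc
    intro γ
    exact F_coeff_smul T 1 θ h1inv hθinv γ i
  let fy : (↥A)[X] := Fy.toSubring A hcoeffsy
  let f1 : (↥A)[X] := F1.toSubring A hcoeffs1
  have hfy : fy.map (algebraMap ↥A B) = Fy := Polynomial.map_toSubring Fy A hcoeffsy
  have hf1 : f1.map (algebraMap ↥A B) = F1 := Polynomial.map_toSubring F1 A hcoeffs1
  have haeval : ∀ q : (↥A)[X], Polynomial.aeval θbar (q.map (Ideal.Quotient.mk p)) =
      Ideal.Quotient.mk P ((q.map (algebraMap ↥A B)).eval θ) := by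
    intro q
    rw [Polynomial.aeval_def, ← Polynomial.eval_map, ← hmapg₀, ← hθbar, Polynomial.eval_map,
      Polynomial.eval₂_at_apply]
  have hybar : Ideal.Quotient.mk P y =
      Polynomial.aeval θbar (fy.map (Ideal.Quotient.mk p)) /
        Polynomial.aeval θbar (f1.map (Ideal.Quotient.mk p)) := by
    rw [haeval, haeval, hfy, hf1, hFy, hF1, one_mul, map_mul, mul_div_assoc, div_self hu, mul_one]
  have hysep : IsSeparable (↥A ⧸ p) (Ideal.Quotient.mk P y) := by
    rw [← mem_separableClosure_iff]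
    have hle : (↥A ⧸ p)⟮θbar⟯ ≤ separableClosure (↥A ⧸ p) (B ⧸ P) := by
      rw [IntermediateField.adjoin_simple_le_iff]
      exact mem_separableClosure_iff.mpr hθsep
    apply hle
    rw [IntermediateField.mem_adjoin_simple_iff]
    exact ⟨_, _, hybar⟩
  -- the polynomial
  obtain ⟨g₁, hg₁⟩ := Polynomial.map_surjective (Ideal.Quotient.mk p)
    Ideal.Quotient.mk_surjective (minpoly (↥A ⧸ p) (Ideal.Quotient.mk P y))
  refine ⟨g₁.map (algebraMap ↥A B), hinvcoeff g₁, ?_, ?_⟩
  · rw [hmapg₀, hg₁]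
    exact Polynomial.Separable.map hysep
  · rw [← Ideal.Quotient.eq_zero_iff_mem, mk_aeval_self, hmapg₀, hg₁,
      Polynomial.eval_map, ← Polynomial.aeval_def]
    exact minpoly.aeval _ _

theorem main (x : B) :
    (∃ y : B, (∀ γ : Γ, γ ∈ P.inertia Γ → γ • y = y) ∧ x - y ∈ P) ↔
      ∃ g : Polynomial B, (∀ (i : ℕ) (γ : Γ), γ • g.coeff i = g.coeff i) ∧
        (g.map (Ideal.Quotient.mk P)).Separable ∧ Polynomial.aeval x g ∈ P := by
  constructor
  · rintro ⟨y, hy, hxy⟩
    obtain ⟨g, hginv, hgsep, hgroot⟩ := separable_of_invariant P y hy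
    refine ⟨g, hginv, hgsep, ?_⟩
    rw [← Ideal.Quotient.eq_zero_iff_mem, mk_aeval_self] at hgroot ⊢
    rw [Ideal.Quotient.eq.mpr hxy]
    exact hgroot
  · rintro ⟨g, hginv, hgsep, hgroot⟩
    exact lift_of_separable P x g hginv hgsep hgroot

end final

end Groth.Agent.Lib.InertiaSep
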