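import Mathlib
import Groth.Prelude.Def_Pi1

/-!
# Invariant rings and standard étale algebras

For a finite group `G` acting on a commutative ring `R`, a subgroup `H` and an `H`-invariant element
`x`, let `f = ∏_{c ∈ G/H} (X - c x) ∈ R^G[X]` and `s = f'(x) ∈ R^H`.  Then `R^H[1/s]` is isomorphic,
as an `R^G`-algebra, to the standard étale algebra `(R^G[X]/f)[1/f']` (Lagrange interpolation).
-/

universe u
open Polynomial

namespace Groth.Agent.Lib.InvStdEtaleH3

noncomputable section

variable {G : Type u} [Group G] {R : Type u} [CommRing R] [MulSemiringAction G R] (H : Subgroup G)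

/-- conjugates of an `H`-invariant element, indexed by the cosets `G ⧸ H` -/
def conj (t : FixedPoints.subring R H) : G ⧸ H → R :=
  fun c => Quotient.liftOn' c (fun g => g • (t : R)) (by
    intro a b hab
    have h1 : a⁻¹ * b ∈ H := QuotientGroup.leftRel_apply.mp hab
    have h2 : (⟨a⁻¹ * b, h1⟩ : H) • (t : R) = t := t.2 ⟨a⁻¹ * b, h1⟩
    change a • (t : R) = b • (t : R)
    have h3 : (a⁻¹ * b) • (t : R) = t := h2
    calc a • (t : R) = a • ((a⁻¹ * b) • (t : R)) := by rw [h3]
      _ = (a * (a⁻¹ * b)) • (t : R) := (mul_smul _ _ _).symm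
      _ = b • (t : R) := by rw [mul_inv_cancel_left])

@[simp] lemma conj_mk (t : FixedPoints.subring R H) (g : G) :
    conj H t (g : G ⧸ H) = g • (t : R) := rfl

lemma smul_conj (t : FixedPoints.subring R H) (g : G) (c : G ⧸ H) :
    g • conj H t c = conj H t (g • c) := by
  induction c using Quotient.inductionOn' with
  | h a =>
    change g • (a • (t : R)) = (g * a) • (t : R)
    rw [mul_smul]

lemma conj_one_coset (t : FixedPoints.subring R H) : conj H t ((1 : G) : G ⧸ H) = t := by
  rw [conj_mk, one_smul]

lemma conj_mul (t t' : FixedPoints.subring R H) (c : G ⧸ H) :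
    conj H (t * t') c = conj H t c * conj H t' c := by
  induction c using Quotient.inductionOn' with
  | h a =>
    change a • ((t : R) * (t' : R)) = a • (t : R) * a • (t' : R)
    rw [smul_mul']

lemma conj_add (t t' : FixedPoints.subring R H) (c : G ⧸ H) :
    conj H (t + t') c = conj H t c + conj H t' c := by
  induction c using Quotient.inductionOn' with
  | h a =>
    change a • ((t : R) + (t' : R)) = a • (t : R) + a • (t' : R)
    rw [smul_add]

lemma conj_one (c : G ⧸ H) : conj H (1 : FixedPoints.subring R H) c = 1 := by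
  induction c using Quotient.inductionOn' with
  | h a =>
    change a • (1 : R) = 1
    rw [smul_one]

lemma conj_zero (c : G ⧸ H) : conj H (0 : FixedPoints.subring R H) c = 0 := by
  induction c using Quotient.inductionOn' with
  | h a =>
    change a • (0 : R) = 0
    rw [smul_zero]

lemma conj_of_invariant (t : FixedPoints.subring R H) (ht : ∀ g : G, g • (t : R) = t) (c : G ⧸ H) :
    conj H t c = t := by
  induction c using Quotient.inductionOn' with
  | h a => exact ht a

variable [Fintype (G ⧸ H)] [DecidableEq (G ⧸ H)]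

/-- `∏_{c' ≠ c} (X - x_{c'})` -/
def E (x : FixedPoints.subring R H) (c : G ⧸ H) : R[X] :=
  ∏ c' ∈ Finset.univ.erase c, (X - C (conj H x c'))

/-- `∏_c (X - x_c)` -/
def fR (x : FixedPoints.subring R H) : R[X] := ∏ c : G ⧸ H, (X - C (conj H x c))

/-- `∑_c t_c ∏_{c' ≠ c} (X - x_{c'})` -/
def PR (x t : FixedPoints.subring R H) : R[X] := ∑ c : G ⧸ H, C (conj H t c) * E H x c

lemma fR_eq (x : FixedPoints.subring R H) (c : G ⧸ H) :
    fR H x = (X - C (conj H x c)) * E H x c := by
  exact (Finset.mul_prod_erase Finset.univ (fun c => X - C (conj H x c)) (Finset.mem_univ c)).symm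

lemma fR_monic (x : FixedPoints.subring R H) : (fR H x).Monic :=
  monic_prod_of_monic _ _ (fun c _ => monic_X_sub_C _)

lemma derivative_fR (x : FixedPoints.subring R H) : derivative (fR H x) = ∑ c, E H x c := by
  rw [fR, derivative_prod_finset]
  refine Finset.sum_congr rfl (fun c _ => ?_)
  rw [derivative_sub, derivative_X, derivative_C, sub_zero, mul_one, E]

lemma fR_dvd_E_mul_E (x : FixedPoints.subring R H) {c c' : G ⧸ H} (h : c ≠ c') :
    fR H x ∣ E H x c * E H x c' := by
  have h1 : c ∈ Finset.univ.erase c' := Finset.mem_erase.mpr ⟨h, Finset.mem_univ _⟩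
  have h2 : E H x c' = (X - C (conj H x c)) * ∏ d ∈ (Finset.univ.erase c').erase c,
      (X - C (conj H x d)) := by
    exact (Finset.mul_prod_erase (Finset.univ.erase c') (fun d => X - C (conj H x d)) h1).symm
  rw [h2, fR_eq H x c]
  exact ⟨∏ d ∈ (Finset.univ.erase c').erase c, (X - C (conj H x d)), by ring⟩

lemma PR_one (x : FixedPoints.subring R H) : PR H x 1 = derivative (fR H x) := by
  rw [PR, derivative_fR]
  refine Finset.sum_congr rfl (fun c _ => ?_)
  rw [conj_one, C_1, one_mul]

lemma PR_add (x t t' : FixedPoints.subring R H) : PR H x (t + t') = PR H x t + PR H x t' := by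
  rw [PR, PR, PR, ← Finset.sum_add_distrib]
  refine Finset.sum_congr rfl (fun c _ => ?_)
  rw [conj_add, C_add, add_mul]

lemma PR_zero (x : FixedPoints.subring R H) : PR H x 0 = 0 := by
  rw [PR]
  refine Finset.sum_eq_zero (fun c _ => ?_)
  rw [conj_zero, C_0, zero_mul]

lemma PR_of_invariant (x t : FixedPoints.subring R H) (ht : ∀ g : G, g • (t : R) = t) :
    PR H x t = C (t : R) * derivative (fR H x) := by
  rw [PR, derivative_fR, Finset.mul_sum]
  refine Finset.sum_congr rfl (fun c _ => ?_)
  rw [conj_of_invariant H t ht]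

/-- the key congruence: `P_{tt'} f' ≡ P_t P_{t'}` modulo `f` -/
lemma fR_dvd_mul (x t t' : FixedPoints.subring R H) :
    fR H x ∣ PR H x (t * t') * derivative (fR H x) - PR H x t * PR H x t' := by
  rw [derivative_fR, PR, PR, PR, Finset.sum_mul_sum, Finset.sum_mul_sum, ← Finset.sum_sub_distrib]
  refine Finset.dvd_sum (fun c _ => ?_)
  rw [← Finset.sum_sub_distrib]
  refine Finset.dvd_sum (fun c' _ => ?_)
  by_cases h : c = c'
  · subst h
    rw [conj_mul, C_mul]
    have : C (conj H t c) * C (conj H t' c) * E H x c * E H x c -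
        C (conj H t c) * E H x c * (C (conj H t' c) * E H x c) = 0 := by ring
    rw [this]
    exact dvd_zero _
  · obtain ⟨w, hw⟩ := fR_dvd_E_mul_E H x h
    refine ⟨(C (conj H (t * t') c) - C (conj H t c) * C (conj H t' c')) * w, ?_⟩
    have : C (conj H (t * t') c) * E H x c * E H x c' -
        C (conj H t c) * E H x c * (C (conj H t' c') * E H x c') =
        (C (conj H (t * t') c) - C (conj H t c) * C (conj H t' c')) * (E H x c * E H x c') := by
      ring
    rw [this, hw]
    ring

/-- `X f' - P_x = n f` -/
lemma fR_dvd_X (x : FixedPoints.subring R H) :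
    fR H x ∣ X * derivative (fR H x) - PR H x x := by
  rw [derivative_fR, PR, Finset.mul_sum, ← Finset.sum_sub_distrib]
  refine Finset.dvd_sum (fun c _ => ?_)
  refine ⟨1, ?_⟩
  rw [mul_one, fR_eq H x c]
  ring

lemma eval_E_of_ne (x : FixedPoints.subring R H) {c : G ⧸ H} (hc : c ≠ ((1 : G) : G ⧸ H)) :
    (E H x c).eval (x : R) = 0 := by
  rw [E, eval_prod]
  refine Finset.prod_eq_zero (Finset.mem_erase.mpr ⟨hc.symm, Finset.mem_univ _⟩) ?_
  rw [eval_sub, eval_X, eval_C, conj_one_coset, sub_self]

lemma eval_fR (x : FixedPoints.subring R H) : (fR H x).eval (x : R) = 0 := by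
  rw [fR_eq H x ((1 : G) : G ⧸ H), eval_mul, eval_sub, eval_X, eval_C, conj_one_coset, sub_self,
    zero_mul]

lemma eval_PR (x t : FixedPoints.subring R H) :
    (PR H x t).eval (x : R) = t * (E H x ((1 : G) : G ⧸ H)).eval (x : R) := by
  rw [PR, eval_finset_sum, Finset.sum_eq_single ((1 : G) : G ⧸ H)]
  · rw [eval_mul, eval_C, conj_one_coset]
  · intro c _ hc
    rw [eval_mul, eval_E_of_ne H x hc, mul_zero]
  · intro h
    exact (h (Finset.mem_univ _)).elim

lemma eval_derivative_fR (x : FixedPoints.subring R H) :
    (derivative (fR H x)).eval (x : R) = (E H x ((1 : G) : G ⧸ H)).eval (x : R) := by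
  rw [← PR_one, eval_PR]
  simp

lemma eval_E_one (x : FixedPoints.subring R H) :
    (E H x ((1 : G) : G ⧸ H)).eval (x : R) =
      ∏ c ∈ Finset.univ.erase ((1 : G) : G ⧸ H), ((x : R) - conj H x c) := by
  rw [E, eval_prod]
  refine Finset.prod_congr rfl (fun c _ => ?_)
  rw [eval_sub, eval_X, eval_C]

/-! ### `G`-invariance and descent to `R^G[X]` -/

omit [Fintype (G ⧸ H)] [DecidableEq (G ⧸ H)] in
lemma smul_XsubC (g : G) (a : R) : g • (X - C a : R[X]) = X - C (g • a) := by
  rw [smul_sub, smul_X, smul_C]

lemma smul_fR (x : FixedPoints.subring R H) (g : G) : g • fR H x = fR H x := by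
  rw [fR, Finset.smul_prod']
  simp_rw [smul_XsubC, smul_conj]
  exact Fintype.prod_equiv (MulAction.toPerm g) _ _ (fun c => rfl)

lemma smul_E (x : FixedPoints.subring R H) (c : G ⧸ H) (g : G) :
    g • E H x c = E H x (g • c) := by
  rw [E, E, Finset.smul_prod']
  simp_rw [smul_XsubC, smul_conj]
  have h : (Finset.univ.erase (g • c) : Finset (G ⧸ H)) =
      (Finset.univ.erase c).map (MulAction.toPerm g).toEmbedding := by
    rw [Finset.map_erase, Finset.map_univ_equiv]
    rfl
  rw [h, Finset.prod_map]
  rfl

lemma smul_PR (x t : FixedPoints.subring R H) (g : G) : g • PR H x t = PR H x t := by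
  rw [PR, Finset.smul_sum]
  simp_rw [smul_mul', smul_C, smul_conj, smul_E]
  exact Fintype.sum_equiv (MulAction.toPerm g) _ _ (fun c => rfl)

omit [Fintype (G ⧸ H)] [DecidableEq (G ⧸ H)] in
lemma coeffs_subset_of_smul_eq {p : R[X]} (hp : ∀ g : G, g • p = p) :
    (↑p.coeffs : Set R) ⊆ (FixedPoints.subring R G : Set R) := by
  intro a ha
  obtain ⟨i, -, rfl⟩ := Polynomial.mem_coeffs_iff.mp ha
  intro g
  have h := congrArg (fun q => q.coeff i) (hp g)
  simp only [Polynomial.smul_eq_map, Polynomial.coeff_map] at h
  exact h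

/-- `f` as a polynomial over `R^G` -/
def fS (x : FixedPoints.subring R H) : (FixedPoints.subring R G)[X] :=
  (fR H x).toSubring _ (coeffs_subset_of_smul_eq (smul_fR H x))

/-- `P_t` as a polynomial over `R^G` -/
def PS (x t : FixedPoints.subring R H) : (FixedPoints.subring R G)[X] :=
  (PR H x t).toSubring _ (coeffs_subset_of_smul_eq (smul_PR H x t))

lemma map_fS (x : FixedPoints.subring R H) :
    (fS H x).map (FixedPoints.subring R G).subtype = fR H x := Polynomial.map_toSubring _ _ _

lemma map_PS (x t : FixedPoints.subring R H) :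
    (PS H x t).map (FixedPoints.subring R G).subtype = PR H x t := Polynomial.map_toSubring _ _ _

lemma fS_monic (x : FixedPoints.subring R H) : (fS H x).Monic :=
  (Polynomial.monic_toSubring _ _ _).mpr (fR_monic H x)

omit [Fintype (G ⧸ H)] [DecidableEq (G ⧸ H)] in
lemma map_subtype_injective (S' : Subring R) :
    Function.Injective (Polynomial.map S'.subtype) :=
  Polynomial.map_injective _ Subtype.val_injective

omit [Fintype (G ⧸ H)] [DecidableEq (G ⧸ H)] in
lemma dvd_of_map_dvd {S' : Subring R} {f g : S'[X]} (hf : f.Monic)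
    (h : f.map S'.subtype ∣ g.map S'.subtype) : f ∣ g := by
  rw [← Polynomial.modByMonic_eq_zero_iff_dvd hf]
  apply map_subtype_injective S'
  rw [Polynomial.map_modByMonic _ hf, Polynomial.map_zero]
  exact (Polynomial.modByMonic_eq_zero_iff_dvd (hf.map _)).mpr h

lemma PS_one (x : FixedPoints.subring R H) : PS H x 1 = derivative (fS H x) := by
  apply map_subtype_injective
  rw [map_PS, PR_one, ← map_fS, Polynomial.derivative_map]

lemma PS_add (x t t' : FixedPoints.subring R H) : PS H x (t + t') = PS H x t + PS H x t' := by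
  apply map_subtype_injective
  rw [Polynomial.map_add, map_PS, map_PS, map_PS, PR_add]

lemma PS_zero (x : FixedPoints.subring R H) : PS H x 0 = 0 := by
  apply map_subtype_injective
  rw [Polynomial.map_zero, map_PS, PR_zero]

lemma PS_algebraMap (x : FixedPoints.subring R H) (a : FixedPoints.subring R G) :
    PS H x (algebraMap (FixedPoints.subring R G) (FixedPoints.subring R H) a) =
      C a * derivative (fS H x) := by
  apply map_subtype_injective
  rw [map_PS, Polynomial.map_mul, Polynomial.map_C, ← Polynomial.derivative_map, map_fS]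
  exact PR_of_invariant H x _ (fun g => a.2 g)

lemma fS_dvd_mul (x t t' : FixedPoints.subring R H) :
    fS H x ∣ PS H x (t * t') * derivative (fS H x) - PS H x t * PS H x t' := by
  apply dvd_of_map_dvd (fS_monic H x)
  rw [Polynomial.map_sub, Polynomial.map_mul, Polynomial.map_mul, map_PS, map_PS, map_PS,
    ← Polynomial.derivative_map, map_fS]
  exact fR_dvd_mul H x t t'

lemma fS_dvd_X (x : FixedPoints.subring R H) :
    fS H x ∣ X * derivative (fS H x) - PS H x x := by
  apply dvd_of_map_dvd (fS_monic H x)
  rw [Polynomial.map_sub, Polynomial.map_mul, Polynomial.map_X, map_PS,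
    ← Polynomial.derivative_map, map_fS]
  exact fR_dvd_X H x

/-- evaluation of a polynomial over `R^G` at an element of `R^H`, computed in `R` -/
lemma coe_aeval (x : FixedPoints.subring R H) (p : (FixedPoints.subring R G)[X]) :
    ((aeval x p : FixedPoints.subring R H) : R) =
      (p.map (FixedPoints.subring R G).subtype).eval (x : R) := by
  rw [Polynomial.eval_map, Polynomial.aeval_def]
  have h := Polynomial.hom_eval₂ p (algebraMap (FixedPoints.subring R G) (FixedPoints.subring R H))
    (FixedPoints.subring R H).subtype x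
  exact h

/-- the element `s = f'(x)` of `R^H` -/
def sElt (x : FixedPoints.subring R H) : FixedPoints.subring R H :=
  aeval x (derivative (fS H x))

lemma coe_sElt (x : FixedPoints.subring R H) :
    ((sElt H x : FixedPoints.subring R H) : R) =
      ∏ c ∈ Finset.univ.erase ((1 : G) : G ⧸ H), ((x : R) - conj H x c) := by
  rw [sElt, coe_aeval, ← Polynomial.derivative_map, map_fS, eval_derivative_fR, eval_E_one]

lemma aeval_fS (x : FixedPoints.subring R H) : aeval x (fS H x) = 0 := by
  apply Subtype.val_injective
  rw [coe_aeval, map_fS, eval_fR]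
  rfl

lemma aeval_PS (x t : FixedPoints.subring R H) : aeval x (PS H x t) = t * sElt H x := by
  apply Subtype.val_injective
  rw [coe_aeval, map_PS, eval_PR]
  change _ = (t : R) * ((sElt H x : FixedPoints.subring R H) : R)
  rw [sElt, coe_aeval, ← Polynomial.derivative_map, map_fS, eval_derivative_fR]

/-! ### The standard étale pair and the isomorphism -/

/-- the standard étale pair `(f, f')` over `R^G` -/
def pair (x : FixedPoints.subring R H) : StandardEtalePair (FixedPoints.subring R G) where
  f := fS H x
  monic_f := fS_monic H x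
  g := derivative (fS H x)
  cond := ⟨1, 0, 1, by ring⟩

lemma pair_f (x : FixedPoints.subring R H) : (pair H x).f = fS H x := rfl
lemma pair_g (x : FixedPoints.subring R H) : (pair H x).g = derivative (fS H x) := rfl

lemma aeval_X_fS (x : FixedPoints.subring R H) : aeval (pair H x).X (fS H x) = 0 :=
  (pair H x).hasMap_X.1

lemma isUnit_d (x : FixedPoints.subring R H) :
    IsUnit (aeval (pair H x).X (derivative (fS H x))) :=
  (pair H x).hasMap_X.2

lemma aeval_X_eq_zero_of_dvd (x : FixedPoints.subring R H) {p : (FixedPoints.subring R G)[X]}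
    (h : fS H x ∣ p) : aeval (pair H x).X p = 0 := by
  obtain ⟨w, rfl⟩ := h
  rw [map_mul, aeval_X_fS, zero_mul]

/-- the map `λ : R^H → (R^G[X]/f)[1/f']`, `t ↦ P_t(X)/f'(X)` -/
def lam (x t : FixedPoints.subring R H) : (pair H x).Ring :=
  aeval (pair H x).X (PS H x t) * ↑((isUnit_d H x).unit⁻¹)

lemma lam_mul_d (x t : FixedPoints.subring R H) :
    lam H x t * aeval (pair H x).X (derivative (fS H x)) = aeval (pair H x).X (PS H x t) := by
  rw [lam, mul_assoc]
  have : (↑((isUnit_d H x).unit⁻¹) : (pair H x).Ring) *
      aeval (pair H x).X (derivative (fS H x)) = 1 := by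
    have h := (isUnit_d H x).unit.inv_mul
    rw [IsUnit.unit_spec] at h
    exact h
  rw [this, mul_one]

lemma lam_one (x : FixedPoints.subring R H) : lam H x 1 = 1 := by
  rw [lam, PS_one]
  have h := (isUnit_d H x).unit.mul_inv
  rw [IsUnit.unit_spec] at h
  exact h

lemma lam_zero (x : FixedPoints.subring R H) : lam H x 0 = 0 := by
  rw [lam, PS_zero, map_zero, zero_mul]

lemma lam_add (x t t' : FixedPoints.subring R H) : lam H x (t + t') = lam H x t + lam H x t' := by
  rw [lam, lam, lam, PS_add, map_add, add_mul]

lemma lam_mul (x t t' : FixedPoints.subring R H) : lam H x (t * t') = lam H x t * lam H x t' := by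
  have h := aeval_X_eq_zero_of_dvd H x (fS_dvd_mul H x t t')
  rw [map_sub, map_mul, map_mul, sub_eq_zero] at h
  -- h : ev (PS (t t')) * d = ev (PS t) * ev (PS t')
  have hd := isUnit_d H x
  apply hd.mul_left_injective
  apply hd.mul_left_injective
  change lam H x (t * t') * _ * _ = lam H x t * lam H x t' * _ * _
  rw [lam_mul_d, h]
  have : lam H x t * lam H x t' * aeval (pair H x).X (derivative (fS H x)) *
      aeval (pair H x).X (derivative (fS H x)) =
      (lam H x t * aeval (pair H x).X (derivative (fS H x))) *
      (lam H x t' * aeval (pair H x).X (derivative (fS H x))) := by ring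
  rw [this, lam_mul_d, lam_mul_d]

lemma lam_algebraMap (x : FixedPoints.subring R H) (a : FixedPoints.subring R G) :
    lam H x (algebraMap (FixedPoints.subring R G) (FixedPoints.subring R H) a) =
      algebraMap (FixedPoints.subring R G) (pair H x).Ring a := by
  have hd := isUnit_d H x
  apply hd.mul_left_injective
  change lam H x _ * _ = _ * _
  rw [lam_mul_d, PS_algebraMap, map_mul, Polynomial.aeval_C]

/-- `λ` as an algebra homomorphism -/
def lamAlg (x : FixedPoints.subring R H) :
    FixedPoints.subring R H →ₐ[FixedPoints.subring R G] (pair H x).Ring where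
  toFun := lam H x
  map_one' := lam_one H x
  map_mul' := lam_mul H x
  map_zero' := lam_zero H x
  map_add' := lam_add H x
  commutes' := lam_algebraMap H x

lemma lamAlg_apply (x t : FixedPoints.subring R H) : lamAlg H x t = lam H x t := rfl

lemma lam_x (x : FixedPoints.subring R H) : lam H x x = (pair H x).X := by
  have h := aeval_X_eq_zero_of_dvd H x (fS_dvd_X H x)
  rw [map_sub, map_mul, Polynomial.aeval_X, sub_eq_zero] at h
  have hd := isUnit_d H x
  apply hd.mul_left_injective
  change lam H x x * _ = _ * _
  rw [lam_mul_d, h]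

lemma lamAlg_aeval (x : FixedPoints.subring R H) (p : (FixedPoints.subring R G)[X]) :
    lamAlg H x (aeval x p) = aeval (pair H x).X p := by
  rw [← Polynomial.aeval_algHom_apply, lamAlg_apply, lam_x]

lemma isUnit_lamAlg_sElt (x : FixedPoints.subring R H) : IsUnit (lamAlg H x (sElt H x)) := by
  rw [sElt, lamAlg_aeval]
  exact isUnit_d H x

/-- the inverse map `R^H[1/s] → (R^G[X]/f)[1/f']` -/
def lamLoc (x : FixedPoints.subring R H) :
    Localization.Away (sElt H x) →ₐ[FixedPoints.subring R G] (pair H x).Ring :=
  IsLocalization.Away.liftAlgHom (sElt H x) (f := lamAlg H x) (isUnit_lamAlg_sElt H x)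

lemma lamLoc_algebraMap (x t : FixedPoints.subring R H) :
    lamLoc H x (algebraMap _ (Localization.Away (sElt H x)) t) = lam H x t := by
  rw [lamLoc, IsLocalization.Away.liftAlgHom_apply, IsLocalization.Away.lift_eq]
  rfl

lemma hasMap_x (x : FixedPoints.subring R H) :
    (pair H x).HasMap (algebraMap (FixedPoints.subring R H) (Localization.Away (sElt H x)) x) := by
  constructor
  · rw [pair_f, Polynomial.aeval_algebraMap_apply, aeval_fS, map_zero]
  · rw [pair_g, Polynomial.aeval_algebraMap_apply]
    exact IsLocalization.Away.algebraMap_isUnit (sElt H x)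

/-- the map `ψ : (R^G[X]/f)[1/f'] → R^H[1/s]`, `X ↦ x` -/
def psi (x : FixedPoints.subring R H) :
    (pair H x).Ring →ₐ[FixedPoints.subring R G] Localization.Away (sElt H x) :=
  (pair H x).lift _ (hasMap_x H x)

lemma psi_X (x : FixedPoints.subring R H) :
    psi H x (pair H x).X = algebraMap _ (Localization.Away (sElt H x)) x :=
  (pair H x).lift_X _ _

lemma psi_aeval (x : FixedPoints.subring R H) (p : (FixedPoints.subring R G)[X]) :
    psi H x (aeval (pair H x).X p) =
      algebraMap _ (Localization.Away (sElt H x)) (aeval x p) := by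
  rw [← Polynomial.aeval_algHom_apply, psi_X, Polynomial.aeval_algebraMap_apply]

lemma psi_lam (x t : FixedPoints.subring R H) :
    psi H x (lam H x t) = algebraMap _ (Localization.Away (sElt H x)) t := by
  have hs : IsUnit (algebraMap (FixedPoints.subring R H) (Localization.Away (sElt H x))
      (sElt H x)) := IsLocalization.Away.algebraMap_isUnit (sElt H x)
  apply hs.mul_left_injective
  change psi H x (lam H x t) * _ = _ * _
  have h1 : algebraMap (FixedPoints.subring R H) (Localization.Away (sElt H x)) (sElt H x) =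
      psi H x (aeval (pair H x).X (derivative (fS H x))) := by
    rw [psi_aeval]; rfl
  rw [h1, ← map_mul, lam_mul_d, psi_aeval, aeval_PS, ← h1, map_mul]

/-- **Main isomorphism**: `(R^G[X]/f)[1/f'] ≃ R^H[1/f'(x)]`. -/
def equiv (x : FixedPoints.subring R H) :
    (pair H x).Ring ≃ₐ[FixedPoints.subring R G] Localization.Away (sElt H x) :=
  AlgEquiv.ofAlgHom (psi H x) (lamLoc H x)
    (by
      apply AlgHom.coe_ringHom_injective
      apply IsLocalization.ringHom_ext (Submonoid.powers (sElt H x))
      ext t
      change psi H x (lamLoc H x (algebraMap _ _ t)) = algebraMap _ _ t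
      rw [lamLoc_algebraMap, psi_lam])
    (by
      apply StandardEtalePair.hom_ext
      change lamLoc H x (psi H x (pair H x).X) = (pair H x).X
      rw [psi_X, lamLoc_algebraMap, lam_x])

theorem etale_away (x : FixedPoints.subring R H) :
    Algebra.Etale (FixedPoints.subring R G) (Localization.Away (sElt H x)) :=
  Algebra.Etale.of_equiv (equiv H x)

end

end Groth.Agent.Lib.InvStdEtaleH3
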