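import Mathlib
import Groth.Agent.Lib.InvStdEtale_helper3
import Groth.Agent.Lib.InertiaSep_helper3

/-!
# The inertia ring is étale over the ring of invariants at a prime

Library for S0271 (helper3).
-/

universe u
open Polynomial
open scoped Pointwise

namespace Groth.Agent.Lib.InertiaEtaleH3

variable {G : Type u} [Group G] [Finite G] {R : Type u} [CommRing R] [MulSemiringAction G R]
  (q : Ideal R) [q.IsPrime]

/-- an element invariant under the decomposition group, outside `q`, all of whose conjugates by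
elements outside the decomposition group lie in `q` -/
theorem exists_e : ∃ e : R, (∀ δ : G, δ • q = q → δ • e = e) ∧ e ∉ q ∧
    ∀ σ : G, σ • q ≠ q → σ • e ∈ q := by
  classical
  cases nonempty_fintype G
  let P' : Ideal R := Finset.inf (Finset.univ.filter (fun g : G => g • q ≠ q)) (fun g => g • q)
  have h1 : ¬ P' ≤ q := by
    rw [Ideal.IsPrime.inf_le' inferInstance]
    rintro ⟨g, hg1, hg2⟩
    exact (Finset.mem_filter.mp hg1).2 (smul_eq_of_smul_le hg2)
  obtain ⟨y, hyP, hyq⟩ := SetLike.not_le_iff_exists.mp h1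
  have hy : ∀ g : G, g • q ≠ q → y ∈ g • q := fun g hg =>
    (Finset.inf_le (Finset.mem_filter.mpr ⟨Finset.mem_univ g, hg⟩) : P' ≤ g • q) hyP
  let D : Subgroup G := MulAction.stabilizer G q
  haveI : Fintype D := Fintype.ofFinite _
  refine ⟨∏ δ : D, δ • y, ?_, ?_, ?_⟩
  · intro δ hδ
    exact Finset.smul_prod_perm y (⟨δ, hδ⟩ : D)
  · intro h
    rw [Ideal.IsPrime.prod_mem_iff] at h
    obtain ⟨δ, -, hδ⟩ := h
    apply hyq
    have h2 : (δ : G) • y ∈ (δ : G) • q := by
      rw [show (δ : G) • q = q from δ.2]; exact hδ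
    exact Ideal.smul_mem_pointwise_smul_iff.mp h2
  · intro σ hσ
    rw [Finset.smul_prod']
    apply Ideal.prod_mem (i := (1 : D)) q (Finset.mem_univ _)
    rw [one_smul]
    have h2 : σ⁻¹ • q ≠ q := by
      intro h
      apply hσ
      calc σ • q = σ • (σ⁻¹ • q) := by rw [h]
        _ = q := smul_inv_smul σ q
    have h3 := hy σ⁻¹ h2
    rw [Ideal.mem_pointwise_smul_iff_inv_smul_mem, inv_inv] at h3
    exact h3

/-- from an element `u` moved modulo `q` by some elements of the decomposition group, an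
inertia-invariant element moved modulo `q` by the same elements -/
theorem exists_invariant_moved (u : R) : ∃ y : R, (∀ g ∈ q.inertia G, g • y = y) ∧
    ∀ σ : G, σ • q = q → σ • u - u ∉ q → σ • y - y ∉ q := by
  classical
  cases nonempty_fintype G
  let I : Subgroup G := q.inertia G
  haveI : Fintype I := Fintype.ofFinite _
  let n : ℕ := Fintype.card I
  have hn : n ≠ 0 := Fintype.card_ne_zero
  let F : R[X] := MulSemiringAction.charpoly I u
  let mk := Ideal.Quotient.mk q
  have hFmap : F.map mk = (X - C (mk u)) ^ n := by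
    change (MulSemiringAction.charpoly I u).map mk = _
    rw [MulSemiringAction.charpoly_eq, Polynomial.map_prod]
    have : ∀ g : I, (X - C (g • u)).map mk = X - C (mk u) := by
      intro g
      rw [Polynomial.map_sub, Polynomial.map_X, Polynomial.map_C]
      congr 2
      rw [Ideal.Quotient.eq]
      exact g.2 u
    simp_rw [this]
    rw [Finset.prod_const, Finset.card_univ]
  let p : ℕ := ringExpChar (R ⧸ q)
  haveI hexp : ExpChar (R ⧸ q) p := ringExpChar.expChar _
  have hp0 : 0 < p := expChar_pos (R ⧸ q) p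
  have key : ∀ (p' : ℕ) [ExpChar (R ⧸ q) p'],
      ∃ a m : ℕ, n = p' ^ a * m ∧ ((m : ℕ) : R ⧸ q) ≠ 0 := by
    intro p' hexp'
    rcases hexp' with (_ | ⟨hprime⟩)
    · refine ⟨0, n, by simp, ?_⟩
      exact Nat.cast_ne_zero.mpr hn
    · obtain ⟨e, n', hn', hnn'⟩ := Nat.exists_eq_pow_mul_and_not_dvd hn p' hprime.ne_one
      refine ⟨e, n', hnn', ?_⟩
      rw [Ne, CharP.cast_eq_zero_iff (R ⧸ q) p']
      exact hn'
  obtain ⟨a, m, hnm, hm⟩ := key p
  have hm0 : m ≠ 0 := by
    rintro rfl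
    exact hm (by simp)
  obtain ⟨m₁, rfl⟩ := Nat.exists_eq_succ_of_ne_zero hm0
  let Q : ℕ := p ^ a
  have hQ0 : 0 < Q := pow_pos hp0 a
  let y : R := F.coeff (Q * m₁)
  have hmky : mk y = -((mk u) ^ Q) * ((m₁ + 1 : ℕ) : R ⧸ q) := by
    have h1 : mk y = (F.map mk).coeff (Q * m₁) := (Polynomial.coeff_map _ _).symm
    rw [h1, hFmap, hnm, pow_mul, sub_pow_expChar_pow, ← C_pow]
    have h2 : (X ^ Q - C (mk u ^ Q) : (R ⧸ q)[X]) = expand (R ⧸ q) Q (X + C (-(mk u ^ Q))) := by
      rw [map_add, expand_X, expand_C, C_neg, sub_eq_add_neg]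
    rw [h2, ← map_pow, coeff_expand_mul' hQ0, coeff_X_add_C_pow, Nat.succ_sub (le_refl _),
      Nat.sub_self, pow_one, Nat.choose_succ_self_right]
  refine ⟨y, ?_, ?_⟩
  · intro g hg
    exact MulSemiringAction.smul_coeff_charpoly u (Q * m₁) (⟨g, hg⟩ : I)
  · intro σ hσ hu hy
    have hle : q ≤ Ideal.comap (MulSemiringAction.toRingHom G R σ) q := by
      intro r hr
      rw [Ideal.mem_comap]
      change σ • r ∈ q
      rw [← hσ]
      exact Ideal.smul_mem_pointwise_smul σ r q hr
    let σbar : R ⧸ q →+* R ⧸ q := Ideal.quotientMap q (MulSemiringAction.toRingHom G R σ) hle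
    have hσbar : ∀ r : R, σbar (mk r) = mk (σ • r) := fun r => Ideal.quotientMap_mk
    have h3 : mk (σ • y - y) = 0 := Ideal.Quotient.eq_zero_iff_mem.mpr hy
    rw [map_sub, ← hσbar, hmky, map_mul, map_neg, map_pow, map_natCast, hσbar] at h3
    have h4 : -(mk (σ • u) ^ Q) * ((m₁ + 1 : ℕ) : R ⧸ q) - -(mk u ^ Q) * ((m₁ + 1 : ℕ) : R ⧸ q) =
        -((mk (σ • u) - mk u) ^ Q * ((m₁ + 1 : ℕ) : R ⧸ q)) := by
      rw [sub_pow_expChar_pow]
      ring
    rw [h4, neg_eq_zero, mul_eq_zero] at h3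
    rcases h3 with h3 | h3
    · have h5 := pow_eq_zero_iff (pow_pos hp0 a).ne' |>.mp h3
      rw [← map_sub] at h5
      exact hu (Ideal.Quotient.eq_zero_iff_mem.mp h5)
    · exact hm h3

theorem exists_moved : ∃ u : R, ∀ σ : G, σ • q = q → σ ∉ q.inertia G → σ • u - u ∉ q := by
  classical
  let A : Subring R := FixedPoints.subring R G
  let p : Ideal A := q.under A
  haveI : p.IsPrime := inferInstance
  haveI : q.LiesOver p := ⟨rfl⟩
  haveI : Algebra.IsInvariant A R G := inferInstance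
  haveI : Algebra.IsIntegral A R := Algebra.IsInvariant.isIntegral A R G
  let K := FractionRing (A ⧸ p)
  let L := FractionRing (R ⧸ q)
  letI : Algebra K L := FractionRing.liftAlgebra (A ⧸ p) L
  haveI : IsScalarTower (A ⧸ p) K L := FractionRing.isScalarTower_liftAlgebra _ _
  haveI : Algebra.IsAlgebraic K L := isAlgebraic_of_isFractionRing (A ⧸ p) (R ⧸ q) K L
  let ι := {σ : MulAction.stabilizer G q // (σ : G) ∉ q.inertia G}
  let s : ι → (L ≃ₐ[K] L) := fun i => IsFractionRing.stabilizerHom G p q K L i.1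
  have hsapp : ∀ (i : ι) (x : R), s i (algebraMap (R ⧸ q) L (Ideal.Quotient.mk q x)) =
      algebraMap (R ⧸ q) L (Ideal.Quotient.mk q ((i.1 : G) • x)) := fun i x =>
    IsFractionRing.stabilizerHom_apply_apply_mk G p q K L i.1 x
  have hs : ∀ i, s i ≠ AlgEquiv.refl := by
    intro i h
    apply i.2
    intro x
    have h1 := hsapp i x
    rw [h, AlgEquiv.coe_refl, id] at h1
    have h2 := IsFractionRing.injective (R ⧸ q) L h1
    rw [eq_comm, Ideal.Quotient.eq] at h2
    exact h2
  obtain ⟨θ, -, -, hθ⟩ := Groth.Agent.Lib.InertiaSep.exists_theta s hs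
  obtain ⟨x, y, hy, rfl⟩ := IsFractionRing.div_surjective (A := R ⧸ q) θ
  obtain ⟨b, a, ha, h⟩ :=
    (Algebra.IsAlgebraic.isAlgebraic (R := A ⧸ p) (y : R ⧸ q)).exists_smul_eq_mul x hy
  have ha' : algebraMap (A ⧸ p) L a ≠ 0 := by
    rw [Ne, IsScalarTower.algebraMap_apply (A ⧸ p) K L, map_eq_zero_iff _ (algebraMap K L).injective,
      FaithfulSMul.algebraMap_eq_zero_iff]
    exact ha
  have hy' : algebraMap (R ⧸ q) L y ≠ 0 :=
    mt (FaithfulSMul.algebraMap_eq_zero_iff (R ⧸ q) L).mp (nonZeroDivisors.ne_zero hy)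
  have h' : algebraMap (R ⧸ q) L x / algebraMap (R ⧸ q) L y =
      algebraMap (R ⧸ q) L b / algebraMap (A ⧸ p) L a := by
    rw [mul_comm, Algebra.smul_def, mul_comm] at h
    rw [div_eq_div_iff hy' ha', ← map_mul, ← h, map_mul, ← IsScalarTower.algebraMap_apply]
  obtain ⟨u, rfl⟩ := Ideal.Quotient.mk_surjective b
  refine ⟨u, ?_⟩
  intro σ hσ hσI hmem
  let i : ι := ⟨⟨σ, hσ⟩, hσI⟩
  apply hθ i
  rw [h', map_div₀, hsapp i u]
  have h1 : Ideal.Quotient.mk q ((i.1 : G) • u) = Ideal.Quotient.mk q u :=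
    Ideal.Quotient.eq.mpr hmem
  rw [h1, IsScalarTower.algebraMap_apply (A ⧸ p) K L, AlgEquiv.commutes]

theorem exists_separating : ∃ x : R, (∀ g ∈ q.inertia G, g • x = x) ∧
    ∀ σ : G, σ ∉ q.inertia G → x - σ • x ∉ q := by
  obtain ⟨e, heD, heq, heσ⟩ := exists_e (G := G) q
  obtain ⟨u, hu⟩ := exists_moved (G := G) q
  obtain ⟨y, hyI, hy⟩ := exists_invariant_moved (G := G) q u
  obtain ⟨θ, hθI, hθq, hθ⟩ : ∃ θ : R, (∀ g ∈ q.inertia G, g • θ = θ) ∧ θ ∉ q ∧
      ∀ σ : G, σ • q = q → σ ∉ q.inertia G → σ • θ - θ ∉ q := by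
    by_cases hyq : y ∈ q
    · refine ⟨y + 1, ?_, ?_, ?_⟩
      · intro g hg
        rw [smul_add, smul_one, hyI g hg]
      · intro h
        have h1 : (1 : R) ∈ q := by
          have := q.sub_mem h hyq
          rwa [add_sub_cancel_left] at this
        exact (Ideal.ne_top_iff_one q).mp (Ideal.IsPrime.ne_top inferInstance) h1
      · intro σ hσ hσI
        have : σ • (y + 1) - (y + 1) = σ • y - y := by
          rw [smul_add, smul_one]; ring
        rw [this]
        exact hy σ hσ (hu σ hσ hσI)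
    · exact ⟨y, hyI, hyq, fun σ hσ hσI => hy σ hσ (hu σ hσ hσI)⟩
  refine ⟨e * θ, ?_, ?_⟩
  · intro g hg
    have hgD : g • q = q := Ideal.inertia_le_stabilizer q hg
    rw [smul_mul', heD g hgD, hθI g hg]
  · intro σ hσI h
    by_cases hσ : σ • q = q
    · have h1 : e * θ - σ • (e * θ) = -(e * (σ • θ - θ)) := by
        rw [smul_mul', heD σ hσ]; ring
      rw [h1, Ideal.neg_mem_iff] at h
      rcases Ideal.IsPrime.mem_or_mem inferInstance h with h2 | h2
      · exact heq h2
      · exact hθ σ hσ hσI h2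
    · have h1 : σ • (e * θ) ∈ q := by
        rw [smul_mul']
        exact Ideal.mul_mem_right _ _ (heσ σ hσ)
      have h2 : e * θ ∈ q := by
        have := q.add_mem h h1
        rwa [sub_add_cancel] at this
      rcases Ideal.IsPrime.mem_or_mem inferInstance h2 with h3 | h3
      · exact heq h3
      · exact hθq h3

open Groth.Agent.Lib.InvStdEtaleH3 in
/-- **Main theorem**: the ring of inertia invariants is étale over the ring of invariants at the
prime below `q`. -/
theorem main : ∃ g : FixedPoints.subring R (q.inertia G),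
    g ∉ q.comap (FixedPoints.subring R (q.inertia G)).subtype ∧
      Algebra.Etale (FixedPoints.subring R G) (Localization.Away g) := by
  classical
  haveI : Fintype (G ⧸ q.inertia G) := Fintype.ofFinite _
  obtain ⟨x, hxI, hx⟩ := exists_separating (G := G) q
  let xT : FixedPoints.subring R (q.inertia G) := ⟨x, fun g => hxI g.1 g.2⟩
  refine ⟨sElt (q.inertia G) xT, ?_, etale_away (q.inertia G) xT⟩
  rw [Ideal.mem_comap]
  change ((sElt (q.inertia G) xT : FixedPoints.subring R (q.inertia G)) : R) ∉ q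
  rw [coe_sElt]
  intro h
  rw [Ideal.IsPrime.prod_mem_iff] at h
  obtain ⟨c, hc, hcq⟩ := h
  have hc1 : c ≠ ((1 : G) : G ⧸ q.inertia G) := (Finset.mem_erase.mp hc).1
  induction c using Quotient.inductionOn' with
  | h a =>
    have ha : a ∉ q.inertia G := by
      intro ha
      apply hc1
      change ((a : G) : G ⧸ q.inertia G) = ((1 : G) : G ⧸ q.inertia G)
      rw [QuotientGroup.eq, mul_one]
      exact inv_mem ha
    exact hx a ha hcq

end Groth.Agent.Lib.InertiaEtaleH3
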