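import Mathlib
import Groth.Agent.Lib.InertiaEtale_helper3
import Groth.Agent.Lib.IndEtale1_helper3

/-!
# Inertia invariants of an infinite Galois extension are ind-étale (library for S9494, helper3)
-/

universe u
open scoped Pointwise

namespace Groth.Agent.Lib.IndEtaleInertiaH3

section Criterion

/-- If every finite subset of `T` lies in the image of an injective map from an étale
`A`-algebra, then `T` is ind-étale over `A`. -/
theorem isIndEtale_of_finset {A T : Type u} [CommRing A] [CommRing T] [Algebra A T]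
    (h : ∀ F : Finset T, ∃ (C : Type u) (_ : CommRing C) (φ : A →+* C) (j : C →+* T),
      φ.Etale ∧ Function.Injective j ∧ j.comp φ = algebraMap A T ∧ ∀ t ∈ F, t ∈ Set.range j) :
    EtPBC.IsIndEtale A T := by
  classical
  apply Groth.Agent.Lib.IndEtaleH3.isIndEtale_of_exists
  · intro b
    obtain ⟨C, _, φ, j, hφ, hj, hcomp, hF⟩ := h {b}
    letI : Algebra A C := φ.toAlgebra
    have hét : Algebra.Etale A C := by
      rw [← RingHom.etale_algebraMap, RingHom.algebraMap_toAlgebra]
      exact hφ
    obtain ⟨c, hc⟩ := hF b (Finset.mem_singleton_self b)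
    exact ⟨C, inferInstance, inferInstance, hét,
      { j with commutes' := fun r => congr($hcomp r) }, c, hc⟩
  · intro C _ _ _ f c hc
    obtain ⟨s, hs⟩ := (Algebra.FiniteType.out : (⊤ : Subalgebra A C).FG)
    obtain ⟨C', _, φ, j, hφ, hj, hcomp, hF⟩ := h (s.image f)
    letI : Algebra A C' := φ.toAlgebra
    have hét : Algebra.Etale A C' := by
      rw [← RingHom.etale_algebraMap, RingHom.algebraMap_toAlgebra]
      exact hφ
    let j' : C' →ₐ[A] T := { j with commutes' := fun r => congr($hcomp r) }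
    have hj' : Function.Injective j' := hj
    have hrange : ∀ x : C, f x ∈ j'.range := by
      intro x
      have hx : x ∈ Algebra.adjoin A (s : Set C) := by rw [hs]; trivial
      induction hx using Algebra.adjoin_induction with
      | mem y hy =>
        obtain ⟨z, hz⟩ := hF (f y) (Finset.mem_image_of_mem f hy)
        exact ⟨z, hz⟩
      | algebraMap r => rw [AlgHom.commutes]; exact Subalgebra.algebraMap_mem _ r
      | add x y _ _ hx hy => rw [map_add]; exact add_mem hx hy
      | mul x y _ _ hx hy => rw [map_mul]; exact mul_mem hx hy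
    let g₀ : C →ₐ[A] j'.range := f.codRestrict j'.range hrange
    let g : C →ₐ[A] C' := ((AlgEquiv.ofInjective j' hj').symm : j'.range →ₐ[A] C').comp g₀
    have hg : ∀ x, j' (g x) = f x := by
      intro x
      have := (AlgEquiv.ofInjective j' hj').apply_symm_apply (g₀ x)
      exact congrArg Subtype.val this
    refine ⟨C', inferInstance, inferInstance, hét, g, j', AlgHom.ext hg, ?_⟩
    apply hj'
    rw [hg, hc, map_zero]

/-- A chart: a two-step principal localization of a ring `R'` mapping injectively to `T`. -/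
theorem chart {A T R' : Type u} [CommRing A] [CommRing T] [Algebra A T] [CommRing R']
    (ψ : R' →+* T) (hψ : Function.Injective ψ) (φ₀ : A →+* R')
    (hφ₀ : ψ.comp φ₀ = algebraMap A T)
    (g u : R') (hg : IsUnit (ψ g)) (hu : IsUnit (ψ u))
    (hét : ((algebraMap R' (Localization.Away g)).comp φ₀).Etale) :
    ∃ (C : Type u) (_ : CommRing C) (φ : A →+* C) (j : C →+* T), φ.Etale ∧
      Function.Injective j ∧ j.comp φ = algebraMap A T ∧
      ∀ t : T, (∃ s : R', ψ u * t = ψ s) → t ∈ Set.range j := by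
  let C₁ := Localization.Away g
  let u₁ : C₁ := algebraMap R' C₁ u
  let C₂ := Localization.Away u₁
  let j₁ : C₁ →+* T := IsLocalization.Away.lift g (g := ψ) hg
  have hj₁ : ∀ x, j₁ (algebraMap R' C₁ x) = ψ x := IsLocalization.Away.lift_eq g hg
  have hj₁inj : Function.Injective j₁ := by
    rw [IsLocalization.injective_iff_map_algebraMap_eq (Submonoid.powers g)]
    intro x y
    rw [hj₁, hj₁]
    exact ⟨fun h => by rw [← hj₁ x, ← hj₁ y, h], fun h => congrArg _ (hψ h)⟩
  have hu₁ : IsUnit (j₁ u₁) := by rw [hj₁]; exact hu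
  let j₂ : C₂ →+* T := IsLocalization.Away.lift u₁ (g := j₁) hu₁
  have hj₂ : ∀ x, j₂ (algebraMap C₁ C₂ x) = j₁ x := IsLocalization.Away.lift_eq u₁ hu₁
  have hj₂inj : Function.Injective j₂ := by
    rw [IsLocalization.injective_iff_map_algebraMap_eq (Submonoid.powers u₁)]
    intro x y
    rw [hj₂, hj₂]
    exact ⟨fun h => by rw [← hj₂ x, ← hj₂ y, h], fun h => congrArg _ (hj₁inj h)⟩
  refine ⟨C₂, inferInstance, (algebraMap C₁ C₂).comp ((algebraMap R' C₁).comp φ₀), j₂, ?_,
    hj₂inj, ?_, ?_⟩
  · exact RingHom.Etale.stableUnderComposition _ _ hét (RingHom.etale_algebraMap.mpr inferInstance)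
  · ext a
    simp only [RingHom.comp_apply]
    rw [hj₂, hj₁, ← hφ₀]
    rfl
  · rintro t ⟨s, hs⟩
    refine ⟨IsLocalization.Away.invSelf u₁ * algebraMap C₁ C₂ (algebraMap R' C₁ s), ?_⟩
    have h1 : j₂ (algebraMap C₁ C₂ u₁) * j₂ (IsLocalization.Away.invSelf u₁) = 1 := by
      rw [← map_mul, IsLocalization.Away.mul_invSelf, map_one]
    rw [hj₂, hj₁] at h1
    rw [map_mul, hj₂, hj₁, ← hs, ← mul_assoc, mul_comm _ (ψ u), h1, one_mul]

end Criterion

section Level

variable {A K L : Type u} [CommRing A] [IsDomain A] [IsIntegrallyClosed A]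
    [Field K] [Field L] [Algebra A K] [IsFractionRing A K] [Algebra K L] [Algebra A L]
    [IsScalarTower A K L] [IsGalois K L] (q : Ideal (integralClosure A L)) [q.IsPrime]

instance smulCommClassE (E : IntermediateField K L) : SMulCommClass (E ≃ₐ[K] E) A E where
  smul_comm σ a x := by
    change σ (a • x) = a • σ x
    rw [← algebraMap_smul K a x, ← algebraMap_smul K a (σ x), map_smul]

instance isScalarTowerE (E : IntermediateField K L) : IsScalarTower A E L :=
  IsScalarTower.of_algebraMap_eq (fun _ => rfl)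

theorem isIntegral_coe_iff (E : IntermediateField K L) (x : E) :
    IsIntegral A (x : L) ↔ IsIntegral A x :=
  isIntegral_algHom_iff (IsScalarTower.toAlgHom A E L) (algebraMap E L).injective

variable (E : IntermediateField K L)

/-- the inclusion of integral closures -/
noncomputable def rho : integralClosure A E →ₐ[A] integralClosure A L :=
  ((IsScalarTower.toAlgHom A E L).comp (integralClosure A E).val).codRestrict (integralClosure A L)
    (fun x => x.2.map (IsScalarTower.toAlgHom A E L))

theorem coe_rho (x : integralClosure A E) : ((rho (A := A) E x : integralClosure A L) : L) = ((x : E) : L) :=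
  rfl

/-- the prime of the integral closure at level `E` -/
noncomputable def qE : Ideal (integralClosure A E) := q.comap (rho (A := A) E)

instance : (qE q E).IsPrime := Ideal.comap_isPrime _ _

/-- the inertia group at level `E` -/
noncomputable abbrev IE : Subgroup (E ≃ₐ[K] E) := (qE q E).inertia (E ≃ₐ[K] E)

theorem mem_IE_iff (τ : E ≃ₐ[K] E) : τ ∈ IE q E ↔ ∀ b : integralClosure A E,
    ∃ c ∈ q, (c : L) = ((τ (b : E) : E) : L) - ((b : E) : L) := by
  constructor
  · intro h b
    exact ⟨rho E (τ • b - b), h b, rfl⟩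
  · intro h b
    obtain ⟨c, hc, hcv⟩ := h b
    change rho E (τ • b - b) ∈ q
    have : rho E (τ • b - b) = c := Subtype.ext hcv.symm
    rw [this]
    exact hc

theorem restrictNormal_mem_IE [Normal K E] (σ : L ≃ₐ[K] L)
    (hσ : ∀ b : integralClosure A L, ∃ c ∈ q, (c : L) = σ b - b) :
    σ.restrictNormal E ∈ IE q E := by
  rw [mem_IE_iff]
  intro b
  obtain ⟨c, hc, hcv⟩ := hσ (rho E b)
  refine ⟨c, hc, ?_⟩
  rw [hcv]
  congr 1
  exact (AlgEquiv.restrictNormal_commutes σ E (b : E)).symm

/-- the inertia field at level `E`, as a subfield of `L` -/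
noncomputable def ME : IntermediateField K L :=
  IntermediateField.lift (IntermediateField.fixedField (IE q E))

theorem mem_ME_iff (y : L) : y ∈ ME q E ↔ ∃ x : E, (∀ τ ∈ IE q E, τ x = x) ∧ (x : L) = y := by
  unfold ME IntermediateField.lift
  rw [IntermediateField.mem_map]
  constructor
  · rintro ⟨x, hx, rfl⟩
    exact ⟨x, (IntermediateField.mem_fixedField_iff _ _).mp hx, rfl⟩
  · rintro ⟨x, hx, rfl⟩
    exact ⟨x, (IntermediateField.mem_fixedField_iff _ _).mpr hx, rfl⟩

theorem ME_le_fixedField [Normal K E] (I : Subgroup (L ≃ₐ[K] L))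
    (hI : ∀ σ, σ ∈ I → ∀ b : integralClosure A L, ∃ c ∈ q, (c : L) = σ b - b) :
    ME q E ≤ IntermediateField.fixedField I := by
  intro y hy
  obtain ⟨x, hx, rfl⟩ := (mem_ME_iff q E y).mp hy
  rw [IntermediateField.mem_fixedField_iff]
  intro σ hσ
  have h1 := hx _ (restrictNormal_mem_IE q E σ (hI σ hσ))
  have h2 := AlgEquiv.restrictNormal_commutes σ E x
  rw [h1] at h2
  exact h2.symm

variable {E}

theorem ME_mono {E' : IntermediateField K L} [Normal K E] [Normal K E'] (hEE' : E ≤ E') :
    ME q E ≤ ME q E' := by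
  intro y hy
  obtain ⟨x, hx, rfl⟩ := (mem_ME_iff q E y).mp hy
  rw [mem_ME_iff]
  refine ⟨⟨(x : L), hEE' x.2⟩, ?_, rfl⟩
  intro τ' hτ'
  obtain ⟨σ, hσ⟩ := AlgEquiv.restrictNormalHom_surjective (F := K) (K₁ := E') L τ'
  have hτ : σ.restrictNormal E ∈ IE q E := by
    rw [mem_IE_iff]
    intro b
    have hb' : IsIntegral A (⟨((b : E) : L), hEE' (b : E).2⟩ : E') := by
      rw [← isIntegral_coe_iff]
      exact (isIntegral_coe_iff E (b : E)).mpr b.2
    obtain ⟨c, hc, hcv⟩ := (mem_IE_iff q E' τ').mp hτ' ⟨⟨((b : E) : L), hEE' (b : E).2⟩, hb'⟩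
    refine ⟨c, hc, ?_⟩
    rw [hcv]
    congr 1
    rw [← hσ]
    have h1 := AlgEquiv.restrictNormal_commutes σ E' ⟨((b : E) : L), hEE' (b : E).2⟩
    have h2 := AlgEquiv.restrictNormal_commutes σ E (b : E)
    exact h1.trans h2.symm
  have h1 := hx _ hτ
  apply Subtype.ext
  rw [← hσ]
  have h2 := AlgEquiv.restrictNormal_commutes σ E' ⟨(x : L), hEE' x.2⟩
  have h3 := AlgEquiv.restrictNormal_commutes σ E x
  rw [h1] at h3
  exact h2.trans h3.symm

variable (K L) in
/-- the index set of finite normal levels -/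
abbrev Lvl := {E : IntermediateField K L // FiniteDimensional K E ∧ Normal K E}

omit [IsGalois K L] in
theorem exists_level [Normal K L] (b : L) : ∃ E : Lvl K L, b ∈ E.1 := by
  have hb : IsIntegral K b := Algebra.IsIntegral.isIntegral b
  haveI : FiniteDimensional K (IntermediateField.adjoin K {b}) :=
    IntermediateField.adjoin.finiteDimensional hb
  refine ⟨⟨IntermediateField.normalClosure K (IntermediateField.adjoin K {b}) L,
    inferInstance, inferInstance⟩, ?_⟩
  exact IntermediateField.le_normalClosure _ (IntermediateField.mem_adjoin_simple_self K b)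

theorem directed_ME : Directed (· ≤ ·) (fun i : Lvl K L => ME q i.1) := by
  rintro ⟨E₁, h₁, n₁⟩ ⟨E₂, h₂, n₂⟩
  haveI := h₁
  haveI := h₂
  haveI := n₁
  haveI := n₂
  exact ⟨⟨E₁ ⊔ E₂, inferInstance, inferInstance⟩, ME_mono q le_sup_left, ME_mono q le_sup_right⟩

theorem fixedField_le_iSup (I : Subgroup (L ≃ₐ[K] L))
    (hI : ∀ σ : L ≃ₐ[K] L, σ ∈ I ↔ ∀ b : integralClosure A L, ∃ c ∈ q, (c : L) = σ b - b) :
    IntermediateField.fixedField I ≤ ⨆ i : Lvl K L, ME q i.1 := by
  set F' : IntermediateField K L := ⨆ i : Lvl K L, ME q i.1 with hF'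
  have h1 : F'.fixingSubgroup ≤ I := by
    intro σ hσ
    rw [hI]
    intro b
    obtain ⟨⟨E, hfd, hn⟩, hbE⟩ := exists_level (K := K) (L := L) (b : L)
    haveI := hfd
    haveI := hn
    have hτ : σ.restrictNormal E ∈ IE q E := by
      rw [← IntermediateField.fixingSubgroup_fixedField (IE q E),
        IntermediateField.mem_fixingSubgroup_iff]
      intro x hx
      have hxL : (x : L) ∈ F' := by
        have : ME q E ≤ F' := le_iSup (fun i : Lvl K L => ME q i.1) ⟨E, hfd, hn⟩
        apply this
        rw [mem_ME_iff]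
        exact ⟨x, (IntermediateField.mem_fixedField_iff _ _).mp hx, rfl⟩
      have h2 := (IntermediateField.mem_fixingSubgroup_iff F' σ).mp hσ _ hxL
      apply Subtype.ext
      have h3 := AlgEquiv.restrictNormal_commutes σ E x
      exact h3.trans h2
    have hbint : IsIntegral A (⟨(b : L), hbE⟩ : E) := (isIntegral_coe_iff E _).mp b.2
    obtain ⟨c, hc, hcv⟩ := (mem_IE_iff q E _).mp hτ ⟨⟨(b : L), hbE⟩, hbint⟩
    refine ⟨c, hc, ?_⟩
    rw [hcv]
    congr 1
    exact AlgEquiv.restrictNormal_commutes σ E ⟨(b : L), hbE⟩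
  calc IntermediateField.fixedField I ≤ IntermediateField.fixedField F'.fixingSubgroup :=
        IntermediateField.fixedField_antitone h1
    _ = F' := InfiniteGalois.fixedField_fixingSubgroup F'

theorem exists_level_of_mem_fixedField (I : Subgroup (L ≃ₐ[K] L))
    (hI : ∀ σ : L ≃ₐ[K] L, σ ∈ I ↔ ∀ b : integralClosure A L, ∃ c ∈ q, (c : L) = σ b - b)
    (y : L) (hy : y ∈ IntermediateField.fixedField I) : ∃ i : Lvl K L, y ∈ ME q i.1 := by
  haveI : Nonempty (Lvl K L) := ⟨(exists_level (K := K) (L := L) 0).choose⟩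
  have h1 := fixedField_le_iSup q I hI hy
  have h2 : y ∈ ((⨆ i : Lvl K L, ME q i.1 : IntermediateField K L) : Set L) := h1
  rw [IntermediateField.coe_iSup_of_directed (directed_ME q)] at h2
  exact Set.mem_iUnion.mp h2

end Level

end Groth.Agent.Lib.IndEtaleInertiaH3
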