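import Mathlib
import Groth.Agent.Lib.IndEtaleInertia_helper3

/-!
# Inertia invariants of an infinite Galois extension are ind-étale, part 2 (S9494, helper3)
-/

universe u
open scoped Pointwise

namespace Groth.Agent.Lib.IndEtaleInertiaH3

section Chart

variable {A K L : Type u} [CommRing A] [IsDomain A] [IsIntegrallyClosed A]
    [Field K] [Field L] [Algebra A K] [IsFractionRing A K] [Algebra K L] [Algebra A L]
    [IsScalarTower A K L] [IsGalois K L] (q : Ideal (integralClosure A L)) [q.IsPrime]

variable (E : IntermediateField K L) [FiniteDimensional K E] [Normal K E]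

theorem mem_range_A (b : integralClosure A E) :
    (∀ τ : E ≃ₐ[K] E, τ • b = b) ↔ b ∈ Set.range (algebraMap A (integralClosure A E)) := by
  haveI : Algebra.IsSeparable K E := Algebra.isSeparable_tower_bot_of_isSeparable K E L
  haveI : IsGalois K E := ⟨⟩
  constructor
  · intro h
    have hbot : (b : E) ∈ (⊥ : IntermediateField K E) := by
      rw [IsGalois.mem_bot_iff_fixed]
      intro τ
      exact congrArg Subtype.val (h τ)
    obtain ⟨k, hk⟩ := IntermediateField.mem_bot.mp hbot
    have h1 : IsIntegral A (b : E) := b.2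
    rw [← hk, isIntegral_algebraMap_iff (algebraMap K E).injective] at h1
    obtain ⟨a, ha⟩ := IsIntegrallyClosed.isIntegral_iff.mp h1
    refine ⟨a, Subtype.ext ?_⟩
    change algebraMap A E a = (b : E)
    rw [IsScalarTower.algebraMap_apply A K E, ha, hk]
  · rintro ⟨a, rfl⟩ τ
    apply Subtype.ext
    change τ (algebraMap A E a) = algebraMap A E a
    rw [IsScalarTower.algebraMap_apply A K E, AlgEquiv.commutes]

/-- `A → (integral closure)^G`, a bijection -/
noncomputable def e0 : A →+* FixedPoints.subring (integralClosure A E) (E ≃ₐ[K] E) :=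
  (algebraMap A (integralClosure A E)).codRestrict
    (FixedPoints.subring (integralClosure A E) (E ≃ₐ[K] E))
    (fun a τ => (mem_range_A E _).mpr ⟨a, rfl⟩ τ)

theorem e0_bijective : Function.Bijective (e0 (A := A) E) := by
  constructor
  · intro a a' h
    have h1 : algebraMap A (integralClosure A E) a = algebraMap A (integralClosure A E) a' :=
      congrArg Subtype.val h
    have h2 : algebraMap A L a = algebraMap A L a' :=
      congrArg (fun x : integralClosure A E => ((x : E) : L)) h1
    have h3 : Function.Injective (algebraMap A L) := by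
      rw [IsScalarTower.algebraMap_eq A K L]
      exact (algebraMap K L).injective.comp (IsFractionRing.injective A K)
    exact h3 h2
  · intro b
    obtain ⟨a, ha⟩ := (mem_range_A E b.1).mp (fun τ => b.2 τ)
    exact ⟨a, Subtype.ext ha⟩

variable (A) in
/-- the ring `B ∩ L^I` -/
abbrev SI (I : Subgroup (L ≃ₐ[K] L)) : Subalgebra A L :=
  integralClosure A L ⊓ (IntermediateField.fixedField I).toSubalgebra.restrictScalars A

/-- the map from the level-`E` inertia invariants to `B ∩ L^I` -/
noncomputable def psi (I : Subgroup (L ≃ₐ[K] L))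
    (hI : ∀ σ, σ ∈ I → ∀ b : integralClosure A L, ∃ c ∈ q, (c : L) = σ b - b) :
    FixedPoints.subring (integralClosure A E) (IE q E) →+* SI A I :=
  ((algebraMap E L).comp ((integralClosure A E).val.toRingHom.comp
    (FixedPoints.subring (integralClosure A E) (IE q E)).subtype)).codRestrict (SI A I)
    (fun x => by
      refine Algebra.mem_inf.mpr ⟨?_, ?_⟩
      · exact (isIntegral_coe_iff E _).mpr x.1.2
      · change (((x.1 : integralClosure A E) : E) : L) ∈ IntermediateField.fixedField I
        apply ME_le_fixedField q E I hI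
        rw [mem_ME_iff]
        refine ⟨(x.1 : E), ?_, rfl⟩
        intro τ hτ
        exact congrArg Subtype.val (x.2 ⟨τ, hτ⟩))

theorem coe_psi (I : Subgroup (L ≃ₐ[K] L))
    (hI : ∀ σ, σ ∈ I → ∀ b : integralClosure A L, ∃ c ∈ q, (c : L) = σ b - b)
    (x : FixedPoints.subring (integralClosure A E) (IE q E)) :
    ((psi q E I hI x : SI A I) : L) = (((x : integralClosure A E) : E) : L) := rfl

theorem psi_injective (I : Subgroup (L ≃ₐ[K] L))
    (hI : ∀ σ, σ ∈ I → ∀ b : integralClosure A L, ∃ c ∈ q, (c : L) = σ b - b) :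
    Function.Injective (psi q E I hI) := by
  intro x y h
  have h1 := congrArg (fun s : SI A I => (s : L)) h
  simp only [coe_psi] at h1
  exact Subtype.ext (Subtype.ext (Subtype.ext h1))

theorem exists_psi_eq (I : Subgroup (L ≃ₐ[K] L))
    (hI : ∀ σ, σ ∈ I → ∀ b : integralClosure A L, ∃ c ∈ q, (c : L) = σ b - b)
    (s : SI A I) (hs : (s : L) ∈ ME q E) : ∃ x, psi q E I hI x = s := by
  obtain ⟨x, hx, hxs⟩ := (mem_ME_iff q E _).mp hs
  have hint : IsIntegral A x := by
    rw [← isIntegral_coe_iff, hxs]
    exact (Algebra.mem_inf.mp s.2).1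
  refine ⟨⟨⟨x, hint⟩, ?_⟩, Subtype.ext hxs⟩
  rintro ⟨τ, hτ⟩
  exact Subtype.ext (hx τ hτ)

open Pi1 in
theorem exists_chart (I : Subgroup (L ≃ₐ[K] L))
    (hI : ∀ σ, σ ∈ I → ∀ b : integralClosure A L, ∃ c ∈ q, (c : L) = σ b - b)
    (T : Type u) [CommRing T] [Algebra (SI A I) T] [Algebra A T] [IsScalarTower A (SI A I) T]
    (hinj : Function.Injective (algebraMap (SI A I) T))
    (hunit : ∀ s : SI A I,
      Subalgebra.inclusion (inf_le_left : SI A I ≤ integralClosure A L) s ∉ q →
        IsUnit (algebraMap (SI A I) T s))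
    (u : SI A I) (hu : Subalgebra.inclusion (inf_le_left : SI A I ≤ integralClosure A L) u ∉ q)
    (huE : (u : L) ∈ ME q E) :
    ∃ (C : Type u) (_ : CommRing C) (φ : A →+* C) (j : C →+* T), φ.Etale ∧
      Function.Injective j ∧ j.comp φ = algebraMap A T ∧
      ∀ t : T, (∃ s : SI A I, (s : L) ∈ ME q E ∧
        algebraMap (SI A I) T u * t = algebraMap (SI A I) T s) → t ∈ Set.range j := by
  obtain ⟨g, hg, hét⟩ := Groth.Agent.Lib.InertiaEtaleH3.main (G := E ≃ₐ[K] E)
    (R := integralClosure A E) (qE q E)
  obtain ⟨u', hu'⟩ := exists_psi_eq q E I hI u huE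
  let R' := FixedPoints.subring (integralClosure A E) (IE q E)
  let RG := FixedPoints.subring (integralClosure A E) (E ≃ₐ[K] E)
  let ψ : R' →+* T := (algebraMap (SI A I) T).comp (psi q E I hI)
  let φ₀ : A →+* R' := (algebraMap RG R').comp (e0 E)
  have hψ : Function.Injective ψ := hinj.comp (psi_injective q E I hI)
  have hφ₀ : ψ.comp φ₀ = algebraMap A T := by
    ext a
    simp only [RingHom.comp_apply, ψ, φ₀]
    rw [IsScalarTower.algebraMap_apply A (SI A I) T]
    congr 1
  have hgu : IsUnit (ψ g) := by
    apply hunit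
    intro h
    apply hg
    rw [Ideal.mem_comap]
    exact h
  have huu : IsUnit (ψ u') := by
    change IsUnit (algebraMap (SI A I) T (psi q E I hI u'))
    rw [hu']
    exact hunit u hu
  have hét' : ((algebraMap R' (Localization.Away g)).comp φ₀).Etale := by
    have : (algebraMap R' (Localization.Away g)).comp φ₀ =
        (algebraMap RG (Localization.Away g)).comp (e0 E) := by
      ext a
      simp only [RingHom.comp_apply, φ₀]
      rw [← IsScalarTower.algebraMap_apply RG R' (Localization.Away g)]
    rw [this]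
    exact RingHom.Etale.stableUnderComposition _ _
      (RingHom.Etale.of_bijective (e0_bijective E)) (RingHom.etale_algebraMap.mpr hét)
  obtain ⟨C, _, φ, j, hφ, hj, hcomp, hr⟩ := chart ψ hψ φ₀ hφ₀ g u' hgu huu hét'
  refine ⟨C, inferInstance, φ, j, hφ, hj, hcomp, ?_⟩
  rintro t ⟨s, hsE, hst⟩
  apply hr
  obtain ⟨s', hs'⟩ := exists_psi_eq q E I hI s hsE
  refine ⟨s', ?_⟩
  change algebraMap (SI A I) T (psi q E I hI u') * t = algebraMap (SI A I) T (psi q E I hI s')
  rw [hu', hs', hst]

end Chart

section Main

variable (A K L : Type u) [CommRing A] [IsDomain A] [IsIntegrallyClosed A]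
    [Field K] [Field L] [Algebra A K] [IsFractionRing A K] [Algebra K L] [Algebra A L]
    [IsScalarTower A K L] [IsGalois K L] (q : Ideal (integralClosure A L)) [q.IsPrime]

theorem main (I : Subgroup (L ≃ₐ[K] L))
    (hI : ∀ σ : L ≃ₐ[K] L, σ ∈ I ↔ ∀ b : integralClosure A L, ∃ c ∈ q, (c : L) = σ b - b) :
    EtPBC.IsIndEtale A (Localization.AtPrime
      (q.comap (Subalgebra.inclusion
        (inf_le_left : integralClosure A L ⊓
          (IntermediateField.fixedField I).toSubalgebra.restrictScalars A ≤
          integralClosure A L)))) := by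
  classical
  set q' : Ideal (SI A I) := q.comap (Subalgebra.inclusion
        (inf_le_left : integralClosure A L ⊓
          (IntermediateField.fixedField I).toSubalgebra.restrictScalars A ≤
          integralClosure A L)) with hq'
  apply isIndEtale_of_finset
  intro F
  obtain ⟨u, hu⟩ := IsLocalization.exist_integer_multiples_of_finset q'.primeCompl F
  have hs : ∀ t : Localization.AtPrime q', ∃ s : SI A I, t ∈ F →
      algebraMap (SI A I) (Localization.AtPrime q') s = (u : SI A I) • t := by
    intro t
    by_cases ht : t ∈ F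
    · obtain ⟨s, hs⟩ := hu t ht
      exact ⟨s, fun _ => hs⟩
    · exact ⟨0, fun h => absurd h ht⟩
  choose s hs using hs
  have hlev : ∀ x : SI A I, ∃ i : Lvl K L, (x : L) ∈ ME q i.1 := fun x =>
    exists_level_of_mem_fixedField q I hI (x : L) (Algebra.mem_inf.mp x.2).2
  choose idx hidx using hlev
  let Fs : Finset (SI A I) := insert (u : SI A I) (F.image s)
  haveI : Nonempty (Lvl K L) := ⟨idx 0⟩
  obtain ⟨z, hz⟩ := (directed_ME q).finset_le (Fs.image idx)
  have hmem : ∀ x ∈ Fs, (x : L) ∈ ME q z.1 := fun x hx =>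
    hz (idx x) (Finset.mem_image_of_mem idx hx) (hidx x)
  haveI := z.2.1
  haveI := z.2.2
  haveI : IsDomain (SI A I) := inferInstance
  have hinj : Function.Injective (algebraMap (SI A I) (Localization.AtPrime q')) :=
    IsLocalization.injective _ (Ideal.primeCompl_le_nonZeroDivisors q')
  have hunit : ∀ s : SI A I,
      Subalgebra.inclusion (inf_le_left : SI A I ≤ integralClosure A L) s ∉ q →
        IsUnit (algebraMap (SI A I) (Localization.AtPrime q') s) := fun s hs =>
    IsLocalization.map_units (Localization.AtPrime q') (⟨s, hs⟩ : q'.primeCompl)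
  obtain ⟨C, _, φ, j, hφ, hj, hcomp, hr⟩ := exists_chart q z.1 I (fun σ hσ => (hI σ).mp hσ)
    (Localization.AtPrime q') hinj hunit (u : SI A I) u.2 (hmem _ (Finset.mem_insert_self _ _))
  refine ⟨C, inferInstance, φ, j, hφ, hj, hcomp, ?_⟩
  intro t ht
  apply hr
  refine ⟨s t, hmem _ (Finset.mem_insert_of_mem (Finset.mem_image_of_mem s ht)), ?_⟩
  rw [hs t ht, Algebra.smul_def]

end Main

end Groth.Agent.Lib.IndEtaleInertiaH3
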