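import Mathlib
import Groth.Prelude.Def_Hensel
import Groth.Prelude.Def_CAlg
import Groth.Agent.Lib.IndEtaleLoc2_helper3
import Groth.Agent.Lib.DepthSk_helper5

/-!
# Ind-étale algebras: associated primes (helper3)
-/

set_option autoImplicit false
set_option maxSynthPendingDepth 3
universe u

namespace Groth.Agent.Lib.IndEtaleH3

open IsLocalRing TensorProduct

variable {A B : Type u} [CommRing A] [CommRing B] [Algebra A B]

theorem mem_associatedPrimes_iff_of_isIndEtale [IsNoetherianRing A] [IsNoetherianRing B]
    (h : EtPBC.IsIndEtale A B) (Q : Ideal B) [Q.IsPrime] :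
    Q ∈ associatedPrimes B B ↔ Q.comap (algebraMap A B) ∈ associatedPrimes A A := by
  rw [← Groth.Agent.DepthLib.not_one_le_depth_localization_iff B Q,
    ← Groth.Agent.DepthLib.not_one_le_depth_localization_iff A (Q.comap (algebraMap A B)),
    Groth.Agent.DepthLib.depth_locSelf, Groth.Agent.DepthLib.depth_locSelf,
    depth_atPrime_of_isIndEtale h Q]

end Groth.Agent.Lib.IndEtaleH3
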