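import Mathlib

set_option autoImplicit false

/-! Left Kan extension `u_!` on presheaves of sets and ind-objects: action on morphisms between
filtered colimits of representables. -/

namespace Groth.Agent.Lib.IndLanH8
open CategoryTheory CategoryTheory.Limits Opposite
universe u

section filtered
variable {C : Type u} [SmallCategory C]
variable {I : Type u} [SmallCategory I] {Y : I ⥤ C} (c : Cocone (Y ⋙ yoneda))

/-- the legs of a cocone of representables, with clean types -/
def leg (j : I) : yoneda.obj (Y.obj j) ⟶ c.pt := c.ι.app j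

lemma leg_w {j k : I} (s : j ⟶ k) : yoneda.map (Y.map s) ≫ leg c k = leg c j := c.w s

variable {c} (hc : IsColimit c)

include hc in
lemma leg_hom_ext {Z : Cᵒᵖ ⥤ Type u} (f g : c.pt ⟶ Z) (h : ∀ j, leg c j ≫ f = leg c j ≫ g) :
    f = g := hc.hom_ext h

include hc in
/-- every map from a representable to a filtered colimit of representables factors through a
stage. -/
lemma exists_factor {X : C} (g : yoneda.obj X ⟶ c.pt) :
    ∃ (j : I) (a : X ⟶ Y.obj j), g = yoneda.map a ≫ leg c j := by
  have hev := isColimitOfPreserves ((evaluation Cᵒᵖ (Type u)).obj (op X)) hc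
  obtain ⟨j, a, ha⟩ := Types.jointly_surjective_of_isColimit hev (yonedaEquiv g)
  refine ⟨j, a, ?_⟩
  apply yonedaEquiv.injective
  rw [yonedaEquiv_comp, yonedaEquiv_yoneda_map]
  exact ha.symm

include hc in
lemma factor_eq_iff [IsFiltered I] {X : C} {j j' : I} (a : X ⟶ Y.obj j) (b : X ⟶ Y.obj j') :
    yoneda.map a ≫ leg c j = yoneda.map b ≫ leg c j' ↔
      ∃ (k : I) (s : j ⟶ k) (t : j' ⟶ k), a ≫ Y.map s = b ≫ Y.map t := by
  have hev := isColimitOfPreserves ((evaluation Cᵒᵖ (Type u)).obj (op X)) hc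
  have key := Types.FilteredColimit.isColimit_eq_iff _ hev (xi := a) (xj := b)
  constructor
  · intro h
    have h' : (leg c j).app (op X) a = (leg c j').app (op X) b := by
      have := congrArg yonedaEquiv h
      rwa [yonedaEquiv_comp, yonedaEquiv_comp, yonedaEquiv_yoneda_map,
        yonedaEquiv_yoneda_map] at this
    obtain ⟨k, s, t, hst⟩ := key.1 h'
    exact ⟨k, s, t, hst⟩
  · rintro ⟨k, s, t, hst⟩
    rw [← leg_w c s, ← leg_w c t, ← Category.assoc, ← Category.assoc,
      ← CategoryTheory.Functor.map_comp, ← CategoryTheory.Functor.map_comp, hst]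

end filtered

variable {C : Type u} [SmallCategory C] {C' : Type u} [SmallCategory C'] (u : C ⥤ C')

/-- `u_!` on presheaves of sets -/
noncomputable abbrev lanF : (Cᵒᵖ ⥤ Type u) ⥤ (C'ᵒᵖ ⥤ Type u) := u.op.lan

/-- `u_! h_X ≅ h_{uX}`, naturally in `X`. -/
noncomputable def e0 : u ⋙ yoneda ≅ yoneda ⋙ lanF u :=
  (Functor.isoWhiskerLeft u (uliftYonedaIsoYoneda.{u} (C := C'))).symm ≪≫
    Presheaf.compULiftYonedaIsoULiftYonedaCompLan.{u} u ≪≫
    Functor.isoWhiskerRight (uliftYonedaIsoYoneda.{u} (C := C)) u.op.lan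

/-- components of `e0`, with clean types -/
noncomputable def e0app (X : C) : yoneda.obj (u.obj X) ⟶ (lanF u).obj (yoneda.obj X) :=
  (e0 u).hom.app X

instance (X : C) : IsIso (e0app u X) :=
  (inferInstance : IsIso ((e0 u).hom.app X))

lemma e0app_naturality {X X' : C} (f : X ⟶ X') :
    yoneda.map (u.map f) ≫ e0app u X' = e0app u X ≫ (lanF u).map (yoneda.map f) :=
  (e0 u).hom.naturality f

section lanleg
variable {I : Type u} [SmallCategory I] {Y : I ⥤ C} (c : Cocone (Y ⋙ yoneda))

/-- the image under `u_!` of a cocone of representables, as a cocone of representables. -/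
noncomputable def lanCocone : Cocone ((Y ⋙ u) ⋙ yoneda) :=
  (Cocone.precompose (Functor.isoWhiskerLeft Y (e0 u)).hom).obj ((lanF u).mapCocone c)

/-- legs of `lanCocone` with clean types -/
noncomputable def lanLeg (j : I) : yoneda.obj (u.obj (Y.obj j)) ⟶ (lanF u).obj c.pt :=
  e0app u (Y.obj j) ≫ (lanF u).map (leg c j)

variable {c}

/-- `u_!` preserves the colimit. -/
noncomputable def lanCoconeIsColimit (hc : IsColimit c) : IsColimit (lanCocone u c) := by
  haveI : PreservesColimitsOfSize.{u, u} (lanF u) :=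
    (u.op.lanAdjunction (Type u)).leftAdjoint_preservesColimits
  exact (IsColimit.precomposeHomEquiv (Functor.isoWhiskerLeft Y (e0 u)) _).symm
    (isColimitOfPreserves (lanF u) hc)

lemma exists_factor_lan (hc : IsColimit c) {X' : C'} (g : yoneda.obj X' ⟶ (lanF u).obj c.pt) :
    ∃ (j : I) (a' : X' ⟶ u.obj (Y.obj j)), g = yoneda.map a' ≫ lanLeg u c j :=
  exists_factor (lanCoconeIsColimit u hc) g

lemma factor_eq_iff_lan [IsFiltered I] (hc : IsColimit c) {X' : C'} {j j' : I}
    (a' : X' ⟶ u.obj (Y.obj j)) (b' : X' ⟶ u.obj (Y.obj j')) :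
    yoneda.map a' ≫ lanLeg u c j = yoneda.map b' ≫ lanLeg u c j' ↔
      ∃ (k : I) (s : j ⟶ k) (t : j' ⟶ k), a' ≫ u.map (Y.map s) = b' ≫ u.map (Y.map t) :=
  factor_eq_iff (lanCoconeIsColimit u hc) a' b'

lemma lan_leg_hom_ext (hc : IsColimit c) {Z : C'ᵒᵖ ⥤ Type u} (f g : (lanF u).obj c.pt ⟶ Z)
    (h : ∀ j, (lanF u).map (leg c j) ≫ f = (lanF u).map (leg c j) ≫ g) : f = g := by
  haveI : PreservesColimitsOfSize.{u, u} (lanF u) :=
    (u.op.lanAdjunction (Type u)).leftAdjoint_preservesColimits
  exact (isColimitOfPreserves (lanF u) hc).hom_ext h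

/-- `u_!` applied to a factored map. -/
lemma lan_map_factor {X : C} {j : I} (a : X ⟶ Y.obj j) :
    e0app u X ≫ (lanF u).map (yoneda.map a ≫ leg c j) = yoneda.map (u.map a) ≫ lanLeg u c j := by
  unfold lanLeg
  rw [CategoryTheory.Functor.map_comp, ← Category.assoc, ← e0app_naturality, Category.assoc]

end lanleg

section main
variable {I I' : Type u} [SmallCategory I] [SmallCategory I'] [IsFiltered I']
  {X : I ⥤ C} {Y : I' ⥤ C} {cF : Cocone (X ⋙ yoneda)} (hF : IsColimit cF)
  {cG : Cocone (Y ⋙ yoneda)} (hG : IsColimit cG)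

include hF hG in
theorem lan_map_injective' [u.Faithful] :
    Function.Injective (fun φ : cF.pt ⟶ cG.pt => (lanF u).map φ) := by
  intro φ ψ h
  have h' : (lanF u).map φ = (lanF u).map ψ := h
  apply leg_hom_ext hF
  intro i
  obtain ⟨j, a, ha⟩ := exists_factor hG (leg cF i ≫ φ)
  obtain ⟨j', b, hb⟩ := exists_factor hG (leg cF i ≫ ψ)
  rw [ha, hb, factor_eq_iff hG]
  have key : yoneda.map (u.map a) ≫ lanLeg u cG j = yoneda.map (u.map b) ≫ lanLeg u cG j' := by
    rw [← lan_map_factor, ← lan_map_factor, ← ha, ← hb, CategoryTheory.Functor.map_comp,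
      CategoryTheory.Functor.map_comp, h']
  obtain ⟨k, s, t, hst⟩ := (factor_eq_iff_lan u hG _ _).1 key
  refine ⟨k, s, t, u.map_injective ?_⟩
  rw [u.map_comp, u.map_comp]
  exact hst

include hF hG in
theorem lan_map_surjective' [u.Full] [u.Faithful] :
    Function.Surjective (fun φ : cF.pt ⟶ cG.pt => (lanF u).map φ) := by
  intro θ
  have hex : ∀ i : I, ∃ φi : yoneda.obj (X.obj i) ⟶ cG.pt,
      e0app u (X.obj i) ≫ (lanF u).map φi =
        e0app u (X.obj i) ≫ (lanF u).map (leg cF i) ≫ θ := by
    intro i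
    obtain ⟨j, a', ha'⟩ := exists_factor_lan u hG
      (e0app u (X.obj i) ≫ (lanF u).map (leg cF i) ≫ θ)
    obtain ⟨a, rfl⟩ := u.map_surjective a'
    exact ⟨yoneda.map a ≫ leg cG j, (lan_map_factor u a).trans ha'.symm⟩
  choose φi hφi using hex
  have huniq : ∀ (i : I) (α β : yoneda.obj (X.obj i) ⟶ cG.pt),
      e0app u (X.obj i) ≫ (lanF u).map α = e0app u (X.obj i) ≫ (lanF u).map β → α = β := by
    intro i α β hαβ
    exact lan_map_injective' u (IndObjectPresentation.yoneda (X.obj i)).coconeIsColimit hG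
      ((cancel_epi (e0app u (X.obj i))).1 hαβ)
  let s : Cocone (X ⋙ yoneda) :=
    { pt := cG.pt
      ι :=
        { app := φi
          naturality := by
            intro i i' m
            show yoneda.map (X.map m) ≫ φi i' = φi i ≫ 𝟙 cG.pt
            rw [Category.comp_id]
            apply huniq
            calc e0app u (X.obj i) ≫ (lanF u).map (yoneda.map (X.map m) ≫ φi i')
                = (e0app u (X.obj i) ≫ (lanF u).map (yoneda.map (X.map m))) ≫
                    (lanF u).map (φi i') := by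
                  rw [CategoryTheory.Functor.map_comp, Category.assoc]
              _ = (yoneda.map (u.map (X.map m)) ≫ e0app u (X.obj i')) ≫
                    (lanF u).map (φi i') := by rw [e0app_naturality]
              _ = yoneda.map (u.map (X.map m)) ≫ e0app u (X.obj i') ≫
                    (lanF u).map (leg cF i') ≫ θ := by rw [Category.assoc, hφi i']
              _ = (e0app u (X.obj i) ≫ (lanF u).map (yoneda.map (X.map m))) ≫
                    (lanF u).map (leg cF i') ≫ θ := by
                  rw [← e0app_naturality, Category.assoc]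
              _ = e0app u (X.obj i) ≫ (lanF u).map (yoneda.map (X.map m) ≫ leg cF i') ≫ θ := by
                  rw [CategoryTheory.Functor.map_comp, Category.assoc, Category.assoc]
              _ = e0app u (X.obj i) ≫ (lanF u).map (leg cF i) ≫ θ := by rw [leg_w]
              _ = e0app u (X.obj i) ≫ (lanF u).map (φi i) := (hφi i).symm } }
  refine ⟨hF.desc s, ?_⟩
  apply lan_leg_hom_ext u hF
  intro i
  have hfac : leg cF i ≫ hF.desc s = φi i := hF.fac s i
  rw [← CategoryTheory.Functor.map_comp, hfac, ← cancel_epi (e0app u (X.obj i))]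
  exact hφi i

end main

theorem lan_map_injective [u.Faithful] {F G : Cᵒᵖ ⥤ Type u} (hF : IsIndObject F)
    (hG : IsIndObject G) :
    Function.Injective (fun φ : F ⟶ G => (lanF u).map φ) := by
  obtain ⟨PF⟩ := hF.nonempty_presentation
  obtain ⟨PG⟩ := hG.nonempty_presentation
  exact lan_map_injective' u PF.isColimit PG.isColimit

theorem lan_map_surjective [u.Full] [u.Faithful] {F G : Cᵒᵖ ⥤ Type u} (hF : IsIndObject F)
    (hG : IsIndObject G) :
    Function.Surjective (fun φ : F ⟶ G => (lanF u).map φ) := by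
  obtain ⟨PF⟩ := hF.nonempty_presentation
  obtain ⟨PG⟩ := hG.nonempty_presentation
  exact lan_map_surjective' u PF.isColimit PG.isColimit

theorem faithful_of_injective
    (h : ∀ X Y : C, Function.Injective (fun φ : yoneda.obj X ⟶ yoneda.obj Y =>
      (lanF u).map φ)) : u.Faithful := by
  refine ⟨fun {X Y} f g hfg => ?_⟩
  apply yoneda.map_injective
  apply h X Y
  show (lanF u).map (yoneda.map f) = (lanF u).map (yoneda.map g)
  rw [← cancel_epi (e0app u X), ← e0app_naturality, ← e0app_naturality, hfg]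

theorem full_of_surjective
    (h : ∀ X Y : C, Function.Surjective (fun φ : yoneda.obj X ⟶ yoneda.obj Y =>
      (lanF u).map φ)) : u.Full := by
  refine ⟨fun {X Y} f' => ?_⟩
  obtain ⟨φ, hφ⟩ := h X Y (inv (e0app u X) ≫ yoneda.map f' ≫ e0app u Y)
  have hφ' : (lanF u).map φ = inv (e0app u X) ≫ yoneda.map f' ≫ e0app u Y := hφ
  refine ⟨yoneda.preimage φ, ?_⟩
  apply yoneda.map_injective
  rw [← cancel_mono (e0app u Y), e0app_naturality, Functor.map_preimage, hφ',
    IsIso.hom_inv_id_assoc]

end Groth.Agent.Lib.IndLanH8
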