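import Mathlib
import Groth.Agent.Lib.IndLan_helper8

set_option autoImplicit false

/-! For `u` fully faithful with every object of the target a retract of an object in the image:
restriction along `u` preserves ind-objects and the counit `u_! u^* G' ⟶ G'` is an isomorphism. -/

namespace Groth.Agent.Lib.IndLanH8
open CategoryTheory CategoryTheory.Limits Opposite
universe u

variable {C : Type u} [SmallCategory C] {C' : Type u} [SmallCategory C'] (u : C ⥤ C')

section tr
variable (G' : C'ᵒᵖ ⥤ Type u)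

/-- maps `h_X ⟶ u^* G'` are maps `h_{uX} ⟶ G'` -/
def tr (X : C) : (yoneda.obj X ⟶ u.op ⋙ G') ≃ (yoneda.obj (u.obj X) ⟶ G') :=
  (yonedaEquiv (F := u.op ⋙ G')).trans (yonedaEquiv (F := G')).symm

lemma tr_naturality {X₁ X₂ : C} (b : X₁ ⟶ X₂) (f : yoneda.obj X₂ ⟶ u.op ⋙ G') :
    tr u G' X₁ (yoneda.map b ≫ f) = yoneda.map (u.map b) ≫ tr u G' X₂ f := by
  apply yonedaEquiv.injective
  unfold tr
  rw [Equiv.trans_apply, Equiv.apply_symm_apply, ← yonedaEquiv_naturality,
    ← yonedaEquiv_naturality, Equiv.trans_apply, Equiv.apply_symm_apply]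
  rfl

end tr

lemma isIso_app_of_retract {P G' : C'ᵒᵖ ⥤ Type u} (ε : P ⟶ G') {X' Z : C'} (i : X' ⟶ Z)
    (r : Z ⟶ X') (hir : i ≫ r = 𝟙 X') (h : IsIso (ε.app (op Z))) : IsIso (ε.app (op X')) := by
  have hP : ∀ (P : C'ᵒᵖ ⥤ Type u), P.map r.op ≫ P.map i.op = 𝟙 (P.obj (op X')) := by
    intro P
    rw [← P.map_comp, ← op_comp, hir, op_id, P.map_id]
  have n1 := ε.naturality r.op
  have n2 := ε.naturality i.op
  refine ⟨G'.map r.op ≫ inv (ε.app (op Z)) ≫ P.map i.op, ?_, ?_⟩
  · rw [← Category.assoc, ← n1, Category.assoc, IsIso.hom_inv_id_assoc]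
    exact hP _
  · rw [Category.assoc, Category.assoc, n2, IsIso.inv_hom_id_assoc]
    exact hP _

variable (hR : ∀ X' : C', ∃ (X : C) (i : X' ⟶ u.obj X) (r : u.obj X ⟶ X'), i ≫ r = 𝟙 X')

include hR in
theorem isFiltered_costructuredArrow_restrict [u.Full] [u.Faithful] (G' : C'ᵒᵖ ⥤ Type u)
    [IsFiltered (CostructuredArrow yoneda G')] :
    IsFiltered (CostructuredArrow yoneda (u.op ⋙ G')) := by
  have lift : ∀ (T' : CostructuredArrow yoneda G'),
      ∃ (Z : C) (g : yoneda.obj Z ⟶ u.op ⋙ G') (i : T'.left ⟶ u.obj Z),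
        yoneda.map i ≫ tr u G' Z g = T'.hom := by
    intro T'
    obtain ⟨Z, i, r, hir⟩ := hR T'.left
    refine ⟨Z, (tr u G' Z).symm (yoneda.map r ≫ T'.hom), i, ?_⟩
    rw [Equiv.apply_symm_apply, ← Category.assoc, ← CategoryTheory.Functor.map_comp, hir,
      CategoryTheory.Functor.map_id, Category.id_comp]
  have mkHom : ∀ (A : CostructuredArrow yoneda (u.op ⋙ G')) (T' : CostructuredArrow yoneda G')
      (a : u.obj A.left ⟶ T'.left) (_ : yoneda.map a ≫ T'.hom = tr u G' A.left A.hom)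
      (Z : C) (g : yoneda.obj Z ⟶ u.op ⋙ G') (i : T'.left ⟶ u.obj Z)
      (_ : yoneda.map i ≫ tr u G' Z g = T'.hom),
      yoneda.map (u.preimage (a ≫ i)) ≫ g = A.hom := by
    intro A T' a ha Z g i hi
    apply (tr u G' A.left).injective
    rw [tr_naturality, Functor.map_preimage, CategoryTheory.Functor.map_comp, Category.assoc, hi, ha]
  refine { cocone_objs := ?_, cocone_maps := ?_, nonempty := ?_ }
  · intro A₁ A₂
    let T₁ : CostructuredArrow yoneda G' := CostructuredArrow.mk (tr u G' A₁.left A₁.hom)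
    let T₂ : CostructuredArrow yoneda G' := CostructuredArrow.mk (tr u G' A₂.left A₂.hom)
    obtain ⟨Z, g, i, hi⟩ := lift (IsFiltered.max T₁ T₂)
    have w₁ := CostructuredArrow.w (IsFiltered.leftToMax T₁ T₂)
    have w₂ := CostructuredArrow.w (IsFiltered.rightToMax T₁ T₂)
    exact ⟨CostructuredArrow.mk g,
      CostructuredArrow.homMk (u.preimage ((IsFiltered.leftToMax T₁ T₂).left ≫ i))
        (mkHom A₁ _ (IsFiltered.leftToMax T₁ T₂).left w₁ Z g i hi),
      CostructuredArrow.homMk (u.preimage ((IsFiltered.rightToMax T₁ T₂).left ≫ i))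
        (mkHom A₂ _ (IsFiltered.rightToMax T₁ T₂).left w₂ Z g i hi), trivial⟩
  · intro A₁ A₂ m₁ m₂
    let T₁ : CostructuredArrow yoneda G' := CostructuredArrow.mk (tr u G' A₁.left A₁.hom)
    let T₂ : CostructuredArrow yoneda G' := CostructuredArrow.mk (tr u G' A₂.left A₂.hom)
    have hw : ∀ m : A₁ ⟶ A₂, yoneda.map (u.map m.left) ≫ tr u G' A₂.left A₂.hom =
        tr u G' A₁.left A₁.hom := by
      intro m
      rw [← tr_naturality, CostructuredArrow.w m]
    let m₁' : T₁ ⟶ T₂ := CostructuredArrow.homMk (u.map m₁.left) (hw m₁)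
    let m₂' : T₁ ⟶ T₂ := CostructuredArrow.homMk (u.map m₂.left) (hw m₂)
    obtain ⟨Z, g, i, hi⟩ := lift (IsFiltered.coeq m₁' m₂')
    have wc := CostructuredArrow.w (IsFiltered.coeqHom m₁' m₂')
    refine ⟨CostructuredArrow.mk g,
      CostructuredArrow.homMk (u.preimage ((IsFiltered.coeqHom m₁' m₂').left ≫ i))
        (mkHom A₂ _ (IsFiltered.coeqHom m₁' m₂').left wc Z g i hi), ?_⟩
    apply CostructuredArrow.hom_ext
    show m₁.left ≫ u.preimage ((IsFiltered.coeqHom m₁' m₂').left ≫ i) =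
      m₂.left ≫ u.preimage ((IsFiltered.coeqHom m₁' m₂').left ≫ i)
    apply u.map_injective
    rw [u.map_comp, u.map_comp, Functor.map_preimage, ← Category.assoc, ← Category.assoc]
    congr 1
    exact congrArg (fun φ => φ.left) (IsFiltered.coeq_condition m₁' m₂')
  · obtain ⟨T'⟩ := (IsFiltered.nonempty : Nonempty (CostructuredArrow yoneda G'))
    obtain ⟨Z, g, i, hi⟩ := lift T'
    exact ⟨CostructuredArrow.mk g⟩

include hR in
theorem isIndObject_restrict [u.Full] [u.Faithful] {G' : C'ᵒᵖ ⥤ Type u} (hG' : IsIndObject G') :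
    IsIndObject (u.op ⋙ G') := by
  haveI := hG'.isFiltered
  rw [isIndObject_iff]
  refine ⟨isFiltered_costructuredArrow_restrict u hR G', ?_⟩
  have := essentiallySmallSelf (CostructuredArrow yoneda (u.op ⋙ G'))
  apply finallySmall_of_essentiallySmall

include hR in
theorem isIso_counit_restrict [u.Full] [u.Faithful] (G' : C'ᵒᵖ ⥤ Type u) :
    IsIso ((u.op.lanAdjunction (Type u)).counit.app G') := by
  have htri := (u.op.lanAdjunction (Type u)).right_triangle_components G'
  haveI hRε : IsIso (((Functor.whiskeringLeft Cᵒᵖ C'ᵒᵖ (Type u)).obj u.op).map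
      ((u.op.lanAdjunction (Type u)).counit.app G')) := by
    haveI : IsIso ((u.op.lanAdjunction (Type u)).unit.app
        (((Functor.whiskeringLeft Cᵒᵖ C'ᵒᵖ (Type u)).obj u.op).obj G') ≫
        ((Functor.whiskeringLeft Cᵒᵖ C'ᵒᵖ (Type u)).obj u.op).map
          ((u.op.lanAdjunction (Type u)).counit.app G')) := by
      rw [htri]
      exact IsIso.id _
    exact IsIso.of_isIso_comp_left ((u.op.lanAdjunction (Type u)).unit.app
        (((Functor.whiskeringLeft Cᵒᵖ C'ᵒᵖ (Type u)).obj u.op).obj G')) _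
  have hεu : ∀ X : C, IsIso (((u.op.lanAdjunction (Type u)).counit.app G').app (op (u.obj X))) := by
    intro X
    exact (inferInstance : IsIso ((((Functor.whiskeringLeft Cᵒᵖ C'ᵒᵖ (Type u)).obj u.op).map
      ((u.op.lanAdjunction (Type u)).counit.app G')).app (op X)))
  haveI : ∀ X' : C'ᵒᵖ, IsIso (((u.op.lanAdjunction (Type u)).counit.app G').app X') := by
    intro X''
    induction X'' using Opposite.rec with
    | op X' =>
      obtain ⟨X, i, r, hir⟩ := hR X'
      exact isIso_app_of_retract ((u.op.lanAdjunction (Type u)).counit.app G') i r hir (hεu X)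
  exact NatIso.isIso_of_isIso_app _

end Groth.Agent.Lib.IndLanH8
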