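import Mathlib

/-!
# A local criterion for quasi-affineness (helper3)

`isQuasiAffine_of_forall_exists_basicOpen`: a quasi-compact scheme covered by basic opens `X_s` of
global sections with each `X_s` quasi-affine is quasi-affine.
-/

set_option autoImplicit false
universe u
open CategoryTheory AlgebraicGeometry TopologicalSpace Opposite

namespace Groth.Agent.Lib.QAff_helper3

/-- For a quasi-affine open `U = X_s`, every point of `U` lies in an affine basic open `X_{s y}` of a
global section. -/
theorem exists_affine_basicOpen_of_isQuasiAffine_basicOpen (X : Scheme.{u}) [CompactSpace X]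
    [QuasiSeparatedSpace X] (s : Γ(X, ⊤))
    (hs : ((X.basicOpen s : X.Opens) : Scheme.{u}).IsQuasiAffine) (x : X) (hx : x ∈ X.basicOpen s) :
    ∃ r : Γ(X, ⊤), IsAffineOpen (X.basicOpen r) ∧ x ∈ X.basicOpen r := by
  classical
  set U : X.Opens := X.basicOpen s with hU
  haveI := hs
  obtain ⟨_, ⟨_, ⟨rU, hrU, rfl⟩, rfl⟩, hxr, -⟩ :=
    (Scheme.IsQuasiAffine.isBasis_basicOpen (U : Scheme.{u})).exists_subset_of_mem_open
      (Set.mem_univ (⟨x, hx⟩ : (U : Scheme.{u}))) isOpen_univ
  -- transport to a section over `U`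
  set r' : Γ(X, U) := U.topIso.hom rU with hr'
  have hr'U : U.topIso.inv r' = rU := by
    rw [hr']
    exact congrArg (fun φ => φ.hom rU) U.topIso.hom_inv_id
  have himg : U.ι ''ᵁ (U : Scheme.{u}).basicOpen rU = X.basicOpen r' := by
    rw [← hr'U]; exact Scheme.Opens.ι_image_basicOpen_topIso_inv U r'
  have haff : IsAffineOpen (X.basicOpen r') := by
    rw [← himg]; exact hrU.image_of_isOpenImmersion U.ι
  have hxr' : x ∈ X.basicOpen r' := by
    rw [← himg]; exact ⟨⟨x, hx⟩, hxr, rfl⟩
  -- extend `r'` to a global section up to a power of `s`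
  obtain ⟨n, y, hy⟩ := exists_eq_pow_mul_of_isCompact_of_isQuasiSeparated X ⊤
    isCompact_univ isQuasiSeparated_univ s r'
  refine ⟨s * y, ?_, ?_⟩
  · have h1 : X.basicOpen (s * y) = X.basicOpen r' := by
      rw [Scheme.basicOpen_mul]
      have h2 : X.basicOpen (y |_ X.basicOpen s) = X.basicOpen s ⊓ X.basicOpen y :=
        Scheme.basicOpen_res _ _ _
      rw [← h2, hy, Scheme.basicOpen_mul]
      have hunit : IsUnit (s |_ X.basicOpen s) := RingedSpace.isUnit_res_basicOpen _ s
      rw [Scheme.basicOpen_of_isUnit X (hunit.pow n)]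
      exact inf_eq_right.2 (Scheme.basicOpen_le X r')
    rw [h1]; exact haff
  · have h1 : X.basicOpen (s * y) = X.basicOpen r' := by
      rw [Scheme.basicOpen_mul]
      have h2 : X.basicOpen (y |_ X.basicOpen s) = X.basicOpen s ⊓ X.basicOpen y :=
        Scheme.basicOpen_res _ _ _
      rw [← h2, hy, Scheme.basicOpen_mul]
      have hunit : IsUnit (s |_ X.basicOpen s) := RingedSpace.isUnit_res_basicOpen _ s
      rw [Scheme.basicOpen_of_isUnit X (hunit.pow n)]
      exact inf_eq_right.2 (Scheme.basicOpen_le X r')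
    rw [h1]; exact hxr'

/-- A quasi-compact scheme covered by quasi-affine basic opens of global sections is quasi-affine. -/
theorem isQuasiAffine_of_forall_exists_basicOpen (X : Scheme.{u}) [CompactSpace X]
    (H : ∀ x : X, ∃ s : Γ(X, ⊤), x ∈ X.basicOpen s ∧
      ((X.basicOpen s : X.Opens) : Scheme.{u}).IsQuasiAffine) :
    X.IsQuasiAffine := by
  classical
  choose s hxs hs using H
  haveI : QuasiSeparatedSpace X := by
    refine QuasiSeparatedSpace.of_isOpenCover (U := fun x => X.basicOpen (s x)) ?_
      (fun _ => isRetrocompact_basicOpen _) (fun x => ?_)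
    · exact eq_top_iff.mpr fun x _ => Opens.mem_iSup.mpr ⟨x, hxs x⟩
    · refine (isQuasiSeparated_iff_quasiSeparatedSpace _ (X.basicOpen (s x)).2).2 ?_
      haveI := hs x
      exact inferInstanceAs (QuasiSeparatedSpace ((X.basicOpen (s x) : X.Opens) : Scheme.{u}))
  refine Scheme.IsQuasiAffine.of_forall_exists_mem_basicOpen X fun x => ?_
  exact exists_affine_basicOpen_of_isQuasiAffine_basicOpen X (s x) (hs x) x (hxs x)

end Groth.Agent.Lib.QAff_helper3
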