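import Mathlib
import Groth.Prelude.Def_MoreMor
import Groth.Agent.Lib.QAff_helper3

/-!
# Ind-quasi-affine morphisms in terms of opens of the source (helper3)
-/

set_option autoImplicit false
universe u
open CategoryTheory AlgebraicGeometry TopologicalSpace Opposite

namespace Groth.Agent.Lib.QAff2_helper3

/-- For opens `A ≤ B` of `X`, the open `B.ι ⁻¹ᵁ A` of `B` is quasi-affine iff `A` is. -/
theorem isQuasiAffine_preimage_ι_iff {X : Scheme.{u}} (A B : X.Opens) (hAB : A ≤ B) :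
    ((B.ι ⁻¹ᵁ A : (B : Scheme.{u}).Opens) : Scheme.{u}).IsQuasiAffine ↔
      (A : Scheme.{u}).IsQuasiAffine := by
  have himg : B.ι ''ᵁ (B.ι ⁻¹ᵁ A) = A := by
    rw [Scheme.Hom.image_preimage_eq_opensRange_inf, Scheme.Opens.opensRange_ι]
    exact inf_eq_right.2 hAB
  constructor
  · intro h
    haveI := h
    have : ((B.ι ''ᵁ (B.ι ⁻¹ᵁ A) : X.Opens) : Scheme.{u}).IsQuasiAffine :=
      Scheme.IsQuasiAffine.of_isAffineHom (B.ι.isoImage (B.ι ⁻¹ᵁ A)).inv
    rwa [himg] at this
  · intro h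
    have h' : ((B.ι ''ᵁ (B.ι ⁻¹ᵁ A) : X.Opens) : Scheme.{u}).IsQuasiAffine := by rwa [himg]
    haveI := h'
    exact Scheme.IsQuasiAffine.of_isAffineHom (B.ι.isoImage (B.ι ⁻¹ᵁ A)).hom

/-- Ind-quasi-affineness of an open subscheme `B` of `X` in terms of opens of `X`. -/
theorem isIndQuasiAffine_opens_iff {X : Scheme.{u}} (B : X.Opens) :
    MoreMor.IsIndQuasiAffine (B : Scheme.{u}) ↔
      ∀ A : X.Opens, A ≤ B → IsCompact (A : Set X) → (A : Scheme.{u}).IsQuasiAffine := by
  constructor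
  · intro h A hAB hA
    rw [← isQuasiAffine_preimage_ι_iff A B hAB]
    refine h _ ?_
    refine B.ι.isOpenEmbedding.isInducing.isCompact_preimage' hA ?_
    rw [Scheme.Opens.range_ι]; exact hAB
  · intro h U' hU'
    have hle : B.ι ''ᵁ U' ≤ B := Scheme.Opens.ι_image_le _ _
    have hc : IsCompact ((B.ι ''ᵁ U' : X.Opens) : Set X) := hU'.image B.ι.continuous
    haveI := h _ hle hc
    exact Scheme.IsQuasiAffine.of_isAffineHom (B.ι.isoImage U').hom

/-- Ind-quasi-affine morphisms in terms of opens of the source. -/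
theorem isIndQuasiAffineHom_iff {X Y : Scheme.{u}} (f : X ⟶ Y) :
    MoreMor.IsIndQuasiAffineHom f ↔
      ∀ V : Y.Opens, IsAffineOpen V → ∀ A : X.Opens, A ≤ f ⁻¹ᵁ V → IsCompact (A : Set X) →
        (A : Scheme.{u}).IsQuasiAffine := by
  unfold MoreMor.IsIndQuasiAffineHom
  constructor
  · intro h V hV
    exact (isIndQuasiAffine_opens_iff _).1 (h V hV)
  · intro h V hV
    exact (isIndQuasiAffine_opens_iff _).2 (h V hV)

/-- The basic open of a global section of a quasi-compact scheme is quasi-compact. -/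
theorem isCompact_basicOpen {S : Scheme.{u}} [CompactSpace S] (s : Γ(S, ⊤)) :
    IsCompact ((S.basicOpen s : S.Opens) : Set S) := by
  have := (isRetrocompact_basicOpen s) isCompact_univ isOpen_univ
  simpa using this

/-- Key step: let `A` be a quasi-compact open of `X`, mapping into an open `V` of `Y`, and suppose that
every point of `A` maps into an open `(V).basicOpen r` (`r` a global section of `V`) such that every
quasi-compact open of `X` inside `A` mapping into it is quasi-affine. Then `A` is quasi-affine. -/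
theorem isQuasiAffine_of_forall_exists_section {X Y : Scheme.{u}} (f : X ⟶ Y) (V : Y.Opens)
    (A : X.Opens) (hAV : A ≤ f ⁻¹ᵁ V) (hA : IsCompact (A : Set X))
    (H : ∀ x ∈ A, ∃ r : Γ((V : Scheme.{u}), ⊤), f x ∈ V.ι ''ᵁ ((V : Scheme.{u}).basicOpen r) ∧
      ∀ B : X.Opens, B ≤ A → B ≤ f ⁻¹ᵁ (V.ι ''ᵁ ((V : Scheme.{u}).basicOpen r)) →
        IsCompact (B : Set X) → (B : Scheme.{u}).IsQuasiAffine) :
    (A : Scheme.{u}).IsQuasiAffine := by
  classical
  haveI : CompactSpace (A : Scheme.{u}) := isCompact_iff_compactSpace.mp hA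
  let φ : (A : Scheme.{u}) ⟶ (V : Scheme.{u}) := f.resLE V A hAV
  have hφ : φ ≫ V.ι = A.ι ≫ f := Scheme.Hom.resLE_comp_ι f hAV
  have hφpt : ∀ a : (A : Scheme.{u}), V.ι (φ a) = f (A.ι a) := by
    intro a
    have := congrArg (fun ψ : (A : Scheme.{u}) ⟶ Y => ψ a) hφ
    simpa only [Scheme.Hom.comp_apply] using this
  refine Groth.Agent.Lib.QAff_helper3.isQuasiAffine_of_forall_exists_basicOpen _ fun a => ?_
  obtain ⟨r, hr, hB⟩ := H (A.ι a) a.2
  refine ⟨φ.appTop r, ?_, ?_⟩
  · rw [← Scheme.preimage_basicOpen_top]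
    show φ a ∈ (V : Scheme.{u}).basicOpen r
    obtain ⟨v, hv, hvx⟩ := hr
    have : v = φ a := V.ι.isOpenEmbedding.injective (hvx.trans (hφpt a).symm)
    rwa [← this]
  · set U' : (A : Scheme.{u}).Opens := (A : Scheme.{u}).basicOpen (φ.appTop r) with hU'
    have hc : IsCompact ((A.ι ''ᵁ U' : X.Opens) : Set X) :=
      (isCompact_basicOpen (φ.appTop r)).image A.ι.continuous
    have hle : A.ι ''ᵁ U' ≤ A := Scheme.Opens.ι_image_le _ _
    have hle2 : A.ι ''ᵁ U' ≤ f ⁻¹ᵁ (V.ι ''ᵁ ((V : Scheme.{u}).basicOpen r)) := by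
      rintro _ ⟨a', ha', rfl⟩
      have h1 : a' ∈ φ ⁻¹ᵁ ((V : Scheme.{u}).basicOpen r) := by
        rw [Scheme.preimage_basicOpen_top]; exact ha'
      exact ⟨φ a', h1, hφpt a'⟩
    haveI := hB _ hle hle2 hc
    exact Scheme.IsQuasiAffine.of_isAffineHom (A.ι.isoImage U').hom

end Groth.Agent.Lib.QAff2_helper3
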