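import Mathlib
import Groth.Prelude.Def_MoreMor
import Groth.Agent.Lib.QAff2_helper3

/-!
# Base change of ind-quasi-affine morphisms (lead)
-/

set_option autoImplicit false

namespace Groth.Agent.Lib.IndQAffBC

open AlgebraicGeometry CategoryTheory Limits TopologicalSpace

universe u

lemma exists_qc_open {X : Scheme.{u}} (K : Set X) (hK : IsCompact K) (O : X.Opens)
    (hKO : K ⊆ (O : Set X)) :
    ∃ D : X.Opens, D ≤ O ∧ IsCompact (D : Set X) ∧ K ⊆ (D : Set X) := by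
  classical
  let ι := {U : X.affineOpens // (U : X.Opens) ≤ O}
  have hcov : K ⊆ ⋃ i : ι, ((i.1 : X.Opens) : Set X) := by
    intro x hx
    obtain ⟨_, ⟨U, hU, rfl⟩, hxU, hUO⟩ :=
      X.isBasis_affineOpens.exists_subset_of_mem_open (hKO hx) O.isOpen
    exact Set.mem_iUnion.mpr ⟨⟨⟨U, hU⟩, hUO⟩, hxU⟩
  obtain ⟨t, ht⟩ := hK.elim_finite_subcover (fun i : ι => ((i.1 : X.Opens) : Set X))
    (fun i => (i.1 : X.Opens).isOpen) hcov
  refine ⟨⨆ i ∈ t, (i.1 : X.Opens), iSup₂_le fun i _ => i.2, ?_, ?_⟩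
  · have : ((⨆ i ∈ t, (i.1 : X.Opens) : X.Opens) : Set X) =
        ⋃ i ∈ t, ((i.1 : X.Opens) : Set X) := by
      simp only [Opens.coe_iSup]
    rw [this]
    exact t.isCompact_biUnion fun i _ => i.1.2.isCompact
  · have : ((⨆ i ∈ t, (i.1 : X.Opens) : X.Opens) : Set X) =
        ⋃ i ∈ t, ((i.1 : X.Opens) : Set X) := by
      simp only [Opens.coe_iSup]
    rw [this]
    exact ht

theorem main {X S X' S' : Scheme.{u}} (f : X ⟶ S) (f' : X' ⟶ S') (g' : X' ⟶ X) (g : S' ⟶ S)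
    (hc : IsPullback g' f' f g) (hf : MoreMor.IsIndQuasiAffineHom f) :
    MoreMor.IsIndQuasiAffineHom f' := by
  rw [Groth.Agent.Lib.QAff2_helper3.isIndQuasiAffineHom_iff] at hf ⊢
  intro V' hV' A hAV' hA
  refine Groth.Agent.Lib.QAff2_helper3.isQuasiAffine_of_forall_exists_section f' V' A hAV' hA
    (fun x hxA => ?_)
  have hxV' : f' x ∈ V' := hAV' hxA
  obtain ⟨_, ⟨V, hV, rfl⟩, hgV, -⟩ :=
    S.isBasis_affineOpens.exists_subset_of_mem_open (Set.mem_univ (g (f' x))) isOpen_univ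
  haveI : IsAffine (V' : Scheme.{u}) := hV'
  obtain ⟨_, ⟨_, ⟨r, rfl⟩, rfl⟩, hyr, hrO : _ ≤ V'.ι ⁻¹ᵁ (g ⁻¹ᵁ V)⟩ :=
    (isBasis_basicOpen (V' : Scheme.{u})).exists_subset_of_mem_open
      (show (⟨f' x, hxV'⟩ : (V' : Scheme.{u})) ∈ V'.ι ⁻¹ᵁ (g ⁻¹ᵁ V) from hgV)
      (V'.ι ⁻¹ᵁ (g ⁻¹ᵁ V)).isOpen
  refine ⟨r, ⟨⟨f' x, hxV'⟩, hyr, rfl⟩, fun B hBA hBr hB => ?_⟩
  set W' : S'.Opens := V'.ι ''ᵁ ((V' : Scheme.{u}).basicOpen r) with hW'
  have hW'aff : IsAffineOpen W' :=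
    ((isAffineOpen_top (V' : Scheme.{u})).basicOpen r).image_of_isOpenImmersion V'.ι
  have hW'V : W' ≤ g ⁻¹ᵁ V := by
    rintro _ ⟨y, hy, rfl⟩
    exact hrO hy
  obtain ⟨D, hDV, hDc, hBD⟩ := exists_qc_open (g' '' (B : Set X')) (hB.image g'.continuous)
    (f ⁻¹ᵁ V) (by
      rintro _ ⟨b, hb, rfl⟩
      show f (g' b) ∈ V
      have h1 : f (g' b) = g (f' b) := by
        have := congrArg (fun ψ : X' ⟶ S => ψ b) hc.w
        simpa only [Scheme.Hom.comp_apply] using this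
      rw [h1]
      exact hW'V (hBr hb))
  haveI hDqa : (D : Scheme.{u}).IsQuasiAffine := hf V hV D hDV hDc
  set E : X'.Opens := g' ⁻¹ᵁ D ⊓ f' ⁻¹ᵁ W' with hE
  have hpb := Scheme.Hom.isPullback_resLE hc hW'V hDV hE
  haveI : IsAffine (W' : Scheme.{u}) := hW'aff
  haveI : IsAffine (V : Scheme.{u}) := hV
  haveI h1 : IsAffineHom (g.resLE V W' hW'V) := inferInstance
  haveI h2 := MorphismProperty.of_isPullback (P := @IsAffineHom) hpb.flip h1
  haveI : (E : Scheme.{u}).IsQuasiAffine := Scheme.IsQuasiAffine.of_isAffineHom (g'.resLE D E _)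
  have hBE : B ≤ E := fun b hb => ⟨hBD ⟨b, hb, rfl⟩, hBr hb⟩
  haveI : CompactSpace (B : Scheme.{u}) := isCompact_iff_compactSpace.mp hB
  exact Scheme.IsQuasiAffine.of_isImmersion (X'.homOfLE hBE)

end Groth.Agent.Lib.IndQAffBC
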