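import Mathlib
import Groth.Prelude.Def_Smoothing

set_option autoImplicit false
universe u

open TensorProduct

namespace IndSmoothICH3

/-- An ind-smooth algebra (in the factorisation form) is flat. -/
theorem flat_of_indSmooth (R S : Type u) [CommRing R] [CommRing S] [Algebra R S]
    (hS : Smoothing.IndSmooth R S) : Module.Flat R S := by
  refine Module.Flat.of_forall_isTrivialRelation ?_
  intro l f x hfx
  let rel : MvPolynomial (Fin l) R := ∑ i, MvPolynomial.C (f i) * MvPolynomial.X i
  let I : Ideal (MvPolynomial (Fin l) R) := Ideal.span {rel}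
  have hfp : Algebra.FinitePresentation R (MvPolynomial (Fin l) R ⧸ I) :=
    Algebra.FinitePresentation.quotient ⟨{rel}, by simp [I]⟩
  let φ₀ : MvPolynomial (Fin l) R →ₐ[R] S := MvPolynomial.aeval x
  have hrel0 : φ₀ rel = 0 := by
    simp only [rel, φ₀, map_sum, map_mul, MvPolynomial.aeval_C, MvPolynomial.aeval_X]
    rw [← hfx]
    exact Finset.sum_congr rfl fun i _ => (Algebra.smul_def _ _).symm
  have hφ₀ : ∀ a ∈ I, φ₀ a = 0 := by
    intro a ha
    have : I ≤ RingHom.ker φ₀.toRingHom := by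
      rw [Ideal.span_le]
      intro y hy
      rw [Set.mem_singleton_iff] at hy
      subst hy
      exact hrel0
    exact this ha
  let φ : (MvPolynomial (Fin l) R ⧸ I) →ₐ[R] S := Ideal.Quotient.liftₐ I φ₀ hφ₀
  obtain ⟨B₀, _, _, hsm, g, h, hgh⟩ := hS (MvPolynomial (Fin l) R ⧸ I) hfp φ
  haveI : Module.Flat R B₀ := inferInstance
  have hrel : ∑ i, f i • g (Ideal.Quotient.mk I (MvPolynomial.X i)) = 0 := by
    have h0 : g (Ideal.Quotient.mk I rel) = 0 := by
      have hmem : rel ∈ I := Ideal.subset_span (Set.mem_singleton rel)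
      rw [Ideal.Quotient.eq_zero_iff_mem.mpr hmem, map_zero]
    rw [← h0]
    simp only [rel, map_sum, map_mul]
    refine Finset.sum_congr rfl fun i _ => ?_
    rw [Algebra.smul_def]
    congr 1
    have : Ideal.Quotient.mk I (MvPolynomial.C (f i)) = algebraMap R (MvPolynomial (Fin l) R ⧸ I) (f i) := rfl
    rw [this, AlgHom.commutes]
  obtain ⟨k, a, y, hxy, hfa⟩ := Module.Flat.isTrivialRelation_of_sum_smul_eq_zero (R := R)
    (M := B₀) (f := f) (x := fun i => g (Ideal.Quotient.mk I (MvPolynomial.X i))) hrel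
  refine ⟨k, a, fun j => h (y j), fun i => ?_, hfa⟩
  have : x i = h (g (Ideal.Quotient.mk I (MvPolynomial.X i))) := by
    rw [← AlgHom.comp_apply, hgh]
    simp [φ, φ₀]
  have hxy' : g (Ideal.Quotient.mk I (MvPolynomial.X i)) = ∑ j, a i j • y j := hxy i
  rw [this, hxy', map_sum]
  simp

/-- Compatibility of polynomial evaluation with base change of the coefficient ring. -/
theorem eval₂_map_tensor {R : Type*} [CommRing R] {A A' B : Type*} [CommRing A] [CommRing A']
    [CommRing B] [Algebra R A] [Algebra R A'] [Algebra R B] (φ : A →ₐ[R] A')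
    (q : Polynomial A) (Z : A ⊗[R] B) :
    Polynomial.eval₂ (algebraMap A' (A' ⊗[R] B))
        (Algebra.TensorProduct.map φ (AlgHom.id R B) Z) (q.map φ.toRingHom) =
      Algebra.TensorProduct.map φ (AlgHom.id R B)
        (Polynomial.eval₂ (algebraMap A (A ⊗[R] B)) Z q) := by
  rw [Polynomial.eval₂_map]
  have := Polynomial.hom_eval₂ q (algebraMap A (A ⊗[R] B))
    (Algebra.TensorProduct.map φ (AlgHom.id R B)).toRingHom Z
  rw [AlgHom.toRingHom_eq_coe, RingHom.coe_coe] at this
  rw [this]
  congr 1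

/-- An integral element of `S ⊗ B` comes from an integral element over a finitely presented
`R`-algebra mapping to `S`. -/
theorem exists_fp_model (R S B : Type u) [CommRing R] [CommRing S] [Algebra R S] [CommRing B]
    [Algebra R B] (z : S ⊗[R] B) (hz : IsIntegral S z) :
    ∃ (A₀ : Type u) (_ : CommRing A₀) (_ : Algebra R A₀), Algebra.FinitePresentation R A₀ ∧
      ∃ (ψ : A₀ →ₐ[R] S) (z₀ : A₀ ⊗[R] B), IsIntegral A₀ z₀ ∧
        Algebra.TensorProduct.map ψ (AlgHom.id R B) z₀ = z := by
  classical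
  obtain ⟨k, s, b, hzsb⟩ := TensorProduct.exists_sum_tmul_eq z
  obtain ⟨p, hpm, hpz⟩ := hz
  let π : MvPolynomial S R →ₐ[R] S := MvPolynomial.aeval id
  have hπ : Function.Surjective π := fun s => ⟨MvPolynomial.X s, by simp [π]⟩
  obtain ⟨q, hqp, -, hqm⟩ := Polynomial.lifts_and_natDegree_eq_and_monic (f := π.toRingHom)
    ((Polynomial.mem_lifts _).mpr (Polynomial.map_surjective _ hπ p)) hpm
  let Z : MvPolynomial S R ⊗[R] B := ∑ j, MvPolynomial.X (s j) ⊗ₜ b j
  have hZ : Algebra.TensorProduct.map π (AlgHom.id R B) Z = z := by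
    simp [Z, map_sum, π, hzsb]
  let W : MvPolynomial S R ⊗[R] B :=
    Polynomial.eval₂ (algebraMap (MvPolynomial S R) (MvPolynomial S R ⊗[R] B)) Z q
  have hW : Algebra.TensorProduct.map π (AlgHom.id R B) W = 0 := by
    rw [← eval₂_map_tensor, hZ, hqp]
    exact hpz
  have hWmem : W ∈ (RingHom.ker π).map
      (Algebra.TensorProduct.includeLeft : MvPolynomial S R →ₐ[R] MvPolynomial S R ⊗[R] B) := by
    rw [← Algebra.TensorProduct.rTensor_ker (C := B) π hπ]
    exact hW
  obtain ⟨t, ht, c, hc⟩ := (Submodule.mem_span_image_iff_exists_fun _).mp hWmem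
  -- the finite set of variables
  let F : Finset S := Finset.image s Finset.univ ∪ t.biUnion MvPolynomial.vars
  let ρ : MvPolynomial S R →ₐ[R] MvPolynomial F R := MvPolynomial.aeval (fun x => if h : x ∈ F then MvPolynomial.X ⟨x, h⟩ else 0)
  let ψ₀ : MvPolynomial F R →ₐ[R] S := MvPolynomial.aeval (fun f => (f : S))
  have key : ∀ q : MvPolynomial S R, (∀ i ∈ q.vars, i ∈ F) → ψ₀ (ρ q) = π q := by
    intro q hq
    refine MvPolynomial.hom_congr_vars (f₁ := (ψ₀.comp ρ).toRingHom) (f₂ := π.toRingHom) ?_ ?_ rfl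
    · ext r
      simp [ψ₀, ρ, π]
    · intro i hi _
      simp [ψ₀, ρ, π, dif_pos (hq i hi)]
  let I₀ : Ideal (MvPolynomial F R) := Ideal.span (ρ '' (t : Set (MvPolynomial S R)))
  have hfp : Algebra.FinitePresentation R (MvPolynomial F R ⧸ I₀) :=
    Algebra.FinitePresentation.quotient ⟨t.image ρ, by simp [I₀]⟩
  have hψ₀ : ∀ a ∈ I₀, ψ₀ a = 0 := by
    intro a ha
    have : I₀ ≤ RingHom.ker ψ₀.toRingHom := by
      rw [Ideal.span_le]
      rintro _ ⟨j, hj, rfl⟩
      change ψ₀ (ρ j) = 0
      rw [key j]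
      · exact ht hj
      · intro i hi
        exact Finset.mem_union_right _ (Finset.mem_biUnion.mpr ⟨j, hj, hi⟩)
    exact this ha
  let ψ : (MvPolynomial F R ⧸ I₀) →ₐ[R] S := Ideal.Quotient.liftₐ I₀ ψ₀ hψ₀
  let κ : MvPolynomial S R →ₐ[R] (MvPolynomial F R ⧸ I₀) := (Ideal.Quotient.mkₐ R I₀).comp ρ
  have hκ : ∀ j ∈ t, κ j = 0 := by
    intro j hj
    change Ideal.Quotient.mk I₀ (ρ j) = 0
    exact Ideal.Quotient.eq_zero_iff_mem.mpr (Ideal.subset_span ⟨j, hj, rfl⟩)
  refine ⟨MvPolynomial F R ⧸ I₀, inferInstance, inferInstance, hfp, ψ,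
    Algebra.TensorProduct.map κ (AlgHom.id R B) Z, ?_, ?_⟩
  · refine ⟨q.map κ.toRingHom, hqm.map _, ?_⟩
    rw [eval₂_map_tensor]
    change Algebra.TensorProduct.map κ (AlgHom.id R B) W = 0
    rw [← hc, map_sum]
    refine Finset.sum_eq_zero fun i _ => ?_
    rw [smul_eq_mul, map_mul]
    have : Algebra.TensorProduct.map κ (AlgHom.id R B)
        ((Algebra.TensorProduct.includeLeft : MvPolynomial S R →ₐ[R] MvPolynomial S R ⊗[R] B) (i : MvPolynomial S R)) = 0 := by
      simp [hκ i.1 i.2]
    rw [this, mul_zero]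
  · rw [hzsb]
    simp only [Z, map_sum, Algebra.TensorProduct.map_tmul, AlgHom.id_apply]
    refine Finset.sum_congr rfl fun j _ => ?_
    congr 1
    have hj : s j ∈ F := Finset.mem_union_left _ (Finset.mem_image_of_mem _ (Finset.mem_univ _))
    simp [ψ, κ, ρ, ψ₀, dif_pos hj]

/-- **Main theorem**: for ind-smooth `S` over `R`, integral closure commutes with base change. -/
theorem main (R : Type u) [CommRing R] (S : Type u) [CommRing S] [Algebra R S]
    (hS : Smoothing.IndSmooth R S) (B : Type u) [CommRing B] [Algebra R B] :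
    Function.Bijective (TensorProduct.toIntegralClosure R S B) := by
  haveI := flat_of_indSmooth R S hS
  refine ⟨TensorProduct.toIntegralClosure_injective_of_flat, ?_⟩
  rintro ⟨z, hz⟩
  obtain ⟨A₀, _, _, hfp, ψ, z₀, hz₀, hzz⟩ := exists_fp_model R S B z hz
  obtain ⟨B₀, _, _, hsm, g, h, hgh⟩ := hS A₀ hfp ψ
  have hz₁ : IsIntegral B₀ (Algebra.TensorProduct.map g (AlgHom.id R B) z₀) :=
    hz₀.map_of_comp_eq g.toRingHom (Algebra.TensorProduct.map g (AlgHom.id R B)).toRingHom
      (by ext a; simp [Algebra.TensorProduct.algebraMap_apply])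
  obtain ⟨y, hy⟩ := (TensorProduct.toIntegralClosure_bijective_of_smooth (R := R) (S := B₀)
    (B := B)).2 ⟨_, hz₁⟩
  have hy' : Algebra.TensorProduct.map (AlgHom.id B₀ B₀) (integralClosure R B).val y =
      Algebra.TensorProduct.map g (AlgHom.id R B) z₀ := by
    have := congrArg Subtype.val hy
    simpa [TensorProduct.toIntegralClosure] using this
  refine ⟨Algebra.TensorProduct.map h (AlgHom.id R _) y, Subtype.ext ?_⟩
  have hnat : ∀ w : B₀ ⊗[R] integralClosure R B,
      Algebra.TensorProduct.map (AlgHom.id S S) (integralClosure R B).val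
        (Algebra.TensorProduct.map h (AlgHom.id R _) w) =
      Algebra.TensorProduct.map h (AlgHom.id R B)
        (Algebra.TensorProduct.map (AlgHom.id B₀ B₀) (integralClosure R B).val w) := by
    intro w
    induction w using TensorProduct.induction_on with
    | zero => simp
    | tmul a c => simp
    | add a c ha hc => simp only [map_add, ha, hc]
  have hcomp : ∀ w : A₀ ⊗[R] B, Algebra.TensorProduct.map h (AlgHom.id R B)
      (Algebra.TensorProduct.map g (AlgHom.id R B) w) =
      Algebra.TensorProduct.map ψ (AlgHom.id R B) w := by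
    intro w
    induction w using TensorProduct.induction_on with
    | zero => simp
    | tmul a c => simp [← hgh]
    | add a c ha hc => simp only [map_add, ha, hc]
  change ((TensorProduct.toIntegralClosure R S B)
    (Algebra.TensorProduct.map h (AlgHom.id R _) y) : S ⊗[R] B) = z
  have : ((TensorProduct.toIntegralClosure R S B)
      (Algebra.TensorProduct.map h (AlgHom.id R _) y) : S ⊗[R] B) =
      Algebra.TensorProduct.map (AlgHom.id S S) (integralClosure R B).val
        (Algebra.TensorProduct.map h (AlgHom.id R _) y) := by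
    simp [TensorProduct.toIntegralClosure]
  rw [this, hnat, hy', hcomp, hzz]

end IndSmoothICH3
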