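import Mathlib
import Groth.Prelude.Def_PBC
import Groth.Agent.Lib.IndEtale1_helper3
import Groth.Agent.Lib.SpectralProd_helper8

/-!
# Ind-Zariski quotients cut out by idempotents (helper8)
-/

set_option autoImplicit false

universe u

open CategoryTheory Limits

namespace Groth.Agent.Lib.IndZarQuotH8

variable (A : Type u) [CommRing A] (Z : Set (PrimeSpectrum A))

/-- idempotents whose basic open contains `Z` -/
def Idx : Type u := {e : A // IsIdempotentElem e ∧ Z ⊆ (PrimeSpectrum.basicOpen e : Set _)}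

instance : Preorder (Idx A Z) where
  le e e' := e'.1 * e.1 = e'.1
  le_refl e := e.2.1
  le_trans e e' e'' h h' := by
    show e''.1 * e.1 = e''.1
    have h1 : e'.1 * e.1 = e'.1 := h
    have h2 : e''.1 * e'.1 = e''.1 := h'
    calc e''.1 * e.1 = e''.1 * e'.1 * e.1 := by rw [h2]
      _ = e''.1 * (e'.1 * e.1) := by ring
      _ = e''.1 := by rw [h1, h2]

lemma le_def (e e' : Idx A Z) : e ≤ e' ↔ e'.1 * e.1 = e'.1 := Iff.rfl

/-- the product of two indices -/
def Idx.mul (e e' : Idx A Z) : Idx A Z :=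
  ⟨e.1 * e'.1, e.2.1.mul e'.2.1, fun x hx => by
    have h1 := e.2.2 hx
    have h2 := e'.2.2 hx
    simp only [SetLike.mem_coe, PrimeSpectrum.mem_basicOpen] at h1 h2 ⊢
    exact fun h => (x.2.mem_or_mem h).elim h1 h2⟩

instance : IsDirected (Idx A Z) (· ≤ ·) where
  directed e e' := ⟨Idx.mul A Z e e', by
    show e.1 * e'.1 * e.1 = e.1 * e'.1
    calc e.1 * e'.1 * e.1 = (e.1 * e.1) * e'.1 := by ring
      _ = e.1 * e'.1 := by rw [e.2.1.eq], by
    show e.1 * e'.1 * e'.1 = e.1 * e'.1
    calc e.1 * e'.1 * e'.1 = e.1 * (e'.1 * e'.1) := by ring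
      _ = e.1 * e'.1 := by rw [e'.2.1.eq]⟩

instance : Nonempty (Idx A Z) :=
  ⟨⟨1, IsIdempotentElem.one, fun x _ => by
    simp only [SetLike.mem_coe, PrimeSpectrum.mem_basicOpen]
    exact fun h => x.2.ne_top ((Ideal.eq_top_iff_one _).2 h)⟩⟩

lemma span_le {e e' : Idx A Z} (h : e ≤ e') :
    Ideal.span {1 - e.1} ≤ Ideal.span {1 - e'.1} := by
  rw [Ideal.span_singleton_le_iff_mem, Ideal.mem_span_singleton']
  refine ⟨1 - e.1, ?_⟩
  have h1 : e'.1 * e.1 = e'.1 := h
  calc (1 - e.1) * (1 - e'.1) = 1 - e.1 - e'.1 + e'.1 * e.1 := by ring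
    _ = 1 - e.1 := by rw [h1]; ring

/-- the ideal generated by all `1 - e` -/
def I : Ideal A := ⨆ e : Idx A Z, Ideal.span {1 - e.1}

lemma mem_I (a : A) : a ∈ I A Z ↔ ∃ e : Idx A Z, a ∈ Ideal.span {1 - e.1} := by
  unfold I
  rw [Submodule.mem_iSup_of_directed]
  exact Monotone.directed_le (fun e e' h => span_le A Z h)

/-- the diagram of quotients `A/(1-e)` -/
noncomputable def D : Idx A Z ⥤ Under (CommRingCat.of A) where
  obj e := Under.mk (CommRingCat.ofHom (algebraMap A (A ⧸ Ideal.span {1 - e.1})))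
  map {e e'} h := Under.homMk (CommRingCat.ofHom (Ideal.Quotient.factor (span_le A Z (leOfHom h))))
    (by ext x; rfl)
  map_id e := by
    apply Under.UnderMorphism.ext
    apply CommRingCat.hom_ext
    apply Ideal.Quotient.ringHom_ext
    ext x
    rfl
  map_comp {e e' e''} f g := by
    apply Under.UnderMorphism.ext
    apply CommRingCat.hom_ext
    apply Ideal.Quotient.ringHom_ext
    ext x
    rfl

/-- the cocone with vertex `A/I` -/
noncomputable def cocone : Cocone (D A Z) where
  pt := Under.mk (CommRingCat.ofHom (algebraMap A (A ⧸ I A Z)))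
  ι :=
    { app := fun e => Under.homMk (CommRingCat.ofHom
        (Ideal.Quotient.factor (le_iSup (fun e : Idx A Z => Ideal.span {1 - e.1}) e)))
        (by ext x; rfl)
      naturality := fun e e' f => by
        apply Under.UnderMorphism.ext
        apply CommRingCat.hom_ext
        apply Ideal.Quotient.ringHom_ext
        ext x
        rfl }

noncomputable def isColimitCocone : IsColimit (cocone A Z) := by
  apply IndEtaleH3.isColimitOfSurjInj
  · intro x
    obtain ⟨a, rfl⟩ := Ideal.Quotient.mk_surjective (I := I A Z) x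
    exact ⟨Classical.arbitrary _, Ideal.Quotient.mk _ a, rfl⟩
  · intro e y hy
    obtain ⟨a, rfl⟩ := Ideal.Quotient.mk_surjective (I := Ideal.span {1 - e.1}) y
    have h1 : a ∈ I A Z := by
      rw [← Ideal.Quotient.eq_zero_iff_mem]
      exact hy
    obtain ⟨e', he'⟩ := (mem_I A Z a).1 h1
    obtain ⟨e'', h1'', h2''⟩ := exists_ge_ge e e'
    refine ⟨e'', homOfLE h1'', ?_⟩
    show Ideal.Quotient.mk (Ideal.span {1 - e''.1}) a = 0
    rw [Ideal.Quotient.eq_zero_iff_mem]
    exact span_le A Z h2'' he'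

theorem isIndZariski : EtPBC.IsIndZariski A (A ⧸ I A Z) := by
  refine ⟨Idx A Z, inferInstance, inferInstance, D A Z, cocone A Z, isColimitCocone A Z, ?_,
    ⟨Iso.refl _⟩⟩
  intro e
  have h0 : ((D A Z).obj e).hom.hom.toAlgebra =
      (inferInstance : Algebra A (A ⧸ Ideal.span {1 - e.1})) :=
    Algebra.algebra_ext _ _ (fun r => rfl)
  rw [h0]
  haveI : IsLocalization.Away e.1 (A ⧸ Ideal.span {1 - e.1}) :=
    IsLocalization.Away.quotient_of_isIdempotentElem e.2.1
  haveI : Algebra.IsStandardOpenImmersion A (A ⧸ Ideal.span {1 - e.1}) := ⟨e.1, inferInstance⟩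
  exact (inferInstance : Algebra.IsLocalIso A (A ⧸ Ideal.span {1 - e.1}))


lemma zeroLocus_I : PrimeSpectrum.zeroLocus (I A Z : Set A) =
    ⋂ e : Idx A Z, (PrimeSpectrum.basicOpen e.1 : Set (PrimeSpectrum A)) := by
  unfold I
  rw [PrimeSpectrum.zeroLocus_iSup]
  refine Set.iInter_congr (fun e => ?_)
  rw [PrimeSpectrum.zeroLocus_span,
    PrimeSpectrum.zeroLocus_eq_basicOpen_of_isIdempotentElem _ e.2.1.one_sub, sub_sub_cancel]

open Topology in
/-- a closed subset of `π₀(Spec A)` is the spectrum of an ind-Zariski quotient of `A` -/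
theorem main0698 (T : Set (_root_.ConnectedComponents (PrimeSpectrum A))) (hT : IsClosed T) :
    ∃ (B : Type u) (_ : CommRing B) (_ : Algebra A B),
      EtPBC.IsIndZariski A B ∧ Function.Surjective (algebraMap A B) ∧
      Topology.IsEmbedding (PrimeSpectrum.comap (algebraMap A B)) ∧
      Set.range (PrimeSpectrum.comap (algebraMap A B)) = _root_.ConnectedComponents.mk ⁻¹' T := by
  set Z : Set (PrimeSpectrum A) := _root_.ConnectedComponents.mk ⁻¹' T with hZ
  have hsurj : Function.Surjective (algebraMap A (A ⧸ I A Z)) := Ideal.Quotient.mk_surjective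
  refine ⟨A ⧸ I A Z, inferInstance, inferInstance, isIndZariski A Z, hsurj,
    (PrimeSpectrum.isClosedEmbedding_comap_of_surjective _ _ hsurj).isEmbedding, ?_⟩
  rw [_root_.range_comap_of_surjective _ _ hsurj]
  have hker : RingHom.ker (algebraMap A (A ⧸ I A Z)) = I A Z := Ideal.mk_ker
  rw [hker, zeroLocus_I]
  apply Set.Subset.antisymm
  · intro x hx
    by_contra hxZ
    haveI : T2Space (_root_.ConnectedComponents (PrimeSpectrum A)) :=
      SpectralProdH8.t2Space_connectedComponents
    have hxT : _root_.ConnectedComponents.mk x ∈ Tᶜ := hxZ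
    obtain ⟨V, hV, hxV, hVT⟩ := compact_exists_isClopen_in_isOpen hT.isOpen_compl hxT
    have hW : IsClopen (_root_.ConnectedComponents.mk ⁻¹' Vᶜ : Set (PrimeSpectrum A)) :=
      hV.compl.preimage _root_.ConnectedComponents.continuous_coe
    obtain ⟨e, he, hWe⟩ := PrimeSpectrum.isClopen_iff.1 hW
    have hZW : Z ⊆ (PrimeSpectrum.basicOpen e : Set (PrimeSpectrum A)) := by
      rw [← hWe]
      intro y hy
      exact fun hyV => hVT hyV hy
    have h1 := Set.mem_iInter.1 hx (⟨e, he, hZW⟩ : Idx A Z)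
    rw [← hWe] at h1
    exact h1 hxV
  · intro x hx
    exact Set.mem_iInter.2 (fun e => e.2.2 hx)

end Groth.Agent.Lib.IndZarQuotH8
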