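import Groth.Agent.Lib.Indep_helper3

/-!
# Length of `A/(x₁^{e₁}, …, x_r^{e_r})` for independent powers of generators of the maximal ideal
(helper3)
-/

set_option autoImplicit false
universe u

namespace Groth.Agent.Lib.Indep_helper3
open Dual2

variable {A : Type u} [CommRing A] {r : ℕ}

lemma prod_update_enat (e : Fin r → ℕ) (j : Fin r) (v : ℕ) :
    ∏ i, ((Function.update e j v i : ℕ) : ℕ∞) =
      (v : ℕ∞) * ∏ i ∈ Finset.univ.erase j, (e i : ℕ∞) := by
  rw [← Finset.mul_prod_erase _ _ (Finset.mem_univ j), Function.update_self]
  congr 1
  apply Finset.prod_congr rfl
  intro i hi
  rw [Function.update_of_ne (Finset.ne_of_mem_erase hi)]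

lemma sum_update_nat (e : Fin r → ℕ) (j : Fin r) (v : ℕ) :
    ∑ i, Function.update e j v i = v + ∑ i ∈ Finset.univ.erase j, e i := by
  rw [← Finset.add_sum_erase _ _ (Finset.mem_univ j), Function.update_self]
  congr 1
  apply Finset.sum_congr rfl
  intro i hi
  rw [Function.update_of_ne (Finset.ne_of_mem_erase hi)]

theorem length_pow [IsLocalRing A] (x : Fin r → A)
    (hx : Ideal.span (Set.range x) = IsLocalRing.maximalIdeal A) :
    ∀ (n : ℕ) (e : Fin r → ℕ), ∑ i, e i = n → (∀ i, 0 < e i) →
      Independent (fun i => x i ^ e i) →
      Module.length A (A ⧸ Ideal.span (Set.range (fun i => x i ^ e i))) = ∏ i, (e i : ℕ∞) := by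
  intro n
  induction n using Nat.strong_induction_on with
  | _ n ih =>
    intro e hn he hind
    by_cases hall : ∀ i, e i = 1
    · have h1 : (fun i => x i ^ e i) = x := by funext i; rw [hall i, pow_one]
      rw [h1, hx]
      have h2 : ∏ i, (e i : ℕ∞) = 1 := by
        apply Finset.prod_eq_one
        intro i _
        rw [hall i]; rfl
      rw [h2, Module.length_eq_one_iff]
      exact isSimpleModule_iff_isCoatom.mpr (Ideal.isMaximal_def.mp inferInstance)
    · push_neg at hall
      obtain ⟨j, hj⟩ := hall
      have hj2 : 2 ≤ e j := by have := he j; omega
      have hF : (fun i => x i ^ e i) =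
          Function.update (fun i => x i ^ (Function.update e j (e j - 1)) i) j
            ((fun i => x i ^ (Function.update e j (e j - 1)) i) j * x j) := by
        funext i
        by_cases h : i = j
        · subst h
          simp only [Function.update_self]
          rw [← pow_succ]
          congr 1; omega
        · simp only [Function.update_of_ne h]
      have hF2 : (fun i => x i ^ e i) =
          Function.update (fun i => x i ^ (Function.update e j 1) i) j
            ((fun i => x i ^ (Function.update e j 1) i) j * x j ^ (e j - 1)) := by
        funext i
        by_cases h : i = j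
        · subst h
          simp only [Function.update_self]
          rw [pow_one, ← pow_succ']
          congr 1; omega
        · simp only [Function.update_of_ne h]
      have hG : (fun i => x i ^ (Function.update e j 1) i) =
          Function.update (fun i => x i ^ (Function.update e j (e j - 1)) i) j (x j) := by
        funext i
        by_cases h : i = j
        · subst h
          simp only [Function.update_self, pow_one]
        · simp only [Function.update_of_ne h]
      have hind1 : Independent (fun i => x i ^ (Function.update e j (e j - 1)) i) := by
        have := hind
        rw [hF] at this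
        exact independent_of_update_mul _ j (x j) this
      have hind2 : Independent (fun i => x i ^ (Function.update e j 1) i) := by
        have := hind
        rw [hF2] at this
        exact independent_of_update_mul _ j _ this
      have hlen := length_update_mul (fun i => x i ^ (Function.update e j (e j - 1)) i) j (x j)
        (by rw [← hF]; exact hind)
      rw [← hF, ← hG] at hlen
      have hsum : ∑ i, e i = e j + ∑ i ∈ Finset.univ.erase j, e i :=
        (Finset.add_sum_erase _ _ (Finset.mem_univ j)).symm
      have ih1 := ih (∑ i, Function.update e j (e j - 1) i)
        (by rw [sum_update_nat, ← hn, hsum]; omega) _ rfl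
        (by
          intro i
          by_cases h : i = j
          · subst h; rw [Function.update_self]; omega
          · rw [Function.update_of_ne h]; exact he i) hind1
      have ih2 := ih (∑ i, Function.update e j 1 i)
        (by rw [sum_update_nat, ← hn, hsum]; omega) _ rfl
        (by
          intro i
          by_cases h : i = j
          · subst h; rw [Function.update_self]; omega
          · rw [Function.update_of_ne h]; exact he i) hind2
      rw [hlen, ih1, ih2, prod_update_enat, prod_update_enat,
        ← Finset.mul_prod_erase _ _ (Finset.mem_univ j), ← add_mul]
      congr 1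
      have : ((e j - 1 : ℕ) : ℕ∞) + ((1 : ℕ) : ℕ∞) = ((e j : ℕ) : ℕ∞) := by
        rw [← Nat.cast_add]; congr 1; omega
      exact this

end Groth.Agent.Lib.Indep_helper3
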