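import Mathlib
import Groth.Prelude

set_option autoImplicit false
set_option linter.style.haveILetI false
set_option linter.unusedVariables false

universe u

open Matrix

namespace Groth.Agent.Lib.IndepCondH4

section LemmaA

variable {k : Type*} [Field k] {W : Type*} [AddCommGroup W] [Module k W] [FiniteDimensional k W]

theorem exists_minor {M : ℕ} (b : Module.Basis (Fin M) k W) {I : Type*}
    (φ : I → Module.Dual k W) (h : ∀ G : W, (∀ i, φ i G = 0) → G = 0) :
    ∃ ι : Fin M → I, (Matrix.of fun a j => φ (ι a) (b j)).det ≠ 0 := by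
  classical
  have hspan : Submodule.span k (Set.range φ) = ⊤ := by
    rw [← Subspace.dualCoannihilator_dualAnnihilator_eq (W := Submodule.span k (Set.range φ))]
    have h0 : (Submodule.span k (Set.range φ)).dualCoannihilator = ⊥ := by
      rw [eq_bot_iff]
      intro G hG
      rw [Submodule.mem_dualCoannihilator] at hG
      exact (Submodule.mem_bot k).mpr
        (h G fun i => hG (φ i) (Submodule.subset_span ⟨i, rfl⟩))
    rw [h0, Submodule.dualAnnihilator_bot]
  obtain ⟨B, hBsub, hBspan, hBli⟩ := exists_linearIndependent k (Set.range φ)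
  rw [hspan] at hBspan
  obtain ⟨bB, hbB⟩ : ∃ bB : Module.Basis ↥B k (Module.Dual k W), ∀ z : ↥B, bB z = (z : Module.Dual k W) :=
    ⟨Module.Basis.mk hBli (by rw [Subtype.range_coe]; exact hBspan.ge),
      fun z => Module.Basis.mk_apply _ _ z⟩
  obtain ⟨e⟩ : Nonempty (Fin M ≃ ↥B) := ⟨b.dualBasis.indexEquiv bB⟩
  have hch : ∀ a : Fin M, ∃ i : I, φ i = ((e a : ↥B) : Module.Dual k W) := fun a => hBsub (e a).2
  choose ι hι using hch
  refine ⟨ι, ?_⟩
  intro hdet
  obtain ⟨c, hc0, hc⟩ := Matrix.exists_mulVec_eq_zero_iff.mpr hdet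
  have hG : ∀ a, ((e a : ↥B) : Module.Dual k W) (∑ j, c j • b j) = 0 := by
    intro a
    have h1 : ∑ j, φ (ι a) (b j) * c j = 0 := congrFun hc a
    rw [← hι a, map_sum]
    rw [← h1]
    refine Finset.sum_congr rfl fun j _ => ?_
    rw [map_smul, smul_eq_mul, mul_comm]
  have hall : ∀ ψ : Module.Dual k W, ψ (∑ j, c j • b j) = 0 := by
    intro ψ
    have hψ : ψ ∈ Submodule.span k B := hBspan ▸ Submodule.mem_top
    refine Submodule.span_induction (p := fun ψ _ => ψ (∑ j, c j • b j) = 0) ?_ ?_ ?_ ?_ hψ
    · intro z hz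
      obtain ⟨a, ha⟩ := e.surjective ⟨z, hz⟩
      have h2 := hG a
      rw [ha] at h2
      exact h2
    · exact LinearMap.zero_apply _
    · intro z w _ _ hz hw
      rw [LinearMap.add_apply, hz, hw, add_zero]
    · intro t z _ hz
      rw [LinearMap.smul_apply, hz, smul_zero]
  have hG0 : ∑ j, c j • b j = 0 := (Module.forall_dual_apply_eq_zero_iff k _).mp hall
  have hc' : ∀ j, c j = 0 := Fintype.linearIndependent_iff.mp b.linearIndependent c hG0
  exact hc0 (funext hc')

end LemmaA

section PolyFun

variable (k : Type u) [Field k] {V : Type u} [AddCommGroup V] [Module k V]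

theorem isPolyFun_aeval {n : ℕ} (π : V →ₗ[k] (Fin n → k)) (p : MvPolynomial (Fin n) k) :
    LefPen.IsPolyFun k (fun x : V => MvPolynomial.aeval (π x) p) := by
  unfold LefPen.IsPolyFun
  induction p using MvPolynomial.induction_on with
  | C a =>
      have h1 : (fun x : V => MvPolynomial.aeval (π x) (MvPolynomial.C a)) =
          algebraMap k (V → k) a := by
        funext x
        rw [MvPolynomial.aeval_C]
        rfl
      rw [h1]
      exact Subalgebra.algebraMap_mem _ a
  | add p q hp hq =>
      have h1 : (fun x : V => MvPolynomial.aeval (π x) (p + q)) =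
          (fun x => MvPolynomial.aeval (π x) p) + (fun x => MvPolynomial.aeval (π x) q) := by
        funext x
        rw [map_add]
        rfl
      rw [h1]
      exact Subalgebra.add_mem _ hp hq
  | mul_X p l hp =>
      have h1 : (fun x : V => MvPolynomial.aeval (π x) (p * MvPolynomial.X l)) =
          (fun x => MvPolynomial.aeval (π x) p) * (fun x => ((LinearMap.proj l) ∘ₗ π) x) := by
        funext x
        rw [map_mul, MvPolynomial.aeval_X]
        rfl
      rw [h1]
      exact Subalgebra.mul_mem _ hp (Algebra.subset_adjoin ⟨(LinearMap.proj l) ∘ₗ π, rfl⟩)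

theorem isPolyFun_aeval_proj {m n : ℕ} (i : Fin m) (p : MvPolynomial (Fin n) k) :
    LefPen.IsPolyFun k (fun x : Fin m → (Fin n → k) => MvPolynomial.aeval (x i) p) :=
  isPolyFun_aeval k (LinearMap.proj (R := k) (φ := fun _ : Fin m => Fin n → k) i) p

theorem isPolyFun_det {M : ℕ} (E : Fin M → Fin M → V → k)
    (hE : ∀ a j, LefPen.IsPolyFun k (E a j)) :
    LefPen.IsPolyFun k (fun x : V => (Matrix.of fun a j => E a j x).det) := by
  have h1 : (fun x : V => (Matrix.of fun a j => E a j x).det) =
      (Matrix.of E : Matrix (Fin M) (Fin M) (V → k)).det := by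
    funext x
    have h2 := RingHom.map_det (Pi.evalRingHom (fun _ : V => k) x) (Matrix.of E)
    exact h2.symm
  unfold LefPen.IsPolyFun
  rw [h1, Matrix.det_apply']
  refine Subalgebra.sum_mem _ fun σ _ => Subalgebra.mul_mem _ ?_
    (Subalgebra.prod_mem _ fun a _ => hE _ _)
  exact intCast_mem _ _

end PolyFun

section Main

variable (k : Type u) [Field k] (r d m : ℕ)

instance instFD : FiniteDimensional k (LefPen.Form r k d) :=
  Module.Finite.iff_fg.mpr (MvPolynomial.homogeneousSubmodule_fg (Fin (r + 1)) k d)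

theorem finrank_form_le : Module.finrank k (LefPen.Form r k d) ≤ Nat.choose (r + d) d := by
  classical
  have hle : MvPolynomial.homogeneousSubmodule (Fin (r + 1)) k d ≤
      Submodule.span k (Set.range fun e : ↥((Finset.univ : Finset (Fin (r + 1))).finsuppAntidiag d) =>
        MvPolynomial.monomial e.1 (1 : k)) := by
    intro p hp
    have hs : ∑ v ∈ p.support, MvPolynomial.monomial v (MvPolynomial.coeff v p) ∈
        Submodule.span k (Set.range fun e : ↥((Finset.univ : Finset (Fin (r + 1))).finsuppAntidiag d) =>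
          MvPolynomial.monomial e.1 (1 : k)) := by
      refine Submodule.sum_mem _ fun e he => ?_
      have hdeg : Finsupp.degree e = d := by
        by_contra hne
        exact (MvPolynomial.mem_support_iff.mp he)
          (MvPolynomial.IsHomogeneous.coeff_eq_zero
            ((MvPolynomial.mem_homogeneousSubmodule d p).mp hp) hne)
      have heT : e ∈ (Finset.univ : Finset (Fin (r + 1))).finsuppAntidiag d :=
        Finset.mem_finsuppAntidiag.mpr
          ⟨by rw [← hdeg, Finsupp.degree_eq_sum], Finset.subset_univ _⟩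
      have h1 : MvPolynomial.monomial e (MvPolynomial.coeff e p) =
          (MvPolynomial.coeff e p) • MvPolynomial.monomial e (1 : k) := by
        rw [MvPolynomial.smul_monomial, smul_eq_mul, mul_one]
      rw [h1]
      exact Submodule.smul_mem _ _ (Submodule.subset_span ⟨⟨e, heT⟩, rfl⟩)
    rwa [MvPolynomial.support_sum_monomial_coeff] at hs
  haveI : Module.Finite k ↥(Submodule.span k (Set.range
      fun e : ↥((Finset.univ : Finset (Fin (r + 1))).finsuppAntidiag d) =>
      MvPolynomial.monomial e.1 (1 : k))) :=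
    FiniteDimensional.span_of_finite k (Set.finite_range _)
  calc Module.finrank k (LefPen.Form r k d)
      ≤ Module.finrank k ↥(Submodule.span k (Set.range
          fun e : ↥((Finset.univ : Finset (Fin (r + 1))).finsuppAntidiag d) =>
          MvPolynomial.monomial e.1 (1 : k))) := Submodule.finrank_mono hle
    _ ≤ Fintype.card ↥((Finset.univ : Finset (Fin (r + 1))).finsuppAntidiag d) :=
        finrank_range_le_card _
    _ = ((Finset.univ : Finset (Fin (r + 1))).finsuppAntidiag d).card := Fintype.card_coe _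
    _ = (r + 1 + d - 1).choose d := by
        rw [Finset.card_finsuppAntidiag_nat_eq_choose, Finset.card_univ, Fintype.card_fin]
    _ = (r + d).choose d := by
        congr 1
        omega

/-- evaluation at a point as a functional on forms -/
noncomputable def evp (p : Fin (r + 1) → k) : Module.Dual k (LefPen.Form r k d) :=
  (MvPolynomial.aeval p : MvPolynomial (Fin (r + 1)) k →ₐ[k] k).toLinearMap ∘ₗ
    (CohB1.polyGrading r k d).subtype

theorem evp_apply (p : Fin (r + 1) → k) (G : LefPen.Form r k d) :
    evp k r d p G = MvPolynomial.aeval p G.1 := rfl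

/-- the minor function attached to a choice of rows -/
noncomputable def minor {M : ℕ} (b : Module.Basis (Fin M) k (LefPen.Form r k d))
    (ι : Fin M → Fin m) (x : Fin m → (Fin (r + 1) → k)) : k :=
  (Matrix.of fun a j => MvPolynomial.aeval (x (ι a)) (b j).1).det

theorem isPolyFun_minor {M : ℕ} (b : Module.Basis (Fin M) k (LefPen.Form r k d))
    (ι : Fin M → Fin m) : LefPen.IsPolyFun k (minor k r d m b ι) := by
  unfold minor
  exact isPolyFun_det k (V := Fin m → (Fin (r + 1) → k))
    (fun a j x => MvPolynomial.aeval (x (ι a)) (b j).1)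
    (fun a j => isPolyFun_aeval_proj k (ι a) (b j).1)

theorem mem_of_minor_ne_zero {M : ℕ} (b : Module.Basis (Fin M) k (LefPen.Form r k d))
    (ι : Fin M → Fin m) (x : Fin m → (Fin (r + 1) → k)) (hx : minor k r d m b ι x ≠ 0)
    (G : LefPen.Form r k d) (hG : ∀ i : Fin m, MvPolynomial.aeval (x i) G.1 = 0) : G = 0 := by
  classical
  have hrepr : G = ∑ j, (b.repr G j) • b j := (b.sum_repr G).symm
  have hmv : (Matrix.of fun a j => MvPolynomial.aeval (x (ι a)) (b j).1) *ᵥ
      (fun j => b.repr G j) = 0 := by
    funext a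
    show ∑ j, evp k r d (x (ι a)) (b j) * b.repr G j = 0
    have h1 : evp k r d (x (ι a)) G = 0 := hG (ι a)
    rw [hrepr, map_sum] at h1
    rw [← h1]
    refine Finset.sum_congr rfl fun j _ => ?_
    rw [map_smul, smul_eq_mul, mul_comm]
  have hz := Matrix.eq_zero_of_mulVec_eq_zero hx hmv
  rw [hrepr]
  refine Finset.sum_eq_zero fun j _ => ?_
  rw [show b.repr G j = 0 from congrFun hz j, zero_smul]

end Main

theorem main (k : Type u) [Field k] [Infinite k]
    (r d m : ℕ) (hd : 1 ≤ d) (hm : Nat.choose (r + d) d ≤ m) :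
    LefPen.IsZOpen k {x : Fin m → (Fin (r + 1) → k) |
      ∀ G : LefPen.Form r k d, (∀ i : Fin m, MvPolynomial.aeval (x i) G.1 = 0) → G = 0} ∧
    LefPen.IsGeneric k {x : Fin m → (Fin (r + 1) → k) |
      ∀ G : LefPen.Form r k d, (∀ i : Fin m, MvPolynomial.aeval (x i) G.1 = 0) → G = 0} := by
  classical
  obtain ⟨M, hM⟩ : ∃ M, M = Module.finrank k (LefPen.Form r k d) := ⟨_, rfl⟩
  have hMm : M ≤ m := hM ▸ (finrank_form_le k r d).trans hm
  obtain ⟨b⟩ : Nonempty (Module.Basis (Fin M) k (LefPen.Form r k d)) :=
    ⟨Module.finBasisOfFinrankEq k (LefPen.Form r k d) hM.symm⟩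
  constructor
  · intro x hx
    obtain ⟨ι, hι⟩ := exists_minor b (fun i : Fin m => evp k r d (x i)) hx
    exact ⟨minor k r d m b ι, isPolyFun_minor k r d m b ι, hι,
      fun w hw G hG => mem_of_minor_ne_zero k r d m b ι w hw G hG⟩
  · obtain ⟨q, hq⟩ := exists_minor b (fun p : Fin (r + 1) → k => evp k r d p) (by
      intro G hG
      have h0 : G.1 = 0 := MvPolynomial.funext fun p => by
        rw [map_zero]
        exact hG p
      exact Subtype.ext h0)
    obtain ⟨x₀, hx₀⟩ : ∃ x₀ : Fin m → (Fin (r + 1) → k),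
        ∀ a : Fin M, x₀ (Fin.castLE hMm a) = q a := by
      refine ⟨fun i => if h : i.val < M then q ⟨i.val, h⟩ else 0, fun a => ?_⟩
      have h1 : (Fin.castLE hMm a).val < M := a.2
      beta_reduce
      rw [dif_pos h1]
      rfl
    refine ⟨minor k r d m b (Fin.castLE hMm), isPolyFun_minor k r d m b _, ⟨x₀, ?_⟩,
      fun w hw G hG => mem_of_minor_ne_zero k r d m b _ w hw G hG⟩
    unfold minor
    have h2 : (Matrix.of fun a j => MvPolynomial.aeval (x₀ (Fin.castLE hMm a)) (b j).1) =
        (Matrix.of fun a j => evp k r d (q a) (b j)) := by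
      refine Matrix.ext fun a j => ?_
      show MvPolynomial.aeval (x₀ (Fin.castLE hMm a)) (b j).1 =
        MvPolynomial.aeval (q a) (b j).1
      rw [hx₀ a]
    rw [h2]
    exact hq

end Groth.Agent.Lib.IndepCondH4
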