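import Mathlib
import Groth.Prelude.Def_DualLC

/-!
# Independent families of ring elements (helper3)
-/

set_option autoImplicit false
universe u

namespace Groth.Agent.Lib.Indep_helper3
open Dual2

variable {A : Type u} [CommRing A] {r : ℕ}

lemma sum_update_mul_update (a f : Fin r → A) (j : Fin r) (u v : A) :
    ∑ i, (Function.update a j u) i * (Function.update f j v) i =
      u * v + ∑ i ∈ Finset.univ.erase j, a i * f i := by
  rw [← Finset.add_sum_erase _ _ (Finset.mem_univ j), Function.update_self, Function.update_self]
  congr 1
  apply Finset.sum_congr rfl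
  intro i hi
  rw [Function.update_of_ne (Finset.ne_of_mem_erase hi),
    Function.update_of_ne (Finset.ne_of_mem_erase hi)]

lemma sum_mul_update (a f : Fin r → A) (j : Fin r) (v : A) :
    ∑ i, a i * (Function.update f j v) i = a j * v + ∑ i ∈ Finset.univ.erase j, a i * f i := by
  have := sum_update_mul_update a f j (a j) v
  rwa [Function.update_eq_self] at this

lemma sum_mul_eq (a f : Fin r → A) (j : Fin r) :
    ∑ i, a i * f i = a j * f j + ∑ i ∈ Finset.univ.erase j, a i * f i :=
  (Finset.add_sum_erase _ _ (Finset.mem_univ j)).symm

lemma span_update_mul_le (f : Fin r → A) (j : Fin r) (g : A) :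
    Ideal.span (Set.range (Function.update f j (f j * g))) ≤ Ideal.span (Set.range f) := by
  rw [Ideal.span_le]
  rintro _ ⟨i, rfl⟩
  by_cases h : i = j
  · subst h
    rw [Function.update_self]
    exact Ideal.mul_mem_right _ _ (Ideal.subset_span ⟨i, rfl⟩)
  · rw [Function.update_of_ne h]; exact Ideal.subset_span ⟨i, rfl⟩

lemma span_update_mul_le' (f : Fin r → A) (j : Fin r) (g : A) :
    Ideal.span (Set.range (Function.update f j (f j * g))) ≤
      Ideal.span (Set.range (Function.update f j g)) := by
  rw [Ideal.span_le]
  rintro _ ⟨i, rfl⟩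
  by_cases h : i = j
  · subst h
    rw [Function.update_self]
    refine Ideal.mul_mem_left _ _ (Ideal.subset_span ⟨i, ?_⟩)
    rw [Function.update_self]
  · rw [Function.update_of_ne h]
    refine Ideal.subset_span ⟨i, ?_⟩
    rw [Function.update_of_ne h]

lemma mem_span_update_of_ne (f : Fin r → A) (j : Fin r) (v : A) {i : Fin r} (h : i ≠ j) :
    f i ∈ Ideal.span (Set.range (Function.update f j v)) :=
  Ideal.subset_span ⟨i, by rw [Function.update_of_ne h]⟩

lemma sum_erase_mem_span_update (c f : Fin r → A) (j : Fin r) (v : A) :
    ∑ i ∈ Finset.univ.erase j, c i * f i ∈ Ideal.span (Set.range (Function.update f j v)) :=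
  Ideal.sum_mem _ fun i hi =>
    Ideal.mul_mem_left _ _ (mem_span_update_of_ne f j v (Finset.ne_of_mem_erase hi))

/-- If `f` with `f j` replaced by `f j * g` is independent, then `f` is independent. -/
theorem independent_of_update_mul (f : Fin r → A) (j : Fin r) (g : A)
    (h : Independent (Function.update f j (f j * g))) : Independent f := by
  intro a ha
  have hle := span_update_mul_le f j g
  have key : a j * f j + ∑ i ∈ Finset.univ.erase j, a i * f i = 0 := by
    rw [← sum_mul_eq]; exact ha
  -- step 1
  have h1 : a j ∈ Ideal.span (Set.range (Function.update f j (f j * g))) := by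
    have hrel : ∑ i, (Function.update (fun i => g * a i) j (a j)) i *
        (Function.update f j (f j * g)) i = 0 := by
      rw [sum_update_mul_update]
      have : ∑ i ∈ Finset.univ.erase j, g * a i * f i =
          g * ∑ i ∈ Finset.univ.erase j, a i * f i := by
        rw [Finset.mul_sum]; apply Finset.sum_congr rfl; intros; ring
      rw [this]
      linear_combination g * key
    have := h _ hrel j
    rwa [Function.update_self] at this
  obtain ⟨c, hc⟩ := Ideal.mem_span_range_iff_exists_fun.mp h1
  rw [sum_mul_update] at hc
  -- step 2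
  have hrel2 : ∑ i, (Function.update (fun i => a i + c i * f j) j (c j * f j)) i *
      (Function.update f j (f j * g)) i = 0 := by
    rw [sum_update_mul_update]
    have e1 : ∑ i ∈ Finset.univ.erase j, (a i + c i * f j) * f i =
        ∑ i ∈ Finset.univ.erase j, a i * f i + f j * ∑ i ∈ Finset.univ.erase j, c i * f i := by
      rw [Finset.mul_sum, ← Finset.sum_add_distrib]
      apply Finset.sum_congr rfl; intros; ring
    rw [e1]
    linear_combination key + f j * hc
  intro i
  by_cases hi : i = j
  · subst hi; exact hle h1
  · have := h _ hrel2 i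
    rw [Function.update_of_ne hi] at this
    have h3 : a i + c i * f j ∈ Ideal.span (Set.range f) := hle this
    have h4 : c i * f j ∈ Ideal.span (Set.range f) :=
      Ideal.mul_mem_left _ _ (Ideal.subset_span ⟨j, rfl⟩)
    have := Ideal.sub_mem _ h3 h4
    rwa [add_sub_cancel_right] at this

/-- Additivity of length along `f j ↦ f j * g` for an independent family. -/
theorem length_update_mul (f : Fin r → A) (j : Fin r) (g : A)
    (h : Independent (Function.update f j (f j * g))) :
    Module.length A (A ⧸ Ideal.span (Set.range (Function.update f j (f j * g)))) =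
      Module.length A (A ⧸ Ideal.span (Set.range f)) +
        Module.length A (A ⧸ Ideal.span (Set.range (Function.update f j g))) := by
  set IF := Ideal.span (Set.range (Function.update f j (f j * g))) with hIF
  set If := Ideal.span (Set.range f) with hIf
  set IG := Ideal.span (Set.range (Function.update f j g)) with hIG
  have hle : IF ≤ If := span_update_mul_le f j g
  have hle' : IF ≤ IG := span_update_mul_le' f j g
  have hcomap : IG ≤ Submodule.comap (LinearMap.mulLeft A (f j)) IF := by
    rw [hIG, Ideal.span, Submodule.span_le]
    rintro _ ⟨i, rfl⟩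
    change f j * _ ∈ IF
    by_cases hi : i = j
    · subst hi
      rw [Function.update_self]
      exact Ideal.subset_span ⟨i, by rw [Function.update_self]⟩
    · rw [Function.update_of_ne hi]
      exact Ideal.mul_mem_left _ _ (mem_span_update_of_ne f j _ hi)
  let φ : (A ⧸ IG) →ₗ[A] (A ⧸ IF) := Submodule.mapQ IG IF (LinearMap.mulLeft A (f j)) hcomap
  let ψ : (A ⧸ IF) →ₗ[A] (A ⧸ If) := Submodule.mapQ IF If LinearMap.id hle
  have hφ : ∀ x : A, φ (Submodule.Quotient.mk x) = Submodule.Quotient.mk (f j * x) := fun x => rfl
  have hψ : ∀ x : A, ψ (Submodule.Quotient.mk x) = Submodule.Quotient.mk x := fun x => rfl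
  have hψs : Function.Surjective ψ := by
    intro y
    obtain ⟨y, rfl⟩ := Submodule.Quotient.mk_surjective _ y
    exact ⟨Submodule.Quotient.mk y, hψ y⟩
  have hφi : Function.Injective φ := by
    rw [injective_iff_map_eq_zero]
    intro x hx
    obtain ⟨x, rfl⟩ := Submodule.Quotient.mk_surjective _ x
    rw [hφ, Submodule.Quotient.mk_eq_zero] at hx
    rw [Submodule.Quotient.mk_eq_zero]
    obtain ⟨c, hc⟩ := Ideal.mem_span_range_iff_exists_fun.mp hx
    rw [sum_mul_update] at hc
    have hrel : ∑ i, (Function.update (fun i => g * c i) j (c j * g - x)) i *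
        (Function.update f j (f j * g)) i = 0 := by
      rw [sum_update_mul_update]
      have : ∑ i ∈ Finset.univ.erase j, g * c i * f i =
          g * ∑ i ∈ Finset.univ.erase j, c i * f i := by
        rw [Finset.mul_sum]; apply Finset.sum_congr rfl; intros; ring
      rw [this]
      linear_combination g * hc
    have h1 := h _ hrel j
    rw [Function.update_self] at h1
    have h2 : c j * g ∈ IG :=
      Ideal.mul_mem_left _ _ (Ideal.subset_span ⟨j, by rw [Function.update_self]⟩)
    have := Ideal.sub_mem _ h2 (hle' h1)
    rwa [sub_sub_cancel] at this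
  have hex : Function.Exact φ ψ := by
    intro y
    obtain ⟨y, rfl⟩ := Submodule.Quotient.mk_surjective _ y
    rw [hψ, Submodule.Quotient.mk_eq_zero]
    constructor
    · intro hy
      obtain ⟨c, hc⟩ := Ideal.mem_span_range_iff_exists_fun.mp hy
      rw [sum_mul_eq c f j] at hc
      refine ⟨Submodule.Quotient.mk (c j), ?_⟩
      rw [hφ, Submodule.Quotient.eq]
      have : f j * c j - y = - ∑ i ∈ Finset.univ.erase j, c i * f i := by
        rw [← hc]; ring
      rw [this]
      exact Ideal.neg_mem_iff _ |>.mpr (sum_erase_mem_span_update c f j _)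
    · rintro ⟨x, hx⟩
      obtain ⟨x, rfl⟩ := Submodule.Quotient.mk_surjective _ x
      rw [hφ, Submodule.Quotient.eq] at hx
      have h1 : f j * x ∈ If := Ideal.mul_mem_right _ _ (Ideal.subset_span ⟨j, rfl⟩)
      have := Ideal.sub_mem _ h1 (hle hx)
      rwa [sub_sub_cancel] at this
  rw [Module.length_eq_add_of_exact φ ψ hφi hψs hex, add_comm]

end Groth.Agent.Lib.Indep_helper3
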