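import Mathlib
import Groth.Agent.S0499

set_option autoImplicit false
universe u

namespace InertUnrH8

open IsLocalRing

/-- A domain finite over a henselian local ring is local. -/
theorem isLocalRing_of_finite_of_henselian (R : Type u) [CommRing R] [HenselianLocalRing R]
    (S : Type u) [CommRing S] [IsDomain S] [Algebra R S] [Module.Finite R S] : IsLocalRing S := by
  obtain ⟨ι, hι, A, hA, hloc, ⟨e⟩⟩ := Groth.Agent.S0499.result R S
  classical
  -- ι has exactly one element
  have hne : Nonempty ι := by
    by_contra hemp
    rw [not_nonempty_iff] at hemp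
    have h01 : e (0 : S) = e 1 := Subsingleton.elim _ _
    exact zero_ne_one (e.injective h01)
  obtain ⟨i₀⟩ := hne
  have huniq : ∀ i, i = i₀ := by
    intro i
    by_contra hi
    have h1 : (Pi.single i (1 : A i) : ∀ j, A j) * Pi.single i₀ (1 : A i₀) = 0 := by
      ext j
      by_cases hj : j = i
      · subst hj
        simp [Pi.single_eq_of_ne hi]
      · simp [Pi.single_eq_of_ne hj]
    have h2 : e.symm (Pi.single i (1 : A i)) * e.symm (Pi.single i₀ (1 : A i₀)) = 0 := by
      rw [← map_mul, h1, map_zero]
    haveI := hloc i
    haveI := hloc i₀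
    rcases mul_eq_zero.mp h2 with h3 | h3
    · have h4 : (Pi.single i (1 : A i) : ∀ j, A j) = 0 := by
        have := congrArg e h3
        simpa using this
      have h5 := congrFun h4 i
      simp at h5
    · have h4 : (Pi.single i₀ (1 : A i₀) : ∀ j, A j) = 0 := by
        have := congrArg e h3
        simpa using this
      have h5 := congrFun h4 i₀
      simp at h5
  haveI := hloc i₀
  -- S ≃+* A i₀
  let f : S →+* A i₀ := (Pi.evalRingHom A i₀).comp e.toRingHom
  have hf : Function.Bijective f := by
    constructor
    · intro x y hxy
      apply e.injective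
      ext j
      rw [huniq j]
      exact hxy
    · intro a
      refine ⟨e.symm (Pi.single i₀ a), ?_⟩
      simp [f]
  exact (RingEquiv.ofBijective f hf).symm.isLocalRing

/-- A complete local ring is a henselian local ring. -/
theorem henselianLocalRing_of_isAdicComplete (R : Type u) [CommRing R] [IsLocalRing R]
    [IsAdicComplete (maximalIdeal R) R] : HenselianLocalRing R where
  is_henselian f hf a₀ h₁ h₂ :=
    HenselianRing.is_henselian f hf a₀ h₁ (h₂.map (Ideal.Quotient.mk _))

end InertUnrH8
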