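import Mathlib

set_option autoImplicit false
universe u

namespace InertUnrH8

open IsLocalRing

/-- If `S` is formally unramified over `R`, an `R`-algebra endomorphism of `S` congruent to the
identity modulo an ideal `n` is congruent to the identity modulo every power of `n`. -/
theorem sub_mem_pow_of_formallyUnramified {R S : Type u} [CommRing R] [CommRing S] [Algebra R S]
    [Algebra.FormallyUnramified R S] (n : Ideal S) (σ : S →ₐ[R] S)
    (hσ : ∀ x, σ x - x ∈ n) (k : ℕ) (x : S) : σ x - x ∈ n ^ (k + 1) := by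
  let π : S →ₐ[R] S ⧸ n ^ (k + 1) := Ideal.Quotient.mkₐ R (n ^ (k + 1))
  let I : Ideal (S ⧸ n ^ (k + 1)) := n.map (Ideal.Quotient.mk (n ^ (k + 1)))
  have hI : IsNilpotent I := by
    refine ⟨k + 1, ?_⟩
    show I ^ (k + 1) = ⊥
    rw [← Ideal.map_pow, Ideal.map_quotient_self]
  have heq : π = π.comp σ := by
    apply Algebra.FormallyUnramified.ext I hI
    intro y
    rw [Ideal.Quotient.eq]
    have h1 : π y - (π.comp σ) y = - Ideal.Quotient.mk (n ^ (k + 1)) (σ y - y) := by
      simp [π]
    rw [h1]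
    exact I.neg_mem (Ideal.mem_map_of_mem _ (hσ y))
  have h2 : π (σ x) = π x := by
    have := congrArg (fun f : S →ₐ[R] S ⧸ n ^ (k + 1) => f x) heq
    exact this.symm
  have h3 : Ideal.Quotient.mk (n ^ (k + 1)) (σ x - x) = 0 := by
    rw [map_sub]
    exact sub_eq_zero.mpr h2
  exact Ideal.Quotient.eq_zero_iff_mem.mp h3

/-- In the Noetherian local case the endomorphism is the identity. -/
theorem eq_of_formallyUnramified {R S : Type u} [CommRing R] [CommRing S] [Algebra R S]
    [Algebra.FormallyUnramified R S] [IsNoetherianRing S] [IsLocalRing S] (σ : S →ₐ[R] S)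
    (hσ : ∀ x, σ x - x ∈ maximalIdeal S) (x : S) : σ x = x := by
  have h1 : σ x - x ∈ (⨅ k : ℕ, maximalIdeal S ^ k) := by
    rw [Ideal.mem_iInf]
    intro k
    rcases k with _ | k
    · simp
    · exact sub_mem_pow_of_formallyUnramified _ σ hσ k x
  rw [Ideal.iInf_pow_eq_bot_of_isLocalRing _ (maximalIdeal.isMaximal S).ne_top] at h1
  exact sub_eq_zero.mp h1

end InertUnrH8
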