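import Mathlib
import Groth.Prelude.Def_W4c5stacksedinertiaGpd

set_option autoImplicit false
set_option maxSynthPendingDepth 3

open W4c5stacksedinertia
open Classical

namespace Groth.Agent.Lib.Inertia

universe u v

/-! ### Classes of finite groups -/

theorem nonempty_ofEquiv (G : Type u) [Group G] [Finite G] :
    Nonempty ((FinGrp.of G).carrier ≃* G) := by
  have h : Nat.card G ≠ 0 := Nat.card_pos.ne'
  let e : Fin (Nat.card G) ≃ G := (Nat.equivFinOfCardPos (α := G) h).symm
  refine ⟨{ toEquiv := e, map_mul' := fun x y => ?_ }⟩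
  show e (e.symm (e x * e y)) = e x * e y
  exact e.apply_symm_apply _

theorem idxOf_eq_of_mulEquiv {G : Type u} {H : Type v} [Group G] [Finite G] [Group H] [Finite H]
    (e : G ≃* H) : Idx.of G = Idx.of H := by
  obtain ⟨a⟩ := nonempty_ofEquiv G
  obtain ⟨b⟩ := nonempty_ofEquiv H
  exact Quotient.sound (s := FinGrp.setoid)
    (show FinGrp.setoid.r (FinGrp.of G) (FinGrp.of H) from ⟨(a.trans e).trans b.symm⟩)

theorem cl_eq_of_mulEquiv {G : Type u} {H : Type v} [Group G] [Finite G] [Group H] [Finite H]
    (e : G ≃* H) : cl G = cl H := by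
  unfold cl
  rw [idxOf_eq_of_mulEquiv e]

theorem nonempty_repEquiv (G : Type u) [Group G] [Finite G] :
    Nonempty ((Idx.of G).rep ≃* G) := by
  obtain ⟨a⟩ := nonempty_ofEquiv G
  obtain ⟨b⟩ : Nonempty ((Quotient.out (s := FinGrp.setoid) (Idx.of G)).carrier ≃*
      (FinGrp.of G).carrier) :=
    Quotient.mk_out (s := FinGrp.setoid) (FinGrp.of G)
  exact ⟨b.trans a⟩

theorem idxOf_rep (i : Idx) : Idx.of i.rep = i := by
  obtain ⟨a⟩ := nonempty_ofEquiv (Quotient.out (s := FinGrp.setoid) i).carrier
  have h2 : Quotient.mk FinGrp.setoid (FinGrp.of (Quotient.out (s := FinGrp.setoid) i).carrier)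
      = Quotient.mk FinGrp.setoid (Quotient.out (s := FinGrp.setoid) i) :=
    Quotient.sound (s := FinGrp.setoid) (show FinGrp.setoid.r _ _ from ⟨a⟩)
  exact h2.trans (Quotient.out_eq i)

theorem cl_rep (i : Idx) : cl i.rep = Finsupp.single i 1 := by
  unfold cl
  rw [idxOf_rep]

theorem centerCard_of (H : Type u) [Group H] [Finite H] :
    (Idx.of H).centerCard = Nat.card (Subgroup.center H) := by
  obtain ⟨e⟩ := nonempty_repEquiv H
  exact Nat.card_congr (Subgroup.centerCongr e).toEquiv

theorem card_of (H : Type u) [Group H] [Finite H] : (Idx.of H).card = Nat.card H := by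
  obtain ⟨e⟩ := nonempty_repEquiv H
  exact Nat.card_congr e.toEquiv

theorem Kge_anti {a b : ℕ} (h : a ≤ b) : Kge b ≤ Kge a :=
  Finsupp.supported_mono (fun _ hj => le_trans h hj)

theorem cl_mem_Kge (H : Type u) [Group H] [Finite H] (k : ℕ)
    (h : k ≤ Nat.card (Subgroup.center H)) : cl H ∈ Kge k := by
  unfold cl Kge
  apply Finsupp.single_mem_supported
  show k ≤ (Idx.of H).centerCard
  rw [centerCard_of]; exact h

theorem cl_mem_Kle (H : Type u) [Group H] [Finite H] (n : ℕ)
    (h : Nat.card H ≤ n) : cl H ∈ Kle n := by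
  unfold cl Kle
  apply Finsupp.single_mem_supported
  show (Idx.of H).card ≤ n
  rw [card_of]; exact h

/-! ### Centralizers -/

/-- Transport of centralizers along an isomorphism. -/
noncomputable def centEquiv {G : Type u} {H : Type v} [Group G] [Group H] (e : G ≃* H)
    (S : Set G) (T : Set H) (h : e '' S = T) :
    Subgroup.centralizer S ≃* Subgroup.centralizer T where
  toFun x := ⟨e x.1, by
    rw [Subgroup.mem_centralizer_iff]
    intro y hy
    rw [← h] at hy
    obtain ⟨z, hz, rfl⟩ := hy
    have := Subgroup.mem_centralizer_iff.mp x.2 z hz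
    rw [← map_mul, ← map_mul, this]⟩
  invFun y := ⟨e.symm y.1, by
    rw [Subgroup.mem_centralizer_iff]
    intro z hz
    have hz' : e z ∈ T := by rw [← h]; exact Set.mem_image_of_mem e hz
    have := Subgroup.mem_centralizer_iff.mp y.2 (e z) hz'
    apply e.injective
    rw [map_mul, map_mul, e.apply_symm_apply]
    exact this⟩
  left_inv x := Subtype.ext (e.symm_apply_apply _)
  right_inv y := Subtype.ext (e.apply_symm_apply _)
  map_mul' x y := Subtype.ext (map_mul e _ _)

/-- The weighted class of the centralizer of a set. -/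
noncomputable def F (G : Type u) [Group G] [Finite G] (S : Set G) : K :=
  ((Nat.card (Subgroup.centralizer S) : ℚ) / (Nat.card G : ℚ)) • cl (Subgroup.centralizer S)

theorem F_congr {G : Type u} {H : Type v} [Group G] [Finite G] [Group H] [Finite H] (e : G ≃* H)
    (S : Set G) (T : Set H) (h : e '' S = T) : F G S = F H T := by
  unfold F
  rw [cl_eq_of_mulEquiv (centEquiv e S T h), Nat.card_congr (centEquiv e S T h).toEquiv,
    Nat.card_congr e.toEquiv]

theorem F_central (G : Type u) [Group G] [Finite G] (S : Set G)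
    (h : S ⊆ (Subgroup.center G : Set G)) : F G S = cl G := by
  have htop : Subgroup.centralizer S = ⊤ := Subgroup.centralizer_eq_top_iff_subset.mpr h
  let e : Subgroup.centralizer S ≃* G := (MulEquiv.subgroupCongr htop).trans Subgroup.topEquiv
  have hG : (Nat.card G : ℚ) ≠ 0 := by exact_mod_cast (Nat.card_pos (α := G)).ne'
  unfold F
  rw [cl_eq_of_mulEquiv e, Nat.card_congr e.toEquiv, div_self hG, one_smul]

/-! ### The conjugation action on commuting tuples -/

section Action

variable {G : Type u} [Group G]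

/-- Conjugation of a commuting tuple. -/
def conjTuple {r : ℕ} (g : G) (s : CommTuple G r) : CommTuple G r :=
  ⟨fun i => g * s.1 i * g⁻¹, fun i j h => s.2.1 (by simpa using h), fun i j => by
    show g * s.1 i * g⁻¹ * (g * s.1 j * g⁻¹) = g * s.1 j * g⁻¹ * (g * s.1 i * g⁻¹)
    have h := (s.2.2 i j).eq
    calc g * s.1 i * g⁻¹ * (g * s.1 j * g⁻¹) = g * (s.1 i * s.1 j) * g⁻¹ := by group
      _ = g * (s.1 j * s.1 i) * g⁻¹ := by rw [h]
      _ = g * s.1 j * g⁻¹ * (g * s.1 i * g⁻¹) := by group⟩

instance conjAction (r : ℕ) : MulAction G (CommTuple G r) where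
  smul := conjTuple
  one_smul s := Subtype.ext (funext fun i => by
    show 1 * s.1 i * 1⁻¹ = s.1 i
    simp)
  mul_smul g h s := Subtype.ext (funext fun i => by
    show (g * h) * s.1 i * (g * h)⁻¹ = g * (h * s.1 i * h⁻¹) * g⁻¹
    group)

theorem smul_val {r : ℕ} (g : G) (s : CommTuple G r) (i : Fin r) :
    (g • s).1 i = g * s.1 i * g⁻¹ := rfl

theorem rel_iff {r : ℕ} (s t : CommTuple G r) :
    (CommTuple.setoid G r).r s t ↔ t ∈ MulAction.orbit G s := by
  constructor
  · rintro ⟨g, hg⟩
    exact ⟨g, Subtype.ext (funext hg)⟩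
  · rintro ⟨g, hg⟩
    exact ⟨g, fun i => congrFun (congrArg Subtype.val hg) i⟩

theorem stabilizer_eq {r : ℕ} (s : CommTuple G r) :
    MulAction.stabilizer G s = Subgroup.centralizer (Set.range s.1) := by
  ext g
  rw [MulAction.mem_stabilizer_iff, Subgroup.mem_centralizer_iff]
  constructor
  · intro h x hx
    obtain ⟨i, rfl⟩ := hx
    have h2 : g * s.1 i * g⁻¹ = s.1 i := congrFun (congrArg Subtype.val h) i
    calc s.1 i * g = (g * s.1 i * g⁻¹) * g := by rw [h2]
      _ = g * s.1 i := by group
  · intro h
    refine Subtype.ext (funext fun i => ?_)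
    show g * s.1 i * g⁻¹ = s.1 i
    rw [← h (s.1 i) ⟨i, rfl⟩]
    group

theorem card_orbit_mul [Finite G] {r : ℕ} (s : CommTuple G r) :
    (MulAction.orbit G s).ncard * Nat.card (Subgroup.centralizer (Set.range s.1)) = Nat.card G := by
  rw [← stabilizer_eq, ← MulAction.index_stabilizer]
  exact Subgroup.index_mul_card _

theorem F_orbit [Finite G] {r : ℕ} (s t : CommTuple G r) (h : t ∈ MulAction.orbit G s) :
    F G (Set.range t.1) = F G (Set.range s.1) := by
  obtain ⟨g, rfl⟩ := h
  symm
  apply F_congr (MulAut.conj g)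
  rw [← Set.range_comp]
  exact congrArg Set.range (funext fun i => MulAut.conj_apply g (s.1 i))

end Action

/-! ### The tuple-sum form of the inertia operators -/

/-- The predicate defining commuting tuples. -/
def P {G : Type u} [Group G] (r : ℕ) (s : Fin r → G) : Prop :=
  Function.Injective s ∧ ∀ i j, Commute (s i) (s j)

/-- The `r`-th inertia operator on the class of `G`, as a weighted sum over all commuting tuples. -/
noncomputable def J (r : ℕ) (G : Type u) [Group G] [Finite G] : K :=
  ∑ᶠ s : CommTuple G r, F G (Set.range s.1)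

/-- The orbit of a tuple. -/
def toOrbit {G : Type u} [Group G] {r : ℕ} (s : CommTuple G r) : CommTuple.Orbit G r :=
  Quotient.mk (CommTuple.setoid G r) s

theorem toOrbit_out {G : Type u} [Group G] {r : ℕ} (O : CommTuple.Orbit G r) :
    toOrbit (Quotient.out (s := CommTuple.setoid G r) O) = O := Quotient.out_eq O

theorem toOrbit_eq_iff {G : Type u} [Group G] {r : ℕ} (s t : CommTuple G r) :
    toOrbit s = toOrbit t ↔ t ∈ MulAction.orbit G s := by
  rw [← rel_iff]
  exact ⟨fun h => Quotient.exact h, fun h => Quotient.sound h⟩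

theorem inertiaROf_eq_J (r : ℕ) (G : Type u) [Group G] [Finite G] : inertiaROf r G = J r G := by
  haveI : Fintype G := Fintype.ofFinite G
  haveI : Fintype (CommTuple G r) := show Fintype {s : Fin r → G // P r s} from inferInstance
  haveI : Finite (CommTuple.Orbit G r) :=
    show Finite (Quotient (CommTuple.setoid G r)) from inferInstance
  haveI : Fintype (CommTuple.Orbit G r) := Fintype.ofFinite _
  unfold inertiaROf J
  rw [finsum_eq_sum_of_fintype, finsum_eq_sum_of_fintype]
  rw [← Finset.sum_fiberwise (κ := CommTuple.Orbit G r) Finset.univ toOrbit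
    (fun s => F G (Set.range s.1))]
  refine Finset.sum_congr rfl fun O _ => ?_
  have key : ∀ s₀ : CommTuple G r, toOrbit s₀ = O →
      cl ↥(Subgroup.centralizer (Set.range s₀.1)) =
        ∑ i ∈ Finset.univ.filter (fun i : CommTuple G r => toOrbit i = O),
          F G (Set.range i.1) := by
    intro s₀ hO
    have hfib : ∀ s : CommTuple G r, toOrbit s = O ↔ s ∈ MulAction.orbit G s₀ := fun s => by
      rw [← hO, eq_comm]; exact toOrbit_eq_iff s₀ s
    have hconst : ∀ s ∈ Finset.univ.filter (fun i : CommTuple G r => toOrbit i = O),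
        F G (Set.range s.1) = F G (Set.range s₀.1) := fun s hs =>
      F_orbit s₀ s ((hfib s).mp (Finset.mem_filter.mp hs).2)
    rw [Finset.sum_congr rfl hconst, Finset.sum_const]
    have hcard : (Finset.univ.filter (fun i : CommTuple G r => toOrbit i = O)).card
        = (MulAction.orbit G s₀).ncard := by
      rw [← Set.ncard_coe_finset]
      congr 1
      ext s
      simp only [Finset.coe_filter, Finset.mem_univ, true_and, Set.mem_setOf_eq]
      exact hfib s
    rw [hcard]
    have hos : (MulAction.orbit G s₀).ncard * Nat.card (Subgroup.centralizer (Set.range s₀.1))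
        = Nat.card G := card_orbit_mul s₀
    have hG : (Nat.card G : ℚ) ≠ 0 := by exact_mod_cast (Nat.card_pos (α := G)).ne'
    have hos' : ((MulAction.orbit G s₀).ncard : ℚ) *
        (Nat.card (Subgroup.centralizer (Set.range s₀.1)) : ℚ) = (Nat.card G : ℚ) := by
      exact_mod_cast hos
    unfold F
    rw [← Nat.cast_smul_eq_nsmul ℚ, smul_smul, ← mul_div_assoc, hos', div_self hG, one_smul]
  exact key _ (toOrbit_out O)

theorem J_congr (r : ℕ) {G : Type u} {H : Type v} [Group G] [Finite G] [Group H] [Finite H]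
    (e : G ≃* H) : J r G = J r H := by
  unfold J
  let φ : CommTuple G r ≃ CommTuple H r :=
    { toFun := fun s => ⟨fun i => e (s.1 i), fun i j h => s.2.1 (e.injective h), fun i j => by
          show e (s.1 i) * e (s.1 j) = e (s.1 j) * e (s.1 i)
          rw [← map_mul, ← map_mul, (s.2.2 i j).eq]⟩
      invFun := fun t => ⟨fun i => e.symm (t.1 i), fun i j h => t.2.1 (e.symm.injective h),
        fun i j => by
          show e.symm (t.1 i) * e.symm (t.1 j) = e.symm (t.1 j) * e.symm (t.1 i)
          rw [← map_mul, ← map_mul, (t.2.2 i j).eq]⟩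
      left_inv := fun s => Subtype.ext (funext fun i => e.symm_apply_apply _)
      right_inv := fun t => Subtype.ext (funext fun i => e.apply_symm_apply _) }
  refine Eq.trans ?_ (finsum_comp_equiv φ (f := fun t : CommTuple H r => F H (Set.range t.1)))
  refine finsum_congr fun s => ?_
  apply F_congr e
  rw [← Set.range_comp]
  rfl

theorem inertiaR_single (r : ℕ) (i : Idx) : inertiaR r (Finsupp.single i 1) = J r i.rep := by
  unfold inertiaR
  rw [Finsupp.linearCombination_single, one_smul, inertiaROf_eq_J]

theorem inertiaR_cl (r : ℕ) (G : Type u) [Group G] [Finite G] : inertiaR r (cl G) = J r G := by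
  obtain ⟨e⟩ := nonempty_repEquiv G
  unfold inertiaR cl
  rw [Finsupp.linearCombination_single, one_smul, inertiaROf_eq_J]
  exact J_congr r e

theorem J_eq_sum (r : ℕ) (G : Type u) [Group G] [Fintype G] :
    J r G = ∑ s : Fin r → G, if P r s then F G (Set.range s) else 0 := by
  haveI : Fintype (CommTuple G r) := show Fintype {s : Fin r → G // P r s} from inferInstance
  unfold J
  rw [finsum_eq_sum_of_fintype, ← Finset.sum_filter]
  exact (Finset.sum_subtype (Finset.univ.filter (P r)) (by intro x; simp [P])
    (fun s => F G (Set.range s))).symm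

theorem J_eq_zero_of_card_lt (r : ℕ) (G : Type u) [Group G] [Finite G] (h : Nat.card G < r) :
    J r G = 0 := by
  unfold J
  haveI : IsEmpty (CommTuple G r) := ⟨fun s => by
    have := Nat.card_le_card_of_injective s.1 s.2.1
    rw [Nat.card_fin] at this
    omega⟩
  exact finsum_of_isEmpty _

/-! ### The central part -/

theorem card_central (r : ℕ) (G : Type u) [Group G] [Fintype G] :
    (Finset.univ.filter (fun s : Fin r → G =>
      Function.Injective s ∧ ∀ i, s i ∈ Subgroup.center G)).card
      = (Nat.card (Subgroup.center G)).descFactorial r := by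
  rw [← Fintype.card_subtype, Nat.card_eq_fintype_card]
  have h := Fintype.card_embedding_eq (α := Fin r) (β := Subgroup.center G)
  rw [Fintype.card_fin] at h
  rw [← h]
  exact Fintype.card_congr
    { toFun := fun s => ⟨fun i => ⟨s.1 i, s.2.2 i⟩,
        fun i j hij => s.2.1 (congrArg Subtype.val hij)⟩
      invFun := fun f => ⟨fun i => (f i : G),
        ⟨fun i j hij => f.injective (Subtype.ext hij), fun i => (f i).2⟩⟩
      left_inv := fun s => rfl
      right_inv := fun f => rfl }

theorem J_split (r : ℕ) (G : Type u) [Group G] [Fintype G] :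
    J r G = ((Nat.card (Subgroup.center G)).descFactorial r : ℚ) • cl G
      + ∑ s : Fin r → G,
          if (P r s ∧ ¬ Set.range s ⊆ (Subgroup.center G : Set G)) then F G (Set.range s)
          else 0 := by
  rw [J_eq_sum]
  have hsplit : ∀ s : Fin r → G, (if P r s then F G (Set.range s) else 0) =
      (if (Function.Injective s ∧ ∀ i, s i ∈ Subgroup.center G) then cl G else 0) +
      (if (P r s ∧ ¬ Set.range s ⊆ (Subgroup.center G : Set G)) then F G (Set.range s)
        else 0) := by
    intro s
    by_cases hc : Set.range s ⊆ (Subgroup.center G : Set G)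
    · have hc' : ∀ i, s i ∈ Subgroup.center G := fun i => hc ⟨i, rfl⟩
      have h3 : ¬ (P r s ∧ ¬ Set.range s ⊆ (Subgroup.center G : Set G)) := fun h => h.2 hc
      rw [if_neg h3, add_zero]
      by_cases hi : Function.Injective s
      · have hP : P r s := ⟨hi, fun i j => Subgroup.mem_center_iff.mp (hc' j) (s i)⟩
        rw [if_pos hP, if_pos ⟨hi, hc'⟩, F_central G _ hc]
      · have hP : ¬ P r s := fun h => hi h.1
        have h2 : ¬ (Function.Injective s ∧ ∀ i, s i ∈ Subgroup.center G) := fun h => hi h.1
        rw [if_neg hP, if_neg h2]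
    · have h2 : ¬ (Function.Injective s ∧ ∀ i, s i ∈ Subgroup.center G) :=
        fun h => hc (by rintro _ ⟨i, rfl⟩; exact h.2 i)
      rw [if_neg h2, zero_add]
      by_cases hP : P r s
      · rw [if_pos hP, if_pos ⟨hP, hc⟩]
      · have h3 : ¬ (P r s ∧ ¬ Set.range s ⊆ (Subgroup.center G : Set G)) := fun h => hP h.1
        rw [if_neg hP, if_neg h3]
  rw [Finset.sum_congr rfl (fun s _ => hsplit s), Finset.sum_add_distrib]
  congr 1
  rw [← Finset.sum_filter, Finset.sum_const, card_central, Nat.cast_smul_eq_nsmul]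

theorem card_center_lt (G : Type u) [Group G] [Finite G] (S : Set G)
    (hS : ∀ x ∈ S, ∀ y ∈ S, x * y = y * x) (hnc : ¬ S ⊆ (Subgroup.center G : Set G)) :
    Nat.card (Subgroup.center G) < Nat.card (Subgroup.center (Subgroup.centralizer S)) := by
  haveI : Fintype (Subgroup.center G) := Fintype.ofFinite _
  haveI : Fintype (Subgroup.center (Subgroup.centralizer S)) := Fintype.ofFinite _
  rw [Nat.card_eq_fintype_card, Nat.card_eq_fintype_card]
  obtain ⟨x, hxS, hxc⟩ := Set.not_subset.mp hnc
  have hxZ : x ∈ Subgroup.centralizer S :=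
    Subgroup.mem_centralizer_iff.mpr (fun y hy => hS y hy x hxS)
  let f : Subgroup.center G → Subgroup.center (Subgroup.centralizer S) := fun c =>
    ⟨⟨c.1, Subgroup.mem_centralizer_iff.mpr (fun y _ => Subgroup.mem_center_iff.mp c.2 y)⟩,
      Subgroup.mem_center_iff.mpr (fun y => Subtype.ext (Subgroup.mem_center_iff.mp c.2 y.1))⟩
  have hf : Function.Injective f := fun a b h =>
    Subtype.ext (congrArg (fun z : Subgroup.center (Subgroup.centralizer S) =>
      ((z : Subgroup.centralizer S) : G)) h)
  let b : Subgroup.center (Subgroup.centralizer S) :=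
    ⟨⟨x, hxZ⟩, Subgroup.mem_center_iff.mpr (fun y => Subtype.ext
      ((Subgroup.mem_centralizer_iff.mp y.2 x hxS).symm))⟩
  have hb : b ∉ Set.range f := by
    rintro ⟨c, hc⟩
    apply hxc
    have h1 : (c : G) = x := congrArg (fun z : Subgroup.center (Subgroup.centralizer S) =>
      ((z : Subgroup.centralizer S) : G)) hc
    rw [← h1]; exact c.2
  exact Fintype.card_lt_of_injective_of_notMem f hf hb

theorem J_sub_mem (r : ℕ) (G : Type u) [Group G] [Finite G] :
    J r G - ((Nat.card (Subgroup.center G)).descFactorial r : ℚ) • cl G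
      ∈ Kge (Nat.card (Subgroup.center G) + 1) := by
  haveI : Fintype G := Fintype.ofFinite G
  rw [J_split, add_sub_cancel_left]
  apply Submodule.sum_mem
  intro s _
  split_ifs with h
  · unfold F
    apply Submodule.smul_mem
    apply cl_mem_Kge
    apply Nat.succ_le_of_lt
    apply card_center_lt _ _ _ h.2
    rintro _ ⟨i, rfl⟩ _ ⟨j, rfl⟩
    exact (h.1.2 i j).eq
  · exact Submodule.zero_mem _

theorem main22 (r k : ℕ) (v : K) (hv : v ∈ Kge k) :
    inertiaR r v - ((Nat.factorial r * Nat.choose k r : ℕ) : ℚ) • v ∈ Kge (k + 1) := by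
  set c : ℚ := ((Nat.factorial r * Nat.choose k r : ℕ) : ℚ) with hc
  have hle : Kge k ≤ (Kge (k + 1)).comap (inertiaR r - c • LinearMap.id) := by
    have hspan : Kge k = Submodule.span ℚ
        ((fun i => Finsupp.single i (1 : ℚ)) '' {j : Idx | k ≤ j.centerCard}) :=
      Finsupp.supported_eq_span_single ℚ _
    rw [hspan, Submodule.span_le]
    rintro _ ⟨i, hi, rfl⟩
    have hi' : k ≤ Nat.card (Subgroup.center i.rep) := hi
    show (inertiaR r - c • LinearMap.id : K →ₗ[ℚ] K) (Finsupp.single i 1) ∈ Kge (k + 1)
    rw [LinearMap.sub_apply, LinearMap.smul_apply, LinearMap.id_apply, inertiaR_single, ← cl_rep]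
    have h1 := J_sub_mem r i.rep
    have h1' : J r i.rep - (((Nat.card (Subgroup.center i.rep)).descFactorial r : ℕ) : ℚ) •
        cl i.rep ∈ Kge (k + 1) := Kge_anti (by omega) h1
    have h2 : ((((Nat.card (Subgroup.center i.rep)).descFactorial r : ℕ) : ℚ) - c) • cl i.rep
        ∈ Kge (k + 1) := by
      rcases Nat.eq_or_lt_of_le hi' with h | h
      · have h0 : (((Nat.card (Subgroup.center i.rep)).descFactorial r : ℕ) : ℚ) - c = 0 := by
          rw [hc, ← h, Nat.descFactorial_eq_factorial_mul_choose, sub_self]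
        rw [h0, zero_smul]; exact Submodule.zero_mem _
      · exact Submodule.smul_mem _ _ (cl_mem_Kge _ _ h)
    have h3 : J r i.rep - c • cl i.rep
        = (J r i.rep - (((Nat.card (Subgroup.center i.rep)).descFactorial r : ℕ) : ℚ) • cl i.rep)
          + ((((Nat.card (Subgroup.center i.rep)).descFactorial r : ℕ) : ℚ) - c) • cl i.rep := by
      rw [sub_smul]; abel
    rw [h3]; exact Submodule.add_mem _ h1' h2
  exact hle hv

end Groth.Agent.Lib.Inertia
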