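import Groth.Agent.Lib.Inertia1_lead

set_option autoImplicit false
set_option maxSynthPendingDepth 3

open W4c5stacksedinertia
open Classical

namespace Groth.Agent.Lib.Inertia

universe u v

/-! ### Centralizers inside centralizers -/

/-- The centralizer of `h` inside the centralizer of `S` is the centralizer of `insert h S`. -/
noncomputable def zEquiv {G : Type u} [Group G] (S : Set G) (h : Subgroup.centralizer S) :
    Subgroup.centralizer ({h} : Set (Subgroup.centralizer S)) ≃*
      Subgroup.centralizer (insert (h : G) S) where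
  toFun x := ⟨((x : Subgroup.centralizer S) : G), by
    rw [Subgroup.mem_centralizer_iff]
    intro y hy
    rcases hy with rfl | hy
    · have := Subgroup.mem_centralizer_iff.mp x.2 h rfl
      exact congrArg Subtype.val this
    · exact Subgroup.mem_centralizer_iff.mp x.1.2 y hy⟩
  invFun y := ⟨⟨(y : G), Subgroup.mem_centralizer_iff.mpr (fun z hz =>
      Subgroup.mem_centralizer_iff.mp y.2 z (Set.mem_insert_of_mem _ hz))⟩, by
    rw [Subgroup.mem_centralizer_iff]
    intro z hz
    rw [Set.mem_singleton_iff] at hz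
    subst hz
    exact Subtype.ext (Subgroup.mem_centralizer_iff.mp y.2 _ (Set.mem_insert _ _))⟩
  left_inv x := rfl
  right_inv y := rfl
  map_mul' x y := rfl

theorem inertia_F (G : Type u) [Group G] [Fintype G] (S : Set G) :
    inertiaR 1 (F G S) =
      ∑ h : G, if h ∈ Subgroup.centralizer S then F G (insert h S) else 0 := by
  haveI : Fintype (Subgroup.centralizer S) := Fintype.ofFinite _
  have hH : (Nat.card (Subgroup.centralizer S) : ℚ) ≠ 0 := by
    exact_mod_cast (Nat.card_pos (α := Subgroup.centralizer S)).ne'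
  have hG : (Nat.card G : ℚ) ≠ 0 := by exact_mod_cast (Nat.card_pos (α := G)).ne'
  have h1 : inertiaR 1 (F G S) = ((Nat.card (Subgroup.centralizer S) : ℚ) / (Nat.card G : ℚ)) •
      J 1 (Subgroup.centralizer S) := by
    unfold F
    rw [map_smul, inertiaR_cl]
  have h2 : J 1 (Subgroup.centralizer S) =
      ∑ h : Subgroup.centralizer S, F (Subgroup.centralizer S) {h} := by
    rw [J_eq_sum]
    refine Fintype.sum_equiv (Equiv.funUnique (Fin 1) (Subgroup.centralizer S)) _ _ (fun t => ?_)
    have hP : P 1 t := ⟨Function.injective_of_subsingleton t, fun i j => by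
      have hij : i = j := Subsingleton.elim i j
      subst hij
      exact Commute.refl _⟩
    rw [if_pos hP]
    exact congrArg (fun X => F (Subgroup.centralizer S) X) Set.range_unique
  have h3 : ∀ h : Subgroup.centralizer S,
      ((Nat.card (Subgroup.centralizer S) : ℚ) / (Nat.card G : ℚ)) •
        F (Subgroup.centralizer S) {h} = F G (insert (h : G) S) := by
    intro h
    unfold F
    rw [cl_eq_of_mulEquiv (zEquiv S h), Nat.card_congr (zEquiv S h).toEquiv, smul_smul]
    congr 1
    field_simp
  rw [h1, h2, Finset.smul_sum, Finset.sum_congr rfl (fun h _ => h3 h), ← Finset.sum_filter]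
  exact (Finset.sum_subtype (Finset.univ.filter (fun h : G => h ∈ Subgroup.centralizer S))
    (by intro x; simp) (fun h => F G (insert h S))).symm

theorem P_cons {G : Type u} [Group G] {r : ℕ} (h : G) (s : Fin r → G) :
    P (r + 1) (Fin.cons h s : Fin (r + 1) → G) ↔
      P r s ∧ h ∉ Set.range s ∧ h ∈ Subgroup.centralizer (Set.range s) := by
  unfold P
  rw [Fin.cons_injective_iff, Subgroup.mem_centralizer_iff]
  constructor
  · rintro ⟨⟨hn, hi⟩, hc⟩
    refine ⟨⟨hi, fun i j => ?_⟩, hn, ?_⟩
    · have := hc i.succ j.succ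
      simpa using this
    · rintro _ ⟨i, rfl⟩
      have := (hc i.succ 0).eq
      simpa using this
  · rintro ⟨⟨hi, hc⟩, hn, hz⟩
    refine ⟨⟨hn, hi⟩, fun i j => ?_⟩
    refine Fin.cases ?_ (fun i' => ?_) i <;> refine Fin.cases ?_ (fun j' => ?_) j
    · exact Commute.refl _
    · simp only [Fin.cons_zero, Fin.cons_succ]
      exact (hz (s j') ⟨j', rfl⟩).symm
    · simp only [Fin.cons_zero, Fin.cons_succ]
      exact hz (s i') ⟨i', rfl⟩
    · simp only [Fin.cons_succ]
      exact hc i' j'

theorem pointwise {G : Type u} [Group G] [Finite G] {r : ℕ} (s : Fin r → G) (h : G) :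
    (if P r s then (if h ∈ Subgroup.centralizer (Set.range s) then
        F G (insert h (Set.range s)) else 0) else 0)
    = (if P (r + 1) (Fin.cons h s : Fin (r + 1) → G) then
        F G (Set.range (Fin.cons h s : Fin (r + 1) → G)) else 0)
      + (if (P r s ∧ h ∈ Set.range s) then F G (Set.range s) else 0) := by
  rw [Fin.range_cons]
  by_cases hP : P r s
  · by_cases hz : h ∈ Subgroup.centralizer (Set.range s)
    · by_cases hr : h ∈ Set.range s
      · have h1 : ¬ P (r + 1) (Fin.cons h s : Fin (r + 1) → G) :=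
          fun hh => ((P_cons h s).mp hh).2.1 hr
        rw [if_pos hP, if_pos hz, if_neg h1, if_pos ⟨hP, hr⟩, zero_add, Set.insert_eq_of_mem hr]
      · have h1 : P (r + 1) (Fin.cons h s : Fin (r + 1) → G) := (P_cons h s).mpr ⟨hP, hr, hz⟩
        have h2 : ¬ (P r s ∧ h ∈ Set.range s) := fun hh => hr hh.2
        rw [if_pos hP, if_pos hz, if_pos h1, if_neg h2, add_zero]
    · have h1 : ¬ P (r + 1) (Fin.cons h s : Fin (r + 1) → G) :=
        fun hh => hz ((P_cons h s).mp hh).2.2
      have hr : h ∉ Set.range s := by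
        rintro ⟨i, rfl⟩
        apply hz
        rw [Subgroup.mem_centralizer_iff]
        rintro _ ⟨j, rfl⟩
        exact (hP.2 j i).eq
      have h2 : ¬ (P r s ∧ h ∈ Set.range s) := fun hh => hr hh.2
      rw [if_pos hP, if_neg hz, if_neg h1, if_neg h2, add_zero]
  · have h1 : ¬ P (r + 1) (Fin.cons h s : Fin (r + 1) → G) :=
      fun hh => hP ((P_cons h s).mp hh).1
    have h2 : ¬ (P r s ∧ h ∈ Set.range s) := fun hh => hP hh.1
    rw [if_neg hP, if_neg h1, if_neg h2, add_zero]

theorem inertia_J (r : ℕ) (G : Type u) [Group G] [Finite G] :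
    inertiaR 1 (J r G) = J (r + 1) G + (r : ℚ) • J r G := by
  haveI : Fintype G := Fintype.ofFinite G
  rw [J_eq_sum r G, J_eq_sum (r + 1) G, map_sum]
  have hL : ∀ s : Fin r → G, inertiaR 1 (if P r s then F G (Set.range s) else 0)
      = ∑ h : G, ((if P (r + 1) (Fin.cons h s : Fin (r + 1) → G) then
            F G (Set.range (Fin.cons h s : Fin (r + 1) → G)) else 0)
          + (if (P r s ∧ h ∈ Set.range s) then F G (Set.range s) else 0)) := by
    intro s
    refine Eq.trans ?_ (Finset.sum_congr rfl (fun h _ => pointwise s h))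
    by_cases hP : P r s
    · rw [if_pos hP, inertia_F]
      exact Finset.sum_congr rfl fun h _ => (if_pos hP).symm
    · rw [if_neg hP, map_zero]
      exact (Finset.sum_eq_zero fun h _ => if_neg hP).symm
  rw [Finset.sum_congr rfl (fun s _ => hL s)]
  simp only [Finset.sum_add_distrib]
  congr 1
  · refine Eq.trans Finset.sum_comm ?_
    refine Eq.trans (Fintype.sum_prod_type (fun p : G × (Fin r → G) =>
      if P (r + 1) (Fin.cons p.1 p.2 : Fin (r + 1) → G) then
        F G (Set.range (Fin.cons p.1 p.2 : Fin (r + 1) → G)) else 0)).symm ?_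
    exact Fintype.sum_equiv (Fin.consEquiv (fun _ => G)) _ _ (fun p => rfl)
  · rw [Finset.smul_sum]
    refine Finset.sum_congr rfl fun s _ => ?_
    by_cases hP : P r s
    · have hfil : Finset.univ.filter (fun h : G => P r s ∧ h ∈ Set.range s)
          = Finset.univ.image s := by
        ext h
        simp only [Finset.mem_filter, Finset.mem_univ, true_and, Finset.mem_image, Set.mem_range]
        exact ⟨fun hh => hh.2, fun hh => ⟨hP, hh⟩⟩
      rw [if_pos hP, ← Finset.sum_filter, Finset.sum_const, hfil,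
        Finset.card_image_of_injective _ hP.1, Finset.card_univ, Fintype.card_fin,
        Nat.cast_smul_eq_nsmul]
    · rw [if_neg hP, smul_zero]
      exact Finset.sum_eq_zero fun h _ => if_neg (fun hh => hP hh.1)

/-! ### The operators as polynomials in the inertia operator -/

theorem ext_single {φ ψ : K →ₗ[ℚ] K}
    (h : ∀ i : Idx, φ (Finsupp.single i 1) = ψ (Finsupp.single i 1)) : φ = ψ := by
  apply Finsupp.lhom_ext
  intro a b
  have hb : Finsupp.single a b = b • Finsupp.single a (1 : ℚ) := by
    rw [Finsupp.smul_single, smul_eq_mul, mul_one]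
  rw [hb, map_smul, map_smul, h]

theorem J_zero (G : Type u) [Group G] [Finite G] : J 0 G = cl G := by
  haveI : Fintype G := Fintype.ofFinite G
  rw [J_eq_sum, Fintype.sum_unique]
  have hP : P 0 (default : Fin 0 → G) := ⟨fun i => i.elim0, fun i => i.elim0⟩
  rw [if_pos hP]
  apply F_central
  rintro _ ⟨i, _⟩
  exact i.elim0

theorem inertiaR_zero : inertiaR 0 = LinearMap.id := by
  apply ext_single
  intro i
  rw [inertiaR_single, J_zero, cl_rep, LinearMap.id_apply]

theorem inertia_comp (r : ℕ) (v : K) :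
    inertiaR 1 (inertiaR r v) = inertiaR (r + 1) v + (r : ℚ) • inertiaR r v := by
  have h : (inertiaR 1).comp (inertiaR r) = inertiaR (r + 1) + (r : ℚ) • inertiaR r := by
    apply ext_single
    intro i
    rw [LinearMap.comp_apply, LinearMap.add_apply, LinearMap.smul_apply, inertiaR_single,
      inertiaR_single, inertia_J]
  exact LinearMap.congr_fun h v

theorem inertiaR_eq_aeval (r : ℕ) :
    inertiaR r = Polynomial.aeval (inertiaR 1 : Module.End ℚ K) (descPochhammer ℚ r) := by
  induction r with
  | zero =>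
    rw [descPochhammer_zero, map_one]
    exact inertiaR_zero
  | succ r ih =>
    rw [descPochhammer_succ_right, mul_comm, map_mul, ← ih, map_sub, Polynomial.aeval_X,
      map_natCast]
    apply LinearMap.ext
    intro v
    rw [Module.End.mul_apply, LinearMap.sub_apply, Module.End.natCast_apply, inertia_comp,
      ← Nat.cast_smul_eq_nsmul ℚ]
    exact (add_sub_cancel_right _ _).symm

theorem inertiaR_eigen (r k : ℕ) (v : K) (hv : v ∈ Module.End.eigenspace inertia (k : ℚ)) :
    inertiaR r v = ((k.descFactorial r : ℕ) : ℚ) • v := by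
  rw [Module.End.mem_eigenspace_iff] at hv
  by_cases hv0 : v = 0
  · rw [hv0, map_zero, smul_zero]
  · have hev : Module.End.HasEigenvector (inertiaR 1 : Module.End ℚ K) (k : ℚ) v :=
      ⟨Module.End.mem_eigenspace_iff.mpr hv, hv0⟩
    rw [inertiaR_eq_aeval r, Module.End.aeval_apply_of_hasEigenvector hev,
      descPochhammer_eval_eq_descFactorial]

theorem main23 (k r : ℕ) :
    Module.End.eigenspace inertia (k : ℚ) ≤
      Module.End.eigenspace (inertiaR r) ((Nat.factorial r * Nat.choose k r : ℕ) : ℚ) := by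
  intro v hv
  rw [Module.End.mem_eigenspace_iff, inertiaR_eigen r k v hv,
    Nat.descFactorial_eq_factorial_mul_choose]

theorem main24 (r : ℕ) :
    LinearMap.ker (inertiaR r) =
      ⨆ k ∈ Finset.range r, Module.End.eigenspace inertia (k : ℚ) := by
  induction r with
  | zero =>
    rw [inertiaR_zero, LinearMap.ker_id]
    simp
  | succ r ih =>
    have hcop : IsCoprime (descPochhammer ℚ r) (Polynomial.X - (r : Polynomial ℚ)) := by
      rw [← Polynomial.C_eq_natCast]
      apply IsCoprime.symm
      rw [(Polynomial.irreducible_X_sub_C (r : ℚ)).coprime_iff_not_dvd, Polynomial.dvd_iff_isRoot,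
        Polynomial.IsRoot.def, descPochhammer_eval_eq_descFactorial, Nat.descFactorial_self]
      exact_mod_cast (Nat.factorial_pos r).ne'
    have h1 := Polynomial.sup_ker_aeval_eq_ker_aeval_mul_of_coprime
      (inertiaR 1 : Module.End ℚ K) hcop
    rw [← descPochhammer_succ_right, ← inertiaR_eq_aeval, ← inertiaR_eq_aeval, ih] at h1
    rw [← h1, Finset.range_add_one, Finset.iSup_insert, sup_comm]
    congr 1
    have h2 : ((r : ℚ) • (1 : Module.End ℚ K)) = (r : Module.End ℚ K) := by
      rw [← Algebra.algebraMap_eq_smul_one, map_natCast]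
    rw [Module.End.eigenspace_def, map_sub, Polynomial.aeval_X, map_natCast, h2]

/-! ### Eigenvalues -/

theorem Kge_one_eq_top : Kge 1 = ⊤ := by
  unfold Kge
  rw [eq_top_iff]
  intro v _
  rw [Finsupp.mem_supported]
  intro i _
  show 1 ≤ i.centerCard
  exact Nat.succ_le_of_lt Nat.card_pos

theorem inertia_injective (v : K) (hv : inertiaR 1 v = 0) : v = 0 := by
  have hk : ∀ k : ℕ, v ∈ Kge (k + 1) := by
    intro k
    induction k with
    | zero =>
      show v ∈ Kge 1
      rw [Kge_one_eq_top]; exact Submodule.mem_top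
    | succ k ih =>
      have h := main22 1 (k + 1) v ih
      rw [hv, zero_sub] at h
      have hc : ((Nat.factorial 1 * Nat.choose (k + 1) 1 : ℕ) : ℚ) ≠ 0 := by
        rw [Nat.factorial_one, one_mul, Nat.choose_one_right]
        exact_mod_cast Nat.succ_ne_zero k
      have h' := (Submodule.neg_mem_iff _).mp h
      exact (Submodule.smul_mem_iff _ hc).mp h'
  by_contra hne
  obtain ⟨i, hi⟩ : v.support.Nonempty := Finsupp.support_nonempty_iff.mpr hne
  have h1 := hk i.centerCard
  unfold Kge at h1
  rw [Finsupp.mem_supported] at h1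
  have h2 : i.centerCard + 1 ≤ i.centerCard := h1 hi
  omega

theorem inertiaR_eq_zero_of_mem_Kle (n : ℕ) (v : K) (hv : v ∈ Kle n) :
    inertiaR (n + 1) v = 0 := by
  have hle : Kle n ≤ LinearMap.ker (inertiaR (n + 1)) := by
    have hspan : Kle n = Submodule.span ℚ
        ((fun i => Finsupp.single i (1 : ℚ)) '' {i : Idx | i.card ≤ n}) :=
      Finsupp.supported_eq_span_single ℚ _
    rw [hspan, Submodule.span_le]
    rintro _ ⟨i, hi, rfl⟩
    rw [SetLike.mem_coe, LinearMap.mem_ker, inertiaR_single]
    apply J_eq_zero_of_card_lt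
    have : Nat.card i.rep ≤ n := hi
    omega
  exact hle hv

theorem exists_mem_Kle (v : K) : ∃ n, v ∈ Kle n := by
  refine ⟨v.support.sup Idx.card, ?_⟩
  unfold Kle
  rw [Finsupp.mem_supported]
  intro i hi
  exact Finset.le_sup (f := Idx.card) (Finset.mem_coe.mp hi)

theorem root_descPochhammer (r : ℕ) (μ : ℚ) (h : (descPochhammer ℚ r).eval μ = 0) :
    ∃ j : ℕ, j < r ∧ μ = (j : ℚ) := by
  induction r with
  | zero =>
    rw [descPochhammer_zero, Polynomial.eval_one] at h
    exact absurd h one_ne_zero
  | succ r ih =>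
    rw [descPochhammer_succ_right, Polynomial.eval_mul, Polynomial.eval_sub, Polynomial.eval_X,
      Polynomial.eval_natCast] at h
    rcases mul_eq_zero.mp h with h | h
    · obtain ⟨j, hj, hμ⟩ := ih h
      exact ⟨j, Nat.lt_succ_of_lt hj, hμ⟩
    · exact ⟨r, Nat.lt_succ_self r, sub_eq_zero.mp h⟩

theorem J_comm (r : ℕ) (G : Type u) [CommGroup G] [Finite G] :
    J r G = ((Nat.card G).descFactorial r : ℚ) • cl G := by
  haveI : Fintype G := Fintype.ofFinite G
  have hcen : ∀ x : G, x ∈ Subgroup.center G :=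
    fun x => Subgroup.mem_center_iff.mpr fun g => mul_comm g x
  have htop : Subgroup.center G = ⊤ := (Subgroup.eq_top_iff' _).mpr hcen
  have hz : ∀ s : Fin r → G, ¬ (P r s ∧ ¬ Set.range s ⊆ (Subgroup.center G : Set G)) := by
    intro s h
    exact h.2 (fun x _ => hcen x)
  rw [J_split, Finset.sum_eq_zero (fun s _ => if_neg (hz s)), add_zero, htop, Subgroup.card_top]

theorem main21 :
    (⨆ n : ℕ, Module.End.eigenspace inertia (n : ℚ)) = ⊤ ∧
    ∀ μ : ℚ, Module.End.HasEigenvalue inertia μ ↔ ∃ n : ℕ, 0 < n ∧ μ = (n : ℚ) := by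
  refine ⟨?_, fun μ => ⟨?_, ?_⟩⟩
  · rw [eq_top_iff]
    intro v _
    obtain ⟨n, hn⟩ := exists_mem_Kle v
    have h0 : v ∈ LinearMap.ker (inertiaR (n + 1)) :=
      LinearMap.mem_ker.mpr (inertiaR_eq_zero_of_mem_Kle n v hn)
    rw [main24] at h0
    exact (iSup₂_le fun k _ =>
      le_iSup (fun m : ℕ => Module.End.eigenspace inertia (m : ℚ)) k) h0
  · intro hμ
    obtain ⟨v, hv⟩ := hμ.exists_hasEigenvector
    obtain ⟨n, hn⟩ := exists_mem_Kle v
    have h0 := inertiaR_eq_zero_of_mem_Kle n v hn
    rw [inertiaR_eq_aeval, Module.End.aeval_apply_of_hasEigenvector hv] at h0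
    have h1 : (descPochhammer ℚ (n + 1)).eval μ = 0 := by
      rcases smul_eq_zero.mp h0 with h | h
      · exact h
      · exact absurd h hv.2
    obtain ⟨j, hj, rfl⟩ := root_descPochhammer (n + 1) μ h1
    refine ⟨j, Nat.pos_of_ne_zero ?_, rfl⟩
    rintro rfl
    apply hv.2
    apply inertia_injective
    rw [hv.apply_eq_smul, Nat.cast_zero, zero_smul]
  · rintro ⟨n, hn, rfl⟩
    haveI : NeZero n := ⟨hn.ne'⟩
    have hcard : Nat.card (Multiplicative (ZMod n)) = n := by
      rw [Nat.card_congr Multiplicative.toAdd, Nat.card_zmod]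
    have h1 : inertiaR 1 (cl (Multiplicative (ZMod n))) =
        (n : ℚ) • cl (Multiplicative (ZMod n)) := by
      rw [inertiaR_cl, J_comm, hcard, Nat.descFactorial_one]
    apply Module.End.hasEigenvalue_of_hasEigenvector (x := cl (Multiplicative (ZMod n)))
    refine ⟨Module.End.mem_eigenspace_iff.mpr h1, ?_⟩
    unfold cl
    exact Finsupp.single_ne_zero.mpr one_ne_zero

/-! ### The eigenprojection formula -/

theorem binom_identity (m k : ℕ) :
    ∑ r ∈ Finset.range (m + 1), ((-1 : ℚ) ^ (r + k) * (r.choose k : ℚ) * (m.choose r : ℚ))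
      = if m = k then 1 else 0 := by
  have h : (Polynomial.X : Polynomial ℚ) ^ m = ∑ r ∈ Finset.range (m + 1),
      (Polynomial.X + Polynomial.C (-1 : ℚ)) ^ r * (1 : Polynomial ℚ) ^ (m - r) *
        (m.choose r : Polynomial ℚ) := by
    rw [← add_pow]
    congr 1
    simp
  have h2 := congrArg (fun p => Polynomial.coeff p k) h
  simp only [Polynomial.finset_sum_coeff, one_pow, mul_one, Polynomial.coeff_mul_natCast,
    Polynomial.coeff_X_add_C_pow, Polynomial.coeff_X_pow] at h2
  have h3 : (if m = k then (1 : ℚ) else 0) = if k = m then 1 else 0 := by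
    by_cases hmk : m = k
    · rw [if_pos hmk, if_pos hmk.symm]
    · rw [if_neg hmk, if_neg (fun h => hmk h.symm)]
  rw [h3, h2]
  refine Finset.sum_congr rfl fun r _ => ?_
  by_cases hkr : k ≤ r
  · have hrk : r + k = (r - k) + 2 * k := by omega
    have e : (-1 : ℚ) ^ (r + k) = (-1) ^ (r - k) := by
      rw [hrk, pow_add, pow_mul]; norm_num
    rw [e]
  · rw [Nat.choose_eq_zero_of_lt (not_le.mp hkr)]; simp

theorem coef_identity (M m k : ℕ) (hmM : m ≤ M) :
    ∑ r ∈ Finset.range (M + 1), (((-1 : ℚ) ^ (r + k)) / (Nat.factorial r : ℚ) *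
      (Nat.choose r k : ℚ)) * ((m.descFactorial r : ℕ) : ℚ) = if m = k then 1 else 0 := by
  have hsub : Finset.range (m + 1) ⊆ Finset.range (M + 1) :=
    Finset.range_subset_range.mpr (by omega)
  calc ∑ r ∈ Finset.range (M + 1), (((-1 : ℚ) ^ (r + k)) / (Nat.factorial r : ℚ) *
      (Nat.choose r k : ℚ)) * ((m.descFactorial r : ℕ) : ℚ)
      = ∑ r ∈ Finset.range (m + 1), (((-1 : ℚ) ^ (r + k)) / (Nat.factorial r : ℚ) *
      (Nat.choose r k : ℚ)) * ((m.descFactorial r : ℕ) : ℚ) := by
        refine (Finset.sum_subset hsub (fun r _ hr => ?_)).symm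
        have hlt : m < r := by
          rw [Finset.mem_range] at hr; omega
        rw [Nat.descFactorial_eq_zero_iff_lt.mpr hlt, Nat.cast_zero, mul_zero]
    _ = ∑ r ∈ Finset.range (m + 1),
          ((-1 : ℚ) ^ (r + k) * (r.choose k : ℚ) * (m.choose r : ℚ)) := by
        refine Finset.sum_congr rfl fun r _ => ?_
        have hr : (Nat.factorial r : ℚ) ≠ 0 := by exact_mod_cast (Nat.factorial_pos r).ne'
        rw [Nat.descFactorial_eq_factorial_mul_choose]
        push_cast
        field_simp
    _ = if m = k then 1 else 0 := binom_identity m k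

theorem main25 (v : K) :
    (∀ k : ℕ, (∑ᶠ r : ℕ, (((-1 : ℚ) ^ (r + k)) / (Nat.factorial r : ℚ) * (Nat.choose r k : ℚ)) •
        inertiaR r v) ∈ Module.End.eigenspace inertia (k : ℚ)) ∧
    (∑ᶠ k : ℕ, ∑ᶠ r : ℕ, (((-1 : ℚ) ^ (r + k)) / (Nat.factorial r : ℚ) * (Nat.choose r k : ℚ)) •
        inertiaR r v) = v := by
  have hv : v ∈ ⨆ n : ℕ, Module.End.eigenspace inertia (n : ℚ) := by
    rw [main21.1]; exact Submodule.mem_top
  obtain ⟨f, hf, hsum⟩ := (Submodule.mem_iSup_iff_exists_finsupp _ v).mp hv
  have hIr : ∀ r : ℕ, inertiaR r v = ∑ m ∈ f.support, ((m.descFactorial r : ℕ) : ℚ) • f m := by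
    intro r
    rw [← hsum, Finsupp.sum, map_sum]
    exact Finset.sum_congr rfl fun m _ => inertiaR_eigen r m (f m) (hf m)
  have hkey : ∀ k : ℕ, (∑ᶠ r : ℕ, (((-1 : ℚ) ^ (r + k)) / (Nat.factorial r : ℚ) *
      (Nat.choose r k : ℚ)) • inertiaR r v) = f k := by
    intro k
    have hsupp : Function.support (fun r : ℕ => (((-1 : ℚ) ^ (r + k)) / (Nat.factorial r : ℚ) *
        (Nat.choose r k : ℚ)) • inertiaR r v) ⊆ ↑(Finset.range (f.support.sup id + 1)) := by
      intro r hr
      rw [Finset.coe_range, Set.mem_Iio]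
      by_contra hlt
      apply hr
      show _ • inertiaR r v = 0
      rw [hIr r, Finset.sum_eq_zero, smul_zero]
      intro m hm
      have hmM : m ≤ f.support.sup id := Finset.le_sup (f := id) hm
      rw [Nat.descFactorial_eq_zero_iff_lt.mpr (by omega), Nat.cast_zero, zero_smul]
    rw [finsum_eq_sum_of_support_subset _ hsupp]
    calc ∑ r ∈ Finset.range (f.support.sup id + 1), (((-1 : ℚ) ^ (r + k)) /
          (Nat.factorial r : ℚ) * (Nat.choose r k : ℚ)) • inertiaR r v
        = ∑ r ∈ Finset.range (f.support.sup id + 1), ∑ m ∈ f.support,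
            ((((-1 : ℚ) ^ (r + k)) / (Nat.factorial r : ℚ) * (Nat.choose r k : ℚ)) *
              ((m.descFactorial r : ℕ) : ℚ)) • f m := by
          refine Finset.sum_congr rfl fun r _ => ?_
          rw [hIr r, Finset.smul_sum]
          refine Finset.sum_congr rfl fun m _ => ?_
          rw [smul_smul]
      _ = ∑ m ∈ f.support, (∑ r ∈ Finset.range (f.support.sup id + 1),
            (((-1 : ℚ) ^ (r + k)) / (Nat.factorial r : ℚ) * (Nat.choose r k : ℚ)) *
              ((m.descFactorial r : ℕ) : ℚ)) • f m := by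
          rw [Finset.sum_comm]
          refine Finset.sum_congr rfl fun m _ => ?_
          rw [Finset.sum_smul]
      _ = ∑ m ∈ f.support, (if m = k then (1 : ℚ) else 0) • f m := by
          refine Finset.sum_congr rfl fun m hm => ?_
          have hmM : m ≤ f.support.sup id := Finset.le_sup (f := id) hm
          rw [coef_identity _ m k hmM]
      _ = f k := by
          simp only [ite_smul, one_smul, zero_smul]
          rw [Finset.sum_ite_eq']
          split_ifs with hk
          · rfl
          · exact (Finsupp.notMem_support_iff.mp hk).symm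
  constructor
  · intro k
    rw [hkey k]
    exact hf k
  · rw [finsum_congr hkey]
    rw [finsum_eq_sum_of_support_subset (s := f.support) _
      (fun k hk => Finset.mem_coe.mpr (Finsupp.mem_support_iff.mpr hk))]
    exact hsum

end Groth.Agent.Lib.Inertia
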