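import Mathlib
import Groth.Agent.Lib.InertiaEtale_helper3

universe u
open scoped Pointwise

namespace Groth.Agent.Lib.InertiaDVRH3

theorem etale_transfer {S T A' T' : Type u} [CommRing S] [CommRing T] [CommRing A'] [CommRing T']
    [Algebra S T] [Algebra A' T'] (e₀ : A' ≃+* S) (e₁ : T' ≃+* T)
    (h : ∀ a, e₁ (algebraMap A' T' a) = algebraMap S T (e₀ a)) [Algebra.Etale S T] :
    Algebra.Etale A' T' := by
  rw [← RingHom.etale_algebraMap]
  have h1 : algebraMap A' T' = (e₁.symm.toRingHom.comp (algebraMap S T)).comp e₀.toRingHom := by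
    ext a
    simp only [RingHom.comp_apply, RingEquiv.toRingHom_eq_coe, RingHom.coe_coe]
    rw [← h, RingEquiv.symm_apply_apply]
  rw [h1]
  apply RingHom.Etale.stableUnderComposition
  · exact RingHom.Etale.of_bijective e₀.bijective
  · apply RingHom.Etale.stableUnderComposition
    · exact RingHom.etale_algebraMap.mpr inferInstance
    · exact RingHom.Etale.of_bijective e₁.symm.bijective

theorem isLocalization_atPrime_of_away {C : Type u} [CommRing C] (P : Ideal C) [P.IsPrime]
    (t : C) (ht : t ∉ P) (T : Type u) [CommRing T] [Algebra C T] [IsLocalization.Away t T]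
    (hprimes : ∀ Q : Ideal C, Q.IsPrime → Q ≠ ⊥ → t ∉ Q → Q = P) :
    IsLocalization.AtPrime T P := by
  apply IsLocalization.of_le (Submonoid.powers t) P.primeCompl
  · rw [Submonoid.powers_le]
    exact ht
  · intro c hc
    by_contra hnu
    obtain ⟨N, hN, hcN⟩ := exists_max_ideal_of_mem_nonunits hnu
    haveI := hN.isPrime
    let Q := N.comap (algebraMap C T)
    have hcQ : c ∈ Q := hcN
    have hQ0 : Q ≠ ⊥ := by
      intro h0
      rw [h0, Ideal.mem_bot] at hcQ
      apply hc
      rw [hcQ]
      exact P.zero_mem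
    have htQ : t ∉ Q := by
      intro h
      have hu : IsUnit (algebraMap C T t) := IsLocalization.Away.algebraMap_isUnit t
      exact hN.ne_top (Ideal.eq_top_of_isUnit_mem _ h hu)
    have hQP := hprimes Q inferInstance hQ0 htQ
    apply hc
    rw [← hQP]
    exact hcQ

section main

theorem part1 (A K L B : Type u) [CommRing A] [IsDomain A] [IsDiscreteValuationRing A] [Field K]
    [Field L] [Algebra A K] [IsFractionRing A K] [Algebra K L]
    [Algebra A L] [IsScalarTower A K L] [FiniteDimensional K L] [IsGalois K L]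
    [CommRing B] [Algebra A B] [Algebra B L] [IsScalarTower A B L] [IsIntegralClosure B A L]
    [MulSemiringAction (L ≃ₐ[K] L) B]
    (hact : ∀ (σ : L ≃ₐ[K] L) (b : B), algebraMap B L (σ • b) = σ (algebraMap B L b))
    (m : Ideal B) [m.IsMaximal]
    (B' : Type u) [CommRing B'] [Algebra A B'] [Algebra B' B] [IsScalarTower A B' B] [Algebra B' L]
    [IsScalarTower B' B L]
    [Algebra B' (IntermediateField.fixedField (m.inertia (L ≃ₐ[K] L)))]
    [IsScalarTower B' (IntermediateField.fixedField (m.inertia (L ≃ₐ[K] L))) L]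
    [IsIntegralClosure B' A (IntermediateField.fixedField (m.inertia (L ≃ₐ[K] L)))] (b : B) :
    (∀ σ ∈ m.inertia (L ≃ₐ[K] L), σ • b = b) ↔ b ∈ Set.range (algebraMap B' B) := by
  have injBL : Function.Injective (algebraMap B L) := IsIntegralClosure.algebraMap_injective B A L
  constructor
  · intro h
    have hmem : algebraMap B L b ∈ IntermediateField.fixedField (m.inertia (L ≃ₐ[K] L)) := by
      rw [IntermediateField.mem_fixedField_iff]
      intro σ hσ
      rw [← hact, h σ hσ]
    let y : IntermediateField.fixedField (m.inertia (L ≃ₐ[K] L)) := ⟨algebraMap B L b, hmem⟩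
    haveI : IsScalarTower A (IntermediateField.fixedField (m.inertia (L ≃ₐ[K] L))) L :=
      IsScalarTower.of_algebraMap_eq (fun a => rfl)
    have hint : IsIntegral A y := by
      have h1 : IsIntegral A (algebraMap B L b) :=
        (IsIntegralClosure.isIntegral A L b).map (IsScalarTower.toAlgHom A B L)
      have h2 := (isIntegral_algHom_iff (IsScalarTower.toAlgHom A
        (IntermediateField.fixedField (m.inertia (L ≃ₐ[K] L))) L)
        (algebraMap (IntermediateField.fixedField (m.inertia (L ≃ₐ[K] L))) L).injective (x := y)).mp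
      exact h2 h1
    obtain ⟨b', hb'⟩ := (IsIntegralClosure.isIntegral_iff (A := B') (R := A)
      (B := IntermediateField.fixedField (m.inertia (L ≃ₐ[K] L)))).mp hint
    refine ⟨b', ?_⟩
    apply injBL
    rw [← IsScalarTower.algebraMap_apply B' B L,
      IsScalarTower.algebraMap_apply B' (IntermediateField.fixedField (m.inertia (L ≃ₐ[K] L))) L,
      hb']
    rfl
  · rintro ⟨b', rfl⟩ σ hσ
    apply injBL
    rw [hact, ← IsScalarTower.algebraMap_apply B' B L,
      IsScalarTower.algebraMap_apply B' (IntermediateField.fixedField (m.inertia (L ≃ₐ[K] L))) L]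
    exact (IntermediateField.mem_fixedField_iff _ _).mp
      (algebraMap B' (IntermediateField.fixedField (m.inertia (L ≃ₐ[K] L))) b').2 σ hσ

theorem mem_range_A (A K L B : Type u) [CommRing A] [IsDomain A] [IsDiscreteValuationRing A] [Field K]
    [Field L] [Algebra A K] [IsFractionRing A K] [Algebra K L]
    [Algebra A L] [IsScalarTower A K L] [FiniteDimensional K L] [IsGalois K L]
    [CommRing B] [Algebra A B] [Algebra B L] [IsScalarTower A B L] [IsIntegralClosure B A L]
    [MulSemiringAction (L ≃ₐ[K] L) B]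
    (hact : ∀ (σ : L ≃ₐ[K] L) (b : B), algebraMap B L (σ • b) = σ (algebraMap B L b))
    (m : Ideal B) [m.IsMaximal]
    (B' : Type u) [CommRing B'] [Algebra A B'] [Algebra B' B] [IsScalarTower A B' B] [Algebra B' L]
    [IsScalarTower B' B L]
    [Algebra B' (IntermediateField.fixedField (m.inertia (L ≃ₐ[K] L)))]
    [IsScalarTower B' (IntermediateField.fixedField (m.inertia (L ≃ₐ[K] L))) L]
    [IsIntegralClosure B' A (IntermediateField.fixedField (m.inertia (L ≃ₐ[K] L)))] (b : B) :
    (∀ σ : L ≃ₐ[K] L, σ • b = b) ↔ b ∈ Set.range (algebraMap A B) := by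
  have injBL : Function.Injective (algebraMap B L) := IsIntegralClosure.algebraMap_injective B A L
  constructor
  · intro h
    have hbot : algebraMap B L b ∈ (⊥ : IntermediateField K L) := by
      rw [IsGalois.mem_bot_iff_fixed]
      intro σ
      rw [← hact, h σ]
    obtain ⟨k, hk⟩ := IntermediateField.mem_bot.mp hbot
    have h1 : IsIntegral A (algebraMap B L b) :=
      (IsIntegralClosure.isIntegral A L b).map (IsScalarTower.toAlgHom A B L)
    rw [← hk, isIntegral_algebraMap_iff (algebraMap K L).injective] at h1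
    obtain ⟨a, ha⟩ := IsIntegrallyClosed.isIntegral_iff.mp h1
    refine ⟨a, ?_⟩
    apply injBL
    rw [← IsScalarTower.algebraMap_apply A B L, IsScalarTower.algebraMap_apply A K L, ha, hk]
  · rintro ⟨a, rfl⟩ σ
    apply injBL
    rw [hact, ← IsScalarTower.algebraMap_apply A B L, IsScalarTower.algebraMap_apply A K L,
      AlgEquiv.commutes]

theorem injective_A_B (A K L B : Type u) [CommRing A] [IsDomain A] [IsDiscreteValuationRing A] [Field K]
    [Field L] [Algebra A K] [IsFractionRing A K] [Algebra K L]
    [Algebra A L] [IsScalarTower A K L] [FiniteDimensional K L] [IsGalois K L]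
    [CommRing B] [Algebra A B] [Algebra B L] [IsScalarTower A B L] [IsIntegralClosure B A L]
    [MulSemiringAction (L ≃ₐ[K] L) B]
    (hact : ∀ (σ : L ≃ₐ[K] L) (b : B), algebraMap B L (σ • b) = σ (algebraMap B L b))
    (m : Ideal B) [m.IsMaximal]
    (B' : Type u) [CommRing B'] [Algebra A B'] [Algebra B' B] [IsScalarTower A B' B] [Algebra B' L]
    [IsScalarTower B' B L]
    [Algebra B' (IntermediateField.fixedField (m.inertia (L ≃ₐ[K] L)))]
    [IsScalarTower B' (IntermediateField.fixedField (m.inertia (L ≃ₐ[K] L))) L]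
    [IsIntegralClosure B' A (IntermediateField.fixedField (m.inertia (L ≃ₐ[K] L)))] : Function.Injective (algebraMap A B) := by
  have h1 : Function.Injective (algebraMap A L) := by
    rw [IsScalarTower.algebraMap_eq A K L]
    exact (algebraMap K L).injective.comp (IsFractionRing.injective A K)
  rw [IsScalarTower.algebraMap_eq A B L] at h1
  exact Function.Injective.of_comp h1

theorem injective_B'_B (A K L B : Type u) [CommRing A] [IsDomain A] [IsDiscreteValuationRing A] [Field K]
    [Field L] [Algebra A K] [IsFractionRing A K] [Algebra K L]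
    [Algebra A L] [IsScalarTower A K L] [FiniteDimensional K L] [IsGalois K L]
    [CommRing B] [Algebra A B] [Algebra B L] [IsScalarTower A B L] [IsIntegralClosure B A L]
    [MulSemiringAction (L ≃ₐ[K] L) B]
    (hact : ∀ (σ : L ≃ₐ[K] L) (b : B), algebraMap B L (σ • b) = σ (algebraMap B L b))
    (m : Ideal B) [m.IsMaximal]
    (B' : Type u) [CommRing B'] [Algebra A B'] [Algebra B' B] [IsScalarTower A B' B] [Algebra B' L]
    [IsScalarTower B' B L]
    [Algebra B' (IntermediateField.fixedField (m.inertia (L ≃ₐ[K] L)))]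
    [IsScalarTower B' (IntermediateField.fixedField (m.inertia (L ≃ₐ[K] L))) L]
    [IsIntegralClosure B' A (IntermediateField.fixedField (m.inertia (L ≃ₐ[K] L)))] : Function.Injective (algebraMap B' B) := by
  have h0 : Function.Injective (algebraMap B'
      (IntermediateField.fixedField (m.inertia (L ≃ₐ[K] L)))) :=
    IsIntegralClosure.algebraMap_injective B' A _
  have h1 : Function.Injective (algebraMap B' L) := by
    rw [IsScalarTower.algebraMap_eq B'
      (IntermediateField.fixedField (m.inertia (L ≃ₐ[K] L))) L]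
    exact (algebraMap _ L).injective.comp h0
  rw [IsScalarTower.algebraMap_eq B' B L] at h1
  exact Function.Injective.of_comp h1

/-- `A ≃ B^G` -/
noncomputable def e0 (A K L B : Type u) [CommRing A] [IsDomain A] [IsDiscreteValuationRing A] [Field K]
    [Field L] [Algebra A K] [IsFractionRing A K] [Algebra K L]
    [Algebra A L] [IsScalarTower A K L] [FiniteDimensional K L] [IsGalois K L]
    [CommRing B] [Algebra A B] [Algebra B L] [IsScalarTower A B L] [IsIntegralClosure B A L]
    [MulSemiringAction (L ≃ₐ[K] L) B]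
    (hact : ∀ (σ : L ≃ₐ[K] L) (b : B), algebraMap B L (σ • b) = σ (algebraMap B L b))
    (m : Ideal B) [m.IsMaximal]
    (B' : Type u) [CommRing B'] [Algebra A B'] [Algebra B' B] [IsScalarTower A B' B] [Algebra B' L]
    [IsScalarTower B' B L]
    [Algebra B' (IntermediateField.fixedField (m.inertia (L ≃ₐ[K] L)))]
    [IsScalarTower B' (IntermediateField.fixedField (m.inertia (L ≃ₐ[K] L))) L]
    [IsIntegralClosure B' A (IntermediateField.fixedField (m.inertia (L ≃ₐ[K] L)))] : A ≃+* FixedPoints.subring B (L ≃ₐ[K] L) :=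
  RingEquiv.ofBijective
    ((algebraMap A B).codRestrict (FixedPoints.subring B (L ≃ₐ[K] L))
      (fun a σ => (mem_range_A A K L B hact m B' _).mpr ⟨a, rfl⟩ σ))
    ⟨fun a a' h => injective_A_B A K L B hact m B' (congrArg Subtype.val h),
     fun b => by
      obtain ⟨a, ha⟩ := (mem_range_A A K L B hact m B' b.1).mp (fun σ => b.2 σ)
      exact ⟨a, Subtype.ext ha⟩⟩

/-- `B' ≃ B^I` -/
noncomputable def e1 (A K L B : Type u) [CommRing A] [IsDomain A] [IsDiscreteValuationRing A] [Field K]
    [Field L] [Algebra A K] [IsFractionRing A K] [Algebra K L]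
    [Algebra A L] [IsScalarTower A K L] [FiniteDimensional K L] [IsGalois K L]
    [CommRing B] [Algebra A B] [Algebra B L] [IsScalarTower A B L] [IsIntegralClosure B A L]
    [MulSemiringAction (L ≃ₐ[K] L) B]
    (hact : ∀ (σ : L ≃ₐ[K] L) (b : B), algebraMap B L (σ • b) = σ (algebraMap B L b))
    (m : Ideal B) [m.IsMaximal]
    (B' : Type u) [CommRing B'] [Algebra A B'] [Algebra B' B] [IsScalarTower A B' B] [Algebra B' L]
    [IsScalarTower B' B L]
    [Algebra B' (IntermediateField.fixedField (m.inertia (L ≃ₐ[K] L)))]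
    [IsScalarTower B' (IntermediateField.fixedField (m.inertia (L ≃ₐ[K] L))) L]
    [IsIntegralClosure B' A (IntermediateField.fixedField (m.inertia (L ≃ₐ[K] L)))] : B' ≃+* FixedPoints.subring B (m.inertia (L ≃ₐ[K] L)) :=
  RingEquiv.ofBijective
    ((algebraMap B' B).codRestrict (FixedPoints.subring B (m.inertia (L ≃ₐ[K] L)))
      (fun b' σ => (part1 A K L B hact m B' _).mpr ⟨b', rfl⟩ σ.1 σ.2))
    ⟨fun a a' h => injective_B'_B A K L B hact m B' (congrArg Subtype.val h),
     fun b => by
      obtain ⟨a, ha⟩ := (part1 A K L B hact m B' b.1).mp (fun σ hσ => b.2 ⟨σ, hσ⟩)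
      exact ⟨a, Subtype.ext ha⟩⟩

theorem coe_e0 (A K L B : Type u) [CommRing A] [IsDomain A] [IsDiscreteValuationRing A] [Field K]
    [Field L] [Algebra A K] [IsFractionRing A K] [Algebra K L]
    [Algebra A L] [IsScalarTower A K L] [FiniteDimensional K L] [IsGalois K L]
    [CommRing B] [Algebra A B] [Algebra B L] [IsScalarTower A B L] [IsIntegralClosure B A L]
    [MulSemiringAction (L ≃ₐ[K] L) B]
    (hact : ∀ (σ : L ≃ₐ[K] L) (b : B), algebraMap B L (σ • b) = σ (algebraMap B L b))
    (m : Ideal B) [m.IsMaximal]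
    (B' : Type u) [CommRing B'] [Algebra A B'] [Algebra B' B] [IsScalarTower A B' B] [Algebra B' L]
    [IsScalarTower B' B L]
    [Algebra B' (IntermediateField.fixedField (m.inertia (L ≃ₐ[K] L)))]
    [IsScalarTower B' (IntermediateField.fixedField (m.inertia (L ≃ₐ[K] L))) L]
    [IsIntegralClosure B' A (IntermediateField.fixedField (m.inertia (L ≃ₐ[K] L)))] (a : A) : ((e0 A K L B hact m B' a : FixedPoints.subring B (L ≃ₐ[K] L)) : B) =
    algebraMap A B a := rfl

theorem coe_e1 (A K L B : Type u) [CommRing A] [IsDomain A] [IsDiscreteValuationRing A] [Field K]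
    [Field L] [Algebra A K] [IsFractionRing A K] [Algebra K L]
    [Algebra A L] [IsScalarTower A K L] [FiniteDimensional K L] [IsGalois K L]
    [CommRing B] [Algebra A B] [Algebra B L] [IsScalarTower A B L] [IsIntegralClosure B A L]
    [MulSemiringAction (L ≃ₐ[K] L) B]
    (hact : ∀ (σ : L ≃ₐ[K] L) (b : B), algebraMap B L (σ • b) = σ (algebraMap B L b))
    (m : Ideal B) [m.IsMaximal]
    (B' : Type u) [CommRing B'] [Algebra A B'] [Algebra B' B] [IsScalarTower A B' B] [Algebra B' L]
    [IsScalarTower B' B L]
    [Algebra B' (IntermediateField.fixedField (m.inertia (L ≃ₐ[K] L)))]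
    [IsScalarTower B' (IntermediateField.fixedField (m.inertia (L ≃ₐ[K] L))) L]
    [IsIntegralClosure B' A (IntermediateField.fixedField (m.inertia (L ≃ₐ[K] L)))] (b' : B') :
    ((e1 A K L B hact m B' b' : FixedPoints.subring B (m.inertia (L ≃ₐ[K] L))) : B) =
    algebraMap B' B b' := rfl

/-- Étale principal localization of `B'` over `A`, at an element outside `m'`. -/
theorem exists_etale_away (A K L B : Type u) [CommRing A] [IsDomain A] [IsDiscreteValuationRing A] [Field K]
    [Field L] [Algebra A K] [IsFractionRing A K] [Algebra K L]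
    [Algebra A L] [IsScalarTower A K L] [FiniteDimensional K L] [IsGalois K L]
    [CommRing B] [Algebra A B] [Algebra B L] [IsScalarTower A B L] [IsIntegralClosure B A L]
    [MulSemiringAction (L ≃ₐ[K] L) B]
    (hact : ∀ (σ : L ≃ₐ[K] L) (b : B), algebraMap B L (σ • b) = σ (algebraMap B L b))
    (m : Ideal B) [m.IsMaximal]
    (B' : Type u) [CommRing B'] [Algebra A B'] [Algebra B' B] [IsScalarTower A B' B] [Algebra B' L]
    [IsScalarTower B' B L]
    [Algebra B' (IntermediateField.fixedField (m.inertia (L ≃ₐ[K] L)))]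
    [IsScalarTower B' (IntermediateField.fixedField (m.inertia (L ≃ₐ[K] L))) L]
    [IsIntegralClosure B' A (IntermediateField.fixedField (m.inertia (L ≃ₐ[K] L)))] : ∃ g' : B', algebraMap B' B g' ∉ m ∧
    Algebra.Etale A (Localization.Away g') := by
  haveI : m.IsPrime := Ideal.IsMaximal.isPrime inferInstance
  obtain ⟨g, hg, hét⟩ := Groth.Agent.Lib.InertiaEtaleH3.main (G := L ≃ₐ[K] L) (R := B) m
  let E1 := e1 A K L B hact m B'
  let E0 := e0 A K L B hact m B'
  let g' : B' := E1.symm g
  have hg' : E1 g' = g := E1.apply_symm_apply g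
  refine ⟨g', ?_, ?_⟩
  · intro h
    apply hg
    rw [Ideal.mem_comap]
    have : algebraMap B' B g' = (g : B) := by
      rw [← coe_e1 A K L B hact m B' g', hg']
    change (g : B) ∈ m
    rw [← this]
    exact h
  · have H : Submonoid.map E1.toMonoidHom (Submonoid.powers g') = Submonoid.powers g := by
      rw [Submonoid.map_powers]
      exact congrArg Submonoid.powers hg'
    let ε : Localization.Away g' ≃+* Localization.Away g :=
      IsLocalization.ringEquivOfRingEquiv (Localization.Away g') (Localization.Away g) E1 H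
    refine etale_transfer E0 ε ?_
    intro a
    rw [IsScalarTower.algebraMap_apply A B' (Localization.Away g'),
      IsLocalization.ringEquivOfRingEquiv_eq,
      IsScalarTower.algebraMap_apply (FixedPoints.subring B (L ≃ₐ[K] L))
        (FixedPoints.subring B (m.inertia (L ≃ₐ[K] L))) (Localization.Away g)]
    congr 1
    apply Subtype.ext
    change algebraMap B' B (algebraMap A B' a) = algebraMap A B a
    rw [← IsScalarTower.algebraMap_apply A B' B]

theorem etale_atPrime (A K L B : Type u) [CommRing A] [IsDomain A] [IsDiscreteValuationRing A] [Field K]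
    [Field L] [Algebra A K] [IsFractionRing A K] [Algebra K L]
    [Algebra A L] [IsScalarTower A K L] [FiniteDimensional K L] [IsGalois K L]
    [CommRing B] [Algebra A B] [Algebra B L] [IsScalarTower A B L] [IsIntegralClosure B A L]
    [MulSemiringAction (L ≃ₐ[K] L) B]
    (hact : ∀ (σ : L ≃ₐ[K] L) (b : B), algebraMap B L (σ • b) = σ (algebraMap B L b))
    (m : Ideal B) [m.IsMaximal]
    (B' : Type u) [CommRing B'] [Algebra A B'] [Algebra B' B] [IsScalarTower A B' B] [Algebra B' L]
    [IsScalarTower B' B L]
    [Algebra B' (IntermediateField.fixedField (m.inertia (L ≃ₐ[K] L)))]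
    [IsScalarTower B' (IntermediateField.fixedField (m.inertia (L ≃ₐ[K] L))) L]
    [IsIntegralClosure B' A (IntermediateField.fixedField (m.inertia (L ≃ₐ[K] L)))] :
    Algebra.Etale A (Localization.AtPrime (m.comap (algebraMap B' B))) := by
  classical
  obtain ⟨g', hg'm, hét⟩ := exists_etale_away A K L B hact m B'
  have injBL : Function.Injective (algebraMap B L) := IsIntegralClosure.algebraMap_injective B A L
  haveI : IsDomain B := injBL.isDomain _
  haveI : IsDomain B' := (injective_B'_B A K L B hact m B').isDomain _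
  haveI : IsScalarTower A (IntermediateField.fixedField (m.inertia (L ≃ₐ[K] L))) L :=
    IsScalarTower.of_algebraMap_eq (fun a => rfl)
  haveI : IsScalarTower A K (IntermediateField.fixedField (m.inertia (L ≃ₐ[K] L))) := by
    refine IsScalarTower.of_algebraMap_eq (fun a => ?_)
    apply Subtype.ext
    change algebraMap A L a = algebraMap K L (algebraMap A K a)
    rw [← IsScalarTower.algebraMap_apply A K L]
  haveI : IsScalarTower A B' (IntermediateField.fixedField (m.inertia (L ≃ₐ[K] L))) := by
    refine IsScalarTower.of_algebraMap_eq (fun a => ?_)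
    apply (algebraMap (IntermediateField.fixedField (m.inertia (L ≃ₐ[K] L))) L).injective
    rw [← IsScalarTower.algebraMap_apply B' _ L, IsScalarTower.algebraMap_apply B' B L,
      ← IsScalarTower.algebraMap_apply A B' B, ← IsScalarTower.algebraMap_apply A B L,
      ← IsScalarTower.algebraMap_apply A _ L]
  haveI : Module.Finite A B' :=
    IsIntegralClosure.finite A K (IntermediateField.fixedField (m.inertia (L ≃ₐ[K] L))) B'
  haveI : Algebra.IsIntegral A B' := Algebra.IsIntegral.of_finite A B'
  set m' : Ideal B' := m.comap (algebraMap B' B) with hm'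
  have hg' : g' ∉ m' := hg'm
  let 𝔪 : Ideal A := IsLocalRing.maximalIdeal A
  have hfin : (𝔪.primesOver B').Finite := Algebra.QuasiFinite.finite_primesOver 𝔪
  let F : Finset (Ideal B') := hfin.toFinset.erase m'
  have hm'top : m' ≠ ⊤ := Ideal.IsPrime.ne_top inferInstance
  have hF : ¬ F.inf id ≤ m' := by
    rw [Ideal.IsPrime.inf_le' inferInstance]
    rintro ⟨Q, hQF, hQm'⟩
    obtain ⟨hne, hQ⟩ := Finset.mem_erase.mp hQF
    rw [Set.Finite.mem_toFinset] at hQ
    obtain ⟨hQp, hQo⟩ := hQ
    have hmax : (Q.comap (algebraMap A B')).IsMaximal := by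
      have : Q.comap (algebraMap A B') = 𝔪 := hQo.over.symm
      rw [this]
      exact IsLocalRing.maximalIdeal.isMaximal A
    haveI := hQp
    have hQmax : Q.IsMaximal := Ideal.isMaximal_of_isIntegral_of_isMaximal_comap Q hmax
    exact hne (hQmax.eq_of_le hm'top hQm')
  obtain ⟨s, hsF, hsm'⟩ := SetLike.not_le_iff_exists.mp hF
  have ht : g' * s ∉ m' := by
    intro h
    rcases Ideal.IsPrime.mem_or_mem inferInstance h with h1 | h1
    · exact hg' h1
    · exact hsm' h1
  let T1 := Localization.Away g'
  let T2 := Localization.Away (algebraMap B' T1 s)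
  haveI : IsLocalization.Away (g' * s) T2 := IsLocalization.Away.mul' T1 T2 g' s
  have hprimes : ∀ Q : Ideal B', Q.IsPrime → Q ≠ ⊥ → g' * s ∉ Q → Q = m' := by
    intro Q hQp hQ0 htQ
    by_contra hne
    haveI := hQp
    have h1 : Q.comap (algebraMap A B') ≠ ⊥ := fun h => hQ0 (Ideal.eq_bot_of_comap_eq_bot h)
    have h2 : (Q.comap (algebraMap A B')).IsMaximal :=
      Ideal.IsPrime.isMaximal inferInstance h1
    have h3 : Q.comap (algebraMap A B') = 𝔪 := IsLocalRing.eq_maximalIdeal h2
    have h4 : Q ∈ 𝔪.primesOver B' := ⟨hQp, ⟨h3.symm⟩⟩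
    have h5 : Q ∈ F := Finset.mem_erase.mpr ⟨hne, (Set.Finite.mem_toFinset hfin).mpr h4⟩
    have h6 : s ∈ Q := (Finset.inf_le h5 : F.inf id ≤ id Q) hsF
    exact htQ (Ideal.mul_mem_left _ _ h6)
  haveI : IsLocalization.AtPrime T2 m' :=
    isLocalization_atPrime_of_away m' (g' * s) ht T2 hprimes
  let e : Localization.AtPrime m' ≃ₐ[B'] T2 :=
    IsLocalization.algEquiv m'.primeCompl (Localization.AtPrime m') T2
  haveI : Algebra.Etale A T1 := hét
  haveI : Algebra.Etale A T2 := inferInstance
  exact Algebra.Etale.of_equiv (e.symm.restrictScalars A)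

theorem main (A K L B : Type u) [CommRing A] [IsDomain A] [IsDiscreteValuationRing A] [Field K]
    [Field L] [Algebra A K] [IsFractionRing A K] [Algebra K L]
    [Algebra A L] [IsScalarTower A K L] [FiniteDimensional K L] [IsGalois K L]
    [CommRing B] [Algebra A B] [Algebra B L] [IsScalarTower A B L] [IsIntegralClosure B A L]
    [MulSemiringAction (L ≃ₐ[K] L) B]
    (hact : ∀ (σ : L ≃ₐ[K] L) (b : B), algebraMap B L (σ • b) = σ (algebraMap B L b))
    (m : Ideal B) [m.IsMaximal]
    (B' : Type u) [CommRing B'] [Algebra A B'] [Algebra B' B] [IsScalarTower A B' B] [Algebra B' L]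
    [IsScalarTower B' B L]
    [Algebra B' (IntermediateField.fixedField (m.inertia (L ≃ₐ[K] L)))]
    [IsScalarTower B' (IntermediateField.fixedField (m.inertia (L ≃ₐ[K] L))) L]
    [IsIntegralClosure B' A (IntermediateField.fixedField (m.inertia (L ≃ₐ[K] L)))] :
    (∀ b : B, (∀ σ ∈ m.inertia (L ≃ₐ[K] L), σ • b = b) ↔ b ∈ Set.range (algebraMap B' B)) ∧
      Algebra.Etale A (Localization.AtPrime (m.comap (algebraMap B' B))) :=
  ⟨fun b => part1 A K L B hact m B' b, etale_atPrime A K L B hact m B'⟩

end main

end Groth.Agent.Lib.InertiaDVRH3
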