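import Mathlib
import Groth.Agent.Lib.Regular_helper5

/-!
# Automorphisms of complete local rings fixing a parameter

If `σ` is an automorphism of a Noetherian local `k`-algebra `A` (with `k → A/m` onto) fixing `k`,
then the ideal generated by all `σ a - a` is generated by `σ y - y` for `y` in a generating set of
the maximal ideal.  Consequently, in a regular local ring of dimension `≥ 1`, if `σ` fixes an
element of `m \ m²` then `σ` lies in the inertia group of a non-maximal prime.
-/

set_option autoImplicit false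
universe u v w

namespace Groth.Agent.Lib.InertiaFixH3

open IsLocalRing

section

variable {A : Type u} [CommRing A] [IsLocalRing A]

theorem mem_of_forall_mem_sup_pow [IsNoetherianRing A] (J : Ideal A) (x : A)
    (hJ : ∀ i, x ∈ J ⊔ maximalIdeal A ^ i) : x ∈ J := by
  have hkrull := Ideal.iInf_pow_smul_eq_bot_of_isLocalRing (M := A ⧸ J) (maximalIdeal A)
    (IsLocalRing.maximalIdeal.isMaximal A).ne_top
  rw [← Ideal.Quotient.eq_zero_iff_mem]
  have hmem : Ideal.Quotient.mk J x ∈
      (⨅ i : ℕ, maximalIdeal A ^ i • ⊤ : Submodule A (A ⧸ J)) := by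
    rw [Submodule.mem_iInf]
    intro i
    obtain ⟨y, hy, z, hz, hyz⟩ := Submodule.mem_sup.mp (hJ i)
    rw [← hyz, map_add, Ideal.Quotient.eq_zero_iff_mem.mpr hy, zero_add]
    have h1 : Ideal.Quotient.mk J z = z • (Ideal.Quotient.mk J 1) := by
      rw [Algebra.smul_def, Ideal.Quotient.algebraMap_eq, ← map_mul, mul_one]
    rw [h1]
    exact Submodule.smul_mem_smul hz Submodule.mem_top
  rw [hkrull] at hmem
  exact (Submodule.mem_bot A).mp hmem

variable {k : Type v} [Field k] [Algebra k A]

theorem step (hk : Function.Surjective (residue A ∘ algebraMap k A)) (s : Set A)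
    (hs : Ideal.span s = maximalIdeal A) :
    ∀ N : ℕ, ∀ x ∈ maximalIdeal A ^ N,
      ∃ b ∈ Algebra.adjoin k s, x - b ∈ maximalIdeal A ^ (N + 1) := by
  intro N
  induction N with
  | zero =>
    intro x _
    obtain ⟨c, hc⟩ := hk (residue A x)
    refine ⟨algebraMap k A c, Subalgebra.algebraMap_mem _ c, ?_⟩
    rw [zero_add, pow_one, ← Ideal.Quotient.eq_zero_iff_mem, map_sub, sub_eq_zero]
    exact hc.symm
  | succ N ih =>
    intro x hx
    rw [pow_succ] at hx
    refine Submodule.mul_induction_on hx ?_ ?_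
    · intro y hy z hz
      rw [← hs] at hz
      revert y
      refine Submodule.span_induction (p := fun z _ => ∀ y ∈ maximalIdeal A ^ N,
        ∃ b ∈ Algebra.adjoin k s, y * z - b ∈ maximalIdeal A ^ (N + 1 + 1)) ?_ ?_ ?_ ?_ hz
      · intro z hz y hy
        obtain ⟨b, hb, hyb⟩ := ih y hy
        refine ⟨b * z, mul_mem hb (Algebra.subset_adjoin hz), ?_⟩
        have hzm : z ∈ maximalIdeal A := by rw [← hs]; exact Ideal.subset_span hz
        have : y * z - b * z = (y - b) * z := by ring
        rw [this, pow_succ (maximalIdeal A) (N + 1)]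
        exact Ideal.mul_mem_mul hyb hzm
      · intro y _
        exact ⟨0, zero_mem _, by simp⟩
      · intro z₁ z₂ _ _ h₁ h₂ y hy
        obtain ⟨b₁, hb₁, h₁'⟩ := h₁ y hy
        obtain ⟨b₂, hb₂, h₂'⟩ := h₂ y hy
        refine ⟨b₁ + b₂, add_mem hb₁ hb₂, ?_⟩
        have : y * (z₁ + z₂) - (b₁ + b₂) = (y * z₁ - b₁) + (y * z₂ - b₂) := by ring
        rw [this]
        exact Ideal.add_mem _ h₁' h₂'
      · intro r z _ h y hy
        obtain ⟨b, hb, h'⟩ := h (y * r) (Ideal.mul_mem_right _ _ hy)
        refine ⟨b, hb, ?_⟩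
        have : y * (r • z) - b = y * r * z - b := by rw [smul_eq_mul]; ring
        rw [this]
        exact h'
    · intro x y ⟨b₁, hb₁, h₁⟩ ⟨b₂, hb₂, h₂⟩
      refine ⟨b₁ + b₂, add_mem hb₁ hb₂, ?_⟩
      have : x + y - (b₁ + b₂) = (x - b₁) + (y - b₂) := by ring
      rw [this]
      exact Ideal.add_mem _ h₁ h₂

theorem exists_adjoin_sub_mem_pow (hk : Function.Surjective (residue A ∘ algebraMap k A))
    (s : Set A) (hs : Ideal.span s = maximalIdeal A) (N : ℕ) (a : A) :
    ∃ b ∈ Algebra.adjoin k s, a - b ∈ maximalIdeal A ^ N := by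
  induction N with
  | zero => exact ⟨0, zero_mem _, by simp⟩
  | succ N ih =>
    obtain ⟨b, hb, hab⟩ := ih
    obtain ⟨b', hb', hab'⟩ := step hk s hs N (a - b) hab
    refine ⟨b + b', add_mem hb hb', ?_⟩
    have : a - (b + b') = a - b - b' := by ring
    rw [this]
    exact hab'

variable {G : Type w} [Group G] [MulSemiringAction G A]

theorem smul_mem_pow (σ : G) (N : ℕ) (x : A) (hx : x ∈ maximalIdeal A ^ N) :
    σ • x ∈ maximalIdeal A ^ N := by
  let f : A →+* A := MulSemiringAction.toRingHom G A σ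
  have h1 : (maximalIdeal A).map f ≤ maximalIdeal A := by
    rw [Ideal.map_le_iff_le_comap]
    intro y hy
    rw [Ideal.mem_comap, mem_maximalIdeal, mem_nonunits_iff]
    rw [mem_maximalIdeal, mem_nonunits_iff] at hy
    intro h
    apply hy
    have h' : IsUnit (σ • y) := h
    have h2 := h'.map (MulSemiringAction.toRingHom G A σ⁻¹)
    have h3 : MulSemiringAction.toRingHom G A σ⁻¹ (σ • y) = y := inv_smul_smul σ y
    rwa [h3] at h2
  have h2 : f x ∈ (maximalIdeal A ^ N).map f := Ideal.mem_map_of_mem f hx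
  rw [Ideal.map_pow] at h2
  exact Ideal.pow_right_mono h1 N h2

theorem smul_sub_mem [IsNoetherianRing A]
    (hk : Function.Surjective (residue A ∘ algebraMap k A))
    (σ : G) (hGk : ∀ c : k, σ • algebraMap k A c = algebraMap k A c)
    (s : Set A) (hs : Ideal.span s = maximalIdeal A) (J : Ideal A)
    (hJ : ∀ y ∈ s, σ • y - y ∈ J) (a : A) : σ • a - a ∈ J := by
  have hadj : ∀ b ∈ Algebra.adjoin k s, σ • b - b ∈ J := by
    intro b hb
    refine Algebra.adjoin_induction (p := fun b _ => σ • b - b ∈ J) ?_ ?_ ?_ ?_ hb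
    · intro y hy
      exact hJ y hy
    · intro c
      rw [hGk c, sub_self]
      exact zero_mem _
    · intro x y _ _ hx hy
      have : σ • (x + y) - (x + y) = (σ • x - x) + (σ • y - y) := by rw [smul_add]; ring
      rw [this]
      exact Ideal.add_mem _ hx hy
    · intro x y _ _ hx hy
      have : σ • (x * y) - x * y = σ • x * (σ • y - y) + (σ • x - x) * y := by
        rw [smul_mul']; ring
      rw [this]
      exact Ideal.add_mem _ (Ideal.mul_mem_left _ _ hy) (Ideal.mul_mem_right _ _ hx)
  apply mem_of_forall_mem_sup_pow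
  intro N
  obtain ⟨b, hb, hab⟩ := exists_adjoin_sub_mem_pow hk s hs N a
  have : σ • a - a = (σ • b - b) + (σ • (a - b) - (a - b)) := by rw [smul_sub]; ring
  rw [this]
  refine Submodule.add_mem_sup (hadj b hb) ?_
  exact Ideal.sub_mem _ (smul_mem_pow σ N _ hab) hab

end

/-- In a regular local `k`-algebra with `k → A/m` onto, a nontrivial group element fixing `k` and
an element of `m \ m²` lies in the inertia group of some non-maximal prime. -/
theorem exists_prime_inertia {A : Type u} [CommRing A] [IsRegularLocalRing A]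
    {k : Type v} [Field k] [Algebra k A]
    (hk : Function.Surjective (residue A ∘ algebraMap k A))
    {G : Type w} [Group G] [MulSemiringAction G A] (σ : G)
    (hGk : ∀ c : k, σ • algebraMap k A c = algebraMap k A c)
    (v : A) (hv : v ∈ maximalIdeal A) (hv2 : v ∉ maximalIdeal A ^ 2) (hσv : σ • v = v) :
    ∃ P : Ideal A, P.IsPrime ∧ P ≠ maximalIdeal A ∧ σ ∈ P.inertia G := by
  classical
  obtain ⟨t, htcard, htspan⟩ := Groth.Agent.RegularLib.exists_finset_insert v hv hv2
  let J : Ideal A := Ideal.span ((fun y => σ • y - y) '' (t : Set A))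
  have key : ∀ a, σ • a - a ∈ J := by
    apply smul_sub_mem hk σ hGk (insert v (t : Set A)) htspan J
    intro y hy
    rcases hy with rfl | hy
    · rw [hσv, sub_self]; exact zero_mem _
    · exact Ideal.subset_span ⟨y, hy, rfl⟩
  have hJm : J ≤ maximalIdeal A := by
    rw [Ideal.span_le]
    rintro _ ⟨y, hy, rfl⟩
    have hym : y ∈ maximalIdeal A := by
      rw [← htspan]; exact Ideal.subset_span (Set.mem_insert_of_mem _ hy)
    have h1 := smul_mem_pow σ 1 y (by rwa [pow_one])
    rw [pow_one] at h1
    exact Ideal.sub_mem _ h1 hym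
  have hJtop : J ≠ ⊤ := fun h => (IsLocalRing.maximalIdeal.isMaximal A).ne_top
    (top_le_iff.mp (h ▸ hJm))
  obtain ⟨P, hP⟩ := Ideal.nonempty_minimalPrimes hJtop
  have hfin : ((fun y => σ • y - y) '' (t : Set A)).Finite := (Finset.finite_toSet t).image _
  have hht : P.height ≤ ((fun y => σ • y - y) '' (t : Set A)).ncard :=
    Ideal.height_le_card_of_mem_minimalPrimes_span hfin hP
  have hnc : ((fun y => σ • y - y) '' (t : Set A)).ncard ≤ t.card := by
    have := Set.ncard_image_le (f := fun y => σ • y - y) (Finset.finite_toSet t)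
    rwa [Set.ncard_coe_finset] at this
  refine ⟨P, hP.1.1, ?_, fun a => hP.1.2 (key a)⟩
  intro hPm
  have hdim : ((maximalIdeal A).spanFinrank : WithBot ℕ∞) = ringKrullDim A :=
    IsRegularLocalRing.spanFinrank_maximalIdeal
  have h3 : ((maximalIdeal A).height : WithBot ℕ∞) = ringKrullDim A :=
    IsLocalRing.maximalIdeal_height_eq_ringKrullDim
  have h4 : (maximalIdeal A).height = ((maximalIdeal A).spanFinrank : ℕ∞) := by
    have : ((maximalIdeal A).height : WithBot ℕ∞) =
        (((maximalIdeal A).spanFinrank : ℕ∞) : WithBot ℕ∞) := by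
      rw [h3, ← hdim]; rfl
    exact_mod_cast this
  rw [hPm, h4, ← htcard] at hht
  have h5 : ((t.card + 1 : ℕ) : ℕ∞) ≤ (t.card : ℕ∞) := le_trans hht (by exact_mod_cast hnc)
  have : t.card + 1 ≤ t.card := by exact_mod_cast h5
  omega

end Groth.Agent.Lib.InertiaFixH3
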