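import Mathlib

/-!
# Structure of an inertia group all of whose principal ideals are stable

Library for S12934 (helper3).
-/

universe u v
open IsLocalRing

namespace Groth.Agent.Lib.InertiaStruct

variable {B : Type u} [CommRing B] [IsLocalRing B] {Γ : Type v} [Group Γ] [Finite Γ]
  [MulSemiringAction Γ B]

section basic

variable (hin : ∀ (γ : Γ) (b : B), γ • b - b ∈ maximalIdeal B)
include hin

omit [Finite Γ] in
lemma smul_mem_max (γ : Γ) {x : B} (hx : x ∈ maximalIdeal B) : γ • x ∈ maximalIdeal B := by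
  have : γ • x = (γ • x - x) + x := by ring
  rw [this]
  exact (maximalIdeal B).add_mem (hin γ x) hx

omit [Finite Γ] in
lemma residue_smul (γ : Γ) (x : B) : residue B (γ • x) = residue B x := by
  have h := hin γ x
  rw [← residue_eq_zero_iff, map_sub, sub_eq_zero] at h
  exact h

/-- the wild inertia subgroup -/
def Ssub : Subgroup Γ where
  carrier := {γ | ∀ b : B, ∃ x ∈ maximalIdeal B, γ • b = b + b * x}
  one_mem' := fun b => ⟨0, (maximalIdeal B).zero_mem, by simp⟩
  mul_mem' := by
    intro γ δ hγ hδ b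
    obtain ⟨x, hx, hxb⟩ := hδ b
    obtain ⟨x', hx', hxb'⟩ := hγ b
    refine ⟨x' + γ • x + x' * γ • x, ?_, ?_⟩
    · have h1 := smul_mem_max hin γ hx
      exact (maximalIdeal B).add_mem ((maximalIdeal B).add_mem hx' h1)
        ((maximalIdeal B).mul_mem_left _ h1)
    · rw [mul_smul, hxb, smul_add, smul_mul', hxb']
      ring
  inv_mem' := by
    intro γ hγ b
    obtain ⟨x, hx, hxb⟩ := hγ (γ⁻¹ • b)
    rw [smul_inv_smul] at hxb
    -- b = b' (1 + x), so b' = b (1+x)⁻¹
    have hu : IsUnit (1 + x) := by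
      rw [← notMem_maximalIdeal]
      intro h1
      have : (1 : B) = (1 + x) - x := by ring
      have h2 : (1 : B) ∈ maximalIdeal B := by
        rw [this]; exact (maximalIdeal B).sub_mem h1 hx
      exact (maximalIdeal B).ne_top_iff_one.mp (Ideal.IsMaximal.ne_top inferInstance) h2
    obtain ⟨w, hw⟩ := hu
    have hw1 : (1 + x) * (↑w⁻¹ : B) = 1 := by rw [← hw]; exact w.mul_inv
    refine ⟨(↑w⁻¹ : B) - 1, ?_, ?_⟩
    · have : (↑w⁻¹ : B) - 1 = -(x * (↑w⁻¹ : B)) := by
        have : (↑w⁻¹ : B) - 1 = (↑w⁻¹ : B) - (1 + x) * (↑w⁻¹ : B) := by rw [hw1]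
        rw [this]; ring
      rw [this]
      exact (maximalIdeal B).neg_mem ((maximalIdeal B).mul_mem_right _ hx)
    · have : b + b * ((↑w⁻¹ : B) - 1) = b * (↑w⁻¹ : B) := by ring
      rw [this]
      have h3 : b = γ⁻¹ • b * (1 + x) := hxb.trans (by ring)
      calc γ⁻¹ • b = γ⁻¹ • b * ((1 + x) * (↑w⁻¹ : B)) := by rw [hw1, mul_one]
        _ = (γ⁻¹ • b * (1 + x)) * (↑w⁻¹ : B) := by ring
        _ = b * (↑w⁻¹ : B) := by rw [← h3]

omit [Finite Γ] in
lemma mem_Ssub_iff (γ : Γ) :
    γ ∈ Ssub hin ↔ ∀ b : B, ∃ x ∈ maximalIdeal B, γ • b = b + b * x := Iff.rfl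

end basic

section chi

variable (hin : ∀ (γ : Γ) (b : B), γ • b - b ∈ maximalIdeal B)
  (hst : ∀ (γ : Γ) (b : B), ∃ u : B, γ • b = b * u)

/-- a chosen multiplier -/
noncomputable def mult (γ : Γ) (b : B) : B := (hst γ b).choose

omit [IsLocalRing B] [Finite Γ] in
lemma smul_eq (γ : Γ) (b : B) : γ • b = b * mult hst γ b := (hst γ b).choose_spec

/-- the character value -/
noncomputable def chi (γ : Γ) (b : B) : ResidueField B := residue B (mult hst γ b)

omit [Finite Γ] in
lemma chi_eq_of {γ : Γ} {b u : B} (hb : b ≠ 0) (h : γ • b = b * u) :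
    residue B u = chi hst γ b := by
  unfold chi
  by_contra hne
  have h1 : u - mult hst γ b ∉ maximalIdeal B := by
    intro hmem
    rw [← residue_eq_zero_iff, map_sub, sub_eq_zero] at hmem
    exact hne hmem
  rw [notMem_maximalIdeal] at h1
  have h2 : b * (u - mult hst γ b) = 0 := by
    rw [mul_sub, ← h, ← smul_eq hst γ b, sub_self]
  exact hb (h1.mul_left_eq_zero.mp h2)

include hin in
omit [Finite Γ] in
lemma chi_mul (γ δ : Γ) {b : B} (hb : b ≠ 0) :
    chi hst (γ * δ) b = chi hst γ b * chi hst δ b := by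
  have h : (γ * δ) • b = b * (mult hst γ b * γ • mult hst δ b) := by
    rw [mul_smul, smul_eq hst δ b, smul_mul', smul_eq hst γ b]
    ring
  rw [← chi_eq_of hst hb h, map_mul, residue_smul hin]
  rfl

omit [Finite Γ] in
lemma chi_one {b : B} (hb : b ≠ 0) : chi hst (1 : Γ) b = 1 := by
  have h : (1 : Γ) • b = b * 1 := by simp
  rw [← chi_eq_of hst hb h, map_one]

include hin in
omit [Finite Γ] in
lemma chi_pow (γ : Γ) (n : ℕ) {b : B} (hb : b ≠ 0) :
    chi hst (γ ^ n) b = chi hst γ b ^ n := by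
  induction n with
  | zero => simp [chi_one hst hb]
  | succ n ih => rw [pow_succ, chi_mul hin hst _ _ hb, ih, pow_succ]

include hin in
omit [Finite Γ] in
lemma chi_inv (γ : Γ) {b : B} (hb : b ≠ 0) :
    chi hst γ⁻¹ b = (chi hst γ b)⁻¹ := by
  have h := chi_mul hin hst γ γ⁻¹ hb
  rw [mul_inv_cancel, chi_one hst hb] at h
  exact eq_inv_of_mul_eq_one_right h.symm

omit [Finite Γ] in
lemma mem_Ssub_iff_chi (γ : Γ) :
    γ ∈ Ssub hin ↔ ∀ b : B, b ≠ 0 → chi hst γ b = 1 := by
  constructor
  · intro h b hb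
    obtain ⟨x, hx, hxb⟩ := h b
    have h' : γ • b = b * (1 + x) := by rw [hxb]; ring
    rw [← chi_eq_of hst hb h', map_add, map_one, (residue_eq_zero_iff x).mpr hx, add_zero]
  · intro h b
    by_cases hb : b = 0
    · exact ⟨0, (maximalIdeal B).zero_mem, by simp [hb]⟩
    · have h1 := h b hb
      refine ⟨mult hst γ b - 1, ?_, ?_⟩
      · rw [← residue_eq_zero_iff, map_sub, map_one, sub_eq_zero]
        exact h1
      · rw [smul_eq hst γ b]; ring

end chi

section main

variable (hin : ∀ (γ : Γ) (b : B), γ • b - b ∈ maximalIdeal B)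
  (hst : ∀ (γ : Γ) (b : B), ∃ u : B, γ • b = b * u)

include hin in
/-- an element of the wild inertia whose order is invertible in the residue field acts
trivially. -/
lemma smul_eq_self_of_mem_Ssub (γ : Γ) (hγ : γ ∈ Ssub hin)
    (hr : ((orderOf γ : ℕ) : ResidueField B) ≠ 0) (b : B) : γ • b = b := by
  set r := orderOf γ with hr_def
  set c := γ • b - b with hc
  -- multipliers of the powers
  have hpow : ∀ i : ℕ, ∃ x ∈ maximalIdeal B, γ ^ i • c = c + c * x :=
    fun i => (Ssub hin).pow_mem hγ i c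
  choose x hx hxc using hpow
  have hsum : ∑ i ∈ Finset.range r, γ ^ i • c = 0 := by
    have : ∀ i : ℕ, γ ^ i • c = γ ^ (i + 1) • b - γ ^ i • b := by
      intro i
      rw [hc, smul_sub, pow_succ, mul_smul]
    simp only [this]
    rw [Finset.sum_range_sub (fun i => γ ^ i • b), hr_def, pow_orderOf_eq_one]
    simp
  have hsum2 : ∑ i ∈ Finset.range r, γ ^ i • c = c * ((r : B) + ∑ i ∈ Finset.range r, x i) := by
    simp only [hxc]
    rw [Finset.sum_add_distrib, Finset.sum_const, Finset.card_range, ← Finset.mul_sum]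
    simp only [nsmul_eq_mul]
    ring
  have hunit : IsUnit ((r : B) + ∑ i ∈ Finset.range r, x i) := by
    rw [← notMem_maximalIdeal, ← residue_eq_zero_iff, map_add, map_natCast]
    have : residue B (∑ i ∈ Finset.range r, x i) = 0 := by
      rw [residue_eq_zero_iff]
      exact (maximalIdeal B).sum_mem (fun i _ => hx i)
    rw [this, add_zero]
    exact hr
  rw [hsum] at hsum2
  have hc0 : c = 0 := hunit.mul_left_eq_zero.mp hsum2.symm
  rw [hc, sub_eq_zero] at hc0
  exact hc0

include hin in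
lemma eq_one_of_mem_Ssub [FaithfulSMul Γ B] (γ : Γ) (hγ : γ ∈ Ssub hin)
    (hr : ((orderOf γ : ℕ) : ResidueField B) ≠ 0) : γ = 1 := by
  apply FaithfulSMul.eq_of_smul_eq_smul (α := B)
  intro b
  rw [smul_eq_self_of_mem_Ssub hin γ hγ hr b, one_smul]

include hin in
theorem char_zero_case [FaithfulSMul Γ B] (h0 : ringChar (ResidueField B) = 0) :
    (Ssub hin : Set Γ) = {1} := by
  haveI : CharP (ResidueField B) 0 := by
    have := ringChar.charP (ResidueField B)
    rwa [h0] at this
  haveI : CharZero (ResidueField B) := CharP.charP_to_charZero _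
  ext γ
  simp only [SetLike.mem_coe, Set.mem_singleton_iff]
  constructor
  · intro hγ
    refine eq_one_of_mem_Ssub hin γ hγ ?_
    rw [Nat.cast_ne_zero]
    exact (orderOf_pos γ).ne'
  · rintro rfl
    exact (Ssub hin).one_mem

include hin hst in
theorem char_p_case [FaithfulSMul Γ B] (p : ℕ) [Fact p.Prime]
    (hp : ringChar (ResidueField B) = p) :
    ∃ Q : Sylow p Γ, (Q : Set Γ) = (Ssub hin : Set Γ) := by
  haveI : CharP (ResidueField B) p := by
    have := ringChar.charP (ResidueField B)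
    rwa [hp] at this
  have hpprime : p.Prime := Fact.out
  -- Ssub is a p-group
  have hPG : IsPGroup p (Ssub hin) := by
    intro g
    obtain ⟨a, r', hr', hord⟩ := Nat.exists_eq_pow_mul_and_not_dvd (orderOf_pos (g : Γ)).ne' p
      hpprime.ne_one
    refine ⟨a, ?_⟩
    have hδ : (g : Γ) ^ p ^ a ∈ Ssub hin := (Ssub hin).pow_mem g.2 _
    have hordδ : orderOf ((g : Γ) ^ p ^ a) = r' := by
      rw [orderOf_pow' _ (pow_ne_zero _ hpprime.ne_zero), hord,
        Nat.gcd_eq_right (Dvd.intro _ rfl)]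
      exact Nat.mul_div_cancel_left _ (pow_pos hpprime.pos _)
    have h1 : (g : Γ) ^ p ^ a = 1 := by
      refine eq_one_of_mem_Ssub hin _ hδ ?_
      rw [hordδ, Ne, CharP.cast_eq_zero_iff (ResidueField B) p]
      exact hr'
    ext
    simpa using h1
  obtain ⟨Q, hQ⟩ := hPG.exists_le_sylow
  refine ⟨Q, ?_⟩
  ext γ
  simp only [SetLike.mem_coe]
  constructor
  · intro hγQ
    rw [mem_Ssub_iff_chi hin hst]
    intro b hb
    obtain ⟨a, ha⟩ := (IsPGroup.iff_orderOf.mp Q.2) ⟨γ, hγQ⟩
    have hγa : γ ^ p ^ a = 1 := by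
      have h2 := pow_orderOf_eq_one (⟨γ, hγQ⟩ : Q)
      rw [ha] at h2
      exact congrArg Subtype.val h2
    have h3 : chi hst γ b ^ p ^ a = 1 := by
      rw [← chi_pow hin hst γ _ hb, hγa, chi_one hst hb]
    have h4 : (chi hst γ b - 1) ^ p ^ a = 0 := by
      rw [sub_pow_char_pow, h3, one_pow, sub_self]
    exact sub_eq_zero.mp (pow_eq_zero_iff (pow_ne_zero _ hpprime.ne_zero) |>.mp h4)
  · intro hγ
    exact hQ hγ

include hin hst in
omit [Finite Γ] in
theorem commutator_mem (γ δ : Γ) : γ * δ * γ⁻¹ * δ⁻¹ ∈ Ssub hin := by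
  rw [mem_Ssub_iff_chi hin hst]
  intro b hb
  rw [chi_mul hin hst _ _ hb, chi_mul hin hst _ _ hb, chi_mul hin hst _ _ hb,
    chi_inv hin hst _ hb, chi_inv hin hst _ hb]
  have h1 : chi hst γ b ≠ 0 := by
    intro h0
    have := chi_mul hin hst γ γ⁻¹ hb
    rw [mul_inv_cancel, chi_one hst hb, h0, zero_mul] at this
    exact one_ne_zero this
  have h2 : chi hst δ b ≠ 0 := by
    intro h0
    have := chi_mul hin hst δ δ⁻¹ hb
    rw [mul_inv_cancel, chi_one hst hb, h0, zero_mul] at this
    exact one_ne_zero this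
  field_simp

include hin hst in
theorem exists_primitiveRoot (γ : Γ) (n : ℕ) (hn : 0 < n) (hγn : γ ^ n ∈ Ssub hin)
    (hmin : ∀ i : ℕ, 0 < i → i < n → γ ^ i ∉ Ssub hin) :
    ∃ ζ : ResidueField B, IsPrimitiveRoot ζ n := by
  classical
  haveI : NeZero n := ⟨hn.ne'⟩
  -- the roots of unity attached to non-zero elements
  have hroot : ∀ b : B, b ≠ 0 → chi hst γ b ^ n = 1 := by
    intro b hb
    rw [← chi_pow hin hst γ n hb]
    exact (mem_Ssub_iff_chi hin hst _).mp hγn b hb
  let z : {b : B // b ≠ 0} → rootsOfUnity n (ResidueField B) :=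
    fun b => rootsOfUnity.mkOfPowEq (chi hst γ b.1) (hroot b.1 b.2)
  let H : Subgroup (rootsOfUnity n (ResidueField B)) := Subgroup.closure (Set.range z)
  haveI : IsCyclic H := Subgroup.isCyclic H
  obtain ⟨h, hh⟩ := IsCyclic.exists_generator (α := H)
  set d := Nat.card H with hd
  have hdpos : 0 < d := Nat.card_pos
  have hordh : orderOf h = d := orderOf_eq_card_of_forall_mem_zpowers hh
  -- every chi value has d-th power one
  have hzd : ∀ b : {b : B // b ≠ 0}, chi hst γ b.1 ^ d = 1 := by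
    intro b
    have hzb : z b ∈ H := Subgroup.subset_closure ⟨b, rfl⟩
    have h1 : (⟨z b, hzb⟩ : H) ^ d = 1 := pow_card_eq_one'
    have h2 : (z b) ^ d = 1 := by
      have := congrArg Subtype.val h1
      simpa using this
    have h3 : (((z b : rootsOfUnity n (ResidueField B)) : (ResidueField B)ˣ) : ResidueField B) ^ d
        = 1 := by
      have := congrArg (fun t : rootsOfUnity n (ResidueField B) =>
        ((t : (ResidueField B)ˣ) : ResidueField B)) h2
      simpa using this
    rwa [rootsOfUnity.coe_mkOfPowEq] at h3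
  have hγd : γ ^ d ∈ Ssub hin := by
    rw [mem_Ssub_iff_chi hin hst]
    intro b hb
    rw [chi_pow hin hst γ d hb]
    exact hzd ⟨b, hb⟩
  have hdn : n ≤ d := by
    by_contra hlt
    exact hmin d hdpos (not_le.mp hlt) hγd
  -- d divides n
  have hdvd : d ∣ n := by
    rw [← hordh]
    apply orderOf_dvd_of_pow_eq_one
    have h1 : ((h : H) : rootsOfUnity n (ResidueField B)) ^ n = 1 := by
      have h2 := (h : rootsOfUnity n (ResidueField B)).2
      rw [mem_rootsOfUnity] at h2
      ext
      simpa using congrArg (fun t : (ResidueField B)ˣ => (t : ResidueField B)) h2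
    ext
    simpa using congrArg (fun t : rootsOfUnity n (ResidueField B) =>
      ((t : (ResidueField B)ˣ) : ResidueField B)) h1
  have hdeq : d = n := le_antisymm (Nat.le_of_dvd hn hdvd) hdn
  refine ⟨(((h : H) : rootsOfUnity n (ResidueField B)) : (ResidueField B)ˣ), ?_⟩
  rw [IsPrimitiveRoot.iff_orderOf, orderOf_units, Subgroup.orderOf_coe, Subgroup.orderOf_coe,
    hordh, hdeq]

end main

end Groth.Agent.Lib.InertiaStruct
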