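import Groth.Agent.Lib.AlgSpBasic_helper7
import Mathlib.AlgebraicGeometry.Morphisms.UniversallyOpen
import Mathlib.AlgebraicGeometry.Morphisms.UniversallyInjective

/-!
# Thickenings are universal homeomorphisms; transfer of topological properties (helper7)
-/

set_option autoImplicit false
universe u
open CategoryTheory CategoryTheory.Limits AlgebraicGeometry MorphismProperty

namespace Groth.Agent.Lib.Thickening_helper7

open Groth.Agent.Lib.AlgSpBasic_helper7

/-- A surjective closed immersion induces a homeomorphism. -/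
theorem isHomeomorph_of_thickening {X X' : Scheme.{u}} (i : X ⟶ X') [IsClosedImmersion i]
    [Surjective i] : IsHomeomorph i :=
  isHomeomorph_iff_isEmbedding_surjective.2 ⟨i.isClosedEmbedding.isEmbedding, i.surjective⟩

section Universally

variable (T : ∀ {α β : Type u} [TopologicalSpace α] [TopologicalSpace β], (α → β) → Prop)

/-- Post-composition with a thickening does not change `universally (topologically T)`. -/
theorem universally_comp_thickening_iff
    (hT₂ : ∀ {α β γ : Type u} [TopologicalSpace α] [TopologicalSpace β] [TopologicalSpace γ]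
      (a : α → β) (b : β → γ), IsHomeomorph b → (T (b ∘ a) ↔ T a))
    {X S S' : Scheme.{u}} (f : X ⟶ S) (iS : S ⟶ S') [IsClosedImmersion iS] [Surjective iS] :
    universally (topologically T) (f ≫ iS) ↔ universally (topologically T) f := by
  constructor
  · intro h P₀ T₀ i₁ i₂ f'' sq
    exact h _ _ _ ((isPullback_comp_mono_iff iS).2 sq)
  · intro h P₀ T₀ i₁ i₂ f'' sq
    let q := pullback.fst i₂ iS
    let r := pullback.snd i₂ iS
    let l : P₀ ⟶ pullback i₂ iS := pullback.lift f'' (i₁ ≫ f) (by rw [sq.w, Category.assoc])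
    have hl1 : l ≫ q = f'' := pullback.lift_fst _ _ _
    have hl2 : l ≫ r = i₁ ≫ f := pullback.lift_snd _ _ _
    have big : IsPullback (l ≫ q) i₁ i₂ (f ≫ iS) := by rw [hl1]; exact sq
    have sq' : IsPullback l i₁ r f := IsPullback.of_right big hl2 (IsPullback.of_hasPullback i₂ iS)
    have hTl : T l := h _ _ _ sq'
    have hq : IsHomeomorph q := isHomeomorph_of_thickening q
    show T f''
    have : (f'' : P₀ → T₀) = q ∘ l := by
      rw [← hl1, Scheme.Hom.comp_base, TopCat.coe_comp]
    rw [this]
    exact (hT₂ _ _ hq).2 hTl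

/-- Pre-composition with a thickening does not change `universally (topologically T)`. -/
theorem universally_thickening_comp_iff
    (hT₁ : ∀ {α β γ : Type u} [TopologicalSpace α] [TopologicalSpace β] [TopologicalSpace γ]
      (a : α → β) (b : β → γ), IsHomeomorph a → (T (b ∘ a) ↔ T b))
    {X X' S' : Scheme.{u}} (iX : X ⟶ X') (f' : X' ⟶ S') [IsClosedImmersion iX] [Surjective iX] :
    universally (topologically T) (iX ≫ f') ↔ universally (topologically T) f' := by
  constructor
  · intro h P₁ T₀ i₁ i₂ g sq
    let l := pullback.fst i₁ iX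
    let s := pullback.snd i₁ iX
    have sq1 : IsPullback s l iX i₁ := (IsPullback.of_hasPullback i₁ iX).flip
    have big : IsPullback (l ≫ g) s i₂ (iX ≫ f') := (sq1.paste_vert sq.flip).flip
    have hT : T (l ≫ g) := h _ _ _ big
    have hl : IsHomeomorph l := isHomeomorph_of_thickening l
    have : (⇑(l ≫ g)) = g ∘ l := by
      rw [Scheme.Hom.comp_base, TopCat.coe_comp]
    rw [this] at hT
    exact (hT₁ _ _ hl).1 hT
  · intro h P₀ T₀ i₁ i₂ f'' sq
    let g := pullback.fst i₂ f'
    let s := pullback.snd i₂ f'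
    let l : P₀ ⟶ pullback i₂ f' := pullback.lift f'' (i₁ ≫ iX) (by rw [sq.w, Category.assoc])
    have hl1 : l ≫ g = f'' := pullback.lift_fst _ _ _
    have hl2 : l ≫ s = i₁ ≫ iX := pullback.lift_snd _ _ _
    have big : IsPullback i₁ (l ≫ g) (iX ≫ f') i₂ := by rw [hl1]; exact sq.flip
    have sq' : IsPullback i₁ l iX s :=
      IsPullback.of_bot big hl2.symm (IsPullback.of_hasPullback i₂ f').flip
    haveI : IsClosedImmersion l := MorphismProperty.of_isPullback sq' inferInstance
    haveI : Surjective l := MorphismProperty.of_isPullback sq' inferInstance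
    have hl : IsHomeomorph l := isHomeomorph_of_thickening l
    have hTg : T g := h _ _ _ (IsPullback.of_hasPullback i₂ f')
    show T f''
    have : (f'' : P₀ → T₀) = g ∘ l := by
      rw [← hl1, Scheme.Hom.comp_base, TopCat.coe_comp]
    rw [this]
    exact (hT₁ _ _ hl).2 hTg

/-- Transfer of `universally (topologically T)` across a morphism of thickenings. -/
theorem universally_iff_of_thickenings
    (hT₁ : ∀ {α β γ : Type u} [TopologicalSpace α] [TopologicalSpace β] [TopologicalSpace γ]
      (a : α → β) (b : β → γ), IsHomeomorph a → (T (b ∘ a) ↔ T b))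
    (hT₂ : ∀ {α β γ : Type u} [TopologicalSpace α] [TopologicalSpace β] [TopologicalSpace γ]
      (a : α → β) (b : β → γ), IsHomeomorph b → (T (b ∘ a) ↔ T a))
    {X X' S S' : Scheme.{u}} (iX : X ⟶ X') (iS : S ⟶ S') (f : X ⟶ S) (f' : X' ⟶ S')
    [IsClosedImmersion iX] [Surjective iX] [IsClosedImmersion iS] [Surjective iS]
    (w : iX ≫ f' = f ≫ iS) :
    universally (topologically T) f ↔ universally (topologically T) f' := by
  rw [← universally_comp_thickening_iff T hT₂ f iS, ← w,
    universally_thickening_comp_iff T hT₁ iX f']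

end Universally

/-- Quasi-compactness transfers across a morphism of thickenings. -/
theorem quasiCompact_iff_of_thickenings {X X' S S' : Scheme.{u}} (iX : X ⟶ X') (iS : S ⟶ S')
    (f : X ⟶ S) (f' : X' ⟶ S') [IsClosedImmersion iX] [Surjective iX] [IsClosedImmersion iS]
    [Surjective iS] (w : iX ≫ f' = f ≫ iS) : QuasiCompact f ↔ QuasiCompact f' := by
  have hX := isHomeomorph_of_thickening iX
  have hS := isHomeomorph_of_thickening iS
  have hw : ∀ x, f' (iX x) = iS (f x) := fun x => by
    rw [← Scheme.Hom.comp_apply, w, Scheme.Hom.comp_apply]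
  constructor
  · intro h
    refine ⟨fun U' hU' hc => ?_⟩
    have h1 : IsCompact (f ⁻¹' (iS ⁻¹' U')) :=
      h.isCompact_preimage _ (hU'.preimage iS.continuous) (hS.homeomorph.isCompact_preimage.mpr hc)
    have h2 : f' ⁻¹' U' = iX '' (f ⁻¹' (iS ⁻¹' U')) := by
      ext x'
      constructor
      · intro hx'
        obtain ⟨x, rfl⟩ := iX.surjective x'
        refine ⟨x, ?_, rfl⟩
        show iS (f x) ∈ U'
        rw [← hw]; exact hx'
      · rintro ⟨x, hx, rfl⟩
        show f' (iX x) ∈ U'
        rw [hw]; exact hx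
    rw [h2]
    exact h1.image iX.continuous
  · intro h
    refine ⟨fun U hU hc => ?_⟩
    have h1 : IsCompact (f' ⁻¹' (iS '' U)) :=
      h.isCompact_preimage _ (hS.isOpenMap _ hU) (hc.image iS.continuous)
    have h2 : f ⁻¹' U = iX ⁻¹' (f' ⁻¹' (iS '' U)) := by
      ext x
      simp only [Set.mem_preimage]
      rw [hw]
      exact (hS.injective.mem_set_image).symm
    rw [h2]
    exact hX.homeomorph.isCompact_preimage.mpr h1

/-- Quasi-separatedness transfers across a morphism of thickenings. -/
theorem quasiSeparated_iff_of_thickenings {X X' S S' : Scheme.{u}} (iX : X ⟶ X') (iS : S ⟶ S')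
    (f : X ⟶ S) (f' : X' ⟶ S') [IsClosedImmersion iX] [Surjective iX] [IsClosedImmersion iS]
    [Surjective iS] (w : iX ≫ f' = f ≫ iS) : QuasiSeparated f ↔ QuasiSeparated f' := by
  constructor
  · intro h
    haveI : QuasiSeparated (iX ≫ f') := by rw [w]; infer_instance
    refine HasAffineProperty.of_iSup_eq_top (P := @QuasiSeparated)
      (fun U : S'.affineOpens => U) (iSup_affineOpens_eq_top S') (fun U => ?_)
    show QuasiSeparatedSpace ↥(f' ⁻¹ᵁ U.1)
    refine (isQuasiSeparated_iff_quasiSeparatedSpace _ (f' ⁻¹ᵁ U.1).2).mp ?_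
    have h1 : IsQuasiSeparated ((iX ≫ f') ⁻¹ᵁ U.1 : Set X) :=
      (iX ≫ f').isQuasiSeparated_preimage U.2.isQuasiSeparated
    have h2 : ((f' ⁻¹ᵁ U.1 : X'.Opens) : Set X') = iX '' ((iX ≫ f') ⁻¹ᵁ U.1 : Set X) := by
      ext x'
      constructor
      · intro hx'
        obtain ⟨x, rfl⟩ := iX.surjective x'
        exact ⟨x, by simpa using hx', rfl⟩
      · rintro ⟨x, hx, rfl⟩
        simpa using hx
    show IsQuasiSeparated ((f' ⁻¹ᵁ U.1 : X'.Opens) : Set X')
    rw [h2]
    exact h1.image_of_isEmbedding iX.isClosedEmbedding.isEmbedding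
  · intro h
    haveI : QuasiSeparated (f ≫ iS) := by rw [← w]; infer_instance
    exact QuasiSeparated.of_comp f iS

end Groth.Agent.Lib.Thickening_helper7
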