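import Groth.Agent.Lib.Nil3_helper8
import Groth.Agent.Lib.ThickeningTop_helper7
import Groth.Agent.S1304
import Groth.Agent.S1312

/-!
# Finite locally free morphisms over finite order thickenings with flat source (helper8)
-/

set_option autoImplicit false
universe u

open AlgebraicGeometry CategoryTheory CategoryTheory.Limits
open Groth.Agent.Lib.NilThick_helper6

namespace NilH8

/-- A morphism from a reduced scheme factors through any thickening of its target. -/
theorem exists_lift_of_isReduced {X X' T : Scheme.{u}} (iX : X ⟶ X') [IsClosedImmersion iX]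
    [Surjective iX] [IsReduced T] (g : T ⟶ X') : ∃ m : T ⟶ X, m ≫ iX = g := by
  have H : iX.ker ≤ g.ker := by
    change iX.ker ≤ Scheme.IdealSheafData.ofIdeals fun U => RingHom.ker (g.app U.1).hom
    rw [Scheme.IdealSheafData.le_ofIdeals_iff]
    intro U x hx
    rw [Scheme.Hom.ker_apply] at hx
    have hnil : IsNilpotent x := mem_nilradical.1 (ker_app_le_nilradical iX U hx)
    rw [RingHom.mem_ker]
    exact (hnil.map (g.app U.1).hom).eq_zero
  exact ⟨IsClosedImmersion.lift iX g H, IsClosedImmersion.lift_fac iX g H⟩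

variable {X X' Y Y' : Scheme.{u}} (iX : X ⟶ X') (iY : Y ⟶ Y') (f : X ⟶ Y) (f' : X' ⟶ Y')

theorem isSeparated_of_thickenings [IsClosedImmersion iX] [Surjective iX] [IsClosedImmersion iY]
    [Surjective iY] (w : iX ≫ f' = f ≫ iY) [IsSeparated f] : IsSeparated f' := by
  haveI : QuasiSeparated f' :=
    (Groth.Agent.Lib.Thickening_helper7.quasiSeparated_iff_of_thickenings iX iY f f' w).1
      inferInstance
  refine IsSeparated.of_valuativeCriterion f' (fun Sq => ⟨?_⟩)
  rintro ⟨l₁, hl₁, hl₁'⟩ ⟨l₂, hl₂, hl₂'⟩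
  haveI : IsReduced (Spec (CommRingCat.of Sq.R)) := inferInstance
  haveI : IsReduced (Spec (CommRingCat.of Sq.K)) := inferInstance
  obtain ⟨m₁, hm₁⟩ := exists_lift_of_isReduced iX l₁
  obtain ⟨m₂, hm₂⟩ := exists_lift_of_isReduced iX l₂
  obtain ⟨j₁, hj₁⟩ := exists_lift_of_isReduced iX Sq.i₁
  obtain ⟨j₂, hj₂⟩ := exists_lift_of_isReduced iY Sq.i₂
  have hc : CommSq j₁ (Spec.map (CommRingCat.ofHom (algebraMap Sq.R Sq.K))) f j₂ := by
    refine ⟨?_⟩
    rw [← cancel_mono iY, Category.assoc, ← w, ← Category.assoc, hj₁, Category.assoc, hj₂]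
    exact Sq.commSq.w
  obtain ⟨Sq', hSq'⟩ : ∃ Sq' : ValuativeCommSq f, Sq' = ⟨Sq.R, Sq.K, j₁, j₂, hc⟩ := ⟨_, rfl⟩
  have huniq := IsSeparated.valuativeCriterion f Sq'
  have h1 : Spec.map (CommRingCat.ofHom (algebraMap Sq.R Sq.K)) ≫ m₁ = j₁ := by
    rw [← cancel_mono iX, Category.assoc, hm₁, hj₁]; exact hl₁
  have h2 : Spec.map (CommRingCat.ofHom (algebraMap Sq.R Sq.K)) ≫ m₂ = j₁ := by
    rw [← cancel_mono iX, Category.assoc, hm₂, hj₁]; exact hl₂
  have h1' : m₁ ≫ f = j₂ := by
    rw [← cancel_mono iY, Category.assoc, ← w, ← Category.assoc, hm₁, hj₂]; exact hl₁'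
  have h2' : m₂ ≫ f = j₂ := by
    rw [← cancel_mono iY, Category.assoc, ← w, ← Category.assoc, hm₂, hj₂]; exact hl₂'
  subst hSq'
  have := huniq.elim ⟨m₁, h1, h1'⟩ ⟨m₂, h2, h2'⟩
  have hm : m₁ = m₂ := congrArg CommSq.LiftStruct.l this
  ext : 1
  change l₁ = l₂
  rw [← hm₁, ← hm₂, hm]

theorem isFinite_of_thickenings (hY : MoreMor.IsThickening iY) (hc : IsPullback iX f f' iY)
    [LocallyOfFiniteType f'] [IsFinite f] : IsFinite f' := by
  haveI := hY.1
  haveI := hY.2
  haveI : IsClosedImmersion iX :=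
    MorphismProperty.of_isPullback (P := @IsClosedImmersion) hc.flip inferInstance
  haveI : Surjective iX := MorphismProperty.of_isPullback (P := @Surjective) hc.flip inferInstance
  have hX : MoreMor.IsThickening iX := ⟨inferInstance, inferInstance⟩
  haveI : QuasiCompact f' :=
    (Groth.Agent.Lib.Thickening_helper7.quasiCompact_iff_of_thickenings iX iY f f' hc.w).1
      inferInstance
  haveI : IsSeparated f' := isSeparated_of_thickenings iX iY f f' hc.w
  haveI : UniversallyClosed f' :=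
    (Groth.Agent.S1304.result iX iY f f' hX hY hc.w).1 inferInstance
  haveI : IsProper f' := {}
  haveI : LocallyQuasiFinite f' := (Groth.Agent.S1312.result iX iY f f' hY hc).1 inferInstance
  exact IsFinite.of_isProper_of_locallyQuasiFinite f'

end NilH8
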