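import Mathlib
import Groth.Prelude
import Groth.Agent.Lib.Nil4_helper8

set_option autoImplicit false
universe u

open AlgebraicGeometry CategoryTheory CategoryTheory.Limits
open Groth.Agent.Lib.NilThick_helper6

namespace InfNbhdH8

variable {X Y : Scheme.{u}} (i : Y ⟶ X) [IsClosedImmersion i]

theorem surjective_toInfNbhd (n : ℕ) : Surjective (PrinPart.toInfNbhd i n) := by
  constructor
  intro z
  have h1 : (PrinPart.infNbhdι i n).base z ∈ Set.range i := by
    have h2 : (PrinPart.infNbhdι i n).base z ∈ Set.range (PrinPart.infNbhdι i n) := ⟨z, rfl⟩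
    rw [PrinPart.infNbhdι, Scheme.IdealSheafData.range_subschemeι,
      Scheme.IdealSheafData.support_pow_succ, Scheme.Hom.support_ker] at h2
    rwa [i.isClosedEmbedding.isClosed_range.closure_eq] at h2
  obtain ⟨y, hy⟩ := h1
  refine ⟨y, ?_⟩
  haveI : IsClosedImmersion (PrinPart.infNbhdι i n) := by
    rw [PrinPart.infNbhdι]; infer_instance
  apply (PrinPart.infNbhdι i n).isClosedEmbedding.injective
  rw [← Scheme.Hom.comp_apply, PrinPart.toInfNbhd_ι, hy]

theorem isFinite_infNbhd_comp (g : X ⟶ Y) [LocallyOfFiniteType g] (hf : i ≫ g = 𝟙 Y) (n : ℕ) :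
    IsFinite (PrinPart.infNbhdι i n ≫ g) := by
  haveI : IsClosedImmersion (PrinPart.infNbhdι i n) := by
    rw [PrinPart.infNbhdι]; infer_instance
  haveI := surjective_toInfNbhd i n
  have hcomp : PrinPart.toInfNbhd i n ≫ (PrinPart.infNbhdι i n ≫ g) = 𝟙 Y := by
    rw [← Category.assoc, PrinPart.toInfNbhd_ι, hf]
  haveI : IsClosedImmersion (PrinPart.toInfNbhd i n) := by
    haveI : IsClosedImmersion (PrinPart.toInfNbhd i n ≫ PrinPart.infNbhdι i n) := by
      rw [PrinPart.toInfNbhd_ι]; infer_instance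
    exact IsClosedImmersion.of_comp (PrinPart.toInfNbhd i n) (PrinPart.infNbhdι i n)
  haveI : UniversallyClosed (PrinPart.toInfNbhd i n ≫ (PrinPart.infNbhdι i n ≫ g)) := by
    rw [hcomp]; infer_instance
  haveI : UniversallyClosed (PrinPart.infNbhdι i n ≫ g) :=
    UniversallyClosed.of_comp_surjective (PrinPart.toInfNbhd i n) _
  haveI : UniversallyInjective (PrinPart.toInfNbhd i n ≫ (PrinPart.infNbhdι i n ≫ g)) := by
    rw [hcomp]; infer_instance
  haveI : UniversallyInjective (PrinPart.infNbhdι i n ≫ g) :=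
    universallyInjective_of_comp_surjective (PrinPart.toInfNbhd i n) _
  haveI : IsSeparated (PrinPart.infNbhdι i n ≫ g) :=
    NilH8.isSeparated_of_thickenings (PrinPart.toInfNbhd i n) (𝟙 Y) (𝟙 Y) _
      (by rw [hcomp, Category.comp_id])
  haveI : IsProper (PrinPart.infNbhdι i n ≫ g) := { }
  exact IsFinite.of_isProper_of_locallyQuasiFinite _

end InfNbhdH8
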