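import Mathlib
import Groth.Prelude
import Groth.Agent.Lib.ConormBC3_helper7
import Groth.Agent.Lib.Fpqc1_helper8

/-!
# Infinitesimal neighbourhoods and graded pieces under base change; finiteness of `Gr_n` (helper7)
APPEND-ONLY once landed.
-/

set_option autoImplicit false
set_option linter.style.haveILetI false

universe u

open CategoryTheory CategoryTheory.Limits AlgebraicGeometry Opposite TopologicalSpace
open AlgebraicGeometry.Scheme.Modules TensorProduct

namespace Groth.Agent.Lib.ConormBCH7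

section Main5952

theorem main5952 {Y X Y' X' : Scheme.{u}} (f : Y ⟶ X) [IsClosedImmersion f]
    (v : X' ⟶ X) (u : Y' ⟶ Y) (f' : Y' ⟶ X') (hsq : IsPullback u f' f v) (n : ℕ)
    (φ : (Scheme.Modules.pullback u).obj (PrinPart.grMod f n) ⟶ PrinPart.grMod f' n)
    (hφ : PrinPart.IsGrMap f' f v u n φ) : Epi φ := by
  haveI : IsClosedImmersion f' :=
    MorphismProperty.of_isPullback (P := @IsClosedImmersion) hsq inferInstance
  have hw : u ≫ f = f' ≫ v := hφ.1
  have hpb : IsPullback f' u v f := hsq.flip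
  refine Groth.Agent.Lib.OmegaCompat2H4.epi_of_surjective_basis φ (GoodBC f' f v)
    (exists_goodBC f' f v u hw) (fun W hWg => ?_)
  obtain ⟨U', U, hU', hV', hs', hU, hUU', rfl, hW, hs⟩ := hWg
  exact surjective_appJ f' f v u (f'.ker ^ n) (f.ker ^ n) hUU'
    (fun s' => exists_sec_pow f' f v u hw n hU' s') φ hφ.2 hw hU' hU hW hs
    (ideal_pow_eq f' f v u hw n hpb hUU' hU' hV' hs' hU)

end Main5952

section Main5951

/-- The pullback of the `m`-th power of the ideal of a closed immersion is the `m`-th power of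
the ideal of the base-changed closed immersion. -/
theorem comap_pow_ker {Y X Y' X' : Scheme.{u}} (f : Y ⟶ X) [IsClosedImmersion f]
    (v : X' ⟶ X) (u : Y' ⟶ Y) (f' : Y' ⟶ X') (hsq : IsPullback u f' f v) (m : ℕ) :
    (f.ker ^ m).comap v = f'.ker ^ m := by
  haveI : IsClosedImmersion f' :=
    MorphismProperty.of_isPullback (P := @IsClosedImmersion) hsq inferInstance
  have hw : u ≫ f = f' ≫ v := hsq.w
  have hpb : IsPullback f' u v f := hsq.flip
  let ι := {U : X'.Opens // IsAffineOpen U ∧ ∃ U' : X.Opens, IsAffineOpen U' ∧ U ≤ v ⁻¹ᵁ U'}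
  refine Scheme.IdealSheafData.ext_of_iSup_eq_top (ι := ι) (fun i => ⟨i.1, i.2.1⟩) ?_ ?_
  · rw [eq_top_iff]
    intro x _
    obtain ⟨U', hU', hxU', -⟩ :=
      exists_isAffineOpen_mem_and_subset (x := v x) (U := ⊤) trivial
    have hx : x ∈ v ⁻¹ᵁ U' := hxU'
    obtain ⟨U, hU, hxU, hUle⟩ := exists_isAffineOpen_mem_and_subset hx
    exact Opens.mem_iSup.mpr ⟨⟨U, hU, U', hU', hUle⟩, hxU⟩
  · rintro ⟨U, hU, U', hU', hUU'⟩
    have hpb2 : IsPullback (pullback.fst v (f.ker ^ m).subschemeι)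
        (pullback.snd v (f.ker ^ m).subschemeι) v (f.ker ^ m).subschemeι :=
      IsPullback.of_hasPullback _ _
    have hw2 : pullback.snd v (f.ker ^ m).subschemeι ≫ (f.ker ^ m).subschemeι =
        pullback.fst v (f.ker ^ m).subschemeι ≫ v := hpb2.w.symm
    have hV'2 : IsAffineOpen ((f.ker ^ m).subschemeι ⁻¹ᵁ U') := hU'.preimage _
    have hs'2 : Function.Surjective ((f.ker ^ m).subschemeι.app U').hom :=
      (f.ker ^ m).subschemeι.app_surjective U' hU'
    have k1 := ker_eq (pullback.fst v (f.ker ^ m).subschemeι) (f.ker ^ m).subschemeι v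
      (pullback.snd v (f.ker ^ m).subschemeι) hw2 hUU' hpb2 hU' hV'2 hs'2 hU
    have k2 : RingHom.ker ((f.ker ^ m).subschemeι.app U').hom = (f.ker ^ m).ideal ⟨U', hU'⟩ :=
      (f.ker ^ m).ker_subschemeι_app ⟨U', hU'⟩
    have k3 : ((f.ker ^ m).comap v).ideal ⟨U, hU⟩ =
        RingHom.ker ((pullback.fst v (f.ker ^ m).subschemeι).app U).hom :=
      Scheme.Hom.ker_apply (pullback.fst v (f.ker ^ m).subschemeι) ⟨U, hU⟩
    have k4 := ideal_pow_eq f' f v u hw m hpb hUU' hU' (hU'.preimage f)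
      (f.app_surjective U' hU') hU
    show ((f.ker ^ m).comap v).ideal ⟨U, hU⟩ = (f'.ker ^ m).ideal ⟨U, hU⟩
    rw [k3, k1, k2, k4]

theorem main5951 {Y X Y' X' : Scheme.{u}} (f : Y ⟶ X) [IsClosedImmersion f]
    (v : X' ⟶ X) (u : Y' ⟶ Y) (f' : Y' ⟶ X') (hsq : IsPullback u f' f v) (n : ℕ)
    (w : PrinPart.infNbhd f' n ⟶ PrinPart.infNbhd f n)
    (hw : w ≫ PrinPart.infNbhdι f n = PrinPart.infNbhdι f' n ≫ v) :
    IsPullback w (PrinPart.infNbhdι f' n) (PrinPart.infNbhdι f n) v := by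
  haveI : IsClosedImmersion (PrinPart.infNbhdι f n) := by
    unfold PrinPart.infNbhdι
    infer_instance
  haveI : IsClosedImmersion (PrinPart.infNbhdι f' n) := by
    unfold PrinPart.infNbhdι
    infer_instance
  have e1 : (PrinPart.infNbhdι f n).ker = f.ker ^ (n + 1) :=
    Scheme.IdealSheafData.ker_subschemeι _
  have e2 : (PrinPart.infNbhdι f' n).ker = f'.ker ^ (n + 1) :=
    Scheme.IdealSheafData.ker_subschemeι _
  have h' : (PrinPart.infNbhdι f n).ker.comap v = (PrinPart.infNbhdι f' n).ker := by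
    rw [e1, e2]
    exact comap_pow_ker f v u f' hsq (n + 1)
  exact (isPullback_of_isClosedImmersion (PrinPart.infNbhdι f' n) (PrinPart.infNbhdι f n) w v
    hw.symm h').flip

end Main5951

section Main5973

theorem ker_fg {A B : Type u} [CommRing A] [CommRing B] (φ : A →+* B)
    (hφ : φ.FinitePresentation) (hs : Function.Surjective φ) : (RingHom.ker φ).FG := by
  letI := φ.toAlgebra
  haveI : Algebra.FinitePresentation A B := hφ
  exact Algebra.FinitePresentation.ker_fG_of_surjective (Algebra.ofId A B) hs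

theorem main5973 {Y X : Scheme.{u}} (f : Y ⟶ X) [IsClosedImmersion f]
    [LocallyOfFinitePresentation f] (n : ℕ) : Coh.IsCoh (PrinPart.grMod f n) := by
  haveI qc : (ClSub.idealMod (f.ker ^ n)).IsQuasicoherent :=
    Groth.Agent.Lib.OmegaAffH4.isQuasicoherent_idealMod _
  haveI ft : SheafOfModules.IsFiniteType (R := X.ringCatSheaf) (ClSub.idealMod (f.ker ^ n)) := by
    let ι := {U : X.Opens // IsAffineOpen U}
    refine QCohCrit.isFiniteType_of_sections_cover _ (fun i : ι => i.1) (fun i => i.2) ?_ ?_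
    · rw [eq_top_iff]
      intro x _
      obtain ⟨U, hU, hxU, -⟩ := exists_isAffineOpen_mem_and_subset (x := x) (U := ⊤) trivial
      exact Opens.mem_iSup.mpr ⟨⟨U, hU⟩, hxU⟩
    · rintro ⟨U, hU⟩
      have hfg : ((f.ker ^ n).ideal ⟨U, hU⟩).FG := by
        have h0 : (f.ker ^ n).ideal ⟨U, hU⟩ = (f.ker.ideal ⟨U, hU⟩) ^ n := rfl
        rw [h0, Scheme.Hom.ker_apply]
        refine Ideal.FG.pow ?_
        have e : f.appLE U (f ⁻¹ᵁ U) le_rfl = f.app U := f.appLE_eq_app
        have hfp := f.finitePresentation_appLE hU (hU.preimage f) le_rfl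
        rw [e] at hfp
        exact ker_fg _ hfp (f.app_surjective U hU)
      haveI : Module.Finite Γ(X, U) ((f.ker ^ n).ideal ⟨U, hU⟩) := Module.Finite.of_fg hfg
      exact Module.Finite.equiv (Groth.Agent.Lib.OmegaAffH4.idealModEquiv (f.ker ^ n) hU).symm
  refine ⟨?_, ?_⟩
  · show SheafOfModules.IsQuasicoherent
      ((Scheme.Modules.pullback f).obj (ClSub.idealMod (f.ker ^ n)))
    infer_instance
  · exact FpqcH8.isFiniteType_pullback f (ClSub.idealMod (f.ker ^ n))

end Main5973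

end Groth.Agent.Lib.ConormBCH7
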