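import Groth.Agent.Lib.AlgSpThickBC_helper7
import Groth.Agent.Lib.Thickening4_helper7
import Groth.Agent.Lib.AlgSpDescent2_helper7
import Groth.Agent.Lib.AlgSpOpen_helper7
import Groth.Agent.Lib.AlgSpThick_helper7
import Groth.Agent.Lib.AlgSpTop_helper7

/-!
# The first order infinitesimal neighbourhood is a universal first order thickening (helper7)
-/

set_option autoImplicit false
set_option linter.style.haveILetI false

universe u

open CategoryTheory CategoryTheory.Limits AlgebraicGeometry Opposite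
open AlgSp Groth.Agent.Lib.AlgSpPullback_helper7 Groth.Agent.Lib.AlgSpQC_helper7
  Groth.Agent.Lib.AlgSpPoints_helper7 Groth.Agent.Lib.AlgSpDescent_helper7
  Groth.Agent.Lib.AlgSpDescent2_helper7 Groth.Agent.Lib.AlgSpThickBC_helper7
  Groth.Agent.Lib.Thickening4_helper7 Groth.Agent.Lib.Thickening3_helper7
  Groth.Agent.Lib.AlgSpUniv_helper7 Groth.Agent.Lib.AlgSpThick_helper7
  Groth.Agent.Lib.AlgSpTop_helper7 Groth.Agent.Lib.AlgSpOpen_helper7
  Groth.Agent.Lib.AlgSpBasic_helper7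

namespace Groth.Agent.Lib.InfNbhdUnivH7

/-! ### Scheme level lemmas -/

section Sch

/-- An equality `ker t₁ = (ker t) ^ n` of kernel ideal sheaves can be checked on the affine opens
of the target. -/
lemma ker_eq_pow_of_forall_affine {T T₁ T' : Scheme.{u}} (t : T ⟶ T') (t₁ : T₁ ⟶ T')
    [QuasiCompact t] [QuasiCompact t₁] {n : ℕ}
    (h : ∀ O : T'.affineOpens, (t₁ ∣_ O.1).ker = (t ∣_ O.1).ker ^ n) : t₁.ker = t.ker ^ n := by
  refine Scheme.IdealSheafData.ext_of_iSup_eq_top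
    (fun O : T'.affineOpens => (⟨O.1.ι ''ᵁ ⊤,
      (isAffineOpen_top (↑O.1 : Scheme)).image_of_isOpenImmersion O.1.ι⟩ : T'.affineOpens)) ?_ ?_
  · rw [eq_top_iff]
    intro x _
    obtain ⟨_, ⟨U, hU, rfl⟩, hxU, -⟩ :=
      T'.isBasis_affineOpens.exists_subset_of_mem_open (Set.mem_univ x) isOpen_univ
    refine TopologicalSpace.Opens.mem_iSup.2 ⟨⟨U, hU⟩, ?_⟩
    have hmem : x ∈ (Scheme.Opens.ι (U : T'.Opens)) ''ᵁ ⊤ := by
      rw [Scheme.Opens.ι_image_top]
      exact hxU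
    exact hmem
  · intro O
    have hk := Scheme.ker_ideal_of_isPullback_of_isOpenImmersion t (t ∣_ O.1) (t ⁻¹ᵁ O.1).ι O.1.ι
      (isPullback_morphismRestrict t O.1) ⟨⊤, isAffineOpen_top _⟩
    have hk₁ := Scheme.ker_ideal_of_isPullback_of_isOpenImmersion t₁ (t₁ ∣_ O.1) (t₁ ⁻¹ᵁ O.1).ι
      O.1.ι (isPullback_morphismRestrict t₁ O.1) ⟨⊤, isAffineOpen_top _⟩
    have h1 := congrArg (fun J : (↑O.1 : Scheme).IdealSheafData =>
      J.ideal ⟨⊤, isAffineOpen_top _⟩) (h O)
    simp only [Scheme.IdealSheafData.ideal_pow, Pi.pow_apply] at h1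
    rw [hk, hk₁] at h1
    have hsurj : Function.Surjective (O.1.ι.appIso ⊤).inv.hom :=
      (ConcreteCategory.bijective_of_isIso (O.1.ι.appIso ⊤).inv).2
    have h2 := congrArg (Ideal.map (O.1.ι.appIso ⊤).inv.hom) h1
    rw [Ideal.map_pow, Ideal.map_comap_of_surjective _ hsurj,
      Ideal.map_comap_of_surjective _ hsurj] at h2
    rw [Scheme.IdealSheafData.ideal_pow, Pi.pow_apply]
    exact h2

/-- If `W ⟶ W₁ ⟶ V` are closed immersions and the ideal of `W₁` is the square of the ideal of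
`W`, then `W ⟶ W₁` is a first order thickening. -/
lemma fot_of_ker_eq_sq {W W₁ V : Scheme.{u}} (l : W ⟶ W₁) (p₁ : W₁ ⟶ V) (p₀ : W ⟶ V)
    [IsClosedImmersion p₁] [IsClosedImmersion p₀] (hl : l ≫ p₁ = p₀)
    (hk : p₁.ker = p₀.ker ^ (1 + 1)) : MoreMor.IsFirstOrderThickening l := by
  haveI : IsClosedImmersion (l ≫ p₁) := by rw [hl]; infer_instance
  haveI : IsClosedImmersion l := IsClosedImmersion.of_comp_isClosedImmersion l p₁
  refine ⟨⟨inferInstance, ⟨?_⟩⟩, ?_⟩
  · intro z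
    have hz : p₁ z ∈ Set.range p₀ := by
      have h1 : p₁ z ∈ (p₁.ker.support : Set V) := by
        rw [Scheme.Hom.support_ker]
        exact subset_closure ⟨z, rfl⟩
      rw [hk, Scheme.IdealSheafData.support_pow _ (1 + 1) (by norm_num), Scheme.Hom.support_ker,
        p₀.isClosedEmbedding.isClosed_range.closure_eq] at h1
      exact h1
    obtain ⟨y, hy⟩ := hz
    refine ⟨y, p₁.isClosedEmbedding.injective ?_⟩
    have h3 : (l ≫ p₁) y = p₀ y := by rw [hl]
    exact ((Scheme.Hom.comp_apply _ _ _).symm.trans h3).trans hy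
  · apply ker_mul_ker_eq_bot_of_comp l p₁
    exact le_of_eq (by rw [hl, hk, pow_succ, pow_one])

theorem descendsEtale_surjective : DescendsEtale @Surjective := by
  intro X Y Y' X' f π fst f' sq _ hπ h
  refine ⟨fun y => ?_⟩
  obtain ⟨y', rfl⟩ := hπ.surj y
  obtain ⟨x', rfl⟩ := h.surj y'
  exact ⟨fst x', (Scheme.Hom.comp_apply fst f x').symm.trans
    ((congrArg (fun g : X' ⟶ Y => g x') sq.w).trans (Scheme.Hom.comp_apply f' π x'))⟩

end Sch

variable {S : Scheme.{u}}

/-! ### Sheaf level lemmas -/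

lemma isPullback_mono_comp {A B C : Sp S} (b : A ⟶ B) (k : B ⟶ C) [Mono k] :
    IsPullback b (𝟙 A) k (b ≫ k) :=
  ⟨⟨by simp⟩, ⟨PullbackCone.IsLimit.mk _ (fun s => s.snd)
    (fun s => by
      rw [← cancel_mono k, Category.assoc]
      exact s.condition.symm)
    (fun s => by simp)
    (fun s m _ h2 => by simpa using h2)⟩⟩

theorem representable_of_comp_mono {A B C : Sp S} (j : A ⟶ B) (k : B ⟶ C) [Mono k]
    (h : Representable (j ≫ k)) : Representable j := by
  intro V b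
  obtain ⟨W, snd, fst, sq⟩ := h (b ≫ k)
  refine ⟨W, snd, fst, ?_⟩
  have hw : fst ≫ j = (yon S).map snd ≫ b := by
    rw [← cancel_mono k, Category.assoc, sq.w, Category.assoc]
  have s : IsPullback fst ((yon S).map snd ≫ 𝟙 _) (j ≫ k) (b ≫ k) := by
    rw [Category.comp_id]
    exact sq
  exact IsPullback.of_bot s hw (isPullback_mono_comp b k)

/-- Variant of `powZero_of_isPullback`: the thickening order can be read off a single étale
surjective chart. -/
theorem powZero_of_chart {W W' : Sp S} {j : W ⟶ W'} (hthick : IsThickMor j) {n : ℕ}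
    {U WU : Over S} (p : (yon S).obj U ⟶ W') (hpe : RepWith @Etale p)
    (hps : RepWith @Surjective p) (fstU : (yon S).obj WU ⟶ W) (sndU : WU ⟶ U)
    (hpbU : IsPullback fstU ((yon S).map sndU) j p) (hjU : powZero n sndU.left)
    {V W₀ : Over S} (c : (yon S).obj V ⟶ W') (fst : (yon S).obj W₀ ⟶ W) (snd : W₀ ⟶ V)
    (hpb : IsPullback fst ((yon S).map snd) j c) : powZero n snd.left := by
  have hthU : thick sndU.left := hthick.property _ _ _ hpbU
  haveI : IsClosedImmersion sndU.left := hthU.1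
  have hjU' : sndU.left.ker ^ (n + 1) = ⊥ := hjU
  have hpb₁ : IsPullback (hpe.rep.fst c) ((yon S).map (hpe.rep.snd c)) p c := hpe.rep.isPullback c
  haveI he_et : Etale (hpe.rep.snd c).left := hpe.property_snd c
  haveI he_surj : Surjective (hpe.rep.snd c).left := hps.property c _ _ hpb₁
  obtain ⟨c₁', hc₁'⟩ := (yon S).map_surjective (hpe.rep.fst c)
  have hsq₁ : IsPullback (pullback.snd sndU.left c₁'.left)
      (pullback.fst sndU.left c₁'.left) c₁'.left sndU.left :=
    (IsPullback.of_hasPullback sndU.left c₁'.left).flip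
  have hj₁ : (pullback.snd sndU.left c₁'.left).ker ^ (n + 1) = ⊥ :=
    ker_pow_of_isPullback sndU.left c₁'.left _ _ hsq₁ hjU'
  have hcond : pullback.fst sndU.left c₁'.left ≫ sndU.left =
      pullback.snd sndU.left c₁'.left ≫ c₁'.left := pullback.condition
  have hk₁w : pullback.fst sndU.left c₁'.left ≫ WU.hom =
      pullback.snd sndU.left c₁'.left ≫ (hpe.rep.pullback c).hom := by
    rw [← Over.w sndU, ← Category.assoc, hcond, Category.assoc, Over.w c₁']
  let W₁' : Over S :=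
    Over.mk (pullback.snd sndU.left c₁'.left ≫ (hpe.rep.pullback c).hom)
  let j₁' : W₁' ⟶ hpe.rep.pullback c :=
    Over.homMk (pullback.snd sndU.left c₁'.left) rfl
  let k₁' : W₁' ⟶ WU :=
    Over.homMk (pullback.fst sndU.left c₁'.left) hk₁w
  have hkj : k₁' ≫ sndU = j₁' ≫ c₁' := by
    ext
    exact hcond
  have comm : ((yon S).map k₁' ≫ fstU) ≫ j =
      (yon S).map (j₁' ≫ hpe.rep.snd c) ≫ c := by
    rw [Category.assoc, hpbU.w, ← Category.assoc, ← Functor.map_comp, hkj, Functor.map_comp,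
      Category.assoc, hc₁', hpb₁.w, ← Category.assoc, ← Functor.map_comp]
  obtain ⟨k', hk'⟩ := (yon S).map_surjective (hpb.lift _ _ comm)
  have hk'snd : k' ≫ snd = j₁' ≫ hpe.rep.snd c := (yon S).map_injective (by
    rw [Functor.map_comp, hk', hpb.lift_snd])
  have hkl : pullback.snd sndU.left c₁'.left ≫ (hpe.rep.snd c).left =
      k'.left ≫ snd.left := by
    have := congrArg (fun m => m.left) hk'snd
    exact this.symm
  have hthk : thick snd.left := hthick.property c fst snd hpb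
  haveI : IsClosedImmersion snd.left := hthk.1
  exact ker_pow_eq_bot_of_flat_surjective snd.left (hpe.rep.snd c).left _ k'.left hkl hj₁

/-- The defining ideal identity of an infinitesimal neighbourhood holds on every étale chart (not
only the affine ones). -/
theorem ker_eq_of_isInfNbhd {n : ℕ} {Z Zn X : Sp S} {i : Z ⟶ X} {j : Z ⟶ Zn} {k : Zn ⟶ X}
    (hN : IsInfNbhd n i j k) {V W Wn : Over S} (b : (yon S).obj V ⟶ X) (hb : RepWith @Etale b)
    (fst : (yon S).obj W ⟶ Z) (snd : W ⟶ V) (fstn : (yon S).obj Wn ⟶ Zn) (sndn : Wn ⟶ V)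
    (sq : IsPullback fst ((yon S).map snd) i b) (sqn : IsPullback fstn ((yon S).map sndn) k b) :
    sndn.left.ker = snd.left.ker ^ (n + 1) := by
  haveI : IsClosedImmersion snd.left := hN.2.1.property _ _ _ sq
  haveI : IsClosedImmersion sndn.left := hN.2.2.1.property _ _ _ sqn
  refine ker_eq_pow_of_forall_affine snd.left sndn.left (fun O => ?_)
  have hres : IsPullback (snd.left ∣_ O.1) (snd.left ⁻¹ᵁ O.1).ι O.1.ι snd.left :=
    isPullback_morphismRestrict _ _
  have hresn : IsPullback (sndn.left ∣_ O.1) (sndn.left ⁻¹ᵁ O.1).ι O.1.ι sndn.left :=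
    isPullback_morphismRestrict _ _
  have sqO := isPullback_of_scheme_isPullback sq hres
  have sqOn := isPullback_of_scheme_isPullback sqn hresn
  have hO_et : RepWith @Etale
      ((yon S).map (Over.homMk O.1.ι rfl : Over.mk (O.1.ι ≫ V.hom) ⟶ V) ≫ b) :=
    repWith_comp _ ((repWith_yon_map_iff @Etale _).2 (inferInstance : Etale O.1.ι)) hb
  have hOaff : IsAffine (Over.mk (O.1.ι ≫ V.hom)).left := O.2
  have key := hN.2.2.2 _ _ _ _ _ hOaff hO_et sqO sqOn
  exact key

/-- `Z ⟶ Z₁` is a first order thickening when `Z₁` is the first order infinitesimal neighbourhood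
of `Z` in an algebraic space. -/
theorem isFOThickMor_of_isInfNbhd {Z U Z₁ : Sp S} (hU : IsAlgSpace U) {c : Z ⟶ U}
    {j : Z ⟶ Z₁} {k : Z₁ ⟶ U} (hN : IsInfNbhd 1 c j k) : IsFOThickMor j := by
  have hc := hN.2.1
  have hk := hN.2.2.1
  haveI : Mono k := mono_of_repWith_le_mono
    (fun _ _ g (hg : IsClosedImmersion g) => (inferInstance : Mono g)) k hk
  obtain ⟨U₀, p, hpe, hps⟩ := hU.atlas
  obtain ⟨W, p₀, f₀, sq₀⟩ : ∃ (W : Over S) (p₀ : W ⟶ U₀) (f₀ : (yon S).obj W ⟶ Z),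
      IsPullback f₀ ((yon S).map p₀) c p := ⟨_, _, _, hc.rep.isPullback p⟩
  obtain ⟨W₁, p₁, f₁, sq₁⟩ : ∃ (W₁ : Over S) (p₁ : W₁ ⟶ U₀) (f₁ : (yon S).obj W₁ ⟶ Z₁),
      IsPullback f₁ ((yon S).map p₁) k p := ⟨_, _, _, hk.rep.isPullback p⟩
  haveI : IsClosedImmersion p₀.left := hc.property _ _ _ sq₀
  haveI : IsClosedImmersion p₁.left := hk.property _ _ _ sq₁
  have hker : p₁.left.ker = p₀.left.ker ^ (1 + 1) :=
    ker_eq_of_isInfNbhd hN p hpe f₀ p₀ f₁ p₁ sq₀ sq₁
  have comm : (f₀ ≫ j) ≫ k = (yon S).map p₀ ≫ p := by rw [Category.assoc, hN.1, sq₀.w]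
  obtain ⟨l, hl⟩ := (yon S).map_surjective (sq₁.lift _ _ comm)
  have hlp : l ≫ p₁ = p₀ := (yon S).map_injective (by
    rw [Functor.map_comp, hl, sq₁.lift_snd])
  have hlf : (yon S).map l ≫ f₁ = f₀ ≫ j := by rw [hl, sq₁.lift_fst]
  have sqL : IsPullback f₀ ((yon S).map l) j f₁ := by
    have s : IsPullback f₀ ((yon S).map l ≫ (yon S).map p₁) (j ≫ k) p := by
      rw [← Functor.map_comp, hlp, hN.1]
      exact sq₀
    exact IsPullback.of_bot s hlf.symm sq₁
  have hfot : MoreMor.IsFirstOrderThickening l.left :=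
    fot_of_ker_eq_sq l.left p₁.left p₀.left (by rw [← Over.comp_left, hlp]) hker
  have hf₁e : RepWith @Etale f₁ := repWith_fst_of_isPullback _ sq₁ hpe
  have hf₁s : RepWith @Surjective f₁ := repWith_fst_of_isPullback _ sq₁ hps
  have hjrep : Representable j := representable_of_comp_mono j k (by rw [hN.1]; exact hc.rep)
  have hthick : IsThickMor j := repWith_of_chart thick
    (descendsEtale_inf descendsEtale_isClosedImmersion descendsEtale_surjective) j hjrep f₁
    hf₁e hf₁s f₀ l sqL hfot.1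
  refine ⟨hthick, ?_⟩
  intro V W₀ b fst snd _ _ hpb
  exact (powZero_one_iff _).1 (powZero_of_chart hthick f₁ hf₁e hf₁s f₀ l sqL
    ((powZero_one_iff _).2 hfot.2) b fst snd hpb)

/-! ### S10635 -/

theorem main10635 {Z U X Z₁ : Sp S} (hU : IsAlgSpace U) {c : Z ⟶ U} (u : U ⟶ X)
    (hu : RepWith @IsOpenImmersion u) {j : Z ⟶ Z₁} {k : Z₁ ⟶ U} (hN : IsInfNbhd 1 c j k) :
    IsUnivFOThick (c ≫ u) j (k ≫ u) := by
  have hc := hN.2.1
  have hk := hN.2.2.1
  haveI : Mono k := mono_of_repWith_le_mono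
    (fun _ _ g (hg : IsClosedImmersion g) => (inferInstance : Mono g)) k hk
  haveI : Mono u := mono_of_repWith_le_mono
    (fun _ _ g (hg : IsOpenImmersion g) => (inferInstance : Mono g)) u hu
  refine ⟨isFOThickMor_of_isInfNbhd hU hN, by rw [← Category.assoc, hN.1], ?_⟩
  intro T T' hT hT' t a b ht hw
  have hjk : (a ≫ j) ≫ k ≫ u = a ≫ c ≫ u := by
    rw [Category.assoc, ← Category.assoc j k u, hN.1]
  suffices h : ∃ a' : T' ⟶ Z₁, a' ≫ (k ≫ u) = b by
    obtain ⟨a', ha'⟩ := h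
    refine ⟨a', ⟨?_, ha'⟩, fun a₂ h2 => ?_⟩
    · rw [← cancel_mono (k ≫ u), Category.assoc, ha', hw, hjk]
    · rw [← cancel_mono (k ≫ u), h2.2, ha']
  -- `b` factors through the open subspace `U`
  have hth : IsThickMor t := ht.1
  obtain ⟨bU, hbU⟩ := (factors_iff_of_openImmersion u hu b).2 (by
    rintro _ ⟨y', rfl⟩
    obtain ⟨y, rfl⟩ := (isHomeomorph_map_of_isThickMor t hth).surjective y'
    refine ⟨Points.map (a ≫ c) y, ?_⟩
    rw [← Points.map_comp, ← Points.map_comp, hw, Category.assoc])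
  have hwU : t ≫ bU = a ≫ c := by
    rw [← cancel_mono u, Category.assoc, hbU, hw, Category.assoc]
  suffices h : ∃ a' : T' ⟶ Z₁, a' ≫ k = bU by
    obtain ⟨a', ha'⟩ := h
    exact ⟨a', by rw [← Category.assoc, ha', hbU]⟩
  -- it suffices that the pullback of `k` along `bU` is an isomorphism
  have sqP := IsPullback.of_hasPullback bU k
  suffices hiso : IsIso (pullback.fst bU k) by
    exact ⟨inv (pullback.fst bU k) ≫ pullback.snd bU k, by
      rw [Category.assoc, ← pullback.condition, IsIso.inv_hom_id_assoc]⟩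
  apply isIso_of_repWith_isomorphisms
  have hprci : RepWith @IsClosedImmersion (pullback.fst bU k) :=
    repWith_fst_of_isPullback _ sqP hk
  -- charts
  obtain ⟨W', q, hqe, hqs⟩ := hT'.atlas
  obtain ⟨U₀, p, hpe, hps⟩ := hU.atlas
  obtain ⟨W'', e, β, sqβ⟩ : ∃ (W'' : Over S) (e : W'' ⟶ W') (β : W'' ⟶ U₀),
      IsPullback ((yon S).map β) ((yon S).map e) p (q ≫ bU) :=
    ⟨_, _, _, hpe.rep.isPullback' (q ≫ bU)⟩
  haveI he_et : Etale e.left := hpe.property _ _ _ sqβ
  haveI he_surj : Surjective e.left := hps.property _ _ _ sqβ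
  obtain ⟨q'', hq''⟩ : ∃ q'' : (yon S).obj W'' ⟶ T', q'' = (yon S).map e ≫ q := ⟨_, rfl⟩
  have hq''e : RepWith @Etale q'' := by
    rw [hq'']
    exact repWith_comp _ ((repWith_yon_map_iff @Etale e).2 he_et) hqe
  have hq''s : RepWith @Surjective q'' := by
    rw [hq'']
    exact repWith_comp _ ((repWith_yon_map_iff @Surjective e).2 he_surj) hqs
  have hβ : (yon S).map β ≫ p = q'' ≫ bU := by rw [sqβ.w, hq'', Category.assoc]
  -- the thickening over the chart
  obtain ⟨W₀, t'', f'', sqT⟩ : ∃ (W₀ : Over S) (t'' : W₀ ⟶ W'') (f'' : (yon S).obj W₀ ⟶ T),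
      IsPullback f'' ((yon S).map t'') t q'' := ⟨_, _, _, hth.rep.isPullback q''⟩
  have hfot : MoreMor.IsFirstOrderThickening t''.left :=
    fot_of_isPullback_FOThick hT' ht q'' f'' t'' sqT
  haveI : IsClosedImmersion t''.left := hfot.1.1
  -- the closed subschemes of the atlas of `U`
  obtain ⟨V₀, p₀, f₀, sq₀⟩ : ∃ (V₀ : Over S) (p₀ : V₀ ⟶ U₀) (f₀ : (yon S).obj V₀ ⟶ Z),
      IsPullback f₀ ((yon S).map p₀) c p := ⟨_, _, _, hc.rep.isPullback p⟩
  obtain ⟨V₁, p₁, f₁, sq₁⟩ : ∃ (V₁ : Over S) (p₁ : V₁ ⟶ U₀) (f₁ : (yon S).obj V₁ ⟶ Z₁),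
      IsPullback f₁ ((yon S).map p₁) k p := ⟨_, _, _, hk.rep.isPullback p⟩
  haveI : IsClosedImmersion p₀.left := hc.property _ _ _ sq₀
  haveI : IsClosedImmersion p₁.left := hk.property _ _ _ sq₁
  have hker : p₁.left.ker = p₀.left.ker ^ (1 + 1) :=
    ker_eq_of_isInfNbhd hN p hpe f₀ p₀ f₁ p₁ sq₀ sq₁
  -- the thickened chart maps into `V(I)`
  have comm₀ : (f'' ≫ a) ≫ c = (yon S).map (t'' ≫ β) ≫ p := by
    rw [Category.assoc, ← hwU, ← Category.assoc, sqT.w, Category.assoc, ← hβ, Functor.map_comp,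
      Category.assoc]
  obtain ⟨a₀, ha₀⟩ := (yon S).map_surjective (sq₀.lift _ _ comm₀)
  have ha₀p : a₀ ≫ p₀ = t'' ≫ β := (yon S).map_injective (by
    rw [Functor.map_comp, ha₀, sq₀.lift_snd])
  have hJ : p₀.left.ker ≤ (t''.left ≫ β.left).ker := by
    have h1 : t''.left ≫ β.left = a₀.left ≫ p₀.left := by
      rw [← Over.comp_left, ← Over.comp_left, ha₀p]
    rw [h1]
    exact Scheme.Hom.le_ker_comp _ _
  have h2 : p₀.left.ker ^ (1 + 1) ≤ β.left.ker :=
    pow_le_ker_of_le_ker_comp t''.left (by rw [pow_succ, pow_one]; exact hfot.2) β.left _ hJ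
  have hle : p₁.left.ker ≤ β.left.ker := by
    rw [hker]
    exact h2
  have hγ : IsClosedImmersion.lift p₁.left β.left hle ≫ p₁.left = β.left :=
    IsClosedImmersion.lift_fac _ _ _
  obtain ⟨γ, hγ'⟩ : ∃ γ : W'' ⟶ V₁, γ ≫ p₁ = β := by
    refine ⟨Over.homMk (IsClosedImmersion.lift p₁.left β.left hle) ?_, ?_⟩
    · rw [← Over.w p₁, ← Category.assoc, hγ, Over.w β]
    · ext
      exact hγ
  -- the base change of the pullback to the chart
  obtain ⟨P'', l'', g'', sqL⟩ : ∃ (P'' : Over S) (l'' : P'' ⟶ W'')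
      (g'' : (yon S).obj P'' ⟶ pullback bU k),
      IsPullback g'' ((yon S).map l'') (pullback.fst bU k) q'' :=
    ⟨_, _, _, hprci.rep.isPullback q''⟩
  haveI hl''ci : IsClosedImmersion l''.left := hprci.property _ _ _ sqL
  have comm₁ : q'' ≫ bU = ((yon S).map γ ≫ f₁) ≫ k := by
    rw [Category.assoc, sq₁.w, ← Category.assoc, ← Functor.map_comp, hγ', hβ]
  have comm₂ : sqP.lift q'' ((yon S).map γ ≫ f₁) comm₁ ≫ pullback.fst bU k =
      𝟙 ((yon S).obj W'') ≫ q'' := by
    rw [sqP.lift_fst, Category.id_comp]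
  obtain ⟨σ, hσ⟩ := (yon S).map_surjective (sqL.lift _ _ comm₂)
  have hσl : σ ≫ l'' = 𝟙 W'' := (yon S).map_injective (by
    rw [Functor.map_comp, hσ, sqL.lift_snd, CategoryTheory.Functor.map_id])
  have h1 : σ.left ≫ l''.left = 𝟙 W''.left := by
    rw [← Over.comp_left, hσl]
    rfl
  have h2' : l''.left ≫ σ.left = 𝟙 P''.left := by
    rw [← cancel_mono l''.left, Category.assoc, h1, Category.comp_id, Category.id_comp]
  have hiso : IsIso l''.left := ⟨⟨σ.left, h2', h1⟩⟩
  exact repWith_of_chart (MorphismProperty.isomorphisms Scheme.{u})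
    (descendsEtale_of_descendsAlong _) (pullback.fst bU k) hprci.rep q'' hq''e hq''s g'' l'' sqL
    hiso

end Groth.Agent.Lib.InfNbhdUnivH7
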