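import Mathlib

set_option autoImplicit false
universe u
open CategoryTheory groupCohomology Rep

namespace Groth.Agent.Lib.InflRetr

variable {k G : Type u} [CommRing k] [Group G] (A : Rep.{u} k G) (P : Subgroup G) [P.Normal]

theorem inv_aux (x : cocycles₁ A) (y : A) (h2 : ∀ s ∈ P, x s = A.ρ s y - y) (g : G) (s : G)
    (hs : s ∈ P) : A.ρ s (x g - A.ρ g y + y) = x g - A.ρ g y + y := by
  have h1 := (mem_cocycles₁_iff x).1 x.2
  have ht : g⁻¹ * s * g ∈ P := Subgroup.Normal.conj_mem' ‹_› _ hs _
  have e1 := h1 s g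
  have e2 := h1 g (g⁻¹ * s * g)
  have e3 : g * (g⁻¹ * s * g) = s * g := by group
  have e5 : A.ρ g (A.ρ (g⁻¹ * s * g) y) = A.ρ (s * g) y := by
    rw [← Module.End.mul_apply, ← map_mul, e3]
  have e6 : A.ρ s (A.ρ g y) = A.ρ (s * g) y := by
    rw [map_mul, Module.End.mul_apply]
  rw [e3, h2 _ ht, map_sub, e5] at e2
  rw [map_add, map_sub, e6]
  have e7 : A.ρ s (x g) = x (s * g) - x s := by rw [e1]; abel
  rw [e7, e2, h2 _ hs]; abel

theorem wd_aux (x : cocycles₁ A) (y : A) (h2 : ∀ s ∈ P, x s = A.ρ s y - y) (g h : G)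
    (hm : g⁻¹ * h ∈ P) : x g - A.ρ g y + y = x h - A.ρ h y + y := by
  have h1 := (mem_cocycles₁_iff x).1 x.2
  have e2 := h1 g (g⁻¹ * h)
  rw [mul_inv_cancel_left, h2 _ hm, map_sub, ← Module.End.mul_apply, ← map_mul,
    mul_inv_cancel_left] at e2
  rw [e2]; abel

set_option backward.defeqAttrib.useBackward true in
set_option backward.isDefEq.respectTransparency false in
noncomputable def liftCoc (x : cocycles₁ A) (y : A) (h2 : ∀ s ∈ P, x s = A.ρ s y - y) :
    cocycles₁ (A.quotientToInvariants P) :=
  ⟨fun g => Quotient.liftOn' g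
      (fun g => (⟨x g - A.ρ g y + y, fun s => inv_aux A P x y h2 g s.1 s.2⟩ :
        Representation.invariants (A.ρ.comp P.subtype)))
      (fun g h hgh => Subtype.ext (wd_aux A P x y h2 g h (QuotientGroup.leftRel_apply.1 hgh))), by
    have h1 := (mem_cocycles₁_iff x).1 x.2
    rw [mem_cocycles₁_iff]
    intro g h
    induction g using QuotientGroup.induction_on with | @H g =>
    induction h using QuotientGroup.induction_on with | @H h =>
    apply Subtype.ext
    simp [← QuotientGroup.mk_mul, h1 g h, sub_add_eq_add_sub, add_assoc]⟩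

theorem liftCoc_apply (x : cocycles₁ A) (y : A) (h2 : ∀ s ∈ P, x s = A.ρ s y - y) (g : G) :
    ((liftCoc A P x y h2) (g : G ⧸ P)).1 = x g - A.ρ g y + y := rfl

variable [Fintype P]

noncomputable def sumP : cocycles₁ A →ₗ[k] A where
  toFun x := ∑ p : P, x (p : G)
  map_add' x y := by
    show ∑ p : P, (x (p : G) + y (p : G)) = _
    exact Finset.sum_add_distrib
  map_smul' c x := by
    show ∑ p : P, c • x (p : G) = c • ∑ p : P, x (p : G)
    exact Finset.smul_sum.symm

theorem sumP_apply (x : cocycles₁ A) : sumP A P x = ∑ p : P, x (p : G) := rfl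

variable (hP : Function.Bijective fun a : A => (Nat.card P : k) • a)

noncomputable def scalEquiv : A ≃ₗ[k] A :=
  LinearEquiv.ofBijective ((Nat.card P : k) • (LinearMap.id : A →ₗ[k] A)) (by
    have e : (⇑((Nat.card P : k) • (LinearMap.id : A →ₗ[k] A)) : A → A)
        = fun a => (Nat.card P : k) • a := by
      ext a; simp
    rw [e]; exact hP)

theorem scalEquiv_apply (a : A) : scalEquiv A P hP a = (Nat.card P : k) • a := by
  simp [scalEquiv]

noncomputable def yOf : cocycles₁ A →ₗ[k] A :=
  - ((scalEquiv A P hP).symm.toLinearMap ∘ₗ sumP A P)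

theorem yOf_apply (x : cocycles₁ A) :
    yOf A P hP x = - (scalEquiv A P hP).symm (sumP A P x) := rfl

theorem key (x : cocycles₁ A) (s : G) (hs : s ∈ P) :
    x s = A.ρ s (yOf A P hP x) - yOf A P hP x := by
  have h1 := (mem_cocycles₁_iff x).1 x.2
  have hS : (Nat.card P : k) • (scalEquiv A P hP).symm (sumP A P x) = sumP A P x := by
    rw [← scalEquiv_apply A P hP, LinearEquiv.apply_symm_apply]
  have hsum : ∑ p : P, x (s * (p : G)) = sumP A P x :=
    Fintype.sum_equiv (Equiv.mulLeft (⟨s, hs⟩ : P)) (fun p : P => x (s * (p : G)))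
      (fun q : P => x (q : G)) (fun p => rfl)
  have hexp : ∑ p : P, x (s * (p : G)) = A.ρ s (sumP A P x) + (Nat.card P : k) • x s := by
    have hc : ∀ p : P, x (s * (p : G)) = A.ρ s (x (p : G)) + x s := fun p => h1 s (p : G)
    rw [Fintype.sum_congr _ _ hc, Finset.sum_add_distrib,
      ← map_sum (A.ρ s) (fun p : P => x (p : G)) Finset.univ, Finset.sum_const,
      Finset.card_univ, ← Nat.card_eq_fintype_card, ← Nat.cast_smul_eq_nsmul k]
    rfl
  have e := hsum.symm.trans hexp
  have e' : (Nat.card P : k) • x s = sumP A P x - A.ρ s (sumP A P x) :=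
    (sub_eq_of_eq_add' e).symm
  apply hP.1
  show (Nat.card P : k) • x s = (Nat.card P : k) • (A.ρ s (yOf A P hP x) - yOf A P hP x)
  have e2 : (Nat.card P : k) • (A.ρ s (yOf A P hP x) - yOf A P hP x)
      = sumP A P x - A.ρ s (sumP A P x) := by
    rw [yOf_apply, map_neg, smul_sub, smul_neg, smul_neg, ← LinearMap.map_smul (A.ρ s), hS]
    abel
  rw [e', e2]

set_option backward.defeqAttrib.useBackward true in
set_option backward.isDefEq.respectTransparency false in
noncomputable def retr : cocycles₁ A →ₗ[k] cocycles₁ (A.quotientToInvariants P) where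
  toFun x := liftCoc A P x (yOf A P hP x) (key A P hP x)
  map_add' x x' := by
    apply cocycles₁_ext
    intro g
    induction g using QuotientGroup.induction_on with | @H g =>
    apply Subtype.ext
    show x g + x' g - A.ρ g (yOf A P hP (x + x')) + yOf A P hP (x + x')
      = (x g - A.ρ g (yOf A P hP x) + yOf A P hP x)
        + (x' g - A.ρ g (yOf A P hP x') + yOf A P hP x')
    rw [map_add, map_add]; abel
  map_smul' c x := by
    apply cocycles₁_ext
    intro g
    induction g using QuotientGroup.induction_on with | @H g =>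
    apply Subtype.ext
    show c • x g - A.ρ g (yOf A P hP (c • x)) + yOf A P hP (c • x)
      = c • (x g - A.ρ g (yOf A P hP x) + yOf A P hP x)
    rw [map_smul, map_smul, smul_add, smul_sub]

theorem retr_apply (x : cocycles₁ A) (g : G) :
    ((retr A P hP x) (g : G ⧸ P)).1 = x g - A.ρ g (yOf A P hP x) + yOf A P hP x := rfl

end Groth.Agent.Lib.InflRetr

namespace Groth.Agent.Lib.InflRetr

set_option backward.defeqAttrib.useBackward true in
set_option backward.isDefEq.respectTransparency false in
theorem main {k G : Type u} [CommRing k] [Group G] (A : Rep.{u} k G) (P : Subgroup G) [P.Normal]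
    [Finite P] (hP : Function.Bijective fun a : A => (Nat.card P : k) • a) :
    ∃ r : ModuleCat.of k (groupCohomology.cocycles₁ A) ⟶
        ModuleCat.of k (groupCohomology.cocycles₁ (A.quotientToInvariants P)),
      (groupCohomology.mapCocycles₁ (QuotientGroup.mk' P)
          (Rep.ofHom (A.ρ.quotientToInvariants_lift P)) :
          ModuleCat.of k (groupCohomology.cocycles₁ (A.quotientToInvariants P)) ⟶
            ModuleCat.of k (groupCohomology.cocycles₁ A)) ≫ r = 𝟙 _ := by
  cases nonempty_fintype P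
  refine ⟨ModuleCat.ofHom (retr A P hP), ?_⟩
  apply ModuleCat.hom_ext
  apply LinearMap.ext
  intro x
  simp only [ModuleCat.hom_comp, ModuleCat.hom_ofHom, ModuleCat.hom_id, LinearMap.comp_apply,
    LinearMap.id_apply]
  generalize hz : (groupCohomology.mapCocycles₁ (QuotientGroup.mk' P)
    (Rep.ofHom (A.ρ.quotientToInvariants_lift P))).hom x = z
  have hzg : ∀ g : G, z g = (x (g : G ⧸ P)).1 := by
    intro g
    rw [← hz]
    rfl
  have hs0 : sumP A P z = 0 := by
    rw [sumP_apply]
    refine Finset.sum_eq_zero fun p _ => ?_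
    rw [hzg, (QuotientGroup.eq_one_iff (p : G)).2 p.2, cocycles₁_map_one]
    rfl
  have hy0 : yOf A P hP z = 0 := by
    rw [yOf_apply, hs0, map_zero, neg_zero]
  apply cocycles₁_ext
  intro g
  induction g using QuotientGroup.induction_on with | @H g =>
  apply Subtype.ext
  show z g - A.ρ g (yOf A P hP z) + yOf A P hP z = (x (g : G ⧸ P)).1
  rw [hy0, map_zero, sub_zero, add_zero, hzg]

end Groth.Agent.Lib.InflRetr
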