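import Mathlib
import Groth.Prelude.Def_Wider
import Groth.Agent.Lib.InjHull5_helper3
import Groth.Agent.Lib.InjHullLoc_helper5

/-!
# Injective modules over Noetherian rings as filtered colimits of modules finite over
Artinian algebras (helper1, S10787)
-/

set_option autoImplicit false
universe u

namespace Groth.Agent.Lib.InjColimH1

open CategoryTheory CategoryTheory.Limits

section AF

variable (A : Type u) [CommRing A]

/-- `N` is a finite module over some Artinian `A`-algebra. -/
def AF (N : Type u) [AddCommGroup N] [Module A N] : Prop :=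
  ∃ (B : Type u) (_ : CommRing B) (_ : Algebra A B) (_ : IsArtinianRing B)
    (_ : Module B N) (_ : IsScalarTower A B N), Module.Finite B N

variable {A}
variable {N N' : Type u} [AddCommGroup N] [Module A N] [AddCommGroup N'] [Module A N']

theorem AF_of_equiv (e : N ≃ₗ[A] N') (h : AF A N) : AF A N' := by
  obtain ⟨B, _, _, _, _, _, hfin⟩ := h
  haveI : SMulCommClass B A N := inferInstance
  let φ : B →+* Module.End A N' :=
    (e.conjRingEquiv : Module.End A N ≃+* Module.End A N').toRingHom.comp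
      (Module.toModuleEnd A (S := B) N)
  letI : Module B N' := Module.compHom N' φ
  have hsmul : ∀ (b : B) (y : N'), b • y = e (b • e.symm y) := fun b y => rfl
  haveI : IsScalarTower A B N' := ⟨fun a b y => by
    rw [hsmul, hsmul, smul_assoc, map_smul]⟩
  let eB : N ≃ₗ[B] N' :=
    { toFun := e
      invFun := e.symm
      map_add' := e.map_add
      map_smul' := fun b x => by
        rw [RingHom.id_apply, hsmul, e.symm_apply_apply]
      left_inv := e.left_inv
      right_inv := e.right_inv }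
  haveI := hfin
  exact ⟨B, inferInstance, inferInstance, inferInstance, inferInstance, inferInstance,
    Module.Finite.equiv eB⟩

theorem AF_of_subsingleton [Subsingleton N] : AF A N := by
  have htor : Module.IsTorsionBySet A N ((⊤ : Ideal A) : Set A) := by
    intro x a; exact Subsingleton.elim _ _
  letI : Module (A ⧸ (⊤ : Ideal A)) N := htor.module
  haveI : Subsingleton (A ⧸ (⊤ : Ideal A)) := Ideal.Quotient.subsingleton_iff.mpr rfl
  haveI : IsScalarTower A (A ⧸ (⊤ : Ideal A)) N := htor.isScalarTower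
  haveI : IsArtinianRing (A ⧸ (⊤ : Ideal A)) := isArtinian_of_finite
  exact ⟨A ⧸ (⊤ : Ideal A), inferInstance, inferInstance, inferInstance, inferInstance,
    inferInstance, Module.Finite.of_finite⟩

theorem AF_prod {N₁ N₂ : Type u} [AddCommGroup N₁] [Module A N₁] [AddCommGroup N₂] [Module A N₂]
    (h₁ : AF A N₁) (h₂ : AF A N₂) : AF A (N₁ × N₂) := by
  obtain ⟨B₁, _, _, _, _, _, hfin₁⟩ := h₁
  obtain ⟨B₂, _, _, _, _, _, hfin₂⟩ := h₂
  letI m₁ : Module (B₁ × B₂) N₁ := Module.compHom N₁ (RingHom.fst B₁ B₂)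
  letI m₂ : Module (B₁ × B₂) N₂ := Module.compHom N₂ (RingHom.snd B₁ B₂)
  have hs₁ : ∀ (b : B₁ × B₂) (x : N₁), b • x = b.1 • x := fun _ _ => rfl
  have hs₂ : ∀ (b : B₁ × B₂) (x : N₂), b • x = b.2 • x := fun _ _ => rfl
  haveI : IsScalarTower A (B₁ × B₂) N₁ := ⟨fun a b x => by
    rw [hs₁, hs₁, Prod.smul_fst, smul_assoc]⟩
  haveI : IsScalarTower A (B₁ × B₂) N₂ := ⟨fun a b x => by
    rw [hs₂, hs₂, Prod.smul_snd, smul_assoc]⟩
  haveI : Module.Finite (B₁ × B₂) N₁ := by
    obtain ⟨s, hs⟩ := hfin₁.fg_top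
    refine ⟨⟨s, ?_⟩⟩
    rw [eq_top_iff]
    intro x _
    have hx : x ∈ Submodule.span B₁ (s : Set N₁) := by rw [hs]; trivial
    refine Submodule.span_induction
      (p := fun y _ => y ∈ Submodule.span (B₁ × B₂) (s : Set N₁)) ?_ ?_ ?_ ?_ hx
    · intro y hy; exact Submodule.subset_span hy
    · exact Submodule.zero_mem _
    · intro y z _ _ hy hz; exact Submodule.add_mem _ hy hz
    · intro b y _ hy
      have : b • y = ((b, 0) : B₁ × B₂) • y := rfl
      rw [this]; exact Submodule.smul_mem _ _ hy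
  haveI : Module.Finite (B₁ × B₂) N₂ := by
    obtain ⟨s, hs⟩ := hfin₂.fg_top
    refine ⟨⟨s, ?_⟩⟩
    rw [eq_top_iff]
    intro x _
    have hx : x ∈ Submodule.span B₂ (s : Set N₂) := by rw [hs]; trivial
    refine Submodule.span_induction
      (p := fun y _ => y ∈ Submodule.span (B₁ × B₂) (s : Set N₂)) ?_ ?_ ?_ ?_ hx
    · intro y hy; exact Submodule.subset_span hy
    · exact Submodule.zero_mem _
    · intro y z _ _ hy hz; exact Submodule.add_mem _ hy hz
    · intro b y _ hy
      have : b • y = ((0, b) : B₁ × B₂) • y := rfl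
      rw [this]; exact Submodule.smul_mem _ _ hy
  exact ⟨B₁ × B₂, inferInstance, inferInstance, inferInstance, inferInstance, inferInstance,
    inferInstance⟩

end AF

section Sub

variable {A : Type u} [CommRing A] {J : Type u} [AddCommGroup J] [Module A J]

theorem AF_sup {P Q : Submodule A J} (hP : AF A ↥P) (hQ : AF A ↥Q) (h : Disjoint P Q) :
    AF A ↥(P ⊔ Q) := by
  let ψ : (↥P × ↥Q) →ₗ[A] J := LinearMap.coprod P.subtype Q.subtype
  have hψ : ∀ x : ↥P × ↥Q, ψ x = (x.1 : J) + (x.2 : J) := fun x => by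
    simp [ψ, LinearMap.coprod_apply]
  have hinj : Function.Injective ψ := by
    rw [injective_iff_map_eq_zero]
    rintro ⟨x, y⟩ hxy
    have h0 : (x : J) + (y : J) = 0 := by
      have := hψ (x, y)
      rw [hxy] at this
      exact this.symm
    have hx : (x : J) ∈ P ⊓ Q :=
      ⟨x.2, by rw [eq_neg_of_add_eq_zero_left h0]; exact Q.neg_mem y.2⟩
    rw [h.eq_bot, Submodule.mem_bot] at hx
    have hy : (y : J) = 0 := by rw [hx, zero_add] at h0; exact h0
    have hx' : x = 0 := Subtype.ext hx
    have hy' : y = 0 := Subtype.ext hy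
    rw [hx', hy']; rfl
  have hrange : LinearMap.range ψ = P ⊔ Q := by
    rw [LinearMap.range_coprod, Submodule.range_subtype, Submodule.range_subtype]
  exact AF_of_equiv ((LinearEquiv.ofInjective ψ hinj).trans (LinearEquiv.ofEq _ _ hrange))
    (AF_prod hP hQ)

theorem AF_biSup {ι₀ : Type u} (G : ι₀ → Submodule A J) (hind : iSupIndep G)
    (hG : ∀ i, AF A ↥(G i)) (S : Finset ι₀) : AF A ↥(⨆ i ∈ S, G i) := by
  classical
  induction S using Finset.induction_on with
  | empty =>
    have hbot : (⨆ i ∈ (∅ : Finset ι₀), G i) = ⊥ := by simp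
    haveI : Subsingleton ↥(⨆ i ∈ (∅ : Finset ι₀), G i) := by
      rw [hbot]; infer_instance
    exact AF_of_subsingleton
  | insert a S ha ih =>
    have hdisj : Disjoint (G a) (⨆ i ∈ S, G i) := by
      have := hind.disjoint_biSup (x := a) (y := (S : Set ι₀)) (by simpa using ha)
      simpa using this
    have h1 : AF A ↥(G a ⊔ ⨆ i ∈ S, G i) := AF_sup (hG a) ih hdisj
    rw [Finset.iSup_insert]
    exact h1

/-- the part of `E` killed by `p ^ (n + 1)` -/
def Fsub (E : Submodule A J) (p : Ideal A) (n : ℕ) : Submodule A J where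
  carrier := {x | x ∈ E ∧ ∀ a ∈ p ^ (n + 1), a • x = 0}
  add_mem' := fun {x y} hx hy => ⟨E.add_mem hx.1 hy.1, fun a ha => by
    rw [smul_add, hx.2 a ha, hy.2 a ha, add_zero]⟩
  zero_mem' := ⟨E.zero_mem, fun a _ => smul_zero a⟩
  smul_mem' := fun c x hx => ⟨E.smul_mem c hx.1, fun a ha => by
    rw [smul_comm, hx.2 a ha, smul_zero]⟩

theorem mem_Fsub {E : Submodule A J} {p : Ideal A} {n : ℕ} {x : J} :
    x ∈ Fsub E p n ↔ x ∈ E ∧ ∀ a ∈ p ^ (n + 1), a • x = 0 := Iff.rfl

theorem Fsub_le (E : Submodule A J) (p : Ideal A) (n : ℕ) : Fsub E p n ≤ E := fun _ hx => hx.1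

theorem Fsub_mono (E : Submodule A J) (p : Ideal A) {n n' : ℕ} (h : n ≤ n') :
    Fsub E p n ≤ Fsub E p n' := fun _ hx =>
  ⟨hx.1, fun a ha => hx.2 a (Ideal.pow_le_pow_right (Nat.succ_le_succ h) ha)⟩

end Sub

section Colim

variable {A : Type u} [CommRing A] {J : Type u} [AddCommGroup J] [Module A J]

theorem exists_colimit_of_directed {ι : Type u} [SemilatticeSup ι] [Nonempty ι]
    (N : ι → Submodule A J) (hN : Monotone N)
    (hsup : ∀ x : J, ∃ i, x ∈ N i) (hAF : ∀ i, AF A ↥(N i)) :
    ∃ (_ : IsFiltered ι) (D : ι ⥤ ModuleCat.{u} A)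
      (c : Cocone D) (_ : IsColimit c), Nonempty (c.pt ≅ ModuleCat.of A J) ∧
      ∀ i : ι, ∃ (B : Type u) (_ : CommRing B) (_ : Algebra A B) (_ : IsArtinianRing B)
        (_ : Module B (D.obj i)) (_ : IsScalarTower A B (D.obj i)),
          Module.Finite B (D.obj i) := by
  classical
  let G : ι → Type u := fun i => ↥(N i)
  let f : ∀ i j, i ≤ j → G i →ₗ[A] G j := fun i j h => Submodule.inclusion (hN h)
  haveI : DirectedSystem G fun i j h => f i j h :=
    { map_self := fun _ _ => rfl, map_map := fun _ _ _ _ _ _ => rfl }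
  refine ⟨inferInstance, ModuleCat.directLimitDiagram G f, ModuleCat.directLimitCocone G f,
    ModuleCat.directLimitIsColimit G f, ⟨?_⟩, fun i => hAF i⟩
  let g : Module.DirectLimit G f →ₗ[A] J :=
    Module.DirectLimit.lift A ι G f (fun i => (N i).subtype) (fun _ _ _ _ => rfl)
  have hinj : Function.Injective g :=
    Module.DirectLimit.lift_injective _ _ (fun i => Subtype.val_injective)
  have hsurj : Function.Surjective g := fun x => by
    obtain ⟨i, hi⟩ := hsup x
    exact ⟨Module.DirectLimit.of A ι G f i ⟨x, hi⟩, Module.DirectLimit.lift_of _ _ _⟩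
  exact (LinearEquiv.ofBijective g ⟨hinj, hsurj⟩).toModuleIso

end Colim

section Hull

variable {R : Type u} [CommRing R] {E : Type u} [AddCommGroup E] [Module R E]

open Groth.Agent.Lib.InjHull_helper3 Groth.Agent.Lib.InjHull2_helper3
  Groth.Agent.Lib.InjHull4_helper3

/-- an indecomposable injective is the hull of `R ⧸ p` for an associated prime `p` -/
theorem exists_hull_quot [IsNoetherianRing R] (hE : InjHull.IsIndecomposable R E)
    (hinj : Module.Injective R E) :
    ∃ (p : Ideal R) (_ : p.IsPrime) (f : (R ⧸ p) →ₗ[R] E), InjHull.IsInjectiveHull f := by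
  haveI := hE.1
  obtain ⟨p, hp⟩ := associatedPrimes.nonempty R E
  obtain ⟨hpp, x, hpx⟩ := isAssociatedPrime_iff.1 hp
  haveI := hpp
  have hker : LinearMap.ker (LinearMap.toSpanSingleton R E x) = p := by
    ext r
    rw [hpx, LinearMap.mem_ker, LinearMap.toSpanSingleton_apply, Submodule.mem_colon_singleton,
      Submodule.mem_bot]
  let f : (R ⧸ p) →ₗ[R] E := Submodule.liftQ p (LinearMap.toSpanSingleton R E x) hker.ge
  have hfinj : Function.Injective f := by
    rw [← LinearMap.ker_eq_bot]
    exact Submodule.ker_liftQ_eq_bot _ _ _ hker.le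
  have hx0 : x ≠ 0 := by
    intro h0
    apply hpp.ne_top
    rw [← hker, eq_top_iff]
    intro r _
    rw [LinearMap.mem_ker, LinearMap.toSpanSingleton_apply, h0, smul_zero]
  have hrange : LinearMap.range f ≠ ⊥ := by
    intro h
    apply hx0
    have : f (Submodule.Quotient.mk 1) ∈ LinearMap.range f := ⟨_, rfl⟩
    rw [h, Submodule.mem_bot] at this
    have h1 : f (Submodule.Quotient.mk 1) = x := by
      simp only [f, Submodule.liftQ_apply, LinearMap.toSpanSingleton_apply, one_smul]
    rw [← h1]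
    exact this
  exact ⟨p, hpp, f,
    ⟨⟨hfinj, fun N hN => inf_ne_bot_of_indecomposable hE hinj N _ hN hrange⟩, hinj⟩⟩

end Hull

section Local

variable {A : Type u} [CommRing A] [IsNoetherianRing A]

/-- the torsion part of the localized module -/
abbrev TT (p : Ideal A) [p.IsPrime] (E : Type u) [AddCommGroup E] [Module A E]
    (I : Ideal (Localization.AtPrime p)) :
    Submodule (Localization.AtPrime p) (LocalizedModule p.primeCompl E) :=
  Submodule.torsionBySet (Localization.AtPrime p) (LocalizedModule p.primeCompl E)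
    (I : Set (Localization.AtPrime p))

theorem AF_torsion_hull (p : Ideal A) [p.IsPrime]
    {E : Type u} [AddCommGroup E] [Module A E] (f : (A ⧸ p) →ₗ[A] E)
    (hf : InjHull.IsInjectiveHull f)
    (n : ℕ) (F : Submodule A E) (hF : ∀ x, x ∈ F ↔ ∀ a ∈ p ^ (n + 1), a • x = 0) :
    AF A ↥F := by
  have hdis : Disjoint (p : Set A) (p.primeCompl : Set A) := by
    rw [Set.disjoint_left]; intro a ha haS; exact haS ha
  obtain ⟨hbij, g, hg⟩ := (Groth.Agent.InjHullLoc.loc_hull A p p.primeCompl E f hf).2 hdis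
  haveI hArt : IsArtinian (Localization.AtPrime p) (LocalizedModule p.primeCompl E) := by
    have key : ∀ (I : Ideal (Localization.AtPrime p))
        (_ : I = IsLocalRing.maximalIdeal (Localization.AtPrime p))
        (g : (Localization.AtPrime p ⧸ I) →ₗ[Localization.AtPrime p]
          LocalizedModule p.primeCompl E),
        InjHull.IsInjectiveHull g →
          IsArtinian (Localization.AtPrime p) (LocalizedModule p.primeCompl E) := by
      intro I hI
      subst hI
      intro g hg
      exact Groth.Agent.Matlis.isArtinian_hull g hg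
    exact key _ Localization.AtPrime.map_eq_maximalIdeal g hg
  obtain ⟨I, hI⟩ : ∃ I : Ideal (Localization.AtPrime p),
      I = (IsLocalRing.maximalIdeal (Localization.AtPrime p)) ^ (n + 1) := ⟨_, rfl⟩
  haveI hBart : IsArtinianRing (Localization.AtPrime p ⧸ I) := by
    apply IsLocalRing.quotient_artinian_of_mem_minimalPrimes_of_isLocalRing
    refine ⟨⟨inferInstance, ?_⟩, ?_⟩
    · rw [hI]; exact Ideal.pow_le_self (Nat.succ_ne_zero n)
    · rintro q ⟨hq, hqa⟩ _
      rw [hI] at hqa
      exact hq.le_of_pow_le hqa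
  haveI : IsArtinian (Localization.AtPrime p) ↥(TT p E I) := inferInstance
  haveI : IsArtinian (Localization.AtPrime p ⧸ I) ↥(TT p E I) :=
    isArtinian_of_tower (Localization.AtPrime p) inferInstance
  haveI hfinT : Module.Finite (Localization.AtPrime p ⧸ I) ↥(TT p E I) :=
    ((IsArtinianRing.tfae (R := Localization.AtPrime p ⧸ I) (M := ↥(TT p E I))).out 0 2).mpr
      ‹IsArtinian (Localization.AtPrime p ⧸ I) ↥(TT p E I)›
  have hAFT : AF A ↥(TT p E I) :=
    ⟨Localization.AtPrime p ⧸ I, inferInstance, inferInstance, inferInstance, inferInstance,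
      inferInstance, hfinT⟩
  have hmapI : I = Ideal.map (algebraMap A (Localization.AtPrime p)) (p ^ (n + 1)) := by
    rw [hI, Ideal.map_pow, Localization.AtPrime.map_eq_maximalIdeal]
  have hmem : ∀ x : E, x ∈ F → LocalizedModule.mkLinearMap p.primeCompl E x ∈ TT p E I := by
    intro x hx
    rw [Submodule.mem_torsionBySet_iff]
    rintro ⟨b, hb⟩
    show b • _ = 0
    have hb' : b ∈ Submodule.span (Localization.AtPrime p)
        (algebraMap A (Localization.AtPrime p) '' ↑(p ^ (n + 1))) := by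
      rw [hmapI] at hb; exact hb
    refine Submodule.span_induction
      (p := fun b _ => b • LocalizedModule.mkLinearMap p.primeCompl E x = 0) ?_ ?_ ?_ ?_ hb'
    · rintro _ ⟨a, ha, rfl⟩
      rw [algebraMap_smul, ← map_smul, (hF x).1 hx a ha, map_zero]
    · exact zero_smul _ _
    · intro b c _ _ hb hc; rw [add_smul, hb, hc, add_zero]
    · intro c b _ hb; rw [smul_eq_mul, mul_smul, hb, smul_zero]
  let φ : ↥F →ₗ[A] ↥(TT p E I) :=
    { toFun := fun x => ⟨LocalizedModule.mkLinearMap p.primeCompl E x.1, hmem x.1 x.2⟩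
      map_add' := fun x y =>
        Subtype.ext (map_add (LocalizedModule.mkLinearMap p.primeCompl E) x.1 y.1)
      map_smul' := fun a x =>
        Subtype.ext (map_smul (LocalizedModule.mkLinearMap p.primeCompl E) a x.1) }
  have hφinj : Function.Injective φ := fun x y hxy =>
    Subtype.ext (hbij.1 (congrArg Subtype.val hxy))
  have hφsurj : Function.Surjective φ := by
    rintro ⟨y, hy⟩
    obtain ⟨x, rfl⟩ := hbij.2 y
    refine ⟨⟨x, (hF x).2 fun a ha => ?_⟩, rfl⟩
    apply hbij.1
    rw [map_smul, map_zero, ← algebraMap_smul (Localization.AtPrime p) a]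
    rw [Submodule.mem_torsionBySet_iff] at hy
    exact hy ⟨algebraMap A _ a, by
      show algebraMap A _ a ∈ I
      rw [hmapI]; exact Ideal.mem_map_of_mem _ ha⟩
  exact AF_of_equiv (LinearEquiv.ofBijective φ ⟨hφinj, hφsurj⟩).symm hAFT

variable {J : Type u} [AddCommGroup J] [Module A J]

theorem AF_Fsub (E : Submodule A J) (p : Ideal A) [p.IsPrime] (f : (A ⧸ p) →ₗ[A] ↥E)
    (hf : InjHull.IsInjectiveHull f) (n : ℕ) : AF A ↥(Fsub E p n) := by
  have h1 : AF A ↥(Submodule.comap E.subtype (Fsub E p n)) := by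
    apply AF_torsion_hull p f hf n
    intro x
    rw [Submodule.mem_comap, mem_Fsub]
    constructor
    · rintro ⟨-, h⟩ a ha
      apply Subtype.ext
      rw [Submodule.coe_smul, Submodule.coe_zero]
      exact h a ha
    · intro h
      refine ⟨x.2, fun a ha => ?_⟩
      have := congrArg Subtype.val (h a ha)
      rw [Submodule.coe_smul, Submodule.coe_zero] at this
      exact this
  exact AF_of_equiv (Submodule.comapSubtypeEquivOfLe (Fsub_le E p n)) h1

theorem exists_mem_Fsub (E : Submodule A J) (p : Ideal A) [p.IsPrime] (f : (A ⧸ p) →ₗ[A] ↥E)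
    (hf : InjHull.IsInjectiveHull f) (x : J) (hx : x ∈ E) : ∃ n, x ∈ Fsub E p n := by
  have hle : p ≤ (Ideal.torsionOf A J x).radical := by
    intro t ht
    obtain ⟨k, hk⟩ := Groth.Agent.InjHullLoc.exists_pow_smul_eq_zero A p f hf ht (⟨x, hx⟩ : ↥E)
    refine ⟨k, ?_⟩
    rw [Ideal.mem_torsionOf_iff]
    have := congrArg Subtype.val hk
    rw [Submodule.coe_smul, Submodule.coe_zero] at this
    exact this
  obtain ⟨k, hk⟩ := Ideal.exists_pow_le_of_le_radical_of_fg hle (IsNoetherian.noetherian p)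
  refine ⟨k, hx, fun a ha => ?_⟩
  have : a ∈ Ideal.torsionOf A J x := hk (Ideal.pow_le_pow_right (Nat.le_succ k) ha)
  exact (Ideal.mem_torsionOf_iff _ _).1 this

end Local

section Main

theorem main10787 (A : Type u) [CommRing A] [IsNoetherianRing A]
    (J : Type u) [AddCommGroup J] [Module A J] [Module.Injective A J] :
    ∃ (ι : Type u) (_ : SmallCategory ι) (_ : IsFiltered ι) (D : ι ⥤ ModuleCat.{u} A)
      (c : Cocone D) (_ : IsColimit c), Nonempty (c.pt ≅ ModuleCat.of A J) ∧
      ∀ i : ι, ∃ (B : Type u) (_ : CommRing B) (_ : Algebra A B) (_ : IsArtinianRing B)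
        (_ : Module B (D.obj i)) (_ : IsScalarTower A B (D.obj i)),
          Module.Finite B (D.obj i) := by
  classical
  obtain ⟨ι₀, E, hint, hE⟩ :=
    Groth.Agent.Lib.InjHull5_helper3.injective_isInternal_indecomposable
      (inferInstance : Module.Injective A J)
  have hex : ∀ i, ∃ (p : Ideal A) (_ : p.IsPrime) (f : (A ⧸ p) →ₗ[A] ↥(E i)),
      InjHull.IsInjectiveHull f := fun i => exists_hull_quot (hE i).1 (hE i).2
  choose p hp f hf using hex
  have hind : iSupIndep E := hint.submodule_iSupIndep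
  have htop : iSup E = ⊤ := hint.submodule_iSup_eq_top
  obtain ⟨N, hNdef⟩ : ∃ N : Finset ι₀ × ℕ → Submodule A J,
      ∀ s, N s = ⨆ i ∈ s.1, Fsub (E i) (p i) s.2 := ⟨_, fun _ => rfl⟩
  have hNmono : Monotone N := by
    intro s s' h
    rw [hNdef, hNdef]
    apply iSup₂_le
    intro i hi
    exact le_trans (Fsub_mono (E i) (p i) h.2)
      (le_biSup (fun i => Fsub (E i) (p i) s'.2) (Finset.le_iff_subset.1 h.1 hi))
  have hsup : ∀ x : J, ∃ s, x ∈ N s := by
    intro x
    have hx : x ∈ iSup E := by rw [htop]; trivial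
    refine Submodule.iSup_induction E (motive := fun x => ∃ s, x ∈ N s) hx ?_ ?_ ?_
    · intro i y hy
      haveI := hp i
      obtain ⟨n, hn⟩ := exists_mem_Fsub (E i) (p i) (f i) (hf i) y hy
      refine ⟨({i}, n), ?_⟩
      rw [hNdef]
      simpa using hn
    · exact ⟨(∅, 0), Submodule.zero_mem _⟩
    · rintro y z ⟨s, hs⟩ ⟨s', hs'⟩
      exact ⟨s ⊔ s', Submodule.add_mem _ (hNmono le_sup_left hs) (hNmono le_sup_right hs')⟩
  have hAF : ∀ s, AF A ↥(N s) := by
    intro s
    rw [hNdef]
    exact AF_biSup (fun i => Fsub (E i) (p i) s.2)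
      (hind.mono (fun i => Fsub_le (E i) (p i) s.2))
      (fun i => by haveI := hp i; exact AF_Fsub (E i) (p i) (f i) (hf i) s.2) s.1
  obtain ⟨hfil, D, c, hc, hiso, hD⟩ := exists_colimit_of_directed N hNmono hsup hAF
  exact ⟨Finset ι₀ × ℕ, Preorder.smallCategory _, hfil, D, c, hc, hiso, hD⟩

end Main

end Groth.Agent.Lib.InjColimH1
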