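import Mathlib

/-! Embedding a cochain complex into a complex of injectives with split cycles (helper1). -/

universe v u
open CategoryTheory CategoryTheory.Limits

namespace Groth.Agent.Lib.InjEmbH1

variable {C : Type u} [Category.{v} C] [Abelian C] [EnoughInjectives C]

noncomputable section

abbrev I (A : CochainComplex C ℕ) (i : ℕ) : C := Injective.under (A.X i)

abbrev ι (A : CochainComplex C ℕ) (i : ℕ) : A.X i ⟶ I A i := Injective.ι (A.X i)

abbrev QX (A : CochainComplex C ℕ) (i : ℕ) : C := I A i ⊞ I A (i + 1)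

def Qd (A : CochainComplex C ℕ) (i : ℕ) : QX A i ⟶ QX A (i + 1) := biprod.snd ≫ biprod.inl

lemma Qd_comp (A : CochainComplex C ℕ) (i : ℕ) : Qd A i ≫ Qd A (i + 1) = 0 := by
  simp [Qd]

abbrev Q (A : CochainComplex C ℕ) : CochainComplex C ℕ :=
  CochainComplex.of (QX A) (Qd A) (Qd_comp A)

lemma Q_d (A : CochainComplex C ℕ) (i : ℕ) : (Q A).d i (i + 1) = Qd A i :=
  CochainComplex.of_d _ _ i

def fcomp (A : CochainComplex C ℕ) (i : ℕ) : A.X i ⟶ QX A i :=
  biprod.lift (ι A i) (A.d i (i + 1) ≫ ι A (i + 1))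

lemma fcomp_comm (A : CochainComplex C ℕ) (i : ℕ) :
    fcomp A i ≫ Qd A i = A.d i (i + 1) ≫ fcomp A (i + 1) := by
  apply biprod.hom_ext
  · simp [fcomp, Qd]
  · simp [fcomp, Qd]

def fmap (A : CochainComplex C ℕ) : A ⟶ Q A where
  f i := fcomp A i
  comm' i j hij := by
    obtain rfl : i + 1 = j := hij
    rw [Q_d]
    exact fcomp_comm A i

lemma snd_eq_zero_of_comp_Qd {A : CochainComplex C ℕ} {i : ℕ} {T : C} (x : T ⟶ QX A i)
    (hx : x ≫ Qd A i = 0) : x ≫ biprod.snd = 0 := by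
  have h1 : (x ≫ biprod.snd) ≫ (biprod.inl : I A (i + 1) ⟶ QX A (i + 1)) = 0 := by
    simpa [Qd] using hx
  exact (cancel_mono (biprod.inl : I A (i + 1) ⟶ QX A (i + 1))).mp (by rw [h1, zero_comp])

lemma eq_fst_inl_of_snd_eq_zero {A : CochainComplex C ℕ} {i : ℕ} {T : C} (x : T ⟶ QX A i)
    (hx : x ≫ biprod.snd = 0) : x ≫ biprod.fst ≫ biprod.inl = x := by
  have h1 : x = x ≫ (biprod.fst ≫ biprod.inl + biprod.snd ≫ biprod.inr) := by
    rw [biprod.total, Category.comp_id]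
  conv_rhs => rw [h1]
  rw [Preadditive.comp_add, ← Category.assoc x biprod.snd, hx, zero_comp, add_zero]

theorem exists_injective_embedding (A : CochainComplex C ℕ) :
    ∃ (Q : CochainComplex C ℕ) (f : A ⟶ Q), Mono f ∧ (∀ i : ℕ, Injective (Q.X i)) ∧
      (∀ i : ℕ, IsZero (Q.homology (i + 1))) ∧ ∀ i : ℕ, IsSplitMono (Q.iCycles i) := by
  refine ⟨Q A, fmap A, ?_, ?_, ?_, ?_⟩
  · apply HomologicalComplex.mono_of_mono_f
    intro i
    have h1 : Mono (fcomp A i ≫ biprod.fst) := by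
      have h2 : fcomp A i ≫ biprod.fst = ι A i := by simp [fcomp]
      rw [h2]; infer_instance
    exact mono_of_mono (fcomp A i) biprod.fst
  · intro i
    show Injective (I A i ⊞ I A (i + 1))
    infer_instance
  · intro i
    rw [← HomologicalComplex.exactAt_iff_isZero_homology,
      HomologicalComplex.exactAt_iff_exact_up_to_refinements (Q A) i (i + 1) (i + 2)
        (by simp) (by simp)]
    intro T x₂ hx₂
    rw [Q_d] at hx₂
    have hx := snd_eq_zero_of_comp_Qd (A := A) (i := i + 1) x₂ hx₂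
    refine ⟨T, 𝟙 T, inferInstance,
      x₂ ≫ biprod.fst ≫ (biprod.inr : I A (i + 1) ⟶ QX A i), ?_⟩
    rw [Q_d, Category.id_comp]
    have h1 : (x₂ ≫ biprod.fst ≫ (biprod.inr : I A (i + 1) ⟶ QX A i)) ≫ Qd A i =
        x₂ ≫ biprod.fst ≫ biprod.inl := by
      simp [Qd]
    rw [h1]
    exact (eq_fst_inl_of_snd_eq_zero (A := A) (i := i + 1) x₂ hx).symm
  · intro i
    have h0 : ((biprod.fst ≫ biprod.inl : QX A i ⟶ QX A i)) ≫ (Q A).d i (i + 1) = 0 := by
      rw [Q_d]; simp [Qd]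
    have hz : (Q A).iCycles i ≫ (biprod.snd : QX A i ⟶ I A (i + 1)) = 0 := by
      have h1 := (Q A).iCycles_d i (i + 1)
      rw [Q_d] at h1
      exact snd_eq_zero_of_comp_Qd (A := A) (i := i) ((Q A).iCycles i) h1
    refine IsSplitMono.mk' ⟨(Q A).liftCycles (biprod.fst ≫ biprod.inl : QX A i ⟶ QX A i)
      (i + 1) (by simp) h0, ?_⟩
    rw [← cancel_mono ((Q A).iCycles i), Category.assoc, HomologicalComplex.liftCycles_i,
      Category.id_comp]
    exact eq_fst_inl_of_snd_eq_zero (A := A) (i := i) ((Q A).iCycles i) hz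

end

end Groth.Agent.Lib.InjEmbH1
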