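import Mathlib
import Groth.Prelude.Def_Wider
import Groth.Agent.Lib.InjHull6_helper3

set_option autoImplicit false
universe u

namespace Groth.Agent.Lib.InjHull7_helper3

open Groth.Agent.Lib.InjHull_helper3 Groth.Agent.Lib.InjHull2_helper3 IsLocalRing TensorProduct

/-- the socle of an essential extension of the residue field is the residue field -/
theorem socle_le_range {S : Type u} [CommRing S] [IsLocalRing S] {E : Type u} [AddCommGroup E]
    [Module S E] (f : ResidueField S →ₗ[S] E) (hf : InjHull.IsEssentialInj f) (x : E)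
    (hx : ∀ a ∈ maximalIdeal S, a • x = 0) : x ∈ LinearMap.range f := by
  by_cases hx0 : x = 0
  · rw [hx0]; exact zero_mem _
  have hne : Submodule.span S {x} ≠ ⊥ := by
    rw [Ne, Submodule.span_singleton_eq_bot]; exact hx0
  have h1 := hf.essential _ hne
  obtain ⟨y, hy, hy0⟩ := (Submodule.ne_bot_iff _).1 h1
  obtain ⟨hy1, hy2⟩ := Submodule.mem_inf.1 hy
  obtain ⟨r, rfl⟩ := Submodule.mem_span_singleton.1 hy1
  have hr : IsUnit r := by
    by_contra hr
    have : r ∈ maximalIdeal S := (IsLocalRing.mem_maximalIdeal r).2 hr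
    exact hy0 (hx r this)
  obtain ⟨u, rfl⟩ := hr
  have : x = (↑u⁻¹ : S) • ((u : S) • x) := by rw [smul_smul]; simp
  rw [this]
  exact Submodule.smul_mem _ _ hy2

/-- injectivity descends along flat ring maps -/
theorem injective_restrictScalars_of_flat {R S : Type u} [CommRing R] [CommRing S] [Algebra R S]
    [Module.Flat R S] {E : Type u} [AddCommGroup E] [Module S E] [Module R E]
    [IsScalarTower R S E] (hE : Module.Injective S E) : Module.Injective R E := by
  apply Module.Baer.injective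
  intro 𝔞 g
  let ι₁ : S ⊗[R] 𝔞 →ₗ[S] S ⊗[R] R := (Submodule.subtype 𝔞).baseChange S
  have hι₁ : Function.Injective ι₁ :=
    Module.Flat.lTensor_preserves_injective_linearMap (M := S) (Submodule.subtype 𝔞)
      (Submodule.injective_subtype 𝔞)
  let ι : S ⊗[R] 𝔞 →ₗ[S] S := (AlgebraTensorModule.rid R S S).toLinearMap ∘ₗ ι₁
  have hι : Function.Injective ι := (AlgebraTensorModule.rid R S S).injective.comp hι₁
  let gS : S ⊗[R] 𝔞 →ₗ[S] E := LinearMap.liftBaseChange S g
  obtain ⟨h, hh⟩ := exists_extension hE ι hι gS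
  refine ⟨(h.restrictScalars R) ∘ₗ (Algebra.linearMap R S), ?_⟩
  intro x hx
  have h1 := LinearMap.congr_fun hh ((1 : S) ⊗ₜ[R] (⟨x, hx⟩ : 𝔞))
  have h2 : ι ((1 : S) ⊗ₜ[R] (⟨x, hx⟩ : 𝔞)) = algebraMap R S x := by
    simp [ι, ι₁, Algebra.smul_def]
  have h3 : gS ((1 : S) ⊗ₜ[R] (⟨x, hx⟩ : 𝔞)) = g ⟨x, hx⟩ := by
    simp [gS]
  rw [LinearMap.comp_apply, h2, h3] at h1
  simpa using h1

/-- S1750 -/
theorem hull_residueField_of_flat_local {R S : Type u} [CommRing R] [CommRing S] [IsLocalRing R]
    [IsLocalRing S] [IsNoetherianRing R] [IsNoetherianRing S] [Algebra R S]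
    [IsLocalHom (algebraMap R S)] [Module.Flat R S]
    (hm : (maximalIdeal R).map (algebraMap R S) = maximalIdeal S)
    (hk : Function.Bijective (IsLocalRing.ResidueField.map (algebraMap R S)))
    {E : Type u} [AddCommGroup E] [Module S E] [Module R E] [IsScalarTower R S E]
    (f : ResidueField S →ₗ[S] E) (hf : InjHull.IsInjectiveHull f) :
    ∃ g : ResidueField R →ₗ[R] E, InjHull.IsInjectiveHull g := by
  let ρ : ResidueField R →ₗ[R] ResidueField S :=
    { toFun := IsLocalRing.ResidueField.map (algebraMap R S)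
      map_add' := map_add _
      map_smul' := by
        intro r x
        obtain ⟨y, rfl⟩ := IsLocalRing.residue_surjective x
        rw [RingHom.id_apply, Algebra.smul_def, Algebra.smul_def, map_mul]
        rfl }
  have hρ : ∀ x, ρ x = IsLocalRing.ResidueField.map (algebraMap R S) x := fun _ => rfl
  let g : ResidueField R →ₗ[R] E := (f.restrictScalars R) ∘ₗ ρ
  have hginj : Function.Injective g := hf.injective.comp hk.1
  have hrange : ∀ y : E, y ∈ LinearMap.range f → y ∈ LinearMap.range g := by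
    rintro y ⟨c, rfl⟩
    obtain ⟨c', hc'⟩ := hk.2 c
    exact ⟨c', by simp only [g, LinearMap.comp_apply, LinearMap.restrictScalars_apply, hρ, hc']⟩
  -- `E` is `m_R`-power torsion
  have hptS := hull_isPowerTorsion f hf
  have hmap : ∀ (n : ℕ) (a : R), a ∈ maximalIdeal R ^ n → algebraMap R S a ∈ maximalIdeal S ^ n := by
    intro n a ha
    rw [← hm, ← Ideal.map_pow]
    exact Ideal.mem_map_of_mem _ ha
  have hptR : LocCoh.IsPowerTorsion (maximalIdeal R) E := by
    intro x
    obtain ⟨n, hn⟩ := hptS x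
    refine ⟨n, fun a ha => ?_⟩
    rw [← algebraMap_smul S a x]
    exact hn _ (hmap n a ha)
  have hsocR := socle_essential (R := R) hptR
  -- the `R`-socle is contained in the `S`-socle
  have hsoc : ∀ x : E, (∀ a ∈ maximalIdeal R, a • x = 0) → ∀ b ∈ maximalIdeal S, b • x = 0 := by
    intro x hx b hb
    rw [← hm, Ideal.map] at hb
    induction hb using Submodule.span_induction with
    | mem c hc =>
      obtain ⟨a, ha, rfl⟩ := hc
      rw [algebraMap_smul]
      exact hx a ha
    | zero => exact zero_smul _ _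
    | add c d _ _ hc hd => rw [add_smul, hc, hd, add_zero]
    | smul s c _ hc => rw [smul_eq_mul, mul_smul, hc, smul_zero]
  refine ⟨g, ⟨⟨hginj, ?_⟩, injective_restrictScalars_of_flat (R := R) hf.isInjective⟩⟩
  intro N hN
  obtain ⟨y, ⟨hyN, ⟨z, hz⟩⟩, hy0⟩ := (Submodule.ne_bot_iff _).1 (hsocR.essential N hN)
  rw [Ne, Submodule.eq_bot_iff]
  push Not
  refine ⟨y, ⟨hyN, hrange y (socle_le_range f hf.toIsEssentialInj y (hsoc y ?_))⟩, hy0⟩
  intro a ha
  rw [← hz]
  have := z.2
  rw [Submodule.mem_torsionBySet_iff] at this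
  exact this ⟨a, ha⟩

end Groth.Agent.Lib.InjHull7_helper3
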