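import Mathlib
import Groth.Prelude.Def_Wider
import Groth.Prelude.Def_CAlg
import Groth.Agent.Lib.Matlis6_helper5
import Groth.Agent.Lib.GorFlat_helper9

/-!
# Base change of the injective hull of the residue field along a flat local homomorphism with
Artinian Gorenstein closed fibre (helper2)
-/

universe u

open TensorProduct IsLocalRing

namespace Groth.Agent.Lib.InjHullGorFib

section socle

variable {B : Type u} [CommRing B] [IsLocalRing B] {I : Type u} [AddCommGroup I] [Module B I]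

open Groth.Agent.Matlis in
lemma isSimpleModule_hom_of_socle {y : I} (h0 : y ≠ 0) (h1 : ∀ a ∈ maximalIdeal B, a • y = 0)
    (h2 : ∀ e : I, (∀ a ∈ maximalIdeal B, a • e = 0) → ∃ c : B, e = c • y) :
    IsSimpleModule B (ResidueField B →ₗ[B] I) := by
  rw [isSimpleModule_iff_toSpanSingleton_surjective]
  constructor
  · refine ⟨⟨ofSocle y h1, 0, fun h => h0 ?_⟩⟩
    have := congrArg (fun g => g 1) h
    simpa [ofSocle_one] using this
  · intro φ hφ ψ
    obtain ⟨c, hc⟩ := h2 (φ 1) (hom_one_socle φ)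
    obtain ⟨d, hd⟩ := h2 (ψ 1) (hom_one_socle ψ)
    have hu : IsUnit c := by
      by_contra hnu
      apply hφ
      apply hom_ext_one
      rw [hc, h1 c ((mem_maximalIdeal c).mpr hnu), LinearMap.zero_apply]
    obtain ⟨u, rfl⟩ := hu
    refine ⟨d * ((u⁻¹ : Bˣ) : B), hom_ext_one ?_⟩
    rw [LinearMap.toSpanSingleton_apply, LinearMap.smul_apply, hc, hd, ← mul_smul, mul_assoc,
      Units.inv_mul, mul_one]

lemma mk_mem_max (𝔞 : Ideal B) [IsLocalRing (B ⧸ 𝔞)] {c : B} (hc : c ∈ maximalIdeal B) :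
    Ideal.Quotient.mk 𝔞 c ∈ maximalIdeal (B ⧸ 𝔞) := by
  haveI : IsLocalHom (Ideal.Quotient.mk 𝔞) :=
    IsLocalHom.of_surjective _ Ideal.Quotient.mk_surjective
  rw [IsLocalRing.mem_maximalIdeal, mem_nonunits_iff] at hc ⊢
  exact fun h => hc (isUnit_of_map_unit (Ideal.Quotient.mk 𝔞) c h)

lemma mem_max_of_mk (𝔞 : Ideal B) [IsLocalRing (B ⧸ 𝔞)] {c : B}
    (hc : Ideal.Quotient.mk 𝔞 c ∈ maximalIdeal (B ⧸ 𝔞)) : c ∈ maximalIdeal B := by
  rw [IsLocalRing.mem_maximalIdeal, mem_nonunits_iff] at hc ⊢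
  exact fun h => hc (h.map _)

end socle

section main

variable (A : Type u) [CommRing A] [IsLocalRing A] [IsNoetherianRing A] (B : Type u) [CommRing B]
  [IsLocalRing B] [IsNoetherianRing B] [Algebra A B] [Module.Flat A B]

local notation "𝔞" => Ideal.map (algebraMap A B) (maximalIdeal A)

omit [IsLocalRing B] [IsNoetherianRing A] [IsNoetherianRing B] [Module.Flat A B] in
/-- elements killed by `m_A` are killed by `m_A B` -/
lemma smul_eq_zero_of_mem_map {X : Type u} [AddCommGroup X] [Module B X] (x : X)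
    (hx : ∀ a ∈ maximalIdeal A, algebraMap A B a • x = 0) (c : B) (hc : c ∈ 𝔞) : c • x = 0 := by
  induction hc using Submodule.span_induction with
  | mem c hc =>
    obtain ⟨a, ha, rfl⟩ := hc
    exact hx a ha
  | zero => exact zero_smul _ _
  | add c d _ _ hc hd => rw [add_smul, hc, hd, add_zero]
  | smul s c _ hc => rw [smul_eq_mul, mul_smul, hc, smul_zero]

variable {A B}
variable {E : Type u} [AddCommGroup E] [Module A E]

/-- S11359 -/
theorem main
    (hG : LocCoh.IsGorensteinLocalRing (B ⧸ 𝔞))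
    (hArt : IsArtinianRing (B ⧸ 𝔞))
    (f : ResidueField A →ₗ[A] E) (hf : InjHull.IsInjectiveHull f) :
    ∃ g : ResidueField B →ₗ[B] B ⊗[A] E, InjHull.IsInjectiveHull g := by
  classical
  haveI := hG.toIsLocalRing
  haveI := hf.isInjective
  have hy := Groth.Agent.Matlis.isSocleGen_of_isEssentialInj hf.toIsEssentialInj
  -- the structure map is local
  have h𝔞ne : 𝔞 ≠ ⊤ := Ideal.Quotient.nontrivial_iff.mp inferInstance
  have h𝔞le : 𝔞 ≤ maximalIdeal B := IsLocalRing.le_maximalIdeal h𝔞ne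
  haveI : IsLocalHom (algebraMap A B) :=
    ((IsLocalRing.local_hom_TFAE (algebraMap A B)).out 0 2).mpr h𝔞le
  -- a power of `m_B` lies in `m_A B`
  obtain ⟨r, hr⟩ : ∃ r : ℕ, maximalIdeal B ^ r ≤ 𝔞 := by
    obtain ⟨r, hr⟩ := (isArtinianRing_iff_isNilpotent_maximalIdeal (B ⧸ 𝔞)).mp hArt
    refine ⟨r, ?_⟩
    have hmap : (maximalIdeal B).map (Ideal.Quotient.mk 𝔞) ≤ maximalIdeal (B ⧸ 𝔞) := by
      rw [Ideal.map_le_iff_le_comap]
      intro c hc
      exact mk_mem_max 𝔞 hc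
    intro c hc
    have h1 : Ideal.Quotient.mk 𝔞 c ∈ ((maximalIdeal B).map (Ideal.Quotient.mk 𝔞)) ^ r := by
      rw [← Ideal.map_pow]
      exact Ideal.mem_map_of_mem _ hc
    have h2 := Ideal.pow_right_mono hmap r h1
    rw [hr] at h2
    exact Ideal.Quotient.eq_zero_iff_mem.mp (by simpa using h2)
  have hpow : ∀ n : ℕ, maximalIdeal B ^ (r * n) ≤ (maximalIdeal A ^ n).map (algebraMap A B) := by
    intro n
    rw [pow_mul, Ideal.map_pow]
    exact Ideal.pow_right_mono hr n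
  -- type one of the fibre
  have h0 : ringKrullDim (B ⧸ 𝔞) = 0 :=
    ringKrullDimZero_iff_ringKrullDim_eq_zero.mp inferInstance
  obtain ⟨s, hs0, hs, hgen⟩ := (Groth.Agent.GorFlat9.gorenstein_iff_typeOne (B ⧸ 𝔞) h0).mp hG
  obtain ⟨s₀, rfl⟩ := Ideal.Quotient.mk_surjective s
  let f' : (A ⧸ maximalIdeal A) →ₗ[A] E := f
  have hf'inj : Function.Injective f' := hf.injective
  -- (T) `b ⊗ y₀` is killed by `m_A`
  have hT0 : ∀ (b : B) (a : A), a ∈ maximalIdeal A →
      algebraMap A B a • (b ⊗ₜ[A] (f' 1) : B ⊗[A] E) = 0 := by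
    intro b a ha
    have hy' : a • f' 1 = 0 := hy.smul_eq_zero a ha
    rw [TensorProduct.smul_tmul', smul_eq_mul, ← Algebra.smul_def, TensorProduct.smul_tmul,
      hy', TensorProduct.tmul_zero]
  have hker1 : ∀ c ∈ 𝔞, (c ⊗ₜ[A] (f' 1) : B ⊗[A] E) = 0 := by
    intro c hc
    have := smul_eq_zero_of_mem_map A B ((1 : B) ⊗ₜ[A] (f' 1) : B ⊗[A] E) (hT0 1) c hc
    rwa [TensorProduct.smul_tmul', smul_eq_mul, mul_one] at this
  -- (ii) the kernel of `b ↦ b ⊗ y₀`
  have hker2 : ∀ b : B, (b ⊗ₜ[A] (f' 1) : B ⊗[A] E) = 0 → b ∈ 𝔞 := by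
    intro b hb
    have hinj : Function.Injective (f'.lTensor B) :=
      Module.Flat.lTensor_preserves_injective_linearMap f' hf'inj
    have h1 : (f'.lTensor B) (b ⊗ₜ[A] (1 : A ⧸ maximalIdeal A)) = 0 := by
      rw [LinearMap.lTensor_tmul]; exact hb
    have hb1 : (b ⊗ₜ[A] (1 : A ⧸ maximalIdeal A) : B ⊗[A] (A ⧸ maximalIdeal A)) = 0 :=
      hinj (h1.trans (map_zero _).symm)
    have h3 : Algebra.TensorProduct.quotIdealMapEquivTensorQuot B (maximalIdeal A)
        (Ideal.Quotient.mk 𝔞 b) = 0 := hb1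
    have h4 : Ideal.Quotient.mk 𝔞 b = 0 := by
      have := congrArg (Algebra.TensorProduct.quotIdealMapEquivTensorQuot B (maximalIdeal A)).symm h3
      rwa [AlgEquiv.symm_apply_apply, map_zero] at this
    exact Ideal.Quotient.eq_zero_iff_mem.mp h4
  -- (iii) elements killed by `m_A`
  haveI : Module.FinitePresentation A (A ⧸ maximalIdeal A) :=
    Module.finitePresentation_of_finite A _
  have hT : ∀ x : B ⊗[A] E, (∀ a ∈ maximalIdeal A, algebraMap A B a • x = 0) →
      ∃ b : B, x = b ⊗ₜ[A] (f' 1) := by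
    intro x hx
    have hx𝔞 := smul_eq_zero_of_mem_map A B x hx
    let Ψ : (B ⧸ 𝔞) →ₗ[B] B ⊗[A] E :=
      Submodule.liftQ 𝔞 (LinearMap.toSpanSingleton B (B ⊗[A] E) x) (fun c hc => by
        rw [LinearMap.mem_ker, LinearMap.toSpanSingleton_apply]; exact hx𝔞 c hc)
    let Φ : B ⊗[A] (A ⧸ maximalIdeal A) →ₗ[B] B ⊗[A] E :=
      Ψ ∘ₗ (Algebra.TensorProduct.quotIdealMapEquivTensorQuot B
        (maximalIdeal A)).symm.toLinearEquiv.toLinearMap
    have hΦ : Φ ((1 : B) ⊗ₜ[A] (1 : A ⧸ maximalIdeal A)) = x := by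
      have e1 : (Algebra.TensorProduct.quotIdealMapEquivTensorQuot B (maximalIdeal A)).symm
          ((1 : B) ⊗ₜ[A] (1 : A ⧸ maximalIdeal A)) = 1 := by
        rw [← Algebra.TensorProduct.one_def, map_one]
      show Ψ ((Algebra.TensorProduct.quotIdealMapEquivTensorQuot B (maximalIdeal A)).symm
          ((1 : B) ⊗ₜ[A] (1 : A ⧸ maximalIdeal A))) = x
      rw [e1]
      show Submodule.liftQ _ _ _ (Submodule.Quotient.mk (1 : B)) = x
      rw [Submodule.liftQ_apply, LinearMap.toSpanSingleton_apply, one_smul]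
    obtain ⟨z, hz⟩ := (Groth.Agent.Matlis.homBaseChangeEquiv (B := B)
      (A ⧸ maximalIdeal A) E).surjective Φ
    have key : ∀ z : B ⊗[A] ((A ⧸ maximalIdeal A) →ₗ[A] E), ∃ b : B,
        (Groth.Agent.Matlis.homBaseChangeEquiv (B := B) (A ⧸ maximalIdeal A) E z)
          ((1 : B) ⊗ₜ[A] (1 : A ⧸ maximalIdeal A)) = b ⊗ₜ[A] (f' 1) := by
      intro z
      induction z using TensorProduct.induction_on with
      | zero => exact ⟨0, by rw [map_zero, LinearMap.zero_apply, TensorProduct.zero_tmul]⟩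
      | tmul b' g =>
        have hg1 : ∀ a ∈ maximalIdeal A, a • g 1 = 0 := by
          intro a ha
          have h1 : a • (1 : A ⧸ maximalIdeal A) = 0 := by
            rw [Algebra.smul_def, mul_one]
            exact Ideal.Quotient.eq_zero_iff_mem.mpr ha
          rw [← map_smul, h1, map_zero]
        obtain ⟨c, hc⟩ := hy.exists_eq_smul (g 1) hg1
        refine ⟨c • b', ?_⟩
        show (Module.FinitePresentation.isBaseChange_map A (A ⧸ maximalIdeal A) E B).equiv
          (b' ⊗ₜ g) ((1 : B) ⊗ₜ[A] (1 : A ⧸ maximalIdeal A)) = _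
        rw [IsBaseChange.equiv_tmul, LinearMap.smul_apply]
        show b' • (g.baseChange B) ((1 : B) ⊗ₜ[A] (1 : A ⧸ maximalIdeal A)) = _
        rw [LinearMap.baseChange_tmul, TensorProduct.smul_tmul', smul_eq_mul, mul_one, hc,
          TensorProduct.smul_tmul]
        rfl
      | add z w hz hw =>
        obtain ⟨b1, h1⟩ := hz
        obtain ⟨b2, h2⟩ := hw
        exact ⟨b1 + b2, by rw [map_add, LinearMap.add_apply, h1, h2, TensorProduct.add_tmul]⟩
    obtain ⟨b, hb⟩ := key z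
    exact ⟨b, by rw [← hΦ, ← hz, hb]⟩
  -- the socle generator
  have h0x : (s₀ ⊗ₜ[A] (f' 1) : B ⊗[A] E) ≠ 0 := by
    intro h
    exact hs0 (Ideal.Quotient.eq_zero_iff_mem.mpr (hker2 s₀ h))
  have h1x : ∀ c ∈ maximalIdeal B, c • (s₀ ⊗ₜ[A] (f' 1) : B ⊗[A] E) = 0 := by
    intro c hc
    have h1 := hs _ (mk_mem_max 𝔞 hc)
    rw [← map_mul, Ideal.Quotient.eq_zero_iff_mem] at h1
    rw [TensorProduct.smul_tmul', smul_eq_mul]
    exact hker1 _ h1
  have h2x : ∀ x : B ⊗[A] E, (∀ c ∈ maximalIdeal B, c • x = 0) →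
      ∃ c₀ : B, x = c₀ • (s₀ ⊗ₜ[A] (f' 1) : B ⊗[A] E) := by
    intro x hx
    obtain ⟨b, rfl⟩ := hT x (fun a ha => hx _ (h𝔞le (Ideal.mem_map_of_mem _ ha)))
    have hsoc : ∀ c' ∈ maximalIdeal (B ⧸ 𝔞), c' * Ideal.Quotient.mk 𝔞 b = 0 := by
      intro c' hc'
      obtain ⟨c, rfl⟩ := Ideal.Quotient.mk_surjective c'
      have hc := mem_max_of_mk 𝔞 hc'
      have h1 := hx c hc
      rw [TensorProduct.smul_tmul', smul_eq_mul] at h1
      rw [← map_mul]
      exact Ideal.Quotient.eq_zero_iff_mem.mpr (hker2 _ h1)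
    obtain ⟨c₁, hc₁⟩ := hgen _ hsoc
    obtain ⟨c₀, rfl⟩ := Ideal.Quotient.mk_surjective c₁
    refine ⟨c₀, ?_⟩
    rw [← map_mul, ← sub_eq_zero, ← map_sub, Ideal.Quotient.eq_zero_iff_mem] at hc₁
    have h2 := hker1 _ hc₁
    rw [TensorProduct.sub_tmul, sub_eq_zero] at h2
    rw [h2, TensorProduct.smul_tmul', smul_eq_mul]
  have hsimple : IsSimpleModule B (ResidueField B →ₗ[B] B ⊗[A] E) :=
    isSimpleModule_hom_of_socle h0x h1x h2x
  -- apply the length criterion
  have hcof' : ∀ N : ℕ, (maximalIdeal A ^ N).map (algebraMap A B) ≤ maximalIdeal B ^ N := by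
    intro N
    rw [Ideal.map_pow]
    exact Ideal.pow_right_mono h𝔞le N
  apply Groth.Agent.Matlis.injectiveHull_of_length (A := B) (I := B ⊗[A] E) ?_ ?_
    (fun n => (maximalIdeal A ^ n).map (algebraMap A B))
    (fun n => ⟨r * n, hpow n⟩) (fun N => ⟨N, hcof' N⟩) ?_
  · -- power torsion
    intro t
    induction t using TensorProduct.induction_on with
    | zero => exact ⟨0, fun a _ => smul_zero a⟩
    | tmul b e =>
      obtain ⟨n, hn⟩ := hy.isPowerTorsion e
      have key : ∀ c ∈ (maximalIdeal A ^ n).map (algebraMap A B),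
          c • (b ⊗ₜ[A] e : B ⊗[A] E) = 0 := by
        intro c hc
        rw [Ideal.map] at hc
        induction hc using Submodule.span_induction with
        | mem c hc =>
          obtain ⟨r', hr', rfl⟩ := hc
          rw [TensorProduct.smul_tmul', smul_eq_mul, ← Algebra.smul_def, TensorProduct.smul_tmul,
            hn r' hr', TensorProduct.tmul_zero]
        | zero => exact zero_smul _ _
        | add c d _ _ hc hd => rw [add_smul, hc, hd, add_zero]
        | smul s c _ hc => rw [smul_eq_mul, mul_smul, hc, smul_zero]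
      exact ⟨r * n, fun a ha => key a (hpow n ha)⟩
    | add x y hx hy' =>
      obtain ⟨n1, h1⟩ := hx
      obtain ⟨n2, h2⟩ := hy'
      refine ⟨max n1 n2, fun a ha => ?_⟩
      rw [smul_add, h1 a (Ideal.pow_le_pow_right (le_max_left _ _) ha),
        h2 a (Ideal.pow_le_pow_right (le_max_right _ _) ha), add_zero]
  · -- the socle
    obtain ⟨J, hJ, ⟨e0⟩⟩ := isSimpleModule_iff_quot_maximal.mp hsimple
    obtain rfl := eq_maximalIdeal hJ
    exact ⟨e0⟩
  · -- lengths
    intro n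
    have hMn : IsFiniteLength A (A ⧸ maximalIdeal A ^ n) :=
      Groth.Agent.Matlis.isFiniteLength_quotient_of_pow_le _ n le_rfl
    let eQ : (B ⧸ (maximalIdeal A ^ n).map (algebraMap A B)) ≃ₗ[B]
        B ⊗[A] (A ⧸ maximalIdeal A ^ n) :=
      (Algebra.TensorProduct.quotIdealMapEquivTensorQuot B (maximalIdeal A ^ n)).toLinearEquiv
    have h1 : Module.length B (B ⧸ (maximalIdeal A ^ n).map (algebraMap A B)) =
        Module.length A (A ⧸ maximalIdeal A ^ n) * Module.length B (B ⧸ 𝔞) := by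
      rw [eQ.length_eq, IsLocalRing.length_baseChange A B (A ⧸ maximalIdeal A ^ n)]
    haveI : Module.FinitePresentation A (A ⧸ maximalIdeal A ^ n) :=
      Module.finitePresentation_of_finite A _
    have e1 : ((B ⧸ (maximalIdeal A ^ n).map (algebraMap A B)) →ₗ[B] B ⊗[A] E) ≃ₗ[B]
        (B ⊗[A] (A ⧸ maximalIdeal A ^ n) →ₗ[B] B ⊗[A] E) :=
      LinearEquiv.congrLeft (B ⊗[A] E) B eQ
    have e2 : B ⊗[A] ((A ⧸ maximalIdeal A ^ n) →ₗ[A] E) ≃ₗ[B]
        (B ⊗[A] (A ⧸ maximalIdeal A ^ n) →ₗ[B] B ⊗[A] E) :=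
      Groth.Agent.Matlis.homBaseChangeEquiv (B := B) (A ⧸ maximalIdeal A ^ n) E
    have h2 : Module.length B ((B ⧸ (maximalIdeal A ^ n).map (algebraMap A B)) →ₗ[B] B ⊗[A] E) =
        Module.length A (A ⧸ maximalIdeal A ^ n) * Module.length B (B ⧸ 𝔞) := by
      have h3 : Module.length B
          ((B ⧸ (maximalIdeal A ^ n).map (algebraMap A B)) →ₗ[B] B ⊗[A] E) =
          Module.length B (B ⊗[A] (A ⧸ maximalIdeal A ^ n) →ₗ[B] B ⊗[A] E) :=
        LinearEquiv.length_eq (R := B)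
          (M := (B ⧸ (maximalIdeal A ^ n).map (algebraMap A B)) →ₗ[B] B ⊗[A] E)
          (N := B ⊗[A] (A ⧸ maximalIdeal A ^ n) →ₗ[B] B ⊗[A] E) e1
      have h4 : Module.length B (B ⊗[A] ((A ⧸ maximalIdeal A ^ n) →ₗ[A] E)) =
          Module.length B (B ⊗[A] (A ⧸ maximalIdeal A ^ n) →ₗ[B] B ⊗[A] E) :=
        LinearEquiv.length_eq (R := B) (M := B ⊗[A] ((A ⧸ maximalIdeal A ^ n) →ₗ[A] E))
          (N := B ⊗[A] (A ⧸ maximalIdeal A ^ n) →ₗ[B] B ⊗[A] E) e2
      rw [h3, ← h4, IsLocalRing.length_baseChange A B ((A ⧸ maximalIdeal A ^ n) →ₗ[A] E),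
        Groth.Agent.Matlis.length_hom hy _ hMn]
    show Module.length B (B ⧸ (maximalIdeal A ^ n).map (algebraMap A B)) =
      Module.length B ((B ⧸ (maximalIdeal A ^ n).map (algebraMap A B)) →ₗ[B] B ⊗[A] E)
    rw [h1, h2]

end main

end Groth.Agent.Lib.InjHullGorFib
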