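import Mathlib
import Groth.Prelude
import Groth.Agent.Lib.InjTilde3_helper2
import Groth.Agent.Lib.ExtSecAff1_helper2
import Groth.Agent.Lib.CohDev10_helper8
import Groth.Agent.Lib.SheafHomLF1_helper9
import Groth.Agent.Lib.HomShAdj1_helper2

set_option autoImplicit false
universe u
open CategoryTheory CategoryTheory.Limits AlgebraicGeometry TopologicalSpace Opposite Abelian

namespace Groth.Agent.Lib.InjTildeH2

noncomputable section

variable {X : Scheme.{u}}

theorem exists_idealSheaf [IsLocallyNoetherian X] {U : X.Opens} (hU : IsAffineOpen U)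
    (𝔞 : Ideal Γ(X, U)) : ∃ 𝒥 : X.IdealSheafData, 𝒥.ideal ⟨U, hU⟩ = 𝔞 := by
  let q : Γ(X, U) ⟶ CommRingCat.of (Γ(X, U) ⧸ 𝔞) := CommRingCat.ofHom (Ideal.Quotient.mk 𝔞)
  let f : Spec (CommRingCat.of (Γ(X, U) ⧸ 𝔞)) ⟶ X := Spec.map q ≫ hU.fromSpec
  haveI : QuasiCompact f := inferInstance
  refine ⟨f.ker, ?_⟩
  rw [Scheme.Hom.ker_apply]
  have h1 : f.app U = q ≫ (Scheme.ΓSpecIso _).inv ≫
      (Spec (CommRingCat.of (Γ(X, U) ⧸ 𝔞))).presheaf.map (homOfLE le_top).op := by
    simp only [f, Scheme.Hom.comp_app, IsAffineOpen.fromSpec_app_self, Category.assoc]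
    rw [(Spec.map q).naturality, Scheme.ΓSpecIso_inv_naturality_assoc]
    rfl
  have hW : f ⁻¹ᵁ U = ⊤ := by
    show (Spec.map q ≫ hU.fromSpec) ⁻¹ᵁ U = ⊤
    rw [Scheme.Hom.comp_preimage, hU.fromSpec_preimage_self]
    rfl
  haveI : IsIso (homOfLE (le_top : f ⁻¹ᵁ U ≤ ⊤)) :=
    ⟨homOfLE (hW ▸ le_rfl : ⊤ ≤ f ⁻¹ᵁ U), Subsingleton.elim _ _, Subsingleton.elim _ _⟩
  haveI : IsIso ((Spec (CommRingCat.of (Γ(X, U) ⧸ 𝔞))).presheaf.map
      (homOfLE (le_top : f ⁻¹ᵁ U ≤ ⊤)).op) := inferInstance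
  have hinj : Function.Injective ((Scheme.ΓSpecIso (CommRingCat.of (Γ(X, U) ⧸ 𝔞))).inv ≫
      (Spec (CommRingCat.of (Γ(X, U) ⧸ 𝔞))).presheaf.map
        (homOfLE (le_top : f ⁻¹ᵁ U ≤ ⊤)).op).hom :=
    (ConcreteCategory.bijective_of_isIso _).1
  rw [h1]
  ext a
  rw [RingHom.mem_ker]
  show ((Scheme.ΓSpecIso (CommRingCat.of (Γ(X, U) ⧸ 𝔞))).inv ≫
      (Spec (CommRingCat.of (Γ(X, U) ⧸ 𝔞))).presheaf.map
        (homOfLE (le_top : f ⁻¹ᵁ U ≤ ⊤)).op).hom (Ideal.Quotient.mk 𝔞 a) = 0 ↔ a ∈ 𝔞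
  rw [← Ideal.Quotient.eq_zero_iff_mem]
  constructor
  · intro h
    exact hinj (h.trans (map_zero _).symm)
  · intro h
    rw [h, map_zero]

/-- isomorphic additive functors have isomorphic right derived functors -/
def rightDerivedIso {C D : Type*} [Category C] [Category D] [Abelian C]
    [HasInjectiveResolutions C] [Abelian D] {F G : C ⥤ D} [F.Additive] [G.Additive] (e : F ≅ G)
    (n : ℕ) : F.rightDerived n ≅ G.rightDerived n where
  hom := NatTrans.rightDerived e.hom n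
  inv := NatTrans.rightDerived e.inv n
  hom_inv_id := by rw [← NatTrans.rightDerived_comp, e.hom_inv_id, NatTrans.rightDerived_id]
  inv_hom_id := by rw [← NatTrans.rightDerived_comp, e.inv_hom_id, NatTrans.rightDerived_id]

/-- a coherent module with prescribed cyclic module of sections over an affine open -/
theorem exists_coh_sections [IsLocallyNoetherian X] {U : X.Opens} (hU : IsAffineOpen U)
    (𝔞 : Ideal Γ(X, U)) :
    ∃ G : X.Modules, Coh.IsCoh G ∧ Nonempty ((Γ(X, U) ⧸ 𝔞) ≃ₗ[Γ(X, U)] Γ(G, U)) := by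
  obtain ⟨𝒥, h𝒥⟩ := exists_idealSheaf hU 𝔞
  let O := Coh.structureModule X
  have hO : Coh.IsCoh O := CohDevH8.isCoh_structureModule X
  haveI : O.IsQuasicoherent := hO.1
  refine ⟨CohDevH8.quotJ 𝒥 O, CohDevH8.isCoh_quotJ 𝒥 O hO, ?_⟩
  let e := CohDevH8.sectionsOOEquiv (X := X) U
  let ψ : Γ(X, U) →ₗ[Γ(X, U)] Γ(CohDevH8.quotJ 𝒥 O, U) :=
    (StalkInjH6.apLin (CohDevH8.quotJπ 𝒥 O) U).comp e.toLinearMap
  have hsurj : Function.Surjective ψ := by
    intro y
    obtain ⟨m, hm⟩ := NilAffH8.unit_app_surjective 𝒥.subschemeι O hU y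
    exact ⟨e.symm m, by
      show (CohDevH8.quotJπ 𝒥 O).app U (e (e.symm m)) = y
      rw [e.apply_symm_apply]
      exact hm⟩
  have hker : LinearMap.ker ψ = 𝔞 := by
    ext a
    rw [LinearMap.mem_ker, ← h𝒥]
    constructor
    · intro ha
      have h1 := NilAffH8.unit_app_ker 𝒥.subschemeι O hU (e a) ha
      rw [Scheme.IdealSheafData.ker_subschemeι] at h1
      have h2 : ∀ m ∈ (𝒥.ideal ⟨U, hU⟩ • (⊤ : Submodule Γ(X, U) Γ(O, U))),
          e.symm m ∈ 𝒥.ideal ⟨U, hU⟩ := by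
        intro m hm
        refine Submodule.smul_induction_on hm (fun r hr x _ => ?_) (fun x y hx hy => ?_)
        · rw [map_smul]
          exact Ideal.mul_mem_right _ _ hr
        · rw [map_add]
          exact Ideal.add_mem _ hx hy
      have h3 := h2 _ h1
      rwa [e.symm_apply_apply] at h3
    · intro ha
      have h1 : ψ a = a • ψ 1 := by
        rw [← map_smul, smul_eq_mul, mul_one]
      rw [h1]
      exact CohDevH8.killed_quotJ 𝒥 O ⟨U, hU⟩ a ha _
  exact ⟨(Submodule.quotEquivOfEq _ _ hker.symm).trans (ψ.quotKerEquivOfSurjective hsurj)⟩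

/-- Baer's criterion in terms of `Ext¹` of cyclic modules -/
theorem baer_of_ext_one {A : Type u} [CommRing A] (M : Type u) [AddCommGroup M] [Module A M]
    (h : ∀ 𝔞 : Ideal A, ∀ x : Ext (ModuleCat.of A (A ⧸ 𝔞)) (ModuleCat.of A M) 1, x = 0) :
    Module.Baer A M := by
  intro 𝔞 φ
  let S : ShortComplex (ModuleCat.{u} A) :=
    ShortComplex.mk (ModuleCat.ofHom (Submodule.subtype 𝔞)) (ModuleCat.ofHom (Submodule.mkQ 𝔞))
      (by
        ext x
        show Submodule.mkQ 𝔞 (x : A) = 0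
        rw [Submodule.mkQ_apply, Submodule.Quotient.mk_eq_zero]
        exact x.2)
  have hS : S.ShortExact := by
    refine ModuleCat.shortComplex_shortExact S ?_ ?_ ?_
    · intro y
      show Submodule.mkQ 𝔞 y = 0 ↔ y ∈ Set.range (Submodule.subtype 𝔞)
      rw [Submodule.mkQ_apply, Submodule.Quotient.mk_eq_zero]
      constructor
      · intro hy
        exact ⟨⟨y, hy⟩, rfl⟩
      · rintro ⟨z, rfl⟩
        exact z.2
    · exact Subtype.val_injective
    · exact Submodule.mkQ_surjective 𝔞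
  obtain ⟨x₂, hx₂⟩ := Ext.contravariant_sequence_exact₁ hS (ModuleCat.of A M)
    (Ext.mk₀ (ModuleCat.ofHom φ)) (n₁ := 1) (by norm_num) (h 𝔞 _)
  obtain ⟨ψ, rfl⟩ := (Ext.mk₀_bijective _ _).2 x₂
  rw [Ext.mk₀_comp_mk₀] at hx₂
  have h3 := (Ext.mk₀_bijective _ _).1 hx₂
  refine ⟨ψ.hom, fun x hx => ?_⟩
  have := congrArg (fun g => g.hom ⟨x, hx⟩) h3
  exact this

attribute [local instance] Groth.Agent.Lib.RelExtSchH2.hsh Groth.Agent.Lib.ExtShCohH2.hir

theorem subsingleton_sections_of_isZero {E : X.Modules} (hE : IsZero E) (U : X.Opens) :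
    Subsingleton Γ(E, U) := by
  refine ⟨fun a b => ?_⟩
  have h : (𝟙 E : E ⟶ E) = 0 := hE.eq_of_src _ _
  have h2 : ∀ s : Γ(E, U), s = 0 := fun s => by
    have := congrArg (fun φ : E ⟶ E => (φ.app U).hom s) h
    exact this
  rw [h2 a, h2 b]

/-- **S11163** -/
theorem main11163 [IsLocallyNoetherian X] [HasInjectiveResolutions X.Modules] (F : X.Modules)
    (hF : Coh.IsQCoh F) :
    Injective F ↔ ∀ (G : X.Modules) [DCoh.HasSheafHom G] [(DCoh.sheafHom G).Additive],
      Coh.IsCoh G → IsZero (((DCoh.sheafHom G).rightDerived 1).obj F) := by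
  haveI : F.IsQuasicoherent := hF
  constructor
  · intro hI G _ _ _
    haveI := hI
    exact Functor.isZero_rightDerived_obj_injective_succ _ 0 F
  · intro h
    apply Groth.Agent.Lib.LocInjH4.injective_of_locally_injective
    intro x
    obtain ⟨U, hU, hxU, -⟩ :=
      exists_isAffineOpen_mem_and_subset (X := X) (x := x) (U := ⊤) trivial
    refine ⟨U, hxU, injective_restrict_of_injective_sections F hU ?_⟩
    haveI : IsNoetherianRing Γ(X, U) := IsLocallyNoetherian.component_noetherian ⟨U, hU⟩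
    apply Module.Baer.injective
    apply baer_of_ext_one
    intro 𝔞 x
    obtain ⟨G, hG, ⟨eG⟩⟩ := exists_coh_sections hU 𝔞
    haveI : G.IsQuasicoherent := hG.1
    haveI : Module.Finite Γ(X, U) Γ(G, U) := Module.Finite.equiv eG
    haveI : DCoh.HasSheafHom G := (Groth.Agent.Lib.HomShAdjH2.tensorHomAdj G).isLeftAdjoint
    haveI : (DCoh.sheafHom G).Additive := SheafHomLFH9.dcoh_additive G
    have hz := h G hG
    have hz' : IsZero ((ModSite.extSh (O := X.sheaf) G 1).obj F) := by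
      let D : ModSite.Mod X.sheaf ⥤ ModSite.Mod X.sheaf := DCoh.sheafHom G
      haveI : D.Additive := ‹(DCoh.sheafHom G).Additive›
      have e : D ≅ ModSite.sheafHom (O := X.sheaf) G := SheafHomLFH9.dcohIso G
      have hzD : IsZero ((D.rightDerived 1).obj F) := hz
      exact hzD.of_iso ((rightDerivedIso e 1).app F).symm
    obtain ⟨eE⟩ := Groth.Agent.Lib.ExtSecAffH2.main hU G F 1
    haveI hsub : Subsingleton Γ((ModSite.extSh (O := X.sheaf) G 1).obj F, U) :=
      subsingleton_sections_of_isZero hz' U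
    let c := Groth.Agent.Lib.ExtSecAffH2.extCongrLeft (R := Γ(X, U)) eG.toModuleIso
      (ModuleCat.of Γ(X, U) Γ(F, U)) 1
    have h0 : c x = 0 := by
      apply eE.symm.injective
      exact Subsingleton.elim _ _
    exact c.injective (h0.trans (map_zero c).symm)

end

end Groth.Agent.Lib.InjTildeH2
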