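import Mathlib

/-!
# Exponent of inseparability and the compositum with `k^{p^{-e}}` (helper3)
-/

set_option autoImplicit false

namespace Groth.Agent.Lib.InsepExpH3

open Polynomial IntermediateField

universe u

variable {k : Type u} [Field k] (p : ℕ) [Fact p.Prime] [CharP k p]
    {K : Type u} [Field K] [Algebra k K]
    {Ω : Type u} [Field Ω] [Algebra k Ω] [Algebra K Ω] [IsScalarTower k K Ω] (e : ℕ)

variable (k Ω) in
/-- `k^{p^{-e}}` inside `Ω`. -/
abbrev F : IntermediateField k Ω :=
  IntermediateField.adjoin k {y : Ω | y ^ (p ^ e) ∈ Set.range (algebraMap k Ω)}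

theorem pow_mem_range (z : Ω) (hz : z ∈ F k p Ω e) :
    ∃ r : k, algebraMap k Ω r = z ^ (p ^ e) := by
  haveI : CharP Ω p := charP_of_injective_algebraMap (algebraMap k Ω).injective p
  haveI : ExpChar Ω p := ExpChar.prime Fact.out
  let S' : IntermediateField k Ω :=
    Subfield.toIntermediateField
      (Subfield.comap (iterateFrobenius Ω p e) (algebraMap k Ω).fieldRange) (fun r => by
        rw [Subfield.mem_comap, iterateFrobenius_def, ← map_pow]
        exact ⟨r ^ (p ^ e), rfl⟩)
  have hle : F k p Ω e ≤ S' := by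
    rw [adjoin_le_iff]
    rintro y ⟨r, hr⟩
    show iterateFrobenius Ω p e y ∈ (algebraMap k Ω).fieldRange
    rw [iterateFrobenius_def]
    exact ⟨r, hr⟩
  have h1 : iterateFrobenius Ω p e z ∈ (algebraMap k Ω).fieldRange := hle hz
  rw [iterateFrobenius_def] at h1
  exact h1

theorem forward
    (h : ∀ x : Ω, x ∈ F k p Ω e ⊔ IntermediateField.adjoin k (Set.range (algebraMap K Ω)) →
      IsSeparable (F k p Ω e) x) (x : K) : x ^ (p ^ e) ∈ separableClosure k K := by
  haveI : CharP Ω p := charP_of_injective_algebraMap (algebraMap k Ω).injective p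
  haveI : ExpChar Ω p := ExpChar.prime Fact.out
  rw [mem_separableClosure_iff]
  have hx : IsSeparable (F k p Ω e) (algebraMap K Ω x) :=
    h _ ((le_sup_right : _ ≤ F k p Ω e ⊔ IntermediateField.adjoin k (Set.range (algebraMap K Ω)))
      (subset_adjoin k _ ⟨x, rfl⟩))
  let Φ := iterateFrobenius Ω p e
  let ψ : F k p Ω e →+* Ω := Φ.comp (algebraMap (F k p Ω e) Ω)
  have hψ : ∀ z : F k p Ω e, ψ z = (z : Ω) ^ (p ^ e) := fun z => iterateFrobenius_def ..
  have hsep : ((minpoly (F k p Ω e) (algebraMap K Ω x)).map ψ).Separable :=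
    Polynomial.Separable.map (show (minpoly (F k p Ω e) (algebraMap K Ω x)).Separable from hx)
  have hlift : (minpoly (F k p Ω e) (algebraMap K Ω x)).map ψ ∈
      Polynomial.lifts (algebraMap k Ω) := by
    rw [Polynomial.lifts_iff_coeff_lifts]
    intro n
    rw [Polynomial.coeff_map]
    obtain ⟨r, hr⟩ := pow_mem_range p e _
      ((minpoly (F k p Ω e) (algebraMap K Ω x)).coeff n).2
    exact ⟨r, by rw [hr, hψ]⟩
  obtain ⟨h', hh'⟩ := (Polynomial.mem_lifts _).1 hlift
  have hsep' : h'.Separable := by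
    rw [← Polynomial.separable_map (algebraMap k Ω), hh']
    exact hsep
  have hroot : Polynomial.aeval ((algebraMap K Ω x) ^ (p ^ e)) h' = 0 := by
    rw [Polynomial.aeval_def, ← Polynomial.eval_map, hh', Polynomial.eval_map]
    have h1 : Polynomial.eval₂ ψ (Φ (algebraMap K Ω x)) (minpoly (F k p Ω e) (algebraMap K Ω x)) =
        Φ (Polynomial.eval₂ (algebraMap (F k p Ω e) Ω) (algebraMap K Ω x)
          (minpoly (F k p Ω e) (algebraMap K Ω x))) :=
      (Polynomial.hom_eval₂ _ (algebraMap (F k p Ω e) Ω) Φ (algebraMap K Ω x)).symm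
    rw [show (algebraMap K Ω x) ^ (p ^ e) = Φ (algebraMap K Ω x) from
      (iterateFrobenius_def ..).symm, h1, ← Polynomial.aeval_def, minpoly.aeval, map_zero]
  have hsepΩ : IsSeparable k ((algebraMap K Ω x) ^ (p ^ e)) :=
    hsep'.of_dvd (minpoly.dvd k _ hroot)
  rw [← map_pow] at hsepΩ
  unfold IsSeparable at hsepΩ ⊢
  rwa [minpoly.algebraMap_eq (algebraMap K Ω).injective] at hsepΩ

theorem sep_of_pow [IsAlgClosed Ω] (x : K) (hx : x ^ (p ^ e) ∈ separableClosure k K) :
    IsSeparable (F k p Ω e) (algebraMap K Ω x) := by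
  haveI : CharP Ω p := charP_of_injective_algebraMap (algebraMap k Ω).injective p
  haveI : ExpChar Ω p := ExpChar.prime Fact.out
  rw [mem_separableClosure_iff] at hx
  have hg : (minpoly k (x ^ (p ^ e))).Separable := hx
  let Φ := iterateFrobenius Ω p e
  let ψ : F k p Ω e →+* Ω := Φ.comp (algebraMap (F k p Ω e) Ω)
  have hlift : (minpoly k (x ^ (p ^ e))).map (algebraMap k Ω) ∈ Polynomial.lifts ψ := by
    rw [Polynomial.lifts_iff_coeff_lifts]
    intro n
    rw [Polynomial.coeff_map]
    obtain ⟨c, hc⟩ := IsAlgClosed.exists_pow_nat_eq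
      (algebraMap k Ω ((minpoly k (x ^ (p ^ e))).coeff n)) (pow_pos (Fact.out : p.Prime).pos e)
    have hcF : c ∈ F k p Ω e := subset_adjoin k _ ⟨(minpoly k (x ^ (p ^ e))).coeff n, hc.symm⟩
    refine ⟨⟨c, hcF⟩, ?_⟩
    show Φ c = _
    rw [iterateFrobenius_def, hc]
  obtain ⟨G, hG⟩ := (Polynomial.mem_lifts _).1 hlift
  have hGsep : G.Separable := by
    rw [← Polynomial.separable_map ψ, hG]
    exact hg.map
  have hroot : Polynomial.aeval (algebraMap K Ω x) G = 0 := by
    apply Φ.injective
    rw [map_zero, Polynomial.aeval_def, Polynomial.hom_eval₂, ← Polynomial.eval_map]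
    show Polynomial.eval (Φ (algebraMap K Ω x)) (G.map ψ) = 0
    rw [hG, Polynomial.eval_map, iterateFrobenius_def, ← map_pow, ← Polynomial.aeval_def,
      Polynomial.aeval_algebraMap_apply, minpoly.aeval, map_zero]
  exact hGsep.of_dvd (minpoly.dvd _ _ hroot)

theorem backward [IsAlgClosed Ω] (h : ∀ x : K, x ^ (p ^ e) ∈ separableClosure k K) (z : Ω)
    (hz : z ∈ F k p Ω e ⊔ IntermediateField.adjoin k (Set.range (algebraMap K Ω))) :
    IsSeparable (F k p Ω e) z := by
  have hle : F k p Ω e ⊔ IntermediateField.adjoin k (Set.range (algebraMap K Ω)) ≤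
      (separableClosure (F k p Ω e) Ω).restrictScalars k := by
    apply sup_le
    · intro y hy
      show y ∈ separableClosure (F k p Ω e) Ω
      exact (separableClosure (F k p Ω e) Ω).algebraMap_mem ⟨y, hy⟩
    · rw [adjoin_le_iff]
      rintro _ ⟨x, rfl⟩
      show algebraMap K Ω x ∈ separableClosure (F k p Ω e) Ω
      rw [mem_separableClosure_iff]
      exact sep_of_pow p e x (h x)
  exact mem_separableClosure_iff.1 (hle hz)

theorem main [IsAlgClosed Ω] :
    (∀ x : Ω, x ∈ F k p Ω e ⊔ IntermediateField.adjoin k (Set.range (algebraMap K Ω)) →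
      IsSeparable (F k p Ω e) x) ↔ ∀ x : K, x ^ (p ^ e) ∈ separableClosure k K :=
  ⟨fun h x => forward p e h x, fun h z hz => backward p e h z hz⟩

end Groth.Agent.Lib.InsepExpH3
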