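import Mathlib

/-!
# Kähler differentials of a simple inseparable extension (helper3)

`K = E[T]/(P)` with `P' = 0`: `Ω_{K/E}` is one-dimensional and
`dim_E Ω_{E/k} ≤ dim_K Ω_{K/k} ≤ dim_E Ω_{E/k} + 1`.
-/

set_option autoImplicit false
universe u

open Polynomial TensorProduct

namespace Groth.Agent.Lib.InsepKaehlerH3

/-- Descent of a derivation-like function along a surjective algebra map. -/
theorem exists_derivation_of_surjective {k A B N : Type*} [CommRing k] [CommRing A] [CommRing B]
    [Algebra k A] [Algebra k B] [AddCommGroup N] [Module B N] [Module k N] [IsScalarTower k B N]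
    (π : A →ₐ[k] B) (hπ : Function.Surjective π) (φ : A → N)
    (hadd : ∀ a b, φ (a + b) = φ a + φ b)
    (hmul : ∀ a b, φ (a * b) = π a • φ b + π b • φ a)
    (hconst : ∀ c : k, φ (algebraMap k A c) = 0)
    (hker : ∀ a, π a = 0 → φ a = 0) :
    ∃ D : Derivation k B N, ∀ a, D (π a) = φ a := by
  have h0 : φ 0 = 0 := by
    have := hadd 0 0
    rw [add_zero] at this
    have h2 : φ 0 + 0 = φ 0 + φ 0 := by rw [add_zero]; exact this
    exact (add_left_cancel h2).symm
  have hsub : ∀ a b, φ (a - b) = φ a - φ b := by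
    intro a b
    have := hadd (a - b) b
    rw [sub_add_cancel] at this
    rw [this, add_sub_cancel_right]
  have hwd : ∀ a b, π a = π b → φ a = φ b := by
    intro a b hab
    have : φ (a - b) = 0 := hker _ (by rw [map_sub, hab, sub_self])
    rw [hsub] at this
    exact sub_eq_zero.mp this
  have hkey : ∀ a, φ (Function.surjInv hπ (π a)) = φ a := by
    intro a
    exact hwd _ _ (Function.surjInv_eq hπ (π a))
  let L : B →ₗ[k] N :=
    { toFun := fun x => φ (Function.surjInv hπ x)
      map_add' := by
        intro x y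
        obtain ⟨a, rfl⟩ := hπ x
        obtain ⟨b, rfl⟩ := hπ y
        show φ (Function.surjInv hπ (π a + π b)) = φ (Function.surjInv hπ (π a)) +
          φ (Function.surjInv hπ (π b))
        rw [← map_add, hkey, hkey, hkey, hadd]
      map_smul' := by
        intro c x
        obtain ⟨a, rfl⟩ := hπ x
        show φ (Function.surjInv hπ (c • π a)) = c • φ (Function.surjInv hπ (π a))
        have : c • π a = π (algebraMap k A c * a) := by
          rw [map_mul, AlgHom.commutes, Algebra.smul_def]
        rw [this, hkey, hkey, hmul, hconst, smul_zero, add_zero, AlgHom.commutes,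
          algebraMap_smul] }
  have hL : ∀ a, L (π a) = φ a := hkey
  refine ⟨Derivation.mk' L ?_, ?_⟩
  · intro x y
    obtain ⟨a, rfl⟩ := hπ x
    obtain ⟨b, rfl⟩ := hπ y
    rw [← map_mul, hL, hL, hL, hmul]
  · intro a
    exact hL a

section

variable (k E : Type u) [Field k] [Field E] [Algebra k E] (P : E[X])

/-- The "coefficientwise differential evaluated at the root". -/
noncomputable def coeffD (f : E[X]) : AdjoinRoot P ⊗[E] Ω[E⁄k] :=
  PolynomialModule.eval (AdjoinRoot.root P)
    (PolynomialModule.map (AdjoinRoot P) (TensorProduct.mk E (AdjoinRoot P) Ω[E⁄k] 1)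
      ((KaehlerDifferential.D k E).mapCoeffs f))

theorem coeffD_add (f g : E[X]) : coeffD k E P (f + g) = coeffD k E P f + coeffD k E P g := by
  simp only [coeffD, map_add]

theorem coeffD_mul (f g : E[X]) :
    coeffD k E P (f * g) = AdjoinRoot.mk P f • coeffD k E P g +
      AdjoinRoot.mk P g • coeffD k E P f := by
  have h1 : ∀ p : E[X], (p.map (algebraMap E (AdjoinRoot P))).eval (AdjoinRoot.root P) =
      AdjoinRoot.mk P p := by
    intro p
    rw [Polynomial.eval_map, ← Polynomial.aeval_def, AdjoinRoot.aeval_eq]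
  simp only [coeffD, Derivation.leibniz, map_add, PolynomialModule.map_smul,
    PolynomialModule.eval_smul, h1]

theorem coeffD_C (e : E) : coeffD k E P (C e) = 1 ⊗ₜ[E] KaehlerDifferential.D k E e := by
  simp only [coeffD, Derivation.mapCoeffs_C, PolynomialModule.map_single,
    PolynomialModule.eval_single, pow_zero, one_smul, TensorProduct.mk_apply]

end

end Groth.Agent.Lib.InsepKaehlerH3

namespace Groth.Agent.Lib.InsepKaehlerH3

section

variable (k E : Type u) [Field k] [Field E] [Algebra k E] (P : E[X])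

/-- The `E`-derivation `d/dT` on `E[T]/(P)` when `P' = 0`. -/
theorem exists_derivation_root (hP : Polynomial.derivative P = 0) :
    ∃ D : Derivation E (AdjoinRoot P) (AdjoinRoot P),
      ∀ f : E[X], D (AdjoinRoot.mk P f) = AdjoinRoot.mk P (derivative f) := by
  obtain ⟨D, hD⟩ := exists_derivation_of_surjective (k := E) (A := E[X]) (B := AdjoinRoot P)
    (N := AdjoinRoot P) (Polynomial.aeval (AdjoinRoot.root P))
    (by
      intro x
      obtain ⟨f, rfl⟩ := AdjoinRoot.mk_surjective x
      exact ⟨f, AdjoinRoot.aeval_eq f⟩)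
    (fun f => AdjoinRoot.mk P (derivative f))
    (by intro a b; simp only [derivative_add, map_add])
    (by
      intro a b
      simp only [derivative_mul, map_add, map_mul, AdjoinRoot.aeval_eq, smul_eq_mul]
      ring)
    (by
      intro c
      rw [Polynomial.algebraMap_apply, Algebra.algebraMap_self_apply, derivative_C, map_zero])
    (by
      intro a ha
      rw [AdjoinRoot.aeval_eq, AdjoinRoot.mk_eq_zero] at ha
      obtain ⟨q, rfl⟩ := ha
      rw [derivative_mul, hP, zero_mul, zero_add, map_mul, AdjoinRoot.mk_self, zero_mul])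
  refine ⟨D, fun f => ?_⟩
  rw [← hD f, AdjoinRoot.aeval_eq]

theorem finrank_kaehler_adjoinRoot [Fact (Irreducible P)] (hP : Polynomial.derivative P = 0) :
    Module.finrank (AdjoinRoot P) (Ω[AdjoinRoot P⁄E]) = 1 := by
  obtain ⟨D2, hD2⟩ := exists_derivation_root E P hP
  set t := AdjoinRoot.root P with ht
  have hspan : ∀ w : Ω[AdjoinRoot P⁄E], ∃ c : AdjoinRoot P,
      c • KaehlerDifferential.D E (AdjoinRoot P) t = w := by
    intro w
    have hw : w ∈ Submodule.span (AdjoinRoot P)
        (Set.range (KaehlerDifferential.D E (AdjoinRoot P))) := by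
      rw [KaehlerDifferential.span_range_derivation]; trivial
    induction hw using Submodule.span_induction with
    | mem x hx =>
      obtain ⟨y, rfl⟩ := hx
      obtain ⟨f, rfl⟩ := AdjoinRoot.mk_surjective y
      refine ⟨Polynomial.aeval t (derivative f), ?_⟩
      rw [← Derivation.map_aeval, ht, AdjoinRoot.aeval_eq]
    | zero => exact ⟨0, zero_smul _ _⟩
    | add x y _ _ hx hy =>
      obtain ⟨c, rfl⟩ := hx
      obtain ⟨c', rfl⟩ := hy
      exact ⟨c + c', add_smul _ _ _⟩
    | smul a x _ hx =>
      obtain ⟨c, rfl⟩ := hx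
      exact ⟨a * c, mul_smul _ _ _⟩
  have hle : Module.finrank (AdjoinRoot P) (Ω[AdjoinRoot P⁄E]) ≤ 1 := finrank_le_one _ hspan
  have hfin : Module.Finite (AdjoinRoot P) (Ω[AdjoinRoot P⁄E]) := by
    refine ⟨⟨{KaehlerDifferential.D E (AdjoinRoot P) t}, ?_⟩⟩
    rw [eq_top_iff]
    intro w _
    obtain ⟨c, rfl⟩ := hspan w
    refine Submodule.smul_mem _ _ (Submodule.subset_span ?_)
    simp
  have hne : KaehlerDifferential.D E (AdjoinRoot P) t ≠ 0 := by
    intro h0
    have h1 : D2.liftKaehlerDifferential (KaehlerDifferential.D E (AdjoinRoot P) t) = 1 := by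
      rw [Derivation.liftKaehlerDifferential_comp_D, ht, ← AdjoinRoot.mk_X, hD2, derivative_X,
        map_one]
    rw [h0, map_zero] at h1
    exact zero_ne_one h1
  have hpos : 0 < Module.finrank (AdjoinRoot P) (Ω[AdjoinRoot P⁄E]) :=
    Module.finrank_pos_iff_exists_ne_zero.mpr ⟨_, hne⟩
  omega

end

end Groth.Agent.Lib.InsepKaehlerH3

namespace Groth.Agent.Lib.InsepKaehlerH3

section

variable (k E : Type u) [Field k] [Field E] [Algebra k E] (P : E[X])

/-- The `k`-derivation of `E[T]/(P)` into `(K ⊗ Ω_{E/k}) / (ω_P)` extending `d_{E/k}`. -/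
theorem exists_derivation_quot :
    ∃ D : Derivation k (AdjoinRoot P)
        ((AdjoinRoot P ⊗[E] Ω[E⁄k]) ⧸
          Submodule.span (AdjoinRoot P) {coeffD k E P P}),
      ∀ f : E[X], D (AdjoinRoot.mk P f) = Submodule.Quotient.mk (coeffD k E P f) := by
  set S := Submodule.span (AdjoinRoot P) {coeffD k E P P} with hS
  obtain ⟨D, hD⟩ := exists_derivation_of_surjective (k := k) (A := E[X]) (B := AdjoinRoot P)
    (N := (AdjoinRoot P ⊗[E] Ω[E⁄k]) ⧸ S)
    ((Polynomial.aeval (R := E) (AdjoinRoot.root P)).restrictScalars k)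
    (by
      intro x
      obtain ⟨f, rfl⟩ := AdjoinRoot.mk_surjective x
      exact ⟨f, AdjoinRoot.aeval_eq f⟩)
    (fun f => Submodule.Quotient.mk (coeffD k E P f))
    (by intro a b; simp only [coeffD_add, Submodule.Quotient.mk_add])
    (by
      intro a b
      simp only [coeffD_mul, Submodule.Quotient.mk_add, Submodule.Quotient.mk_smul,
        AlgHom.restrictScalars_apply, AdjoinRoot.aeval_eq])
    (by
      intro c
      rw [IsScalarTower.algebraMap_apply k E E[X], Polynomial.algebraMap_apply,
        Algebra.algebraMap_self_apply, coeffD_C, Derivation.map_algebraMap, tmul_zero,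
        Submodule.Quotient.mk_zero])
    (by
      intro a ha
      rw [AlgHom.restrictScalars_apply, AdjoinRoot.aeval_eq, AdjoinRoot.mk_eq_zero] at ha
      obtain ⟨q, rfl⟩ := ha
      rw [coeffD_mul, AdjoinRoot.mk_self, zero_smul, zero_add, Submodule.Quotient.mk_eq_zero]
      exact Submodule.smul_mem _ _ (Submodule.subset_span rfl))
  refine ⟨D, fun f => ?_⟩
  rw [← hD f]
  simp only [AlgHom.restrictScalars_apply, AdjoinRoot.aeval_eq]

theorem mkQ_eq_comp (D : Derivation k (AdjoinRoot P)
        ((AdjoinRoot P ⊗[E] Ω[E⁄k]) ⧸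
          Submodule.span (AdjoinRoot P) {coeffD k E P P}))
    (hD : ∀ f : E[X], D (AdjoinRoot.mk P f) = Submodule.Quotient.mk (coeffD k E P f))
    (z : AdjoinRoot P ⊗[E] Ω[E⁄k]) :
    D.liftKaehlerDifferential (KaehlerDifferential.mapBaseChange k E (AdjoinRoot P) z) =
      Submodule.Quotient.mk z := by
  induction z using TensorProduct.induction_on with
  | zero => simp
  | add x y hx hy => rw [map_add, map_add, hx, hy, Submodule.Quotient.mk_add]
  | tmul x m =>
    have hm : m ∈ Submodule.span E (Set.range (KaehlerDifferential.D k E)) := by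
      rw [KaehlerDifferential.span_range_derivation]; trivial
    induction hm using Submodule.span_induction with
    | mem m hm =>
      obtain ⟨e, rfl⟩ := hm
      rw [KaehlerDifferential.mapBaseChange_tmul, KaehlerDifferential.map_D, map_smul,
        Derivation.liftKaehlerDifferential_comp_D, AdjoinRoot.algebraMap_eq, ← AdjoinRoot.mk_C,
        hD, coeffD_C, ← Submodule.Quotient.mk_smul, TensorProduct.smul_tmul', smul_eq_mul,
        mul_one]
    | zero => simp
    | add a b _ _ ha hb =>
      rw [tmul_add, map_add, map_add, ha, hb, Submodule.Quotient.mk_add]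
    | smul c a _ ha =>
      have : x ⊗ₜ[E] (c • a) = (algebraMap E (AdjoinRoot P) c) • (x ⊗ₜ[E] a) := by
        rw [TensorProduct.smul_tmul', TensorProduct.tmul_smul, algebraMap_smul,
          TensorProduct.smul_tmul']
      rw [this, map_smul, map_smul, ha, Submodule.Quotient.mk_smul]

theorem finrank_bounds [Fact (Irreducible P)] (hP : Polynomial.derivative P = 0)
    [Module.Finite E (Ω[E⁄k])] :
    Module.finrank E (Ω[E⁄k]) ≤ Module.finrank (AdjoinRoot P) (Ω[AdjoinRoot P⁄k]) ∧
      Module.finrank (AdjoinRoot P) (Ω[AdjoinRoot P⁄k]) ≤ Module.finrank E (Ω[E⁄k]) + 1 := by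
  have hM : Module.finrank (AdjoinRoot P) (AdjoinRoot P ⊗[E] Ω[E⁄k]) =
      Module.finrank E (Ω[E⁄k]) := Module.finrank_baseChange
  set f := KaehlerDifferential.mapBaseChange k E (AdjoinRoot P) with hf
  set g := KaehlerDifferential.map k E (AdjoinRoot P) (AdjoinRoot P) with hg
  have hrange : LinearMap.range f = LinearMap.ker g :=
    KaehlerDifferential.range_mapBaseChange k E (AdjoinRoot P)
  have hgsurj : Function.Surjective g := KaehlerDifferential.map_surjective k E (AdjoinRoot P)
  have h1 : Module.finrank (AdjoinRoot P) (Ω[AdjoinRoot P⁄E]) = 1 :=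
    finrank_kaehler_adjoinRoot E P hP
  -- finiteness
  have hfinKE : Module.Finite (AdjoinRoot P) (Ω[AdjoinRoot P⁄E]) :=
    Module.finite_of_finrank_eq_succ h1
  have hfinker : Module.Finite (AdjoinRoot P) (LinearMap.ker g) := by
    rw [← hrange]
    infer_instance
  have hfinquot : Module.Finite (AdjoinRoot P) ((Ω[AdjoinRoot P⁄k]) ⧸ LinearMap.ker g) :=
    Module.Finite.equiv (g.quotKerEquivOfSurjective hgsurj).symm
  have hfin : Module.Finite (AdjoinRoot P) (Ω[AdjoinRoot P⁄k]) :=
    Module.Finite.of_submodule_quotient (LinearMap.ker g)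
  -- rank-nullity
  have hrn := LinearMap.finrank_range_add_finrank_ker g
  rw [LinearMap.range_eq_top.mpr hgsurj, finrank_top, h1, ← hrange] at hrn
  have hle : Module.finrank (AdjoinRoot P) (LinearMap.range f) ≤ Module.finrank E (Ω[E⁄k]) := by
    rw [← hM]; exact LinearMap.finrank_range_le f
  -- lower bound
  obtain ⟨D, hD⟩ := exists_derivation_quot k E P
  generalize hS : Submodule.span (AdjoinRoot P) {coeffD k E P P} = S at D hD
  have hquot := Submodule.finrank_quotient_add_finrank S
  have hSle : Module.finrank (AdjoinRoot P) S ≤ 1 := by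
    refine finrank_le_one (⟨coeffD k E P P, hS ▸ Submodule.subset_span rfl⟩ : S) ?_
    rintro ⟨w, hw⟩
    rw [← hS, Submodule.mem_span_singleton] at hw
    obtain ⟨c, rfl⟩ := hw
    exact ⟨c, rfl⟩
  have hNle : Module.finrank (AdjoinRoot P) ((AdjoinRoot P ⊗[E] Ω[E⁄k]) ⧸ S) ≤
      Module.finrank (AdjoinRoot P) (LinearMap.range f) := by
    have hcomp : S.mkQ = (D.liftKaehlerDifferential) ∘ₗ f := by
      refine LinearMap.ext fun z => ?_
      rw [LinearMap.comp_apply, Submodule.mkQ_apply]
      subst hS
      exact (mkQ_eq_comp k E P D hD z).symm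
    have htop : (⊤ : Submodule (AdjoinRoot P) ((AdjoinRoot P ⊗[E] Ω[E⁄k]) ⧸ S)) =
        Submodule.map D.liftKaehlerDifferential (LinearMap.range f) := by
      rw [← LinearMap.range_comp, ← hcomp, Submodule.range_mkQ]
    rw [← finrank_top (AdjoinRoot P) ((AdjoinRoot P ⊗[E] Ω[E⁄k]) ⧸ S), htop]
    exact Submodule.finrank_map_le _ _
  rw [hM] at hquot
  constructor <;> omega

end

end Groth.Agent.Lib.InsepKaehlerH3
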