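import Mathlib
import Groth.Agent.Lib.CardPts_lead

/-!
# Local factors of `K ⊗[k] κ` for `K` algebraically closed (helper3)

For a finite field extension `κ/k` and an algebraically closed algebraic extension `K/k`, every
local factor of `K ⊗[k] κ` has length `[κ : k]_i`.
-/

universe u
open scoped TensorProduct
open IsLocalRing

namespace Groth.Agent.Lib.InsepRamH3

/-- The length of a ring over itself is invariant under ring isomorphisms. -/
theorem selfLength_eq_of_ringEquiv {S₁ S₂ : Type*} [CommRing S₁] [CommRing S₂] (e : S₁ ≃+* S₂) :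
    Module.length S₁ S₁ = Module.length S₂ S₂ := by
  letI : Algebra S₁ S₂ := e.toRingHom.toAlgebra
  have h1 : Module.length S₁ S₂ = Module.length S₂ S₂ :=
    Module.length_eq_of_surjective (S := S₁) (R := S₂) (M := S₂) e.surjective
  let l : S₁ ≃ₗ[S₁] S₂ :=
    { e with
      map_smul' := fun r x => by
        show e (r * x) = e r * e x
        exact map_mul e r x }
  rw [← h1, l.length_eq]

section aut

variable {k κ K : Type u} [Field k] [Field κ] [Field K] [Algebra k κ] [Algebra k K]
  [IsAlgClosed K] [Algebra.IsAlgebraic k K]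

/-- `Aut_k(K)` acts transitively on the `k`-embeddings of `κ` into `K`. -/
theorem exists_aut (σ₁ σ₂ : κ →ₐ[k] K) : ∃ φ : K ≃ₐ[k] K, ∀ a, φ (σ₁ a) = σ₂ a := by
  letI i₁ : Algebra κ K := σ₁.toRingHom.toAlgebra
  haveI t₁ : IsScalarTower k κ K :=
    IsScalarTower.of_algebraMap_eq (fun c => (σ₁.commutes c).symm)
  haveI a₁ : Algebra.IsAlgebraic κ K := Algebra.IsAlgebraic.tower_top (K := k) κ
  obtain ⟨ψ, hψ⟩ := IsAlgClosed.surjective_domRestrict_of_isAlgebraic (K := k) (L := κ) (M := K)
    (E := K) σ₂
  have hψ' : ∀ a, ψ (σ₁ a) = σ₂ a := fun a => DFunLike.congr_fun hψ a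
  have hbij : Function.Bijective ψ := Algebra.IsAlgebraic.algHom_bijective ψ
  exact ⟨AlgEquiv.ofBijective ψ hbij, fun a => hψ' a⟩

end aut

section closedfield

/-- A finite local algebra over an algebraically closed field has length (over itself) equal to
its dimension. -/
theorem selfLength_eq_finrank (K S : Type u) [Field K] [IsAlgClosed K] [CommRing S] [IsLocalRing S]
    [Algebra K S] [Module.Finite K S] :
    Module.length S S = Module.finrank K S := by
  have h := IsLocalRing.length_restrictScalars K S S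
  have h1 : Module.length (ResidueField K) (ResidueField S) = 1 := by
    have hbK : Function.Bijective (residue K) := by
      refine ⟨(residue K).injective, residue_surjective⟩
    haveI : IsAlgClosed (ResidueField K) :=
      IsAlgClosed.of_ringEquiv K _ (RingEquiv.ofBijective (residue K) hbK)
    haveI : Algebra.IsIntegral (ResidueField K) (ResidueField S) := Algebra.IsIntegral.of_finite _ _
    have hb : Function.Bijective (algebraMap (ResidueField K) (ResidueField S)) :=
      IsAlgClosed.algebraMap_bijective_of_isIntegral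
    rw [Module.length_eq_finrank]
    let e : ResidueField K ≃ₗ[ResidueField K] ResidueField S :=
      LinearEquiv.ofBijective (Algebra.linearMap _ _) hb
    rw [← e.finrank_eq, Module.finrank_self]
    rfl
  rw [h1, mul_one, Module.length_eq_finrank] at h
  exact h.symm

end closedfield

section tensor

variable {k κ K : Type u} [Field k] [Field κ] [Field K] [Algebra k κ] [Algebra k K]
  [IsAlgClosed K] [Algebra.IsAlgebraic k K] [Module.Finite k κ]

/-- `Aut_k(K)` acts transitively on the primes of `K ⊗[k] κ`. -/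
theorem exists_ringEquiv_comap (q₁ q₂ : Ideal (K ⊗[k] κ)) [q₁.IsPrime] [q₂.IsPrime] :
    ∃ g : (K ⊗[k] κ) ≃+* (K ⊗[k] κ), q₁ = q₂.comap g := by
  obtain ⟨ev₁, h₁⟩ := CardPts.homToPrime_surjective (k := K) (B := K ⊗[k] κ) ⟨q₁, inferInstance⟩
  obtain ⟨ev₂, h₂⟩ := CardPts.homToPrime_surjective (k := K) (B := K ⊗[k] κ) ⟨q₂, inferInstance⟩
  have h₁' : RingHom.ker (ev₁ : K ⊗[k] κ →+* K) = q₁ := congrArg PrimeSpectrum.asIdeal h₁
  have h₂' : RingHom.ker (ev₂ : K ⊗[k] κ →+* K) = q₂ := congrArg PrimeSpectrum.asIdeal h₂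
  let σ₁ : κ →ₐ[k] K := (ev₁.restrictScalars k).comp Algebra.TensorProduct.includeRight
  let σ₂ : κ →ₐ[k] K := (ev₂.restrictScalars k).comp Algebra.TensorProduct.includeRight
  obtain ⟨φ, hφ⟩ := exists_aut σ₁ σ₂
  let g : (K ⊗[k] κ) ≃ₐ[k] (K ⊗[k] κ) := Algebra.TensorProduct.congr φ AlgEquiv.refl
  have ev_tmul : ∀ (ev : K ⊗[k] κ →ₐ[K] K) (a : K) (b : κ),
      ev (a ⊗ₜ[k] b) = a * ev ((1 : K) ⊗ₜ[k] b) := by
    intro ev a b
    have : a ⊗ₜ[k] b = a • ((1 : K) ⊗ₜ[k] b) := by
      rw [TensorProduct.smul_tmul', smul_eq_mul, mul_one]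
    rw [this, map_smul, smul_eq_mul]
  have key : ∀ x, ev₂ (g x) = φ (ev₁ x) := by
    intro x
    induction x using TensorProduct.induction_on with
    | zero => simp
    | tmul a b =>
      have hg : g (a ⊗ₜ[k] b) = φ a ⊗ₜ[k] b := by
        simp [g]
      rw [hg, ev_tmul ev₂, ev_tmul ev₁, map_mul]
      congr 1
      exact (hφ b).symm
    | add x y hx hy => simp only [map_add, hx, hy]
  refine ⟨g.toRingEquiv, ?_⟩
  ext x
  rw [Ideal.mem_comap, ← h₁', ← h₂', RingHom.mem_ker, RingHom.mem_ker]
  show ev₁ x = 0 ↔ ev₂ (g x) = 0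
  rw [key]
  exact (map_eq_zero_iff φ φ.injective).symm

/-- All local factors of `K ⊗[k] κ` have the same length. -/
theorem selfLength_eq (q₁ q₂ : Ideal (K ⊗[k] κ)) [q₁.IsPrime] [q₂.IsPrime] :
    Module.length (Localization.AtPrime q₁) (Localization.AtPrime q₁) =
      Module.length (Localization.AtPrime q₂) (Localization.AtPrime q₂) := by
  obtain ⟨g, hg⟩ := exists_ringEquiv_comap q₁ q₂
  exact selfLength_eq_of_ringEquiv (Localization.localRingEquiv q₁ q₂ g hg)

theorem card_primeSpectrum : Nat.card (PrimeSpectrum (K ⊗[k] κ)) = Field.finSepDegree k κ := by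
  haveI : Algebra.IsAlgebraic k κ := Algebra.IsAlgebraic.of_finite k κ
  rw [CardPts.card_prime_eq (k := K), Field.finSepDegree_eq_of_isAlgClosed k κ K]
  exact (Nat.card_congr (AlgHom.liftEquiv k K κ K)).symm

/-- **Local factors of `K ⊗[k] κ`**: each has length `[κ : k]_i`. -/
theorem selfLength_eq_finInsepDegree (q : Ideal (K ⊗[k] κ)) [q.IsPrime] :
    Module.length (Localization.AtPrime q) (Localization.AtPrime q) =
      Field.finInsepDegree k κ := by
  haveI : IsArtinianRing (K ⊗[k] κ) := IsArtinianRing.of_finite K _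
  haveI : Finite (PrimeSpectrum (K ⊗[k] κ)) := inferInstance
  haveI : Fintype (PrimeSpectrum (K ⊗[k] κ)) := Fintype.ofFinite _
  have hfin : ∀ (p : Ideal (K ⊗[k] κ)) [p.IsPrime], Module.Finite K (Localization.AtPrime p) :=
    fun p _ => Module.Finite.of_surjective
      (Algebra.algHom K (K ⊗[k] κ) (Localization.AtPrime p)).toLinearMap
      (IsArtinianRing.localization_surjective p.primeCompl (Localization.AtPrime p))
  have hsum := IsArtinianRing.finrank_eq_sum_primeSpectrum (K ⊗[k] κ) K
  have hterm : ∀ p : PrimeSpectrum (K ⊗[k] κ),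
      (Module.finrank K (Localization.AtPrime p.asIdeal) : ℕ∞) =
        Module.length (Localization.AtPrime q) (Localization.AtPrime q) := by
    intro p
    haveI := hfin p.asIdeal
    rw [← selfLength_eq_finrank K (Localization.AtPrime p.asIdeal)]
    exact selfLength_eq p.asIdeal q
  haveI := hfin q
  have hq : Module.length (Localization.AtPrime q) (Localization.AtPrime q) =
      (Module.finrank K (Localization.AtPrime q) : ℕ∞) := selfLength_eq_finrank K _
  have hterm' : ∀ p : PrimeSpectrum (K ⊗[k] κ),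
      Module.finrank K (Localization.AtPrime p.asIdeal) =
        Module.finrank K (Localization.AtPrime q) := by
    intro p
    have := hterm p
    rw [hq] at this
    exact_mod_cast this
  rw [Finset.sum_congr rfl (fun p _ => hterm' p), Finset.sum_const, Finset.card_univ,
    smul_eq_mul, ← Nat.card_eq_fintype_card, card_primeSpectrum,
    Module.finrank_baseChange] at hsum
  have hmul := Field.finSepDegree_mul_finInsepDegree k κ
  rw [hsum] at hmul
  have hpos : 0 < Field.finSepDegree k κ := Nat.pos_of_ne_zero (NeZero.ne _)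
  have := Nat.eq_of_mul_eq_mul_left hpos hmul
  rw [hq, ← this]

end tensor

end Groth.Agent.Lib.InsepRamH3
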