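import Mathlib
import Groth.Agent.Lib.InsepRam1_helper3

/-!
# Ramification of `R → R ⊗[k] K` at primes over the closed point (helper3)

For a local `k`-algebra `R` with residue field `κ` finite over `k`, and `K/k` an algebraically
closed algebraic extension, every prime `q` of `R ⊗[k] K` over the maximal ideal of `R` satisfies
`length ((R ⊗ K)_q / m_R (R ⊗ K)_q) = [κ : k]_i`.
-/

universe u
open scoped TensorProduct
open IsLocalRing

namespace Groth.Agent.Lib.InsepRamH3

/-- Localising a surjection: `T_q / (ker ψ) T_q ≅ B'_{q'}`, on the level of lengths. -/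
theorem length_quot_eq {T B' : Type u} [CommRing T] [CommRing B'] (ψ : T →+* B')
    (hψ : Function.Surjective ψ) (q : Ideal T) [q.IsPrime] (q' : Ideal B') [q'.IsPrime]
    (hq : q = q'.comap ψ) :
    Module.length (Localization.AtPrime q)
        (Localization.AtPrime q ⧸ (RingHom.ker ψ).map (algebraMap T (Localization.AtPrime q))) =
      Module.length (Localization.AtPrime q') (Localization.AtPrime q') := by
  have hT : Submonoid.map ψ q.primeCompl = q'.primeCompl := by
    ext y
    constructor
    · rintro ⟨x, hx, rfl⟩
      intro hy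
      exact hx (hq ▸ (Ideal.mem_comap.mpr hy))
    · intro hy
      obtain ⟨x, rfl⟩ := hψ y
      refine ⟨x, ?_, rfl⟩
      intro hx
      rw [hq] at hx
      exact hy hx
  let G : Localization.AtPrime q →+* Localization.AtPrime q' :=
    IsLocalization.map (Localization.AtPrime q') ψ (hT.symm ▸ q.primeCompl.le_comap_map)
  have hker : RingHom.ker G = (RingHom.ker ψ).map (algebraMap T (Localization.AtPrime q)) :=
    IsLocalization.ker_map (Localization.AtPrime q') ψ hT
  have hsurj : Function.Surjective G := by
    haveI : IsLocalization (q.primeCompl.map ψ) (Localization.AtPrime q') := by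
      rw [hT]; infer_instance
    exact IsLocalization.map_surjective_of_surjective q.primeCompl (Localization.AtPrime q)
      (Localization.AtPrime q') hψ
  rw [← hker]
  have e := RingHom.quotientKerEquivOfSurjective hsurj
  rw [Module.length_eq_of_surjective (S := Localization.AtPrime q)
    (R := Localization.AtPrime q ⧸ RingHom.ker G) (M := Localization.AtPrime q ⧸ RingHom.ker G)
    Ideal.Quotient.mk_surjective]
  exact selfLength_eq_of_ringEquiv e

section partII

variable {k : Type u} [Field k] {R : Type u} [CommRing R] [IsLocalRing R] [Algebra k R]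
  {K : Type u} [Field K] [Algebra k K] [IsAlgClosed K] [Algebra.IsAlgebraic k K]
  [Module.Finite k (ResidueField R)]

/-- **Ramification = inseparable degree**, ring form. -/
theorem length_quot_tensor (q : Ideal (R ⊗[k] K)) [q.IsPrime]
    (hq : q.comap (algebraMap R (R ⊗[k] K)) = maximalIdeal R) :
    Module.length (Localization.AtPrime q)
        (Localization.AtPrime q ⧸
          (maximalIdeal R).map (algebraMap R (Localization.AtPrime q))) =
      Field.finInsepDegree k (ResidueField R) := by
  let f : R →ₐ[k] ResidueField R := IsScalarTower.toAlgHom k R (ResidueField R)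
  have hf : Function.Surjective f := residue_surjective
  have hkerf : RingHom.ker f = maximalIdeal R := ker_residue (R := R)
  let ψ₀ : R ⊗[k] K →ₐ[k] ResidueField R ⊗[k] K := Algebra.TensorProduct.map f (AlgHom.id k K)
  have hψ₀ : Function.Surjective ψ₀ :=
    Algebra.TensorProduct.map_surjective f (AlgHom.id k K) hf Function.surjective_id
  have hkerψ₀ : RingHom.ker ψ₀ = (maximalIdeal R).map (algebraMap R (R ⊗[k] K)) := by
    have h := Algebra.TensorProduct.rTensor_ker (R := k) (C := K) f hf
    rw [hkerf] at h
    exact h
  let c : ResidueField R ⊗[k] K ≃ₐ[k] K ⊗[k] ResidueField R :=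
    Algebra.TensorProduct.comm k (ResidueField R) K
  let ψ : R ⊗[k] K →+* K ⊗[k] ResidueField R := (c : ResidueField R ⊗[k] K →+* K ⊗[k] ResidueField R).comp
    (ψ₀ : R ⊗[k] K →+* ResidueField R ⊗[k] K)
  have hψ : Function.Surjective ψ := c.surjective.comp hψ₀
  have hkerψ : RingHom.ker ψ = (maximalIdeal R).map (algebraMap R (R ⊗[k] K)) := by
    rw [← hkerψ₀]
    ext x
    rw [RingHom.mem_ker, RingHom.mem_ker]
    show c (ψ₀ x) = 0 ↔ ψ₀ x = 0
    exact map_eq_zero_iff c c.injective
  have hle : RingHom.ker ψ ≤ q := by
    rw [hkerψ, Ideal.map_le_iff_le_comap, hq]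
  haveI hq'prime : (q.map ψ).IsPrime := Ideal.map_isPrime_of_surjective hψ hle
  have hq' : q = (q.map ψ).comap ψ := by
    rw [Ideal.comap_map_of_surjective ψ hψ q]
    refine le_antisymm le_sup_left (sup_le le_rfl ?_)
    exact hle
  have h1 := length_quot_eq ψ hψ q (q.map ψ) hq'
  rw [selfLength_eq_finInsepDegree (k := k) (κ := ResidueField R) (K := K) (q.map ψ)] at h1
  rw [← h1, hkerψ, Ideal.map_map, ← IsScalarTower.algebraMap_eq]

end partII

end Groth.Agent.Lib.InsepRamH3
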