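import Mathlib
import Groth.Prelude.Def_Curv2
import Groth.Agent.Lib.InsepRam2_helper3
import Groth.Agent.Lib.LocDeg2_helper4
import Groth.Agent.Lib.StalkDict6_helper4

/-!
# Ramification index of `X_{k̄} → X` at a closed point = inseparable degree (helper3)
-/

set_option autoImplicit false
set_option linter.style.haveILetI false
universe u
open scoped TensorProduct
open CategoryTheory CategoryTheory.Limits AlgebraicGeometry IsLocalRing

attribute [local instance] Curv2.stalkAlgebra

namespace Groth.Agent.Lib.InsepRamH3

open Groth.Agent.Lib.LocDegH4 Groth.Agent.Lib.StalkDict2H4 Groth.Agent.Lib.StalkDictH4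
  Groth.Agent.Lib.FlatPtBCH4

section eIdx

variable {X Y U : Scheme.{u}}

theorem eIdx_comp_left_of_bijective (q : U ⟶ X) (f : X ⟶ Y) (u : U)
    (h : Function.Bijective (q.stalkMap u).hom) : eIdx (q ≫ f) u = eIdx f (q u) :=
  haveI := isLocalHom_of_bijective _ h
  (congrArg eRing (stalkMap_comp_hom q f u)).trans
    (eRing_comp_left (f.stalkMap (q u)).hom (q.stalkMap u).hom (RingHom.Flat.of_bijective h)
      (map_maximalIdeal_of_surjective _ h.2))

theorem eIdx_comp_right_of_bijective {V : Scheme.{u}} (π : U ⟶ V) (g : V ⟶ Y) (u : U)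
    (h : Function.Bijective (g.stalkMap (π u)).hom) : eIdx (π ≫ g) u = eIdx π u :=
  (congrArg eRing (stalkMap_comp_hom π g u)).trans
    (eRing_comp_right (g.stalkMap (π u)).hom (π.stalkMap u).hom
      (map_maximalIdeal_of_surjective _ h.2))

theorem eIdx_congr {f g : X ⟶ Y} (h : f = g) (x : X) : eIdx f x = eIdx g x := by
  subst h; rfl

end eIdx

section ring

/-- `eRing` of the localised map at a prime over the closed point. -/
theorem eRing_localRingHom {R S : Type u} [CommRing R] [IsLocalRing R] [CommRing S] [Algebra R S]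
    (Q : Ideal S) [Q.IsPrime] (hQ : Q.under R = maximalIdeal R) :
    eRing (Localization.localRingHom (Q.under R) Q (algebraMap R S) rfl) =
      Module.length (Localization.AtPrime Q)
        (Localization.AtPrime Q ⧸ (maximalIdeal R).map (algebraMap R (Localization.AtPrime Q))) := by
  unfold eRing
  have h4 : (Localization.localRingHom (Q.under R) Q (algebraMap R S) rfl).comp
      (algebraMap R (Localization.AtPrime (Q.under R))) =
      algebraMap R (Localization.AtPrime Q) := by
    ext x
    rw [RingHom.comp_apply, Localization.localRingHom_to_map,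
      ← IsScalarTower.algebraMap_apply]
  have h5 : maximalIdeal (Localization.AtPrime (Q.under R)) =
      (Q.under R).map (algebraMap R (Localization.AtPrime (Q.under R))) :=
    Localization.AtPrime.map_eq_maximalIdeal.symm
  have h3 : (maximalIdeal (Localization.AtPrime (Q.under R))).map
      (Localization.localRingHom (Q.under R) Q (algebraMap R S) rfl) =
      (maximalIdeal R).map (algebraMap R (Localization.AtPrime Q)) := by
    rw [h5, Ideal.map_map, h4, hQ]
  rw [h3]

/-- For a local homomorphism of local rings, Mathlib's ramification index of the maximal ideal is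
`length (S / m_R S)`. -/
theorem ramificationIdx_maximalIdeal_eq {R0 S : Type u} [CommRing R0] [CommRing S]
    [IsLocalRing R0] [IsLocalRing S] [Algebra R0 S] [IsLocalHom (algebraMap R0 S)] :
    (maximalIdeal S).ramificationIdx R0 = (eRing (algebraMap R0 S)).toNat := by
  rw [← toNat_eRing_localRingHom (R := R0) (S := S) (maximalIdeal S)]
  congr 1
  symm
  have hunit : ∀ x ∈ ((maximalIdeal S).under R0).primeCompl, IsUnit x := by
    intro x hx
    have h1 : algebraMap R0 S x ∉ maximalIdeal S := hx
    have h2 : IsUnit (algebraMap R0 S x) := by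
      by_contra h
      exact h1 ((IsLocalRing.mem_maximalIdeal _).mpr h)
    exact IsLocalHom.map_nonunit x h2
  have hunitS : ∀ x ∈ (maximalIdeal S).primeCompl, IsUnit x := by
    intro x hx
    by_contra h
    exact hx ((IsLocalRing.mem_maximalIdeal _).mpr h)
  refine eRing_eq_of_bijective (algebraMap R0 S)
    (Localization.localRingHom ((maximalIdeal S).under R0) (maximalIdeal S) (algebraMap R0 S) rfl)
    (algebraMap R0 (Localization.AtPrime ((maximalIdeal S).under R0)))
    (algebraMap S (Localization.AtPrime (maximalIdeal S))) ?_ ?_ ?_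
  · exact (IsLocalization.atUnits R0 ((maximalIdeal S).under R0).primeCompl hunit
      (S := Localization.AtPrime ((maximalIdeal S).under R0))).bijective
  · exact (IsLocalization.atUnits S (maximalIdeal S).primeCompl hunitS
      (S := Localization.AtPrime (maximalIdeal S))).bijective
  · ext x
    rw [RingHom.comp_apply, Localization.localRingHom_to_map, RingHom.comp_apply]

theorem finInsepDegree_congr {F E : Type*} [Field F] [Field E] (a b : Algebra F E)
    (h : ∀ r, @algebraMap F E _ _ a r = @algebraMap F E _ _ b r) :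
    @Field.finInsepDegree F E _ _ a = @Field.finInsepDegree F E _ _ b := by
  have : a = b := Algebra.algebra_ext a b h
  subst this; rfl

theorem finite_congr {F E : Type*} [Field F] [Field E] (a b : Algebra F E)
    (h : ∀ r, @algebraMap F E _ _ a r = @algebraMap F E _ _ b r)
    (hf : @Module.Finite F E _ _ a.toModule) : @Module.Finite F E _ _ b.toModule := by
  have : a = b := Algebra.algebra_ext a b h
  subst this; exact hf

end ring

section sch

variable (k : Type u) [Field k] (X : Scheme.{u}) [X.Over (Spec (CommRingCat.of k))]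
variable (K : Type u) [Field K] [Algebra k K]

/-- The ramification of `X_K → X` at a point is computed on `𝒪_{X,x} ⊗ K`. -/
theorem eIdx_bcFst (x : X) (xb : Curv2.bc k X K) (hx : Curv2.bcFst k X K xb = x) :
    ∃ (q : Ideal (X.presheaf.stalk x ⊗[k] K)) (_ : q.IsPrime),
      q.comap (algebraMap (X.presheaf.stalk x) (X.presheaf.stalk x ⊗[k] K)) =
        maximalIdeal (X.presheaf.stalk x) ∧
      eIdx (Curv2.bcFst k X K) xb = Module.length (Localization.AtPrime q)
        (Localization.AtPrime q ⧸ (maximalIdeal (X.presheaf.stalk x)).map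
          (algebraMap (X.presheaf.stalk x) (Localization.AtPrime q))) := by
  obtain ⟨z', hz1, hz2⟩ := Scheme.Pullback.exists_preimage_pullback
    (f := X.fromSpecStalk x) (g := Curv2.bcFst k X K)
    (IsLocalRing.closedPoint _) xb (Scheme.fromSpecStalk_closedPoint.trans hx.symm)
  subst hz2
  let φ : CommRingCat.of (X.presheaf.stalk x) ⟶ CommRingCat.of (X.presheaf.stalk x ⊗[k] K) :=
    CommRingCat.ofHom (Algebra.TensorProduct.includeLeftRingHom :
        X.presheaf.stalk x →+* X.presheaf.stalk x ⊗[k] K)
  let Q : PrimeSpectrum (X.presheaf.stalk x ⊗[k] K) := (eZ k X K x).hom z'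
  have hQ : Q.asIdeal.comap (algebraMap (X.presheaf.stalk x) (X.presheaf.stalk x ⊗[k] K)) =
      maximalIdeal (X.presheaf.stalk x) := by
    have h0 : (eZ k X K x).inv ((eZ k X K x).hom z') = z' := Scheme.hom_inv_apply _ z'
    have h1 : (Spec.map φ) ((eZ k X K x).hom z') =
        IsLocalRing.closedPoint (X.presheaf.stalk x) := by
      rw [← eZ_inv_fst, Scheme.Hom.comp_apply, h0, hz1]
    exact congrArg PrimeSpectrum.asIdeal h1
  refine ⟨Q.asIdeal, Q.isPrime, hQ, ?_⟩
  have hsnd : Function.Bijective
      ((pullback.snd (X.fromSpecStalk x) (Curv2.bcFst k X K)).stalkMap z').hom := by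
    haveI := isIso_stalkMap_of_flat_of_isPreimmersion
      (pullback.snd (X.fromSpecStalk x) (Curv2.bcFst k X K)) z'
    exact ConcreteCategory.bijective_of_isIso
      ((pullback.snd (X.fromSpecStalk x) (Curv2.bcFst k X K)).stalkMap z')
  have h1 := eIdx_comp_left_of_bijective
    (pullback.snd (X.fromSpecStalk x) (Curv2.bcFst k X K)) (Curv2.bcFst k X K) z' hsnd
  have h2 : eIdx (pullback.snd (X.fromSpecStalk x) (Curv2.bcFst k X K) ≫ Curv2.bcFst k X K) z' =
      eIdx (pullback.fst (X.fromSpecStalk x) (Curv2.bcFst k X K) ≫ X.fromSpecStalk x) z' :=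
    eIdx_congr pullback.condition.symm z'
  have hfs : Function.Bijective ((X.fromSpecStalk x).stalkMap
      ((pullback.fst (X.fromSpecStalk x) (Curv2.bcFst k X K)) z')).hom := by
    haveI := isIso_stalkMap_of_flat_of_isPreimmersion (X.fromSpecStalk x)
      ((pullback.fst (X.fromSpecStalk x) (Curv2.bcFst k X K)) z')
    exact ConcreteCategory.bijective_of_isIso ((X.fromSpecStalk x).stalkMap
      ((pullback.fst (X.fromSpecStalk x) (Curv2.bcFst k X K)) z'))
  have h3 := eIdx_comp_right_of_bijective
    (pullback.fst (X.fromSpecStalk x) (Curv2.bcFst k X K)) (X.fromSpecStalk x) z' hfs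
  have hfst : pullback.fst (X.fromSpecStalk x) (Curv2.bcFst k X K) =
      (eZ k X K x).hom ≫ Spec.map φ := by
    rw [← eZ_inv_fst, Iso.hom_inv_id_assoc]
  have hez : Function.Bijective ((eZ k X K x).hom.stalkMap z').hom :=
    ConcreteCategory.bijective_of_isIso ((eZ k X K x).hom.stalkMap z')
  have h4 : eIdx (pullback.fst (X.fromSpecStalk x) (Curv2.bcFst k X K)) z' =
      eIdx (Spec.map φ) Q :=
    (eIdx_congr hfst z').trans (eIdx_comp_left_of_bijective _ _ z' hez)
  have h5 : eIdx (Spec.map φ) Q =
      eRing (Localization.localRingHom (Q.asIdeal.under (X.presheaf.stalk x)) Q.asIdeal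
        (algebraMap (X.presheaf.stalk x) (X.presheaf.stalk x ⊗[k] K)) rfl) :=
    eIdx_SpecMap_eq_eRing φ Q
  rw [← h1, h2, h3, h4, h5]
  exact eRing_localRingHom Q.asIdeal hQ

theorem isClosed_bcFst [Algebra.IsAlgebraic k K] (xb : Curv2.bc k X K)
    (hxb : IsClosed ({xb} : Set (Curv2.bc k X K))) :
    IsClosed ({Curv2.bcFst k X K xb} : Set X) := by
  haveI : IsIntegralHom (Spec.map (CommRingCat.ofHom (algebraMap k K))) := by
    rw [IsIntegralHom.SpecMap_iff]
    exact algebraMap_isIntegral_iff.mpr inferInstance
  haveI : IsIntegralHom (Curv2.bcFst k X K) := inferInstance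
  have := (Curv2.bcFst k X K).isClosedMap _ hxb
  simpa [Set.image_singleton] using this

theorem finite_resMap [LocallyOfFiniteType (X ↘ Spec (CommRingCat.of k))] (x : X)
    (hx : IsClosed ({x} : Set X)) : (Curv2.resMap k X x).Finite := by
  haveI hci := isClosed_singleton_iff_isClosedImmersion.mp hx
  have hcomp : X.fromSpecResidueField x ≫ (X ↘ Spec (CommRingCat.of k)) =
      Spec.map (CommRingCat.ofHom (Curv2.resMap k X x)) := by
    rw [Scheme.fromSpecResidueField, Category.assoc, fromSpecStalk_comp, ← Spec.map_comp]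
    rfl
  have : IsFinite (Spec.map (CommRingCat.ofHom (Curv2.resMap k X x))) := by
    rw [← hcomp, isFinite_iff_locallyOfFiniteType_of_jacobsonSpace]
    infer_instance
  exact (IsFinite.SpecMap_iff _).mp this

end sch

section final

variable (k : Type u) [Field k] (X : Scheme.{u}) [X.Over (Spec (CommRingCat.of k))]
variable (K : Type u) [Field K] [Algebra k K] [IsAlgClosed K] [Algebra.IsAlgebraic k K]

/-- **Ramification index = inseparable degree** for `X_K → X` at a closed point of `X_K`,
`K` an algebraic closure of `k`, `X` locally of finite type over `k`. -/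
theorem main6556 [LocallyOfFiniteType (X ↘ Spec (CommRingCat.of k))]
    (xb : Curv2.bc k X K) (hxb : IsClosed ({xb} : Set (Curv2.bc k X K))) :
    letI := ((Curv2.bcFst k X K).stalkMap xb).hom.toAlgebra
    letI := Curv2.resAlgebra k X (Curv2.bcFst k X K xb)
    Ideal.ramificationIdx (maximalIdeal ((Curv2.bc k X K).presheaf.stalk xb))
        (X.presheaf.stalk (Curv2.bcFst k X K xb)) =
      Field.finInsepDegree k (X.residueField (Curv2.bcFst k X K xb)) := by
  letI alg := ((Curv2.bcFst k X K).stalkMap xb).hom.toAlgebra
  haveI : IsLocalHom (algebraMap (X.presheaf.stalk (Curv2.bcFst k X K xb))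
      ((Curv2.bc k X K).presheaf.stalk xb)) :=
    show IsLocalHom ((Curv2.bcFst k X K).stalkMap xb).hom from inferInstance
  have hcl := isClosed_bcFst k X K xb hxb
  have hfin := finite_resMap k X _ hcl
  haveI : Module.Finite k (ResidueField (X.presheaf.stalk (Curv2.bcFst k X K xb))) :=
    finite_congr (Curv2.resAlgebra k X (Curv2.bcFst k X K xb)) _ (fun r => rfl) hfin
  obtain ⟨q, hqp, hq, he⟩ := eIdx_bcFst k X K (Curv2.bcFst k X K xb) xb rfl
  have hlen := length_quot_tensor (k := k) (R := X.presheaf.stalk (Curv2.bcFst k X K xb))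
    (K := K) q hq
  rw [ramificationIdx_maximalIdeal_eq]
  have he' : eRing (algebraMap (X.presheaf.stalk (Curv2.bcFst k X K xb))
      ((Curv2.bc k X K).presheaf.stalk xb)) = eIdx (Curv2.bcFst k X K) xb := rfl
  rw [he', he, hlen, ENat.toNat_coe]
  exact finInsepDegree_congr _ _ (fun r => rfl)

end final

end Groth.Agent.Lib.InsepRamH3
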