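import Mathlib
import Groth.Prelude.Def_EtRam

/-!
# Purely inseparable degree-p step for solutions: general lemmas (helper8)
-/

set_option autoImplicit false
universe u

namespace Groth.Agent.Lib.InsepSolH8

open IsLocalRing Polynomial

/-- Extension of a valuation subring along a field homomorphism, with exact contraction. -/
theorem exists_comap_eq {L M : Type u} [Field L] [Field M] (f : L →+* M)
    (V : ValuationSubring L) : ∃ W : ValuationSubring M, W.comap f = V := by
  obtain ⟨W, hW, hloc⟩ := IsLocalRing.exists_factor_valuationRing (f.comp V.subtype)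
  refine ⟨W, ?_⟩
  ext x
  rw [ValuationSubring.mem_comap]
  constructor
  · intro hx
    by_contra hxV
    have hx0 : x ≠ 0 := fun h => hxV (h ▸ V.zero_mem)
    have hinv : x⁻¹ ∈ V := (V.mem_or_inv_mem x).resolve_left hxV
    have hnu : ¬ IsUnit (⟨x⁻¹, hinv⟩ : V) := by
      intro hu
      have h1 : V.valuation x⁻¹ = 1 := (V.valuation_eq_one_iff ⟨x⁻¹, hinv⟩).mp hu
      rw [map_inv₀, inv_eq_one] at h1
      exact hxV ((V.valuation_le_one_iff x).mp h1.le)
    apply hnu
    apply hloc.map_nonunit
    have hfx0 : f x ≠ 0 := (map_ne_zero f).mpr hx0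
    refine ⟨⟨RingHom.codRestrict (f.comp V.subtype) W.toSubring hW ⟨x⁻¹, hinv⟩, ⟨f x, hx⟩,
      ?_, ?_⟩, rfl⟩
    · apply Subtype.ext
      show f x⁻¹ * f x = 1
      rw [map_inv₀, inv_mul_cancel₀ hfx0]
    · apply Subtype.ext
      show f x * f x⁻¹ = 1
      rw [map_inv₀, mul_inv_cancel₀ hfx0]
  · intro hx
    exact hW ⟨x, hx⟩

/-- An element lying in every valuation subring containing the image of `B` is integral. -/
theorem isIntegral_of_forall_valuationSubring {B Λ : Type u} [CommRing B] [Field Λ] [Algebra B Λ]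
    (x : Λ) (h : ∀ V : ValuationSubring Λ, (∀ b : B, algebraMap B Λ b ∈ V) → x ∈ V) :
    IsIntegral B x := by
  by_contra hni
  obtain ⟨ρ, hρdef⟩ : ∃ ρ : B →+* Λ, ρ = algebraMap B Λ := ⟨_, rfl⟩
  have hnot : x ∉ (integralClosure ρ.range Λ).toSubring := by
    intro hmem
    apply hni
    have hint : IsIntegral ρ.range x := hmem
    letI : Algebra B ρ.range := ρ.rangeRestrict.toAlgebra
    haveI : IsScalarTower B ρ.range Λ :=
      IsScalarTower.of_algebraMap_eq (fun a => by subst hρdef; rfl)
    haveI : Algebra.IsIntegral B ρ.range :=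
      Algebra.isIntegral_of_surjective ρ.rangeRestrict_surjective
    exact isIntegral_trans x hint
  obtain ⟨V, hVle, hxV⟩ := Subring.exists_le_valuationSubring_of_isIntegrallyClosedIn hnot
  apply hxV
  apply h V
  intro b
  apply hVle
  have : algebraMap B Λ b = algebraMap ρ.range Λ ⟨ρ b, b, rfl⟩ := by subst hρdef; rfl
  rw [this]
  exact (integralClosure ρ.range Λ).algebraMap_mem _

/-- Over a DVR, an algebraic element is a root of a polynomial with a unit coefficient. -/
theorem exists_unit_coeff {B Λ : Type u} [CommRing B] [IsDomain B] [IsDiscreteValuationRing B]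
    [Field Λ] [Algebra B Λ] (hinj : Function.Injective (algebraMap B Λ))
    (x : Λ) (hx : IsAlgebraic B x) :
    ∃ c : B[X], aeval x c = 0 ∧ ∃ k, IsUnit (c.coeff k) := by
  obtain ⟨c, hc0, hcx⟩ := hx
  have hsupp : c.support.Nonempty := by rwa [Polynomial.support_nonempty]
  obtain ⟨m, hm, hmin⟩ := Finset.exists_min_image c.support
    (fun i => IsDiscreteValuationRing.addVal B (c.coeff i)) hsupp
  have hdvd : ∀ i, c.coeff m ∣ c.coeff i := by
    intro i
    by_cases hi : i ∈ c.support
    · exact IsDiscreteValuationRing.addVal_le_iff_dvd.mp (hmin i hi)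
    · rw [Polynomial.notMem_support_iff.mp hi]; exact dvd_zero _
  obtain ⟨c', hc'⟩ := (Polynomial.C_dvd_iff_dvd_coeff _ _).mpr hdvd
  have hcm0 : c.coeff m ≠ 0 := Polynomial.mem_support_iff.mp hm
  refine ⟨c', ?_, m, ?_⟩
  · rw [hc', map_mul, aeval_C] at hcx
    rcases mul_eq_zero.mp hcx with h | h
    · exact absurd (hinj (h.trans (map_zero _).symm)) hcm0
    · exact h
  · have h0 := congrArg (fun q => q.coeff m) hc'
    simp only [coeff_C_mul] at h0
    have h1 : c'.coeff m = 1 := by
      apply mul_left_cancel₀ hcm0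
      rw [mul_one]
      exact h0.symm
    rw [h1]
    exact isUnit_one

/-- Localisation lemma: an algebraic element of a valuation subring dominating the DVR `B`
becomes integral after multiplication by an integral unit of the valuation subring. -/
theorem exists_unit_mul_integral {B Λ : Type u} [CommRing B] [IsDomain B]
    [IsDiscreteValuationRing B] [Field Λ] [Algebra B Λ]
    (hinj : Function.Injective (algebraMap B Λ))
    (W : ValuationSubring Λ) (hBW : ∀ b : B, algebraMap B Λ b ∈ W)
    (hdom : ∀ b ∈ maximalIdeal B, W.valuation (algebraMap B Λ b) < 1)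
    (x : Λ) (hxW : x ∈ W) (hx : IsAlgebraic B x) :
    ∃ s ∈ Algebra.adjoin B {x}, IsIntegral B s ∧ IsIntegral B (s * x) ∧ W.valuation s = 1 := by
  classical
  obtain ⟨c, hcx, k₀, hk₀⟩ := exists_unit_coeff hinj x hx
  obtain ⟨I, hIdef⟩ : ∃ I : Finset ℕ, I = c.support.filter (fun i => IsUnit (c.coeff i)) :=
    ⟨_, rfl⟩
  have hI : I.Nonempty :=
    ⟨k₀, by rw [hIdef]; exact Finset.mem_filter.mpr ⟨mem_support_iff.mpr hk₀.ne_zero, hk₀⟩⟩
  obtain ⟨k, hkdef⟩ : ∃ k, k = I.max' hI := ⟨_, rfl⟩
  have hkI : k ∈ I := hkdef ▸ Finset.max'_mem I hI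
  have hku : IsUnit (c.coeff k) := by
    rw [hIdef] at hkI
    exact (Finset.mem_filter.mp hkI).2
  have hgt : ∀ i, k < i → c.coeff i ∈ maximalIdeal B := by
    intro i hi
    rw [mem_maximalIdeal, mem_nonunits_iff]
    intro hu
    have hiI : i ∈ I := by
      rw [hIdef]
      exact Finset.mem_filter.mpr ⟨mem_support_iff.mpr hu.ne_zero, hu⟩
    have := Finset.le_max' I i hiI
    rw [← hkdef] at this
    omega
  obtain ⟨n, hn⟩ : ∃ n, n = c.natDegree := ⟨_, rfl⟩
  obtain ⟨b, hb⟩ : ∃ b : ℕ → Λ, b = fun i => algebraMap B Λ (c.coeff i) := ⟨_, rfl⟩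
  have hbi : ∀ i, b i = algebraMap B Λ (c.coeff i) := fun i => by rw [hb]
  have hsum : ∑ i ∈ Finset.range (n + 1), b i * x ^ i = 0 := by
    rw [← hcx, aeval_eq_sum_range, hn]
    apply Finset.sum_congr rfl
    intro i _
    rw [hbi, Algebra.smul_def]
  have hkn : k ≤ n := hn ▸ le_natDegree_of_ne_zero hku.ne_zero
  obtain ⟨s, hs⟩ : ∃ s : Λ, s = ∑ j ∈ Finset.range (n + 1 - k), b (k + j) * x ^ j := ⟨_, rfl⟩
  have hsplit : ∑ i ∈ Finset.range k, b i * x ^ i + x ^ k * s = 0 := by
    rw [← hsum, ← Finset.sum_range_add_sum_Ico _ (show k ≤ n + 1 by omega)]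
    congr 1
    rw [Finset.sum_Ico_eq_sum_range, hs, Finset.mul_sum]
    apply Finset.sum_congr rfl
    intro j _
    rw [pow_add]
    ring
  have hV : ∀ V : ValuationSubring Λ, (∀ b : B, algebraMap B Λ b ∈ V) →
      s ∈ V ∧ s * x ∈ V := by
    intro V hBV
    have hbV : ∀ i, b i ∈ V := fun i => by rw [hbi]; exact hBV _
    have hcase : ∀ hxV : x ∈ V, s ∈ V ∧ s * x ∈ V := by
      intro hxV
      have hsV : s ∈ V := by
        rw [hs]
        exact sum_mem (fun j _ => V.mul_mem _ _ (hbV _) (pow_mem hxV _))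
      exact ⟨hsV, V.mul_mem _ _ hsV hxV⟩
    rcases V.mem_or_inv_mem x with hxV | hxV
    · exact hcase hxV
    · by_cases hx0 : x = 0
      · exact hcase (hx0 ▸ V.zero_mem)
      · have hs_eq : s = - ∑ i ∈ Finset.range k, b i * (x⁻¹) ^ (k - i) := by
          have h1 : x ^ k * s = - ∑ i ∈ Finset.range k, b i * x ^ i := by
            rw [eq_neg_iff_add_eq_zero, add_comm]
            exact hsplit
          have h2 : s = (x⁻¹) ^ k * (x ^ k * s) := by
            rw [← mul_assoc, ← mul_pow, inv_mul_cancel₀ hx0, one_pow, one_mul]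
          rw [h2, h1, mul_neg, Finset.mul_sum]
          congr 1
          apply Finset.sum_congr rfl
          intro i hi
          have hik : i < k := Finset.mem_range.mp hi
          have e1 : (x⁻¹) ^ k = (x⁻¹) ^ (k - i) * (x⁻¹) ^ i := by
            rw [← pow_add]
            congr 1
            omega
          have e2 : (x⁻¹) ^ i * x ^ i = 1 := by
            rw [← mul_pow, inv_mul_cancel₀ hx0, one_pow]
          calc (x⁻¹) ^ k * (b i * x ^ i)
              = b i * (x⁻¹) ^ (k - i) * ((x⁻¹) ^ i * x ^ i) := by rw [e1]; ring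
            _ = b i * (x⁻¹) ^ (k - i) := by rw [e2, mul_one]
        have hsx_eq : s * x = - ∑ i ∈ Finset.range k, b i * (x⁻¹) ^ (k - 1 - i) := by
          rw [hs_eq, neg_mul, Finset.sum_mul]
          congr 1
          apply Finset.sum_congr rfl
          intro i hi
          have hik : i < k := Finset.mem_range.mp hi
          have e1 : (x⁻¹) ^ (k - i) = (x⁻¹) ^ (k - 1 - i) * x⁻¹ := by
            rw [← pow_succ]
            congr 1
            omega
          rw [e1, mul_assoc, mul_assoc, inv_mul_cancel₀ hx0, mul_one]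
        refine ⟨?_, ?_⟩
        · rw [hs_eq]
          exact V.neg_mem _ (sum_mem (fun i _ => V.mul_mem _ _ (hbV _) (pow_mem hxV _)))
        · rw [hsx_eq]
          exact V.neg_mem _ (sum_mem (fun i _ => V.mul_mem _ _ (hbV _) (pow_mem hxV _)))
  refine ⟨s, ?_, isIntegral_of_forall_valuationSubring s (fun V hV' => (hV V hV').1),
    isIntegral_of_forall_valuationSubring (s * x) (fun V hV' => (hV V hV').2), ?_⟩
  · rw [hs]
    refine Subalgebra.sum_mem (Algebra.adjoin B {x}) (fun j _ => ?_)
    rw [hbi]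
    have h1 : algebraMap B Λ (c.coeff (k + j)) ∈ Algebra.adjoin B {x} :=
      Subalgebra.algebraMap_mem (Algebra.adjoin B {x}) _
    have h2 : x ∈ Algebra.adjoin B {x} := Algebra.subset_adjoin rfl
    exact mul_mem h1 (pow_mem h2 _)
  · -- valuation of s
    have hnk : n + 1 - k = (n - k) + 1 := by omega
    have hs' : s = ∑ j ∈ Finset.range (n - k), b (k + (j + 1)) * x ^ (j + 1) + b k := by
      rw [hs, hnk, Finset.sum_range_succ']
      simp
    have hvx : W.valuation x ≤ 1 := (W.valuation_le_one_iff x).mpr hxW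
    have hvbk : W.valuation (b k) = 1 := by
      obtain ⟨u, hu⟩ := hku
      have h1 : b k * algebraMap B Λ (↑u⁻¹ : B) = 1 := by
        rw [hbi, ← hu, ← map_mul, Units.mul_inv, map_one]
      have h2 : W.valuation (b k) ≤ 1 := by
        rw [hbi]; exact (W.valuation_le_one_iff _).mpr (hBW _)
      have h3 : W.valuation (algebraMap B Λ (↑u⁻¹ : B)) ≤ 1 :=
        (W.valuation_le_one_iff _).mpr (hBW _)
      have h4 : W.valuation (b k) * W.valuation (algebraMap B Λ (↑u⁻¹ : B)) = 1 := by
        rw [← map_mul, h1, map_one]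
      rcases lt_or_eq_of_le h2 with h5 | h5
      · exfalso
        have := mul_lt_one_of_lt_of_le h5 h3
        rw [h4] at this
        exact lt_irrefl _ this
      · exact h5
    have hrest : W.valuation (∑ j ∈ Finset.range (n - k), b (k + (j + 1)) * x ^ (j + 1)) < 1 := by
      apply Valuation.map_sum_lt W.valuation one_ne_zero
      intro j _
      rw [map_mul, map_pow]
      have h1 : W.valuation (b (k + (j + 1))) < 1 := by
        rw [hbi]
        exact hdom _ (hgt _ (by omega))
      exact mul_lt_one_of_lt_of_le h1 (pow_le_one' hvx _)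
    rw [hs', add_comm, Valuation.map_add_eq_of_lt_left _ (by rw [hvbk]; exact hrest), hvbk]

end Groth.Agent.Lib.InsepSolH8
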