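import Mathlib
import Groth.Prelude.Def_EtRam

/-!
# Purely inseparable degree-p step for solutions: the approximation lemma (helper8)
-/

set_option autoImplicit false
universe u

namespace Groth.Agent.Lib.InsepSolH8

variable {Λ : Type u} [Field Λ]

/-- truncated polynomial expression `∑_{i<p} a_i x^i` -/
def psum (p : ℕ) (a : ℕ → Λ) (x : Λ) : Λ := ∑ i ∈ Finset.range p, a i * x ^ i

theorem psum_smul (p : ℕ) (t : Λ) (a : ℕ → Λ) (x : Λ) :
    psum p (fun i => t * a i) x = t * psum p a x := by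
  unfold psum
  rw [Finset.mul_sum]
  apply Finset.sum_congr rfl
  intro i _
  ring

theorem psum_mem (W : ValuationSubring Λ) (p : ℕ) (a : ℕ → Λ) (x : Λ) (hx : x ∈ W)
    (ha : ∀ i < p, a i ∈ W) : psum p a x ∈ W := by
  unfold psum
  exact sum_mem (fun i hi => W.mul_mem _ _ (ha i (Finset.mem_range.mp hi)) (pow_mem hx _))

theorem key_diff (W : ValuationSubring Λ) (p : ℕ) (z ζ : Λ) (hz : z ∈ W) (hζ : ζ ∈ W)
    (a : ℕ → Λ) (ha : ∀ i < p, a i ∈ W) :
    ∃ w ∈ W, psum p a ζ - psum p a z = (ζ - z) * w := by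
  refine ⟨∑ i ∈ Finset.range p, a i * ∑ j ∈ Finset.range i, ζ ^ j * z ^ (i - 1 - j), ?_, ?_⟩
  · refine sum_mem (fun i hi => W.mul_mem _ _ (ha i (Finset.mem_range.mp hi)) ?_)
    exact sum_mem (fun j _ => W.mul_mem _ _ (pow_mem hζ _) (pow_mem hz _))
  · unfold psum
    rw [← Finset.sum_sub_distrib, Finset.mul_sum]
    apply Finset.sum_congr rfl
    intro i _
    rw [← mul_sub, ← geom_sum₂_mul ζ z i]
    ring

theorem exists_delta (W : ValuationSubring Λ) (p : ℕ) [hp : Fact p.Prime] [CharP Λ p]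
    (π z ζ : Λ) (c : ℕ) (hπ0 : π ≠ 0) (hζ : ζ ∈ W)
    (h : ζ ^ p - z ^ p = π ^ (p * (c + 2)) * ζ) : ∃ d ∈ W, ζ - z = π ^ (c + 2) * d := by
  have hπc : π ^ (c + 2) ≠ 0 := pow_ne_zero _ hπ0
  refine ⟨(ζ - z) / π ^ (c + 2), ?_, by field_simp⟩
  have h1 : ((ζ - z) / π ^ (c + 2)) ^ p = ζ := by
    rw [div_pow, sub_pow_char, h, ← pow_mul, mul_comm (c + 2) p]
    field_simp
  have h2 : W.valuation ((ζ - z) / π ^ (c + 2)) ^ p ≤ 1 := by
    rw [← map_pow, h1]
    exact (W.valuation_le_one_iff ζ).mpr hζ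
  exact (W.valuation_le_one_iff _).mp ((pow_le_one_iff hp.out.ne_zero).mp h2)

theorem key_A (W : ValuationSubring Λ) (p : ℕ) (F : Subfield Λ) (π z ζ d : Λ) (c : ℕ)
    (hπ0 : π ≠ 0) (hπW : π ∈ W) (hz : z ∈ W) (hζ : ζ ∈ W) (hd : d ∈ W)
    (hδ : ζ - z = π ^ (c + 2) * d)
    (hb : ∀ a : ℕ → Λ, (∀ i, a i ∈ F) → psum p a z ∈ W → ∀ i < p, π ^ c * a i ∈ W)
    (a : ℕ → Λ) (ha : ∀ i, a i ∈ F) (h : psum p a z ∈ W) :
    ∃ w ∈ W, psum p a ζ - psum p a z = π * w := by
  obtain ⟨w, hw, hdiff⟩ := key_diff W p z ζ hz hζ (fun i => π ^ c * a i) (hb a ha h)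
  rw [psum_smul, psum_smul, ← mul_sub, hδ] at hdiff
  refine ⟨π * d * w, W.mul_mem _ _ (W.mul_mem _ _ hπW hd) hw, ?_⟩
  have hπc : π ^ c ≠ 0 := pow_ne_zero _ hπ0
  apply mul_left_cancel₀ hπc
  rw [hdiff]
  ring

theorem key_B (W : ValuationSubring Λ) (p : ℕ) (hp : 0 < p) (F : Subfield Λ) (π z ζ d : Λ)
    (c : ℕ) (hπ0 : π ≠ 0) (hπW : π ∈ W) (hπF : π ∈ F) (hπinv : π⁻¹ ∉ W)
    (hz : z ∈ W) (hζ : ζ ∈ W) (hd : d ∈ W) (hδ : ζ - z = π ^ (c + 2) * d)
    (hb : ∀ a : ℕ → Λ, (∀ i, a i ∈ F) → psum p a z ∈ W → ∀ i < p, π ^ c * a i ∈ W)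
    (a : ℕ → Λ) (ha : ∀ i, a i ∈ F) (h : psum p a ζ ∈ W) : psum p a z ∈ W := by
  obtain ⟨m, hm, hmax⟩ := Finset.exists_max_image (Finset.range p)
    (fun i => W.valuation (a i)) ⟨0, Finset.mem_range.mpr hp⟩
  have hmp : m < p := Finset.mem_range.mp hm
  by_cases ht : a m = 0
  · have hall : ∀ i < p, a i = 0 := by
      intro i hi
      have h1 := hmax i (Finset.mem_range.mpr hi)
      simp only [ht, map_zero, le_zero_iff, map_eq_zero] at h1
      exact h1
    have : psum p a z = 0 := by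
      unfold psum
      apply Finset.sum_eq_zero
      intro i hi
      rw [hall i (Finset.mem_range.mp hi), zero_mul]
    rw [this]
    exact W.zero_mem
  · obtain ⟨t, htdef⟩ : ∃ t, t = a m := ⟨_, rfl⟩
    have ht0 : t ≠ 0 := htdef ▸ ht
    have htF : t ∈ F := htdef ▸ ha m
    obtain ⟨a', ha'def⟩ : ∃ a' : ℕ → Λ, a' = fun i => t⁻¹ * a i := ⟨_, rfl⟩
    have ha'i : ∀ i, a' i = t⁻¹ * a i := fun i => by rw [ha'def]
    have ha'F : ∀ i, a' i ∈ F := fun i => by
      rw [ha'i]; exact F.mul_mem (F.inv_mem htF) (ha i)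
    have ha'W : ∀ i < p, a' i ∈ W := by
      intro i hi
      rw [ha'i, ← W.valuation_le_one_iff, map_mul, map_inv₀]
      have h1 : W.valuation (a i) ≤ W.valuation t := htdef ▸ hmax i (Finset.mem_range.mpr hi)
      have h2 : W.valuation t ≠ 0 := (map_ne_zero _).mpr ht0
      rw [inv_mul_le_iff₀ (zero_lt_iff.mpr h2), mul_one]
      exact h1
    have ha'm : a' m = 1 := by rw [ha'i, ← htdef, inv_mul_cancel₀ ht0]
    have hpsa' : ∀ x, psum p a' x = t⁻¹ * psum p a x := fun x => by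
      rw [ha'def, psum_smul]
    have hata' : ∀ i, a i = t * a' i := fun i => by
      rw [ha'i, ← mul_assoc, mul_inv_cancel₀ ht0, one_mul]
    obtain ⟨w, hw, hdiff⟩ := key_diff W p z ζ hz hζ a' ha'W
    rw [hδ] at hdiff
    by_cases htW : t ∈ W
    · exact psum_mem W p a z hz (fun i hi => by
        rw [hata']; exact W.mul_mem _ _ htW (ha'W i hi))
    · have hπc1 : π ^ (c + 1) ≠ 0 := pow_ne_zero _ hπ0
      have hT : π ^ (c + 1) * t ∈ W := by
        by_contra hTn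
        have hr : (π ^ (c + 1) * t)⁻¹ ∈ W := (W.mem_or_inv_mem _).resolve_left hTn
        have h1 : psum p (fun i => (π ^ (c + 1))⁻¹ * a' i) z ∈ W := by
          rw [psum_smul]
          have h2 : psum p a' z = psum p a' ζ - π ^ (c + 2) * d * w := by
            rw [← hdiff]; ring
          rw [h2, hpsa']
          have h3 : (π ^ (c + 1))⁻¹ * (t⁻¹ * psum p a ζ - π ^ (c + 2) * d * w) =
              (π ^ (c + 1) * t)⁻¹ * psum p a ζ - π * d * w := by
            rw [pow_succ π (c + 1)]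
            field_simp
          rw [h3]
          exact sub_mem (W.mul_mem _ _ hr h)
            (W.mul_mem _ _ (W.mul_mem _ _ hπW hd) hw)
        have h4 := hb (fun i => (π ^ (c + 1))⁻¹ * a' i)
          (fun i => F.mul_mem (F.inv_mem (F.pow_mem hπF _)) (ha'F i)) h1 m hmp
        simp only [ha'm, mul_one] at h4
        have h5 : π ^ c * (π ^ (c + 1))⁻¹ = π⁻¹ := by
          rw [pow_succ]
          field_simp
        rw [h5] at h4
        exact hπinv h4
      obtain ⟨w', hw', hdiff'⟩ := key_diff W p z ζ hz hζ (fun i => π ^ (c + 1) * a i)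
        (fun i hi => by
          rw [hata', ← mul_assoc]
          exact W.mul_mem _ _ hT (ha'W i hi))
      rw [psum_smul, psum_smul, ← mul_sub, hδ] at hdiff'
      have h6 : psum p a ζ - psum p a z = π * d * w' := by
        apply mul_left_cancel₀ hπc1
        rw [hdiff']
        ring
      have h7 : psum p a z = psum p a ζ - π * d * w' := by rw [← h6]; ring
      rw [h7]
      exact sub_mem h (W.mul_mem _ _ (W.mul_mem _ _ hπW hd) hw')

end Groth.Agent.Lib.InsepSolH8
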