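import Mathlib
import Groth.Prelude.Def_EtRam
import Groth.Agent.Lib.InsepSol1_helper8
import Groth.Agent.Lib.InsepSol2_helper8

/-!
# Purely inseparable degree-p step for solutions: the coefficient bound (helper8)
-/

set_option autoImplicit false
universe u

namespace Groth.Agent.Lib.InsepSolH8

open IsLocalRing Polynomial

variable {Λ : Type u} [Field Λ]

theorem psum_add (p : ℕ) (a b : ℕ → Λ) (x : Λ) :
    psum p (fun i => a i + b i) x = psum p a x + psum p b x := by
  unfold psum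
  rw [← Finset.sum_add_distrib]
  apply Finset.sum_congr rfl
  intro i _
  ring

theorem psum_sub (p : ℕ) (a b : ℕ → Λ) (x : Λ) :
    psum p (fun i => a i - b i) x = psum p a x - psum p b x := by
  unfold psum
  rw [← Finset.sum_sub_distrib]
  apply Finset.sum_congr rfl
  intro i _
  ring

theorem psum_finset_sum {ι : Type*} (p : ℕ) (T : Finset ι) (a : ι → ℕ → Λ) (x : Λ) :
    psum p (fun i => ∑ t ∈ T, a t i) x = ∑ t ∈ T, psum p (a t) x := by
  unfold psum
  rw [Finset.sum_comm]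
  apply Finset.sum_congr rfl
  intro i _
  rw [Finset.sum_mul]

/-- A valuation subring containing the image of `B` contains all elements integral over `B`. -/
theorem mem_of_isIntegral {B : Type u} [CommRing B] [Algebra B Λ] (W : ValuationSubring Λ)
    (hBW : ∀ b : B, algebraMap B Λ b ∈ W) {y : Λ} (hy : IsIntegral B y) : y ∈ W := by
  letI : Algebra B W := (RingHom.codRestrict (algebraMap B Λ) W hBW).toAlgebra
  haveI : IsScalarTower B W Λ := IsScalarTower.of_algebraMap_eq (fun _ => rfl)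
  have hy' : IsIntegral W y := hy.tower_top
  obtain ⟨z, hz⟩ := IsIntegrallyClosed.algebraMap_eq_of_integral hy'
  rw [← hz]
  exact z.2

/-- In a DVR, algebraic elements become integral after multiplying by a power of the
uniformizer. -/
theorem exists_pow_mul_integral {B : Type u} [CommRing B] [IsDomain B]
    [IsDiscreteValuationRing B] [Algebra B Λ] (ϖ : B) (hϖ : Irreducible ϖ) (x : Λ)
    (hx : IsAlgebraic B x) : ∃ k : ℕ, ∀ k', k ≤ k' → IsIntegral B (algebraMap B Λ ϖ ^ k' * x) := by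
  obtain ⟨y, hy0, hy⟩ := hx.exists_integral_multiple
  obtain ⟨k, u, hu⟩ := IsDiscreteValuationRing.eq_unit_mul_pow_irreducible hy0 hϖ
  refine ⟨k, fun k' hk' => ?_⟩
  have h1 : algebraMap B Λ ϖ ^ k' * x =
      algebraMap B Λ (↑u⁻¹ * ϖ ^ (k' - k)) * (y • x) := by
    rw [Algebra.smul_def, hu, ← mul_assoc, ← map_mul, ← map_pow, ← mul_assoc]
    congr 2
    have : ϖ ^ k' = ϖ ^ (k' - k) * ϖ ^ k := by rw [← pow_add]; congr 1; omega
    rw [this]
    calc ϖ ^ (k' - k) * ϖ ^ k = (↑u⁻¹ * ↑u) * (ϖ ^ (k' - k) * ϖ ^ k) := by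
          rw [Units.inv_mul, one_mul]
      _ = _ := by ring
  rw [h1]
  exact IsIntegral.mul isIntegral_algebraMap hy

set_option maxHeartbeats 1600000 in
theorem bound_core {B : Type u} [CommRing B] [IsDomain B] [IsDiscreteValuationRing B]
    [Algebra B Λ] (hinj : Function.Injective (algebraMap B Λ))
    (p : ℕ) [hp : Fact p.Prime] [CharP Λ p] (ϖ : B) (hϖ : Irreducible ϖ)
    (M₁ : Subfield Λ) (hBM : ∀ b : B, algebraMap B Λ b ∈ M₁)
    (halg : ∀ x ∈ M₁, IsAlgebraic B x)
    (z : Λ) (hzp : z ^ p ∈ M₁)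
    (hli : ∀ a : ℕ → Λ, (∀ i, a i ∈ M₁) → psum p a z = 0 → ∀ i < p, a i = 0)
    (T : Finset Λ) (hT : ∀ t ∈ T, ∃ a : ℕ → Λ, (∀ i, a i ∈ M₁) ∧ t = psum p a z)
    (hgen : ∀ a : ℕ → Λ, (∀ i, a i ∈ M₁) → IsIntegral B (psum p a z) →
      psum p a z ∈ Submodule.span B (T : Set Λ)) :
    ∃ c : ℕ, ∀ W : ValuationSubring Λ, (∀ b : B, algebraMap B Λ b ∈ W) →
      (∀ b ∈ maximalIdeal B, W.valuation (algebraMap B Λ b) < 1) →
      ∀ a : ℕ → Λ, (∀ i, a i ∈ M₁) → psum p a z ∈ W →
        ∀ i < p, algebraMap B Λ ϖ ^ c * a i ∈ W := by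
  classical
  choose! at' hat using hT
  have hk : ∀ x : Λ, ∃ k : ℕ, x ∈ M₁ →
      ∀ k', k ≤ k' → IsIntegral B (algebraMap B Λ ϖ ^ k' * x) := by
    intro x
    by_cases hx : x ∈ M₁
    · obtain ⟨k, hk⟩ := exists_pow_mul_integral ϖ hϖ x (halg x hx)
      exact ⟨k, fun _ => hk⟩
    · exact ⟨0, fun h => absurd h hx⟩
  choose kf hkf using hk
  obtain ⟨c, hcdef⟩ : ∃ c : ℕ, c = T.sup (fun t => (Finset.range p).sup (fun i => kf (at' t i))) :=
    ⟨_, rfl⟩
  have hcint : ∀ t ∈ T, ∀ i < p, IsIntegral B (algebraMap B Λ ϖ ^ c * at' t i) := by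
    intro t ht i hi
    apply hkf (at' t i) ((hat t ht).1 i) c
    rw [hcdef]
    calc kf (at' t i) ≤ (Finset.range p).sup (fun i => kf (at' t i)) :=
          Finset.le_sup (f := fun i => kf (at' t i)) (Finset.mem_range.mpr hi)
      _ ≤ _ := Finset.le_sup (f := fun t => (Finset.range p).sup (fun i => kf (at' t i))) ht
  refine ⟨c, fun W hBW hdom a ha hy => ?_⟩
  obtain ⟨y, hydef⟩ : ∃ y, y = psum p a z := ⟨_, rfl⟩
  rw [← hydef] at hy
  -- y^p ∈ M₁
  have hyp : y ^ p = ∑ i ∈ Finset.range p, a i ^ p * (z ^ p) ^ i := by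
    rw [hydef]
    unfold psum
    rw [sum_pow_char]
    apply Finset.sum_congr rfl
    intro i _
    rw [mul_pow, ← pow_mul, ← pow_mul, mul_comm i p]
  have hypM : y ^ p ∈ M₁ := by
    rw [hyp]
    exact sum_mem (fun i _ => M₁.mul_mem (M₁.pow_mem (ha i) _) (M₁.pow_mem hzp _))
  have hypW : y ^ p ∈ W := pow_mem hy _
  obtain ⟨s, hsadj, hsint, hsyint, hsv⟩ :=
    exists_unit_mul_integral hinj W hBW hdom (y ^ p) hypW (halg _ hypM)
  have hsM : s ∈ M₁ := by
    refine Algebra.adjoin_induction (p := fun x _ => x ∈ M₁) ?_ ?_ ?_ ?_ hsadj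
    · intro x hx
      rw [Set.mem_singleton_iff.mp hx]
      exact hypM
    · intro b
      exact hBM b
    · intro x y _ _ hx hy
      exact M₁.add_mem hx hy
    · intro x y _ _ hx hy
      exact M₁.mul_mem hx hy
  have hsy : IsIntegral B (s * y) := by
    apply IsIntegral.of_pow hp.out.pos
    have h1 : (s * y) ^ p = s ^ (p - 1) * (s * y ^ p) := by
      rw [mul_pow, ← mul_assoc, ← pow_succ]
      congr 2
      have := hp.out.pos
      omega
    rw [h1]
    exact IsIntegral.mul (hsint.pow _) hsyint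
  have hsy' : s * y = psum p (fun i => s * a i) z := by
    rw [psum_smul, hydef]
  have hspan : psum p (fun i => s * a i) z ∈ Submodule.span B (T : Set Λ) := by
    apply hgen _ (fun i => M₁.mul_mem hsM (ha i))
    rw [← hsy']
    exact hsy
  obtain ⟨f, -, hf⟩ := Submodule.mem_span_finset.mp hspan
  have hf' : ∑ t ∈ T, f t • t = psum p (fun i => ∑ t ∈ T, algebraMap B Λ (f t) * at' t i) z := by
    rw [psum_finset_sum]
    apply Finset.sum_congr rfl
    intro t ht
    rw [psum_smul, ← (hat t ht).2, Algebra.smul_def]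
  have hzero : psum p (fun i => s * a i - ∑ t ∈ T, algebraMap B Λ (f t) * at' t i) z = 0 := by
    rw [psum_sub, ← hf', hf, sub_self]
  have hcoef : ∀ i < p, s * a i = ∑ t ∈ T, algebraMap B Λ (f t) * at' t i := by
    intro i hi
    have := hli _ (fun i => M₁.sub_mem (M₁.mul_mem hsM (ha i))
      (sum_mem (fun t ht => M₁.mul_mem (hBM _) ((hat t ht).1 i)))) hzero i hi
    exact sub_eq_zero.mp this
  intro i hi
  have h1 : IsIntegral B (algebraMap B Λ ϖ ^ c * (s * a i)) := by
    rw [hcoef i hi, Finset.mul_sum]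
    apply IsIntegral.sum
    intro t ht
    have : algebraMap B Λ ϖ ^ c * (algebraMap B Λ (f t) * at' t i) =
        algebraMap B Λ (f t) * (algebraMap B Λ ϖ ^ c * at' t i) := by ring
    rw [this]
    exact IsIntegral.mul isIntegral_algebraMap (hcint t ht i hi)
  have h2 : algebraMap B Λ ϖ ^ c * (s * a i) ∈ W := mem_of_isIntegral W hBW h1
  have hs0 : s ≠ 0 := by
    intro h0
    rw [h0, map_zero] at hsv
    exact zero_ne_one hsv
  have hsinv : s⁻¹ ∈ W := by
    rw [← W.valuation_le_one_iff, map_inv₀, hsv, inv_one]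
  have h3 : algebraMap B Λ ϖ ^ c * a i = s⁻¹ * (algebraMap B Λ ϖ ^ c * (s * a i)) := by
    field_simp
  rw [h3]
  exact W.mul_mem _ _ hsinv h2

end Groth.Agent.Lib.InsepSolH8
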