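import Mathlib
import Groth.Prelude.Def_EtRam
import Groth.Agent.Lib.InsepSol2_helper8

/-!
# Purely inseparable degree-p step for solutions: representation lemmas (helper8)
-/

set_option autoImplicit false
universe u

namespace Groth.Agent.Lib.InsepSolH8

open Polynomial

section gpoly

variable (p : ℕ) {F : Type u} [Field F]

/-- the polynomial `X^p - β X - γ` -/
noncomputable def gpoly (β γ : F) : F[X] := X ^ p - (C β * X + C γ)

theorem gpoly_degree_lt (hp : 1 < p) (β γ : F) : degree (C β * X + C γ : F[X]) < p := by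
  refine lt_of_le_of_lt (degree_add_le _ _) (max_lt ?_ ?_)
  · refine lt_of_le_of_lt (degree_C_mul_X_le β) ?_
    exact_mod_cast hp
  · exact lt_of_le_of_lt degree_C_le (by exact_mod_cast (by omega : 0 < p))

theorem gpoly_monic (hp : 1 < p) (β γ : F) : (gpoly p β γ).Monic := by
  unfold gpoly
  exact monic_X_pow_sub (gpoly_degree_lt p hp β γ)

theorem gpoly_natDegree (hp : 1 < p) (β γ : F) : (gpoly p β γ).natDegree = p := by
  unfold gpoly
  have hd : degree (C β * X + C γ : F[X]) < degree ((X : F[X]) ^ p) := by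
    rw [degree_X_pow]
    exact gpoly_degree_lt p hp β γ
  rw [natDegree_sub_eq_left_of_natDegree_lt, natDegree_X_pow]
  rw [natDegree_X_pow]
  by_cases h0 : (C β * X + C γ : F[X]) = 0
  · rw [h0, natDegree_zero]; omega
  · have := natDegree_lt_natDegree h0 hd
    rwa [natDegree_X_pow] at this

theorem gpoly_ne_one (hp : 1 < p) (β γ : F) : gpoly p β γ ≠ 1 := by
  intro h
  have := gpoly_natDegree p hp β γ
  rw [h, natDegree_one] at this
  omega

theorem gpoly_separable [CharP F p] (β γ : F) (hβ : β ≠ 0) : (gpoly p β γ).Separable := by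
  rw [separable_def]
  have hder : derivative (gpoly p β γ) = C (-β) := by
    unfold gpoly
    rw [derivative_sub, derivative_add, derivative_X_pow, derivative_C_mul, derivative_X,
      derivative_C]
    have : (C (p : F) : F[X]) = 0 := by rw [CharP.cast_eq_zero, C_0]
    rw [this]
    simp
  rw [hder]
  refine ⟨0, C ((-β)⁻¹), ?_⟩
  rw [zero_mul, zero_add, ← C_mul, inv_mul_cancel₀ (neg_ne_zero.mpr hβ), C_1]

end gpoly

section rep

variable {F Λ : Type u} [Field F] [CommRing Λ] (ι : F →+* Λ) (p : ℕ)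

theorem eval₂_gpoly (β γ : F) (x : Λ) :
    eval₂ ι x (gpoly p β γ) = x ^ p - (ι β * x + ι γ) := by
  unfold gpoly
  rw [eval₂_sub, eval₂_add, eval₂_mul, eval₂_pow, eval₂_X, eval₂_C, eval₂_C]

theorem exists_psum_rep (hp : 1 < p) (β γ : F) (x : Λ) (hx : x ^ p = ι β * x + ι γ)
    (q : F[X]) : ∃ a : ℕ → F, eval₂ ι x q = ∑ i ∈ Finset.range p, ι (a i) * x ^ i := by
  refine ⟨fun i => (q %ₘ gpoly p β γ).coeff i, ?_⟩
  have h0 : eval₂ ι x (gpoly p β γ) = 0 := by rw [eval₂_gpoly, hx, sub_self]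
  have h1 : eval₂ ι x q = eval₂ ι x (q %ₘ gpoly p β γ) := by
    conv_lhs => rw [← modByMonic_add_div q (gpoly p β γ)]
    rw [eval₂_add, eval₂_mul, h0, zero_mul, add_zero]
  rw [h1]
  apply eval₂_eq_sum_range'
  have := natDegree_modByMonic_lt q (gpoly_monic p hp β γ) (gpoly_ne_one p hp β γ)
  rwa [gpoly_natDegree p hp β γ] at this

end rep

/-- Elements of a degree `p` extension generated by a `p`-th root. -/
theorem rep_of_prime_degree {K₁ K₂ : Type u} [Field K₁] [Field K₂] [Algebra K₁ K₂] (p : ℕ)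
    (hp : p.Prime) (hdeg : Module.finrank K₁ K₂ = p) (z : K₂) (g : K₁)
    (hzg : z ^ p = algebraMap K₁ K₂ g) (hz : z ∉ Set.range (algebraMap K₁ K₂)) (y : K₂) :
    ∃ a : ℕ → K₁, y = ∑ i ∈ Finset.range p, algebraMap K₁ K₂ (a i) * z ^ i := by
  haveI : FiniteDimensional K₁ K₂ := Module.finite_of_finrank_pos (by rw [hdeg]; exact hp.pos)
  haveI : IsSimpleOrder (IntermediateField K₁ K₂) :=
    IntermediateField.isSimpleOrder_of_finrank_prime K₁ K₂ (by rw [hdeg]; exact hp)
  have htop : IntermediateField.adjoin K₁ {z} = ⊤ := by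
    rcases eq_bot_or_eq_top (IntermediateField.adjoin K₁ {z}) with h | h
    · exfalso
      rw [IntermediateField.adjoin_simple_eq_bot_iff, IntermediateField.mem_bot] at h
      exact hz h
    · exact h
  have hzalg : IsAlgebraic K₁ z := Algebra.IsAlgebraic.isAlgebraic z
  have h1 : Algebra.adjoin K₁ {z} = ⊤ := by
    rw [← IntermediateField.adjoin_simple_toSubalgebra_of_isAlgebraic hzalg, htop]
    rfl
  have h2 : y ∈ Algebra.adjoin K₁ {z} := by rw [h1]; exact Algebra.mem_top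
  rw [Algebra.adjoin_singleton_eq_range_aeval] at h2
  obtain ⟨q, hq⟩ := h2
  obtain ⟨a, ha⟩ := exists_psum_rep (algebraMap K₁ K₂) p hp.one_lt 0 g z
    (by rw [map_zero, zero_mul, zero_add, hzg]) q
  refine ⟨a, ?_⟩
  rw [← ha, ← hq]
  rfl

/-- Elements of `AdjoinRoot h` for `h ∣ X^p - βX - γ`. -/
theorem rep_adjoinRoot {K₁ : Type u} [Field K₁] (p : ℕ) (hp : 1 < p) (β γ : K₁) (h : K₁[X])
    (hdvd : h ∣ gpoly p β γ) (y : AdjoinRoot h) :
    ∃ a : ℕ → K₁, y = ∑ i ∈ Finset.range p,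
      algebraMap K₁ (AdjoinRoot h) (a i) * (AdjoinRoot.root h) ^ i := by
  obtain ⟨q, rfl⟩ := AdjoinRoot.mk_surjective y
  have hroot : (AdjoinRoot.root h) ^ p = algebraMap K₁ (AdjoinRoot h) β * AdjoinRoot.root h +
      algebraMap K₁ (AdjoinRoot h) γ := by
    have h0 : eval₂ (algebraMap K₁ (AdjoinRoot h)) (AdjoinRoot.root h) (gpoly p β γ) = 0 := by
      have := AdjoinRoot.aeval_eq (f := h) (gpoly p β γ)
      rw [aeval_def] at this
      rw [this, AdjoinRoot.mk_eq_zero]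
      exact hdvd
    rw [eval₂_gpoly] at h0
    exact sub_eq_zero.mp h0
  obtain ⟨a, ha⟩ := exists_psum_rep (algebraMap K₁ (AdjoinRoot h)) p hp β γ (AdjoinRoot.root h)
    hroot q
  refine ⟨a, ?_⟩
  rw [← ha, ← AdjoinRoot.aeval_eq, aeval_def]

/-- The set of truncated polynomial expressions in a root of `X^p - βX - γ` is a subring. -/
theorem exists_subring_psum {Λ : Type u} [Field Λ] (M₁ : Subfield Λ) (p : ℕ) (hp : 1 < p)
    (x β γ : Λ) (hβ : β ∈ M₁) (hγ : γ ∈ M₁) (hx : x ^ p = β * x + γ) :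
    ∃ R : Subring Λ, ∀ y, y ∈ R ↔ ∃ a : ℕ → Λ, (∀ i, a i ∈ M₁) ∧ y = psum p a x := by
  refine ⟨(eval₂RingHom M₁.subtype x).range, fun y => ⟨?_, ?_⟩⟩
  · rintro ⟨q, rfl⟩
    obtain ⟨a, ha⟩ := exists_psum_rep M₁.subtype p hp ⟨β, hβ⟩ ⟨γ, hγ⟩ x hx q
    refine ⟨fun i => (a i : Λ), fun i => (a i).2, ?_⟩
    rw [coe_eval₂RingHom, ha]
    rfl
  · rintro ⟨a, ha, rfl⟩
    refine ⟨∑ i ∈ Finset.range p, C (⟨a i, ha i⟩ : M₁) * X ^ i, ?_⟩
    rw [coe_eval₂RingHom, eval₂_finsetSum]
    unfold psum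
    apply Finset.sum_congr rfl
    intro i _
    rw [eval₂_mul, eval₂_C, eval₂_pow, eval₂_X]
    rfl

end Groth.Agent.Lib.InsepSolH8
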