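import Mathlib
import Groth.Prelude.Def_EtRam
import Groth.Agent.Lib.InsepSol3_helper8
import Groth.Agent.Lib.InsepSol7_helper8
import Groth.Agent.Lib.InsepStep2_helper8

/-!
# Purely inseparable degree-p step for solutions: auxiliary constructions (helper8)
-/

set_option autoImplicit false
universe u

namespace Groth.Agent.Lib.InsepSolH8

open IsLocalRing Polynomial

/-- The separable extension `K₃ = K₁[ζ₀]`, `ζ₀^p = β ζ₀ + γ`. -/
theorem exists_K3 {K K₁ : Type u} [Field K] [Field K₁] [Algebra K K₁] (p : ℕ)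
    [hp : Fact p.Prime] [CharP K₁ p] (β γ : K₁) (hβ : β ≠ 0) :
    ∃ (K₃ : Type u) (_ : Field K₃) (_ : Algebra K K₃) (_ : Algebra K₁ K₃)
      (_ : IsScalarTower K K₁ K₃),
      FiniteDimensional K₁ K₃ ∧ Algebra.IsSeparable K₁ K₃ ∧
      ∃ ζ₀ : K₃, ζ₀ ^ p = algebraMap K₁ K₃ β * ζ₀ + algebraMap K₁ K₃ γ ∧
        ∀ y : K₃, ∃ a : ℕ → K₁,
          y = ∑ i ∈ Finset.range p, algebraMap K₁ K₃ (a i) * ζ₀ ^ i := by
  have hp1 : 1 < p := hp.out.one_lt
  obtain ⟨h, hh⟩ : ∃ h : K₁[X], h = (gpoly p β γ).factor := ⟨_, rfl⟩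
  haveI hirr : Fact (Irreducible h) := hh ▸ fact_irreducible_factor (gpoly p β γ)
  have hdvd : h ∣ gpoly p β γ := by
    rw [hh]
    apply factor_dvd_of_natDegree_ne_zero
    rw [gpoly_natDegree p hp1]
    omega
  have hne : h ≠ 0 := hirr.out.ne_zero
  have hsep : h.Separable := (gpoly_separable p β γ hβ).of_dvd hdvd
  have hroot : (AdjoinRoot.root h) ^ p = algebraMap K₁ (AdjoinRoot h) β * AdjoinRoot.root h +
      algebraMap K₁ (AdjoinRoot h) γ := by
    have h0 : eval₂ (algebraMap K₁ (AdjoinRoot h)) (AdjoinRoot.root h) (gpoly p β γ) = 0 := by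
      have := AdjoinRoot.aeval_eq (f := h) (gpoly p β γ)
      rw [aeval_def] at this
      rw [this, AdjoinRoot.mk_eq_zero]
      exact hdvd
    rw [eval₂_gpoly] at h0
    exact sub_eq_zero.mp h0
  refine ⟨AdjoinRoot h, inferInstance, inferInstance, inferInstance, inferInstance,
    (AdjoinRoot.powerBasis hne).finite, ?_, AdjoinRoot.root h, hroot,
    rep_adjoinRoot p hp1 β γ h hdvd⟩
  rw [← separableClosure.eq_top_iff]
  have h1 : IntermediateField.adjoin K₁ {AdjoinRoot.root h} = ⊤ :=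
    IntermediateField.adjoin_eq_top_of_algebra K₁ _ AdjoinRoot.adjoinRoot_eq_top
  have h2 : AdjoinRoot.root h ∈ separableClosure K₁ (AdjoinRoot h) := by
    rw [mem_separableClosure_iff]
    have h3 : aeval (AdjoinRoot.root h) h = 0 := by
      rw [AdjoinRoot.aeval_eq, AdjoinRoot.mk_self]
    exact hsep.of_dvd (minpoly.dvd K₁ _ h3)
  rw [← top_le_iff, ← h1, IntermediateField.adjoin_simple_le_iff]
  exact h2

set_option maxHeartbeats 1600000 in
/-- A generator `z` of the purely inseparable degree `p` extension `K₂/K₁`, integral over `A`. -/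
theorem exists_good_generator (A K K₁ K₂ : Type u) [CommRing A] [IsDomain A] [Field K]
    [Algebra A K] [IsFractionRing A K] [Field K₁] [Field K₂] [Algebra K K₁] [Algebra K K₂]
    [Algebra K₁ K₂] [IsScalarTower K K₁ K₂] [FiniteDimensional K K₂] (p : ℕ) (hp : p.Prime)
    [IsPurelyInseparable K₁ K₂] (hdeg : Module.finrank K₁ K₂ = p) :
    ∃ (z : K₂) (g : K₁) (q : A[X]), z ∉ Set.range (algebraMap K₁ K₂) ∧
      z ^ p = algebraMap K₁ K₂ g ∧ q.Monic ∧
      eval₂ ((algebraMap K K₂).comp (algebraMap A K)) z q = 0 := by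
  obtain ⟨-, hpow⟩ := InsepStepH8.charP_and_pow_mem (L := K₁) (M := K₂) p hp hdeg
  haveI : FiniteDimensional K₁ K₂ := Module.finite_of_finrank_pos (by rw [hdeg]; exact hp.pos)
  -- an element outside `K₁`
  obtain ⟨z₀, hz₀⟩ : ∃ z₀ : K₂, z₀ ∉ Set.range (algebraMap K₁ K₂) := by
    by_contra hall
    push Not at hall
    have h1 : (⊥ : Subalgebra K₁ K₂) = ⊤ := by
      rw [eq_top_iff]
      intro x _
      exact Algebra.mem_bot.mpr (hall x)
    rw [Subalgebra.bot_eq_top_iff_finrank_eq_one, hdeg] at h1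
    exact hp.one_lt.ne' h1
  letI : Algebra A K₂ := ((algebraMap K K₂).comp (algebraMap A K)).toAlgebra
  haveI : IsScalarTower A K K₂ := IsScalarTower.of_algebraMap_eq (fun _ => rfl)
  have hz₀alg : IsAlgebraic A z₀ :=
    (IsFractionRing.isAlgebraic_iff A K K₂).mpr (Algebra.IsAlgebraic.isAlgebraic z₀)
  obtain ⟨a, ha0, haint⟩ := hz₀alg.exists_integral_multiple
  obtain ⟨q, hq, hqz⟩ := haint
  have haK : algebraMap K K₁ (algebraMap A K a) ≠ 0 := by
    rw [Ne, map_eq_zero, map_eq_zero_iff _ (IsFractionRing.injective A K)]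
    exact ha0
  have hsmul : a • z₀ = algebraMap K₁ K₂ (algebraMap K K₁ (algebraMap A K a)) * z₀ := by
    rw [Algebra.smul_def, ← IsScalarTower.algebraMap_apply K K₁ K₂]
    rfl
  obtain ⟨g, hg⟩ := hpow (a • z₀)
  refine ⟨a • z₀, g, q, ?_, hg.symm, hq, hqz⟩
  rintro ⟨k, hk⟩
  apply hz₀
  refine ⟨(algebraMap K K₁ (algebraMap A K a))⁻¹ * k, ?_⟩
  rw [map_mul, hk, hsmul, ← mul_assoc, ← map_mul, inv_mul_cancel₀ haK, map_one, one_mul]

/-- A root of a monic polynomial over `A` lies in every valuation subring containing the image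
of `A`. -/
theorem mem_of_monic_root {A Λ : Type u} [CommRing A] [Field Λ] (f : A →+* Λ)
    (W : ValuationSubring Λ) (hf : ∀ a, f a ∈ W) (q : A[X]) (hq : q.Monic) (x : Λ)
    (hx : eval₂ f x q = 0) : x ∈ W := by
  letI : Algebra A Λ := f.toAlgebra
  exact mem_of_isIntegral W hf ⟨q, hq, hx⟩

/-- A root of `X^p - bX - c` with `b, c` in a valuation subring lies in it. -/
theorem mem_of_pow_eq {Λ : Type u} [Field Λ] (W : ValuationSubring Λ) (p : ℕ) (hp : 1 < p)
    (x b c : Λ) (hb : b ∈ W) (hc : c ∈ W) (hx : x ^ p = b * x + c) : x ∈ W := by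
  by_contra hxW
  have hv : 1 < W.valuation x := by
    rw [← not_le, W.valuation_le_one_iff]
    exact hxW
  have hvb : W.valuation b ≤ 1 := (W.valuation_le_one_iff _).mpr hb
  have hvc : W.valuation c ≤ 1 := (W.valuation_le_one_iff _).mpr hc
  have h1 : W.valuation (x ^ p) ≤ W.valuation x := by
    rw [hx]
    apply le_trans (Valuation.map_add _ _ _)
    apply max_le
    · rw [map_mul]
      exact mul_le_of_le_one_left' hvb
    · exact hvc.trans hv.le
  have h2 : W.valuation x < W.valuation (x ^ p) := by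
    rw [map_pow]
    obtain ⟨n, rfl⟩ : ∃ n, p = n + 2 := ⟨p - 2, by omega⟩
    calc W.valuation x = W.valuation x * 1 := (mul_one _).symm
      _ < W.valuation x * W.valuation x ^ (n + 1) := by
        apply mul_lt_mul_of_pos_left
        · exact one_lt_pow₀ hv (by omega)
        · exact lt_trans zero_lt_one hv
      _ = W.valuation x ^ (n + 2) := by rw [← pow_succ']
  exact lt_irrefl _ (lt_of_lt_of_le h2 h1)

/-- Extending an embedding along an algebraic extension into an algebraically closed field. -/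
theorem exists_extension_embedding {K K₁ K₂ Λ : Type u} [Field K] [Field K₁] [Field K₂]
    [Field Λ] [Algebra K K₁] [Algebra K K₂] [Algebra K₁ K₂] [IsScalarTower K K₁ K₂]
    [Algebra K Λ] [IsAlgClosed Λ] [Algebra.IsAlgebraic K₁ K₂] (ι₁ : K₁ →ₐ[K] Λ) :
    ∃ σ : K₂ →ₐ[K] Λ, ∀ k, σ (algebraMap K₁ K₂ k) = ι₁ k := by
  letI : Algebra K₁ Λ := ι₁.toRingHom.toAlgebra
  haveI : IsScalarTower K K₁ Λ :=
    IsScalarTower.of_algebraMap_eq (fun k => (ι₁.commutes k).symm)
  let σ' : K₂ →ₐ[K₁] Λ := IsAlgClosed.lift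
  exact ⟨σ'.restrictScalars K, fun k => σ'.commutes k⟩

/-- The image of `M₃ = L(K₃)` under an `L`-embedding is the compositum of the images. -/
theorem mem_adjoin_iff_range {K L K₃ M₃ Λ : Type u} [Field K] [Field L] [Field K₃] [Field M₃]
    [Field Λ] [Algebra K L] [Algebra K K₃] [Algebra K M₃] [Algebra L M₃] [Algebra K₃ M₃]
    [IsScalarTower K L M₃] [IsScalarTower K K₃ M₃] [Algebra K Λ] [Algebra L Λ]
    [IsScalarTower K L Λ] [Algebra.IsAlgebraic L Λ]
    (hgen : Algebra.adjoin L (Set.range (algebraMap K₃ M₃)) = ⊤) (j : M₃ →ₐ[L] Λ) (x : Λ) :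
    x ∈ IntermediateField.adjoin L
        (Set.range ((j.restrictScalars K).comp (IsScalarTower.toAlgHom K K₃ M₃))) ↔
      ∃ y : M₃, j y = x := by
  have h1 : Algebra.adjoin L
      (Set.range ((j.restrictScalars K).comp (IsScalarTower.toAlgHom K K₃ M₃))) = j.range := by
    have : Set.range ((j.restrictScalars K).comp (IsScalarTower.toAlgHom K K₃ M₃)) =
        j '' Set.range (algebraMap K₃ M₃) := by
      rw [← Set.range_comp]
      rfl
    rw [this, ← AlgHom.map_adjoin, hgen, Algebra.map_top]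
  rw [← AlgHom.mem_range, ← h1, ← IntermediateField.adjoin_toSubalgebra]
  rfl

end Groth.Agent.Lib.InsepSolH8
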