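import Mathlib
import Groth.Prelude.Def_EtRam
import Groth.Agent.Lib.DvrExt4_helper8
import Groth.Agent.Lib.GRedDvr7_helper8

/-!
# Purely inseparable degree-p step for solutions: transfer of the solution property (helper8)
-/

set_option autoImplicit false
universe u

namespace Groth.Agent.Lib.InsepSolH8

open IsLocalRing

section transfer

variable {K₂ M₂ K₃ M₃ Λ : Type u} [Field K₂] [Field M₂] [Field K₃] [Field M₃] [Field Λ]
  (f₂ : K₂ →+* M₂) (m₂ : M₂ →+* Λ) (f₃ : K₃ →+* M₃) (m₃ : M₃ →+* Λ)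
  (W : ValuationSubring Λ) (π₃ : K₃)

theorem mem_maximalIdeal_comap_iff {M : Type u} [Field M] (m : M →+* Λ) (x : W.comap m) :
    x ∈ maximalIdeal (W.comap m) ↔ W.valuation (m (x : M)) < 1 := by
  rw [ValuationSubring.valuation_lt_one_iff, DvrExtH8.comap_valuation_lt_one_iff]

theorem mem_maximalIdeal_comap_comap_iff {K M : Type u} [Field K] [Field M] (f : K →+* M)
    (m : M →+* Λ) (x : (W.comap m).comap f) :
    x ∈ maximalIdeal ((W.comap m).comap f) ↔ W.valuation (m (f (x : K))) < 1 := by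
  rw [ValuationSubring.valuation_lt_one_iff, DvrExtH8.comap_valuation_lt_one_iff,
    DvrExtH8.comap_valuation_lt_one_iff]

set_option maxHeartbeats 1600000 in
theorem transfer_wu (hπ : W.valuation (m₃ (f₃ π₃)) < 1) (hπ0 : π₃ ≠ 0)
    (hV23 : ∀ x : K₂, m₂ (f₂ x) ∈ W →
      ∃ y : K₃, ∃ w ∈ W, m₃ (f₃ y) - m₂ (f₂ x) = m₃ (f₃ π₃) * w)
    (hW23 : ∀ x : M₂, m₂ x ∈ W → ∃ y : M₃, ∃ w ∈ W, m₃ y - m₂ x = m₃ (f₃ π₃) * w)
    (hW32 : ∀ y : M₃, m₃ y ∈ W → ∃ x : M₂, ∃ w ∈ W, m₃ y - m₂ x = m₃ (f₃ π₃) * w)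
    (hwu : letI : Algebra ((W.comap m₂).comap f₂) (W.comap m₂) :=
        (EtRam.inclOfComap (W.comap m₂) f₂).toAlgebra
      EtRam.IsWeaklyUnramified ((W.comap m₂).comap f₂) (W.comap m₂)) :
    letI : Algebra ((W.comap m₃).comap f₃) (W.comap m₃) :=
        (EtRam.inclOfComap (W.comap m₃) f₃).toAlgebra
    EtRam.IsWeaklyUnramified ((W.comap m₃).comap f₃) (W.comap m₃) := by
  letI alg₂ : Algebra ((W.comap m₂).comap f₂) (W.comap m₂) :=
    (EtRam.inclOfComap (W.comap m₂) f₂).toAlgebra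
  letI alg₃ : Algebra ((W.comap m₃).comap f₃) (W.comap m₃) :=
    (EtRam.inclOfComap (W.comap m₃) f₃).toAlgebra
  have hwu' : Ideal.map (algebraMap ((W.comap m₂).comap f₂) (W.comap m₂)) (maximalIdeal _) =
      maximalIdeal (W.comap m₂) := hwu
  show Ideal.map (algebraMap ((W.comap m₃).comap f₃) (W.comap m₃)) (maximalIdeal _) =
      maximalIdeal (W.comap m₃)
  obtain ⟨π, hπdef⟩ : ∃ π : Λ, π = m₃ (f₃ π₃) := ⟨_, rfl⟩
  rw [← hπdef] at hπ hV23 hW23 hW32
  have hπW : π ∈ W := (W.valuation_le_one_iff _).mp hπ.le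
  have hπne : π ≠ 0 := by
    rw [hπdef]
    exact (map_ne_zero m₃).mpr ((map_ne_zero f₃).mpr hπ0)
  obtain ⟨J, hJ⟩ : ∃ J : Ideal (W.comap m₃),
    J = Ideal.map (algebraMap ((W.comap m₃).comap f₃) (W.comap m₃)) (maximalIdeal _) := ⟨_, rfl⟩
  rw [← hJ]
  -- the uniformizer lies in J
  have hπ₃V : π₃ ∈ (W.comap m₃).comap f₃ := by
    show m₃ (f₃ π₃) ∈ W
    rw [← hπdef]; exact hπW
  have hπJ : algebraMap ((W.comap m₃).comap f₃) (W.comap m₃) ⟨π₃, hπ₃V⟩ ∈ J := by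
    rw [hJ]
    apply Ideal.mem_map_of_mem
    rw [mem_maximalIdeal_comap_comap_iff]
    show W.valuation (m₃ (f₃ π₃)) < 1
    rw [← hπdef]; exact hπ
  have hP : ∀ y₂ ∈ Ideal.map (algebraMap ((W.comap m₂).comap f₂) (W.comap m₂))
      (maximalIdeal ((W.comap m₂).comap f₂)),
      ∃ y₃ : W.comap m₃, y₃ ∈ J ∧ ∃ w ∈ W, m₃ (y₃ : M₃) - m₂ (y₂ : M₂) = π * w := by
    intro y₂ hy₂
    refine Submodule.span_induction (p := fun (y : W.comap m₂) _ => ∃ y₃ : W.comap m₃, y₃ ∈ J ∧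
      ∃ w ∈ W, m₃ (y₃ : M₃) - m₂ (y : M₂) = π * w) ?_ ?_ ?_ ?_ hy₂
    · rintro _ ⟨a, ha, rfl⟩
      have ha' : W.valuation (m₂ (f₂ (a : K₂))) < 1 :=
        (mem_maximalIdeal_comap_comap_iff W f₂ m₂ a).mp ha
      obtain ⟨y, w, hw, hyw⟩ := hV23 (a : K₂) a.2
      have hy_eq : m₃ (f₃ y) = m₂ (f₂ (a : K₂)) + π * w := by rw [← hyw]; ring
      have hyv : W.valuation (m₃ (f₃ y)) < 1 := by
        rw [hy_eq]
        apply lt_of_le_of_lt (Valuation.map_add _ _ _)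
        apply max_lt ha'
        rw [map_mul]
        exact mul_lt_one_of_lt_of_le hπ ((W.valuation_le_one_iff _).mpr hw)
      have hyV : y ∈ (W.comap m₃).comap f₃ := (W.valuation_le_one_iff _).mp hyv.le
      refine ⟨algebraMap ((W.comap m₃).comap f₃) (W.comap m₃) ⟨y, hyV⟩, ?_, w, hw, hyw⟩
      rw [hJ]
      apply Ideal.mem_map_of_mem
      rw [mem_maximalIdeal_comap_comap_iff]
      exact hyv
    · exact ⟨0, J.zero_mem, 0, W.zero_mem, by simp⟩
    · rintro x y _ _ ⟨x₃, hx₃, w, hw, hxw⟩ ⟨y₃, hy₃, w', hw', hyw⟩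
      refine ⟨x₃ + y₃, J.add_mem hx₃ hy₃, w + w', W.add_mem _ _ hw hw', ?_⟩
      push_cast
      rw [map_add, map_add, mul_add, ← hxw, ← hyw]
      ring
    · rintro b x _ ⟨x₃, hx₃, w, hw, hxw⟩
      obtain ⟨b', wb, hwb, hbw⟩ := hW23 (b : M₂) b.2
      have hb'_eq : m₃ b' = m₂ (b : M₂) + π * wb := by rw [← hbw]; ring
      have hb'W : b' ∈ W.comap m₃ := by
        show m₃ b' ∈ W
        rw [hb'_eq]
        exact W.add_mem _ _ b.2 (W.mul_mem _ _ hπW hwb)
      refine ⟨⟨b', hb'W⟩ * x₃, J.mul_mem_left _ hx₃,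
        m₃ b' * w + wb * m₂ (x : M₂), W.add_mem _ _ (W.mul_mem _ _ hb'W hw)
          (W.mul_mem _ _ hwb x.2), ?_⟩
      rw [smul_eq_mul]
      push_cast
      rw [map_mul, map_mul]
      have e1 : m₃ (x₃ : M₃) = m₂ (x : M₂) + π * w := by rw [← hxw]; ring
      rw [e1, hb'_eq]
      ring
  apply le_antisymm
  · rw [hJ, Ideal.map_le_iff_le_comap]
    intro v hv
    show algebraMap ((W.comap m₃).comap f₃) (W.comap m₃) v ∈ maximalIdeal (W.comap m₃)
    rw [mem_maximalIdeal] at hv ⊢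
    intro hu
    exact hv (isUnit_of_map_unit (EtRam.inclOfComap (W.comap m₃) f₃) v hu)
  · intro x hx
    have hxv : W.valuation (m₃ (x : M₃)) < 1 := (mem_maximalIdeal_comap_iff W m₃ x).mp hx
    obtain ⟨x₂, w, hw, hxw⟩ := hW32 (x : M₃) x.2
    have hx₂_eq : m₂ x₂ = m₃ (x : M₃) - π * w := by rw [← hxw]; ring
    have hx₂v : W.valuation (m₂ x₂) < 1 := by
      rw [hx₂_eq]
      apply lt_of_le_of_lt (Valuation.map_sub _ _ _)
      apply max_lt hxv
      rw [map_mul]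
      exact mul_lt_one_of_lt_of_le hπ ((W.valuation_le_one_iff _).mpr hw)
    have hx₂W : x₂ ∈ W.comap m₂ := (W.valuation_le_one_iff _).mp hx₂v.le
    have hx₂m : (⟨x₂, hx₂W⟩ : W.comap m₂) ∈ maximalIdeal (W.comap m₂) := by
      rw [mem_maximalIdeal_comap_iff]
      exact hx₂v
    rw [← hwu'] at hx₂m
    obtain ⟨y₃, hy₃, w', hw', hyw⟩ := hP _ hx₂m
    have hf₃π : f₃ π₃ ≠ 0 := (map_ne_zero f₃).mpr hπ0
    obtain ⟨r, hr⟩ : ∃ r : M₃, r = ((x : M₃) - (y₃ : M₃)) / f₃ π₃ := ⟨_, rfl⟩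
    have hmr : m₃ r = w - w' := by
      rw [hr, map_div₀, map_sub, ← hπdef]
      have e1 : m₃ (x : M₃) - m₃ (y₃ : M₃) = π * (w - w') := by
        have hyw' : m₃ (y₃ : M₃) - m₂ x₂ = π * w' := hyw
        rw [mul_sub, ← hxw, ← hyw']
        ring
      rw [e1, mul_div_cancel_left₀ _ hπne]
    have hrW : r ∈ W.comap m₃ := by
      show m₃ r ∈ W
      rw [hmr]
      exact sub_mem hw hw'
    have hx_eq : x = y₃ + algebraMap ((W.comap m₃).comap f₃) (W.comap m₃) ⟨π₃, hπ₃V⟩ *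
        ⟨r, hrW⟩ := by
      apply Subtype.ext
      show (x : M₃) = (y₃ : M₃) + f₃ π₃ * r
      rw [hr, mul_div_cancel₀ _ hf₃π]
      ring
    rw [hx_eq]
    exact J.add_mem hy₃ (J.mul_mem_right _ hπJ)

end transfer

theorem exists_ringHom_of_range_le {k k' Ω : Type u} [Field k] [Field k'] [Field Ω]
    (ρ : k →+* Ω) (ρ' : k' →+* Ω) (h : ∀ x : k, ∃ y : k', ρ' y = ρ x) :
    ∃ ι : k →+* k', ∀ x, ρ' (ι x) = ρ x := by
  choose g hg using h
  refine ⟨{ toFun := g, map_one' := ?_, map_mul' := ?_, map_zero' := ?_, map_add' := ?_ }, hg⟩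
  · apply ρ'.injective; rw [hg, map_one, map_one]
  · intro x y; apply ρ'.injective; rw [hg, map_mul, map_mul, hg, hg]
  · apply ρ'.injective; rw [hg, map_zero, map_zero]
  · intro x y; apply ρ'.injective; rw [hg, map_add, map_add, hg, hg]

section transfer_gr

variable {K₂ M₂ K₃ M₃ Λ : Type u} [Field K₂] [Field M₂] [Field K₃] [Field M₃] [Field Λ]
  (f₂ : K₂ →+* M₂) (m₂ : M₂ →+* Λ) (f₃ : K₃ →+* M₃) (m₃ : M₃ →+* Λ)
  (W : ValuationSubring Λ) (π : Λ)

/-- residues agree when the difference is a multiple of a non-unit -/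
theorem residue_eq_of_sub_eq (hπ : W.valuation π < 1) (a b : W) (w : Λ) (hw : w ∈ W)
    (h : (a : Λ) - (b : Λ) = π * w) : residue W a = residue W b := by
  rw [← sub_eq_zero, ← map_sub, residue_eq_zero_iff, ValuationSubring.valuation_lt_one_iff]
  push_cast
  rw [h, map_mul]
  exact mul_lt_one_of_lt_of_le hπ ((W.valuation_le_one_iff _).mpr hw)

/-- approximation gives containment of residue field images -/
theorem residue_range_le {M M' : Type u} [Field M] [Field M'] (m : M →+* Λ) (m' : M' →+* Λ)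
    (hπ : W.valuation π < 1)
    (h : ∀ x : M, m x ∈ W → ∃ y : M', ∃ w ∈ W, m' y - m x = π * w)
    (x : ResidueField (W.comap m)) :
    ∃ y : ResidueField (W.comap m'),
      ResidueField.map (EtRam.inclOfComap W m') y = ResidueField.map (EtRam.inclOfComap W m) x := by
  obtain ⟨x', rfl⟩ := residue_surjective x
  obtain ⟨y, w, hw, hyw⟩ := h (x' : M) x'.2
  have hπW : π ∈ W := (W.valuation_le_one_iff _).mp hπ.le
  have hy_eq : m' y = m (x' : M) + π * w := by rw [← hyw]; ring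
  have hyW : y ∈ W.comap m' := by
    show m' y ∈ W
    rw [hy_eq]
    exact W.add_mem _ _ x'.2 (W.mul_mem _ _ hπW hw)
  refine ⟨residue _ ⟨y, hyW⟩, ?_⟩
  rw [ResidueField.map_residue, ResidueField.map_residue]
  exact residue_eq_of_sub_eq W π hπ _ _ w hw hyw

set_option maxHeartbeats 1600000 in
theorem transfer_gr (hπ : W.valuation π < 1)
    (hV23 : ∀ x : K₂, m₂ (f₂ x) ∈ W → ∃ y : K₃, ∃ w ∈ W, m₃ (f₃ y) - m₂ (f₂ x) = π * w)
    (hV32 : ∀ y : K₃, m₃ (f₃ y) ∈ W → ∃ x : K₂, ∃ w ∈ W, m₃ (f₃ y) - m₂ (f₂ x) = π * w)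
    (hW23 : ∀ x : M₂, m₂ x ∈ W → ∃ y : M₃, ∃ w ∈ W, m₃ y - m₂ x = π * w)
    (hW32 : ∀ y : M₃, m₃ y ∈ W → ∃ x : M₂, ∃ w ∈ W, m₃ y - m₂ x = π * w)
    (hgr : @Algebra.IsGeometricallyReduced (ResidueField ((W.comap m₂).comap f₂))
        (ResidueField (W.comap m₂)) _ _
        (ResidueField.map (EtRam.inclOfComap (W.comap m₂) f₂)).toAlgebra) :
    @Algebra.IsGeometricallyReduced (ResidueField ((W.comap m₃).comap f₃))
        (ResidueField (W.comap m₃)) _ _
        (ResidueField.map (EtRam.inclOfComap (W.comap m₃) f₃)).toAlgebra := by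
  obtain ⟨ρW₂, hρW₂⟩ : ∃ ρ : ResidueField (W.comap m₂) →+* ResidueField W,
    ρ = ResidueField.map (EtRam.inclOfComap W m₂) := ⟨_, rfl⟩
  obtain ⟨ρW₃, hρW₃⟩ : ∃ ρ : ResidueField (W.comap m₃) →+* ResidueField W,
    ρ = ResidueField.map (EtRam.inclOfComap W m₃) := ⟨_, rfl⟩
  obtain ⟨κ₂, hκ₂⟩ : ∃ κ : ResidueField ((W.comap m₂).comap f₂) →+* ResidueField (W.comap m₂),
    κ = ResidueField.map (EtRam.inclOfComap (W.comap m₂) f₂) := ⟨_, rfl⟩
  obtain ⟨κ₃, hκ₃⟩ : ∃ κ : ResidueField ((W.comap m₃).comap f₃) →+* ResidueField (W.comap m₃),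
    κ = ResidueField.map (EtRam.inclOfComap (W.comap m₃) f₃) := ⟨_, rfl⟩
  -- composite residue maps agree with the direct ones
  have hcomp₂ : ∀ x : ResidueField ((W.comap m₂).comap f₂), ρW₂ (κ₂ x) =
      ResidueField.map (EtRam.inclOfComap W (m₂.comp f₂)) x := by
    intro x
    obtain ⟨x', rfl⟩ := residue_surjective x
    rw [hρW₂, hκ₂, ResidueField.map_residue, ResidueField.map_residue]
    exact (ResidueField.map_residue (EtRam.inclOfComap W (m₂.comp f₂)) x').symm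
  have hcomp₃ : ∀ x : ResidueField ((W.comap m₃).comap f₃), ρW₃ (κ₃ x) =
      ResidueField.map (EtRam.inclOfComap W (m₃.comp f₃)) x := by
    intro x
    obtain ⟨x', rfl⟩ := residue_surjective x
    rw [hρW₃, hκ₃, ResidueField.map_residue, ResidueField.map_residue]
    exact (ResidueField.map_residue (EtRam.inclOfComap W (m₃.comp f₃)) x').symm
  have hR1 : ∀ x, ∃ y, ρW₃ y = ρW₂ x := by
    intro x
    rw [hρW₂, hρW₃]
    exact residue_range_le W π m₂ m₃ hπ hW23 x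
  have hR2 : ∀ y, ∃ x, ρW₂ x = ρW₃ y := by
    intro y
    rw [hρW₂, hρW₃]
    refine residue_range_le W (-π) m₃ m₂ (by rwa [Valuation.map_neg]) ?_ y
    intro y hy
    obtain ⟨x, w, hw, hxw⟩ := hW32 y hy
    exact ⟨x, w, hw, by rw [neg_mul, ← hxw]; ring⟩
  have hR3 : ∀ x, ∃ y, ρW₃ (κ₃ y) = ρW₂ (κ₂ x) := by
    intro x
    obtain ⟨y, hy⟩ := residue_range_le W π (m₂.comp f₂) (m₃.comp f₃) hπ hV23 x
    exact ⟨y, by rw [hcomp₃, hcomp₂]; exact hy⟩
  have hR4 : ∀ y, ∃ x, ρW₂ (κ₂ x) = ρW₃ (κ₃ y) := by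
    intro y
    obtain ⟨x, hx⟩ := residue_range_le W (-π) (m₃.comp f₃) (m₂.comp f₂)
      (by rwa [Valuation.map_neg]) (by
        intro y hy
        obtain ⟨x, w, hw, hxw⟩ := hV32 y hy
        exact ⟨x, w, hw, by
          show m₂ (f₂ x) - m₃ (f₃ y) = -π * w
          rw [neg_mul, ← hxw]; ring⟩) y
    exact ⟨x, by rw [hcomp₃, hcomp₂]; exact hx⟩
  obtain ⟨ι, hι⟩ := exists_ringHom_of_range_le ρW₂ ρW₃ hR1
  obtain ⟨e, he⟩ := exists_ringHom_of_range_le (ρW₂.comp κ₂) (ρW₃.comp κ₃) hR3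
  have he' : ∀ x, ρW₃ (κ₃ (e x)) = ρW₂ (κ₂ x) := he
  have hesurj : Function.Surjective e := by
    intro y
    obtain ⟨x, hx⟩ := hR4 y
    refine ⟨x, ?_⟩
    apply κ₃.injective
    apply ρW₃.injective
    rw [he', hx]
  subst hκ₂ hκ₃
  letI algAB : Algebra (ResidueField ((W.comap m₂).comap f₂)) (ResidueField (W.comap m₂)) :=
    (ResidueField.map (EtRam.inclOfComap (W.comap m₂) f₂)).toAlgebra
  letI algA1 : Algebra (ResidueField ((W.comap m₂).comap f₂))
    (ResidueField ((W.comap m₃).comap f₃)) := e.toAlgebra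
  letI alg1W : Algebra (ResidueField ((W.comap m₃).comap f₃)) (ResidueField (W.comap m₃)) :=
    (ResidueField.map (EtRam.inclOfComap (W.comap m₃) f₃)).toAlgebra
  haveI : Algebra.IsIntegral (ResidueField ((W.comap m₂).comap f₂))
      (ResidueField ((W.comap m₃).comap f₃)) := Algebra.isIntegral_of_surjective hesurj
  haveI : Algebra.IsAlgebraic (ResidueField ((W.comap m₂).comap f₂))
      (ResidueField ((W.comap m₃).comap f₃)) := inferInstance
  haveI hgr' : Algebra.IsGeometricallyReduced (ResidueField ((W.comap m₂).comap f₂))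
      (ResidueField (W.comap m₂)) := hgr
  have key := GRedH8.geomRed_of_generated (ResidueField ((W.comap m₂).comap f₂))
    (ResidueField (W.comap m₂)) (ResidueField ((W.comap m₃).comap f₃))
    (ResidueField (W.comap m₃)) ι
    (fun c => by
      apply ρW₃.injective
      rw [hι]
      exact (he' c).symm)
    (fun w => by
      obtain ⟨x, hx⟩ := hR2 w
      apply Subring.subset_closure
      left
      refine ⟨x, ?_⟩
      apply ρW₃.injective
      rw [hι, hx])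
  exact key

end transfer_gr

end Groth.Agent.Lib.InsepSolH8
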