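import Mathlib
import Groth.Prelude.Def_EtRam
import Groth.Agent.Lib.InsepSol2_helper8

/-!
# Purely inseparable degree-p step for solutions: all four approximation statements (helper8)
-/

set_option autoImplicit false
universe u

namespace Groth.Agent.Lib.InsepSolH8

set_option maxHeartbeats 1600000 in
theorem approx_all {Λ K₁ K₂ K₃ M₂ M₃ : Type u} [Field Λ] [Field K₁] [Field K₂] [Field K₃]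
    [Field M₂] [Field M₃] [Algebra K₁ K₂] [Algebra K₁ K₃] (p : ℕ) [hp : Fact p.Prime]
    [CharP Λ p] (W : ValuationSubring Λ)
    (f₂ : K₂ →+* M₂) (m₂ : M₂ →+* Λ) (f₃ : K₃ →+* M₃) (m₃ : M₃ →+* Λ)
    (hcompat : ∀ k : K₁, m₂ (f₂ (algebraMap K₁ K₂ k)) = m₃ (f₃ (algebraMap K₁ K₃ k)))
    (z : K₂) (ζ₀ : K₃) (π₁ g : K₁) (c : ℕ)
    (hz : z ^ p = algebraMap K₁ K₂ g)
    (hζ : ζ₀ ^ p = algebraMap K₁ K₃ (π₁ ^ (p * (c + 2))) * ζ₀ + algebraMap K₁ K₃ g)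
    (hzrep : ∀ y : K₂, ∃ a : ℕ → K₁,
      y = ∑ i ∈ Finset.range p, algebraMap K₁ K₂ (a i) * z ^ i)
    (hζrep : ∀ y : K₃, ∃ a : ℕ → K₁,
      y = ∑ i ∈ Finset.range p, algebraMap K₁ K₃ (a i) * ζ₀ ^ i)
    (hπ0 : π₁ ≠ 0) (hπ : W.valuation (m₃ (f₃ (algebraMap K₁ K₃ π₁))) < 1)
    (hzW : m₂ (f₂ z) ∈ W) (hζW : m₃ (f₃ ζ₀) ∈ W)
    (M₁ : Subfield Λ) (hM₁ : ∀ k : K₁, m₃ (f₃ (algebraMap K₁ K₃ k)) ∈ M₁)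
    (hb : ∀ a : ℕ → Λ, (∀ i, a i ∈ M₁) → psum p a (m₂ (f₂ z)) ∈ W →
      ∀ i < p, m₃ (f₃ (algebraMap K₁ K₃ π₁)) ^ c * a i ∈ W)
    (hM₂ : ∀ x : M₂, ∃ a : ℕ → Λ, (∀ i, a i ∈ M₁) ∧ m₂ x = psum p a (m₂ (f₂ z)))
    (hM₂' : ∀ a : ℕ → Λ, (∀ i, a i ∈ M₁) → ∃ x : M₂, m₂ x = psum p a (m₂ (f₂ z)))
    (hM₃ : ∀ y : M₃, ∃ a : ℕ → Λ, (∀ i, a i ∈ M₁) ∧ m₃ y = psum p a (m₃ (f₃ ζ₀)))
    (hM₃' : ∀ a : ℕ → Λ, (∀ i, a i ∈ M₁) → ∃ y : M₃, m₃ y = psum p a (m₃ (f₃ ζ₀))) :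
    (∀ x : K₂, m₂ (f₂ x) ∈ W → ∃ y : K₃, ∃ w ∈ W,
      m₃ (f₃ y) - m₂ (f₂ x) = m₃ (f₃ (algebraMap K₁ K₃ π₁)) * w) ∧
    (∀ y : K₃, m₃ (f₃ y) ∈ W → ∃ x : K₂, ∃ w ∈ W,
      m₃ (f₃ y) - m₂ (f₂ x) = m₃ (f₃ (algebraMap K₁ K₃ π₁)) * w) ∧
    (∀ x : M₂, m₂ x ∈ W → ∃ y : M₃, ∃ w ∈ W,
      m₃ y - m₂ x = m₃ (f₃ (algebraMap K₁ K₃ π₁)) * w) ∧
    (∀ y : M₃, m₃ y ∈ W → ∃ x : M₂, ∃ w ∈ W,
      m₃ y - m₂ x = m₃ (f₃ (algebraMap K₁ K₃ π₁)) * w) := by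
  obtain ⟨ι₁, hι₁⟩ : ∃ ι₁ : K₁ →+* Λ, ι₁ = (m₃.comp f₃).comp (algebraMap K₁ K₃) := ⟨_, rfl⟩
  have hι₁3 : ∀ k, m₃ (f₃ (algebraMap K₁ K₃ k)) = ι₁ k := fun k => by rw [hι₁]; rfl
  have hι₁2 : ∀ k, m₂ (f₂ (algebraMap K₁ K₂ k)) = ι₁ k := fun k => by rw [hcompat, hι₁3]
  obtain ⟨π, hπdef⟩ : ∃ π : Λ, π = ι₁ π₁ := ⟨_, rfl⟩
  obtain ⟨zΛ, hzΛ⟩ : ∃ zΛ : Λ, zΛ = m₂ (f₂ z) := ⟨_, rfl⟩
  obtain ⟨ζ, hζdef⟩ : ∃ ζ : Λ, ζ = m₃ (f₃ ζ₀) := ⟨_, rfl⟩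
  rw [hι₁3, ← hπdef] at hπ hb
  simp only [hι₁3, ← hπdef, ← hzΛ, ← hζdef] at hM₁ hb hM₂ hM₂' hM₃ hM₃' hzW hζW ⊢
  have hπne : π ≠ 0 := by rw [hπdef]; exact (map_ne_zero ι₁).mpr hπ0
  have hπW : π ∈ W := (W.valuation_le_one_iff _).mp hπ.le
  have hπinv : π⁻¹ ∉ W := by
    intro h
    have h1 : W.valuation π⁻¹ ≤ 1 := (W.valuation_le_one_iff _).mpr h
    rw [map_inv₀] at h1
    have h2 : W.valuation π ≠ 0 := (map_ne_zero _).mpr hπne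
    have h3 : W.valuation π * (W.valuation π)⁻¹ = 1 := mul_inv_cancel₀ h2
    have h4 := mul_lt_one_of_lt_of_le hπ h1
    rw [h3] at h4
    exact lt_irrefl _ h4
  have hπM : π ∈ M₁ := by rw [hπdef]; exact hM₁ π₁
  have hzp : zΛ ^ p = ι₁ g := by rw [hzΛ, ← map_pow, ← map_pow, hz, hι₁2]
  have hζp : ζ ^ p = π ^ (p * (c + 2)) * ζ + ι₁ g := by
    rw [hζdef, ← map_pow, ← map_pow, hζ, map_add, map_add, map_mul, map_mul, hι₁3, hι₁3,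
      map_pow, ← hπdef]
  obtain ⟨d, hd, hδ⟩ := exists_delta W p π zΛ ζ c hπne hζW (by rw [hζp, hzp]; ring)
  have keyA := key_A W p M₁ π zΛ ζ d c hπne hπW hzW hζW hd hδ hb
  have keyB := key_B W p hp.out.pos M₁ π zΛ ζ d c hπne hπW hπM hπinv hzW hζW hd hδ hb
  have hK₂ : ∀ a : ℕ → K₁, m₂ (f₂ (∑ i ∈ Finset.range p, algebraMap K₁ K₂ (a i) * z ^ i)) =
      psum p (fun i => ι₁ (a i)) zΛ := by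
    intro a
    unfold psum
    rw [map_sum, map_sum]
    apply Finset.sum_congr rfl
    intro i _
    rw [map_mul, map_mul, map_pow, map_pow, hι₁2, hzΛ]
  have hK₃ : ∀ a : ℕ → K₁, m₃ (f₃ (∑ i ∈ Finset.range p, algebraMap K₁ K₃ (a i) * ζ₀ ^ i)) =
      psum p (fun i => ι₁ (a i)) ζ := by
    intro a
    unfold psum
    rw [map_sum, map_sum]
    apply Finset.sum_congr rfl
    intro i _
    rw [map_mul, map_mul, map_pow, map_pow, hι₁3, hζdef]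
  refine ⟨?_, ?_, ?_, ?_⟩
  · intro x hx
    obtain ⟨a, rfl⟩ := hzrep x
    rw [hK₂] at hx ⊢
    obtain ⟨w, hw, hdiff⟩ := keyA _ (fun i => hM₁ (a i)) hx
    exact ⟨∑ i ∈ Finset.range p, algebraMap K₁ K₃ (a i) * ζ₀ ^ i, w, hw, by rw [hK₃]; exact hdiff⟩
  · intro y hy
    obtain ⟨a, rfl⟩ := hζrep y
    rw [hK₃] at hy ⊢
    have hz' := keyB _ (fun i => hM₁ (a i)) hy
    obtain ⟨w, hw, hdiff⟩ := keyA _ (fun i => hM₁ (a i)) hz'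
    exact ⟨∑ i ∈ Finset.range p, algebraMap K₁ K₂ (a i) * z ^ i, w, hw, by rw [hK₂]; exact hdiff⟩
  · intro x hx
    obtain ⟨a, ha, hxa⟩ := hM₂ x
    rw [hxa] at hx ⊢
    obtain ⟨w, hw, hdiff⟩ := keyA a ha hx
    obtain ⟨y, hy⟩ := hM₃' a ha
    exact ⟨y, w, hw, by rw [hy]; exact hdiff⟩
  · intro y hy
    obtain ⟨a, ha, hya⟩ := hM₃ y
    rw [hya] at hy ⊢
    have hz' := keyB a ha hy
    obtain ⟨w, hw, hdiff⟩ := keyA a ha hz'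
    obtain ⟨x, hx⟩ := hM₂' a ha
    exact ⟨x, w, hw, by rw [hx]; exact hdiff⟩

end Groth.Agent.Lib.InsepSolH8
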