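import Mathlib
import Groth.Prelude.Def_EtRam
import Groth.Agent.Lib.GRedDvr1_helper8
import Groth.Agent.Lib.GRedDvr2_helper8
import Groth.Agent.Lib.InsepSol2_helper8

/-!
# Purely inseparable degree-p step for solutions: linear disjointness input (helper8)
-/

set_option autoImplicit false
universe u

namespace Groth.Agent.Lib.InsepSolH8

open TensorProduct Polynomial

set_option maxHeartbeats 1600000 in
/-- If `L/K` is geometrically reduced, `K₂ = K₁(z)` with `z ^ p ∈ K₁`, `z ∉ K₁`, then for any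
`K`-embedding `σ` of `K₂` into a field `Λ ⊇ L`, the image of `z` is not in the image of
`L ⊗_K K₁`. -/
theorem not_mem_image (K L K₁ K₂ : Type u) [Field K] [Field L] [Field K₁] [Field K₂]
    [Algebra K L] [Algebra K K₁] [Algebra K K₂] [Algebra K₁ K₂] [IsScalarTower K K₁ K₂]
    [Algebra.IsAlgebraic K K₁] [Algebra.IsAlgebraic K K₂]
    [Algebra.IsGeometricallyReduced K L] (p : ℕ) [hp : Fact p.Prime] [CharP K p]
    {Λ : Type u} [Field Λ] [Algebra K Λ] [Algebra L Λ] [IsScalarTower K L Λ]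
    (σ : K₂ →ₐ[K] Λ) (z : K₂) (g : K₁) (hzg : z ^ p = algebraMap K₁ K₂ g)
    (hz : z ∉ Set.range (algebraMap K₁ K₂)) (w : L ⊗[K] K₁) :
    Algebra.TensorProduct.productMap (IsScalarTower.toAlgHom K L Λ)
      (σ.comp (IsScalarTower.toAlgHom K K₁ K₂)) w ≠ σ z := by
  intro hw
  obtain ⟨σ₁, hσ₁⟩ : ∃ σ₁ : K₁ →ₐ[K] Λ, σ₁ = σ.comp (IsScalarTower.toAlgHom K K₁ K₂) := ⟨_, rfl⟩
  obtain ⟨φ₁, hφ₁⟩ : ∃ φ₁ : L ⊗[K] K₁ →ₐ[K] Λ,
    φ₁ = Algebra.TensorProduct.productMap (IsScalarTower.toAlgHom K L Λ) σ₁ := ⟨_, rfl⟩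
  obtain ⟨φ₂, hφ₂⟩ : ∃ φ₂ : L ⊗[K] K₂ →ₐ[K] Λ,
    φ₂ = Algebra.TensorProduct.productMap (IsScalarTower.toAlgHom K L Λ) σ := ⟨_, rfl⟩
  obtain ⟨ψ, hψ⟩ : ∃ ψ : L ⊗[K] K₁ →ₐ[K] L ⊗[K] K₂,
    ψ = Algebra.TensorProduct.map (AlgHom.id K L) (IsScalarTower.toAlgHom K K₁ K₂) := ⟨_, rfl⟩
  rw [← hσ₁, ← hφ₁] at hw
  have hφ₁t : ∀ (l : L) (k : K₁), φ₁ (l ⊗ₜ k) = algebraMap L Λ l * σ (algebraMap K₁ K₂ k) := by
    intro l k
    rw [hφ₁, Algebra.TensorProduct.productMap_apply_tmul, hσ₁]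
    rfl
  have hψt : ∀ (l : L) (k : K₁), ψ (l ⊗ₜ k) = l ⊗ₜ algebraMap K₁ K₂ k := by
    intro l k
    rw [hψ, Algebra.TensorProduct.map_tmul]
    rfl
  -- the functional
  obtain ⟨lam, hlam1, hlamz⟩ : ∃ lam : K₂ →ₗ[K₁] K₁, lam 1 = 0 ∧ lam z = 1 := by
    have hzr : z ∉ LinearMap.range (Algebra.linearMap K₁ K₂) := by
      rintro ⟨k, hk⟩
      exact hz ⟨k, hk⟩
    obtain ⟨f, hfz, hle⟩ := Submodule.exists_le_ker_of_notMem hzr
    refine ⟨(f z)⁻¹ • f, ?_, ?_⟩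
    · have h1 : (1 : K₂) ∈ LinearMap.ker f := hle ⟨1, by simp⟩
      rw [LinearMap.smul_apply, LinearMap.mem_ker.mp h1, smul_zero]
    · rw [LinearMap.smul_apply, smul_eq_mul, inv_mul_cancel₀ hfz]
  obtain ⟨Lam, hLam⟩ : ∃ Lam : L ⊗[K] K₂ →ₗ[K] L ⊗[K] K₁,
    Lam = LinearMap.lTensor L (lam.restrictScalars K) := ⟨_, rfl⟩
  have hLamt : ∀ (l : L) (k : K₂), Lam (l ⊗ₜ k) = l ⊗ₜ lam k := by
    intro l k
    rw [hLam, LinearMap.lTensor_tmul]
    rfl
  have hLamlin : ∀ (r : L ⊗[K] K₁) (m : L ⊗[K] K₂), Lam (ψ r * m) = r * Lam m := by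
    intro r m
    induction r using TensorProduct.induction_on with
    | zero => simp
    | add r₁ r₂ h₁ h₂ => rw [map_add, add_mul, map_add, h₁, h₂, add_mul]
    | tmul l k =>
      induction m using TensorProduct.induction_on with
      | zero => simp
      | add m₁ m₂ h₁ h₂ => rw [mul_add, map_add, h₁, h₂, map_add, mul_add]
      | tmul l' k' =>
        rw [hψt, Algebra.TensorProduct.tmul_mul_tmul, hLamt, hLamt,
          Algebra.TensorProduct.tmul_mul_tmul, ← Algebra.smul_def, map_smul, smul_eq_mul]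
  -- nontriviality and char p of R₂
  haveI : Nontrivial (L ⊗[K] K₂) := RingHom.domain_nontrivial φ₂.toRingHom
  haveI : CharP (L ⊗[K] K₂) p :=
    charP_of_injective_algebraMap (algebraMap K (L ⊗[K] K₂)).injective p
  haveI : Nontrivial (L ⊗[K] K₁) := RingHom.domain_nontrivial φ₁.toRingHom
  haveI : CharP (L ⊗[K] K₁) p :=
    charP_of_injective_algebraMap (algebraMap K (L ⊗[K] K₁)).injective p
  haveI : IsReduced (L ⊗[K] K₂) := GRedH8.isReduced_of_vnr (GRedH8.vnr_tensor K L K₂)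
  -- the element x
  obtain ⟨x, hx⟩ : ∃ x : L ⊗[K] K₁, x = (1 : L) ⊗ₜ[K] g - w ^ p := ⟨_, rfl⟩
  have hφx : φ₁ x = 0 := by
    rw [hx, map_sub, map_pow, hw, hφ₁t, map_one, one_mul, ← hzg, map_pow, sub_self]
  obtain ⟨y, hy⟩ := GRedH8.vnr_tensor K L K₁ x
  obtain ⟨u, hu⟩ : ∃ u : L ⊗[K] K₁, u = 1 - x * y := ⟨_, rfl⟩
  have hux : u * x = 0 := by
    rw [hu, sub_mul, one_mul, sub_eq_zero]
    calc x = x * x * y := hy
      _ = x * y * x := by ring
  have hφu : φ₁ u = 1 := by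
    rw [hu, map_sub, map_one, map_mul, hφx, zero_mul, sub_zero]
  obtain ⟨n, hn⟩ : ∃ n : L ⊗[K] K₂, n = (1 : L) ⊗ₜ[K] z - ψ w := ⟨_, rfl⟩
  have hnp : n ^ p = ψ x := by
    rw [hn, sub_pow_char, Algebra.TensorProduct.tmul_pow, one_pow, hzg, hx, map_sub, map_pow,
      hψt]
  have hun : ψ u * n = 0 := by
    apply IsReduced.eq_zero
    refine ⟨p, ?_⟩
    rw [mul_pow, hnp, ← map_pow, ← map_mul]
    have : u ^ p * x = u ^ (p - 1) * (u * x) := by
      rw [← mul_assoc, ← pow_succ]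
      congr 2
      have := hp.out.pos
      omega
    rw [this, hux, mul_zero, map_zero]
  have h1 : Lam (ψ u * n) = u := by
    rw [hLamlin, hn, map_sub, hLamt, hlamz]
    have h2 : Lam (ψ w) = 0 := by
      have := hLamlin w 1
      rw [mul_one] at this
      rw [this]
      have h3 : Lam (1 : L ⊗[K] K₂) = 0 := by
        rw [Algebra.TensorProduct.one_def, hLamt, hlam1, TensorProduct.tmul_zero]
      rw [h3, mul_zero]
    rw [h2, sub_zero, ← Algebra.TensorProduct.one_def, mul_one]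
  rw [hun, map_zero] at h1
  rw [← h1, map_zero] at hφu
  exact zero_ne_one hφu

/-- Linear independence of `1, z, …, z^(p-1)` over a subfield `M₁` with `z^p ∈ M₁`, `z ∉ M₁`. -/
theorem psum_eq_zero_imp {Λ : Type u} [Field Λ] (p : ℕ) [hp : Fact p.Prime] [CharP Λ p]
    (M₁ : Subfield Λ) (z : Λ) (hzp : z ^ p ∈ M₁) (hz : z ∉ M₁) (a : ℕ → Λ)
    (ha : ∀ i, a i ∈ M₁) (h : psum p a z = 0) : ∀ i < p, a i = 0 := by
  classical
  obtain ⟨g₁, hg₁⟩ : ∃ g₁ : M₁, (g₁ : Λ) = z ^ p := ⟨⟨z ^ p, hzp⟩, rfl⟩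
  have hirr : Irreducible (X ^ p - C g₁ : M₁[X]) := by
    apply X_pow_sub_C_irreducible_of_prime hp.out
    intro b hb
    have h1 : (b : Λ) ^ p = z ^ p := by
      rw [← hg₁, ← hb]
      rfl
    have h2 : ((b : Λ) - z) ^ p = 0 := by rw [sub_pow_char, h1, sub_self]
    have h3 : (b : Λ) = z := sub_eq_zero.mp (pow_eq_zero_iff hp.out.ne_zero |>.mp h2)
    exact hz (h3 ▸ b.2)
  have hmonic : (X ^ p - C g₁ : M₁[X]).Monic := monic_X_pow_sub_C g₁ hp.out.ne_zero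
  have hroot : aeval z (X ^ p - C g₁ : M₁[X]) = 0 := by
    rw [map_sub, map_pow, aeval_X, aeval_C, sub_eq_zero]
    exact hg₁.symm
  have hmin : (X ^ p - C g₁ : M₁[X]) = minpoly M₁ z :=
    minpoly.eq_of_irreducible_of_monic hirr hroot hmonic
  obtain ⟨q, hq⟩ : ∃ q : M₁[X], q = ∑ i ∈ Finset.range p, C (⟨a i, ha i⟩ : M₁) * X ^ i :=
    ⟨_, rfl⟩
  have hqcoeff : ∀ m, q.coeff m = if m ∈ Finset.range p then (⟨a m, ha m⟩ : M₁) else 0 := by
    intro m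
    rw [hq, finsetSum_coeff]
    simp only [coeff_C_mul_X_pow]
    rw [Finset.sum_ite_eq]
  have hqz : aeval z q = 0 := by
    rw [hq, map_sum, ← h]
    unfold psum
    apply Finset.sum_congr rfl
    intro i _
    rw [map_mul, aeval_C, map_pow, aeval_X]
    rfl
  have hdvd : (X ^ p - C g₁ : M₁[X]) ∣ q := hmin ▸ minpoly.dvd M₁ z hqz
  have hdeg : q.degree < (X ^ p - C g₁ : M₁[X]).degree := by
    rw [degree_X_pow_sub_C hp.out.pos, degree_lt_iff_coeff_zero]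
    intro m hm
    rw [hqcoeff, if_neg]
    rw [Finset.mem_range]
    omega
  have hq0 : q = 0 := eq_zero_of_dvd_of_degree_lt hdvd hdeg
  intro i hi
  have h1 := hqcoeff i
  rw [hq0, coeff_zero, if_pos (Finset.mem_range.mpr hi)] at h1
  exact (congrArg Subtype.val h1).symm

end Groth.Agent.Lib.InsepSolH8
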