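import Mathlib
import Groth.Prelude.Def_EtRam
import Groth.Agent.Lib.InsepSol3_helper8
import Groth.Agent.Lib.InsepSol4_helper8
import Groth.Agent.Lib.InsepSol7_helper8
import Groth.Agent.Lib.InsepSol8_helper8

/-!
# Purely inseparable degree-p step for solutions: the uniform bound for an embedding (helper8)
-/

set_option autoImplicit false
universe u

namespace Groth.Agent.Lib.InsepSolH8

open IsLocalRing TensorProduct

theorem psum_single {Λ : Type u} [Field Λ] (p : ℕ) (hp : 0 < p) (y x : Λ) :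
    psum p (fun i => if i = 0 then y else 0) x = y := by
  unfold psum
  rw [Finset.sum_eq_single 0]
  · simp
  · intro i _ hi
    simp only [if_neg hi, zero_mul]
  · intro h
    exact absurd (Finset.mem_range.mpr hp) h

section rep

variable {K L K₁ K' Λ : Type u} [Field K] [Field L] [Field K₁] [Field K'] [Field Λ]
  [Algebra K L] [Algebra K K₁] [Algebra K K'] [Algebra K₁ K'] [IsScalarTower K K₁ K']
  [Algebra K Λ] [Algebra L Λ] [IsScalarTower K L Λ] [Algebra.IsAlgebraic L Λ]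

set_option maxHeartbeats 1600000 in
theorem mem_adjoin_iff_psum (p : ℕ) (hp : 1 < p) (τ : K' →ₐ[K] Λ) (x₀ : K') (β γ : K₁)
    (hx₀ : x₀ ^ p = algebraMap K₁ K' β * x₀ + algebraMap K₁ K' γ)
    (hrep : ∀ y : K', ∃ a : ℕ → K₁,
      y = ∑ i ∈ Finset.range p, algebraMap K₁ K' (a i) * x₀ ^ i) (y : Λ) :
    y ∈ IntermediateField.adjoin L (Set.range τ) ↔
      ∃ a : ℕ → Λ, (∀ i, a i ∈ (IntermediateField.adjoin L
        (Set.range (τ.comp (IsScalarTower.toAlgHom K K₁ K')))).toSubfield) ∧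
        y = psum p a (τ x₀) := by
  obtain ⟨τ₁, hτ₁⟩ : ∃ τ₁ : K₁ →ₐ[K] Λ, τ₁ = τ.comp (IsScalarTower.toAlgHom K K₁ K') :=
    ⟨_, rfl⟩
  rw [← hτ₁]
  have hτ₁a : ∀ k, τ₁ k = τ (algebraMap K₁ K' k) := fun k => by rw [hτ₁]; rfl
  obtain ⟨M₁, hM₁⟩ : ∃ M₁ : Subfield Λ,
    M₁ = (IntermediateField.adjoin L (Set.range τ₁)).toSubfield := ⟨_, rfl⟩
  rw [← hM₁]
  have hτ₁M : ∀ k, τ₁ k ∈ M₁ := fun k => by
    rw [hM₁]
    exact IntermediateField.subset_adjoin L _ ⟨k, rfl⟩
  have hLM : ∀ l : L, algebraMap L Λ l ∈ M₁ := fun l => by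
    rw [hM₁]
    exact (IntermediateField.adjoin L (Set.range τ₁)).algebraMap_mem l
  have hx : (τ x₀) ^ p = τ₁ β * τ x₀ + τ₁ γ := by
    rw [← map_pow, hx₀, map_add, map_mul, hτ₁a, hτ₁a]
  obtain ⟨R, hR⟩ := exists_subring_psum M₁ p hp (τ x₀) (τ₁ β) (τ₁ γ) (hτ₁M β) (hτ₁M γ) hx
  have hM₁R : ∀ y ∈ M₁, y ∈ R := fun y hy =>
    (hR y).mpr ⟨fun i => if i = 0 then y else 0,
      fun i => by dsimp only; split_ifs; exacts [hy, M₁.zero_mem], (psum_single p (by omega) y _).symm⟩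
  constructor
  · intro hy
    rw [← hR]
    have hy' : y ∈ Algebra.adjoin L (Set.range τ) := by
      rw [← IntermediateField.adjoin_toSubalgebra]
      exact hy
    refine Algebra.adjoin_induction (p := fun y _ => y ∈ R) ?_ ?_ ?_ ?_ hy'
    · rintro _ ⟨k, rfl⟩
      obtain ⟨a, rfl⟩ := hrep k
      rw [hR]
      refine ⟨fun i => τ₁ (a i), fun i => hτ₁M _, ?_⟩
      unfold psum
      rw [map_sum]
      apply Finset.sum_congr rfl
      intro i _
      simp only [map_mul, map_pow, hτ₁a]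
    · intro l
      exact hM₁R _ (hLM l)
    · intro x y _ _ hx hy
      exact R.add_mem hx hy
    · intro x y _ _ hx hy
      exact R.mul_mem hx hy
  · rintro ⟨a, ha, rfl⟩
    have hle : IntermediateField.adjoin L (Set.range τ₁) ≤
        IntermediateField.adjoin L (Set.range τ) := by
      apply IntermediateField.adjoin.mono
      rintro _ ⟨k, rfl⟩
      exact ⟨algebraMap K₁ K' k, (hτ₁a k).symm⟩
    have hxm : τ x₀ ∈ IntermediateField.adjoin L (Set.range τ) :=
      IntermediateField.subset_adjoin L _ ⟨x₀, rfl⟩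
    unfold psum
    refine sum_mem (fun i _ => mul_mem (hle ?_) (pow_mem hxm _))
    have := ha i
    rw [hM₁] at this
    exact this

theorem exists_tensor_of_mem_adjoin (τ₁ : K₁ →ₐ[K] Λ) (x : Λ)
    (hx : x ∈ IntermediateField.adjoin L (Set.range τ₁)) :
    ∃ w : L ⊗[K] K₁,
      Algebra.TensorProduct.productMap (IsScalarTower.toAlgHom K L Λ) τ₁ w = x := by
  have hx' : x ∈ Algebra.adjoin L (Set.range τ₁) := by
    rw [← IntermediateField.adjoin_toSubalgebra]
    exact hx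
  refine Algebra.adjoin_induction (p := fun x _ => ∃ w : L ⊗[K] K₁,
    Algebra.TensorProduct.productMap (IsScalarTower.toAlgHom K L Λ) τ₁ w = x) ?_ ?_ ?_ ?_ hx'
  · rintro _ ⟨k, rfl⟩
    exact ⟨1 ⊗ₜ k, by rw [Algebra.TensorProduct.productMap_apply_tmul, map_one, one_mul]⟩
  · intro l
    exact ⟨l ⊗ₜ 1, by
      rw [Algebra.TensorProduct.productMap_apply_tmul, map_one, mul_one]
      rfl⟩
  · rintro x y _ _ ⟨w, rfl⟩ ⟨w', rfl⟩
    exact ⟨w + w', map_add _ _ _⟩
  · rintro x y _ _ ⟨w, rfl⟩ ⟨w', rfl⟩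
    exact ⟨w * w', map_mul _ _ _⟩

end rep

section bound

variable (p : ℕ) [hp : Fact p.Prime] (B K L K₁ K₂ : Type u) [CommRing B] [IsDomain B]
  [IsDiscreteValuationRing B] [Field K] [Field L] [Field K₁] [Field K₂] [Algebra B L]
  [IsFractionRing B L] [Algebra K L] [Algebra K K₁] [Algebra K K₂] [Algebra K₁ K₂]
  [IsScalarTower K K₁ K₂] [FiniteDimensional K K₁] [FiniteDimensional K K₂] [CharP K p]
  [Algebra.IsGeometricallyReduced K L]
  {Λ : Type u} [Field Λ] [Algebra K Λ] [Algebra L Λ] [IsScalarTower K L Λ]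
  [Algebra.IsAlgebraic L Λ] [Algebra B Λ] [IsScalarTower B L Λ]

set_option maxHeartbeats 1600000 in
/-- The coefficient bound for the compositum attached to an embedding `σ`. -/
theorem exists_bound
    (hN : ∀ (M' : Type u) [Field M'] [Algebra B M'] [Algebra L M'] [IsScalarTower B L M'],
      FiniteDimensional L M' → Module.Finite B (integralClosure B M'))
    (ϖ : B) (hϖ : Irreducible ϖ) (hdeg : Module.finrank K₁ K₂ = p)
    (z : K₂) (g : K₁) (hzg : z ^ p = algebraMap K₁ K₂ g)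
    (hz : z ∉ Set.range (algebraMap K₁ K₂)) (σ : K₂ →ₐ[K] Λ) :
    ∃ c : ℕ, ∀ W : ValuationSubring Λ, (∀ b : B, algebraMap B Λ b ∈ W) →
      (∀ b ∈ maximalIdeal B, W.valuation (algebraMap B Λ b) < 1) →
      ∀ a : ℕ → Λ, (∀ i, a i ∈ (IntermediateField.adjoin L
        (Set.range (σ.comp (IsScalarTower.toAlgHom K K₁ K₂)))).toSubfield) →
        psum p a (σ z) ∈ W → ∀ i < p, algebraMap B Λ ϖ ^ c * a i ∈ W := by
  obtain ⟨σ₁, hσ₁⟩ : ∃ σ₁ : K₁ →ₐ[K] Λ, σ₁ = σ.comp (IsScalarTower.toAlgHom K K₁ K₂) :=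
    ⟨_, rfl⟩
  have hσ₁a : ∀ k, σ₁ k = σ (algebraMap K₁ K₂ k) := fun k => by rw [hσ₁]; rfl
  have hmem := fun y => mem_adjoin_iff_psum (L := L) p hp.out.one_lt σ z 0 g
    (by rw [map_zero, zero_mul, zero_add, hzg])
    (rep_of_prime_degree p hp.out hdeg z g hzg hz) y
  rw [← hσ₁] at hmem ⊢
  obtain ⟨M₁, hM₁⟩ : ∃ M₁ : Subfield Λ,
    M₁ = (IntermediateField.adjoin L (Set.range σ₁)).toSubfield := ⟨_, rfl⟩
  rw [← hM₁] at hmem ⊢
  haveI : CharP Λ p := charP_of_injective_algebraMap (algebraMap K Λ).injective p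
  have hinj : Function.Injective (algebraMap B Λ) := by
    rw [IsScalarTower.algebraMap_eq B L Λ]
    exact (algebraMap L Λ).injective.comp (IsFractionRing.injective B L)
  have hBM : ∀ b : B, algebraMap B Λ b ∈ M₁ := fun b => by
    rw [hM₁, IsScalarTower.algebraMap_apply B L Λ]
    exact (IntermediateField.adjoin L (Set.range σ₁)).algebraMap_mem _
  have halg : ∀ x ∈ M₁, IsAlgebraic B x := fun x _ =>
    (IsFractionRing.isAlgebraic_iff B L Λ).mpr (Algebra.IsAlgebraic.isAlgebraic x)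
  have hzp : (σ z) ^ p ∈ M₁ := by
    rw [← map_pow, hzg, ← hσ₁a, hM₁]
    exact IntermediateField.subset_adjoin L _ ⟨g, rfl⟩
  have hzM₁ : σ z ∉ M₁ := by
    intro h
    rw [hM₁] at h
    obtain ⟨w, hw⟩ := exists_tensor_of_mem_adjoin (L := L) σ₁ (σ z) h
    haveI : Algebra.IsAlgebraic K K₁ := Algebra.IsAlgebraic.of_finite K K₁
    haveI : Algebra.IsAlgebraic K K₂ := Algebra.IsAlgebraic.of_finite K K₂
    rw [hσ₁] at hw
    exact not_mem_image K L K₁ K₂ p σ z g hzg hz w hw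
  have hli := psum_eq_zero_imp p M₁ (σ z) hzp hzM₁
  obtain ⟨T, hT, hTgen⟩ := exists_finite_generators B K L K₂ hN σ
  exact bound_core hinj p ϖ hϖ M₁ hBM halg (σ z) hzp hli T
    (fun t ht => (hmem t).mp (hT t ht))
    (fun a ha hint => hTgen _ ((hmem _).mpr ⟨a, ha, rfl⟩) hint)

end bound

end Groth.Agent.Lib.InsepSolH8
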